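import Cfsg.Agent.Lib.Helper28.S1692.Seeds18

set_option autoImplicit false
set_option maxRecDepth 100000
set_option linter.all false

namespace Cfsg.Agent.Helper28.S1692

open Cfsg.Agent.Helper28
open Cfsg.Spor.ON (Gen)

noncomputable section

namespace K19
abbrev LD1_c0 := D1.c0
abbrev LD1_c1 := D1.c1
abbrev LD1_c2 := D1.c2
abbrev LD1_c3 := D1.c3
abbrev LD1_c4 := D1.c4
abbrev LD1_c5 := D1.c5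
abbrev LD1_c6 := D1.c6
abbrev LD1_c7 := D1.c7
abbrev LD1_c8 := D1.c8
abbrev LD1_c9 := D1.c9
abbrev LD1_c10 := D1.c10
abbrev LD1_c11 := D1.c11
abbrev LD1_c12 := D1.c12
abbrev LD1_c13 := D1.c13
abbrev LD1_c14 := D1.c14
abbrev LD1_c15 := D1.c15
abbrev LD1_c16 := D1.c16
abbrev LD1_c17 := D1.c17
abbrev LD1_c18 := D1.c18
abbrev LD1_c19 := D1.c19
abbrev LD1_c20 := D1.c20
abbrev LD1_c21 := D1.c21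
abbrev LD1_c22 := D1.c22
abbrev LD1_c23 := D1.c23
abbrev LD1_c24 := D1.c24
abbrev LD1_c25 := D1.c25
abbrev LD1_c26 := D1.c26
abbrev LD1_c27 := D1.c27
abbrev LD1_c28 := D1.c28
abbrev LD1_c29 := D1.c29
abbrev LD1_c30 := D1.c30
abbrev LD1_c31 := D1.c31
abbrev LD1_c32 := D1.c32
abbrev LD2_c0 := D2.c0
abbrev LD2_c1 := D2.c1
abbrev LD2_c2 := D2.c2
abbrev LD2_c3 := D2.c3
abbrev LD2_c4 := D2.c4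
abbrev LD2_c5 := D2.c5
abbrev LD2_c6 := D2.c6
abbrev LD2_c7 := D2.c7
abbrev LD2_c8 := D2.c8
abbrev LD2_c9 := D2.c9
abbrev LD2_c10 := D2.c10
abbrev LD2_c11 := D2.c11
abbrev LD2_c12 := D2.c12
abbrev LD2_c13 := D2.c13
abbrev LD2_c14 := D2.c14
abbrev LD2_c15 := D2.c15
abbrev LD2_c16 := D2.c16
abbrev LD2_c17 := D2.c17
abbrev LD2_c18 := D2.c18
abbrev LD2_c19 := D2.c19
abbrev LD2_c20 := D2.c20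
abbrev LD2_c21 := D2.c21
abbrev LD2_c22 := D2.c22
abbrev LD2_c23 := D2.c23
abbrev LD2_c24 := D2.c24
abbrev LD2_c25 := D2.c25
abbrev LD2_c26 := D2.c26
abbrev LD2_c27 := D2.c27
abbrev LD2_c28 := D2.c28
abbrev LD2_c29 := D2.c29
abbrev LD2_c30 := D2.c30
abbrev LD2_c31 := D2.c31
abbrev LD2_c32 := D2.c32
abbrev LD2_c33 := D2.c33
abbrev LD2_c34 := D2.c34
abbrev LD2_c35 := D2.c35
abbrev LD2_c36 := D2.c36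
abbrev LD2_c37 := D2.c37
abbrev LD2_c38 := D2.c38
abbrev LD2_c39 := D2.c39
abbrev LD2_c40 := D2.c40
abbrev LD2_c41 := D2.c41
abbrev LD2_c42 := D2.c42
abbrev LD2_c43 := D2.c43
abbrev LD2_c44 := D2.c44
abbrev LD2_c45 := D2.c45
abbrev LD2_c46 := D2.c46
abbrev LD2_c47 := D2.c47
abbrev LD2_c48 := D2.c48
abbrev LD2_c49 := D2.c49
abbrev LD2_c50 := D2.c50
abbrev LD2_c51 := D2.c51
abbrev LD2_c52 := D2.c52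
abbrev LD2_c53 := D2.c53
abbrev LD2_c54 := D2.c54
abbrev LD2_c55 := D2.c55
abbrev LD2_c56 := D2.c56
abbrev LD2_c57 := D2.c57
abbrev LD2_c58 := D2.c58
abbrev LD2_c59 := D2.c59
abbrev LD3_c0 := D3.c0
abbrev LD3_c1 := D3.c1
abbrev LD3_c2 := D3.c2
abbrev LD3_c3 := D3.c3
abbrev LD3_c4 := D3.c4
abbrev LD3_c5 := D3.c5
abbrev LD3_c6 := D3.c6
abbrev LD3_c7 := D3.c7
abbrev LD3_c8 := D3.c8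
abbrev LD3_c9 := D3.c9
abbrev LD3_c10 := D3.c10
abbrev LD3_c11 := D3.c11
abbrev LD3_c12 := D3.c12
abbrev LD3_c13 := D3.c13
abbrev LD3_c14 := D3.c14
abbrev LD3_c15 := D3.c15
abbrev LD3_c16 := D3.c16
abbrev LD3_c17 := D3.c17
abbrev LD3_c18 := D3.c18
abbrev LD3_c19 := D3.c19
abbrev LD3_c20 := D3.c20
abbrev LD3_c21 := D3.c21
abbrev LD3_c22 := D3.c22
abbrev LD3_c23 := D3.c23
abbrev LD3_c24 := D3.c24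
abbrev LD3_c25 := D3.c25
abbrev LD3_c26 := D3.c26
abbrev LD3_c27 := D3.c27
abbrev LD3_c28 := D3.c28
abbrev LD3_c29 := D3.c29
abbrev LD3_c30 := D3.c30
abbrev LD3_c31 := D3.c31
abbrev LD3_c32 := D3.c32
abbrev LD3_c33 := D3.c33
abbrev LD3_c34 := D3.c34
abbrev LD3_c35 := D3.c35
abbrev LD3_c36 := D3.c36
abbrev LD3_c37 := D3.c37
abbrev LD3_c38 := D3.c38
abbrev LD3_c39 := D3.c39
abbrev LD3_c40 := D3.c40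
abbrev LD3_c41 := D3.c41
abbrev LD3_c42 := D3.c42
abbrev LD3_c43 := D3.c43
abbrev LD3_c44 := D3.c44
abbrev LD3_c45 := D3.c45
abbrev LD3_c46 := D3.c46
abbrev LD3_c47 := D3.c47
abbrev LD3_c48 := D3.c48
abbrev LD3_c49 := D3.c49
abbrev LD3_c50 := D3.c50
abbrev LD3_c51 := D3.c51
abbrev LD3_c52 := D3.c52
abbrev LD3_c53 := D3.c53
abbrev LD3_c54 := D3.c54
abbrev LD3_c55 := D3.c55
abbrev LD3_c56 := D3.c56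
abbrev LD3_c57 := D3.c57
abbrev LD3_c58 := D3.c58
abbrev LD3_c59 := D3.c59
abbrev LD3_c60 := D3.c60
abbrev LD3_c61 := D3.c61
abbrev LG_g := Gen.g
abbrev Lsl_gt : Gen × Bool := sl_gt
alias Lfl_gt := fl_gt
alias Lpr_gt := pr_gt
abbrev Lsl_gf : Gen × Bool := sl_gf
alias Lfl_gf := fl_gf
alias Lpr_gf := pr_gf
alias Lre_g := re_g
alias Leoe_g := eoe_g
abbrev LG_a := Gen.a
abbrev Lsl_at : Gen × Bool := sl_at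
alias Lfl_at := fl_at
alias Lpr_at := pr_at
abbrev Lsl_af : Gen × Bool := sl_af
alias Lfl_af := fl_af
alias Lpr_af := pr_af
alias Lre_a := re_a
alias Leoe_a := eoe_a
abbrev LG_b := Gen.b
abbrev Lsl_bt : Gen × Bool := sl_bt
alias Lfl_bt := fl_bt
alias Lpr_bt := pr_bt
abbrev Lsl_bf : Gen × Bool := sl_bf
alias Lfl_bf := fl_bf
alias Lpr_bf := pr_bf
alias Lre_b := re_b
alias Leoe_b := eoe_b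
abbrev LG_c := Gen.c
abbrev Lsl_ct : Gen × Bool := sl_ct
alias Lfl_ct := fl_ct
alias Lpr_ct := pr_ct
abbrev Lsl_cf : Gen × Bool := sl_cf
alias Lfl_cf := fl_cf
alias Lpr_cf := pr_cf
alias Lre_c := re_c
alias Leoe_c := eoe_c
abbrev LG_d := Gen.d
abbrev Lsl_dt : Gen × Bool := sl_dt
alias Lfl_dt := fl_dt
alias Lpr_dt := pr_dt
abbrev Lsl_df : Gen × Bool := sl_df
alias Lfl_df := fl_df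
alias Lpr_df := pr_df
alias Lre_d := re_d
alias Leoe_d := eoe_d
abbrev LG_e := Gen.e
abbrev Lsl_et : Gen × Bool := sl_et
alias Lfl_et := fl_et
alias Lpr_et := pr_et
abbrev Lsl_ef : Gen × Bool := sl_ef
alias Lfl_ef := fl_ef
alias Lpr_ef := pr_ef
alias Lre_e := re_e
alias Leoe_e := eoe_e
abbrev LG_f := Gen.f
abbrev Lsl_ft : Gen × Bool := sl_ft
alias Lfl_ft := fl_ft
alias Lpr_ft := pr_ft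
abbrev Lsl_ff : Gen × Bool := sl_ff
alias Lfl_ff := fl_ff
alias Lpr_ff := pr_ff
alias Lre_f := re_f
alias Leoe_f := eoe_f
abbrev LK := Pt.mk
abbrev LQ : Type := Qt rels S
abbrev LP (p : Pt) : LQ := P p
abbrev Led (l : Gen × Bool) (c : LQ) : LQ := ed l c
abbrev LEOK (x : Gen) (p : Pt) : Prop := EntryOK rels S fwd inv o plet idx x p
alias Lpe := pe
alias Lpn := pn
alias Lgr := gr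
alias Lpq := pq
alias Lpqs := pqs
alias Llr := lr
alias Leop := eop
alias Lefun := efun
alias Lecon := econ
theorem Lrfl {α : Sort _} {a : α} : a = a := rfl
alias Lrot0 := rot0
alias Lrot1 := rot1
alias Lrot2 := rot2
alias Lrot3 := rot3
alias Lrot4 := rot4
alias Lrot5 := rot5
alias Lrot6 := rot6
alias Lrot7 := rot7
alias Lrot8 := rot8
alias Lrot9 := rot9
alias Lrot10 := rot10
alias Lrot11 := rot11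
alias Lrot12 := rot12
alias Lrot13 := rot13
alias Lrot14 := rot14
alias Lrot15 := rot15
alias Lrot17 := rot17
alias Lrot18 := rot18
alias Lrot19 := rot19
alias Lrot20 := rot20
alias Lrot21 := rot21
alias Lrot22 := rot22
alias Lrot23 := rot23
alias Lrot24 := rot24
alias Lrot25 := rot25
alias Lrot26 := rot26
alias Lrot27 := rot27
alias Lrot28 := rot28
alias Lrot29 := rot29
alias Lrot30 := rot30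
alias Lrot31 := rot31
alias Lrot32 := rot32
alias Lrot33 := rot33
alias Lrot34 := rot34
alias Lrot35 := rot35
alias Lrot36 := rot36
alias Lrot37 := rot37
alias Lrot38 := rot38
alias Lrot39 := rot39
alias Lrot40 := rot40
alias Lrot41 := rot41
alias Lrot42 := rot42
alias Lrot43 := rot43
alias Lrot44 := rot44
alias Lrot45 := rot45
alias Lrot46 := rot46
alias Lrot47 := rot47
alias Lrot48 := rot48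
alias Lrot49 := rot49
alias Lrot50 := rot50
alias Lrot51 := rot51
alias Lrot52 := rot52
alias Lrot54 := rot54
alias Lrot55 := rot55
alias Lrot56 := rot56
alias Lrot57 := rot57
alias Lrot58 := rot58
alias Lrot59 := rot59
alias Lrot60 := rot60
alias Lrot61 := rot61
alias Lrot62 := rot62
alias Lrot64 := rot64
alias Lrot65 := rot65
alias Lrot66 := rot66
alias Lrot67 := rot67
alias Lrot68 := rot68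
alias Lrot69 := rot69
alias Lrot70 := rot70
alias Lrot71 := rot71
alias Lrot72 := rot72
alias Lrot73 := rot73
alias Lrot74 := rot74
alias Lrot75 := rot75
alias Lrot76 := rot76
alias Lrot77 := rot77
alias Lrot78 := rot78
alias Lrot79 := rot79
alias Lrot80 := rot80
alias Lrot81 := rot81
alias Lrot82 := rot82
alias Lrot83 := rot83
alias Lrot84 := rot84
alias Lrot86 := rot86
alias Lrot87 := rot87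
alias Lrot88 := rot88
alias Lrot90 := rot90
alias Lrot91 := rot91
alias Lrot92 := rot92
alias Lrot93 := rot93
alias Lrot94 := rot94
alias Lrot95 := rot95
alias Lrot96 := rot96
alias Lrot97 := rot97
alias Lrot98 := rot98
alias Lrot99 := rot99
alias Lrot100 := rot100
alias Lrot101 := rot101
alias Lrot102 := rot102
alias Lrot103 := rot103
alias Lrot104 := rot104
alias Lrot105 := rot105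
alias Lrot106 := rot106
alias Lrot107 := rot107
alias Lrot108 := rot108
alias Lrot109 := rot109
alias Lrot110 := rot110
alias Lrot111 := rot111
alias Lrot112 := rot112
alias Lrot113 := rot113
alias Lrot114 := rot114
alias Lrot116 := rot116
alias Lrot117 := rot117
alias Lrot118 := rot118
alias Lrot119 := rot119
alias Lrot120 := rot120
alias Lrot121 := rot121
alias Lrot122 := rot122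
alias Lrot123 := rot123
alias Lrot124 := rot124
alias Lrot125 := rot125
alias Lrot126 := rot126
alias Lrot127 := rot127
alias Lrot128 := rot128
alias Lrot129 := rot129
alias Lrot130 := rot130
alias Lrot131 := rot131
alias Lrot132 := rot132
alias Lrot133 := rot133
alias Lrot134 := rot134
alias Lrot135 := rot135
alias Lrot136 := rot136
alias Lrot137 := rot137
alias Lrot138 := rot138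
alias Lrot139 := rot139
alias Lrot140 := rot140
alias Lrot141 := rot141
alias Lrot142 := rot142
alias Lrot143 := rot143
alias Lrot144 := rot144
alias Lrot145 := rot145
alias Lrot146 := rot146
alias Lrot147 := rot147
alias Lrot148 := rot148
alias Lrot149 := rot149
alias Lrot150 := rot150
alias Lrot152 := rot152
alias Lrot153 := rot153
alias Lrot154 := rot154
alias Lrot155 := rot155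
alias Lrot156 := rot156
alias Lrot157 := rot157
alias Lrot158 := rot158
alias Lrot159 := rot159
alias Lrot160 := rot160
alias Lrot161 := rot161
alias Lrot162 := rot162
alias Lrot163 := rot163
alias Lrot164 := rot164
alias Lrot165 := rot165
alias Lrot166 := rot166
alias Lrot167 := rot167
alias Lrot168 := rot168
alias Lrot169 := rot169
alias Lrot170 := rot170
alias Lrot171 := rot171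
alias Lrot172 := rot172
alias Lrot173 := rot173
alias Lrot176 := rot176
alias Lrot177 := rot177
alias Lrot179 := rot179
alias Lrot180 := rot180
alias Lrot181 := rot181
alias Lrot185 := rot185
alias Lrot187 := rot187
alias Lrot188 := rot188
alias Lrot189 := rot189

section
variable (IH : IHT)
include IH

theorem f304508 : Led Lsl_dt (LP (LK LD1_c4 LD2_c11 LD3_c24)) = (LP (LK LD1_c8 LD2_c22 LD3_c32)) :=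
  Lre_d IH (LK LD1_c4 LD2_c11 LD3_c24) (LK LD1_c8 LD2_c22 LD3_c32) Lrfl Lrfl
theorem f7986 : Led Lsl_dt (LP (LK LD1_c2 LD2_c6 LD3_c11)) = (LP (LK LD1_c4 LD2_c17 LD3_c42)) :=
  Lre_d IH (LK LD1_c2 LD2_c6 LD3_c11) (LK LD1_c4 LD2_c17 LD3_c42) Lrfl Lrfl
theorem f2876 : Led Lsl_dt (LP (LK LD1_c4 LD2_c52 LD3_c10)) = (LP (LK LD1_c2 LD2_c23 LD3_c50)) :=
  Lre_d IH (LK LD1_c4 LD2_c52 LD3_c10) (LK LD1_c2 LD2_c23 LD3_c50) Lrfl Lrfl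
theorem f304643 : Led Lsl_ct (LP (LK LD1_c8 LD2_c22 LD3_c32)) = (LP (LK LD1_c4 LD2_c52 LD3_c10)) :=
  Lgr Lrot176 (Lpe (f304508 IH) (Lpe (K18.f304490 IH) (Lpr_df (K18.f300349 IH) (Lpe (K18.f304543 IH) (Lpe (K18.f166640 IH) (Lpe (K18.f166644 IH) (Lpr_df (K18.f304551 IH) (Lpe (K18.f7987 IH) (Lpe (f7986 IH) (Lpe (K16.f7985 IH) (Lpr_df (K14.f7915 IH) (Lpr_cf (K14.f200387 IH) (Lpe (K16.f222102 IH) (Lpe (K14.f2875 IH) (Lpe (f2876 IH) (Lpn (LP (LK LD1_c4 LD2_c52 LD3_c10))))))))))))))))))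
theorem f222115 : Led Lsl_at (LP (LK LD1_c2 LD2_c23 LD3_c50)) = (LP (LK LD1_c4 LD2_c52 LD3_c6)) :=
  Lre_a IH (LK LD1_c2 LD2_c23 LD3_c50) (LK LD1_c4 LD2_c52 LD3_c6) Lrfl Lrfl
theorem f290111 : Led Lsl_at (LP (LK LD1_c8 LD2_c22 LD3_c45)) = (LP (LK LD1_c4 LD2_c52 LD3_c10)) :=
  Lgr Lrot51 (Lpr_df (K17.f290109 IH) (Lpe (f222115 IH) (Lpe (f2876 IH) (Lpn (LP (LK LD1_c4 LD2_c52 LD3_c10))))))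
theorem f304650 : Led Lsl_ff (LP (LK LD1_c8 LD2_c22 LD3_c45)) = (LP (LK LD1_c8 LD2_c34 LD3_c26)) :=
  Lgr Lrot103 (Lpr_at (f290111 IH) (Lpe (f304643 IH) (Lpe (f304508 IH) (Lpe (K18.f304490 IH) (Lpr_df (K18.f300349 IH) (Lpe (K18.f304543 IH) (Lpe (K18.f166640 IH) (Lpe (K18.f166644 IH) (Lpr_df (K18.f304551 IH) (Lpn (LP (LK LD1_c8 LD2_c34 LD3_c26))))))))))))
theorem f290099 : Led Lsl_at (LP (LK LD1_c4 LD2_c17 LD3_c42)) = (LP (LK LD1_c8 LD2_c34 LD3_c13)) :=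
  Lre_a IH (LK LD1_c4 LD2_c17 LD3_c42) (LK LD1_c8 LD2_c34 LD3_c13) Lrfl Lrfl
theorem f7959 : Led Lsl_ct (LP (LK LD1_c8 LD2_c34 LD3_c26)) = (LP (LK LD1_c4 LD2_c17 LD3_c42)) :=
  Lre_c IH (LK LD1_c8 LD2_c34 LD3_c26) (LK LD1_c4 LD2_c17 LD3_c42) Lrfl Lrfl
theorem f290222 : Led Lsl_at (LP (LK LD1_c4 LD2_c53 LD3_c32)) = (LP (LK LD1_c8 LD2_c34 LD3_c26)) :=
  Lgr Lrot107 (Lpr_cf (K17.f290216 IH) (Lpe (f290099 IH) (Lpe (f7959 IH) (Lpn (LP (LK LD1_c8 LD2_c34 LD3_c26))))))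
theorem f304652 : Led Lsl_ft (LP (LK LD1_c4 LD2_c52 LD3_c10)) = (LP (LK LD1_c4 LD2_c53 LD3_c32)) :=
  Lgr Lrot101 (Lpe (f290111 IH) (Lpr_ff (f304650 IH) (Lpe (f290222 IH) (Lpn (LP (LK LD1_c4 LD2_c53 LD3_c32))))))
theorem f304685 : Led Lsl_ff (LP (LK LD1_c4 LD2_c52 LD3_c10)) = (LP (LK LD1_c4 LD2_c53 LD3_c32)) :=
  Lgr Lrot3 (Lpr_ft (f304652 IH) (Lpn (LP (LK LD1_c4 LD2_c53 LD3_c32))))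
theorem f304689 : Led Lsl_ft (LP (LK LD1_c2 LD2_c23 LD3_c50)) = (LP (LK LD1_c2 LD2_c24 LD3_c34)) :=
  Lgr Lrot54 (Lpe (f2876 IH) (Lpr_ff (f304685 IH) (Lpe (K17.f166987 IH) (Lpn (LP (LK LD1_c2 LD2_c24 LD3_c34))))))
theorem f166643 : Led Lsl_at (LP (LK LD1_c2 LD2_c24 LD3_c34)) = (LP (LK LD1_c4 LD2_c53 LD3_c29)) :=
  Lre_a IH (LK LD1_c2 LD2_c24 LD3_c34) (LK LD1_c4 LD2_c53 LD3_c29) Lrfl Lrfl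
theorem f304773 : Led Lsl_gt (LP (LK LD1_c4 LD2_c52 LD3_c8)) = (LP (LK LD1_c4 LD2_c53 LD3_c29)) :=
  Lgr Lrot46 (Lpe (K16.f222092 IH) (Lpr_ft (f304689 IH) (Lpr_at (f166643 IH) (Lpn (LP (LK LD1_c4 LD2_c53 LD3_c29))))))
theorem f304539 : Led Lsl_gt (LP (LK LD1_c2 LD2_c24 LD3_c33)) = (LP (LK LD1_c2 LD2_c0 LD3_c24)) :=
  Lgr Lrot82 (Lpr_bf (K18.f304527 IH) (Lpr_ct (K17.f276604 IH) (Lpe (K16.f276602 IH) (Lpe (K16.f219739 IH) (Lpr_bt (K12.f39159 IH) (Lpe (K12.f227969 IH) (Lpe (K16.f43210 IH) (Lpr_ct (K13.f43211 IH) (Lpr_gf (K16.f270757 IH) (Lpe (K12.f44501 IH) (Lpn (LP (LK LD1_c2 LD2_c0 LD3_c24)))))))))))))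
theorem f304777 : Led Lsl_gt (LP (LK LD1_c8 LD2_c36 LD3_c20)) = (LP (LK LD1_c8 LD2_c25 LD3_c11)) :=
  Lgr Lrot9 (Lpr_df (K16.f270564 IH) (Lpr_gt (f304773 IH) (Lpr_ct (K18.f166644 IH) (Lpr_gt (f304539 IH) (Lpr_ct (K12.f44501 IH) (Lpe (K17.f44495 IH) (Lpr_cf (K17.f290261 IH) (Lpe (K17.f251925 IH) (Lpr_cf (K14.f251909 IH) (Lpn (LP (LK LD1_c8 LD2_c25 LD3_c11))))))))))))
theorem f251911 : Led Lsl_at (LP (LK LD1_c4 LD2_c13 LD3_c9)) = (LP (LK LD1_c8 LD2_c25 LD3_c11)) :=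
  Lre_a IH (LK LD1_c4 LD2_c13 LD3_c9) (LK LD1_c8 LD2_c25 LD3_c11) Lrfl Lrfl
theorem f304780 : Led Lsl_ft (LP (LK LD1_c4 LD2_c18 LD3_c50)) = (LP (LK LD1_c4 LD2_c13 LD3_c9)) :=
  Lgr Lrot2 (Lpr_gt (K16.f179752 IH) (Lpr_gt (f304777 IH) (Lpe (f251911 IH) (Lpn (LP (LK LD1_c4 LD2_c13 LD3_c9))))))
theorem f270569 : Led Lsl_bt (LP (LK LD1_c8 LD2_c36 LD3_c19)) = (LP (LK LD1_c4 LD2_c18 LD3_c50)) :=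
  Lre_b IH (LK LD1_c8 LD2_c36 LD3_c19) (LK LD1_c4 LD2_c18 LD3_c50) Lrfl Lrfl
theorem f251981 : Led Lsl_bt (LP (LK LD1_c4 LD2_c13 LD3_c9)) = (LP (LK LD1_c8 LD2_c25 LD3_c33)) :=
  Lre_b IH (LK LD1_c4 LD2_c13 LD3_c9) (LK LD1_c8 LD2_c25 LD3_c33) Lrfl Lrfl
theorem f304782 : Led Lsl_ff (LP (LK LD1_c8 LD2_c36 LD3_c19)) = (LP (LK LD1_c8 LD2_c25 LD3_c33)) :=
  Lgr Lrot25 (Lpr_bt (f270569 IH) (Lpr_ft (f304780 IH) (Lpr_bt (f251981 IH) (Lpn (LP (LK LD1_c8 LD2_c25 LD3_c33))))))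
theorem f304789 : Led Lsl_ft (LP (LK LD1_c8 LD2_c36 LD3_c19)) = (LP (LK LD1_c8 LD2_c25 LD3_c33)) :=
  Lgr Lrot48 (Lpr_ff (f304782 IH) (Lpn (LP (LK LD1_c8 LD2_c25 LD3_c33))))
theorem f304793 : Led Lsl_dt (LP (LK LD1_c4 LD2_c18 LD3_c49)) = (LP (LK LD1_c8 LD2_c36 LD3_c19)) :=
  Lre_d IH (LK LD1_c4 LD2_c18 LD3_c49) (LK LD1_c8 LD2_c36 LD3_c19) Lrfl Lrfl
theorem f178347 : Led Lsl_dt (LP (LK LD1_c8 LD2_c25 LD3_c33)) = (LP (LK LD1_c4 LD2_c13 LD3_c8)) :=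
  Lre_d IH (LK LD1_c8 LD2_c25 LD3_c33) (LK LD1_c4 LD2_c13 LD3_c8) Lrfl Lrfl
theorem f304794 : Led Lsl_ff (LP (LK LD1_c4 LD2_c18 LD3_c49)) = (LP (LK LD1_c4 LD2_c13 LD3_c8)) :=
  Lgr Lrot19 (Lpr_dt (f304793 IH) (Lpr_ft (f304789 IH) (Lpr_dt (f178347 IH) (Lpn (LP (LK LD1_c4 LD2_c13 LD3_c8))))))
theorem f237800 : Led Lsl_ct (LP (LK LD1_c4 LD2_c18 LD3_c49)) = (LP (LK LD1_c2 LD2_c6 LD3_c48)) :=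
  Lre_c IH (LK LD1_c4 LD2_c18 LD3_c49) (LK LD1_c2 LD2_c6 LD3_c48) Lrfl Lrfl
theorem f178348 : Led Lsl_ct (LP (LK LD1_c2 LD2_c3 LD3_c55)) = (LP (LK LD1_c4 LD2_c13 LD3_c8)) :=
  Lre_c IH (LK LD1_c2 LD2_c3 LD3_c55) (LK LD1_c4 LD2_c13 LD3_c8) Lrfl Lrfl
theorem f304797 : Led Lsl_ft (LP (LK LD1_c2 LD2_c6 LD3_c48)) = (LP (LK LD1_c2 LD2_c3 LD3_c55)) :=
  Lgr Lrot4 (Lpe (f237800 IH) (Lpr_ff (f304794 IH) (Lpe (f178348 IH) (Lpn (LP (LK LD1_c2 LD2_c3 LD3_c55))))))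
theorem f304801 : Led Lsl_ff (LP (LK LD1_c2 LD2_c6 LD3_c48)) = (LP (LK LD1_c2 LD2_c3 LD3_c55)) :=
  Lgr Lrot3 (Lpr_ft (f304797 IH) (Lpn (LP (LK LD1_c2 LD2_c3 LD3_c55))))
theorem f171196 : Led Lsl_bt (LP (LK LD1_c1 LD2_c0 LD3_c21)) = (LP (LK LD1_c2 LD2_c6 LD3_c48)) :=
  Lre_b IH (LK LD1_c1 LD2_c0 LD3_c21) (LK LD1_c2 LD2_c6 LD3_c48) Lrfl Lrfl
theorem f52231 : Led Lsl_bt (LP (LK LD1_c2 LD2_c6 LD3_c28)) = (LP (LK LD1_c1 LD2_c0 LD3_c13)) :=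
  Lre_b IH (LK LD1_c2 LD2_c6 LD3_c28) (LK LD1_c1 LD2_c0 LD3_c13) Lrfl Lrfl
theorem f237787 : Led Lsl_dt (LP (LK LD1_c2 LD2_c6 LD3_c48)) = (LP (LK LD1_c2 LD2_c6 LD3_c28)) :=
  Lgr Lrot79 (Lpe (f171196 IH) (Lpr_df (K13.f237782 IH) (Lpe (f52231 IH) (Lpn (LP (LK LD1_c2 LD2_c6 LD3_c28))))))
theorem f166997 : Led Lsl_bt (LP (LK LD1_c0 LD2_c58 LD3_c25)) = (LP (LK LD1_c2 LD2_c3 LD3_c3)) :=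
  Lre_b IH (LK LD1_c0 LD2_c58 LD3_c25) (LK LD1_c2 LD2_c3 LD3_c3) Lrfl Lrfl
theorem f178339 : Led Lsl_bt (LP (LK LD1_c2 LD2_c3 LD3_c55)) = (LP (LK LD1_c0 LD2_c58 LD3_c56)) :=
  Lre_b IH (LK LD1_c2 LD2_c3 LD3_c55) (LK LD1_c0 LD2_c58 LD3_c56) Lrfl Lrfl
theorem f178340 : Led Lsl_dt (LP (LK LD1_c2 LD2_c3 LD3_c3)) = (LP (LK LD1_c2 LD2_c3 LD3_c55)) :=
  Lgr Lrot79 (Lpe (f166997 IH) (Lpr_df (K9.f178325 IH) (Lpe (f178339 IH) (Lpn (LP (LK LD1_c2 LD2_c3 LD3_c55))))))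
theorem f304809 : Led Lsl_ft (LP (LK LD1_c2 LD2_c6 LD3_c28)) = (LP (LK LD1_c2 LD2_c3 LD3_c3)) :=
  Lgr Lrot54 (Lpe (f237787 IH) (Lpr_ff (f304801 IH) (Lpe (f178340 IH) (Lpn (LP (LK LD1_c2 LD2_c3 LD3_c3))))))
theorem f304818 : Led Lsl_ff (LP (LK LD1_c2 LD2_c6 LD3_c28)) = (LP (LK LD1_c2 LD2_c3 LD3_c3)) :=
  Lgr Lrot3 (Lpr_ft (f304809 IH) (Lpn (LP (LK LD1_c2 LD2_c3 LD3_c3))))
theorem f304828 : Led Lsl_ft (LP (LK LD1_c1 LD2_c0 LD3_c13)) = (LP (LK LD1_c0 LD2_c58 LD3_c25)) :=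
  Lgr Lrot75 (Lpe (f52231 IH) (Lpr_ff (f304818 IH) (Lpe (f166997 IH) (Lpn (LP (LK LD1_c0 LD2_c58 LD3_c25))))))
theorem f304884 : Led Lsl_af (LP (LK LD1_c1 LD2_c0 LD3_c12)) = (LP (LK LD1_c0 LD2_c58 LD3_c25)) :=
  Lgr Lrot31 (Lpe (K9.f1128 IH) (Lpe (K13.f1126 IH) (Lpr_ft (f304828 IH) (Lpn (LP (LK LD1_c0 LD2_c58 LD3_c25))))))
theorem f304893 : Led Lsl_at (LP (LK LD1_c1 LD2_c0 LD3_c40)) = (LP (LK LD1_c0 LD2_c58 LD3_c56)) :=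
  Lgr Lrot51 (Lpr_df (K9.f179536 IH) (Lpr_af (f304884 IH) (Lpr_df (K9.f178325 IH) (Lpn (LP (LK LD1_c0 LD2_c58 LD3_c56))))))
theorem f304903 : Led Lsl_ff (LP (LK LD1_c1 LD2_c0 LD3_c40)) = (LP (LK LD1_c0 LD2_c58 LD3_c44)) :=
  Lgr Lrot52 (Lpr_at (f304893 IH) (Lpr_gf (K9.f178498 IH) (Lpe (K15.f178840 IH) (Lpn (LP (LK LD1_c0 LD2_c58 LD3_c44))))))
theorem f304911 : Led Lsl_ft (LP (LK LD1_c1 LD2_c0 LD3_c40)) = (LP (LK LD1_c0 LD2_c58 LD3_c44)) :=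
  Lgr Lrot48 (Lpr_ff (f304903 IH) (Lpn (LP (LK LD1_c0 LD2_c58 LD3_c44))))
theorem f304899 : Led Lsl_af (LP (LK LD1_c1 LD2_c0 LD3_c40)) = (LP (LK LD1_c0 LD2_c58 LD3_c56)) :=
  Lgr Lrot0 (Lpr_at (f304893 IH) (Lpn (LP (LK LD1_c0 LD2_c58 LD3_c56))))
theorem f179606 : Led Lsl_bt (LP (LK LD1_c2 LD2_c6 LD3_c48)) = (LP (LK LD1_c1 LD2_c0 LD3_c21)) :=
  Lre_b IH (LK LD1_c2 LD2_c6 LD3_c48) (LK LD1_c1 LD2_c0 LD3_c21) Lrfl Lrfl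
theorem f178317 : Led Lsl_bt (LP (LK LD1_c0 LD2_c58 LD3_c56)) = (LP (LK LD1_c2 LD2_c3 LD3_c55)) :=
  Lre_b IH (LK LD1_c0 LD2_c58 LD3_c56) (LK LD1_c2 LD2_c3 LD3_c55) Lrfl Lrfl
theorem f304807 : Led Lsl_ft (LP (LK LD1_c1 LD2_c0 LD3_c21)) = (LP (LK LD1_c0 LD2_c58 LD3_c56)) :=
  Lgr Lrot75 (Lpe (f179606 IH) (Lpr_ff (f304801 IH) (Lpe (f178317 IH) (Lpn (LP (LK LD1_c0 LD2_c58 LD3_c56))))))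
theorem f304913 : Led Lsl_af (LP (LK LD1_c1 LD2_c0 LD3_c21)) = (LP (LK LD1_c0 LD2_c58 LD3_c44)) :=
  Lgr Lrot45 (Lpr_ft (f304807 IH) (Lpe (f304899 IH) (Lpr_ft (f304911 IH) (Lpn (LP (LK LD1_c0 LD2_c58 LD3_c44))))))
theorem f237791 : Led Lsl_et (LP (LK LD1_c1 LD2_c0 LD3_c21)) = (LP (LK LD1_c2 LD2_c6 LD3_c49)) :=
  Lre_e IH (LK LD1_c1 LD2_c0 LD3_c21) (LK LD1_c2 LD2_c6 LD3_c49) Lrfl Lrfl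
theorem f167075 : Led Lsl_et (LP (LK LD1_c2 LD2_c3 LD3_c37)) = (LP (LK LD1_c0 LD2_c58 LD3_c44)) :=
  Lre_e IH (LK LD1_c2 LD2_c3 LD3_c37) (LK LD1_c0 LD2_c58 LD3_c44) Lrfl Lrfl
theorem f304973 : Led Lsl_at (LP (LK LD1_c2 LD2_c6 LD3_c49)) = (LP (LK LD1_c2 LD2_c3 LD3_c37)) :=
  Lgr Lrot80 (Lpe (f237791 IH) (Lpr_af (f304913 IH) (Lpe (f167075 IH) (Lpn (LP (LK LD1_c2 LD2_c3 LD3_c37))))))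
theorem f171324 : Led Lsl_ct (LP (LK LD1_c1 LD2_c0 LD3_c22)) = (LP (LK LD1_c2 LD2_c6 LD3_c49)) :=
  Lre_c IH (LK LD1_c1 LD2_c0 LD3_c22) (LK LD1_c2 LD2_c6 LD3_c49) Lrfl Lrfl
theorem f166712 : Led Lsl_ct (LP (LK LD1_c2 LD2_c3 LD3_c37)) = (LP (LK LD1_c0 LD2_c58 LD3_c45)) :=
  Lre_c IH (LK LD1_c2 LD2_c3 LD3_c37) (LK LD1_c0 LD2_c58 LD3_c45) Lrfl Lrfl
theorem f304977 : Led Lsl_af (LP (LK LD1_c1 LD2_c0 LD3_c22)) = (LP (LK LD1_c0 LD2_c58 LD3_c45)) :=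
  Lgr Lrot68 (Lpr_ct (f171324 IH) (Lpr_at (f304973 IH) (Lpr_ct (f166712 IH) (Lpn (LP (LK LD1_c0 LD2_c58 LD3_c45))))))
theorem f166813 : Led Lsl_ft (LP (LK LD1_c2 LD2_c3 LD3_c40)) = (LP (LK LD1_c0 LD2_c58 LD3_c45)) :=
  Lre_f IH (LK LD1_c2 LD2_c3 LD3_c40) (LK LD1_c0 LD2_c58 LD3_c45) Lrfl Lrfl
theorem f304981 : Led Lsl_at (LP (LK LD1_c2 LD2_c6 LD3_c52)) = (LP (LK LD1_c2 LD2_c3 LD3_c40)) :=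
  Lgr Lrot66 (Lpe (K12.f171328 IH) (Lpr_af (f304977 IH) (Lpe (f166813 IH) (Lpn (LP (LK LD1_c2 LD2_c3 LD3_c40))))))
theorem f271152 : Led Lsl_ef (LP (LK LD1_c2 LD2_c6 LD3_c52)) = (LP (LK LD1_c2 LD2_c3 LD3_c58)) :=
  Lgr Lrot29 (Lpr_bt (K12.f171405 IH) (Lpr_et (K16.f271149 IH) (Lpr_bt (K17.f228860 IH) (Lpn (LP (LK LD1_c2 LD2_c3 LD3_c58))))))
theorem f304989 : Led Lsl_af (LP (LK LD1_c2 LD2_c3 LD3_c58)) = (LP (LK LD1_c2 LD2_c7 LD3_c21)) :=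
  Lgr Lrot50 (Lpe (f271152 IH) (Lpr_at (f304981 IH) (Lpe (K18.f301698 IH) (Lpn (LP (LK LD1_c2 LD2_c7 LD3_c21))))))
theorem f228854 : Led Lsl_dt (LP (LK LD1_c5 LD2_c36 LD3_c17)) = (LP (LK LD1_c4 LD2_c13 LD3_c12)) :=
  Lgr Lrot42 (Lpr_df (K17.f228833 IH) (Lpn (LP (LK LD1_c4 LD2_c13 LD3_c12))))
theorem f228859 : Led Lsl_bt (LP (LK LD1_c2 LD2_c44 LD3_c6)) = (LP (LK LD1_c5 LD2_c36 LD3_c17)) :=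
  Lre_b IH (LK LD1_c2 LD2_c44 LD3_c6) (LK LD1_c5 LD2_c36 LD3_c17) Lrfl Lrfl
theorem f228861 : Led Lsl_df (LP (LK LD1_c2 LD2_c44 LD3_c6)) = (LP (LK LD1_c2 LD2_c3 LD3_c58)) :=
  Lgr Lrot12 (Lpr_bt (f228859 IH) (Lpr_dt (f228854 IH) (Lpr_bt (K17.f228860 IH) (Lpn (LP (LK LD1_c2 LD2_c3 LD3_c58))))))
theorem f304995 : Led Lsl_at (LP (LK LD1_c2 LD2_c44 LD3_c6)) = (LP (LK LD1_c4 LD2_c19 LD3_c48)) :=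
  Lgr Lrot51 (Lpr_df (f228861 IH) (Lpr_af (f304989 IH) (Lpe (K18.f301708 IH) (Lpn (LP (LK LD1_c4 LD2_c19 LD3_c48))))))
theorem f228869 : Led Lsl_ct (LP (LK LD1_c5 LD2_c36 LD3_c25)) = (LP (LK LD1_c2 LD2_c44 LD3_c6)) :=
  Lre_c IH (LK LD1_c5 LD2_c36 LD3_c25) (LK LD1_c2 LD2_c44 LD3_c6) Lrfl Lrfl
theorem f305095 : Led Lsl_cf (LP (LK LD1_c5 LD2_c28 LD3_c55)) = (LP (LK LD1_c4 LD2_c19 LD3_c48)) :=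
  Lgr Lrot1 (Lpr_at (K17.f287933 IH) (Lpr_ct (f228869 IH) (Lpr_at (f304995 IH) (Lpn (LP (LK LD1_c4 LD2_c19 LD3_c48))))))
theorem f305106 : Led Lsl_ct (LP (LK LD1_c5 LD2_c28 LD3_c55)) = (LP (LK LD1_c4 LD2_c19 LD3_c48)) :=
  Lgr Lrot59 (Lpr_cf (f305095 IH) (Lpn (LP (LK LD1_c4 LD2_c19 LD3_c48))))
theorem f305097 : Led Lsl_ft (LP (LK LD1_c4 LD2_c19 LD3_c48)) = (LP (LK LD1_c2 LD2_c7 LD3_c20)) :=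
  Lre_f IH (LK LD1_c4 LD2_c19 LD3_c48) (LK LD1_c2 LD2_c7 LD3_c20) Lrfl Lrfl
theorem f305110 : Led Lsl_cf (LP (LK LD1_c2 LD2_c40 LD3_c43)) = (LP (LK LD1_c2 LD2_c7 LD3_c20)) :=
  Lgr Lrot108 (Lpr_ft (K14.f253753 IH) (Lpr_ct (f305106 IH) (Lpr_ft (f305097 IH) (Lpn (LP (LK LD1_c2 LD2_c7 LD3_c20))))))
theorem f287939 : Led Lsl_bt (LP (LK LD1_c2 LD2_c40 LD3_c43)) = (LP (LK LD1_c5 LD2_c28 LD3_c52)) :=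
  Lre_b IH (LK LD1_c2 LD2_c40 LD3_c43) (LK LD1_c5 LD2_c28 LD3_c52) Lrfl Lrfl
theorem f267695 : Led Lsl_ct (LP (LK LD1_c5 LD2_c28 LD3_c52)) = (LP (LK LD1_c10 LD2_c48 LD3_c49)) :=
  Lre_c IH (LK LD1_c5 LD2_c28 LD3_c52) (LK LD1_c10 LD2_c48 LD3_c49) Lrfl Lrfl
theorem f179980 : Led Lsl_bt (LP (LK LD1_c4 LD2_c19 LD3_c39)) = (LP (LK LD1_c2 LD2_c7 LD3_c20)) :=
  Lre_b IH (LK LD1_c4 LD2_c19 LD3_c39) (LK LD1_c2 LD2_c7 LD3_c20) Lrfl Lrfl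
theorem f179981 : Led Lsl_ct (LP (LK LD1_c8 LD2_c37 LD3_c34)) = (LP (LK LD1_c4 LD2_c19 LD3_c39)) :=
  Lre_c IH (LK LD1_c8 LD2_c37 LD3_c34) (LK LD1_c4 LD2_c19 LD3_c39) Lrfl Lrfl
theorem f305113 : Led Lsl_bt (LP (LK LD1_c10 LD2_c48 LD3_c49)) = (LP (LK LD1_c8 LD2_c37 LD3_c34)) :=
  Lgr Lrot128 (Lpe (f267695 IH) (Lpe (f287939 IH) (Lpr_cf (f305110 IH) (Lpe (f179980 IH) (Lpe (f179981 IH) (Lpn (LP (LK LD1_c8 LD2_c37 LD3_c34))))))))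
theorem f253827 : Led Lsl_et (LP (LK LD1_c5 LD2_c28 LD3_c50)) = (LP (LK LD1_c10 LD2_c48 LD3_c49)) :=
  Lre_e IH (LK LD1_c5 LD2_c28 LD3_c50) (LK LD1_c10 LD2_c48 LD3_c49) Lrfl Lrfl
theorem f305124 : Led Lsl_bf (LP (LK LD1_c5 LD2_c28 LD3_c50)) = (LP (LK LD1_c4 LD2_c19 LD3_c44)) :=
  Lgr Lrot96 (Lpr_et (f253827 IH) (Lpr_bt (f305113 IH) (Lpr_et (K14.f226829 IH) (Lpn (LP (LK LD1_c4 LD2_c19 LD3_c44))))))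
theorem f253813 : Led Lsl_dt (LP (LK LD1_c5 LD2_c28 LD3_c50)) = (LP (LK LD1_c10 LD2_c48 LD3_c48)) :=
  Lre_d IH (LK LD1_c5 LD2_c28 LD3_c50) (LK LD1_c10 LD2_c48 LD3_c48) Lrfl Lrfl
theorem f305134 : Led Lsl_bt (LP (LK LD1_c10 LD2_c48 LD3_c48)) = (LP (LK LD1_c8 LD2_c37 LD3_c36)) :=
  Lgr Lrot95 (Lpe (f253813 IH) (Lpr_bf (f305124 IH) (Lpe (K18.f226813 IH) (Lpn (LP (LK LD1_c8 LD2_c37 LD3_c36))))))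
theorem f253849 : Led Lsl_ct (LP (LK LD1_c19 LD2_c33 LD3_c0)) = (LP (LK LD1_c10 LD2_c48 LD3_c48)) :=
  Lre_c IH (LK LD1_c19 LD2_c33 LD3_c0) (LK LD1_c10 LD2_c48 LD3_c48) Lrfl Lrfl
theorem f303331 : Led Lsl_cf (LP (LK LD1_c8 LD2_c33 LD3_c44)) = (LP (LK LD1_c8 LD2_c37 LD3_c36)) :=
  Lgr Lrot166 (Lpr_gt (K18.f303323 IH) (Lpr_dt (K18.f2114 IH) (Lpr_gt (K13.f219774 IH) (Lpr_dt (K9.f42662 IH) (Lpr_ct (K9.f42714 IH) (Lpr_df (K12.f42750 IH) (Lpe (K12.f42768 IH) (Lpe (K18.f42769 IH) (Lpe (K18.f303314 IH) (Lpn (LP (LK LD1_c8 LD2_c37 LD3_c36))))))))))))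
theorem f303326 : Led Lsl_bt (LP (LK LD1_c8 LD2_c33 LD3_c44)) = (LP (LK LD1_c16 LD2_c4 LD3_c13)) :=
  Lre_b IH (LK LD1_c8 LD2_c33 LD3_c44) (LK LD1_c16 LD2_c4 LD3_c13) Lrfl Lrfl
theorem f166566 : Led Lsl_ct (LP (LK LD1_c16 LD2_c4 LD3_c13)) = (LP (LK LD1_c26 LD2_c1 LD3_c26)) :=
  Lre_c IH (LK LD1_c16 LD2_c4 LD3_c13) (LK LD1_c26 LD2_c1 LD3_c26) Lrfl Lrfl
theorem f305154 : Led Lsl_bf (LP (LK LD1_c19 LD2_c33 LD3_c0)) = (LP (LK LD1_c26 LD2_c1 LD3_c26)) :=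
  Lgr Lrot90 (Lpr_ct (f253849 IH) (Lpr_bt (f305134 IH) (Lpe (f303331 IH) (Lpr_bt (f303326 IH) (Lpr_ct (f166566 IH) (Lpn (LP (LK LD1_c26 LD2_c1 LD3_c26))))))))
theorem f253872 : Led Lsl_et (LP (LK LD1_c19 LD2_c33 LD3_c0)) = (LP (LK LD1_c28 LD2_c55 LD3_c15)) :=
  Lre_e IH (LK LD1_c19 LD2_c33 LD3_c0) (LK LD1_c28 LD2_c55 LD3_c15) Lrfl Lrfl
theorem f305204 : Led Lsl_et (LP (LK LD1_c32 LD2_c3 LD3_c13)) = (LP (LK LD1_c26 LD2_c1 LD3_c26)) :=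
  Lre_e IH (LK LD1_c32 LD2_c3 LD3_c13) (LK LD1_c26 LD2_c1 LD3_c26) Lrfl Lrfl
theorem f305205 : Led Lsl_bt (LP (LK LD1_c28 LD2_c55 LD3_c15)) = (LP (LK LD1_c32 LD2_c3 LD3_c13)) :=
  Lgr Lrot119 (Lpe (f253872 IH) (Lpr_bf (f305154 IH) (Lpe (f305204 IH) (Lpn (LP (LK LD1_c32 LD2_c3 LD3_c13))))))
theorem f305165 : Led Lsl_ct (LP (LK LD1_c19 LD2_c33 LD3_c1)) = (LP (LK LD1_c28 LD2_c55 LD3_c15)) :=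
  Lre_c IH (LK LD1_c19 LD2_c33 LD3_c1) (LK LD1_c28 LD2_c55 LD3_c15) Lrfl Lrfl
theorem f253852 : Led Lsl_et (LP (LK LD1_c19 LD2_c33 LD3_c1)) = (LP (LK LD1_c10 LD2_c48 LD3_c48)) :=
  Lre_e IH (LK LD1_c19 LD2_c33 LD3_c1) (LK LD1_c10 LD2_c48 LD3_c48) Lrfl Lrfl
theorem f226837 : Led Lsl_et (LP (LK LD1_c8 LD2_c37 LD3_c36)) = (LP (LK LD1_c16 LD2_c9 LD3_c38)) :=
  Lre_e IH (LK LD1_c8 LD2_c37 LD3_c36) (LK LD1_c16 LD2_c9 LD3_c38) Lrfl Lrfl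
theorem f305156 : Led Lsl_bf (LP (LK LD1_c19 LD2_c33 LD3_c1)) = (LP (LK LD1_c16 LD2_c9 LD3_c38)) :=
  Lgr Lrot96 (Lpr_et (f253852 IH) (Lpr_bt (f305134 IH) (Lpr_et (f226837 IH) (Lpn (LP (LK LD1_c16 LD2_c9 LD3_c38))))))
theorem f305209 : Led Lsl_ct (LP (LK LD1_c32 LD2_c3 LD3_c13)) = (LP (LK LD1_c26 LD2_c1 LD3_c27)) :=
  Lre_c IH (LK LD1_c32 LD2_c3 LD3_c13) (LK LD1_c26 LD2_c1 LD3_c27) Lrfl Lrfl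
theorem f305210 : Led Lsl_bt (LP (LK LD1_c26 LD2_c1 LD3_c27)) = (LP (LK LD1_c16 LD2_c4 LD3_c15)) :=
  Lre_b IH (LK LD1_c26 LD2_c1 LD3_c27) (LK LD1_c16 LD2_c4 LD3_c15) Lrfl Lrfl
theorem f305211 : Led Lsl_cf (LP (LK LD1_c16 LD2_c9 LD3_c38)) = (LP (LK LD1_c16 LD2_c4 LD3_c15)) :=
  Lgr Lrot97 (Lpe (f305156 IH) (Lpr_ct (f305165 IH) (Lpr_bt (f305205 IH) (Lpr_ct (f305209 IH) (Lpr_bt (f305210 IH) (Lpn (LP (LK LD1_c16 LD2_c4 LD3_c15))))))))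
theorem f296210 : Led Lsl_ft (LP (LK LD1_c16 LD2_c9 LD3_c38)) = (LP (LK LD1_c26 LD2_c6 LD3_c22)) :=
  Lre_f IH (LK LD1_c16 LD2_c9 LD3_c38) (LK LD1_c26 LD2_c6 LD3_c22) Lrfl Lrfl
theorem f305219 : Led Lsl_ft (LP (LK LD1_c26 LD2_c1 LD3_c30)) = (LP (LK LD1_c16 LD2_c4 LD3_c15)) :=
  Lre_f IH (LK LD1_c26 LD2_c1 LD3_c30) (LK LD1_c16 LD2_c4 LD3_c15) Lrfl Lrfl
theorem f305220 : Led Lsl_ct (LP (LK LD1_c26 LD2_c6 LD3_c22)) = (LP (LK LD1_c26 LD2_c1 LD3_c30)) :=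
  Lgr Lrot40 (Lpe (f296210 IH) (Lpr_cf (f305211 IH) (Lpe (f305219 IH) (Lpn (LP (LK LD1_c26 LD2_c1 LD3_c30))))))
theorem f253868 : Led Lsl_ft (LP (LK LD1_c19 LD2_c33 LD3_c1)) = (LP (LK LD1_c28 LD2_c55 LD3_c18)) :=
  Lre_f IH (LK LD1_c19 LD2_c33 LD3_c1) (LK LD1_c28 LD2_c55 LD3_c18) Lrfl Lrfl
theorem f296214 : Led Lsl_ft (LP (LK LD1_c26 LD2_c6 LD3_c22)) = (LP (LK LD1_c16 LD2_c9 LD3_c38)) :=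
  Lre_f IH (LK LD1_c26 LD2_c6 LD3_c22) (LK LD1_c16 LD2_c9 LD3_c38) Lrfl Lrfl
theorem f305169 : Led Lsl_bt (LP (LK LD1_c28 LD2_c55 LD3_c18)) = (LP (LK LD1_c26 LD2_c6 LD3_c22)) :=
  Lgr Lrot35 (Lpe (f253868 IH) (Lpr_bf (f305156 IH) (Lpe (f296214 IH) (Lpn (LP (LK LD1_c26 LD2_c6 LD3_c22))))))
theorem f178100 : Led Lsl_dt (LP (LK LD1_c11 LD2_c5 LD3_c10)) = (LP (LK LD1_c5 LD2_c36 LD3_c31)) :=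
  Lre_d IH (LK LD1_c11 LD2_c5 LD3_c10) (LK LD1_c5 LD2_c36 LD3_c31) Lrfl Lrfl
theorem f253825 : Led Lsl_ft (LP (LK LD1_c10 LD2_c48 LD3_c48)) = (LP (LK LD1_c11 LD2_c5 LD3_c10)) :=
  Lgr Lrot54 (Lpe (f253813 IH) (Lpr_ff (K14.f253808 IH) (Lpe (f178100 IH) (Lpn (LP (LK LD1_c11 LD2_c5 LD3_c10))))))
theorem f253853 : Led Lsl_ft (LP (LK LD1_c28 LD2_c55 LD3_c18)) = (LP (LK LD1_c19 LD2_c33 LD3_c1)) :=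
  Lre_f IH (LK LD1_c28 LD2_c55 LD3_c18) (LK LD1_c19 LD2_c33 LD3_c1) Lrfl Lrfl
theorem f253854 : Led Lsl_et (LP (LK LD1_c11 LD2_c5 LD3_c10)) = (LP (LK LD1_c19 LD2_c58 LD3_c4)) :=
  Lre_e IH (LK LD1_c11 LD2_c5 LD3_c10) (LK LD1_c19 LD2_c58 LD3_c4) Lrfl Lrfl
theorem f253855 : Led Lsl_ft (LP (LK LD1_c19 LD2_c58 LD3_c4)) = (LP (LK LD1_c29 LD2_c13 LD3_c19)) :=
  Lre_f IH (LK LD1_c19 LD2_c58 LD3_c4) (LK LD1_c29 LD2_c13 LD3_c19) Lrfl Lrfl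
theorem f253856 : Led Lsl_ef (LP (LK LD1_c28 LD2_c55 LD3_c18)) = (LP (LK LD1_c29 LD2_c13 LD3_c19)) :=
  Lgr Lrot21 (Lpr_ft (f253853 IH) (Lpr_et (f253852 IH) (Lpr_ft (f253825 IH) (Lpr_et (f253854 IH) (Lpr_ft (f253855 IH) (Lpn (LP (LK LD1_c29 LD2_c13 LD3_c19))))))))
theorem f253860 : Led Lsl_bt (LP (LK LD1_c19 LD2_c58 LD3_c12)) = (LP (LK LD1_c29 LD2_c13 LD3_c19)) :=
  Lre_b IH (LK LD1_c19 LD2_c58 LD3_c12) (LK LD1_c29 LD2_c13 LD3_c19) Lrfl Lrfl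
theorem f305176 : Led Lsl_ef (LP (LK LD1_c19 LD2_c58 LD3_c12)) = (LP (LK LD1_c26 LD2_c6 LD3_c22)) :=
  Lgr Lrot29 (Lpr_bt (f253860 IH) (Lpe (f253856 IH) (Lpr_bt (f305169 IH) (Lpn (LP (LK LD1_c26 LD2_c6 LD3_c22))))))
theorem f305178 : Led Lsl_et (LP (LK LD1_c19 LD2_c58 LD3_c12)) = (LP (LK LD1_c26 LD2_c6 LD3_c22)) :=
  Lgr Lrot87 (Lpr_ef (f305176 IH) (Lpn (LP (LK LD1_c26 LD2_c6 LD3_c22))))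
theorem f266840 : Led Lsl_ft (LP (LK LD1_c11 LD2_c5 LD3_c12)) = (LP (LK LD1_c19 LD2_c58 LD3_c12)) :=
  Lre_f IH (LK LD1_c11 LD2_c5 LD3_c12) (LK LD1_c19 LD2_c58 LD3_c12) Lrfl Lrfl
theorem f266841 : Led Lsl_ft (LP (LK LD1_c25 LD2_c37 LD3_c47)) = (LP (LK LD1_c15 LD2_c42 LD3_c4)) :=
  Lre_f IH (LK LD1_c25 LD2_c37 LD3_c47) (LK LD1_c15 LD2_c42 LD3_c4) Lrfl Lrfl
theorem f266842 : Led Lsl_ct (LP (LK LD1_c19 LD2_c58 LD3_c12)) = (LP (LK LD1_c25 LD2_c37 LD3_c47)) :=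
  Lgr Lrot40 (Lpe (f266840 IH) (Lpr_cf (K15.f266830 IH) (Lpe (f266841 IH) (Lpn (LP (LK LD1_c25 LD2_c37 LD3_c47))))))
theorem f266849 : Led Lsl_cf (LP (LK LD1_c19 LD2_c58 LD3_c12)) = (LP (LK LD1_c25 LD2_c37 LD3_c47)) :=
  Lgr Lrot11 (Lpr_ct (f266842 IH) (Lpn (LP (LK LD1_c25 LD2_c37 LD3_c47))))
theorem f305230 : Led Lsl_ef (LP (LK LD1_c25 LD2_c37 LD3_c47)) = (LP (LK LD1_c26 LD2_c1 LD3_c30)) :=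
  Lgr Lrot28 (Lpe (f266849 IH) (Lpr_et (f305178 IH) (Lpr_ct (f305220 IH) (Lpn (LP (LK LD1_c26 LD2_c1 LD3_c30))))))
theorem f305235 : Led Lsl_ft (LP (LK LD1_c16 LD2_c4 LD3_c15)) = (LP (LK LD1_c26 LD2_c1 LD3_c30)) :=
  Lre_f IH (LK LD1_c16 LD2_c4 LD3_c15) (LK LD1_c26 LD2_c1 LD3_c30) Lrfl Lrfl
theorem f305218 : Led Lsl_et (LP (LK LD1_c8 LD2_c33 LD3_c44)) = (LP (LK LD1_c16 LD2_c4 LD3_c15)) :=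
  Lre_e IH (LK LD1_c8 LD2_c33 LD3_c44) (LK LD1_c16 LD2_c4 LD3_c15) Lrfl Lrfl
theorem f305236 : Led Lsl_ft (LP (LK LD1_c8 LD2_c20 LD3_c31)) = (LP (LK LD1_c8 LD2_c33 LD3_c44)) :=
  Lgr Lrot86 (Lpe (K15.f266861 IH) (Lpe (f266841 IH) (Lpr_ef (f305230 IH) (Lpe (f305235 IH) (Lpe (f305218 IH) (Lpn (LP (LK LD1_c8 LD2_c33 LD3_c44))))))))
theorem f305242 : Led Lsl_ff (LP (LK LD1_c4 LD2_c10 LD3_c11)) = (LP (LK LD1_c4 LD2_c17 LD3_c18)) :=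
  Lgr Lrot19 (Lpr_dt (K15.f182259 IH) (Lpr_ft (f305236 IH) (Lpr_dt (K18.f199635 IH) (Lpn (LP (LK LD1_c4 LD2_c17 LD3_c18))))))
theorem f305248 : Led Lsl_ft (LP (LK LD1_c4 LD2_c10 LD3_c11)) = (LP (LK LD1_c4 LD2_c17 LD3_c18)) :=
  Lgr Lrot48 (Lpr_ff (f305242 IH) (Lpn (LP (LK LD1_c4 LD2_c17 LD3_c18))))
theorem f305250 : Led Lsl_af (LP (LK LD1_c4 LD2_c10 LD3_c13)) = (LP (LK LD1_c4 LD2_c17 LD3_c18)) :=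
  Lgr Lrot45 (Lpe (K16.f275342 IH) (Lpr_at (K15.f266983 IH) (Lpr_ft (f305248 IH) (Lpn (LP (LK LD1_c4 LD2_c17 LD3_c18))))))
theorem f305296 : Led Lsl_at (LP (LK LD1_c8 LD2_c20 LD3_c36)) = (LP (LK LD1_c8 LD2_c33 LD3_c44)) :=
  Lgr Lrot51 (Lpe (K16.f233312 IH) (Lpr_af (f305250 IH) (Lpe (K18.f199635 IH) (Lpn (LP (LK LD1_c8 LD2_c33 LD3_c44))))))
theorem f275358 : Led Lsl_et (LP (LK LD1_c15 LD2_c42 LD3_c17)) = (LP (LK LD1_c8 LD2_c20 LD3_c36)) :=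
  Lre_e IH (LK LD1_c15 LD2_c42 LD3_c17) (LK LD1_c8 LD2_c20 LD3_c36) Lrfl Lrfl
theorem f305298 : Led Lsl_af (LP (LK LD1_c15 LD2_c42 LD3_c17)) = (LP (LK LD1_c16 LD2_c4 LD3_c15)) :=
  Lgr Lrot50 (Lpr_et (f275358 IH) (Lpr_at (f305296 IH) (Lpr_et (f305218 IH) (Lpn (LP (LK LD1_c16 LD2_c4 LD3_c15))))))
theorem f305303 : Led Lsl_dt (LP (LK LD1_c15 LD2_c42 LD3_c17)) = (LP (LK LD1_c25 LD2_c37 LD3_c61)) :=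
  Lre_d IH (LK LD1_c15 LD2_c42 LD3_c17) (LK LD1_c25 LD2_c37 LD3_c61) Lrfl Lrfl
theorem f305217 : Led Lsl_dt (LP (LK LD1_c26 LD2_c1 LD3_c29)) = (LP (LK LD1_c16 LD2_c4 LD3_c15)) :=
  Lre_d IH (LK LD1_c26 LD2_c1 LD3_c29) (LK LD1_c16 LD2_c4 LD3_c15) Lrfl Lrfl
theorem f305304 : Led Lsl_at (LP (LK LD1_c25 LD2_c37 LD3_c61)) = (LP (LK LD1_c26 LD2_c1 LD3_c29)) :=
  Lgr Lrot51 (Lpe (f305303 IH) (Lpr_af (f305298 IH) (Lpe (f305217 IH) (Lpn (LP (LK LD1_c26 LD2_c1 LD3_c29))))))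
theorem f305310 : Led Lsl_et (LP (LK LD1_c15 LD2_c42 LD3_c19)) = (LP (LK LD1_c25 LD2_c37 LD3_c61)) :=
  Lre_e IH (LK LD1_c15 LD2_c42 LD3_c19) (LK LD1_c25 LD2_c37 LD3_c61) Lrfl Lrfl
theorem f305311 : Led Lsl_et (LP (LK LD1_c26 LD2_c1 LD3_c29)) = (LP (LK LD1_c16 LD2_c4 LD3_c17)) :=
  Lre_e IH (LK LD1_c26 LD2_c1 LD3_c29) (LK LD1_c16 LD2_c4 LD3_c17) Lrfl Lrfl
theorem f305312 : Led Lsl_af (LP (LK LD1_c15 LD2_c42 LD3_c19)) = (LP (LK LD1_c16 LD2_c4 LD3_c17)) :=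
  Lgr Lrot50 (Lpr_et (f305310 IH) (Lpr_at (f305304 IH) (Lpr_et (f305311 IH) (Lpn (LP (LK LD1_c16 LD2_c4 LD3_c17))))))
theorem f284153 : Led Lsl_ct (LP (LK LD1_c8 LD2_c21 LD3_c35)) = (LP (LK LD1_c4 LD2_c10 LD3_c49)) :=
  Lre_c IH (LK LD1_c8 LD2_c21 LD3_c35) (LK LD1_c4 LD2_c10 LD3_c49) Lrfl Lrfl
theorem f284166 : Led Lsl_dt (LP (LK LD1_c15 LD2_c43 LD3_c58)) = (LP (LK LD1_c8 LD2_c21 LD3_c35)) :=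
  Lre_d IH (LK LD1_c15 LD2_c43 LD3_c58) (LK LD1_c8 LD2_c21 LD3_c35) Lrfl Lrfl
theorem f305316 : Led Lsl_ft (LP (LK LD1_c15 LD2_c43 LD3_c58)) = (LP (LK LD1_c16 LD2_c4 LD3_c17)) :=
  Lgr Lrot142 (Lpr_dt (f284166 IH) (Lpr_ct (f284153 IH) (Lpe (K17.f284162 IH) (Lpr_ct (K14.f253352 IH) (Lpr_dt (K16.f228523 IH) (Lpr_ct (K16.f228534 IH) (Lpr_dt (K16.f275298 IH) (Lpr_ct (K16.f275291 IH) (Lpr_af (f305312 IH) (Lpn (LP (LK LD1_c16 LD2_c4 LD3_c17))))))))))))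
theorem f305322 : Led Lsl_ff (LP (LK LD1_c15 LD2_c43 LD3_c58)) = (LP (LK LD1_c16 LD2_c4 LD3_c17)) :=
  Lgr Lrot3 (Lpr_ft (f305316 IH) (Lpn (LP (LK LD1_c16 LD2_c4 LD3_c17))))
theorem f276735 : Led Lsl_dt (LP (LK LD1_c8 LD2_c33 LD3_c45)) = (LP (LK LD1_c16 LD2_c4 LD3_c17)) :=
  Lre_d IH (LK LD1_c8 LD2_c33 LD3_c45) (LK LD1_c16 LD2_c4 LD3_c17) Lrfl Lrfl
theorem f305328 : Led Lsl_ft (LP (LK LD1_c8 LD2_c21 LD3_c35)) = (LP (LK LD1_c8 LD2_c33 LD3_c45)) :=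
  Lgr Lrot54 (Lpe (f284166 IH) (Lpr_ff (f305322 IH) (Lpe (f276735 IH) (Lpn (LP (LK LD1_c8 LD2_c33 LD3_c45))))))
theorem f305247 : Led Lsl_et (LP (LK LD1_c8 LD2_c33 LD3_c45)) = (LP (LK LD1_c4 LD2_c17 LD3_c18)) :=
  Lre_e IH (LK LD1_c8 LD2_c33 LD3_c45) (LK LD1_c4 LD2_c17 LD3_c18) Lrfl Lrfl
theorem f305246 : Led Lsl_ft (LP (LK LD1_c8 LD2_c20 LD3_c32)) = (LP (LK LD1_c15 LD2_c42 LD3_c8)) :=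
  Lre_f IH (LK LD1_c8 LD2_c20 LD3_c32) (LK LD1_c15 LD2_c42 LD3_c8) Lrfl Lrfl
theorem f305338 : Led Lsl_ef (LP (LK LD1_c8 LD2_c21 LD3_c35)) = (LP (LK LD1_c15 LD2_c42 LD3_c8)) :=
  Lgr Lrot21 (Lpr_ft (f305328 IH) (Lpr_et (f305247 IH) (Lpe (f305242 IH) (Lpr_et (K15.f266992 IH) (Lpr_ft (f305246 IH) (Lpn (LP (LK LD1_c15 LD2_c42 LD3_c8))))))))
theorem f238668 : Led Lsl_ct (LP (LK LD1_c16 LD2_c4 LD3_c27)) = (LP (LK LD1_c8 LD2_c33 LD3_c50)) :=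
  Lre_c IH (LK LD1_c16 LD2_c4 LD3_c27) (LK LD1_c8 LD2_c33 LD3_c50) Lrfl Lrfl
theorem f275317 : Led Lsl_ct (LP (LK LD1_c8 LD2_c20 LD3_c39)) = (LP (LK LD1_c15 LD2_c42 LD3_c20)) :=
  Lre_c IH (LK LD1_c8 LD2_c20 LD3_c39) (LK LD1_c15 LD2_c42 LD3_c20) Lrfl Lrfl
theorem f275327 : Led Lsl_ef (LP (LK LD1_c16 LD2_c4 LD3_c27)) = (LP (LK LD1_c15 LD2_c42 LD3_c20)) :=
  Lgr Lrot28 (Lpr_ct (f238668 IH) (Lpr_et (K16.f275323 IH) (Lpr_ct (f275317 IH) (Lpn (LP (LK LD1_c15 LD2_c42 LD3_c20))))))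
theorem f305340 : Led Lsl_at (LP (LK LD1_c8 LD2_c21 LD3_c35)) = (LP (LK LD1_c15 LD2_c42 LD3_c20)) :=
  Lgr Lrot80 (Lpr_ef (f305338 IH) (Lpe (K15.f267005 IH) (Lpr_ef (f275327 IH) (Lpn (LP (LK LD1_c15 LD2_c42 LD3_c20))))))
theorem f305348 : Led Lsl_af (LP (LK LD1_c8 LD2_c21 LD3_c35)) = (LP (LK LD1_c15 LD2_c42 LD3_c20)) :=
  Lgr Lrot0 (Lpr_at (f305340 IH) (Lpn (LP (LK LD1_c15 LD2_c42 LD3_c20))))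
theorem f275340 : Led Lsl_ft (LP (LK LD1_c8 LD2_c20 LD3_c37)) = (LP (LK LD1_c15 LD2_c42 LD3_c20)) :=
  Lre_f IH (LK LD1_c8 LD2_c20 LD3_c37) (LK LD1_c15 LD2_c42 LD3_c20) Lrfl Lrfl
theorem f305352 : Led Lsl_at (LP (LK LD1_c8 LD2_c33 LD3_c45)) = (LP (LK LD1_c8 LD2_c20 LD3_c37)) :=
  Lgr Lrot66 (Lpe (f305328 IH) (Lpr_af (f305348 IH) (Lpe (f275340 IH) (Lpn (LP (LK LD1_c8 LD2_c20 LD3_c37))))))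
theorem f166555 : Led Lsl_ct (LP (LK LD1_c4 LD2_c17 LD3_c19)) = (LP (LK LD1_c8 LD2_c33 LD3_c45)) :=
  Lre_c IH (LK LD1_c4 LD2_c17 LD3_c19) (LK LD1_c8 LD2_c33 LD3_c45) Lrfl Lrfl
theorem f305354 : Led Lsl_af (LP (LK LD1_c4 LD2_c17 LD3_c19)) = (LP (LK LD1_c4 LD2_c10 LD3_c14)) :=
  Lgr Lrot68 (Lpr_ct (f166555 IH) (Lpr_at (f305352 IH) (Lpr_ct (K16.f233308 IH) (Lpn (LP (LK LD1_c4 LD2_c10 LD3_c14))))))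
theorem f276709 : Led Lsl_at (LP (LK LD1_c8 LD2_c30 LD3_c52)) = (LP (LK LD1_c8 LD2_c17 LD3_c59)) :=
  Lgr Lrot80 (Lpr_ef (K16.f276707 IH) (Lpe (K15.f267471 IH) (Lpe (K15.f246783 IH) (Lpn (LP (LK LD1_c8 LD2_c17 LD3_c59))))))
theorem f236920 : Led Lsl_et (LP (LK LD1_c3 LD2_c56 LD3_c58)) = (LP (LK LD1_c7 LD2_c55 LD3_c32)) :=
  Lre_e IH (LK LD1_c3 LD2_c56 LD3_c58) (LK LD1_c7 LD2_c55 LD3_c32) Lrfl Lrfl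
theorem f236946 : Led Lsl_bf (LP (LK LD1_c4 LD2_c10 LD3_c14)) = (LP (LK LD1_c7 LD2_c55 LD3_c32)) :=
  Lgr Lrot96 (Lpr_et (K16.f178738 IH) (Lpr_bt (K15.f236940 IH) (Lpr_et (f236920 IH) (Lpn (LP (LK LD1_c7 LD2_c55 LD3_c32))))))
theorem f305395 : Led Lsl_at (LP (LK LD1_c4 LD2_c21 LD3_c30)) = (LP (LK LD1_c7 LD2_c55 LD3_c32)) :=
  Lgr Lrot67 (Lpe (K15.f267145 IH) (Lpe (f276709 IH) (Lpr_bf (K16.f276720 IH) (Lpr_af (f305354 IH) (Lpr_bf (f236946 IH) (Lpn (LP (LK LD1_c7 LD2_c55 LD3_c32))))))))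
theorem f228528 : Led Lsl_ct (LP (LK LD1_c5 LD2_c21 LD3_c50)) = (LP (LK LD1_c2 LD2_c37 LD3_c29)) :=
  Lre_c IH (LK LD1_c5 LD2_c21 LD3_c50) (LK LD1_c2 LD2_c37 LD3_c29) Lrfl Lrfl
theorem f254316 : Led Lsl_af (LP (LK LD1_c5 LD2_c20 LD3_c18)) = (LP (LK LD1_c2 LD2_c37 LD3_c29)) :=
  Lgr Lrot68 (Lpr_ct (K16.f231426 IH) (Lpr_at (K14.f254310 IH) (Lpr_ct (f228528 IH) (Lpn (LP (LK LD1_c2 LD2_c37 LD3_c29))))))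
theorem f231424 : Led Lsl_bt (LP (LK LD1_c5 LD2_c20 LD3_c18)) = (LP (LK LD1_c4 LD2_c20 LD3_c47)) :=
  Lgr Lrot127 (Lpr_bf (K15.f231422 IH) (Lpn (LP (LK LD1_c4 LD2_c20 LD3_c47))))
theorem f284475 : Led Lsl_af (LP (LK LD1_c4 LD2_c20 LD3_c57)) = (LP (LK LD1_c4 LD2_c20 LD3_c47)) :=
  Lgr Lrot36 (Lpe (K15.f194220 IH) (Lpr_at (K17.f284468 IH) (Lpr_bt (K16.f271106 IH) (Lpe (f254316 IH) (Lpr_bt (f231424 IH) (Lpn (LP (LK LD1_c4 LD2_c20 LD3_c47))))))))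
theorem f305468 : Led Lsl_df (LP (LK LD1_c4 LD2_c20 LD3_c47)) = (LP (LK LD1_c7 LD2_c55 LD3_c32)) :=
  Lgr Lrot18 (Lpe (f284475 IH) (Lpe (K14.f255565 IH) (Lpr_at (f305395 IH) (Lpn (LP (LK LD1_c7 LD2_c55 LD3_c32))))))
theorem f269384 : Led Lsl_gf (LP (LK LD1_c8 LD2_c36 LD3_c59)) = (LP (LK LD1_c8 LD2_c8 LD3_c4)) :=
  Lgr Lrot76 (Lpr_af (K16.f269375 IH) (Lpe (K16.f269381 IH) (Lpr_gt (K18.f227194 IH) (Lpn (LP (LK LD1_c8 LD2_c8 LD3_c4))))))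
theorem f269387 : Led Lsl_gt (LP (LK LD1_c4 LD2_c19 LD3_c16)) = (LP (LK LD1_c4 LD2_c3 LD3_c49)) :=
  Lgr Lrot139 (Lpe (K14.f238712 IH) (Lpr_gf (f269384 IH) (Lpe (K18.f237218 IH) (Lpr_dt (K18.f39133 IH) (Lpr_gf (K18.f39125 IH) (Lpe (K13.f42924 IH) (Lpr_et (K1.f39094 IH) (Lpe (K13.f233210 IH) (Lpe (K17.f186935 IH) (Lpr_dt (K17.f237001 IH) (Lpn (LP (LK LD1_c4 LD2_c3 LD3_c49)))))))))))))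
theorem f232210 : Led Lsl_gt (LP (LK LD1_c4 LD2_c51 LD3_c25)) = (LP (LK LD1_c9 LD2_c34 LD3_c53)) :=
  Lre_g IH (LK LD1_c4 LD2_c51 LD3_c25) (LK LD1_c9 LD2_c34 LD3_c53) Lrfl Lrfl
theorem f269390 : Led Lsl_et (LP (LK LD1_c8 LD2_c36 LD3_c59)) = (LP (LK LD1_c9 LD2_c34 LD3_c53)) :=
  Lgr Lrot122 (Lpr_dt (K14.f238712 IH) (Lpr_gt (f269387 IH) (Lpe (K17.f237001 IH) (Lpr_et (K17.f186935 IH) (Lpr_gt (K13.f233210 IH) (Lpr_dt (K13.f29140 IH) (Lpe (K13.f232156 IH) (Lpe (K13.f2082 IH) (Lpr_et (K14.f232209 IH) (Lpr_gt (f232210 IH) (Lpn (LP (LK LD1_c9 LD2_c34 LD3_c53)))))))))))))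
theorem f269392 : Led Lsl_ef (LP (LK LD1_c8 LD2_c36 LD3_c59)) = (LP (LK LD1_c9 LD2_c34 LD3_c53)) :=
  Lgr Lrot88 (Lpr_et (f269390 IH) (Lpn (LP (LK LD1_c9 LD2_c34 LD3_c53))))
theorem f269425 : Led Lsl_cf (LP (LK LD1_c9 LD2_c34 LD3_c53)) = (LP (LK LD1_c17 LD2_c36 LD3_c40)) :=
  Lgr Lrot39 (Lpe (f269392 IH) (Lpr_ct (K16.f238661 IH) (Lpr_et (K16.f269420 IH) (Lpn (LP (LK LD1_c17 LD2_c36 LD3_c40))))))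
theorem f255730 : Led Lsl_cf (LP (LK LD1_c9 LD2_c35 LD3_c0)) = (LP (LK LD1_c7 LD2_c55 LD3_c32)) :=
  Lgr Lrot39 (Lpr_et (K16.f255725 IH) (Lpe (K13.f236894 IH) (Lpr_et (f236920 IH) (Lpn (LP (LK LD1_c7 LD2_c55 LD3_c32))))))
theorem f269527 : Led Lsl_ft (LP (LK LD1_c9 LD2_c34 LD3_c53)) = (LP (LK LD1_c7 LD2_c55 LD3_c32)) :=
  Lgr Lrot4 (Lpr_cf (f269425 IH) (Lpr_ff (K16.f269523 IH) (Lpr_cf (f255730 IH) (Lpn (LP (LK LD1_c7 LD2_c55 LD3_c32))))))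
theorem f305472 : Led Lsl_dt (LP (LK LD1_c8 LD2_c39 LD3_c14)) = (LP (LK LD1_c9 LD2_c34 LD3_c53)) :=
  Lgr Lrot60 (Lpe (K15.f231438 IH) (Lpr_df (f305468 IH) (Lpe (f269527 IH) (Lpn (LP (LK LD1_c9 LD2_c34 LD3_c53))))))
theorem f305488 : Led Lsl_df (LP (LK LD1_c8 LD2_c39 LD3_c14)) = (LP (LK LD1_c9 LD2_c34 LD3_c53)) :=
  Lgr Lrot38 (Lpr_dt (f305472 IH) (Lpn (LP (LK LD1_c9 LD2_c34 LD3_c53))))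
theorem f275289 : Led Lsl_dt (LP (LK LD1_c4 LD2_c20 LD3_c47)) = (LP (LK LD1_c7 LD2_c55 LD3_c32)) :=
  Lgr Lrot79 (Lpe (f231424 IH) (Lpr_df (K16.f275287 IH) (Lpr_bf (f236946 IH) (Lpn (LP (LK LD1_c7 LD2_c55 LD3_c32))))))
theorem f305494 : Led Lsl_ft (LP (LK LD1_c7 LD2_c55 LD3_c32)) = (LP (LK LD1_c9 LD2_c34 LD3_c53)) :=
  Lgr Lrot54 (Lpe (f275289 IH) (Lpe (K15.f231429 IH) (Lpr_df (f305488 IH) (Lpn (LP (LK LD1_c9 LD2_c34 LD3_c53))))))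
theorem f233146 : Led Lsl_et (LP (LK LD1_c4 LD2_c21 LD3_c19)) = (LP (LK LD1_c2 LD2_c8 LD3_c10)) :=
  Lre_e IH (LK LD1_c4 LD2_c21 LD3_c19) (LK LD1_c2 LD2_c8 LD3_c10) Lrfl Lrfl
theorem f233147 : Led Lsl_dt (LP (LK LD1_c4 LD2_c21 LD3_c19)) = (LP (LK LD1_c8 LD2_c40 LD3_c18)) :=
  Lre_d IH (LK LD1_c4 LD2_c21 LD3_c19) (LK LD1_c8 LD2_c40 LD3_c18) Lrfl Lrfl
theorem f255633 : Led Lsl_gt (LP (LK LD1_c8 LD2_c40 LD3_c18)) = (LP (LK LD1_c16 LD2_c14 LD3_c25)) :=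
  Lre_g IH (LK LD1_c8 LD2_c40 LD3_c18) (LK LD1_c16 LD2_c14 LD3_c25) Lrfl Lrfl
theorem f227240 : Led Lsl_et (LP (LK LD1_c8 LD2_c41 LD3_c22)) = (LP (LK LD1_c4 LD2_c21 LD3_c51)) :=
  Lre_e IH (LK LD1_c8 LD2_c41 LD3_c22) (LK LD1_c4 LD2_c21 LD3_c51) Lrfl Lrfl
theorem f255634 : Led Lsl_df (LP (LK LD1_c16 LD2_c14 LD3_c25)) = (LP (LK LD1_c8 LD2_c41 LD3_c22)) :=
  Lgr Lrot168 (Lpe (f255633 IH) (Lpe (f233147 IH) (Lpr_et (f233146 IH) (Lpr_gf (K14.f255616 IH) (Lpe (K14.f235602 IH) (Lpr_dt (K14.f235603 IH) (Lpe (K14.f255597 IH) (Lpe (K14.f42920 IH) (Lpe (K16.f227234 IH) (Lpe (f227240 IH) (Lpn (LP (LK LD1_c8 LD2_c41 LD3_c22)))))))))))))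
theorem f227211 : Led Lsl_df (LP (LK LD1_c1 LD2_c58 LD3_c53)) = (LP (LK LD1_c1 LD2_c1 LD3_c22)) :=
  Lgr Lrot38 (Lpr_dt (K12.f227192 IH) (Lpn (LP (LK LD1_c1 LD2_c1 LD3_c22))))
theorem f255101 : Led Lsl_dt (LP (LK LD1_c3 LD2_c56 LD3_c58)) = (LP (LK LD1_c2 LD2_c7 LD3_c3)) :=
  Lgr Lrot173 (Lpr_cf (K13.f236894 IH) (Lpr_df (K13.f238948 IH) (Lpe (K13.f201278 IH) (Lpe (K13.f164952 IH) (Lpe (K11.f164962 IH) (Lpr_df (K11.f201256 IH) (Lpe (K12.f201273 IH) (Lpe (K13.f201275 IH) (Lpe (K13.f201276 IH) (Lpe (K13.f201277 IH) (Lpe (K13.f237694 IH) (Lpe (K14.f239112 IH) (Lpe (K14.f168199 IH) (Lpr_df (K14.f255095 IH) (Lpe (K14.f253578 IH) (Lpn (LP (LK LD1_c2 LD2_c7 LD3_c3))))))))))))))))))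
theorem f255641 : Led Lsl_gf (LP (LK LD1_c4 LD2_c21 LD3_c19)) = (LP (LK LD1_c7 LD2_c55 LD3_c32)) :=
  Lgr Lrot138 (Lpr_dt (f233147 IH) (Lpr_gt (f255633 IH) (Lpr_df (f255634 IH) (Lpr_et (f227240 IH) (Lpr_gt (K16.f227234 IH) (Lpe (K14.f227213 IH) (Lpe (f227211 IH) (Lpr_gt (K14.f253579 IH) (Lpe (f255101 IH) (Lpr_et (f236920 IH) (Lpn (LP (LK LD1_c7 LD2_c55 LD3_c32)))))))))))))
theorem f191839 : Led Lsl_gt (LP (LK LD1_c4 LD2_c21 LD3_c19)) = (LP (LK LD1_c8 LD2_c40 LD3_c17)) :=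
  Lre_g IH (LK LD1_c4 LD2_c21 LD3_c19) (LK LD1_c8 LD2_c40 LD3_c17) Lrfl Lrfl
theorem f305533 : Led Lsl_af (LP (LK LD1_c8 LD2_c40 LD3_c17)) = (LP (LK LD1_c9 LD2_c34 LD3_c53)) :=
  Lgr Lrot31 (Lpe (f191839 IH) (Lpr_gf (f255641 IH) (Lpr_ft (f305494 IH) (Lpn (LP (LK LD1_c9 LD2_c34 LD3_c53))))))
theorem f305543 : Led Lsl_ft (LP (LK LD1_c8 LD2_c40 LD3_c17)) = (LP (LK LD1_c4 LD2_c21 LD3_c30)) :=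
  Lgr Lrot101 (Lpr_af (f305533 IH) (Lpe (f305494 IH) (Lpe (f305395 IH) (Lpn (LP (LK LD1_c4 LD2_c21 LD3_c30))))))
theorem f305553 : Led Lsl_ff (LP (LK LD1_c8 LD2_c40 LD3_c17)) = (LP (LK LD1_c4 LD2_c21 LD3_c30)) :=
  Lgr Lrot3 (Lpr_ft (f305543 IH) (Lpn (LP (LK LD1_c4 LD2_c21 LD3_c30))))
theorem f255572 : Led Lsl_ft (LP (LK LD1_c8 LD2_c39 LD3_c35)) = (LP (LK LD1_c4 LD2_c20 LD3_c57)) :=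
  Lre_f IH (LK LD1_c8 LD2_c39 LD3_c35) (LK LD1_c4 LD2_c20 LD3_c57) Lrfl Lrfl
theorem f305555 : Led Lsl_dt (LP (LK LD1_c8 LD2_c40 LD3_c17)) = (LP (LK LD1_c8 LD2_c39 LD3_c35)) :=
  Lgr Lrot60 (Lpr_ff (f305553 IH) (Lpr_df (K14.f255565 IH) (Lpe (f255572 IH) (Lpn (LP (LK LD1_c8 LD2_c39 LD3_c35))))))
theorem f238742 : Led Lsl_et (LP (LK LD1_c4 LD2_c21 LD3_c30)) = (LP (LK LD1_c2 LD2_c8 LD3_c15)) :=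
  Lre_e IH (LK LD1_c4 LD2_c21 LD3_c30) (LK LD1_c2 LD2_c8 LD3_c15) Lrfl Lrfl
theorem f305551 : Led Lsl_ef (LP (LK LD1_c8 LD2_c40 LD3_c17)) = (LP (LK LD1_c8 LD2_c8 LD3_c7)) :=
  Lgr Lrot21 (Lpr_ft (f305543 IH) (Lpr_et (f238742 IH) (Lpr_ft (K16.f269482 IH) (Lpr_et (K18.f227209 IH) (Lpr_ft (K16.f269381 IH) (Lpn (LP (LK LD1_c8 LD2_c8 LD3_c7))))))))
theorem f256747 : Led Lsl_dt (LP (LK LD1_c4 LD2_c3 LD3_c51)) = (LP (LK LD1_c8 LD2_c8 LD3_c7)) :=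
  Lre_d IH (LK LD1_c4 LD2_c3 LD3_c51) (LK LD1_c8 LD2_c8 LD3_c7) Lrfl Lrfl
theorem f305562 : Led Lsl_ef (LP (LK LD1_c8 LD2_c39 LD3_c17)) = (LP (LK LD1_c8 LD2_c39 LD3_c35)) :=
  Lgr Lrot73 (Lpr_dt (K10.f187962 IH) (Lpr_et (K15.f256742 IH) (Lpr_dt (f256747 IH) (Lpe (f305551 IH) (Lpr_dt (f305555 IH) (Lpn (LP (LK LD1_c8 LD2_c39 LD3_c35))))))))
theorem f28875 : Led Lsl_gt (LP (LK LD1_c8 LD2_c7 LD3_c41)) = (LP (LK LD1_c4 LD2_c3 LD3_c32)) :=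
  Lre_g IH (LK LD1_c8 LD2_c7 LD3_c41) (LK LD1_c4 LD2_c3 LD3_c32) Lrfl Lrfl
theorem f256624 : Led Lsl_gt (LP (LK LD1_c8 LD2_c39 LD3_c17)) = (LP (LK LD1_c8 LD2_c7 LD3_c41)) :=
  Lgr Lrot5 (Lpr_ft (K10.f187940 IH) (Lpr_at (K15.f256616 IH) (Lpe (f28875 IH) (Lpn (LP (LK LD1_c8 LD2_c7 LD3_c41))))))
theorem f255575 : Led Lsl_ft (LP (LK LD1_c4 LD2_c20 LD3_c57)) = (LP (LK LD1_c8 LD2_c39 LD3_c35)) :=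
  Lre_f IH (LK LD1_c4 LD2_c20 LD3_c57) (LK LD1_c8 LD2_c39 LD3_c35) Lrfl Lrfl
theorem f305549 : Led Lsl_df (LP (LK LD1_c8 LD2_c40 LD3_c17)) = (LP (LK LD1_c8 LD2_c39 LD3_c35)) :=
  Lgr Lrot78 (Lpr_ft (f305543 IH) (Lpr_dt (K15.f255568 IH) (Lpr_ft (f255575 IH) (Lpn (LP (LK LD1_c8 LD2_c39 LD3_c35))))))
theorem f199337 : Led Lsl_dt (LP (LK LD1_c8 LD2_c40 LD3_c18)) = (LP (LK LD1_c4 LD2_c21 LD3_c19)) :=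
  Lre_d IH (LK LD1_c8 LD2_c40 LD3_c18) (LK LD1_c4 LD2_c21 LD3_c19) Lrfl Lrfl
theorem f199336 : Led Lsl_et (LP (LK LD1_c8 LD2_c40 LD3_c18)) = (LP (LK LD1_c4 LD2_c21 LD3_c21)) :=
  Lre_e IH (LK LD1_c8 LD2_c40 LD3_c18) (LK LD1_c4 LD2_c21 LD3_c21) Lrfl Lrfl
theorem f42266 : Led Lsl_bt (LP (LK LD1_c2 LD2_c36 LD3_c55)) = (LP (LK LD1_c5 LD2_c20 LD3_c26)) :=
  Lre_b IH (LK LD1_c2 LD2_c36 LD3_c55) (LK LD1_c5 LD2_c20 LD3_c26) Lrfl Lrfl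
theorem f42267 : Led Lsl_bt (LP (LK LD1_c6 LD2_c5 LD3_c2)) = (LP (LK LD1_c2 LD2_c58 LD3_c44)) :=
  Lre_b IH (LK LD1_c6 LD2_c5 LD3_c2) (LK LD1_c2 LD2_c58 LD3_c44) Lrfl Lrfl
theorem f42268 : Led Lsl_dt (LP (LK LD1_c5 LD2_c20 LD3_c26)) = (LP (LK LD1_c6 LD2_c5 LD3_c2)) :=
  Lgr Lrot79 (Lpe (f42266 IH) (Lpr_df (K15.f42149 IH) (Lpe (f42267 IH) (Lpn (LP (LK LD1_c6 LD2_c5 LD3_c2))))))
theorem f42457 : Led Lsl_gt (LP (LK LD1_c11 LD2_c53 LD3_c27)) = (LP (LK LD1_c6 LD2_c5 LD3_c2)) :=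
  Lre_g IH (LK LD1_c11 LD2_c53 LD3_c27) (LK LD1_c6 LD2_c5 LD3_c2) Lrfl Lrfl
theorem f305570 : Led Lsl_dt (LP (LK LD1_c8 LD2_c7 LD3_c41)) = (LP (LK LD1_c11 LD2_c53 LD3_c27)) :=
  Lgr Lrot171 (Lpe (f256624 IH) (Lpr_ef (f305562 IH) (Lpe (f305549 IH) (Lpe (f191839 IH) (Lpe (f199337 IH) (Lpr_et (f199336 IH) (Lpe (K13.f199322 IH) (Lpe (K15.f42450 IH) (Lpr_dt (f42268 IH) (Lpe (f42457 IH) (Lpn (LP (LK LD1_c11 LD2_c53 LD3_c27)))))))))))))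
theorem f305572 : Led Lsl_df (LP (LK LD1_c8 LD2_c7 LD3_c41)) = (LP (LK LD1_c11 LD2_c53 LD3_c27)) :=
  Lgr Lrot38 (Lpr_dt (f305570 IH) (Lpn (LP (LK LD1_c11 LD2_c53 LD3_c27))))
theorem f305574 : Led Lsl_gt (LP (LK LD1_c8 LD2_c6 LD3_c60)) = (LP (LK LD1_c11 LD2_c53 LD3_c27)) :=
  Lgr Lrot137 (Lpe (K17.f279733 IH) (Lpr_dt (K18.f28871 IH) (Lpe (K17.f28861 IH) (Lpr_df (K13.f28834 IH) (Lpr_et (K13.f28872 IH) (Lpe (K9.f28823 IH) (Lpe (K17.f28873 IH) (Lpr_dt (K12.f28874 IH) (Lpe (f28875 IH) (Lpr_df (f305572 IH) (Lpn (LP (LK LD1_c11 LD2_c53 LD3_c27)))))))))))))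
theorem f194735 : Led Lsl_ft (LP (LK LD1_c8 LD2_c6 LD3_c60)) = (LP (LK LD1_c4 LD2_c3 LD3_c12)) :=
  Lre_f IH (LK LD1_c8 LD2_c6 LD3_c60) (LK LD1_c4 LD2_c3 LD3_c12) Lrfl Lrfl
theorem f305583 : Led Lsl_at (LP (LK LD1_c4 LD2_c3 LD3_c12)) = (LP (LK LD1_c6 LD2_c5 LD3_c2)) :=
  Lgr Lrot26 (Lpe (f194735 IH) (Lpr_gt (f305574 IH) (Lpr_gt (f42457 IH) (Lpn (LP (LK LD1_c6 LD2_c5 LD3_c2))))))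
theorem f42456 : Led Lsl_ft (LP (LK LD1_c6 LD2_c5 LD3_c2)) = (LP (LK LD1_c11 LD2_c53 LD3_c28)) :=
  Lre_f IH (LK LD1_c6 LD2_c5 LD3_c2) (LK LD1_c11 LD2_c53 LD3_c28) Lrfl Lrfl
theorem f305591 : Led Lsl_af (LP (LK LD1_c8 LD2_c6 LD3_c60)) = (LP (LK LD1_c11 LD2_c53 LD3_c28)) :=
  Lgr Lrot45 (Lpr_ft (f194735 IH) (Lpr_at (f305583 IH) (Lpr_ft (f42456 IH) (Lpn (LP (LK LD1_c11 LD2_c53 LD3_c28))))))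
theorem f42403 : Led Lsl_gt (LP (LK LD1_c6 LD2_c5 LD3_c2)) = (LP (LK LD1_c11 LD2_c53 LD3_c26)) :=
  Lre_g IH (LK LD1_c6 LD2_c5 LD3_c2) (LK LD1_c11 LD2_c53 LD3_c26) Lrfl Lrfl
theorem f305599 : Led Lsl_gf (LP (LK LD1_c8 LD2_c6 LD3_c60)) = (LP (LK LD1_c11 LD2_c53 LD3_c26)) :=
  Lgr Lrot76 (Lpr_af (f305591 IH) (Lpe (f42456 IH) (Lpr_gt (f42403 IH) (Lpn (LP (LK LD1_c11 LD2_c53 LD3_c26))))))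
theorem f243943 : Led Lsl_bt (LP (LK LD1_c5 LD2_c22 LD3_c17)) = (LP (LK LD1_c4 LD2_c19 LD3_c9)) :=
  Lgr Lrot119 (Lpe (K16.f243942 IH) (Lpr_bf (K13.f243936 IH) (Lpe (K15.f243930 IH) (Lpn (LP (LK LD1_c4 LD2_c19 LD3_c9))))))
theorem f243945 : Led Lsl_bf (LP (LK LD1_c5 LD2_c22 LD3_c17)) = (LP (LK LD1_c4 LD2_c19 LD3_c9)) :=
  Lgr Lrot24 (Lpr_bt (f243943 IH) (Lpn (LP (LK LD1_c4 LD2_c19 LD3_c9))))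
theorem f277581 : Led Lsl_af (LP (LK LD1_c4 LD2_c19 LD3_c9)) = (LP (LK LD1_c4 LD2_c3 LD3_c27)) :=
  Lgr Lrot36 (Lpe (f243945 IH) (Lpr_at (K16.f277576 IH) (Lpe (K14.f228749 IH) (Lpr_at (K14.f254630 IH) (Lpr_bt (K17.f220228 IH) (Lpn (LP (LK LD1_c4 LD2_c3 LD3_c27))))))))
theorem f243948 : Led Lsl_gt (LP (LK LD1_c8 LD2_c36 LD3_c42)) = (LP (LK LD1_c4 LD2_c19 LD3_c9)) :=
  Lre_g IH (LK LD1_c8 LD2_c36 LD3_c42) (LK LD1_c4 LD2_c19 LD3_c9) Lrfl Lrfl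
theorem f296269 : Led Lsl_gf (LP (LK LD1_c8 LD2_c36 LD3_c42)) = (LP (LK LD1_c8 LD2_c6 LD3_c45)) :=
  Lgr Lrot47 (Lpr_gt (f243948 IH) (Lpr_af (f277581 IH) (Lpr_ff (K18.f296265 IH) (Lpn (LP (LK LD1_c8 LD2_c6 LD3_c45))))))
theorem f171609 : Led Lsl_gt (LP (LK LD1_c4 LD2_c1 LD3_c20)) = (LP (LK LD1_c8 LD2_c3 LD3_c20)) :=
  Lre_g IH (LK LD1_c4 LD2_c1 LD3_c20) (LK LD1_c8 LD2_c3 LD3_c20) Lrfl Lrfl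
theorem f192854 : Led Lsl_et (LP (LK LD1_c15 LD2_c10 LD3_c1)) = (LP (LK LD1_c8 LD2_c3 LD3_c20)) :=
  Lre_e IH (LK LD1_c15 LD2_c10 LD3_c1) (LK LD1_c8 LD2_c3 LD3_c20) Lrfl Lrfl
theorem f260006 : Led Lsl_dt (LP (LK LD1_c15 LD2_c10 LD3_c1)) = (LP (LK LD1_c8 LD2_c36 LD3_c42)) :=
  Lgr Lrot136 (Lpr_et (f192854 IH) (Lpe (f171609 IH) (Lpe (K15.f171550 IH) (Lpr_dt (K13.f171525 IH) (Lpe (K10.f192586 IH) (Lpe (K1.f27861 IH) (Lpr_gf (K15.f259994 IH) (Lpe (K15.f46993 IH) (Lpe (K15.f259083 IH) (Lpe (f243948 IH) (Lpn (LP (LK LD1_c8 LD2_c36 LD3_c42)))))))))))))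
theorem f260011 : Led Lsl_df (LP (LK LD1_c15 LD2_c10 LD3_c1)) = (LP (LK LD1_c8 LD2_c36 LD3_c42)) :=
  Lgr Lrot38 (Lpr_dt (f260006 IH) (Lpn (LP (LK LD1_c8 LD2_c36 LD3_c42))))
theorem f296471 : Led Lsl_ft (LP (LK LD1_c29 LD2_c16 LD3_c24)) = (LP (LK LD1_c31 LD2_c46 LD3_c17)) :=
  Lgr Lrot48 (Lpr_ff (K18.f296462 IH) (Lpn (LP (LK LD1_c31 LD2_c46 LD3_c17))))
theorem f244333 : Led Lsl_ct (LP (LK LD1_c32 LD2_c43 LD3_c52)) = (LP (LK LD1_c29 LD2_c16 LD3_c24)) :=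
  Lre_c IH (LK LD1_c32 LD2_c43 LD3_c52) (LK LD1_c29 LD2_c16 LD3_c24) Lrfl Lrfl
theorem f3577 : Led Lsl_ft (LP (LK LD1_c2 LD2_c28 LD3_c11)) = (LP (LK LD1_c1 LD2_c11 LD3_c18)) :=
  Lre_f IH (LK LD1_c2 LD2_c28 LD3_c11) (LK LD1_c1 LD2_c11 LD3_c18) Lrfl Lrfl
theorem f165370 : Led Lsl_ft (LP (LK LD1_c0 LD2_c55 LD3_c48)) = (LP (LK LD1_c1 LD2_c57 LD3_c54)) :=
  Lre_f IH (LK LD1_c0 LD2_c55 LD3_c48) (LK LD1_c1 LD2_c57 LD3_c54) Lrfl Lrfl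
theorem f165371 : Led Lsl_bf (LP (LK LD1_c2 LD2_c28 LD3_c11)) = (LP (LK LD1_c1 LD2_c57 LD3_c54)) :=
  Lgr Lrot61 (Lpr_ft (f3577 IH) (Lpr_bt (K10.f165366 IH) (Lpr_ft (f165370 IH) (Lpn (LP (LK LD1_c1 LD2_c57 LD3_c54))))))
theorem f260029 : Led Lsl_bf (LP (LK LD1_c2 LD2_c36 LD3_c16)) = (LP (LK LD1_c1 LD2_c58 LD3_c12)) :=
  Lgr Lrot34 (Lpe (K13.f43964 IH) (Lpe (K1.f45854 IH) (Lpr_ct (K9.f45866 IH) (Lpr_gf (K14.f247722 IH) (Lpe (K14.f33303 IH) (Lpe (K0.f33315 IH) (Lpr_bf (f165371 IH) (Lpr_ct (K0.f33777 IH) (Lpr_gf (K13.f33820 IH) (Lpr_cf (K15.f259998 IH) (Lpn (LP (LK LD1_c1 LD2_c58 LD3_c12)))))))))))))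
theorem f193106 : Led Lsl_bt (LP (LK LD1_c4 LD2_c54 LD3_c24)) = (LP (LK LD1_c9 LD2_c40 LD3_c18)) :=
  Lre_b IH (LK LD1_c4 LD2_c54 LD3_c24) (LK LD1_c9 LD2_c40 LD3_c18) Lrfl Lrfl
theorem f33828 : Led Lsl_bt (LP (LK LD1_c5 LD2_c9 LD3_c9)) = (LP (LK LD1_c2 LD2_c31 LD3_c44)) :=
  Lre_b IH (LK LD1_c5 LD2_c9 LD3_c9) (LK LD1_c2 LD2_c31 LD3_c44) Lrfl Lrfl
theorem f260031 : Led Lsl_ct (LP (LK LD1_c9 LD2_c40 LD3_c18)) = (LP (LK LD1_c5 LD2_c9 LD3_c9)) :=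
  Lgr Lrot83 (Lpe (f193106 IH) (Lpr_cf (K14.f192986 IH) (Lpr_bf (f260029 IH) (Lpe (K15.f259996 IH) (Lpe (f33828 IH) (Lpn (LP (LK LD1_c5 LD2_c9 LD3_c9))))))))
theorem f260038 : Led Lsl_et (LP (LK LD1_c17 LD2_c47 LD3_c25)) = (LP (LK LD1_c9 LD2_c40 LD3_c18)) :=
  Lre_e IH (LK LD1_c17 LD2_c47 LD3_c25) (LK LD1_c9 LD2_c40 LD3_c18) Lrfl Lrfl
theorem f260039 : Led Lsl_et (LP (LK LD1_c5 LD2_c9 LD3_c9)) = (LP (LK LD1_c10 LD2_c8 LD3_c53)) :=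
  Lre_e IH (LK LD1_c5 LD2_c9 LD3_c9) (LK LD1_c10 LD2_c8 LD3_c53) Lrfl Lrfl
theorem f260040 : Led Lsl_cf (LP (LK LD1_c17 LD2_c47 LD3_c25)) = (LP (LK LD1_c10 LD2_c8 LD3_c53)) :=
  Lgr Lrot39 (Lpr_et (f260038 IH) (Lpr_ct (f260031 IH) (Lpr_et (f260039 IH) (Lpn (LP (LK LD1_c10 LD2_c8 LD3_c53))))))
theorem f193156 : Led Lsl_bt (LP (LK LD1_c17 LD2_c47 LD3_c25)) = (LP (LK LD1_c9 LD2_c40 LD3_c20)) :=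
  Lre_b IH (LK LD1_c17 LD2_c47 LD3_c25) (LK LD1_c9 LD2_c40 LD3_c20) Lrfl Lrfl
theorem f259098 : Led Lsl_bt (LP (LK LD1_c5 LD2_c19 LD3_c11)) = (LP (LK LD1_c4 LD2_c2 LD3_c27)) :=
  Lgr Lrot95 (Lpe (K18.f246380 IH) (Lpr_bf (f243945 IH) (Lpr_df (K15.f259083 IH) (Lpn (LP (LK LD1_c4 LD2_c2 LD3_c27))))))
theorem f260057 : Led Lsl_bt (LP (LK LD1_c5 LD2_c9 LD3_c11)) = (LP (LK LD1_c10 LD2_c8 LD3_c53)) :=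
  Lre_b IH (LK LD1_c5 LD2_c9 LD3_c11) (LK LD1_c10 LD2_c8 LD3_c53) Lrfl Lrfl
theorem f260058 : Led Lsl_ct (LP (LK LD1_c4 LD2_c2 LD3_c27)) = (LP (LK LD1_c5 LD2_c9 LD3_c11)) :=
  Lgr Lrot83 (Lpe (f259098 IH) (Lpe (K18.f193110 IH) (Lpe (f193156 IH) (Lpr_cf (f260040 IH) (Lpe (f260057 IH) (Lpn (LP (LK LD1_c5 LD2_c9 LD3_c11))))))))
theorem f21748 : Led Lsl_dt (LP (LK LD1_c5 LD2_c9 LD3_c11)) = (LP (LK LD1_c10 LD2_c8 LD3_c55)) :=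
  Lre_d IH (LK LD1_c5 LD2_c9 LD3_c11) (LK LD1_c10 LD2_c8 LD3_c55) Lrfl Lrfl
theorem f252729 : Led Lsl_ct (LP (LK LD1_c10 LD2_c8 LD3_c55)) = (LP (LK LD1_c18 LD2_c29 LD3_c1)) :=
  Lre_c IH (LK LD1_c10 LD2_c8 LD3_c55) (LK LD1_c18 LD2_c29 LD3_c1) Lrfl Lrfl
theorem f260082 : Led Lsl_dt (LP (LK LD1_c18 LD2_c29 LD3_c1)) = (LP (LK LD1_c28 LD2_c3 LD3_c39)) :=
  Lre_d IH (LK LD1_c18 LD2_c29 LD3_c1) (LK LD1_c28 LD2_c3 LD3_c39) Lrfl Lrfl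
theorem f260086 : Led Lsl_cf (LP (LK LD1_c25 LD2_c6 LD3_c34)) = (LP (LK LD1_c28 LD2_c3 LD3_c39)) :=
  Lgr Lrot161 (Lpr_dt (K18.f244006 IH) (Lpr_ct (K18.f244005 IH) (Lpe (K18.f243974 IH) (Lpe (K18.f243947 IH) (Lpr_dt (K15.f259100 IH) (Lpr_ct (f260058 IH) (Lpr_dt (f21748 IH) (Lpr_ct (f252729 IH) (Lpr_dt (f260082 IH) (Lpn (LP (LK LD1_c28 LD2_c3 LD3_c39))))))))))))
theorem f260092 : Led Lsl_et (LP (LK LD1_c32 LD2_c31 LD3_c23)) = (LP (LK LD1_c28 LD2_c3 LD3_c39)) :=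
  Lre_e IH (LK LD1_c32 LD2_c31 LD3_c23) (LK LD1_c28 LD2_c3 LD3_c39) Lrfl Lrfl
theorem f260093 : Led Lsl_ct (LP (LK LD1_c31 LD2_c46 LD3_c17)) = (LP (LK LD1_c32 LD2_c31 LD3_c23)) :=
  Lgr Lrot15 (Lpe (K18.f244321 IH) (Lpr_cf (f260086 IH) (Lpe (f260092 IH) (Lpn (LP (LK LD1_c32 LD2_c31 LD3_c23))))))
theorem f296475 : Led Lsl_ff (LP (LK LD1_c32 LD2_c43 LD3_c52)) = (LP (LK LD1_c32 LD2_c31 LD3_c23)) :=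
  Lgr Lrot23 (Lpr_ct (f244333 IH) (Lpr_ft (f296471 IH) (Lpr_ct (f260093 IH) (Lpn (LP (LK LD1_c32 LD2_c31 LD3_c23))))))
theorem f244426 : Led Lsl_et (LP (LK LD1_c32 LD2_c43 LD3_c52)) = (LP (LK LD1_c29 LD2_c16 LD3_c23)) :=
  Lre_e IH (LK LD1_c32 LD2_c43 LD3_c52) (LK LD1_c29 LD2_c16 LD3_c23) Lrfl Lrfl
theorem f244425 : Led Lsl_ft (LP (LK LD1_c29 LD2_c16 LD3_c23)) = (LP (LK LD1_c20 LD2_c2 LD3_c54)) :=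
  Lre_f IH (LK LD1_c29 LD2_c16 LD3_c23) (LK LD1_c20 LD2_c2 LD3_c54) Lrfl Lrfl
theorem f244337 : Led Lsl_ct (LP (LK LD1_c11 LD2_c9 LD3_c0)) = (LP (LK LD1_c20 LD2_c2 LD3_c54)) :=
  Lre_c IH (LK LD1_c11 LD2_c9 LD3_c0) (LK LD1_c20 LD2_c2 LD3_c54) Lrfl Lrfl
theorem f244394 : Led Lsl_ct (LP (LK LD1_c25 LD2_c8 LD3_c44)) = (LP (LK LD1_c15 LD2_c17 LD3_c58)) :=
  Lre_c IH (LK LD1_c25 LD2_c8 LD3_c44) (LK LD1_c15 LD2_c17 LD3_c58) Lrfl Lrfl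
theorem f244395 : Led Lsl_et (LP (LK LD1_c20 LD2_c2 LD3_c54)) = (LP (LK LD1_c25 LD2_c8 LD3_c44)) :=
  Lgr Lrot158 (Lpe (f244337 IH) (Lpr_ef (K18.f243916 IH) (Lpe (f244394 IH) (Lpn (LP (LK LD1_c25 LD2_c8 LD3_c44))))))
theorem f260102 : Led Lsl_et (LP (LK LD1_c28 LD2_c3 LD3_c39)) = (LP (LK LD1_c32 LD2_c31 LD3_c23)) :=
  Lre_e IH (LK LD1_c28 LD2_c3 LD3_c39) (LK LD1_c32 LD2_c31 LD3_c23) Lrfl Lrfl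
theorem f296479 : Led Lsl_ft (LP (LK LD1_c25 LD2_c8 LD3_c44)) = (LP (LK LD1_c28 LD2_c3 LD3_c39)) :=
  Lgr Lrot86 (Lpe (f244395 IH) (Lpe (f244425 IH) (Lpe (f244426 IH) (Lpr_ff (f296475 IH) (Lpe (f260102 IH) (Lpn (LP (LK LD1_c28 LD2_c3 LD3_c39))))))))
theorem f260097 : Led Lsl_cf (LP (LK LD1_c31 LD2_c46 LD3_c17)) = (LP (LK LD1_c32 LD2_c31 LD3_c23)) :=
  Lgr Lrot11 (Lpr_ct (f260093 IH) (Lpn (LP (LK LD1_c32 LD2_c31 LD3_c23))))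
theorem f244322 : Led Lsl_af (LP (LK LD1_c29 LD2_c16 LD3_c24)) = (LP (LK LD1_c31 LD2_c46 LD3_c17)) :=
  Lgr Lrot50 (Lpr_et (K18.f244320 IH) (Lpr_at (K18.f244315 IH) (Lpr_et (K18.f244321 IH) (Lpn (LP (LK LD1_c31 LD2_c46 LD3_c17))))))
theorem f244332 : Led Lsl_ct (LP (LK LD1_c29 LD2_c16 LD3_c24)) = (LP (LK LD1_c32 LD2_c43 LD3_c52)) :=
  Lre_c IH (LK LD1_c29 LD2_c16 LD3_c24) (LK LD1_c32 LD2_c43 LD3_c52) Lrfl Lrfl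
theorem f260100 : Led Lsl_at (LP (LK LD1_c32 LD2_c43 LD3_c52)) = (LP (LK LD1_c32 LD2_c31 LD3_c23)) :=
  Lgr Lrot107 (Lpe (f244332 IH) (Lpr_af (f244322 IH) (Lpr_cf (f260097 IH) (Lpn (LP (LK LD1_c32 LD2_c31 LD3_c23))))))
theorem f244408 : Led Lsl_et (LP (LK LD1_c29 LD2_c16 LD3_c23)) = (LP (LK LD1_c32 LD2_c43 LD3_c52)) :=
  Lre_e IH (LK LD1_c29 LD2_c16 LD3_c23) (LK LD1_c32 LD2_c43 LD3_c52) Lrfl Lrfl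
theorem f260103 : Led Lsl_af (LP (LK LD1_c29 LD2_c16 LD3_c23)) = (LP (LK LD1_c28 LD2_c3 LD3_c39)) :=
  Lgr Lrot50 (Lpr_et (f244408 IH) (Lpr_at (f260100 IH) (Lpr_et (f260092 IH) (Lpn (LP (LK LD1_c28 LD2_c3 LD3_c39))))))
theorem f296481 : Led Lsl_af (LP (LK LD1_c25 LD2_c8 LD3_c44)) = (LP (LK LD1_c20 LD2_c2 LD3_c54)) :=
  Lgr Lrot45 (Lpr_ft (f296479 IH) (Lpe (f260103 IH) (Lpr_ft (f244425 IH) (Lpn (LP (LK LD1_c20 LD2_c2 LD3_c54))))))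
theorem f226805 : Led Lsl_ct (LP (LK LD1_c15 LD2_c17 LD3_c58)) = (LP (LK LD1_c25 LD2_c8 LD3_c44)) :=
  Lre_c IH (LK LD1_c15 LD2_c17 LD3_c58) (LK LD1_c25 LD2_c8 LD3_c44) Lrfl Lrfl
theorem f296444 : Led Lsl_cf (LP (LK LD1_c4 LD2_c2 LD3_c37)) = (LP (LK LD1_c8 LD2_c4 LD3_c23)) :=
  Lgr Lrot11 (Lpr_ct (K18.f296440 IH) (Lpn (LP (LK LD1_c8 LD2_c4 LD3_c23))))
theorem f296454 : Led Lsl_dt (LP (LK LD1_c15 LD2_c11 LD3_c57)) = (LP (LK LD1_c8 LD2_c4 LD3_c23)) :=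
  Lre_d IH (LK LD1_c15 LD2_c11 LD3_c57) (LK LD1_c8 LD2_c4 LD3_c23) Lrfl Lrfl
theorem f296455 : Led Lsl_ct (LP (LK LD1_c25 LD2_c0 LD3_c52)) = (LP (LK LD1_c15 LD2_c11 LD3_c57)) :=
  Lre_c IH (LK LD1_c25 LD2_c0 LD3_c52) (LK LD1_c15 LD2_c11 LD3_c57) Lrfl Lrfl
theorem f296489 : Led Lsl_df (LP (LK LD1_c25 LD2_c0 LD3_c52)) = (LP (LK LD1_c29 LD2_c16 LD3_c23)) :=
  Lgr Lrot157 (Lpr_ct (f296455 IH) (Lpr_dt (f296454 IH) (Lpe (f296444 IH) (Lpr_dt (K18.f246113 IH) (Lpr_ct (K17.f220234 IH) (Lpr_dt (K18.f226789 IH) (Lpr_ct (f226805 IH) (Lpr_af (f296481 IH) (Lpe (f244425 IH) (Lpn (LP (LK LD1_c29 LD2_c16 LD3_c23))))))))))))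
theorem f244306 : Led Lsl_ct (LP (LK LD1_c20 LD2_c2 LD3_c55)) = (LP (LK LD1_c29 LD2_c16 LD3_c23)) :=
  Lre_c IH (LK LD1_c20 LD2_c2 LD3_c55) (LK LD1_c29 LD2_c16 LD3_c23) Lrfl Lrfl
theorem f259103 : Led Lsl_ft (LP (LK LD1_c8 LD2_c5 LD3_c28)) = (LP (LK LD1_c4 LD2_c2 LD3_c27)) :=
  Lre_f IH (LK LD1_c8 LD2_c5 LD3_c28) (LK LD1_c4 LD2_c2 LD3_c27) Lrfl Lrfl
theorem f259104 : Led Lsl_dt (LP (LK LD1_c8 LD2_c36 LD3_c43)) = (LP (LK LD1_c8 LD2_c5 LD3_c28)) :=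
  Lgr Lrot60 (Lpe (K18.f243947 IH) (Lpr_df (K15.f259083 IH) (Lpe (f259103 IH) (Lpn (LP (LK LD1_c8 LD2_c5 LD3_c28))))))
theorem f259108 : Led Lsl_df (LP (LK LD1_c8 LD2_c36 LD3_c43)) = (LP (LK LD1_c8 LD2_c5 LD3_c28)) :=
  Lgr Lrot38 (Lpr_dt (f259104 IH) (Lpn (LP (LK LD1_c8 LD2_c5 LD3_c28))))
theorem f260083 : Led Lsl_ft (LP (LK LD1_c5 LD2_c9 LD3_c11)) = (LP (LK LD1_c10 LD2_c8 LD3_c56)) :=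
  Lre_f IH (LK LD1_c5 LD2_c9 LD3_c11) (LK LD1_c10 LD2_c8 LD3_c56) Lrfl Lrfl
theorem f260084 : Led Lsl_cf (LP (LK LD1_c8 LD2_c5 LD3_c28)) = (LP (LK LD1_c10 LD2_c8 LD3_c56)) :=
  Lgr Lrot108 (Lpr_ft (f259103 IH) (Lpr_ct (f260058 IH) (Lpr_ft (f260083 IH) (Lpn (LP (LK LD1_c10 LD2_c8 LD3_c56))))))
theorem f260105 : Led Lsl_dt (LP (LK LD1_c18 LD2_c29 LD3_c2)) = (LP (LK LD1_c10 LD2_c8 LD3_c56)) :=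
  Lre_d IH (LK LD1_c18 LD2_c29 LD3_c2) (LK LD1_c10 LD2_c8 LD3_c56) Lrfl Lrfl
theorem f260117 : Led Lsl_ft (LP (LK LD1_c18 LD2_c29 LD3_c2)) = (LP (LK LD1_c10 LD2_c8 LD3_c55)) :=
  Lre_f IH (LK LD1_c18 LD2_c29 LD3_c2) (LK LD1_c10 LD2_c8 LD3_c55) Lrfl Lrfl
theorem f296493 : Led Lsl_af (LP (LK LD1_c15 LD2_c11 LD3_c57)) = (LP (LK LD1_c10 LD2_c8 LD3_c55)) :=
  Lgr Lrot109 (Lpe (f296455 IH) (Lpr_df (f296489 IH) (Lpe (f244306 IH) (Lpe (K18.f244305 IH) (Lpr_cf (K18.f244295 IH) (Lpr_df (f259108 IH) (Lpr_cf (f260084 IH) (Lpe (f260105 IH) (Lpr_ft (f260117 IH) (Lpn (LP (LK LD1_c10 LD2_c8 LD3_c55))))))))))))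
theorem f296497 : Led Lsl_ft (LP (LK LD1_c15 LD2_c11 LD3_c57)) = (LP (LK LD1_c25 LD2_c0 LD3_c53)) :=
  Lre_f IH (LK LD1_c15 LD2_c11 LD3_c57) (LK LD1_c25 LD2_c0 LD3_c53) Lrfl Lrfl
theorem f296498 : Led Lsl_at (LP (LK LD1_c25 LD2_c0 LD3_c53)) = (LP (LK LD1_c18 LD2_c29 LD3_c2)) :=
  Lgr Lrot66 (Lpe (f296497 IH) (Lpr_af (f296493 IH) (Lpe (f260117 IH) (Lpn (LP (LK LD1_c18 LD2_c29 LD3_c2))))))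
theorem f296502 : Led Lsl_af (LP (LK LD1_c25 LD2_c0 LD3_c53)) = (LP (LK LD1_c18 LD2_c29 LD3_c2)) :=
  Lgr Lrot0 (Lpr_at (f296498 IH) (Lpn (LP (LK LD1_c18 LD2_c29 LD3_c2))))
theorem f252728 : Led Lsl_ft (LP (LK LD1_c10 LD2_c8 LD3_c55)) = (LP (LK LD1_c18 LD2_c29 LD3_c2)) :=
  Lre_f IH (LK LD1_c10 LD2_c8 LD3_c55) (LK LD1_c18 LD2_c29 LD3_c2) Lrfl Lrfl
theorem f21747 : Led Lsl_et (LP (LK LD1_c5 LD2_c9 LD3_c11)) = (LP (LK LD1_c2 LD2_c31 LD3_c44)) :=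
  Lre_e IH (LK LD1_c5 LD2_c9 LD3_c11) (LK LD1_c2 LD2_c31 LD3_c44) Lrfl Lrfl
theorem f3758 : Led Lsl_et (LP (LK LD1_c9 LD2_c52 LD3_c32)) = (LP (LK LD1_c5 LD2_c1 LD3_c3)) :=
  Lre_e IH (LK LD1_c9 LD2_c52 LD3_c32) (LK LD1_c5 LD2_c1 LD3_c3) Lrfl Lrfl
theorem f3759 : Led Lsl_dt (LP (LK LD1_c9 LD2_c52 LD3_c32)) = (LP (LK LD1_c18 LD2_c4 LD3_c39)) :=
  Lre_d IH (LK LD1_c9 LD2_c52 LD3_c32) (LK LD1_c18 LD2_c4 LD3_c39) Lrfl Lrfl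
theorem f252719 : Led Lsl_gt (LP (LK LD1_c10 LD2_c8 LD3_c55)) = (LP (LK LD1_c18 LD2_c4 LD3_c39)) :=
  Lgr Lrot112 (Lpe (f21748 IH) (Lpr_et (f21747 IH) (Lpe (K13.f21744 IH) (Lpr_ef (K0.f21709 IH) (Lpr_dt (K15.f3575 IH) (Lpe (K15.f3421 IH) (Lpr_df (K15.f252704 IH) (Lpe (K15.f3739 IH) (Lpe (f3758 IH) (Lpr_dt (f3759 IH) (Lpn (LP (LK LD1_c18 LD2_c4 LD3_c39)))))))))))))
theorem f296516 : Led Lsl_gf (LP (LK LD1_c25 LD2_c0 LD3_c53)) = (LP (LK LD1_c18 LD2_c4 LD3_c39)) :=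
  Lgr Lrot76 (Lpr_af (f296502 IH) (Lpe (f252728 IH) (Lpr_gt (f252719 IH) (Lpn (LP (LK LD1_c18 LD2_c4 LD3_c39))))))
theorem f296512 : Led Lsl_dt (LP (LK LD1_c25 LD2_c0 LD3_c53)) = (LP (LK LD1_c15 LD2_c11 LD3_c58)) :=
  Lre_d IH (LK LD1_c25 LD2_c0 LD3_c53) (LK LD1_c15 LD2_c11 LD3_c58) Lrfl Lrfl
theorem f192252 : Led Lsl_gt (LP (LK LD1_c15 LD2_c16 LD3_c34)) = (LP (LK LD1_c8 LD2_c6 LD3_c46)) :=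
  Lre_g IH (LK LD1_c15 LD2_c16 LD3_c34) (LK LD1_c8 LD2_c6 LD3_c46) Lrfl Lrfl
theorem f263299 : Led Lsl_gt (LP (LK LD1_c18 LD2_c4 LD3_c38)) = (LP (LK LD1_c9 LD2_c52 LD3_c32)) :=
  Lre_g IH (LK LD1_c18 LD2_c4 LD3_c38) (LK LD1_c9 LD2_c52 LD3_c32) Lrfl Lrfl
theorem f296518 : Led Lsl_ct (LP (LK LD1_c15 LD2_c16 LD3_c34)) = (LP (LK LD1_c18 LD2_c4 LD3_c38)) :=
  Lgr Lrot8 (Lpr_gt (f192252 IH) (Lpr_dt (K15.f184820 IH) (Lpr_gt (K18.f184821 IH) (Lpe (K18.f296261 IH) (Lpr_cf (K18.f296448 IH) (Lpe (f296512 IH) (Lpr_gf (f296516 IH) (Lpe (f3759 IH) (Lpe (f263299 IH) (Lpn (LP (LK LD1_c18 LD2_c4 LD3_c38))))))))))))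
theorem f252737 : Led Lsl_ct (LP (LK LD1_c9 LD2_c52 LD3_c32)) = (LP (LK LD1_c5 LD2_c1 LD3_c4)) :=
  Lre_c IH (LK LD1_c9 LD2_c52 LD3_c32) (LK LD1_c5 LD2_c1 LD3_c4) Lrfl Lrfl
theorem f243744 : Led Lsl_ct (LP (LK LD1_c9 LD2_c33 LD3_c24)) = (LP (LK LD1_c4 LD2_c50 LD3_c39)) :=
  Lre_c IH (LK LD1_c9 LD2_c33 LD3_c24) (LK LD1_c4 LD2_c50 LD3_c39) Lrfl Lrfl
theorem f296524 : Led Lsl_gf (LP (LK LD1_c15 LD2_c16 LD3_c34)) = (LP (LK LD1_c15 LD2_c10 LD3_c1)) :=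
  Lgr Lrot147 (Lpr_ct (f296518 IH) (Lpr_gt (f263299 IH) (Lpr_ct (f252737 IH) (Lpr_df (K16.f274686 IH) (Lpe (f243744 IH) (Lpr_gf (K18.f265677 IH) (Lpr_cf (K18.f244291 IH) (Lpe (f243948 IH) (Lpe (f260006 IH) (Lpn (LP (LK LD1_c15 LD2_c10 LD3_c1))))))))))))
theorem f42481 : Led Lsl_et (LP (LK LD1_c20 LD2_c57 LD3_c2)) = (LP (LK LD1_c11 LD2_c53 LD3_c26)) :=
  Lre_e IH (LK LD1_c20 LD2_c57 LD3_c2) (LK LD1_c11 LD2_c53 LD3_c26) Lrfl Lrfl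
theorem f305603 : Led Lsl_df (LP (LK LD1_c15 LD2_c16 LD3_c34)) = (LP (LK LD1_c20 LD2_c57 LD3_c2)) :=
  Lgr Lrot132 (Lpr_gf (f296524 IH) (Lpr_df (f260011 IH) (Lpr_gf (f296269 IH) (Lpe (K18.f296252 IH) (Lpr_dt (K13.f228054 IH) (Lpe (K18.f275926 IH) (Lpe (K18.f28871 IH) (Lpr_et (K17.f279733 IH) (Lpr_gf (f305599 IH) (Lpe (f42481 IH) (Lpn (LP (LK LD1_c20 LD2_c57 LD3_c2)))))))))))))
theorem f305607 : Led Lsl_et (LP (LK LD1_c11 LD2_c53 LD3_c26)) = (LP (LK LD1_c20 LD2_c57 LD3_c2)) :=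
  Lre_e IH (LK LD1_c11 LD2_c53 LD3_c26) (LK LD1_c20 LD2_c57 LD3_c2) Lrfl Lrfl
theorem f227249 : Led Lsl_gt (LP (LK LD1_c2 LD2_c8 LD3_c25)) = (LP (LK LD1_c4 LD2_c21 LD3_c50)) :=
  Lre_g IH (LK LD1_c2 LD2_c8 LD3_c25) (LK LD1_c4 LD2_c21 LD3_c50) Lrfl Lrfl
theorem f227250 : Led Lsl_dt (LP (LK LD1_c8 LD2_c41 LD3_c19)) = (LP (LK LD1_c4 LD2_c21 LD3_c50)) :=
  Lre_d IH (LK LD1_c8 LD2_c41 LD3_c19) (LK LD1_c4 LD2_c21 LD3_c50) Lrfl Lrfl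
theorem f227251 : Led Lsl_et (LP (LK LD1_c8 LD2_c41 LD3_c19)) = (LP (LK LD1_c16 LD2_c16 LD3_c31)) :=
  Lre_e IH (LK LD1_c8 LD2_c41 LD3_c19) (LK LD1_c16 LD2_c16 LD3_c31) Lrfl Lrfl
theorem f225596 : Led Lsl_et (LP (LK LD1_c2 LD2_c33 LD3_c14)) = (LP (LK LD1_c1 LD2_c13 LD3_c33)) :=
  Lre_e IH (LK LD1_c2 LD2_c33 LD3_c14) (LK LD1_c1 LD2_c13 LD3_c33) Lrfl Lrfl
theorem f225597 : Led Lsl_dt (LP (LK LD1_c2 LD2_c33 LD3_c14)) = (LP (LK LD1_c5 LD2_c12 LD3_c49)) :=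
  Lre_d IH (LK LD1_c2 LD2_c33 LD3_c14) (LK LD1_c5 LD2_c12 LD3_c49) Lrfl Lrfl
theorem f225598 : Led Lsl_gt (LP (LK LD1_c10 LD2_c16 LD3_c1)) = (LP (LK LD1_c5 LD2_c12 LD3_c49)) :=
  Lre_g IH (LK LD1_c10 LD2_c16 LD3_c1) (LK LD1_c5 LD2_c12 LD3_c49) Lrfl Lrfl
theorem f199058 : Led Lsl_gt (LP (LK LD1_c4 LD2_c3 LD3_c32)) = (LP (LK LD1_c8 LD2_c7 LD3_c40)) :=
  Lre_g IH (LK LD1_c4 LD2_c3 LD3_c32) (LK LD1_c8 LD2_c7 LD3_c40) Lrfl Lrfl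
theorem f225595 : Led Lsl_et (LP (LK LD1_c15 LD2_c18 LD3_c20)) = (LP (LK LD1_c8 LD2_c7 LD3_c40)) :=
  Lre_e IH (LK LD1_c15 LD2_c18 LD3_c20) (LK LD1_c8 LD2_c7 LD3_c40) Lrfl Lrfl
theorem f225599 : Led Lsl_dt (LP (LK LD1_c15 LD2_c18 LD3_c20)) = (LP (LK LD1_c10 LD2_c16 LD3_c1)) :=
  Lgr Lrot136 (Lpr_et (f225595 IH) (Lpe (f199058 IH) (Lpe (K12.f198944 IH) (Lpr_dt (K11.f28966 IH) (Lpe (K13.f28841 IH) (Lpr_df (K13.f225589 IH) (Lpe (K13.f171662 IH) (Lpe (f225596 IH) (Lpr_dt (f225597 IH) (Lpe (f225598 IH) (Lpn (LP (LK LD1_c10 LD2_c16 LD3_c1)))))))))))))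
theorem f227252 : Led Lsl_gt (LP (LK LD1_c16 LD2_c16 LD3_c31)) = (LP (LK LD1_c15 LD2_c18 LD3_c20)) :=
  Lgr Lrot137 (Lpe (f227251 IH) (Lpr_dt (f227250 IH) (Lpe (f227249 IH) (Lpe (K16.f43131 IH) (Lpr_et (K14.f227229 IH) (Lpe (K13.f171662 IH) (Lpe (f225596 IH) (Lpr_dt (f225597 IH) (Lpe (f225598 IH) (Lpe (f225599 IH) (Lpn (LP (LK LD1_c15 LD2_c18 LD3_c20)))))))))))))
theorem f225603 : Led Lsl_et (LP (LK LD1_c8 LD2_c7 LD3_c40)) = (LP (LK LD1_c15 LD2_c18 LD3_c20)) :=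
  Lre_e IH (LK LD1_c8 LD2_c7 LD3_c40) (LK LD1_c15 LD2_c18 LD3_c20) Lrfl Lrfl
theorem f305601 : Led Lsl_dt (LP (LK LD1_c8 LD2_c7 LD3_c40)) = (LP (LK LD1_c11 LD2_c53 LD3_c26)) :=
  Lgr Lrot136 (Lpr_et (f225603 IH) (Lpe (f227252 IH) (Lpe (f227251 IH) (Lpr_dt (f227250 IH) (Lpe (f227249 IH) (Lpe (K16.f43131 IH) (Lpe (K17.f42921 IH) (Lpr_ef (K17.f279529 IH) (Lpe (K10.f194729 IH) (Lpr_gf (f305599 IH) (Lpn (LP (LK LD1_c11 LD2_c53 LD3_c26)))))))))))))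
theorem f225601 : Led Lsl_df (LP (LK LD1_c15 LD2_c18 LD3_c20)) = (LP (LK LD1_c10 LD2_c16 LD3_c1)) :=
  Lgr Lrot38 (Lpr_dt (f225599 IH) (Lpn (LP (LK LD1_c10 LD2_c16 LD3_c1))))
theorem f305608 : Led Lsl_et (LP (LK LD1_c15 LD2_c16 LD3_c34)) = (LP (LK LD1_c10 LD2_c16 LD3_c1)) :=
  Lgr Lrot71 (Lpr_df (f305603 IH) (Lpe (f305607 IH) (Lpe (f305601 IH) (Lpe (f225595 IH) (Lpr_df (f225601 IH) (Lpn (LP (LK LD1_c10 LD2_c16 LD3_c1))))))))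
theorem f305605 : Led Lsl_dt (LP (LK LD1_c15 LD2_c16 LD3_c34)) = (LP (LK LD1_c20 LD2_c57 LD3_c2)) :=
  Lgr Lrot42 (Lpr_df (f305603 IH) (Lpn (LP (LK LD1_c20 LD2_c57 LD3_c2))))
theorem f240211 : Led Lsl_ft (LP (LK LD1_c15 LD2_c12 LD3_c31)) = (LP (LK LD1_c8 LD2_c4 LD3_c36)) :=
  Lre_f IH (LK LD1_c15 LD2_c12 LD3_c31) (LK LD1_c8 LD2_c4 LD3_c36) Lrfl Lrfl
theorem f293511 : Led Lsl_gf (LP (LK LD1_c10 LD2_c16 LD3_c1)) = (LP (LK LD1_c15 LD2_c12 LD3_c31)) :=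
  Lgr Lrot47 (Lpr_gt (f225598 IH) (Lpr_af (K18.f293349 IH) (Lpe (f240211 IH) (Lpn (LP (LK LD1_c15 LD2_c12 LD3_c31))))))
theorem f218978 : Led Lsl_gt (LP (LK LD1_c4 LD2_c1 LD3_c6)) = (LP (LK LD1_c8 LD2_c2 LD3_c56)) :=
  Lre_g IH (LK LD1_c4 LD2_c1 LD3_c6) (LK LD1_c8 LD2_c2 LD3_c56) Lrfl Lrfl
theorem f269300 : Led Lsl_gt (LP (LK LD1_c8 LD2_c2 LD3_c56)) = (LP (LK LD1_c4 LD2_c3 LD3_c60)) :=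
  Lgr Lrot46 (Lpe (f218978 IH) (Lpr_ft (K17.f269298 IH) (Lpr_at (K16.f269287 IH) (Lpn (LP (LK LD1_c4 LD2_c3 LD3_c60))))))
theorem f269302 : Led Lsl_dt (LP (LK LD1_c15 LD2_c9 LD3_c16)) = (LP (LK LD1_c8 LD2_c2 LD3_c56)) :=
  Lre_d IH (LK LD1_c15 LD2_c9 LD3_c16) (LK LD1_c8 LD2_c2 LD3_c56) Lrfl Lrfl
theorem f305576 : Led Lsl_ef (LP (LK LD1_c8 LD2_c2 LD3_c56)) = (LP (LK LD1_c11 LD2_c53 LD3_c27)) :=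
  Lgr Lrot17 (Lpe (f218978 IH) (Lpe (K17.f238508 IH) (Lpr_dt (K15.f226881 IH) (Lpr_gf (K13.f238503 IH) (Lpr_df (K9.f28828 IH) (Lpe (K9.f28823 IH) (Lpe (K17.f28873 IH) (Lpr_dt (K12.f28874 IH) (Lpe (f28875 IH) (Lpr_df (f305572 IH) (Lpn (LP (LK LD1_c11 LD2_c53 LD3_c27)))))))))))))
theorem f305578 : Led Lsl_et (LP (LK LD1_c8 LD2_c2 LD3_c56)) = (LP (LK LD1_c11 LD2_c53 LD3_c27)) :=
  Lgr Lrot87 (Lpr_ef (f305576 IH) (Lpn (LP (LK LD1_c11 LD2_c53 LD3_c27))))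
theorem f218979 : Led Lsl_dt (LP (LK LD1_c8 LD2_c2 LD3_c56)) = (LP (LK LD1_c15 LD2_c9 LD3_c16)) :=
  Lre_d IH (LK LD1_c8 LD2_c2 LD3_c56) (LK LD1_c15 LD2_c9 LD3_c16) Lrfl Lrfl
theorem f274657 : Led Lsl_dt (LP (LK LD1_c4 LD2_c2 LD3_c57)) = (LP (LK LD1_c2 LD2_c43 LD3_c55)) :=
  Lgr Lrot105 (Lpe (K17.f51040 IH) (Lpe (K17.f50808 IH) (Lpe (K10.f50807 IH) (Lpr_cf (K10.f51035 IH) (Lpe (K16.f183821 IH) (Lpr_dt (K14.f168942 IH) (Lpr_gt (K16.f274652 IH) (Lpr_dt (K15.f189275 IH) (Lpe (K15.f199558 IH) (Lpn (LP (LK LD1_c2 LD2_c43 LD3_c55))))))))))))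
theorem f283776 : Led Lsl_et (LP (LK LD1_c4 LD2_c2 LD3_c57)) = (LP (LK LD1_c8 LD2_c6 LD3_c32)) :=
  Lre_e IH (LK LD1_c4 LD2_c2 LD3_c57) (LK LD1_c8 LD2_c6 LD3_c32) Lrfl Lrfl
theorem f291257 : Led Lsl_gt (LP (LK LD1_c8 LD2_c6 LD3_c32)) = (LP (LK LD1_c15 LD2_c16 LD3_c6)) :=
  Lre_g IH (LK LD1_c8 LD2_c6 LD3_c32) (LK LD1_c15 LD2_c16 LD3_c6) Lrfl Lrfl
theorem f187861 : Led Lsl_et (LP (LK LD1_c2 LD2_c58 LD3_c33)) = (LP (LK LD1_c6 LD2_c4 LD3_c47)) :=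
  Lre_e IH (LK LD1_c2 LD2_c58 LD3_c33) (LK LD1_c6 LD2_c4 LD3_c47) Lrfl Lrfl
theorem f229079 : Led Lsl_et (LP (LK LD1_c4 LD2_c2 LD3_c38)) = (LP (LK LD1_c1 LD2_c58 LD3_c20)) :=
  Lre_e IH (LK LD1_c4 LD2_c2 LD3_c38) (LK LD1_c1 LD2_c58 LD3_c20) Lrfl Lrfl
theorem f259102 : Led Lsl_et (LP (LK LD1_c1 LD2_c58 LD3_c12)) = (LP (LK LD1_c4 LD2_c2 LD3_c27)) :=
  Lre_e IH (LK LD1_c1 LD2_c58 LD3_c12) (LK LD1_c4 LD2_c2 LD3_c27) Lrfl Lrfl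
theorem f259106 : Led Lsl_ft (LP (LK LD1_c4 LD2_c2 LD3_c27)) = (LP (LK LD1_c8 LD2_c5 LD3_c28)) :=
  Lre_f IH (LK LD1_c4 LD2_c2 LD3_c27) (LK LD1_c8 LD2_c5 LD3_c28) Lrfl Lrfl
theorem f262519 : Led Lsl_ef (LP (LK LD1_c8 LD2_c5 LD3_c53)) = (LP (LK LD1_c8 LD2_c5 LD3_c28)) :=
  Lgr Lrot21 (Lpr_ft (K13.f229069 IH) (Lpr_et (f229079 IH) (Lpr_ft (K15.f262502 IH) (Lpr_et (f259102 IH) (Lpr_ft (f259106 IH) (Lpn (LP (LK LD1_c8 LD2_c5 LD3_c28))))))))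
theorem f262639 : Led Lsl_et (LP (LK LD1_c8 LD2_c7 LD3_c25)) = (LP (LK LD1_c8 LD2_c36 LD3_c43)) :=
  Lgr Lrot71 (Lpe (K13.f28854 IH) (Lpr_ef (K15.f262633 IH) (Lpe (K15.f229671 IH) (Lpr_ef (f262519 IH) (Lpe (f259104 IH) (Lpn (LP (LK LD1_c8 LD2_c36 LD3_c43))))))))
theorem f296359 : Led Lsl_gt (LP (LK LD1_c6 LD2_c4 LD3_c47)) = (LP (LK LD1_c8 LD2_c36 LD3_c43)) :=
  Lgr Lrot131 (Lpe (f187861 IH) (Lpr_dt (K15.f187860 IH) (Lpe (K10.f187847 IH) (Lpe (K10.f28029 IH) (Lpe (K14.f28046 IH) (Lpe (K13.f28047 IH) (Lpr_dt (K13.f228066 IH) (Lpr_gf (K18.f296352 IH) (Lpr_df (K15.f28883 IH) (Lpr_et (f262639 IH) (Lpn (LP (LK LD1_c8 LD2_c36 LD3_c43)))))))))))))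
theorem f296371 : Led Lsl_gf (LP (LK LD1_c6 LD2_c4 LD3_c47)) = (LP (LK LD1_c4 LD2_c3 LD3_c27)) :=
  Lgr Lrot47 (Lpr_gt (f296359 IH) (Lpr_af (K18.f244002 IH) (Lpe (K18.f296254 IH) (Lpn (LP (LK LD1_c4 LD2_c3 LD3_c27))))))
theorem f251496 : Led Lsl_et (LP (LK LD1_c5 LD2_c6 LD3_c5)) = (LP (LK LD1_c10 LD2_c3 LD3_c7)) :=
  Lre_e IH (LK LD1_c5 LD2_c6 LD3_c5) (LK LD1_c10 LD2_c3 LD3_c7) Lrfl Lrfl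
theorem f244115 : Led Lsl_et (LP (LK LD1_c6 LD2_c4 LD3_c47)) = (LP (LK LD1_c2 LD2_c58 LD3_c33)) :=
  Lre_e IH (LK LD1_c6 LD2_c4 LD3_c47) (LK LD1_c2 LD2_c58 LD3_c33) Lrfl Lrfl
theorem f265932 : Led Lsl_dt (LP (LK LD1_c10 LD2_c3 LD3_c7)) = (LP (LK LD1_c6 LD2_c4 LD3_c47)) :=
  Lgr Lrot77 (Lpe (f251496 IH) (Lpr_df (K15.f265930 IH) (Lpe (K15.f192196 IH) (Lpe (K15.f187860 IH) (Lpe (f244115 IH) (Lpn (LP (LK LD1_c6 LD2_c4 LD3_c47))))))))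
theorem f251469 : Led Lsl_et (LP (LK LD1_c10 LD2_c3 LD3_c7)) = (LP (LK LD1_c5 LD2_c6 LD3_c5)) :=
  Lre_e IH (LK LD1_c10 LD2_c3 LD3_c7) (LK LD1_c5 LD2_c6 LD3_c5) Lrfl Lrfl
theorem f266005 : Led Lsl_et (LP (LK LD1_c8 LD2_c5 LD3_c42)) = (LP (LK LD1_c4 LD2_c2 LD3_c33)) :=
  Lre_e IH (LK LD1_c8 LD2_c5 LD3_c42) (LK LD1_c4 LD2_c2 LD3_c33) Lrfl Lrfl
theorem f246100 : Led Lsl_et (LP (LK LD1_c4 LD2_c2 LD3_c33)) = (LP (LK LD1_c8 LD2_c5 LD3_c42)) :=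
  Lre_e IH (LK LD1_c4 LD2_c2 LD3_c33) (LK LD1_c8 LD2_c5 LD3_c42) Lrfl Lrfl
theorem f194592 : Led Lsl_et (LP (LK LD1_c8 LD2_c6 LD3_c32)) = (LP (LK LD1_c4 LD2_c2 LD3_c57)) :=
  Lre_e IH (LK LD1_c8 LD2_c6 LD3_c32) (LK LD1_c4 LD2_c2 LD3_c57) Lrfl Lrfl
theorem f283782 : Led Lsl_dt (LP (LK LD1_c8 LD2_c5 LD3_c42)) = (LP (LK LD1_c8 LD2_c6 LD3_c32)) :=
  Lgr Lrot77 (Lpe (f246100 IH) (Lpe (K17.f45885 IH) (Lpr_ef (K17.f283778 IH) (Lpe (f274657 IH) (Lpe (f194592 IH) (Lpn (LP (LK LD1_c8 LD2_c6 LD3_c32))))))))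
theorem f246103 : Led Lsl_gt (LP (LK LD1_c8 LD2_c5 LD3_c49)) = (LP (LK LD1_c4 LD2_c2 LD3_c37)) :=
  Lre_g IH (LK LD1_c8 LD2_c5 LD3_c49) (LK LD1_c4 LD2_c2 LD3_c37) Lrfl Lrfl
theorem f246104 : Led Lsl_et (LP (LK LD1_c15 LD2_c14 LD3_c42)) = (LP (LK LD1_c8 LD2_c5 LD3_c49)) :=
  Lre_e IH (LK LD1_c15 LD2_c14 LD3_c42) (LK LD1_c8 LD2_c5 LD3_c49) Lrfl Lrfl
theorem f296380 : Led Lsl_df (LP (LK LD1_c15 LD2_c16 LD3_c6)) = (LP (LK LD1_c15 LD2_c14 LD3_c42)) :=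
  Lgr Lrot168 (Lpe (f291257 IH) (Lpe (f283782 IH) (Lpr_et (f266005 IH) (Lpe (K17.f265902 IH) (Lpe (f251469 IH) (Lpr_dt (f265932 IH) (Lpr_gf (f296371 IH) (Lpe (K18.f246113 IH) (Lpe (f246103 IH) (Lpe (f246104 IH) (Lpn (LP (LK LD1_c15 LD2_c14 LD3_c42)))))))))))))
theorem f296382 : Led Lsl_dt (LP (LK LD1_c15 LD2_c16 LD3_c6)) = (LP (LK LD1_c15 LD2_c14 LD3_c42)) :=
  Lgr Lrot42 (Lpr_df (f296380 IH) (Lpn (LP (LK LD1_c15 LD2_c14 LD3_c42))))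
theorem f305580 : Led Lsl_gf (LP (LK LD1_c15 LD2_c9 LD3_c16)) = (LP (LK LD1_c15 LD2_c14 LD3_c42)) :=
  Lgr Lrot134 (Lpe (f218979 IH) (Lpr_et (f305578 IH) (Lpr_gt (f42457 IH) (Lpe (K15.f42453 IH) (Lpe (K10.f42139 IH) (Lpr_gt (K15.f216479 IH) (Lpe (f274657 IH) (Lpr_et (f283776 IH) (Lpr_gt (f291257 IH) (Lpr_dt (f296382 IH) (Lpn (LP (LK LD1_c15 LD2_c14 LD3_c42)))))))))))))
theorem f296384 : Led Lsl_et (LP (LK LD1_c8 LD2_c5 LD3_c49)) = (LP (LK LD1_c15 LD2_c14 LD3_c42)) :=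
  Lre_e IH (LK LD1_c8 LD2_c5 LD3_c49) (LK LD1_c15 LD2_c14 LD3_c42) Lrfl Lrfl
theorem f28107 : Led Lsl_et (LP (LK LD1_c1 LD2_c57 LD3_c24)) = (LP (LK LD1_c4 LD2_c1 LD3_c10)) :=
  Lre_e IH (LK LD1_c1 LD2_c57 LD3_c24) (LK LD1_c4 LD2_c1 LD3_c10) Lrfl Lrfl
theorem f28109 : Led Lsl_gt (LP (LK LD1_c4 LD2_c1 LD3_c10)) = (LP (LK LD1_c8 LD2_c3 LD3_c6)) :=
  Lre_g IH (LK LD1_c4 LD2_c1 LD3_c10) (LK LD1_c8 LD2_c3 LD3_c6) Lrfl Lrfl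
theorem f28045 : Led Lsl_et (LP (LK LD1_c15 LD2_c9 LD3_c38)) = (LP (LK LD1_c8 LD2_c3 LD3_c6)) :=
  Lre_e IH (LK LD1_c15 LD2_c9 LD3_c38) (LK LD1_c8 LD2_c3 LD3_c6) Lrfl Lrfl
theorem f296421 : Led Lsl_df (LP (LK LD1_c8 LD2_c5 LD3_c49)) = (LP (LK LD1_c15 LD2_c9 LD3_c38)) :=
  Lgr Lrot170 (Lpr_gt (f246103 IH) (Lpr_df (K18.f296417 IH) (Lpr_et (K17.f220227 IH) (Lpr_gt (K12.f53020 IH) (Lpr_dt (K11.f53019 IH) (Lpr_gt (K11.f28137 IH) (Lpe (K11.f28105 IH) (Lpr_et (f28107 IH) (Lpr_gt (f28109 IH) (Lpe (f28045 IH) (Lpn (LP (LK LD1_c15 LD2_c9 LD3_c38)))))))))))))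
theorem f296423 : Led Lsl_dt (LP (LK LD1_c8 LD2_c5 LD3_c49)) = (LP (LK LD1_c15 LD2_c9 LD3_c38)) :=
  Lgr Lrot42 (Lpr_df (f296421 IH) (Lpn (LP (LK LD1_c15 LD2_c9 LD3_c38))))
theorem f305612 : Led Lsl_gt (LP (LK LD1_c20 LD2_c57 LD3_c2)) = (LP (LK LD1_c15 LD2_c9 LD3_c38)) :=
  Lgr Lrot112 (Lpe (f305605 IH) (Lpr_et (f305608 IH) (Lpr_gf (f293511 IH) (Lpe (K17.f293220 IH) (Lpr_dt (K17.f269307 IH) (Lpe (f269300 IH) (Lpe (f269302 IH) (Lpr_gf (f305580 IH) (Lpe (f296384 IH) (Lpr_dt (f296423 IH) (Lpn (LP (LK LD1_c15 LD2_c9 LD3_c38)))))))))))))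
theorem f305634 : Led Lsl_dt (LP (LK LD1_c11 LD2_c53 LD3_c26)) = (LP (LK LD1_c8 LD2_c7 LD3_c40)) :=
  Lgr Lrot37 (Lpr_et (f305607 IH) (Lpr_gt (f305612 IH) (Lpe (f296421 IH) (Lpr_gt (f246103 IH) (Lpr_df (K18.f296417 IH) (Lpr_et (K17.f220227 IH) (Lpr_gt (K12.f53020 IH) (Lpe (K17.f28873 IH) (Lpr_dt (K12.f28874 IH) (Lpr_gt (f199058 IH) (Lpn (LP (LK LD1_c8 LD2_c7 LD3_c40)))))))))))))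
theorem f256632 : Led Lsl_gf (LP (LK LD1_c8 LD2_c39 LD3_c17)) = (LP (LK LD1_c8 LD2_c7 LD3_c40)) :=
  Lgr Lrot76 (Lpr_af (K15.f256622 IH) (Lpe (K15.f199022 IH) (Lpr_gt (f199058 IH) (Lpn (LP (LK LD1_c8 LD2_c7 LD3_c40))))))
theorem f305636 : Led Lsl_gf (LP (LK LD1_c4 LD2_c19 LD3_c14)) = (LP (LK LD1_c4 LD2_c3 LD3_c51)) :=
  Lgr Lrot141 (Lpr_ef (K15.f238567 IH) (Lpe (K16.f238565 IH) (Lpe (K13.f233739 IH) (Lpr_df (K10.f42139 IH) (Lpr_et (K15.f42453 IH) (Lpr_gt (f42403 IH) (Lpr_dt (f305634 IH) (Lpe (f256632 IH) (Lpr_df (K10.f187941 IH) (Lpr_et (K15.f256742 IH) (Lpn (LP (LK LD1_c4 LD2_c3 LD3_c51)))))))))))))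
theorem f228262 : Led Lsl_et (LP (LK LD1_c2 LD2_c45 LD3_c32)) = (LP (LK LD1_c1 LD2_c19 LD3_c7)) :=
  Lre_e IH (LK LD1_c2 LD2_c45 LD3_c32) (LK LD1_c1 LD2_c19 LD3_c7) Lrfl Lrfl
theorem f228287 : Led Lsl_dt (LP (LK LD1_c2 LD2_c45 LD3_c32)) = (LP (LK LD1_c5 LD2_c39 LD3_c10)) :=
  Lre_d IH (LK LD1_c2 LD2_c45 LD3_c32) (LK LD1_c5 LD2_c39 LD3_c10) Lrfl Lrfl
theorem f228288 : Led Lsl_gt (LP (LK LD1_c5 LD2_c39 LD3_c10)) = (LP (LK LD1_c11 LD2_c9 LD3_c22)) :=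
  Lre_g IH (LK LD1_c5 LD2_c39 LD3_c10) (LK LD1_c11 LD2_c9 LD3_c22) Lrfl Lrfl
theorem f228289 : Led Lsl_dt (LP (LK LD1_c20 LD2_c3 LD3_c39)) = (LP (LK LD1_c11 LD2_c9 LD3_c22)) :=
  Lre_d IH (LK LD1_c20 LD2_c3 LD3_c39) (LK LD1_c11 LD2_c9 LD3_c22) Lrfl Lrfl
theorem f190031 : Led Lsl_gt (LP (LK LD1_c15 LD2_c52 LD3_c49)) = (LP (LK LD1_c8 LD2_c27 LD3_c25)) :=
  Lre_g IH (LK LD1_c15 LD2_c52 LD3_c49) (LK LD1_c8 LD2_c27 LD3_c25) Lrfl Lrfl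
theorem f228290 : Led Lsl_et (LP (LK LD1_c20 LD2_c3 LD3_c39)) = (LP (LK LD1_c15 LD2_c52 LD3_c49)) :=
  Lgr Lrot121 (Lpr_dt (f228289 IH) (Lpe (f228288 IH) (Lpe (f228287 IH) (Lpr_et (f228262 IH) (Lpe (K12.f178108 IH) (Lpe (K12.f228149 IH) (Lpr_dt (K18.f228147 IH) (Lpr_gf (K18.f228277 IH) (Lpe (K18.f189989 IH) (Lpe (f190031 IH) (Lpn (LP (LK LD1_c15 LD2_c52 LD3_c49)))))))))))))
theorem f228297 : Led Lsl_ef (LP (LK LD1_c20 LD2_c3 LD3_c39)) = (LP (LK LD1_c15 LD2_c52 LD3_c49)) :=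
  Lgr Lrot88 (Lpr_et (f228290 IH) (Lpn (LP (LK LD1_c15 LD2_c52 LD3_c49))))
theorem f228280 : Led Lsl_ct (LP (LK LD1_c15 LD2_c9 LD3_c3)) = (LP (LK LD1_c15 LD2_c52 LD3_c49)) :=
  Lgr Lrot8 (Lpr_gt (K13.f194265 IH) (Lpr_dt (K13.f228066 IH) (Lpr_gt (K13.f197708 IH) (Lpe (K18.f228046 IH) (Lpe (K15.f228108 IH) (Lpe (K15.f228152 IH) (Lpr_gf (K18.f228277 IH) (Lpe (K18.f189989 IH) (Lpe (f190031 IH) (Lpn (LP (LK LD1_c15 LD2_c52 LD3_c49))))))))))))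
theorem f228300 : Led Lsl_ct (LP (LK LD1_c20 LD2_c3 LD3_c39)) = (LP (LK LD1_c16 LD2_c8 LD3_c26)) :=
  Lgr Lrot15 (Lpr_ef (f228297 IH) (Lpe (f228280 IH) (Lpe (K13.f228072 IH) (Lpn (LP (LK LD1_c16 LD2_c8 LD3_c26))))))
theorem f228295 : Led Lsl_dt (LP (LK LD1_c11 LD2_c9 LD3_c22)) = (LP (LK LD1_c20 LD2_c3 LD3_c39)) :=
  Lre_d IH (LK LD1_c11 LD2_c9 LD3_c22) (LK LD1_c20 LD2_c3 LD3_c39) Lrfl Lrfl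
theorem f228279 : Led Lsl_gt (LP (LK LD1_c5 LD2_c39 LD3_c9)) = (LP (LK LD1_c2 LD2_c45 LD3_c32)) :=
  Lre_g IH (LK LD1_c5 LD2_c39 LD3_c9) (LK LD1_c2 LD2_c45 LD3_c32) Lrfl Lrfl
theorem f228075 : Led Lsl_dt (LP (LK LD1_c8 LD2_c36 LD3_c56)) = (LP (LK LD1_c16 LD2_c8 LD3_c26)) :=
  Lre_d IH (LK LD1_c8 LD2_c36 LD3_c56) (LK LD1_c16 LD2_c8 LD3_c26) Lrfl Lrfl
theorem f228305 : Led Lsl_cf (LP (LK LD1_c5 LD2_c39 LD3_c9)) = (LP (LK LD1_c4 LD2_c19 LD3_c14)) :=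
  Lgr Lrot166 (Lpr_gt (f228279 IH) (Lpr_dt (f228287 IH) (Lpr_gt (f228288 IH) (Lpr_dt (f228295 IH) (Lpr_ct (f228300 IH) (Lpe (f228075 IH) (Lpe (K13.f228070 IH) (Lpe (K13.f228069 IH) (Lpe (K15.f228078 IH) (Lpn (LP (LK LD1_c4 LD2_c19 LD3_c14))))))))))))
theorem f216451 : Led Lsl_ct (LP (LK LD1_c1 LD2_c19 LD3_c8)) = (LP (LK LD1_c2 LD2_c45 LD3_c32)) :=
  Lre_c IH (LK LD1_c1 LD2_c19 LD3_c8) (LK LD1_c2 LD2_c45 LD3_c32) Lrfl Lrfl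
theorem f228316 : Led Lsl_bt (LP (LK LD1_c1 LD2_c19 LD3_c8)) = (LP (LK LD1_c0 LD2_c36 LD3_c35)) :=
  Lre_b IH (LK LD1_c1 LD2_c19 LD3_c8) (LK LD1_c0 LD2_c36 LD3_c35) Lrfl Lrfl
theorem f171489 : Led Lsl_gt (LP (LK LD1_c0 LD2_c36 LD3_c35)) = (LP (LK LD1_c1 LD2_c19 LD3_c15)) :=
  Lre_g IH (LK LD1_c0 LD2_c36 LD3_c35) (LK LD1_c1 LD2_c19 LD3_c15) Lrfl Lrfl
theorem f228317 : Led Lsl_bt (LP (LK LD1_c2 LD2_c45 LD3_c46)) = (LP (LK LD1_c1 LD2_c19 LD3_c15)) :=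
  Lre_b IH (LK LD1_c2 LD2_c45 LD3_c46) (LK LD1_c1 LD2_c19 LD3_c15) Lrfl Lrfl
theorem f228318 : Led Lsl_ct (LP (LK LD1_c2 LD2_c45 LD3_c46)) = (LP (LK LD1_c5 LD2_c39 LD3_c41)) :=
  Lre_c IH (LK LD1_c2 LD2_c45 LD3_c46) (LK LD1_c5 LD2_c39 LD3_c41) Lrfl Lrfl
theorem f228319 : Led Lsl_gt (LP (LK LD1_c5 LD2_c39 LD3_c41)) = (LP (LK LD1_c11 LD2_c10 LD3_c30)) :=
  Lre_g IH (LK LD1_c5 LD2_c39 LD3_c41) (LK LD1_c11 LD2_c10 LD3_c30) Lrfl Lrfl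
theorem f305638 : Led Lsl_cf (LP (LK LD1_c11 LD2_c10 LD3_c30)) = (LP (LK LD1_c8 LD2_c7 LD3_c55)) :=
  Lgr Lrot58 (Lpe (f228319 IH) (Lpe (f228318 IH) (Lpr_bt (f228317 IH) (Lpe (f171489 IH) (Lpe (f228316 IH) (Lpr_ct (f216451 IH) (Lpe (f228279 IH) (Lpr_cf (f228305 IH) (Lpr_gf (f305636 IH) (Lpe (K15.f256751 IH) (Lpn (LP (LK LD1_c8 LD2_c7 LD3_c55)))))))))))))
theorem f237170 : Led Lsl_ft (LP (LK LD1_c4 LD2_c3 LD3_c41)) = (LP (LK LD1_c8 LD2_c7 LD3_c55)) :=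
  Lre_f IH (LK LD1_c4 LD2_c3 LD3_c41) (LK LD1_c8 LD2_c7 LD3_c55) Lrfl Lrfl
theorem f237145 : Led Lsl_ct (LP (LK LD1_c8 LD2_c7 LD3_c51)) = (LP (LK LD1_c4 LD2_c3 LD3_c41)) :=
  Lre_c IH (LK LD1_c8 LD2_c7 LD3_c51) (LK LD1_c4 LD2_c3 LD3_c41) Lrfl Lrfl
theorem f305650 : Led Lsl_ft (LP (LK LD1_c11 LD2_c10 LD3_c30)) = (LP (LK LD1_c8 LD2_c7 LD3_c51)) :=
  Lgr Lrot4 (Lpr_cf (f305638 IH) (Lpe (f237170 IH) (Lpe (f237145 IH) (Lpn (LP (LK LD1_c8 LD2_c7 LD3_c51))))))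
theorem f276296 : Led Lsl_af (LP (LK LD1_c11 LD2_c5 LD3_c6)) = (LP (LK LD1_c8 LD2_c7 LD3_c51)) :=
  Lgr Lrot0 (Lpr_at (K18.f276294 IH) (Lpn (LP (LK LD1_c8 LD2_c7 LD3_c51))))
theorem f243401 : Led Lsl_et (LP (LK LD1_c8 LD2_c37 LD3_c14)) = (LP (LK LD1_c4 LD2_c19 LD3_c30)) :=
  Lre_e IH (LK LD1_c8 LD2_c37 LD3_c14) (LK LD1_c4 LD2_c19 LD3_c30) Lrfl Lrfl
theorem f301095 : Led Lsl_df (LP (LK LD1_c7 LD2_c58 LD3_c4)) = (LP (LK LD1_c8 LD2_c37 LD3_c14)) :=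
  Lgr Lrot168 (Lpr_gf (K18.f301077 IH) (Lpe (K15.f170349 IH) (Lpr_et (K16.f170339 IH) (Lpe (K14.f212500 IH) (Lpe (K13.f53843 IH) (Lpr_dt (K10.f33431 IH) (Lpe (K14.f222165 IH) (Lpe (K15.f219089 IH) (Lpe (K15.f263684 IH) (Lpe (f243401 IH) (Lpn (LP (LK LD1_c8 LD2_c37 LD3_c14)))))))))))))
theorem f301127 : Led Lsl_dt (LP (LK LD1_c7 LD2_c58 LD3_c4)) = (LP (LK LD1_c8 LD2_c37 LD3_c14)) :=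
  Lgr Lrot42 (Lpr_df (f301095 IH) (Lpn (LP (LK LD1_c8 LD2_c37 LD3_c14))))
theorem f243408 : Led Lsl_bt (LP (LK LD1_c8 LD2_c37 LD3_c14)) = (LP (LK LD1_c4 LD2_c19 LD3_c32)) :=
  Lre_b IH (LK LD1_c8 LD2_c37 LD3_c14) (LK LD1_c4 LD2_c19 LD3_c32) Lrfl Lrfl
theorem f301162 : Led Lsl_df (LP (LK LD1_c3 LD2_c58 LD3_c23)) = (LP (LK LD1_c4 LD2_c19 LD3_c32)) :=
  Lgr Lrot12 (Lpr_bt (K18.f301083 IH) (Lpr_dt (f301127 IH) (Lpr_bt (f243408 IH) (Lpn (LP (LK LD1_c4 LD2_c19 LD3_c32))))))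
theorem f55010 : Led Lsl_gt (LP (LK LD1_c7 LD2_c58 LD3_c8)) = (LP (LK LD1_c3 LD2_c58 LD3_c23)) :=
  Lre_g IH (LK LD1_c7 LD2_c58 LD3_c8) (LK LD1_c3 LD2_c58 LD3_c23) Lrfl Lrfl
theorem f267189 : Led Lsl_et (LP (LK LD1_c4 LD2_c19 LD3_c32)) = (LP (LK LD1_c2 LD2_c7 LD3_c10)) :=
  Lre_e IH (LK LD1_c4 LD2_c19 LD3_c32) (LK LD1_c2 LD2_c7 LD3_c10) Lrfl Lrfl
theorem f222118 : Led Lsl_et (LP (LK LD1_c4 LD2_c52 LD3_c7)) = (LP (LK LD1_c2 LD2_c23 LD3_c49)) :=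
  Lre_e IH (LK LD1_c4 LD2_c52 LD3_c7) (LK LD1_c2 LD2_c23 LD3_c49) Lrfl Lrfl
theorem f301197 : Led Lsl_df (LP (LK LD1_c7 LD2_c58 LD3_c8)) = (LP (LK LD1_c4 LD2_c52 LD3_c7)) :=
  Lgr Lrot170 (Lpr_gt (f55010 IH) (Lpr_df (f301162 IH) (Lpr_et (f267189 IH) (Lpr_gt (K15.f179570 IH) (Lpr_dt (K15.f189113 IH) (Lpe (K12.f213902 IH) (Lpe (K16.f53650 IH) (Lpr_et (K12.f53890 IH) (Lpr_gt (K18.f284112 IH) (Lpe (f222118 IH) (Lpn (LP (LK LD1_c4 LD2_c52 LD3_c7)))))))))))))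
theorem f222114 : Led Lsl_et (LP (LK LD1_c2 LD2_c23 LD3_c49)) = (LP (LK LD1_c4 LD2_c52 LD3_c7)) :=
  Lre_e IH (LK LD1_c2 LD2_c23 LD3_c49) (LK LD1_c4 LD2_c52 LD3_c7) Lrfl Lrfl
theorem f301206 : Led Lsl_et (LP (LK LD1_c7 LD2_c58 LD3_c8)) = (LP (LK LD1_c8 LD2_c13 LD3_c1)) :=
  Lgr Lrot71 (Lpr_df (f301197 IH) (Lpe (f222114 IH) (Lpr_df (K17.f222106 IH) (Lpe (K18.f200627 IH) (Lpr_df (K17.f289998 IH) (Lpn (LP (LK LD1_c8 LD2_c13 LD3_c1))))))))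
theorem f301213 : Led Lsl_ct (LP (LK LD1_c15 LD2_c2 LD3_c0)) = (LP (LK LD1_c7 LD2_c58 LD3_c8)) :=
  Lre_c IH (LK LD1_c15 LD2_c2 LD3_c0) (LK LD1_c7 LD2_c58 LD3_c8) Lrfl Lrfl
theorem f301229 : Led Lsl_ef (LP (LK LD1_c15 LD2_c2 LD3_c0)) = (LP (LK LD1_c11 LD2_c52 LD3_c39)) :=
  Lgr Lrot28 (Lpr_ct (f301213 IH) (Lpr_et (f301206 IH) (Lpe (K17.f265233 IH) (Lpn (LP (LK LD1_c11 LD2_c52 LD3_c39))))))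
theorem f301281 : Led Lsl_gt (LP (LK LD1_c15 LD2_c2 LD3_c0)) = (LP (LK LD1_c11 LD2_c5 LD3_c6)) :=
  Lgr Lrot131 (Lpr_ef (f301229 IH) (Lpe (K17.f274277 IH) (Lpe (K17.f54968 IH) (Lpe (K17.f54967 IH) (Lpe (K16.f54964 IH) (Lpe (K15.f54571 IH) (Lpr_dt (K1.f42747 IH) (Lpe (K16.f43149 IH) (Lpr_df (K18.f261270 IH) (Lpr_et (K18.f261065 IH) (Lpn (LP (LK LD1_c11 LD2_c5 LD3_c6)))))))))))))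
theorem f305663 : Led Lsl_gt (LP (LK LD1_c11 LD2_c10 LD3_c30)) = (LP (LK LD1_c15 LD2_c2 LD3_c0)) :=
  Lgr Lrot5 (Lpr_ft (f305650 IH) (Lpe (f276296 IH) (Lpe (f301281 IH) (Lpn (LP (LK LD1_c15 LD2_c2 LD3_c0))))))
theorem f289996 : Led Lsl_af (LP (LK LD1_c8 LD2_c13 LD3_c19)) = (LP (LK LD1_c11 LD2_c52 LD3_c39)) :=
  Lgr Lrot68 (Lpr_ct (K16.f252112 IH) (Lpr_at (K17.f289992 IH) (Lpe (K17.f265233 IH) (Lpn (LP (LK LD1_c11 LD2_c52 LD3_c39))))))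
theorem f301231 : Led Lsl_ef (LP (LK LD1_c7 LD2_c58 LD3_c8)) = (LP (LK LD1_c8 LD2_c13 LD3_c1)) :=
  Lgr Lrot88 (Lpr_et (f301206 IH) (Lpn (LP (LK LD1_c8 LD2_c13 LD3_c1))))
theorem f301200 : Led Lsl_ct (LP (LK LD1_c7 LD2_c58 LD3_c8)) = (LP (LK LD1_c15 LD2_c2 LD3_c0)) :=
  Lre_c IH (LK LD1_c7 LD2_c58 LD3_c8) (LK LD1_c15 LD2_c2 LD3_c0) Lrfl Lrfl
theorem f301268 : Led Lsl_et (LP (LK LD1_c15 LD2_c2 LD3_c0)) = (LP (LK LD1_c11 LD2_c52 LD3_c39)) :=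
  Lgr Lrot158 (Lpe (f301200 IH) (Lpr_ef (f301231 IH) (Lpe (K17.f265231 IH) (Lpn (LP (LK LD1_c11 LD2_c52 LD3_c39))))))
theorem f301614 : Led Lsl_at (LP (LK LD1_c9 LD2_c1 LD3_c17)) = (LP (LK LD1_c15 LD2_c2 LD3_c0)) :=
  Lgr Lrot80 (Lpr_ef (K18.f301611 IH) (Lpr_af (f289996 IH) (Lpe (f301268 IH) (Lpn (LP (LK LD1_c15 LD2_c2 LD3_c0))))))
theorem f305665 : Led Lsl_ft (LP (LK LD1_c5 LD2_c39 LD3_c41)) = (LP (LK LD1_c9 LD2_c1 LD3_c17)) :=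
  Lgr Lrot2 (Lpr_gt (f228319 IH) (Lpr_gt (f305663 IH) (Lpe (f301614 IH) (Lpn (LP (LK LD1_c9 LD2_c1 LD3_c17))))))
theorem f305681 : Led Lsl_dt (LP (LK LD1_c5 LD2_c39 LD3_c41)) = (LP (LK LD1_c11 LD2_c10 LD3_c32)) :=
  Lre_d IH (LK LD1_c5 LD2_c39 LD3_c41) (LK LD1_c11 LD2_c10 LD3_c32) Lrfl Lrfl
theorem f305682 : Led Lsl_ct (LP (LK LD1_c11 LD2_c10 LD3_c32)) = (LP (LK LD1_c20 LD2_c5 LD3_c16)) :=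
  Lre_c IH (LK LD1_c11 LD2_c10 LD3_c32) (LK LD1_c20 LD2_c5 LD3_c16) Lrfl Lrfl
theorem f301202 : Led Lsl_ct (LP (LK LD1_c9 LD2_c36 LD3_c35)) = (LP (LK LD1_c4 LD2_c52 LD3_c7)) :=
  Lre_c IH (LK LD1_c9 LD2_c36 LD3_c35) (LK LD1_c4 LD2_c52 LD3_c7) Lrfl Lrfl
theorem f290123 : Led Lsl_dt (LP (LK LD1_c17 LD2_c41 LD3_c51)) = (LP (LK LD1_c9 LD2_c36 LD3_c35)) :=
  Lre_d IH (LK LD1_c17 LD2_c41 LD3_c51) (LK LD1_c9 LD2_c36 LD3_c35) Lrfl Lrfl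
theorem f301203 : Led Lsl_ct (LP (LK LD1_c27 LD2_c29 LD3_c14)) = (LP (LK LD1_c17 LD2_c41 LD3_c51)) :=
  Lre_c IH (LK LD1_c27 LD2_c29 LD3_c14) (LK LD1_c17 LD2_c41 LD3_c51) Lrfl Lrfl
theorem f305683 : Led Lsl_dt (LP (LK LD1_c20 LD2_c5 LD3_c16)) = (LP (LK LD1_c27 LD2_c29 LD3_c14)) :=
  Lgr Lrot32 (Lpe (f305682 IH) (Lpe (f305681 IH) (Lpr_ft (f305665 IH) (Lpr_at (f301614 IH) (Lpe (f301200 IH) (Lpr_df (f301197 IH) (Lpe (f301202 IH) (Lpe (f290123 IH) (Lpe (f301203 IH) (Lpn (LP (LK LD1_c27 LD2_c29 LD3_c14))))))))))))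
theorem f301199 : Led Lsl_at (LP (LK LD1_c2 LD2_c23 LD3_c51)) = (LP (LK LD1_c4 LD2_c52 LD3_c7)) :=
  Lre_a IH (LK LD1_c2 LD2_c23 LD3_c51) (LK LD1_c4 LD2_c52 LD3_c7) Lrfl Lrfl
theorem f305692 : Led Lsl_ft (LP (LK LD1_c4 LD2_c52 LD3_c14)) = (LP (LK LD1_c2 LD2_c23 LD3_c51)) :=
  Lre_f IH (LK LD1_c4 LD2_c52 LD3_c14) (LK LD1_c2 LD2_c23 LD3_c51) Lrfl Lrfl
theorem f305693 : Led Lsl_df (LP (LK LD1_c2 LD2_c45 LD3_c46)) = (LP (LK LD1_c4 LD2_c52 LD3_c14)) :=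
  Lgr Lrot157 (Lpr_ct (f228318 IH) (Lpr_dt (f305681 IH) (Lpr_ct (f305682 IH) (Lpr_dt (f305683 IH) (Lpr_ct (f301203 IH) (Lpr_dt (f290123 IH) (Lpr_ct (f301202 IH) (Lpe (f301199 IH) (Lpe (f305692 IH) (Lpn (LP (LK LD1_c4 LD2_c52 LD3_c14))))))))))))
theorem f305705 : Led Lsl_ft (LP (LK LD1_c2 LD2_c23 LD3_c51)) = (LP (LK LD1_c4 LD2_c52 LD3_c14)) :=
  Lre_f IH (LK LD1_c2 LD2_c23 LD3_c51) (LK LD1_c4 LD2_c52 LD3_c14) Lrfl Lrfl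
theorem f305706 : Led Lsl_ft (LP (LK LD1_c2 LD2_c45 LD3_c46)) = (LP (LK LD1_c4 LD2_c31 LD3_c39)) :=
  Lgr Lrot54 (Lpr_df (f305693 IH) (Lpe (f305705 IH) (Lpe (K18.f301635 IH) (Lpn (LP (LK LD1_c4 LD2_c31 LD3_c39))))))
theorem f305720 : Led Lsl_et (LP (LK LD1_c5 LD2_c39 LD3_c42)) = (LP (LK LD1_c2 LD2_c45 LD3_c46)) :=
  Lre_e IH (LK LD1_c5 LD2_c39 LD3_c42) (LK LD1_c2 LD2_c45 LD3_c46) Lrfl Lrfl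
theorem f212627 : Led Lsl_ct (LP (LK LD1_c9 LD2_c1 LD3_c17)) = (LP (LK LD1_c4 LD2_c31 LD3_c39)) :=
  Lre_c IH (LK LD1_c9 LD2_c1 LD3_c17) (LK LD1_c4 LD2_c31 LD3_c39) Lrfl Lrfl
theorem f301616 : Led Lsl_et (LP (LK LD1_c4 LD2_c31 LD3_c39)) = (LP (LK LD1_c4 LD2_c6 LD3_c23)) :=
  Lgr Lrot158 (Lpe (f212627 IH) (Lpr_ef (K18.f301611 IH) (Lpe (K15.f252108 IH) (Lpn (LP (LK LD1_c4 LD2_c6 LD3_c23))))))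
theorem f253944 : Led Lsl_et (LP (LK LD1_c2 LD2_c32 LD3_c10)) = (LP (LK LD1_c5 LD2_c10 LD3_c13)) :=
  Lre_e IH (LK LD1_c2 LD2_c32 LD3_c10) (LK LD1_c5 LD2_c10 LD3_c13) Lrfl Lrfl
theorem f305721 : Led Lsl_ff (LP (LK LD1_c5 LD2_c39 LD3_c42)) = (LP (LK LD1_c5 LD2_c10 LD3_c13)) :=
  Lgr Lrot72 (Lpr_et (f305720 IH) (Lpr_ft (f305706 IH) (Lpr_et (f301616 IH) (Lpr_ft (K17.f289976 IH) (Lpr_et (f253944 IH) (Lpn (LP (LK LD1_c5 LD2_c10 LD3_c13))))))))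
theorem f305737 : Led Lsl_dt (LP (LK LD1_c5 LD2_c39 LD3_c42)) = (LP (LK LD1_c5 LD2_c10 LD3_c14)) :=
  Lgr Lrot60 (Lpr_ff (f305721 IH) (Lpe (K14.f248038 IH) (Lpe (K17.f289941 IH) (Lpn (LP (LK LD1_c5 LD2_c10 LD3_c14))))))
theorem f300091 : Led Lsl_bf (LP (LK LD1_c9 LD2_c40 LD3_c11)) = (LP (LK LD1_c9 LD2_c54 LD3_c61)) :=
  Lgr Lrot24 (Lpr_bt (K18.f300085 IH) (Lpn (LP (LK LD1_c9 LD2_c54 LD3_c61))))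
theorem f289937 : Led Lsl_bt (LP (LK LD1_c5 LD2_c10 LD3_c14)) = (LP (LK LD1_c2 LD2_c32 LD3_c16)) :=
  Lre_b IH (LK LD1_c5 LD2_c10 LD3_c14) (LK LD1_c2 LD2_c32 LD3_c16) Lrfl Lrfl
theorem f257772 : Led Lsl_bt (LP (LK LD1_c2 LD2_c29 LD3_c10)) = (LP (LK LD1_c5 LD2_c3 LD3_c0)) :=
  Lre_b IH (LK LD1_c2 LD2_c29 LD3_c10) (LK LD1_c5 LD2_c3 LD3_c0) Lrfl Lrfl
theorem f300093 : Led Lsl_at (LP (LK LD1_c2 LD2_c32 LD3_c16)) = (LP (LK LD1_c2 LD2_c29 LD3_c10)) :=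
  Lgr Lrot67 (Lpe (f289937 IH) (Lpe (K17.f289929 IH) (Lpr_bf (f300091 IH) (Lpr_af (K18.f257681 IH) (Lpe (f257772 IH) (Lpn (LP (LK LD1_c2 LD2_c29 LD3_c10))))))))
theorem f299757 : Led Lsl_ct (LP (LK LD1_c5 LD2_c10 LD3_c22)) = (LP (LK LD1_c2 LD2_c32 LD3_c16)) :=
  Lre_c IH (LK LD1_c5 LD2_c10 LD3_c22) (LK LD1_c2 LD2_c32 LD3_c16) Lrfl Lrfl
theorem f300110 : Led Lsl_af (LP (LK LD1_c5 LD2_c10 LD3_c22)) = (LP (LK LD1_c5 LD2_c3 LD3_c12)) :=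
  Lgr Lrot68 (Lpr_ct (f299757 IH) (Lpr_at (f300093 IH) (Lpr_ct (K17.f288300 IH) (Lpn (LP (LK LD1_c5 LD2_c3 LD3_c12))))))
theorem f300179 : Led Lsl_gf (LP (LK LD1_c5 LD2_c10 LD3_c22)) = (LP (LK LD1_c5 LD2_c3 LD3_c10)) :=
  Lgr Lrot76 (Lpr_af (f300110 IH) (Lpe (K17.f288292 IH) (Lpr_gt (K16.f165836 IH) (Lpn (LP (LK LD1_c5 LD2_c3 LD3_c10))))))
theorem f289952 : Led Lsl_ct (LP (LK LD1_c2 LD2_c32 LD3_c16)) = (LP (LK LD1_c5 LD2_c10 LD3_c22)) :=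
  Lre_c IH (LK LD1_c2 LD2_c32 LD3_c16) (LK LD1_c5 LD2_c10 LD3_c22) Lrfl Lrfl
theorem f289951 : Led Lsl_bt (LP (LK LD1_c2 LD2_c32 LD3_c16)) = (LP (LK LD1_c5 LD2_c10 LD3_c14)) :=
  Lre_b IH (LK LD1_c2 LD2_c32 LD3_c16) (LK LD1_c5 LD2_c10 LD3_c14) Lrfl Lrfl
theorem f246215 : Led Lsl_bt (LP (LK LD1_c5 LD2_c17 LD3_c40)) = (LP (LK LD1_c2 LD2_c35 LD3_c37)) :=
  Lre_b IH (LK LD1_c5 LD2_c17 LD3_c40) (LK LD1_c2 LD2_c35 LD3_c37) Lrfl Lrfl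
theorem f246202 : Led Lsl_et (LP (LK LD1_c5 LD2_c2 LD3_c51)) = (LP (LK LD1_c9 LD2_c56 LD3_c31)) :=
  Lre_e IH (LK LD1_c5 LD2_c2 LD3_c51) (LK LD1_c9 LD2_c56 LD3_c31) Lrfl Lrfl
theorem f246203 : Led Lsl_gf (LP (LK LD1_c10 LD2_c24 LD3_c56)) = (LP (LK LD1_c9 LD2_c56 LD3_c31)) :=
  Lgr Lrot141 (Lpe (K16.f193119 IH) (Lpe (K14.f193117 IH) (Lpr_gt (K14.f43763 IH) (Lpe (K14.f43559 IH) (Lpr_et (K13.f44339 IH) (Lpe (K14.f214342 IH) (Lpr_dt (K14.f190490 IH) (Lpr_gt (K14.f246195 IH) (Lpe (K14.f242374 IH) (Lpr_et (f246202 IH) (Lpn (LP (LK LD1_c9 LD2_c56 LD3_c31)))))))))))))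
theorem f246208 : Led Lsl_ct (LP (LK LD1_c5 LD2_c2 LD3_c52)) = (LP (LK LD1_c9 LD2_c56 LD3_c31)) :=
  Lre_c IH (LK LD1_c5 LD2_c2 LD3_c52) (LK LD1_c9 LD2_c56 LD3_c31) Lrfl Lrfl
theorem f300183 : Led Lsl_gt (LP (LK LD1_c5 LD2_c10 LD3_c14)) = (LP (LK LD1_c5 LD2_c2 LD3_c52)) :=
  Lgr Lrot82 (Lpe (f289951 IH) (Lpr_ct (f289952 IH) (Lpr_gf (f300179 IH) (Lpe (K16.f275983 IH) (Lpr_bt (K15.f261809 IH) (Lpe (K15.f263019 IH) (Lpe (f246215 IH) (Lpr_ct (K16.f246214 IH) (Lpr_gf (f246203 IH) (Lpe (f246208 IH) (Lpn (LP (LK LD1_c5 LD2_c2 LD3_c52)))))))))))))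
theorem f300186 : Led Lsl_gf (LP (LK LD1_c4 LD2_c54 LD3_c21)) = (LP (LK LD1_c5 LD2_c2 LD3_c52)) :=
  Lgr Lrot76 (Lpr_af (K17.f289942 IH) (Lpe (K17.f289941 IH) (Lpr_gt (f300183 IH) (Lpn (LP (LK LD1_c5 LD2_c2 LD3_c52))))))
theorem f250460 : Led Lsl_dt (LP (LK LD1_c8 LD2_c13 LD3_c18)) = (LP (LK LD1_c4 LD2_c54 LD3_c21)) :=
  Lgr Lrot42 (Lpr_df (K17.f250453 IH) (Lpn (LP (LK LD1_c4 LD2_c54 LD3_c21))))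
theorem f41362 : Led Lsl_et (LP (LK LD1_c3 LD2_c58 LD3_c26)) = (LP (LK LD1_c1 LD2_c55 LD3_c61)) :=
  Lre_e IH (LK LD1_c3 LD2_c58 LD3_c26) (LK LD1_c1 LD2_c55 LD3_c61) Lrfl Lrfl
theorem f300193 : Led Lsl_dt (LP (LK LD1_c3 LD2_c58 LD3_c26)) = (LP (LK LD1_c5 LD2_c2 LD3_c52)) :=
  Lgr Lrot136 (Lpr_et (f41362 IH) (Lpe (K12.f54972 IH) (Lpr_ef (K15.f54956 IH) (Lpr_dt (K9.f54973 IH) (Lpe (K10.f54974 IH) (Lpe (K14.f54975 IH) (Lpr_gf (K16.f265055 IH) (Lpe (K17.f187406 IH) (Lpr_dt (f250460 IH) (Lpr_gf (f300186 IH) (Lpn (LP (LK LD1_c5 LD2_c2 LD3_c52)))))))))))))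
theorem f55004 : Led Lsl_et (LP (LK LD1_c1 LD2_c55 LD3_c59)) = (LP (LK LD1_c3 LD2_c58 LD3_c23)) :=
  Lre_e IH (LK LD1_c1 LD2_c55 LD3_c59) (LK LD1_c3 LD2_c58 LD3_c23) Lrfl Lrfl
theorem f306693 : Led Lsl_gf (LP (LK LD1_c2 LD2_c45 LD3_c46)) = (LP (LK LD1_c3 LD2_c58 LD3_c23)) :=
  Lgr Lrot141 (Lpe (f305720 IH) (Lpr_dt (f305737 IH) (Lpr_gt (f300183 IH) (Lpe (f300193 IH) (Lpr_et (f41362 IH) (Lpr_gt (K12.f41248 IH) (Lpr_dt (K1.f41236 IH) (Lpr_gt (K12.f41372 IH) (Lpe (K16.f42734 IH) (Lpr_et (f55004 IH) (Lpn (LP (LK LD1_c3 LD2_c58 LD3_c23)))))))))))))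
theorem f305709 : Led Lsl_gt (LP (LK LD1_c2 LD2_c45 LD3_c46)) = (LP (LK LD1_c5 LD2_c39 LD3_c39)) :=
  Lre_g IH (LK LD1_c2 LD2_c45 LD3_c46) (LK LD1_c5 LD2_c39 LD3_c39) Lrfl Lrfl
theorem f301183 : Led Lsl_ft (LP (LK LD1_c3 LD2_c58 LD3_c23)) = (LP (LK LD1_c7 LD2_c58 LD3_c9)) :=
  Lre_f IH (LK LD1_c3 LD2_c58 LD3_c23) (LK LD1_c7 LD2_c58 LD3_c9) Lrfl Lrfl
theorem f306695 : Led Lsl_af (LP (LK LD1_c5 LD2_c39 LD3_c39)) = (LP (LK LD1_c7 LD2_c58 LD3_c9)) :=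
  Lgr Lrot31 (Lpe (f305709 IH) (Lpr_gf (f306693 IH) (Lpr_ft (f301183 IH) (Lpn (LP (LK LD1_c7 LD2_c58 LD3_c9))))))
theorem f305712 : Led Lsl_ct (LP (LK LD1_c5 LD2_c39 LD3_c39)) = (LP (LK LD1_c11 LD2_c10 LD3_c27)) :=
  Lre_c IH (LK LD1_c5 LD2_c39 LD3_c39) (LK LD1_c11 LD2_c10 LD3_c27) Lrfl Lrfl
theorem f301290 : Led Lsl_ct (LP (LK LD1_c15 LD2_c1 LD3_c61)) = (LP (LK LD1_c7 LD2_c58 LD3_c9)) :=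
  Lre_c IH (LK LD1_c15 LD2_c1 LD3_c61) (LK LD1_c7 LD2_c58 LD3_c9) Lrfl Lrfl
theorem f306741 : Led Lsl_at (LP (LK LD1_c11 LD2_c10 LD3_c27)) = (LP (LK LD1_c15 LD2_c1 LD3_c61)) :=
  Lgr Lrot107 (Lpe (f305712 IH) (Lpr_af (f306695 IH) (Lpe (f301290 IH) (Lpn (LP (LK LD1_c15 LD2_c1 LD3_c61))))))
theorem f306745 : Led Lsl_af (LP (LK LD1_c11 LD2_c10 LD3_c27)) = (LP (LK LD1_c15 LD2_c1 LD3_c61)) :=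
  Lgr Lrot0 (Lpr_at (f306741 IH) (Lpn (LP (LK LD1_c15 LD2_c1 LD3_c61))))
theorem f306774 : Led Lsl_ft (LP (LK LD1_c7 LD2_c58 LD3_c7)) = (LP (LK LD1_c15 LD2_c1 LD3_c61)) :=
  Lre_f IH (LK LD1_c7 LD2_c58 LD3_c7) (LK LD1_c15 LD2_c1 LD3_c61) Lrfl Lrfl
theorem f306775 : Led Lsl_gf (LP (LK LD1_c11 LD2_c10 LD3_c27)) = (LP (LK LD1_c15 LD2_c1 LD3_c58)) :=
  Lgr Lrot76 (Lpr_af (f306745 IH) (Lpe (f306774 IH) (Lpr_gt (K18.f301092 IH) (Lpn (LP (LK LD1_c15 LD2_c1 LD3_c58))))))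
theorem f301338 : Led Lsl_af (LP (LK LD1_c15 LD2_c1 LD3_c59)) = (LP (LK LD1_c15 LD2_c27 LD3_c61)) :=
  Lgr Lrot45 (Lpr_ft (K18.f301335 IH) (Lpe (K18.f301329 IH) (Lpr_ft (K18.f301309 IH) (Lpn (LP (LK LD1_c15 LD2_c27 LD3_c61))))))
theorem f306777 : Led Lsl_gt (LP (LK LD1_c11 LD2_c10 LD3_c27)) = (LP (LK LD1_c15 LD2_c1 LD3_c59)) :=
  Lgr Lrot46 (Lpr_gf (f306775 IH) (Lpr_ft (K18.f301309 IH) (Lpe (f301338 IH) (Lpn (LP (LK LD1_c15 LD2_c1 LD3_c59))))))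
theorem f305717 : Led Lsl_bt (LP (LK LD1_c1 LD2_c19 LD3_c15)) = (LP (LK LD1_c2 LD2_c45 LD3_c46)) :=
  Lre_b IH (LK LD1_c1 LD2_c19 LD3_c15) (LK LD1_c2 LD2_c45 LD3_c46) Lrfl Lrfl
theorem f228320 : Led Lsl_ct (LP (LK LD1_c1 LD2_c19 LD3_c15)) = (LP (LK LD1_c2 LD2_c45 LD3_c47)) :=
  Lre_c IH (LK LD1_c1 LD2_c19 LD3_c15) (LK LD1_c2 LD2_c45 LD3_c47) Lrfl Lrfl
theorem f167684 : Led Lsl_ct (LP (LK LD1_c1 LD2_c2 LD3_c53)) = (LP (LK LD1_c2 LD2_c11 LD3_c45)) :=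
  Lre_c IH (LK LD1_c1 LD2_c2 LD3_c53) (LK LD1_c2 LD2_c11 LD3_c45) Lrfl Lrfl
theorem f306781 : Led Lsl_gf (LP (LK LD1_c2 LD2_c45 LD3_c47)) = (LP (LK LD1_c2 LD2_c11 LD3_c45)) :=
  Lgr Lrot126 (Lpe (f228320 IH) (Lpr_bt (f305717 IH) (Lpr_gt (f305709 IH) (Lpr_ct (f305712 IH) (Lpr_gt (f306777 IH) (Lpr_cf (K18.f301340 IH) (Lpr_bt (K18.f274499 IH) (Lpr_gt (K18.f167749 IH) (Lpe (K17.f167705 IH) (Lpr_ct (f167684 IH) (Lpn (LP (LK LD1_c2 LD2_c11 LD3_c45)))))))))))))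
theorem f306587 : Led Lsl_et (LP (LK LD1_c5 LD2_c39 LD3_c45)) = (LP (LK LD1_c2 LD2_c45 LD3_c47)) :=
  Lre_e IH (LK LD1_c5 LD2_c39 LD3_c45) (LK LD1_c2 LD2_c45 LD3_c47) Lrfl Lrfl
theorem f173172 : Led Lsl_et (LP (LK LD1_c1 LD2_c2 LD3_c52)) = (LP (LK LD1_c2 LD2_c11 LD3_c45)) :=
  Lre_e IH (LK LD1_c1 LD2_c2 LD3_c52) (LK LD1_c2 LD2_c11 LD3_c45) Lrfl Lrfl
theorem f173173 : Led Lsl_et (LP (LK LD1_c2 LD2_c11 LD3_c52)) = (LP (LK LD1_c1 LD2_c2 LD3_c55)) :=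
  Lre_e IH (LK LD1_c2 LD2_c11 LD3_c52) (LK LD1_c1 LD2_c2 LD3_c55) Lrfl Lrfl
theorem f173174 : Led Lsl_dt (LP (LK LD1_c2 LD2_c11 LD3_c52)) = (LP (LK LD1_c4 LD2_c29 LD3_c41)) :=
  Lre_d IH (LK LD1_c2 LD2_c11 LD3_c52) (LK LD1_c4 LD2_c29 LD3_c41) Lrfl Lrfl
theorem f173175 : Led Lsl_gt (LP (LK LD1_c8 LD2_c57 LD3_c35)) = (LP (LK LD1_c4 LD2_c29 LD3_c41)) :=
  Lre_g IH (LK LD1_c8 LD2_c57 LD3_c35) (LK LD1_c4 LD2_c29 LD3_c41) Lrfl Lrfl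
theorem f306790 : Led Lsl_dt (LP (LK LD1_c5 LD2_c39 LD3_c45)) = (LP (LK LD1_c8 LD2_c57 LD3_c35)) :=
  Lgr Lrot136 (Lpr_et (f306587 IH) (Lpr_gf (f306781 IH) (Lpe (f173172 IH) (Lpr_dt (K9.f167777 IH) (Lpe (K12.f173163 IH) (Lpr_df (K1.f41025 IH) (Lpr_gf (K9.f173161 IH) (Lpe (f173173 IH) (Lpr_dt (f173174 IH) (Lpe (f173175 IH) (Lpn (LP (LK LD1_c8 LD2_c57 LD3_c35)))))))))))))
theorem f305739 : Led Lsl_ft (LP (LK LD1_c5 LD2_c39 LD3_c42)) = (LP (LK LD1_c5 LD2_c10 LD3_c13)) :=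
  Lgr Lrot48 (Lpr_ff (f305721 IH) (Lpn (LP (LK LD1_c5 LD2_c10 LD3_c13))))
theorem f305752 : Led Lsl_bt (LP (LK LD1_c2 LD2_c45 LD3_c48)) = (LP (LK LD1_c5 LD2_c39 LD3_c42)) :=
  Lre_b IH (LK LD1_c2 LD2_c45 LD3_c48) (LK LD1_c5 LD2_c39 LD3_c42) Lrfl Lrfl
theorem f250240 : Led Lsl_bt (LP (LK LD1_c5 LD2_c10 LD3_c13)) = (LP (LK LD1_c2 LD2_c32 LD3_c15)) :=
  Lre_b IH (LK LD1_c5 LD2_c10 LD3_c13) (LK LD1_c2 LD2_c32 LD3_c15) Lrfl Lrfl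
theorem f305753 : Led Lsl_ff (LP (LK LD1_c2 LD2_c45 LD3_c48)) = (LP (LK LD1_c2 LD2_c32 LD3_c15)) :=
  Lgr Lrot25 (Lpr_bt (f305752 IH) (Lpr_ft (f305739 IH) (Lpr_bt (f250240 IH) (Lpn (LP (LK LD1_c2 LD2_c32 LD3_c15))))))
theorem f306563 : Led Lsl_ct (LP (LK LD1_c2 LD2_c45 LD3_c48)) = (LP (LK LD1_c5 LD2_c39 LD3_c45)) :=
  Lre_c IH (LK LD1_c2 LD2_c45 LD3_c48) (LK LD1_c5 LD2_c39 LD3_c45) Lrfl Lrfl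
theorem f183110 : Led Lsl_ct (LP (LK LD1_c5 LD2_c10 LD3_c26)) = (LP (LK LD1_c2 LD2_c32 LD3_c15)) :=
  Lre_c IH (LK LD1_c5 LD2_c10 LD3_c26) (LK LD1_c2 LD2_c32 LD3_c15) Lrfl Lrfl
theorem f306575 : Led Lsl_ft (LP (LK LD1_c5 LD2_c39 LD3_c45)) = (LP (LK LD1_c5 LD2_c10 LD3_c26)) :=
  Lgr Lrot4 (Lpe (f306563 IH) (Lpr_ff (f305753 IH) (Lpe (f183110 IH) (Lpn (LP (LK LD1_c5 LD2_c10 LD3_c26))))))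
theorem f306583 : Led Lsl_ff (LP (LK LD1_c5 LD2_c39 LD3_c45)) = (LP (LK LD1_c5 LD2_c10 LD3_c26)) :=
  Lgr Lrot3 (Lpr_ft (f306575 IH) (Lpn (LP (LK LD1_c5 LD2_c10 LD3_c26))))
theorem f173055 : Led Lsl_et (LP (LK LD1_c1 LD2_c17 LD3_c40)) = (LP (LK LD1_c0 LD2_c35 LD3_c52)) :=
  Lre_e IH (LK LD1_c1 LD2_c17 LD3_c40) (LK LD1_c0 LD2_c35 LD3_c52) Lrfl Lrfl
theorem f173056 : Led Lsl_dt (LP (LK LD1_c1 LD2_c17 LD3_c40)) = (LP (LK LD1_c2 LD2_c42 LD3_c8)) :=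
  Lre_d IH (LK LD1_c1 LD2_c17 LD3_c40) (LK LD1_c2 LD2_c42 LD3_c8) Lrfl Lrfl
theorem f173057 : Led Lsl_gt (LP (LK LD1_c2 LD2_c42 LD3_c8)) = (LP (LK LD1_c5 LD2_c31 LD3_c58)) :=
  Lre_g IH (LK LD1_c2 LD2_c42 LD3_c8) (LK LD1_c5 LD2_c31 LD3_c58) Lrfl Lrfl
theorem f183089 : Led Lsl_df (LP (LK LD1_c5 LD2_c31 LD3_c58)) = (LP (LK LD1_c5 LD2_c10 LD3_c26)) :=
  Lgr Lrot168 (Lpe (f173057 IH) (Lpe (f173056 IH) (Lpr_et (f173055 IH) (Lpe (K9.f172861 IH) (Lpe (K1.f55339 IH) (Lpr_dt (K1.f55335 IH) (Lpr_gf (K9.f183074 IH) (Lpe (K11.f182489 IH) (Lpr_gf (K11.f182494 IH) (Lpe (K17.f182506 IH) (Lpn (LP (LK LD1_c5 LD2_c10 LD3_c26)))))))))))))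
theorem f183099 : Led Lsl_dt (LP (LK LD1_c5 LD2_c31 LD3_c58)) = (LP (LK LD1_c5 LD2_c10 LD3_c26)) :=
  Lgr Lrot42 (Lpr_df (f183089 IH) (Lpn (LP (LK LD1_c5 LD2_c10 LD3_c26))))
theorem f306798 : Led Lsl_ff (LP (LK LD1_c5 LD2_c31 LD3_c58)) = (LP (LK LD1_c8 LD2_c57 LD3_c35)) :=
  Lgr Lrot19 (Lpr_dt (f183099 IH) (Lpe (f306583 IH) (Lpr_dt (f306790 IH) (Lpn (LP (LK LD1_c8 LD2_c57 LD3_c35))))))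
theorem f173541 : Led Lsl_gt (LP (LK LD1_c4 LD2_c29 LD3_c41)) = (LP (LK LD1_c8 LD2_c57 LD3_c34)) :=
  Lre_g IH (LK LD1_c4 LD2_c29 LD3_c41) (LK LD1_c8 LD2_c57 LD3_c34) Lrfl Lrfl
theorem f306804 : Led Lsl_at (LP (LK LD1_c5 LD2_c31 LD3_c58)) = (LP (LK LD1_c8 LD2_c57 LD3_c34)) :=
  Lgr Lrot26 (Lpr_ff (f306798 IH) (Lpr_gt (f173175 IH) (Lpr_gt (f173541 IH) (Lpn (LP (LK LD1_c8 LD2_c57 LD3_c34))))))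
theorem f306806 : Led Lsl_af (LP (LK LD1_c5 LD2_c31 LD3_c58)) = (LP (LK LD1_c8 LD2_c57 LD3_c34)) :=
  Lgr Lrot0 (Lpr_at (f306804 IH) (Lpn (LP (LK LD1_c8 LD2_c57 LD3_c34))))
theorem f175249 : Led Lsl_gt (LP (LK LD1_c5 LD2_c31 LD3_c59)) = (LP (LK LD1_c2 LD2_c42 LD3_c8)) :=
  Lre_g IH (LK LD1_c5 LD2_c31 LD3_c59) (LK LD1_c2 LD2_c42 LD3_c8) Lrfl Lrfl
theorem f306831 : Led Lsl_ft (LP (LK LD1_c5 LD2_c31 LD3_c59)) = (LP (LK LD1_c8 LD2_c57 LD3_c34)) :=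
  Lgr Lrot2 (Lpr_gt (f175249 IH) (Lpr_gt (f173057 IH) (Lpr_af (f306806 IH) (Lpn (LP (LK LD1_c8 LD2_c57 LD3_c34))))))
theorem f306837 : Led Lsl_ff (LP (LK LD1_c5 LD2_c31 LD3_c59)) = (LP (LK LD1_c8 LD2_c57 LD3_c34)) :=
  Lgr Lrot3 (Lpr_ft (f306831 IH) (Lpn (LP (LK LD1_c8 LD2_c57 LD3_c34))))
theorem f175250 : Led Lsl_et (LP (LK LD1_c0 LD2_c35 LD3_c47)) = (LP (LK LD1_c1 LD2_c17 LD3_c27)) :=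
  Lre_e IH (LK LD1_c0 LD2_c35 LD3_c47) (LK LD1_c1 LD2_c17 LD3_c27) Lrfl Lrfl
theorem f175251 : Led Lsl_gt (LP (LK LD1_c1 LD2_c17 LD3_c27)) = (LP (LK LD1_c2 LD2_c41 LD3_c33)) :=
  Lre_g IH (LK LD1_c1 LD2_c17 LD3_c27) (LK LD1_c2 LD2_c41 LD3_c33) Lrfl Lrfl
theorem f175252 : Led Lsl_et (LP (LK LD1_c5 LD2_c30 LD3_c42)) = (LP (LK LD1_c2 LD2_c41 LD3_c33)) :=
  Lre_e IH (LK LD1_c5 LD2_c30 LD3_c42) (LK LD1_c2 LD2_c41 LD3_c33) Lrfl Lrfl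
theorem f175253 : Led Lsl_df (LP (LK LD1_c5 LD2_c31 LD3_c59)) = (LP (LK LD1_c5 LD2_c30 LD3_c42)) :=
  Lgr Lrot170 (Lpr_gt (f175249 IH) (Lpe (f173056 IH) (Lpr_et (f173055 IH) (Lpr_gt (K9.f173033 IH) (Lpe (K9.f173067 IH) (Lpr_gt (K9.f175085 IH) (Lpe (K9.f168295 IH) (Lpr_et (f175250 IH) (Lpr_gt (f175251 IH) (Lpe (f175252 IH) (Lpn (LP (LK LD1_c5 LD2_c30 LD3_c42)))))))))))))
theorem f175259 : Led Lsl_dt (LP (LK LD1_c5 LD2_c31 LD3_c59)) = (LP (LK LD1_c5 LD2_c30 LD3_c42)) :=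
  Lgr Lrot42 (Lpr_df (f175253 IH) (Lpn (LP (LK LD1_c5 LD2_c30 LD3_c42))))
theorem f306808 : Led Lsl_df (LP (LK LD1_c5 LD2_c3 LD3_c16)) = (LP (LK LD1_c8 LD2_c57 LD3_c34)) :=
  Lgr Lrot18 (Lpr_at (K17.f291610 IH) (Lpe (f183089 IH) (Lpr_at (f306804 IH) (Lpn (LP (LK LD1_c8 LD2_c57 LD3_c34))))))
theorem f306810 : Led Lsl_dt (LP (LK LD1_c5 LD2_c3 LD3_c16)) = (LP (LK LD1_c8 LD2_c57 LD3_c34)) :=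
  Lgr Lrot42 (Lpr_df (f306808 IH) (Lpn (LP (LK LD1_c8 LD2_c57 LD3_c34))))
theorem f306841 : Led Lsl_ft (LP (LK LD1_c5 LD2_c30 LD3_c42)) = (LP (LK LD1_c5 LD2_c3 LD3_c16)) :=
  Lgr Lrot54 (Lpe (f175259 IH) (Lpr_ff (f306837 IH) (Lpe (f306810 IH) (Lpn (LP (LK LD1_c5 LD2_c3 LD3_c16))))))
theorem f306843 : Led Lsl_af (LP (LK LD1_c5 LD2_c30 LD3_c42)) = (LP (LK LD1_c5 LD2_c39 LD3_c45)) :=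
  Lgr Lrot45 (Lpr_ft (f306841 IH) (Lpr_at (K17.f291610 IH) (Lpe (f306583 IH) (Lpn (LP (LK LD1_c5 LD2_c39 LD3_c45))))))
theorem f306582 : Led Lsl_et (LP (LK LD1_c2 LD2_c45 LD3_c47)) = (LP (LK LD1_c5 LD2_c39 LD3_c45)) :=
  Lre_e IH (LK LD1_c2 LD2_c45 LD3_c47) (LK LD1_c5 LD2_c39 LD3_c45) Lrfl Lrfl
theorem f306847 : Led Lsl_at (LP (LK LD1_c2 LD2_c41 LD3_c33)) = (LP (LK LD1_c2 LD2_c45 LD3_c47)) :=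
  Lgr Lrot80 (Lpe (f175252 IH) (Lpr_af (f306843 IH) (Lpe (f306582 IH) (Lpn (LP (LK LD1_c2 LD2_c45 LD3_c47))))))
theorem f306849 : Led Lsl_af (LP (LK LD1_c2 LD2_c41 LD3_c33)) = (LP (LK LD1_c2 LD2_c45 LD3_c47)) :=
  Lgr Lrot0 (Lpr_at (f306847 IH) (Lpn (LP (LK LD1_c2 LD2_c45 LD3_c47))))
theorem f175278 : Led Lsl_gt (LP (LK LD1_c2 LD2_c41 LD3_c34)) = (LP (LK LD1_c1 LD2_c17 LD3_c27)) :=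
  Lre_g IH (LK LD1_c2 LD2_c41 LD3_c34) (LK LD1_c1 LD2_c17 LD3_c27) Lrfl Lrfl
theorem f306865 : Led Lsl_ft (LP (LK LD1_c2 LD2_c41 LD3_c34)) = (LP (LK LD1_c2 LD2_c45 LD3_c47)) :=
  Lgr Lrot2 (Lpr_gt (f175278 IH) (Lpr_gt (f175251 IH) (Lpr_af (f306849 IH) (Lpn (LP (LK LD1_c2 LD2_c45 LD3_c47))))))
theorem f306878 : Led Lsl_ff (LP (LK LD1_c2 LD2_c41 LD3_c34)) = (LP (LK LD1_c2 LD2_c45 LD3_c47)) :=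
  Lgr Lrot3 (Lpr_ft (f306865 IH) (Lpn (LP (LK LD1_c2 LD2_c45 LD3_c47))))
theorem f183101 : Led Lsl_et (LP (LK LD1_c2 LD2_c32 LD3_c17)) = (LP (LK LD1_c5 LD2_c10 LD3_c26)) :=
  Lre_e IH (LK LD1_c2 LD2_c32 LD3_c17) (LK LD1_c5 LD2_c10 LD3_c26) Lrfl Lrfl
theorem f306887 : Led Lsl_et (LP (LK LD1_c2 LD2_c41 LD3_c34)) = (LP (LK LD1_c2 LD2_c58 LD3_c53)) :=
  Lgr Lrot69 (Lpr_ff (f306878 IH) (Lpe (f306587 IH) (Lpr_ff (f306583 IH) (Lpe (f183101 IH) (Lpe (K17.f291601 IH) (Lpn (LP (LK LD1_c2 LD2_c58 LD3_c53))))))))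
theorem f245968 : Led Lsl_ct (LP (LK LD1_c2 LD2_c45 LD3_c47)) = (LP (LK LD1_c1 LD2_c19 LD3_c15)) :=
  Lre_c IH (LK LD1_c2 LD2_c45 LD3_c47) (LK LD1_c1 LD2_c19 LD3_c15) Lrfl Lrfl
theorem f171876 : Led Lsl_et (LP (LK LD1_c2 LD2_c45 LD3_c48)) = (LP (LK LD1_c1 LD2_c19 LD3_c15)) :=
  Lre_e IH (LK LD1_c2 LD2_c45 LD3_c48) (LK LD1_c1 LD2_c19 LD3_c15) Lrfl Lrfl
theorem f185074 : Led Lsl_et (LP (LK LD1_c1 LD2_c13 LD3_c8)) = (LP (LK LD1_c2 LD2_c32 LD3_c15)) :=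
  Lre_e IH (LK LD1_c1 LD2_c13 LD3_c8) (LK LD1_c2 LD2_c32 LD3_c15) Lrfl Lrfl
theorem f301633 : Led Lsl_et (LP (LK LD1_c2 LD2_c12 LD3_c47)) = (LP (LK LD1_c2 LD2_c0 LD3_c42)) :=
  Lgr Lrot74 (Lpe (K18.f212626 IH) (Lpr_ef (K18.f301624 IH) (Lpe (K14.f252114 IH) (Lpn (LP (LK LD1_c2 LD2_c0 LD3_c42))))))
theorem f306577 : Led Lsl_ft (LP (LK LD1_c1 LD2_c19 LD3_c15)) = (LP (LK LD1_c2 LD2_c12 LD3_c47)) :=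
  Lgr Lrot86 (Lpe (f171876 IH) (Lpr_ff (f305753 IH) (Lpe (f185074 IH) (Lpe (K17.f289986 IH) (Lpe (f301633 IH) (Lpn (LP (LK LD1_c2 LD2_c12 LD3_c47))))))))
theorem f306871 : Led Lsl_cf (LP (LK LD1_c2 LD2_c41 LD3_c34)) = (LP (LK LD1_c2 LD2_c12 LD3_c47)) :=
  Lgr Lrot108 (Lpr_ft (f306865 IH) (Lpr_ct (f245968 IH) (Lpr_ft (f306577 IH) (Lpn (LP (LK LD1_c2 LD2_c12 LD3_c47))))))
theorem f306891 : Led Lsl_ef (LP (LK LD1_c2 LD2_c12 LD3_c47)) = (LP (LK LD1_c2 LD2_c0 LD3_c42)) :=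
  Lgr Lrot28 (Lpe (f306871 IH) (Lpr_et (f306887 IH) (Lpr_ct (K15.f183881 IH) (Lpn (LP (LK LD1_c2 LD2_c0 LD3_c42))))))
theorem f179838 : Led Lsl_df (LP (LK LD1_c0 LD2_c27 LD3_c27)) = (LP (LK LD1_c0 LD2_c31 LD3_c31)) :=
  Lgr Lrot84 (Lpe (K14.f6824 IH) (Lpe (K9.f6797 IH) (Lpe (K9.f6791 IH) (Lpe (K0.f7992 IH) (Lpe (K9.f6771 IH) (Lpe (K12.f8004 IH) (Lpr_gt (K9.f179726 IH) (Lpr_dt (K0.f254 IH) (Lpr_gt (K9.f2798 IH) (Lpn (LP (LK LD1_c0 LD2_c31 LD3_c31))))))))))))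
theorem f2799 : Led Lsl_et (LP (LK LD1_c1 LD2_c8 LD3_c60)) = (LP (LK LD1_c0 LD2_c31 LD3_c31)) :=
  Lre_e IH (LK LD1_c1 LD2_c8 LD3_c60) (LK LD1_c0 LD2_c31 LD3_c31) Lrfl Lrfl
theorem f306896 : Led Lsl_dt (LP (LK LD1_c2 LD2_c12 LD3_c47)) = (LP (LK LD1_c1 LD2_c8 LD3_c60)) :=
  Lgr Lrot77 (Lpr_ef (f306891 IH) (Lpr_df (K14.f226061 IH) (Lpe (K9.f179846 IH) (Lpr_df (f179838 IH) (Lpe (f2799 IH) (Lpn (LP (LK LD1_c1 LD2_c8 LD3_c60))))))))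
theorem f306899 : Led Lsl_df (LP (LK LD1_c2 LD2_c12 LD3_c47)) = (LP (LK LD1_c1 LD2_c8 LD3_c60)) :=
  Lgr Lrot38 (Lpr_dt (f306896 IH) (Lpn (LP (LK LD1_c1 LD2_c8 LD3_c60))))
theorem f306894 : Led Lsl_at (LP (LK LD1_c2 LD2_c12 LD3_c47)) = (LP (LK LD1_c1 LD2_c19 LD3_c16)) :=
  Lgr Lrot80 (Lpr_ef (f306891 IH) (Lpr_af (K17.f291369 IH) (Lpe (K13.f179962 IH) (Lpn (LP (LK LD1_c1 LD2_c19 LD3_c16))))))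
theorem f306922 : Led Lsl_at (LP (LK LD1_c1 LD2_c9 LD3_c23)) = (LP (LK LD1_c1 LD2_c8 LD3_c60)) :=
  Lgr Lrot51 (Lpe (K13.f179960 IH) (Lpe (f306894 IH) (Lpr_df (f306899 IH) (Lpn (LP (LK LD1_c1 LD2_c8 LD3_c60))))))
theorem f167022 : Led Lsl_ft (LP (LK LD1_c2 LD2_c24 LD3_c32)) = (LP (LK LD1_c1 LD2_c9 LD3_c23)) :=
  Lre_f IH (LK LD1_c2 LD2_c24 LD3_c32) (LK LD1_c1 LD2_c9 LD3_c23) Lrfl Lrfl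
theorem f306906 : Led Lsl_gt (LP (LK LD1_c2 LD2_c23 LD3_c53)) = (LP (LK LD1_c1 LD2_c8 LD3_c60)) :=
  Lre_g IH (LK LD1_c2 LD2_c23 LD3_c53) (LK LD1_c1 LD2_c8 LD3_c60) Lrfl Lrfl
theorem f306937 : Led Lsl_gt (LP (LK LD1_c2 LD2_c24 LD3_c32)) = (LP (LK LD1_c2 LD2_c23 LD3_c53)) :=
  Lgr Lrot5 (Lpr_ft (f167022 IH) (Lpr_at (f306922 IH) (Lpe (f306906 IH) (Lpn (LP (LK LD1_c2 LD2_c23 LD3_c53))))))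
theorem f304917 : Led Lsl_ff (LP (LK LD1_c1 LD2_c0 LD3_c12)) = (LP (LK LD1_c0 LD2_c58 LD3_c26)) :=
  Lgr Lrot19 (Lpe (K9.f179536 IH) (Lpr_ft (f304911 IH) (Lpe (K9.f167070 IH) (Lpn (LP (LK LD1_c0 LD2_c58 LD3_c26))))))
theorem f179556 : Led Lsl_cf (LP (LK LD1_c0 LD2_c31 LD3_c31)) = (LP (LK LD1_c1 LD2_c0 LD3_c12)) :=
  Lgr Lrot166 (Lpr_gt (K9.f2872 IH) (Lpr_dt (K0.f2161 IH) (Lpe (K12.f179554 IH) (Lpr_dt (K9.f179528 IH) (Lpr_ct (K9.f179533 IH) (Lpr_df (K9.f179536 IH) (Lpe (K9.f1128 IH) (Lpe (K9.f51613 IH) (Lpr_gf (K9.f52225 IH) (Lpn (LP (LK LD1_c1 LD2_c0 LD3_c12))))))))))))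
theorem f304921 : Led Lsl_ft (LP (LK LD1_c0 LD2_c31 LD3_c31)) = (LP (LK LD1_c0 LD2_c31 LD3_c54)) :=
  Lgr Lrot4 (Lpr_cf (f179556 IH) (Lpr_ff (f304917 IH) (Lpr_cf (K9.f167044 IH) (Lpn (LP (LK LD1_c0 LD2_c31 LD3_c54))))))
theorem f304519 : Led Lsl_af (LP (LK LD1_c0 LD2_c31 LD3_c31)) = (LP (LK LD1_c0 LD2_c31 LD3_c53)) :=
  Lgr Lrot36 (Lpr_bt (K14.f221827 IH) (Lpr_at (K18.f222099 IH) (Lpr_bt (K18.f304509 IH) (Lpr_at (K16.f180092 IH) (Lpr_bt (K15.f2867 IH) (Lpn (LP (LK LD1_c0 LD2_c31 LD3_c53))))))))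
theorem f304529 : Led Lsl_at (LP (LK LD1_c0 LD2_c31 LD3_c54)) = (LP (LK LD1_c0 LD2_c31 LD3_c32)) :=
  Lgr Lrot67 (Lpe (K14.f2859 IH) (Lpe (K18.f166629 IH) (Lpr_bf (K18.f304527 IH) (Lpe (K16.f270914 IH) (Lpe (K16.f237785 IH) (Lpn (LP (LK LD1_c0 LD2_c31 LD3_c32))))))))
theorem f304923 : Led Lsl_ff (LP (LK LD1_c0 LD2_c31 LD3_c53)) = (LP (LK LD1_c0 LD2_c31 LD3_c32)) :=
  Lgr Lrot30 (Lpe (f304519 IH) (Lpr_ft (f304921 IH) (Lpr_at (f304529 IH) (Lpn (LP (LK LD1_c0 LD2_c31 LD3_c32))))))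
theorem f167012 : Led Lsl_ft (LP (LK LD1_c1 LD2_c9 LD3_c23)) = (LP (LK LD1_c2 LD2_c24 LD3_c32)) :=
  Lre_f IH (LK LD1_c1 LD2_c9 LD3_c23) (LK LD1_c2 LD2_c24 LD3_c32) Lrfl Lrfl
theorem f2800 : Led Lsl_et (LP (LK LD1_c1 LD2_c9 LD3_c0)) = (LP (LK LD1_c0 LD2_c31 LD3_c32)) :=
  Lre_e IH (LK LD1_c1 LD2_c9 LD3_c0) (LK LD1_c0 LD2_c31 LD3_c32) Lrfl Lrfl
theorem f304935 : Led Lsl_ft (LP (LK LD1_c2 LD2_c23 LD3_c60)) = (LP (LK LD1_c1 LD2_c9 LD3_c0)) :=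
  Lre_f IH (LK LD1_c2 LD2_c23 LD3_c60) (LK LD1_c1 LD2_c9 LD3_c0) Lrfl Lrfl
theorem f304936 : Led Lsl_et (LP (LK LD1_c2 LD2_c24 LD3_c32)) = (LP (LK LD1_c2 LD2_c23 LD3_c60)) :=
  Lgr Lrot69 (Lpe (f167012 IH) (Lpe (K13.f167021 IH) (Lpr_ff (f304923 IH) (Lpe (f2800 IH) (Lpe (f304935 IH) (Lpn (LP (LK LD1_c2 LD2_c23 LD3_c60))))))))
theorem f304942 : Led Lsl_ef (LP (LK LD1_c2 LD2_c24 LD3_c32)) = (LP (LK LD1_c2 LD2_c23 LD3_c60)) :=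
  Lgr Lrot88 (Lpr_et (f304936 IH) (Lpn (LP (LK LD1_c2 LD2_c23 LD3_c60))))
theorem f306912 : Led Lsl_et (LP (LK LD1_c4 LD2_c52 LD3_c18)) = (LP (LK LD1_c2 LD2_c23 LD3_c53)) :=
  Lre_e IH (LK LD1_c4 LD2_c52 LD3_c18) (LK LD1_c2 LD2_c23 LD3_c53) Lrfl Lrfl
theorem f55295 : Led Lsl_et (LP (LK LD1_c0 LD2_c56 LD3_c55)) = (LP (LK LD1_c1 LD2_c59 LD3_c61)) :=
  Lre_e IH (LK LD1_c0 LD2_c56 LD3_c55) (LK LD1_c1 LD2_c59 LD3_c61) Lrfl Lrfl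
theorem f41328 : Led Lsl_gt (LP (LK LD1_c3 LD2_c58 LD3_c50)) = (LP (LK LD1_c1 LD2_c56 LD3_c8)) :=
  Lre_g IH (LK LD1_c3 LD2_c58 LD3_c50) (LK LD1_c1 LD2_c56 LD3_c8) Lrfl Lrfl
theorem f55301 : Led Lsl_gt (LP (LK LD1_c1 LD2_c59 LD3_c61)) = (LP (LK LD1_c3 LD2_c58 LD3_c50)) :=
  Lgr Lrot5 (Lpr_ft (K1.f55259 IH) (Lpe (K9.f41102 IH) (Lpe (f41328 IH) (Lpn (LP (LK LD1_c3 LD2_c58 LD3_c50))))))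
theorem f306907 : Led Lsl_dt (LP (LK LD1_c4 LD2_c52 LD3_c17)) = (LP (LK LD1_c2 LD2_c23 LD3_c53)) :=
  Lre_d IH (LK LD1_c4 LD2_c52 LD3_c17) (LK LD1_c2 LD2_c23 LD3_c53) Lrfl Lrfl
theorem f306908 : Led Lsl_ef (LP (LK LD1_c3 LD2_c58 LD3_c50)) = (LP (LK LD1_c4 LD2_c52 LD3_c17)) :=
  Lgr Lrot17 (Lpe (f55301 IH) (Lpe (f55295 IH) (Lpr_dt (K1.f47090 IH) (Lpr_gf (K9.f183878 IH) (Lpe (K10.f21295 IH) (Lpe (K14.f21289 IH) (Lpe (f301633 IH) (Lpr_dt (f306896 IH) (Lpe (f306906 IH) (Lpe (f306907 IH) (Lpn (LP (LK LD1_c4 LD2_c52 LD3_c17)))))))))))))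
theorem f306915 : Led Lsl_et (LP (LK LD1_c3 LD2_c58 LD3_c50)) = (LP (LK LD1_c4 LD2_c52 LD3_c17)) :=
  Lgr Lrot87 (Lpr_ef (f306908 IH) (Lpn (LP (LK LD1_c4 LD2_c52 LD3_c17))))
theorem f178457 : Led Lsl_gt (LP (LK LD1_c1 LD2_c18 LD3_c24)) = (LP (LK LD1_c2 LD2_c44 LD3_c4)) :=
  Lre_g IH (LK LD1_c1 LD2_c18 LD3_c24) (LK LD1_c2 LD2_c44 LD3_c4) Lrfl Lrfl
theorem f178458 : Led Lsl_et (LP (LK LD1_c5 LD2_c36 LD3_c27)) = (LP (LK LD1_c2 LD2_c44 LD3_c4)) :=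
  Lre_e IH (LK LD1_c5 LD2_c36 LD3_c27) (LK LD1_c2 LD2_c44 LD3_c4) Lrfl Lrfl
theorem f178459 : Led Lsl_df (LP (LK LD1_c3 LD2_c58 LD3_c50)) = (LP (LK LD1_c5 LD2_c36 LD3_c27)) :=
  Lgr Lrot170 (Lpr_gt (f41328 IH) (Lpr_df (K1.f41321 IH) (Lpr_et (K1.f41084 IH) (Lpr_gt (K9.f41074 IH) (Lpr_dt (K9.f168824 IH) (Lpr_gt (K9.f178297 IH) (Lpr_df (K12.f178168 IH) (Lpr_et (K17.f178290 IH) (Lpr_gt (f178457 IH) (Lpe (f178458 IH) (Lpn (LP (LK LD1_c5 LD2_c36 LD3_c27)))))))))))))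
theorem f178463 : Led Lsl_et (LP (LK LD1_c2 LD2_c44 LD3_c4)) = (LP (LK LD1_c5 LD2_c36 LD3_c27)) :=
  Lre_e IH (LK LD1_c2 LD2_c44 LD3_c4) (LK LD1_c5 LD2_c36 LD3_c27) Lrfl Lrfl
theorem f306917 : Led Lsl_et (LP (LK LD1_c2 LD2_c23 LD3_c53)) = (LP (LK LD1_c4 LD2_c52 LD3_c18)) :=
  Lre_e IH (LK LD1_c2 LD2_c23 LD3_c53) (LK LD1_c4 LD2_c52 LD3_c18) Lrfl Lrfl
theorem f306918 : Led Lsl_df (LP (LK LD1_c2 LD2_c44 LD3_c4)) = (LP (LK LD1_c4 LD2_c52 LD3_c18)) :=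
  Lgr Lrot70 (Lpr_et (f178463 IH) (Lpe (f178459 IH) (Lpr_et (f306915 IH) (Lpr_dt (f306907 IH) (Lpr_et (f306917 IH) (Lpn (LP (LK LD1_c4 LD2_c52 LD3_c18))))))))
theorem f305098 : Led Lsl_gt (LP (LK LD1_c2 LD2_c44 LD3_c4)) = (LP (LK LD1_c4 LD2_c19 LD3_c48)) :=
  Lgr Lrot46 (Lpe (f178457 IH) (Lpr_ft (K17.f228871 IH) (Lpr_at (f304995 IH) (Lpn (LP (LK LD1_c4 LD2_c19 LD3_c48))))))
theorem f301701 : Led Lsl_dt (LP (LK LD1_c2 LD2_c7 LD3_c21)) = (LP (LK LD1_c4 LD2_c19 LD3_c48)) :=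
  Lre_d IH (LK LD1_c2 LD2_c7 LD3_c21) (LK LD1_c4 LD2_c19 LD3_c48) Lrfl Lrfl
theorem f171341 : Led Lsl_gt (LP (LK LD1_c2 LD2_c6 LD3_c51)) = (LP (LK LD1_c1 LD2_c0 LD3_c22)) :=
  Lre_g IH (LK LD1_c2 LD2_c6 LD3_c51) (LK LD1_c1 LD2_c0 LD3_c22) Lrfl Lrfl
theorem f304983 : Led Lsl_gf (LP (LK LD1_c2 LD2_c6 LD3_c51)) = (LP (LK LD1_c2 LD2_c3 LD3_c40)) :=
  Lgr Lrot47 (Lpr_gt (f171341 IH) (Lpr_af (f304977 IH) (Lpe (f166813 IH) (Lpn (LP (LK LD1_c2 LD2_c3 LD3_c40))))))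
theorem f21317 : Led Lsl_ef (LP (LK LD1_c0 LD2_c15 LD3_c13)) = (LP (LK LD1_c0 LD2_c14 LD3_c56)) :=
  Lgr Lrot88 (Lpr_et (K0.f21281 IH) (Lpn (LP (LK LD1_c0 LD2_c14 LD3_c56))))
theorem f21995 : Led Lsl_gt (LP (LK LD1_c1 LD2_c11 LD3_c36)) = (LP (LK LD1_c2 LD2_c28 LD3_c54)) :=
  Lre_g IH (LK LD1_c1 LD2_c11 LD3_c36) (LK LD1_c2 LD2_c28 LD3_c54) Lrfl Lrfl
theorem f171342 : Led Lsl_df (LP (LK LD1_c2 LD2_c6 LD3_c51)) = (LP (LK LD1_c2 LD2_c28 LD3_c54)) :=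
  Lgr Lrot135 (Lpr_gt (f171341 IH) (Lpr_df (K12.f171219 IH) (Lpr_et (K14.f21992 IH) (Lpr_gt (K9.f20822 IH) (Lpr_ef (f21317 IH) (Lpr_dt (K0.f3134 IH) (Lpr_gt (K8.f3145 IH) (Lpe (K9.f21993 IH) (Lpr_et (K11.f21994 IH) (Lpr_gt (f21995 IH) (Lpn (LP (LK LD1_c2 LD2_c28 LD3_c54)))))))))))))
theorem f171347 : Led Lsl_dt (LP (LK LD1_c2 LD2_c6 LD3_c51)) = (LP (LK LD1_c2 LD2_c28 LD3_c54)) :=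
  Lgr Lrot42 (Lpr_df (f171342 IH) (Lpn (LP (LK LD1_c2 LD2_c28 LD3_c54))))
theorem f289861 : Led Lsl_bt (LP (LK LD1_c5 LD2_c2 LD3_c16)) = (LP (LK LD1_c2 LD2_c28 LD3_c56)) :=
  Lre_b IH (LK LD1_c5 LD2_c2 LD3_c16) (LK LD1_c2 LD2_c28 LD3_c56) Lrfl Lrfl
theorem f300080 : Led Lsl_at (LP (LK LD1_c5 LD2_c9 LD3_c45)) = (LP (LK LD1_c10 LD2_c9 LD3_c43)) :=
  Lre_a IH (LK LD1_c5 LD2_c9 LD3_c45) (LK LD1_c10 LD2_c9 LD3_c43) Lrfl Lrfl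
theorem f300081 : Led Lsl_at (LP (LK LD1_c2 LD2_c28 LD3_c56)) = (LP (LK LD1_c2 LD2_c32 LD3_c5)) :=
  Lgr Lrot67 (Lpe (f289861 IH) (Lpr_af (K17.f289857 IH) (Lpr_bf (K18.f300078 IH) (Lpe (f300080 IH) (Lpe (K17.f288310 IH) (Lpn (LP (LK LD1_c2 LD2_c32 LD3_c5))))))))
theorem f166595 : Led Lsl_ft (LP (LK LD1_c1 LD2_c11 LD3_c36)) = (LP (LK LD1_c2 LD2_c28 LD3_c56)) :=
  Lre_f IH (LK LD1_c1 LD2_c11 LD3_c36) (LK LD1_c2 LD2_c28 LD3_c56) Lrfl Lrfl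
theorem f300205 : Led Lsl_gt (LP (LK LD1_c2 LD2_c28 LD3_c54)) = (LP (LK LD1_c2 LD2_c32 LD3_c5)) :=
  Lgr Lrot46 (Lpe (f21995 IH) (Lpr_ft (f166595 IH) (Lpr_at (f300081 IH) (Lpn (LP (LK LD1_c2 LD2_c32 LD3_c5))))))
theorem f306941 : Led Lsl_dt (LP (LK LD1_c2 LD2_c23 LD3_c60)) = (LP (LK LD1_c2 LD2_c32 LD3_c5)) :=
  Lgr Lrot56 (Lpe (f304942 IH) (Lpr_gt (f306937 IH) (Lpe (f306912 IH) (Lpe (f306918 IH) (Lpr_gt (f305098 IH) (Lpe (f301701 IH) (Lpr_et (K18.f301704 IH) (Lpe (f304983 IH) (Lpr_dt (f171347 IH) (Lpr_gt (f300205 IH) (Lpn (LP (LK LD1_c2 LD2_c32 LD3_c5)))))))))))))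
theorem f304949 : Led Lsl_ft (LP (LK LD1_c1 LD2_c9 LD3_c0)) = (LP (LK LD1_c2 LD2_c23 LD3_c60)) :=
  Lre_f IH (LK LD1_c1 LD2_c9 LD3_c0) (LK LD1_c2 LD2_c23 LD3_c60) Lrfl Lrfl
theorem f288315 : Led Lsl_ft (LP (LK LD1_c2 LD2_c32 LD3_c5)) = (LP (LK LD1_c1 LD2_c13 LD3_c3)) :=
  Lre_f IH (LK LD1_c2 LD2_c32 LD3_c5) (LK LD1_c1 LD2_c13 LD3_c3) Lrfl Lrfl
theorem f306950 : Led Lsl_df (LP (LK LD1_c1 LD2_c9 LD3_c0)) = (LP (LK LD1_c1 LD2_c13 LD3_c3)) :=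
  Lgr Lrot78 (Lpr_ft (f304949 IH) (Lpr_dt (f306941 IH) (Lpr_ft (f288315 IH) (Lpn (LP (LK LD1_c1 LD2_c13 LD3_c3))))))
theorem f306960 : Led Lsl_dt (LP (LK LD1_c1 LD2_c9 LD3_c0)) = (LP (LK LD1_c1 LD2_c13 LD3_c3)) :=
  Lgr Lrot42 (Lpr_df (f306950 IH) (Lpn (LP (LK LD1_c1 LD2_c13 LD3_c3))))
theorem f171203 : Led Lsl_et (LP (LK LD1_c0 LD2_c27 LD3_c24)) = (LP (LK LD1_c1 LD2_c0 LD3_c22)) :=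
  Lre_e IH (LK LD1_c0 LD2_c27 LD3_c24) (LK LD1_c1 LD2_c0 LD3_c22) Lrfl Lrfl
theorem f171204 : Led Lsl_gt (LP (LK LD1_c1 LD2_c0 LD3_c22)) = (LP (LK LD1_c2 LD2_c6 LD3_c50)) :=
  Lre_g IH (LK LD1_c1 LD2_c0 LD3_c22) (LK LD1_c2 LD2_c6 LD3_c50) Lrfl Lrfl
theorem f165284 : Led Lsl_gt (LP (LK LD1_c2 LD2_c28 LD3_c55)) = (LP (LK LD1_c1 LD2_c11 LD3_c36)) :=
  Lre_g IH (LK LD1_c2 LD2_c28 LD3_c55) (LK LD1_c1 LD2_c11 LD3_c36) Lrfl Lrfl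
theorem f171205 : Led Lsl_dt (LP (LK LD1_c2 LD2_c6 LD3_c50)) = (LP (LK LD1_c2 LD2_c28 LD3_c55)) :=
  Lgr Lrot171 (Lpe (f171204 IH) (Lpe (f171203 IH) (Lpr_dt (K9.f171202 IH) (Lpr_gf (K9.f171185 IH) (Lpe (K9.f250 IH) (Lpe (K13.f1673 IH) (Lpe (K9.f2213 IH) (Lpe (K11.f2790 IH) (Lpe (K11.f166592 IH) (Lpe (f165284 IH) (Lpn (LP (LK LD1_c2 LD2_c28 LD3_c55)))))))))))))
theorem f166478 : Led Lsl_et (LP (LK LD1_c0 LD2_c26 LD3_c36)) = (LP (LK LD1_c0 LD2_c58 LD3_c45)) :=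
  Lre_e IH (LK LD1_c0 LD2_c26 LD3_c36) (LK LD1_c0 LD2_c58 LD3_c45) Lrfl Lrfl
theorem f166612 : Led Lsl_gt (LP (LK LD1_c0 LD2_c58 LD3_c45)) = (LP (LK LD1_c2 LD2_c3 LD3_c38)) :=
  Lre_g IH (LK LD1_c0 LD2_c58 LD3_c45) (LK LD1_c2 LD2_c3 LD3_c38) Lrfl Lrfl
theorem f171723 : Led Lsl_et (LP (LK LD1_c2 LD2_c6 LD3_c50)) = (LP (LK LD1_c2 LD2_c3 LD3_c38)) :=
  Lgr Lrot122 (Lpr_dt (f171205 IH) (Lpr_gt (f165284 IH) (Lpr_df (K11.f166592 IH) (Lpr_et (K11.f2790 IH) (Lpr_gt (K9.f2213 IH) (Lpr_dt (K0.f1672 IH) (Lpe (K9.f166464 IH) (Lpe (K9.f53324 IH) (Lpr_et (f166478 IH) (Lpr_gt (f166612 IH) (Lpn (LP (LK LD1_c2 LD2_c3 LD3_c38)))))))))))))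
theorem f171728 : Led Lsl_ef (LP (LK LD1_c2 LD2_c6 LD3_c50)) = (LP (LK LD1_c2 LD2_c3 LD3_c38)) :=
  Lgr Lrot88 (Lpr_et (f171723 IH) (Lpn (LP (LK LD1_c2 LD2_c3 LD3_c38))))
theorem f165489 : Led Lsl_gt (LP (LK LD1_c2 LD2_c32 LD3_c4)) = (LP (LK LD1_c1 LD2_c13 LD3_c3)) :=
  Lre_g IH (LK LD1_c2 LD2_c32 LD3_c4) (LK LD1_c1 LD2_c13 LD3_c3) Lrfl Lrfl
theorem f306971 : Led Lsl_dt (LP (LK LD1_c2 LD2_c3 LD3_c38)) = (LP (LK LD1_c2 LD2_c32 LD3_c4)) :=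
  Lgr Lrot136 (Lpe (f171728 IH) (Lpe (f171204 IH) (Lpe (f171203 IH) (Lpr_dt (K9.f171202 IH) (Lpr_gf (K9.f171185 IH) (Lpe (K9.f250 IH) (Lpe (K13.f267 IH) (Lpe (f2800 IH) (Lpr_dt (f306960 IH) (Lpe (f165489 IH) (Lpn (LP (LK LD1_c2 LD2_c32 LD3_c4)))))))))))))
theorem f306977 : Led Lsl_df (LP (LK LD1_c2 LD2_c3 LD3_c38)) = (LP (LK LD1_c2 LD2_c32 LD3_c4)) :=
  Lgr Lrot38 (Lpr_dt (f306971 IH) (Lpn (LP (LK LD1_c2 LD2_c32 LD3_c4))))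
theorem f21330 : Led Lsl_et (LP (LK LD1_c1 LD2_c11 LD3_c49)) = (LP (LK LD1_c0 LD2_c33 LD3_c14)) :=
  Lre_e IH (LK LD1_c1 LD2_c11 LD3_c49) (LK LD1_c0 LD2_c33 LD3_c14) Lrfl Lrfl
theorem f163894 : Led Lsl_df (LP (LK LD1_c1 LD2_c13 LD3_c20)) = (LP (LK LD1_c1 LD2_c13 LD3_c20)) :=
  Lgr Lrot18 (Lpe (K18.f163890 IH) (Lpr_dt (K18.f33921 IH) (Lpr_at (K8.f163880 IH) (Lpn (LP (LK LD1_c1 LD2_c13 LD3_c20))))))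
theorem f21358 : Led Lsl_gt (LP (LK LD1_c1 LD2_c13 LD3_c20)) = (LP (LK LD1_c2 LD2_c32 LD3_c50)) :=
  Lre_g IH (LK LD1_c1 LD2_c13 LD3_c20) (LK LD1_c2 LD2_c32 LD3_c50) Lrfl Lrfl
theorem f163898 : Led Lsl_gt (LP (LK LD1_c2 LD2_c32 LD3_c50)) = (LP (LK LD1_c1 LD2_c13 LD3_c20)) :=
  Lgr Lrot46 (Lpe (f21358 IH) (Lpr_ft (K0.f21343 IH) (Lpr_at (K8.f163880 IH) (Lpn (LP (LK LD1_c1 LD2_c13 LD3_c20))))))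
theorem f163902 : Led Lsl_dt (LP (LK LD1_c5 LD2_c11 LD3_c56)) = (LP (LK LD1_c2 LD2_c32 LD3_c50)) :=
  Lre_d IH (LK LD1_c5 LD2_c11 LD3_c56) (LK LD1_c2 LD2_c32 LD3_c50) Lrfl Lrfl
theorem f306979 : Led Lsl_et (LP (LK LD1_c2 LD2_c32 LD3_c4)) = (LP (LK LD1_c5 LD2_c10 LD3_c2)) :=
  Lre_e IH (LK LD1_c2 LD2_c32 LD3_c4) (LK LD1_c5 LD2_c10 LD3_c2) Lrfl Lrfl
theorem f307000 : Led Lsl_gf (LP (LK LD1_c5 LD2_c11 LD3_c56)) = (LP (LK LD1_c5 LD2_c10 LD3_c2)) :=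
  Lgr Lrot138 (Lpr_dt (f163902 IH) (Lpr_gt (f163898 IH) (Lpr_df (f163894 IH) (Lpr_et (K0.f21320 IH) (Lpe (K8.f165581 IH) (Lpe (f21330 IH) (Lpr_dt (K10.f166688 IH) (Lpr_gt (f166612 IH) (Lpr_df (f306977 IH) (Lpr_et (f306979 IH) (Lpn (LP (LK LD1_c5 LD2_c10 LD3_c2)))))))))))))
theorem f163901 : Led Lsl_dt (LP (LK LD1_c2 LD2_c32 LD3_c50)) = (LP (LK LD1_c5 LD2_c11 LD3_c56)) :=
  Lre_d IH (LK LD1_c2 LD2_c32 LD3_c50) (LK LD1_c5 LD2_c11 LD3_c56) Lrfl Lrfl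
theorem f171294 : Led Lsl_et (LP (LK LD1_c2 LD2_c32 LD3_c50)) = (LP (LK LD1_c5 LD2_c11 LD3_c57)) :=
  Lre_e IH (LK LD1_c2 LD2_c32 LD3_c50) (LK LD1_c5 LD2_c11 LD3_c57) Lrfl Lrfl
theorem f171718 : Led Lsl_df (LP (LK LD1_c2 LD2_c6 LD3_c50)) = (LP (LK LD1_c2 LD2_c28 LD3_c55)) :=
  Lgr Lrot38 (Lpr_dt (f171205 IH) (Lpn (LP (LK LD1_c2 LD2_c28 LD3_c55))))
theorem f165285 : Led Lsl_et (LP (LK LD1_c5 LD2_c2 LD3_c45)) = (LP (LK LD1_c2 LD2_c28 LD3_c55)) :=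
  Lre_e IH (LK LD1_c5 LD2_c2 LD3_c45) (LK LD1_c2 LD2_c28 LD3_c55) Lrfl Lrfl
theorem f306980 : Led Lsl_df (LP (LK LD1_c5 LD2_c2 LD3_c45)) = (LP (LK LD1_c5 LD2_c10 LD3_c2)) :=
  Lgr Lrot70 (Lpr_et (f165285 IH) (Lpe (f171718 IH) (Lpr_et (f171723 IH) (Lpr_dt (f306971 IH) (Lpr_et (f306979 IH) (Lpn (LP (LK LD1_c5 LD2_c10 LD3_c2))))))))
theorem f306983 : Led Lsl_dt (LP (LK LD1_c5 LD2_c2 LD3_c45)) = (LP (LK LD1_c5 LD2_c10 LD3_c2)) :=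
  Lgr Lrot42 (Lpr_df (f306980 IH) (Lpn (LP (LK LD1_c5 LD2_c10 LD3_c2))))
theorem f165490 : Led Lsl_et (LP (LK LD1_c5 LD2_c10 LD3_c2)) = (LP (LK LD1_c2 LD2_c32 LD3_c4)) :=
  Lre_e IH (LK LD1_c5 LD2_c10 LD3_c2) (LK LD1_c2 LD2_c32 LD3_c4) Lrfl Lrfl
theorem f21328 : Led Lsl_et (LP (LK LD1_c0 LD2_c33 LD3_c52)) = (LP (LK LD1_c1 LD2_c13 LD3_c3)) :=
  Lre_e IH (LK LD1_c0 LD2_c33 LD3_c52) (LK LD1_c1 LD2_c13 LD3_c3) Lrfl Lrfl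
theorem f165389 : Led Lsl_dt (LP (LK LD1_c2 LD2_c29 LD3_c44)) = (LP (LK LD1_c5 LD2_c4 LD3_c48)) :=
  Lre_d IH (LK LD1_c2 LD2_c29 LD3_c44) (LK LD1_c5 LD2_c4 LD3_c48) Lrfl Lrfl
theorem f306985 : Led Lsl_gf (LP (LK LD1_c5 LD2_c2 LD3_c45)) = (LP (LK LD1_c5 LD2_c4 LD3_c48)) :=
  Lgr Lrot134 (Lpr_df (f306980 IH) (Lpr_et (f165490 IH) (Lpr_gt (f165489 IH) (Lpe (f21328 IH) (Lpr_dt (K10.f21327 IH) (Lpe (K9.f165481 IH) (Lpe (K8.f3156 IH) (Lpr_et (K0.f21322 IH) (Lpr_gt (K18.f21345 IH) (Lpr_dt (f165389 IH) (Lpn (LP (LK LD1_c5 LD2_c4 LD3_c48)))))))))))))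
theorem f168791 : Led Lsl_dt (LP (LK LD1_c2 LD2_c25 LD3_c46)) = (LP (LK LD1_c4 LD2_c55 LD3_c59)) :=
  Lre_d IH (LK LD1_c2 LD2_c25 LD3_c46) (LK LD1_c4 LD2_c55 LD3_c59) Lrfl Lrfl
theorem f185850 : Led Lsl_dt (LP (LK LD1_c5 LD2_c2 LD3_c22)) = (LP (LK LD1_c4 LD2_c55 LD3_c60)) :=
  Lgr Lrot77 (Lpr_ef (K18.f185843 IH) (Lpe (f165389 IH) (Lpe (K18.f181898 IH) (Lpe (f168791 IH) (Lpe (K18.f181886 IH) (Lpn (LP (LK LD1_c4 LD2_c55 LD3_c60))))))))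
theorem f171720 : Led Lsl_et (LP (LK LD1_c2 LD2_c28 LD3_c55)) = (LP (LK LD1_c5 LD2_c2 LD3_c45)) :=
  Lre_e IH (LK LD1_c2 LD2_c28 LD3_c55) (LK LD1_c5 LD2_c2 LD3_c45) Lrfl Lrfl
theorem f304991 : Led Lsl_gt (LP (LK LD1_c2 LD2_c6 LD3_c50)) = (LP (LK LD1_c2 LD2_c3 LD3_c40)) :=
  Lgr Lrot46 (Lpe (f171204 IH) (Lpr_ft (K12.f171328 IH) (Lpr_at (f304981 IH) (Lpn (LP (LK LD1_c2 LD2_c3 LD3_c40))))))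
theorem f248722 : Led Lsl_gt (LP (LK LD1_c2 LD2_c29 LD3_c18)) = (LP (LK LD1_c1 LD2_c11 LD3_c46)) :=
  Lre_g IH (LK LD1_c2 LD2_c29 LD3_c18) (LK LD1_c1 LD2_c11 LD3_c46) Lrfl Lrfl
theorem f248723 : Led Lsl_gf (LP (LK LD1_c2 LD2_c29 LD3_c18)) = (LP (LK LD1_c2 LD2_c32 LD3_c26)) :=
  Lgr Lrot47 (Lpr_gt (f248722 IH) (Lpr_af (K14.f248707 IH) (Lpe (K14.f248719 IH) (Lpn (LP (LK LD1_c2 LD2_c32 LD3_c26))))))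
theorem f248728 : Led Lsl_dt (LP (LK LD1_c2 LD2_c29 LD3_c18)) = (LP (LK LD1_c5 LD2_c3 LD3_c40)) :=
  Lre_d IH (LK LD1_c2 LD2_c29 LD3_c18) (LK LD1_c5 LD2_c3 LD3_c40) Lrfl Lrfl
theorem f306989 : Led Lsl_gt (LP (LK LD1_c5 LD2_c3 LD3_c40)) = (LP (LK LD1_c4 LD2_c55 LD3_c60)) :=
  Lgr Lrot139 (Lpe (f248728 IH) (Lpr_gf (f248723 IH) (Lpr_ef (K18.f301709 IH) (Lpr_dt (K10.f166811 IH) (Lpe (f304991 IH) (Lpr_df (f171718 IH) (Lpr_et (f171720 IH) (Lpr_gf (f306985 IH) (Lpe (K18.f185852 IH) (Lpr_dt (f185850 IH) (Lpn (LP (LK LD1_c4 LD2_c55 LD3_c60)))))))))))))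
theorem f250238 : Led Lsl_et (LP (LK LD1_c2 LD2_c29 LD3_c18)) = (LP (LK LD1_c5 LD2_c3 LD3_c41)) :=
  Lre_e IH (LK LD1_c2 LD2_c29 LD3_c18) (LK LD1_c5 LD2_c3 LD3_c41) Lrfl Lrfl
theorem f307003 : Led Lsl_gt (LP (LK LD1_c5 LD2_c11 LD3_c57)) = (LP (LK LD1_c5 LD2_c3 LD3_c41)) :=
  Lgr Lrot131 (Lpe (f171294 IH) (Lpr_dt (f163901 IH) (Lpr_gf (f307000 IH) (Lpe (f306983 IH) (Lpr_gf (f306985 IH) (Lpe (K18.f185852 IH) (Lpr_dt (f185850 IH) (Lpe (f306989 IH) (Lpe (f248728 IH) (Lpr_et (f250238 IH) (Lpn (LP (LK LD1_c5 LD2_c3 LD3_c41)))))))))))))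
theorem f300074 : Led Lsl_at (LP (LK LD1_c5 LD2_c9 LD3_c30)) = (LP (LK LD1_c2 LD2_c31 LD3_c57)) :=
  Lre_a IH (LK LD1_c5 LD2_c9 LD3_c30) (LK LD1_c2 LD2_c31 LD3_c57) Lrfl Lrfl
theorem f166735 : Led Lsl_bt (LP (LK LD1_c2 LD2_c31 LD3_c57)) = (LP (LK LD1_c1 LD2_c13 LD3_c3)) :=
  Lre_b IH (LK LD1_c2 LD2_c31 LD3_c57) (LK LD1_c1 LD2_c13 LD3_c3) Lrfl Lrfl
theorem f300075 : Led Lsl_af (LP (LK LD1_c1 LD2_c11 LD3_c36)) = (LP (LK LD1_c1 LD2_c13 LD3_c3)) :=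
  Lgr Lrot36 (Lpr_bt (K15.f166601 IH) (Lpr_at (K17.f289849 IH) (Lpr_bt (K18.f300066 IH) (Lpr_at (f300074 IH) (Lpr_bt (f166735 IH) (Lpn (LP (LK LD1_c1 LD2_c13 LD3_c3))))))))
theorem f300207 : Led Lsl_gf (LP (LK LD1_c2 LD2_c28 LD3_c55)) = (LP (LK LD1_c2 LD2_c32 LD3_c5)) :=
  Lgr Lrot47 (Lpr_gt (f165284 IH) (Lpr_af (f300075 IH) (Lpe (f288315 IH) (Lpn (LP (LK LD1_c2 LD2_c32 LD3_c5))))))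
theorem f181962 : Led Lsl_et (LP (LK LD1_c0 LD2_c28 LD3_c56)) = (LP (LK LD1_c1 LD2_c3 LD3_c24)) :=
  Lre_e IH (LK LD1_c0 LD2_c28 LD3_c56) (LK LD1_c1 LD2_c3 LD3_c24) Lrfl Lrfl
theorem f181963 : Led Lsl_gt (LP (LK LD1_c1 LD2_c3 LD3_c24)) = (LP (LK LD1_c2 LD2_c12 LD3_c46)) :=
  Lre_g IH (LK LD1_c1 LD2_c3 LD3_c24) (LK LD1_c2 LD2_c12 LD3_c46) Lrfl Lrfl
theorem f306939 : Led Lsl_df (LP (LK LD1_c2 LD2_c24 LD3_c32)) = (LP (LK LD1_c2 LD2_c12 LD3_c46)) :=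
  Lgr Lrot135 (Lpr_gt (f306937 IH) (Lpe (f306907 IH) (Lpe (f306908 IH) (Lpr_gt (f41328 IH) (Lpe (K1.f41092 IH) (Lpr_dt (K1.f41076 IH) (Lpr_gt (K9.f181948 IH) (Lpe (K12.f174739 IH) (Lpr_et (f181962 IH) (Lpr_gt (f181963 IH) (Lpn (LP (LK LD1_c2 LD2_c12 LD3_c46)))))))))))))
theorem f181964 : Led Lsl_et (LP (LK LD1_c4 LD2_c31 LD3_c38)) = (LP (LK LD1_c2 LD2_c12 LD3_c46)) :=
  Lre_e IH (LK LD1_c4 LD2_c31 LD3_c38) (LK LD1_c2 LD2_c12 LD3_c46) Lrfl Lrfl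
theorem f306948 : Led Lsl_df (LP (LK LD1_c4 LD2_c31 LD3_c38)) = (LP (LK LD1_c2 LD2_c29 LD3_c10)) :=
  Lgr Lrot70 (Lpr_et (f181964 IH) (Lpe (f306939 IH) (Lpr_et (f304936 IH) (Lpr_dt (f306941 IH) (Lpr_et (K17.f288301 IH) (Lpn (LP (LK LD1_c2 LD2_c29 LD3_c10))))))))
theorem f183097 : Led Lsl_dt (LP (LK LD1_c1 LD2_c13 LD3_c7)) = (LP (LK LD1_c2 LD2_c32 LD3_c15)) :=
  Lre_d IH (LK LD1_c1 LD2_c13 LD3_c7) (LK LD1_c2 LD2_c32 LD3_c15) Lrfl Lrfl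
theorem f185075 : Led Lsl_gt (LP (LK LD1_c2 LD2_c32 LD3_c15)) = (LP (LK LD1_c5 LD2_c10 LD3_c24)) :=
  Lre_g IH (LK LD1_c2 LD2_c32 LD3_c15) (LK LD1_c5 LD2_c10 LD3_c24) Lrfl Lrfl
theorem f248695 : Led Lsl_dt (LP (LK LD1_c0 LD2_c33 LD3_c13)) = (LP (LK LD1_c1 LD2_c0 LD3_c24)) :=
  Lgr Lrot60 (Lpr_ff (K14.f248691 IH) (Lpe (K9.f171208 IH) (Lpe (K14.f171221 IH) (Lpn (LP (LK LD1_c1 LD2_c0 LD3_c24))))))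
theorem f248744 : Led Lsl_et (LP (LK LD1_c5 LD2_c3 LD3_c41)) = (LP (LK LD1_c2 LD2_c29 LD3_c18)) :=
  Lre_e IH (LK LD1_c5 LD2_c3 LD3_c41) (LK LD1_c2 LD2_c29 LD3_c18) Lrfl Lrfl
theorem f250233 : Led Lsl_df (LP (LK LD1_c5 LD2_c10 LD3_c24)) = (LP (LK LD1_c5 LD2_c3 LD3_c41)) :=
  Lgr Lrot132 (Lpe (f185075 IH) (Lpe (f183097 IH) (Lpr_gf (K18.f185864 IH) (Lpr_ef (K13.f181881 IH) (Lpe (K13.f180598 IH) (Lpr_gf (K14.f250229 IH) (Lpe (f248695 IH) (Lpr_et (K14.f248690 IH) (Lpe (f248722 IH) (Lpe (f248744 IH) (Lpn (LP (LK LD1_c5 LD2_c3 LD3_c41)))))))))))))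
theorem f307007 : Led Lsl_gf (LP (LK LD1_c4 LD2_c31 LD3_c38)) = (LP (LK LD1_c5 LD2_c10 LD3_c24)) :=
  Lgr Lrot134 (Lpr_df (f306948 IH) (Lpe (K17.f288306 IH) (Lpe (f300207 IH) (Lpe (f165285 IH) (Lpr_dt (f306983 IH) (Lpe (f307000 IH) (Lpe (f163901 IH) (Lpr_et (f171294 IH) (Lpr_gt (f307003 IH) (Lpe (f250233 IH) (Lpn (LP (LK LD1_c5 LD2_c10 LD3_c24)))))))))))))
theorem f307009 : Led Lsl_af (LP (LK LD1_c4 LD2_c31 LD3_c38)) = (LP (LK LD1_c2 LD2_c45 LD3_c48)) :=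
  Lgr Lrot31 (Lpr_gf (f307007 IH) (Lpe (f185075 IH) (Lpe (f305753 IH) (Lpn (LP (LK LD1_c2 LD2_c45 LD3_c48))))))
theorem f307024 : Led Lsl_ft (LP (LK LD1_c4 LD2_c31 LD3_c38)) = (LP (LK LD1_c2 LD2_c29 LD3_c9)) :=
  Lgr Lrot101 (Lpr_af (f307009 IH) (Lpr_ff (f305753 IH) (Lpe (K17.f291614 IH) (Lpn (LP (LK LD1_c2 LD2_c29 LD3_c9))))))
theorem f307032 : Led Lsl_ff (LP (LK LD1_c4 LD2_c31 LD3_c38)) = (LP (LK LD1_c2 LD2_c29 LD3_c9)) :=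
  Lgr Lrot3 (Lpr_ft (f307024 IH) (Lpn (LP (LK LD1_c2 LD2_c29 LD3_c9))))
theorem f291632 : Led Lsl_ff (LP (LK LD1_c1 LD2_c11 LD3_c43)) = (LP (LK LD1_c1 LD2_c18 LD3_c35)) :=
  Lgr Lrot3 (Lpr_ft (K17.f291626 IH) (Lpn (LP (LK LD1_c1 LD2_c18 LD3_c35))))
theorem f307041 : Led Lsl_ft (LP (LK LD1_c2 LD2_c12 LD3_c46)) = (LP (LK LD1_c1 LD2_c19 LD3_c16)) :=
  Lgr Lrot86 (Lpe (f181964 IH) (Lpr_ff (f307032 IH) (Lpe (K17.f291619 IH) (Lpr_ff (f291632 IH) (Lpe (K13.f179962 IH) (Lpn (LP (LK LD1_c1 LD2_c19 LD3_c16))))))))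
theorem f307054 : Led Lsl_df (LP (LK LD1_c2 LD2_c12 LD3_c46)) = (LP (LK LD1_c2 LD2_c24 LD3_c32)) :=
  Lgr Lrot78 (Lpr_ft (f307041 IH) (Lpr_dt (K13.f179960 IH) (Lpr_ft (f167012 IH) (Lpn (LP (LK LD1_c2 LD2_c24 LD3_c32))))))
theorem f307056 : Led Lsl_bt (LP (LK LD1_c2 LD2_c12 LD3_c46)) = (LP (LK LD1_c4 LD2_c31 LD3_c37)) :=
  Lre_b IH (LK LD1_c2 LD2_c12 LD3_c46) (LK LD1_c4 LD2_c31 LD3_c37) Lrfl Lrfl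
theorem f304938 : Led Lsl_bt (LP (LK LD1_c4 LD2_c53 LD3_c24)) = (LP (LK LD1_c2 LD2_c24 LD3_c32)) :=
  Lre_b IH (LK LD1_c4 LD2_c53 LD3_c24) (LK LD1_c2 LD2_c24 LD3_c32) Lrfl Lrfl
theorem f307057 : Led Lsl_dt (LP (LK LD1_c4 LD2_c31 LD3_c37)) = (LP (LK LD1_c4 LD2_c53 LD3_c24)) :=
  Lgr Lrot79 (Lpe (f307056 IH) (Lpr_df (f307054 IH) (Lpe (f304938 IH) (Lpn (LP (LK LD1_c4 LD2_c53 LD3_c24))))))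
theorem f307063 : Led Lsl_df (LP (LK LD1_c4 LD2_c31 LD3_c37)) = (LP (LK LD1_c4 LD2_c53 LD3_c24)) :=
  Lgr Lrot38 (Lpr_dt (f307057 IH) (Lpn (LP (LK LD1_c4 LD2_c53 LD3_c24))))
theorem f307068 : Led Lsl_et (LP (LK LD1_c4 LD2_c31 LD3_c37)) = (LP (LK LD1_c9 LD2_c1 LD3_c16)) :=
  Lre_e IH (LK LD1_c4 LD2_c31 LD3_c37) (LK LD1_c9 LD2_c1 LD3_c16) Lrfl Lrfl
theorem f304939 : Led Lsl_bt (LP (LK LD1_c2 LD2_c23 LD3_c60)) = (LP (LK LD1_c4 LD2_c52 LD3_c26)) :=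
  Lre_b IH (LK LD1_c2 LD2_c23 LD3_c60) (LK LD1_c4 LD2_c52 LD3_c26) Lrfl Lrfl
theorem f304940 : Led Lsl_ef (LP (LK LD1_c4 LD2_c53 LD3_c24)) = (LP (LK LD1_c4 LD2_c52 LD3_c26)) :=
  Lgr Lrot29 (Lpr_bt (f304938 IH) (Lpr_et (f304936 IH) (Lpr_bt (f304939 IH) (Lpn (LP (LK LD1_c4 LD2_c52 LD3_c26))))))
theorem f304945 : Led Lsl_bt (LP (LK LD1_c4 LD2_c52 LD3_c26)) = (LP (LK LD1_c2 LD2_c23 LD3_c60)) :=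
  Lre_b IH (LK LD1_c4 LD2_c52 LD3_c26) (LK LD1_c2 LD2_c23 LD3_c60) Lrfl Lrfl
theorem f306944 : Led Lsl_df (LP (LK LD1_c4 LD2_c52 LD3_c26)) = (LP (LK LD1_c5 LD2_c9 LD3_c45)) :=
  Lgr Lrot12 (Lpr_bt (f304945 IH) (Lpr_dt (f306941 IH) (Lpr_bt (K17.f288310 IH) (Lpn (LP (LK LD1_c5 LD2_c9 LD3_c45))))))
theorem f288303 : Led Lsl_bt (LP (LK LD1_c5 LD2_c9 LD3_c45)) = (LP (LK LD1_c2 LD2_c32 LD3_c5)) :=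
  Lre_b IH (LK LD1_c5 LD2_c9 LD3_c45) (LK LD1_c2 LD2_c32 LD3_c5) Lrfl Lrfl
theorem f288304 : Led Lsl_ef (LP (LK LD1_c5 LD2_c9 LD3_c45)) = (LP (LK LD1_c5 LD2_c3 LD3_c0)) :=
  Lgr Lrot29 (Lpr_bt (f288303 IH) (Lpr_et (K17.f288301 IH) (Lpr_bt (f257772 IH) (Lpn (LP (LK LD1_c5 LD2_c3 LD3_c0))))))
theorem f307073 : Led Lsl_dt (LP (LK LD1_c9 LD2_c1 LD3_c16)) = (LP (LK LD1_c5 LD2_c3 LD3_c0)) :=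
  Lgr Lrot77 (Lpe (f307068 IH) (Lpr_df (f307063 IH) (Lpr_ef (f304940 IH) (Lpr_df (f306944 IH) (Lpr_ef (f288304 IH) (Lpn (LP (LK LD1_c5 LD2_c3 LD3_c0))))))))
theorem f307065 : Led Lsl_et (LP (LK LD1_c9 LD2_c1 LD3_c16)) = (LP (LK LD1_c4 LD2_c31 LD3_c37)) :=
  Lre_e IH (LK LD1_c9 LD2_c1 LD3_c16) (LK LD1_c4 LD2_c31 LD3_c37) Lrfl Lrfl
theorem f257690 : Led Lsl_at (LP (LK LD1_c2 LD2_c29 LD3_c1)) = (LP (LK LD1_c5 LD2_c2 LD3_c49)) :=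
  Lre_a IH (LK LD1_c2 LD2_c29 LD3_c1) (LK LD1_c5 LD2_c2 LD3_c49) Lrfl Lrfl
theorem f284007 : Led Lsl_gf (LP (LK LD1_c4 LD2_c55 LD3_c23)) = (LP (LK LD1_c5 LD2_c3 LD3_c0)) :=
  Lgr Lrot47 (Lpr_gt (K17.f283978 IH) (Lpe (f257690 IH) (Lpe (K17.f257691 IH) (Lpn (LP (LK LD1_c5 LD2_c3 LD3_c0))))))
theorem f307096 : Led Lsl_et (LP (LK LD1_c1 LD2_c9 LD3_c59)) = (LP (LK LD1_c2 LD2_c25 LD3_c31)) :=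
  Lre_e IH (LK LD1_c1 LD2_c9 LD3_c59) (LK LD1_c2 LD2_c25 LD3_c31) Lrfl Lrfl
theorem f307097 : Led Lsl_gf (LP (LK LD1_c4 LD2_c31 LD3_c37)) = (LP (LK LD1_c2 LD2_c25 LD3_c31)) :=
  Lgr Lrot141 (Lpe (f307065 IH) (Lpr_dt (f307073 IH) (Lpe (f284007 IH) (Lpe (K14.f55085 IH) (Lpr_et (K17.f55084 IH) (Lpr_gt (K9.f41406 IH) (Lpr_dt (K12.f41403 IH) (Lpr_gt (K12.f41404 IH) (Lpe (K13.f171910 IH) (Lpr_et (f307096 IH) (Lpn (LP (LK LD1_c2 LD2_c25 LD3_c31)))))))))))))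
theorem f304944 : Led Lsl_bt (LP (LK LD1_c2 LD2_c24 LD3_c32)) = (LP (LK LD1_c4 LD2_c53 LD3_c24)) :=
  Lre_b IH (LK LD1_c2 LD2_c24 LD3_c32) (LK LD1_c4 LD2_c53 LD3_c24) Lrfl Lrfl
theorem f304946 : Led Lsl_et (LP (LK LD1_c4 LD2_c53 LD3_c24)) = (LP (LK LD1_c4 LD2_c52 LD3_c26)) :=
  Lgr Lrot74 (Lpe (f304944 IH) (Lpr_ef (f304942 IH) (Lpe (f304945 IH) (Lpn (LP (LK LD1_c4 LD2_c52 LD3_c26))))))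
theorem f218586 : Led Lsl_et (LP (LK LD1_c2 LD2_c25 LD3_c31)) = (LP (LK LD1_c1 LD2_c9 LD3_c59)) :=
  Lre_e IH (LK LD1_c2 LD2_c25 LD3_c31) (LK LD1_c1 LD2_c9 LD3_c59) Lrfl Lrfl
theorem f246645 : Led Lsl_et (LP (LK LD1_c2 LD2_c3 LD3_c49)) = (LP (LK LD1_c4 LD2_c13 LD3_c5)) :=
  Lre_e IH (LK LD1_c2 LD2_c3 LD3_c49) (LK LD1_c4 LD2_c13 LD3_c5) Lrfl Lrfl
theorem f246646 : Led Lsl_df (LP (LK LD1_c2 LD2_c25 LD3_c31)) = (LP (LK LD1_c4 LD2_c13 LD3_c5)) :=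
  Lgr Lrot70 (Lpr_et (f218586 IH) (Lpr_dt (K13.f171910 IH) (Lpr_et (K14.f218585 IH) (Lpr_dt (K14.f246636 IH) (Lpr_et (f246645 IH) (Lpn (LP (LK LD1_c4 LD2_c13 LD3_c5))))))))
theorem f222161 : Led Lsl_et (LP (LK LD1_c4 LD2_c13 LD3_c5)) = (LP (LK LD1_c2 LD2_c3 LD3_c49)) :=
  Lre_e IH (LK LD1_c4 LD2_c13 LD3_c5) (LK LD1_c2 LD2_c3 LD3_c49) Lrfl Lrfl
theorem f305756 : Led Lsl_df (LP (LK LD1_c5 LD2_c39 LD3_c42)) = (LP (LK LD1_c5 LD2_c10 LD3_c14)) :=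
  Lgr Lrot78 (Lpr_ft (f305739 IH) (Lpr_dt (K14.f189576 IH) (Lpr_ft (K17.f289828 IH) (Lpn (LP (LK LD1_c5 LD2_c10 LD3_c14))))))
theorem f305828 : Led Lsl_gt (LP (LK LD1_c11 LD2_c10 LD3_c35)) = (LP (LK LD1_c5 LD2_c39 LD3_c42)) :=
  Lre_g IH (LK LD1_c11 LD2_c10 LD3_c35) (LK LD1_c5 LD2_c39 LD3_c42) Lrfl Lrfl
theorem f304554 : Led Lsl_et (LP (LK LD1_c2 LD2_c3 LD3_c61)) = (LP (LK LD1_c1 LD2_c9 LD3_c42)) :=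
  Lgr Lrot121 (Lpe (K18.f166630 IH) (Lpr_gf (K18.f304541 IH) (Lpe (K12.f171483 IH) (Lpr_et (K12.f188771 IH) (Lpe (K10.f171482 IH) (Lpe (K12.f171481 IH) (Lpr_dt (K12.f171439 IH) (Lpe (K12.f212435 IH) (Lpe (K12.f43294 IH) (Lpr_gf (K12.f43815 IH) (Lpn (LP (LK LD1_c1 LD2_c9 LD3_c42)))))))))))))
theorem f304558 : Led Lsl_ef (LP (LK LD1_c2 LD2_c3 LD3_c61)) = (LP (LK LD1_c1 LD2_c9 LD3_c42)) :=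
  Lgr Lrot88 (Lpr_et (f304554 IH) (Lpn (LP (LK LD1_c1 LD2_c9 LD3_c42))))
theorem f166642 : Led Lsl_et (LP (LK LD1_c2 LD2_c24 LD3_c33)) = (LP (LK LD1_c4 LD2_c53 LD3_c30)) :=
  Lre_e IH (LK LD1_c2 LD2_c24 LD3_c33) (LK LD1_c4 LD2_c53 LD3_c30) Lrfl Lrfl
theorem f304574 : Led Lsl_dt (LP (LK LD1_c4 LD2_c53 LD3_c30)) = (LP (LK LD1_c4 LD2_c54 LD3_c6)) :=
  Lgr Lrot77 (Lpe (f166642 IH) (Lpr_df (K18.f166630 IH) (Lpr_ef (f304558 IH) (Lpe (K14.f43817 IH) (Lpe (K17.f248040 IH) (Lpn (LP (LK LD1_c4 LD2_c54 LD3_c6))))))))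
theorem f166648 : Led Lsl_et (LP (LK LD1_c4 LD2_c53 LD3_c30)) = (LP (LK LD1_c2 LD2_c24 LD3_c33)) :=
  Lre_e IH (LK LD1_c4 LD2_c53 LD3_c30) (LK LD1_c2 LD2_c24 LD3_c33) Lrfl Lrfl
theorem f166974 : Led Lsl_et (LP (LK LD1_c0 LD2_c58 LD3_c40)) = (LP (LK LD1_c2 LD2_c3 LD3_c26)) :=
  Lre_e IH (LK LD1_c0 LD2_c58 LD3_c40) (LK LD1_c2 LD2_c3 LD3_c26) Lrfl Lrfl
theorem f166862 : Led Lsl_gt (LP (LK LD1_c2 LD2_c3 LD3_c26)) = (LP (LK LD1_c4 LD2_c12 LD3_c29)) :=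
  Lre_g IH (LK LD1_c2 LD2_c3 LD3_c26) (LK LD1_c4 LD2_c12 LD3_c29) Lrfl Lrfl
theorem f166863 : Led Lsl_dt (LP (LK LD1_c4 LD2_c12 LD3_c29)) = (LP (LK LD1_c8 LD2_c24 LD3_c40)) :=
  Lre_d IH (LK LD1_c4 LD2_c12 LD3_c29) (LK LD1_c8 LD2_c24 LD3_c40) Lrfl Lrfl
theorem f304576 : Led Lsl_gt (LP (LK LD1_c8 LD2_c24 LD3_c40)) = (LP (LK LD1_c4 LD2_c54 LD3_c6)) :=
  Lgr Lrot139 (Lpe (f166863 IH) (Lpe (f166862 IH) (Lpe (f166974 IH) (Lpr_dt (K10.f166515 IH) (Lpr_gf (K10.f189095 IH) (Lpe (K12.f53636 IH) (Lpe (K12.f53973 IH) (Lpe (f304539 IH) (Lpe (f166648 IH) (Lpr_dt (f304574 IH) (Lpn (LP (LK LD1_c4 LD2_c54 LD3_c6)))))))))))))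
theorem f304578 : Led Lsl_gf (LP (LK LD1_c8 LD2_c24 LD3_c40)) = (LP (LK LD1_c5 LD2_c2 LD3_c16)) :=
  Lgr Lrot47 (Lpr_gt (f304576 IH) (Lpe (K17.f289849 IH) (Lpe (K17.f166653 IH) (Lpn (LP (LK LD1_c5 LD2_c2 LD3_c16))))))
theorem f166879 : Led Lsl_dt (LP (LK LD1_c8 LD2_c24 LD3_c40)) = (LP (LK LD1_c4 LD2_c12 LD3_c29)) :=
  Lre_d IH (LK LD1_c8 LD2_c24 LD3_c40) (LK LD1_c4 LD2_c12 LD3_c29) Lrfl Lrfl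
theorem f166946 : Led Lsl_gt (LP (LK LD1_c4 LD2_c12 LD3_c29)) = (LP (LK LD1_c8 LD2_c24 LD3_c8)) :=
  Lre_g IH (LK LD1_c4 LD2_c12 LD3_c29) (LK LD1_c8 LD2_c24 LD3_c8) Lrfl Lrfl
theorem f166819 : Led Lsl_at (LP (LK LD1_c5 LD2_c3 LD3_c50)) = (LP (LK LD1_c9 LD2_c58 LD3_c17)) :=
  Lre_a IH (LK LD1_c5 LD2_c3 LD3_c50) (LK LD1_c9 LD2_c58 LD3_c17) Lrfl Lrfl
theorem f166820 : Led Lsl_at (LP (LK LD1_c8 LD2_c24 LD3_c8)) = (LP (LK LD1_c4 LD2_c12 LD3_c31)) :=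
  Lre_a IH (LK LD1_c8 LD2_c24 LD3_c8) (LK LD1_c4 LD2_c12 LD3_c31) Lrfl Lrfl
theorem f166821 : Led Lsl_dt (LP (LK LD1_c9 LD2_c58 LD3_c17)) = (LP (LK LD1_c8 LD2_c24 LD3_c8)) :=
  Lgr Lrot44 (Lpe (f166819 IH) (Lpr_df (K10.f166817 IH) (Lpe (f166820 IH) (Lpn (LP (LK LD1_c8 LD2_c24 LD3_c8))))))
theorem f249051 : Led Lsl_gt (LP (LK LD1_c10 LD2_c11 LD3_c37)) = (LP (LK LD1_c5 LD2_c10 LD3_c35)) :=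
  Lre_g IH (LK LD1_c10 LD2_c11 LD3_c37) (LK LD1_c5 LD2_c10 LD3_c35) Lrfl Lrfl
theorem f249668 : Led Lsl_et (LP (LK LD1_c10 LD2_c11 LD3_c56)) = (LP (LK LD1_c5 LD2_c10 LD3_c35)) :=
  Lre_e IH (LK LD1_c10 LD2_c11 LD3_c56) (LK LD1_c5 LD2_c10 LD3_c35) Lrfl Lrfl
theorem f305829 : Led Lsl_df (LP (LK LD1_c11 LD2_c10 LD3_c35)) = (LP (LK LD1_c10 LD2_c11 LD3_c56)) :=
  Lgr Lrot170 (Lpr_gt (f305828 IH) (Lpr_df (f305756 IH) (Lpr_et (K17.f289829 IH) (Lpe (f304578 IH) (Lpr_dt (f166879 IH) (Lpr_gt (f166946 IH) (Lpe (f166821 IH) (Lpr_et (K14.f249662 IH) (Lpr_gt (f249051 IH) (Lpe (f249668 IH) (Lpn (LP (LK LD1_c10 LD2_c11 LD3_c56)))))))))))))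
theorem f253612 : Led Lsl_gt (LP (LK LD1_c5 LD2_c10 LD3_c35)) = (LP (LK LD1_c2 LD2_c32 LD3_c20)) :=
  Lre_g IH (LK LD1_c5 LD2_c10 LD3_c35) (LK LD1_c2 LD2_c32 LD3_c20) Lrfl Lrfl
theorem f257589 : Led Lsl_et (LP (LK LD1_c2 LD2_c28 LD3_c60)) = (LP (LK LD1_c5 LD2_c2 LD3_c52)) :=
  Lre_e IH (LK LD1_c2 LD2_c28 LD3_c60) (LK LD1_c5 LD2_c2 LD3_c52) Lrfl Lrfl
theorem f305839 : Led Lsl_gf (LP (LK LD1_c11 LD2_c10 LD3_c35)) = (LP (LK LD1_c8 LD2_c13 LD3_c18)) :=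
  Lgr Lrot134 (Lpr_df (f305829 IH) (Lpr_et (f249668 IH) (Lpr_gt (f253612 IH) (Lpe (K16.f249603 IH) (Lpe (K14.f249601 IH) (Lpr_gt (K14.f199173 IH) (Lpr_df (K16.f275166 IH) (Lpr_et (f257589 IH) (Lpe (f300186 IH) (Lpe (K17.f250453 IH) (Lpn (LP (LK LD1_c8 LD2_c13 LD3_c18)))))))))))))
theorem f47885 : Led Lsl_et (LP (LK LD1_c4 LD2_c6 LD3_c43)) = (LP (LK LD1_c2 LD2_c0 LD3_c40)) :=
  Lre_e IH (LK LD1_c4 LD2_c6 LD3_c43) (LK LD1_c2 LD2_c0 LD3_c40) Lrfl Lrfl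
theorem f47887 : Led Lsl_gt (LP (LK LD1_c8 LD2_c14 LD3_c5)) = (LP (LK LD1_c4 LD2_c6 LD3_c43)) :=
  Lre_g IH (LK LD1_c8 LD2_c14 LD3_c5) (LK LD1_c4 LD2_c6 LD3_c43) Lrfl Lrfl
theorem f47892 : Led Lsl_dt (LP (LK LD1_c15 LD2_c29 LD3_c37)) = (LP (LK LD1_c8 LD2_c14 LD3_c5)) :=
  Lre_d IH (LK LD1_c15 LD2_c29 LD3_c37) (LK LD1_c8 LD2_c14 LD3_c5) Lrfl Lrfl
theorem f305843 : Led Lsl_ef (LP (LK LD1_c11 LD2_c10 LD3_c35)) = (LP (LK LD1_c15 LD2_c29 LD3_c37)) :=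
  Lgr Lrot17 (Lpr_gf (f305839 IH) (Lpe (K17.f230891 IH) (Lpr_dt (K14.f250435 IH) (Lpe (K15.f265050 IH) (Lpe (K12.f213915 IH) (Lpe (K12.f214072 IH) (Lpe (f47885 IH) (Lpr_dt (K9.f47864 IH) (Lpe (f47887 IH) (Lpe (f47892 IH) (Lpn (LP (LK LD1_c15 LD2_c29 LD3_c37)))))))))))))
theorem f305836 : Led Lsl_dt (LP (LK LD1_c11 LD2_c10 LD3_c35)) = (LP (LK LD1_c10 LD2_c11 LD3_c56)) :=
  Lgr Lrot42 (Lpr_df (f305829 IH) (Lpn (LP (LK LD1_c10 LD2_c11 LD3_c56))))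
theorem f249052 : Led Lsl_dt (LP (LK LD1_c5 LD2_c10 LD3_c35)) = (LP (LK LD1_c10 LD2_c11 LD3_c55)) :=
  Lre_d IH (LK LD1_c5 LD2_c10 LD3_c35) (LK LD1_c10 LD2_c11 LD3_c55) Lrfl Lrfl
theorem f54539 : Led Lsl_dt (LP (LK LD1_c8 LD2_c14 LD3_c5)) = (LP (LK LD1_c15 LD2_c29 LD3_c37)) :=
  Lre_d IH (LK LD1_c8 LD2_c14 LD3_c5) (LK LD1_c15 LD2_c29 LD3_c37) Lrfl Lrfl
theorem f305845 : Led Lsl_et (LP (LK LD1_c10 LD2_c11 LD3_c55)) = (LP (LK LD1_c8 LD2_c14 LD3_c5)) :=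
  Lgr Lrot71 (Lpe (f249052 IH) (Lpe (f249668 IH) (Lpe (f305836 IH) (Lpr_ef (f305843 IH) (Lpe (f54539 IH) (Lpn (LP (LK LD1_c8 LD2_c14 LD3_c5))))))))
theorem f253632 : Led Lsl_dt (LP (LK LD1_c10 LD2_c11 LD3_c55)) = (LP (LK LD1_c5 LD2_c10 LD3_c35)) :=
  Lre_d IH (LK LD1_c10 LD2_c11 LD3_c55) (LK LD1_c5 LD2_c10 LD3_c35) Lrfl Lrfl
theorem f249049 : Led Lsl_at (LP (LK LD1_c10 LD2_c11 LD3_c37)) = (LP (LK LD1_c5 LD2_c10 LD3_c36)) :=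
  Lre_a IH (LK LD1_c10 LD2_c11 LD3_c37) (LK LD1_c5 LD2_c10 LD3_c36) Lrfl Lrfl
theorem f253667 : Led Lsl_at (LP (LK LD1_c5 LD2_c36 LD3_c36)) = (LP (LK LD1_c11 LD2_c5 LD3_c4)) :=
  Lre_a IH (LK LD1_c5 LD2_c36 LD3_c36) (LK LD1_c11 LD2_c5 LD3_c4) Lrfl Lrfl
theorem f253668 : Led Lsl_df (LP (LK LD1_c10 LD2_c11 LD3_c37)) = (LP (LK LD1_c11 LD2_c5 LD3_c4)) :=
  Lgr Lrot18 (Lpr_at (f249049 IH) (Lpr_dt (K14.f253655 IH) (Lpr_at (f253667 IH) (Lpn (LP (LK LD1_c11 LD2_c5 LD3_c4))))))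
theorem f254104 : Led Lsl_ct (LP (LK LD1_c19 LD2_c57 LD3_c54)) = (LP (LK LD1_c11 LD2_c5 LD3_c4)) :=
  Lre_c IH (LK LD1_c19 LD2_c57 LD3_c54) (LK LD1_c11 LD2_c5 LD3_c4) Lrfl Lrfl
theorem f221706 : Led Lsl_ct (LP (LK LD1_c15 LD2_c1 LD3_c26)) = (LP (LK LD1_c24 LD2_c49 LD3_c22)) :=
  Lre_c IH (LK LD1_c15 LD2_c1 LD3_c26) (LK LD1_c24 LD2_c49 LD3_c22) Lrfl Lrfl
theorem f254105 : Led Lsl_et (LP (LK LD1_c11 LD2_c5 LD3_c4)) = (LP (LK LD1_c15 LD2_c1 LD3_c26)) :=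
  Lgr Lrot158 (Lpe (f254104 IH) (Lpr_ef (K14.f254092 IH) (Lpe (f221706 IH) (Lpn (LP (LK LD1_c15 LD2_c1 LD3_c26))))))
theorem f47889 : Led Lsl_gt (LP (LK LD1_c4 LD2_c6 LD3_c43)) = (LP (LK LD1_c8 LD2_c14 LD3_c4)) :=
  Lre_g IH (LK LD1_c4 LD2_c6 LD3_c43) (LK LD1_c8 LD2_c14 LD3_c4) Lrfl Lrfl
theorem f47900 : Led Lsl_dt (LP (LK LD1_c15 LD2_c29 LD3_c34)) = (LP (LK LD1_c8 LD2_c14 LD3_c4)) :=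
  Lre_d IH (LK LD1_c15 LD2_c29 LD3_c34) (LK LD1_c8 LD2_c14 LD3_c4) Lrfl Lrfl
theorem f301204 : Led Lsl_dt (LP (LK LD1_c7 LD2_c58 LD3_c8)) = (LP (LK LD1_c4 LD2_c52 LD3_c7)) :=
  Lgr Lrot42 (Lpr_df (f301197 IH) (Lpn (LP (LK LD1_c4 LD2_c52 LD3_c7))))
theorem f222121 : Led Lsl_gt (LP (LK LD1_c9 LD2_c36 LD3_c37)) = (LP (LK LD1_c4 LD2_c52 LD3_c7)) :=
  Lre_g IH (LK LD1_c9 LD2_c36 LD3_c37) (LK LD1_c4 LD2_c52 LD3_c7) Lrfl Lrfl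
theorem f47882 : Led Lsl_et (LP (LK LD1_c2 LD2_c0 LD3_c40)) = (LP (LK LD1_c4 LD2_c6 LD3_c43)) :=
  Lre_e IH (LK LD1_c2 LD2_c0 LD3_c40) (LK LD1_c4 LD2_c6 LD3_c43) Lrfl Lrfl
theorem f55003 : Led Lsl_et (LP (LK LD1_c15 LD2_c29 LD3_c35)) = (LP (LK LD1_c8 LD2_c14 LD3_c4)) :=
  Lre_e IH (LK LD1_c15 LD2_c29 LD3_c35) (LK LD1_c8 LD2_c14 LD3_c4) Lrfl Lrfl
theorem f301234 : Led Lsl_df (LP (LK LD1_c9 LD2_c36 LD3_c37)) = (LP (LK LD1_c15 LD2_c29 LD3_c35)) :=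
  Lgr Lrot170 (Lpr_gt (f222121 IH) (Lpe (f301204 IH) (Lpr_et (f301206 IH) (Lpr_gt (K17.f182530 IH) (Lpr_dt (K15.f54530 IH) (Lpr_gt (K9.f47937 IH) (Lpe (K10.f47884 IH) (Lpr_et (f47882 IH) (Lpr_gt (f47889 IH) (Lpe (f55003 IH) (Lpn (LP (LK LD1_c15 LD2_c29 LD3_c35)))))))))))))
theorem f276677 : Led Lsl_et (LP (LK LD1_c2 LD2_c7 LD3_c12)) = (LP (LK LD1_c1 LD2_c0 LD3_c38)) :=
  Lre_e IH (LK LD1_c2 LD2_c7 LD3_c12) (LK LD1_c1 LD2_c0 LD3_c38) Lrfl Lrfl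
theorem f301195 : Led Lsl_gt (LP (LK LD1_c4 LD2_c19 LD3_c39)) = (LP (LK LD1_c8 LD2_c37 LD3_c32)) :=
  Lre_g IH (LK LD1_c4 LD2_c19 LD3_c39) (LK LD1_c8 LD2_c37 LD3_c32) Lrfl Lrfl
theorem f301196 : Led Lsl_dt (LP (LK LD1_c16 LD2_c9 LD3_c31)) = (LP (LK LD1_c8 LD2_c37 LD3_c32)) :=
  Lre_d IH (LK LD1_c16 LD2_c9 LD3_c31) (LK LD1_c8 LD2_c37 LD3_c32) Lrfl Lrfl
theorem f301217 : Led Lsl_et (LP (LK LD1_c16 LD2_c9 LD3_c31)) = (LP (LK LD1_c9 LD2_c36 LD3_c37)) :=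
  Lgr Lrot121 (Lpr_dt (f301196 IH) (Lpe (f301195 IH) (Lpe (K14.f254050 IH) (Lpr_et (f276677 IH) (Lpe (K15.f179570 IH) (Lpe (f267189 IH) (Lpe (f301162 IH) (Lpe (f55010 IH) (Lpr_df (f301197 IH) (Lpe (f222121 IH) (Lpn (LP (LK LD1_c9 LD2_c36 LD3_c37)))))))))))))
theorem f301223 : Led Lsl_ef (LP (LK LD1_c16 LD2_c9 LD3_c31)) = (LP (LK LD1_c9 LD2_c36 LD3_c37)) :=
  Lgr Lrot88 (Lpr_et (f301217 IH) (Lpn (LP (LK LD1_c9 LD2_c36 LD3_c37))))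
theorem f301239 : Led Lsl_et (LP (LK LD1_c8 LD2_c14 LD3_c4)) = (LP (LK LD1_c15 LD2_c29 LD3_c35)) :=
  Lre_e IH (LK LD1_c8 LD2_c14 LD3_c4) (LK LD1_c15 LD2_c29 LD3_c35) Lrfl Lrfl
theorem f301240 : Led Lsl_et (LP (LK LD1_c8 LD2_c37 LD3_c32)) = (LP (LK LD1_c15 LD2_c29 LD3_c34)) :=
  Lgr Lrot71 (Lpe (f301196 IH) (Lpr_ef (f301223 IH) (Lpr_df (f301234 IH) (Lpe (f301239 IH) (Lpe (f47900 IH) (Lpn (LP (LK LD1_c15 LD2_c29 LD3_c34))))))))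
theorem f301247 : Led Lsl_ef (LP (LK LD1_c8 LD2_c37 LD3_c32)) = (LP (LK LD1_c15 LD2_c29 LD3_c34)) :=
  Lgr Lrot88 (Lpr_et (f301240 IH) (Lpn (LP (LK LD1_c15 LD2_c29 LD3_c34))))
theorem f305860 : Led Lsl_gf (LP (LK LD1_c15 LD2_c1 LD3_c26)) = (LP (LK LD1_c8 LD2_c37 LD3_c32)) :=
  Lgr Lrot141 (Lpe (f254105 IH) (Lpe (f253668 IH) (Lpr_gt (f249051 IH) (Lpe (f253632 IH) (Lpr_et (f305845 IH) (Lpr_gt (f47887 IH) (Lpr_dt (K9.f47864 IH) (Lpr_gt (f47889 IH) (Lpe (f47900 IH) (Lpe (f301247 IH) (Lpn (LP (LK LD1_c8 LD2_c37 LD3_c32)))))))))))))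
theorem f250791 : Led Lsl_gt (LP (LK LD1_c8 LD2_c36 LD3_c12)) = (LP (LK LD1_c4 LD2_c18 LD3_c46)) :=
  Lre_g IH (LK LD1_c8 LD2_c36 LD3_c12) (LK LD1_c4 LD2_c18 LD3_c46) Lrfl Lrfl
theorem f305862 : Led Lsl_dt (LP (LK LD1_c15 LD2_c1 LD3_c26)) = (LP (LK LD1_c8 LD2_c36 LD3_c12)) :=
  Lgr Lrot171 (Lpr_gf (f305860 IH) (Lpr_ef (f301247 IH) (Lpr_dt (f47900 IH) (Lpe (f47889 IH) (Lpe (K9.f47864 IH) (Lpr_et (f47885 IH) (Lpe (K10.f47901 IH) (Lpe (K16.f47902 IH) (Lpr_dt (K16.f251695 IH) (Lpe (f250791 IH) (Lpn (LP (LK LD1_c8 LD2_c36 LD3_c12)))))))))))))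
theorem f305872 : Led Lsl_ff (LP (LK LD1_c4 LD2_c19 LD3_c25)) = (LP (LK LD1_c8 LD2_c36 LD3_c12)) :=
  Lgr Lrot19 (Lpr_dt (K14.f254022 IH) (Lpr_ft (K14.f221712 IH) (Lpr_dt (f305862 IH) (Lpn (LP (LK LD1_c8 LD2_c36 LD3_c12))))))
theorem f166903 : Led Lsl_et (LP (LK LD1_c2 LD2_c3 LD3_c21)) = (LP (LK LD1_c4 LD2_c12 LD3_c15)) :=
  Lre_e IH (LK LD1_c2 LD2_c3 LD3_c21) (LK LD1_c4 LD2_c12 LD3_c15) Lrfl Lrfl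
theorem f166930 : Led Lsl_ft (LP (LK LD1_c4 LD2_c12 LD3_c15)) = (LP (LK LD1_c8 LD2_c24 LD3_c8)) :=
  Lre_f IH (LK LD1_c4 LD2_c12 LD3_c15) (LK LD1_c8 LD2_c24 LD3_c8) Lrfl Lrfl
theorem f305878 : Led Lsl_et (LP (LK LD1_c8 LD2_c24 LD3_c8)) = (LP (LK LD1_c8 LD2_c36 LD3_c12)) :=
  Lgr Lrot69 (Lpe (f166930 IH) (Lpe (f166903 IH) (Lpr_ff (K15.f267209 IH) (Lpe (K18.f254048 IH) (Lpr_ff (f305872 IH) (Lpn (LP (LK LD1_c8 LD2_c36 LD3_c12))))))))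
theorem f221695 : Led Lsl_ft (LP (LK LD1_c15 LD2_c1 LD3_c26)) = (LP (LK LD1_c7 LD2_c57 LD3_c55)) :=
  Lre_f IH (LK LD1_c15 LD2_c1 LD3_c26) (LK LD1_c7 LD2_c57 LD3_c55) Lrfl Lrfl
theorem f221696 : Led Lsl_ft (LP (LK LD1_c4 LD2_c54 LD3_c55)) = (LP (LK LD1_c9 LD2_c41 LD3_c18)) :=
  Lre_f IH (LK LD1_c4 LD2_c54 LD3_c55) (LK LD1_c9 LD2_c41 LD3_c18) Lrfl Lrfl
theorem f221697 : Led Lsl_bf (LP (LK LD1_c15 LD2_c1 LD3_c26)) = (LP (LK LD1_c9 LD2_c41 LD3_c18)) :=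
  Lgr Lrot61 (Lpr_ft (f221695 IH) (Lpr_bt (K15.f221686 IH) (Lpr_ft (f221696 IH) (Lpn (LP (LK LD1_c9 LD2_c41 LD3_c18))))))
theorem f221747 : Led Lsl_et (LP (LK LD1_c2 LD2_c25 LD3_c20)) = (LP (LK LD1_c4 LD2_c54 LD3_c55)) :=
  Lre_e IH (LK LD1_c2 LD2_c25 LD3_c20) (LK LD1_c4 LD2_c54 LD3_c55) Lrfl Lrfl
theorem f252097 : Led Lsl_dt (LP (LK LD1_c4 LD2_c54 LD3_c55)) = (LP (LK LD1_c4 LD2_c12 LD3_c59)) :=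
  Lgr Lrot77 (Lpe (f221747 IH) (Lpr_df (K14.f252089 IH) (Lpe (K15.f252095 IH) (Lpe (K14.f252068 IH) (Lpe (K15.f252096 IH) (Lpn (LP (LK LD1_c4 LD2_c12 LD3_c59))))))))
theorem f271144 : Led Lsl_df (LP (LK LD1_c9 LD2_c41 LD3_c18)) = (LP (LK LD1_c8 LD2_c24 LD3_c21)) :=
  Lgr Lrot78 (Lpr_ft (K15.f221713 IH) (Lpr_dt (f252097 IH) (Lpr_ft (K16.f271137 IH) (Lpn (LP (LK LD1_c8 LD2_c24 LD3_c21))))))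
theorem f305866 : Led Lsl_bf (LP (LK LD1_c8 LD2_c24 LD3_c21)) = (LP (LK LD1_c8 LD2_c36 LD3_c12)) :=
  Lgr Lrot93 (Lpe (f271144 IH) (Lpe (f221697 IH) (Lpr_dt (f305862 IH) (Lpn (LP (LK LD1_c8 LD2_c36 LD3_c12))))))
theorem f305882 : Led Lsl_bf (LP (LK LD1_c8 LD2_c24 LD3_c8)) = (LP (LK LD1_c8 LD2_c36 LD3_c2)) :=
  Lgr Lrot96 (Lpr_et (f305878 IH) (Lpe (f305866 IH) (Lpe (K16.f271147 IH) (Lpn (LP (LK LD1_c8 LD2_c36 LD3_c2))))))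
theorem f166945 : Led Lsl_ft (LP (LK LD1_c8 LD2_c24 LD3_c8)) = (LP (LK LD1_c4 LD2_c12 LD3_c15)) :=
  Lre_f IH (LK LD1_c8 LD2_c24 LD3_c8) (LK LD1_c4 LD2_c12 LD3_c15) Lrfl Lrfl
theorem f271134 : Led Lsl_ft (LP (LK LD1_c4 LD2_c18 LD3_c40)) = (LP (LK LD1_c8 LD2_c36 LD3_c2)) :=
  Lre_f IH (LK LD1_c4 LD2_c18 LD3_c40) (LK LD1_c8 LD2_c36 LD3_c2) Lrfl Lrfl
theorem f305927 : Led Lsl_bt (LP (LK LD1_c4 LD2_c12 LD3_c15)) = (LP (LK LD1_c4 LD2_c18 LD3_c40)) :=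
  Lgr Lrot35 (Lpe (f166945 IH) (Lpr_bf (f305882 IH) (Lpe (f271134 IH) (Lpn (LP (LK LD1_c4 LD2_c18 LD3_c40))))))
theorem f166916 : Led Lsl_et (LP (LK LD1_c4 LD2_c12 LD3_c15)) = (LP (LK LD1_c2 LD2_c3 LD3_c21)) :=
  Lre_e IH (LK LD1_c4 LD2_c12 LD3_c15) (LK LD1_c2 LD2_c3 LD3_c21) Lrfl Lrfl
theorem f166917 : Led Lsl_dt (LP (LK LD1_c5 LD2_c3 LD3_c43)) = (LP (LK LD1_c4 LD2_c12 LD3_c15)) :=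
  Lgr Lrot77 (Lpe (K14.f166907 IH) (Lpr_df (K14.f166900 IH) (Lpe (K16.f166914 IH) (Lpe (K16.f166915 IH) (Lpe (f166916 IH) (Lpn (LP (LK LD1_c4 LD2_c12 LD3_c15))))))))
theorem f249645 : Led Lsl_bf (LP (LK LD1_c5 LD2_c3 LD3_c43)) = (LP (LK LD1_c4 LD2_c54 LD3_c23)) :=
  Lgr Lrot24 (Lpr_bt (K14.f249641 IH) (Lpn (LP (LK LD1_c4 LD2_c54 LD3_c23))))
theorem f305931 : Led Lsl_df (LP (LK LD1_c4 LD2_c54 LD3_c23)) = (LP (LK LD1_c4 LD2_c18 LD3_c40)) :=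
  Lgr Lrot12 (Lpe (f249645 IH) (Lpr_dt (f166917 IH) (Lpr_bt (f305927 IH) (Lpn (LP (LK LD1_c4 LD2_c18 LD3_c40))))))
theorem f249656 : Led Lsl_gt (LP (LK LD1_c9 LD2_c40 LD3_c16)) = (LP (LK LD1_c4 LD2_c54 LD3_c23)) :=
  Lre_g IH (LK LD1_c9 LD2_c40 LD3_c16) (LK LD1_c4 LD2_c54 LD3_c23) Lrfl Lrfl
theorem f246643 : Led Lsl_df (LP (LK LD1_c1 LD2_c9 LD3_c60)) = (LP (LK LD1_c2 LD2_c3 LD3_c49)) :=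
  Lgr Lrot38 (Lpr_dt (K14.f246636 IH) (Lpn (LP (LK LD1_c2 LD2_c3 LD3_c49))))
theorem f222110 : Led Lsl_et (LP (LK LD1_c9 LD2_c36 LD3_c49)) = (LP (LK LD1_c4 LD2_c52 LD3_c12)) :=
  Lre_e IH (LK LD1_c9 LD2_c36 LD3_c49) (LK LD1_c4 LD2_c52 LD3_c12) Lrfl Lrfl
theorem f305937 : Led Lsl_df (LP (LK LD1_c9 LD2_c40 LD3_c16)) = (LP (LK LD1_c9 LD2_c36 LD3_c49)) :=
  Lgr Lrot170 (Lpr_gt (f249656 IH) (Lpr_df (f305931 IH) (Lpr_et (K16.f246658 IH) (Lpr_gt (K14.f246650 IH) (Lpe (f246643 IH) (Lpe (K14.f246712 IH) (Lpe (K16.f222102 IH) (Lpr_et (K18.f222104 IH) (Lpr_gt (K18.f222108 IH) (Lpe (f222110 IH) (Lpn (LP (LK LD1_c9 LD2_c36 LD3_c49)))))))))))))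
theorem f307113 : Led Lsl_gt (LP (LK LD1_c4 LD2_c52 LD3_c26)) = (LP (LK LD1_c9 LD2_c36 LD3_c49)) :=
  Lgr Lrot137 (Lpe (f304946 IH) (Lpe (f307063 IH) (Lpr_gf (f307097 IH) (Lpr_df (f246646 IH) (Lpr_et (f222161 IH) (Lpe (K14.f246650 IH) (Lpe (K16.f246658 IH) (Lpe (f305931 IH) (Lpe (f249656 IH) (Lpr_df (f305937 IH) (Lpn (LP (LK LD1_c9 LD2_c36 LD3_c49)))))))))))))
theorem f305758 : Led Lsl_gt (LP (LK LD1_c5 LD2_c39 LD3_c42)) = (LP (LK LD1_c11 LD2_c10 LD3_c34)) :=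
  Lre_g IH (LK LD1_c5 LD2_c39 LD3_c42) (LK LD1_c11 LD2_c10 LD3_c34) Lrfl Lrfl
theorem f289960 : Led Lsl_af (LP (LK LD1_c8 LD2_c13 LD3_c18)) = (LP (LK LD1_c5 LD2_c10 LD3_c13)) :=
  Lgr Lrot0 (Lpr_at (K17.f289958 IH) (Lpn (LP (LK LD1_c5 LD2_c10 LD3_c13))))
theorem f305759 : Led Lsl_gt (LP (LK LD1_c11 LD2_c10 LD3_c34)) = (LP (LK LD1_c8 LD2_c13 LD3_c18)) :=
  Lgr Lrot46 (Lpe (f305758 IH) (Lpr_ft (f305739 IH) (Lpe (f289960 IH) (Lpn (LP (LK LD1_c8 LD2_c13 LD3_c18))))))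
theorem f193139 : Led Lsl_et (LP (LK LD1_c4 LD2_c54 LD3_c21)) = (LP (LK LD1_c2 LD2_c25 LD3_c3)) :=
  Lre_e IH (LK LD1_c4 LD2_c54 LD3_c21) (LK LD1_c2 LD2_c25 LD3_c3) Lrfl Lrfl
theorem f171457 : Led Lsl_gt (LP (LK LD1_c2 LD2_c32 LD3_c28)) = (LP (LK LD1_c5 LD2_c10 LD3_c56)) :=
  Lre_g IH (LK LD1_c2 LD2_c32 LD3_c28) (LK LD1_c5 LD2_c10 LD3_c56) Lrfl Lrfl
theorem f171716 : Led Lsl_et (LP (LK LD1_c10 LD2_c12 LD3_c33)) = (LP (LK LD1_c5 LD2_c10 LD3_c56)) :=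
  Lre_e IH (LK LD1_c10 LD2_c12 LD3_c33) (LK LD1_c5 LD2_c10 LD3_c56) Lrfl Lrfl
theorem f305761 : Led Lsl_df (LP (LK LD1_c11 LD2_c10 LD3_c34)) = (LP (LK LD1_c10 LD2_c12 LD3_c33)) :=
  Lgr Lrot170 (Lpr_gt (f305759 IH) (Lpr_df (K17.f250453 IH) (Lpr_et (f193139 IH) (Lpr_gt (K15.f257086 IH) (Lpr_dt (K15.f257574 IH) (Lpr_gt (K12.f171472 IH) (Lpr_df (K14.f171212 IH) (Lpr_et (K12.f171438 IH) (Lpr_gt (f171457 IH) (Lpe (f171716 IH) (Lpn (LP (LK LD1_c10 LD2_c12 LD3_c33)))))))))))))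
theorem f289866 : Led Lsl_gf (LP (LK LD1_c5 LD2_c2 LD3_c16)) = (LP (LK LD1_c8 LD2_c24 LD3_c43)) :=
  Lgr Lrot76 (Lpr_af (K17.f289857 IH) (Lpe (K17.f189457 IH) (Lpe (K14.f189455 IH) (Lpn (LP (LK LD1_c8 LD2_c24 LD3_c43))))))
theorem f171443 : Led Lsl_ft (LP (LK LD1_c2 LD2_c32 LD3_c28)) = (LP (LK LD1_c5 LD2_c10 LD3_c58)) :=
  Lre_f IH (LK LD1_c2 LD2_c32 LD3_c28) (LK LD1_c5 LD2_c10 LD3_c58) Lrfl Lrfl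
theorem f248587 : Led Lsl_gt (LP (LK LD1_c5 LD2_c10 LD3_c56)) = (LP (LK LD1_c9 LD2_c40 LD3_c17)) :=
  Lgr Lrot46 (Lpe (f171457 IH) (Lpr_ft (f171443 IH) (Lpr_at (K14.f248573 IH) (Lpn (LP (LK LD1_c9 LD2_c40 LD3_c17))))))
theorem f248583 : Led Lsl_df (LP (LK LD1_c8 LD2_c36 LD3_c2)) = (LP (LK LD1_c9 LD2_c40 LD3_c17)) :=
  Lgr Lrot18 (Lpr_at (K16.f171409 IH) (Lpr_dt (K12.f171407 IH) (Lpr_at (K14.f248573 IH) (Lpn (LP (LK LD1_c9 LD2_c40 LD3_c17))))))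
theorem f248589 : Led Lsl_gt (LP (LK LD1_c8 LD2_c36 LD3_c2)) = (LP (LK LD1_c4 LD2_c18 LD3_c53)) :=
  Lre_g IH (LK LD1_c8 LD2_c36 LD3_c2) (LK LD1_c4 LD2_c18 LD3_c53) Lrfl Lrfl
theorem f171466 : Led Lsl_dt (LP (LK LD1_c8 LD2_c36 LD3_c31)) = (LP (LK LD1_c4 LD2_c18 LD3_c53)) :=
  Lre_d IH (LK LD1_c8 LD2_c36 LD3_c31) (LK LD1_c4 LD2_c18 LD3_c53) Lrfl Lrfl
theorem f305767 : Led Lsl_ef (LP (LK LD1_c8 LD2_c24 LD3_c43)) = (LP (LK LD1_c8 LD2_c36 LD3_c31)) :=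
  Lgr Lrot114 (Lpe (f289866 IH) (Lpe (K17.f289829 IH) (Lpe (f305756 IH) (Lpr_gt (f305758 IH) (Lpr_df (f305761 IH) (Lpr_et (f171716 IH) (Lpr_gt (f248587 IH) (Lpe (f248583 IH) (Lpr_gt (f248589 IH) (Lpe (f171466 IH) (Lpn (LP (LK LD1_c8 LD2_c36 LD3_c31)))))))))))))
theorem f305773 : Led Lsl_et (LP (LK LD1_c8 LD2_c24 LD3_c43)) = (LP (LK LD1_c8 LD2_c36 LD3_c31)) :=
  Lgr Lrot87 (Lpr_ef (f305767 IH) (Lpn (LP (LK LD1_c8 LD2_c36 LD3_c31))))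
theorem f278615 : Led Lsl_gf (LP (LK LD1_c1 LD2_c12 LD3_c59)) = (LP (LK LD1_c0 LD2_c54 LD3_c38)) :=
  Lgr Lrot144 (Lpr_dt (K16.f278614 IH) (Lpr_gt (K16.f278609 IH) (Lpe (K16.f278214 IH) (Lpe (K14.f252673 IH) (Lpe (K16.f192498 IH) (Lpe (K14.f192495 IH) (Lpe (K14.f179075 IH) (Lpr_gf (K10.f183711 IH) (Lpe (K9.f31470 IH) (Lpn (LP (LK LD1_c0 LD2_c54 LD3_c38))))))))))))
theorem f278606 : Led Lsl_et (LP (LK LD1_c2 LD2_c31 LD3_c52)) = (LP (LK LD1_c5 LD2_c9 LD3_c30)) :=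
  Lre_e IH (LK LD1_c2 LD2_c31 LD3_c52) (LK LD1_c5 LD2_c9 LD3_c30) Lrfl Lrfl
theorem f305780 : Led Lsl_gt (LP (LK LD1_c5 LD2_c9 LD3_c30)) = (LP (LK LD1_c8 LD2_c36 LD3_c31)) :=
  Lgr Lrot131 (Lpe (f278606 IH) (Lpr_dt (K16.f275264 IH) (Lpr_gf (f278615 IH) (Lpe (K1.f31465 IH) (Lpe (K10.f189448 IH) (Lpe (K14.f166876 IH) (Lpr_dt (K10.f166827 IH) (Lpe (K14.f166877 IH) (Lpe (K14.f166878 IH) (Lpr_et (f305773 IH) (Lpn (LP (LK LD1_c8 LD2_c36 LD3_c31)))))))))))))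
theorem f305782 : Led Lsl_gf (LP (LK LD1_c5 LD2_c9 LD3_c45)) = (LP (LK LD1_c8 LD2_c36 LD3_c31)) :=
  Lgr Lrot76 (Lpe (K18.f288317 IH) (Lpe (K18.f300077 IH) (Lpr_gt (f305780 IH) (Lpn (LP (LK LD1_c8 LD2_c36 LD3_c31))))))
theorem f166949 : Led Lsl_gt (LP (LK LD1_c8 LD2_c24 LD3_c8)) = (LP (LK LD1_c4 LD2_c12 LD3_c30)) :=
  Lre_g IH (LK LD1_c8 LD2_c24 LD3_c8) (LK LD1_c4 LD2_c12 LD3_c30) Lrfl Lrfl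
theorem f249054 : Led Lsl_gt (LP (LK LD1_c5 LD2_c10 LD3_c34)) = (LP (LK LD1_c10 LD2_c11 LD3_c37)) :=
  Lre_g IH (LK LD1_c5 LD2_c10 LD3_c34) (LK LD1_c10 LD2_c11 LD3_c37) Lrfl Lrfl
theorem f305941 : Led Lsl_dt (LP (LK LD1_c9 LD2_c40 LD3_c16)) = (LP (LK LD1_c9 LD2_c36 LD3_c49)) :=
  Lgr Lrot42 (Lpr_df (f305937 IH) (Lpn (LP (LK LD1_c9 LD2_c36 LD3_c49))))
theorem f307118 : Led Lsl_ef (LP (LK LD1_c5 LD2_c10 LD3_c34)) = (LP (LK LD1_c9 LD2_c40 LD3_c16)) :=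
  Lgr Lrot114 (Lpr_gt (f249054 IH) (Lpe (K14.f249662 IH) (Lpr_dt (f166821 IH) (Lpr_gt (f166949 IH) (Lpe (K14.f166878 IH) (Lpr_et (f305773 IH) (Lpe (f305782 IH) (Lpe (f306944 IH) (Lpr_gt (f307113 IH) (Lpe (f305941 IH) (Lpn (LP (LK LD1_c9 LD2_c40 LD3_c16)))))))))))))
theorem f253634 : Led Lsl_gt (LP (LK LD1_c2 LD2_c32 LD3_c20)) = (LP (LK LD1_c5 LD2_c10 LD3_c34)) :=
  Lre_g IH (LK LD1_c2 LD2_c32 LD3_c20) (LK LD1_c5 LD2_c10 LD3_c34) Lrfl Lrfl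
theorem f278628 : Led Lsl_et (LP (LK LD1_c5 LD2_c9 LD3_c30)) = (LP (LK LD1_c2 LD2_c31 LD3_c52)) :=
  Lre_e IH (LK LD1_c5 LD2_c9 LD3_c30) (LK LD1_c2 LD2_c31 LD3_c52) Lrfl Lrfl
theorem f304953 : Led Lsl_ft (LP (LK LD1_c4 LD2_c52 LD3_c26)) = (LP (LK LD1_c2 LD2_c23 LD3_c57)) :=
  Lre_f IH (LK LD1_c4 LD2_c52 LD3_c26) (LK LD1_c2 LD2_c23 LD3_c57) Lrfl Lrfl
theorem f307115 : Led Lsl_at (LP (LK LD1_c2 LD2_c23 LD3_c57)) = (LP (LK LD1_c4 LD2_c52 LD3_c20)) :=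
  Lre_a IH (LK LD1_c2 LD2_c23 LD3_c57) (LK LD1_c4 LD2_c52 LD3_c20) Lrfl Lrfl
theorem f307116 : Led Lsl_gf (LP (LK LD1_c4 LD2_c52 LD3_c20)) = (LP (LK LD1_c9 LD2_c36 LD3_c49)) :=
  Lgr Lrot76 (Lpe (f307115 IH) (Lpe (f304953 IH) (Lpr_gt (f307113 IH) (Lpn (LP (LK LD1_c9 LD2_c36 LD3_c49))))))
theorem f307127 : Led Lsl_dt (LP (LK LD1_c5 LD2_c9 LD3_c30)) = (LP (LK LD1_c4 LD2_c52 LD3_c20)) :=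
  Lgr Lrot37 (Lpr_et (f278628 IH) (Lpr_gt (K16.f278609 IH) (Lpe (K16.f278214 IH) (Lpe (K14.f254266 IH) (Lpr_df (K14.f249601 IH) (Lpr_et (K16.f249603 IH) (Lpr_gt (f253634 IH) (Lpr_ef (f307118 IH) (Lpr_dt (f305941 IH) (Lpe (f307116 IH) (Lpn (LP (LK LD1_c4 LD2_c52 LD3_c20)))))))))))))
theorem f300201 : Led Lsl_ft (LP (LK LD1_c10 LD2_c9 LD3_c43)) = (LP (LK LD1_c5 LD2_c9 LD3_c30)) :=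
  Lre_f IH (LK LD1_c10 LD2_c9 LD3_c43) (LK LD1_c5 LD2_c9 LD3_c30) Lrfl Lrfl
theorem f276635 : Led Lsl_ft (LP (LK LD1_c4 LD2_c52 LD3_c20)) = (LP (LK LD1_c9 LD2_c36 LD3_c60)) :=
  Lre_f IH (LK LD1_c4 LD2_c52 LD3_c20) (LK LD1_c9 LD2_c36 LD3_c60) Lrfl Lrfl
theorem f307134 : Led Lsl_df (LP (LK LD1_c10 LD2_c9 LD3_c43)) = (LP (LK LD1_c9 LD2_c36 LD3_c60)) :=
  Lgr Lrot78 (Lpr_ft (f300201 IH) (Lpr_dt (f307127 IH) (Lpr_ft (f276635 IH) (Lpn (LP (LK LD1_c9 LD2_c36 LD3_c60))))))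
theorem f289931 : Led Lsl_et (LP (LK LD1_c9 LD2_c40 LD3_c11)) = (LP (LK LD1_c9 LD2_c39 LD3_c38)) :=
  Lgr Lrot87 (Lpr_ef (K17.f289927 IH) (Lpn (LP (LK LD1_c9 LD2_c39 LD3_c38))))
theorem f300083 : Led Lsl_bt (LP (LK LD1_c9 LD2_c39 LD3_c38)) = (LP (LK LD1_c10 LD2_c9 LD3_c43)) :=
  Lgr Lrot127 (Lpr_bf (K18.f300078 IH) (Lpn (LP (LK LD1_c10 LD2_c9 LD3_c43))))
theorem f300095 : Led Lsl_et (LP (LK LD1_c10 LD2_c9 LD3_c43)) = (LP (LK LD1_c9 LD2_c54 LD3_c61)) :=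
  Lgr Lrot74 (Lpe (f300083 IH) (Lpe (f289931 IH) (Lpr_bf (f300091 IH) (Lpn (LP (LK LD1_c9 LD2_c54 LD3_c61))))))
theorem f230905 : Led Lsl_ft (LP (LK LD1_c15 LD2_c24 LD3_c44)) = (LP (LK LD1_c8 LD2_c11 LD3_c8)) :=
  Lre_f IH (LK LD1_c15 LD2_c24 LD3_c44) (LK LD1_c8 LD2_c11 LD3_c8) Lrfl Lrfl
theorem f257688 : Led Lsl_ff (LP (LK LD1_c9 LD2_c54 LD3_c61)) = (LP (LK LD1_c5 LD2_c2 LD3_c49)) :=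
  Lgr Lrot3 (Lpr_ft (K18.f257605 IH) (Lpn (LP (LK LD1_c5 LD2_c2 LD3_c49))))
theorem f284019 : Led Lsl_df (LP (LK LD1_c15 LD2_c24 LD3_c44)) = (LP (LK LD1_c9 LD2_c54 LD3_c61)) :=
  Lgr Lrot78 (Lpr_ft (f230905 IH) (Lpr_dt (K17.f284011 IH) (Lpe (f257688 IH) (Lpn (LP (LK LD1_c9 LD2_c54 LD3_c61))))))
theorem f180088 : Led Lsl_et (LP (LK LD1_c2 LD2_c24 LD3_c27)) = (LP (LK LD1_c4 LD2_c53 LD3_c19)) :=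
  Lre_e IH (LK LD1_c2 LD2_c24 LD3_c27) (LK LD1_c4 LD2_c53 LD3_c19) Lrfl Lrfl
theorem f276623 : Led Lsl_ft (LP (LK LD1_c4 LD2_c53 LD3_c19)) = (LP (LK LD1_c9 LD2_c38 LD3_c44)) :=
  Lre_f IH (LK LD1_c4 LD2_c53 LD3_c19) (LK LD1_c9 LD2_c38 LD3_c44) Lrfl Lrfl
theorem f276622 : Led Lsl_et (LP (LK LD1_c4 LD2_c52 LD3_c20)) = (LP (LK LD1_c2 LD2_c23 LD3_c55)) :=
  Lre_e IH (LK LD1_c4 LD2_c52 LD3_c20) (LK LD1_c2 LD2_c23 LD3_c55) Lrfl Lrfl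
theorem f276624 : Led Lsl_ft (LP (LK LD1_c9 LD2_c36 LD3_c60)) = (LP (LK LD1_c4 LD2_c52 LD3_c20)) :=
  Lre_f IH (LK LD1_c9 LD2_c36 LD3_c60) (LK LD1_c4 LD2_c52 LD3_c20) Lrfl Lrfl
theorem f276625 : Led Lsl_et (LP (LK LD1_c9 LD2_c38 LD3_c44)) = (LP (LK LD1_c9 LD2_c36 LD3_c60)) :=
  Lgr Lrot69 (Lpe (f276623 IH) (Lpe (f180088 IH) (Lpr_ff (K16.f276618 IH) (Lpe (f276622 IH) (Lpe (f276624 IH) (Lpn (LP (LK LD1_c9 LD2_c36 LD3_c60))))))))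
theorem f307070 : Led Lsl_at (LP (LK LD1_c4 LD2_c31 LD3_c37)) = (LP (LK LD1_c9 LD2_c1 LD3_c14)) :=
  Lre_a IH (LK LD1_c4 LD2_c31 LD3_c37) (LK LD1_c9 LD2_c1 LD3_c14) Lrfl Lrfl
theorem f304950 : Led Lsl_at (LP (LK LD1_c9 LD2_c38 LD3_c44)) = (LP (LK LD1_c4 LD2_c53 LD3_c24)) :=
  Lre_a IH (LK LD1_c9 LD2_c38 LD3_c44) (LK LD1_c4 LD2_c53 LD3_c24) Lrfl Lrfl
theorem f307071 : Led Lsl_dt (LP (LK LD1_c9 LD2_c1 LD3_c14)) = (LP (LK LD1_c9 LD2_c38 LD3_c44)) :=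
  Lgr Lrot44 (Lpe (f307070 IH) (Lpr_df (f307063 IH) (Lpe (f304950 IH) (Lpn (LP (LK LD1_c9 LD2_c38 LD3_c44))))))
theorem f307142 : Led Lsl_et (LP (LK LD1_c15 LD2_c24 LD3_c44)) = (LP (LK LD1_c9 LD2_c1 LD3_c14)) :=
  Lgr Lrot71 (Lpr_df (f284019 IH) (Lpe (f300095 IH) (Lpr_df (f307134 IH) (Lpe (f276625 IH) (Lpe (f307071 IH) (Lpn (LP (LK LD1_c9 LD2_c1 LD3_c14))))))))
theorem f284024 : Led Lsl_dt (LP (LK LD1_c15 LD2_c24 LD3_c44)) = (LP (LK LD1_c9 LD2_c54 LD3_c61)) :=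
  Lgr Lrot42 (Lpr_df (f284019 IH) (Lpn (LP (LK LD1_c9 LD2_c54 LD3_c61))))
theorem f307166 : Led Lsl_gt (LP (LK LD1_c4 LD2_c54 LD3_c33)) = (LP (LK LD1_c9 LD2_c1 LD3_c14)) :=
  Lgr Lrot131 (Lpe (K16.f55104 IH) (Lpr_dt (K12.f55103 IH) (Lpe (K12.f40822 IH) (Lpe (K12.f55280 IH) (Lpe (K12.f55291 IH) (Lpe (K15.f55095 IH) (Lpe (K15.f259592 IH) (Lpe (K18.f257603 IH) (Lpe (f284024 IH) (Lpr_et (f307142 IH) (Lpn (LP (LK LD1_c9 LD2_c1 LD3_c14)))))))))))))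
theorem f55264 : Led Lsl_et (LP (LK LD1_c1 LD2_c10 LD3_c2)) = (LP (LK LD1_c2 LD2_c25 LD3_c43)) :=
  Lre_e IH (LK LD1_c1 LD2_c10 LD3_c2) (LK LD1_c2 LD2_c25 LD3_c43) Lrfl Lrfl
theorem f55282 : Led Lsl_gt (LP (LK LD1_c4 LD2_c55 LD3_c52)) = (LP (LK LD1_c2 LD2_c25 LD3_c43)) :=
  Lre_g IH (LK LD1_c4 LD2_c55 LD3_c52) (LK LD1_c2 LD2_c25 LD3_c43) Lrfl Lrfl
theorem f271182 : Led Lsl_gt (LP (LK LD1_c9 LD2_c38 LD3_c44)) = (LP (LK LD1_c4 LD2_c53 LD3_c23)) :=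
  Lre_g IH (LK LD1_c9 LD2_c38 LD3_c44) (LK LD1_c4 LD2_c53 LD3_c23) Lrfl Lrfl
theorem f180038 : Led Lsl_dt (LP (LK LD1_c9 LD2_c38 LD3_c54)) = (LP (LK LD1_c4 LD2_c53 LD3_c23)) :=
  Lre_d IH (LK LD1_c9 LD2_c38 LD3_c54) (LK LD1_c4 LD2_c53 LD3_c23) Lrfl Lrfl
theorem f307171 : Led Lsl_ef (LP (LK LD1_c4 LD2_c55 LD3_c52)) = (LP (LK LD1_c9 LD2_c38 LD3_c54)) :=
  Lgr Lrot114 (Lpr_gt (f55282 IH) (Lpe (f55264 IH) (Lpr_dt (K12.f55280 IH) (Lpr_gt (K12.f40822 IH) (Lpe (K12.f55103 IH) (Lpr_et (K16.f55104 IH) (Lpr_gt (f307166 IH) (Lpr_dt (f307071 IH) (Lpr_gt (f271182 IH) (Lpe (f180038 IH) (Lpn (LP (LK LD1_c9 LD2_c38 LD3_c54)))))))))))))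
theorem f167025 : Led Lsl_gt (LP (LK LD1_c4 LD2_c53 LD3_c23)) = (LP (LK LD1_c2 LD2_c24 LD3_c29)) :=
  Lre_g IH (LK LD1_c4 LD2_c53 LD3_c23) (LK LD1_c2 LD2_c24 LD3_c29) Lrfl Lrfl
theorem f187891 : Led Lsl_dt (LP (LK LD1_c4 LD2_c5 LD3_c9)) = (LP (LK LD1_c1 LD2_c59 LD3_c45)) :=
  Lre_d IH (LK LD1_c4 LD2_c5 LD3_c9) (LK LD1_c1 LD2_c59 LD3_c45) Lrfl Lrfl
theorem f284788 : Led Lsl_gt (LP (LK LD1_c2 LD2_c44 LD3_c27)) = (LP (LK LD1_c1 LD2_c59 LD3_c46)) :=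
  Lgr Lrot49 (Lpe (K16.f180050 IH) (Lpe (K14.f178262 IH) (Lpe (K14.f253976 IH) (Lpr_gt (K15.f265022 IH) (Lpe (K15.f265830 IH) (Lpr_gt (K17.f284783 IH) (Lpr_dt (f187891 IH) (Lpe (K10.f182522 IH) (Lpe (K13.f47278 IH) (Lpn (LP (LK LD1_c1 LD2_c59 LD3_c46))))))))))))
theorem f307401 : Led Lsl_gf (LP (LK LD1_c4 LD2_c55 LD3_c52)) = (LP (LK LD1_c8 LD2_c10 LD3_c61)) :=
  Lgr Lrot141 (Lpr_ef (f307171 IH) (Lpr_dt (f180038 IH) (Lpr_gt (f167025 IH) (Lpe (K16.f179956 IH) (Lpr_et (K14.f180029 IH) (Lpr_gt (f284788 IH) (Lpr_dt (K13.f47278 IH) (Lpr_gt (K9.f46220 IH) (Lpe (K1.f46216 IH) (Lpr_et (K1.f55042 IH) (Lpn (LP (LK LD1_c8 LD2_c10 LD3_c61)))))))))))))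
theorem f55285 : Led Lsl_dt (LP (LK LD1_c9 LD2_c43 LD3_c28)) = (LP (LK LD1_c4 LD2_c55 LD3_c52)) :=
  Lre_d IH (LK LD1_c9 LD2_c43 LD3_c28) (LK LD1_c4 LD2_c55 LD3_c52) Lrfl Lrfl
theorem f307396 : Led Lsl_dt (LP (LK LD1_c4 LD2_c55 LD3_c52)) = (LP (LK LD1_c9 LD2_c43 LD3_c28)) :=
  Lre_d IH (LK LD1_c4 LD2_c55 LD3_c52) (LK LD1_c9 LD2_c43 LD3_c28) Lrfl Lrfl
theorem f271185 : Led Lsl_dt (LP (LK LD1_c4 LD2_c53 LD3_c23)) = (LP (LK LD1_c9 LD2_c38 LD3_c54)) :=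
  Lre_d IH (LK LD1_c4 LD2_c53 LD3_c23) (LK LD1_c9 LD2_c38 LD3_c54) Lrfl Lrfl
theorem f180079 : Led Lsl_et (LP (LK LD1_c9 LD2_c38 LD3_c55)) = (LP (LK LD1_c4 LD2_c53 LD3_c23)) :=
  Lre_e IH (LK LD1_c9 LD2_c38 LD3_c55) (LK LD1_c4 LD2_c53 LD3_c23) Lrfl Lrfl
theorem f221700 : Led Lsl_gt (LP (LK LD1_c4 LD2_c54 LD3_c55)) = (LP (LK LD1_c9 LD2_c41 LD3_c16)) :=
  Lre_g IH (LK LD1_c4 LD2_c54 LD3_c55) (LK LD1_c9 LD2_c41 LD3_c16) Lrfl Lrfl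
theorem f271173 : Led Lsl_dt (LP (LK LD1_c9 LD2_c38 LD3_c55)) = (LP (LK LD1_c9 LD2_c41 LD3_c16)) :=
  Lgr Lrot37 (Lpr_et (f180079 IH) (Lpr_gt (f167025 IH) (Lpe (K14.f180064 IH) (Lpe (K16.f271171 IH) (Lpr_df (K16.f254912 IH) (Lpr_et (K16.f171506 IH) (Lpr_gt (K16.f271161 IH) (Lpe (K15.f252096 IH) (Lpe (K15.f261145 IH) (Lpr_gt (f221700 IH) (Lpn (LP (LK LD1_c9 LD2_c41 LD3_c16)))))))))))))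
theorem f271179 : Led Lsl_df (LP (LK LD1_c9 LD2_c38 LD3_c55)) = (LP (LK LD1_c9 LD2_c41 LD3_c16)) :=
  Lgr Lrot38 (Lpr_dt (f271173 IH) (Lpn (LP (LK LD1_c9 LD2_c41 LD3_c16))))
theorem f307397 : Led Lsl_et (LP (LK LD1_c9 LD2_c43 LD3_c28)) = (LP (LK LD1_c9 LD2_c41 LD3_c16)) :=
  Lgr Lrot71 (Lpe (f307396 IH) (Lpr_ef (f307171 IH) (Lpe (f271185 IH) (Lpe (f180079 IH) (Lpr_df (f271179 IH) (Lpn (LP (LK LD1_c9 LD2_c41 LD3_c16))))))))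
theorem f300202 : Led Lsl_gt (LP (LK LD1_c5 LD2_c9 LD3_c43)) = (LP (LK LD1_c10 LD2_c9 LD3_c43)) :=
  Lre_g IH (LK LD1_c5 LD2_c9 LD3_c43) (LK LD1_c10 LD2_c9 LD3_c43) Lrfl Lrfl
theorem f248566 : Led Lsl_ct (LP (LK LD1_c4 LD2_c54 LD3_c23)) = (LP (LK LD1_c9 LD2_c40 LD3_c14)) :=
  Lre_c IH (LK LD1_c4 LD2_c54 LD3_c23) (LK LD1_c9 LD2_c40 LD3_c14) Lrfl Lrfl
theorem f259786 : Led Lsl_dt (LP (LK LD1_c17 LD2_c47 LD3_c17)) = (LP (LK LD1_c9 LD2_c40 LD3_c14)) :=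
  Lre_d IH (LK LD1_c17 LD2_c47 LD3_c17) (LK LD1_c9 LD2_c40 LD3_c14) Lrfl Lrfl
theorem f230558 : Led Lsl_dt (LP (LK LD1_c9 LD2_c40 LD3_c14)) = (LP (LK LD1_c17 LD2_c47 LD3_c17)) :=
  Lre_d IH (LK LD1_c9 LD2_c40 LD3_c14) (LK LD1_c17 LD2_c47 LD3_c17) Lrfl Lrfl
theorem f165545 : Led Lsl_dt (LP (LK LD1_c2 LD2_c31 LD3_c56)) = (LP (LK LD1_c5 LD2_c9 LD3_c41)) :=
  Lre_d IH (LK LD1_c2 LD2_c31 LD3_c56) (LK LD1_c5 LD2_c9 LD3_c41) Lrfl Lrfl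
theorem f259778 : Led Lsl_et (LP (LK LD1_c2 LD2_c31 LD3_c56)) = (LP (LK LD1_c5 LD2_c9 LD3_c42)) :=
  Lre_e IH (LK LD1_c2 LD2_c31 LD3_c56) (LK LD1_c5 LD2_c9 LD3_c42) Lrfl Lrfl
theorem f259779 : Led Lsl_gt (LP (LK LD1_c5 LD2_c9 LD3_c42)) = (LP (LK LD1_c10 LD2_c10 LD3_c9)) :=
  Lre_g IH (LK LD1_c5 LD2_c9 LD3_c42) (LK LD1_c10 LD2_c10 LD3_c9) Lrfl Lrfl
theorem f259783 : Led Lsl_dt (LP (LK LD1_c10 LD2_c10 LD3_c9)) = (LP (LK LD1_c18 LD2_c31 LD3_c36)) :=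
  Lre_d IH (LK LD1_c10 LD2_c10 LD3_c9) (LK LD1_c18 LD2_c31 LD3_c36) Lrfl Lrfl
theorem f259784 : Led Lsl_gf (LP (LK LD1_c17 LD2_c47 LD3_c17)) = (LP (LK LD1_c18 LD2_c31 LD3_c36)) :=
  Lgr Lrot134 (Lpe (f230558 IH) (Lpr_et (K14.f230557 IH) (Lpr_gt (K12.f230551 IH) (Lpr_ef (K1.f44219 IH) (Lpr_dt (K1.f44218 IH) (Lpr_gt (K15.f259767 IH) (Lpe (f165545 IH) (Lpr_et (f259778 IH) (Lpr_gt (f259779 IH) (Lpr_dt (f259783 IH) (Lpn (LP (LK LD1_c18 LD2_c31 LD3_c36)))))))))))))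
theorem f166736 : Led Lsl_ct (LP (LK LD1_c5 LD2_c9 LD3_c42)) = (LP (LK LD1_c2 LD2_c31 LD3_c57)) :=
  Lre_c IH (LK LD1_c5 LD2_c9 LD3_c42) (LK LD1_c2 LD2_c31 LD3_c57) Lrfl Lrfl
theorem f192575 : Led Lsl_gt (LP (LK LD1_c2 LD2_c31 LD3_c57)) = (LP (LK LD1_c5 LD2_c9 LD3_c43)) :=
  Lre_g IH (LK LD1_c2 LD2_c31 LD3_c57) (LK LD1_c5 LD2_c9 LD3_c43) Lrfl Lrfl
theorem f246685 : Led Lsl_gt (LP (LK LD1_c8 LD2_c36 LD3_c1)) = (LP (LK LD1_c4 LD2_c18 LD3_c40)) :=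
  Lre_g IH (LK LD1_c8 LD2_c36 LD3_c1) (LK LD1_c4 LD2_c18 LD3_c40) Lrfl Lrfl
theorem f305933 : Led Lsl_dt (LP (LK LD1_c5 LD2_c9 LD3_c43)) = (LP (LK LD1_c8 LD2_c36 LD3_c1)) :=
  Lgr Lrot57 (Lpe (f192575 IH) (Lpe (f166736 IH) (Lpr_gt (f259779 IH) (Lpr_dt (f259783 IH) (Lpe (f259784 IH) (Lpr_dt (f259786 IH) (Lpe (f248566 IH) (Lpr_df (f305931 IH) (Lpe (f246685 IH) (Lpn (LP (LK LD1_c8 LD2_c36 LD3_c1))))))))))))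
theorem f305952 : Led Lsl_df (LP (LK LD1_c5 LD2_c9 LD3_c43)) = (LP (LK LD1_c8 LD2_c36 LD3_c1)) :=
  Lgr Lrot38 (Lpr_dt (f305933 IH) (Lpn (LP (LK LD1_c8 LD2_c36 LD3_c1))))
theorem f171424 : Led Lsl_gt (LP (LK LD1_c4 LD2_c18 LD3_c54)) = (LP (LK LD1_c8 LD2_c36 LD3_c1)) :=
  Lre_g IH (LK LD1_c4 LD2_c18 LD3_c54) (LK LD1_c8 LD2_c36 LD3_c1) Lrfl Lrfl
theorem f271154 : Led Lsl_ef (LP (LK LD1_c4 LD2_c18 LD3_c54)) = (LP (LK LD1_c4 LD2_c13 LD3_c12)) :=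
  Lgr Lrot88 (Lpr_et (K16.f271149 IH) (Lpn (LP (LK LD1_c4 LD2_c13 LD3_c12))))
theorem f180087 : Led Lsl_et (LP (LK LD1_c4 LD2_c53 LD3_c19)) = (LP (LK LD1_c2 LD2_c24 LD3_c27)) :=
  Lre_e IH (LK LD1_c4 LD2_c53 LD3_c19) (LK LD1_c2 LD2_c24 LD3_c27) Lrfl Lrfl
theorem f276633 : Led Lsl_ft (LP (LK LD1_c9 LD2_c38 LD3_c44)) = (LP (LK LD1_c4 LD2_c53 LD3_c19)) :=
  Lre_f IH (LK LD1_c9 LD2_c38 LD3_c44) (LK LD1_c4 LD2_c53 LD3_c19) Lrfl Lrfl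
theorem f276634 : Led Lsl_et (LP (LK LD1_c2 LD2_c23 LD3_c55)) = (LP (LK LD1_c4 LD2_c52 LD3_c20)) :=
  Lre_e IH (LK LD1_c2 LD2_c23 LD3_c55) (LK LD1_c4 LD2_c52 LD3_c20) Lrfl Lrfl
theorem f276636 : Led Lsl_ef (LP (LK LD1_c9 LD2_c38 LD3_c44)) = (LP (LK LD1_c9 LD2_c36 LD3_c60)) :=
  Lgr Lrot21 (Lpr_ft (f276633 IH) (Lpr_et (f180087 IH) (Lpr_ft (K16.f276627 IH) (Lpr_et (f276634 IH) (Lpr_ft (f276635 IH) (Lpn (LP (LK LD1_c9 LD2_c36 LD3_c60))))))))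
theorem f307156 : Led Lsl_gf (LP (LK LD1_c5 LD2_c36 LD3_c17)) = (LP (LK LD1_c9 LD2_c41 LD3_c16)) :=
  Lgr Lrot145 (Lpr_df (K17.f228833 IH) (Lpe (f271154 IH) (Lpr_gt (f171424 IH) (Lpe (f305952 IH) (Lpr_gt (f300202 IH) (Lpr_df (f307134 IH) (Lpe (f276636 IH) (Lpr_gt (f271182 IH) (Lpe (f180079 IH) (Lpr_dt (f271173 IH) (Lpn (LP (LK LD1_c9 LD2_c41 LD3_c16)))))))))))))
theorem f287817 : Led Lsl_bt (LP (LK LD1_c2 LD2_c59 LD3_c50)) = (LP (LK LD1_c6 LD2_c7 LD3_c22)) :=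
  Lre_b IH (LK LD1_c2 LD2_c59 LD3_c50) (LK LD1_c6 LD2_c7 LD3_c22) Lrfl Lrfl
theorem f287818 : Led Lsl_et (LP (LK LD1_c6 LD2_c7 LD3_c22)) = (LP (LK LD1_c5 LD2_c36 LD3_c17)) :=
  Lgr Lrot74 (Lpe (f287817 IH) (Lpr_ef (K17.f287812 IH) (Lpe (K17.f228848 IH) (Lpn (LP (LK LD1_c5 LD2_c36 LD3_c17))))))
theorem f55055 : Led Lsl_bf (LP (LK LD1_c8 LD2_c10 LD3_c61)) = (LP (LK LD1_c8 LD2_c13 LD3_c9)) :=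
  Lgr Lrot24 (Lpr_bt (K1.f55043 IH) (Lpn (LP (LK LD1_c8 LD2_c13 LD3_c9))))
theorem f55058 : Led Lsl_df (LP (LK LD1_c8 LD2_c10 LD3_c61)) = (LP (LK LD1_c8 LD2_c10 LD3_c61)) :=
  Lgr Lrot12 (Lpr_bt (K1.f55043 IH) (Lpe (K1.f47853 IH) (Lpe (f55055 IH) (Lpn (LP (LK LD1_c8 LD2_c10 LD3_c61))))))
theorem f55051 : Led Lsl_at (LP (LK LD1_c4 LD2_c5 LD3_c27)) = (LP (LK LD1_c8 LD2_c10 LD3_c61)) :=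
  Lre_a IH (LK LD1_c4 LD2_c5 LD3_c27) (LK LD1_c8 LD2_c10 LD3_c61) Lrfl Lrfl
theorem f55265 : Led Lsl_gt (LP (LK LD1_c2 LD2_c25 LD3_c43)) = (LP (LK LD1_c4 LD2_c55 LD3_c51)) :=
  Lre_g IH (LK LD1_c2 LD2_c25 LD3_c43) (LK LD1_c4 LD2_c55 LD3_c51) Lrfl Lrfl
theorem f55266 : Led Lsl_gf (LP (LK LD1_c8 LD2_c10 LD3_c61)) = (LP (LK LD1_c4 LD2_c55 LD3_c51)) :=
  Lgr Lrot76 (Lpe (f55051 IH) (Lpr_ff (K1.f55130 IH) (Lpr_gt (f55265 IH) (Lpn (LP (LK LD1_c4 LD2_c55 LD3_c51))))))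
theorem f55275 : Led Lsl_et (LP (LK LD1_c9 LD2_c43 LD3_c25)) = (LP (LK LD1_c4 LD2_c55 LD3_c51)) :=
  Lre_e IH (LK LD1_c9 LD2_c43 LD3_c25) (LK LD1_c4 LD2_c55 LD3_c51) Lrfl Lrfl
theorem f229926 : Led Lsl_et (LP (LK LD1_c2 LD2_c24 LD3_c59)) = (LP (LK LD1_c4 LD2_c54 LD3_c8)) :=
  Lre_e IH (LK LD1_c2 LD2_c24 LD3_c59) (LK LD1_c4 LD2_c54 LD3_c8) Lrfl Lrfl
theorem f230276 : Led Lsl_gt (LP (LK LD1_c9 LD2_c39 LD3_c43)) = (LP (LK LD1_c4 LD2_c54 LD3_c8)) :=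
  Lre_g IH (LK LD1_c9 LD2_c39 LD3_c43) (LK LD1_c4 LD2_c54 LD3_c8) Lrfl Lrfl
theorem f230277 : Led Lsl_et (LP (LK LD1_c17 LD2_c46 LD3_c12)) = (LP (LK LD1_c9 LD2_c39 LD3_c43)) :=
  Lre_e IH (LK LD1_c17 LD2_c46 LD3_c12) (LK LD1_c9 LD2_c39 LD3_c43) Lrfl Lrfl
theorem f257611 : Led Lsl_dt (LP (LK LD1_c2 LD2_c29 LD3_c1)) = (LP (LK LD1_c5 LD2_c2 LD3_c61)) :=
  Lre_d IH (LK LD1_c2 LD2_c29 LD3_c1) (LK LD1_c5 LD2_c2 LD3_c61) Lrfl Lrfl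
theorem f247644 : Led Lsl_gt (LP (LK LD1_c5 LD2_c2 LD3_c61)) = (LP (LK LD1_c9 LD2_c56 LD3_c54)) :=
  Lre_g IH (LK LD1_c5 LD2_c2 LD3_c61) (LK LD1_c9 LD2_c56 LD3_c54) Lrfl Lrfl
theorem f257629 : Led Lsl_dt (LP (LK LD1_c17 LD2_c46 LD3_c12)) = (LP (LK LD1_c9 LD2_c56 LD3_c54)) :=
  Lgr Lrot56 (Lpr_et (f230277 IH) (Lpr_gt (f230276 IH) (Lpe (f229926 IH) (Lpr_dt (K12.f229924 IH) (Lpr_gt (K12.f229518 IH) (Lpe (K15.f257574 IH) (Lpr_et (K15.f257600 IH) (Lpr_gt (K15.f257601 IH) (Lpr_dt (f257611 IH) (Lpr_gt (f247644 IH) (Lpn (LP (LK LD1_c9 LD2_c56 LD3_c54)))))))))))))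
theorem f257634 : Led Lsl_et (LP (LK LD1_c9 LD2_c39 LD3_c43)) = (LP (LK LD1_c17 LD2_c46 LD3_c12)) :=
  Lre_e IH (LK LD1_c9 LD2_c39 LD3_c43) (LK LD1_c17 LD2_c46 LD3_c12) Lrfl Lrfl
theorem f247643 : Led Lsl_et (LP (LK LD1_c2 LD2_c29 LD3_c4)) = (LP (LK LD1_c5 LD2_c2 LD3_c61)) :=
  Lre_e IH (LK LD1_c2 LD2_c29 LD3_c4) (LK LD1_c5 LD2_c2 LD3_c61) Lrfl Lrfl
theorem f55269 : Led Lsl_dt (LP (LK LD1_c9 LD2_c43 LD3_c24)) = (LP (LK LD1_c4 LD2_c55 LD3_c51)) :=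
  Lre_d IH (LK LD1_c9 LD2_c43 LD3_c24) (LK LD1_c4 LD2_c55 LD3_c51) Lrfl Lrfl
theorem f247645 : Led Lsl_ef (LP (LK LD1_c9 LD2_c56 LD3_c54)) = (LP (LK LD1_c9 LD2_c43 LD3_c24)) :=
  Lgr Lrot17 (Lpe (f247644 IH) (Lpe (f247643 IH) (Lpr_dt (K15.f192139 IH) (Lpe (K14.f28380 IH) (Lpr_df (K14.f247637 IH) (Lpe (K13.f55046 IH) (Lpe (K1.f55070 IH) (Lpe (f55058 IH) (Lpr_gf (f55266 IH) (Lpe (f55269 IH) (Lpn (LP (LK LD1_c9 LD2_c43 LD3_c24)))))))))))))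
theorem f247656 : Led Lsl_et (LP (LK LD1_c9 LD2_c56 LD3_c54)) = (LP (LK LD1_c9 LD2_c43 LD3_c24)) :=
  Lgr Lrot87 (Lpr_ef (f247645 IH) (Lpn (LP (LK LD1_c9 LD2_c43 LD3_c24))))
theorem f247665 : Led Lsl_et (LP (LK LD1_c4 LD2_c55 LD3_c51)) = (LP (LK LD1_c9 LD2_c43 LD3_c25)) :=
  Lre_e IH (LK LD1_c4 LD2_c55 LD3_c51) (LK LD1_c9 LD2_c43 LD3_c25) Lrfl Lrfl
theorem f257635 : Led Lsl_df (LP (LK LD1_c9 LD2_c39 LD3_c43)) = (LP (LK LD1_c9 LD2_c43 LD3_c25)) :=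
  Lgr Lrot70 (Lpr_et (f257634 IH) (Lpr_dt (f257629 IH) (Lpr_et (f247656 IH) (Lpr_dt (f55269 IH) (Lpr_et (f247665 IH) (Lpn (LP (LK LD1_c9 LD2_c43 LD3_c25))))))))
theorem f248624 : Led Lsl_gt (LP (LK LD1_c5 LD2_c3 LD3_c23)) = (LP (LK LD1_c9 LD2_c39 LD3_c43)) :=
  Lgr Lrot5 (Lpr_ft (K14.f248603 IH) (Lpr_at (K14.f248604 IH) (Lpe (f230276 IH) (Lpn (LP (LK LD1_c9 LD2_c39 LD3_c43))))))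
theorem f307408 : Led Lsl_dt (LP (LK LD1_c6 LD2_c7 LD3_c22)) = (LP (LK LD1_c5 LD2_c3 LD3_c23)) :=
  Lgr Lrot136 (Lpr_et (f287818 IH) (Lpr_gf (f307156 IH) (Lpe (f307397 IH) (Lpr_dt (f55285 IH) (Lpr_gf (f307401 IH) (Lpr_df (f55058 IH) (Lpr_gf (f55266 IH) (Lpe (f55275 IH) (Lpe (f257635 IH) (Lpe (f248624 IH) (Lpn (LP (LK LD1_c5 LD2_c3 LD3_c23)))))))))))))
theorem f55276 : Led Lsl_et (LP (LK LD1_c1 LD2_c59 LD3_c49)) = (LP (LK LD1_c4 LD2_c5 LD3_c16)) :=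
  Lre_e IH (LK LD1_c1 LD2_c59 LD3_c49) (LK LD1_c4 LD2_c5 LD3_c16) Lrfl Lrfl
theorem f307421 : Led Lsl_gf (LP (LK LD1_c6 LD2_c7 LD3_c22)) = (LP (LK LD1_c4 LD2_c5 LD3_c16)) :=
  Lgr Lrot138 (Lpr_dt (f307408 IH) (Lpr_gt (f248624 IH) (Lpr_df (f257635 IH) (Lpr_et (f55275 IH) (Lpe (f55266 IH) (Lpe (K1.f55042 IH) (Lpr_dt (K1.f46216 IH) (Lpr_gt (K10.f46214 IH) (Lpe (K15.f47420 IH) (Lpr_et (f55276 IH) (Lpn (LP (LK LD1_c4 LD2_c5 LD3_c16)))))))))))))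
theorem f307413 : Led Lsl_df (LP (LK LD1_c6 LD2_c7 LD3_c22)) = (LP (LK LD1_c5 LD2_c3 LD3_c23)) :=
  Lgr Lrot38 (Lpr_dt (f307408 IH) (Lpn (LP (LK LD1_c5 LD2_c3 LD3_c23))))
theorem f192138 : Led Lsl_et (LP (LK LD1_c5 LD2_c2 LD3_c54)) = (LP (LK LD1_c2 LD2_c28 LD3_c61)) :=
  Lre_e IH (LK LD1_c5 LD2_c2 LD3_c54) (LK LD1_c2 LD2_c28 LD3_c61) Lrfl Lrfl
theorem f307430 : Led Lsl_gt (LP (LK LD1_c5 LD2_c10 LD3_c58)) = (LP (LK LD1_c9 LD2_c40 LD3_c16)) :=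
  Lgr Lrot137 (Lpr_ef (K14.f248495 IH) (Lpe (f307413 IH) (Lpr_gf (f307421 IH) (Lpr_df (K16.f278217 IH) (Lpr_et (f192138 IH) (Lpe (K16.f278609 IH) (Lpe (f278628 IH) (Lpr_dt (f307127 IH) (Lpr_gf (f307116 IH) (Lpe (f305941 IH) (Lpn (LP (LK LD1_c9 LD2_c40 LD3_c16)))))))))))))
theorem f171410 : Led Lsl_ct (LP (LK LD1_c5 LD2_c10 LD3_c58)) = (LP (LK LD1_c10 LD2_c12 LD3_c30)) :=
  Lre_c IH (LK LD1_c5 LD2_c10 LD3_c58) (LK LD1_c10 LD2_c12 LD3_c30) Lrfl Lrfl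
theorem f248563 : Led Lsl_gt (LP (LK LD1_c17 LD2_c47 LD3_c16)) = (LP (LK LD1_c9 LD2_c40 LD3_c14)) :=
  Lre_g IH (LK LD1_c17 LD2_c47 LD3_c16) (LK LD1_c9 LD2_c40 LD3_c14) Lrfl Lrfl
theorem f248564 : Led Lsl_gt (LP (LK LD1_c10 LD2_c12 LD3_c30)) = (LP (LK LD1_c17 LD2_c47 LD3_c16)) :=
  Lgr Lrot5 (Lpr_ft (K14.f248560 IH) (Lpr_at (K14.f248549 IH) (Lpe (f248563 IH) (Lpn (LP (LK LD1_c17 LD2_c47 LD3_c16))))))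
theorem f248567 : Led Lsl_dt (LP (LK LD1_c17 LD2_c47 LD3_c16)) = (LP (LK LD1_c27 LD2_c34 LD3_c17)) :=
  Lre_d IH (LK LD1_c17 LD2_c47 LD3_c16) (LK LD1_c27 LD2_c34 LD3_c17) Lrfl Lrfl
theorem f278632 : Led Lsl_df (LP (LK LD1_c5 LD2_c9 LD3_c30)) = (LP (LK LD1_c4 LD2_c52 LD3_c20)) :=
  Lgr Lrot70 (Lpr_et (f278628 IH) (Lpr_dt (K16.f275264 IH) (Lpr_et (K16.f278629 IH) (Lpe (K16.f276670 IH) (Lpr_et (f276634 IH) (Lpn (LP (LK LD1_c4 LD2_c52 LD3_c20))))))))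
theorem f300072 : Led Lsl_ct (LP (LK LD1_c10 LD2_c9 LD3_c42)) = (LP (LK LD1_c5 LD2_c9 LD3_c30)) :=
  Lre_c IH (LK LD1_c10 LD2_c9 LD3_c42) (LK LD1_c5 LD2_c9 LD3_c30) Lrfl Lrfl
theorem f304609 : Led Lsl_dt (LP (LK LD1_c18 LD2_c30 LD3_c43)) = (LP (LK LD1_c10 LD2_c9 LD3_c42)) :=
  Lre_d IH (LK LD1_c18 LD2_c30 LD3_c43) (LK LD1_c10 LD2_c9 LD3_c42) Lrfl Lrfl
theorem f307434 : Led Lsl_gt (LP (LK LD1_c27 LD2_c34 LD3_c17)) = (LP (LK LD1_c18 LD2_c30 LD3_c43)) :=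
  Lgr Lrot49 (Lpe (f248567 IH) (Lpe (f248564 IH) (Lpe (f171410 IH) (Lpr_gt (f307430 IH) (Lpr_dt (f305941 IH) (Lpe (f307116 IH) (Lpe (f278632 IH) (Lpe (f300072 IH) (Lpe (f304609 IH) (Lpn (LP (LK LD1_c18 LD2_c30 LD3_c43))))))))))))
theorem f248614 : Led Lsl_dt (LP (LK LD1_c9 LD2_c57 LD3_c34)) = (LP (LK LD1_c18 LD2_c13 LD3_c33)) :=
  Lre_d IH (LK LD1_c9 LD2_c57 LD3_c34) (LK LD1_c18 LD2_c13 LD3_c33) Lrfl Lrfl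
theorem f283887 : Led Lsl_dt (LP (LK LD1_c10 LD2_c9 LD3_c42)) = (LP (LK LD1_c18 LD2_c30 LD3_c43)) :=
  Lre_d IH (LK LD1_c10 LD2_c9 LD3_c42) (LK LD1_c18 LD2_c30 LD3_c43) Lrfl Lrfl
theorem f283886 : Led Lsl_et (LP (LK LD1_c10 LD2_c9 LD3_c42)) = (LP (LK LD1_c5 LD2_c9 LD3_c29)) :=
  Lre_e IH (LK LD1_c10 LD2_c9 LD3_c42) (LK LD1_c5 LD2_c9 LD3_c29) Lrfl Lrfl
theorem f169947 : Led Lsl_et (LP (LK LD1_c9 LD2_c56 LD3_c42)) = (LP (LK LD1_c5 LD2_c2 LD3_c56)) :=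
  Lre_e IH (LK LD1_c9 LD2_c56 LD3_c42) (LK LD1_c5 LD2_c2 LD3_c56) Lrfl Lrfl
theorem f169945 : Led Lsl_dt (LP (LK LD1_c9 LD2_c56 LD3_c42)) = (LP (LK LD1_c18 LD2_c11 LD3_c60)) :=
  Lre_d IH (LK LD1_c9 LD2_c56 LD3_c42) (LK LD1_c18 LD2_c11 LD3_c60) Lrfl Lrfl
theorem f307440 : Led Lsl_gf (LP (LK LD1_c18 LD2_c13 LD3_c33)) = (LP (LK LD1_c18 LD2_c11 LD3_c60)) :=
  Lgr Lrot145 (Lpe (f248614 IH) (Lpr_et (K14.f248672 IH) (Lpr_gt (f248564 IH) (Lpr_dt (f248567 IH) (Lpr_gt (f307434 IH) (Lpe (f283887 IH) (Lpr_et (f283886 IH) (Lpr_gt (K17.f283882 IH) (Lpe (f169947 IH) (Lpr_dt (f169945 IH) (Lpn (LP (LK LD1_c18 LD2_c11 LD3_c60)))))))))))))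
theorem f305731 : Led Lsl_bt (LP (LK LD1_c5 LD2_c39 LD3_c42)) = (LP (LK LD1_c2 LD2_c45 LD3_c48)) :=
  Lre_b IH (LK LD1_c5 LD2_c39 LD3_c42) (LK LD1_c2 LD2_c45 LD3_c48) Lrfl Lrfl
theorem f305821 : Led Lsl_dt (LP (LK LD1_c2 LD2_c45 LD3_c48)) = (LP (LK LD1_c2 LD2_c32 LD3_c16)) :=
  Lgr Lrot79 (Lpe (f305731 IH) (Lpr_df (f305756 IH) (Lpe (f289951 IH) (Lpn (LP (LK LD1_c2 LD2_c32 LD3_c16))))))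
theorem f171764 : Led Lsl_et (LP (LK LD1_c0 LD2_c16 LD3_c18)) = (LP (LK LD1_c0 LD2_c36 LD3_c35)) :=
  Lre_e IH (LK LD1_c0 LD2_c16 LD3_c18) (LK LD1_c0 LD2_c36 LD3_c35) Lrfl Lrfl
theorem f306068 : Led Lsl_gf (LP (LK LD1_c2 LD2_c28 LD3_c48)) = (LP (LK LD1_c2 LD2_c32 LD3_c16)) :=
  Lgr Lrot145 (Lpe (K14.f171271 IH) (Lpr_et (K14.f54863 IH) (Lpr_gt (K9.f179510 IH) (Lpr_dt (K9.f40751 IH) (Lpe (K9.f171755 IH) (Lpe (K9.f165206 IH) (Lpr_et (f171764 IH) (Lpr_gt (f171489 IH) (Lpe (f171876 IH) (Lpr_dt (f305821 IH) (Lpn (LP (LK LD1_c2 LD2_c32 LD3_c16)))))))))))))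
theorem f171274 : Led Lsl_ct (LP (LK LD1_c2 LD2_c28 LD3_c48)) = (LP (LK LD1_c5 LD2_c2 LD3_c27)) :=
  Lre_c IH (LK LD1_c2 LD2_c28 LD3_c48) (LK LD1_c5 LD2_c2 LD3_c27) Lrfl Lrfl
theorem f186663 : Led Lsl_et (LP (LK LD1_c2 LD2_c28 LD3_c47)) = (LP (LK LD1_c5 LD2_c2 LD3_c27)) :=
  Lre_e IH (LK LD1_c2 LD2_c28 LD3_c47) (LK LD1_c5 LD2_c2 LD3_c27) Lrfl Lrfl
theorem f21315 : Led Lsl_ef (LP (LK LD1_c0 LD2_c33 LD3_c58)) = (LP (LK LD1_c0 LD2_c33 LD3_c15)) :=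
  Lgr Lrot28 (Lpr_ct (K10.f21313 IH) (Lpr_et (K0.f21281 IH) (Lpr_ct (K9.f21314 IH) (Lpn (LP (LK LD1_c0 LD2_c33 LD3_c15))))))
theorem f169584 : Led Lsl_et (LP (LK LD1_c1 LD2_c12 LD3_c13)) = (LP (LK LD1_c2 LD2_c30 LD3_c26)) :=
  Lre_e IH (LK LD1_c1 LD2_c12 LD3_c13) (LK LD1_c2 LD2_c30 LD3_c26) Lrfl Lrfl
theorem f198599 : Led Lsl_gt (LP (LK LD1_c5 LD2_c2 LD3_c27)) = (LP (LK LD1_c2 LD2_c30 LD3_c26)) :=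
  Lgr Lrot131 (Lpe (f186663 IH) (Lpr_dt (K9.f169588 IH) (Lpr_gf (K11.f198579 IH) (Lpe (K10.f21997 IH) (Lpe (K10.f21996 IH) (Lpr_ef (f21315 IH) (Lpr_dt (K0.f21383 IH) (Lpe (K9.f21419 IH) (Lpe (K9.f169582 IH) (Lpr_et (f169584 IH) (Lpn (LP (LK LD1_c2 LD2_c30 LD3_c26)))))))))))))
theorem f180562 : Led Lsl_ct (LP (LK LD1_c1 LD2_c12 LD3_c14)) = (LP (LK LD1_c2 LD2_c30 LD3_c26)) :=
  Lre_c IH (LK LD1_c1 LD2_c12 LD3_c14) (LK LD1_c2 LD2_c30 LD3_c26) Lrfl Lrfl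
theorem f198605 : Led Lsl_bt (LP (LK LD1_c1 LD2_c12 LD3_c14)) = (LP (LK LD1_c2 LD2_c30 LD3_c23)) :=
  Lre_b IH (LK LD1_c1 LD2_c12 LD3_c14) (LK LD1_c2 LD2_c30 LD3_c23) Lrfl Lrfl
theorem f289938 : Led Lsl_ct (LP (LK LD1_c5 LD2_c10 LD3_c14)) = (LP (LK LD1_c10 LD2_c11 LD3_c8)) :=
  Lre_c IH (LK LD1_c5 LD2_c10 LD3_c14) (LK LD1_c10 LD2_c11 LD3_c8) Lrfl Lrfl
theorem f233451 : Led Lsl_gt (LP (LK LD1_c9 LD2_c40 LD3_c9)) = (LP (LK LD1_c17 LD2_c47 LD3_c5)) :=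
  Lre_g IH (LK LD1_c9 LD2_c40 LD3_c9) (LK LD1_c17 LD2_c47 LD3_c5) Lrfl Lrfl
theorem f299764 : Led Lsl_gf (LP (LK LD1_c10 LD2_c11 LD3_c8)) = (LP (LK LD1_c17 LD2_c47 LD3_c5)) :=
  Lgr Lrot76 (Lpr_af (K18.f299747 IH) (Lpe (K17.f289923 IH) (Lpr_gt (f233451 IH) (Lpn (LP (LK LD1_c17 LD2_c47 LD3_c5))))))
theorem f306070 : Led Lsl_ct (LP (LK LD1_c10 LD2_c3 LD3_c27)) = (LP (LK LD1_c17 LD2_c47 LD3_c5)) :=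
  Lgr Lrot64 (Lpr_bt (K18.f198606 IH) (Lpe (K18.f184624 IH) (Lpe (f198605 IH) (Lpr_ct (f180562 IH) (Lpe (f198599 IH) (Lpe (f171274 IH) (Lpr_gf (f306068 IH) (Lpe (f289937 IH) (Lpr_ct (f289938 IH) (Lpr_gf (f299764 IH) (Lpn (LP (LK LD1_c17 LD2_c47 LD3_c5)))))))))))))
theorem f304117 : Led Lsl_ef (LP (LK LD1_c18 LD2_c39 LD3_c52)) = (LP (LK LD1_c10 LD2_c24 LD3_c57)) :=
  Lgr Lrot88 (Lpr_et (K18.f304109 IH) (Lpn (LP (LK LD1_c10 LD2_c24 LD3_c57))))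
theorem f242402 : Led Lsl_dt (LP (LK LD1_c10 LD2_c15 LD3_c40)) = (LP (LK LD1_c18 LD2_c39 LD3_c52)) :=
  Lre_d IH (LK LD1_c10 LD2_c15 LD3_c40) (LK LD1_c18 LD2_c39 LD3_c52) Lrfl Lrfl
theorem f294230 : Led Lsl_af (LP (LK LD1_c18 LD2_c19 LD3_c29)) = (LP (LK LD1_c18 LD2_c39 LD3_c52)) :=
  Lgr Lrot117 (Lpr_dt (K18.f294228 IH) (Lpe (K18.f277593 IH) (Lpr_dt (f242402 IH) (Lpn (LP (LK LD1_c18 LD2_c39 LD3_c52))))))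
theorem f304196 : Led Lsl_at (LP (LK LD1_c10 LD2_c3 LD3_c27)) = (LP (LK LD1_c10 LD2_c24 LD3_c57)) :=
  Lgr Lrot80 (Lpr_ef (K18.f293769 IH) (Lpr_af (f294230 IH) (Lpr_ef (f304117 IH) (Lpn (LP (LK LD1_c10 LD2_c24 LD3_c57))))))
theorem f304198 : Led Lsl_ff (LP (LK LD1_c10 LD2_c3 LD3_c27)) = (LP (LK LD1_c8 LD2_c54 LD3_c12)) :=
  Lgr Lrot30 (Lpr_at (f304196 IH) (Lpe (K18.f304119 IH) (Lpr_at (K18.f293822 IH) (Lpn (LP (LK LD1_c8 LD2_c54 LD3_c12))))))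
theorem f294156 : Led Lsl_ct (LP (LK LD1_c10 LD2_c10 LD3_c0)) = (LP (LK LD1_c8 LD2_c54 LD3_c12)) :=
  Lgr Lrot59 (Lpr_cf (K18.f294151 IH) (Lpn (LP (LK LD1_c8 LD2_c54 LD3_c12))))
theorem f306082 : Led Lsl_ff (LP (LK LD1_c10 LD2_c10 LD3_c0)) = (LP (LK LD1_c17 LD2_c47 LD3_c5)) :=
  Lgr Lrot23 (Lpr_ct (f294156 IH) (Lpe (f304198 IH) (Lpr_ct (f306070 IH) (Lpn (LP (LK LD1_c17 LD2_c47 LD3_c5))))))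
theorem f169844 : Led Lsl_bt (LP (LK LD1_c5 LD2_c2 LD3_c56)) = (LP (LK LD1_c9 LD2_c56 LD3_c40)) :=
  Lre_b IH (LK LD1_c5 LD2_c2 LD3_c56) (LK LD1_c9 LD2_c56 LD3_c40) Lrfl Lrfl
theorem f294089 : Led Lsl_ft (LP (LK LD1_c5 LD2_c9 LD3_c39)) = (LP (LK LD1_c5 LD2_c2 LD3_c56)) :=
  Lgr Lrot75 (Lpe (K18.f165550 IH) (Lpr_ff (K18.f294084 IH) (Lpe (f169844 IH) (Lpn (LP (LK LD1_c5 LD2_c2 LD3_c56))))))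
theorem f169895 : Led Lsl_ft (LP (LK LD1_c9 LD2_c56 LD3_c42)) = (LP (LK LD1_c18 LD2_c11 LD3_c61)) :=
  Lre_f IH (LK LD1_c9 LD2_c56 LD3_c42) (LK LD1_c18 LD2_c11 LD3_c61) Lrfl Lrfl
theorem f306088 : Led Lsl_et (LP (LK LD1_c18 LD2_c11 LD3_c61)) = (LP (LK LD1_c17 LD2_c47 LD3_c5)) :=
  Lgr Lrot69 (Lpe (f169895 IH) (Lpe (K18.f169851 IH) (Lpe (f294089 IH) (Lpe (K18.f165554 IH) (Lpr_ff (f306082 IH) (Lpn (LP (LK LD1_c17 LD2_c47 LD3_c5))))))))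
theorem f184518 : Led Lsl_dt (LP (LK LD1_c5 LD2_c3 LD3_c20)) = (LP (LK LD1_c9 LD2_c57 LD3_c33)) :=
  Lre_d IH (LK LD1_c5 LD2_c3 LD3_c20) (LK LD1_c9 LD2_c57 LD3_c33) Lrfl Lrfl
theorem f233452 : Led Lsl_gt (LP (LK LD1_c18 LD2_c13 LD3_c31)) = (LP (LK LD1_c9 LD2_c57 LD3_c33)) :=
  Lre_g IH (LK LD1_c18 LD2_c13 LD3_c31) (LK LD1_c9 LD2_c57 LD3_c33) Lrfl Lrfl
theorem f306161 : Led Lsl_dt (LP (LK LD1_c18 LD2_c11 LD3_c61)) = (LP (LK LD1_c18 LD2_c13 LD3_c31)) :=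
  Lgr Lrot136 (Lpr_et (f306088 IH) (Lpe (f233451 IH) (Lpe (K17.f233450 IH) (Lpr_dt (K14.f193135 IH) (Lpe (K14.f233447 IH) (Lpr_df (K14.f233431 IH) (Lpe (K14.f184046 IH) (Lpe (K14.f184517 IH) (Lpr_dt (f184518 IH) (Lpe (f233452 IH) (Lpn (LP (LK LD1_c18 LD2_c13 LD3_c31)))))))))))))
theorem f169868 : Led Lsl_dt (LP (LK LD1_c18 LD2_c11 LD3_c60)) = (LP (LK LD1_c9 LD2_c56 LD3_c42)) :=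
  Lre_d IH (LK LD1_c18 LD2_c11 LD3_c60) (LK LD1_c9 LD2_c56 LD3_c42) Lrfl Lrfl
theorem f306166 : Led Lsl_ff (LP (LK LD1_c18 LD2_c11 LD3_c60)) = (LP (LK LD1_c18 LD2_c13 LD3_c31)) :=
  Lgr Lrot19 (Lpr_dt (f169868 IH) (Lpr_ft (f169895 IH) (Lpr_dt (f306161 IH) (Lpn (LP (LK LD1_c18 LD2_c13 LD3_c31))))))
theorem f184519 : Led Lsl_gt (LP (LK LD1_c9 LD2_c57 LD3_c33)) = (LP (LK LD1_c18 LD2_c13 LD3_c30)) :=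
  Lre_g IH (LK LD1_c9 LD2_c57 LD3_c33) (LK LD1_c18 LD2_c13 LD3_c30) Lrfl Lrfl
theorem f306172 : Led Lsl_at (LP (LK LD1_c18 LD2_c11 LD3_c60)) = (LP (LK LD1_c18 LD2_c13 LD3_c30)) :=
  Lgr Lrot26 (Lpr_ff (f306166 IH) (Lpr_gt (f233452 IH) (Lpr_gt (f184519 IH) (Lpn (LP (LK LD1_c18 LD2_c13 LD3_c30))))))
theorem f242415 : Led Lsl_et (LP (LK LD1_c10 LD2_c9 LD3_c60)) = (LP (LK LD1_c5 LD2_c9 LD3_c38)) :=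
  Lre_e IH (LK LD1_c10 LD2_c9 LD3_c60) (LK LD1_c5 LD2_c9 LD3_c38) Lrfl Lrfl
theorem f283844 : Led Lsl_dt (LP (LK LD1_c5 LD2_c2 LD3_c48)) = (LP (LK LD1_c9 LD2_c56 LD3_c27)) :=
  Lre_d IH (LK LD1_c5 LD2_c2 LD3_c48) (LK LD1_c9 LD2_c56 LD3_c27) Lrfl Lrfl
theorem f288350 : Led Lsl_dt (LP (LK LD1_c10 LD2_c9 LD3_c60)) = (LP (LK LD1_c18 LD2_c13 LD3_c30)) :=
  Lgr Lrot37 (Lpr_et (f242415 IH) (Lpr_gt (K17.f288340 IH) (Lpr_dt (f283844 IH) (Lpe (K17.f283842 IH) (Lpe (K1.f44218 IH) (Lpe (K1.f44219 IH) (Lpe (K13.f184229 IH) (Lpe (K14.f184517 IH) (Lpr_dt (f184518 IH) (Lpr_gt (f184519 IH) (Lpn (LP (LK LD1_c18 LD2_c13 LD3_c30)))))))))))))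
theorem f288375 : Led Lsl_df (LP (LK LD1_c10 LD2_c9 LD3_c60)) = (LP (LK LD1_c18 LD2_c13 LD3_c30)) :=
  Lgr Lrot38 (Lpr_dt (f288350 IH) (Lpn (LP (LK LD1_c18 LD2_c13 LD3_c30))))
theorem f306177 : Led Lsl_af (LP (LK LD1_c9 LD2_c56 LD3_c42)) = (LP (LK LD1_c10 LD2_c9 LD3_c60)) :=
  Lgr Lrot117 (Lpr_dt (f169945 IH) (Lpr_at (f306172 IH) (Lpe (f288375 IH) (Lpn (LP (LK LD1_c10 LD2_c9 LD3_c60))))))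
theorem f242387 : Led Lsl_ft (LP (LK LD1_c18 LD2_c31 LD3_c11)) = (LP (LK LD1_c10 LD2_c9 LD3_c60)) :=
  Lre_f IH (LK LD1_c18 LD2_c31 LD3_c11) (LK LD1_c10 LD2_c9 LD3_c60) Lrfl Lrfl
theorem f306185 : Led Lsl_at (LP (LK LD1_c18 LD2_c11 LD3_c61)) = (LP (LK LD1_c18 LD2_c31 LD3_c11)) :=
  Lgr Lrot66 (Lpe (f169895 IH) (Lpr_af (f306177 IH) (Lpe (f242387 IH) (Lpn (LP (LK LD1_c18 LD2_c31 LD3_c11))))))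
theorem f240205 : Led Lsl_gt (LP (LK LD1_c15 LD2_c12 LD3_c30)) = (LP (LK LD1_c8 LD2_c4 LD3_c36)) :=
  Lre_g IH (LK LD1_c15 LD2_c12 LD3_c30) (LK LD1_c8 LD2_c4 LD3_c36) Lrfl Lrfl
theorem f293515 : Led Lsl_gt (LP (LK LD1_c10 LD2_c16 LD3_c3)) = (LP (LK LD1_c15 LD2_c12 LD3_c30)) :=
  Lgr Lrot5 (Lpr_ft (K18.f269249 IH) (Lpr_at (K18.f293509 IH) (Lpe (f240205 IH) (Lpn (LP (LK LD1_c15 LD2_c12 LD3_c30))))))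
theorem f242404 : Led Lsl_bt (LP (LK LD1_c18 LD2_c39 LD3_c52)) = (LP (LK LD1_c10 LD2_c16 LD3_c3)) :=
  Lre_b IH (LK LD1_c18 LD2_c39 LD3_c52) (LK LD1_c10 LD2_c16 LD3_c3) Lrfl Lrfl
theorem f242371 : Led Lsl_et (LP (LK LD1_c5 LD2_c9 LD3_c38)) = (LP (LK LD1_c10 LD2_c9 LD3_c60)) :=
  Lre_e IH (LK LD1_c5 LD2_c9 LD3_c38) (LK LD1_c10 LD2_c9 LD3_c60) Lrfl Lrfl
theorem f242372 : Led Lsl_cf (LP (LK LD1_c10 LD2_c15 LD3_c39)) = (LP (LK LD1_c10 LD2_c9 LD3_c60)) :=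
  Lgr Lrot39 (Lpr_et (K14.f183949 IH) (Lpr_ct (K14.f242345 IH) (Lpr_et (f242371 IH) (Lpn (LP (LK LD1_c10 LD2_c9 LD3_c60))))))
theorem f242388 : Led Lsl_ct (LP (LK LD1_c18 LD2_c39 LD3_c52)) = (LP (LK LD1_c18 LD2_c31 LD3_c11)) :=
  Lgr Lrot40 (Lpe (K18.f242386 IH) (Lpr_cf (f242372 IH) (Lpe (f242387 IH) (Lpn (LP (LK LD1_c18 LD2_c31 LD3_c11))))))
theorem f269262 : Led Lsl_dt (LP (LK LD1_c10 LD2_c16 LD3_c3)) = (LP (LK LD1_c5 LD2_c12 LD3_c50)) :=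
  Lre_d IH (LK LD1_c10 LD2_c16 LD3_c3) (LK LD1_c5 LD2_c12 LD3_c50) Lrfl Lrfl
theorem f255654 : Led Lsl_gt (LP (LK LD1_c8 LD2_c38 LD3_c51)) = (LP (LK LD1_c4 LD2_c20 LD3_c31)) :=
  Lre_g IH (LK LD1_c8 LD2_c38 LD3_c51) (LK LD1_c4 LD2_c20 LD3_c31) Lrfl Lrfl
theorem f293351 : Led Lsl_gt (LP (LK LD1_c5 LD2_c12 LD3_c50)) = (LP (LK LD1_c8 LD2_c38 LD3_c51)) :=
  Lgr Lrot5 (Lpr_ft (K18.f293338 IH) (Lpr_at (K18.f293339 IH) (Lpe (f255654 IH) (Lpn (LP (LK LD1_c8 LD2_c38 LD3_c51))))))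
theorem f246101 : Led Lsl_gf (LP (LK LD1_c8 LD2_c5 LD3_c42)) = (LP (LK LD1_c4 LD2_c3 LD3_c59)) :=
  Lgr Lrot141 (Lpe (f246100 IH) (Lpr_dt (K17.f45887 IH) (Lpr_gt (K17.f45871 IH) (Lpe (K14.f45874 IH) (Lpr_et (K1.f45967 IH) (Lpr_gt (K12.f28154 IH) (Lpe (K13.f246092 IH) (Lpr_gt (K13.f246088 IH) (Lpr_df (K13.f237005 IH) (Lpe (K15.f237008 IH) (Lpn (LP (LK LD1_c4 LD2_c3 LD3_c59)))))))))))))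
theorem f269289 : Led Lsl_gf (LP (LK LD1_c15 LD2_c9 LD3_c20)) = (LP (LK LD1_c8 LD2_c5 LD3_c42)) :=
  Lgr Lrot76 (Lpr_af (K16.f269271 IH) (Lpe (K16.f237016 IH) (Lpe (f246101 IH) (Lpn (LP (LK LD1_c8 LD2_c5 LD3_c42))))))
theorem f180760 : Led Lsl_et (LP (LK LD1_c5 LD2_c15 LD3_c44)) = (LP (LK LD1_c2 LD2_c34 LD3_c43)) :=
  Lre_e IH (LK LD1_c5 LD2_c15 LD3_c44) (LK LD1_c2 LD2_c34 LD3_c43) Lrfl Lrfl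
theorem f293353 : Led Lsl_dt (LP (LK LD1_c5 LD2_c15 LD3_c44)) = (LP (LK LD1_c8 LD2_c38 LD3_c51)) :=
  Lgr Lrot37 (Lpr_et (f180760 IH) (Lpr_gt (K14.f248072 IH) (Lpr_dt (K1.f45891 IH) (Lpr_gt (K17.f283796 IH) (Lpe (K17.f45887 IH) (Lpr_et (f246100 IH) (Lpe (f269289 IH) (Lpr_ef (K18.f269258 IH) (Lpr_dt (f269262 IH) (Lpr_gt (f293351 IH) (Lpn (LP (LK LD1_c8 LD2_c38 LD3_c51)))))))))))))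
theorem f180940 : Led Lsl_gt (LP (LK LD1_c10 LD2_c20 LD3_c47)) = (LP (LK LD1_c5 LD2_c15 LD3_c44)) :=
  Lre_g IH (LK LD1_c10 LD2_c20 LD3_c47) (LK LD1_c5 LD2_c15 LD3_c44) Lrfl Lrfl
theorem f240212 : Led Lsl_et (LP (LK LD1_c4 LD2_c1 LD3_c58)) = (LP (LK LD1_c8 LD2_c4 LD3_c36)) :=
  Lre_e IH (LK LD1_c4 LD2_c1 LD3_c58) (LK LD1_c8 LD2_c4 LD3_c36) Lrfl Lrfl
theorem f240750 : Led Lsl_et (LP (LK LD1_c1 LD2_c0 LD3_c58)) = (LP (LK LD1_c2 LD2_c7 LD3_c44)) :=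
  Lre_e IH (LK LD1_c1 LD2_c0 LD3_c58) (LK LD1_c2 LD2_c7 LD3_c44) Lrfl Lrfl
theorem f243014 : Led Lsl_dt (LP (LK LD1_c8 LD2_c4 LD3_c36)) = (LP (LK LD1_c4 LD2_c20 LD3_c31)) :=
  Lgr Lrot77 (Lpe (f240212 IH) (Lpr_df (K13.f243009 IH) (Lpe (f240750 IH) (Lpe (K15.f164160 IH) (Lpe (K17.f243013 IH) (Lpn (LP (LK LD1_c4 LD2_c20 LD3_c31))))))))
theorem f241902 : Led Lsl_df (LP (LK LD1_c5 LD2_c12 LD3_c42)) = (LP (LK LD1_c4 LD2_c2 LD3_c5)) :=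
  Lgr Lrot70 (Lpr_et (K16.f171675 IH) (Lpr_dt (K13.f241896 IH) (Lpr_et (K15.f184668 IH) (Lpr_dt (K16.f184657 IH) (Lpr_et (K16.f184685 IH) (Lpn (LP (LK LD1_c4 LD2_c2 LD3_c5))))))))
theorem f241909 : Led Lsl_gt (LP (LK LD1_c5 LD2_c12 LD3_c42)) = (LP (LK LD1_c10 LD2_c15 LD3_c46)) :=
  Lre_g IH (LK LD1_c5 LD2_c12 LD3_c42) (LK LD1_c10 LD2_c15 LD3_c46) Lrfl Lrfl
theorem f241916 : Led Lsl_dt (LP (LK LD1_c18 LD2_c39 LD3_c61)) = (LP (LK LD1_c10 LD2_c15 LD3_c46)) :=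
  Lre_d IH (LK LD1_c18 LD2_c39 LD3_c61) (LK LD1_c10 LD2_c15 LD3_c46) Lrfl Lrfl
theorem f293363 : Led Lsl_ef (LP (LK LD1_c10 LD2_c20 LD3_c47)) = (LP (LK LD1_c18 LD2_c39 LD3_c61)) :=
  Lgr Lrot167 (Lpr_gt (f180940 IH) (Lpr_dt (f293353 IH) (Lpr_gt (f255654 IH) (Lpe (f243014 IH) (Lpr_et (K17.f229857 IH) (Lpr_gt (K13.f240170 IH) (Lpe (K16.f184742 IH) (Lpe (f241902 IH) (Lpr_gt (f241909 IH) (Lpe (f241916 IH) (Lpn (LP (LK LD1_c18 LD2_c39 LD3_c61)))))))))))))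
theorem f293370 : Led Lsl_et (LP (LK LD1_c10 LD2_c20 LD3_c47)) = (LP (LK LD1_c18 LD2_c39 LD3_c61)) :=
  Lgr Lrot87 (Lpr_ef (f293363 IH) (Lpn (LP (LK LD1_c18 LD2_c39 LD3_c61))))
theorem f241908 : Led Lsl_et (LP (LK LD1_c2 LD2_c33 LD3_c12)) = (LP (LK LD1_c5 LD2_c12 LD3_c42)) :=
  Lre_e IH (LK LD1_c2 LD2_c33 LD3_c12) (LK LD1_c5 LD2_c12 LD3_c42) Lrfl Lrfl
theorem f31150 : Led Lsl_gt (LP (LK LD1_c8 LD2_c39 LD3_c25)) = (LP (LK LD1_c4 LD2_c20 LD3_c52)) :=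
  Lre_g IH (LK LD1_c8 LD2_c39 LD3_c25) (LK LD1_c4 LD2_c20 LD3_c52) Lrfl Lrfl
theorem f31151 : Led Lsl_dt (LP (LK LD1_c16 LD2_c12 LD3_c50)) = (LP (LK LD1_c8 LD2_c39 LD3_c25)) :=
  Lre_d IH (LK LD1_c16 LD2_c12 LD3_c50) (LK LD1_c8 LD2_c39 LD3_c25) Lrfl Lrfl
theorem f241911 : Led Lsl_ef (LP (LK LD1_c10 LD2_c15 LD3_c46)) = (LP (LK LD1_c16 LD2_c12 LD3_c50)) :=
  Lgr Lrot17 (Lpe (f241909 IH) (Lpe (f241908 IH) (Lpr_dt (K13.f241896 IH) (Lpe (K13.f241890 IH) (Lpe (K11.f28966 IH) (Lpe (K11.f31189 IH) (Lpe (K17.f31138 IH) (Lpe (K17.f31141 IH) (Lpe (f31150 IH) (Lpe (f31151 IH) (Lpn (LP (LK LD1_c16 LD2_c12 LD3_c50)))))))))))))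
theorem f241914 : Led Lsl_et (LP (LK LD1_c10 LD2_c15 LD3_c46)) = (LP (LK LD1_c16 LD2_c12 LD3_c50)) :=
  Lgr Lrot87 (Lpr_ef (f241911 IH) (Lpn (LP (LK LD1_c16 LD2_c12 LD3_c50))))
theorem f31201 : Led Lsl_et (LP (LK LD1_c8 LD2_c39 LD3_c25)) = (LP (LK LD1_c16 LD2_c12 LD3_c51)) :=
  Lre_e IH (LK LD1_c8 LD2_c39 LD3_c25) (LK LD1_c16 LD2_c12 LD3_c51) Lrfl Lrfl
theorem f293374 : Led Lsl_df (LP (LK LD1_c10 LD2_c20 LD3_c47)) = (LP (LK LD1_c16 LD2_c12 LD3_c51)) :=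
  Lgr Lrot70 (Lpr_et (f293370 IH) (Lpr_dt (f241916 IH) (Lpr_et (f241914 IH) (Lpr_dt (f31151 IH) (Lpr_et (f31201 IH) (Lpn (LP (LK LD1_c16 LD2_c12 LD3_c51))))))))
theorem f293357 : Led Lsl_df (LP (LK LD1_c5 LD2_c15 LD3_c44)) = (LP (LK LD1_c8 LD2_c38 LD3_c51)) :=
  Lgr Lrot38 (Lpr_dt (f293353 IH) (Lpn (LP (LK LD1_c8 LD2_c38 LD3_c51))))
theorem f31153 : Led Lsl_et (LP (LK LD1_c16 LD2_c12 LD3_c51)) = (LP (LK LD1_c8 LD2_c39 LD3_c25)) :=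
  Lre_e IH (LK LD1_c16 LD2_c12 LD3_c51) (LK LD1_c8 LD2_c39 LD3_c25) Lrfl Lrfl
theorem f213751 : Led Lsl_dt (LP (LK LD1_c11 LD2_c2 LD3_c34)) = (LP (LK LD1_c19 LD2_c53 LD3_c54)) :=
  Lre_d IH (LK LD1_c11 LD2_c2 LD3_c34) (LK LD1_c19 LD2_c53 LD3_c54) Lrfl Lrfl
theorem f235456 : Led Lsl_ct (LP (LK LD1_c19 LD2_c53 LD3_c54)) = (LP (LK LD1_c29 LD2_c9 LD3_c34)) :=
  Lre_c IH (LK LD1_c19 LD2_c53 LD3_c54) (LK LD1_c29 LD2_c9 LD3_c34) Lrfl Lrfl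
theorem f31147 : Led Lsl_dt (LP (LK LD1_c16 LD2_c12 LD3_c49)) = (LP (LK LD1_c8 LD2_c39 LD3_c24)) :=
  Lre_d IH (LK LD1_c16 LD2_c12 LD3_c49) (LK LD1_c8 LD2_c39 LD3_c24) Lrfl Lrfl
theorem f31148 : Led Lsl_ct (LP (LK LD1_c26 LD2_c9 LD3_c45)) = (LP (LK LD1_c16 LD2_c12 LD3_c49)) :=
  Lre_c IH (LK LD1_c26 LD2_c9 LD3_c45) (LK LD1_c16 LD2_c12 LD3_c49) Lrfl Lrfl
theorem f235457 : Led Lsl_dt (LP (LK LD1_c29 LD2_c9 LD3_c34)) = (LP (LK LD1_c26 LD2_c9 LD3_c45)) :=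
  Lgr Lrot32 (Lpe (f235456 IH) (Lpe (f213751 IH) (Lpr_ft (K16.f235257 IH) (Lpe (K10.f31219 IH) (Lpe (K11.f31143 IH) (Lpr_df (K17.f31141 IH) (Lpe (K10.f31146 IH) (Lpe (f31147 IH) (Lpe (f31148 IH) (Lpn (LP (LK LD1_c26 LD2_c9 LD3_c45))))))))))))
theorem f31144 : Led Lsl_dt (LP (LK LD1_c8 LD2_c39 LD3_c24)) = (LP (LK LD1_c16 LD2_c12 LD3_c49)) :=
  Lre_d IH (LK LD1_c8 LD2_c39 LD3_c24) (LK LD1_c16 LD2_c12 LD3_c49) Lrfl Lrfl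
theorem f31145 : Led Lsl_ct (LP (LK LD1_c16 LD2_c12 LD3_c49)) = (LP (LK LD1_c26 LD2_c9 LD3_c45)) :=
  Lre_c IH (LK LD1_c16 LD2_c12 LD3_c49) (LK LD1_c26 LD2_c9 LD3_c45) Lrfl Lrfl
theorem f31225 : Led Lsl_dt (LP (LK LD1_c16 LD2_c13 LD3_c22)) = (LP (LK LD1_c8 LD2_c39 LD3_c42)) :=
  Lre_d IH (LK LD1_c16 LD2_c13 LD3_c22) (LK LD1_c8 LD2_c39 LD3_c42) Lrfl Lrfl
theorem f31253 : Led Lsl_at (LP (LK LD1_c16 LD2_c12 LD3_c49)) = (LP (LK LD1_c16 LD2_c13 LD3_c22)) :=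
  Lgr Lrot51 (Lpe (f31144 IH) (Lpr_af (K10.f31219 IH) (Lpe (f31225 IH) (Lpn (LP (LK LD1_c16 LD2_c13 LD3_c22))))))
theorem f31231 : Led Lsl_ct (LP (LK LD1_c16 LD2_c13 LD3_c22)) = (LP (LK LD1_c26 LD2_c10 LD3_c19)) :=
  Lre_c IH (LK LD1_c16 LD2_c13 LD3_c22) (LK LD1_c26 LD2_c10 LD3_c19) Lrfl Lrfl
theorem f31259 : Led Lsl_af (LP (LK LD1_c26 LD2_c9 LD3_c45)) = (LP (LK LD1_c26 LD2_c10 LD3_c19)) :=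
  Lgr Lrot68 (Lpr_ct (f31148 IH) (Lpr_at (f31253 IH) (Lpr_ct (f31231 IH) (Lpn (LP (LK LD1_c26 LD2_c10 LD3_c19))))))
theorem f235461 : Led Lsl_ft (LP (LK LD1_c29 LD2_c9 LD3_c34)) = (LP (LK LD1_c26 LD2_c10 LD3_c19)) :=
  Lgr Lrot142 (Lpr_dt (f235457 IH) (Lpr_ct (f31148 IH) (Lpr_dt (f31147 IH) (Lpr_ct (K10.f31146 IH) (Lpe (K17.f31141 IH) (Lpr_ct (K11.f31143 IH) (Lpr_dt (f31144 IH) (Lpr_ct (f31145 IH) (Lpr_af (f31259 IH) (Lpn (LP (LK LD1_c26 LD2_c10 LD3_c19))))))))))))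
theorem f235463 : Led Lsl_ff (LP (LK LD1_c29 LD2_c9 LD3_c34)) = (LP (LK LD1_c26 LD2_c10 LD3_c19)) :=
  Lgr Lrot3 (Lpr_ft (f235461 IH) (Lpn (LP (LK LD1_c26 LD2_c10 LD3_c19))))
theorem f235465 : Led Lsl_ct (LP (LK LD1_c29 LD2_c9 LD3_c34)) = (LP (LK LD1_c19 LD2_c53 LD3_c54)) :=
  Lre_c IH (LK LD1_c29 LD2_c9 LD3_c34) (LK LD1_c19 LD2_c53 LD3_c54) Lrfl Lrfl
theorem f235466 : Led Lsl_ft (LP (LK LD1_c19 LD2_c53 LD3_c54)) = (LP (LK LD1_c16 LD2_c13 LD3_c22)) :=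
  Lgr Lrot4 (Lpe (f235465 IH) (Lpr_ff (f235463 IH) (Lpe (f31231 IH) (Lpn (LP (LK LD1_c16 LD2_c13 LD3_c22))))))
theorem f235453 : Led Lsl_dt (LP (LK LD1_c19 LD2_c53 LD3_c54)) = (LP (LK LD1_c11 LD2_c2 LD3_c34)) :=
  Lre_d IH (LK LD1_c19 LD2_c53 LD3_c54) (LK LD1_c11 LD2_c2 LD3_c34) Lrfl Lrfl
theorem f235470 : Led Lsl_ct (LP (LK LD1_c11 LD2_c2 LD3_c34)) = (LP (LK LD1_c5 LD2_c35 LD3_c13)) :=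
  Lre_c IH (LK LD1_c11 LD2_c2 LD3_c34) (LK LD1_c5 LD2_c35 LD3_c13) Lrfl Lrfl
theorem f31257 : Led Lsl_af (LP (LK LD1_c16 LD2_c12 LD3_c49)) = (LP (LK LD1_c16 LD2_c13 LD3_c22)) :=
  Lgr Lrot0 (Lpr_at (f31253 IH) (Lpn (LP (LK LD1_c16 LD2_c13 LD3_c22))))
theorem f235471 : Led Lsl_dt (LP (LK LD1_c5 LD2_c35 LD3_c13)) = (LP (LK LD1_c5 LD2_c35 LD3_c13)) :=
  Lgr Lrot32 (Lpe (f235470 IH) (Lpe (f235453 IH) (Lpr_ft (f235466 IH) (Lpe (f31257 IH) (Lpe (f31148 IH) (Lpe (f235457 IH) (Lpe (f235456 IH) (Lpe (f213751 IH) (Lpe (K17.f235450 IH) (Lpn (LP (LK LD1_c5 LD2_c35 LD3_c13))))))))))))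
theorem f235475 : Led Lsl_ff (LP (LK LD1_c4 LD2_c20 LD3_c61)) = (LP (LK LD1_c5 LD2_c35 LD3_c13)) :=
  Lgr Lrot19 (Lpe (K17.f31221 IH) (Lpe (K17.f235451 IH) (Lpr_dt (f235471 IH) (Lpn (LP (LK LD1_c5 LD2_c35 LD3_c13))))))
theorem f235478 : Led Lsl_gf (LP (LK LD1_c8 LD2_c39 LD3_c25)) = (LP (LK LD1_c5 LD2_c35 LD3_c13)) :=
  Lgr Lrot47 (Lpr_gt (f31150 IH) (Lpr_af (K17.f31215 IH) (Lpr_ff (f235475 IH) (Lpn (LP (LK LD1_c5 LD2_c35 LD3_c13))))))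
theorem f235473 : Led Lsl_et (LP (LK LD1_c2 LD2_c43 LD3_c32)) = (LP (LK LD1_c5 LD2_c35 LD3_c13)) :=
  Lre_e IH (LK LD1_c2 LD2_c43 LD3_c32) (LK LD1_c5 LD2_c35 LD3_c13) Lrfl Lrfl
theorem f293379 : Led Lsl_et (LP (LK LD1_c8 LD2_c38 LD3_c51)) = (LP (LK LD1_c4 LD2_c29 LD3_c4)) :=
  Lgr Lrot121 (Lpe (f293357 IH) (Lpe (f180940 IH) (Lpr_df (f293374 IH) (Lpr_et (f31153 IH) (Lpr_gf (f235478 IH) (Lpe (f235473 IH) (Lpr_dt (K16.f189130 IH) (Lpr_gf (K12.f212776 IH) (Lpe (K15.f42451 IH) (Lpr_gf (K16.f277900 IH) (Lpn (LP (LK LD1_c4 LD2_c29 LD3_c4)))))))))))))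
theorem f293387 : Led Lsl_ef (LP (LK LD1_c8 LD2_c38 LD3_c51)) = (LP (LK LD1_c4 LD2_c29 LD3_c4)) :=
  Lgr Lrot88 (Lpr_et (f293379 IH) (Lpn (LP (LK LD1_c4 LD2_c29 LD3_c4))))
theorem f177965 : Led Lsl_et (LP (LK LD1_c5 LD2_c35 LD3_c43)) = (LP (LK LD1_c2 LD2_c43 LD3_c46)) :=
  Lre_e IH (LK LD1_c5 LD2_c35 LD3_c43) (LK LD1_c2 LD2_c43 LD3_c46) Lrfl Lrfl
theorem f293389 : Led Lsl_ct (LP (LK LD1_c8 LD2_c38 LD3_c51)) = (LP (LK LD1_c5 LD2_c35 LD3_c43)) :=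
  Lgr Lrot15 (Lpr_ef (f293387 IH) (Lpr_cf (K16.f177948 IH) (Lpe (f177965 IH) (Lpn (LP (LK LD1_c5 LD2_c35 LD3_c43))))))
theorem f189390 : Led Lsl_dt (LP (LK LD1_c2 LD2_c43 LD3_c40)) = (LP (LK LD1_c5 LD2_c35 LD3_c26)) :=
  Lre_d IH (LK LD1_c2 LD2_c43 LD3_c40) (LK LD1_c5 LD2_c35 LD3_c26) Lrfl Lrfl
theorem f277968 : Led Lsl_cf (LP (LK LD1_c5 LD2_c0 LD3_c44)) = (LP (LK LD1_c5 LD2_c35 LD3_c49)) :=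
  Lgr Lrot11 (Lpr_ct (K16.f277933 IH) (Lpn (LP (LK LD1_c5 LD2_c35 LD3_c49))))
theorem f177950 : Led Lsl_dt (LP (LK LD1_c2 LD2_c43 LD3_c46)) = (LP (LK LD1_c5 LD2_c35 LD3_c42)) :=
  Lre_d IH (LK LD1_c2 LD2_c43 LD3_c46) (LK LD1_c5 LD2_c35 LD3_c42) Lrfl Lrfl
theorem f279540 : Led Lsl_ct (LP (LK LD1_c5 LD2_c35 LD3_c26)) = (LP (LK LD1_c5 LD2_c35 LD3_c42)) :=
  Lgr Lrot7 (Lpe (f189390 IH) (Lpr_gf (K18.f279538 IH) (Lpe (K12.f212991 IH) (Lpe (K12.f54202 IH) (Lpr_cf (f277968 IH) (Lpe (K16.f277982 IH) (Lpe (K16.f199353 IH) (Lpr_gt (K16.f199530 IH) (Lpr_dt (f177950 IH) (Lpn (LP (LK LD1_c5 LD2_c35 LD3_c42))))))))))))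
theorem f53723 : Led Lsl_gt (LP (LK LD1_c5 LD2_c0 LD3_c38)) = (LP (LK LD1_c2 LD2_c28 LD3_c4)) :=
  Lre_g IH (LK LD1_c5 LD2_c0 LD3_c38) (LK LD1_c2 LD2_c28 LD3_c4) Lrfl Lrfl
theorem f212659 : Led Lsl_gf (LP (LK LD1_c5 LD2_c0 LD3_c38)) = (LP (LK LD1_c4 LD2_c31 LD3_c16)) :=
  Lgr Lrot47 (Lpr_gt (f53723 IH) (Lpr_af (K12.f53669 IH) (Lpr_ff (K12.f212644 IH) (Lpn (LP (LK LD1_c4 LD2_c31 LD3_c16))))))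
theorem f212661 : Led Lsl_dt (LP (LK LD1_c5 LD2_c0 LD3_c38)) = (LP (LK LD1_c9 LD2_c51 LD3_c33)) :=
  Lre_d IH (LK LD1_c5 LD2_c0 LD3_c38) (LK LD1_c9 LD2_c51 LD3_c33) Lrfl Lrfl
theorem f189396 : Led Lsl_dt (LP (LK LD1_c5 LD2_c35 LD3_c26)) = (LP (LK LD1_c2 LD2_c43 LD3_c40)) :=
  Lre_d IH (LK LD1_c5 LD2_c35 LD3_c26) (LK LD1_c2 LD2_c43 LD3_c40) Lrfl Lrfl
theorem f247178 : Led Lsl_gt (LP (LK LD1_c9 LD2_c51 LD3_c33)) = (LP (LK LD1_c5 LD2_c35 LD3_c26)) :=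
  Lgr Lrot49 (Lpe (f212661 IH) (Lpr_gf (f212659 IH) (Lpe (K12.f212634 IH) (Lpr_gt (K13.f235107 IH) (Lpr_dt (K14.f168944 IH) (Lpr_gt (K14.f247176 IH) (Lpe (K13.f189134 IH) (Lpe (K13.f178051 IH) (Lpe (f189396 IH) (Lpn (LP (LK LD1_c5 LD2_c35 LD3_c26))))))))))))
theorem f212665 : Led Lsl_dt (LP (LK LD1_c9 LD2_c51 LD3_c33)) = (LP (LK LD1_c5 LD2_c0 LD3_c38)) :=
  Lre_d IH (LK LD1_c9 LD2_c51 LD3_c33) (LK LD1_c5 LD2_c0 LD3_c38) Lrfl Lrfl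
theorem f218269 : Led Lsl_dt (LP (LK LD1_c4 LD2_c14 LD3_c34)) = (LP (LK LD1_c8 LD2_c27 LD3_c52)) :=
  Lre_d IH (LK LD1_c4 LD2_c14 LD3_c34) (LK LD1_c8 LD2_c27 LD3_c52) Lrfl Lrfl
theorem f41082 : Led Lsl_bt (LP (LK LD1_c1 LD2_c10 LD3_c5)) = (LP (LK LD1_c0 LD2_c32 LD3_c25)) :=
  Lre_b IH (LK LD1_c1 LD2_c10 LD3_c5) (LK LD1_c0 LD2_c32 LD3_c25) Lrfl Lrfl
theorem f20817 : Led Lsl_bt (LP (LK LD1_c0 LD2_c39 LD3_c25)) = (LP (LK LD1_c1 LD2_c25 LD3_c30)) :=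
  Lre_b IH (LK LD1_c0 LD2_c39 LD3_c25) (LK LD1_c1 LD2_c25 LD3_c30) Lrfl Lrfl
theorem f168876 : Led Lsl_df (LP (LK LD1_c1 LD2_c10 LD3_c5)) = (LP (LK LD1_c1 LD2_c25 LD3_c30)) :=
  Lgr Lrot12 (Lpr_bt (f41082 IH) (Lpr_dt (K9.f168824 IH) (Lpr_bt (f20817 IH) (Lpn (LP (LK LD1_c1 LD2_c25 LD3_c30))))))
theorem f181437 : Led Lsl_bt (LP (LK LD1_c0 LD2_c17 LD3_c40)) = (LP (LK LD1_c0 LD2_c17 LD3_c40)) :=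
  Lgr Lrot119 (Lpe (K9.f20635 IH) (Lpr_bf (K9.f181431 IH) (Lpe (K9.f20626 IH) (Lpn (LP (LK LD1_c0 LD2_c17 LD3_c40))))))
theorem f168966 : Led Lsl_bt (LP (LK LD1_c1 LD2_c25 LD3_c30)) = (LP (LK LD1_c0 LD2_c39 LD3_c25)) :=
  Lre_b IH (LK LD1_c1 LD2_c25 LD3_c30) (LK LD1_c0 LD2_c39 LD3_c25) Lrfl Lrfl
theorem f181439 : Led Lsl_cf (LP (LK LD1_c1 LD2_c25 LD3_c30)) = (LP (LK LD1_c1 LD2_c25 LD3_c30)) :=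
  Lgr Lrot97 (Lpr_bt (f168966 IH) (Lpr_ct (K9.f20631 IH) (Lpr_bt (f181437 IH) (Lpr_ct (K9.f20807 IH) (Lpr_bt (f20817 IH) (Lpn (LP (LK LD1_c1 LD2_c25 LD3_c30))))))))
theorem f168967 : Led Lsl_ct (LP (LK LD1_c2 LD2_c25 LD3_c50)) = (LP (LK LD1_c1 LD2_c10 LD3_c5)) :=
  Lre_c IH (LK LD1_c2 LD2_c25 LD3_c50) (LK LD1_c1 LD2_c10 LD3_c5) Lrfl Lrfl
theorem f168968 : Led Lsl_dt (LP (LK LD1_c4 LD2_c56 LD3_c3)) = (LP (LK LD1_c2 LD2_c25 LD3_c50)) :=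
  Lre_d IH (LK LD1_c4 LD2_c56 LD3_c3) (LK LD1_c2 LD2_c25 LD3_c50) Lrfl Lrfl
theorem f235277 : Led Lsl_cf (LP (LK LD1_c4 LD2_c56 LD3_c3)) = (LP (LK LD1_c8 LD2_c27 LD3_c52)) :=
  Lgr Lrot118 (Lpr_dt (f168968 IH) (Lpr_ct (f168967 IH) (Lpr_dt (K14.f168944 IH) (Lpe (f181439 IH) (Lpe (f168876 IH) (Lpr_ct (K13.f41083 IH) (Lpe (K13.f169142 IH) (Lpr_ff (K13.f235261 IH) (Lpr_dt (f218269 IH) (Lpn (LP (LK LD1_c8 LD2_c27 LD3_c52))))))))))))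
theorem f235281 : Led Lsl_ct (LP (LK LD1_c4 LD2_c56 LD3_c3)) = (LP (LK LD1_c8 LD2_c27 LD3_c52)) :=
  Lgr Lrot59 (Lpr_cf (f235277 IH) (Lpn (LP (LK LD1_c8 LD2_c27 LD3_c52))))
theorem f279610 : Led Lsl_gf (LP (LK LD1_c4 LD2_c56 LD3_c3)) = (LP (LK LD1_c5 LD2_c35 LD3_c42)) :=
  Lgr Lrot104 (Lpr_ct (f235281 IH) (Lpe (f218269 IH) (Lpe (K13.f218245 IH) (Lpe (K13.f235321 IH) (Lpe (K13.f53667 IH) (Lpe (f53723 IH) (Lpe (f212665 IH) (Lpr_gt (f247178 IH) (Lpr_ct (f279540 IH) (Lpn (LP (LK LD1_c5 LD2_c35 LD3_c42))))))))))))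
theorem f235286 : Led Lsl_at (LP (LK LD1_c9 LD2_c43 LD3_c41)) = (LP (LK LD1_c4 LD2_c56 LD3_c3)) :=
  Lre_a IH (LK LD1_c9 LD2_c43 LD3_c41) (LK LD1_c4 LD2_c56 LD3_c3) Lrfl Lrfl
theorem f235307 : Led Lsl_dt (LP (LK LD1_c9 LD2_c43 LD3_c41)) = (LP (LK LD1_c4 LD2_c56 LD3_c0)) :=
  Lre_d IH (LK LD1_c9 LD2_c43 LD3_c41) (LK LD1_c4 LD2_c56 LD3_c0) Lrfl Lrfl
theorem f235308 : Led Lsl_ff (LP (LK LD1_c9 LD2_c43 LD3_c41)) = (LP (LK LD1_c8 LD2_c27 LD3_c52)) :=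
  Lgr Lrot19 (Lpr_dt (f235307 IH) (Lpr_ft (K13.f235275 IH) (Lpr_dt (f218269 IH) (Lpn (LP (LK LD1_c8 LD2_c27 LD3_c52))))))
theorem f279612 : Led Lsl_gt (LP (LK LD1_c8 LD2_c27 LD3_c52)) = (LP (LK LD1_c5 LD2_c35 LD3_c42)) :=
  Lgr Lrot5 (Lpe (f235308 IH) (Lpr_at (f235286 IH) (Lpr_gf (f279610 IH) (Lpn (LP (LK LD1_c5 LD2_c35 LD3_c42))))))
theorem f191293 : Led Lsl_et (LP (LK LD1_c2 LD2_c59 LD3_c46)) = (LP (LK LD1_c6 LD2_c7 LD3_c14)) :=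
  Lre_e IH (LK LD1_c2 LD2_c59 LD3_c46) (LK LD1_c6 LD2_c7 LD3_c14) Lrfl Lrfl
theorem f177951 : Led Lsl_et (LP (LK LD1_c2 LD2_c43 LD3_c46)) = (LP (LK LD1_c5 LD2_c35 LD3_c43)) :=
  Lre_e IH (LK LD1_c2 LD2_c43 LD3_c46) (LK LD1_c5 LD2_c35 LD3_c43) Lrfl Lrfl
theorem f279693 : Led Lsl_gf (LP (LK LD1_c6 LD2_c7 LD3_c14)) = (LP (LK LD1_c5 LD2_c35 LD3_c43)) :=
  Lgr Lrot141 (Lpe (f191293 IH) (Lpr_dt (K13.f182033 IH) (Lpr_gt (K13.f191289 IH) (Lpe (K14.f28708 IH) (Lpr_et (K10.f31287 IH) (Lpe (K13.f218246 IH) (Lpr_dt (f218269 IH) (Lpr_gt (f279612 IH) (Lpe (f177950 IH) (Lpr_et (f177951 IH) (Lpn (LP (LK LD1_c5 LD2_c35 LD3_c43)))))))))))))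
theorem f177607 : Led Lsl_ct (LP (LK LD1_c6 LD2_c7 LD3_c14)) = (LP (LK LD1_c2 LD2_c59 LD3_c47)) :=
  Lre_c IH (LK LD1_c6 LD2_c7 LD3_c14) (LK LD1_c2 LD2_c59 LD3_c47) Lrfl Lrfl
theorem f177591 : Led Lsl_ct (LP (LK LD1_c9 LD2_c55 LD3_c24)) = (LP (LK LD1_c5 LD2_c2 LD3_c18)) :=
  Lre_c IH (LK LD1_c9 LD2_c55 LD3_c24) (LK LD1_c5 LD2_c2 LD3_c18) Lrfl Lrfl
theorem f177612 : Led Lsl_gt (LP (LK LD1_c18 LD2_c9 LD3_c60)) = (LP (LK LD1_c9 LD2_c55 LD3_c24)) :=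
  Lre_g IH (LK LD1_c18 LD2_c9 LD3_c60) (LK LD1_c9 LD2_c55 LD3_c24) Lrfl Lrfl
theorem f293518 : Led Lsl_cf (LP (LK LD1_c18 LD2_c9 LD3_c60)) = (LP (LK LD1_c15 LD2_c12 LD3_c30)) :=
  Lgr Lrot169 (Lpr_gt (f177612 IH) (Lpr_ct (f177591 IH) (Lpr_df (K13.f177556 IH) (Lpe (f177607 IH) (Lpr_gf (f279693 IH) (Lpe (f293389 IH) (Lpe (f293351 IH) (Lpe (f269262 IH) (Lpr_gt (f293515 IH) (Lpn (LP (LK LD1_c15 LD2_c12 LD3_c30))))))))))))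
theorem f177622 : Led Lsl_ct (LP (LK LD1_c5 LD2_c2 LD3_c18)) = (LP (LK LD1_c9 LD2_c55 LD3_c24)) :=
  Lre_c IH (LK LD1_c5 LD2_c2 LD3_c18) (LK LD1_c9 LD2_c55 LD3_c24) Lrfl Lrfl
theorem f185854 : Led Lsl_bt (LP (LK LD1_c9 LD2_c55 LD3_c37)) = (LP (LK LD1_c5 LD2_c2 LD3_c22)) :=
  Lre_b IH (LK LD1_c9 LD2_c55 LD3_c37) (LK LD1_c5 LD2_c2 LD3_c22) Lrfl Lrfl
theorem f185931 : Led Lsl_ct (LP (LK LD1_c9 LD2_c55 LD3_c37)) = (LP (LK LD1_c18 LD2_c10 LD3_c14)) :=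
  Lre_c IH (LK LD1_c9 LD2_c55 LD3_c37) (LK LD1_c18 LD2_c10 LD3_c14) Lrfl Lrfl
theorem f293520 : Led Lsl_gf (LP (LK LD1_c18 LD2_c31 LD3_c11)) = (LP (LK LD1_c18 LD2_c10 LD3_c14)) :=
  Lgr Lrot126 (Lpe (f242388 IH) (Lpr_bt (f242404 IH) (Lpr_gt (f293515 IH) (Lpe (f293518 IH) (Lpr_gt (f177612 IH) (Lpe (f177622 IH) (Lpr_bt (K13.f177554 IH) (Lpr_gt (K18.f177570 IH) (Lpe (f185854 IH) (Lpr_ct (f185931 IH) (Lpn (LP (LK LD1_c18 LD2_c10 LD3_c14)))))))))))))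
theorem f306187 : Led Lsl_gt (LP (LK LD1_c9 LD2_c56 LD3_c42)) = (LP (LK LD1_c18 LD2_c10 LD3_c14)) :=
  Lgr Lrot5 (Lpr_ft (f169895 IH) (Lpr_at (f306185 IH) (Lpr_gf (f293520 IH) (Lpn (LP (LK LD1_c18 LD2_c10 LD3_c14))))))
theorem f233470 : Led Lsl_dt (LP (LK LD1_c10 LD2_c11 LD3_c39)) = (LP (LK LD1_c18 LD2_c34 LD3_c11)) :=
  Lre_d IH (LK LD1_c10 LD2_c11 LD3_c39) (LK LD1_c18 LD2_c34 LD3_c11) Lrfl Lrfl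
theorem f185858 : Led Lsl_ct (LP (LK LD1_c9 LD2_c55 LD3_c38)) = (LP (LK LD1_c5 LD2_c2 LD3_c22)) :=
  Lre_c IH (LK LD1_c9 LD2_c55 LD3_c38) (LK LD1_c5 LD2_c2 LD3_c22) Lrfl Lrfl
theorem f165390 : Led Lsl_ct (LP (LK LD1_c5 LD2_c4 LD3_c48)) = (LP (LK LD1_c10 LD2_c0 LD3_c40)) :=
  Lre_c IH (LK LD1_c5 LD2_c4 LD3_c48) (LK LD1_c10 LD2_c0 LD3_c40) Lrfl Lrfl
theorem f185859 : Led Lsl_ef (LP (LK LD1_c9 LD2_c55 LD3_c38)) = (LP (LK LD1_c10 LD2_c0 LD3_c40)) :=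
  Lgr Lrot28 (Lpr_ct (f185858 IH) (Lpr_et (K18.f185852 IH) (Lpr_ct (f165390 IH) (Lpn (LP (LK LD1_c10 LD2_c0 LD3_c40))))))
theorem f185863 : Led Lsl_bt (LP (LK LD1_c9 LD2_c55 LD3_c38)) = (LP (LK LD1_c18 LD2_c10 LD3_c15)) :=
  Lre_b IH (LK LD1_c9 LD2_c55 LD3_c38) (LK LD1_c18 LD2_c10 LD3_c15) Lrfl Lrfl
theorem f185896 : Led Lsl_bt (LP (LK LD1_c18 LD2_c17 LD3_c37)) = (LP (LK LD1_c10 LD2_c0 LD3_c40)) :=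
  Lre_b IH (LK LD1_c18 LD2_c17 LD3_c37) (LK LD1_c10 LD2_c0 LD3_c40) Lrfl Lrfl
theorem f185897 : Led Lsl_et (LP (LK LD1_c18 LD2_c10 LD3_c15)) = (LP (LK LD1_c18 LD2_c17 LD3_c37)) :=
  Lgr Lrot74 (Lpe (f185863 IH) (Lpr_ef (f185859 IH) (Lpe (f185896 IH) (Lpn (LP (LK LD1_c18 LD2_c17 LD3_c37))))))
theorem f185904 : Led Lsl_ef (LP (LK LD1_c18 LD2_c10 LD3_c15)) = (LP (LK LD1_c18 LD2_c17 LD3_c37)) :=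
  Lgr Lrot88 (Lpr_et (f185897 IH) (Lpn (LP (LK LD1_c18 LD2_c17 LD3_c37))))
theorem f185908 : Led Lsl_ct (LP (LK LD1_c18 LD2_c10 LD3_c15)) = (LP (LK LD1_c27 LD2_c50 LD3_c39)) :=
  Lre_c IH (LK LD1_c18 LD2_c10 LD3_c15) (LK LD1_c27 LD2_c50 LD3_c39) Lrfl Lrfl
theorem f185909 : Led Lsl_ct (LP (LK LD1_c27 LD2_c56 LD3_c34)) = (LP (LK LD1_c18 LD2_c17 LD3_c37)) :=
  Lre_c IH (LK LD1_c27 LD2_c56 LD3_c34) (LK LD1_c18 LD2_c17 LD3_c37) Lrfl Lrfl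
theorem f185910 : Led Lsl_et (LP (LK LD1_c27 LD2_c50 LD3_c39)) = (LP (LK LD1_c27 LD2_c56 LD3_c34)) :=
  Lgr Lrot158 (Lpe (f185908 IH) (Lpr_ef (f185904 IH) (Lpe (f185909 IH) (Lpn (LP (LK LD1_c27 LD2_c56 LD3_c34))))))
theorem f185912 : Led Lsl_bt (LP (LK LD1_c18 LD2_c10 LD3_c14)) = (LP (LK LD1_c27 LD2_c50 LD3_c39)) :=
  Lre_b IH (LK LD1_c18 LD2_c10 LD3_c14) (LK LD1_c27 LD2_c50 LD3_c39) Lrfl Lrfl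
theorem f185913 : Led Lsl_bt (LP (LK LD1_c27 LD2_c56 LD3_c34)) = (LP (LK LD1_c18 LD2_c17 LD3_c36)) :=
  Lre_b IH (LK LD1_c27 LD2_c56 LD3_c34) (LK LD1_c18 LD2_c17 LD3_c36) Lrfl Lrfl
theorem f185914 : Led Lsl_ef (LP (LK LD1_c18 LD2_c10 LD3_c14)) = (LP (LK LD1_c18 LD2_c17 LD3_c36)) :=
  Lgr Lrot29 (Lpr_bt (f185912 IH) (Lpr_et (f185910 IH) (Lpr_bt (f185913 IH) (Lpn (LP (LK LD1_c18 LD2_c17 LD3_c36))))))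
theorem f185928 : Led Lsl_dt (LP (LK LD1_c18 LD2_c17 LD3_c36)) = (LP (LK LD1_c27 LD2_c56 LD3_c35)) :=
  Lre_d IH (LK LD1_c18 LD2_c17 LD3_c36) (LK LD1_c27 LD2_c56 LD3_c35) Lrfl Lrfl
theorem f306189 : Led Lsl_gf (LP (LK LD1_c18 LD2_c34 LD3_c11)) = (LP (LK LD1_c27 LD2_c56 LD3_c35)) :=
  Lgr Lrot145 (Lpe (f233470 IH) (Lpr_et (K14.f233462 IH) (Lpr_gt (K15.f259978 IH) (Lpr_dt (K14.f166913 IH) (Lpr_gt (K17.f261341 IH) (Lpe (K17.f169849 IH) (Lpr_et (K18.f169851 IH) (Lpr_gt (f306187 IH) (Lpr_ef (f185914 IH) (Lpr_dt (f185928 IH) (Lpn (LP (LK LD1_c27 LD2_c56 LD3_c35)))))))))))))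
theorem f233486 : Led Lsl_dt (LP (LK LD1_c18 LD2_c34 LD3_c11)) = (LP (LK LD1_c10 LD2_c11 LD3_c39)) :=
  Lre_d IH (LK LD1_c18 LD2_c34 LD3_c11) (LK LD1_c10 LD2_c11 LD3_c39) Lrfl Lrfl
theorem f233475 : Led Lsl_dt (LP (LK LD1_c9 LD2_c57 LD3_c23)) = (LP (LK LD1_c18 LD2_c13 LD3_c7)) :=
  Lre_d IH (LK LD1_c9 LD2_c57 LD3_c23) (LK LD1_c18 LD2_c13 LD3_c7) Lrfl Lrfl
theorem f233487 : Led Lsl_ff (LP (LK LD1_c18 LD2_c34 LD3_c11)) = (LP (LK LD1_c18 LD2_c13 LD3_c7)) :=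
  Lgr Lrot19 (Lpr_dt (f233486 IH) (Lpr_ft (K14.f233473 IH) (Lpr_dt (f233475 IH) (Lpn (LP (LK LD1_c18 LD2_c13 LD3_c7))))))
theorem f233442 : Led Lsl_dt (LP (LK LD1_c18 LD2_c13 LD3_c7)) = (LP (LK LD1_c9 LD2_c57 LD3_c23)) :=
  Lre_d IH (LK LD1_c18 LD2_c13 LD3_c7) (LK LD1_c9 LD2_c57 LD3_c23) Lrfl Lrfl
theorem f233427 : Led Lsl_cf (LP (LK LD1_c5 LD2_c19 LD3_c14)) = (LP (LK LD1_c9 LD2_c57 LD3_c23)) :=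
  Lgr Lrot39 (Lpr_et (K1.f43940 IH) (Lpr_ct (K14.f233415 IH) (Lpr_et (K14.f233426 IH) (Lpn (LP (LK LD1_c9 LD2_c57 LD3_c23))))))
theorem f45980 : Led Lsl_et (LP (LK LD1_c8 LD2_c5 LD3_c47)) = (LP (LK LD1_c4 LD2_c2 LD3_c36)) :=
  Lre_e IH (LK LD1_c8 LD2_c5 LD3_c47) (LK LD1_c4 LD2_c2 LD3_c36) Lrfl Lrfl
theorem f46086 : Led Lsl_df (LP (LK LD1_c8 LD2_c5 LD3_c47)) = (LP (LK LD1_c8 LD2_c5 LD3_c47)) :=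
  Lgr Lrot70 (Lpr_et (f45980 IH) (Lpr_dt (K1.f45849 IH) (Lpr_et (K1.f46058 IH) (Lpr_dt (K9.f45890 IH) (Lpr_et (K1.f45840 IH) (Lpn (LP (LK LD1_c8 LD2_c5 LD3_c47))))))))
theorem f46088 : Led Lsl_dt (LP (LK LD1_c5 LD2_c19 LD3_c14)) = (LP (LK LD1_c5 LD2_c19 LD3_c14)) :=
  Lgr Lrot79 (Lpe (K1.f45831 IH) (Lpr_df (f46086 IH) (Lpr_bf (K1.f45837 IH) (Lpn (LP (LK LD1_c5 LD2_c19 LD3_c14))))))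
theorem f43951 : Led Lsl_et (LP (LK LD1_c5 LD2_c21 LD3_c25)) = (LP (LK LD1_c2 LD2_c37 LD3_c18)) :=
  Lre_e IH (LK LD1_c5 LD2_c21 LD3_c25) (LK LD1_c2 LD2_c37 LD3_c18) Lrfl Lrfl
theorem f192913 : Led Lsl_cf (LP (LK LD1_c5 LD2_c21 LD3_c25)) = (LP (LK LD1_c10 LD2_c11 LD3_c39)) :=
  Lgr Lrot39 (Lpr_et (f43951 IH) (Lpr_ct (K10.f192903 IH) (Lpr_et (K14.f192912 IH) (Lpn (LP (LK LD1_c10 LD2_c11 LD3_c39))))))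
theorem f233468 : Led Lsl_ct (LP (LK LD1_c5 LD2_c19 LD3_c14)) = (LP (LK LD1_c9 LD2_c57 LD3_c23)) :=
  Lgr Lrot40 (Lpe (K1.f43941 IH) (Lpr_cf (f192913 IH) (Lpr_ff (K14.f233463 IH) (Lpn (LP (LK LD1_c9 LD2_c57 LD3_c23))))))
theorem f233476 : Led Lsl_ct (LP (LK LD1_c18 LD2_c13 LD3_c7)) = (LP (LK LD1_c27 LD2_c53 LD3_c41)) :=
  Lre_c IH (LK LD1_c18 LD2_c13 LD3_c7) (LK LD1_c27 LD2_c53 LD3_c41) Lrfl Lrfl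
theorem f190650 : Led Lsl_et (LP (LK LD1_c9 LD2_c58 LD3_c19)) = (LP (LK LD1_c5 LD2_c3 LD3_c44)) :=
  Lre_e IH (LK LD1_c9 LD2_c58 LD3_c19) (LK LD1_c5 LD2_c3 LD3_c44) Lrfl Lrfl
theorem f192925 : Led Lsl_af (LP (LK LD1_c9 LD2_c58 LD3_c19)) = (LP (LK LD1_c10 LD2_c11 LD3_c39)) :=
  Lgr Lrot50 (Lpr_et (f190650 IH) (Lpr_at (K10.f192917 IH) (Lpr_et (K14.f192912 IH) (Lpn (LP (LK LD1_c10 LD2_c11 LD3_c39))))))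
theorem f190723 : Led Lsl_ct (LP (LK LD1_c8 LD2_c52 LD3_c4)) = (LP (LK LD1_c9 LD2_c58 LD3_c19)) :=
  Lgr Lrot15 (Lpe (K1.f44234 IH) (Lpr_cf (K14.f190716 IH) (Lpe (f190650 IH) (Lpn (LP (LK LD1_c9 LD2_c58 LD3_c19))))))
theorem f190726 : Led Lsl_cf (LP (LK LD1_c8 LD2_c52 LD3_c4)) = (LP (LK LD1_c9 LD2_c58 LD3_c19)) :=
  Lgr Lrot11 (Lpr_ct (f190723 IH) (Lpn (LP (LK LD1_c9 LD2_c58 LD3_c19))))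
theorem f190658 : Led Lsl_dt (LP (LK LD1_c18 LD2_c14 LD3_c32)) = (LP (LK LD1_c9 LD2_c58 LD3_c19)) :=
  Lre_d IH (LK LD1_c18 LD2_c14 LD3_c32) (LK LD1_c9 LD2_c58 LD3_c19) Lrfl Lrfl
theorem f190686 : Led Lsl_ct (LP (LK LD1_c27 LD2_c54 LD3_c46)) = (LP (LK LD1_c18 LD2_c14 LD3_c32)) :=
  Lre_c IH (LK LD1_c27 LD2_c54 LD3_c46) (LK LD1_c18 LD2_c14 LD3_c32) Lrfl Lrfl
theorem f233477 : Led Lsl_df (LP (LK LD1_c27 LD2_c54 LD3_c46)) = (LP (LK LD1_c27 LD2_c53 LD3_c41)) :=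
  Lgr Lrot106 (Lpr_ct (f190686 IH) (Lpr_dt (f190658 IH) (Lpe (f190726 IH) (Lpe (K1.f46119 IH) (Lpr_ct (f190723 IH) (Lpr_af (f192925 IH) (Lpr_ff (K14.f233463 IH) (Lpr_dt (f233475 IH) (Lpr_ct (f233476 IH) (Lpn (LP (LK LD1_c27 LD2_c53 LD3_c41))))))))))))
theorem f233603 : Led Lsl_at (LP (LK LD1_c18 LD2_c34 LD3_c11)) = (LP (LK LD1_c18 LD2_c14 LD3_c32)) :=
  Lgr Lrot33 (Lpr_ff (f233487 IH) (Lpr_dt (f233442 IH) (Lpe (f233427 IH) (Lpr_dt (f46088 IH) (Lpr_ct (f233468 IH) (Lpr_dt (f233475 IH) (Lpr_ct (f233476 IH) (Lpe (f233477 IH) (Lpr_ct (f190686 IH) (Lpn (LP (LK LD1_c18 LD2_c14 LD3_c32))))))))))))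
theorem f233605 : Led Lsl_af (LP (LK LD1_c18 LD2_c34 LD3_c11)) = (LP (LK LD1_c18 LD2_c14 LD3_c32)) :=
  Lgr Lrot0 (Lpr_at (f233603 IH) (Lpn (LP (LK LD1_c18 LD2_c14 LD3_c32))))
theorem f233484 : Led Lsl_cf (LP (LK LD1_c10 LD2_c11 LD3_c39)) = (LP (LK LD1_c5 LD2_c21 LD3_c25)) :=
  Lgr Lrot108 (Lpr_ft (K14.f233473 IH) (Lpe (f233427 IH) (Lpe (K1.f43949 IH) (Lpn (LP (LK LD1_c5 LD2_c21 LD3_c25))))))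
theorem f233491 : Led Lsl_ct (LP (LK LD1_c18 LD2_c34 LD3_c11)) = (LP (LK LD1_c28 LD2_c8 LD3_c22)) :=
  Lre_c IH (LK LD1_c18 LD2_c34 LD3_c11) (LK LD1_c28 LD2_c8 LD3_c22) Lrfl Lrfl
theorem f46090 : Led Lsl_df (LP (LK LD1_c5 LD2_c21 LD3_c25)) = (LP (LK LD1_c5 LD2_c21 LD3_c25)) :=
  Lgr Lrot78 (Lpr_ft (K1.f43941 IH) (Lpr_dt (f46088 IH) (Lpe (K1.f43949 IH) (Lpn (LP (LK LD1_c5 LD2_c21 LD3_c25))))))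
theorem f46379 : Led Lsl_af (LP (LK LD1_c5 LD2_c19 LD3_c7)) = (LP (LK LD1_c5 LD2_c19 LD3_c14)) :=
  Lgr Lrot0 (Lpr_at (K1.f46373 IH) (Lpn (LP (LK LD1_c5 LD2_c19 LD3_c14))))
theorem f212332 : Led Lsl_et (LP (LK LD1_c5 LD2_c10 LD3_c52)) = (LP (LK LD1_c10 LD2_c12 LD3_c20)) :=
  Lre_e IH (LK LD1_c5 LD2_c10 LD3_c52) (LK LD1_c10 LD2_c12 LD3_c20) Lrfl Lrfl
theorem f212333 : Led Lsl_cf (LP (LK LD1_c5 LD2_c19 LD3_c7)) = (LP (LK LD1_c10 LD2_c12 LD3_c20)) :=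
  Lgr Lrot39 (Lpr_et (K1.f44233 IH) (Lpr_ct (K12.f212326 IH) (Lpr_et (f212332 IH) (Lpn (LP (LK LD1_c10 LD2_c12 LD3_c20))))))
theorem f212366 : Led Lsl_dt (LP (LK LD1_c18 LD2_c35 LD3_c15)) = (LP (LK LD1_c10 LD2_c12 LD3_c20)) :=
  Lre_d IH (LK LD1_c18 LD2_c35 LD3_c15) (LK LD1_c10 LD2_c12 LD3_c20) Lrfl Lrfl
theorem f212363 : Led Lsl_ct (LP (LK LD1_c28 LD2_c9 LD3_c22)) = (LP (LK LD1_c18 LD2_c35 LD3_c15)) :=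
  Lre_c IH (LK LD1_c28 LD2_c9 LD3_c22) (LK LD1_c18 LD2_c35 LD3_c15) Lrfl Lrfl
theorem f233620 : Led Lsl_dt (LP (LK LD1_c28 LD2_c8 LD3_c22)) = (LP (LK LD1_c28 LD2_c9 LD3_c22)) :=
  Lgr Lrot140 (Lpe (f233491 IH) (Lpe (f233470 IH) (Lpr_cf (f233484 IH) (Lpr_df (f46090 IH) (Lpr_ft (K1.f43941 IH) (Lpe (f46379 IH) (Lpr_cf (f212333 IH) (Lpe (f212366 IH) (Lpe (f212363 IH) (Lpn (LP (LK LD1_c28 LD2_c9 LD3_c22))))))))))))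
theorem f233471 : Led Lsl_ft (LP (LK LD1_c18 LD2_c34 LD3_c11)) = (LP (LK LD1_c18 LD2_c13 LD3_c7)) :=
  Lgr Lrot54 (Lpe (f233470 IH) (Lpr_ff (K14.f233463 IH) (Lpe (f233442 IH) (Lpn (LP (LK LD1_c18 LD2_c13 LD3_c7))))))
theorem f233629 : Led Lsl_at (LP (LK LD1_c18 LD2_c13 LD3_c7)) = (LP (LK LD1_c18 LD2_c35 LD3_c15)) :=
  Lgr Lrot33 (Lpe (f233471 IH) (Lpr_dt (f233486 IH) (Lpe (f192913 IH) (Lpe (f46090 IH) (Lpe (f233484 IH) (Lpr_dt (f233470 IH) (Lpr_ct (f233491 IH) (Lpr_dt (f233620 IH) (Lpr_ct (f212363 IH) (Lpn (LP (LK LD1_c18 LD2_c35 LD3_c15))))))))))))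
theorem f233633 : Led Lsl_ff (LP (LK LD1_c18 LD2_c14 LD3_c32)) = (LP (LK LD1_c18 LD2_c35 LD3_c15)) :=
  Lgr Lrot30 (Lpe (f233605 IH) (Lpr_ft (f233471 IH) (Lpr_at (f233629 IH) (Lpn (LP (LK LD1_c18 LD2_c35 LD3_c15))))))
theorem f306191 : Led Lsl_gt (LP (LK LD1_c18 LD2_c35 LD3_c15)) = (LP (LK LD1_c27 LD2_c56 LD3_c35)) :=
  Lgr Lrot5 (Lpe (f233633 IH) (Lpe (f233605 IH) (Lpr_gf (f306189 IH) (Lpn (LP (LK LD1_c27 LD2_c56 LD3_c35))))))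
theorem f212354 : Led Lsl_dt (LP (LK LD1_c10 LD2_c12 LD3_c20)) = (LP (LK LD1_c18 LD2_c35 LD3_c15)) :=
  Lre_d IH (LK LD1_c10 LD2_c12 LD3_c20) (LK LD1_c18 LD2_c35 LD3_c15) Lrfl Lrfl
theorem f212368 : Led Lsl_et (LP (LK LD1_c10 LD2_c12 LD3_c20)) = (LP (LK LD1_c5 LD2_c10 LD3_c52)) :=
  Lre_e IH (LK LD1_c10 LD2_c12 LD3_c20) (LK LD1_c5 LD2_c10 LD3_c52) Lrfl Lrfl
theorem f248282 : Led Lsl_dt (LP (LK LD1_c9 LD2_c39 LD3_c41)) = (LP (LK LD1_c17 LD2_c46 LD3_c7)) :=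
  Lre_d IH (LK LD1_c9 LD2_c39 LD3_c41) (LK LD1_c17 LD2_c46 LD3_c7) Lrfl Lrfl
theorem f248283 : Led Lsl_gt (LP (LK LD1_c27 LD2_c32 LD3_c38)) = (LP (LK LD1_c17 LD2_c46 LD3_c7)) :=
  Lre_g IH (LK LD1_c27 LD2_c32 LD3_c38) (LK LD1_c17 LD2_c46 LD3_c7) Lrfl Lrfl
theorem f306194 : Led Lsl_df (LP (LK LD1_c27 LD2_c32 LD3_c38)) = (LP (LK LD1_c18 LD2_c31 LD3_c11)) :=
  Lgr Lrot135 (Lpr_gt (f248283 IH) (Lpe (f248282 IH) (Lpr_et (K14.f248281 IH) (Lpe (K14.f248279 IH) (Lpe (f212368 IH) (Lpr_dt (f212354 IH) (Lpr_gt (f306191 IH) (Lpe (f185928 IH) (Lpe (f185914 IH) (Lpe (f293520 IH) (Lpn (LP (LK LD1_c18 LD2_c31 LD3_c11)))))))))))))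
theorem f242408 : Led Lsl_ft (LP (LK LD1_c10 LD2_c9 LD3_c60)) = (LP (LK LD1_c18 LD2_c31 LD3_c11)) :=
  Lre_f IH (LK LD1_c10 LD2_c9 LD3_c60) (LK LD1_c18 LD2_c31 LD3_c11) Lrfl Lrfl
theorem f306204 : Led Lsl_ft (LP (LK LD1_c27 LD2_c32 LD3_c38)) = (LP (LK LD1_c18 LD2_c13 LD3_c30)) :=
  Lgr Lrot54 (Lpr_df (f306194 IH) (Lpe (f242408 IH) (Lpr_df (f288375 IH) (Lpn (LP (LK LD1_c18 LD2_c13 LD3_c30))))))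
theorem f306174 : Led Lsl_af (LP (LK LD1_c18 LD2_c11 LD3_c60)) = (LP (LK LD1_c18 LD2_c13 LD3_c30)) :=
  Lgr Lrot0 (Lpr_at (f306172 IH) (Lpn (LP (LK LD1_c18 LD2_c13 LD3_c30))))
theorem f306361 : Led Lsl_gt (LP (LK LD1_c17 LD2_c46 LD3_c7)) = (LP (LK LD1_c18 LD2_c11 LD3_c60)) :=
  Lgr Lrot46 (Lpe (f248283 IH) (Lpr_ft (f306204 IH) (Lpe (f306174 IH) (Lpn (LP (LK LD1_c18 LD2_c11 LD3_c60))))))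
theorem f278252 : Led Lsl_ft (LP (LK LD1_c17 LD2_c46 LD3_c7)) = (LP (LK LD1_c27 LD2_c32 LD3_c40)) :=
  Lre_f IH (LK LD1_c17 LD2_c46 LD3_c7) (LK LD1_c27 LD2_c32 LD3_c40) Lrfl Lrfl
theorem f307465 : Led Lsl_af (LP (LK LD1_c18 LD2_c13 LD3_c33)) = (LP (LK LD1_c27 LD2_c32 LD3_c40)) :=
  Lgr Lrot31 (Lpr_gf (f307440 IH) (Lpe (f306361 IH) (Lpr_ft (f278252 IH) (Lpn (LP (LK LD1_c27 LD2_c32 LD3_c40))))))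
theorem f307478 : Led Lsl_at (LP (LK LD1_c18 LD2_c13 LD3_c33)) = (LP (LK LD1_c27 LD2_c32 LD3_c40)) :=
  Lgr Lrot100 (Lpr_af (f307465 IH) (Lpn (LP (LK LD1_c27 LD2_c32 LD3_c40))))
theorem f307480 : Led Lsl_ft (LP (LK LD1_c9 LD2_c57 LD3_c33)) = (LP (LK LD1_c18 LD2_c13 LD3_c33)) :=
  Lre_f IH (LK LD1_c9 LD2_c57 LD3_c33) (LK LD1_c18 LD2_c13 LD3_c33) Lrfl Lrfl
theorem f307481 : Led Lsl_ft (LP (LK LD1_c27 LD2_c32 LD3_c40)) = (LP (LK LD1_c17 LD2_c46 LD3_c7)) :=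
  Lre_f IH (LK LD1_c27 LD2_c32 LD3_c40) (LK LD1_c17 LD2_c46 LD3_c7) Lrfl Lrfl
theorem f307482 : Led Lsl_af (LP (LK LD1_c9 LD2_c57 LD3_c33)) = (LP (LK LD1_c17 LD2_c46 LD3_c7)) :=
  Lgr Lrot45 (Lpr_ft (f307480 IH) (Lpr_at (f307478 IH) (Lpr_ft (f307481 IH) (Lpn (LP (LK LD1_c17 LD2_c46 LD3_c7))))))
theorem f307491 : Led Lsl_et (LP (LK LD1_c9 LD2_c57 LD3_c33)) = (LP (LK LD1_c18 LD2_c13 LD3_c23)) :=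
  Lre_e IH (LK LD1_c9 LD2_c57 LD3_c33) (LK LD1_c18 LD2_c13 LD3_c23) Lrfl Lrfl
theorem f306368 : Led Lsl_et (LP (LK LD1_c27 LD2_c32 LD3_c32)) = (LP (LK LD1_c17 LD2_c46 LD3_c7)) :=
  Lre_e IH (LK LD1_c27 LD2_c32 LD3_c32) (LK LD1_c17 LD2_c46 LD3_c7) Lrfl Lrfl
theorem f307492 : Led Lsl_at (LP (LK LD1_c18 LD2_c13 LD3_c23)) = (LP (LK LD1_c27 LD2_c32 LD3_c32)) :=
  Lgr Lrot80 (Lpe (f307491 IH) (Lpr_af (f307482 IH) (Lpe (f306368 IH) (Lpn (LP (LK LD1_c27 LD2_c32 LD3_c32))))))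
theorem f257439 : Led Lsl_dt (LP (LK LD1_c9 LD2_c57 LD3_c30)) = (LP (LK LD1_c18 LD2_c13 LD3_c23)) :=
  Lre_d IH (LK LD1_c9 LD2_c57 LD3_c30) (LK LD1_c18 LD2_c13 LD3_c23) Lrfl Lrfl
theorem f230254 : Led Lsl_dt (LP (LK LD1_c27 LD2_c32 LD3_c32)) = (LP (LK LD1_c17 LD2_c46 LD3_c4)) :=
  Lre_d IH (LK LD1_c27 LD2_c32 LD3_c32) (LK LD1_c17 LD2_c46 LD3_c4) Lrfl Lrfl
theorem f307497 : Led Lsl_af (LP (LK LD1_c9 LD2_c57 LD3_c30)) = (LP (LK LD1_c17 LD2_c46 LD3_c4)) :=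
  Lgr Lrot117 (Lpr_dt (f257439 IH) (Lpr_at (f307492 IH) (Lpr_dt (f230254 IH) (Lpn (LP (LK LD1_c17 LD2_c46 LD3_c4))))))
theorem f257438 : Led Lsl_et (LP (LK LD1_c9 LD2_c57 LD3_c30)) = (LP (LK LD1_c5 LD2_c3 LD3_c19)) :=
  Lre_e IH (LK LD1_c9 LD2_c57 LD3_c30) (LK LD1_c5 LD2_c3 LD3_c19) Lrfl Lrfl
theorem f230260 : Led Lsl_et (LP (LK LD1_c9 LD2_c39 LD3_c40)) = (LP (LK LD1_c17 LD2_c46 LD3_c4)) :=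
  Lre_e IH (LK LD1_c9 LD2_c39 LD3_c40) (LK LD1_c17 LD2_c46 LD3_c4) Lrfl Lrfl
theorem f307507 : Led Lsl_at (LP (LK LD1_c5 LD2_c3 LD3_c19)) = (LP (LK LD1_c9 LD2_c39 LD3_c40)) :=
  Lgr Lrot80 (Lpe (f257438 IH) (Lpr_af (f307497 IH) (Lpe (f230260 IH) (Lpn (LP (LK LD1_c9 LD2_c39 LD3_c40))))))
theorem f257512 : Led Lsl_ff (LP (LK LD1_c5 LD2_c3 LD3_c19)) = (LP (LK LD1_c5 LD2_c10 LD3_c54)) :=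
  Lgr Lrot23 (Lpe (K15.f257435 IH) (Lpr_ft (K15.f257508 IH) (Lpe (K15.f230320 IH) (Lpn (LP (LK LD1_c5 LD2_c10 LD3_c54))))))
theorem f248090 : Led Lsl_gf (LP (LK LD1_c9 LD2_c39 LD3_c33)) = (LP (LK LD1_c5 LD2_c6 LD3_c11)) :=
  Lgr Lrot76 (Lpr_af (K9.f43530 IH) (Lpr_ff (K9.f43441 IH) (Lpr_gt (K14.f248087 IH) (Lpn (LP (LK LD1_c5 LD2_c6 LD3_c11))))))
theorem f248111 : Led Lsl_ct (LP (LK LD1_c5 LD2_c10 LD3_c54)) = (LP (LK LD1_c5 LD2_c19 LD3_c22)) :=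
  Lgr Lrot7 (Lpe (K15.f171468 IH) (Lpe (K12.f171477 IH) (Lpr_df (K15.f212352 IH) (Lpr_gf (K14.f190634 IH) (Lpr_cf (K14.f248092 IH) (Lpe (f248090 IH) (Lpr_dt (K9.f43501 IH) (Lpr_gt (K12.f230414 IH) (Lpr_dt (K15.f230279 IH) (Lpn (LP (LK LD1_c5 LD2_c19 LD3_c22))))))))))))
theorem f257521 : Led Lsl_at (LP (LK LD1_c9 LD2_c40 LD3_c13)) = (LP (LK LD1_c5 LD2_c10 LD3_c54)) :=
  Lgr Lrot107 (Lpr_cf (K14.f248456 IH) (Lpr_af (K15.f257516 IH) (Lpe (f248111 IH) (Lpn (LP (LK LD1_c5 LD2_c10 LD3_c54))))))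
theorem f307528 : Led Lsl_ff (LP (LK LD1_c9 LD2_c40 LD3_c13)) = (LP (LK LD1_c9 LD2_c39 LD3_c40)) :=
  Lgr Lrot30 (Lpr_at (f257521 IH) (Lpe (f257512 IH) (Lpr_at (f307507 IH) (Lpn (LP (LK LD1_c9 LD2_c39 LD3_c40))))))
theorem f248463 : Led Lsl_bt (LP (LK LD1_c9 LD2_c40 LD3_c13)) = (LP (LK LD1_c17 LD2_c47 LD3_c12)) :=
  Lre_b IH (LK LD1_c9 LD2_c40 LD3_c13) (LK LD1_c17 LD2_c47 LD3_c12) Lrfl Lrfl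
theorem f230236 : Led Lsl_bt (LP (LK LD1_c17 LD2_c46 LD3_c2)) = (LP (LK LD1_c9 LD2_c39 LD3_c40)) :=
  Lre_b IH (LK LD1_c17 LD2_c46 LD3_c2) (LK LD1_c9 LD2_c39 LD3_c40) Lrfl Lrfl
theorem f307530 : Led Lsl_ft (LP (LK LD1_c17 LD2_c47 LD3_c12)) = (LP (LK LD1_c17 LD2_c46 LD3_c2)) :=
  Lgr Lrot75 (Lpe (f248463 IH) (Lpr_ff (f307528 IH) (Lpe (f230236 IH) (Lpn (LP (LK LD1_c17 LD2_c46 LD3_c2))))))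
theorem f307547 : Led Lsl_ff (LP (LK LD1_c17 LD2_c47 LD3_c12)) = (LP (LK LD1_c17 LD2_c46 LD3_c2)) :=
  Lgr Lrot3 (Lpr_ft (f307530 IH) (Lpn (LP (LK LD1_c17 LD2_c46 LD3_c2))))
theorem f248978 : Led Lsl_ct (LP (LK LD1_c17 LD2_c47 LD3_c12)) = (LP (LK LD1_c27 LD2_c34 LD3_c7)) :=
  Lre_c IH (LK LD1_c17 LD2_c47 LD3_c12) (LK LD1_c27 LD2_c34 LD3_c7) Lrfl Lrfl
theorem f230237 : Led Lsl_ct (LP (LK LD1_c27 LD2_c32 LD3_c25)) = (LP (LK LD1_c17 LD2_c46 LD3_c2)) :=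
  Lre_c IH (LK LD1_c27 LD2_c32 LD3_c25) (LK LD1_c17 LD2_c46 LD3_c2) Lrfl Lrfl
theorem f307554 : Led Lsl_ft (LP (LK LD1_c27 LD2_c34 LD3_c7)) = (LP (LK LD1_c27 LD2_c32 LD3_c25)) :=
  Lgr Lrot4 (Lpe (f248978 IH) (Lpr_ff (f307547 IH) (Lpe (f230237 IH) (Lpn (LP (LK LD1_c27 LD2_c32 LD3_c25))))))
theorem f248452 : Led Lsl_bt (LP (LK LD1_c17 LD2_c47 LD3_c12)) = (LP (LK LD1_c9 LD2_c40 LD3_c13)) :=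
  Lre_b IH (LK LD1_c17 LD2_c47 LD3_c12) (LK LD1_c9 LD2_c40 LD3_c13) Lrfl Lrfl
theorem f248453 : Led Lsl_ct (LP (LK LD1_c27 LD2_c34 LD3_c7)) = (LP (LK LD1_c17 LD2_c47 LD3_c12)) :=
  Lre_c IH (LK LD1_c27 LD2_c34 LD3_c7) (LK LD1_c17 LD2_c47 LD3_c12) Lrfl Lrfl
theorem f185491 : Led Lsl_et (LP (LK LD1_c10 LD2_c13 LD3_c1)) = (LP (LK LD1_c5 LD2_c11 LD3_c13)) :=
  Lre_e IH (LK LD1_c10 LD2_c13 LD3_c1) (LK LD1_c5 LD2_c11 LD3_c13) Lrfl Lrfl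
theorem f185492 : Led Lsl_et (LP (LK LD1_c2 LD2_c35 LD3_c50)) = (LP (LK LD1_c5 LD2_c18 LD3_c22)) :=
  Lre_e IH (LK LD1_c2 LD2_c35 LD3_c50) (LK LD1_c5 LD2_c18 LD3_c22) Lrfl Lrfl
theorem f185493 : Led Lsl_bt (LP (LK LD1_c5 LD2_c11 LD3_c13)) = (LP (LK LD1_c2 LD2_c35 LD3_c50)) :=
  Lgr Lrot119 (Lpe (f185491 IH) (Lpr_bf (K15.f185480 IH) (Lpe (f185492 IH) (Lpn (LP (LK LD1_c2 LD2_c35 LD3_c50))))))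
theorem f163775 : Led Lsl_dt (LP (LK LD1_c10 LD2_c13 LD3_c0)) = (LP (LK LD1_c5 LD2_c11 LD3_c13)) :=
  Lre_d IH (LK LD1_c10 LD2_c13 LD3_c0) (LK LD1_c5 LD2_c11 LD3_c13) Lrfl Lrfl
theorem f185502 : Led Lsl_bf (LP (LK LD1_c10 LD2_c13 LD3_c0)) = (LP (LK LD1_c5 LD2_c18 LD3_c21)) :=
  Lgr Lrot93 (Lpr_dt (f163775 IH) (Lpr_bt (f185493 IH) (Lpr_dt (K14.f185501 IH) (Lpn (LP (LK LD1_c5 LD2_c18 LD3_c21))))))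
theorem f185509 : Led Lsl_ct (LP (LK LD1_c10 LD2_c13 LD3_c0)) = (LP (LK LD1_c18 LD2_c36 LD3_c0)) :=
  Lre_c IH (LK LD1_c10 LD2_c13 LD3_c0) (LK LD1_c18 LD2_c36 LD3_c0) Lrfl Lrfl
theorem f248454 : Led Lsl_bf (LP (LK LD1_c27 LD2_c34 LD3_c7)) = (LP (LK LD1_c18 LD2_c36 LD3_c0)) :=
  Lgr Lrot90 (Lpr_ct (f248453 IH) (Lpr_bt (f248452 IH) (Lpr_ct (K14.f248450 IH) (Lpe (f185502 IH) (Lpr_ct (f185509 IH) (Lpn (LP (LK LD1_c18 LD2_c36 LD3_c0))))))))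
theorem f230245 : Led Lsl_bt (LP (LK LD1_c9 LD2_c39 LD3_c40)) = (LP (LK LD1_c17 LD2_c46 LD3_c2)) :=
  Lre_b IH (LK LD1_c9 LD2_c39 LD3_c40) (LK LD1_c17 LD2_c46 LD3_c2) Lrfl Lrfl
theorem f230261 : Led Lsl_ct (LP (LK LD1_c17 LD2_c46 LD3_c2)) = (LP (LK LD1_c27 LD2_c32 LD3_c25)) :=
  Lre_c IH (LK LD1_c17 LD2_c46 LD3_c2) (LK LD1_c27 LD2_c32 LD3_c25) Lrfl Lrfl
theorem f165960 : Led Lsl_cf (LP (LK LD1_c2 LD2_c35 LD3_c2)) = (LP (LK LD1_c5 LD2_c4 LD3_c20)) :=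
  Lgr Lrot11 (Lpr_ct (K15.f165944 IH) (Lpn (LP (LK LD1_c5 LD2_c4 LD3_c20))))
theorem f165962 : Led Lsl_bt (LP (LK LD1_c2 LD2_c35 LD3_c2)) = (LP (LK LD1_c5 LD2_c16 LD3_c31)) :=
  Lre_b IH (LK LD1_c2 LD2_c35 LD3_c2) (LK LD1_c5 LD2_c16 LD3_c31) Lrfl Lrfl
theorem f165963 : Led Lsl_ct (LP (LK LD1_c5 LD2_c16 LD3_c31)) = (LP (LK LD1_c10 LD2_c22 LD3_c30)) :=
  Lre_c IH (LK LD1_c5 LD2_c16 LD3_c31) (LK LD1_c10 LD2_c22 LD3_c30) Lrfl Lrfl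
theorem f165964 : Led Lsl_bt (LP (LK LD1_c9 LD2_c59 LD3_c33)) = (LP (LK LD1_c5 LD2_c4 LD3_c20)) :=
  Lre_b IH (LK LD1_c9 LD2_c59 LD3_c33) (LK LD1_c5 LD2_c4 LD3_c20) Lrfl Lrfl
theorem f165965 : Led Lsl_ct (LP (LK LD1_c18 LD2_c15 LD3_c59)) = (LP (LK LD1_c9 LD2_c59 LD3_c33)) :=
  Lre_c IH (LK LD1_c18 LD2_c15 LD3_c59) (LK LD1_c9 LD2_c59 LD3_c33) Lrfl Lrfl
theorem f165966 : Led Lsl_bt (LP (LK LD1_c10 LD2_c22 LD3_c30)) = (LP (LK LD1_c18 LD2_c15 LD3_c59)) :=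
  Lgr Lrot128 (Lpe (f165963 IH) (Lpe (f165962 IH) (Lpr_cf (f165960 IH) (Lpe (f165964 IH) (Lpe (f165965 IH) (Lpn (LP (LK LD1_c18 LD2_c15 LD3_c59))))))))
theorem f165972 : Led Lsl_ft (LP (LK LD1_c5 LD2_c16 LD3_c28)) = (LP (LK LD1_c10 LD2_c22 LD3_c30)) :=
  Lre_f IH (LK LD1_c5 LD2_c16 LD3_c28) (LK LD1_c10 LD2_c22 LD3_c30) Lrfl Lrfl
theorem f165973 : Led Lsl_ft (LP (LK LD1_c18 LD2_c15 LD3_c59)) = (LP (LK LD1_c9 LD2_c59 LD3_c26)) :=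
  Lre_f IH (LK LD1_c18 LD2_c15 LD3_c59) (LK LD1_c9 LD2_c59 LD3_c26) Lrfl Lrfl
theorem f165974 : Led Lsl_bf (LP (LK LD1_c5 LD2_c16 LD3_c28)) = (LP (LK LD1_c9 LD2_c59 LD3_c26)) :=
  Lgr Lrot61 (Lpr_ft (f165972 IH) (Lpr_bt (f165966 IH) (Lpr_ft (f165973 IH) (Lpn (LP (LK LD1_c9 LD2_c59 LD3_c26))))))
theorem f165984 : Led Lsl_et (LP (LK LD1_c5 LD2_c16 LD3_c28)) = (LP (LK LD1_c2 LD2_c34 LD3_c60)) :=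
  Lre_e IH (LK LD1_c5 LD2_c16 LD3_c28) (LK LD1_c2 LD2_c34 LD3_c60) Lrfl Lrfl
theorem f165985 : Led Lsl_et (LP (LK LD1_c5 LD2_c4 LD3_c15)) = (LP (LK LD1_c9 LD2_c59 LD3_c26)) :=
  Lre_e IH (LK LD1_c5 LD2_c4 LD3_c15) (LK LD1_c9 LD2_c59 LD3_c26) Lrfl Lrfl
theorem f165986 : Led Lsl_bt (LP (LK LD1_c2 LD2_c34 LD3_c60)) = (LP (LK LD1_c5 LD2_c4 LD3_c15)) :=
  Lgr Lrot119 (Lpe (f165984 IH) (Lpr_bf (f165974 IH) (Lpe (f165985 IH) (Lpn (LP (LK LD1_c5 LD2_c4 LD3_c15))))))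
theorem f165997 : Led Lsl_dt (LP (LK LD1_c5 LD2_c4 LD3_c15)) = (LP (LK LD1_c9 LD2_c59 LD3_c25)) :=
  Lre_d IH (LK LD1_c5 LD2_c4 LD3_c15) (LK LD1_c9 LD2_c59 LD3_c25) Lrfl Lrfl
theorem f165998 : Led Lsl_bf (LP (LK LD1_c5 LD2_c16 LD3_c27)) = (LP (LK LD1_c9 LD2_c59 LD3_c25)) :=
  Lgr Lrot93 (Lpr_dt (K12.f165996 IH) (Lpr_bt (f165986 IH) (Lpr_dt (f165997 IH) (Lpn (LP (LK LD1_c9 LD2_c59 LD3_c25))))))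
theorem f166006 : Led Lsl_ct (LP (LK LD1_c18 LD2_c15 LD3_c55)) = (LP (LK LD1_c9 LD2_c59 LD3_c25)) :=
  Lre_c IH (LK LD1_c18 LD2_c15 LD3_c55) (LK LD1_c9 LD2_c59 LD3_c25) Lrfl Lrfl
theorem f230262 : Led Lsl_bt (LP (LK LD1_c27 LD2_c32 LD3_c25)) = (LP (LK LD1_c18 LD2_c15 LD3_c55)) :=
  Lgr Lrot128 (Lpe (f230261 IH) (Lpe (f230245 IH) (Lpr_cf (K12.f230240 IH) (Lpr_bf (f165998 IH) (Lpe (f166006 IH) (Lpn (LP (LK LD1_c18 LD2_c15 LD3_c55))))))))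
theorem f307563 : Led Lsl_ff (LP (LK LD1_c18 LD2_c36 LD3_c0)) = (LP (LK LD1_c18 LD2_c15 LD3_c55)) :=
  Lgr Lrot25 (Lpe (f248454 IH) (Lpr_ft (f307554 IH) (Lpr_bt (f230262 IH) (Lpn (LP (LK LD1_c18 LD2_c15 LD3_c55))))))
theorem f307568 : Led Lsl_ft (LP (LK LD1_c18 LD2_c36 LD3_c0)) = (LP (LK LD1_c18 LD2_c15 LD3_c55)) :=
  Lgr Lrot48 (Lpr_ff (f307563 IH) (Lpn (LP (LK LD1_c18 LD2_c15 LD3_c55))))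
theorem f307572 : Led Lsl_ff (LP (LK LD1_c10 LD2_c13 LD3_c0)) = (LP (LK LD1_c9 LD2_c59 LD3_c25)) :=
  Lgr Lrot23 (Lpr_ct (f185509 IH) (Lpr_ft (f307568 IH) (Lpr_ct (f166006 IH) (Lpn (LP (LK LD1_c9 LD2_c59 LD3_c25))))))
theorem f307577 : Led Lsl_ft (LP (LK LD1_c5 LD2_c11 LD3_c13)) = (LP (LK LD1_c5 LD2_c4 LD3_c15)) :=
  Lgr Lrot54 (Lpe (f163775 IH) (Lpr_ff (f307572 IH) (Lpe (f165997 IH) (Lpn (LP (LK LD1_c5 LD2_c4 LD3_c15))))))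
theorem f307585 : Led Lsl_ff (LP (LK LD1_c5 LD2_c11 LD3_c13)) = (LP (LK LD1_c5 LD2_c4 LD3_c15)) :=
  Lgr Lrot3 (Lpr_ft (f307577 IH) (Lpn (LP (LK LD1_c5 LD2_c4 LD3_c15))))
theorem f185563 : Led Lsl_et (LP (LK LD1_c5 LD2_c11 LD3_c13)) = (LP (LK LD1_c10 LD2_c13 LD3_c1)) :=
  Lre_e IH (LK LD1_c5 LD2_c11 LD3_c13) (LK LD1_c10 LD2_c13 LD3_c1) Lrfl Lrfl
theorem f166073 : Led Lsl_et (LP (LK LD1_c9 LD2_c59 LD3_c26)) = (LP (LK LD1_c5 LD2_c4 LD3_c15)) :=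
  Lre_e IH (LK LD1_c9 LD2_c59 LD3_c26) (LK LD1_c5 LD2_c4 LD3_c15) Lrfl Lrfl
theorem f307600 : Led Lsl_et (LP (LK LD1_c18 LD2_c36 LD3_c5)) = (LP (LK LD1_c18 LD2_c15 LD3_c59)) :=
  Lgr Lrot69 (Lpe (K15.f185478 IH) (Lpe (f185563 IH) (Lpr_ff (f307585 IH) (Lpe (f166073 IH) (Lpe (f165973 IH) (Lpn (LP (LK LD1_c18 LD2_c15 LD3_c59))))))))
theorem f185453 : Led Lsl_bt (LP (LK LD1_c10 LD2_c13 LD3_c6)) = (LP (LK LD1_c5 LD2_c11 LD3_c18)) :=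
  Lre_b IH (LK LD1_c10 LD2_c13 LD3_c6) (LK LD1_c5 LD2_c11 LD3_c18) Lrfl Lrfl
theorem f185454 : Led Lsl_ct (LP (LK LD1_c18 LD2_c36 LD3_c5)) = (LP (LK LD1_c10 LD2_c13 LD3_c6)) :=
  Lre_c IH (LK LD1_c18 LD2_c36 LD3_c5) (LK LD1_c10 LD2_c13 LD3_c6) Lrfl Lrfl
theorem f185456 : Led Lsl_ct (LP (LK LD1_c5 LD2_c18 LD3_c25)) = (LP (LK LD1_c10 LD2_c26 LD3_c31)) :=
  Lre_c IH (LK LD1_c5 LD2_c18 LD3_c25) (LK LD1_c10 LD2_c26 LD3_c31) Lrfl Lrfl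
theorem f185457 : Led Lsl_bf (LP (LK LD1_c18 LD2_c36 LD3_c5)) = (LP (LK LD1_c10 LD2_c26 LD3_c31)) :=
  Lgr Lrot90 (Lpr_ct (f185454 IH) (Lpr_bt (f185453 IH) (Lpr_ct (K15.f185440 IH) (Lpr_bt (K15.f185455 IH) (Lpr_ct (f185456 IH) (Lpn (LP (LK LD1_c10 LD2_c26 LD3_c31))))))))
theorem f165955 : Led Lsl_ct (LP (LK LD1_c10 LD2_c22 LD3_c30)) = (LP (LK LD1_c5 LD2_c16 LD3_c31)) :=
  Lre_c IH (LK LD1_c10 LD2_c22 LD3_c30) (LK LD1_c5 LD2_c16 LD3_c31) Lrfl Lrfl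
theorem f165956 : Led Lsl_bt (LP (LK LD1_c5 LD2_c4 LD3_c20)) = (LP (LK LD1_c9 LD2_c59 LD3_c33)) :=
  Lre_b IH (LK LD1_c5 LD2_c4 LD3_c20) (LK LD1_c9 LD2_c59 LD3_c33) Lrfl Lrfl
theorem f165957 : Led Lsl_ct (LP (LK LD1_c9 LD2_c59 LD3_c33)) = (LP (LK LD1_c18 LD2_c15 LD3_c59)) :=
  Lre_c IH (LK LD1_c9 LD2_c59 LD3_c33) (LK LD1_c18 LD2_c15 LD3_c59) Lrfl Lrfl
theorem f165958 : Led Lsl_bf (LP (LK LD1_c10 LD2_c22 LD3_c30)) = (LP (LK LD1_c18 LD2_c15 LD3_c59)) :=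
  Lgr Lrot90 (Lpr_ct (f165955 IH) (Lpr_bt (K10.f165954 IH) (Lpr_ct (K15.f165944 IH) (Lpr_bt (f165956 IH) (Lpr_ct (f165957 IH) (Lpn (LP (LK LD1_c18 LD2_c15 LD3_c59))))))))
theorem f307606 : Led Lsl_ef (LP (LK LD1_c10 LD2_c26 LD3_c31)) = (LP (LK LD1_c10 LD2_c22 LD3_c30)) :=
  Lgr Lrot29 (Lpe (f185457 IH) (Lpr_et (f307600 IH) (Lpe (f165958 IH) (Lpn (LP (LK LD1_c10 LD2_c22 LD3_c30))))))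
theorem f307616 : Led Lsl_et (LP (LK LD1_c10 LD2_c26 LD3_c31)) = (LP (LK LD1_c10 LD2_c22 LD3_c30)) :=
  Lgr Lrot87 (Lpr_ef (f307606 IH) (Lpn (LP (LK LD1_c10 LD2_c22 LD3_c30))))
theorem f230594 : Led Lsl_ct (LP (LK LD1_c5 LD2_c19 LD3_c27)) = (LP (LK LD1_c10 LD2_c28 LD3_c36)) :=
  Lre_c IH (LK LD1_c5 LD2_c19 LD3_c27) (LK LD1_c10 LD2_c28 LD3_c36) Lrfl Lrfl
theorem f268054 : Led Lsl_at (LP (LK LD1_c10 LD2_c28 LD3_c36)) = (LP (LK LD1_c10 LD2_c26 LD3_c31)) :=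
  Lgr Lrot107 (Lpe (f230594 IH) (Lpr_af (K15.f268044 IH) (Lpe (K15.f185467 IH) (Lpn (LP (LK LD1_c10 LD2_c26 LD3_c31))))))
theorem f276869 : Led Lsl_et (LP (LK LD1_c10 LD2_c28 LD3_c43)) = (LP (LK LD1_c5 LD2_c22 LD3_c50)) :=
  Lgr Lrot158 (Lpe (K16.f258168 IH) (Lpr_ef (K16.f276855 IH) (Lpe (K17.f276860 IH) (Lpn (LP (LK LD1_c5 LD2_c22 LD3_c50))))))
theorem f288917 : Led Lsl_ef (LP (LK LD1_c5 LD2_c19 LD3_c27)) = (LP (LK LD1_c5 LD2_c19 LD3_c61)) :=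
  Lgr Lrot73 (Lpr_dt (K15.f230596 IH) (Lpr_et (f276869 IH) (Lpe (K18.f288903 IH) (Lpr_et (K18.f288915 IH) (Lpe (K14.f248351 IH) (Lpn (LP (LK LD1_c5 LD2_c19 LD3_c61))))))))
theorem f248326 : Led Lsl_ct (LP (LK LD1_c10 LD2_c29 LD3_c51)) = (LP (LK LD1_c5 LD2_c19 LD3_c61)) :=
  Lre_c IH (LK LD1_c10 LD2_c29 LD3_c51) (LK LD1_c5 LD2_c19 LD3_c61) Lrfl Lrfl
theorem f288919 : Led Lsl_et (LP (LK LD1_c10 LD2_c28 LD3_c36)) = (LP (LK LD1_c10 LD2_c29 LD3_c51)) :=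
  Lgr Lrot158 (Lpe (f230594 IH) (Lpr_ef (f288917 IH) (Lpe (f248326 IH) (Lpn (LP (LK LD1_c10 LD2_c29 LD3_c51))))))
theorem f288923 : Led Lsl_ef (LP (LK LD1_c10 LD2_c28 LD3_c36)) = (LP (LK LD1_c10 LD2_c29 LD3_c51)) :=
  Lgr Lrot88 (Lpr_et (f288919 IH) (Lpn (LP (LK LD1_c10 LD2_c29 LD3_c51))))
theorem f307618 : Led Lsl_af (LP (LK LD1_c10 LD2_c29 LD3_c51)) = (LP (LK LD1_c10 LD2_c22 LD3_c30)) :=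
  Lgr Lrot50 (Lpe (f288923 IH) (Lpr_at (f268054 IH) (Lpr_et (f307616 IH) (Lpn (LP (LK LD1_c10 LD2_c22 LD3_c30))))))
theorem f288925 : Led Lsl_ft (LP (LK LD1_c10 LD2_c29 LD3_c51)) = (LP (LK LD1_c5 LD2_c19 LD3_c58)) :=
  Lre_f IH (LK LD1_c10 LD2_c29 LD3_c51) (LK LD1_c5 LD2_c19 LD3_c58) Lrfl Lrfl
theorem f307622 : Led Lsl_at (LP (LK LD1_c5 LD2_c19 LD3_c58)) = (LP (LK LD1_c5 LD2_c16 LD3_c28)) :=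
  Lgr Lrot66 (Lpe (f288925 IH) (Lpr_af (f307618 IH) (Lpe (f165972 IH) (Lpn (LP (LK LD1_c5 LD2_c16 LD3_c28))))))
theorem f248316 : Led Lsl_ct (LP (LK LD1_c2 LD2_c36 LD3_c40)) = (LP (LK LD1_c5 LD2_c19 LD3_c58)) :=
  Lre_c IH (LK LD1_c2 LD2_c36 LD3_c40) (LK LD1_c5 LD2_c19 LD3_c58) Lrfl Lrfl
theorem f165977 : Led Lsl_ct (LP (LK LD1_c5 LD2_c16 LD3_c28)) = (LP (LK LD1_c2 LD2_c34 LD3_c61)) :=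
  Lre_c IH (LK LD1_c5 LD2_c16 LD3_c28) (LK LD1_c2 LD2_c34 LD3_c61) Lrfl Lrfl
theorem f307632 : Led Lsl_af (LP (LK LD1_c2 LD2_c36 LD3_c40)) = (LP (LK LD1_c2 LD2_c34 LD3_c61)) :=
  Lgr Lrot68 (Lpr_ct (f248316 IH) (Lpr_at (f307622 IH) (Lpr_ct (f165977 IH) (Lpn (LP (LK LD1_c2 LD2_c34 LD3_c61))))))
theorem f248366 : Led Lsl_at (LP (LK LD1_c4 LD2_c27 LD3_c25)) = (LP (LK LD1_c2 LD2_c35 LD3_c56)) :=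
  Lgr Lrot51 (Lpr_df (K14.f248363 IH) (Lpe (K14.f178608 IH) (Lpr_df (K9.f178605 IH) (Lpn (LP (LK LD1_c2 LD2_c35 LD3_c56))))))
theorem f165933 : Led Lsl_bt (LP (LK LD1_c1 LD2_c14 LD3_c30)) = (LP (LK LD1_c2 LD2_c34 LD3_c61)) :=
  Lre_b IH (LK LD1_c1 LD2_c14 LD3_c30) (LK LD1_c2 LD2_c34 LD3_c61) Lrfl Lrfl
theorem f307678 : Led Lsl_at (LP (LK LD1_c1 LD2_c14 LD3_c60)) = (LP (LK LD1_c1 LD2_c14 LD3_c30)) :=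
  Lgr Lrot67 (Lpe (K9.f178543 IH) (Lpe (f248366 IH) (Lpe (K14.f248298 IH) (Lpr_af (f307632 IH) (Lpe (f165933 IH) (Lpn (LP (LK LD1_c1 LD2_c14 LD3_c30))))))))
theorem f307917 : Led Lsl_af (LP (LK LD1_c2 LD2_c35 LD3_c59)) = (LP (LK LD1_c2 LD2_c35 LD3_c2)) :=
  Lgr Lrot45 (Lpr_ft (K9.f178549 IH) (Lpr_at (f307678 IH) (Lpr_ft (K15.f165942 IH) (Lpn (LP (LK LD1_c2 LD2_c35 LD3_c2))))))
theorem f215044 : Led Lsl_et (LP (LK LD1_c4 LD2_c27 LD3_c26)) = (LP (LK LD1_c8 LD2_c52 LD3_c40)) :=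
  Lre_e IH (LK LD1_c4 LD2_c27 LD3_c26) (LK LD1_c8 LD2_c52 LD3_c40) Lrfl Lrfl
theorem f215046 : Led Lsl_ct (LP (LK LD1_c8 LD2_c52 LD3_c40)) = (LP (LK LD1_c15 LD2_c30 LD3_c57)) :=
  Lgr Lrot15 (Lpe (f215044 IH) (Lpr_cf (K14.f215035 IH) (Lpe (K17.f215045 IH) (Lpn (LP (LK LD1_c15 LD2_c30 LD3_c57))))))
theorem f215072 : Led Lsl_cf (LP (LK LD1_c8 LD2_c52 LD3_c40)) = (LP (LK LD1_c15 LD2_c30 LD3_c57)) :=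
  Lgr Lrot11 (Lpr_ct (f215046 IH) (Lpn (LP (LK LD1_c15 LD2_c30 LD3_c57))))
theorem f215078 : Led Lsl_bt (LP (LK LD1_c8 LD2_c52 LD3_c40)) = (LP (LK LD1_c16 LD2_c35 LD3_c47)) :=
  Lre_b IH (LK LD1_c8 LD2_c52 LD3_c40) (LK LD1_c16 LD2_c35 LD3_c47) Lrfl Lrfl
theorem f214630 : Led Lsl_et (LP (LK LD1_c4 LD2_c7 LD3_c33)) = (LP (LK LD1_c8 LD2_c15 LD3_c6)) :=
  Lre_e IH (LK LD1_c4 LD2_c7 LD3_c33) (LK LD1_c8 LD2_c15 LD3_c6) Lrfl Lrfl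
theorem f48895 : Led Lsl_et (LP (LK LD1_c5 LD2_c18 LD3_c3)) = (LP (LK LD1_c2 LD2_c35 LD3_c44)) :=
  Lre_e IH (LK LD1_c5 LD2_c18 LD3_c3) (LK LD1_c2 LD2_c35 LD3_c44) Lrfl Lrfl
theorem f214631 : Led Lsl_ct (LP (LK LD1_c8 LD2_c15 LD3_c6)) = (LP (LK LD1_c5 LD2_c18 LD3_c3)) :=
  Lgr Lrot15 (Lpe (f214630 IH) (Lpr_cf (K13.f214615 IH) (Lpe (f48895 IH) (Lpn (LP (LK LD1_c5 LD2_c18 LD3_c3))))))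
theorem f214747 : Led Lsl_cf (LP (LK LD1_c8 LD2_c15 LD3_c6)) = (LP (LK LD1_c5 LD2_c18 LD3_c3)) :=
  Lgr Lrot11 (Lpr_ct (f214631 IH) (Lpn (LP (LK LD1_c5 LD2_c18 LD3_c3))))
theorem f214754 : Led Lsl_bt (LP (LK LD1_c10 LD2_c25 LD3_c48)) = (LP (LK LD1_c5 LD2_c18 LD3_c3)) :=
  Lre_b IH (LK LD1_c10 LD2_c25 LD3_c48) (LK LD1_c5 LD2_c18 LD3_c3) Lrfl Lrfl
theorem f215085 : Led Lsl_ct (LP (LK LD1_c16 LD2_c35 LD3_c47)) = (LP (LK LD1_c10 LD2_c25 LD3_c48)) :=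
  Lgr Lrot83 (Lpe (f215078 IH) (Lpr_cf (f215072 IH) (Lpe (K17.f214753 IH) (Lpr_cf (f214747 IH) (Lpe (f214754 IH) (Lpn (LP (LK LD1_c10 LD2_c25 LD3_c48))))))))
theorem f215089 : Led Lsl_et (LP (LK LD1_c8 LD2_c52 LD3_c38)) = (LP (LK LD1_c16 LD2_c35 LD3_c47)) :=
  Lre_e IH (LK LD1_c8 LD2_c52 LD3_c38) (LK LD1_c16 LD2_c35 LD3_c47) Lrfl Lrfl
theorem f215090 : Led Lsl_et (LP (LK LD1_c10 LD2_c25 LD3_c48)) = (LP (LK LD1_c5 LD2_c18 LD3_c1)) :=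
  Lre_e IH (LK LD1_c10 LD2_c25 LD3_c48) (LK LD1_c5 LD2_c18 LD3_c1) Lrfl Lrfl
theorem f215091 : Led Lsl_cf (LP (LK LD1_c8 LD2_c52 LD3_c38)) = (LP (LK LD1_c5 LD2_c18 LD3_c1)) :=
  Lgr Lrot39 (Lpr_et (f215089 IH) (Lpr_ct (f215085 IH) (Lpr_et (f215090 IH) (Lpn (LP (LK LD1_c5 LD2_c18 LD3_c1))))))
theorem f215050 : Led Lsl_gt (LP (LK LD1_c8 LD2_c52 LD3_c38)) = (LP (LK LD1_c16 LD2_c35 LD3_c43)) :=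
  Lre_g IH (LK LD1_c8 LD2_c52 LD3_c38) (LK LD1_c16 LD2_c35 LD3_c43) Lrfl Lrfl
theorem f32824 : Led Lsl_bt (LP (LK LD1_c5 LD2_c18 LD3_c1)) = (LP (LK LD1_c2 LD2_c35 LD3_c44)) :=
  Lre_b IH (LK LD1_c5 LD2_c18 LD3_c1) (LK LD1_c2 LD2_c35 LD3_c44) Lrfl Lrfl
theorem f71685 : Led Lsl_gt (LP (LK LD1_c10 LD2_c26 LD3_c59)) = (LP (LK LD1_c5 LD2_c18 LD3_c46)) :=
  Lre_g IH (LK LD1_c10 LD2_c26 LD3_c59) (LK LD1_c5 LD2_c18 LD3_c46) Lrfl Lrfl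
theorem f186646 : Led Lsl_bt (LP (LK LD1_c18 LD2_c56 LD3_c51)) = (LP (LK LD1_c10 LD2_c26 LD3_c59)) :=
  Lre_b IH (LK LD1_c18 LD2_c56 LD3_c51) (LK LD1_c10 LD2_c26 LD3_c59) Lrfl Lrfl
theorem f215107 : Led Lsl_cf (LP (LK LD1_c16 LD2_c35 LD3_c43)) = (LP (LK LD1_c18 LD2_c56 LD3_c51)) :=
  Lgr Lrot58 (Lpe (f215050 IH) (Lpr_cf (f215091 IH) (Lpr_bt (f32824 IH) (Lpe (K13.f48270 IH) (Lpe (K13.f48397 IH) (Lpr_ct (K13.f48575 IH) (Lpe (K13.f48803 IH) (Lpe (K13.f186641 IH) (Lpe (f71685 IH) (Lpe (f186646 IH) (Lpn (LP (LK LD1_c18 LD2_c56 LD3_c51)))))))))))))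
theorem f215122 : Led Lsl_ct (LP (LK LD1_c16 LD2_c35 LD3_c43)) = (LP (LK LD1_c18 LD2_c56 LD3_c51)) :=
  Lgr Lrot59 (Lpr_cf (f215107 IH) (Lpn (LP (LK LD1_c18 LD2_c56 LD3_c51))))
theorem f48806 : Led Lsl_gt (LP (LK LD1_c1 LD2_c14 LD3_c61)) = (LP (LK LD1_c2 LD2_c35 LD3_c60)) :=
  Lre_g IH (LK LD1_c1 LD2_c14 LD3_c61) (LK LD1_c2 LD2_c35 LD3_c60) Lrfl Lrfl
theorem f71666 : Led Lsl_ct (LP (LK LD1_c2 LD2_c35 LD3_c60)) = (LP (LK LD1_c5 LD2_c18 LD3_c41)) :=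
  Lre_c IH (LK LD1_c2 LD2_c35 LD3_c60) (LK LD1_c5 LD2_c18 LD3_c41) Lrfl Lrfl
theorem f71663 : Led Lsl_gt (LP (LK LD1_c5 LD2_c18 LD3_c41)) = (LP (LK LD1_c10 LD2_c26 LD3_c59)) :=
  Lre_g IH (LK LD1_c5 LD2_c18 LD3_c41) (LK LD1_c10 LD2_c26 LD3_c59) Lrfl Lrfl
theorem f186610 : Led Lsl_bt (LP (LK LD1_c1 LD2_c13 LD3_c16)) = (LP (LK LD1_c2 LD2_c32 LD3_c38)) :=
  Lre_b IH (LK LD1_c1 LD2_c13 LD3_c16) (LK LD1_c2 LD2_c32 LD3_c38) Lrfl Lrfl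
theorem f186611 : Led Lsl_gt (LP (LK LD1_c5 LD2_c11 LD3_c20)) = (LP (LK LD1_c2 LD2_c32 LD3_c38)) :=
  Lre_g IH (LK LD1_c5 LD2_c11 LD3_c20) (LK LD1_c2 LD2_c32 LD3_c38) Lrfl Lrfl
theorem f186612 : Led Lsl_bt (LP (LK LD1_c10 LD2_c13 LD3_c12)) = (LP (LK LD1_c5 LD2_c11 LD3_c20)) :=
  Lre_b IH (LK LD1_c10 LD2_c13 LD3_c12) (LK LD1_c5 LD2_c11 LD3_c20) Lrfl Lrfl
theorem f186613 : Led Lsl_cf (LP (LK LD1_c10 LD2_c26 LD3_c59)) = (LP (LK LD1_c10 LD2_c13 LD3_c12)) :=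
  Lgr Lrot163 (Lpe (f71663 IH) (Lpe (f71666 IH) (Lpe (f48806 IH) (Lpe (K10.f32668 IH) (Lpr_ct (K8.f31618 IH) (Lpe (K9.f32065 IH) (Lpr_cf (K10.f186576 IH) (Lpr_bt (f186610 IH) (Lpe (f186611 IH) (Lpe (f186612 IH) (Lpn (LP (LK LD1_c10 LD2_c13 LD3_c12)))))))))))))
theorem f186633 : Led Lsl_ct (LP (LK LD1_c10 LD2_c26 LD3_c59)) = (LP (LK LD1_c10 LD2_c13 LD3_c12)) :=
  Lgr Lrot59 (Lpr_cf (f186613 IH) (Lpn (LP (LK LD1_c10 LD2_c13 LD3_c12))))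
theorem f186647 : Led Lsl_ct (LP (LK LD1_c5 LD2_c11 LD3_c20)) = (LP (LK LD1_c10 LD2_c13 LD3_c13)) :=
  Lre_c IH (LK LD1_c5 LD2_c11 LD3_c20) (LK LD1_c10 LD2_c13 LD3_c13) Lrfl Lrfl
theorem f215126 : Led Lsl_bf (LP (LK LD1_c16 LD2_c35 LD3_c43)) = (LP (LK LD1_c10 LD2_c13 LD3_c13)) :=
  Lgr Lrot90 (Lpr_ct (f215122 IH) (Lpr_bt (f186646 IH) (Lpr_ct (f186633 IH) (Lpr_bt (f186612 IH) (Lpr_ct (f186647 IH) (Lpn (LP (LK LD1_c10 LD2_c13 LD3_c13))))))))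
theorem f215039 : Led Lsl_bt (LP (LK LD1_c4 LD2_c27 LD3_c26)) = (LP (LK LD1_c8 LD2_c52 LD3_c38)) :=
  Lre_b IH (LK LD1_c4 LD2_c27 LD3_c26) (LK LD1_c8 LD2_c52 LD3_c38) Lrfl Lrfl
theorem f186632 : Led Lsl_ct (LP (LK LD1_c10 LD2_c13 LD3_c13)) = (LP (LK LD1_c5 LD2_c11 LD3_c20)) :=
  Lre_c IH (LK LD1_c10 LD2_c13 LD3_c13) (LK LD1_c5 LD2_c11 LD3_c20) Lrfl Lrfl
theorem f163744 : Led Lsl_ct (LP (LK LD1_c5 LD2_c11 LD3_c22)) = (LP (LK LD1_c2 LD2_c32 LD3_c38)) :=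
  Lre_c IH (LK LD1_c5 LD2_c11 LD3_c22) (LK LD1_c2 LD2_c32 LD3_c38) Lrfl Lrfl
theorem f215130 : Led Lsl_bf (LP (LK LD1_c2 LD2_c35 LD3_c55)) = (LP (LK LD1_c5 LD2_c11 LD3_c22)) :=
  Lgr Lrot165 (Lpr_gt (K9.f32914 IH) (Lpe (K9.f183956 IH) (Lpr_gt (K14.f215048 IH) (Lpe (K17.f215042 IH) (Lpr_bt (f215039 IH) (Lpr_gt (f215050 IH) (Lpr_bf (f215126 IH) (Lpr_ct (f186632 IH) (Lpr_gt (f186611 IH) (Lpe (f163744 IH) (Lpn (LP (LK LD1_c5 LD2_c11 LD3_c22)))))))))))))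
theorem f215136 : Led Lsl_et (LP (LK LD1_c10 LD2_c13 LD3_c20)) = (LP (LK LD1_c5 LD2_c11 LD3_c22)) :=
  Lre_e IH (LK LD1_c10 LD2_c13 LD3_c20) (LK LD1_c5 LD2_c11 LD3_c22) Lrfl Lrfl
theorem f215137 : Led Lsl_bt (LP (LK LD1_c5 LD2_c18 LD3_c32)) = (LP (LK LD1_c10 LD2_c13 LD3_c20)) :=
  Lgr Lrot119 (Lpe (K14.f215135 IH) (Lpr_bf (f215130 IH) (Lpe (f215136 IH) (Lpn (LP (LK LD1_c10 LD2_c13 LD3_c20))))))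
theorem f178728 : Led Lsl_ct (LP (LK LD1_c2 LD2_c35 LD3_c56)) = (LP (LK LD1_c5 LD2_c18 LD3_c32)) :=
  Lre_c IH (LK LD1_c2 LD2_c35 LD3_c56) (LK LD1_c5 LD2_c18 LD3_c32) Lrfl Lrfl
theorem f178697 : Led Lsl_bt (LP (LK LD1_c1 LD2_c14 LD3_c60)) = (LP (LK LD1_c2 LD2_c35 LD3_c56)) :=
  Lre_b IH (LK LD1_c1 LD2_c14 LD3_c60) (LK LD1_c2 LD2_c35 LD3_c56) Lrfl Lrfl
theorem f215142 : Led Lsl_ct (LP (LK LD1_c10 LD2_c13 LD3_c20)) = (LP (LK LD1_c5 LD2_c11 LD3_c24)) :=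
  Lre_c IH (LK LD1_c10 LD2_c13 LD3_c20) (LK LD1_c5 LD2_c11 LD3_c24) Lrfl Lrfl
theorem f215143 : Led Lsl_bt (LP (LK LD1_c5 LD2_c11 LD3_c24)) = (LP (LK LD1_c2 LD2_c32 LD3_c40)) :=
  Lre_b IH (LK LD1_c5 LD2_c11 LD3_c24) (LK LD1_c2 LD2_c32 LD3_c40) Lrfl Lrfl
theorem f215144 : Led Lsl_cf (LP (LK LD1_c1 LD2_c14 LD3_c60)) = (LP (LK LD1_c2 LD2_c32 LD3_c40)) :=
  Lgr Lrot97 (Lpr_bt (f178697 IH) (Lpr_ct (f178728 IH) (Lpr_bt (f215137 IH) (Lpr_ct (f215142 IH) (Lpr_bt (f215143 IH) (Lpn (LP (LK LD1_c2 LD2_c32 LD3_c40))))))))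
theorem f178552 : Led Lsl_ft (LP (LK LD1_c1 LD2_c14 LD3_c60)) = (LP (LK LD1_c2 LD2_c35 LD3_c59)) :=
  Lre_f IH (LK LD1_c1 LD2_c14 LD3_c60) (LK LD1_c2 LD2_c35 LD3_c59) Lrfl Lrfl
theorem f215167 : Led Lsl_ft (LP (LK LD1_c5 LD2_c11 LD3_c27)) = (LP (LK LD1_c2 LD2_c32 LD3_c40)) :=
  Lre_f IH (LK LD1_c5 LD2_c11 LD3_c27) (LK LD1_c2 LD2_c32 LD3_c40) Lrfl Lrfl
theorem f215168 : Led Lsl_ct (LP (LK LD1_c2 LD2_c35 LD3_c59)) = (LP (LK LD1_c5 LD2_c11 LD3_c27)) :=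
  Lgr Lrot40 (Lpe (f178552 IH) (Lpr_cf (f215144 IH) (Lpe (f215167 IH) (Lpn (LP (LK LD1_c5 LD2_c11 LD3_c27))))))
theorem f307921 : Led Lsl_at (LP (LK LD1_c5 LD2_c11 LD3_c27)) = (LP (LK LD1_c5 LD2_c4 LD3_c20)) :=
  Lgr Lrot107 (Lpe (f215168 IH) (Lpr_af (f307917 IH) (Lpr_cf (f165960 IH) (Lpn (LP (LK LD1_c5 LD2_c4 LD3_c20))))))
theorem f307928 : Led Lsl_ef (LP (LK LD1_c5 LD2_c11 LD3_c27)) = (LP (LK LD1_c5 LD2_c4 LD3_c11)) :=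
  Lgr Lrot20 (Lpr_at (f307921 IH) (Lpr_et (K15.f267857 IH) (Lpe (K15.f267957 IH) (Lpn (LP (LK LD1_c5 LD2_c4 LD3_c11))))))
theorem f307932 : Led Lsl_et (LP (LK LD1_c5 LD2_c11 LD3_c27)) = (LP (LK LD1_c5 LD2_c4 LD3_c11)) :=
  Lgr Lrot87 (Lpr_ef (f307928 IH) (Lpn (LP (LK LD1_c5 LD2_c4 LD3_c11))))
theorem f215178 : Led Lsl_bt (LP (LK LD1_c10 LD2_c13 LD3_c24)) = (LP (LK LD1_c5 LD2_c11 LD3_c27)) :=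
  Lre_b IH (LK LD1_c10 LD2_c13 LD3_c24) (LK LD1_c5 LD2_c11 LD3_c27) Lrfl Lrfl
theorem f170028 : Led Lsl_bt (LP (LK LD1_c5 LD2_c4 LD3_c11)) = (LP (LK LD1_c9 LD2_c59 LD3_c3)) :=
  Lre_b IH (LK LD1_c5 LD2_c4 LD3_c11) (LK LD1_c9 LD2_c59 LD3_c3) Lrfl Lrfl
theorem f307934 : Led Lsl_ef (LP (LK LD1_c10 LD2_c13 LD3_c24)) = (LP (LK LD1_c9 LD2_c59 LD3_c3)) :=
  Lgr Lrot29 (Lpr_bt (f215178 IH) (Lpr_et (f307932 IH) (Lpr_bt (f170028 IH) (Lpn (LP (LK LD1_c9 LD2_c59 LD3_c3))))))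
theorem f307936 : Led Lsl_ft (LP (LK LD1_c10 LD2_c13 LD3_c24)) = (LP (LK LD1_c5 LD2_c11 LD3_c24)) :=
  Lre_f IH (LK LD1_c10 LD2_c13 LD3_c24) (LK LD1_c5 LD2_c11 LD3_c24) Lrfl Lrfl
theorem f307937 : Led Lsl_et (LP (LK LD1_c5 LD2_c11 LD3_c24)) = (LP (LK LD1_c2 LD2_c32 LD3_c38)) :=
  Lre_e IH (LK LD1_c5 LD2_c11 LD3_c24) (LK LD1_c2 LD2_c32 LD3_c38) Lrfl Lrfl
theorem f307938 : Led Lsl_ft (LP (LK LD1_c5 LD2_c4 LD3_c6)) = (LP (LK LD1_c9 LD2_c59 LD3_c3)) :=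
  Lre_f IH (LK LD1_c5 LD2_c4 LD3_c6) (LK LD1_c9 LD2_c59 LD3_c3) Lrfl Lrfl
theorem f307939 : Led Lsl_et (LP (LK LD1_c2 LD2_c29 LD3_c29)) = (LP (LK LD1_c5 LD2_c4 LD3_c6)) :=
  Lre_e IH (LK LD1_c2 LD2_c29 LD3_c29) (LK LD1_c5 LD2_c4 LD3_c6) Lrfl Lrfl
theorem f307940 : Led Lsl_ft (LP (LK LD1_c2 LD2_c32 LD3_c38)) = (LP (LK LD1_c2 LD2_c29 LD3_c29)) :=
  Lgr Lrot86 (Lpe (f307937 IH) (Lpe (f307936 IH) (Lpr_ef (f307934 IH) (Lpe (f307938 IH) (Lpe (f307939 IH) (Lpn (LP (LK LD1_c2 LD2_c29 LD3_c29))))))))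
theorem f307949 : Led Lsl_ff (LP (LK LD1_c2 LD2_c32 LD3_c38)) = (LP (LK LD1_c2 LD2_c29 LD3_c29)) :=
  Lgr Lrot3 (Lpr_ft (f307940 IH) (Lpn (LP (LK LD1_c2 LD2_c29 LD3_c29))))
theorem f186654 : Led Lsl_dt (LP (LK LD1_c2 LD2_c32 LD3_c38)) = (LP (LK LD1_c5 LD2_c11 LD3_c23)) :=
  Lre_d IH (LK LD1_c2 LD2_c32 LD3_c38) (LK LD1_c5 LD2_c11 LD3_c23) Lrfl Lrfl
theorem f165600 : Led Lsl_dt (LP (LK LD1_c5 LD2_c4 LD3_c5)) = (LP (LK LD1_c2 LD2_c29 LD3_c29)) :=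
  Lre_d IH (LK LD1_c5 LD2_c4 LD3_c5) (LK LD1_c2 LD2_c29 LD3_c29) Lrfl Lrfl
theorem f307958 : Led Lsl_ft (LP (LK LD1_c5 LD2_c11 LD3_c23)) = (LP (LK LD1_c5 LD2_c4 LD3_c5)) :=
  Lgr Lrot54 (Lpe (f186654 IH) (Lpr_ff (f307949 IH) (Lpe (f165600 IH) (Lpn (LP (LK LD1_c5 LD2_c4 LD3_c5))))))
theorem f185764 : Led Lsl_bt (LP (LK LD1_c2 LD2_c32 LD3_c39)) = (LP (LK LD1_c5 LD2_c11 LD3_c23)) :=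
  Lre_b IH (LK LD1_c2 LD2_c32 LD3_c39) (LK LD1_c5 LD2_c11 LD3_c23) Lrfl Lrfl
theorem f165714 : Led Lsl_bt (LP (LK LD1_c5 LD2_c4 LD3_c5)) = (LP (LK LD1_c2 LD2_c29 LD3_c30)) :=
  Lre_b IH (LK LD1_c5 LD2_c4 LD3_c5) (LK LD1_c2 LD2_c29 LD3_c30) Lrfl Lrfl
theorem f307965 : Led Lsl_ff (LP (LK LD1_c2 LD2_c32 LD3_c39)) = (LP (LK LD1_c2 LD2_c29 LD3_c30)) :=
  Lgr Lrot25 (Lpr_bt (f185764 IH) (Lpr_ft (f307958 IH) (Lpr_bt (f165714 IH) (Lpn (LP (LK LD1_c2 LD2_c29 LD3_c30))))))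
theorem f307971 : Led Lsl_ft (LP (LK LD1_c2 LD2_c32 LD3_c39)) = (LP (LK LD1_c2 LD2_c29 LD3_c30)) :=
  Lgr Lrot48 (Lpr_ff (f307965 IH) (Lpn (LP (LK LD1_c2 LD2_c29 LD3_c30))))
theorem f307975 : Led Lsl_ff (LP (LK LD1_c1 LD2_c13 LD3_c48)) = (LP (LK LD1_c1 LD2_c12 LD3_c25)) :=
  Lgr Lrot23 (Lpe (K15.f185760 IH) (Lpr_ft (f307971 IH) (Lpr_ct (K14.f166254 IH) (Lpn (LP (LK LD1_c1 LD2_c12 LD3_c25))))))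
theorem f307983 : Led Lsl_at (LP (LK LD1_c1 LD2_c13 LD3_c48)) = (LP (LK LD1_c1 LD2_c12 LD3_c22)) :=
  Lgr Lrot26 (Lpr_ff (f307975 IH) (Lpr_gt (K14.f186166 IH) (Lpr_gt (K14.f166403 IH) (Lpn (LP (LK LD1_c1 LD2_c12 LD3_c22))))))
theorem f307985 : Led Lsl_af (LP (LK LD1_c1 LD2_c13 LD3_c48)) = (LP (LK LD1_c1 LD2_c12 LD3_c22)) :=
  Lgr Lrot0 (Lpr_at (f307983 IH) (Lpn (LP (LK LD1_c1 LD2_c12 LD3_c22))))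
theorem f308012 : Led Lsl_at (LP (LK LD1_c0 LD2_c34 LD3_c11)) = (LP (LK LD1_c0 LD2_c33 LD3_c30)) :=
  Lgr Lrot51 (Lpe (K15.f185752 IH) (Lpr_af (f307985 IH) (Lpe (K10.f166372 IH) (Lpn (LP (LK LD1_c0 LD2_c33 LD3_c30))))))
theorem f308014 : Led Lsl_ff (LP (LK LD1_c0 LD2_c34 LD3_c11)) = (LP (LK LD1_c0 LD2_c33 LD3_c32)) :=
  Lgr Lrot52 (Lpr_at (f308012 IH) (Lpr_gf (K9.f166367 IH) (Lpr_gf (K9.f166118 IH) (Lpn (LP (LK LD1_c0 LD2_c33 LD3_c32))))))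
theorem f302513 : Led Lsl_ft (LP (LK LD1_c2 LD2_c13 LD3_c6)) = (LP (LK LD1_c1 LD2_c12 LD3_c23)) :=
  Lgr Lrot4 (Lpe (K16.f20766 IH) (Lpr_ff (K18.f302509 IH) (Lpe (K18.f166406 IH) (Lpn (LP (LK LD1_c1 LD2_c12 LD3_c23))))))
theorem f302521 : Led Lsl_ft (LP (LK LD1_c0 LD2_c33 LD3_c30)) = (LP (LK LD1_c0 LD2_c34 LD3_c14)) :=
  Lgr Lrot86 (Lpe (K11.f166383 IH) (Lpe (f302513 IH) (Lpr_ef (K18.f181125 IH) (Lpr_ff (K18.f302517 IH) (Lpe (K11.f198576 IH) (Lpn (LP (LK LD1_c0 LD2_c34 LD3_c14))))))))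
theorem f308016 : Led Lsl_at (LP (LK LD1_c0 LD2_c34 LD3_c14)) = (LP (LK LD1_c0 LD2_c33 LD3_c32)) :=
  Lgr Lrot66 (Lpe (f302521 IH) (Lpe (f308012 IH) (Lpr_ff (f308014 IH) (Lpn (LP (LK LD1_c0 LD2_c33 LD3_c32))))))
theorem f185089 : Led Lsl_bt (LP (LK LD1_c1 LD2_c13 LD3_c52)) = (LP (LK LD1_c0 LD2_c34 LD3_c14)) :=
  Lre_b IH (LK LD1_c1 LD2_c13 LD3_c52) (LK LD1_c0 LD2_c34 LD3_c14) Lrfl Lrfl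
theorem f308080 : Led Lsl_at (LP (LK LD1_c2 LD2_c33 LD3_c46)) = (LP (LK LD1_c1 LD2_c13 LD3_c52)) :=
  Lre_a IH (LK LD1_c2 LD2_c33 LD3_c46) (LK LD1_c1 LD2_c13 LD3_c52) Lrfl Lrfl
theorem f21258 : Led Lsl_bt (LP (LK LD1_c0 LD2_c33 LD3_c32)) = (LP (LK LD1_c1 LD2_c12 LD3_c24)) :=
  Lre_b IH (LK LD1_c0 LD2_c33 LD3_c32) (LK LD1_c1 LD2_c12 LD3_c24) Lrfl Lrfl
theorem f308054 : Led Lsl_at (LP (LK LD1_c1 LD2_c12 LD3_c24)) = (LP (LK LD1_c2 LD2_c30 LD3_c47)) :=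
  Lre_a IH (LK LD1_c1 LD2_c12 LD3_c24) (LK LD1_c2 LD2_c30 LD3_c47) Lrfl Lrfl
theorem f308081 : Led Lsl_bf (LP (LK LD1_c2 LD2_c33 LD3_c46)) = (LP (LK LD1_c2 LD2_c30 LD3_c47)) :=
  Lgr Lrot81 (Lpr_at (f308080 IH) (Lpr_bt (f185089 IH) (Lpr_at (f308016 IH) (Lpr_bt (f21258 IH) (Lpr_at (f308054 IH) (Lpn (LP (LK LD1_c2 LD2_c30 LD3_c47))))))))
theorem f308088 : Led Lsl_dt (LP (LK LD1_c2 LD2_c33 LD3_c46)) = (LP (LK LD1_c5 LD2_c13 LD3_c45)) :=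
  Lre_d IH (LK LD1_c2 LD2_c33 LD3_c46) (LK LD1_c5 LD2_c13 LD3_c45) Lrfl Lrfl
theorem f308070 : Led Lsl_dt (LP (LK LD1_c5 LD2_c6 LD3_c58)) = (LP (LK LD1_c2 LD2_c30 LD3_c47)) :=
  Lre_d IH (LK LD1_c5 LD2_c6 LD3_c58) (LK LD1_c2 LD2_c30 LD3_c47) Lrfl Lrfl
theorem f308089 : Led Lsl_bt (LP (LK LD1_c5 LD2_c13 LD3_c45)) = (LP (LK LD1_c5 LD2_c6 LD3_c58)) :=
  Lgr Lrot95 (Lpe (f308088 IH) (Lpr_bf (f308081 IH) (Lpe (f308070 IH) (Lpn (LP (LK LD1_c5 LD2_c6 LD3_c58))))))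
theorem f308092 : Led Lsl_bf (LP (LK LD1_c5 LD2_c13 LD3_c45)) = (LP (LK LD1_c5 LD2_c6 LD3_c58)) :=
  Lgr Lrot24 (Lpr_bt (f308089 IH) (Lpn (LP (LK LD1_c5 LD2_c6 LD3_c58))))
theorem f308095 : Led Lsl_at (LP (LK LD1_c5 LD2_c13 LD3_c45)) = (LP (LK LD1_c2 LD2_c33 LD3_c47)) :=
  Lre_a IH (LK LD1_c5 LD2_c13 LD3_c45) (LK LD1_c2 LD2_c33 LD3_c47) Lrfl Lrfl
theorem f186560 : Led Lsl_bt (LP (LK LD1_c2 LD2_c33 LD3_c47)) = (LP (LK LD1_c1 LD2_c13 LD3_c53)) :=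
  Lre_b IH (LK LD1_c2 LD2_c33 LD3_c47) (LK LD1_c1 LD2_c13 LD3_c53) Lrfl Lrfl
theorem f308096 : Led Lsl_at (LP (LK LD1_c2 LD2_c30 LD3_c48)) = (LP (LK LD1_c5 LD2_c6 LD3_c58)) :=
  Lre_a IH (LK LD1_c2 LD2_c30 LD3_c48) (LK LD1_c5 LD2_c6 LD3_c58) Lrfl Lrfl
theorem f166259 : Led Lsl_bt (LP (LK LD1_c1 LD2_c12 LD3_c25)) = (LP (LK LD1_c2 LD2_c30 LD3_c48)) :=
  Lre_b IH (LK LD1_c1 LD2_c12 LD3_c25) (LK LD1_c2 LD2_c30 LD3_c48) Lrfl Lrfl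
theorem f308097 : Led Lsl_at (LP (LK LD1_c1 LD2_c13 LD3_c53)) = (LP (LK LD1_c1 LD2_c12 LD3_c25)) :=
  Lgr Lrot67 (Lpe (f186560 IH) (Lpe (f308095 IH) (Lpr_bf (f308092 IH) (Lpe (f308096 IH) (Lpe (f166259 IH) (Lpn (LP (LK LD1_c1 LD2_c12 LD3_c25))))))))
theorem f308103 : Led Lsl_ff (LP (LK LD1_c1 LD2_c13 LD3_c53)) = (LP (LK LD1_c1 LD2_c12 LD3_c22)) :=
  Lgr Lrot30 (Lpr_at (f308097 IH) (Lpe (f307975 IH) (Lpr_at (f307983 IH) (Lpn (LP (LK LD1_c1 LD2_c12 LD3_c22))))))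
theorem f185102 : Led Lsl_et (LP (LK LD1_c1 LD2_c13 LD3_c53)) = (LP (LK LD1_c2 LD2_c33 LD3_c49)) :=
  Lre_e IH (LK LD1_c1 LD2_c13 LD3_c53) (LK LD1_c2 LD2_c33 LD3_c49) Lrfl Lrfl
theorem f186559 : Led Lsl_ft (LP (LK LD1_c2 LD2_c33 LD3_c49)) = (LP (LK LD1_c5 LD2_c13 LD3_c51)) :=
  Lre_f IH (LK LD1_c2 LD2_c33 LD3_c49) (LK LD1_c5 LD2_c13 LD3_c51) Lrfl Lrfl
theorem f166392 : Led Lsl_et (LP (LK LD1_c2 LD2_c30 LD3_c45)) = (LP (LK LD1_c1 LD2_c12 LD3_c22)) :=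
  Lre_e IH (LK LD1_c2 LD2_c30 LD3_c45) (LK LD1_c1 LD2_c12 LD3_c22) Lrfl Lrfl
theorem f166401 : Led Lsl_ft (LP (LK LD1_c5 LD2_c6 LD3_c56)) = (LP (LK LD1_c2 LD2_c30 LD3_c45)) :=
  Lre_f IH (LK LD1_c5 LD2_c6 LD3_c56) (LK LD1_c2 LD2_c30 LD3_c45) Lrfl Lrfl
theorem f308109 : Led Lsl_et (LP (LK LD1_c5 LD2_c13 LD3_c51)) = (LP (LK LD1_c5 LD2_c6 LD3_c56)) :=
  Lgr Lrot69 (Lpe (f186559 IH) (Lpe (f185102 IH) (Lpr_ff (f308103 IH) (Lpe (f166392 IH) (Lpe (f166401 IH) (Lpn (LP (LK LD1_c5 LD2_c6 LD3_c56))))))))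
theorem f308115 : Led Lsl_ef (LP (LK LD1_c5 LD2_c13 LD3_c51)) = (LP (LK LD1_c5 LD2_c6 LD3_c56)) :=
  Lgr Lrot88 (Lpr_et (f308109 IH) (Lpn (LP (LK LD1_c5 LD2_c6 LD3_c56))))
theorem f308117 : Led Lsl_bt (LP (LK LD1_c5 LD2_c13 LD3_c51)) = (LP (LK LD1_c10 LD2_c17 LD3_c47)) :=
  Lre_b IH (LK LD1_c5 LD2_c13 LD3_c51) (LK LD1_c10 LD2_c17 LD3_c47) Lrfl Lrfl
theorem f308004 : Led Lsl_bt (LP (LK LD1_c10 LD2_c4 LD3_c26)) = (LP (LK LD1_c5 LD2_c6 LD3_c56)) :=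
  Lre_b IH (LK LD1_c10 LD2_c4 LD3_c26) (LK LD1_c5 LD2_c6 LD3_c56) Lrfl Lrfl
theorem f308118 : Led Lsl_et (LP (LK LD1_c10 LD2_c17 LD3_c47)) = (LP (LK LD1_c10 LD2_c4 LD3_c26)) :=
  Lgr Lrot74 (Lpe (f308117 IH) (Lpr_ef (f308115 IH) (Lpe (f308004 IH) (Lpn (LP (LK LD1_c10 LD2_c4 LD3_c26))))))
theorem f308122 : Led Lsl_ft (LP (LK LD1_c5 LD2_c13 LD3_c47)) = (LP (LK LD1_c10 LD2_c17 LD3_c47)) :=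
  Lre_f IH (LK LD1_c5 LD2_c13 LD3_c47) (LK LD1_c10 LD2_c17 LD3_c47) Lrfl Lrfl
theorem f308123 : Led Lsl_et (LP (LK LD1_c2 LD2_c33 LD3_c47)) = (LP (LK LD1_c5 LD2_c13 LD3_c47)) :=
  Lre_e IH (LK LD1_c2 LD2_c33 LD3_c47) (LK LD1_c5 LD2_c13 LD3_c47) Lrfl Lrfl
theorem f308124 : Led Lsl_ft (LP (LK LD1_c10 LD2_c4 LD3_c26)) = (LP (LK LD1_c5 LD2_c6 LD3_c50)) :=
  Lre_f IH (LK LD1_c10 LD2_c4 LD3_c26) (LK LD1_c5 LD2_c6 LD3_c50) Lrfl Lrfl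
theorem f308125 : Led Lsl_et (LP (LK LD1_c5 LD2_c6 LD3_c50)) = (LP (LK LD1_c2 LD2_c30 LD3_c41)) :=
  Lre_e IH (LK LD1_c5 LD2_c6 LD3_c50) (LK LD1_c2 LD2_c30 LD3_c41) Lrfl Lrfl
theorem f308126 : Led Lsl_ff (LP (LK LD1_c2 LD2_c33 LD3_c47)) = (LP (LK LD1_c2 LD2_c30 LD3_c41)) :=
  Lgr Lrot72 (Lpr_et (f308123 IH) (Lpr_ft (f308122 IH) (Lpr_et (f308118 IH) (Lpr_ft (f308124 IH) (Lpr_et (f308125 IH) (Lpn (LP (LK LD1_c2 LD2_c30 LD3_c41))))))))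
theorem f201440 : Led Lsl_dt (LP (LK LD1_c2 LD2_c33 LD3_c47)) = (LP (LK LD1_c1 LD2_c13 LD3_c52)) :=
  Lre_d IH (LK LD1_c2 LD2_c33 LD3_c47) (LK LD1_c1 LD2_c13 LD3_c52) Lrfl Lrfl
theorem f308130 : Led Lsl_dt (LP (LK LD1_c1 LD2_c12 LD3_c21)) = (LP (LK LD1_c2 LD2_c30 LD3_c41)) :=
  Lre_d IH (LK LD1_c1 LD2_c12 LD3_c21) (LK LD1_c2 LD2_c30 LD3_c41) Lrfl Lrfl
theorem f308131 : Led Lsl_ft (LP (LK LD1_c1 LD2_c13 LD3_c52)) = (LP (LK LD1_c1 LD2_c12 LD3_c21)) :=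
  Lgr Lrot54 (Lpe (f201440 IH) (Lpr_ff (f308126 IH) (Lpe (f308130 IH) (Lpn (LP (LK LD1_c1 LD2_c12 LD3_c21))))))
theorem f308143 : Led Lsl_ff (LP (LK LD1_c1 LD2_c13 LD3_c52)) = (LP (LK LD1_c1 LD2_c12 LD3_c21)) :=
  Lgr Lrot3 (Lpr_ft (f308131 IH) (Lpn (LP (LK LD1_c1 LD2_c12 LD3_c21))))
theorem f308148 : Led Lsl_at (LP (LK LD1_c1 LD2_c13 LD3_c52)) = (LP (LK LD1_c2 LD2_c33 LD3_c46)) :=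
  Lre_a IH (LK LD1_c1 LD2_c13 LD3_c52) (LK LD1_c2 LD2_c33 LD3_c46) Lrfl Lrfl
theorem f308138 : Led Lsl_ct (LP (LK LD1_c5 LD2_c13 LD3_c39)) = (LP (LK LD1_c2 LD2_c33 LD3_c46)) :=
  Lre_c IH (LK LD1_c5 LD2_c13 LD3_c39) (LK LD1_c2 LD2_c33 LD3_c46) Lrfl Lrfl
theorem f308137 : Led Lsl_dt (LP (LK LD1_c10 LD2_c17 LD3_c29)) = (LP (LK LD1_c5 LD2_c13 LD3_c39)) :=
  Lre_d IH (LK LD1_c10 LD2_c17 LD3_c29) (LK LD1_c5 LD2_c13 LD3_c39) Lrfl Lrfl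
theorem f308153 : Led Lsl_ct (LP (LK LD1_c18 LD2_c42 LD3_c19)) = (LP (LK LD1_c10 LD2_c17 LD3_c29)) :=
  Lre_c IH (LK LD1_c18 LD2_c42 LD3_c19) (LK LD1_c10 LD2_c17 LD3_c29) Lrfl Lrfl
theorem f169823 : Led Lsl_ct (LP (LK LD1_c2 LD2_c30 LD3_c41)) = (LP (LK LD1_c5 LD2_c6 LD3_c49)) :=
  Lre_c IH (LK LD1_c2 LD2_c30 LD3_c41) (LK LD1_c5 LD2_c6 LD3_c49) Lrfl Lrfl
theorem f308154 : Led Lsl_dt (LP (LK LD1_c5 LD2_c6 LD3_c49)) = (LP (LK LD1_c10 LD2_c4 LD3_c22)) :=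
  Lre_d IH (LK LD1_c5 LD2_c6 LD3_c49) (LK LD1_c10 LD2_c4 LD3_c22) Lrfl Lrfl
theorem f308155 : Led Lsl_ct (LP (LK LD1_c10 LD2_c4 LD3_c22)) = (LP (LK LD1_c18 LD2_c23 LD3_c8)) :=
  Lre_c IH (LK LD1_c10 LD2_c4 LD3_c22) (LK LD1_c18 LD2_c23 LD3_c8) Lrfl Lrfl
theorem f308156 : Led Lsl_df (LP (LK LD1_c18 LD2_c42 LD3_c19)) = (LP (LK LD1_c18 LD2_c23 LD3_c8)) :=
  Lgr Lrot13 (Lpr_ct (f308153 IH) (Lpr_dt (f308137 IH) (Lpr_ct (f308138 IH) (Lpe (f308148 IH) (Lpr_ff (f308143 IH) (Lpr_dt (f308130 IH) (Lpr_ct (f169823 IH) (Lpr_dt (f308154 IH) (Lpr_ct (f308155 IH) (Lpn (LP (LK LD1_c18 LD2_c23 LD3_c8))))))))))))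
theorem f308168 : Led Lsl_at (LP (LK LD1_c5 LD2_c13 LD3_c40)) = (LP (LK LD1_c10 LD2_c17 LD3_c29)) :=
  Lre_a IH (LK LD1_c5 LD2_c13 LD3_c40) (LK LD1_c10 LD2_c17 LD3_c29) Lrfl Lrfl
theorem f166412 : Led Lsl_ct (LP (LK LD1_c2 LD2_c30 LD3_c38)) = (LP (LK LD1_c1 LD2_c12 LD3_c21)) :=
  Lre_c IH (LK LD1_c2 LD2_c30 LD3_c38) (LK LD1_c1 LD2_c12 LD3_c21) Lrfl Lrfl
theorem f166413 : Led Lsl_dt (LP (LK LD1_c5 LD2_c6 LD3_c42)) = (LP (LK LD1_c2 LD2_c30 LD3_c38)) :=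
  Lre_d IH (LK LD1_c5 LD2_c6 LD3_c42) (LK LD1_c2 LD2_c30 LD3_c38) Lrfl Lrfl
theorem f308169 : Led Lsl_ff (LP (LK LD1_c5 LD2_c13 LD3_c40)) = (LP (LK LD1_c5 LD2_c6 LD3_c42)) :=
  Lgr Lrot103 (Lpr_at (f308168 IH) (Lpe (f308153 IH) (Lpr_df (f308156 IH) (Lpe (f308155 IH) (Lpe (f308154 IH) (Lpe (f169823 IH) (Lpe (f308130 IH) (Lpe (f166412 IH) (Lpe (f166413 IH) (Lpn (LP (LK LD1_c5 LD2_c6 LD3_c42))))))))))))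
theorem f308185 : Led Lsl_ft (LP (LK LD1_c5 LD2_c13 LD3_c40)) = (LP (LK LD1_c5 LD2_c6 LD3_c42)) :=
  Lgr Lrot48 (Lpr_ff (f308169 IH) (Lpn (LP (LK LD1_c5 LD2_c6 LD3_c42))))
theorem f308200 : Led Lsl_et (LP (LK LD1_c10 LD2_c17 LD3_c31)) = (LP (LK LD1_c5 LD2_c13 LD3_c40)) :=
  Lre_e IH (LK LD1_c10 LD2_c17 LD3_c31) (LK LD1_c5 LD2_c13 LD3_c40) Lrfl Lrfl
theorem f308201 : Led Lsl_ft (LP (LK LD1_c18 LD2_c42 LD3_c27)) = (LP (LK LD1_c10 LD2_c17 LD3_c31)) :=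
  Lre_f IH (LK LD1_c18 LD2_c42 LD3_c27) (LK LD1_c10 LD2_c17 LD3_c31) Lrfl Lrfl
theorem f308202 : Led Lsl_et (LP (LK LD1_c5 LD2_c6 LD3_c42)) = (LP (LK LD1_c10 LD2_c4 LD3_c10)) :=
  Lre_e IH (LK LD1_c5 LD2_c6 LD3_c42) (LK LD1_c10 LD2_c4 LD3_c10) Lrfl Lrfl
theorem f308203 : Led Lsl_ft (LP (LK LD1_c10 LD2_c4 LD3_c10)) = (LP (LK LD1_c18 LD2_c22 LD3_c50)) :=
  Lre_f IH (LK LD1_c10 LD2_c4 LD3_c10) (LK LD1_c18 LD2_c22 LD3_c50) Lrfl Lrfl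
theorem f308204 : Led Lsl_ef (LP (LK LD1_c18 LD2_c42 LD3_c27)) = (LP (LK LD1_c18 LD2_c22 LD3_c50)) :=
  Lgr Lrot21 (Lpr_ft (f308201 IH) (Lpr_et (f308200 IH) (Lpr_ft (f308185 IH) (Lpr_et (f308202 IH) (Lpr_ft (f308203 IH) (Lpn (LP (LK LD1_c18 LD2_c22 LD3_c50))))))))
theorem f308206 : Led Lsl_bt (LP (LK LD1_c18 LD2_c42 LD3_c27)) = (LP (LK LD1_c10 LD2_c17 LD3_c38)) :=
  Lre_b IH (LK LD1_c18 LD2_c42 LD3_c27) (LK LD1_c10 LD2_c17 LD3_c38) Lrfl Lrfl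
theorem f308207 : Led Lsl_bt (LP (LK LD1_c10 LD2_c4 LD3_c20)) = (LP (LK LD1_c18 LD2_c22 LD3_c50)) :=
  Lre_b IH (LK LD1_c10 LD2_c4 LD3_c20) (LK LD1_c18 LD2_c22 LD3_c50) Lrfl Lrfl
theorem f308208 : Led Lsl_et (LP (LK LD1_c10 LD2_c17 LD3_c38)) = (LP (LK LD1_c10 LD2_c4 LD3_c20)) :=
  Lgr Lrot74 (Lpe (f308206 IH) (Lpr_ef (f308204 IH) (Lpe (f308207 IH) (Lpn (LP (LK LD1_c10 LD2_c4 LD3_c20))))))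
theorem f308216 : Led Lsl_ef (LP (LK LD1_c10 LD2_c17 LD3_c38)) = (LP (LK LD1_c10 LD2_c4 LD3_c20)) :=
  Lgr Lrot88 (Lpr_et (f308208 IH) (Lpn (LP (LK LD1_c10 LD2_c4 LD3_c20))))
theorem f308223 : Led Lsl_ct (LP (LK LD1_c10 LD2_c17 LD3_c38)) = (LP (LK LD1_c18 LD2_c42 LD3_c35)) :=
  Lre_c IH (LK LD1_c10 LD2_c17 LD3_c38) (LK LD1_c18 LD2_c42 LD3_c35) Lrfl Lrfl
theorem f308224 : Led Lsl_ct (LP (LK LD1_c18 LD2_c23 LD3_c5)) = (LP (LK LD1_c10 LD2_c4 LD3_c20)) :=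
  Lre_c IH (LK LD1_c18 LD2_c23 LD3_c5) (LK LD1_c10 LD2_c4 LD3_c20) Lrfl Lrfl
theorem f308225 : Led Lsl_et (LP (LK LD1_c18 LD2_c42 LD3_c35)) = (LP (LK LD1_c18 LD2_c23 LD3_c5)) :=
  Lgr Lrot158 (Lpe (f308223 IH) (Lpr_ef (f308216 IH) (Lpe (f308224 IH) (Lpn (LP (LK LD1_c18 LD2_c23 LD3_c5))))))
theorem f308230 : Led Lsl_ft (LP (LK LD1_c10 LD2_c17 LD3_c34)) = (LP (LK LD1_c18 LD2_c42 LD3_c35)) :=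
  Lre_f IH (LK LD1_c10 LD2_c17 LD3_c34) (LK LD1_c18 LD2_c42 LD3_c35) Lrfl Lrfl
theorem f201776 : Led Lsl_et (LP (LK LD1_c5 LD2_c13 LD3_c42)) = (LP (LK LD1_c10 LD2_c17 LD3_c34)) :=
  Lre_e IH (LK LD1_c5 LD2_c13 LD3_c42) (LK LD1_c10 LD2_c17 LD3_c34) Lrfl Lrfl
theorem f308231 : Led Lsl_ft (LP (LK LD1_c18 LD2_c23 LD3_c5)) = (LP (LK LD1_c10 LD2_c4 LD3_c18)) :=
  Lre_f IH (LK LD1_c18 LD2_c23 LD3_c5) (LK LD1_c10 LD2_c4 LD3_c18) Lrfl Lrfl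
theorem f225617 : Led Lsl_et (LP (LK LD1_c10 LD2_c4 LD3_c18)) = (LP (LK LD1_c5 LD2_c6 LD3_c46)) :=
  Lre_e IH (LK LD1_c10 LD2_c4 LD3_c18) (LK LD1_c5 LD2_c6 LD3_c46) Lrfl Lrfl
theorem f308232 : Led Lsl_ff (LP (LK LD1_c5 LD2_c13 LD3_c42)) = (LP (LK LD1_c5 LD2_c6 LD3_c46)) :=
  Lgr Lrot72 (Lpr_et (f201776 IH) (Lpr_ft (f308230 IH) (Lpr_et (f308225 IH) (Lpr_ft (f308231 IH) (Lpr_et (f225617 IH) (Lpn (LP (LK LD1_c5 LD2_c6 LD3_c46))))))))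
theorem f308239 : Led Lsl_at (LP (LK LD1_c5 LD2_c13 LD3_c42)) = (LP (LK LD1_c8 LD2_c23 LD3_c57)) :=
  Lgr Lrot26 (Lpr_ff (f308232 IH) (Lpr_gt (K13.f211560 IH) (Lpe (K13.f240616 IH) (Lpn (LP (LK LD1_c8 LD2_c23 LD3_c57))))))
theorem f201806 : Led Lsl_et (LP (LK LD1_c10 LD2_c17 LD3_c34)) = (LP (LK LD1_c5 LD2_c13 LD3_c42)) :=
  Lre_e IH (LK LD1_c10 LD2_c17 LD3_c34) (LK LD1_c5 LD2_c13 LD3_c42) Lrfl Lrfl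
theorem f227358 : Led Lsl_et (LP (LK LD1_c8 LD2_c23 LD3_c57)) = (LP (LK LD1_c15 LD2_c47 LD3_c30)) :=
  Lre_e IH (LK LD1_c8 LD2_c23 LD3_c57) (LK LD1_c15 LD2_c47 LD3_c30) Lrfl Lrfl
theorem f308247 : Led Lsl_af (LP (LK LD1_c10 LD2_c17 LD3_c34)) = (LP (LK LD1_c15 LD2_c47 LD3_c30)) :=
  Lgr Lrot50 (Lpr_et (f201806 IH) (Lpr_at (f308239 IH) (Lpr_et (f227358 IH) (Lpn (LP (LK LD1_c15 LD2_c47 LD3_c30))))))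
theorem f201777 : Led Lsl_dt (LP (LK LD1_c10 LD2_c17 LD3_c34)) = (LP (LK LD1_c18 LD2_c42 LD3_c34)) :=
  Lre_d IH (LK LD1_c10 LD2_c17 LD3_c34) (LK LD1_c18 LD2_c42 LD3_c34) Lrfl Lrfl
theorem f53276 : Led Lsl_dt (LP (LK LD1_c25 LD2_c44 LD3_c16)) = (LP (LK LD1_c15 LD2_c47 LD3_c30)) :=
  Lre_d IH (LK LD1_c25 LD2_c44 LD3_c16) (LK LD1_c15 LD2_c47 LD3_c30) Lrfl Lrfl
theorem f308255 : Led Lsl_at (LP (LK LD1_c18 LD2_c42 LD3_c34)) = (LP (LK LD1_c25 LD2_c44 LD3_c16)) :=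
  Lgr Lrot51 (Lpe (f201777 IH) (Lpr_af (f308247 IH) (Lpe (f53276 IH) (Lpn (LP (LK LD1_c25 LD2_c44 LD3_c16))))))
theorem f54217 : Led Lsl_et (LP (LK LD1_c8 LD2_c37 LD3_c54)) = (LP (LK LD1_c4 LD2_c19 LD3_c58)) :=
  Lre_e IH (LK LD1_c8 LD2_c37 LD3_c54) (LK LD1_c4 LD2_c19 LD3_c58) Lrfl Lrfl
theorem f201775 : Led Lsl_dt (LP (LK LD1_c16 LD2_c10 LD3_c0)) = (LP (LK LD1_c8 LD2_c37 LD3_c54)) :=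
  Lre_d IH (LK LD1_c16 LD2_c10 LD3_c0) (LK LD1_c8 LD2_c37 LD3_c54) Lrfl Lrfl
theorem f201778 : Led Lsl_ef (LP (LK LD1_c16 LD2_c10 LD3_c0)) = (LP (LK LD1_c18 LD2_c42 LD3_c34)) :=
  Lgr Lrot73 (Lpr_dt (f201775 IH) (Lpr_et (f54217 IH) (Lpr_dt (K15.f201748 IH) (Lpr_et (f201776 IH) (Lpr_dt (f201777 IH) (Lpn (LP (LK LD1_c18 LD2_c42 LD3_c34))))))))
theorem f201790 : Led Lsl_et (LP (LK LD1_c16 LD2_c10 LD3_c0)) = (LP (LK LD1_c18 LD2_c42 LD3_c34)) :=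
  Lgr Lrot87 (Lpr_ef (f201778 IH) (Lpn (LP (LK LD1_c18 LD2_c42 LD3_c34))))
theorem f31850 : Led Lsl_et (LP (LK LD1_c8 LD2_c38 LD3_c40)) = (LP (LK LD1_c4 LD2_c20 LD3_c25)) :=
  Lre_e IH (LK LD1_c8 LD2_c38 LD3_c40) (LK LD1_c4 LD2_c20 LD3_c25) Lrfl Lrfl
theorem f227357 : Led Lsl_dt (LP (LK LD1_c16 LD2_c11 LD3_c24)) = (LP (LK LD1_c8 LD2_c38 LD3_c40)) :=
  Lre_d IH (LK LD1_c16 LD2_c11 LD3_c24) (LK LD1_c8 LD2_c38 LD3_c40) Lrfl Lrfl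
theorem f227359 : Led Lsl_dt (LP (LK LD1_c15 LD2_c47 LD3_c30)) = (LP (LK LD1_c25 LD2_c44 LD3_c16)) :=
  Lre_d IH (LK LD1_c15 LD2_c47 LD3_c30) (LK LD1_c25 LD2_c44 LD3_c16) Lrfl Lrfl
theorem f227360 : Led Lsl_ef (LP (LK LD1_c16 LD2_c11 LD3_c24)) = (LP (LK LD1_c25 LD2_c44 LD3_c16)) :=
  Lgr Lrot73 (Lpr_dt (f227357 IH) (Lpr_et (f31850 IH) (Lpr_dt (K13.f227341 IH) (Lpr_et (f227358 IH) (Lpr_dt (f227359 IH) (Lpn (LP (LK LD1_c25 LD2_c44 LD3_c16))))))))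
theorem f308259 : Led Lsl_af (LP (LK LD1_c16 LD2_c10 LD3_c0)) = (LP (LK LD1_c16 LD2_c11 LD3_c24)) :=
  Lgr Lrot50 (Lpr_et (f201790 IH) (Lpr_at (f308255 IH) (Lpe (f227360 IH) (Lpn (LP (LK LD1_c16 LD2_c11 LD3_c24))))))
theorem f227375 : Led Lsl_ft (LP (LK LD1_c26 LD2_c8 LD3_c8)) = (LP (LK LD1_c16 LD2_c11 LD3_c24)) :=
  Lre_f IH (LK LD1_c26 LD2_c8 LD3_c8) (LK LD1_c16 LD2_c11 LD3_c24) Lrfl Lrfl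
theorem f31851 : Led Lsl_dt (LP (LK LD1_c8 LD2_c38 LD3_c40)) = (LP (LK LD1_c16 LD2_c11 LD3_c24)) :=
  Lre_d IH (LK LD1_c8 LD2_c38 LD3_c40) (LK LD1_c16 LD2_c11 LD3_c24) Lrfl Lrfl
theorem f224186 : Led Lsl_et (LP (LK LD1_c5 LD2_c35 LD3_c27)) = (LP (LK LD1_c2 LD2_c43 LD3_c40)) :=
  Lre_e IH (LK LD1_c5 LD2_c35 LD3_c27) (LK LD1_c2 LD2_c43 LD3_c40) Lrfl Lrfl
theorem f189421 : Led Lsl_dt (LP (LK LD1_c5 LD2_c35 LD3_c27)) = (LP (LK LD1_c11 LD2_c3 LD3_c5)) :=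
  Lre_d IH (LK LD1_c5 LD2_c35 LD3_c27) (LK LD1_c11 LD2_c3 LD3_c5) Lrfl Lrfl
theorem f234018 : Led Lsl_gt (LP (LK LD1_c16 LD2_c11 LD3_c24)) = (LP (LK LD1_c11 LD2_c3 LD3_c5)) :=
  Lgr Lrot112 (Lpe (f31851 IH) (Lpr_et (f31850 IH) (Lpe (K10.f27892 IH) (Lpr_ef (K12.f54189 IH) (Lpr_dt (K12.f53677 IH) (Lpr_gf (K13.f233933 IH) (Lpe (K13.f224178 IH) (Lpr_gf (K13.f224173 IH) (Lpe (f224186 IH) (Lpr_dt (f189421 IH) (Lpn (LP (LK LD1_c11 LD2_c3 LD3_c5)))))))))))))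
theorem f227369 : Led Lsl_ft (LP (LK LD1_c16 LD2_c11 LD3_c24)) = (LP (LK LD1_c26 LD2_c8 LD3_c8)) :=
  Lre_f IH (LK LD1_c16 LD2_c11 LD3_c24) (LK LD1_c26 LD2_c8 LD3_c8) Lrfl Lrfl
theorem f234020 : Led Lsl_gt (LP (LK LD1_c11 LD2_c3 LD3_c5)) = (LP (LK LD1_c19 LD2_c54 LD3_c44)) :=
  Lre_g IH (LK LD1_c11 LD2_c3 LD3_c5) (LK LD1_c19 LD2_c54 LD3_c44) Lrfl Lrfl
theorem f234021 : Led Lsl_at (LP (LK LD1_c26 LD2_c8 LD3_c8)) = (LP (LK LD1_c19 LD2_c54 LD3_c44)) :=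
  Lgr Lrot26 (Lpe (f227369 IH) (Lpr_gt (f234018 IH) (Lpr_gt (f234020 IH) (Lpn (LP (LK LD1_c19 LD2_c54 LD3_c44))))))
theorem f234034 : Led Lsl_af (LP (LK LD1_c26 LD2_c8 LD3_c8)) = (LP (LK LD1_c19 LD2_c54 LD3_c44)) :=
  Lgr Lrot0 (Lpr_at (f234021 IH) (Lpn (LP (LK LD1_c19 LD2_c54 LD3_c44))))
theorem f308267 : Led Lsl_ft (LP (LK LD1_c16 LD2_c10 LD3_c0)) = (LP (LK LD1_c19 LD2_c54 LD3_c44)) :=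
  Lgr Lrot101 (Lpr_af (f308259 IH) (Lpe (f227375 IH) (Lpr_af (f234034 IH) (Lpn (LP (LK LD1_c19 LD2_c54 LD3_c44))))))
theorem f54218 : Led Lsl_dt (LP (LK LD1_c8 LD2_c37 LD3_c54)) = (LP (LK LD1_c16 LD2_c10 LD3_c0)) :=
  Lre_d IH (LK LD1_c8 LD2_c37 LD3_c54) (LK LD1_c16 LD2_c10 LD3_c0) Lrfl Lrfl
theorem f308273 : Led Lsl_ft (LP (LK LD1_c16 LD2_c10 LD3_c1)) = (LP (LK LD1_c8 LD2_c37 LD3_c54)) :=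
  Lre_f IH (LK LD1_c16 LD2_c10 LD3_c1) (LK LD1_c8 LD2_c37 LD3_c54) Lrfl Lrfl
theorem f308274 : Led Lsl_df (LP (LK LD1_c16 LD2_c10 LD3_c1)) = (LP (LK LD1_c19 LD2_c54 LD3_c44)) :=
  Lgr Lrot78 (Lpr_ft (f308273 IH) (Lpr_dt (f54218 IH) (Lpr_ft (f308267 IH) (Lpn (LP (LK LD1_c19 LD2_c54 LD3_c44))))))
theorem f234039 : Led Lsl_ct (LP (LK LD1_c29 LD2_c10 LD3_c27)) = (LP (LK LD1_c19 LD2_c54 LD3_c44)) :=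
  Lre_c IH (LK LD1_c29 LD2_c10 LD3_c27) (LK LD1_c19 LD2_c54 LD3_c44) Lrfl Lrfl
theorem f255563 : Led Lsl_ct (LP (LK LD1_c4 LD2_c21 LD3_c30)) = (LP (LK LD1_c8 LD2_c40 LD3_c34)) :=
  Lre_c IH (LK LD1_c4 LD2_c21 LD3_c30) (LK LD1_c8 LD2_c40 LD3_c34) Lrfl Lrfl
theorem f255567 : Led Lsl_ct (LP (LK LD1_c16 LD2_c14 LD3_c54)) = (LP (LK LD1_c26 LD2_c12 LD3_c19)) :=
  Lre_c IH (LK LD1_c16 LD2_c14 LD3_c54) (LK LD1_c26 LD2_c12 LD3_c19) Lrfl Lrfl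
theorem f194347 : Led Lsl_et (LP (LK LD1_c4 LD2_c20 LD3_c25)) = (LP (LK LD1_c8 LD2_c38 LD3_c40)) :=
  Lre_e IH (LK LD1_c4 LD2_c20 LD3_c25) (LK LD1_c8 LD2_c38 LD3_c40) Lrfl Lrfl
theorem f194348 : Led Lsl_ct (LP (LK LD1_c8 LD2_c38 LD3_c40)) = (LP (LK LD1_c4 LD2_c20 LD3_c57)) :=
  Lgr Lrot15 (Lpe (f194347 IH) (Lpr_cf (K10.f194334 IH) (Lpe (K14.f31214 IH) (Lpn (LP (LK LD1_c4 LD2_c20 LD3_c57))))))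
theorem f255573 : Led Lsl_dt (LP (LK LD1_c26 LD2_c12 LD3_c19)) = (LP (LK LD1_c29 LD2_c10 LD3_c27)) :=
  Lgr Lrot120 (Lpe (f255567 IH) (Lpe (K16.f238731 IH) (Lpe (f255563 IH) (Lpr_df (K14.f255565 IH) (Lpe (f194348 IH) (Lpe (f227357 IH) (Lpr_ft (f227369 IH) (Lpr_at (f234021 IH) (Lpe (f234039 IH) (Lpn (LP (LK LD1_c29 LD2_c10 LD3_c27))))))))))))
theorem f305558 : Led Lsl_af (LP (LK LD1_c8 LD2_c39 LD3_c14)) = (LP (LK LD1_c8 LD2_c39 LD3_c35)) :=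
  Lgr Lrot117 (Lpr_dt (f305472 IH) (Lpe (f305533 IH) (Lpr_dt (f305555 IH) (Lpn (LP (LK LD1_c8 LD2_c39 LD3_c35))))))
theorem f308630 : Led Lsl_ct (LP (LK LD1_c16 LD2_c10 LD3_c1)) = (LP (LK LD1_c8 LD2_c39 LD3_c14)) :=
  Lgr Lrot98 (Lpr_df (f308274 IH) (Lpe (f234039 IH) (Lpe (f255573 IH) (Lpe (f255567 IH) (Lpe (K16.f238731 IH) (Lpe (f255563 IH) (Lpr_df (K14.f255565 IH) (Lpr_ft (f255575 IH) (Lpe (f305558 IH) (Lpn (LP (LK LD1_c8 LD2_c39 LD3_c14))))))))))))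
theorem f235736 : Led Lsl_gt (LP (LK LD1_c10 LD2_c37 LD3_c22)) = (LP (LK LD1_c5 LD2_c23 LD3_c26)) :=
  Lre_g IH (LK LD1_c10 LD2_c37 LD3_c22) (LK LD1_c5 LD2_c23 LD3_c26) Lrfl Lrfl
theorem f189414 : Led Lsl_gt (LP (LK LD1_c11 LD2_c3 LD3_c4)) = (LP (LK LD1_c5 LD2_c35 LD3_c27)) :=
  Lre_g IH (LK LD1_c11 LD2_c3 LD3_c4) (LK LD1_c5 LD2_c35 LD3_c27) Lrfl Lrfl
theorem f308632 : Led Lsl_ct (LP (LK LD1_c10 LD2_c37 LD3_c22)) = (LP (LK LD1_c11 LD2_c3 LD3_c4)) :=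
  Lgr Lrot8 (Lpr_gt (f235736 IH) (Lpr_dt (K14.f235679 IH) (Lpr_gt (f232210 IH) (Lpe (f305488 IH) (Lpe (f308630 IH) (Lpr_df (f308274 IH) (Lpe (f234020 IH) (Lpe (f189421 IH) (Lpe (f189414 IH) (Lpn (LP (LK LD1_c11 LD2_c3 LD3_c4))))))))))))
theorem f308636 : Led Lsl_cf (LP (LK LD1_c10 LD2_c37 LD3_c22)) = (LP (LK LD1_c11 LD2_c3 LD3_c4)) :=
  Lgr Lrot11 (Lpr_ct (f308632 IH) (Lpn (LP (LK LD1_c11 LD2_c3 LD3_c4))))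
theorem f308642 : Led Lsl_ct (LP (LK LD1_c8 LD2_c39 LD3_c14)) = (LP (LK LD1_c16 LD2_c10 LD3_c1)) :=
  Lgr Lrot7 (Lpr_df (f305488 IH) (Lpe (f232210 IH) (Lpe (K14.f235679 IH) (Lpe (f235736 IH) (Lpr_cf (f308636 IH) (Lpr_gt (f189414 IH) (Lpr_dt (f189421 IH) (Lpr_gt (f234020 IH) (Lpe (f308274 IH) (Lpn (LP (LK LD1_c16 LD2_c10 LD3_c1))))))))))))
theorem f308276 : Led Lsl_ff (LP (LK LD1_c16 LD2_c10 LD3_c0)) = (LP (LK LD1_c19 LD2_c54 LD3_c44)) :=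
  Lgr Lrot3 (Lpr_ft (f308267 IH) (Lpn (LP (LK LD1_c19 LD2_c54 LD3_c44))))
theorem f308282 : Led Lsl_ft (LP (LK LD1_c8 LD2_c37 LD3_c54)) = (LP (LK LD1_c16 LD2_c10 LD3_c1)) :=
  Lre_f IH (LK LD1_c8 LD2_c37 LD3_c54) (LK LD1_c16 LD2_c10 LD3_c1) Lrfl Lrfl
theorem f308283 : Led Lsl_dt (LP (LK LD1_c16 LD2_c10 LD3_c1)) = (LP (LK LD1_c19 LD2_c54 LD3_c44)) :=
  Lgr Lrot60 (Lpe (f308282 IH) (Lpe (f201775 IH) (Lpr_ff (f308276 IH) (Lpn (LP (LK LD1_c19 LD2_c54 LD3_c44))))))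
theorem f234041 : Led Lsl_dt (LP (LK LD1_c26 LD2_c8 LD3_c8)) = (LP (LK LD1_c16 LD2_c11 LD3_c25)) :=
  Lre_d IH (LK LD1_c26 LD2_c8 LD3_c8) (LK LD1_c16 LD2_c11 LD3_c25) Lrfl Lrfl
theorem f308300 : Led Lsl_af (LP (LK LD1_c16 LD2_c10 LD3_c1)) = (LP (LK LD1_c16 LD2_c11 LD3_c25)) :=
  Lgr Lrot117 (Lpr_dt (f308283 IH) (Lpe (f234034 IH) (Lpr_dt (f234041 IH) (Lpn (LP (LK LD1_c16 LD2_c11 LD3_c25))))))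
theorem f308302 : Led Lsl_at (LP (LK LD1_c16 LD2_c10 LD3_c1)) = (LP (LK LD1_c16 LD2_c11 LD3_c25)) :=
  Lgr Lrot100 (Lpr_af (f308300 IH) (Lpn (LP (LK LD1_c16 LD2_c11 LD3_c25))))
theorem f308645 : Led Lsl_cf (LP (LK LD1_c8 LD2_c39 LD3_c35)) = (LP (LK LD1_c16 LD2_c11 LD3_c25)) :=
  Lgr Lrot1 (Lpe (f305558 IH) (Lpr_ct (f308642 IH) (Lpr_at (f308302 IH) (Lpn (LP (LK LD1_c16 LD2_c11 LD3_c25))))))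
theorem f305547 : Led Lsl_cf (LP (LK LD1_c8 LD2_c40 LD3_c17)) = (LP (LK LD1_c9 LD2_c34 LD3_c61)) :=
  Lgr Lrot108 (Lpr_ft (f305543 IH) (Lpr_ct (f255563 IH) (Lpr_ft (K16.f269543 IH) (Lpn (LP (LK LD1_c9 LD2_c34 LD3_c61))))))
theorem f238096 : Led Lsl_ct (LP (LK LD1_c2 LD2_c23 LD3_c35)) = (LP (LK LD1_c4 LD2_c51 LD3_c28)) :=
  Lre_c IH (LK LD1_c2 LD2_c23 LD3_c35) (LK LD1_c4 LD2_c51 LD3_c28) Lrfl Lrfl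
theorem f2456 : Led Lsl_gt (LP (LK LD1_c4 LD2_c51 LD3_c29)) = (LP (LK LD1_c2 LD2_c23 LD3_c35)) :=
  Lre_g IH (LK LD1_c4 LD2_c51 LD3_c29) (LK LD1_c2 LD2_c23 LD3_c35) Lrfl Lrfl
theorem f212548 : Led Lsl_et (LP (LK LD1_c4 LD2_c31 LD3_c22)) = (LP (LK LD1_c2 LD2_c12 LD3_c39)) :=
  Lre_e IH (LK LD1_c4 LD2_c31 LD3_c22) (LK LD1_c2 LD2_c12 LD3_c39) Lrfl Lrfl
theorem f54040 : Led Lsl_ef (LP (LK LD1_c1 LD2_c0 LD3_c47)) = (LP (LK LD1_c1 LD2_c11 LD3_c13)) :=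
  Lgr Lrot29 (Lpe (K11.f33028 IH) (Lpr_et (K9.f54035 IH) (Lpr_bt (K13.f53618 IH) (Lpn (LP (LK LD1_c1 LD2_c11 LD3_c13))))))
theorem f54511 : Led Lsl_et (LP (LK LD1_c4 LD2_c19 LD3_c57)) = (LP (LK LD1_c2 LD2_c7 LD3_c27)) :=
  Lre_e IH (LK LD1_c4 LD2_c19 LD3_c57) (LK LD1_c2 LD2_c7 LD3_c27) Lrfl Lrfl
theorem f238116 : Led Lsl_dt (LP (LK LD1_c4 LD2_c19 LD3_c57)) = (LP (LK LD1_c4 LD2_c51 LD3_c29)) :=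
  Lgr Lrot136 (Lpr_et (f54511 IH) (Lpe (K13.f50780 IH) (Lpr_ef (f54040 IH) (Lpr_dt (K9.f33294 IH) (Lpr_gf (K12.f212506 IH) (Lpe (K12.f177911 IH) (Lpe (K15.f177914 IH) (Lpe (f212548 IH) (Lpr_dt (K15.f238082 IH) (Lpe (f2456 IH) (Lpn (LP (LK LD1_c4 LD2_c51 LD3_c29)))))))))))))
theorem f238136 : Led Lsl_df (LP (LK LD1_c4 LD2_c19 LD3_c57)) = (LP (LK LD1_c4 LD2_c51 LD3_c29)) :=
  Lgr Lrot38 (Lpr_dt (f238116 IH) (Lpn (LP (LK LD1_c4 LD2_c51 LD3_c29))))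
theorem f190026 : Led Lsl_gt (LP (LK LD1_c4 LD2_c19 LD3_c57)) = (LP (LK LD1_c8 LD2_c37 LD3_c50)) :=
  Lre_g IH (LK LD1_c4 LD2_c19 LD3_c57) (LK LD1_c8 LD2_c37 LD3_c50) Lrfl Lrfl
theorem f190032 : Led Lsl_ct (LP (LK LD1_c8 LD2_c37 LD3_c50)) = (LP (LK LD1_c16 LD2_c9 LD3_c55)) :=
  Lre_c IH (LK LD1_c8 LD2_c37 LD3_c50) (LK LD1_c16 LD2_c9 LD3_c55) Lrfl Lrfl
theorem f308714 : Led Lsl_gt (LP (LK LD1_c16 LD2_c9 LD3_c55)) = (LP (LK LD1_c16 LD2_c11 LD3_c25)) :=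
  Lgr Lrot150 (Lpe (f190032 IH) (Lpe (f190026 IH) (Lpr_df (f238136 IH) (Lpr_gt (f2456 IH) (Lpr_ct (f238096 IH) (Lpr_gt (K16.f233161 IH) (Lpe (f305547 IH) (Lpr_df (f305549 IH) (Lpr_cf (f308645 IH) (Lpn (LP (LK LD1_c16 LD2_c11 LD3_c25))))))))))))
theorem f189997 : Led Lsl_et (LP (LK LD1_c2 LD2_c7 LD3_c27)) = (LP (LK LD1_c4 LD2_c19 LD3_c57)) :=
  Lre_e IH (LK LD1_c2 LD2_c7 LD3_c27) (LK LD1_c4 LD2_c19 LD3_c57) Lrfl Lrfl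
theorem f189998 : Led Lsl_bf (LP (LK LD1_c4 LD2_c14 LD3_c22)) = (LP (LK LD1_c4 LD2_c19 LD3_c57)) :=
  Lgr Lrot96 (Lpr_et (K13.f189996 IH) (Lpr_bt (K13.f189986 IH) (Lpr_et (f189997 IH) (Lpn (LP (LK LD1_c4 LD2_c19 LD3_c57))))))
theorem f190000 : Led Lsl_bt (LP (LK LD1_c4 LD2_c14 LD3_c22)) = (LP (LK LD1_c4 LD2_c19 LD3_c57)) :=
  Lgr Lrot127 (Lpr_bf (f189998 IH) (Lpn (LP (LK LD1_c4 LD2_c19 LD3_c57))))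
theorem f308712 : Led Lsl_ct (LP (LK LD1_c8 LD2_c39 LD3_c35)) = (LP (LK LD1_c16 LD2_c11 LD3_c25)) :=
  Lgr Lrot59 (Lpr_cf (f308645 IH) (Lpn (LP (LK LD1_c16 LD2_c11 LD3_c25))))
theorem f305545 : Led Lsl_bf (LP (LK LD1_c8 LD2_c40 LD3_c17)) = (LP (LK LD1_c8 LD2_c30 LD3_c51)) :=
  Lgr Lrot61 (Lpr_ft (f305543 IH) (Lpe (K15.f267143 IH) (Lpr_ft (K17.f284489 IH) (Lpn (LP (LK LD1_c8 LD2_c30 LD3_c51))))))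
theorem f305560 : Led Lsl_bf (LP (LK LD1_c15 LD2_c32 LD3_c2)) = (LP (LK LD1_c8 LD2_c39 LD3_c35)) :=
  Lgr Lrot93 (Lpr_dt (K18.f284485 IH) (Lpe (f305545 IH) (Lpr_dt (f305555 IH) (Lpn (LP (LK LD1_c8 LD2_c39 LD3_c35))))))
theorem f308722 : Led Lsl_bt (LP (LK LD1_c15 LD2_c9 LD3_c3)) = (LP (LK LD1_c10 LD2_c33 LD3_c43)) :=
  Lgr Lrot92 (Lpr_ct (f228280 IH) (Lpr_gt (f190031 IH) (Lpe (K18.f190002 IH) (Lpr_bt (f190000 IH) (Lpr_gt (f190026 IH) (Lpr_ct (f190032 IH) (Lpr_gt (f308714 IH) (Lpe (f308712 IH) (Lpe (f305560 IH) (Lpr_gt (K17.f284479 IH) (Lpn (LP (LK LD1_c10 LD2_c33 LD3_c43)))))))))))))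
theorem f276726 : Led Lsl_dt (LP (LK LD1_c10 LD2_c33 LD3_c43)) = (LP (LK LD1_c16 LD2_c14 LD3_c17)) :=
  Lgr Lrot42 (Lpr_df (K17.f276724 IH) (Lpn (LP (LK LD1_c16 LD2_c14 LD3_c17))))
theorem f308726 : Led Lsl_bf (LP (LK LD1_c8 LD2_c42 LD3_c32)) = (LP (LK LD1_c16 LD2_c14 LD3_c17)) :=
  Lgr Lrot93 (Lpr_dt (K13.f236462 IH) (Lpr_bt (f308722 IH) (Lpr_dt (f276726 IH) (Lpn (LP (LK LD1_c16 LD2_c14 LD3_c17))))))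
theorem f270719 : Led Lsl_et (LP (LK LD1_c8 LD2_c40 LD3_c13)) = (LP (LK LD1_c16 LD2_c14 LD3_c17)) :=
  Lre_e IH (LK LD1_c8 LD2_c40 LD3_c13) (LK LD1_c16 LD2_c14 LD3_c17) Lrfl Lrfl
theorem f308736 : Led Lsl_bt (LP (LK LD1_c4 LD2_c22 LD3_c16)) = (LP (LK LD1_c8 LD2_c40 LD3_c13)) :=
  Lgr Lrot119 (Lpe (K13.f39158 IH) (Lpr_bf (f308726 IH) (Lpe (f270719 IH) (Lpn (LP (LK LD1_c8 LD2_c40 LD3_c13))))))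
theorem f39154 : Led Lsl_ct (LP (LK LD1_c4 LD2_c22 LD3_c16)) = (LP (LK LD1_c8 LD2_c42 LD3_c30)) :=
  Lre_c IH (LK LD1_c4 LD2_c22 LD3_c16) (LK LD1_c8 LD2_c42 LD3_c30) Lrfl Lrfl
theorem f219757 : Led Lsl_bf (LP (LK LD1_c4 LD2_c9 LD3_c61)) = (LP (LK LD1_c8 LD2_c17 LD3_c54)) :=
  Lgr Lrot24 (Lpr_bt (K17.f219753 IH) (Lpn (LP (LK LD1_c8 LD2_c17 LD3_c54))))
theorem f270705 : Led Lsl_bt (LP (LK LD1_c4 LD2_c16 LD3_c43)) = (LP (LK LD1_c8 LD2_c21 LD3_c11)) :=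
  Lgr Lrot35 (Lpr_ff (K16.f232744 IH) (Lpr_bf (f219757 IH) (Lpr_ff (K17.f270682 IH) (Lpn (LP (LK LD1_c8 LD2_c21 LD3_c11))))))
theorem f232827 : Led Lsl_gt (LP (LK LD1_c8 LD2_c32 LD3_c43)) = (LP (LK LD1_c16 LD2_c2 LD3_c38)) :=
  Lre_g IH (LK LD1_c8 LD2_c32 LD3_c43) (LK LD1_c16 LD2_c2 LD3_c38) Lrfl Lrfl
theorem f39104 : Led Lsl_gt (LP (LK LD1_c3 LD2_c57 LD3_c10)) = (LP (LK LD1_c7 LD2_c56 LD3_c1)) :=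
  Lre_g IH (LK LD1_c3 LD2_c57 LD3_c10) (LK LD1_c7 LD2_c56 LD3_c1) Lrfl Lrfl
theorem f39105 : Led Lsl_gt (LP (LK LD1_c7 LD2_c56 LD3_c1)) = (LP (LK LD1_c4 LD2_c21 LD3_c28)) :=
  Lgr Lrot46 (Lpe (f39104 IH) (Lpr_ft (K1.f39100 IH) (Lpr_at (K1.f39095 IH) (Lpn (LP (LK LD1_c4 LD2_c21 LD3_c28))))))
theorem f39115 : Led Lsl_et (LP (LK LD1_c14 LD2_c58 LD3_c6)) = (LP (LK LD1_c7 LD2_c56 LD3_c1)) :=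
  Lre_e IH (LK LD1_c14 LD2_c58 LD3_c6) (LK LD1_c7 LD2_c56 LD3_c1) Lrfl Lrfl
theorem f279506 : Led Lsl_af (LP (LK LD1_c8 LD2_c41 LD3_c6)) = (LP (LK LD1_c10 LD2_c37 LD3_c34)) :=
  Lgr Lrot0 (Lpr_at (K18.f279504 IH) (Lpn (LP (LK LD1_c10 LD2_c37 LD3_c34))))
theorem f279514 : Led Lsl_gf (LP (LK LD1_c8 LD2_c41 LD3_c6)) = (LP (LK LD1_c10 LD2_c37 LD3_c32)) :=
  Lgr Lrot76 (Lpr_af (f279506 IH) (Lpe (K18.f255768 IH) (Lpr_gt (K14.f235742 IH) (Lpn (LP (LK LD1_c10 LD2_c37 LD3_c32))))))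
theorem f39109 : Led Lsl_dt (LP (LK LD1_c14 LD2_c58 LD3_c5)) = (LP (LK LD1_c7 LD2_c56 LD3_c1)) :=
  Lre_d IH (LK LD1_c14 LD2_c58 LD3_c5) (LK LD1_c7 LD2_c56 LD3_c1) Lrfl Lrfl
theorem f279516 : Led Lsl_et (LP (LK LD1_c14 LD2_c58 LD3_c5)) = (LP (LK LD1_c10 LD2_c37 LD3_c32)) :=
  Lgr Lrot121 (Lpr_dt (f39109 IH) (Lpe (f39104 IH) (Lpe (K9.f42906 IH) (Lpr_et (K9.f39122 IH) (Lpr_gf (K12.f39168 IH) (Lpe (K14.f42919 IH) (Lpr_dt (K14.f42920 IH) (Lpe (K17.f42921 IH) (Lpe (K17.f43123 IH) (Lpr_gf (f279514 IH) (Lpn (LP (LK LD1_c10 LD2_c37 LD3_c32)))))))))))))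
theorem f279520 : Led Lsl_ef (LP (LK LD1_c14 LD2_c58 LD3_c5)) = (LP (LK LD1_c10 LD2_c37 LD3_c32)) :=
  Lgr Lrot88 (Lpr_et (f279516 IH) (Lpn (LP (LK LD1_c10 LD2_c37 LD3_c32))))
theorem f232405 : Led Lsl_et (LP (LK LD1_c7 LD2_c56 LD3_c1)) = (LP (LK LD1_c14 LD2_c58 LD3_c6)) :=
  Lre_e IH (LK LD1_c7 LD2_c56 LD3_c1) (LK LD1_c14 LD2_c58 LD3_c6) Lrfl Lrfl
theorem f255588 : Led Lsl_et (LP (LK LD1_c8 LD2_c39 LD3_c34)) = (LP (LK LD1_c16 LD2_c13 LD3_c3)) :=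
  Lre_e IH (LK LD1_c8 LD2_c39 LD3_c34) (LK LD1_c16 LD2_c13 LD3_c3) Lrfl Lrfl
theorem f279523 : Led Lsl_dt (LP (LK LD1_c14 LD2_c58 LD3_c6)) = (LP (LK LD1_c8 LD2_c39 LD3_c34)) :=
  Lgr Lrot77 (Lpe (f232405 IH) (Lpe (f39109 IH) (Lpr_ef (f279520 IH) (Lpr_df (K14.f255584 IH) (Lpe (f255588 IH) (Lpn (LP (LK LD1_c8 LD2_c39 LD3_c34))))))))
theorem f305496 : Led Lsl_gt (LP (LK LD1_c8 LD2_c39 LD3_c14)) = (LP (LK LD1_c8 LD2_c39 LD3_c34)) :=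
  Lgr Lrot139 (Lpr_df (f305488 IH) (Lpe (f232210 IH) (Lpe (K14.f232209 IH) (Lpr_dt (K13.f2082 IH) (Lpr_gf (K13.f232156 IH) (Lpe (K13.f29140 IH) (Lpr_et (K13.f39116 IH) (Lpe (f39105 IH) (Lpe (f39115 IH) (Lpr_dt (f279523 IH) (Lpn (LP (LK LD1_c8 LD2_c39 LD3_c34)))))))))))))
theorem f235737 : Led Lsl_ct (LP (LK LD1_c9 LD2_c34 LD3_c52)) = (LP (LK LD1_c4 LD2_c51 LD3_c25)) :=
  Lre_c IH (LK LD1_c9 LD2_c34 LD3_c52) (LK LD1_c4 LD2_c51 LD3_c25) Lrfl Lrfl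
theorem f301711 : Led Lsl_ft (LP (LK LD1_c1 LD2_c0 LD3_c41)) = (LP (LK LD1_c2 LD2_c7 LD3_c21)) :=
  Lre_f IH (LK LD1_c1 LD2_c0 LD3_c41) (LK LD1_c2 LD2_c7 LD3_c21) Lrfl Lrfl
theorem f179589 : Led Lsl_gt (LP (LK LD1_c1 LD2_c0 LD3_c41)) = (LP (LK LD1_c2 LD2_c7 LD3_c19)) :=
  Lre_g IH (LK LD1_c1 LD2_c0 LD3_c41) (LK LD1_c2 LD2_c7 LD3_c19) Lrfl Lrfl
theorem f304997 : Led Lsl_gf (LP (LK LD1_c2 LD2_c3 LD3_c58)) = (LP (LK LD1_c2 LD2_c7 LD3_c19)) :=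
  Lgr Lrot76 (Lpr_af (f304989 IH) (Lpe (f301711 IH) (Lpr_gt (f179589 IH) (Lpn (LP (LK LD1_c2 LD2_c7 LD3_c19))))))
theorem f267175 : Led Lsl_ct (LP (LK LD1_c8 LD2_c17 LD3_c59)) = (LP (LK LD1_c8 LD2_c37 LD3_c22)) :=
  Lgr Lrot15 (Lpe (K15.f267149 IH) (Lpr_cf (K15.f267166 IH) (Lpe (K17.f267138 IH) (Lpn (LP (LK LD1_c8 LD2_c37 LD3_c22))))))
theorem f235732 : Led Lsl_ct (LP (LK LD1_c4 LD2_c51 LD3_c25)) = (LP (LK LD1_c9 LD2_c34 LD3_c52)) :=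
  Lre_c IH (LK LD1_c4 LD2_c51 LD3_c25) (LK LD1_c9 LD2_c34 LD3_c52) Lrfl Lrfl
theorem f304999 : Led Lsl_bt (LP (LK LD1_c4 LD2_c19 LD3_c45)) = (LP (LK LD1_c2 LD2_c7 LD3_c19)) :=
  Lre_b IH (LK LD1_c4 LD2_c19 LD3_c45) (LK LD1_c2 LD2_c7 LD3_c19) Lrfl Lrfl
theorem f305002 : Led Lsl_ct (LP (LK LD1_c4 LD2_c19 LD3_c45)) = (LP (LK LD1_c8 LD2_c37 LD3_c39)) :=
  Lre_c IH (LK LD1_c4 LD2_c19 LD3_c45) (LK LD1_c8 LD2_c37 LD3_c39) Lrfl Lrfl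
theorem f305003 : Led Lsl_gt (LP (LK LD1_c9 LD2_c34 LD3_c52)) = (LP (LK LD1_c8 LD2_c37 LD3_c39)) :=
  Lgr Lrot149 (Lpe (f235732 IH) (Lpe (K14.f255553 IH) (Lpe (K15.f267145 IH) (Lpr_ct (f267175 IH) (Lpr_gf (K17.f287802 IH) (Lpe (K17.f228863 IH) (Lpr_bt (K17.f228860 IH) (Lpr_gf (f304997 IH) (Lpe (f304999 IH) (Lpr_ct (f305002 IH) (Lpn (LP (LK LD1_c8 LD2_c37 LD3_c39)))))))))))))
theorem f305009 : Led Lsl_dt (LP (LK LD1_c8 LD2_c37 LD3_c39)) = (LP (LK LD1_c16 LD2_c9 LD3_c42)) :=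
  Lre_d IH (LK LD1_c8 LD2_c37 LD3_c39) (LK LD1_c16 LD2_c9 LD3_c42) Lrfl Lrfl
theorem f305010 : Led Lsl_gt (LP (LK LD1_c16 LD2_c9 LD3_c42)) = (LP (LK LD1_c26 LD2_c6 LD3_c26)) :=
  Lre_g IH (LK LD1_c16 LD2_c9 LD3_c42) (LK LD1_c26 LD2_c6 LD3_c26) Lrfl Lrfl
theorem f233207 : Led Lsl_et (LP (LK LD1_c4 LD2_c51 LD3_c24)) = (LP (LK LD1_c9 LD2_c34 LD3_c52)) :=
  Lre_e IH (LK LD1_c4 LD2_c51 LD3_c24) (LK LD1_c9 LD2_c34 LD3_c52) Lrfl Lrfl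
theorem f1583 : Led Lsl_at (LP (LK LD1_c4 LD2_c52 LD3_c3)) = (LP (LK LD1_c9 LD2_c34 LD3_c4)) :=
  Lre_a IH (LK LD1_c4 LD2_c52 LD3_c3) (LK LD1_c9 LD2_c34 LD3_c4) Lrfl Lrfl
theorem f2479 : Led Lsl_gt (LP (LK LD1_c4 LD2_c53 LD3_c16)) = (LP (LK LD1_c9 LD2_c38 LD3_c33)) :=
  Lre_g IH (LK LD1_c4 LD2_c53 LD3_c16) (LK LD1_c9 LD2_c38 LD3_c33) Lrfl Lrfl
theorem f2480 : Led Lsl_gf (LP (LK LD1_c9 LD2_c34 LD3_c4)) = (LP (LK LD1_c9 LD2_c38 LD3_c33)) :=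
  Lgr Lrot76 (Lpe (f1583 IH) (Lpr_ff (K1.f2469 IH) (Lpr_gt (f2479 IH) (Lpn (LP (LK LD1_c9 LD2_c38 LD3_c33))))))
theorem f2485 : Led Lsl_et (LP (LK LD1_c17 LD2_c44 LD3_c49)) = (LP (LK LD1_c9 LD2_c38 LD3_c33)) :=
  Lre_e IH (LK LD1_c17 LD2_c44 LD3_c49) (LK LD1_c9 LD2_c38 LD3_c33) Lrfl Lrfl
theorem f305019 : Led Lsl_dt (LP (LK LD1_c17 LD2_c44 LD3_c49)) = (LP (LK LD1_c26 LD2_c6 LD3_c26)) :=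
  Lgr Lrot56 (Lpr_et (f2485 IH) (Lpe (f2480 IH) (Lpe (K1.f1817 IH) (Lpe (K13.f1787 IH) (Lpr_gt (K13.f1795 IH) (Lpr_df (K13.f233205 IH) (Lpr_et (f233207 IH) (Lpr_gt (f305003 IH) (Lpr_dt (f305009 IH) (Lpr_gt (f305010 IH) (Lpn (LP (LK LD1_c26 LD2_c6 LD3_c26)))))))))))))
theorem f305021 : Led Lsl_df (LP (LK LD1_c17 LD2_c44 LD3_c49)) = (LP (LK LD1_c26 LD2_c6 LD3_c26)) :=
  Lgr Lrot38 (Lpr_dt (f305019 IH) (Lpn (LP (LK LD1_c26 LD2_c6 LD3_c26))))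
theorem f39110 : Led Lsl_dt (LP (LK LD1_c7 LD2_c56 LD3_c1)) = (LP (LK LD1_c14 LD2_c58 LD3_c5)) :=
  Lre_d IH (LK LD1_c7 LD2_c56 LD3_c1) (LK LD1_c14 LD2_c58 LD3_c5) Lrfl Lrfl
theorem f279518 : Led Lsl_df (LP (LK LD1_c14 LD2_c58 LD3_c6)) = (LP (LK LD1_c8 LD2_c39 LD3_c34)) :=
  Lgr Lrot70 (Lpr_et (f39115 IH) (Lpr_dt (f39110 IH) (Lpr_et (f279516 IH) (Lpr_dt (K14.f255586 IH) (Lpr_et (K14.f255583 IH) (Lpn (LP (LK LD1_c8 LD2_c39 LD3_c34))))))))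
theorem f305500 : Led Lsl_cf (LP (LK LD1_c17 LD2_c44 LD3_c49)) = (LP (LK LD1_c14 LD2_c58 LD3_c6)) :=
  Lgr Lrot14 (Lpr_df (f305021 IH) (Lpe (f305010 IH) (Lpe (f305009 IH) (Lpe (f305003 IH) (Lpr_ct (f235737 IH) (Lpr_gt (f232210 IH) (Lpe (f305488 IH) (Lpr_gt (f305496 IH) (Lpe (f279518 IH) (Lpn (LP (LK LD1_c14 LD2_c58 LD3_c6))))))))))))
theorem f305508 : Led Lsl_ct (LP (LK LD1_c9 LD2_c38 LD3_c33)) = (LP (LK LD1_c7 LD2_c56 LD3_c1)) :=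
  Lgr Lrot15 (Lpe (f2485 IH) (Lpr_cf (f305500 IH) (Lpe (f232405 IH) (Lpn (LP (LK LD1_c7 LD2_c56 LD3_c1))))))
theorem f305511 : Led Lsl_cf (LP (LK LD1_c9 LD2_c38 LD3_c33)) = (LP (LK LD1_c7 LD2_c56 LD3_c1)) :=
  Lgr Lrot11 (Lpr_ct (f305508 IH) (Lpn (LP (LK LD1_c7 LD2_c56 LD3_c1))))
theorem f1576 : Led Lsl_ct (LP (LK LD1_c4 LD2_c50 LD3_c61)) = (LP (LK LD1_c9 LD2_c34 LD3_c4)) :=
  Lre_c IH (LK LD1_c4 LD2_c50 LD3_c61) (LK LD1_c9 LD2_c34 LD3_c4) Lrfl Lrfl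
theorem f29200 : Led Lsl_ct (LP (LK LD1_c8 LD2_c1 LD3_c40)) = (LP (LK LD1_c4 LD2_c0 LD3_c21)) :=
  Lre_c IH (LK LD1_c8 LD2_c1 LD3_c40) (LK LD1_c4 LD2_c0 LD3_c21) Lrfl Lrfl
theorem f29781 : Led Lsl_ft (LP (LK LD1_c4 LD2_c0 LD3_c21)) = (LP (LK LD1_c4 LD2_c50 LD3_c61)) :=
  Lgr Lrot4 (Lpe (f29200 IH) (Lpr_ff (K1.f29777 IH) (Lpe (f1576 IH) (Lpn (LP (LK LD1_c4 LD2_c50 LD3_c61))))))
theorem f30655 : Led Lsl_gt (LP (LK LD1_c4 LD2_c0 LD3_c21)) = (LP (LK LD1_c4 LD2_c52 LD3_c5)) :=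
  Lgr Lrot5 (Lpr_ft (f29781 IH) (Lpr_at (K0.f1542 IH) (Lpe (K18.f1557 IH) (Lpn (LP (LK LD1_c4 LD2_c52 LD3_c5))))))
theorem f1568 : Led Lsl_bt (LP (LK LD1_c9 LD2_c36 LD3_c30)) = (LP (LK LD1_c4 LD2_c52 LD3_c5)) :=
  Lre_b IH (LK LD1_c9 LD2_c36 LD3_c30) (LK LD1_c4 LD2_c52 LD3_c5) Lrfl Lrfl
theorem f199793 : Led Lsl_et (LP (LK LD1_c8 LD2_c33 LD3_c37)) = (LP (LK LD1_c4 LD2_c17 LD3_c12)) :=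
  Lre_e IH (LK LD1_c8 LD2_c33 LD3_c37) (LK LD1_c4 LD2_c17 LD3_c12) Lrfl Lrfl
theorem f184482 : Led Lsl_et (LP (LK LD1_c4 LD2_c9 LD3_c60)) = (LP (LK LD1_c8 LD2_c20 LD3_c13)) :=
  Lre_e IH (LK LD1_c4 LD2_c9 LD3_c60) (LK LD1_c8 LD2_c20 LD3_c13) Lrfl Lrfl
theorem f219140 : Led Lsl_af (LP (LK LD1_c8 LD2_c33 LD3_c37)) = (LP (LK LD1_c8 LD2_c20 LD3_c13)) :=
  Lgr Lrot50 (Lpr_et (f199793 IH) (Lpr_at (K12.f219129 IH) (Lpr_et (f184482 IH) (Lpn (LP (LK LD1_c8 LD2_c20 LD3_c13))))))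
theorem f232758 : Led Lsl_ft (LP (LK LD1_c8 LD2_c32 LD3_c43)) = (LP (LK LD1_c8 LD2_c20 LD3_c13)) :=
  Lgr Lrot142 (Lpr_dt (K13.f232716 IH) (Lpr_ct (K13.f232717 IH) (Lpr_dt (K13.f232748 IH) (Lpr_ct (K13.f199847 IH) (Lpr_dt (K13.f199845 IH) (Lpr_ct (K11.f199839 IH) (Lpr_dt (K13.f199843 IH) (Lpr_ct (K13.f199846 IH) (Lpr_af (f219140 IH) (Lpn (LP (LK LD1_c8 LD2_c20 LD3_c13))))))))))))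
theorem f232839 : Led Lsl_gt (LP (LK LD1_c16 LD2_c2 LD3_c38)) = (LP (LK LD1_c8 LD2_c33 LD3_c37)) :=
  Lgr Lrot46 (Lpe (f232827 IH) (Lpr_ft (f232758 IH) (Lpe (f219140 IH) (Lpn (LP (LK LD1_c8 LD2_c33 LD3_c37))))))
theorem f305523 : Led Lsl_ct (LP (LK LD1_c9 LD2_c36 LD3_c30)) = (LP (LK LD1_c16 LD2_c2 LD3_c38)) :=
  Lgr Lrot64 (Lpr_bt (f1568 IH) (Lpe (f30655 IH) (Lpr_bf (K9.f29801 IH) (Lpr_ct (f1576 IH) (Lpr_gf (f2480 IH) (Lpr_cf (f305511 IH) (Lpe (f39104 IH) (Lpr_bf (K11.f199829 IH) (Lpr_ct (K13.f199846 IH) (Lpe (f232839 IH) (Lpn (LP (LK LD1_c16 LD2_c2 LD3_c38)))))))))))))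
theorem f308743 : Led Lsl_gf (LP (LK LD1_c8 LD2_c42 LD3_c30)) = (LP (LK LD1_c4 LD2_c52 LD3_c3)) :=
  Lgr Lrot129 (Lpe (f39154 IH) (Lpr_bt (f308736 IH) (Lpr_gt (K17.f270715 IH) (Lpe (f270705 IH) (Lpr_ct (K13.f232715 IH) (Lpr_gt (f232827 IH) (Lpe (f305523 IH) (Lpr_bt (f1568 IH) (Lpr_gt (K18.f1557 IH) (Lpr_ct (K1.f1545 IH) (Lpn (LP (LK LD1_c4 LD2_c52 LD3_c3)))))))))))))
theorem f308747 : Led Lsl_gt (LP (LK LD1_c8 LD2_c42 LD3_c30)) = (LP (LK LD1_c8 LD2_c1 LD3_c40)) :=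
  Lgr Lrot46 (Lpr_gf (f308743 IH) (Lpr_ft (K1.f2459 IH) (Lpe (K1.f29788 IH) (Lpn (LP (LK LD1_c8 LD2_c1 LD3_c40))))))
theorem f39562 : Led Lsl_gt (LP (LK LD1_c8 LD2_c42 LD3_c25)) = (LP (LK LD1_c4 LD2_c22 LD3_c14)) :=
  Lre_g IH (LK LD1_c8 LD2_c42 LD3_c25) (LK LD1_c4 LD2_c22 LD3_c14) Lrfl Lrfl
theorem f29803 : Led Lsl_bt (LP (LK LD1_c4 LD2_c0 LD3_c21)) = (LP (LK LD1_c4 LD2_c50 LD3_c61)) :=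
  Lgr Lrot127 (Lpr_bf (K9.f29801 IH) (Lpn (LP (LK LD1_c4 LD2_c50 LD3_c61))))
theorem f2414 : Led Lsl_gt (LP (LK LD1_c4 LD2_c53 LD3_c18)) = (LP (LK LD1_c2 LD2_c24 LD3_c26)) :=
  Lre_g IH (LK LD1_c4 LD2_c53 LD3_c18) (LK LD1_c2 LD2_c24 LD3_c26) Lrfl Lrfl
theorem f29795 : Led Lsl_gf (LP (LK LD1_c4 LD2_c53 LD3_c18)) = (LP (LK LD1_c4 LD2_c50 LD3_c61)) :=
  Lgr Lrot47 (Lpr_gt (f2414 IH) (Lpe (K9.f29792 IH) (Lpr_ff (K9.f29790 IH) (Lpn (LP (LK LD1_c4 LD2_c50 LD3_c61))))))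
theorem f308756 : Led Lsl_cf (LP (LK LD1_c8 LD2_c42 LD3_c25)) = (LP (LK LD1_c4 LD2_c53 LD3_c18)) :=
  Lgr Lrot125 (Lpr_gt (f39562 IH) (Lpe (K13.f39136 IH) (Lpr_bt (K16.f39135 IH) (Lpr_gt (K17.f43080 IH) (Lpe (f308736 IH) (Lpr_ct (f39154 IH) (Lpr_gt (f308747 IH) (Lpe (K9.f29202 IH) (Lpr_bt (f29803 IH) (Lpe (f29795 IH) (Lpn (LP (LK LD1_c4 LD2_c53 LD3_c18)))))))))))))
theorem f39589 : Led Lsl_gt (LP (LK LD1_c8 LD2_c42 LD3_c26)) = (LP (LK LD1_c16 LD2_c18 LD3_c49)) :=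
  Lre_g IH (LK LD1_c8 LD2_c42 LD3_c26) (LK LD1_c16 LD2_c18 LD3_c49) Lrfl Lrfl
theorem f2415 : Led Lsl_gt (LP (LK LD1_c2 LD2_c24 LD3_c26)) = (LP (LK LD1_c4 LD2_c53 LD3_c17)) :=
  Lre_g IH (LK LD1_c2 LD2_c24 LD3_c26) (LK LD1_c4 LD2_c53 LD3_c17) Lrfl Lrfl
theorem f2416 : Led Lsl_dt (LP (LK LD1_c4 LD2_c53 LD3_c17)) = (LP (LK LD1_c9 LD2_c38 LD3_c37)) :=
  Lre_d IH (LK LD1_c4 LD2_c53 LD3_c17) (LK LD1_c9 LD2_c38 LD3_c37) Lrfl Lrfl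
theorem f2417 : Led Lsl_ct (LP (LK LD1_c17 LD2_c44 LD3_c56)) = (LP (LK LD1_c9 LD2_c38 LD3_c37)) :=
  Lre_c IH (LK LD1_c17 LD2_c44 LD3_c56) (LK LD1_c9 LD2_c38 LD3_c37) Lrfl Lrfl
theorem f308764 : Led Lsl_dt (LP (LK LD1_c16 LD2_c18 LD3_c49)) = (LP (LK LD1_c17 LD2_c44 LD3_c56)) :=
  Lgr Lrot105 (Lpe (f39589 IH) (Lpe (K13.f39560 IH) (Lpe (f39562 IH) (Lpr_cf (f308756 IH) (Lpr_gt (f2414 IH) (Lpr_dt (K0.f2396 IH) (Lpr_gt (f2415 IH) (Lpr_dt (f2416 IH) (Lpe (f2417 IH) (Lpn (LP (LK LD1_c17 LD2_c44 LD3_c56))))))))))))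
theorem f308767 : Led Lsl_df (LP (LK LD1_c16 LD2_c18 LD3_c49)) = (LP (LK LD1_c17 LD2_c44 LD3_c56)) :=
  Lgr Lrot38 (Lpr_dt (f308764 IH) (Lpn (LP (LK LD1_c17 LD2_c44 LD3_c56))))
theorem f200094 : Led Lsl_gt (LP (LK LD1_c16 LD2_c18 LD3_c49)) = (LP (LK LD1_c17 LD2_c39 LD3_c0)) :=
  Lgr Lrot46 (Lpe (f39589 IH) (Lpr_ft (K13.f39583 IH) (Lpr_at (K13.f200070 IH) (Lpn (LP (LK LD1_c17 LD2_c39 LD3_c0))))))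
theorem f200076 : Led Lsl_et (LP (LK LD1_c9 LD2_c35 LD3_c7)) = (LP (LK LD1_c4 LD2_c51 LD3_c32)) :=
  Lre_e IH (LK LD1_c9 LD2_c35 LD3_c7) (LK LD1_c4 LD2_c51 LD3_c32) Lrfl Lrfl
theorem f238041 : Led Lsl_gf (LP (LK LD1_c9 LD2_c35 LD3_c14)) = (LP (LK LD1_c4 LD2_c51 LD3_c43)) :=
  Lgr Lrot147 (Lpe (K13.f238039 IH) (Lpr_gt (K13.f238011 IH) (Lpr_ct (K13.f233341 IH) (Lpe (K13.f167259 IH) (Lpe (K9.f53422 IH) (Lpr_gf (K13.f228934 IH) (Lpe (K1.f29123 IH) (Lpr_gf (K13.f232899 IH) (Lpe (K15.f232906 IH) (Lpn (LP (LK LD1_c4 LD2_c51 LD3_c43))))))))))))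
theorem f238064 : Led Lsl_et (LP (LK LD1_c9 LD2_c33 LD3_c44)) = (LP (LK LD1_c17 LD2_c36 LD3_c25)) :=
  Lre_e IH (LK LD1_c9 LD2_c33 LD3_c44) (LK LD1_c17 LD2_c36 LD3_c25) Lrfl Lrfl
theorem f235999 : Led Lsl_df (LP (LK LD1_c2 LD2_c40 LD3_c12)) = (LP (LK LD1_c4 LD2_c8 LD3_c16)) :=
  Lgr Lrot70 (Lpr_et (K14.f235796 IH) (Lpr_dt (K13.f235995 IH) (Lpr_et (K13.f777 IH) (Lpr_dt (K12.f50153 IH) (Lpr_et (K18.f809 IH) (Lpn (LP (LK LD1_c4 LD2_c8 LD3_c16))))))))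
theorem f236004 : Led Lsl_bt (LP (LK LD1_c4 LD2_c51 LD3_c25)) = (LP (LK LD1_c4 LD2_c8 LD3_c16)) :=
  Lgr Lrot95 (Lpe (K14.f235679 IH) (Lpe (K14.f235799 IH) (Lpr_df (f235999 IH) (Lpn (LP (LK LD1_c4 LD2_c8 LD3_c16))))))
theorem f239100 : Led Lsl_et (LP (LK LD1_c4 LD2_c21 LD3_c31)) = (LP (LK LD1_c8 LD2_c40 LD3_c37)) :=
  Lre_e IH (LK LD1_c4 LD2_c21 LD3_c31) (LK LD1_c8 LD2_c40 LD3_c37) Lrfl Lrfl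
theorem f239121 : Led Lsl_gf (LP (LK LD1_c9 LD2_c34 LD3_c52)) = (LP (LK LD1_c8 LD2_c40 LD3_c37)) :=
  Lgr Lrot141 (Lpe (f233207 IH) (Lpe (K13.f233205 IH) (Lpr_gt (K13.f1794 IH) (Lpe (K13.f1922 IH) (Lpr_et (K1.f2477 IH) (Lpr_gt (K12.f2500 IH) (Lpr_dt (K13.f2503 IH) (Lpr_gt (K13.f239114 IH) (Lpe (K13.f229905 IH) (Lpr_et (f239100 IH) (Lpn (LP (LK LD1_c8 LD2_c40 LD3_c37)))))))))))))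
theorem f200479 : Led Lsl_df (LP (LK LD1_c4 LD2_c14 LD3_c22)) = (LP (LK LD1_c4 LD2_c22 LD3_c44)) :=
  Lgr Lrot38 (Lpr_dt (K13.f200465 IH) (Lpn (LP (LK LD1_c4 LD2_c22 LD3_c44))))
theorem f238134 : Led Lsl_bf (LP (LK LD1_c4 LD2_c22 LD3_c44)) = (LP (LK LD1_c4 LD2_c51 LD3_c29)) :=
  Lgr Lrot93 (Lpe (f200479 IH) (Lpr_bt (f190000 IH) (Lpr_dt (f238116 IH) (Lpn (LP (LK LD1_c4 LD2_c51 LD3_c29))))))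
theorem f298881 : Led Lsl_cf (LP (LK LD1_c8 LD2_c40 LD3_c37)) = (LP (LK LD1_c4 LD2_c51 LD3_c29)) :=
  Lgr Lrot160 (Lpe (f239121 IH) (Lpe (f235732 IH) (Lpr_bt (f236004 IH) (Lpr_gt (K18.f236018 IH) (Lpr_ct (K18.f236019 IH) (Lpr_gt (K18.f298728 IH) (Lpe (K17.f168399 IH) (Lpe (K14.f168395 IH) (Lpr_gt (K18.f298601 IH) (Lpr_bf (f238134 IH) (Lpn (LP (LK LD1_c4 LD2_c51 LD3_c29)))))))))))))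
theorem f239129 : Led Lsl_et (LP (LK LD1_c8 LD2_c40 LD3_c37)) = (LP (LK LD1_c4 LD2_c21 LD3_c31)) :=
  Lre_e IH (LK LD1_c8 LD2_c40 LD3_c37) (LK LD1_c4 LD2_c21 LD3_c31) Lrfl Lrfl
theorem f298932 : Led Lsl_et (LP (LK LD1_c2 LD2_c26 LD3_c13)) = (LP (LK LD1_c4 LD2_c51 LD3_c29)) :=
  Lgr Lrot158 (Lpr_cf (K13.f239118 IH) (Lpe (f239129 IH) (Lpr_cf (f298881 IH) (Lpn (LP (LK LD1_c4 LD2_c51 LD3_c29))))))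
theorem f298934 : Led Lsl_ef (LP (LK LD1_c2 LD2_c26 LD3_c13)) = (LP (LK LD1_c4 LD2_c51 LD3_c29)) :=
  Lgr Lrot88 (Lpr_et (f298932 IH) (Lpn (LP (LK LD1_c4 LD2_c51 LD3_c29))))
theorem f2466 : Led Lsl_et (LP (LK LD1_c9 LD2_c38 LD3_c38)) = (LP (LK LD1_c4 LD2_c53 LD3_c17)) :=
  Lre_e IH (LK LD1_c9 LD2_c38 LD3_c38) (LK LD1_c4 LD2_c53 LD3_c17) Lrfl Lrfl
theorem f190030 : Led Lsl_gt (LP (LK LD1_c8 LD2_c37 LD3_c51)) = (LP (LK LD1_c4 LD2_c19 LD3_c57)) :=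
  Lre_g IH (LK LD1_c8 LD2_c37 LD3_c51) (LK LD1_c4 LD2_c19 LD3_c57) Lrfl Lrfl
theorem f298936 : Led Lsl_dt (LP (LK LD1_c9 LD2_c38 LD3_c38)) = (LP (LK LD1_c8 LD2_c37 LD3_c51)) :=
  Lgr Lrot136 (Lpr_et (f2466 IH) (Lpe (f2415 IH) (Lpe (K0.f2408 IH) (Lpr_dt (K0.f2411 IH) (Lpr_gf (K10.f196303 IH) (Lpe (K12.f196318 IH) (Lpe (K13.f239132 IH) (Lpr_ef (f298934 IH) (Lpe (f238136 IH) (Lpe (f190030 IH) (Lpn (LP (LK LD1_c8 LD2_c37 LD3_c51)))))))))))))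
theorem f298941 : Led Lsl_et (LP (LK LD1_c4 LD2_c53 LD3_c17)) = (LP (LK LD1_c9 LD2_c38 LD3_c38)) :=
  Lre_e IH (LK LD1_c4 LD2_c53 LD3_c17) (LK LD1_c9 LD2_c38 LD3_c38) Lrfl Lrfl
theorem f2424 : Led Lsl_dt (LP (LK LD1_c9 LD2_c38 LD3_c37)) = (LP (LK LD1_c4 LD2_c53 LD3_c17)) :=
  Lre_d IH (LK LD1_c9 LD2_c38 LD3_c37) (LK LD1_c4 LD2_c53 LD3_c17) Lrfl Lrfl
theorem f212561 : Led Lsl_df (LP (LK LD1_c4 LD2_c12 LD3_c36)) = (LP (LK LD1_c2 LD2_c12 LD3_c41)) :=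
  Lgr Lrot38 (Lpr_dt (K14.f212551 IH) (Lpn (LP (LK LD1_c2 LD2_c12 LD3_c41))))
theorem f170936 : Led Lsl_gt (LP (LK LD1_c4 LD2_c12 LD3_c36)) = (LP (LK LD1_c8 LD2_c24 LD3_c49)) :=
  Lre_g IH (LK LD1_c4 LD2_c12 LD3_c36) (LK LD1_c8 LD2_c24 LD3_c49) Lrfl Lrfl
theorem f212618 : Led Lsl_dt (LP (LK LD1_c15 LD2_c49 LD3_c1)) = (LP (LK LD1_c8 LD2_c24 LD3_c49)) :=
  Lre_d IH (LK LD1_c15 LD2_c49 LD3_c1) (LK LD1_c8 LD2_c24 LD3_c49) Lrfl Lrfl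
theorem f238118 : Led Lsl_et (LP (LK LD1_c15 LD2_c49 LD3_c1)) = (LP (LK LD1_c8 LD2_c37 LD3_c51)) :=
  Lgr Lrot121 (Lpr_dt (f212618 IH) (Lpe (f170936 IH) (Lpr_df (f212561 IH) (Lpr_et (K14.f212550 IH) (Lpe (K15.f177914 IH) (Lpe (f212548 IH) (Lpr_dt (K15.f238082 IH) (Lpe (f2456 IH) (Lpe (f238116 IH) (Lpe (f190030 IH) (Lpn (LP (LK LD1_c8 LD2_c37 LD3_c51)))))))))))))
theorem f238123 : Led Lsl_ef (LP (LK LD1_c15 LD2_c49 LD3_c1)) = (LP (LK LD1_c8 LD2_c37 LD3_c51)) :=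
  Lgr Lrot88 (Lpr_et (f238118 IH) (Lpn (LP (LK LD1_c8 LD2_c37 LD3_c51))))
theorem f298942 : Led Lsl_ef (LP (LK LD1_c9 LD2_c38 LD3_c37)) = (LP (LK LD1_c8 LD2_c24 LD3_c49)) :=
  Lgr Lrot73 (Lpr_dt (f2424 IH) (Lpr_et (f298941 IH) (Lpr_dt (f298936 IH) (Lpe (f238123 IH) (Lpr_dt (f212618 IH) (Lpn (LP (LK LD1_c8 LD2_c24 LD3_c49))))))))
theorem f2420 : Led Lsl_ct (LP (LK LD1_c9 LD2_c38 LD3_c37)) = (LP (LK LD1_c17 LD2_c44 LD3_c56)) :=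
  Lre_c IH (LK LD1_c9 LD2_c38 LD3_c37) (LK LD1_c17 LD2_c44 LD3_c56) Lrfl Lrfl
theorem f298945 : Led Lsl_ct (LP (LK LD1_c15 LD2_c49 LD3_c0)) = (LP (LK LD1_c8 LD2_c24 LD3_c49)) :=
  Lre_c IH (LK LD1_c15 LD2_c49 LD3_c0) (LK LD1_c8 LD2_c24 LD3_c49) Lrfl Lrfl
theorem f298946 : Led Lsl_et (LP (LK LD1_c17 LD2_c44 LD3_c56)) = (LP (LK LD1_c15 LD2_c49 LD3_c0)) :=
  Lgr Lrot158 (Lpe (f2420 IH) (Lpr_ef (f298942 IH) (Lpe (f298945 IH) (Lpn (LP (LK LD1_c15 LD2_c49 LD3_c0))))))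
theorem f308772 : Led Lsl_gt (LP (LK LD1_c17 LD2_c36 LD3_c25)) = (LP (LK LD1_c15 LD2_c49 LD3_c0)) :=
  Lgr Lrot131 (Lpe (f238064 IH) (Lpr_dt (K13.f238057 IH) (Lpr_gf (f238041 IH) (Lpe (K15.f232907 IH) (Lpe (K13.f232902 IH) (Lpe (f200076 IH) (Lpr_dt (K13.f200058 IH) (Lpe (f200094 IH) (Lpr_df (f308767 IH) (Lpr_et (f298946 IH) (Lpn (LP (LK LD1_c15 LD2_c49 LD3_c0)))))))))))))
theorem f212576 : Led Lsl_ct (LP (LK LD1_c8 LD2_c24 LD3_c49)) = (LP (LK LD1_c15 LD2_c49 LD3_c0)) :=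
  Lre_c IH (LK LD1_c8 LD2_c24 LD3_c49) (LK LD1_c15 LD2_c49 LD3_c0) Lrfl Lrfl
theorem f255780 : Led Lsl_cf (LP (LK LD1_c10 LD2_c37 LD3_c34)) = (LP (LK LD1_c17 LD2_c37 LD3_c38)) :=
  Lgr Lrot11 (Lpr_ct (K18.f255769 IH) (Lpn (LP (LK LD1_c17 LD2_c37 LD3_c38))))
theorem f300919 : Led Lsl_gt (LP (LK LD1_c15 LD2_c49 LD3_c0)) = (LP (LK LD1_c17 LD2_c37 LD3_c38)) :=
  Lgr Lrot150 (Lpe (f212576 IH) (Lpe (f170936 IH) (Lpr_df (f212561 IH) (Lpr_gt (K13.f212570 IH) (Lpr_ct (K18.f212577 IH) (Lpr_gt (K18.f300913 IH) (Lpr_ct (K18.f255783 IH) (Lpe (K18.f255799 IH) (Lpr_cf (f255780 IH) (Lpn (LP (LK LD1_c17 LD2_c37 LD3_c38))))))))))))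
theorem f279510 : Led Lsl_at (LP (LK LD1_c16 LD2_c16 LD3_c0)) = (LP (LK LD1_c17 LD2_c37 LD3_c38)) :=
  Lgr Lrot100 (Lpr_af (K18.f279508 IH) (Lpn (LP (LK LD1_c17 LD2_c37 LD3_c38))))
theorem f308774 : Led Lsl_ft (LP (LK LD1_c17 LD2_c36 LD3_c25)) = (LP (LK LD1_c16 LD2_c16 LD3_c0)) :=
  Lgr Lrot2 (Lpr_gt (f308772 IH) (Lpr_gt (f300919 IH) (Lpe (f279510 IH) (Lpn (LP (LK LD1_c16 LD2_c16 LD3_c0))))))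
theorem f308778 : Led Lsl_ff (LP (LK LD1_c17 LD2_c36 LD3_c25)) = (LP (LK LD1_c16 LD2_c16 LD3_c0)) :=
  Lgr Lrot3 (Lpr_ft (f308774 IH) (Lpn (LP (LK LD1_c16 LD2_c16 LD3_c0))))
theorem f308780 : Led Lsl_at (LP (LK LD1_c17 LD2_c36 LD3_c25)) = (LP (LK LD1_c9 LD2_c34 LD3_c23)) :=
  Lgr Lrot66 (Lpr_ff (f308778 IH) (Lpr_af (K18.f279508 IH) (Lpe (K18.f255695 IH) (Lpn (LP (LK LD1_c9 LD2_c34 LD3_c23))))))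
theorem f308782 : Led Lsl_af (LP (LK LD1_c9 LD2_c33 LD3_c44)) = (LP (LK LD1_c4 LD2_c51 LD3_c10)) :=
  Lgr Lrot50 (Lpr_et (f238064 IH) (Lpr_at (f308780 IH) (Lpr_et (K16.f255668 IH) (Lpn (LP (LK LD1_c4 LD2_c51 LD3_c10))))))
theorem f308788 : Led Lsl_ft (LP (LK LD1_c8 LD2_c32 LD3_c57)) = (LP (LK LD1_c4 LD2_c51 LD3_c10)) :=
  Lgr Lrot2 (Lpr_gt (K14.f251826 IH) (Lpr_gt (K13.f184403 IH) (Lpr_af (f308782 IH) (Lpn (LP (LK LD1_c4 LD2_c51 LD3_c10))))))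
theorem f308796 : Led Lsl_ff (LP (LK LD1_c8 LD2_c32 LD3_c57)) = (LP (LK LD1_c4 LD2_c51 LD3_c10)) :=
  Lgr Lrot3 (Lpr_ft (f308788 IH) (Lpn (LP (LK LD1_c4 LD2_c51 LD3_c10))))
theorem f308804 : Led Lsl_at (LP (LK LD1_c8 LD2_c32 LD3_c57)) = (LP (LK LD1_c4 LD2_c51 LD3_c11)) :=
  Lgr Lrot26 (Lpr_ff (f308796 IH) (Lpr_gt (K14.f255671 IH) (Lpe (K13.f233380 IH) (Lpn (LP (LK LD1_c4 LD2_c51 LD3_c11))))))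
theorem f308784 : Led Lsl_at (LP (LK LD1_c9 LD2_c33 LD3_c44)) = (LP (LK LD1_c4 LD2_c51 LD3_c10)) :=
  Lgr Lrot100 (Lpr_af (f308782 IH) (Lpn (LP (LK LD1_c4 LD2_c51 LD3_c10))))
theorem f308815 : Led Lsl_ff (LP (LK LD1_c9 LD2_c33 LD3_c44)) = (LP (LK LD1_c4 LD2_c51 LD3_c11)) :=
  Lgr Lrot30 (Lpr_at (f308784 IH) (Lpe (f308796 IH) (Lpr_at (f308804 IH) (Lpn (LP (LK LD1_c4 LD2_c51 LD3_c11))))))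
theorem f308821 : Led Lsl_ft (LP (LK LD1_c9 LD2_c33 LD3_c44)) = (LP (LK LD1_c4 LD2_c51 LD3_c11)) :=
  Lgr Lrot48 (Lpr_ff (f308815 IH) (Lpn (LP (LK LD1_c4 LD2_c51 LD3_c11))))
theorem f308806 : Led Lsl_af (LP (LK LD1_c8 LD2_c32 LD3_c57)) = (LP (LK LD1_c4 LD2_c51 LD3_c11)) :=
  Lgr Lrot0 (Lpr_at (f308804 IH) (Lpn (LP (LK LD1_c4 LD2_c51 LD3_c11))))
theorem f308827 : Led Lsl_gt (LP (LK LD1_c9 LD2_c33 LD3_c44)) = (LP (LK LD1_c4 LD2_c50 LD3_c51)) :=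
  Lgr Lrot5 (Lpr_ft (f308821 IH) (Lpe (f308806 IH) (Lpr_gf (K14.f251790 IH) (Lpn (LP (LK LD1_c4 LD2_c50 LD3_c51))))))
theorem f186908 : Led Lsl_gt (LP (LK LD1_c2 LD2_c23 LD3_c22)) = (LP (LK LD1_c4 LD2_c51 LD3_c4)) :=
  Lre_g IH (LK LD1_c2 LD2_c23 LD3_c22) (LK LD1_c4 LD2_c51 LD3_c4) Lrfl Lrfl
theorem f308831 : Led Lsl_cf (LP (LK LD1_c9 LD2_c33 LD3_c44)) = (LP (LK LD1_c4 LD2_c51 LD3_c4)) :=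
  Lgr Lrot169 (Lpr_gt (f308827 IH) (Lpr_ct (K13.f167373 IH) (Lpe (K13.f287 IH) (Lpr_cf (K13.f184364 IH) (Lpe (K13.f191833 IH) (Lpe (K11.f29135 IH) (Lpe (K10.f186920 IH) (Lpe (K13.f2108 IH) (Lpr_gt (f186908 IH) (Lpn (LP (LK LD1_c4 LD2_c51 LD3_c4))))))))))))
theorem f271579 : Led Lsl_gf (LP (LK LD1_c4 LD2_c12 LD3_c21)) = (LP (LK LD1_c4 LD2_c14 LD3_c4)) :=
  Lgr Lrot143 (Lpe (K16.f259285 IH) (Lpr_cf (K16.f259280 IH) (Lpr_df (K16.f271575 IH) (Lpe (K16.f167759 IH) (Lpe (K13.f167756 IH) (Lpe (K10.f167754 IH) (Lpe (K10.f187239 IH) (Lpe (K10.f188736 IH) (Lpr_dt (K14.f167420 IH) (Lpn (LP (LK LD1_c4 LD2_c14 LD3_c4))))))))))))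
theorem f262793 : Led Lsl_gf (LP (LK LD1_c4 LD2_c15 LD3_c22)) = (LP (LK LD1_c8 LD2_c24 LD3_c16)) :=
  Lgr Lrot76 (Lpe (K15.f251103 IH) (Lpr_ff (K15.f262784 IH) (Lpr_gt (K16.f236227 IH) (Lpn (LP (LK LD1_c8 LD2_c24 LD3_c16))))))
theorem f213859 : Led Lsl_bt (LP (LK LD1_c2 LD2_c5 LD3_c2)) = (LP (LK LD1_c4 LD2_c15 LD3_c19)) :=
  Lre_b IH (LK LD1_c2 LD2_c5 LD3_c2) (LK LD1_c4 LD2_c15 LD3_c19) Lrfl Lrfl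
theorem f308835 : Led Lsl_bt (LP (LK LD1_c4 LD2_c51 LD3_c4)) = (LP (LK LD1_c4 LD2_c21 LD3_c38)) :=
  Lgr Lrot92 (Lpe (f308831 IH) (Lpr_gt (f308827 IH) (Lpe (K13.f288 IH) (Lpe (K13.f167322 IH) (Lpe (f271579 IH) (Lpr_ct (K16.f236226 IH) (Lpe (f262793 IH) (Lpe (K15.f51418 IH) (Lpr_bt (f213859 IH) (Lpe (K14.f251047 IH) (Lpn (LP (LK LD1_c4 LD2_c21 LD3_c38)))))))))))))
theorem f308837 : Led Lsl_bf (LP (LK LD1_c4 LD2_c51 LD3_c4)) = (LP (LK LD1_c4 LD2_c21 LD3_c38)) :=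
  Lgr Lrot24 (Lpr_bt (f308835 IH) (Lpn (LP (LK LD1_c4 LD2_c21 LD3_c38))))
theorem f246784 : Led Lsl_gf (LP (LK LD1_c4 LD2_c18 LD3_c60)) = (LP (LK LD1_c4 LD2_c51 LD3_c24)) :=
  Lgr Lrot143 (Lpr_dt (K17.f237904 IH) (Lpr_cf (K13.f237905 IH) (Lpe (K13.f2093 IH) (Lpr_gf (K14.f246781 IH) (Lpr_df (K13.f232517 IH) (Lpe (K13.f1799 IH) (Lpe (K13.f1755 IH) (Lpr_gt (K13.f1795 IH) (Lpr_dt (K13.f233169 IH) (Lpn (LP (LK LD1_c4 LD2_c51 LD3_c24))))))))))))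
theorem f308846 : Led Lsl_gt (LP (LK LD1_c4 LD2_c51 LD3_c4)) = (LP (LK LD1_c2 LD2_c23 LD3_c32)) :=
  Lgr Lrot82 (Lpr_bf (f308837 IH) (Lpr_ct (K17.f258336 IH) (Lpe (K16.f250775 IH) (Lpe (K14.f179731 IH) (Lpr_bt (K18.f179730 IH) (Lpe (K13.f171490 IH) (Lpe (K15.f200381 IH) (Lpr_ct (K15.f237802 IH) (Lpr_gf (f246784 IH) (Lpe (K13.f2097 IH) (Lpn (LP (LK LD1_c2 LD2_c23 LD3_c32)))))))))))))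
theorem f308850 : Led Lsl_cf (LP (LK LD1_c4 LD2_c51 LD3_c4)) = (LP (LK LD1_c9 LD2_c33 LD3_c44)) :=
  Lgr Lrot166 (Lpr_gt (f308846 IH) (Lpr_dt (K13.f2082 IH) (Lpr_gt (K12.f228938 IH) (Lpr_dt (K1.f28794 IH) (Lpr_ct (K1.f29078 IH) (Lpe (K13.f29120 IH) (Lpr_gf (K13.f232998 IH) (Lpe (K13.f184419 IH) (Lpe (f308827 IH) (Lpn (LP (LK LD1_c9 LD2_c33 LD3_c44))))))))))))
theorem f238059 : Led Lsl_df (LP (LK LD1_c9 LD2_c33 LD3_c44)) = (LP (LK LD1_c9 LD2_c35 LD3_c14)) :=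
  Lgr Lrot38 (Lpr_dt (K13.f238057 IH) (Lpn (LP (LK LD1_c9 LD2_c35 LD3_c14))))
theorem f238035 : Led Lsl_ct (LP (LK LD1_c9 LD2_c34 LD3_c25)) = (LP (LK LD1_c9 LD2_c35 LD3_c14)) :=
  Lgr Lrot8 (Lpr_gt (K13.f238011 IH) (Lpr_dt (K13.f33330 IH) (Lpr_gt (K13.f184371 IH) (Lpr_dt (K13.f29126 IH) (Lpr_cf (K13.f232976 IH) (Lpe (K13.f232984 IH) (Lpe (K11.f171039 IH) (Lpe (K13.f200111 IH) (Lpe (K13.f232991 IH) (Lpn (LP (LK LD1_c9 LD2_c35 LD3_c14))))))))))))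
theorem f308800 : Led Lsl_ft (LP (LK LD1_c4 LD2_c16 LD3_c48)) = (LP (LK LD1_c2 LD2_c38 LD3_c17)) :=
  Lgr Lrot4 (Lpe (K14.f251815 IH) (Lpr_ff (f308796 IH) (Lpr_cf (K14.f255666 IH) (Lpn (LP (LK LD1_c2 LD2_c38 LD3_c17))))))
theorem f308864 : Led Lsl_af (LP (LK LD1_c4 LD2_c51 LD3_c4)) = (LP (LK LD1_c2 LD2_c38 LD3_c17)) :=
  Lgr Lrot109 (Lpr_cf (f308850 IH) (Lpr_df (f238059 IH) (Lpe (f238035 IH) (Lpe (K13.f233140 IH) (Lpe (K17.f233082 IH) (Lpe (K13.f236441 IH) (Lpe (K18.f283276 IH) (Lpe (K18.f290170 IH) (Lpr_ft (f308800 IH) (Lpn (LP (LK LD1_c2 LD2_c38 LD3_c17))))))))))))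
theorem f308843 : Led Lsl_et (LP (LK LD1_c4 LD2_c51 LD3_c4)) = (LP (LK LD1_c9 LD2_c34 LD3_c10)) :=
  Lre_e IH (LK LD1_c4 LD2_c51 LD3_c4) (LK LD1_c9 LD2_c34 LD3_c10) Lrfl Lrfl
theorem f308871 : Led Lsl_at (LP (LK LD1_c9 LD2_c34 LD3_c10)) = (LP (LK LD1_c5 LD2_c23 LD3_c31)) :=
  Lgr Lrot80 (Lpe (f308843 IH) (Lpr_af (f308864 IH) (Lpe (K14.f235602 IH) (Lpn (LP (LK LD1_c5 LD2_c23 LD3_c31))))))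
theorem f308881 : Led Lsl_ff (LP (LK LD1_c9 LD2_c34 LD3_c10)) = (LP (LK LD1_c8 LD2_c41 LD3_c6)) :=
  Lgr Lrot30 (Lpr_at (f308871 IH) (Lpr_ft (K18.f255768 IH) (Lpe (f279506 IH) (Lpn (LP (LK LD1_c8 LD2_c41 LD3_c6))))))
theorem f186909 : Led Lsl_et (LP (LK LD1_c9 LD2_c34 LD3_c10)) = (LP (LK LD1_c4 LD2_c51 LD3_c4)) :=
  Lre_e IH (LK LD1_c9 LD2_c34 LD3_c10) (LK LD1_c4 LD2_c51 LD3_c4) Lrfl Lrfl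
theorem f308809 : Led Lsl_af (LP (LK LD1_c4 LD2_c16 LD3_c48)) = (LP (LK LD1_c4 LD2_c8 LD3_c28)) :=
  Lgr Lrot68 (Lpr_ct (K14.f178391 IH) (Lpr_at (f308804 IH) (Lpe (K13.f233086 IH) (Lpn (LP (LK LD1_c4 LD2_c8 LD3_c28))))))
theorem f308848 : Led Lsl_ft (LP (LK LD1_c4 LD2_c51 LD3_c4)) = (LP (LK LD1_c4 LD2_c8 LD3_c28)) :=
  Lgr Lrot2 (Lpr_gt (f308846 IH) (Lpe (K14.f251867 IH) (Lpr_af (f308809 IH) (Lpn (LP (LK LD1_c4 LD2_c8 LD3_c28))))))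
theorem f43130 : Led Lsl_et (LP (LK LD1_c4 LD2_c21 LD3_c44)) = (LP (LK LD1_c8 LD2_c41 LD3_c6)) :=
  Lre_e IH (LK LD1_c4 LD2_c21 LD3_c44) (LK LD1_c8 LD2_c41 LD3_c6) Lrfl Lrfl
theorem f308885 : Led Lsl_ft (LP (LK LD1_c7 LD2_c55 LD3_c41)) = (LP (LK LD1_c4 LD2_c21 LD3_c44)) :=
  Lgr Lrot86 (Lpe (K13.f236454 IH) (Lpe (f308848 IH) (Lpe (f186909 IH) (Lpr_ff (f308881 IH) (Lpe (f43130 IH) (Lpn (LP (LK LD1_c4 LD2_c21 LD3_c44))))))))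
theorem f308893 : Led Lsl_af (LP (LK LD1_c7 LD2_c55 LD3_c40)) = (LP (LK LD1_c4 LD2_c21 LD3_c44)) :=
  Lgr Lrot31 (Lpe (K18.f42891 IH) (Lpe (K13.f197708 IH) (Lpr_ft (f308885 IH) (Lpn (LP (LK LD1_c4 LD2_c21 LD3_c44))))))
theorem f308901 : Led Lsl_et (LP (LK LD1_c7 LD2_c55 LD3_c40)) = (LP (LK LD1_c10 LD2_c37 LD3_c34)) :=
  Lgr Lrot123 (Lpr_af (f308893 IH) (Lpe (K17.f43122 IH) (Lpr_af (f279506 IH) (Lpn (LP (LK LD1_c10 LD2_c37 LD3_c34))))))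
theorem f255803 : Led Lsl_ft (LP (LK LD1_c10 LD2_c37 LD3_c34)) = (LP (LK LD1_c5 LD2_c23 LD3_c31)) :=
  Lre_f IH (LK LD1_c10 LD2_c37 LD3_c34) (LK LD1_c5 LD2_c23 LD3_c31) Lrfl Lrfl
theorem f308792 : Led Lsl_ff (LP (LK LD1_c4 LD2_c16 LD3_c48)) = (LP (LK LD1_c2 LD2_c38 LD3_c17)) :=
  Lgr Lrot23 (Lpr_ct (K14.f178391 IH) (Lpr_ft (f308788 IH) (Lpr_ct (K14.f255620 IH) (Lpn (LP (LK LD1_c2 LD2_c38 LD3_c17))))))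
theorem f308907 : Led Lsl_ff (LP (LK LD1_c7 LD2_c55 LD3_c40)) = (LP (LK LD1_c4 LD2_c21 LD3_c45)) :=
  Lgr Lrot72 (Lpr_et (f308901 IH) (Lpr_ft (f255803 IH) (Lpr_et (K14.f235602 IH) (Lpe (f308792 IH) (Lpe (K18.f299273 IH) (Lpn (LP (LK LD1_c4 LD2_c21 LD3_c45))))))))
theorem f308915 : Led Lsl_ft (LP (LK LD1_c7 LD2_c55 LD3_c40)) = (LP (LK LD1_c4 LD2_c21 LD3_c45)) :=
  Lgr Lrot48 (Lpr_ff (f308907 IH) (Lpn (LP (LK LD1_c4 LD2_c21 LD3_c45))))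
theorem f169424 : Led Lsl_et (LP (LK LD1_c4 LD2_c16 LD3_c50)) = (LP (LK LD1_c2 LD2_c5 LD3_c42)) :=
  Lre_e IH (LK LD1_c4 LD2_c16 LD3_c50) (LK LD1_c2 LD2_c5 LD3_c42) Lrfl Lrfl
theorem f299275 : Led Lsl_bt (LP (LK LD1_c4 LD2_c21 LD3_c45)) = (LP (LK LD1_c4 LD2_c16 LD3_c50)) :=
  Lgr Lrot119 (Lpr_ef (K18.f299273 IH) (Lpe (K17.f251828 IH) (Lpe (f169424 IH) (Lpn (LP (LK LD1_c4 LD2_c16 LD3_c50))))))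
theorem f308919 : Led Lsl_ft (LP (LK LD1_c4 LD2_c16 LD3_c50)) = (LP (LK LD1_c8 LD2_c33 LD3_c0)) :=
  Lre_f IH (LK LD1_c4 LD2_c16 LD3_c50) (LK LD1_c8 LD2_c33 LD3_c0) Lrfl Lrfl
theorem f308920 : Led Lsl_bf (LP (LK LD1_c7 LD2_c55 LD3_c40)) = (LP (LK LD1_c8 LD2_c33 LD3_c0)) :=
  Lgr Lrot61 (Lpr_ft (f308915 IH) (Lpr_bt (f299275 IH) (Lpr_ft (f308919 IH) (Lpn (LP (LK LD1_c8 LD2_c33 LD3_c0))))))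
theorem f255793 : Led Lsl_bt (LP (LK LD1_c10 LD2_c37 LD3_c34)) = (LP (LK LD1_c5 LD2_c23 LD3_c56)) :=
  Lre_b IH (LK LD1_c10 LD2_c37 LD3_c34) (LK LD1_c5 LD2_c23 LD3_c56) Lrfl Lrfl
theorem f309049 : Led Lsl_et (LP (LK LD1_c5 LD2_c23 LD3_c56)) = (LP (LK LD1_c8 LD2_c33 LD3_c0)) :=
  Lgr Lrot74 (Lpe (f255793 IH) (Lpe (f308901 IH) (Lpr_bf (f308920 IH) (Lpn (LP (LK LD1_c8 LD2_c33 LD3_c0))))))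
theorem f309058 : Led Lsl_ef (LP (LK LD1_c5 LD2_c23 LD3_c56)) = (LP (LK LD1_c8 LD2_c33 LD3_c0)) :=
  Lgr Lrot88 (Lpr_et (f309049 IH) (Lpn (LP (LK LD1_c8 LD2_c33 LD3_c0))))
theorem f255873 : Led Lsl_et (LP (LK LD1_c2 LD2_c38 LD3_c29)) = (LP (LK LD1_c1 LD2_c16 LD3_c10)) :=
  Lre_e IH (LK LD1_c2 LD2_c38 LD3_c29) (LK LD1_c1 LD2_c16 LD3_c10) Lrfl Lrfl
theorem f290174 : Led Lsl_et (LP (LK LD1_c2 LD2_c5 LD3_c42)) = (LP (LK LD1_c4 LD2_c16 LD3_c50)) :=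
  Lre_e IH (LK LD1_c2 LD2_c5 LD3_c42) (LK LD1_c4 LD2_c16 LD3_c50) Lrfl Lrfl
theorem f309070 : Led Lsl_ft (LP (LK LD1_c1 LD2_c16 LD3_c10)) = (LP (LK LD1_c2 LD2_c5 LD3_c42)) :=
  Lgr Lrot86 (Lpe (f255873 IH) (Lpe (K18.f300879 IH) (Lpr_ef (f309058 IH) (Lpe (f308919 IH) (Lpe (f290174 IH) (Lpn (LP (LK LD1_c2 LD2_c5 LD3_c42))))))))
theorem f184309 : Led Lsl_ct (LP (LK LD1_c2 LD2_c38 LD3_c31)) = (LP (LK LD1_c1 LD2_c16 LD3_c10)) :=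
  Lre_c IH (LK LD1_c2 LD2_c38 LD3_c31) (LK LD1_c1 LD2_c16 LD3_c10) Lrfl Lrfl
theorem f309074 : Led Lsl_ff (LP (LK LD1_c2 LD2_c38 LD3_c31)) = (LP (LK LD1_c4 LD2_c16 LD3_c49)) :=
  Lgr Lrot23 (Lpr_ct (f184309 IH) (Lpr_ft (f309070 IH) (Lpr_ct (K17.f232824 IH) (Lpn (LP (LK LD1_c4 LD2_c16 LD3_c49))))))
theorem f184357 : Led Lsl_ct (LP (LK LD1_c1 LD2_c16 LD3_c10)) = (LP (LK LD1_c2 LD2_c38 LD3_c31)) :=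
  Lre_c IH (LK LD1_c1 LD2_c16 LD3_c10) (LK LD1_c2 LD2_c38 LD3_c31) Lrfl Lrfl
theorem f300869 : Led Lsl_af (LP (LK LD1_c4 LD2_c16 LD3_c46)) = (LP (LK LD1_c2 LD2_c38 LD3_c31)) :=
  Lgr Lrot68 (Lpr_ct (K15.f184255 IH) (Lpr_at (K18.f300865 IH) (Lpr_ct (f184357 IH) (Lpn (LP (LK LD1_c2 LD2_c38 LD3_c31))))))
theorem f167211 : Led Lsl_ct (LP (LK LD1_c4 LD2_c10 LD3_c42)) = (LP (LK LD1_c2 LD2_c2 LD3_c37)) :=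
  Lre_c IH (LK LD1_c4 LD2_c10 LD3_c42) (LK LD1_c2 LD2_c2 LD3_c37) Lrfl Lrfl
theorem f300861 : Led Lsl_ft (LP (LK LD1_c4 LD2_c16 LD3_c46)) = (LP (LK LD1_c4 LD2_c10 LD3_c42)) :=
  Lgr Lrot4 (Lpe (K14.f170174 IH) (Lpr_ff (K18.f300857 IH) (Lpe (f167211 IH) (Lpn (LP (LK LD1_c4 LD2_c10 LD3_c42))))))
theorem f309076 : Led Lsl_at (LP (LK LD1_c4 LD2_c10 LD3_c42)) = (LP (LK LD1_c4 LD2_c16 LD3_c49)) :=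
  Lgr Lrot66 (Lpe (f300861 IH) (Lpr_af (f300869 IH) (Lpr_ff (f309074 IH) (Lpn (LP (LK LD1_c4 LD2_c16 LD3_c49))))))
theorem f309102 : Led Lsl_af (LP (LK LD1_c4 LD2_c10 LD3_c42)) = (LP (LK LD1_c4 LD2_c16 LD3_c49)) :=
  Lgr Lrot0 (Lpr_at (f309076 IH) (Lpn (LP (LK LD1_c4 LD2_c16 LD3_c49))))
theorem f309085 : Led Lsl_ft (LP (LK LD1_c2 LD2_c38 LD3_c31)) = (LP (LK LD1_c4 LD2_c16 LD3_c49)) :=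
  Lgr Lrot48 (Lpr_ff (f309074 IH) (Lpn (LP (LK LD1_c4 LD2_c16 LD3_c49))))
theorem f235600 : Led Lsl_gt (LP (LK LD1_c2 LD2_c38 LD3_c31)) = (LP (LK LD1_c5 LD2_c23 LD3_c57)) :=
  Lre_g IH (LK LD1_c2 LD2_c38 LD3_c31) (LK LD1_c5 LD2_c23 LD3_c57) Lrfl Lrfl
theorem f309104 : Led Lsl_gf (LP (LK LD1_c4 LD2_c10 LD3_c42)) = (LP (LK LD1_c5 LD2_c23 LD3_c57)) :=
  Lgr Lrot76 (Lpr_af (f309102 IH) (Lpe (f309085 IH) (Lpr_gt (f235600 IH) (Lpn (LP (LK LD1_c5 LD2_c23 LD3_c57))))))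
theorem f300852 : Led Lsl_df (LP (LK LD1_c2 LD2_c24 LD3_c42)) = (LP (LK LD1_c2 LD2_c2 LD3_c37)) :=
  Lgr Lrot38 (Lpr_dt (K18.f300847 IH) (Lpn (LP (LK LD1_c2 LD2_c2 LD3_c37))))
theorem f240266 : Led Lsl_et (LP (LK LD1_c1 LD2_c25 LD3_c1)) = (LP (LK LD1_c2 LD2_c58 LD3_c36)) :=
  Lre_e IH (LK LD1_c1 LD2_c25 LD3_c1) (LK LD1_c2 LD2_c58 LD3_c36) Lrfl Lrfl
theorem f187841 : Led Lsl_dt (LP (LK LD1_c1 LD2_c25 LD3_c1)) = (LP (LK LD1_c2 LD2_c58 LD3_c35)) :=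
  Lre_d IH (LK LD1_c1 LD2_c25 LD3_c1) (LK LD1_c2 LD2_c58 LD3_c35) Lrfl Lrfl
theorem f283231 : Led Lsl_gf (LP (LK LD1_c4 LD2_c53 LD3_c47)) = (LP (LK LD1_c2 LD2_c38 LD3_c21)) :=
  Lgr Lrot138 (Lpe (K17.f283229 IH) (Lpr_gt (K17.f283225 IH) (Lpe (K14.f229634 IH) (Lpr_et (K13.f229653 IH) (Lpr_gt (K15.f256272 IH) (Lpe (f240266 IH) (Lpr_dt (f187841 IH) (Lpe (K16.f263510 IH) (Lpe (K15.f256096 IH) (Lpr_et (K15.f257987 IH) (Lpn (LP (LK LD1_c2 LD2_c38 LD3_c21)))))))))))))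
theorem f250807 : Led Lsl_ct (LP (LK LD1_c4 LD2_c18 LD3_c45)) = (LP (LK LD1_c2 LD2_c6 LD3_c40)) :=
  Lre_c IH (LK LD1_c4 LD2_c18 LD3_c45) (LK LD1_c2 LD2_c6 LD3_c40) Lrfl Lrfl
theorem f257943 : Led Lsl_gf (LP (LK LD1_c2 LD2_c5 LD3_c18)) = (LP (LK LD1_c2 LD2_c38 LD3_c22)) :=
  Lgr Lrot147 (Lpr_ct (K13.f179604 IH) (Lpr_gt (K17.f250818 IH) (Lpr_ct (f250807 IH) (Lpe (K14.f251683 IH) (Lpr_cf (K14.f200352 IH) (Lpr_gf (K15.f257937 IH) (Lpe (K15.f169151 IH) (Lpe (K15.f169150 IH) (Lpe (K14.f169155 IH) (Lpn (LP (LK LD1_c2 LD2_c38 LD3_c22))))))))))))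
theorem f259258 : Led Lsl_gf (LP (LK LD1_c4 LD2_c15 LD3_c51)) = (LP (LK LD1_c7 LD2_c56 LD3_c5)) :=
  Lgr Lrot143 (Lpr_dt (K17.f220612 IH) (Lpe (K12.f53436 IH) (Lpe (K16.f220676 IH) (Lpr_gf (f257943 IH) (Lpe (K14.f169148 IH) (Lpe (K14.f255991 IH) (Lpr_cf (K14.f256009 IH) (Lpr_gt (K17.f259253 IH) (Lpe (K14.f229500 IH) (Lpn (LP (LK LD1_c7 LD2_c56 LD3_c5))))))))))))
theorem f309107 : Led Lsl_ct (LP (LK LD1_c4 LD2_c15 LD3_c51)) = (LP (LK LD1_c5 LD2_c23 LD3_c57)) :=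
  Lgr Lrot152 (Lpr_gf (f259258 IH) (Lpr_df (K14.f229500 IH) (Lpr_gt (K15.f257962 IH) (Lpr_ct (K15.f257940 IH) (Lpe (f283231 IH) (Lpr_ct (K17.f200613 IH) (Lpr_df (f300852 IH) (Lpe (f167211 IH) (Lpr_gf (f309104 IH) (Lpn (LP (LK LD1_c5 LD2_c23 LD3_c57))))))))))))
theorem f309106 : Led Lsl_dt (LP (LK LD1_c10 LD2_c38 LD3_c31)) = (LP (LK LD1_c5 LD2_c23 LD3_c57)) :=
  Lre_d IH (LK LD1_c10 LD2_c38 LD3_c31) (LK LD1_c5 LD2_c23 LD3_c57) Lrfl Lrfl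
theorem f309128 : Led Lsl_ct (LP (LK LD1_c14 LD2_c57 LD3_c4)) = (LP (LK LD1_c10 LD2_c38 LD3_c31)) :=
  Lgr Lrot110 (Lpr_gf (K17.f250831 IH) (Lpr_cf (K17.f290261 IH) (Lpe (K17.f251925 IH) (Lpe (K14.f187064 IH) (Lpr_gt (K14.f170261 IH) (Lpr_ct (K17.f290185 IH) (Lpe (f259258 IH) (Lpr_ct (f309107 IH) (Lpe (f309106 IH) (Lpn (LP (LK LD1_c10 LD2_c38 LD3_c31))))))))))))
theorem f309139 : Led Lsl_gf (LP (LK LD1_c6 LD2_c4 LD3_c19)) = (LP (LK LD1_c10 LD2_c38 LD3_c31)) :=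
  Lgr Lrot148 (Lpr_dt (K9.f29017 IH) (Lpr_gt (K12.f42091 IH) (Lpr_dt (K16.f42092 IH) (Lpr_ct (K16.f258903 IH) (Lpe (K16.f221816 IH) (Lpe (K12.f221812 IH) (Lpe (K12.f188813 IH) (Lpe (K17.f250823 IH) (Lpr_ct (f309128 IH) (Lpn (LP (LK LD1_c10 LD2_c38 LD3_c31))))))))))))
theorem f233293 : Led Lsl_dt (LP (LK LD1_c8 LD2_c20 LD3_c36)) = (LP (LK LD1_c4 LD2_c10 LD3_c13)) :=
  Lre_d IH (LK LD1_c8 LD2_c20 LD3_c36) (LK LD1_c4 LD2_c10 LD3_c13) Lrfl Lrfl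
theorem f288862 : Led Lsl_gf (LP (LK LD1_c8 LD2_c20 LD3_c36)) = (LP (LK LD1_c10 LD2_c32 LD3_c33)) :=
  Lgr Lrot143 (Lpr_dt (f233293 IH) (Lpe (K15.f219262 IH) (Lpe (K16.f267589 IH) (Lpe (K17.f288799 IH) (Lpr_df (K17.f278513 IH) (Lpr_gf (K17.f288852 IH) (Lpe (K9.f41896 IH) (Lpr_gt (K13.f41989 IH) (Lpr_dt (K18.f41998 IH) (Lpn (LP (LK LD1_c10 LD2_c32 LD3_c33))))))))))))
theorem f275341 : Led Lsl_et (LP (LK LD1_c4 LD2_c10 LD3_c13)) = (LP (LK LD1_c8 LD2_c20 LD3_c37)) :=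
  Lre_e IH (LK LD1_c4 LD2_c10 LD3_c13) (LK LD1_c8 LD2_c20 LD3_c37) Lrfl Lrfl
theorem f255848 : Led Lsl_dt (LP (LK LD1_c5 LD2_c23 LD3_c57)) = (LP (LK LD1_c10 LD2_c38 LD3_c31)) :=
  Lre_d IH (LK LD1_c5 LD2_c23 LD3_c57) (LK LD1_c10 LD2_c38 LD3_c31) Lrfl Lrfl
theorem f309119 : Led Lsl_et (LP (LK LD1_c5 LD2_c23 LD3_c57)) = (LP (LK LD1_c10 LD2_c38 LD3_c32)) :=
  Lre_e IH (LK LD1_c5 LD2_c23 LD3_c57) (LK LD1_c10 LD2_c38 LD3_c32) Lrfl Lrfl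
theorem f309144 : Led Lsl_gt (LP (LK LD1_c8 LD2_c20 LD3_c37)) = (LP (LK LD1_c10 LD2_c38 LD3_c32)) :=
  Lgr Lrot131 (Lpe (f275341 IH) (Lpr_dt (K16.f233312 IH) (Lpr_gf (f288862 IH) (Lpe (K18.f41998 IH) (Lpe (K13.f41989 IH) (Lpe (K12.f42079 IH) (Lpr_dt (K9.f29024 IH) (Lpr_gf (f309139 IH) (Lpe (f255848 IH) (Lpr_et (f309119 IH) (Lpn (LP (LK LD1_c10 LD2_c38 LD3_c32)))))))))))))
theorem f233297 : Led Lsl_gt (LP (LK LD1_c25 LD2_c38 LD3_c1)) = (LP (LK LD1_c15 LD2_c42 LD3_c19)) :=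
  Lre_g IH (LK LD1_c25 LD2_c38 LD3_c1) (LK LD1_c15 LD2_c42 LD3_c19) Lrfl Lrfl
theorem f233304 : Led Lsl_ct (LP (LK LD1_c25 LD2_c38 LD3_c1)) = (LP (LK LD1_c31 LD2_c57 LD3_c7)) :=
  Lre_c IH (LK LD1_c25 LD2_c38 LD3_c1) (LK LD1_c31 LD2_c57 LD3_c7) Lrfl Lrfl
theorem f236956 : Led Lsl_gt (LP (LK LD1_c15 LD2_c42 LD3_c18)) = (LP (LK LD1_c8 LD2_c20 LD3_c37)) :=
  Lre_g IH (LK LD1_c15 LD2_c42 LD3_c18) (LK LD1_c8 LD2_c20 LD3_c37) Lrfl Lrfl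
theorem f305356 : Led Lsl_gt (LP (LK LD1_c8 LD2_c21 LD3_c35)) = (LP (LK LD1_c15 LD2_c42 LD3_c18)) :=
  Lgr Lrot5 (Lpr_ft (f305328 IH) (Lpr_at (f305352 IH) (Lpe (f236956 IH) (Lpn (LP (LK LD1_c15 LD2_c42 LD3_c18))))))
theorem f305324 : Led Lsl_gt (LP (LK LD1_c15 LD2_c43 LD3_c58)) = (LP (LK LD1_c25 LD2_c38 LD3_c1)) :=
  Lgr Lrot5 (Lpr_ft (f305316 IH) (Lpe (f305312 IH) (Lpe (f233297 IH) (Lpn (LP (LK LD1_c25 LD2_c38 LD3_c1))))))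
theorem f284141 : Led Lsl_ct (LP (LK LD1_c4 LD2_c10 LD3_c49)) = (LP (LK LD1_c8 LD2_c21 LD3_c35)) :=
  Lre_c IH (LK LD1_c4 LD2_c10 LD3_c49) (LK LD1_c8 LD2_c21 LD3_c35) Lrfl Lrfl
theorem f289006 : Led Lsl_ct (LP (LK LD1_c8 LD2_c21 LD3_c36)) = (LP (LK LD1_c15 LD2_c43 LD3_c59)) :=
  Lre_c IH (LK LD1_c8 LD2_c21 LD3_c36) (LK LD1_c15 LD2_c43 LD3_c59) Lrfl Lrfl
theorem f305366 : Led Lsl_cf (LP (LK LD1_c8 LD2_c43 LD3_c14)) = (LP (LK LD1_c15 LD2_c42 LD3_c18)) :=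
  Lgr Lrot99 (Lpe (K18.f200490 IH) (Lpr_cf (K18.f228549 IH) (Lpr_gf (K18.f297789 IH) (Lpe (f289006 IH) (Lpe (K18.f288874 IH) (Lpe (K18.f226954 IH) (Lpr_gt (K17.f187041 IH) (Lpr_ct (f284141 IH) (Lpr_gt (f305356 IH) (Lpn (LP (LK LD1_c15 LD2_c42 LD3_c18))))))))))))
theorem f231114 : Led Lsl_dt (LP (LK LD1_c8 LD2_c33 LD3_c52)) = (LP (LK LD1_c16 LD2_c4 LD3_c34)) :=
  Lre_d IH (LK LD1_c8 LD2_c33 LD3_c52) (LK LD1_c16 LD2_c4 LD3_c34) Lrfl Lrfl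
theorem f234617 : Led Lsl_ct (LP (LK LD1_c26 LD2_c1 LD3_c47)) = (LP (LK LD1_c16 LD2_c4 LD3_c34)) :=
  Lre_c IH (LK LD1_c26 LD2_c1 LD3_c47) (LK LD1_c16 LD2_c4 LD3_c34) Lrfl Lrfl
theorem f305368 : Led Lsl_gt (LP (LK LD1_c31 LD2_c57 LD3_c7)) = (LP (LK LD1_c26 LD2_c1 LD3_c47)) :=
  Lgr Lrot187 (Lpe (f233304 IH) (Lpe (f305324 IH) (Lpr_dt (f284166 IH) (Lpr_gt (f305356 IH) (Lpe (f305366 IH) (Lpr_gt (K18.f297724 IH) (Lpe (K16.f234609 IH) (Lpr_dt (f231114 IH) (Lpe (f234617 IH) (Lpn (LP (LK LD1_c26 LD2_c1 LD3_c47))))))))))))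
theorem f234613 : Led Lsl_ct (LP (LK LD1_c16 LD2_c4 LD3_c34)) = (LP (LK LD1_c26 LD2_c1 LD3_c47)) :=
  Lre_c IH (LK LD1_c16 LD2_c4 LD3_c34) (LK LD1_c26 LD2_c1 LD3_c47) Lrfl Lrfl
theorem f184143 : Led Lsl_bt (LP (LK LD1_c8 LD2_c16 LD3_c7)) = (LP (LK LD1_c15 LD2_c32 LD3_c42)) :=
  Lre_b IH (LK LD1_c8 LD2_c16 LD3_c7) (LK LD1_c15 LD2_c32 LD3_c42) Lrfl Lrfl
theorem f184136 : Led Lsl_ct (LP (LK LD1_c10 LD2_c23 LD3_c36)) = (LP (LK LD1_c8 LD2_c16 LD3_c7)) :=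
  Lgr Lrot59 (Lpr_cf (K14.f184132 IH) (Lpn (LP (LK LD1_c8 LD2_c16 LD3_c7))))
theorem f194852 : Led Lsl_bt (LP (LK LD1_c10 LD2_c34 LD3_c19)) = (LP (LK LD1_c5 LD2_c22 LD3_c0)) :=
  Lre_b IH (LK LD1_c10 LD2_c34 LD3_c19) (LK LD1_c5 LD2_c22 LD3_c0) Lrfl Lrfl
theorem f194853 : Led Lsl_cf (LP (LK LD1_c9 LD2_c33 LD3_c18)) = (LP (LK LD1_c5 LD2_c22 LD3_c0)) :=
  Lgr Lrot97 (Lpe (K14.f194780 IH) (Lpr_ct (f184136 IH) (Lpr_bt (f184143 IH) (Lpr_ct (K14.f194797 IH) (Lpr_bt (f194852 IH) (Lpn (LP (LK LD1_c5 LD2_c22 LD3_c0))))))))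
theorem f194895 : Led Lsl_dt (LP (LK LD1_c10 LD2_c34 LD3_c22)) = (LP (LK LD1_c5 LD2_c22 LD3_c0)) :=
  Lre_d IH (LK LD1_c10 LD2_c34 LD3_c22) (LK LD1_c5 LD2_c22 LD3_c0) Lrfl Lrfl
theorem f194930 : Led Lsl_ft (LP (LK LD1_c10 LD2_c34 LD3_c22)) = (LP (LK LD1_c19 LD2_c9 LD3_c7)) :=
  Lre_f IH (LK LD1_c10 LD2_c34 LD3_c22) (LK LD1_c19 LD2_c9 LD3_c7) Lrfl Lrfl
theorem f224354 : Led Lsl_gt (LP (LK LD1_c10 LD2_c35 LD3_c53)) = (LP (LK LD1_c19 LD2_c11 LD3_c32)) :=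
  Lre_g IH (LK LD1_c10 LD2_c35 LD3_c53) (LK LD1_c19 LD2_c11 LD3_c32) Lrfl Lrfl
theorem f224355 : Led Lsl_at (LP (LK LD1_c19 LD2_c9 LD3_c7)) = (LP (LK LD1_c19 LD2_c11 LD3_c32)) :=
  Lgr Lrot26 (Lpe (f194930 IH) (Lpr_gt (K16.f224352 IH) (Lpr_gt (f224354 IH) (Lpn (LP (LK LD1_c19 LD2_c11 LD3_c32))))))
theorem f224384 : Led Lsl_ct (LP (LK LD1_c28 LD2_c37 LD3_c26)) = (LP (LK LD1_c19 LD2_c11 LD3_c32)) :=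
  Lre_c IH (LK LD1_c28 LD2_c37 LD3_c26) (LK LD1_c19 LD2_c11 LD3_c32) Lrfl Lrfl
theorem f278440 : Led Lsl_dt (LP (LK LD1_c26 LD2_c1 LD3_c47)) = (LP (LK LD1_c28 LD2_c37 LD3_c26)) :=
  Lgr Lrot120 (Lpe (f234613 IH) (Lpe (f231114 IH) (Lpr_cf (K16.f234609 IH) (Lpr_df (K18.f278436 IH) (Lpr_cf (f194853 IH) (Lpe (f194895 IH) (Lpr_ft (f194930 IH) (Lpr_at (f224355 IH) (Lpe (f224384 IH) (Lpn (LP (LK LD1_c28 LD2_c37 LD3_c26))))))))))))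
theorem f200519 : Led Lsl_bt (LP (LK LD1_c2 LD2_c45 LD3_c28)) = (LP (LK LD1_c5 LD2_c38 LD3_c57)) :=
  Lre_b IH (LK LD1_c2 LD2_c45 LD3_c28) (LK LD1_c5 LD2_c38 LD3_c57) Lrfl Lrfl
theorem f286108 : Led Lsl_af (LP (LK LD1_c5 LD2_c29 LD3_c42)) = (LP (LK LD1_c8 LD2_c26 LD3_c34)) :=
  Lgr Lrot0 (Lpr_at (K17.f286106 IH) (Lpn (LP (LK LD1_c8 LD2_c26 LD3_c34))))
theorem f297977 : Led Lsl_at (LP (LK LD1_c5 LD2_c38 LD3_c57)) = (LP (LK LD1_c9 LD2_c41 LD3_c7)) :=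
  Lgr Lrot67 (Lpe (f200519 IH) (Lpr_af (K18.f297975 IH) (Lpr_bf (K14.f247266 IH) (Lpr_af (f286108 IH) (Lpr_bf (K17.f286993 IH) (Lpn (LP (LK LD1_c9 LD2_c41 LD3_c7))))))))
theorem f220629 : Led Lsl_gt (LP (LK LD1_c17 LD2_c48 LD3_c54)) = (LP (LK LD1_c9 LD2_c41 LD3_c7)) :=
  Lre_g IH (LK LD1_c17 LD2_c48 LD3_c54) (LK LD1_c9 LD2_c41 LD3_c7) Lrfl Lrfl
theorem f298404 : Led Lsl_gt (LP (LK LD1_c11 LD2_c8 LD3_c49)) = (LP (LK LD1_c17 LD2_c48 LD3_c54)) :=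
  Lgr Lrot5 (Lpr_ft (K12.f200514 IH) (Lpr_at (f297977 IH) (Lpe (f220629 IH) (Lpn (LP (LK LD1_c17 LD2_c48 LD3_c54))))))
theorem f53837 : Led Lsl_ef (LP (LK LD1_c4 LD2_c4 LD3_c60)) = (LP (LK LD1_c4 LD2_c6 LD3_c8)) :=
  Lgr Lrot20 (Lpe (K12.f53823 IH) (Lpr_et (K12.f53835 IH) (Lpr_at (K12.f48031 IH) (Lpn (LP (LK LD1_c4 LD2_c6 LD3_c8))))))
theorem f270901 : Led Lsl_et (LP (LK LD1_c4 LD2_c17 LD3_c40)) = (LP (LK LD1_c4 LD2_c11 LD3_c4)) :=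
  Lgr Lrot158 (Lpr_cf (K16.f270890 IH) (Lpr_ef (f53837 IH) (Lpe (K16.f221917 IH) (Lpn (LP (LK LD1_c4 LD2_c11 LD3_c4))))))
theorem f219825 : Led Lsl_gt (LP (LK LD1_c4 LD2_c11 LD3_c6)) = (LP (LK LD1_c8 LD2_c22 LD3_c7)) :=
  Lre_g IH (LK LD1_c4 LD2_c11 LD3_c6) (LK LD1_c8 LD2_c22 LD3_c7) Lrfl Lrfl
theorem f278432 : Led Lsl_df (LP (LK LD1_c4 LD2_c17 LD3_c22)) = (LP (LK LD1_c8 LD2_c22 LD3_c7)) :=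
  Lgr Lrot84 (Lpe (K14.f231239 IH) (Lpe (K16.f278420 IH) (Lpr_gf (K18.f278430 IH) (Lpr_df (K14.f189241 IH) (Lpr_gf (K13.f219166 IH) (Lpe (K16.f221917 IH) (Lpr_gt (K12.f51529 IH) (Lpr_dt (K17.f219791 IH) (Lpr_gt (f219825 IH) (Lpn (LP (LK LD1_c8 LD2_c22 LD3_c7))))))))))))
theorem f278458 : Led Lsl_dt (LP (LK LD1_c4 LD2_c17 LD3_c22)) = (LP (LK LD1_c8 LD2_c22 LD3_c7)) :=
  Lgr Lrot42 (Lpr_df (f278432 IH) (Lpn (LP (LK LD1_c8 LD2_c22 LD3_c7))))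
theorem f234631 : Led Lsl_et (LP (LK LD1_c4 LD2_c17 LD3_c22)) = (LP (LK LD1_c8 LD2_c33 LD3_c52)) :=
  Lre_e IH (LK LD1_c4 LD2_c17 LD3_c22) (LK LD1_c8 LD2_c33 LD3_c52) Lrfl Lrfl
theorem f251985 : Led Lsl_dt (LP (LK LD1_c4 LD2_c10 LD3_c39)) = (LP (LK LD1_c8 LD2_c21 LD3_c16)) :=
  Lre_d IH (LK LD1_c4 LD2_c10 LD3_c39) (LK LD1_c8 LD2_c21 LD3_c16) Lrfl Lrfl
theorem f252001 : Led Lsl_et (LP (LK LD1_c4 LD2_c10 LD3_c39)) = (LP (LK LD1_c8 LD2_c21 LD3_c17)) :=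
  Lre_e IH (LK LD1_c4 LD2_c10 LD3_c39) (LK LD1_c8 LD2_c21 LD3_c17) Lrfl Lrfl
theorem f287768 : Led Lsl_gt (LP (LK LD1_c8 LD2_c33 LD3_c52)) = (LP (LK LD1_c8 LD2_c21 LD3_c17)) :=
  Lgr Lrot131 (Lpe (f234631 IH) (Lpr_dt (f278458 IH) (Lpe (f219825 IH) (Lpe (K17.f219791 IH) (Lpe (K12.f51529 IH) (Lpe (f270901 IH) (Lpr_dt (K17.f287758 IH) (Lpe (K17.f251997 IH) (Lpe (f251985 IH) (Lpr_et (f252001 IH) (Lpn (LP (LK LD1_c8 LD2_c21 LD3_c17)))))))))))))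
theorem f267640 : Led Lsl_ct (LP (LK LD1_c8 LD2_c21 LD3_c17)) = (LP (LK LD1_c4 LD2_c10 LD3_c40)) :=
  Lre_c IH (LK LD1_c8 LD2_c21 LD3_c17) (LK LD1_c4 LD2_c10 LD3_c40) Lrfl Lrfl
theorem f224363 : Led Lsl_ct (LP (LK LD1_c5 LD2_c22 LD3_c47)) = (LP (LK LD1_c2 LD2_c37 LD3_c57)) :=
  Lre_c IH (LK LD1_c5 LD2_c22 LD3_c47) (LK LD1_c2 LD2_c37 LD3_c57) Lrfl Lrfl
theorem f276758 : Led Lsl_gt (LP (LK LD1_c10 LD2_c35 LD3_c52)) = (LP (LK LD1_c5 LD2_c22 LD3_c47)) :=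
  Lre_g IH (LK LD1_c10 LD2_c35 LD3_c52) (LK LD1_c5 LD2_c22 LD3_c47) Lrfl Lrfl
theorem f298406 : Led Lsl_cf (LP (LK LD1_c10 LD2_c35 LD3_c52)) = (LP (LK LD1_c17 LD2_c48 LD3_c54)) :=
  Lgr Lrot169 (Lpr_gt (f276758 IH) (Lpr_ct (f224363 IH) (Lpe (K16.f276746 IH) (Lpe (f267640 IH) (Lpe (f287768 IH) (Lpr_cf (K16.f234609 IH) (Lpe (K18.f297724 IH) (Lpe (K18.f200490 IH) (Lpr_gt (f298404 IH) (Lpn (LP (LK LD1_c17 LD2_c48 LD3_c54))))))))))))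
theorem f298410 : Led Lsl_ct (LP (LK LD1_c10 LD2_c35 LD3_c52)) = (LP (LK LD1_c17 LD2_c48 LD3_c54)) :=
  Lgr Lrot59 (Lpr_cf (f298406 IH) (Lpn (LP (LK LD1_c17 LD2_c48 LD3_c54))))
theorem f276817 : Led Lsl_ft (LP (LK LD1_c15 LD2_c44 LD3_c6)) = (LP (LK LD1_c8 LD2_c21 LD3_c38)) :=
  Lre_f IH (LK LD1_c15 LD2_c44 LD3_c6) (LK LD1_c8 LD2_c21 LD3_c38) Lrfl Lrfl
theorem f276903 : Led Lsl_gt (LP (LK LD1_c15 LD2_c44 LD3_c6)) = (LP (LK LD1_c10 LD2_c35 LD3_c52)) :=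
  Lgr Lrot5 (Lpr_ft (f276817 IH) (Lpr_at (K17.f276896 IH) (Lpe (f276758 IH) (Lpn (LP (LK LD1_c10 LD2_c35 LD3_c52))))))
theorem f194889 : Led Lsl_ct (LP (LK LD1_c10 LD2_c34 LD3_c22)) = (LP (LK LD1_c19 LD2_c9 LD3_c6)) :=
  Lre_c IH (LK LD1_c10 LD2_c34 LD3_c22) (LK LD1_c19 LD2_c9 LD3_c6) Lrfl Lrfl
theorem f277885 : Led Lsl_dt (LP (LK LD1_c19 LD2_c3 LD3_c31)) = (LP (LK LD1_c10 LD2_c30 LD3_c58)) :=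
  Lre_d IH (LK LD1_c19 LD2_c3 LD3_c31) (LK LD1_c10 LD2_c30 LD3_c58) Lrfl Lrfl
theorem f277887 : Led Lsl_ct (LP (LK LD1_c28 LD2_c29 LD3_c45)) = (LP (LK LD1_c19 LD2_c3 LD3_c31)) :=
  Lre_c IH (LK LD1_c28 LD2_c29 LD3_c45) (LK LD1_c19 LD2_c3 LD3_c31) Lrfl Lrfl
theorem f298413 : Led Lsl_gt (LP (LK LD1_c19 LD2_c9 LD3_c6)) = (LP (LK LD1_c28 LD2_c29 LD3_c45)) :=
  Lgr Lrot150 (Lpe (f194889 IH) (Lpe (K16.f194896 IH) (Lpe (K16.f276805 IH) (Lpr_gt (f276903 IH) (Lpr_ct (f298410 IH) (Lpr_gt (f220629 IH) (Lpe (K17.f286965 IH) (Lpe (f277885 IH) (Lpe (f277887 IH) (Lpn (LP (LK LD1_c28 LD2_c29 LD3_c45))))))))))))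
theorem f194898 : Led Lsl_gt (LP (LK LD1_c28 LD2_c34 LD3_c41)) = (LP (LK LD1_c19 LD2_c9 LD3_c6)) :=
  Lre_g IH (LK LD1_c28 LD2_c34 LD3_c41) (LK LD1_c19 LD2_c9 LD3_c6) Lrfl Lrfl
theorem f297815 : Led Lsl_af (LP (LK LD1_c10 LD2_c36 LD3_c11)) = (LP (LK LD1_c19 LD2_c3 LD3_c31)) :=
  Lgr Lrot117 (Lpr_dt (K18.f228501 IH) (Lpr_at (K18.f297806 IH) (Lpr_dt (K18.f277841 IH) (Lpn (LP (LK LD1_c19 LD2_c3 LD3_c31))))))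
theorem f228505 : Led Lsl_ct (LP (LK LD1_c10 LD2_c36 LD3_c11)) = (LP (LK LD1_c19 LD2_c12 LD3_c11)) :=
  Lre_c IH (LK LD1_c10 LD2_c36 LD3_c11) (LK LD1_c19 LD2_c12 LD3_c11) Lrfl Lrfl
theorem f297818 : Led Lsl_at (LP (LK LD1_c19 LD2_c12 LD3_c11)) = (LP (LK LD1_c28 LD2_c29 LD3_c45)) :=
  Lgr Lrot107 (Lpe (f228505 IH) (Lpr_af (f297815 IH) (Lpe (f277887 IH) (Lpn (LP (LK LD1_c28 LD2_c29 LD3_c45))))))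
theorem f298416 : Led Lsl_ft (LP (LK LD1_c28 LD2_c34 LD3_c41)) = (LP (LK LD1_c19 LD2_c12 LD3_c11)) :=
  Lgr Lrot2 (Lpr_gt (f194898 IH) (Lpr_gt (f298413 IH) (Lpe (f297818 IH) (Lpn (LP (LK LD1_c19 LD2_c12 LD3_c11))))))
theorem f298426 : Led Lsl_ff (LP (LK LD1_c28 LD2_c34 LD3_c41)) = (LP (LK LD1_c19 LD2_c12 LD3_c11)) :=
  Lgr Lrot3 (Lpr_ft (f298416 IH) (Lpn (LP (LK LD1_c19 LD2_c12 LD3_c11))))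
theorem f228560 : Led Lsl_ft (LP (LK LD1_c19 LD2_c12 LD3_c12)) = (LP (LK LD1_c10 LD2_c36 LD3_c11)) :=
  Lre_f IH (LK LD1_c19 LD2_c12 LD3_c12) (LK LD1_c10 LD2_c36 LD3_c11) Lrfl Lrfl
theorem f298430 : Led Lsl_ct (LP (LK LD1_c28 LD2_c34 LD3_c41)) = (LP (LK LD1_c19 LD2_c12 LD3_c12)) :=
  Lgr Lrot40 (Lpr_ff (f298426 IH) (Lpe (f228505 IH) (Lpe (f228560 IH) (Lpn (LP (LK LD1_c19 LD2_c12 LD3_c12))))))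
theorem f254362 : Led Lsl_ct (LP (LK LD1_c19 LD2_c8 LD3_c16)) = (LP (LK LD1_c28 LD2_c33 LD3_c58)) :=
  Lre_c IH (LK LD1_c19 LD2_c8 LD3_c16) (LK LD1_c28 LD2_c33 LD3_c58) Lrfl Lrfl
theorem f298432 : Led Lsl_af (LP (LK LD1_c28 LD2_c34 LD3_c41)) = (LP (LK LD1_c28 LD2_c33 LD3_c58)) :=
  Lgr Lrot68 (Lpr_ct (f298430 IH) (Lpe (K18.f254360 IH) (Lpr_ct (f254362 IH) (Lpn (LP (LK LD1_c28 LD2_c33 LD3_c58))))))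
theorem f298434 : Led Lsl_ft (LP (LK LD1_c28 LD2_c29 LD3_c45)) = (LP (LK LD1_c28 LD2_c33 LD3_c58)) :=
  Lgr Lrot101 (Lpe (f297818 IH) (Lpe (f298416 IH) (Lpr_af (f298432 IH) (Lpn (LP (LK LD1_c28 LD2_c33 LD3_c58))))))
theorem f224397 : Led Lsl_ft (LP (LK LD1_c19 LD2_c9 LD3_c6)) = (LP (LK LD1_c28 LD2_c34 LD3_c43)) :=
  Lre_f IH (LK LD1_c19 LD2_c9 LD3_c6) (LK LD1_c28 LD2_c34 LD3_c43) Lrfl Lrfl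
theorem f224375 : Led Lsl_ct (LP (LK LD1_c28 LD2_c34 LD3_c43)) = (LP (LK LD1_c19 LD2_c9 LD3_c7)) :=
  Lre_c IH (LK LD1_c28 LD2_c34 LD3_c43) (LK LD1_c19 LD2_c9 LD3_c7) Lrfl Lrfl
theorem f224376 : Led Lsl_ct (LP (LK LD1_c19 LD2_c11 LD3_c32)) = (LP (LK LD1_c28 LD2_c37 LD3_c26)) :=
  Lre_c IH (LK LD1_c19 LD2_c11 LD3_c32) (LK LD1_c28 LD2_c37 LD3_c26) Lrfl Lrfl
theorem f224377 : Led Lsl_af (LP (LK LD1_c28 LD2_c34 LD3_c43)) = (LP (LK LD1_c28 LD2_c37 LD3_c26)) :=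
  Lgr Lrot68 (Lpr_ct (f224375 IH) (Lpr_at (f224355 IH) (Lpr_ct (f224376 IH) (Lpn (LP (LK LD1_c28 LD2_c37 LD3_c26))))))
theorem f224391 : Led Lsl_at (LP (LK LD1_c28 LD2_c34 LD3_c43)) = (LP (LK LD1_c28 LD2_c37 LD3_c26)) :=
  Lgr Lrot100 (Lpr_af (f224377 IH) (Lpn (LP (LK LD1_c28 LD2_c37 LD3_c26))))
theorem f298418 : Led Lsl_gf (LP (LK LD1_c28 LD2_c37 LD3_c26)) = (LP (LK LD1_c28 LD2_c29 LD3_c45)) :=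
  Lgr Lrot76 (Lpe (f224391 IH) (Lpe (f224397 IH) (Lpr_gt (f298413 IH) (Lpn (LP (LK LD1_c28 LD2_c29 LD3_c45))))))
theorem f298436 : Led Lsl_gf (LP (LK LD1_c28 LD2_c34 LD3_c41)) = (LP (LK LD1_c28 LD2_c37 LD3_c26)) :=
  Lgr Lrot76 (Lpr_af (f298432 IH) (Lpe (f298434 IH) (Lpe (f298418 IH) (Lpn (LP (LK LD1_c28 LD2_c37 LD3_c26))))))
theorem f309111 : Led Lsl_dt (LP (LK LD1_c10 LD2_c38 LD3_c32)) = (LP (LK LD1_c19 LD2_c16 LD3_c50)) :=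
  Lre_d IH (LK LD1_c10 LD2_c38 LD3_c32) (LK LD1_c19 LD2_c16 LD3_c50) Lrfl Lrfl
theorem f309159 : Led Lsl_ct (LP (LK LD1_c28 LD2_c42 LD3_c50)) = (LP (LK LD1_c19 LD2_c16 LD3_c50)) :=
  Lre_c IH (LK LD1_c28 LD2_c42 LD3_c50) (LK LD1_c19 LD2_c16 LD3_c50) Lrfl Lrfl
theorem f309168 : Led Lsl_dt (LP (LK LD1_c28 LD2_c34 LD3_c41)) = (LP (LK LD1_c28 LD2_c42 LD3_c50)) :=
  Lgr Lrot105 (Lpr_gf (f298436 IH) (Lpe (f278440 IH) (Lpe (f305368 IH) (Lpe (f233304 IH) (Lpr_gt (f233297 IH) (Lpr_dt (K16.f233307 IH) (Lpr_gt (f309144 IH) (Lpr_dt (f309111 IH) (Lpe (f309159 IH) (Lpn (LP (LK LD1_c28 LD2_c42 LD3_c50))))))))))))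
theorem f228510 : Led Lsl_ct (LP (LK LD1_c19 LD2_c12 LD3_c11)) = (LP (LK LD1_c10 LD2_c36 LD3_c11)) :=
  Lre_c IH (LK LD1_c19 LD2_c12 LD3_c11) (LK LD1_c10 LD2_c36 LD3_c11) Lrfl Lrfl
theorem f298424 : Led Lsl_cf (LP (LK LD1_c28 LD2_c34 LD3_c41)) = (LP (LK LD1_c19 LD2_c12 LD3_c12)) :=
  Lgr Lrot108 (Lpr_ft (f298416 IH) (Lpr_ct (f228510 IH) (Lpr_ft (K18.f228664 IH) (Lpn (LP (LK LD1_c19 LD2_c12 LD3_c12))))))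
theorem f228557 : Led Lsl_ct (LP (LK LD1_c11 LD2_c8 LD3_c49)) = (LP (LK LD1_c10 LD2_c36 LD3_c12)) :=
  Lgr Lrot59 (Lpr_cf (K18.f228549 IH) (Lpn (LP (LK LD1_c10 LD2_c36 LD3_c12))))
theorem f275306 : Led Lsl_dt (LP (LK LD1_c25 LD2_c38 LD3_c0)) = (LP (LK LD1_c15 LD2_c42 LD3_c18)) :=
  Lre_d IH (LK LD1_c25 LD2_c38 LD3_c0) (LK LD1_c15 LD2_c42 LD3_c18) Lrfl Lrfl
theorem f284138 : Led Lsl_bt (LP (LK LD1_c4 LD2_c10 LD3_c49)) = (LP (LK LD1_c8 LD2_c21 LD3_c34)) :=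
  Lre_b IH (LK LD1_c4 LD2_c10 LD3_c49) (LK LD1_c8 LD2_c21 LD3_c34) Lrfl Lrfl
theorem f305370 : Led Lsl_ct (LP (LK LD1_c8 LD2_c43 LD3_c14)) = (LP (LK LD1_c15 LD2_c42 LD3_c18)) :=
  Lgr Lrot10 (Lpr_bt (K18.f200489 IH) (Lpr_gt (K18.f297991 IH) (Lpr_ct (K17.f237910 IH) (Lpr_gt (K17.f238013 IH) (Lpe (K17.f28843 IH) (Lpr_bt (K17.f28842 IH) (Lpr_gt (K17.f284518 IH) (Lpe (f284138 IH) (Lpr_ct (f284141 IH) (Lpr_gt (f305356 IH) (Lpn (LP (LK LD1_c15 LD2_c42 LD3_c18)))))))))))))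
theorem f286983 : Led Lsl_ct (LP (LK LD1_c10 LD2_c30 LD3_c58)) = (LP (LK LD1_c9 LD2_c41 LD3_c7)) :=
  Lgr Lrot59 (Lpr_cf (K17.f286965 IH) (Lpn (LP (LK LD1_c9 LD2_c41 LD3_c7))))
theorem f288880 : Led Lsl_dt (LP (LK LD1_c15 LD2_c42 LD3_c18)) = (LP (LK LD1_c25 LD2_c38 LD3_c0)) :=
  Lre_d IH (LK LD1_c15 LD2_c42 LD3_c18) (LK LD1_c25 LD2_c38 LD3_c0) Lrfl Lrfl
theorem f305365 : Led Lsl_ct (LP (LK LD1_c25 LD2_c38 LD3_c0)) = (LP (LK LD1_c31 LD2_c57 LD3_c6)) :=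
  Lre_c IH (LK LD1_c25 LD2_c38 LD3_c0) (LK LD1_c31 LD2_c57 LD3_c6) Lrfl Lrfl
theorem f305374 : Led Lsl_df (LP (LK LD1_c28 LD2_c29 LD3_c45)) = (LP (LK LD1_c31 LD2_c57 LD3_c6)) :=
  Lgr Lrot13 (Lpr_ct (f277887 IH) (Lpr_dt (f277885 IH) (Lpr_ct (f286983 IH) (Lpe (f297977 IH) (Lpe (K12.f200514 IH) (Lpr_dt (K18.f200490 IH) (Lpr_ct (f305370 IH) (Lpr_dt (f288880 IH) (Lpr_ct (f305365 IH) (Lpn (LP (LK LD1_c31 LD2_c57 LD3_c6))))))))))))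
theorem f254376 : Led Lsl_dt (LP (LK LD1_c28 LD2_c33 LD3_c58)) = (LP (LK LD1_c26 LD2_c18 LD3_c0)) :=
  Lgr Lrot42 (Lpr_df (K18.f254374 IH) (Lpn (LP (LK LD1_c26 LD2_c18 LD3_c0))))
theorem f305380 : Led Lsl_ft (LP (LK LD1_c26 LD2_c18 LD3_c0)) = (LP (LK LD1_c31 LD2_c57 LD3_c6)) :=
  Lgr Lrot54 (Lpe (f254376 IH) (Lpe (f298434 IH) (Lpr_df (f305374 IH) (Lpn (LP (LK LD1_c31 LD2_c57 LD3_c6))))))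
theorem f305364 : Led Lsl_ct (LP (LK LD1_c31 LD2_c57 LD3_c6)) = (LP (LK LD1_c25 LD2_c38 LD3_c0)) :=
  Lre_c IH (LK LD1_c31 LD2_c57 LD3_c6) (LK LD1_c25 LD2_c38 LD3_c0) Lrfl Lrfl
theorem f305382 : Led Lsl_ff (LP (LK LD1_c16 LD2_c19 LD3_c59)) = (LP (LK LD1_c25 LD2_c38 LD3_c0)) :=
  Lgr Lrot23 (Lpr_ct (K18.f200523 IH) (Lpr_ft (f305380 IH) (Lpr_ct (f305364 IH) (Lpn (LP (LK LD1_c25 LD2_c38 LD3_c0))))))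
theorem f309185 : Led Lsl_at (LP (LK LD1_c16 LD2_c19 LD3_c59)) = (LP (LK LD1_c19 LD2_c16 LD3_c50)) :=
  Lgr Lrot33 (Lpr_ff (f305382 IH) (Lpr_dt (f275306 IH) (Lpe (f305366 IH) (Lpe (K12.f200507 IH) (Lpr_ct (f228557 IH) (Lpr_dt (K18.f228567 IH) (Lpe (f298424 IH) (Lpr_dt (f309168 IH) (Lpr_ct (f309159 IH) (Lpn (LP (LK LD1_c19 LD2_c16 LD3_c50))))))))))))
theorem f309174 : Led Lsl_dt (LP (LK LD1_c19 LD2_c16 LD3_c50)) = (LP (LK LD1_c10 LD2_c38 LD3_c32)) :=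
  Lre_d IH (LK LD1_c19 LD2_c16 LD3_c50) (LK LD1_c10 LD2_c38 LD3_c32) Lrfl Lrfl
theorem f309190 : Led Lsl_af (LP (LK LD1_c8 LD2_c43 LD3_c12)) = (LP (LK LD1_c10 LD2_c38 LD3_c32)) :=
  Lgr Lrot117 (Lpr_dt (K18.f200522 IH) (Lpr_at (f309185 IH) (Lpr_dt (f309174 IH) (Lpn (LP (LK LD1_c10 LD2_c38 LD3_c32))))))
theorem f232269 : Led Lsl_et (LP (LK LD1_c8 LD2_c43 LD3_c12)) = (LP (LK LD1_c4 LD2_c22 LD3_c40)) :=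
  Lre_e IH (LK LD1_c8 LD2_c43 LD3_c12) (LK LD1_c4 LD2_c22 LD3_c40) Lrfl Lrfl
theorem f309207 : Led Lsl_at (LP (LK LD1_c4 LD2_c22 LD3_c40)) = (LP (LK LD1_c5 LD2_c23 LD3_c57)) :=
  Lgr Lrot80 (Lpe (f232269 IH) (Lpr_af (f309190 IH) (Lpe (f309119 IH) (Lpn (LP (LK LD1_c5 LD2_c23 LD3_c57))))))
theorem f255622 : Led Lsl_gt (LP (LK LD1_c5 LD2_c23 LD3_c58)) = (LP (LK LD1_c2 LD2_c38 LD3_c31)) :=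
  Lre_g IH (LK LD1_c5 LD2_c23 LD3_c58) (LK LD1_c2 LD2_c38 LD3_c31) Lrfl Lrfl
theorem f309215 : Led Lsl_ff (LP (LK LD1_c4 LD2_c22 LD3_c40)) = (LP (LK LD1_c5 LD2_c23 LD3_c58)) :=
  Lgr Lrot52 (Lpr_at (f309207 IH) (Lpe (f235600 IH) (Lpe (f255622 IH) (Lpn (LP (LK LD1_c5 LD2_c23 LD3_c58))))))
theorem f309217 : Led Lsl_dt (LP (LK LD1_c5 LD2_c23 LD3_c58)) = (LP (LK LD1_c10 LD2_c38 LD3_c34)) :=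
  Lre_d IH (LK LD1_c5 LD2_c23 LD3_c58) (LK LD1_c10 LD2_c38 LD3_c34) Lrfl Lrfl
theorem f309218 : Led Lsl_ct (LP (LK LD1_c10 LD2_c38 LD3_c34)) = (LP (LK LD1_c8 LD2_c30 LD3_c49)) :=
  Lgr Lrot133 (Lpe (f309217 IH) (Lpe (f309215 IH) (Lpr_at (f309207 IH) (Lpe (f309107 IH) (Lpe (K17.f188778 IH) (Lpe (K12.f53436 IH) (Lpe (K16.f220676 IH) (Lpe (K15.f179690 IH) (Lpe (K17.f243281 IH) (Lpn (LP (LK LD1_c8 LD2_c30 LD3_c49))))))))))))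
theorem f179706 : Led Lsl_dt (LP (LK LD1_c4 LD2_c15 LD3_c54)) = (LP (LK LD1_c8 LD2_c30 LD3_c49)) :=
  Lre_d IH (LK LD1_c4 LD2_c15 LD3_c54) (LK LD1_c8 LD2_c30 LD3_c49) Lrfl Lrfl
theorem f271163 : Led Lsl_gt (LP (LK LD1_c8 LD2_c30 LD3_c49)) = (LP (LK LD1_c8 LD2_c13 LD3_c0)) :=
  Lgr Lrot49 (Lpe (f179706 IH) (Lpe (K13.f179603 IH) (Lpe (K13.f179602 IH) (Lpr_gt (K16.f271161 IH) (Lpr_dt (K14.f252068 IH) (Lpe (K15.f252085 IH) (Lpr_dt (K12.f44500 IH) (Lpe (K12.f44494 IH) (Lpe (K17.f44495 IH) (Lpn (LP (LK LD1_c8 LD2_c13 LD3_c0))))))))))))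
theorem f290259 : Led Lsl_ct (LP (LK LD1_c8 LD2_c13 LD3_c0)) = (LP (LK LD1_c8 LD2_c33 LD3_c9)) :=
  Lgr Lrot8 (Lpe (K17.f250831 IH) (Lpr_dt (K17.f229636 IH) (Lpe (K17.f267594 IH) (Lpr_dt (K17.f267597 IH) (Lpr_cf (K17.f267605 IH) (Lpe (K17.f290239 IH) (Lpr_gf (K17.f290257 IH) (Lpe (K14.f251916 IH) (Lpr_gf (K17.f252013 IH) (Lpn (LP (LK LD1_c8 LD2_c33 LD3_c9))))))))))))
theorem f309237 : Led Lsl_gf (LP (LK LD1_c10 LD2_c38 LD3_c34)) = (LP (LK LD1_c6 LD2_c4 LD3_c19)) :=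
  Lgr Lrot147 (Lpr_ct (f309218 IH) (Lpr_gt (f271163 IH) (Lpr_ct (f290259 IH) (Lpe (K17.f290267 IH) (Lpe (K17.f188807 IH) (Lpr_gf (K14.f232862 IH) (Lpr_cf (K16.f270734 IH) (Lpe (K12.f42091 IH) (Lpe (K9.f29017 IH) (Lpn (LP (LK LD1_c6 LD2_c4 LD3_c19))))))))))))
theorem f309242 : Led Lsl_dt (LP (LK LD1_c10 LD2_c38 LD3_c34)) = (LP (LK LD1_c5 LD2_c23 LD3_c58)) :=
  Lre_d IH (LK LD1_c10 LD2_c38 LD3_c34) (LK LD1_c5 LD2_c23 LD3_c58) Lrfl Lrfl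
theorem f219533 : Led Lsl_at (LP (LK LD1_c4 LD2_c52 LD3_c59)) = (LP (LK LD1_c2 LD2_c24 LD3_c19)) :=
  Lre_a IH (LK LD1_c4 LD2_c52 LD3_c59) (LK LD1_c2 LD2_c24 LD3_c19) Lrfl Lrfl
theorem f258897 : Led Lsl_df (LP (LK LD1_c4 LD2_c52 LD3_c59)) = (LP (LK LD1_c4 LD2_c54 LD3_c1)) :=
  Lgr Lrot18 (Lpr_at (f219533 IH) (Lpe (K17.f229255 IH) (Lpr_at (K15.f258891 IH) (Lpn (LP (LK LD1_c4 LD2_c54 LD3_c1))))))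
theorem f270773 : Led Lsl_ct (LP (LK LD1_c4 LD2_c52 LD3_c59)) = (LP (LK LD1_c6 LD2_c4 LD3_c17)) :=
  Lgr Lrot176 (Lpr_df (f258897 IH) (Lpr_cf (K16.f184846 IH) (Lpr_df (K16.f254515 IH) (Lpe (K16.f221815 IH) (Lpe (K16.f221814 IH) (Lpe (K16.f258903 IH) (Lpe (K16.f42092 IH) (Lpr_cf (K12.f200132 IH) (Lpe (K13.f211484 IH) (Lpr_cf (K13.f232884 IH) (Lpe (K13.f227967 IH) (Lpe (K16.f232889 IH) (Lpe (K16.f232890 IH) (Lpr_cf (K16.f270767 IH) (Lpe (K16.f199939 IH) (Lpn (LP (LK LD1_c6 LD2_c4 LD3_c17))))))))))))))))))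
theorem f309243 : Led Lsl_ct (LP (LK LD1_c5 LD2_c23 LD3_c58)) = (LP (LK LD1_c3 LD2_c57 LD3_c12)) :=
  Lgr Lrot7 (Lpe (f309242 IH) (Lpr_gf (f309237 IH) (Lpe (K9.f29024 IH) (Lpe (K16.f29027 IH) (Lpe (f270773 IH) (Lpe (K16.f270882 IH) (Lpr_dt (K12.f44497 IH) (Lpe (K12.f229485 IH) (Lpr_dt (K14.f229498 IH) (Lpn (LP (LK LD1_c3 LD2_c57 LD3_c12))))))))))))
theorem f179736 : Led Lsl_ct (LP (LK LD1_c2 LD2_c2 LD3_c37)) = (LP (LK LD1_c4 LD2_c10 LD3_c42)) :=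
  Lre_c IH (LK LD1_c2 LD2_c2 LD3_c37) (LK LD1_c4 LD2_c10 LD3_c42) Lrfl Lrfl
theorem f309260 : Led Lsl_gf (LP (LK LD1_c5 LD2_c23 LD3_c58)) = (LP (LK LD1_c4 LD2_c10 LD3_c42)) :=
  Lgr Lrot104 (Lpr_ct (f309243 IH) (Lpe (K14.f229498 IH) (Lpe (K12.f229476 IH) (Lpe (K12.f229627 IH) (Lpr_cf (K0.f29007 IH) (Lpe (K10.f187015 IH) (Lpe (K14.f167111 IH) (Lpr_gt (K18.f167210 IH) (Lpr_ct (f179736 IH) (Lpn (LP (LK LD1_c4 LD2_c10 LD3_c42))))))))))))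
theorem f309246 : Led Lsl_af (LP (LK LD1_c5 LD2_c23 LD3_c58)) = (LP (LK LD1_c8 LD2_c32 LD3_c50)) :=
  Lgr Lrot68 (Lpr_ct (f309243 IH) (Lpr_at (K17.f230399 IH) (Lpe (K17.f287720 IH) (Lpn (LP (LK LD1_c8 LD2_c32 LD3_c50))))))
theorem f309265 : Led Lsl_ff (LP (LK LD1_c8 LD2_c32 LD3_c50)) = (LP (LK LD1_c5 LD2_c23 LD3_c57)) :=
  Lgr Lrot52 (Lpe (f309246 IH) (Lpr_gf (f309260 IH) (Lpr_gf (f309104 IH) (Lpn (LP (LK LD1_c5 LD2_c23 LD3_c57))))))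
theorem f309276 : Led Lsl_ft (LP (LK LD1_c8 LD2_c32 LD3_c50)) = (LP (LK LD1_c5 LD2_c23 LD3_c57)) :=
  Lgr Lrot48 (Lpr_ff (f309265 IH) (Lpn (LP (LK LD1_c5 LD2_c23 LD3_c57))))
theorem f309209 : Led Lsl_af (LP (LK LD1_c4 LD2_c22 LD3_c40)) = (LP (LK LD1_c5 LD2_c23 LD3_c57)) :=
  Lgr Lrot0 (Lpr_at (f309207 IH) (Lpn (LP (LK LD1_c5 LD2_c23 LD3_c57))))
theorem f287712 : Led Lsl_ff (LP (LK LD1_c2 LD2_c8 LD3_c46)) = (LP (LK LD1_c3 LD2_c57 LD3_c12)) :=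
  Lgr Lrot3 (Lpr_ft (K17.f287704 IH) (Lpn (LP (LK LD1_c3 LD2_c57 LD3_c12))))
theorem f309254 : Led Lsl_ff (LP (LK LD1_c5 LD2_c23 LD3_c58)) = (LP (LK LD1_c4 LD2_c22 LD3_c40)) :=
  Lgr Lrot23 (Lpr_ct (f309243 IH) (Lpe (f287712 IH) (Lpr_ct (K14.f211428 IH) (Lpn (LP (LK LD1_c4 LD2_c22 LD3_c40))))))
theorem f309278 : Led Lsl_af (LP (LK LD1_c8 LD2_c32 LD3_c50)) = (LP (LK LD1_c5 LD2_c23 LD3_c58)) :=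
  Lgr Lrot45 (Lpr_ft (f309276 IH) (Lpe (f309209 IH) (Lpe (f309254 IH) (Lpn (LP (LK LD1_c5 LD2_c23 LD3_c58))))))
theorem f287734 : Led Lsl_et (LP (LK LD1_c8 LD2_c32 LD3_c50)) = (LP (LK LD1_c16 LD2_c2 LD3_c48)) :=
  Lre_e IH (LK LD1_c8 LD2_c32 LD3_c50) (LK LD1_c16 LD2_c2 LD3_c48) Lrfl Lrfl
theorem f309251 : Led Lsl_et (LP (LK LD1_c10 LD2_c38 LD3_c35)) = (LP (LK LD1_c5 LD2_c23 LD3_c58)) :=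
  Lre_e IH (LK LD1_c10 LD2_c38 LD3_c35) (LK LD1_c5 LD2_c23 LD3_c58) Lrfl Lrfl
theorem f309302 : Led Lsl_at (LP (LK LD1_c16 LD2_c2 LD3_c48)) = (LP (LK LD1_c10 LD2_c38 LD3_c35)) :=
  Lgr Lrot80 (Lpe (f287734 IH) (Lpr_af (f309278 IH) (Lpe (f309251 IH) (Lpn (LP (LK LD1_c10 LD2_c38 LD3_c35))))))
theorem f309304 : Led Lsl_af (LP (LK LD1_c16 LD2_c2 LD3_c48)) = (LP (LK LD1_c10 LD2_c38 LD3_c35)) :=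
  Lgr Lrot0 (Lpr_at (f309302 IH) (Lpn (LP (LK LD1_c10 LD2_c38 LD3_c35))))
theorem f229503 : Led Lsl_et (LP (LK LD1_c3 LD2_c57 LD3_c12)) = (LP (LK LD1_c7 LD2_c56 LD3_c6)) :=
  Lre_e IH (LK LD1_c3 LD2_c57 LD3_c12) (LK LD1_c7 LD2_c56 LD3_c6) Lrfl Lrfl
theorem f309252 : Led Lsl_cf (LP (LK LD1_c10 LD2_c38 LD3_c35)) = (LP (LK LD1_c7 LD2_c56 LD3_c6)) :=
  Lgr Lrot39 (Lpr_et (f309251 IH) (Lpr_ct (f309243 IH) (Lpr_et (f229503 IH) (Lpn (LP (LK LD1_c7 LD2_c56 LD3_c6))))))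
theorem f229562 : Led Lsl_at (LP (LK LD1_c14 LD2_c58 LD3_c9)) = (LP (LK LD1_c7 LD2_c56 LD3_c6)) :=
  Lre_a IH (LK LD1_c14 LD2_c58 LD3_c9) (LK LD1_c7 LD2_c56 LD3_c6) Lrfl Lrfl
theorem f309316 : Led Lsl_ct (LP (LK LD1_c16 LD2_c2 LD3_c48)) = (LP (LK LD1_c14 LD2_c58 LD3_c9)) :=
  Lgr Lrot111 (Lpr_af (f309304 IH) (Lpr_cf (f309252 IH) (Lpe (f229562 IH) (Lpn (LP (LK LD1_c14 LD2_c58 LD3_c9))))))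
theorem f309318 : Led Lsl_cf (LP (LK LD1_c16 LD2_c2 LD3_c48)) = (LP (LK LD1_c14 LD2_c58 LD3_c9)) :=
  Lgr Lrot11 (Lpr_ct (f309316 IH) (Lpn (LP (LK LD1_c14 LD2_c58 LD3_c9))))
theorem f229522 : Led Lsl_at (LP (LK LD1_c7 LD2_c56 LD3_c6)) = (LP (LK LD1_c14 LD2_c58 LD3_c9)) :=
  Lre_a IH (LK LD1_c7 LD2_c56 LD3_c6) (LK LD1_c14 LD2_c58 LD3_c9) Lrfl Lrfl
theorem f309320 : Led Lsl_ct (LP (LK LD1_c10 LD2_c38 LD3_c35)) = (LP (LK LD1_c7 LD2_c56 LD3_c6)) :=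
  Lgr Lrot111 (Lpe (f309302 IH) (Lpr_cf (f309318 IH) (Lpe (f229522 IH) (Lpn (LP (LK LD1_c7 LD2_c56 LD3_c6))))))
theorem f309314 : Led Lsl_bt (LP (LK LD1_c19 LD2_c16 LD3_c55)) = (LP (LK LD1_c10 LD2_c38 LD3_c35)) :=
  Lre_b IH (LK LD1_c19 LD2_c16 LD3_c55) (LK LD1_c10 LD2_c38 LD3_c35) Lrfl Lrfl
theorem f229523 : Led Lsl_bt (LP (LK LD1_c7 LD2_c56 LD3_c6)) = (LP (LK LD1_c3 LD2_c57 LD3_c15)) :=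
  Lre_b IH (LK LD1_c7 LD2_c56 LD3_c6) (LK LD1_c3 LD2_c57 LD3_c15) Lrfl Lrfl
theorem f287118 : Led Lsl_ct (LP (LK LD1_c3 LD2_c57 LD3_c15)) = (LP (LK LD1_c7 LD2_c56 LD3_c9)) :=
  Lre_c IH (LK LD1_c3 LD2_c57 LD3_c15) (LK LD1_c7 LD2_c56 LD3_c9) Lrfl Lrfl
theorem f309323 : Led Lsl_bt (LP (LK LD1_c7 LD2_c56 LD3_c9)) = (LP (LK LD1_c14 LD2_c58 LD3_c17)) :=
  Lre_b IH (LK LD1_c7 LD2_c56 LD3_c9) (LK LD1_c14 LD2_c58 LD3_c17) Lrfl Lrfl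
theorem f309324 : Led Lsl_cf (LP (LK LD1_c19 LD2_c16 LD3_c55)) = (LP (LK LD1_c14 LD2_c58 LD3_c17)) :=
  Lgr Lrot97 (Lpr_bt (f309314 IH) (Lpr_ct (f309320 IH) (Lpr_bt (f229523 IH) (Lpr_ct (f287118 IH) (Lpr_bt (f309323 IH) (Lpn (LP (LK LD1_c14 LD2_c58 LD3_c17))))))))
theorem f309330 : Led Lsl_et (LP (LK LD1_c19 LD2_c16 LD3_c55)) = (LP (LK LD1_c10 LD2_c38 LD3_c33)) :=
  Lre_e IH (LK LD1_c19 LD2_c16 LD3_c55) (LK LD1_c10 LD2_c38 LD3_c33) Lrfl Lrfl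
theorem f236839 : Led Lsl_et (LP (LK LD1_c7 LD2_c56 LD3_c8)) = (LP (LK LD1_c14 LD2_c58 LD3_c17)) :=
  Lre_e IH (LK LD1_c7 LD2_c56 LD3_c8) (LK LD1_c14 LD2_c58 LD3_c17) Lrfl Lrfl
theorem f309331 : Led Lsl_ct (LP (LK LD1_c10 LD2_c38 LD3_c33)) = (LP (LK LD1_c7 LD2_c56 LD3_c8)) :=
  Lgr Lrot15 (Lpe (f309330 IH) (Lpr_cf (f309324 IH) (Lpe (f236839 IH) (Lpn (LP (LK LD1_c7 LD2_c56 LD3_c8))))))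
theorem f200499 : Led Lsl_ft (LP (LK LD1_c16 LD2_c20 LD3_c12)) = (LP (LK LD1_c8 LD2_c43 LD3_c19)) :=
  Lre_f IH (LK LD1_c16 LD2_c20 LD3_c12) (LK LD1_c8 LD2_c43 LD3_c19) Lrfl Lrfl
theorem f298020 : Led Lsl_at (LP (LK LD1_c8 LD2_c43 LD3_c19)) = (LP (LK LD1_c9 LD2_c44 LD3_c56)) :=
  Lgr Lrot66 (Lpe (f200499 IH) (Lpr_af (K18.f298017 IH) (Lpe (K18.f247204 IH) (Lpn (LP (LK LD1_c9 LD2_c44 LD3_c56))))))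
theorem f238749 : Led Lsl_et (LP (LK LD1_c4 LD2_c22 LD3_c12)) = (LP (LK LD1_c8 LD2_c42 LD3_c20)) :=
  Lre_e IH (LK LD1_c4 LD2_c22 LD3_c12) (LK LD1_c8 LD2_c42 LD3_c20) Lrfl Lrfl
theorem f39309 : Led Lsl_dt (LP (LK LD1_c8 LD2_c42 LD3_c20)) = (LP (LK LD1_c16 LD2_c18 LD3_c35)) :=
  Lre_d IH (LK LD1_c8 LD2_c42 LD3_c20) (LK LD1_c16 LD2_c18 LD3_c35) Lrfl Lrfl
theorem f238750 : Led Lsl_ef (LP (LK LD1_c8 LD2_c43 LD3_c19)) = (LP (LK LD1_c16 LD2_c18 LD3_c35)) :=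
  Lgr Lrot73 (Lpr_dt (K18.f200458 IH) (Lpr_et (K18.f238748 IH) (Lpr_dt (K13.f238722 IH) (Lpr_et (f238749 IH) (Lpr_dt (f39309 IH) (Lpn (LP (LK LD1_c16 LD2_c18 LD3_c35))))))))
theorem f236915 : Led Lsl_et (LP (LK LD1_c9 LD2_c44 LD3_c56)) = (LP (LK LD1_c17 LD2_c54 LD3_c11)) :=
  Lre_e IH (LK LD1_c9 LD2_c44 LD3_c56) (LK LD1_c17 LD2_c54 LD3_c11) Lrfl Lrfl
theorem f298027 : Led Lsl_af (LP (LK LD1_c16 LD2_c18 LD3_c35)) = (LP (LK LD1_c17 LD2_c54 LD3_c11)) :=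
  Lgr Lrot50 (Lpe (f238750 IH) (Lpr_at (f298020 IH) (Lpr_et (f236915 IH) (Lpn (LP (LK LD1_c17 LD2_c54 LD3_c11))))))
theorem f298045 : Led Lsl_ct (LP (LK LD1_c26 LD2_c16 LD3_c23)) = (LP (LK LD1_c16 LD2_c18 LD3_c35)) :=
  Lre_c IH (LK LD1_c26 LD2_c16 LD3_c23) (LK LD1_c16 LD2_c18 LD3_c35) Lrfl Lrfl
theorem f298046 : Led Lsl_dt (LP (LK LD1_c32 LD2_c6 LD3_c47)) = (LP (LK LD1_c26 LD2_c16 LD3_c23)) :=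
  Lre_d IH (LK LD1_c32 LD2_c6 LD3_c47) (LK LD1_c26 LD2_c16 LD3_c23) Lrfl Lrfl
theorem f236811 : Led Lsl_ft (LP (LK LD1_c27 LD2_c39 LD3_c42)) = (LP (LK LD1_c17 LD2_c54 LD3_c11)) :=
  Lre_f IH (LK LD1_c27 LD2_c39 LD3_c42) (LK LD1_c17 LD2_c54 LD3_c11) Lrfl Lrfl
theorem f236809 : Led Lsl_dt (LP (LK LD1_c27 LD2_c39 LD3_c42)) = (LP (LK LD1_c17 LD2_c54 LD3_c12)) :=
  Lre_d IH (LK LD1_c27 LD2_c39 LD3_c42) (LK LD1_c17 LD2_c54 LD3_c12) Lrfl Lrfl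
theorem f236806 : Led Lsl_dt (LP (LK LD1_c14 LD2_c58 LD3_c27)) = (LP (LK LD1_c24 LD2_c45 LD3_c57)) :=
  Lre_d IH (LK LD1_c14 LD2_c58 LD3_c27) (LK LD1_c24 LD2_c45 LD3_c57) Lrfl Lrfl
theorem f236807 : Led Lsl_ct (LP (LK LD1_c24 LD2_c45 LD3_c57)) = (LP (LK LD1_c31 LD2_c38 LD3_c42)) :=
  Lre_c IH (LK LD1_c24 LD2_c45 LD3_c57) (LK LD1_c31 LD2_c38 LD3_c42) Lrfl Lrfl
theorem f236808 : Led Lsl_dt (LP (LK LD1_c31 LD2_c38 LD3_c42)) = (LP (LK LD1_c32 LD2_c57 LD3_c36)) :=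
  Lre_d IH (LK LD1_c31 LD2_c38 LD3_c42) (LK LD1_c32 LD2_c57 LD3_c36) Lrfl Lrfl
theorem f298047 : Led Lsl_cf (LP (LK LD1_c32 LD2_c6 LD3_c47)) = (LP (LK LD1_c32 LD2_c57 LD3_c36)) :=
  Lgr Lrot161 (Lpr_dt (f298046 IH) (Lpr_ct (f298045 IH) (Lpr_af (f298027 IH) (Lpe (f236811 IH) (Lpr_dt (f236809 IH) (Lpe (K18.f236790 IH) (Lpr_dt (f236806 IH) (Lpr_ct (f236807 IH) (Lpr_dt (f236808 IH) (Lpn (LP (LK LD1_c32 LD2_c57 LD3_c36))))))))))))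
theorem f237652 : Led Lsl_dt (LP (LK LD1_c16 LD2_c18 LD3_c35)) = (LP (LK LD1_c8 LD2_c42 LD3_c20)) :=
  Lre_d IH (LK LD1_c16 LD2_c18 LD3_c35) (LK LD1_c8 LD2_c42 LD3_c20) Lrfl Lrfl
theorem f297289 : Led Lsl_af (LP (LK LD1_c4 LD2_c22 LD3_c34)) = (LP (LK LD1_c7 LD2_c56 LD3_c16)) :=
  Lgr Lrot0 (Lpr_at (K18.f297287 IH) (Lpn (LP (LK LD1_c7 LD2_c56 LD3_c16))))
theorem f298051 : Led Lsl_ct (LP (LK LD1_c8 LD2_c42 LD3_c20)) = (LP (LK LD1_c4 LD2_c22 LD3_c34)) :=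
  Lgr Lrot98 (Lpe (f237652 IH) (Lpe (f298045 IH) (Lpe (f298046 IH) (Lpr_cf (f298047 IH) (Lpe (f236808 IH) (Lpe (f236807 IH) (Lpe (f236806 IH) (Lpr_ft (K18.f236788 IH) (Lpe (f297289 IH) (Lpn (LP (LK LD1_c4 LD2_c22 LD3_c34))))))))))))
theorem f298065 : Led Lsl_ft (LP (LK LD1_c16 LD2_c18 LD3_c36)) = (LP (LK LD1_c8 LD2_c42 LD3_c20)) :=
  Lre_f IH (LK LD1_c16 LD2_c18 LD3_c36) (LK LD1_c8 LD2_c42 LD3_c20) Lrfl Lrfl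
theorem f298066 : Led Lsl_ft (LP (LK LD1_c4 LD2_c22 LD3_c34)) = (LP (LK LD1_c8 LD2_c43 LD3_c4)) :=
  Lre_f IH (LK LD1_c4 LD2_c22 LD3_c34) (LK LD1_c8 LD2_c43 LD3_c4) Lrfl Lrfl
theorem f298067 : Led Lsl_cf (LP (LK LD1_c16 LD2_c18 LD3_c36)) = (LP (LK LD1_c8 LD2_c43 LD3_c4)) :=
  Lgr Lrot108 (Lpr_ft (f298065 IH) (Lpr_ct (f298051 IH) (Lpr_ft (f298066 IH) (Lpn (LP (LK LD1_c8 LD2_c43 LD3_c4))))))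
theorem f197309 : Led Lsl_ct (LP (LK LD1_c17 LD2_c54 LD3_c31)) = (LP (LK LD1_c9 LD2_c45 LD3_c3)) :=
  Lre_c IH (LK LD1_c17 LD2_c54 LD3_c31) (LK LD1_c9 LD2_c45 LD3_c3) Lrfl Lrfl
theorem f298084 : Led Lsl_et (LP (LK LD1_c16 LD2_c18 LD3_c36)) = (LP (LK LD1_c17 LD2_c54 LD3_c31)) :=
  Lgr Lrot158 (Lpr_cf (f298067 IH) (Lpr_ef (K18.f297122 IH) (Lpe (f197309 IH) (Lpn (LP (LK LD1_c17 LD2_c54 LD3_c31))))))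
theorem f298162 : Led Lsl_ef (LP (LK LD1_c16 LD2_c18 LD3_c36)) = (LP (LK LD1_c17 LD2_c54 LD3_c31)) :=
  Lgr Lrot88 (Lpr_et (f298084 IH) (Lpn (LP (LK LD1_c17 LD2_c54 LD3_c31))))
theorem f39308 : Led Lsl_et (LP (LK LD1_c8 LD2_c42 LD3_c20)) = (LP (LK LD1_c4 LD2_c22 LD3_c12)) :=
  Lre_e IH (LK LD1_c8 LD2_c42 LD3_c20) (LK LD1_c4 LD2_c22 LD3_c12) Lrfl Lrfl
theorem f298169 : Led Lsl_ft (LP (LK LD1_c9 LD2_c45 LD3_c0)) = (LP (LK LD1_c17 LD2_c54 LD3_c31)) :=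
  Lre_f IH (LK LD1_c9 LD2_c45 LD3_c0) (LK LD1_c17 LD2_c54 LD3_c31) Lrfl Lrfl
theorem f236602 : Led Lsl_et (LP (LK LD1_c4 LD2_c56 LD3_c55)) = (LP (LK LD1_c9 LD2_c45 LD3_c0)) :=
  Lre_e IH (LK LD1_c4 LD2_c56 LD3_c55) (LK LD1_c9 LD2_c45 LD3_c0) Lrfl Lrfl
theorem f298170 : Led Lsl_ft (LP (LK LD1_c4 LD2_c22 LD3_c12)) = (LP (LK LD1_c4 LD2_c56 LD3_c55)) :=
  Lgr Lrot86 (Lpe (f39308 IH) (Lpe (f298065 IH) (Lpr_ef (f298162 IH) (Lpe (f298169 IH) (Lpe (f236602 IH) (Lpn (LP (LK LD1_c4 LD2_c56 LD3_c55))))))))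
theorem f298174 : Led Lsl_af (LP (LK LD1_c4 LD2_c22 LD3_c11)) = (LP (LK LD1_c4 LD2_c56 LD3_c55)) :=
  Lgr Lrot31 (Lpe (K13.f38963 IH) (Lpe (K13.f38968 IH) (Lpr_ft (f298170 IH) (Lpn (LP (LK LD1_c4 LD2_c56 LD3_c55))))))
theorem f237270 : Led Lsl_ct (LP (LK LD1_c2 LD2_c8 LD3_c51)) = (LP (LK LD1_c4 LD2_c22 LD3_c11)) :=
  Lgr Lrot8 (Lpe (K12.f224992 IH) (Lpr_dt (K1.f2977 IH) (Lpr_gt (K10.f193672 IH) (Lpr_dt (K13.f193690 IH) (Lpr_cf (K13.f237250 IH) (Lpe (K13.f39040 IH) (Lpe (K13.f39038 IH) (Lpr_df (K1.f39171 IH) (Lpr_gf (K13.f39429 IH) (Lpn (LP (LK LD1_c4 LD2_c22 LD3_c11))))))))))))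
theorem f297317 : Led Lsl_ft (LP (LK LD1_c4 LD2_c22 LD3_c11)) = (LP (LK LD1_c4 LD2_c56 LD3_c47)) :=
  Lgr Lrot4 (Lpe (f237270 IH) (Lpr_ff (K18.f297311 IH) (Lpr_cf (K13.f236757 IH) (Lpn (LP (LK LD1_c4 LD2_c56 LD3_c47))))))
theorem f298180 : Led Lsl_at (LP (LK LD1_c4 LD2_c56 LD3_c47)) = (LP (LK LD1_c4 LD2_c22 LD3_c12)) :=
  Lgr Lrot66 (Lpe (f297317 IH) (Lpr_af (f298174 IH) (Lpe (f298170 IH) (Lpn (LP (LK LD1_c4 LD2_c22 LD3_c12))))))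
theorem f238746 : Led Lsl_df (LP (LK LD1_c2 LD2_c8 LD3_c48)) = (LP (LK LD1_c4 LD2_c22 LD3_c12)) :=
  Lgr Lrot38 (Lpr_dt (K13.f238722 IH) (Lpn (LP (LK LD1_c4 LD2_c22 LD3_c12))))
theorem f298185 : Led Lsl_af (LP (LK LD1_c2 LD2_c26 LD3_c14)) = (LP (LK LD1_c2 LD2_c8 LD3_c48)) :=
  Lgr Lrot117 (Lpr_dt (K13.f216426 IH) (Lpr_at (f298180 IH) (Lpe (f238746 IH) (Lpn (LP (LK LD1_c2 LD2_c8 LD3_c48))))))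
theorem f298187 : Led Lsl_at (LP (LK LD1_c2 LD2_c26 LD3_c14)) = (LP (LK LD1_c2 LD2_c8 LD3_c48)) :=
  Lgr Lrot100 (Lpr_af (f298185 IH) (Lpn (LP (LK LD1_c2 LD2_c8 LD3_c48))))
theorem f287080 : Led Lsl_ft (LP (LK LD1_c2 LD2_c8 LD3_c37)) = (LP (LK LD1_c2 LD2_c26 LD3_c14)) :=
  Lgr Lrot4 (Lpe (K13.f193270 IH) (Lpr_ff (K17.f287078 IH) (Lpe (K13.f168359 IH) (Lpn (LP (LK LD1_c2 LD2_c26 LD3_c14))))))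
theorem f287088 : Led Lsl_af (LP (LK LD1_c2 LD2_c8 LD3_c37)) = (LP (LK LD1_c3 LD2_c57 LD3_c14)) :=
  Lgr Lrot68 (Lpr_ct (K13.f193271 IH) (Lpr_at (K17.f287084 IH) (Lpr_ct (K13.f196326 IH) (Lpn (LP (LK LD1_c3 LD2_c57 LD3_c14))))))
theorem f298243 : Led Lsl_ff (LP (LK LD1_c3 LD2_c57 LD3_c14)) = (LP (LK LD1_c2 LD2_c8 LD3_c48)) :=
  Lgr Lrot30 (Lpe (f287088 IH) (Lpr_ft (f287080 IH) (Lpr_at (f298187 IH) (Lpn (LP (LK LD1_c2 LD2_c8 LD3_c48))))))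
theorem f196327 : Led Lsl_bt (LP (LK LD1_c3 LD2_c57 LD3_c14)) = (LP (LK LD1_c7 LD2_c56 LD3_c8)) :=
  Lre_b IH (LK LD1_c3 LD2_c57 LD3_c14) (LK LD1_c7 LD2_c56 LD3_c8) Lrfl Lrfl
theorem f238743 : Led Lsl_bt (LP (LK LD1_c4 LD2_c22 LD3_c42)) = (LP (LK LD1_c2 LD2_c8 LD3_c48)) :=
  Lre_b IH (LK LD1_c4 LD2_c22 LD3_c42) (LK LD1_c2 LD2_c8 LD3_c48) Lrfl Lrfl
theorem f298245 : Led Lsl_ft (LP (LK LD1_c7 LD2_c56 LD3_c8)) = (LP (LK LD1_c4 LD2_c22 LD3_c42)) :=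
  Lgr Lrot75 (Lpe (f196327 IH) (Lpr_ff (f298243 IH) (Lpe (f238743 IH) (Lpn (LP (LK LD1_c4 LD2_c22 LD3_c42))))))
theorem f251835 : Led Lsl_ct (LP (LK LD1_c4 LD2_c22 LD3_c42)) = (LP (LK LD1_c8 LD2_c43 LD3_c10)) :=
  Lre_c IH (LK LD1_c4 LD2_c22 LD3_c42) (LK LD1_c8 LD2_c43 LD3_c10) Lrfl Lrfl
theorem f309336 : Led Lsl_ff (LP (LK LD1_c10 LD2_c38 LD3_c33)) = (LP (LK LD1_c8 LD2_c43 LD3_c10)) :=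
  Lgr Lrot23 (Lpr_ct (f309331 IH) (Lpr_ft (f298245 IH) (Lpr_ct (f251835 IH) (Lpn (LP (LK LD1_c8 LD2_c43 LD3_c10))))))
theorem f309351 : Led Lsl_at (LP (LK LD1_c10 LD2_c38 LD3_c33)) = (LP (LK LD1_c19 LD2_c16 LD3_c53)) :=
  Lre_a IH (LK LD1_c10 LD2_c38 LD3_c33) (LK LD1_c19 LD2_c16 LD3_c53) Lrfl Lrfl
theorem f309211 : Led Lsl_at (LP (LK LD1_c16 LD2_c19 LD3_c56)) = (LP (LK LD1_c8 LD2_c43 LD3_c10)) :=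
  Lre_a IH (LK LD1_c16 LD2_c19 LD3_c56) (LK LD1_c8 LD2_c43 LD3_c10) Lrfl Lrfl
theorem f309352 : Led Lsl_ft (LP (LK LD1_c19 LD2_c16 LD3_c53)) = (LP (LK LD1_c16 LD2_c19 LD3_c56)) :=
  Lgr Lrot101 (Lpe (f309351 IH) (Lpr_ff (f309336 IH) (Lpe (f309211 IH) (Lpn (LP (LK LD1_c16 LD2_c19 LD3_c56))))))
theorem f309269 : Led Lsl_bt (LP (LK LD1_c8 LD2_c32 LD3_c50)) = (LP (LK LD1_c16 LD2_c2 LD3_c47)) :=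
  Lre_b IH (LK LD1_c8 LD2_c32 LD3_c50) (LK LD1_c16 LD2_c2 LD3_c47) Lrfl Lrfl
theorem f309282 : Led Lsl_at (LP (LK LD1_c16 LD2_c2 LD3_c47)) = (LP (LK LD1_c26 LD2_c0 LD3_c20)) :=
  Lre_a IH (LK LD1_c16 LD2_c2 LD3_c47) (LK LD1_c26 LD2_c0 LD3_c20) Lrfl Lrfl
theorem f309248 : Led Lsl_bt (LP (LK LD1_c10 LD2_c38 LD3_c33)) = (LP (LK LD1_c5 LD2_c23 LD3_c58)) :=
  Lre_b IH (LK LD1_c10 LD2_c38 LD3_c33) (LK LD1_c5 LD2_c23 LD3_c58) Lrfl Lrfl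
theorem f309299 : Led Lsl_at (LP (LK LD1_c19 LD2_c16 LD3_c53)) = (LP (LK LD1_c10 LD2_c38 LD3_c33)) :=
  Lre_a IH (LK LD1_c19 LD2_c16 LD3_c53) (LK LD1_c10 LD2_c38 LD3_c33) Lrfl Lrfl
theorem f309300 : Led Lsl_bt (LP (LK LD1_c26 LD2_c0 LD3_c20)) = (LP (LK LD1_c19 LD2_c16 LD3_c53)) :=
  Lgr Lrot62 (Lpe (f309282 IH) (Lpe (f309269 IH) (Lpr_af (f309278 IH) (Lpe (f309248 IH) (Lpe (f309299 IH) (Lpn (LP (LK LD1_c19 LD2_c16 LD3_c53))))))))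
theorem f184354 : Led Lsl_bt (LP (LK LD1_c16 LD2_c2 LD3_c47)) = (LP (LK LD1_c8 LD2_c32 LD3_c50)) :=
  Lre_b IH (LK LD1_c16 LD2_c2 LD3_c47) (LK LD1_c8 LD2_c32 LD3_c50) Lrfl Lrfl
theorem f309114 : Led Lsl_bt (LP (LK LD1_c5 LD2_c23 LD3_c57)) = (LP (LK LD1_c10 LD2_c38 LD3_c30)) :=
  Lre_b IH (LK LD1_c5 LD2_c23 LD3_c57) (LK LD1_c10 LD2_c38 LD3_c30) Lrfl Lrfl
theorem f309280 : Led Lsl_ff (LP (LK LD1_c16 LD2_c2 LD3_c47)) = (LP (LK LD1_c10 LD2_c38 LD3_c30)) :=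
  Lgr Lrot25 (Lpr_bt (f184354 IH) (Lpr_ft (f309276 IH) (Lpr_bt (f309114 IH) (Lpn (LP (LK LD1_c10 LD2_c38 LD3_c30))))))
theorem f309283 : Led Lsl_at (LP (LK LD1_c19 LD2_c16 LD3_c46)) = (LP (LK LD1_c10 LD2_c38 LD3_c30)) :=
  Lre_a IH (LK LD1_c19 LD2_c16 LD3_c46) (LK LD1_c10 LD2_c38 LD3_c30) Lrfl Lrfl
theorem f309284 : Led Lsl_ft (LP (LK LD1_c26 LD2_c0 LD3_c20)) = (LP (LK LD1_c19 LD2_c16 LD3_c46)) :=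
  Lgr Lrot101 (Lpe (f309282 IH) (Lpr_ff (f309280 IH) (Lpe (f309283 IH) (Lpn (LP (LK LD1_c19 LD2_c16 LD3_c46))))))
theorem f309291 : Led Lsl_ff (LP (LK LD1_c26 LD2_c0 LD3_c20)) = (LP (LK LD1_c19 LD2_c16 LD3_c46)) :=
  Lgr Lrot3 (Lpr_ft (f309284 IH) (Lpn (LP (LK LD1_c19 LD2_c16 LD3_c46))))
theorem f309386 : Led Lsl_bf (LP (LK LD1_c19 LD2_c16 LD3_c46)) = (LP (LK LD1_c16 LD2_c19 LD3_c56)) :=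
  Lgr Lrot61 (Lpe (f309291 IH) (Lpr_bt (f309300 IH) (Lpr_ft (f309352 IH) (Lpn (LP (LK LD1_c16 LD2_c19 LD3_c56))))))
theorem f298194 : Led Lsl_ct (LP (LK LD1_c8 LD2_c43 LD3_c17)) = (LP (LK LD1_c16 LD2_c19 LD3_c56)) :=
  Lre_c IH (LK LD1_c8 LD2_c43 LD3_c17) (LK LD1_c16 LD2_c19 LD3_c56) Lrfl Lrfl
theorem f168455 : Led Lsl_bt (LP (LK LD1_c2 LD2_c26 LD3_c14)) = (LP (LK LD1_c4 LD2_c56 LD3_c46)) :=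
  Lre_b IH (LK LD1_c2 LD2_c26 LD3_c14) (LK LD1_c4 LD2_c56 LD3_c46) Lrfl Lrfl
theorem f168480 : Led Lsl_at (LP (LK LD1_c4 LD2_c56 LD3_c46)) = (LP (LK LD1_c9 LD2_c44 LD3_c51)) :=
  Lre_a IH (LK LD1_c4 LD2_c56 LD3_c46) (LK LD1_c9 LD2_c44 LD3_c51) Lrfl Lrfl
theorem f298189 : Led Lsl_at (LP (LK LD1_c8 LD2_c43 LD3_c17)) = (LP (LK LD1_c4 LD2_c22 LD3_c42)) :=
  Lre_a IH (LK LD1_c8 LD2_c43 LD3_c17) (LK LD1_c4 LD2_c22 LD3_c42) Lrfl Lrfl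
theorem f298190 : Led Lsl_bt (LP (LK LD1_c9 LD2_c44 LD3_c51)) = (LP (LK LD1_c8 LD2_c43 LD3_c17)) :=
  Lgr Lrot62 (Lpe (f168480 IH) (Lpe (f168455 IH) (Lpr_af (f298185 IH) (Lpe (f238743 IH) (Lpe (f298189 IH) (Lpn (LP (LK LD1_c8 LD2_c43 LD3_c17))))))))
theorem f168451 : Led Lsl_at (LP (LK LD1_c9 LD2_c44 LD3_c51)) = (LP (LK LD1_c4 LD2_c56 LD3_c46)) :=
  Lre_a IH (LK LD1_c9 LD2_c44 LD3_c51) (LK LD1_c4 LD2_c56 LD3_c46) Lrfl Lrfl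
theorem f168452 : Led Lsl_at (LP (LK LD1_c5 LD2_c29 LD3_c38)) = (LP (LK LD1_c10 LD2_c50 LD3_c32)) :=
  Lre_a IH (LK LD1_c5 LD2_c29 LD3_c38) (LK LD1_c10 LD2_c50 LD3_c32) Lrfl Lrfl
theorem f168453 : Led Lsl_cf (LP (LK LD1_c9 LD2_c44 LD3_c51)) = (LP (LK LD1_c10 LD2_c50 LD3_c32)) :=
  Lgr Lrot1 (Lpr_at (f168451 IH) (Lpr_ct (K18.f168435 IH) (Lpr_at (f168452 IH) (Lpn (LP (LK LD1_c10 LD2_c50 LD3_c32))))))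
theorem f168473 : Led Lsl_bt (LP (LK LD1_c19 LD2_c35 LD3_c6)) = (LP (LK LD1_c10 LD2_c50 LD3_c32)) :=
  Lre_b IH (LK LD1_c19 LD2_c35 LD3_c6) (LK LD1_c10 LD2_c50 LD3_c32) Lrfl Lrfl
theorem f309390 : Led Lsl_ct (LP (LK LD1_c19 LD2_c16 LD3_c46)) = (LP (LK LD1_c19 LD2_c35 LD3_c6)) :=
  Lgr Lrot83 (Lpr_bf (f309386 IH) (Lpe (f298194 IH) (Lpe (f298190 IH) (Lpr_cf (f168453 IH) (Lpe (f168473 IH) (Lpn (LP (LK LD1_c19 LD2_c35 LD3_c6))))))))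
theorem f309212 : Led Lsl_at (LP (LK LD1_c10 LD2_c38 LD3_c30)) = (LP (LK LD1_c19 LD2_c16 LD3_c46)) :=
  Lre_a IH (LK LD1_c10 LD2_c38 LD3_c30) (LK LD1_c19 LD2_c16 LD3_c46) Lrfl Lrfl
theorem f309392 : Led Lsl_at (LP (LK LD1_c19 LD2_c35 LD3_c6)) = (LP (LK LD1_c10 LD2_c50 LD3_c3)) :=
  Lre_a IH (LK LD1_c19 LD2_c35 LD3_c6) (LK LD1_c10 LD2_c50 LD3_c3) Lrfl Lrfl
theorem f309393 : Led Lsl_cf (LP (LK LD1_c10 LD2_c38 LD3_c30)) = (LP (LK LD1_c10 LD2_c50 LD3_c3)) :=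
  Lgr Lrot1 (Lpr_at (f309212 IH) (Lpr_ct (f309390 IH) (Lpr_at (f309392 IH) (Lpn (LP (LK LD1_c10 LD2_c50 LD3_c3))))))
theorem f220494 : Led Lsl_bt (LP (LK LD1_c10 LD2_c50 LD3_c3)) = (LP (LK LD1_c5 LD2_c29 LD3_c21)) :=
  Lre_b IH (LK LD1_c10 LD2_c50 LD3_c3) (LK LD1_c5 LD2_c29 LD3_c21) Lrfl Lrfl
theorem f219952 : Led Lsl_bt (LP (LK LD1_c8 LD2_c6 LD3_c1)) = (LP (LK LD1_c15 LD2_c15 LD3_c1)) :=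
  Lre_b IH (LK LD1_c8 LD2_c6 LD3_c1) (LK LD1_c15 LD2_c15 LD3_c1) Lrfl Lrfl
theorem f220495 : Led Lsl_ff (LP (LK LD1_c10 LD2_c50 LD3_c3)) = (LP (LK LD1_c15 LD2_c15 LD3_c1)) :=
  Lgr Lrot25 (Lpr_bt (f220494 IH) (Lpr_ft (K12.f220489 IH) (Lpr_bt (f219952 IH) (Lpn (LP (LK LD1_c15 LD2_c15 LD3_c1))))))
theorem f309417 : Led Lsl_ct (LP (LK LD1_c16 LD2_c2 LD3_c47)) = (LP (LK LD1_c15 LD2_c15 LD3_c1)) :=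
  Lgr Lrot40 (Lpr_ff (f309280 IH) (Lpr_cf (f309393 IH) (Lpr_ff (f220495 IH) (Lpn (LP (LK LD1_c15 LD2_c15 LD3_c1))))))
theorem f309428 : Led Lsl_cf (LP (LK LD1_c16 LD2_c2 LD3_c47)) = (LP (LK LD1_c15 LD2_c15 LD3_c1)) :=
  Lgr Lrot11 (Lpr_ct (f309417 IH) (Lpn (LP (LK LD1_c15 LD2_c15 LD3_c1))))
theorem f220023 : Led Lsl_at (LP (LK LD1_c25 LD2_c4 LD3_c5)) = (LP (LK LD1_c15 LD2_c15 LD3_c1)) :=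
  Lre_a IH (LK LD1_c25 LD2_c4 LD3_c5) (LK LD1_c15 LD2_c15 LD3_c1) Lrfl Lrfl
theorem f309430 : Led Lsl_ct (LP (LK LD1_c26 LD2_c0 LD3_c20)) = (LP (LK LD1_c25 LD2_c4 LD3_c5)) :=
  Lgr Lrot111 (Lpe (f309282 IH) (Lpr_cf (f309428 IH) (Lpe (f220023 IH) (Lpn (LP (LK LD1_c25 LD2_c4 LD3_c5))))))
theorem f309395 : Led Lsl_cf (LP (LK LD1_c19 LD2_c16 LD3_c46)) = (LP (LK LD1_c19 LD2_c35 LD3_c6)) :=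
  Lgr Lrot11 (Lpr_ct (f309390 IH) (Lpn (LP (LK LD1_c19 LD2_c35 LD3_c6))))
theorem f309440 : Led Lsl_ff (LP (LK LD1_c19 LD2_c35 LD3_c6)) = (LP (LK LD1_c25 LD2_c4 LD3_c5)) :=
  Lgr Lrot23 (Lpe (f309395 IH) (Lpe (f309291 IH) (Lpr_ct (f309430 IH) (Lpn (LP (LK LD1_c25 LD2_c4 LD3_c5))))))
theorem f296692 : Led Lsl_at (LP (LK LD1_c16 LD2_c18 LD3_c61)) = (LP (LK LD1_c8 LD2_c42 LD3_c34)) :=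
  Lre_a IH (LK LD1_c16 LD2_c18 LD3_c61) (LK LD1_c8 LD2_c42 LD3_c34) Lrfl Lrfl
theorem f297603 : Led Lsl_ft (LP (LK LD1_c10 LD2_c50 LD3_c32)) = (LP (LK LD1_c16 LD2_c18 LD3_c61)) :=
  Lgr Lrot101 (Lpe (f168452 IH) (Lpr_ff (K18.f297535 IH) (Lpe (f296692 IH) (Lpn (LP (LK LD1_c16 LD2_c18 LD3_c61))))))
theorem f309442 : Led Lsl_bt (LP (LK LD1_c16 LD2_c18 LD3_c61)) = (LP (LK LD1_c25 LD2_c4 LD3_c5)) :=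
  Lgr Lrot35 (Lpe (f297603 IH) (Lpe (f168473 IH) (Lpr_ff (f309440 IH) (Lpn (LP (LK LD1_c25 LD2_c4 LD3_c5))))))
theorem f297327 : Led Lsl_ft (LP (LK LD1_c8 LD2_c42 LD3_c17)) = (LP (LK LD1_c9 LD2_c44 LD3_c52)) :=
  Lgr Lrot75 (Lpe (K18.f225003 IH) (Lpr_ff (K18.f297323 IH) (Lpe (K18.f236765 IH) (Lpn (LP (LK LD1_c9 LD2_c44 LD3_c52))))))
theorem f297537 : Led Lsl_df (LP (LK LD1_c8 LD2_c42 LD3_c17)) = (LP (LK LD1_c4 LD2_c22 LD3_c22)) :=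
  Lgr Lrot78 (Lpr_ft (f297327 IH) (Lpr_dt (K18.f168458 IH) (Lpr_ft (K18.f297525 IH) (Lpn (LP (LK LD1_c4 LD2_c22 LD3_c22))))))
theorem f297514 : Led Lsl_at (LP (LK LD1_c8 LD2_c42 LD3_c41)) = (LP (LK LD1_c4 LD2_c22 LD3_c22)) :=
  Lre_a IH (LK LD1_c8 LD2_c42 LD3_c41) (LK LD1_c4 LD2_c22 LD3_c22) Lrfl Lrfl
theorem f297550 : Led Lsl_dt (LP (LK LD1_c16 LD2_c18 LD3_c26)) = (LP (LK LD1_c8 LD2_c42 LD3_c41)) :=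
  Lgr Lrot44 (Lpe (K18.f297498 IH) (Lpr_df (f297537 IH) (Lpe (f297514 IH) (Lpn (LP (LK LD1_c8 LD2_c42 LD3_c41))))))
theorem f297532 : Led Lsl_at (LP (LK LD1_c4 LD2_c22 LD3_c22)) = (LP (LK LD1_c8 LD2_c42 LD3_c41)) :=
  Lre_a IH (LK LD1_c4 LD2_c22 LD3_c22) (LK LD1_c8 LD2_c42 LD3_c41) Lrfl Lrfl
theorem f297533 : Led Lsl_ff (LP (LK LD1_c9 LD2_c44 LD3_c51)) = (LP (LK LD1_c8 LD2_c42 LD3_c41)) :=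
  Lgr Lrot30 (Lpr_at (f168451 IH) (Lpr_ft (K18.f297525 IH) (Lpr_at (f297532 IH) (Lpn (LP (LK LD1_c8 LD2_c42 LD3_c41))))))
theorem f168476 : Led Lsl_dt (LP (LK LD1_c9 LD2_c44 LD3_c51)) = (LP (LK LD1_c17 LD2_c54 LD3_c1)) :=
  Lre_d IH (LK LD1_c9 LD2_c44 LD3_c51) (LK LD1_c17 LD2_c54 LD3_c1) Lrfl Lrfl
theorem f297558 : Led Lsl_ff (LP (LK LD1_c16 LD2_c18 LD3_c26)) = (LP (LK LD1_c17 LD2_c54 LD3_c1)) :=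
  Lgr Lrot19 (Lpr_dt (f297550 IH) (Lpe (f297533 IH) (Lpr_dt (f168476 IH) (Lpn (LP (LK LD1_c17 LD2_c54 LD3_c1))))))
theorem f297501 : Led Lsl_ct (LP (LK LD1_c16 LD2_c18 LD3_c26)) = (LP (LK LD1_c26 LD2_c16 LD3_c9)) :=
  Lre_c IH (LK LD1_c16 LD2_c18 LD3_c26) (LK LD1_c26 LD2_c16 LD3_c9) Lrfl Lrfl
theorem f168483 : Led Lsl_ct (LP (LK LD1_c27 LD2_c39 LD3_c29)) = (LP (LK LD1_c17 LD2_c54 LD3_c1)) :=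
  Lre_c IH (LK LD1_c27 LD2_c39 LD3_c29) (LK LD1_c17 LD2_c54 LD3_c1) Lrfl Lrfl
theorem f297563 : Led Lsl_ft (LP (LK LD1_c26 LD2_c16 LD3_c9)) = (LP (LK LD1_c27 LD2_c39 LD3_c29)) :=
  Lgr Lrot4 (Lpe (f297501 IH) (Lpr_ff (f297558 IH) (Lpe (f168483 IH) (Lpn (LP (LK LD1_c27 LD2_c39 LD3_c29))))))
theorem f297496 : Led Lsl_df (LP (LK LD1_c25 LD2_c47 LD3_c23)) = (LP (LK LD1_c26 LD2_c16 LD3_c9)) :=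
  Lgr Lrot38 (Lpr_dt (K18.f297493 IH) (Lpn (LP (LK LD1_c26 LD2_c16 LD3_c9))))
theorem f201176 : Led Lsl_ct (LP (LK LD1_c25 LD2_c47 LD3_c23)) = (LP (LK LD1_c15 LD2_c51 LD3_c34)) :=
  Lre_c IH (LK LD1_c25 LD2_c47 LD3_c23) (LK LD1_c15 LD2_c51 LD3_c34) Lrfl Lrfl
theorem f168517 : Led Lsl_at (LP (LK LD1_c27 LD2_c39 LD3_c29)) = (LP (LK LD1_c17 LD2_c54 LD3_c5)) :=
  Lre_a IH (LK LD1_c27 LD2_c39 LD3_c29) (LK LD1_c17 LD2_c54 LD3_c5) Lrfl Lrfl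
theorem f168516 : Led Lsl_ct (LP (LK LD1_c9 LD2_c44 LD3_c52)) = (LP (LK LD1_c17 LD2_c54 LD3_c5)) :=
  Lre_c IH (LK LD1_c9 LD2_c44 LD3_c52) (LK LD1_c17 LD2_c54 LD3_c5) Lrfl Lrfl
theorem f297570 : Led Lsl_dt (LP (LK LD1_c8 LD2_c19 LD3_c56)) = (LP (LK LD1_c5 LD2_c29 LD3_c38)) :=
  Lgr Lrot140 (Lpe (K18.f220535 IH) (Lpr_df (K18.f220536 IH) (Lpe (f201176 IH) (Lpr_df (f297496 IH) (Lpr_ft (f297563 IH) (Lpr_at (f168517 IH) (Lpe (f168516 IH) (Lpe (K18.f168515 IH) (Lpr_cf (K18.f168363 IH) (Lpn (LP (LK LD1_c5 LD2_c29 LD3_c38))))))))))))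
theorem f232285 : Led Lsl_ct (LP (LK LD1_c8 LD2_c42 LD3_c34)) = (LP (LK LD1_c4 LD2_c22 LD3_c22)) :=
  Lre_c IH (LK LD1_c8 LD2_c42 LD3_c34) (LK LD1_c4 LD2_c22 LD3_c22) Lrfl Lrfl
theorem f297519 : Led Lsl_ft (LP (LK LD1_c5 LD2_c29 LD3_c38)) = (LP (LK LD1_c8 LD2_c42 LD3_c34)) :=
  Lgr Lrot4 (Lpe (K18.f168435 IH) (Lpr_ff (K18.f297504 IH) (Lpe (f232285 IH) (Lpn (LP (LK LD1_c8 LD2_c42 LD3_c34))))))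
theorem f297625 : Led Lsl_dt (LP (LK LD1_c8 LD2_c42 LD3_c34)) = (LP (LK LD1_c15 LD2_c34 LD3_c37)) :=
  Lgr Lrot60 (Lpe (f297519 IH) (Lpe (f297570 IH) (Lpr_ff (K18.f297618 IH) (Lpn (LP (LK LD1_c15 LD2_c34 LD3_c37))))))
theorem f297613 : Led Lsl_at (LP (LK LD1_c15 LD2_c34 LD3_c37)) = (LP (LK LD1_c25 LD2_c28 LD3_c39)) :=
  Lre_a IH (LK LD1_c15 LD2_c34 LD3_c37) (LK LD1_c25 LD2_c28 LD3_c39) Lrfl Lrfl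
theorem f297629 : Led Lsl_df (LP (LK LD1_c16 LD2_c18 LD3_c61)) = (LP (LK LD1_c25 LD2_c28 LD3_c39)) :=
  Lgr Lrot18 (Lpr_at (f296692 IH) (Lpr_dt (f297625 IH) (Lpr_at (f297613 IH) (Lpn (LP (LK LD1_c25 LD2_c28 LD3_c39))))))
theorem f1278 : Led Lsl_et (LP (LK LD1_c8 LD2_c19 LD3_c55)) = (LP (LK LD1_c4 LD2_c9 LD3_c52)) :=
  Lre_e IH (LK LD1_c8 LD2_c19 LD3_c55) (LK LD1_c4 LD2_c9 LD3_c52) Lrfl Lrfl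
theorem f217031 : Led Lsl_dt (LP (LK LD1_c15 LD2_c40 LD3_c48)) = (LP (LK LD1_c8 LD2_c19 LD3_c55)) :=
  Lre_d IH (LK LD1_c15 LD2_c40 LD3_c48) (LK LD1_c8 LD2_c19 LD3_c55) Lrfl Lrfl
theorem f219980 : Led Lsl_et (LP (LK LD1_c8 LD2_c6 LD3_c1)) = (LP (LK LD1_c15 LD2_c15 LD3_c2)) :=
  Lre_e IH (LK LD1_c8 LD2_c6 LD3_c1) (LK LD1_c15 LD2_c15 LD3_c2) Lrfl Lrfl
theorem f219981 : Led Lsl_dt (LP (LK LD1_c15 LD2_c15 LD3_c2)) = (LP (LK LD1_c25 LD2_c4 LD3_c7)) :=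
  Lre_d IH (LK LD1_c15 LD2_c15 LD3_c2) (LK LD1_c25 LD2_c4 LD3_c7) Lrfl Lrfl
theorem f219982 : Led Lsl_ef (LP (LK LD1_c15 LD2_c40 LD3_c48)) = (LP (LK LD1_c25 LD2_c4 LD3_c7)) :=
  Lgr Lrot73 (Lpr_dt (f217031 IH) (Lpr_et (f1278 IH) (Lpr_dt (K12.f219949 IH) (Lpr_et (f219980 IH) (Lpr_dt (f219981 IH) (Lpn (LP (LK LD1_c25 LD2_c4 LD3_c7))))))))
theorem f219991 : Led Lsl_et (LP (LK LD1_c15 LD2_c40 LD3_c48)) = (LP (LK LD1_c25 LD2_c4 LD3_c7)) :=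
  Lgr Lrot87 (Lpr_ef (f219982 IH) (Lpn (LP (LK LD1_c25 LD2_c4 LD3_c7))))
theorem f219994 : Led Lsl_bt (LP (LK LD1_c25 LD2_c36 LD3_c18)) = (LP (LK LD1_c15 LD2_c40 LD3_c48)) :=
  Lre_b IH (LK LD1_c25 LD2_c36 LD3_c18) (LK LD1_c15 LD2_c40 LD3_c48) Lrfl Lrfl
theorem f219995 : Led Lsl_bt (LP (LK LD1_c25 LD2_c4 LD3_c7)) = (LP (LK LD1_c31 LD2_c45 LD3_c22)) :=
  Lre_b IH (LK LD1_c25 LD2_c4 LD3_c7) (LK LD1_c31 LD2_c45 LD3_c22) Lrfl Lrfl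
theorem f219996 : Led Lsl_ef (LP (LK LD1_c25 LD2_c36 LD3_c18)) = (LP (LK LD1_c31 LD2_c45 LD3_c22)) :=
  Lgr Lrot29 (Lpr_bt (f219994 IH) (Lpr_et (f219991 IH) (Lpr_bt (f219995 IH) (Lpn (LP (LK LD1_c31 LD2_c45 LD3_c22))))))
theorem f220003 : Led Lsl_dt (LP (LK LD1_c25 LD2_c36 LD3_c18)) = (LP (LK LD1_c15 LD2_c40 LD3_c45)) :=
  Lre_d IH (LK LD1_c25 LD2_c36 LD3_c18) (LK LD1_c15 LD2_c40 LD3_c45) Lrfl Lrfl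
theorem f220004 : Led Lsl_et (LP (LK LD1_c15 LD2_c40 LD3_c45)) = (LP (LK LD1_c8 LD2_c19 LD3_c54)) :=
  Lre_e IH (LK LD1_c15 LD2_c40 LD3_c45) (LK LD1_c8 LD2_c19 LD3_c54) Lrfl Lrfl
theorem f220005 : Led Lsl_dt (LP (LK LD1_c25 LD2_c4 LD3_c6)) = (LP (LK LD1_c31 LD2_c45 LD3_c22)) :=
  Lre_d IH (LK LD1_c25 LD2_c4 LD3_c6) (LK LD1_c31 LD2_c45 LD3_c22) Lrfl Lrfl
theorem f220006 : Led Lsl_et (LP (LK LD1_c15 LD2_c15 LD3_c1)) = (LP (LK LD1_c25 LD2_c4 LD3_c6)) :=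
  Lre_e IH (LK LD1_c15 LD2_c15 LD3_c1) (LK LD1_c25 LD2_c4 LD3_c6) Lrfl Lrfl
theorem f220007 : Led Lsl_dt (LP (LK LD1_c8 LD2_c19 LD3_c54)) = (LP (LK LD1_c15 LD2_c15 LD3_c1)) :=
  Lgr Lrot77 (Lpe (f220004 IH) (Lpe (f220003 IH) (Lpr_ef (f219996 IH) (Lpe (f220005 IH) (Lpe (f220006 IH) (Lpn (LP (LK LD1_c15 LD2_c15 LD3_c1))))))))
theorem f220012 : Led Lsl_at (LP (LK LD1_c15 LD2_c40 LD3_c43)) = (LP (LK LD1_c8 LD2_c19 LD3_c54)) :=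
  Lre_a IH (LK LD1_c15 LD2_c40 LD3_c43) (LK LD1_c8 LD2_c19 LD3_c54) Lrfl Lrfl
theorem f220013 : Led Lsl_at (LP (LK LD1_c15 LD2_c15 LD3_c1)) = (LP (LK LD1_c25 LD2_c4 LD3_c5)) :=
  Lre_a IH (LK LD1_c15 LD2_c15 LD3_c1) (LK LD1_c25 LD2_c4 LD3_c5) Lrfl Lrfl
theorem f220014 : Led Lsl_df (LP (LK LD1_c15 LD2_c40 LD3_c43)) = (LP (LK LD1_c25 LD2_c4 LD3_c5)) :=
  Lgr Lrot18 (Lpr_at (f220012 IH) (Lpr_dt (f220007 IH) (Lpr_at (f220013 IH) (Lpn (LP (LK LD1_c25 LD2_c4 LD3_c5))))))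
theorem f309448 : Led Lsl_bf (LP (LK LD1_c25 LD2_c28 LD3_c39)) = (LP (LK LD1_c15 LD2_c40 LD3_c43)) :=
  Lgr Lrot93 (Lpe (f297629 IH) (Lpr_bt (f309442 IH) (Lpe (f220014 IH) (Lpn (LP (LK LD1_c15 LD2_c40 LD3_c43))))))
theorem f309450 : Led Lsl_bt (LP (LK LD1_c25 LD2_c28 LD3_c39)) = (LP (LK LD1_c15 LD2_c40 LD3_c43)) :=
  Lgr Lrot127 (Lpr_bf (f309448 IH) (Lpn (LP (LK LD1_c15 LD2_c40 LD3_c43))))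
theorem f51484 : Led Lsl_bt (LP (LK LD1_c8 LD2_c19 LD3_c54)) = (LP (LK LD1_c4 LD2_c9 LD3_c52)) :=
  Lre_b IH (LK LD1_c8 LD2_c19 LD3_c54) (LK LD1_c4 LD2_c9 LD3_c52) Lrfl Lrfl
theorem f309452 : Led Lsl_af (LP (LK LD1_c8 LD2_c16 LD3_c59)) = (LP (LK LD1_c4 LD2_c9 LD3_c52)) :=
  Lgr Lrot36 (Lpr_bt (K18.f250714 IH) (Lpr_at (f297613 IH) (Lpr_bt (f309450 IH) (Lpr_at (f220012 IH) (Lpr_bt (f51484 IH) (Lpn (LP (LK LD1_c4 LD2_c9 LD3_c52))))))))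
theorem f216991 : Led Lsl_at (LP (LK LD1_c5 LD2_c29 LD3_c26)) = (LP (LK LD1_c2 LD2_c41 LD3_c19)) :=
  Lre_a IH (LK LD1_c5 LD2_c29 LD3_c26) (LK LD1_c2 LD2_c41 LD3_c19) Lrfl Lrfl
theorem f220030 : Led Lsl_ff (LP (LK LD1_c5 LD2_c29 LD3_c26)) = (LP (LK LD1_c8 LD2_c6 LD3_c5)) :=
  Lgr Lrot103 (Lpr_at (f216991 IH) (Lpe (K12.f216998 IH) (Lpr_df (K12.f219978 IH) (Lpe (K14.f219951 IH) (Lpe (K12.f219947 IH) (Lpe (K12.f212778 IH) (Lpe (K13.f51400 IH) (Lpe (K14.f196394 IH) (Lpe (K12.f196393 IH) (Lpn (LP (LK LD1_c8 LD2_c6 LD3_c5))))))))))))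
theorem f266333 : Led Lsl_ff (LP (LK LD1_c4 LD2_c9 LD3_c53)) = (LP (LK LD1_c8 LD2_c16 LD3_c59)) :=
  Lgr Lrot23 (Lpr_ct (K13.f222529 IH) (Lpe (f220030 IH) (Lpr_ct (K15.f266325 IH) (Lpn (LP (LK LD1_c8 LD2_c16 LD3_c59))))))
theorem f266427 : Led Lsl_ff (LP (LK LD1_c4 LD2_c9 LD3_c52)) = (LP (LK LD1_c8 LD2_c16 LD3_c60)) :=
  Lgr Lrot19 (Lpr_dt (K12.f219949 IH) (Lpe (K12.f220036 IH) (Lpr_dt (K15.f266420 IH) (Lpn (LP (LK LD1_c8 LD2_c16 LD3_c60))))))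
theorem f309458 : Led Lsl_at (LP (LK LD1_c4 LD2_c9 LD3_c53)) = (LP (LK LD1_c8 LD2_c16 LD3_c60)) :=
  Lgr Lrot66 (Lpr_ff (f266333 IH) (Lpr_af (f309452 IH) (Lpr_ff (f266427 IH) (Lpn (LP (LK LD1_c8 LD2_c16 LD3_c60))))))
theorem f309460 : Led Lsl_af (LP (LK LD1_c8 LD2_c6 LD3_c5)) = (LP (LK LD1_c4 LD2_c28 LD3_c50)) :=
  Lgr Lrot68 (Lpe (K12.f222519 IH) (Lpr_at (f309458 IH) (Lpr_ct (K15.f258670 IH) (Lpn (LP (LK LD1_c4 LD2_c28 LD3_c50))))))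
theorem f309471 : Led Lsl_ft (LP (LK LD1_c2 LD2_c41 LD3_c19)) = (LP (LK LD1_c4 LD2_c28 LD3_c50)) :=
  Lgr Lrot101 (Lpe (f216991 IH) (Lpr_ff (f220030 IH) (Lpr_af (f309460 IH) (Lpn (LP (LK LD1_c4 LD2_c28 LD3_c50))))))
theorem f309477 : Led Lsl_ff (LP (LK LD1_c2 LD2_c41 LD3_c19)) = (LP (LK LD1_c4 LD2_c28 LD3_c50)) :=
  Lgr Lrot3 (Lpr_ft (f309471 IH) (Lpn (LP (LK LD1_c4 LD2_c28 LD3_c50))))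
theorem f309481 : Led Lsl_ft (LP (LK LD1_c1 LD2_c17 LD3_c19)) = (LP (LK LD1_c2 LD2_c11 LD3_c26)) :=
  Lgr Lrot54 (Lpe (K12.f216962 IH) (Lpr_ff (f309477 IH) (Lpe (K13.f173345 IH) (Lpn (LP (LK LD1_c2 LD2_c11 LD3_c26))))))
theorem f258745 : Led Lsl_et (LP (LK LD1_c2 LD2_c41 LD3_c20)) = (LP (LK LD1_c1 LD2_c17 LD3_c19)) :=
  Lre_e IH (LK LD1_c2 LD2_c41 LD3_c20) (LK LD1_c1 LD2_c17 LD3_c19) Lrfl Lrfl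
theorem f300939 : Led Lsl_ft (LP (LK LD1_c5 LD2_c30 LD3_c9)) = (LP (LK LD1_c2 LD2_c41 LD3_c20)) :=
  Lre_f IH (LK LD1_c5 LD2_c30 LD3_c9) (LK LD1_c2 LD2_c41 LD3_c20) Lrfl Lrfl
theorem f258667 : Led Lsl_et (LP (LK LD1_c2 LD2_c11 LD3_c26)) = (LP (LK LD1_c4 LD2_c28 LD3_c51)) :=
  Lre_e IH (LK LD1_c2 LD2_c11 LD3_c26) (LK LD1_c4 LD2_c28 LD3_c51) Lrfl Lrfl
theorem f309489 : Led Lsl_ft (LP (LK LD1_c4 LD2_c28 LD3_c51)) = (LP (LK LD1_c8 LD2_c56 LD3_c2)) :=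
  Lre_f IH (LK LD1_c4 LD2_c28 LD3_c51) (LK LD1_c8 LD2_c56 LD3_c2) Lrfl Lrfl
theorem f309490 : Led Lsl_ef (LP (LK LD1_c5 LD2_c30 LD3_c9)) = (LP (LK LD1_c8 LD2_c56 LD3_c2)) :=
  Lgr Lrot21 (Lpr_ft (f300939 IH) (Lpr_et (f258745 IH) (Lpr_ft (f309481 IH) (Lpr_et (f258667 IH) (Lpr_ft (f309489 IH) (Lpn (LP (LK LD1_c8 LD2_c56 LD3_c2))))))))
theorem f309495 : Led Lsl_et (LP (LK LD1_c5 LD2_c30 LD3_c9)) = (LP (LK LD1_c8 LD2_c56 LD3_c2)) :=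
  Lgr Lrot87 (Lpr_ef (f309490 IH) (Lpn (LP (LK LD1_c8 LD2_c56 LD3_c2))))
theorem f197557 : Led Lsl_ct (LP (LK LD1_c8 LD2_c56 LD3_c2)) = (LP (LK LD1_c4 LD2_c28 LD3_c54)) :=
  Lre_c IH (LK LD1_c8 LD2_c56 LD3_c2) (LK LD1_c4 LD2_c28 LD3_c54) Lrfl Lrfl
theorem f309497 : Led Lsl_ef (LP (LK LD1_c2 LD2_c41 LD3_c24)) = (LP (LK LD1_c4 LD2_c28 LD3_c54)) :=
  Lgr Lrot28 (Lpr_ct (K18.f245819 IH) (Lpr_et (f309495 IH) (Lpr_ct (f197557 IH) (Lpn (LP (LK LD1_c4 LD2_c28 LD3_c54))))))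
theorem f197553 : Led Lsl_bt (LP (LK LD1_c2 LD2_c11 LD3_c37)) = (LP (LK LD1_c4 LD2_c28 LD3_c54)) :=
  Lre_b IH (LK LD1_c2 LD2_c11 LD3_c37) (LK LD1_c4 LD2_c28 LD3_c54) Lrfl Lrfl
theorem f309503 : Led Lsl_et (LP (LK LD1_c1 LD2_c17 LD3_c31)) = (LP (LK LD1_c2 LD2_c11 LD3_c37)) :=
  Lgr Lrot74 (Lpe (K18.f245785 IH) (Lpr_ef (f309497 IH) (Lpe (f197553 IH) (Lpn (LP (LK LD1_c2 LD2_c11 LD3_c37))))))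
theorem f309511 : Led Lsl_ef (LP (LK LD1_c1 LD2_c17 LD3_c31)) = (LP (LK LD1_c2 LD2_c11 LD3_c37)) :=
  Lgr Lrot88 (Lpr_et (f309503 IH) (Lpn (LP (LK LD1_c2 LD2_c11 LD3_c37))))
theorem f245810 : Led Lsl_dt (LP (LK LD1_c1 LD2_c17 LD3_c31)) = (LP (LK LD1_c2 LD2_c41 LD3_c44)) :=
  Lre_d IH (LK LD1_c1 LD2_c17 LD3_c31) (LK LD1_c2 LD2_c41 LD3_c44) Lrfl Lrfl
theorem f197521 : Led Lsl_et (LP (LK LD1_c1 LD2_c25 LD3_c20)) = (LP (LK LD1_c2 LD2_c59 LD3_c16)) :=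
  Lre_e IH (LK LD1_c1 LD2_c25 LD3_c20) (LK LD1_c2 LD2_c59 LD3_c16) Lrfl Lrfl
theorem f197522 : Led Lsl_et (LP (LK LD1_c2 LD2_c11 LD3_c27)) = (LP (LK LD1_c1 LD2_c2 LD3_c42)) :=
  Lre_e IH (LK LD1_c2 LD2_c11 LD3_c27) (LK LD1_c1 LD2_c2 LD3_c42) Lrfl Lrfl
theorem f197523 : Led Lsl_dt (LP (LK LD1_c2 LD2_c59 LD3_c16)) = (LP (LK LD1_c2 LD2_c11 LD3_c27)) :=
  Lgr Lrot77 (Lpe (f197521 IH) (Lpr_df (K18.f197519 IH) (Lpe (K15.f173266 IH) (Lpe (K14.f173256 IH) (Lpe (f197522 IH) (Lpn (LP (LK LD1_c2 LD2_c11 LD3_c27))))))))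
theorem f197537 : Led Lsl_ft (LP (LK LD1_c2 LD2_c11 LD3_c27)) = (LP (LK LD1_c4 LD2_c28 LD3_c54)) :=
  Lre_f IH (LK LD1_c2 LD2_c11 LD3_c27) (LK LD1_c4 LD2_c28 LD3_c54) Lrfl Lrfl
theorem f197538 : Led Lsl_df (LP (LK LD1_c6 LD2_c6 LD3_c23)) = (LP (LK LD1_c4 LD2_c28 LD3_c54)) :=
  Lgr Lrot78 (Lpr_ft (K18.f197536 IH) (Lpr_dt (f197523 IH) (Lpr_ft (f197537 IH) (Lpn (LP (LK LD1_c4 LD2_c28 LD3_c54))))))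
theorem f197552 : Led Lsl_bt (LP (LK LD1_c6 LD2_c6 LD3_c23)) = (LP (LK LD1_c2 LD2_c59 LD3_c21)) :=
  Lre_b IH (LK LD1_c6 LD2_c6 LD3_c23) (LK LD1_c2 LD2_c59 LD3_c21) Lrfl Lrfl
theorem f197554 : Led Lsl_dt (LP (LK LD1_c2 LD2_c59 LD3_c21)) = (LP (LK LD1_c2 LD2_c11 LD3_c37)) :=
  Lgr Lrot79 (Lpe (f197552 IH) (Lpr_df (f197538 IH) (Lpe (f197553 IH) (Lpn (LP (LK LD1_c2 LD2_c11 LD3_c37))))))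
theorem f309513 : Led Lsl_et (LP (LK LD1_c2 LD2_c39 LD3_c45)) = (LP (LK LD1_c2 LD2_c59 LD3_c21)) :=
  Lgr Lrot71 (Lpr_df (K13.f245928 IH) (Lpe (K13.f245822 IH) (Lpe (f245810 IH) (Lpr_ef (f309511 IH) (Lpe (f197554 IH) (Lpn (LP (LK LD1_c2 LD2_c59 LD3_c21))))))))
theorem f179793 : Led Lsl_ft (LP (LK LD1_c1 LD2_c25 LD3_c19)) = (LP (LK LD1_c2 LD2_c59 LD3_c14)) :=
  Lre_f IH (LK LD1_c1 LD2_c25 LD3_c19) (LK LD1_c2 LD2_c59 LD3_c14) Lrfl Lrfl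
theorem f246005 : Led Lsl_af (LP (LK LD1_c2 LD2_c39 LD3_c45)) = (LP (LK LD1_c2 LD2_c59 LD3_c14)) :=
  Lgr Lrot45 (Lpr_ft (K13.f245927 IH) (Lpr_at (K13.f245992 IH) (Lpr_ft (f179793 IH) (Lpn (LP (LK LD1_c2 LD2_c59 LD3_c14))))))
theorem f8426 : Led Lsl_et (LP (LK LD1_c0 LD2_c35 LD3_c29)) = (LP (LK LD1_c1 LD2_c16 LD3_c40)) :=
  Lre_e IH (LK LD1_c0 LD2_c35 LD3_c29) (LK LD1_c1 LD2_c16 LD3_c40) Lrfl Lrfl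
theorem f246038 : Led Lsl_ft (LP (LK LD1_c1 LD2_c16 LD3_c40)) = (LP (LK LD1_c2 LD2_c39 LD3_c52)) :=
  Lre_f IH (LK LD1_c1 LD2_c16 LD3_c40) (LK LD1_c2 LD2_c39 LD3_c52) Lrfl Lrfl
theorem f179792 : Led Lsl_ft (LP (LK LD1_c2 LD2_c59 LD3_c14)) = (LP (LK LD1_c1 LD2_c25 LD3_c19)) :=
  Lre_f IH (LK LD1_c2 LD2_c59 LD3_c14) (LK LD1_c1 LD2_c25 LD3_c19) Lrfl Lrfl
theorem f246039 : Led Lsl_et (LP (LK LD1_c2 LD2_c39 LD3_c52)) = (LP (LK LD1_c2 LD2_c59 LD3_c14)) :=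
  Lgr Lrot69 (Lpe (f246038 IH) (Lpe (f8426 IH) (Lpr_ff (K13.f246030 IH) (Lpe (K13.f8577 IH) (Lpe (f179792 IH) (Lpn (LP (LK LD1_c2 LD2_c59 LD3_c14))))))))
theorem f309515 : Led Lsl_af (LP (LK LD1_c2 LD2_c39 LD3_c52)) = (LP (LK LD1_c2 LD2_c59 LD3_c21)) :=
  Lgr Lrot50 (Lpr_et (f246039 IH) (Lpe (f246005 IH) (Lpr_et (f309513 IH) (Lpn (LP (LK LD1_c2 LD2_c59 LD3_c21))))))
theorem f309517 : Led Lsl_at (LP (LK LD1_c2 LD2_c39 LD3_c52)) = (LP (LK LD1_c2 LD2_c59 LD3_c21)) :=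
  Lgr Lrot100 (Lpr_af (f309515 IH) (Lpn (LP (LK LD1_c2 LD2_c59 LD3_c21))))
theorem f179051 : Led Lsl_gt (LP (LK LD1_c1 LD2_c16 LD3_c40)) = (LP (LK LD1_c2 LD2_c39 LD3_c50)) :=
  Lre_g IH (LK LD1_c1 LD2_c16 LD3_c40) (LK LD1_c2 LD2_c39 LD3_c50) Lrfl Lrfl
theorem f309699 : Led Lsl_gt (LP (LK LD1_c2 LD2_c39 LD3_c50)) = (LP (LK LD1_c2 LD2_c59 LD3_c21)) :=
  Lgr Lrot46 (Lpe (f179051 IH) (Lpr_ft (f246038 IH) (Lpr_at (f309517 IH) (Lpn (LP (LK LD1_c2 LD2_c59 LD3_c21))))))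
theorem f197559 : Led Lsl_dt (LP (LK LD1_c6 LD2_c6 LD3_c23)) = (LP (LK LD1_c4 LD2_c28 LD3_c54)) :=
  Lgr Lrot42 (Lpr_df (f197538 IH) (Lpn (LP (LK LD1_c4 LD2_c28 LD3_c54))))
theorem f197564 : Led Lsl_bt (LP (LK LD1_c2 LD2_c59 LD3_c21)) = (LP (LK LD1_c6 LD2_c6 LD3_c23)) :=
  Lre_b IH (LK LD1_c2 LD2_c59 LD3_c21) (LK LD1_c6 LD2_c6 LD3_c23) Lrfl Lrfl
theorem f197565 : Led Lsl_bt (LP (LK LD1_c4 LD2_c28 LD3_c54)) = (LP (LK LD1_c2 LD2_c11 LD3_c37)) :=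
  Lre_b IH (LK LD1_c4 LD2_c28 LD3_c54) (LK LD1_c2 LD2_c11 LD3_c37) Lrfl Lrfl
theorem f197566 : Led Lsl_df (LP (LK LD1_c2 LD2_c59 LD3_c21)) = (LP (LK LD1_c2 LD2_c11 LD3_c37)) :=
  Lgr Lrot12 (Lpr_bt (f197564 IH) (Lpr_dt (f197559 IH) (Lpr_bt (f197565 IH) (Lpn (LP (LK LD1_c2 LD2_c11 LD3_c37))))))
theorem f183343 : Led Lsl_et (LP (LK LD1_c0 LD2_c39 LD3_c20)) = (LP (LK LD1_c1 LD2_c25 LD3_c22)) :=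
  Lre_e IH (LK LD1_c0 LD2_c39 LD3_c20) (LK LD1_c1 LD2_c25 LD3_c22) Lrfl Lrfl
theorem f195705 : Led Lsl_gt (LP (LK LD1_c1 LD2_c25 LD3_c22)) = (LP (LK LD1_c2 LD2_c59 LD3_c19)) :=
  Lre_g IH (LK LD1_c1 LD2_c25 LD3_c22) (LK LD1_c2 LD2_c59 LD3_c19) Lrfl Lrfl
theorem f309701 : Led Lsl_df (LP (LK LD1_c2 LD2_c39 LD3_c50)) = (LP (LK LD1_c2 LD2_c59 LD3_c19)) :=
  Lgr Lrot135 (Lpr_gt (f309699 IH) (Lpr_df (f197566 IH) (Lpe (f309511 IH) (Lpr_gt (K13.f245808 IH) (Lpe (K16.f195718 IH) (Lpr_dt (K14.f195700 IH) (Lpr_gt (K9.f173196 IH) (Lpe (K11.f183341 IH) (Lpr_et (f183343 IH) (Lpr_gt (f195705 IH) (Lpn (LP (LK LD1_c2 LD2_c59 LD3_c19)))))))))))))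
theorem f309703 : Led Lsl_dt (LP (LK LD1_c2 LD2_c39 LD3_c50)) = (LP (LK LD1_c2 LD2_c59 LD3_c19)) :=
  Lgr Lrot42 (Lpr_df (f309701 IH) (Lpn (LP (LK LD1_c2 LD2_c59 LD3_c19))))
theorem f179057 : Led Lsl_et (LP (LK LD1_c2 LD2_c39 LD3_c50)) = (LP (LK LD1_c5 LD2_c26 LD3_c53)) :=
  Lre_e IH (LK LD1_c2 LD2_c39 LD3_c50) (LK LD1_c5 LD2_c26 LD3_c53) Lrfl Lrfl
theorem f197525 : Led Lsl_bt (LP (LK LD1_c1 LD2_c25 LD3_c22)) = (LP (LK LD1_c2 LD2_c59 LD3_c16)) :=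
  Lre_b IH (LK LD1_c1 LD2_c25 LD3_c22) (LK LD1_c2 LD2_c59 LD3_c16) Lrfl Lrfl
theorem f197526 : Led Lsl_bt (LP (LK LD1_c2 LD2_c11 LD3_c27)) = (LP (LK LD1_c1 LD2_c2 LD3_c46)) :=
  Lre_b IH (LK LD1_c2 LD2_c11 LD3_c27) (LK LD1_c1 LD2_c2 LD3_c46) Lrfl Lrfl
theorem f197527 : Led Lsl_df (LP (LK LD1_c1 LD2_c25 LD3_c22)) = (LP (LK LD1_c1 LD2_c2 LD3_c46)) :=
  Lgr Lrot12 (Lpr_bt (f197525 IH) (Lpr_dt (f197523 IH) (Lpr_bt (f197526 IH) (Lpn (LP (LK LD1_c1 LD2_c2 LD3_c46))))))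
theorem f197584 : Led Lsl_gt (LP (LK LD1_c2 LD2_c11 LD3_c36)) = (LP (LK LD1_c1 LD2_c2 LD3_c46)) :=
  Lre_g IH (LK LD1_c2 LD2_c11 LD3_c36) (LK LD1_c1 LD2_c2 LD3_c46) Lrfl Lrfl
theorem f197585 : Led Lsl_et (LP (LK LD1_c4 LD2_c29 LD3_c0)) = (LP (LK LD1_c2 LD2_c11 LD3_c36)) :=
  Lre_e IH (LK LD1_c4 LD2_c29 LD3_c0) (LK LD1_c2 LD2_c11 LD3_c36) Lrfl Lrfl
theorem f197586 : Led Lsl_dt (LP (LK LD1_c4 LD2_c29 LD3_c0)) = (LP (LK LD1_c5 LD2_c35 LD3_c3)) :=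
  Lre_d IH (LK LD1_c4 LD2_c29 LD3_c0) (LK LD1_c5 LD2_c35 LD3_c3) Lrfl Lrfl
theorem f197587 : Led Lsl_gt (LP (LK LD1_c2 LD2_c43 LD3_c25)) = (LP (LK LD1_c5 LD2_c35 LD3_c3)) :=
  Lre_g IH (LK LD1_c2 LD2_c43 LD3_c25) (LK LD1_c5 LD2_c35 LD3_c3) Lrfl Lrfl
theorem f7613 : Led Lsl_dt (LP (LK LD1_c1 LD2_c18 LD3_c7)) = (LP (LK LD1_c2 LD2_c43 LD3_c25)) :=
  Lre_d IH (LK LD1_c1 LD2_c18 LD3_c7) (LK LD1_c2 LD2_c43 LD3_c25) Lrfl Lrfl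
theorem f197588 : Led Lsl_et (LP (LK LD1_c1 LD2_c18 LD3_c7)) = (LP (LK LD1_c2 LD2_c43 LD3_c26)) :=
  Lre_e IH (LK LD1_c1 LD2_c18 LD3_c7) (LK LD1_c2 LD2_c43 LD3_c26) Lrfl Lrfl
theorem f309767 : Led Lsl_gt (LP (LK LD1_c5 LD2_c26 LD3_c53)) = (LP (LK LD1_c2 LD2_c43 LD3_c26)) :=
  Lgr Lrot131 (Lpe (f179057 IH) (Lpr_dt (f309703 IH) (Lpe (f195705 IH) (Lpr_df (f197527 IH) (Lpe (f197584 IH) (Lpe (f197585 IH) (Lpr_dt (f197586 IH) (Lpe (f197587 IH) (Lpe (f7613 IH) (Lpr_et (f197588 IH) (Lpn (LP (LK LD1_c2 LD2_c43 LD3_c26)))))))))))))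
theorem f183327 : Led Lsl_et (LP (LK LD1_c1 LD2_c2 LD3_c46)) = (LP (LK LD1_c0 LD2_c28 LD3_c36)) :=
  Lre_e IH (LK LD1_c1 LD2_c2 LD3_c46) (LK LD1_c0 LD2_c28 LD3_c36) Lrfl Lrfl
theorem f255002 : Led Lsl_dt (LP (LK LD1_c2 LD2_c11 LD3_c32)) = (LP (LK LD1_c1 LD2_c14 LD3_c28)) :=
  Lgr Lrot42 (Lpr_df (K14.f254998 IH) (Lpn (LP (LK LD1_c1 LD2_c14 LD3_c28))))
theorem f309776 : Led Lsl_df (LP (LK LD1_c2 LD2_c34 LD3_c58)) = (LP (LK LD1_c2 LD2_c43 LD3_c26)) :=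
  Lgr Lrot135 (Lpr_gt (K14.f170023 IH) (Lpe (f255002 IH) (Lpr_et (K16.f197589 IH) (Lpr_gt (K12.f173184 IH) (Lpe (f183327 IH) (Lpe (f197527 IH) (Lpr_gt (f195705 IH) (Lpe (f309703 IH) (Lpr_et (f179057 IH) (Lpr_gt (f309767 IH) (Lpn (LP (LK LD1_c2 LD2_c43 LD3_c26)))))))))))))
theorem f183131 : Led Lsl_ct (LP (LK LD1_c2 LD2_c44 LD3_c11)) = (LP (LK LD1_c1 LD2_c18 LD3_c27)) :=
  Lre_c IH (LK LD1_c2 LD2_c44 LD3_c11) (LK LD1_c1 LD2_c18 LD3_c27) Lrfl Lrfl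
theorem f166691 : Led Lsl_ft (LP (LK LD1_c0 LD2_c26 LD3_c37)) = (LP (LK LD1_c0 LD2_c58 LD3_c47)) :=
  Lre_f IH (LK LD1_c0 LD2_c26 LD3_c37) (LK LD1_c0 LD2_c58 LD3_c47) Lrfl Lrfl
theorem f250266 : Led Lsl_ft (LP (LK LD1_c1 LD2_c0 LD3_c43)) = (LP (LK LD1_c0 LD2_c27 LD3_c37)) :=
  Lre_f IH (LK LD1_c1 LD2_c0 LD3_c43) (LK LD1_c0 LD2_c27 LD3_c37) Lrfl Lrfl
theorem f250267 : Led Lsl_et (LP (LK LD1_c0 LD2_c58 LD3_c47)) = (LP (LK LD1_c1 LD2_c0 LD3_c43)) :=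
  Lgr Lrot69 (Lpe (f166691 IH) (Lpe (K9.f166686 IH) (Lpr_ff (K14.f250258 IH) (Lpe (K9.f179844 IH) (Lpe (f250266 IH) (Lpn (LP (LK LD1_c1 LD2_c0 LD3_c43))))))))
theorem f253498 : Led Lsl_dt (LP (LK LD1_c0 LD2_c33 LD3_c56)) = (LP (LK LD1_c0 LD2_c58 LD3_c47)) :=
  Lgr Lrot27 (Lpe (K10.f163928 IH) (Lpe (K10.f171618 IH) (Lpe (K2.f32285 IH) (Lpe (K9.f31448 IH) (Lpe (K9.f167613 IH) (Lpr_gt (K12.f212096 IH) (Lpr_ct (K12.f182491 IH) (Lpr_gt (K14.f253490 IH) (Lpr_ct (K14.f199157 IH) (Lpn (LP (LK LD1_c0 LD2_c58 LD3_c47))))))))))))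
theorem f21991 : Led Lsl_et (LP (LK LD1_c1 LD2_c13 LD3_c11)) = (LP (LK LD1_c0 LD2_c33 LD3_c56)) :=
  Lre_e IH (LK LD1_c1 LD2_c13 LD3_c11) (LK LD1_c0 LD2_c33 LD3_c56) Lrfl Lrfl
theorem f253538 : Led Lsl_dt (LP (LK LD1_c1 LD2_c18 LD3_c27)) = (LP (LK LD1_c1 LD2_c13 LD3_c11)) :=
  Lgr Lrot77 (Lpe (K14.f253537 IH) (Lpr_df (K14.f253528 IH) (Lpe (f250267 IH) (Lpe (f253498 IH) (Lpe (f21991 IH) (Lpn (LP (LK LD1_c1 LD2_c13 LD3_c11))))))))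
theorem f248716 : Led Lsl_ct (LP (LK LD1_c2 LD2_c32 LD3_c23)) = (LP (LK LD1_c1 LD2_c13 LD3_c11)) :=
  Lre_c IH (LK LD1_c2 LD2_c32 LD3_c23) (LK LD1_c1 LD2_c13 LD3_c11) Lrfl Lrfl
theorem f249946 : Led Lsl_gt (LP (LK LD1_c5 LD2_c10 LD3_c44)) = (LP (LK LD1_c2 LD2_c32 LD3_c23)) :=
  Lre_g IH (LK LD1_c5 LD2_c10 LD3_c44) (LK LD1_c2 LD2_c32 LD3_c23) Lrfl Lrfl
theorem f249945 : Led Lsl_dt (LP (LK LD1_c9 LD2_c55 LD3_c53)) = (LP (LK LD1_c5 LD2_c2 LD3_c30)) :=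
  Lre_d IH (LK LD1_c9 LD2_c55 LD3_c53) (LK LD1_c5 LD2_c2 LD3_c30) Lrfl Lrfl
theorem f249931 : Led Lsl_gt (LP (LK LD1_c2 LD2_c29 LD3_c6)) = (LP (LK LD1_c1 LD2_c15 LD3_c0)) :=
  Lgr Lrot180 (Lpr_ct (K10.f177206 IH) (Lpr_gt (K9.f164091 IH) (Lpr_dt (K8.f163702 IH) (Lpe (K9.f163639 IH) (Lpr_dt (K10.f53189 IH) (Lpr_ct (K14.f249915 IH) (Lpe (K14.f165813 IH) (Lpe (K9.f165778 IH) (Lpe (K2.f31619 IH) (Lpn (LP (LK LD1_c1 LD2_c15 LD3_c0))))))))))))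
theorem f249938 : Led Lsl_et (LP (LK LD1_c5 LD2_c2 LD3_c30)) = (LP (LK LD1_c2 LD2_c28 LD3_c49)) :=
  Lre_e IH (LK LD1_c5 LD2_c2 LD3_c30) (LK LD1_c2 LD2_c28 LD3_c49) Lrfl Lrfl
theorem f249939 : Led Lsl_dt (LP (LK LD1_c5 LD2_c2 LD3_c30)) = (LP (LK LD1_c9 LD2_c55 LD3_c53)) :=
  Lre_d IH (LK LD1_c5 LD2_c2 LD3_c30) (LK LD1_c9 LD2_c55 LD3_c53) Lrfl Lrfl
theorem f35066 : Led Lsl_dt (LP (LK LD1_c1 LD2_c14 LD3_c31)) = (LP (LK LD1_c2 LD2_c35 LD3_c6)) :=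
  Lre_d IH (LK LD1_c1 LD2_c14 LD3_c31) (LK LD1_c2 LD2_c35 LD3_c6) Lrfl Lrfl
theorem f35108 : Led Lsl_et (LP (LK LD1_c2 LD2_c35 LD3_c6)) = (LP (LK LD1_c5 LD2_c16 LD3_c49)) :=
  Lre_e IH (LK LD1_c2 LD2_c35 LD3_c6) (LK LD1_c5 LD2_c16 LD3_c49) Lrfl Lrfl
theorem f48577 : Led Lsl_et (LP (LK LD1_c5 LD2_c18 LD3_c53)) = (LP (LK LD1_c2 LD2_c36 LD3_c1)) :=
  Lre_e IH (LK LD1_c5 LD2_c18 LD3_c53) (LK LD1_c2 LD2_c36 LD3_c1) Lrfl Lrfl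
theorem f48578 : Led Lsl_dt (LP (LK LD1_c5 LD2_c16 LD3_c49)) = (LP (LK LD1_c5 LD2_c18 LD3_c53)) :=
  Lgr Lrot77 (Lpe (f35108 IH) (Lpe (f35066 IH) (Lpr_ef (K10.f48563 IH) (Lpe (K2.f48576 IH) (Lpe (f48577 IH) (Lpn (LP (LK LD1_c5 LD2_c18 LD3_c53))))))))
theorem f48595 : Led Lsl_df (LP (LK LD1_c5 LD2_c16 LD3_c49)) = (LP (LK LD1_c5 LD2_c18 LD3_c53)) :=
  Lgr Lrot38 (Lpr_dt (f48578 IH) (Lpn (LP (LK LD1_c5 LD2_c18 LD3_c53))))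
theorem f32642 : Led Lsl_bt (LP (LK LD1_c5 LD2_c16 LD3_c49)) = (LP (LK LD1_c2 LD2_c35 LD3_c8)) :=
  Lre_b IH (LK LD1_c5 LD2_c16 LD3_c49) (LK LD1_c2 LD2_c35 LD3_c8) Lrfl Lrfl
theorem f48609 : Led Lsl_dt (LP (LK LD1_c2 LD2_c35 LD3_c8)) = (LP (LK LD1_c2 LD2_c36 LD3_c3)) :=
  Lgr Lrot79 (Lpe (f32642 IH) (Lpr_df (f48595 IH) (Lpe (K2.f32641 IH) (Lpn (LP (LK LD1_c2 LD2_c36 LD3_c3))))))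
theorem f32723 : Led Lsl_et (LP (LK LD1_c1 LD2_c14 LD3_c32)) = (LP (LK LD1_c2 LD2_c35 LD3_c8)) :=
  Lre_e IH (LK LD1_c1 LD2_c14 LD3_c32) (LK LD1_c2 LD2_c35 LD3_c8) Lrfl Lrfl
theorem f32722 : Led Lsl_et (LP (LK LD1_c2 LD2_c36 LD3_c3)) = (LP (LK LD1_c1 LD2_c15 LD3_c0)) :=
  Lre_e IH (LK LD1_c2 LD2_c36 LD3_c3) (LK LD1_c1 LD2_c15 LD3_c0) Lrfl Lrfl
theorem f48620 : Led Lsl_ef (LP (LK LD1_c0 LD2_c34 LD3_c33)) = (LP (LK LD1_c0 LD2_c34 LD3_c48)) :=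
  Lgr Lrot73 (Lpr_dt (K2.f32286 IH) (Lpr_et (f32723 IH) (Lpr_dt (f48609 IH) (Lpr_et (f32722 IH) (Lpr_dt (K2.f31619 IH) (Lpn (LP (LK LD1_c0 LD2_c34 LD3_c48))))))))
theorem f171630 : Led Lsl_et (LP (LK LD1_c2 LD2_c32 LD3_c23)) = (LP (LK LD1_c1 LD2_c13 LD3_c10)) :=
  Lre_e IH (LK LD1_c2 LD2_c32 LD3_c23) (LK LD1_c1 LD2_c13 LD3_c10) Lrfl Lrfl
theorem f171631 : Led Lsl_dt (LP (LK LD1_c2 LD2_c32 LD3_c23)) = (LP (LK LD1_c5 LD2_c10 LD3_c45)) :=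
  Lre_d IH (LK LD1_c2 LD2_c32 LD3_c23) (LK LD1_c5 LD2_c10 LD3_c45) Lrfl Lrfl
theorem f249940 : Led Lsl_gf (LP (LK LD1_c9 LD2_c55 LD3_c53)) = (LP (LK LD1_c5 LD2_c10 LD3_c45)) :=
  Lgr Lrot145 (Lpe (f249939 IH) (Lpr_et (f249938 IH) (Lpr_gt (K12.f212223 IH) (Lpr_dt (K10.f28375 IH) (Lpr_gt (f249931 IH) (Lpe (K8.f32250 IH) (Lpe (f48620 IH) (Lpr_gt (K10.f171618 IH) (Lpe (f171630 IH) (Lpr_dt (f171631 IH) (Lpn (LP (LK LD1_c5 LD2_c10 LD3_c45)))))))))))))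
theorem f255004 : Led Lsl_cf (LP (LK LD1_c5 LD2_c10 LD3_c44)) = (LP (LK LD1_c2 LD2_c34 LD3_c58)) :=
  Lgr Lrot166 (Lpr_gt (f249946 IH) (Lpr_dt (f171631 IH) (Lpe (f249940 IH) (Lpr_dt (f249945 IH) (Lpr_ct (K15.f212221 IH) (Lpr_df (K14.f185632 IH) (Lpe (K14.f254993 IH) (Lpr_df (K14.f254998 IH) (Lpe (K14.f170023 IH) (Lpn (LP (LK LD1_c2 LD2_c34 LD3_c58))))))))))))
theorem f268113 : Led Lsl_gf (LP (LK LD1_c2 LD2_c34 LD3_c58)) = (LP (LK LD1_c2 LD2_c35 LD3_c54)) :=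
  Lgr Lrot147 (Lpe (f255004 IH) (Lpr_gt (f249946 IH) (Lpr_ct (f248716 IH) (Lpe (f253538 IH) (Lpe (f183131 IH) (Lpe (K15.f178905 IH) (Lpr_cf (K15.f268101 IH) (Lpe (K15.f264354 IH) (Lpr_df (K16.f267861 IH) (Lpn (LP (LK LD1_c2 LD2_c35 LD3_c54))))))))))))
theorem f309783 : Led Lsl_et (LP (LK LD1_c2 LD2_c43 LD3_c26)) = (LP (LK LD1_c1 LD2_c18 LD3_c7)) :=
  Lre_e IH (LK LD1_c2 LD2_c43 LD3_c26) (LK LD1_c1 LD2_c18 LD3_c7) Lrfl Lrfl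
theorem f309784 : Led Lsl_gf (LP (LK LD1_c1 LD2_c25 LD3_c28)) = (LP (LK LD1_c1 LD2_c18 LD3_c7)) :=
  Lgr Lrot141 (Lpe (K0.f8499 IH) (Lpr_dt (K9.f8449 IH) (Lpe (K9.f182515 IH) (Lpe (K9.f8473 IH) (Lpr_et (K15.f185687 IH) (Lpr_gt (K15.f183135 IH) (Lpr_dt (K15.f267859 IH) (Lpe (f268113 IH) (Lpr_df (f309776 IH) (Lpr_et (f309783 IH) (Lpn (LP (LK LD1_c1 LD2_c18 LD3_c7)))))))))))))
theorem f8597 : Led Lsl_dt (LP (LK LD1_c1 LD2_c18 LD3_c8)) = (LP (LK LD1_c2 LD2_c43 LD3_c29)) :=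
  Lre_d IH (LK LD1_c1 LD2_c18 LD3_c8) (LK LD1_c2 LD2_c43 LD3_c29) Lrfl Lrfl
theorem f8599 : Led Lsl_ct (LP (LK LD1_c2 LD2_c43 LD3_c29)) = (LP (LK LD1_c5 LD2_c35 LD3_c10)) :=
  Lre_c IH (LK LD1_c2 LD2_c43 LD3_c29) (LK LD1_c5 LD2_c35 LD3_c10) Lrfl Lrfl
theorem f220488 : Led Lsl_et (LP (LK LD1_c5 LD2_c29 LD3_c21)) = (LP (LK LD1_c10 LD2_c50 LD3_c4)) :=
  Lre_e IH (LK LD1_c5 LD2_c29 LD3_c21) (LK LD1_c10 LD2_c50 LD3_c4) Lrfl Lrfl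
theorem f50427 : Led Lsl_gt (LP (LK LD1_c4 LD2_c9 LD3_c56)) = (LP (LK LD1_c8 LD2_c16 LD3_c60)) :=
  Lre_g IH (LK LD1_c4 LD2_c9 LD3_c56) (LK LD1_c8 LD2_c16 LD3_c60) Lrfl Lrfl
theorem f1309 : Led Lsl_et (LP (LK LD1_c2 LD2_c2 LD3_c10)) = (LP (LK LD1_c4 LD2_c9 LD3_c57)) :=
  Lre_e IH (LK LD1_c2 LD2_c2 LD3_c10) (LK LD1_c4 LD2_c9 LD3_c57) Lrfl Lrfl
theorem f867 : Led Lsl_gt (LP (LK LD1_c8 LD2_c20 LD3_c3)) = (LP (LK LD1_c4 LD2_c9 LD3_c57)) :=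
  Lre_g IH (LK LD1_c8 LD2_c20 LD3_c3) (LK LD1_c4 LD2_c9 LD3_c57) Lrfl Lrfl
theorem f878 : Led Lsl_et (LP (LK LD1_c15 LD2_c41 LD3_c13)) = (LP (LK LD1_c8 LD2_c20 LD3_c3)) :=
  Lre_e IH (LK LD1_c15 LD2_c41 LD3_c13) (LK LD1_c8 LD2_c20 LD3_c3) Lrfl Lrfl
theorem f879 : Led Lsl_dt (LP (LK LD1_c15 LD2_c41 LD3_c13)) = (LP (LK LD1_c25 LD2_c36 LD3_c48)) :=
  Lre_d IH (LK LD1_c15 LD2_c41 LD3_c13) (LK LD1_c25 LD2_c36 LD3_c48) Lrfl Lrfl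
theorem f298732 : Led Lsl_gt (LP (LK LD1_c25 LD2_c27 LD3_c25)) = (LP (LK LD1_c25 LD2_c36 LD3_c48)) :=
  Lgr Lrot139 (Lpe (K18.f295797 IH) (Lpr_gf (K18.f298724 IH) (Lpe (f220488 IH) (Lpr_dt (K15.f266420 IH) (Lpe (f50427 IH) (Lpe (K12.f50405 IH) (Lpr_et (f1309 IH) (Lpe (f867 IH) (Lpe (f878 IH) (Lpr_dt (f879 IH) (Lpn (LP (LK LD1_c25 LD2_c36 LD3_c48)))))))))))))
theorem f295800 : Led Lsl_ft (LP (LK LD1_c25 LD2_c27 LD3_c25)) = (LP (LK LD1_c15 LD2_c37 LD3_c26)) :=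
  Lgr Lrot48 (Lpr_ff (K18.f295793 IH) (Lpn (LP (LK LD1_c15 LD2_c37 LD3_c26))))
theorem f243288 : Led Lsl_dt (LP (LK LD1_c8 LD2_c30 LD3_c19)) = (LP (LK LD1_c15 LD2_c58 LD3_c16)) :=
  Lre_d IH (LK LD1_c8 LD2_c30 LD3_c19) (LK LD1_c15 LD2_c58 LD3_c16) Lrfl Lrfl
theorem f859 : Led Lsl_at (LP (LK LD1_c8 LD2_c17 LD3_c0)) = (LP (LK LD1_c4 LD2_c9 LD3_c57)) :=
  Lre_a IH (LK LD1_c8 LD2_c17 LD3_c0) (LK LD1_c4 LD2_c9 LD3_c57) Lrfl Lrfl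
theorem f868 : Led Lsl_gf (LP (LK LD1_c8 LD2_c20 LD3_c3)) = (LP (LK LD1_c8 LD2_c30 LD3_c10)) :=
  Lgr Lrot47 (Lpr_gt (f867 IH) (Lpe (f859 IH) (Lpr_ff (K18.f849 IH) (Lpn (LP (LK LD1_c8 LD2_c30 LD3_c10))))))
theorem f243289 : Led Lsl_gf (LP (LK LD1_c15 LD2_c58 LD3_c16)) = (LP (LK LD1_c25 LD2_c36 LD3_c48)) :=
  Lgr Lrot145 (Lpe (f243288 IH) (Lpr_et (K18.f243287 IH) (Lpr_gt (K13.f243277 IH) (Lpe (K13.f243284 IH) (Lpr_gt (K13.f875 IH) (Lpe (K15.f874 IH) (Lpr_et (K18.f863 IH) (Lpe (f868 IH) (Lpe (f878 IH) (Lpr_dt (f879 IH) (Lpn (LP (LK LD1_c25 LD2_c36 LD3_c48)))))))))))))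
theorem f298770 : Led Lsl_at (LP (LK LD1_c15 LD2_c37 LD3_c26)) = (LP (LK LD1_c15 LD2_c58 LD3_c16)) :=
  Lgr Lrot26 (Lpe (f295800 IH) (Lpr_gt (f298732 IH) (Lpe (f243289 IH) (Lpn (LP (LK LD1_c15 LD2_c58 LD3_c16))))))
theorem f298772 : Led Lsl_af (LP (LK LD1_c15 LD2_c37 LD3_c26)) = (LP (LK LD1_c15 LD2_c58 LD3_c16)) :=
  Lgr Lrot0 (Lpr_at (f298770 IH) (Lpn (LP (LK LD1_c15 LD2_c58 LD3_c16))))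
theorem f298844 : Led Lsl_at (LP (LK LD1_c8 LD2_c18 LD3_c25)) = (LP (LK LD1_c8 LD2_c30 LD3_c19)) :=
  Lgr Lrot51 (Lpe (K17.f236293 IH) (Lpr_af (f298772 IH) (Lpe (f243288 IH) (Lpn (LP (LK LD1_c8 LD2_c30 LD3_c19))))))
theorem f298846 : Led Lsl_gt (LP (LK LD1_c10 LD2_c50 LD3_c35)) = (LP (LK LD1_c8 LD2_c30 LD3_c19)) :=
  Lgr Lrot46 (Lpe (K18.f298728 IH) (Lpr_ft (K18.f295786 IH) (Lpr_at (f298844 IH) (Lpn (LP (LK LD1_c8 LD2_c30 LD3_c19))))))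
theorem f168406 : Led Lsl_gt (LP (LK LD1_c10 LD2_c50 LD3_c5)) = (LP (LK LD1_c5 LD2_c29 LD3_c43)) :=
  Lre_g IH (LK LD1_c10 LD2_c50 LD3_c5) (LK LD1_c5 LD2_c29 LD3_c43) Lrfl Lrfl
theorem f213826 : Led Lsl_dt (LP (LK LD1_c19 LD2_c35 LD3_c9)) = (LP (LK LD1_c10 LD2_c50 LD3_c5)) :=
  Lre_d IH (LK LD1_c19 LD2_c35 LD3_c9) (LK LD1_c10 LD2_c50 LD3_c5) Lrfl Lrfl
theorem f243295 : Led Lsl_ct (LP (LK LD1_c8 LD2_c30 LD3_c19)) = (LP (LK LD1_c4 LD2_c15 LD3_c40)) :=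
  Lre_c IH (LK LD1_c8 LD2_c30 LD3_c19) (LK LD1_c4 LD2_c15 LD3_c40) Lrfl Lrfl
theorem f245131 : Led Lsl_ct (LP (LK LD1_c5 LD2_c26 LD3_c26)) = (LP (LK LD1_c2 LD2_c39 LD3_c39)) :=
  Lre_c IH (LK LD1_c5 LD2_c26 LD3_c26) (LK LD1_c2 LD2_c39 LD3_c39) Lrfl Lrfl
theorem f245098 : Led Lsl_gt (LP (LK LD1_c10 LD2_c44 LD3_c4)) = (LP (LK LD1_c5 LD2_c26 LD3_c26)) :=
  Lre_g IH (LK LD1_c10 LD2_c44 LD3_c4) (LK LD1_c5 LD2_c26 LD3_c26) Lrfl Lrfl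
theorem f259530 : Led Lsl_gt (LP (LK LD1_c15 LD2_c51 LD3_c9)) = (LP (LK LD1_c8 LD2_c26 LD3_c27)) :=
  Lre_g IH (LK LD1_c15 LD2_c51 LD3_c9) (LK LD1_c8 LD2_c26 LD3_c27) Lrfl Lrfl
theorem f286155 : Led Lsl_ct (LP (LK LD1_c15 LD2_c51 LD3_c9)) = (LP (LK LD1_c10 LD2_c44 LD3_c4)) :=
  Lgr Lrot8 (Lpr_gt (f259530 IH) (Lpr_dt (K16.f271054 IH) (Lpe (K16.f271041 IH) (Lpr_dt (K17.f286133 IH) (Lpe (K17.f245139 IH) (Lpe (K17.f245104 IH) (Lpr_gf (K17.f245096 IH) (Lpe (K17.f195810 IH) (Lpe (f245098 IH) (Lpn (LP (LK LD1_c10 LD2_c44 LD3_c4))))))))))))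
theorem f298848 : Led Lsl_gt (LP (LK LD1_c19 LD2_c35 LD3_c9)) = (LP (LK LD1_c15 LD2_c51 LD3_c9)) :=
  Lgr Lrot146 (Lpr_dt (f213826 IH) (Lpr_gt (f168406 IH) (Lpr_ct (K17.f168399 IH) (Lpr_gt (f298846 IH) (Lpr_ct (f243295 IH) (Lpe (K18.f245919 IH) (Lpe (f245131 IH) (Lpe (f245098 IH) (Lpe (f286155 IH) (Lpn (LP (LK LD1_c15 LD2_c51 LD3_c9))))))))))))
theorem f262846 : Led Lsl_dt (LP (LK LD1_c10 LD2_c50 LD3_c5)) = (LP (LK LD1_c19 LD2_c35 LD3_c9)) :=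
  Lre_d IH (LK LD1_c10 LD2_c50 LD3_c5) (LK LD1_c19 LD2_c35 LD3_c9) Lrfl Lrfl
theorem f298852 : Led Lsl_df (LP (LK LD1_c4 LD2_c15 LD3_c40)) = (LP (LK LD1_c2 LD2_c39 LD3_c39)) :=
  Lgr Lrot162 (Lpe (f243295 IH) (Lpe (f298846 IH) (Lpe (K17.f168399 IH) (Lpe (f168406 IH) (Lpr_dt (f262846 IH) (Lpr_gt (f298848 IH) (Lpr_ct (f286155 IH) (Lpr_gt (f245098 IH) (Lpr_ct (f245131 IH) (Lpn (LP (LK LD1_c2 LD2_c39 LD3_c39))))))))))))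
theorem f243600 : Led Lsl_et (LP (LK LD1_c2 LD2_c39 LD3_c39)) = (LP (LK LD1_c1 LD2_c16 LD3_c35)) :=
  Lre_e IH (LK LD1_c2 LD2_c39 LD3_c39) (LK LD1_c1 LD2_c16 LD3_c35) Lrfl Lrfl
theorem f196384 : Led Lsl_gt (LP (LK LD1_c0 LD2_c59 LD3_c34)) = (LP (LK LD1_c1 LD2_c16 LD3_c35)) :=
  Lgr Lrot9 (Lpe (K1.f752 IH) (Lpr_gt (K10.f196357 IH) (Lpe (K10.f190950 IH) (Lpr_gt (K10.f190897 IH) (Lpr_ct (K10.f189588 IH) (Lpe (K11.f189598 IH) (Lpe (K14.f195815 IH) (Lpe (K11.f195797 IH) (Lpe (K11.f8517 IH) (Lpn (LP (LK LD1_c1 LD2_c16 LD3_c35))))))))))))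
theorem f45102 : Led Lsl_et (LP (LK LD1_c1 LD2_c14 LD3_c10)) = (LP (LK LD1_c0 LD2_c59 LD3_c34)) :=
  Lgr Lrot71 (Lpe (K10.f32329 IH) (Lpe (K10.f33409 IH) (Lpr_df (K1.f45092 IH) (Lpe (K1.f751 IH) (Lpe (K14.f45101 IH) (Lpn (LP (LK LD1_c0 LD2_c59 LD3_c34))))))))
theorem f236010 : Led Lsl_dt (LP (LK LD1_c2 LD2_c40 LD3_c12)) = (LP (LK LD1_c4 LD2_c8 LD3_c16)) :=
  Lgr Lrot42 (Lpr_df (f235999 IH) (Lpn (LP (LK LD1_c4 LD2_c8 LD3_c16))))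
theorem f298860 : Led Lsl_gt (LP (LK LD1_c4 LD2_c15 LD3_c40)) = (LP (LK LD1_c4 LD2_c8 LD3_c16)) :=
  Lgr Lrot112 (Lpr_df (f298852 IH) (Lpr_et (f243600 IH) (Lpe (f196384 IH) (Lpe (f45102 IH) (Lpr_dt (K16.f33505 IH) (Lpr_gf (K13.f243582 IH) (Lpe (K14.f220729 IH) (Lpr_gf (K15.f250929 IH) (Lpe (K14.f235796 IH) (Lpr_dt (f236010 IH) (Lpn (LP (LK LD1_c4 LD2_c8 LD3_c16)))))))))))))
theorem f179586 : Led Lsl_ct (LP (LK LD1_c2 LD2_c5 LD3_c52)) = (LP (LK LD1_c4 LD2_c17 LD3_c6)) :=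
  Lre_c IH (LK LD1_c2 LD2_c5 LD3_c52) (LK LD1_c4 LD2_c17 LD3_c6) Lrfl Lrfl
theorem f228870 : Led Lsl_ct (LP (LK LD1_c2 LD2_c3 LD3_c58)) = (LP (LK LD1_c4 LD2_c13 LD3_c19)) :=
  Lre_c IH (LK LD1_c2 LD2_c3 LD3_c58) (LK LD1_c4 LD2_c13 LD3_c19) Lrfl Lrfl
theorem f305017 : Led Lsl_gf (LP (LK LD1_c4 LD2_c17 LD3_c6)) = (LP (LK LD1_c4 LD2_c13 LD3_c19)) :=
  Lgr Lrot129 (Lpe (f179586 IH) (Lpe (K18.f243478 IH) (Lpr_gt (f298860 IH) (Lpe (f236004 IH) (Lpr_ct (f235732 IH) (Lpr_gt (f305003 IH) (Lpe (f305002 IH) (Lpr_bt (f304999 IH) (Lpe (f304997 IH) (Lpr_ct (f228870 IH) (Lpn (LP (LK LD1_c4 LD2_c13 LD3_c19)))))))))))))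
theorem f179579 : Led Lsl_et (LP (LK LD1_c2 LD2_c2 LD3_c25)) = (LP (LK LD1_c4 LD2_c10 LD3_c24)) :=
  Lre_e IH (LK LD1_c2 LD2_c2 LD3_c25) (LK LD1_c4 LD2_c10 LD3_c24) Lrfl Lrfl
theorem f179573 : Led Lsl_et (LP (LK LD1_c4 LD2_c17 LD3_c6)) = (LP (LK LD1_c2 LD2_c5 LD3_c51)) :=
  Lre_e IH (LK LD1_c4 LD2_c17 LD3_c6) (LK LD1_c2 LD2_c5 LD3_c51) Lrfl Lrfl
theorem f260740 : Led Lsl_at (LP (LK LD1_c4 LD2_c10 LD3_c24)) = (LP (LK LD1_c4 LD2_c17 LD3_c6)) :=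
  Lgr Lrot80 (Lpe (f179579 IH) (Lpr_af (K15.f260736 IH) (Lpe (f179573 IH) (Lpn (LP (LK LD1_c4 LD2_c17 LD3_c6))))))
theorem f7761 : Led Lsl_ct (LP (LK LD1_c2 LD2_c6 LD3_c8)) = (LP (LK LD1_c4 LD2_c17 LD3_c36)) :=
  Lre_c IH (LK LD1_c2 LD2_c6 LD3_c8) (LK LD1_c4 LD2_c17 LD3_c36) Lrfl Lrfl
theorem f179086 : Led Lsl_ct (LP (LK LD1_c4 LD2_c10 LD3_c24)) = (LP (LK LD1_c2 LD2_c2 LD3_c26)) :=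
  Lre_c IH (LK LD1_c4 LD2_c10 LD3_c24) (LK LD1_c2 LD2_c2 LD3_c26) Lrfl Lrfl
theorem f245837 : Led Lsl_ft (LP (LK LD1_c4 LD2_c17 LD3_c36)) = (LP (LK LD1_c4 LD2_c10 LD3_c24)) :=
  Lgr Lrot4 (Lpe (f7761 IH) (Lpr_ff (K13.f245835 IH) (Lpe (f179086 IH) (Lpn (LP (LK LD1_c4 LD2_c10 LD3_c24))))))
theorem f305027 : Led Lsl_gt (LP (LK LD1_c4 LD2_c17 LD3_c36)) = (LP (LK LD1_c4 LD2_c13 LD3_c19)) :=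
  Lgr Lrot5 (Lpr_ft (f245837 IH) (Lpr_at (f260740 IH) (Lpr_gf (f305017 IH) (Lpn (LP (LK LD1_c4 LD2_c13 LD3_c19))))))
theorem f7747 : Led Lsl_dt (LP (LK LD1_c1 LD2_c0 LD3_c3)) = (LP (LK LD1_c1 LD2_c16 LD3_c60)) :=
  Lgr Lrot42 (Lpr_df (K12.f7728 IH) (Lpn (LP (LK LD1_c1 LD2_c16 LD3_c60))))
theorem f7763 : Led Lsl_ct (LP (LK LD1_c2 LD2_c40 LD3_c35)) = (LP (LK LD1_c5 LD2_c28 LD3_c37)) :=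
  Lre_c IH (LK LD1_c2 LD2_c40 LD3_c35) (LK LD1_c5 LD2_c28 LD3_c37) Lrfl Lrfl
theorem f228865 : Led Lsl_ct (LP (LK LD1_c4 LD2_c13 LD3_c19)) = (LP (LK LD1_c2 LD2_c3 LD3_c58)) :=
  Lre_c IH (LK LD1_c4 LD2_c13 LD3_c19) (LK LD1_c2 LD2_c3 LD3_c58) Lrfl Lrfl
theorem f305030 : Led Lsl_gt (LP (LK LD1_c5 LD2_c28 LD3_c37)) = (LP (LK LD1_c5 LD2_c36 LD3_c25)) :=
  Lgr Lrot150 (Lpe (f7763 IH) (Lpe (K15.f7762 IH) (Lpe (f7747 IH) (Lpr_gt (K13.f7757 IH) (Lpr_ct (f7761 IH) (Lpr_gt (f305027 IH) (Lpr_ct (f228865 IH) (Lpe (K17.f228850 IH) (Lpe (f228869 IH) (Lpn (LP (LK LD1_c5 LD2_c36 LD3_c25))))))))))))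
theorem f305033 : Led Lsl_gf (LP (LK LD1_c5 LD2_c28 LD3_c37)) = (LP (LK LD1_c2 LD2_c40 LD3_c43)) :=
  Lgr Lrot47 (Lpr_gt (f305030 IH) (Lpe (K17.f287933 IH) (Lpe (K14.f253753 IH) (Lpn (LP (LK LD1_c2 LD2_c40 LD3_c43))))))
theorem f181813 : Led Lsl_et (LP (LK LD1_c2 LD2_c40 LD3_c35)) = (LP (LK LD1_c2 LD2_c43 LD3_c29)) :=
  Lgr Lrot87 (Lpr_ef (K15.f181800 IH) (Lpn (LP (LK LD1_c2 LD2_c43 LD3_c29))))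
theorem f167673 : Led Lsl_ct (LP (LK LD1_c5 LD2_c28 LD3_c37)) = (LP (LK LD1_c2 LD2_c40 LD3_c35)) :=
  Lre_c IH (LK LD1_c5 LD2_c28 LD3_c37) (LK LD1_c2 LD2_c40 LD3_c35) Lrfl Lrfl
theorem f181818 : Led Lsl_ef (LP (LK LD1_c5 LD2_c28 LD3_c37)) = (LP (LK LD1_c5 LD2_c35 LD3_c10)) :=
  Lgr Lrot28 (Lpr_ct (f167673 IH) (Lpr_et (f181813 IH) (Lpr_ct (f8599 IH) (Lpn (LP (LK LD1_c5 LD2_c35 LD3_c10))))))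
theorem f41040 : Led Lsl_et (LP (LK LD1_c2 LD2_c25 LD3_c61)) = (LP (LK LD1_c1 LD2_c10 LD3_c9)) :=
  Lre_e IH (LK LD1_c2 LD2_c25 LD3_c61) (LK LD1_c1 LD2_c10 LD3_c9) Lrfl Lrfl
theorem f54873 : Led Lsl_dt (LP (LK LD1_c2 LD2_c25 LD3_c61)) = (LP (LK LD1_c4 LD2_c56 LD3_c27)) :=
  Lre_d IH (LK LD1_c2 LD2_c25 LD3_c61) (LK LD1_c4 LD2_c56 LD3_c27) Lrfl Lrfl
theorem f54877 : Led Lsl_gt (LP (LK LD1_c9 LD2_c44 LD3_c27)) = (LP (LK LD1_c4 LD2_c56 LD3_c27)) :=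
  Lre_g IH (LK LD1_c9 LD2_c44 LD3_c27) (LK LD1_c4 LD2_c56 LD3_c27) Lrfl Lrfl
theorem f305038 : Led Lsl_dt (LP (LK LD1_c5 LD2_c35 LD3_c10)) = (LP (LK LD1_c9 LD2_c44 LD3_c27)) :=
  Lgr Lrot136 (Lpe (f181818 IH) (Lpr_gf (f305033 IH) (Lpe (K14.f165035 IH) (Lpr_dt (K12.f7886 IH) (Lpr_gf (K17.f238315 IH) (Lpe (K12.f169282 IH) (Lpe (K9.f169273 IH) (Lpe (f41040 IH) (Lpr_dt (f54873 IH) (Lpe (f54877 IH) (Lpn (LP (LK LD1_c9 LD2_c44 LD3_c27)))))))))))))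
theorem f305043 : Led Lsl_df (LP (LK LD1_c5 LD2_c35 LD3_c10)) = (LP (LK LD1_c9 LD2_c44 LD3_c27)) :=
  Lgr Lrot38 (Lpr_dt (f305038 IH) (Lpn (LP (LK LD1_c9 LD2_c44 LD3_c27))))
theorem f47903 : Led Lsl_ct (LP (LK LD1_c2 LD2_c0 LD3_c54)) = (LP (LK LD1_c4 LD2_c7 LD3_c3)) :=
  Lre_c IH (LK LD1_c2 LD2_c0 LD3_c54) (LK LD1_c4 LD2_c7 LD3_c3) Lrfl Lrfl
theorem f41112 : Led Lsl_ct (LP (LK LD1_c2 LD2_c25 LD3_c61)) = (LP (LK LD1_c1 LD2_c10 LD3_c10)) :=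
  Lre_c IH (LK LD1_c2 LD2_c25 LD3_c61) (LK LD1_c1 LD2_c10 LD3_c10) Lrfl Lrfl
theorem f41041 : Led Lsl_dt (LP (LK LD1_c4 LD2_c56 LD3_c27)) = (LP (LK LD1_c2 LD2_c25 LD3_c61)) :=
  Lre_d IH (LK LD1_c4 LD2_c56 LD3_c27) (LK LD1_c2 LD2_c25 LD3_c61) Lrfl Lrfl
theorem f41113 : Led Lsl_ct (LP (LK LD1_c9 LD2_c44 LD3_c28)) = (LP (LK LD1_c4 LD2_c56 LD3_c27)) :=
  Lre_c IH (LK LD1_c9 LD2_c44 LD3_c28) (LK LD1_c4 LD2_c56 LD3_c27) Lrfl Lrfl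
theorem f54871 : Led Lsl_df (LP (LK LD1_c9 LD2_c44 LD3_c28)) = (LP (LK LD1_c15 LD2_c30 LD3_c39)) :=
  Lgr Lrot13 (Lpr_ct (f41113 IH) (Lpr_dt (f41041 IH) (Lpr_ct (f41112 IH) (Lpe (K1.f41094 IH) (Lpr_ff (K9.f54866 IH) (Lpe (K9.f47876 IH) (Lpr_ct (f47903 IH) (Lpr_dt (K9.f47904 IH) (Lpr_ct (K2.f47905 IH) (Lpn (LP (LK LD1_c15 LD2_c30 LD3_c39))))))))))))
theorem f41110 : Led Lsl_ct (LP (LK LD1_c1 LD2_c10 LD3_c10)) = (LP (LK LD1_c2 LD2_c25 LD3_c61)) :=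
  Lre_c IH (LK LD1_c1 LD2_c10 LD3_c10) (LK LD1_c2 LD2_c25 LD3_c61) Lrfl Lrfl
theorem f54874 : Led Lsl_ct (LP (LK LD1_c4 LD2_c56 LD3_c27)) = (LP (LK LD1_c9 LD2_c44 LD3_c28)) :=
  Lre_c IH (LK LD1_c4 LD2_c56 LD3_c27) (LK LD1_c9 LD2_c44 LD3_c28) Lrfl Lrfl
theorem f54875 : Led Lsl_dt (LP (LK LD1_c9 LD2_c44 LD3_c28)) = (LP (LK LD1_c15 LD2_c30 LD3_c39)) :=
  Lgr Lrot173 (Lpe (f54874 IH) (Lpe (f54873 IH) (Lpe (f41110 IH) (Lpe (K9.f41323 IH) (Lpe (f41112 IH) (Lpe (f41041 IH) (Lpe (f41113 IH) (Lpr_df (f54871 IH) (Lpe (K2.f47905 IH) (Lpe (K9.f47904 IH) (Lpe (f47903 IH) (Lpr_df (K9.f47876 IH) (Lpe (K9.f47906 IH) (Lpe (K2.f47907 IH) (Lpe (K2.f47908 IH) (Lpn (LP (LK LD1_c15 LD2_c30 LD3_c39))))))))))))))))))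
theorem f55680 : Led Lsl_ft (LP (LK LD1_c9 LD2_c44 LD3_c28)) = (LP (LK LD1_c15 LD2_c26 LD3_c8)) :=
  Lgr Lrot142 (Lpr_dt (f54875 IH) (Lpr_ct (K2.f47908 IH) (Lpr_dt (K2.f47907 IH) (Lpr_ct (K9.f47906 IH) (Lpe (K9.f47876 IH) (Lpr_ct (f47903 IH) (Lpr_dt (K9.f47904 IH) (Lpr_ct (K2.f47905 IH) (Lpr_af (K2.f55667 IH) (Lpn (LP (LK LD1_c15 LD2_c26 LD3_c8))))))))))))
theorem f55682 : Led Lsl_ff (LP (LK LD1_c4 LD2_c56 LD3_c27)) = (LP (LK LD1_c8 LD2_c12 LD3_c0)) :=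
  Lgr Lrot23 (Lpr_ct (f54874 IH) (Lpr_ft (f55680 IH) (Lpr_ct (K9.f55672 IH) (Lpn (LP (LK LD1_c8 LD2_c12 LD3_c0))))))
theorem f173577 : Led Lsl_at (LP (LK LD1_c4 LD2_c56 LD3_c27)) = (LP (LK LD1_c5 LD2_c31 LD3_c32)) :=
  Lgr Lrot66 (Lpr_ff (f55682 IH) (Lpe (K2.f55661 IH) (Lpr_ff (K9.f173572 IH) (Lpn (LP (LK LD1_c5 LD2_c31 LD3_c32))))))
theorem f174040 : Led Lsl_af (LP (LK LD1_c4 LD2_c56 LD3_c27)) = (LP (LK LD1_c5 LD2_c31 LD3_c32)) :=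
  Lgr Lrot0 (Lpr_at (f173577 IH) (Lpn (LP (LK LD1_c5 LD2_c31 LD3_c32))))
theorem f173554 : Led Lsl_ft (LP (LK LD1_c8 LD2_c14 LD3_c44)) = (LP (LK LD1_c5 LD2_c31 LD3_c32)) :=
  Lgr Lrot54 (Lpe (K9.f47904 IH) (Lpr_ff (K9.f173544 IH) (Lpe (K9.f173553 IH) (Lpn (LP (LK LD1_c5 LD2_c31 LD3_c32))))))
theorem f174046 : Led Lsl_gf (LP (LK LD1_c9 LD2_c44 LD3_c27)) = (LP (LK LD1_c8 LD2_c14 LD3_c44)) :=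
  Lgr Lrot47 (Lpr_gt (f54877 IH) (Lpr_af (f174040 IH) (Lpe (f173554 IH) (Lpn (LP (LK LD1_c8 LD2_c14 LD3_c44))))))
theorem f309786 : Led Lsl_ct (LP (LK LD1_c2 LD2_c43 LD3_c24)) = (LP (LK LD1_c1 LD2_c18 LD3_c7)) :=
  Lre_c IH (LK LD1_c2 LD2_c43 LD3_c24) (LK LD1_c1 LD2_c18 LD3_c7) Lrfl Lrfl
theorem f309787 : Led Lsl_gf (LP (LK LD1_c4 LD2_c7 LD3_c3)) = (LP (LK LD1_c2 LD2_c43 LD3_c24)) :=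
  Lgr Lrot144 (Lpr_dt (K9.f47904 IH) (Lpe (f174046 IH) (Lpe (f305043 IH) (Lpe (f8599 IH) (Lpe (f8597 IH) (Lpe (K15.f8594 IH) (Lpe (K0.f8616 IH) (Lpr_gf (f309784 IH) (Lpe (f309786 IH) (Lpn (LP (LK LD1_c2 LD2_c43 LD3_c24))))))))))))
theorem f7618 : Led Lsl_ct (LP (LK LD1_c1 LD2_c18 LD3_c7)) = (LP (LK LD1_c2 LD2_c43 LD3_c24)) :=
  Lre_c IH (LK LD1_c1 LD2_c18 LD3_c7) (LK LD1_c2 LD2_c43 LD3_c24) Lrfl Lrfl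
theorem f7612 : Led Lsl_gt (LP (LK LD1_c0 LD2_c36 LD3_c1)) = (LP (LK LD1_c1 LD2_c18 LD3_c7)) :=
  Lre_g IH (LK LD1_c0 LD2_c36 LD3_c1) (LK LD1_c1 LD2_c18 LD3_c7) Lrfl Lrfl
theorem f42359 : Led Lsl_ct (LP (LK LD1_c1 LD2_c16 LD3_c25)) = (LP (LK LD1_c2 LD2_c39 LD3_c15)) :=
  Lre_c IH (LK LD1_c1 LD2_c16 LD3_c25) (LK LD1_c2 LD2_c39 LD3_c15) Lrfl Lrfl
theorem f221770 : Led Lsl_gt (LP (LK LD1_c5 LD2_c25 LD3_c40)) = (LP (LK LD1_c2 LD2_c39 LD3_c15)) :=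
  Lre_g IH (LK LD1_c5 LD2_c25 LD3_c40) (LK LD1_c2 LD2_c39 LD3_c15) Lrfl Lrfl
theorem f309833 : Led Lsl_ct (LP (LK LD1_c10 LD2_c42 LD3_c35)) = (LP (LK LD1_c5 LD2_c25 LD3_c40)) :=
  Lre_c IH (LK LD1_c10 LD2_c42 LD3_c35) (LK LD1_c5 LD2_c25 LD3_c40) Lrfl Lrfl
theorem f309834 : Led Lsl_bf (LP (LK LD1_c8 LD2_c14 LD3_c4)) = (LP (LK LD1_c10 LD2_c42 LD3_c35)) :=
  Lgr Lrot34 (Lpe (f47889 IH) (Lpe (K9.f47874 IH) (Lpr_ct (f47903 IH) (Lpr_gf (f309787 IH) (Lpe (f7618 IH) (Lpe (f7612 IH) (Lpe (K17.f7594 IH) (Lpr_ct (f42359 IH) (Lpe (f221770 IH) (Lpe (f309833 IH) (Lpn (LP (LK LD1_c10 LD2_c42 LD3_c35)))))))))))))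
theorem f54531 : Led Lsl_ff (LP (LK LD1_c3 LD2_c58 LD3_c35)) = (LP (LK LD1_c4 LD2_c6 LD3_c43)) :=
  Lgr Lrot30 (Lpr_at (K1.f41330 IH) (Lpr_ft (K1.f54524 IH) (Lpr_at (K9.f47862 IH) (Lpn (LP (LK LD1_c4 LD2_c6 LD3_c43))))))
theorem f55000 : Led Lsl_gf (LP (LK LD1_c7 LD2_c57 LD3_c48)) = (LP (LK LD1_c8 LD2_c14 LD3_c4)) :=
  Lgr Lrot76 (Lpe (K1.f41330 IH) (Lpr_ff (f54531 IH) (Lpr_gt (f47889 IH) (Lpn (LP (LK LD1_c8 LD2_c14 LD3_c4))))))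
theorem f41124 : Led Lsl_ct (LP (LK LD1_c4 LD2_c54 LD3_c42)) = (LP (LK LD1_c9 LD2_c40 LD3_c61)) :=
  Lre_c IH (LK LD1_c4 LD2_c54 LD3_c42) (LK LD1_c9 LD2_c40 LD3_c61) Lrfl Lrfl
theorem f215437 : Led Lsl_gt (LP (LK LD1_c10 LD2_c30 LD3_c52)) = (LP (LK LD1_c5 LD2_c25 LD3_c40)) :=
  Lre_g IH (LK LD1_c10 LD2_c30 LD3_c52) (LK LD1_c5 LD2_c25 LD3_c40) Lrfl Lrfl
theorem f41483 : Led Lsl_ct (LP (LK LD1_c5 LD2_c20 LD3_c24)) = (LP (LK LD1_c10 LD2_c30 LD3_c52)) :=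
  Lre_c IH (LK LD1_c5 LD2_c20 LD3_c24) (LK LD1_c10 LD2_c30 LD3_c52) Lrfl Lrfl
theorem f41509 : Led Lsl_bt (LP (LK LD1_c5 LD2_c25 LD3_c42)) = (LP (LK LD1_c2 LD2_c39 LD3_c16)) :=
  Lre_b IH (LK LD1_c5 LD2_c25 LD3_c42) (LK LD1_c2 LD2_c39 LD3_c16) Lrfl Lrfl
theorem f309860 : Led Lsl_ct (LP (LK LD1_c5 LD2_c25 LD3_c42)) = (LP (LK LD1_c10 LD2_c42 LD3_c41)) :=
  Lre_c IH (LK LD1_c5 LD2_c25 LD3_c42) (LK LD1_c10 LD2_c42 LD3_c41) Lrfl Lrfl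
theorem f309861 : Led Lsl_gt (LP (LK LD1_c9 LD2_c40 LD3_c61)) = (LP (LK LD1_c10 LD2_c42 LD3_c41)) :=
  Lgr Lrot65 (Lpe (f41124 IH) (Lpe (K1.f41108 IH) (Lpr_gf (f55000 IH) (Lpr_bf (f309834 IH) (Lpr_ct (f309833 IH) (Lpe (f215437 IH) (Lpe (f41483 IH) (Lpe (K15.f41497 IH) (Lpe (f41509 IH) (Lpr_ct (f309860 IH) (Lpn (LP (LK LD1_c10 LD2_c42 LD3_c41)))))))))))))
theorem f309863 : Led Lsl_gf (LP (LK LD1_c8 LD2_c11 LD3_c50)) = (LP (LK LD1_c10 LD2_c42 LD3_c41)) :=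
  Lgr Lrot76 (Lpe (K1.f55124 IH) (Lpr_ff (K1.f55121 IH) (Lpr_gt (f309861 IH) (Lpn (LP (LK LD1_c10 LD2_c42 LD3_c41))))))
theorem f7619 : Led Lsl_gt (LP (LK LD1_c2 LD2_c43 LD3_c21)) = (LP (LK LD1_c1 LD2_c18 LD3_c6)) :=
  Lre_g IH (LK LD1_c2 LD2_c43 LD3_c21) (LK LD1_c1 LD2_c18 LD3_c6) Lrfl Lrfl
theorem f309875 : Led Lsl_ct (LP (LK LD1_c3 LD2_c58 LD3_c50)) = (LP (LK LD1_c2 LD2_c43 LD3_c21)) :=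
  Lgr Lrot91 (Lpe (f55301 IH) (Lpe (K1.f55258 IH) (Lpr_ct (K1.f55128 IH) (Lpr_gf (f309863 IH) (Lpe (f309860 IH) (Lpr_bt (f41509 IH) (Lpe (K15.f215488 IH) (Lpe (K17.f7593 IH) (Lpr_ct (K0.f7583 IH) (Lpe (f7619 IH) (Lpn (LP (LK LD1_c2 LD2_c43 LD3_c21)))))))))))))
theorem f41498 : Led Lsl_ct (LP (LK LD1_c2 LD2_c39 LD3_c16)) = (LP (LK LD1_c5 LD2_c25 LD3_c43)) :=
  Lre_c IH (LK LD1_c2 LD2_c39 LD3_c16) (LK LD1_c5 LD2_c25 LD3_c43) Lrfl Lrfl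
theorem f258232 : Led Lsl_dt (LP (LK LD1_c5 LD2_c19 LD3_c25)) = (LP (LK LD1_c5 LD2_c25 LD3_c45)) :=
  Lgr Lrot42 (Lpr_df (K15.f258145 IH) (Lpn (LP (LK LD1_c5 LD2_c25 LD3_c45))))
theorem f268071 : Led Lsl_ct (LP (LK LD1_c5 LD2_c25 LD3_c45)) = (LP (LK LD1_c10 LD2_c42 LD3_c46)) :=
  Lre_c IH (LK LD1_c5 LD2_c25 LD3_c45) (LK LD1_c10 LD2_c42 LD3_c46) Lrfl Lrfl
theorem f258230 : Led Lsl_dt (LP (LK LD1_c19 LD2_c23 LD3_c29)) = (LP (LK LD1_c10 LD2_c42 LD3_c46)) :=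
  Lre_d IH (LK LD1_c19 LD2_c23 LD3_c29) (LK LD1_c10 LD2_c42 LD3_c46) Lrfl Lrfl
theorem f258163 : Led Lsl_ct (LP (LK LD1_c5 LD2_c21 LD3_c41)) = (LP (LK LD1_c2 LD2_c37 LD3_c26)) :=
  Lre_c IH (LK LD1_c5 LD2_c21 LD3_c41) (LK LD1_c2 LD2_c37 LD3_c26) Lrfl Lrfl
theorem f215821 : Led Lsl_gt (LP (LK LD1_c5 LD2_c21 LD3_c41)) = (LP (LK LD1_c10 LD2_c33 LD3_c37)) :=
  Lre_g IH (LK LD1_c5 LD2_c21 LD3_c41) (LK LD1_c10 LD2_c33 LD3_c37) Lrfl Lrfl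
theorem f215822 : Led Lsl_dt (LP (LK LD1_c10 LD2_c33 LD3_c37)) = (LP (LK LD1_c19 LD2_c7 LD3_c31)) :=
  Lre_d IH (LK LD1_c10 LD2_c33 LD3_c37) (LK LD1_c19 LD2_c7 LD3_c31) Lrfl Lrfl
theorem f268072 : Led Lsl_gf (LP (LK LD1_c19 LD2_c23 LD3_c29)) = (LP (LK LD1_c19 LD2_c7 LD3_c31)) :=
  Lgr Lrot143 (Lpr_dt (f258230 IH) (Lpe (f268071 IH) (Lpe (f258232 IH) (Lpr_gf (K16.f268069 IH) (Lpe (K15.f268056 IH) (Lpe (K15.f258151 IH) (Lpe (f258163 IH) (Lpr_gt (f215821 IH) (Lpr_dt (f215822 IH) (Lpn (LP (LK LD1_c19 LD2_c7 LD3_c31))))))))))))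
theorem f268085 : Led Lsl_dt (LP (LK LD1_c10 LD2_c42 LD3_c46)) = (LP (LK LD1_c19 LD2_c23 LD3_c29)) :=
  Lre_d IH (LK LD1_c10 LD2_c42 LD3_c46) (LK LD1_c19 LD2_c23 LD3_c29) Lrfl Lrfl
theorem f268086 : Led Lsl_et (LP (LK LD1_c10 LD2_c42 LD3_c46)) = (LP (LK LD1_c5 LD2_c25 LD3_c43)) :=
  Lre_e IH (LK LD1_c10 LD2_c42 LD3_c46) (LK LD1_c5 LD2_c25 LD3_c43) Lrfl Lrfl
theorem f215820 : Led Lsl_et (LP (LK LD1_c2 LD2_c37 LD3_c25)) = (LP (LK LD1_c5 LD2_c21 LD3_c41)) :=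
  Lre_e IH (LK LD1_c2 LD2_c37 LD3_c25) (LK LD1_c5 LD2_c21 LD3_c41) Lrfl Lrfl
theorem f268087 : Led Lsl_gt (LP (LK LD1_c5 LD2_c25 LD3_c43)) = (LP (LK LD1_c10 LD2_c33 LD3_c46)) :=
  Lgr Lrot131 (Lpe (f268086 IH) (Lpr_dt (f268085 IH) (Lpr_gf (f268072 IH) (Lpe (f215822 IH) (Lpe (f215821 IH) (Lpe (f215820 IH) (Lpr_dt (K17.f194147 IH) (Lpr_gf (K16.f215813 IH) (Lpe (K16.f215808 IH) (Lpr_et (K10.f189298 IH) (Lpn (LP (LK LD1_c10 LD2_c33 LD3_c46)))))))))))))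
theorem f51187 : Led Lsl_ct (LP (LK LD1_c9 LD2_c33 LD3_c20)) = (LP (LK LD1_c4 LD2_c50 LD3_c43)) :=
  Lre_c IH (LK LD1_c9 LD2_c33 LD3_c20) (LK LD1_c4 LD2_c50 LD3_c43) Lrfl Lrfl
theorem f52699 : Led Lsl_ft (LP (LK LD1_c4 LD2_c50 LD3_c43)) = (LP (LK LD1_c9 LD2_c33 LD3_c38)) :=
  Lre_f IH (LK LD1_c4 LD2_c50 LD3_c43) (LK LD1_c9 LD2_c33 LD3_c38) Lrfl Lrfl
theorem f189315 : Led Lsl_cf (LP (LK LD1_c10 LD2_c33 LD3_c45)) = (LP (LK LD1_c9 LD2_c33 LD3_c38)) :=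
  Lgr Lrot108 (Lpr_ft (K10.f189310 IH) (Lpr_ct (f51187 IH) (Lpr_ft (f52699 IH) (Lpn (LP (LK LD1_c9 LD2_c33 LD3_c38))))))
theorem f189326 : Led Lsl_et (LP (LK LD1_c10 LD2_c33 LD3_c45)) = (LP (LK LD1_c19 LD2_c7 LD3_c48)) :=
  Lre_e IH (LK LD1_c10 LD2_c33 LD3_c45) (LK LD1_c19 LD2_c7 LD3_c48) Lrfl Lrfl
theorem f51152 : Led Lsl_ft (LP (LK LD1_c9 LD2_c33 LD3_c36)) = (LP (LK LD1_c17 LD2_c36 LD3_c6)) :=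
  Lre_f IH (LK LD1_c9 LD2_c33 LD3_c36) (LK LD1_c17 LD2_c36 LD3_c6) Lrfl Lrfl
theorem f52763 : Led Lsl_ft (LP (LK LD1_c25 LD2_c50 LD3_c56)) = (LP (LK LD1_c15 LD2_c54 LD3_c43)) :=
  Lre_f IH (LK LD1_c25 LD2_c50 LD3_c56) (LK LD1_c15 LD2_c54 LD3_c43) Lrfl Lrfl
theorem f52764 : Led Lsl_et (LP (LK LD1_c17 LD2_c36 LD3_c6)) = (LP (LK LD1_c25 LD2_c50 LD3_c56)) :=
  Lgr Lrot69 (Lpe (f51152 IH) (Lpr_ef (K10.f51142 IH) (Lpr_ff (K10.f52741 IH) (Lpe (K10.f52762 IH) (Lpe (f52763 IH) (Lpn (LP (LK LD1_c25 LD2_c50 LD3_c56))))))))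
theorem f52801 : Led Lsl_at (LP (LK LD1_c25 LD2_c50 LD3_c56)) = (LP (LK LD1_c15 LD2_c54 LD3_c51)) :=
  Lre_a IH (LK LD1_c25 LD2_c50 LD3_c56) (LK LD1_c15 LD2_c54 LD3_c51) Lrfl Lrfl
theorem f52802 : Led Lsl_ef (LP (LK LD1_c9 LD2_c33 LD3_c38)) = (LP (LK LD1_c15 LD2_c54 LD3_c51)) :=
  Lgr Lrot20 (Lpr_at (K10.f27628 IH) (Lpr_et (f52764 IH) (Lpr_at (f52801 IH) (Lpn (LP (LK LD1_c15 LD2_c54 LD3_c51))))))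
theorem f189327 : Led Lsl_ct (LP (LK LD1_c19 LD2_c7 LD3_c48)) = (LP (LK LD1_c15 LD2_c54 LD3_c51)) :=
  Lgr Lrot15 (Lpe (f189326 IH) (Lpr_cf (f189315 IH) (Lpr_ef (f52802 IH) (Lpn (LP (LK LD1_c15 LD2_c54 LD3_c51))))))
theorem f189330 : Led Lsl_bt (LP (LK LD1_c10 LD2_c33 LD3_c46)) = (LP (LK LD1_c19 LD2_c7 LD3_c48)) :=
  Lre_b IH (LK LD1_c10 LD2_c33 LD3_c46) (LK LD1_c19 LD2_c7 LD3_c48) Lrfl Lrfl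
theorem f52856 : Led Lsl_bt (LP (LK LD1_c15 LD2_c54 LD3_c51)) = (LP (LK LD1_c8 LD2_c28 LD3_c34)) :=
  Lre_b IH (LK LD1_c15 LD2_c54 LD3_c51) (LK LD1_c8 LD2_c28 LD3_c34) Lrfl Lrfl
theorem f27523 : Led Lsl_ct (LP (LK LD1_c4 LD2_c14 LD3_c26)) = (LP (LK LD1_c8 LD2_c27 LD3_c35)) :=
  Lre_c IH (LK LD1_c4 LD2_c14 LD3_c26) (LK LD1_c8 LD2_c27 LD3_c35) Lrfl Lrfl
theorem f52630 : Led Lsl_cf (LP (LK LD1_c4 LD2_c50 LD3_c46)) = (LP (LK LD1_c8 LD2_c28 LD3_c34)) :=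
  Lgr Lrot1 (Lpr_at (K14.f27621 IH) (Lpr_ct (f27523 IH) (Lpr_at (K10.f52619 IH) (Lpn (LP (LK LD1_c8 LD2_c28 LD3_c34))))))
theorem f27568 : Led Lsl_bt (LP (LK LD1_c4 LD2_c50 LD3_c46)) = (LP (LK LD1_c9 LD2_c33 LD3_c22)) :=
  Lre_b IH (LK LD1_c4 LD2_c50 LD3_c46) (LK LD1_c9 LD2_c33 LD3_c22) Lrfl Lrfl
theorem f189331 : Led Lsl_cf (LP (LK LD1_c10 LD2_c33 LD3_c46)) = (LP (LK LD1_c9 LD2_c33 LD3_c22)) :=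
  Lgr Lrot97 (Lpr_bt (f189330 IH) (Lpr_ct (f189327 IH) (Lpr_bt (f52856 IH) (Lpe (f52630 IH) (Lpr_bt (f27568 IH) (Lpn (LP (LK LD1_c9 LD2_c33 LD3_c22))))))))
theorem f27455 : Led Lsl_ct (LP (LK LD1_c4 LD2_c14 LD3_c52)) = (LP (LK LD1_c2 LD2_c4 LD3_c48)) :=
  Lre_c IH (LK LD1_c4 LD2_c14 LD3_c52) (LK LD1_c2 LD2_c4 LD3_c48) Lrfl Lrfl
theorem f224234 : Led Lsl_cf (LP (LK LD1_c4 LD2_c14 LD3_c51)) = (LP (LK LD1_c2 LD2_c45 LD3_c22)) :=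
  Lgr Lrot1 (Lpe (K10.f52634 IH) (Lpr_ct (f27455 IH) (Lpr_at (K14.f224230 IH) (Lpn (LP (LK LD1_c2 LD2_c45 LD3_c22))))))
theorem f52674 : Led Lsl_ft (LP (LK LD1_c4 LD2_c14 LD3_c51)) = (LP (LK LD1_c8 LD2_c28 LD3_c34)) :=
  Lre_f IH (LK LD1_c4 LD2_c14 LD3_c51) (LK LD1_c8 LD2_c28 LD3_c34) Lrfl Lrfl
theorem f224243 : Led Lsl_ft (LP (LK LD1_c4 LD2_c50 LD3_c46)) = (LP (LK LD1_c2 LD2_c45 LD3_c22)) :=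
  Lgr Lrot4 (Lpr_cf (f52630 IH) (Lpe (f52674 IH) (Lpr_cf (f224234 IH) (Lpn (LP (LK LD1_c2 LD2_c45 LD3_c22))))))
theorem f224232 : Led Lsl_af (LP (LK LD1_c2 LD2_c4 LD3_c48)) = (LP (LK LD1_c2 LD2_c45 LD3_c22)) :=
  Lgr Lrot0 (Lpr_at (K14.f224230 IH) (Lpn (LP (LK LD1_c2 LD2_c45 LD3_c22))))
theorem f27468 : Led Lsl_gt (LP (LK LD1_c4 LD2_c14 LD3_c54)) = (LP (LK LD1_c2 LD2_c4 LD3_c48)) :=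
  Lre_g IH (LK LD1_c4 LD2_c14 LD3_c54) (LK LD1_c2 LD2_c4 LD3_c48) Lrfl Lrfl
theorem f224245 : Led Lsl_gt (LP (LK LD1_c4 LD2_c50 LD3_c46)) = (LP (LK LD1_c4 LD2_c14 LD3_c54)) :=
  Lgr Lrot5 (Lpr_ft (f224243 IH) (Lpe (f224232 IH) (Lpe (f27468 IH) (Lpn (LP (LK LD1_c4 LD2_c14 LD3_c54))))))
theorem f309886 : Led Lsl_bt (LP (LK LD1_c3 LD2_c58 LD3_c50)) = (LP (LK LD1_c4 LD2_c14 LD3_c54)) :=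
  Lgr Lrot92 (Lpr_ct (f309875 IH) (Lpr_gt (f7619 IH) (Lpe (K0.f7583 IH) (Lpr_bt (K17.f7593 IH) (Lpr_gt (K15.f215488 IH) (Lpr_ct (f41498 IH) (Lpr_gt (f268087 IH) (Lpr_cf (f189331 IH) (Lpr_bt (K14.f27567 IH) (Lpr_gt (f224245 IH) (Lpn (LP (LK LD1_c4 LD2_c14 LD3_c54)))))))))))))
theorem f235131 : Led Lsl_et (LP (LK LD1_c4 LD2_c14 LD3_c54)) = (LP (LK LD1_c8 LD2_c28 LD3_c39)) :=
  Lre_e IH (LK LD1_c4 LD2_c14 LD3_c54) (LK LD1_c8 LD2_c28 LD3_c39) Lrfl Lrfl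
theorem f309894 : Led Lsl_bf (LP (LK LD1_c4 LD2_c52 LD3_c17)) = (LP (LK LD1_c8 LD2_c28 LD3_c39)) :=
  Lgr Lrot96 (Lpe (f306908 IH) (Lpr_bt (f309886 IH) (Lpr_et (f235131 IH) (Lpn (LP (LK LD1_c8 LD2_c28 LD3_c39))))))
theorem f290861 : Led Lsl_df (LP (LK LD1_c5 LD2_c4 LD3_c49)) = (LP (LK LD1_c4 LD2_c10 LD3_c8)) :=
  Lgr Lrot162 (Lpe (K17.f212280 IH) (Lpr_gf (K17.f290857 IH) (Lpe (K17.f47965 IH) (Lpr_gf (K16.f278177 IH) (Lpr_dt (K17.f180058 IH) (Lpe (K17.f290854 IH) (Lpr_ct (K14.f247682 IH) (Lpr_gt (K17.f290848 IH) (Lpr_ct (K17.f274854 IH) (Lpn (LP (LK LD1_c4 LD2_c10 LD3_c8))))))))))))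
theorem f290868 : Led Lsl_gt (LP (LK LD1_c5 LD2_c4 LD3_c49)) = (LP (LK LD1_c4 LD2_c7 LD3_c47)) :=
  Lgr Lrot49 (Lpr_df (f290861 IH) (Lpe (K16.f170690 IH) (Lpe (K10.f170646 IH) (Lpr_gt (K16.f170657 IH) (Lpe (K14.f230795 IH) (Lpe (K16.f278528 IH) (Lpr_dt (K15.f44607 IH) (Lpr_cf (K9.f183826 IH) (Lpe (K14.f49247 IH) (Lpn (LP (LK LD1_c4 LD2_c7 LD3_c47))))))))))))
theorem f283786 : Led Lsl_bt (LP (LK LD1_c4 LD2_c2 LD3_c57)) = (LP (LK LD1_c5 LD2_c4 LD3_c49)) :=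
  Lgr Lrot95 (Lpr_df (K17.f283784 IH) (Lpr_bf (K17.f274862 IH) (Lpe (K17.f274858 IH) (Lpn (LP (LK LD1_c5 LD2_c4 LD3_c49))))))
theorem f178453 : Led Lsl_gt (LP (LK LD1_c2 LD2_c59 LD3_c36)) = (LP (LK LD1_c6 LD2_c6 LD3_c57)) :=
  Lre_g IH (LK LD1_c2 LD2_c59 LD3_c36) (LK LD1_c6 LD2_c6 LD3_c57) Lrfl Lrfl
theorem f290870 : Led Lsl_ct (LP (LK LD1_c4 LD2_c2 LD3_c57)) = (LP (LK LD1_c6 LD2_c6 LD3_c57)) :=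
  Lgr Lrot10 (Lpr_bt (f283786 IH) (Lpr_gt (f290868 IH) (Lpr_ct (K15.f50767 IH) (Lpe (K17.f230884 IH) (Lpe (K15.f178452 IH) (Lpr_bt (K14.f178449 IH) (Lpr_gt (K11.f178301 IH) (Lpe (K16.f169067 IH) (Lpr_ct (K15.f169070 IH) (Lpr_gt (f178453 IH) (Lpn (LP (LK LD1_c6 LD2_c6 LD3_c57)))))))))))))
theorem f187620 : Led Lsl_gt (LP (LK LD1_c5 LD2_c36 LD3_c11)) = (LP (LK LD1_c11 LD2_c4 LD3_c37)) :=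
  Lre_g IH (LK LD1_c5 LD2_c36 LD3_c11) (LK LD1_c11 LD2_c4 LD3_c37) Lrfl Lrfl
theorem f290880 : Led Lsl_dt (LP (LK LD1_c11 LD2_c4 LD3_c37)) = (LP (LK LD1_c6 LD2_c6 LD3_c57)) :=
  Lgr Lrot113 (Lpe (f187620 IH) (Lpe (K15.f187623 IH) (Lpe (K10.f188034 IH) (Lpr_ct (K10.f50337 IH) (Lpr_gt (K10.f194753 IH) (Lpe (K10.f42139 IH) (Lpr_gt (K15.f216479 IH) (Lpe (K17.f283784 IH) (Lpr_ct (f290870 IH) (Lpn (LP (LK LD1_c6 LD2_c6 LD3_c57))))))))))))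
theorem f283792 : Led Lsl_cf (LP (LK LD1_c4 LD2_c2 LD3_c57)) = (LP (LK LD1_c6 LD2_c6 LD3_c57)) :=
  Lgr Lrot99 (Lpr_df (K17.f283784 IH) (Lpe (K17.f7952 IH) (Lpe (K15.f7950 IH) (Lpr_cf (K15.f189974 IH) (Lpe (K13.f185063 IH) (Lpe (K13.f189247 IH) (Lpe (K14.f247180 IH) (Lpr_ct (K15.f169070 IH) (Lpr_gt (f178453 IH) (Lpn (LP (LK LD1_c6 LD2_c6 LD3_c57))))))))))))
theorem f290885 : Led Lsl_cf (LP (LK LD1_c11 LD2_c4 LD3_c37)) = (LP (LK LD1_c11 LD2_c4 LD3_c36)) :=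
  Lgr Lrot55 (Lpr_dt (f290880 IH) (Lpe (f283792 IH) (Lpr_dt (f274657 IH) (Lpr_ct (K15.f199558 IH) (Lpr_dt (K15.f177444 IH) (Lpr_ct (K15.f177445 IH) (Lpr_dt (K15.f195965 IH) (Lpr_ct (K15.f216492 IH) (Lpe (K16.f274644 IH) (Lpr_ct (K16.f274568 IH) (Lpe (K16.f238565 IH) (Lpr_ct (K16.f189151 IH) (Lpr_dt (K14.f189257 IH) (Lpr_ct (K15.f216458 IH) (Lpr_dt (K18.f216483 IH) (Lpn (LP (LK LD1_c11 LD2_c4 LD3_c36))))))))))))))))))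
theorem f216278 : Led Lsl_cf (LP (LK LD1_c8 LD2_c6 LD3_c50)) = (LP (LK LD1_c9 LD2_c33 LD3_c32)) :=
  Lgr Lrot14 (Lpe (K16.f194392 IH) (Lpe (K15.f194385 IH) (Lpe (K10.f50908 IH) (Lpr_gf (K14.f216254 IH) (Lpe (K14.f195960 IH) (Lpr_gt (K14.f51278 IH) (Lpr_dt (K10.f51015 IH) (Lpe (K11.f198857 IH) (Lpr_dt (K16.f194761 IH) (Lpn (LP (LK LD1_c9 LD2_c33 LD3_c32))))))))))))
theorem f194409 : Led Lsl_ct (LP (LK LD1_c4 LD2_c2 LD3_c59)) = (LP (LK LD1_c1 LD2_c58 LD3_c29)) :=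
  Lre_c IH (LK LD1_c4 LD2_c2 LD3_c59) (LK LD1_c1 LD2_c58 LD3_c29) Lrfl Lrfl
theorem f194527 : Led Lsl_gt (LP (LK LD1_c8 LD2_c6 LD3_c33)) = (LP (LK LD1_c4 LD2_c2 LD3_c59)) :=
  Lre_g IH (LK LD1_c8 LD2_c6 LD3_c33) (LK LD1_c4 LD2_c2 LD3_c59) Lrfl Lrfl
theorem f274602 : Led Lsl_dt (LP (LK LD1_c8 LD2_c6 LD3_c33)) = (LP (LK LD1_c15 LD2_c16 LD3_c9)) :=
  Lre_d IH (LK LD1_c8 LD2_c6 LD3_c33) (LK LD1_c15 LD2_c16 LD3_c9) Lrfl Lrfl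
theorem f290890 : Led Lsl_gf (LP (LK LD1_c9 LD2_c33 LD3_c32)) = (LP (LK LD1_c15 LD2_c16 LD3_c9)) :=
  Lgr Lrot179 (Lpe (f216278 IH) (Lpr_gt (K18.f216477 IH) (Lpe (f290885 IH) (Lpr_dt (f290880 IH) (Lpe (f290870 IH) (Lpe (K17.f51040 IH) (Lpe (f194409 IH) (Lpe (f194527 IH) (Lpr_dt (f274602 IH) (Lpn (LP (LK LD1_c15 LD2_c16 LD3_c9))))))))))))
theorem f51266 : Led Lsl_dt (LP (LK LD1_c9 LD2_c33 LD3_c32)) = (LP (LK LD1_c4 LD2_c50 LD3_c42)) :=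
  Lre_d IH (LK LD1_c9 LD2_c33 LD3_c32) (LK LD1_c4 LD2_c50 LD3_c42) Lrfl Lrfl
theorem f51253 : Led Lsl_dt (LP (LK LD1_c8 LD2_c6 LD3_c61)) = (LP (LK LD1_c4 LD2_c3 LD3_c13)) :=
  Lre_d IH (LK LD1_c8 LD2_c6 LD3_c61) (LK LD1_c4 LD2_c3 LD3_c13) Lrfl Lrfl
theorem f51256 : Led Lsl_gt (LP (LK LD1_c15 LD2_c16 LD3_c61)) = (LP (LK LD1_c8 LD2_c6 LD3_c61)) :=
  Lre_g IH (LK LD1_c15 LD2_c16 LD3_c61) (LK LD1_c8 LD2_c6 LD3_c61) Lrfl Lrfl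
theorem f290903 : Led Lsl_cf (LP (LK LD1_c15 LD2_c16 LD3_c61)) = (LP (LK LD1_c15 LD2_c16 LD3_c9)) :=
  Lgr Lrot166 (Lpr_gt (f51256 IH) (Lpr_dt (f51253 IH) (Lpr_gt (K15.f30977 IH) (Lpe (K10.f50949 IH) (Lpr_ct (K10.f50955 IH) (Lpe (K10.f27663 IH) (Lpe (K10.f27671 IH) (Lpe (f51266 IH) (Lpr_gf (f290890 IH) (Lpn (LP (LK LD1_c15 LD2_c16 LD3_c9))))))))))))
theorem f274594 : Led Lsl_dt (LP (LK LD1_c15 LD2_c16 LD3_c9)) = (LP (LK LD1_c8 LD2_c6 LD3_c33)) :=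
  Lre_d IH (LK LD1_c15 LD2_c16 LD3_c9) (LK LD1_c8 LD2_c6 LD3_c33) Lrfl Lrfl
theorem f274598 : Led Lsl_gf (LP (LK LD1_c15 LD2_c16 LD3_c9)) = (LP (LK LD1_c9 LD2_c33 LD3_c29)) :=
  Lgr Lrot148 (Lpr_dt (f274594 IH) (Lpr_gt (f194527 IH) (Lpr_dt (K15.f259141 IH) (Lpr_ct (K15.f259153 IH) (Lpr_df (K16.f216194 IH) (Lpr_gf (K16.f265613 IH) (Lpe (K15.f189271 IH) (Lpe (K15.f195958 IH) (Lpr_ct (K16.f274592 IH) (Lpn (LP (LK LD1_c9 LD2_c33 LD3_c29))))))))))))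
theorem f51239 : Led Lsl_dt (LP (LK LD1_c8 LD2_c7 LD3_c2)) = (LP (LK LD1_c4 LD2_c3 LD3_c14)) :=
  Lre_d IH (LK LD1_c8 LD2_c7 LD3_c2) (LK LD1_c4 LD2_c3 LD3_c14) Lrfl Lrfl
theorem f290970 : Led Lsl_ct (LP (LK LD1_c8 LD2_c6 LD3_c61)) = (LP (LK LD1_c8 LD2_c7 LD3_c2)) :=
  Lgr Lrot110 (Lpe (f51256 IH) (Lpr_cf (f290903 IH) (Lpr_gf (f274598 IH) (Lpe (K16.f27668 IH) (Lpe (K13.f216131 IH) (Lpr_ct (K10.f27620 IH) (Lpe (K15.f231695 IH) (Lpe (K13.f231574 IH) (Lpe (f51239 IH) (Lpn (LP (LK LD1_c8 LD2_c7 LD3_c2))))))))))))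
theorem f30968 : Led Lsl_dt (LP (LK LD1_c4 LD2_c3 LD3_c14)) = (LP (LK LD1_c8 LD2_c7 LD3_c2)) :=
  Lre_d IH (LK LD1_c4 LD2_c3 LD3_c14) (LK LD1_c8 LD2_c7 LD3_c2) Lrfl Lrfl
theorem f290899 : Led Lsl_ct (LP (LK LD1_c15 LD2_c16 LD3_c61)) = (LP (LK LD1_c15 LD2_c16 LD3_c9)) :=
  Lgr Lrot8 (Lpr_gt (f51256 IH) (Lpr_dt (f51253 IH) (Lpr_gt (K15.f30977 IH) (Lpe (K10.f50949 IH) (Lpe (K10.f50934 IH) (Lpe (K10.f27663 IH) (Lpe (K10.f27671 IH) (Lpe (f51266 IH) (Lpr_gf (f290890 IH) (Lpn (LP (LK LD1_c15 LD2_c16 LD3_c9))))))))))))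
theorem f290905 : Led Lsl_gt (LP (LK LD1_c8 LD2_c7 LD3_c2)) = (LP (LK LD1_c15 LD2_c16 LD3_c61)) :=
  Lgr Lrot9 (Lpe (f30968 IH) (Lpr_gt (K13.f50332 IH) (Lpr_ct (K15.f50381 IH) (Lpr_gt (K10.f28818 IH) (Lpr_ct (K10.f51369 IH) (Lpe (K15.f194389 IH) (Lpr_cf (f216278 IH) (Lpr_gf (f290890 IH) (Lpe (f290899 IH) (Lpn (LP (LK LD1_c15 LD2_c16 LD3_c61))))))))))))
theorem f290911 : Led Lsl_df (LP (LK LD1_c8 LD2_c14 LD3_c12)) = (LP (LK LD1_c15 LD2_c16 LD3_c61)) :=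
  Lgr Lrot84 (Lpr_cf (K14.f252989 IH) (Lpe (K17.f192480 IH) (Lpe (K15.f259135 IH) (Lpe (K10.f194748 IH) (Lpe (K10.f28072 IH) (Lpe (K10.f30957 IH) (Lpr_gt (K13.f30967 IH) (Lpr_dt (f30968 IH) (Lpr_gt (f290905 IH) (Lpn (LP (LK LD1_c15 LD2_c16 LD3_c61))))))))))))
theorem f22099 : Led Lsl_gt (LP (LK LD1_c2 LD2_c0 LD3_c45)) = (LP (LK LD1_c4 LD2_c6 LD3_c49)) :=
  Lre_g IH (LK LD1_c2 LD2_c0 LD3_c45) (LK LD1_c4 LD2_c6 LD3_c49) Lrfl Lrfl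
theorem f290982 : Led Lsl_ct (LP (LK LD1_c4 LD2_c6 LD3_c49)) = (LP (LK LD1_c8 LD2_c6 LD3_c33)) :=
  Lgr Lrot110 (Lpe (f22099 IH) (Lpe (K14.f190940 IH) (Lpe (K14.f190944 IH) (Lpr_df (f290911 IH) (Lpr_gt (f51256 IH) (Lpr_ct (f290970 IH) (Lpr_gt (f290905 IH) (Lpr_ct (f290899 IH) (Lpe (f274602 IH) (Lpn (LP (LK LD1_c8 LD2_c6 LD3_c33))))))))))))
theorem f290989 : Led Lsl_gt (LP (LK LD1_c4 LD2_c6 LD3_c49)) = (LP (LK LD1_c2 LD2_c4 LD3_c32)) :=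
  Lgr Lrot180 (Lpr_ct (f290982 IH) (Lpr_gt (f194527 IH) (Lpr_dt (K15.f259141 IH) (Lpr_gt (K15.f259142 IH) (Lpr_dt (K10.f27601 IH) (Lpr_ct (K0.f27603 IH) (Lpe (K0.f27561 IH) (Lpr_gf (K10.f27597 IH) (Lpe (K14.f27602 IH) (Lpn (LP (LK LD1_c2 LD2_c4 LD3_c32))))))))))))
theorem f237929 : Led Lsl_gt (LP (LK LD1_c8 LD2_c11 LD3_c54)) = (LP (LK LD1_c4 LD2_c5 LD3_c28)) :=
  Lre_g IH (LK LD1_c8 LD2_c11 LD3_c54) (LK LD1_c4 LD2_c5 LD3_c28) Lrfl Lrfl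
theorem f237930 : Led Lsl_ct (LP (LK LD1_c15 LD2_c26 LD3_c4)) = (LP (LK LD1_c8 LD2_c11 LD3_c54)) :=
  Lre_c IH (LK LD1_c15 LD2_c26 LD3_c4) (LK LD1_c8 LD2_c11 LD3_c54) Lrfl Lrfl
theorem f247205 : Led Lsl_gf (LP (LK LD1_c9 LD2_c33 LD3_c30)) = (LP (LK LD1_c15 LD2_c26 LD3_c4)) :=
  Lgr Lrot144 (Lpr_dt (K18.f27670 IH) (Lpe (K18.f223668 IH) (Lpr_dt (K18.f223670 IH) (Lpe (K14.f223675 IH) (Lpr_df (K14.f247197 IH) (Lpe (K14.f237908 IH) (Lpr_df (K17.f237914 IH) (Lpe (f237929 IH) (Lpe (f237930 IH) (Lpn (LP (LK LD1_c15 LD2_c26 LD3_c4))))))))))))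
theorem f223687 : Led Lsl_et (LP (LK LD1_c1 LD2_c59 LD3_c21)) = (LP (LK LD1_c0 LD2_c56 LD3_c29)) :=
  Lre_e IH (LK LD1_c1 LD2_c59 LD3_c21) (LK LD1_c0 LD2_c56 LD3_c29) Lrfl Lrfl
theorem f199203 : Led Lsl_dt (LP (LK LD1_c1 LD2_c59 LD3_c21)) = (LP (LK LD1_c4 LD2_c4 LD3_c43)) :=
  Lre_d IH (LK LD1_c1 LD2_c59 LD3_c21) (LK LD1_c4 LD2_c4 LD3_c43) Lrfl Lrfl
theorem f199260 : Led Lsl_gt (LP (LK LD1_c4 LD2_c4 LD3_c43)) = (LP (LK LD1_c8 LD2_c10 LD3_c17)) :=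
  Lre_g IH (LK LD1_c4 LD2_c4 LD3_c43) (LK LD1_c8 LD2_c10 LD3_c17) Lrfl Lrfl
theorem f223688 : Led Lsl_dt (LP (LK LD1_c15 LD2_c23 LD3_c20)) = (LP (LK LD1_c8 LD2_c10 LD3_c17)) :=
  Lre_d IH (LK LD1_c15 LD2_c23 LD3_c20) (LK LD1_c8 LD2_c10 LD3_c17) Lrfl Lrfl
theorem f237935 : Led Lsl_et (LP (LK LD1_c15 LD2_c23 LD3_c20)) = (LP (LK LD1_c8 LD2_c11 LD3_c54)) :=
  Lgr Lrot121 (Lpr_dt (f223688 IH) (Lpe (f199260 IH) (Lpe (f199203 IH) (Lpr_et (f223687 IH) (Lpe (K12.f223666 IH) (Lpe (K17.f223686 IH) (Lpr_dt (K17.f223696 IH) (Lpe (K14.f237908 IH) (Lpr_df (K17.f237914 IH) (Lpe (f237929 IH) (Lpn (LP (LK LD1_c8 LD2_c11 LD3_c54)))))))))))))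
theorem f237944 : Led Lsl_ef (LP (LK LD1_c15 LD2_c23 LD3_c20)) = (LP (LK LD1_c8 LD2_c11 LD3_c54)) :=
  Lgr Lrot88 (Lpr_et (f237935 IH) (Lpn (LP (LK LD1_c8 LD2_c11 LD3_c54))))
theorem f199262 : Led Lsl_ct (LP (LK LD1_c15 LD2_c23 LD3_c20)) = (LP (LK LD1_c25 LD2_c15 LD3_c35)) :=
  Lre_c IH (LK LD1_c15 LD2_c23 LD3_c20) (LK LD1_c25 LD2_c15 LD3_c35) Lrfl Lrfl
theorem f237949 : Led Lsl_et (LP (LK LD1_c25 LD2_c15 LD3_c35)) = (LP (LK LD1_c15 LD2_c26 LD3_c4)) :=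
  Lgr Lrot158 (Lpe (f199262 IH) (Lpr_ef (f237944 IH) (Lpe (f237930 IH) (Lpn (LP (LK LD1_c15 LD2_c26 LD3_c4))))))
theorem f200718 : Led Lsl_et (LP (LK LD1_c4 LD2_c19 LD3_c12)) = (LP (LK LD1_c2 LD2_c6 LD3_c61)) :=
  Lre_e IH (LK LD1_c4 LD2_c19 LD3_c12) (LK LD1_c2 LD2_c6 LD3_c61) Lrfl Lrfl
theorem f200720 : Led Lsl_gt (LP (LK LD1_c8 LD2_c36 LD3_c51)) = (LP (LK LD1_c16 LD2_c8 LD3_c21)) :=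
  Lre_g IH (LK LD1_c8 LD2_c36 LD3_c51) (LK LD1_c16 LD2_c8 LD3_c21) Lrfl Lrfl
theorem f247225 : Led Lsl_df (LP (LK LD1_c16 LD2_c8 LD3_c21)) = (LP (LK LD1_c25 LD2_c15 LD3_c35)) :=
  Lgr Lrot168 (Lpe (f200720 IH) (Lpe (K16.f200719 IH) (Lpr_et (f200718 IH) (Lpe (K12.f200704 IH) (Lpe (K18.f200716 IH) (Lpr_dt (K18.f200717 IH) (Lpr_gf (K18.f223668 IH) (Lpe (K18.f27670 IH) (Lpr_gf (f247205 IH) (Lpe (f237949 IH) (Lpn (LP (LK LD1_c25 LD2_c15 LD3_c35)))))))))))))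
theorem f247232 : Led Lsl_dt (LP (LK LD1_c16 LD2_c8 LD3_c21)) = (LP (LK LD1_c25 LD2_c15 LD3_c35)) :=
  Lgr Lrot42 (Lpr_df (f247225 IH) (Lpn (LP (LK LD1_c25 LD2_c15 LD3_c35))))
theorem f199261 : Led Lsl_dt (LP (LK LD1_c8 LD2_c10 LD3_c17)) = (LP (LK LD1_c15 LD2_c23 LD3_c20)) :=
  Lre_d IH (LK LD1_c8 LD2_c10 LD3_c17) (LK LD1_c15 LD2_c23 LD3_c20) Lrfl Lrfl
theorem f193326 : Led Lsl_gt (LP (LK LD1_c4 LD2_c4 LD3_c42)) = (LP (LK LD1_c1 LD2_c59 LD3_c21)) :=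
  Lre_g IH (LK LD1_c4 LD2_c4 LD3_c42) (LK LD1_c1 LD2_c59 LD3_c21) Lrfl Lrfl
theorem f224904 : Led Lsl_ct (LP (LK LD1_c8 LD2_c10 LD3_c16)) = (LP (LK LD1_c4 LD2_c4 LD3_c42)) :=
  Lre_c IH (LK LD1_c8 LD2_c10 LD3_c16) (LK LD1_c4 LD2_c4 LD3_c42) Lrfl Lrfl
theorem f247243 : Led Lsl_gf (LP (LK LD1_c4 LD2_c19 LD3_c12)) = (LP (LK LD1_c8 LD2_c10 LD3_c16)) :=
  Lgr Lrot144 (Lpr_dt (K16.f200719 IH) (Lpr_gt (f200720 IH) (Lpr_dt (f247232 IH) (Lpe (f199262 IH) (Lpe (f199261 IH) (Lpe (f199260 IH) (Lpe (f199203 IH) (Lpe (f193326 IH) (Lpe (f224904 IH) (Lpn (LP (LK LD1_c8 LD2_c10 LD3_c16))))))))))))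
theorem f274603 : Led Lsl_et (LP (LK LD1_c8 LD2_c6 LD3_c33)) = (LP (LK LD1_c8 LD2_c10 LD3_c16)) :=
  Lgr Lrot121 (Lpr_dt (f274602 IH) (Lpr_gf (f274598 IH) (Lpe (K16.f27668 IH) (Lpr_et (K17.f216128 IH) (Lpr_gf (f247205 IH) (Lpe (f237949 IH) (Lpe (f247225 IH) (Lpe (f200720 IH) (Lpe (K16.f200719 IH) (Lpr_gf (f247243 IH) (Lpn (LP (LK LD1_c8 LD2_c10 LD3_c16)))))))))))))
theorem f290987 : Led Lsl_ef (LP (LK LD1_c4 LD2_c6 LD3_c49)) = (LP (LK LD1_c4 LD2_c4 LD3_c42)) :=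
  Lgr Lrot28 (Lpr_ct (f290982 IH) (Lpr_et (f274603 IH) (Lpr_ct (f224904 IH) (Lpn (LP (LK LD1_c4 LD2_c4 LD3_c42))))))
theorem f199255 : Led Lsl_dt (LP (LK LD1_c4 LD2_c4 LD3_c43)) = (LP (LK LD1_c1 LD2_c59 LD3_c21)) :=
  Lre_d IH (LK LD1_c4 LD2_c4 LD3_c43) (LK LD1_c1 LD2_c59 LD3_c21) Lrfl Lrfl
theorem f2444 : Led Lsl_ef (LP (LK LD1_c0 LD2_c31 LD3_c29)) = (LP (LK LD1_c0 LD2_c31 LD3_c51)) :=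
  Lgr Lrot88 (Lpr_et (K1.f2435 IH) (Lpn (LP (LK LD1_c0 LD2_c31 LD3_c51))))
theorem f1588 : Led Lsl_et (LP (LK LD1_c2 LD2_c23 LD3_c39)) = (LP (LK LD1_c1 LD2_c8 LD3_c55)) :=
  Lre_e IH (LK LD1_c2 LD2_c23 LD3_c39) (LK LD1_c1 LD2_c8 LD3_c55) Lrfl Lrfl
theorem f224885 : Led Lsl_df (LP (LK LD1_c4 LD2_c4 LD3_c42)) = (LP (LK LD1_c2 LD2_c23 LD3_c39)) :=
  Lgr Lrot170 (Lpr_gt (f193326 IH) (Lpe (f199255 IH) (Lpr_et (K15.f199257 IH) (Lpr_gt (K12.f224877 IH) (Lpr_dt (K12.f180210 IH) (Lpr_gt (K12.f187085 IH) (Lpe (K1.f2434 IH) (Lpe (f2444 IH) (Lpr_gt (K11.f2792 IH) (Lpe (f1588 IH) (Lpn (LP (LK LD1_c2 LD2_c23 LD3_c39)))))))))))))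
theorem f224896 : Led Lsl_dt (LP (LK LD1_c4 LD2_c4 LD3_c42)) = (LP (LK LD1_c2 LD2_c23 LD3_c39)) :=
  Lgr Lrot42 (Lpr_df (f224885 IH) (Lpn (LP (LK LD1_c2 LD2_c23 LD3_c39))))
theorem f171080 : Led Lsl_gt (LP (LK LD1_c4 LD2_c51 LD3_c37)) = (LP (LK LD1_c2 LD2_c23 LD3_c39)) :=
  Lre_g IH (LK LD1_c4 LD2_c51 LD3_c37) (LK LD1_c2 LD2_c23 LD3_c39) Lrfl Lrfl
theorem f27562 : Led Lsl_et (LP (LK LD1_c2 LD2_c23 LD3_c10)) = (LP (LK LD1_c4 LD2_c50 LD3_c46)) :=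
  Lre_e IH (LK LD1_c2 LD2_c23 LD3_c10) (LK LD1_c4 LD2_c50 LD3_c46) Lrfl Lrfl
theorem f27478 : Led Lsl_et (LP (LK LD1_c8 LD2_c28 LD3_c39)) = (LP (LK LD1_c4 LD2_c14 LD3_c54)) :=
  Lre_e IH (LK LD1_c8 LD2_c28 LD3_c39) (LK LD1_c4 LD2_c14 LD3_c54) Lrfl Lrfl
theorem f291026 : Led Lsl_df (LP (LK LD1_c4 LD2_c51 LD3_c37)) = (LP (LK LD1_c8 LD2_c28 LD3_c39)) :=
  Lgr Lrot170 (Lpr_gt (f171080 IH) (Lpe (f224896 IH) (Lpe (f290987 IH) (Lpr_gt (f290989 IH) (Lpr_dt (K14.f27602 IH) (Lpe (K10.f27597 IH) (Lpe (K10.f27563 IH) (Lpr_et (f27562 IH) (Lpr_gt (f224245 IH) (Lpe (f27478 IH) (Lpn (LP (LK LD1_c8 LD2_c28 LD3_c39)))))))))))))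
theorem f291028 : Led Lsl_dt (LP (LK LD1_c4 LD2_c51 LD3_c37)) = (LP (LK LD1_c8 LD2_c28 LD3_c39)) :=
  Lgr Lrot42 (Lpr_df (f291026 IH) (Lpn (LP (LK LD1_c8 LD2_c28 LD3_c39))))
theorem f309898 : Led Lsl_bt (LP (LK LD1_c2 LD2_c23 LD3_c53)) = (LP (LK LD1_c4 LD2_c51 LD3_c37)) :=
  Lgr Lrot95 (Lpe (f306907 IH) (Lpr_bf (f309894 IH) (Lpe (f291028 IH) (Lpn (LP (LK LD1_c4 LD2_c51 LD3_c37))))))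
theorem f291030 : Led Lsl_et (LP (LK LD1_c4 LD2_c51 LD3_c37)) = (LP (LK LD1_c9 LD2_c35 LD3_c23)) :=
  Lre_e IH (LK LD1_c4 LD2_c51 LD3_c37) (LK LD1_c9 LD2_c35 LD3_c23) Lrfl Lrfl
theorem f309902 : Led Lsl_bf (LP (LK LD1_c4 LD2_c52 LD3_c18)) = (LP (LK LD1_c9 LD2_c35 LD3_c23)) :=
  Lgr Lrot96 (Lpr_et (f306912 IH) (Lpr_bt (f309898 IH) (Lpr_et (f291030 IH) (Lpn (LP (LK LD1_c9 LD2_c35 LD3_c23))))))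
theorem f306920 : Led Lsl_bt (LP (LK LD1_c2 LD2_c44 LD3_c4)) = (LP (LK LD1_c5 LD2_c36 LD3_c26)) :=
  Lre_b IH (LK LD1_c2 LD2_c44 LD3_c4) (LK LD1_c5 LD2_c36 LD3_c26) Lrfl Lrfl
theorem f309956 : Led Lsl_dt (LP (LK LD1_c5 LD2_c36 LD3_c26)) = (LP (LK LD1_c9 LD2_c35 LD3_c23)) :=
  Lgr Lrot79 (Lpe (f306920 IH) (Lpr_df (f306918 IH) (Lpr_bf (f309902 IH) (Lpn (LP (LK LD1_c9 LD2_c35 LD3_c23))))))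
theorem f224940 : Led Lsl_ct (LP (LK LD1_c17 LD2_c39 LD3_c33)) = (LP (LK LD1_c9 LD2_c35 LD3_c23)) :=
  Lre_c IH (LK LD1_c17 LD2_c39 LD3_c33) (LK LD1_c9 LD2_c35 LD3_c23) Lrfl Lrfl
theorem f197714 : Led Lsl_et (LP (LK LD1_c8 LD2_c10 LD3_c19)) = (LP (LK LD1_c4 LD2_c4 LD3_c46)) :=
  Lre_e IH (LK LD1_c8 LD2_c10 LD3_c19) (LK LD1_c4 LD2_c4 LD3_c46) Lrfl Lrfl
theorem f197715 : Led Lsl_dt (LP (LK LD1_c8 LD2_c10 LD3_c19)) = (LP (LK LD1_c15 LD2_c23 LD3_c24)) :=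
  Lre_d IH (LK LD1_c8 LD2_c10 LD3_c19) (LK LD1_c15 LD2_c23 LD3_c24) Lrfl Lrfl
theorem f2442 : Led Lsl_ef (LP (LK LD1_c1 LD2_c8 LD3_c57)) = (LP (LK LD1_c1 LD2_c9 LD3_c20)) :=
  Lgr Lrot28 (Lpr_ct (K13.f1918 IH) (Lpr_et (K1.f2435 IH) (Lpr_ct (K1.f2441 IH) (Lpn (LP (LK LD1_c1 LD2_c9 LD3_c20))))))
theorem f1812 : Led Lsl_et (LP (LK LD1_c4 LD2_c51 LD3_c51)) = (LP (LK LD1_c2 LD2_c23 LD3_c43)) :=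
  Lre_e IH (LK LD1_c4 LD2_c51 LD3_c51) (LK LD1_c2 LD2_c23 LD3_c43) Lrfl Lrfl
theorem f1813 : Led Lsl_dt (LP (LK LD1_c4 LD2_c51 LD3_c51)) = (LP (LK LD1_c9 LD2_c35 LD3_c53)) :=
  Lre_d IH (LK LD1_c4 LD2_c51 LD3_c51) (LK LD1_c9 LD2_c35 LD3_c53) Lrfl Lrfl
theorem f224923 : Led Lsl_gf (LP (LK LD1_c15 LD2_c23 LD3_c24)) = (LP (LK LD1_c9 LD2_c35 LD3_c53)) :=
  Lgr Lrot145 (Lpe (f197715 IH) (Lpr_et (f197714 IH) (Lpe (K12.f197445 IH) (Lpr_dt (K12.f224879 IH) (Lpr_gt (K12.f2522 IH) (Lpe (K1.f2493 IH) (Lpe (f2442 IH) (Lpr_gt (K12.f2793 IH) (Lpe (f1812 IH) (Lpr_dt (f1813 IH) (Lpn (LP (LK LD1_c9 LD2_c35 LD3_c53)))))))))))))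
theorem f197719 : Led Lsl_dt (LP (LK LD1_c7 LD2_c55 LD3_c39)) = (LP (LK LD1_c14 LD2_c57 LD3_c21)) :=
  Lre_d IH (LK LD1_c7 LD2_c55 LD3_c39) (LK LD1_c14 LD2_c57 LD3_c21) Lrfl Lrfl
theorem f197720 : Led Lsl_gt (LP (LK LD1_c14 LD2_c57 LD3_c21)) = (LP (LK LD1_c24 LD2_c44 LD3_c54)) :=
  Lre_g IH (LK LD1_c14 LD2_c57 LD3_c21) (LK LD1_c24 LD2_c44 LD3_c54) Lrfl Lrfl
theorem f199319 : Led Lsl_dt (LP (LK LD1_c15 LD2_c23 LD3_c24)) = (LP (LK LD1_c8 LD2_c10 LD3_c19)) :=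
  Lre_d IH (LK LD1_c15 LD2_c23 LD3_c24) (LK LD1_c8 LD2_c10 LD3_c19) Lrfl Lrfl
theorem f199306 : Led Lsl_ct (LP (LK LD1_c8 LD2_c10 LD3_c19)) = (LP (LK LD1_c4 LD2_c4 LD3_c43)) :=
  Lre_c IH (LK LD1_c8 LD2_c10 LD3_c19) (LK LD1_c4 LD2_c4 LD3_c43) Lrfl Lrfl
theorem f224905 : Led Lsl_ct (LP (LK LD1_c4 LD2_c51 LD3_c37)) = (LP (LK LD1_c9 LD2_c35 LD3_c22)) :=
  Lre_c IH (LK LD1_c4 LD2_c51 LD3_c37) (LK LD1_c9 LD2_c35 LD3_c22) Lrfl Lrfl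
theorem f224925 : Led Lsl_gt (LP (LK LD1_c9 LD2_c35 LD3_c22)) = (LP (LK LD1_c4 LD2_c51 LD3_c51)) :=
  Lgr Lrot94 (Lpe (f224905 IH) (Lpr_gt (f171080 IH) (Lpe (f224885 IH) (Lpr_gt (f193326 IH) (Lpr_dt (f199203 IH) (Lpe (f199306 IH) (Lpe (f199319 IH) (Lpr_gf (f224923 IH) (Lpe (f1813 IH) (Lpn (LP (LK LD1_c4 LD2_c51 LD3_c51))))))))))))
theorem f224932 : Led Lsl_et (LP (LK LD1_c17 LD2_c39 LD3_c33)) = (LP (LK LD1_c9 LD2_c35 LD3_c22)) :=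
  Lre_e IH (LK LD1_c17 LD2_c39 LD3_c33) (LK LD1_c9 LD2_c35 LD3_c22) Lrfl Lrfl
theorem f224933 : Led Lsl_df (LP (LK LD1_c24 LD2_c44 LD3_c54)) = (LP (LK LD1_c17 LD2_c39 LD3_c33)) :=
  Lgr Lrot168 (Lpe (f197720 IH) (Lpe (f197719 IH) (Lpr_et (K15.f197718 IH) (Lpr_gf (K12.f197445 IH) (Lpe (f197714 IH) (Lpr_dt (f197715 IH) (Lpr_gf (f224923 IH) (Lpe (f1813 IH) (Lpe (f224925 IH) (Lpe (f224932 IH) (Lpn (LP (LK LD1_c17 LD2_c39 LD3_c33)))))))))))))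
theorem f224936 : Led Lsl_dt (LP (LK LD1_c24 LD2_c44 LD3_c54)) = (LP (LK LD1_c17 LD2_c39 LD3_c33)) :=
  Lgr Lrot42 (Lpr_df (f224933 IH) (Lpn (LP (LK LD1_c17 LD2_c39 LD3_c33))))
theorem f309963 : Led Lsl_gf (LP (LK LD1_c5 LD2_c36 LD3_c26)) = (LP (LK LD1_c2 LD2_c45 LD3_c28)) :=
  Lgr Lrot143 (Lpr_dt (f309956 IH) (Lpe (f224940 IH) (Lpe (f224936 IH) (Lpe (f197720 IH) (Lpe (f197719 IH) (Lpr_gf (K18.f298883 IH) (Lpe (K18.f200476 IH) (Lpr_gt (K13.f200464 IH) (Lpe (K18.f200446 IH) (Lpn (LP (LK LD1_c2 LD2_c45 LD3_c28))))))))))))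
theorem f309965 : Led Lsl_gt (LP (LK LD1_c5 LD2_c36 LD3_c26)) = (LP (LK LD1_c8 LD2_c9 LD3_c39)) :=
  Lgr Lrot46 (Lpr_gf (f309963 IH) (Lpr_ft (K18.f200452 IH) (Lpr_at (K18.f297967 IH) (Lpn (LP (LK LD1_c8 LD2_c9 LD3_c39))))))
theorem f305103 : Led Lsl_ct (LP (LK LD1_c5 LD2_c36 LD3_c26)) = (LP (LK LD1_c11 LD2_c4 LD3_c61)) :=
  Lre_c IH (LK LD1_c5 LD2_c36 LD3_c26) (LK LD1_c11 LD2_c4 LD3_c61) Lrfl Lrfl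
theorem f190022 : Led Lsl_ct (LP (LK LD1_c8 LD2_c27 LD3_c25)) = (LP (LK LD1_c4 LD2_c14 LD3_c22)) :=
  Lre_c IH (LK LD1_c8 LD2_c27 LD3_c25) (LK LD1_c4 LD2_c14 LD3_c22) Lrfl Lrfl
theorem f190025 : Led Lsl_dt (LP (LK LD1_c15 LD2_c52 LD3_c50)) = (LP (LK LD1_c8 LD2_c27 LD3_c25)) :=
  Lre_d IH (LK LD1_c15 LD2_c52 LD3_c50) (LK LD1_c8 LD2_c27 LD3_c25) Lrfl Lrfl
theorem f309968 : Led Lsl_gt (LP (LK LD1_c11 LD2_c4 LD3_c61)) = (LP (LK LD1_c15 LD2_c17 LD3_c50)) :=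
  Lgr Lrot94 (Lpe (f305103 IH) (Lpr_gt (f309965 IH) (Lpr_dt (K14.f247202 IH) (Lpr_gt (K18.f298601 IH) (Lpe (f200479 IH) (Lpe (f190022 IH) (Lpe (f190025 IH) (Lpe (K18.f262178 IH) (Lpe (K18.f28882 IH) (Lpn (LP (LK LD1_c15 LD2_c17 LD3_c50))))))))))))
theorem f305100 : Led Lsl_bt (LP (LK LD1_c5 LD2_c36 LD3_c26)) = (LP (LK LD1_c2 LD2_c44 LD3_c4)) :=
  Lre_b IH (LK LD1_c5 LD2_c36 LD3_c26) (LK LD1_c2 LD2_c44 LD3_c4) Lrfl Lrfl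
theorem f228804 : Led Lsl_bt (LP (LK LD1_c2 LD2_c44 LD3_c1)) = (LP (LK LD1_c1 LD2_c18 LD3_c24)) :=
  Lre_b IH (LK LD1_c2 LD2_c44 LD3_c1) (LK LD1_c1 LD2_c18 LD3_c24) Lrfl Lrfl
theorem f228802 : Led Lsl_ct (LP (LK LD1_c2 LD2_c44 LD3_c1)) = (LP (LK LD1_c5 LD2_c36 LD3_c14)) :=
  Lre_c IH (LK LD1_c2 LD2_c44 LD3_c1) (LK LD1_c5 LD2_c36 LD3_c14) Lrfl Lrfl
theorem f228846 : Led Lsl_gt (LP (LK LD1_c11 LD2_c4 LD3_c43)) = (LP (LK LD1_c5 LD2_c36 LD3_c14)) :=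
  Lre_g IH (LK LD1_c11 LD2_c4 LD3_c43) (LK LD1_c5 LD2_c36 LD3_c14) Lrfl Lrfl
theorem f220650 : Led Lsl_gt (LP (LK LD1_c10 LD2_c34 LD3_c61)) = (LP (LK LD1_c5 LD2_c22 LD3_c16)) :=
  Lre_g IH (LK LD1_c10 LD2_c34 LD3_c61) (LK LD1_c5 LD2_c22 LD3_c16) Lrfl Lrfl
theorem f246333 : Led Lsl_gt (LP (LK LD1_c10 LD2_c35 LD3_c26)) = (LP (LK LD1_c10 LD2_c34 LD3_c61)) :=
  Lgr Lrot5 (Lpr_ft (K13.f196635 IH) (Lpr_at (K13.f246325 IH) (Lpe (f220650 IH) (Lpn (LP (LK LD1_c10 LD2_c34 LD3_c61))))))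
theorem f309974 : Led Lsl_cf (LP (LK LD1_c11 LD2_c4 LD3_c43)) = (LP (LK LD1_c10 LD2_c34 LD3_c61)) :=
  Lgr Lrot125 (Lpr_gt (f228846 IH) (Lpe (f228802 IH) (Lpr_bt (f228804 IH) (Lpr_gt (f178457 IH) (Lpe (f305100 IH) (Lpr_ct (f305103 IH) (Lpr_gt (f309968 IH) (Lpe (K18.f28881 IH) (Lpe (K13.f196655 IH) (Lpr_gt (f246333 IH) (Lpn (LP (LK LD1_c10 LD2_c34 LD3_c61)))))))))))))
theorem f228801 : Led Lsl_ct (LP (LK LD1_c5 LD2_c36 LD3_c14)) = (LP (LK LD1_c2 LD2_c44 LD3_c1)) :=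
  Lre_c IH (LK LD1_c5 LD2_c36 LD3_c14) (LK LD1_c2 LD2_c44 LD3_c1) Lrfl Lrfl
theorem f228841 : Led Lsl_ct (LP (LK LD1_c4 LD2_c13 LD3_c10)) = (LP (LK LD1_c2 LD2_c3 LD3_c51)) :=
  Lre_c IH (LK LD1_c4 LD2_c13 LD3_c10) (LK LD1_c2 LD2_c3 LD3_c51) Lrfl Lrfl
theorem f309984 : Led Lsl_gf (LP (LK LD1_c4 LD2_c13 LD3_c10)) = (LP (LK LD1_c8 LD2_c24 LD3_c28)) :=
  Lgr Lrot104 (Lpr_ct (f228841 IH) (Lpe (K15.f228816 IH) (Lpe (f228801 IH) (Lpe (f228846 IH) (Lpr_cf (f309974 IH) (Lpe (f246333 IH) (Lpr_df (K13.f196637 IH) (Lpr_gt (K14.f246351 IH) (Lpr_ct (K17.f276713 IH) (Lpn (LP (LK LD1_c8 LD2_c24 LD3_c28))))))))))))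
theorem f309994 : Led Lsl_et (LP (LK LD1_c2 LD2_c3 LD3_c50)) = (LP (LK LD1_c4 LD2_c13 LD3_c10)) :=
  Lre_e IH (LK LD1_c2 LD2_c3 LD3_c50) (LK LD1_c4 LD2_c13 LD3_c10) Lrfl Lrfl
theorem f184315 : Led Lsl_gt (LP (LK LD1_c4 LD2_c13 LD3_c9)) = (LP (LK LD1_c8 LD2_c25 LD3_c34)) :=
  Lre_g IH (LK LD1_c4 LD2_c13 LD3_c9) (LK LD1_c8 LD2_c25 LD3_c34) Lrfl Lrfl
theorem f292747 : Led Lsl_gt (LP (LK LD1_c8 LD2_c40 LD3_c3)) = (LP (LK LD1_c8 LD2_c24 LD3_c27)) :=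
  Lgr Lrot46 (Lpr_gf (K17.f292719 IH) (Lpr_ft (K15.f267508 IH) (Lpr_at (K15.f267484 IH) (Lpn (LP (LK LD1_c8 LD2_c24 LD3_c27))))))
theorem f232438 : Led Lsl_et (LP (LK LD1_c4 LD2_c21 LD3_c3)) = (LP (LK LD1_c2 LD2_c8 LD3_c8)) :=
  Lre_e IH (LK LD1_c4 LD2_c21 LD3_c3) (LK LD1_c2 LD2_c8 LD3_c8) Lrfl Lrfl
theorem f309995 : Led Lsl_df (LP (LK LD1_c8 LD2_c25 LD3_c34)) = (LP (LK LD1_c4 LD2_c21 LD3_c3)) :=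
  Lgr Lrot168 (Lpe (f184315 IH) (Lpe (K14.f184314 IH) (Lpr_et (f309994 IH) (Lpr_gf (f309984 IH) (Lpe (K17.f166510 IH) (Lpr_dt (K15.f166509 IH) (Lpe (f292747 IH) (Lpe (K17.f267109 IH) (Lpe (K17.f251766 IH) (Lpe (f232438 IH) (Lpn (LP (LK LD1_c4 LD2_c21 LD3_c3)))))))))))))
theorem f232806 : Led Lsl_ff (LP (LK LD1_c8 LD2_c32 LD3_c42)) = (LP (LK LD1_c6 LD2_c4 LD3_c19)) :=
  Lgr Lrot3 (Lpr_ft (K15.f232802 IH) (Lpn (LP (LK LD1_c6 LD2_c4 LD3_c19))))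
theorem f199925 : Led Lsl_ft (LP (LK LD1_c8 LD2_c21 LD3_c13)) = (LP (LK LD1_c6 LD2_c4 LD3_c22)) :=
  Lgr Lrot54 (Lpe (K16.f187018 IH) (Lpr_ff (K11.f199919 IH) (Lpe (K15.f29052 IH) (Lpn (LP (LK LD1_c6 LD2_c4 LD3_c22))))))
theorem f232808 : Led Lsl_at (LP (LK LD1_c8 LD2_c32 LD3_c42)) = (LP (LK LD1_c8 LD2_c21 LD3_c13)) :=
  Lgr Lrot66 (Lpr_ff (f232806 IH) (Lpr_af (K9.f42052 IH) (Lpe (f199925 IH) (Lpn (LP (LK LD1_c8 LD2_c21 LD3_c13))))))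
theorem f310001 : Led Lsl_ct (LP (LK LD1_c8 LD2_c25 LD3_c34)) = (LP (LK LD1_c8 LD2_c21 LD3_c13)) :=
  Lgr Lrot98 (Lpr_df (f309995 IH) (Lpe (K17.f29014 IH) (Lpe (K13.f29013 IH) (Lpr_cf (K0.f29007 IH) (Lpe (K1.f29015 IH) (Lpe (K9.f29016 IH) (Lpe (K9.f29017 IH) (Lpe (f232806 IH) (Lpr_at (f232808 IH) (Lpn (LP (LK LD1_c8 LD2_c21 LD3_c13))))))))))))
theorem f178313 : Led Lsl_dt (LP (LK LD1_c4 LD2_c13 LD3_c9)) = (LP (LK LD1_c2 LD2_c3 LD3_c50)) :=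
  Lre_d IH (LK LD1_c4 LD2_c13 LD3_c9) (LK LD1_c2 LD2_c3 LD3_c50) Lrfl Lrfl
theorem f178333 : Led Lsl_gt (LP (LK LD1_c2 LD2_c3 LD3_c50)) = (LP (LK LD1_c4 LD2_c13 LD3_c6)) :=
  Lre_g IH (LK LD1_c2 LD2_c3 LD3_c50) (LK LD1_c4 LD2_c13 LD3_c6) Lrfl Lrfl
theorem f309126 : Led Lsl_gt (LP (LK LD1_c8 LD2_c21 LD3_c13)) = (LP (LK LD1_c10 LD2_c38 LD3_c31)) :=
  Lgr Lrot189 (Lpe (K16.f187018 IH) (Lpe (K13.f232795 IH) (Lpe (K16.f270734 IH) (Lpe (K14.f232862 IH) (Lpr_dt (K10.f188765 IH) (Lpr_gt (K12.f188695 IH) (Lpr_dt (K17.f188778 IH) (Lpr_ct (f309107 IH) (Lpe (f309106 IH) (Lpn (LP (LK LD1_c10 LD2_c38 LD3_c31))))))))))))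
theorem f309122 : Led Lsl_cf (LP (LK LD1_c14 LD2_c57 LD3_c4)) = (LP (LK LD1_c10 LD2_c38 LD3_c31)) :=
  Lgr Lrot116 (Lpr_dt (K17.f229636 IH) (Lpr_ct (K17.f229635 IH) (Lpr_dt (K13.f229643 IH) (Lpr_ct (K12.f229476 IH) (Lpe (K13.f229493 IH) (Lpr_ff (K13.f229494 IH) (Lpr_dt (K17.f188778 IH) (Lpr_ct (f309107 IH) (Lpr_dt (f255848 IH) (Lpn (LP (LK LD1_c10 LD2_c38 LD3_c31))))))))))))
theorem f310033 : Led Lsl_ct (LP (LK LD1_c4 LD2_c13 LD3_c6)) = (LP (LK LD1_c4 LD2_c15 LD3_c53)) :=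
  Lgr Lrot152 (Lpe (f178333 IH) (Lpe (f178313 IH) (Lpr_gt (f184315 IH) (Lpr_ct (f310001 IH) (Lpr_gt (f309126 IH) (Lpe (f309122 IH) (Lpe (K17.f250822 IH) (Lpe (K15.f229637 IH) (Lpe (K17.f283225 IH) (Lpn (LP (LK LD1_c4 LD2_c15 LD3_c53))))))))))))
theorem f310040 : Led Lsl_dt (LP (LK LD1_c8 LD2_c25 LD3_c25)) = (LP (LK LD1_c4 LD2_c13 LD3_c6)) :=
  Lre_d IH (LK LD1_c8 LD2_c25 LD3_c25) (LK LD1_c4 LD2_c13 LD3_c6) Lrfl Lrfl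
theorem f222093 : Led Lsl_dt (LP (LK LD1_c2 LD2_c23 LD3_c50)) = (LP (LK LD1_c4 LD2_c52 LD3_c10)) :=
  Lre_d IH (LK LD1_c2 LD2_c23 LD3_c50) (LK LD1_c4 LD2_c52 LD3_c10) Lrfl Lrfl
theorem f310046 : Led Lsl_gf (LP (LK LD1_c8 LD2_c25 LD3_c25)) = (LP (LK LD1_c4 LD2_c52 LD3_c10)) :=
  Lgr Lrot154 (Lpr_dt (f310040 IH) (Lpr_ct (f310033 IH) (Lpr_df (K17.f283229 IH) (Lpr_gf (f283231 IH) (Lpr_df (K15.f257976 IH) (Lpe (K15.f257980 IH) (Lpr_ct (K14.f200135 IH) (Lpr_gt (K14.f2878 IH) (Lpr_dt (f222093 IH) (Lpn (LP (LK LD1_c4 LD2_c52 LD3_c10))))))))))))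
theorem f310057 : Led Lsl_gt (LP (LK LD1_c8 LD2_c25 LD3_c25)) = (LP (LK LD1_c8 LD2_c34 LD3_c26)) :=
  Lgr Lrot46 (Lpr_gf (f310046 IH) (Lpr_ft (f304652 IH) (Lpr_at (f290222 IH) (Lpn (LP (LK LD1_c8 LD2_c34 LD3_c26))))))
theorem f178366 : Led Lsl_dt (LP (LK LD1_c4 LD2_c13 LD3_c6)) = (LP (LK LD1_c8 LD2_c25 LD3_c25)) :=
  Lre_d IH (LK LD1_c4 LD2_c13 LD3_c6) (LK LD1_c8 LD2_c25 LD3_c25) Lrfl Lrfl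
theorem f178312 : Led Lsl_ct (LP (LK LD1_c2 LD2_c3 LD3_c50)) = (LP (LK LD1_c0 LD2_c58 LD3_c54)) :=
  Lre_c IH (LK LD1_c2 LD2_c3 LD3_c50) (LK LD1_c0 LD2_c58 LD3_c54) Lrfl Lrfl
theorem f310073 : Led Lsl_gt (LP (LK LD1_c2 LD2_c6 LD3_c56)) = (LP (LK LD1_c2 LD2_c3 LD3_c61)) :=
  Lgr Lrot49 (Lpr_df (K14.f255932 IH) (Lpe (K14.f178507 IH) (Lpe (f178312 IH) (Lpr_gt (f178333 IH) (Lpr_dt (f178366 IH) (Lpr_gt (f310057 IH) (Lpe (K18.f304551 IH) (Lpe (K18.f166639 IH) (Lpr_df (K18.f166630 IH) (Lpn (LP (LK LD1_c2 LD2_c3 LD3_c61))))))))))))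
theorem f304511 : Led Lsl_ct (LP (LK LD1_c4 LD2_c11 LD3_c24)) = (LP (LK LD1_c2 LD2_c2 LD3_c57)) :=
  Lre_c IH (LK LD1_c4 LD2_c11 LD3_c24) (LK LD1_c2 LD2_c2 LD3_c57) Lrfl Lrfl
theorem f310076 : Led Lsl_gt (LP (LK LD1_c4 LD2_c17 LD3_c39)) = (LP (LK LD1_c4 LD2_c11 LD3_c24)) :=
  Lgr Lrot150 (Lpe (K17.f188807 IH) (Lpr_gf (K14.f232862 IH) (Lpe (K13.f211484 IH) (Lpr_gt (K18.f258901 IH) (Lpr_ct (K18.f200626 IH) (Lpr_gt (f310073 IH) (Lpr_ct (K18.f304543 IH) (Lpr_df (K18.f304494 IH) (Lpe (f304511 IH) (Lpn (LP (LK LD1_c4 LD2_c11 LD3_c24))))))))))))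
theorem f270888 : Led Lsl_gt (LP (LK LD1_c4 LD2_c18 LD3_c36)) = (LP (LK LD1_c4 LD2_c52 LD3_c59)) :=
  Lgr Lrot49 (Lpe (K10.f188773 IH) (Lpe (K12.f229496 IH) (Lpe (K12.f229476 IH) (Lpr_gt (K13.f232856 IH) (Lpr_dt (K16.f199921 IH) (Lpe (K17.f270674 IH) (Lpe (K16.f254515 IH) (Lpe (K15.f251045 IH) (Lpr_df (K16.f270884 IH) (Lpn (LP (LK LD1_c4 LD2_c52 LD3_c59))))))))))))
theorem f167109 : Led Lsl_dt (LP (LK LD1_c8 LD2_c21 LD3_c22)) = (LP (LK LD1_c4 LD2_c10 LD3_c45)) :=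
  Lre_d IH (LK LD1_c8 LD2_c21 LD3_c22) (LK LD1_c4 LD2_c10 LD3_c45) Lrfl Lrfl
theorem f310078 : Led Lsl_gf (LP (LK LD1_c8 LD2_c21 LD3_c22)) = (LP (LK LD1_c8 LD2_c22 LD3_c32)) :=
  Lgr Lrot143 (Lpr_dt (f167109 IH) (Lpr_cf (K15.f167087 IH) (Lpe (K14.f246759 IH) (Lpe (K14.f246722 IH) (Lpr_df (K16.f270884 IH) (Lpe (f270888 IH) (Lpr_cf (K17.f188810 IH) (Lpr_gt (f310076 IH) (Lpr_dt (f304508 IH) (Lpn (LP (LK LD1_c8 LD2_c22 LD3_c32))))))))))))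
theorem f167176 : Led Lsl_ct (LP (LK LD1_c4 LD2_c10 LD3_c47)) = (LP (LK LD1_c8 LD2_c21 LD3_c30)) :=
  Lre_c IH (LK LD1_c4 LD2_c10 LD3_c47) (LK LD1_c8 LD2_c21 LD3_c30) Lrfl Lrfl
theorem f290107 : Led Lsl_ft (LP (LK LD1_c8 LD2_c22 LD3_c32)) = (LP (LK LD1_c8 LD2_c34 LD3_c13)) :=
  Lgr Lrot48 (Lpr_ff (K17.f290096 IH) (Lpn (LP (LK LD1_c8 LD2_c34 LD3_c13))))
theorem f304687 : Led Lsl_ct (LP (LK LD1_c4 LD2_c52 LD3_c10)) = (LP (LK LD1_c8 LD2_c22 LD3_c32)) :=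
  Lgr Lrot40 (Lpr_ff (f304685 IH) (Lpr_cf (K17.f290216 IH) (Lpe (f290107 IH) (Lpn (LP (LK LD1_c8 LD2_c22 LD3_c32))))))
theorem f310082 : Led Lsl_gf (LP (LK LD1_c4 LD2_c18 LD3_c39)) = (LP (LK LD1_c4 LD2_c13 LD3_c6)) :=
  Lgr Lrot143 (Lpr_dt (K14.f251956 IH) (Lpe (f167176 IH) (Lpe (K15.f167107 IH) (Lpe (K15.f167085 IH) (Lpe (f167109 IH) (Lpr_gf (f310078 IH) (Lpe (f304687 IH) (Lpe (f310046 IH) (Lpr_dt (f310040 IH) (Lpn (LP (LK LD1_c4 LD2_c13 LD3_c6))))))))))))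
theorem f230314 : Led Lsl_ct (LP (LK LD1_c4 LD2_c18 LD3_c39)) = (LP (LK LD1_c2 LD2_c6 LD3_c37)) :=
  Lre_c IH (LK LD1_c4 LD2_c18 LD3_c39) (LK LD1_c2 LD2_c6 LD3_c37) Lrfl Lrfl
theorem f246642 : Led Lsl_dt (LP (LK LD1_c4 LD2_c13 LD3_c4)) = (LP (LK LD1_c8 LD2_c25 LD3_c20)) :=
  Lre_d IH (LK LD1_c4 LD2_c13 LD3_c4) (LK LD1_c8 LD2_c25 LD3_c20) Lrfl Lrfl
theorem f255984 : Led Lsl_dt (LP (LK LD1_c4 LD2_c19 LD3_c7)) = (LP (LK LD1_c4 LD2_c22 LD3_c39)) :=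
  Lgr Lrot42 (Lpr_df (K14.f255982 IH) (Lpn (LP (LK LD1_c4 LD2_c22 LD3_c39))))
theorem f252034 : Led Lsl_dt (LP (LK LD1_c8 LD2_c21 LD3_c19)) = (LP (LK LD1_c4 LD2_c10 LD3_c44)) :=
  Lre_d IH (LK LD1_c8 LD2_c21 LD3_c19) (LK LD1_c4 LD2_c10 LD3_c44) Lrfl Lrfl
theorem f270903 : Led Lsl_gt (LP (LK LD1_c4 LD2_c17 LD3_c42)) = (LP (LK LD1_c8 LD2_c21 LD3_c19)) :=
  Lgr Lrot49 (Lpe (f7986 IH) (Lpe (K16.f7962 IH) (Lpr_cf (K16.f270890 IH) (Lpr_gt (K13.f232858 IH) (Lpe (K13.f211491 IH) (Lpr_gt (K18.f258901 IH) (Lpr_dt (f255984 IH) (Lpe (K14.f252043 IH) (Lpe (f252034 IH) (Lpn (LP (LK LD1_c8 LD2_c21 LD3_c19))))))))))))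
theorem f310111 : Led Lsl_cf (LP (LK LD1_c8 LD2_c25 LD3_c20)) = (LP (LK LD1_c8 LD2_c21 LD3_c19)) :=
  Lgr Lrot99 (Lpe (f246642 IH) (Lpe (K14.f220126 IH) (Lpe (K14.f246650 IH) (Lpe (f230314 IH) (Lpr_gf (f310082 IH) (Lpe (f310040 IH) (Lpr_gt (f310057 IH) (Lpr_ct (f7959 IH) (Lpr_gt (f270903 IH) (Lpn (LP (LK LD1_c8 LD2_c21 LD3_c19))))))))))))
theorem f270730 : Led Lsl_gf (LP (LK LD1_c14 LD2_c57 LD3_c23)) = (LP (LK LD1_c8 LD2_c25 LD3_c20)) :=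
  Lgr Lrot143 (Lpr_dt (K16.f232890 IH) (Lpe (K13.f43211 IH) (Lpr_df (K16.f227953 IH) (Lpr_gf (K16.f270726 IH) (Lpe (K18.f251040 IH) (Lpr_gf (K14.f251047 IH) (Lpr_cf (K14.f213864 IH) (Lpr_gt (K15.f262681 IH) (Lpr_dt (f246642 IH) (Lpn (LP (LK LD1_c8 LD2_c25 LD3_c20))))))))))))
theorem f271167 : Led Lsl_ct (LP (LK LD1_c8 LD2_c35 LD3_c57)) = (LP (LK LD1_c8 LD2_c33 LD3_c10)) :=
  Lgr Lrot152 (Lpe (K17.f250823 IH) (Lpe (K17.f250822 IH) (Lpe (K17.f267594 IH) (Lpr_ct (K17.f179615 IH) (Lpr_gt (K16.f271161 IH) (Lpr_ct (K14.f251907 IH) (Lpe (K14.f251932 IH) (Lpe (K14.f251914 IH) (Lpe (K17.f167769 IH) (Lpn (LP (LK LD1_c8 LD2_c33 LD3_c10))))))))))))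
theorem f290102 : Led Lsl_dt (LP (LK LD1_c8 LD2_c22 LD3_c32)) = (LP (LK LD1_c4 LD2_c11 LD3_c24)) :=
  Lre_d IH (LK LD1_c8 LD2_c22 LD3_c32) (LK LD1_c4 LD2_c11 LD3_c24) Lrfl Lrfl
theorem f310119 : Led Lsl_gf (LP (LK LD1_c8 LD2_c22 LD3_c32)) = (LP (LK LD1_c8 LD2_c21 LD3_c19)) :=
  Lgr Lrot144 (Lpr_dt (f290102 IH) (Lpe (K18.f304506 IH) (Lpr_dt (K17.f287758 IH) (Lpe (f271167 IH) (Lpe (K12.f188828 IH) (Lpr_gf (K13.f232895 IH) (Lpe (K16.f232890 IH) (Lpr_gf (f270730 IH) (Lpr_cf (f310111 IH) (Lpn (LP (LK LD1_c8 LD2_c21 LD3_c19))))))))))))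
theorem f304694 : Led Lsl_at (LP (LK LD1_c4 LD2_c11 LD3_c29)) = (LP (LK LD1_c8 LD2_c22 LD3_c32)) :=
  Lre_a IH (LK LD1_c4 LD2_c11 LD3_c29) (LK LD1_c8 LD2_c22 LD3_c32) Lrfl Lrfl
theorem f310122 : Led Lsl_ff (LP (LK LD1_c4 LD2_c11 LD3_c29)) = (LP (LK LD1_c4 LD2_c17 LD3_c42)) :=
  Lgr Lrot52 (Lpr_at (f304694 IH) (Lpr_gf (f310119 IH) (Lpe (f270903 IH) (Lpn (LP (LK LD1_c4 LD2_c17 LD3_c42))))))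
theorem f310137 : Led Lsl_ft (LP (LK LD1_c2 LD2_c2 LD3_c58)) = (LP (LK LD1_c2 LD2_c6 LD3_c11)) :=
  Lgr Lrot54 (Lpe (K17.f170631 IH) (Lpr_ff (f310122 IH) (Lpe (f7986 IH) (Lpn (LP (LK LD1_c2 LD2_c6 LD3_c11))))))
theorem f221941 : Led Lsl_et (LP (LK LD1_c4 LD2_c11 LD3_c30)) = (LP (LK LD1_c2 LD2_c2 LD3_c58)) :=
  Lre_e IH (LK LD1_c4 LD2_c11 LD3_c30) (LK LD1_c2 LD2_c2 LD3_c58) Lrfl Lrfl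
theorem f310152 : Led Lsl_ft (LP (LK LD1_c8 LD2_c22 LD3_c50)) = (LP (LK LD1_c4 LD2_c11 LD3_c30)) :=
  Lre_f IH (LK LD1_c8 LD2_c22 LD3_c50) (LK LD1_c4 LD2_c11 LD3_c30) Lrfl Lrfl
theorem f300842 : Led Lsl_et (LP (LK LD1_c2 LD2_c6 LD3_c11)) = (LP (LK LD1_c4 LD2_c17 LD3_c43)) :=
  Lre_e IH (LK LD1_c2 LD2_c6 LD3_c11) (LK LD1_c4 LD2_c17 LD3_c43) Lrfl Lrfl
theorem f310153 : Led Lsl_ft (LP (LK LD1_c4 LD2_c17 LD3_c43)) = (LP (LK LD1_c8 LD2_c34 LD3_c31)) :=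
  Lre_f IH (LK LD1_c4 LD2_c17 LD3_c43) (LK LD1_c8 LD2_c34 LD3_c31) Lrfl Lrfl
theorem f310154 : Led Lsl_ef (LP (LK LD1_c8 LD2_c22 LD3_c50)) = (LP (LK LD1_c8 LD2_c34 LD3_c31)) :=
  Lgr Lrot21 (Lpr_ft (f310152 IH) (Lpr_et (f221941 IH) (Lpr_ft (f310137 IH) (Lpr_et (f300842 IH) (Lpr_ft (f310153 IH) (Lpn (LP (LK LD1_c8 LD2_c34 LD3_c31))))))))
theorem f310163 : Led Lsl_et (LP (LK LD1_c8 LD2_c22 LD3_c50)) = (LP (LK LD1_c8 LD2_c34 LD3_c31)) :=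
  Lgr Lrot87 (Lpr_ef (f310154 IH) (Lpn (LP (LK LD1_c8 LD2_c34 LD3_c31))))
theorem f200232 : Led Lsl_ct (LP (LK LD1_c4 LD2_c11 LD3_c33)) = (LP (LK LD1_c8 LD2_c22 LD3_c50)) :=
  Lre_c IH (LK LD1_c4 LD2_c11 LD3_c33) (LK LD1_c8 LD2_c22 LD3_c50) Lrfl Lrfl
theorem f284126 : Led Lsl_ct (LP (LK LD1_c8 LD2_c34 LD3_c31)) = (LP (LK LD1_c4 LD2_c17 LD3_c46)) :=
  Lre_c IH (LK LD1_c8 LD2_c34 LD3_c31) (LK LD1_c4 LD2_c17 LD3_c46) Lrfl Lrfl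
theorem f310169 : Led Lsl_ef (LP (LK LD1_c4 LD2_c11 LD3_c33)) = (LP (LK LD1_c4 LD2_c17 LD3_c46)) :=
  Lgr Lrot28 (Lpr_ct (f200232 IH) (Lpr_et (f310163 IH) (Lpr_ct (f284126 IH) (Lpn (LP (LK LD1_c4 LD2_c17 LD3_c46))))))
theorem f200248 : Led Lsl_at (LP (LK LD1_c2 LD2_c2 LD3_c59)) = (LP (LK LD1_c4 LD2_c11 LD3_c25)) :=
  Lre_a IH (LK LD1_c2 LD2_c2 LD3_c59) (LK LD1_c4 LD2_c11 LD3_c25) Lrfl Lrfl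
theorem f200249 : Led Lsl_df (LP (LK LD1_c5 LD2_c12 LD3_c8)) = (LP (LK LD1_c4 LD2_c11 LD3_c33)) :=
  Lgr Lrot157 (Lpr_ct (K18.f200244 IH) (Lpr_dt (K18.f200238 IH) (Lpr_ct (K18.f200239 IH) (Lpr_dt (K18.f200213 IH) (Lpr_ct (K18.f200219 IH) (Lpr_dt (K18.f200245 IH) (Lpr_ct (K18.f200246 IH) (Lpe (f200248 IH) (Lpe (K18.f200165 IH) (Lpn (LP (LK LD1_c4 LD2_c11 LD3_c33))))))))))))
theorem f300680 : Led Lsl_et (LP (LK LD1_c5 LD2_c12 LD3_c8)) = (LP (LK LD1_c5 LD2_c6 LD3_c15)) :=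
  Lgr Lrot87 (Lpr_ef (K18.f300673 IH) (Lpn (LP (LK LD1_c5 LD2_c6 LD3_c15))))
theorem f184945 : Led Lsl_et (LP (LK LD1_c2 LD2_c33 LD3_c34)) = (LP (LK LD1_c5 LD2_c13 LD3_c25)) :=
  Lre_e IH (LK LD1_c2 LD2_c33 LD3_c34) (LK LD1_c5 LD2_c13 LD3_c25) Lrfl Lrfl
theorem f198727 : Led Lsl_et (LP (LK LD1_c5 LD2_c6 LD3_c26)) = (LP (LK LD1_c2 LD2_c30 LD3_c30)) :=
  Lre_e IH (LK LD1_c5 LD2_c6 LD3_c26) (LK LD1_c2 LD2_c30 LD3_c30) Lrfl Lrfl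
theorem f302780 : Led Lsl_at (LP (LK LD1_c5 LD2_c13 LD3_c25)) = (LP (LK LD1_c5 LD2_c6 LD3_c26)) :=
  Lgr Lrot80 (Lpe (f184945 IH) (Lpr_af (K18.f302776 IH) (Lpe (f198727 IH) (Lpn (LP (LK LD1_c5 LD2_c6 LD3_c26))))))
theorem f184939 : Led Lsl_ct (LP (LK LD1_c2 LD2_c33 LD3_c32)) = (LP (LK LD1_c5 LD2_c13 LD3_c25)) :=
  Lre_c IH (LK LD1_c2 LD2_c33 LD3_c32) (LK LD1_c5 LD2_c13 LD3_c25) Lrfl Lrfl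
theorem f198602 : Led Lsl_ct (LP (LK LD1_c5 LD2_c6 LD3_c26)) = (LP (LK LD1_c2 LD2_c30 LD3_c28)) :=
  Lre_c IH (LK LD1_c5 LD2_c6 LD3_c26) (LK LD1_c2 LD2_c30 LD3_c28) Lrfl Lrfl
theorem f302784 : Led Lsl_af (LP (LK LD1_c2 LD2_c33 LD3_c32)) = (LP (LK LD1_c2 LD2_c30 LD3_c28)) :=
  Lgr Lrot68 (Lpr_ct (f184939 IH) (Lpr_at (f302780 IH) (Lpr_ct (f198602 IH) (Lpn (LP (LK LD1_c2 LD2_c30 LD3_c28))))))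
theorem f184954 : Led Lsl_bt (LP (LK LD1_c2 LD2_c33 LD3_c32)) = (LP (LK LD1_c5 LD2_c13 LD3_c13)) :=
  Lre_b IH (LK LD1_c2 LD2_c33 LD3_c32) (LK LD1_c5 LD2_c13 LD3_c13) Lrfl Lrfl
theorem f288606 : Led Lsl_at (LP (LK LD1_c5 LD2_c13 LD3_c13)) = (LP (LK LD1_c5 LD2_c21 LD3_c29)) :=
  Lgr Lrot100 (Lpr_af (K17.f288604 IH) (Lpn (LP (LK LD1_c5 LD2_c21 LD3_c29))))
theorem f249239 : Led Lsl_bt (LP (LK LD1_c5 LD2_c21 LD3_c29)) = (LP (LK LD1_c5 LD2_c19 LD3_c52)) :=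
  Lgr Lrot127 (Lpr_bf (K16.f249236 IH) (Lpn (LP (LK LD1_c5 LD2_c19 LD3_c52))))
theorem f302786 : Led Lsl_bt (LP (LK LD1_c5 LD2_c6 LD3_c14)) = (LP (LK LD1_c2 LD2_c30 LD3_c28)) :=
  Lre_b IH (LK LD1_c5 LD2_c6 LD3_c14) (LK LD1_c2 LD2_c30 LD3_c28) Lrfl Lrfl
theorem f302787 : Led Lsl_at (LP (LK LD1_c5 LD2_c19 LD3_c52)) = (LP (LK LD1_c5 LD2_c6 LD3_c14)) :=
  Lgr Lrot67 (Lpe (f249239 IH) (Lpe (f288606 IH) (Lpe (f184954 IH) (Lpr_af (f302784 IH) (Lpe (f302786 IH) (Lpn (LP (LK LD1_c5 LD2_c6 LD3_c14))))))))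
theorem f302791 : Led Lsl_af (LP (LK LD1_c2 LD2_c36 LD3_c35)) = (LP (LK LD1_c2 LD2_c30 LD3_c23)) :=
  Lgr Lrot117 (Lpr_dt (K16.f249245 IH) (Lpr_at (f302787 IH) (Lpr_dt (K18.f184643 IH) (Lpn (LP (LK LD1_c2 LD2_c30 LD3_c23))))))
theorem f302795 : Led Lsl_ft (LP (LK LD1_c5 LD2_c6 LD3_c15)) = (LP (LK LD1_c2 LD2_c30 LD3_c23)) :=
  Lre_f IH (LK LD1_c5 LD2_c6 LD3_c15) (LK LD1_c2 LD2_c30 LD3_c23) Lrfl Lrfl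
theorem f302796 : Led Lsl_gf (LP (LK LD1_c4 LD2_c28 LD3_c13)) = (LP (LK LD1_c5 LD2_c6 LD3_c15)) :=
  Lgr Lrot47 (Lpe (K18.f256260 IH) (Lpr_af (f302791 IH) (Lpe (f302795 IH) (Lpn (LP (LK LD1_c5 LD2_c6 LD3_c15))))))
theorem f41551 : Led Lsl_et (LP (LK LD1_c4 LD2_c27 LD3_c41)) = (LP (LK LD1_c2 LD2_c11 LD3_c0)) :=
  Lre_e IH (LK LD1_c4 LD2_c27 LD3_c41) (LK LD1_c2 LD2_c11 LD3_c0) Lrfl Lrfl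
theorem f41712 : Led Lsl_gt (LP (LK LD1_c6 LD2_c5 LD3_c27)) = (LP (LK LD1_c2 LD2_c58 LD3_c50)) :=
  Lre_g IH (LK LD1_c6 LD2_c5 LD3_c27) (LK LD1_c2 LD2_c58 LD3_c50) Lrfl Lrfl
theorem f41713 : Led Lsl_gt (LP (LK LD1_c4 LD2_c27 LD3_c41)) = (LP (LK LD1_c6 LD2_c5 LD3_c27)) :=
  Lgr Lrot5 (Lpr_ft (K1.f41700 IH) (Lpr_at (K1.f41699 IH) (Lpe (f41712 IH) (Lpn (LP (LK LD1_c6 LD2_c5 LD3_c27))))))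
theorem f41730 : Led Lsl_dt (LP (LK LD1_c11 LD2_c54 LD3_c30)) = (LP (LK LD1_c6 LD2_c5 LD3_c27)) :=
  Lre_d IH (LK LD1_c11 LD2_c54 LD3_c30) (LK LD1_c6 LD2_c5 LD3_c27) Lrfl Lrfl
theorem f249327 : Led Lsl_gt (LP (LK LD1_c5 LD2_c19 LD3_c52)) = (LP (LK LD1_c10 LD2_c29 LD3_c35)) :=
  Lre_g IH (LK LD1_c5 LD2_c19 LD3_c52) (LK LD1_c10 LD2_c29 LD3_c35) Lrfl Lrfl
theorem f41817 : Led Lsl_et (LP (LK LD1_c2 LD2_c58 LD3_c50)) = (LP (LK LD1_c1 LD2_c25 LD3_c7)) :=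
  Lre_e IH (LK LD1_c2 LD2_c58 LD3_c50) (LK LD1_c1 LD2_c25 LD3_c7) Lrfl Lrfl
theorem f256097 : Led Lsl_ef (LP (LK LD1_c10 LD2_c29 LD3_c35)) = (LP (LK LD1_c11 LD2_c54 LD3_c30)) :=
  Lgr Lrot17 (Lpe (f249327 IH) (Lpe (K16.f249235 IH) (Lpr_dt (K14.f249225 IH) (Lpr_gf (K14.f256088 IH) (Lpe (K14.f42504 IH) (Lpr_gf (K1.f42496 IH) (Lpe (f41817 IH) (Lpe (K1.f8639 IH) (Lpe (f41712 IH) (Lpe (f41730 IH) (Lpn (LP (LK LD1_c11 LD2_c54 LD3_c30)))))))))))))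
theorem f247399 : Led Lsl_gt (LP (LK LD1_c2 LD2_c11 LD3_c11)) = (LP (LK LD1_c4 LD2_c28 LD3_c1)) :=
  Lre_g IH (LK LD1_c2 LD2_c11 LD3_c11) (LK LD1_c4 LD2_c28 LD3_c1) Lrfl Lrfl
theorem f267053 : Led Lsl_et (LP (LK LD1_c8 LD2_c54 LD3_c6)) = (LP (LK LD1_c4 LD2_c28 LD3_c1)) :=
  Lre_e IH (LK LD1_c8 LD2_c54 LD3_c6) (LK LD1_c4 LD2_c28 LD3_c1) Lrfl Lrfl
theorem f302808 : Led Lsl_dt (LP (LK LD1_c8 LD2_c54 LD3_c6)) = (LP (LK LD1_c5 LD2_c6 LD3_c15)) :=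
  Lgr Lrot136 (Lpr_et (f267053 IH) (Lpe (f247399 IH) (Lpe (K14.f247343 IH) (Lpr_dt (K15.f191904 IH) (Lpe (K14.f168603 IH) (Lpe (K12.f41550 IH) (Lpe (K12.f41558 IH) (Lpe (K17.f41559 IH) (Lpr_dt (K18.f41560 IH) (Lpr_gf (f302796 IH) (Lpn (LP (LK LD1_c5 LD2_c6 LD3_c15)))))))))))))
theorem f302812 : Led Lsl_gt (LP (LK LD1_c10 LD2_c29 LD3_c35)) = (LP (LK LD1_c8 LD2_c54 LD3_c6)) :=
  Lgr Lrot137 (Lpr_ef (f256097 IH) (Lpr_dt (f41730 IH) (Lpe (f41713 IH) (Lpe (K1.f41446 IH) (Lpr_et (f41551 IH) (Lpe (K12.f41558 IH) (Lpe (K17.f41559 IH) (Lpr_dt (K18.f41560 IH) (Lpr_gf (f302796 IH) (Lpe (f302808 IH) (Lpn (LP (LK LD1_c8 LD2_c54 LD3_c6)))))))))))))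
theorem f249326 : Led Lsl_ft (LP (LK LD1_c5 LD2_c19 LD3_c52)) = (LP (LK LD1_c10 LD2_c29 LD3_c38)) :=
  Lre_f IH (LK LD1_c5 LD2_c19 LD3_c52) (LK LD1_c10 LD2_c29 LD3_c38) Lrfl Lrfl
theorem f302814 : Led Lsl_at (LP (LK LD1_c10 LD2_c29 LD3_c38)) = (LP (LK LD1_c8 LD2_c54 LD3_c6)) :=
  Lgr Lrot26 (Lpe (f249326 IH) (Lpr_gt (f249327 IH) (Lpr_gt (f302812 IH) (Lpn (LP (LK LD1_c8 LD2_c54 LD3_c6))))))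
theorem f302789 : Led Lsl_af (LP (LK LD1_c5 LD2_c19 LD3_c52)) = (LP (LK LD1_c5 LD2_c6 LD3_c14)) :=
  Lgr Lrot0 (Lpr_at (f302787 IH) (Lpn (LP (LK LD1_c5 LD2_c6 LD3_c14))))
theorem f302829 : Led Lsl_ff (LP (LK LD1_c5 LD2_c6 LD3_c14)) = (LP (LK LD1_c8 LD2_c54 LD3_c6)) :=
  Lgr Lrot30 (Lpe (f302789 IH) (Lpr_ft (f249326 IH) (Lpr_at (f302814 IH) (Lpn (LP (LK LD1_c8 LD2_c54 LD3_c6))))))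
theorem f302833 : Led Lsl_dt (LP (LK LD1_c5 LD2_c6 LD3_c15)) = (LP (LK LD1_c8 LD2_c54 LD3_c6)) :=
  Lgr Lrot60 (Lpe (K18.f300682 IH) (Lpe (K18.f184643 IH) (Lpr_ff (f302829 IH) (Lpn (LP (LK LD1_c8 LD2_c54 LD3_c6))))))
theorem f310181 : Led Lsl_dt (LP (LK LD1_c4 LD2_c28 LD3_c1)) = (LP (LK LD1_c4 LD2_c17 LD3_c46)) :=
  Lgr Lrot77 (Lpe (f267053 IH) (Lpe (f302833 IH) (Lpe (f300680 IH) (Lpr_df (f200249 IH) (Lpr_ef (f310169 IH) (Lpn (LP (LK LD1_c4 LD2_c17 LD3_c46))))))))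
theorem f310188 : Led Lsl_df (LP (LK LD1_c4 LD2_c28 LD3_c1)) = (LP (LK LD1_c4 LD2_c17 LD3_c46)) :=
  Lgr Lrot38 (Lpr_dt (f310181 IH) (Lpn (LP (LK LD1_c4 LD2_c17 LD3_c46))))
theorem f304258 : Led Lsl_bf (LP (LK LD1_c8 LD2_c54 LD3_c6)) = (LP (LK LD1_c4 LD2_c29 LD3_c23)) :=
  Lgr Lrot61 (Lpe (f302829 IH) (Lpr_bt (f302786 IH) (Lpr_ft (K18.f304256 IH) (Lpn (LP (LK LD1_c4 LD2_c29 LD3_c23))))))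
theorem f304255 : Led Lsl_et (LP (LK LD1_c2 LD2_c11 LD3_c46)) = (LP (LK LD1_c4 LD2_c29 LD3_c23)) :=
  Lre_e IH (LK LD1_c2 LD2_c11 LD3_c46) (LK LD1_c4 LD2_c29 LD3_c23) Lrfl Lrfl
theorem f304285 : Led Lsl_bt (LP (LK LD1_c4 LD2_c28 LD3_c1)) = (LP (LK LD1_c2 LD2_c11 LD3_c46)) :=
  Lgr Lrot119 (Lpe (f267053 IH) (Lpr_bf (f304258 IH) (Lpe (f304255 IH) (Lpn (LP (LK LD1_c2 LD2_c11 LD3_c46))))))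
theorem f310178 : Led Lsl_bt (LP (LK LD1_c2 LD2_c6 LD3_c17)) = (LP (LK LD1_c4 LD2_c17 LD3_c46)) :=
  Lre_b IH (LK LD1_c2 LD2_c6 LD3_c17) (LK LD1_c4 LD2_c17 LD3_c46) Lrfl Lrfl
theorem f310194 : Led Lsl_dt (LP (LK LD1_c2 LD2_c11 LD3_c46)) = (LP (LK LD1_c2 LD2_c6 LD3_c17)) :=
  Lgr Lrot79 (Lpe (f304285 IH) (Lpr_df (f310188 IH) (Lpe (f310178 IH) (Lpn (LP (LK LD1_c2 LD2_c6 LD3_c17))))))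
theorem f7629 : Led Lsl_et (LP (LK LD1_c2 LD2_c43 LD3_c30)) = (LP (LK LD1_c1 LD2_c18 LD3_c8)) :=
  Lre_e IH (LK LD1_c2 LD2_c43 LD3_c30) (LK LD1_c1 LD2_c18 LD3_c8) Lrfl Lrfl
theorem f167661 : Led Lsl_et (LP (LK LD1_c2 LD2_c5 LD3_c50)) = (LP (LK LD1_c0 LD2_c59 LD3_c54)) :=
  Lre_e IH (LK LD1_c2 LD2_c5 LD3_c50) (LK LD1_c0 LD2_c59 LD3_c54) Lrfl Lrfl
theorem f167662 : Led Lsl_gf (LP (LK LD1_c1 LD2_c2 LD3_c53)) = (LP (LK LD1_c2 LD2_c2 LD3_c55)) :=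
  Lgr Lrot145 (Lpe (K12.f167646 IH) (Lpr_et (f167661 IH) (Lpr_gt (K12.f167650 IH) (Lpr_dt (K9.f1387 IH) (Lpr_gt (K0.f495 IH) (Lpe (K0.f485 IH) (Lpe (K13.f509 IH) (Lpr_gt (K9.f1386 IH) (Lpe (K13.f1389 IH) (Lpr_dt (K13.f1390 IH) (Lpn (LP (LK LD1_c2 LD2_c2 LD3_c55)))))))))))))
theorem f167664 : Led Lsl_gt (LP (LK LD1_c2 LD2_c2 LD3_c54)) = (LP (LK LD1_c0 LD2_c58 LD3_c21)) :=
  Lre_g IH (LK LD1_c2 LD2_c2 LD3_c54) (LK LD1_c0 LD2_c58 LD3_c21) Lrfl Lrfl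
theorem f167665 : Led Lsl_et (LP (LK LD1_c4 LD2_c11 LD3_c22)) = (LP (LK LD1_c2 LD2_c2 LD3_c54)) :=
  Lre_e IH (LK LD1_c4 LD2_c11 LD3_c22) (LK LD1_c2 LD2_c2 LD3_c54) Lrfl Lrfl
theorem f167666 : Led Lsl_dt (LP (LK LD1_c4 LD2_c11 LD3_c22)) = (LP (LK LD1_c2 LD2_c40 LD3_c35)) :=
  Lgr Lrot37 (Lpr_et (f167665 IH) (Lpr_gt (f167664 IH) (Lpr_dt (K13.f1390 IH) (Lpe (f167662 IH) (Lpe (K12.f167646 IH) (Lpr_et (f167661 IH) (Lpr_gt (K12.f167650 IH) (Lpe (K12.f7726 IH) (Lpr_dt (f7747 IH) (Lpr_gt (K15.f7762 IH) (Lpn (LP (LK LD1_c2 LD2_c40 LD3_c35)))))))))))))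
theorem f167672 : Led Lsl_et (LP (LK LD1_c2 LD2_c2 LD3_c54)) = (LP (LK LD1_c4 LD2_c11 LD3_c22)) :=
  Lre_e IH (LK LD1_c2 LD2_c2 LD3_c54) (LK LD1_c4 LD2_c11 LD3_c22) Lrfl Lrfl
theorem f181820 : Led Lsl_et (LP (LK LD1_c1 LD2_c18 LD3_c8)) = (LP (LK LD1_c2 LD2_c43 LD3_c30)) :=
  Lre_e IH (LK LD1_c1 LD2_c18 LD3_c8) (LK LD1_c2 LD2_c43 LD3_c30) Lrfl Lrfl
theorem f181821 : Led Lsl_df (LP (LK LD1_c2 LD2_c2 LD3_c54)) = (LP (LK LD1_c2 LD2_c43 LD3_c30)) :=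
  Lgr Lrot70 (Lpr_et (f167672 IH) (Lpr_dt (f167666 IH) (Lpr_et (f181813 IH) (Lpr_dt (K15.f7611 IH) (Lpr_et (f181820 IH) (Lpn (LP (LK LD1_c2 LD2_c43 LD3_c30))))))))
theorem f310214 : Led Lsl_gf (LP (LK LD1_c2 LD2_c2 LD3_c54)) = (LP (LK LD1_c2 LD2_c6 LD3_c17)) :=
  Lgr Lrot134 (Lpr_df (f181821 IH) (Lpr_et (f7629 IH) (Lpr_gt (K15.f7610 IH) (Lpe (K9.f7599 IH) (Lpr_dt (K9.f7598 IH) (Lpr_gt (K9.f40823 IH) (Lpe (K9.f8575 IH) (Lpr_et (K18.f8576 IH) (Lpr_gt (K18.f167681 IH) (Lpr_dt (f310194 IH) (Lpn (LP (LK LD1_c2 LD2_c6 LD3_c17)))))))))))))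
theorem f310210 : Led Lsl_ft (LP (LK LD1_c2 LD2_c6 LD3_c17)) = (LP (LK LD1_c1 LD2_c0 LD3_c8)) :=
  Lre_f IH (LK LD1_c2 LD2_c6 LD3_c17) (LK LD1_c1 LD2_c0 LD3_c8) Lrfl Lrfl
theorem f310216 : Led Lsl_af (LP (LK LD1_c0 LD2_c58 LD3_c21)) = (LP (LK LD1_c1 LD2_c0 LD3_c8)) :=
  Lgr Lrot31 (Lpe (f167664 IH) (Lpr_gf (f310214 IH) (Lpr_ft (f310210 IH) (Lpn (LP (LK LD1_c1 LD2_c0 LD3_c8))))))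
theorem f299453 : Led Lsl_ft (LP (LK LD1_c0 LD2_c58 LD3_c21)) = (LP (LK LD1_c2 LD2_c2 LD3_c56)) :=
  Lre_f IH (LK LD1_c0 LD2_c58 LD3_c21) (LK LD1_c2 LD2_c2 LD3_c56) Lrfl Lrfl
theorem f310277 : Led Lsl_at (LP (LK LD1_c2 LD2_c2 LD3_c56)) = (LP (LK LD1_c2 LD2_c6 LD3_c17)) :=
  Lgr Lrot66 (Lpe (f299453 IH) (Lpr_af (f310216 IH) (Lpe (f310210 IH) (Lpn (LP (LK LD1_c2 LD2_c6 LD3_c17))))))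
theorem f215493 : Led Lsl_at (LP (LK LD1_c8 LD2_c21 LD3_c60)) = (LP (LK LD1_c4 LD2_c11 LD3_c11)) :=
  Lre_a IH (LK LD1_c8 LD2_c21 LD3_c60) (LK LD1_c4 LD2_c11 LD3_c11) Lrfl Lrfl
theorem f310184 : Led Lsl_at (LP (LK LD1_c4 LD2_c17 LD3_c46)) = (LP (LK LD1_c8 LD2_c34 LD3_c17)) :=
  Lre_a IH (LK LD1_c4 LD2_c17 LD3_c46) (LK LD1_c8 LD2_c34 LD3_c17) Lrfl Lrfl
theorem f310281 : Led Lsl_bf (LP (LK LD1_c8 LD2_c21 LD3_c60)) = (LP (LK LD1_c8 LD2_c34 LD3_c17)) :=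
  Lgr Lrot81 (Lpr_at (f215493 IH) (Lpr_bt (K18.f295971 IH) (Lpr_at (f310277 IH) (Lpr_bt (f310178 IH) (Lpr_at (f310184 IH) (Lpn (LP (LK LD1_c8 LD2_c34 LD3_c17))))))))
theorem f310462 : Led Lsl_bt (LP (LK LD1_c8 LD2_c21 LD3_c60)) = (LP (LK LD1_c8 LD2_c34 LD3_c17)) :=
  Lgr Lrot127 (Lpr_bf (f310281 IH) (Lpn (LP (LK LD1_c8 LD2_c34 LD3_c17))))
theorem f215496 : Led Lsl_ct (LP (LK LD1_c8 LD2_c21 LD3_c60)) = (LP (LK LD1_c15 LD2_c44 LD3_c35)) :=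
  Lre_c IH (LK LD1_c8 LD2_c21 LD3_c60) (LK LD1_c15 LD2_c44 LD3_c35) Lrfl Lrfl
theorem f215512 : Led Lsl_gt (LP (LK LD1_c8 LD2_c22 LD3_c10)) = (LP (LK LD1_c15 LD2_c44 LD3_c35)) :=
  Lre_g IH (LK LD1_c8 LD2_c22 LD3_c10) (LK LD1_c15 LD2_c44 LD3_c35) Lrfl Lrfl
theorem f215513 : Led Lsl_ct (LP (LK LD1_c15 LD2_c45 LD3_c1)) = (LP (LK LD1_c8 LD2_c22 LD3_c10)) :=
  Lre_c IH (LK LD1_c15 LD2_c45 LD3_c1) (LK LD1_c8 LD2_c22 LD3_c10) Lrfl Lrfl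
theorem f248346 : Led Lsl_gt (LP (LK LD1_c5 LD2_c19 LD3_c60)) = (LP (LK LD1_c2 LD2_c36 LD3_c40)) :=
  Lre_g IH (LK LD1_c5 LD2_c19 LD3_c60) (LK LD1_c2 LD2_c36 LD3_c40) Lrfl Lrfl
theorem f307682 : Led Lsl_gf (LP (LK LD1_c5 LD2_c19 LD3_c60)) = (LP (LK LD1_c5 LD2_c16 LD3_c31)) :=
  Lgr Lrot47 (Lpr_gt (f248346 IH) (Lpr_af (f307632 IH) (Lpe (K10.f169359 IH) (Lpn (LP (LK LD1_c5 LD2_c16 LD3_c31))))))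
theorem f7963 : Led Lsl_et (LP (LK LD1_c1 LD2_c0 LD3_c6)) = (LP (LK LD1_c2 LD2_c6 LD3_c12)) :=
  Lre_e IH (LK LD1_c1 LD2_c0 LD3_c6) (LK LD1_c2 LD2_c6 LD3_c12) Lrfl Lrfl
theorem f7964 : Led Lsl_gt (LP (LK LD1_c2 LD2_c6 LD3_c12)) = (LP (LK LD1_c4 LD2_c17 LD3_c44)) :=
  Lre_g IH (LK LD1_c2 LD2_c6 LD3_c12) (LK LD1_c4 LD2_c17 LD3_c44) Lrfl Lrfl
theorem f7966 : Led Lsl_et (LP (LK LD1_c8 LD2_c34 LD3_c35)) = (LP (LK LD1_c4 LD2_c17 LD3_c44)) :=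
  Lre_e IH (LK LD1_c8 LD2_c34 LD3_c35) (LK LD1_c4 LD2_c17 LD3_c44) Lrfl Lrfl
theorem f255994 : Led Lsl_dt (LP (LK LD1_c8 LD2_c34 LD3_c35)) = (LP (LK LD1_c5 LD2_c19 LD3_c60)) :=
  Lgr Lrot136 (Lpr_et (f7966 IH) (Lpe (f7964 IH) (Lpe (f7963 IH) (Lpr_dt (K14.f7928 IH) (Lpr_gf (K14.f255986 IH) (Lpe (K15.f169158 IH) (Lpr_gf (K14.f255681 IH) (Lpe (K12.f230959 IH) (Lpe (K14.f248308 IH) (Lpe (f248346 IH) (Lpn (LP (LK LD1_c5 LD2_c19 LD3_c60)))))))))))))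
theorem f256000 : Led Lsl_df (LP (LK LD1_c8 LD2_c34 LD3_c35)) = (LP (LK LD1_c5 LD2_c19 LD3_c60)) :=
  Lgr Lrot38 (Lpr_dt (f255994 IH) (Lpn (LP (LK LD1_c5 LD2_c19 LD3_c60))))
theorem f267849 : Led Lsl_ef (LP (LK LD1_c5 LD2_c16 LD3_c31)) = (LP (LK LD1_c5 LD2_c18 LD3_c25)) :=
  Lgr Lrot29 (Lpr_bt (K10.f165954 IH) (Lpr_et (K15.f267845 IH) (Lpr_bt (K15.f185455 IH) (Lpn (LP (LK LD1_c5 LD2_c18 LD3_c25))))))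
theorem f167433 : Led Lsl_bt (LP (LK LD1_c1 LD2_c0 LD3_c11)) = (LP (LK LD1_c2 LD2_c6 LD3_c20)) :=
  Lre_b IH (LK LD1_c1 LD2_c0 LD3_c11) (LK LD1_c2 LD2_c6 LD3_c20) Lrfl Lrfl
theorem f167434 : Led Lsl_bt (LP (LK LD1_c2 LD2_c29 LD3_c60)) = (LP (LK LD1_c1 LD2_c12 LD3_c3)) :=
  Lre_b IH (LK LD1_c2 LD2_c29 LD3_c60) (LK LD1_c1 LD2_c12 LD3_c3) Lrfl Lrfl
theorem f167435 : Led Lsl_dt (LP (LK LD1_c2 LD2_c6 LD3_c20)) = (LP (LK LD1_c2 LD2_c29 LD3_c60)) :=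
  Lgr Lrot79 (Lpe (f167433 IH) (Lpr_df (K18.f167427 IH) (Lpe (f167434 IH) (Lpn (LP (LK LD1_c2 LD2_c29 LD3_c60))))))
theorem f167597 : Led Lsl_at (LP (LK LD1_c4 LD2_c17 LD3_c61)) = (LP (LK LD1_c2 LD2_c6 LD3_c20)) :=
  Lre_a IH (LK LD1_c4 LD2_c17 LD3_c61) (LK LD1_c2 LD2_c6 LD3_c20) Lrfl Lrfl
theorem f299478 : Led Lsl_dt (LP (LK LD1_c4 LD2_c27 LD3_c13)) = (LP (LK LD1_c4 LD2_c17 LD3_c61)) :=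
  Lgr Lrot44 (Lpr_af (K18.f299472 IH) (Lpe (f167435 IH) (Lpe (f167597 IH) (Lpn (LP (LK LD1_c4 LD2_c17 LD3_c61))))))
theorem f307684 : Led Lsl_gt (LP (LK LD1_c8 LD2_c34 LD3_c35)) = (LP (LK LD1_c4 LD2_c17 LD3_c61)) :=
  Lgr Lrot139 (Lpr_df (f256000 IH) (Lpr_gf (f307682 IH) (Lpr_ef (f267849 IH) (Lpe (K15.f268064 IH) (Lpe (K15.f258151 IH) (Lpe (K15.f251572 IH) (Lpr_et (K15.f183915 IH) (Lpr_gf (K14.f251560 IH) (Lpe (K18.f230449 IH) (Lpr_dt (f299478 IH) (Lpn (LP (LK LD1_c4 LD2_c17 LD3_c61)))))))))))))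
theorem f170017 : Led Lsl_gt (LP (LK LD1_c2 LD2_c34 LD3_c56)) = (LP (LK LD1_c5 LD2_c16 LD3_c20)) :=
  Lre_g IH (LK LD1_c2 LD2_c34 LD3_c56) (LK LD1_c5 LD2_c16 LD3_c20) Lrfl Lrfl
theorem f307692 : Led Lsl_et (LP (LK LD1_c5 LD2_c19 LD3_c60)) = (LP (LK LD1_c5 LD2_c16 LD3_c20)) :=
  Lgr Lrot122 (Lpe (f256000 IH) (Lpr_gt (f307684 IH) (Lpe (f299478 IH) (Lpr_et (K18.f230449 IH) (Lpe (K14.f251560 IH) (Lpr_dt (K18.f251562 IH) (Lpr_gt (K14.f247627 IH) (Lpr_df (K14.f247538 IH) (Lpr_et (K14.f247570 IH) (Lpr_gt (f170017 IH) (Lpn (LP (LK LD1_c5 LD2_c16 LD3_c20)))))))))))))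
theorem f256002 : Led Lsl_et (LP (LK LD1_c4 LD2_c17 LD3_c44)) = (LP (LK LD1_c8 LD2_c34 LD3_c35)) :=
  Lre_e IH (LK LD1_c4 LD2_c17 LD3_c44) (LK LD1_c8 LD2_c34 LD3_c35) Lrfl Lrfl
theorem f256003 : Led Lsl_dt (LP (LK LD1_c8 LD2_c34 LD3_c34)) = (LP (LK LD1_c4 LD2_c17 LD3_c44)) :=
  Lre_d IH (LK LD1_c8 LD2_c34 LD3_c34) (LK LD1_c4 LD2_c17 LD3_c44) Lrfl Lrfl
theorem f170018 : Led Lsl_dt (LP (LK LD1_c5 LD2_c16 LD3_c20)) = (LP (LK LD1_c10 LD2_c22 LD3_c17)) :=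
  Lre_d IH (LK LD1_c5 LD2_c16 LD3_c20) (LK LD1_c10 LD2_c22 LD3_c17) Lrfl Lrfl
theorem f307696 : Led Lsl_ef (LP (LK LD1_c8 LD2_c34 LD3_c34)) = (LP (LK LD1_c10 LD2_c22 LD3_c17)) :=
  Lgr Lrot73 (Lpr_dt (f256003 IH) (Lpr_et (f256002 IH) (Lpr_dt (f255994 IH) (Lpr_et (f307692 IH) (Lpr_dt (f170018 IH) (Lpn (LP (LK LD1_c10 LD2_c22 LD3_c17))))))))
theorem f307702 : Led Lsl_dt (LP (LK LD1_c10 LD2_c22 LD3_c17)) = (LP (LK LD1_c5 LD2_c16 LD3_c20)) :=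
  Lre_d IH (LK LD1_c10 LD2_c22 LD3_c17) (LK LD1_c5 LD2_c16 LD3_c20) Lrfl Lrfl
theorem f41732 : Led Lsl_et (LP (LK LD1_c4 LD2_c27 LD3_c49)) = (LP (LK LD1_c2 LD2_c11 LD3_c4)) :=
  Lre_e IH (LK LD1_c4 LD2_c27 LD3_c49) (LK LD1_c2 LD2_c11 LD3_c4) Lrfl Lrfl
theorem f225840 : Led Lsl_bt (LP (LK LD1_c2 LD2_c11 LD3_c32)) = (LP (LK LD1_c4 LD2_c27 LD3_c49)) :=
  Lgr Lrot119 (Lpe (K14.f225839 IH) (Lpr_bf (K14.f225833 IH) (Lpe (f41732 IH) (Lpn (LP (LK LD1_c4 LD2_c27 LD3_c49))))))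
theorem f170039 : Led Lsl_bt (LP (LK LD1_c2 LD2_c34 LD3_c56)) = (LP (LK LD1_c1 LD2_c14 LD3_c28)) :=
  Lre_b IH (LK LD1_c2 LD2_c34 LD3_c56) (LK LD1_c1 LD2_c14 LD3_c28) Lrfl Lrfl
theorem f255000 : Led Lsl_dt (LP (LK LD1_c4 LD2_c27 LD3_c49)) = (LP (LK LD1_c2 LD2_c34 LD3_c56)) :=
  Lgr Lrot79 (Lpe (f225840 IH) (Lpr_df (K14.f254998 IH) (Lpe (f170039 IH) (Lpn (LP (LK LD1_c2 LD2_c34 LD3_c56))))))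
theorem f238718 : Led Lsl_gt (LP (LK LD1_c8 LD2_c33 LD3_c49)) = (LP (LK LD1_c4 LD2_c17 LD3_c21)) :=
  Lre_g IH (LK LD1_c8 LD2_c33 LD3_c49) (LK LD1_c4 LD2_c17 LD3_c21) Lrfl Lrfl
theorem f247402 : Led Lsl_dt (LP (LK LD1_c16 LD2_c4 LD3_c29)) = (LP (LK LD1_c8 LD2_c33 LD3_c49)) :=
  Lre_d IH (LK LD1_c16 LD2_c4 LD3_c29) (LK LD1_c8 LD2_c33 LD3_c49) Lrfl Lrfl
theorem f307755 : Led Lsl_gt (LP (LK LD1_c8 LD2_c34 LD3_c34)) = (LP (LK LD1_c16 LD2_c4 LD3_c29)) :=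
  Lgr Lrot137 (Lpr_ef (f307696 IH) (Lpr_dt (f307702 IH) (Lpe (f170017 IH) (Lpe (f255000 IH) (Lpr_et (f41732 IH) (Lpe (K14.f191902 IH) (Lpe (K15.f191925 IH) (Lpe (K14.f247387 IH) (Lpe (f238718 IH) (Lpe (f247402 IH) (Lpn (LP (LK LD1_c16 LD2_c4 LD3_c29)))))))))))))
theorem f7965 : Led Lsl_dt (LP (LK LD1_c4 LD2_c17 LD3_c44)) = (LP (LK LD1_c8 LD2_c34 LD3_c34)) :=
  Lre_d IH (LK LD1_c4 LD2_c17 LD3_c44) (LK LD1_c8 LD2_c34 LD3_c34) Lrfl Lrfl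
theorem f167483 : Led Lsl_at (LP (LK LD1_c2 LD2_c6 LD3_c20)) = (LP (LK LD1_c4 LD2_c17 LD3_c61)) :=
  Lre_a IH (LK LD1_c2 LD2_c6 LD3_c20) (LK LD1_c4 LD2_c17 LD3_c61) Lrfl Lrfl
theorem f167482 : Led Lsl_ft (LP (LK LD1_c4 LD2_c18 LD3_c7)) = (LP (LK LD1_c2 LD2_c6 LD3_c20)) :=
  Lre_f IH (LK LD1_c4 LD2_c18 LD3_c7) (LK LD1_c2 LD2_c6 LD3_c20) Lrfl Lrfl
theorem f307686 : Led Lsl_gf (LP (LK LD1_c8 LD2_c34 LD3_c35)) = (LP (LK LD1_c4 LD2_c18 LD3_c7)) :=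
  Lgr Lrot47 (Lpr_gt (f307684 IH) (Lpe (f167483 IH) (Lpe (f167482 IH) (Lpn (LP (LK LD1_c4 LD2_c18 LD3_c7))))))
theorem f289034 : Led Lsl_bt (LP (LK LD1_c2 LD2_c2 LD3_c56)) = (LP (LK LD1_c4 LD2_c11 LD3_c11)) :=
  Lre_b IH (LK LD1_c2 LD2_c2 LD3_c56) (LK LD1_c4 LD2_c11 LD3_c11) Lrfl Lrfl
theorem f167457 : Led Lsl_bt (LP (LK LD1_c4 LD2_c18 LD3_c7)) = (LP (LK LD1_c2 LD2_c6 LD3_c25)) :=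
  Lre_b IH (LK LD1_c4 LD2_c18 LD3_c7) (LK LD1_c2 LD2_c6 LD3_c25) Lrfl Lrfl
theorem f299446 : Led Lsl_et (LP (LK LD1_c4 LD2_c11 LD3_c11)) = (LP (LK LD1_c4 LD2_c18 LD3_c7)) :=
  Lgr Lrot74 (Lpe (f289034 IH) (Lpr_ef (K18.f299444 IH) (Lpe (f167457 IH) (Lpn (LP (LK LD1_c4 LD2_c18 LD3_c7))))))
theorem f278649 : Led Lsl_dt (LP (LK LD1_c8 LD2_c33 LD3_c49)) = (LP (LK LD1_c16 LD2_c4 LD3_c29)) :=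
  Lre_d IH (LK LD1_c8 LD2_c33 LD3_c49) (LK LD1_c16 LD2_c4 LD3_c29) Lrfl Lrfl
theorem f224205 : Led Lsl_gt (LP (LK LD1_c5 LD2_c23 LD3_c54)) = (LP (LK LD1_c2 LD2_c38 LD3_c29)) :=
  Lre_g IH (LK LD1_c5 LD2_c23 LD3_c54) (LK LD1_c2 LD2_c38 LD3_c29) Lrfl Lrfl
theorem f307766 : Led Lsl_ef (LP (LK LD1_c5 LD2_c23 LD3_c54)) = (LP (LK LD1_c8 LD2_c33 LD3_c49)) :=
  Lgr Lrot114 (Lpr_gt (f224205 IH) (Lpe (K18.f255993 IH) (Lpr_dt (K15.f169158 IH) (Lpe (K14.f255986 IH) (Lpe (K14.f7928 IH) (Lpr_et (f7963 IH) (Lpr_gt (f7964 IH) (Lpr_dt (f7965 IH) (Lpr_gt (f307755 IH) (Lpe (f278649 IH) (Lpn (LP (LK LD1_c8 LD2_c33 LD3_c49)))))))))))))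
theorem f307768 : Led Lsl_dt (LP (LK LD1_c4 LD2_c11 LD3_c11)) = (LP (LK LD1_c2 LD2_c38 LD3_c27)) :=
  Lgr Lrot56 (Lpr_et (f299446 IH) (Lpe (f307686 IH) (Lpe (f256002 IH) (Lpr_dt (f7965 IH) (Lpr_gt (f307755 IH) (Lpe (f278649 IH) (Lpe (f307766 IH) (Lpr_gt (f224205 IH) (Lpr_dt (K18.f255874 IH) (Lpr_gt (K17.f241959 IH) (Lpn (LP (LK LD1_c2 LD2_c38 LD3_c27)))))))))))))
theorem f299458 : Led Lsl_ft (LP (LK LD1_c4 LD2_c11 LD3_c11)) = (LP (LK LD1_c2 LD2_c2 LD3_c50)) :=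
  Lre_f IH (LK LD1_c4 LD2_c11 LD3_c11) (LK LD1_c2 LD2_c2 LD3_c50) Lrfl Lrfl
theorem f303006 : Led Lsl_at (LP (LK LD1_c2 LD2_c2 LD3_c50)) = (LP (LK LD1_c4 LD2_c11 LD3_c2)) :=
  Lre_a IH (LK LD1_c2 LD2_c2 LD3_c50) (LK LD1_c4 LD2_c11 LD3_c2) Lrfl Lrfl
theorem f303003 : Led Lsl_ct (LP (LK LD1_c8 LD2_c21 LD3_c57)) = (LP (LK LD1_c4 LD2_c11 LD3_c2)) :=
  Lre_c IH (LK LD1_c8 LD2_c21 LD3_c57) (LK LD1_c4 LD2_c11 LD3_c2) Lrfl Lrfl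
theorem f295963 : Led Lsl_dt (LP (LK LD1_c15 LD2_c44 LD3_c34)) = (LP (LK LD1_c8 LD2_c21 LD3_c57)) :=
  Lre_d IH (LK LD1_c15 LD2_c44 LD3_c34) (LK LD1_c8 LD2_c21 LD3_c57) Lrfl Lrfl
theorem f295962 : Led Lsl_ct (LP (LK LD1_c25 LD2_c40 LD3_c57)) = (LP (LK LD1_c15 LD2_c44 LD3_c34)) :=
  Lre_c IH (LK LD1_c25 LD2_c40 LD3_c57) (LK LD1_c15 LD2_c44 LD3_c34) Lrfl Lrfl
theorem f241960 : Led Lsl_ct (LP (LK LD1_c2 LD2_c38 LD3_c27)) = (LP (LK LD1_c5 LD2_c23 LD3_c50)) :=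
  Lre_c IH (LK LD1_c2 LD2_c38 LD3_c27) (LK LD1_c5 LD2_c23 LD3_c50) Lrfl Lrfl
theorem f307770 : Led Lsl_dt (LP (LK LD1_c5 LD2_c23 LD3_c50)) = (LP (LK LD1_c10 LD2_c38 LD3_c19)) :=
  Lre_d IH (LK LD1_c5 LD2_c23 LD3_c50) (LK LD1_c10 LD2_c38 LD3_c19) Lrfl Lrfl
theorem f307771 : Led Lsl_ct (LP (LK LD1_c10 LD2_c38 LD3_c19)) = (LP (LK LD1_c19 LD2_c16 LD3_c27)) :=
  Lre_c IH (LK LD1_c10 LD2_c38 LD3_c19) (LK LD1_c19 LD2_c16 LD3_c27) Lrfl Lrfl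
theorem f307775 : Led Lsl_df (LP (LK LD1_c25 LD2_c40 LD3_c57)) = (LP (LK LD1_c19 LD2_c16 LD3_c27)) :=
  Lgr Lrot13 (Lpr_ct (f295962 IH) (Lpr_dt (f295963 IH) (Lpr_ct (f303003 IH) (Lpe (f303006 IH) (Lpe (f299458 IH) (Lpr_dt (f307768 IH) (Lpr_ct (f241960 IH) (Lpr_dt (f307770 IH) (Lpr_ct (f307771 IH) (Lpn (LP (LK LD1_c19 LD2_c16 LD3_c27))))))))))))
theorem f307787 : Led Lsl_ff (LP (LK LD1_c8 LD2_c22 LD3_c20)) = (LP (LK LD1_c5 LD2_c23 LD3_c50)) :=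
  Lgr Lrot103 (Lpr_at (K18.f302995 IH) (Lpe (K16.f256504 IH) (Lpe (K17.f288694 IH) (Lpe (f303003 IH) (Lpe (f295963 IH) (Lpe (f295962 IH) (Lpr_df (f307775 IH) (Lpe (f307771 IH) (Lpe (f307770 IH) (Lpn (LP (LK LD1_c5 LD2_c23 LD3_c50))))))))))))
theorem f307800 : Led Lsl_ft (LP (LK LD1_c8 LD2_c22 LD3_c20)) = (LP (LK LD1_c5 LD2_c23 LD3_c50)) :=
  Lgr Lrot48 (Lpr_ff (f307787 IH) (Lpn (LP (LK LD1_c5 LD2_c23 LD3_c50))))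
theorem f215494 : Led Lsl_ct (LP (LK LD1_c10 LD2_c31 LD3_c24)) = (LP (LK LD1_c5 LD2_c20 LD3_c40)) :=
  Lre_c IH (LK LD1_c10 LD2_c31 LD3_c24) (LK LD1_c5 LD2_c20 LD3_c40) Lrfl Lrfl
theorem f288681 : Led Lsl_af (LP (LK LD1_c10 LD2_c31 LD3_c24)) = (LP (LK LD1_c5 LD2_c23 LD3_c50)) :=
  Lgr Lrot68 (Lpr_ct (f215494 IH) (Lpr_at (K17.f288660 IH) (Lpr_ct (f241960 IH) (Lpn (LP (LK LD1_c5 LD2_c23 LD3_c50))))))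
theorem f307814 : Led Lsl_gt (LP (LK LD1_c15 LD2_c36 LD3_c42)) = (LP (LK LD1_c10 LD2_c31 LD3_c24)) :=
  Lgr Lrot46 (Lpr_gf (K18.f300922 IH) (Lpr_ft (f307800 IH) (Lpe (f288681 IH) (Lpn (LP (LK LD1_c10 LD2_c31 LD3_c24))))))
theorem f189264 : Led Lsl_et (LP (LK LD1_c9 LD2_c33 LD3_c51)) = (LP (LK LD1_c4 LD2_c50 LD3_c53)) :=
  Lre_e IH (LK LD1_c9 LD2_c33 LD3_c51) (LK LD1_c4 LD2_c50 LD3_c53) Lrfl Lrfl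
theorem f216434 : Led Lsl_bt (LP (LK LD1_c2 LD2_c45 LD3_c34)) = (LP (LK LD1_c5 LD2_c39 LD3_c15)) :=
  Lre_b IH (LK LD1_c2 LD2_c45 LD3_c34) (LK LD1_c5 LD2_c39 LD3_c15) Lrfl Lrfl
theorem f216464 : Led Lsl_et (LP (LK LD1_c5 LD2_c39 LD3_c15)) = (LP (LK LD1_c5 LD2_c36 LD3_c8)) :=
  Lgr Lrot74 (Lpe (f216434 IH) (Lpr_ef (K13.f216461 IH) (Lpe (K15.f216463 IH) (Lpn (LP (LK LD1_c5 LD2_c36 LD3_c8))))))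
theorem f189261 : Led Lsl_et (LP (LK LD1_c4 LD2_c50 LD3_c53)) = (LP (LK LD1_c9 LD2_c33 LD3_c51)) :=
  Lre_e IH (LK LD1_c4 LD2_c50 LD3_c53) (LK LD1_c9 LD2_c33 LD3_c51) Lrfl Lrfl
theorem f216579 : Led Lsl_df (LP (LK LD1_c5 LD2_c39 LD3_c15)) = (LP (LK LD1_c9 LD2_c33 LD3_c51)) :=
  Lgr Lrot70 (Lpr_et (f216464 IH) (Lpr_dt (K15.f189260 IH) (Lpr_et (K13.f189259 IH) (Lpr_dt (K13.f189255 IH) (Lpr_et (f189261 IH) (Lpn (LP (LK LD1_c9 LD2_c33 LD3_c51))))))))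
theorem f229565 : Led Lsl_et (LP (LK LD1_c14 LD2_c58 LD3_c10)) = (LP (LK LD1_c7 LD2_c56 LD3_c5)) :=
  Lre_e IH (LK LD1_c14 LD2_c58 LD3_c10) (LK LD1_c7 LD2_c56 LD3_c5) Lrfl Lrfl
theorem f229582 : Led Lsl_et (LP (LK LD1_c7 LD2_c56 LD3_c5)) = (LP (LK LD1_c14 LD2_c58 LD3_c10)) :=
  Lre_e IH (LK LD1_c7 LD2_c56 LD3_c5) (LK LD1_c14 LD2_c58 LD3_c10) Lrfl Lrfl
theorem f220744 : Led Lsl_et (LP (LK LD1_c8 LD2_c18 LD3_c6)) = (LP (LK LD1_c4 LD2_c9 LD3_c0)) :=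
  Lre_e IH (LK LD1_c8 LD2_c18 LD3_c6) (LK LD1_c4 LD2_c9 LD3_c0) Lrfl Lrfl
theorem f229583 : Led Lsl_dt (LP (LK LD1_c14 LD2_c58 LD3_c10)) = (LP (LK LD1_c8 LD2_c18 LD3_c6)) :=
  Lgr Lrot77 (Lpe (f229582 IH) (Lpr_df (K14.f229500 IH) (Lpe (K15.f220745 IH) (Lpe (K18.f218831 IH) (Lpe (f220744 IH) (Lpn (LP (LK LD1_c8 LD2_c18 LD3_c6))))))))
theorem f259262 : Led Lsl_gt (LP (LK LD1_c5 LD2_c39 LD3_c15)) = (LP (LK LD1_c8 LD2_c18 LD3_c6)) :=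
  Lgr Lrot112 (Lpr_df (f216579 IH) (Lpr_et (f189264 IH) (Lpr_gf (K13.f219166 IH) (Lpe (K12.f53841 IH) (Lpr_dt (K12.f44497 IH) (Lpr_gf (K12.f220610 IH) (Lpe (K17.f220612 IH) (Lpr_gf (f259258 IH) (Lpe (f229565 IH) (Lpr_dt (f229583 IH) (Lpn (LP (LK LD1_c8 LD2_c18 LD3_c6)))))))))))))
theorem f192396 : Led Lsl_bt (LP (LK LD1_c9 LD2_c33 LD3_c51)) = (LP (LK LD1_c4 LD2_c50 LD3_c55)) :=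
  Lre_b IH (LK LD1_c9 LD2_c33 LD3_c51) (LK LD1_c4 LD2_c50 LD3_c55) Lrfl Lrfl
theorem f216435 : Led Lsl_dt (LP (LK LD1_c5 LD2_c39 LD3_c15)) = (LP (LK LD1_c9 LD2_c33 LD3_c51)) :=
  Lgr Lrot79 (Lpe (f216434 IH) (Lpr_df (K13.f216432 IH) (Lpe (f192396 IH) (Lpn (LP (LK LD1_c9 LD2_c33 LD3_c51))))))
theorem f215498 : Led Lsl_df (LP (LK LD1_c5 LD2_c20 LD3_c40)) = (LP (LK LD1_c8 LD2_c21 LD3_c60)) :=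
  Lgr Lrot38 (Lpr_dt (K17.f215491 IH) (Lpn (LP (LK LD1_c8 LD2_c21 LD3_c60))))
theorem f215508 : Led Lsl_ct (LP (LK LD1_c15 LD2_c44 LD3_c35)) = (LP (LK LD1_c8 LD2_c21 LD3_c60)) :=
  Lre_c IH (LK LD1_c15 LD2_c44 LD3_c35) (LK LD1_c8 LD2_c21 LD3_c60) Lrfl Lrfl
theorem f307816 : Led Lsl_gt (LP (LK LD1_c9 LD2_c33 LD3_c51)) = (LP (LK LD1_c15 LD2_c45 LD3_c1)) :=
  Lgr Lrot9 (Lpe (f216435 IH) (Lpr_gt (f259262 IH) (Lpr_ct (K18.f229589 IH) (Lpr_gt (f307814 IH) (Lpr_ct (f215494 IH) (Lpr_df (f215498 IH) (Lpe (f215508 IH) (Lpe (f215512 IH) (Lpe (f215513 IH) (Lpn (LP (LK LD1_c15 LD2_c45 LD3_c1))))))))))))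
theorem f192408 : Led Lsl_bt (LP (LK LD1_c4 LD2_c50 LD3_c55)) = (LP (LK LD1_c9 LD2_c33 LD3_c51)) :=
  Lre_b IH (LK LD1_c4 LD2_c50 LD3_c55) (LK LD1_c9 LD2_c33 LD3_c51) Lrfl Lrfl
theorem f192397 : Led Lsl_ct (LP (LK LD1_c4 LD2_c50 LD3_c55)) = (LP (LK LD1_c9 LD2_c33 LD3_c54)) :=
  Lre_c IH (LK LD1_c4 LD2_c50 LD3_c55) (LK LD1_c9 LD2_c33 LD3_c54) Lrfl Lrfl
theorem f307898 : Led Lsl_gt (LP (LK LD1_c8 LD2_c34 LD3_c17)) = (LP (LK LD1_c4 LD2_c17 LD3_c45)) :=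
  Lre_g IH (LK LD1_c8 LD2_c34 LD3_c17) (LK LD1_c4 LD2_c17 LD3_c45) Lrfl Lrfl
theorem f310470 : Led Lsl_bt (LP (LK LD1_c8 LD2_c34 LD3_c36)) = (LP (LK LD1_c4 LD2_c17 LD3_c45)) :=
  Lre_b IH (LK LD1_c8 LD2_c34 LD3_c36) (LK LD1_c4 LD2_c17 LD3_c45) Lrfl Lrfl
theorem f310471 : Led Lsl_ct (LP (LK LD1_c8 LD2_c34 LD3_c36)) = (LP (LK LD1_c16 LD2_c5 LD3_c44)) :=
  Lre_c IH (LK LD1_c8 LD2_c34 LD3_c36) (LK LD1_c16 LD2_c5 LD3_c44) Lrfl Lrfl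
theorem f310472 : Led Lsl_gf (LP (LK LD1_c9 LD2_c33 LD3_c54)) = (LP (LK LD1_c16 LD2_c5 LD3_c44)) :=
  Lgr Lrot126 (Lpe (f192397 IH) (Lpr_bt (f192408 IH) (Lpr_gt (f307816 IH) (Lpr_ct (f215513 IH) (Lpr_gt (f215512 IH) (Lpe (f215496 IH) (Lpr_bt (f310462 IH) (Lpr_gt (f307898 IH) (Lpe (f310470 IH) (Lpr_ct (f310471 IH) (Lpn (LP (LK LD1_c16 LD2_c5 LD3_c44)))))))))))))
theorem f229911 : Led Lsl_et (LP (LK LD1_c4 LD2_c56 LD3_c48)) = (LP (LK LD1_c2 LD2_c26 LD3_c14)) :=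
  Lre_e IH (LK LD1_c4 LD2_c56 LD3_c48) (LK LD1_c2 LD2_c26 LD3_c14) Lrfl Lrfl
theorem f310482 : Led Lsl_et (LP (LK LD1_c26 LD2_c2 LD3_c51)) = (LP (LK LD1_c16 LD2_c5 LD3_c44)) :=
  Lre_e IH (LK LD1_c26 LD2_c2 LD3_c51) (LK LD1_c16 LD2_c5 LD3_c44) Lrfl Lrfl
theorem f310483 : Led Lsl_df (LP (LK LD1_c17 LD2_c54 LD3_c15)) = (LP (LK LD1_c26 LD2_c2 LD3_c51)) :=
  Lgr Lrot168 (Lpe (K18.f229913 IH) (Lpe (K18.f229912 IH) (Lpr_et (f229911 IH) (Lpe (K13.f229893 IH) (Lpe (K16.f229908 IH) (Lpr_dt (K16.f229909 IH) (Lpe (K16.f236899 IH) (Lpe (K16.f216582 IH) (Lpr_gf (f310472 IH) (Lpe (f310482 IH) (Lpn (LP (LK LD1_c26 LD2_c2 LD3_c51)))))))))))))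
theorem f310487 : Led Lsl_dt (LP (LK LD1_c17 LD2_c54 LD3_c15)) = (LP (LK LD1_c26 LD2_c2 LD3_c51)) :=
  Lgr Lrot42 (Lpr_df (f310483 IH) (Lpn (LP (LK LD1_c26 LD2_c2 LD3_c51))))
theorem f236460 : Led Lsl_ct (LP (LK LD1_c9 LD2_c34 LD3_c26)) = (LP (LK LD1_c7 LD2_c55 LD3_c41)) :=
  Lgr Lrot15 (Lpe (K18.f233141 IH) (Lpe (K17.f233082 IH) (Lpr_ef (K13.f236458 IH) (Lpn (LP (LK LD1_c7 LD2_c55 LD3_c41))))))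
theorem f228065 : Led Lsl_gt (LP (LK LD1_c4 LD2_c19 LD3_c10)) = (LP (LK LD1_c8 LD2_c36 LD3_c44)) :=
  Lre_g IH (LK LD1_c4 LD2_c19 LD3_c10) (LK LD1_c8 LD2_c36 LD3_c44) Lrfl Lrfl
theorem f310486 : Led Lsl_ct (LP (LK LD1_c16 LD2_c5 LD3_c45)) = (LP (LK LD1_c26 LD2_c2 LD3_c51)) :=
  Lre_c IH (LK LD1_c16 LD2_c5 LD3_c45) (LK LD1_c26 LD2_c2 LD3_c51) Lrfl Lrfl
theorem f310492 : Led Lsl_dt (LP (LK LD1_c8 LD2_c36 LD3_c44)) = (LP (LK LD1_c16 LD2_c5 LD3_c45)) :=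
  Lgr Lrot105 (Lpe (f228065 IH) (Lpr_df (K18.f228046 IH) (Lpe (K13.f197708 IH) (Lpe (f236460 IH) (Lpr_gt (K18.f236897 IH) (Lpr_dt (K18.f229912 IH) (Lpr_gt (K18.f229913 IH) (Lpr_dt (f310487 IH) (Lpe (f310486 IH) (Lpn (LP (LK LD1_c16 LD2_c5 LD3_c45))))))))))))
theorem f299053 : Led Lsl_gf (LP (LK LD1_c15 LD2_c22 LD3_c27)) = (LP (LK LD1_c11 LD2_c8 LD3_c43)) :=
  Lgr Lrot141 (Lpe (K18.f286734 IH) (Lpr_dt (K18.f200493 IH) (Lpr_gt (K18.f299047 IH) (Lpe (K18.f27670 IH) (Lpr_et (K18.f27669 IH) (Lpe (K13.f216131 IH) (Lpe (K15.f50992 IH) (Lpr_gt (K15.f51002 IH) (Lpr_df (K16.f216194 IH) (Lpr_et (K16.f244109 IH) (Lpn (LP (LK LD1_c11 LD2_c8 LD3_c43)))))))))))))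
theorem f286737 : Led Lsl_dt (LP (LK LD1_c15 LD2_c22 LD3_c27)) = (LP (LK LD1_c25 LD2_c14 LD3_c14)) :=
  Lre_d IH (LK LD1_c15 LD2_c22 LD3_c27) (LK LD1_c25 LD2_c14 LD3_c14) Lrfl Lrfl
theorem f201002 : Led Lsl_gt (LP (LK LD1_c20 LD2_c2 LD3_c25)) = (LP (LK LD1_c11 LD2_c8 LD3_c45)) :=
  Lre_g IH (LK LD1_c20 LD2_c2 LD3_c25) (LK LD1_c11 LD2_c8 LD3_c45) Lrfl Lrfl
theorem f296889 : Led Lsl_gt (LP (LK LD1_c25 LD2_c14 LD3_c14)) = (LP (LK LD1_c20 LD2_c2 LD3_c25)) :=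
  Lgr Lrot5 (Lpr_ft (K18.f244499 IH) (Lpr_at (K18.f296877 IH) (Lpe (f201002 IH) (Lpn (LP (LK LD1_c20 LD2_c2 LD3_c25))))))
theorem f52899 : Led Lsl_gt (LP (LK LD1_c4 LD2_c14 LD3_c51)) = (LP (LK LD1_c8 LD2_c28 LD3_c32)) :=
  Lre_g IH (LK LD1_c4 LD2_c14 LD3_c51) (LK LD1_c8 LD2_c28 LD3_c32) Lrfl Lrfl
theorem f52902 : Led Lsl_et (LP (LK LD1_c15 LD2_c54 LD3_c55)) = (LP (LK LD1_c8 LD2_c28 LD3_c32)) :=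
  Lre_e IH (LK LD1_c15 LD2_c54 LD3_c55) (LK LD1_c8 LD2_c28 LD3_c32) Lrfl Lrfl
theorem f201003 : Led Lsl_df (LP (LK LD1_c20 LD2_c2 LD3_c25)) = (LP (LK LD1_c15 LD2_c54 LD3_c55)) :=
  Lgr Lrot170 (Lpr_gt (f201002 IH) (Lpe (K17.f201001 IH) (Lpr_et (K18.f201000 IH) (Lpe (K15.f196939 IH) (Lpr_dt (K15.f200881 IH) (Lpe (K11.f200818 IH) (Lpe (K10.f52655 IH) (Lpr_et (K10.f52643 IH) (Lpr_gt (f52899 IH) (Lpe (f52902 IH) (Lpn (LP (LK LD1_c15 LD2_c54 LD3_c55)))))))))))))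
theorem f201008 : Led Lsl_dt (LP (LK LD1_c20 LD2_c2 LD3_c25)) = (LP (LK LD1_c15 LD2_c54 LD3_c55)) :=
  Lgr Lrot42 (Lpr_df (f201003 IH) (Lpn (LP (LK LD1_c15 LD2_c54 LD3_c55))))
theorem f244116 : Led Lsl_cf (LP (LK LD1_c6 LD2_c4 LD3_c47)) = (LP (LK LD1_c11 LD2_c8 LD3_c43)) :=
  Lgr Lrot39 (Lpr_et (f244115 IH) (Lpr_ct (K15.f187854 IH) (Lpr_et (K16.f244109 IH) (Lpn (LP (LK LD1_c11 LD2_c8 LD3_c43))))))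
theorem f28035 : Led Lsl_gt (LP (LK LD1_c8 LD2_c3 LD3_c6)) = (LP (LK LD1_c4 LD2_c3 LD3_c18)) :=
  Lre_g IH (LK LD1_c8 LD2_c3 LD3_c6) (LK LD1_c4 LD2_c3 LD3_c18) Lrfl Lrfl
theorem f296427 : Led Lsl_gf (LP (LK LD1_c8 LD2_c5 LD3_c49)) = (LP (LK LD1_c8 LD2_c5 LD3_c28)) :=
  Lgr Lrot134 (Lpr_df (f296421 IH) (Lpr_et (f28045 IH) (Lpr_gt (f28035 IH) (Lpe (K9.f28030 IH) (Lpr_dt (K10.f28029 IH) (Lpr_gt (K10.f187847 IH) (Lpe (K15.f187860 IH) (Lpr_et (f187861 IH) (Lpr_gt (f296359 IH) (Lpr_dt (f259104 IH) (Lpn (LP (LK LD1_c8 LD2_c5 LD3_c28)))))))))))))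
theorem f299057 : Led Lsl_cf (LP (LK LD1_c15 LD2_c54 LD3_c55)) = (LP (LK LD1_c15 LD2_c9 LD3_c38)) :=
  Lgr Lrot14 (Lpe (f201008 IH) (Lpe (f296889 IH) (Lpe (f286737 IH) (Lpr_gf (f299053 IH) (Lpe (f244116 IH) (Lpr_gt (f296359 IH) (Lpr_dt (f259104 IH) (Lpe (f296427 IH) (Lpr_dt (f296423 IH) (Lpn (LP (LK LD1_c15 LD2_c9 LD3_c38))))))))))))
theorem f199332 : Led Lsl_et (LP (LK LD1_c8 LD2_c3 LD3_c6)) = (LP (LK LD1_c15 LD2_c9 LD3_c38)) :=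
  Lre_e IH (LK LD1_c8 LD2_c3 LD3_c6) (LK LD1_c15 LD2_c9 LD3_c38) Lrfl Lrfl
theorem f299068 : Led Lsl_ct (LP (LK LD1_c8 LD2_c28 LD3_c32)) = (LP (LK LD1_c8 LD2_c3 LD3_c6)) :=
  Lgr Lrot15 (Lpe (f52902 IH) (Lpr_cf (f299057 IH) (Lpe (f199332 IH) (Lpn (LP (LK LD1_c8 LD2_c3 LD3_c6))))))
theorem f52625 : Led Lsl_af (LP (LK LD1_c8 LD2_c27 LD3_c35)) = (LP (LK LD1_c8 LD2_c28 LD3_c34)) :=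
  Lgr Lrot0 (Lpr_at (K10.f52619 IH) (Lpn (LP (LK LD1_c8 LD2_c28 LD3_c34))))
theorem f52900 : Led Lsl_gf (LP (LK LD1_c8 LD2_c27 LD3_c35)) = (LP (LK LD1_c8 LD2_c28 LD3_c32)) :=
  Lgr Lrot76 (Lpr_af (f52625 IH) (Lpe (f52674 IH) (Lpr_gt (f52899 IH) (Lpn (LP (LK LD1_c8 LD2_c28 LD3_c32))))))
theorem f52580 : Led Lsl_at (LP (LK LD1_c8 LD2_c28 LD3_c35)) = (LP (LK LD1_c8 LD2_c27 LD3_c34)) :=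
  Lgr Lrot80 (Lpr_ef (K10.f52578 IH) (Lpr_af (K10.f27649 IH) (Lpe (K10.f50981 IH) (Lpn (LP (LK LD1_c8 LD2_c27 LD3_c34))))))
theorem f52914 : Led Lsl_gt (LP (LK LD1_c15 LD2_c53 LD3_c7)) = (LP (LK LD1_c8 LD2_c27 LD3_c34)) :=
  Lre_g IH (LK LD1_c15 LD2_c53 LD3_c7) (LK LD1_c8 LD2_c27 LD3_c34) Lrfl Lrfl
theorem f52915 : Led Lsl_gt (LP (LK LD1_c15 LD2_c53 LD3_c9)) = (LP (LK LD1_c15 LD2_c53 LD3_c7)) :=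
  Lgr Lrot5 (Lpr_ft (K10.f27529 IH) (Lpr_at (f52580 IH) (Lpe (f52914 IH) (Lpn (LP (LK LD1_c15 LD2_c53 LD3_c7))))))
theorem f28037 : Led Lsl_gt (LP (LK LD1_c4 LD2_c3 LD3_c18)) = (LP (LK LD1_c8 LD2_c3 LD3_c7)) :=
  Lre_g IH (LK LD1_c4 LD2_c3 LD3_c18) (LK LD1_c8 LD2_c3 LD3_c7) Lrfl Lrfl
theorem f28038 : Led Lsl_dt (LP (LK LD1_c8 LD2_c3 LD3_c7)) = (LP (LK LD1_c15 LD2_c9 LD3_c39)) :=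
  Lre_d IH (LK LD1_c8 LD2_c3 LD3_c7) (LK LD1_c15 LD2_c9 LD3_c39) Lrfl Lrfl
theorem f28039 : Led Lsl_ct (LP (LK LD1_c15 LD2_c9 LD3_c39)) = (LP (LK LD1_c24 LD2_c58 LD3_c46)) :=
  Lre_c IH (LK LD1_c15 LD2_c9 LD3_c39) (LK LD1_c24 LD2_c58 LD3_c46) Lrfl Lrfl
theorem f299073 : Led Lsl_dt (LP (LK LD1_c15 LD2_c53 LD3_c7)) = (LP (LK LD1_c24 LD2_c58 LD3_c46)) :=
  Lgr Lrot113 (Lpe (f52915 IH) (Lpe (K10.f27524 IH) (Lpr_gf (f52900 IH) (Lpr_ct (f299068 IH) (Lpr_gt (f28035 IH) (Lpe (K10.f27994 IH) (Lpr_gt (f28037 IH) (Lpr_dt (f28038 IH) (Lpr_ct (f28039 IH) (Lpn (LP (LK LD1_c24 LD2_c58 LD3_c46))))))))))))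
theorem f299088 : Led Lsl_df (LP (LK LD1_c15 LD2_c53 LD3_c7)) = (LP (LK LD1_c24 LD2_c58 LD3_c46)) :=
  Lgr Lrot38 (Lpr_dt (f299073 IH) (Lpn (LP (LK LD1_c24 LD2_c58 LD3_c46))))
theorem f52885 : Led Lsl_dt (LP (LK LD1_c4 LD2_c14 LD3_c51)) = (LP (LK LD1_c8 LD2_c27 LD3_c34)) :=
  Lre_d IH (LK LD1_c4 LD2_c14 LD3_c51) (LK LD1_c8 LD2_c27 LD3_c34) Lrfl Lrfl
theorem f52664 : Led Lsl_et (LP (LK LD1_c4 LD2_c14 LD3_c51)) = (LP (LK LD1_c2 LD2_c4 LD3_c46)) :=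
  Lre_e IH (LK LD1_c4 LD2_c14 LD3_c51) (LK LD1_c2 LD2_c4 LD3_c46) Lrfl Lrfl
theorem f223671 : Led Lsl_gt (LP (LK LD1_c8 LD2_c9 LD3_c36)) = (LP (LK LD1_c15 LD2_c22 LD3_c14)) :=
  Lre_g IH (LK LD1_c8 LD2_c9 LD3_c36) (LK LD1_c15 LD2_c22 LD3_c14) Lrfl Lrfl
theorem f299090 : Led Lsl_ef (LP (LK LD1_c15 LD2_c22 LD3_c14)) = (LP (LK LD1_c24 LD2_c58 LD3_c46)) :=
  Lgr Lrot17 (Lpe (f223671 IH) (Lpe (K18.f238500 IH) (Lpr_dt (K15.f238498 IH) (Lpr_gf (K12.f228267 IH) (Lpr_df (K11.f200820 IH) (Lpe (K11.f200804 IH) (Lpe (f52664 IH) (Lpr_dt (f52885 IH) (Lpe (f52914 IH) (Lpr_df (f299088 IH) (Lpn (LP (LK LD1_c24 LD2_c58 LD3_c46)))))))))))))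
theorem f299094 : Led Lsl_et (LP (LK LD1_c15 LD2_c22 LD3_c14)) = (LP (LK LD1_c24 LD2_c58 LD3_c46)) :=
  Lgr Lrot87 (Lpr_ef (f299090 IH) (Lpn (LP (LK LD1_c24 LD2_c58 LD3_c46))))
theorem f200494 : Led Lsl_ct (LP (LK LD1_c8 LD2_c43 LD3_c20)) = (LP (LK LD1_c4 LD2_c22 LD3_c45)) :=
  Lre_c IH (LK LD1_c8 LD2_c43 LD3_c20) (LK LD1_c4 LD2_c22 LD3_c45) Lrfl Lrfl
theorem f298443 : Led Lsl_gf (LP (LK LD1_c11 LD2_c8 LD3_c55)) = (LP (LK LD1_c15 LD2_c22 LD3_c14)) :=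
  Lgr Lrot76 (Lpr_af (K18.f297971 IH) (Lpe (K18.f297895 IH) (Lpr_gt (f223671 IH) (Lpn (LP (LK LD1_c15 LD2_c22 LD3_c14))))))
theorem f299006 : Led Lsl_ct (LP (LK LD1_c8 LD2_c36 LD3_c44)) = (LP (LK LD1_c15 LD2_c22 LD3_c14)) :=
  Lgr Lrot152 (Lpe (f228065 IH) (Lpr_df (K18.f228046 IH) (Lpr_gt (K18.f42891 IH) (Lpr_ct (K18.f299001 IH) (Lpe (K18.f298998 IH) (Lpr_ct (f200494 IH) (Lpe (K12.f200497 IH) (Lpe (K18.f200502 IH) (Lpr_gf (f298443 IH) (Lpn (LP (LK LD1_c15 LD2_c22 LD3_c14))))))))))))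
theorem f28040 : Led Lsl_ct (LP (LK LD1_c24 LD2_c58 LD3_c46)) = (LP (LK LD1_c15 LD2_c9 LD3_c39)) :=
  Lre_c IH (LK LD1_c24 LD2_c58 LD3_c46) (LK LD1_c15 LD2_c9 LD3_c39) Lrfl Lrfl
theorem f299096 : Led Lsl_ef (LP (LK LD1_c8 LD2_c36 LD3_c44)) = (LP (LK LD1_c15 LD2_c9 LD3_c39)) :=
  Lgr Lrot28 (Lpr_ct (f299006 IH) (Lpr_et (f299094 IH) (Lpr_ct (f28040 IH) (Lpn (LP (LK LD1_c15 LD2_c9 LD3_c39))))))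
theorem f28113 : Led Lsl_et (LP (LK LD1_c15 LD2_c9 LD3_c40)) = (LP (LK LD1_c8 LD2_c3 LD3_c7)) :=
  Lre_e IH (LK LD1_c15 LD2_c9 LD3_c40) (LK LD1_c8 LD2_c3 LD3_c7) Lrfl Lrfl
theorem f310499 : Led Lsl_et (LP (LK LD1_c16 LD2_c5 LD3_c45)) = (LP (LK LD1_c8 LD2_c34 LD3_c36)) :=
  Lre_e IH (LK LD1_c16 LD2_c5 LD3_c45) (LK LD1_c8 LD2_c34 LD3_c36) Lrfl Lrfl
theorem f310500 : Led Lsl_df (LP (LK LD1_c15 LD2_c9 LD3_c40)) = (LP (LK LD1_c8 LD2_c34 LD3_c36)) :=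
  Lgr Lrot70 (Lpr_et (f28113 IH) (Lpr_dt (f28038 IH) (Lpe (f299096 IH) (Lpr_dt (f310492 IH) (Lpr_et (f310499 IH) (Lpn (LP (LK LD1_c8 LD2_c34 LD3_c36))))))))
theorem f310506 : Led Lsl_dt (LP (LK LD1_c15 LD2_c9 LD3_c40)) = (LP (LK LD1_c8 LD2_c34 LD3_c36)) :=
  Lgr Lrot42 (Lpr_df (f310500 IH) (Lpn (LP (LK LD1_c8 LD2_c34 LD3_c36))))
theorem f28108 : Led Lsl_gt (LP (LK LD1_c8 LD2_c3 LD3_c7)) = (LP (LK LD1_c4 LD2_c1 LD3_c10)) :=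
  Lre_g IH (LK LD1_c8 LD2_c3 LD3_c7) (LK LD1_c4 LD2_c1 LD3_c10) Lrfl Lrfl
theorem f27979 : Led Lsl_at (LP (LK LD1_c1 LD2_c59 LD3_c5)) = (LP (LK LD1_c4 LD2_c1 LD3_c10)) :=
  Lre_a IH (LK LD1_c1 LD2_c59 LD3_c5) (LK LD1_c4 LD2_c1 LD3_c10) Lrfl Lrfl
theorem f27980 : Led Lsl_df (LP (LK LD1_c4 LD2_c1 LD3_c10)) = (LP (LK LD1_c4 LD2_c1 LD3_c10)) :=
  Lgr Lrot18 (Lpr_at (K10.f27978 IH) (Lpr_dt (K9.f27970 IH) (Lpr_at (f27979 IH) (Lpn (LP (LK LD1_c4 LD2_c1 LD3_c10))))))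
theorem f28036 : Led Lsl_dt (LP (LK LD1_c15 LD2_c9 LD3_c37)) = (LP (LK LD1_c8 LD2_c3 LD3_c6)) :=
  Lre_d IH (LK LD1_c15 LD2_c9 LD3_c37) (LK LD1_c8 LD2_c3 LD3_c6) Lrfl Lrfl
theorem f296425 : Led Lsl_et (LP (LK LD1_c15 LD2_c16 LD3_c6)) = (LP (LK LD1_c15 LD2_c9 LD3_c37)) :=
  Lgr Lrot71 (Lpr_df (f296380 IH) (Lpe (f296384 IH) (Lpr_df (f296421 IH) (Lpe (f199332 IH) (Lpe (f28036 IH) (Lpn (LP (LK LD1_c15 LD2_c9 LD3_c37))))))))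
theorem f296431 : Led Lsl_ef (LP (LK LD1_c15 LD2_c16 LD3_c6)) = (LP (LK LD1_c15 LD2_c9 LD3_c37)) :=
  Lgr Lrot88 (Lpr_et (f296425 IH) (Lpn (LP (LK LD1_c15 LD2_c9 LD3_c37))))
theorem f28116 : Led Lsl_dt (LP (LK LD1_c1 LD2_c58 LD3_c58)) = (LP (LK LD1_c4 LD2_c3 LD3_c59)) :=
  Lre_d IH (LK LD1_c1 LD2_c58 LD3_c58) (LK LD1_c4 LD2_c3 LD3_c59) Lrfl Lrfl
theorem f28118 : Led Lsl_dt (LP (LK LD1_c8 LD2_c8 LD3_c2)) = (LP (LK LD1_c8 LD2_c8 LD3_c30)) :=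
  Lre_d IH (LK LD1_c8 LD2_c8 LD3_c2) (LK LD1_c8 LD2_c8 LD3_c30) Lrfl Lrfl
theorem f296433 : Led Lsl_gt (LP (LK LD1_c15 LD2_c16 LD3_c6)) = (LP (LK LD1_c8 LD2_c8 LD3_c2)) :=
  Lgr Lrot137 (Lpr_ef (f296431 IH) (Lpr_dt (f28036 IH) (Lpe (f28109 IH) (Lpr_df (f27980 IH) (Lpr_et (K10.f28104 IH) (Lpe (K11.f28114 IH) (Lpe (K15.f28115 IH) (Lpr_dt (f28116 IH) (Lpe (K18.f28117 IH) (Lpe (f28118 IH) (Lpn (LP (LK LD1_c8 LD2_c8 LD3_c2)))))))))))))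
theorem f296435 : Led Lsl_et (LP (LK LD1_c4 LD2_c3 LD3_c48)) = (LP (LK LD1_c8 LD2_c8 LD3_c2)) :=
  Lre_e IH (LK LD1_c4 LD2_c3 LD3_c48) (LK LD1_c8 LD2_c8 LD3_c2) Lrfl Lrfl
theorem f291162 : Led Lsl_dt (LP (LK LD1_c4 LD2_c3 LD3_c48)) = (LP (LK LD1_c8 LD2_c8 LD3_c1)) :=
  Lre_d IH (LK LD1_c4 LD2_c3 LD3_c48) (LK LD1_c8 LD2_c8 LD3_c1) Lrfl Lrfl
theorem f310512 : Led Lsl_gt (LP (LK LD1_c8 LD2_c8 LD3_c1)) = (LP (LK LD1_c8 LD2_c34 LD3_c36)) :=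
  Lgr Lrot112 (Lpe (f291162 IH) (Lpr_et (f296435 IH) (Lpe (f296433 IH) (Lpr_ef (f296431 IH) (Lpr_dt (f28036 IH) (Lpe (f28109 IH) (Lpr_df (f27980 IH) (Lpe (f28108 IH) (Lpe (f28113 IH) (Lpr_dt (f310506 IH) (Lpn (LP (LK LD1_c8 LD2_c34 LD3_c36)))))))))))))
theorem f229903 : Led Lsl_dt (LP (LK LD1_c8 LD2_c8 LD3_c1)) = (LP (LK LD1_c4 LD2_c3 LD3_c48)) :=
  Lre_d IH (LK LD1_c8 LD2_c8 LD3_c1) (LK LD1_c4 LD2_c3 LD3_c48) Lrfl Lrfl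
theorem f192409 : Led Lsl_ct (LP (LK LD1_c9 LD2_c33 LD3_c54)) = (LP (LK LD1_c4 LD2_c50 LD3_c55)) :=
  Lre_c IH (LK LD1_c9 LD2_c33 LD3_c54) (LK LD1_c4 LD2_c50 LD3_c55) Lrfl Lrfl
theorem f256689 : Led Lsl_ft (LP (LK LD1_c8 LD2_c36 LD3_c52)) = (LP (LK LD1_c4 LD2_c19 LD3_c12)) :=
  Lre_f IH (LK LD1_c8 LD2_c36 LD3_c52) (LK LD1_c4 LD2_c19 LD3_c12) Lrfl Lrfl
theorem f226870 : Led Lsl_ct (LP (LK LD1_c1 LD2_c58 LD3_c52)) = (LP (LK LD1_c4 LD2_c3 LD3_c47)) :=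
  Lre_c IH (LK LD1_c1 LD2_c58 LD3_c52) (LK LD1_c4 LD2_c3 LD3_c47) Lrfl Lrfl
theorem f269410 : Led Lsl_at (LP (LK LD1_c4 LD2_c19 LD3_c12)) = (LP (LK LD1_c4 LD2_c3 LD3_c47)) :=
  Lgr Lrot33 (Lpe (f256689 IH) (Lpr_dt (K16.f269402 IH) (Lpr_ct (K16.f269403 IH) (Lpr_dt (K16.f269404 IH) (Lpr_ct (K16.f236906 IH) (Lpr_dt (K16.f236901 IH) (Lpr_ct (K16.f227004 IH) (Lpr_dt (K17.f226869 IH) (Lpr_ct (f226870 IH) (Lpn (LP (LK LD1_c4 LD2_c3 LD3_c47))))))))))))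
theorem f269450 : Led Lsl_gt (LP (LK LD1_c8 LD2_c36 LD3_c52)) = (LP (LK LD1_c5 LD2_c39 LD3_c16)) :=
  Lgr Lrot5 (Lpr_ft (f256689 IH) (Lpr_at (f269410 IH) (Lpe (K18.f226991 IH) (Lpn (LP (LK LD1_c5 LD2_c39 LD3_c16))))))
theorem f310514 : Led Lsl_gt (LP (LK LD1_c4 LD2_c3 LD3_c48)) = (LP (LK LD1_c4 LD2_c19 LD3_c16)) :=
  Lgr Lrot9 (Lpe (f229903 IH) (Lpr_gt (f310512 IH) (Lpr_ct (f310471 IH) (Lpe (f310472 IH) (Lpr_ct (f192409 IH) (Lpe (K14.f216442 IH) (Lpe (K18.f216449 IH) (Lpe (f269450 IH) (Lpe (K16.f247376 IH) (Lpn (LP (LK LD1_c4 LD2_c19 LD3_c16))))))))))))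
theorem f269282 : Led Lsl_et (LP (LK LD1_c8 LD2_c8 LD3_c2)) = (LP (LK LD1_c4 LD2_c3 LD3_c48)) :=
  Lre_e IH (LK LD1_c8 LD2_c8 LD3_c2) (LK LD1_c4 LD2_c3 LD3_c48) Lrfl Lrfl
theorem f269276 : Led Lsl_dt (LP (LK LD1_c8 LD2_c2 LD3_c59)) = (LP (LK LD1_c15 LD2_c9 LD3_c20)) :=
  Lre_d IH (LK LD1_c8 LD2_c2 LD3_c59) (LK LD1_c15 LD2_c9 LD3_c20) Lrfl Lrfl
theorem f226861 : Led Lsl_gt (LP (LK LD1_c8 LD2_c8 LD3_c5)) = (LP (LK LD1_c4 LD2_c3 LD3_c50)) :=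
  Lre_g IH (LK LD1_c8 LD2_c8 LD3_c5) (LK LD1_c4 LD2_c3 LD3_c50) Lrfl Lrfl
theorem f269400 : Led Lsl_gt (LP (LK LD1_c8 LD2_c36 LD3_c59)) = (LP (LK LD1_c8 LD2_c8 LD3_c5)) :=
  Lgr Lrot5 (Lpr_ft (K16.f238713 IH) (Lpr_at (K16.f269382 IH) (Lpe (f226861 IH) (Lpn (LP (LK LD1_c8 LD2_c8 LD3_c5))))))
theorem f200393 : Led Lsl_gt (LP (LK LD1_c4 LD2_c1 LD3_c8)) = (LP (LK LD1_c8 LD2_c3 LD3_c0)) :=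
  Lre_g IH (LK LD1_c4 LD2_c1 LD3_c8) (LK LD1_c8 LD2_c3 LD3_c0) Lrfl Lrfl
theorem f200394 : Led Lsl_et (LP (LK LD1_c15 LD2_c9 LD3_c29)) = (LP (LK LD1_c8 LD2_c3 LD3_c0)) :=
  Lre_e IH (LK LD1_c15 LD2_c9 LD3_c29) (LK LD1_c8 LD2_c3 LD3_c0) Lrfl Lrfl
theorem f226862 : Led Lsl_df (LP (LK LD1_c8 LD2_c8 LD3_c5)) = (LP (LK LD1_c15 LD2_c9 LD3_c29)) :=
  Lgr Lrot170 (Lpr_gt (f226861 IH) (Lpe (K16.f226860 IH) (Lpr_et (K18.f226859 IH) (Lpr_gt (K12.f226780 IH) (Lpe (K12.f220320 IH) (Lpe (K12.f200389 IH) (Lpr_df (K15.f187916 IH) (Lpr_et (K15.f187918 IH) (Lpr_gt (f200393 IH) (Lpe (f200394 IH) (Lpn (LP (LK LD1_c15 LD2_c9 LD3_c29)))))))))))))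
theorem f310516 : Led Lsl_gf (LP (LK LD1_c4 LD2_c4 LD3_c6)) = (LP (LK LD1_c8 LD2_c3 LD3_c0)) :=
  Lgr Lrot141 (Lpr_ef (K17.f293158 IH) (Lpr_dt (f269276 IH) (Lpr_gt (K18.f269273 IH) (Lpe (f28118 IH) (Lpr_et (f269282 IH) (Lpr_gt (f310514 IH) (Lpr_dt (K16.f238659 IH) (Lpr_gt (f269400 IH) (Lpr_df (f226862 IH) (Lpr_et (f200394 IH) (Lpn (LP (LK LD1_c8 LD2_c3 LD3_c0)))))))))))))
theorem f187903 : Led Lsl_gt (LP (LK LD1_c8 LD2_c38 LD3_c5)) = (LP (LK LD1_c4 LD2_c20 LD3_c3)) :=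
  Lre_g IH (LK LD1_c8 LD2_c38 LD3_c5) (LK LD1_c4 LD2_c20 LD3_c3) Lrfl Lrfl
theorem f293314 : Led Lsl_gt (LP (LK LD1_c5 LD2_c5 LD3_c3)) = (LP (LK LD1_c8 LD2_c38 LD3_c5)) :=
  Lgr Lrot5 (Lpr_ft (K11.f211306 IH) (Lpr_at (K18.f293290 IH) (Lpe (f187903 IH) (Lpn (LP (LK LD1_c8 LD2_c38 LD3_c5))))))
theorem f256600 : Led Lsl_ef (LP (LK LD1_c8 LD2_c39 LD3_c14)) = (LP (LK LD1_c8 LD2_c7 LD3_c43)) :=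
  Lgr Lrot88 (Lpr_et (K15.f256598 IH) (Lpn (LP (LK LD1_c8 LD2_c7 LD3_c43))))
theorem f305490 : Led Lsl_ef (LP (LK LD1_c4 LD2_c3 LD3_c33)) = (LP (LK LD1_c4 LD2_c19 LD3_c16)) :=
  Lgr Lrot73 (Lpr_dt (K15.f198991 IH) (Lpe (f256600 IH) (Lpr_dt (f305472 IH) (Lpe (f269392 IH) (Lpr_dt (K14.f238712 IH) (Lpn (LP (LK LD1_c4 LD2_c19 LD3_c16))))))))
theorem f170726 : Led Lsl_gt (LP (LK LD1_c2 LD2_c24 LD3_c8)) = (LP (LK LD1_c4 LD2_c52 LD3_c48)) :=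
  Lre_g IH (LK LD1_c2 LD2_c24 LD3_c8) (LK LD1_c4 LD2_c52 LD3_c48) Lrfl Lrfl
theorem f256640 : Led Lsl_gt (LP (LK LD1_c4 LD2_c52 LD3_c48)) = (LP (LK LD1_c4 LD2_c3 LD3_c33)) :=
  Lgr Lrot46 (Lpe (f170726 IH) (Lpr_ft (K10.f170722 IH) (Lpr_at (K15.f256630 IH) (Lpn (LP (LK LD1_c4 LD2_c3 LD3_c33))))))
theorem f256646 : Led Lsl_et (LP (LK LD1_c9 LD2_c37 LD3_c39)) = (LP (LK LD1_c4 LD2_c52 LD3_c48)) :=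
  Lre_e IH (LK LD1_c9 LD2_c37 LD3_c39) (LK LD1_c4 LD2_c52 LD3_c48) Lrfl Lrfl
theorem f310518 : Led Lsl_df (LP (LK LD1_c8 LD2_c38 LD3_c5)) = (LP (LK LD1_c9 LD2_c37 LD3_c39)) :=
  Lgr Lrot132 (Lpe (f293314 IH) (Lpe (K11.f211307 IH) (Lpr_gf (f310516 IH) (Lpe (f200394 IH) (Lpe (f226862 IH) (Lpe (f269400 IH) (Lpe (K16.f238659 IH) (Lpe (f305490 IH) (Lpe (f256640 IH) (Lpe (f256646 IH) (Lpn (LP (LK LD1_c9 LD2_c37 LD3_c39)))))))))))))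
theorem f28014 : Led Lsl_et (LP (LK LD1_c4 LD2_c1 LD3_c8)) = (LP (LK LD1_c1 LD2_c57 LD3_c22)) :=
  Lre_e IH (LK LD1_c4 LD2_c1 LD3_c8) (LK LD1_c1 LD2_c57 LD3_c22) Lrfl Lrfl
theorem f51246 : Led Lsl_dt (LP (LK LD1_c4 LD2_c0 LD3_c61)) = (LP (LK LD1_c1 LD2_c57 LD3_c18)) :=
  Lre_d IH (LK LD1_c4 LD2_c0 LD3_c61) (LK LD1_c1 LD2_c57 LD3_c18) Lrfl Lrfl
theorem f253008 : Led Lsl_et (LP (LK LD1_c4 LD2_c0 LD3_c61)) = (LP (LK LD1_c8 LD2_c2 LD3_c47)) :=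
  Lre_e IH (LK LD1_c4 LD2_c0 LD3_c61) (LK LD1_c8 LD2_c2 LD3_c47) Lrfl Lrfl
theorem f310555 : Led Lsl_gt (LP (LK LD1_c8 LD2_c2 LD3_c47)) = (LP (LK LD1_c9 LD2_c37 LD3_c39)) :=
  Lgr Lrot137 (Lpe (f253008 IH) (Lpr_dt (f51246 IH) (Lpe (K10.f28174 IH) (Lpe (K10.f30998 IH) (Lpr_et (K10.f30877 IH) (Lpe (K10.f28152 IH) (Lpe (f28014 IH) (Lpe (K15.f187919 IH) (Lpe (f187903 IH) (Lpr_df (f310518 IH) (Lpn (LP (LK LD1_c9 LD2_c37 LD3_c39)))))))))))))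
theorem f42459 : Led Lsl_et (LP (LK LD1_c6 LD2_c5 LD3_c2)) = (LP (LK LD1_c2 LD2_c58 LD3_c42)) :=
  Lre_e IH (LK LD1_c6 LD2_c5 LD3_c2) (LK LD1_c2 LD2_c58 LD3_c42) Lrfl Lrfl
theorem f305506 : Led Lsl_et (LP (LK LD1_c4 LD2_c52 LD3_c48)) = (LP (LK LD1_c9 LD2_c37 LD3_c39)) :=
  Lre_e IH (LK LD1_c4 LD2_c52 LD3_c48) (LK LD1_c9 LD2_c37 LD3_c39) Lrfl Lrfl
theorem f170727 : Led Lsl_dt (LP (LK LD1_c4 LD2_c52 LD3_c48)) = (LP (LK LD1_c9 LD2_c37 LD3_c38)) :=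
  Lre_d IH (LK LD1_c4 LD2_c52 LD3_c48) (LK LD1_c9 LD2_c37 LD3_c38) Lrfl Lrfl
theorem f310557 : Led Lsl_gf (LP (LK LD1_c5 LD2_c20 LD3_c26)) = (LP (LK LD1_c9 LD2_c37 LD3_c38)) :=
  Lgr Lrot145 (Lpr_df (K15.f42445 IH) (Lpr_et (f42459 IH) (Lpe (K15.f194757 IH) (Lpr_dt (K10.f30998 IH) (Lpr_gt (K10.f28174 IH) (Lpe (f51246 IH) (Lpr_et (f253008 IH) (Lpr_gt (f310555 IH) (Lpe (f305506 IH) (Lpr_dt (f170727 IH) (Lpn (LP (LK LD1_c9 LD2_c37 LD3_c38)))))))))))))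
theorem f187949 : Led Lsl_dt (LP (LK LD1_c9 LD2_c37 LD3_c38)) = (LP (LK LD1_c4 LD2_c52 LD3_c48)) :=
  Lre_d IH (LK LD1_c9 LD2_c37 LD3_c38) (LK LD1_c4 LD2_c52 LD3_c48) Lrfl Lrfl
theorem f194741 : Led Lsl_ct (LP (LK LD1_c10 LD2_c35 LD3_c21)) = (LP (LK LD1_c19 LD2_c10 LD3_c48)) :=
  Lre_c IH (LK LD1_c10 LD2_c35 LD3_c21) (LK LD1_c19 LD2_c10 LD3_c48) Lrfl Lrfl
theorem f279525 : Led Lsl_et (LP (LK LD1_c8 LD2_c41 LD3_c23)) = (LP (LK LD1_c10 LD2_c35 LD3_c21)) :=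
  Lgr Lrot158 (Lpe (K18.f43135 IH) (Lpr_ef (K17.f279465 IH) (Lpe (f194741 IH) (Lpn (LP (LK LD1_c10 LD2_c35 LD3_c21))))))
theorem f305502 : Led Lsl_gf (LP (LK LD1_c9 LD2_c37 LD3_c38)) = (LP (LK LD1_c10 LD2_c35 LD3_c21)) :=
  Lgr Lrot138 (Lpr_dt (f187949 IH) (Lpr_gt (f256640 IH) (Lpe (K12.f198973 IH) (Lpe (f256600 IH) (Lpr_gt (f305496 IH) (Lpe (K14.f255583 IH) (Lpe (K14.f255584 IH) (Lpe (f279514 IH) (Lpr_df (K17.f43128 IH) (Lpr_et (f279525 IH) (Lpn (LP (LK LD1_c10 LD2_c35 LD3_c21)))))))))))))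
theorem f310559 : Led Lsl_af (LP (LK LD1_c5 LD2_c20 LD3_c26)) = (LP (LK LD1_c5 LD2_c22 LD3_c29)) :=
  Lgr Lrot31 (Lpr_gf (f310557 IH) (Lpr_gf (f305502 IH) (Lpr_ft (K10.f194737 IH) (Lpn (LP (LK LD1_c5 LD2_c22 LD3_c29))))))
theorem f42449 : Led Lsl_ct (LP (LK LD1_c5 LD2_c20 LD3_c26)) = (LP (LK LD1_c10 LD2_c30 LD3_c54)) :=
  Lre_c IH (LK LD1_c5 LD2_c20 LD3_c26) (LK LD1_c10 LD2_c30 LD3_c54) Lrfl Lrfl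
theorem f194746 : Led Lsl_ct (LP (LK LD1_c10 LD2_c35 LD3_c20)) = (LP (LK LD1_c5 LD2_c22 LD3_c29)) :=
  Lre_c IH (LK LD1_c10 LD2_c35 LD3_c20) (LK LD1_c5 LD2_c22 LD3_c29) Lrfl Lrfl
theorem f310561 : Led Lsl_at (LP (LK LD1_c10 LD2_c30 LD3_c54)) = (LP (LK LD1_c10 LD2_c35 LD3_c20)) :=
  Lgr Lrot107 (Lpe (f42449 IH) (Lpr_af (f310559 IH) (Lpe (f194746 IH) (Lpn (LP (LK LD1_c10 LD2_c35 LD3_c20))))))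
theorem f235647 : Led Lsl_et (LP (LK LD1_c5 LD2_c20 LD3_c25)) = (LP (LK LD1_c10 LD2_c30 LD3_c54)) :=
  Lre_e IH (LK LD1_c5 LD2_c20 LD3_c25) (LK LD1_c10 LD2_c30 LD3_c54) Lrfl Lrfl
theorem f310658 : Led Lsl_af (LP (LK LD1_c5 LD2_c20 LD3_c25)) = (LP (LK LD1_c5 LD2_c22 LD3_c28)) :=
  Lgr Lrot50 (Lpr_et (f235647 IH) (Lpr_at (f310561 IH) (Lpr_et (K18.f199529 IH) (Lpn (LP (LK LD1_c5 LD2_c22 LD3_c28))))))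
theorem f212641 : Led Lsl_ct (LP (LK LD1_c8 LD2_c39 LD3_c32)) = (LP (LK LD1_c9 LD2_c0 LD3_c30)) :=
  Lgr Lrot59 (Lpr_cf (K12.f212636 IH) (Lpn (LP (LK LD1_c9 LD2_c0 LD3_c30))))
theorem f212939 : Led Lsl_dt (LP (LK LD1_c9 LD2_c51 LD3_c30)) = (LP (LK LD1_c5 LD2_c0 LD3_c37)) :=
  Lre_d IH (LK LD1_c9 LD2_c51 LD3_c30) (LK LD1_c5 LD2_c0 LD3_c37) Lrfl Lrfl
theorem f279614 : Led Lsl_gf (LP (LK LD1_c9 LD2_c51 LD3_c30)) = (LP (LK LD1_c5 LD2_c35 LD3_c26)) :=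
  Lgr Lrot144 (Lpr_dt (f212939 IH) (Lpr_gt (K17.f212937 IH) (Lpr_dt (K12.f212635 IH) (Lpe (f212641 IH) (Lpe (K14.f31424 IH) (Lpr_gf (K13.f235208 IH) (Lpe (f168968 IH) (Lpr_gf (f279610 IH) (Lpe (f279540 IH) (Lpn (LP (LK LD1_c5 LD2_c35 LD3_c26))))))))))))
theorem f279542 : Led Lsl_cf (LP (LK LD1_c5 LD2_c35 LD3_c26)) = (LP (LK LD1_c5 LD2_c35 LD3_c42)) :=
  Lgr Lrot14 (Lpe (f189390 IH) (Lpr_gf (K18.f279538 IH) (Lpe (K12.f212991 IH) (Lpe (K12.f54202 IH) (Lpr_ct (K16.f277933 IH) (Lpe (K16.f277982 IH) (Lpe (K16.f199353 IH) (Lpr_gt (K16.f199530 IH) (Lpr_dt (f177950 IH) (Lpn (LP (LK LD1_c5 LD2_c35 LD3_c42))))))))))))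
theorem f167848 : Led Lsl_dt (LP (LK LD1_c5 LD2_c24 LD3_c31)) = (LP (LK LD1_c2 LD2_c38 LD3_c49)) :=
  Lre_d IH (LK LD1_c5 LD2_c24 LD3_c31) (LK LD1_c2 LD2_c38 LD3_c49) Lrfl Lrfl
theorem f279623 : Led Lsl_ct (LP (LK LD1_c9 LD2_c51 LD3_c30)) = (LP (LK LD1_c5 LD2_c24 LD3_c31)) :=
  Lgr Lrot110 (Lpr_gf (f279614 IH) (Lpr_cf (f279542 IH) (Lpe (f279612 IH) (Lpe (f218269 IH) (Lpe (K13.f235259 IH) (Lpe (K13.f235544 IH) (Lpr_gt (K13.f235571 IH) (Lpr_ct (K12.f194427 IH) (Lpe (f167848 IH) (Lpn (LP (LK LD1_c5 LD2_c24 LD3_c31))))))))))))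
theorem f54211 : Led Lsl_dt (LP (LK LD1_c5 LD2_c0 LD3_c37)) = (LP (LK LD1_c9 LD2_c51 LD3_c30)) :=
  Lre_d IH (LK LD1_c5 LD2_c0 LD3_c37) (LK LD1_c9 LD2_c51 LD3_c30) Lrfl Lrfl
theorem f53690 : Led Lsl_gt (LP (LK LD1_c9 LD2_c51 LD3_c40)) = (LP (LK LD1_c5 LD2_c0 LD3_c40)) :=
  Lre_g IH (LK LD1_c9 LD2_c51 LD3_c40) (LK LD1_c5 LD2_c0 LD3_c40) Lrfl Lrfl
theorem f194428 : Led Lsl_dt (LP (LK LD1_c2 LD2_c38 LD3_c49)) = (LP (LK LD1_c5 LD2_c24 LD3_c31)) :=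
  Lre_d IH (LK LD1_c2 LD2_c38 LD3_c49) (LK LD1_c5 LD2_c24 LD3_c31) Lrfl Lrfl
theorem f279636 : Led Lsl_cf (LP (LK LD1_c9 LD2_c51 LD3_c40)) = (LP (LK LD1_c9 LD2_c51 LD3_c50)) :=
  Lgr Lrot166 (Lpr_gt (f53690 IH) (Lpr_dt (K12.f53668 IH) (Lpr_gt (K16.f54209 IH) (Lpr_dt (f54211 IH) (Lpr_ct (f279623 IH) (Lpe (f194428 IH) (Lpe (K12.f212996 IH) (Lpe (K12.f199517 IH) (Lpe (K12.f212960 IH) (Lpn (LP (LK LD1_c9 LD2_c51 LD3_c50))))))))))))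
theorem f279640 : Led Lsl_ct (LP (LK LD1_c9 LD2_c51 LD3_c40)) = (LP (LK LD1_c9 LD2_c51 LD3_c50)) :=
  Lgr Lrot59 (Lpr_cf (f279636 IH) (Lpn (LP (LK LD1_c9 LD2_c51 LD3_c50))))
theorem f310667 : Led Lsl_df (LP (LK LD1_c9 LD2_c51 LD3_c40)) = (LP (LK LD1_c5 LD2_c23 LD3_c24)) :=
  Lgr Lrot157 (Lpr_ct (f279640 IH) (Lpr_dt (K12.f212991 IH) (Lpr_ct (K12.f172011 IH) (Lpr_dt (K16.f172010 IH) (Lpr_ct (K12.f172003 IH) (Lpr_dt (K12.f42473 IH) (Lpr_ct (K12.f172012 IH) (Lpr_af (f310658 IH) (Lpe (K17.f235634 IH) (Lpn (LP (LK LD1_c5 LD2_c23 LD3_c24))))))))))))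
theorem f212541 : Led Lsl_ct (LP (LK LD1_c2 LD2_c12 LD3_c39)) = (LP (LK LD1_c4 LD2_c31 LD3_c21)) :=
  Lre_c IH (LK LD1_c2 LD2_c12 LD3_c39) (LK LD1_c4 LD2_c31 LD3_c21) Lrfl Lrfl
theorem f310681 : Led Lsl_gt (LP (LK LD1_c4 LD2_c31 LD3_c21)) = (LP (LK LD1_c5 LD2_c23 LD3_c24)) :=
  Lgr Lrot94 (Lpe (f212541 IH) (Lpr_gt (K15.f177914 IH) (Lpr_dt (K12.f177911 IH) (Lpe (K12.f212506 IH) (Lpr_dt (K12.f33318 IH) (Lpe (K13.f53667 IH) (Lpe (K12.f53668 IH) (Lpe (f53690 IH) (Lpr_df (f310667 IH) (Lpn (LP (LK LD1_c5 LD2_c23 LD3_c24))))))))))))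
theorem f310708 : Led Lsl_bf (LP (LK LD1_c2 LD2_c36 LD3_c56)) = (LP (LK LD1_c2 LD2_c38 LD3_c10)) :=
  Lgr Lrot165 (Lpe (K14.f246386 IH) (Lpr_ct (K14.f246391 IH) (Lpr_gt (K14.f216306 IH) (Lpe (K15.f217460 IH) (Lpr_bt (K16.f238192 IH) (Lpe (K15.f238190 IH) (Lpe (K15.f238072 IH) (Lpr_ct (f212541 IH) (Lpr_gt (f310681 IH) (Lpe (K17.f235633 IH) (Lpn (LP (LK LD1_c2 LD2_c38 LD3_c10)))))))))))))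
theorem f310719 : Led Lsl_ft (LP (LK LD1_c2 LD2_c36 LD3_c56)) = (LP (LK LD1_c1 LD2_c15 LD3_c55)) :=
  Lgr Lrot75 (Lpr_bf (f310708 IH) (Lpr_ff (K13.f235630 IH) (Lpe (K13.f196722 IH) (Lpn (LP (LK LD1_c1 LD2_c15 LD3_c55))))))
theorem f310731 : Led Lsl_af (LP (LK LD1_c1 LD2_c15 LD3_c51)) = (LP (LK LD1_c1 LD2_c15 LD3_c55)) :=
  Lgr Lrot31 (Lpe (K13.f171895 IH) (Lpr_gf (K14.f246386 IH) (Lpr_ft (f310719 IH) (Lpn (LP (LK LD1_c1 LD2_c15 LD3_c55))))))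
theorem f182179 : Led Lsl_et (LP (LK LD1_c1 LD2_c15 LD3_c51)) = (LP (LK LD1_c2 LD2_c37 LD3_c42)) :=
  Lre_e IH (LK LD1_c1 LD2_c15 LD3_c51) (LK LD1_c2 LD2_c37 LD3_c42) Lrfl Lrfl
theorem f196646 : Led Lsl_et (LP (LK LD1_c2 LD2_c37 LD3_c52)) = (LP (LK LD1_c1 LD2_c15 LD3_c55)) :=
  Lre_e IH (LK LD1_c2 LD2_c37 LD3_c52) (LK LD1_c1 LD2_c15 LD3_c55) Lrfl Lrfl
theorem f310739 : Led Lsl_at (LP (LK LD1_c2 LD2_c37 LD3_c42)) = (LP (LK LD1_c2 LD2_c37 LD3_c52)) :=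
  Lgr Lrot80 (Lpe (f182179 IH) (Lpr_af (f310731 IH) (Lpe (f196646 IH) (Lpn (LP (LK LD1_c2 LD2_c37 LD3_c52))))))
theorem f182851 : Led Lsl_ft (LP (LK LD1_c5 LD2_c22 LD3_c25)) = (LP (LK LD1_c2 LD2_c37 LD3_c42)) :=
  Lre_f IH (LK LD1_c5 LD2_c22 LD3_c25) (LK LD1_c2 LD2_c37 LD3_c42) Lrfl Lrfl
theorem f182848 : Led Lsl_dt (LP (LK LD1_c5 LD2_c22 LD3_c25)) = (LP (LK LD1_c10 LD2_c35 LD3_c15)) :=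
  Lre_d IH (LK LD1_c5 LD2_c22 LD3_c25) (LK LD1_c10 LD2_c35 LD3_c15) Lrfl Lrfl
theorem f182156 : Led Lsl_et (LP (LK LD1_c5 LD2_c22 LD3_c24)) = (LP (LK LD1_c2 LD2_c37 LD3_c44)) :=
  Lre_e IH (LK LD1_c5 LD2_c22 LD3_c24) (LK LD1_c2 LD2_c37 LD3_c44) Lrfl Lrfl
theorem f182579 : Led Lsl_et (LP (LK LD1_c4 LD2_c6 LD3_c39)) = (LP (LK LD1_c8 LD2_c13 LD3_c54)) :=
  Lre_e IH (LK LD1_c4 LD2_c6 LD3_c39) (LK LD1_c8 LD2_c13 LD3_c54) Lrfl Lrfl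
theorem f182580 : Led Lsl_cf (LP (LK LD1_c5 LD2_c22 LD3_c24)) = (LP (LK LD1_c8 LD2_c13 LD3_c54)) :=
  Lgr Lrot39 (Lpr_et (f182156 IH) (Lpr_ct (K9.f182571 IH) (Lpr_et (f182579 IH) (Lpn (LP (LK LD1_c8 LD2_c13 LD3_c54))))))
theorem f182827 : Led Lsl_ft (LP (LK LD1_c15 LD2_c29 LD3_c7)) = (LP (LK LD1_c8 LD2_c13 LD3_c54)) :=
  Lre_f IH (LK LD1_c15 LD2_c29 LD3_c7) (LK LD1_c8 LD2_c13 LD3_c54) Lrfl Lrfl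
theorem f182828 : Led Lsl_ct (LP (LK LD1_c10 LD2_c35 LD3_c15)) = (LP (LK LD1_c15 LD2_c29 LD3_c7)) :=
  Lgr Lrot40 (Lpe (K17.f182826 IH) (Lpr_cf (f182580 IH) (Lpe (f182827 IH) (Lpn (LP (LK LD1_c15 LD2_c29 LD3_c7))))))
theorem f182850 : Led Lsl_dt (LP (LK LD1_c15 LD2_c29 LD3_c7)) = (LP (LK LD1_c25 LD2_c21 LD3_c49)) :=
  Lre_d IH (LK LD1_c15 LD2_c29 LD3_c7) (LK LD1_c25 LD2_c21 LD3_c49) Lrfl Lrfl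
theorem f231335 : Led Lsl_ct (LP (LK LD1_c5 LD2_c22 LD3_c37)) = (LP (LK LD1_c2 LD2_c37 LD3_c52)) :=
  Lre_c IH (LK LD1_c5 LD2_c22 LD3_c37) (LK LD1_c2 LD2_c37 LD3_c52) Lrfl Lrfl
theorem f196731 : Led Lsl_dt (LP (LK LD1_c10 LD2_c35 LD3_c35)) = (LP (LK LD1_c5 LD2_c22 LD3_c37)) :=
  Lre_d IH (LK LD1_c10 LD2_c35 LD3_c35) (LK LD1_c5 LD2_c22 LD3_c37) Lrfl Lrfl
theorem f310752 : Led Lsl_ct (LP (LK LD1_c19 LD2_c11 LD3_c4)) = (LP (LK LD1_c10 LD2_c35 LD3_c35)) :=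
  Lre_c IH (LK LD1_c19 LD2_c11 LD3_c4) (LK LD1_c10 LD2_c35 LD3_c35) Lrfl Lrfl
theorem f310753 : Led Lsl_dt (LP (LK LD1_c28 LD2_c36 LD3_c55)) = (LP (LK LD1_c19 LD2_c11 LD3_c4)) :=
  Lre_d IH (LK LD1_c28 LD2_c36 LD3_c55) (LK LD1_c19 LD2_c11 LD3_c4) Lrfl Lrfl
theorem f310754 : Led Lsl_ct (LP (LK LD1_c25 LD2_c21 LD3_c49)) = (LP (LK LD1_c28 LD2_c36 LD3_c55)) :=
  Lgr Lrot41 (Lpe (f182850 IH) (Lpe (f182828 IH) (Lpe (f182848 IH) (Lpr_ft (f182851 IH) (Lpr_at (f310739 IH) (Lpe (f231335 IH) (Lpe (f196731 IH) (Lpe (f310752 IH) (Lpe (f310753 IH) (Lpn (LP (LK LD1_c28 LD2_c36 LD3_c55))))))))))))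
theorem f194705 : Led Lsl_dt (LP (LK LD1_c2 LD2_c37 LD3_c52)) = (LP (LK LD1_c5 LD2_c22 LD3_c40)) :=
  Lre_d IH (LK LD1_c2 LD2_c37 LD3_c52) (LK LD1_c5 LD2_c22 LD3_c40) Lrfl Lrfl
theorem f194716 : Led Lsl_ct (LP (LK LD1_c5 LD2_c22 LD3_c40)) = (LP (LK LD1_c10 LD2_c35 LD3_c42)) :=
  Lre_c IH (LK LD1_c5 LD2_c22 LD3_c40) (LK LD1_c10 LD2_c35 LD3_c42) Lrfl Lrfl
theorem f310763 : Led Lsl_at (LP (LK LD1_c8 LD2_c13 LD3_c54)) = (LP (LK LD1_c10 LD2_c35 LD3_c42)) :=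
  Lgr Lrot33 (Lpe (f182827 IH) (Lpr_dt (f182850 IH) (Lpr_ct (f310754 IH) (Lpr_dt (f310753 IH) (Lpr_ct (f310752 IH) (Lpr_dt (f196731 IH) (Lpr_ct (f231335 IH) (Lpr_dt (f194705 IH) (Lpr_ct (f194716 IH) (Lpn (LP (LK LD1_c10 LD2_c35 LD3_c42))))))))))))
theorem f310773 : Led Lsl_af (LP (LK LD1_c15 LD2_c29 LD3_c7)) = (LP (LK LD1_c19 LD2_c11 LD3_c13)) :=
  Lgr Lrot45 (Lpr_ft (f182827 IH) (Lpr_at (f310763 IH) (Lpr_ft (K17.f283651 IH) (Lpn (LP (LK LD1_c19 LD2_c11 LD3_c13))))))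
theorem f182846 : Led Lsl_cf (LP (LK LD1_c10 LD2_c35 LD3_c15)) = (LP (LK LD1_c15 LD2_c29 LD3_c7)) :=
  Lgr Lrot11 (Lpr_ct (f182828 IH) (Lpn (LP (LK LD1_c15 LD2_c29 LD3_c7))))
theorem f310775 : Led Lsl_at (LP (LK LD1_c10 LD2_c35 LD3_c15)) = (LP (LK LD1_c10 LD2_c35 LD3_c43)) :=
  Lgr Lrot107 (Lpr_cf (f182846 IH) (Lpr_af (f310773 IH) (Lpe (K17.f194723 IH) (Lpn (LP (LK LD1_c10 LD2_c35 LD3_c43))))))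
theorem f182831 : Led Lsl_gt (LP (LK LD1_c5 LD2_c22 LD3_c24)) = (LP (LK LD1_c10 LD2_c35 LD3_c13)) :=
  Lre_g IH (LK LD1_c5 LD2_c22 LD3_c24) (LK LD1_c10 LD2_c35 LD3_c13) Lrfl Lrfl
theorem f310794 : Led Lsl_gt (LP (LK LD1_c10 LD2_c35 LD3_c13)) = (LP (LK LD1_c10 LD2_c35 LD3_c43)) :=
  Lgr Lrot46 (Lpe (f182831 IH) (Lpr_ft (K17.f182826 IH) (Lpr_at (f310775 IH) (Lpn (LP (LK LD1_c10 LD2_c35 LD3_c43))))))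
theorem f284533 : Led Lsl_at (LP (LK LD1_c15 LD2_c32 LD3_c4)) = (LP (LK LD1_c15 LD2_c41 LD3_c61)) :=
  Lgr Lrot51 (Lpr_df (K13.f231317 IH) (Lpr_af (K18.f284529 IH) (Lpe (K17.f170816 IH) (Lpn (LP (LK LD1_c15 LD2_c41 LD3_c61))))))
theorem f231320 : Led Lsl_gt (LP (LK LD1_c8 LD2_c15 LD3_c43)) = (LP (LK LD1_c15 LD2_c32 LD3_c3)) :=
  Lre_g IH (LK LD1_c8 LD2_c15 LD3_c43) (LK LD1_c15 LD2_c32 LD3_c3) Lrfl Lrfl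
theorem f284541 : Led Lsl_gt (LP (LK LD1_c15 LD2_c32 LD3_c3)) = (LP (LK LD1_c15 LD2_c41 LD3_c61)) :=
  Lgr Lrot46 (Lpe (f231320 IH) (Lpr_ft (K17.f231319 IH) (Lpr_at (f284533 IH) (Lpn (LP (LK LD1_c15 LD2_c41 LD3_c61))))))
theorem f237154 : Led Lsl_at (LP (LK LD1_c4 LD2_c3 LD3_c41)) = (LP (LK LD1_c8 LD2_c7 LD3_c46)) :=
  Lre_a IH (LK LD1_c4 LD2_c3 LD3_c41) (LK LD1_c8 LD2_c7 LD3_c46) Lrfl Lrfl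
theorem f274532 : Led Lsl_gf (LP (LK LD1_c10 LD2_c0 LD3_c55)) = (LP (LK LD1_c8 LD2_c7 LD3_c55)) :=
  Lgr Lrot47 (Lpr_gt (K16.f274530 IH) (Lpe (f237154 IH) (Lpe (K15.f237153 IH) (Lpn (LP (LK LD1_c8 LD2_c7 LD3_c55))))))
theorem f284543 : Led Lsl_df (LP (LK LD1_c15 LD2_c32 LD3_c3)) = (LP (LK LD1_c10 LD2_c35 LD3_c13)) :=
  Lgr Lrot135 (Lpr_gt (f284541 IH) (Lpe (K10.f170738 IH) (Lpr_et (K15.f256752 IH) (Lpe (f274532 IH) (Lpe (K16.f271248 IH) (Lpe (K16.f264910 IH) (Lpr_gt (K13.f171995 IH) (Lpe (K9.f171994 IH) (Lpr_et (K17.f182912 IH) (Lpr_gt (f182831 IH) (Lpn (LP (LK LD1_c10 LD2_c35 LD3_c13)))))))))))))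
theorem f284546 : Led Lsl_dt (LP (LK LD1_c15 LD2_c32 LD3_c3)) = (LP (LK LD1_c10 LD2_c35 LD3_c13)) :=
  Lgr Lrot42 (Lpr_df (f284543 IH) (Lpn (LP (LK LD1_c10 LD2_c35 LD3_c13))))
theorem f194739 : Led Lsl_dt (LP (LK LD1_c5 LD2_c22 LD3_c41)) = (LP (LK LD1_c10 LD2_c35 LD3_c43)) :=
  Lre_d IH (LK LD1_c5 LD2_c22 LD3_c41) (LK LD1_c10 LD2_c35 LD3_c43) Lrfl Lrfl
theorem f246395 : Led Lsl_et (LP (LK LD1_c5 LD2_c20 LD3_c36)) = (LP (LK LD1_c2 LD2_c36 LD3_c56)) :=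
  Lre_e IH (LK LD1_c5 LD2_c20 LD3_c36) (LK LD1_c2 LD2_c36 LD3_c56) Lrfl Lrfl
theorem f310725 : Led Lsl_ft (LP (LK LD1_c10 LD2_c31 LD3_c13)) = (LP (LK LD1_c5 LD2_c20 LD3_c36)) :=
  Lre_f IH (LK LD1_c10 LD2_c31 LD3_c13) (LK LD1_c5 LD2_c20 LD3_c36) Lrfl Lrfl
theorem f196612 : Led Lsl_et (LP (LK LD1_c1 LD2_c15 LD3_c55)) = (LP (LK LD1_c2 LD2_c37 LD3_c52)) :=
  Lre_e IH (LK LD1_c1 LD2_c15 LD3_c55) (LK LD1_c2 LD2_c37 LD3_c52) Lrfl Lrfl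
theorem f310726 : Led Lsl_ft (LP (LK LD1_c2 LD2_c37 LD3_c52)) = (LP (LK LD1_c5 LD2_c22 LD3_c41)) :=
  Lre_f IH (LK LD1_c2 LD2_c37 LD3_c52) (LK LD1_c5 LD2_c22 LD3_c41) Lrfl Lrfl
theorem f310727 : Led Lsl_ef (LP (LK LD1_c10 LD2_c31 LD3_c13)) = (LP (LK LD1_c5 LD2_c22 LD3_c41)) :=
  Lgr Lrot21 (Lpr_ft (f310725 IH) (Lpr_et (f246395 IH) (Lpr_ft (f310719 IH) (Lpr_et (f196612 IH) (Lpr_ft (f310726 IH) (Lpn (LP (LK LD1_c5 LD2_c22 LD3_c41))))))))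
theorem f310796 : Led Lsl_gf (LP (LK LD1_c5 LD2_c23 LD3_c36)) = (LP (LK LD1_c10 LD2_c31 LD3_c13)) :=
  Lgr Lrot141 (Lpe (K17.f265791 IH) (Lpr_dt (K15.f265781 IH) (Lpr_gt (K14.f231301 IH) (Lpe (K14.f231292 IH) (Lpr_et (K12.f231294 IH) (Lpr_gt (f231320 IH) (Lpr_dt (f284546 IH) (Lpr_gt (f310794 IH) (Lpe (f194739 IH) (Lpe (f310727 IH) (Lpn (LP (LK LD1_c10 LD2_c31 LD3_c13)))))))))))))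
theorem f219600 : Led Lsl_et (LP (LK LD1_c2 LD2_c1 LD3_c51)) = (LP (LK LD1_c4 LD2_c8 LD3_c60)) :=
  Lre_e IH (LK LD1_c2 LD2_c1 LD3_c51) (LK LD1_c4 LD2_c8 LD3_c60) Lrfl Lrfl
theorem f219773 : Led Lsl_gt (LP (LK LD1_c4 LD2_c8 LD3_c60)) = (LP (LK LD1_c8 LD2_c18 LD3_c2)) :=
  Lre_g IH (LK LD1_c4 LD2_c8 LD3_c60) (LK LD1_c8 LD2_c18 LD3_c2) Lrfl Lrfl
theorem f219694 : Led Lsl_et (LP (LK LD1_c15 LD2_c36 LD3_c40)) = (LP (LK LD1_c8 LD2_c18 LD3_c2)) :=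
  Lre_e IH (LK LD1_c15 LD2_c36 LD3_c40) (LK LD1_c8 LD2_c18 LD3_c2) Lrfl Lrfl
theorem f310802 : Led Lsl_dt (LP (LK LD1_c15 LD2_c36 LD3_c40)) = (LP (LK LD1_c10 LD2_c31 LD3_c13)) :=
  Lgr Lrot136 (Lpr_et (f219694 IH) (Lpe (f219773 IH) (Lpe (f219600 IH) (Lpr_dt (K15.f219590 IH) (Lpe (K12.f190827 IH) (Lpe (K15.f219293 IH) (Lpe (K12.f219761 IH) (Lpe (K17.f219476 IH) (Lpr_dt (K17.f265810 IH) (Lpr_gf (f310796 IH) (Lpn (LP (LK LD1_c10 LD2_c31 LD3_c13)))))))))))))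
theorem f310804 : Led Lsl_df (LP (LK LD1_c15 LD2_c36 LD3_c40)) = (LP (LK LD1_c10 LD2_c31 LD3_c13)) :=
  Lgr Lrot38 (Lpr_dt (f310802 IH) (Lpn (LP (LK LD1_c10 LD2_c31 LD3_c13))))
theorem f310811 : Led Lsl_ft (LP (LK LD1_c5 LD2_c20 LD3_c36)) = (LP (LK LD1_c10 LD2_c31 LD3_c13)) :=
  Lre_f IH (LK LD1_c5 LD2_c20 LD3_c36) (LK LD1_c10 LD2_c31 LD3_c13) Lrfl Lrfl
theorem f251042 : Led Lsl_et (LP (LK LD1_c4 LD2_c21 LD3_c38)) = (LP (LK LD1_c8 LD2_c40 LD3_c52)) :=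
  Lre_e IH (LK LD1_c4 LD2_c21 LD3_c38) (LK LD1_c8 LD2_c40 LD3_c52) Lrfl Lrfl
theorem f251043 : Led Lsl_dt (LP (LK LD1_c8 LD2_c40 LD3_c52)) = (LP (LK LD1_c5 LD2_c20 LD3_c36)) :=
  Lgr Lrot77 (Lpe (f251042 IH) (Lpr_df (K14.f251038 IH) (Lpe (K14.f246388 IH) (Lpe (K12.f169263 IH) (Lpe (f246395 IH) (Lpn (LP (LK LD1_c5 LD2_c20 LD3_c36))))))))
theorem f310812 : Led Lsl_ft (LP (LK LD1_c15 LD2_c36 LD3_c40)) = (LP (LK LD1_c8 LD2_c40 LD3_c52)) :=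
  Lgr Lrot54 (Lpr_df (f310804 IH) (Lpe (f310811 IH) (Lpe (f251043 IH) (Lpn (LP (LK LD1_c8 LD2_c40 LD3_c52))))))
theorem f310816 : Led Lsl_ff (LP (LK LD1_c15 LD2_c36 LD3_c40)) = (LP (LK LD1_c8 LD2_c40 LD3_c52)) :=
  Lgr Lrot3 (Lpr_ft (f310812 IH) (Lpn (LP (LK LD1_c8 LD2_c40 LD3_c52))))
theorem f310820 : Led Lsl_dt (LP (LK LD1_c5 LD2_c20 LD3_c36)) = (LP (LK LD1_c8 LD2_c40 LD3_c52)) :=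
  Lgr Lrot60 (Lpe (f310725 IH) (Lpe (f310802 IH) (Lpr_ff (f310816 IH) (Lpn (LP (LK LD1_c8 LD2_c40 LD3_c52))))))
theorem f308839 : Led Lsl_bf (LP (LK LD1_c9 LD2_c34 LD3_c10)) = (LP (LK LD1_c8 LD2_c40 LD3_c52)) :=
  Lgr Lrot96 (Lpr_et (f186909 IH) (Lpr_bt (f308835 IH) (Lpr_et (f251042 IH) (Lpn (LP (LK LD1_c8 LD2_c40 LD3_c52))))))
theorem f255788 : Led Lsl_ct (LP (LK LD1_c10 LD2_c37 LD3_c21)) = (LP (LK LD1_c5 LD2_c23 LD3_c25)) :=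
  Lre_c IH (LK LD1_c10 LD2_c37 LD3_c21) (LK LD1_c5 LD2_c23 LD3_c25) Lrfl Lrfl
theorem f279458 : Led Lsl_ff (LP (LK LD1_c8 LD2_c41 LD3_c23)) = (LP (LK LD1_c5 LD2_c23 LD3_c25)) :=
  Lgr Lrot23 (Lpr_ct (K17.f43126 IH) (Lpr_ft (K17.f279443 IH) (Lpr_ct (f255788 IH) (Lpn (LP (LK LD1_c5 LD2_c23 LD3_c25))))))
theorem f308883 : Led Lsl_dt (LP (LK LD1_c9 LD2_c34 LD3_c10)) = (LP (LK LD1_c5 LD2_c23 LD3_c25)) :=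
  Lgr Lrot60 (Lpr_ff (f308881 IH) (Lpr_df (K17.f43128 IH) (Lpr_ff (f279458 IH) (Lpn (LP (LK LD1_c5 LD2_c23 LD3_c25))))))
theorem f310822 : Led Lsl_bf (LP (LK LD1_c5 LD2_c20 LD3_c36)) = (LP (LK LD1_c5 LD2_c23 LD3_c25)) :=
  Lgr Lrot93 (Lpr_dt (f310820 IH) (Lpe (f308839 IH) (Lpr_dt (f308883 IH) (Lpn (LP (LK LD1_c5 LD2_c23 LD3_c25))))))
theorem f255599 : Led Lsl_at (LP (LK LD1_c5 LD2_c23 LD3_c25)) = (LP (LK LD1_c2 LD2_c38 LD3_c15)) :=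
  Lre_a IH (LK LD1_c5 LD2_c23 LD3_c25) (LK LD1_c2 LD2_c38 LD3_c15) Lrfl Lrfl
theorem f255600 : Led Lsl_ft (LP (LK LD1_c8 LD2_c41 LD3_c23)) = (LP (LK LD1_c5 LD2_c23 LD3_c25)) :=
  Lgr Lrot2 (Lpr_gt (K17.f42921 IH) (Lpr_gt (K14.f255597 IH) (Lpe (f255599 IH) (Lpn (LP (LK LD1_c5 LD2_c23 LD3_c25))))))
theorem f310834 : Led Lsl_bt (LP (LK LD1_c10 LD2_c31 LD3_c13)) = (LP (LK LD1_c8 LD2_c41 LD3_c23)) :=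
  Lgr Lrot35 (Lpe (f310811 IH) (Lpr_bf (f310822 IH) (Lpe (f255600 IH) (Lpn (LP (LK LD1_c8 LD2_c41 LD3_c23))))))
theorem f241007 : Led Lsl_bt (LP (LK LD1_c4 LD2_c31 LD3_c37)) = (LP (LK LD1_c2 LD2_c12 LD3_c46)) :=
  Lre_b IH (LK LD1_c4 LD2_c31 LD3_c37) (LK LD1_c2 LD2_c12 LD3_c46) Lrfl Lrfl
theorem f241008 : Led Lsl_ct (LP (LK LD1_c4 LD2_c31 LD3_c37)) = (LP (LK LD1_c9 LD2_c1 LD3_c15)) :=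
  Lre_c IH (LK LD1_c4 LD2_c31 LD3_c37) (LK LD1_c9 LD2_c1 LD3_c15) Lrfl Lrfl
theorem f241009 : Led Lsl_gt (LP (LK LD1_c9 LD2_c1 LD3_c15)) = (LP (LK LD1_c16 LD2_c51 LD3_c14)) :=
  Lre_g IH (LK LD1_c9 LD2_c1 LD3_c15) (LK LD1_c16 LD2_c51 LD3_c14) Lrfl Lrfl
theorem f310839 : Led Lsl_ct (LP (LK LD1_c10 LD2_c31 LD3_c13)) = (LP (LK LD1_c16 LD2_c51 LD3_c14)) :=
  Lgr Lrot10 (Lpr_bt (f310834 IH) (Lpr_gt (K17.f42921 IH) (Lpr_ct (K14.f43138 IH) (Lpe (K14.f241001 IH) (Lpe (K18.f212558 IH) (Lpr_bt (K18.f212553 IH) (Lpr_gt (f181963 IH) (Lpe (f241007 IH) (Lpr_ct (f241008 IH) (Lpr_gt (f241009 IH) (Lpn (LP (LK LD1_c16 LD2_c51 LD3_c14)))))))))))))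
theorem f258358 : Led Lsl_ct (LP (LK LD1_c10 LD2_c31 LD3_c12)) = (LP (LK LD1_c5 LD2_c20 LD3_c36)) :=
  Lre_c IH (LK LD1_c10 LD2_c31 LD3_c12) (LK LD1_c5 LD2_c20 LD3_c36) Lrfl Lrfl
theorem f310847 : Led Lsl_ff (LP (LK LD1_c10 LD2_c31 LD3_c12)) = (LP (LK LD1_c16 LD2_c51 LD3_c14)) :=
  Lgr Lrot23 (Lpr_ct (f258358 IH) (Lpr_ft (f310811 IH) (Lpr_ct (f310839 IH) (Lpn (LP (LK LD1_c16 LD2_c51 LD3_c14))))))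
theorem f310887 : Led Lsl_ft (LP (LK LD1_c10 LD2_c31 LD3_c12)) = (LP (LK LD1_c16 LD2_c51 LD3_c14)) :=
  Lgr Lrot48 (Lpr_ff (f310847 IH) (Lpn (LP (LK LD1_c16 LD2_c51 LD3_c14))))
theorem f279501 : Led Lsl_at (LP (LK LD1_c8 LD2_c41 LD3_c23)) = (LP (LK LD1_c5 LD2_c23 LD3_c32)) :=
  Lgr Lrot100 (Lpr_af (K18.f279499 IH) (Lpn (LP (LK LD1_c5 LD2_c23 LD3_c32))))
theorem f300893 : Led Lsl_af (LP (LK LD1_c5 LD2_c20 LD3_c41)) = (LP (LK LD1_c2 LD2_c38 LD3_c30)) :=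
  Lgr Lrot117 (Lpe (K15.f184267 IH) (Lpr_at (K18.f300880 IH) (Lpr_dt (K18.f300884 IH) (Lpn (LP (LK LD1_c2 LD2_c38 LD3_c30))))))
theorem f310837 : Led Lsl_af (LP (LK LD1_c10 LD2_c31 LD3_c13)) = (LP (LK LD1_c5 LD2_c23 LD3_c38)) :=
  Lgr Lrot36 (Lpr_bt (f310834 IH) (Lpr_at (f279501 IH) (Lpr_bt (K18.f279497 IH) (Lpe (f300893 IH) (Lpe (K15.f169184 IH) (Lpn (LP (LK LD1_c5 LD2_c23 LD3_c38))))))))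
theorem f169197 : Led Lsl_ct (LP (LK LD1_c10 LD2_c37 LD3_c40)) = (LP (LK LD1_c5 LD2_c23 LD3_c38)) :=
  Lre_c IH (LK LD1_c10 LD2_c37 LD3_c40) (LK LD1_c5 LD2_c23 LD3_c38) Lrfl Lrfl
theorem f310841 : Led Lsl_af (LP (LK LD1_c10 LD2_c37 LD3_c40)) = (LP (LK LD1_c16 LD2_c51 LD3_c14)) :=
  Lgr Lrot68 (Lpr_ct (f169197 IH) (Lpe (f310837 IH) (Lpr_ct (f310839 IH) (Lpn (LP (LK LD1_c16 LD2_c51 LD3_c14))))))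
theorem f310889 : Led Lsl_ft (LP (LK LD1_c10 LD2_c37 LD3_c40)) = (LP (LK LD1_c5 LD2_c23 LD3_c34)) :=
  Lre_f IH (LK LD1_c10 LD2_c37 LD3_c40) (LK LD1_c5 LD2_c23 LD3_c34) Lrfl Lrfl
theorem f310890 : Led Lsl_af (LP (LK LD1_c10 LD2_c31 LD3_c12)) = (LP (LK LD1_c5 LD2_c23 LD3_c34)) :=
  Lgr Lrot45 (Lpr_ft (f310887 IH) (Lpe (f310841 IH) (Lpr_ft (f310889 IH) (Lpn (LP (LK LD1_c5 LD2_c23 LD3_c34))))))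
theorem f224751 : Led Lsl_et (LP (LK LD1_c10 LD2_c31 LD3_c12)) = (LP (LK LD1_c5 LD2_c20 LD3_c35)) :=
  Lre_e IH (LK LD1_c10 LD2_c31 LD3_c12) (LK LD1_c5 LD2_c20 LD3_c35) Lrfl Lrfl
theorem f218550 : Led Lsl_et (LP (LK LD1_c2 LD2_c38 LD3_c19)) = (LP (LK LD1_c5 LD2_c23 LD3_c34)) :=
  Lre_e IH (LK LD1_c2 LD2_c38 LD3_c19) (LK LD1_c5 LD2_c23 LD3_c34) Lrfl Lrfl
theorem f310896 : Led Lsl_at (LP (LK LD1_c5 LD2_c20 LD3_c35)) = (LP (LK LD1_c2 LD2_c38 LD3_c19)) :=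
  Lgr Lrot80 (Lpe (f224751 IH) (Lpr_af (f310890 IH) (Lpe (f218550 IH) (Lpn (LP (LK LD1_c2 LD2_c38 LD3_c19))))))
theorem f310721 : Led Lsl_ff (LP (LK LD1_c5 LD2_c20 LD3_c35)) = (LP (LK LD1_c2 LD2_c37 LD3_c51)) :=
  Lgr Lrot23 (Lpr_ct (K12.f223869 IH) (Lpr_ft (f310719 IH) (Lpr_ct (K13.f196597 IH) (Lpn (LP (LK LD1_c2 LD2_c37 LD3_c51))))))
theorem f310735 : Led Lsl_at (LP (LK LD1_c2 LD2_c37 LD3_c41)) = (LP (LK LD1_c2 LD2_c37 LD3_c51)) :=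
  Lgr Lrot107 (Lpe (K12.f171982 IH) (Lpr_af (f310731 IH) (Lpe (K13.f196600 IH) (Lpn (LP (LK LD1_c2 LD2_c37 LD3_c51))))))
theorem f310906 : Led Lsl_ff (LP (LK LD1_c2 LD2_c37 LD3_c41)) = (LP (LK LD1_c2 LD2_c38 LD3_c19)) :=
  Lgr Lrot30 (Lpr_at (f310735 IH) (Lpe (f310721 IH) (Lpr_at (f310896 IH) (Lpn (LP (LK LD1_c2 LD2_c38 LD3_c19))))))
theorem f310915 : Led Lsl_ft (LP (LK LD1_c2 LD2_c37 LD3_c41)) = (LP (LK LD1_c2 LD2_c38 LD3_c19)) :=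
  Lgr Lrot48 (Lpr_ff (f310906 IH) (Lpn (LP (LK LD1_c2 LD2_c38 LD3_c19))))
theorem f228694 : Led Lsl_et (LP (LK LD1_c5 LD2_c22 LD3_c21)) = (LP (LK LD1_c2 LD2_c37 LD3_c41)) :=
  Lre_e IH (LK LD1_c5 LD2_c22 LD3_c21) (LK LD1_c2 LD2_c37 LD3_c41) Lrfl Lrfl
theorem f310921 : Led Lsl_ft (LP (LK LD1_c10 LD2_c35 LD3_c11)) = (LP (LK LD1_c5 LD2_c22 LD3_c21)) :=
  Lre_f IH (LK LD1_c10 LD2_c35 LD3_c11) (LK LD1_c5 LD2_c22 LD3_c21) Lrfl Lrfl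
theorem f310922 : Led Lsl_ft (LP (LK LD1_c5 LD2_c23 LD3_c34)) = (LP (LK LD1_c10 LD2_c37 LD3_c40)) :=
  Lre_f IH (LK LD1_c5 LD2_c23 LD3_c34) (LK LD1_c10 LD2_c37 LD3_c40) Lrfl Lrfl
theorem f310923 : Led Lsl_ef (LP (LK LD1_c10 LD2_c35 LD3_c11)) = (LP (LK LD1_c10 LD2_c37 LD3_c40)) :=
  Lgr Lrot21 (Lpr_ft (f310921 IH) (Lpr_et (f228694 IH) (Lpr_ft (f310915 IH) (Lpr_et (f218550 IH) (Lpr_ft (f310922 IH) (Lpn (LP (LK LD1_c10 LD2_c37 LD3_c40))))))))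
theorem f182849 : Led Lsl_ct (LP (LK LD1_c10 LD2_c35 LD3_c11)) = (LP (LK LD1_c5 LD2_c22 LD3_c25)) :=
  Lre_c IH (LK LD1_c10 LD2_c35 LD3_c11) (LK LD1_c5 LD2_c22 LD3_c25) Lrfl Lrfl
theorem f169192 : Led Lsl_ct (LP (LK LD1_c5 LD2_c23 LD3_c38)) = (LP (LK LD1_c10 LD2_c37 LD3_c40)) :=
  Lre_c IH (LK LD1_c5 LD2_c23 LD3_c38) (LK LD1_c10 LD2_c37 LD3_c40) Lrfl Lrfl
theorem f310925 : Led Lsl_et (LP (LK LD1_c5 LD2_c22 LD3_c25)) = (LP (LK LD1_c5 LD2_c23 LD3_c38)) :=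
  Lgr Lrot158 (Lpe (f182849 IH) (Lpr_ef (f310923 IH) (Lpe (f169192 IH) (Lpn (LP (LK LD1_c5 LD2_c23 LD3_c38))))))
theorem f310932 : Led Lsl_ef (LP (LK LD1_c5 LD2_c22 LD3_c25)) = (LP (LK LD1_c5 LD2_c23 LD3_c38)) :=
  Lgr Lrot88 (Lpr_et (f310925 IH) (Lpn (LP (LK LD1_c5 LD2_c23 LD3_c38))))
theorem f310934 : Led Lsl_bt (LP (LK LD1_c5 LD2_c22 LD3_c25)) = (LP (LK LD1_c2 LD2_c38 LD3_c6)) :=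
  Lre_b IH (LK LD1_c5 LD2_c22 LD3_c25) (LK LD1_c2 LD2_c38 LD3_c6) Lrfl Lrfl
theorem f310935 : Led Lsl_et (LP (LK LD1_c2 LD2_c38 LD3_c6)) = (LP (LK LD1_c5 LD2_c20 LD3_c41)) :=
  Lgr Lrot74 (Lpe (f310934 IH) (Lpr_ef (f310932 IH) (Lpr_bf (K15.f169184 IH) (Lpn (LP (LK LD1_c5 LD2_c20 LD3_c41))))))
theorem f310939 : Led Lsl_ct (LP (LK LD1_c5 LD2_c23 LD3_c10)) = (LP (LK LD1_c2 LD2_c38 LD3_c6)) :=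
  Lre_c IH (LK LD1_c5 LD2_c23 LD3_c10) (LK LD1_c2 LD2_c38 LD3_c6) Lrfl Lrfl
theorem f169196 : Led Lsl_ct (LP (LK LD1_c5 LD2_c20 LD3_c41)) = (LP (LK LD1_c10 LD2_c31 LD3_c23)) :=
  Lre_c IH (LK LD1_c5 LD2_c20 LD3_c41) (LK LD1_c10 LD2_c31 LD3_c23) Lrfl Lrfl
theorem f310940 : Led Lsl_ef (LP (LK LD1_c5 LD2_c23 LD3_c10)) = (LP (LK LD1_c10 LD2_c31 LD3_c23)) :=
  Lgr Lrot28 (Lpr_ct (f310939 IH) (Lpr_et (f310935 IH) (Lpr_ct (f169196 IH) (Lpn (LP (LK LD1_c10 LD2_c31 LD3_c23))))))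
theorem f310951 : Led Lsl_et (LP (LK LD1_c5 LD2_c23 LD3_c10)) = (LP (LK LD1_c10 LD2_c31 LD3_c23)) :=
  Lgr Lrot87 (Lpr_ef (f310940 IH) (Lpn (LP (LK LD1_c10 LD2_c31 LD3_c23))))
theorem f303021 : Led Lsl_af (LP (LK LD1_c5 LD2_c23 LD3_c49)) = (LP (LK LD1_c10 LD2_c31 LD3_c23)) :=
  Lgr Lrot0 (Lpr_at (K18.f303019 IH) (Lpn (LP (LK LD1_c10 LD2_c31 LD3_c23))))
theorem f310955 : Led Lsl_af (LP (LK LD1_c5 LD2_c23 LD3_c10)) = (LP (LK LD1_c10 LD2_c31 LD3_c8)) :=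
  Lgr Lrot50 (Lpr_et (f310951 IH) (Lpe (f303021 IH) (Lpr_et (K18.f303234 IH) (Lpn (LP (LK LD1_c10 LD2_c31 LD3_c8))))))
theorem f310958 : Led Lsl_ct (LP (LK LD1_c2 LD2_c38 LD3_c6)) = (LP (LK LD1_c5 LD2_c23 LD3_c10)) :=
  Lre_c IH (LK LD1_c2 LD2_c38 LD3_c6) (LK LD1_c5 LD2_c23 LD3_c10) Lrfl Lrfl
theorem f283472 : Led Lsl_dt (LP (LK LD1_c5 LD2_c23 LD3_c18)) = (LP (LK LD1_c2 LD2_c38 LD3_c6)) :=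
  Lre_d IH (LK LD1_c5 LD2_c23 LD3_c18) (LK LD1_c2 LD2_c38 LD3_c6) Lrfl Lrfl
theorem f182841 : Led Lsl_ct (LP (LK LD1_c10 LD2_c37 LD3_c8)) = (LP (LK LD1_c5 LD2_c23 LD3_c18)) :=
  Lre_c IH (LK LD1_c10 LD2_c37 LD3_c8) (LK LD1_c5 LD2_c23 LD3_c18) Lrfl Lrfl
theorem f283447 : Led Lsl_dt (LP (LK LD1_c19 LD2_c14 LD3_c10)) = (LP (LK LD1_c10 LD2_c37 LD3_c8)) :=
  Lre_d IH (LK LD1_c19 LD2_c14 LD3_c10) (LK LD1_c10 LD2_c37 LD3_c8) Lrfl Lrfl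
theorem f303250 : Led Lsl_ft (LP (LK LD1_c5 LD2_c20 LD3_c32)) = (LP (LK LD1_c10 LD2_c31 LD3_c8)) :=
  Lre_f IH (LK LD1_c5 LD2_c20 LD3_c32) (LK LD1_c10 LD2_c31 LD3_c8) Lrfl Lrfl
theorem f42271 : Led Lsl_dt (LP (LK LD1_c5 LD2_c20 LD3_c32)) = (LP (LK LD1_c10 LD2_c31 LD3_c7)) :=
  Lre_d IH (LK LD1_c5 LD2_c20 LD3_c32) (LK LD1_c10 LD2_c31 LD3_c7) Lrfl Lrfl
theorem f42272 : Led Lsl_ct (LP (LK LD1_c10 LD2_c31 LD3_c7)) = (LP (LK LD1_c19 LD2_c3 LD3_c56)) :=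
  Lre_c IH (LK LD1_c10 LD2_c31 LD3_c7) (LK LD1_c19 LD2_c3 LD3_c56) Lrfl Lrfl
theorem f42273 : Led Lsl_dt (LP (LK LD1_c19 LD2_c3 LD3_c56)) = (LP (LK LD1_c28 LD2_c30 LD3_c10)) :=
  Lre_d IH (LK LD1_c19 LD2_c3 LD3_c56) (LK LD1_c28 LD2_c30 LD3_c10) Lrfl Lrfl
theorem f310979 : Led Lsl_cf (LP (LK LD1_c19 LD2_c14 LD3_c10)) = (LP (LK LD1_c28 LD2_c30 LD3_c10)) :=
  Lgr Lrot116 (Lpr_dt (f283447 IH) (Lpr_ct (f182841 IH) (Lpr_dt (f283472 IH) (Lpr_ct (f310958 IH) (Lpr_af (f310955 IH) (Lpe (f303250 IH) (Lpr_dt (f42271 IH) (Lpr_ct (f42272 IH) (Lpr_dt (f42273 IH) (Lpn (LP (LK LD1_c28 LD2_c30 LD3_c10))))))))))))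
theorem f310947 : Led Lsl_dt (LP (LK LD1_c5 LD2_c23 LD3_c10)) = (LP (LK LD1_c10 LD2_c36 LD3_c55)) :=
  Lre_d IH (LK LD1_c5 LD2_c23 LD3_c10) (LK LD1_c10 LD2_c36 LD3_c55) Lrfl Lrfl
theorem f310984 : Led Lsl_ct (LP (LK LD1_c10 LD2_c36 LD3_c55)) = (LP (LK LD1_c19 LD2_c13 LD3_c43)) :=
  Lre_c IH (LK LD1_c10 LD2_c36 LD3_c55) (LK LD1_c19 LD2_c13 LD3_c43) Lrfl Lrfl
theorem f310992 : Led Lsl_ft (LP (LK LD1_c19 LD2_c3 LD3_c56)) = (LP (LK LD1_c28 LD2_c30 LD3_c11)) :=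
  Lre_f IH (LK LD1_c19 LD2_c3 LD3_c56) (LK LD1_c28 LD2_c30 LD3_c11) Lrfl Lrfl
theorem f310993 : Led Lsl_af (LP (LK LD1_c19 LD2_c13 LD3_c43)) = (LP (LK LD1_c28 LD2_c30 LD3_c11)) :=
  Lgr Lrot109 (Lpe (f310984 IH) (Lpe (f310947 IH) (Lpe (f310958 IH) (Lpe (f283472 IH) (Lpe (f182841 IH) (Lpe (f283447 IH) (Lpr_cf (f310979 IH) (Lpe (f42273 IH) (Lpr_ft (f310992 IH) (Lpn (LP (LK LD1_c28 LD2_c30 LD3_c11))))))))))))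
theorem f311002 : Led Lsl_ft (LP (LK LD1_c19 LD2_c13 LD3_c43)) = (LP (LK LD1_c10 LD2_c36 LD3_c54)) :=
  Lre_f IH (LK LD1_c19 LD2_c13 LD3_c43) (LK LD1_c10 LD2_c36 LD3_c54) Lrfl Lrfl
theorem f311003 : Led Lsl_at (LP (LK LD1_c10 LD2_c36 LD3_c54)) = (LP (LK LD1_c19 LD2_c3 LD3_c56)) :=
  Lgr Lrot66 (Lpe (f311002 IH) (Lpr_af (f310993 IH) (Lpe (f310992 IH) (Lpn (LP (LK LD1_c19 LD2_c3 LD3_c56))))))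
theorem f311025 : Led Lsl_et (LP (LK LD1_c19 LD2_c13 LD3_c20)) = (LP (LK LD1_c10 LD2_c36 LD3_c54)) :=
  Lre_e IH (LK LD1_c19 LD2_c13 LD3_c20) (LK LD1_c10 LD2_c36 LD3_c54) Lrfl Lrfl
theorem f311026 : Led Lsl_et (LP (LK LD1_c19 LD2_c3 LD3_c56)) = (LP (LK LD1_c28 LD2_c29 LD3_c59)) :=
  Lre_e IH (LK LD1_c19 LD2_c3 LD3_c56) (LK LD1_c28 LD2_c29 LD3_c59) Lrfl Lrfl
theorem f311027 : Led Lsl_af (LP (LK LD1_c19 LD2_c13 LD3_c20)) = (LP (LK LD1_c28 LD2_c29 LD3_c59)) :=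
  Lgr Lrot50 (Lpr_et (f311025 IH) (Lpr_at (f311003 IH) (Lpr_et (f311026 IH) (Lpn (LP (LK LD1_c28 LD2_c29 LD3_c59))))))
theorem f217702 : Led Lsl_ct (LP (LK LD1_c19 LD2_c13 LD3_c20)) = (LP (LK LD1_c10 LD2_c36 LD3_c44)) :=
  Lre_c IH (LK LD1_c19 LD2_c13 LD3_c20) (LK LD1_c10 LD2_c36 LD3_c44) Lrfl Lrfl
theorem f311033 : Led Lsl_ct (LP (LK LD1_c19 LD2_c3 LD3_c49)) = (LP (LK LD1_c28 LD2_c29 LD3_c59)) :=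
  Lre_c IH (LK LD1_c19 LD2_c3 LD3_c49) (LK LD1_c28 LD2_c29 LD3_c59) Lrfl Lrfl
theorem f311034 : Led Lsl_at (LP (LK LD1_c10 LD2_c36 LD3_c44)) = (LP (LK LD1_c19 LD2_c3 LD3_c49)) :=
  Lgr Lrot107 (Lpe (f217702 IH) (Lpr_af (f311027 IH) (Lpe (f311033 IH) (Lpn (LP (LK LD1_c19 LD2_c3 LD3_c49))))))
theorem f311037 : Led Lsl_af (LP (LK LD1_c10 LD2_c36 LD3_c44)) = (LP (LK LD1_c19 LD2_c3 LD3_c49)) :=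
  Lgr Lrot0 (Lpr_at (f311034 IH) (Lpn (LP (LK LD1_c19 LD2_c3 LD3_c49))))
theorem f311047 : Led Lsl_et (LP (LK LD1_c10 LD2_c36 LD3_c44)) = (LP (LK LD1_c5 LD2_c23 LD3_c9)) :=
  Lre_e IH (LK LD1_c10 LD2_c36 LD3_c44) (LK LD1_c5 LD2_c23 LD3_c9) Lrfl Lrfl
theorem f311048 : Led Lsl_et (LP (LK LD1_c10 LD2_c31 LD3_c7)) = (LP (LK LD1_c19 LD2_c3 LD3_c49)) :=
  Lre_e IH (LK LD1_c10 LD2_c31 LD3_c7) (LK LD1_c19 LD2_c3 LD3_c49) Lrfl Lrfl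
theorem f311049 : Led Lsl_at (LP (LK LD1_c5 LD2_c23 LD3_c9)) = (LP (LK LD1_c10 LD2_c31 LD3_c7)) :=
  Lgr Lrot80 (Lpe (f311047 IH) (Lpr_af (f311037 IH) (Lpe (f311048 IH) (Lpn (LP (LK LD1_c10 LD2_c31 LD3_c7))))))
theorem f311056 : Led Lsl_ft (LP (LK LD1_c10 LD2_c36 LD3_c55)) = (LP (LK LD1_c5 LD2_c23 LD3_c9)) :=
  Lre_f IH (LK LD1_c10 LD2_c36 LD3_c55) (LK LD1_c5 LD2_c23 LD3_c9) Lrfl Lrfl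
theorem f42465 : Led Lsl_ft (LP (LK LD1_c10 LD2_c31 LD3_c7)) = (LP (LK LD1_c19 LD2_c3 LD3_c57)) :=
  Lre_f IH (LK LD1_c10 LD2_c31 LD3_c7) (LK LD1_c19 LD2_c3 LD3_c57) Lrfl Lrfl
theorem f311057 : Led Lsl_af (LP (LK LD1_c10 LD2_c36 LD3_c55)) = (LP (LK LD1_c19 LD2_c3 LD3_c57)) :=
  Lgr Lrot45 (Lpr_ft (f311056 IH) (Lpr_at (f311049 IH) (Lpr_ft (f42465 IH) (Lpn (LP (LK LD1_c19 LD2_c3 LD3_c57))))))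
theorem f311000 : Led Lsl_ct (LP (LK LD1_c19 LD2_c13 LD3_c43)) = (LP (LK LD1_c10 LD2_c36 LD3_c55)) :=
  Lre_c IH (LK LD1_c19 LD2_c13 LD3_c43) (LK LD1_c10 LD2_c36 LD3_c55) Lrfl Lrfl
theorem f42285 : Led Lsl_dt (LP (LK LD1_c10 LD2_c31 LD3_c7)) = (LP (LK LD1_c5 LD2_c20 LD3_c32)) :=
  Lre_d IH (LK LD1_c10 LD2_c31 LD3_c7) (LK LD1_c5 LD2_c20 LD3_c32) Lrfl Lrfl
theorem f42289 : Led Lsl_ct (LP (LK LD1_c5 LD2_c20 LD3_c32)) = (LP (LK LD1_c2 LD2_c36 LD3_c55)) :=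
  Lre_c IH (LK LD1_c5 LD2_c20 LD3_c32) (LK LD1_c2 LD2_c36 LD3_c55) Lrfl Lrfl
theorem f42277 : Led Lsl_dt (LP (LK LD1_c2 LD2_c36 LD3_c55)) = (LP (LK LD1_c2 LD2_c58 LD3_c44)) :=
  Lgr Lrot42 (Lpr_df (K15.f42149 IH) (Lpn (LP (LK LD1_c2 LD2_c58 LD3_c44))))
theorem f42384 : Led Lsl_ct (LP (LK LD1_c2 LD2_c58 LD3_c44)) = (LP (LK LD1_c6 LD2_c5 LD3_c5)) :=
  Lre_c IH (LK LD1_c2 LD2_c58 LD3_c44) (LK LD1_c6 LD2_c5 LD3_c5) Lrfl Lrfl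
theorem f42410 : Led Lsl_dt (LP (LK LD1_c6 LD2_c5 LD3_c5)) = (LP (LK LD1_c11 LD2_c53 LD3_c37)) :=
  Lre_d IH (LK LD1_c6 LD2_c5 LD3_c5) (LK LD1_c11 LD2_c53 LD3_c37) Lrfl Lrfl
theorem f42400 : Led Lsl_ct (LP (LK LD1_c11 LD2_c53 LD3_c37)) = (LP (LK LD1_c20 LD2_c57 LD3_c19)) :=
  Lre_c IH (LK LD1_c11 LD2_c53 LD3_c37) (LK LD1_c20 LD2_c57 LD3_c19) Lrfl Lrfl
theorem f311071 : Led Lsl_df (LP (LK LD1_c19 LD2_c13 LD3_c43)) = (LP (LK LD1_c20 LD2_c57 LD3_c19)) :=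
  Lgr Lrot177 (Lpr_ct (f311000 IH) (Lpr_af (f311057 IH) (Lpe (f42465 IH) (Lpr_dt (f42285 IH) (Lpr_ct (f42289 IH) (Lpr_dt (f42277 IH) (Lpr_ct (f42384 IH) (Lpr_dt (f42410 IH) (Lpr_ct (f42400 IH) (Lpn (LP (LK LD1_c20 LD2_c57 LD3_c19))))))))))))
theorem f310959 : Led Lsl_dt (LP (LK LD1_c10 LD2_c36 LD3_c55)) = (LP (LK LD1_c5 LD2_c23 LD3_c10)) :=
  Lre_d IH (LK LD1_c10 LD2_c36 LD3_c55) (LK LD1_c5 LD2_c23 LD3_c10) Lrfl Lrfl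
theorem f310943 : Led Lsl_dt (LP (LK LD1_c2 LD2_c38 LD3_c6)) = (LP (LK LD1_c5 LD2_c23 LD3_c18)) :=
  Lre_d IH (LK LD1_c2 LD2_c38 LD3_c6) (LK LD1_c5 LD2_c23 LD3_c18) Lrfl Lrfl
theorem f311080 : Led Lsl_ft (LP (LK LD1_c6 LD2_c5 LD3_c5)) = (LP (LK LD1_c11 LD2_c53 LD3_c38)) :=
  Lre_f IH (LK LD1_c6 LD2_c5 LD3_c5) (LK LD1_c11 LD2_c53 LD3_c38) Lrfl Lrfl
theorem f311081 : Led Lsl_af (LP (LK LD1_c10 LD2_c37 LD3_c8)) = (LP (LK LD1_c11 LD2_c53 LD3_c38)) :=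
  Lgr Lrot109 (Lpe (K17.f182854 IH) (Lpe (f310943 IH) (Lpe (f310939 IH) (Lpe (f310959 IH) (Lpe (f311000 IH) (Lpr_df (f311071 IH) (Lpe (f42400 IH) (Lpe (f42410 IH) (Lpr_ft (f311080 IH) (Lpn (LP (LK LD1_c11 LD2_c53 LD3_c38))))))))))))
theorem f283462 : Led Lsl_ft (LP (LK LD1_c10 LD2_c37 LD3_c8)) = (LP (LK LD1_c5 LD2_c23 LD3_c17)) :=
  Lre_f IH (LK LD1_c10 LD2_c37 LD3_c8) (LK LD1_c5 LD2_c23 LD3_c17) Lrfl Lrfl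
theorem f311093 : Led Lsl_at (LP (LK LD1_c5 LD2_c23 LD3_c17)) = (LP (LK LD1_c6 LD2_c5 LD3_c5)) :=
  Lgr Lrot66 (Lpe (f283462 IH) (Lpr_af (f311081 IH) (Lpe (f311080 IH) (Lpn (LP (LK LD1_c6 LD2_c5 LD3_c5))))))
theorem f182813 : Led Lsl_ct (LP (LK LD1_c2 LD2_c38 LD3_c5)) = (LP (LK LD1_c5 LD2_c23 LD3_c17)) :=
  Lre_c IH (LK LD1_c2 LD2_c38 LD3_c5) (LK LD1_c5 LD2_c23 LD3_c17) Lrfl Lrfl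
theorem f42274 : Led Lsl_ct (LP (LK LD1_c6 LD2_c5 LD3_c5)) = (LP (LK LD1_c2 LD2_c58 LD3_c44)) :=
  Lre_c IH (LK LD1_c6 LD2_c5 LD3_c5) (LK LD1_c2 LD2_c58 LD3_c44) Lrfl Lrfl
theorem f311103 : Led Lsl_af (LP (LK LD1_c2 LD2_c38 LD3_c5)) = (LP (LK LD1_c2 LD2_c58 LD3_c44)) :=
  Lgr Lrot68 (Lpr_ct (f182813 IH) (Lpr_at (f311093 IH) (Lpr_ct (f42274 IH) (Lpn (LP (LK LD1_c2 LD2_c58 LD3_c44))))))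
theorem f42523 : Led Lsl_dt (LP (LK LD1_c2 LD2_c38 LD3_c5)) = (LP (LK LD1_c1 LD2_c15 LD3_c60)) :=
  Lre_d IH (LK LD1_c2 LD2_c38 LD3_c5) (LK LD1_c1 LD2_c15 LD3_c60) Lrfl Lrfl
theorem f311241 : Led Lsl_at (LP (LK LD1_c1 LD2_c15 LD3_c60)) = (LP (LK LD1_c2 LD2_c36 LD3_c55)) :=
  Lgr Lrot51 (Lpe (f42523 IH) (Lpr_af (f311103 IH) (Lpe (f42277 IH) (Lpn (LP (LK LD1_c2 LD2_c36 LD3_c55))))))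
theorem f311250 : Led Lsl_af (LP (LK LD1_c0 LD2_c35 LD3_c12)) = (LP (LK LD1_c1 LD2_c15 LD3_c26)) :=
  Lgr Lrot50 (Lpr_et (K12.f199036 IH) (Lpr_at (f311241 IH) (Lpr_et (K15.f42147 IH) (Lpn (LP (LK LD1_c1 LD2_c15 LD3_c26))))))
theorem f310733 : Led Lsl_at (LP (LK LD1_c1 LD2_c15 LD3_c51)) = (LP (LK LD1_c1 LD2_c15 LD3_c55)) :=
  Lgr Lrot100 (Lpr_af (f310731 IH) (Lpn (LP (LK LD1_c1 LD2_c15 LD3_c55))))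
theorem f311256 : Led Lsl_at (LP (LK LD1_c2 LD2_c37 LD3_c47)) = (LP (LK LD1_c2 LD2_c36 LD3_c51)) :=
  Lgr Lrot67 (Lpe (K13.f196722 IH) (Lpe (f310733 IH) (Lpe (K12.f220645 IH) (Lpr_af (f311250 IH) (Lpe (K12.f187028 IH) (Lpn (LP (LK LD1_c2 LD2_c36 LD3_c51))))))))
theorem f235622 : Led Lsl_dt (LP (LK LD1_c1 LD2_c16 LD3_c3)) = (LP (LK LD1_c2 LD2_c38 LD3_c10)) :=
  Lre_d IH (LK LD1_c1 LD2_c16 LD3_c3) (LK LD1_c2 LD2_c38 LD3_c10) Lrfl Lrfl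
theorem f235623 : Led Lsl_ft (LP (LK LD1_c2 LD2_c38 LD3_c10)) = (LP (LK LD1_c2 LD2_c37 LD3_c47)) :=
  Lgr Lrot54 (Lpe (f235622 IH) (Lpr_ff (K13.f235620 IH) (Lpe (K16.f172010 IH) (Lpn (LP (LK LD1_c2 LD2_c37 LD3_c47))))))
theorem f235643 : Led Lsl_dt (LP (LK LD1_c9 LD2_c51 LD3_c39)) = (LP (LK LD1_c5 LD2_c20 LD3_c25)) :=
  Lgr Lrot42 (Lpr_df (K16.f235639 IH) (Lpn (LP (LK LD1_c5 LD2_c20 LD3_c25))))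
theorem f311260 : Led Lsl_ct (LP (LK LD1_c1 LD2_c16 LD3_c3)) = (LP (LK LD1_c0 LD2_c35 LD3_c14)) :=
  Lgr Lrot133 (Lpe (K13.f235629 IH) (Lpr_ft (f235623 IH) (Lpr_at (f311256 IH) (Lpe (K12.f172013 IH) (Lpe (f235643 IH) (Lpr_cf (K16.f234045 IH) (Lpe (K13.f224178 IH) (Lpe (K13.f224172 IH) (Lpe (K13.f224181 IH) (Lpn (LP (LK LD1_c0 LD2_c35 LD3_c14))))))))))))
theorem f235581 : Led Lsl_cf (LP (LK LD1_c1 LD2_c16 LD3_c2)) = (LP (LK LD1_c1 LD2_c3 LD3_c20)) :=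
  Lgr Lrot39 (Lpr_et (K14.f235579 IH) (Lpr_ct (K13.f235550 IH) (Lpe (K14.f212702 IH) (Lpn (LP (LK LD1_c1 LD2_c3 LD3_c20))))))
theorem f279308 : Led Lsl_bt (LP (LK LD1_c1 LD2_c3 LD3_c20)) = (LP (LK LD1_c2 LD2_c7 LD3_c5)) :=
  Lgr Lrot35 (Lpe (K12.f212632 IH) (Lpe (K12.f53632 IH) (Lpr_ff (K16.f279304 IH) (Lpn (LP (LK LD1_c2 LD2_c7 LD3_c5))))))
theorem f213777 : Led Lsl_bt (LP (LK LD1_c0 LD2_c32 LD3_c20)) = (LP (LK LD1_c1 LD2_c9 LD3_c53)) :=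
  Lre_b IH (LK LD1_c0 LD2_c32 LD3_c20) (LK LD1_c1 LD2_c9 LD3_c53) Lrfl Lrfl
theorem f311274 : Led Lsl_bt (LP (LK LD1_c1 LD2_c16 LD3_c3)) = (LP (LK LD1_c1 LD2_c15 LD3_c28)) :=
  Lgr Lrot130 (Lpr_ct (f311260 IH) (Lpe (K13.f196572 IH) (Lpr_cf (f235581 IH) (Lpr_bt (f279308 IH) (Lpe (K17.f292488 IH) (Lpe (f213777 IH) (Lpr_ct (K12.f168193 IH) (Lpe (K12.f216296 IH) (Lpe (K12.f44564 IH) (Lpe (K12.f223739 IH) (Lpn (LP (LK LD1_c1 LD2_c15 LD3_c28)))))))))))))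
theorem f235632 : Led Lsl_et (LP (LK LD1_c2 LD2_c38 LD3_c11)) = (LP (LK LD1_c1 LD2_c16 LD3_c3)) :=
  Lre_e IH (LK LD1_c2 LD2_c38 LD3_c11) (LK LD1_c1 LD2_c16 LD3_c3) Lrfl Lrfl
theorem f311278 : Led Lsl_bf (LP (LK LD1_c2 LD2_c38 LD3_c11)) = (LP (LK LD1_c2 LD2_c36 LD3_c57)) :=
  Lgr Lrot96 (Lpr_et (f235632 IH) (Lpr_bt (f311274 IH) (Lpr_et (K14.f246388 IH) (Lpn (LP (LK LD1_c2 LD2_c36 LD3_c57))))))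
theorem f311290 : Led Lsl_gt (LP (LK LD1_c2 LD2_c38 LD3_c11)) = (LP (LK LD1_c4 LD2_c9 LD3_c16)) :=
  Lgr Lrot82 (Lpr_bf (f311278 IH) (Lpr_ct (K17.f169147 IH) (Lpr_gf (K16.f258313 IH) (Lpe (K11.f200140 IH) (Lpr_bt (K17.f166623 IH) (Lpe (K13.f201338 IH) (Lpe (K13.f201333 IH) (Lpr_ct (K13.f201334 IH) (Lpr_gf (K13.f236252 IH) (Lpe (K13.f233711 IH) (Lpn (LP (LK LD1_c4 LD2_c9 LD3_c16)))))))))))))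
theorem f283300 : Led Lsl_ff (LP (LK LD1_c2 LD2_c36 LD3_c57)) = (LP (LK LD1_c4 LD2_c53 LD3_c47)) :=
  Lgr Lrot23 (Lpr_ct (K17.f169147 IH) (Lpr_ft (K17.f283294 IH) (Lpr_ct (K14.f7961 IH) (Lpn (LP (LK LD1_c4 LD2_c53 LD3_c47))))))
theorem f236447 : Led Lsl_bt (LP (LK LD1_c5 LD2_c15 LD3_c14)) = (LP (LK LD1_c4 LD2_c53 LD3_c47)) :=
  Lgr Lrot127 (Lpr_bf (K18.f236445 IH) (Lpn (LP (LK LD1_c4 LD2_c53 LD3_c47))))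
theorem f311288 : Led Lsl_ft (LP (LK LD1_c2 LD2_c38 LD3_c11)) = (LP (LK LD1_c5 LD2_c15 LD3_c14)) :=
  Lgr Lrot75 (Lpr_bf (f311278 IH) (Lpr_ff (f283300 IH) (Lpe (f236447 IH) (Lpn (LP (LK LD1_c5 LD2_c15 LD3_c14))))))
theorem f311303 : Led Lsl_at (LP (LK LD1_c5 LD2_c15 LD3_c14)) = (LP (LK LD1_c2 LD2_c38 LD3_c18)) :=
  Lgr Lrot26 (Lpe (f311288 IH) (Lpr_gt (f311290 IH) (Lpr_gt (K18.f299281 IH) (Lpn (LP (LK LD1_c2 LD2_c38 LD3_c18))))))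
theorem f283280 : Led Lsl_bf (LP (LK LD1_c2 LD2_c38 LD3_c23)) = (LP (LK LD1_c2 LD2_c24 LD3_c42)) :=
  Lgr Lrot24 (Lpr_bt (K17.f283278 IH) (Lpn (LP (LK LD1_c2 LD2_c24 LD3_c42))))
theorem f311316 : Led Lsl_af (LP (LK LD1_c4 LD2_c53 LD3_c47)) = (LP (LK LD1_c2 LD2_c38 LD3_c23)) :=
  Lgr Lrot36 (Lpe (K18.f236445 IH) (Lpr_at (f311303 IH) (Lpr_bt (K18.f283275 IH) (Lpe (K17.f255989 IH) (Lpe (f283280 IH) (Lpn (LP (LK LD1_c2 LD2_c38 LD3_c23))))))))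
theorem f311326 : Led Lsl_at (LP (LK LD1_c2 LD2_c36 LD3_c57)) = (LP (LK LD1_c1 LD2_c16 LD3_c7)) :=
  Lgr Lrot66 (Lpr_ff (f283300 IH) (Lpr_af (f311316 IH) (Lpe (K17.f169149 IH) (Lpn (LP (LK LD1_c1 LD2_c16 LD3_c7))))))
theorem f311328 : Led Lsl_af (LP (LK LD1_c4 LD2_c21 LD3_c38)) = (LP (LK LD1_c2 LD2_c38 LD3_c22)) :=
  Lgr Lrot117 (Lpr_dt (K18.f251040 IH) (Lpr_at (f311326 IH) (Lpr_dt (K14.f169148 IH) (Lpn (LP (LK LD1_c2 LD2_c38 LD3_c22))))))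
theorem f179753 : Led Lsl_ct (LP (LK LD1_c2 LD2_c6 LD3_c41)) = (LP (LK LD1_c1 LD2_c0 LD3_c18)) :=
  Lre_c IH (LK LD1_c2 LD2_c6 LD3_c41) (LK LD1_c1 LD2_c0 LD3_c18) Lrfl Lrfl
theorem f187077 : Led Lsl_gt (LP (LK LD1_c2 LD2_c8 LD3_c20)) = (LP (LK LD1_c4 LD2_c10 LD3_c41)) :=
  Lgr Lrot9 (Lpe (K14.f187076 IH) (Lpr_gt (K10.f187071 IH) (Lpe (K10.f29048 IH) (Lpe (K10.f184237 IH) (Lpe (K10.f187061 IH) (Lpe (K12.f171436 IH) (Lpe (f179753 IH) (Lpe (K18.f179732 IH) (Lpr_cf (K18.f179734 IH) (Lpn (LP (LK LD1_c4 LD2_c10 LD3_c41))))))))))))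
theorem f262656 : Led Lsl_gt (LP (LK LD1_c4 LD2_c10 LD3_c41)) = (LP (LK LD1_c4 LD2_c15 LD3_c19)) :=
  Lgr Lrot46 (Lpe (f187077 IH) (Lpr_ft (K15.f262645 IH) (Lpe (K15.f262648 IH) (Lpn (LP (LK LD1_c4 LD2_c15 LD3_c19))))))
theorem f311334 : Led Lsl_ft (LP (LK LD1_c4 LD2_c10 LD3_c41)) = (LP (LK LD1_c2 LD2_c38 LD3_c22)) :=
  Lgr Lrot2 (Lpr_gt (f262656 IH) (Lpe (K14.f251047 IH) (Lpr_af (f311328 IH) (Lpn (LP (LK LD1_c2 LD2_c38 LD3_c22))))))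
theorem f179748 : Led Lsl_ct (LP (LK LD1_c4 LD2_c18 LD3_c48)) = (LP (LK LD1_c4 LD2_c10 LD3_c41)) :=
  Lgr Lrot59 (Lpr_cf (K18.f179734 IH) (Lpn (LP (LK LD1_c4 LD2_c10 LD3_c41))))
theorem f311338 : Led Lsl_ff (LP (LK LD1_c4 LD2_c18 LD3_c48)) = (LP (LK LD1_c4 LD2_c13 LD3_c7)) :=
  Lgr Lrot23 (Lpr_ct (f179748 IH) (Lpr_ft (f311334 IH) (Lpe (K15.f184300 IH) (Lpn (LP (LK LD1_c4 LD2_c13 LD3_c7))))))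
theorem f311342 : Led Lsl_at (LP (LK LD1_c4 LD2_c18 LD3_c48)) = (LP (LK LD1_c4 LD2_c13 LD3_c6)) :=
  Lgr Lrot26 (Lpr_ff (f311338 IH) (Lpr_gt (K15.f178315 IH) (Lpr_gt (f178333 IH) (Lpn (LP (LK LD1_c4 LD2_c13 LD3_c6))))))
theorem f184306 : Led Lsl_ct (LP (LK LD1_c4 LD2_c13 LD3_c7)) = (LP (LK LD1_c2 LD2_c38 LD3_c22)) :=
  Lgr Lrot59 (Lpr_cf (K15.f184300 IH) (Lpn (LP (LK LD1_c2 LD2_c38 LD3_c22))))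
theorem f311330 : Led Lsl_at (LP (LK LD1_c4 LD2_c18 LD3_c47)) = (LP (LK LD1_c4 LD2_c13 LD3_c7)) :=
  Lgr Lrot107 (Lpe (K17.f258336 IH) (Lpr_af (f311328 IH) (Lpe (f184306 IH) (Lpn (LP (LK LD1_c4 LD2_c13 LD3_c7))))))
theorem f311349 : Led Lsl_ff (LP (LK LD1_c4 LD2_c18 LD3_c47)) = (LP (LK LD1_c4 LD2_c13 LD3_c6)) :=
  Lgr Lrot30 (Lpr_at (f311330 IH) (Lpe (f311338 IH) (Lpr_at (f311342 IH) (Lpn (LP (LK LD1_c4 LD2_c13 LD3_c6))))))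
theorem f311355 : Led Lsl_ft (LP (LK LD1_c4 LD2_c18 LD3_c47)) = (LP (LK LD1_c4 LD2_c13 LD3_c6)) :=
  Lgr Lrot48 (Lpr_ff (f311349 IH) (Lpn (LP (LK LD1_c4 LD2_c13 LD3_c6))))
theorem f311361 : Led Lsl_ff (LP (LK LD1_c4 LD2_c21 LD3_c38)) = (LP (LK LD1_c4 LD2_c15 LD3_c53)) :=
  Lgr Lrot23 (Lpr_ct (K17.f258336 IH) (Lpr_ft (f311355 IH) (Lpr_ct (f310033 IH) (Lpn (LP (LK LD1_c4 LD2_c15 LD3_c53))))))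
theorem f220666 : Led Lsl_et (LP (LK LD1_c8 LD2_c30 LD3_c47)) = (LP (LK LD1_c4 LD2_c15 LD3_c53)) :=
  Lre_e IH (LK LD1_c8 LD2_c30 LD3_c47) (LK LD1_c4 LD2_c15 LD3_c53) Lrfl Lrfl
theorem f311371 : Led Lsl_ft (LP (LK LD1_c8 LD2_c18 LD3_c2)) = (LP (LK LD1_c8 LD2_c30 LD3_c47)) :=
  Lgr Lrot86 (Lpe (f219694 IH) (Lpr_ff (f310816 IH) (Lpe (f251042 IH) (Lpr_ff (f311361 IH) (Lpe (f220666 IH) (Lpn (LP (LK LD1_c8 LD2_c30 LD3_c47))))))))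
theorem f219693 : Led Lsl_gt (LP (LK LD1_c8 LD2_c18 LD3_c2)) = (LP (LK LD1_c15 LD2_c36 LD3_c24)) :=
  Lre_g IH (LK LD1_c8 LD2_c18 LD3_c2) (LK LD1_c15 LD2_c36 LD3_c24) Lrfl Lrfl
theorem f219695 : Led Lsl_gt (LP (LK LD1_c15 LD2_c36 LD3_c24)) = (LP (LK LD1_c8 LD2_c18 LD3_c3)) :=
  Lre_g IH (LK LD1_c15 LD2_c36 LD3_c24) (LK LD1_c8 LD2_c18 LD3_c3) Lrfl Lrfl
theorem f311379 : Led Lsl_af (LP (LK LD1_c8 LD2_c18 LD3_c3)) = (LP (LK LD1_c8 LD2_c30 LD3_c47)) :=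
  Lgr Lrot31 (Lpe (f219695 IH) (Lpe (f219693 IH) (Lpr_ft (f311371 IH) (Lpn (LP (LK LD1_c8 LD2_c30 LD3_c47))))))
theorem f283222 : Led Lsl_et (LP (LK LD1_c4 LD2_c15 LD3_c53)) = (LP (LK LD1_c8 LD2_c30 LD3_c47)) :=
  Lre_e IH (LK LD1_c4 LD2_c15 LD3_c53) (LK LD1_c8 LD2_c30 LD3_c47) Lrfl Lrfl
theorem f235599 : Led Lsl_bt (LP (LK LD1_c1 LD2_c16 LD3_c10)) = (LP (LK LD1_c2 LD2_c38 LD3_c17)) :=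
  Lre_b IH (LK LD1_c1 LD2_c16 LD3_c10) (LK LD1_c2 LD2_c38 LD3_c17) Lrfl Lrfl
theorem f308866 : Led Lsl_at (LP (LK LD1_c4 LD2_c21 LD3_c38)) = (LP (LK LD1_c2 LD2_c38 LD3_c22)) :=
  Lgr Lrot67 (Lpe (f308835 IH) (Lpr_af (f308864 IH) (Lpe (f235599 IH) (Lpe (K18.f300865 IH) (Lpr_bf (K15.f184293 IH) (Lpn (LP (LK LD1_c2 LD2_c38 LD3_c22))))))))
theorem f300859 : Led Lsl_ft (LP (LK LD1_c2 LD2_c38 LD3_c22)) = (LP (LK LD1_c4 LD2_c10 LD3_c41)) :=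
  Lgr Lrot75 (Lpe (K14.f184246 IH) (Lpr_ff (K18.f300857 IH) (Lpe (K18.f179733 IH) (Lpn (LP (LK LD1_c4 LD2_c10 LD3_c41))))))
theorem f311369 : Led Lsl_at (LP (LK LD1_c4 LD2_c10 LD3_c41)) = (LP (LK LD1_c4 LD2_c15 LD3_c53)) :=
  Lgr Lrot66 (Lpe (f300859 IH) (Lpe (f308866 IH) (Lpr_ff (f311361 IH) (Lpn (LP (LK LD1_c4 LD2_c15 LD3_c53))))))
theorem f311385 : Led Lsl_et (LP (LK LD1_c8 LD2_c18 LD3_c3)) = (LP (LK LD1_c4 LD2_c10 LD3_c41)) :=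
  Lgr Lrot123 (Lpr_af (f311379 IH) (Lpe (f283222 IH) (Lpe (f311369 IH) (Lpn (LP (LK LD1_c4 LD2_c10 LD3_c41))))))
theorem f311393 : Led Lsl_ef (LP (LK LD1_c8 LD2_c18 LD3_c3)) = (LP (LK LD1_c4 LD2_c10 LD3_c41)) :=
  Lgr Lrot88 (Lpr_et (f311385 IH) (Lpn (LP (LK LD1_c4 LD2_c10 LD3_c41))))
theorem f187177 : Led Lsl_et (LP (LK LD1_c4 LD2_c21 LD3_c7)) = (LP (LK LD1_c2 LD2_c8 LD3_c5)) :=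
  Lre_e IH (LK LD1_c4 LD2_c21 LD3_c7) (LK LD1_c2 LD2_c8 LD3_c5) Lrfl Lrfl
theorem f219654 : Led Lsl_et (LP (LK LD1_c4 LD2_c8 LD3_c53)) = (LP (LK LD1_c8 LD2_c17 LD3_c56)) :=
  Lre_e IH (LK LD1_c4 LD2_c8 LD3_c53) (LK LD1_c8 LD2_c17 LD3_c56) Lrfl Lrfl
theorem f219655 : Led Lsl_ft (LP (LK LD1_c8 LD2_c17 LD3_c56)) = (LP (LK LD1_c15 LD2_c36 LD3_c24)) :=
  Lre_f IH (LK LD1_c8 LD2_c17 LD3_c56) (LK LD1_c15 LD2_c36 LD3_c24) Lrfl Lrfl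
theorem f219656 : Led Lsl_ef (LP (LK LD1_c8 LD2_c39 LD3_c58)) = (LP (LK LD1_c15 LD2_c36 LD3_c24)) :=
  Lgr Lrot21 (Lpr_ft (K14.f187146 IH) (Lpr_et (f187177 IH) (Lpr_ft (K14.f219647 IH) (Lpr_et (f219654 IH) (Lpr_ft (f219655 IH) (Lpn (LP (LK LD1_c15 LD2_c36 LD3_c24))))))))
theorem f219688 : Led Lsl_et (LP (LK LD1_c8 LD2_c39 LD3_c58)) = (LP (LK LD1_c15 LD2_c36 LD3_c24)) :=
  Lgr Lrot87 (Lpr_ef (f219656 IH) (Lpn (LP (LK LD1_c15 LD2_c36 LD3_c24))))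
theorem f187145 : Led Lsl_dt (LP (LK LD1_c8 LD2_c39 LD3_c58)) = (LP (LK LD1_c16 LD2_c13 LD3_c43)) :=
  Lre_d IH (LK LD1_c8 LD2_c39 LD3_c58) (LK LD1_c16 LD2_c13 LD3_c43) Lrfl Lrfl
theorem f283258 : Led Lsl_ct (LP (LK LD1_c1 LD2_c16 LD3_c11)) = (LP (LK LD1_c2 LD2_c38 LD3_c23)) :=
  Lre_c IH (LK LD1_c1 LD2_c16 LD3_c11) (LK LD1_c2 LD2_c38 LD3_c23) Lrfl Lrfl
theorem f300725 : Led Lsl_df (LP (LK LD1_c2 LD2_c38 LD3_c23)) = (LP (LK LD1_c4 LD2_c10 LD3_c41)) :=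
  Lgr Lrot162 (Lpe (f283258 IH) (Lpr_gf (K17.f290162 IH) (Lpr_cf (K18.f200623 IH) (Lpr_gf (K18.f300719 IH) (Lpe (K17.f271165 IH) (Lpr_gt (K16.f271161 IH) (Lpr_ct (K14.f251907 IH) (Lpe (K18.f251937 IH) (Lpr_ct (f179748 IH) (Lpn (LP (LK LD1_c4 LD2_c10 LD3_c41))))))))))))
theorem f283270 : Led Lsl_gt (LP (LK LD1_c2 LD2_c38 LD3_c23)) = (LP (LK LD1_c2 LD2_c36 LD3_c7)) :=
  Lgr Lrot94 (Lpe (f283258 IH) (Lpr_gt (K17.f283266 IH) (Lpe (K11.f170617 IH) (Lpe (K11.f200129 IH) (Lpr_dt (K1.f29015 IH) (Lpe (K12.f29011 IH) (Lpe (K13.f29018 IH) (Lpr_gf (K17.f250834 IH) (Lpr_df (K16.f250632 IH) (Lpn (LP (LK LD1_c2 LD2_c36 LD3_c7))))))))))))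
theorem f254522 : Led Lsl_et (LP (LK LD1_c2 LD2_c5 LD3_c28)) = (LP (LK LD1_c4 LD2_c16 LD3_c13)) :=
  Lre_e IH (LK LD1_c2 LD2_c5 LD3_c28) (LK LD1_c4 LD2_c16 LD3_c13) Lrfl Lrfl
theorem f716 : Led Lsl_gt (LP (LK LD1_c4 LD2_c16 LD3_c13)) = (LP (LK LD1_c8 LD2_c31 LD3_c33)) :=
  Lre_g IH (LK LD1_c4 LD2_c16 LD3_c13) (LK LD1_c8 LD2_c31 LD3_c33) Lrfl Lrfl
theorem f47652 : Led Lsl_gt (LP (LK LD1_c5 LD2_c15 LD3_c53)) = (LP (LK LD1_c10 LD2_c21 LD3_c6)) :=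
  Lre_g IH (LK LD1_c5 LD2_c15 LD3_c53) (LK LD1_c10 LD2_c21 LD3_c6) Lrfl Lrfl
theorem f275705 : Led Lsl_et (LP (LK LD1_c10 LD2_c27 LD3_c55)) = (LP (LK LD1_c10 LD2_c24 LD3_c59)) :=
  Lgr Lrot71 (Lpr_df (K16.f254533 IH) (Lpr_ef (K16.f271410 IH) (Lpr_df (K18.f275701 IH) (Lpe (K18.f275697 IH) (Lpe (K18.f271274 IH) (Lpn (LP (LK LD1_c10 LD2_c24 LD3_c59))))))))
theorem f275711 : Led Lsl_ef (LP (LK LD1_c10 LD2_c27 LD3_c55)) = (LP (LK LD1_c10 LD2_c24 LD3_c59)) :=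
  Lgr Lrot88 (Lpr_et (f275705 IH) (Lpn (LP (LK LD1_c10 LD2_c24 LD3_c59))))
theorem f271402 : Led Lsl_at (LP (LK LD1_c10 LD2_c27 LD3_c55)) = (LP (LK LD1_c10 LD2_c28 LD3_c6)) :=
  Lgr Lrot100 (Lpr_af (K16.f271398 IH) (Lpn (LP (LK LD1_c10 LD2_c28 LD3_c6))))
theorem f275713 : Led Lsl_et (LP (LK LD1_c10 LD2_c28 LD3_c6)) = (LP (LK LD1_c10 LD2_c27 LD3_c58)) :=
  Lgr Lrot123 (Lpe (f271402 IH) (Lpr_ef (f275711 IH) (Lpe (K18.f271295 IH) (Lpn (LP (LK LD1_c10 LD2_c27 LD3_c58))))))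
theorem f271412 : Led Lsl_gt (LP (LK LD1_c8 LD2_c31 LD3_c33)) = (LP (LK LD1_c8 LD2_c41 LD3_c29)) :=
  Lgr Lrot46 (Lpe (f716 IH) (Lpr_ft (K16.f254532 IH) (Lpr_at (K16.f271404 IH) (Lpn (LP (LK LD1_c8 LD2_c41 LD3_c29))))))
theorem f294173 : Led Lsl_dt (LP (LK LD1_c10 LD2_c21 LD3_c6)) = (LP (LK LD1_c8 LD2_c31 LD3_c33)) :=
  Lgr Lrot171 (Lpe (f47652 IH) (Lpe (K12.f47643 IH) (Lpr_dt (K12.f47561 IH) (Lpe (K14.f212475 IH) (Lpe (K15.f256478 IH) (Lpr_et (K18.f294158 IH) (Lpr_gf (K16.f275632 IH) (Lpe (f275713 IH) (Lpr_dt (K16.f216755 IH) (Lpe (f271412 IH) (Lpn (LP (LK LD1_c8 LD2_c31 LD3_c33)))))))))))))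
theorem f294175 : Led Lsl_df (LP (LK LD1_c10 LD2_c21 LD3_c6)) = (LP (LK LD1_c8 LD2_c31 LD3_c33)) :=
  Lgr Lrot38 (Lpr_dt (f294173 IH) (Lpn (LP (LK LD1_c8 LD2_c31 LD3_c33))))
theorem f311405 : Led Lsl_gf (LP (LK LD1_c16 LD2_c13 LD3_c43)) = (LP (LK LD1_c10 LD2_c21 LD3_c6)) :=
  Lgr Lrot134 (Lpe (f187145 IH) (Lpr_et (f219688 IH) (Lpr_gt (f219695 IH) (Lpr_ef (f311393 IH) (Lpe (f300725 IH) (Lpr_gt (f283270 IH) (Lpr_df (K16.f254515 IH) (Lpr_et (f254522 IH) (Lpr_gt (f716 IH) (Lpe (f294175 IH) (Lpn (LP (LK LD1_c10 LD2_c21 LD3_c6)))))))))))))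
theorem f47649 : Led Lsl_ft (LP (LK LD1_c5 LD2_c15 LD3_c53)) = (LP (LK LD1_c10 LD2_c21 LD3_c8)) :=
  Lre_f IH (LK LD1_c5 LD2_c15 LD3_c53) (LK LD1_c10 LD2_c21 LD3_c8) Lrfl Lrfl
theorem f311407 : Led Lsl_af (LP (LK LD1_c16 LD2_c13 LD3_c43)) = (LP (LK LD1_c10 LD2_c21 LD3_c8)) :=
  Lgr Lrot31 (Lpr_gf (f311405 IH) (Lpe (f47652 IH) (Lpr_ft (f47649 IH) (Lpn (LP (LK LD1_c10 LD2_c21 LD3_c8))))))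
theorem f311413 : Led Lsl_at (LP (LK LD1_c8 LD2_c39 LD3_c57)) = (LP (LK LD1_c5 LD2_c15 LD3_c53)) :=
  Lgr Lrot66 (Lpe (K14.f187134 IH) (Lpr_af (f311407 IH) (Lpe (f47649 IH) (Lpn (LP (LK LD1_c5 LD2_c15 LD3_c53))))))
theorem f47653 : Led Lsl_et (LP (LK LD1_c5 LD2_c15 LD3_c53)) = (LP (LK LD1_c2 LD2_c34 LD3_c46)) :=
  Lre_e IH (LK LD1_c5 LD2_c15 LD3_c53) (LK LD1_c2 LD2_c34 LD3_c46) Lrfl Lrfl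
theorem f311421 : Led Lsl_af (LP (LK LD1_c4 LD2_c21 LD3_c9)) = (LP (LK LD1_c2 LD2_c34 LD3_c46)) :=
  Lgr Lrot50 (Lpr_et (K14.f187127 IH) (Lpr_at (f311413 IH) (Lpr_et (f47653 IH) (Lpn (LP (LK LD1_c2 LD2_c34 LD3_c46))))))
theorem f311431 : Led Lsl_ft (LP (LK LD1_c4 LD2_c27 LD3_c9)) = (LP (LK LD1_c2 LD2_c34 LD3_c46)) :=
  Lgr Lrot2 (Lpr_gt (K14.f46397 IH) (Lpe (K10.f46405 IH) (Lpr_af (f311421 IH) (Lpn (LP (LK LD1_c2 LD2_c34 LD3_c46))))))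
theorem f311441 : Led Lsl_ff (LP (LK LD1_c4 LD2_c27 LD3_c9)) = (LP (LK LD1_c2 LD2_c34 LD3_c46)) :=
  Lgr Lrot3 (Lpr_ft (f311431 IH) (Lpn (LP (LK LD1_c2 LD2_c34 LD3_c46))))
theorem f311451 : Led Lsl_at (LP (LK LD1_c4 LD2_c27 LD3_c9)) = (LP (LK LD1_c2 LD2_c37 LD3_c16)) :=
  Lgr Lrot26 (Lpr_ff (f311441 IH) (Lpe (K12.f212468 IH) (Lpr_gt (K10.f43943 IH) (Lpn (LP (LK LD1_c2 LD2_c37 LD3_c16))))))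
theorem f311425 : Led Lsl_at (LP (LK LD1_c4 LD2_c21 LD3_c9)) = (LP (LK LD1_c2 LD2_c34 LD3_c46)) :=
  Lgr Lrot100 (Lpr_af (f311421 IH) (Lpn (LP (LK LD1_c2 LD2_c34 LD3_c46))))
theorem f311461 : Led Lsl_ff (LP (LK LD1_c4 LD2_c21 LD3_c9)) = (LP (LK LD1_c2 LD2_c37 LD3_c16)) :=
  Lgr Lrot30 (Lpr_at (f311425 IH) (Lpe (f311441 IH) (Lpr_at (f311451 IH) (Lpn (LP (LK LD1_c2 LD2_c37 LD3_c16))))))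
theorem f187124 : Led Lsl_ft (LP (LK LD1_c2 LD2_c8 LD3_c6)) = (LP (LK LD1_c4 LD2_c21 LD3_c10)) :=
  Lre_f IH (LK LD1_c2 LD2_c8 LD3_c6) (LK LD1_c4 LD2_c21 LD3_c10) Lrfl Lrfl
theorem f261339 : Led Lsl_at (LP (LK LD1_c4 LD2_c21 LD3_c10)) = (LP (LK LD1_c8 LD2_c15 LD3_c41)) :=
  Lgr Lrot26 (Lpe (f187124 IH) (Lpr_gt (K15.f261333 IH) (Lpr_gt (K17.f230863 IH) (Lpn (LP (LK LD1_c8 LD2_c15 LD3_c41))))))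
theorem f311457 : Led Lsl_df (LP (LK LD1_c4 LD2_c21 LD3_c10)) = (LP (LK LD1_c2 LD2_c37 LD3_c16)) :=
  Lgr Lrot18 (Lpr_at (f261339 IH) (Lpr_dt (K17.f288493 IH) (Lpr_at (f311451 IH) (Lpn (LP (LK LD1_c2 LD2_c37 LD3_c16))))))
theorem f311473 : Led Lsl_cf (LP (LK LD1_c5 LD2_c1 LD3_c19)) = (LP (LK LD1_c4 LD2_c21 LD3_c10)) :=
  Lgr Lrot118 (Lpe (K14.f254260 IH) (Lpe (K10.f194160 IH) (Lpr_dt (K14.f215266 IH) (Lpe (K14.f215267 IH) (Lpr_dt (K14.f45406 IH) (Lpr_ct (K14.f45405 IH) (Lpe (f311425 IH) (Lpr_ff (f311461 IH) (Lpe (f311457 IH) (Lpn (LP (LK LD1_c4 LD2_c21 LD3_c10))))))))))))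
theorem f253488 : Led Lsl_bf (LP (LK LD1_c4 LD2_c18 LD3_c58)) = (LP (LK LD1_c4 LD2_c12 LD3_c16)) :=
  Lgr Lrot24 (Lpr_bt (K14.f253482 IH) (Lpn (LP (LK LD1_c4 LD2_c12 LD3_c16))))
theorem f240262 : Led Lsl_ct (LP (LK LD1_c1 LD2_c25 LD3_c3)) = (LP (LK LD1_c2 LD2_c58 LD3_c36)) :=
  Lre_c IH (LK LD1_c1 LD2_c25 LD3_c3) (LK LD1_c2 LD2_c58 LD3_c36) Lrfl Lrfl
theorem f240283 : Led Lsl_bt (LP (LK LD1_c1 LD2_c25 LD3_c3)) = (LP (LK LD1_c2 LD2_c58 LD3_c34)) :=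
  Lre_b IH (LK LD1_c1 LD2_c25 LD3_c3) (LK LD1_c2 LD2_c58 LD3_c34) Lrfl Lrfl
theorem f187115 : Led Lsl_ft (LP (LK LD1_c4 LD2_c21 LD3_c10)) = (LP (LK LD1_c2 LD2_c8 LD3_c6)) :=
  Lre_f IH (LK LD1_c4 LD2_c21 LD3_c10) (LK LD1_c2 LD2_c8 LD3_c6) Lrfl Lrfl
theorem f186894 : Led Lsl_ft (LP (LK LD1_c2 LD2_c23 LD3_c23)) = (LP (LK LD1_c4 LD2_c51 LD3_c7)) :=
  Lre_f IH (LK LD1_c2 LD2_c23 LD3_c23) (LK LD1_c4 LD2_c51 LD3_c7) Lrfl Lrfl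
theorem f187116 : Led Lsl_bf (LP (LK LD1_c4 LD2_c21 LD3_c10)) = (LP (LK LD1_c4 LD2_c51 LD3_c7)) :=
  Lgr Lrot61 (Lpr_ft (f187115 IH) (Lpr_bt (K10.f187109 IH) (Lpr_ft (f186894 IH) (Lpn (LP (LK LD1_c4 LD2_c51 LD3_c7))))))
theorem f187118 : Led Lsl_bt (LP (LK LD1_c4 LD2_c21 LD3_c10)) = (LP (LK LD1_c4 LD2_c51 LD3_c7)) :=
  Lgr Lrot127 (Lpr_bf (f187116 IH) (Lpn (LP (LK LD1_c4 LD2_c51 LD3_c7))))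
theorem f311483 : Led Lsl_gt (LP (LK LD1_c2 LD2_c58 LD3_c34)) = (LP (LK LD1_c4 LD2_c51 LD3_c7)) :=
  Lgr Lrot164 (Lpe (f240283 IH) (Lpr_ct (f240262 IH) (Lpe (K15.f256272 IH) (Lpe (K12.f229917 IH) (Lpr_gf (K12.f229516 IH) (Lpr_bf (f253488 IH) (Lpe (K15.f253504 IH) (Lpr_gf (K16.f278418 IH) (Lpr_cf (f311473 IH) (Lpr_bt (f187118 IH) (Lpn (LP (LK LD1_c4 LD2_c51 LD3_c7)))))))))))))
theorem f45872 : Led Lsl_cf (LP (LK LD1_c0 LD2_c56 LD3_c0)) = (LP (LK LD1_c0 LD2_c34 LD3_c55)) :=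
  Lgr Lrot11 (Lpr_ct (K1.f45867 IH) (Lpn (LP (LK LD1_c0 LD2_c34 LD3_c55))))
theorem f265924 : Led Lsl_dt (LP (LK LD1_c5 LD2_c6 LD3_c5)) = (LP (LK LD1_c2 LD2_c58 LD3_c34)) :=
  Lgr Lrot105 (Lpr_gf (K15.f265904 IH) (Lpe (K15.f186850 IH) (Lpr_gf (K10.f186855 IH) (Lpr_cf (f45872 IH) (Lpe (K9.f184614 IH) (Lpr_dt (K15.f3782 IH) (Lpr_gt (K15.f184765 IH) (Lpr_dt (K15.f184817 IH) (Lpr_cf (K15.f192197 IH) (Lpn (LP (LK LD1_c2 LD2_c58 LD3_c34))))))))))))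
theorem f265926 : Led Lsl_cf (LP (LK LD1_c2 LD2_c58 LD3_c34)) = (LP (LK LD1_c1 LD2_c58 LD3_c33)) :=
  Lgr Lrot14 (Lpe (f265924 IH) (Lpr_gf (K15.f265904 IH) (Lpe (K15.f186850 IH) (Lpr_gf (K10.f186855 IH) (Lpr_ct (K1.f45867 IH) (Lpe (K9.f184614 IH) (Lpr_dt (K15.f3782 IH) (Lpr_gt (K15.f184765 IH) (Lpr_dt (K15.f184817 IH) (Lpn (LP (LK LD1_c1 LD2_c58 LD3_c33))))))))))))
theorem f187120 : Led Lsl_ct (LP (LK LD1_c2 LD2_c23 LD3_c28)) = (LP (LK LD1_c4 LD2_c51 LD3_c7)) :=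
  Lre_c IH (LK LD1_c2 LD2_c23 LD3_c28) (LK LD1_c4 LD2_c51 LD3_c7) Lrfl Lrfl
theorem f187123 : Led Lsl_bt (LP (LK LD1_c2 LD2_c23 LD3_c28)) = (LP (LK LD1_c4 LD2_c51 LD3_c3)) :=
  Lre_b IH (LK LD1_c2 LD2_c23 LD3_c28) (LK LD1_c4 LD2_c51 LD3_c3) Lrfl Lrfl
theorem f311493 : Led Lsl_gf (LP (LK LD1_c4 LD2_c12 LD3_c33)) = (LP (LK LD1_c4 LD2_c51 LD3_c3)) :=
  Lgr Lrot124 (Lpe (K15.f219194 IH) (Lpe (K13.f219191 IH) (Lpr_gt (K13.f219187 IH) (Lpe (K10.f46483 IH) (Lpr_bt (K10.f187109 IH) (Lpr_gt (K15.f256277 IH) (Lpe (f265926 IH) (Lpr_gt (f311483 IH) (Lpe (f187120 IH) (Lpr_bt (f187123 IH) (Lpn (LP (LK LD1_c4 LD2_c51 LD3_c3)))))))))))))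
theorem f234201 : Led Lsl_dt (LP (LK LD1_c5 LD2_c15 LD3_c20)) = (LP (LK LD1_c4 LD2_c8 LD3_c33)) :=
  Lgr Lrot6 (Lpr_gt (K13.f47551 IH) (Lpr_ct (K13.f47539 IH) (Lpr_gt (K13.f234197 IH) (Lpr_ct (K13.f220567 IH) (Lpe (K13.f220568 IH) (Lpe (K13.f217109 IH) (Lpe (K13.f234112 IH) (Lpe (K13.f199695 IH) (Lpe (K13.f199704 IH) (Lpn (LP (LK LD1_c4 LD2_c8 LD3_c33))))))))))))
theorem f311509 : Led Lsl_et (LP (LK LD1_c5 LD2_c15 LD3_c20)) = (LP (LK LD1_c4 LD2_c51 LD3_c3)) :=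
  Lgr Lrot121 (Lpr_dt (f234201 IH) (Lpe (K13.f234242 IH) (Lpe (K13.f190824 IH) (Lpr_et (K16.f234250 IH) (Lpe (K16.f259711 IH) (Lpe (K16.f49916 IH) (Lpr_dt (K13.f45066 IH) (Lpr_gf (K15.f259699 IH) (Lpe (K16.f246159 IH) (Lpr_gf (f311493 IH) (Lpn (LP (LK LD1_c4 LD2_c51 LD3_c3)))))))))))))
theorem f311515 : Led Lsl_ef (LP (LK LD1_c5 LD2_c15 LD3_c20)) = (LP (LK LD1_c4 LD2_c51 LD3_c3)) :=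
  Lgr Lrot88 (Lpr_et (f311509 IH) (Lpn (LP (LK LD1_c4 LD2_c51 LD3_c3))))
theorem f191346 : Led Lsl_dt (LP (LK LD1_c8 LD2_c15 LD3_c12)) = (LP (LK LD1_c4 LD2_c7 LD3_c37)) :=
  Lre_d IH (LK LD1_c8 LD2_c15 LD3_c12) (LK LD1_c4 LD2_c7 LD3_c37) Lrfl Lrfl
theorem f191347 : Led Lsl_gf (LP (LK LD1_c8 LD2_c15 LD3_c12)) = (LP (LK LD1_c10 LD2_c23 LD3_c38)) :=
  Lgr Lrot143 (Lpr_dt (f191346 IH) (Lpe (K15.f49917 IH) (Lpe (K13.f49900 IH) (Lpe (K10.f49899 IH) (Lpe (K9.f49593 IH) (Lpr_gf (K10.f191309 IH) (Lpe (K15.f8476 IH) (Lpe (K10.f191177 IH) (Lpr_dt (K10.f165903 IH) (Lpn (LP (LK LD1_c10 LD2_c23 LD3_c38))))))))))))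
theorem f251439 : Led Lsl_ct (LP (LK LD1_c8 LD2_c15 LD3_c12)) = (LP (LK LD1_c10 LD2_c23 LD3_c43)) :=
  Lgr Lrot110 (Lpr_gf (f191347 IH) (Lpe (K10.f165902 IH) (Lpr_gf (K10.f184196 IH) (Lpe (K15.f184200 IH) (Lpr_gt (K14.f251432 IH) (Lpr_ct (K14.f169541 IH) (Lpe (K15.f242350 IH) (Lpr_ct (K14.f33084 IH) (Lpe (K18.f171553 IH) (Lpn (LP (LK LD1_c10 LD2_c23 LD3_c43))))))))))))
theorem f189523 : Led Lsl_dt (LP (LK LD1_c4 LD2_c7 LD3_c37)) = (LP (LK LD1_c8 LD2_c15 LD3_c12)) :=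
  Lre_d IH (LK LD1_c4 LD2_c7 LD3_c37) (LK LD1_c8 LD2_c15 LD3_c12) Lrfl Lrfl
theorem f284930 : Led Lsl_gf (LP (LK LD1_c10 LD2_c43 LD3_c32)) = (LP (LK LD1_c6 LD2_c5 LD3_c61)) :=
  Lgr Lrot148 (Lpr_dt (K17.f257872 IH) (Lpe (K15.f264098 IH) (Lpr_dt (f189523 IH) (Lpr_ct (f251439 IH) (Lpe (K16.f189518 IH) (Lpr_gf (K14.f191150 IH) (Lpe (K18.f284928 IH) (Lpr_gf (K17.f284923 IH) (Lpe (K17.f188339 IH) (Lpn (LP (LK LD1_c6 LD2_c5 LD3_c61))))))))))))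
theorem f251435 : Led Lsl_ct (LP (LK LD1_c10 LD2_c43 LD3_c32)) = (LP (LK LD1_c10 LD2_c2 LD3_c7)) :=
  Lgr Lrot7 (Lpe (K15.f251434 IH) (Lpe (K15.f198747 IH) (Lpe (K15.f191148 IH) (Lpe (K15.f231580 IH) (Lpe (K10.f184154 IH) (Lpr_gt (K10.f184189 IH) (Lpr_dt (K10.f184119 IH) (Lpr_gt (K14.f251432 IH) (Lpr_dt (K15.f169540 IH) (Lpn (LP (LK LD1_c10 LD2_c2 LD3_c7))))))))))))
theorem f183696 : Led Lsl_ct (LP (LK LD1_c5 LD2_c17 LD3_c1)) = (LP (LK LD1_c2 LD2_c35 LD3_c15)) :=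
  Lre_c IH (LK LD1_c5 LD2_c17 LD3_c1) (LK LD1_c2 LD2_c35 LD3_c15) Lrfl Lrfl
theorem f190997 : Led Lsl_ct (LP (LK LD1_c10 LD2_c9 LD3_c54)) = (LP (LK LD1_c5 LD2_c9 LD3_c35)) :=
  Lre_c IH (LK LD1_c10 LD2_c9 LD3_c54) (LK LD1_c5 LD2_c9 LD3_c35) Lrfl Lrfl
theorem f273635 : Led Lsl_gf (LP (LK LD1_c5 LD2_c17 LD3_c1)) = (LP (LK LD1_c10 LD2_c9 LD3_c54)) :=
  Lgr Lrot144 (Lpr_dt (K16.f254574 IH) (Lpr_gt (K16.f273630 IH) (Lpr_dt (K9.f49793 IH) (Lpe (K10.f49650 IH) (Lpe (K10.f49649 IH) (Lpe (K10.f53583 IH) (Lpe (K13.f44990 IH) (Lpr_gf (K15.f259699 IH) (Lpe (f190997 IH) (Lpn (LP (LK LD1_c10 LD2_c9 LD3_c54))))))))))))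
theorem f285441 : Led Lsl_df (LP (LK LD1_c10 LD2_c9 LD3_c54)) = (LP (LK LD1_c10 LD2_c25 LD3_c20)) :=
  Lgr Lrot155 (Lpe (f273635 IH) (Lpr_ct (f183696 IH) (Lpe (K9.f183694 IH) (Lpr_ct (K14.f169539 IH) (Lpr_dt (K15.f169540 IH) (Lpe (f251435 IH) (Lpr_gf (f284930 IH) (Lpr_cf (K17.f188339 IH) (Lpr_gf (K17.f285433 IH) (Lpn (LP (LK LD1_c10 LD2_c25 LD3_c20))))))))))))
theorem f311499 : Led Lsl_dt (LP (LK LD1_c2 LD2_c28 LD3_c28)) = (LP (LK LD1_c4 LD2_c51 LD3_c3)) :=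
  Lgr Lrot57 (Lpr_gf (K9.f184106 IH) (Lpe (K9.f49114 IH) (Lpe (K10.f188289 IH) (Lpr_dt (K17.f188305 IH) (Lpr_gt (K17.f188306 IH) (Lpe (f285441 IH) (Lpe (K18.f180609 IH) (Lpe (K16.f246159 IH) (Lpr_gf (f311493 IH) (Lpn (LP (LK LD1_c4 LD2_c51 LD3_c3))))))))))))
theorem f184116 : Led Lsl_et (LP (LK LD1_c5 LD2_c1 LD3_c32)) = (LP (LK LD1_c2 LD2_c28 LD3_c28)) :=
  Lre_e IH (LK LD1_c5 LD2_c1 LD3_c32) (LK LD1_c2 LD2_c28 LD3_c28) Lrfl Lrfl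
theorem f311525 : Led Lsl_dt (LP (LK LD1_c8 LD2_c17 LD3_c11)) = (LP (LK LD1_c5 LD2_c1 LD3_c32)) :=
  Lgr Lrot77 (Lpe (K13.f234245 IH) (Lpe (f234201 IH) (Lpr_ef (f311515 IH) (Lpe (f311499 IH) (Lpe (f184116 IH) (Lpn (LP (LK LD1_c5 LD2_c1 LD3_c32))))))))
theorem f311527 : Led Lsl_bt (LP (LK LD1_c5 LD2_c1 LD3_c32)) = (LP (LK LD1_c2 LD2_c28 LD3_c30)) :=
  Lre_b IH (LK LD1_c5 LD2_c1 LD3_c32) (LK LD1_c2 LD2_c28 LD3_c30) Lrfl Lrfl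
theorem f311528 : Led Lsl_df (LP (LK LD1_c4 LD2_c31 LD3_c19)) = (LP (LK LD1_c2 LD2_c28 LD3_c30)) :=
  Lgr Lrot12 (Lpr_bt (K13.f234258 IH) (Lpr_dt (f311525 IH) (Lpr_bt (f311527 IH) (Lpn (LP (LK LD1_c2 LD2_c28 LD3_c30))))))
theorem f21862 : Led Lsl_et (LP (LK LD1_c2 LD2_c28 LD3_c30)) = (LP (LK LD1_c1 LD2_c11 LD3_c28)) :=
  Lre_e IH (LK LD1_c2 LD2_c28 LD3_c30) (LK LD1_c1 LD2_c11 LD3_c28) Lrfl Lrfl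
theorem f33179 : Led Lsl_et (LP (LK LD1_c5 LD2_c8 LD3_c33)) = (LP (LK LD1_c2 LD2_c31 LD3_c29)) :=
  Lre_e IH (LK LD1_c5 LD2_c8 LD3_c33) (LK LD1_c2 LD2_c31 LD3_c29) Lrfl Lrfl
theorem f33153 : Led Lsl_et (LP (LK LD1_c4 LD2_c20 LD3_c24)) = (LP (LK LD1_c2 LD2_c7 LD3_c39)) :=
  Lre_e IH (LK LD1_c4 LD2_c20 LD3_c24) (LK LD1_c2 LD2_c7 LD3_c39) Lrfl Lrfl
theorem f33154 : Led Lsl_et (LP (LK LD1_c2 LD2_c31 LD3_c29)) = (LP (LK LD1_c5 LD2_c8 LD3_c33)) :=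
  Lre_e IH (LK LD1_c2 LD2_c31 LD3_c29) (LK LD1_c5 LD2_c8 LD3_c33) Lrfl Lrfl
theorem f33155 : Led Lsl_df (LP (LK LD1_c4 LD2_c20 LD3_c24)) = (LP (LK LD1_c5 LD2_c8 LD3_c33)) :=
  Lgr Lrot70 (Lpr_et (f33153 IH) (Lpr_dt (K15.f33152 IH) (Lpr_et (K15.f33151 IH) (Lpr_dt (K13.f33145 IH) (Lpr_et (f33154 IH) (Lpn (LP (LK LD1_c5 LD2_c8 LD3_c33))))))))
theorem f311551 : Led Lsl_gt (LP (LK LD1_c4 LD2_c31 LD3_c19)) = (LP (LK LD1_c4 LD2_c20 LD3_c24)) :=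
  Lgr Lrot112 (Lpr_df (f311528 IH) (Lpr_et (f21862 IH) (Lpe (K9.f21861 IH) (Lpe (K0.f21735 IH) (Lpr_dt (K0.f21853 IH) (Lpe (K10.f21859 IH) (Lpe (K13.f21860 IH) (Lpr_gf (K13.f240228 IH) (Lpe (f33179 IH) (Lpe (f33155 IH) (Lpn (LP (LK LD1_c4 LD2_c20 LD3_c24)))))))))))))
theorem f234264 : Led Lsl_et (LP (LK LD1_c2 LD2_c12 LD3_c38)) = (LP (LK LD1_c4 LD2_c31 LD3_c19)) :=
  Lre_e IH (LK LD1_c2 LD2_c12 LD3_c38) (LK LD1_c4 LD2_c31 LD3_c19) Lrfl Lrfl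
theorem f33166 : Led Lsl_dt (LP (LK LD1_c4 LD2_c20 LD3_c24)) = (LP (LK LD1_c5 LD2_c8 LD3_c33)) :=
  Lgr Lrot42 (Lpr_df (f33155 IH) (Lpn (LP (LK LD1_c5 LD2_c8 LD3_c33))))
theorem f33175 : Led Lsl_gt (LP (LK LD1_c5 LD2_c8 LD3_c33)) = (LP (LK LD1_c10 LD2_c7 LD3_c30)) :=
  Lre_g IH (LK LD1_c5 LD2_c8 LD3_c33) (LK LD1_c10 LD2_c7 LD3_c30) Lrfl Lrfl
theorem f171312 : Led Lsl_gt (LP (LK LD1_c7 LD2_c58 LD3_c47)) = (LP (LK LD1_c3 LD2_c58 LD3_c37)) :=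
  Lre_g IH (LK LD1_c7 LD2_c58 LD3_c47) (LK LD1_c3 LD2_c58 LD3_c37) Lrfl Lrfl
theorem f171313 : Led Lsl_et (LP (LK LD1_c15 LD2_c3 LD3_c24)) = (LP (LK LD1_c7 LD2_c58 LD3_c47)) :=
  Lre_e IH (LK LD1_c15 LD2_c3 LD3_c24) (LK LD1_c7 LD2_c58 LD3_c47) Lrfl Lrfl
theorem f246896 : Led Lsl_df (LP (LK LD1_c10 LD2_c7 LD3_c30)) = (LP (LK LD1_c15 LD2_c3 LD3_c24)) :=
  Lgr Lrot168 (Lpe (f33175 IH) (Lpe (f33166 IH) (Lpr_et (f33153 IH) (Lpe (K15.f241894 IH) (Lpe (K15.f190245 IH) (Lpr_dt (K14.f190246 IH) (Lpr_gf (K16.f246891 IH) (Lpe (K14.f246856 IH) (Lpe (f171312 IH) (Lpe (f171313 IH) (Lpn (LP (LK LD1_c15 LD2_c3 LD3_c24)))))))))))))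
theorem f171304 : Led Lsl_et (LP (LK LD1_c1 LD2_c56 LD3_c3)) = (LP (LK LD1_c3 LD2_c58 LD3_c37)) :=
  Lre_e IH (LK LD1_c1 LD2_c56 LD3_c3) (LK LD1_c3 LD2_c58 LD3_c37) Lrfl Lrfl
theorem f168856 : Led Lsl_gt (LP (LK LD1_c1 LD2_c19 LD3_c36)) = (LP (LK LD1_c2 LD2_c46 LD3_c27)) :=
  Lre_g IH (LK LD1_c1 LD2_c19 LD3_c36) (LK LD1_c2 LD2_c46 LD3_c27) Lrfl Lrfl
theorem f311554 : Led Lsl_dt (LP (LK LD1_c2 LD2_c12 LD3_c38)) = (LP (LK LD1_c2 LD2_c46 LD3_c27)) :=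
  Lgr Lrot37 (Lpr_et (f234264 IH) (Lpr_gt (f311551 IH) (Lpr_dt (f33166 IH) (Lpr_gt (f33175 IH) (Lpr_df (f246896 IH) (Lpr_et (f171313 IH) (Lpr_gt (f171312 IH) (Lpe (f171304 IH) (Lpr_dt (K14.f171264 IH) (Lpr_gt (f168856 IH) (Lpn (LP (LK LD1_c2 LD2_c46 LD3_c27)))))))))))))
theorem f311540 : Led Lsl_et (LP (LK LD1_c1 LD2_c11 LD3_c28)) = (LP (LK LD1_c2 LD2_c28 LD3_c30)) :=
  Lre_e IH (LK LD1_c1 LD2_c11 LD3_c28) (LK LD1_c2 LD2_c28 LD3_c30) Lrfl Lrfl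
theorem f187122 : Led Lsl_ct (LP (LK LD1_c4 LD2_c51 LD3_c7)) = (LP (LK LD1_c2 LD2_c23 LD3_c28)) :=
  Lre_c IH (LK LD1_c4 LD2_c51 LD3_c7) (LK LD1_c2 LD2_c23 LD3_c28) Lrfl Lrfl
theorem f311489 : Led Lsl_df (LP (LK LD1_c1 LD2_c11 LD3_c28)) = (LP (LK LD1_c2 LD2_c23 LD3_c28)) :=
  Lgr Lrot162 (Lpe (K14.f3586 IH) (Lpr_gf (K13.f184544 IH) (Lpe (K9.f45866 IH) (Lpe (K10.f44041 IH) (Lpe (K10.f186857 IH) (Lpr_gt (K15.f256277 IH) (Lpe (f265926 IH) (Lpr_gt (f311483 IH) (Lpr_ct (f187122 IH) (Lpn (LP (LK LD1_c2 LD2_c23 LD3_c28))))))))))))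
theorem f311590 : Led Lsl_ef (LP (LK LD1_c2 LD2_c23 LD3_c28)) = (LP (LK LD1_c2 LD2_c46 LD3_c27)) :=
  Lgr Lrot73 (Lpe (f311489 IH) (Lpr_et (f311540 IH) (Lpe (f311528 IH) (Lpr_et (K13.f212619 IH) (Lpr_dt (f311554 IH) (Lpn (LP (LK LD1_c2 LD2_c46 LD3_c27))))))))
theorem f238085 : Led Lsl_ft (LP (LK LD1_c1 LD2_c8 LD3_c54)) = (LP (LK LD1_c2 LD2_c23 LD3_c36)) :=
  Lre_f IH (LK LD1_c1 LD2_c8 LD3_c54) (LK LD1_c2 LD2_c23 LD3_c36) Lrfl Lrfl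
theorem f246819 : Led Lsl_af (LP (LK LD1_c2 LD2_c46 LD3_c27)) = (LP (LK LD1_c2 LD2_c23 LD3_c36)) :=
  Lgr Lrot31 (Lpe (f168856 IH) (Lpr_gf (K14.f246817 IH) (Lpr_ft (f238085 IH) (Lpn (LP (LK LD1_c2 LD2_c23 LD3_c36))))))
theorem f311595 : Led Lsl_et (LP (LK LD1_c4 LD2_c19 LD3_c4)) = (LP (LK LD1_c2 LD2_c23 LD3_c36)) :=
  Lgr Lrot123 (Lpr_af (K17.f265951 IH) (Lpr_ef (f311590 IH) (Lpr_af (f246819 IH) (Lpn (LP (LK LD1_c2 LD2_c23 LD3_c36))))))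
theorem f311610 : Led Lsl_gf (LP (LK LD1_c1 LD2_c25 LD3_c30)) = (LP (LK LD1_c2 LD2_c23 LD3_c36)) :=
  Lgr Lrot141 (Lpe (K14.f168987 IH) (Lpr_dt (K14.f168942 IH) (Lpr_gt (K16.f274652 IH) (Lpe (K15.f177444 IH) (Lpe (K16.f274661 IH) (Lpr_gt (K16.f3721 IH) (Lpr_dt (K0.f3316 IH) (Lpr_gt (K12.f33358 IH) (Lpr_df (K16.f213491 IH) (Lpr_et (f311595 IH) (Lpn (LP (LK LD1_c2 LD2_c23 LD3_c36)))))))))))))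
theorem f7838 : Led Lsl_bt (LP (LK LD1_c0 LD2_c27 LD3_c18)) = (LP (LK LD1_c1 LD2_c0 LD3_c1)) :=
  Lre_b IH (LK LD1_c0 LD2_c27 LD3_c18) (LK LD1_c1 LD2_c0 LD3_c1) Lrfl Lrfl
theorem f276642 : Led Lsl_cf (LP (LK LD1_c2 LD2_c3 LD3_c43)) = (LP (LK LD1_c2 LD2_c6 LD3_c3)) :=
  Lgr Lrot11 (Lpr_ct (K16.f276638 IH) (Lpn (LP (LK LD1_c2 LD2_c6 LD3_c3))))
theorem f276648 : Led Lsl_gt (LP (LK LD1_c2 LD2_c3 LD3_c43)) = (LP (LK LD1_c2 LD2_c7 LD3_c23)) :=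
  Lgr Lrot180 (Lpr_ct (K16.f276638 IH) (Lpr_gt (K14.f246149 IH) (Lpe (K14.f246144 IH) (Lpr_gt (K12.f199015 IH) (Lpr_dt (K12.f199027 IH) (Lpr_ct (K12.f199174 IH) (Lpe (K10.f166515 IH) (Lpe (K16.f166984 IH) (Lpe (K17.f253256 IH) (Lpn (LP (LK LD1_c2 LD2_c7 LD3_c23))))))))))))
theorem f311621 : Led Lsl_bt (LP (LK LD1_c4 LD2_c19 LD3_c51)) = (LP (LK LD1_c2 LD2_c23 LD3_c36)) :=
  Lgr Lrot22 (Lpr_ct (K16.f253258 IH) (Lpe (f276648 IH) (Lpr_cf (f276642 IH) (Lpe (K14.f7848 IH) (Lpe (f7838 IH) (Lpr_ct (K9.f7882 IH) (Lpr_gf (K9.f177160 IH) (Lpe (K9.f20631 IH) (Lpr_bt (f20817 IH) (Lpr_gf (f311610 IH) (Lpn (LP (LK LD1_c2 LD2_c23 LD3_c36)))))))))))))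
theorem f238084 : Led Lsl_ft (LP (LK LD1_c2 LD2_c23 LD3_c36)) = (LP (LK LD1_c1 LD2_c8 LD3_c54)) :=
  Lre_f IH (LK LD1_c2 LD2_c23 LD3_c36) (LK LD1_c1 LD2_c8 LD3_c54) Lrfl Lrfl
theorem f235745 : Led Lsl_bt (LP (LK LD1_c1 LD2_c8 LD3_c54)) = (LP (LK LD1_c2 LD2_c23 LD3_c31)) :=
  Lre_b IH (LK LD1_c1 LD2_c8 LD3_c54) (LK LD1_c2 LD2_c23 LD3_c31) Lrfl Lrfl
theorem f311635 : Led Lsl_ff (LP (LK LD1_c4 LD2_c19 LD3_c51)) = (LP (LK LD1_c2 LD2_c23 LD3_c31)) :=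
  Lgr Lrot25 (Lpr_bt (f311621 IH) (Lpr_ft (f238084 IH) (Lpr_bt (f235745 IH) (Lpn (LP (LK LD1_c2 LD2_c23 LD3_c31))))))
theorem f311643 : Led Lsl_at (LP (LK LD1_c4 LD2_c19 LD3_c51)) = (LP (LK LD1_c4 LD2_c12 LD3_c54)) :=
  Lgr Lrot26 (Lpr_ff (f311635 IH) (Lpr_gt (K17.f235746 IH) (Lpe (K17.f284799 IH) (Lpn (LP (LK LD1_c4 LD2_c12 LD3_c54))))))
theorem f311651 : Led Lsl_af (LP (LK LD1_c5 LD2_c37 LD3_c2)) = (LP (LK LD1_c5 LD2_c3 LD3_c2)) :=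
  Lgr Lrot50 (Lpr_et (K16.f271000 IH) (Lpr_at (f311643 IH) (Lpe (K14.f256070 IH) (Lpn (LP (LK LD1_c5 LD2_c3 LD3_c2))))))
theorem f311659 : Led Lsl_ft (LP (LK LD1_c3 LD2_c58 LD3_c15)) = (LP (LK LD1_c5 LD2_c3 LD3_c2)) :=
  Lgr Lrot2 (Lpe (K16.f259652 IH) (Lpr_gt (K14.f253977 IH) (Lpr_af (f311651 IH) (Lpn (LP (LK LD1_c5 LD2_c3 LD3_c2))))))
theorem f311665 : Led Lsl_ff (LP (LK LD1_c3 LD2_c58 LD3_c15)) = (LP (LK LD1_c5 LD2_c3 LD3_c2)) :=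
  Lgr Lrot3 (Lpr_ft (f311659 IH) (Lpn (LP (LK LD1_c5 LD2_c3 LD3_c2))))
theorem f311673 : Led Lsl_at (LP (LK LD1_c3 LD2_c58 LD3_c15)) = (LP (LK LD1_c4 LD2_c50 LD3_c48)) :=
  Lgr Lrot26 (Lpr_ff (f311665 IH) (Lpr_gt (K14.f193957 IH) (Lpr_gt (K14.f251574 IH) (Lpn (LP (LK LD1_c4 LD2_c50 LD3_c48))))))
theorem f311653 : Led Lsl_at (LP (LK LD1_c5 LD2_c37 LD3_c2)) = (LP (LK LD1_c5 LD2_c3 LD3_c2)) :=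
  Lgr Lrot100 (Lpr_af (f311651 IH) (Lpn (LP (LK LD1_c5 LD2_c3 LD3_c2))))
theorem f311685 : Led Lsl_ff (LP (LK LD1_c5 LD2_c37 LD3_c2)) = (LP (LK LD1_c4 LD2_c50 LD3_c48)) :=
  Lgr Lrot30 (Lpr_at (f311653 IH) (Lpe (f311665 IH) (Lpr_at (f311673 IH) (Lpn (LP (LK LD1_c4 LD2_c50 LD3_c48))))))
theorem f311693 : Led Lsl_ft (LP (LK LD1_c5 LD2_c37 LD3_c2)) = (LP (LK LD1_c4 LD2_c50 LD3_c48)) :=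
  Lgr Lrot48 (Lpr_ff (f311685 IH) (Lpn (LP (LK LD1_c4 LD2_c50 LD3_c48))))
theorem f271011 : Led Lsl_ef (LP (LK LD1_c5 LD2_c37 LD3_c2)) = (LP (LK LD1_c4 LD2_c19 LD3_c51)) :=
  Lgr Lrot88 (Lpr_et (K16.f271000 IH) (Lpn (LP (LK LD1_c4 LD2_c19 LD3_c51))))
theorem f311701 : Led Lsl_ff (LP (LK LD1_c1 LD2_c8 LD3_c51)) = (LP (LK LD1_c2 LD2_c23 LD3_c11)) :=
  Lgr Lrot72 (Lpr_et (K15.f238181 IH) (Lpe (f311635 IH) (Lpe (f271011 IH) (Lpr_ft (f311693 IH) (Lpr_et (K14.f199613 IH) (Lpn (LP (LK LD1_c2 LD2_c23 LD3_c11))))))))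
theorem f260898 : Led Lsl_at (LP (LK LD1_c1 LD2_c8 LD3_c51)) = (LP (LK LD1_c2 LD2_c23 LD3_c29)) :=
  Lre_a IH (LK LD1_c1 LD2_c8 LD3_c51) (LK LD1_c2 LD2_c23 LD3_c29) Lrfl Lrfl
theorem f178764 : Led Lsl_ct (LP (LK LD1_c4 LD2_c10 LD3_c16)) = (LP (LK LD1_c4 LD2_c13 LD3_c0)) :=
  Lgr Lrot59 (Lpr_cf (K15.f178509 IH) (Lpn (LP (LK LD1_c4 LD2_c13 LD3_c0))))
theorem f231142 : Led Lsl_dt (LP (LK LD1_c8 LD2_c33 LD3_c39)) = (LP (LK LD1_c4 LD2_c17 LD3_c14)) :=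
  Lre_d IH (LK LD1_c8 LD2_c33 LD3_c39) (LK LD1_c4 LD2_c17 LD3_c14) Lrfl Lrfl
theorem f290819 : Led Lsl_cf (LP (LK LD1_c10 LD2_c32 LD3_c42)) = (LP (LK LD1_c15 LD2_c0 LD3_c58)) :=
  Lgr Lrot11 (Lpr_ct (K17.f290804 IH) (Lpn (LP (LK LD1_c15 LD2_c0 LD3_c58))))
theorem f290844 : Led Lsl_dt (LP (LK LD1_c8 LD2_c33 LD3_c41)) = (LP (LK LD1_c10 LD2_c32 LD3_c42)) :=
  Lgr Lrot27 (Lpr_cf (K13.f199628 IH) (Lpr_gf (K17.f290833 IH) (Lpe (f178764 IH) (Lpe (K15.f258399 IH) (Lpe (f231142 IH) (Lpe (K17.f290567 IH) (Lpr_ct (K17.f290563 IH) (Lpe (K17.f218118 IH) (Lpe (f290819 IH) (Lpn (LP (LK LD1_c10 LD2_c32 LD3_c42))))))))))))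
theorem f311713 : Led Lsl_cf (LP (LK LD1_c2 LD2_c23 LD3_c29)) = (LP (LK LD1_c1 LD2_c55 LD3_c51)) :=
  Lgr Lrot102 (Lpe (f260898 IH) (Lpr_ff (f311701 IH) (Lpr_dt (K17.f199620 IH) (Lpe (K13.f199628 IH) (Lpr_dt (f290844 IH) (Lpr_ct (K17.f290804 IH) (Lpr_dt (K17.f171927 IH) (Lpr_ct (K18.f171919 IH) (Lpr_dt (K14.f41972 IH) (Lpn (LP (LK LD1_c1 LD2_c55 LD3_c51))))))))))))
theorem f311721 : Led Lsl_dt (LP (LK LD1_c2 LD2_c23 LD3_c29)) = (LP (LK LD1_c4 LD2_c51 LD3_c19)) :=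
  Lre_d IH (LK LD1_c2 LD2_c23 LD3_c29) (LK LD1_c4 LD2_c51 LD3_c19) Lrfl Lrfl
theorem f197009 : Led Lsl_dt (LP (LK LD1_c10 LD2_c46 LD3_c32)) = (LP (LK LD1_c5 LD2_c27 LD3_c43)) :=
  Lre_d IH (LK LD1_c10 LD2_c46 LD3_c32) (LK LD1_c5 LD2_c27 LD3_c43) Lrfl Lrfl
theorem f42839 : Led Lsl_at (LP (LK LD1_c3 LD2_c58 LD3_c33)) = (LP (LK LD1_c7 LD2_c57 LD3_c46)) :=
  Lre_a IH (LK LD1_c3 LD2_c58 LD3_c33) (LK LD1_c7 LD2_c57 LD3_c46) Lrfl Lrfl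
theorem f41942 : Led Lsl_ft (LP (LK LD1_c7 LD2_c58 LD3_c40)) = (LP (LK LD1_c3 LD2_c58 LD3_c33)) :=
  Lre_f IH (LK LD1_c7 LD2_c58 LD3_c40) (LK LD1_c3 LD2_c58 LD3_c33) Lrfl Lrfl
theorem f278153 : Led Lsl_gf (LP (LK LD1_c8 LD2_c7 LD3_c50)) = (LP (LK LD1_c7 LD2_c58 LD3_c40)) :=
  Lgr Lrot47 (Lpr_gt (K16.f278151 IH) (Lpe (f42839 IH) (Lpe (f41942 IH) (Lpn (LP (LK LD1_c7 LD2_c58 LD3_c40))))))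
theorem f166503 : Led Lsl_ct (LP (LK LD1_c4 LD2_c17 LD3_c18)) = (LP (LK LD1_c2 LD2_c5 LD3_c61)) :=
  Lre_c IH (LK LD1_c4 LD2_c17 LD3_c18) (LK LD1_c2 LD2_c5 LD3_c61) Lrfl Lrfl
theorem f166545 : Led Lsl_gt (LP (LK LD1_c8 LD2_c33 LD3_c42)) = (LP (LK LD1_c4 LD2_c17 LD3_c18)) :=
  Lre_g IH (LK LD1_c8 LD2_c33 LD3_c42) (LK LD1_c4 LD2_c17 LD3_c18) Lrfl Lrfl
theorem f300827 : Led Lsl_df (LP (LK LD1_c10 LD2_c32 LD3_c43)) = (LP (LK LD1_c8 LD2_c33 LD3_c42)) :=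
  Lgr Lrot155 (Lpr_gt (K16.f41930 IH) (Lpr_ct (K9.f41914 IH) (Lpe (f278153 IH) (Lpr_ct (K12.f231165 IH) (Lpr_dt (K15.f231115 IH) (Lpe (K12.f230955 IH) (Lpr_gf (K18.f300817 IH) (Lpe (f166503 IH) (Lpe (f166545 IH) (Lpn (LP (LK LD1_c8 LD2_c33 LD3_c42))))))))))))
theorem f303340 : Led Lsl_gf (LP (LK LD1_c8 LD2_c33 LD3_c42)) = (LP (LK LD1_c4 LD2_c17 LD3_c20)) :=
  Lgr Lrot143 (Lpe (f300827 IH) (Lpe (K16.f278131 IH) (Lpe (K18.f199611 IH) (Lpe (K18.f282872 IH) (Lpe (f197009 IH) (Lpr_gf (K18.f303333 IH) (Lpe (K18.f295977 IH) (Lpr_gt (K18.f295986 IH) (Lpr_dt (K15.f238719 IH) (Lpn (LP (LK LD1_c4 LD2_c17 LD3_c20))))))))))))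
theorem f311732 : Led Lsl_cf (LP (LK LD1_c4 LD2_c51 LD3_c19)) = (LP (LK LD1_c8 LD2_c33 LD3_c42)) :=
  Lgr Lrot99 (Lpe (f311721 IH) (Lpr_cf (f311713 IH) (Lpe (K17.f171913 IH) (Lpr_cf (K11.f199816 IH) (Lpr_gf (K12.f231224 IH) (Lpe (K12.f230945 IH) (Lpe (K14.f247414 IH) (Lpr_ct (K16.f199585 IH) (Lpe (f303340 IH) (Lpn (LP (LK LD1_c8 LD2_c33 LD3_c42))))))))))))
theorem f233273 : Led Lsl_dt (LP (LK LD1_c4 LD2_c51 LD3_c41)) = (LP (LK LD1_c9 LD2_c35 LD3_c30)) :=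
  Lre_d IH (LK LD1_c4 LD2_c51 LD3_c41) (LK LD1_c9 LD2_c35 LD3_c30) Lrfl Lrfl
theorem f238272 : Led Lsl_et (LP (LK LD1_c2 LD2_c23 LD3_c40)) = (LP (LK LD1_c4 LD2_c51 LD3_c41)) :=
  Lre_e IH (LK LD1_c2 LD2_c23 LD3_c40) (LK LD1_c4 LD2_c51 LD3_c41) Lrfl Lrfl
theorem f266924 : Led Lsl_df (LP (LK LD1_c2 LD2_c23 LD3_c40)) = (LP (LK LD1_c4 LD2_c19 LD3_c43)) :=
  Lgr Lrot70 (Lpr_et (f238272 IH) (Lpr_dt (f233273 IH) (Lpr_et (K13.f238259 IH) (Lpr_dt (K13.f44464 IH) (Lpr_et (K15.f266920 IH) (Lpn (LP (LK LD1_c4 LD2_c19 LD3_c43))))))))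
theorem f266955 : Led Lsl_gt (LP (LK LD1_c4 LD2_c19 LD3_c6)) = (LP (LK LD1_c4 LD2_c19 LD3_c43)) :=
  Lgr Lrot82 (Lpe (K17.f254519 IH) (Lpr_ct (K14.f200625 IH) (Lpe (K18.f258901 IH) (Lpr_cf (K13.f232884 IH) (Lpr_bt (K13.f227943 IH) (Lpe (K12.f181212 IH) (Lpr_bf (K15.f247403 IH) (Lpr_ct (K15.f266939 IH) (Lpe (K15.f170320 IH) (Lpe (K15.f266915 IH) (Lpn (LP (LK LD1_c4 LD2_c19 LD3_c43)))))))))))))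
theorem f211392 : Led Lsl_bt (LP (LK LD1_c4 LD2_c19 LD3_c6)) = (LP (LK LD1_c2 LD2_c6 LD3_c56)) :=
  Lre_b IH (LK LD1_c4 LD2_c19 LD3_c6) (LK LD1_c2 LD2_c6 LD3_c56) Lrfl Lrfl
theorem f178759 : Led Lsl_bt (LP (LK LD1_c2 LD2_c3 LD3_c48)) = (LP (LK LD1_c4 LD2_c13 LD3_c0)) :=
  Lre_b IH (LK LD1_c2 LD2_c3 LD3_c48) (LK LD1_c4 LD2_c13 LD3_c0) Lrfl Lrfl
theorem f255930 : Led Lsl_df (LP (LK LD1_c4 LD2_c19 LD3_c6)) = (LP (LK LD1_c4 LD2_c13 LD3_c0)) :=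
  Lgr Lrot12 (Lpr_bt (f211392 IH) (Lpr_dt (K14.f255928 IH) (Lpr_bt (f178759 IH) (Lpn (LP (LK LD1_c4 LD2_c13 LD3_c0))))))
theorem f311743 : Led Lsl_gt (LP (LK LD1_c4 LD2_c51 LD3_c19)) = (LP (LK LD1_c4 LD2_c13 LD3_c0)) :=
  Lgr Lrot94 (Lpr_cf (f311732 IH) (Lpr_gt (f166545 IH) (Lpr_dt (K18.f199634 IH) (Lpr_gt (K18.f303323 IH) (Lpr_dt (K18.f2114 IH) (Lpe (K12.f29811 IH) (Lpr_df (f266924 IH) (Lpe (f266955 IH) (Lpr_df (f255930 IH) (Lpn (LP (LK LD1_c4 LD2_c13 LD3_c0))))))))))))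
theorem f311762 : Led Lsl_bf (LP (LK LD1_c4 LD2_c51 LD3_c19)) = (LP (LK LD1_c4 LD2_c55 LD3_c3)) :=
  Lgr Lrot165 (Lpr_gt (f311743 IH) (Lpe (K15.f178509 IH) (Lpr_gt (K15.f178506 IH) (Lpe (K14.f178505 IH) (Lpr_bt (K12.f178500 IH) (Lpr_gt (K9.f178496 IH) (Lpe (K18.f178514 IH) (Lpr_ct (K16.f178515 IH) (Lpr_gt (K16.f178516 IH) (Lpe (K16.f219098 IH) (Lpn (LP (LK LD1_c4 LD2_c55 LD3_c3)))))))))))))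
theorem f267583 : Led Lsl_ff (LP (LK LD1_c3 LD2_c58 LD3_c14)) = (LP (LK LD1_c4 LD2_c51 LD3_c19)) :=
  Lgr Lrot3 (Lpr_ft (K15.f267576 IH) (Lpn (LP (LK LD1_c4 LD2_c51 LD3_c19))))
theorem f311772 : Led Lsl_ft (LP (LK LD1_c4 LD2_c13 LD3_c58)) = (LP (LK LD1_c4 LD2_c55 LD3_c3)) :=
  Lgr Lrot75 (Lpe (K15.f188633 IH) (Lpr_ff (f267583 IH) (Lpr_bf (f311762 IH) (Lpn (LP (LK LD1_c4 LD2_c55 LD3_c3))))))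
theorem f311780 : Led Lsl_af (LP (LK LD1_c4 LD2_c14 LD3_c4)) = (LP (LK LD1_c4 LD2_c55 LD3_c3)) :=
  Lgr Lrot31 (Lpe (K14.f251780 IH) (Lpr_gf (K15.f190830 IH) (Lpr_ft (f311772 IH) (Lpn (LP (LK LD1_c4 LD2_c55 LD3_c3))))))
theorem f219115 : Led Lsl_et (LP (LK LD1_c9 LD2_c41 LD3_c42)) = (LP (LK LD1_c4 LD2_c55 LD3_c3)) :=
  Lre_e IH (LK LD1_c9 LD2_c41 LD3_c42) (LK LD1_c4 LD2_c55 LD3_c3) Lrfl Lrfl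
theorem f311790 : Led Lsl_at (LP (LK LD1_c8 LD2_c26 LD3_c43)) = (LP (LK LD1_c9 LD2_c41 LD3_c42)) :=
  Lgr Lrot80 (Lpe (K13.f167377 IH) (Lpr_af (f311780 IH) (Lpe (f219115 IH) (Lpn (LP (LK LD1_c9 LD2_c41 LD3_c42))))))
theorem f232187 : Led Lsl_et (LP (LK LD1_c4 LD2_c8 LD3_c32)) = (LP (LK LD1_c8 LD2_c17 LD3_c10)) :=
  Lre_e IH (LK LD1_c4 LD2_c8 LD3_c32) (LK LD1_c8 LD2_c17 LD3_c10) Lrfl Lrfl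
theorem f232188 : Led Lsl_df (LP (LK LD1_c9 LD2_c41 LD3_c42)) = (LP (LK LD1_c8 LD2_c17 LD3_c10)) :=
  Lgr Lrot70 (Lpr_et (f219115 IH) (Lpr_dt (K15.f219089 IH) (Lpr_et (K15.f232186 IH) (Lpr_dt (K14.f232158 IH) (Lpr_et (f232187 IH) (Lpn (LP (LK LD1_c8 LD2_c17 LD3_c10))))))))
theorem f232191 : Led Lsl_dt (LP (LK LD1_c9 LD2_c41 LD3_c42)) = (LP (LK LD1_c8 LD2_c17 LD3_c10)) :=
  Lgr Lrot42 (Lpr_df (f232188 IH) (Lpn (LP (LK LD1_c8 LD2_c17 LD3_c10))))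
theorem f232197 : Led Lsl_gt (LP (LK LD1_c8 LD2_c17 LD3_c10)) = (LP (LK LD1_c15 LD2_c34 LD3_c55)) :=
  Lre_g IH (LK LD1_c8 LD2_c17 LD3_c10) (LK LD1_c15 LD2_c34 LD3_c55) Lrfl Lrfl
theorem f170364 : Led Lsl_gt (LP (LK LD1_c9 LD2_c37 LD3_c43)) = (LP (LK LD1_c4 LD2_c52 LD3_c54)) :=
  Lre_g IH (LK LD1_c9 LD2_c37 LD3_c43) (LK LD1_c4 LD2_c52 LD3_c54) Lrfl Lrfl
theorem f200573 : Led Lsl_et (LP (LK LD1_c17 LD2_c43 LD3_c22)) = (LP (LK LD1_c9 LD2_c37 LD3_c43)) :=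
  Lre_e IH (LK LD1_c17 LD2_c43 LD3_c22) (LK LD1_c9 LD2_c37 LD3_c43) Lrfl Lrfl
theorem f301097 : Led Lsl_df (LP (LK LD1_c15 LD2_c34 LD3_c55)) = (LP (LK LD1_c17 LD2_c43 LD3_c22)) :=
  Lgr Lrot168 (Lpe (f232197 IH) (Lpe (f232191 IH) (Lpr_et (f219115 IH) (Lpe (K15.f263684 IH) (Lpe (f243401 IH) (Lpe (f301095 IH) (Lpr_gf (K18.f301077 IH) (Lpe (K15.f170349 IH) (Lpe (f170364 IH) (Lpe (f200573 IH) (Lpn (LP (LK LD1_c17 LD2_c43 LD3_c22)))))))))))))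
theorem f250790 : Led Lsl_et (LP (LK LD1_c2 LD2_c41 LD3_c3)) = (LP (LK LD1_c5 LD2_c29 LD3_c34)) :=
  Lre_e IH (LK LD1_c2 LD2_c41 LD3_c3) (LK LD1_c5 LD2_c29 LD3_c34) Lrfl Lrfl
theorem f301104 : Led Lsl_gf (LP (LK LD1_c9 LD2_c41 LD3_c42)) = (LP (LK LD1_c5 LD2_c29 LD3_c34)) :=
  Lgr Lrot138 (Lpr_dt (f232191 IH) (Lpr_gt (f232197 IH) (Lpr_df (f301097 IH) (Lpr_et (f200573 IH) (Lpr_gt (f170364 IH) (Lpe (K15.f170374 IH) (Lpe (K14.f200401 IH) (Lpe (K14.f251719 IH) (Lpr_df (K14.f251685 IH) (Lpr_et (f250790 IH) (Lpn (LP (LK LD1_c5 LD2_c29 LD3_c34)))))))))))))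
theorem f250785 : Led Lsl_gt (LP (LK LD1_c10 LD2_c50 LD3_c22)) = (LP (LK LD1_c5 LD2_c29 LD3_c34)) :=
  Lre_g IH (LK LD1_c10 LD2_c50 LD3_c22) (LK LD1_c5 LD2_c29 LD3_c34) Lrfl Lrfl
theorem f311798 : Led Lsl_ff (LP (LK LD1_c8 LD2_c26 LD3_c43)) = (LP (LK LD1_c10 LD2_c50 LD3_c22)) :=
  Lgr Lrot52 (Lpr_at (f311790 IH) (Lpr_gf (f301104 IH) (Lpe (f250785 IH) (Lpn (LP (LK LD1_c10 LD2_c50 LD3_c22))))))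
theorem f189397 : Led Lsl_bt (LP (LK LD1_c5 LD2_c35 LD3_c24)) = (LP (LK LD1_c2 LD2_c43 LD3_c41)) :=
  Lre_b IH (LK LD1_c5 LD2_c35 LD3_c24) (LK LD1_c2 LD2_c43 LD3_c41) Lrfl Lrfl
theorem f167382 : Led Lsl_bf (LP (LK LD1_c8 LD2_c26 LD3_c43)) = (LP (LK LD1_c4 LD2_c50 LD3_c52)) :=
  Lgr Lrot24 (Lpr_bt (K13.f167379 IH) (Lpn (LP (LK LD1_c4 LD2_c50 LD3_c52))))
theorem f189398 : Led Lsl_df (LP (LK LD1_c5 LD2_c35 LD3_c24)) = (LP (LK LD1_c8 LD2_c26 LD3_c43)) :=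
  Lgr Lrot12 (Lpr_bt (f189397 IH) (Lpr_dt (K13.f189394 IH) (Lpe (f167382 IH) (Lpn (LP (LK LD1_c8 LD2_c26 LD3_c43))))))
theorem f189432 : Led Lsl_ft (LP (LK LD1_c5 LD2_c35 LD3_c24)) = (LP (LK LD1_c11 LD2_c2 LD3_c58)) :=
  Lre_f IH (LK LD1_c5 LD2_c35 LD3_c24) (LK LD1_c11 LD2_c2 LD3_c58) Lrfl Lrfl
theorem f311800 : Led Lsl_dt (LP (LK LD1_c11 LD2_c2 LD3_c58)) = (LP (LK LD1_c10 LD2_c50 LD3_c22)) :=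
  Lgr Lrot60 (Lpe (f189432 IH) (Lpr_df (f189398 IH) (Lpr_ff (f311798 IH) (Lpn (LP (LK LD1_c10 LD2_c50 LD3_c22))))))
theorem f191357 : Led Lsl_et (LP (LK LD1_c4 LD2_c7 LD3_c41)) = (LP (LK LD1_c8 LD2_c15 LD3_c24)) :=
  Lre_e IH (LK LD1_c4 LD2_c7 LD3_c41) (LK LD1_c8 LD2_c15 LD3_c24) Lrfl Lrfl
theorem f32952 : Led Lsl_et (LP (LK LD1_c5 LD2_c17 LD3_c22)) = (LP (LK LD1_c2 LD2_c35 LD3_c27)) :=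
  Lre_e IH (LK LD1_c5 LD2_c17 LD3_c22) (LK LD1_c2 LD2_c35 LD3_c27) Lrfl Lrfl
theorem f191358 : Led Lsl_ct (LP (LK LD1_c8 LD2_c15 LD3_c24)) = (LP (LK LD1_c5 LD2_c17 LD3_c22)) :=
  Lgr Lrot15 (Lpe (f191357 IH) (Lpr_cf (K10.f191349 IH) (Lpe (f32952 IH) (Lpn (LP (LK LD1_c5 LD2_c17 LD3_c22))))))
theorem f191392 : Led Lsl_bt (LP (LK LD1_c15 LD2_c31 LD3_c32)) = (LP (LK LD1_c8 LD2_c15 LD3_c24)) :=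
  Lre_b IH (LK LD1_c15 LD2_c31 LD3_c32) (LK LD1_c8 LD2_c15 LD3_c24) Lrfl Lrfl
theorem f190092 : Led Lsl_et (LP (LK LD1_c2 LD2_c35 LD3_c27)) = (LP (LK LD1_c5 LD2_c17 LD3_c22)) :=
  Lre_e IH (LK LD1_c2 LD2_c35 LD3_c27) (LK LD1_c5 LD2_c17 LD3_c22) Lrfl Lrfl
theorem f190093 : Led Lsl_bf (LP (LK LD1_c8 LD2_c13 LD3_c5)) = (LP (LK LD1_c5 LD2_c17 LD3_c22)) :=
  Lgr Lrot96 (Lpr_et (K16.f47902 IH) (Lpr_bt (K10.f190088 IH) (Lpr_et (f190092 IH) (Lpn (LP (LK LD1_c5 LD2_c17 LD3_c22))))))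
theorem f191393 : Led Lsl_ct (LP (LK LD1_c8 LD2_c13 LD3_c5)) = (LP (LK LD1_c15 LD2_c27 LD3_c32)) :=
  Lre_c IH (LK LD1_c8 LD2_c13 LD3_c5) (LK LD1_c15 LD2_c27 LD3_c32) Lrfl Lrfl
theorem f191394 : Led Lsl_bt (LP (LK LD1_c15 LD2_c27 LD3_c32)) = (LP (LK LD1_c25 LD2_c19 LD3_c15)) :=
  Lre_b IH (LK LD1_c15 LD2_c27 LD3_c32) (LK LD1_c25 LD2_c19 LD3_c15) Lrfl Lrfl
theorem f191395 : Led Lsl_cf (LP (LK LD1_c15 LD2_c31 LD3_c32)) = (LP (LK LD1_c25 LD2_c19 LD3_c15)) :=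
  Lgr Lrot97 (Lpr_bt (f191392 IH) (Lpr_ct (f191358 IH) (Lpe (f190093 IH) (Lpr_ct (f191393 IH) (Lpr_bt (f191394 IH) (Lpn (LP (LK LD1_c25 LD2_c19 LD3_c15))))))))
theorem f191412 : Led Lsl_ct (LP (LK LD1_c15 LD2_c31 LD3_c32)) = (LP (LK LD1_c25 LD2_c19 LD3_c15)) :=
  Lgr Lrot59 (Lpr_cf (f191395 IH) (Lpn (LP (LK LD1_c25 LD2_c19 LD3_c15))))
theorem f191402 : Led Lsl_bt (LP (LK LD1_c8 LD2_c15 LD3_c24)) = (LP (LK LD1_c15 LD2_c31 LD3_c32)) :=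
  Lre_b IH (LK LD1_c8 LD2_c15 LD3_c24) (LK LD1_c15 LD2_c31 LD3_c32) Lrfl Lrfl
theorem f191397 : Led Lsl_cf (LP (LK LD1_c8 LD2_c15 LD3_c24)) = (LP (LK LD1_c5 LD2_c17 LD3_c22)) :=
  Lgr Lrot11 (Lpr_ct (f191358 IH) (Lpn (LP (LK LD1_c5 LD2_c17 LD3_c22))))
theorem f191420 : Led Lsl_bt (LP (LK LD1_c25 LD2_c19 LD3_c15)) = (LP (LK LD1_c15 LD2_c27 LD3_c32)) :=
  Lre_b IH (LK LD1_c25 LD2_c19 LD3_c15) (LK LD1_c15 LD2_c27 LD3_c32) Lrfl Lrfl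
theorem f191426 : Led Lsl_ct (LP (LK LD1_c15 LD2_c27 LD3_c32)) = (LP (LK LD1_c8 LD2_c13 LD3_c5)) :=
  Lre_c IH (LK LD1_c15 LD2_c27 LD3_c32) (LK LD1_c8 LD2_c13 LD3_c5) Lrfl Lrfl
theorem f191427 : Led Lsl_bf (LP (LK LD1_c5 LD2_c17 LD3_c22)) = (LP (LK LD1_c8 LD2_c13 LD3_c5)) :=
  Lgr Lrot90 (Lpe (f191397 IH) (Lpr_bt (f191402 IH) (Lpr_ct (f191412 IH) (Lpr_bt (f191420 IH) (Lpr_ct (f191426 IH) (Lpn (LP (LK LD1_c8 LD2_c13 LD3_c5))))))))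
theorem f234679 : Led Lsl_et (LP (LK LD1_c5 LD2_c29 LD3_c34)) = (LP (LK LD1_c2 LD2_c41 LD3_c3)) :=
  Lre_e IH (LK LD1_c5 LD2_c29 LD3_c34) (LK LD1_c2 LD2_c41 LD3_c3) Lrfl Lrfl
theorem f250773 : Led Lsl_bf (LP (LK LD1_c5 LD2_c29 LD3_c34)) = (LP (LK LD1_c4 LD2_c18 LD3_c46)) :=
  Lgr Lrot96 (Lpr_et (f234679 IH) (Lpr_bt (K14.f250727 IH) (Lpr_et (K16.f250772 IH) (Lpn (LP (LK LD1_c4 LD2_c18 LD3_c46))))))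
theorem f250776 : Led Lsl_bt (LP (LK LD1_c5 LD2_c29 LD3_c34)) = (LP (LK LD1_c4 LD2_c18 LD3_c46)) :=
  Lgr Lrot127 (Lpr_bf (f250773 IH) (Lpn (LP (LK LD1_c4 LD2_c18 LD3_c46))))
theorem f251691 : Led Lsl_dt (LP (LK LD1_c5 LD2_c17 LD3_c22)) = (LP (LK LD1_c5 LD2_c29 LD3_c34)) :=
  Lgr Lrot79 (Lpr_bf (f191427 IH) (Lpr_df (K16.f251689 IH) (Lpe (f250776 IH) (Lpn (LP (LK LD1_c5 LD2_c29 LD3_c34))))))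
theorem f213071 : Led Lsl_gt (LP (LK LD1_c11 LD2_c2 LD3_c32)) = (LP (LK LD1_c5 LD2_c35 LD3_c11)) :=
  Lre_g IH (LK LD1_c11 LD2_c2 LD3_c32) (LK LD1_c5 LD2_c35 LD3_c11) Lrfl Lrfl
theorem f222457 : Led Lsl_gf (LP (LK LD1_c11 LD2_c2 LD3_c32)) = (LP (LK LD1_c10 LD2_c23 LD3_c39)) :=
  Lgr Lrot47 (Lpr_gt (f213071 IH) (Lpe (K12.f222450 IH) (Lpr_ff (K12.f222444 IH) (Lpn (LP (LK LD1_c10 LD2_c23 LD3_c39))))))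
theorem f213072 : Led Lsl_dt (LP (LK LD1_c19 LD2_c53 LD3_c50)) = (LP (LK LD1_c11 LD2_c2 LD3_c32)) :=
  Lre_d IH (LK LD1_c19 LD2_c53 LD3_c50) (LK LD1_c11 LD2_c2 LD3_c32) Lrfl Lrfl
theorem f212853 : Led Lsl_df (LP (LK LD1_c5 LD2_c35 LD3_c11)) = (LP (LK LD1_c5 LD2_c35 LD3_c11)) :=
  Lgr Lrot70 (Lpr_et (K12.f212850 IH) (Lpr_dt (K12.f212849 IH) (Lpr_et (K12.f212846 IH) (Lpr_dt (K13.f212851 IH) (Lpr_et (K12.f212852 IH) (Lpn (LP (LK LD1_c5 LD2_c35 LD3_c11))))))))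
theorem f246714 : Led Lsl_et (LP (LK LD1_c19 LD2_c53 LD3_c50)) = (LP (LK LD1_c15 LD2_c34 LD3_c55)) :=
  Lgr Lrot122 (Lpr_dt (f213072 IH) (Lpr_gt (f213071 IH) (Lpr_df (f212853 IH) (Lpr_et (K12.f212850 IH) (Lpe (K12.f223075 IH) (Lpr_dt (K15.f223084 IH) (Lpr_gt (K14.f246708 IH) (Lpr_df (K14.f232184 IH) (Lpr_et (f232187 IH) (Lpr_gt (f232197 IH) (Lpn (LP (LK LD1_c15 LD2_c34 LD3_c55)))))))))))))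
theorem f311806 : Led Lsl_gf (LP (LK LD1_c11 LD2_c2 LD3_c58)) = (LP (LK LD1_c15 LD2_c34 LD3_c55)) :=
  Lgr Lrot138 (Lpr_dt (f311800 IH) (Lpr_gt (f250785 IH) (Lpe (f251691 IH) (Lpr_et (f32952 IH) (Lpr_gt (K10.f32899 IH) (Lpe (K12.f32949 IH) (Lpe (K10.f32934 IH) (Lpe (f222457 IH) (Lpe (f213072 IH) (Lpr_et (f246714 IH) (Lpn (LP (LK LD1_c15 LD2_c34 LD3_c55)))))))))))))
theorem f232194 : Led Lsl_ft (LP (LK LD1_c8 LD2_c17 LD3_c10)) = (LP (LK LD1_c15 LD2_c34 LD3_c57)) :=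
  Lre_f IH (LK LD1_c8 LD2_c17 LD3_c10) (LK LD1_c15 LD2_c34 LD3_c57) Lrfl Lrfl
theorem f311812 : Led Lsl_af (LP (LK LD1_c11 LD2_c2 LD3_c58)) = (LP (LK LD1_c15 LD2_c34 LD3_c57)) :=
  Lgr Lrot31 (Lpr_gf (f311806 IH) (Lpe (f232197 IH) (Lpr_ft (f232194 IH) (Lpn (LP (LK LD1_c15 LD2_c34 LD3_c57))))))
theorem f189431 : Led Lsl_ft (LP (LK LD1_c11 LD2_c2 LD3_c58)) = (LP (LK LD1_c5 LD2_c35 LD3_c24)) :=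
  Lre_f IH (LK LD1_c11 LD2_c2 LD3_c58) (LK LD1_c5 LD2_c35 LD3_c24) Lrfl Lrfl
theorem f311817 : Led Lsl_at (LP (LK LD1_c5 LD2_c35 LD3_c24)) = (LP (LK LD1_c8 LD2_c17 LD3_c10)) :=
  Lgr Lrot66 (Lpe (f189431 IH) (Lpr_af (f311812 IH) (Lpe (f232194 IH) (Lpn (LP (LK LD1_c8 LD2_c17 LD3_c10))))))
theorem f311821 : Led Lsl_af (LP (LK LD1_c2 LD2_c43 LD3_c39)) = (LP (LK LD1_c4 LD2_c8 LD3_c32)) :=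
  Lgr Lrot50 (Lpr_et (K13.f189428 IH) (Lpr_at (f311817 IH) (Lpr_et (K14.f232198 IH) (Lpn (LP (LK LD1_c4 LD2_c8 LD3_c32))))))
theorem f311832 : Led Lsl_ft (LP (LK LD1_c5 LD2_c29 LD3_c54)) = (LP (LK LD1_c4 LD2_c8 LD3_c32)) :=
  Lgr Lrot2 (Lpe (K14.f234776 IH) (Lpe (K13.f189690 IH) (Lpr_af (f311821 IH) (Lpn (LP (LK LD1_c4 LD2_c8 LD3_c32))))))
theorem f311840 : Led Lsl_ff (LP (LK LD1_c5 LD2_c29 LD3_c54)) = (LP (LK LD1_c4 LD2_c8 LD3_c32)) :=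
  Lgr Lrot3 (Lpr_ft (f311832 IH) (Lpn (LP (LK LD1_c4 LD2_c8 LD3_c32))))
theorem f311848 : Led Lsl_at (LP (LK LD1_c5 LD2_c29 LD3_c54)) = (LP (LK LD1_c4 LD2_c8 LD3_c33)) :=
  Lgr Lrot26 (Lpr_ff (f311840 IH) (Lpe (K16.f254793 IH) (Lpr_gt (K13.f234242 IH) (Lpn (LP (LK LD1_c4 LD2_c8 LD3_c33))))))
theorem f311826 : Led Lsl_at (LP (LK LD1_c2 LD2_c43 LD3_c39)) = (LP (LK LD1_c4 LD2_c8 LD3_c32)) :=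
  Lgr Lrot100 (Lpr_af (f311821 IH) (Lpn (LP (LK LD1_c4 LD2_c8 LD3_c32))))
theorem f311858 : Led Lsl_ff (LP (LK LD1_c2 LD2_c43 LD3_c39)) = (LP (LK LD1_c4 LD2_c8 LD3_c33)) :=
  Lgr Lrot30 (Lpr_at (f311826 IH) (Lpe (f311840 IH) (Lpr_at (f311848 IH) (Lpn (LP (LK LD1_c4 LD2_c8 LD3_c33))))))
theorem f311868 : Led Lsl_ft (LP (LK LD1_c2 LD2_c43 LD3_c39)) = (LP (LK LD1_c4 LD2_c8 LD3_c33)) :=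
  Lgr Lrot48 (Lpr_ff (f311858 IH) (Lpn (LP (LK LD1_c4 LD2_c8 LD3_c33))))
theorem f311874 : Led Lsl_ff (LP (LK LD1_c4 LD2_c14 LD3_c5)) = (LP (LK LD1_c5 LD2_c15 LD3_c20)) :=
  Lgr Lrot19 (Lpe (K13.f189429 IH) (Lpr_ft (f311868 IH) (Lpe (K13.f234203 IH) (Lpn (LP (LK LD1_c5 LD2_c15 LD3_c20))))))
theorem f191722 : Led Lsl_ft (LP (LK LD1_c2 LD2_c23 LD3_c21)) = (LP (LK LD1_c4 LD2_c51 LD3_c3)) :=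
  Lre_f IH (LK LD1_c2 LD2_c23 LD3_c21) (LK LD1_c4 LD2_c51 LD3_c3) Lrfl Lrfl
theorem f187218 : Led Lsl_et (LP (LK LD1_c1 LD2_c8 LD3_c47)) = (LP (LK LD1_c2 LD2_c23 LD3_c21)) :=
  Lre_e IH (LK LD1_c1 LD2_c8 LD3_c47) (LK LD1_c2 LD2_c23 LD3_c21) Lrfl Lrfl
theorem f311892 : Led Lsl_ft (LP (LK LD1_c2 LD2_c4 LD3_c25)) = (LP (LK LD1_c1 LD2_c8 LD3_c47)) :=
  Lgr Lrot86 (Lpe (K13.f167324 IH) (Lpr_ff (f311874 IH) (Lpr_ef (f311515 IH) (Lpe (f191722 IH) (Lpe (f187218 IH) (Lpn (LP (LK LD1_c1 LD2_c8 LD3_c47))))))))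
theorem f311902 : Led Lsl_af (LP (LK LD1_c2 LD2_c4 LD3_c21)) = (LP (LK LD1_c1 LD2_c8 LD3_c47)) :=
  Lgr Lrot31 (Lpe (K12.f188729 IH) (Lpe (K12.f188894 IH) (Lpr_ft (f311892 IH) (Lpn (LP (LK LD1_c1 LD2_c8 LD3_c47))))))
theorem f311912 : Led Lsl_at (LP (LK LD1_c4 LD2_c13 LD3_c59)) = (LP (LK LD1_c2 LD2_c23 LD3_c21)) :=
  Lgr Lrot80 (Lpe (K10.f188585 IH) (Lpr_af (f311902 IH) (Lpe (K10.f171171 IH) (Lpn (LP (LK LD1_c2 LD2_c23 LD3_c21))))))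
theorem f311920 : Led Lsl_ff (LP (LK LD1_c4 LD2_c13 LD3_c59)) = (LP (LK LD1_c5 LD2_c28 LD3_c11)) :=
  Lgr Lrot52 (Lpr_at (f311912 IH) (Lpe (K13.f236128 IH) (Lpr_gf (K15.f263678 IH) (Lpn (LP (LK LD1_c5 LD2_c28 LD3_c11))))))
theorem f311838 : Led Lsl_ff (LP (LK LD1_c8 LD2_c18 LD3_c52)) = (LP (LK LD1_c4 LD2_c55 LD3_c4)) :=
  Lgr Lrot19 (Lpe (K14.f250677 IH) (Lpr_ft (f311832 IH) (Lpe (K14.f232184 IH) (Lpn (LP (LK LD1_c4 LD2_c55 LD3_c4))))))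
theorem f311930 : Led Lsl_ft (LP (LK LD1_c2 LD2_c4 LD3_c21)) = (LP (LK LD1_c2 LD2_c25 LD3_c25)) :=
  Lgr Lrot86 (Lpe (K10.f188583 IH) (Lpr_ff (f311920 IH) (Lpe (K15.f263672 IH) (Lpr_ff (f311838 IH) (Lpe (K15.f232186 IH) (Lpn (LP (LK LD1_c2 LD2_c25 LD3_c25))))))))
theorem f311936 : Led Lsl_ff (LP (LK LD1_c0 LD2_c59 LD3_c12)) = (LP (LK LD1_c1 LD2_c9 LD3_c57)) :=
  Lgr Lrot23 (Lpr_ct (K11.f188571 IH) (Lpr_ft (f311930 IH) (Lpr_ct (K16.f171905 IH) (Lpn (LP (LK LD1_c1 LD2_c9 LD3_c57))))))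
theorem f311944 : Led Lsl_ft (LP (LK LD1_c0 LD2_c59 LD3_c12)) = (LP (LK LD1_c1 LD2_c9 LD3_c57)) :=
  Lgr Lrot48 (Lpr_ff (f311936 IH) (Lpn (LP (LK LD1_c1 LD2_c9 LD3_c57))))
theorem f311950 : Led Lsl_af (LP (LK LD1_c0 LD2_c59 LD3_c13)) = (LP (LK LD1_c1 LD2_c9 LD3_c57)) :=
  Lgr Lrot31 (Lpe (K12.f27518 IH) (Lpe (K12.f27516 IH) (Lpr_ft (f311944 IH) (Lpn (LP (LK LD1_c1 LD2_c9 LD3_c57))))))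
theorem f311954 : Led Lsl_at (LP (LK LD1_c2 LD2_c4 LD3_c27)) = (LP (LK LD1_c2 LD2_c25 LD3_c27)) :=
  Lgr Lrot80 (Lpe (K15.f220520 IH) (Lpr_af (f311950 IH) (Lpe (K14.f219095 IH) (Lpn (LP (LK LD1_c2 LD2_c25 LD3_c27))))))
theorem f220524 : Led Lsl_ft (LP (LK LD1_c4 LD2_c14 LD3_c8)) = (LP (LK LD1_c2 LD2_c4 LD3_c27)) :=
  Lre_f IH (LK LD1_c4 LD2_c14 LD3_c8) (LK LD1_c2 LD2_c4 LD3_c27) Lrfl Lrfl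
theorem f234437 : Led Lsl_ct (LP (LK LD1_c4 LD2_c22 LD3_c17)) = (LP (LK LD1_c4 LD2_c8 LD3_c43)) :=
  Lgr Lrot8 (Lpr_gt (K14.f173263 IH) (Lpr_dt (K14.f173262 IH) (Lpe (K12.f222214 IH) (Lpr_dt (K15.f222209 IH) (Lpe (K15.f167251 IH) (Lpr_df (K14.f234420 IH) (Lpe (K14.f220130 IH) (Lpe (K12.f724 IH) (Lpe (K15.f222694 IH) (Lpn (LP (LK LD1_c4 LD2_c8 LD3_c43))))))))))))
theorem f311966 : Led Lsl_dt (LP (LK LD1_c4 LD2_c14 LD3_c8)) = (LP (LK LD1_c4 LD2_c22 LD3_c17)) :=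
  Lgr Lrot159 (Lpr_ft (f220524 IH) (Lpr_at (f311954 IH) (Lpe (K14.f232200 IH) (Lpr_df (K14.f232184 IH) (Lpe (K14.f254816 IH) (Lpe (K15.f254882 IH) (Lpe (K15.f254884 IH) (Lpe (K15.f234648 IH) (Lpe (f234437 IH) (Lpn (LP (LK LD1_c4 LD2_c22 LD3_c17))))))))))))
theorem f235587 : Led Lsl_et (LP (LK LD1_c1 LD2_c16 LD3_c5)) = (LP (LK LD1_c0 LD2_c35 LD3_c14)) :=
  Lre_e IH (LK LD1_c1 LD2_c16 LD3_c5) (LK LD1_c0 LD2_c35 LD3_c14) Lrfl Lrfl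
theorem f235588 : Led Lsl_dt (LP (LK LD1_c1 LD2_c16 LD3_c5)) = (LP (LK LD1_c2 LD2_c38 LD3_c17)) :=
  Lre_d IH (LK LD1_c1 LD2_c16 LD3_c5) (LK LD1_c2 LD2_c38 LD3_c17) Lrfl Lrfl
theorem f235593 : Led Lsl_gt (LP (LK LD1_c2 LD2_c1 LD3_c36)) = (LP (LK LD1_c2 LD2_c38 LD3_c17)) :=
  Lgr Lrot139 (Lpe (K13.f167357 IH) (Lpr_gf (K12.f228930 IH) (Lpe (K12.f29127 IH) (Lpr_dt (K0.f16673 IH) (Lpe (K0.f16675 IH) (Lpe (K0.f28581 IH) (Lpr_et (K8.f31425 IH) (Lpr_gf (K14.f235591 IH) (Lpe (f235587 IH) (Lpr_dt (f235588 IH) (Lpn (LP (LK LD1_c2 LD2_c38 LD3_c17)))))))))))))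
theorem f220102 : Led Lsl_bt (LP (LK LD1_c0 LD2_c57 LD3_c53)) = (LP (LK LD1_c2 LD2_c1 LD3_c36)) :=
  Lre_b IH (LK LD1_c0 LD2_c57 LD3_c53) (LK LD1_c2 LD2_c1 LD3_c36) Lrfl Lrfl
theorem f309130 : Led Lsl_gt (LP (LK LD1_c2 LD2_c40 LD3_c57)) = (LP (LK LD1_c4 LD2_c22 LD3_c17)) :=
  Lgr Lrot82 (Lpr_bf (K17.f286998 IH) (Lpr_ct (f309107 IH) (Lpe (f235600 IH) (Lpe (f184357 IH) (Lpr_bt (f235599 IH) (Lpe (f235593 IH) (Lpe (f220102 IH) (Lpr_ct (K12.f53157 IH) (Lpe (K15.f222694 IH) (Lpe (f234437 IH) (Lpn (LP (LK LD1_c4 LD2_c22 LD3_c17)))))))))))))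
theorem f199573 : Led Lsl_gt (LP (LK LD1_c8 LD2_c23 LD3_c55)) = (LP (LK LD1_c4 LD2_c12 LD3_c8)) :=
  Lre_g IH (LK LD1_c8 LD2_c23 LD3_c55) (LK LD1_c4 LD2_c12 LD3_c8) Lrfl Lrfl
theorem f311982 : Led Lsl_et (LP (LK LD1_c4 LD2_c14 LD3_c8)) = (LP (LK LD1_c8 LD2_c23 LD3_c55)) :=
  Lgr Lrot121 (Lpr_dt (f311966 IH) (Lpe (f309130 IH) (Lpe (K15.f222643 IH) (Lpr_et (K15.f262859 IH) (Lpe (K15.f261476 IH) (Lpe (K15.f49171 IH) (Lpr_dt (K10.f32087 IH) (Lpe (K15.f187649 IH) (Lpe (K15.f257860 IH) (Lpe (f199573 IH) (Lpn (LP (LK LD1_c8 LD2_c23 LD3_c55)))))))))))))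
theorem f220525 : Led Lsl_ft (LP (LK LD1_c2 LD2_c4 LD3_c27)) = (LP (LK LD1_c4 LD2_c14 LD3_c8)) :=
  Lre_f IH (LK LD1_c2 LD2_c4 LD3_c27) (LK LD1_c4 LD2_c14 LD3_c8) Lrfl Lrfl
theorem f311896 : Led Lsl_ff (LP (LK LD1_c0 LD2_c59 LD3_c13)) = (LP (LK LD1_c2 LD2_c4 LD3_c16)) :=
  Lgr Lrot23 (Lpr_ct (K12.f167320 IH) (Lpr_ft (f311892 IH) (Lpe (K9.f171162 IH) (Lpn (LP (LK LD1_c2 LD2_c4 LD3_c16))))))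
theorem f311984 : Led Lsl_ff (LP (LK LD1_c4 LD2_c13 LD3_c50)) = (LP (LK LD1_c8 LD2_c23 LD3_c55)) :=
  Lgr Lrot72 (Lpr_et (K10.f45096 IH) (Lpe (f311896 IH) (Lpr_et (K15.f220520 IH) (Lpr_ft (f220525 IH) (Lpr_et (f311982 IH) (Lpn (LP (LK LD1_c8 LD2_c23 LD3_c55))))))))
theorem f311992 : Led Lsl_ft (LP (LK LD1_c4 LD2_c13 LD3_c50)) = (LP (LK LD1_c8 LD2_c23 LD3_c55)) :=
  Lgr Lrot48 (Lpr_ff (f311984 IH) (Lpn (LP (LK LD1_c8 LD2_c23 LD3_c55))))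
theorem f232301 : Led Lsl_bf (LP (LK LD1_c8 LD2_c42 LD3_c33)) = (LP (LK LD1_c9 LD2_c34 LD3_c45)) :=
  Lgr Lrot24 (Lpr_bt (K16.f232298 IH) (Lpn (LP (LK LD1_c9 LD2_c34 LD3_c45))))
theorem f278438 : Led Lsl_dt (LP (LK LD1_c8 LD2_c42 LD3_c33)) = (LP (LK LD1_c10 LD2_c23 LD3_c36)) :=
  Lgr Lrot79 (Lpr_bf (f232301 IH) (Lpr_df (K18.f278436 IH) (Lpe (K14.f194782 IH) (Lpn (LP (LK LD1_c10 LD2_c23 LD3_c36))))))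
theorem f273655 : Led Lsl_dt (LP (LK LD1_c5 LD2_c16 LD3_c60)) = (LP (LK LD1_c8 LD2_c23 LD3_c55)) :=
  Lgr Lrot57 (Lpe (K10.f32140 IH) (Lpe (K10.f54055 IH) (Lpr_gt (K16.f231578 IH) (Lpr_dt (K16.f191335 IH) (Lpr_gt (K16.f273649 IH) (Lpe (K15.f259358 IH) (Lpr_cf (K15.f257820 IH) (Lpe (K15.f257860 IH) (Lpe (f199573 IH) (Lpn (LP (LK LD1_c8 LD2_c23 LD3_c55))))))))))))
theorem f311976 : Led Lsl_ef (LP (LK LD1_c4 LD2_c14 LD3_c8)) = (LP (LK LD1_c8 LD2_c23 LD3_c55)) :=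
  Lgr Lrot73 (Lpr_dt (f311966 IH) (Lpr_et (K16.f232296 IH) (Lpr_dt (f278438 IH) (Lpr_et (K14.f32948 IH) (Lpr_dt (f273655 IH) (Lpn (LP (LK LD1_c8 LD2_c23 LD3_c55))))))))
theorem f311996 : Led Lsl_ff (LP (LK LD1_c2 LD2_c4 LD3_c16)) = (LP (LK LD1_c0 LD2_c59 LD3_c13)) :=
  Lgr Lrot72 (Lpr_et (K10.f171170 IH) (Lpr_ft (f311992 IH) (Lpe (f311976 IH) (Lpr_ft (f220524 IH) (Lpr_et (K12.f27519 IH) (Lpn (LP (LK LD1_c0 LD2_c59 LD3_c13))))))))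
theorem f312002 : Led Lsl_ft (LP (LK LD1_c4 LD2_c13 LD3_c49)) = (LP (LK LD1_c2 LD2_c4 LD3_c26)) :=
  Lgr Lrot54 (Lpe (K10.f45095 IH) (Lpr_ff (f311996 IH) (Lpe (K15.f167328 IH) (Lpn (LP (LK LD1_c2 LD2_c4 LD3_c26))))))
theorem f312012 : Led Lsl_ff (LP (LK LD1_c4 LD2_c13 LD3_c49)) = (LP (LK LD1_c2 LD2_c4 LD3_c26)) :=
  Lgr Lrot3 (Lpr_ft (f312002 IH) (Lpn (LP (LK LD1_c2 LD2_c4 LD3_c26))))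
theorem f312020 : Led Lsl_at (LP (LK LD1_c4 LD2_c13 LD3_c49)) = (LP (LK LD1_c2 LD2_c4 LD3_c22)) :=
  Lgr Lrot33 (Lpr_ff (f312012 IH) (Lpr_dt (K15.f167328 IH) (Lpr_ct (K12.f167320 IH) (Lpr_dt (K14.f167420 IH) (Lpr_ct (K13.f167371 IH) (Lpr_dt (K15.f243304 IH) (Lpe (K13.f221076 IH) (Lpr_dt (K12.f188567 IH) (Lpr_ct (K15.f188561 IH) (Lpn (LP (LK LD1_c2 LD2_c4 LD3_c22))))))))))))
theorem f312028 : Led Lsl_gt (LP (LK LD1_c2 LD2_c4 LD3_c26)) = (LP (LK LD1_c2 LD2_c45 LD3_c23)) :=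
  Lgr Lrot5 (Lpe (f312012 IH) (Lpr_at (f312020 IH) (Lpe (K13.f243638 IH) (Lpn (LP (LK LD1_c2 LD2_c45 LD3_c23))))))
theorem f312030 : Led Lsl_gt (LP (LK LD1_c8 LD2_c56 LD3_c27)) = (LP (LK LD1_c9 LD2_c42 LD3_c25)) :=
  Lgr Lrot49 (Lpe (K17.f245143 IH) (Lpe (K16.f271543 IH) (Lpe (K13.f188611 IH) (Lpr_gt (f312028 IH) (Lpe (K15.f261437 IH) (Lpr_gt (K18.f261410 IH) (Lpe (K15.f217493 IH) (Lpe (K16.f217491 IH) (Lpe (K18.f217488 IH) (Lpn (LP (LK LD1_c9 LD2_c42 LD3_c25))))))))))))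
theorem f237786 : Led Lsl_gt (LP (LK LD1_c2 LD2_c5 LD3_c26)) = (LP (LK LD1_c4 LD2_c16 LD3_c3)) :=
  Lre_g IH (LK LD1_c2 LD2_c5 LD3_c26) (LK LD1_c4 LD2_c16 LD3_c3) Lrfl Lrfl
theorem f312043 : Led Lsl_dt (LP (LK LD1_c4 LD2_c16 LD3_c3)) = (LP (LK LD1_c8 LD2_c30 LD3_c31)) :=
  Lgr Lrot105 (Lpe (f237786 IH) (Lpe (K16.f220551 IH) (Lpe (K17.f220552 IH) (Lpr_cf (K17.f282725 IH) (Lpr_gt (f312030 IH) (Lpr_dt (K18.f217488 IH) (Lpr_gt (K16.f222180 IH) (Lpr_dt (K16.f33467 IH) (Lpe (K16.f278057 IH) (Lpn (LP (LK LD1_c8 LD2_c30 LD3_c31))))))))))))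
theorem f278071 : Led Lsl_gt (LP (LK LD1_c8 LD2_c30 LD3_c31)) = (LP (LK LD1_c4 LD2_c15 LD3_c60)) :=
  Lgr Lrot180 (Lpr_ct (K16.f278057 IH) (Lpr_gt (K16.f54463 IH) (Lpr_dt (K16.f278028 IH) (Lpr_gt (K16.f235774 IH) (Lpr_dt (K16.f235777 IH) (Lpe (K18.f271468 IH) (Lpe (K16.f244735 IH) (Lpr_gf (K16.f251113 IH) (Lpe (K16.f243380 IH) (Lpn (LP (LK LD1_c4 LD2_c15 LD3_c60))))))))))))
theorem f312068 : Led Lsl_gt (LP (LK LD1_c4 LD2_c16 LD3_c3)) = (LP (LK LD1_c2 LD2_c5 LD3_c29)) :=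
  Lgr Lrot146 (Lpr_dt (f312043 IH) (Lpr_gt (f278071 IH) (Lpe (K14.f244814 IH) (Lpr_gt (K14.f243648 IH) (Lpr_ct (K16.f188958 IH) (Lpr_dt (K15.f1270 IH) (Lpe (K9.f585 IH) (Lpe (K12.f600 IH) (Lpe (K16.f243546 IH) (Lpn (LP (LK LD1_c2 LD2_c5 LD3_c29))))))))))))
theorem f219084 : Led Lsl_dt (LP (LK LD1_c9 LD2_c41 LD3_c45)) = (LP (LK LD1_c4 LD2_c55 LD3_c6)) :=
  Lre_d IH (LK LD1_c9 LD2_c41 LD3_c45) (LK LD1_c4 LD2_c55 LD3_c6) Lrfl Lrfl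
theorem f284570 : Led Lsl_gf (LP (LK LD1_c2 LD2_c40 LD3_c14)) = (LP (LK LD1_c4 LD2_c55 LD3_c6)) :=
  Lgr Lrot126 (Lpe (K17.f244851 IH) (Lpr_bt (K18.f282845 IH) (Lpr_gt (K18.f284566 IH) (Lpr_ct (K12.f170699 IH) (Lpr_gt (K16.f261273 IH) (Lpe (K14.f219131 IH) (Lpr_bt (K18.f221680 IH) (Lpr_gt (K14.f218560 IH) (Lpe (K13.f218578 IH) (Lpr_ct (K13.f218579 IH) (Lpn (LP (LK LD1_c4 LD2_c55 LD3_c6)))))))))))))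
theorem f243230 : Led Lsl_dt (LP (LK LD1_c4 LD2_c15 LD3_c41)) = (LP (LK LD1_c8 LD2_c30 LD3_c21)) :=
  Lre_d IH (LK LD1_c4 LD2_c15 LD3_c41) (LK LD1_c8 LD2_c30 LD3_c21) Lrfl Lrfl
theorem f295288 : Led Lsl_ct (LP (LK LD1_c8 LD2_c30 LD3_c32)) = (LP (LK LD1_c5 LD2_c27 LD3_c27)) :=
  Lgr Lrot8 (Lpr_gt (K13.f684 IH) (Lpr_dt (K13.f243469 IH) (Lpr_gt (K15.f243213 IH) (Lpr_dt (f243230 IH) (Lpe (K17.f262929 IH) (Lpe (K17.f244852 IH) (Lpr_gf (f284570 IH) (Lpe (f219084 IH) (Lpr_gf (K18.f295286 IH) (Lpn (LP (LK LD1_c5 LD2_c27 LD3_c27))))))))))))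
theorem f312054 : Led Lsl_cf (LP (LK LD1_c4 LD2_c16 LD3_c3)) = (LP (LK LD1_c2 LD2_c40 LD3_c4)) :=
  Lgr Lrot55 (Lpr_dt (f312043 IH) (Lpr_ct (K16.f278057 IH) (Lpr_dt (K16.f33500 IH) (Lpr_ct (K10.f33455 IH) (Lpr_dt (K16.f33505 IH) (Lpr_ct (K8.f33427 IH) (Lpr_dt (K11.f33445 IH) (Lpr_ct (K14.f243556 IH) (Lpe (K13.f243532 IH) (Lpr_ct (f295288 IH) (Lpr_dt (K18.f282830 IH) (Lpr_ct (K18.f278114 IH) (Lpr_dt (K18.f278088 IH) (Lpr_ct (K16.f235778 IH) (Lpr_dt (K16.f278091 IH) (Lpn (LP (LK LD1_c2 LD2_c40 LD3_c4))))))))))))))))))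
theorem f312075 : Led Lsl_bt (LP (LK LD1_c2 LD2_c40 LD3_c4)) = (LP (LK LD1_c2 LD2_c7 LD3_c6)) :=
  Lgr Lrot92 (Lpe (f312054 IH) (Lpr_gt (f312068 IH) (Lpe (K13.f51491 IH) (Lpr_bt (K16.f250627 IH) (Lpe (K17.f250834 IH) (Lpr_ct (K17.f29014 IH) (Lpr_gt (K17.f290149 IH) (Lpe (K17.f222113 IH) (Lpr_bt (K18.f304509 IH) (Lpr_gt (K17.f279251 IH) (Lpn (LP (LK LD1_c2 LD2_c7 LD3_c6)))))))))))))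
theorem f53967 : Led Lsl_af (LP (LK LD1_c1 LD2_c59 LD3_c38)) = (LP (LK LD1_c1 LD2_c59 LD3_c39)) :=
  Lgr Lrot0 (Lpr_at (K12.f53965 IH) (Lpn (LP (LK LD1_c1 LD2_c59 LD3_c39))))
theorem f279253 : Led Lsl_ff (LP (LK LD1_c1 LD2_c59 LD3_c39)) = (LP (LK LD1_c2 LD2_c7 LD3_c6)) :=
  Lgr Lrot52 (Lpe (f53967 IH) (Lpe (K16.f270906 IH) (Lpr_gf (K16.f279196 IH) (Lpn (LP (LK LD1_c2 LD2_c7 LD3_c6))))))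
theorem f312082 : Led Lsl_ff (LP (LK LD1_c2 LD2_c40 LD3_c4)) = (LP (LK LD1_c2 LD2_c34 LD3_c16)) :=
  Lgr Lrot25 (Lpr_bt (f312075 IH) (Lpe (f279253 IH) (Lpe (K14.f53969 IH) (Lpn (LP (LK LD1_c2 LD2_c34 LD3_c16))))))
theorem f312088 : Led Lsl_ft (LP (LK LD1_c2 LD2_c40 LD3_c4)) = (LP (LK LD1_c2 LD2_c34 LD3_c16)) :=
  Lgr Lrot48 (Lpr_ff (f312082 IH) (Lpn (LP (LK LD1_c2 LD2_c34 LD3_c16))))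
theorem f312090 : Led Lsl_ff (LP (LK LD1_c1 LD2_c16 LD3_c47)) = (LP (LK LD1_c1 LD2_c14 LD3_c6)) :=
  Lgr Lrot19 (Lpr_dt (K16.f278091 IH) (Lpr_ft (f312088 IH) (Lpr_dt (K12.f33446 IH) (Lpn (LP (LK LD1_c1 LD2_c14 LD3_c6))))))
theorem f312102 : Led Lsl_bt (LP (LK LD1_c1 LD2_c16 LD3_c47)) = (LP (LK LD1_c1 LD2_c0 LD3_c36)) :=
  Lgr Lrot35 (Lpr_ff (f312090 IH) (Lpe (K10.f47983 IH) (Lpr_ff (K16.f279293 IH) (Lpn (LP (LK LD1_c1 LD2_c0 LD3_c36))))))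
theorem f219335 : Led Lsl_ff (LP (LK LD1_c0 LD2_c56 LD3_c45)) = (LP (LK LD1_c0 LD2_c58 LD3_c38)) :=
  Lgr Lrot23 (Lpr_ct (K10.f44490 IH) (Lpr_ft (K12.f219333 IH) (Lpr_ct (K12.f199183 IH) (Lpn (LP (LK LD1_c0 LD2_c58 LD3_c38))))))
theorem f279302 : Led Lsl_af (LP (LK LD1_c0 LD2_c58 LD3_c38)) = (LP (LK LD1_c1 LD2_c0 LD3_c36)) :=
  Lgr Lrot45 (Lpe (f219335 IH) (Lpr_at (K10.f47999 IH) (Lpr_ft (K16.f279299 IH) (Lpn (LP (LK LD1_c1 LD2_c0 LD3_c36))))))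
theorem f312104 : Led Lsl_af (LP (LK LD1_c1 LD2_c16 LD3_c47)) = (LP (LK LD1_c2 LD2_c11 LD3_c38)) :=
  Lgr Lrot36 (Lpr_bt (f312102 IH) (Lpe (f279302 IH) (Lpr_bt (K12.f219351 IH) (Lpe (K12.f219537 IH) (Lpr_bt (K10.f188760 IH) (Lpn (LP (LK LD1_c2 LD2_c11 LD3_c38))))))))
theorem f312106 : Led Lsl_at (LP (LK LD1_c0 LD2_c35 LD3_c32)) = (LP (LK LD1_c1 LD2_c2 LD3_c49)) :=
  Lgr Lrot107 (Lpe (K16.f278087 IH) (Lpr_af (f312104 IH) (Lpe (K11.f188601 IH) (Lpn (LP (LK LD1_c1 LD2_c2 LD3_c49))))))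
theorem f312110 : Led Lsl_ff (LP (LK LD1_c0 LD2_c35 LD3_c32)) = (LP (LK LD1_c0 LD2_c34 LD3_c22)) :=
  Lgr Lrot30 (Lpr_at (f312106 IH) (Lpr_ft (K10.f188915 IH) (Lpe (K10.f33410 IH) (Lpn (LP (LK LD1_c0 LD2_c34 LD3_c22))))))
theorem f312112 : Led Lsl_bt (LP (LK LD1_c0 LD2_c35 LD3_c32)) = (LP (LK LD1_c1 LD2_c16 LD3_c2)) :=
  Lgr Lrot35 (Lpr_ff (f312110 IH) (Lpe (K8.f33510 IH) (Lpr_ff (K14.f235585 IH) (Lpn (LP (LK LD1_c1 LD2_c16 LD3_c2))))))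
theorem f310671 : Led Lsl_ct (LP (LK LD1_c0 LD2_c35 LD3_c14)) = (LP (LK LD1_c1 LD2_c16 LD3_c3)) :=
  Lgr Lrot176 (Lpe (K14.f224180 IH) (Lpe (K16.f224179 IH) (Lpe (K13.f224187 IH) (Lpe (K16.f234053 IH) (Lpr_df (K16.f235639 IH) (Lpe (K12.f172012 IH) (Lpe (K12.f42473 IH) (Lpe (K12.f172003 IH) (Lpe (K16.f172010 IH) (Lpe (K12.f172011 IH) (Lpe (K12.f212991 IH) (Lpe (f279640 IH) (Lpr_df (f310667 IH) (Lpe (K17.f235633 IH) (Lpe (f235622 IH) (Lpn (LP (LK LD1_c1 LD2_c16 LD3_c3))))))))))))))))))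
theorem f312116 : Led Lsl_gf (LP (LK LD1_c1 LD2_c1 LD3_c1)) = (LP (LK LD1_c1 LD2_c16 LD3_c3)) :=
  Lgr Lrot129 (Lpr_cf (K12.f53655 IH) (Lpr_bt (K9.f53647 IH) (Lpe (K13.f191829 IH) (Lpr_bf (K10.f187184 IH) (Lpr_ct (K10.f171166 IH) (Lpe (K18.f283214 IH) (Lpe (K16.f235778 IH) (Lpr_bt (f312112 IH) (Lpr_gt (K13.f196572 IH) (Lpr_ct (f310671 IH) (Lpn (LP (LK LD1_c1 LD2_c16 LD3_c3)))))))))))))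
theorem f254291 : Led Lsl_dt (LP (LK LD1_c2 LD2_c7 LD3_c52)) = (LP (LK LD1_c1 LD2_c58 LD3_c46)) :=
  Lgr Lrot79 (Lpe (K13.f231413 IH) (Lpr_df (K14.f254285 IH) (Lpe (K12.f199163 IH) (Lpn (LP (LK LD1_c1 LD2_c58 LD3_c46))))))
theorem f216359 : Led Lsl_ct (LP (LK LD1_c2 LD2_c24 LD3_c9)) = (LP (LK LD1_c1 LD2_c57 LD3_c26)) :=
  Lgr Lrot8 (Lpr_gt (K12.f170847 IH) (Lpe (K10.f187923 IH) (Lpr_gt (K10.f31132 IH) (Lpr_dt (K11.f31416 IH) (Lpe (K9.f31532 IH) (Lpe (K11.f31045 IH) (Lpe (K12.f31537 IH) (Lpr_df (K12.f216354 IH) (Lpe (K12.f211592 IH) (Lpn (LP (LK LD1_c1 LD2_c57 LD3_c26))))))))))))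
theorem f266640 : Led Lsl_dt (LP (LK LD1_c2 LD2_c29 LD3_c47)) = (LP (LK LD1_c2 LD2_c24 LD3_c9)) :=
  Lgr Lrot105 (Lpr_gf (K15.f266634 IH) (Lpe (K15.f192329 IH) (Lpe (K10.f192264 IH) (Lpe (K0.f31535 IH) (Lpe (K10.f192345 IH) (Lpr_dt (K15.f182030 IH) (Lpr_gt (K16.f240705 IH) (Lpe (K13.f240895 IH) (Lpe (f216359 IH) (Lpn (LP (LK LD1_c2 LD2_c24 LD3_c9))))))))))))
theorem f235636 : Led Lsl_et (LP (LK LD1_c2 LD2_c38 LD3_c10)) = (LP (LK LD1_c5 LD2_c23 LD3_c25)) :=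
  Lre_e IH (LK LD1_c2 LD2_c38 LD3_c10) (LK LD1_c5 LD2_c23 LD3_c25) Lrfl Lrfl
theorem f312122 : Led Lsl_gt (LP (LK LD1_c5 LD2_c4 LD3_c57)) = (LP (LK LD1_c5 LD2_c23 LD3_c25)) :=
  Lgr Lrot131 (Lpe (K16.f270352 IH) (Lpr_dt (f266640 IH) (Lpr_gf (K14.f253502 IH) (Lpe (f254291 IH) (Lpe (K13.f31413 IH) (Lpe (K0.f31172 IH) (Lpr_dt (K0.f31162 IH) (Lpr_gf (f312116 IH) (Lpe (K13.f235629 IH) (Lpr_et (f235636 IH) (Lpn (LP (LK LD1_c5 LD2_c23 LD3_c25)))))))))))))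
theorem f312126 : Led Lsl_gf (LP (LK LD1_c8 LD2_c41 LD3_c25)) = (LP (LK LD1_c5 LD2_c23 LD3_c25)) :=
  Lgr Lrot76 (Lpr_af (K16.f275725 IH) (Lpe (K16.f275723 IH) (Lpr_gt (f312122 IH) (Lpn (LP (LK LD1_c5 LD2_c23 LD3_c25))))))
theorem f312132 : Led Lsl_gt (LP (LK LD1_c8 LD2_c41 LD3_c25)) = (LP (LK LD1_c5 LD2_c23 LD3_c32)) :=
  Lgr Lrot46 (Lpr_gf (f312126 IH) (Lpe (f279458 IH) (Lpr_at (f279501 IH) (Lpn (LP (LK LD1_c5 LD2_c23 LD3_c32))))))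
theorem f192624 : Led Lsl_dt (LP (LK LD1_c10 LD2_c0 LD3_c54)) = (LP (LK LD1_c8 LD2_c3 LD3_c22)) :=
  Lgr Lrot42 (Lpr_df (K16.f192611 IH) (Lpn (LP (LK LD1_c8 LD2_c3 LD3_c22))))
theorem f184744 : Led Lsl_gt (LP (LK LD1_c4 LD2_c2 LD3_c5)) = (LP (LK LD1_c8 LD2_c4 LD3_c46)) :=
  Lre_g IH (LK LD1_c4 LD2_c2 LD3_c5) (LK LD1_c8 LD2_c4 LD3_c46) Lrfl Lrfl
theorem f275911 : Led Lsl_gt (LP (LK LD1_c8 LD2_c4 LD3_c46)) = (LP (LK LD1_c8 LD2_c3 LD3_c22)) :=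
  Lgr Lrot46 (Lpe (f184744 IH) (Lpr_ft (K16.f184709 IH) (Lpr_at (K16.f275903 IH) (Lpn (LP (LK LD1_c8 LD2_c3 LD3_c22))))))
theorem f275913 : Led Lsl_dt (LP (LK LD1_c15 LD2_c12 LD3_c48)) = (LP (LK LD1_c8 LD2_c4 LD3_c46)) :=
  Lre_d IH (LK LD1_c15 LD2_c12 LD3_c48) (LK LD1_c8 LD2_c4 LD3_c46) Lrfl Lrfl
theorem f255782 : Led Lsl_dt (LP (LK LD1_c5 LD2_c23 LD3_c32)) = (LP (LK LD1_c10 LD2_c37 LD3_c34)) :=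
  Lre_d IH (LK LD1_c5 LD2_c23 LD3_c32) (LK LD1_c10 LD2_c37 LD3_c34) Lrfl Lrfl
theorem f308868 : Led Lsl_at (LP (LK LD1_c2 LD2_c38 LD3_c11)) = (LP (LK LD1_c1 LD2_c16 LD3_c5)) :=
  Lre_a IH (LK LD1_c2 LD2_c38 LD3_c11) (LK LD1_c1 LD2_c16 LD3_c5) Lrfl Lrfl
theorem f308869 : Led Lsl_dt (LP (LK LD1_c4 LD2_c51 LD3_c4)) = (LP (LK LD1_c2 LD2_c38 LD3_c11)) :=
  Lgr Lrot44 (Lpr_af (f308864 IH) (Lpe (f235588 IH) (Lpe (f308868 IH) (Lpn (LP (LK LD1_c2 LD2_c38 LD3_c11))))))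
theorem f238554 : Led Lsl_gt (LP (LK LD1_c4 LD2_c9 LD3_c17)) = (LP (LK LD1_c8 LD2_c18 LD3_c35)) :=
  Lre_g IH (LK LD1_c4 LD2_c9 LD3_c17) (LK LD1_c8 LD2_c18 LD3_c35) Lrfl Lrfl
theorem f238557 : Led Lsl_dt (LP (LK LD1_c8 LD2_c18 LD3_c35)) = (LP (LK LD1_c15 LD2_c37 LD3_c47)) :=
  Lre_d IH (LK LD1_c8 LD2_c18 LD3_c35) (LK LD1_c15 LD2_c37 LD3_c47) Lrfl Lrfl
theorem f246129 : Led Lsl_gt (LP (LK LD1_c4 LD2_c2 LD3_c37)) = (LP (LK LD1_c8 LD2_c5 LD3_c48)) :=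
  Lre_g IH (LK LD1_c4 LD2_c2 LD3_c37) (LK LD1_c8 LD2_c5 LD3_c48) Lrfl Lrfl
theorem f246130 : Led Lsl_dt (LP (LK LD1_c8 LD2_c5 LD3_c48)) = (LP (LK LD1_c15 LD2_c14 LD3_c41)) :=
  Lre_d IH (LK LD1_c8 LD2_c5 LD3_c48) (LK LD1_c15 LD2_c14 LD3_c41) Lrfl Lrfl
theorem f305614 : Led Lsl_gf (LP (LK LD1_c20 LD2_c57 LD3_c2)) = (LP (LK LD1_c15 LD2_c14 LD3_c41)) :=
  Lgr Lrot134 (Lpe (f305605 IH) (Lpr_et (f305608 IH) (Lpr_gt (f225598 IH) (Lpe (K18.f246131 IH) (Lpr_dt (K13.f196109 IH) (Lpe (K13.f246117 IH) (Lpr_df (K13.f246092 IH) (Lpr_et (K18.f212302 IH) (Lpr_gt (f246129 IH) (Lpr_dt (f246130 IH) (Lpn (LP (LK LD1_c15 LD2_c14 LD3_c41)))))))))))))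
theorem f243996 : Led Lsl_et (LP (LK LD1_c4 LD2_c3 LD3_c4)) = (LP (LK LD1_c1 LD2_c58 LD3_c32)) :=
  Lre_e IH (LK LD1_c4 LD2_c3 LD3_c4) (LK LD1_c1 LD2_c58 LD3_c32) Lrfl Lrfl
theorem f238564 : Led Lsl_dt (LP (LK LD1_c15 LD2_c37 LD3_c47)) = (LP (LK LD1_c8 LD2_c18 LD3_c35)) :=
  Lre_d IH (LK LD1_c15 LD2_c37 LD3_c47) (LK LD1_c8 LD2_c18 LD3_c35) Lrfl Lrfl
theorem f305616 : Led Lsl_et (LP (LK LD1_c15 LD2_c37 LD3_c47)) = (LP (LK LD1_c15 LD2_c14 LD3_c41)) :=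
  Lgr Lrot121 (Lpr_dt (f238564 IH) (Lpe (f238554 IH) (Lpe (K15.f238549 IH) (Lpr_et (K15.f238562 IH) (Lpr_gf (K16.f265631 IH) (Lpe (f243996 IH) (Lpr_dt (K18.f192236 IH) (Lpe (f192252 IH) (Lpr_df (f305603 IH) (Lpr_gf (f305614 IH) (Lpn (LP (LK LD1_c15 LD2_c14 LD3_c41)))))))))))))
theorem f305622 : Led Lsl_ef (LP (LK LD1_c15 LD2_c37 LD3_c47)) = (LP (LK LD1_c15 LD2_c14 LD3_c41)) :=
  Lgr Lrot88 (Lpr_et (f305616 IH) (Lpn (LP (LK LD1_c15 LD2_c14 LD3_c41))))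
theorem f246137 : Led Lsl_dt (LP (LK LD1_c15 LD2_c14 LD3_c41)) = (LP (LK LD1_c8 LD2_c5 LD3_c48)) :=
  Lre_d IH (LK LD1_c15 LD2_c14 LD3_c41) (LK LD1_c8 LD2_c5 LD3_c48) Lrfl Lrfl
theorem f305628 : Led Lsl_gt (LP (LK LD1_c15 LD2_c37 LD3_c47)) = (LP (LK LD1_c15 LD2_c9 LD3_c29)) :=
  Lgr Lrot137 (Lpr_ef (f305622 IH) (Lpr_dt (f246137 IH) (Lpe (f246129 IH) (Lpr_df (K18.f296417 IH) (Lpr_et (K17.f220227 IH) (Lpe (K12.f226780 IH) (Lpe (K18.f226859 IH) (Lpr_dt (K16.f226860 IH) (Lpe (f226861 IH) (Lpr_df (f226862 IH) (Lpn (LP (LK LD1_c15 LD2_c9 LD3_c29)))))))))))))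
theorem f226865 : Led Lsl_dt (LP (LK LD1_c8 LD2_c8 LD3_c5)) = (LP (LK LD1_c15 LD2_c9 LD3_c29)) :=
  Lgr Lrot42 (Lpr_df (f226862 IH) (Lpn (LP (LK LD1_c15 LD2_c9 LD3_c29))))
theorem f226867 : Led Lsl_et (LP (LK LD1_c8 LD2_c8 LD3_c5)) = (LP (LK LD1_c15 LD2_c18 LD3_c61)) :=
  Lre_e IH (LK LD1_c8 LD2_c8 LD3_c5) (LK LD1_c15 LD2_c18 LD3_c61) Lrfl Lrfl
theorem f311307 : Led Lsl_gf (LP (LK LD1_c9 LD2_c34 LD3_c10)) = (LP (LK LD1_c15 LD2_c18 LD3_c61)) :=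
  Lgr Lrot141 (Lpe (f308843 IH) (Lpr_dt (f308869 IH) (Lpr_gt (f311290 IH) (Lpe (K13.f167271 IH) (Lpr_et (K16.f233736 IH) (Lpr_gt (f238554 IH) (Lpr_dt (f238557 IH) (Lpr_gt (f305628 IH) (Lpe (f226865 IH) (Lpr_et (f226867 IH) (Lpn (LP (LK LD1_c15 LD2_c18 LD3_c61)))))))))))))
theorem f308873 : Led Lsl_af (LP (LK LD1_c9 LD2_c34 LD3_c10)) = (LP (LK LD1_c5 LD2_c23 LD3_c31)) :=
  Lgr Lrot0 (Lpr_at (f308871 IH) (Lpn (LP (LK LD1_c5 LD2_c23 LD3_c31))))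
theorem f311309 : Led Lsl_gt (LP (LK LD1_c10 LD2_c37 LD3_c34)) = (LP (LK LD1_c15 LD2_c18 LD3_c61)) :=
  Lgr Lrot5 (Lpr_ft (f255803 IH) (Lpe (f308873 IH) (Lpr_gf (f311307 IH) (Lpn (LP (LK LD1_c15 LD2_c18 LD3_c61))))))
theorem f180947 : Led Lsl_et (LP (LK LD1_c2 LD2_c34 LD3_c43)) = (LP (LK LD1_c5 LD2_c15 LD3_c44)) :=
  Lre_e IH (LK LD1_c2 LD2_c34 LD3_c43) (LK LD1_c5 LD2_c15 LD3_c44) Lrfl Lrfl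
theorem f274680 : Led Lsl_ef (LP (LK LD1_c4 LD2_c3 LD3_c5)) = (LP (LK LD1_c4 LD2_c2 LD3_c61)) :=
  Lgr Lrot88 (Lpr_et (K17.f274677 IH) (Lpn (LP (LK LD1_c4 LD2_c2 LD3_c61))))
theorem f293385 : Led Lsl_df (LP (LK LD1_c4 LD2_c2 LD3_c61)) = (LP (LK LD1_c4 LD2_c29 LD3_c4)) :=
  Lgr Lrot70 (Lpe (f274680 IH) (Lpr_dt (K17.f274675 IH) (Lpr_et (f180947 IH) (Lpr_dt (f293353 IH) (Lpr_et (f293379 IH) (Lpn (LP (LK LD1_c4 LD2_c29 LD3_c4))))))))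
theorem f194429 : Led Lsl_dt (LP (LK LD1_c1 LD2_c16 LD3_c16)) = (LP (LK LD1_c1 LD2_c58 LD3_c30)) :=
  Lgr Lrot42 (Lpr_df (K12.f194422 IH) (Lpn (LP (LK LD1_c1 LD2_c58 LD3_c30))))
theorem f194431 : Led Lsl_et (LP (LK LD1_c1 LD2_c16 LD3_c16)) = (LP (LK LD1_c2 LD2_c38 LD3_c50)) :=
  Lre_e IH (LK LD1_c1 LD2_c16 LD3_c16) (LK LD1_c2 LD2_c38 LD3_c50) Lrfl Lrfl
theorem f194487 : Led Lsl_gt (LP (LK LD1_c2 LD2_c38 LD3_c50)) = (LP (LK LD1_c5 LD2_c24 LD3_c33)) :=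
  Lre_g IH (LK LD1_c2 LD2_c38 LD3_c50) (LK LD1_c5 LD2_c24 LD3_c33) Lrfl Lrfl
theorem f310520 : Led Lsl_dt (LP (LK LD1_c5 LD2_c24 LD3_c33)) = (LP (LK LD1_c8 LD2_c3 LD3_c0)) :=
  Lgr Lrot171 (Lpe (f194487 IH) (Lpe (f194431 IH) (Lpr_dt (f194429 IH) (Lpe (K17.f194425 IH) (Lpr_df (f293385 IH) (Lpe (f293387 IH) (Lpe (f293351 IH) (Lpe (K18.f293164 IH) (Lpe (K11.f211335 IH) (Lpr_gf (f310516 IH) (Lpn (LP (LK LD1_c8 LD2_c3 LD3_c0)))))))))))))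
theorem f194595 : Led Lsl_et (LP (LK LD1_c10 LD2_c39 LD3_c49)) = (LP (LK LD1_c5 LD2_c24 LD3_c33)) :=
  Lre_e IH (LK LD1_c10 LD2_c39 LD3_c49) (LK LD1_c5 LD2_c24 LD3_c33) Lrfl Lrfl
theorem f226868 : Led Lsl_et (LP (LK LD1_c8 LD2_c3 LD3_c0)) = (LP (LK LD1_c15 LD2_c9 LD3_c29)) :=
  Lre_e IH (LK LD1_c8 LD2_c3 LD3_c0) (LK LD1_c15 LD2_c9 LD3_c29) Lrfl Lrfl
theorem f310524 : Led Lsl_df (LP (LK LD1_c10 LD2_c39 LD3_c49)) = (LP (LK LD1_c15 LD2_c18 LD3_c61)) :=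
  Lgr Lrot70 (Lpr_et (f194595 IH) (Lpr_dt (f310520 IH) (Lpr_et (f226868 IH) (Lpe (f226862 IH) (Lpr_et (f226867 IH) (Lpn (LP (LK LD1_c15 LD2_c18 LD3_c61))))))))
theorem f310538 : Led Lsl_dt (LP (LK LD1_c10 LD2_c39 LD3_c49)) = (LP (LK LD1_c15 LD2_c18 LD3_c61)) :=
  Lgr Lrot42 (Lpr_df (f310524 IH) (Lpn (LP (LK LD1_c15 LD2_c18 LD3_c61))))
theorem f310530 : Led Lsl_gt (LP (LK LD1_c5 LD2_c24 LD3_c33)) = (LP (LK LD1_c10 LD2_c39 LD3_c39)) :=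
  Lre_g IH (LK LD1_c5 LD2_c24 LD3_c33) (LK LD1_c10 LD2_c39 LD3_c39) Lrfl Lrfl
theorem f312147 : Led Lsl_et (LP (LK LD1_c15 LD2_c12 LD3_c48)) = (LP (LK LD1_c10 LD2_c39 LD3_c39)) :=
  Lgr Lrot122 (Lpr_dt (f275913 IH) (Lpr_gt (f275911 IH) (Lpe (f192624 IH) (Lpe (K16.f273289 IH) (Lpr_gt (f312132 IH) (Lpr_dt (f255782 IH) (Lpr_gt (f311309 IH) (Lpe (f310538 IH) (Lpr_et (f194595 IH) (Lpr_gt (f310530 IH) (Lpn (LP (LK LD1_c10 LD2_c39 LD3_c39)))))))))))))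
theorem f312149 : Led Lsl_ef (LP (LK LD1_c15 LD2_c12 LD3_c48)) = (LP (LK LD1_c10 LD2_c39 LD3_c39)) :=
  Lgr Lrot88 (Lpr_et (f312147 IH) (Lpn (LP (LK LD1_c10 LD2_c39 LD3_c39))))
theorem f312253 : Led Lsl_ft (LP (LK LD1_c5 LD2_c24 LD3_c29)) = (LP (LK LD1_c10 LD2_c39 LD3_c39)) :=
  Lre_f IH (LK LD1_c5 LD2_c24 LD3_c29) (LK LD1_c10 LD2_c39 LD3_c39) Lrfl Lrfl
theorem f312254 : Led Lsl_et (LP (LK LD1_c2 LD2_c38 LD3_c48)) = (LP (LK LD1_c5 LD2_c24 LD3_c29)) :=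
  Lre_e IH (LK LD1_c2 LD2_c38 LD3_c48) (LK LD1_c5 LD2_c24 LD3_c29) Lrfl Lrfl
theorem f194594 : Led Lsl_at (LP (LK LD1_c2 LD2_c38 LD3_c48)) = (LP (LK LD1_c1 LD2_c16 LD3_c16)) :=
  Lre_a IH (LK LD1_c2 LD2_c38 LD3_c48) (LK LD1_c1 LD2_c16 LD3_c16) Lrfl Lrfl
theorem f235573 : Led Lsl_ft (LP (LK LD1_c4 LD2_c20 LD3_c55)) = (LP (LK LD1_c2 LD2_c38 LD3_c48)) :=
  Lgr Lrot2 (Lpr_gt (K13.f234043 IH) (Lpr_gt (K13.f235571 IH) (Lpe (f194594 IH) (Lpn (LP (LK LD1_c2 LD2_c38 LD3_c48))))))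
theorem f213450 : Led Lsl_et (LP (LK LD1_c8 LD2_c39 LD3_c30)) = (LP (LK LD1_c4 LD2_c20 LD3_c55)) :=
  Lre_e IH (LK LD1_c8 LD2_c39 LD3_c30) (LK LD1_c4 LD2_c20 LD3_c55) Lrfl Lrfl
theorem f312255 : Led Lsl_ft (LP (LK LD1_c15 LD2_c12 LD3_c48)) = (LP (LK LD1_c8 LD2_c39 LD3_c30)) :=
  Lgr Lrot86 (Lpr_ef (f312149 IH) (Lpe (f312253 IH) (Lpe (f312254 IH) (Lpe (f235573 IH) (Lpe (f213450 IH) (Lpn (LP (LK LD1_c8 LD2_c39 LD3_c30))))))))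
theorem f184745 : Led Lsl_dt (LP (LK LD1_c8 LD2_c4 LD3_c46)) = (LP (LK LD1_c15 LD2_c12 LD3_c48)) :=
  Lre_d IH (LK LD1_c8 LD2_c4 LD3_c46) (LK LD1_c15 LD2_c12 LD3_c48) Lrfl Lrfl
theorem f192337 : Led Lsl_et (LP (LK LD1_c2 LD2_c7 LD3_c43)) = (LP (LK LD1_c4 LD2_c20 LD3_c31)) :=
  Lre_e IH (LK LD1_c2 LD2_c7 LD3_c43) (LK LD1_c4 LD2_c20 LD3_c31) Lrfl Lrfl
theorem f184415 : Led Lsl_gt (LP (LK LD1_c2 LD2_c8 LD3_c11)) = (LP (LK LD1_c4 LD2_c21 LD3_c20)) :=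
  Lre_g IH (LK LD1_c2 LD2_c8 LD3_c11) (LK LD1_c4 LD2_c21 LD3_c20) Lrfl Lrfl
theorem f255631 : Led Lsl_dt (LP (LK LD1_c4 LD2_c21 LD3_c20)) = (LP (LK LD1_c4 LD2_c20 LD3_c55)) :=
  Lgr Lrot171 (Lpe (f184415 IH) (Lpe (K13.f184368 IH) (Lpr_dt (K13.f29133 IH) (Lpr_gf (K14.f255616 IH) (Lpe (f235588 IH) (Lpr_et (f235587 IH) (Lpe (K13.f196572 IH) (Lpe (K14.f235579 IH) (Lpr_dt (K13.f234101 IH) (Lpe (K13.f234043 IH) (Lpn (LP (LK LD1_c4 LD2_c20 LD3_c55)))))))))))))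
theorem f255652 : Led Lsl_df (LP (LK LD1_c4 LD2_c21 LD3_c20)) = (LP (LK LD1_c4 LD2_c20 LD3_c55)) :=
  Lgr Lrot38 (Lpr_dt (f255631 IH) (Lpn (LP (LK LD1_c4 LD2_c20 LD3_c55))))
theorem f293391 : Led Lsl_gt (LP (LK LD1_c4 LD2_c21 LD3_c20)) = (LP (LK LD1_c4 LD2_c2 LD3_c61)) :=
  Lgr Lrot139 (Lpr_df (f255652 IH) (Lpe (K12.f48129 IH) (Lpe (K0.f31173 IH) (Lpr_dt (K0.f28618 IH) (Lpr_gf (K12.f192327 IH) (Lpe (K15.f164160 IH) (Lpr_et (f192337 IH) (Lpe (f255654 IH) (Lpr_ef (f293387 IH) (Lpe (f293385 IH) (Lpn (LP (LK LD1_c4 LD2_c2 LD3_c61)))))))))))))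
theorem f213458 : Led Lsl_et (LP (LK LD1_c4 LD2_c20 LD3_c55)) = (LP (LK LD1_c8 LD2_c39 LD3_c30)) :=
  Lre_e IH (LK LD1_c4 LD2_c20 LD3_c55) (LK LD1_c8 LD2_c39 LD3_c30) Lrfl Lrfl
theorem f213457 : Led Lsl_gt (LP (LK LD1_c16 LD2_c12 LD3_c59)) = (LP (LK LD1_c8 LD2_c39 LD3_c30)) :=
  Lre_g IH (LK LD1_c16 LD2_c12 LD3_c59) (LK LD1_c8 LD2_c39 LD3_c30) Lrfl Lrfl
theorem f240202 : Led Lsl_gt (LP (LK LD1_c8 LD2_c4 LD3_c36)) = (LP (LK LD1_c15 LD2_c12 LD3_c29)) :=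
  Lre_g IH (LK LD1_c8 LD2_c4 LD3_c36) (LK LD1_c15 LD2_c12 LD3_c29) Lrfl Lrfl
theorem f265352 : Led Lsl_dt (LP (LK LD1_c25 LD2_c1 LD3_c28)) = (LP (LK LD1_c15 LD2_c12 LD3_c29)) :=
  Lre_d IH (LK LD1_c25 LD2_c1 LD3_c28) (LK LD1_c15 LD2_c12 LD3_c29) Lrfl Lrfl
theorem f293395 : Led Lsl_ef (LP (LK LD1_c16 LD2_c12 LD3_c59)) = (LP (LK LD1_c25 LD2_c1 LD3_c28)) :=
  Lgr Lrot114 (Lpr_gt (f213457 IH) (Lpe (f213458 IH) (Lpe (f255652 IH) (Lpr_gt (f293391 IH) (Lpr_df (f293385 IH) (Lpe (f293387 IH) (Lpr_gt (f255654 IH) (Lpr_dt (K17.f265336 IH) (Lpr_gt (f240202 IH) (Lpe (f265352 IH) (Lpn (LP (LK LD1_c25 LD2_c1 LD3_c28)))))))))))))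
theorem f192620 : Led Lsl_et (LP (LK LD1_c5 LD2_c4 LD3_c54)) = (LP (LK LD1_c2 LD2_c29 LD3_c46)) :=
  Lre_e IH (LK LD1_c5 LD2_c4 LD3_c54) (LK LD1_c2 LD2_c29 LD3_c46) Lrfl Lrfl
theorem f171610 : Led Lsl_gt (LP (LK LD1_c8 LD2_c3 LD3_c21)) = (LP (LK LD1_c4 LD2_c1 LD3_c20)) :=
  Lre_g IH (LK LD1_c8 LD2_c3 LD3_c21) (LK LD1_c4 LD2_c1 LD3_c20) Lrfl Lrfl
theorem f293399 : Led Lsl_dt (LP (LK LD1_c8 LD2_c39 LD3_c30)) = (LP (LK LD1_c8 LD2_c3 LD3_c21)) :=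
  Lgr Lrot171 (Lpe (f213457 IH) (Lpr_ef (f293395 IH) (Lpr_dt (f265352 IH) (Lpe (f240202 IH) (Lpe (K17.f265336 IH) (Lpr_et (K17.f243013 IH) (Lpr_gf (K15.f240744 IH) (Lpe (f192620 IH) (Lpr_dt (K15.f192600 IH) (Lpe (f171610 IH) (Lpn (LP (LK LD1_c8 LD2_c3 LD3_c21)))))))))))))
theorem f312259 : Led Lsl_ff (LP (LK LD1_c8 LD2_c4 LD3_c46)) = (LP (LK LD1_c8 LD2_c3 LD3_c21)) :=
  Lgr Lrot19 (Lpr_dt (f184745 IH) (Lpr_ft (f312255 IH) (Lpr_dt (f293399 IH) (Lpn (LP (LK LD1_c8 LD2_c3 LD3_c21))))))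
theorem f312269 : Led Lsl_at (LP (LK LD1_c8 LD2_c4 LD3_c46)) = (LP (LK LD1_c8 LD2_c3 LD3_c20)) :=
  Lgr Lrot26 (Lpr_ff (f312259 IH) (Lpr_gt (f171610 IH) (Lpr_gt (f171609 IH) (Lpn (LP (LK LD1_c8 LD2_c3 LD3_c20))))))
theorem f190882 : Led Lsl_et (LP (LK LD1_c15 LD2_c12 LD3_c49)) = (LP (LK LD1_c8 LD2_c4 LD3_c46)) :=
  Lre_e IH (LK LD1_c15 LD2_c12 LD3_c49) (LK LD1_c8 LD2_c4 LD3_c46) Lrfl Lrfl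
theorem f260010 : Led Lsl_et (LP (LK LD1_c8 LD2_c3 LD3_c20)) = (LP (LK LD1_c15 LD2_c10 LD3_c1)) :=
  Lre_e IH (LK LD1_c8 LD2_c3 LD3_c20) (LK LD1_c15 LD2_c10 LD3_c1) Lrfl Lrfl
theorem f312273 : Led Lsl_af (LP (LK LD1_c15 LD2_c12 LD3_c49)) = (LP (LK LD1_c15 LD2_c10 LD3_c1)) :=
  Lgr Lrot50 (Lpr_et (f190882 IH) (Lpr_at (f312269 IH) (Lpr_et (f260010 IH) (Lpn (LP (LK LD1_c15 LD2_c10 LD3_c1))))))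
theorem f296271 : Led Lsl_ft (LP (LK LD1_c4 LD2_c3 LD3_c4)) = (LP (LK LD1_c8 LD2_c6 LD3_c47)) :=
  Lre_f IH (LK LD1_c4 LD2_c3 LD3_c4) (LK LD1_c8 LD2_c6 LD3_c47) Lrfl Lrfl
theorem f296272 : Led Lsl_af (LP (LK LD1_c8 LD2_c36 LD3_c42)) = (LP (LK LD1_c8 LD2_c6 LD3_c47)) :=
  Lgr Lrot31 (Lpr_gf (f296269 IH) (Lpe (K18.f184821 IH) (Lpr_ft (f296271 IH) (Lpn (LP (LK LD1_c8 LD2_c6 LD3_c47))))))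
theorem f312277 : Led Lsl_dt (LP (LK LD1_c15 LD2_c12 LD3_c49)) = (LP (LK LD1_c8 LD2_c6 LD3_c47)) :=
  Lgr Lrot44 (Lpr_af (f312273 IH) (Lpr_df (f260011 IH) (Lpr_af (f296272 IH) (Lpn (LP (LK LD1_c8 LD2_c6 LD3_c47))))))
theorem f46965 : Led Lsl_et (LP (LK LD1_c4 LD2_c2 LD3_c37)) = (LP (LK LD1_c1 LD2_c58 LD3_c19)) :=
  Lre_e IH (LK LD1_c4 LD2_c2 LD3_c37) (LK LD1_c1 LD2_c58 LD3_c19) Lrfl Lrfl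
theorem f312283 : Led Lsl_gf (LP (LK LD1_c4 LD2_c3 LD3_c27)) = (LP (LK LD1_c8 LD2_c6 LD3_c47)) :=
  Lgr Lrot145 (Lpe (K18.f246113 IH) (Lpr_et (f46965 IH) (Lpr_gt (K12.f46962 IH) (Lpr_dt (K1.f46028 IH) (Lpe (K10.f190874 IH) (Lpe (K11.f184653 IH) (Lpr_et (K16.f184685 IH) (Lpr_gt (f184744 IH) (Lpe (f190882 IH) (Lpr_dt (f312277 IH) (Lpn (LP (LK LD1_c8 LD2_c6 LD3_c47)))))))))))))
theorem f253673 : Led Lsl_ct (LP (LK LD1_c5 LD2_c36 LD3_c36)) = (LP (LK LD1_c11 LD2_c5 LD3_c16)) :=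
  Lre_c IH (LK LD1_c5 LD2_c36 LD3_c36) (LK LD1_c11 LD2_c5 LD3_c16) Lrfl Lrfl
theorem f254197 : Led Lsl_gt (LP (LK LD1_c11 LD2_c5 LD3_c16)) = (LP (LK LD1_c19 LD2_c57 LD3_c52)) :=
  Lre_g IH (LK LD1_c11 LD2_c5 LD3_c16) (LK LD1_c19 LD2_c57 LD3_c52) Lrfl Lrfl
theorem f296276 : Led Lsl_bt (LP (LK LD1_c15 LD2_c16 LD3_c24)) = (LP (LK LD1_c8 LD2_c6 LD3_c47)) :=
  Lre_b IH (LK LD1_c15 LD2_c16 LD3_c24) (LK LD1_c8 LD2_c6 LD3_c47) Lrfl Lrfl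
theorem f312291 : Led Lsl_cf (LP (LK LD1_c19 LD2_c57 LD3_c52)) = (LP (LK LD1_c15 LD2_c16 LD3_c24)) :=
  Lgr Lrot58 (Lpe (f254197 IH) (Lpe (f253673 IH) (Lpr_bt (K14.f253670 IH) (Lpr_gf (K17.f287846 IH) (Lpe (K13.f22051 IH) (Lpr_ct (K17.f22063 IH) (Lpr_gf (K17.f244432 IH) (Lpe (K17.f220234 IH) (Lpr_gf (f312283 IH) (Lpe (f296276 IH) (Lpn (LP (LK LD1_c15 LD2_c16 LD3_c24)))))))))))))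
theorem f192241 : Led Lsl_ft (LP (LK LD1_c8 LD2_c6 LD3_c41)) = (LP (LK LD1_c15 LD2_c16 LD3_c24)) :=
  Lre_f IH (LK LD1_c8 LD2_c6 LD3_c41) (LK LD1_c15 LD2_c16 LD3_c24) Lrfl Lrfl
theorem f296158 : Led Lsl_ct (LP (LK LD1_c11 LD2_c5 LD3_c13)) = (LP (LK LD1_c8 LD2_c6 LD3_c41)) :=
  Lgr Lrot15 (Lpr_ef (K18.f296151 IH) (Lpe (K17.f192210 IH) (Lpe (K15.f192231 IH) (Lpn (LP (LK LD1_c8 LD2_c6 LD3_c41))))))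
theorem f312297 : Led Lsl_ft (LP (LK LD1_c19 LD2_c57 LD3_c52)) = (LP (LK LD1_c11 LD2_c5 LD3_c13)) :=
  Lgr Lrot4 (Lpr_cf (f312291 IH) (Lpe (f192241 IH) (Lpe (f296158 IH) (Lpn (LP (LK LD1_c11 LD2_c5 LD3_c13))))))
theorem f254201 : Led Lsl_gt (LP (LK LD1_c19 LD2_c57 LD3_c52)) = (LP (LK LD1_c11 LD2_c5 LD3_c2)) :=
  Lre_g IH (LK LD1_c19 LD2_c57 LD3_c52) (LK LD1_c11 LD2_c5 LD3_c2) Lrfl Lrfl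
theorem f274391 : Led Lsl_et (LP (LK LD1_c6 LD2_c4 LD3_c48)) = (LP (LK LD1_c11 LD2_c53 LD3_c0)) :=
  Lre_e IH (LK LD1_c6 LD2_c4 LD3_c48) (LK LD1_c11 LD2_c53 LD3_c0) Lrfl Lrfl
theorem f254137 : Led Lsl_et (LP (LK LD1_c5 LD2_c36 LD3_c28)) = (LP (LK LD1_c11 LD2_c5 LD3_c2)) :=
  Lre_e IH (LK LD1_c5 LD2_c36 LD3_c28) (LK LD1_c11 LD2_c5 LD3_c2) Lrfl Lrfl
theorem f274392 : Led Lsl_gf (LP (LK LD1_c11 LD2_c53 LD3_c0)) = (LP (LK LD1_c11 LD2_c5 LD3_c2)) :=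
  Lgr Lrot141 (Lpe (f274391 IH) (Lpr_dt (K16.f274380 IH) (Lpr_gt (K16.f54671 IH) (Lpe (K16.f54670 IH) (Lpe (K1.f54645 IH) (Lpr_gt (K12.f54668 IH) (Lpr_dt (K18.f54669 IH) (Lpr_gt (K18.f266877 IH) (Lpe (K15.f253902 IH) (Lpr_et (f254137 IH) (Lpn (LP (LK LD1_c11 LD2_c5 LD3_c2)))))))))))))
theorem f312305 : Led Lsl_af (LP (LK LD1_c11 LD2_c53 LD3_c0)) = (LP (LK LD1_c11 LD2_c5 LD3_c13)) :=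
  Lgr Lrot31 (Lpr_gf (f274392 IH) (Lpe (f254201 IH) (Lpr_ft (f312297 IH) (Lpn (LP (LK LD1_c11 LD2_c5 LD3_c13))))))
theorem f274382 : Led Lsl_et (LP (LK LD1_c11 LD2_c53 LD3_c0)) = (LP (LK LD1_c6 LD2_c4 LD3_c48)) :=
  Lre_e IH (LK LD1_c11 LD2_c53 LD3_c0) (LK LD1_c6 LD2_c4 LD3_c48) Lrfl Lrfl
theorem f312313 : Led Lsl_at (LP (LK LD1_c6 LD2_c4 LD3_c48)) = (LP (LK LD1_c8 LD2_c6 LD3_c40)) :=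
  Lgr Lrot80 (Lpe (f274382 IH) (Lpr_af (f312305 IH) (Lpr_ef (K18.f296151 IH) (Lpn (LP (LK LD1_c8 LD2_c6 LD3_c40))))))
theorem f312321 : Led Lsl_ff (LP (LK LD1_c6 LD2_c4 LD3_c48)) = (LP (LK LD1_c6 LD2_c4 LD3_c34)) :=
  Lgr Lrot52 (Lpr_at (f312313 IH) (Lpe (K17.f291395 IH) (Lpe (K16.f256830 IH) (Lpn (LP (LK LD1_c6 LD2_c4 LD3_c34))))))
theorem f312327 : Led Lsl_ft (LP (LK LD1_c6 LD2_c4 LD3_c48)) = (LP (LK LD1_c6 LD2_c4 LD3_c34)) :=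
  Lgr Lrot48 (Lpr_ff (f312321 IH) (Lpn (LP (LK LD1_c6 LD2_c4 LD3_c34))))
theorem f312333 : Led Lsl_af (LP (LK LD1_c6 LD2_c4 LD3_c36)) = (LP (LK LD1_c6 LD2_c4 LD3_c34)) :=
  Lgr Lrot31 (Lpr_gf (K16.f252594 IH) (Lpe (K16.f274389 IH) (Lpr_ft (f312327 IH) (Lpn (LP (LK LD1_c6 LD2_c4 LD3_c34))))))
theorem f312315 : Led Lsl_af (LP (LK LD1_c6 LD2_c4 LD3_c48)) = (LP (LK LD1_c8 LD2_c6 LD3_c40)) :=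
  Lgr Lrot0 (Lpr_at (f312313 IH) (Lpn (LP (LK LD1_c8 LD2_c6 LD3_c40))))
theorem f312343 : Led Lsl_ft (LP (LK LD1_c6 LD2_c4 LD3_c36)) = (LP (LK LD1_c8 LD2_c6 LD3_c40)) :=
  Lgr Lrot101 (Lpr_af (f312333 IH) (Lpe (f312327 IH) (Lpr_af (f312315 IH) (Lpn (LP (LK LD1_c8 LD2_c6 LD3_c40))))))
theorem f312354 : Led Lsl_ff (LP (LK LD1_c6 LD2_c4 LD3_c36)) = (LP (LK LD1_c8 LD2_c6 LD3_c40)) :=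
  Lgr Lrot3 (Lpr_ft (f312343 IH) (Lpn (LP (LK LD1_c8 LD2_c6 LD3_c40))))
theorem f182769 : Led Lsl_et (LP (LK LD1_c6 LD2_c4 LD3_c36)) = (LP (LK LD1_c11 LD2_c52 LD3_c45)) :=
  Lre_e IH (LK LD1_c6 LD2_c4 LD3_c36) (LK LD1_c11 LD2_c52 LD3_c45) Lrfl Lrfl
theorem f312362 : Led Lsl_ft (LP (LK LD1_c11 LD2_c52 LD3_c45)) = (LP (LK LD1_c20 LD2_c55 LD3_c56)) :=
  Lre_f IH (LK LD1_c11 LD2_c52 LD3_c45) (LK LD1_c20 LD2_c55 LD3_c56) Lrfl Lrfl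
theorem f312363 : Led Lsl_et (LP (LK LD1_c20 LD2_c55 LD3_c56)) = (LP (LK LD1_c19 LD2_c57 LD3_c52)) :=
  Lgr Lrot69 (Lpe (f312362 IH) (Lpe (f182769 IH) (Lpr_ff (f312354 IH) (Lpe (K18.f296160 IH) (Lpe (f312297 IH) (Lpn (LP (LK LD1_c19 LD2_c57 LD3_c52))))))))
theorem f196795 : Led Lsl_ct (LP (LK LD1_c11 LD2_c52 LD3_c47)) = (LP (LK LD1_c20 LD2_c55 LD3_c56)) :=
  Lre_c IH (LK LD1_c11 LD2_c52 LD3_c47) (LK LD1_c20 LD2_c55 LD3_c56) Lrfl Lrfl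
theorem f312295 : Led Lsl_ct (LP (LK LD1_c19 LD2_c57 LD3_c52)) = (LP (LK LD1_c15 LD2_c16 LD3_c24)) :=
  Lgr Lrot59 (Lpr_cf (f312291 IH) (Lpn (LP (LK LD1_c15 LD2_c16 LD3_c24))))
theorem f312367 : Led Lsl_ef (LP (LK LD1_c11 LD2_c52 LD3_c47)) = (LP (LK LD1_c15 LD2_c16 LD3_c24)) :=
  Lgr Lrot28 (Lpr_ct (f196795 IH) (Lpr_et (f312363 IH) (Lpr_ct (f312295 IH) (Lpn (LP (LK LD1_c15 LD2_c16 LD3_c24))))))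
theorem f312373 : Led Lsl_et (LP (LK LD1_c11 LD2_c52 LD3_c47)) = (LP (LK LD1_c15 LD2_c16 LD3_c24)) :=
  Lgr Lrot87 (Lpr_ef (f312367 IH) (Lpn (LP (LK LD1_c15 LD2_c16 LD3_c24))))
theorem f196775 : Led Lsl_et (LP (LK LD1_c6 LD2_c4 LD3_c37)) = (LP (LK LD1_c2 LD2_c58 LD3_c29)) :=
  Lre_e IH (LK LD1_c6 LD2_c4 LD3_c37) (LK LD1_c2 LD2_c58 LD3_c29) Lrfl Lrfl
theorem f196776 : Led Lsl_et (LP (LK LD1_c4 LD2_c0 LD3_c59)) = (LP (LK LD1_c8 LD2_c2 LD3_c43)) :=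
  Lre_e IH (LK LD1_c4 LD2_c0 LD3_c59) (LK LD1_c8 LD2_c2 LD3_c43) Lrfl Lrfl
theorem f196777 : Led Lsl_df (LP (LK LD1_c6 LD2_c4 LD3_c37)) = (LP (LK LD1_c8 LD2_c2 LD3_c43)) :=
  Lgr Lrot70 (Lpr_et (f196775 IH) (Lpr_dt (K15.f182097 IH) (Lpr_et (K15.f196774 IH) (Lpr_dt (K12.f196772 IH) (Lpr_et (f196776 IH) (Lpn (LP (LK LD1_c8 LD2_c2 LD3_c43))))))))
theorem f196782 : Led Lsl_ft (LP (LK LD1_c6 LD2_c4 LD3_c37)) = (LP (LK LD1_c11 LD2_c52 LD3_c47)) :=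
  Lre_f IH (LK LD1_c6 LD2_c4 LD3_c37) (LK LD1_c11 LD2_c52 LD3_c47) Lrfl Lrfl
theorem f196783 : Led Lsl_ft (LP (LK LD1_c15 LD2_c8 LD3_c55)) = (LP (LK LD1_c8 LD2_c2 LD3_c43)) :=
  Lre_f IH (LK LD1_c15 LD2_c8 LD3_c55) (LK LD1_c8 LD2_c2 LD3_c43) Lrfl Lrfl
theorem f196784 : Led Lsl_dt (LP (LK LD1_c11 LD2_c52 LD3_c47)) = (LP (LK LD1_c15 LD2_c8 LD3_c55)) :=
  Lgr Lrot60 (Lpe (f196782 IH) (Lpr_df (f196777 IH) (Lpe (f196783 IH) (Lpn (LP (LK LD1_c15 LD2_c8 LD3_c55))))))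
theorem f196792 : Led Lsl_df (LP (LK LD1_c11 LD2_c52 LD3_c47)) = (LP (LK LD1_c15 LD2_c8 LD3_c55)) :=
  Lgr Lrot38 (Lpr_dt (f196784 IH) (Lpn (LP (LK LD1_c15 LD2_c8 LD3_c55))))
theorem f224674 : Led Lsl_ct (LP (LK LD1_c5 LD2_c20 LD3_c51)) = (LP (LK LD1_c5 LD2_c24 LD3_c1)) :=
  Lgr Lrot59 (Lpr_cf (K12.f224656 IH) (Lpn (LP (LK LD1_c5 LD2_c24 LD3_c1))))
theorem f173135 : Led Lsl_dt (LP (LK LD1_c5 LD2_c24 LD3_c1)) = (LP (LK LD1_c2 LD2_c38 LD3_c33)) :=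
  Lre_d IH (LK LD1_c5 LD2_c24 LD3_c1) (LK LD1_c2 LD2_c38 LD3_c33) Lrfl Lrfl
theorem f224795 : Led Lsl_at (LP (LK LD1_c2 LD2_c38 LD3_c32)) = (LP (LK LD1_c1 LD2_c16 LD3_c12)) :=
  Lre_a IH (LK LD1_c2 LD2_c38 LD3_c32) (LK LD1_c1 LD2_c16 LD3_c12) Lrfl Lrfl
theorem f224796 : Led Lsl_ft (LP (LK LD1_c4 LD2_c0 LD3_c59)) = (LP (LK LD1_c2 LD2_c38 LD3_c32)) :=
  Lgr Lrot142 (Lpe (K14.f196770 IH) (Lpr_ct (K10.f42165 IH) (Lpe (K10.f42160 IH) (Lpr_ct (K12.f42163 IH) (Lpr_dt (K12.f42164 IH) (Lpr_ct (f224674 IH) (Lpr_dt (f173135 IH) (Lpr_ct (K12.f173119 IH) (Lpe (f224795 IH) (Lpn (LP (LK LD1_c2 LD2_c38 LD3_c32))))))))))))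
theorem f30875 : Led Lsl_et (LP (LK LD1_c8 LD2_c2 LD3_c43)) = (LP (LK LD1_c4 LD2_c0 LD3_c59)) :=
  Lre_e IH (LK LD1_c8 LD2_c2 LD3_c43) (LK LD1_c4 LD2_c0 LD3_c59) Lrfl Lrfl
theorem f224798 : Led Lsl_et (LP (LK LD1_c2 LD2_c38 LD3_c32)) = (LP (LK LD1_c5 LD2_c23 LD3_c61)) :=
  Lre_e IH (LK LD1_c2 LD2_c38 LD3_c32) (LK LD1_c5 LD2_c23 LD3_c61) Lrfl Lrfl
theorem f224799 : Led Lsl_ft (LP (LK LD1_c5 LD2_c23 LD3_c61)) = (LP (LK LD1_c10 LD2_c38 LD3_c42)) :=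
  Lre_f IH (LK LD1_c5 LD2_c23 LD3_c61) (LK LD1_c10 LD2_c38 LD3_c42) Lrfl Lrfl
theorem f224800 : Led Lsl_ef (LP (LK LD1_c15 LD2_c8 LD3_c55)) = (LP (LK LD1_c10 LD2_c38 LD3_c42)) :=
  Lgr Lrot21 (Lpr_ft (f196783 IH) (Lpr_et (f30875 IH) (Lpr_ft (f224796 IH) (Lpr_et (f224798 IH) (Lpr_ft (f224799 IH) (Lpn (LP (LK LD1_c10 LD2_c38 LD3_c42))))))))
theorem f249027 : Led Lsl_gt (LP (LK LD1_c17 LD2_c46 LD3_c6)) = (LP (LK LD1_c9 LD2_c39 LD3_c41)) :=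
  Lre_g IH (LK LD1_c17 LD2_c46 LD3_c6) (LK LD1_c9 LD2_c39 LD3_c41) Lrfl Lrfl
theorem f306369 : Led Lsl_et (LP (LK LD1_c27 LD2_c32 LD3_c37)) = (LP (LK LD1_c17 LD2_c46 LD3_c6)) :=
  Lre_e IH (LK LD1_c27 LD2_c32 LD3_c37) (LK LD1_c17 LD2_c46 LD3_c6) Lrfl Lrfl
theorem f275245 : Led Lsl_et (LP (LK LD1_c5 LD2_c2 LD3_c59)) = (LP (LK LD1_c2 LD2_c29 LD3_c0)) :=
  Lre_e IH (LK LD1_c5 LD2_c2 LD3_c59) (LK LD1_c2 LD2_c29 LD3_c0) Lrfl Lrfl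
theorem f257621 : Led Lsl_dt (LP (LK LD1_c5 LD2_c2 LD3_c59)) = (LP (LK LD1_c9 LD2_c56 LD3_c50)) :=
  Lre_d IH (LK LD1_c5 LD2_c2 LD3_c59) (LK LD1_c9 LD2_c56 LD3_c50) Lrfl Lrfl
theorem f257745 : Led Lsl_gt (LP (LK LD1_c9 LD2_c56 LD3_c50)) = (LP (LK LD1_c18 LD2_c12 LD3_c22)) :=
  Lre_g IH (LK LD1_c9 LD2_c56 LD3_c50) (LK LD1_c18 LD2_c12 LD3_c22) Lrfl Lrfl
theorem f306370 : Led Lsl_dt (LP (LK LD1_c27 LD2_c32 LD3_c37)) = (LP (LK LD1_c18 LD2_c12 LD3_c22)) :=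
  Lgr Lrot37 (Lpr_et (f306369 IH) (Lpr_gt (f249027 IH) (Lpr_dt (f248282 IH) (Lpr_gt (f306361 IH) (Lpe (f169945 IH) (Lpr_et (f169947 IH) (Lpr_gt (K14.f169837 IH) (Lpe (f275245 IH) (Lpr_dt (f257621 IH) (Lpr_gt (f257745 IH) (Lpn (LP (LK LD1_c18 LD2_c12 LD3_c22)))))))))))))
theorem f165323 : Led Lsl_dt (LP (LK LD1_c9 LD2_c55 LD3_c5)) = (LP (LK LD1_c5 LD2_c2 LD3_c10)) :=
  Lre_d IH (LK LD1_c9 LD2_c55 LD3_c5) (LK LD1_c5 LD2_c2 LD3_c10) Lrfl Lrfl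
theorem f251032 : Led Lsl_gt (LP (LK LD1_c9 LD2_c39 LD3_c40)) = (LP (LK LD1_c9 LD2_c55 LD3_c5)) :=
  Lgr Lrot49 (Lpe (K12.f229923 IH) (Lpe (K14.f248286 IH) (Lpe (K1.f43957 IH) (Lpr_gt (K13.f43964 IH) (Lpr_dt (K14.f43966 IH) (Lpr_gt (K14.f212339 IH) (Lpr_dt (K14.f251014 IH) (Lpe (K14.f165318 IH) (Lpe (f165323 IH) (Lpn (LP (LK LD1_c9 LD2_c55 LD3_c5))))))))))))
theorem f165320 : Led Lsl_dt (LP (LK LD1_c5 LD2_c2 LD3_c10)) = (LP (LK LD1_c9 LD2_c55 LD3_c5)) :=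
  Lre_d IH (LK LD1_c5 LD2_c2 LD3_c10) (LK LD1_c9 LD2_c55 LD3_c5) Lrfl Lrfl
theorem f165321 : Led Lsl_et (LP (LK LD1_c5 LD2_c2 LD3_c10)) = (LP (LK LD1_c9 LD2_c55 LD3_c6)) :=
  Lre_e IH (LK LD1_c5 LD2_c2 LD3_c10) (LK LD1_c9 LD2_c55 LD3_c6) Lrfl Lrfl
theorem f306377 : Led Lsl_gt (LP (LK LD1_c9 LD2_c55 LD3_c6)) = (LP (LK LD1_c5 LD2_c2 LD3_c59)) :=
  Lgr Lrot137 (Lpe (f165321 IH) (Lpr_dt (f165320 IH) (Lpe (f251032 IH) (Lpe (K12.f229923 IH) (Lpr_et (K14.f248646 IH) (Lpe (f249027 IH) (Lpe (f306369 IH) (Lpr_dt (f306370 IH) (Lpe (f257745 IH) (Lpe (f257621 IH) (Lpn (LP (LK LD1_c5 LD2_c2 LD3_c59)))))))))))))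
theorem f257701 : Led Lsl_at (LP (LK LD1_c9 LD2_c56 LD3_c28)) = (LP (LK LD1_c5 LD2_c2 LD3_c59)) :=
  Lre_a IH (LK LD1_c9 LD2_c56 LD3_c28) (LK LD1_c5 LD2_c2 LD3_c59) Lrfl Lrfl
theorem f257694 : Led Lsl_ct (LP (LK LD1_c9 LD2_c54 LD3_c61)) = (LP (LK LD1_c18 LD2_c9 LD3_c11)) :=
  Lre_c IH (LK LD1_c9 LD2_c54 LD3_c61) (LK LD1_c18 LD2_c9 LD3_c11) Lrfl Lrfl
theorem f257695 : Led Lsl_ct (LP (LK LD1_c9 LD2_c56 LD3_c28)) = (LP (LK LD1_c5 LD2_c2 LD3_c49)) :=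
  Lre_c IH (LK LD1_c9 LD2_c56 LD3_c28) (LK LD1_c5 LD2_c2 LD3_c49) Lrfl Lrfl
theorem f257696 : Led Lsl_ft (LP (LK LD1_c18 LD2_c9 LD3_c11)) = (LP (LK LD1_c9 LD2_c56 LD3_c28)) :=
  Lgr Lrot4 (Lpe (f257694 IH) (Lpr_ff (f257688 IH) (Lpe (f257695 IH) (Lpn (LP (LK LD1_c9 LD2_c56 LD3_c28))))))
theorem f306379 : Led Lsl_gf (LP (LK LD1_c9 LD2_c55 LD3_c6)) = (LP (LK LD1_c18 LD2_c9 LD3_c11)) :=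
  Lgr Lrot47 (Lpr_gt (f306377 IH) (Lpe (f257701 IH) (Lpe (f257696 IH) (Lpn (LP (LK LD1_c18 LD2_c9 LD3_c11))))))
theorem f195910 : Led Lsl_bt (LP (LK LD1_c5 LD2_c24 LD3_c5)) = (LP (LK LD1_c2 LD2_c38 LD3_c46)) :=
  Lre_b IH (LK LD1_c5 LD2_c24 LD3_c5) (LK LD1_c2 LD2_c38 LD3_c46) Lrfl Lrfl
theorem f306408 : Led Lsl_cf (LP (LK LD1_c9 LD2_c55 LD3_c6)) = (LP (LK LD1_c5 LD2_c24 LD3_c5)) :=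
  Lgr Lrot163 (Lpr_gf (f306379 IH) (Lpe (f257694 IH) (Lpr_gf (K18.f257773 IH) (Lpe (K18.f257678 IH) (Lpe (K18.f304229 IH) (Lpe (K18.f249274 IH) (Lpe (K18.f249252 IH) (Lpe (K16.f249250 IH) (Lpr_gf (K17.f195897 IH) (Lpe (f195910 IH) (Lpn (LP (LK LD1_c5 LD2_c24 LD3_c5)))))))))))))
theorem f306415 : Led Lsl_ct (LP (LK LD1_c9 LD2_c55 LD3_c6)) = (LP (LK LD1_c5 LD2_c24 LD3_c5)) :=
  Lgr Lrot59 (Lpr_cf (f306408 IH) (Lpn (LP (LK LD1_c5 LD2_c24 LD3_c5))))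
theorem f306479 : Led Lsl_ef (LP (LK LD1_c5 LD2_c6 LD3_c3)) = (LP (LK LD1_c5 LD2_c24 LD3_c5)) :=
  Lgr Lrot28 (Lpe (K11.f165300 IH) (Lpr_et (f165321 IH) (Lpr_ct (f306415 IH) (Lpn (LP (LK LD1_c5 LD2_c24 LD3_c5))))))
theorem f43954 : Led Lsl_et (LP (LK LD1_c2 LD2_c36 LD3_c18)) = (LP (LK LD1_c5 LD2_c19 LD3_c14)) :=
  Lre_e IH (LK LD1_c2 LD2_c36 LD3_c18) (LK LD1_c5 LD2_c19 LD3_c14) Lrfl Lrfl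
theorem f43955 : Led Lsl_gt (LP (LK LD1_c5 LD2_c19 LD3_c14)) = (LP (LK LD1_c10 LD2_c28 LD3_c13)) :=
  Lre_g IH (LK LD1_c5 LD2_c19 LD3_c14) (LK LD1_c10 LD2_c28 LD3_c13) Lrfl Lrfl
theorem f251022 : Led Lsl_dt (LP (LK LD1_c10 LD2_c38 LD3_c55)) = (LP (LK LD1_c5 LD2_c24 LD3_c4)) :=
  Lre_d IH (LK LD1_c10 LD2_c38 LD3_c55) (LK LD1_c5 LD2_c24 LD3_c4) Lrfl Lrfl
theorem f306485 : Led Lsl_ef (LP (LK LD1_c10 LD2_c28 LD3_c13)) = (LP (LK LD1_c10 LD2_c38 LD3_c55)) :=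
  Lgr Lrot17 (Lpe (f43955 IH) (Lpe (f43954 IH) (Lpr_dt (K14.f45898 IH) (Lpe (K9.f46363 IH) (Lpe (K14.f44236 IH) (Lpe (K14.f249429 IH) (Lpr_ef (f306479 IH) (Lpr_dt (K18.f223859 IH) (Lpe (K18.f251016 IH) (Lpe (f251022 IH) (Lpn (LP (LK LD1_c10 LD2_c38 LD3_c55)))))))))))))
theorem f46389 : Led Lsl_gf (LP (LK LD1_c8 LD2_c52 LD3_c4)) = (LP (LK LD1_c10 LD2_c28 LD3_c13)) :=
  Lgr Lrot76 (Lpr_af (K1.f46383 IH) (Lpr_ff (K1.f43949 IH) (Lpr_gt (f43955 IH) (Lpn (LP (LK LD1_c10 LD2_c28 LD3_c13))))))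
theorem f190931 : Led Lsl_et (LP (LK LD1_c2 LD2_c34 LD3_c35)) = (LP (LK LD1_c5 LD2_c15 LD3_c32)) :=
  Lre_e IH (LK LD1_c2 LD2_c34 LD3_c35) (LK LD1_c5 LD2_c15 LD3_c32) Lrfl Lrfl
theorem f251420 : Led Lsl_gt (LP (LK LD1_c5 LD2_c15 LD3_c32)) = (LP (LK LD1_c10 LD2_c20 LD3_c21)) :=
  Lre_g IH (LK LD1_c5 LD2_c15 LD3_c32) (LK LD1_c10 LD2_c20 LD3_c21) Lrfl Lrfl
theorem f224812 : Led Lsl_gt (LP (LK LD1_c10 LD2_c38 LD3_c42)) = (LP (LK LD1_c5 LD2_c24 LD3_c4)) :=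
  Lre_g IH (LK LD1_c10 LD2_c38 LD3_c42) (LK LD1_c5 LD2_c24 LD3_c4) Lrfl Lrfl
theorem f306496 : Led Lsl_dt (LP (LK LD1_c10 LD2_c20 LD3_c21)) = (LP (LK LD1_c10 LD2_c38 LD3_c42)) :=
  Lgr Lrot171 (Lpe (f251420 IH) (Lpe (f190931 IH) (Lpr_dt (K14.f190926 IH) (Lpr_gf (K10.f187887 IH) (Lpe (K1.f46125 IH) (Lpr_et (K1.f44234 IH) (Lpr_gf (f46389 IH) (Lpr_ef (f306485 IH) (Lpr_dt (f251022 IH) (Lpe (f224812 IH) (Lpn (LP (LK LD1_c10 LD2_c38 LD3_c42)))))))))))))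
theorem f306500 : Led Lsl_et (LP (LK LD1_c18 LD2_c45 LD3_c61)) = (LP (LK LD1_c10 LD2_c20 LD3_c21)) :=
  Lre_e IH (LK LD1_c18 LD2_c45 LD3_c61) (LK LD1_c10 LD2_c20 LD3_c21) Lrfl Lrfl
theorem f312377 : Led Lsl_df (LP (LK LD1_c18 LD2_c45 LD3_c61)) = (LP (LK LD1_c15 LD2_c16 LD3_c24)) :=
  Lgr Lrot70 (Lpr_et (f306500 IH) (Lpr_dt (f306496 IH) (Lpe (f224800 IH) (Lpe (f196792 IH) (Lpr_et (f312373 IH) (Lpn (LP (LK LD1_c15 LD2_c16 LD3_c24))))))))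
theorem f312381 : Led Lsl_ft (LP (LK LD1_c18 LD2_c45 LD3_c61)) = (LP (LK LD1_c10 LD2_c27 LD3_c50)) :=
  Lgr Lrot54 (Lpr_df (f312377 IH) (Lpe (f192241 IH) (Lpr_df (K15.f192233 IH) (Lpn (LP (LK LD1_c10 LD2_c27 LD3_c50))))))
theorem f312385 : Led Lsl_ff (LP (LK LD1_c18 LD2_c45 LD3_c61)) = (LP (LK LD1_c10 LD2_c27 LD3_c50)) :=
  Lgr Lrot3 (Lpr_ft (f312381 IH) (Lpn (LP (LK LD1_c10 LD2_c27 LD3_c50))))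
theorem f192243 : Led Lsl_et (LP (LK LD1_c10 LD2_c27 LD3_c50)) = (LP (LK LD1_c5 LD2_c18 LD3_c60)) :=
  Lre_e IH (LK LD1_c10 LD2_c27 LD3_c50) (LK LD1_c5 LD2_c18 LD3_c60) Lrfl Lrfl
theorem f251663 : Led Lsl_et (LP (LK LD1_c5 LD2_c2 LD3_c9)) = (LP (LK LD1_c9 LD2_c55 LD3_c3)) :=
  Lre_e IH (LK LD1_c5 LD2_c2 LD3_c9) (LK LD1_c9 LD2_c55 LD3_c3) Lrfl Lrfl
theorem f259072 : Led Lsl_cf (LP (LK LD1_c10 LD2_c27 LD3_c50)) = (LP (LK LD1_c9 LD2_c55 LD3_c3)) :=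
  Lgr Lrot39 (Lpr_et (f192243 IH) (Lpr_ct (K15.f259067 IH) (Lpr_et (f251663 IH) (Lpn (LP (LK LD1_c9 LD2_c55 LD3_c3))))))
theorem f312389 : Led Lsl_ft (LP (LK LD1_c18 LD2_c9 LD3_c16)) = (LP (LK LD1_c9 LD2_c55 LD3_c3)) :=
  Lre_f IH (LK LD1_c18 LD2_c9 LD3_c16) (LK LD1_c9 LD2_c55 LD3_c3) Lrfl Lrfl
theorem f312390 : Led Lsl_ct (LP (LK LD1_c18 LD2_c45 LD3_c61)) = (LP (LK LD1_c18 LD2_c9 LD3_c16)) :=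
  Lgr Lrot40 (Lpr_ff (f312385 IH) (Lpr_cf (f259072 IH) (Lpe (f312389 IH) (Lpn (LP (LK LD1_c18 LD2_c9 LD3_c16))))))
theorem f296277 : Led Lsl_bt (LP (LK LD1_c8 LD2_c6 LD3_c47)) = (LP (LK LD1_c15 LD2_c16 LD3_c24)) :=
  Lre_b IH (LK LD1_c8 LD2_c6 LD3_c47) (LK LD1_c15 LD2_c16 LD3_c24) Lrfl Lrfl
theorem f312379 : Led Lsl_bt (LP (LK LD1_c18 LD2_c45 LD3_c61)) = (LP (LK LD1_c15 LD2_c12 LD3_c49)) :=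
  Lgr Lrot95 (Lpr_df (f312377 IH) (Lpe (f296277 IH) (Lpe (f312277 IH) (Lpn (LP (LK LD1_c15 LD2_c12 LD3_c49))))))
theorem f22074 : Led Lsl_ct (LP (LK LD1_c8 LD2_c14 LD3_c15)) = (LP (LK LD1_c4 LD2_c6 LD3_c51)) :=
  Lre_c IH (LK LD1_c8 LD2_c14 LD3_c15) (LK LD1_c4 LD2_c6 LD3_c51) Lrfl Lrfl
theorem f22060 : Led Lsl_ct (LP (LK LD1_c10 LD2_c10 LD3_c19)) = (LP (LK LD1_c5 LD2_c9 LD3_c47)) :=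
  Lre_c IH (LK LD1_c10 LD2_c10 LD3_c19) (LK LD1_c5 LD2_c9 LD3_c47) Lrfl Lrfl
theorem f22080 : Led Lsl_gt (LP (LK LD1_c18 LD2_c31 LD3_c55)) = (LP (LK LD1_c10 LD2_c10 LD3_c19)) :=
  Lre_g IH (LK LD1_c18 LD2_c31 LD3_c55) (LK LD1_c10 LD2_c10 LD3_c19) Lrfl Lrfl
theorem f27464 : Led Lsl_ft (LP (LK LD1_c2 LD2_c4 LD3_c48)) = (LP (LK LD1_c4 LD2_c14 LD3_c26)) :=
  Lre_f IH (LK LD1_c2 LD2_c4 LD3_c48) (LK LD1_c4 LD2_c14 LD3_c26) Lrfl Lrfl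
theorem f27470 : Led Lsl_gt (LP (LK LD1_c2 LD2_c4 LD3_c48)) = (LP (LK LD1_c4 LD2_c14 LD3_c53)) :=
  Lre_g IH (LK LD1_c2 LD2_c4 LD3_c48) (LK LD1_c4 LD2_c14 LD3_c53) Lrfl Lrfl
theorem f27623 : Led Lsl_gf (LP (LK LD1_c4 LD2_c50 LD3_c46)) = (LP (LK LD1_c4 LD2_c14 LD3_c53)) :=
  Lgr Lrot76 (Lpr_af (K14.f27616 IH) (Lpe (f27464 IH) (Lpr_gt (f27470 IH) (Lpn (LP (LK LD1_c4 LD2_c14 LD3_c53))))))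
theorem f27625 : Led Lsl_et (LP (LK LD1_c8 LD2_c28 LD3_c37)) = (LP (LK LD1_c4 LD2_c14 LD3_c53)) :=
  Lre_e IH (LK LD1_c8 LD2_c28 LD3_c37) (LK LD1_c4 LD2_c14 LD3_c53) Lrfl Lrfl
theorem f189276 : Led Lsl_et (LP (LK LD1_c2 LD2_c43 LD3_c56)) = (LP (LK LD1_c5 LD2_c36 LD3_c7)) :=
  Lre_e IH (LK LD1_c2 LD2_c43 LD3_c56) (LK LD1_c5 LD2_c36 LD3_c7) Lrfl Lrfl
theorem f27565 : Led Lsl_dt (LP (LK LD1_c4 LD2_c50 LD3_c46)) = (LP (LK LD1_c4 LD2_c50 LD3_c46)) :=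
  Lgr Lrot77 (Lpe (f27562 IH) (Lpe (K0.f27561 IH) (Lpr_ef (K14.f27553 IH) (Lpe (K10.f27563 IH) (Lpe (K14.f27564 IH) (Lpn (LP (LK LD1_c4 LD2_c50 LD3_c46))))))))
theorem f27477 : Led Lsl_dt (LP (LK LD1_c8 LD2_c28 LD3_c36)) = (LP (LK LD1_c4 LD2_c14 LD3_c53)) :=
  Lre_d IH (LK LD1_c8 LD2_c28 LD3_c36) (LK LD1_c4 LD2_c14 LD3_c53) Lrfl Lrfl
theorem f189278 : Led Lsl_ef (LP (LK LD1_c11 LD2_c4 LD3_c34)) = (LP (LK LD1_c8 LD2_c28 LD3_c36)) :=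
  Lgr Lrot17 (Lpe (K16.f189277 IH) (Lpe (f189276 IH) (Lpr_dt (K15.f189275 IH) (Lpe (K15.f7950 IH) (Lpe (K15.f188039 IH) (Lpr_gf (K10.f189144 IH) (Lpe (K14.f27564 IH) (Lpr_dt (f27565 IH) (Lpr_gf (f27623 IH) (Lpe (f27477 IH) (Lpn (LP (LK LD1_c8 LD2_c28 LD3_c36)))))))))))))
theorem f189284 : Led Lsl_et (LP (LK LD1_c11 LD2_c4 LD3_c34)) = (LP (LK LD1_c8 LD2_c28 LD3_c36)) :=
  Lgr Lrot87 (Lpr_ef (f189278 IH) (Lpn (LP (LK LD1_c8 LD2_c28 LD3_c36))))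
theorem f189289 : Led Lsl_et (LP (LK LD1_c4 LD2_c14 LD3_c53)) = (LP (LK LD1_c8 LD2_c28 LD3_c37)) :=
  Lre_e IH (LK LD1_c4 LD2_c14 LD3_c53) (LK LD1_c8 LD2_c28 LD3_c37) Lrfl Lrfl
theorem f274773 : Led Lsl_et (LP (LK LD1_c8 LD2_c4 LD3_c13)) = (LP (LK LD1_c15 LD2_c11 LD3_c37)) :=
  Lre_e IH (LK LD1_c8 LD2_c4 LD3_c13) (LK LD1_c15 LD2_c11 LD3_c37) Lrfl Lrfl
theorem f274774 : Led Lsl_dt (LP (LK LD1_c8 LD2_c28 LD3_c37)) = (LP (LK LD1_c8 LD2_c4 LD3_c13)) :=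
  Lgr Lrot77 (Lpe (f189289 IH) (Lpe (f27477 IH) (Lpe (f189284 IH) (Lpr_df (K16.f274766 IH) (Lpe (f274773 IH) (Lpn (LP (LK LD1_c8 LD2_c4 LD3_c13))))))))
theorem f298599 : Led Lsl_gt (LP (LK LD1_c5 LD2_c9 LD3_c1)) = (LP (LK LD1_c8 LD2_c4 LD3_c13)) :=
  Lgr Lrot139 (Lpe (K18.f286341 IH) (Lpr_gf (K18.f298590 IH) (Lpe (K18.f22096 IH) (Lpr_dt (K13.f22068 IH) (Lpe (K14.f190947 IH) (Lpe (K10.f27563 IH) (Lpr_et (f27562 IH) (Lpr_gf (f27623 IH) (Lpe (f27625 IH) (Lpr_dt (f274774 IH) (Lpn (LP (LK LD1_c8 LD2_c4 LD3_c13)))))))))))))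
theorem f244469 : Led Lsl_gt (LP (LK LD1_c8 LD2_c9 LD3_c43)) = (LP (LK LD1_c4 LD2_c4 LD3_c24)) :=
  Lre_g IH (LK LD1_c8 LD2_c9 LD3_c43) (LK LD1_c4 LD2_c4 LD3_c24) Lrfl Lrfl
theorem f298486 : Led Lsl_gt (LP (LK LD1_c5 LD2_c38 LD3_c56)) = (LP (LK LD1_c8 LD2_c9 LD3_c43)) :=
  Lgr Lrot5 (Lpr_ft (K18.f286284 IH) (Lpr_at (K18.f298472 IH) (Lpe (f244469 IH) (Lpn (LP (LK LD1_c8 LD2_c9 LD3_c43))))))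
theorem f261538 : Led Lsl_at (LP (LK LD1_c11 LD2_c55 LD3_c8)) = (LP (LK LD1_c10 LD2_c46 LD3_c61)) :=
  Lgr Lrot100 (Lpr_af (K17.f261485 IH) (Lpn (LP (LK LD1_c10 LD2_c46 LD3_c61))))
theorem f286481 : Led Lsl_gt (LP (LK LD1_c8 LD2_c29 LD3_c13)) = (LP (LK LD1_c10 LD2_c46 LD3_c61)) :=
  Lgr Lrot46 (Lpr_gf (K16.f275108 IH) (Lpr_ft (K17.f286475 IH) (Lpr_at (f261538 IH) (Lpn (LP (LK LD1_c10 LD2_c46 LD3_c61))))))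
theorem f48212 : Led Lsl_ct (LP (LK LD1_c4 LD2_c15 LD3_c8)) = (LP (LK LD1_c8 LD2_c29 LD3_c13)) :=
  Lre_c IH (LK LD1_c4 LD2_c15 LD3_c8) (LK LD1_c8 LD2_c29 LD3_c13) Lrfl Lrfl
theorem f220263 : Led Lsl_gt (LP (LK LD1_c15 LD2_c17 LD3_c57)) = (LP (LK LD1_c8 LD2_c7 LD3_c27)) :=
  Lre_g IH (LK LD1_c15 LD2_c17 LD3_c57) (LK LD1_c8 LD2_c7 LD3_c27) Lrfl Lrfl
theorem f298580 : Led Lsl_cf (LP (LK LD1_c15 LD2_c17 LD3_c57)) = (LP (LK LD1_c8 LD2_c9 LD3_c43)) :=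
  Lgr Lrot125 (Lpr_gt (f220263 IH) (Lpe (K17.f220234 IH) (Lpe (K17.f220230 IH) (Lpr_gt (K15.f262123 IH) (Lpe (K10.f189801 IH) (Lpr_ct (f48212 IH) (Lpr_gt (f286481 IH) (Lpe (K17.f286248 IH) (Lpr_bt (K18.f286285 IH) (Lpr_gt (f298486 IH) (Lpn (LP (LK LD1_c8 LD2_c9 LD3_c43)))))))))))))
theorem f298603 : Led Lsl_ct (LP (LK LD1_c8 LD2_c4 LD3_c13)) = (LP (LK LD1_c15 LD2_c11 LD3_c36)) :=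
  Lre_c IH (LK LD1_c8 LD2_c4 LD3_c13) (LK LD1_c15 LD2_c11 LD3_c36) Lrfl Lrfl
theorem f298604 : Led Lsl_gf (LP (LK LD1_c8 LD2_c4 LD3_c23)) = (LP (LK LD1_c15 LD2_c11 LD3_c36)) :=
  Lgr Lrot104 (Lpe (f296444 IH) (Lpr_df (K18.f296417 IH) (Lpe (K18.f220271 IH) (Lpe (f220263 IH) (Lpr_cf (f298580 IH) (Lpe (f298486 IH) (Lpe (K18.f296842 IH) (Lpr_gt (f298599 IH) (Lpr_ct (f298603 IH) (Lpn (LP (LK LD1_c15 LD2_c11 LD3_c36))))))))))))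
theorem f22061 : Led Lsl_dt (LP (LK LD1_c18 LD2_c31 LD3_c56)) = (LP (LK LD1_c10 LD2_c10 LD3_c19)) :=
  Lre_d IH (LK LD1_c18 LD2_c31 LD3_c56) (LK LD1_c10 LD2_c10 LD3_c19) Lrfl Lrfl
theorem f298628 : Led Lsl_gt (LP (LK LD1_c15 LD2_c11 LD3_c57)) = (LP (LK LD1_c18 LD2_c31 LD3_c56)) :=
  Lgr Lrot49 (Lpe (K18.f33864 IH) (Lpr_gf (f298604 IH) (Lpe (f298603 IH) (Lpr_gt (K16.f258992 IH) (Lpe (K16.f260235 IH) (Lpe (K16.f253128 IH) (Lpe (K14.f22035 IH) (Lpe (f22060 IH) (Lpe (f22061 IH) (Lpn (LP (LK LD1_c18 LD2_c31 LD3_c56))))))))))))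
theorem f298632 : Led Lsl_gf (LP (LK LD1_c18 LD2_c29 LD3_c2)) = (LP (LK LD1_c18 LD2_c31 LD3_c56)) :=
  Lgr Lrot76 (Lpe (f296498 IH) (Lpe (f296497 IH) (Lpr_gt (f298628 IH) (Lpn (LP (LK LD1_c18 LD2_c31 LD3_c56))))))
theorem f251486 : Led Lsl_gt (LP (LK LD1_c18 LD2_c21 LD3_c38)) = (LP (LK LD1_c10 LD2_c3 LD3_c7)) :=
  Lre_g IH (LK LD1_c18 LD2_c21 LD3_c38) (LK LD1_c10 LD2_c3 LD3_c7) Lrfl Lrfl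
theorem f22092 : Led Lsl_dt (LP (LK LD1_c10 LD2_c10 LD3_c19)) = (LP (LK LD1_c18 LD2_c31 LD3_c56)) :=
  Lre_d IH (LK LD1_c10 LD2_c10 LD3_c19) (LK LD1_c18 LD2_c31 LD3_c56) Lrfl Lrfl
theorem f298636 : Led Lsl_ct (LP (LK LD1_c18 LD2_c21 LD3_c38)) = (LP (LK LD1_c18 LD2_c31 LD3_c55)) :=
  Lgr Lrot8 (Lpr_gt (f251486 IH) (Lpr_dt (f265932 IH) (Lpr_gt (f296359 IH) (Lpr_dt (f259104 IH) (Lpr_cf (f260084 IH) (Lpe (f260105 IH) (Lpr_gf (f298632 IH) (Lpe (f22092 IH) (Lpe (f22080 IH) (Lpn (LP (LK LD1_c18 LD2_c31 LD3_c55))))))))))))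
theorem f312289 : Led Lsl_gf (LP (LK LD1_c18 LD2_c21 LD3_c38)) = (LP (LK LD1_c15 LD2_c12 LD3_c49)) :=
  Lgr Lrot147 (Lpr_ct (f298636 IH) (Lpr_gt (f22080 IH) (Lpr_ct (f22060 IH) (Lpr_df (K14.f22035 IH) (Lpe (f22074 IH) (Lpr_gf (K17.f244432 IH) (Lpe (K17.f220234 IH) (Lpr_gf (f312283 IH) (Lpe (f312277 IH) (Lpn (LP (LK LD1_c15 LD2_c12 LD3_c49))))))))))))
theorem f22091 : Led Lsl_ct (LP (LK LD1_c5 LD2_c9 LD3_c47)) = (LP (LK LD1_c10 LD2_c10 LD3_c19)) :=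
  Lre_c IH (LK LD1_c5 LD2_c9 LD3_c47) (LK LD1_c10 LD2_c10 LD3_c19) Lrfl Lrfl
theorem f298640 : Led Lsl_bt (LP (LK LD1_c10 LD2_c10 LD3_c29)) = (LP (LK LD1_c5 LD2_c9 LD3_c50)) :=
  Lre_b IH (LK LD1_c10 LD2_c10 LD3_c29) (LK LD1_c5 LD2_c9 LD3_c50) Lrfl Lrfl
theorem f298641 : Led Lsl_ct (LP (LK LD1_c10 LD2_c10 LD3_c29)) = (LP (LK LD1_c18 LD2_c32 LD3_c9)) :=
  Lre_c IH (LK LD1_c10 LD2_c10 LD3_c29) (LK LD1_c18 LD2_c32 LD3_c9) Lrfl Lrfl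
theorem f312394 : Led Lsl_gt (LP (LK LD1_c18 LD2_c32 LD3_c9)) = (LP (LK LD1_c18 LD2_c9 LD3_c16)) :=
  Lgr Lrot65 (Lpe (f298641 IH) (Lpr_bt (f298640 IH) (Lpe (K14.f22045 IH) (Lpe (K14.f22033 IH) (Lpr_ct (f22091 IH) (Lpe (f22080 IH) (Lpe (f298636 IH) (Lpr_gf (f312289 IH) (Lpe (f312379 IH) (Lpr_ct (f312390 IH) (Lpn (LP (LK LD1_c18 LD2_c9 LD3_c16)))))))))))))
theorem f312392 : Led Lsl_cf (LP (LK LD1_c18 LD2_c45 LD3_c61)) = (LP (LK LD1_c18 LD2_c9 LD3_c16)) :=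
  Lgr Lrot11 (Lpr_ct (f312390 IH) (Lpn (LP (LK LD1_c18 LD2_c9 LD3_c16))))
theorem f312399 : Led Lsl_gf (LP (LK LD1_c10 LD2_c10 LD3_c29)) = (LP (LK LD1_c5 LD2_c10 LD3_c6)) :=
  Lgr Lrot147 (Lpr_ct (f298641 IH) (Lpr_gt (f312394 IH) (Lpe (f312392 IH) (Lpr_df (f312377 IH) (Lpe (f312295 IH) (Lpe (f254197 IH) (Lpe (f253673 IH) (Lpr_gf (K14.f254189 IH) (Lpe (K14.f248006 IH) (Lpn (LP (LK LD1_c5 LD2_c10 LD3_c6))))))))))))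
theorem f248027 : Led Lsl_et (LP (LK LD1_c4 LD2_c6 LD3_c31)) = (LP (LK LD1_c2 LD2_c0 LD3_c35)) :=
  Lre_e IH (LK LD1_c4 LD2_c6 LD3_c31) (LK LD1_c2 LD2_c0 LD3_c35) Lrfl Lrfl
theorem f167986 : Led Lsl_gt (LP (LK LD1_c7 LD2_c58 LD3_c16)) = (LP (LK LD1_c3 LD2_c58 LD3_c26)) :=
  Lre_g IH (LK LD1_c7 LD2_c58 LD3_c16) (LK LD1_c3 LD2_c58 LD3_c26) Lrfl Lrfl
theorem f266883 : Led Lsl_et (LP (LK LD1_c15 LD2_c2 LD3_c17)) = (LP (LK LD1_c7 LD2_c58 LD3_c16)) :=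
  Lre_e IH (LK LD1_c15 LD2_c2 LD3_c17) (LK LD1_c7 LD2_c58 LD3_c16) Lrfl Lrfl
theorem f312405 : Led Lsl_df (LP (LK LD1_c10 LD2_c10 LD3_c29)) = (LP (LK LD1_c15 LD2_c2 LD3_c17)) :=
  Lgr Lrot168 (Lpr_gf (f312399 IH) (Lpr_df (K15.f248023 IH) (Lpr_et (f248027 IH) (Lpr_gf (K16.f265055 IH) (Lpe (K17.f187406 IH) (Lpr_dt (f250460 IH) (Lpr_gf (f300186 IH) (Lpe (f300193 IH) (Lpe (f167986 IH) (Lpe (f266883 IH) (Lpn (LP (LK LD1_c15 LD2_c2 LD3_c17)))))))))))))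
theorem f312410 : Led Lsl_dt (LP (LK LD1_c10 LD2_c10 LD3_c29)) = (LP (LK LD1_c15 LD2_c2 LD3_c17)) :=
  Lgr Lrot42 (Lpr_df (f312405 IH) (Lpn (LP (LK LD1_c15 LD2_c2 LD3_c17))))
theorem f250344 : Led Lsl_bt (LP (LK LD1_c5 LD2_c9 LD3_c50)) = (LP (LK LD1_c10 LD2_c10 LD3_c29)) :=
  Lre_b IH (LK LD1_c5 LD2_c9 LD3_c50) (LK LD1_c10 LD2_c10 LD3_c29) Lrfl Lrfl
theorem f312413 : Led Lsl_bf (LP (LK LD1_c7 LD2_c58 LD3_c51)) = (LP (LK LD1_c15 LD2_c2 LD3_c17)) :=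
  Lgr Lrot93 (Lpe (K14.f250342 IH) (Lpr_bt (f250344 IH) (Lpr_dt (f312410 IH) (Lpn (LP (LK LD1_c15 LD2_c2 LD3_c17))))))
theorem f312412 : Led Lsl_et (LP (LK LD1_c7 LD2_c58 LD3_c16)) = (LP (LK LD1_c15 LD2_c2 LD3_c17)) :=
  Lre_e IH (LK LD1_c7 LD2_c58 LD3_c16) (LK LD1_c15 LD2_c2 LD3_c17) Lrfl Lrfl
theorem f312477 : Led Lsl_bt (LP (LK LD1_c3 LD2_c58 LD3_c39)) = (LP (LK LD1_c7 LD2_c58 LD3_c16)) :=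
  Lgr Lrot119 (Lpe (K14.f171284 IH) (Lpr_bf (f312413 IH) (Lpe (f312412 IH) (Lpn (LP (LK LD1_c7 LD2_c58 LD3_c16))))))
theorem f21354 : Led Lsl_et (LP (LK LD1_c0 LD2_c33 LD3_c59)) = (LP (LK LD1_c1 LD2_c13 LD3_c20)) :=
  Lre_e IH (LK LD1_c0 LD2_c33 LD3_c59) (LK LD1_c1 LD2_c13 LD3_c20) Lrfl Lrfl
theorem f163909 : Led Lsl_et (LP (LK LD1_c5 LD2_c11 LD3_c57)) = (LP (LK LD1_c2 LD2_c32 LD3_c50)) :=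
  Lre_e IH (LK LD1_c5 LD2_c11 LD3_c57) (LK LD1_c2 LD2_c32 LD3_c50) Lrfl Lrfl
theorem f171288 : Led Lsl_df (LP (LK LD1_c3 LD2_c58 LD3_c39)) = (LP (LK LD1_c5 LD2_c11 LD3_c57)) :=
  Lgr Lrot170 (Lpr_gt (K14.f171279 IH) (Lpr_df (K16.f171275 IH) (Lpr_et (K14.f165283 IH) (Lpr_gt (K9.f165276 IH) (Lpr_dt (K9.f21993 IH) (Lpr_gt (K9.f165274 IH) (Lpe (K8.f163650 IH) (Lpr_et (f21354 IH) (Lpr_gt (f21358 IH) (Lpe (f163909 IH) (Lpn (LP (LK LD1_c5 LD2_c11 LD3_c57)))))))))))))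
theorem f171290 : Led Lsl_bt (LP (LK LD1_c10 LD2_c14 LD3_c39)) = (LP (LK LD1_c5 LD2_c11 LD3_c57)) :=
  Lre_b IH (LK LD1_c10 LD2_c14 LD3_c39) (LK LD1_c5 LD2_c11 LD3_c57) Lrfl Lrfl
theorem f312483 : Led Lsl_df (LP (LK LD1_c10 LD2_c14 LD3_c39)) = (LP (LK LD1_c7 LD2_c58 LD3_c16)) :=
  Lgr Lrot12 (Lpr_bt (f171290 IH) (Lpe (f171288 IH) (Lpr_bt (f312477 IH) (Lpn (LP (LK LD1_c7 LD2_c58 LD3_c16))))))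
theorem f312487 : Led Lsl_et (LP (LK LD1_c10 LD2_c14 LD3_c39)) = (LP (LK LD1_c5 LD2_c11 LD3_c54)) :=
  Lre_e IH (LK LD1_c10 LD2_c14 LD3_c39) (LK LD1_c5 LD2_c11 LD3_c54) Lrfl Lrfl
theorem f312488 : Led Lsl_dt (LP (LK LD1_c5 LD2_c11 LD3_c54)) = (LP (LK LD1_c10 LD2_c14 LD3_c38)) :=
  Lre_d IH (LK LD1_c5 LD2_c11 LD3_c54) (LK LD1_c10 LD2_c14 LD3_c38) Lrfl Lrfl
theorem f312489 : Led Lsl_et (LP (LK LD1_c10 LD2_c14 LD3_c38)) = (LP (LK LD1_c10 LD2_c10 LD3_c29)) :=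
  Lgr Lrot71 (Lpe (f312488 IH) (Lpe (f312487 IH) (Lpr_df (f312483 IH) (Lpe (f266883 IH) (Lpe (f312410 IH) (Lpn (LP (LK LD1_c10 LD2_c10 LD3_c29))))))))
theorem f312496 : Led Lsl_dt (LP (LK LD1_c10 LD2_c14 LD3_c38)) = (LP (LK LD1_c5 LD2_c11 LD3_c54)) :=
  Lre_d IH (LK LD1_c10 LD2_c14 LD3_c38) (LK LD1_c5 LD2_c11 LD3_c54) Lrfl Lrfl
theorem f248025 : Led Lsl_et (LP (LK LD1_c2 LD2_c32 LD3_c7)) = (LP (LK LD1_c5 LD2_c10 LD3_c6)) :=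
  Lre_e IH (LK LD1_c2 LD2_c32 LD3_c7) (LK LD1_c5 LD2_c10 LD3_c6) Lrfl Lrfl
theorem f312497 : Led Lsl_gt (LP (LK LD1_c5 LD2_c11 LD3_c54)) = (LP (LK LD1_c4 LD2_c54 LD3_c14)) :=
  Lgr Lrot112 (Lpe (f312496 IH) (Lpr_et (f312489 IH) (Lpr_gf (f312399 IH) (Lpe (f248025 IH) (Lpr_dt (K15.f248042 IH) (Lpr_gf (K14.f255923 IH) (Lpr_df (K14.f246667 IH) (Lpr_gf (K12.f43469 IH) (Lpe (K13.f43357 IH) (Lpr_dt (K13.f43358 IH) (Lpn (LP (LK LD1_c4 LD2_c54 LD3_c14)))))))))))))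
theorem f43669 : Led Lsl_at (LP (LK LD1_c4 LD2_c54 LD3_c29)) = (LP (LK LD1_c4 LD2_c54 LD3_c14)) :=
  Lgr Lrot107 (Lpe (K13.f43303 IH) (Lpr_af (K13.f43660 IH) (Lpe (K13.f43367 IH) (Lpn (LP (LK LD1_c4 LD2_c54 LD3_c14))))))
theorem f214304 : Led Lsl_ft (LP (LK LD1_c5 LD2_c2 LD3_c47)) = (LP (LK LD1_c4 LD2_c54 LD3_c29)) :=
  Lgr Lrot86 (Lpe (K13.f192555 IH) (Lpr_ff (K12.f214278 IH) (Lpe (K14.f44327 IH) (Lpe (K9.f43779 IH) (Lpe (K13.f43297 IH) (Lpn (LP (LK LD1_c4 LD2_c54 LD3_c29))))))))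
theorem f312499 : Led Lsl_gf (LP (LK LD1_c5 LD2_c11 LD3_c54)) = (LP (LK LD1_c5 LD2_c2 LD3_c47)) :=
  Lgr Lrot47 (Lpr_gt (f312497 IH) (Lpe (f43669 IH) (Lpe (f214304 IH) (Lpn (LP (LK LD1_c5 LD2_c2 LD3_c47))))))
theorem f171447 : Led Lsl_gt (LP (LK LD1_c2 LD2_c6 LD3_c42)) = (LP (LK LD1_c4 LD2_c18 LD3_c52)) :=
  Lre_g IH (LK LD1_c2 LD2_c6 LD3_c42) (LK LD1_c4 LD2_c18 LD3_c52) Lrfl Lrfl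
theorem f304583 : Led Lsl_et (LP (LK LD1_c4 LD2_c12 LD3_c29)) = (LP (LK LD1_c4 LD2_c18 LD3_c52)) :=
  Lgr Lrot122 (Lpr_dt (f166863 IH) (Lpr_gt (f304576 IH) (Lpe (f304574 IH) (Lpr_et (f166648 IH) (Lpr_gt (f304539 IH) (Lpr_dt (K10.f44493 IH) (Lpr_gt (K16.f232207 IH) (Lpe (K12.f171436 IH) (Lpr_et (K16.f171498 IH) (Lpr_gt (f171447 IH) (Lpn (LP (LK LD1_c4 LD2_c18 LD3_c52)))))))))))))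
theorem f304592 : Led Lsl_ef (LP (LK LD1_c4 LD2_c12 LD3_c29)) = (LP (LK LD1_c4 LD2_c18 LD3_c52)) :=
  Lgr Lrot88 (Lpr_et (f304583 IH) (Lpn (LP (LK LD1_c4 LD2_c18 LD3_c52))))
theorem f171448 : Led Lsl_dt (LP (LK LD1_c4 LD2_c18 LD3_c52)) = (LP (LK LD1_c8 LD2_c36 LD3_c28)) :=
  Lre_d IH (LK LD1_c4 LD2_c18 LD3_c52) (LK LD1_c8 LD2_c36 LD3_c28) Lrfl Lrfl
theorem f304604 : Led Lsl_gf (LP (LK LD1_c5 LD2_c9 LD3_c30)) = (LP (LK LD1_c8 LD2_c36 LD3_c28)) :=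
  Lgr Lrot145 (Lpr_df (f278632 IH) (Lpr_et (f276622 IH) (Lpe (K16.f276611 IH) (Lpr_dt (K12.f53636 IH) (Lpe (K10.f189095 IH) (Lpe (K10.f166515 IH) (Lpr_et (f166974 IH) (Lpr_gt (f166862 IH) (Lpr_ef (f304592 IH) (Lpr_dt (f171448 IH) (Lpn (LP (LK LD1_c8 LD2_c36 LD3_c28)))))))))))))
theorem f304601 : Led Lsl_et (LP (LK LD1_c16 LD2_c7 LD3_c59)) = (LP (LK LD1_c8 LD2_c36 LD3_c28)) :=
  Lre_e IH (LK LD1_c16 LD2_c7 LD3_c59) (LK LD1_c8 LD2_c36 LD3_c28) Lrfl Lrfl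
theorem f304582 : Led Lsl_et (LP (LK LD1_c15 LD2_c48 LD3_c47)) = (LP (LK LD1_c8 LD2_c24 LD3_c40)) :=
  Lre_e IH (LK LD1_c15 LD2_c48 LD3_c47) (LK LD1_c8 LD2_c24 LD3_c40) Lrfl Lrfl
theorem f171463 : Led Lsl_et (LP (LK LD1_c8 LD2_c36 LD3_c28)) = (LP (LK LD1_c16 LD2_c7 LD3_c59)) :=
  Lre_e IH (LK LD1_c8 LD2_c36 LD3_c28) (LK LD1_c16 LD2_c7 LD3_c59) Lrfl Lrfl
theorem f304590 : Led Lsl_df (LP (LK LD1_c15 LD2_c48 LD3_c47)) = (LP (LK LD1_c16 LD2_c7 LD3_c59)) :=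
  Lgr Lrot70 (Lpr_et (f304582 IH) (Lpr_dt (f166879 IH) (Lpr_et (f304583 IH) (Lpr_dt (f171448 IH) (Lpr_et (f171463 IH) (Lpn (LP (LK LD1_c16 LD2_c7 LD3_c59))))))))
theorem f312513 : Led Lsl_gt (LP (LK LD1_c10 LD2_c14 LD3_c38)) = (LP (LK LD1_c15 LD2_c48 LD3_c47)) :=
  Lgr Lrot139 (Lpe (f312488 IH) (Lpr_gf (f312499 IH) (Lpe (K13.f192555 IH) (Lpr_dt (K12.f192556 IH) (Lpe (K17.f278618 IH) (Lpe (K16.f275264 IH) (Lpr_et (f278606 IH) (Lpr_gf (f304604 IH) (Lpe (f304601 IH) (Lpe (f304590 IH) (Lpn (LP (LK LD1_c15 LD2_c48 LD3_c47)))))))))))))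
theorem f43376 : Led Lsl_gt (LP (LK LD1_c17 LD2_c46 LD3_c47)) = (LP (LK LD1_c9 LD2_c39 LD3_c61)) :=
  Lre_g IH (LK LD1_c17 LD2_c46 LD3_c47) (LK LD1_c9 LD2_c39 LD3_c61) Lrfl Lrfl
theorem f214371 : Led Lsl_gt (LP (LK LD1_c9 LD2_c56 LD3_c25)) = (LP (LK LD1_c17 LD2_c46 LD3_c47)) :=
  Lgr Lrot5 (Lpr_ft (K13.f214340 IH) (Lpr_at (K13.f43662 IH) (Lpe (f43376 IH) (Lpn (LP (LK LD1_c17 LD2_c46 LD3_c47))))))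
theorem f214533 : Led Lsl_dt (LP (LK LD1_c17 LD2_c46 LD3_c47)) = (LP (LK LD1_c27 LD2_c33 LD3_c32)) :=
  Lre_d IH (LK LD1_c17 LD2_c46 LD3_c47) (LK LD1_c27 LD2_c33 LD3_c32) Lrfl Lrfl
theorem f166880 : Led Lsl_et (LP (LK LD1_c8 LD2_c24 LD3_c40)) = (LP (LK LD1_c15 LD2_c48 LD3_c47)) :=
  Lre_e IH (LK LD1_c8 LD2_c24 LD3_c40) (LK LD1_c15 LD2_c48 LD3_c47) Lrfl Lrfl
theorem f171462 : Led Lsl_dt (LP (LK LD1_c8 LD2_c36 LD3_c28)) = (LP (LK LD1_c4 LD2_c18 LD3_c52)) :=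
  Lre_d IH (LK LD1_c8 LD2_c36 LD3_c28) (LK LD1_c4 LD2_c18 LD3_c52) Lrfl Lrfl
theorem f304602 : Led Lsl_dt (LP (LK LD1_c15 LD2_c48 LD3_c47)) = (LP (LK LD1_c16 LD2_c7 LD3_c59)) :=
  Lgr Lrot77 (Lpe (f166880 IH) (Lpe (f166863 IH) (Lpr_ef (f304592 IH) (Lpe (f171462 IH) (Lpe (f304601 IH) (Lpn (LP (LK LD1_c16 LD2_c7 LD3_c59))))))))
theorem f304619 : Led Lsl_ct (LP (LK LD1_c26 LD2_c4 LD3_c28)) = (LP (LK LD1_c16 LD2_c7 LD3_c59)) :=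
  Lre_c IH (LK LD1_c26 LD2_c4 LD3_c28) (LK LD1_c16 LD2_c7 LD3_c59) Lrfl Lrfl
theorem f304620 : Led Lsl_dt (LP (LK LD1_c32 LD2_c3 LD3_c52)) = (LP (LK LD1_c26 LD2_c4 LD3_c28)) :=
  Lre_d IH (LK LD1_c32 LD2_c3 LD3_c52) (LK LD1_c26 LD2_c4 LD3_c28) Lrfl Lrfl
theorem f312515 : Led Lsl_gt (LP (LK LD1_c27 LD2_c33 LD3_c32)) = (LP (LK LD1_c32 LD2_c3 LD3_c52)) :=
  Lgr Lrot49 (Lpe (f214533 IH) (Lpe (f214371 IH) (Lpe (K12.f214138 IH) (Lpe (f312499 IH) (Lpr_dt (f312488 IH) (Lpr_gt (f312513 IH) (Lpr_dt (f304602 IH) (Lpe (f304619 IH) (Lpe (f304620 IH) (Lpn (LP (LK LD1_c32 LD2_c3 LD3_c52))))))))))))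
theorem f304618 : Led Lsl_dt (LP (LK LD1_c26 LD2_c4 LD3_c28)) = (LP (LK LD1_c32 LD2_c3 LD3_c52)) :=
  Lre_d IH (LK LD1_c26 LD2_c4 LD3_c28) (LK LD1_c32 LD2_c3 LD3_c52) Lrfl Lrfl
theorem f312526 : Led Lsl_et (LP (LK LD1_c26 LD2_c4 LD3_c28)) = (LP (LK LD1_c16 LD2_c7 LD3_c58)) :=
  Lre_e IH (LK LD1_c26 LD2_c4 LD3_c28) (LK LD1_c16 LD2_c7 LD3_c58) Lrfl Lrfl
theorem f312527 : Led Lsl_gf (LP (LK LD1_c15 LD2_c38 LD3_c40)) = (LP (LK LD1_c16 LD2_c7 LD3_c58)) :=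
  Lgr Lrot141 (Lpe (K14.f232066 IH) (Lpr_dt (K14.f191793 IH) (Lpe (K14.f215613 IH) (Lpe (K13.f198889 IH) (Lpr_et (K13.f214151 IH) (Lpr_gt (f214371 IH) (Lpr_dt (f214533 IH) (Lpr_gt (f312515 IH) (Lpe (f304618 IH) (Lpr_et (f312526 IH) (Lpn (LP (LK LD1_c16 LD2_c7 LD3_c58)))))))))))))
theorem f287665 : Led Lsl_ct (LP (LK LD1_c8 LD2_c18 LD3_c61)) = (LP (LK LD1_c4 LD2_c9 LD3_c31)) :=
  Lre_c IH (LK LD1_c8 LD2_c18 LD3_c61) (LK LD1_c4 LD2_c9 LD3_c31) Lrfl Lrfl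
theorem f312529 : Led Lsl_gt (LP (LK LD1_c15 LD2_c38 LD3_c35)) = (LP (LK LD1_c8 LD2_c18 LD3_c61)) :=
  Lre_g IH (LK LD1_c15 LD2_c38 LD3_c35) (LK LD1_c8 LD2_c18 LD3_c61) Lrfl Lrfl
theorem f171449 : Led Lsl_ct (LP (LK LD1_c8 LD2_c36 LD3_c28)) = (LP (LK LD1_c16 LD2_c7 LD3_c58)) :=
  Lre_c IH (LK LD1_c8 LD2_c36 LD3_c28) (LK LD1_c16 LD2_c7 LD3_c58) Lrfl Lrfl
theorem f300123 : Led Lsl_at (LP (LK LD1_c2 LD2_c31 LD3_c57)) = (LP (LK LD1_c5 LD2_c9 LD3_c30)) :=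
  Lre_a IH (LK LD1_c2 LD2_c31 LD3_c57) (LK LD1_c5 LD2_c9 LD3_c30) Lrfl Lrfl
theorem f304606 : Led Lsl_ft (LP (LK LD1_c5 LD2_c9 LD3_c45)) = (LP (LK LD1_c2 LD2_c31 LD3_c57)) :=
  Lre_f IH (LK LD1_c5 LD2_c9 LD3_c45) (LK LD1_c2 LD2_c31 LD3_c57) Lrfl Lrfl
theorem f304607 : Led Lsl_gt (LP (LK LD1_c5 LD2_c9 LD3_c45)) = (LP (LK LD1_c8 LD2_c36 LD3_c28)) :=
  Lgr Lrot5 (Lpr_ft (f304606 IH) (Lpr_at (f300123 IH) (Lpr_gf (f304604 IH) (Lpn (LP (LK LD1_c8 LD2_c36 LD3_c28))))))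
theorem f312530 : Led Lsl_cf (LP (LK LD1_c15 LD2_c38 LD3_c35)) = (LP (LK LD1_c9 LD2_c36 LD3_c49)) :=
  Lgr Lrot188 (Lpr_gt (f312529 IH) (Lpr_ct (f287665 IH) (Lpr_dt (K14.f232086 IH) (Lpe (K14.f232074 IH) (Lpr_gf (f312527 IH) (Lpe (f171449 IH) (Lpe (f304607 IH) (Lpe (f306944 IH) (Lpr_gt (f307113 IH) (Lpn (LP (LK LD1_c9 LD2_c36 LD3_c49))))))))))))
theorem f312541 : Led Lsl_df (LP (LK LD1_c5 LD2_c9 LD3_c45)) = (LP (LK LD1_c4 LD2_c52 LD3_c26)) :=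
  Lgr Lrot155 (Lpr_gt (f304607 IH) (Lpr_ct (f171449 IH) (Lpe (f312527 IH) (Lpr_ct (K14.f232074 IH) (Lpr_dt (K14.f232089 IH) (Lpe (f287665 IH) (Lpe (f312529 IH) (Lpr_cf (f312530 IH) (Lpe (f307113 IH) (Lpn (LP (LK LD1_c4 LD2_c52 LD3_c26))))))))))))
theorem f248590 : Led Lsl_dt (LP (LK LD1_c4 LD2_c18 LD3_c53)) = (LP (LK LD1_c8 LD2_c36 LD3_c31)) :=
  Lre_d IH (LK LD1_c4 LD2_c18 LD3_c53) (LK LD1_c8 LD2_c36 LD3_c31) Lrfl Lrfl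
theorem f181257 : Led Lsl_gt (LP (LK LD1_c2 LD2_c44 LD3_c1)) = (LP (LK LD1_c5 LD2_c36 LD3_c15)) :=
  Lre_g IH (LK LD1_c2 LD2_c44 LD3_c1) (LK LD1_c5 LD2_c36 LD3_c15) Lrfl Lrfl
theorem f261181 : Led Lsl_gf (LP (LK LD1_c9 LD2_c41 LD3_c18)) = (LP (LK LD1_c5 LD2_c36 LD3_c15)) :=
  Lgr Lrot76 (Lpr_af (K15.f261168 IH) (Lpe (K15.f228835 IH) (Lpr_gt (f181257 IH) (Lpn (LP (LK LD1_c5 LD2_c36 LD3_c15))))))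
theorem f228877 : Led Lsl_dt (LP (LK LD1_c11 LD2_c4 LD3_c48)) = (LP (LK LD1_c5 LD2_c36 LD3_c15)) :=
  Lre_d IH (LK LD1_c11 LD2_c4 LD3_c48) (LK LD1_c5 LD2_c36 LD3_c15) Lrfl Lrfl
theorem f304957 : Led Lsl_gt (LP (LK LD1_c4 LD2_c53 LD3_c24)) = (LP (LK LD1_c9 LD2_c38 LD3_c43)) :=
  Lre_g IH (LK LD1_c4 LD2_c53 LD3_c24) (LK LD1_c9 LD2_c38 LD3_c43) Lrfl Lrfl
theorem f312548 : Led Lsl_et (LP (LK LD1_c11 LD2_c4 LD3_c48)) = (LP (LK LD1_c9 LD2_c38 LD3_c43)) :=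
  Lgr Lrot122 (Lpr_dt (f228877 IH) (Lpe (f261181 IH) (Lpr_df (f271144 IH) (Lpe (K16.f271147 IH) (Lpr_gt (f248589 IH) (Lpr_dt (f248590 IH) (Lpe (f305782 IH) (Lpr_df (f312541 IH) (Lpe (f304940 IH) (Lpr_gt (f304957 IH) (Lpn (LP (LK LD1_c9 LD2_c38 LD3_c43)))))))))))))
theorem f228829 : Led Lsl_df (LP (LK LD1_c2 LD2_c44 LD3_c1)) = (LP (LK LD1_c2 LD2_c3 LD3_c51)) :=
  Lgr Lrot38 (Lpr_dt (K15.f228816 IH) (Lpn (LP (LK LD1_c2 LD2_c3 LD3_c51))))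
theorem f307099 : Led Lsl_gt (LP (LK LD1_c4 LD2_c55 LD3_c14)) = (LP (LK LD1_c2 LD2_c25 LD3_c31)) :=
  Lre_g IH (LK LD1_c4 LD2_c55 LD3_c14) (LK LD1_c2 LD2_c25 LD3_c31) Lrfl Lrfl
theorem f180089 : Led Lsl_gt (LP (LK LD1_c9 LD2_c38 LD3_c43)) = (LP (LK LD1_c4 LD2_c53 LD3_c19)) :=
  Lre_g IH (LK LD1_c9 LD2_c38 LD3_c43) (LK LD1_c4 LD2_c53 LD3_c19) Lrfl Lrfl
theorem f312553 : Led Lsl_df (LP (LK LD1_c4 LD2_c55 LD3_c14)) = (LP (LK LD1_c4 LD2_c53 LD3_c19)) :=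
  Lgr Lrot135 (Lpr_gt (f307099 IH) (Lpr_df (f246646 IH) (Lpr_et (f222161 IH) (Lpr_gt (K14.f178351 IH) (Lpe (K15.f228815 IH) (Lpe (f228829 IH) (Lpr_gt (f181257 IH) (Lpe (f228877 IH) (Lpr_et (f312548 IH) (Lpr_gt (f180089 IH) (Lpn (LP (LK LD1_c4 LD2_c53 LD3_c19)))))))))))))
theorem f312562 : Led Lsl_et (LP (LK LD1_c4 LD2_c55 LD3_c14)) = (LP (LK LD1_c5 LD2_c37 LD3_c3)) :=
  Lgr Lrot71 (Lpr_df (f312553 IH) (Lpe (f180088 IH) (Lpe (K16.f180085 IH) (Lpr_ef (K16.f180055 IH) (Lpe (K17.f180058 IH) (Lpn (LP (LK LD1_c5 LD2_c37 LD3_c3))))))))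
theorem f230898 : Led Lsl_ft (LP (LK LD1_c8 LD2_c11 LD3_c8)) = (LP (LK LD1_c15 LD2_c24 LD3_c44)) :=
  Lre_f IH (LK LD1_c8 LD2_c11 LD3_c8) (LK LD1_c15 LD2_c24 LD3_c44) Lrfl Lrfl
theorem f312574 : Led Lsl_ff (LP (LK LD1_c4 LD2_c55 LD3_c14)) = (LP (LK LD1_c9 LD2_c1 LD3_c14)) :=
  Lgr Lrot72 (Lpr_et (f312562 IH) (Lpe (K17.f237898 IH) (Lpr_et (K17.f230904 IH) (Lpr_ft (f230898 IH) (Lpr_et (f307142 IH) (Lpn (LP (LK LD1_c9 LD2_c1 LD3_c14))))))))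
theorem f310878 : Led Lsl_ct (LP (LK LD1_c4 LD2_c55 LD3_c14)) = (LP (LK LD1_c9 LD2_c42 LD3_c1)) :=
  Lre_c IH (LK LD1_c4 LD2_c55 LD3_c14) (LK LD1_c9 LD2_c42 LD3_c1) Lrfl Lrfl
theorem f307170 : Led Lsl_ct (LP (LK LD1_c16 LD2_c51 LD3_c13)) = (LP (LK LD1_c9 LD2_c1 LD3_c14)) :=
  Lre_c IH (LK LD1_c16 LD2_c51 LD3_c13) (LK LD1_c9 LD2_c1 LD3_c14) Lrfl Lrfl
theorem f312599 : Led Lsl_ft (LP (LK LD1_c9 LD2_c42 LD3_c1)) = (LP (LK LD1_c16 LD2_c51 LD3_c13)) :=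
  Lgr Lrot4 (Lpe (f310878 IH) (Lpr_ff (f312574 IH) (Lpe (f307170 IH) (Lpn (LP (LK LD1_c16 LD2_c51 LD3_c13))))))
theorem f307077 : Led Lsl_at (LP (LK LD1_c16 LD2_c51 LD3_c13)) = (LP (LK LD1_c9 LD2_c1 LD3_c15)) :=
  Lre_a IH (LK LD1_c16 LD2_c51 LD3_c13) (LK LD1_c9 LD2_c1 LD3_c15) Lrfl Lrfl
theorem f180074 : Led Lsl_ft (LP (LK LD1_c2 LD2_c24 LD3_c29)) = (LP (LK LD1_c4 LD2_c53 LD3_c24)) :=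
  Lre_f IH (LK LD1_c2 LD2_c24 LD3_c29) (LK LD1_c4 LD2_c53 LD3_c24) Lrfl Lrfl
theorem f307075 : Led Lsl_ft (LP (LK LD1_c4 LD2_c31 LD3_c37)) = (LP (LK LD1_c2 LD2_c45 LD3_c49)) :=
  Lgr Lrot54 (Lpr_df (f307063 IH) (Lpe (f180074 IH) (Lpe (K16.f179956 IH) (Lpn (LP (LK LD1_c2 LD2_c45 LD3_c49))))))
theorem f307062 : Led Lsl_ct (LP (LK LD1_c9 LD2_c1 LD3_c15)) = (LP (LK LD1_c4 LD2_c31 LD3_c37)) :=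
  Lre_c IH (LK LD1_c9 LD2_c1 LD3_c15) (LK LD1_c4 LD2_c31 LD3_c37) Lrfl Lrfl
theorem f180044 : Led Lsl_ct (LP (LK LD1_c2 LD2_c45 LD3_c49)) = (LP (LK LD1_c5 LD2_c39 LD3_c46)) :=
  Lre_c IH (LK LD1_c2 LD2_c45 LD3_c49) (LK LD1_c5 LD2_c39 LD3_c46) Lrfl Lrfl
theorem f307078 : Led Lsl_ff (LP (LK LD1_c9 LD2_c1 LD3_c15)) = (LP (LK LD1_c5 LD2_c39 LD3_c46)) :=
  Lgr Lrot23 (Lpr_ct (f307062 IH) (Lpr_ft (f307075 IH) (Lpr_ct (f180044 IH) (Lpn (LP (LK LD1_c5 LD2_c39 LD3_c46))))))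
theorem f307084 : Led Lsl_ft (LP (LK LD1_c9 LD2_c1 LD3_c15)) = (LP (LK LD1_c5 LD2_c39 LD3_c46)) :=
  Lgr Lrot48 (Lpr_ff (f307078 IH) (Lpn (LP (LK LD1_c5 LD2_c39 LD3_c46))))
theorem f312601 : Led Lsl_af (LP (LK LD1_c9 LD2_c42 LD3_c1)) = (LP (LK LD1_c5 LD2_c39 LD3_c46)) :=
  Lgr Lrot45 (Lpr_ft (f312599 IH) (Lpr_at (f307077 IH) (Lpr_ft (f307084 IH) (Lpn (LP (LK LD1_c5 LD2_c39 LD3_c46))))))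
theorem f312652 : Led Lsl_gf (LP (LK LD1_c9 LD2_c42 LD3_c1)) = (LP (LK LD1_c16 LD2_c51 LD3_c14)) :=
  Lgr Lrot76 (Lpr_af (f312601 IH) (Lpe (f307084 IH) (Lpr_gt (f241009 IH) (Lpn (LP (LK LD1_c16 LD2_c51 LD3_c14))))))
theorem f310894 : Led Lsl_at (LP (LK LD1_c10 LD2_c31 LD3_c12)) = (LP (LK LD1_c5 LD2_c23 LD3_c34)) :=
  Lgr Lrot100 (Lpr_af (f310890 IH) (Lpn (LP (LK LD1_c5 LD2_c23 LD3_c34))))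
theorem f312654 : Led Lsl_gt (LP (LK LD1_c9 LD2_c42 LD3_c1)) = (LP (LK LD1_c5 LD2_c23 LD3_c34)) :=
  Lgr Lrot46 (Lpr_gf (f312652 IH) (Lpe (f310847 IH) (Lpr_at (f310894 IH) (Lpn (LP (LK LD1_c5 LD2_c23 LD3_c34))))))
theorem f312658 : Led Lsl_gf (LP (LK LD1_c9 LD2_c1 LD3_c15)) = (LP (LK LD1_c5 LD2_c23 LD3_c34)) :=
  Lgr Lrot76 (Lpe (f307077 IH) (Lpe (f312599 IH) (Lpr_gt (f312654 IH) (Lpn (LP (LK LD1_c5 LD2_c23 LD3_c34))))))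
theorem f312664 : Led Lsl_af (LP (LK LD1_c16 LD2_c51 LD3_c14)) = (LP (LK LD1_c10 LD2_c37 LD3_c40)) :=
  Lgr Lrot31 (Lpe (f241009 IH) (Lpr_gf (f312658 IH) (Lpr_ft (f310922 IH) (Lpn (LP (LK LD1_c10 LD2_c37 LD3_c40))))))
theorem f305504 : Led Lsl_ct (LP (LK LD1_c10 LD2_c35 LD3_c36)) = (LP (LK LD1_c5 LD2_c22 LD3_c41)) :=
  Lre_c IH (LK LD1_c10 LD2_c35 LD3_c36) (LK LD1_c5 LD2_c22 LD3_c41) Lrfl Lrfl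
theorem f310845 : Led Lsl_ef (LP (LK LD1_c10 LD2_c35 LD3_c36)) = (LP (LK LD1_c16 LD2_c51 LD3_c14)) :=
  Lgr Lrot28 (Lpr_ct (f305504 IH) (Lpe (f310727 IH) (Lpr_ct (f310839 IH) (Lpn (LP (LK LD1_c16 LD2_c51 LD3_c14))))))
theorem f224715 : Led Lsl_et (LP (LK LD1_c2 LD2_c37 LD3_c41)) = (LP (LK LD1_c5 LD2_c22 LD3_c21)) :=
  Lre_e IH (LK LD1_c2 LD2_c37 LD3_c41) (LK LD1_c5 LD2_c22 LD3_c21) Lrfl Lrfl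
theorem f310912 : Led Lsl_ft (LP (LK LD1_c5 LD2_c22 LD3_c21)) = (LP (LK LD1_c10 LD2_c35 LD3_c11)) :=
  Lre_f IH (LK LD1_c5 LD2_c22 LD3_c21) (LK LD1_c10 LD2_c35 LD3_c11) Lrfl Lrfl
theorem f218558 : Led Lsl_et (LP (LK LD1_c5 LD2_c23 LD3_c34)) = (LP (LK LD1_c2 LD2_c38 LD3_c19)) :=
  Lre_e IH (LK LD1_c5 LD2_c23 LD3_c34) (LK LD1_c2 LD2_c38 LD3_c19) Lrfl Lrfl
theorem f310913 : Led Lsl_et (LP (LK LD1_c10 LD2_c35 LD3_c11)) = (LP (LK LD1_c10 LD2_c37 LD3_c40)) :=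
  Lgr Lrot69 (Lpe (f310912 IH) (Lpe (f224715 IH) (Lpr_ff (f310906 IH) (Lpe (f218558 IH) (Lpe (f310889 IH) (Lpn (LP (LK LD1_c10 LD2_c37 LD3_c40))))))))
theorem f312668 : Led Lsl_at (LP (LK LD1_c10 LD2_c35 LD3_c36)) = (LP (LK LD1_c10 LD2_c35 LD3_c11)) :=
  Lgr Lrot80 (Lpr_ef (f310845 IH) (Lpr_af (f312664 IH) (Lpe (f310913 IH) (Lpn (LP (LK LD1_c10 LD2_c35 LD3_c11))))))
theorem f312674 : Led Lsl_ft (LP (LK LD1_c5 LD2_c22 LD3_c37)) = (LP (LK LD1_c10 LD2_c35 LD3_c36)) :=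
  Lre_f IH (LK LD1_c5 LD2_c22 LD3_c37) (LK LD1_c10 LD2_c35 LD3_c36) Lrfl Lrfl
theorem f312675 : Led Lsl_af (LP (LK LD1_c5 LD2_c22 LD3_c37)) = (LP (LK LD1_c5 LD2_c22 LD3_c21)) :=
  Lgr Lrot45 (Lpr_ft (f312674 IH) (Lpr_at (f312668 IH) (Lpr_ft (f310921 IH) (Lpn (LP (LK LD1_c5 LD2_c22 LD3_c21))))))
theorem f196730 : Led Lsl_et (LP (LK LD1_c5 LD2_c22 LD3_c37)) = (LP (LK LD1_c2 LD2_c37 LD3_c51)) :=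
  Lre_e IH (LK LD1_c5 LD2_c22 LD3_c37) (LK LD1_c2 LD2_c37 LD3_c51) Lrfl Lrfl
theorem f312681 : Led Lsl_at (LP (LK LD1_c2 LD2_c37 LD3_c51)) = (LP (LK LD1_c2 LD2_c37 LD3_c41)) :=
  Lgr Lrot80 (Lpe (f196730 IH) (Lpr_af (f312675 IH) (Lpe (f224715 IH) (Lpn (LP (LK LD1_c2 LD2_c37 LD3_c41))))))
theorem f310898 : Led Lsl_af (LP (LK LD1_c5 LD2_c20 LD3_c35)) = (LP (LK LD1_c2 LD2_c38 LD3_c19)) :=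
  Lgr Lrot0 (Lpr_at (f310896 IH) (Lpn (LP (LK LD1_c2 LD2_c38 LD3_c19))))
theorem f312689 : Led Lsl_ff (LP (LK LD1_c2 LD2_c37 LD3_c51)) = (LP (LK LD1_c5 LD2_c20 LD3_c35)) :=
  Lgr Lrot30 (Lpr_at (f312681 IH) (Lpr_ft (f310915 IH) (Lpe (f310898 IH) (Lpn (LP (LK LD1_c5 LD2_c20 LD3_c35))))))
theorem f196605 : Led Lsl_bt (LP (LK LD1_c2 LD2_c37 LD3_c51)) = (LP (LK LD1_c5 LD2_c22 LD3_c36)) :=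
  Lre_b IH (LK LD1_c2 LD2_c37 LD3_c51) (LK LD1_c5 LD2_c22 LD3_c36) Lrfl Lrfl
theorem f224748 : Led Lsl_bt (LP (LK LD1_c10 LD2_c31 LD3_c11)) = (LP (LK LD1_c5 LD2_c20 LD3_c35)) :=
  Lre_b IH (LK LD1_c10 LD2_c31 LD3_c11) (LK LD1_c5 LD2_c20 LD3_c35) Lrfl Lrfl
theorem f312691 : Led Lsl_ft (LP (LK LD1_c5 LD2_c22 LD3_c36)) = (LP (LK LD1_c10 LD2_c31 LD3_c11)) :=
  Lgr Lrot75 (Lpe (f196605 IH) (Lpr_ff (f312689 IH) (Lpe (f224748 IH) (Lpn (LP (LK LD1_c10 LD2_c31 LD3_c11))))))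
theorem f196755 : Led Lsl_at (LP (LK LD1_c10 LD2_c35 LD3_c33)) = (LP (LK LD1_c5 LD2_c22 LD3_c36)) :=
  Lre_a IH (LK LD1_c10 LD2_c35 LD3_c33) (LK LD1_c5 LD2_c22 LD3_c36) Lrfl Lrfl
theorem f224755 : Led Lsl_at (LP (LK LD1_c10 LD2_c31 LD3_c11)) = (LP (LK LD1_c19 LD2_c3 LD3_c61)) :=
  Lre_a IH (LK LD1_c10 LD2_c31 LD3_c11) (LK LD1_c19 LD2_c3 LD3_c61) Lrfl Lrfl
theorem f312695 : Led Lsl_ff (LP (LK LD1_c10 LD2_c35 LD3_c33)) = (LP (LK LD1_c19 LD2_c3 LD3_c61)) :=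
  Lgr Lrot30 (Lpr_at (f196755 IH) (Lpr_ft (f312691 IH) (Lpr_at (f224755 IH) (Lpn (LP (LK LD1_c19 LD2_c3 LD3_c61))))))
theorem f196748 : Led Lsl_gt (LP (LK LD1_c10 LD2_c35 LD3_c32)) = (LP (LK LD1_c5 LD2_c22 LD3_c36)) :=
  Lre_g IH (LK LD1_c10 LD2_c35 LD3_c32) (LK LD1_c5 LD2_c22 LD3_c36) Lrfl Lrfl
theorem f312990 : Led Lsl_gf (LP (LK LD1_c10 LD2_c35 LD3_c32)) = (LP (LK LD1_c19 LD2_c3 LD3_c61)) :=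
  Lgr Lrot47 (Lpr_gt (f196748 IH) (Lpe (f196755 IH) (Lpr_ff (f312695 IH) (Lpn (LP (LK LD1_c19 LD2_c3 LD3_c61))))))
theorem f196762 : Led Lsl_ct (LP (LK LD1_c19 LD2_c11 LD3_c2)) = (LP (LK LD1_c10 LD2_c35 LD3_c32)) :=
  Lre_c IH (LK LD1_c19 LD2_c11 LD3_c2) (LK LD1_c10 LD2_c35 LD3_c32) Lrfl Lrfl
theorem f199397 : Led Lsl_bt (LP (LK LD1_c4 LD2_c4 LD3_c36)) = (LP (LK LD1_c8 LD2_c10 LD3_c1)) :=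
  Lre_b IH (LK LD1_c4 LD2_c4 LD3_c36) (LK LD1_c8 LD2_c10 LD3_c1) Lrfl Lrfl
theorem f196687 : Led Lsl_gt (LP (LK LD1_c8 LD2_c10 LD3_c1)) = (LP (LK LD1_c15 LD2_c22 LD3_c49)) :=
  Lre_g IH (LK LD1_c8 LD2_c10 LD3_c1) (LK LD1_c15 LD2_c22 LD3_c49) Lrfl Lrfl
theorem f196745 : Led Lsl_bt (LP (LK LD1_c10 LD2_c35 LD3_c19)) = (LP (LK LD1_c5 LD2_c22 LD3_c28)) :=
  Lre_b IH (LK LD1_c10 LD2_c35 LD3_c19) (LK LD1_c5 LD2_c22 LD3_c28) Lrfl Lrfl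
theorem f196741 : Led Lsl_ct (LP (LK LD1_c10 LD2_c35 LD3_c19)) = (LP (LK LD1_c5 LD2_c22 LD3_c36)) :=
  Lre_c IH (LK LD1_c10 LD2_c35 LD3_c19) (LK LD1_c5 LD2_c22 LD3_c36) Lrfl Lrfl
theorem f279545 : Led Lsl_bf (LP (LK LD1_c15 LD2_c22 LD3_c49)) = (LP (LK LD1_c19 LD2_c11 LD3_c2)) :=
  Lgr Lrot34 (Lpe (f196687 IH) (Lpe (f199397 IH) (Lpr_ct (K16.f192824 IH) (Lpr_gf (K13.f233931 IH) (Lpe (K13.f178051 IH) (Lpr_gf (K18.f279538 IH) (Lpe (f196745 IH) (Lpr_ct (f196741 IH) (Lpe (f196748 IH) (Lpe (f196762 IH) (Lpn (LP (LK LD1_c19 LD2_c11 LD3_c2)))))))))))))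
theorem f199374 : Led Lsl_dt (LP (LK LD1_c5 LD2_c35 LD3_c19)) = (LP (LK LD1_c2 LD2_c43 LD3_c35)) :=
  Lre_d IH (LK LD1_c5 LD2_c35 LD3_c19) (LK LD1_c2 LD2_c43 LD3_c35) Lrfl Lrfl
theorem f199375 : Led Lsl_ff (LP (LK LD1_c4 LD2_c4 LD3_c36)) = (LP (LK LD1_c2 LD2_c43 LD3_c35)) :=
  Lgr Lrot19 (Lpr_dt (K12.f199348 IH) (Lpr_ft (K16.f199364 IH) (Lpr_dt (f199374 IH) (Lpn (LP (LK LD1_c2 LD2_c43 LD3_c35))))))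
theorem f199398 : Led Lsl_bt (LP (LK LD1_c5 LD2_c35 LD3_c18)) = (LP (LK LD1_c2 LD2_c43 LD3_c35)) :=
  Lre_b IH (LK LD1_c5 LD2_c35 LD3_c18) (LK LD1_c2 LD2_c43 LD3_c35) Lrfl Lrfl
theorem f199399 : Led Lsl_ft (LP (LK LD1_c8 LD2_c10 LD3_c1)) = (LP (LK LD1_c5 LD2_c35 LD3_c18)) :=
  Lgr Lrot75 (Lpe (f199397 IH) (Lpr_ff (f199375 IH) (Lpe (f199398 IH) (Lpn (LP (LK LD1_c5 LD2_c35 LD3_c18))))))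
theorem f199428 : Led Lsl_at (LP (LK LD1_c5 LD2_c35 LD3_c18)) = (LP (LK LD1_c11 LD2_c2 LD3_c47)) :=
  Lre_a IH (LK LD1_c5 LD2_c35 LD3_c18) (LK LD1_c11 LD2_c2 LD3_c47) Lrfl Lrfl
theorem f199435 : Led Lsl_gt (LP (LK LD1_c15 LD2_c22 LD3_c49)) = (LP (LK LD1_c11 LD2_c2 LD3_c47)) :=
  Lgr Lrot46 (Lpe (f196687 IH) (Lpr_ft (f199399 IH) (Lpr_at (f199428 IH) (Lpn (LP (LK LD1_c11 LD2_c2 LD3_c47))))))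
theorem f199439 : Led Lsl_bt (LP (LK LD1_c5 LD2_c35 LD3_c46)) = (LP (LK LD1_c11 LD2_c2 LD3_c47)) :=
  Lre_b IH (LK LD1_c5 LD2_c35 LD3_c46) (LK LD1_c11 LD2_c2 LD3_c47) Lrfl Lrfl
theorem f199440 : Led Lsl_ct (LP (LK LD1_c5 LD2_c35 LD3_c46)) = (LP (LK LD1_c2 LD2_c44 LD3_c16)) :=
  Lre_c IH (LK LD1_c5 LD2_c35 LD3_c46) (LK LD1_c2 LD2_c44 LD3_c16) Lrfl Lrfl
theorem f312699 : Led Lsl_ff (LP (LK LD1_c5 LD2_c22 LD3_c36)) = (LP (LK LD1_c10 LD2_c31 LD3_c11)) :=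
  Lgr Lrot3 (Lpr_ft (f312691 IH) (Lpn (LP (LK LD1_c10 LD2_c31 LD3_c11))))
theorem f196738 : Led Lsl_ct (LP (LK LD1_c5 LD2_c22 LD3_c36)) = (LP (LK LD1_c10 LD2_c35 LD3_c19)) :=
  Lre_c IH (LK LD1_c5 LD2_c22 LD3_c36) (LK LD1_c10 LD2_c35 LD3_c19) Lrfl Lrfl
theorem f279534 : Led Lsl_bt (LP (LK LD1_c5 LD2_c23 LD3_c24)) = (LP (LK LD1_c10 LD2_c37 LD3_c20)) :=
  Lre_b IH (LK LD1_c5 LD2_c23 LD3_c24) (LK LD1_c10 LD2_c37 LD3_c20) Lrfl Lrfl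
theorem f279535 : Led Lsl_ft (LP (LK LD1_c10 LD2_c37 LD3_c20)) = (LP (LK LD1_c10 LD2_c35 LD3_c19)) :=
  Lgr Lrot75 (Lpe (f279534 IH) (Lpr_ff (K18.f279532 IH) (Lpe (f196745 IH) (Lpn (LP (LK LD1_c10 LD2_c35 LD3_c19))))))
theorem f279728 : Led Lsl_ff (LP (LK LD1_c10 LD2_c37 LD3_c20)) = (LP (LK LD1_c10 LD2_c35 LD3_c19)) :=
  Lgr Lrot3 (Lpr_ft (f279535 IH) (Lpn (LP (LK LD1_c10 LD2_c35 LD3_c19))))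
theorem f312706 : Led Lsl_ct (LP (LK LD1_c10 LD2_c37 LD3_c20)) = (LP (LK LD1_c10 LD2_c31 LD3_c11)) :=
  Lgr Lrot40 (Lpr_ff (f279728 IH) (Lpe (f196738 IH) (Lpr_ff (f312699 IH) (Lpn (LP (LK LD1_c10 LD2_c31 LD3_c11))))))
theorem f279726 : Led Lsl_at (LP (LK LD1_c19 LD2_c14 LD3_c28)) = (LP (LK LD1_c10 LD2_c37 LD3_c20)) :=
  Lre_a IH (LK LD1_c19 LD2_c14 LD3_c28) (LK LD1_c10 LD2_c37 LD3_c20) Lrfl Lrfl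
theorem f312892 : Led Lsl_cf (LP (LK LD1_c19 LD2_c14 LD3_c28)) = (LP (LK LD1_c19 LD2_c3 LD3_c61)) :=
  Lgr Lrot1 (Lpr_at (f279726 IH) (Lpr_ct (f312706 IH) (Lpr_at (f224755 IH) (Lpn (LP (LK LD1_c19 LD2_c3 LD3_c61))))))
theorem f312897 : Led Lsl_ct (LP (LK LD1_c19 LD2_c14 LD3_c28)) = (LP (LK LD1_c19 LD2_c3 LD3_c61)) :=
  Lgr Lrot59 (Lpr_cf (f312892 IH) (Lpn (LP (LK LD1_c19 LD2_c3 LD3_c61))))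
theorem f212717 : Led Lsl_gf (LP (LK LD1_c9 LD2_c51 LD3_c40)) = (LP (LK LD1_c9 LD2_c0 LD3_c30)) :=
  Lgr Lrot47 (Lpr_gt (f53690 IH) (Lpr_af (K12.f53678 IH) (Lpr_ff (K12.f212672 IH) (Lpn (LP (LK LD1_c9 LD2_c0 LD3_c30))))))
theorem f235348 : Led Lsl_gt (LP (LK LD1_c2 LD2_c12 LD3_c40)) = (LP (LK LD1_c4 LD2_c31 LD3_c23)) :=
  Lre_g IH (LK LD1_c2 LD2_c12 LD3_c40) (LK LD1_c4 LD2_c31 LD3_c23) Lrfl Lrfl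
theorem f303273 : Led Lsl_cf (LP (LK LD1_c2 LD2_c38 LD3_c12)) = (LP (LK LD1_c4 LD2_c31 LD3_c23)) :=
  Lgr Lrot169 (Lpr_gt (K18.f303271 IH) (Lpr_ct (K12.f172028 IH) (Lpe (K12.f212991 IH) (Lpe (f279640 IH) (Lpr_gf (f212717 IH) (Lpe (f212641 IH) (Lpr_gf (K14.f235923 IH) (Lpe (K14.f177913 IH) (Lpr_gt (f235348 IH) (Lpn (LP (LK LD1_c4 LD2_c31 LD3_c23))))))))))))
theorem f235844 : Led Lsl_bt (LP (LK LD1_c4 LD2_c31 LD3_c25)) = (LP (LK LD1_c2 LD2_c12 LD3_c40)) :=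
  Lre_b IH (LK LD1_c4 LD2_c31 LD3_c25) (LK LD1_c2 LD2_c12 LD3_c40) Lrfl Lrfl
theorem f235845 : Led Lsl_ct (LP (LK LD1_c4 LD2_c31 LD3_c25)) = (LP (LK LD1_c2 LD2_c12 LD3_c44)) :=
  Lre_c IH (LK LD1_c4 LD2_c31 LD3_c25) (LK LD1_c2 LD2_c12 LD3_c44) Lrfl Lrfl
theorem f175043 : Led Lsl_gt (LP (LK LD1_c4 LD2_c31 LD3_c32)) = (LP (LK LD1_c2 LD2_c12 LD3_c44)) :=
  Lre_g IH (LK LD1_c4 LD2_c31 LD3_c32) (LK LD1_c2 LD2_c12 LD3_c44) Lrfl Lrfl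
theorem f303277 : Led Lsl_ct (LP (LK LD1_c9 LD2_c1 LD3_c3)) = (LP (LK LD1_c4 LD2_c31 LD3_c32)) :=
  Lre_c IH (LK LD1_c9 LD2_c1 LD3_c3) (LK LD1_c4 LD2_c31 LD3_c32) Lrfl Lrfl
theorem f303278 : Led Lsl_bt (LP (LK LD1_c9 LD2_c1 LD3_c3)) = (LP (LK LD1_c16 LD2_c50 LD3_c60)) :=
  Lre_b IH (LK LD1_c9 LD2_c1 LD3_c3) (LK LD1_c16 LD2_c50 LD3_c60) Lrfl Lrfl
theorem f212629 : Led Lsl_bt (LP (LK LD1_c5 LD2_c22 LD3_c28)) = (LP (LK LD1_c10 LD2_c35 LD3_c19)) :=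
  Lre_b IH (LK LD1_c5 LD2_c22 LD3_c28) (LK LD1_c10 LD2_c35 LD3_c19) Lrfl Lrfl
theorem f303279 : Led Lsl_gf (LP (LK LD1_c16 LD2_c50 LD3_c60)) = (LP (LK LD1_c10 LD2_c35 LD3_c19)) :=
  Lgr Lrot124 (Lpe (f303278 IH) (Lpr_ct (f303277 IH) (Lpr_gt (f175043 IH) (Lpe (f235845 IH) (Lpr_bt (f235844 IH) (Lpr_gt (f235348 IH) (Lpe (f303273 IH) (Lpr_gt (K18.f303271 IH) (Lpe (K12.f172011 IH) (Lpr_bt (f212629 IH) (Lpn (LP (LK LD1_c10 LD2_c35 LD3_c19)))))))))))))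
theorem f279730 : Led Lsl_at (LP (LK LD1_c10 LD2_c37 LD3_c20)) = (LP (LK LD1_c19 LD2_c14 LD3_c28)) :=
  Lre_a IH (LK LD1_c10 LD2_c37 LD3_c20) (LK LD1_c19 LD2_c14 LD3_c28) Lrfl Lrfl
theorem f303283 : Led Lsl_gt (LP (LK LD1_c16 LD2_c50 LD3_c60)) = (LP (LK LD1_c19 LD2_c14 LD3_c28)) :=
  Lgr Lrot46 (Lpr_gf (f303279 IH) (Lpe (f279728 IH) (Lpr_at (f279730 IH) (Lpn (LP (LK LD1_c19 LD2_c14 LD3_c28))))))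
theorem f312992 : Led Lsl_gt (LP (LK LD1_c2 LD2_c44 LD3_c16)) = (LP (LK LD1_c4 LD2_c31 LD3_c32)) :=
  Lgr Lrot65 (Lpe (f199440 IH) (Lpr_bt (f199439 IH) (Lpe (f199435 IH) (Lpr_bf (f279545 IH) (Lpr_ct (f196762 IH) (Lpr_gf (f312990 IH) (Lpe (f312897 IH) (Lpe (f303283 IH) (Lpe (f303278 IH) (Lpr_ct (f303277 IH) (Lpn (LP (LK LD1_c4 LD2_c31 LD3_c32)))))))))))))
theorem f303290 : Led Lsl_bt (LP (LK LD1_c10 LD2_c37 LD3_c25)) = (LP (LK LD1_c19 LD2_c14 LD3_c28)) :=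
  Lre_b IH (LK LD1_c10 LD2_c37 LD3_c25) (LK LD1_c19 LD2_c14 LD3_c28) Lrfl Lrfl
theorem f303291 : Led Lsl_ct (LP (LK LD1_c10 LD2_c37 LD3_c25)) = (LP (LK LD1_c5 LD2_c23 LD3_c42)) :=
  Lre_c IH (LK LD1_c10 LD2_c37 LD3_c25) (LK LD1_c5 LD2_c23 LD3_c42) Lrfl Lrfl
theorem f41243 : Led Lsl_bt (LP (LK LD1_c9 LD2_c43 LD3_c11)) = (LP (LK LD1_c4 LD2_c55 LD3_c45)) :=
  Lre_b IH (LK LD1_c9 LD2_c43 LD3_c11) (LK LD1_c4 LD2_c55 LD3_c45) Lrfl Lrfl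
theorem f196708 : Led Lsl_dt (LP (LK LD1_c5 LD2_c22 LD3_c36)) = (LP (LK LD1_c9 LD2_c43 LD3_c11)) :=
  Lgr Lrot79 (Lpe (f196605 IH) (Lpr_df (K13.f196598 IH) (Lpe (f41243 IH) (Lpn (LP (LK LD1_c9 LD2_c43 LD3_c11))))))
theorem f224649 : Led Lsl_bt (LP (LK LD1_c9 LD2_c40 LD3_c59)) = (LP (LK LD1_c17 LD2_c48 LD3_c45)) :=
  Lre_b IH (LK LD1_c9 LD2_c40 LD3_c59) (LK LD1_c17 LD2_c48 LD3_c45) Lrfl Lrfl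
theorem f224749 : Led Lsl_df (LP (LK LD1_c10 LD2_c31 LD3_c11)) = (LP (LK LD1_c17 LD2_c48 LD3_c45)) :=
  Lgr Lrot12 (Lpr_bt (f224748 IH) (Lpr_dt (K12.f224719 IH) (Lpr_bt (f224649 IH) (Lpn (LP (LK LD1_c17 LD2_c48 LD3_c45))))))
theorem f312708 : Led Lsl_ft (LP (LK LD1_c9 LD2_c43 LD3_c11)) = (LP (LK LD1_c17 LD2_c48 LD3_c45)) :=
  Lgr Lrot54 (Lpe (f196708 IH) (Lpr_ff (f312699 IH) (Lpr_df (f224749 IH) (Lpn (LP (LK LD1_c17 LD2_c48 LD3_c45))))))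
theorem f41244 : Led Lsl_ct (LP (LK LD1_c17 LD2_c52 LD3_c19)) = (LP (LK LD1_c9 LD2_c43 LD3_c11)) :=
  Lre_c IH (LK LD1_c17 LD2_c52 LD3_c19) (LK LD1_c9 LD2_c43 LD3_c11) Lrfl Lrfl
theorem f218778 : Led Lsl_ct (LP (LK LD1_c17 LD2_c48 LD3_c45)) = (LP (LK LD1_c27 LD2_c35 LD3_c53)) :=
  Lre_c IH (LK LD1_c17 LD2_c48 LD3_c45) (LK LD1_c27 LD2_c35 LD3_c53) Lrfl Lrfl
theorem f312713 : Led Lsl_ff (LP (LK LD1_c17 LD2_c52 LD3_c19)) = (LP (LK LD1_c27 LD2_c35 LD3_c53)) :=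
  Lgr Lrot23 (Lpr_ct (f41244 IH) (Lpr_ft (f312708 IH) (Lpr_ct (f218778 IH) (Lpn (LP (LK LD1_c27 LD2_c35 LD3_c53))))))
theorem f312717 : Led Lsl_ft (LP (LK LD1_c17 LD2_c52 LD3_c19)) = (LP (LK LD1_c27 LD2_c35 LD3_c53)) :=
  Lgr Lrot48 (Lpr_ff (f312713 IH) (Lpn (LP (LK LD1_c27 LD2_c35 LD3_c53))))
theorem f218394 : Led Lsl_bt (LP (LK LD1_c2 LD2_c38 LD3_c25)) = (LP (LK LD1_c5 LD2_c23 LD3_c43)) :=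
  Lre_b IH (LK LD1_c2 LD2_c38 LD3_c25) (LK LD1_c5 LD2_c23 LD3_c43) Lrfl Lrfl
theorem f217764 : Led Lsl_ct (LP (LK LD1_c5 LD2_c23 LD3_c43)) = (LP (LK LD1_c10 LD2_c37 LD3_c59)) :=
  Lre_c IH (LK LD1_c5 LD2_c23 LD3_c43) (LK LD1_c10 LD2_c37 LD3_c59) Lrfl Lrfl
theorem f218592 : Led Lsl_bt (LP (LK LD1_c10 LD2_c37 LD3_c59)) = (LP (LK LD1_c17 LD2_c52 LD3_c19)) :=
  Lgr Lrot128 (Lpe (f217764 IH) (Lpe (f218394 IH) (Lpr_cf (K15.f218384 IH) (Lpe (f41243 IH) (Lpe (f41244 IH) (Lpn (LP (LK LD1_c17 LD2_c52 LD3_c19))))))))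
theorem f223799 : Led Lsl_bt (LP (LK LD1_c10 LD2_c31 LD3_c2)) = (LP (LK LD1_c5 LD2_c20 LD3_c31)) :=
  Lre_b IH (LK LD1_c10 LD2_c31 LD3_c2) (LK LD1_c5 LD2_c20 LD3_c31) Lrfl Lrfl
theorem f224544 : Led Lsl_ct (LP (LK LD1_c19 LD2_c3 LD3_c44)) = (LP (LK LD1_c10 LD2_c31 LD3_c2)) :=
  Lre_c IH (LK LD1_c19 LD2_c3 LD3_c44) (LK LD1_c10 LD2_c31 LD3_c2) Lrfl Lrfl
theorem f224650 : Led Lsl_bf (LP (LK LD1_c19 LD2_c3 LD3_c44)) = (LP (LK LD1_c27 LD2_c35 LD3_c53)) :=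
  Lgr Lrot90 (Lpr_ct (f224544 IH) (Lpr_bt (f223799 IH) (Lpr_ct (K12.f224646 IH) (Lpr_bt (f224649 IH) (Lpr_ct (f218778 IH) (Lpn (LP (LK LD1_c27 LD2_c35 LD3_c53))))))))
theorem f312719 : Led Lsl_ff (LP (LK LD1_c10 LD2_c37 LD3_c59)) = (LP (LK LD1_c19 LD2_c3 LD3_c44)) :=
  Lgr Lrot25 (Lpr_bt (f218592 IH) (Lpr_ft (f312717 IH) (Lpe (f224650 IH) (Lpn (LP (LK LD1_c19 LD2_c3 LD3_c44))))))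
theorem f218613 : Led Lsl_at (LP (LK LD1_c10 LD2_c37 LD3_c59)) = (LP (LK LD1_c19 LD2_c15 LD3_c23)) :=
  Lre_a IH (LK LD1_c10 LD2_c37 LD3_c59) (LK LD1_c19 LD2_c15 LD3_c23) Lrfl Lrfl
theorem f312725 : Led Lsl_ct (LP (LK LD1_c10 LD2_c37 LD3_c55)) = (LP (LK LD1_c19 LD2_c15 LD3_c23)) :=
  Lre_c IH (LK LD1_c10 LD2_c37 LD3_c55) (LK LD1_c19 LD2_c15 LD3_c23) Lrfl Lrfl
theorem f312726 : Led Lsl_dt (LP (LK LD1_c5 LD2_c23 LD3_c42)) = (LP (LK LD1_c10 LD2_c37 LD3_c55)) :=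
  Lre_d IH (LK LD1_c5 LD2_c23 LD3_c42) (LK LD1_c10 LD2_c37 LD3_c55) Lrfl Lrfl
theorem f312727 : Led Lsl_dt (LP (LK LD1_c19 LD2_c14 LD3_c37)) = (LP (LK LD1_c10 LD2_c37 LD3_c25)) :=
  Lre_d IH (LK LD1_c19 LD2_c14 LD3_c37) (LK LD1_c10 LD2_c37 LD3_c25) Lrfl Lrfl
theorem f312728 : Led Lsl_ct (LP (LK LD1_c28 LD2_c40 LD3_c61)) = (LP (LK LD1_c19 LD2_c14 LD3_c37)) :=
  Lre_c IH (LK LD1_c28 LD2_c40 LD3_c61) (LK LD1_c19 LD2_c14 LD3_c37) Lrfl Lrfl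
theorem f224833 : Led Lsl_dt (LP (LK LD1_c19 LD2_c3 LD3_c44)) = (LP (LK LD1_c28 LD2_c29 LD3_c55)) :=
  Lre_d IH (LK LD1_c19 LD2_c3 LD3_c44) (LK LD1_c28 LD2_c29 LD3_c55) Lrfl Lrfl
theorem f235662 : Led Lsl_ct (LP (LK LD1_c28 LD2_c29 LD3_c55)) = (LP (LK LD1_c32 LD2_c35 LD3_c24)) :=
  Lre_c IH (LK LD1_c28 LD2_c29 LD3_c55) (LK LD1_c32 LD2_c35 LD3_c24) Lrfl Lrfl
theorem f312729 : Led Lsl_df (LP (LK LD1_c28 LD2_c40 LD3_c61)) = (LP (LK LD1_c32 LD2_c35 LD3_c24)) :=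
  Lgr Lrot106 (Lpr_ct (f312728 IH) (Lpr_dt (f312727 IH) (Lpr_ct (f303291 IH) (Lpr_dt (f312726 IH) (Lpr_ct (f312725 IH) (Lpe (f218613 IH) (Lpr_ff (f312719 IH) (Lpr_dt (f224833 IH) (Lpr_ct (f235662 IH) (Lpn (LP (LK LD1_c32 LD2_c35 LD3_c24))))))))))))
theorem f312741 : Led Lsl_at (LP (LK LD1_c2 LD2_c38 LD3_c24)) = (LP (LK LD1_c5 LD2_c23 LD3_c42)) :=
  Lre_a IH (LK LD1_c2 LD2_c38 LD3_c24) (LK LD1_c5 LD2_c23 LD3_c42) Lrfl Lrfl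
theorem f223800 : Led Lsl_ct (LP (LK LD1_c10 LD2_c31 LD3_c2)) = (LP (LK LD1_c19 LD2_c3 LD3_c44)) :=
  Lre_c IH (LK LD1_c10 LD2_c31 LD3_c2) (LK LD1_c19 LD2_c3 LD3_c44) Lrfl Lrfl
theorem f224831 : Led Lsl_dt (LP (LK LD1_c5 LD2_c20 LD3_c30)) = (LP (LK LD1_c10 LD2_c31 LD3_c2)) :=
  Lre_d IH (LK LD1_c5 LD2_c20 LD3_c30) (LK LD1_c10 LD2_c31 LD3_c2) Lrfl Lrfl
theorem f312742 : Led Lsl_ff (LP (LK LD1_c2 LD2_c38 LD3_c24)) = (LP (LK LD1_c5 LD2_c20 LD3_c30)) :=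
  Lgr Lrot103 (Lpr_at (f312741 IH) (Lpe (f303291 IH) (Lpe (f312727 IH) (Lpe (f312728 IH) (Lpr_df (f312729 IH) (Lpe (f235662 IH) (Lpe (f224833 IH) (Lpe (f223800 IH) (Lpe (f224831 IH) (Lpn (LP (LK LD1_c5 LD2_c20 LD3_c30))))))))))))
theorem f235663 : Led Lsl_at (LP (LK LD1_c10 LD2_c31 LD3_c1)) = (LP (LK LD1_c5 LD2_c20 LD3_c30)) :=
  Lre_a IH (LK LD1_c10 LD2_c31 LD3_c1) (LK LD1_c5 LD2_c20 LD3_c30) Lrfl Lrfl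
theorem f312746 : Led Lsl_ft (LP (LK LD1_c5 LD2_c23 LD3_c42)) = (LP (LK LD1_c10 LD2_c31 LD3_c1)) :=
  Lgr Lrot101 (Lpe (f312741 IH) (Lpr_ff (f312742 IH) (Lpe (f235663 IH) (Lpn (LP (LK LD1_c10 LD2_c31 LD3_c1))))))
theorem f187032 : Led Lsl_gt (LP (LK LD1_c10 LD2_c31 LD3_c0)) = (LP (LK LD1_c5 LD2_c20 LD3_c30)) :=
  Lre_g IH (LK LD1_c10 LD2_c31 LD3_c0) (LK LD1_c5 LD2_c20 LD3_c30) Lrfl Lrfl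
theorem f312884 : Led Lsl_gt (LP (LK LD1_c5 LD2_c23 LD3_c42)) = (LP (LK LD1_c10 LD2_c31 LD3_c0)) :=
  Lgr Lrot5 (Lpr_ft (f312746 IH) (Lpr_at (f235663 IH) (Lpe (f187032 IH) (Lpn (LP (LK LD1_c10 LD2_c31 LD3_c0))))))
theorem f212540 : Led Lsl_ct (LP (LK LD1_c4 LD2_c31 LD3_c21)) = (LP (LK LD1_c2 LD2_c12 LD3_c39)) :=
  Lre_c IH (LK LD1_c4 LD2_c31 LD3_c21) (LK LD1_c2 LD2_c12 LD3_c39) Lrfl Lrfl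
theorem f293420 : Led Lsl_gf (LP (LK LD1_c4 LD2_c31 LD3_c21)) = (LP (LK LD1_c5 LD2_c20 LD3_c25)) :=
  Lgr Lrot104 (Lpr_ct (f212540 IH) (Lpr_df (K15.f238070 IH) (Lpe (K15.f235744 IH) (Lpe (K15.f265036 IH) (Lpr_cf (K10.f194597 IH) (Lpe (K17.f194425 IH) (Lpr_df (f293385 IH) (Lpe (K16.f277900 IH) (Lpr_ct (K12.f172012 IH) (Lpn (LP (LK LD1_c5 LD2_c20 LD3_c25))))))))))))
theorem f293429 : Led Lsl_bt (LP (LK LD1_c2 LD2_c12 LD3_c40)) = (LP (LK LD1_c4 LD2_c31 LD3_c25)) :=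
  Lre_b IH (LK LD1_c2 LD2_c12 LD3_c40) (LK LD1_c4 LD2_c31 LD3_c25) Lrfl Lrfl
theorem f293430 : Led Lsl_gt (LP (LK LD1_c4 LD2_c31 LD3_c25)) = (LP (LK LD1_c9 LD2_c0 LD3_c47)) :=
  Lre_g IH (LK LD1_c4 LD2_c31 LD3_c25) (LK LD1_c9 LD2_c0 LD3_c47) Lrfl Lrfl
theorem f293431 : Led Lsl_bt (LP (LK LD1_c16 LD2_c50 LD3_c31)) = (LP (LK LD1_c9 LD2_c0 LD3_c47)) :=
  Lre_b IH (LK LD1_c16 LD2_c50 LD3_c31) (LK LD1_c9 LD2_c0 LD3_c47) Lrfl Lrfl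
theorem f187046 : Led Lsl_bt (LP (LK LD1_c10 LD2_c30 LD3_c53)) = (LP (LK LD1_c5 LD2_c20 LD3_c25)) :=
  Lre_b IH (LK LD1_c10 LD2_c30 LD3_c53) (LK LD1_c5 LD2_c20 LD3_c25) Lrfl Lrfl
theorem f187047 : Led Lsl_ct (LP (LK LD1_c10 LD2_c30 LD3_c53)) = (LP (LK LD1_c5 LD2_c20 LD3_c30)) :=
  Lre_c IH (LK LD1_c10 LD2_c30 LD3_c53) (LK LD1_c5 LD2_c20 LD3_c30) Lrfl Lrfl
theorem f293432 : Led Lsl_ct (LP (LK LD1_c16 LD2_c50 LD3_c31)) = (LP (LK LD1_c10 LD2_c31 LD3_c0)) :=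
  Lgr Lrot64 (Lpr_bt (f293431 IH) (Lpe (f293430 IH) (Lpe (f293429 IH) (Lpr_ct (K13.f175036 IH) (Lpe (K15.f177914 IH) (Lpe (f212540 IH) (Lpr_gf (f293420 IH) (Lpe (f187046 IH) (Lpr_ct (f187047 IH) (Lpe (f187032 IH) (Lpn (LP (LK LD1_c10 LD2_c31 LD3_c0)))))))))))))
theorem f312999 : Led Lsl_gf (LP (LK LD1_c5 LD2_c35 LD3_c46)) = (LP (LK LD1_c9 LD2_c0 LD3_c47)) :=
  Lgr Lrot181 (Lpr_ct (f199440 IH) (Lpr_gt (f312992 IH) (Lpe (f303277 IH) (Lpr_bt (f303278 IH) (Lpr_gt (f303283 IH) (Lpe (f303290 IH) (Lpr_ct (f303291 IH) (Lpr_gt (f312884 IH) (Lpe (f293432 IH) (Lpr_bt (f293431 IH) (Lpn (LP (LK LD1_c9 LD2_c0 LD3_c47)))))))))))))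
theorem f226618 : Led Lsl_at (LP (LK LD1_c2 LD2_c43 LD3_c47)) = (LP (LK LD1_c5 LD2_c35 LD3_c46)) :=
  Lre_a IH (LK LD1_c2 LD2_c43 LD3_c47) (LK LD1_c5 LD2_c35 LD3_c46) Lrfl Lrfl
theorem f313002 : Led Lsl_ff (LP (LK LD1_c2 LD2_c43 LD3_c47)) = (LP (LK LD1_c4 LD2_c31 LD3_c25)) :=
  Lgr Lrot52 (Lpr_at (f226618 IH) (Lpr_gf (f312999 IH) (Lpe (f293430 IH) (Lpn (LP (LK LD1_c4 LD2_c31 LD3_c25))))))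
theorem f313017 : Led Lsl_ft (LP (LK LD1_c2 LD2_c43 LD3_c47)) = (LP (LK LD1_c4 LD2_c31 LD3_c25)) :=
  Lgr Lrot48 (Lpr_ff (f313002 IH) (Lpn (LP (LK LD1_c4 LD2_c31 LD3_c25))))
theorem f226558 : Led Lsl_dt (LP (LK LD1_c5 LD2_c35 LD3_c47)) = (LP (LK LD1_c2 LD2_c43 LD3_c47)) :=
  Lre_d IH (LK LD1_c5 LD2_c35 LD3_c47) (LK LD1_c2 LD2_c43 LD3_c47) Lrfl Lrfl
theorem f313019 : Led Lsl_dt (LP (LK LD1_c4 LD2_c31 LD3_c25)) = (LP (LK LD1_c9 LD2_c0 LD3_c50)) :=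
  Lre_d IH (LK LD1_c4 LD2_c31 LD3_c25) (LK LD1_c9 LD2_c0 LD3_c50) Lrfl Lrfl
theorem f313028 : Led Lsl_ff (LP (LK LD1_c5 LD2_c35 LD3_c47)) = (LP (LK LD1_c9 LD2_c0 LD3_c50)) :=
  Lgr Lrot19 (Lpr_dt (f226558 IH) (Lpr_ft (f313017 IH) (Lpr_dt (f313019 IH) (Lpn (LP (LK LD1_c9 LD2_c0 LD3_c50))))))
theorem f278003 : Led Lsl_bt (LP (LK LD1_c5 LD2_c35 LD3_c47)) = (LP (LK LD1_c2 LD2_c43 LD3_c48)) :=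
  Lre_b IH (LK LD1_c5 LD2_c35 LD3_c47) (LK LD1_c2 LD2_c43 LD3_c48) Lrfl Lrfl
theorem f313046 : Led Lsl_bt (LP (LK LD1_c4 LD2_c31 LD3_c26)) = (LP (LK LD1_c9 LD2_c0 LD3_c50)) :=
  Lre_b IH (LK LD1_c4 LD2_c31 LD3_c26) (LK LD1_c9 LD2_c0 LD3_c50) Lrfl Lrfl
theorem f313047 : Led Lsl_ft (LP (LK LD1_c2 LD2_c43 LD3_c48)) = (LP (LK LD1_c4 LD2_c31 LD3_c26)) :=
  Lgr Lrot75 (Lpe (f278003 IH) (Lpr_ff (f313028 IH) (Lpe (f313046 IH) (Lpn (LP (LK LD1_c4 LD2_c31 LD3_c26))))))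
theorem f313064 : Led Lsl_ff (LP (LK LD1_c2 LD2_c43 LD3_c48)) = (LP (LK LD1_c4 LD2_c31 LD3_c26)) :=
  Lgr Lrot3 (Lpr_ft (f313047 IH) (Lpn (LP (LK LD1_c4 LD2_c31 LD3_c26))))
theorem f199385 : Led Lsl_at (LP (LK LD1_c2 LD2_c43 LD3_c48)) = (LP (LK LD1_c5 LD2_c35 LD3_c19)) :=
  Lre_a IH (LK LD1_c2 LD2_c43 LD3_c48) (LK LD1_c5 LD2_c35 LD3_c19) Lrfl Lrfl
theorem f313071 : Led Lsl_gf (LP (LK LD1_c5 LD2_c35 LD3_c19)) = (LP (LK LD1_c8 LD2_c39 LD3_c32)) :=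
  Lgr Lrot76 (Lpe (f199385 IH) (Lpr_ff (f313064 IH) (Lpe (K14.f235923 IH) (Lpn (LP (LK LD1_c8 LD2_c39 LD3_c32))))))
theorem f199391 : Led Lsl_ct (LP (LK LD1_c2 LD2_c43 LD3_c35)) = (LP (LK LD1_c1 LD2_c18 LD3_c12)) :=
  Lre_c IH (LK LD1_c2 LD2_c43 LD3_c35) (LK LD1_c1 LD2_c18 LD3_c12) Lrfl Lrfl
theorem f199338 : Led Lsl_dt (LP (LK LD1_c0 LD2_c36 LD3_c3)) = (LP (LK LD1_c1 LD2_c18 LD3_c12)) :=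
  Lre_d IH (LK LD1_c0 LD2_c36 LD3_c3) (LK LD1_c1 LD2_c18 LD3_c12) Lrfl Lrfl
theorem f313075 : Led Lsl_gf (LP (LK LD1_c0 LD2_c36 LD3_c3)) = (LP (LK LD1_c0 LD2_c33 LD3_c0)) :=
  Lgr Lrot143 (Lpr_dt (f199338 IH) (Lpe (f199391 IH) (Lpe (f199374 IH) (Lpr_gf (f313071 IH) (Lpe (K14.f31424 IH) (Lpr_gf (K13.f235208 IH) (Lpe (K13.f41083 IH) (Lpe (K13.f235105 IH) (Lpr_dt (K9.f33294 IH) (Lpn (LP (LK LD1_c0 LD2_c33 LD3_c0))))))))))))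
theorem f313090 : Led Lsl_dt (LP (LK LD1_c1 LD2_c18 LD3_c13)) = (LP (LK LD1_c2 LD2_c23 LD3_c8)) :=
  Lgr Lrot136 (Lpr_et (K15.f199544 IH) (Lpr_gf (f313075 IH) (Lpe (K13.f33291 IH) (Lpe (K0.f33289 IH) (Lpe (K0.f29150 IH) (Lpr_df (K0.f1667 IH) (Lpe (K0.f1607 IH) (Lpe (K9.f1613 IH) (Lpr_dt (K10.f1614 IH) (Lpe (K13.f3795 IH) (Lpn (LP (LK LD1_c2 LD2_c23 LD3_c8)))))))))))))
theorem f199562 : Led Lsl_gt (LP (LK LD1_c2 LD2_c43 LD3_c37)) = (LP (LK LD1_c1 LD2_c18 LD3_c13)) :=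
  Lre_g IH (LK LD1_c2 LD2_c43 LD3_c37) (LK LD1_c1 LD2_c18 LD3_c13) Lrfl Lrfl
theorem f313230 : Led Lsl_ef (LP (LK LD1_c2 LD2_c43 LD3_c37)) = (LP (LK LD1_c2 LD2_c12 LD3_c42)) :=
  Lgr Lrot167 (Lpr_gt (f199562 IH) (Lpr_dt (f313090 IH) (Lpr_gt (K13.f3795 IH) (Lpe (K10.f1614 IH) (Lpr_et (K9.f1613 IH) (Lpr_gt (K0.f1607 IH) (Lpe (K13.f1620 IH) (Lpr_dt (K1.f1920 IH) (Lpr_gt (K11.f2792 IH) (Lpe (K13.f238062 IH) (Lpn (LP (LK LD1_c2 LD2_c12 LD3_c42)))))))))))))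
theorem f199569 : Led Lsl_gt (LP (LK LD1_c1 LD2_c18 LD3_c21)) = (LP (LK LD1_c2 LD2_c43 LD3_c37)) :=
  Lre_g IH (LK LD1_c1 LD2_c18 LD3_c21) (LK LD1_c2 LD2_c43 LD3_c37) Lrfl Lrfl
theorem f313238 : Led Lsl_ef (LP (LK LD1_c1 LD2_c18 LD3_c21)) = (LP (LK LD1_c2 LD2_c3 LD3_c41)) :=
  Lgr Lrot114 (Lpr_gt (f199569 IH) (Lpr_ef (f313230 IH) (Lpr_dt (K13.f238062 IH) (Lpr_gt (K13.f1587 IH) (Lpe (K0.f1578 IH) (Lpe (K0.f1581 IH) (Lpr_gt (K9.f1597 IH) (Lpr_dt (K13.f1598 IH) (Lpr_gt (K15.f238037 IH) (Lpr_df (K18.f237901 IH) (Lpn (LP (LK LD1_c2 LD2_c3 LD3_c41)))))))))))))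
theorem f274684 : Led Lsl_df (LP (LK LD1_c2 LD2_c28 LD3_c17)) = (LP (LK LD1_c2 LD2_c23 LD3_c7)) :=
  Lgr Lrot43 (Lpr_ct (K15.f3735 IH) (Lpr_dt (K15.f3751 IH) (Lpr_ct (K15.f252769 IH) (Lpr_dt (K15.f246831 IH) (Lpr_ct (K15.f3690 IH) (Lpe (K16.f246826 IH) (Lpe (K15.f205059 IH) (Lpr_dt (K14.f246821 IH) (Lpr_ct (K15.f3689 IH) (Lpr_dt (K15.f246825 IH) (Lpe (K15.f252773 IH) (Lpr_dt (K15.f3750 IH) (Lpr_ct (K15.f3749 IH) (Lpr_dt (K16.f274673 IH) (Lpe (K17.f265627 IH) (Lpn (LP (LK LD1_c2 LD2_c23 LD3_c7))))))))))))))))))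
theorem f252751 : Led Lsl_et (LP (LK LD1_c0 LD2_c33 LD3_c5)) = (LP (LK LD1_c1 LD2_c11 LD3_c27)) :=
  Lre_e IH (LK LD1_c0 LD2_c33 LD3_c5) (LK LD1_c1 LD2_c11 LD3_c27) Lrfl Lrfl
theorem f313246 : Led Lsl_gf (LP (LK LD1_c1 LD2_c18 LD3_c21)) = (LP (LK LD1_c1 LD2_c11 LD3_c27)) :=
  Lgr Lrot141 (Lpr_ef (f313238 IH) (Lpe (K18.f237901 IH) (Lpr_gt (K18.f299283 IH) (Lpe (K13.f271 IH) (Lpr_et (K15.f199201 IH) (Lpr_gt (K17.f274669 IH) (Lpe (f274684 IH) (Lpe (K15.f252717 IH) (Lpe (K14.f3732 IH) (Lpr_et (f252751 IH) (Lpn (LP (LK LD1_c1 LD2_c11 LD3_c27)))))))))))))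
theorem f199563 : Led Lsl_bt (LP (LK LD1_c0 LD2_c36 LD3_c12)) = (LP (LK LD1_c1 LD2_c18 LD3_c21)) :=
  Lre_b IH (LK LD1_c0 LD2_c36 LD3_c12) (LK LD1_c1 LD2_c18 LD3_c21) Lrfl Lrfl
theorem f199566 : Led Lsl_ct (LP (LK LD1_c0 LD2_c36 LD3_c12)) = (LP (LK LD1_c0 LD2_c16 LD3_c13)) :=
  Lre_c IH (LK LD1_c0 LD2_c36 LD3_c12) (LK LD1_c0 LD2_c16 LD3_c13) Lrfl Lrfl
theorem f275269 : Led Lsl_bt (LP (LK LD1_c1 LD2_c2 LD3_c47)) = (LP (LK LD1_c2 LD2_c11 LD3_c7)) :=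
  Lgr Lrot92 (Lpe (K13.f183330 IH) (Lpr_gt (K9.f20672 IH) (Lpe (K9.f20659 IH) (Lpr_bt (K11.f194208 IH) (Lpe (K12.f225638 IH) (Lpe (K12.f195696 IH) (Lpe (K14.f255128 IH) (Lpe (K12.f199153 IH) (Lpr_bt (K12.f199163 IH) (Lpr_gt (K16.f275252 IH) (Lpn (LP (LK LD1_c2 LD2_c11 LD3_c7)))))))))))))
theorem f313252 : Led Lsl_gt (LP (LK LD1_c0 LD2_c16 LD3_c13)) = (LP (LK LD1_c0 LD2_c28 LD3_c53)) :=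
  Lgr Lrot65 (Lpe (f199566 IH) (Lpr_bt (f199563 IH) (Lpr_gf (f313246 IH) (Lpe (K14.f252670 IH) (Lpr_ct (K14.f252673 IH) (Lpe (K16.f254272 IH) (Lpr_cf (K14.f253408 IH) (Lpe (K16.f253423 IH) (Lpe (f275269 IH) (Lpe (K13.f183330 IH) (Lpn (LP (LK LD1_c0 LD2_c28 LD3_c53)))))))))))))
theorem f313274 : Led Lsl_ef (LP (LK LD1_c0 LD2_c16 LD3_c13)) = (LP (LK LD1_c0 LD2_c28 LD3_c59)) :=
  Lgr Lrot167 (Lpr_gt (f313252 IH) (Lpr_dt (K9.f20680 IH) (Lpr_gt (K9.f164686 IH) (Lpe (K9.f8385 IH) (Lpe (K9.f9499 IH) (Lpe (K9.f178869 IH) (Lpe (K9.f20689 IH) (Lpr_dt (K9.f2140 IH) (Lpr_gt (K9.f179015 IH) (Lpe (K9.f20594 IH) (Lpn (LP (LK LD1_c0 LD2_c28 LD3_c59)))))))))))))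
theorem f199548 : Led Lsl_at (LP (LK LD1_c2 LD2_c43 LD3_c38)) = (LP (LK LD1_c1 LD2_c18 LD3_c21)) :=
  Lre_a IH (LK LD1_c2 LD2_c43 LD3_c38) (LK LD1_c1 LD2_c18 LD3_c21) Lrfl Lrfl
theorem f199553 : Led Lsl_ct (LP (LK LD1_c1 LD2_c18 LD3_c21)) = (LP (LK LD1_c1 LD2_c18 LD3_c21)) :=
  Lgr Lrot111 (Lpe (f199548 IH) (Lpr_cf (K15.f199549 IH) (Lpe (K15.f199552 IH) (Lpn (LP (LK LD1_c1 LD2_c18 LD3_c21))))))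
theorem f199564 : Led Lsl_ct (LP (LK LD1_c0 LD2_c16 LD3_c13)) = (LP (LK LD1_c0 LD2_c36 LD3_c12)) :=
  Lre_c IH (LK LD1_c0 LD2_c16 LD3_c13) (LK LD1_c0 LD2_c36 LD3_c12) Lrfl Lrfl
theorem f199565 : Led Lsl_bt (LP (LK LD1_c1 LD2_c18 LD3_c21)) = (LP (LK LD1_c0 LD2_c36 LD3_c12)) :=
  Lre_b IH (LK LD1_c1 LD2_c18 LD3_c21) (LK LD1_c0 LD2_c36 LD3_c12) Lrfl Lrfl
theorem f199567 : Led Lsl_bf (LP (LK LD1_c0 LD2_c16 LD3_c13)) = (LP (LK LD1_c0 LD2_c16 LD3_c13)) :=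
  Lgr Lrot90 (Lpr_ct (f199564 IH) (Lpr_bt (f199563 IH) (Lpr_ct (f199553 IH) (Lpr_bt (f199565 IH) (Lpr_ct (f199566 IH) (Lpn (LP (LK LD1_c0 LD2_c16 LD3_c13))))))))
theorem f313276 : Led Lsl_et (LP (LK LD1_c0 LD2_c16 LD3_c13)) = (LP (LK LD1_c0 LD2_c28 LD3_c59)) :=
  Lgr Lrot74 (Lpr_bf (f199567 IH) (Lpr_ef (f313274 IH) (Lpr_bf (K11.f177903 IH) (Lpn (LP (LK LD1_c0 LD2_c28 LD3_c59))))))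
theorem f313278 : Led Lsl_ef (LP (LK LD1_c0 LD2_c36 LD3_c12)) = (LP (LK LD1_c0 LD2_c58 LD3_c49)) :=
  Lgr Lrot28 (Lpr_ct (f199566 IH) (Lpr_et (f313276 IH) (Lpe (K11.f201331 IH) (Lpn (LP (LK LD1_c0 LD2_c58 LD3_c49))))))
theorem f237796 : Led Lsl_dt (LP (LK LD1_c1 LD2_c0 LD3_c20)) = (LP (LK LD1_c0 LD2_c58 LD3_c49)) :=
  Lgr Lrot6 (Lpr_gt (K13.f171490 IH) (Lpr_ct (K13.f171192 IH) (Lpr_gt (K13.f237792 IH) (Lpr_ct (K13.f167648 IH) (Lpr_df (K9.f167635 IH) (Lpe (K13.f167762 IH) (Lpr_gf (K13.f179531 IH) (Lpe (K13.f51578 IH) (Lpe (K13.f201338 IH) (Lpn (LP (LK LD1_c0 LD2_c58 LD3_c49))))))))))))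
theorem f171491 : Led Lsl_et (LP (LK LD1_c2 LD2_c6 LD3_c47)) = (LP (LK LD1_c1 LD2_c0 LD3_c20)) :=
  Lre_e IH (LK LD1_c2 LD2_c6 LD3_c47) (LK LD1_c1 LD2_c0 LD3_c20) Lrfl Lrfl
theorem f237978 : Led Lsl_et (LP (LK LD1_c0 LD2_c56 LD3_c52)) = (LP (LK LD1_c1 LD2_c59 LD3_c56)) :=
  Lre_e IH (LK LD1_c0 LD2_c56 LD3_c52) (LK LD1_c1 LD2_c59 LD3_c56) Lrfl Lrfl
theorem f313280 : Led Lsl_dt (LP (LK LD1_c0 LD2_c36 LD3_c12)) = (LP (LK LD1_c0 LD2_c56 LD3_c52)) :=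
  Lgr Lrot77 (Lpr_ef (f313278 IH) (Lpe (f237796 IH) (Lpe (f171491 IH) (Lpr_df (K17.f237969 IH) (Lpe (f237978 IH) (Lpn (LP (LK LD1_c0 LD2_c56 LD3_c52))))))))
theorem f313282 : Led Lsl_ft (LP (LK LD1_c0 LD2_c36 LD3_c12)) = (LP (LK LD1_c0 LD2_c16 LD3_c6)) :=
  Lre_f IH (LK LD1_c0 LD2_c36 LD3_c12) (LK LD1_c0 LD2_c16 LD3_c6) Lrfl Lrfl
theorem f313287 : Led Lsl_at (LP (LK LD1_c0 LD2_c16 LD3_c6)) = (LP (LK LD1_c0 LD2_c28 LD3_c48)) :=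
  Lgr Lrot33 (Lpe (f313282 IH) (Lpr_dt (f313280 IH) (Lpr_ct (K11.f198814 IH) (Lpr_dt (K11.f177410 IH) (Lpr_ct (K11.f177411 IH) (Lpr_dt (K11.f20674 IH) (Lpr_ct (K9.f20673 IH) (Lpe (K9.f20662 IH) (Lpr_ct (K11.f20708 IH) (Lpn (LP (LK LD1_c0 LD2_c28 LD3_c48))))))))))))
theorem f313299 : Led Lsl_af (LP (LK LD1_c0 LD2_c36 LD3_c12)) = (LP (LK LD1_c1 LD2_c3 LD3_c11)) :=
  Lgr Lrot45 (Lpr_ft (f313282 IH) (Lpr_at (f313287 IH) (Lpr_ft (K11.f167870 IH) (Lpn (LP (LK LD1_c1 LD2_c3 LD3_c11))))))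
theorem f313240 : Led Lsl_et (LP (LK LD1_c0 LD2_c36 LD3_c12)) = (LP (LK LD1_c0 LD2_c58 LD3_c49)) :=
  Lgr Lrot74 (Lpe (f199565 IH) (Lpr_ef (f313238 IH) (Lpe (K13.f179115 IH) (Lpn (LP (LK LD1_c0 LD2_c58 LD3_c49))))))
theorem f178407 : Led Lsl_ft (LP (LK LD1_c0 LD2_c16 LD3_c19)) = (LP (LK LD1_c0 LD2_c36 LD3_c37)) :=
  Lre_f IH (LK LD1_c0 LD2_c16 LD3_c19) (LK LD1_c0 LD2_c36 LD3_c37) Lrfl Lrfl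
theorem f201336 : Led Lsl_af (LP (LK LD1_c0 LD2_c58 LD3_c49)) = (LP (LK LD1_c0 LD2_c36 LD3_c37)) :=
  Lgr Lrot109 (Lpr_cf (K11.f201331 IH) (Lpe (K9.f6848 IH) (Lpe (K9.f21243 IH) (Lpe (K9.f166990 IH) (Lpe (K9.f166481 IH) (Lpr_df (K9.f178394 IH) (Lpe (K9.f170074 IH) (Lpe (K9.f170073 IH) (Lpr_ft (f178407 IH) (Lpn (LP (LK LD1_c0 LD2_c36 LD3_c37))))))))))))
theorem f201340 : Led Lsl_at (LP (LK LD1_c0 LD2_c58 LD3_c49)) = (LP (LK LD1_c0 LD2_c36 LD3_c37)) :=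
  Lgr Lrot100 (Lpr_af (f201336 IH) (Lpn (LP (LK LD1_c0 LD2_c36 LD3_c37))))
theorem f313305 : Led Lsl_et (LP (LK LD1_c0 LD2_c36 LD3_c37)) = (LP (LK LD1_c1 LD2_c3 LD3_c11)) :=
  Lgr Lrot123 (Lpe (f201340 IH) (Lpe (f313240 IH) (Lpr_af (f313299 IH) (Lpn (LP (LK LD1_c1 LD2_c3 LD3_c11))))))
theorem f167869 : Led Lsl_ft (LP (LK LD1_c1 LD2_c3 LD3_c11)) = (LP (LK LD1_c0 LD2_c28 LD3_c48)) :=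
  Lre_f IH (LK LD1_c1 LD2_c3 LD3_c11) (LK LD1_c0 LD2_c28 LD3_c48) Lrfl Lrfl
theorem f313311 : Led Lsl_ff (LP (LK LD1_c0 LD2_c7 LD3_c18)) = (LP (LK LD1_c0 LD2_c12 LD3_c43)) :=
  Lgr Lrot72 (Lpr_et (K9.f170083 IH) (Lpr_ft (f178407 IH) (Lpr_et (f313305 IH) (Lpr_ft (f167869 IH) (Lpr_et (K9.f167858 IH) (Lpn (LP (LK LD1_c0 LD2_c12 LD3_c43))))))))
theorem f313321 : Led Lsl_at (LP (LK LD1_c0 LD2_c7 LD3_c18)) = (LP (LK LD1_c0 LD2_c12 LD3_c46)) :=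
  Lgr Lrot26 (Lpr_ff (f313311 IH) (Lpe (K9.f167835 IH) (Lpr_gt (K9.f181948 IH) (Lpn (LP (LK LD1_c0 LD2_c12 LD3_c46))))))
theorem f175046 : Led Lsl_et (LP (LK LD1_c0 LD2_c12 LD3_c46)) = (LP (LK LD1_c0 LD2_c28 LD3_c57)) :=
  Lre_e IH (LK LD1_c0 LD2_c12 LD3_c46) (LK LD1_c0 LD2_c28 LD3_c57) Lrfl Lrfl
theorem f313329 : Led Lsl_af (LP (LK LD1_c0 LD2_c16 LD3_c19)) = (LP (LK LD1_c0 LD2_c28 LD3_c57)) :=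
  Lgr Lrot50 (Lpr_et (K9.f171199 IH) (Lpr_at (f313321 IH) (Lpr_et (f175046 IH) (Lpn (LP (LK LD1_c0 LD2_c28 LD3_c57))))))
theorem f313339 : Led Lsl_ft (LP (LK LD1_c0 LD2_c58 LD3_c49)) = (LP (LK LD1_c0 LD2_c28 LD3_c57)) :=
  Lgr Lrot101 (Lpr_af (f201336 IH) (Lpe (f178407 IH) (Lpr_af (f313329 IH) (Lpn (LP (LK LD1_c0 LD2_c28 LD3_c57))))))
theorem f313349 : Led Lsl_ff (LP (LK LD1_c0 LD2_c58 LD3_c49)) = (LP (LK LD1_c0 LD2_c28 LD3_c57)) :=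
  Lgr Lrot3 (Lpr_ft (f313339 IH) (Lpn (LP (LK LD1_c0 LD2_c28 LD3_c57))))
theorem f313361 : Led Lsl_cf (LP (LK LD1_c0 LD2_c36 LD3_c37)) = (LP (LK LD1_c0 LD2_c16 LD3_c22)) :=
  Lgr Lrot102 (Lpe (f201340 IH) (Lpr_ff (f313349 IH) (Lpe (K9.f181939 IH) (Lpr_ct (K9.f166472 IH) (Lpr_dt (K9.f178387 IH) (Lpr_ct (K9.f170075 IH) (Lpr_dt (K9.f170079 IH) (Lpr_ct (K9.f165220 IH) (Lpr_dt (K9.f9488 IH) (Lpn (LP (LK LD1_c0 LD2_c16 LD3_c22))))))))))))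
theorem f313359 : Led Lsl_gf (LP (LK LD1_c0 LD2_c36 LD3_c37)) = (LP (LK LD1_c0 LD2_c27 LD3_c27)) :=
  Lgr Lrot76 (Lpe (f201340 IH) (Lpr_ff (f313349 IH) (Lpe (K9.f179017 IH) (Lpn (LP (LK LD1_c0 LD2_c27 LD3_c27))))))
theorem f237388 : Led Lsl_bt (LP (LK LD1_c0 LD2_c16 LD3_c22)) = (LP (LK LD1_c0 LD2_c36 LD3_c30)) :=
  Lre_b IH (LK LD1_c0 LD2_c16 LD3_c22) (LK LD1_c0 LD2_c36 LD3_c30) Lrfl Lrfl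
theorem f313379 : Led Lsl_gf (LP (LK LD1_c0 LD2_c31 LD3_c49)) = (LP (LK LD1_c0 LD2_c36 LD3_c30)) :=
  Lgr Lrot124 (Lpr_bf (K11.f211238 IH) (Lpe (K12.f211244 IH) (Lpr_gt (K11.f211270 IH) (Lpe (K12.f168329 IH) (Lpr_bt (K12.f168314 IH) (Lpr_gt (K9.f179111 IH) (Lpr_ct (K14.f6824 IH) (Lpe (f313359 IH) (Lpr_cf (f313361 IH) (Lpr_bt (f237388 IH) (Lpn (LP (LK LD1_c0 LD2_c36 LD3_c30)))))))))))))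
theorem f197407 : Led Lsl_et (LP (LK LD1_c0 LD2_c14 LD3_c9)) = (LP (LK LD1_c0 LD2_c31 LD3_c50)) :=
  Lre_e IH (LK LD1_c0 LD2_c14 LD3_c9) (LK LD1_c0 LD2_c31 LD3_c50) Lrfl Lrfl
theorem f197384 : Led Lsl_dt (LP (LK LD1_c0 LD2_c16 LD3_c16)) = (LP (LK LD1_c0 LD2_c36 LD3_c30)) :=
  Lre_d IH (LK LD1_c0 LD2_c16 LD3_c16) (LK LD1_c0 LD2_c36 LD3_c30) Lrfl Lrfl
theorem f197383 : Led Lsl_et (LP (LK LD1_c0 LD2_c16 LD3_c16)) = (LP (LK LD1_c0 LD2_c7 LD3_c17)) :=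
  Lre_e IH (LK LD1_c0 LD2_c16 LD3_c16) (LK LD1_c0 LD2_c7 LD3_c17) Lrfl Lrfl
theorem f193676 : Led Lsl_ct (LP (LK LD1_c1 LD2_c3 LD3_c27)) = (LP (LK LD1_c0 LD2_c28 LD3_c60)) :=
  Lre_c IH (LK LD1_c1 LD2_c3 LD3_c27) (LK LD1_c0 LD2_c28 LD3_c60) Lrfl Lrfl
theorem f197797 : Led Lsl_gf (LP (LK LD1_c0 LD2_c36 LD3_c25)) = (LP (LK LD1_c0 LD2_c28 LD3_c60)) :=
  Lgr Lrot104 (Lpr_ct (K10.f196275 IH) (Lpe (K13.f197389 IH) (Lpe (K8.f2966 IH) (Lpr_gf (K10.f193679 IH) (Lpe (K13.f193681 IH) (Lpr_gf (K10.f197412 IH) (Lpe (K13.f197389 IH) (Lpr_gt (K10.f193674 IH) (Lpr_ct (f193676 IH) (Lpn (LP (LK LD1_c0 LD2_c28 LD3_c60))))))))))))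
theorem f313385 : Led Lsl_gt (LP (LK LD1_c0 LD2_c31 LD3_c50)) = (LP (LK LD1_c1 LD2_c3 LD3_c28)) :=
  Lgr Lrot137 (Lpe (f197407 IH) (Lpr_dt (K13.f3082 IH) (Lpr_gf (f313379 IH) (Lpe (f197384 IH) (Lpr_et (f197383 IH) (Lpe (K10.f171762 IH) (Lpr_ef (K10.f197378 IH) (Lpr_dt (K10.f196270 IH) (Lpr_gf (f197797 IH) (Lpe (K13.f193677 IH) (Lpn (LP (LK LD1_c1 LD2_c3 LD3_c28)))))))))))))
theorem f313392 : Led Lsl_bf (LP (LK LD1_c0 LD2_c31 LD3_c50)) = (LP (LK LD1_c0 LD2_c55 LD3_c35)) :=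
  Lgr Lrot156 (Lpr_gt (f313385 IH) (Lpe (K16.f21246 IH) (Lpr_ct (K9.f181794 IH) (Lpr_gt (K15.f253544 IH) (Lpe (K14.f253534 IH) (Lpr_bt (K14.f253562 IH) (Lpe (K17.f255093 IH) (Lpe (K13.f229251 IH) (Lpr_gt (K12.f165224 IH) (Lpr_cf (K11.f182185 IH) (Lpn (LP (LK LD1_c0 LD2_c55 LD3_c35)))))))))))))
theorem f313387 : Led Lsl_ft (LP (LK LD1_c0 LD2_c31 LD3_c50)) = (LP (LK LD1_c1 LD2_c9 LD3_c17)) :=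
  Lre_f IH (LK LD1_c0 LD2_c31 LD3_c50) (LK LD1_c1 LD2_c9 LD3_c17) Lrfl Lrfl
theorem f196994 : Led Lsl_ft (LP (LK LD1_c1 LD2_c57 LD3_c28)) = (LP (LK LD1_c0 LD2_c55 LD3_c35)) :=
  Lre_f IH (LK LD1_c1 LD2_c57 LD3_c28) (LK LD1_c0 LD2_c55 LD3_c35) Lrfl Lrfl
theorem f313398 : Led Lsl_bt (LP (LK LD1_c1 LD2_c9 LD3_c17)) = (LP (LK LD1_c1 LD2_c57 LD3_c28)) :=
  Lgr Lrot35 (Lpe (f313387 IH) (Lpr_bf (f313392 IH) (Lpe (f196994 IH) (Lpn (LP (LK LD1_c1 LD2_c57 LD3_c28))))))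
theorem f196985 : Led Lsl_ft (LP (LK LD1_c0 LD2_c55 LD3_c35)) = (LP (LK LD1_c1 LD2_c57 LD3_c28)) :=
  Lre_f IH (LK LD1_c0 LD2_c55 LD3_c35) (LK LD1_c1 LD2_c57 LD3_c28) Lrfl Lrfl
theorem f196986 : Led Lsl_ft (LP (LK LD1_c1 LD2_c19 LD3_c12)) = (LP (LK LD1_c0 LD2_c36 LD3_c33)) :=
  Lre_f IH (LK LD1_c1 LD2_c19 LD3_c12) (LK LD1_c0 LD2_c36 LD3_c33) Lrfl Lrfl
theorem f196987 : Led Lsl_ct (LP (LK LD1_c1 LD2_c57 LD3_c28)) = (LP (LK LD1_c1 LD2_c19 LD3_c12)) :=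
  Lgr Lrot40 (Lpe (f196985 IH) (Lpr_cf (K12.f196960 IH) (Lpe (f196986 IH) (Lpn (LP (LK LD1_c1 LD2_c19 LD3_c12))))))
theorem f196990 : Led Lsl_bt (LP (LK LD1_c1 LD2_c19 LD3_c12)) = (LP (LK LD1_c0 LD2_c36 LD3_c37)) :=
  Lre_b IH (LK LD1_c1 LD2_c19 LD3_c12) (LK LD1_c0 LD2_c36 LD3_c37) Lrfl Lrfl
theorem f313365 : Led Lsl_ct (LP (LK LD1_c0 LD2_c36 LD3_c37)) = (LP (LK LD1_c0 LD2_c16 LD3_c22)) :=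
  Lgr Lrot59 (Lpr_cf (f313361 IH) (Lpn (LP (LK LD1_c0 LD2_c16 LD3_c22))))
theorem f313407 : Led Lsl_cf (LP (LK LD1_c1 LD2_c9 LD3_c17)) = (LP (LK LD1_c0 LD2_c36 LD3_c30)) :=
  Lgr Lrot97 (Lpr_bt (f313398 IH) (Lpr_ct (f196987 IH) (Lpr_bt (f196990 IH) (Lpr_ct (f313365 IH) (Lpr_bt (f237388 IH) (Lpn (LP (LK LD1_c0 LD2_c36 LD3_c30))))))))
theorem f179097 : Led Lsl_bt (LP (LK LD1_c0 LD2_c36 LD3_c30)) = (LP (LK LD1_c0 LD2_c16 LD3_c22)) :=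
  Lre_b IH (LK LD1_c0 LD2_c36 LD3_c30) (LK LD1_c0 LD2_c16 LD3_c22) Lrfl Lrfl
theorem f192343 : Led Lsl_bt (LP (LK LD1_c0 LD2_c11 LD3_c52)) = (LP (LK LD1_c0 LD2_c14 LD3_c3)) :=
  Lgr Lrot119 (Lpe (K9.f53177 IH) (Lpr_bf (K10.f192335 IH) (Lpe (K9.f179005 IH) (Lpn (LP (LK LD1_c0 LD2_c14 LD3_c3))))))
theorem f170077 : Led Lsl_bt (LP (LK LD1_c0 LD2_c7 LD3_c20)) = (LP (LK LD1_c0 LD2_c16 LD3_c16)) :=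
  Lre_b IH (LK LD1_c0 LD2_c7 LD3_c20) (LK LD1_c0 LD2_c16 LD3_c16) Lrfl Lrfl
theorem f197408 : Led Lsl_cf (LP (LK LD1_c0 LD2_c16 LD3_c16)) = (LP (LK LD1_c0 LD2_c31 LD3_c50)) :=
  Lgr Lrot39 (Lpr_et (f197383 IH) (Lpr_ct (K10.f197400 IH) (Lpr_et (f197407 IH) (Lpn (LP (LK LD1_c0 LD2_c31 LD3_c50))))))
theorem f2917 : Led Lsl_dt (LP (LK LD1_c0 LD2_c31 LD3_c47)) = (LP (LK LD1_c0 LD2_c14 LD3_c8)) :=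
  Lre_d IH (LK LD1_c0 LD2_c31 LD3_c47) (LK LD1_c0 LD2_c14 LD3_c8) Lrfl Lrfl
theorem f313388 : Led Lsl_gt (LP (LK LD1_c0 LD2_c16 LD3_c16)) = (LP (LK LD1_c0 LD2_c31 LD3_c47)) :=
  Lgr Lrot94 (Lpr_cf (f197408 IH) (Lpr_gt (f313385 IH) (Lpr_dt (K13.f193677 IH) (Lpe (f197797 IH) (Lpr_dt (K10.f193449 IH) (Lpr_cf (K10.f197385 IH) (Lpe (K0.f2907 IH) (Lpr_gf (K11.f3055 IH) (Lpe (f2917 IH) (Lpn (LP (LK LD1_c0 LD2_c31 LD3_c47))))))))))))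
theorem f313418 : Led Lsl_gf (LP (LK LD1_c1 LD2_c9 LD3_c17)) = (LP (LK LD1_c1 LD2_c3 LD3_c28)) :=
  Lgr Lrot129 (Lpr_cf (f313407 IH) (Lpr_bt (f179097 IH) (Lpe (K9.f179080 IH) (Lpe (f192343 IH) (Lpr_ct (K9.f51577 IH) (Lpe (K9.f170071 IH) (Lpe (K9.f165221 IH) (Lpr_bt (f170077 IH) (Lpr_gt (f313388 IH) (Lpe (K13.f237382 IH) (Lpn (LP (LK LD1_c1 LD2_c3 LD3_c28)))))))))))))
theorem f313405 : Led Lsl_bf (LP (LK LD1_c1 LD2_c9 LD3_c17)) = (LP (LK LD1_c1 LD2_c57 LD3_c28)) :=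
  Lgr Lrot24 (Lpr_bt (f313398 IH) (Lpn (LP (LK LD1_c1 LD2_c57 LD3_c28))))
theorem f313424 : Led Lsl_gt (LP (LK LD1_c1 LD2_c19 LD3_c12)) = (LP (LK LD1_c1 LD2_c12 LD3_c50)) :=
  Lgr Lrot65 (Lpe (f196987 IH) (Lpe (f313405 IH) (Lpr_gf (f313418 IH) (Lpe (K16.f21246 IH) (Lpr_ct (K9.f181794 IH) (Lpe (K9.f178299 IH) (Lpe (K9.f165158 IH) (Lpe (K9.f183227 IH) (Lpe (K14.f183237 IH) (Lpr_ct (K14.f196367 IH) (Lpn (LP (LK LD1_c1 LD2_c12 LD3_c50)))))))))))))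
theorem f313307 : Led Lsl_ef (LP (LK LD1_c1 LD2_c19 LD3_c12)) = (LP (LK LD1_c1 LD2_c59 LD3_c12)) :=
  Lgr Lrot29 (Lpr_bt (f196990 IH) (Lpr_et (f313305 IH) (Lpe (K11.f200683 IH) (Lpn (LP (LK LD1_c1 LD2_c59 LD3_c12))))))
theorem f313438 : Led Lsl_dt (LP (LK LD1_c1 LD2_c59 LD3_c12)) = (LP (LK LD1_c2 LD2_c0 LD3_c49)) :=
  Lgr Lrot37 (Lpe (f313307 IH) (Lpr_gt (f313424 IH) (Lpe (K10.f33142 IH) (Lpr_gt (K9.f29652 IH) (Lpe (K1.f28758 IH) (Lpr_et (K1.f29158 IH) (Lpr_gt (K0.f30827 IH) (Lpe (K12.f27881 IH) (Lpr_dt (K0.f27882 IH) (Lpe (K10.f190212 IH) (Lpn (LP (LK LD1_c2 LD2_c0 LD3_c49)))))))))))))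
theorem f200657 : Led Lsl_ct (LP (LK LD1_c0 LD2_c56 LD3_c27)) = (LP (LK LD1_c1 LD2_c59 LD3_c12)) :=
  Lre_c IH (LK LD1_c0 LD2_c56 LD3_c27) (LK LD1_c1 LD2_c59 LD3_c12) Lrfl Lrfl
theorem f313467 : Led Lsl_gf (LP (LK LD1_c0 LD2_c56 LD3_c27)) = (LP (LK LD1_c0 LD2_c55 LD3_c41)) :=
  Lgr Lrot172 (Lpr_ct (f200657 IH) (Lpr_dt (f313438 IH) (Lpe (K13.f182594 IH) (Lpe (K9.f182591 IH) (Lpe (K9.f31282 IH) (Lpe (K10.f31132 IH) (Lpr_dt (K13.f187930 IH) (Lpr_gt (K13.f240737 IH) (Lpr_ct (K13.f192631 IH) (Lpn (LP (LK LD1_c0 LD2_c55 LD3_c41))))))))))))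
theorem f241014 : Led Lsl_cf (LP (LK LD1_c4 LD2_c20 LD3_c36)) = (LP (LK LD1_c8 LD2_c14 LD3_c20)) :=
  Lgr Lrot11 (Lpr_ct (K13.f240960 IH) (Lpn (LP (LK LD1_c8 LD2_c14 LD3_c20))))
theorem f231544 : Led Lsl_ct (LP (LK LD1_c8 LD2_c27 LD3_c50)) = (LP (LK LD1_c4 LD2_c20 LD3_c33)) :=
  Lgr Lrot7 (Lpe (K13.f32047 IH) (Lpr_gf (K13.f231541 IH) (Lpr_df (K13.f231463 IH) (Lpe (K13.f231475 IH) (Lpr_cf (K15.f231527 IH) (Lpr_gt (K13.f28654 IH) (Lpr_dt (K0.f28653 IH) (Lpr_gt (K13.f28656 IH) (Lpr_dt (K13.f35782 IH) (Lpn (LP (LK LD1_c4 LD2_c20 LD3_c33))))))))))))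
theorem f239307 : Led Lsl_df (LP (LK LD1_c2 LD2_c24 LD3_c45)) = (LP (LK LD1_c4 LD2_c20 LD3_c42)) :=
  Lgr Lrot38 (Lpr_dt (K13.f239303 IH) (Lpn (LP (LK LD1_c4 LD2_c20 LD3_c42))))
theorem f31041 : Led Lsl_gt (LP (LK LD1_c0 LD2_c32 LD3_c2)) = (LP (LK LD1_c1 LD2_c9 LD3_c33)) :=
  Lre_g IH (LK LD1_c0 LD2_c32 LD3_c2) (LK LD1_c1 LD2_c9 LD3_c33) Lrfl Lrfl
theorem f31589 : Led Lsl_gt (LP (LK LD1_c1 LD2_c9 LD3_c33)) = (LP (LK LD1_c1 LD2_c56 LD3_c40)) :=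
  Lgr Lrot46 (Lpe (f31041 IH) (Lpr_ft (K11.f31584 IH) (Lpr_at (K11.f31585 IH) (Lpn (LP (LK LD1_c1 LD2_c56 LD3_c40))))))
theorem f240623 : Led Lsl_cf (LP (LK LD1_c1 LD2_c9 LD3_c33)) = (LP (LK LD1_c2 LD2_c7 LD3_c46)) :=
  Lgr Lrot166 (Lpr_gt (f31589 IH) (Lpr_dt (K1.f28639 IH) (Lpe (K13.f31569 IH) (Lpr_dt (K13.f31571 IH) (Lpr_ct (K13.f31572 IH) (Lpr_df (f239307 IH) (Lpr_gf (K15.f239252 IH) (Lpe (K13.f31815 IH) (Lpr_gf (K16.f240619 IH) (Lpn (LP (LK LD1_c2 LD2_c7 LD3_c46))))))))))))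
theorem f313456 : Led Lsl_df (LP (LK LD1_c0 LD2_c56 LD3_c27)) = (LP (LK LD1_c1 LD2_c9 LD3_c33)) :=
  Lgr Lrot43 (Lpr_ct (f200657 IH) (Lpr_dt (f313438 IH) (Lpr_ct (K9.f182588 IH) (Lpr_dt (K13.f182595 IH) (Lpe (f241014 IH) (Lpr_dt (K13.f31844 IH) (Lpr_ct (K15.f239243 IH) (Lpr_dt (K12.f216356 IH) (Lpe (K12.f216367 IH) (Lpr_dt (K12.f8102 IH) (Lpr_ct (K13.f27890 IH) (Lpr_dt (K13.f32047 IH) (Lpr_ct (f231544 IH) (Lpr_dt (K16.f212061 IH) (Lpe (f240623 IH) (Lpn (LP (LK LD1_c1 LD2_c9 LD3_c33))))))))))))))))))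
theorem f240634 : Led Lsl_et (LP (LK LD1_c1 LD2_c9 LD3_c33)) = (LP (LK LD1_c2 LD2_c24 LD3_c46)) :=
  Lre_e IH (LK LD1_c1 LD2_c9 LD3_c33) (LK LD1_c2 LD2_c24 LD3_c46) Lrfl Lrfl
theorem f313477 : Led Lsl_gt (LP (LK LD1_c2 LD2_c24 LD3_c46)) = (LP (LK LD1_c1 LD2_c56 LD3_c59)) :=
  Lgr Lrot137 (Lpe (f240634 IH) (Lpe (f313456 IH) (Lpr_gf (f313467 IH) (Lpe (K10.f192596 IH) (Lpe (K10.f192656 IH) (Lpr_gf (K12.f196238 IH) (Lpe (K12.f69687 IH) (Lpr_dt (K12.f69682 IH) (Lpr_gf (K12.f182400 IH) (Lpe (K12.f192844 IH) (Lpn (LP (LK LD1_c1 LD2_c56 LD3_c59)))))))))))))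
theorem f242609 : Led Lsl_at (LP (LK LD1_c1 LD2_c56 LD3_c13)) = (LP (LK LD1_c1 LD2_c56 LD3_c59)) :=
  Lgr Lrot66 (Lpr_ff (K13.f242607 IH) (Lpe (K13.f239360 IH) (Lpe (K13.f29628 IH) (Lpn (LP (LK LD1_c1 LD2_c56 LD3_c59))))))
theorem f313479 : Led Lsl_gf (LP (LK LD1_c2 LD2_c24 LD3_c46)) = (LP (LK LD1_c3 LD2_c10 LD3_c25)) :=
  Lgr Lrot47 (Lpr_gt (f313477 IH) (Lpe (f242609 IH) (Lpr_ff (K13.f242607 IH) (Lpn (LP (LK LD1_c3 LD2_c10 LD3_c25))))))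
theorem f175487 : Led Lsl_bt (LP (LK LD1_c1 LD2_c10 LD3_c29)) = (LP (LK LD1_c2 LD2_c26 LD3_c23)) :=
  Lre_b IH (LK LD1_c1 LD2_c10 LD3_c29) (LK LD1_c2 LD2_c26 LD3_c23) Lrfl Lrfl
theorem f268627 : Led Lsl_ef (LP (LK LD1_c3 LD2_c10 LD3_c25)) = (LP (LK LD1_c2 LD2_c26 LD3_c23)) :=
  Lgr Lrot29 (Lpr_bt (K13.f205104 IH) (Lpr_et (K16.f268623 IH) (Lpr_bt (f175487 IH) (Lpn (LP (LK LD1_c2 LD2_c26 LD3_c23))))))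
theorem f268643 : Led Lsl_df (LP (LK LD1_c2 LD2_c17 LD3_c42)) = (LP (LK LD1_c2 LD2_c26 LD3_c23)) :=
  Lgr Lrot12 (Lpr_bt (K10.f80285 IH) (Lpr_dt (K16.f268641 IH) (Lpr_bt (f175487 IH) (Lpn (LP (LK LD1_c2 LD2_c26 LD3_c23))))))
theorem f313483 : Led Lsl_gt (LP (LK LD1_c0 LD2_c56 LD3_c27)) = (LP (LK LD1_c1 LD2_c57 LD3_c26)) :=
  Lgr Lrot112 (Lpr_df (f313456 IH) (Lpr_et (f240634 IH) (Lpr_gf (f313479 IH) (Lpr_ef (f268627 IH) (Lpe (f268643 IH) (Lpr_gf (K10.f193760 IH) (Lpe (K10.f59166 IH) (Lpe (K13.f70014 IH) (Lpr_ef (K13.f240853 IH) (Lpe (K13.f240895 IH) (Lpn (LP (LK LD1_c1 LD2_c57 LD3_c26)))))))))))))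
theorem f200675 : Led Lsl_bt (LP (LK LD1_c0 LD2_c28 LD3_c54)) = (LP (LK LD1_c1 LD2_c3 LD3_c7)) :=
  Lre_b IH (LK LD1_c0 LD2_c28 LD3_c54) (LK LD1_c1 LD2_c3 LD3_c7) Lrfl Lrfl
theorem f200676 : Led Lsl_ct (LP (LK LD1_c1 LD2_c3 LD3_c11)) = (LP (LK LD1_c0 LD2_c28 LD3_c54)) :=
  Lre_c IH (LK LD1_c1 LD2_c3 LD3_c11) (LK LD1_c0 LD2_c28 LD3_c54) Lrfl Lrfl
theorem f200677 : Led Lsl_bt (LP (LK LD1_c1 LD2_c59 LD3_c12)) = (LP (LK LD1_c1 LD2_c3 LD3_c11)) :=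
  Lgr Lrot128 (Lpe (f200657 IH) (Lpe (K11.f200652 IH) (Lpr_cf (K11.f200673 IH) (Lpe (f200675 IH) (Lpe (f200676 IH) (Lpn (LP (LK LD1_c1 LD2_c3 LD3_c11))))))))
theorem f232882 : Led Lsl_bf (LP (LK LD1_c2 LD2_c37 LD3_c43)) = (LP (LK LD1_c2 LD2_c24 LD3_c9)) :=
  Lgr Lrot96 (Lpr_et (K13.f232880 IH) (Lpr_bt (K13.f227943 IH) (Lpe (K12.f227974 IH) (Lpn (LP (LK LD1_c2 LD2_c24 LD3_c9))))))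
theorem f313491 : Led Lsl_gf (LP (LK LD1_c1 LD2_c3 LD3_c11)) = (LP (LK LD1_c0 LD2_c33 LD3_c55)) :=
  Lgr Lrot124 (Lpe (f200677 IH) (Lpr_ct (K11.f200658 IH) (Lpr_gt (f313483 IH) (Lpe (f216359 IH) (Lpe (f232882 IH) (Lpr_gt (K13.f171995 IH) (Lpr_ct (K10.f171990 IH) (Lpr_gt (K15.f264902 IH) (Lpe (K11.f189565 IH) (Lpr_bt (K12.f185073 IH) (Lpn (LP (LK LD1_c0 LD2_c33 LD3_c55)))))))))))))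
theorem f313501 : Led Lsl_df (LP (LK LD1_c0 LD2_c28 LD3_c54)) = (LP (LK LD1_c0 LD2_c16 LD3_c21)) :=
  Lgr Lrot162 (Lpe (f200676 IH) (Lpr_gf (f313491 IH) (Lpe (K11.f204874 IH) (Lpr_gf (K14.f210481 IH) (Lpr_dt (K9.f40825 IH) (Lpr_gt (K9.f53167 IH) (Lpr_ct (K1.f55430 IH) (Lpe (K9.f172051 IH) (Lpr_ct (K9.f22398 IH) (Lpn (LP (LK LD1_c0 LD2_c16 LD3_c21))))))))))))
theorem f165202 : Led Lsl_et (LP (LK LD1_c0 LD2_c16 LD3_c21)) = (LP (LK LD1_c0 LD2_c7 LD3_c19)) :=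
  Lre_e IH (LK LD1_c0 LD2_c16 LD3_c21) (LK LD1_c0 LD2_c7 LD3_c19) Lrfl Lrfl
theorem f313507 : Led Lsl_gf (LP (LK LD1_c0 LD2_c28 LD3_c54)) = (LP (LK LD1_c0 LD2_c15 LD3_c20)) :=
  Lgr Lrot134 (Lpr_df (f313501 IH) (Lpr_et (f165202 IH) (Lpe (K15.f226693 IH) (Lpe (K17.f242659 IH) (Lpe (K18.f186342 IH) (Lpe (K15.f185834 IH) (Lpr_df (K9.f20761 IH) (Lpr_et (K9.f20637 IH) (Lpe (K10.f184899 IH) (Lpr_dt (K9.f20487 IH) (Lpn (LP (LK LD1_c0 LD2_c15 LD3_c20)))))))))))))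
theorem f313511 : Led Lsl_ef (LP (LK LD1_c0 LD2_c28 LD3_c54)) = (LP (LK LD1_c0 LD2_c16 LD3_c22)) :=
  Lgr Lrot17 (Lpr_gf (f313507 IH) (Lpe (K18.f20495 IH) (Lpr_dt (K9.f20485 IH) (Lpr_gf (K12.f186833 IH) (Lpe (K10.f186814 IH) (Lpe (K10.f178993 IH) (Lpe (K9.f3079 IH) (Lpr_dt (K0.f3061 IH) (Lpr_gf (K9.f165218 IH) (Lpe (K9.f20704 IH) (Lpn (LP (LK LD1_c0 LD2_c16 LD3_c22)))))))))))))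
theorem f20670 : Led Lsl_ft (LP (LK LD1_c0 LD2_c28 LD3_c54)) = (LP (LK LD1_c0 LD2_c12 LD3_c45)) :=
  Lre_f IH (LK LD1_c0 LD2_c28 LD3_c54) (LK LD1_c0 LD2_c12 LD3_c45) Lrfl Lrfl
theorem f201342 : Led Lsl_ft (LP (LK LD1_c0 LD2_c36 LD3_c37)) = (LP (LK LD1_c0 LD2_c16 LD3_c19)) :=
  Lre_f IH (LK LD1_c0 LD2_c36 LD3_c37) (LK LD1_c0 LD2_c16 LD3_c19) Lrfl Lrfl
theorem f313371 : Led Lsl_ft (LP (LK LD1_c0 LD2_c7 LD3_c20)) = (LP (LK LD1_c0 LD2_c16 LD3_c22)) :=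
  Lgr Lrot4 (Lpe (K9.f165220 IH) (Lpe (f201342 IH) (Lpr_cf (f313361 IH) (Lpn (LP (LK LD1_c0 LD2_c16 LD3_c22))))))
theorem f313517 : Led Lsl_ft (LP (LK LD1_c0 LD2_c5 LD3_c48)) = (LP (LK LD1_c0 LD2_c3 LD3_c17)) :=
  Lgr Lrot86 (Lpe (K9.f6858 IH) (Lpe (f20670 IH) (Lpr_ef (f313511 IH) (Lpe (f313371 IH) (Lpe (K9.f165217 IH) (Lpn (LP (LK LD1_c0 LD2_c3 LD3_c17))))))))
theorem f313523 : Led Lsl_af (LP (LK LD1_c0 LD2_c5 LD3_c49)) = (LP (LK LD1_c0 LD2_c3 LD3_c17)) :=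
  Lgr Lrot31 (Lpe (K0.f20232 IH) (Lpe (K9.f20651 IH) (Lpr_ft (f313517 IH) (Lpn (LP (LK LD1_c0 LD2_c3 LD3_c17))))))
theorem f9487 : Led Lsl_et (LP (LK LD1_c0 LD2_c7 LD3_c20)) = (LP (LK LD1_c0 LD2_c3 LD3_c17)) :=
  Lre_e IH (LK LD1_c0 LD2_c7 LD3_c20) (LK LD1_c0 LD2_c3 LD3_c17) Lrfl Lrfl
theorem f313529 : Led Lsl_at (LP (LK LD1_c0 LD2_c12 LD3_c48)) = (LP (LK LD1_c0 LD2_c7 LD3_c20)) :=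
  Lgr Lrot80 (Lpe (K9.f174634 IH) (Lpr_af (f313523 IH) (Lpe (f9487 IH) (Lpn (LP (LK LD1_c0 LD2_c7 LD3_c20))))))
theorem f313335 : Led Lsl_at (LP (LK LD1_c0 LD2_c7 LD3_c20)) = (LP (LK LD1_c0 LD2_c12 LD3_c48)) :=
  Lgr Lrot107 (Lpe (K9.f165220 IH) (Lpr_af (f313329 IH) (Lpe (K9.f21242 IH) (Lpn (LP (LK LD1_c0 LD2_c12 LD3_c48))))))
theorem f165222 : Led Lsl_bt (LP (LK LD1_c0 LD2_c16 LD3_c16)) = (LP (LK LD1_c0 LD2_c7 LD3_c20)) :=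
  Lre_b IH (LK LD1_c0 LD2_c16 LD3_c16) (LK LD1_c0 LD2_c7 LD3_c20) Lrfl Lrfl
theorem f313531 : Led Lsl_af (LP (LK LD1_c0 LD2_c16 LD3_c16)) = (LP (LK LD1_c0 LD2_c16 LD3_c16)) :=
  Lgr Lrot36 (Lpr_bt (f165222 IH) (Lpr_at (f313335 IH) (Lpr_bt (K11.f177893 IH) (Lpr_at (f313529 IH) (Lpr_bt (f170077 IH) (Lpn (LP (LK LD1_c0 LD2_c16 LD3_c16))))))))
theorem f313411 : Led Lsl_ft (LP (LK LD1_c1 LD2_c9 LD3_c17)) = (LP (LK LD1_c0 LD2_c31 LD3_c50)) :=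
  Lre_f IH (LK LD1_c1 LD2_c9 LD3_c17) (LK LD1_c0 LD2_c31 LD3_c50) Lrfl Lrfl
theorem f313412 : Led Lsl_ft (LP (LK LD1_c0 LD2_c16 LD3_c16)) = (LP (LK LD1_c0 LD2_c36 LD3_c30)) :=
  Lgr Lrot4 (Lpr_cf (f197408 IH) (Lpe (f313411 IH) (Lpr_cf (f313407 IH) (Lpn (LP (LK LD1_c0 LD2_c36 LD3_c30))))))
theorem f211254 : Led Lsl_dt (LP (LK LD1_c0 LD2_c36 LD3_c30)) = (LP (LK LD1_c0 LD2_c16 LD3_c16)) :=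
  Lre_d IH (LK LD1_c0 LD2_c36 LD3_c30) (LK LD1_c0 LD2_c16 LD3_c16) Lrfl Lrfl
theorem f313535 : Led Lsl_at (LP (LK LD1_c0 LD2_c36 LD3_c30)) = (LP (LK LD1_c0 LD2_c36 LD3_c30)) :=
  Lgr Lrot51 (Lpe (f197384 IH) (Lpr_af (f313531 IH) (Lpe (f211254 IH) (Lpn (LP (LK LD1_c0 LD2_c36 LD3_c30))))))
theorem f313537 : Led Lsl_ft (LP (LK LD1_c0 LD2_c36 LD3_c30)) = (LP (LK LD1_c0 LD2_c16 LD3_c16)) :=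
  Lgr Lrot101 (Lpe (f313535 IH) (Lpe (f313412 IH) (Lpr_af (f313531 IH) (Lpn (LP (LK LD1_c0 LD2_c16 LD3_c16))))))
theorem f313390 : Led Lsl_cf (LP (LK LD1_c0 LD2_c31 LD3_c50)) = (LP (LK LD1_c0 LD2_c16 LD3_c16)) :=
  Lgr Lrot166 (Lpr_gt (f313385 IH) (Lpr_dt (K13.f193677 IH) (Lpe (f197797 IH) (Lpr_dt (K10.f193449 IH) (Lpr_ct (K10.f197387 IH) (Lpe (K0.f2907 IH) (Lpr_gf (K11.f3055 IH) (Lpe (f2917 IH) (Lpe (f313388 IH) (Lpn (LP (LK LD1_c0 LD2_c16 LD3_c16))))))))))))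
theorem f313396 : Led Lsl_dt (LP (LK LD1_c0 LD2_c31 LD3_c50)) = (LP (LK LD1_c0 LD2_c36 LD3_c27)) :=
  Lgr Lrot79 (Lpr_bf (f313392 IH) (Lpe (K11.f196958 IH) (Lpr_bf (K13.f237405 IH) (Lpn (LP (LK LD1_c0 LD2_c36 LD3_c27))))))
theorem f250329 : Led Lsl_gt (LP (LK LD1_c0 LD2_c58 LD3_c59)) = (LP (LK LD1_c0 LD2_c36 LD3_c55)) :=
  Lgr Lrot146 (Lpr_dt (K14.f250317 IH) (Lpr_gt (K12.f167907 IH) (Lpr_ct (K12.f167839 IH) (Lpr_gt (K13.f225244 IH) (Lpr_ct (K13.f178878 IH) (Lpr_dt (K9.f178865 IH) (Lpr_cf (K9.f171157 IH) (Lpr_gf (K9.f178869 IH) (Lpe (K16.f9495 IH) (Lpn (LP (LK LD1_c0 LD2_c36 LD3_c55))))))))))))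
theorem f193687 : Led Lsl_bt (LP (LK LD1_c0 LD2_c16 LD3_c28)) = (LP (LK LD1_c0 LD2_c36 LD3_c50)) :=
  Lre_b IH (LK LD1_c0 LD2_c16 LD3_c28) (LK LD1_c0 LD2_c36 LD3_c50) Lrfl Lrfl
theorem f313400 : Led Lsl_gf (LP (LK LD1_c0 LD2_c31 LD3_c50)) = (LP (LK LD1_c0 LD2_c36 LD3_c50)) :=
  Lgr Lrot124 (Lpr_bf (f313392 IH) (Lpe (K11.f182185 IH) (Lpr_gt (K12.f179104 IH) (Lpe (K13.f227289 IH) (Lpr_bt (K13.f238294 IH) (Lpe (K14.f250331 IH) (Lpr_ct (K14.f228900 IH) (Lpr_gt (f250329 IH) (Lpe (K11.f177864 IH) (Lpr_bt (f193687 IH) (Lpn (LP (LK LD1_c0 LD2_c36 LD3_c50)))))))))))))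
theorem f313402 : Led Lsl_df (LP (LK LD1_c1 LD2_c19 LD3_c2)) = (LP (LK LD1_c1 LD2_c19 LD3_c2)) :=
  Lgr Lrot84 (Lpe (K13.f197397 IH) (Lpe (f313396 IH) (Lpr_gf (f313400 IH) (Lpe (K18.f193683 IH) (Lpe (K10.f196294 IH) (Lpe (K13.f196269 IH) (Lpe (K10.f197412 IH) (Lpe (K13.f197414 IH) (Lpr_gt (K13.f237403 IH) (Lpn (LP (LK LD1_c1 LD2_c19 LD3_c2))))))))))))
theorem f313539 : Led Lsl_df (LP (LK LD1_c0 LD2_c31 LD3_c50)) = (LP (LK LD1_c0 LD2_c36 LD3_c27)) :=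
  Lgr Lrot177 (Lpe (f197408 IH) (Lpr_af (f313531 IH) (Lpe (f313537 IH) (Lpr_dt (f211254 IH) (Lpe (f313390 IH) (Lpr_dt (f313396 IH) (Lpr_ct (K13.f197397 IH) (Lpe (f313402 IH) (Lpr_ct (K13.f197396 IH) (Lpn (LP (LK LD1_c0 LD2_c36 LD3_c27))))))))))))
theorem f196260 : Led Lsl_bt (LP (LK LD1_c1 LD2_c19 LD3_c0)) = (LP (LK LD1_c1 LD2_c27 LD3_c50)) :=
  Lgr Lrot127 (Lpr_bf (K10.f196255 IH) (Lpn (LP (LK LD1_c1 LD2_c27 LD3_c50))))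
theorem f196262 : Led Lsl_dt (LP (LK LD1_c1 LD2_c19 LD3_c0)) = (LP (LK LD1_c1 LD2_c19 LD3_c0)) :=
  Lgr Lrot79 (Lpr_bf (K10.f196255 IH) (Lpe (K1.f36729 IH) (Lpe (f196260 IH) (Lpn (LP (LK LD1_c1 LD2_c19 LD3_c0))))))
theorem f177641 : Led Lsl_dt (LP (LK LD1_c2 LD2_c16 LD3_c42)) = (LP (LK LD1_c1 LD2_c5 LD3_c14)) :=
  Lre_d IH (LK LD1_c2 LD2_c16 LD3_c42) (LK LD1_c1 LD2_c5 LD3_c14) Lrfl Lrfl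
theorem f165179 : Led Lsl_dt (LP (LK LD1_c0 LD2_c15 LD3_c6)) = (LP (LK LD1_c0 LD2_c33 LD3_c39)) :=
  Lre_d IH (LK LD1_c0 LD2_c15 LD3_c6) (LK LD1_c0 LD2_c33 LD3_c39) Lrfl Lrfl
theorem f190258 : Led Lsl_bf (LP (LK LD1_c1 LD2_c9 LD3_c30)) = (LP (LK LD1_c0 LD2_c33 LD3_c39)) :=
  Lgr Lrot93 (Lpr_dt (K11.f31566 IH) (Lpr_bt (K10.f190252 IH) (Lpr_dt (f165179 IH) (Lpn (LP (LK LD1_c0 LD2_c33 LD3_c39))))))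
theorem f190260 : Led Lsl_bt (LP (LK LD1_c1 LD2_c9 LD3_c30)) = (LP (LK LD1_c0 LD2_c33 LD3_c39)) :=
  Lgr Lrot127 (Lpr_bf (f190258 IH) (Lpn (LP (LK LD1_c0 LD2_c33 LD3_c39))))
theorem f240683 : Led Lsl_gt (LP (LK LD1_c0 LD2_c33 LD3_c39)) = (LP (LK LD1_c1 LD2_c12 LD3_c4)) :=
  Lgr Lrot164 (Lpe (f190260 IH) (Lpr_ct (K12.f190262 IH) (Lpr_gf (K13.f240657 IH) (Lpe (K13.f240660 IH) (Lpe (K13.f240679 IH) (Lpe (K12.f164143 IH) (Lpr_ct (K9.f28369 IH) (Lpr_gf (K9.f164125 IH) (Lpe (K9.f163706 IH) (Lpr_bt (K10.f164158 IH) (Lpn (LP (LK LD1_c1 LD2_c12 LD3_c4)))))))))))))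
theorem f313557 : Led Lsl_ef (LP (LK LD1_c0 LD2_c33 LD3_c39)) = (LP (LK LD1_c0 LD2_c36 LD3_c27)) :=
  Lgr Lrot114 (Lpr_gt (f240683 IH) (Lpr_ef (K10.f177647 IH) (Lpr_dt (f177641 IH) (Lpr_gt (K10.f193451 IH) (Lpe (f196262 IH) (Lpr_et (K10.f196264 IH) (Lpr_gt (K10.f196294 IH) (Lpr_dt (K18.f193683 IH) (Lpe (f313400 IH) (Lpr_df (f313539 IH) (Lpn (LP (LK LD1_c0 LD2_c36 LD3_c27)))))))))))))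
theorem f313533 : Led Lsl_at (LP (LK LD1_c0 LD2_c31 LD3_c50)) = (LP (LK LD1_c0 LD2_c31 LD3_c50)) :=
  Lgr Lrot107 (Lpr_cf (f313390 IH) (Lpr_af (f313531 IH) (Lpr_cf (f197408 IH) (Lpn (LP (LK LD1_c0 LD2_c31 LD3_c50))))))
theorem f313541 : Led Lsl_at (LP (LK LD1_c0 LD2_c36 LD3_c27)) = (LP (LK LD1_c0 LD2_c36 LD3_c27)) :=
  Lgr Lrot51 (Lpe (f313396 IH) (Lpe (f313533 IH) (Lpr_df (f313539 IH) (Lpn (LP (LK LD1_c0 LD2_c36 LD3_c27))))))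
theorem f2918 : Led Lsl_et (LP (LK LD1_c0 LD2_c31 LD3_c50)) = (LP (LK LD1_c0 LD2_c14 LD3_c9)) :=
  Lre_e IH (LK LD1_c0 LD2_c31 LD3_c50) (LK LD1_c0 LD2_c14 LD3_c9) Lrfl Lrfl
theorem f313545 : Led Lsl_et (LP (LK LD1_c0 LD2_c33 LD3_c39)) = (LP (LK LD1_c0 LD2_c36 LD3_c27)) :=
  Lgr Lrot71 (Lpe (f165179 IH) (Lpe (K11.f200667 IH) (Lpe (K13.f3082 IH) (Lpe (f2918 IH) (Lpr_df (f313539 IH) (Lpn (LP (LK LD1_c0 LD2_c36 LD3_c27))))))))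
theorem f313559 : Led Lsl_at (LP (LK LD1_c0 LD2_c33 LD3_c39)) = (LP (LK LD1_c0 LD2_c33 LD3_c39)) :=
  Lgr Lrot80 (Lpr_ef (f313557 IH) (Lpe (f313541 IH) (Lpe (f313545 IH) (Lpn (LP (LK LD1_c0 LD2_c33 LD3_c39))))))
theorem f165493 : Led Lsl_gt (LP (LK LD1_c1 LD2_c12 LD3_c43)) = (LP (LK LD1_c0 LD2_c33 LD3_c39)) :=
  Lre_g IH (LK LD1_c1 LD2_c12 LD3_c43) (LK LD1_c0 LD2_c33 LD3_c39) Lrfl Lrfl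
theorem f197368 : Led Lsl_et (LP (LK LD1_c0 LD2_c14 LD3_c8)) = (LP (LK LD1_c0 LD2_c31 LD3_c48)) :=
  Lre_e IH (LK LD1_c0 LD2_c14 LD3_c8) (LK LD1_c0 LD2_c31 LD3_c48) Lrfl Lrfl
theorem f237386 : Led Lsl_gt (LP (LK LD1_c0 LD2_c31 LD3_c47)) = (LP (LK LD1_c0 LD2_c36 LD3_c30)) :=
  Lgr Lrot112 (Lpe (K13.f2916 IH) (Lpr_et (f197368 IH) (Lpe (K16.f200654 IH) (Lpe (K16.f237384 IH) (Lpr_dt (K13.f193677 IH) (Lpr_gf (K13.f237322 IH) (Lpe (K1.f2988 IH) (Lpe (K13.f193281 IH) (Lpe (f197383 IH) (Lpr_dt (f197384 IH) (Lpn (LP (LK LD1_c0 LD2_c36 LD3_c30)))))))))))))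
theorem f313422 : Led Lsl_dt (LP (LK LD1_c1 LD2_c9 LD3_c17)) = (LP (LK LD1_c0 LD2_c36 LD3_c26)) :=
  Lgr Lrot57 (Lpr_gf (f313418 IH) (Lpr_cf (K13.f237382 IH) (Lpr_gt (f237386 IH) (Lpr_dt (f211254 IH) (Lpr_gt (f313388 IH) (Lpr_dt (f2917 IH) (Lpe (K13.f197398 IH) (Lpe (K10.f20742 IH) (Lpe (K13.f229300 IH) (Lpn (LP (LK LD1_c0 LD2_c36 LD3_c26))))))))))))
theorem f200644 : Led Lsl_bt (LP (LK LD1_c0 LD2_c31 LD3_c48)) = (LP (LK LD1_c0 LD2_c25 LD3_c35)) :=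
  Lgr Lrot127 (Lpr_bf (K11.f200642 IH) (Lpn (LP (LK LD1_c0 LD2_c25 LD3_c35))))
theorem f182022 : Led Lsl_ct (LP (LK LD1_c0 LD2_c39 LD3_c29)) = (LP (LK LD1_c0 LD2_c33 LD3_c42)) :=
  Lgr Lrot59 (Lpr_cf (K16.f182020 IH) (Lpn (LP (LK LD1_c0 LD2_c33 LD3_c42))))
theorem f267793 : Led Lsl_gt (LP (LK LD1_c0 LD2_c28 LD3_c46)) = (LP (LK LD1_c0 LD2_c33 LD3_c42)) :=
  Lgr Lrot65 (Lpe (K11.f200646 IH) (Lpr_bt (f200644 IH) (Lpe (K12.f28785 IH) (Lpe (K14.f211514 IH) (Lpe (K10.f178540 IH) (Lpe (K15.f256472 IH) (Lpr_cf (K15.f169428 IH) (Lpr_gf (K15.f267787 IH) (Lpe (K10.f177634 IH) (Lpr_ct (f182022 IH) (Lpn (LP (LK LD1_c0 LD2_c33 LD3_c42)))))))))))))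
theorem f165180 : Led Lsl_dt (LP (LK LD1_c0 LD2_c15 LD3_c7)) = (LP (LK LD1_c0 LD2_c33 LD3_c41)) :=
  Lre_d IH (LK LD1_c0 LD2_c15 LD3_c7) (LK LD1_c0 LD2_c33 LD3_c41) Lrfl Lrfl
theorem f237391 : Led Lsl_ef (LP (LK LD1_c1 LD2_c3 LD3_c28)) = (LP (LK LD1_c1 LD2_c9 LD3_c15)) :=
  Lgr Lrot88 (Lpr_et (K16.f237384 IH) (Lpn (LP (LK LD1_c1 LD2_c9 LD3_c15))))
theorem f21237 : Led Lsl_bt (LP (LK LD1_c1 LD2_c3 LD3_c28)) = (LP (LK LD1_c0 LD2_c29 LD3_c0)) :=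
  Lre_b IH (LK LD1_c1 LD2_c3 LD3_c28) (LK LD1_c0 LD2_c29 LD3_c0) Lrfl Lrfl
theorem f237393 : Led Lsl_bt (LP (LK LD1_c0 LD2_c31 LD3_c58)) = (LP (LK LD1_c1 LD2_c9 LD3_c15)) :=
  Lgr Lrot119 (Lpe (K9.f21235 IH) (Lpe (f21237 IH) (Lpr_ef (f237391 IH) (Lpn (LP (LK LD1_c1 LD2_c9 LD3_c15))))))
theorem f225640 : Led Lsl_bt (LP (LK LD1_c0 LD2_c34 LD3_c1)) = (LP (LK LD1_c1 LD2_c12 LD3_c43)) :=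
  Lgr Lrot22 (Lpr_ct (K9.f165499 IH) (Lpr_gf (K14.f186574 IH) (Lpe (K10.f31693 IH) (Lpr_gf (K9.f101517 IH) (Lpe (K12.f204897 IH) (Lpr_ct (K12.f180535 IH) (Lpr_gf (K12.f225636 IH) (Lpe (K12.f190262 IH) (Lpr_bt (f190260 IH) (Lpe (f165493 IH) (Lpn (LP (LK LD1_c1 LD2_c12 LD3_c43)))))))))))))
theorem f225642 : Led Lsl_bf (LP (LK LD1_c0 LD2_c34 LD3_c1)) = (LP (LK LD1_c1 LD2_c12 LD3_c43)) :=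
  Lgr Lrot24 (Lpr_bt (f225640 IH) (Lpn (LP (LK LD1_c1 LD2_c12 LD3_c43))))
theorem f237395 : Led Lsl_df (LP (LK LD1_c1 LD2_c12 LD3_c43)) = (LP (LK LD1_c1 LD2_c9 LD3_c15)) :=
  Lgr Lrot12 (Lpe (f225642 IH) (Lpr_dt (K9.f177148 IH) (Lpr_bt (f237393 IH) (Lpn (LP (LK LD1_c1 LD2_c9 LD3_c15))))))
theorem f313426 : Led Lsl_gt (LP (LK LD1_c0 LD2_c33 LD3_c41)) = (LP (LK LD1_c1 LD2_c12 LD3_c43)) :=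
  Lgr Lrot112 (Lpe (f165180 IH) (Lpr_et (K16.f182019 IH) (Lpe (f267793 IH) (Lpe (K10.f20743 IH) (Lpr_dt (K13.f20755 IH) (Lpe (K13.f229300 IH) (Lpe (f313422 IH) (Lpr_gf (f313418 IH) (Lpr_ef (f237391 IH) (Lpe (f237395 IH) (Lpn (LP (LK LD1_c1 LD2_c12 LD3_c43)))))))))))))
theorem f313563 : Led Lsl_ff (LP (LK LD1_c0 LD2_c33 LD3_c39)) = (LP (LK LD1_c0 LD2_c33 LD3_c41)) :=
  Lgr Lrot52 (Lpr_at (f313559 IH) (Lpe (f165493 IH) (Lpe (f313426 IH) (Lpn (LP (LK LD1_c0 LD2_c33 LD3_c41))))))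
theorem f313569 : Led Lsl_ft (LP (LK LD1_c0 LD2_c33 LD3_c39)) = (LP (LK LD1_c0 LD2_c33 LD3_c41)) :=
  Lgr Lrot48 (Lpr_ff (f313563 IH) (Lpn (LP (LK LD1_c0 LD2_c33 LD3_c41))))
theorem f37323 : Led Lsl_dt (LP (LK LD1_c0 LD2_c33 LD3_c41)) = (LP (LK LD1_c0 LD2_c15 LD3_c7)) :=
  Lre_d IH (LK LD1_c0 LD2_c33 LD3_c41) (LK LD1_c0 LD2_c15 LD3_c7) Lrfl Lrfl
theorem f313575 : Led Lsl_ff (LP (LK LD1_c0 LD2_c15 LD3_c6)) = (LP (LK LD1_c0 LD2_c15 LD3_c7)) :=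
  Lgr Lrot19 (Lpr_dt (f165179 IH) (Lpr_ft (f313569 IH) (Lpr_dt (f37323 IH) (Lpn (LP (LK LD1_c0 LD2_c15 LD3_c7))))))
theorem f313581 : Led Lsl_ft (LP (LK LD1_c0 LD2_c29 LD3_c51)) = (LP (LK LD1_c0 LD2_c17 LD3_c41)) :=
  Lgr Lrot4 (Lpr_cf (K10.f190256 IH) (Lpr_ff (f313575 IH) (Lpe (K9.f182008 IH) (Lpn (LP (LK LD1_c0 LD2_c17 LD3_c41))))))
theorem f313587 : Led Lsl_af (LP (LK LD1_c0 LD2_c17 LD3_c41)) = (LP (LK LD1_c0 LD2_c17 LD3_c41)) :=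
  Lgr Lrot31 (Lpr_gf (K10.f193089 IH) (Lpe (K10.f190265 IH) (Lpr_ft (f313581 IH) (Lpn (LP (LK LD1_c0 LD2_c17 LD3_c41))))))
theorem f313585 : Led Lsl_ff (LP (LK LD1_c0 LD2_c29 LD3_c51)) = (LP (LK LD1_c0 LD2_c17 LD3_c41)) :=
  Lgr Lrot3 (Lpr_ft (f313581 IH) (Lpn (LP (LK LD1_c0 LD2_c17 LD3_c41))))
theorem f313593 : Led Lsl_at (LP (LK LD1_c0 LD2_c29 LD3_c51)) = (LP (LK LD1_c0 LD2_c29 LD3_c51)) :=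
  Lgr Lrot66 (Lpr_ff (f313585 IH) (Lpr_af (f313587 IH) (Lpe (f313581 IH) (Lpn (LP (LK LD1_c0 LD2_c29 LD3_c51))))))
theorem f9493 : Led Lsl_ef (LP (LK LD1_c0 LD2_c36 LD3_c50)) = (LP (LK LD1_c0 LD2_c29 LD3_c51)) :=
  Lgr Lrot29 (Lpr_bt (K11.f9491 IH) (Lpr_et (K0.f9483 IH) (Lpr_bt (K10.f9492 IH) (Lpn (LP (LK LD1_c0 LD2_c29 LD3_c51))))))
theorem f313595 : Led Lsl_af (LP (LK LD1_c0 LD2_c36 LD3_c50)) = (LP (LK LD1_c0 LD2_c36 LD3_c50)) :=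
  Lgr Lrot50 (Lpe (K10.f193685 IH) (Lpr_at (f313593 IH) (Lpe (f9493 IH) (Lpn (LP (LK LD1_c0 LD2_c36 LD3_c50))))))
theorem f313414 : Led Lsl_gt (LP (LK LD1_c1 LD2_c9 LD3_c17)) = (LP (LK LD1_c0 LD2_c36 LD3_c50)) :=
  Lgr Lrot94 (Lpr_cf (f313407 IH) (Lpe (f313379 IH) (Lpr_dt (K11.f2914 IH) (Lpr_gt (K10.f2913 IH) (Lpe (K0.f2909 IH) (Lpr_cf (K0.f6900 IH) (Lpe (K0.f2972 IH) (Lpr_gf (K10.f193679 IH) (Lpe (K10.f193682 IH) (Lpn (LP (LK LD1_c0 LD2_c36 LD3_c50))))))))))))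
theorem f313601 : Led Lsl_ft (LP (LK LD1_c1 LD2_c3 LD3_c28)) = (LP (LK LD1_c0 LD2_c36 LD3_c50)) :=
  Lgr Lrot2 (Lpe (f313418 IH) (Lpr_gt (f313414 IH) (Lpr_af (f313595 IH) (Lpn (LP (LK LD1_c0 LD2_c36 LD3_c50))))))
theorem f313611 : Led Lsl_ff (LP (LK LD1_c1 LD2_c3 LD3_c28)) = (LP (LK LD1_c0 LD2_c36 LD3_c50)) :=
  Lgr Lrot3 (Lpr_ft (f313601 IH) (Lpn (LP (LK LD1_c0 LD2_c36 LD3_c50))))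
theorem f313621 : Led Lsl_ft (LP (LK LD1_c1 LD2_c9 LD3_c15)) = (LP (LK LD1_c0 LD2_c39 LD3_c29)) :=
  Lgr Lrot86 (Lpe (K16.f237384 IH) (Lpr_ff (f313611 IH) (Lpr_ef (f9493 IH) (Lpr_ff (f313585 IH) (Lpe (K10.f177639 IH) (Lpn (LP (LK LD1_c0 LD2_c39 LD3_c29))))))))
theorem f237397 : Led Lsl_dt (LP (LK LD1_c1 LD2_c12 LD3_c43)) = (LP (LK LD1_c1 LD2_c9 LD3_c15)) :=
  Lgr Lrot42 (Lpr_df (f237395 IH) (Lpn (LP (LK LD1_c1 LD2_c9 LD3_c15))))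
theorem f177637 : Led Lsl_df (LP (LK LD1_c1 LD2_c12 LD3_c4)) = (LP (LK LD1_c0 LD2_c39 LD3_c29)) :=
  Lgr Lrot38 (Lpr_dt (K10.f177635 IH) (Lpn (LP (LK LD1_c0 LD2_c39 LD3_c29))))
theorem f313629 : Led Lsl_ff (LP (LK LD1_c1 LD2_c12 LD3_c43)) = (LP (LK LD1_c1 LD2_c12 LD3_c4)) :=
  Lgr Lrot19 (Lpr_dt (f237397 IH) (Lpr_ft (f313621 IH) (Lpe (f177637 IH) (Lpn (LP (LK LD1_c1 LD2_c12 LD3_c4))))))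
theorem f313633 : Led Lsl_ft (LP (LK LD1_c1 LD2_c12 LD3_c43)) = (LP (LK LD1_c1 LD2_c12 LD3_c4)) :=
  Lgr Lrot48 (Lpr_ff (f313629 IH) (Lpn (LP (LK LD1_c1 LD2_c12 LD3_c4))))
theorem f313643 : Led Lsl_ff (LP (LK LD1_c0 LD2_c34 LD3_c1)) = (LP (LK LD1_c0 LD2_c33 LD3_c21)) :=
  Lgr Lrot25 (Lpr_bt (f225640 IH) (Lpr_ft (f313633 IH) (Lpr_bt (K10.f177181 IH) (Lpn (LP (LK LD1_c0 LD2_c33 LD3_c21))))))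
theorem f313649 : Led Lsl_at (LP (LK LD1_c0 LD2_c34 LD3_c1)) = (LP (LK LD1_c0 LD2_c33 LD3_c22)) :=
  Lgr Lrot26 (Lpr_ff (f313643 IH) (Lpr_gt (K9.f177175 IH) (Lpe (K9.f165845 IH) (Lpn (LP (LK LD1_c0 LD2_c33 LD3_c22))))))
theorem f313657 : Led Lsl_af (LP (LK LD1_c0 LD2_c39 LD3_c52)) = (LP (LK LD1_c0 LD2_c36 LD3_c47)) :=
  Lgr Lrot50 (Lpe (K9.f177146 IH) (Lpr_at (f313649 IH) (Lpr_et (K9.f164681 IH) (Lpn (LP (LK LD1_c0 LD2_c36 LD3_c47))))))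
theorem f313663 : Led Lsl_ft (LP (LK LD1_c0 LD2_c39 LD3_c51)) = (LP (LK LD1_c0 LD2_c36 LD3_c47)) :=
  Lgr Lrot2 (Lpr_gt (K9.f60197 IH) (Lpe (K9.f60201 IH) (Lpr_af (f313657 IH) (Lpn (LP (LK LD1_c0 LD2_c36 LD3_c47))))))
theorem f313667 : Led Lsl_ft (LP (LK LD1_c0 LD2_c16 LD3_c25)) = (LP (LK LD1_c0 LD2_c36 LD3_c48)) :=
  Lre_f IH (LK LD1_c0 LD2_c16 LD3_c25) (LK LD1_c0 LD2_c36 LD3_c48) Lrfl Lrfl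
theorem f313668 : Led Lsl_df (LP (LK LD1_c0 LD2_c39 LD3_c51)) = (LP (LK LD1_c0 LD2_c36 LD3_c48)) :=
  Lgr Lrot78 (Lpr_ft (f313663 IH) (Lpr_dt (K9.f22411 IH) (Lpr_ft (f313667 IH) (Lpn (LP (LK LD1_c0 LD2_c36 LD3_c48))))))
theorem f313678 : Led Lsl_gf (LP (LK LD1_c1 LD2_c3 LD3_c32)) = (LP (LK LD1_c0 LD2_c36 LD3_c48)) :=
  Lgr Lrot147 (Lpr_ct (K10.f20225 IH) (Lpr_gt (K10.f26947 IH) (Lpe (K10.f173362 IH) (Lpr_df (K10.f193777 IH) (Lpr_cf (K16.f193977 IH) (Lpr_gf (K10.f60126 IH) (Lpe (K9.f59927 IH) (Lpe (K9.f60197 IH) (Lpr_df (f313668 IH) (Lpn (LP (LK LD1_c0 LD2_c36 LD3_c48))))))))))))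
theorem f313675 : Led Lsl_ft (LP (LK LD1_c0 LD2_c36 LD3_c48)) = (LP (LK LD1_c0 LD2_c16 LD3_c25)) :=
  Lre_f IH (LK LD1_c0 LD2_c36 LD3_c48) (LK LD1_c0 LD2_c16 LD3_c25) Lrfl Lrfl
theorem f313680 : Led Lsl_af (LP (LK LD1_c0 LD2_c29 LD3_c1)) = (LP (LK LD1_c0 LD2_c16 LD3_c25)) :=
  Lgr Lrot31 (Lpe (K9.f20218 IH) (Lpr_gf (f313678 IH) (Lpr_ft (f313675 IH) (Lpn (LP (LK LD1_c0 LD2_c16 LD3_c25))))))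
theorem f20224 : Led Lsl_ft (LP (LK LD1_c0 LD2_c29 LD3_c1)) = (LP (LK LD1_c1 LD2_c3 LD3_c33)) :=
  Lre_f IH (LK LD1_c0 LD2_c29 LD3_c1) (LK LD1_c1 LD2_c3 LD3_c33) Lrfl Lrfl
theorem f313685 : Led Lsl_at (LP (LK LD1_c1 LD2_c3 LD3_c33)) = (LP (LK LD1_c0 LD2_c36 LD3_c48)) :=
  Lgr Lrot66 (Lpe (f20224 IH) (Lpr_af (f313680 IH) (Lpe (f313675 IH) (Lpn (LP (LK LD1_c0 LD2_c36 LD3_c48))))))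
theorem f313687 : Led Lsl_af (LP (LK LD1_c1 LD2_c3 LD3_c33)) = (LP (LK LD1_c0 LD2_c36 LD3_c48)) :=
  Lgr Lrot0 (Lpr_at (f313685 IH) (Lpn (LP (LK LD1_c0 LD2_c36 LD3_c48))))
theorem f313689 : Led Lsl_gf (LP (LK LD1_c1 LD2_c3 LD3_c33)) = (LP (LK LD1_c0 LD2_c36 LD3_c45)) :=
  Lgr Lrot76 (Lpr_af (f313687 IH) (Lpe (f313667 IH) (Lpr_gt (K9.f22412 IH) (Lpn (LP (LK LD1_c0 LD2_c36 LD3_c45))))))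
theorem f24233 : Led Lsl_et (LP (LK LD1_c0 LD2_c29 LD3_c49)) = (LP (LK LD1_c1 LD2_c5 LD3_c19)) :=
  Lre_e IH (LK LD1_c0 LD2_c29 LD3_c49) (LK LD1_c1 LD2_c5 LD3_c19) Lrfl Lrfl
theorem f177142 : Led Lsl_gf (LP (LK LD1_c0 LD2_c37 LD3_c37)) = (LP (LK LD1_c1 LD2_c5 LD3_c19)) :=
  Lgr Lrot138 (Lpr_dt (K9.f24520 IH) (Lpe (K9.f146346 IH) (Lpr_df (K9.f177095 IH) (Lpr_et (K9.f146286 IH) (Lpr_gt (K9.f146327 IH) (Lpe (K9.f146340 IH) (Lpr_dt (K9.f176815 IH) (Lpe (K9.f24444 IH) (Lpe (K10.f24225 IH) (Lpr_et (f24233 IH) (Lpn (LP (LK LD1_c1 LD2_c5 LD3_c19)))))))))))))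
theorem f60154 : Led Lsl_gt (LP (LK LD1_c0 LD2_c16 LD3_c38)) = (LP (LK LD1_c0 LD2_c37 LD3_c18)) :=
  Lre_g IH (LK LD1_c0 LD2_c16 LD3_c38) (LK LD1_c0 LD2_c37 LD3_c18) Lrfl Lrfl
theorem f60187 : Led Lsl_gf (LP (LK LD1_c0 LD2_c39 LD3_c43)) = (LP (LK LD1_c0 LD2_c37 LD3_c18)) :=
  Lgr Lrot76 (Lpr_af (K1.f60149 IH) (Lpe (K1.f60148 IH) (Lpr_gt (f60154 IH) (Lpn (LP (LK LD1_c0 LD2_c37 LD3_c18))))))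
theorem f60189 : Led Lsl_et (LP (LK LD1_c0 LD2_c39 LD3_c3)) = (LP (LK LD1_c0 LD2_c37 LD3_c18)) :=
  Lgr Lrot121 (Lpr_dt (K9.f9385 IH) (Lpe (K12.f9450 IH) (Lpr_df (K0.f9409 IH) (Lpr_et (K0.f9441 IH) (Lpe (K9.f9456 IH) (Lpe (K9.f9457 IH) (Lpr_dt (K9.f9458 IH) (Lpe (K9.f22409 IH) (Lpr_df (K0.f9509 IH) (Lpr_gf (f60187 IH) (Lpn (LP (LK LD1_c0 LD2_c37 LD3_c18)))))))))))))
theorem f60191 : Led Lsl_ef (LP (LK LD1_c0 LD2_c39 LD3_c3)) = (LP (LK LD1_c0 LD2_c37 LD3_c18)) :=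
  Lgr Lrot88 (Lpr_et (f60189 IH) (Lpn (LP (LK LD1_c0 LD2_c37 LD3_c18))))
theorem f313693 : Led Lsl_df (LP (LK LD1_c1 LD2_c3 LD3_c33)) = (LP (LK LD1_c0 LD2_c37 LD3_c18)) :=
  Lgr Lrot168 (Lpr_gf (f313689 IH) (Lpr_df (K9.f176895 IH) (Lpe (K9.f176890 IH) (Lpr_gf (f177142 IH) (Lpe (f24233 IH) (Lpr_dt (K10.f24225 IH) (Lpr_gf (K9.f24444 IH) (Lpe (K9.f176815 IH) (Lpr_gf (K11.f176847 IH) (Lpr_ef (f60191 IH) (Lpn (LP (LK LD1_c0 LD2_c37 LD3_c18)))))))))))))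
theorem f20223 : Led Lsl_ft (LP (LK LD1_c1 LD2_c3 LD3_c33)) = (LP (LK LD1_c0 LD2_c29 LD3_c1)) :=
  Lre_f IH (LK LD1_c1 LD2_c3 LD3_c33) (LK LD1_c0 LD2_c29 LD3_c1) Lrfl Lrfl
theorem f313697 : Led Lsl_ft (LP (LK LD1_c0 LD2_c39 LD3_c52)) = (LP (LK LD1_c0 LD2_c37 LD3_c18)) :=
  Lgr Lrot54 (Lpe (K9.f20214 IH) (Lpe (f20223 IH) (Lpr_df (f313693 IH) (Lpn (LP (LK LD1_c0 LD2_c37 LD3_c18))))))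
theorem f313705 : Led Lsl_ff (LP (LK LD1_c0 LD2_c39 LD3_c52)) = (LP (LK LD1_c0 LD2_c37 LD3_c18)) :=
  Lgr Lrot3 (Lpr_ft (f313697 IH) (Lpn (LP (LK LD1_c0 LD2_c37 LD3_c18))))
theorem f313631 : Led Lsl_ft (LP (LK LD1_c0 LD2_c34 LD3_c1)) = (LP (LK LD1_c0 LD2_c33 LD3_c21)) :=
  Lgr Lrot75 (Lpr_bf (f225642 IH) (Lpr_ff (f313629 IH) (Lpe (K10.f164158 IH) (Lpn (LP (LK LD1_c0 LD2_c33 LD3_c21))))))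
theorem f313707 : Led Lsl_ft (LP (LK LD1_c1 LD2_c5 LD3_c16)) = (LP (LK LD1_c0 LD2_c39 LD3_c3)) :=
  Lgr Lrot86 (Lpe (K9.f177173 IH) (Lpe (f313631 IH) (Lpr_ef (K9.f177146 IH) (Lpr_ff (f313705 IH) (Lpe (f60189 IH) (Lpn (LP (LK LD1_c0 LD2_c39 LD3_c3))))))))
theorem f313713 : Led Lsl_af (LP (LK LD1_c1 LD2_c5 LD3_c18)) = (LP (LK LD1_c0 LD2_c39 LD3_c3)) :=
  Lgr Lrot31 (Lpr_gf (K9.f24444 IH) (Lpe (K9.f176810 IH) (Lpr_ft (f313707 IH) (Lpn (LP (LK LD1_c0 LD2_c39 LD3_c3))))))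
theorem f313719 : Led Lsl_at (LP (LK LD1_c0 LD2_c29 LD3_c49)) = (LP (LK LD1_c0 LD2_c17 LD3_c21)) :=
  Lgr Lrot51 (Lpe (K9.f20236 IH) (Lpr_af (f313713 IH) (Lpe (K12.f9451 IH) (Lpn (LP (LK LD1_c0 LD2_c17 LD3_c21))))))
theorem f313723 : Led Lsl_ff (LP (LK LD1_c0 LD2_c29 LD3_c49)) = (LP (LK LD1_c0 LD2_c17 LD3_c20)) :=
  Lgr Lrot52 (Lpr_at (f313719 IH) (Lpe (K12.f9450 IH) (Lpe (K9.f9421 IH) (Lpn (LP (LK LD1_c0 LD2_c17 LD3_c20))))))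
theorem f313731 : Led Lsl_ft (LP (LK LD1_c1 LD2_c5 LD3_c18)) = (LP (LK LD1_c0 LD2_c39 LD3_c2)) :=
  Lgr Lrot54 (Lpe (K10.f24225 IH) (Lpr_ff (f313723 IH) (Lpe (K9.f9399 IH) (Lpn (LP (LK LD1_c0 LD2_c39 LD3_c2))))))
theorem f24227 : Led Lsl_ef (LP (LK LD1_c1 LD2_c5 LD3_c18)) = (LP (LK LD1_c0 LD2_c39 LD3_c51)) :=
  Lgr Lrot88 (Lpr_et (K9.f24219 IH) (Lpn (LP (LK LD1_c0 LD2_c39 LD3_c51))))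
theorem f24230 : Led Lsl_ct (LP (LK LD1_c1 LD2_c26 LD3_c17)) = (LP (LK LD1_c0 LD2_c39 LD3_c51)) :=
  Lre_c IH (LK LD1_c1 LD2_c26 LD3_c17) (LK LD1_c0 LD2_c39 LD3_c51) Lrfl Lrfl
theorem f24231 : Led Lsl_et (LP (LK LD1_c2 LD2_c16 LD3_c46)) = (LP (LK LD1_c1 LD2_c26 LD3_c17)) :=
  Lgr Lrot158 (Lpe (K10.f24229 IH) (Lpr_ef (f24227 IH) (Lpe (f24230 IH) (Lpn (LP (LK LD1_c1 LD2_c26 LD3_c17))))))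
theorem f176755 : Led Lsl_gf (LP (LK LD1_c1 LD2_c26 LD3_c17)) = (LP (LK LD1_c0 LD2_c40 LD3_c53)) :=
  Lgr Lrot141 (Lpe (f24231 IH) (Lpr_dt (K12.f176731 IH) (Lpr_gt (K9.f26578 IH) (Lpe (K9.f20294 IH) (Lpr_et (K10.f20293 IH) (Lpe (K0.f26476 IH) (Lpr_dt (K1.f22458 IH) (Lpr_gt (K2.f68330 IH) (Lpr_df (K2.f59647 IH) (Lpr_et (K2.f60840 IH) (Lpn (LP (LK LD1_c0 LD2_c40 LD3_c53)))))))))))))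
theorem f9537 : Led Lsl_ct (LP (LK LD1_c0 LD2_c39 LD3_c51)) = (LP (LK LD1_c1 LD2_c26 LD3_c17)) :=
  Lre_c IH (LK LD1_c0 LD2_c39 LD3_c51) (LK LD1_c1 LD2_c26 LD3_c17) Lrfl Lrfl
theorem f193981 : Led Lsl_bt (LP (LK LD1_c0 LD2_c39 LD3_c51)) = (LP (LK LD1_c0 LD2_c39 LD3_c51)) :=
  Lgr Lrot130 (Lpr_ct (f9537 IH) (Lpr_gf (f176755 IH) (Lpe (K17.f60442 IH) (Lpr_bt (K2.f60467 IH) (Lpe (K9.f60454 IH) (Lpr_bf (K10.f193775 IH) (Lpr_ct (K10.f193972 IH) (Lpr_gf (K10.f60126 IH) (Lpe (K9.f59927 IH) (Lpe (K9.f60197 IH) (Lpn (LP (LK LD1_c0 LD2_c39 LD3_c51)))))))))))))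
theorem f204919 : Led Lsl_bt (LP (LK LD1_c0 LD2_c36 LD3_c47)) = (LP (LK LD1_c0 LD2_c36 LD3_c47)) :=
  Lgr Lrot119 (Lpe (K9.f164681 IH) (Lpr_bf (K12.f204913 IH) (Lpr_ef (K9.f164676 IH) (Lpn (LP (LK LD1_c0 LD2_c36 LD3_c47))))))
theorem f313665 : Led Lsl_ff (LP (LK LD1_c0 LD2_c39 LD3_c51)) = (LP (LK LD1_c0 LD2_c36 LD3_c47)) :=
  Lgr Lrot25 (Lpr_bt (f193981 IH) (Lpr_ft (f313663 IH) (Lpr_bt (f204919 IH) (Lpn (LP (LK LD1_c0 LD2_c36 LD3_c47))))))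
theorem f313739 : Led Lsl_ff (LP (LK LD1_c0 LD2_c33 LD3_c22)) = (LP (LK LD1_c0 LD2_c34 LD3_c0)) :=
  Lgr Lrot72 (Lpr_et (K9.f164681 IH) (Lpe (f313665 IH) (Lpe (f24227 IH) (Lpr_ft (f313731 IH) (Lpr_et (K12.f186816 IH) (Lpn (LP (LK LD1_c0 LD2_c34 LD3_c0))))))))
theorem f313747 : Led Lsl_ft (LP (LK LD1_c0 LD2_c31 LD3_c39)) = (LP (LK LD1_c0 LD2_c29 LD3_c54)) :=
  Lgr Lrot54 (Lpe (K9.f164679 IH) (Lpr_ff (f313739 IH) (Lpe (K10.f186814 IH) (Lpn (LP (LK LD1_c0 LD2_c29 LD3_c54))))))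
theorem f313753 : Led Lsl_af (LP (LK LD1_c0 LD2_c17 LD3_c44)) = (LP (LK LD1_c0 LD2_c29 LD3_c54)) :=
  Lgr Lrot31 (Lpe (K9.f178979 IH) (Lpe (K9.f164685 IH) (Lpr_ft (f313747 IH) (Lpn (LP (LK LD1_c0 LD2_c29 LD3_c54))))))
theorem f313625 : Led Lsl_ff (LP (LK LD1_c0 LD2_c31 LD3_c58)) = (LP (LK LD1_c0 LD2_c17 LD3_c44)) :=
  Lgr Lrot25 (Lpr_bt (f237393 IH) (Lpr_ft (f313621 IH) (Lpr_bt (K10.f177634 IH) (Lpn (LP (LK LD1_c0 LD2_c17 LD3_c44))))))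
theorem f313761 : Led Lsl_at (LP (LK LD1_c0 LD2_c31 LD3_c58)) = (LP (LK LD1_c0 LD2_c31 LD3_c39)) :=
  Lgr Lrot66 (Lpr_ff (f313625 IH) (Lpr_af (f313753 IH) (Lpe (f313747 IH) (Lpn (LP (LK LD1_c0 LD2_c31 LD3_c39))))))
theorem f313765 : Led Lsl_af (LP (LK LD1_c0 LD2_c29 LD3_c0)) = (LP (LK LD1_c0 LD2_c16 LD3_c24)) :=
  Lgr Lrot50 (Lpr_et (K9.f21235 IH) (Lpr_at (f313761 IH) (Lpr_et (K9.f164678 IH) (Lpn (LP (LK LD1_c0 LD2_c16 LD3_c24))))))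
theorem f313771 : Led Lsl_ft (LP (LK LD1_c0 LD2_c17 LD3_c40)) = (LP (LK LD1_c0 LD2_c16 LD3_c24)) :=
  Lgr Lrot2 (Lpe (K9.f177160 IH) (Lpr_gt (K9.f164705 IH) (Lpr_af (f313765 IH) (Lpn (LP (LK LD1_c0 LD2_c16 LD3_c24))))))
theorem f313781 : Led Lsl_ff (LP (LK LD1_c0 LD2_c7 LD3_c57)) = (LP (LK LD1_c0 LD2_c13 LD3_c12)) :=
  Lgr Lrot72 (Lpr_et (K9.f20635 IH) (Lpr_ft (f313771 IH) (Lpr_et (K9.f9489 IH) (Lpr_ft (f313747 IH) (Lpr_et (K12.f9513 IH) (Lpn (LP (LK LD1_c0 LD2_c13 LD3_c12))))))))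
theorem f313789 : Led Lsl_at (LP (LK LD1_c0 LD2_c7 LD3_c57)) = (LP (LK LD1_c0 LD2_c13 LD3_c11)) :=
  Lgr Lrot26 (Lpr_ff (f313781 IH) (Lpr_gt (K9.f8483 IH) (Lpr_gt (K0.f8384 IH) (Lpn (LP (LK LD1_c0 LD2_c13 LD3_c11))))))
theorem f313759 : Led Lsl_at (LP (LK LD1_c0 LD2_c7 LD3_c58)) = (LP (LK LD1_c0 LD2_c13 LD3_c12)) :=
  Lgr Lrot80 (Lpe (K9.f20581 IH) (Lpr_af (f313753 IH) (Lpe (K10.f22423 IH) (Lpn (LP (LK LD1_c0 LD2_c13 LD3_c12))))))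
theorem f313797 : Led Lsl_ff (LP (LK LD1_c0 LD2_c7 LD3_c58)) = (LP (LK LD1_c0 LD2_c13 LD3_c11)) :=
  Lgr Lrot30 (Lpr_at (f313759 IH) (Lpe (f313781 IH) (Lpr_at (f313789 IH) (Lpn (LP (LK LD1_c0 LD2_c13 LD3_c11))))))
theorem f313801 : Led Lsl_ft (LP (LK LD1_c0 LD2_c17 LD3_c43)) = (LP (LK LD1_c0 LD2_c29 LD3_c52)) :=
  Lgr Lrot54 (Lpe (K9.f9081 IH) (Lpr_ff (f313797 IH) (Lpe (K9.f8413 IH) (Lpn (LP (LK LD1_c0 LD2_c29 LD3_c52))))))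
theorem f313805 : Led Lsl_ff (LP (LK LD1_c0 LD2_c17 LD3_c43)) = (LP (LK LD1_c0 LD2_c29 LD3_c52)) :=
  Lgr Lrot3 (Lpr_ft (f313801 IH) (Lpn (LP (LK LD1_c0 LD2_c29 LD3_c52))))
theorem f313807 : Led Lsl_at (LP (LK LD1_c0 LD2_c17 LD3_c43)) = (LP (LK LD1_c0 LD2_c29 LD3_c53)) :=
  Lgr Lrot26 (Lpr_ff (f313805 IH) (Lpr_gt (K9.f166126 IH) (Lpr_gt (K9.f176939 IH) (Lpn (LP (LK LD1_c0 LD2_c29 LD3_c53))))))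
theorem f313813 : Led Lsl_af (LP (LK LD1_c0 LD2_c29 LD3_c48)) = (LP (LK LD1_c0 LD2_c17 LD3_c20)) :=
  Lgr Lrot50 (Lpe (K9.f20583 IH) (Lpr_at (f313807 IH) (Lpr_et (K9.f21220 IH) (Lpn (LP (LK LD1_c0 LD2_c17 LD3_c20))))))
theorem f313817 : Led Lsl_at (LP (LK LD1_c1 LD2_c5 LD3_c16)) = (LP (LK LD1_c0 LD2_c39 LD3_c2)) :=
  Lgr Lrot51 (Lpe (K9.f20582 IH) (Lpr_af (f313813 IH) (Lpe (K9.f9399 IH) (Lpn (LP (LK LD1_c0 LD2_c39 LD3_c2))))))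
theorem f313823 : Led Lsl_af (LP (LK LD1_c0 LD2_c33 LD3_c21)) = (LP (LK LD1_c0 LD2_c34 LD3_c0)) :=
  Lgr Lrot50 (Lpr_et (K9.f177173 IH) (Lpr_at (f313817 IH) (Lpr_et (K12.f186816 IH) (Lpn (LP (LK LD1_c0 LD2_c34 LD3_c0))))))
theorem f313825 : Led Lsl_at (LP (LK LD1_c1 LD2_c12 LD3_c5)) = (LP (LK LD1_c1 LD2_c13 LD3_c26)) :=
  Lgr Lrot107 (Lpe (K9.f163706 IH) (Lpr_af (f313823 IH) (Lpe (K10.f186813 IH) (Lpn (LP (LK LD1_c1 LD2_c13 LD3_c26))))))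
theorem f313645 : Led Lsl_ft (LP (LK LD1_c1 LD2_c13 LD3_c27)) = (LP (LK LD1_c1 LD2_c12 LD3_c5)) :=
  Lgr Lrot4 (Lpe (K9.f165499 IH) (Lpr_ff (f313643 IH) (Lpe (K9.f164162 IH) (Lpn (LP (LK LD1_c1 LD2_c12 LD3_c5))))))
theorem f313653 : Led Lsl_af (LP (LK LD1_c1 LD2_c13 LD3_c27)) = (LP (LK LD1_c1 LD2_c12 LD3_c6)) :=
  Lgr Lrot68 (Lpr_ct (K14.f165498 IH) (Lpr_at (f313649 IH) (Lpr_ct (K9.f163700 IH) (Lpn (LP (LK LD1_c1 LD2_c12 LD3_c6))))))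
theorem f313831 : Led Lsl_ff (LP (LK LD1_c1 LD2_c12 LD3_c6)) = (LP (LK LD1_c1 LD2_c13 LD3_c26)) :=
  Lgr Lrot30 (Lpe (f313653 IH) (Lpr_ft (f313645 IH) (Lpr_at (f313825 IH) (Lpn (LP (LK LD1_c1 LD2_c13 LD3_c26))))))
theorem f313835 : Led Lsl_ft (LP (LK LD1_c2 LD2_c30 LD3_c11)) = (LP (LK LD1_c2 LD2_c30 LD3_c55)) :=
  Lgr Lrot54 (Lpe (K9.f164099 IH) (Lpr_ff (f313831 IH) (Lpr_df (K10.f194035 IH) (Lpn (LP (LK LD1_c2 LD2_c30 LD3_c55))))))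
theorem f313843 : Led Lsl_ff (LP (LK LD1_c2 LD2_c30 LD3_c11)) = (LP (LK LD1_c2 LD2_c30 LD3_c55)) :=
  Lgr Lrot3 (Lpr_ft (f313835 IH) (Lpn (LP (LK LD1_c2 LD2_c30 LD3_c55))))
theorem f313851 : Led Lsl_at (LP (LK LD1_c2 LD2_c30 LD3_c11)) = (LP (LK LD1_c2 LD2_c30 LD3_c54)) :=
  Lgr Lrot26 (Lpr_ff (f313843 IH) (Lpr_gt (K10.f165671 IH) (Lpr_gt (K14.f22224 IH) (Lpn (LP (LK LD1_c2 LD2_c30 LD3_c54))))))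
theorem f177353 : Led Lsl_et (LP (LK LD1_c5 LD2_c5 LD3_c53)) = (LP (LK LD1_c2 LD2_c30 LD3_c11)) :=
  Lre_e IH (LK LD1_c5 LD2_c5 LD3_c53) (LK LD1_c2 LD2_c30 LD3_c11) Lrfl Lrfl
theorem f250186 : Led Lsl_et (LP (LK LD1_c2 LD2_c30 LD3_c54)) = (LP (LK LD1_c5 LD2_c7 LD3_c7)) :=
  Lre_e IH (LK LD1_c2 LD2_c30 LD3_c54) (LK LD1_c5 LD2_c7 LD3_c7) Lrfl Lrfl
theorem f313859 : Led Lsl_af (LP (LK LD1_c5 LD2_c5 LD3_c53)) = (LP (LK LD1_c5 LD2_c7 LD3_c7)) :=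
  Lgr Lrot50 (Lpr_et (f177353 IH) (Lpr_at (f313851 IH) (Lpr_et (f250186 IH) (Lpn (LP (LK LD1_c5 LD2_c7 LD3_c7))))))
theorem f165311 : Led Lsl_et (LP (LK LD1_c5 LD2_c2 LD3_c20)) = (LP (LK LD1_c9 LD2_c55 LD3_c32)) :=
  Lre_e IH (LK LD1_c5 LD2_c2 LD3_c20) (LK LD1_c9 LD2_c55 LD3_c32) Lrfl Lrfl
theorem f177354 : Led Lsl_ct (LP (LK LD1_c9 LD2_c55 LD3_c32)) = (LP (LK LD1_c5 LD2_c5 LD3_c53)) :=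
  Lgr Lrot15 (Lpe (f165311 IH) (Lpr_cf (K10.f177313 IH) (Lpe (f177353 IH) (Lpn (LP (LK LD1_c5 LD2_c5 LD3_c53))))))
theorem f177357 : Led Lsl_cf (LP (LK LD1_c9 LD2_c55 LD3_c32)) = (LP (LK LD1_c5 LD2_c5 LD3_c53)) :=
  Lgr Lrot11 (Lpr_ct (f177354 IH) (Lpn (LP (LK LD1_c5 LD2_c5 LD3_c53))))
theorem f165451 : Led Lsl_et (LP (LK LD1_c9 LD2_c59 LD3_c7)) = (LP (LK LD1_c5 LD2_c4 LD3_c8)) :=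
  Lre_e IH (LK LD1_c9 LD2_c59 LD3_c7) (LK LD1_c5 LD2_c4 LD3_c8) Lrfl Lrfl
theorem f250194 : Led Lsl_ct (LP (LK LD1_c5 LD2_c7 LD3_c7)) = (LP (LK LD1_c9 LD2_c59 LD3_c7)) :=
  Lgr Lrot15 (Lpe (f250186 IH) (Lpr_cf (K15.f250189 IH) (Lpe (f165451 IH) (Lpn (LP (LK LD1_c9 LD2_c59 LD3_c7))))))
theorem f250196 : Led Lsl_cf (LP (LK LD1_c5 LD2_c7 LD3_c7)) = (LP (LK LD1_c9 LD2_c59 LD3_c7)) :=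
  Lgr Lrot11 (Lpr_ct (f250194 IH) (Lpn (LP (LK LD1_c9 LD2_c59 LD3_c7))))
theorem f313863 : Led Lsl_at (LP (LK LD1_c9 LD2_c55 LD3_c32)) = (LP (LK LD1_c9 LD2_c59 LD3_c7)) :=
  Lgr Lrot107 (Lpr_cf (f177357 IH) (Lpr_af (f313859 IH) (Lpr_cf (f250196 IH) (Lpn (LP (LK LD1_c9 LD2_c59 LD3_c7))))))
theorem f313865 : Led Lsl_af (LP (LK LD1_c9 LD2_c55 LD3_c32)) = (LP (LK LD1_c9 LD2_c59 LD3_c7)) :=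
  Lgr Lrot0 (Lpr_at (f313863 IH) (Lpn (LP (LK LD1_c9 LD2_c59 LD3_c7))))
theorem f177360 : Led Lsl_et (LP (LK LD1_c9 LD2_c55 LD3_c32)) = (LP (LK LD1_c5 LD2_c2 LD3_c20)) :=
  Lre_e IH (LK LD1_c9 LD2_c55 LD3_c32) (LK LD1_c5 LD2_c2 LD3_c20) Lrfl Lrfl
theorem f250179 : Led Lsl_et (LP (LK LD1_c5 LD2_c4 LD3_c8)) = (LP (LK LD1_c9 LD2_c59 LD3_c7)) :=
  Lre_e IH (LK LD1_c5 LD2_c4 LD3_c8) (LK LD1_c9 LD2_c59 LD3_c7) Lrfl Lrfl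
theorem f313867 : Led Lsl_at (LP (LK LD1_c5 LD2_c2 LD3_c20)) = (LP (LK LD1_c5 LD2_c4 LD3_c8)) :=
  Lgr Lrot80 (Lpe (f177360 IH) (Lpr_af (f313865 IH) (Lpe (f250179 IH) (Lpn (LP (LK LD1_c5 LD2_c4 LD3_c8))))))
theorem f313869 : Led Lsl_af (LP (LK LD1_c2 LD2_c28 LD3_c45)) = (LP (LK LD1_c2 LD2_c31 LD3_c59)) :=
  Lgr Lrot117 (Lpr_dt (K9.f165288 IH) (Lpr_at (f313867 IH) (Lpe (K14.f249981 IH) (Lpn (LP (LK LD1_c2 LD2_c31 LD3_c59))))))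
theorem f313881 : Led Lsl_ft (LP (LK LD1_c2 LD2_c28 LD3_c47)) = (LP (LK LD1_c2 LD2_c31 LD3_c59)) :=
  Lgr Lrot2 (Lpe (K9.f169827 IH) (Lpe (K9.f177309 IH) (Lpr_af (f313869 IH) (Lpn (LP (LK LD1_c2 LD2_c31 LD3_c59))))))
theorem f313889 : Led Lsl_ff (LP (LK LD1_c2 LD2_c28 LD3_c47)) = (LP (LK LD1_c2 LD2_c31 LD3_c59)) :=
  Lgr Lrot3 (Lpr_ft (f313881 IH) (Lpn (LP (LK LD1_c2 LD2_c31 LD3_c59))))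
theorem f313897 : Led Lsl_at (LP (LK LD1_c2 LD2_c28 LD3_c47)) = (LP (LK LD1_c2 LD2_c31 LD3_c61)) :=
  Lgr Lrot26 (Lpr_ff (f313889 IH) (Lpr_gt (K10.f165511 IH) (Lpe (K13.f185270 IH) (Lpn (LP (LK LD1_c2 LD2_c31 LD3_c61))))))
theorem f313871 : Led Lsl_at (LP (LK LD1_c2 LD2_c28 LD3_c45)) = (LP (LK LD1_c2 LD2_c31 LD3_c59)) :=
  Lgr Lrot100 (Lpr_af (f313869 IH) (Lpn (LP (LK LD1_c2 LD2_c31 LD3_c59))))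
theorem f313909 : Led Lsl_ff (LP (LK LD1_c2 LD2_c28 LD3_c45)) = (LP (LK LD1_c2 LD2_c31 LD3_c61)) :=
  Lgr Lrot30 (Lpr_at (f313871 IH) (Lpe (f313889 IH) (Lpr_at (f313897 IH) (Lpn (LP (LK LD1_c2 LD2_c31 LD3_c61))))))
theorem f313916 : Led Lsl_ft (LP (LK LD1_c2 LD2_c28 LD3_c45)) = (LP (LK LD1_c2 LD2_c31 LD3_c61)) :=
  Lgr Lrot48 (Lpr_ff (f313909 IH) (Lpn (LP (LK LD1_c2 LD2_c31 LD3_c61))))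
theorem f313920 : Led Lsl_ff (LP (LK LD1_c1 LD2_c11 LD3_c33)) = (LP (LK LD1_c1 LD2_c13 LD3_c1)) :=
  Lgr Lrot23 (Lpr_ct (K9.f165279 IH) (Lpr_ft (f313916 IH) (Lpr_ct (K13.f165484 IH) (Lpn (LP (LK LD1_c1 LD2_c13 LD3_c1))))))
theorem f313927 : Led Lsl_ft (LP (LK LD1_c0 LD2_c39 LD3_c32)) = (LP (LK LD1_c0 LD2_c58 LD3_c46)) :=
  Lgr Lrot54 (Lpe (K10.f177368 IH) (Lpr_ff (f313920 IH) (Lpe (K13.f180596 IH) (Lpn (LP (LK LD1_c0 LD2_c58 LD3_c46))))))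
theorem f253496 : Led Lsl_gf (LP (LK LD1_c1 LD2_c0 LD3_c23)) = (LP (LK LD1_c0 LD2_c58 LD3_c47)) :=
  Lgr Lrot104 (Lpr_ct (K10.f171224 IH) (Lpe (K9.f164679 IH) (Lpe (K9.f163704 IH) (Lpe (K9.f177201 IH) (Lpe (K9.f28369 IH) (Lpr_gf (K10.f175302 IH) (Lpe (K9.f28337 IH) (Lpr_gt (K14.f253490 IH) (Lpr_ct (K14.f199157 IH) (Lpn (LP (LK LD1_c0 LD2_c58 LD3_c47))))))))))))
theorem f313933 : Led Lsl_af (LP (LK LD1_c1 LD2_c0 LD3_c23)) = (LP (LK LD1_c0 LD2_c58 LD3_c46)) :=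
  Lgr Lrot31 (Lpr_gf (f253496 IH) (Lpe (K14.f253519 IH) (Lpr_ft (f313927 IH) (Lpn (LP (LK LD1_c0 LD2_c58 LD3_c46))))))
theorem f313935 : Led Lsl_at (LP (LK LD1_c0 LD2_c36 LD3_c44)) = (LP (LK LD1_c0 LD2_c58 LD3_c58)) :=
  Lgr Lrot80 (Lpe (K9.f171231 IH) (Lpr_af (f313933 IH) (Lpr_ef (K9.f181875 IH) (Lpn (LP (LK LD1_c0 LD2_c58 LD3_c58))))))
theorem f313939 : Led Lsl_ff (LP (LK LD1_c0 LD2_c36 LD3_c44)) = (LP (LK LD1_c0 LD2_c39 LD3_c25)) :=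
  Lgr Lrot52 (Lpr_at (f313935 IH) (Lpe (K9.f178299 IH) (Lpe (K9.f178297 IH) (Lpn (LP (LK LD1_c0 LD2_c39 LD3_c25))))))
theorem f313943 : Led Lsl_ft (LP (LK LD1_c0 LD2_c54 LD3_c45)) = (LP (LK LD1_c0 LD2_c32 LD3_c25)) :=
  Lgr Lrot54 (Lpr_df (K9.f171261 IH) (Lpr_ff (f313939 IH) (Lpe (K9.f168824 IH) (Lpn (LP (LK LD1_c0 LD2_c32 LD3_c25))))))
theorem f313953 : Led Lsl_af (LP (LK LD1_c0 LD2_c54 LD3_c46)) = (LP (LK LD1_c0 LD2_c32 LD3_c25)) :=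
  Lgr Lrot31 (Lpr_gf (K13.f238311 IH) (Lpe (K9.f179510 IH) (Lpr_ft (f313943 IH) (Lpn (LP (LK LD1_c0 LD2_c32 LD3_c25))))))
theorem f313937 : Led Lsl_af (LP (LK LD1_c0 LD2_c54 LD3_c45)) = (LP (LK LD1_c0 LD2_c32 LD3_c24)) :=
  Lgr Lrot117 (Lpr_dt (K14.f171268 IH) (Lpr_at (f313935 IH) (Lpe (K9.f178475 IH) (Lpn (LP (LK LD1_c0 LD2_c32 LD3_c24))))))
theorem f313963 : Led Lsl_ft (LP (LK LD1_c0 LD2_c54 LD3_c46)) = (LP (LK LD1_c0 LD2_c32 LD3_c24)) :=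
  Lgr Lrot101 (Lpr_af (f313953 IH) (Lpe (f313943 IH) (Lpr_af (f313937 IH) (Lpn (LP (LK LD1_c0 LD2_c32 LD3_c24))))))
theorem f313974 : Led Lsl_ff (LP (LK LD1_c0 LD2_c54 LD3_c46)) = (LP (LK LD1_c0 LD2_c32 LD3_c24)) :=
  Lgr Lrot3 (Lpr_ft (f313963 IH) (Lpn (LP (LK LD1_c0 LD2_c32 LD3_c24))))
theorem f313982 : Led Lsl_ft (LP (LK LD1_c0 LD2_c36 LD3_c55)) = (LP (LK LD1_c0 LD2_c58 LD3_c58)) :=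
  Lgr Lrot54 (Lpr_df (K13.f238309 IH) (Lpr_ff (f313974 IH) (Lpr_df (K9.f178475 IH) (Lpn (LP (LK LD1_c0 LD2_c58 LD3_c58))))))
theorem f313989 : Led Lsl_ff (LP (LK LD1_c1 LD2_c19 LD3_c46)) = (LP (LK LD1_c0 LD2_c56 LD3_c23)) :=
  Lgr Lrot25 (Lpr_bt (K13.f211250 IH) (Lpr_ft (f313982 IH) (Lpr_bt (K15.f224865 IH) (Lpn (LP (LK LD1_c0 LD2_c56 LD3_c23))))))
theorem f313995 : Led Lsl_at (LP (LK LD1_c1 LD2_c19 LD3_c46)) = (LP (LK LD1_c0 LD2_c56 LD3_c31)) :=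
  Lgr Lrot26 (Lpr_ff (f313989 IH) (Lpr_gt (K13.f197267 IH) (Lpe (K13.f226879 IH) (Lpn (LP (LK LD1_c0 LD2_c56 LD3_c31))))))
theorem f189865 : Led Lsl_et (LP (LK LD1_c0 LD2_c56 LD3_c31)) = (LP (LK LD1_c1 LD2_c0 LD3_c46)) :=
  Lgr Lrot158 (Lpe (K11.f53102 IH) (Lpr_ef (K10.f53100 IH) (Lpr_cf (K10.f189860 IH) (Lpn (LP (LK LD1_c1 LD2_c0 LD3_c46))))))
theorem f314005 : Led Lsl_af (LP (LK LD1_c0 LD2_c57 LD3_c18)) = (LP (LK LD1_c1 LD2_c0 LD3_c46)) :=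
  Lgr Lrot50 (Lpe (K11.f211246 IH) (Lpr_at (f313995 IH) (Lpr_et (f189865 IH) (Lpn (LP (LK LD1_c1 LD2_c0 LD3_c46))))))
theorem f314015 : Led Lsl_ft (LP (LK LD1_c1 LD2_c0 LD3_c55)) = (LP (LK LD1_c1 LD2_c0 LD3_c46)) :=
  Lgr Lrot2 (Lpr_gt (K13.f28677 IH) (Lpe (K10.f190222 IH) (Lpr_af (f314005 IH) (Lpn (LP (LK LD1_c1 LD2_c0 LD3_c46))))))
theorem f314023 : Led Lsl_ff (LP (LK LD1_c1 LD2_c0 LD3_c55)) = (LP (LK LD1_c1 LD2_c0 LD3_c46)) :=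
  Lgr Lrot3 (Lpr_ft (f314015 IH) (Lpn (LP (LK LD1_c1 LD2_c0 LD3_c46))))
theorem f314031 : Led Lsl_at (LP (LK LD1_c1 LD2_c0 LD3_c55)) = (LP (LK LD1_c0 LD2_c39 LD3_c30)) :=
  Lgr Lrot26 (Lpr_ff (f314023 IH) (Lpe (K10.f32029 IH) (Lpe (K9.f182036 IH) (Lpn (LP (LK LD1_c0 LD2_c39 LD3_c30))))))
theorem f314007 : Led Lsl_at (LP (LK LD1_c0 LD2_c57 LD3_c18)) = (LP (LK LD1_c1 LD2_c0 LD3_c46)) :=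
  Lgr Lrot100 (Lpr_af (f314005 IH) (Lpn (LP (LK LD1_c1 LD2_c0 LD3_c46))))
theorem f314041 : Led Lsl_ff (LP (LK LD1_c0 LD2_c57 LD3_c18)) = (LP (LK LD1_c0 LD2_c39 LD3_c30)) :=
  Lgr Lrot30 (Lpr_at (f314007 IH) (Lpe (f314023 IH) (Lpr_at (f314031 IH) (Lpn (LP (LK LD1_c0 LD2_c39 LD3_c30))))))
theorem f314047 : Led Lsl_ft (LP (LK LD1_c0 LD2_c57 LD3_c18)) = (LP (LK LD1_c0 LD2_c39 LD3_c30)) :=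
  Lgr Lrot48 (Lpr_ff (f314041 IH) (Lpn (LP (LK LD1_c0 LD2_c39 LD3_c30))))
theorem f314053 : Led Lsl_ff (LP (LK LD1_c1 LD2_c59 LD3_c15)) = (LP (LK LD1_c1 LD2_c25 LD3_c36)) :=
  Lgr Lrot72 (Lpr_et (K13.f224870 IH) (Lpe (f313989 IH) (Lpr_et (K11.f211256 IH) (Lpr_ft (f314047 IH) (Lpr_et (K10.f177600 IH) (Lpn (LP (LK LD1_c1 LD2_c25 LD3_c36))))))))
theorem f285819 : Led Lsl_gf (LP (LK LD1_c2 LD2_c8 LD3_c39)) = (LP (LK LD1_c1 LD2_c25 LD3_c36)) :=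
  Lgr Lrot147 (Lpr_ct (K17.f173243 IH) (Lpr_gt (K17.f285805 IH) (Lpr_ct (K13.f53171 IH) (Lpr_df (K13.f237005 IH) (Lpe (K13.f182004 IH) (Lpe (K13.f242835 IH) (Lpe (K13.f165477 IH) (Lpe (K14.f242297 IH) (Lpr_df (K10.f177601 IH) (Lpn (LP (LK LD1_c1 LD2_c25 LD3_c36))))))))))))
theorem f285813 : Led Lsl_gt (LP (LK LD1_c2 LD2_c8 LD3_c39)) = (LP (LK LD1_c2 LD2_c26 LD3_c7)) :=
  Lgr Lrot94 (Lpe (K12.f173234 IH) (Lpr_gt (K17.f285805 IH) (Lpe (K13.f227307 IH) (Lpr_gt (K12.f60717 IH) (Lpr_dt (K10.f56329 IH) (Lpr_cf (K10.f192959 IH) (Lpe (K12.f182047 IH) (Lpe (K12.f182044 IH) (Lpe (K12.f229234 IH) (Lpn (LP (LK LD1_c2 LD2_c26 LD3_c7))))))))))))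
theorem f314059 : Led Lsl_at (LP (LK LD1_c1 LD2_c59 LD3_c15)) = (LP (LK LD1_c2 LD2_c26 LD3_c7)) :=
  Lgr Lrot26 (Lpr_ff (f314053 IH) (Lpe (f285819 IH) (Lpr_gt (f285813 IH) (Lpn (LP (LK LD1_c2 LD2_c26 LD3_c7))))))
theorem f314069 : Led Lsl_af (LP (LK LD1_c0 LD2_c56 LD3_c23)) = (LP (LK LD1_c1 LD2_c57 LD3_c25)) :=
  Lgr Lrot50 (Lpr_et (K12.f193263 IH) (Lpr_at (f314059 IH) (Lpr_et (K12.f182376 IH) (Lpn (LP (LK LD1_c1 LD2_c57 LD3_c25))))))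
theorem f314079 : Led Lsl_ft (LP (LK LD1_c0 LD2_c56 LD3_c31)) = (LP (LK LD1_c1 LD2_c57 LD3_c25)) :=
  Lgr Lrot101 (Lpe (f313995 IH) (Lpr_ff (f313989 IH) (Lpr_af (f314069 IH) (Lpn (LP (LK LD1_c1 LD2_c57 LD3_c25))))))
theorem f314089 : Led Lsl_ff (LP (LK LD1_c0 LD2_c56 LD3_c31)) = (LP (LK LD1_c1 LD2_c57 LD3_c25)) :=
  Lgr Lrot3 (Lpr_ft (f314079 IH) (Lpn (LP (LK LD1_c1 LD2_c57 LD3_c25))))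
theorem f314095 : Led Lsl_ft (LP (LK LD1_c2 LD2_c7 LD3_c40)) = (LP (LK LD1_c2 LD2_c26 LD3_c7)) :=
  Lgr Lrot86 (Lpe (K15.f33151 IH) (Lpr_ff (f314023 IH) (Lpe (f189865 IH) (Lpr_ff (f314089 IH) (Lpe (K12.f182376 IH) (Lpn (LP (LK LD1_c2 LD2_c26 LD3_c7))))))))
theorem f33149 : Led Lsl_df (LP (LK LD1_c2 LD2_c7 LD3_c40)) = (LP (LK LD1_c2 LD2_c31 LD3_c29)) :=
  Lgr Lrot38 (Lpr_dt (K13.f33145 IH) (Lpn (LP (LK LD1_c2 LD2_c31 LD3_c29))))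
theorem f314101 : Led Lsl_ff (LP (LK LD1_c2 LD2_c31 LD3_c29)) = (LP (LK LD1_c4 LD2_c1 LD3_c40)) :=
  Lgr Lrot19 (Lpe (f33149 IH) (Lpr_ft (f314095 IH) (Lpr_dt (K12.f229234 IH) (Lpn (LP (LK LD1_c4 LD2_c1 LD3_c40))))))
theorem f314111 : Led Lsl_at (LP (LK LD1_c2 LD2_c31 LD3_c29)) = (LP (LK LD1_c2 LD2_c28 LD3_c44)) :=
  Lgr Lrot26 (Lpr_ff (f314101 IH) (Lpr_gt (K12.f182044 IH) (Lpe (K10.f182042 IH) (Lpn (LP (LK LD1_c2 LD2_c28 LD3_c44))))))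
theorem f313925 : Led Lsl_ft (LP (LK LD1_c2 LD2_c28 LD3_c44)) = (LP (LK LD1_c2 LD2_c31 LD3_c30)) :=
  Lgr Lrot75 (Lpe (K10.f165306 IH) (Lpr_ff (f313920 IH) (Lpr_bf (K13.f240256 IH) (Lpn (LP (LK LD1_c2 LD2_c31 LD3_c30))))))
theorem f314121 : Led Lsl_af (LP (LK LD1_c4 LD2_c1 LD3_c40)) = (LP (LK LD1_c2 LD2_c31 LD3_c30)) :=
  Lgr Lrot45 (Lpe (f314101 IH) (Lpr_at (f314111 IH) (Lpr_ft (f313925 IH) (Lpn (LP (LK LD1_c2 LD2_c31 LD3_c30))))))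
theorem f314127 : Led Lsl_at (LP (LK LD1_c4 LD2_c14 LD3_c40)) = (LP (LK LD1_c4 LD2_c55 LD3_c55)) :=
  Lgr Lrot80 (Lpr_ef (K13.f229238 IH) (Lpr_af (f314121 IH) (Lpe (K13.f240288 IH) (Lpn (LP (LK LD1_c4 LD2_c55 LD3_c55))))))
theorem f314133 : Led Lsl_af (LP (LK LD1_c2 LD2_c4 LD3_c42)) = (LP (LK LD1_c2 LD2_c25 LD3_c44)) :=
  Lgr Lrot117 (Lpr_dt (K13.f190956 IH) (Lpr_at (f314127 IH) (Lpr_dt (K13.f240296 IH) (Lpn (LP (LK LD1_c2 LD2_c25 LD3_c44))))))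
theorem f314145 : Led Lsl_ft (LP (LK LD1_c4 LD2_c55 LD3_c56)) = (LP (LK LD1_c2 LD2_c25 LD3_c44)) :=
  Lre_f IH (LK LD1_c4 LD2_c55 LD3_c56) (LK LD1_c2 LD2_c25 LD3_c44) Lrfl Lrfl
theorem f314148 : Led Lsl_gf (LP (LK LD1_c4 LD2_c14 LD3_c39)) = (LP (LK LD1_c4 LD2_c55 LD3_c56)) :=
  Lgr Lrot47 (Lpr_gt (K14.f226889 IH) (Lpr_af (f314133 IH) (Lpe (f314145 IH) (Lpn (LP (LK LD1_c4 LD2_c55 LD3_c56))))))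
theorem f21986 : Led Lsl_et (LP (LK LD1_c1 LD2_c11 LD3_c26)) = (LP (LK LD1_c2 LD2_c28 LD3_c26)) :=
  Lre_e IH (LK LD1_c1 LD2_c11 LD3_c26) (LK LD1_c2 LD2_c28 LD3_c26) Lrfl Lrfl
theorem f21987 : Led Lsl_gt (LP (LK LD1_c2 LD2_c28 LD3_c26)) = (LP (LK LD1_c5 LD2_c1 LD3_c27)) :=
  Lre_g IH (LK LD1_c2 LD2_c28 LD3_c26) (LK LD1_c5 LD2_c1 LD3_c27) Lrfl Lrfl
theorem f314152 : Led Lsl_dt (LP (LK LD1_c5 LD2_c1 LD3_c27)) = (LP (LK LD1_c4 LD2_c55 LD3_c56)) :=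
  Lgr Lrot171 (Lpe (f21987 IH) (Lpe (f21986 IH) (Lpr_dt (K15.f3781 IH) (Lpe (K9.f3731 IH) (Lpe (K10.f3425 IH) (Lpr_et (K10.f21985 IH) (Lpe (K14.f21976 IH) (Lpr_ef (K14.f239625 IH) (Lpr_dt (K14.f239620 IH) (Lpr_gf (f314148 IH) (Lpn (LP (LK LD1_c4 LD2_c55 LD3_c56)))))))))))))
theorem f314158 : Led Lsl_et (LP (LK LD1_c5 LD2_c1 LD3_c27)) = (LP (LK LD1_c9 LD2_c53 LD3_c12)) :=
  Lre_e IH (LK LD1_c5 LD2_c1 LD3_c27) (LK LD1_c9 LD2_c53 LD3_c12) Lrfl Lrfl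
theorem f33947 : Led Lsl_gt (LP (LK LD1_c5 LD2_c9 LD3_c25)) = (LP (LK LD1_c2 LD2_c31 LD3_c49)) :=
  Lre_g IH (LK LD1_c5 LD2_c9 LD3_c25) (LK LD1_c2 LD2_c31 LD3_c49) Lrfl Lrfl
theorem f33948 : Led Lsl_gt (LP (LK LD1_c5 LD2_c0 LD3_c56)) = (LP (LK LD1_c5 LD2_c9 LD3_c25)) :=
  Lgr Lrot5 (Lpe (K10.f33871 IH) (Lpr_at (K0.f33937 IH) (Lpe (f33947 IH) (Lpn (LP (LK LD1_c5 LD2_c9 LD3_c25))))))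
theorem f33975 : Led Lsl_dt (LP (LK LD1_c10 LD2_c9 LD3_c34)) = (LP (LK LD1_c5 LD2_c9 LD3_c25)) :=
  Lre_d IH (LK LD1_c10 LD2_c9 LD3_c34) (LK LD1_c5 LD2_c9 LD3_c25) Lrfl Lrfl
theorem f246871 : Led Lsl_et (LP (LK LD1_c7 LD2_c58 LD3_c47)) = (LP (LK LD1_c15 LD2_c3 LD3_c24)) :=
  Lre_e IH (LK LD1_c7 LD2_c58 LD3_c47) (LK LD1_c15 LD2_c3 LD3_c24) Lrfl Lrfl
theorem f33976 : Led Lsl_et (LP (LK LD1_c5 LD2_c1 LD3_c6)) = (LP (LK LD1_c2 LD2_c28 LD3_c18)) :=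
  Lre_e IH (LK LD1_c5 LD2_c1 LD3_c6) (LK LD1_c2 LD2_c28 LD3_c18) Lrfl Lrfl
theorem f33977 : Led Lsl_et (LP (LK LD1_c10 LD2_c9 LD3_c35)) = (LP (LK LD1_c5 LD2_c9 LD3_c25)) :=
  Lre_e IH (LK LD1_c10 LD2_c9 LD3_c35) (LK LD1_c5 LD2_c9 LD3_c25) Lrfl Lrfl
theorem f246860 : Led Lsl_df (LP (LK LD1_c7 LD2_c58 LD3_c47)) = (LP (LK LD1_c10 LD2_c9 LD3_c35)) :=
  Lgr Lrot170 (Lpr_gt (f171312 IH) (Lpr_df (K14.f246829 IH) (Lpr_et (f33976 IH) (Lpr_gt (K14.f3688 IH) (Lpr_dt (K15.f3687 IH) (Lpr_gt (K0.f3686 IH) (Lpe (K10.f3425 IH) (Lpr_et (K10.f21985 IH) (Lpr_gt (f33948 IH) (Lpe (f33977 IH) (Lpn (LP (LK LD1_c10 LD2_c9 LD3_c35)))))))))))))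
theorem f193254 : Led Lsl_et (LP (LK LD1_c5 LD2_c9 LD3_c25)) = (LP (LK LD1_c10 LD2_c9 LD3_c35)) :=
  Lre_e IH (LK LD1_c5 LD2_c9 LD3_c25) (LK LD1_c10 LD2_c9 LD3_c35) Lrfl Lrfl
theorem f246906 : Led Lsl_et (LP (LK LD1_c10 LD2_c7 LD3_c30)) = (LP (LK LD1_c10 LD2_c9 LD3_c34)) :=
  Lgr Lrot71 (Lpr_df (f246896 IH) (Lpe (f246871 IH) (Lpr_df (f246860 IH) (Lpe (f193254 IH) (Lpe (f33975 IH) (Lpn (LP (LK LD1_c10 LD2_c9 LD3_c34))))))))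
theorem f246916 : Led Lsl_ef (LP (LK LD1_c10 LD2_c7 LD3_c30)) = (LP (LK LD1_c10 LD2_c9 LD3_c34)) :=
  Lgr Lrot88 (Lpr_et (f246906 IH) (Lpn (LP (LK LD1_c10 LD2_c9 LD3_c34))))
theorem f314159 : Led Lsl_gf (LP (LK LD1_c9 LD2_c53 LD3_c12)) = (LP (LK LD1_c10 LD2_c7 LD3_c30)) :=
  Lgr Lrot141 (Lpe (f314158 IH) (Lpr_dt (f314152 IH) (Lpe (f314148 IH) (Lpe (K14.f239620 IH) (Lpe (K14.f239625 IH) (Lpr_gt (K14.f21976 IH) (Lpe (K10.f33336 IH) (Lpr_gt (f33948 IH) (Lpe (f33975 IH) (Lpe (f246916 IH) (Lpn (LP (LK LD1_c10 LD2_c7 LD3_c30)))))))))))))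
theorem f33169 : Led Lsl_ft (LP (LK LD1_c5 LD2_c8 LD3_c33)) = (LP (LK LD1_c10 LD2_c7 LD3_c32)) :=
  Lre_f IH (LK LD1_c5 LD2_c8 LD3_c33) (LK LD1_c10 LD2_c7 LD3_c32) Lrfl Lrfl
theorem f314161 : Led Lsl_af (LP (LK LD1_c9 LD2_c53 LD3_c12)) = (LP (LK LD1_c10 LD2_c7 LD3_c32)) :=
  Lgr Lrot31 (Lpr_gf (f314159 IH) (Lpe (f33175 IH) (Lpr_ft (f33169 IH) (Lpn (LP (LK LD1_c10 LD2_c7 LD3_c32))))))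
theorem f314119 : Led Lsl_af (LP (LK LD1_c5 LD2_c8 LD3_c33)) = (LP (LK LD1_c5 LD2_c2 LD3_c18)) :=
  Lgr Lrot50 (Lpr_et (f33179 IH) (Lpr_at (f314111 IH) (Lpr_et (K10.f177597 IH) (Lpn (LP (LK LD1_c5 LD2_c2 LD3_c18))))))
theorem f314169 : Led Lsl_ft (LP (LK LD1_c9 LD2_c53 LD3_c12)) = (LP (LK LD1_c5 LD2_c2 LD3_c18)) :=
  Lgr Lrot101 (Lpr_af (f314161 IH) (Lpe (f33169 IH) (Lpr_af (f314119 IH) (Lpn (LP (LK LD1_c5 LD2_c2 LD3_c18))))))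
theorem f314177 : Led Lsl_ff (LP (LK LD1_c9 LD2_c53 LD3_c12)) = (LP (LK LD1_c5 LD2_c2 LD3_c18)) :=
  Lgr Lrot3 (Lpr_ft (f314169 IH) (Lpn (LP (LK LD1_c5 LD2_c2 LD3_c18))))
theorem f314165 : Led Lsl_at (LP (LK LD1_c9 LD2_c53 LD3_c12)) = (LP (LK LD1_c10 LD2_c7 LD3_c32)) :=
  Lgr Lrot100 (Lpr_af (f314161 IH) (Lpn (LP (LK LD1_c10 LD2_c7 LD3_c32))))
theorem f314193 : Led Lsl_gf (LP (LK LD1_c10 LD2_c7 LD3_c32)) = (LP (LK LD1_c9 LD2_c55 LD3_c25)) :=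
  Lgr Lrot76 (Lpe (f314165 IH) (Lpr_ff (f314177 IH) (Lpr_gt (K13.f169621 IH) (Lpn (LP (LK LD1_c9 LD2_c55 LD3_c25))))))
theorem f21974 : Led Lsl_et (LP (LK LD1_c2 LD2_c28 LD3_c39)) = (LP (LK LD1_c1 LD2_c11 LD3_c31)) :=
  Lre_e IH (LK LD1_c2 LD2_c28 LD3_c39) (LK LD1_c1 LD2_c11 LD3_c31) Lrfl Lrfl
theorem f246953 : Led Lsl_gt (LP (LK LD1_c5 LD2_c35 LD3_c36)) = (LP (LK LD1_c2 LD2_c43 LD3_c44)) :=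
  Lre_g IH (LK LD1_c5 LD2_c35 LD3_c36) (LK LD1_c2 LD2_c43 LD3_c44) Lrfl Lrfl
theorem f314195 : Led Lsl_dt (LP (LK LD1_c10 LD2_c7 LD3_c32)) = (LP (LK LD1_c5 LD2_c35 LD3_c36)) :=
  Lgr Lrot171 (Lpr_gf (f314193 IH) (Lpr_ef (K13.f239526 IH) (Lpr_dt (K13.f33935 IH) (Lpe (K13.f21965 IH) (Lpr_df (K0.f33918 IH) (Lpr_et (f21974 IH) (Lpe (K14.f3333 IH) (Lpe (K16.f33936 IH) (Lpe (K16.f246944 IH) (Lpe (f246953 IH) (Lpn (LP (LK LD1_c5 LD2_c35 LD3_c36)))))))))))))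
theorem f235421 : Led Lsl_ft (LP (LK LD1_c8 LD2_c28 LD3_c9)) = (LP (LK LD1_c4 LD2_c14 LD3_c40)) :=
  Lre_f IH (LK LD1_c8 LD2_c28 LD3_c9) (LK LD1_c4 LD2_c14 LD3_c40) Lrfl Lrfl
theorem f314107 : Led Lsl_et (LP (LK LD1_c10 LD2_c7 LD3_c32)) = (LP (LK LD1_c8 LD2_c28 LD3_c9)) :=
  Lgr Lrot69 (Lpe (f33169 IH) (Lpe (f33154 IH) (Lpr_ff (f314101 IH) (Lpr_ef (K14.f239622 IH) (Lpe (f235421 IH) (Lpn (LP (LK LD1_c8 LD2_c28 LD3_c9))))))))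
theorem f3722 : Led Lsl_dt (LP (LK LD1_c2 LD2_c28 LD3_c8)) = (LP (LK LD1_c1 LD2_c11 LD3_c17)) :=
  Lre_d IH (LK LD1_c2 LD2_c28 LD3_c8) (LK LD1_c1 LD2_c11 LD3_c17) Lrfl Lrfl
theorem f314208 : Led Lsl_gf (LP (LK LD1_c8 LD2_c28 LD3_c9)) = (LP (LK LD1_c5 LD2_c0 LD3_c48)) :=
  Lgr Lrot141 (Lpe (f314107 IH) (Lpr_dt (f314195 IH) (Lpr_gt (f246953 IH) (Lpr_df (K16.f246944 IH) (Lpr_et (K16.f33936 IH) (Lpr_gt (K14.f3333 IH) (Lpr_dt (K0.f3310 IH) (Lpr_gt (K14.f3331 IH) (Lpe (f3722 IH) (Lpr_et (K16.f246983 IH) (Lpn (LP (LK LD1_c5 LD2_c0 LD3_c48)))))))))))))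
theorem f314156 : Led Lsl_ff (LP (LK LD1_c5 LD2_c1 LD3_c27)) = (LP (LK LD1_c4 LD2_c55 LD3_c55)) :=
  Lgr Lrot19 (Lpr_dt (f314152 IH) (Lpr_ft (f314145 IH) (Lpr_dt (K13.f224864 IH) (Lpn (LP (LK LD1_c4 LD2_c55 LD3_c55))))))
theorem f314210 : Led Lsl_af (LP (LK LD1_c8 LD2_c28 LD3_c9)) = (LP (LK LD1_c5 LD2_c1 LD3_c27)) :=
  Lgr Lrot31 (Lpr_gf (f314208 IH) (Lpr_gf (K16.f274754 IH) (Lpe (f314156 IH) (Lpn (LP (LK LD1_c5 LD2_c1 LD3_c27))))))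
theorem f311553 : Led Lsl_et (LP (LK LD1_c9 LD2_c53 LD3_c12)) = (LP (LK LD1_c5 LD2_c1 LD3_c27)) :=
  Lre_e IH (LK LD1_c9 LD2_c53 LD3_c12) (LK LD1_c5 LD2_c1 LD3_c27) Lrfl Lrfl
theorem f314222 : Led Lsl_et (LP (LK LD1_c8 LD2_c28 LD3_c9)) = (LP (LK LD1_c10 LD2_c7 LD3_c32)) :=
  Lgr Lrot123 (Lpr_af (f314210 IH) (Lpe (f311553 IH) (Lpr_af (f314161 IH) (Lpn (LP (LK LD1_c10 LD2_c7 LD3_c32))))))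
theorem f314216 : Led Lsl_ct (LP (LK LD1_c15 LD2_c54 LD3_c4)) = (LP (LK LD1_c8 LD2_c28 LD3_c9)) :=
  Lre_c IH (LK LD1_c15 LD2_c54 LD3_c4) (LK LD1_c8 LD2_c28 LD3_c9) Lrfl Lrfl
theorem f263288 : Led Lsl_ct (LP (LK LD1_c10 LD2_c7 LD3_c32)) = (LP (LK LD1_c18 LD2_c26 LD3_c36)) :=
  Lre_c IH (LK LD1_c10 LD2_c7 LD3_c32) (LK LD1_c18 LD2_c26 LD3_c36) Lrfl Lrfl
theorem f314224 : Led Lsl_ef (LP (LK LD1_c15 LD2_c54 LD3_c4)) = (LP (LK LD1_c18 LD2_c26 LD3_c36)) :=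
  Lgr Lrot28 (Lpr_ct (f314216 IH) (Lpr_et (f314222 IH) (Lpr_ct (f263288 IH) (Lpn (LP (LK LD1_c18 LD2_c26 LD3_c36))))))
theorem f239612 : Led Lsl_ft (LP (LK LD1_c15 LD2_c54 LD3_c4)) = (LP (LK LD1_c8 LD2_c28 LD3_c8)) :=
  Lre_f IH (LK LD1_c15 LD2_c54 LD3_c4) (LK LD1_c8 LD2_c28 LD3_c8) Lrfl Lrfl
theorem f239608 : Led Lsl_et (LP (LK LD1_c15 LD2_c11 LD3_c5)) = (LP (LK LD1_c15 LD2_c54 LD3_c2)) :=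
  Lgr Lrot87 (Lpr_ef (K14.f239603 IH) (Lpn (LP (LK LD1_c15 LD2_c54 LD3_c2))))
theorem f239610 : Led Lsl_ef (LP (LK LD1_c8 LD2_c3 LD3_c59)) = (LP (LK LD1_c8 LD2_c28 LD3_c8)) :=
  Lgr Lrot29 (Lpr_bt (K14.f229232 IH) (Lpr_et (f239608 IH) (Lpr_bt (K14.f235418 IH) (Lpn (LP (LK LD1_c8 LD2_c28 LD3_c8))))))
theorem f311582 : Led Lsl_ft (LP (LK LD1_c10 LD2_c7 LD3_c29)) = (LP (LK LD1_c18 LD2_c26 LD3_c36)) :=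
  Lre_f IH (LK LD1_c10 LD2_c7 LD3_c29) (LK LD1_c18 LD2_c26 LD3_c36) Lrfl Lrfl
theorem f242277 : Led Lsl_et (LP (LK LD1_c5 LD2_c8 LD3_c32)) = (LP (LK LD1_c10 LD2_c7 LD3_c29)) :=
  Lre_e IH (LK LD1_c5 LD2_c8 LD3_c32) (LK LD1_c10 LD2_c7 LD3_c29) Lrfl Lrfl
theorem f314229 : Led Lsl_ft (LP (LK LD1_c8 LD2_c3 LD3_c59)) = (LP (LK LD1_c5 LD2_c8 LD3_c32)) :=
  Lgr Lrot86 (Lpr_ef (f239610 IH) (Lpe (f239612 IH) (Lpr_ef (f314224 IH) (Lpe (f311582 IH) (Lpe (f242277 IH) (Lpn (LP (LK LD1_c5 LD2_c8 LD3_c32))))))))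
theorem f314235 : Led Lsl_af (LP (LK LD1_c5 LD2_c2 LD3_c17)) = (LP (LK LD1_c5 LD2_c8 LD3_c32)) :=
  Lgr Lrot31 (Lpr_gf (K13.f242847 IH) (Lpr_gf (K12.f229136 IH) (Lpr_ft (f314229 IH) (Lpn (LP (LK LD1_c5 LD2_c8 LD3_c32))))))
theorem f239646 : Led Lsl_et (LP (LK LD1_c5 LD2_c2 LD3_c17)) = (LP (LK LD1_c9 LD2_c55 LD3_c24)) :=
  Lre_e IH (LK LD1_c5 LD2_c2 LD3_c17) (LK LD1_c9 LD2_c55 LD3_c24) Lrfl Lrfl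
theorem f311573 : Led Lsl_et (LP (LK LD1_c10 LD2_c7 LD3_c29)) = (LP (LK LD1_c5 LD2_c8 LD3_c32)) :=
  Lre_e IH (LK LD1_c10 LD2_c7 LD3_c29) (LK LD1_c5 LD2_c8 LD3_c32) Lrfl Lrfl
theorem f314242 : Led Lsl_at (LP (LK LD1_c9 LD2_c55 LD3_c24)) = (LP (LK LD1_c10 LD2_c7 LD3_c29)) :=
  Lgr Lrot80 (Lpe (f239646 IH) (Lpr_af (f314235 IH) (Lpe (f311573 IH) (Lpn (LP (LK LD1_c10 LD2_c7 LD3_c29))))))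
theorem f177592 : Led Lsl_dt (LP (LK LD1_c18 LD2_c9 LD3_c61)) = (LP (LK LD1_c9 LD2_c55 LD3_c24)) :=
  Lre_d IH (LK LD1_c18 LD2_c9 LD3_c61) (LK LD1_c9 LD2_c55 LD3_c24) Lrfl Lrfl
theorem f311544 : Led Lsl_gt (LP (LK LD1_c5 LD2_c1 LD3_c38)) = (LP (LK LD1_c2 LD2_c28 LD3_c30)) :=
  Lre_g IH (LK LD1_c5 LD2_c1 LD3_c38) (LK LD1_c2 LD2_c28 LD3_c30) Lrfl Lrfl
theorem f311550 : Led Lsl_et (LP (LK LD1_c9 LD2_c53 LD3_c41)) = (LP (LK LD1_c5 LD2_c1 LD3_c38)) :=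
  Lre_e IH (LK LD1_c9 LD2_c53 LD3_c41) (LK LD1_c5 LD2_c1 LD3_c38) Lrfl Lrfl
theorem f216377 : Led Lsl_gt (LP (LK LD1_c5 LD2_c8 LD3_c53)) = (LP (LK LD1_c10 LD2_c8 LD3_c9)) :=
  Lre_g IH (LK LD1_c5 LD2_c8 LD3_c53) (LK LD1_c10 LD2_c8 LD3_c9) Lrfl Lrfl
theorem f311556 : Led Lsl_dt (LP (LK LD1_c9 LD2_c53 LD3_c41)) = (LP (LK LD1_c10 LD2_c8 LD3_c9)) :=
  Lgr Lrot37 (Lpr_et (f311550 IH) (Lpr_gt (f311544 IH) (Lpe (f311528 IH) (Lpr_gt (f311551 IH) (Lpr_df (f33155 IH) (Lpr_et (f33179 IH) (Lpe (K13.f240228 IH) (Lpe (K13.f239807 IH) (Lpr_dt (K14.f235386 IH) (Lpr_gt (f216377 IH) (Lpn (LP (LK LD1_c10 LD2_c8 LD3_c9)))))))))))))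
theorem f311559 : Led Lsl_df (LP (LK LD1_c9 LD2_c53 LD3_c41)) = (LP (LK LD1_c10 LD2_c8 LD3_c9)) :=
  Lgr Lrot38 (Lpr_dt (f311556 IH) (Lpn (LP (LK LD1_c10 LD2_c8 LD3_c9))))
theorem f311562 : Led Lsl_ct (LP (LK LD1_c9 LD2_c53 LD3_c41)) = (LP (LK LD1_c18 LD2_c6 LD3_c20)) :=
  Lre_c IH (LK LD1_c9 LD2_c53 LD3_c41) (LK LD1_c18 LD2_c6 LD3_c20) Lrfl Lrfl
theorem f235389 : Led Lsl_ct (LP (LK LD1_c10 LD2_c8 LD3_c8)) = (LP (LK LD1_c5 LD2_c8 LD3_c52)) :=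
  Lre_c IH (LK LD1_c10 LD2_c8 LD3_c8) (LK LD1_c5 LD2_c8 LD3_c52) Lrfl Lrfl
theorem f275637 : Led Lsl_bt (LP (LK LD1_c4 LD2_c28 LD3_c13)) = (LP (LK LD1_c8 LD2_c54 LD3_c12)) :=
  Lre_b IH (LK LD1_c4 LD2_c28 LD3_c13) (LK LD1_c8 LD2_c54 LD3_c12) Lrfl Lrfl
theorem f293820 : Led Lsl_at (LP (LK LD1_c5 LD2_c5 LD3_c21)) = (LP (LK LD1_c4 LD2_c28 LD3_c13)) :=
  Lgr Lrot100 (Lpr_af (K18.f293818 IH) (Lpn (LP (LK LD1_c4 LD2_c28 LD3_c13))))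
theorem f242919 : Led Lsl_bf (LP (LK LD1_c5 LD2_c5 LD3_c21)) = (LP (LK LD1_c4 LD2_c3 LD3_c59)) :=
  Lgr Lrot24 (Lpr_bt (K15.f242917 IH) (Lpn (LP (LK LD1_c4 LD2_c3 LD3_c59))))
theorem f294210 : Led Lsl_bt (LP (LK LD1_c10 LD2_c20 LD3_c17)) = (LP (LK LD1_c8 LD2_c2 LD3_c58)) :=
  Lgr Lrot62 (Lpr_af (K18.f294167 IH) (Lpe (f275637 IH) (Lpe (f293820 IH) (Lpr_bf (f242919 IH) (Lpe (K16.f269265 IH) (Lpn (LP (LK LD1_c8 LD2_c2 LD3_c58))))))))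
theorem f304121 : Led Lsl_bt (LP (LK LD1_c15 LD2_c9 LD3_c20)) = (LP (LK LD1_c10 LD2_c24 LD3_c57)) :=
  Lgr Lrot35 (Lpe (K18.f269248 IH) (Lpe (f294210 IH) (Lpr_ff (K18.f304119 IH) (Lpn (LP (LK LD1_c10 LD2_c24 LD3_c57))))))
theorem f247921 : Led Lsl_ct (LP (LK LD1_c15 LD2_c19 LD3_c53)) = (LP (LK LD1_c8 LD2_c8 LD3_c32)) :=
  Lre_c IH (LK LD1_c15 LD2_c19 LD3_c53) (LK LD1_c8 LD2_c8 LD3_c32) Lrfl Lrfl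
theorem f269285 : Led Lsl_ct (LP (LK LD1_c15 LD2_c9 LD3_c20)) = (LP (LK LD1_c9 LD2_c53 LD3_c9)) :=
  Lgr Lrot111 (Lpr_af (K16.f269271 IH) (Lpe (f247921 IH) (Lpe (K18.f247912 IH) (Lpn (LP (LK LD1_c9 LD2_c53 LD3_c9))))))
theorem f247910 : Led Lsl_ct (LP (LK LD1_c2 LD2_c28 LD3_c26)) = (LP (LK LD1_c5 LD2_c1 LD3_c26)) :=
  Lre_c IH (LK LD1_c2 LD2_c28 LD3_c26) (LK LD1_c5 LD2_c1 LD3_c26) Lrfl Lrfl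
theorem f235372 : Led Lsl_bt (LP (LK LD1_c2 LD2_c4 LD3_c42)) = (LP (LK LD1_c4 LD2_c14 LD3_c35)) :=
  Lre_b IH (LK LD1_c2 LD2_c4 LD3_c42) (LK LD1_c4 LD2_c14 LD3_c35) Lrfl Lrfl
theorem f235373 : Led Lsl_bt (LP (LK LD1_c5 LD2_c8 LD3_c52)) = (LP (LK LD1_c4 LD2_c14 LD3_c40)) :=
  Lgr Lrot95 (Lpr_df (K13.f235370 IH) (Lpe (f235372 IH) (Lpe (K13.f228346 IH) (Lpn (LP (LK LD1_c4 LD2_c14 LD3_c40))))))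
theorem f271298 : Led Lsl_gf (LP (LK LD1_c10 LD2_c27 LD3_c58)) = (LP (LK LD1_c10 LD2_c24 LD3_c57)) :=
  Lgr Lrot76 (Lpr_af (K18.f271293 IH) (Lpe (K18.f260350 IH) (Lpr_gt (K18.f184840 IH) (Lpn (LP (LK LD1_c10 LD2_c24 LD3_c57))))))
theorem f184686 : Led Lsl_bf (LP (LK LD1_c5 LD2_c19 LD3_c2)) = (LP (LK LD1_c4 LD2_c2 LD3_c5)) :=
  Lgr Lrot96 (Lpr_et (K18.f184684 IH) (Lpr_bt (K11.f184665 IH) (Lpr_et (K16.f184685 IH) (Lpn (LP (LK LD1_c4 LD2_c2 LD3_c5))))))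
theorem f184698 : Led Lsl_bt (LP (LK LD1_c10 LD2_c27 LD3_c58)) = (LP (LK LD1_c8 LD2_c4 LD3_c48)) :=
  Lgr Lrot35 (Lpe (K18.f184696 IH) (Lpr_bf (f184686 IH) (Lpe (K16.f184697 IH) (Lpn (LP (LK LD1_c8 LD2_c4 LD3_c48))))))
theorem f184702 : Led Lsl_bf (LP (LK LD1_c10 LD2_c27 LD3_c58)) = (LP (LK LD1_c8 LD2_c4 LD3_c48)) :=
  Lgr Lrot24 (Lpr_bt (f184698 IH) (Lpn (LP (LK LD1_c8 LD2_c4 LD3_c48))))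
theorem f184704 : Led Lsl_ct (LP (LK LD1_c8 LD2_c4 LD3_c48)) = (LP (LK LD1_c15 LD2_c12 LD3_c47)) :=
  Lre_c IH (LK LD1_c8 LD2_c4 LD3_c48) (LK LD1_c15 LD2_c12 LD3_c47) Lrfl Lrfl
theorem f304147 : Led Lsl_gf (LP (LK LD1_c10 LD2_c8 LD3_c8)) = (LP (LK LD1_c15 LD2_c12 LD3_c47)) :=
  Lgr Lrot126 (Lpe (K14.f235375 IH) (Lpr_bt (f235373 IH) (Lpr_gt (K14.f253117 IH) (Lpr_ct (f247910 IH) (Lpr_gt (K18.f247814 IH) (Lpe (f269285 IH) (Lpr_bt (f304121 IH) (Lpe (f271298 IH) (Lpr_bf (f184702 IH) (Lpr_ct (f184704 IH) (Lpn (LP (LK LD1_c15 LD2_c12 LD3_c47)))))))))))))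
theorem f275968 : Led Lsl_ft (LP (LK LD1_c15 LD2_c12 LD3_c47)) = (LP (LK LD1_c8 LD2_c4 LD3_c45)) :=
  Lre_f IH (LK LD1_c15 LD2_c12 LD3_c47) (LK LD1_c8 LD2_c4 LD3_c45) Lrfl Lrfl
theorem f275972 : Led Lsl_af (LP (LK LD1_c8 LD2_c3 LD3_c19)) = (LP (LK LD1_c8 LD2_c4 LD3_c45)) :=
  Lgr Lrot0 (Lpr_at (K16.f275970 IH) (Lpn (LP (LK LD1_c8 LD2_c4 LD3_c45))))
theorem f304185 : Led Lsl_gt (LP (LK LD1_c10 LD2_c8 LD3_c8)) = (LP (LK LD1_c8 LD2_c3 LD3_c19)) :=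
  Lgr Lrot46 (Lpr_gf (f304147 IH) (Lpr_ft (f275968 IH) (Lpe (f275972 IH) (Lpn (LP (LK LD1_c8 LD2_c3 LD3_c19))))))
theorem f192607 : Led Lsl_dt (LP (LK LD1_c8 LD2_c3 LD3_c19)) = (LP (LK LD1_c15 LD2_c9 LD3_c60)) :=
  Lre_d IH (LK LD1_c8 LD2_c3 LD3_c19) (LK LD1_c15 LD2_c9 LD3_c60) Lrfl Lrfl
theorem f304188 : Led Lsl_gt (LP (LK LD1_c15 LD2_c9 LD3_c60)) = (LP (LK LD1_c24 LD2_c59 LD3_c7)) :=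
  Lre_g IH (LK LD1_c15 LD2_c9 LD3_c60) (LK LD1_c24 LD2_c59 LD3_c7) Lrfl Lrfl
theorem f311564 : Led Lsl_df (LP (LK LD1_c18 LD2_c6 LD3_c20)) = (LP (LK LD1_c24 LD2_c59 LD3_c7)) :=
  Lgr Lrot84 (Lpe (f311562 IH) (Lpr_df (f311559 IH) (Lpe (f216377 IH) (Lpe (K14.f235386 IH) (Lpe (K13.f21864 IH) (Lpe (f235389 IH) (Lpr_gt (f304185 IH) (Lpr_dt (f192607 IH) (Lpr_gt (f304188 IH) (Lpn (LP (LK LD1_c24 LD2_c59 LD3_c7))))))))))))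
theorem f311567 : Led Lsl_dt (LP (LK LD1_c18 LD2_c6 LD3_c20)) = (LP (LK LD1_c24 LD2_c59 LD3_c7)) :=
  Lgr Lrot42 (Lpr_df (f311564 IH) (Lpn (LP (LK LD1_c24 LD2_c59 LD3_c7))))
theorem f311569 : Led Lsl_et (LP (LK LD1_c18 LD2_c6 LD3_c20)) = (LP (LK LD1_c9 LD2_c53 LD3_c39)) :=
  Lre_e IH (LK LD1_c18 LD2_c6 LD3_c20) (LK LD1_c9 LD2_c53 LD3_c39) Lrfl Lrfl
theorem f239552 : Led Lsl_ef (LP (LK LD1_c10 LD2_c8 LD3_c8)) = (LP (LK LD1_c9 LD2_c51 LD3_c52)) :=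
  Lgr Lrot28 (Lpr_ct (f235389 IH) (Lpr_et (K13.f239548 IH) (Lpr_ct (K15.f3394 IH) (Lpn (LP (LK LD1_c9 LD2_c51 LD3_c52))))))
theorem f266051 : Led Lsl_df (LP (LK LD1_c9 LD2_c54 LD3_c2)) = (LP (LK LD1_c9 LD2_c51 LD3_c52)) :=
  Lgr Lrot38 (Lpr_dt (K15.f266042 IH) (Lpn (LP (LK LD1_c9 LD2_c51 LD3_c52))))
theorem f190589 : Led Lsl_et (LP (LK LD1_c2 LD2_c28 LD3_c34)) = (LP (LK LD1_c5 LD2_c1 LD3_c49)) :=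
  Lre_e IH (LK LD1_c2 LD2_c28 LD3_c34) (LK LD1_c5 LD2_c1 LD3_c49) Lrfl Lrfl
theorem f311574 : Led Lsl_gt (LP (LK LD1_c9 LD2_c53 LD3_c39)) = (LP (LK LD1_c5 LD2_c1 LD3_c49)) :=
  Lgr Lrot131 (Lpe (f311569 IH) (Lpr_dt (f311567 IH) (Lpe (f304188 IH) (Lpe (f192607 IH) (Lpe (f304185 IH) (Lpr_ef (f239552 IH) (Lpe (f266051 IH) (Lpe (K15.f21843 IH) (Lpe (K15.f21842 IH) (Lpr_et (f190589 IH) (Lpn (LP (LK LD1_c5 LD2_c1 LD3_c49)))))))))))))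
theorem f242352 : Led Lsl_et (LP (LK LD1_c8 LD2_c3 LD3_c19)) = (LP (LK LD1_c4 LD2_c1 LD3_c19)) :=
  Lre_e IH (LK LD1_c8 LD2_c3 LD3_c19) (LK LD1_c4 LD2_c1 LD3_c19) Lrfl Lrfl
theorem f3442 : Led Lsl_dt (LP (LK LD1_c5 LD2_c1 LD3_c49)) = (LP (LK LD1_c9 LD2_c54 LD3_c5)) :=
  Lre_d IH (LK LD1_c5 LD2_c1 LD3_c49) (LK LD1_c9 LD2_c54 LD3_c5) Lrfl Lrfl
theorem f21841 : Led Lsl_gt (LP (LK LD1_c9 LD2_c54 LD3_c5)) = (LP (LK LD1_c18 LD2_c7 LD3_c6)) :=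
  Lre_g IH (LK LD1_c9 LD2_c54 LD3_c5) (LK LD1_c18 LD2_c7 LD3_c6) Lrfl Lrfl
theorem f311578 : Led Lsl_dt (LP (LK LD1_c10 LD2_c7 LD3_c29)) = (LP (LK LD1_c18 LD2_c7 LD3_c6)) :=
  Lgr Lrot56 (Lpr_et (f311573 IH) (Lpe (K13.f196355 IH) (Lpe (f242352 IH) (Lpr_dt (f192607 IH) (Lpr_gt (f304188 IH) (Lpe (f311567 IH) (Lpr_et (f311569 IH) (Lpr_gt (f311574 IH) (Lpr_dt (f3442 IH) (Lpr_gt (f21841 IH) (Lpn (LP (LK LD1_c18 LD2_c7 LD3_c6)))))))))))))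
theorem f314246 : Led Lsl_af (LP (LK LD1_c18 LD2_c9 LD3_c61)) = (LP (LK LD1_c18 LD2_c7 LD3_c6)) :=
  Lgr Lrot117 (Lpr_dt (f177592 IH) (Lpr_at (f314242 IH) (Lpr_dt (f311578 IH) (Lpn (LP (LK LD1_c18 LD2_c7 LD3_c6))))))
theorem f314261 : Led Lsl_at (LP (LK LD1_c18 LD2_c9 LD3_c61)) = (LP (LK LD1_c18 LD2_c7 LD3_c6)) :=
  Lgr Lrot100 (Lpr_af (f314246 IH) (Lpn (LP (LK LD1_c18 LD2_c7 LD3_c6))))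
theorem f3443 : Led Lsl_gt (LP (LK LD1_c18 LD2_c7 LD3_c7)) = (LP (LK LD1_c9 LD2_c54 LD3_c5)) :=
  Lre_g IH (LK LD1_c18 LD2_c7 LD3_c7) (LK LD1_c9 LD2_c54 LD3_c5) Lrfl Lrfl
theorem f314263 : Led Lsl_ff (LP (LK LD1_c18 LD2_c9 LD3_c61)) = (LP (LK LD1_c18 LD2_c7 LD3_c7)) :=
  Lgr Lrot52 (Lpr_at (f314261 IH) (Lpe (f21841 IH) (Lpe (f3443 IH) (Lpn (LP (LK LD1_c18 LD2_c7 LD3_c7))))))
theorem f314164 : Led Lsl_ct (LP (LK LD1_c18 LD2_c5 LD3_c36)) = (LP (LK LD1_c9 LD2_c53 LD3_c12)) :=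
  Lre_c IH (LK LD1_c18 LD2_c5 LD3_c36) (LK LD1_c9 LD2_c53 LD3_c12) Lrfl Lrfl
theorem f314173 : Led Lsl_ff (LP (LK LD1_c18 LD2_c5 LD3_c36)) = (LP (LK LD1_c9 LD2_c55 LD3_c24)) :=
  Lgr Lrot23 (Lpr_ct (f314164 IH) (Lpr_ft (f314169 IH) (Lpr_ct (f177622 IH) (Lpn (LP (LK LD1_c9 LD2_c55 LD3_c24))))))
theorem f314265 : Led Lsl_dt (LP (LK LD1_c18 LD2_c5 LD3_c36)) = (LP (LK LD1_c18 LD2_c7 LD3_c7)) :=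
  Lgr Lrot60 (Lpr_ff (f314173 IH) (Lpe (f177592 IH) (Lpr_ff (f314263 IH) (Lpn (LP (LK LD1_c18 LD2_c7 LD3_c7))))))
theorem f314252 : Led Lsl_et (LP (LK LD1_c18 LD2_c5 LD3_c36)) = (LP (LK LD1_c9 LD2_c53 LD3_c11)) :=
  Lre_e IH (LK LD1_c18 LD2_c5 LD3_c36) (LK LD1_c9 LD2_c53 LD3_c11) Lrfl Lrfl
theorem f252721 : Led Lsl_et (LP (LK LD1_c5 LD2_c1 LD3_c21)) = (LP (LK LD1_c9 LD2_c53 LD3_c2)) :=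
  Lre_e IH (LK LD1_c5 LD2_c1 LD3_c21) (LK LD1_c9 LD2_c53 LD3_c2) Lrfl Lrfl
theorem f314275 : Led Lsl_gf (LP (LK LD1_c9 LD2_c53 LD3_c11)) = (LP (LK LD1_c9 LD2_c53 LD3_c2)) :=
  Lgr Lrot141 (Lpe (f314252 IH) (Lpr_dt (f314265 IH) (Lpr_gt (f3443 IH) (Lpe (f3442 IH) (Lpr_et (K14.f3441 IH) (Lpr_gt (K10.f3429 IH) (Lpe (K15.f3414 IH) (Lpr_gt (K15.f3422 IH) (Lpr_df (K15.f252704 IH) (Lpr_et (f252721 IH) (Lpn (LP (LK LD1_c9 LD2_c53 LD3_c2)))))))))))))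
theorem f247902 : Led Lsl_ct (LP (LK LD1_c5 LD2_c1 LD3_c27)) = (LP (LK LD1_c9 LD2_c53 LD3_c11)) :=
  Lre_c IH (LK LD1_c5 LD2_c1 LD3_c27) (LK LD1_c9 LD2_c53 LD3_c11) Lrfl Lrfl
theorem f252695 : Led Lsl_ct (LP (LK LD1_c5 LD2_c1 LD3_c22)) = (LP (LK LD1_c9 LD2_c53 LD3_c2)) :=
  Lre_c IH (LK LD1_c5 LD2_c1 LD3_c22) (LK LD1_c9 LD2_c53 LD3_c2) Lrfl Lrfl
theorem f252692 : Led Lsl_bf (LP (LK LD1_c5 LD2_c15 LD3_c3)) = (LP (LK LD1_c5 LD2_c1 LD3_c22)) :=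
  Lgr Lrot24 (Lpr_bt (K15.f252690 IH) (Lpn (LP (LK LD1_c5 LD2_c1 LD3_c22))))
theorem f300181 : Led Lsl_gt (LP (LK LD1_c5 LD2_c10 LD3_c22)) = (LP (LK LD1_c4 LD2_c29 LD3_c48)) :=
  Lgr Lrot46 (Lpr_gf (f300179 IH) (Lpe (K16.f275995 IH) (Lpr_at (K18.f276045 IH) (Lpn (LP (LK LD1_c4 LD2_c29 LD3_c48))))))
theorem f289935 : Led Lsl_af (LP (LK LD1_c9 LD2_c40 LD3_c11)) = (LP (LK LD1_c5 LD2_c10 LD3_c14)) :=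
  Lgr Lrot0 (Lpr_at (K17.f289929 IH) (Lpn (LP (LK LD1_c5 LD2_c10 LD3_c14))))
theorem f257692 : Led Lsl_at (LP (LK LD1_c9 LD2_c54 LD3_c61)) = (LP (LK LD1_c5 LD2_c3 LD3_c0)) :=
  Lgr Lrot66 (Lpr_ff (f257688 IH) (Lpe (f257690 IH) (Lpe (K17.f257691 IH) (Lpn (LP (LK LD1_c5 LD2_c3 LD3_c0))))))
theorem f300089 : Led Lsl_af (LP (LK LD1_c2 LD2_c32 LD3_c16)) = (LP (LK LD1_c2 LD2_c29 LD3_c10)) :=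
  Lgr Lrot36 (Lpr_bt (f289951 IH) (Lpe (f289935 IH) (Lpr_bt (K18.f300085 IH) (Lpr_at (f257692 IH) (Lpr_bt (K17.f257729 IH) (Lpn (LP (LK LD1_c2 LD2_c29 LD3_c10))))))))
theorem f288316 : Led Lsl_ft (LP (LK LD1_c1 LD2_c11 LD3_c42)) = (LP (LK LD1_c2 LD2_c29 LD3_c10)) :=
  Lre_f IH (LK LD1_c1 LD2_c11 LD3_c42) (LK LD1_c2 LD2_c29 LD3_c10) Lrfl Lrfl
theorem f21308 : Led Lsl_gt (LP (LK LD1_c1 LD2_c11 LD3_c42)) = (LP (LK LD1_c2 LD2_c29 LD3_c8)) :=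
  Lre_g IH (LK LD1_c1 LD2_c11 LD3_c42) (LK LD1_c2 LD2_c29 LD3_c8) Lrfl Lrfl
theorem f300199 : Led Lsl_gf (LP (LK LD1_c2 LD2_c32 LD3_c16)) = (LP (LK LD1_c2 LD2_c29 LD3_c8)) :=
  Lgr Lrot76 (Lpr_af (f300089 IH) (Lpe (f288316 IH) (Lpr_gt (f21308 IH) (Lpn (LP (LK LD1_c2 LD2_c29 LD3_c8))))))
theorem f314277 : Led Lsl_bt (LP (LK LD1_c5 LD2_c1 LD3_c27)) = (LP (LK LD1_c2 LD2_c29 LD3_c8)) :=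
  Lgr Lrot130 (Lpr_ct (f247902 IH) (Lpr_gf (f314275 IH) (Lpe (f252695 IH) (Lpe (f252692 IH) (Lpr_gf (K15.f259202 IH) (Lpe (K15.f185005 IH) (Lpr_ct (K18.f185009 IH) (Lpe (f300181 IH) (Lpe (f289952 IH) (Lpr_gf (f300199 IH) (Lpn (LP (LK LD1_c2 LD2_c29 LD3_c8)))))))))))))
theorem f314321 : Led Lsl_ff (LP (LK LD1_c2 LD2_c25 LD3_c47)) = (LP (LK LD1_c2 LD2_c29 LD3_c8)) :=
  Lgr Lrot25 (Lpr_bt (K13.f181887 IH) (Lpe (f314156 IH) (Lpr_bt (f314277 IH) (Lpn (LP (LK LD1_c2 LD2_c29 LD3_c8))))))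
theorem f314331 : Led Lsl_at (LP (LK LD1_c2 LD2_c25 LD3_c47)) = (LP (LK LD1_c2 LD2_c28 LD3_c48)) :=
  Lgr Lrot26 (Lpr_ff (f314321 IH) (Lpe (f300199 IH) (Lpe (f306068 IH) (Lpn (LP (LK LD1_c2 LD2_c28 LD3_c48))))))
theorem f314339 : Led Lsl_af (LP (LK LD1_c1 LD2_c10 LD3_c4)) = (LP (LK LD1_c1 LD2_c56 LD3_c4)) :=
  Lgr Lrot117 (Lpr_dt (K18.f41101 IH) (Lpr_at (f314331 IH) (Lpe (K16.f171275 IH) (Lpn (LP (LK LD1_c1 LD2_c56 LD3_c4))))))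
theorem f171277 : Led Lsl_ft (LP (LK LD1_c3 LD2_c58 LD3_c40)) = (LP (LK LD1_c1 LD2_c56 LD3_c4)) :=
  Lre_f IH (LK LD1_c3 LD2_c58 LD3_c40) (LK LD1_c1 LD2_c56 LD3_c4) Lrfl Lrfl
theorem f314349 : Led Lsl_gf (LP (LK LD1_c2 LD2_c25 LD3_c46)) = (LP (LK LD1_c3 LD2_c58 LD3_c40)) :=
  Lgr Lrot47 (Lpr_gt (K18.f168773 IH) (Lpr_af (f314339 IH) (Lpe (f171277 IH) (Lpn (LP (LK LD1_c3 LD2_c58 LD3_c40))))))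
theorem f178903 : Led Lsl_gt (LP (LK LD1_c2 LD2_c42 LD3_c7)) = (LP (LK LD1_c1 LD2_c17 LD3_c40)) :=
  Lre_g IH (LK LD1_c2 LD2_c42 LD3_c7) (LK LD1_c1 LD2_c17 LD3_c40) Lrfl Lrfl
theorem f185868 : Led Lsl_cf (LP (LK LD1_c2 LD2_c42 LD3_c7)) = (LP (LK LD1_c2 LD2_c25 LD3_c46)) :=
  Lgr Lrot166 (Lpr_gt (f178903 IH) (Lpr_dt (f173056 IH) (Lpr_gt (f173057 IH) (Lpr_dt (f183099 IH) (Lpr_ct (f183110 IH) (Lpe (f183097 IH) (Lpr_gf (K18.f185864 IH) (Lpe (K18.f41101 IH) (Lpe (K18.f168773 IH) (Lpn (LP (LK LD1_c2 LD2_c25 LD3_c46))))))))))))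
theorem f175268 : Led Lsl_ct (LP (LK LD1_c0 LD2_c35 LD3_c54)) = (LP (LK LD1_c1 LD2_c17 LD3_c40)) :=
  Lre_c IH (LK LD1_c0 LD2_c35 LD3_c54) (LK LD1_c1 LD2_c17 LD3_c40) Lrfl Lrfl
theorem f185888 : Led Lsl_bt (LP (LK LD1_c5 LD2_c31 LD3_c18)) = (LP (LK LD1_c2 LD2_c41 LD3_c54)) :=
  Lre_b IH (LK LD1_c5 LD2_c31 LD3_c18) (LK LD1_c2 LD2_c41 LD3_c54) Lrfl Lrfl
theorem f185889 : Led Lsl_ct (LP (LK LD1_c5 LD2_c31 LD3_c18)) = (LP (LK LD1_c10 LD2_c54 LD3_c12)) :=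
  Lre_c IH (LK LD1_c5 LD2_c31 LD3_c18) (LK LD1_c10 LD2_c54 LD3_c12) Lrfl Lrfl
theorem f213624 : Led Lsl_bt (LP (LK LD1_c7 LD2_c58 LD3_c48)) = (LP (LK LD1_c3 LD2_c58 LD3_c40)) :=
  Lre_b IH (LK LD1_c7 LD2_c58 LD3_c48) (LK LD1_c3 LD2_c58 LD3_c40) Lrfl Lrfl
theorem f213606 : Led Lsl_ct (LP (LK LD1_c7 LD2_c58 LD3_c48)) = (LP (LK LD1_c15 LD2_c3 LD3_c18)) :=
  Lre_c IH (LK LD1_c7 LD2_c58 LD3_c48) (LK LD1_c15 LD2_c3 LD3_c18) Lrfl Lrfl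
theorem f314355 : Led Lsl_gt (LP (LK LD1_c10 LD2_c54 LD3_c12)) = (LP (LK LD1_c15 LD2_c3 LD3_c18)) :=
  Lgr Lrot65 (Lpe (f185889 IH) (Lpr_bt (f185888 IH) (Lpe (K18.f185887 IH) (Lpe (K15.f185886 IH) (Lpr_ct (f175268 IH) (Lpe (f178903 IH) (Lpr_cf (f185868 IH) (Lpr_gf (f314349 IH) (Lpe (f213624 IH) (Lpr_ct (f213606 IH) (Lpn (LP (LK LD1_c15 LD2_c3 LD3_c18)))))))))))))
theorem f197573 : Led Lsl_ft (LP (LK LD1_c1 LD2_c25 LD3_c22)) = (LP (LK LD1_c2 LD2_c59 LD3_c21)) :=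
  Lre_f IH (LK LD1_c1 LD2_c25 LD3_c22) (LK LD1_c2 LD2_c59 LD3_c21) Lrfl Lrfl
theorem f309519 : Led Lsl_gf (LP (LK LD1_c2 LD2_c39 LD3_c52)) = (LP (LK LD1_c2 LD2_c59 LD3_c19)) :=
  Lgr Lrot76 (Lpr_af (f309515 IH) (Lpe (f197573 IH) (Lpr_gt (f195705 IH) (Lpn (LP (LK LD1_c2 LD2_c59 LD3_c19))))))
theorem f8552 : Led Lsl_et (LP (LK LD1_c1 LD2_c16 LD3_c40)) = (LP (LK LD1_c0 LD2_c35 LD3_c29)) :=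
  Lre_e IH (LK LD1_c1 LD2_c16 LD3_c40) (LK LD1_c0 LD2_c35 LD3_c29) Lrfl Lrfl
theorem f246027 : Led Lsl_ft (LP (LK LD1_c2 LD2_c39 LD3_c52)) = (LP (LK LD1_c1 LD2_c16 LD3_c40)) :=
  Lre_f IH (LK LD1_c2 LD2_c39 LD3_c52) (LK LD1_c1 LD2_c16 LD3_c40) Lrfl Lrfl
theorem f179784 : Led Lsl_et (LP (LK LD1_c0 LD2_c39 LD3_c19)) = (LP (LK LD1_c1 LD2_c25 LD3_c19)) :=
  Lre_e IH (LK LD1_c0 LD2_c39 LD3_c19) (LK LD1_c1 LD2_c25 LD3_c19) Lrfl Lrfl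
theorem f246028 : Led Lsl_ef (LP (LK LD1_c2 LD2_c39 LD3_c52)) = (LP (LK LD1_c2 LD2_c59 LD3_c14)) :=
  Lgr Lrot21 (Lpr_ft (f246027 IH) (Lpr_et (f8552 IH) (Lpr_ft (K13.f246019 IH) (Lpr_et (f179784 IH) (Lpr_ft (f179793 IH) (Lpn (LP (LK LD1_c2 LD2_c59 LD3_c14))))))))
theorem f245847 : Led Lsl_df (LP (LK LD1_c2 LD2_c6 LD3_c8)) = (LP (LK LD1_c2 LD2_c59 LD3_c14)) :=
  Lgr Lrot78 (Lpr_ft (K13.f245843 IH) (Lpe (K13.f179790 IH) (Lpr_ft (f179793 IH) (Lpn (LP (LK LD1_c2 LD2_c59 LD3_c14))))))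
theorem f245925 : Led Lsl_df (LP (LK LD1_c1 LD2_c16 LD3_c37)) = (LP (LK LD1_c2 LD2_c5 LD3_c52)) :=
  Lgr Lrot38 (Lpr_dt (K13.f245899 IH) (Lpn (LP (LK LD1_c2 LD2_c5 LD3_c52))))
theorem f246001 : Led Lsl_af (LP (LK LD1_c2 LD2_c5 LD3_c52)) = (LP (LK LD1_c2 LD2_c2 LD3_c26)) :=
  Lgr Lrot117 (Lpe (f245925 IH) (Lpr_at (K13.f245992 IH) (Lpr_dt (K13.f179774 IH) (Lpn (LP (LK LD1_c2 LD2_c2 LD3_c26))))))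
theorem f267652 : Led Lsl_gt (LP (LK LD1_c2 LD2_c6 LD3_c8)) = (LP (LK LD1_c2 LD2_c2 LD3_c46)) :=
  Lgr Lrot5 (Lpr_ft (K13.f245843 IH) (Lpe (f246001 IH) (Lpr_gf (K15.f267648 IH) (Lpn (LP (LK LD1_c2 LD2_c2 LD3_c46))))))
theorem f195706 : Led Lsl_et (LP (LK LD1_c6 LD2_c6 LD3_c28)) = (LP (LK LD1_c2 LD2_c59 LD3_c19)) :=
  Lre_e IH (LK LD1_c6 LD2_c6 LD3_c28) (LK LD1_c2 LD2_c59 LD3_c19) Lrfl Lrfl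
theorem f185639 : Led Lsl_gt (LP (LK LD1_c5 LD2_c12 LD3_c12)) = (LP (LK LD1_c2 LD2_c32 LD3_c56)) :=
  Lre_g IH (LK LD1_c5 LD2_c12 LD3_c12) (LK LD1_c2 LD2_c32 LD3_c56) Lrfl Lrfl
theorem f195707 : Led Lsl_dt (LP (LK LD1_c6 LD2_c6 LD3_c28)) = (LP (LK LD1_c5 LD2_c12 LD3_c12)) :=
  Lgr Lrot136 (Lpr_et (f195706 IH) (Lpe (f195705 IH) (Lpe (f183343 IH) (Lpr_dt (K11.f183341 IH) (Lpe (K9.f173196 IH) (Lpe (K14.f195700 IH) (Lpr_gf (K12.f195601 IH) (Lpe (K12.f185626 IH) (Lpe (K14.f185632 IH) (Lpe (f185639 IH) (Lpn (LP (LK LD1_c5 LD2_c12 LD3_c12)))))))))))))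
theorem f309521 : Led Lsl_gt (LP (LK LD1_c5 LD2_c5 LD3_c36)) = (LP (LK LD1_c5 LD2_c12 LD3_c12)) :=
  Lgr Lrot139 (Lpe (K9.f169471 IH) (Lpe (K15.f264354 IH) (Lpr_ef (K15.f267662 IH) (Lpr_dt (K15.f267656 IH) (Lpe (f267652 IH) (Lpr_df (f245847 IH) (Lpe (f246028 IH) (Lpr_gf (f309519 IH) (Lpe (f195706 IH) (Lpr_dt (f195707 IH) (Lpn (LP (LK LD1_c5 LD2_c12 LD3_c12)))))))))))))
theorem f257180 : Led Lsl_gt (LP (LK LD1_c10 LD2_c24 LD3_c33)) = (LP (LK LD1_c18 LD2_c53 LD3_c4)) :=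
  Lre_g IH (LK LD1_c10 LD2_c24 LD3_c33) (LK LD1_c18 LD2_c53 LD3_c4) Lrfl Lrfl
theorem f282652 : Led Lsl_gt (LP (LK LD1_c18 LD2_c53 LD3_c4)) = (LP (LK LD1_c18 LD2_c20 LD3_c22)) :=
  Lgr Lrot46 (Lpe (f257180 IH) (Lpr_ft (K17.f263092 IH) (Lpr_at (K17.f282639 IH) (Lpn (LP (LK LD1_c18 LD2_c20 LD3_c22))))))
theorem f225718 : Led Lsl_ct (LP (LK LD1_c2 LD2_c11 LD3_c32)) = (LP (LK LD1_c4 LD2_c28 LD3_c56)) :=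
  Lre_c IH (LK LD1_c2 LD2_c11 LD3_c32) (LK LD1_c4 LD2_c28 LD3_c56) Lrfl Lrfl
theorem f237097 : Led Lsl_bt (LP (LK LD1_c10 LD2_c20 LD3_c23)) = (LP (LK LD1_c5 LD2_c15 LD3_c35)) :=
  Lre_b IH (LK LD1_c10 LD2_c20 LD3_c23) (LK LD1_c5 LD2_c15 LD3_c35) Lrfl Lrfl
theorem f41765 : Led Lsl_ef (LP (LK LD1_c2 LD2_c10 LD3_c61)) = (LP (LK LD1_c2 LD2_c58 LD3_c26)) :=
  Lgr Lrot28 (Lpr_ct (K15.f41763 IH) (Lpr_et (K1.f41749 IH) (Lpr_ct (K9.f41764 IH) (Lpn (LP (LK LD1_c2 LD2_c58 LD3_c26))))))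
theorem f168070 : Led Lsl_dt (LP (LK LD1_c4 LD2_c27 LD3_c36)) = (LP (LK LD1_c8 LD2_c53 LD3_c2)) :=
  Lre_d IH (LK LD1_c4 LD2_c27 LD3_c36) (LK LD1_c8 LD2_c53 LD3_c2) Lrfl Lrfl
theorem f261298 : Led Lsl_gf (LP (LK LD1_c8 LD2_c53 LD3_c28)) = (LP (LK LD1_c8 LD2_c53 LD3_c2)) :=
  Lgr Lrot143 (Lpr_dt (K15.f191892 IH) (Lpe (K14.f191893 IH) (Lpe (K14.f253467 IH) (Lpr_gf (K15.f261294 IH) (Lpe (K15.f211276 IH) (Lpr_gf (K12.f220767 IH) (Lpe (K15.f41763 IH) (Lpr_gt (K9.f44647 IH) (Lpr_dt (f168070 IH) (Lpn (LP (LK LD1_c8 LD2_c53 LD3_c2))))))))))))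
theorem f264880 : Led Lsl_et (LP (LK LD1_c4 LD2_c27 LD3_c48)) = (LP (LK LD1_c8 LD2_c53 LD3_c29)) :=
  Lre_e IH (LK LD1_c4 LD2_c27 LD3_c48) (LK LD1_c8 LD2_c53 LD3_c29) Lrfl Lrfl
theorem f225877 : Led Lsl_gt (LP (LK LD1_c8 LD2_c53 LD3_c29)) = (LP (LK LD1_c16 LD2_c37 LD3_c31)) :=
  Lre_g IH (LK LD1_c8 LD2_c53 LD3_c29) (LK LD1_c16 LD2_c37 LD3_c31) Lrfl Lrfl
theorem f264881 : Led Lsl_ef (LP (LK LD1_c16 LD2_c37 LD3_c31)) = (LP (LK LD1_c10 LD2_c3 LD3_c32)) :=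
  Lgr Lrot17 (Lpe (f225877 IH) (Lpe (f264880 IH) (Lpr_dt (K15.f191905 IH) (Lpr_gf (f261298 IH) (Lpe (f168070 IH) (Lpe (K9.f44647 IH) (Lpr_ef (f41765 IH) (Lpr_dt (K15.f42510 IH) (Lpe (K15.f195315 IH) (Lpr_df (K15.f264866 IH) (Lpn (LP (LK LD1_c10 LD2_c3 LD3_c32)))))))))))))
theorem f264886 : Led Lsl_et (LP (LK LD1_c16 LD2_c37 LD3_c31)) = (LP (LK LD1_c10 LD2_c3 LD3_c32)) :=
  Lgr Lrot87 (Lpr_ef (f264881 IH) (Lpn (LP (LK LD1_c10 LD2_c3 LD3_c32))))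
theorem f264888 : Led Lsl_cf (LP (LK LD1_c16 LD2_c37 LD3_c31)) = (LP (LK LD1_c10 LD2_c20 LD3_c23)) :=
  Lgr Lrot39 (Lpr_et (f264886 IH) (Lpe (K15.f264862 IH) (Lpr_et (K14.f237092 IH) (Lpn (LP (LK LD1_c10 LD2_c20 LD3_c23))))))
theorem f225845 : Led Lsl_ct (LP (LK LD1_c4 LD2_c27 LD3_c49)) = (LP (LK LD1_c8 LD2_c53 LD3_c29)) :=
  Lre_c IH (LK LD1_c4 LD2_c27 LD3_c49) (LK LD1_c8 LD2_c53 LD3_c29) Lrfl Lrfl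
theorem f225842 : Led Lsl_bf (LP (LK LD1_c2 LD2_c11 LD3_c32)) = (LP (LK LD1_c4 LD2_c27 LD3_c49)) :=
  Lgr Lrot24 (Lpr_bt (f225840 IH) (Lpn (LP (LK LD1_c4 LD2_c27 LD3_c49))))
theorem f286267 : Led Lsl_gf (LP (LK LD1_c11 LD2_c55 LD3_c10)) = (LP (LK LD1_c10 LD2_c46 LD3_c61)) :=
  Lgr Lrot129 (Lpe (K16.f169546 IH) (Lpr_bt (K16.f169484 IH) (Lpe (K16.f276146 IH) (Lpr_bf (f225842 IH) (Lpr_ct (f225845 IH) (Lpr_gt (f225877 IH) (Lpr_cf (f264888 IH) (Lpr_bt (f237097 IH) (Lpr_gt (K17.f49915 IH) (Lpr_ct (K17.f286248 IH) (Lpn (LP (LK LD1_c10 LD2_c46 LD3_c61)))))))))))))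
theorem f22038 : Led Lsl_ct (LP (LK LD1_c2 LD2_c0 LD3_c48)) = (LP (LK LD1_c4 LD2_c6 LD3_c53)) :=
  Lre_c IH (LK LD1_c2 LD2_c0 LD3_c48) (LK LD1_c4 LD2_c6 LD3_c53) Lrfl Lrfl
theorem f298595 : Led Lsl_gt (LP (LK LD1_c4 LD2_c28 LD3_c56)) = (LP (LK LD1_c4 LD2_c6 LD3_c53)) :=
  Lgr Lrot149 (Lpe (f225718 IH) (Lpr_gf (K16.f276146 IH) (Lpe (K16.f169484 IH) (Lpr_ct (K16.f169546 IH) (Lpr_gf (f286267 IH) (Lpe (K17.f286248 IH) (Lpr_bt (K18.f286285 IH) (Lpr_gf (K18.f298590 IH) (Lpe (K14.f22034 IH) (Lpr_ct (f22038 IH) (Lpn (LP (LK LD1_c4 LD2_c6 LD3_c53)))))))))))))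
theorem f22044 : Led Lsl_ct (LP (LK LD1_c4 LD2_c6 LD3_c53)) = (LP (LK LD1_c2 LD2_c0 LD3_c48)) :=
  Lre_c IH (LK LD1_c4 LD2_c6 LD3_c53) (LK LD1_c2 LD2_c0 LD3_c48) Lrfl Lrfl
theorem f22037 : Led Lsl_ct (LP (LK LD1_c5 LD2_c9 LD3_c49)) = (LP (LK LD1_c2 LD2_c31 LD3_c60)) :=
  Lre_c IH (LK LD1_c5 LD2_c9 LD3_c49) (LK LD1_c2 LD2_c31 LD3_c60) Lrfl Lrfl
theorem f22046 : Led Lsl_gt (LP (LK LD1_c10 LD2_c10 LD3_c27)) = (LP (LK LD1_c5 LD2_c9 LD3_c49)) :=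
  Lre_g IH (LK LD1_c10 LD2_c10 LD3_c27) (LK LD1_c5 LD2_c9 LD3_c49) Lrfl Lrfl
theorem f309523 : Led Lsl_cf (LP (LK LD1_c10 LD2_c10 LD3_c27)) = (LP (LK LD1_c5 LD2_c12 LD3_c12)) :=
  Lgr Lrot169 (Lpr_gt (f22046 IH) (Lpr_ct (f22037 IH) (Lpr_df (K13.f22039 IH) (Lpe (f22044 IH) (Lpe (f298595 IH) (Lpe (f225718 IH) (Lpr_gf (K16.f276146 IH) (Lpr_df (K9.f169489 IH) (Lpr_gt (f309521 IH) (Lpn (LP (LK LD1_c5 LD2_c12 LD3_c12))))))))))))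
theorem f22054 : Led Lsl_ct (LP (LK LD1_c2 LD2_c31 LD3_c60)) = (LP (LK LD1_c5 LD2_c9 LD3_c49)) :=
  Lre_c IH (LK LD1_c2 LD2_c31 LD3_c60) (LK LD1_c5 LD2_c9 LD3_c49) Lrfl Lrfl
theorem f253150 : Led Lsl_bt (LP (LK LD1_c18 LD2_c31 LD3_c57)) = (LP (LK LD1_c10 LD2_c10 LD3_c20)) :=
  Lre_b IH (LK LD1_c18 LD2_c31 LD3_c57) (LK LD1_c10 LD2_c10 LD3_c20) Lrfl Lrfl
theorem f309525 : Led Lsl_cf (LP (LK LD1_c18 LD2_c53 LD3_c4)) = (LP (LK LD1_c18 LD2_c31 LD3_c57)) :=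
  Lgr Lrot160 (Lpr_gt (f282652 IH) (Lpe (K17.f169500 IH) (Lpr_bt (K9.f169494 IH) (Lpr_gt (f309521 IH) (Lpe (f309523 IH) (Lpr_gt (f22046 IH) (Lpe (f22054 IH) (Lpr_bt (K13.f22050 IH) (Lpr_gt (K14.f22078 IH) (Lpe (f253150 IH) (Lpn (LP (LK LD1_c18 LD2_c31 LD3_c57)))))))))))))
theorem f169507 : Led Lsl_ct (LP (LK LD1_c18 LD2_c20 LD3_c22)) = (LP (LK LD1_c10 LD2_c2 LD3_c11)) :=
  Lre_c IH (LK LD1_c18 LD2_c20 LD3_c22) (LK LD1_c10 LD2_c2 LD3_c11) Lrfl Lrfl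
theorem f169485 : Led Lsl_bt (LP (LK LD1_c5 LD2_c5 LD3_c36)) = (LP (LK LD1_c10 LD2_c2 LD3_c11)) :=
  Lre_b IH (LK LD1_c5 LD2_c5 LD3_c36) (LK LD1_c10 LD2_c2 LD3_c11) Lrfl Lrfl
theorem f169486 : Led Lsl_df (LP (LK LD1_c6 LD2_c5 LD3_c52)) = (LP (LK LD1_c10 LD2_c2 LD3_c11)) :=
  Lgr Lrot12 (Lpr_bt (K16.f169484 IH) (Lpr_dt (K9.f169471 IH) (Lpr_bt (f169485 IH) (Lpn (LP (LK LD1_c10 LD2_c2 LD3_c11))))))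
theorem f169497 : Led Lsl_ct (LP (LK LD1_c11 LD2_c55 LD3_c10)) = (LP (LK LD1_c6 LD2_c5 LD3_c52)) :=
  Lre_c IH (LK LD1_c11 LD2_c55 LD3_c10) (LK LD1_c6 LD2_c5 LD3_c52) Lrfl Lrfl
theorem f237098 : Led Lsl_dt (LP (LK LD1_c5 LD2_c15 LD3_c35)) = (LP (LK LD1_c10 LD2_c20 LD3_c27)) :=
  Lre_d IH (LK LD1_c5 LD2_c15 LD3_c35) (LK LD1_c10 LD2_c20 LD3_c27) Lrfl Lrfl
theorem f309530 : Led Lsl_gt (LP (LK LD1_c10 LD2_c20 LD3_c27)) = (LP (LK LD1_c18 LD2_c31 LD3_c57)) :=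
  Lgr Lrot9 (Lpe (f237098 IH) (Lpr_gt (K17.f49915 IH) (Lpr_ct (K17.f286248 IH) (Lpe (f286267 IH) (Lpr_ct (f169497 IH) (Lpr_df (f169486 IH) (Lpe (f169507 IH) (Lpe (f282652 IH) (Lpr_cf (f309525 IH) (Lpn (LP (LK LD1_c18 LD2_c31 LD3_c57))))))))))))
theorem f237101 : Led Lsl_et (LP (LK LD1_c5 LD2_c15 LD3_c36)) = (LP (LK LD1_c10 LD2_c20 LD3_c27)) :=
  Lre_e IH (LK LD1_c5 LD2_c15 LD3_c36) (LK LD1_c10 LD2_c20 LD3_c27) Lrfl Lrfl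
theorem f253151 : Led Lsl_bt (LP (LK LD1_c10 LD2_c9 LD3_c31)) = (LP (LK LD1_c18 LD2_c30 LD3_c20)) :=
  Lre_b IH (LK LD1_c10 LD2_c9 LD3_c31) (LK LD1_c18 LD2_c30 LD3_c20) Lrfl Lrfl
theorem f253152 : Led Lsl_ef (LP (LK LD1_c18 LD2_c31 LD3_c57)) = (LP (LK LD1_c18 LD2_c30 LD3_c20)) :=
  Lgr Lrot29 (Lpr_bt (f253150 IH) (Lpr_et (K14.f253124 IH) (Lpr_bt (f253151 IH) (Lpn (LP (LK LD1_c18 LD2_c30 LD3_c20))))))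
theorem f306459 : Led Lsl_dt (LP (LK LD1_c18 LD2_c30 LD3_c20)) = (LP (LK LD1_c10 LD2_c9 LD3_c29)) :=
  Lre_d IH (LK LD1_c18 LD2_c30 LD3_c20) (LK LD1_c10 LD2_c9 LD3_c29) Lrfl Lrfl
theorem f309534 : Led Lsl_gf (LP (LK LD1_c8 LD2_c15 LD3_c10)) = (LP (LK LD1_c10 LD2_c9 LD3_c29)) :=
  Lgr Lrot145 (Lpr_df (K9.f50073 IH) (Lpr_et (K9.f44983 IH) (Lpr_gt (K10.f49558 IH) (Lpr_dt (K10.f188720 IH) (Lpe (K14.f253949 IH) (Lpe (K16.f49898 IH) (Lpr_et (f237101 IH) (Lpr_gt (f309530 IH) (Lpr_ef (f253152 IH) (Lpr_dt (f306459 IH) (Lpn (LP (LK LD1_c10 LD2_c9 LD3_c29)))))))))))))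
theorem f309536 : Led Lsl_gt (LP (LK LD1_c8 LD2_c26 LD3_c21)) = (LP (LK LD1_c10 LD2_c9 LD3_c29)) :=
  Lgr Lrot5 (Lpr_ft (K9.f49828 IH) (Lpe (K9.f49817 IH) (Lpr_gf (f309534 IH) (Lpn (LP (LK LD1_c10 LD2_c9 LD3_c29))))))
theorem f259622 : Led Lsl_et (LP (LK LD1_c8 LD2_c26 LD3_c54)) = (LP (LK LD1_c5 LD2_c2 LD3_c6)) :=
  Lgr Lrot87 (Lpr_ef (K15.f259618 IH) (Lpn (LP (LK LD1_c5 LD2_c2 LD3_c6))))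
theorem f201149 : Led Lsl_gt (LP (LK LD1_c8 LD2_c26 LD3_c53)) = (LP (LK LD1_c4 LD2_c14 LD3_c10)) :=
  Lre_g IH (LK LD1_c8 LD2_c26 LD3_c53) (LK LD1_c4 LD2_c14 LD3_c10) Lrfl Lrfl
theorem f259626 : Led Lsl_dt (LP (LK LD1_c15 LD2_c51 LD3_c41)) = (LP (LK LD1_c8 LD2_c26 LD3_c53)) :=
  Lre_d IH (LK LD1_c15 LD2_c51 LD3_c41) (LK LD1_c8 LD2_c26 LD3_c53) Lrfl Lrfl
theorem f309547 : Led Lsl_et (LP (LK LD1_c15 LD2_c51 LD3_c41)) = (LP (LK LD1_c10 LD2_c9 LD3_c29)) :=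
  Lgr Lrot122 (Lpr_dt (f259626 IH) (Lpr_gt (f201149 IH) (Lpe (K15.f201158 IH) (Lpr_et (f259622 IH) (Lpe (K15.f257090 IH) (Lpr_dt (K14.f45014 IH) (Lpr_gt (K13.f49544 IH) (Lpe (K9.f49448 IH) (Lpr_et (K9.f49456 IH) (Lpr_gt (f309536 IH) (Lpn (LP (LK LD1_c10 LD2_c9 LD3_c29)))))))))))))
theorem f309553 : Led Lsl_dt (LP (LK LD1_c8 LD2_c26 LD3_c53)) = (LP (LK LD1_c15 LD2_c51 LD3_c41)) :=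
  Lre_d IH (LK LD1_c8 LD2_c26 LD3_c53) (LK LD1_c15 LD2_c51 LD3_c41) Lrfl Lrfl
theorem f264971 : Led Lsl_et (LP (LK LD1_c15 LD2_c51 LD3_c42)) = (LP (LK LD1_c8 LD2_c26 LD3_c53)) :=
  Lre_e IH (LK LD1_c15 LD2_c51 LD3_c42) (LK LD1_c8 LD2_c26 LD3_c53) Lrfl Lrfl
theorem f306463 : Led Lsl_dt (LP (LK LD1_c10 LD2_c9 LD3_c29)) = (LP (LK LD1_c18 LD2_c30 LD3_c20)) :=
  Lre_d IH (LK LD1_c10 LD2_c9 LD3_c29) (LK LD1_c18 LD2_c30 LD3_c20) Lrfl Lrfl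
theorem f309554 : Led Lsl_df (LP (LK LD1_c15 LD2_c51 LD3_c42)) = (LP (LK LD1_c18 LD2_c31 LD3_c57)) :=
  Lgr Lrot70 (Lpr_et (f264971 IH) (Lpr_dt (f309553 IH) (Lpr_et (f309547 IH) (Lpr_dt (f306463 IH) (Lpe (f253152 IH) (Lpn (LP (LK LD1_c18 LD2_c31 LD3_c57))))))))
theorem f263548 : Led Lsl_gf (LP (LK LD1_c4 LD2_c7 LD3_c32)) = (LP (LK LD1_c5 LD2_c15 LD3_c36)) :=
  Lgr Lrot143 (Lpr_dt (K13.f44994 IH) (Lpr_cf (K13.f192101 IH) (Lpe (K15.f54047 IH) (Lpr_gf (K15.f263477 IH) (Lpe (K10.f49161 IH) (Lpr_gf (K15.f259697 IH) (Lpe (K10.f188528 IH) (Lpe (K14.f253949 IH) (Lpr_dt (K14.f49891 IH) (Lpn (LP (LK LD1_c5 LD2_c15 LD3_c36))))))))))))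
theorem f266795 : Led Lsl_gf (LP (LK LD1_c5 LD2_c15 LD3_c35)) = (LP (LK LD1_c9 LD2_c41 LD3_c43)) :=
  Lgr Lrot145 (Lpe (K14.f49914 IH) (Lpr_et (K14.f49913 IH) (Lpe (f263548 IH) (Lpr_dt (K13.f44994 IH) (Lpr_gt (K10.f44993 IH) (Lpe (K9.f44988 IH) (Lpr_et (K8.f44968 IH) (Lpr_gt (K9.f44995 IH) (Lpe (K16.f44996 IH) (Lpr_dt (K16.f266782 IH) (Lpn (LP (LK LD1_c9 LD2_c41 LD3_c43)))))))))))))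
theorem f48213 : Led Lsl_dt (LP (LK LD1_c8 LD2_c29 LD3_c13)) = (LP (LK LD1_c15 LD2_c56 LD3_c15)) :=
  Lre_d IH (LK LD1_c8 LD2_c29 LD3_c13) (LK LD1_c15 LD2_c56 LD3_c15) Lrfl Lrfl
theorem f271771 : Led Lsl_et (LP (LK LD1_c1 LD2_c17 LD3_c34)) = (LP (LK LD1_c2 LD2_c41 LD3_c52)) :=
  Lre_e IH (LK LD1_c1 LD2_c17 LD3_c34) (LK LD1_c2 LD2_c41 LD3_c52) Lrfl Lrfl
theorem f275110 : Led Lsl_gt (LP (LK LD1_c5 LD2_c31 LD3_c15)) = (LP (LK LD1_c2 LD2_c41 LD3_c52)) :=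
  Lre_g IH (LK LD1_c5 LD2_c31 LD3_c15) (LK LD1_c2 LD2_c41 LD3_c52) Lrfl Lrfl
theorem f221350 : Led Lsl_et (LP (LK LD1_c10 LD2_c54 LD3_c9)) = (LP (LK LD1_c5 LD2_c31 LD3_c15)) :=
  Lre_e IH (LK LD1_c10 LD2_c54 LD3_c9) (LK LD1_c5 LD2_c31 LD3_c15) Lrfl Lrfl
theorem f221351 : Led Lsl_dt (LP (LK LD1_c10 LD2_c54 LD3_c9)) = (LP (LK LD1_c19 LD2_c42 LD3_c7)) :=
  Lre_d IH (LK LD1_c10 LD2_c54 LD3_c9) (LK LD1_c19 LD2_c42 LD3_c7) Lrfl Lrfl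
theorem f275111 : Led Lsl_gf (LP (LK LD1_c19 LD2_c42 LD3_c7)) = (LP (LK LD1_c15 LD2_c56 LD3_c15)) :=
  Lgr Lrot134 (Lpe (f221351 IH) (Lpr_et (f221350 IH) (Lpr_gt (f275110 IH) (Lpe (f271771 IH) (Lpr_dt (K16.f220880 IH) (Lpr_gt (K16.f220881 IH) (Lpr_df (K16.f274956 IH) (Lpr_et (K16.f274949 IH) (Lpe (K16.f275108 IH) (Lpr_dt (f48213 IH) (Lpn (LP (LK LD1_c15 LD2_c56 LD3_c15)))))))))))))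
theorem f275113 : Led Lsl_dt (LP (LK LD1_c19 LD2_c42 LD3_c7)) = (LP (LK LD1_c10 LD2_c54 LD3_c9)) :=
  Lre_d IH (LK LD1_c19 LD2_c42 LD3_c7) (LK LD1_c10 LD2_c54 LD3_c9) Lrfl Lrfl
theorem f309573 : Led Lsl_cf (LP (LK LD1_c15 LD2_c51 LD3_c42)) = (LP (LK LD1_c10 LD2_c54 LD3_c9)) :=
  Lgr Lrot14 (Lpr_df (f309554 IH) (Lpe (f309530 IH) (Lpe (f237098 IH) (Lpr_gf (f266795 IH) (Lpe (K16.f275028 IH) (Lpe (K16.f275108 IH) (Lpr_dt (f48213 IH) (Lpe (f275111 IH) (Lpr_dt (f275113 IH) (Lpn (LP (LK LD1_c10 LD2_c54 LD3_c9))))))))))))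
theorem f309580 : Led Lsl_et (LP (LK LD1_c5 LD2_c31 LD3_c15)) = (LP (LK LD1_c10 LD2_c54 LD3_c9)) :=
  Lre_e IH (LK LD1_c5 LD2_c31 LD3_c15) (LK LD1_c10 LD2_c54 LD3_c9) Lrfl Lrfl
theorem f309581 : Led Lsl_ct (LP (LK LD1_c8 LD2_c26 LD3_c53)) = (LP (LK LD1_c5 LD2_c31 LD3_c15)) :=
  Lgr Lrot15 (Lpe (f264971 IH) (Lpr_cf (f309573 IH) (Lpe (f309580 IH) (Lpn (LP (LK LD1_c5 LD2_c31 LD3_c15))))))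
theorem f309556 : Led Lsl_ef (LP (LK LD1_c15 LD2_c51 LD3_c41)) = (LP (LK LD1_c10 LD2_c9 LD3_c29)) :=
  Lgr Lrot88 (Lpr_et (f309547 IH) (Lpn (LP (LK LD1_c10 LD2_c9 LD3_c29))))
theorem f239628 : Led Lsl_bt (LP (LK LD1_c5 LD2_c9 LD3_c24)) = (LP (LK LD1_c10 LD2_c9 LD3_c29)) :=
  Lre_b IH (LK LD1_c5 LD2_c9 LD3_c24) (LK LD1_c10 LD2_c9 LD3_c29) Lrfl Lrfl
theorem f309558 : Led Lsl_bt (LP (LK LD1_c15 LD2_c51 LD3_c41)) = (LP (LK LD1_c8 LD2_c28 LD3_c5)) :=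
  Lgr Lrot119 (Lpr_ef (f309556 IH) (Lpe (f239628 IH) (Lpr_ef (K14.f239625 IH) (Lpn (LP (LK LD1_c8 LD2_c28 LD3_c5))))))
theorem f309563 : Led Lsl_bf (LP (LK LD1_c8 LD2_c26 LD3_c53)) = (LP (LK LD1_c4 LD2_c14 LD3_c39)) :=
  Lgr Lrot93 (Lpr_dt (f309553 IH) (Lpr_bt (f309558 IH) (Lpr_dt (K14.f239620 IH) (Lpn (LP (LK LD1_c4 LD2_c14 LD3_c39))))))
theorem f309565 : Led Lsl_bt (LP (LK LD1_c8 LD2_c26 LD3_c53)) = (LP (LK LD1_c4 LD2_c14 LD3_c39)) :=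
  Lgr Lrot127 (Lpr_bf (f309563 IH) (Lpn (LP (LK LD1_c4 LD2_c14 LD3_c39))))
theorem f235412 : Led Lsl_ct (LP (LK LD1_c4 LD2_c14 LD3_c35)) = (LP (LK LD1_c8 LD2_c27 LD3_c53)) :=
  Lre_c IH (LK LD1_c4 LD2_c14 LD3_c35) (LK LD1_c8 LD2_c27 LD3_c53) Lrfl Lrfl
theorem f221349 : Led Lsl_gt (LP (LK LD1_c10 LD2_c53 LD3_c34)) = (LP (LK LD1_c5 LD2_c31 LD3_c15)) :=
  Lre_g IH (LK LD1_c10 LD2_c53 LD3_c34) (LK LD1_c5 LD2_c31 LD3_c15) Lrfl Lrfl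
theorem f221423 : Led Lsl_ct (LP (LK LD1_c5 LD2_c31 LD3_c3)) = (LP (LK LD1_c10 LD2_c53 LD3_c34)) :=
  Lre_c IH (LK LD1_c5 LD2_c31 LD3_c3) (LK LD1_c10 LD2_c53 LD3_c34) Lrfl Lrfl
theorem f261632 : Led Lsl_gt (LP (LK LD1_c2 LD2_c41 LD3_c54)) = (LP (LK LD1_c5 LD2_c31 LD3_c3)) :=
  Lre_g IH (LK LD1_c2 LD2_c41 LD3_c54) (LK LD1_c5 LD2_c31 LD3_c3) Lrfl Lrfl
theorem f309591 : Led Lsl_gt (LP (LK LD1_c8 LD2_c27 LD3_c53)) = (LP (LK LD1_c10 LD2_c54 LD3_c12)) :=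
  Lgr Lrot65 (Lpe (f235412 IH) (Lpr_bt (K13.f235409 IH) (Lpe (K14.f226889 IH) (Lpe (f309565 IH) (Lpr_ct (f309581 IH) (Lpe (f221349 IH) (Lpe (f221423 IH) (Lpe (f261632 IH) (Lpe (f185888 IH) (Lpr_ct (f185889 IH) (Lpn (LP (LK LD1_c10 LD2_c54 LD3_c12)))))))))))))
theorem f235312 : Led Lsl_ft (LP (LK LD1_c8 LD2_c27 LD3_c53)) = (LP (LK LD1_c15 LD2_c53 LD3_c38)) :=
  Lre_f IH (LK LD1_c8 LD2_c27 LD3_c53) (LK LD1_c15 LD2_c53 LD3_c38) Lrfl Lrfl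
theorem f314357 : Led Lsl_at (LP (LK LD1_c15 LD2_c53 LD3_c38)) = (LP (LK LD1_c15 LD2_c3 LD3_c18)) :=
  Lgr Lrot26 (Lpe (f235312 IH) (Lpr_gt (f309591 IH) (Lpr_gt (f314355 IH) (Lpn (LP (LK LD1_c15 LD2_c3 LD3_c18))))))
theorem f213644 : Led Lsl_ft (LP (LK LD1_c15 LD2_c3 LD3_c18)) = (LP (LK LD1_c7 LD2_c58 LD3_c45)) :=
  Lre_f IH (LK LD1_c15 LD2_c3 LD3_c18) (LK LD1_c7 LD2_c58 LD3_c45) Lrfl Lrfl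
theorem f314365 : Led Lsl_af (LP (LK LD1_c8 LD2_c27 LD3_c53)) = (LP (LK LD1_c7 LD2_c58 LD3_c45)) :=
  Lgr Lrot45 (Lpr_ft (f235312 IH) (Lpr_at (f314357 IH) (Lpr_ft (f213644 IH) (Lpn (LP (LK LD1_c7 LD2_c58 LD3_c45))))))
theorem f218274 : Led Lsl_et (LP (LK LD1_c8 LD2_c27 LD3_c53)) = (LP (LK LD1_c4 LD2_c14 LD3_c34)) :=
  Lre_e IH (LK LD1_c8 LD2_c27 LD3_c53) (LK LD1_c4 LD2_c14 LD3_c34) Lrfl Lrfl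
theorem f213725 : Led Lsl_et (LP (LK LD1_c3 LD2_c58 LD3_c36)) = (LP (LK LD1_c7 LD2_c58 LD3_c45)) :=
  Lre_e IH (LK LD1_c3 LD2_c58 LD3_c36) (LK LD1_c7 LD2_c58 LD3_c45) Lrfl Lrfl
theorem f314373 : Led Lsl_at (LP (LK LD1_c4 LD2_c14 LD3_c34)) = (LP (LK LD1_c3 LD2_c58 LD3_c36)) :=
  Lgr Lrot80 (Lpe (f218274 IH) (Lpr_af (f314365 IH) (Lpe (f213725 IH) (Lpn (LP (LK LD1_c3 LD2_c58 LD3_c36))))))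
theorem f235270 : Led Lsl_dt (LP (LK LD1_c4 LD2_c56 LD3_c0)) = (LP (LK LD1_c9 LD2_c43 LD3_c41)) :=
  Lre_d IH (LK LD1_c4 LD2_c56 LD3_c0) (LK LD1_c9 LD2_c43 LD3_c41) Lrfl Lrfl
theorem f171305 : Led Lsl_dt (LP (LK LD1_c7 LD2_c58 LD3_c44)) = (LP (LK LD1_c3 LD2_c58 LD3_c36)) :=
  Lre_d IH (LK LD1_c7 LD2_c58 LD3_c44) (LK LD1_c3 LD2_c58 LD3_c36) Lrfl Lrfl
theorem f314389 : Led Lsl_ct (LP (LK LD1_c9 LD2_c43 LD3_c41)) = (LP (LK LD1_c7 LD2_c58 LD3_c44)) :=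
  Lgr Lrot133 (Lpe (f235270 IH) (Lpr_ft (K13.f235275 IH) (Lpr_at (f314373 IH) (Lpe (K13.f171302 IH) (Lpr_df (K14.f171297 IH) (Lpe (K15.f205063 IH) (Lpe (K14.f171264 IH) (Lpe (K16.f171306 IH) (Lpe (f171305 IH) (Lpn (LP (LK LD1_c7 LD2_c58 LD3_c44))))))))))))
theorem f171303 : Led Lsl_dt (LP (LK LD1_c3 LD2_c58 LD3_c36)) = (LP (LK LD1_c7 LD2_c58 LD3_c44)) :=
  Lre_d IH (LK LD1_c3 LD2_c58 LD3_c36) (LK LD1_c7 LD2_c58 LD3_c44) Lrfl Lrfl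
theorem f314397 : Led Lsl_gf (LP (LK LD1_c4 LD2_c56 LD3_c0)) = (LP (LK LD1_c5 LD2_c35 LD3_c12)) :=
  Lgr Lrot154 (Lpr_dt (f235270 IH) (Lpr_ct (f314389 IH) (Lpe (f171303 IH) (Lpe (K13.f218141 IH) (Lpr_df (K16.f277928 IH) (Lpe (K16.f199381 IH) (Lpr_ct (K12.f199347 IH) (Lpr_gt (K16.f177953 IH) (Lpe (K16.f277902 IH) (Lpn (LP (LK LD1_c5 LD2_c35 LD3_c12))))))))))))
theorem f212808 : Led Lsl_ff (LP (LK LD1_c2 LD2_c37 LD3_c13)) = (LP (LK LD1_c4 LD2_c10 LD3_c4)) :=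
  Lgr Lrot19 (Lpr_dt (K16.f48132 IH) (Lpr_ft (K12.f212799 IH) (Lpr_dt (K16.f170856 IH) (Lpn (LP (LK LD1_c4 LD2_c10 LD3_c4))))))
theorem f235540 : Led Lsl_bt (LP (LK LD1_c2 LD2_c43 LD3_c32)) = (LP (LK LD1_c4 LD2_c10 LD3_c4)) :=
  Lgr Lrot35 (Lpr_ff (K13.f235247 IH) (Lpe (K10.f48120 IH) (Lpr_ff (f212808 IH) (Lpn (LP (LK LD1_c4 LD2_c10 LD3_c4))))))
theorem f314401 : Led Lsl_bt (LP (LK LD1_c2 LD2_c25 LD3_c49)) = (LP (LK LD1_c1 LD2_c59 LD3_c26)) :=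
  Lgr Lrot130 (Lpr_ct (K13.f235304 IH) (Lpr_gf (f314397 IH) (Lpe (K13.f213470 IH) (Lpr_bt (f235540 IH) (Lpe (K16.f275475 IH) (Lpe (K16.f217490 IH) (Lpr_ct (K12.f193339 IH) (Lpe (K12.f223590 IH) (Lpe (K10.f27660 IH) (Lpe (K11.f200721 IH) (Lpn (LP (LK LD1_c1 LD2_c59 LD3_c26)))))))))))))
theorem f235442 : Led Lsl_et (LP (LK LD1_c4 LD2_c56 LD3_c1)) = (LP (LK LD1_c2 LD2_c25 LD3_c49)) :=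
  Lre_e IH (LK LD1_c4 LD2_c56 LD3_c1) (LK LD1_c2 LD2_c25 LD3_c49) Lrfl Lrfl
theorem f189890 : Led Lsl_et (LP (LK LD1_c1 LD2_c59 LD3_c26)) = (LP (LK LD1_c4 LD2_c4 LD3_c47)) :=
  Lre_e IH (LK LD1_c1 LD2_c59 LD3_c26) (LK LD1_c4 LD2_c4 LD3_c47) Lrfl Lrfl
theorem f314409 : Led Lsl_bf (LP (LK LD1_c4 LD2_c56 LD3_c1)) = (LP (LK LD1_c4 LD2_c4 LD3_c47)) :=
  Lgr Lrot96 (Lpr_et (f235442 IH) (Lpr_bt (f314401 IH) (Lpr_et (f189890 IH) (Lpn (LP (LK LD1_c4 LD2_c4 LD3_c47))))))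
theorem f235314 : Led Lsl_ft (LP (LK LD1_c4 LD2_c56 LD3_c1)) = (LP (LK LD1_c9 LD2_c43 LD3_c45)) :=
  Lre_f IH (LK LD1_c4 LD2_c56 LD3_c1) (LK LD1_c9 LD2_c43 LD3_c45) Lrfl Lrfl
theorem f189899 : Led Lsl_ft (LP (LK LD1_c8 LD2_c10 LD3_c25)) = (LP (LK LD1_c4 LD2_c4 LD3_c47)) :=
  Lre_f IH (LK LD1_c8 LD2_c10 LD3_c25) (LK LD1_c4 LD2_c4 LD3_c47) Lrfl Lrfl
theorem f314416 : Led Lsl_bt (LP (LK LD1_c9 LD2_c43 LD3_c45)) = (LP (LK LD1_c8 LD2_c10 LD3_c25)) :=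
  Lgr Lrot35 (Lpe (f235314 IH) (Lpr_bf (f314409 IH) (Lpe (f189899 IH) (Lpn (LP (LK LD1_c8 LD2_c10 LD3_c25))))))
theorem f235313 : Led Lsl_et (LP (LK LD1_c2 LD2_c25 LD3_c49)) = (LP (LK LD1_c4 LD2_c56 LD3_c1)) :=
  Lre_e IH (LK LD1_c2 LD2_c25 LD3_c49) (LK LD1_c4 LD2_c56 LD3_c1) Lrfl Lrfl
theorem f235316 : Led Lsl_ft (LP (LK LD1_c8 LD2_c27 LD3_c56)) = (LP (LK LD1_c4 LD2_c14 LD3_c35)) :=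
  Lre_f IH (LK LD1_c8 LD2_c27 LD3_c56) (LK LD1_c4 LD2_c14 LD3_c35) Lrfl Lrfl
theorem f235317 : Led Lsl_et (LP (LK LD1_c9 LD2_c43 LD3_c45)) = (LP (LK LD1_c8 LD2_c27 LD3_c56)) :=
  Lgr Lrot69 (Lpe (f235314 IH) (Lpe (f235313 IH) (Lpr_ff (K13.f235305 IH) (Lpe (K13.f235315 IH) (Lpe (f235316 IH) (Lpn (LP (LK LD1_c8 LD2_c27 LD3_c56))))))))
theorem f235437 : Led Lsl_ef (LP (LK LD1_c9 LD2_c43 LD3_c45)) = (LP (LK LD1_c8 LD2_c27 LD3_c56)) :=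
  Lgr Lrot88 (Lpr_et (f235317 IH) (Lpn (LP (LK LD1_c8 LD2_c27 LD3_c56))))
theorem f235439 : Led Lsl_bt (LP (LK LD1_c4 LD2_c14 LD3_c41)) = (LP (LK LD1_c8 LD2_c27 LD3_c56)) :=
  Lre_b IH (LK LD1_c4 LD2_c14 LD3_c41) (LK LD1_c8 LD2_c27 LD3_c56) Lrfl Lrfl
theorem f314424 : Led Lsl_ef (LP (LK LD1_c4 LD2_c14 LD3_c41)) = (LP (LK LD1_c8 LD2_c10 LD3_c25)) :=
  Lgr Lrot29 (Lpr_bt (f235439 IH) (Lpe (f235437 IH) (Lpr_bt (f314416 IH) (Lpn (LP (LK LD1_c8 LD2_c10 LD3_c25))))))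
theorem f314430 : Led Lsl_et (LP (LK LD1_c4 LD2_c14 LD3_c41)) = (LP (LK LD1_c8 LD2_c10 LD3_c25)) :=
  Lgr Lrot87 (Lpr_ef (f314424 IH) (Lpn (LP (LK LD1_c8 LD2_c10 LD3_c25))))
theorem f314213 : Led Lsl_ct (LP (LK LD1_c8 LD2_c28 LD3_c2)) = (LP (LK LD1_c4 LD2_c14 LD3_c41)) :=
  Lre_c IH (LK LD1_c8 LD2_c28 LD3_c2) (LK LD1_c4 LD2_c14 LD3_c41) Lrfl Lrfl
theorem f189909 : Led Lsl_et (LP (LK LD1_c4 LD2_c4 LD3_c47)) = (LP (LK LD1_c1 LD2_c59 LD3_c26)) :=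
  Lre_e IH (LK LD1_c4 LD2_c4 LD3_c47) (LK LD1_c1 LD2_c59 LD3_c26) Lrfl Lrfl
theorem f200732 : Led Lsl_et (LP (LK LD1_c1 LD2_c59 LD3_c1)) = (LP (LK LD1_c4 LD2_c4 LD3_c10)) :=
  Lre_e IH (LK LD1_c1 LD2_c59 LD3_c1) (LK LD1_c4 LD2_c4 LD3_c10) Lrfl Lrfl
theorem f200733 : Led Lsl_cf (LP (LK LD1_c4 LD2_c4 LD3_c47)) = (LP (LK LD1_c4 LD2_c4 LD3_c10)) :=
  Lgr Lrot39 (Lpr_et (f189909 IH) (Lpr_ct (K11.f200723 IH) (Lpr_et (f200732 IH) (Lpn (LP (LK LD1_c4 LD2_c4 LD3_c10))))))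
theorem f189902 : Led Lsl_ft (LP (LK LD1_c4 LD2_c4 LD3_c47)) = (LP (LK LD1_c8 LD2_c10 LD3_c25)) :=
  Lre_f IH (LK LD1_c4 LD2_c4 LD3_c47) (LK LD1_c8 LD2_c10 LD3_c25) Lrfl Lrfl
theorem f200743 : Led Lsl_ft (LP (LK LD1_c8 LD2_c9 LD3_c4)) = (LP (LK LD1_c4 LD2_c4 LD3_c10)) :=
  Lre_f IH (LK LD1_c8 LD2_c9 LD3_c4) (LK LD1_c4 LD2_c4 LD3_c10) Lrfl Lrfl
theorem f200744 : Led Lsl_ct (LP (LK LD1_c8 LD2_c10 LD3_c25)) = (LP (LK LD1_c8 LD2_c9 LD3_c4)) :=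
  Lgr Lrot40 (Lpe (f189902 IH) (Lpr_cf (f200733 IH) (Lpe (f200743 IH) (Lpn (LP (LK LD1_c8 LD2_c9 LD3_c4))))))
theorem f314433 : Led Lsl_ef (LP (LK LD1_c8 LD2_c28 LD3_c2)) = (LP (LK LD1_c8 LD2_c9 LD3_c4)) :=
  Lgr Lrot28 (Lpr_ct (f314213 IH) (Lpr_et (f314430 IH) (Lpr_ct (f200744 IH) (Lpn (LP (LK LD1_c8 LD2_c9 LD3_c4))))))
theorem f314448 : Led Lsl_ft (LP (LK LD1_c8 LD2_c28 LD3_c2)) = (LP (LK LD1_c4 LD2_c14 LD3_c37)) :=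
  Lre_f IH (LK LD1_c8 LD2_c28 LD3_c2) (LK LD1_c4 LD2_c14 LD3_c37) Lrfl Lrfl
theorem f216394 : Led Lsl_et (LP (LK LD1_c4 LD2_c14 LD3_c37)) = (LP (LK LD1_c2 LD2_c4 LD3_c41)) :=
  Lre_e IH (LK LD1_c4 LD2_c14 LD3_c37) (LK LD1_c2 LD2_c4 LD3_c41) Lrfl Lrfl
theorem f200754 : Led Lsl_ft (LP (LK LD1_c4 LD2_c4 LD3_c10)) = (LP (LK LD1_c8 LD2_c9 LD3_c4)) :=
  Lre_f IH (LK LD1_c4 LD2_c4 LD3_c10) (LK LD1_c8 LD2_c9 LD3_c4) Lrfl Lrfl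
theorem f314449 : Led Lsl_ft (LP (LK LD1_c2 LD2_c4 LD3_c41)) = (LP (LK LD1_c1 LD2_c59 LD3_c1)) :=
  Lgr Lrot86 (Lpe (f216394 IH) (Lpe (f314448 IH) (Lpr_ef (f314433 IH) (Lpe (f200754 IH) (Lpe (f200732 IH) (Lpn (LP (LK LD1_c1 LD2_c59 LD3_c1))))))))
theorem f238348 : Led Lsl_gf (LP (LK LD1_c2 LD2_c4 LD3_c43)) = (LP (LK LD1_c1 LD2_c59 LD3_c4)) :=
  Lgr Lrot47 (Lpr_gt (K15.f238333 IH) (Lpe (K10.f52251 IH) (Lpe (K10.f52264 IH) (Lpn (LP (LK LD1_c1 LD2_c59 LD3_c4))))))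
theorem f314457 : Led Lsl_af (LP (LK LD1_c2 LD2_c4 LD3_c43)) = (LP (LK LD1_c1 LD2_c59 LD3_c1)) :=
  Lgr Lrot31 (Lpr_gf (f238348 IH) (Lpe (K12.f216384 IH) (Lpr_ft (f314449 IH) (Lpn (LP (LK LD1_c1 LD2_c59 LD3_c1))))))
theorem f221026 : Led Lsl_et (LP (LK LD1_c2 LD2_c4 LD3_c43)) = (LP (LK LD1_c4 LD2_c14 LD3_c42)) :=
  Lre_e IH (LK LD1_c2 LD2_c4 LD3_c43) (LK LD1_c4 LD2_c14 LD3_c42) Lrfl Lrfl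
theorem f52307 : Led Lsl_et (LP (LK LD1_c4 LD2_c4 LD3_c10)) = (LP (LK LD1_c1 LD2_c59 LD3_c1)) :=
  Lre_e IH (LK LD1_c4 LD2_c4 LD3_c10) (LK LD1_c1 LD2_c59 LD3_c1) Lrfl Lrfl
theorem f314468 : Led Lsl_at (LP (LK LD1_c4 LD2_c14 LD3_c42)) = (LP (LK LD1_c4 LD2_c4 LD3_c10)) :=
  Lgr Lrot80 (Lpe (f221026 IH) (Lpr_af (f314457 IH) (Lpe (f52307 IH) (Lpn (LP (LK LD1_c4 LD2_c4 LD3_c10))))))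
theorem f221014 : Led Lsl_ft (LP (LK LD1_c8 LD2_c28 LD3_c13)) = (LP (LK LD1_c4 LD2_c14 LD3_c42)) :=
  Lre_f IH (LK LD1_c8 LD2_c28 LD3_c13) (LK LD1_c4 LD2_c14 LD3_c42) Lrfl Lrfl
theorem f314476 : Led Lsl_af (LP (LK LD1_c8 LD2_c28 LD3_c13)) = (LP (LK LD1_c8 LD2_c9 LD3_c4)) :=
  Lgr Lrot45 (Lpr_ft (f221014 IH) (Lpr_at (f314468 IH) (Lpr_ft (f200754 IH) (Lpn (LP (LK LD1_c8 LD2_c9 LD3_c4))))))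
theorem f220991 : Led Lsl_ct (LP (LK LD1_c8 LD2_c28 LD3_c13)) = (LP (LK LD1_c4 LD2_c14 LD3_c45)) :=
  Lre_c IH (LK LD1_c8 LD2_c28 LD3_c13) (LK LD1_c4 LD2_c14 LD3_c45) Lrfl Lrfl
theorem f314480 : Led Lsl_at (LP (LK LD1_c4 LD2_c14 LD3_c45)) = (LP (LK LD1_c8 LD2_c10 LD3_c25)) :=
  Lgr Lrot107 (Lpe (f220991 IH) (Lpr_af (f314476 IH) (Lpe (f200744 IH) (Lpn (LP (LK LD1_c8 LD2_c10 LD3_c25))))))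
theorem f314513 : Led Lsl_ft (LP (LK LD1_c2 LD2_c4 LD3_c44)) = (LP (LK LD1_c4 LD2_c14 LD3_c45)) :=
  Lre_f IH (LK LD1_c2 LD2_c4 LD3_c44) (LK LD1_c4 LD2_c14 LD3_c45) Lrfl Lrfl
theorem f221030 : Led Lsl_gt (LP (LK LD1_c2 LD2_c4 LD3_c44)) = (LP (LK LD1_c4 LD2_c14 LD3_c43)) :=
  Lre_g IH (LK LD1_c2 LD2_c4 LD3_c44) (LK LD1_c4 LD2_c14 LD3_c43) Lrfl Lrfl
theorem f314514 : Led Lsl_gt (LP (LK LD1_c4 LD2_c14 LD3_c43)) = (LP (LK LD1_c8 LD2_c10 LD3_c25)) :=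
  Lgr Lrot46 (Lpe (f221030 IH) (Lpr_ft (f314513 IH) (Lpr_at (f314480 IH) (Lpn (LP (LK LD1_c8 LD2_c10 LD3_c25))))))
theorem f189879 : Led Lsl_bt (LP (LK LD1_c1 LD2_c59 LD3_c25)) = (LP (LK LD1_c0 LD2_c56 LD3_c31)) :=
  Lre_b IH (LK LD1_c1 LD2_c59 LD3_c25) (LK LD1_c0 LD2_c56 LD3_c31) Lrfl Lrfl
theorem f189880 : Led Lsl_et (LP (LK LD1_c0 LD2_c59 LD3_c16)) = (LP (LK LD1_c1 LD2_c59 LD3_c25)) :=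
  Lgr Lrot74 (Lpr_bf (K10.f189873 IH) (Lpe (f189865 IH) (Lpe (f189879 IH) (Lpn (LP (LK LD1_c1 LD2_c59 LD3_c25))))))
theorem f189883 : Led Lsl_ef (LP (LK LD1_c0 LD2_c59 LD3_c16)) = (LP (LK LD1_c1 LD2_c59 LD3_c25)) :=
  Lgr Lrot88 (Lpr_et (f189880 IH) (Lpn (LP (LK LD1_c1 LD2_c59 LD3_c25))))
theorem f189885 : Led Lsl_bt (LP (LK LD1_c0 LD2_c56 LD3_c31)) = (LP (LK LD1_c1 LD2_c59 LD3_c25)) :=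
  Lre_b IH (LK LD1_c0 LD2_c56 LD3_c31) (LK LD1_c1 LD2_c59 LD3_c25) Lrfl Lrfl
theorem f189886 : Led Lsl_et (LP (LK LD1_c1 LD2_c0 LD3_c46)) = (LP (LK LD1_c0 LD2_c56 LD3_c31)) :=
  Lgr Lrot74 (Lpe (K10.f189875 IH) (Lpr_ef (f189883 IH) (Lpe (f189885 IH) (Lpn (LP (LK LD1_c0 LD2_c56 LD3_c31))))))
theorem f189888 : Led Lsl_et (LP (LK LD1_c4 LD2_c19 LD3_c55)) = (LP (LK LD1_c2 LD2_c7 LD3_c26)) :=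
  Lre_e IH (LK LD1_c4 LD2_c19 LD3_c55) (LK LD1_c2 LD2_c7 LD3_c26) Lrfl Lrfl
theorem f189891 : Led Lsl_df (LP (LK LD1_c4 LD2_c19 LD3_c55)) = (LP (LK LD1_c4 LD2_c4 LD3_c47)) :=
  Lgr Lrot70 (Lpr_et (f189888 IH) (Lpr_dt (K13.f32031 IH) (Lpr_et (f189886 IH) (Lpr_dt (K13.f189889 IH) (Lpr_et (f189890 IH) (Lpn (LP (LK LD1_c4 LD2_c4 LD3_c47))))))))
theorem f189898 : Led Lsl_ft (LP (LK LD1_c4 LD2_c19 LD3_c55)) = (LP (LK LD1_c8 LD2_c37 LD3_c47)) :=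
  Lre_f IH (LK LD1_c4 LD2_c19 LD3_c55) (LK LD1_c8 LD2_c37 LD3_c47) Lrfl Lrfl
theorem f189900 : Led Lsl_dt (LP (LK LD1_c8 LD2_c37 LD3_c47)) = (LP (LK LD1_c8 LD2_c10 LD3_c25)) :=
  Lgr Lrot60 (Lpe (f189898 IH) (Lpr_df (f189891 IH) (Lpe (f189899 IH) (Lpn (LP (LK LD1_c8 LD2_c10 LD3_c25))))))
theorem f314135 : Led Lsl_dt (LP (LK LD1_c8 LD2_c28 LD3_c9)) = (LP (LK LD1_c4 LD2_c14 LD3_c41)) :=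
  Lre_d IH (LK LD1_c8 LD2_c28 LD3_c9) (LK LD1_c4 LD2_c14 LD3_c41) Lrfl Lrfl
theorem f314200 : Led Lsl_df (LP (LK LD1_c10 LD2_c7 LD3_c32)) = (LP (LK LD1_c5 LD2_c35 LD3_c36)) :=
  Lgr Lrot38 (Lpr_dt (f314195 IH) (Lpn (LP (LK LD1_c5 LD2_c35 LD3_c36))))
theorem f189912 : Led Lsl_df (LP (LK LD1_c8 LD2_c37 LD3_c47)) = (LP (LK LD1_c8 LD2_c10 LD3_c25)) :=
  Lgr Lrot38 (Lpr_dt (f189900 IH) (Lpn (LP (LK LD1_c8 LD2_c10 LD3_c25))))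
theorem f314435 : Led Lsl_ef (LP (LK LD1_c5 LD2_c35 LD3_c36)) = (LP (LK LD1_c8 LD2_c37 LD3_c47)) :=
  Lgr Lrot73 (Lpe (f314200 IH) (Lpr_et (f314107 IH) (Lpr_dt (f314135 IH) (Lpr_et (f314430 IH) (Lpe (f189912 IH) (Lpn (LP (LK LD1_c8 LD2_c37 LD3_c47))))))))
theorem f246946 : Led Lsl_et (LP (LK LD1_c1 LD2_c18 LD3_c15)) = (LP (LK LD1_c2 LD2_c43 LD3_c44)) :=
  Lre_e IH (LK LD1_c1 LD2_c18 LD3_c15) (LK LD1_c2 LD2_c43 LD3_c44) Lrfl Lrfl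
theorem f311616 : Led Lsl_dt (LP (LK LD1_c1 LD2_c18 LD3_c15)) = (LP (LK LD1_c2 LD2_c23 LD3_c36)) :=
  Lgr Lrot57 (Lpe (K12.f199480 IH) (Lpe (K16.f192824 IH) (Lpr_gt (K16.f199530 IH) (Lpr_dt (f177950 IH) (Lpe (f279610 IH) (Lpr_dt (f168968 IH) (Lpe (K13.f41083 IH) (Lpr_df (f168876 IH) (Lpr_gf (f311610 IH) (Lpn (LP (LK LD1_c2 LD2_c23 LD3_c36))))))))))))
theorem f168970 : Led Lsl_et (LP (LK LD1_c1 LD2_c10 LD3_c5)) = (LP (LK LD1_c2 LD2_c25 LD3_c51)) :=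
  Lre_e IH (LK LD1_c1 LD2_c10 LD3_c5) (LK LD1_c2 LD2_c25 LD3_c51) Lrfl Lrfl
theorem f168951 : Led Lsl_gt (LP (LK LD1_c2 LD2_c25 LD3_c51)) = (LP (LK LD1_c4 LD2_c56 LD3_c5)) :=
  Lre_g IH (LK LD1_c2 LD2_c25 LD3_c51) (LK LD1_c4 LD2_c56 LD3_c5) Lrfl Lrfl
theorem f314516 : Led Lsl_df (LP (LK LD1_c4 LD2_c14 LD3_c43)) = (LP (LK LD1_c4 LD2_c56 LD3_c5)) :=
  Lgr Lrot135 (Lpr_gt (f314514 IH) (Lpe (f189900 IH) (Lpe (f314435 IH) (Lpr_gt (f246953 IH) (Lpe (f246946 IH) (Lpr_dt (f311616 IH) (Lpe (f311610 IH) (Lpe (K14.f168944 IH) (Lpr_et (f168970 IH) (Lpr_gt (f168951 IH) (Lpn (LP (LK LD1_c4 LD2_c56 LD3_c5)))))))))))))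
theorem f189916 : Led Lsl_ct (LP (LK LD1_c8 LD2_c37 LD3_c47)) = (LP (LK LD1_c16 LD2_c9 LD3_c48)) :=
  Lre_c IH (LK LD1_c8 LD2_c37 LD3_c47) (LK LD1_c16 LD2_c9 LD3_c48) Lrfl Lrfl
theorem f189911 : Led Lsl_dt (LP (LK LD1_c26 LD2_c6 LD3_c31)) = (LP (LK LD1_c16 LD2_c9 LD3_c48)) :=
  Lre_d IH (LK LD1_c26 LD2_c6 LD3_c31) (LK LD1_c16 LD2_c9 LD3_c48) Lrfl Lrfl
theorem f168953 : Led Lsl_ct (LP (LK LD1_c4 LD2_c56 LD3_c4)) = (LP (LK LD1_c2 LD2_c25 LD3_c51)) :=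
  Lre_c IH (LK LD1_c4 LD2_c56 LD3_c4) (LK LD1_c2 LD2_c25 LD3_c51) Lrfl Lrfl
theorem f279620 : Led Lsl_gt (LP (LK LD1_c4 LD2_c56 LD3_c4)) = (LP (LK LD1_c9 LD2_c43 LD3_c49)) :=
  Lre_g IH (LK LD1_c4 LD2_c56 LD3_c4) (LK LD1_c9 LD2_c43 LD3_c49) Lrfl Lrfl
theorem f279621 : Led Lsl_dt (LP (LK LD1_c9 LD2_c43 LD3_c49)) = (LP (LK LD1_c17 LD2_c53 LD3_c6)) :=
  Lre_d IH (LK LD1_c9 LD2_c43 LD3_c49) (LK LD1_c17 LD2_c53 LD3_c6) Lrfl Lrfl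
theorem f314525 : Led Lsl_gf (LP (LK LD1_c26 LD2_c6 LD3_c31)) = (LP (LK LD1_c17 LD2_c53 LD3_c6)) :=
  Lgr Lrot143 (Lpr_dt (f189911 IH) (Lpe (f189916 IH) (Lpr_df (f189912 IH) (Lpe (f314514 IH) (Lpr_df (f314516 IH) (Lpe (f168951 IH) (Lpe (f168953 IH) (Lpr_gt (f279620 IH) (Lpr_dt (f279621 IH) (Lpn (LP (LK LD1_c17 LD2_c53 LD3_c6))))))))))))
theorem f189917 : Led Lsl_dt (LP (LK LD1_c16 LD2_c9 LD3_c48)) = (LP (LK LD1_c26 LD2_c6 LD3_c31)) :=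
  Lre_d IH (LK LD1_c16 LD2_c9 LD3_c48) (LK LD1_c26 LD2_c6 LD3_c31) Lrfl Lrfl
theorem f246954 : Led Lsl_ct (LP (LK LD1_c5 LD2_c35 LD3_c36)) = (LP (LK LD1_c11 LD2_c3 LD3_c24)) :=
  Lre_c IH (LK LD1_c5 LD2_c35 LD3_c36) (LK LD1_c11 LD2_c3 LD3_c24) Lrfl Lrfl
theorem f189910 : Led Lsl_ct (LP (LK LD1_c16 LD2_c9 LD3_c48)) = (LP (LK LD1_c8 LD2_c37 LD3_c47)) :=
  Lre_c IH (LK LD1_c16 LD2_c9 LD3_c48) (LK LD1_c8 LD2_c37 LD3_c47) Lrfl Lrfl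
theorem f314437 : Led Lsl_et (LP (LK LD1_c11 LD2_c3 LD3_c24)) = (LP (LK LD1_c16 LD2_c9 LD3_c48)) :=
  Lgr Lrot158 (Lpe (f246954 IH) (Lpr_ef (f314435 IH) (Lpe (f189910 IH) (Lpn (LP (LK LD1_c16 LD2_c9 LD3_c48))))))
theorem f314441 : Led Lsl_ef (LP (LK LD1_c11 LD2_c3 LD3_c24)) = (LP (LK LD1_c16 LD2_c9 LD3_c48)) :=
  Lgr Lrot88 (Lpr_et (f314437 IH) (Lpn (LP (LK LD1_c16 LD2_c9 LD3_c48))))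
theorem f279619 : Led Lsl_et (LP (LK LD1_c2 LD2_c25 LD3_c50)) = (LP (LK LD1_c4 LD2_c56 LD3_c4)) :=
  Lre_e IH (LK LD1_c2 LD2_c25 LD3_c50) (LK LD1_c4 LD2_c56 LD3_c4) Lrfl Lrfl
theorem f169141 : Led Lsl_dt (LP (LK LD1_c2 LD2_c25 LD3_c50)) = (LP (LK LD1_c4 LD2_c56 LD3_c3)) :=
  Lre_d IH (LK LD1_c2 LD2_c25 LD3_c50) (LK LD1_c4 LD2_c56 LD3_c3) Lrfl Lrfl
theorem f314529 : Led Lsl_gt (LP (LK LD1_c11 LD2_c3 LD3_c24)) = (LP (LK LD1_c5 LD2_c35 LD3_c43)) :=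
  Lgr Lrot131 (Lpr_ef (f314441 IH) (Lpr_dt (f189917 IH) (Lpr_gf (f314525 IH) (Lpe (f279621 IH) (Lpe (f279620 IH) (Lpe (f279619 IH) (Lpr_dt (f169141 IH) (Lpr_gf (f279610 IH) (Lpe (f177950 IH) (Lpr_et (f177951 IH) (Lpn (LP (LK LD1_c5 LD2_c35 LD3_c43)))))))))))))
theorem f180941 : Led Lsl_bt (LP (LK LD1_c2 LD2_c34 LD3_c45)) = (LP (LK LD1_c5 LD2_c15 LD3_c44)) :=
  Lre_b IH (LK LD1_c2 LD2_c34 LD3_c45) (LK LD1_c5 LD2_c15 LD3_c44) Lrfl Lrfl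
theorem f271583 : Led Lsl_et (LP (LK LD1_c2 LD2_c11 LD3_c40)) = (LP (LK LD1_c4 LD2_c29 LD3_c6)) :=
  Lre_e IH (LK LD1_c2 LD2_c11 LD3_c40) (LK LD1_c4 LD2_c29 LD3_c6) Lrfl Lrfl
theorem f271584 : Led Lsl_gf (LP (LK LD1_c4 LD2_c15 LD3_c8)) = (LP (LK LD1_c4 LD2_c29 LD3_c6)) :=
  Lgr Lrot141 (Lpe (K10.f45149 IH) (Lpr_dt (K10.f45148 IH) (Lpr_gt (K10.f45107 IH) (Lpe (K14.f45101 IH) (Lpe (K11.f54364 IH) (Lpe (K14.f253182 IH) (Lpr_dt (K14.f212217 IH) (Lpr_gt (K14.f178471 IH) (Lpr_df (K16.f271575 IH) (Lpr_et (f271583 IH) (Lpn (LP (LK LD1_c4 LD2_c29 LD3_c6)))))))))))))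
theorem f32361 : Led Lsl_et (LP (LK LD1_c2 LD2_c34 LD3_c45)) = (LP (LK LD1_c1 LD2_c14 LD3_c23)) :=
  Lre_e IH (LK LD1_c2 LD2_c34 LD3_c45) (LK LD1_c1 LD2_c14 LD3_c23) Lrfl Lrfl
theorem f271592 : Led Lsl_dt (LP (LK LD1_c2 LD2_c34 LD3_c45)) = (LP (LK LD1_c4 LD2_c29 LD3_c6)) :=
  Lgr Lrot136 (Lpr_et (f32361 IH) (Lpe (K10.f48336 IH) (Lpr_ef (K10.f48324 IH) (Lpr_dt (K10.f48183 IH) (Lpe (K9.f48187 IH) (Lpe (K15.f48337 IH) (Lpr_gf (K15.f259373 IH) (Lpe (K10.f48230 IH) (Lpe (K10.f48202 IH) (Lpr_gf (f271584 IH) (Lpn (LP (LK LD1_c4 LD2_c29 LD3_c6)))))))))))))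
theorem f271599 : Led Lsl_df (LP (LK LD1_c2 LD2_c34 LD3_c45)) = (LP (LK LD1_c4 LD2_c29 LD3_c6)) :=
  Lgr Lrot38 (Lpr_dt (f271592 IH) (Lpn (LP (LK LD1_c4 LD2_c29 LD3_c6))))
theorem f293355 : Led Lsl_bf (LP (LK LD1_c4 LD2_c29 LD3_c6)) = (LP (LK LD1_c8 LD2_c38 LD3_c51)) :=
  Lgr Lrot93 (Lpe (f271599 IH) (Lpr_bt (f180941 IH) (Lpr_dt (f293353 IH) (Lpn (LP (LK LD1_c8 LD2_c38 LD3_c51))))))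
theorem f314531 : Led Lsl_bt (LP (LK LD1_c5 LD2_c35 LD3_c36)) = (LP (LK LD1_c8 LD2_c9 LD3_c43)) :=
  Lgr Lrot92 (Lpr_ct (f246954 IH) (Lpr_gt (f314529 IH) (Lpe (f293389 IH) (Lpe (f293355 IH) (Lpe (f271584 IH) (Lpr_ct (f48212 IH) (Lpr_gt (f286481 IH) (Lpe (K17.f286248 IH) (Lpr_bt (K18.f286285 IH) (Lpr_gt (f298486 IH) (Lpn (LP (LK LD1_c8 LD2_c9 LD3_c43)))))))))))))
theorem f189882 : Led Lsl_et (LP (LK LD1_c4 LD2_c14 LD3_c20)) = (LP (LK LD1_c2 LD2_c4 LD3_c32)) :=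
  Lre_e IH (LK LD1_c4 LD2_c14 LD3_c20) (LK LD1_c2 LD2_c4 LD3_c32) Lrfl Lrfl
theorem f32034 : Led Lsl_et (LP (LK LD1_c2 LD2_c7 LD3_c26)) = (LP (LK LD1_c4 LD2_c19 LD3_c55)) :=
  Lre_e IH (LK LD1_c2 LD2_c7 LD3_c26) (LK LD1_c4 LD2_c19 LD3_c55) Lrfl Lrfl
theorem f189929 : Led Lsl_bf (LP (LK LD1_c4 LD2_c14 LD3_c20)) = (LP (LK LD1_c4 LD2_c19 LD3_c55)) :=
  Lgr Lrot96 (Lpr_et (f189882 IH) (Lpr_bt (K15.f189877 IH) (Lpr_et (f32034 IH) (Lpn (LP (LK LD1_c4 LD2_c19 LD3_c55))))))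
theorem f189934 : Led Lsl_ft (LP (LK LD1_c4 LD2_c14 LD3_c20)) = (LP (LK LD1_c8 LD2_c27 LD3_c22)) :=
  Lre_f IH (LK LD1_c4 LD2_c14 LD3_c20) (LK LD1_c8 LD2_c27 LD3_c22) Lrfl Lrfl
theorem f189914 : Led Lsl_ft (LP (LK LD1_c8 LD2_c37 LD3_c47)) = (LP (LK LD1_c4 LD2_c19 LD3_c55)) :=
  Lre_f IH (LK LD1_c8 LD2_c37 LD3_c47) (LK LD1_c4 LD2_c19 LD3_c55) Lrfl Lrfl
theorem f189935 : Led Lsl_bt (LP (LK LD1_c8 LD2_c27 LD3_c22)) = (LP (LK LD1_c8 LD2_c37 LD3_c47)) :=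
  Lgr Lrot35 (Lpe (f189934 IH) (Lpr_bf (f189929 IH) (Lpe (f189914 IH) (Lpn (LP (LK LD1_c8 LD2_c37 LD3_c47))))))
theorem f314540 : Led Lsl_ef (LP (LK LD1_c8 LD2_c27 LD3_c22)) = (LP (LK LD1_c8 LD2_c9 LD3_c43)) :=
  Lgr Lrot29 (Lpr_bt (f189935 IH) (Lpe (f314435 IH) (Lpr_bt (f314531 IH) (Lpn (LP (LK LD1_c8 LD2_c9 LD3_c43))))))
theorem f189941 : Led Lsl_ct (LP (LK LD1_c8 LD2_c27 LD3_c22)) = (LP (LK LD1_c15 LD2_c52 LD3_c40)) :=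
  Lre_c IH (LK LD1_c8 LD2_c27 LD3_c22) (LK LD1_c15 LD2_c52 LD3_c40) Lrfl Lrfl
theorem f298583 : Led Lsl_ct (LP (LK LD1_c15 LD2_c17 LD3_c57)) = (LP (LK LD1_c8 LD2_c9 LD3_c43)) :=
  Lgr Lrot59 (Lpr_cf (f298580 IH) (Lpn (LP (LK LD1_c8 LD2_c9 LD3_c43))))
theorem f314542 : Led Lsl_et (LP (LK LD1_c15 LD2_c52 LD3_c40)) = (LP (LK LD1_c15 LD2_c17 LD3_c57)) :=
  Lgr Lrot158 (Lpe (f189941 IH) (Lpr_ef (f314540 IH) (Lpe (f298583 IH) (Lpn (LP (LK LD1_c15 LD2_c17 LD3_c57))))))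
theorem f314548 : Led Lsl_dt (LP (LK LD1_c15 LD2_c52 LD3_c40)) = (LP (LK LD1_c25 LD2_c48 LD3_c41)) :=
  Lre_d IH (LK LD1_c15 LD2_c52 LD3_c40) (LK LD1_c25 LD2_c48 LD3_c41) Lrfl Lrfl
theorem f238350 : Led Lsl_df (LP (LK LD1_c2 LD2_c4 LD3_c36)) = (LP (LK LD1_c2 LD2_c4 LD3_c43)) :=
  Lgr Lrot84 (Lpe (K15.f200429 IH) (Lpe (K15.f8097 IH) (Lpe (K12.f8096 IH) (Lpe (K10.f52670 IH) (Lpe (K11.f27782 IH) (Lpe (K15.f196929 IH) (Lpr_gt (K15.f238333 IH) (Lpe (K10.f52247 IH) (Lpe (f238348 IH) (Lpn (LP (LK LD1_c2 LD2_c4 LD3_c43))))))))))))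
theorem f220969 : Led Lsl_gt (LP (LK LD1_c4 LD2_c14 LD3_c42)) = (LP (LK LD1_c8 LD2_c28 LD3_c10)) :=
  Lre_g IH (LK LD1_c4 LD2_c14 LD3_c42) (LK LD1_c8 LD2_c28 LD3_c10) Lrfl Lrfl
theorem f220970 : Led Lsl_dt (LP (LK LD1_c8 LD2_c28 LD3_c10)) = (LP (LK LD1_c15 LD2_c54 LD3_c6)) :=
  Lre_d IH (LK LD1_c8 LD2_c28 LD3_c10) (LK LD1_c15 LD2_c54 LD3_c6) Lrfl Lrfl
theorem f314558 : Led Lsl_gf (LP (LK LD1_c25 LD2_c48 LD3_c41)) = (LP (LK LD1_c15 LD2_c54 LD3_c6)) :=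
  Lgr Lrot134 (Lpe (f314548 IH) (Lpr_et (f314542 IH) (Lpr_gt (f220263 IH) (Lpe (K17.f243915 IH) (Lpe (K17.f243911 IH) (Lpr_gt (K15.f243918 IH) (Lpr_df (f238350 IH) (Lpr_et (f221026 IH) (Lpr_gt (f220969 IH) (Lpr_dt (f220970 IH) (Lpn (LP (LK LD1_c15 LD2_c54 LD3_c6)))))))))))))
theorem f189940 : Led Lsl_dt (LP (LK LD1_c25 LD2_c48 LD3_c41)) = (LP (LK LD1_c15 LD2_c52 LD3_c40)) :=
  Lre_d IH (LK LD1_c25 LD2_c48 LD3_c41) (LK LD1_c15 LD2_c52 LD3_c40) Lrfl Lrfl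
theorem f189939 : Led Lsl_ct (LP (LK LD1_c15 LD2_c52 LD3_c40)) = (LP (LK LD1_c8 LD2_c27 LD3_c22)) :=
  Lre_c IH (LK LD1_c15 LD2_c52 LD3_c40) (LK LD1_c8 LD2_c27 LD3_c22) Lrfl Lrfl
theorem f221024 : Led Lsl_ct (LP (LK LD1_c2 LD2_c4 LD3_c44)) = (LP (LK LD1_c4 LD2_c14 LD3_c42)) :=
  Lre_c IH (LK LD1_c2 LD2_c4 LD3_c44) (LK LD1_c4 LD2_c14 LD3_c42) Lrfl Lrfl
theorem f314521 : Led Lsl_dt (LP (LK LD1_c4 LD2_c14 LD3_c43)) = (LP (LK LD1_c4 LD2_c56 LD3_c5)) :=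
  Lgr Lrot42 (Lpr_df (f314516 IH) (Lpn (LP (LK LD1_c4 LD2_c56 LD3_c5))))
theorem f235444 : Led Lsl_gt (LP (LK LD1_c4 LD2_c56 LD3_c5)) = (LP (LK LD1_c9 LD2_c43 LD3_c45)) :=
  Lre_g IH (LK LD1_c4 LD2_c56 LD3_c5) (LK LD1_c9 LD2_c43 LD3_c45) Lrfl Lrfl
theorem f314560 : Led Lsl_df (LP (LK LD1_c8 LD2_c27 LD3_c22)) = (LP (LK LD1_c9 LD2_c43 LD3_c45)) :=
  Lgr Lrot84 (Lpe (f189939 IH) (Lpe (f189940 IH) (Lpr_gf (f314558 IH) (Lpe (f220970 IH) (Lpe (f220969 IH) (Lpe (f221024 IH) (Lpr_gt (f221030 IH) (Lpr_dt (f314521 IH) (Lpr_gt (f235444 IH) (Lpn (LP (LK LD1_c9 LD2_c43 LD3_c45))))))))))))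
theorem f189942 : Led Lsl_ft (LP (LK LD1_c8 LD2_c27 LD3_c22)) = (LP (LK LD1_c4 LD2_c14 LD3_c20)) :=
  Lre_f IH (LK LD1_c8 LD2_c27 LD3_c22) (LK LD1_c4 LD2_c14 LD3_c20) Lrfl Lrfl
theorem f314565 : Led Lsl_dt (LP (LK LD1_c4 LD2_c14 LD3_c20)) = (LP (LK LD1_c4 LD2_c56 LD3_c1)) :=
  Lgr Lrot60 (Lpe (f189942 IH) (Lpr_df (f314560 IH) (Lpe (f235314 IH) (Lpn (LP (LK LD1_c4 LD2_c56 LD3_c1))))))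
theorem f290974 : Led Lsl_cf (LP (LK LD1_c8 LD2_c6 LD3_c61)) = (LP (LK LD1_c8 LD2_c7 LD3_c2)) :=
  Lgr Lrot11 (Lpr_ct (f290970 IH) (Lpn (LP (LK LD1_c8 LD2_c7 LD3_c2))))
theorem f313218 : Led Lsl_df (LP (LK LD1_c1 LD2_c18 LD3_c21)) = (LP (LK LD1_c1 LD2_c59 LD3_c55)) :=
  Lgr Lrot177 (Lpr_ct (f199553 IH) (Lpe (f199548 IH) (Lpe (K13.f199342 IH) (Lpr_dt (f313090 IH) (Lpe (K13.f231574 IH) (Lpr_dt (f30968 IH) (Lpe (f290974 IH) (Lpr_dt (f51253 IH) (Lpe (K15.f256141 IH) (Lpn (LP (LK LD1_c1 LD2_c59 LD3_c55))))))))))))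
theorem f237924 : Led Lsl_et (LP (LK LD1_c1 LD2_c59 LD3_c55)) = (LP (LK LD1_c4 LD2_c5 LD3_c28)) :=
  Lre_e IH (LK LD1_c1 LD2_c59 LD3_c55) (LK LD1_c4 LD2_c5 LD3_c28) Lrfl Lrfl
theorem f237932 : Led Lsl_gt (LP (LK LD1_c4 LD2_c5 LD3_c28)) = (LP (LK LD1_c8 LD2_c11 LD3_c53)) :=
  Lre_g IH (LK LD1_c4 LD2_c5 LD3_c28) (LK LD1_c8 LD2_c11 LD3_c53) Lrfl Lrfl
theorem f271280 : Led Lsl_df (LP (LK LD1_c4 LD2_c2 LD3_c5)) = (LP (LK LD1_c5 LD2_c12 LD3_c42)) :=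
  Lgr Lrot12 (Lpe (f184686 IH) (Lpr_dt (K16.f271276 IH) (Lpr_bt (K16.f271269 IH) (Lpn (LP (LK LD1_c5 LD2_c12 LD3_c42))))))
theorem f211447 : Led Lsl_gt (LP (LK LD1_c8 LD2_c3 LD3_c1)) = (LP (LK LD1_c4 LD2_c1 LD3_c8)) :=
  Lre_g IH (LK LD1_c8 LD2_c3 LD3_c1) (LK LD1_c4 LD2_c1 LD3_c8) Lrfl Lrfl
theorem f312153 : Led Lsl_gt (LP (LK LD1_c10 LD2_c39 LD3_c39)) = (LP (LK LD1_c5 LD2_c24 LD3_c34)) :=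
  Lre_g IH (LK LD1_c10 LD2_c39 LD3_c39) (LK LD1_c5 LD2_c24 LD3_c34) Lrfl Lrfl
theorem f312154 : Led Lsl_df (LP (LK LD1_c8 LD2_c3 LD3_c1)) = (LP (LK LD1_c5 LD2_c24 LD3_c34)) :=
  Lgr Lrot135 (Lpr_gt (f211447 IH) (Lpr_df (K17.f223567 IH) (Lpr_et (K15.f180220 IH) (Lpe (K15.f241906 IH) (Lpe (K16.f171675 IH) (Lpe (f271280 IH) (Lpr_gt (f184744 IH) (Lpe (f275913 IH) (Lpr_et (f312147 IH) (Lpr_gt (f312153 IH) (Lpn (LP (LK LD1_c5 LD2_c24 LD3_c34)))))))))))))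
theorem f227223 : Led Lsl_ef (LP (LK LD1_c4 LD2_c21 LD3_c52)) = (LP (LK LD1_c2 LD2_c33 LD3_c11)) :=
  Lgr Lrot73 (Lpr_dt (K16.f43131 IH) (Lpr_et (K14.f42919 IH) (Lpe (f227211 IH) (Lpr_et (K13.f227219 IH) (Lpr_dt (K13.f225592 IH) (Lpn (LP (LK LD1_c2 LD2_c33 LD3_c11))))))))
theorem f255050 : Led Lsl_gf (LP (LK LD1_c1 LD2_c58 LD3_c44)) = (LP (LK LD1_c2 LD2_c24 LD3_c10)) :=
  Lgr Lrot144 (Lpr_dt (K13.f225592 IH) (Lpe (K13.f227231 IH) (Lpr_dt (K11.f180219 IH) (Lpe (K10.f32073 IH) (Lpe (K11.f34776 IH) (Lpe (K12.f212021 IH) (Lpr_df (K13.f227285 IH) (Lpr_gf (K14.f255041 IH) (Lpe (K9.f170673 IH) (Lpn (LP (LK LD1_c2 LD2_c24 LD3_c10))))))))))))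
theorem f255614 : Led Lsl_df (LP (LK LD1_c2 LD2_c24 LD3_c10)) = (LP (LK LD1_c2 LD2_c7 LD3_c59)) :=
  Lgr Lrot170 (Lpe (f255050 IH) (Lpr_df (K13.f225589 IH) (Lpe (f227223 IH) (Lpr_gt (K14.f255597 IH) (Lpr_dt (K14.f235741 IH) (Lpr_gt (K14.f235742 IH) (Lpr_df (K14.f255584 IH) (Lpr_et (K14.f255583 IH) (Lpr_gt (K14.f255577 IH) (Lpe (K15.f194219 IH) (Lpn (LP (LK LD1_c2 LD2_c7 LD3_c59)))))))))))))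
theorem f255582 : Led Lsl_gt (LP (LK LD1_c4 LD2_c20 LD3_c57)) = (LP (LK LD1_c8 LD2_c39 LD3_c33)) :=
  Lre_g IH (LK LD1_c4 LD2_c20 LD3_c57) (LK LD1_c8 LD2_c39 LD3_c33) Lrfl Lrfl
theorem f312158 : Led Lsl_ef (LP (LK LD1_c8 LD2_c39 LD3_c33)) = (LP (LK LD1_c5 LD2_c24 LD3_c34)) :=
  Lgr Lrot17 (Lpe (f255582 IH) (Lpe (K15.f194219 IH) (Lpe (f255614 IH) (Lpe (K15.f255054 IH) (Lpe (K13.f241896 IH) (Lpr_gf (K15.f241906 IH) (Lpe (K15.f180220 IH) (Lpe (K17.f223567 IH) (Lpe (f211447 IH) (Lpr_df (f312154 IH) (Lpn (LP (LK LD1_c5 LD2_c24 LD3_c34)))))))))))))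
theorem f312160 : Led Lsl_et (LP (LK LD1_c8 LD2_c39 LD3_c33)) = (LP (LK LD1_c5 LD2_c24 LD3_c34)) :=
  Lgr Lrot87 (Lpr_ef (f312158 IH) (Lpn (LP (LK LD1_c5 LD2_c24 LD3_c34))))
theorem f308656 : Led Lsl_dt (LP (LK LD1_c8 LD2_c39 LD3_c33)) = (LP (LK LD1_c16 LD2_c13 LD3_c2)) :=
  Lre_d IH (LK LD1_c8 LD2_c39 LD3_c33) (LK LD1_c16 LD2_c13 LD3_c2) Lrfl Lrfl
theorem f194483 : Led Lsl_gt (LP (LK LD1_c5 LD2_c24 LD3_c34)) = (LP (LK LD1_c2 LD2_c38 LD3_c50)) :=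
  Lre_g IH (LK LD1_c5 LD2_c24 LD3_c34) (LK LD1_c2 LD2_c38 LD3_c50) Lrfl Lrfl
theorem f184411 : Led Lsl_ct (LP (LK LD1_c2 LD2_c23 LD3_c15)) = (LP (LK LD1_c2 LD2_c8 LD3_c11)) :=
  Lgr Lrot59 (Lpr_cf (K13.f184369 IH) (Lpn (LP (LK LD1_c2 LD2_c8 LD3_c11))))
theorem f251778 : Led Lsl_gt (LP (LK LD1_c1 LD2_c58 LD3_c30)) = (LP (LK LD1_c2 LD2_c8 LD3_c11)) :=
  Lgr Lrot65 (Lpe (K10.f194411 IH) (Lpr_bt (K10.f192513 IH) (Lpe (K13.f230405 IH) (Lpe (K14.f230407 IH) (Lpe (K15.f246290 IH) (Lpe (K13.f1406 IH) (Lpe (K14.f190823 IH) (Lpr_gf (K14.f251756 IH) (Lpr_bf (K13.f167326 IH) (Lpr_ct (f184411 IH) (Lpn (LP (LK LD1_c2 LD2_c8 LD3_c11)))))))))))))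
theorem f255651 : Led Lsl_et (LP (LK LD1_c4 LD2_c21 LD3_c21)) = (LP (LK LD1_c8 LD2_c40 LD3_c18)) :=
  Lre_e IH (LK LD1_c4 LD2_c21 LD3_c21) (LK LD1_c8 LD2_c40 LD3_c18) Lrfl Lrfl
theorem f255637 : Led Lsl_dt (LP (LK LD1_c16 LD2_c14 LD3_c25)) = (LP (LK LD1_c8 LD2_c41 LD3_c22)) :=
  Lgr Lrot42 (Lpr_df (f255634 IH) (Lpn (LP (LK LD1_c8 LD2_c41 LD3_c22))))
theorem f312163 : Led Lsl_gf (LP (LK LD1_c16 LD2_c13 LD3_c2)) = (LP (LK LD1_c8 LD2_c41 LD3_c22)) :=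
  Lgr Lrot134 (Lpe (f308656 IH) (Lpr_et (f312160 IH) (Lpr_gt (f194483 IH) (Lpe (f194431 IH) (Lpr_dt (f194429 IH) (Lpr_gt (f251778 IH) (Lpe (K13.f184413 IH) (Lpr_et (f255651 IH) (Lpr_gt (f255633 IH) (Lpr_dt (f255637 IH) (Lpn (LP (LK LD1_c8 LD2_c41 LD3_c22)))))))))))))
theorem f312162 : Led Lsl_dt (LP (LK LD1_c16 LD2_c13 LD3_c2)) = (LP (LK LD1_c8 LD2_c39 LD3_c33)) :=
  Lre_d IH (LK LD1_c16 LD2_c13 LD3_c2) (LK LD1_c8 LD2_c39 LD3_c33) Lrfl Lrfl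
theorem f227244 : Led Lsl_et (LP (LK LD1_c4 LD2_c21 LD3_c51)) = (LP (LK LD1_c8 LD2_c41 LD3_c22)) :=
  Lre_e IH (LK LD1_c4 LD2_c21 LD3_c51) (LK LD1_c8 LD2_c41 LD3_c22) Lrfl Lrfl
theorem f227239 : Led Lsl_dt (LP (LK LD1_c4 LD2_c21 LD3_c51)) = (LP (LK LD1_c8 LD2_c41 LD3_c21)) :=
  Lre_d IH (LK LD1_c4 LD2_c21 LD3_c51) (LK LD1_c8 LD2_c41 LD3_c21) Lrfl Lrfl
theorem f310532 : Led Lsl_et (LP (LK LD1_c5 LD2_c24 LD3_c33)) = (LP (LK LD1_c10 LD2_c39 LD3_c49)) :=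
  Lre_e IH (LK LD1_c5 LD2_c24 LD3_c33) (LK LD1_c10 LD2_c39 LD3_c49) Lrfl Lrfl
theorem f310533 : Led Lsl_gt (LP (LK LD1_c10 LD2_c39 LD3_c49)) = (LP (LK LD1_c8 LD2_c41 LD3_c21)) :=
  Lgr Lrot137 (Lpe (f310532 IH) (Lpr_dt (f310520 IH) (Lpe (f200393 IH) (Lpr_df (K17.f223567 IH) (Lpr_et (K15.f180220 IH) (Lpr_gf (K13.f227231 IH) (Lpe (K14.f227229 IH) (Lpr_dt (K16.f43131 IH) (Lpe (K16.f227234 IH) (Lpe (K17.f227235 IH) (Lpn (LP (LK LD1_c8 LD2_c41 LD3_c21)))))))))))))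
theorem f226876 : Led Lsl_et (LP (LK LD1_c15 LD2_c18 LD3_c61)) = (LP (LK LD1_c8 LD2_c8 LD3_c5)) :=
  Lre_e IH (LK LD1_c15 LD2_c18 LD3_c61) (LK LD1_c8 LD2_c8 LD3_c5) Lrfl Lrfl
theorem f312165 : Led Lsl_gt (LP (LK LD1_c8 LD2_c39 LD3_c33)) = (LP (LK LD1_c8 LD2_c39 LD3_c14)) :=
  Lgr Lrot139 (Lpe (f312162 IH) (Lpr_gf (f312163 IH) (Lpe (f227244 IH) (Lpr_dt (f227239 IH) (Lpe (f310533 IH) (Lpr_df (f310524 IH) (Lpr_et (f226876 IH) (Lpe (f269400 IH) (Lpr_ef (f269392 IH) (Lpe (f305488 IH) (Lpn (LP (LK LD1_c8 LD2_c39 LD3_c14)))))))))))))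
theorem f310563 : Led Lsl_at (LP (LK LD1_c10 LD2_c30 LD3_c55)) = (LP (LK LD1_c10 LD2_c35 LD3_c21)) :=
  Lgr Lrot66 (Lpe (K15.f42443 IH) (Lpr_af (f310559 IH) (Lpe (K10.f194737 IH) (Lpn (LP (LK LD1_c10 LD2_c35 LD3_c21))))))
theorem f42472 : Led Lsl_et (LP (LK LD1_c2 LD2_c36 LD3_c51)) = (LP (LK LD1_c5 LD2_c20 LD3_c26)) :=
  Lre_e IH (LK LD1_c2 LD2_c36 LD3_c51) (LK LD1_c5 LD2_c20 LD3_c26) Lrfl Lrfl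
theorem f31423 : Led Lsl_et (LP (LK LD1_c4 LD2_c20 LD3_c48)) = (LP (LK LD1_c2 LD2_c7 LD3_c53)) :=
  Lre_e IH (LK LD1_c4 LD2_c20 LD3_c48) (LK LD1_c2 LD2_c7 LD3_c53) Lrfl Lrfl
theorem f170729 : Led Lsl_gt (LP (LK LD1_c4 LD2_c52 LD3_c49)) = (LP (LK LD1_c2 LD2_c24 LD3_c8)) :=
  Lre_g IH (LK LD1_c4 LD2_c52 LD3_c49) (LK LD1_c2 LD2_c24 LD3_c8) Lrfl Lrfl
theorem f187946 : Led Lsl_dt (LP (LK LD1_c9 LD2_c37 LD3_c40)) = (LP (LK LD1_c4 LD2_c52 LD3_c49)) :=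
  Lre_d IH (LK LD1_c9 LD2_c37 LD3_c40) (LK LD1_c4 LD2_c52 LD3_c49) Lrfl Lrfl
theorem f199326 : Led Lsl_gt (LP (LK LD1_c5 LD2_c20 LD3_c26)) = (LP (LK LD1_c9 LD2_c37 LD3_c40)) :=
  Lgr Lrot137 (Lpe (f42472 IH) (Lpr_dt (K15.f42451 IH) (Lpr_gf (K12.f199186 IH) (Lpe (K0.f31162 IH) (Lpr_et (K0.f31172 IH) (Lpe (K10.f31132 IH) (Lpe (f31423 IH) (Lpr_dt (K10.f187933 IH) (Lpe (f170729 IH) (Lpe (f187946 IH) (Lpn (LP (LK LD1_c9 LD2_c37 LD3_c40)))))))))))))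
theorem f310567 : Led Lsl_gt (LP (LK LD1_c9 LD2_c37 LD3_c40)) = (LP (LK LD1_c10 LD2_c35 LD3_c21)) :=
  Lgr Lrot46 (Lpe (f199326 IH) (Lpr_ft (K15.f42443 IH) (Lpr_at (f310563 IH) (Lpn (LP (LK LD1_c10 LD2_c35 LD3_c21))))))
theorem f187955 : Led Lsl_dt (LP (LK LD1_c4 LD2_c52 LD3_c49)) = (LP (LK LD1_c9 LD2_c37 LD3_c40)) :=
  Lre_d IH (LK LD1_c4 LD2_c52 LD3_c49) (LK LD1_c9 LD2_c37 LD3_c40) Lrfl Lrfl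
theorem f310569 : Led Lsl_gf (LP (LK LD1_c4 LD2_c52 LD3_c49)) = (LP (LK LD1_c4 LD2_c3 LD3_c33)) :=
  Lgr Lrot138 (Lpr_dt (f187955 IH) (Lpr_gt (f310567 IH) (Lpe (K10.f194733 IH) (Lpe (K17.f279738 IH) (Lpr_gt (K18.f237233 IH) (Lpe (K18.f227196 IH) (Lpe (K18.f227197 IH) (Lpe (f269384 IH) (Lpe (K16.f238659 IH) (Lpe (f305490 IH) (Lpn (LP (LK LD1_c4 LD2_c3 LD3_c33)))))))))))))
theorem f187912 : Led Lsl_gt (LP (LK LD1_c4 LD2_c20 LD3_c3)) = (LP (LK LD1_c8 LD2_c38 LD3_c4)) :=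
  Lre_g IH (LK LD1_c4 LD2_c20 LD3_c3) (LK LD1_c8 LD2_c38 LD3_c4) Lrfl Lrfl
theorem f187947 : Led Lsl_ef (LP (LK LD1_c8 LD2_c38 LD3_c4)) = (LP (LK LD1_c9 LD2_c37 LD3_c40)) :=
  Lgr Lrot17 (Lpe (f187912 IH) (Lpe (K15.f180206 IH) (Lpr_dt (K11.f180219 IH) (Lpr_gf (K10.f187901 IH) (Lpe (K11.f31416 IH) (Lpe (K10.f31132 IH) (Lpe (f31423 IH) (Lpr_dt (K10.f187933 IH) (Lpe (f170729 IH) (Lpe (f187946 IH) (Lpn (LP (LK LD1_c9 LD2_c37 LD3_c40)))))))))))))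
theorem f293320 : Led Lsl_gf (LP (LK LD1_c5 LD2_c5 LD3_c3)) = (LP (LK LD1_c8 LD2_c38 LD3_c4)) :=
  Lgr Lrot76 (Lpr_af (K18.f293312 IH) (Lpe (K17.f223569 IH) (Lpr_gt (f187912 IH) (Lpn (LP (LK LD1_c8 LD2_c38 LD3_c4))))))
theorem f312167 : Led Lsl_gf (LP (LK LD1_c8 LD2_c3 LD3_c1)) = (LP (LK LD1_c4 LD2_c4 LD3_c6)) :=
  Lgr Lrot134 (Lpr_df (f312154 IH) (Lpe (f312158 IH) (Lpr_gt (f312165 IH) (Lpr_ef (f256600 IH) (Lpr_dt (K12.f198973 IH) (Lpe (f310569 IH) (Lpe (f187946 IH) (Lpe (f187947 IH) (Lpe (f293320 IH) (Lpe (K11.f211335 IH) (Lpn (LP (LK LD1_c4 LD2_c4 LD3_c6)))))))))))))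
theorem f312156 : Led Lsl_dt (LP (LK LD1_c8 LD2_c3 LD3_c1)) = (LP (LK LD1_c5 LD2_c24 LD3_c34)) :=
  Lgr Lrot42 (Lpr_df (f312154 IH) (Lpn (LP (LK LD1_c5 LD2_c24 LD3_c34))))
theorem f194433 : Led Lsl_et (LP (LK LD1_c4 LD2_c2 LD3_c60)) = (LP (LK LD1_c1 LD2_c58 LD3_c29)) :=
  Lre_e IH (LK LD1_c4 LD2_c2 LD3_c60) (LK LD1_c1 LD2_c58 LD3_c29) Lrfl Lrfl
theorem f194434 : Led Lsl_dt (LP (LK LD1_c2 LD2_c38 LD3_c50)) = (LP (LK LD1_c4 LD2_c2 LD3_c60)) :=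
  Lgr Lrot77 (Lpe (f194431 IH) (Lpr_df (K12.f194422 IH) (Lpe (K17.f194432 IH) (Lpe (K15.f51250 IH) (Lpe (f194433 IH) (Lpn (LP (LK LD1_c4 LD2_c2 LD3_c60))))))))
theorem f194458 : Led Lsl_ct (LP (LK LD1_c4 LD2_c2 LD3_c60)) = (LP (LK LD1_c8 LD2_c6 LD3_c36)) :=
  Lre_c IH (LK LD1_c4 LD2_c2 LD3_c60) (LK LD1_c8 LD2_c6 LD3_c36) Lrfl Lrfl
theorem f194486 : Led Lsl_dt (LP (LK LD1_c15 LD2_c16 LD3_c18)) = (LP (LK LD1_c8 LD2_c6 LD3_c36)) :=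
  Lre_d IH (LK LD1_c15 LD2_c16 LD3_c18) (LK LD1_c8 LD2_c6 LD3_c36) Lrfl Lrfl
theorem f211331 : Led Lsl_ct (LP (LK LD1_c8 LD2_c8 LD3_c47)) = (LP (LK LD1_c4 LD2_c4 LD3_c6)) :=
  Lre_c IH (LK LD1_c8 LD2_c8 LD3_c47) (LK LD1_c4 LD2_c4 LD3_c6) Lrfl Lrfl
theorem f223406 : Led Lsl_gt (LP (LK LD1_c15 LD2_c9 LD3_c26)) = (LP (LK LD1_c8 LD2_c2 LD3_c61)) :=
  Lre_g IH (LK LD1_c15 LD2_c9 LD3_c26) (LK LD1_c8 LD2_c2 LD3_c61) Lrfl Lrfl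
theorem f293266 : Led Lsl_gt (LP (LK LD1_c8 LD2_c8 LD3_c47)) = (LP (LK LD1_c15 LD2_c9 LD3_c26)) :=
  Lgr Lrot5 (Lpr_ft (K17.f293249 IH) (Lpr_at (K18.f293250 IH) (Lpe (f223406 IH) (Lpn (LP (LK LD1_c15 LD2_c9 LD3_c26))))))
theorem f293268 : Led Lsl_dt (LP (LK LD1_c15 LD2_c9 LD3_c26)) = (LP (LK LD1_c24 LD2_c58 LD3_c29)) :=
  Lre_d IH (LK LD1_c15 LD2_c9 LD3_c26) (LK LD1_c24 LD2_c58 LD3_c29) Lrfl Lrfl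
theorem f312169 : Led Lsl_gf (LP (LK LD1_c15 LD2_c16 LD3_c18)) = (LP (LK LD1_c24 LD2_c58 LD3_c29)) :=
  Lgr Lrot143 (Lpr_dt (f194486 IH) (Lpe (f194458 IH) (Lpe (f194434 IH) (Lpe (f194483 IH) (Lpe (f312156 IH) (Lpr_gf (f312167 IH) (Lpe (f211331 IH) (Lpr_gt (f293266 IH) (Lpr_dt (f293268 IH) (Lpn (LP (LK LD1_c24 LD2_c58 LD3_c29))))))))))))
theorem f194473 : Led Lsl_dt (LP (LK LD1_c8 LD2_c6 LD3_c36)) = (LP (LK LD1_c15 LD2_c16 LD3_c18)) :=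
  Lre_d IH (LK LD1_c8 LD2_c6 LD3_c36) (LK LD1_c15 LD2_c16 LD3_c18) Lrfl Lrfl
theorem f259144 : Led Lsl_et (LP (LK LD1_c8 LD2_c6 LD3_c36)) = (LP (LK LD1_c4 LD2_c2 LD3_c59)) :=
  Lre_e IH (LK LD1_c8 LD2_c6 LD3_c36) (LK LD1_c4 LD2_c2 LD3_c59) Lrfl Lrfl
theorem f299185 : Led Lsl_ft (LP (LK LD1_c4 LD2_c3 LD3_c10)) = (LP (LK LD1_c8 LD2_c6 LD3_c54)) :=
  Lre_f IH (LK LD1_c4 LD2_c3 LD3_c10) (LK LD1_c8 LD2_c6 LD3_c54) Lrfl Lrfl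
theorem f308924 : Led Lsl_df (LP (LK LD1_c7 LD2_c55 LD3_c40)) = (LP (LK LD1_c8 LD2_c6 LD3_c54)) :=
  Lgr Lrot78 (Lpr_ft (f308915 IH) (Lpr_dt (K18.f299252 IH) (Lpr_ft (f299185 IH) (Lpn (LP (LK LD1_c8 LD2_c6 LD3_c54))))))
theorem f237933 : Led Lsl_ct (LP (LK LD1_c8 LD2_c11 LD3_c53)) = (LP (LK LD1_c15 LD2_c26 LD3_c1)) :=
  Lre_c IH (LK LD1_c8 LD2_c11 LD3_c53) (LK LD1_c15 LD2_c26 LD3_c1) Lrfl Lrfl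
theorem f308926 : Led Lsl_ct (LP (LK LD1_c15 LD2_c16 LD3_c42)) = (LP (LK LD1_c8 LD2_c6 LD3_c54)) :=
  Lre_c IH (LK LD1_c15 LD2_c16 LD3_c42) (LK LD1_c8 LD2_c6 LD3_c54) Lrfl Lrfl
theorem f308929 : Led Lsl_gt (LP (LK LD1_c15 LD2_c26 LD3_c1)) = (LP (LK LD1_c15 LD2_c16 LD3_c42)) :=
  Lgr Lrot150 (Lpe (f237933 IH) (Lpe (f237932 IH) (Lpe (K17.f237922 IH) (Lpr_gt (K14.f237908 IH) (Lpr_ct (K18.f168379 IH) (Lpr_gt (K18.f168447 IH) (Lpe (K18.f299004 IH) (Lpr_df (f308924 IH) (Lpe (f308926 IH) (Lpn (LP (LK LD1_c15 LD2_c16 LD3_c42))))))))))))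
theorem f299149 : Led Lsl_at (LP (LK LD1_c16 LD2_c16 LD3_c1)) = (LP (LK LD1_c15 LD2_c16 LD3_c42)) :=
  Lgr Lrot100 (Lpr_af (K18.f299147 IH) (Lpn (LP (LK LD1_c15 LD2_c16 LD3_c42))))
theorem f237237 : Led Lsl_bt (LP (LK LD1_c16 LD2_c16 LD3_c1)) = (LP (LK LD1_c26 LD2_c13 LD3_c49)) :=
  Lre_b IH (LK LD1_c16 LD2_c16 LD3_c1) (LK LD1_c26 LD2_c13 LD3_c49) Lrfl Lrfl
theorem f283687 : Led Lsl_ff (LP (LK LD1_c16 LD2_c16 LD3_c1)) = (LP (LK LD1_c9 LD2_c33 LD3_c30)) :=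
  Lgr Lrot25 (Lpr_bt (f237237 IH) (Lpr_ft (K17.f283685 IH) (Lpr_bt (K17.f216210 IH) (Lpn (LP (LK LD1_c9 LD2_c33 LD3_c30))))))
theorem f308931 : Led Lsl_gf (LP (LK LD1_c15 LD2_c26 LD3_c1)) = (LP (LK LD1_c9 LD2_c33 LD3_c30)) :=
  Lgr Lrot47 (Lpr_gt (f308929 IH) (Lpe (f299149 IH) (Lpr_ff (f283687 IH) (Lpn (LP (LK LD1_c9 LD2_c33 LD3_c30))))))
theorem f312172 : Led Lsl_ef (LP (LK LD1_c15 LD2_c26 LD3_c1)) = (LP (LK LD1_c15 LD2_c9 LD3_c26)) :=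
  Lgr Lrot17 (Lpr_gf (f308931 IH) (Lpe (K17.f216128 IH) (Lpr_dt (K16.f27668 IH) (Lpe (K16.f274639 IH) (Lpe (K16.f253035 IH) (Lpe (K15.f259139 IH) (Lpe (f259144 IH) (Lpr_dt (f194473 IH) (Lpr_gf (f312169 IH) (Lpe (f293268 IH) (Lpn (LP (LK LD1_c15 LD2_c9 LD3_c26)))))))))))))
theorem f312178 : Led Lsl_et (LP (LK LD1_c15 LD2_c26 LD3_c1)) = (LP (LK LD1_c15 LD2_c9 LD3_c26)) :=
  Lgr Lrot87 (Lpr_ef (f312172 IH) (Lpn (LP (LK LD1_c15 LD2_c9 LD3_c26))))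
theorem f256154 : Led Lsl_dt (LP (LK LD1_c15 LD2_c26 LD3_c1)) = (LP (LK LD1_c25 LD2_c18 LD3_c0)) :=
  Lre_d IH (LK LD1_c15 LD2_c26 LD3_c1) (LK LD1_c25 LD2_c18 LD3_c0) Lrfl Lrfl
theorem f227056 : Led Lsl_dt (LP (LK LD1_c11 LD2_c8 LD3_c52)) = (LP (LK LD1_c20 LD2_c2 LD3_c36)) :=
  Lre_d IH (LK LD1_c11 LD2_c8 LD3_c52) (LK LD1_c20 LD2_c2 LD3_c36) Lrfl Lrfl
theorem f312183 : Led Lsl_gf (LP (LK LD1_c25 LD2_c18 LD3_c0)) = (LP (LK LD1_c20 LD2_c2 LD3_c36)) :=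
  Lgr Lrot134 (Lpe (f256154 IH) (Lpr_et (f312178 IH) (Lpr_gt (f223406 IH) (Lpe (K17.f244013 IH) (Lpe (K13.f223588 IH) (Lpr_gt (K15.f243960 IH) (Lpr_df (K13.f238331 IH) (Lpr_et (K18.f238505 IH) (Lpr_gt (K18.f227055 IH) (Lpr_dt (f227056 IH) (Lpn (LP (LK LD1_c20 LD2_c2 LD3_c36)))))))))))))
theorem f256156 : Led Lsl_dt (LP (LK LD1_c25 LD2_c18 LD3_c0)) = (LP (LK LD1_c15 LD2_c26 LD3_c1)) :=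
  Lre_d IH (LK LD1_c25 LD2_c18 LD3_c0) (LK LD1_c15 LD2_c26 LD3_c1) Lrfl Lrfl
theorem f256157 : Led Lsl_ct (LP (LK LD1_c15 LD2_c26 LD3_c1)) = (LP (LK LD1_c8 LD2_c11 LD3_c53)) :=
  Lre_c IH (LK LD1_c15 LD2_c26 LD3_c1) (LK LD1_c8 LD2_c11 LD3_c53) Lrfl Lrfl
theorem f237975 : Led Lsl_dt (LP (LK LD1_c15 LD2_c26 LD3_c2)) = (LP (LK LD1_c8 LD2_c11 LD3_c53)) :=
  Lre_d IH (LK LD1_c15 LD2_c26 LD3_c2) (LK LD1_c8 LD2_c11 LD3_c53) Lrfl Lrfl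
theorem f312185 : Led Lsl_gf (LP (LK LD1_c15 LD2_c26 LD3_c2)) = (LP (LK LD1_c9 LD2_c35 LD3_c23)) :=
  Lgr Lrot143 (Lpr_dt (f237975 IH) (Lpe (f256157 IH) (Lpe (f256156 IH) (Lpr_gf (f312183 IH) (Lpe (f227056 IH) (Lpe (K18.f227055 IH) (Lpe (K18.f200483 IH) (Lpe (f309963 IH) (Lpr_dt (f309956 IH) (Lpn (LP (LK LD1_c9 LD2_c35 LD3_c23))))))))))))
theorem f237972 : Led Lsl_dt (LP (LK LD1_c8 LD2_c11 LD3_c53)) = (LP (LK LD1_c15 LD2_c26 LD3_c2)) :=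
  Lre_d IH (LK LD1_c8 LD2_c11 LD3_c53) (LK LD1_c15 LD2_c26 LD3_c2) Lrfl Lrfl
theorem f189904 : Led Lsl_gt (LP (LK LD1_c8 LD2_c10 LD3_c24)) = (LP (LK LD1_c4 LD2_c4 LD3_c47)) :=
  Lre_g IH (LK LD1_c8 LD2_c10 LD3_c24) (LK LD1_c4 LD2_c4 LD3_c47) Lrfl Lrfl
theorem f312196 : Led Lsl_et (LP (LK LD1_c8 LD2_c11 LD3_c53)) = (LP (LK LD1_c8 LD2_c10 LD3_c24)) :=
  Lgr Lrot185 (Lpr_dt (f237972 IH) (Lpr_gf (f312185 IH) (Lpe (f309956 IH) (Lpr_gf (f309963 IH) (Lpe (K12.f200420 IH) (Lpr_dt (K15.f200418 IH) (Lpe (K12.f226877 IH) (Lpe (K11.f53132 IH) (Lpr_et (f189890 IH) (Lpe (f189904 IH) (Lpn (LP (LK LD1_c8 LD2_c10 LD3_c24)))))))))))))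
theorem f312200 : Led Lsl_ef (LP (LK LD1_c8 LD2_c11 LD3_c53)) = (LP (LK LD1_c8 LD2_c10 LD3_c24)) :=
  Lgr Lrot88 (Lpr_et (f312196 IH) (Lpn (LP (LK LD1_c8 LD2_c10 LD3_c24))))
theorem f314419 : Led Lsl_gt (LP (LK LD1_c9 LD2_c43 LD3_c44)) = (LP (LK LD1_c4 LD2_c56 LD3_c1)) :=
  Lre_g IH (LK LD1_c9 LD2_c43 LD3_c44) (LK LD1_c4 LD2_c56 LD3_c1) Lrfl Lrfl
theorem f314574 : Led Lsl_dt (LP (LK LD1_c8 LD2_c10 LD3_c24)) = (LP (LK LD1_c9 LD2_c43 LD3_c44)) :=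
  Lgr Lrot136 (Lpe (f312200 IH) (Lpe (f237932 IH) (Lpe (f237924 IH) (Lpe (f313218 IH) (Lpr_gf (f313246 IH) (Lpe (K14.f252681 IH) (Lpe (K14.f253031 IH) (Lpe (f189882 IH) (Lpr_dt (f314565 IH) (Lpe (f314419 IH) (Lpn (LP (LK LD1_c9 LD2_c43 LD3_c44)))))))))))))
theorem f314581 : Led Lsl_df (LP (LK LD1_c8 LD2_c10 LD3_c24)) = (LP (LK LD1_c9 LD2_c43 LD3_c44)) :=
  Lgr Lrot38 (Lpr_dt (f314574 IH) (Lpn (LP (LK LD1_c9 LD2_c43 LD3_c44))))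
theorem f189896 : Led Lsl_dt (LP (LK LD1_c4 LD2_c19 LD3_c55)) = (LP (LK LD1_c4 LD2_c4 LD3_c47)) :=
  Lgr Lrot42 (Lpr_df (f189891 IH) (Lpn (LP (LK LD1_c4 LD2_c4 LD3_c47))))
theorem f255056 : Led Lsl_df (LP (LK LD1_c0 LD2_c33 LD3_c29)) = (LP (LK LD1_c1 LD2_c9 LD3_c9)) :=
  Lgr Lrot155 (Lpe (K12.f204981 IH) (Lpr_ct (K1.f31765 IH) (Lpe (K13.f239250 IH) (Lpr_ct (K15.f239243 IH) (Lpr_dt (K12.f216356 IH) (Lpe (K13.f216365 IH) (Lpe (K13.f166424 IH) (Lpe (K13.f166423 IH) (Lpr_gf (K14.f255041 IH) (Lpn (LP (LK LD1_c1 LD2_c9 LD3_c9))))))))))))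
theorem f242046 : Led Lsl_bt (LP (LK LD1_c0 LD2_c55 LD3_c55)) = (LP (LK LD1_c0 LD2_c58 LD3_c34)) :=
  Lgr Lrot35 (Lpr_ff (K13.f242036 IH) (Lpe (K13.f232893 IH) (Lpe (K13.f239673 IH) (Lpn (LP (LK LD1_c0 LD2_c58 LD3_c34))))))
theorem f255023 : Led Lsl_gt (LP (LK LD1_c0 LD2_c58 LD3_c34)) = (LP (LK LD1_c1 LD2_c9 LD3_c9)) :=
  Lgr Lrot164 (Lpe (f242046 IH) (Lpr_ct (K13.f184674 IH) (Lpe (K13.f241890 IH) (Lpr_cf (K12.f199142 IH) (Lpe (K12.f53248 IH) (Lpr_bf (K14.f238298 IH) (Lpe (K12.f167629 IH) (Lpr_gf (K14.f255013 IH) (Lpr_cf (K9.f170667 IH) (Lpr_bt (K14.f170663 IH) (Lpn (LP (LK LD1_c1 LD2_c9 LD3_c9)))))))))))))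
theorem f313463 : Led Lsl_gf (LP (LK LD1_c1 LD2_c59 LD3_c12)) = (LP (LK LD1_c1 LD2_c12 LD3_c53)) :=
  Lgr Lrot144 (Lpr_dt (f313438 IH) (Lpr_gt (K13.f190220 IH) (Lpr_dt (K10.f28486 IH) (Lpe (K0.f28480 IH) (Lpe (K0.f28485 IH) (Lpr_gf (K12.f204981 IH) (Lpr_df (f255056 IH) (Lpe (f255023 IH) (Lpr_cf (K13.f239663 IH) (Lpn (LP (LK LD1_c1 LD2_c12 LD3_c53))))))))))))
theorem f313458 : Led Lsl_df (LP (LK LD1_c1 LD2_c59 LD3_c12)) = (LP (LK LD1_c2 LD2_c0 LD3_c49)) :=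
  Lgr Lrot38 (Lpr_dt (f313438 IH) (Lpn (LP (LK LD1_c2 LD2_c0 LD3_c49))))
theorem f313460 : Led Lsl_et (LP (LK LD1_c2 LD2_c0 LD3_c49)) = (LP (LK LD1_c4 LD2_c6 LD3_c55)) :=
  Lre_e IH (LK LD1_c2 LD2_c0 LD3_c49) (LK LD1_c4 LD2_c6 LD3_c55) Lrfl Lrfl
theorem f195474 : Led Lsl_gt (LP (LK LD1_c4 LD2_c6 LD3_c55)) = (LP (LK LD1_c8 LD2_c14 LD3_c22)) :=
  Lre_g IH (LK LD1_c4 LD2_c6 LD3_c55) (LK LD1_c8 LD2_c14 LD3_c22) Lrfl Lrfl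
theorem f314583 : Led Lsl_ef (LP (LK LD1_c8 LD2_c14 LD3_c22)) = (LP (LK LD1_c9 LD2_c43 LD3_c44)) :=
  Lgr Lrot17 (Lpe (f195474 IH) (Lpe (f313460 IH) (Lpe (f313458 IH) (Lpr_gf (f313463 IH) (Lpe (K13.f191139 IH) (Lpr_gf (K13.f191123 IH) (Lpe (f189888 IH) (Lpr_dt (f189896 IH) (Lpe (f189904 IH) (Lpr_df (f314581 IH) (Lpn (LP (LK LD1_c9 LD2_c43 LD3_c44)))))))))))))
theorem f195475 : Led Lsl_dt (LP (LK LD1_c8 LD2_c14 LD3_c22)) = (LP (LK LD1_c15 LD2_c30 LD3_c4)) :=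
  Lre_d IH (LK LD1_c8 LD2_c14 LD3_c22) (LK LD1_c15 LD2_c30 LD3_c4) Lrfl Lrfl
theorem f314586 : Led Lsl_et (LP (LK LD1_c15 LD2_c30 LD3_c4)) = (LP (LK LD1_c15 LD2_c26 LD3_c2)) :=
  Lgr Lrot71 (Lpe (f195475 IH) (Lpr_ef (f314583 IH) (Lpe (f314574 IH) (Lpe (f312196 IH) (Lpe (f237975 IH) (Lpn (LP (LK LD1_c15 LD2_c26 LD3_c2))))))))
theorem f314590 : Led Lsl_dt (LP (LK LD1_c15 LD2_c30 LD3_c4)) = (LP (LK LD1_c8 LD2_c14 LD3_c22)) :=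
  Lre_d IH (LK LD1_c15 LD2_c30 LD3_c4) (LK LD1_c8 LD2_c14 LD3_c22) Lrfl Lrfl
theorem f237974 : Led Lsl_ct (LP (LK LD1_c15 LD2_c26 LD3_c2)) = (LP (LK LD1_c25 LD2_c18 LD3_c1)) :=
  Lre_c IH (LK LD1_c15 LD2_c26 LD3_c2) (LK LD1_c25 LD2_c18 LD3_c1) Lrfl Lrfl
theorem f299190 : Led Lsl_cf (LP (LK LD1_c8 LD2_c7 LD3_c24)) = (LP (LK LD1_c11 LD2_c8 LD3_c53)) :=
  Lgr Lrot166 (Lpr_gt (K18.f28860 IH) (Lpe (K13.f28834 IH) (Lpr_gt (K17.f28861 IH) (Lpr_dt (K17.f28862 IH) (Lpr_ct (K17.f28863 IH) (Lpr_df (K18.f299179 IH) (Lpe (K18.f227051 IH) (Lpe (K18.f200541 IH) (Lpe (K18.f200461 IH) (Lpn (LP (LK LD1_c11 LD2_c8 LD3_c53))))))))))))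
theorem f228057 : Led Lsl_ct (LP (LK LD1_c24 LD2_c44 LD3_c57)) = (LP (LK LD1_c31 LD2_c38 LD3_c18)) :=
  Lre_c IH (LK LD1_c24 LD2_c44 LD3_c57) (LK LD1_c31 LD2_c38 LD3_c18) Lrfl Lrfl
theorem f299111 : Led Lsl_ct (LP (LK LD1_c26 LD2_c13 LD3_c43)) = (LP (LK LD1_c20 LD2_c3 LD3_c5)) :=
  Lgr Lrot133 (Lpe (K18.f28846 IH) (Lpr_ft (K18.f262158 IH) (Lpr_at (K18.f299105 IH) (Lpe (f228057 IH) (Lpe (K18.f228056 IH) (Lpe (K18.f197652 IH) (Lpe (K13.f228054 IH) (Lpe (K12.f228135 IH) (Lpe (K18.f228141 IH) (Lpn (LP (LK LD1_c20 LD2_c3 LD3_c5))))))))))))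
theorem f299113 : Led Lsl_af (LP (LK LD1_c26 LD2_c13 LD3_c43)) = (LP (LK LD1_c31 LD2_c38 LD3_c17)) :=
  Lgr Lrot68 (Lpr_ct (f299111 IH) (Lpe (K15.f262176 IH) (Lpe (K18.f296340 IH) (Lpn (LP (LK LD1_c31 LD2_c38 LD3_c17))))))
theorem f299121 : Led Lsl_ft (LP (LK LD1_c25 LD2_c8 LD3_c30)) = (LP (LK LD1_c31 LD2_c38 LD3_c17)) :=
  Lgr Lrot142 (Lpr_dt (K15.f262201 IH) (Lpr_ct (K15.f228061 IH) (Lpr_dt (K15.f197657 IH) (Lpr_ct (K15.f197654 IH) (Lpe (K13.f228058 IH) (Lpe (K15.f228127 IH) (Lpr_dt (K15.f262186 IH) (Lpe (K18.f262205 IH) (Lpr_af (f299113 IH) (Lpn (LP (LK LD1_c31 LD2_c38 LD3_c17))))))))))))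
theorem f299123 : Led Lsl_ff (LP (LK LD1_c20 LD2_c3 LD3_c4)) = (LP (LK LD1_c26 LD2_c13 LD3_c43)) :=
  Lgr Lrot30 (Lpe (K18.f262174 IH) (Lpr_ft (f299121 IH) (Lpe (f299113 IH) (Lpn (LP (LK LD1_c26 LD2_c13 LD3_c43))))))
theorem f299138 : Led Lsl_gf (LP (LK LD1_c25 LD2_c8 LD3_c30)) = (LP (LK LD1_c25 LD2_c6 LD3_c44)) :=
  Lgr Lrot76 (Lpr_af (K18.f262174 IH) (Lpr_ff (f299123 IH) (Lpr_gt (K18.f299135 IH) (Lpn (LP (LK LD1_c25 LD2_c6 LD3_c44))))))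
theorem f299193 : Led Lsl_gt (LP (LK LD1_c15 LD2_c22 LD3_c17)) = (LP (LK LD1_c11 LD2_c8 LD3_c53)) :=
  Lgr Lrot9 (Lpe (K18.f297909 IH) (Lpr_gt (K18.f194401 IH) (Lpr_ct (K18.f227054 IH) (Lpe (f299138 IH) (Lpr_ct (K18.f28849 IH) (Lpe (K15.f28900 IH) (Lpe (K15.f28899 IH) (Lpe (K18.f28860 IH) (Lpr_cf (f299190 IH) (Lpn (LP (LK LD1_c11 LD2_c8 LD3_c53))))))))))))
theorem f255558 : Led Lsl_ct (LP (LK LD1_c24 LD2_c45 LD3_c2)) = (LP (LK LD1_c14 LD2_c57 LD3_c31)) :=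
  Lre_c IH (LK LD1_c24 LD2_c45 LD3_c2) (LK LD1_c14 LD2_c57 LD3_c31) Lrfl Lrfl
theorem f312192 : Led Lsl_gt (LP (LK LD1_c25 LD2_c18 LD3_c1)) = (LP (LK LD1_c24 LD2_c45 LD3_c2)) :=
  Lgr Lrot150 (Lpe (f237974 IH) (Lpr_gf (f312185 IH) (Lpe (f309956 IH) (Lpr_gt (f309965 IH) (Lpr_ct (K18.f247258 IH) (Lpr_gt (f299193 IH) (Lpe (f299190 IH) (Lpr_df (K18.f255556 IH) (Lpe (f255558 IH) (Lpn (LP (LK LD1_c24 LD2_c45 LD3_c2))))))))))))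
theorem f237973 : Led Lsl_ct (LP (LK LD1_c25 LD2_c18 LD3_c1)) = (LP (LK LD1_c15 LD2_c26 LD3_c2)) :=
  Lre_c IH (LK LD1_c25 LD2_c18 LD3_c1) (LK LD1_c15 LD2_c26 LD3_c2) Lrfl Lrfl
theorem f255559 : Led Lsl_dt (LP (LK LD1_c8 LD2_c7 LD3_c24)) = (LP (LK LD1_c14 LD2_c57 LD3_c31)) :=
  Lgr Lrot42 (Lpr_df (K18.f255556 IH) (Lpn (LP (LK LD1_c14 LD2_c57 LD3_c31))))
theorem f298970 : Led Lsl_dt (LP (LK LD1_c16 LD2_c20 LD3_c10)) = (LP (LK LD1_c24 LD2_c45 LD3_c2)) :=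
  Lgr Lrot105 (Lpr_gf (K18.f298968 IH) (Lpe (K18.f247251 IH) (Lpe (K18.f298665 IH) (Lpe (K18.f28866 IH) (Lpr_gt (K18.f275926 IH) (Lpe (K13.f228058 IH) (Lpe (K18.f275924 IH) (Lpr_dt (f255559 IH) (Lpe (f255558 IH) (Lpn (LP (LK LD1_c24 LD2_c45 LD3_c2))))))))))))
theorem f298980 : Led Lsl_df (LP (LK LD1_c16 LD2_c20 LD3_c10)) = (LP (LK LD1_c24 LD2_c45 LD3_c2)) :=
  Lgr Lrot38 (Lpr_dt (f298970 IH) (Lpn (LP (LK LD1_c24 LD2_c45 LD3_c2))))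
theorem f200456 : Led Lsl_dt (LP (LK LD1_c11 LD2_c8 LD3_c57)) = (LP (LK LD1_c5 LD2_c38 LD3_c60)) :=
  Lre_d IH (LK LD1_c11 LD2_c8 LD3_c57) (LK LD1_c5 LD2_c38 LD3_c60) Lrfl Lrfl
theorem f312246 : Led Lsl_gt (LP (LK LD1_c15 LD2_c26 LD3_c2)) = (LP (LK LD1_c11 LD2_c8 LD3_c57)) :=
  Lgr Lrot94 (Lpe (f237973 IH) (Lpr_gt (f312192 IH) (Lpe (f298980 IH) (Lpr_gt (K18.f200459 IH) (Lpr_dt (K18.f200458 IH) (Lpe (K18.f200442 IH) (Lpe (K12.f200423 IH) (Lpe (K18.f200454 IH) (Lpe (f200456 IH) (Lpn (LP (LK LD1_c11 LD2_c8 LD3_c57))))))))))))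
theorem f232282 : Led Lsl_et (LP (LK LD1_c4 LD2_c12 LD3_c43)) = (LP (LK LD1_c2 LD2_c3 LD3_c33)) :=
  Lre_e IH (LK LD1_c4 LD2_c12 LD3_c43) (LK LD1_c2 LD2_c3 LD3_c33) Lrfl Lrfl
theorem f314649 : Led Lsl_df (LP (LK LD1_c4 LD2_c6 LD3_c55)) = (LP (LK LD1_c4 LD2_c12 LD3_c43)) :=
  Lgr Lrot170 (Lpr_gt (f195474 IH) (Lpe (f314590 IH) (Lpr_et (f314586 IH) (Lpr_gt (f312246 IH) (Lpr_dt (f200456 IH) (Lpr_gt (K18.f200454 IH) (Lpr_df (K18.f200446 IH) (Lpr_et (K12.f200422 IH) (Lpe (K14.f232262 IH) (Lpe (f232282 IH) (Lpn (LP (LK LD1_c4 LD2_c12 LD3_c43)))))))))))))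
theorem f314653 : Led Lsl_dt (LP (LK LD1_c4 LD2_c6 LD3_c55)) = (LP (LK LD1_c4 LD2_c12 LD3_c43)) :=
  Lgr Lrot42 (Lpr_df (f314649 IH) (Lpn (LP (LK LD1_c4 LD2_c12 LD3_c43))))
theorem f238898 : Led Lsl_dt (LP (LK LD1_c4 LD2_c21 LD3_c29)) = (LP (LK LD1_c8 LD2_c37 LD3_c1)) :=
  Lgr Lrot6 (Lpr_gt (K13.f238725 IH) (Lpr_ct (K13.f193271 IH) (Lpr_gt (K10.f193268 IH) (Lpr_ct (K12.f197444 IH) (Lpe (K16.f197712 IH) (Lpr_cf (K13.f238805 IH) (Lpe (K13.f238822 IH) (Lpr_cf (K13.f238885 IH) (Lpe (K13.f238896 IH) (Lpn (LP (LK LD1_c8 LD2_c37 LD3_c1))))))))))))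
theorem f313432 : Led Lsl_df (LP (LK LD1_c1 LD2_c19 LD3_c12)) = (LP (LK LD1_c2 LD2_c3 LD3_c33)) :=
  Lgr Lrot153 (Lpr_gt (f313424 IH) (Lpe (K10.f33142 IH) (Lpr_cf (K14.f236600 IH) (Lpe (K13.f39272 IH) (Lpe (K13.f238896 IH) (Lpe (f238898 IH) (Lpe (K14.f238754 IH) (Lpe (K13.f187087 IH) (Lpe (K14.f232262 IH) (Lpn (LP (LK LD1_c2 LD2_c3 LD3_c33))))))))))))
theorem f314762 : Led Lsl_ef (LP (LK LD1_c1 LD2_c59 LD3_c12)) = (LP (LK LD1_c1 LD2_c19 LD3_c12)) :=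
  Lgr Lrot73 (Lpr_dt (f313438 IH) (Lpr_et (f313460 IH) (Lpr_dt (f314653 IH) (Lpr_et (f232282 IH) (Lpe (f313432 IH) (Lpn (LP (LK LD1_c1 LD2_c19 LD3_c12))))))))
theorem f200706 : Led Lsl_et (LP (LK LD1_c0 LD2_c56 LD3_c21)) = (LP (LK LD1_c0 LD2_c25 LD3_c33)) :=
  Lre_e IH (LK LD1_c0 LD2_c56 LD3_c21) (LK LD1_c0 LD2_c25 LD3_c33) Lrfl Lrfl
theorem f196995 : Led Lsl_ft (LP (LK LD1_c0 LD2_c36 LD3_c33)) = (LP (LK LD1_c1 LD2_c19 LD3_c12)) :=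
  Lre_f IH (LK LD1_c0 LD2_c36 LD3_c33) (LK LD1_c1 LD2_c19 LD3_c12) Lrfl Lrfl
theorem f314767 : Led Lsl_ft (LP (LK LD1_c0 LD2_c25 LD3_c33)) = (LP (LK LD1_c0 LD2_c16 LD3_c17)) :=
  Lgr Lrot86 (Lpe (f200706 IH) (Lpe (K11.f200685 IH) (Lpr_ef (f314762 IH) (Lpe (f196995 IH) (Lpe (K12.f196984 IH) (Lpn (LP (LK LD1_c0 LD2_c16 LD3_c17))))))))
theorem f314773 : Led Lsl_af (LP (LK LD1_c0 LD2_c25 LD3_c36)) = (LP (LK LD1_c0 LD2_c16 LD3_c17)) :=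
  Lgr Lrot31 (Lpr_gf (K10.f193322 IH) (Lpe (K11.f200694 IH) (Lpr_ft (f314767 IH) (Lpn (LP (LK LD1_c0 LD2_c16 LD3_c17))))))
theorem f314781 : Led Lsl_at (LP (LK LD1_c0 LD2_c56 LD3_c29)) = (LP (LK LD1_c0 LD2_c36 LD3_c32)) :=
  Lgr Lrot51 (Lpe (K12.f193324 IH) (Lpr_af (f314773 IH) (Lpe (K12.f182182 IH) (Lpn (LP (LK LD1_c0 LD2_c36 LD3_c32))))))
theorem f314789 : Led Lsl_ff (LP (LK LD1_c0 LD2_c56 LD3_c29)) = (LP (LK LD1_c0 LD2_c59 LD3_c19)) :=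
  Lgr Lrot52 (Lpr_at (f314781 IH) (Lpe (K12.f179308 IH) (Lpr_gf (K15.f200426 IH) (Lpn (LP (LK LD1_c0 LD2_c59 LD3_c19))))))
theorem f314803 : Led Lsl_ft (LP (LK LD1_c0 LD2_c56 LD3_c29)) = (LP (LK LD1_c0 LD2_c59 LD3_c19)) :=
  Lgr Lrot48 (Lpr_ff (f314789 IH) (Lpn (LP (LK LD1_c0 LD2_c59 LD3_c19))))
theorem f244048 : Led Lsl_gt (LP (LK LD1_c0 LD2_c56 LD3_c29)) = (LP (LK LD1_c1 LD2_c59 LD3_c7)) :=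
  Lgr Lrot9 (Lpe (K12.f193324 IH) (Lpr_gt (K10.f193287 IH) (Lpr_ct (K10.f52679 IH) (Lpe (K10.f193362 IH) (Lpr_ct (K9.f1710 IH) (Lpe (K10.f2881 IH) (Lpe (K13.f170701 IH) (Lpr_gf (K15.f244042 IH) (Lpe (K15.f200700 IH) (Lpn (LP (LK LD1_c1 LD2_c59 LD3_c7))))))))))))
theorem f314815 : Led Lsl_af (LP (LK LD1_c0 LD2_c56 LD3_c20)) = (LP (LK LD1_c0 LD2_c59 LD3_c19)) :=
  Lgr Lrot31 (Lpe (K12.f200699 IH) (Lpe (f244048 IH) (Lpr_ft (f314803 IH) (Lpn (LP (LK LD1_c0 LD2_c59 LD3_c19))))))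
theorem f314783 : Led Lsl_af (LP (LK LD1_c0 LD2_c56 LD3_c29)) = (LP (LK LD1_c0 LD2_c36 LD3_c32)) :=
  Lgr Lrot0 (Lpr_at (f314781 IH) (Lpn (LP (LK LD1_c0 LD2_c36 LD3_c32))))
theorem f314825 : Led Lsl_ft (LP (LK LD1_c0 LD2_c56 LD3_c20)) = (LP (LK LD1_c0 LD2_c36 LD3_c32)) :=
  Lgr Lrot101 (Lpr_af (f314815 IH) (Lpe (f314803 IH) (Lpr_af (f314783 IH) (Lpn (LP (LK LD1_c0 LD2_c36 LD3_c32))))))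
theorem f314827 : Led Lsl_ff (LP (LK LD1_c1 LD2_c59 LD3_c8)) = (LP (LK LD1_c1 LD2_c19 LD3_c7)) :=
  Lgr Lrot23 (Lpr_ct (K12.f211474 IH) (Lpr_ft (f314825 IH) (Lpr_ct (K12.f178081 IH) (Lpn (LP (LK LD1_c1 LD2_c19 LD3_c7))))))
theorem f223737 : Led Lsl_bt (LP (LK LD1_c1 LD2_c59 LD3_c8)) = (LP (LK LD1_c4 LD2_c4 LD3_c25)) :=
  Lre_b IH (LK LD1_c1 LD2_c59 LD3_c8) (LK LD1_c4 LD2_c4 LD3_c25) Lrfl Lrfl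
theorem f179421 : Led Lsl_bt (LP (LK LD1_c2 LD2_c45 LD3_c31)) = (LP (LK LD1_c1 LD2_c19 LD3_c7)) :=
  Lre_b IH (LK LD1_c2 LD2_c45 LD3_c31) (LK LD1_c1 LD2_c19 LD3_c7) Lrfl Lrfl
theorem f314860 : Led Lsl_ft (LP (LK LD1_c4 LD2_c4 LD3_c25)) = (LP (LK LD1_c2 LD2_c45 LD3_c31)) :=
  Lgr Lrot75 (Lpe (f223737 IH) (Lpr_ff (f314827 IH) (Lpe (f179421 IH) (Lpn (LP (LK LD1_c2 LD2_c45 LD3_c31))))))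
theorem f314868 : Led Lsl_ff (LP (LK LD1_c4 LD2_c4 LD3_c25)) = (LP (LK LD1_c2 LD2_c45 LD3_c31)) :=
  Lgr Lrot3 (Lpr_ft (f314860 IH) (Lpn (LP (LK LD1_c2 LD2_c45 LD3_c31))))
theorem f201047 : Led Lsl_bt (LP (LK LD1_c2 LD2_c4 LD3_c41)) = (LP (LK LD1_c4 LD2_c14 LD3_c36)) :=
  Lre_b IH (LK LD1_c2 LD2_c4 LD3_c41) (LK LD1_c4 LD2_c14 LD3_c36) Lrfl Lrfl
theorem f228256 : Led Lsl_df (LP (LK LD1_c2 LD2_c45 LD3_c31)) = (LP (LK LD1_c4 LD2_c14 LD3_c36)) :=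
  Lgr Lrot12 (Lpr_bt (f179421 IH) (Lpr_dt (K12.f228154 IH) (Lpr_bt (f201047 IH) (Lpn (LP (LK LD1_c4 LD2_c14 LD3_c36))))))
theorem f216386 : Led Lsl_bt (LP (LK LD1_c4 LD2_c14 LD3_c36)) = (LP (LK LD1_c2 LD2_c4 LD3_c41)) :=
  Lre_b IH (LK LD1_c4 LD2_c14 LD3_c36) (LK LD1_c2 LD2_c4 LD3_c41) Lrfl Lrfl
theorem f200729 : Led Lsl_bt (LP (LK LD1_c1 LD2_c59 LD3_c1)) = (LP (LK LD1_c4 LD2_c4 LD3_c9)) :=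
  Lre_b IH (LK LD1_c1 LD2_c59 LD3_c1) (LK LD1_c4 LD2_c4 LD3_c9) Lrfl Lrfl
theorem f314451 : Led Lsl_ff (LP (LK LD1_c4 LD2_c14 LD3_c36)) = (LP (LK LD1_c4 LD2_c4 LD3_c9)) :=
  Lgr Lrot25 (Lpr_bt (f216386 IH) (Lpr_ft (f314449 IH) (Lpr_bt (f200729 IH) (Lpn (LP (LK LD1_c4 LD2_c4 LD3_c9))))))
theorem f314881 : Led Lsl_dt (LP (LK LD1_c4 LD2_c4 LD3_c25)) = (LP (LK LD1_c4 LD2_c4 LD3_c9)) :=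
  Lgr Lrot60 (Lpr_ff (f314868 IH) (Lpr_df (f228256 IH) (Lpr_ff (f314451 IH) (Lpn (LP (LK LD1_c4 LD2_c4 LD3_c9))))))
theorem f314865 : Led Lsl_et (LP (LK LD1_c8 LD2_c9 LD3_c48)) = (LP (LK LD1_c4 LD2_c4 LD3_c25)) :=
  Lre_e IH (LK LD1_c8 LD2_c9 LD3_c48) (LK LD1_c4 LD2_c4 LD3_c25) Lrfl Lrfl
theorem f314895 : Led Lsl_dt (LP (LK LD1_c15 LD2_c22 LD3_c34)) = (LP (LK LD1_c8 LD2_c9 LD3_c48)) :=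
  Lre_d IH (LK LD1_c15 LD2_c22 LD3_c34) (LK LD1_c8 LD2_c9 LD3_c48) Lrfl Lrfl
theorem f314896 : Led Lsl_et (LP (LK LD1_c4 LD2_c4 LD3_c9)) = (LP (LK LD1_c8 LD2_c9 LD3_c2)) :=
  Lre_e IH (LK LD1_c4 LD2_c4 LD3_c9) (LK LD1_c8 LD2_c9 LD3_c2) Lrfl Lrfl
theorem f314897 : Led Lsl_dt (LP (LK LD1_c8 LD2_c9 LD3_c2)) = (LP (LK LD1_c15 LD2_c20 LD3_c51)) :=
  Lre_d IH (LK LD1_c8 LD2_c9 LD3_c2) (LK LD1_c15 LD2_c20 LD3_c51) Lrfl Lrfl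
theorem f314898 : Led Lsl_ef (LP (LK LD1_c15 LD2_c22 LD3_c34)) = (LP (LK LD1_c15 LD2_c20 LD3_c51)) :=
  Lgr Lrot73 (Lpr_dt (f314895 IH) (Lpr_et (f314865 IH) (Lpr_dt (f314881 IH) (Lpr_et (f314896 IH) (Lpr_dt (f314897 IH) (Lpn (LP (LK LD1_c15 LD2_c20 LD3_c51))))))))
theorem f314910 : Led Lsl_et (LP (LK LD1_c15 LD2_c22 LD3_c34)) = (LP (LK LD1_c15 LD2_c20 LD3_c51)) :=
  Lgr Lrot87 (Lpr_ef (f314898 IH) (Lpn (LP (LK LD1_c15 LD2_c20 LD3_c51))))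
theorem f314914 : Led Lsl_bt (LP (LK LD1_c8 LD2_c9 LD3_c49)) = (LP (LK LD1_c15 LD2_c22 LD3_c34)) :=
  Lre_b IH (LK LD1_c8 LD2_c9 LD3_c49) (LK LD1_c15 LD2_c22 LD3_c34) Lrfl Lrfl
theorem f314915 : Led Lsl_bt (LP (LK LD1_c15 LD2_c20 LD3_c51)) = (LP (LK LD1_c8 LD2_c9 LD3_c3)) :=
  Lre_b IH (LK LD1_c15 LD2_c20 LD3_c51) (LK LD1_c8 LD2_c9 LD3_c3) Lrfl Lrfl
theorem f314916 : Led Lsl_ef (LP (LK LD1_c8 LD2_c9 LD3_c49)) = (LP (LK LD1_c8 LD2_c9 LD3_c3)) :=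
  Lgr Lrot29 (Lpr_bt (f314914 IH) (Lpr_et (f314910 IH) (Lpr_bt (f314915 IH) (Lpn (LP (LK LD1_c8 LD2_c9 LD3_c3))))))
theorem f220997 : Led Lsl_dt (LP (LK LD1_c8 LD2_c28 LD3_c13)) = (LP (LK LD1_c15 LD2_c54 LD3_c13)) :=
  Lre_d IH (LK LD1_c8 LD2_c28 LD3_c13) (LK LD1_c15 LD2_c54 LD3_c13) Lrfl Lrfl
theorem f200753 : Led Lsl_dt (LP (LK LD1_c15 LD2_c20 LD3_c55)) = (LP (LK LD1_c8 LD2_c9 LD3_c4)) :=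
  Lre_d IH (LK LD1_c15 LD2_c20 LD3_c55) (LK LD1_c8 LD2_c9 LD3_c4) Lrfl Lrfl
theorem f314482 : Led Lsl_at (LP (LK LD1_c15 LD2_c54 LD3_c13)) = (LP (LK LD1_c15 LD2_c20 LD3_c55)) :=
  Lgr Lrot51 (Lpe (f220997 IH) (Lpr_af (f314476 IH) (Lpe (f200753 IH) (Lpn (LP (LK LD1_c15 LD2_c20 LD3_c55))))))
theorem f314484 : Led Lsl_af (LP (LK LD1_c15 LD2_c54 LD3_c13)) = (LP (LK LD1_c15 LD2_c20 LD3_c55)) :=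
  Lgr Lrot0 (Lpr_at (f314482 IH) (Lpn (LP (LK LD1_c15 LD2_c20 LD3_c55))))
theorem f220995 : Led Lsl_ft (LP (LK LD1_c15 LD2_c54 LD3_c13)) = (LP (LK LD1_c8 LD2_c28 LD3_c12)) :=
  Lre_f IH (LK LD1_c15 LD2_c54 LD3_c13) (LK LD1_c8 LD2_c28 LD3_c12) Lrfl Lrfl
theorem f200746 : Led Lsl_ft (LP (LK LD1_c8 LD2_c9 LD3_c3)) = (LP (LK LD1_c15 LD2_c20 LD3_c55)) :=
  Lre_f IH (LK LD1_c8 LD2_c9 LD3_c3) (LK LD1_c15 LD2_c20 LD3_c55) Lrfl Lrfl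
theorem f314497 : Led Lsl_at (LP (LK LD1_c8 LD2_c28 LD3_c12)) = (LP (LK LD1_c8 LD2_c9 LD3_c3)) :=
  Lgr Lrot66 (Lpe (f220995 IH) (Lpr_af (f314484 IH) (Lpe (f200746 IH) (Lpn (LP (LK LD1_c8 LD2_c9 LD3_c3))))))
theorem f189209 : Led Lsl_et (LP (LK LD1_c2 LD2_c4 LD3_c36)) = (LP (LK LD1_c4 LD2_c14 LD3_c28)) :=
  Lre_e IH (LK LD1_c2 LD2_c4 LD3_c36) (LK LD1_c4 LD2_c14 LD3_c28) Lrfl Lrfl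
theorem f228252 : Led Lsl_dt (LP (LK LD1_c4 LD2_c14 LD3_c28)) = (LP (LK LD1_c8 LD2_c27 LD3_c41)) :=
  Lre_d IH (LK LD1_c4 LD2_c14 LD3_c28) (LK LD1_c8 LD2_c27 LD3_c41) Lrfl Lrfl
theorem f220949 : Led Lsl_et (LP (LK LD1_c4 LD2_c14 LD3_c42)) = (LP (LK LD1_c2 LD2_c4 LD3_c43)) :=
  Lre_e IH (LK LD1_c4 LD2_c14 LD3_c42) (LK LD1_c2 LD2_c4 LD3_c43) Lrfl Lrfl
theorem f221007 : Led Lsl_dt (LP (LK LD1_c8 LD2_c28 LD3_c12)) = (LP (LK LD1_c4 LD2_c14 LD3_c42)) :=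
  Lre_d IH (LK LD1_c8 LD2_c28 LD3_c12) (LK LD1_c4 LD2_c14 LD3_c42) Lrfl Lrfl
theorem f238431 : Led Lsl_et (LP (LK LD1_c8 LD2_c27 LD3_c41)) = (LP (LK LD1_c8 LD2_c28 LD3_c12)) :=
  Lgr Lrot71 (Lpe (f228252 IH) (Lpe (f189209 IH) (Lpr_df (f238350 IH) (Lpe (f220949 IH) (Lpe (f221007 IH) (Lpn (LP (LK LD1_c8 LD2_c28 LD3_c12))))))))
theorem f314925 : Led Lsl_at (LP (LK LD1_c8 LD2_c9 LD3_c49)) = (LP (LK LD1_c8 LD2_c27 LD3_c41)) :=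
  Lgr Lrot80 (Lpr_ef (f314916 IH) (Lpe (f314497 IH) (Lpe (f238431 IH) (Lpn (LP (LK LD1_c8 LD2_c27 LD3_c41))))))
theorem f226793 : Led Lsl_dt (LP (LK LD1_c4 LD2_c4 LD3_c26)) = (LP (LK LD1_c8 LD2_c9 LD3_c49)) :=
  Lre_d IH (LK LD1_c4 LD2_c4 LD3_c26) (LK LD1_c8 LD2_c9 LD3_c49) Lrfl Lrfl
theorem f238443 : Led Lsl_dt (LP (LK LD1_c8 LD2_c27 LD3_c41)) = (LP (LK LD1_c4 LD2_c14 LD3_c28)) :=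
  Lre_d IH (LK LD1_c8 LD2_c27 LD3_c41) (LK LD1_c4 LD2_c14 LD3_c28) Lrfl Lrfl
theorem f314931 : Led Lsl_af (LP (LK LD1_c4 LD2_c4 LD3_c26)) = (LP (LK LD1_c4 LD2_c14 LD3_c28)) :=
  Lgr Lrot117 (Lpr_dt (f226793 IH) (Lpr_at (f314925 IH) (Lpr_dt (f238443 IH) (Lpn (LP (LK LD1_c4 LD2_c14 LD3_c28))))))
theorem f314855 : Led Lsl_ft (LP (LK LD1_c4 LD2_c4 LD3_c26)) = (LP (LK LD1_c8 LD2_c9 LD3_c50)) :=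
  Lre_f IH (LK LD1_c4 LD2_c4 LD3_c26) (LK LD1_c8 LD2_c9 LD3_c50) Lrfl Lrfl
theorem f314935 : Led Lsl_ft (LP (LK LD1_c8 LD2_c27 LD3_c42)) = (LP (LK LD1_c4 LD2_c14 LD3_c28)) :=
  Lre_f IH (LK LD1_c8 LD2_c27 LD3_c42) (LK LD1_c4 LD2_c14 LD3_c28) Lrfl Lrfl
theorem f314936 : Led Lsl_at (LP (LK LD1_c8 LD2_c9 LD3_c50)) = (LP (LK LD1_c8 LD2_c27 LD3_c42)) :=
  Lgr Lrot66 (Lpe (f314855 IH) (Lpr_af (f314931 IH) (Lpe (f314935 IH) (Lpn (LP (LK LD1_c8 LD2_c27 LD3_c42))))))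
theorem f314834 : Led Lsl_ct (LP (LK LD1_c4 LD2_c4 LD3_c30)) = (LP (LK LD1_c8 LD2_c9 LD3_c50)) :=
  Lre_c IH (LK LD1_c4 LD2_c4 LD3_c30) (LK LD1_c8 LD2_c9 LD3_c50) Lrfl Lrfl
theorem f314942 : Led Lsl_ct (LP (LK LD1_c8 LD2_c27 LD3_c42)) = (LP (LK LD1_c4 LD2_c14 LD3_c32)) :=
  Lre_c IH (LK LD1_c8 LD2_c27 LD3_c42) (LK LD1_c4 LD2_c14 LD3_c32) Lrfl Lrfl
theorem f314943 : Led Lsl_af (LP (LK LD1_c4 LD2_c4 LD3_c30)) = (LP (LK LD1_c4 LD2_c14 LD3_c32)) :=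
  Lgr Lrot68 (Lpr_ct (f314834 IH) (Lpr_at (f314936 IH) (Lpr_ct (f314942 IH) (Lpn (LP (LK LD1_c4 LD2_c14 LD3_c32))))))
theorem f298657 : Led Lsl_et (LP (LK LD1_c1 LD2_c59 LD3_c9)) = (LP (LK LD1_c0 LD2_c56 LD3_c20)) :=
  Lre_e IH (LK LD1_c1 LD2_c59 LD3_c9) (LK LD1_c0 LD2_c56 LD3_c20) Lrfl Lrfl
theorem f314829 : Led Lsl_ft (LP (LK LD1_c4 LD2_c4 LD3_c30)) = (LP (LK LD1_c1 LD2_c59 LD3_c9)) :=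
  Lre_f IH (LK LD1_c4 LD2_c4 LD3_c30) (LK LD1_c1 LD2_c59 LD3_c9) Lrfl Lrfl
theorem f196954 : Led Lsl_et (LP (LK LD1_c0 LD2_c36 LD3_c32)) = (LP (LK LD1_c1 LD2_c19 LD3_c8)) :=
  Lre_e IH (LK LD1_c0 LD2_c36 LD3_c32) (LK LD1_c1 LD2_c19 LD3_c8) Lrfl Lrfl
theorem f314830 : Led Lsl_ft (LP (LK LD1_c1 LD2_c19 LD3_c8)) = (LP (LK LD1_c2 LD2_c45 LD3_c36)) :=
  Lre_f IH (LK LD1_c1 LD2_c19 LD3_c8) (LK LD1_c2 LD2_c45 LD3_c36) Lrfl Lrfl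
theorem f314831 : Led Lsl_ef (LP (LK LD1_c4 LD2_c4 LD3_c30)) = (LP (LK LD1_c2 LD2_c45 LD3_c36)) :=
  Lgr Lrot21 (Lpr_ft (f314829 IH) (Lpr_et (f298657 IH) (Lpr_ft (f314825 IH) (Lpr_et (f196954 IH) (Lpr_ft (f314830 IH) (Lpn (LP (LK LD1_c2 LD2_c45 LD3_c36))))))))
theorem f314839 : Led Lsl_et (LP (LK LD1_c4 LD2_c4 LD3_c30)) = (LP (LK LD1_c2 LD2_c45 LD3_c36)) :=
  Lgr Lrot87 (Lpr_ef (f314831 IH) (Lpn (LP (LK LD1_c2 LD2_c45 LD3_c36))))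
theorem f193325 : Led Lsl_et (LP (LK LD1_c0 LD2_c56 LD3_c29)) = (LP (LK LD1_c1 LD2_c59 LD3_c21)) :=
  Lre_e IH (LK LD1_c0 LD2_c56 LD3_c29) (LK LD1_c1 LD2_c59 LD3_c21) Lrfl Lrfl
theorem f314799 : Led Lsl_ft (LP (LK LD1_c1 LD2_c59 LD3_c21)) = (LP (LK LD1_c4 LD2_c4 LD3_c44)) :=
  Lre_f IH (LK LD1_c1 LD2_c59 LD3_c21) (LK LD1_c4 LD2_c4 LD3_c44) Lrfl Lrfl
theorem f200434 : Led Lsl_et (LP (LK LD1_c2 LD2_c4 LD3_c37)) = (LP (LK LD1_c0 LD2_c59 LD3_c19)) :=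
  Lre_e IH (LK LD1_c2 LD2_c4 LD3_c37) (LK LD1_c0 LD2_c59 LD3_c19) Lrfl Lrfl
theorem f314800 : Led Lsl_ft (LP (LK LD1_c4 LD2_c14 LD3_c32)) = (LP (LK LD1_c2 LD2_c4 LD3_c37)) :=
  Lre_f IH (LK LD1_c4 LD2_c14 LD3_c32) (LK LD1_c2 LD2_c4 LD3_c37) Lrfl Lrfl
theorem f314801 : Led Lsl_et (LP (LK LD1_c4 LD2_c4 LD3_c44)) = (LP (LK LD1_c4 LD2_c14 LD3_c32)) :=
  Lgr Lrot69 (Lpe (f314799 IH) (Lpe (f193325 IH) (Lpr_ff (f314789 IH) (Lpe (f200434 IH) (Lpe (f314800 IH) (Lpn (LP (LK LD1_c4 LD2_c14 LD3_c32))))))))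
theorem f314948 : Led Lsl_at (LP (LK LD1_c2 LD2_c45 LD3_c36)) = (LP (LK LD1_c4 LD2_c4 LD3_c44)) :=
  Lgr Lrot80 (Lpe (f314839 IH) (Lpr_af (f314943 IH) (Lpe (f314801 IH) (Lpn (LP (LK LD1_c4 LD2_c4 LD3_c44))))))
theorem f216447 : Led Lsl_ct (LP (LK LD1_c2 LD2_c45 LD3_c35)) = (LP (LK LD1_c5 LD2_c39 LD3_c19)) :=
  Lre_c IH (LK LD1_c2 LD2_c45 LD3_c35) (LK LD1_c5 LD2_c39 LD3_c19) Lrfl Lrfl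
theorem f196976 : Led Lsl_dt (LP (LK LD1_c5 LD2_c39 LD3_c19)) = (LP (LK LD1_c11 LD2_c9 LD3_c41)) :=
  Lre_d IH (LK LD1_c5 LD2_c39 LD3_c19) (LK LD1_c11 LD2_c9 LD3_c41) Lrfl Lrfl
theorem f216617 : Led Lsl_ct (LP (LK LD1_c11 LD2_c9 LD3_c41)) = (LP (LK LD1_c20 LD2_c4 LD3_c9)) :=
  Lre_c IH (LK LD1_c11 LD2_c9 LD3_c41) (LK LD1_c20 LD2_c4 LD3_c9) Lrfl Lrfl
theorem f314963 : Led Lsl_ct (LP (LK LD1_c8 LD2_c10 LD3_c10)) = (LP (LK LD1_c4 LD2_c4 LD3_c44)) :=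
  Lre_c IH (LK LD1_c8 LD2_c10 LD3_c10) (LK LD1_c4 LD2_c4 LD3_c44) Lrfl Lrfl
theorem f314964 : Led Lsl_dt (LP (LK LD1_c15 LD2_c23 LD3_c8)) = (LP (LK LD1_c8 LD2_c10 LD3_c10)) :=
  Lre_d IH (LK LD1_c15 LD2_c23 LD3_c8) (LK LD1_c8 LD2_c10 LD3_c10) Lrfl Lrfl
theorem f314965 : Led Lsl_ct (LP (LK LD1_c25 LD2_c15 LD3_c18)) = (LP (LK LD1_c15 LD2_c23 LD3_c8)) :=
  Lre_c IH (LK LD1_c25 LD2_c15 LD3_c18) (LK LD1_c15 LD2_c23 LD3_c8) Lrfl Lrfl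
theorem f314966 : Led Lsl_dt (LP (LK LD1_c20 LD2_c4 LD3_c9)) = (LP (LK LD1_c25 LD2_c15 LD3_c18)) :=
  Lgr Lrot140 (Lpe (f216617 IH) (Lpe (f196976 IH) (Lpe (f216447 IH) (Lpe (K13.f200468 IH) (Lpr_ft (f314830 IH) (Lpr_at (f314948 IH) (Lpe (f314963 IH) (Lpe (f314964 IH) (Lpe (f314965 IH) (Lpn (LP (LK LD1_c25 LD2_c15 LD3_c18))))))))))))
theorem f228314 : Led Lsl_ct (LP (LK LD1_c2 LD2_c45 LD3_c32)) = (LP (LK LD1_c1 LD2_c19 LD3_c8)) :=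
  Lre_c IH (LK LD1_c2 LD2_c45 LD3_c32) (LK LD1_c1 LD2_c19 LD3_c8) Lrfl Lrfl
theorem f228263 : Led Lsl_dt (LP (LK LD1_c5 LD2_c39 LD3_c10)) = (LP (LK LD1_c2 LD2_c45 LD3_c32)) :=
  Lre_d IH (LK LD1_c5 LD2_c39 LD3_c10) (LK LD1_c2 LD2_c45 LD3_c32) Lrfl Lrfl
theorem f314983 : Led Lsl_ft (LP (LK LD1_c5 LD2_c39 LD3_c10)) = (LP (LK LD1_c11 LD2_c9 LD3_c25)) :=
  Lre_f IH (LK LD1_c5 LD2_c39 LD3_c10) (LK LD1_c11 LD2_c9 LD3_c25) Lrfl Lrfl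
theorem f314984 : Led Lsl_at (LP (LK LD1_c11 LD2_c9 LD3_c25)) = (LP (LK LD1_c15 LD2_c23 LD3_c8)) :=
  Lgr Lrot33 (Lpe (f314983 IH) (Lpr_dt (f228263 IH) (Lpr_ct (f228314 IH) (Lpr_dt (K13.f200468 IH) (Lpr_ct (f216447 IH) (Lpr_dt (f196976 IH) (Lpr_ct (f216617 IH) (Lpr_dt (f314966 IH) (Lpr_ct (f314965 IH) (Lpn (LP (LK LD1_c15 LD2_c23 LD3_c8))))))))))))
theorem f314996 : Led Lsl_ft (LP (LK LD1_c15 LD2_c23 LD3_c8)) = (LP (LK LD1_c8 LD2_c10 LD3_c9)) :=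
  Lre_f IH (LK LD1_c15 LD2_c23 LD3_c8) (LK LD1_c8 LD2_c10 LD3_c9) Lrfl Lrfl
theorem f314997 : Led Lsl_af (LP (LK LD1_c5 LD2_c39 LD3_c10)) = (LP (LK LD1_c8 LD2_c10 LD3_c9)) :=
  Lgr Lrot45 (Lpr_ft (f314983 IH) (Lpr_at (f314984 IH) (Lpr_ft (f314996 IH) (Lpn (LP (LK LD1_c8 LD2_c10 LD3_c9))))))
theorem f244354 : Led Lsl_dt (LP (LK LD1_c4 LD2_c4 LD3_c40)) = (LP (LK LD1_c8 LD2_c10 LD3_c9)) :=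
  Lre_d IH (LK LD1_c4 LD2_c4 LD3_c40) (LK LD1_c8 LD2_c10 LD3_c9) Lrfl Lrfl
theorem f315009 : Led Lsl_at (LP (LK LD1_c2 LD2_c45 LD3_c32)) = (LP (LK LD1_c4 LD2_c4 LD3_c40)) :=
  Lgr Lrot51 (Lpe (f228263 IH) (Lpr_af (f314997 IH) (Lpe (f244354 IH) (Lpn (LP (LK LD1_c4 LD2_c4 LD3_c40))))))
theorem f314857 : Led Lsl_ft (LP (LK LD1_c5 LD2_c39 LD3_c11)) = (LP (LK LD1_c2 LD2_c45 LD3_c32)) :=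
  Lre_f IH (LK LD1_c5 LD2_c39 LD3_c11) (LK LD1_c2 LD2_c45 LD3_c32) Lrfl Lrfl
theorem f314853 : Led Lsl_dt (LP (LK LD1_c5 LD2_c39 LD3_c11)) = (LP (LK LD1_c11 LD2_c9 LD3_c25)) :=
  Lre_d IH (LK LD1_c5 LD2_c39 LD3_c11) (LK LD1_c11 LD2_c9 LD3_c25) Lrfl Lrfl
theorem f315023 : Led Lsl_ct (LP (LK LD1_c11 LD2_c9 LD3_c25)) = (LP (LK LD1_c20 LD2_c3 LD3_c43)) :=
  Lre_c IH (LK LD1_c11 LD2_c9 LD3_c25) (LK LD1_c20 LD2_c3 LD3_c43) Lrfl Lrfl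
theorem f224906 : Led Lsl_ct (LP (LK LD1_c1 LD2_c59 LD3_c21)) = (LP (LK LD1_c4 LD2_c4 LD3_c40)) :=
  Lre_c IH (LK LD1_c1 LD2_c59 LD3_c21) (LK LD1_c4 LD2_c4 LD3_c40) Lrfl Lrfl
theorem f224928 : Led Lsl_ct (LP (LK LD1_c25 LD2_c15 LD3_c39)) = (LP (LK LD1_c15 LD2_c23 LD3_c24)) :=
  Lre_c IH (LK LD1_c25 LD2_c15 LD3_c39) (LK LD1_c15 LD2_c23 LD3_c24) Lrfl Lrfl
theorem f315024 : Led Lsl_dt (LP (LK LD1_c20 LD2_c3 LD3_c43)) = (LP (LK LD1_c25 LD2_c15 LD3_c39)) :=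
  Lgr Lrot32 (Lpe (f315023 IH) (Lpe (f314853 IH) (Lpr_ft (f314857 IH) (Lpr_at (f315009 IH) (Lpe (f224906 IH) (Lpe (f199255 IH) (Lpe (f199306 IH) (Lpe (f199319 IH) (Lpe (f224928 IH) (Lpn (LP (LK LD1_c25 LD2_c15 LD3_c39))))))))))))
theorem f314844 : Led Lsl_ct (LP (LK LD1_c2 LD2_c45 LD3_c36)) = (LP (LK LD1_c5 LD2_c39 LD3_c11)) :=
  Lre_c IH (LK LD1_c2 LD2_c45 LD3_c36) (LK LD1_c5 LD2_c39 LD3_c11) Lrfl Lrfl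
theorem f314838 : Led Lsl_dt (LP (LK LD1_c5 LD2_c39 LD3_c20)) = (LP (LK LD1_c2 LD2_c45 LD3_c36)) :=
  Lre_d IH (LK LD1_c5 LD2_c39 LD3_c20) (LK LD1_c2 LD2_c45 LD3_c36) Lrfl Lrfl
theorem f315036 : Led Lsl_ft (LP (LK LD1_c5 LD2_c39 LD3_c20)) = (LP (LK LD1_c2 LD2_c45 LD3_c35)) :=
  Lre_f IH (LK LD1_c5 LD2_c39 LD3_c20) (LK LD1_c2 LD2_c45 LD3_c35) Lrfl Lrfl
theorem f315037 : Led Lsl_at (LP (LK LD1_c2 LD2_c45 LD3_c35)) = (LP (LK LD1_c4 LD2_c4 LD3_c43)) :=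
  Lgr Lrot33 (Lpe (f315036 IH) (Lpr_dt (f314838 IH) (Lpr_ct (f314844 IH) (Lpr_dt (f314853 IH) (Lpr_ct (f315023 IH) (Lpr_dt (f315024 IH) (Lpr_ct (f224928 IH) (Lpr_dt (f199319 IH) (Lpr_ct (f199306 IH) (Lpn (LP (LK LD1_c4 LD2_c4 LD3_c43))))))))))))
theorem f200571 : Led Lsl_et (LP (LK LD1_c1 LD2_c19 LD3_c11)) = (LP (LK LD1_c2 LD2_c45 LD3_c35)) :=
  Lre_e IH (LK LD1_c1 LD2_c19 LD3_c11) (LK LD1_c2 LD2_c45 LD3_c35) Lrfl Lrfl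
theorem f315043 : Led Lsl_af (LP (LK LD1_c1 LD2_c19 LD3_c11)) = (LP (LK LD1_c1 LD2_c59 LD3_c23)) :=
  Lgr Lrot50 (Lpr_et (f200571 IH) (Lpr_at (f315037 IH) (Lpr_et (K15.f199257 IH) (Lpn (LP (LK LD1_c1 LD2_c59 LD3_c23))))))
theorem f315057 : Led Lsl_ft (LP (LK LD1_c2 LD2_c26 LD3_c13)) = (LP (LK LD1_c1 LD2_c59 LD3_c23)) :=
  Lgr Lrot2 (Lpr_gt (K13.f239132 IH) (Lpr_gt (K11.f196952 IH) (Lpr_af (f315043 IH) (Lpn (LP (LK LD1_c1 LD2_c59 LD3_c23))))))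
theorem f315066 : Led Lsl_ff (LP (LK LD1_c2 LD2_c26 LD3_c13)) = (LP (LK LD1_c1 LD2_c59 LD3_c23)) :=
  Lgr Lrot3 (Lpr_ft (f315057 IH) (Lpn (LP (LK LD1_c1 LD2_c59 LD3_c23))))
theorem f315072 : Led Lsl_at (LP (LK LD1_c2 LD2_c26 LD3_c13)) = (LP (LK LD1_c2 LD2_c3 LD3_c33)) :=
  Lgr Lrot26 (Lpr_ff (f315066 IH) (Lpr_gt (K12.f224877 IH) (Lpe (K14.f232262 IH) (Lpn (LP (LK LD1_c2 LD2_c3 LD3_c33))))))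
theorem f315051 : Led Lsl_at (LP (LK LD1_c1 LD2_c19 LD3_c11)) = (LP (LK LD1_c1 LD2_c59 LD3_c23)) :=
  Lgr Lrot100 (Lpr_af (f315043 IH) (Lpn (LP (LK LD1_c1 LD2_c59 LD3_c23))))
theorem f315083 : Led Lsl_ff (LP (LK LD1_c1 LD2_c19 LD3_c11)) = (LP (LK LD1_c2 LD2_c3 LD3_c33)) :=
  Lgr Lrot30 (Lpr_at (f315051 IH) (Lpe (f315066 IH) (Lpr_at (f315072 IH) (Lpn (LP (LK LD1_c2 LD2_c3 LD3_c33))))))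
theorem f196991 : Led Lsl_cf (LP (LK LD1_c1 LD2_c57 LD3_c28)) = (LP (LK LD1_c1 LD2_c19 LD3_c12)) :=
  Lgr Lrot11 (Lpr_ct (f196987 IH) (Lpn (LP (LK LD1_c1 LD2_c19 LD3_c12))))
theorem f315092 : Led Lsl_df (LP (LK LD1_c1 LD2_c19 LD3_c1)) = (LP (LK LD1_c1 LD2_c57 LD3_c28)) :=
  Lgr Lrot106 (Lpr_ct (K13.f173283 IH) (Lpr_dt (K13.f173288 IH) (Lpe (K13.f238805 IH) (Lpr_dt (K16.f197712 IH) (Lpr_ct (K13.f196242 IH) (Lpe (f315051 IH) (Lpr_ff (f315083 IH) (Lpe (f313432 IH) (Lpe (f196991 IH) (Lpn (LP (LK LD1_c1 LD2_c57 LD3_c28))))))))))))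
theorem f315100 : Led Lsl_ef (LP (LK LD1_c0 LD2_c56 LD3_c27)) = (LP (LK LD1_c1 LD2_c57 LD3_c28)) :=
  Lgr Lrot17 (Lpr_gf (f313467 IH) (Lpe (K10.f192659 IH) (Lpr_dt (K10.f171532 IH) (Lpe (K12.f227918 IH) (Lpr_df (K13.f242510 IH) (Lpe (K13.f242518 IH) (Lpe (K12.f53091 IH) (Lpr_dt (K10.f2984 IH) (Lpe (K13.f229291 IH) (Lpr_df (f315092 IH) (Lpn (LP (LK LD1_c1 LD2_c57 LD3_c28)))))))))))))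
theorem f315104 : Led Lsl_ft (LP (LK LD1_c0 LD2_c11 LD3_c23)) = (LP (LK LD1_c0 LD2_c25 LD3_c13)) :=
  Lgr Lrot86 (Lpe (K10.f28165 IH) (Lpe (K11.f200651 IH) (Lpr_ef (f315100 IH) (Lpe (f196985 IH) (Lpe (K11.f182184 IH) (Lpn (LP (LK LD1_c0 LD2_c25 LD3_c13))))))))

end

end K19

end

end Cfsg.Agent.Helper28.S1692
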