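import Cfsg.Agent.Lib.Helper28.S1692.Seeds1

set_option autoImplicit false
set_option maxRecDepth 100000
set_option linter.all false

namespace Cfsg.Agent.Helper28.S1692

open Cfsg.Agent.Helper28
open Cfsg.Spor.ON (Gen)

noncomputable section

namespace K2
abbrev LD1_c0 := D1.c0
abbrev LD1_c1 := D1.c1
abbrev LD1_c2 := D1.c2
abbrev LD1_c3 := D1.c3
abbrev LD1_c4 := D1.c4
abbrev LD1_c5 := D1.c5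
abbrev LD1_c6 := D1.c6
abbrev LD1_c7 := D1.c7
abbrev LD1_c8 := D1.c8
abbrev LD1_c9 := D1.c9
abbrev LD1_c10 := D1.c10
abbrev LD1_c11 := D1.c11
abbrev LD1_c12 := D1.c12
abbrev LD1_c13 := D1.c13
abbrev LD1_c14 := D1.c14
abbrev LD1_c15 := D1.c15
abbrev LD1_c16 := D1.c16
abbrev LD1_c17 := D1.c17
abbrev LD1_c18 := D1.c18
abbrev LD1_c19 := D1.c19
abbrev LD1_c20 := D1.c20
abbrev LD1_c21 := D1.c21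
abbrev LD1_c22 := D1.c22
abbrev LD1_c23 := D1.c23
abbrev LD1_c24 := D1.c24
abbrev LD1_c25 := D1.c25
abbrev LD1_c26 := D1.c26
abbrev LD1_c27 := D1.c27
abbrev LD1_c28 := D1.c28
abbrev LD1_c29 := D1.c29
abbrev LD1_c30 := D1.c30
abbrev LD1_c31 := D1.c31
abbrev LD1_c32 := D1.c32
abbrev LD2_c0 := D2.c0
abbrev LD2_c1 := D2.c1
abbrev LD2_c2 := D2.c2
abbrev LD2_c3 := D2.c3
abbrev LD2_c4 := D2.c4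
abbrev LD2_c5 := D2.c5
abbrev LD2_c6 := D2.c6
abbrev LD2_c7 := D2.c7
abbrev LD2_c8 := D2.c8
abbrev LD2_c9 := D2.c9
abbrev LD2_c10 := D2.c10
abbrev LD2_c11 := D2.c11
abbrev LD2_c12 := D2.c12
abbrev LD2_c13 := D2.c13
abbrev LD2_c14 := D2.c14
abbrev LD2_c15 := D2.c15
abbrev LD2_c16 := D2.c16
abbrev LD2_c17 := D2.c17
abbrev LD2_c18 := D2.c18
abbrev LD2_c19 := D2.c19
abbrev LD2_c20 := D2.c20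
abbrev LD2_c21 := D2.c21
abbrev LD2_c22 := D2.c22
abbrev LD2_c23 := D2.c23
abbrev LD2_c24 := D2.c24
abbrev LD2_c25 := D2.c25
abbrev LD2_c26 := D2.c26
abbrev LD2_c27 := D2.c27
abbrev LD2_c28 := D2.c28
abbrev LD2_c29 := D2.c29
abbrev LD2_c30 := D2.c30
abbrev LD2_c31 := D2.c31
abbrev LD2_c32 := D2.c32
abbrev LD2_c33 := D2.c33
abbrev LD2_c34 := D2.c34
abbrev LD2_c35 := D2.c35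
abbrev LD2_c36 := D2.c36
abbrev LD2_c37 := D2.c37
abbrev LD2_c38 := D2.c38
abbrev LD2_c39 := D2.c39
abbrev LD2_c40 := D2.c40
abbrev LD2_c41 := D2.c41
abbrev LD2_c42 := D2.c42
abbrev LD2_c43 := D2.c43
abbrev LD2_c44 := D2.c44
abbrev LD2_c45 := D2.c45
abbrev LD2_c46 := D2.c46
abbrev LD2_c47 := D2.c47
abbrev LD2_c48 := D2.c48
abbrev LD2_c49 := D2.c49
abbrev LD2_c50 := D2.c50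
abbrev LD2_c51 := D2.c51
abbrev LD2_c52 := D2.c52
abbrev LD2_c53 := D2.c53
abbrev LD2_c54 := D2.c54
abbrev LD2_c55 := D2.c55
abbrev LD2_c56 := D2.c56
abbrev LD2_c57 := D2.c57
abbrev LD2_c58 := D2.c58
abbrev LD2_c59 := D2.c59
abbrev LD3_c0 := D3.c0
abbrev LD3_c1 := D3.c1
abbrev LD3_c2 := D3.c2
abbrev LD3_c3 := D3.c3
abbrev LD3_c4 := D3.c4
abbrev LD3_c5 := D3.c5
abbrev LD3_c6 := D3.c6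
abbrev LD3_c7 := D3.c7
abbrev LD3_c8 := D3.c8
abbrev LD3_c9 := D3.c9
abbrev LD3_c10 := D3.c10
abbrev LD3_c11 := D3.c11
abbrev LD3_c12 := D3.c12
abbrev LD3_c13 := D3.c13
abbrev LD3_c14 := D3.c14
abbrev LD3_c15 := D3.c15
abbrev LD3_c16 := D3.c16
abbrev LD3_c17 := D3.c17
abbrev LD3_c18 := D3.c18
abbrev LD3_c19 := D3.c19
abbrev LD3_c20 := D3.c20
abbrev LD3_c21 := D3.c21
abbrev LD3_c22 := D3.c22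
abbrev LD3_c23 := D3.c23
abbrev LD3_c24 := D3.c24
abbrev LD3_c25 := D3.c25
abbrev LD3_c26 := D3.c26
abbrev LD3_c27 := D3.c27
abbrev LD3_c28 := D3.c28
abbrev LD3_c29 := D3.c29
abbrev LD3_c30 := D3.c30
abbrev LD3_c31 := D3.c31
abbrev LD3_c32 := D3.c32
abbrev LD3_c33 := D3.c33
abbrev LD3_c34 := D3.c34
abbrev LD3_c35 := D3.c35
abbrev LD3_c36 := D3.c36
abbrev LD3_c37 := D3.c37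
abbrev LD3_c38 := D3.c38
abbrev LD3_c39 := D3.c39
abbrev LD3_c40 := D3.c40
abbrev LD3_c41 := D3.c41
abbrev LD3_c42 := D3.c42
abbrev LD3_c43 := D3.c43
abbrev LD3_c44 := D3.c44
abbrev LD3_c45 := D3.c45
abbrev LD3_c46 := D3.c46
abbrev LD3_c47 := D3.c47
abbrev LD3_c48 := D3.c48
abbrev LD3_c49 := D3.c49
abbrev LD3_c50 := D3.c50
abbrev LD3_c51 := D3.c51
abbrev LD3_c52 := D3.c52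
abbrev LD3_c53 := D3.c53
abbrev LD3_c54 := D3.c54
abbrev LD3_c55 := D3.c55
abbrev LD3_c56 := D3.c56
abbrev LD3_c57 := D3.c57
abbrev LD3_c58 := D3.c58
abbrev LD3_c59 := D3.c59
abbrev LD3_c60 := D3.c60
abbrev LD3_c61 := D3.c61
abbrev LG_g := Gen.g
abbrev Lsl_gt : Gen × Bool := sl_gt
alias Lfl_gt := fl_gt
alias Lpr_gt := pr_gt
abbrev Lsl_gf : Gen × Bool := sl_gf
alias Lfl_gf := fl_gf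
alias Lpr_gf := pr_gf
alias Lre_g := re_g
alias Leoe_g := eoe_g
abbrev LG_a := Gen.a
abbrev Lsl_at : Gen × Bool := sl_at
alias Lfl_at := fl_at
alias Lpr_at := pr_at
abbrev Lsl_af : Gen × Bool := sl_af
alias Lfl_af := fl_af
alias Lpr_af := pr_af
alias Lre_a := re_a
alias Leoe_a := eoe_a
abbrev LG_b := Gen.b
abbrev Lsl_bt : Gen × Bool := sl_bt
alias Lfl_bt := fl_bt
alias Lpr_bt := pr_bt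
abbrev Lsl_bf : Gen × Bool := sl_bf
alias Lfl_bf := fl_bf
alias Lpr_bf := pr_bf
alias Lre_b := re_b
alias Leoe_b := eoe_b
abbrev LG_c := Gen.c
abbrev Lsl_ct : Gen × Bool := sl_ct
alias Lfl_ct := fl_ct
alias Lpr_ct := pr_ct
abbrev Lsl_cf : Gen × Bool := sl_cf
alias Lfl_cf := fl_cf
alias Lpr_cf := pr_cf
alias Lre_c := re_c
alias Leoe_c := eoe_c
abbrev LG_d := Gen.d
abbrev Lsl_dt : Gen × Bool := sl_dt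
alias Lfl_dt := fl_dt
alias Lpr_dt := pr_dt
abbrev Lsl_df : Gen × Bool := sl_df
alias Lfl_df := fl_df
alias Lpr_df := pr_df
alias Lre_d := re_d
alias Leoe_d := eoe_d
abbrev LG_e := Gen.e
abbrev Lsl_et : Gen × Bool := sl_et
alias Lfl_et := fl_et
alias Lpr_et := pr_et
abbrev Lsl_ef : Gen × Bool := sl_ef
alias Lfl_ef := fl_ef
alias Lpr_ef := pr_ef
alias Lre_e := re_e
alias Leoe_e := eoe_e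
abbrev LG_f := Gen.f
abbrev Lsl_ft : Gen × Bool := sl_ft
alias Lfl_ft := fl_ft
alias Lpr_ft := pr_ft
abbrev Lsl_ff : Gen × Bool := sl_ff
alias Lfl_ff := fl_ff
alias Lpr_ff := pr_ff
alias Lre_f := re_f
alias Leoe_f := eoe_f
abbrev LK := Pt.mk
abbrev LQ : Type := Qt rels S
abbrev LP (p : Pt) : LQ := P p
abbrev Led (l : Gen × Bool) (c : LQ) : LQ := ed l c
abbrev LEOK (x : Gen) (p : Pt) : Prop := EntryOK rels S fwd inv o plet idx x p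
alias Lpe := pe
alias Lpn := pn
alias Lgr := gr
alias Lpq := pq
alias Lpqs := pqs
alias Llr := lr
alias Leop := eop
alias Lefun := efun
alias Lecon := econ
theorem Lrfl {α : Sort _} {a : α} : a = a := rfl
alias Lrot0 := rot0
alias Lrot1 := rot1
alias Lrot2 := rot2
alias Lrot3 := rot3
alias Lrot4 := rot4
alias Lrot5 := rot5
alias Lrot6 := rot6
alias Lrot7 := rot7
alias Lrot8 := rot8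
alias Lrot9 := rot9
alias Lrot10 := rot10
alias Lrot11 := rot11
alias Lrot12 := rot12
alias Lrot13 := rot13
alias Lrot14 := rot14
alias Lrot15 := rot15
alias Lrot17 := rot17
alias Lrot18 := rot18
alias Lrot19 := rot19
alias Lrot20 := rot20
alias Lrot21 := rot21
alias Lrot22 := rot22
alias Lrot23 := rot23
alias Lrot24 := rot24
alias Lrot25 := rot25
alias Lrot26 := rot26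
alias Lrot27 := rot27
alias Lrot28 := rot28
alias Lrot29 := rot29
alias Lrot30 := rot30
alias Lrot31 := rot31
alias Lrot33 := rot33
alias Lrot34 := rot34
alias Lrot35 := rot35
alias Lrot36 := rot36
alias Lrot37 := rot37
alias Lrot38 := rot38
alias Lrot39 := rot39
alias Lrot40 := rot40
alias Lrot41 := rot41
alias Lrot42 := rot42
alias Lrot43 := rot43
alias Lrot44 := rot44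
alias Lrot45 := rot45
alias Lrot46 := rot46
alias Lrot47 := rot47
alias Lrot48 := rot48
alias Lrot49 := rot49
alias Lrot50 := rot50
alias Lrot51 := rot51
alias Lrot52 := rot52
alias Lrot53 := rot53
alias Lrot54 := rot54
alias Lrot55 := rot55
alias Lrot56 := rot56
alias Lrot57 := rot57
alias Lrot58 := rot58
alias Lrot59 := rot59
alias Lrot60 := rot60
alias Lrot61 := rot61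
alias Lrot62 := rot62
alias Lrot63 := rot63
alias Lrot64 := rot64
alias Lrot65 := rot65
alias Lrot66 := rot66
alias Lrot67 := rot67
alias Lrot68 := rot68
alias Lrot69 := rot69
alias Lrot70 := rot70
alias Lrot71 := rot71
alias Lrot72 := rot72
alias Lrot73 := rot73
alias Lrot74 := rot74
alias Lrot75 := rot75
alias Lrot76 := rot76
alias Lrot77 := rot77
alias Lrot78 := rot78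
alias Lrot79 := rot79
alias Lrot80 := rot80
alias Lrot81 := rot81
alias Lrot82 := rot82
alias Lrot83 := rot83
alias Lrot84 := rot84
alias Lrot86 := rot86
alias Lrot87 := rot87
alias Lrot88 := rot88
alias Lrot90 := rot90
alias Lrot91 := rot91
alias Lrot92 := rot92
alias Lrot93 := rot93
alias Lrot94 := rot94
alias Lrot95 := rot95
alias Lrot96 := rot96
alias Lrot97 := rot97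
alias Lrot98 := rot98
alias Lrot99 := rot99
alias Lrot100 := rot100
alias Lrot101 := rot101
alias Lrot102 := rot102
alias Lrot103 := rot103
alias Lrot104 := rot104
alias Lrot106 := rot106
alias Lrot107 := rot107
alias Lrot108 := rot108
alias Lrot109 := rot109
alias Lrot110 := rot110
alias Lrot111 := rot111
alias Lrot112 := rot112
alias Lrot114 := rot114
alias Lrot116 := rot116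
alias Lrot117 := rot117
alias Lrot118 := rot118
alias Lrot119 := rot119
alias Lrot120 := rot120
alias Lrot122 := rot122
alias Lrot123 := rot123
alias Lrot124 := rot124
alias Lrot125 := rot125
alias Lrot126 := rot126
alias Lrot127 := rot127
alias Lrot128 := rot128
alias Lrot129 := rot129
alias Lrot131 := rot131
alias Lrot134 := rot134
alias Lrot135 := rot135
alias Lrot136 := rot136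
alias Lrot137 := rot137
alias Lrot138 := rot138
alias Lrot139 := rot139
alias Lrot140 := rot140
alias Lrot141 := rot141
alias Lrot142 := rot142
alias Lrot143 := rot143
alias Lrot144 := rot144
alias Lrot145 := rot145
alias Lrot147 := rot147
alias Lrot149 := rot149
alias Lrot150 := rot150
alias Lrot151 := rot151
alias Lrot152 := rot152
alias Lrot153 := rot153
alias Lrot155 := rot155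
alias Lrot156 := rot156
alias Lrot157 := rot157
alias Lrot158 := rot158
alias Lrot159 := rot159
alias Lrot160 := rot160
alias Lrot161 := rot161
alias Lrot162 := rot162
alias Lrot163 := rot163
alias Lrot164 := rot164
alias Lrot165 := rot165
alias Lrot166 := rot166
alias Lrot167 := rot167
alias Lrot168 := rot168
alias Lrot169 := rot169
alias Lrot170 := rot170
alias Lrot173 := rot173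
alias Lrot175 := rot175
alias Lrot176 := rot176
alias Lrot177 := rot177
alias Lrot180 := rot180
alias Lrot181 := rot181
alias Lrot182 := rot182
alias Lrot183 := rot183
alias Lrot185 := rot185
alias Lrot186 := rot186
alias Lrot188 := rot188
alias Lrot189 := rot189

section
variable (IH : IHT)
include IH

theorem f9834 : Led Lsl_ct (LP (LK LD1_c3 LD2_c25 LD3_c23)) = (LP (LK LD1_c1 LD2_c39 LD3_c18)) :=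
  Lre_c IH (LK LD1_c3 LD2_c25 LD3_c23) (LK LD1_c1 LD2_c39 LD3_c18) Lrfl Lrfl
theorem f9838 : Led Lsl_dt (LP (LK LD1_c6 LD2_c52 LD3_c60)) = (LP (LK LD1_c3 LD2_c25 LD3_c23)) :=
  Lre_d IH (LK LD1_c6 LD2_c52 LD3_c60) (LK LD1_c3 LD2_c25 LD3_c23) Lrfl Lrfl
theorem f68110 : Led Lsl_dt (LP (LK LD1_c0 LD2_c42 LD3_c39)) = (LP (LK LD1_c1 LD2_c32 LD3_c12)) :=
  Lre_d IH (LK LD1_c0 LD2_c42 LD3_c39) (LK LD1_c1 LD2_c32 LD3_c12) Lrfl Lrfl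
theorem f68111 : Led Lsl_ct (LP (LK LD1_c1 LD2_c32 LD3_c12)) = (LP (LK LD1_c3 LD2_c11 LD3_c42)) :=
  Lre_c IH (LK LD1_c1 LD2_c32 LD3_c12) (LK LD1_c3 LD2_c11 LD3_c42) Lrfl Lrfl
theorem f68112 : Led Lsl_dt (LP (LK LD1_c3 LD2_c11 LD3_c42)) = (LP (LK LD1_c6 LD2_c27 LD3_c39)) :=
  Lre_d IH (LK LD1_c3 LD2_c11 LD3_c42) (LK LD1_c6 LD2_c27 LD3_c39) Lrfl Lrfl
theorem f68113 : Led Lsl_cf (LP (LK LD1_c6 LD2_c52 LD3_c60)) = (LP (LK LD1_c6 LD2_c27 LD3_c39)) :=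
  Lgr Lrot116 (Lpr_dt (f9838 IH) (Lpr_ct (f9834 IH) (Lpr_dt (K1.f9822 IH) (Lpr_ct (K1.f9821 IH) (Lpe (K1.f68101 IH) (Lpr_ff (K1.f68099 IH) (Lpr_dt (f68110 IH) (Lpr_ct (f68111 IH) (Lpr_dt (f68112 IH) (Lpn (LP (LK LD1_c6 LD2_c27 LD3_c39))))))))))))
theorem f17184 : Led Lsl_et (LP (LK LD1_c6 LD2_c52 LD3_c60)) = (LP (LK LD1_c13 LD2_c5 LD3_c10)) :=
  Lre_e IH (LK LD1_c6 LD2_c52 LD3_c60) (LK LD1_c13 LD2_c5 LD3_c10) Lrfl Lrfl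
theorem f68120 : Led Lsl_et (LP (LK LD1_c12 LD2_c26 LD3_c44)) = (LP (LK LD1_c6 LD2_c27 LD3_c39)) :=
  Lre_e IH (LK LD1_c12 LD2_c26 LD3_c44) (LK LD1_c6 LD2_c27 LD3_c39) Lrfl Lrfl
theorem f68121 : Led Lsl_ct (LP (LK LD1_c13 LD2_c5 LD3_c10)) = (LP (LK LD1_c12 LD2_c26 LD3_c44)) :=
  Lgr Lrot15 (Lpe (f17184 IH) (Lpr_cf (f68113 IH) (Lpe (f68120 IH) (Lpn (LP (LK LD1_c12 LD2_c26 LD3_c44))))))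
theorem f68128 : Led Lsl_cf (LP (LK LD1_c13 LD2_c5 LD3_c10)) = (LP (LK LD1_c12 LD2_c26 LD3_c44)) :=
  Lgr Lrot11 (Lpr_ct (f68121 IH) (Lpn (LP (LK LD1_c12 LD2_c26 LD3_c44))))
theorem f17244 : Led Lsl_at (LP (LK LD1_c13 LD2_c5 LD3_c10)) = (LP (LK LD1_c6 LD2_c58 LD3_c7)) :=
  Lre_a IH (LK LD1_c13 LD2_c5 LD3_c10) (LK LD1_c6 LD2_c58 LD3_c7) Lrfl Lrfl
theorem f17202 : Led Lsl_ct (LP (LK LD1_c6 LD2_c58 LD3_c7)) = (LP (LK LD1_c13 LD2_c13 LD3_c52)) :=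
  Lre_c IH (LK LD1_c6 LD2_c58 LD3_c7) (LK LD1_c13 LD2_c13 LD3_c52) Lrfl Lrfl
theorem f68133 : Led Lsl_at (LP (LK LD1_c13 LD2_c13 LD3_c52)) = (LP (LK LD1_c12 LD2_c26 LD3_c44)) :=
  Lgr Lrot107 (Lpe (f17202 IH) (Lpe (f17244 IH) (Lpr_cf (f68128 IH) (Lpn (LP (LK LD1_c12 LD2_c26 LD3_c44))))))
theorem f19280 : Led Lsl_et (LP (LK LD1_c6 LD2_c58 LD3_c6)) = (LP (LK LD1_c13 LD2_c13 LD3_c52)) :=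
  Lre_e IH (LK LD1_c6 LD2_c58 LD3_c6) (LK LD1_c13 LD2_c13 LD3_c52) Lrfl Lrfl
theorem f68137 : Led Lsl_af (LP (LK LD1_c6 LD2_c58 LD3_c6)) = (LP (LK LD1_c6 LD2_c27 LD3_c39)) :=
  Lgr Lrot50 (Lpr_et (f19280 IH) (Lpr_at (f68133 IH) (Lpr_et (f68120 IH) (Lpn (LP (LK LD1_c6 LD2_c27 LD3_c39))))))
theorem f68142 : Led Lsl_at (LP (LK LD1_c6 LD2_c27 LD3_c29)) = (LP (LK LD1_c3 LD2_c11 LD3_c42)) :=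
  Lre_a IH (LK LD1_c6 LD2_c27 LD3_c29) (LK LD1_c3 LD2_c11 LD3_c42) Lrfl Lrfl
theorem f68143 : Led Lsl_dt (LP (LK LD1_c6 LD2_c58 LD3_c6)) = (LP (LK LD1_c6 LD2_c27 LD3_c29)) :=
  Lgr Lrot44 (Lpr_af (f68137 IH) (Lpe (f68112 IH) (Lpe (f68142 IH) (Lpn (LP (LK LD1_c6 LD2_c27 LD3_c29))))))
theorem f19251 : Led Lsl_ct (LP (LK LD1_c3 LD2_c27 LD3_c58)) = (LP (LK LD1_c6 LD2_c58 LD3_c6)) :=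
  Lre_c IH (LK LD1_c3 LD2_c27 LD3_c58) (LK LD1_c6 LD2_c58 LD3_c6) Lrfl Lrfl
theorem f17197 : Led Lsl_dt (LP (LK LD1_c1 LD2_c40 LD3_c34)) = (LP (LK LD1_c3 LD2_c27 LD3_c58)) :=
  Lre_d IH (LK LD1_c1 LD2_c40 LD3_c34) (LK LD1_c3 LD2_c27 LD3_c58) Lrfl Lrfl
theorem f18087 : Led Lsl_at (LP (LK LD1_c0 LD2_c21 LD3_c25)) = (LP (LK LD1_c0 LD2_c9 LD3_c41)) :=
  Lre_a IH (LK LD1_c0 LD2_c21 LD3_c25) (LK LD1_c0 LD2_c9 LD3_c41) Lrfl Lrfl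
theorem f18132 : Led Lsl_at (LP (LK LD1_c0 LD2_c9 LD3_c12)) = (LP (LK LD1_c0 LD2_c20 LD3_c25)) :=
  Lre_a IH (LK LD1_c0 LD2_c9 LD3_c12) (LK LD1_c0 LD2_c20 LD3_c25) Lrfl Lrfl
theorem f18155 : Led Lsl_ff (LP (LK LD1_c0 LD2_c21 LD3_c25)) = (LP (LK LD1_c0 LD2_c20 LD3_c25)) :=
  Lgr Lrot30 (Lpr_at (f18087 IH) (Lpr_ft (K1.f18144 IH) (Lpr_at (f18132 IH) (Lpn (LP (LK LD1_c0 LD2_c20 LD3_c25))))))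
theorem f18086 : Led Lsl_et (LP (LK LD1_c0 LD2_c21 LD3_c25)) = (LP (LK LD1_c0 LD2_c47 LD3_c53)) :=
  Lre_e IH (LK LD1_c0 LD2_c21 LD3_c25) (LK LD1_c0 LD2_c47 LD3_c53) Lrfl Lrfl
theorem f9776 : Led Lsl_et (LP (LK LD1_c0 LD2_c9 LD3_c27)) = (LP (LK LD1_c0 LD2_c20 LD3_c25)) :=
  Lre_e IH (LK LD1_c0 LD2_c9 LD3_c27) (LK LD1_c0 LD2_c20 LD3_c25) Lrfl Lrfl
theorem f19162 : Led Lsl_ft (LP (LK LD1_c0 LD2_c47 LD3_c53)) = (LP (LK LD1_c0 LD2_c46 LD3_c6)) :=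
  Lgr Lrot86 (Lpe (f18086 IH) (Lpr_ff (f18155 IH) (Lpe (f9776 IH) (Lpe (K0.f9779 IH) (Lpe (K0.f9794 IH) (Lpn (LP (LK LD1_c0 LD2_c46 LD3_c6))))))))
theorem f18081 : Led Lsl_dt (LP (LK LD1_c1 LD2_c42 LD3_c35)) = (LP (LK LD1_c0 LD2_c47 LD3_c53)) :=
  Lre_d IH (LK LD1_c1 LD2_c42 LD3_c35) (LK LD1_c0 LD2_c47 LD3_c53) Lrfl Lrfl
theorem f9823 : Led Lsl_dt (LP (LK LD1_c0 LD2_c46 LD3_c6)) = (LP (LK LD1_c1 LD2_c39 LD3_c18)) :=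
  Lre_d IH (LK LD1_c0 LD2_c46 LD3_c6) (LK LD1_c1 LD2_c39 LD3_c18) Lrfl Lrfl
theorem f19168 : Led Lsl_ff (LP (LK LD1_c1 LD2_c42 LD3_c35)) = (LP (LK LD1_c1 LD2_c39 LD3_c18)) :=
  Lgr Lrot19 (Lpr_dt (f18081 IH) (Lpr_ft (f19162 IH) (Lpr_dt (f9823 IH) (Lpn (LP (LK LD1_c1 LD2_c39 LD3_c18))))))
theorem f18111 : Led Lsl_ct (LP (LK LD1_c1 LD2_c42 LD3_c35)) = (LP (LK LD1_c3 LD2_c31 LD3_c53)) :=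
  Lre_c IH (LK LD1_c1 LD2_c42 LD3_c35) (LK LD1_c3 LD2_c31 LD3_c53) Lrfl Lrfl
theorem f19182 : Led Lsl_ft (LP (LK LD1_c3 LD2_c31 LD3_c53)) = (LP (LK LD1_c3 LD2_c25 LD3_c23)) :=
  Lgr Lrot4 (Lpe (f18111 IH) (Lpr_ff (f19168 IH) (Lpe (f9834 IH) (Lpn (LP (LK LD1_c3 LD2_c25 LD3_c23))))))
theorem f19185 : Led Lsl_at (LP (LK LD1_c1 LD2_c42 LD3_c39)) = (LP (LK LD1_c3 LD2_c31 LD3_c53)) :=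
  Lre_a IH (LK LD1_c1 LD2_c42 LD3_c39) (LK LD1_c3 LD2_c31 LD3_c53) Lrfl Lrfl
theorem f17179 : Led Lsl_at (LP (LK LD1_c3 LD2_c25 LD3_c23)) = (LP (LK LD1_c1 LD2_c40 LD3_c34)) :=
  Lre_a IH (LK LD1_c3 LD2_c25 LD3_c23) (LK LD1_c1 LD2_c40 LD3_c34) Lrfl Lrfl
theorem f19186 : Led Lsl_ff (LP (LK LD1_c1 LD2_c42 LD3_c39)) = (LP (LK LD1_c1 LD2_c40 LD3_c34)) :=
  Lgr Lrot30 (Lpr_at (f19185 IH) (Lpr_ft (f19182 IH) (Lpr_at (f17179 IH) (Lpn (LP (LK LD1_c1 LD2_c40 LD3_c34))))))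
theorem f18091 : Led Lsl_dt (LP (LK LD1_c0 LD2_c47 LD3_c53)) = (LP (LK LD1_c1 LD2_c42 LD3_c35)) :=
  Lre_d IH (LK LD1_c0 LD2_c47 LD3_c53) (LK LD1_c1 LD2_c42 LD3_c35) Lrfl Lrfl
theorem f67912 : Led Lsl_ct (LP (LK LD1_c6 LD2_c27 LD3_c29)) = (LP (LK LD1_c3 LD2_c11 LD3_c39)) :=
  Lre_c IH (LK LD1_c6 LD2_c27 LD3_c29) (LK LD1_c3 LD2_c11 LD3_c39) Lrfl Lrfl
theorem f68014 : Led Lsl_dt (LP (LK LD1_c3 LD2_c11 LD3_c39)) = (LP (LK LD1_c1 LD2_c32 LD3_c11)) :=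
  Lre_d IH (LK LD1_c3 LD2_c11 LD3_c39) (LK LD1_c1 LD2_c32 LD3_c11) Lrfl Lrfl
theorem f68151 : Led Lsl_cf (LP (LK LD1_c0 LD2_c47 LD3_c53)) = (LP (LK LD1_c1 LD2_c32 LD3_c11)) :=
  Lgr Lrot161 (Lpr_dt (f18091 IH) (Lpr_ct (f18111 IH) (Lpe (f19185 IH) (Lpr_ff (f19186 IH) (Lpr_dt (f17197 IH) (Lpr_ct (f19251 IH) (Lpr_dt (f68143 IH) (Lpr_ct (f67912 IH) (Lpr_dt (f68014 IH) (Lpn (LP (LK LD1_c1 LD2_c32 LD3_c11))))))))))))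
theorem f18080 : Led Lsl_et (LP (LK LD1_c0 LD2_c47 LD3_c53)) = (LP (LK LD1_c0 LD2_c21 LD3_c25)) :=
  Lre_e IH (LK LD1_c0 LD2_c47 LD3_c53) (LK LD1_c0 LD2_c21 LD3_c25) Lrfl Lrfl
theorem f18090 : Led Lsl_ct (LP (LK LD1_c0 LD2_c21 LD3_c25)) = (LP (LK LD1_c0 LD2_c47 LD3_c52)) :=
  Lre_c IH (LK LD1_c0 LD2_c21 LD3_c25) (LK LD1_c0 LD2_c47 LD3_c52) Lrfl Lrfl
theorem f68156 : Led Lsl_et (LP (LK LD1_c0 LD2_c47 LD3_c52)) = (LP (LK LD1_c1 LD2_c32 LD3_c11)) :=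
  Lgr Lrot158 (Lpe (f18090 IH) (Lpe (f18080 IH) (Lpr_cf (f68151 IH) (Lpn (LP (LK LD1_c1 LD2_c32 LD3_c11))))))
theorem f68164 : Led Lsl_ef (LP (LK LD1_c0 LD2_c47 LD3_c52)) = (LP (LK LD1_c1 LD2_c32 LD3_c11)) :=
  Lgr Lrot88 (Lpr_et (f68156 IH) (Lpn (LP (LK LD1_c1 LD2_c32 LD3_c11))))
theorem f66672 : Led Lsl_et (LP (LK LD1_c6 LD2_c29 LD3_c39)) = (LP (LK LD1_c3 LD2_c12 LD3_c48)) :=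
  Lre_e IH (LK LD1_c6 LD2_c29 LD3_c39) (LK LD1_c3 LD2_c12 LD3_c48) Lrfl Lrfl
theorem f19042 : Led Lsl_et (LP (LK LD1_c3 LD2_c24 LD3_c28)) = (LP (LK LD1_c6 LD2_c51 LD3_c34)) :=
  Lre_e IH (LK LD1_c3 LD2_c24 LD3_c28) (LK LD1_c6 LD2_c51 LD3_c34) Lrfl Lrfl
theorem f66673 : Led Lsl_cf (LP (LK LD1_c6 LD2_c29 LD3_c39)) = (LP (LK LD1_c6 LD2_c51 LD3_c34)) :=
  Lgr Lrot39 (Lpr_et (f66672 IH) (Lpr_ct (K1.f66665 IH) (Lpr_et (f19042 IH) (Lpn (LP (LK LD1_c6 LD2_c51 LD3_c34))))))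
theorem f66677 : Led Lsl_ct (LP (LK LD1_c6 LD2_c29 LD3_c39)) = (LP (LK LD1_c6 LD2_c51 LD3_c34)) :=
  Lgr Lrot59 (Lpr_cf (f66673 IH) (Lpn (LP (LK LD1_c6 LD2_c51 LD3_c34))))
theorem f19111 : Led Lsl_at (LP (LK LD1_c6 LD2_c51 LD3_c34)) = (LP (LK LD1_c3 LD2_c24 LD3_c44)) :=
  Lre_a IH (LK LD1_c6 LD2_c51 LD3_c34) (LK LD1_c3 LD2_c24 LD3_c44) Lrfl Lrfl
theorem f18304 : Led Lsl_ct (LP (LK LD1_c3 LD2_c24 LD3_c44)) = (LP (LK LD1_c6 LD2_c51 LD3_c56)) :=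
  Lre_c IH (LK LD1_c3 LD2_c24 LD3_c44) (LK LD1_c6 LD2_c51 LD3_c56) Lrfl Lrfl
theorem f66683 : Led Lsl_af (LP (LK LD1_c6 LD2_c29 LD3_c39)) = (LP (LK LD1_c6 LD2_c51 LD3_c56)) :=
  Lgr Lrot68 (Lpr_ct (f66677 IH) (Lpr_at (f19111 IH) (Lpr_ct (f18304 IH) (Lpn (LP (LK LD1_c6 LD2_c51 LD3_c56))))))
theorem f18260 : Led Lsl_et (LP (LK LD1_c3 LD2_c24 LD3_c43)) = (LP (LK LD1_c6 LD2_c51 LD3_c56)) :=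
  Lre_e IH (LK LD1_c3 LD2_c24 LD3_c43) (LK LD1_c6 LD2_c51 LD3_c56) Lrfl Lrfl
theorem f66690 : Led Lsl_at (LP (LK LD1_c3 LD2_c12 LD3_c48)) = (LP (LK LD1_c3 LD2_c24 LD3_c43)) :=
  Lgr Lrot80 (Lpe (f66672 IH) (Lpr_af (f66683 IH) (Lpe (f18260 IH) (Lpn (LP (LK LD1_c3 LD2_c24 LD3_c43))))))
theorem f66664 : Led Lsl_at (LP (LK LD1_c3 LD2_c12 LD3_c46)) = (LP (LK LD1_c1 LD2_c32 LD3_c52)) :=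
  Lre_a IH (LK LD1_c3 LD2_c12 LD3_c46) (LK LD1_c1 LD2_c32 LD3_c52) Lrfl Lrfl
theorem f66692 : Led Lsl_df (LP (LK LD1_c3 LD2_c12 LD3_c46)) = (LP (LK LD1_c3 LD2_c24 LD3_c43)) :=
  Lgr Lrot18 (Lpr_at (f66664 IH) (Lpr_dt (K1.f66660 IH) (Lpr_at (f66690 IH) (Lpn (LP (LK LD1_c3 LD2_c24 LD3_c43))))))
theorem f66698 : Led Lsl_dt (LP (LK LD1_c3 LD2_c12 LD3_c46)) = (LP (LK LD1_c3 LD2_c24 LD3_c43)) :=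
  Lgr Lrot42 (Lpr_df (f66692 IH) (Lpn (LP (LK LD1_c3 LD2_c24 LD3_c43))))
theorem f18252 : Led Lsl_ct (LP (LK LD1_c3 LD2_c24 LD3_c43)) = (LP (LK LD1_c1 LD2_c38 LD3_c48)) :=
  Lre_c IH (LK LD1_c3 LD2_c24 LD3_c43) (LK LD1_c1 LD2_c38 LD3_c48) Lrfl Lrfl
theorem f11053 : Led Lsl_ct (LP (LK LD1_c0 LD2_c45 LD3_c48)) = (LP (LK LD1_c0 LD2_c20 LD3_c26)) :=
  Lre_c IH (LK LD1_c0 LD2_c45 LD3_c48) (LK LD1_c0 LD2_c20 LD3_c26) Lrfl Lrfl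
theorem f15849 : Led Lsl_at (LP (LK LD1_c0 LD2_c45 LD3_c45)) = (LP (LK LD1_c0 LD2_c20 LD3_c26)) :=
  Lre_a IH (LK LD1_c0 LD2_c45 LD3_c45) (LK LD1_c0 LD2_c20 LD3_c26) Lrfl Lrfl
theorem f11408 : Led Lsl_at (LP (LK LD1_c0 LD2_c21 LD3_c16)) = (LP (LK LD1_c0 LD2_c47 LD3_c34)) :=
  Lre_a IH (LK LD1_c0 LD2_c21 LD3_c16) (LK LD1_c0 LD2_c47 LD3_c34) Lrfl Lrfl
theorem f18162 : Led Lsl_ft (LP (LK LD1_c0 LD2_c47 LD3_c34)) = (LP (LK LD1_c0 LD2_c45 LD3_c45)) :=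
  Lgr Lrot101 (Lpe (f11408 IH) (Lpr_ff (K1.f18157 IH) (Lpe (f15849 IH) (Lpn (LP (LK LD1_c0 LD2_c45 LD3_c45))))))
theorem f18064 : Led Lsl_at (LP (LK LD1_c0 LD2_c9 LD3_c41)) = (LP (LK LD1_c0 LD2_c21 LD3_c25)) :=
  Lre_a IH (LK LD1_c0 LD2_c9 LD3_c41) (LK LD1_c0 LD2_c21 LD3_c25) Lrfl Lrfl
theorem f11410 : Led Lsl_at (LP (LK LD1_c0 LD2_c47 LD3_c34)) = (LP (LK LD1_c0 LD2_c21 LD3_c16)) :=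
  Lre_a IH (LK LD1_c0 LD2_c47 LD3_c34) (LK LD1_c0 LD2_c21 LD3_c16) Lrfl Lrfl
theorem f18065 : Led Lsl_dt (LP (LK LD1_c0 LD2_c21 LD3_c25)) = (LP (LK LD1_c0 LD2_c47 LD3_c34)) :=
  Lgr Lrot44 (Lpe (f18064 IH) (Lpr_df (K1.f18060 IH) (Lpe (f11410 IH) (Lpn (LP (LK LD1_c0 LD2_c47 LD3_c34))))))
theorem f18078 : Led Lsl_df (LP (LK LD1_c0 LD2_c21 LD3_c25)) = (LP (LK LD1_c0 LD2_c47 LD3_c34)) :=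
  Lgr Lrot38 (Lpr_dt (f18065 IH) (Lpn (LP (LK LD1_c0 LD2_c47 LD3_c34))))
theorem f66739 : Led Lsl_df (LP (LK LD1_c1 LD2_c32 LD3_c51)) = (LP (LK LD1_c0 LD2_c47 LD3_c52)) :=
  Lgr Lrot106 (Lpr_ct (K1.f66704 IH) (Lpr_dt (f66698 IH) (Lpr_ct (f18252 IH) (Lpr_dt (K1.f11054 IH) (Lpr_ct (f11053 IH) (Lpe (f15849 IH) (Lpe (f18162 IH) (Lpe (f18078 IH) (Lpr_ct (f18090 IH) (Lpn (LP (LK LD1_c0 LD2_c47 LD3_c52))))))))))))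
theorem f66742 : Led Lsl_et (LP (LK LD1_c1 LD2_c32 LD3_c51)) = (LP (LK LD1_c3 LD2_c12 LD3_c47)) :=
  Lre_e IH (LK LD1_c1 LD2_c32 LD3_c51) (LK LD1_c3 LD2_c12 LD3_c47) Lrfl Lrfl
theorem f68061 : Led Lsl_et (LP (LK LD1_c6 LD2_c27 LD3_c30)) = (LP (LK LD1_c3 LD2_c11 LD3_c39)) :=
  Lre_e IH (LK LD1_c6 LD2_c27 LD3_c30) (LK LD1_c3 LD2_c11 LD3_c39) Lrfl Lrfl
theorem f68170 : Led Lsl_dt (LP (LK LD1_c3 LD2_c12 LD3_c47)) = (LP (LK LD1_c6 LD2_c27 LD3_c30)) :=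
  Lgr Lrot77 (Lpe (f66742 IH) (Lpr_df (f66739 IH) (Lpr_ef (f68164 IH) (Lpe (f68014 IH) (Lpe (f68061 IH) (Lpn (LP (LK LD1_c6 LD2_c27 LD3_c30))))))))
theorem f68062 : Led Lsl_ft (LP (LK LD1_c6 LD2_c27 LD3_c30)) = (LP (LK LD1_c12 LD2_c26 LD3_c33)) :=
  Lre_f IH (LK LD1_c6 LD2_c27 LD3_c30) (LK LD1_c12 LD2_c26 LD3_c33) Lrfl Lrfl
theorem f68178 : Led Lsl_df (LP (LK LD1_c6 LD2_c29 LD3_c38)) = (LP (LK LD1_c12 LD2_c26 LD3_c33)) :=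
  Lgr Lrot78 (Lpr_ft (K1.f66903 IH) (Lpr_dt (f68170 IH) (Lpr_ft (f68062 IH) (Lpn (LP (LK LD1_c12 LD2_c26 LD3_c33))))))
theorem f68187 : Led Lsl_dt (LP (LK LD1_c6 LD2_c29 LD3_c38)) = (LP (LK LD1_c12 LD2_c26 LD3_c33)) :=
  Lgr Lrot42 (Lpr_df (f68178 IH) (Lpn (LP (LK LD1_c12 LD2_c26 LD3_c33))))
theorem f66925 : Led Lsl_at (LP (LK LD1_c3 LD2_c12 LD3_c52)) = (LP (LK LD1_c6 LD2_c29 LD3_c38)) :=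
  Lre_a IH (LK LD1_c3 LD2_c12 LD3_c52) (LK LD1_c6 LD2_c29 LD3_c38) Lrfl Lrfl
theorem f68054 : Led Lsl_at (LP (LK LD1_c12 LD2_c26 LD3_c33)) = (LP (LK LD1_c6 LD2_c27 LD3_c43)) :=
  Lre_a IH (LK LD1_c12 LD2_c26 LD3_c33) (LK LD1_c6 LD2_c27 LD3_c43) Lrfl Lrfl
theorem f68207 : Led Lsl_df (LP (LK LD1_c3 LD2_c12 LD3_c52)) = (LP (LK LD1_c6 LD2_c27 LD3_c43)) :=
  Lgr Lrot18 (Lpr_at (f66925 IH) (Lpr_dt (f68187 IH) (Lpr_at (f68054 IH) (Lpn (LP (LK LD1_c6 LD2_c27 LD3_c43))))))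
theorem f66933 : Led Lsl_ft (LP (LK LD1_c3 LD2_c12 LD3_c52)) = (LP (LK LD1_c1 LD2_c32 LD3_c53)) :=
  Lre_f IH (LK LD1_c3 LD2_c12 LD3_c52) (LK LD1_c1 LD2_c32 LD3_c53) Lrfl Lrfl
theorem f68223 : Led Lsl_ft (LP (LK LD1_c3 LD2_c11 LD3_c43)) = (LP (LK LD1_c6 LD2_c27 LD3_c43)) :=
  Lre_f IH (LK LD1_c3 LD2_c11 LD3_c43) (LK LD1_c6 LD2_c27 LD3_c43) Lrfl Lrfl
theorem f68224 : Led Lsl_dt (LP (LK LD1_c1 LD2_c32 LD3_c53)) = (LP (LK LD1_c3 LD2_c11 LD3_c43)) :=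
  Lgr Lrot60 (Lpe (f66933 IH) (Lpr_df (f68207 IH) (Lpe (f68223 IH) (Lpn (LP (LK LD1_c3 LD2_c11 LD3_c43))))))
theorem f68230 : Led Lsl_bt (LP (LK LD1_c0 LD2_c42 LD3_c61)) = (LP (LK LD1_c1 LD2_c32 LD3_c53)) :=
  Lre_b IH (LK LD1_c0 LD2_c42 LD3_c61) (LK LD1_c1 LD2_c32 LD3_c53) Lrfl Lrfl
theorem f67435 : Led Lsl_bt (LP (LK LD1_c3 LD2_c11 LD3_c43)) = (LP (LK LD1_c1 LD2_c32 LD3_c14)) :=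
  Lre_b IH (LK LD1_c3 LD2_c11 LD3_c43) (LK LD1_c1 LD2_c32 LD3_c14) Lrfl Lrfl
theorem f68231 : Led Lsl_df (LP (LK LD1_c0 LD2_c42 LD3_c61)) = (LP (LK LD1_c1 LD2_c32 LD3_c14)) :=
  Lgr Lrot12 (Lpr_bt (f68230 IH) (Lpr_dt (f68224 IH) (Lpr_bt (f67435 IH) (Lpn (LP (LK LD1_c1 LD2_c32 LD3_c14))))))
theorem f68248 : Led Lsl_dt (LP (LK LD1_c0 LD2_c42 LD3_c61)) = (LP (LK LD1_c1 LD2_c32 LD3_c14)) :=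
  Lgr Lrot42 (Lpr_df (f68231 IH) (Lpn (LP (LK LD1_c1 LD2_c32 LD3_c14))))
theorem f66947 : Led Lsl_ft (LP (LK LD1_c1 LD2_c32 LD3_c56)) = (LP (LK LD1_c0 LD2_c42 LD3_c61)) :=
  Lre_f IH (LK LD1_c1 LD2_c32 LD3_c56) (LK LD1_c0 LD2_c42 LD3_c61) Lrfl Lrfl
theorem f68056 : Led Lsl_ft (LP (LK LD1_c1 LD2_c32 LD3_c14)) = (LP (LK LD1_c3 LD2_c11 LD3_c48)) :=
  Lre_f IH (LK LD1_c1 LD2_c32 LD3_c14) (LK LD1_c3 LD2_c11 LD3_c48) Lrfl Lrfl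
theorem f68273 : Led Lsl_df (LP (LK LD1_c1 LD2_c32 LD3_c56)) = (LP (LK LD1_c3 LD2_c11 LD3_c48)) :=
  Lgr Lrot78 (Lpr_ft (f66947 IH) (Lpr_dt (f68248 IH) (Lpr_ft (f68056 IH) (Lpn (LP (LK LD1_c3 LD2_c11 LD3_c48))))))
theorem f67155 : Led Lsl_ct (LP (LK LD1_c0 LD2_c20 LD3_c2)) = (LP (LK LD1_c0 LD2_c18 LD3_c61)) :=
  Lgr Lrot8 (Lpr_gt (K0.f9686 IH) (Lpe (K1.f20006 IH) (Lpr_gt (K1.f12725 IH) (Lpr_dt (K1.f20928 IH) (Lpe (K1.f67083 IH) (Lpe (K1.f67143 IH) (Lpr_gf (K1.f67152 IH) (Lpe (K1.f24985 IH) (Lpe (K1.f25787 IH) (Lpn (LP (LK LD1_c0 LD2_c18 LD3_c61))))))))))))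
theorem f67361 : Led Lsl_dt (LP (LK LD1_c0 LD2_c42 LD3_c42)) = (LP (LK LD1_c0 LD2_c18 LD3_c61)) :=
  Lre_d IH (LK LD1_c0 LD2_c42 LD3_c42) (LK LD1_c0 LD2_c18 LD3_c61) Lrfl Lrfl
theorem f67362 : Led Lsl_ct (LP (LK LD1_c1 LD2_c32 LD3_c18)) = (LP (LK LD1_c0 LD2_c42 LD3_c42)) :=
  Lre_c IH (LK LD1_c1 LD2_c32 LD3_c18) (LK LD1_c0 LD2_c42 LD3_c42) Lrfl Lrfl
theorem f25816 : Led Lsl_dt (LP (LK LD1_c0 LD2_c18 LD3_c60)) = (LP (LK LD1_c0 LD2_c42 LD3_c40)) :=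
  Lre_d IH (LK LD1_c0 LD2_c18 LD3_c60) (LK LD1_c0 LD2_c42 LD3_c40) Lrfl Lrfl
theorem f25819 : Led Lsl_ct (LP (LK LD1_c0 LD2_c42 LD3_c40)) = (LP (LK LD1_c1 LD2_c32 LD3_c13)) :=
  Lre_c IH (LK LD1_c0 LD2_c42 LD3_c40) (LK LD1_c1 LD2_c32 LD3_c13) Lrfl Lrfl
theorem f67401 : Led Lsl_df (LP (LK LD1_c1 LD2_c32 LD3_c18)) = (LP (LK LD1_c1 LD2_c32 LD3_c13)) :=
  Lgr Lrot106 (Lpr_ct (f67362 IH) (Lpr_dt (f67361 IH) (Lpe (K1.f67157 IH) (Lpr_dt (K0.f7302 IH) (Lpr_ct (f67155 IH) (Lpe (K1.f67353 IH) (Lpr_ff (K1.f67390 IH) (Lpr_dt (f25816 IH) (Lpr_ct (f25819 IH) (Lpn (LP (LK LD1_c1 LD2_c32 LD3_c13))))))))))))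
theorem f67359 : Led Lsl_dt (LP (LK LD1_c0 LD2_c18 LD3_c61)) = (LP (LK LD1_c0 LD2_c42 LD3_c42)) :=
  Lre_d IH (LK LD1_c0 LD2_c18 LD3_c61) (LK LD1_c0 LD2_c42 LD3_c42) Lrfl Lrfl
theorem f67360 : Led Lsl_ct (LP (LK LD1_c0 LD2_c42 LD3_c42)) = (LP (LK LD1_c1 LD2_c32 LD3_c18)) :=
  Lre_c IH (LK LD1_c0 LD2_c42 LD3_c42) (LK LD1_c1 LD2_c32 LD3_c18) Lrfl Lrfl
theorem f7319 : Led Lsl_ct (LP (LK LD1_c0 LD2_c20 LD3_c22)) = (LP (LK LD1_c0 LD2_c9 LD3_c11)) :=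
  Lre_c IH (LK LD1_c0 LD2_c20 LD3_c22) (LK LD1_c0 LD2_c9 LD3_c11) Lrfl Lrfl
theorem f67395 : Led Lsl_ct (LP (LK LD1_c0 LD2_c20 LD3_c3)) = (LP (LK LD1_c0 LD2_c18 LD3_c60)) :=
  Lgr Lrot40 (Lpe (K0.f7324 IH) (Lpe (f7319 IH) (Lpr_ff (K1.f67390 IH) (Lpn (LP (LK LD1_c0 LD2_c18 LD3_c60))))))
theorem f67384 : Led Lsl_cf (LP (LK LD1_c0 LD2_c20 LD3_c3)) = (LP (LK LD1_c0 LD2_c18 LD3_c60)) :=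
  Lgr Lrot1 (Lpe (K0.f9677 IH) (Lpe (K1.f25057 IH) (Lpr_at (K1.f67376 IH) (Lpn (LP (LK LD1_c0 LD2_c18 LD3_c60))))))
theorem f25842 : Led Lsl_dt (LP (LK LD1_c0 LD2_c42 LD3_c40)) = (LP (LK LD1_c0 LD2_c18 LD3_c60)) :=
  Lre_d IH (LK LD1_c0 LD2_c42 LD3_c40) (LK LD1_c0 LD2_c18 LD3_c60) Lrfl Lrfl
theorem f25817 : Led Lsl_ct (LP (LK LD1_c1 LD2_c32 LD3_c13)) = (LP (LK LD1_c0 LD2_c42 LD3_c40)) :=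
  Lre_c IH (LK LD1_c1 LD2_c32 LD3_c13) (LK LD1_c0 LD2_c42 LD3_c40) Lrfl Lrfl
theorem f67407 : Led Lsl_dt (LP (LK LD1_c1 LD2_c32 LD3_c18)) = (LP (LK LD1_c1 LD2_c32 LD3_c13)) :=
  Lgr Lrot173 (Lpe (f67360 IH) (Lpe (f67359 IH) (Lpe (f67155 IH) (Lpe (K0.f7302 IH) (Lpr_cf (K1.f67157 IH) (Lpe (f67361 IH) (Lpe (f67362 IH) (Lpr_df (f67401 IH) (Lpe (f25819 IH) (Lpe (f25816 IH) (Lpe (f67395 IH) (Lpe (K0.f7326 IH) (Lpr_cf (f67384 IH) (Lpe (f25842 IH) (Lpe (f25817 IH) (Lpn (LP (LK LD1_c1 LD2_c32 LD3_c13))))))))))))))))))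
theorem f67368 : Led Lsl_ff (LP (LK LD1_c0 LD2_c41 LD3_c21)) = (LP (LK LD1_c0 LD2_c42 LD3_c42)) :=
  Lgr Lrot19 (Lpr_dt (K1.f25059 IH) (Lpr_ft (K1.f67363 IH) (Lpr_dt (f67359 IH) (Lpn (LP (LK LD1_c0 LD2_c42 LD3_c42))))))
theorem f67419 : Led Lsl_at (LP (LK LD1_c0 LD2_c41 LD3_c21)) = (LP (LK LD1_c0 LD2_c42 LD3_c40)) :=
  Lgr Lrot33 (Lpr_ff (f67368 IH) (Lpr_dt (f67361 IH) (Lpe (K1.f67157 IH) (Lpr_dt (K0.f7302 IH) (Lpr_ct (f67155 IH) (Lpr_dt (f67359 IH) (Lpr_ct (f67360 IH) (Lpr_dt (f67407 IH) (Lpr_ct (f25817 IH) (Lpn (LP (LK LD1_c0 LD2_c42 LD3_c40))))))))))))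
theorem f67109 : Led Lsl_et (LP (LK LD1_c1 LD2_c29 LD3_c28)) = (LP (LK LD1_c0 LD2_c41 LD3_c21)) :=
  Lre_e IH (LK LD1_c1 LD2_c29 LD3_c28) (LK LD1_c0 LD2_c41 LD3_c21) Lrfl Lrfl
theorem f25843 : Led Lsl_et (LP (LK LD1_c0 LD2_c42 LD3_c40)) = (LP (LK LD1_c1 LD2_c32 LD3_c14)) :=
  Lre_e IH (LK LD1_c0 LD2_c42 LD3_c40) (LK LD1_c1 LD2_c32 LD3_c14) Lrfl Lrfl
theorem f67429 : Led Lsl_af (LP (LK LD1_c1 LD2_c29 LD3_c28)) = (LP (LK LD1_c1 LD2_c32 LD3_c14)) :=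
  Lgr Lrot50 (Lpr_et (f67109 IH) (Lpr_at (f67419 IH) (Lpr_et (f25843 IH) (Lpn (LP (LK LD1_c1 LD2_c32 LD3_c14))))))
theorem f67442 : Led Lsl_ft (LP (LK LD1_c1 LD2_c29 LD3_c28)) = (LP (LK LD1_c3 LD2_c6 LD3_c47)) :=
  Lre_f IH (LK LD1_c1 LD2_c29 LD3_c28) (LK LD1_c3 LD2_c6 LD3_c47) Lrfl Lrfl
theorem f67443 : Led Lsl_ft (LP (LK LD1_c3 LD2_c11 LD3_c48)) = (LP (LK LD1_c1 LD2_c32 LD3_c14)) :=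
  Lre_f IH (LK LD1_c3 LD2_c11 LD3_c48) (LK LD1_c1 LD2_c32 LD3_c14) Lrfl Lrfl
theorem f67444 : Led Lsl_at (LP (LK LD1_c3 LD2_c6 LD3_c47)) = (LP (LK LD1_c3 LD2_c11 LD3_c48)) :=
  Lgr Lrot66 (Lpe (f67442 IH) (Lpr_af (f67429 IH) (Lpe (f67443 IH) (Lpn (LP (LK LD1_c3 LD2_c11 LD3_c48))))))
theorem f67464 : Led Lsl_dt (LP (LK LD1_c1 LD2_c29 LD3_c29)) = (LP (LK LD1_c3 LD2_c6 LD3_c47)) :=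
  Lre_d IH (LK LD1_c1 LD2_c29 LD3_c29) (LK LD1_c3 LD2_c6 LD3_c47) Lrfl Lrfl
theorem f68276 : Led Lsl_at (LP (LK LD1_c1 LD2_c32 LD3_c56)) = (LP (LK LD1_c1 LD2_c29 LD3_c29)) :=
  Lgr Lrot51 (Lpr_df (f68273 IH) (Lpe (f67444 IH) (Lpe (f67464 IH) (Lpn (LP (LK LD1_c1 LD2_c29 LD3_c29))))))
theorem f66914 : Led Lsl_bt (LP (LK LD1_c3 LD2_c6 LD3_c58)) = (LP (LK LD1_c1 LD2_c29 LD3_c39)) :=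
  Lre_b IH (LK LD1_c3 LD2_c6 LD3_c58) (LK LD1_c1 LD2_c29 LD3_c39) Lrfl Lrfl
theorem f66915 : Led Lsl_bt (LP (LK LD1_c1 LD2_c32 LD3_c56)) = (LP (LK LD1_c3 LD2_c12 LD3_c52)) :=
  Lre_b IH (LK LD1_c1 LD2_c32 LD3_c56) (LK LD1_c3 LD2_c12 LD3_c52) Lrfl Lrfl
theorem f66916 : Led Lsl_et (LP (LK LD1_c1 LD2_c29 LD3_c39)) = (LP (LK LD1_c1 LD2_c32 LD3_c56)) :=
  Lgr Lrot74 (Lpe (f66914 IH) (Lpr_ef (K1.f66908 IH) (Lpe (f66915 IH) (Lpn (LP (LK LD1_c1 LD2_c32 LD3_c56))))))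
theorem f61016 : Led Lsl_et (LP (LK LD1_c0 LD2_c19 LD3_c7)) = (LP (LK LD1_c0 LD2_c42 LD3_c59)) :=
  Lre_e IH (LK LD1_c0 LD2_c19 LD3_c7) (LK LD1_c0 LD2_c42 LD3_c59) Lrfl Lrfl
theorem f66957 : Led Lsl_af (LP (LK LD1_c0 LD2_c41 LD3_c26)) = (LP (LK LD1_c0 LD2_c42 LD3_c59)) :=
  Lgr Lrot50 (Lpr_et (K1.f66937 IH) (Lpr_at (K1.f66948 IH) (Lpr_et (f61016 IH) (Lpn (LP (LK LD1_c0 LD2_c42 LD3_c59))))))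
theorem f66946 : Led Lsl_ft (LP (LK LD1_c0 LD2_c41 LD3_c26)) = (LP (LK LD1_c1 LD2_c29 LD3_c39)) :=
  Lre_f IH (LK LD1_c0 LD2_c41 LD3_c26) (LK LD1_c1 LD2_c29 LD3_c39) Lrfl Lrfl
theorem f61490 : Led Lsl_ft (LP (LK LD1_c1 LD2_c32 LD3_c50)) = (LP (LK LD1_c0 LD2_c42 LD3_c59)) :=
  Lre_f IH (LK LD1_c1 LD2_c32 LD3_c50) (LK LD1_c0 LD2_c42 LD3_c59) Lrfl Lrfl
theorem f66966 : Led Lsl_at (LP (LK LD1_c1 LD2_c29 LD3_c39)) = (LP (LK LD1_c1 LD2_c32 LD3_c50)) :=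
  Lgr Lrot66 (Lpe (f66946 IH) (Lpr_af (f66957 IH) (Lpe (f61490 IH) (Lpn (LP (LK LD1_c1 LD2_c32 LD3_c50))))))
theorem f66971 : Led Lsl_af (LP (LK LD1_c1 LD2_c29 LD3_c39)) = (LP (LK LD1_c1 LD2_c32 LD3_c50)) :=
  Lgr Lrot0 (Lpr_at (f66966 IH) (Lpn (LP (LK LD1_c1 LD2_c32 LD3_c50))))
theorem f68284 : Led Lsl_ef (LP (LK LD1_c1 LD2_c32 LD3_c50)) = (LP (LK LD1_c1 LD2_c29 LD3_c29)) :=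
  Lgr Lrot20 (Lpe (f66971 IH) (Lpr_et (f66916 IH) (Lpr_at (f68276 IH) (Lpn (LP (LK LD1_c1 LD2_c29 LD3_c29))))))
theorem f61006 : Led Lsl_et (LP (LK LD1_c0 LD2_c42 LD3_c59)) = (LP (LK LD1_c0 LD2_c19 LD3_c7)) :=
  Lre_e IH (LK LD1_c0 LD2_c42 LD3_c59) (LK LD1_c0 LD2_c19 LD3_c7) Lrfl Lrfl
theorem f68295 : Led Lsl_ft (LP (LK LD1_c0 LD2_c41 LD3_c20)) = (LP (LK LD1_c1 LD2_c29 LD3_c29)) :=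
  Lre_f IH (LK LD1_c0 LD2_c41 LD3_c20) (LK LD1_c1 LD2_c29 LD3_c29) Lrfl Lrfl
theorem f61679 : Led Lsl_et (LP (LK LD1_c0 LD2_c18 LD3_c29)) = (LP (LK LD1_c0 LD2_c41 LD3_c20)) :=
  Lre_e IH (LK LD1_c0 LD2_c18 LD3_c29) (LK LD1_c0 LD2_c41 LD3_c20) Lrfl Lrfl
theorem f68296 : Led Lsl_ft (LP (LK LD1_c0 LD2_c19 LD3_c7)) = (LP (LK LD1_c0 LD2_c18 LD3_c29)) :=
  Lgr Lrot86 (Lpe (f61006 IH) (Lpe (f61490 IH) (Lpr_ef (f68284 IH) (Lpe (f68295 IH) (Lpe (f61679 IH) (Lpn (LP (LK LD1_c0 LD2_c18 LD3_c29))))))))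
theorem f68304 : Led Lsl_ff (LP (LK LD1_c0 LD2_c19 LD3_c7)) = (LP (LK LD1_c0 LD2_c18 LD3_c29)) :=
  Lgr Lrot3 (Lpr_ft (f68296 IH) (Lpn (LP (LK LD1_c0 LD2_c18 LD3_c29))))
theorem f66950 : Led Lsl_af (LP (LK LD1_c0 LD2_c18 LD3_c32)) = (LP (LK LD1_c0 LD2_c19 LD3_c7)) :=
  Lgr Lrot0 (Lpr_at (K1.f66948 IH) (Lpn (LP (LK LD1_c0 LD2_c19 LD3_c7))))
theorem f26584 : Led Lsl_cf (LP (LK LD1_c0 LD2_c7 LD3_c50)) = (LP (LK LD1_c0 LD2_c8 LD3_c60)) :=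
  Lgr Lrot166 (Lpr_gt (K0.f8191 IH) (Lpr_dt (K0.f8141 IH) (Lpr_gt (K0.f26568 IH) (Lpr_dt (K0.f12615 IH) (Lpr_ct (K0.f12614 IH) (Lpe (K0.f7321 IH) (Lpe (K0.f20866 IH) (Lpr_df (K0.f3845 IH) (Lpr_gf (K0.f9644 IH) (Lpn (LP (LK LD1_c0 LD2_c8 LD3_c60))))))))))))
theorem f60893 : Led Lsl_dt (LP (LK LD1_c0 LD2_c7 LD3_c50)) = (LP (LK LD1_c0 LD2_c8 LD3_c14)) :=
  Lgr Lrot44 (Lpe (K0.f26726 IH) (Lpr_df (K1.f36284 IH) (Lpr_af (K1.f60887 IH) (Lpn (LP (LK LD1_c0 LD2_c8 LD3_c14))))))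
theorem f8312 : Led Lsl_gt (LP (LK LD1_c0 LD2_c37 LD3_c59)) = (LP (LK LD1_c0 LD2_c16 LD3_c58)) :=
  Lre_g IH (LK LD1_c0 LD2_c37 LD3_c59) (LK LD1_c0 LD2_c16 LD3_c58) Lrfl Lrfl
theorem f59647 : Led Lsl_df (LP (LK LD1_c0 LD2_c37 LD3_c59)) = (LP (LK LD1_c0 LD2_c18 LD3_c18)) :=
  Lgr Lrot155 (Lpr_gt (f8312 IH) (Lpr_ct (K0.f24020 IH) (Lpr_gt (K1.f58776 IH) (Lpr_ct (K1.f20077 IH) (Lpr_dt (K0.f22444 IH) (Lpe (K0.f21206 IH) (Lpe (K0.f20186 IH) (Lpe (K1.f20206 IH) (Lpr_gf (K1.f59640 IH) (Lpn (LP (LK LD1_c0 LD2_c18 LD3_c18))))))))))))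
theorem f68316 : Led Lsl_cf (LP (LK LD1_c0 LD2_c18 LD3_c32)) = (LP (LK LD1_c0 LD2_c37 LD3_c59)) :=
  Lgr Lrot102 (Lpr_af (f66950 IH) (Lpr_ff (f68304 IH) (Lpr_dt (K1.f25052 IH) (Lpr_ct (K1.f25046 IH) (Lpr_dt (K0.f9651 IH) (Lpe (f26584 IH) (Lpr_dt (f60893 IH) (Lpr_ct (K1.f23013 IH) (Lpe (f59647 IH) (Lpn (LP (LK LD1_c0 LD2_c37 LD3_c59))))))))))))
theorem f21213 : Led Lsl_dt (LP (LK LD1_c0 LD2_c29 LD3_c13)) = (LP (LK LD1_c0 LD2_c12 LD3_c54)) :=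
  Lre_d IH (LK LD1_c0 LD2_c29 LD3_c13) (LK LD1_c0 LD2_c12 LD3_c54) Lrfl Lrfl
theorem f68328 : Led Lsl_gt (LP (LK LD1_c0 LD2_c12 LD3_c54)) = (LP (LK LD1_c0 LD2_c18 LD3_c18)) :=
  Lgr Lrot49 (Lpe (f21213 IH) (Lpr_gf (K1.f58850 IH) (Lpr_cf (K1.f58852 IH) (Lpe (K1.f58929 IH) (Lpr_dt (K1.f58928 IH) (Lpe (K1.f67039 IH) (Lpr_dt (K1.f25180 IH) (Lpr_cf (f68316 IH) (Lpr_df (f59647 IH) (Lpn (LP (LK LD1_c0 LD2_c18 LD3_c18))))))))))))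
theorem f59644 : Led Lsl_ct (LP (LK LD1_c0 LD2_c18 LD3_c18)) = (LP (LK LD1_c0 LD2_c8 LD3_c14)) :=
  Lre_c IH (LK LD1_c0 LD2_c18 LD3_c18) (LK LD1_c0 LD2_c8 LD3_c14) Lrfl Lrfl
theorem f59357 : Led Lsl_bt (LP (LK LD1_c0 LD2_c18 LD3_c17)) = (LP (LK LD1_c0 LD2_c8 LD3_c14)) :=
  Lre_b IH (LK LD1_c0 LD2_c18 LD3_c17) (LK LD1_c0 LD2_c8 LD3_c14) Lrfl Lrfl
theorem f59719 : Led Lsl_bt (LP (LK LD1_c0 LD2_c8 LD3_c27)) = (LP (LK LD1_c0 LD2_c3 LD3_c52)) :=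
  Lre_b IH (LK LD1_c0 LD2_c8 LD3_c27) (LK LD1_c0 LD2_c3 LD3_c52) Lrfl Lrfl
theorem f59720 : Led Lsl_gt (LP (LK LD1_c0 LD2_c8 LD3_c14)) = (LP (LK LD1_c0 LD2_c3 LD3_c52)) :=
  Lgr Lrot164 (Lpe (f59357 IH) (Lpr_ct (K1.f59679 IH) (Lpe (K1.f37190 IH) (Lpe (K1.f36605 IH) (Lpe (K1.f36612 IH) (Lpr_bf (K1.f59691 IH) (Lpr_ct (K1.f59180 IH) (Lpr_gf (K1.f59701 IH) (Lpe (K1.f36308 IH) (Lpr_bt (f59719 IH) (Lpn (LP (LK LD1_c0 LD2_c3 LD3_c52)))))))))))))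
theorem f7150 : Led Lsl_ct (LP (LK LD1_c0 LD2_c8 LD3_c28)) = (LP (LK LD1_c0 LD2_c3 LD3_c52)) :=
  Lre_c IH (LK LD1_c0 LD2_c8 LD3_c28) (LK LD1_c0 LD2_c3 LD3_c52) Lrfl Lrfl
theorem f61867 : Led Lsl_df (LP (LK LD1_c0 LD2_c8 LD3_c28)) = (LP (LK LD1_c0 LD2_c17 LD3_c17)) :=
  Lgr Lrot43 (Lpr_ct (f7150 IH) (Lpr_dt (K1.f7149 IH) (Lpr_ct (K1.f7125 IH) (Lpr_dt (K0.f7122 IH) (Lpr_ct (K1.f7123 IH) (Lpr_dt (K1.f7124 IH) (Lpe (K1.f58931 IH) (Lpe (K1.f37931 IH) (Lpr_ct (K1.f7121 IH) (Lpr_dt (K1.f7120 IH) (Lpr_ct (K1.f7117 IH) (Lpr_dt (K0.f3969 IH) (Lpr_ct (K0.f7147 IH) (Lpr_dt (K1.f7148 IH) (Lpr_ct (K1.f61823 IH) (Lpn (LP (LK LD1_c0 LD2_c17 LD3_c17))))))))))))))))))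
theorem f36272 : Led Lsl_ct (LP (LK LD1_c0 LD2_c20 LD3_c19)) = (LP (LK LD1_c0 LD2_c9 LD3_c9)) :=
  Lre_c IH (LK LD1_c0 LD2_c20 LD3_c19) (LK LD1_c0 LD2_c9 LD3_c9) Lrfl Lrfl
theorem f68533 : Led Lsl_gt (LP (LK LD1_c0 LD2_c29 LD3_c13)) = (LP (LK LD1_c0 LD2_c20 LD3_c19)) :=
  Lgr Lrot9 (Lpe (K1.f20045 IH) (Lpr_gt (f68328 IH) (Lpr_ct (f59644 IH) (Lpr_gt (f59720 IH) (Lpr_ct (K1.f56566 IH) (Lpr_df (f61867 IH) (Lpe (K1.f61823 IH) (Lpr_gf (K1.f61818 IH) (Lpe (f36272 IH) (Lpn (LP (LK LD1_c0 LD2_c20 LD3_c19))))))))))))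
theorem f20602 : Led Lsl_dt (LP (LK LD1_c0 LD2_c17 LD3_c50)) = (LP (LK LD1_c0 LD2_c7 LD3_c61)) :=
  Lre_d IH (LK LD1_c0 LD2_c17 LD3_c50) (LK LD1_c0 LD2_c7 LD3_c61) Lrfl Lrfl
theorem f20194 : Led Lsl_ct (LP (LK LD1_c0 LD2_c5 LD3_c57)) = (LP (LK LD1_c0 LD2_c2 LD3_c40)) :=
  Lre_c IH (LK LD1_c0 LD2_c5 LD3_c57) (LK LD1_c0 LD2_c2 LD3_c40) Lrfl Lrfl
theorem f20604 : Led Lsl_gf (LP (LK LD1_c0 LD2_c17 LD3_c50)) = (LP (LK LD1_c0 LD2_c29 LD3_c34)) :=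
  Lgr Lrot143 (Lpr_dt (f20602 IH) (Lpe (K0.f20551 IH) (Lpe (K0.f7102 IH) (Lpr_gf (K0.f20598 IH) (Lpe (K0.f20251 IH) (Lpe (K0.f6857 IH) (Lpe (f20194 IH) (Lpr_gt (K0.f20307 IH) (Lpr_dt (K0.f20603 IH) (Lpn (LP (LK LD1_c0 LD2_c29 LD3_c34))))))))))))
theorem f21207 : Led Lsl_ct (LP (LK LD1_c0 LD2_c7 LD3_c41)) = (LP (LK LD1_c0 LD2_c3 LD3_c27)) :=
  Lre_c IH (LK LD1_c0 LD2_c7 LD3_c41) (LK LD1_c0 LD2_c3 LD3_c27) Lrfl Lrfl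
theorem f20253 : Led Lsl_ct (LP (LK LD1_c0 LD2_c5 LD3_c56)) = (LP (LK LD1_c0 LD2_c12 LD3_c60)) :=
  Lre_c IH (LK LD1_c0 LD2_c5 LD3_c56) (LK LD1_c0 LD2_c12 LD3_c60) Lrfl Lrfl
theorem f20306 : Led Lsl_dt (LP (LK LD1_c0 LD2_c29 LD3_c28)) = (LP (LK LD1_c0 LD2_c12 LD3_c60)) :=
  Lre_d IH (LK LD1_c0 LD2_c29 LD3_c28) (LK LD1_c0 LD2_c12 LD3_c60) Lrfl Lrfl
theorem f25182 : Led Lsl_ct (LP (LK LD1_c0 LD2_c13 LD3_c43)) = (LP (LK LD1_c0 LD2_c29 LD3_c28)) :=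
  Lgr Lrot110 (Lpe (K0.f25176 IH) (Lpr_cf (K0.f25156 IH) (Lpr_gf (f20604 IH) (Lpe (K0.f20603 IH) (Lpr_gt (K0.f25181 IH) (Lpr_ct (f21207 IH) (Lpr_gt (K0.f9400 IH) (Lpr_ct (f20253 IH) (Lpe (f20306 IH) (Lpn (LP (LK LD1_c0 LD2_c29 LD3_c28))))))))))))
theorem f25185 : Led Lsl_dt (LP (LK LD1_c0 LD2_c12 LD3_c60)) = (LP (LK LD1_c0 LD2_c29 LD3_c28)) :=
  Lre_d IH (LK LD1_c0 LD2_c12 LD3_c60) (LK LD1_c0 LD2_c29 LD3_c28) Lrfl Lrfl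
theorem f58969 : Led Lsl_dt (LP (LK LD1_c0 LD2_c8 LD3_c10)) = (LP (LK LD1_c0 LD2_c3 LD3_c45)) :=
  Lre_d IH (LK LD1_c0 LD2_c8 LD3_c10) (LK LD1_c0 LD2_c3 LD3_c45) Lrfl Lrfl
theorem f59634 : Led Lsl_dt (LP (LK LD1_c0 LD2_c20 LD3_c19)) = (LP (LK LD1_c0 LD2_c18 LD3_c9)) :=
  Lgr Lrot173 (Lpe (K1.f13539 IH) (Lpe (K1.f13538 IH) (Lpe (K0.f7381 IH) (Lpe (K0.f1633 IH) (Lpe (K0.f9693 IH) (Lpe (K0.f13434 IH) (Lpe (K1.f8332 IH) (Lpe (K1.f8333 IH) (Lpr_cf (K1.f58852 IH) (Lpe (K1.f58912 IH) (Lpe (K0.f13450 IH) (Lpe (K0.f7298 IH) (Lpr_cf (K1.f59630 IH) (Lpe (f58969 IH) (Lpe (K1.f58956 IH) (Lpn (LP (LK LD1_c0 LD2_c18 LD3_c9))))))))))))))))))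
theorem f69264 : Led Lsl_gf (LP (LK LD1_c0 LD2_c12 LD3_c60)) = (LP (LK LD1_c0 LD2_c18 LD3_c9)) :=
  Lgr Lrot143 (Lpr_dt (f25185 IH) (Lpe (f25182 IH) (Lpe (K0.f25197 IH) (Lpe (K0.f13620 IH) (Lpe (K1.f13615 IH) (Lpe (K0.f13616 IH) (Lpe (K1.f58778 IH) (Lpr_gt (f68533 IH) (Lpr_dt (f59634 IH) (Lpn (LP (LK LD1_c0 LD2_c18 LD3_c9))))))))))))
theorem f7367 : Led Lsl_ct (LP (LK LD1_c0 LD2_c0 LD3_c44)) = (LP (LK LD1_c0 LD2_c1 LD3_c17)) :=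
  Lre_c IH (LK LD1_c0 LD2_c0 LD3_c44) (LK LD1_c0 LD2_c1 LD3_c17) Lrfl Lrfl
theorem f20254 : Led Lsl_gt (LP (LK LD1_c0 LD2_c12 LD3_c60)) = (LP (LK LD1_c0 LD2_c6 LD3_c47)) :=
  Lgr Lrot150 (Lpe (f20253 IH) (Lpe (K0.f9400 IH) (Lpe (K0.f9367 IH) (Lpr_gt (K0.f6733 IH) (Lpr_ct (K0.f20192 IH) (Lpr_gt (K0.f5885 IH) (Lpr_ct (f7367 IH) (Lpe (K0.f13434 IH) (Lpe (K1.f8332 IH) (Lpn (LP (LK LD1_c0 LD2_c6 LD3_c47))))))))))))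
theorem f20286 : Led Lsl_bf (LP (LK LD1_c0 LD2_c5 LD3_c56)) = (LP (LK LD1_c0 LD2_c5 LD3_c56)) :=
  Lgr Lrot34 (Lpe (K0.f9400 IH) (Lpe (K0.f20283 IH) (Lpr_ct (K0.f20282 IH) (Lpr_gf (K0.f20271 IH) (Lpe (K0.f8307 IH) (Lpe (K0.f2925 IH) (Lpe (K1.f8331 IH) (Lpr_ct (K1.f8346 IH) (Lpe (f20254 IH) (Lpe (f20253 IH) (Lpn (LP (LK LD1_c0 LD2_c5 LD3_c56)))))))))))))
theorem f20309 : Led Lsl_gt (LP (LK LD1_c0 LD2_c12 LD3_c32)) = (LP (LK LD1_c0 LD2_c28 LD3_c21)) :=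
  Lre_g IH (LK LD1_c0 LD2_c12 LD3_c32) (LK LD1_c0 LD2_c28 LD3_c21) Lrfl Lrfl
theorem f59527 : Led Lsl_gt (LP (LK LD1_c0 LD2_c6 LD3_c45)) = (LP (LK LD1_c0 LD2_c8 LD3_c10)) :=
  Lgr Lrot5 (Lpr_ft (K1.f37741 IH) (Lpe (K1.f37705 IH) (Lpr_gf (K1.f59515 IH) (Lpn (LP (LK LD1_c0 LD2_c8 LD3_c10))))))
theorem f37743 : Led Lsl_bt (LP (LK LD1_c0 LD2_c14 LD3_c43)) = (LP (LK LD1_c0 LD2_c6 LD3_c45)) :=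
  Lre_b IH (LK LD1_c0 LD2_c14 LD3_c43) (LK LD1_c0 LD2_c6 LD3_c45) Lrfl Lrfl
theorem f69327 : Led Lsl_cf (LP (LK LD1_c0 LD2_c28 LD3_c21)) = (LP (LK LD1_c0 LD2_c14 LD3_c43)) :=
  Lgr Lrot58 (Lpe (f20309 IH) (Lpe (K0.f16622 IH) (Lpr_bt (K1.f20308 IH) (Lpe (K0.f6844 IH) (Lpr_bf (f20286 IH) (Lpr_ct (f20253 IH) (Lpr_gf (f69264 IH) (Lpe (K1.f36619 IH) (Lpe (f59527 IH) (Lpe (f37743 IH) (Lpn (LP (LK LD1_c0 LD2_c14 LD3_c43)))))))))))))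
theorem f59517 : Led Lsl_bt (LP (LK LD1_c0 LD2_c18 LD3_c8)) = (LP (LK LD1_c0 LD2_c8 LD3_c10)) :=
  Lre_b IH (LK LD1_c0 LD2_c18 LD3_c8) (LK LD1_c0 LD2_c8 LD3_c10) Lrfl Lrfl
theorem f59535 : Led Lsl_ct (LP (LK LD1_c0 LD2_c18 LD3_c8)) = (LP (LK LD1_c0 LD2_c40 LD3_c30)) :=
  Lre_c IH (LK LD1_c0 LD2_c18 LD3_c8) (LK LD1_c0 LD2_c40 LD3_c30) Lrfl Lrfl
theorem f69355 : Led Lsl_gf (LP (LK LD1_c0 LD2_c28 LD3_c22)) = (LP (LK LD1_c0 LD2_c40 LD3_c30)) :=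
  Lgr Lrot126 (Lpr_cf (K1.f37987 IH) (Lpr_bt (K1.f35627 IH) (Lpr_gt (K0.f16637 IH) (Lpr_ct (K0.f16622 IH) (Lpr_gt (f20309 IH) (Lpr_cf (f69327 IH) (Lpr_bt (f37743 IH) (Lpr_gt (f59527 IH) (Lpe (f59517 IH) (Lpr_ct (f59535 IH) (Lpn (LP (LK LD1_c0 LD2_c40 LD3_c30)))))))))))))
theorem f69359 : Led Lsl_gt (LP (LK LD1_c1 LD2_c2 LD3_c9)) = (LP (LK LD1_c1 LD2_c20 LD3_c35)) :=
  Lgr Lrot49 (Lpe (K1.f37996 IH) (Lpr_gf (f69355 IH) (Lpe (f59535 IH) (Lpe (K1.f59570 IH) (Lpr_dt (K1.f35444 IH) (Lpr_gt (K0.f35435 IH) (Lpr_dt (K1.f59587 IH) (Lpe (K1.f56594 IH) (Lpe (K1.f56593 IH) (Lpn (LP (LK LD1_c1 LD2_c20 LD3_c35))))))))))))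
theorem f60397 : Led Lsl_at (LP (LK LD1_c1 LD2_c28 LD3_c4)) = (LP (LK LD1_c1 LD2_c20 LD3_c35)) :=
  Lgr Lrot100 (Lpr_af (K1.f60391 IH) (Lpn (LP (LK LD1_c1 LD2_c20 LD3_c35))))
theorem f69486 : Led Lsl_gf (LP (LK LD1_c1 LD2_c2 LD3_c9)) = (LP (LK LD1_c1 LD2_c31 LD3_c3)) :=
  Lgr Lrot47 (Lpr_gt (f69359 IH) (Lpe (f60397 IH) (Lpr_ff (K1.f56435 IH) (Lpn (LP (LK LD1_c1 LD2_c31 LD3_c3))))))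
theorem f38007 : Led Lsl_dt (LP (LK LD1_c1 LD2_c2 LD3_c9)) = (LP (LK LD1_c0 LD2_c28 LD3_c22)) :=
  Lre_d IH (LK LD1_c1 LD2_c2 LD3_c9) (LK LD1_c0 LD2_c28 LD3_c22) Lrfl Lrfl
theorem f37994 : Led Lsl_ct (LP (LK LD1_c0 LD2_c28 LD3_c22)) = (LP (LK LD1_c0 LD2_c25 LD3_c6)) :=
  Lgr Lrot59 (Lpr_cf (K1.f37987 IH) (Lpn (LP (LK LD1_c0 LD2_c25 LD3_c6))))
theorem f27023 : Led Lsl_gt (LP (LK LD1_c0 LD2_c13 LD3_c30)) = (LP (LK LD1_c0 LD2_c30 LD3_c21)) :=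
  Lre_g IH (LK LD1_c0 LD2_c13 LD3_c30) (LK LD1_c0 LD2_c30 LD3_c21) Lrfl Lrfl
theorem f69506 : Led Lsl_df (LP (LK LD1_c0 LD2_c17 LD3_c22)) = (LP (LK LD1_c0 LD2_c30 LD3_c21)) :=
  Lgr Lrot153 (Lpe (K1.f34692 IH) (Lpe (K1.f34710 IH) (Lpe (f37994 IH) (Lpe (f38007 IH) (Lpr_gf (f69486 IH) (Lpe (K1.f36397 IH) (Lpe (K1.f59168 IH) (Lpe (K1.f37968 IH) (Lpr_gt (f27023 IH) (Lpn (LP (LK LD1_c0 LD2_c30 LD3_c21))))))))))))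
theorem f69674 : Led Lsl_ft (LP (LK LD1_c0 LD2_c18 LD3_c13)) = (LP (LK LD1_c0 LD2_c30 LD3_c21)) :=
  Lgr Lrot54 (Lpe (K1.f37186 IH) (Lpe (K0.f35370 IH) (Lpr_df (f69506 IH) (Lpn (LP (LK LD1_c0 LD2_c30 LD3_c21))))))
theorem f69692 : Led Lsl_ff (LP (LK LD1_c0 LD2_c18 LD3_c13)) = (LP (LK LD1_c0 LD2_c30 LD3_c21)) :=
  Lgr Lrot3 (Lpr_ft (f69674 IH) (Lpn (LP (LK LD1_c0 LD2_c30 LD3_c21))))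
theorem f37178 : Led Lsl_ft (LP (LK LD1_c0 LD2_c40 LD3_c42)) = (LP (LK LD1_c1 LD2_c28 LD3_c0)) :=
  Lre_f IH (LK LD1_c0 LD2_c40 LD3_c42) (LK LD1_c1 LD2_c28 LD3_c0) Lrfl Lrfl
theorem f69672 : Led Lsl_et (LP (LK LD1_c0 LD2_c25 LD3_c17)) = (LP (LK LD1_c0 LD2_c30 LD3_c21)) :=
  Lgr Lrot71 (Lpe (K0.f27939 IH) (Lpe (K0.f33105 IH) (Lpe (K0.f33112 IH) (Lpe (K0.f8206 IH) (Lpr_df (f69506 IH) (Lpn (LP (LK LD1_c0 LD2_c30 LD3_c21))))))))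
theorem f69696 : Led Lsl_et (LP (LK LD1_c1 LD2_c28 LD3_c0)) = (LP (LK LD1_c0 LD2_c55 LD3_c45)) :=
  Lgr Lrot69 (Lpe (f37178 IH) (Lpe (K1.f37166 IH) (Lpr_ff (f69692 IH) (Lpe (f69672 IH) (Lpe (K0.f34038 IH) (Lpn (LP (LK LD1_c0 LD2_c55 LD3_c45))))))))
theorem f37172 : Led Lsl_ft (LP (LK LD1_c1 LD2_c28 LD3_c0)) = (LP (LK LD1_c0 LD2_c40 LD3_c42)) :=
  Lre_f IH (LK LD1_c1 LD2_c28 LD3_c0) (LK LD1_c0 LD2_c40 LD3_c42) Lrfl Lrfl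
theorem f37237 : Led Lsl_df (LP (LK LD1_c1 LD2_c28 LD3_c0)) = (LP (LK LD1_c1 LD2_c28 LD3_c0)) :=
  Lgr Lrot78 (Lpr_ft (f37172 IH) (Lpr_dt (K1.f37188 IH) (Lpr_ft (f37178 IH) (Lpn (LP (LK LD1_c1 LD2_c28 LD3_c0))))))
theorem f69702 : Led Lsl_ef (LP (LK LD1_c1 LD2_c28 LD3_c0)) = (LP (LK LD1_c0 LD2_c55 LD3_c45)) :=
  Lgr Lrot73 (Lpe (f37237 IH) (Lpr_et (f69696 IH) (Lpr_dt (K0.f33650 IH) (Lpr_et (K0.f33648 IH) (Lpr_dt (K0.f33651 IH) (Lpn (LP (LK LD1_c0 LD2_c55 LD3_c45))))))))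
theorem f33784 : Led Lsl_ft (LP (LK LD1_c0 LD2_c25 LD3_c17)) = (LP (LK LD1_c0 LD2_c55 LD3_c45)) :=
  Lre_f IH (LK LD1_c0 LD2_c25 LD3_c17) (LK LD1_c0 LD2_c55 LD3_c45) Lrfl Lrfl
theorem f69708 : Led Lsl_et (LP (LK LD1_c0 LD2_c30 LD3_c21)) = (LP (LK LD1_c0 LD2_c25 LD3_c17)) :=
  Lgr Lrot69 (Lpe (f69674 IH) (Lpe (K1.f37177 IH) (Lpe (f37172 IH) (Lpr_ef (f69702 IH) (Lpe (f33784 IH) (Lpn (LP (LK LD1_c0 LD2_c25 LD3_c17))))))))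
theorem f69670 : Led Lsl_bt (LP (LK LD1_c0 LD2_c16 LD3_c48)) = (LP (LK LD1_c0 LD2_c30 LD3_c21)) :=
  Lgr Lrot95 (Lpe (K1.f37105 IH) (Lpe (K0.f8228 IH) (Lpr_df (f69506 IH) (Lpn (LP (LK LD1_c0 LD2_c30 LD3_c21))))))
theorem f37110 : Led Lsl_dt (LP (LK LD1_c0 LD2_c31 LD3_c45)) = (LP (LK LD1_c0 LD2_c14 LD3_c7)) :=
  Lre_d IH (LK LD1_c0 LD2_c31 LD3_c45) (LK LD1_c0 LD2_c14 LD3_c7) Lrfl Lrfl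
theorem f37111 : Led Lsl_ef (LP (LK LD1_c0 LD2_c31 LD3_c45)) = (LP (LK LD1_c0 LD2_c16 LD3_c48)) :=
  Lgr Lrot73 (Lpr_dt (f37110 IH) (Lpr_et (K0.f2905 IH) (Lpe (K0.f33118 IH) (Lpr_et (K0.f8225 IH) (Lpr_dt (K1.f37105 IH) (Lpn (LP (LK LD1_c0 LD2_c16 LD3_c48))))))))
theorem f37114 : Led Lsl_et (LP (LK LD1_c0 LD2_c31 LD3_c45)) = (LP (LK LD1_c0 LD2_c16 LD3_c48)) :=
  Lgr Lrot87 (Lpr_ef (f37111 IH) (Lpn (LP (LK LD1_c0 LD2_c16 LD3_c48))))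
theorem f69710 : Led Lsl_bf (LP (LK LD1_c0 LD2_c31 LD3_c45)) = (LP (LK LD1_c0 LD2_c25 LD3_c17)) :=
  Lgr Lrot96 (Lpr_et (f37114 IH) (Lpr_bt (f69670 IH) (Lpr_et (f69708 IH) (Lpn (LP (LK LD1_c0 LD2_c25 LD3_c17))))))
theorem f37128 : Led Lsl_af (LP (LK LD1_c0 LD2_c31 LD3_c45)) = (LP (LK LD1_c0 LD2_c31 LD3_c45)) :=
  Lgr Lrot50 (Lpr_et (f37114 IH) (Lpr_at (K1.f37118 IH) (Lpe (f37111 IH) (Lpn (LP (LK LD1_c0 LD2_c31 LD3_c45))))))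
theorem f2906 : Led Lsl_dt (LP (LK LD1_c0 LD2_c14 LD3_c7)) = (LP (LK LD1_c0 LD2_c31 LD3_c45)) :=
  Lre_d IH (LK LD1_c0 LD2_c14 LD3_c7) (LK LD1_c0 LD2_c31 LD3_c45) Lrfl Lrfl
theorem f34632 : Led Lsl_bt (LP (LK LD1_c0 LD2_c31 LD3_c45)) = (LP (LK LD1_c0 LD2_c25 LD3_c17)) :=
  Lgr Lrot95 (Lpe (f2906 IH) (Lpr_bf (K0.f34614 IH) (Lpe (K0.f33666 IH) (Lpn (LP (LK LD1_c0 LD2_c25 LD3_c17))))))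
theorem f33667 : Led Lsl_at (LP (LK LD1_c0 LD2_c25 LD3_c22)) = (LP (LK LD1_c0 LD2_c25 LD3_c17)) :=
  Lgr Lrot51 (Lpe (K0.f28751 IH) (Lpr_af (K0.f33640 IH) (Lpe (K0.f33666 IH) (Lpn (LP (LK LD1_c0 LD2_c25 LD3_c17))))))
theorem f69749 : Led Lsl_bt (LP (LK LD1_c0 LD2_c25 LD3_c22)) = (LP (LK LD1_c0 LD2_c25 LD3_c22)) :=
  Lgr Lrot62 (Lpr_af (K0.f34039 IH) (Lpe (f34632 IH) (Lpr_af (f37128 IH) (Lpr_bf (f69710 IH) (Lpe (f33667 IH) (Lpn (LP (LK LD1_c0 LD2_c25 LD3_c22))))))))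
theorem f59695 : Led Lsl_ef (LP (LK LD1_c0 LD2_c18 LD3_c14)) = (LP (LK LD1_c0 LD2_c25 LD3_c22)) :=
  Lgr Lrot73 (Lpr_dt (K1.f59685 IH) (Lpr_et (K0.f8213 IH) (Lpe (K0.f33558 IH) (Lpr_et (K0.f33564 IH) (Lpr_dt (K0.f28751 IH) (Lpn (LP (LK LD1_c0 LD2_c25 LD3_c22))))))))
theorem f69758 : Led Lsl_ef (LP (LK LD1_c0 LD2_c25 LD3_c22)) = (LP (LK LD1_c0 LD2_c18 LD3_c14)) :=
  Lgr Lrot29 (Lpr_bt (f69749 IH) (Lpe (f59695 IH) (Lpe (K1.f59691 IH) (Lpn (LP (LK LD1_c0 LD2_c18 LD3_c14))))))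
theorem f33625 : Led Lsl_et (LP (LK LD1_c0 LD2_c55 LD3_c59)) = (LP (LK LD1_c1 LD2_c58 LD3_c11)) :=
  Lre_e IH (LK LD1_c0 LD2_c55 LD3_c59) (LK LD1_c1 LD2_c58 LD3_c11) Lrfl Lrfl
theorem f59697 : Led Lsl_ff (LP (LK LD1_c0 LD2_c18 LD3_c14)) = (LP (LK LD1_c0 LD2_c30 LD3_c22)) :=
  Lgr Lrot19 (Lpr_dt (K1.f59685 IH) (Lpr_ft (K0.f35378 IH) (Lpe (K1.f59159 IH) (Lpn (LP (LK LD1_c0 LD2_c30 LD3_c22))))))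
theorem f37093 : Led Lsl_et (LP (LK LD1_c1 LD2_c6 LD3_c22)) = (LP (LK LD1_c0 LD2_c30 LD3_c22)) :=
  Lre_e IH (LK LD1_c1 LD2_c6 LD3_c22) (LK LD1_c0 LD2_c30 LD3_c22) Lrfl Lrfl
theorem f69803 : Led Lsl_ft (LP (LK LD1_c1 LD2_c58 LD3_c11)) = (LP (LK LD1_c1 LD2_c6 LD3_c22)) :=
  Lgr Lrot86 (Lpe (f33625 IH) (Lpe (K0.f34044 IH) (Lpr_ef (f69758 IH) (Lpr_ff (f59697 IH) (Lpe (f37093 IH) (Lpn (LP (LK LD1_c1 LD2_c6 LD3_c22))))))))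
theorem f33623 : Led Lsl_et (LP (LK LD1_c1 LD2_c58 LD3_c11)) = (LP (LK LD1_c0 LD2_c55 LD3_c59)) :=
  Lre_e IH (LK LD1_c1 LD2_c58 LD3_c11) (LK LD1_c0 LD2_c55 LD3_c59) Lrfl Lrfl
theorem f33626 : Led Lsl_df (LP (LK LD1_c1 LD2_c58 LD3_c11)) = (LP (LK LD1_c1 LD2_c58 LD3_c11)) :=
  Lgr Lrot70 (Lpr_et (f33623 IH) (Lpr_dt (K0.f33603 IH) (Lpr_et (K0.f33608 IH) (Lpr_dt (K0.f33624 IH) (Lpr_et (f33625 IH) (Lpn (LP (LK LD1_c1 LD2_c58 LD3_c11))))))))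
theorem f69777 : Led Lsl_ct (LP (LK LD1_c1 LD2_c58 LD3_c11)) = (LP (LK LD1_c4 LD2_c2 LD3_c26)) :=
  Lre_c IH (LK LD1_c1 LD2_c58 LD3_c11) (LK LD1_c4 LD2_c2 LD3_c26) Lrfl Lrfl
theorem f69813 : Led Lsl_dt (LP (LK LD1_c4 LD2_c2 LD3_c26)) = (LP (LK LD1_c8 LD2_c5 LD3_c25)) :=
  Lre_d IH (LK LD1_c4 LD2_c2 LD3_c26) (LK LD1_c8 LD2_c5 LD3_c25) Lrfl Lrfl
theorem f69704 : Led Lsl_at (LP (LK LD1_c1 LD2_c28 LD3_c0)) = (LP (LK LD1_c1 LD2_c58 LD3_c11)) :=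
  Lgr Lrot80 (Lpr_ef (f69702 IH) (Lpe (K0.f34045 IH) (Lpe (f33623 IH) (Lpn (LP (LK LD1_c1 LD2_c58 LD3_c11))))))
theorem f69805 : Led Lsl_af (LP (LK LD1_c0 LD2_c40 LD3_c42)) = (LP (LK LD1_c1 LD2_c6 LD3_c22)) :=
  Lgr Lrot45 (Lpr_ft (f37178 IH) (Lpr_at (f69704 IH) (Lpr_ft (f69803 IH) (Lpn (LP (LK LD1_c1 LD2_c6 LD3_c22))))))
theorem f37171 : Led Lsl_ct (LP (LK LD1_c1 LD2_c27 LD3_c59)) = (LP (LK LD1_c0 LD2_c40 LD3_c42)) :=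
  Lre_c IH (LK LD1_c1 LD2_c27 LD3_c59) (LK LD1_c0 LD2_c40 LD3_c42) Lrfl Lrfl
theorem f37173 : Led Lsl_dt (LP (LK LD1_c3 LD2_c3 LD3_c51)) = (LP (LK LD1_c1 LD2_c27 LD3_c59)) :=
  Lre_d IH (LK LD1_c3 LD2_c3 LD3_c51) (LK LD1_c1 LD2_c27 LD3_c59) Lrfl Lrfl
theorem f37232 : Led Lsl_ct (LP (LK LD1_c6 LD2_c14 LD3_c1)) = (LP (LK LD1_c3 LD2_c3 LD3_c51)) :=
  Lre_c IH (LK LD1_c6 LD2_c14 LD3_c1) (LK LD1_c3 LD2_c3 LD3_c51) Lrfl Lrfl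
theorem f37233 : Led Lsl_dt (LP (LK LD1_c12 LD2_c6 LD3_c41)) = (LP (LK LD1_c6 LD2_c14 LD3_c1)) :=
  Lre_d IH (LK LD1_c12 LD2_c6 LD3_c41) (LK LD1_c6 LD2_c14 LD3_c1) Lrfl Lrfl
theorem f69814 : Led Lsl_ct (LP (LK LD1_c8 LD2_c5 LD3_c25)) = (LP (LK LD1_c12 LD2_c6 LD3_c41)) :=
  Lgr Lrot41 (Lpe (f69813 IH) (Lpe (f69777 IH) (Lpr_df (f33626 IH) (Lpr_ft (f69803 IH) (Lpe (f69805 IH) (Lpe (f37171 IH) (Lpe (f37173 IH) (Lpe (f37232 IH) (Lpe (f37233 IH) (Lpn (LP (LK LD1_c12 LD2_c6 LD3_c41))))))))))))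
theorem f69775 : Led Lsl_ct (LP (LK LD1_c4 LD2_c2 LD3_c26)) = (LP (LK LD1_c1 LD2_c58 LD3_c11)) :=
  Lre_c IH (LK LD1_c4 LD2_c2 LD3_c26) (LK LD1_c1 LD2_c58 LD3_c11) Lrfl Lrfl
theorem f69781 : Led Lsl_dt (LP (LK LD1_c8 LD2_c5 LD3_c25)) = (LP (LK LD1_c4 LD2_c2 LD3_c26)) :=
  Lre_d IH (LK LD1_c8 LD2_c5 LD3_c25) (LK LD1_c4 LD2_c2 LD3_c26) Lrfl Lrfl
theorem f69821 : Led Lsl_cf (LP (LK LD1_c8 LD2_c5 LD3_c25)) = (LP (LK LD1_c12 LD2_c6 LD3_c41)) :=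
  Lgr Lrot11 (Lpr_ct (f69814 IH) (Lpn (LP (LK LD1_c12 LD2_c6 LD3_c41))))
theorem f37236 : Led Lsl_dt (LP (LK LD1_c6 LD2_c14 LD3_c1)) = (LP (LK LD1_c12 LD2_c6 LD3_c41)) :=
  Lre_d IH (LK LD1_c6 LD2_c14 LD3_c1) (LK LD1_c12 LD2_c6 LD3_c41) Lrfl Lrfl
theorem f69827 : Led Lsl_ft (LP (LK LD1_c6 LD2_c14 LD3_c1)) = (LP (LK LD1_c12 LD2_c6 LD3_c42)) :=
  Lre_f IH (LK LD1_c6 LD2_c14 LD3_c1) (LK LD1_c12 LD2_c6 LD3_c42) Lrfl Lrfl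
theorem f69828 : Led Lsl_at (LP (LK LD1_c12 LD2_c6 LD3_c42)) = (LP (LK LD1_c12 LD2_c6 LD3_c41)) :=
  Lgr Lrot33 (Lpe (f69827 IH) (Lpr_dt (f37236 IH) (Lpe (f69821 IH) (Lpr_dt (f69781 IH) (Lpr_ct (f69775 IH) (Lpe (f33626 IH) (Lpr_ct (f69777 IH) (Lpr_dt (f69813 IH) (Lpr_ct (f69814 IH) (Lpn (LP (LK LD1_c12 LD2_c6 LD3_c41))))))))))))
theorem f69838 : Led Lsl_et (LP (LK LD1_c21 LD2_c12 LD3_c46)) = (LP (LK LD1_c12 LD2_c6 LD3_c42)) :=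
  Lre_e IH (LK LD1_c21 LD2_c12 LD3_c46) (LK LD1_c12 LD2_c6 LD3_c42) Lrfl Lrfl
theorem f69824 : Led Lsl_et (LP (LK LD1_c12 LD2_c6 LD3_c41)) = (LP (LK LD1_c21 LD2_c12 LD3_c45)) :=
  Lre_e IH (LK LD1_c12 LD2_c6 LD3_c41) (LK LD1_c21 LD2_c12 LD3_c45) Lrfl Lrfl
theorem f69839 : Led Lsl_af (LP (LK LD1_c21 LD2_c12 LD3_c46)) = (LP (LK LD1_c21 LD2_c12 LD3_c45)) :=
  Lgr Lrot50 (Lpr_et (f69838 IH) (Lpr_at (f69828 IH) (Lpr_et (f69824 IH) (Lpn (LP (LK LD1_c21 LD2_c12 LD3_c45))))))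
theorem f69848 : Led Lsl_at (LP (LK LD1_c21 LD2_c12 LD3_c46)) = (LP (LK LD1_c21 LD2_c12 LD3_c45)) :=
  Lgr Lrot100 (Lpr_af (f69839 IH) (Lpn (LP (LK LD1_c21 LD2_c12 LD3_c45))))
theorem f69859 : Led Lsl_ct (LP (LK LD1_c12 LD2_c6 LD3_c43)) = (LP (LK LD1_c21 LD2_c12 LD3_c46)) :=
  Lre_c IH (LK LD1_c12 LD2_c6 LD3_c43) (LK LD1_c21 LD2_c12 LD3_c46) Lrfl Lrfl
theorem f69823 : Led Lsl_et (LP (LK LD1_c15 LD2_c14 LD3_c7)) = (LP (LK LD1_c8 LD2_c5 LD3_c25)) :=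
  Lre_e IH (LK LD1_c15 LD2_c14 LD3_c7) (LK LD1_c8 LD2_c5 LD3_c25) Lrfl Lrfl
theorem f69825 : Led Lsl_cf (LP (LK LD1_c15 LD2_c14 LD3_c7)) = (LP (LK LD1_c21 LD2_c12 LD3_c45)) :=
  Lgr Lrot39 (Lpr_et (f69823 IH) (Lpr_ct (f69814 IH) (Lpr_et (f69824 IH) (Lpn (LP (LK LD1_c21 LD2_c12 LD3_c45))))))
theorem f69868 : Led Lsl_af (LP (LK LD1_c12 LD2_c6 LD3_c43)) = (LP (LK LD1_c15 LD2_c14 LD3_c7)) :=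
  Lgr Lrot68 (Lpr_ct (f69859 IH) (Lpr_at (f69848 IH) (Lpe (f69825 IH) (Lpn (LP (LK LD1_c15 LD2_c14 LD3_c7))))))
theorem f69877 : Led Lsl_et (LP (LK LD1_c12 LD2_c6 LD3_c43)) = (LP (LK LD1_c6 LD2_c14 LD3_c2)) :=
  Lre_e IH (LK LD1_c12 LD2_c6 LD3_c43) (LK LD1_c6 LD2_c14 LD3_c2) Lrfl Lrfl
theorem f69878 : Led Lsl_et (LP (LK LD1_c8 LD2_c5 LD3_c25)) = (LP (LK LD1_c15 LD2_c14 LD3_c7)) :=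
  Lre_e IH (LK LD1_c8 LD2_c5 LD3_c25) (LK LD1_c15 LD2_c14 LD3_c7) Lrfl Lrfl
theorem f69879 : Led Lsl_at (LP (LK LD1_c6 LD2_c14 LD3_c2)) = (LP (LK LD1_c8 LD2_c5 LD3_c25)) :=
  Lgr Lrot80 (Lpe (f69877 IH) (Lpr_af (f69868 IH) (Lpe (f69878 IH) (Lpn (LP (LK LD1_c8 LD2_c5 LD3_c25))))))
theorem f37244 : Led Lsl_dt (LP (LK LD1_c3 LD2_c3 LD3_c52)) = (LP (LK LD1_c6 LD2_c14 LD3_c2)) :=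
  Lre_d IH (LK LD1_c3 LD2_c3 LD3_c52) (LK LD1_c6 LD2_c14 LD3_c2) Lrfl Lrfl
theorem f69933 : Led Lsl_af (LP (LK LD1_c3 LD2_c3 LD3_c52)) = (LP (LK LD1_c4 LD2_c2 LD3_c26)) :=
  Lgr Lrot117 (Lpr_dt (f37244 IH) (Lpr_at (f69879 IH) (Lpr_dt (f69781 IH) (Lpn (LP (LK LD1_c4 LD2_c2 LD3_c26))))))
theorem f37243 : Led Lsl_ct (LP (LK LD1_c1 LD2_c28 LD3_c0)) = (LP (LK LD1_c3 LD2_c3 LD3_c52)) :=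
  Lre_c IH (LK LD1_c1 LD2_c28 LD3_c0) (LK LD1_c3 LD2_c3 LD3_c52) Lrfl Lrfl
theorem f37246 : Led Lsl_ct (LP (LK LD1_c3 LD2_c3 LD3_c52)) = (LP (LK LD1_c1 LD2_c28 LD3_c0)) :=
  Lre_c IH (LK LD1_c3 LD2_c3 LD3_c52) (LK LD1_c1 LD2_c28 LD3_c0) Lrfl Lrfl
theorem f37247 : Led Lsl_dt (LP (LK LD1_c6 LD2_c14 LD3_c2)) = (LP (LK LD1_c3 LD2_c3 LD3_c52)) :=
  Lre_d IH (LK LD1_c6 LD2_c14 LD3_c2) (LK LD1_c3 LD2_c3 LD3_c52) Lrfl Lrfl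
theorem f37248 : Led Lsl_ct (LP (LK LD1_c12 LD2_c6 LD3_c42)) = (LP (LK LD1_c6 LD2_c14 LD3_c2)) :=
  Lre_c IH (LK LD1_c12 LD2_c6 LD3_c42) (LK LD1_c6 LD2_c14 LD3_c2) Lrfl Lrfl
theorem f59165 : Led Lsl_et (LP (LK LD1_c0 LD2_c30 LD3_c22)) = (LP (LK LD1_c1 LD2_c6 LD3_c22)) :=
  Lre_e IH (LK LD1_c0 LD2_c30 LD3_c22) (LK LD1_c1 LD2_c6 LD3_c22) Lrfl Lrfl
theorem f59177 : Led Lsl_et (LP (LK LD1_c2 LD2_c9 LD3_c19)) = (LP (LK LD1_c1 LD2_c1 LD3_c48)) :=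
  Lre_e IH (LK LD1_c2 LD2_c9 LD3_c19) (LK LD1_c1 LD2_c1 LD3_c48) Lrfl Lrfl
theorem f59178 : Led Lsl_ct (LP (LK LD1_c1 LD2_c6 LD3_c22)) = (LP (LK LD1_c2 LD2_c9 LD3_c19)) :=
  Lgr Lrot15 (Lpe (f59165 IH) (Lpr_cf (K1.f59170 IH) (Lpe (f59177 IH) (Lpn (LP (LK LD1_c2 LD2_c9 LD3_c19))))))
theorem f69807 : Led Lsl_ff (LP (LK LD1_c4 LD2_c2 LD3_c26)) = (LP (LK LD1_c2 LD2_c9 LD3_c19)) :=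
  Lgr Lrot23 (Lpr_ct (f69775 IH) (Lpr_ft (f69803 IH) (Lpr_ct (f59178 IH) (Lpn (LP (LK LD1_c2 LD2_c9 LD3_c19))))))
theorem f69945 : Led Lsl_dt (LP (LK LD1_c2 LD2_c9 LD3_c19)) = (LP (LK LD1_c4 LD2_c23 LD3_c51)) :=
  Lre_d IH (LK LD1_c2 LD2_c9 LD3_c19) (LK LD1_c4 LD2_c23 LD3_c51) Lrfl Lrfl
theorem f69946 : Led Lsl_ct (LP (LK LD1_c4 LD2_c23 LD3_c51)) = (LP (LK LD1_c8 LD2_c45 LD3_c33)) :=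
  Lre_c IH (LK LD1_c4 LD2_c23 LD3_c51) (LK LD1_c8 LD2_c45 LD3_c33) Lrfl Lrfl
theorem f69947 : Led Lsl_df (LP (LK LD1_c12 LD2_c6 LD3_c42)) = (LP (LK LD1_c8 LD2_c45 LD3_c33)) :=
  Lgr Lrot106 (Lpr_ct (f37248 IH) (Lpr_dt (f37247 IH) (Lpr_ct (f37246 IH) (Lpe (f37237 IH) (Lpr_ct (f37243 IH) (Lpr_af (f69933 IH) (Lpr_ff (f69807 IH) (Lpr_dt (f69945 IH) (Lpr_ct (f69946 IH) (Lpn (LP (LK LD1_c8 LD2_c45 LD3_c33))))))))))))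
theorem f37245 : Led Lsl_ct (LP (LK LD1_c6 LD2_c14 LD3_c2)) = (LP (LK LD1_c12 LD2_c6 LD3_c42)) :=
  Lre_c IH (LK LD1_c6 LD2_c14 LD3_c2) (LK LD1_c12 LD2_c6 LD3_c42) Lrfl Lrfl
theorem f69832 : Led Lsl_af (LP (LK LD1_c12 LD2_c6 LD3_c42)) = (LP (LK LD1_c12 LD2_c6 LD3_c41)) :=
  Lgr Lrot0 (Lpr_at (f69828 IH) (Lpn (LP (LK LD1_c12 LD2_c6 LD3_c41))))
theorem f69961 : Led Lsl_ff (LP (LK LD1_c12 LD2_c6 LD3_c41)) = (LP (LK LD1_c8 LD2_c45 LD3_c33)) :=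
  Lgr Lrot103 (Lpe (f69832 IH) (Lpe (f37245 IH) (Lpe (f37244 IH) (Lpe (f37243 IH) (Lpr_df (f37237 IH) (Lpe (f37246 IH) (Lpe (f37247 IH) (Lpe (f37248 IH) (Lpr_df (f69947 IH) (Lpn (LP (LK LD1_c8 LD2_c45 LD3_c33))))))))))))
theorem f69867 : Led Lsl_ft (LP (LK LD1_c21 LD2_c12 LD3_c45)) = (LP (LK LD1_c29 LD2_c54 LD3_c16)) :=
  Lre_f IH (LK LD1_c21 LD2_c12 LD3_c45) (LK LD1_c29 LD2_c54 LD3_c16) Lrfl Lrfl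
theorem f69957 : Led Lsl_et (LP (LK LD1_c16 LD2_c23 LD3_c41)) = (LP (LK LD1_c8 LD2_c45 LD3_c33)) :=
  Lre_e IH (LK LD1_c16 LD2_c23 LD3_c41) (LK LD1_c8 LD2_c45 LD3_c33) Lrfl Lrfl
theorem f69968 : Led Lsl_ft (LP (LK LD1_c26 LD2_c21 LD3_c42)) = (LP (LK LD1_c16 LD2_c23 LD3_c41)) :=
  Lre_f IH (LK LD1_c26 LD2_c21 LD3_c42) (LK LD1_c16 LD2_c23 LD3_c41) Lrfl Lrfl
theorem f69969 : Led Lsl_et (LP (LK LD1_c29 LD2_c54 LD3_c16)) = (LP (LK LD1_c26 LD2_c21 LD3_c42)) :=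
  Lgr Lrot69 (Lpe (f69867 IH) (Lpe (f69824 IH) (Lpr_ff (f69961 IH) (Lpe (f69957 IH) (Lpe (f69968 IH) (Lpn (LP (LK LD1_c26 LD2_c21 LD3_c42))))))))
theorem f69978 : Led Lsl_ef (LP (LK LD1_c29 LD2_c54 LD3_c16)) = (LP (LK LD1_c26 LD2_c21 LD3_c42)) :=
  Lgr Lrot88 (Lpr_et (f69969 IH) (Lpn (LP (LK LD1_c26 LD2_c21 LD3_c42))))
theorem f69881 : Led Lsl_ft (LP (LK LD1_c12 LD2_c6 LD3_c43)) = (LP (LK LD1_c21 LD2_c12 LD3_c38)) :=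
  Lre_f IH (LK LD1_c12 LD2_c6 LD3_c43) (LK LD1_c21 LD2_c12 LD3_c38) Lrfl Lrfl
theorem f34252 : Led Lsl_ft (LP (LK LD1_c25 LD2_c3 LD3_c10)) = (LP (LK LD1_c15 LD2_c14 LD3_c7)) :=
  Lre_f IH (LK LD1_c25 LD2_c3 LD3_c10) (LK LD1_c15 LD2_c14 LD3_c7) Lrfl Lrfl
theorem f69882 : Led Lsl_at (LP (LK LD1_c21 LD2_c12 LD3_c38)) = (LP (LK LD1_c25 LD2_c3 LD3_c10)) :=
  Lgr Lrot66 (Lpe (f69881 IH) (Lpr_af (f69868 IH) (Lpe (f34252 IH) (Lpn (LP (LK LD1_c25 LD2_c3 LD3_c10))))))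
theorem f34248 : Led Lsl_dt (LP (LK LD1_c25 LD2_c3 LD3_c10)) = (LP (LK LD1_c15 LD2_c14 LD3_c4)) :=
  Lre_d IH (LK LD1_c25 LD2_c3 LD3_c10) (LK LD1_c15 LD2_c14 LD3_c4) Lrfl Lrfl
theorem f33754 : Led Lsl_at (LP (LK LD1_c4 LD2_c2 LD3_c25)) = (LP (LK LD1_c4 LD2_c1 LD3_c38)) :=
  Lgr Lrot100 (Lpr_af (K0.f33741 IH) (Lpn (LP (LK LD1_c4 LD2_c1 LD3_c38))))
theorem f33767 : Led Lsl_at (LP (LK LD1_c4 LD2_c1 LD3_c55)) = (LP (LK LD1_c2 LD2_c31 LD3_c47)) :=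
  Lgr Lrot107 (Lpr_cf (K0.f33678 IH) (Lpe (f33754 IH) (Lpr_cf (K0.f33765 IH) (Lpn (LP (LK LD1_c2 LD2_c31 LD3_c47))))))
theorem f34092 : Led Lsl_ff (LP (LK LD1_c4 LD2_c1 LD3_c55)) = (LP (LK LD1_c4 LD2_c1 LD3_c36)) :=
  Lgr Lrot103 (Lpr_at (f33767 IH) (Lpe (K0.f33774 IH) (Lpe (K0.f33790 IH) (Lpe (K0.f33737 IH) (Lpe (K0.f33624 IH) (Lpe (K0.f33595 IH) (Lpe (K0.f33598 IH) (Lpe (K0.f33810 IH) (Lpr_df (K0.f34078 IH) (Lpn (LP (LK LD1_c4 LD2_c1 LD3_c36))))))))))))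
theorem f33802 : Led Lsl_at (LP (LK LD1_c4 LD2_c1 LD3_c56)) = (LP (LK LD1_c2 LD2_c31 LD3_c48)) :=
  Lgr Lrot100 (Lpr_af (K0.f33788 IH) (Lpn (LP (LK LD1_c2 LD2_c31 LD3_c48))))
theorem f34080 : Led Lsl_at (LP (LK LD1_c4 LD2_c2 LD3_c23)) = (LP (LK LD1_c4 LD2_c1 LD3_c36)) :=
  Lgr Lrot51 (Lpr_df (K0.f34022 IH) (Lpe (f33802 IH) (Lpr_df (K0.f34078 IH) (Lpn (LP (LK LD1_c4 LD2_c1 LD3_c36))))))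
theorem f34099 : Led Lsl_ft (LP (LK LD1_c2 LD2_c31 LD3_c47)) = (LP (LK LD1_c4 LD2_c2 LD3_c23)) :=
  Lgr Lrot101 (Lpe (f33767 IH) (Lpr_ff (f34092 IH) (Lpe (f34080 IH) (Lpn (LP (LK LD1_c4 LD2_c2 LD3_c23))))))
theorem f21721 : Led Lsl_et (LP (LK LD1_c5 LD2_c9 LD3_c22)) = (LP (LK LD1_c2 LD2_c31 LD3_c47)) :=
  Lre_e IH (LK LD1_c5 LD2_c9 LD3_c22) (LK LD1_c2 LD2_c31 LD3_c47) Lrfl Lrfl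
theorem f34031 : Led Lsl_et (LP (LK LD1_c4 LD2_c2 LD3_c23)) = (LP (LK LD1_c8 LD2_c5 LD3_c20)) :=
  Lre_e IH (LK LD1_c4 LD2_c2 LD3_c23) (LK LD1_c8 LD2_c5 LD3_c20) Lrfl Lrfl
theorem f34209 : Led Lsl_ft (LP (LK LD1_c8 LD2_c5 LD3_c20)) = (LP (LK LD1_c15 LD2_c13 LD3_c59)) :=
  Lre_f IH (LK LD1_c8 LD2_c5 LD3_c20) (LK LD1_c15 LD2_c13 LD3_c59) Lrfl Lrfl
theorem f34210 : Led Lsl_ef (LP (LK LD1_c10 LD2_c9 LD3_c25)) = (LP (LK LD1_c15 LD2_c13 LD3_c59)) :=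
  Lgr Lrot21 (Lpr_ft (K0.f21701 IH) (Lpr_et (f21721 IH) (Lpr_ft (f34099 IH) (Lpr_et (f34031 IH) (Lpr_ft (f34209 IH) (Lpn (LP (LK LD1_c15 LD2_c13 LD3_c59))))))))
theorem f34225 : Led Lsl_et (LP (LK LD1_c10 LD2_c9 LD3_c25)) = (LP (LK LD1_c15 LD2_c13 LD3_c59)) :=
  Lgr Lrot87 (Lpr_ef (f34210 IH) (Lpn (LP (LK LD1_c15 LD2_c13 LD3_c59))))
theorem f34228 : Led Lsl_ct (LP (LK LD1_c15 LD2_c13 LD3_c59)) = (LP (LK LD1_c8 LD2_c5 LD3_c23)) :=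
  Lre_c IH (LK LD1_c15 LD2_c13 LD3_c59) (LK LD1_c8 LD2_c5 LD3_c23) Lrfl Lrfl
theorem f34229 : Led Lsl_et (LP (LK LD1_c8 LD2_c5 LD3_c23)) = (LP (LK LD1_c15 LD2_c14 LD3_c4)) :=
  Lre_e IH (LK LD1_c8 LD2_c5 LD3_c23) (LK LD1_c15 LD2_c14 LD3_c4) Lrfl Lrfl
theorem f34230 : Led Lsl_cf (LP (LK LD1_c10 LD2_c9 LD3_c25)) = (LP (LK LD1_c15 LD2_c14 LD3_c4)) :=
  Lgr Lrot39 (Lpr_et (f34225 IH) (Lpr_ct (f34228 IH) (Lpr_et (f34229 IH) (Lpn (LP (LK LD1_c15 LD2_c14 LD3_c4))))))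
theorem f34249 : Led Lsl_ft (LP (LK LD1_c8 LD2_c5 LD3_c24)) = (LP (LK LD1_c15 LD2_c14 LD3_c4)) :=
  Lre_f IH (LK LD1_c8 LD2_c5 LD3_c24) (LK LD1_c15 LD2_c14 LD3_c4) Lrfl Lrfl
theorem f34250 : Led Lsl_ct (LP (LK LD1_c5 LD2_c9 LD3_c22)) = (LP (LK LD1_c8 LD2_c5 LD3_c24)) :=
  Lgr Lrot40 (Lpe (K0.f21701 IH) (Lpr_cf (f34230 IH) (Lpe (f34249 IH) (Lpn (LP (LK LD1_c8 LD2_c5 LD3_c24))))))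
theorem f21704 : Led Lsl_bt (LP (LK LD1_c10 LD2_c9 LD3_c17)) = (LP (LK LD1_c5 LD2_c9 LD3_c22)) :=
  Lre_b IH (LK LD1_c10 LD2_c9 LD3_c17) (LK LD1_c5 LD2_c9 LD3_c22) Lrfl Lrfl
theorem f21667 : Led Lsl_ct (LP (LK LD1_c18 LD2_c29 LD3_c51)) = (LP (LK LD1_c10 LD2_c9 LD3_c17)) :=
  Lre_c IH (LK LD1_c18 LD2_c29 LD3_c51) (LK LD1_c10 LD2_c9 LD3_c17) Lrfl Lrfl
theorem f34256 : Led Lsl_bt (LP (LK LD1_c8 LD2_c5 LD3_c24)) = (LP (LK LD1_c15 LD2_c13 LD3_c41)) :=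
  Lre_b IH (LK LD1_c8 LD2_c5 LD3_c24) (LK LD1_c15 LD2_c13 LD3_c41) Lrfl Lrfl
theorem f34257 : Led Lsl_ct (LP (LK LD1_c15 LD2_c13 LD3_c41)) = (LP (LK LD1_c25 LD2_c2 LD3_c42)) :=
  Lre_c IH (LK LD1_c15 LD2_c13 LD3_c41) (LK LD1_c25 LD2_c2 LD3_c42) Lrfl Lrfl
theorem f34258 : Led Lsl_bf (LP (LK LD1_c18 LD2_c29 LD3_c51)) = (LP (LK LD1_c25 LD2_c2 LD3_c42)) :=
  Lgr Lrot90 (Lpr_ct (f21667 IH) (Lpr_bt (f21704 IH) (Lpr_ct (f34250 IH) (Lpr_bt (f34256 IH) (Lpr_ct (f34257 IH) (Lpn (LP (LK LD1_c25 LD2_c2 LD3_c42))))))))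
theorem f34272 : Led Lsl_et (LP (LK LD1_c18 LD2_c29 LD3_c51)) = (LP (LK LD1_c10 LD2_c9 LD3_c16)) :=
  Lre_e IH (LK LD1_c18 LD2_c29 LD3_c51) (LK LD1_c10 LD2_c9 LD3_c16) Lrfl Lrfl
theorem f34273 : Led Lsl_et (LP (LK LD1_c15 LD2_c13 LD3_c37)) = (LP (LK LD1_c25 LD2_c2 LD3_c42)) :=
  Lre_e IH (LK LD1_c15 LD2_c13 LD3_c37) (LK LD1_c25 LD2_c2 LD3_c42) Lrfl Lrfl
theorem f34274 : Led Lsl_bt (LP (LK LD1_c10 LD2_c9 LD3_c16)) = (LP (LK LD1_c15 LD2_c13 LD3_c37)) :=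
  Lgr Lrot119 (Lpe (f34272 IH) (Lpr_bf (f34258 IH) (Lpe (f34273 IH) (Lpn (LP (LK LD1_c15 LD2_c13 LD3_c37))))))
theorem f34285 : Led Lsl_ft (LP (LK LD1_c15 LD2_c13 LD3_c37)) = (LP (LK LD1_c8 LD2_c5 LD3_c11)) :=
  Lre_f IH (LK LD1_c15 LD2_c13 LD3_c37) (LK LD1_c8 LD2_c5 LD3_c11) Lrfl Lrfl
theorem f34286 : Led Lsl_bt (LP (LK LD1_c8 LD2_c5 LD3_c11)) = (LP (LK LD1_c15 LD2_c13 LD3_c34)) :=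
  Lre_b IH (LK LD1_c8 LD2_c5 LD3_c11) (LK LD1_c15 LD2_c13 LD3_c34) Lrfl Lrfl
theorem f34287 : Led Lsl_ff (LP (LK LD1_c10 LD2_c9 LD3_c16)) = (LP (LK LD1_c15 LD2_c13 LD3_c34)) :=
  Lgr Lrot25 (Lpr_bt (f34274 IH) (Lpr_ft (f34285 IH) (Lpr_bt (f34286 IH) (Lpn (LP (LK LD1_c15 LD2_c13 LD3_c34))))))
theorem f34293 : Led Lsl_at (LP (LK LD1_c10 LD2_c9 LD3_c16)) = (LP (LK LD1_c18 LD2_c29 LD3_c43)) :=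
  Lre_a IH (LK LD1_c10 LD2_c9 LD3_c16) (LK LD1_c18 LD2_c29 LD3_c43) Lrfl Lrfl
theorem f34304 : Led Lsl_ct (LP (LK LD1_c10 LD2_c9 LD3_c13)) = (LP (LK LD1_c18 LD2_c29 LD3_c43)) :=
  Lre_c IH (LK LD1_c10 LD2_c9 LD3_c13) (LK LD1_c18 LD2_c29 LD3_c43) Lrfl Lrfl
theorem f21619 : Led Lsl_dt (LP (LK LD1_c5 LD2_c9 LD3_c17)) = (LP (LK LD1_c10 LD2_c9 LD3_c13)) :=
  Lre_d IH (LK LD1_c5 LD2_c9 LD3_c17) (LK LD1_c10 LD2_c9 LD3_c13) Lrfl Lrfl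
theorem f21637 : Led Lsl_ct (LP (LK LD1_c2 LD2_c32 LD3_c43)) = (LP (LK LD1_c5 LD2_c9 LD3_c17)) :=
  Lre_c IH (LK LD1_c2 LD2_c32 LD3_c43) (LK LD1_c5 LD2_c9 LD3_c17) Lrfl Lrfl
theorem f21599 : Led Lsl_dt (LP (LK LD1_c5 LD2_c11 LD3_c39)) = (LP (LK LD1_c2 LD2_c32 LD3_c43)) :=
  Lre_d IH (LK LD1_c5 LD2_c11 LD3_c39) (LK LD1_c2 LD2_c32 LD3_c43) Lrfl Lrfl
theorem f34305 : Led Lsl_ct (LP (LK LD1_c10 LD2_c14 LD3_c2)) = (LP (LK LD1_c5 LD2_c11 LD3_c39)) :=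
  Lre_c IH (LK LD1_c10 LD2_c14 LD3_c2) (LK LD1_c5 LD2_c11 LD3_c39) Lrfl Lrfl
theorem f34306 : Led Lsl_dt (LP (LK LD1_c18 LD2_c37 LD3_c42)) = (LP (LK LD1_c10 LD2_c14 LD3_c2)) :=
  Lre_d IH (LK LD1_c18 LD2_c37 LD3_c42) (LK LD1_c10 LD2_c14 LD3_c2) Lrfl Lrfl
theorem f34307 : Led Lsl_dt (LP (LK LD1_c15 LD2_c13 LD3_c34)) = (LP (LK LD1_c25 LD2_c2 LD3_c38)) :=
  Lre_d IH (LK LD1_c15 LD2_c13 LD3_c34) (LK LD1_c25 LD2_c2 LD3_c38) Lrfl Lrfl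
theorem f34308 : Led Lsl_cf (LP (LK LD1_c18 LD2_c37 LD3_c42)) = (LP (LK LD1_c25 LD2_c2 LD3_c38)) :=
  Lgr Lrot118 (Lpr_dt (f34306 IH) (Lpr_ct (f34305 IH) (Lpr_dt (f21599 IH) (Lpr_ct (f21637 IH) (Lpr_dt (f21619 IH) (Lpr_ct (f34304 IH) (Lpe (f34293 IH) (Lpr_ff (f34287 IH) (Lpr_dt (f34307 IH) (Lpn (LP (LK LD1_c25 LD2_c2 LD3_c38))))))))))))
theorem f21634 : Led Lsl_at (LP (LK LD1_c2 LD2_c31 LD3_c46)) = (LP (LK LD1_c5 LD2_c9 LD3_c17)) :=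
  Lre_a IH (LK LD1_c2 LD2_c31 LD3_c46) (LK LD1_c5 LD2_c9 LD3_c17) Lrfl Lrfl
theorem f21825 : Led Lsl_ft (LP (LK LD1_c5 LD2_c9 LD3_c19)) = (LP (LK LD1_c2 LD2_c31 LD3_c46)) :=
  Lre_f IH (LK LD1_c5 LD2_c9 LD3_c19) (LK LD1_c2 LD2_c31 LD3_c46) Lrfl Lrfl
theorem f34294 : Led Lsl_ct (LP (LK LD1_c8 LD2_c5 LD3_c19)) = (LP (LK LD1_c15 LD2_c13 LD3_c34)) :=
  Lre_c IH (LK LD1_c8 LD2_c5 LD3_c19) (LK LD1_c15 LD2_c13 LD3_c34) Lrfl Lrfl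
theorem f34319 : Led Lsl_dt (LP (LK LD1_c5 LD2_c9 LD3_c19)) = (LP (LK LD1_c8 LD2_c5 LD3_c19)) :=
  Lgr Lrot159 (Lpr_ft (f21825 IH) (Lpr_at (f21634 IH) (Lpe (f21637 IH) (Lpe (f21599 IH) (Lpe (f34305 IH) (Lpe (f34306 IH) (Lpr_cf (f34308 IH) (Lpe (f34307 IH) (Lpe (f34294 IH) (Lpn (LP (LK LD1_c8 LD2_c5 LD3_c19))))))))))))
theorem f33807 : Led Lsl_at (LP (LK LD1_c10 LD2_c9 LD3_c2)) = (LP (LK LD1_c5 LD2_c9 LD3_c19)) :=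
  Lre_a IH (LK LD1_c10 LD2_c9 LD3_c2) (LK LD1_c5 LD2_c9 LD3_c19) Lrfl Lrfl
theorem f34327 : Led Lsl_at (LP (LK LD1_c8 LD2_c5 LD3_c19)) = (LP (LK LD1_c15 LD2_c13 LD3_c54)) :=
  Lre_a IH (LK LD1_c8 LD2_c5 LD3_c19) (LK LD1_c15 LD2_c13 LD3_c54) Lrfl Lrfl
theorem f34328 : Led Lsl_df (LP (LK LD1_c10 LD2_c9 LD3_c2)) = (LP (LK LD1_c15 LD2_c13 LD3_c54)) :=
  Lgr Lrot18 (Lpr_at (f33807 IH) (Lpr_dt (f34319 IH) (Lpr_at (f34327 IH) (Lpn (LP (LK LD1_c15 LD2_c13 LD3_c54))))))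
theorem f34340 : Led Lsl_dt (LP (LK LD1_c10 LD2_c9 LD3_c2)) = (LP (LK LD1_c15 LD2_c13 LD3_c54)) :=
  Lgr Lrot42 (Lpr_df (f34328 IH) (Lpn (LP (LK LD1_c15 LD2_c13 LD3_c54))))
theorem f33804 : Led Lsl_bt (LP (LK LD1_c4 LD2_c1 LD3_c56)) = (LP (LK LD1_c8 LD2_c4 LD3_c31)) :=
  Lre_b IH (LK LD1_c4 LD2_c1 LD3_c56) (LK LD1_c8 LD2_c4 LD3_c31) Lrfl Lrfl
theorem f33805 : Led Lsl_at (LP (LK LD1_c8 LD2_c4 LD3_c31)) = (LP (LK LD1_c15 LD2_c12 LD3_c4)) :=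
  Lre_a IH (LK LD1_c8 LD2_c4 LD3_c31) (LK LD1_c15 LD2_c12 LD3_c4) Lrfl Lrfl
theorem f33806 : Led Lsl_bt (LP (LK LD1_c5 LD2_c9 LD3_c19)) = (LP (LK LD1_c2 LD2_c31 LD3_c48)) :=
  Lre_b IH (LK LD1_c5 LD2_c9 LD3_c19) (LK LD1_c2 LD2_c31 LD3_c48) Lrfl Lrfl
theorem f33808 : Led Lsl_bt (LP (LK LD1_c15 LD2_c12 LD3_c4)) = (LP (LK LD1_c10 LD2_c9 LD3_c2)) :=
  Lgr Lrot62 (Lpe (f33805 IH) (Lpe (f33804 IH) (Lpr_af (K0.f33788 IH) (Lpe (f33806 IH) (Lpe (f33807 IH) (Lpn (LP (LK LD1_c10 LD2_c9 LD3_c2))))))))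
theorem f33680 : Led Lsl_bt (LP (LK LD1_c4 LD2_c1 LD3_c55)) = (LP (LK LD1_c8 LD2_c4 LD3_c30)) :=
  Lre_b IH (LK LD1_c4 LD2_c1 LD3_c55) (LK LD1_c8 LD2_c4 LD3_c30) Lrfl Lrfl
theorem f34082 : Led Lsl_bt (LP (LK LD1_c8 LD2_c3 LD3_c50)) = (LP (LK LD1_c4 LD2_c1 LD3_c36)) :=
  Lre_b IH (LK LD1_c8 LD2_c3 LD3_c50) (LK LD1_c4 LD2_c1 LD3_c36) Lrfl Lrfl
theorem f34101 : Led Lsl_ft (LP (LK LD1_c8 LD2_c4 LD3_c30)) = (LP (LK LD1_c8 LD2_c3 LD3_c50)) :=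
  Lgr Lrot75 (Lpe (f33680 IH) (Lpr_ff (f34092 IH) (Lpe (f34082 IH) (Lpn (LP (LK LD1_c8 LD2_c3 LD3_c50))))))
theorem f34150 : Led Lsl_ff (LP (LK LD1_c8 LD2_c4 LD3_c30)) = (LP (LK LD1_c8 LD2_c3 LD3_c50)) :=
  Lgr Lrot3 (Lpr_ft (f34101 IH) (Lpn (LP (LK LD1_c8 LD2_c3 LD3_c50))))
theorem f34156 : Led Lsl_at (LP (LK LD1_c8 LD2_c4 LD3_c30)) = (LP (LK LD1_c15 LD2_c12 LD3_c15)) :=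
  Lre_a IH (LK LD1_c8 LD2_c4 LD3_c30) (LK LD1_c15 LD2_c12 LD3_c15) Lrfl Lrfl
theorem f34157 : Led Lsl_at (LP (LK LD1_c15 LD2_c10 LD3_c48)) = (LP (LK LD1_c8 LD2_c3 LD3_c50)) :=
  Lre_a IH (LK LD1_c15 LD2_c10 LD3_c48) (LK LD1_c8 LD2_c3 LD3_c50) Lrfl Lrfl
theorem f34158 : Led Lsl_ft (LP (LK LD1_c15 LD2_c12 LD3_c15)) = (LP (LK LD1_c15 LD2_c10 LD3_c48)) :=
  Lgr Lrot101 (Lpe (f34156 IH) (Lpr_ff (f34150 IH) (Lpe (f34157 IH) (Lpn (LP (LK LD1_c15 LD2_c10 LD3_c48))))))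
theorem f34171 : Led Lsl_dt (LP (LK LD1_c8 LD2_c4 LD3_c29)) = (LP (LK LD1_c15 LD2_c12 LD3_c15)) :=
  Lre_d IH (LK LD1_c8 LD2_c4 LD3_c29) (LK LD1_c15 LD2_c12 LD3_c15) Lrfl Lrfl
theorem f34174 : Led Lsl_ft (LP (LK LD1_c15 LD2_c12 LD3_c4)) = (LP (LK LD1_c8 LD2_c4 LD3_c29)) :=
  Lre_f IH (LK LD1_c15 LD2_c12 LD3_c4) (LK LD1_c8 LD2_c4 LD3_c29) Lrfl Lrfl
theorem f34175 : Led Lsl_df (LP (LK LD1_c15 LD2_c12 LD3_c4)) = (LP (LK LD1_c15 LD2_c10 LD3_c48)) :=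
  Lgr Lrot78 (Lpr_ft (f34174 IH) (Lpr_dt (f34171 IH) (Lpr_ft (f34158 IH) (Lpn (LP (LK LD1_c15 LD2_c10 LD3_c48))))))
theorem f34381 : Led Lsl_bf (LP (LK LD1_c15 LD2_c10 LD3_c48)) = (LP (LK LD1_c15 LD2_c13 LD3_c54)) :=
  Lgr Lrot93 (Lpe (f34175 IH) (Lpr_bt (f33808 IH) (Lpr_dt (f34340 IH) (Lpn (LP (LK LD1_c15 LD2_c13 LD3_c54))))))
theorem f34137 : Led Lsl_at (LP (LK LD1_c15 LD2_c12 LD3_c15)) = (LP (LK LD1_c8 LD2_c4 LD3_c30)) :=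
  Lre_a IH (LK LD1_c15 LD2_c12 LD3_c15) (LK LD1_c8 LD2_c4 LD3_c30) Lrfl Lrfl
theorem f34138 : Led Lsl_at (LP (LK LD1_c8 LD2_c3 LD3_c50)) = (LP (LK LD1_c15 LD2_c10 LD3_c48)) :=
  Lre_a IH (LK LD1_c8 LD2_c3 LD3_c50) (LK LD1_c15 LD2_c10 LD3_c48) Lrfl Lrfl
theorem f34139 : Led Lsl_ff (LP (LK LD1_c15 LD2_c12 LD3_c15)) = (LP (LK LD1_c15 LD2_c10 LD3_c48)) :=
  Lgr Lrot30 (Lpr_at (f34137 IH) (Lpr_ft (f34101 IH) (Lpr_at (f34138 IH) (Lpn (LP (LK LD1_c15 LD2_c10 LD3_c48))))))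
theorem f21644 : Led Lsl_ft (LP (LK LD1_c10 LD2_c9 LD3_c2)) = (LP (LK LD1_c5 LD2_c9 LD3_c17)) :=
  Lre_f IH (LK LD1_c10 LD2_c9 LD3_c2) (LK LD1_c5 LD2_c9 LD3_c17) Lrfl Lrfl
theorem f34342 : Led Lsl_ft (LP (LK LD1_c10 LD2_c9 LD3_c13)) = (LP (LK LD1_c15 LD2_c13 LD3_c54)) :=
  Lgr Lrot54 (Lpe (f21619 IH) (Lpe (f21644 IH) (Lpr_df (f34328 IH) (Lpn (LP (LK LD1_c15 LD2_c13 LD3_c54))))))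
theorem f34392 : Led Lsl_bt (LP (LK LD1_c15 LD2_c12 LD3_c15)) = (LP (LK LD1_c10 LD2_c9 LD3_c13)) :=
  Lgr Lrot35 (Lpr_ff (f34139 IH) (Lpr_bf (f34381 IH) (Lpe (f34342 IH) (Lpn (LP (LK LD1_c10 LD2_c9 LD3_c13))))))
theorem f34172 : Led Lsl_et (LP (LK LD1_c25 LD2_c1 LD3_c16)) = (LP (LK LD1_c15 LD2_c12 LD3_c15)) :=
  Lre_e IH (LK LD1_c25 LD2_c1 LD3_c16) (LK LD1_c15 LD2_c12 LD3_c15) Lrfl Lrfl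
theorem f21620 : Led Lsl_et (LP (LK LD1_c10 LD2_c9 LD3_c13)) = (LP (LK LD1_c18 LD2_c29 LD3_c44)) :=
  Lre_e IH (LK LD1_c10 LD2_c9 LD3_c13) (LK LD1_c18 LD2_c29 LD3_c44) Lrfl Lrfl
theorem f34396 : Led Lsl_bf (LP (LK LD1_c25 LD2_c1 LD3_c16)) = (LP (LK LD1_c18 LD2_c29 LD3_c44)) :=
  Lgr Lrot96 (Lpr_et (f34172 IH) (Lpr_bt (f34392 IH) (Lpr_et (f21620 IH) (Lpn (LP (LK LD1_c18 LD2_c29 LD3_c44))))))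
theorem f34400 : Led Lsl_bt (LP (LK LD1_c25 LD2_c1 LD3_c16)) = (LP (LK LD1_c18 LD2_c29 LD3_c44)) :=
  Lgr Lrot127 (Lpr_bf (f34396 IH) (Lpn (LP (LK LD1_c18 LD2_c29 LD3_c44))))
theorem f34402 : Led Lsl_at (LP (LK LD1_c15 LD2_c12 LD3_c19)) = (LP (LK LD1_c25 LD2_c1 LD3_c16)) :=
  Lre_a IH (LK LD1_c15 LD2_c12 LD3_c19) (LK LD1_c25 LD2_c1 LD3_c16) Lrfl Lrfl
theorem f34131 : Led Lsl_bt (LP (LK LD1_c8 LD2_c4 LD3_c34)) = (LP (LK LD1_c15 LD2_c12 LD3_c19)) :=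
  Lre_b IH (LK LD1_c8 LD2_c4 LD3_c34) (LK LD1_c15 LD2_c12 LD3_c19) Lrfl Lrfl
theorem f34403 : Led Lsl_af (LP (LK LD1_c8 LD2_c4 LD3_c34)) = (LP (LK LD1_c5 LD2_c9 LD3_c22)) :=
  Lgr Lrot36 (Lpr_bt (f34131 IH) (Lpr_at (f34402 IH) (Lpr_bt (f34400 IH) (Lpr_at (K0.f21658 IH) (Lpr_bt (f21704 IH) (Lpn (LP (LK LD1_c5 LD2_c9 LD3_c22))))))))
theorem f34103 : Led Lsl_ft (LP (LK LD1_c8 LD2_c4 LD3_c34)) = (LP (LK LD1_c15 LD2_c12 LD3_c27)) :=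
  Lre_f IH (LK LD1_c8 LD2_c4 LD3_c34) (LK LD1_c15 LD2_c12 LD3_c27) Lrfl Lrfl
theorem f34407 : Led Lsl_at (LP (LK LD1_c15 LD2_c12 LD3_c27)) = (LP (LK LD1_c10 LD2_c9 LD3_c25)) :=
  Lgr Lrot66 (Lpe (f34103 IH) (Lpr_af (f34403 IH) (Lpe (K0.f21701 IH) (Lpn (LP (LK LD1_c10 LD2_c9 LD3_c25))))))
theorem f33687 : Led Lsl_et (LP (LK LD1_c4 LD2_c1 LD3_c55)) = (LP (LK LD1_c8 LD2_c4 LD3_c34)) :=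
  Lre_e IH (LK LD1_c4 LD2_c1 LD3_c55) (LK LD1_c8 LD2_c4 LD3_c34) Lrfl Lrfl
theorem f34087 : Led Lsl_et (LP (LK LD1_c8 LD2_c3 LD3_c51)) = (LP (LK LD1_c4 LD2_c1 LD3_c36)) :=
  Lre_e IH (LK LD1_c8 LD2_c3 LD3_c51) (LK LD1_c4 LD2_c1 LD3_c36) Lrfl Lrfl
theorem f34104 : Led Lsl_ft (LP (LK LD1_c15 LD2_c10 LD3_c53)) = (LP (LK LD1_c8 LD2_c3 LD3_c51)) :=
  Lre_f IH (LK LD1_c15 LD2_c10 LD3_c53) (LK LD1_c8 LD2_c3 LD3_c51) Lrfl Lrfl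
theorem f34105 : Led Lsl_et (LP (LK LD1_c15 LD2_c12 LD3_c27)) = (LP (LK LD1_c15 LD2_c10 LD3_c53)) :=
  Lgr Lrot69 (Lpe (f34103 IH) (Lpe (f33687 IH) (Lpr_ff (f34092 IH) (Lpe (f34087 IH) (Lpe (f34104 IH) (Lpn (LP (LK LD1_c15 LD2_c10 LD3_c53))))))))
theorem f34115 : Led Lsl_ct (LP (LK LD1_c15 LD2_c10 LD3_c53)) = (LP (LK LD1_c8 LD2_c3 LD3_c54)) :=
  Lre_c IH (LK LD1_c15 LD2_c10 LD3_c53) (LK LD1_c8 LD2_c3 LD3_c54) Lrfl Lrfl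
theorem f34116 : Led Lsl_et (LP (LK LD1_c8 LD2_c3 LD3_c54)) = (LP (LK LD1_c15 LD2_c10 LD3_c59)) :=
  Lre_e IH (LK LD1_c8 LD2_c3 LD3_c54) (LK LD1_c15 LD2_c10 LD3_c59) Lrfl Lrfl
theorem f34117 : Led Lsl_cf (LP (LK LD1_c15 LD2_c12 LD3_c27)) = (LP (LK LD1_c15 LD2_c10 LD3_c59)) :=
  Lgr Lrot39 (Lpr_et (f34105 IH) (Lpr_ct (f34115 IH) (Lpr_et (f34116 IH) (Lpn (LP (LK LD1_c15 LD2_c10 LD3_c59))))))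
theorem f34218 : Led Lsl_ct (LP (LK LD1_c8 LD2_c5 LD3_c23)) = (LP (LK LD1_c15 LD2_c13 LD3_c59)) :=
  Lre_c IH (LK LD1_c8 LD2_c5 LD3_c23) (LK LD1_c15 LD2_c13 LD3_c59) Lrfl Lrfl
theorem f34219 : Led Lsl_et (LP (LK LD1_c15 LD2_c14 LD3_c4)) = (LP (LK LD1_c8 LD2_c5 LD3_c23)) :=
  Lre_e IH (LK LD1_c15 LD2_c14 LD3_c4) (LK LD1_c8 LD2_c5 LD3_c23) Lrfl Lrfl
theorem f34220 : Led Lsl_ct (LP (LK LD1_c10 LD2_c9 LD3_c25)) = (LP (LK LD1_c15 LD2_c14 LD3_c4)) :=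
  Lgr Lrot15 (Lpr_ef (f34210 IH) (Lpe (f34218 IH) (Lpe (f34219 IH) (Lpn (LP (LK LD1_c15 LD2_c14 LD3_c4))))))
theorem f34415 : Led Lsl_af (LP (LK LD1_c15 LD2_c10 LD3_c59)) = (LP (LK LD1_c15 LD2_c14 LD3_c4)) :=
  Lgr Lrot68 (Lpe (f34117 IH) (Lpr_at (f34407 IH) (Lpr_ct (f34220 IH) (Lpn (LP (LK LD1_c15 LD2_c14 LD3_c4))))))
theorem f69895 : Led Lsl_df (LP (LK LD1_c21 LD2_c12 LD3_c38)) = (LP (LK LD1_c15 LD2_c10 LD3_c59)) :=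
  Lgr Lrot18 (Lpr_at (f69882 IH) (Lpr_dt (f34248 IH) (Lpe (f34415 IH) (Lpn (LP (LK LD1_c15 LD2_c10 LD3_c59))))))
theorem f69862 : Led Lsl_ct (LP (LK LD1_c21 LD2_c12 LD3_c38)) = (LP (LK LD1_c29 LD2_c54 LD3_c9)) :=
  Lre_c IH (LK LD1_c21 LD2_c12 LD3_c38) (LK LD1_c29 LD2_c54 LD3_c9) Lrfl Lrfl
theorem f34119 : Led Lsl_ef (LP (LK LD1_c15 LD2_c12 LD3_c27)) = (LP (LK LD1_c15 LD2_c10 LD3_c53)) :=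
  Lgr Lrot88 (Lpr_et (f34105 IH) (Lpn (LP (LK LD1_c15 LD2_c10 LD3_c53))))
theorem f34121 : Led Lsl_ct (LP (LK LD1_c8 LD2_c3 LD3_c54)) = (LP (LK LD1_c15 LD2_c10 LD3_c53)) :=
  Lre_c IH (LK LD1_c8 LD2_c3 LD3_c54) (LK LD1_c15 LD2_c10 LD3_c53) Lrfl Lrfl
theorem f34122 : Led Lsl_et (LP (LK LD1_c15 LD2_c10 LD3_c59)) = (LP (LK LD1_c8 LD2_c3 LD3_c54)) :=
  Lre_e IH (LK LD1_c15 LD2_c10 LD3_c59) (LK LD1_c8 LD2_c3 LD3_c54) Lrfl Lrfl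
theorem f34123 : Led Lsl_ct (LP (LK LD1_c15 LD2_c12 LD3_c27)) = (LP (LK LD1_c15 LD2_c10 LD3_c59)) :=
  Lgr Lrot15 (Lpr_ef (f34119 IH) (Lpe (f34121 IH) (Lpe (f34122 IH) (Lpn (LP (LK LD1_c15 LD2_c10 LD3_c59))))))
theorem f21690 : Led Lsl_bt (LP (LK LD1_c18 LD2_c29 LD3_c53)) = (LP (LK LD1_c10 LD2_c9 LD3_c25)) :=
  Lre_b IH (LK LD1_c18 LD2_c29 LD3_c53) (LK LD1_c10 LD2_c9 LD3_c25) Lrfl Lrfl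
theorem f3518 : Led Lsl_bt (LP (LK LD1_c9 LD2_c54 LD3_c41)) = (LP (LK LD1_c18 LD2_c8 LD3_c4)) :=
  Lre_b IH (LK LD1_c9 LD2_c54 LD3_c41) (LK LD1_c18 LD2_c8 LD3_c4) Lrfl Lrfl
theorem f21691 : Led Lsl_dt (LP (LK LD1_c10 LD2_c9 LD3_c25)) = (LP (LK LD1_c9 LD2_c54 LD3_c41)) :=
  Lgr Lrot79 (Lpe (f21690 IH) (Lpr_df (K0.f21678 IH) (Lpe (f3518 IH) (Lpn (LP (LK LD1_c9 LD2_c54 LD3_c41))))))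
theorem f3448 : Led Lsl_at (LP (LK LD1_c9 LD2_c54 LD3_c41)) = (LP (LK LD1_c18 LD2_c4 LD3_c13)) :=
  Lre_a IH (LK LD1_c9 LD2_c54 LD3_c41) (LK LD1_c18 LD2_c4 LD3_c13) Lrfl Lrfl
theorem f34417 : Led Lsl_df (LP (LK LD1_c15 LD2_c12 LD3_c27)) = (LP (LK LD1_c18 LD2_c4 LD3_c13)) :=
  Lgr Lrot18 (Lpr_at (f34407 IH) (Lpr_dt (f21691 IH) (Lpr_at (f3448 IH) (Lpn (LP (LK LD1_c18 LD2_c4 LD3_c13))))))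
theorem f3355 : Led Lsl_ft (LP (LK LD1_c2 LD2_c28 LD3_c37)) = (LP (LK LD1_c5 LD2_c2 LD3_c0)) :=
  Lre_f IH (LK LD1_c2 LD2_c28 LD3_c37) (LK LD1_c5 LD2_c2 LD3_c0) Lrfl Lrfl
theorem f3356 : Led Lsl_ct (LP (LK LD1_c5 LD2_c1 LD3_c60)) = (LP (LK LD1_c2 LD2_c28 LD3_c37)) :=
  Lre_c IH (LK LD1_c5 LD2_c1 LD3_c60) (LK LD1_c2 LD2_c28 LD3_c37) Lrfl Lrfl
theorem f3357 : Led Lsl_ff (LP (LK LD1_c5 LD2_c1 LD3_c60)) = (LP (LK LD1_c5 LD2_c0 LD3_c54)) :=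
  Lgr Lrot23 (Lpr_ct (f3356 IH) (Lpr_ft (f3355 IH) (Lpr_ct (K0.f3325 IH) (Lpn (LP (LK LD1_c5 LD2_c0 LD3_c54))))))
theorem f3387 : Led Lsl_ft (LP (LK LD1_c5 LD2_c1 LD3_c60)) = (LP (LK LD1_c5 LD2_c0 LD3_c54)) :=
  Lgr Lrot48 (Lpr_ff (f3357 IH) (Lpn (LP (LK LD1_c5 LD2_c0 LD3_c54))))
theorem f3416 : Led Lsl_et (LP (LK LD1_c9 LD2_c54 LD3_c38)) = (LP (LK LD1_c5 LD2_c1 LD3_c60)) :=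
  Lre_e IH (LK LD1_c9 LD2_c54 LD3_c38) (LK LD1_c5 LD2_c1 LD3_c60) Lrfl Lrfl
theorem f3417 : Led Lsl_ft (LP (LK LD1_c18 LD2_c8 LD3_c27)) = (LP (LK LD1_c9 LD2_c54 LD3_c38)) :=
  Lre_f IH (LK LD1_c18 LD2_c8 LD3_c27) (LK LD1_c9 LD2_c54 LD3_c38) Lrfl Lrfl
theorem f3352 : Led Lsl_et (LP (LK LD1_c5 LD2_c0 LD3_c54)) = (LP (LK LD1_c9 LD2_c52 LD3_c15)) :=
  Lre_e IH (LK LD1_c5 LD2_c0 LD3_c54) (LK LD1_c9 LD2_c52 LD3_c15) Lrfl Lrfl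
theorem f3418 : Led Lsl_ft (LP (LK LD1_c9 LD2_c52 LD3_c15)) = (LP (LK LD1_c18 LD2_c4 LD3_c13)) :=
  Lre_f IH (LK LD1_c9 LD2_c52 LD3_c15) (LK LD1_c18 LD2_c4 LD3_c13) Lrfl Lrfl
theorem f3419 : Led Lsl_ef (LP (LK LD1_c18 LD2_c8 LD3_c27)) = (LP (LK LD1_c18 LD2_c4 LD3_c13)) :=
  Lgr Lrot21 (Lpr_ft (f3417 IH) (Lpr_et (f3416 IH) (Lpr_ft (f3387 IH) (Lpr_et (f3352 IH) (Lpr_ft (f3418 IH) (Lpn (LP (LK LD1_c18 LD2_c4 LD3_c13))))))))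
theorem f3452 : Led Lsl_ct (LP (LK LD1_c18 LD2_c8 LD3_c27)) = (LP (LK LD1_c9 LD2_c54 LD3_c41)) :=
  Lre_c IH (LK LD1_c18 LD2_c8 LD3_c27) (LK LD1_c9 LD2_c54 LD3_c41) Lrfl Lrfl
theorem f3453 : Led Lsl_et (LP (LK LD1_c9 LD2_c54 LD3_c41)) = (LP (LK LD1_c18 LD2_c8 LD3_c35)) :=
  Lre_e IH (LK LD1_c9 LD2_c54 LD3_c41) (LK LD1_c18 LD2_c8 LD3_c35) Lrfl Lrfl
theorem f3454 : Led Lsl_ct (LP (LK LD1_c18 LD2_c8 LD3_c35)) = (LP (LK LD1_c18 LD2_c4 LD3_c13)) :=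
  Lgr Lrot15 (Lpe (f3453 IH) (Lpe (f3452 IH) (Lpr_ef (f3419 IH) (Lpn (LP (LK LD1_c18 LD2_c4 LD3_c13))))))
theorem f3460 : Led Lsl_dt (LP (LK LD1_c27 LD2_c48 LD3_c52)) = (LP (LK LD1_c18 LD2_c8 LD3_c35)) :=
  Lre_d IH (LK LD1_c27 LD2_c48 LD3_c52) (LK LD1_c18 LD2_c8 LD3_c35) Lrfl Lrfl
theorem f3463 : Led Lsl_ft (LP (LK LD1_c27 LD2_c48 LD3_c52)) = (LP (LK LD1_c18 LD2_c8 LD3_c38)) :=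
  Lre_f IH (LK LD1_c27 LD2_c48 LD3_c52) (LK LD1_c18 LD2_c8 LD3_c38) Lrfl Lrfl
theorem f3458 : Led Lsl_cf (LP (LK LD1_c18 LD2_c8 LD3_c35)) = (LP (LK LD1_c18 LD2_c4 LD3_c13)) :=
  Lgr Lrot11 (Lpr_ct (f3454 IH) (Lpn (LP (LK LD1_c18 LD2_c4 LD3_c13))))
theorem f3477 : Led Lsl_ft (LP (LK LD1_c18 LD2_c8 LD3_c35)) = (LP (LK LD1_c9 LD2_c54 LD3_c42)) :=
  Lre_f IH (LK LD1_c18 LD2_c8 LD3_c35) (LK LD1_c9 LD2_c54 LD3_c42) Lrfl Lrfl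
theorem f3478 : Led Lsl_ct (LP (LK LD1_c9 LD2_c54 LD3_c42)) = (LP (LK LD1_c9 LD2_c52 LD3_c15)) :=
  Lgr Lrot40 (Lpe (f3477 IH) (Lpr_cf (f3458 IH) (Lpe (f3418 IH) (Lpn (LP (LK LD1_c9 LD2_c52 LD3_c15))))))
theorem f3486 : Led Lsl_at (LP (LK LD1_c9 LD2_c52 LD3_c15)) = (LP (LK LD1_c5 LD2_c1 LD3_c61)) :=
  Lre_a IH (LK LD1_c9 LD2_c52 LD3_c15) (LK LD1_c5 LD2_c1 LD3_c61) Lrfl Lrfl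
theorem f3487 : Led Lsl_ct (LP (LK LD1_c5 LD2_c1 LD3_c61)) = (LP (LK LD1_c9 LD2_c54 LD3_c38)) :=
  Lre_c IH (LK LD1_c5 LD2_c1 LD3_c61) (LK LD1_c9 LD2_c54 LD3_c38) Lrfl Lrfl
theorem f3488 : Led Lsl_af (LP (LK LD1_c9 LD2_c54 LD3_c42)) = (LP (LK LD1_c9 LD2_c54 LD3_c38)) :=
  Lgr Lrot68 (Lpr_ct (f3478 IH) (Lpr_at (f3486 IH) (Lpr_ct (f3487 IH) (Lpn (LP (LK LD1_c9 LD2_c54 LD3_c38))))))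
theorem f3407 : Led Lsl_dt (LP (LK LD1_c9 LD2_c54 LD3_c42)) = (LP (LK LD1_c18 LD2_c8 LD3_c38)) :=
  Lre_d IH (LK LD1_c9 LD2_c54 LD3_c42) (LK LD1_c18 LD2_c8 LD3_c38) Lrfl Lrfl
theorem f3509 : Led Lsl_dt (LP (LK LD1_c18 LD2_c8 LD3_c26)) = (LP (LK LD1_c9 LD2_c54 LD3_c38)) :=
  Lre_d IH (LK LD1_c18 LD2_c8 LD3_c26) (LK LD1_c9 LD2_c54 LD3_c38) Lrfl Lrfl
theorem f3510 : Led Lsl_at (LP (LK LD1_c18 LD2_c8 LD3_c38)) = (LP (LK LD1_c18 LD2_c8 LD3_c26)) :=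
  Lgr Lrot51 (Lpe (f3407 IH) (Lpr_af (f3488 IH) (Lpe (f3509 IH) (Lpn (LP (LK LD1_c18 LD2_c8 LD3_c26))))))
theorem f3529 : Led Lsl_ct (LP (LK LD1_c27 LD2_c48 LD3_c43)) = (LP (LK LD1_c18 LD2_c8 LD3_c26)) :=
  Lre_c IH (LK LD1_c27 LD2_c48 LD3_c43) (LK LD1_c18 LD2_c8 LD3_c26) Lrfl Lrfl
theorem f69903 : Led Lsl_dt (LP (LK LD1_c29 LD2_c54 LD3_c9)) = (LP (LK LD1_c27 LD2_c48 LD3_c43)) :=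
  Lgr Lrot120 (Lpe (f69862 IH) (Lpr_df (f69895 IH) (Lpe (f34123 IH) (Lpr_df (f34417 IH) (Lpe (f3454 IH) (Lpe (f3460 IH) (Lpr_ft (f3463 IH) (Lpr_at (f3510 IH) (Lpe (f3529 IH) (Lpn (LP (LK LD1_c27 LD2_c48 LD3_c43))))))))))))
theorem f69866 : Led Lsl_ft (LP (LK LD1_c29 LD2_c54 LD3_c9)) = (LP (LK LD1_c21 LD2_c12 LD3_c46)) :=
  Lre_f IH (LK LD1_c29 LD2_c54 LD3_c9) (LK LD1_c21 LD2_c12 LD3_c46) Lrfl Lrfl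
theorem f3556 : Led Lsl_ct (LP (LK LD1_c9 LD2_c54 LD3_c38)) = (LP (LK LD1_c5 LD2_c1 LD3_c61)) :=
  Lre_c IH (LK LD1_c9 LD2_c54 LD3_c38) (LK LD1_c5 LD2_c1 LD3_c61) Lrfl Lrfl
theorem f21663 : Led Lsl_bt (LP (LK LD1_c5 LD2_c9 LD3_c22)) = (LP (LK LD1_c10 LD2_c9 LD3_c17)) :=
  Lre_b IH (LK LD1_c5 LD2_c9 LD3_c22) (LK LD1_c10 LD2_c9 LD3_c17) Lrfl Lrfl
theorem f21664 : Led Lsl_bt (LP (LK LD1_c9 LD2_c54 LD3_c30)) = (LP (LK LD1_c5 LD2_c1 LD3_c61)) :=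
  Lre_b IH (LK LD1_c9 LD2_c54 LD3_c30) (LK LD1_c5 LD2_c1 LD3_c61) Lrfl Lrfl
theorem f21665 : Led Lsl_df (LP (LK LD1_c5 LD2_c9 LD3_c22)) = (LP (LK LD1_c5 LD2_c1 LD3_c61)) :=
  Lgr Lrot12 (Lpr_bt (f21663 IH) (Lpr_dt (K0.f21660 IH) (Lpr_bt (f21664 IH) (Lpn (LP (LK LD1_c5 LD2_c1 LD3_c61))))))
theorem f34260 : Led Lsl_dt (LP (LK LD1_c8 LD2_c5 LD3_c24)) = (LP (LK LD1_c15 LD2_c14 LD3_c7)) :=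
  Lre_d IH (LK LD1_c8 LD2_c5 LD3_c24) (LK LD1_c15 LD2_c14 LD3_c7) Lrfl Lrfl
theorem f69913 : Led Lsl_cf (LP (LK LD1_c21 LD2_c12 LD3_c45)) = (LP (LK LD1_c15 LD2_c14 LD3_c7)) :=
  Lgr Lrot102 (Lpe (f69848 IH) (Lpe (f69866 IH) (Lpr_dt (f69903 IH) (Lpr_ct (f3529 IH) (Lpr_dt (f3509 IH) (Lpr_ct (f3556 IH) (Lpe (f21665 IH) (Lpr_ct (f34250 IH) (Lpr_dt (f34260 IH) (Lpn (LP (LK LD1_c15 LD2_c14 LD3_c7))))))))))))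
theorem f69915 : Led Lsl_ct (LP (LK LD1_c29 LD2_c54 LD3_c16)) = (LP (LK LD1_c25 LD2_c3 LD3_c10)) :=
  Lgr Lrot40 (Lpe (f69867 IH) (Lpr_cf (f69913 IH) (Lpe (f34252 IH) (Lpn (LP (LK LD1_c25 LD2_c3 LD3_c10))))))
theorem f69982 : Led Lsl_ct (LP (LK LD1_c16 LD2_c23 LD3_c42)) = (LP (LK LD1_c26 LD2_c21 LD3_c42)) :=
  Lre_c IH (LK LD1_c16 LD2_c23 LD3_c42) (LK LD1_c26 LD2_c21 LD3_c42) Lrfl Lrfl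
theorem f69983 : Led Lsl_et (LP (LK LD1_c25 LD2_c3 LD3_c10)) = (LP (LK LD1_c16 LD2_c23 LD3_c42)) :=
  Lgr Lrot158 (Lpe (f69915 IH) (Lpr_ef (f69978 IH) (Lpe (f69982 IH) (Lpn (LP (LK LD1_c16 LD2_c23 LD3_c42))))))
theorem f69930 : Led Lsl_ft (LP (LK LD1_c15 LD2_c14 LD3_c7)) = (LP (LK LD1_c25 LD2_c3 LD3_c10)) :=
  Lre_f IH (LK LD1_c15 LD2_c14 LD3_c7) (LK LD1_c25 LD2_c3 LD3_c10) Lrfl Lrfl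
theorem f69995 : Led Lsl_ft (LP (LK LD1_c16 LD2_c23 LD3_c42)) = (LP (LK LD1_c8 LD2_c45 LD3_c31)) :=
  Lre_f IH (LK LD1_c16 LD2_c23 LD3_c42) (LK LD1_c8 LD2_c45 LD3_c31) Lrfl Lrfl
theorem f69996 : Led Lsl_et (LP (LK LD1_c8 LD2_c45 LD3_c31)) = (LP (LK LD1_c4 LD2_c23 LD3_c51)) :=
  Lre_e IH (LK LD1_c8 LD2_c45 LD3_c31) (LK LD1_c4 LD2_c23 LD3_c51) Lrfl Lrfl
theorem f69997 : Led Lsl_ff (LP (LK LD1_c8 LD2_c5 LD3_c25)) = (LP (LK LD1_c4 LD2_c23 LD3_c51)) :=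
  Lgr Lrot72 (Lpr_et (f69878 IH) (Lpr_ft (f69930 IH) (Lpr_et (f69983 IH) (Lpr_ft (f69995 IH) (Lpr_et (f69996 IH) (Lpn (LP (LK LD1_c4 LD2_c23 LD3_c51))))))))
theorem f69836 : Led Lsl_af (LP (LK LD1_c6 LD2_c14 LD3_c2)) = (LP (LK LD1_c8 LD2_c5 LD3_c25)) :=
  Lgr Lrot68 (Lpr_ct (f37245 IH) (Lpr_at (f69828 IH) (Lpe (f69821 IH) (Lpn (LP (LK LD1_c8 LD2_c5 LD3_c25))))))
theorem f37249 : Led Lsl_ft (LP (LK LD1_c6 LD2_c14 LD3_c2)) = (LP (LK LD1_c3 LD2_c3 LD3_c51)) :=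
  Lre_f IH (LK LD1_c6 LD2_c14 LD3_c2) (LK LD1_c3 LD2_c3 LD3_c51) Lrfl Lrfl
theorem f69999 : Led Lsl_at (LP (LK LD1_c3 LD2_c3 LD3_c51)) = (LP (LK LD1_c4 LD2_c23 LD3_c51)) :=
  Lgr Lrot66 (Lpe (f37249 IH) (Lpr_af (f69836 IH) (Lpr_ff (f69997 IH) (Lpn (LP (LK LD1_c4 LD2_c23 LD3_c51))))))
theorem f70114 : Led Lsl_et (LP (LK LD1_c6 LD2_c13 LD3_c59)) = (LP (LK LD1_c3 LD2_c3 LD3_c51)) :=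
  Lre_e IH (LK LD1_c6 LD2_c13 LD3_c59) (LK LD1_c3 LD2_c3 LD3_c51) Lrfl Lrfl
theorem f70115 : Led Lsl_et (LP (LK LD1_c4 LD2_c23 LD3_c51)) = (LP (LK LD1_c8 LD2_c45 LD3_c31)) :=
  Lre_e IH (LK LD1_c4 LD2_c23 LD3_c51) (LK LD1_c8 LD2_c45 LD3_c31) Lrfl Lrfl
theorem f70116 : Led Lsl_af (LP (LK LD1_c6 LD2_c13 LD3_c59)) = (LP (LK LD1_c8 LD2_c45 LD3_c31)) :=
  Lgr Lrot50 (Lpr_et (f70114 IH) (Lpr_at (f69999 IH) (Lpr_et (f70115 IH) (Lpn (LP (LK LD1_c8 LD2_c45 LD3_c31))))))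
theorem f70129 : Led Lsl_ft (LP (LK LD1_c6 LD2_c13 LD3_c59)) = (LP (LK LD1_c12 LD2_c6 LD3_c35)) :=
  Lre_f IH (LK LD1_c6 LD2_c13 LD3_c59) (LK LD1_c12 LD2_c6 LD3_c35) Lrfl Lrfl
theorem f70130 : Led Lsl_at (LP (LK LD1_c12 LD2_c6 LD3_c35)) = (LP (LK LD1_c16 LD2_c23 LD3_c42)) :=
  Lgr Lrot66 (Lpe (f70129 IH) (Lpr_af (f70116 IH) (Lpe (f69995 IH) (Lpn (LP (LK LD1_c16 LD2_c23 LD3_c42))))))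
theorem f69924 : Led Lsl_dt (LP (LK LD1_c6 LD2_c13 LD3_c60)) = (LP (LK LD1_c12 LD2_c6 LD3_c35)) :=
  Lre_d IH (LK LD1_c6 LD2_c13 LD3_c60) (LK LD1_c12 LD2_c6 LD3_c35) Lrfl Lrfl
theorem f69988 : Led Lsl_dt (LP (LK LD1_c16 LD2_c23 LD3_c42)) = (LP (LK LD1_c8 LD2_c45 LD3_c32)) :=
  Lre_d IH (LK LD1_c16 LD2_c23 LD3_c42) (LK LD1_c8 LD2_c45 LD3_c32) Lrfl Lrfl
theorem f70137 : Led Lsl_af (LP (LK LD1_c6 LD2_c13 LD3_c60)) = (LP (LK LD1_c8 LD2_c45 LD3_c32)) :=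
  Lgr Lrot117 (Lpr_dt (f69924 IH) (Lpr_at (f70130 IH) (Lpr_dt (f69988 IH) (Lpn (LP (LK LD1_c8 LD2_c45 LD3_c32))))))
theorem f70139 : Led Lsl_at (LP (LK LD1_c6 LD2_c13 LD3_c60)) = (LP (LK LD1_c8 LD2_c45 LD3_c32)) :=
  Lgr Lrot100 (Lpr_af (f70137 IH) (Lpn (LP (LK LD1_c8 LD2_c45 LD3_c32))))
theorem f70150 : Led Lsl_ft (LP (LK LD1_c3 LD2_c3 LD3_c50)) = (LP (LK LD1_c6 LD2_c13 LD3_c60)) :=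
  Lre_f IH (LK LD1_c3 LD2_c3 LD3_c50) (LK LD1_c6 LD2_c13 LD3_c60) Lrfl Lrfl
theorem f70151 : Led Lsl_ft (LP (LK LD1_c8 LD2_c45 LD3_c32)) = (LP (LK LD1_c4 LD2_c23 LD3_c50)) :=
  Lre_f IH (LK LD1_c8 LD2_c45 LD3_c32) (LK LD1_c4 LD2_c23 LD3_c50) Lrfl Lrfl
theorem f70152 : Led Lsl_af (LP (LK LD1_c3 LD2_c3 LD3_c50)) = (LP (LK LD1_c4 LD2_c23 LD3_c50)) :=
  Lgr Lrot45 (Lpr_ft (f70150 IH) (Lpr_at (f70139 IH) (Lpr_ft (f70151 IH) (Lpn (LP (LK LD1_c4 LD2_c23 LD3_c50))))))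
theorem f70163 : Led Lsl_et (LP (LK LD1_c3 LD2_c3 LD3_c50)) = (LP (LK LD1_c1 LD2_c27 LD3_c58)) :=
  Lre_e IH (LK LD1_c3 LD2_c3 LD3_c50) (LK LD1_c1 LD2_c27 LD3_c58) Lrfl Lrfl
theorem f35873 : Led Lsl_et (LP (LK LD1_c2 LD2_c9 LD3_c18)) = (LP (LK LD1_c4 LD2_c23 LD3_c50)) :=
  Lre_e IH (LK LD1_c2 LD2_c9 LD3_c18) (LK LD1_c4 LD2_c23 LD3_c50) Lrfl Lrfl
theorem f70164 : Led Lsl_at (LP (LK LD1_c1 LD2_c27 LD3_c58)) = (LP (LK LD1_c2 LD2_c9 LD3_c18)) :=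
  Lgr Lrot80 (Lpe (f70163 IH) (Lpr_af (f70152 IH) (Lpe (f35873 IH) (Lpn (LP (LK LD1_c2 LD2_c9 LD3_c18))))))
theorem f59176 : Led Lsl_dt (LP (LK LD1_c0 LD2_c40 LD3_c41)) = (LP (LK LD1_c1 LD2_c27 LD3_c58)) :=
  Lre_d IH (LK LD1_c0 LD2_c40 LD3_c41) (LK LD1_c1 LD2_c27 LD3_c58) Lrfl Lrfl
theorem f35872 : Led Lsl_dt (LP (LK LD1_c2 LD2_c9 LD3_c18)) = (LP (LK LD1_c1 LD2_c1 LD3_c48)) :=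
  Lre_d IH (LK LD1_c2 LD2_c9 LD3_c18) (LK LD1_c1 LD2_c1 LD3_c48) Lrfl Lrfl
theorem f70179 : Led Lsl_af (LP (LK LD1_c0 LD2_c40 LD3_c41)) = (LP (LK LD1_c1 LD2_c1 LD3_c48)) :=
  Lgr Lrot117 (Lpr_dt (f59176 IH) (Lpr_at (f70164 IH) (Lpr_dt (f35872 IH) (Lpn (LP (LK LD1_c1 LD2_c1 LD3_c48))))))
theorem f59163 : Led Lsl_dt (LP (LK LD1_c0 LD2_c30 LD3_c22)) = (LP (LK LD1_c0 LD2_c17 LD3_c25)) :=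
  Lgr Lrot42 (Lpr_df (K1.f59159 IH) (Lpn (LP (LK LD1_c0 LD2_c17 LD3_c25))))
theorem f35386 : Led Lsl_ef (LP (LK LD1_c0 LD2_c17 LD3_c25)) = (LP (LK LD1_c0 LD2_c17 LD3_c25)) :=
  Lgr Lrot28 (Lpr_ct (K0.f35368 IH) (Lpr_et (K1.f35380 IH) (Lpe (K0.f35347 IH) (Lpn (LP (LK LD1_c0 LD2_c17 LD3_c25))))))
theorem f35372 : Led Lsl_af (LP (LK LD1_c0 LD2_c17 LD3_c25)) = (LP (LK LD1_c0 LD2_c17 LD3_c53)) :=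
  Lgr Lrot45 (Lpr_ft (K0.f34690 IH) (Lpe (K0.f33662 IH) (Lpr_ft (K0.f35370 IH) (Lpn (LP (LK LD1_c0 LD2_c17 LD3_c53))))))
theorem f35388 : Led Lsl_at (LP (LK LD1_c0 LD2_c17 LD3_c25)) = (LP (LK LD1_c0 LD2_c17 LD3_c53)) :=
  Lgr Lrot80 (Lpr_ef (f35386 IH) (Lpr_af (f35372 IH) (Lpe (K1.f35380 IH) (Lpn (LP (LK LD1_c0 LD2_c17 LD3_c53))))))
theorem f59181 : Led Lsl_dt (LP (LK LD1_c0 LD2_c40 LD3_c43)) = (LP (LK LD1_c1 LD2_c28 LD3_c2)) :=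
  Lre_d IH (LK LD1_c0 LD2_c40 LD3_c43) (LK LD1_c1 LD2_c28 LD3_c2) Lrfl Lrfl
theorem f59182 : Led Lsl_ct (LP (LK LD1_c1 LD2_c28 LD3_c2)) = (LP (LK LD1_c2 LD2_c9 LD3_c18)) :=
  Lgr Lrot41 (Lpe (f59181 IH) (Lpe (K1.f59180 IH) (Lpr_df (K1.f36613 IH) (Lpr_ft (K0.f35378 IH) (Lpr_at (f35388 IH) (Lpe (K0.f35368 IH) (Lpe (f59163 IH) (Lpr_cf (K1.f59170 IH) (Lpe (f35872 IH) (Lpn (LP (LK LD1_c2 LD2_c9 LD3_c18))))))))))))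
theorem f70182 : Led Lsl_ft (LP (LK LD1_c0 LD2_c40 LD3_c43)) = (LP (LK LD1_c1 LD2_c1 LD3_c48)) :=
  Lgr Lrot142 (Lpr_dt (f59181 IH) (Lpr_ct (f59182 IH) (Lpr_dt (f35872 IH) (Lpe (K1.f59170 IH) (Lpr_dt (f59163 IH) (Lpr_ct (K0.f35368 IH) (Lpr_dt (K1.f37186 IH) (Lpr_ct (K1.f36639 IH) (Lpr_af (f70179 IH) (Lpn (LP (LK LD1_c1 LD2_c1 LD3_c48))))))))))))
theorem f70190 : Led Lsl_gt (LP (LK LD1_c0 LD2_c40 LD3_c43)) = (LP (LK LD1_c0 LD2_c54 LD3_c31)) :=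
  Lgr Lrot5 (Lpr_ft (f70182 IH) (Lpe (f70179 IH) (Lpr_gf (K1.f59330 IH) (Lpn (LP (LK LD1_c0 LD2_c54 LD3_c31))))))
theorem f59694 : Led Lsl_dt (LP (LK LD1_c1 LD2_c28 LD3_c2)) = (LP (LK LD1_c0 LD2_c40 LD3_c43)) :=
  Lre_d IH (LK LD1_c1 LD2_c28 LD3_c2) (LK LD1_c0 LD2_c40 LD3_c43) Lrfl Lrfl
theorem f38236 : Led Lsl_cf (LP (LK LD1_c1 LD2_c2 LD3_c9)) = (LP (LK LD1_c1 LD2_c1 LD3_c61)) :=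
  Lgr Lrot11 (Lpr_ct (K1.f38002 IH) (Lpn (LP (LK LD1_c1 LD2_c1 LD3_c61))))
theorem f70192 : Led Lsl_gf (LP (LK LD1_c1 LD2_c28 LD3_c2)) = (LP (LK LD1_c1 LD2_c1 LD3_c61)) :=
  Lgr Lrot144 (Lpr_dt (f59694 IH) (Lpr_gt (f70190 IH) (Lpr_dt (K1.f59240 IH) (Lpe (K1.f59238 IH) (Lpe (K1.f38631 IH) (Lpr_gf (K1.f56591 IH) (Lpe (K1.f56593 IH) (Lpe (f69359 IH) (Lpr_cf (f38236 IH) (Lpn (LP (LK LD1_c1 LD2_c1 LD3_c61))))))))))))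
theorem f70211 : Led Lsl_gt (LP (LK LD1_c2 LD2_c9 LD3_c18)) = (LP (LK LD1_c1 LD2_c55 LD3_c38)) :=
  Lgr Lrot150 (Lpe (f59182 IH) (Lpr_gf (f70192 IH) (Lpe (K1.f34745 IH) (Lpr_gt (K1.f34741 IH) (Lpr_ct (K1.f29329 IH) (Lpr_gt (K1.f34707 IH) (Lpr_ct (K1.f27220 IH) (Lpe (K1.f34746 IH) (Lpr_cf (K1.f35670 IH) (Lpn (LP (LK LD1_c1 LD2_c55 LD3_c38))))))))))))
theorem f59354 : Led Lsl_ct (LP (LK LD1_c0 LD2_c28 LD3_c15)) = (LP (LK LD1_c0 LD2_c12 LD3_c29)) :=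
  Lre_c IH (LK LD1_c0 LD2_c28 LD3_c15) (LK LD1_c0 LD2_c12 LD3_c29) Lrfl Lrfl
theorem f70216 : Led Lsl_gt (LP (LK LD1_c1 LD2_c1 LD3_c48)) = (LP (LK LD1_c0 LD2_c28 LD3_c15)) :=
  Lgr Lrot9 (Lpe (f35872 IH) (Lpr_gt (f70211 IH) (Lpe (K1.f35670 IH) (Lpe (K1.f59681 IH) (Lpe (K1.f38625 IH) (Lpe (K1.f13646 IH) (Lpe (K1.f13645 IH) (Lpe (K1.f59351 IH) (Lpe (f59354 IH) (Lpn (LP (LK LD1_c0 LD2_c28 LD3_c15))))))))))))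
theorem f37326 : Led Lsl_dt (LP (LK LD1_c0 LD2_c32 LD3_c46)) = (LP (LK LD1_c1 LD2_c10 LD3_c42)) :=
  Lre_d IH (LK LD1_c0 LD2_c32 LD3_c46) (LK LD1_c1 LD2_c10 LD3_c42) Lrfl Lrfl
theorem f59184 : Led Lsl_gt (LP (LK LD1_c1 LD2_c10 LD3_c42)) = (LP (LK LD1_c2 LD2_c9 LD3_c18)) :=
  Lgr Lrot49 (Lpe (f37326 IH) (Lpe (K1.f37320 IH) (Lpe (K1.f24964 IH) (Lpr_gt (K1.f37962 IH) (Lpr_dt (K1.f35599 IH) (Lpr_gt (K0.f27226 IH) (Lpe (K1.f59159 IH) (Lpr_cf (K1.f59170 IH) (Lpe (f35872 IH) (Lpn (LP (LK LD1_c2 LD2_c9 LD3_c18))))))))))))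
theorem f36606 : Led Lsl_dt (LP (LK LD1_c0 LD2_c18 LD3_c15)) = (LP (LK LD1_c0 LD2_c40 LD3_c46)) :=
  Lre_d IH (LK LD1_c0 LD2_c18 LD3_c15) (LK LD1_c0 LD2_c40 LD3_c46) Lrfl Lrfl
theorem f70224 : Led Lsl_dt (LP (LK LD1_c0 LD2_c28 LD3_c15)) = (LP (LK LD1_c1 LD2_c1 LD3_c56)) :=
  Lre_d IH (LK LD1_c0 LD2_c28 LD3_c15) (LK LD1_c1 LD2_c1 LD3_c56) Lrfl Lrfl
theorem f70229 : Led Lsl_cf (LP (LK LD1_c0 LD2_c40 LD3_c46)) = (LP (LK LD1_c1 LD2_c1 LD3_c56)) :=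
  Lgr Lrot14 (Lpe (f36606 IH) (Lpr_gf (K1.f59355 IH) (Lpe (K1.f13644 IH) (Lpr_gf (K1.f35592 IH) (Lpr_ct (K1.f37446 IH) (Lpr_gt (f59184 IH) (Lpr_dt (f35872 IH) (Lpr_gt (f70216 IH) (Lpr_dt (f70224 IH) (Lpn (LP (LK LD1_c1 LD2_c1 LD3_c56))))))))))))
theorem f20994 : Led Lsl_ef (LP (LK LD1_c0 LD2_c1 LD3_c40)) = (LP (LK LD1_c0 LD2_c2 LD3_c48)) :=
  Lgr Lrot28 (Lpr_ct (K1.f7125 IH) (Lpr_et (K0.f7161 IH) (Lpqs (K0.f20991 IH) (Lpr_ct (K0.f7013 IH) (Lpn (LP (LK LD1_c0 LD2_c2 LD3_c48)))))))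
theorem f36409 : Led Lsl_bf (LP (LK LD1_c0 LD2_c2 LD3_c48)) = (LP (LK LD1_c0 LD2_c5 LD3_c42)) :=
  Lgr Lrot96 (Lpe (f20994 IH) (Lpr_bt (K1.f7155 IH) (Lpr_et (K1.f36407 IH) (Lpn (LP (LK LD1_c0 LD2_c5 LD3_c42))))))
theorem f37087 : Led Lsl_gt (LP (LK LD1_c0 LD2_c5 LD3_c13)) = (LP (LK LD1_c0 LD2_c3 LD3_c46)) :=
  Lgr Lrot149 (Lpe (K1.f28742 IH) (Lpr_gf (K1.f37081 IH) (Lpe (K1.f26027 IH) (Lpr_ct (K0.f26026 IH) (Lpe (K0.f7168 IH) (Lpe (K0.f6720 IH) (Lpr_bt (K1.f26016 IH) (Lpe (K0.f26019 IH) (Lpr_bf (f36409 IH) (Lpe (K1.f36599 IH) (Lpn (LP (LK LD1_c0 LD2_c3 LD3_c46)))))))))))))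
theorem f38004 : Led Lsl_dt (LP (LK LD1_c0 LD2_c40 LD3_c46)) = (LP (LK LD1_c0 LD2_c18 LD3_c15)) :=
  Lre_d IH (LK LD1_c0 LD2_c40 LD3_c46) (LK LD1_c0 LD2_c18 LD3_c15) Lrfl Lrfl
theorem f38005 : Led Lsl_gt (LP (LK LD1_c0 LD2_c28 LD3_c24)) = (LP (LK LD1_c0 LD2_c40 LD3_c46)) :=
  Lgr Lrot49 (Lpe (K0.f16621 IH) (Lpe (K1.f16641 IH) (Lpr_cf (K1.f37987 IH) (Lpr_gt (K1.f29559 IH) (Lpr_dt (K1.f29324 IH) (Lpr_gt (f37087 IH) (Lpr_dt (K1.f36604 IH) (Lpe (K1.f36615 IH) (Lpe (f38004 IH) (Lpn (LP (LK LD1_c0 LD2_c40 LD3_c46))))))))))))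
theorem f38015 : Led Lsl_gf (LP (LK LD1_c1 LD2_c2 LD3_c17)) = (LP (LK LD1_c0 LD2_c40 LD3_c46)) :=
  Lgr Lrot76 (Lpe (K0.f16144 IH) (Lpe (K0.f16617 IH) (Lpr_gt (f38005 IH) (Lpn (LP (LK LD1_c0 LD2_c40 LD3_c46))))))
theorem f36310 : Led Lsl_dt (LP (LK LD1_c0 LD2_c13 LD3_c30)) = (LP (LK LD1_c0 LD2_c6 LD3_c9)) :=
  Lre_d IH (LK LD1_c0 LD2_c13 LD3_c30) (LK LD1_c0 LD2_c6 LD3_c9) Lrfl Lrfl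
theorem f3053 : Led Lsl_dt (LP (LK LD1_c0 LD2_c55 LD3_c13)) = (LP (LK LD1_c0 LD2_c25 LD3_c0)) :=
  Lre_d IH (LK LD1_c0 LD2_c55 LD3_c13) (LK LD1_c0 LD2_c25 LD3_c0) Lrfl Lrfl
theorem f70225 : Led Lsl_gf (LP (LK LD1_c0 LD2_c55 LD3_c13)) = (LP (LK LD1_c1 LD2_c1 LD3_c56)) :=
  Lgr Lrot143 (Lpr_dt (f3053 IH) (Lpe (K0.f2954 IH) (Lpe (K0.f3052 IH) (Lpr_gf (K1.f37081 IH) (Lpe (f36310 IH) (Lpe (K1.f27055 IH) (Lpr_cf (K1.f59170 IH) (Lpr_gt (f70216 IH) (Lpr_dt (f70224 IH) (Lpn (LP (LK LD1_c1 LD2_c1 LD3_c56))))))))))))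
theorem f70437 : Led Lsl_dt (LP (LK LD1_c1 LD2_c2 LD3_c17)) = (LP (LK LD1_c0 LD2_c40 LD3_c30)) :=
  Lgr Lrot57 (Lpr_gf (f38015 IH) (Lpr_cf (f70229 IH) (Lpe (f70225 IH) (Lpr_dt (f3053 IH) (Lpe (K0.f35345 IH) (Lpr_dt (K1.f34745 IH) (Lpe (K1.f38002 IH) (Lpe (K1.f37996 IH) (Lpr_gf (f69355 IH) (Lpn (LP (LK LD1_c0 LD2_c40 LD3_c30))))))))))))
theorem f16597 : Led Lsl_et (LP (LK LD1_c1 LD2_c2 LD3_c17)) = (LP (LK LD1_c2 LD2_c10 LD3_c31)) :=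
  Lre_e IH (LK LD1_c1 LD2_c2 LD3_c17) (LK LD1_c2 LD2_c10 LD3_c31) Lrfl Lrfl
theorem f16451 : Led Lsl_gt (LP (LK LD1_c2 LD2_c10 LD3_c31)) = (LP (LK LD1_c4 LD2_c26 LD3_c39)) :=
  Lre_g IH (LK LD1_c2 LD2_c10 LD3_c31) (LK LD1_c4 LD2_c26 LD3_c39) Lrfl Lrfl
theorem f16461 : Led Lsl_et (LP (LK LD1_c8 LD2_c50 LD3_c53)) = (LP (LK LD1_c4 LD2_c26 LD3_c39)) :=
  Lre_e IH (LK LD1_c8 LD2_c50 LD3_c53) (LK LD1_c4 LD2_c26 LD3_c39) Lrfl Lrfl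
theorem f60523 : Led Lsl_ft (LP (LK LD1_c12 LD2_c7 LD3_c12)) = (LP (LK LD1_c6 LD2_c14 LD3_c24)) :=
  Lre_f IH (LK LD1_c12 LD2_c7 LD3_c12) (LK LD1_c6 LD2_c14 LD3_c24) Lrfl Lrfl
theorem f60527 : Led Lsl_gt (LP (LK LD1_c11 LD2_c23 LD3_c21)) = (LP (LK LD1_c5 LD2_c46 LD3_c34)) :=
  Lre_g IH (LK LD1_c11 LD2_c23 LD3_c21) (LK LD1_c5 LD2_c46 LD3_c34) Lrfl Lrfl
theorem f60528 : Led Lsl_gt (LP (LK LD1_c12 LD2_c7 LD3_c12)) = (LP (LK LD1_c11 LD2_c23 LD3_c21)) :=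
  Lgr Lrot5 (Lpr_ft (f60523 IH) (Lpr_at (K1.f60516 IH) (Lpe (f60527 IH) (Lpn (LP (LK LD1_c11 LD2_c23 LD3_c21))))))
theorem f56448 : Led Lsl_dt (LP (LK LD1_c6 LD2_c14 LD3_c25)) = (LP (LK LD1_c12 LD2_c7 LD3_c12)) :=
  Lre_d IH (LK LD1_c6 LD2_c14 LD3_c25) (LK LD1_c12 LD2_c7 LD3_c12) Lrfl Lrfl
theorem f56095 : Led Lsl_gt (LP (LK LD1_c2 LD2_c16 LD3_c51)) = (LP (LK LD1_c4 LD2_c39 LD3_c38)) :=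
  Lre_g IH (LK LD1_c2 LD2_c16 LD3_c51) (LK LD1_c4 LD2_c39 LD3_c38) Lrfl Lrfl
theorem f56367 : Led Lsl_gt (LP (LK LD1_c4 LD2_c39 LD3_c38)) = (LP (LK LD1_c6 LD2_c24 LD3_c23)) :=
  Lgr Lrot46 (Lpe (f56095 IH) (Lpr_ft (K1.f56092 IH) (Lpr_at (K1.f56363 IH) (Lpn (LP (LK LD1_c6 LD2_c24 LD3_c23))))))
theorem f56372 : Led Lsl_et (LP (LK LD1_c9 LD2_c14 LD3_c54)) = (LP (LK LD1_c4 LD2_c39 LD3_c38)) :=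
  Lre_e IH (LK LD1_c9 LD2_c14 LD3_c54) (LK LD1_c4 LD2_c39 LD3_c38) Lrfl Lrfl
theorem f46705 : Led Lsl_af (LP (LK LD1_c4 LD2_c13 LD3_c34)) = (LP (LK LD1_c4 LD2_c4 LD3_c58)) :=
  Lgr Lrot0 (Lpr_at (K1.f46701 IH) (Lpn (LP (LK LD1_c4 LD2_c4 LD3_c58))))
theorem f46886 : Led Lsl_gt (LP (LK LD1_c8 LD2_c26 LD3_c5)) = (LP (LK LD1_c4 LD2_c13 LD3_c34)) :=
  Lre_g IH (LK LD1_c8 LD2_c26 LD3_c5) (LK LD1_c4 LD2_c13 LD3_c34) Lrfl Lrfl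
theorem f46802 : Led Lsl_ft (LP (LK LD1_c8 LD2_c10 LD3_c44)) = (LP (LK LD1_c4 LD2_c4 LD3_c58)) :=
  Lre_f IH (LK LD1_c8 LD2_c10 LD3_c44) (LK LD1_c4 LD2_c4 LD3_c58) Lrfl Lrfl
theorem f46887 : Led Lsl_gf (LP (LK LD1_c8 LD2_c26 LD3_c5)) = (LP (LK LD1_c8 LD2_c10 LD3_c44)) :=
  Lgr Lrot47 (Lpr_gt (f46886 IH) (Lpr_af (f46705 IH) (Lpe (f46802 IH) (Lpn (LP (LK LD1_c8 LD2_c10 LD3_c44))))))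
theorem f37778 : Led Lsl_et (LP (LK LD1_c7 LD2_c57 LD3_c27)) = (LP (LK LD1_c3 LD2_c58 LD3_c0)) :=
  Lre_e IH (LK LD1_c7 LD2_c57 LD3_c27) (LK LD1_c3 LD2_c58 LD3_c0) Lrfl Lrfl
theorem f56098 : Led Lsl_df (LP (LK LD1_c8 LD2_c26 LD3_c5)) = (LP (LK LD1_c7 LD2_c57 LD3_c27)) :=
  Lgr Lrot170 (Lpr_gt (f46886 IH) (Lpr_df (K1.f56082 IH) (Lpr_et (K1.f35664 IH) (Lpr_gt (K1.f38266 IH) (Lpr_dt (K1.f34746 IH) (Lpr_gt (K1.f37756 IH) (Lpe (K1.f36293 IH) (Lpr_et (K1.f37776 IH) (Lpr_gt (K1.f37777 IH) (Lpe (f37778 IH) (Lpn (LP (LK LD1_c7 LD2_c57 LD3_c27)))))))))))))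
theorem f39984 : Led Lsl_gt (LP (LK LD1_c3 LD2_c58 LD3_c0)) = (LP (LK LD1_c2 LD2_c10 LD3_c34)) :=
  Lgr Lrot46 (Lpe (K1.f37777 IH) (Lpr_ft (K1.f38714 IH) (Lpr_at (K1.f39951 IH) (Lpn (LP (LK LD1_c2 LD2_c10 LD3_c34))))))
theorem f16363 : Led Lsl_et (LP (LK LD1_c4 LD2_c26 LD3_c51)) = (LP (LK LD1_c2 LD2_c10 LD3_c34)) :=
  Lre_e IH (LK LD1_c4 LD2_c26 LD3_c51) (LK LD1_c2 LD2_c10 LD3_c34) Lrfl Lrfl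
theorem f16281 : Led Lsl_dt (LP (LK LD1_c4 LD2_c26 LD3_c51)) = (LP (LK LD1_c8 LD2_c51 LD3_c26)) :=
  Lre_d IH (LK LD1_c4 LD2_c26 LD3_c51) (LK LD1_c8 LD2_c51 LD3_c26) Lrfl Lrfl
theorem f16180 : Led Lsl_at (LP (LK LD1_c16 LD2_c29 LD3_c14)) = (LP (LK LD1_c8 LD2_c50 LD3_c18)) :=
  Lre_a IH (LK LD1_c16 LD2_c29 LD3_c14) (LK LD1_c8 LD2_c50 LD3_c18) Lrfl Lrfl
theorem f16181 : Led Lsl_bt (LP (LK LD1_c8 LD2_c50 LD3_c18)) = (LP (LK LD1_c4 LD2_c26 LD3_c54)) :=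
  Lre_b IH (LK LD1_c8 LD2_c50 LD3_c18) (LK LD1_c4 LD2_c26 LD3_c54) Lrfl Lrfl
theorem f16182 : Led Lsl_at (LP (LK LD1_c8 LD2_c50 LD3_c49)) = (LP (LK LD1_c16 LD2_c31 LD3_c61)) :=
  Lre_a IH (LK LD1_c8 LD2_c50 LD3_c49) (LK LD1_c16 LD2_c31 LD3_c61) Lrfl Lrfl
theorem f16183 : Led Lsl_bt (LP (LK LD1_c4 LD2_c26 LD3_c41)) = (LP (LK LD1_c8 LD2_c50 LD3_c49)) :=
  Lre_b IH (LK LD1_c4 LD2_c26 LD3_c41) (LK LD1_c8 LD2_c50 LD3_c49) Lrfl Lrfl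
theorem f16184 : Led Lsl_at (LP (LK LD1_c4 LD2_c26 LD3_c54)) = (LP (LK LD1_c4 LD2_c26 LD3_c41)) :=
  Lgr Lrot67 (Lpe (f16181 IH) (Lpe (f16180 IH) (Lpr_bf (K1.f16173 IH) (Lpe (f16182 IH) (Lpe (f16183 IH) (Lpn (LP (LK LD1_c4 LD2_c26 LD3_c41))))))))
theorem f16352 : Led Lsl_ft (LP (LK LD1_c8 LD2_c51 LD3_c26)) = (LP (LK LD1_c4 LD2_c26 LD3_c54)) :=
  Lre_f IH (LK LD1_c8 LD2_c51 LD3_c26) (LK LD1_c4 LD2_c26 LD3_c54) Lrfl Lrfl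
theorem f16577 : Led Lsl_gt (LP (LK LD1_c8 LD2_c50 LD3_c58)) = (LP (LK LD1_c4 LD2_c26 LD3_c41)) :=
  Lre_g IH (LK LD1_c8 LD2_c50 LD3_c58) (LK LD1_c4 LD2_c26 LD3_c41) Lrfl Lrfl
theorem f16578 : Led Lsl_gt (LP (LK LD1_c8 LD2_c51 LD3_c26)) = (LP (LK LD1_c8 LD2_c50 LD3_c58)) :=
  Lgr Lrot5 (Lpr_ft (f16352 IH) (Lpr_at (f16184 IH) (Lpe (f16577 IH) (Lpn (LP (LK LD1_c8 LD2_c50 LD3_c58))))))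
theorem f56373 : Led Lsl_dt (LP (LK LD1_c9 LD2_c14 LD3_c54)) = (LP (LK LD1_c8 LD2_c50 LD3_c58)) :=
  Lgr Lrot37 (Lpr_et (f56372 IH) (Lpr_gt (f56367 IH) (Lpe (K1.f56361 IH) (Lpe (f46887 IH) (Lpr_df (f56098 IH) (Lpr_et (f37778 IH) (Lpr_gt (f39984 IH) (Lpe (f16363 IH) (Lpr_dt (f16281 IH) (Lpr_gt (f16578 IH) (Lpn (LP (LK LD1_c8 LD2_c50 LD3_c58)))))))))))))
theorem f16414 : Led Lsl_af (LP (LK LD1_c4 LD2_c26 LD3_c51)) = (LP (LK LD1_c4 LD2_c26 LD3_c42)) :=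
  Lgr Lrot0 (Lpr_at (K1.f16346 IH) (Lpn (LP (LK LD1_c4 LD2_c26 LD3_c42))))
theorem f16450 : Led Lsl_ft (LP (LK LD1_c2 LD2_c10 LD3_c31)) = (LP (LK LD1_c4 LD2_c26 LD3_c42)) :=
  Lre_f IH (LK LD1_c2 LD2_c10 LD3_c31) (LK LD1_c4 LD2_c26 LD3_c42) Lrfl Lrfl
theorem f16452 : Led Lsl_gf (LP (LK LD1_c4 LD2_c26 LD3_c51)) = (LP (LK LD1_c4 LD2_c26 LD3_c39)) :=
  Lgr Lrot76 (Lpr_af (f16414 IH) (Lpe (f16450 IH) (Lpr_gt (f16451 IH) (Lpn (LP (LK LD1_c4 LD2_c26 LD3_c39))))))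
theorem f60532 : Led Lsl_dt (LP (LK LD1_c8 LD2_c50 LD3_c53)) = (LP (LK LD1_c11 LD2_c23 LD3_c21)) :=
  Lgr Lrot37 (Lpr_et (f16461 IH) (Lpe (f16452 IH) (Lpr_dt (f16281 IH) (Lpr_gt (f16578 IH) (Lpe (f56373 IH) (Lpr_et (f56372 IH) (Lpr_gt (f56367 IH) (Lpe (K1.f56441 IH) (Lpr_dt (f56448 IH) (Lpr_gt (f60528 IH) (Lpn (LP (LK LD1_c11 LD2_c23 LD3_c21)))))))))))))
theorem f56635 : Led Lsl_dt (LP (LK LD1_c2 LD2_c48 LD3_c60)) = (LP (LK LD1_c5 LD2_c46 LD3_c34)) :=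
  Lre_d IH (LK LD1_c2 LD2_c48 LD3_c60) (LK LD1_c5 LD2_c46 LD3_c34) Lrfl Lrfl
theorem f37958 : Led Lsl_gt (LP (LK LD1_c0 LD2_c11 LD3_c11)) = (LP (LK LD1_c0 LD2_c14 LD3_c43)) :=
  Lgr Lrot164 (Lpr_bf (K1.f29309 IH) (Lpr_ct (K1.f29491 IH) (Lpr_gf (K1.f37324 IH) (Lpe (K1.f37319 IH) (Lpe (K1.f37384 IH) (Lpe (K1.f35579 IH) (Lpr_ct (K1.f8317 IH) (Lpe (K0.f22453 IH) (Lpr_cf (K1.f37939 IH) (Lpr_bt (K1.f37734 IH) (Lpn (LP (LK LD1_c0 LD2_c14 LD3_c43)))))))))))))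
theorem f59619 : Led Lsl_ct (LP (LK LD1_c0 LD2_c8 LD3_c9)) = (LP (LK LD1_c0 LD2_c8 LD3_c9)) :=
  Lgr Lrot8 (Lpe (K1.f59615 IH) (Lpr_dt (K1.f16640 IH) (Lpr_gt (K1.f59351 IH) (Lpr_dt (K1.f13642 IH) (Lpe (K0.f13635 IH) (Lpe (K1.f13642 IH) (Lpe (K1.f59351 IH) (Lpe (K1.f16640 IH) (Lpr_gf (K1.f59615 IH) (Lpn (LP (LK LD1_c0 LD2_c8 LD3_c9))))))))))))
theorem f59518 : Led Lsl_ct (LP (LK LD1_c0 LD2_c40 LD3_c30)) = (LP (LK LD1_c0 LD2_c18 LD3_c8)) :=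
  Lre_c IH (LK LD1_c0 LD2_c40 LD3_c30) (LK LD1_c0 LD2_c18 LD3_c8) Lrfl Lrfl
theorem f69345 : Led Lsl_gt (LP (LK LD1_c0 LD2_c28 LD3_c21)) = (LP (LK LD1_c0 LD2_c40 LD3_c30)) :=
  Lgr Lrot150 (Lpr_cf (f69327 IH) (Lpe (f37958 IH) (Lpe (K1.f28565 IH) (Lpr_gt (f37087 IH) (Lpr_ct (K1.f36602 IH) (Lpr_gt (K1.f59582 IH) (Lpr_ct (f59619 IH) (Lpe (K1.f59584 IH) (Lpe (f59518 IH) (Lpn (LP (LK LD1_c0 LD2_c40 LD3_c30))))))))))))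
theorem f60409 : Led Lsl_dt (LP (LK LD1_c1 LD2_c2 LD3_c6)) = (LP (LK LD1_c0 LD2_c28 LD3_c21)) :=
  Lre_d IH (LK LD1_c1 LD2_c2 LD3_c6) (LK LD1_c0 LD2_c28 LD3_c21) Lrfl Lrfl
theorem f70559 : Led Lsl_gt (LP (LK LD1_c1 LD2_c20 LD3_c35)) = (LP (LK LD1_c1 LD2_c2 LD3_c6)) :=
  Lgr Lrot137 (Lpe (K1.f60330 IH) (Lpr_dt (f56635 IH) (Lpe (f60527 IH) (Lpe (f60532 IH) (Lpr_et (f16461 IH) (Lpe (f16451 IH) (Lpe (f16597 IH) (Lpr_dt (f70437 IH) (Lpe (f69345 IH) (Lpe (f60409 IH) (Lpn (LP (LK LD1_c1 LD2_c2 LD3_c6)))))))))))))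
theorem f38257 : Led Lsl_ft (LP (LK LD1_c1 LD2_c2 LD3_c9)) = (LP (LK LD1_c1 LD2_c55 LD3_c40)) :=
  Lgr Lrot48 (Lpr_ff (K1.f38241 IH) (Lpn (LP (LK LD1_c1 LD2_c55 LD3_c40))))
theorem f70762 : Led Lsl_at (LP (LK LD1_c1 LD2_c55 LD3_c40)) = (LP (LK LD1_c1 LD2_c2 LD3_c6)) :=
  Lgr Lrot26 (Lpe (f38257 IH) (Lpr_gt (f69359 IH) (Lpr_gt (f70559 IH) (Lpn (LP (LK LD1_c1 LD2_c2 LD3_c6))))))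
theorem f35661 : Led Lsl_et (LP (LK LD1_c3 LD2_c57 LD3_c49)) = (LP (LK LD1_c1 LD2_c55 LD3_c40)) :=
  Lre_e IH (LK LD1_c3 LD2_c57 LD3_c49) (LK LD1_c1 LD2_c55 LD3_c40) Lrfl Lrfl
theorem f70553 : Led Lsl_et (LP (LK LD1_c1 LD2_c2 LD3_c6)) = (LP (LK LD1_c2 LD2_c9 LD3_c61)) :=
  Lre_e IH (LK LD1_c1 LD2_c2 LD3_c6) (LK LD1_c2 LD2_c9 LD3_c61) Lrfl Lrfl
theorem f70769 : Led Lsl_af (LP (LK LD1_c3 LD2_c57 LD3_c49)) = (LP (LK LD1_c2 LD2_c9 LD3_c61)) :=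
  Lgr Lrot50 (Lpr_et (f35661 IH) (Lpr_at (f70762 IH) (Lpr_et (f70553 IH) (Lpn (LP (LK LD1_c2 LD2_c9 LD3_c61))))))
theorem f38617 : Led Lsl_ft (LP (LK LD1_c3 LD2_c57 LD3_c49)) = (LP (LK LD1_c7 LD2_c57 LD3_c3)) :=
  Lre_f IH (LK LD1_c3 LD2_c57 LD3_c49) (LK LD1_c7 LD2_c57 LD3_c3) Lrfl Lrfl
theorem f70778 : Led Lsl_ft (LP (LK LD1_c4 LD2_c25 LD3_c10)) = (LP (LK LD1_c2 LD2_c9 LD3_c61)) :=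
  Lre_f IH (LK LD1_c4 LD2_c25 LD3_c10) (LK LD1_c2 LD2_c9 LD3_c61) Lrfl Lrfl
theorem f70779 : Led Lsl_at (LP (LK LD1_c7 LD2_c57 LD3_c3)) = (LP (LK LD1_c4 LD2_c25 LD3_c10)) :=
  Lgr Lrot66 (Lpe (f38617 IH) (Lpr_af (f70769 IH) (Lpe (f70778 IH) (Lpn (LP (LK LD1_c4 LD2_c25 LD3_c10))))))
theorem f38252 : Led Lsl_et (LP (LK LD1_c1 LD2_c2 LD3_c9)) = (LP (LK LD1_c2 LD2_c10 LD3_c7)) :=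
  Lre_e IH (LK LD1_c1 LD2_c2 LD3_c9) (LK LD1_c2 LD2_c10 LD3_c7) Lrfl Lrfl
theorem f38254 : Led Lsl_ft (LP (LK LD1_c7 LD2_c57 LD3_c3)) = (LP (LK LD1_c3 LD2_c57 LD3_c49)) :=
  Lre_f IH (LK LD1_c7 LD2_c57 LD3_c3) (LK LD1_c3 LD2_c57 LD3_c49) Lrfl Lrfl
theorem f38255 : Led Lsl_et (LP (LK LD1_c4 LD2_c25 LD3_c33)) = (LP (LK LD1_c7 LD2_c57 LD3_c3)) :=
  Lgr Lrot69 (Lpe (K1.f38253 IH) (Lpe (f38252 IH) (Lpr_ff (K1.f38241 IH) (Lpe (f35661 IH) (Lpe (f38254 IH) (Lpn (LP (LK LD1_c7 LD2_c57 LD3_c3))))))))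
theorem f38291 : Led Lsl_af (LP (LK LD1_c4 LD2_c25 LD3_c33)) = (LP (LK LD1_c6 LD2_c9 LD3_c14)) :=
  Lgr Lrot0 (Lpr_at (K1.f38279 IH) (Lpn (LP (LK LD1_c6 LD2_c9 LD3_c14))))
theorem f70793 : Led Lsl_ef (LP (LK LD1_c6 LD2_c9 LD3_c14)) = (LP (LK LD1_c4 LD2_c25 LD3_c10)) :=
  Lgr Lrot20 (Lpe (f38291 IH) (Lpr_et (f38255 IH) (Lpr_at (f70779 IH) (Lpn (LP (LK LD1_c4 LD2_c25 LD3_c10))))))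
theorem f70803 : Led Lsl_et (LP (LK LD1_c6 LD2_c9 LD3_c14)) = (LP (LK LD1_c4 LD2_c25 LD3_c10)) :=
  Lgr Lrot87 (Lpr_ef (f70793 IH) (Lpn (LP (LK LD1_c4 LD2_c25 LD3_c10))))
theorem f35741 : Led Lsl_dt (LP (LK LD1_c11 LD2_c59 LD3_c37)) = (LP (LK LD1_c6 LD2_c9 LD3_c14)) :=
  Lre_d IH (LK LD1_c11 LD2_c59 LD3_c37) (LK LD1_c6 LD2_c9 LD3_c14) Lrfl Lrfl
theorem f70783 : Led Lsl_dt (LP (LK LD1_c4 LD2_c25 LD3_c10)) = (LP (LK LD1_c8 LD2_c47 LD3_c59)) :=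
  Lre_d IH (LK LD1_c4 LD2_c25 LD3_c10) (LK LD1_c8 LD2_c47 LD3_c59) Lrfl Lrfl
theorem f70786 : Led Lsl_et (LP (LK LD1_c8 LD2_c47 LD3_c59)) = (LP (LK LD1_c16 LD2_c28 LD3_c2)) :=
  Lre_e IH (LK LD1_c8 LD2_c47 LD3_c59) (LK LD1_c16 LD2_c28 LD3_c2) Lrfl Lrfl
theorem f70808 : Led Lsl_df (LP (LK LD1_c21 LD2_c4 LD3_c19)) = (LP (LK LD1_c16 LD2_c28 LD3_c2)) :=
  Lgr Lrot70 (Lpr_et (K1.f38315 IH) (Lpr_dt (f35741 IH) (Lpr_et (f70803 IH) (Lpr_dt (f70783 IH) (Lpr_et (f70786 IH) (Lpn (LP (LK LD1_c16 LD2_c28 LD3_c2))))))))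
theorem f70810 : Led Lsl_ft (LP (LK LD1_c8 LD2_c47 LD3_c61)) = (LP (LK LD1_c16 LD2_c28 LD3_c2)) :=
  Lre_f IH (LK LD1_c8 LD2_c47 LD3_c61) (LK LD1_c16 LD2_c28 LD3_c2) Lrfl Lrfl
theorem f70811 : Led Lsl_dt (LP (LK LD1_c11 LD2_c59 LD3_c40)) = (LP (LK LD1_c8 LD2_c47 LD3_c61)) :=
  Lgr Lrot60 (Lpe (K1.f38328 IH) (Lpr_df (f70808 IH) (Lpe (f70810 IH) (Lpn (LP (LK LD1_c8 LD2_c47 LD3_c61))))))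
theorem f70816 : Led Lsl_et (LP (LK LD1_c8 LD2_c47 LD3_c61)) = (LP (LK LD1_c4 LD2_c25 LD3_c12)) :=
  Lre_e IH (LK LD1_c8 LD2_c47 LD3_c61) (LK LD1_c4 LD2_c25 LD3_c12) Lrfl Lrfl
theorem f70817 : Led Lsl_dt (LP (LK LD1_c4 LD2_c25 LD3_c12)) = (LP (LK LD1_c2 LD2_c10 LD3_c1)) :=
  Lre_d IH (LK LD1_c4 LD2_c25 LD3_c12) (LK LD1_c2 LD2_c10 LD3_c1) Lrfl Lrfl
theorem f70818 : Led Lsl_ef (LP (LK LD1_c3 LD2_c0 LD3_c61)) = (LP (LK LD1_c2 LD2_c10 LD3_c1)) :=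
  Lgr Lrot73 (Lpr_dt (K1.f27252 IH) (Lpr_et (K1.f38338 IH) (Lpr_dt (f70811 IH) (Lpr_et (f70816 IH) (Lpr_dt (f70817 IH) (Lpn (LP (LK LD1_c2 LD2_c10 LD3_c1))))))))
theorem f35558 : Led Lsl_et (LP (LK LD1_c1 LD2_c26 LD3_c19)) = (LP (LK LD1_c0 LD2_c39 LD3_c53)) :=
  Lre_e IH (LK LD1_c1 LD2_c26 LD3_c19) (LK LD1_c0 LD2_c39 LD3_c53) Lrfl Lrfl
theorem f70833 : Led Lsl_ft (LP (LK LD1_c1 LD2_c2 LD3_c7)) = (LP (LK LD1_c2 LD2_c10 LD3_c1)) :=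
  Lre_f IH (LK LD1_c1 LD2_c2 LD3_c7) (LK LD1_c2 LD2_c10 LD3_c1) Lrfl Lrfl
theorem f56341 : Led Lsl_et (LP (LK LD1_c0 LD2_c28 LD3_c21)) = (LP (LK LD1_c1 LD2_c2 LD3_c7)) :=
  Lre_e IH (LK LD1_c0 LD2_c28 LD3_c21) (LK LD1_c1 LD2_c2 LD3_c7) Lrfl Lrfl
theorem f70834 : Led Lsl_ft (LP (LK LD1_c0 LD2_c39 LD3_c53)) = (LP (LK LD1_c0 LD2_c28 LD3_c21)) :=
  Lgr Lrot86 (Lpe (f35558 IH) (Lpe (K1.f38389 IH) (Lpr_ef (f70818 IH) (Lpe (f70833 IH) (Lpe (f56341 IH) (Lpn (LP (LK LD1_c0 LD2_c28 LD3_c21))))))))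
theorem f34721 : Led Lsl_bt (LP (LK LD1_c0 LD2_c13 LD3_c1)) = (LP (LK LD1_c0 LD2_c29 LD3_c36)) :=
  Lre_b IH (LK LD1_c0 LD2_c13 LD3_c1) (LK LD1_c0 LD2_c29 LD3_c36) Lrfl Lrfl
theorem f34722 : Led Lsl_ct (LP (LK LD1_c0 LD2_c29 LD3_c36)) = (LP (LK LD1_c1 LD2_c4 LD3_c43)) :=
  Lre_c IH (LK LD1_c0 LD2_c29 LD3_c36) (LK LD1_c1 LD2_c4 LD3_c43) Lrfl Lrfl
theorem f34724 : Led Lsl_bt (LP (LK LD1_c1 LD2_c4 LD3_c43)) = (LP (LK LD1_c0 LD2_c39 LD3_c53)) :=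
  Lgr Lrot128 (Lpe (f34722 IH) (Lpe (f34721 IH) (Lpr_cf (K0.f34712 IH) (Lpe (K1.f34723 IH) (Lpe (K1.f34709 IH) (Lpn (LP (LK LD1_c0 LD2_c39 LD3_c53))))))))
theorem f69332 : Led Lsl_bt (LP (LK LD1_c0 LD2_c17 LD3_c5)) = (LP (LK LD1_c0 LD2_c7 LD3_c37)) :=
  Lre_b IH (LK LD1_c0 LD2_c17 LD3_c5) (LK LD1_c0 LD2_c7 LD3_c37) Lrfl Lrfl
theorem f22774 : Led Lsl_ct (LP (LK LD1_c0 LD2_c38 LD3_c21)) = (LP (LK LD1_c0 LD2_c17 LD3_c5)) :=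
  Lre_c IH (LK LD1_c0 LD2_c38 LD3_c21) (LK LD1_c0 LD2_c17 LD3_c5) Lrfl Lrfl
theorem f69333 : Led Lsl_bt (LP (LK LD1_c0 LD2_c28 LD3_c21)) = (LP (LK LD1_c0 LD2_c38 LD3_c21)) :=
  Lgr Lrot128 (Lpr_cf (f69327 IH) (Lpe (K1.f37734 IH) (Lpe (K1.f37945 IH) (Lpe (f69332 IH) (Lpe (f22774 IH) (Lpn (LP (LK LD1_c0 LD2_c38 LD3_c21))))))))
theorem f70837 : Led Lsl_ff (LP (LK LD1_c1 LD2_c4 LD3_c43)) = (LP (LK LD1_c0 LD2_c38 LD3_c21)) :=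
  Lgr Lrot25 (Lpr_bt (f34724 IH) (Lpr_ft (f70834 IH) (Lpr_bt (f69333 IH) (Lpn (LP (LK LD1_c0 LD2_c38 LD3_c21))))))
theorem f70839 : Led Lsl_at (LP (LK LD1_c1 LD2_c4 LD3_c43)) = (LP (LK LD1_c2 LD2_c15 LD3_c11)) :=
  Lre_a IH (LK LD1_c1 LD2_c4 LD3_c43) (LK LD1_c2 LD2_c15 LD3_c11) Lrfl Lrfl
theorem f70858 : Led Lsl_ct (LP (LK LD1_c1 LD2_c4 LD3_c42)) = (LP (LK LD1_c2 LD2_c15 LD3_c11)) :=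
  Lre_c IH (LK LD1_c1 LD2_c4 LD3_c42) (LK LD1_c2 LD2_c15 LD3_c11) Lrfl Lrfl
theorem f70859 : Led Lsl_dt (LP (LK LD1_c2 LD2_c15 LD3_c12)) = (LP (LK LD1_c1 LD2_c4 LD3_c42)) :=
  Lre_d IH (LK LD1_c2 LD2_c15 LD3_c12) (LK LD1_c1 LD2_c4 LD3_c42) Lrfl Lrfl
theorem f70860 : Led Lsl_ct (LP (LK LD1_c4 LD2_c36 LD3_c0)) = (LP (LK LD1_c2 LD2_c15 LD3_c12)) :=
  Lre_c IH (LK LD1_c4 LD2_c36 LD3_c0) (LK LD1_c2 LD2_c15 LD3_c12) Lrfl Lrfl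
theorem f70861 : Led Lsl_dt (LP (LK LD1_c9 LD2_c8 LD3_c14)) = (LP (LK LD1_c4 LD2_c36 LD3_c0)) :=
  Lre_d IH (LK LD1_c9 LD2_c8 LD3_c14) (LK LD1_c4 LD2_c36 LD3_c0) Lrfl Lrfl
theorem f70862 : Led Lsl_dt (LP (LK LD1_c0 LD2_c38 LD3_c21)) = (LP (LK LD1_c1 LD2_c22 LD3_c49)) :=
  Lre_d IH (LK LD1_c0 LD2_c38 LD3_c21) (LK LD1_c1 LD2_c22 LD3_c49) Lrfl Lrfl
theorem f70863 : Led Lsl_ct (LP (LK LD1_c1 LD2_c22 LD3_c49)) = (LP (LK LD1_c2 LD2_c53 LD3_c31)) :=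
  Lre_c IH (LK LD1_c1 LD2_c22 LD3_c49) (LK LD1_c2 LD2_c53 LD3_c31) Lrfl Lrfl
theorem f70864 : Led Lsl_dt (LP (LK LD1_c2 LD2_c53 LD3_c31)) = (LP (LK LD1_c5 LD2_c54 LD3_c14)) :=
  Lre_d IH (LK LD1_c2 LD2_c53 LD3_c31) (LK LD1_c5 LD2_c54 LD3_c14) Lrfl Lrfl
theorem f70865 : Led Lsl_cf (LP (LK LD1_c9 LD2_c8 LD3_c14)) = (LP (LK LD1_c5 LD2_c54 LD3_c14)) :=
  Lgr Lrot116 (Lpr_dt (f70861 IH) (Lpr_ct (f70860 IH) (Lpr_dt (f70859 IH) (Lpr_ct (f70858 IH) (Lpe (f70839 IH) (Lpr_ff (f70837 IH) (Lpr_dt (f70862 IH) (Lpr_ct (f70863 IH) (Lpr_dt (f70864 IH) (Lpn (LP (LK LD1_c5 LD2_c54 LD3_c14))))))))))))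
theorem f70869 : Led Lsl_dt (LP (LK LD1_c2 LD2_c15 LD3_c11)) = (LP (LK LD1_c4 LD2_c35 LD3_c60)) :=
  Lre_d IH (LK LD1_c2 LD2_c15 LD3_c11) (LK LD1_c4 LD2_c35 LD3_c60) Lrfl Lrfl
theorem f70870 : Led Lsl_ct (LP (LK LD1_c4 LD2_c35 LD3_c60)) = (LP (LK LD1_c9 LD2_c8 LD3_c10)) :=
  Lre_c IH (LK LD1_c4 LD2_c35 LD3_c60) (LK LD1_c9 LD2_c8 LD3_c10) Lrfl Lrfl
theorem f70884 : Led Lsl_at (LP (LK LD1_c4 LD2_c36 LD3_c8)) = (LP (LK LD1_c9 LD2_c8 LD3_c10)) :=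
  Lre_a IH (LK LD1_c4 LD2_c36 LD3_c8) (LK LD1_c9 LD2_c8 LD3_c10) Lrfl Lrfl
theorem f70885 : Led Lsl_ff (LP (LK LD1_c4 LD2_c36 LD3_c8)) = (LP (LK LD1_c2 LD2_c53 LD3_c31)) :=
  Lgr Lrot103 (Lpr_at (f70884 IH) (Lpe (f70870 IH) (Lpe (f70869 IH) (Lpe (f70858 IH) (Lpe (f70859 IH) (Lpe (f70860 IH) (Lpe (f70861 IH) (Lpr_cf (f70865 IH) (Lpe (f70864 IH) (Lpn (LP (LK LD1_c2 LD2_c53 LD3_c31))))))))))))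
theorem f70899 : Led Lsl_ft (LP (LK LD1_c4 LD2_c36 LD3_c8)) = (LP (LK LD1_c2 LD2_c53 LD3_c31)) :=
  Lgr Lrot48 (Lpr_ff (f70885 IH) (Lpn (LP (LK LD1_c2 LD2_c53 LD3_c31))))
theorem f70917 : Led Lsl_et (LP (LK LD1_c9 LD2_c8 LD3_c27)) = (LP (LK LD1_c4 LD2_c36 LD3_c8)) :=
  Lre_e IH (LK LD1_c9 LD2_c8 LD3_c27) (LK LD1_c4 LD2_c36 LD3_c8) Lrfl Lrfl
theorem f70918 : Led Lsl_ft (LP (LK LD1_c17 LD2_c0 LD3_c60)) = (LP (LK LD1_c9 LD2_c8 LD3_c27)) :=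
  Lre_f IH (LK LD1_c17 LD2_c0 LD3_c60) (LK LD1_c9 LD2_c8 LD3_c27) Lrfl Lrfl
theorem f70919 : Led Lsl_et (LP (LK LD1_c2 LD2_c53 LD3_c31)) = (LP (LK LD1_c5 LD2_c54 LD3_c15)) :=
  Lre_e IH (LK LD1_c2 LD2_c53 LD3_c31) (LK LD1_c5 LD2_c54 LD3_c15) Lrfl Lrfl
theorem f70920 : Led Lsl_ft (LP (LK LD1_c5 LD2_c54 LD3_c15)) = (LP (LK LD1_c11 LD2_c34 LD3_c20)) :=
  Lre_f IH (LK LD1_c5 LD2_c54 LD3_c15) (LK LD1_c11 LD2_c34 LD3_c20) Lrfl Lrfl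
theorem f70921 : Led Lsl_ef (LP (LK LD1_c17 LD2_c0 LD3_c60)) = (LP (LK LD1_c11 LD2_c34 LD3_c20)) :=
  Lgr Lrot21 (Lpr_ft (f70918 IH) (Lpr_et (f70917 IH) (Lpr_ft (f70899 IH) (Lpr_et (f70919 IH) (Lpr_ft (f70920 IH) (Lpn (LP (LK LD1_c11 LD2_c34 LD3_c20))))))))
theorem f70933 : Led Lsl_ct (LP (LK LD1_c17 LD2_c0 LD3_c60)) = (LP (LK LD1_c9 LD2_c8 LD3_c31)) :=
  Lre_c IH (LK LD1_c17 LD2_c0 LD3_c60) (LK LD1_c9 LD2_c8 LD3_c31) Lrfl Lrfl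
theorem f70934 : Led Lsl_ct (LP (LK LD1_c5 LD2_c54 LD3_c19)) = (LP (LK LD1_c11 LD2_c34 LD3_c20)) :=
  Lre_c IH (LK LD1_c5 LD2_c54 LD3_c19) (LK LD1_c11 LD2_c34 LD3_c20) Lrfl Lrfl
theorem f70935 : Led Lsl_et (LP (LK LD1_c9 LD2_c8 LD3_c31)) = (LP (LK LD1_c5 LD2_c54 LD3_c19)) :=
  Lgr Lrot158 (Lpe (f70933 IH) (Lpr_ef (f70921 IH) (Lpe (f70934 IH) (Lpn (LP (LK LD1_c5 LD2_c54 LD3_c19))))))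
theorem f70947 : Led Lsl_ef (LP (LK LD1_c9 LD2_c8 LD3_c31)) = (LP (LK LD1_c5 LD2_c54 LD3_c19)) :=
  Lgr Lrot88 (Lpr_et (f70935 IH) (Lpn (LP (LK LD1_c5 LD2_c54 LD3_c19))))
theorem f70960 : Led Lsl_at (LP (LK LD1_c9 LD2_c8 LD3_c31)) = (LP (LK LD1_c17 LD2_c0 LD3_c41)) :=
  Lre_a IH (LK LD1_c9 LD2_c8 LD3_c31) (LK LD1_c17 LD2_c0 LD3_c41) Lrfl Lrfl
theorem f70961 : Led Lsl_at (LP (LK LD1_c11 LD2_c33 LD3_c39)) = (LP (LK LD1_c5 LD2_c54 LD3_c19)) :=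
  Lre_a IH (LK LD1_c11 LD2_c33 LD3_c39) (LK LD1_c5 LD2_c54 LD3_c19) Lrfl Lrfl
theorem f70962 : Led Lsl_et (LP (LK LD1_c17 LD2_c0 LD3_c41)) = (LP (LK LD1_c11 LD2_c33 LD3_c39)) :=
  Lgr Lrot123 (Lpe (f70960 IH) (Lpr_ef (f70947 IH) (Lpe (f70961 IH) (Lpn (LP (LK LD1_c11 LD2_c33 LD3_c39))))))
theorem f70984 : Led Lsl_ft (LP (LK LD1_c9 LD2_c8 LD3_c11)) = (LP (LK LD1_c17 LD2_c0 LD3_c41)) :=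
  Lre_f IH (LK LD1_c9 LD2_c8 LD3_c11) (LK LD1_c17 LD2_c0 LD3_c41) Lrfl Lrfl
theorem f70985 : Led Lsl_et (LP (LK LD1_c4 LD2_c35 LD3_c60)) = (LP (LK LD1_c9 LD2_c8 LD3_c11)) :=
  Lre_e IH (LK LD1_c4 LD2_c35 LD3_c60) (LK LD1_c9 LD2_c8 LD3_c11) Lrfl Lrfl
theorem f70986 : Led Lsl_ft (LP (LK LD1_c11 LD2_c33 LD3_c39)) = (LP (LK LD1_c5 LD2_c53 LD3_c52)) :=
  Lre_f IH (LK LD1_c11 LD2_c33 LD3_c39) (LK LD1_c5 LD2_c53 LD3_c52) Lrfl Lrfl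
theorem f70987 : Led Lsl_et (LP (LK LD1_c5 LD2_c53 LD3_c52)) = (LP (LK LD1_c2 LD2_c53 LD3_c17)) :=
  Lre_e IH (LK LD1_c5 LD2_c53 LD3_c52) (LK LD1_c2 LD2_c53 LD3_c17) Lrfl Lrfl
theorem f70988 : Led Lsl_ff (LP (LK LD1_c4 LD2_c35 LD3_c60)) = (LP (LK LD1_c2 LD2_c53 LD3_c17)) :=
  Lgr Lrot72 (Lpr_et (f70985 IH) (Lpr_ft (f70984 IH) (Lpr_et (f70962 IH) (Lpr_ft (f70986 IH) (Lpr_et (f70987 IH) (Lpn (LP (LK LD1_c2 LD2_c53 LD3_c17))))))))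
theorem f71003 : Led Lsl_ft (LP (LK LD1_c4 LD2_c35 LD3_c60)) = (LP (LK LD1_c2 LD2_c53 LD3_c17)) :=
  Lgr Lrot48 (Lpr_ff (f70988 IH) (Lpn (LP (LK LD1_c2 LD2_c53 LD3_c17))))
theorem f71005 : Led Lsl_dt (LP (LK LD1_c2 LD2_c53 LD3_c17)) = (LP (LK LD1_c1 LD2_c22 LD3_c44)) :=
  Lre_d IH (LK LD1_c2 LD2_c53 LD3_c17) (LK LD1_c1 LD2_c22 LD3_c44) Lrfl Lrfl
theorem f71013 : Led Lsl_ff (LP (LK LD1_c2 LD2_c15 LD3_c11)) = (LP (LK LD1_c1 LD2_c22 LD3_c44)) :=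
  Lgr Lrot19 (Lpr_dt (f70869 IH) (Lpr_ft (f71003 IH) (Lpr_dt (f71005 IH) (Lpn (LP (LK LD1_c1 LD2_c22 LD3_c44))))))
theorem f71036 : Led Lsl_et (LP (LK LD1_c2 LD2_c15 LD3_c11)) = (LP (LK LD1_c4 LD2_c35 LD3_c61)) :=
  Lre_e IH (LK LD1_c2 LD2_c15 LD3_c11) (LK LD1_c4 LD2_c35 LD3_c61) Lrfl Lrfl
theorem f71042 : Led Lsl_ft (LP (LK LD1_c4 LD2_c35 LD3_c61)) = (LP (LK LD1_c9 LD2_c8 LD3_c13)) :=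
  Lre_f IH (LK LD1_c4 LD2_c35 LD3_c61) (LK LD1_c9 LD2_c8 LD3_c13) Lrfl Lrfl
theorem f71043 : Led Lsl_et (LP (LK LD1_c2 LD2_c53 LD3_c18)) = (LP (LK LD1_c1 LD2_c22 LD3_c44)) :=
  Lre_e IH (LK LD1_c2 LD2_c53 LD3_c18) (LK LD1_c1 LD2_c22 LD3_c44) Lrfl Lrfl
theorem f71044 : Led Lsl_ft (LP (LK LD1_c5 LD2_c53 LD3_c55)) = (LP (LK LD1_c2 LD2_c53 LD3_c18)) :=
  Lre_f IH (LK LD1_c5 LD2_c53 LD3_c55) (LK LD1_c2 LD2_c53 LD3_c18) Lrfl Lrfl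
theorem f71045 : Led Lsl_et (LP (LK LD1_c9 LD2_c8 LD3_c13)) = (LP (LK LD1_c5 LD2_c53 LD3_c55)) :=
  Lgr Lrot69 (Lpe (f71042 IH) (Lpe (f71036 IH) (Lpr_ff (f71013 IH) (Lpe (f71043 IH) (Lpe (f71044 IH) (Lpn (LP (LK LD1_c5 LD2_c53 LD3_c55))))))))
theorem f71070 : Led Lsl_ef (LP (LK LD1_c9 LD2_c8 LD3_c13)) = (LP (LK LD1_c5 LD2_c53 LD3_c55)) :=
  Lgr Lrot88 (Lpr_et (f71045 IH) (Lpn (LP (LK LD1_c5 LD2_c53 LD3_c55))))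
theorem f71081 : Led Lsl_ct (LP (LK LD1_c9 LD2_c8 LD3_c13)) = (LP (LK LD1_c4 LD2_c36 LD3_c4)) :=
  Lre_c IH (LK LD1_c9 LD2_c8 LD3_c13) (LK LD1_c4 LD2_c36 LD3_c4) Lrfl Lrfl
theorem f71082 : Led Lsl_ct (LP (LK LD1_c2 LD2_c53 LD3_c23)) = (LP (LK LD1_c5 LD2_c53 LD3_c55)) :=
  Lre_c IH (LK LD1_c2 LD2_c53 LD3_c23) (LK LD1_c5 LD2_c53 LD3_c55) Lrfl Lrfl
theorem f71083 : Led Lsl_et (LP (LK LD1_c4 LD2_c36 LD3_c4)) = (LP (LK LD1_c2 LD2_c53 LD3_c23)) :=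
  Lgr Lrot158 (Lpe (f71081 IH) (Lpr_ef (f71070 IH) (Lpe (f71082 IH) (Lpn (LP (LK LD1_c2 LD2_c53 LD3_c23))))))
theorem f71102 : Led Lsl_ft (LP (LK LD1_c2 LD2_c15 LD3_c13)) = (LP (LK LD1_c4 LD2_c36 LD3_c4)) :=
  Lre_f IH (LK LD1_c2 LD2_c15 LD3_c13) (LK LD1_c4 LD2_c36 LD3_c4) Lrfl Lrfl
theorem f71103 : Led Lsl_et (LP (LK LD1_c1 LD2_c4 LD3_c42)) = (LP (LK LD1_c2 LD2_c15 LD3_c13)) :=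
  Lre_e IH (LK LD1_c1 LD2_c4 LD3_c42) (LK LD1_c2 LD2_c15 LD3_c13) Lrfl Lrfl
theorem f71104 : Led Lsl_ft (LP (LK LD1_c2 LD2_c53 LD3_c23)) = (LP (LK LD1_c1 LD2_c22 LD3_c46)) :=
  Lre_f IH (LK LD1_c2 LD2_c53 LD3_c23) (LK LD1_c1 LD2_c22 LD3_c46) Lrfl Lrfl
theorem f71105 : Led Lsl_et (LP (LK LD1_c1 LD2_c22 LD3_c46)) = (LP (LK LD1_c0 LD2_c38 LD3_c20)) :=
  Lre_e IH (LK LD1_c1 LD2_c22 LD3_c46) (LK LD1_c0 LD2_c38 LD3_c20) Lrfl Lrfl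
theorem f71106 : Led Lsl_ff (LP (LK LD1_c1 LD2_c4 LD3_c42)) = (LP (LK LD1_c0 LD2_c38 LD3_c20)) :=
  Lgr Lrot72 (Lpr_et (f71103 IH) (Lpr_ft (f71102 IH) (Lpr_et (f71083 IH) (Lpr_ft (f71104 IH) (Lpr_et (f71105 IH) (Lpn (LP (LK LD1_c0 LD2_c38 LD3_c20))))))))
theorem f71023 : Led Lsl_dt (LP (LK LD1_c1 LD2_c4 LD3_c42)) = (LP (LK LD1_c2 LD2_c15 LD3_c12)) :=
  Lre_d IH (LK LD1_c1 LD2_c4 LD3_c42) (LK LD1_c2 LD2_c15 LD3_c12) Lrfl Lrfl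
theorem f70926 : Led Lsl_dt (LP (LK LD1_c1 LD2_c22 LD3_c45)) = (LP (LK LD1_c0 LD2_c38 LD3_c20)) :=
  Lre_d IH (LK LD1_c1 LD2_c22 LD3_c45) (LK LD1_c0 LD2_c38 LD3_c20) Lrfl Lrfl
theorem f71118 : Led Lsl_ft (LP (LK LD1_c2 LD2_c15 LD3_c12)) = (LP (LK LD1_c1 LD2_c22 LD3_c45)) :=
  Lgr Lrot54 (Lpe (f71023 IH) (Lpr_ff (f71106 IH) (Lpe (f70926 IH) (Lpn (LP (LK LD1_c1 LD2_c22 LD3_c45))))))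
theorem f71134 : Led Lsl_ff (LP (LK LD1_c2 LD2_c15 LD3_c12)) = (LP (LK LD1_c1 LD2_c22 LD3_c45)) :=
  Lgr Lrot3 (Lpr_ft (f71118 IH) (Lpn (LP (LK LD1_c1 LD2_c22 LD3_c45))))
theorem f70888 : Led Lsl_ct (LP (LK LD1_c2 LD2_c15 LD3_c12)) = (LP (LK LD1_c4 LD2_c36 LD3_c0)) :=
  Lre_c IH (LK LD1_c2 LD2_c15 LD3_c12) (LK LD1_c4 LD2_c36 LD3_c0) Lrfl Lrfl
theorem f70927 : Led Lsl_ct (LP (LK LD1_c2 LD2_c53 LD3_c19)) = (LP (LK LD1_c1 LD2_c22 LD3_c45)) :=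
  Lre_c IH (LK LD1_c2 LD2_c53 LD3_c19) (LK LD1_c1 LD2_c22 LD3_c45) Lrfl Lrfl
theorem f71151 : Led Lsl_ft (LP (LK LD1_c4 LD2_c36 LD3_c0)) = (LP (LK LD1_c2 LD2_c53 LD3_c19)) :=
  Lgr Lrot4 (Lpe (f70888 IH) (Lpr_ff (f71134 IH) (Lpe (f70927 IH) (Lpn (LP (LK LD1_c2 LD2_c53 LD3_c19))))))
theorem f71154 : Led Lsl_at (LP (LK LD1_c2 LD2_c15 LD3_c18)) = (LP (LK LD1_c4 LD2_c36 LD3_c0)) :=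
  Lre_a IH (LK LD1_c2 LD2_c15 LD3_c18) (LK LD1_c4 LD2_c36 LD3_c0) Lrfl Lrfl
theorem f71155 : Led Lsl_at (LP (LK LD1_c2 LD2_c53 LD3_c19)) = (LP (LK LD1_c1 LD2_c22 LD3_c53)) :=
  Lre_a IH (LK LD1_c2 LD2_c53 LD3_c19) (LK LD1_c1 LD2_c22 LD3_c53) Lrfl Lrfl
theorem f71156 : Led Lsl_ff (LP (LK LD1_c2 LD2_c15 LD3_c18)) = (LP (LK LD1_c1 LD2_c22 LD3_c53)) :=
  Lgr Lrot30 (Lpr_at (f71154 IH) (Lpr_ft (f71151 IH) (Lpr_at (f71155 IH) (Lpn (LP (LK LD1_c1 LD2_c22 LD3_c53))))))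
theorem f71022 : Led Lsl_ct (LP (LK LD1_c2 LD2_c15 LD3_c11)) = (LP (LK LD1_c1 LD2_c4 LD3_c42)) :=
  Lre_c IH (LK LD1_c2 LD2_c15 LD3_c11) (LK LD1_c1 LD2_c4 LD3_c42) Lrfl Lrfl
theorem f70905 : Led Lsl_dt (LP (LK LD1_c4 LD2_c35 LD3_c60)) = (LP (LK LD1_c2 LD2_c15 LD3_c11)) :=
  Lre_d IH (LK LD1_c4 LD2_c35 LD3_c60) (LK LD1_c2 LD2_c15 LD3_c11) Lrfl Lrfl
theorem f70904 : Led Lsl_ct (LP (LK LD1_c9 LD2_c8 LD3_c10)) = (LP (LK LD1_c4 LD2_c35 LD3_c60)) :=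
  Lre_c IH (LK LD1_c9 LD2_c8 LD3_c10) (LK LD1_c4 LD2_c35 LD3_c60) Lrfl Lrfl
theorem f22770 : Led Lsl_dt (LP (LK LD1_c1 LD2_c22 LD3_c53)) = (LP (LK LD1_c2 LD2_c53 LD3_c44)) :=
  Lre_d IH (LK LD1_c1 LD2_c22 LD3_c53) (LK LD1_c2 LD2_c53 LD3_c44) Lrfl Lrfl
theorem f22809 : Led Lsl_ct (LP (LK LD1_c2 LD2_c53 LD3_c44)) = (LP (LK LD1_c5 LD2_c54 LD3_c48)) :=
  Lre_c IH (LK LD1_c2 LD2_c53 LD3_c44) (LK LD1_c5 LD2_c54 LD3_c48) Lrfl Lrfl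
theorem f71186 : Led Lsl_df (LP (LK LD1_c9 LD2_c8 LD3_c10)) = (LP (LK LD1_c5 LD2_c54 LD3_c48)) :=
  Lgr Lrot106 (Lpr_ct (f70904 IH) (Lpr_dt (f70905 IH) (Lpr_ct (f71022 IH) (Lpr_dt (f71023 IH) (Lpr_ct (f70888 IH) (Lpe (f71154 IH) (Lpr_ff (f71156 IH) (Lpr_dt (f22770 IH) (Lpr_ct (f22809 IH) (Lpn (LP (LK LD1_c5 LD2_c54 LD3_c48))))))))))))
theorem f71192 : Led Lsl_at (LP (LK LD1_c0 LD2_c29 LD3_c36)) = (LP (LK LD1_c1 LD2_c4 LD3_c42)) :=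
  Lre_a IH (LK LD1_c0 LD2_c29 LD3_c36) (LK LD1_c1 LD2_c4 LD3_c42) Lrfl Lrfl
theorem f22465 : Led Lsl_ct (LP (LK LD1_c0 LD2_c38 LD3_c22)) = (LP (LK LD1_c1 LD2_c22 LD3_c53)) :=
  Lre_c IH (LK LD1_c0 LD2_c38 LD3_c22) (LK LD1_c1 LD2_c22 LD3_c53) Lrfl Lrfl
theorem f22777 : Led Lsl_dt (LP (LK LD1_c0 LD2_c17 LD3_c5)) = (LP (LK LD1_c0 LD2_c38 LD3_c22)) :=
  Lre_d IH (LK LD1_c0 LD2_c17 LD3_c5) (LK LD1_c0 LD2_c38 LD3_c22) Lrfl Lrfl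
theorem f71193 : Led Lsl_ff (LP (LK LD1_c0 LD2_c29 LD3_c36)) = (LP (LK LD1_c0 LD2_c17 LD3_c5)) :=
  Lgr Lrot103 (Lpr_at (f71192 IH) (Lpe (f71022 IH) (Lpe (f70905 IH) (Lpe (f70904 IH) (Lpr_df (f71186 IH) (Lpe (f22809 IH) (Lpe (f22770 IH) (Lpe (f22465 IH) (Lpe (f22777 IH) (Lpn (LP (LK LD1_c0 LD2_c17 LD3_c5))))))))))))
theorem f71197 : Led Lsl_bt (LP (LK LD1_c0 LD2_c29 LD3_c36)) = (LP (LK LD1_c0 LD2_c13 LD3_c1)) :=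
  Lre_b IH (LK LD1_c0 LD2_c29 LD3_c36) (LK LD1_c0 LD2_c13 LD3_c1) Lrfl Lrfl
theorem f37943 : Led Lsl_bt (LP (LK LD1_c0 LD2_c7 LD3_c37)) = (LP (LK LD1_c0 LD2_c17 LD3_c5)) :=
  Lre_b IH (LK LD1_c0 LD2_c7 LD3_c37) (LK LD1_c0 LD2_c17 LD3_c5) Lrfl Lrfl
theorem f71198 : Led Lsl_ft (LP (LK LD1_c0 LD2_c13 LD3_c1)) = (LP (LK LD1_c0 LD2_c7 LD3_c37)) :=
  Lgr Lrot75 (Lpe (f71197 IH) (Lpr_ff (f71193 IH) (Lpe (f37943 IH) (Lpn (LP (LK LD1_c0 LD2_c7 LD3_c37))))))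
theorem f71308 : Led Lsl_ff (LP (LK LD1_c0 LD2_c29 LD3_c37)) = (LP (LK LD1_c0 LD2_c17 LD3_c6)) :=
  Lgr Lrot19 (Lpr_dt (K0.f23001 IH) (Lpr_ft (f71198 IH) (Lpr_dt (K0.f8328 IH) (Lpn (LP (LK LD1_c0 LD2_c17 LD3_c6))))))
theorem f71315 : Led Lsl_at (LP (LK LD1_c0 LD2_c29 LD3_c37)) = (LP (LK LD1_c0 LD2_c17 LD3_c9)) :=
  Lgr Lrot26 (Lpr_ff (f71308 IH) (Lpe (K0.f22445 IH) (Lpe (K0.f23895 IH) (Lpn (LP (LK LD1_c0 LD2_c17 LD3_c9))))))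
theorem f23025 : Led Lsl_et (LP (LK LD1_c1 LD2_c4 LD3_c46)) = (LP (LK LD1_c0 LD2_c29 LD3_c37)) :=
  Lre_e IH (LK LD1_c1 LD2_c4 LD3_c46) (LK LD1_c0 LD2_c29 LD3_c37) Lrfl Lrfl
theorem f71325 : Led Lsl_et (LP (LK LD1_c0 LD2_c17 LD3_c9)) = (LP (LK LD1_c0 LD2_c38 LD3_c33)) :=
  Lre_e IH (LK LD1_c0 LD2_c17 LD3_c9) (LK LD1_c0 LD2_c38 LD3_c33) Lrfl Lrfl
theorem f71326 : Led Lsl_af (LP (LK LD1_c1 LD2_c4 LD3_c46)) = (LP (LK LD1_c0 LD2_c38 LD3_c33)) :=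
  Lgr Lrot50 (Lpr_et (f23025 IH) (Lpr_at (f71315 IH) (Lpr_et (f71325 IH) (Lpn (LP (LK LD1_c0 LD2_c38 LD3_c33))))))
theorem f71312 : Led Lsl_ft (LP (LK LD1_c1 LD2_c4 LD3_c46)) = (LP (LK LD1_c2 LD2_c15 LD3_c27)) :=
  Lre_f IH (LK LD1_c1 LD2_c4 LD3_c46) (LK LD1_c2 LD2_c15 LD3_c27) Lrfl Lrfl
theorem f71338 : Led Lsl_ft (LP (LK LD1_c1 LD2_c23 LD3_c24)) = (LP (LK LD1_c0 LD2_c38 LD3_c33)) :=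
  Lre_f IH (LK LD1_c1 LD2_c23 LD3_c24) (LK LD1_c0 LD2_c38 LD3_c33) Lrfl Lrfl
theorem f71339 : Led Lsl_at (LP (LK LD1_c2 LD2_c15 LD3_c27)) = (LP (LK LD1_c1 LD2_c23 LD3_c24)) :=
  Lgr Lrot66 (Lpe (f71312 IH) (Lpr_af (f71326 IH) (Lpe (f71338 IH) (Lpn (LP (LK LD1_c1 LD2_c23 LD3_c24))))))
theorem f71358 : Led Lsl_dt (LP (LK LD1_c4 LD2_c36 LD3_c34)) = (LP (LK LD1_c2 LD2_c15 LD3_c27)) :=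
  Lre_d IH (LK LD1_c4 LD2_c36 LD3_c34) (LK LD1_c2 LD2_c15 LD3_c27) Lrfl Lrfl
theorem f71344 : Led Lsl_dt (LP (LK LD1_c1 LD2_c23 LD3_c24)) = (LP (LK LD1_c2 LD2_c54 LD3_c60)) :=
  Lre_d IH (LK LD1_c1 LD2_c23 LD3_c24) (LK LD1_c2 LD2_c54 LD3_c60) Lrfl Lrfl
theorem f71359 : Led Lsl_af (LP (LK LD1_c4 LD2_c36 LD3_c34)) = (LP (LK LD1_c2 LD2_c54 LD3_c60)) :=
  Lgr Lrot117 (Lpr_dt (f71358 IH) (Lpr_at (f71339 IH) (Lpr_dt (f71344 IH) (Lpn (LP (LK LD1_c2 LD2_c54 LD3_c60))))))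
theorem f71374 : Led Lsl_et (LP (LK LD1_c4 LD2_c36 LD3_c34)) = (LP (LK LD1_c9 LD2_c9 LD3_c13)) :=
  Lre_e IH (LK LD1_c4 LD2_c36 LD3_c34) (LK LD1_c9 LD2_c9 LD3_c13) Lrfl Lrfl
theorem f71375 : Led Lsl_et (LP (LK LD1_c5 LD2_c57 LD3_c25)) = (LP (LK LD1_c2 LD2_c54 LD3_c60)) :=
  Lre_e IH (LK LD1_c5 LD2_c57 LD3_c25) (LK LD1_c2 LD2_c54 LD3_c60) Lrfl Lrfl
theorem f71376 : Led Lsl_at (LP (LK LD1_c9 LD2_c9 LD3_c13)) = (LP (LK LD1_c5 LD2_c57 LD3_c25)) :=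
  Lgr Lrot80 (Lpe (f71374 IH) (Lpr_af (f71359 IH) (Lpe (f71375 IH) (Lpn (LP (LK LD1_c5 LD2_c57 LD3_c25))))))
theorem f71283 : Led Lsl_ft (LP (LK LD1_c4 LD2_c36 LD3_c36)) = (LP (LK LD1_c9 LD2_c9 LD3_c13)) :=
  Lre_f IH (LK LD1_c4 LD2_c36 LD3_c36) (LK LD1_c9 LD2_c9 LD3_c13) Lrfl Lrfl
theorem f71390 : Led Lsl_ft (LP (LK LD1_c5 LD2_c57 LD3_c25)) = (LP (LK LD1_c2 LD2_c55 LD3_c0)) :=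
  Lre_f IH (LK LD1_c5 LD2_c57 LD3_c25) (LK LD1_c2 LD2_c55 LD3_c0) Lrfl Lrfl
theorem f71391 : Led Lsl_af (LP (LK LD1_c4 LD2_c36 LD3_c36)) = (LP (LK LD1_c2 LD2_c55 LD3_c0)) :=
  Lgr Lrot45 (Lpr_ft (f71283 IH) (Lpr_at (f71376 IH) (Lpr_ft (f71390 IH) (Lpn (LP (LK LD1_c2 LD2_c55 LD3_c0))))))
theorem f71277 : Led Lsl_et (LP (LK LD1_c4 LD2_c36 LD3_c36)) = (LP (LK LD1_c2 LD2_c15 LD3_c29)) :=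
  Lre_e IH (LK LD1_c4 LD2_c36 LD3_c36) (LK LD1_c2 LD2_c15 LD3_c29) Lrfl Lrfl
theorem f71401 : Led Lsl_et (LP (LK LD1_c1 LD2_c23 LD3_c26)) = (LP (LK LD1_c2 LD2_c55 LD3_c0)) :=
  Lre_e IH (LK LD1_c1 LD2_c23 LD3_c26) (LK LD1_c2 LD2_c55 LD3_c0) Lrfl Lrfl
theorem f71402 : Led Lsl_at (LP (LK LD1_c2 LD2_c15 LD3_c29)) = (LP (LK LD1_c1 LD2_c23 LD3_c26)) :=
  Lgr Lrot80 (Lpe (f71277 IH) (Lpr_af (f71391 IH) (Lpe (f71401 IH) (Lpn (LP (LK LD1_c1 LD2_c23 LD3_c26))))))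
theorem f71415 : Led Lsl_ft (LP (LK LD1_c1 LD2_c4 LD3_c47)) = (LP (LK LD1_c2 LD2_c15 LD3_c29)) :=
  Lre_f IH (LK LD1_c1 LD2_c4 LD3_c47) (LK LD1_c2 LD2_c15 LD3_c29) Lrfl Lrfl
theorem f71416 : Led Lsl_ft (LP (LK LD1_c1 LD2_c23 LD3_c26)) = (LP (LK LD1_c0 LD2_c38 LD3_c34)) :=
  Lre_f IH (LK LD1_c1 LD2_c23 LD3_c26) (LK LD1_c0 LD2_c38 LD3_c34) Lrfl Lrfl
theorem f71417 : Led Lsl_af (LP (LK LD1_c1 LD2_c4 LD3_c47)) = (LP (LK LD1_c0 LD2_c38 LD3_c34)) :=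
  Lgr Lrot45 (Lpr_ft (f71415 IH) (Lpr_at (f71402 IH) (Lpr_ft (f71416 IH) (Lpn (LP (LK LD1_c0 LD2_c38 LD3_c34))))))
theorem f37712 : Led Lsl_dt (LP (LK LD1_c1 LD2_c4 LD3_c47)) = (LP (LK LD1_c0 LD2_c29 LD3_c38)) :=
  Lre_d IH (LK LD1_c1 LD2_c4 LD3_c47) (LK LD1_c0 LD2_c29 LD3_c38) Lrfl Lrfl
theorem f23954 : Led Lsl_dt (LP (LK LD1_c0 LD2_c17 LD3_c10)) = (LP (LK LD1_c0 LD2_c38 LD3_c34)) :=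
  Lre_d IH (LK LD1_c0 LD2_c17 LD3_c10) (LK LD1_c0 LD2_c38 LD3_c34) Lrfl Lrfl
theorem f71438 : Led Lsl_at (LP (LK LD1_c0 LD2_c29 LD3_c38)) = (LP (LK LD1_c0 LD2_c17 LD3_c10)) :=
  Lgr Lrot51 (Lpe (f37712 IH) (Lpr_af (f71417 IH) (Lpe (f23954 IH) (Lpn (LP (LK LD1_c0 LD2_c17 LD3_c10))))))
theorem f23916 : Led Lsl_et (LP (LK LD1_c0 LD2_c7 LD3_c38)) = (LP (LK LD1_c0 LD2_c17 LD3_c10)) :=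
  Lre_e IH (LK LD1_c0 LD2_c7 LD3_c38) (LK LD1_c0 LD2_c17 LD3_c10) Lrfl Lrfl
theorem f37925 : Led Lsl_cf (LP (LK LD1_c0 LD2_c14 LD3_c45)) = (LP (LK LD1_c0 LD2_c17 LD3_c10)) :=
  Lgr Lrot39 (Lpr_et (K1.f37723 IH) (Lpr_ct (K1.f37912 IH) (Lpr_et (f23916 IH) (Lpn (LP (LK LD1_c0 LD2_c17 LD3_c10))))))
theorem f71449 : Led Lsl_cf (LP (LK LD1_c0 LD2_c29 LD3_c38)) = (LP (LK LD1_c0 LD2_c17 LD3_c56)) :=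
  Lgr Lrot1 (Lpr_at (f71438 IH) (Lpe (f37925 IH) (Lpr_at (K1.f37699 IH) (Lpn (LP (LK LD1_c0 LD2_c17 LD3_c56))))))
theorem f71292 : Led Lsl_ft (LP (LK LD1_c0 LD2_c29 LD3_c38)) = (LP (LK LD1_c1 LD2_c4 LD3_c48)) :=
  Lre_f IH (LK LD1_c0 LD2_c29 LD3_c38) (LK LD1_c1 LD2_c4 LD3_c48) Lrfl Lrfl
theorem f71465 : Led Lsl_ct (LP (LK LD1_c1 LD2_c4 LD3_c48)) = (LP (LK LD1_c0 LD2_c39 LD3_c57)) :=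
  Lgr Lrot40 (Lpe (f71292 IH) (Lpr_cf (f71449 IH) (Lpe (K1.f27233 IH) (Lpn (LP (LK LD1_c0 LD2_c39 LD3_c57))))))
theorem f71200 : Led Lsl_et (LP (LK LD1_c0 LD2_c29 LD3_c36)) = (LP (LK LD1_c1 LD2_c4 LD3_c45)) :=
  Lre_e IH (LK LD1_c0 LD2_c29 LD3_c36) (LK LD1_c1 LD2_c4 LD3_c45) Lrfl Lrfl
theorem f71201 : Led Lsl_ft (LP (LK LD1_c1 LD2_c4 LD3_c45)) = (LP (LK LD1_c2 LD2_c15 LD3_c23)) :=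
  Lre_f IH (LK LD1_c1 LD2_c4 LD3_c45) (LK LD1_c2 LD2_c15 LD3_c23) Lrfl Lrfl
theorem f71202 : Led Lsl_et (LP (LK LD1_c0 LD2_c38 LD3_c23)) = (LP (LK LD1_c0 LD2_c17 LD3_c5)) :=
  Lre_e IH (LK LD1_c0 LD2_c38 LD3_c23) (LK LD1_c0 LD2_c17 LD3_c5) Lrfl Lrfl
theorem f71203 : Led Lsl_ft (LP (LK LD1_c1 LD2_c22 LD3_c57)) = (LP (LK LD1_c0 LD2_c38 LD3_c23)) :=
  Lre_f IH (LK LD1_c1 LD2_c22 LD3_c57) (LK LD1_c0 LD2_c38 LD3_c23) Lrfl Lrfl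
theorem f71204 : Led Lsl_et (LP (LK LD1_c2 LD2_c15 LD3_c23)) = (LP (LK LD1_c1 LD2_c22 LD3_c57)) :=
  Lgr Lrot69 (Lpe (f71201 IH) (Lpe (f71200 IH) (Lpr_ff (f71193 IH) (Lpe (f71202 IH) (Lpe (f71203 IH) (Lpn (LP (LK LD1_c1 LD2_c22 LD3_c57))))))))
theorem f71223 : Led Lsl_bt (LP (LK LD1_c1 LD2_c4 LD3_c48)) = (LP (LK LD1_c2 LD2_c15 LD3_c23)) :=
  Lre_b IH (LK LD1_c1 LD2_c4 LD3_c48) (LK LD1_c2 LD2_c15 LD3_c23) Lrfl Lrfl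
theorem f71224 : Led Lsl_bt (LP (LK LD1_c1 LD2_c22 LD3_c57)) = (LP (LK LD1_c0 LD2_c38 LD3_c26)) :=
  Lre_b IH (LK LD1_c1 LD2_c22 LD3_c57) (LK LD1_c0 LD2_c38 LD3_c26) Lrfl Lrfl
theorem f71225 : Led Lsl_ef (LP (LK LD1_c1 LD2_c4 LD3_c48)) = (LP (LK LD1_c0 LD2_c38 LD3_c26)) :=
  Lgr Lrot29 (Lpr_bt (f71223 IH) (Lpr_et (f71204 IH) (Lpr_bt (f71224 IH) (Lpn (LP (LK LD1_c0 LD2_c38 LD3_c26))))))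
theorem f71479 : Led Lsl_cf (LP (LK LD1_c0 LD2_c38 LD3_c26)) = (LP (LK LD1_c0 LD2_c32 LD3_c8)) :=
  Lgr Lrot39 (Lpe (f71225 IH) (Lpr_ct (f71465 IH) (Lpe (K1.f36213 IH) (Lpn (LP (LK LD1_c0 LD2_c32 LD3_c8))))))
theorem f32280 : Led Lsl_dt (LP (LK LD1_c0 LD2_c34 LD3_c34)) = (LP (LK LD1_c0 LD2_c15 LD3_c30)) :=
  Lre_d IH (LK LD1_c0 LD2_c34 LD3_c34) (LK LD1_c0 LD2_c15 LD3_c30) Lrfl Lrfl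
theorem f32796 : Led Lsl_ct (LP (LK LD1_c1 LD2_c14 LD3_c33)) = (LP (LK LD1_c0 LD2_c34 LD3_c34)) :=
  Lre_c IH (LK LD1_c1 LD2_c14 LD3_c33) (LK LD1_c0 LD2_c34 LD3_c34) Lrfl Lrfl
theorem f34844 : Led Lsl_et (LP (LK LD1_c2 LD2_c9 LD3_c47)) = (LP (LK LD1_c4 LD2_c24 LD3_c37)) :=
  Lre_e IH (LK LD1_c2 LD2_c9 LD3_c47) (LK LD1_c4 LD2_c24 LD3_c37) Lrfl Lrfl
theorem f34845 : Led Lsl_dt (LP (LK LD1_c1 LD2_c1 LD3_c60)) = (LP (LK LD1_c2 LD2_c9 LD3_c47)) :=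
  Lre_d IH (LK LD1_c1 LD2_c1 LD3_c60) (LK LD1_c2 LD2_c9 LD3_c47) Lrfl Lrfl
theorem f34846 : Led Lsl_et (LP (LK LD1_c8 LD2_c38 LD3_c21)) = (LP (LK LD1_c4 LD2_c20 LD3_c13)) :=
  Lre_e IH (LK LD1_c8 LD2_c38 LD3_c21) (LK LD1_c4 LD2_c20 LD3_c13) Lrfl Lrfl
theorem f34847 : Led Lsl_dt (LP (LK LD1_c4 LD2_c20 LD3_c13)) = (LP (LK LD1_c2 LD2_c7 LD3_c34)) :=
  Lre_d IH (LK LD1_c4 LD2_c20 LD3_c13) (LK LD1_c2 LD2_c7 LD3_c34) Lrfl Lrfl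
theorem f34848 : Led Lsl_ef (LP (LK LD1_c1 LD2_c1 LD3_c60)) = (LP (LK LD1_c2 LD2_c7 LD3_c34)) :=
  Lgr Lrot73 (Lpr_dt (f34845 IH) (Lpr_et (f34844 IH) (Lpr_dt (K1.f34827 IH) (Lpr_et (f34846 IH) (Lpr_dt (f34847 IH) (Lpn (LP (LK LD1_c2 LD2_c7 LD3_c34))))))))
theorem f34754 : Led Lsl_bt (LP (LK LD1_c0 LD2_c28 LD3_c17)) = (LP (LK LD1_c1 LD2_c1 LD3_c60)) :=
  Lre_b IH (LK LD1_c0 LD2_c28 LD3_c17) (LK LD1_c1 LD2_c1 LD3_c60) Lrfl Lrfl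
theorem f26599 : Led Lsl_bt (LP (LK LD1_c0 LD2_c29 LD3_c33)) = (LP (LK LD1_c0 LD2_c13 LD3_c0)) :=
  Lre_b IH (LK LD1_c0 LD2_c29 LD3_c33) (LK LD1_c0 LD2_c13 LD3_c0) Lrfl Lrfl
theorem f34755 : Led Lsl_ct (LP (LK LD1_c1 LD2_c1 LD3_c60)) = (LP (LK LD1_c0 LD2_c29 LD3_c33)) :=
  Lgr Lrot83 (Lpe (f34754 IH) (Lpe (K0.f34740 IH) (Lpr_bf (K0.f34738 IH) (Lpr_cf (K0.f26586 IH) (Lpe (f26599 IH) (Lpn (LP (LK LD1_c0 LD2_c29 LD3_c33))))))))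
theorem f34870 : Led Lsl_et (LP (LK LD1_c0 LD2_c29 LD3_c33)) = (LP (LK LD1_c1 LD2_c4 LD3_c36)) :=
  Lre_e IH (LK LD1_c0 LD2_c29 LD3_c33) (LK LD1_c1 LD2_c4 LD3_c36) Lrfl Lrfl
theorem f34871 : Led Lsl_ct (LP (LK LD1_c1 LD2_c4 LD3_c36)) = (LP (LK LD1_c2 LD2_c7 LD3_c34)) :=
  Lgr Lrot15 (Lpe (f34870 IH) (Lpe (f34755 IH) (Lpr_ef (f34848 IH) (Lpn (LP (LK LD1_c2 LD2_c7 LD3_c34))))))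
theorem f34893 : Led Lsl_ft (LP (LK LD1_c2 LD2_c14 LD3_c60)) = (LP (LK LD1_c1 LD2_c4 LD3_c36)) :=
  Lre_f IH (LK LD1_c2 LD2_c14 LD3_c60) (LK LD1_c1 LD2_c4 LD3_c36) Lrfl Lrfl
theorem f34894 : Led Lsl_ft (LP (LK LD1_c2 LD2_c7 LD3_c34)) = (LP (LK LD1_c4 LD2_c20 LD3_c14)) :=
  Lre_f IH (LK LD1_c2 LD2_c7 LD3_c34) (LK LD1_c4 LD2_c20 LD3_c14) Lrfl Lrfl
theorem f34895 : Led Lsl_cf (LP (LK LD1_c2 LD2_c14 LD3_c60)) = (LP (LK LD1_c4 LD2_c20 LD3_c14)) :=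
  Lgr Lrot108 (Lpr_ft (f34893 IH) (Lpr_ct (f34871 IH) (Lpr_ft (f34894 IH) (Lpn (LP (LK LD1_c4 LD2_c20 LD3_c14))))))
theorem f34918 : Led Lsl_bt (LP (LK LD1_c2 LD2_c14 LD3_c60)) = (LP (LK LD1_c1 LD2_c4 LD3_c39)) :=
  Lre_b IH (LK LD1_c2 LD2_c14 LD3_c60) (LK LD1_c1 LD2_c4 LD3_c39) Lrfl Lrfl
theorem f34919 : Led Lsl_bt (LP (LK LD1_c2 LD2_c7 LD3_c36)) = (LP (LK LD1_c4 LD2_c20 LD3_c14)) :=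
  Lre_b IH (LK LD1_c2 LD2_c7 LD3_c36) (LK LD1_c4 LD2_c20 LD3_c14) Lrfl Lrfl
theorem f31592 : Led Lsl_bt (LP (LK LD1_c1 LD2_c9 LD3_c35)) = (LP (LK LD1_c0 LD2_c32 LD3_c8)) :=
  Lre_b IH (LK LD1_c1 LD2_c9 LD3_c35) (LK LD1_c0 LD2_c32 LD3_c8) Lrfl Lrfl
theorem f32013 : Led Lsl_bt (LP (LK LD1_c0 LD2_c32 LD3_c13)) = (LP (LK LD1_c1 LD2_c0 LD3_c53)) :=
  Lgr Lrot62 (Lpr_af (K1.f31657 IH) (Lpe (f31592 IH) (Lpr_af (K1.f31560 IH) (Lpe (K1.f28630 IH) (Lpr_af (K0.f32011 IH) (Lpn (LP (LK LD1_c1 LD2_c0 LD3_c53))))))))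
theorem f34920 : Led Lsl_ct (LP (LK LD1_c1 LD2_c4 LD3_c39)) = (LP (LK LD1_c0 LD2_c32 LD3_c13)) :=
  Lgr Lrot83 (Lpe (f34918 IH) (Lpr_cf (f34895 IH) (Lpe (f34919 IH) (Lpe (K1.f31765 IH) (Lpe (f32013 IH) (Lpn (LP (LK LD1_c0 LD2_c32 LD3_c13))))))))
theorem f34994 : Led Lsl_dt (LP (LK LD1_c2 LD2_c15 LD3_c4)) = (LP (LK LD1_c1 LD2_c4 LD3_c39)) :=
  Lre_d IH (LK LD1_c2 LD2_c15 LD3_c4) (LK LD1_c1 LD2_c4 LD3_c39) Lrfl Lrfl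
theorem f31668 : Led Lsl_ft (LP (LK LD1_c0 LD2_c14 LD3_c21)) = (LP (LK LD1_c0 LD2_c32 LD3_c8)) :=
  Lre_f IH (LK LD1_c0 LD2_c14 LD3_c21) (LK LD1_c0 LD2_c32 LD3_c8) Lrfl Lrfl
theorem f31443 : Led Lsl_dt (LP (LK LD1_c0 LD2_c14 LD3_c21)) = (LP (LK LD1_c0 LD2_c6 LD3_c37)) :=
  Lre_d IH (LK LD1_c0 LD2_c14 LD3_c21) (LK LD1_c0 LD2_c6 LD3_c37) Lrfl Lrfl
theorem f32264 : Led Lsl_dt (LP (LK LD1_c0 LD2_c7 LD3_c1)) = (LP (LK LD1_c0 LD2_c15 LD3_c29)) :=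
  Lre_d IH (LK LD1_c0 LD2_c7 LD3_c1) (LK LD1_c0 LD2_c15 LD3_c29) Lrfl Lrfl
theorem f32285 : Led Lsl_ct (LP (LK LD1_c0 LD2_c15 LD3_c29)) = (LP (LK LD1_c0 LD2_c34 LD3_c33)) :=
  Lre_c IH (LK LD1_c0 LD2_c15 LD3_c29) (LK LD1_c0 LD2_c34 LD3_c33) Lrfl Lrfl
theorem f32286 : Led Lsl_dt (LP (LK LD1_c0 LD2_c34 LD3_c33)) = (LP (LK LD1_c1 LD2_c14 LD3_c32)) :=
  Lre_d IH (LK LD1_c0 LD2_c34 LD3_c33) (LK LD1_c1 LD2_c14 LD3_c32) Lrfl Lrfl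
theorem f34996 : Led Lsl_cf (LP (LK LD1_c2 LD2_c15 LD3_c4)) = (LP (LK LD1_c1 LD2_c14 LD3_c32)) :=
  Lgr Lrot161 (Lpr_dt (f34994 IH) (Lpr_ct (f34920 IH) (Lpr_af (K1.f31657 IH) (Lpe (f31668 IH) (Lpr_dt (f31443 IH) (Lpr_ct (K1.f32873 IH) (Lpr_dt (f32264 IH) (Lpr_ct (f32285 IH) (Lpr_dt (f32286 IH) (Lpn (LP (LK LD1_c1 LD2_c14 LD3_c32))))))))))))
theorem f34998 : Led Lsl_ft (LP (LK LD1_c2 LD2_c15 LD3_c4)) = (LP (LK LD1_c1 LD2_c4 LD3_c38)) :=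
  Lre_f IH (LK LD1_c2 LD2_c15 LD3_c4) (LK LD1_c1 LD2_c4 LD3_c38) Lrfl Lrfl
theorem f35008 : Led Lsl_ct (LP (LK LD1_c1 LD2_c4 LD3_c38)) = (LP (LK LD1_c2 LD2_c15 LD3_c3)) :=
  Lre_c IH (LK LD1_c1 LD2_c4 LD3_c38) (LK LD1_c2 LD2_c15 LD3_c3) Lrfl Lrfl
theorem f35009 : Led Lsl_ft (LP (LK LD1_c2 LD2_c15 LD3_c3)) = (LP (LK LD1_c1 LD2_c14 LD3_c32)) :=
  Lgr Lrot4 (Lpe (f35008 IH) (Lpe (f34998 IH) (Lpr_cf (f34996 IH) (Lpn (LP (LK LD1_c1 LD2_c14 LD3_c32))))))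
theorem f35022 : Led Lsl_ff (LP (LK LD1_c2 LD2_c15 LD3_c3)) = (LP (LK LD1_c1 LD2_c14 LD3_c32)) :=
  Lgr Lrot3 (Lpr_ft (f35009 IH) (Lpn (LP (LK LD1_c1 LD2_c14 LD3_c32))))
theorem f32780 : Led Lsl_ft (LP (LK LD1_c1 LD2_c14 LD3_c33)) = (LP (LK LD1_c0 LD2_c34 LD3_c33)) :=
  Lre_f IH (LK LD1_c1 LD2_c14 LD3_c33) (LK LD1_c0 LD2_c34 LD3_c33) Lrfl Lrfl
theorem f35029 : Led Lsl_dt (LP (LK LD1_c2 LD2_c15 LD3_c3)) = (LP (LK LD1_c1 LD2_c14 LD3_c33)) :=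
  Lgr Lrot60 (Lpr_ff (f35022 IH) (Lpe (f32286 IH) (Lpe (f32780 IH) (Lpn (LP (LK LD1_c1 LD2_c14 LD3_c33))))))
theorem f26941 : Led Lsl_dt (LP (LK LD1_c0 LD2_c29 LD3_c35)) = (LP (LK LD1_c1 LD2_c4 LD3_c38)) :=
  Lre_d IH (LK LD1_c0 LD2_c29 LD3_c35) (LK LD1_c1 LD2_c4 LD3_c38) Lrfl Lrfl
theorem f34995 : Led Lsl_ft (LP (LK LD1_c0 LD2_c29 LD3_c35)) = (LP (LK LD1_c1 LD2_c4 LD3_c39)) :=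
  Lre_f IH (LK LD1_c0 LD2_c29 LD3_c35) (LK LD1_c1 LD2_c4 LD3_c39) Lrfl Lrfl
theorem f71490 : Led Lsl_af (LP (LK LD1_c0 LD2_c38 LD3_c26)) = (LP (LK LD1_c1 LD2_c4 LD3_c39)) :=
  Lgr Lrot109 (Lpr_cf (f71479 IH) (Lpe (K1.f31556 IH) (Lpr_cf (K1.f32290 IH) (Lpe (f32280 IH) (Lpe (f32796 IH) (Lpe (f35029 IH) (Lpe (f35008 IH) (Lpe (f26941 IH) (Lpr_ft (f34995 IH) (Lpn (LP (LK LD1_c1 LD2_c4 LD3_c39))))))))))))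
theorem f71293 : Led Lsl_ft (LP (LK LD1_c0 LD2_c38 LD3_c26)) = (LP (LK LD1_c0 LD2_c17 LD3_c7)) :=
  Lre_f IH (LK LD1_c0 LD2_c38 LD3_c26) (LK LD1_c0 LD2_c17 LD3_c7) Lrfl Lrfl
theorem f71497 : Led Lsl_at (LP (LK LD1_c0 LD2_c17 LD3_c7)) = (LP (LK LD1_c0 LD2_c29 LD3_c35)) :=
  Lgr Lrot66 (Lpe (f71293 IH) (Lpr_af (f71490 IH) (Lpe (f34995 IH) (Lpn (LP (LK LD1_c0 LD2_c29 LD3_c35))))))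
theorem f71507 : Led Lsl_dt (LP (LK LD1_c0 LD2_c38 LD3_c25)) = (LP (LK LD1_c0 LD2_c17 LD3_c7)) :=
  Lre_d IH (LK LD1_c0 LD2_c38 LD3_c25) (LK LD1_c0 LD2_c17 LD3_c7) Lrfl Lrfl
theorem f71508 : Led Lsl_af (LP (LK LD1_c0 LD2_c38 LD3_c25)) = (LP (LK LD1_c1 LD2_c4 LD3_c38)) :=
  Lgr Lrot117 (Lpr_dt (f71507 IH) (Lpr_at (f71497 IH) (Lpr_dt (f26941 IH) (Lpn (LP (LK LD1_c1 LD2_c4 LD3_c38))))))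
theorem f71525 : Led Lsl_ct (LP (LK LD1_c1 LD2_c22 LD3_c61)) = (LP (LK LD1_c0 LD2_c38 LD3_c25)) :=
  Lre_c IH (LK LD1_c1 LD2_c22 LD3_c61) (LK LD1_c0 LD2_c38 LD3_c25) Lrfl Lrfl
theorem f32271 : Led Lsl_ct (LP (LK LD1_c0 LD2_c34 LD3_c49)) = (LP (LK LD1_c1 LD2_c15 LD3_c1)) :=
  Lre_c IH (LK LD1_c0 LD2_c34 LD3_c49) (LK LD1_c1 LD2_c15 LD3_c1) Lrfl Lrfl
theorem f71526 : Led Lsl_df (LP (LK LD1_c1 LD2_c22 LD3_c61)) = (LP (LK LD1_c1 LD2_c15 LD3_c1)) :=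
  Lgr Lrot177 (Lpr_ct (f71525 IH) (Lpr_af (f71508 IH) (Lpe (f34998 IH) (Lpr_dt (f34994 IH) (Lpr_ct (f34920 IH) (Lpr_dt (K1.f31656 IH) (Lpe (K1.f32099 IH) (Lpr_dt (K1.f32222 IH) (Lpr_ct (f32271 IH) (Lpn (LP (LK LD1_c1 LD2_c15 LD3_c1))))))))))))
theorem f32779 : Led Lsl_ft (LP (LK LD1_c0 LD2_c34 LD3_c48)) = (LP (LK LD1_c1 LD2_c15 LD3_c1)) :=
  Lre_f IH (LK LD1_c0 LD2_c34 LD3_c48) (LK LD1_c1 LD2_c15 LD3_c1) Lrfl Lrfl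
theorem f31619 : Led Lsl_dt (LP (LK LD1_c1 LD2_c15 LD3_c0)) = (LP (LK LD1_c0 LD2_c34 LD3_c48)) :=
  Lre_d IH (LK LD1_c1 LD2_c15 LD3_c0) (LK LD1_c0 LD2_c34 LD3_c48) Lrfl Lrfl
theorem f71534 : Led Lsl_ft (LP (LK LD1_c1 LD2_c22 LD3_c61)) = (LP (LK LD1_c1 LD2_c15 LD3_c0)) :=
  Lgr Lrot54 (Lpr_df (f71526 IH) (Lpe (f32779 IH) (Lpe (f31619 IH) (Lpn (LP (LK LD1_c1 LD2_c15 LD3_c0))))))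
theorem f71546 : Led Lsl_ff (LP (LK LD1_c1 LD2_c22 LD3_c61)) = (LP (LK LD1_c1 LD2_c15 LD3_c0)) :=
  Lgr Lrot3 (Lpr_ft (f71534 IH) (Lpn (LP (LK LD1_c1 LD2_c15 LD3_c0))))
theorem f71528 : Led Lsl_bt (LP (LK LD1_c1 LD2_c22 LD3_c61)) = (LP (LK LD1_c2 LD2_c54 LD3_c3)) :=
  Lre_b IH (LK LD1_c1 LD2_c22 LD3_c61) (LK LD1_c2 LD2_c54 LD3_c3) Lrfl Lrfl
theorem f32652 : Led Lsl_bt (LP (LK LD1_c2 LD2_c36 LD3_c1)) = (LP (LK LD1_c1 LD2_c15 LD3_c0)) :=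
  Lre_b IH (LK LD1_c2 LD2_c36 LD3_c1) (LK LD1_c1 LD2_c15 LD3_c0) Lrfl Lrfl
theorem f71548 : Led Lsl_ft (LP (LK LD1_c2 LD2_c54 LD3_c3)) = (LP (LK LD1_c2 LD2_c36 LD3_c1)) :=
  Lgr Lrot75 (Lpe (f71528 IH) (Lpr_ff (f71546 IH) (Lpe (f32652 IH) (Lpn (LP (LK LD1_c2 LD2_c36 LD3_c1))))))
theorem f48576 : Led Lsl_dt (LP (LK LD1_c2 LD2_c36 LD3_c1)) = (LP (LK LD1_c1 LD2_c14 LD3_c61)) :=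
  Lre_d IH (LK LD1_c2 LD2_c36 LD3_c1) (LK LD1_c1 LD2_c14 LD3_c61) Lrfl Lrfl
theorem f48548 : Led Lsl_ft (LP (LK LD1_c1 LD2_c14 LD3_c61)) = (LP (LK LD1_c2 LD2_c36 LD3_c2)) :=
  Lre_f IH (LK LD1_c1 LD2_c14 LD3_c61) (LK LD1_c2 LD2_c36 LD3_c2) Lrfl Lrfl
theorem f71557 : Led Lsl_df (LP (LK LD1_c2 LD2_c54 LD3_c3)) = (LP (LK LD1_c2 LD2_c36 LD3_c2)) :=
  Lgr Lrot78 (Lpr_ft (f71548 IH) (Lpr_dt (f48576 IH) (Lpr_ft (f48548 IH) (Lpn (LP (LK LD1_c2 LD2_c36 LD3_c2))))))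
theorem f71576 : Led Lsl_ct (LP (LK LD1_c2 LD2_c54 LD3_c3)) = (LP (LK LD1_c5 LD2_c55 LD3_c7)) :=
  Lre_c IH (LK LD1_c2 LD2_c54 LD3_c3) (LK LD1_c5 LD2_c55 LD3_c7) Lrfl Lrfl
theorem f71577 : Led Lsl_dt (LP (LK LD1_c5 LD2_c55 LD3_c7)) = (LP (LK LD1_c11 LD2_c35 LD3_c46)) :=
  Lre_d IH (LK LD1_c5 LD2_c55 LD3_c7) (LK LD1_c11 LD2_c35 LD3_c46) Lrfl Lrfl
theorem f71578 : Led Lsl_ct (LP (LK LD1_c11 LD2_c35 LD3_c46)) = (LP (LK LD1_c20 LD2_c33 LD3_c59)) :=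
  Lre_c IH (LK LD1_c11 LD2_c35 LD3_c46) (LK LD1_c20 LD2_c33 LD3_c59) Lrfl Lrfl
theorem f71579 : Led Lsl_ct (LP (LK LD1_c5 LD2_c18 LD3_c11)) = (LP (LK LD1_c2 LD2_c36 LD3_c2)) :=
  Lre_c IH (LK LD1_c5 LD2_c18 LD3_c11) (LK LD1_c2 LD2_c36 LD3_c2) Lrfl Lrfl
theorem f71580 : Led Lsl_dt (LP (LK LD1_c10 LD2_c26 LD3_c4)) = (LP (LK LD1_c5 LD2_c18 LD3_c11)) :=
  Lre_d IH (LK LD1_c10 LD2_c26 LD3_c4) (LK LD1_c5 LD2_c18 LD3_c11) Lrfl Lrfl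
theorem f71581 : Led Lsl_ct (LP (LK LD1_c18 LD2_c55 LD3_c36)) = (LP (LK LD1_c10 LD2_c26 LD3_c4)) :=
  Lre_c IH (LK LD1_c18 LD2_c55 LD3_c36) (LK LD1_c10 LD2_c26 LD3_c4) Lrfl Lrfl
theorem f71582 : Led Lsl_dt (LP (LK LD1_c28 LD2_c23 LD3_c47)) = (LP (LK LD1_c18 LD2_c55 LD3_c36)) :=
  Lre_d IH (LK LD1_c28 LD2_c23 LD3_c47) (LK LD1_c18 LD2_c55 LD3_c36) Lrfl Lrfl
theorem f71591 : Led Lsl_ft (LP (LK LD1_c28 LD2_c23 LD3_c47)) = (LP (LK LD1_c18 LD2_c55 LD3_c35)) :=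
  Lre_f IH (LK LD1_c28 LD2_c23 LD3_c47) (LK LD1_c18 LD2_c55 LD3_c35) Lrfl Lrfl
theorem f71592 : Led Lsl_af (LP (LK LD1_c20 LD2_c33 LD3_c59)) = (LP (LK LD1_c18 LD2_c55 LD3_c35)) :=
  Lgr Lrot109 (Lpe (f71578 IH) (Lpe (f71577 IH) (Lpe (f71576 IH) (Lpr_df (f71557 IH) (Lpe (f71579 IH) (Lpe (f71580 IH) (Lpe (f71581 IH) (Lpe (f71582 IH) (Lpr_ft (f71591 IH) (Lpn (LP (LK LD1_c18 LD2_c55 LD3_c35))))))))))))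
theorem f71612 : Led Lsl_at (LP (LK LD1_c18 LD2_c57 LD3_c47)) = (LP (LK LD1_c28 LD2_c23 LD3_c47)) :=
  Lre_a IH (LK LD1_c18 LD2_c57 LD3_c47) (LK LD1_c28 LD2_c23 LD3_c47) Lrfl Lrfl
theorem f71613 : Led Lsl_ft (LP (LK LD1_c20 LD2_c33 LD3_c59)) = (LP (LK LD1_c18 LD2_c57 LD3_c47)) :=
  Lgr Lrot101 (Lpr_af (f71592 IH) (Lpe (f71591 IH) (Lpe (f71612 IH) (Lpn (LP (LK LD1_c18 LD2_c57 LD3_c47))))))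
theorem f71624 : Led Lsl_ff (LP (LK LD1_c20 LD2_c33 LD3_c59)) = (LP (LK LD1_c18 LD2_c57 LD3_c47)) :=
  Lgr Lrot3 (Lpr_ft (f71613 IH) (Lpn (LP (LK LD1_c18 LD2_c57 LD3_c47))))
theorem f71606 : Led Lsl_ct (LP (LK LD1_c20 LD2_c33 LD3_c59)) = (LP (LK LD1_c11 LD2_c35 LD3_c46)) :=
  Lre_c IH (LK LD1_c20 LD2_c33 LD3_c59) (LK LD1_c11 LD2_c35 LD3_c46) Lrfl Lrfl
theorem f71635 : Led Lsl_ct (LP (LK LD1_c10 LD2_c27 LD3_c34)) = (LP (LK LD1_c18 LD2_c57 LD3_c47)) :=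
  Lre_c IH (LK LD1_c10 LD2_c27 LD3_c34) (LK LD1_c18 LD2_c57 LD3_c47) Lrfl Lrfl
theorem f71636 : Led Lsl_ft (LP (LK LD1_c11 LD2_c35 LD3_c46)) = (LP (LK LD1_c10 LD2_c27 LD3_c34)) :=
  Lgr Lrot4 (Lpe (f71606 IH) (Lpr_ff (f71624 IH) (Lpe (f71635 IH) (Lpn (LP (LK LD1_c10 LD2_c27 LD3_c34))))))
theorem f71701 : Led Lsl_bt (LP (LK LD1_c5 LD2_c55 LD3_c8)) = (LP (LK LD1_c11 LD2_c35 LD3_c46)) :=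
  Lre_b IH (LK LD1_c5 LD2_c55 LD3_c8) (LK LD1_c11 LD2_c35 LD3_c46) Lrfl Lrfl
theorem f71702 : Led Lsl_ft (LP (LK LD1_c11 LD2_c35 LD3_c51)) = (LP (LK LD1_c5 LD2_c55 LD3_c8)) :=
  Lre_f IH (LK LD1_c11 LD2_c35 LD3_c51) (LK LD1_c5 LD2_c55 LD3_c8) Lrfl Lrfl
theorem f71703 : Led Lsl_bf (LP (LK LD1_c11 LD2_c35 LD3_c51)) = (LP (LK LD1_c10 LD2_c27 LD3_c34)) :=
  Lgr Lrot61 (Lpr_ft (f71702 IH) (Lpr_bt (f71701 IH) (Lpr_ft (f71636 IH) (Lpn (LP (LK LD1_c10 LD2_c27 LD3_c34))))))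
theorem f71722 : Led Lsl_dt (LP (LK LD1_c11 LD2_c35 LD3_c51)) = (LP (LK LD1_c5 LD2_c55 LD3_c9)) :=
  Lre_d IH (LK LD1_c11 LD2_c35 LD3_c51) (LK LD1_c5 LD2_c55 LD3_c9) Lrfl Lrfl
theorem f71653 : Led Lsl_dt (LP (LK LD1_c5 LD2_c18 LD3_c52)) = (LP (LK LD1_c10 LD2_c27 LD3_c34)) :=
  Lre_d IH (LK LD1_c5 LD2_c18 LD3_c52) (LK LD1_c10 LD2_c27 LD3_c34) Lrfl Lrfl
theorem f71723 : Led Lsl_bt (LP (LK LD1_c5 LD2_c55 LD3_c9)) = (LP (LK LD1_c5 LD2_c18 LD3_c52)) :=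
  Lgr Lrot95 (Lpe (f71722 IH) (Lpr_bf (f71703 IH) (Lpe (f71653 IH) (Lpn (LP (LK LD1_c5 LD2_c18 LD3_c52))))))
theorem f71743 : Led Lsl_et (LP (LK LD1_c11 LD2_c35 LD3_c52)) = (LP (LK LD1_c5 LD2_c55 LD3_c9)) :=
  Lre_e IH (LK LD1_c11 LD2_c35 LD3_c52) (LK LD1_c5 LD2_c55 LD3_c9) Lrfl Lrfl
theorem f71744 : Led Lsl_et (LP (LK LD1_c5 LD2_c18 LD3_c52)) = (LP (LK LD1_c10 LD2_c27 LD3_c35)) :=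
  Lre_e IH (LK LD1_c5 LD2_c18 LD3_c52) (LK LD1_c10 LD2_c27 LD3_c35) Lrfl Lrfl
theorem f71745 : Led Lsl_bf (LP (LK LD1_c11 LD2_c35 LD3_c52)) = (LP (LK LD1_c10 LD2_c27 LD3_c35)) :=
  Lgr Lrot96 (Lpr_et (f71743 IH) (Lpr_bt (f71723 IH) (Lpr_et (f71744 IH) (Lpn (LP (LK LD1_c10 LD2_c27 LD3_c35))))))
theorem f71249 : Led Lsl_ct (LP (LK LD1_c11 LD2_c35 LD3_c52)) = (LP (LK LD1_c5 LD2_c55 LD3_c10)) :=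
  Lre_c IH (LK LD1_c11 LD2_c35 LD3_c52) (LK LD1_c5 LD2_c55 LD3_c10) Lrfl Lrfl
theorem f71270 : Led Lsl_bt (LP (LK LD1_c5 LD2_c55 LD3_c10)) = (LP (LK LD1_c2 LD2_c54 LD3_c4)) :=
  Lre_b IH (LK LD1_c5 LD2_c55 LD3_c10) (LK LD1_c2 LD2_c54 LD3_c4) Lrfl Lrfl
theorem f48593 : Led Lsl_ct (LP (LK LD1_c5 LD2_c18 LD3_c53)) = (LP (LK LD1_c10 LD2_c27 LD3_c35)) :=
  Lre_c IH (LK LD1_c5 LD2_c18 LD3_c53) (LK LD1_c10 LD2_c27 LD3_c35) Lrfl Lrfl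
theorem f32641 : Led Lsl_bt (LP (LK LD1_c2 LD2_c36 LD3_c3)) = (LP (LK LD1_c5 LD2_c18 LD3_c53)) :=
  Lre_b IH (LK LD1_c2 LD2_c36 LD3_c3) (LK LD1_c5 LD2_c18 LD3_c53) Lrfl Lrfl
theorem f71757 : Led Lsl_ct (LP (LK LD1_c2 LD2_c54 LD3_c4)) = (LP (LK LD1_c2 LD2_c36 LD3_c3)) :=
  Lgr Lrot83 (Lpe (f71270 IH) (Lpe (f71249 IH) (Lpr_bf (f71745 IH) (Lpe (f48593 IH) (Lpe (f32641 IH) (Lpn (LP (LK LD1_c2 LD2_c36 LD3_c3))))))))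
theorem f71771 : Led Lsl_cf (LP (LK LD1_c2 LD2_c54 LD3_c4)) = (LP (LK LD1_c2 LD2_c36 LD3_c3)) :=
  Lgr Lrot11 (Lpr_ct (f71757 IH) (Lpn (LP (LK LD1_c2 LD2_c36 LD3_c3))))
theorem f32422 : Led Lsl_dt (LP (LK LD1_c1 LD2_c14 LD3_c40)) = (LP (LK LD1_c0 LD2_c34 LD3_c38)) :=
  Lre_d IH (LK LD1_c1 LD2_c14 LD3_c40) (LK LD1_c0 LD2_c34 LD3_c38) Lrfl Lrfl
theorem f32317 : Led Lsl_dt (LP (LK LD1_c0 LD2_c34 LD3_c26)) = (LP (LK LD1_c1 LD2_c14 LD3_c13)) :=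
  Lre_d IH (LK LD1_c0 LD2_c34 LD3_c26) (LK LD1_c1 LD2_c14 LD3_c13) Lrfl Lrfl
theorem f32423 : Led Lsl_bf (LP (LK LD1_c1 LD2_c14 LD3_c40)) = (LP (LK LD1_c1 LD2_c14 LD3_c13)) :=
  Lgr Lrot93 (Lpr_dt (f32422 IH) (Lpr_bt (K1.f32412 IH) (Lpr_dt (f32317 IH) (Lpn (LP (LK LD1_c1 LD2_c14 LD3_c13))))))
theorem f32446 : Led Lsl_ct (LP (LK LD1_c1 LD2_c14 LD3_c40)) = (LP (LK LD1_c2 LD2_c35 LD3_c18)) :=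
  Lre_c IH (LK LD1_c1 LD2_c14 LD3_c40) (LK LD1_c2 LD2_c35 LD3_c18) Lrfl Lrfl
theorem f32447 : Led Lsl_bt (LP (LK LD1_c2 LD2_c35 LD3_c18)) = (LP (LK LD1_c5 LD2_c17 LD3_c7)) :=
  Lre_b IH (LK LD1_c2 LD2_c35 LD3_c18) (LK LD1_c5 LD2_c17 LD3_c7) Lrfl Lrfl
theorem f32449 : Led Lsl_bt (LP (LK LD1_c5 LD2_c15 LD3_c7)) = (LP (LK LD1_c2 LD2_c34 LD3_c25)) :=
  Lre_b IH (LK LD1_c5 LD2_c15 LD3_c7) (LK LD1_c2 LD2_c34 LD3_c25) Lrfl Lrfl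
theorem f32450 : Led Lsl_ct (LP (LK LD1_c5 LD2_c17 LD3_c7)) = (LP (LK LD1_c5 LD2_c15 LD3_c7)) :=
  Lgr Lrot83 (Lpe (f32447 IH) (Lpe (f32446 IH) (Lpr_bf (f32423 IH) (Lpe (K1.f32448 IH) (Lpe (f32449 IH) (Lpn (LP (LK LD1_c5 LD2_c15 LD3_c7))))))))
theorem f32471 : Led Lsl_ft (LP (LK LD1_c10 LD2_c23 LD3_c56)) = (LP (LK LD1_c5 LD2_c17 LD3_c7)) :=
  Lre_f IH (LK LD1_c10 LD2_c23 LD3_c56) (LK LD1_c5 LD2_c17 LD3_c7) Lrfl Lrfl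
theorem f32472 : Led Lsl_ft (LP (LK LD1_c5 LD2_c15 LD3_c7)) = (LP (LK LD1_c10 LD2_c19 LD3_c47)) :=
  Lre_f IH (LK LD1_c5 LD2_c15 LD3_c7) (LK LD1_c10 LD2_c19 LD3_c47) Lrfl Lrfl
theorem f32473 : Led Lsl_cf (LP (LK LD1_c10 LD2_c23 LD3_c56)) = (LP (LK LD1_c10 LD2_c19 LD3_c47)) :=
  Lgr Lrot108 (Lpr_ft (f32471 IH) (Lpr_ct (f32450 IH) (Lpr_ft (f32472 IH) (Lpn (LP (LK LD1_c10 LD2_c19 LD3_c47))))))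
theorem f32513 : Led Lsl_et (LP (LK LD1_c10 LD2_c23 LD3_c56)) = (LP (LK LD1_c18 LD2_c52 LD3_c7)) :=
  Lre_e IH (LK LD1_c10 LD2_c23 LD3_c56) (LK LD1_c18 LD2_c52 LD3_c7) Lrfl Lrfl
theorem f32514 : Led Lsl_et (LP (LK LD1_c18 LD2_c45 LD3_c18)) = (LP (LK LD1_c10 LD2_c19 LD3_c47)) :=
  Lre_e IH (LK LD1_c18 LD2_c45 LD3_c18) (LK LD1_c10 LD2_c19 LD3_c47) Lrfl Lrfl
theorem f32515 : Led Lsl_ct (LP (LK LD1_c18 LD2_c52 LD3_c7)) = (LP (LK LD1_c18 LD2_c45 LD3_c18)) :=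
  Lgr Lrot15 (Lpe (f32513 IH) (Lpr_cf (f32473 IH) (Lpe (f32514 IH) (Lpn (LP (LK LD1_c18 LD2_c45 LD3_c18))))))
theorem f32534 : Led Lsl_cf (LP (LK LD1_c18 LD2_c52 LD3_c7)) = (LP (LK LD1_c18 LD2_c45 LD3_c18)) :=
  Lgr Lrot11 (Lpr_ct (f32515 IH) (Lpn (LP (LK LD1_c18 LD2_c45 LD3_c18))))
theorem f32540 : Led Lsl_bt (LP (LK LD1_c18 LD2_c52 LD3_c7)) = (LP (LK LD1_c10 LD2_c23 LD3_c61)) :=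
  Lre_b IH (LK LD1_c18 LD2_c52 LD3_c7) (LK LD1_c10 LD2_c23 LD3_c61) Lrfl Lrfl
theorem f32184 : Led Lsl_ct (LP (LK LD1_c10 LD2_c23 LD3_c61)) = (LP (LK LD1_c5 LD2_c17 LD3_c10)) :=
  Lre_c IH (LK LD1_c10 LD2_c23 LD3_c61) (LK LD1_c5 LD2_c17 LD3_c10) Lrfl Lrfl
theorem f32359 : Led Lsl_bt (LP (LK LD1_c10 LD2_c19 LD3_c50)) = (LP (LK LD1_c18 LD2_c45 LD3_c18)) :=
  Lre_b IH (LK LD1_c10 LD2_c19 LD3_c50) (LK LD1_c18 LD2_c45 LD3_c18) Lrfl Lrfl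
theorem f32351 : Led Lsl_ct (LP (LK LD1_c5 LD2_c15 LD3_c10)) = (LP (LK LD1_c10 LD2_c19 LD3_c50)) :=
  Lre_c IH (LK LD1_c5 LD2_c15 LD3_c10) (LK LD1_c10 LD2_c19 LD3_c50) Lrfl Lrfl
theorem f32541 : Led Lsl_bt (LP (LK LD1_c5 LD2_c17 LD3_c10)) = (LP (LK LD1_c5 LD2_c15 LD3_c10)) :=
  Lgr Lrot128 (Lpe (f32184 IH) (Lpe (f32540 IH) (Lpr_cf (f32534 IH) (Lpe (f32359 IH) (Lpe (f32351 IH) (Lpn (LP (LK LD1_c5 LD2_c15 LD3_c10))))))))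
theorem f32347 : Led Lsl_at (LP (LK LD1_c5 LD2_c15 LD3_c10)) = (LP (LK LD1_c2 LD2_c34 LD3_c54)) :=
  Lre_a IH (LK LD1_c5 LD2_c15 LD3_c10) (LK LD1_c2 LD2_c34 LD3_c54) Lrfl Lrfl
theorem f32364 : Led Lsl_bt (LP (LK LD1_c2 LD2_c34 LD3_c54)) = (LP (LK LD1_c1 LD2_c14 LD3_c34)) :=
  Lre_b IH (LK LD1_c2 LD2_c34 LD3_c54) (LK LD1_c1 LD2_c14 LD3_c34) Lrfl Lrfl
theorem f32546 : Led Lsl_af (LP (LK LD1_c1 LD2_c15 LD3_c2)) = (LP (LK LD1_c1 LD2_c14 LD3_c34)) :=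
  Lgr Lrot36 (Lpr_bt (K1.f32193 IH) (Lpr_at (K1.f32180 IH) (Lpr_bt (f32541 IH) (Lpr_at (f32347 IH) (Lpr_bt (f32364 IH) (Lpn (LP (LK LD1_c1 LD2_c14 LD3_c34))))))))
theorem f32220 : Led Lsl_ct (LP (LK LD1_c1 LD2_c15 LD3_c2)) = (LP (LK LD1_c2 LD2_c36 LD3_c4)) :=
  Lre_c IH (LK LD1_c1 LD2_c15 LD3_c2) (LK LD1_c2 LD2_c36 LD3_c4) Lrfl Lrfl
theorem f32563 : Led Lsl_ct (LP (LK LD1_c2 LD2_c35 LD3_c9)) = (LP (LK LD1_c1 LD2_c14 LD3_c34)) :=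
  Lre_c IH (LK LD1_c2 LD2_c35 LD3_c9) (LK LD1_c1 LD2_c14 LD3_c34) Lrfl Lrfl
theorem f32564 : Led Lsl_at (LP (LK LD1_c2 LD2_c36 LD3_c4)) = (LP (LK LD1_c2 LD2_c35 LD3_c9)) :=
  Lgr Lrot107 (Lpe (f32220 IH) (Lpr_af (f32546 IH) (Lpe (f32563 IH) (Lpn (LP (LK LD1_c2 LD2_c35 LD3_c9))))))
theorem f32574 : Led Lsl_et (LP (LK LD1_c1 LD2_c15 LD3_c1)) = (LP (LK LD1_c2 LD2_c36 LD3_c4)) :=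
  Lre_e IH (LK LD1_c1 LD2_c15 LD3_c1) (LK LD1_c2 LD2_c36 LD3_c4) Lrfl Lrfl
theorem f32575 : Led Lsl_et (LP (LK LD1_c2 LD2_c35 LD3_c9)) = (LP (LK LD1_c1 LD2_c14 LD3_c33)) :=
  Lre_e IH (LK LD1_c2 LD2_c35 LD3_c9) (LK LD1_c1 LD2_c14 LD3_c33) Lrfl Lrfl
theorem f32576 : Led Lsl_af (LP (LK LD1_c1 LD2_c15 LD3_c1)) = (LP (LK LD1_c1 LD2_c14 LD3_c33)) :=
  Lgr Lrot50 (Lpr_et (f32574 IH) (Lpr_at (f32564 IH) (Lpr_et (f32575 IH) (Lpn (LP (LK LD1_c1 LD2_c14 LD3_c33))))))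
theorem f32588 : Led Lsl_ft (LP (LK LD1_c1 LD2_c15 LD3_c1)) = (LP (LK LD1_c0 LD2_c34 LD3_c48)) :=
  Lre_f IH (LK LD1_c1 LD2_c15 LD3_c1) (LK LD1_c0 LD2_c34 LD3_c48) Lrfl Lrfl
theorem f32589 : Led Lsl_ft (LP (LK LD1_c0 LD2_c34 LD3_c33)) = (LP (LK LD1_c1 LD2_c14 LD3_c33)) :=
  Lre_f IH (LK LD1_c0 LD2_c34 LD3_c33) (LK LD1_c1 LD2_c14 LD3_c33) Lrfl Lrfl
theorem f32590 : Led Lsl_at (LP (LK LD1_c0 LD2_c34 LD3_c48)) = (LP (LK LD1_c0 LD2_c34 LD3_c33)) :=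
  Lgr Lrot66 (Lpe (f32588 IH) (Lpr_af (f32576 IH) (Lpe (f32589 IH) (Lpn (LP (LK LD1_c0 LD2_c34 LD3_c33))))))
theorem f32600 : Led Lsl_af (LP (LK LD1_c1 LD2_c15 LD3_c0)) = (LP (LK LD1_c1 LD2_c14 LD3_c32)) :=
  Lgr Lrot117 (Lpr_dt (f31619 IH) (Lpr_at (f32590 IH) (Lpr_dt (f32286 IH) (Lpn (LP (LK LD1_c1 LD2_c14 LD3_c32))))))
theorem f32610 : Led Lsl_et (LP (LK LD1_c1 LD2_c15 LD3_c0)) = (LP (LK LD1_c2 LD2_c36 LD3_c3)) :=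
  Lre_e IH (LK LD1_c1 LD2_c15 LD3_c0) (LK LD1_c2 LD2_c36 LD3_c3) Lrfl Lrfl
theorem f32611 : Led Lsl_et (LP (LK LD1_c2 LD2_c35 LD3_c8)) = (LP (LK LD1_c1 LD2_c14 LD3_c32)) :=
  Lre_e IH (LK LD1_c2 LD2_c35 LD3_c8) (LK LD1_c1 LD2_c14 LD3_c32) Lrfl Lrfl
theorem f32612 : Led Lsl_at (LP (LK LD1_c2 LD2_c36 LD3_c3)) = (LP (LK LD1_c2 LD2_c35 LD3_c8)) :=
  Lgr Lrot80 (Lpe (f32610 IH) (Lpr_af (f32600 IH) (Lpe (f32611 IH) (Lpn (LP (LK LD1_c2 LD2_c35 LD3_c8))))))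
theorem f32614 : Led Lsl_af (LP (LK LD1_c2 LD2_c36 LD3_c3)) = (LP (LK LD1_c2 LD2_c35 LD3_c8)) :=
  Lgr Lrot0 (Lpr_at (f32612 IH) (Lpn (LP (LK LD1_c2 LD2_c35 LD3_c8))))
theorem f35005 : Led Lsl_et (LP (LK LD1_c2 LD2_c15 LD3_c4)) = (LP (LK LD1_c4 LD2_c35 LD3_c47)) :=
  Lre_e IH (LK LD1_c2 LD2_c15 LD3_c4) (LK LD1_c4 LD2_c35 LD3_c47) Lrfl Lrfl
theorem f35006 : Led Lsl_ct (LP (LK LD1_c4 LD2_c35 LD3_c47)) = (LP (LK LD1_c2 LD2_c35 LD3_c8)) :=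
  Lgr Lrot15 (Lpe (f35005 IH) (Lpr_cf (f34996 IH) (Lpe (f32611 IH) (Lpn (LP (LK LD1_c2 LD2_c35 LD3_c8))))))
theorem f71774 : Led Lsl_at (LP (LK LD1_c2 LD2_c54 LD3_c4)) = (LP (LK LD1_c4 LD2_c35 LD3_c47)) :=
  Lgr Lrot107 (Lpr_cf (f71771 IH) (Lpr_af (f32614 IH) (Lpe (f35006 IH) (Lpn (LP (LK LD1_c4 LD2_c35 LD3_c47))))))
theorem f71279 : Led Lsl_et (LP (LK LD1_c1 LD2_c23 LD3_c0)) = (LP (LK LD1_c2 LD2_c54 LD3_c4)) :=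
  Lre_e IH (LK LD1_c1 LD2_c23 LD3_c0) (LK LD1_c2 LD2_c54 LD3_c4) Lrfl Lrfl
theorem f35171 : Led Lsl_et (LP (LK LD1_c4 LD2_c35 LD3_c47)) = (LP (LK LD1_c2 LD2_c15 LD3_c4)) :=
  Lre_e IH (LK LD1_c4 LD2_c35 LD3_c47) (LK LD1_c2 LD2_c15 LD3_c4) Lrfl Lrfl
theorem f71783 : Led Lsl_af (LP (LK LD1_c1 LD2_c23 LD3_c0)) = (LP (LK LD1_c2 LD2_c15 LD3_c4)) :=
  Lgr Lrot50 (Lpr_et (f71279 IH) (Lpr_at (f71774 IH) (Lpr_et (f35171 IH) (Lpn (LP (LK LD1_c2 LD2_c15 LD3_c4))))))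
theorem f71742 : Led Lsl_bt (LP (LK LD1_c1 LD2_c23 LD3_c0)) = (LP (LK LD1_c2 LD2_c53 LD3_c55)) :=
  Lre_b IH (LK LD1_c1 LD2_c23 LD3_c0) (LK LD1_c2 LD2_c53 LD3_c55) Lrfl Lrfl
theorem f71785 : Led Lsl_at (LP (LK LD1_c2 LD2_c53 LD3_c55)) = (LP (LK LD1_c5 LD2_c54 LD3_c2)) :=
  Lre_a IH (LK LD1_c2 LD2_c53 LD3_c55) (LK LD1_c5 LD2_c54 LD3_c2) Lrfl Lrfl
theorem f35147 : Led Lsl_bt (LP (LK LD1_c4 LD2_c35 LD3_c40)) = (LP (LK LD1_c2 LD2_c15 LD3_c4)) :=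
  Lre_b IH (LK LD1_c4 LD2_c35 LD3_c40) (LK LD1_c2 LD2_c15 LD3_c4) Lrfl Lrfl
theorem f34989 : Led Lsl_at (LP (LK LD1_c9 LD2_c7 LD3_c23)) = (LP (LK LD1_c4 LD2_c35 LD3_c40)) :=
  Lre_a IH (LK LD1_c9 LD2_c7 LD3_c23) (LK LD1_c4 LD2_c35 LD3_c40) Lrfl Lrfl
theorem f71786 : Led Lsl_bt (LP (LK LD1_c5 LD2_c54 LD3_c2)) = (LP (LK LD1_c9 LD2_c7 LD3_c23)) :=
  Lgr Lrot62 (Lpe (f71785 IH) (Lpe (f71742 IH) (Lpr_af (f71783 IH) (Lpe (f35147 IH) (Lpe (f34989 IH) (Lpn (LP (LK LD1_c9 LD2_c7 LD3_c23))))))))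
theorem f71793 : Led Lsl_ft (LP (LK LD1_c2 LD2_c53 LD3_c22)) = (LP (LK LD1_c5 LD2_c54 LD3_c2)) :=
  Lre_f IH (LK LD1_c2 LD2_c53 LD3_c22) (LK LD1_c5 LD2_c54 LD3_c2) Lrfl Lrfl
theorem f35205 : Led Lsl_ft (LP (LK LD1_c9 LD2_c7 LD3_c23)) = (LP (LK LD1_c4 LD2_c35 LD3_c24)) :=
  Lre_f IH (LK LD1_c9 LD2_c7 LD3_c23) (LK LD1_c4 LD2_c35 LD3_c24) Lrfl Lrfl
theorem f71794 : Led Lsl_bf (LP (LK LD1_c2 LD2_c53 LD3_c22)) = (LP (LK LD1_c4 LD2_c35 LD3_c24)) :=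
  Lgr Lrot61 (Lpr_ft (f71793 IH) (Lpr_bt (f71786 IH) (Lpr_ft (f35205 IH) (Lpn (LP (LK LD1_c4 LD2_c35 LD3_c24))))))
theorem f71805 : Led Lsl_dt (LP (LK LD1_c2 LD2_c53 LD3_c22)) = (LP (LK LD1_c1 LD2_c22 LD3_c46)) :=
  Lre_d IH (LK LD1_c2 LD2_c53 LD3_c22) (LK LD1_c1 LD2_c22 LD3_c46) Lrfl Lrfl
theorem f34930 : Led Lsl_dt (LP (LK LD1_c2 LD2_c14 LD3_c54)) = (LP (LK LD1_c4 LD2_c35 LD3_c24)) :=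
  Lre_d IH (LK LD1_c2 LD2_c14 LD3_c54) (LK LD1_c4 LD2_c35 LD3_c24) Lrfl Lrfl
theorem f71806 : Led Lsl_bt (LP (LK LD1_c1 LD2_c22 LD3_c46)) = (LP (LK LD1_c2 LD2_c14 LD3_c54)) :=
  Lgr Lrot95 (Lpe (f71805 IH) (Lpr_bf (f71794 IH) (Lpe (f34930 IH) (Lpn (LP (LK LD1_c2 LD2_c14 LD3_c54))))))
theorem f71817 : Led Lsl_et (LP (LK LD1_c0 LD2_c38 LD3_c20)) = (LP (LK LD1_c1 LD2_c22 LD3_c46)) :=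
  Lre_e IH (LK LD1_c0 LD2_c38 LD3_c20) (LK LD1_c1 LD2_c22 LD3_c46) Lrfl Lrfl
theorem f35294 : Led Lsl_et (LP (LK LD1_c2 LD2_c14 LD3_c54)) = (LP (LK LD1_c1 LD2_c4 LD3_c34)) :=
  Lre_e IH (LK LD1_c2 LD2_c14 LD3_c54) (LK LD1_c1 LD2_c4 LD3_c34) Lrfl Lrfl
theorem f71818 : Led Lsl_bf (LP (LK LD1_c0 LD2_c38 LD3_c20)) = (LP (LK LD1_c1 LD2_c4 LD3_c34)) :=
  Lgr Lrot96 (Lpr_et (f71817 IH) (Lpr_bt (f71806 IH) (Lpr_et (f35294 IH) (Lpn (LP (LK LD1_c1 LD2_c4 LD3_c34))))))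
theorem f71007 : Led Lsl_dt (LP (LK LD1_c0 LD2_c38 LD3_c20)) = (LP (LK LD1_c1 LD2_c22 LD3_c45)) :=
  Lre_d IH (LK LD1_c0 LD2_c38 LD3_c20) (LK LD1_c1 LD2_c22 LD3_c45) Lrfl Lrfl
theorem f35254 : Led Lsl_dt (LP (LK LD1_c2 LD2_c14 LD3_c53)) = (LP (LK LD1_c1 LD2_c4 LD3_c34)) :=
  Lre_d IH (LK LD1_c2 LD2_c14 LD3_c53) (LK LD1_c1 LD2_c4 LD3_c34) Lrfl Lrfl
theorem f71827 : Led Lsl_bt (LP (LK LD1_c1 LD2_c22 LD3_c45)) = (LP (LK LD1_c2 LD2_c14 LD3_c53)) :=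
  Lgr Lrot95 (Lpe (f71007 IH) (Lpr_bf (f71818 IH) (Lpe (f35254 IH) (Lpn (LP (LK LD1_c2 LD2_c14 LD3_c53))))))
theorem f23020 : Led Lsl_bt (LP (LK LD1_c1 LD2_c4 LD3_c44)) = (LP (LK LD1_c0 LD2_c29 LD3_c37)) :=
  Lre_b IH (LK LD1_c1 LD2_c4 LD3_c44) (LK LD1_c0 LD2_c29 LD3_c37) Lrfl Lrfl
theorem f71147 : Led Lsl_at (LP (LK LD1_c2 LD2_c15 LD3_c12)) = (LP (LK LD1_c1 LD2_c4 LD3_c44)) :=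
  Lre_a IH (LK LD1_c2 LD2_c15 LD3_c12) (LK LD1_c1 LD2_c4 LD3_c44) Lrfl Lrfl
theorem f71319 : Led Lsl_bt (LP (LK LD1_c0 LD2_c17 LD3_c9)) = (LP (LK LD1_c0 LD2_c38 LD3_c31)) :=
  Lre_b IH (LK LD1_c0 LD2_c17 LD3_c9) (LK LD1_c0 LD2_c38 LD3_c31) Lrfl Lrfl
theorem f71320 : Led Lsl_at (LP (LK LD1_c0 LD2_c38 LD3_c31)) = (LP (LK LD1_c1 LD2_c23 LD3_c8)) :=
  Lre_a IH (LK LD1_c0 LD2_c38 LD3_c31) (LK LD1_c1 LD2_c23 LD3_c8) Lrfl Lrfl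
theorem f71321 : Led Lsl_bf (LP (LK LD1_c2 LD2_c15 LD3_c12)) = (LP (LK LD1_c1 LD2_c23 LD3_c8)) :=
  Lgr Lrot81 (Lpr_at (f71147 IH) (Lpr_bt (f23020 IH) (Lpr_at (f71315 IH) (Lpr_bt (f71319 IH) (Lpr_at (f71320 IH) (Lpn (LP (LK LD1_c1 LD2_c23 LD3_c8))))))))
theorem f71836 : Led Lsl_ff (LP (LK LD1_c1 LD2_c23 LD3_c8)) = (LP (LK LD1_c2 LD2_c14 LD3_c53)) :=
  Lgr Lrot25 (Lpe (f71321 IH) (Lpr_ft (f71118 IH) (Lpr_bt (f71827 IH) (Lpn (LP (LK LD1_c2 LD2_c14 LD3_c53))))))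
theorem f71838 : Led Lsl_at (LP (LK LD1_c1 LD2_c23 LD3_c8)) = (LP (LK LD1_c0 LD2_c38 LD3_c31)) :=
  Lre_a IH (LK LD1_c1 LD2_c23 LD3_c8) (LK LD1_c0 LD2_c38 LD3_c31) Lrfl Lrfl
theorem f23921 : Led Lsl_ct (LP (LK LD1_c1 LD2_c23 LD3_c16)) = (LP (LK LD1_c0 LD2_c38 LD3_c31)) :=
  Lre_c IH (LK LD1_c1 LD2_c23 LD3_c16) (LK LD1_c0 LD2_c38 LD3_c31) Lrfl Lrfl
theorem f23922 : Led Lsl_dt (LP (LK LD1_c2 LD2_c54 LD3_c41)) = (LP (LK LD1_c1 LD2_c23 LD3_c16)) :=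
  Lre_d IH (LK LD1_c2 LD2_c54 LD3_c41) (LK LD1_c1 LD2_c23 LD3_c16) Lrfl Lrfl
theorem f71859 : Led Lsl_ct (LP (LK LD1_c5 LD2_c56 LD3_c45)) = (LP (LK LD1_c2 LD2_c54 LD3_c41)) :=
  Lre_c IH (LK LD1_c5 LD2_c56 LD3_c45) (LK LD1_c2 LD2_c54 LD3_c41) Lrfl Lrfl
theorem f34887 : Led Lsl_cf (LP (LK LD1_c1 LD2_c4 LD3_c36)) = (LP (LK LD1_c2 LD2_c7 LD3_c34)) :=
  Lgr Lrot11 (Lpr_ct (f34871 IH) (Lpn (LP (LK LD1_c2 LD2_c7 LD3_c34))))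
theorem f35208 : Led Lsl_et (LP (LK LD1_c1 LD2_c4 LD3_c36)) = (LP (LK LD1_c0 LD2_c29 LD3_c33)) :=
  Lre_e IH (LK LD1_c1 LD2_c4 LD3_c36) (LK LD1_c0 LD2_c29 LD3_c33) Lrfl Lrfl
theorem f34781 : Led Lsl_bt (LP (LK LD1_c2 LD2_c7 LD3_c34)) = (LP (LK LD1_c1 LD2_c0 LD3_c52)) :=
  Lre_b IH (LK LD1_c2 LD2_c7 LD3_c34) (LK LD1_c1 LD2_c0 LD3_c52) Lrfl Lrfl
theorem f34782 : Led Lsl_et (LP (LK LD1_c1 LD2_c1 LD3_c60)) = (LP (LK LD1_c2 LD2_c7 LD3_c34)) :=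
  Lgr Lrot74 (Lpe (f34754 IH) (Lpr_ef (K1.f34779 IH) (Lpe (f34781 IH) (Lpn (LP (LK LD1_c2 LD2_c7 LD3_c34))))))
theorem f35209 : Led Lsl_ct (LP (LK LD1_c0 LD2_c29 LD3_c33)) = (LP (LK LD1_c1 LD2_c1 LD3_c60)) :=
  Lgr Lrot15 (Lpe (f35208 IH) (Lpr_cf (f34887 IH) (Lpe (f34782 IH) (Lpn (LP (LK LD1_c1 LD2_c1 LD3_c60))))))
theorem f35219 : Led Lsl_at (LP (LK LD1_c1 LD2_c4 LD3_c34)) = (LP (LK LD1_c0 LD2_c29 LD3_c33)) :=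
  Lre_a IH (LK LD1_c1 LD2_c4 LD3_c34) (LK LD1_c0 LD2_c29 LD3_c33) Lrfl Lrfl
theorem f34866 : Led Lsl_at (LP (LK LD1_c1 LD2_c1 LD3_c60)) = (LP (LK LD1_c2 LD2_c9 LD3_c46)) :=
  Lre_a IH (LK LD1_c1 LD2_c1 LD3_c60) (LK LD1_c2 LD2_c9 LD3_c46) Lrfl Lrfl
theorem f35220 : Led Lsl_cf (LP (LK LD1_c1 LD2_c4 LD3_c34)) = (LP (LK LD1_c2 LD2_c9 LD3_c46)) :=
  Lgr Lrot1 (Lpr_at (f35219 IH) (Lpr_ct (f35209 IH) (Lpr_at (f34866 IH) (Lpn (LP (LK LD1_c2 LD2_c9 LD3_c46))))))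
theorem f35244 : Led Lsl_ct (LP (LK LD1_c1 LD2_c4 LD3_c34)) = (LP (LK LD1_c2 LD2_c9 LD3_c46)) :=
  Lgr Lrot59 (Lpr_cf (f35220 IH) (Lpn (LP (LK LD1_c2 LD2_c9 LD3_c46))))
theorem f35257 : Led Lsl_dt (LP (LK LD1_c2 LD2_c9 LD3_c46)) = (LP (LK LD1_c4 LD2_c24 LD3_c35)) :=
  Lre_d IH (LK LD1_c2 LD2_c9 LD3_c46) (LK LD1_c4 LD2_c24 LD3_c35) Lrfl Lrfl
theorem f35293 : Led Lsl_ct (LP (LK LD1_c4 LD2_c24 LD3_c35)) = (LP (LK LD1_c8 LD2_c46 LD3_c42)) :=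
  Lre_c IH (LK LD1_c4 LD2_c24 LD3_c35) (LK LD1_c8 LD2_c46 LD3_c42) Lrfl Lrfl
theorem f71860 : Led Lsl_df (LP (LK LD1_c5 LD2_c56 LD3_c45)) = (LP (LK LD1_c8 LD2_c46 LD3_c42)) :=
  Lgr Lrot13 (Lpr_ct (f71859 IH) (Lpr_dt (f23922 IH) (Lpr_ct (f23921 IH) (Lpe (f71838 IH) (Lpr_ff (f71836 IH) (Lpr_dt (f35254 IH) (Lpr_ct (f35244 IH) (Lpr_dt (f35257 IH) (Lpr_ct (f35293 IH) (Lpn (LP (LK LD1_c8 LD2_c46 LD3_c42))))))))))))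
theorem f24081 : Led Lsl_dt (LP (LK LD1_c0 LD2_c38 LD3_c31)) = (LP (LK LD1_c0 LD2_c17 LD3_c8)) :=
  Lre_d IH (LK LD1_c0 LD2_c38 LD3_c31) (LK LD1_c0 LD2_c17 LD3_c8) Lrfl Lrfl
theorem f37920 : Led Lsl_ct (LP (LK LD1_c0 LD2_c17 LD3_c8)) = (LP (LK LD1_c0 LD2_c38 LD3_c30)) :=
  Lre_c IH (LK LD1_c0 LD2_c17 LD3_c8) (LK LD1_c0 LD2_c38 LD3_c30) Lrfl Lrfl
theorem f69446 : Led Lsl_dt (LP (LK LD1_c0 LD2_c38 LD3_c30)) = (LP (LK LD1_c1 LD2_c23 LD3_c12)) :=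
  Lre_d IH (LK LD1_c0 LD2_c38 LD3_c30) (LK LD1_c1 LD2_c23 LD3_c12) Lrfl Lrfl
theorem f71864 : Led Lsl_ct (LP (LK LD1_c1 LD2_c23 LD3_c12)) = (LP (LK LD1_c2 LD2_c54 LD3_c28)) :=
  Lre_c IH (LK LD1_c1 LD2_c23 LD3_c12) (LK LD1_c2 LD2_c54 LD3_c28) Lrfl Lrfl
theorem f71873 : Led Lsl_at (LP (LK LD1_c5 LD2_c55 LD3_c47)) = (LP (LK LD1_c2 LD2_c54 LD3_c28)) :=
  Lre_a IH (LK LD1_c5 LD2_c55 LD3_c47) (LK LD1_c2 LD2_c54 LD3_c28) Lrfl Lrfl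
theorem f71874 : Led Lsl_ff (LP (LK LD1_c5 LD2_c55 LD3_c47)) = (LP (LK LD1_c8 LD2_c46 LD3_c42)) :=
  Lgr Lrot103 (Lpr_at (f71873 IH) (Lpe (f71864 IH) (Lpe (f69446 IH) (Lpe (f37920 IH) (Lpe (f24081 IH) (Lpe (f23921 IH) (Lpe (f23922 IH) (Lpe (f71859 IH) (Lpr_df (f71860 IH) (Lpn (LP (LK LD1_c8 LD2_c46 LD3_c42))))))))))))
theorem f71887 : Led Lsl_ft (LP (LK LD1_c5 LD2_c55 LD3_c47)) = (LP (LK LD1_c8 LD2_c46 LD3_c42)) :=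
  Lgr Lrot48 (Lpr_ff (f71874 IH) (Lpn (LP (LK LD1_c8 LD2_c46 LD3_c42))))
theorem f35228 : Led Lsl_at (LP (LK LD1_c8 LD2_c46 LD3_c42)) = (LP (LK LD1_c4 LD2_c24 LD3_c36)) :=
  Lre_a IH (LK LD1_c8 LD2_c46 LD3_c42) (LK LD1_c4 LD2_c24 LD3_c36) Lrfl Lrfl
theorem f35225 : Led Lsl_ct (LP (LK LD1_c2 LD2_c9 LD3_c47)) = (LP (LK LD1_c4 LD2_c24 LD3_c36)) :=
  Lre_c IH (LK LD1_c2 LD2_c9 LD3_c47) (LK LD1_c4 LD2_c24 LD3_c36) Lrfl Lrfl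
theorem f35222 : Led Lsl_dt (LP (LK LD1_c1 LD2_c4 LD3_c35)) = (LP (LK LD1_c0 LD2_c29 LD3_c33)) :=
  Lre_d IH (LK LD1_c1 LD2_c4 LD3_c35) (LK LD1_c0 LD2_c29 LD3_c33) Lrfl Lrfl
theorem f27166 : Led Lsl_ct (LP (LK LD1_c2 LD2_c14 LD3_c55)) = (LP (LK LD1_c1 LD2_c4 LD3_c35)) :=
  Lre_c IH (LK LD1_c2 LD2_c14 LD3_c55) (LK LD1_c1 LD2_c4 LD3_c35) Lrfl Lrfl
theorem f35223 : Led Lsl_dt (LP (LK LD1_c4 LD2_c35 LD3_c27)) = (LP (LK LD1_c2 LD2_c14 LD3_c55)) :=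
  Lre_d IH (LK LD1_c4 LD2_c35 LD3_c27) (LK LD1_c2 LD2_c14 LD3_c55) Lrfl Lrfl
theorem f35224 : Led Lsl_ct (LP (LK LD1_c9 LD2_c7 LD3_c25)) = (LP (LK LD1_c4 LD2_c35 LD3_c27)) :=
  Lre_c IH (LK LD1_c9 LD2_c7 LD3_c25) (LK LD1_c4 LD2_c35 LD3_c27) Lrfl Lrfl
theorem f71902 : Led Lsl_dt (LP (LK LD1_c5 LD2_c55 LD3_c47)) = (LP (LK LD1_c9 LD2_c7 LD3_c25)) :=
  Lgr Lrot159 (Lpr_ft (f71887 IH) (Lpr_at (f35228 IH) (Lpe (f35225 IH) (Lpe (f34845 IH) (Lpe (f35209 IH) (Lpe (f35222 IH) (Lpe (f27166 IH) (Lpe (f35223 IH) (Lpe (f35224 IH) (Lpn (LP (LK LD1_c9 LD2_c7 LD3_c25))))))))))))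
theorem f71898 : Led Lsl_ct (LP (LK LD1_c2 LD2_c54 LD3_c15)) = (LP (LK LD1_c5 LD2_c55 LD3_c47)) :=
  Lre_c IH (LK LD1_c2 LD2_c54 LD3_c15) (LK LD1_c5 LD2_c55 LD3_c47) Lrfl Lrfl
theorem f71910 : Led Lsl_dt (LP (LK LD1_c1 LD2_c23 LD3_c7)) = (LP (LK LD1_c2 LD2_c54 LD3_c15)) :=
  Lre_d IH (LK LD1_c1 LD2_c23 LD3_c7) (LK LD1_c2 LD2_c54 LD3_c15) Lrfl Lrfl
theorem f35227 : Led Lsl_at (LP (LK LD1_c2 LD2_c9 LD3_c46)) = (LP (LK LD1_c1 LD2_c1 LD3_c60)) :=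
  Lre_a IH (LK LD1_c2 LD2_c9 LD3_c46) (LK LD1_c1 LD2_c1 LD3_c60) Lrfl Lrfl
theorem f71925 : Led Lsl_ft (LP (LK LD1_c1 LD2_c23 LD3_c7)) = (LP (LK LD1_c2 LD2_c9 LD3_c46)) :=
  Lgr Lrot142 (Lpr_dt (f71910 IH) (Lpr_ct (f71898 IH) (Lpr_dt (f71902 IH) (Lpr_ct (f35224 IH) (Lpr_dt (f35223 IH) (Lpr_ct (f27166 IH) (Lpr_dt (f35222 IH) (Lpr_ct (f35209 IH) (Lpe (f35227 IH) (Lpn (LP (LK LD1_c2 LD2_c9 LD3_c46))))))))))))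
theorem f71911 : Led Lsl_ct (LP (LK LD1_c0 LD2_c38 LD3_c29)) = (LP (LK LD1_c1 LD2_c23 LD3_c7)) :=
  Lre_c IH (LK LD1_c0 LD2_c38 LD3_c29) (LK LD1_c1 LD2_c23 LD3_c7) Lrfl Lrfl
theorem f71932 : Led Lsl_ff (LP (LK LD1_c0 LD2_c38 LD3_c29)) = (LP (LK LD1_c1 LD2_c4 LD3_c34)) :=
  Lgr Lrot23 (Lpr_ct (f71911 IH) (Lpr_ft (f71925 IH) (Lpe (f35220 IH) (Lpn (LP (LK LD1_c1 LD2_c4 LD3_c34))))))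
theorem f71823 : Led Lsl_bt (LP (LK LD1_c0 LD2_c38 LD3_c20)) = (LP (LK LD1_c1 LD2_c4 LD3_c34)) :=
  Lgr Lrot127 (Lpr_bf (f71818 IH) (Lpn (LP (LK LD1_c1 LD2_c4 LD3_c34))))
theorem f70925 : Led Lsl_ct (LP (LK LD1_c0 LD2_c38 LD3_c20)) = (LP (LK LD1_c1 LD2_c22 LD3_c44)) :=
  Lre_c IH (LK LD1_c0 LD2_c38 LD3_c20) (LK LD1_c1 LD2_c22 LD3_c44) Lrfl Lrfl
theorem f71040 : Led Lsl_ft (LP (LK LD1_c1 LD2_c4 LD3_c42)) = (LP (LK LD1_c0 LD2_c38 LD3_c20)) :=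
  Lgr Lrot4 (Lpe (f71022 IH) (Lpr_ff (f71013 IH) (Lpe (f70925 IH) (Lpn (LP (LK LD1_c0 LD2_c38 LD3_c20))))))
theorem f71947 : Led Lsl_bt (LP (LK LD1_c0 LD2_c38 LD3_c29)) = (LP (LK LD1_c1 LD2_c4 LD3_c42)) :=
  Lgr Lrot35 (Lpr_ff (f71932 IH) (Lpe (f71823 IH) (Lpe (f71040 IH) (Lpn (LP (LK LD1_c1 LD2_c4 LD3_c42))))))
theorem f71938 : Led Lsl_ct (LP (LK LD1_c1 LD2_c23 LD3_c7)) = (LP (LK LD1_c0 LD2_c38 LD3_c29)) :=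
  Lre_c IH (LK LD1_c1 LD2_c23 LD3_c7) (LK LD1_c0 LD2_c38 LD3_c29) Lrfl Lrfl
theorem f35248 : Led Lsl_dt (LP (LK LD1_c4 LD2_c24 LD3_c35)) = (LP (LK LD1_c2 LD2_c9 LD3_c46)) :=
  Lre_d IH (LK LD1_c4 LD2_c24 LD3_c35) (LK LD1_c2 LD2_c9 LD3_c46) Lrfl Lrfl
theorem f35995 : Led Lsl_dt (LP (LK LD1_c3 LD2_c57 LD3_c43)) = (LP (LK LD1_c7 LD2_c56 LD3_c50)) :=
  Lre_d IH (LK LD1_c3 LD2_c57 LD3_c43) (LK LD1_c7 LD2_c56 LD3_c50) Lrfl Lrfl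
theorem f36149 : Led Lsl_bt (LP (LK LD1_c2 LD2_c9 LD3_c46)) = (LP (LK LD1_c3 LD2_c57 LD3_c43)) :=
  Lgr Lrot95 (Lpe (f35248 IH) (Lpr_bf (K1.f36140 IH) (Lpe (f35995 IH) (Lpn (LP (LK LD1_c3 LD2_c57 LD3_c43))))))
theorem f35908 : Led Lsl_bt (LP (LK LD1_c2 LD2_c9 LD3_c52)) = (LP (LK LD1_c1 LD2_c2 LD3_c1)) :=
  Lre_b IH (LK LD1_c2 LD2_c9 LD3_c52) (LK LD1_c1 LD2_c2 LD3_c1) Lrfl Lrfl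
theorem f35909 : Led Lsl_ft (LP (LK LD1_c3 LD2_c57 LD3_c44)) = (LP (LK LD1_c2 LD2_c9 LD3_c52)) :=
  Lgr Lrot75 (Lpe (K1.f35668 IH) (Lpr_ff (K1.f35906 IH) (Lpe (f35908 IH) (Lpn (LP (LK LD1_c2 LD2_c9 LD3_c52))))))
theorem f35981 : Led Lsl_dt (LP (LK LD1_c1 LD2_c55 LD3_c37)) = (LP (LK LD1_c3 LD2_c57 LD3_c44)) :=
  Lre_d IH (LK LD1_c1 LD2_c55 LD3_c37) (LK LD1_c3 LD2_c57 LD3_c44) Lrfl Lrfl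
theorem f35982 : Led Lsl_dt (LP (LK LD1_c2 LD2_c9 LD3_c52)) = (LP (LK LD1_c1 LD2_c2 LD3_c0)) :=
  Lre_d IH (LK LD1_c2 LD2_c9 LD3_c52) (LK LD1_c1 LD2_c2 LD3_c0) Lrfl Lrfl
theorem f35983 : Led Lsl_ff (LP (LK LD1_c1 LD2_c55 LD3_c37)) = (LP (LK LD1_c1 LD2_c2 LD3_c0)) :=
  Lgr Lrot19 (Lpr_dt (f35981 IH) (Lpr_ft (f35909 IH) (Lpr_dt (f35982 IH) (Lpn (LP (LK LD1_c1 LD2_c2 LD3_c0))))))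
theorem f35767 : Led Lsl_at (LP (LK LD1_c1 LD2_c55 LD3_c37)) = (LP (LK LD1_c3 LD2_c57 LD3_c43)) :=
  Lre_a IH (LK LD1_c1 LD2_c55 LD3_c37) (LK LD1_c3 LD2_c57 LD3_c43) Lrfl Lrfl
theorem f35986 : Led Lsl_at (LP (LK LD1_c2 LD2_c9 LD3_c51)) = (LP (LK LD1_c1 LD2_c2 LD3_c0)) :=
  Lre_a IH (LK LD1_c2 LD2_c9 LD3_c51) (LK LD1_c1 LD2_c2 LD3_c0) Lrfl Lrfl
theorem f35987 : Led Lsl_ft (LP (LK LD1_c3 LD2_c57 LD3_c43)) = (LP (LK LD1_c2 LD2_c9 LD3_c51)) :=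
  Lgr Lrot101 (Lpe (f35767 IH) (Lpr_ff (f35983 IH) (Lpe (f35986 IH) (Lpn (LP (LK LD1_c2 LD2_c9 LD3_c51))))))
theorem f71930 : Led Lsl_bf (LP (LK LD1_c1 LD2_c23 LD3_c7)) = (LP (LK LD1_c2 LD2_c9 LD3_c51)) :=
  Lgr Lrot61 (Lpr_ft (f71925 IH) (Lpr_bt (f36149 IH) (Lpr_ft (f35987 IH) (Lpn (LP (LK LD1_c2 LD2_c9 LD3_c51))))))
theorem f38504 : Led Lsl_at (LP (LK LD1_c1 LD2_c2 LD3_c8)) = (LP (LK LD1_c2 LD2_c10 LD3_c4)) :=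
  Lre_a IH (LK LD1_c1 LD2_c2 LD3_c8) (LK LD1_c2 LD2_c10 LD3_c4) Lrfl Lrfl
theorem f38505 : Led Lsl_ct (LP (LK LD1_c2 LD2_c10 LD3_c4)) = (LP (LK LD1_c2 LD2_c9 LD3_c51)) :=
  Lgr Lrot111 (Lpe (f38504 IH) (Lpr_cf (K1.f38484 IH) (Lpe (f35986 IH) (Lpn (LP (LK LD1_c2 LD2_c9 LD3_c51))))))
theorem f71968 : Led Lsl_bf (LP (LK LD1_c2 LD2_c10 LD3_c4)) = (LP (LK LD1_c2 LD2_c15 LD3_c11)) :=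
  Lgr Lrot90 (Lpr_ct (f38505 IH) (Lpe (f71930 IH) (Lpr_ct (f71938 IH) (Lpr_bt (f71947 IH) (Lpr_ct (f70858 IH) (Lpn (LP (LK LD1_c2 LD2_c15 LD3_c11))))))))
theorem f71039 : Led Lsl_bt (LP (LK LD1_c2 LD2_c53 LD3_c16)) = (LP (LK LD1_c1 LD2_c22 LD3_c44)) :=
  Lre_b IH (LK LD1_c2 LD2_c53 LD3_c16) (LK LD1_c1 LD2_c22 LD3_c44) Lrfl Lrfl
theorem f72089 : Led Lsl_ft (LP (LK LD1_c2 LD2_c10 LD3_c4)) = (LP (LK LD1_c2 LD2_c53 LD3_c16)) :=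
  Lgr Lrot75 (Lpr_bf (f71968 IH) (Lpr_ff (f71013 IH) (Lpe (f71039 IH) (Lpn (LP (LK LD1_c2 LD2_c53 LD3_c16))))))
theorem f72099 : Led Lsl_ff (LP (LK LD1_c2 LD2_c10 LD3_c4)) = (LP (LK LD1_c2 LD2_c53 LD3_c16)) :=
  Lgr Lrot3 (Lpr_ft (f72089 IH) (Lpn (LP (LK LD1_c2 LD2_c53 LD3_c16))))
theorem f38575 : Led Lsl_dt (LP (LK LD1_c2 LD2_c10 LD3_c4)) = (LP (LK LD1_c4 LD2_c25 LD3_c20)) :=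
  Lre_d IH (LK LD1_c2 LD2_c10 LD3_c4) (LK LD1_c4 LD2_c25 LD3_c20) Lrfl Lrfl
theorem f72108 : Led Lsl_dt (LP (LK LD1_c5 LD2_c53 LD3_c49)) = (LP (LK LD1_c2 LD2_c53 LD3_c16)) :=
  Lre_d IH (LK LD1_c5 LD2_c53 LD3_c49) (LK LD1_c2 LD2_c53 LD3_c16) Lrfl Lrfl
theorem f72109 : Led Lsl_ft (LP (LK LD1_c4 LD2_c25 LD3_c20)) = (LP (LK LD1_c5 LD2_c53 LD3_c49)) :=
  Lgr Lrot54 (Lpe (f38575 IH) (Lpr_ff (f72099 IH) (Lpe (f72108 IH) (Lpn (LP (LK LD1_c5 LD2_c53 LD3_c49))))))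
theorem f38596 : Led Lsl_et (LP (LK LD1_c8 LD2_c48 LD3_c11)) = (LP (LK LD1_c4 LD2_c25 LD3_c20)) :=
  Lre_e IH (LK LD1_c8 LD2_c48 LD3_c11) (LK LD1_c4 LD2_c25 LD3_c20) Lrfl Lrfl
theorem f72131 : Led Lsl_ft (LP (LK LD1_c16 LD2_c28 LD3_c19)) = (LP (LK LD1_c8 LD2_c48 LD3_c11)) :=
  Lre_f IH (LK LD1_c16 LD2_c28 LD3_c19) (LK LD1_c8 LD2_c48 LD3_c11) Lrfl Lrfl
theorem f72120 : Led Lsl_et (LP (LK LD1_c5 LD2_c53 LD3_c49)) = (LP (LK LD1_c11 LD2_c33 LD3_c32)) :=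
  Lre_e IH (LK LD1_c5 LD2_c53 LD3_c49) (LK LD1_c11 LD2_c33 LD3_c32) Lrfl Lrfl
theorem f72132 : Led Lsl_ft (LP (LK LD1_c11 LD2_c33 LD3_c32)) = (LP (LK LD1_c20 LD2_c30 LD3_c47)) :=
  Lre_f IH (LK LD1_c11 LD2_c33 LD3_c32) (LK LD1_c20 LD2_c30 LD3_c47) Lrfl Lrfl
theorem f72133 : Led Lsl_ef (LP (LK LD1_c16 LD2_c28 LD3_c19)) = (LP (LK LD1_c20 LD2_c30 LD3_c47)) :=
  Lgr Lrot21 (Lpr_ft (f72131 IH) (Lpr_et (f38596 IH) (Lpr_ft (f72109 IH) (Lpr_et (f72120 IH) (Lpr_ft (f72132 IH) (Lpn (LP (LK LD1_c20 LD2_c30 LD3_c47))))))))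
theorem f72144 : Led Lsl_et (LP (LK LD1_c16 LD2_c28 LD3_c19)) = (LP (LK LD1_c20 LD2_c30 LD3_c47)) :=
  Lgr Lrot87 (Lpr_ef (f72133 IH) (Lpn (LP (LK LD1_c20 LD2_c30 LD3_c47))))
theorem f72151 : Led Lsl_bt (LP (LK LD1_c20 LD2_c30 LD3_c47)) = (LP (LK LD1_c11 LD2_c33 LD3_c39)) :=
  Lre_b IH (LK LD1_c20 LD2_c30 LD3_c47) (LK LD1_c11 LD2_c33 LD3_c39) Lrfl Lrfl
theorem f70940 : Led Lsl_at (LP (LK LD1_c17 LD2_c0 LD3_c41)) = (LP (LK LD1_c9 LD2_c8 LD3_c31)) :=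
  Lre_a IH (LK LD1_c17 LD2_c0 LD3_c41) (LK LD1_c9 LD2_c8 LD3_c31) Lrfl Lrfl
theorem f70941 : Led Lsl_at (LP (LK LD1_c5 LD2_c54 LD3_c19)) = (LP (LK LD1_c11 LD2_c33 LD3_c39)) :=
  Lre_a IH (LK LD1_c5 LD2_c54 LD3_c19) (LK LD1_c11 LD2_c33 LD3_c39) Lrfl Lrfl
theorem f70942 : Led Lsl_ef (LP (LK LD1_c17 LD2_c0 LD3_c41)) = (LP (LK LD1_c11 LD2_c33 LD3_c39)) :=
  Lgr Lrot20 (Lpr_at (f70940 IH) (Lpr_et (f70935 IH) (Lpr_at (f70941 IH) (Lpn (LP (LK LD1_c11 LD2_c33 LD3_c39))))))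
theorem f72152 : Led Lsl_bf (LP (LK LD1_c16 LD2_c28 LD3_c19)) = (LP (LK LD1_c17 LD2_c0 LD3_c41)) :=
  Lgr Lrot96 (Lpr_et (f72144 IH) (Lpr_bt (f72151 IH) (Lpe (f70942 IH) (Lpn (LP (LK LD1_c17 LD2_c0 LD3_c41))))))
theorem f72159 : Led Lsl_bt (LP (LK LD1_c8 LD2_c48 LD3_c11)) = (LP (LK LD1_c9 LD2_c8 LD3_c11)) :=
  Lgr Lrot35 (Lpe (f72131 IH) (Lpr_bf (f72152 IH) (Lpe (f70984 IH) (Lpn (LP (LK LD1_c9 LD2_c8 LD3_c11))))))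
theorem f72168 : Led Lsl_bf (LP (LK LD1_c8 LD2_c48 LD3_c11)) = (LP (LK LD1_c9 LD2_c8 LD3_c11)) :=
  Lgr Lrot24 (Lpr_bt (f72159 IH) (Lpn (LP (LK LD1_c9 LD2_c8 LD3_c11))))
theorem f72175 : Led Lsl_at (LP (LK LD1_c8 LD2_c48 LD3_c11)) = (LP (LK LD1_c4 LD2_c25 LD3_c25)) :=
  Lre_a IH (LK LD1_c8 LD2_c48 LD3_c11) (LK LD1_c4 LD2_c25 LD3_c25) Lrfl Lrfl
theorem f70371 : Led Lsl_bt (LP (LK LD1_c4 LD2_c25 LD3_c25)) = (LP (LK LD1_c2 LD2_c10 LD3_c7)) :=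
  Lre_b IH (LK LD1_c4 LD2_c25 LD3_c25) (LK LD1_c2 LD2_c10 LD3_c7) Lrfl Lrfl
theorem f38270 : Led Lsl_at (LP (LK LD1_c2 LD2_c10 LD3_c7)) = (LP (LK LD1_c3 LD2_c0 LD3_c59)) :=
  Lgr Lrot100 (Lpr_af (K1.f38264 IH) (Lpn (LP (LK LD1_c3 LD2_c0 LD3_c59))))
theorem f72176 : Led Lsl_at (LP (LK LD1_c4 LD2_c36 LD3_c9)) = (LP (LK LD1_c9 LD2_c8 LD3_c11)) :=
  Lre_a IH (LK LD1_c4 LD2_c36 LD3_c9) (LK LD1_c9 LD2_c8 LD3_c11) Lrfl Lrfl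
theorem f72177 : Led Lsl_bt (LP (LK LD1_c3 LD2_c0 LD3_c59)) = (LP (LK LD1_c4 LD2_c36 LD3_c9)) :=
  Lgr Lrot62 (Lpe (f38270 IH) (Lpe (f70371 IH) (Lpe (f72175 IH) (Lpr_bf (f72168 IH) (Lpe (f72176 IH) (Lpn (LP (LK LD1_c4 LD2_c36 LD3_c9))))))))
theorem f70949 : Led Lsl_ft (LP (LK LD1_c4 LD2_c36 LD3_c9)) = (LP (LK LD1_c9 LD2_c8 LD3_c31)) :=
  Lre_f IH (LK LD1_c4 LD2_c36 LD3_c9) (LK LD1_c9 LD2_c8 LD3_c31) Lrfl Lrfl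
theorem f72189 : Led Lsl_bf (LP (LK LD1_c6 LD2_c9 LD3_c14)) = (LP (LK LD1_c9 LD2_c8 LD3_c31)) :=
  Lgr Lrot61 (Lpr_ft (K1.f35746 IH) (Lpr_bt (f72177 IH) (Lpr_ft (f70949 IH) (Lpn (LP (LK LD1_c9 LD2_c8 LD3_c31))))))
theorem f72201 : Led Lsl_bt (LP (LK LD1_c4 LD2_c25 LD3_c10)) = (LP (LK LD1_c5 LD2_c54 LD3_c19)) :=
  Lgr Lrot119 (Lpe (f70803 IH) (Lpr_bf (f72189 IH) (Lpr_ef (f70947 IH) (Lpn (LP (LK LD1_c5 LD2_c54 LD3_c19))))))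
theorem f70805 : Led Lsl_ft (LP (LK LD1_c2 LD2_c9 LD3_c61)) = (LP (LK LD1_c4 LD2_c25 LD3_c10)) :=
  Lre_f IH (LK LD1_c2 LD2_c9 LD3_c61) (LK LD1_c4 LD2_c25 LD3_c10) Lrfl Lrfl
theorem f70952 : Led Lsl_ft (LP (LK LD1_c5 LD2_c54 LD3_c19)) = (LP (LK LD1_c2 LD2_c53 LD3_c32)) :=
  Lre_f IH (LK LD1_c5 LD2_c54 LD3_c19) (LK LD1_c2 LD2_c53 LD3_c32) Lrfl Lrfl
theorem f72210 : Led Lsl_bf (LP (LK LD1_c2 LD2_c9 LD3_c61)) = (LP (LK LD1_c2 LD2_c53 LD3_c32)) :=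
  Lgr Lrot61 (Lpr_ft (f70805 IH) (Lpr_bt (f72201 IH) (Lpr_ft (f70952 IH) (Lpn (LP (LK LD1_c2 LD2_c53 LD3_c32))))))
theorem f56356 : Led Lsl_et (LP (LK LD1_c2 LD2_c9 LD3_c61)) = (LP (LK LD1_c1 LD2_c2 LD3_c6)) :=
  Lre_e IH (LK LD1_c2 LD2_c9 LD3_c61) (LK LD1_c1 LD2_c2 LD3_c6) Lrfl Lrfl
theorem f70970 : Led Lsl_et (LP (LK LD1_c1 LD2_c22 LD3_c49)) = (LP (LK LD1_c2 LD2_c53 LD3_c32)) :=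
  Lre_e IH (LK LD1_c1 LD2_c22 LD3_c49) (LK LD1_c2 LD2_c53 LD3_c32) Lrfl Lrfl
theorem f72223 : Led Lsl_bt (LP (LK LD1_c1 LD2_c2 LD3_c6)) = (LP (LK LD1_c1 LD2_c22 LD3_c49)) :=
  Lgr Lrot119 (Lpe (f56356 IH) (Lpr_bf (f72210 IH) (Lpe (f70970 IH) (Lpn (LP (LK LD1_c1 LD2_c22 LD3_c49))))))
theorem f34763 : Led Lsl_dt (LP (LK LD1_c0 LD2_c28 LD3_c21)) = (LP (LK LD1_c1 LD2_c2 LD3_c6)) :=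
  Lre_d IH (LK LD1_c0 LD2_c28 LD3_c21) (LK LD1_c1 LD2_c2 LD3_c6) Lrfl Lrfl
theorem f70845 : Led Lsl_dt (LP (LK LD1_c1 LD2_c22 LD3_c49)) = (LP (LK LD1_c0 LD2_c38 LD3_c21)) :=
  Lre_d IH (LK LD1_c1 LD2_c22 LD3_c49) (LK LD1_c0 LD2_c38 LD3_c21) Lrfl Lrfl
theorem f72240 : Led Lsl_bf (LP (LK LD1_c0 LD2_c28 LD3_c21)) = (LP (LK LD1_c0 LD2_c38 LD3_c21)) :=
  Lgr Lrot93 (Lpr_dt (f34763 IH) (Lpr_bt (f72223 IH) (Lpr_dt (f70845 IH) (Lpn (LP (LK LD1_c0 LD2_c38 LD3_c21))))))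
theorem f37862 : Led Lsl_bt (LP (LK LD1_c0 LD2_c28 LD3_c23)) = (LP (LK LD1_c0 LD2_c12 LD3_c32)) :=
  Lre_b IH (LK LD1_c0 LD2_c28 LD3_c23) (LK LD1_c0 LD2_c12 LD3_c32) Lrfl Lrfl
theorem f27174 : Led Lsl_ct (LP (LK LD1_c0 LD2_c28 LD3_c23)) = (LP (LK LD1_c0 LD2_c13 LD3_c2)) :=
  Lre_c IH (LK LD1_c0 LD2_c28 LD3_c23) (LK LD1_c0 LD2_c13 LD3_c2) Lrfl Lrfl
theorem f72252 : Led Lsl_gt (LP (LK LD1_c0 LD2_c29 LD3_c40)) = (LP (LK LD1_c0 LD2_c13 LD3_c2)) :=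
  Lre_g IH (LK LD1_c0 LD2_c29 LD3_c40) (LK LD1_c0 LD2_c13 LD3_c2) Lrfl Lrfl
theorem f72253 : Led Lsl_ct (LP (LK LD1_c1 LD2_c4 LD3_c57)) = (LP (LK LD1_c0 LD2_c29 LD3_c40)) :=
  Lre_c IH (LK LD1_c1 LD2_c4 LD3_c57) (LK LD1_c0 LD2_c29 LD3_c40) Lrfl Lrfl
theorem f72254 : Led Lsl_gt (LP (LK LD1_c2 LD2_c15 LD3_c39)) = (LP (LK LD1_c1 LD2_c4 LD3_c57)) :=
  Lre_g IH (LK LD1_c2 LD2_c15 LD3_c39) (LK LD1_c1 LD2_c4 LD3_c57) Lrfl Lrfl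
theorem f37955 : Led Lsl_gt (LP (LK LD1_c0 LD2_c17 LD3_c5)) = (LP (LK LD1_c0 LD2_c38 LD3_c18)) :=
  Lre_g IH (LK LD1_c0 LD2_c17 LD3_c5) (LK LD1_c0 LD2_c38 LD3_c18) Lrfl Lrfl
theorem f71208 : Led Lsl_ct (LP (LK LD1_c1 LD2_c22 LD3_c38)) = (LP (LK LD1_c0 LD2_c38 LD3_c18)) :=
  Lre_c IH (LK LD1_c1 LD2_c22 LD3_c38) (LK LD1_c0 LD2_c38 LD3_c18) Lrfl Lrfl
theorem f72255 : Led Lsl_bf (LP (LK LD1_c2 LD2_c15 LD3_c39)) = (LP (LK LD1_c1 LD2_c22 LD3_c38)) :=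
  Lgr Lrot165 (Lpr_gt (f72254 IH) (Lpr_ct (f72253 IH) (Lpr_gt (f72252 IH) (Lpe (f27174 IH) (Lpr_bt (f37862 IH) (Lpr_gt (f20309 IH) (Lpr_bf (f72240 IH) (Lpr_ct (f22774 IH) (Lpr_gt (f37955 IH) (Lpe (f71208 IH) (Lpn (LP (LK LD1_c1 LD2_c22 LD3_c38)))))))))))))
theorem f72265 : Led Lsl_et (LP (LK LD1_c2 LD2_c15 LD3_c39)) = (LP (LK LD1_c4 LD2_c36 LD3_c52)) :=
  Lre_e IH (LK LD1_c2 LD2_c15 LD3_c39) (LK LD1_c4 LD2_c36 LD3_c52) Lrfl Lrfl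
theorem f72266 : Led Lsl_et (LP (LK LD1_c2 LD2_c53 LD3_c6)) = (LP (LK LD1_c1 LD2_c22 LD3_c38)) :=
  Lre_e IH (LK LD1_c2 LD2_c53 LD3_c6) (LK LD1_c1 LD2_c22 LD3_c38) Lrfl Lrfl
theorem f72267 : Led Lsl_bt (LP (LK LD1_c4 LD2_c36 LD3_c52)) = (LP (LK LD1_c2 LD2_c53 LD3_c6)) :=
  Lgr Lrot119 (Lpe (f72265 IH) (Lpr_bf (f72255 IH) (Lpe (f72266 IH) (Lpn (LP (LK LD1_c2 LD2_c53 LD3_c6))))))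
theorem f72277 : Led Lsl_ct (LP (LK LD1_c4 LD2_c34 LD3_c47)) = (LP (LK LD1_c4 LD2_c36 LD3_c52)) :=
  Lre_c IH (LK LD1_c4 LD2_c34 LD3_c47) (LK LD1_c4 LD2_c36 LD3_c52) Lrfl Lrfl
theorem f72278 : Led Lsl_bt (LP (LK LD1_c2 LD2_c14 LD3_c29)) = (LP (LK LD1_c4 LD2_c34 LD3_c47)) :=
  Lre_b IH (LK LD1_c2 LD2_c14 LD3_c29) (LK LD1_c4 LD2_c34 LD3_c47) Lrfl Lrfl
theorem f72279 : Led Lsl_ct (LP (LK LD1_c2 LD2_c53 LD3_c6)) = (LP (LK LD1_c1 LD2_c22 LD3_c40)) :=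
  Lre_c IH (LK LD1_c2 LD2_c53 LD3_c6) (LK LD1_c1 LD2_c22 LD3_c40) Lrfl Lrfl
theorem f72280 : Led Lsl_bt (LP (LK LD1_c1 LD2_c22 LD3_c40)) = (LP (LK LD1_c2 LD2_c53 LD3_c3)) :=
  Lre_b IH (LK LD1_c1 LD2_c22 LD3_c40) (LK LD1_c2 LD2_c53 LD3_c3) Lrfl Lrfl
theorem f72281 : Led Lsl_cf (LP (LK LD1_c2 LD2_c14 LD3_c29)) = (LP (LK LD1_c2 LD2_c53 LD3_c3)) :=
  Lgr Lrot97 (Lpr_bt (f72278 IH) (Lpr_ct (f72277 IH) (Lpr_bt (f72267 IH) (Lpr_ct (f72279 IH) (Lpr_bt (f72280 IH) (Lpn (LP (LK LD1_c2 LD2_c53 LD3_c3))))))))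
theorem f72371 : Led Lsl_ct (LP (LK LD1_c2 LD2_c14 LD3_c29)) = (LP (LK LD1_c2 LD2_c53 LD3_c3)) :=
  Lgr Lrot59 (Lpr_cf (f72281 IH) (Lpn (LP (LK LD1_c2 LD2_c53 LD3_c3))))
theorem f72388 : Led Lsl_et (LP (LK LD1_c1 LD2_c4 LD3_c21)) = (LP (LK LD1_c2 LD2_c14 LD3_c29)) :=
  Lre_e IH (LK LD1_c1 LD2_c4 LD3_c21) (LK LD1_c2 LD2_c14 LD3_c29) Lrfl Lrfl
theorem f72389 : Led Lsl_et (LP (LK LD1_c2 LD2_c53 LD3_c3)) = (LP (LK LD1_c1 LD2_c22 LD3_c37)) :=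
  Lre_e IH (LK LD1_c2 LD2_c53 LD3_c3) (LK LD1_c1 LD2_c22 LD3_c37) Lrfl Lrfl
theorem f72390 : Led Lsl_cf (LP (LK LD1_c1 LD2_c4 LD3_c21)) = (LP (LK LD1_c1 LD2_c22 LD3_c37)) :=
  Lgr Lrot39 (Lpr_et (f72388 IH) (Lpr_ct (f72371 IH) (Lpr_et (f72389 IH) (Lpn (LP (LK LD1_c1 LD2_c22 LD3_c37))))))
theorem f20406 : Led Lsl_gt (LP (LK LD1_c1 LD2_c4 LD3_c21)) = (LP (LK LD1_c0 LD2_c29 LD3_c27)) :=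
  Lre_g IH (LK LD1_c1 LD2_c4 LD3_c21) (LK LD1_c0 LD2_c29 LD3_c27) Lrfl Lrfl
theorem f20298 : Led Lsl_bt (LP (LK LD1_c0 LD2_c12 LD3_c60)) = (LP (LK LD1_c0 LD2_c29 LD3_c27)) :=
  Lre_b IH (LK LD1_c0 LD2_c12 LD3_c60) (LK LD1_c0 LD2_c29 LD3_c27) Lrfl Lrfl
theorem f20299 : Led Lsl_ct (LP (LK LD1_c0 LD2_c12 LD3_c60)) = (LP (LK LD1_c0 LD2_c5 LD3_c56)) :=
  Lre_c IH (LK LD1_c0 LD2_c12 LD3_c60) (LK LD1_c0 LD2_c5 LD3_c56) Lrfl Lrfl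
theorem f20300 : Led Lsl_bt (LP (LK LD1_c0 LD2_c29 LD3_c27)) = (LP (LK LD1_c0 LD2_c12 LD3_c60)) :=
  Lre_b IH (LK LD1_c0 LD2_c29 LD3_c27) (LK LD1_c0 LD2_c12 LD3_c60) Lrfl Lrfl
theorem f20301 : Led Lsl_ct (LP (LK LD1_c0 LD2_c29 LD3_c27)) = (LP (LK LD1_c0 LD2_c29 LD3_c27)) :=
  Lgr Lrot83 (Lpe (f20298 IH) (Lpe (f20253 IH) (Lpr_bf (f20286 IH) (Lpe (f20299 IH) (Lpe (f20300 IH) (Lpn (LP (LK LD1_c0 LD2_c29 LD3_c27))))))))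
theorem f20408 : Led Lsl_bt (LP (LK LD1_c0 LD2_c14 LD3_c46)) = (LP (LK LD1_c0 LD2_c6 LD3_c47)) :=
  Lre_b IH (LK LD1_c0 LD2_c14 LD3_c46) (LK LD1_c0 LD2_c6 LD3_c47) Lrfl Lrfl
theorem f20409 : Led Lsl_ct (LP (LK LD1_c0 LD2_c14 LD3_c46)) = (LP (LK LD1_c0 LD2_c7 LD3_c39)) :=
  Lre_c IH (LK LD1_c0 LD2_c14 LD3_c46) (LK LD1_c0 LD2_c7 LD3_c39) Lrfl Lrfl
theorem f20410 : Led Lsl_gt (LP (LK LD1_c0 LD2_c7 LD3_c39)) = (LP (LK LD1_c0 LD2_c17 LD3_c11)) :=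
  Lre_g IH (LK LD1_c0 LD2_c7 LD3_c39) (LK LD1_c0 LD2_c17 LD3_c11) Lrfl Lrfl
theorem f20411 : Led Lsl_ct (LP (LK LD1_c0 LD2_c38 LD3_c39)) = (LP (LK LD1_c0 LD2_c17 LD3_c11)) :=
  Lre_c IH (LK LD1_c0 LD2_c38 LD3_c39) (LK LD1_c0 LD2_c17 LD3_c11) Lrfl Lrfl
theorem f20412 : Led Lsl_bt (LP (LK LD1_c0 LD2_c38 LD3_c39)) = (LP (LK LD1_c1 LD2_c23 LD3_c36)) :=
  Lre_b IH (LK LD1_c0 LD2_c38 LD3_c39) (LK LD1_c1 LD2_c23 LD3_c36) Lrfl Lrfl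
theorem f72396 : Led Lsl_gt (LP (LK LD1_c1 LD2_c23 LD3_c36)) = (LP (LK LD1_c1 LD2_c22 LD3_c37)) :=
  Lgr Lrot82 (Lpe (f20412 IH) (Lpr_ct (f20411 IH) (Lpe (f20410 IH) (Lpe (f20409 IH) (Lpr_bt (f20408 IH) (Lpe (f20254 IH) (Lpe (f20300 IH) (Lpr_ct (f20301 IH) (Lpe (f20406 IH) (Lpr_cf (f72390 IH) (Lpn (LP (LK LD1_c1 LD2_c22 LD3_c37)))))))))))))
theorem f72402 : Led Lsl_gt (LP (LK LD1_c0 LD2_c32 LD3_c52)) = (LP (LK LD1_c0 LD2_c14 LD3_c46)) :=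
  Lre_g IH (LK LD1_c0 LD2_c32 LD3_c52) (LK LD1_c0 LD2_c14 LD3_c46) Lrfl Lrfl
theorem f72403 : Led Lsl_bt (LP (LK LD1_c1 LD2_c10 LD3_c53)) = (LP (LK LD1_c0 LD2_c32 LD3_c52)) :=
  Lre_b IH (LK LD1_c1 LD2_c10 LD3_c53) (LK LD1_c0 LD2_c32 LD3_c52) Lrfl Lrfl
theorem f72404 : Led Lsl_ct (LP (LK LD1_c1 LD2_c10 LD3_c53)) = (LP (LK LD1_c2 LD2_c27 LD3_c19)) :=
  Lre_c IH (LK LD1_c1 LD2_c10 LD3_c53) (LK LD1_c2 LD2_c27 LD3_c19) Lrfl Lrfl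
theorem f72394 : Led Lsl_bt (LP (LK LD1_c0 LD2_c38 LD3_c18)) = (LP (LK LD1_c1 LD2_c22 LD3_c37)) :=
  Lre_b IH (LK LD1_c0 LD2_c38 LD3_c18) (LK LD1_c1 LD2_c22 LD3_c37) Lrfl Lrfl
theorem f71210 : Led Lsl_ct (LP (LK LD1_c0 LD2_c38 LD3_c18)) = (LP (LK LD1_c1 LD2_c22 LD3_c38)) :=
  Lre_c IH (LK LD1_c0 LD2_c38 LD3_c18) (LK LD1_c1 LD2_c22 LD3_c38) Lrfl Lrfl
theorem f72405 : Led Lsl_gf (LP (LK LD1_c2 LD2_c27 LD3_c19)) = (LP (LK LD1_c1 LD2_c22 LD3_c38)) :=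
  Lgr Lrot126 (Lpe (f72404 IH) (Lpr_bt (f72403 IH) (Lpr_gt (f72402 IH) (Lpr_ct (f20409 IH) (Lpr_gt (f20410 IH) (Lpe (f20411 IH) (Lpr_bt (f20412 IH) (Lpr_gt (f72396 IH) (Lpe (f72394 IH) (Lpr_ct (f71210 IH) (Lpn (LP (LK LD1_c1 LD2_c22 LD3_c38)))))))))))))
theorem f72418 : Led Lsl_ct (LP (LK LD1_c2 LD2_c27 LD3_c19)) = (LP (LK LD1_c1 LD2_c10 LD3_c53)) :=
  Lre_c IH (LK LD1_c2 LD2_c27 LD3_c19) (LK LD1_c1 LD2_c10 LD3_c53) Lrfl Lrfl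
theorem f72422 : Led Lsl_dt (LP (LK LD1_c1 LD2_c10 LD3_c53)) = (LP (LK LD1_c2 LD2_c27 LD3_c20)) :=
  Lre_d IH (LK LD1_c1 LD2_c10 LD3_c53) (LK LD1_c2 LD2_c27 LD3_c20) Lrfl Lrfl
theorem f72423 : Led Lsl_ct (LP (LK LD1_c4 LD2_c58 LD3_c57)) = (LP (LK LD1_c2 LD2_c27 LD3_c20)) :=
  Lre_c IH (LK LD1_c4 LD2_c58 LD3_c57) (LK LD1_c2 LD2_c27 LD3_c20) Lrfl Lrfl
theorem f22773 : Led Lsl_dt (LP (LK LD1_c0 LD2_c38 LD3_c22)) = (LP (LK LD1_c0 LD2_c17 LD3_c5)) :=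
  Lre_d IH (LK LD1_c0 LD2_c38 LD3_c22) (LK LD1_c0 LD2_c17 LD3_c5) Lrfl Lrfl
theorem f22812 : Led Lsl_gt (LP (LK LD1_c0 LD2_c38 LD3_c22)) = (LP (LK LD1_c1 LD2_c22 LD3_c51)) :=
  Lre_g IH (LK LD1_c0 LD2_c38 LD3_c22) (LK LD1_c1 LD2_c22 LD3_c51) Lrfl Lrfl
theorem f61206 : Led Lsl_ct (LP (LK LD1_c1 LD2_c22 LD3_c51)) = (LP (LK LD1_c2 LD2_c53 LD3_c37)) :=
  Lre_c IH (LK LD1_c1 LD2_c22 LD3_c51) (LK LD1_c2 LD2_c53 LD3_c37) Lrfl Lrfl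
theorem f72424 : Led Lsl_gf (LP (LK LD1_c4 LD2_c58 LD3_c57)) = (LP (LK LD1_c2 LD2_c53 LD3_c37)) :=
  Lgr Lrot104 (Lpr_ct (f72423 IH) (Lpe (f72422 IH) (Lpe (f72418 IH) (Lpr_gf (f72405 IH) (Lpe (f71210 IH) (Lpe (f37955 IH) (Lpe (f22773 IH) (Lpr_gt (f22812 IH) (Lpr_ct (f61206 IH) (Lpn (LP (LK LD1_c2 LD2_c53 LD3_c37))))))))))))
theorem f72434 : Led Lsl_ct (LP (LK LD1_c2 LD2_c27 LD3_c20)) = (LP (LK LD1_c4 LD2_c58 LD3_c57)) :=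
  Lre_c IH (LK LD1_c2 LD2_c27 LD3_c20) (LK LD1_c4 LD2_c58 LD3_c57) Lrfl Lrfl
theorem f72435 : Led Lsl_bt (LP (LK LD1_c2 LD2_c27 LD3_c20)) = (LP (LK LD1_c1 LD2_c10 LD3_c55)) :=
  Lre_b IH (LK LD1_c2 LD2_c27 LD3_c20) (LK LD1_c1 LD2_c10 LD3_c55) Lrfl Lrfl
theorem f59463 : Led Lsl_bt (LP (LK LD1_c0 LD2_c17 LD3_c6)) = (LP (LK LD1_c0 LD2_c38 LD3_c22)) :=
  Lre_b IH (LK LD1_c0 LD2_c17 LD3_c6) (LK LD1_c0 LD2_c38 LD3_c22) Lrfl Lrfl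
theorem f60917 : Led Lsl_cf (LP (LK LD1_c0 LD2_c16 LD3_c39)) = (LP (LK LD1_c0 LD2_c13 LD3_c19)) :=
  Lgr Lrot11 (Lpr_ct (K1.f60910 IH) (Lpn (LP (LK LD1_c0 LD2_c13 LD3_c19))))
theorem f61213 : Led Lsl_dt (LP (LK LD1_c0 LD2_c16 LD3_c39)) = (LP (LK LD1_c0 LD2_c37 LD3_c21)) :=
  Lre_d IH (LK LD1_c0 LD2_c16 LD3_c39) (LK LD1_c0 LD2_c37 LD3_c21) Lrfl Lrfl
theorem f61214 : Led Lsl_cf (LP (LK LD1_c0 LD2_c19 LD3_c7)) = (LP (LK LD1_c0 LD2_c37 LD3_c21)) :=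
  Lgr Lrot55 (Lpe (K1.f60962 IH) (Lpr_ct (K1.f61007 IH) (Lpr_dt (K0.f9623 IH) (Lpe (K0.f9619 IH) (Lpe (K0.f25726 IH) (Lpr_ct (K1.f56569 IH) (Lpr_dt (K1.f56579 IH) (Lpr_ct (K1.f59424 IH) (Lpe (K1.f59460 IH) (Lpe (K1.f26302 IH) (Lpr_dt (K0.f7341 IH) (Lpe (K0.f26724 IH) (Lpr_dt (K1.f60905 IH) (Lpe (f60917 IH) (Lpr_dt (f61213 IH) (Lpn (LP (LK LD1_c0 LD2_c37 LD3_c21))))))))))))))))))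
theorem f61250 : Led Lsl_bt (LP (LK LD1_c0 LD2_c37 LD3_c21)) = (LP (LK LD1_c1 LD2_c20 LD3_c51)) :=
  Lre_b IH (LK LD1_c0 LD2_c37 LD3_c21) (LK LD1_c1 LD2_c20 LD3_c51) Lrfl Lrfl
theorem f72439 : Led Lsl_gt (LP (LK LD1_c1 LD2_c10 LD3_c55)) = (LP (LK LD1_c1 LD2_c20 LD3_c51)) :=
  Lgr Lrot164 (Lpe (f72435 IH) (Lpr_ct (f72434 IH) (Lpr_gf (f72424 IH) (Lpe (f61206 IH) (Lpe (f22812 IH) (Lpe (f59463 IH) (Lpr_ct (K1.f37947 IH) (Lpr_gf (K1.f61009 IH) (Lpr_cf (f61214 IH) (Lpr_bt (f61250 IH) (Lpn (LP (LK LD1_c1 LD2_c20 LD3_c51)))))))))))))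
theorem f72455 : Led Lsl_dt (LP (LK LD1_c0 LD2_c32 LD3_c52)) = (LP (LK LD1_c1 LD2_c10 LD3_c55)) :=
  Lre_d IH (LK LD1_c0 LD2_c32 LD3_c52) (LK LD1_c1 LD2_c10 LD3_c55) Lrfl Lrfl
theorem f72456 : Led Lsl_gt (LP (LK LD1_c1 LD2_c10 LD3_c46)) = (LP (LK LD1_c0 LD2_c32 LD3_c52)) :=
  Lre_g IH (LK LD1_c1 LD2_c10 LD3_c46) (LK LD1_c0 LD2_c32 LD3_c52) Lrfl Lrfl
theorem f72463 : Led Lsl_ct (LP (LK LD1_c0 LD2_c38 LD3_c36)) = (LP (LK LD1_c1 LD2_c10 LD3_c46)) :=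
  Lre_c IH (LK LD1_c0 LD2_c38 LD3_c36) (LK LD1_c1 LD2_c10 LD3_c46) Lrfl Lrfl
theorem f72457 : Led Lsl_gt (LP (LK LD1_c0 LD2_c38 LD3_c36)) = (LP (LK LD1_c0 LD2_c17 LD3_c12)) :=
  Lre_g IH (LK LD1_c0 LD2_c38 LD3_c36) (LK LD1_c0 LD2_c17 LD3_c12) Lrfl Lrfl
theorem f72458 : Led Lsl_dt (LP (LK LD1_c0 LD2_c17 LD3_c12)) = (LP (LK LD1_c0 LD2_c38 LD3_c45)) :=
  Lre_d IH (LK LD1_c0 LD2_c17 LD3_c12) (LK LD1_c0 LD2_c38 LD3_c45) Lrfl Lrfl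
theorem f57100 : Led Lsl_ct (LP (LK LD1_c1 LD2_c10 LD3_c46)) = (LP (LK LD1_c0 LD2_c38 LD3_c36)) :=
  Lre_c IH (LK LD1_c1 LD2_c10 LD3_c46) (LK LD1_c0 LD2_c38 LD3_c36) Lrfl Lrfl
theorem f72454 : Led Lsl_dt (LP (LK LD1_c1 LD2_c20 LD3_c51)) = (LP (LK LD1_c0 LD2_c37 LD3_c20)) :=
  Lre_d IH (LK LD1_c1 LD2_c20 LD3_c51) (LK LD1_c0 LD2_c37 LD3_c20) Lrfl Lrfl
theorem f60914 : Led Lsl_bt (LP (LK LD1_c0 LD2_c37 LD3_c20)) = (LP (LK LD1_c0 LD2_c16 LD3_c39)) :=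
  Lre_b IH (LK LD1_c0 LD2_c37 LD3_c20) (LK LD1_c0 LD2_c16 LD3_c39) Lrfl Lrfl
theorem f60232 : Led Lsl_af (LP (LK LD1_c0 LD2_c18 LD3_c17)) = (LP (LK LD1_c0 LD2_c16 LD3_c36)) :=
  Lgr Lrot45 (Lpr_ft (K1.f59677 IH) (Lpr_at (K1.f36393 IH) (Lpr_ft (K1.f60230 IH) (Lpn (LP (LK LD1_c0 LD2_c16 LD3_c36))))))
theorem f20548 : Led Lsl_ft (LP (LK LD1_c0 LD2_c3 LD3_c40)) = (LP (LK LD1_c0 LD2_c8 LD3_c0)) :=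
  Lre_f IH (LK LD1_c0 LD2_c3 LD3_c40) (LK LD1_c0 LD2_c8 LD3_c0) Lrfl Lrfl
theorem f20549 : Led Lsl_at (LP (LK LD1_c0 LD2_c8 LD3_c0)) = (LP (LK LD1_c0 LD2_c7 LD3_c25)) :=
  Lgr Lrot26 (Lpe (f20548 IH) (Lpr_gt (K0.f20546 IH) (Lpr_gt (K1.f20456 IH) (Lpn (LP (LK LD1_c0 LD2_c7 LD3_c25))))))
theorem f60891 : Led Lsl_bt (LP (LK LD1_c0 LD2_c13 LD3_c19)) = (LP (LK LD1_c0 LD2_c8 LD3_c0)) :=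
  Lgr Lrot62 (Lpr_af (K1.f60887 IH) (Lpe (f59357 IH) (Lpr_af (f60232 IH) (Lpe (K1.f59723 IH) (Lpe (f20549 IH) (Lpn (LP (LK LD1_c0 LD2_c8 LD3_c0))))))))
theorem f20180 : Led Lsl_bt (LP (LK LD1_c0 LD2_c17 LD3_c51)) = (LP (LK LD1_c0 LD2_c39 LD3_c48)) :=
  Lre_b IH (LK LD1_c0 LD2_c17 LD3_c51) (LK LD1_c0 LD2_c39 LD3_c48) Lrfl Lrfl
theorem f60915 : Led Lsl_cf (LP (LK LD1_c0 LD2_c37 LD3_c20)) = (LP (LK LD1_c0 LD2_c39 LD3_c48)) :=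
  Lgr Lrot97 (Lpr_bt (f60914 IH) (Lpr_ct (K1.f60910 IH) (Lpr_bt (f60891 IH) (Lpr_ct (K0.f20179 IH) (Lpr_bt (f20180 IH) (Lpn (LP (LK LD1_c0 LD2_c39 LD3_c48))))))))
theorem f72459 : Led Lsl_dt (LP (LK LD1_c1 LD2_c5 LD3_c40)) = (LP (LK LD1_c0 LD2_c39 LD3_c48)) :=
  Lre_d IH (LK LD1_c1 LD2_c5 LD3_c40) (LK LD1_c0 LD2_c39 LD3_c48) Lrfl Lrfl
theorem f72460 : Led Lsl_gt (LP (LK LD1_c0 LD2_c38 LD3_c45)) = (LP (LK LD1_c1 LD2_c5 LD3_c40)) :=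
  Lgr Lrot49 (Lpe (f72458 IH) (Lpe (f72457 IH) (Lpe (f57100 IH) (Lpr_gt (f72456 IH) (Lpr_dt (f72455 IH) (Lpr_gt (f72439 IH) (Lpr_dt (f72454 IH) (Lpr_cf (f60915 IH) (Lpe (f72459 IH) (Lpn (LP (LK LD1_c1 LD2_c5 LD3_c40))))))))))))
theorem f72464 : Led Lsl_cf (LP (LK LD1_c0 LD2_c39 LD3_c48)) = (LP (LK LD1_c0 LD2_c37 LD3_c20)) :=
  Lgr Lrot14 (Lpe (f72459 IH) (Lpe (f72460 IH) (Lpe (f72458 IH) (Lpe (f72457 IH) (Lpr_ct (f72463 IH) (Lpr_gt (f72456 IH) (Lpr_dt (f72455 IH) (Lpr_gt (f72439 IH) (Lpr_dt (f72454 IH) (Lpn (LP (LK LD1_c0 LD2_c37 LD3_c20))))))))))))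
theorem f26765 : Led Lsl_bt (LP (LK LD1_c0 LD2_c39 LD3_c48)) = (LP (LK LD1_c0 LD2_c17 LD3_c51)) :=
  Lre_b IH (LK LD1_c0 LD2_c39 LD3_c48) (LK LD1_c0 LD2_c17 LD3_c51) Lrfl Lrfl
theorem f60929 : Led Lsl_bt (LP (LK LD1_c0 LD2_c16 LD3_c39)) = (LP (LK LD1_c0 LD2_c37 LD3_c20)) :=
  Lre_b IH (LK LD1_c0 LD2_c16 LD3_c39) (LK LD1_c0 LD2_c37 LD3_c20) Lrfl Lrfl
theorem f72817 : Led Lsl_bt (LP (LK LD1_c0 LD2_c8 LD3_c0)) = (LP (LK LD1_c0 LD2_c13 LD3_c19)) :=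
  Lgr Lrot128 (Lpe (K0.f20191 IH) (Lpe (f26765 IH) (Lpr_cf (f72464 IH) (Lpe (f60929 IH) (Lpr_cf (f60917 IH) (Lpn (LP (LK LD1_c0 LD2_c13 LD3_c19))))))))
theorem f27022 : Led Lsl_bt (LP (LK LD1_c0 LD2_c6 LD3_c10)) = (LP (LK LD1_c0 LD2_c13 LD3_c30)) :=
  Lre_b IH (LK LD1_c0 LD2_c6 LD3_c10) (LK LD1_c0 LD2_c13 LD3_c30) Lrfl Lrfl
theorem f36497 : Led Lsl_gt (LP (LK LD1_c1 LD2_c1 LD3_c49)) = (LP (LK LD1_c0 LD2_c28 LD3_c13)) :=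
  Lre_g IH (LK LD1_c1 LD2_c1 LD3_c49) (LK LD1_c0 LD2_c28 LD3_c13) Lrfl Lrfl
theorem f80298 : Led Lsl_ct (LP (LK LD1_c0 LD2_c30 LD3_c21)) = (LP (LK LD1_c1 LD2_c1 LD3_c49)) :=
  Lgr Lrot91 (Lpe (f27023 IH) (Lpe (f27022 IH) (Lpr_ct (K0.f26368 IH) (Lpr_gf (K0.f26936 IH) (Lpe (K0.f20179 IH) (Lpr_bt (f72817 IH) (Lpe (K1.f25958 IH) (Lpr_bf (K1.f36487 IH) (Lpr_ct (K1.f23390 IH) (Lpe (f36497 IH) (Lpn (LP (LK LD1_c1 LD2_c1 LD3_c49)))))))))))))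
theorem f28784 : Led Lsl_et (LP (LK LD1_c0 LD2_c2 LD3_c23)) = (LP (LK LD1_c0 LD2_c5 LD3_c13)) :=
  Lre_e IH (LK LD1_c0 LD2_c2 LD3_c23) (LK LD1_c0 LD2_c5 LD3_c13) Lrfl Lrfl
theorem f31426 : Led Lsl_af (LP (LK LD1_c0 LD2_c6 LD3_c36)) = (LP (LK LD1_c0 LD2_c11 LD3_c5)) :=
  Lgr Lrot68 (Lpr_ct (K0.f31120 IH) (Lpe (K0.f31109 IH) (Lpr_ct (K0.f28574 IH) (Lpn (LP (LK LD1_c0 LD2_c11 LD3_c5))))))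
theorem f31600 : Led Lsl_dt (LP (LK LD1_c0 LD2_c7 LD3_c46)) = (LP (LK LD1_c0 LD2_c11 LD3_c5)) :=
  Lgr Lrot44 (Lpe (K0.f8198 IH) (Lpr_df (K0.f31037 IH) (Lpr_af (f31426 IH) (Lpn (LP (LK LD1_c0 LD2_c11 LD3_c5))))))
theorem f8204 : Led Lsl_gt (LP (LK LD1_c0 LD2_c7 LD3_c44)) = (LP (LK LD1_c0 LD2_c7 LD3_c46)) :=
  Lgr Lrot46 (Lpe (K0.f421 IH) (Lpr_ft (K0.f8196 IH) (Lpr_at (K0.f8198 IH) (Lpn (LP (LK LD1_c0 LD2_c7 LD3_c46))))))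
theorem f59157 : Led Lsl_df (LP (LK LD1_c0 LD2_c30 LD3_c21)) = (LP (LK LD1_c0 LD2_c17 LD3_c22)) :=
  Lgr Lrot168 (Lpe (f27023 IH) (Lpe (K1.f36319 IH) (Lpr_et (K1.f58977 IH) (Lpe (f37087 IH) (Lpe (f28784 IH) (Lpr_dt (K0.f27808 IH) (Lpe (K0.f28775 IH) (Lpe (f31600 IH) (Lpe (f8204 IH) (Lpe (K0.f8206 IH) (Lpn (LP (LK LD1_c0 LD2_c17 LD3_c22)))))))))))))
theorem f37910 : Led Lsl_df (LP (LK LD1_c0 LD2_c14 LD3_c44)) = (LP (LK LD1_c0 LD2_c13 LD3_c8)) :=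
  Lgr Lrot155 (Lpr_gt (K1.f37903 IH) (Lpr_ct (K1.f35548 IH) (Lpr_gt (K1.f35549 IH) (Lpe (K1.f36936 IH) (Lpr_dt (K1.f36917 IH) (Lpe (K0.f9588 IH) (Lpe (K0.f35384 IH) (Lpr_cf (K0.f35412 IH) (Lpr_gf (K1.f35511 IH) (Lpn (LP (LK LD1_c0 LD2_c13 LD3_c8))))))))))))
theorem f37966 : Led Lsl_df (LP (LK LD1_c0 LD2_c7 LD3_c47)) = (LP (LK LD1_c0 LD2_c14 LD3_c43)) :=
  Lgr Lrot155 (Lpr_gt (K0.f34683 IH) (Lpr_ct (K0.f8232 IH) (Lpe (K0.f34695 IH) (Lpe (K0.f35396 IH) (Lpe (f37910 IH) (Lpe (K1.f37327 IH) (Lpe (K1.f37320 IH) (Lpe (K1.f24964 IH) (Lpr_gf (K1.f37960 IH) (Lpn (LP (LK LD1_c0 LD2_c14 LD3_c43))))))))))))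
theorem f59663 : Led Lsl_dt (LP (LK LD1_c2 LD2_c9 LD3_c21)) = (LP (LK LD1_c1 LD2_c1 LD3_c49)) :=
  Lre_d IH (LK LD1_c2 LD2_c9 LD3_c21) (LK LD1_c1 LD2_c1 LD3_c49) Lrfl Lrfl
theorem f80315 : Led Lsl_gt (LP (LK LD1_c1 LD2_c55 LD3_c38)) = (LP (LK LD1_c2 LD2_c9 LD3_c21)) :=
  Lgr Lrot189 (Lpe (K1.f35598 IH) (Lpe (K1.f35594 IH) (Lpr_ct (K1.f29311 IH) (Lpr_gt (f37958 IH) (Lpe (f37966 IH) (Lpr_gt (K0.f34683 IH) (Lpe (f59157 IH) (Lpr_ct (f80298 IH) (Lpe (f59663 IH) (Lpn (LP (LK LD1_c2 LD2_c9 LD3_c21))))))))))))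
theorem f59174 : Led Lsl_ct (LP (LK LD1_c0 LD2_c30 LD3_c22)) = (LP (LK LD1_c1 LD2_c1 LD3_c48)) :=
  Lgr Lrot59 (Lpr_cf (K1.f59170 IH) (Lpn (LP (LK LD1_c1 LD2_c1 LD3_c48))))
theorem f35868 : Led Lsl_dt (LP (LK LD1_c1 LD2_c1 LD3_c48)) = (LP (LK LD1_c2 LD2_c9 LD3_c18)) :=
  Lre_d IH (LK LD1_c1 LD2_c1 LD3_c48) (LK LD1_c2 LD2_c9 LD3_c18) Lrfl Lrfl
theorem f59699 : Led Lsl_cf (LP (LK LD1_c1 LD2_c28 LD3_c2)) = (LP (LK LD1_c2 LD2_c9 LD3_c18)) :=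
  Lgr Lrot116 (Lpr_dt (f59694 IH) (Lpr_ct (K1.f59693 IH) (Lpr_dt (K1.f59685 IH) (Lpe (K0.f8219 IH) (Lpr_af (K0.f33662 IH) (Lpe (K0.f34690 IH) (Lpe (K1.f59159 IH) (Lpr_ct (f59174 IH) (Lpr_dt (f35868 IH) (Lpn (LP (LK LD1_c2 LD2_c9 LD3_c18))))))))))))
theorem f59703 : Led Lsl_gt (LP (LK LD1_c1 LD2_c28 LD3_c2)) = (LP (LK LD1_c1 LD2_c2 LD3_c1)) :=
  Lgr Lrot49 (Lpe (f59181 IH) (Lpr_gf (K1.f59701 IH) (Lpe (K1.f36308 IH) (Lpr_gt (K1.f36295 IH) (Lpr_dt (K1.f36398 IH) (Lpe (K0.f35431 IH) (Lpr_dt (K0.f16638 IH) (Lpe (K1.f35439 IH) (Lpe (K1.f35438 IH) (Lpn (LP (LK LD1_c1 LD2_c2 LD3_c1))))))))))))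
theorem f36627 : Led Lsl_cf (LP (LK LD1_c1 LD2_c27 LD3_c47)) = (LP (LK LD1_c0 LD2_c55 LD3_c13)) :=
  Lgr Lrot55 (Lpr_dt (K1.f36626 IH) (Lpr_ct (K1.f36625 IH) (Lpr_dt (K1.f36624 IH) (Lpr_ct (K1.f36616 IH) (Lpr_dt (K1.f29228 IH) (Lpr_ct (K1.f29331 IH) (Lpr_dt (K1.f29554 IH) (Lpr_ct (K1.f29553 IH) (Lpr_dt (K1.f29552 IH) (Lpr_ct (K1.f29311 IH) (Lpr_dt (K1.f29324 IH) (Lpe (K1.f29322 IH) (Lpr_dt (K0.f3052 IH) (Lpr_ct (K0.f2954 IH) (Lpr_dt (K1.f29551 IH) (Lpn (LP (LK LD1_c0 LD2_c55 LD3_c13))))))))))))))))))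
theorem f36645 : Led Lsl_dt (LP (LK LD1_c0 LD2_c40 LD3_c37)) = (LP (LK LD1_c1 LD2_c27 LD3_c47)) :=
  Lre_d IH (LK LD1_c0 LD2_c40 LD3_c37) (LK LD1_c1 LD2_c27 LD3_c47) Lrfl Lrfl
theorem f70214 : Led Lsl_gf (LP (LK LD1_c0 LD2_c40 LD3_c37)) = (LP (LK LD1_c0 LD2_c54 LD3_c33)) :=
  Lgr Lrot143 (Lpr_dt (f36645 IH) (Lpr_cf (f36627 IH) (Lpe (K1.f29551 IH) (Lpr_gf (K1.f35818 IH) (Lpe (K1.f35438 IH) (Lpe (f59703 IH) (Lpr_cf (f59699 IH) (Lpr_gt (f70211 IH) (Lpr_dt (K1.f35583 IH) (Lpn (LP (LK LD1_c0 LD2_c54 LD3_c33))))))))))))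
theorem f37185 : Led Lsl_dt (LP (LK LD1_c1 LD2_c27 LD3_c58)) = (LP (LK LD1_c0 LD2_c40 LD3_c41)) :=
  Lre_d IH (LK LD1_c1 LD2_c27 LD3_c58) (LK LD1_c0 LD2_c40 LD3_c41) Lrfl Lrfl
theorem f59664 : Led Lsl_dt (LP (LK LD1_c1 LD2_c1 LD3_c49)) = (LP (LK LD1_c2 LD2_c9 LD3_c21)) :=
  Lre_d IH (LK LD1_c1 LD2_c1 LD3_c49) (LK LD1_c2 LD2_c9 LD3_c21) Lrfl Lrfl
theorem f80305 : Led Lsl_cf (LP (LK LD1_c1 LD2_c27 LD3_c58)) = (LP (LK LD1_c2 LD2_c9 LD3_c21)) :=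
  Lgr Lrot55 (Lpr_dt (f37185 IH) (Lpr_ct (K1.f37184 IH) (Lpe (K1.f37164 IH) (Lpe (K0.f35347 IH) (Lpe (K1.f59159 IH) (Lpr_ct (f59174 IH) (Lpr_dt (f35868 IH) (Lpe (f59699 IH) (Lpr_dt (f59694 IH) (Lpr_ct (K1.f59693 IH) (Lpr_dt (K1.f59685 IH) (Lpe (K0.f8219 IH) (Lpe (f59157 IH) (Lpr_ct (f80298 IH) (Lpr_dt (f59664 IH) (Lpn (LP (LK LD1_c2 LD2_c9 LD3_c21))))))))))))))))))
theorem f80321 : Led Lsl_gf (LP (LK LD1_c1 LD2_c1 LD3_c61)) = (LP (LK LD1_c1 LD2_c27 LD3_c58)) :=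
  Lgr Lrot104 (Lpe (f38236 IH) (Lpe (K1.f37996 IH) (Lpr_cf (K1.f37987 IH) (Lpe (K1.f37962 IH) (Lpe (K1.f36625 IH) (Lpr_gf (f70214 IH) (Lpe (K1.f35583 IH) (Lpr_gt (f80315 IH) (Lpe (f80305 IH) (Lpn (LP (LK LD1_c1 LD2_c27 LD3_c58))))))))))))
theorem f80340 : Led Lsl_gt (LP (LK LD1_c1 LD2_c2 LD3_c1)) = (LP (LK LD1_c1 LD2_c27 LD3_c58)) :=
  Lgr Lrot5 (Lpe (K1.f35906 IH) (Lpe (K1.f35770 IH) (Lpr_gf (f80321 IH) (Lpn (LP (LK LD1_c1 LD2_c27 LD3_c58))))))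
theorem f35954 : Led Lsl_ct (LP (LK LD1_c4 LD2_c24 LD3_c48)) = (LP (LK LD1_c2 LD2_c9 LD3_c52)) :=
  Lre_c IH (LK LD1_c4 LD2_c24 LD3_c48) (LK LD1_c2 LD2_c9 LD3_c52) Lrfl Lrfl
theorem f37155 : Led Lsl_dt (LP (LK LD1_c0 LD2_c7 LD3_c29)) = (LP (LK LD1_c0 LD2_c3 LD3_c21)) :=
  Lre_d IH (LK LD1_c0 LD2_c7 LD3_c29) (LK LD1_c0 LD2_c3 LD3_c21) Lrfl Lrfl
theorem f26574 : Led Lsl_bt (LP (LK LD1_c0 LD2_c3 LD3_c26)) = (LP (LK LD1_c0 LD2_c7 LD3_c39)) :=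
  Lre_b IH (LK LD1_c0 LD2_c3 LD3_c26) (LK LD1_c0 LD2_c7 LD3_c39) Lrfl Lrfl
theorem f37292 : Led Lsl_dt (LP (LK LD1_c0 LD2_c17 LD3_c11)) = (LP (LK LD1_c0 LD2_c38 LD3_c40)) :=
  Lre_d IH (LK LD1_c0 LD2_c17 LD3_c11) (LK LD1_c0 LD2_c38 LD3_c40) Lrfl Lrfl
theorem f37293 : Led Lsl_ct (LP (LK LD1_c0 LD2_c38 LD3_c40)) = (LP (LK LD1_c1 LD2_c23 LD3_c41)) :=
  Lre_c IH (LK LD1_c0 LD2_c38 LD3_c40) (LK LD1_c1 LD2_c23 LD3_c41) Lrfl Lrfl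
theorem f37294 : Led Lsl_bt (LP (LK LD1_c1 LD2_c23 LD3_c41)) = (LP (LK LD1_c2 LD2_c55 LD3_c30)) :=
  Lre_b IH (LK LD1_c1 LD2_c23 LD3_c41) (LK LD1_c2 LD2_c55 LD3_c30) Lrfl Lrfl
theorem f37295 : Led Lsl_gt (LP (LK LD1_c2 LD2_c55 LD3_c30)) = (LP (LK LD1_c5 LD2_c58 LD3_c16)) :=
  Lre_g IH (LK LD1_c2 LD2_c55 LD3_c30) (LK LD1_c5 LD2_c58 LD3_c16) Lrfl Lrfl
theorem f81589 : Led Lsl_df (LP (LK LD1_c4 LD2_c24 LD3_c48)) = (LP (LK LD1_c5 LD2_c58 LD3_c16)) :=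
  Lgr Lrot183 (Lpr_ct (f35954 IH) (Lpr_bt (f35908 IH) (Lpr_gt (f80340 IH) (Lpr_dt (f37185 IH) (Lpr_ct (K1.f37184 IH) (Lpe (K1.f37159 IH) (Lpr_gt (K1.f37130 IH) (Lpr_dt (f37155 IH) (Lpr_ct (K1.f37284 IH) (Lpr_bt (K1.f16664 IH) (Lpr_gt (K0.f5883 IH) (Lpr_dt (K0.f247 IH) (Lpr_ct (K0.f8326 IH) (Lpr_bt (f26574 IH) (Lpr_gt (f20410 IH) (Lpr_dt (f37292 IH) (Lpr_ct (f37293 IH) (Lpr_bt (f37294 IH) (Lpr_gt (f37295 IH) (Lpn (LP (LK LD1_c5 LD2_c58 LD3_c16))))))))))))))))))))))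
theorem f36025 : Led Lsl_at (LP (LK LD1_c4 LD2_c24 LD3_c44)) = (LP (LK LD1_c2 LD2_c9 LD3_c52)) :=
  Lre_a IH (LK LD1_c4 LD2_c24 LD3_c44) (LK LD1_c2 LD2_c9 LD3_c52) Lrfl Lrfl
theorem f36002 : Led Lsl_ff (LP (LK LD1_c3 LD2_c57 LD3_c43)) = (LP (LK LD1_c2 LD2_c9 LD3_c51)) :=
  Lgr Lrot3 (Lpr_ft (f35987 IH) (Lpn (LP (LK LD1_c2 LD2_c9 LD3_c51))))
theorem f35963 : Led Lsl_dt (LP (LK LD1_c4 LD2_c24 LD3_c44)) = (LP (LK LD1_c2 LD2_c9 LD3_c51)) :=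
  Lre_d IH (LK LD1_c4 LD2_c24 LD3_c44) (LK LD1_c2 LD2_c9 LD3_c51) Lrfl Lrfl
theorem f36015 : Led Lsl_ft (LP (LK LD1_c7 LD2_c56 LD3_c50)) = (LP (LK LD1_c4 LD2_c24 LD3_c44)) :=
  Lgr Lrot54 (Lpe (f35995 IH) (Lpr_ff (f36002 IH) (Lpe (f35963 IH) (Lpn (LP (LK LD1_c4 LD2_c24 LD3_c44))))))
theorem f35998 : Led Lsl_dt (LP (LK LD1_c7 LD2_c56 LD3_c50)) = (LP (LK LD1_c3 LD2_c57 LD3_c43)) :=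
  Lre_d IH (LK LD1_c7 LD2_c56 LD3_c50) (LK LD1_c3 LD2_c57 LD3_c43) Lrfl Lrfl
theorem f72106 : Led Lsl_ct (LP (LK LD1_c3 LD2_c57 LD3_c43)) = (LP (LK LD1_c2 LD2_c53 LD3_c16)) :=
  Lgr Lrot40 (Lpr_ff (f36002 IH) (Lpe (f38505 IH) (Lpr_ff (f72099 IH) (Lpn (LP (LK LD1_c2 LD2_c53 LD3_c16))))))
theorem f72095 : Led Lsl_dt (LP (LK LD1_c2 LD2_c53 LD3_c16)) = (LP (LK LD1_c5 LD2_c53 LD3_c49)) :=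
  Lre_d IH (LK LD1_c2 LD2_c53 LD3_c16) (LK LD1_c5 LD2_c53 LD3_c49) Lrfl Lrfl
theorem f72114 : Led Lsl_ct (LP (LK LD1_c5 LD2_c53 LD3_c49)) = (LP (LK LD1_c11 LD2_c33 LD3_c31)) :=
  Lre_c IH (LK LD1_c5 LD2_c53 LD3_c49) (LK LD1_c11 LD2_c33 LD3_c31) Lrfl Lrfl
theorem f74711 : Led Lsl_ct (LP (LK LD1_c11 LD2_c41 LD3_c11)) = (LP (LK LD1_c5 LD2_c58 LD3_c16)) :=
  Lre_c IH (LK LD1_c11 LD2_c41 LD3_c11) (LK LD1_c5 LD2_c58 LD3_c16) Lrfl Lrfl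
theorem f81598 : Led Lsl_dt (LP (LK LD1_c11 LD2_c33 LD3_c31)) = (LP (LK LD1_c11 LD2_c41 LD3_c11)) :=
  Lgr Lrot140 (Lpe (f72114 IH) (Lpe (f72095 IH) (Lpe (f72106 IH) (Lpe (f35998 IH) (Lpr_ft (f36015 IH) (Lpr_at (f36025 IH) (Lpe (f35954 IH) (Lpr_df (f81589 IH) (Lpe (f74711 IH) (Lpn (LP (LK LD1_c11 LD2_c41 LD3_c11))))))))))))
theorem f81591 : Led Lsl_at (LP (LK LD1_c11 LD2_c41 LD3_c10)) = (LP (LK LD1_c5 LD2_c58 LD3_c16)) :=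
  Lre_a IH (LK LD1_c11 LD2_c41 LD3_c10) (LK LD1_c5 LD2_c58 LD3_c16) Lrfl Lrfl
theorem f81609 : Led Lsl_ft (LP (LK LD1_c5 LD2_c58 LD3_c17)) = (LP (LK LD1_c11 LD2_c41 LD3_c10)) :=
  Lre_f IH (LK LD1_c5 LD2_c58 LD3_c17) (LK LD1_c11 LD2_c41 LD3_c10) Lrfl Lrfl
theorem f81610 : Led Lsl_dt (LP (LK LD1_c5 LD2_c58 LD3_c17)) = (LP (LK LD1_c11 LD2_c41 LD3_c14)) :=
  Lre_d IH (LK LD1_c5 LD2_c58 LD3_c17) (LK LD1_c11 LD2_c41 LD3_c14) Lrfl Lrfl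
theorem f81611 : Led Lsl_cf (LP (LK LD1_c7 LD2_c56 LD3_c50)) = (LP (LK LD1_c11 LD2_c41 LD3_c14)) :=
  Lgr Lrot118 (Lpr_dt (f35998 IH) (Lpr_ct (f72106 IH) (Lpr_dt (f72095 IH) (Lpr_ct (f72114 IH) (Lpr_dt (f81598 IH) (Lpr_ct (f74711 IH) (Lpe (f81591 IH) (Lpe (f81609 IH) (Lpr_dt (f81610 IH) (Lpn (LP (LK LD1_c11 LD2_c41 LD3_c14))))))))))))
theorem f35960 : Led Lsl_ct (LP (LK LD1_c4 LD2_c24 LD3_c44)) = (LP (LK LD1_c8 LD2_c46 LD3_c57)) :=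
  Lre_c IH (LK LD1_c4 LD2_c24 LD3_c44) (LK LD1_c8 LD2_c46 LD3_c57) Lrfl Lrfl
theorem f81625 : Led Lsl_ft (LP (LK LD1_c8 LD2_c46 LD3_c57)) = (LP (LK LD1_c11 LD2_c41 LD3_c14)) :=
  Lgr Lrot4 (Lpe (f35960 IH) (Lpe (f36015 IH) (Lpr_cf (f81611 IH) (Lpn (LP (LK LD1_c11 LD2_c41 LD3_c14))))))
theorem f35964 : Led Lsl_bt (LP (LK LD1_c16 LD2_c25 LD3_c57)) = (LP (LK LD1_c8 LD2_c46 LD3_c57)) :=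
  Lre_b IH (LK LD1_c16 LD2_c25 LD3_c57) (LK LD1_c8 LD2_c46 LD3_c57) Lrfl Lrfl
theorem f81630 : Led Lsl_bt (LP (LK LD1_c11 LD2_c41 LD3_c14)) = (LP (LK LD1_c20 LD2_c41 LD3_c1)) :=
  Lre_b IH (LK LD1_c11 LD2_c41 LD3_c14) (LK LD1_c20 LD2_c41 LD3_c1) Lrfl Lrfl
theorem f81633 : Led Lsl_ff (LP (LK LD1_c16 LD2_c25 LD3_c57)) = (LP (LK LD1_c20 LD2_c41 LD3_c1)) :=
  Lgr Lrot25 (Lpr_bt (f35964 IH) (Lpr_ft (f81625 IH) (Lpr_bt (f81630 IH) (Lpn (LP (LK LD1_c20 LD2_c41 LD3_c1))))))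
theorem f36148 : Led Lsl_bt (LP (LK LD1_c8 LD2_c46 LD3_c42)) = (LP (LK LD1_c16 LD2_c25 LD3_c22)) :=
  Lre_b IH (LK LD1_c8 LD2_c46 LD3_c42) (LK LD1_c16 LD2_c25 LD3_c22) Lrfl Lrfl
theorem f81615 : Led Lsl_bt (LP (LK LD1_c20 LD2_c41 LD3_c1)) = (LP (LK LD1_c11 LD2_c41 LD3_c14)) :=
  Lre_b IH (LK LD1_c20 LD2_c41 LD3_c1) (LK LD1_c11 LD2_c41 LD3_c14) Lrfl Lrfl
theorem f81616 : Led Lsl_ct (LP (LK LD1_c16 LD2_c25 LD3_c22)) = (LP (LK LD1_c20 LD2_c41 LD3_c1)) :=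
  Lgr Lrot83 (Lpe (f36148 IH) (Lpe (f35293 IH) (Lpr_bf (K1.f36140 IH) (Lpr_cf (f81611 IH) (Lpe (f81615 IH) (Lpn (LP (LK LD1_c20 LD2_c41 LD3_c1))))))))
theorem f71880 : Led Lsl_bt (LP (LK LD1_c5 LD2_c55 LD3_c47)) = (LP (LK LD1_c11 LD2_c36 LD3_c44)) :=
  Lre_b IH (LK LD1_c5 LD2_c55 LD3_c47) (LK LD1_c11 LD2_c36 LD3_c44) Lrfl Lrfl
theorem f36155 : Led Lsl_bt (LP (LK LD1_c16 LD2_c25 LD3_c22)) = (LP (LK LD1_c8 LD2_c46 LD3_c42)) :=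
  Lre_b IH (LK LD1_c16 LD2_c25 LD3_c22) (LK LD1_c8 LD2_c46 LD3_c42) Lrfl Lrfl
theorem f71881 : Led Lsl_ft (LP (LK LD1_c11 LD2_c36 LD3_c44)) = (LP (LK LD1_c16 LD2_c25 LD3_c22)) :=
  Lgr Lrot75 (Lpe (f71880 IH) (Lpr_ff (f71874 IH) (Lpe (f36155 IH) (Lpn (LP (LK LD1_c16 LD2_c25 LD3_c22))))))
theorem f81673 : Led Lsl_ct (LP (LK LD1_c16 LD2_c25 LD3_c57)) = (LP (LK LD1_c11 LD2_c36 LD3_c44)) :=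
  Lgr Lrot40 (Lpr_ff (f81633 IH) (Lpe (f81616 IH) (Lpe (f71881 IH) (Lpn (LP (LK LD1_c11 LD2_c36 LD3_c44))))))
theorem f81679 : Led Lsl_cf (LP (LK LD1_c16 LD2_c25 LD3_c57)) = (LP (LK LD1_c11 LD2_c36 LD3_c44)) :=
  Lgr Lrot11 (Lpr_ct (f81673 IH) (Lpn (LP (LK LD1_c11 LD2_c36 LD3_c44))))
theorem f35962 : Led Lsl_ct (LP (LK LD1_c8 LD2_c46 LD3_c57)) = (LP (LK LD1_c4 LD2_c24 LD3_c44)) :=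
  Lre_c IH (LK LD1_c8 LD2_c46 LD3_c57) (LK LD1_c4 LD2_c24 LD3_c44) Lrfl Lrfl
theorem f81681 : Led Lsl_bt (LP (LK LD1_c4 LD2_c24 LD3_c44)) = (LP (LK LD1_c2 LD2_c54 LD3_c15)) :=
  Lgr Lrot128 (Lpe (f35962 IH) (Lpe (f35964 IH) (Lpr_cf (f81679 IH) (Lpe (f71880 IH) (Lpe (f71898 IH) (Lpn (LP (LK LD1_c2 LD2_c54 LD3_c15))))))))
theorem f36035 : Led Lsl_et (LP (LK LD1_c8 LD2_c46 LD3_c58)) = (LP (LK LD1_c4 LD2_c24 LD3_c44)) :=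
  Lre_e IH (LK LD1_c8 LD2_c46 LD3_c58) (LK LD1_c4 LD2_c24 LD3_c44) Lrfl Lrfl
theorem f71941 : Led Lsl_et (LP (LK LD1_c2 LD2_c54 LD3_c15)) = (LP (LK LD1_c5 LD2_c55 LD3_c48)) :=
  Lre_e IH (LK LD1_c2 LD2_c54 LD3_c15) (LK LD1_c5 LD2_c55 LD3_c48) Lrfl Lrfl
theorem f81690 : Led Lsl_bf (LP (LK LD1_c8 LD2_c46 LD3_c58)) = (LP (LK LD1_c5 LD2_c55 LD3_c48)) :=
  Lgr Lrot96 (Lpr_et (f36035 IH) (Lpr_bt (f81681 IH) (Lpr_et (f71941 IH) (Lpn (LP (LK LD1_c5 LD2_c55 LD3_c48))))))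
theorem f36027 : Led Lsl_ft (LP (LK LD1_c8 LD2_c46 LD3_c58)) = (LP (LK LD1_c16 LD2_c25 LD3_c61)) :=
  Lre_f IH (LK LD1_c8 LD2_c46 LD3_c58) (LK LD1_c16 LD2_c25 LD3_c61) Lrfl Lrfl
theorem f81704 : Led Lsl_ft (LP (LK LD1_c11 LD2_c36 LD3_c49)) = (LP (LK LD1_c5 LD2_c55 LD3_c48)) :=
  Lre_f IH (LK LD1_c11 LD2_c36 LD3_c49) (LK LD1_c5 LD2_c55 LD3_c48) Lrfl Lrfl
theorem f81705 : Led Lsl_bt (LP (LK LD1_c16 LD2_c25 LD3_c61)) = (LP (LK LD1_c11 LD2_c36 LD3_c49)) :=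
  Lgr Lrot35 (Lpe (f36027 IH) (Lpr_bf (f81690 IH) (Lpe (f81704 IH) (Lpn (LP (LK LD1_c11 LD2_c36 LD3_c49))))))
theorem f81709 : Led Lsl_bf (LP (LK LD1_c16 LD2_c25 LD3_c61)) = (LP (LK LD1_c11 LD2_c36 LD3_c49)) :=
  Lgr Lrot24 (Lpr_bt (f81705 IH) (Lpn (LP (LK LD1_c11 LD2_c36 LD3_c49))))
theorem f35920 : Led Lsl_at (LP (LK LD1_c16 LD2_c25 LD3_c61)) = (LP (LK LD1_c8 LD2_c47 LD3_c9)) :=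
  Lre_a IH (LK LD1_c16 LD2_c25 LD3_c61) (LK LD1_c8 LD2_c47 LD3_c9) Lrfl Lrfl
theorem f35934 : Led Lsl_bt (LP (LK LD1_c8 LD2_c47 LD3_c9)) = (LP (LK LD1_c4 LD2_c24 LD3_c57)) :=
  Lre_b IH (LK LD1_c8 LD2_c47 LD3_c9) (LK LD1_c4 LD2_c24 LD3_c57) Lrfl Lrfl
theorem f36082 : Led Lsl_at (LP (LK LD1_c4 LD2_c24 LD3_c40)) = (LP (LK LD1_c7 LD2_c56 LD3_c55)) :=
  Lgr Lrot51 (Lpr_df (K1.f34798 IH) (Lpe (K0.f31932 IH) (Lpr_df (K1.f36079 IH) (Lpn (LP (LK LD1_c7 LD2_c56 LD3_c55))))))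
theorem f35602 : Led Lsl_et (LP (LK LD1_c1 LD2_c55 LD3_c38)) = (LP (LK LD1_c3 LD2_c57 LD3_c45)) :=
  Lre_e IH (LK LD1_c1 LD2_c55 LD3_c38) (LK LD1_c3 LD2_c57 LD3_c45) Lrfl Lrfl
theorem f35747 : Led Lsl_ft (LP (LK LD1_c3 LD2_c57 LD3_c45)) = (LP (LK LD1_c7 LD2_c56 LD3_c55)) :=
  Lre_f IH (LK LD1_c3 LD2_c57 LD3_c45) (LK LD1_c7 LD2_c56 LD3_c55) Lrfl Lrfl
theorem f35911 : Led Lsl_et (LP (LK LD1_c2 LD2_c9 LD3_c54)) = (LP (LK LD1_c1 LD2_c2 LD3_c1)) :=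
  Lre_e IH (LK LD1_c2 LD2_c9 LD3_c54) (LK LD1_c1 LD2_c2 LD3_c1) Lrfl Lrfl
theorem f35912 : Led Lsl_ft (LP (LK LD1_c4 LD2_c24 LD3_c57)) = (LP (LK LD1_c2 LD2_c9 LD3_c54)) :=
  Lre_f IH (LK LD1_c4 LD2_c24 LD3_c57) (LK LD1_c2 LD2_c9 LD3_c54) Lrfl Lrfl
theorem f35913 : Led Lsl_et (LP (LK LD1_c7 LD2_c56 LD3_c55)) = (LP (LK LD1_c4 LD2_c24 LD3_c57)) :=
  Lgr Lrot69 (Lpe (f35747 IH) (Lpe (f35602 IH) (Lpr_ff (K1.f35906 IH) (Lpe (f35911 IH) (Lpe (f35912 IH) (Lpn (LP (LK LD1_c4 LD2_c24 LD3_c57))))))))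
theorem f37475 : Led Lsl_at (LP (LK LD1_c4 LD2_c24 LD3_c57)) = (LP (LK LD1_c4 LD2_c58 LD3_c3)) :=
  Lgr Lrot80 (Lpe (f35913 IH) (Lpe (f36082 IH) (Lpr_ef (K1.f37473 IH) (Lpn (LP (LK LD1_c4 LD2_c58 LD3_c3))))))
theorem f81722 : Led Lsl_at (LP (LK LD1_c5 LD2_c56 LD3_c20)) = (LP (LK LD1_c11 LD2_c36 LD3_c49)) :=
  Lre_a IH (LK LD1_c5 LD2_c56 LD3_c20) (LK LD1_c11 LD2_c36 LD3_c49) Lrfl Lrfl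
theorem f81723 : Led Lsl_bt (LP (LK LD1_c4 LD2_c58 LD3_c3)) = (LP (LK LD1_c5 LD2_c56 LD3_c20)) :=
  Lgr Lrot62 (Lpe (f37475 IH) (Lpe (f35934 IH) (Lpe (f35920 IH) (Lpr_bf (f81709 IH) (Lpe (f81722 IH) (Lpn (LP (LK LD1_c5 LD2_c56 LD3_c20))))))))
theorem f81744 : Led Lsl_ft (LP (LK LD1_c5 LD2_c56 LD3_c20)) = (LP (LK LD1_c2 LD2_c54 LD3_c29)) :=
  Lre_f IH (LK LD1_c5 LD2_c56 LD3_c20) (LK LD1_c2 LD2_c54 LD3_c29) Lrfl Lrfl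
theorem f81745 : Led Lsl_bf (LP (LK LD1_c2 LD2_c26 LD3_c51)) = (LP (LK LD1_c2 LD2_c54 LD3_c29)) :=
  Lgr Lrot61 (Lpr_ft (K1.f37472 IH) (Lpr_bt (f81723 IH) (Lpr_ft (f81744 IH) (Lpn (LP (LK LD1_c2 LD2_c54 LD3_c29))))))
theorem f37466 : Led Lsl_et (LP (LK LD1_c2 LD2_c26 LD3_c51)) = (LP (LK LD1_c1 LD2_c10 LD3_c42)) :=
  Lre_e IH (LK LD1_c2 LD2_c26 LD3_c51) (LK LD1_c1 LD2_c10 LD3_c42) Lrfl Lrfl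
theorem f81764 : Led Lsl_et (LP (LK LD1_c1 LD2_c23 LD3_c12)) = (LP (LK LD1_c2 LD2_c54 LD3_c29)) :=
  Lre_e IH (LK LD1_c1 LD2_c23 LD3_c12) (LK LD1_c2 LD2_c54 LD3_c29) Lrfl Lrfl
theorem f81765 : Led Lsl_bt (LP (LK LD1_c1 LD2_c10 LD3_c42)) = (LP (LK LD1_c1 LD2_c23 LD3_c12)) :=
  Lgr Lrot119 (Lpe (f37466 IH) (Lpr_bf (f81745 IH) (Lpe (f81764 IH) (Lpn (LP (LK LD1_c1 LD2_c23 LD3_c12))))))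
theorem f81780 : Led Lsl_ff (LP (LK LD1_c2 LD2_c9 LD3_c47)) = (LP (LK LD1_c1 LD2_c23 LD3_c12)) :=
  Lgr Lrot25 (Lpr_bt (K1.f36143 IH) (Lpr_ft (K1.f37470 IH) (Lpr_bt (f81765 IH) (Lpn (LP (LK LD1_c1 LD2_c23 LD3_c12))))))
theorem f81793 : Led Lsl_ft (LP (LK LD1_c2 LD2_c9 LD3_c47)) = (LP (LK LD1_c1 LD2_c23 LD3_c12)) :=
  Lgr Lrot48 (Lpr_ff (f81780 IH) (Lpn (LP (LK LD1_c1 LD2_c23 LD3_c12))))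
theorem f69452 : Led Lsl_dt (LP (LK LD1_c1 LD2_c23 LD3_c12)) = (LP (LK LD1_c0 LD2_c38 LD3_c30)) :=
  Lre_d IH (LK LD1_c1 LD2_c23 LD3_c12) (LK LD1_c0 LD2_c38 LD3_c30) Lrfl Lrfl
theorem f81806 : Led Lsl_ff (LP (LK LD1_c1 LD2_c1 LD3_c60)) = (LP (LK LD1_c0 LD2_c38 LD3_c30)) :=
  Lgr Lrot19 (Lpr_dt (f34845 IH) (Lpr_ft (f81793 IH) (Lpr_dt (f69452 IH) (Lpn (LP (LK LD1_c0 LD2_c38 LD3_c30))))))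
theorem f81813 : Led Lsl_et (LP (LK LD1_c1 LD2_c23 LD3_c13)) = (LP (LK LD1_c0 LD2_c38 LD3_c30)) :=
  Lre_e IH (LK LD1_c1 LD2_c23 LD3_c13) (LK LD1_c0 LD2_c38 LD3_c30) Lrfl Lrfl
theorem f81814 : Led Lsl_ft (LP (LK LD1_c2 LD2_c54 LD3_c33)) = (LP (LK LD1_c1 LD2_c23 LD3_c13)) :=
  Lre_f IH (LK LD1_c2 LD2_c54 LD3_c33) (LK LD1_c1 LD2_c23 LD3_c13) Lrfl Lrfl
theorem f81815 : Led Lsl_et (LP (LK LD1_c4 LD2_c20 LD3_c14)) = (LP (LK LD1_c2 LD2_c54 LD3_c33)) :=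
  Lgr Lrot69 (Lpe (f34894 IH) (Lpe (f34782 IH) (Lpr_ff (f81806 IH) (Lpe (f81813 IH) (Lpe (f81814 IH) (Lpn (LP (LK LD1_c2 LD2_c54 LD3_c33))))))))
theorem f82065 : Led Lsl_ef (LP (LK LD1_c4 LD2_c20 LD3_c14)) = (LP (LK LD1_c2 LD2_c54 LD3_c33)) :=
  Lgr Lrot88 (Lpr_et (f81815 IH) (Lpn (LP (LK LD1_c2 LD2_c54 LD3_c33))))
theorem f34946 : Led Lsl_dt (LP (LK LD1_c4 LD2_c20 LD3_c14)) = (LP (LK LD1_c8 LD2_c38 LD3_c22)) :=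
  Lre_d IH (LK LD1_c4 LD2_c20 LD3_c14) (LK LD1_c8 LD2_c38 LD3_c22) Lrfl Lrfl
theorem f82074 : Led Lsl_et (LP (LK LD1_c8 LD2_c38 LD3_c22)) = (LP (LK LD1_c16 LD2_c10 LD3_c46)) :=
  Lre_e IH (LK LD1_c8 LD2_c38 LD3_c22) (LK LD1_c16 LD2_c10 LD3_c46) Lrfl Lrfl
theorem f82075 : Led Lsl_dt (LP (LK LD1_c5 LD2_c56 LD3_c28)) = (LP (LK LD1_c2 LD2_c54 LD3_c33)) :=
  Lre_d IH (LK LD1_c5 LD2_c56 LD3_c28) (LK LD1_c2 LD2_c54 LD3_c33) Lrfl Lrfl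
theorem f82076 : Led Lsl_et (LP (LK LD1_c11 LD2_c38 LD3_c18)) = (LP (LK LD1_c5 LD2_c56 LD3_c28)) :=
  Lre_e IH (LK LD1_c11 LD2_c38 LD3_c18) (LK LD1_c5 LD2_c56 LD3_c28) Lrfl Lrfl
theorem f82077 : Led Lsl_dt (LP (LK LD1_c16 LD2_c10 LD3_c46)) = (LP (LK LD1_c11 LD2_c38 LD3_c18)) :=
  Lgr Lrot77 (Lpe (f82074 IH) (Lpe (f34946 IH) (Lpr_ef (f82065 IH) (Lpe (f82075 IH) (Lpe (f82076 IH) (Lpn (LP (LK LD1_c11 LD2_c38 LD3_c18))))))))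
theorem f82086 : Led Lsl_ft (LP (LK LD1_c26 LD2_c7 LD3_c36)) = (LP (LK LD1_c16 LD2_c10 LD3_c46)) :=
  Lre_f IH (LK LD1_c26 LD2_c7 LD3_c36) (LK LD1_c16 LD2_c10 LD3_c46) Lrfl Lrfl
theorem f82087 : Led Lsl_ft (LP (LK LD1_c11 LD2_c38 LD3_c18)) = (LP (LK LD1_c20 LD2_c36 LD3_c45)) :=
  Lre_f IH (LK LD1_c11 LD2_c38 LD3_c18) (LK LD1_c20 LD2_c36 LD3_c45) Lrfl Lrfl
theorem f82088 : Led Lsl_df (LP (LK LD1_c26 LD2_c7 LD3_c36)) = (LP (LK LD1_c20 LD2_c36 LD3_c45)) :=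
  Lgr Lrot78 (Lpr_ft (f82086 IH) (Lpr_dt (f82077 IH) (Lpr_ft (f82087 IH) (Lpn (LP (LK LD1_c20 LD2_c36 LD3_c45))))))
theorem f82102 : Led Lsl_dt (LP (LK LD1_c26 LD2_c7 LD3_c36)) = (LP (LK LD1_c20 LD2_c36 LD3_c45)) :=
  Lgr Lrot42 (Lpr_df (f82088 IH) (Lpn (LP (LK LD1_c20 LD2_c36 LD3_c45))))
theorem f82108 : Led Lsl_bt (LP (LK LD1_c16 LD2_c11 LD3_c2)) = (LP (LK LD1_c26 LD2_c7 LD3_c36)) :=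
  Lre_b IH (LK LD1_c16 LD2_c11 LD3_c2) (LK LD1_c26 LD2_c7 LD3_c36) Lrfl Lrfl
theorem f37484 : Led Lsl_df (LP (LK LD1_c16 LD2_c11 LD3_c2)) = (LP (LK LD1_c17 LD2_c57 LD3_c14)) :=
  Lgr Lrot38 (Lpr_dt (K1.f37479 IH) (Lpn (LP (LK LD1_c17 LD2_c57 LD3_c14))))
theorem f82109 : Led Lsl_bf (LP (LK LD1_c17 LD2_c57 LD3_c14)) = (LP (LK LD1_c20 LD2_c36 LD3_c45)) :=
  Lgr Lrot93 (Lpe (f37484 IH) (Lpr_bt (f82108 IH) (Lpr_dt (f82102 IH) (Lpn (LP (LK LD1_c20 LD2_c36 LD3_c45))))))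
theorem f82114 : Led Lsl_bt (LP (LK LD1_c9 LD2_c47 LD3_c15)) = (LP (LK LD1_c11 LD2_c38 LD3_c18)) :=
  Lgr Lrot35 (Lpe (K1.f37486 IH) (Lpr_bf (f82109 IH) (Lpe (f82087 IH) (Lpn (LP (LK LD1_c11 LD2_c38 LD3_c18))))))
theorem f82117 : Led Lsl_bf (LP (LK LD1_c4 LD2_c58 LD3_c10)) = (LP (LK LD1_c5 LD2_c56 LD3_c28)) :=
  Lgr Lrot96 (Lpr_et (K1.f37494 IH) (Lpr_bt (f82114 IH) (Lpr_et (f82076 IH) (Lpn (LP (LK LD1_c5 LD2_c56 LD3_c28))))))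
theorem f82128 : Led Lsl_ft (LP (LK LD1_c2 LD2_c54 LD3_c32)) = (LP (LK LD1_c5 LD2_c56 LD3_c28)) :=
  Lre_f IH (LK LD1_c2 LD2_c54 LD3_c32) (LK LD1_c5 LD2_c56 LD3_c28) Lrfl Lrfl
theorem f82129 : Led Lsl_bt (LP (LK LD1_c2 LD2_c26 LD3_c54)) = (LP (LK LD1_c2 LD2_c54 LD3_c32)) :=
  Lgr Lrot35 (Lpe (K1.f37539 IH) (Lpr_bf (f82117 IH) (Lpe (f82128 IH) (Lpn (LP (LK LD1_c2 LD2_c54 LD3_c32))))))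
theorem f37335 : Led Lsl_dt (LP (LK LD1_c1 LD2_c10 LD3_c43)) = (LP (LK LD1_c2 LD2_c26 LD3_c54)) :=
  Lre_d IH (LK LD1_c1 LD2_c10 LD3_c43) (LK LD1_c2 LD2_c26 LD3_c54) Lrfl Lrfl
theorem f82145 : Led Lsl_dt (LP (LK LD1_c2 LD2_c54 LD3_c32)) = (LP (LK LD1_c1 LD2_c23 LD3_c13)) :=
  Lre_d IH (LK LD1_c2 LD2_c54 LD3_c32) (LK LD1_c1 LD2_c23 LD3_c13) Lrfl Lrfl
theorem f82146 : Led Lsl_bf (LP (LK LD1_c1 LD2_c10 LD3_c43)) = (LP (LK LD1_c1 LD2_c23 LD3_c13)) :=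
  Lgr Lrot93 (Lpr_dt (f37335 IH) (Lpr_bt (f82129 IH) (Lpr_dt (f82145 IH) (Lpn (LP (LK LD1_c1 LD2_c23 LD3_c13))))))
theorem f24488 : Led Lsl_ct (LP (LK LD1_c0 LD2_c38 LD3_c32)) = (LP (LK LD1_c1 LD2_c23 LD3_c13)) :=
  Lre_c IH (LK LD1_c0 LD2_c38 LD3_c32) (LK LD1_c1 LD2_c23 LD3_c13) Lrfl Lrfl
theorem f71445 : Led Lsl_bt (LP (LK LD1_c0 LD2_c17 LD3_c10)) = (LP (LK LD1_c0 LD2_c38 LD3_c32)) :=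
  Lre_b IH (LK LD1_c0 LD2_c17 LD3_c10) (LK LD1_c0 LD2_c38 LD3_c32) Lrfl Lrfl
theorem f82174 : Led Lsl_ct (LP (LK LD1_c0 LD2_c14 LD3_c45)) = (LP (LK LD1_c0 LD2_c17 LD3_c10)) :=
  Lgr Lrot83 (Lpe (K1.f37698 IH) (Lpe (K1.f37683 IH) (Lpr_bf (f82146 IH) (Lpe (f24488 IH) (Lpe (f71445 IH) (Lpn (LP (LK LD1_c0 LD2_c17 LD3_c10))))))))
theorem f71451 : Led Lsl_ft (LP (LK LD1_c0 LD2_c17 LD3_c10)) = (LP (LK LD1_c0 LD2_c38 LD3_c35)) :=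
  Lre_f IH (LK LD1_c0 LD2_c17 LD3_c10) (LK LD1_c0 LD2_c38 LD3_c35) Lrfl Lrfl
theorem f82186 : Led Lsl_cf (LP (LK LD1_c0 LD2_c32 LD3_c50)) = (LP (LK LD1_c0 LD2_c38 LD3_c35)) :=
  Lgr Lrot108 (Lpr_ft (K1.f37707 IH) (Lpr_ct (f82174 IH) (Lpr_ft (f71451 IH) (Lpn (LP (LK LD1_c0 LD2_c38 LD3_c35))))))
theorem f37522 : Led Lsl_bt (LP (LK LD1_c1 LD2_c10 LD3_c45)) = (LP (LK LD1_c0 LD2_c32 LD3_c50)) :=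
  Lre_b IH (LK LD1_c1 LD2_c10 LD3_c45) (LK LD1_c0 LD2_c32 LD3_c50) Lrfl Lrfl
theorem f37523 : Led Lsl_ef (LP (LK LD1_c0 LD2_c32 LD3_c13)) = (LP (LK LD1_c0 LD2_c32 LD3_c50)) :=
  Lgr Lrot29 (Lpr_bt (f32013 IH) (Lpr_et (K1.f37515 IH) (Lpr_bt (f37522 IH) (Lpn (LP (LK LD1_c0 LD2_c32 LD3_c50))))))
theorem f34992 : Led Lsl_cf (LP (LK LD1_c1 LD2_c4 LD3_c39)) = (LP (LK LD1_c0 LD2_c32 LD3_c13)) :=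
  Lgr Lrot11 (Lpr_ct (f34920 IH) (Lpn (LP (LK LD1_c0 LD2_c32 LD3_c13))))
theorem f82194 : Led Lsl_et (LP (LK LD1_c1 LD2_c4 LD3_c39)) = (LP (LK LD1_c0 LD2_c38 LD3_c35)) :=
  Lgr Lrot158 (Lpr_cf (f34992 IH) (Lpr_ef (f37523 IH) (Lpr_cf (f82186 IH) (Lpn (LP (LK LD1_c0 LD2_c38 LD3_c35))))))
theorem f71429 : Led Lsl_dt (LP (LK LD1_c0 LD2_c38 LD3_c35)) = (LP (LK LD1_c1 LD2_c23 LD3_c26)) :=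
  Lre_d IH (LK LD1_c0 LD2_c38 LD3_c35) (LK LD1_c1 LD2_c23 LD3_c26) Lrfl Lrfl
theorem f82197 : Led Lsl_df (LP (LK LD1_c4 LD2_c35 LD3_c47)) = (LP (LK LD1_c2 LD2_c55 LD3_c0)) :=
  Lgr Lrot70 (Lpr_et (f35171 IH) (Lpr_dt (f34994 IH) (Lpr_et (f82194 IH) (Lpr_dt (f71429 IH) (Lpr_et (f71401 IH) (Lpn (LP (LK LD1_c2 LD2_c55 LD3_c0))))))))
theorem f35172 : Led Lsl_ft (LP (LK LD1_c4 LD2_c35 LD3_c47)) = (LP (LK LD1_c9 LD2_c7 LD3_c55)) :=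
  Lre_f IH (LK LD1_c4 LD2_c35 LD3_c47) (LK LD1_c9 LD2_c7 LD3_c55) Lrfl Lrfl
theorem f82203 : Led Lsl_dt (LP (LK LD1_c9 LD2_c7 LD3_c55)) = (LP (LK LD1_c5 LD2_c57 LD3_c25)) :=
  Lgr Lrot60 (Lpe (f35172 IH) (Lpr_df (f82197 IH) (Lpe (f71390 IH) (Lpn (LP (LK LD1_c5 LD2_c57 LD3_c25))))))
theorem f82215 : Led Lsl_et (LP (LK LD1_c4 LD2_c35 LD3_c45)) = (LP (LK LD1_c9 LD2_c7 LD3_c55)) :=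
  Lre_e IH (LK LD1_c4 LD2_c35 LD3_c45) (LK LD1_c9 LD2_c7 LD3_c55) Lrfl Lrfl
theorem f82216 : Led Lsl_dt (LP (LK LD1_c2 LD2_c15 LD3_c2)) = (LP (LK LD1_c4 LD2_c35 LD3_c45)) :=
  Lre_d IH (LK LD1_c2 LD2_c15 LD3_c2) (LK LD1_c4 LD2_c35 LD3_c45) Lrfl Lrfl
theorem f71345 : Led Lsl_dt (LP (LK LD1_c2 LD2_c54 LD3_c60)) = (LP (LK LD1_c1 LD2_c23 LD3_c24)) :=
  Lre_d IH (LK LD1_c2 LD2_c54 LD3_c60) (LK LD1_c1 LD2_c23 LD3_c24) Lrfl Lrfl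
theorem f82217 : Led Lsl_ef (LP (LK LD1_c2 LD2_c15 LD3_c2)) = (LP (LK LD1_c1 LD2_c23 LD3_c24)) :=
  Lgr Lrot73 (Lpr_dt (f82216 IH) (Lpr_et (f82215 IH) (Lpr_dt (f82203 IH) (Lpr_et (f71375 IH) (Lpr_dt (f71345 IH) (Lpn (LP (LK LD1_c1 LD2_c23 LD3_c24))))))))
theorem f82225 : Led Lsl_ft (LP (LK LD1_c2 LD2_c15 LD3_c2)) = (LP (LK LD1_c1 LD2_c4 LD3_c37)) :=
  Lre_f IH (LK LD1_c2 LD2_c15 LD3_c2) (LK LD1_c1 LD2_c4 LD3_c37) Lrfl Lrfl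
theorem f27164 : Led Lsl_et (LP (LK LD1_c1 LD2_c4 LD3_c37)) = (LP (LK LD1_c0 LD2_c29 LD3_c34)) :=
  Lre_e IH (LK LD1_c1 LD2_c4 LD3_c37) (LK LD1_c0 LD2_c29 LD3_c34) Lrfl Lrfl
theorem f82226 : Led Lsl_ft (LP (LK LD1_c0 LD2_c38 LD3_c33)) = (LP (LK LD1_c1 LD2_c23 LD3_c24)) :=
  Lre_f IH (LK LD1_c0 LD2_c38 LD3_c33) (LK LD1_c1 LD2_c23 LD3_c24) Lrfl Lrfl
theorem f82227 : Led Lsl_ft (LP (LK LD1_c0 LD2_c29 LD3_c34)) = (LP (LK LD1_c0 LD2_c17 LD3_c9)) :=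
  Lgr Lrot86 (Lpe (f27164 IH) (Lpe (f82225 IH) (Lpr_ef (f82217 IH) (Lpe (f82226 IH) (Lpe (f71325 IH) (Lpn (LP (LK LD1_c0 LD2_c17 LD3_c9))))))))
theorem f82233 : Led Lsl_ff (LP (LK LD1_c0 LD2_c29 LD3_c34)) = (LP (LK LD1_c0 LD2_c17 LD3_c9)) :=
  Lgr Lrot3 (Lpr_ft (f82227 IH) (Lpn (LP (LK LD1_c0 LD2_c17 LD3_c9))))
theorem f82237 : Led Lsl_ft (LP (LK LD1_c0 LD2_c13 LD3_c40)) = (LP (LK LD1_c0 LD2_c8 LD3_c36)) :=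
  Lgr Lrot4 (Lpe (K0.f27155 IH) (Lpr_ff (f82233 IH) (Lpr_cf (K1.f59511 IH) (Lpn (LP (LK LD1_c0 LD2_c8 LD3_c36))))))
theorem f22749 : Led Lsl_dt (LP (LK LD1_c0 LD2_c6 LD3_c14)) = (LP (LK LD1_c0 LD2_c13 LD3_c40)) :=
  Lre_d IH (LK LD1_c0 LD2_c6 LD3_c14) (LK LD1_c0 LD2_c13 LD3_c40) Lrfl Lrfl
theorem f82246 : Led Lsl_ff (LP (LK LD1_c0 LD2_c6 LD3_c14)) = (LP (LK LD1_c0 LD2_c3 LD3_c55)) :=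
  Lgr Lrot19 (Lpr_dt (f22749 IH) (Lpr_ft (f82237 IH) (Lpr_dt (K1.f13556 IH) (Lpn (LP (LK LD1_c0 LD2_c3 LD3_c55))))))
theorem f82255 : Led Lsl_at (LP (LK LD1_c0 LD2_c6 LD3_c14)) = (LP (LK LD1_c0 LD2_c3 LD3_c56)) :=
  Lgr Lrot26 (Lpr_ff (f82246 IH) (Lpr_gt (K0.f13449 IH) (Lpr_gt (K0.f23346 IH) (Lpn (LP (LK LD1_c0 LD2_c3 LD3_c56))))))
theorem f26014 : Led Lsl_et (LP (LK LD1_c0 LD2_c13 LD3_c41)) = (LP (LK LD1_c0 LD2_c6 LD3_c14)) :=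
  Lre_e IH (LK LD1_c0 LD2_c13 LD3_c41) (LK LD1_c0 LD2_c6 LD3_c14) Lrfl Lrfl
theorem f59470 : Led Lsl_et (LP (LK LD1_c0 LD2_c3 LD3_c56)) = (LP (LK LD1_c0 LD2_c8 LD3_c39)) :=
  Lre_e IH (LK LD1_c0 LD2_c3 LD3_c56) (LK LD1_c0 LD2_c8 LD3_c39) Lrfl Lrfl
theorem f82263 : Led Lsl_af (LP (LK LD1_c0 LD2_c13 LD3_c41)) = (LP (LK LD1_c0 LD2_c8 LD3_c39)) :=
  Lgr Lrot50 (Lpr_et (f26014 IH) (Lpr_at (f82255 IH) (Lpr_et (f59470 IH) (Lpn (LP (LK LD1_c0 LD2_c8 LD3_c39))))))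
theorem f23395 : Led Lsl_ct (LP (LK LD1_c0 LD2_c13 LD3_c41)) = (LP (LK LD1_c0 LD2_c6 LD3_c15)) :=
  Lre_c IH (LK LD1_c0 LD2_c13 LD3_c41) (LK LD1_c0 LD2_c6 LD3_c15) Lrfl Lrfl
theorem f23397 : Led Lsl_ct (LP (LK LD1_c0 LD2_c3 LD3_c57)) = (LP (LK LD1_c0 LD2_c8 LD3_c39)) :=
  Lre_c IH (LK LD1_c0 LD2_c3 LD3_c57) (LK LD1_c0 LD2_c8 LD3_c39) Lrfl Lrfl
theorem f82267 : Led Lsl_at (LP (LK LD1_c0 LD2_c6 LD3_c15)) = (LP (LK LD1_c0 LD2_c3 LD3_c57)) :=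
  Lgr Lrot107 (Lpe (f23395 IH) (Lpr_af (f82263 IH) (Lpe (f23397 IH) (Lpn (LP (LK LD1_c0 LD2_c3 LD3_c57))))))
theorem f82269 : Led Lsl_af (LP (LK LD1_c0 LD2_c6 LD3_c15)) = (LP (LK LD1_c0 LD2_c3 LD3_c57)) :=
  Lgr Lrot0 (Lpr_at (f82267 IH) (Lpn (LP (LK LD1_c0 LD2_c3 LD3_c57))))
theorem f7451 : Led Lsl_et (LP (LK LD1_c0 LD2_c6 LD3_c15)) = (LP (LK LD1_c0 LD2_c2 LD3_c53)) :=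
  Lre_e IH (LK LD1_c0 LD2_c6 LD3_c15) (LK LD1_c0 LD2_c2 LD3_c53) Lrfl Lrfl
theorem f23583 : Led Lsl_et (LP (LK LD1_c0 LD2_c1 LD3_c43)) = (LP (LK LD1_c0 LD2_c3 LD3_c57)) :=
  Lre_e IH (LK LD1_c0 LD2_c1 LD3_c43) (LK LD1_c0 LD2_c3 LD3_c57) Lrfl Lrfl
theorem f82271 : Led Lsl_at (LP (LK LD1_c0 LD2_c2 LD3_c53)) = (LP (LK LD1_c0 LD2_c1 LD3_c43)) :=
  Lgr Lrot80 (Lpe (f7451 IH) (Lpr_af (f82269 IH) (Lpe (f23583 IH) (Lpn (LP (LK LD1_c0 LD2_c1 LD3_c43))))))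
theorem f82273 : Led Lsl_ff (LP (LK LD1_c0 LD2_c2 LD3_c53)) = (LP (LK LD1_c0 LD2_c1 LD3_c42)) :=
  Lgr Lrot52 (Lpr_at (f82271 IH) (Lpe (K1.f7142 IH) (Lpe (K0.f7480 IH) (Lpn (LP (LK LD1_c0 LD2_c1 LD3_c42))))))
theorem f9722 : Led Lsl_bt (LP (LK LD1_c0 LD2_c4 LD3_c15)) = (LP (LK LD1_c0 LD2_c2 LD3_c3)) :=
  Lre_b IH (LK LD1_c0 LD2_c4 LD3_c15) (LK LD1_c0 LD2_c2 LD3_c3) Lrfl Lrfl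
theorem f26055 : Led Lsl_gf (LP (LK LD1_c0 LD2_c2 LD3_c1)) = (LP (LK LD1_c0 LD2_c2 LD3_c3)) :=
  Lgr Lrot124 (Lpe (K0.f13427 IH) (Lpr_ct (K0.f13554 IH) (Lpr_gt (K0.f13588 IH) (Lpe (K0.f13601 IH) (Lpe (K0.f13602 IH) (Lpr_gt (K0.f1472 IH) (Lpr_ct (K0.f13604 IH) (Lpr_gt (K0.f26023 IH) (Lpe (K0.f13479 IH) (Lpr_bt (f9722 IH) (Lpn (LP (LK LD1_c0 LD2_c2 LD3_c3)))))))))))))
theorem f26057 : Led Lsl_bt (LP (LK LD1_c0 LD2_c2 LD3_c52)) = (LP (LK LD1_c0 LD2_c1 LD3_c42)) :=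
  Lgr Lrot92 (Lpr_ct (K0.f13604 IH) (Lpr_gt (K0.f26023 IH) (Lpe (K0.f13479 IH) (Lpr_bt (f9722 IH) (Lpe (f26055 IH) (Lpe (K0.f12653 IH) (Lpr_gt (K0.f3831 IH) (Lpe (K0.f346 IH) (Lpr_bt (K0.f6714 IH) (Lpr_gt (K0.f1459 IH) (Lpn (LP (LK LD1_c0 LD2_c1 LD3_c42)))))))))))))
theorem f82275 : Led Lsl_ft (LP (LK LD1_c0 LD2_c1 LD3_c43)) = (LP (LK LD1_c0 LD2_c2 LD3_c52)) :=
  Lgr Lrot75 (Lpe (K1.f23382 IH) (Lpr_ff (f82273 IH) (Lpe (f26057 IH) (Lpn (LP (LK LD1_c0 LD2_c2 LD3_c52))))))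
theorem f82281 : Led Lsl_ff (LP (LK LD1_c0 LD2_c1 LD3_c43)) = (LP (LK LD1_c0 LD2_c2 LD3_c52)) :=
  Lgr Lrot3 (Lpr_ft (f82275 IH) (Lpn (LP (LK LD1_c0 LD2_c2 LD3_c52))))
theorem f82285 : Led Lsl_ft (LP (LK LD1_c0 LD2_c3 LD3_c56)) = (LP (LK LD1_c0 LD2_c6 LD3_c13)) :=
  Lgr Lrot4 (Lpe (K0.f23376 IH) (Lpr_ff (f82281 IH) (Lpe (K0.f26045 IH) (Lpn (LP (LK LD1_c0 LD2_c6 LD3_c13))))))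
theorem f26142 : Led Lsl_bt (LP (LK LD1_c0 LD2_c6 LD3_c13)) = (LP (LK LD1_c0 LD2_c13 LD3_c37)) :=
  Lre_b IH (LK LD1_c0 LD2_c6 LD3_c13) (LK LD1_c0 LD2_c13 LD3_c37) Lrfl Lrfl
theorem f82289 : Led Lsl_ff (LP (LK LD1_c0 LD2_c8 LD3_c37)) = (LP (LK LD1_c0 LD2_c13 LD3_c37)) :=
  Lgr Lrot25 (Lpr_bt (K0.f23379 IH) (Lpr_ft (f82285 IH) (Lpr_bt (f26142 IH) (Lpn (LP (LK LD1_c0 LD2_c13 LD3_c37))))))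
theorem f23578 : Led Lsl_at (LP (LK LD1_c0 LD2_c8 LD3_c37)) = (LP (LK LD1_c0 LD2_c19 LD3_c12)) :=
  Lre_a IH (LK LD1_c0 LD2_c8 LD3_c37) (LK LD1_c0 LD2_c19 LD3_c12) Lrfl Lrfl
theorem f23387 : Led Lsl_et (LP (LK LD1_c0 LD2_c2 LD3_c53)) = (LP (LK LD1_c0 LD2_c6 LD3_c15)) :=
  Lre_e IH (LK LD1_c0 LD2_c2 LD3_c53) (LK LD1_c0 LD2_c6 LD3_c15) Lrfl Lrfl
theorem f7481 : Led Lsl_et (LP (LK LD1_c0 LD2_c3 LD3_c57)) = (LP (LK LD1_c0 LD2_c1 LD3_c43)) :=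
  Lre_e IH (LK LD1_c0 LD2_c3 LD3_c57) (LK LD1_c0 LD2_c1 LD3_c43) Lrfl Lrfl
theorem f23388 : Led Lsl_bt (LP (LK LD1_c0 LD2_c6 LD3_c15)) = (LP (LK LD1_c0 LD2_c3 LD3_c57)) :=
  Lgr Lrot119 (Lpe (f23387 IH) (Lpr_bf (K0.f23377 IH) (Lpe (f7481 IH) (Lpn (LP (LK LD1_c0 LD2_c3 LD3_c57))))))
theorem f23396 : Led Lsl_bt (LP (LK LD1_c0 LD2_c30 LD3_c47)) = (LP (LK LD1_c0 LD2_c13 LD3_c41)) :=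
  Lre_b IH (LK LD1_c0 LD2_c30 LD3_c47) (LK LD1_c0 LD2_c13 LD3_c41) Lrfl Lrfl
theorem f23398 : Led Lsl_bt (LP (LK LD1_c0 LD2_c8 LD3_c39)) = (LP (LK LD1_c0 LD2_c19 LD3_c14)) :=
  Lre_b IH (LK LD1_c0 LD2_c8 LD3_c39) (LK LD1_c0 LD2_c19 LD3_c14) Lrfl Lrfl
theorem f23399 : Led Lsl_cf (LP (LK LD1_c0 LD2_c30 LD3_c47)) = (LP (LK LD1_c0 LD2_c19 LD3_c14)) :=
  Lgr Lrot97 (Lpr_bt (f23396 IH) (Lpr_ct (f23395 IH) (Lpr_bt (f23388 IH) (Lpr_ct (f23397 IH) (Lpr_bt (f23398 IH) (Lpn (LP (LK LD1_c0 LD2_c19 LD3_c14))))))))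
theorem f23407 : Led Lsl_ct (LP (LK LD1_c0 LD2_c30 LD3_c47)) = (LP (LK LD1_c0 LD2_c19 LD3_c14)) :=
  Lgr Lrot59 (Lpr_cf (f23399 IH) (Lpn (LP (LK LD1_c0 LD2_c19 LD3_c14))))
theorem f23424 : Led Lsl_et (LP (LK LD1_c0 LD2_c13 LD3_c39)) = (LP (LK LD1_c0 LD2_c30 LD3_c47)) :=
  Lre_e IH (LK LD1_c0 LD2_c13 LD3_c39) (LK LD1_c0 LD2_c30 LD3_c47) Lrfl Lrfl
theorem f23425 : Led Lsl_et (LP (LK LD1_c0 LD2_c19 LD3_c14)) = (LP (LK LD1_c0 LD2_c8 LD3_c37)) :=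
  Lre_e IH (LK LD1_c0 LD2_c19 LD3_c14) (LK LD1_c0 LD2_c8 LD3_c37) Lrfl Lrfl
theorem f23426 : Led Lsl_cf (LP (LK LD1_c0 LD2_c13 LD3_c39)) = (LP (LK LD1_c0 LD2_c8 LD3_c37)) :=
  Lgr Lrot39 (Lpr_et (f23424 IH) (Lpr_ct (f23407 IH) (Lpr_et (f23425 IH) (Lpn (LP (LK LD1_c0 LD2_c8 LD3_c37))))))
theorem f23431 : Led Lsl_at (LP (LK LD1_c0 LD2_c13 LD3_c39)) = (LP (LK LD1_c0 LD2_c30 LD3_c45)) :=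
  Lre_a IH (LK LD1_c0 LD2_c13 LD3_c39) (LK LD1_c0 LD2_c30 LD3_c45) Lrfl Lrfl
theorem f23432 : Led Lsl_at (LP (LK LD1_c0 LD2_c19 LD3_c12)) = (LP (LK LD1_c0 LD2_c8 LD3_c37)) :=
  Lre_a IH (LK LD1_c0 LD2_c19 LD3_c12) (LK LD1_c0 LD2_c8 LD3_c37) Lrfl Lrfl
theorem f23433 : Led Lsl_ct (LP (LK LD1_c0 LD2_c30 LD3_c45)) = (LP (LK LD1_c0 LD2_c19 LD3_c12)) :=
  Lgr Lrot111 (Lpe (f23431 IH) (Lpr_cf (f23426 IH) (Lpe (f23432 IH) (Lpn (LP (LK LD1_c0 LD2_c19 LD3_c12))))))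
theorem f23575 : Led Lsl_dt (LP (LK LD1_c1 LD2_c7 LD3_c6)) = (LP (LK LD1_c0 LD2_c30 LD3_c45)) :=
  Lre_d IH (LK LD1_c1 LD2_c7 LD3_c6) (LK LD1_c0 LD2_c30 LD3_c45) Lrfl Lrfl
theorem f23576 : Led Lsl_ct (LP (LK LD1_c2 LD2_c19 LD3_c48)) = (LP (LK LD1_c1 LD2_c7 LD3_c6)) :=
  Lre_c IH (LK LD1_c2 LD2_c19 LD3_c48) (LK LD1_c1 LD2_c7 LD3_c6) Lrfl Lrfl
theorem f26076 : Led Lsl_dt (LP (LK LD1_c0 LD2_c13 LD3_c37)) = (LP (LK LD1_c0 LD2_c30 LD3_c41)) :=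
  Lre_d IH (LK LD1_c0 LD2_c13 LD3_c37) (LK LD1_c0 LD2_c30 LD3_c41) Lrfl Lrfl
theorem f26077 : Led Lsl_ct (LP (LK LD1_c0 LD2_c30 LD3_c41)) = (LP (LK LD1_c1 LD2_c6 LD3_c60)) :=
  Lre_c IH (LK LD1_c0 LD2_c30 LD3_c41) (LK LD1_c1 LD2_c6 LD3_c60) Lrfl Lrfl
theorem f26078 : Led Lsl_dt (LP (LK LD1_c1 LD2_c6 LD3_c60)) = (LP (LK LD1_c2 LD2_c19 LD3_c40)) :=
  Lre_d IH (LK LD1_c1 LD2_c6 LD3_c60) (LK LD1_c2 LD2_c19 LD3_c40) Lrfl Lrfl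
theorem f26079 : Led Lsl_ct (LP (LK LD1_c2 LD2_c19 LD3_c40)) = (LP (LK LD1_c4 LD2_c43 LD3_c45)) :=
  Lre_c IH (LK LD1_c2 LD2_c19 LD3_c40) (LK LD1_c4 LD2_c43 LD3_c45) Lrfl Lrfl
theorem f82299 : Led Lsl_df (LP (LK LD1_c2 LD2_c19 LD3_c48)) = (LP (LK LD1_c4 LD2_c43 LD3_c45)) :=
  Lgr Lrot13 (Lpr_ct (f23576 IH) (Lpr_dt (f23575 IH) (Lpr_ct (f23433 IH) (Lpe (f23578 IH) (Lpr_ff (f82289 IH) (Lpr_dt (f26076 IH) (Lpr_ct (f26077 IH) (Lpr_dt (f26078 IH) (Lpr_ct (f26079 IH) (Lpn (LP (LK LD1_c4 LD2_c43 LD3_c45))))))))))))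
theorem f82303 : Led Lsl_dt (LP (LK LD1_c2 LD2_c19 LD3_c48)) = (LP (LK LD1_c4 LD2_c43 LD3_c45)) :=
  Lgr Lrot42 (Lpr_df (f82299 IH) (Lpn (LP (LK LD1_c4 LD2_c43 LD3_c45))))
theorem f23580 : Led Lsl_ct (LP (LK LD1_c1 LD2_c7 LD3_c6)) = (LP (LK LD1_c2 LD2_c19 LD3_c48)) :=
  Lre_c IH (LK LD1_c1 LD2_c7 LD3_c6) (LK LD1_c2 LD2_c19 LD3_c48) Lrfl Lrfl
theorem f23579 : Led Lsl_dt (LP (LK LD1_c0 LD2_c30 LD3_c45)) = (LP (LK LD1_c1 LD2_c7 LD3_c6)) :=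
  Lre_d IH (LK LD1_c0 LD2_c30 LD3_c45) (LK LD1_c1 LD2_c7 LD3_c6) Lrfl Lrfl
theorem f26144 : Led Lsl_ct (LP (LK LD1_c4 LD2_c43 LD3_c45)) = (LP (LK LD1_c2 LD2_c19 LD3_c40)) :=
  Lre_c IH (LK LD1_c4 LD2_c43 LD3_c45) (LK LD1_c2 LD2_c19 LD3_c40) Lrfl Lrfl
theorem f26143 : Led Lsl_dt (LP (LK LD1_c2 LD2_c19 LD3_c40)) = (LP (LK LD1_c1 LD2_c6 LD3_c60)) :=
  Lre_d IH (LK LD1_c2 LD2_c19 LD3_c40) (LK LD1_c1 LD2_c6 LD3_c60) Lrfl Lrfl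
theorem f26087 : Led Lsl_ct (LP (LK LD1_c1 LD2_c6 LD3_c60)) = (LP (LK LD1_c0 LD2_c30 LD3_c41)) :=
  Lre_c IH (LK LD1_c1 LD2_c6 LD3_c60) (LK LD1_c0 LD2_c30 LD3_c41) Lrfl Lrfl
theorem f26085 : Led Lsl_dt (LP (LK LD1_c0 LD2_c30 LD3_c41)) = (LP (LK LD1_c0 LD2_c13 LD3_c37)) :=
  Lre_d IH (LK LD1_c0 LD2_c30 LD3_c41) (LK LD1_c0 LD2_c13 LD3_c37) Lrfl Lrfl
theorem f26054 : Led Lsl_bt (LP (LK LD1_c0 LD2_c13 LD3_c37)) = (LP (LK LD1_c0 LD2_c6 LD3_c13)) :=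
  Lre_b IH (LK LD1_c0 LD2_c13 LD3_c37) (LK LD1_c0 LD2_c6 LD3_c13) Lrfl Lrfl
theorem f20984 : Led Lsl_bt (LP (LK LD1_c0 LD2_c3 LD3_c55)) = (LP (LK LD1_c0 LD2_c8 LD3_c35)) :=
  Lre_b IH (LK LD1_c0 LD2_c3 LD3_c55) (LK LD1_c0 LD2_c8 LD3_c35) Lrfl Lrfl
theorem f26068 : Led Lsl_cf (LP (LK LD1_c0 LD2_c13 LD3_c37)) = (LP (LK LD1_c0 LD2_c8 LD3_c35)) :=
  Lgr Lrot97 (Lpr_bt (f26054 IH) (Lpr_ct (K0.f26045 IH) (Lpr_bt (f26057 IH) (Lpr_ct (K0.f13448 IH) (Lpr_bt (f20984 IH) (Lpn (LP (LK LD1_c0 LD2_c8 LD3_c35))))))))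
theorem f26074 : Led Lsl_ct (LP (LK LD1_c0 LD2_c13 LD3_c37)) = (LP (LK LD1_c0 LD2_c8 LD3_c35)) :=
  Lgr Lrot59 (Lpr_cf (f26068 IH) (Lpn (LP (LK LD1_c0 LD2_c8 LD3_c35))))
theorem f26071 : Led Lsl_at (LP (LK LD1_c0 LD2_c19 LD3_c5)) = (LP (LK LD1_c0 LD2_c8 LD3_c35)) :=
  Lre_a IH (LK LD1_c0 LD2_c19 LD3_c5) (LK LD1_c0 LD2_c8 LD3_c35) Lrfl Lrfl
theorem f82310 : Led Lsl_ft (LP (LK LD1_c0 LD2_c30 LD3_c45)) = (LP (LK LD1_c0 LD2_c19 LD3_c5)) :=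
  Lgr Lrot142 (Lpr_dt (f23579 IH) (Lpr_ct (f23580 IH) (Lpr_dt (f82303 IH) (Lpr_ct (f26144 IH) (Lpr_dt (f26143 IH) (Lpr_ct (f26087 IH) (Lpr_dt (f26085 IH) (Lpr_ct (f26074 IH) (Lpe (f26071 IH) (Lpn (LP (LK LD1_c0 LD2_c19 LD3_c5))))))))))))
theorem f23573 : Led Lsl_cf (LP (LK LD1_c0 LD2_c30 LD3_c45)) = (LP (LK LD1_c0 LD2_c19 LD3_c12)) :=
  Lgr Lrot11 (Lpr_ct (f23433 IH) (Lpn (LP (LK LD1_c0 LD2_c19 LD3_c12))))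
theorem f26083 : Led Lsl_at (LP (LK LD1_c0 LD2_c30 LD3_c40)) = (LP (LK LD1_c0 LD2_c13 LD3_c37)) :=
  Lre_a IH (LK LD1_c0 LD2_c30 LD3_c40) (LK LD1_c0 LD2_c13 LD3_c37) Lrfl Lrfl
theorem f26139 : Led Lsl_at (LP (LK LD1_c0 LD2_c8 LD3_c35)) = (LP (LK LD1_c0 LD2_c19 LD3_c5)) :=
  Lre_a IH (LK LD1_c0 LD2_c8 LD3_c35) (LK LD1_c0 LD2_c19 LD3_c5) Lrfl Lrfl
theorem f26140 : Led Lsl_cf (LP (LK LD1_c0 LD2_c30 LD3_c40)) = (LP (LK LD1_c0 LD2_c19 LD3_c5)) :=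
  Lgr Lrot1 (Lpr_at (f26083 IH) (Lpr_ct (f26074 IH) (Lpr_at (f26139 IH) (Lpn (LP (LK LD1_c0 LD2_c19 LD3_c5))))))
theorem f82315 : Led Lsl_ff (LP (LK LD1_c0 LD2_c19 LD3_c12)) = (LP (LK LD1_c0 LD2_c30 LD3_c40)) :=
  Lgr Lrot23 (Lpe (f23573 IH) (Lpr_ft (f82310 IH) (Lpe (f26140 IH) (Lpn (LP (LK LD1_c0 LD2_c30 LD3_c40))))))
theorem f82384 : Led Lsl_gf (LP (LK LD1_c0 LD2_c19 LD3_c11)) = (LP (LK LD1_c0 LD2_c30 LD3_c40)) :=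
  Lgr Lrot47 (Lpr_gt (K0.f23449 IH) (Lpe (f23432 IH) (Lpr_ff (f82315 IH) (Lpn (LP (LK LD1_c0 LD2_c30 LD3_c40))))))
theorem f72826 : Led Lsl_ft (LP (LK LD1_c0 LD2_c39 LD3_c48)) = (LP (LK LD1_c0 LD2_c17 LD3_c49)) :=
  Lre_f IH (LK LD1_c0 LD2_c39 LD3_c48) (LK LD1_c0 LD2_c17 LD3_c49) Lrfl Lrfl
theorem f37267 : Led Lsl_ct (LP (LK LD1_c0 LD2_c17 LD3_c49)) = (LP (LK LD1_c0 LD2_c39 LD3_c4)) :=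
  Lre_c IH (LK LD1_c0 LD2_c17 LD3_c49) (LK LD1_c0 LD2_c39 LD3_c4) Lrfl Lrfl
theorem f72827 : Led Lsl_ft (LP (LK LD1_c0 LD2_c39 LD3_c4)) = (LP (LK LD1_c0 LD2_c37 LD3_c20)) :=
  Lgr Lrot4 (Lpe (f37267 IH) (Lpe (f72826 IH) (Lpr_cf (f72464 IH) (Lpn (LP (LK LD1_c0 LD2_c37 LD3_c20))))))
theorem f72835 : Led Lsl_ff (LP (LK LD1_c0 LD2_c17 LD3_c29)) = (LP (LK LD1_c0 LD2_c16 LD3_c39)) :=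
  Lgr Lrot25 (Lpr_bt (K1.f56029 IH) (Lpr_ft (f72827 IH) (Lpr_bt (f60914 IH) (Lpn (LP (LK LD1_c0 LD2_c16 LD3_c39))))))
theorem f20288 : Led Lsl_dt (LP (LK LD1_c0 LD2_c7 LD3_c31)) = (LP (LK LD1_c0 LD2_c16 LD3_c53)) :=
  Lre_d IH (LK LD1_c0 LD2_c7 LD3_c31) (LK LD1_c0 LD2_c16 LD3_c53) Lrfl Lrfl
theorem f60925 : Led Lsl_gt (LP (LK LD1_c0 LD2_c16 LD3_c39)) = (LP (LK LD1_c0 LD2_c7 LD3_c31)) :=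
  Lgr Lrot180 (Lpr_ct (K1.f60910 IH) (Lpe (K1.f60908 IH) (Lpr_dt (K1.f26595 IH) (Lpr_gt (K1.f36286 IH) (Lpr_dt (K0.f6781 IH) (Lpr_ct (K0.f35517 IH) (Lpe (K0.f35520 IH) (Lpe (K0.f35521 IH) (Lpe (f20288 IH) (Lpn (LP (LK LD1_c0 LD2_c7 LD3_c31))))))))))))
theorem f73179 : Led Lsl_at (LP (LK LD1_c0 LD2_c17 LD3_c29)) = (LP (LK LD1_c0 LD2_c16 LD3_c40)) :=
  Lgr Lrot26 (Lpr_ff (f72835 IH) (Lpr_gt (f60925 IH) (Lpe (K1.f59332 IH) (Lpn (LP (LK LD1_c0 LD2_c16 LD3_c40))))))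
theorem f60889 : Led Lsl_at (LP (LK LD1_c0 LD2_c13 LD3_c19)) = (LP (LK LD1_c0 LD2_c8 LD3_c14)) :=
  Lgr Lrot100 (Lpr_af (K1.f60887 IH) (Lpn (LP (LK LD1_c0 LD2_c8 LD3_c14))))
theorem f60912 : Led Lsl_af (LP (LK LD1_c0 LD2_c16 LD3_c39)) = (LP (LK LD1_c0 LD2_c18 LD3_c18)) :=
  Lgr Lrot68 (Lpr_ct (K1.f60910 IH) (Lpr_at (f60889 IH) (Lpr_ct (K1.f23013 IH) (Lpn (LP (LK LD1_c0 LD2_c18 LD3_c18))))))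
theorem f73186 : Led Lsl_ff (LP (LK LD1_c0 LD2_c18 LD3_c18)) = (LP (LK LD1_c0 LD2_c16 LD3_c40)) :=
  Lgr Lrot30 (Lpe (f60912 IH) (Lpe (f72835 IH) (Lpr_at (f73179 IH) (Lpn (LP (LK LD1_c0 LD2_c16 LD3_c40))))))
theorem f60840 : Led Lsl_et (LP (LK LD1_c0 LD2_c18 LD3_c18)) = (LP (LK LD1_c0 LD2_c40 LD3_c53)) :=
  Lre_e IH (LK LD1_c0 LD2_c18 LD3_c18) (LK LD1_c0 LD2_c40 LD3_c53) Lrfl Lrfl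
theorem f60839 : Led Lsl_ft (LP (LK LD1_c0 LD2_c40 LD3_c53)) = (LP (LK LD1_c1 LD2_c28 LD3_c29)) :=
  Lre_f IH (LK LD1_c0 LD2_c40 LD3_c53) (LK LD1_c1 LD2_c28 LD3_c29) Lrfl Lrfl
theorem f60461 : Led Lsl_bt (LP (LK LD1_c1 LD2_c28 LD3_c5)) = (LP (LK LD1_c3 LD2_c4 LD3_c3)) :=
  Lre_b IH (LK LD1_c1 LD2_c28 LD3_c5) (LK LD1_c3 LD2_c4 LD3_c3) Lrfl Lrfl
theorem f60467 : Led Lsl_bt (LP (LK LD1_c0 LD2_c18 LD3_c19)) = (LP (LK LD1_c0 LD2_c40 LD3_c51)) :=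
  Lre_b IH (LK LD1_c0 LD2_c18 LD3_c19) (LK LD1_c0 LD2_c40 LD3_c51) Lrfl Lrfl
theorem f60468 : Led Lsl_ct (LP (LK LD1_c0 LD2_c40 LD3_c53)) = (LP (LK LD1_c0 LD2_c18 LD3_c19)) :=
  Lre_c IH (LK LD1_c0 LD2_c40 LD3_c53) (LK LD1_c0 LD2_c18 LD3_c19) Lrfl Lrfl
theorem f60469 : Led Lsl_bt (LP (LK LD1_c1 LD2_c28 LD3_c27)) = (LP (LK LD1_c0 LD2_c40 LD3_c53)) :=
  Lre_b IH (LK LD1_c1 LD2_c28 LD3_c27) (LK LD1_c0 LD2_c40 LD3_c53) Lrfl Lrfl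
theorem f60470 : Led Lsl_ct (LP (LK LD1_c3 LD2_c4 LD3_c3)) = (LP (LK LD1_c1 LD2_c28 LD3_c27)) :=
  Lgr Lrot83 (Lpe (f60461 IH) (Lpr_cf (K1.f60446 IH) (Lpe (f60467 IH) (Lpe (f60468 IH) (Lpe (f60469 IH) (Lpn (LP (LK LD1_c1 LD2_c28 LD3_c27))))))))
theorem f56480 : Led Lsl_ft (LP (LK LD1_c6 LD2_c14 LD3_c21)) = (LP (LK LD1_c3 LD2_c4 LD3_c3)) :=
  Lre_f IH (LK LD1_c6 LD2_c14 LD3_c21) (LK LD1_c3 LD2_c4 LD3_c3) Lrfl Lrfl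
theorem f60795 : Led Lsl_ft (LP (LK LD1_c1 LD2_c28 LD3_c27)) = (LP (LK LD1_c3 LD2_c4 LD3_c50)) :=
  Lre_f IH (LK LD1_c1 LD2_c28 LD3_c27) (LK LD1_c3 LD2_c4 LD3_c50) Lrfl Lrfl
theorem f60796 : Led Lsl_cf (LP (LK LD1_c6 LD2_c14 LD3_c21)) = (LP (LK LD1_c3 LD2_c4 LD3_c50)) :=
  Lgr Lrot108 (Lpr_ft (f56480 IH) (Lpr_ct (f60470 IH) (Lpr_ft (f60795 IH) (Lpn (LP (LK LD1_c3 LD2_c4 LD3_c50))))))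
theorem f56465 : Led Lsl_bt (LP (LK LD1_c3 LD2_c4 LD3_c6)) = (LP (LK LD1_c6 LD2_c14 LD3_c21)) :=
  Lre_b IH (LK LD1_c3 LD2_c4 LD3_c6) (LK LD1_c6 LD2_c14 LD3_c21) Lrfl Lrfl
theorem f46627 : Led Lsl_bt (LP (LK LD1_c4 LD2_c4 LD3_c56)) = (LP (LK LD1_c1 LD2_c59 LD3_c35)) :=
  Lre_b IH (LK LD1_c4 LD2_c4 LD3_c56) (LK LD1_c1 LD2_c59 LD3_c35) Lrfl Lrfl
theorem f56466 : Led Lsl_et (LP (LK LD1_c6 LD2_c14 LD3_c21)) = (LP (LK LD1_c4 LD2_c4 LD3_c56)) :=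
  Lgr Lrot74 (Lpe (f56465 IH) (Lpr_ef (K1.f56458 IH) (Lpe (f46627 IH) (Lpn (LP (LK LD1_c4 LD2_c4 LD3_c56))))))
theorem f56484 : Led Lsl_ct (LP (LK LD1_c4 LD2_c4 LD3_c56)) = (LP (LK LD1_c2 LD2_c0 LD3_c17)) :=
  Lre_c IH (LK LD1_c4 LD2_c4 LD3_c56) (LK LD1_c2 LD2_c0 LD3_c17) Lrfl Lrfl
theorem f60810 : Led Lsl_et (LP (LK LD1_c2 LD2_c0 LD3_c17)) = (LP (LK LD1_c3 LD2_c4 LD3_c50)) :=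
  Lgr Lrot158 (Lpe (f56484 IH) (Lpe (f56466 IH) (Lpr_cf (f60796 IH) (Lpn (LP (LK LD1_c3 LD2_c4 LD3_c50))))))
theorem f55609 : Led Lsl_bt (LP (LK LD1_c0 LD2_c57 LD3_c8)) = (LP (LK LD1_c2 LD2_c0 LD3_c17)) :=
  Lre_b IH (LK LD1_c0 LD2_c57 LD3_c8) (LK LD1_c2 LD2_c0 LD3_c17) Lrfl Lrfl
theorem f60435 : Led Lsl_bt (LP (LK LD1_c3 LD2_c4 LD3_c50)) = (LP (LK LD1_c1 LD2_c28 LD3_c29)) :=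
  Lre_b IH (LK LD1_c3 LD2_c4 LD3_c50) (LK LD1_c1 LD2_c28 LD3_c29) Lrfl Lrfl
theorem f60817 : Led Lsl_ef (LP (LK LD1_c0 LD2_c57 LD3_c8)) = (LP (LK LD1_c1 LD2_c28 LD3_c29)) :=
  Lgr Lrot29 (Lpr_bt (f55609 IH) (Lpr_et (f60810 IH) (Lpr_bt (f60435 IH) (Lpn (LP (LK LD1_c1 LD2_c28 LD3_c29))))))
theorem f55883 : Led Lsl_ft (LP (LK LD1_c0 LD2_c57 LD3_c8)) = (LP (LK LD1_c0 LD2_c25 LD3_c56)) :=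
  Lre_f IH (LK LD1_c0 LD2_c57 LD3_c8) (LK LD1_c0 LD2_c25 LD3_c56) Lrfl Lrfl
theorem f73192 : Led Lsl_et (LP (LK LD1_c0 LD2_c25 LD3_c56)) = (LP (LK LD1_c0 LD2_c16 LD3_c40)) :=
  Lgr Lrot69 (Lpe (f55883 IH) (Lpr_ef (f60817 IH) (Lpe (f60839 IH) (Lpe (f60840 IH) (Lpr_ff (f73186 IH) (Lpn (LP (LK LD1_c0 LD2_c16 LD3_c40))))))))
theorem f55697 : Led Lsl_et (LP (LK LD1_c2 LD2_c0 LD3_c19)) = (LP (LK LD1_c0 LD2_c57 LD3_c7)) :=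
  Lre_e IH (LK LD1_c2 LD2_c0 LD3_c19) (LK LD1_c0 LD2_c57 LD3_c7) Lrfl Lrfl
theorem f59431 : Led Lsl_et (LP (LK LD1_c0 LD2_c37 LD3_c24)) = (LP (LK LD1_c1 LD2_c20 LD3_c60)) :=
  Lre_e IH (LK LD1_c0 LD2_c37 LD3_c24) (LK LD1_c1 LD2_c20 LD3_c60) Lrfl Lrfl
theorem f73196 : Led Lsl_df (LP (LK LD1_c2 LD2_c0 LD3_c19)) = (LP (LK LD1_c1 LD2_c20 LD3_c60)) :=
  Lgr Lrot70 (Lpr_et (f55697 IH) (Lpr_dt (K1.f55381 IH) (Lpr_et (f73192 IH) (Lpr_dt (K1.f56579 IH) (Lpr_et (f59431 IH) (Lpn (LP (LK LD1_c1 LD2_c20 LD3_c60))))))))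
theorem f73202 : Led Lsl_dt (LP (LK LD1_c2 LD2_c0 LD3_c19)) = (LP (LK LD1_c1 LD2_c20 LD3_c60)) :=
  Lgr Lrot42 (Lpr_df (f73196 IH) (Lpn (LP (LK LD1_c1 LD2_c20 LD3_c60))))
theorem f55706 : Led Lsl_ct (LP (LK LD1_c4 LD2_c6 LD3_c3)) = (LP (LK LD1_c2 LD2_c0 LD3_c19)) :=
  Lre_c IH (LK LD1_c4 LD2_c6 LD3_c3) (LK LD1_c2 LD2_c0 LD3_c19) Lrfl Lrfl
theorem f55654 : Led Lsl_dt (LP (LK LD1_c8 LD2_c12 LD3_c52)) = (LP (LK LD1_c4 LD2_c6 LD3_c3)) :=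
  Lre_d IH (LK LD1_c8 LD2_c12 LD3_c52) (LK LD1_c4 LD2_c6 LD3_c3) Lrfl Lrfl
theorem f59448 : Led Lsl_et (LP (LK LD1_c0 LD2_c42 LD3_c61)) = (LP (LK LD1_c0 LD2_c19 LD3_c8)) :=
  Lre_e IH (LK LD1_c0 LD2_c42 LD3_c61) (LK LD1_c0 LD2_c19 LD3_c8) Lrfl Lrfl
theorem f59449 : Led Lsl_ct (LP (LK LD1_c1 LD2_c20 LD3_c60)) = (LP (LK LD1_c0 LD2_c42 LD3_c61)) :=
  Lgr Lrot15 (Lpe (f59431 IH) (Lpr_cf (K1.f59426 IH) (Lpe (f59448 IH) (Lpn (LP (LK LD1_c0 LD2_c42 LD3_c61))))))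
theorem f67508 : Led Lsl_ct (LP (LK LD1_c1 LD2_c32 LD3_c14)) = (LP (LK LD1_c3 LD2_c11 LD3_c45)) :=
  Lre_c IH (LK LD1_c1 LD2_c32 LD3_c14) (LK LD1_c3 LD2_c11 LD3_c45) Lrfl Lrfl
theorem f61782 : Led Lsl_ct (LP (LK LD1_c1 LD2_c29 LD3_c28)) = (LP (LK LD1_c3 LD2_c6 LD3_c46)) :=
  Lre_c IH (LK LD1_c1 LD2_c29 LD3_c28) (LK LD1_c3 LD2_c6 LD3_c46) Lrfl Lrfl
theorem f67439 : Led Lsl_ct (LP (LK LD1_c3 LD2_c11 LD3_c45)) = (LP (LK LD1_c1 LD2_c32 LD3_c14)) :=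
  Lre_c IH (LK LD1_c3 LD2_c11 LD3_c45) (LK LD1_c1 LD2_c32 LD3_c14) Lrfl Lrfl
theorem f67440 : Led Lsl_at (LP (LK LD1_c3 LD2_c6 LD3_c46)) = (LP (LK LD1_c3 LD2_c11 LD3_c45)) :=
  Lgr Lrot107 (Lpe (f61782 IH) (Lpr_af (f67429 IH) (Lpe (f67439 IH) (Lpn (LP (LK LD1_c3 LD2_c11 LD3_c45))))))
theorem f67477 : Led Lsl_ft (LP (LK LD1_c6 LD2_c18 LD3_c55)) = (LP (LK LD1_c3 LD2_c6 LD3_c46)) :=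
  Lre_f IH (LK LD1_c6 LD2_c18 LD3_c55) (LK LD1_c3 LD2_c6 LD3_c46) Lrfl Lrfl
theorem f67474 : Led Lsl_dt (LP (LK LD1_c6 LD2_c18 LD3_c55)) = (LP (LK LD1_c12 LD2_c13 LD3_c38)) :=
  Lre_d IH (LK LD1_c6 LD2_c18 LD3_c55) (LK LD1_c12 LD2_c13 LD3_c38) Lrfl Lrfl
theorem f73488 : Led Lsl_cf (LP (LK LD1_c8 LD2_c12 LD3_c52)) = (LP (LK LD1_c12 LD2_c13 LD3_c38)) :=
  Lgr Lrot118 (Lpr_dt (f55654 IH) (Lpr_ct (f55706 IH) (Lpr_dt (f73202 IH) (Lpr_ct (f59449 IH) (Lpr_dt (f68248 IH) (Lpr_ct (f67508 IH) (Lpe (f67440 IH) (Lpe (f67477 IH) (Lpr_dt (f67474 IH) (Lpn (LP (LK LD1_c12 LD2_c13 LD3_c38))))))))))))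
theorem f47931 : Led Lsl_ft (LP (LK LD1_c0 LD2_c11 LD3_c38)) = (LP (LK LD1_c0 LD2_c5 LD3_c23)) :=
  Lre_f IH (LK LD1_c0 LD2_c11 LD3_c38) (LK LD1_c0 LD2_c5 LD3_c23) Lrfl Lrfl
theorem f47925 : Led Lsl_dt (LP (LK LD1_c0 LD2_c11 LD3_c38)) = (LP (LK LD1_c0 LD2_c26 LD3_c11)) :=
  Lre_d IH (LK LD1_c0 LD2_c11 LD3_c38) (LK LD1_c0 LD2_c26 LD3_c11) Lrfl Lrfl
theorem f55625 : Led Lsl_dt (LP (LK LD1_c0 LD2_c57 LD3_c35)) = (LP (LK LD1_c2 LD2_c1 LD3_c4)) :=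
  Lre_d IH (LK LD1_c0 LD2_c57 LD3_c35) (LK LD1_c2 LD2_c1 LD3_c4) Lrfl Lrfl
theorem f55329 : Led Lsl_dt (LP (LK LD1_c0 LD2_c25 LD3_c47)) = (LP (LK LD1_c0 LD2_c11 LD3_c28)) :=
  Lre_d IH (LK LD1_c0 LD2_c25 LD3_c47) (LK LD1_c0 LD2_c11 LD3_c28) Lrfl Lrfl
theorem f55350 : Led Lsl_dt (LP (LK LD1_c1 LD2_c59 LD3_c59)) = (LP (LK LD1_c0 LD2_c56 LD3_c54)) :=
  Lre_d IH (LK LD1_c1 LD2_c59 LD3_c59) (LK LD1_c0 LD2_c56 LD3_c54) Lrfl Lrfl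
theorem f55626 : Led Lsl_ct (LP (LK LD1_c2 LD2_c1 LD3_c4)) = (LP (LK LD1_c1 LD2_c59 LD3_c59)) :=
  Lgr Lrot41 (Lpe (f55625 IH) (Lpe (K1.f55624 IH) (Lpe (f47925 IH) (Lpr_ft (f47931 IH) (Lpr_at (K1.f55613 IH) (Lpe (K1.f47049 IH) (Lpe (f55329 IH) (Lpe (K1.f55326 IH) (Lpe (f55350 IH) (Lpn (LP (LK LD1_c1 LD2_c59 LD3_c59))))))))))))
theorem f47920 : Led Lsl_ct (LP (LK LD1_c0 LD2_c26 LD3_c3)) = (LP (LK LD1_c0 LD2_c11 LD3_c38)) :=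
  Lre_c IH (LK LD1_c0 LD2_c26 LD3_c3) (LK LD1_c0 LD2_c11 LD3_c38) Lrfl Lrfl
theorem f47910 : Led Lsl_dt (LP (LK LD1_c0 LD2_c57 LD3_c25)) = (LP (LK LD1_c0 LD2_c26 LD3_c3)) :=
  Lre_d IH (LK LD1_c0 LD2_c57 LD3_c25) (LK LD1_c0 LD2_c26 LD3_c3) Lrfl Lrfl
theorem f55427 : Led Lsl_ct (LP (LK LD1_c2 LD2_c0 LD3_c53)) = (LP (LK LD1_c0 LD2_c57 LD3_c25)) :=
  Lre_c IH (LK LD1_c2 LD2_c0 LD3_c53) (LK LD1_c0 LD2_c57 LD3_c25) Lrfl Lrfl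
theorem f55394 : Led Lsl_dt (LP (LK LD1_c2 LD2_c0 LD3_c18)) = (LP (LK LD1_c2 LD2_c0 LD3_c53)) :=
  Lgr Lrot42 (Lpr_df (K1.f55383 IH) (Lpn (LP (LK LD1_c2 LD2_c0 LD3_c53))))
theorem f54856 : Led Lsl_ft (LP (LK LD1_c0 LD2_c57 LD3_c24)) = (LP (LK LD1_c2 LD2_c0 LD3_c53)) :=
  Lre_f IH (LK LD1_c0 LD2_c57 LD3_c24) (LK LD1_c2 LD2_c0 LD3_c53) Lrfl Lrfl
theorem f55400 : Led Lsl_ft (LP (LK LD1_c2 LD2_c0 LD3_c18)) = (LP (LK LD1_c2 LD2_c0 LD3_c52)) :=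
  Lgr Lrot54 (Lpr_df (K1.f55383 IH) (Lpe (f54856 IH) (Lpe (K1.f54828 IH) (Lpn (LP (LK LD1_c2 LD2_c0 LD3_c52))))))
theorem f55635 : Led Lsl_at (LP (LK LD1_c2 LD2_c0 LD3_c52)) = (LP (LK LD1_c1 LD2_c59 LD3_c59)) :=
  Lgr Lrot33 (Lpe (f55400 IH) (Lpr_dt (f55394 IH) (Lpr_ct (f55427 IH) (Lpr_dt (f47910 IH) (Lpr_ct (f47920 IH) (Lpr_dt (f47925 IH) (Lpr_ct (K1.f55624 IH) (Lpr_dt (f55625 IH) (Lpr_ct (f55626 IH) (Lpn (LP (LK LD1_c1 LD2_c59 LD3_c59))))))))))))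
theorem f55355 : Led Lsl_ft (LP (LK LD1_c1 LD2_c59 LD3_c60)) = (LP (LK LD1_c0 LD2_c56 LD3_c54)) :=
  Lre_f IH (LK LD1_c1 LD2_c59 LD3_c60) (LK LD1_c0 LD2_c56 LD3_c54) Lrfl Lrfl
theorem f55450 : Led Lsl_ft (LP (LK LD1_c1 LD2_c59 LD3_c59)) = (LP (LK LD1_c2 LD2_c1 LD3_c2)) :=
  Lgr Lrot54 (Lpe (K1.f55335 IH) (Lpe (f55355 IH) (Lpr_df (K1.f55433 IH) (Lpn (LP (LK LD1_c2 LD2_c1 LD3_c2))))))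
theorem f55642 : Led Lsl_af (LP (LK LD1_c2 LD2_c0 LD3_c18)) = (LP (LK LD1_c2 LD2_c1 LD3_c2)) :=
  Lgr Lrot45 (Lpr_ft (f55400 IH) (Lpr_at (f55635 IH) (Lpr_ft (f55450 IH) (Lpn (LP (LK LD1_c2 LD2_c1 LD3_c2))))))
theorem f55396 : Led Lsl_et (LP (LK LD1_c2 LD2_c0 LD3_c18)) = (LP (LK LD1_c4 LD2_c6 LD3_c3)) :=
  Lre_e IH (LK LD1_c2 LD2_c0 LD3_c18) (LK LD1_c4 LD2_c6 LD3_c3) Lrfl Lrfl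
theorem f55446 : Led Lsl_et (LP (LK LD1_c4 LD2_c7 LD3_c24)) = (LP (LK LD1_c2 LD2_c1 LD3_c2)) :=
  Lre_e IH (LK LD1_c4 LD2_c7 LD3_c24) (LK LD1_c2 LD2_c1 LD3_c2) Lrfl Lrfl
theorem f55646 : Led Lsl_at (LP (LK LD1_c4 LD2_c6 LD3_c3)) = (LP (LK LD1_c4 LD2_c7 LD3_c24)) :=
  Lgr Lrot80 (Lpe (f55396 IH) (Lpr_af (f55642 IH) (Lpe (f55446 IH) (Lpn (LP (LK LD1_c4 LD2_c7 LD3_c24))))))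
theorem f55655 : Led Lsl_dt (LP (LK LD1_c4 LD2_c7 LD3_c24)) = (LP (LK LD1_c8 LD2_c14 LD3_c57)) :=
  Lre_d IH (LK LD1_c4 LD2_c7 LD3_c24) (LK LD1_c8 LD2_c14 LD3_c57) Lrfl Lrfl
theorem f55656 : Led Lsl_af (LP (LK LD1_c8 LD2_c12 LD3_c52)) = (LP (LK LD1_c8 LD2_c14 LD3_c57)) :=
  Lgr Lrot117 (Lpr_dt (f55654 IH) (Lpr_at (f55646 IH) (Lpr_dt (f55655 IH) (Lpn (LP (LK LD1_c8 LD2_c14 LD3_c57))))))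
theorem f55659 : Led Lsl_at (LP (LK LD1_c8 LD2_c12 LD3_c52)) = (LP (LK LD1_c8 LD2_c14 LD3_c57)) :=
  Lgr Lrot100 (Lpr_af (f55656 IH) (Lpn (LP (LK LD1_c8 LD2_c14 LD3_c57))))
theorem f67461 : Led Lsl_ct (LP (LK LD1_c6 LD2_c18 LD3_c55)) = (LP (LK LD1_c3 LD2_c6 LD3_c47)) :=
  Lre_c IH (LK LD1_c6 LD2_c18 LD3_c55) (LK LD1_c3 LD2_c6 LD3_c47) Lrfl Lrfl
theorem f67451 : Led Lsl_ct (LP (LK LD1_c3 LD2_c11 LD3_c48)) = (LP (LK LD1_c6 LD2_c27 LD3_c49)) :=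
  Lre_c IH (LK LD1_c3 LD2_c11 LD3_c48) (LK LD1_c6 LD2_c27 LD3_c49) Lrfl Lrfl
theorem f67462 : Led Lsl_af (LP (LK LD1_c6 LD2_c18 LD3_c55)) = (LP (LK LD1_c6 LD2_c27 LD3_c49)) :=
  Lgr Lrot68 (Lpr_ct (f67461 IH) (Lpr_at (f67444 IH) (Lpr_ct (f67451 IH) (Lpn (LP (LK LD1_c6 LD2_c27 LD3_c49))))))
theorem f67465 : Led Lsl_dt (LP (LK LD1_c12 LD2_c26 LD3_c60)) = (LP (LK LD1_c6 LD2_c27 LD3_c49)) :=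
  Lre_d IH (LK LD1_c12 LD2_c26 LD3_c60) (LK LD1_c6 LD2_c27 LD3_c49) Lrfl Lrfl
theorem f67475 : Led Lsl_at (LP (LK LD1_c12 LD2_c13 LD3_c38)) = (LP (LK LD1_c12 LD2_c26 LD3_c60)) :=
  Lgr Lrot51 (Lpe (f67474 IH) (Lpr_af (f67462 IH) (Lpe (f67465 IH) (Lpn (LP (LK LD1_c12 LD2_c26 LD3_c60))))))
theorem f67480 : Led Lsl_af (LP (LK LD1_c12 LD2_c13 LD3_c38)) = (LP (LK LD1_c12 LD2_c26 LD3_c60)) :=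
  Lgr Lrot0 (Lpr_at (f67475 IH) (Lpn (LP (LK LD1_c12 LD2_c26 LD3_c60))))
theorem f73492 : Led Lsl_ct (LP (LK LD1_c8 LD2_c14 LD3_c57)) = (LP (LK LD1_c12 LD2_c26 LD3_c60)) :=
  Lgr Lrot111 (Lpe (f55659 IH) (Lpr_cf (f73488 IH) (Lpr_af (f67480 IH) (Lpn (LP (LK LD1_c12 LD2_c26 LD3_c60))))))
theorem f55658 : Led Lsl_ct (LP (LK LD1_c2 LD2_c1 LD3_c3)) = (LP (LK LD1_c4 LD2_c7 LD3_c24)) :=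
  Lre_c IH (LK LD1_c2 LD2_c1 LD3_c3) (LK LD1_c4 LD2_c7 LD3_c24) Lrfl Lrfl
theorem f67483 : Led Lsl_ft (LP (LK LD1_c6 LD2_c18 LD3_c54)) = (LP (LK LD1_c12 LD2_c13 LD3_c38)) :=
  Lre_f IH (LK LD1_c6 LD2_c18 LD3_c54) (LK LD1_c12 LD2_c13 LD3_c38) Lrfl Lrfl
theorem f67449 : Led Lsl_dt (LP (LK LD1_c6 LD2_c18 LD3_c54)) = (LP (LK LD1_c3 LD2_c6 LD3_c46)) :=
  Lre_d IH (LK LD1_c6 LD2_c18 LD3_c54) (LK LD1_c3 LD2_c6 LD3_c46) Lrfl Lrfl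
theorem f67448 : Led Lsl_ct (LP (LK LD1_c3 LD2_c6 LD3_c46)) = (LP (LK LD1_c1 LD2_c29 LD3_c28)) :=
  Lre_c IH (LK LD1_c3 LD2_c6 LD3_c46) (LK LD1_c1 LD2_c29 LD3_c28) Lrfl Lrfl
theorem f61781 : Led Lsl_dt (LP (LK LD1_c1 LD2_c29 LD3_c28)) = (LP (LK LD1_c0 LD2_c41 LD3_c20)) :=
  Lre_d IH (LK LD1_c1 LD2_c29 LD3_c28) (LK LD1_c0 LD2_c41 LD3_c20) Lrfl Lrfl
theorem f22250 : Led Lsl_et (LP (LK LD1_c1 LD2_c22 LD3_c2)) = (LP (LK LD1_c0 LD2_c37 LD3_c58)) :=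
  Lre_e IH (LK LD1_c1 LD2_c22 LD3_c2) (LK LD1_c0 LD2_c37 LD3_c58) Lrfl Lrfl
theorem f61810 : Led Lsl_ct (LP (LK LD1_c0 LD2_c41 LD3_c20)) = (LP (LK LD1_c1 LD2_c22 LD3_c2)) :=
  Lgr Lrot15 (Lpe (f61679 IH) (Lpr_cf (K1.f61764 IH) (Lpe (f22250 IH) (Lpn (LP (LK LD1_c1 LD2_c22 LD3_c2))))))
theorem f73593 : Led Lsl_df (LP (LK LD1_c2 LD2_c1 LD3_c3)) = (LP (LK LD1_c1 LD2_c22 LD3_c2)) :=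
  Lgr Lrot13 (Lpr_ct (f55658 IH) (Lpr_dt (f55655 IH) (Lpr_ct (f73492 IH) (Lpe (f67475 IH) (Lpe (f67483 IH) (Lpr_dt (f67449 IH) (Lpr_ct (f67448 IH) (Lpr_dt (f61781 IH) (Lpr_ct (f61810 IH) (Lpn (LP (LK LD1_c1 LD2_c22 LD3_c2))))))))))))
theorem f73595 : Led Lsl_ft (LP (LK LD1_c1 LD2_c22 LD3_c2)) = (LP (LK LD1_c2 LD2_c52 LD3_c4)) :=
  Lre_f IH (LK LD1_c1 LD2_c22 LD3_c2) (LK LD1_c2 LD2_c52 LD3_c4) Lrfl Lrfl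
theorem f67450 : Led Lsl_ct (LP (LK LD1_c6 LD2_c27 LD3_c49)) = (LP (LK LD1_c3 LD2_c11 LD3_c48)) :=
  Lre_c IH (LK LD1_c6 LD2_c27 LD3_c49) (LK LD1_c3 LD2_c11 LD3_c48) Lrfl Lrfl
theorem f55397 : Led Lsl_dt (LP (LK LD1_c4 LD2_c6 LD3_c3)) = (LP (LK LD1_c8 LD2_c12 LD3_c52)) :=
  Lre_d IH (LK LD1_c4 LD2_c6 LD3_c3) (LK LD1_c8 LD2_c12 LD3_c52) Lrfl Lrfl
theorem f54845 : Led Lsl_et (LP (LK LD1_c4 LD2_c7 LD3_c3)) = (LP (LK LD1_c2 LD2_c0 LD3_c53)) :=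
  Lre_e IH (LK LD1_c4 LD2_c7 LD3_c3) (LK LD1_c2 LD2_c0 LD3_c53) Lrfl Lrfl
theorem f47907 : Led Lsl_dt (LP (LK LD1_c8 LD2_c14 LD3_c44)) = (LP (LK LD1_c4 LD2_c7 LD3_c3)) :=
  Lre_d IH (LK LD1_c8 LD2_c14 LD3_c44) (LK LD1_c4 LD2_c7 LD3_c3) Lrfl Lrfl
theorem f55398 : Led Lsl_et (LP (LK LD1_c8 LD2_c12 LD3_c52)) = (LP (LK LD1_c8 LD2_c14 LD3_c44)) :=
  Lgr Lrot71 (Lpe (f55397 IH) (Lpe (f55396 IH) (Lpr_df (K1.f55383 IH) (Lpe (f54845 IH) (Lpe (f47907 IH) (Lpn (LP (LK LD1_c8 LD2_c14 LD3_c44))))))))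
theorem f47905 : Led Lsl_ct (LP (LK LD1_c8 LD2_c14 LD3_c44)) = (LP (LK LD1_c15 LD2_c30 LD3_c39)) :=
  Lre_c IH (LK LD1_c8 LD2_c14 LD3_c44) (LK LD1_c15 LD2_c30 LD3_c39) Lrfl Lrfl
theorem f73496 : Led Lsl_et (LP (LK LD1_c15 LD2_c30 LD3_c39)) = (LP (LK LD1_c12 LD2_c13 LD3_c38)) :=
  Lgr Lrot158 (Lpe (f47905 IH) (Lpe (f55398 IH) (Lpr_cf (f73488 IH) (Lpn (LP (LK LD1_c12 LD2_c13 LD3_c38))))))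
theorem f73500 : Led Lsl_ef (LP (LK LD1_c15 LD2_c30 LD3_c39)) = (LP (LK LD1_c12 LD2_c13 LD3_c38)) :=
  Lgr Lrot88 (Lpr_et (f73496 IH) (Lpn (LP (LK LD1_c12 LD2_c13 LD3_c38))))
theorem f47908 : Led Lsl_ct (LP (LK LD1_c15 LD2_c30 LD3_c39)) = (LP (LK LD1_c8 LD2_c14 LD3_c44)) :=
  Lre_c IH (LK LD1_c15 LD2_c30 LD3_c39) (LK LD1_c8 LD2_c14 LD3_c44) Lrfl Lrfl
theorem f73494 : Led Lsl_ct (LP (LK LD1_c8 LD2_c12 LD3_c52)) = (LP (LK LD1_c12 LD2_c13 LD3_c38)) :=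
  Lgr Lrot59 (Lpr_cf (f73488 IH) (Lpn (LP (LK LD1_c12 LD2_c13 LD3_c38))))
theorem f73504 : Led Lsl_et (LP (LK LD1_c8 LD2_c14 LD3_c44)) = (LP (LK LD1_c8 LD2_c12 LD3_c52)) :=
  Lgr Lrot158 (Lpe (f47908 IH) (Lpr_ef (f73500 IH) (Lpe (f73494 IH) (Lpn (LP (LK LD1_c8 LD2_c12 LD3_c52))))))
theorem f55342 : Led Lsl_et (LP (LK LD1_c1 LD2_c59 LD3_c60)) = (LP (LK LD1_c4 LD2_c5 LD3_c34)) :=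
  Lre_e IH (LK LD1_c1 LD2_c59 LD3_c60) (LK LD1_c4 LD2_c5 LD3_c34) Lrfl Lrfl
theorem f55445 : Led Lsl_dt (LP (LK LD1_c4 LD2_c5 LD3_c34)) = (LP (LK LD1_c8 LD2_c12 LD3_c0)) :=
  Lre_d IH (LK LD1_c4 LD2_c5 LD3_c34) (LK LD1_c8 LD2_c12 LD3_c0) Lrfl Lrfl
theorem f55447 : Led Lsl_dt (LP (LK LD1_c8 LD2_c14 LD3_c57)) = (LP (LK LD1_c4 LD2_c7 LD3_c24)) :=
  Lre_d IH (LK LD1_c8 LD2_c14 LD3_c57) (LK LD1_c4 LD2_c7 LD3_c24) Lrfl Lrfl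
theorem f55448 : Led Lsl_et (LP (LK LD1_c8 LD2_c12 LD3_c0)) = (LP (LK LD1_c8 LD2_c14 LD3_c57)) :=
  Lgr Lrot71 (Lpe (f55445 IH) (Lpe (f55342 IH) (Lpr_df (K1.f55433 IH) (Lpe (f55446 IH) (Lpe (f55447 IH) (Lpn (LP (LK LD1_c8 LD2_c14 LD3_c57))))))))
theorem f55661 : Led Lsl_at (LP (LK LD1_c8 LD2_c14 LD3_c44)) = (LP (LK LD1_c8 LD2_c12 LD3_c0)) :=
  Lgr Lrot80 (Lpe (f55398 IH) (Lpr_af (f55656 IH) (Lpe (f55448 IH) (Lpn (LP (LK LD1_c8 LD2_c12 LD3_c0))))))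
theorem f55663 : Led Lsl_af (LP (LK LD1_c8 LD2_c14 LD3_c44)) = (LP (LK LD1_c8 LD2_c12 LD3_c0)) :=
  Lgr Lrot0 (Lpr_at (f55661 IH) (Lpn (LP (LK LD1_c8 LD2_c12 LD3_c0))))
theorem f73506 : Led Lsl_ef (LP (LK LD1_c8 LD2_c12 LD3_c0)) = (LP (LK LD1_c8 LD2_c14 LD3_c57)) :=
  Lgr Lrot20 (Lpe (f55663 IH) (Lpr_et (f73504 IH) (Lpr_at (f55659 IH) (Lpn (LP (LK LD1_c8 LD2_c14 LD3_c57))))))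
theorem f55666 : Led Lsl_ct (LP (LK LD1_c8 LD2_c12 LD3_c0)) = (LP (LK LD1_c15 LD2_c26 LD3_c8)) :=
  Lre_c IH (LK LD1_c8 LD2_c12 LD3_c0) (LK LD1_c15 LD2_c26 LD3_c8) Lrfl Lrfl
theorem f55667 : Led Lsl_af (LP (LK LD1_c15 LD2_c30 LD3_c39)) = (LP (LK LD1_c15 LD2_c26 LD3_c8)) :=
  Lgr Lrot68 (Lpr_ct (f47908 IH) (Lpr_at (f55661 IH) (Lpr_ct (f55666 IH) (Lpn (LP (LK LD1_c15 LD2_c26 LD3_c8))))))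
theorem f55678 : Led Lsl_at (LP (LK LD1_c15 LD2_c30 LD3_c39)) = (LP (LK LD1_c15 LD2_c26 LD3_c8)) :=
  Lgr Lrot100 (Lpr_af (f55667 IH) (Lpn (LP (LK LD1_c15 LD2_c26 LD3_c8))))
theorem f73502 : Led Lsl_et (LP (LK LD1_c15 LD2_c26 LD3_c8)) = (LP (LK LD1_c12 LD2_c26 LD3_c60)) :=
  Lgr Lrot123 (Lpe (f55678 IH) (Lpr_ef (f73500 IH) (Lpr_af (f67480 IH) (Lpn (LP (LK LD1_c12 LD2_c26 LD3_c60))))))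
theorem f73508 : Led Lsl_ct (LP (LK LD1_c12 LD2_c26 LD3_c60)) = (LP (LK LD1_c8 LD2_c14 LD3_c57)) :=
  Lgr Lrot15 (Lpe (f73502 IH) (Lpe (f55666 IH) (Lpr_ef (f73506 IH) (Lpn (LP (LK LD1_c8 LD2_c14 LD3_c57))))))
theorem f67514 : Led Lsl_dt (LP (LK LD1_c6 LD2_c27 LD3_c49)) = (LP (LK LD1_c12 LD2_c26 LD3_c60)) :=
  Lre_d IH (LK LD1_c6 LD2_c27 LD3_c49) (LK LD1_c12 LD2_c26 LD3_c60) Lrfl Lrfl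
theorem f67459 : Led Lsl_bt (LP (LK LD1_c3 LD2_c11 LD3_c48)) = (LP (LK LD1_c6 LD2_c27 LD3_c43)) :=
  Lre_b IH (LK LD1_c3 LD2_c11 LD3_c48) (LK LD1_c6 LD2_c27 LD3_c43) Lrfl Lrfl
theorem f68219 : Led Lsl_dt (LP (LK LD1_c1 LD2_c32 LD3_c56)) = (LP (LK LD1_c3 LD2_c11 LD3_c48)) :=
  Lgr Lrot79 (Lpe (K1.f66927 IH) (Lpr_df (f68207 IH) (Lpe (f67459 IH) (Lpn (LP (LK LD1_c3 LD2_c11 LD3_c48))))))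
theorem f55651 : Led Lsl_ct (LP (LK LD1_c4 LD2_c7 LD3_c24)) = (LP (LK LD1_c2 LD2_c1 LD3_c3)) :=
  Lre_c IH (LK LD1_c4 LD2_c7 LD3_c24) (LK LD1_c2 LD2_c1 LD3_c3) Lrfl Lrfl
theorem f55650 : Led Lsl_ct (LP (LK LD1_c2 LD2_c0 LD3_c19)) = (LP (LK LD1_c4 LD2_c6 LD3_c3)) :=
  Lre_c IH (LK LD1_c2 LD2_c0 LD3_c19) (LK LD1_c4 LD2_c6 LD3_c3) Lrfl Lrfl
theorem f55652 : Led Lsl_af (LP (LK LD1_c2 LD2_c0 LD3_c19)) = (LP (LK LD1_c2 LD2_c1 LD3_c3)) :=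
  Lgr Lrot68 (Lpr_ct (f55650 IH) (Lpr_at (f55646 IH) (Lpr_ct (f55651 IH) (Lpn (LP (LK LD1_c2 LD2_c1 LD3_c3))))))
theorem f55692 : Led Lsl_at (LP (LK LD1_c2 LD2_c0 LD3_c19)) = (LP (LK LD1_c2 LD2_c1 LD3_c3)) :=
  Lgr Lrot100 (Lpr_af (f55652 IH) (Lpn (LP (LK LD1_c2 LD2_c1 LD3_c3))))
theorem f55786 : Led Lsl_ft (LP (LK LD1_c4 LD2_c6 LD3_c6)) = (LP (LK LD1_c2 LD2_c0 LD3_c19)) :=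
  Lre_f IH (LK LD1_c4 LD2_c6 LD3_c6) (LK LD1_c2 LD2_c0 LD3_c19) Lrfl Lrfl
theorem f55699 : Led Lsl_ft (LP (LK LD1_c2 LD2_c0 LD3_c19)) = (LP (LK LD1_c4 LD2_c6 LD3_c6)) :=
  Lre_f IH (LK LD1_c2 LD2_c0 LD3_c19) (LK LD1_c4 LD2_c6 LD3_c6) Lrfl Lrfl
theorem f73204 : Led Lsl_ft (LP (LK LD1_c2 LD2_c49 LD3_c48)) = (LP (LK LD1_c1 LD2_c20 LD3_c60)) :=
  Lre_f IH (LK LD1_c2 LD2_c49 LD3_c48) (LK LD1_c1 LD2_c20 LD3_c60) Lrfl Lrfl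
theorem f73205 : Led Lsl_dt (LP (LK LD1_c4 LD2_c6 LD3_c6)) = (LP (LK LD1_c2 LD2_c49 LD3_c48)) :=
  Lgr Lrot60 (Lpe (f55699 IH) (Lpr_df (f73196 IH) (Lpe (f73204 IH) (Lpn (LP (LK LD1_c2 LD2_c49 LD3_c48))))))
theorem f73510 : Led Lsl_cf (LP (LK LD1_c1 LD2_c32 LD3_c56)) = (LP (LK LD1_c2 LD2_c49 LD3_c48)) :=
  Lgr Lrot118 (Lpr_dt (f68219 IH) (Lpr_ct (f67451 IH) (Lpr_dt (f67514 IH) (Lpr_ct (f73508 IH) (Lpr_dt (f55447 IH) (Lpr_ct (f55651 IH) (Lpe (f55692 IH) (Lpe (f55786 IH) (Lpr_dt (f73205 IH) (Lpn (LP (LK LD1_c2 LD2_c49 LD3_c48))))))))))))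
theorem f73512 : Led Lsl_ct (LP (LK LD1_c1 LD2_c32 LD3_c56)) = (LP (LK LD1_c2 LD2_c49 LD3_c48)) :=
  Lgr Lrot59 (Lpr_cf (f73510 IH) (Lpn (LP (LK LD1_c2 LD2_c49 LD3_c48))))
theorem f73596 : Led Lsl_at (LP (LK LD1_c2 LD2_c52 LD3_c4)) = (LP (LK LD1_c2 LD2_c49 LD3_c48)) :=
  Lgr Lrot33 (Lpe (f73595 IH) (Lpe (f73593 IH) (Lpr_ct (f55658 IH) (Lpr_dt (f55655 IH) (Lpr_ct (f73492 IH) (Lpr_dt (f67465 IH) (Lpr_ct (f67450 IH) (Lpe (f68273 IH) (Lpr_ct (f73512 IH) (Lpn (LP (LK LD1_c2 LD2_c49 LD3_c48))))))))))))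
theorem f73605 : Led Lsl_af (LP (LK LD1_c1 LD2_c22 LD3_c2)) = (LP (LK LD1_c1 LD2_c20 LD3_c60)) :=
  Lgr Lrot45 (Lpr_ft (f73595 IH) (Lpr_at (f73596 IH) (Lpr_ft (f73204 IH) (Lpn (LP (LK LD1_c1 LD2_c20 LD3_c60))))))
theorem f73617 : Led Lsl_at (LP (LK LD1_c0 LD2_c37 LD3_c58)) = (LP (LK LD1_c0 LD2_c37 LD3_c24)) :=
  Lgr Lrot80 (Lpe (f22250 IH) (Lpr_af (f73605 IH) (Lpe (f59431 IH) (Lpn (LP (LK LD1_c0 LD2_c37 LD3_c24))))))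
theorem f56667 : Led Lsl_gt (LP (LK LD1_c0 LD2_c24 LD3_c56)) = (LP (LK LD1_c0 LD2_c16 LD3_c42)) :=
  Lgr Lrot5 (Lpe (K1.f36267 IH) (Lpr_at (K1.f36269 IH) (Lpr_gf (K1.f56582 IH) (Lpn (LP (LK LD1_c0 LD2_c16 LD3_c42))))))
theorem f61248 : Led Lsl_ct (LP (LK LD1_c0 LD2_c19 LD3_c7)) = (LP (LK LD1_c0 LD2_c37 LD3_c21)) :=
  Lgr Lrot7 (Lpe (K1.f61004 IH) (Lpr_gf (K1.f61220 IH) (Lpe (K0.f26047 IH) (Lpr_gf (K0.f26049 IH) (Lpr_cf (K1.f36226 IH) (Lpr_gt (f56667 IH) (Lpr_dt (K1.f20266 IH) (Lpr_gt (K1.f20555 IH) (Lpr_dt (f61213 IH) (Lpn (LP (LK LD1_c0 LD2_c37 LD3_c21))))))))))))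
theorem f68310 : Led Lsl_ft (LP (LK LD1_c0 LD2_c37 LD3_c21)) = (LP (LK LD1_c0 LD2_c37 LD3_c58)) :=
  Lgr Lrot4 (Lpe (f61248 IH) (Lpr_ff (f68304 IH) (Lpr_cf (K1.f61764 IH) (Lpn (LP (LK LD1_c0 LD2_c37 LD3_c58))))))
theorem f68326 : Led Lsl_ft (LP (LK LD1_c0 LD2_c37 LD3_c24)) = (LP (LK LD1_c0 LD2_c37 LD3_c59)) :=
  Lgr Lrot4 (Lpr_cf (K1.f59426 IH) (Lpe (K1.f66939 IH) (Lpr_cf (f68316 IH) (Lpn (LP (LK LD1_c0 LD2_c37 LD3_c59))))))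
theorem f73628 : Led Lsl_af (LP (LK LD1_c0 LD2_c37 LD3_c21)) = (LP (LK LD1_c0 LD2_c37 LD3_c59)) :=
  Lgr Lrot45 (Lpr_ft (f68310 IH) (Lpr_at (f73617 IH) (Lpr_ft (f68326 IH) (Lpn (LP (LK LD1_c0 LD2_c37 LD3_c59))))))
theorem f61277 : Led Lsl_et (LP (LK LD1_c0 LD2_c37 LD3_c21)) = (LP (LK LD1_c1 LD2_c20 LD3_c53)) :=
  Lre_e IH (LK LD1_c0 LD2_c37 LD3_c21) (LK LD1_c1 LD2_c20 LD3_c53) Lrfl Lrfl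
theorem f20296 : Led Lsl_et (LP (LK LD1_c1 LD2_c22 LD3_c4)) = (LP (LK LD1_c0 LD2_c37 LD3_c59)) :=
  Lre_e IH (LK LD1_c1 LD2_c22 LD3_c4) (LK LD1_c0 LD2_c37 LD3_c59) Lrfl Lrfl
theorem f73633 : Led Lsl_at (LP (LK LD1_c1 LD2_c20 LD3_c53)) = (LP (LK LD1_c1 LD2_c22 LD3_c4)) :=
  Lgr Lrot80 (Lpe (f61277 IH) (Lpr_af (f73628 IH) (Lpe (f20296 IH) (Lpn (LP (LK LD1_c1 LD2_c22 LD3_c4))))))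
theorem f61431 : Led Lsl_ft (LP (LK LD1_c2 LD2_c49 LD3_c30)) = (LP (LK LD1_c1 LD2_c20 LD3_c53)) :=
  Lre_f IH (LK LD1_c2 LD2_c49 LD3_c30) (LK LD1_c1 LD2_c20 LD3_c53) Lrfl Lrfl
theorem f73646 : Led Lsl_ft (LP (LK LD1_c1 LD2_c22 LD3_c4)) = (LP (LK LD1_c2 LD2_c52 LD3_c9)) :=
  Lre_f IH (LK LD1_c1 LD2_c22 LD3_c4) (LK LD1_c2 LD2_c52 LD3_c9) Lrfl Lrfl
theorem f73647 : Led Lsl_af (LP (LK LD1_c2 LD2_c49 LD3_c30)) = (LP (LK LD1_c2 LD2_c52 LD3_c9)) :=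
  Lgr Lrot45 (Lpr_ft (f61431 IH) (Lpr_at (f73633 IH) (Lpr_ft (f73646 IH) (Lpn (LP (LK LD1_c2 LD2_c52 LD3_c9))))))
theorem f61479 : Led Lsl_dt (LP (LK LD1_c2 LD2_c49 LD3_c30)) = (LP (LK LD1_c5 LD2_c47 LD3_c13)) :=
  Lre_d IH (LK LD1_c2 LD2_c49 LD3_c30) (LK LD1_c5 LD2_c47 LD3_c13) Lrfl Lrfl
theorem f73655 : Led Lsl_dt (LP (LK LD1_c5 LD2_c51 LD3_c50)) = (LP (LK LD1_c2 LD2_c52 LD3_c9)) :=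
  Lre_d IH (LK LD1_c5 LD2_c51 LD3_c50) (LK LD1_c2 LD2_c52 LD3_c9) Lrfl Lrfl
theorem f73656 : Led Lsl_at (LP (LK LD1_c5 LD2_c47 LD3_c13)) = (LP (LK LD1_c5 LD2_c51 LD3_c50)) :=
  Lgr Lrot51 (Lpe (f61479 IH) (Lpr_af (f73647 IH) (Lpe (f73655 IH) (Lpn (LP (LK LD1_c5 LD2_c51 LD3_c50))))))
theorem f73659 : Led Lsl_af (LP (LK LD1_c5 LD2_c47 LD3_c13)) = (LP (LK LD1_c5 LD2_c51 LD3_c50)) :=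
  Lgr Lrot0 (Lpr_at (f73656 IH) (Lpn (LP (LK LD1_c5 LD2_c51 LD3_c50))))
theorem f73669 : Led Lsl_ft (LP (LK LD1_c2 LD2_c52 LD3_c8)) = (LP (LK LD1_c5 LD2_c51 LD3_c50)) :=
  Lre_f IH (LK LD1_c2 LD2_c52 LD3_c8) (LK LD1_c5 LD2_c51 LD3_c50) Lrfl Lrfl
theorem f73672 : Led Lsl_dt (LP (LK LD1_c2 LD2_c52 LD3_c8)) = (LP (LK LD1_c1 LD2_c22 LD3_c4)) :=
  Lre_d IH (LK LD1_c2 LD2_c52 LD3_c8) (LK LD1_c1 LD2_c22 LD3_c4) Lrfl Lrfl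
theorem f61278 : Led Lsl_cf (LP (LK LD1_c0 LD2_c42 LD3_c59)) = (LP (LK LD1_c1 LD2_c20 LD3_c53)) :=
  Lgr Lrot39 (Lpr_et (f61006 IH) (Lpr_ct (f61248 IH) (Lpr_et (f61277 IH) (Lpn (LP (LK LD1_c1 LD2_c20 LD3_c53))))))
theorem f61426 : Led Lsl_ct (LP (LK LD1_c0 LD2_c42 LD3_c59)) = (LP (LK LD1_c1 LD2_c20 LD3_c53)) :=
  Lgr Lrot59 (Lpr_cf (f61278 IH) (Lpn (LP (LK LD1_c1 LD2_c20 LD3_c53))))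
theorem f66959 : Led Lsl_at (LP (LK LD1_c0 LD2_c41 LD3_c26)) = (LP (LK LD1_c0 LD2_c42 LD3_c59)) :=
  Lgr Lrot100 (Lpr_af (f66957 IH) (Lpn (LP (LK LD1_c0 LD2_c42 LD3_c59))))
theorem f73642 : Led Lsl_cf (LP (LK LD1_c0 LD2_c41 LD3_c26)) = (LP (LK LD1_c1 LD2_c22 LD3_c4)) :=
  Lgr Lrot1 (Lpr_at (f66959 IH) (Lpr_ct (f61426 IH) (Lpr_at (f73633 IH) (Lpn (LP (LK LD1_c1 LD2_c22 LD3_c4))))))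
theorem f66945 : Led Lsl_et (LP (LK LD1_c0 LD2_c18 LD3_c32)) = (LP (LK LD1_c0 LD2_c41 LD3_c26)) :=
  Lre_e IH (LK LD1_c0 LD2_c18 LD3_c32) (LK LD1_c0 LD2_c41 LD3_c26) Lrfl Lrfl
theorem f61834 : Led Lsl_et (LP (LK LD1_c0 LD2_c20 LD3_c20)) = (LP (LK LD1_c0 LD2_c9 LD3_c9)) :=
  Lre_e IH (LK LD1_c0 LD2_c20 LD3_c20) (LK LD1_c0 LD2_c9 LD3_c9) Lrfl Lrfl
theorem f67075 : Led Lsl_dt (LP (LK LD1_c0 LD2_c41 LD3_c26)) = (LP (LK LD1_c0 LD2_c20 LD3_c20)) :=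
  Lgr Lrot77 (Lpe (f66945 IH) (Lpe (K1.f25180 IH) (Lpr_ef (K1.f67053 IH) (Lpe (K1.f3826 IH) (Lpe (f61834 IH) (Lpn (LP (LK LD1_c0 LD2_c20 LD3_c20))))))))
theorem f73673 : Led Lsl_ct (LP (LK LD1_c0 LD2_c20 LD3_c20)) = (LP (LK LD1_c0 LD2_c45 LD3_c34)) :=
  Lre_c IH (LK LD1_c0 LD2_c20 LD3_c20) (LK LD1_c0 LD2_c45 LD3_c34) Lrfl Lrfl
theorem f69273 : Led Lsl_dt (LP (LK LD1_c0 LD2_c45 LD3_c34)) = (LP (LK LD1_c1 LD2_c38 LD3_c21)) :=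
  Lre_d IH (LK LD1_c0 LD2_c45 LD3_c34) (LK LD1_c1 LD2_c38 LD3_c21) Lrfl Lrfl
theorem f73674 : Led Lsl_ct (LP (LK LD1_c1 LD2_c38 LD3_c21)) = (LP (LK LD1_c3 LD2_c24 LD3_c9)) :=
  Lre_c IH (LK LD1_c1 LD2_c38 LD3_c21) (LK LD1_c3 LD2_c24 LD3_c9) Lrfl Lrfl
theorem f73675 : Led Lsl_dt (LP (LK LD1_c3 LD2_c24 LD3_c9)) = (LP (LK LD1_c6 LD2_c51 LD3_c18)) :=
  Lre_d IH (LK LD1_c3 LD2_c24 LD3_c9) (LK LD1_c6 LD2_c51 LD3_c18) Lrfl Lrfl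
theorem f73676 : Led Lsl_cf (LP (LK LD1_c5 LD2_c47 LD3_c13)) = (LP (LK LD1_c6 LD2_c51 LD3_c18)) :=
  Lgr Lrot102 (Lpr_af (f73659 IH) (Lpe (f73669 IH) (Lpr_dt (f73672 IH) (Lpe (f73642 IH) (Lpr_dt (f67075 IH) (Lpr_ct (f73673 IH) (Lpr_dt (f69273 IH) (Lpr_ct (f73674 IH) (Lpr_dt (f73675 IH) (Lpn (LP (LK LD1_c6 LD2_c51 LD3_c18))))))))))))
theorem f73683 : Led Lsl_ct (LP (LK LD1_c5 LD2_c47 LD3_c13)) = (LP (LK LD1_c6 LD2_c51 LD3_c18)) :=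
  Lgr Lrot59 (Lpr_cf (f73676 IH) (Lpn (LP (LK LD1_c6 LD2_c51 LD3_c18))))
theorem f61430 : Led Lsl_ft (LP (LK LD1_c0 LD2_c42 LD3_c59)) = (LP (LK LD1_c1 LD2_c32 LD3_c50)) :=
  Lre_f IH (LK LD1_c0 LD2_c42 LD3_c59) (LK LD1_c1 LD2_c32 LD3_c50) Lrfl Lrfl
theorem f61432 : Led Lsl_ct (LP (LK LD1_c1 LD2_c32 LD3_c50)) = (LP (LK LD1_c2 LD2_c49 LD3_c30)) :=
  Lgr Lrot40 (Lpe (f61430 IH) (Lpr_cf (f61278 IH) (Lpe (f61431 IH) (Lpn (LP (LK LD1_c2 LD2_c49 LD3_c30))))))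
theorem f73695 : Led Lsl_dt (LP (LK LD1_c6 LD2_c51 LD3_c18)) = (LP (LK LD1_c3 LD2_c24 LD3_c9)) :=
  Lre_d IH (LK LD1_c6 LD2_c51 LD3_c18) (LK LD1_c3 LD2_c24 LD3_c9) Lrfl Lrfl
theorem f73702 : Led Lsl_ct (LP (LK LD1_c3 LD2_c24 LD3_c9)) = (LP (LK LD1_c1 LD2_c38 LD3_c21)) :=
  Lre_c IH (LK LD1_c3 LD2_c24 LD3_c9) (LK LD1_c1 LD2_c38 LD3_c21) Lrfl Lrfl
theorem f73703 : Led Lsl_dt (LP (LK LD1_c1 LD2_c38 LD3_c21)) = (LP (LK LD1_c0 LD2_c45 LD3_c34)) :=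
  Lre_d IH (LK LD1_c1 LD2_c38 LD3_c21) (LK LD1_c0 LD2_c45 LD3_c34) Lrfl Lrfl
theorem f73704 : Led Lsl_ct (LP (LK LD1_c0 LD2_c45 LD3_c34)) = (LP (LK LD1_c0 LD2_c20 LD3_c20)) :=
  Lre_c IH (LK LD1_c0 LD2_c45 LD3_c34) (LK LD1_c0 LD2_c20 LD3_c20) Lrfl Lrfl
theorem f73736 : Led Lsl_at (LP (LK LD1_c0 LD2_c45 LD3_c12)) = (LP (LK LD1_c0 LD2_c20 LD3_c20)) :=
  Lre_a IH (LK LD1_c0 LD2_c45 LD3_c12) (LK LD1_c0 LD2_c20 LD3_c20) Lrfl Lrfl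
theorem f73737 : Led Lsl_ft (LP (LK LD1_c1 LD2_c37 LD3_c40)) = (LP (LK LD1_c0 LD2_c45 LD3_c12)) :=
  Lre_f IH (LK LD1_c1 LD2_c37 LD3_c40) (LK LD1_c0 LD2_c45 LD3_c12) Lrfl Lrfl
theorem f73738 : Led Lsl_df (LP (LK LD1_c1 LD2_c32 LD3_c50)) = (LP (LK LD1_c1 LD2_c37 LD3_c40)) :=
  Lgr Lrot157 (Lpr_ct (f61432 IH) (Lpr_dt (f61479 IH) (Lpr_ct (f73683 IH) (Lpr_dt (f73695 IH) (Lpr_ct (f73702 IH) (Lpr_dt (f73703 IH) (Lpr_ct (f73704 IH) (Lpe (f73736 IH) (Lpe (f73737 IH) (Lpn (LP (LK LD1_c1 LD2_c37 LD3_c40))))))))))))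
theorem f73750 : Led Lsl_ft (LP (LK LD1_c0 LD2_c45 LD3_c12)) = (LP (LK LD1_c1 LD2_c37 LD3_c40)) :=
  Lre_f IH (LK LD1_c0 LD2_c45 LD3_c12) (LK LD1_c1 LD2_c37 LD3_c40) Lrfl Lrfl
theorem f73751 : Led Lsl_dt (LP (LK LD1_c0 LD2_c42 LD3_c59)) = (LP (LK LD1_c0 LD2_c45 LD3_c12)) :=
  Lgr Lrot60 (Lpe (f61490 IH) (Lpr_df (f73738 IH) (Lpe (f73750 IH) (Lpn (LP (LK LD1_c0 LD2_c45 LD3_c12))))))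
theorem f73760 : Led Lsl_ct (LP (LK LD1_c0 LD2_c45 LD3_c12)) = (LP (LK LD1_c1 LD2_c11 LD3_c5)) :=
  Lre_c IH (LK LD1_c0 LD2_c45 LD3_c12) (LK LD1_c1 LD2_c11 LD3_c5) Lrfl Lrfl
theorem f20430 : Led Lsl_dt (LP (LK LD1_c1 LD2_c11 LD3_c5)) = (LP (LK LD1_c2 LD2_c27 LD3_c55)) :=
  Lre_d IH (LK LD1_c1 LD2_c11 LD3_c5) (LK LD1_c2 LD2_c27 LD3_c55) Lrfl Lrfl
theorem f73761 : Led Lsl_ct (LP (LK LD1_c2 LD2_c27 LD3_c55)) = (LP (LK LD1_c5 LD2_c0 LD3_c23)) :=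
  Lre_c IH (LK LD1_c2 LD2_c27 LD3_c55) (LK LD1_c5 LD2_c0 LD3_c23) Lrfl Lrfl
theorem f73762 : Led Lsl_dt (LP (LK LD1_c5 LD2_c0 LD3_c23)) = (LP (LK LD1_c9 LD2_c51 LD3_c7)) :=
  Lre_d IH (LK LD1_c5 LD2_c0 LD3_c23) (LK LD1_c9 LD2_c51 LD3_c7) Lrfl Lrfl
theorem f73692 : Led Lsl_at (LP (LK LD1_c6 LD2_c51 LD3_c18)) = (LP (LK LD1_c9 LD2_c51 LD3_c7)) :=
  Lre_a IH (LK LD1_c6 LD2_c51 LD3_c18) (LK LD1_c9 LD2_c51 LD3_c7) Lrfl Lrfl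
theorem f73732 : Led Lsl_cf (LP (LK LD1_c5 LD2_c51 LD3_c50)) = (LP (LK LD1_c9 LD2_c51 LD3_c7)) :=
  Lgr Lrot1 (Lpe (f73659 IH) (Lpr_ct (f73683 IH) (Lpr_at (f73692 IH) (Lpn (LP (LK LD1_c9 LD2_c51 LD3_c7))))))
theorem f73765 : Led Lsl_cf (LP (LK LD1_c1 LD2_c29 LD3_c39)) = (LP (LK LD1_c2 LD2_c52 LD3_c9)) :=
  Lgr Lrot102 (Lpr_af (f66971 IH) (Lpe (f61430 IH) (Lpr_dt (f73751 IH) (Lpr_ct (f73760 IH) (Lpr_dt (f20430 IH) (Lpr_ct (f73761 IH) (Lpr_dt (f73762 IH) (Lpe (f73732 IH) (Lpr_dt (f73655 IH) (Lpn (LP (LK LD1_c2 LD2_c52 LD3_c9))))))))))))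
theorem f73787 : Led Lsl_et (LP (LK LD1_c2 LD2_c49 LD3_c48)) = (LP (LK LD1_c2 LD2_c52 LD3_c9)) :=
  Lgr Lrot158 (Lpe (f73512 IH) (Lpe (f66916 IH) (Lpr_cf (f73765 IH) (Lpn (LP (LK LD1_c2 LD2_c52 LD3_c9))))))
theorem f73794 : Led Lsl_ef (LP (LK LD1_c2 LD2_c49 LD3_c48)) = (LP (LK LD1_c2 LD2_c52 LD3_c9)) :=
  Lgr Lrot88 (Lpr_et (f73787 IH) (Lpn (LP (LK LD1_c2 LD2_c52 LD3_c9))))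
theorem f73223 : Led Lsl_bt (LP (LK LD1_c2 LD2_c49 LD3_c48)) = (LP (LK LD1_c5 LD2_c47 LD3_c36)) :=
  Lre_b IH (LK LD1_c2 LD2_c49 LD3_c48) (LK LD1_c5 LD2_c47 LD3_c36) Lrfl Lrfl
theorem f73652 : Led Lsl_bt (LP (LK LD1_c5 LD2_c51 LD3_c48)) = (LP (LK LD1_c2 LD2_c52 LD3_c9)) :=
  Lre_b IH (LK LD1_c5 LD2_c51 LD3_c48) (LK LD1_c2 LD2_c52 LD3_c9) Lrfl Lrfl
theorem f73799 : Led Lsl_et (LP (LK LD1_c5 LD2_c47 LD3_c36)) = (LP (LK LD1_c5 LD2_c51 LD3_c48)) :=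
  Lgr Lrot74 (Lpe (f73223 IH) (Lpr_ef (f73794 IH) (Lpe (f73652 IH) (Lpn (LP (LK LD1_c5 LD2_c51 LD3_c48))))))
theorem f73260 : Led Lsl_ft (LP (LK LD1_c2 LD2_c49 LD3_c45)) = (LP (LK LD1_c5 LD2_c47 LD3_c36)) :=
  Lre_f IH (LK LD1_c2 LD2_c49 LD3_c45) (LK LD1_c5 LD2_c47 LD3_c36) Lrfl Lrfl
theorem f73257 : Led Lsl_et (LP (LK LD1_c1 LD2_c20 LD3_c59)) = (LP (LK LD1_c2 LD2_c49 LD3_c45)) :=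
  Lre_e IH (LK LD1_c1 LD2_c20 LD3_c59) (LK LD1_c2 LD2_c49 LD3_c45) Lrfl Lrfl
theorem f73802 : Led Lsl_ft (LP (LK LD1_c5 LD2_c51 LD3_c48)) = (LP (LK LD1_c2 LD2_c52 LD3_c7)) :=
  Lre_f IH (LK LD1_c5 LD2_c51 LD3_c48) (LK LD1_c2 LD2_c52 LD3_c7) Lrfl Lrfl
theorem f73803 : Led Lsl_et (LP (LK LD1_c2 LD2_c52 LD3_c7)) = (LP (LK LD1_c1 LD2_c22 LD3_c3)) :=
  Lre_e IH (LK LD1_c2 LD2_c52 LD3_c7) (LK LD1_c1 LD2_c22 LD3_c3) Lrfl Lrfl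
theorem f73804 : Led Lsl_ff (LP (LK LD1_c1 LD2_c20 LD3_c59)) = (LP (LK LD1_c1 LD2_c22 LD3_c3)) :=
  Lgr Lrot72 (Lpr_et (f73257 IH) (Lpr_ft (f73260 IH) (Lpr_et (f73799 IH) (Lpr_ft (f73802 IH) (Lpr_et (f73803 IH) (Lpn (LP (LK LD1_c1 LD2_c22 LD3_c3))))))))
theorem f73812 : Led Lsl_ft (LP (LK LD1_c1 LD2_c20 LD3_c59)) = (LP (LK LD1_c1 LD2_c22 LD3_c3)) :=
  Lgr Lrot48 (Lpr_ff (f73804 IH) (Lpn (LP (LK LD1_c1 LD2_c22 LD3_c3))))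
theorem f73467 : Led Lsl_at (LP (LK LD1_c2 LD2_c49 LD3_c38)) = (LP (LK LD1_c1 LD2_c20 LD3_c59)) :=
  Lre_a IH (LK LD1_c2 LD2_c49 LD3_c38) (LK LD1_c1 LD2_c20 LD3_c59) Lrfl Lrfl
theorem f73814 : Led Lsl_at (LP (LK LD1_c1 LD2_c22 LD3_c3)) = (LP (LK LD1_c2 LD2_c52 LD3_c5)) :=
  Lre_a IH (LK LD1_c1 LD2_c22 LD3_c3) (LK LD1_c2 LD2_c52 LD3_c5) Lrfl Lrfl
theorem f73815 : Led Lsl_ff (LP (LK LD1_c2 LD2_c49 LD3_c38)) = (LP (LK LD1_c2 LD2_c52 LD3_c5)) :=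
  Lgr Lrot30 (Lpr_at (f73467 IH) (Lpr_ft (f73812 IH) (Lpr_at (f73814 IH) (Lpn (LP (LK LD1_c2 LD2_c52 LD3_c5))))))
theorem f72899 : Led Lsl_at (LP (LK LD1_c1 LD2_c20 LD3_c51)) = (LP (LK LD1_c2 LD2_c49 LD3_c22)) :=
  Lre_a IH (LK LD1_c1 LD2_c20 LD3_c51) (LK LD1_c2 LD2_c49 LD3_c22) Lrfl Lrfl
theorem f8342 : Led Lsl_bt (LP (LK LD1_c1 LD2_c22 LD3_c3)) = (LP (LK LD1_c0 LD2_c37 LD3_c59)) :=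
  Lre_b IH (LK LD1_c1 LD2_c22 LD3_c3) (LK LD1_c0 LD2_c37 LD3_c59) Lrfl Lrfl
theorem f73630 : Led Lsl_at (LP (LK LD1_c2 LD2_c52 LD3_c5)) = (LP (LK LD1_c1 LD2_c22 LD3_c3)) :=
  Lre_a IH (LK LD1_c2 LD2_c52 LD3_c5) (LK LD1_c1 LD2_c22 LD3_c3) Lrfl Lrfl
theorem f73631 : Led Lsl_bt (LP (LK LD1_c2 LD2_c49 LD3_c22)) = (LP (LK LD1_c2 LD2_c52 LD3_c5)) :=
  Lgr Lrot62 (Lpe (f72899 IH) (Lpe (f61250 IH) (Lpr_af (f73628 IH) (Lpe (f8342 IH) (Lpe (f73630 IH) (Lpn (LP (LK LD1_c2 LD2_c52 LD3_c5))))))))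
theorem f72443 : Led Lsl_gt (LP (LK LD1_c2 LD2_c27 LD3_c9)) = (LP (LK LD1_c1 LD2_c10 LD3_c55)) :=
  Lre_g IH (LK LD1_c2 LD2_c27 LD3_c9) (LK LD1_c1 LD2_c10 LD3_c55) Lrfl Lrfl
theorem f72444 : Led Lsl_at (LP (LK LD1_c2 LD2_c49 LD3_c22)) = (LP (LK LD1_c1 LD2_c20 LD3_c51)) :=
  Lre_a IH (LK LD1_c2 LD2_c49 LD3_c22) (LK LD1_c1 LD2_c20 LD3_c51) Lrfl Lrfl
theorem f72445 : Led Lsl_ft (LP (LK LD1_c2 LD2_c27 LD3_c9)) = (LP (LK LD1_c2 LD2_c49 LD3_c22)) :=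
  Lgr Lrot2 (Lpr_gt (f72443 IH) (Lpr_gt (f72439 IH) (Lpe (f72444 IH) (Lpn (LP (LK LD1_c2 LD2_c49 LD3_c22))))))
theorem f74174 : Led Lsl_bt (LP (LK LD1_c2 LD2_c49 LD3_c38)) = (LP (LK LD1_c2 LD2_c27 LD3_c9)) :=
  Lgr Lrot35 (Lpr_ff (f73815 IH) (Lpe (f73631 IH) (Lpe (f72445 IH) (Lpn (LP (LK LD1_c2 LD2_c27 LD3_c9))))))
theorem f73448 : Led Lsl_et (LP (LK LD1_c5 LD2_c47 LD3_c21)) = (LP (LK LD1_c2 LD2_c49 LD3_c38)) :=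
  Lre_e IH (LK LD1_c5 LD2_c47 LD3_c21) (LK LD1_c2 LD2_c49 LD3_c38) Lrfl Lrfl
theorem f74194 : Led Lsl_et (LP (LK LD1_c2 LD2_c27 LD3_c9)) = (LP (LK LD1_c4 LD2_c58 LD3_c36)) :=
  Lre_e IH (LK LD1_c2 LD2_c27 LD3_c9) (LK LD1_c4 LD2_c58 LD3_c36) Lrfl Lrfl
theorem f74195 : Led Lsl_bf (LP (LK LD1_c5 LD2_c47 LD3_c21)) = (LP (LK LD1_c4 LD2_c58 LD3_c36)) :=
  Lgr Lrot96 (Lpr_et (f73448 IH) (Lpr_bt (f74174 IH) (Lpr_et (f74194 IH) (Lpn (LP (LK LD1_c4 LD2_c58 LD3_c36))))))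
theorem f73443 : Led Lsl_ft (LP (LK LD1_c5 LD2_c47 LD3_c21)) = (LP (LK LD1_c11 LD2_c24 LD3_c48)) :=
  Lre_f IH (LK LD1_c5 LD2_c47 LD3_c21) (LK LD1_c11 LD2_c24 LD3_c48) Lrfl Lrfl
theorem f74208 : Led Lsl_ft (LP (LK LD1_c9 LD2_c47 LD3_c44)) = (LP (LK LD1_c4 LD2_c58 LD3_c36)) :=
  Lre_f IH (LK LD1_c9 LD2_c47 LD3_c44) (LK LD1_c4 LD2_c58 LD3_c36) Lrfl Lrfl
theorem f74209 : Led Lsl_bt (LP (LK LD1_c11 LD2_c24 LD3_c48)) = (LP (LK LD1_c9 LD2_c47 LD3_c44)) :=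
  Lgr Lrot35 (Lpe (f73443 IH) (Lpr_bf (f74195 IH) (Lpe (f74208 IH) (Lpn (LP (LK LD1_c9 LD2_c47 LD3_c44))))))
theorem f74217 : Led Lsl_bf (LP (LK LD1_c11 LD2_c24 LD3_c48)) = (LP (LK LD1_c9 LD2_c47 LD3_c44)) :=
  Lgr Lrot24 (Lpr_bt (f74209 IH) (Lpn (LP (LK LD1_c9 LD2_c47 LD3_c44))))
theorem f73444 : Led Lsl_at (LP (LK LD1_c11 LD2_c24 LD3_c48)) = (LP (LK LD1_c5 LD2_c47 LD3_c36)) :=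
  Lre_a IH (LK LD1_c11 LD2_c24 LD3_c48) (LK LD1_c5 LD2_c47 LD3_c36) Lrfl Lrfl
theorem f73228 : Led Lsl_bt (LP (LK LD1_c5 LD2_c47 LD3_c36)) = (LP (LK LD1_c2 LD2_c49 LD3_c48)) :=
  Lre_b IH (LK LD1_c5 LD2_c47 LD3_c36) (LK LD1_c2 LD2_c49 LD3_c48) Lrfl Lrfl
theorem f73598 : Led Lsl_af (LP (LK LD1_c2 LD2_c52 LD3_c4)) = (LP (LK LD1_c2 LD2_c49 LD3_c48)) :=
  Lgr Lrot0 (Lpr_at (f73596 IH) (Lpn (LP (LK LD1_c2 LD2_c49 LD3_c48))))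
theorem f74220 : Led Lsl_bt (LP (LK LD1_c2 LD2_c52 LD3_c4)) = (LP (LK LD1_c5 LD2_c51 LD3_c38)) :=
  Lre_b IH (LK LD1_c2 LD2_c52 LD3_c4) (LK LD1_c5 LD2_c51 LD3_c38) Lrfl Lrfl
theorem f74221 : Led Lsl_at (LP (LK LD1_c5 LD2_c51 LD3_c38)) = (LP (LK LD1_c9 LD2_c47 LD3_c44)) :=
  Lgr Lrot67 (Lpe (f74220 IH) (Lpr_af (f73598 IH) (Lpe (f73228 IH) (Lpe (f73444 IH) (Lpr_bf (f74217 IH) (Lpn (LP (LK LD1_c9 LD2_c47 LD3_c44))))))))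
theorem f74232 : Led Lsl_ft (LP (LK LD1_c2 LD2_c52 LD3_c1)) = (LP (LK LD1_c5 LD2_c51 LD3_c38)) :=
  Lre_f IH (LK LD1_c2 LD2_c52 LD3_c1) (LK LD1_c5 LD2_c51 LD3_c38) Lrfl Lrfl
theorem f74233 : Led Lsl_af (LP (LK LD1_c2 LD2_c52 LD3_c1)) = (LP (LK LD1_c4 LD2_c58 LD3_c36)) :=
  Lgr Lrot45 (Lpr_ft (f74232 IH) (Lpr_at (f74221 IH) (Lpr_ft (f74208 IH) (Lpn (LP (LK LD1_c4 LD2_c58 LD3_c36))))))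
theorem f74243 : Led Lsl_et (LP (LK LD1_c2 LD2_c52 LD3_c1)) = (LP (LK LD1_c1 LD2_c22 LD3_c1)) :=
  Lre_e IH (LK LD1_c2 LD2_c52 LD3_c1) (LK LD1_c1 LD2_c22 LD3_c1) Lrfl Lrfl
theorem f74244 : Led Lsl_at (LP (LK LD1_c1 LD2_c22 LD3_c1)) = (LP (LK LD1_c2 LD2_c27 LD3_c9)) :=
  Lgr Lrot80 (Lpe (f74243 IH) (Lpr_af (f74233 IH) (Lpe (f74194 IH) (Lpn (LP (LK LD1_c2 LD2_c27 LD3_c9))))))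
theorem f74259 : Led Lsl_ff (LP (LK LD1_c1 LD2_c22 LD3_c1)) = (LP (LK LD1_c1 LD2_c20 LD3_c51)) :=
  Lgr Lrot30 (Lpr_at (f74244 IH) (Lpr_ft (f72445 IH) (Lpr_at (f72444 IH) (Lpn (LP (LK LD1_c1 LD2_c20 LD3_c51))))))
theorem f72819 : Led Lsl_dt (LP (LK LD1_c0 LD2_c39 LD3_c48)) = (LP (LK LD1_c1 LD2_c5 LD3_c40)) :=
  Lre_d IH (LK LD1_c0 LD2_c39 LD3_c48) (LK LD1_c1 LD2_c5 LD3_c40) Lrfl Lrfl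
theorem f22840 : Led Lsl_ct (LP (LK LD1_c1 LD2_c5 LD3_c40)) = (LP (LK LD1_c2 LD2_c17 LD3_c22)) :=
  Lre_c IH (LK LD1_c1 LD2_c5 LD3_c40) (LK LD1_c2 LD2_c17 LD3_c22) Lrfl Lrfl
theorem f72820 : Led Lsl_dt (LP (LK LD1_c2 LD2_c17 LD3_c22)) = (LP (LK LD1_c4 LD2_c40 LD3_c37)) :=
  Lre_d IH (LK LD1_c2 LD2_c17 LD3_c22) (LK LD1_c4 LD2_c40 LD3_c37) Lrfl Lrfl
theorem f72821 : Led Lsl_ct (LP (LK LD1_c4 LD2_c40 LD3_c37)) = (LP (LK LD1_c9 LD2_c16 LD3_c34)) :=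
  Lre_c IH (LK LD1_c4 LD2_c40 LD3_c37) (LK LD1_c9 LD2_c16 LD3_c34) Lrfl Lrfl
theorem f74261 : Led Lsl_ct (LP (LK LD1_c4 LD2_c58 LD3_c35)) = (LP (LK LD1_c2 LD2_c27 LD3_c9)) :=
  Lre_c IH (LK LD1_c4 LD2_c58 LD3_c35) (LK LD1_c2 LD2_c27 LD3_c9) Lrfl Lrfl
theorem f74262 : Led Lsl_dt (LP (LK LD1_c9 LD2_c16 LD3_c34)) = (LP (LK LD1_c4 LD2_c58 LD3_c35)) :=
  Lgr Lrot120 (Lpe (f72821 IH) (Lpe (f72820 IH) (Lpe (f22840 IH) (Lpe (f72819 IH) (Lpr_cf (f72464 IH) (Lpe (f72454 IH) (Lpe (f74259 IH) (Lpr_at (f74244 IH) (Lpe (f74261 IH) (Lpn (LP (LK LD1_c4 LD2_c58 LD3_c35))))))))))))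
theorem f72883 : Led Lsl_ft (LP (LK LD1_c6 LD2_c8 LD3_c37)) = (LP (LK LD1_c9 LD2_c16 LD3_c34)) :=
  Lre_f IH (LK LD1_c6 LD2_c8 LD3_c37) (LK LD1_c9 LD2_c16 LD3_c34) Lrfl Lrfl
theorem f72837 : Led Lsl_ff (LP (LK LD1_c0 LD2_c39 LD3_c4)) = (LP (LK LD1_c0 LD2_c37 LD3_c20)) :=
  Lgr Lrot3 (Lpr_ft (f72827 IH) (Lpn (LP (LK LD1_c0 LD2_c37 LD3_c20))))
theorem f56012 : Led Lsl_at (LP (LK LD1_c0 LD2_c39 LD3_c4)) = (LP (LK LD1_c1 LD2_c24 LD3_c50)) :=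
  Lre_a IH (LK LD1_c0 LD2_c39 LD3_c4) (LK LD1_c1 LD2_c24 LD3_c50) Lrfl Lrfl
theorem f72814 : Led Lsl_at (LP (LK LD1_c1 LD2_c20 LD3_c50)) = (LP (LK LD1_c0 LD2_c37 LD3_c20)) :=
  Lre_a IH (LK LD1_c1 LD2_c20 LD3_c50) (LK LD1_c0 LD2_c37 LD3_c20) Lrfl Lrfl
theorem f72855 : Led Lsl_ft (LP (LK LD1_c1 LD2_c24 LD3_c50)) = (LP (LK LD1_c1 LD2_c20 LD3_c50)) :=
  Lgr Lrot101 (Lpe (f56012 IH) (Lpr_ff (f72837 IH) (Lpe (f72814 IH) (Lpn (LP (LK LD1_c1 LD2_c20 LD3_c50))))))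
theorem f72860 : Led Lsl_ct (LP (LK LD1_c0 LD2_c39 LD3_c46)) = (LP (LK LD1_c1 LD2_c24 LD3_c50)) :=
  Lre_c IH (LK LD1_c0 LD2_c39 LD3_c46) (LK LD1_c1 LD2_c24 LD3_c50) Lrfl Lrfl
theorem f72862 : Led Lsl_ft (LP (LK LD1_c1 LD2_c25 LD3_c61)) = (LP (LK LD1_c0 LD2_c39 LD3_c46)) :=
  Lre_f IH (LK LD1_c1 LD2_c25 LD3_c61) (LK LD1_c0 LD2_c39 LD3_c46) Lrfl Lrfl
theorem f72863 : Led Lsl_cf (LP (LK LD1_c1 LD2_c25 LD3_c61)) = (LP (LK LD1_c1 LD2_c20 LD3_c50)) :=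
  Lgr Lrot108 (Lpr_ft (f72862 IH) (Lpr_ct (f72860 IH) (Lpr_ft (f72855 IH) (Lpn (LP (LK LD1_c1 LD2_c20 LD3_c50))))))
theorem f72813 : Led Lsl_at (LP (LK LD1_c0 LD2_c39 LD3_c48)) = (LP (LK LD1_c1 LD2_c25 LD3_c61)) :=
  Lre_a IH (LK LD1_c0 LD2_c39 LD3_c48) (LK LD1_c1 LD2_c25 LD3_c61) Lrfl Lrfl
theorem f72857 : Led Lsl_ft (LP (LK LD1_c0 LD2_c17 LD3_c49)) = (LP (LK LD1_c0 LD2_c39 LD3_c48)) :=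
  Lre_f IH (LK LD1_c0 LD2_c17 LD3_c49) (LK LD1_c0 LD2_c39 LD3_c48) Lrfl Lrfl
theorem f72876 : Led Lsl_dt (LP (LK LD1_c0 LD2_c17 LD3_c49)) = (LP (LK LD1_c0 LD2_c39 LD3_c47)) :=
  Lre_d IH (LK LD1_c0 LD2_c17 LD3_c49) (LK LD1_c0 LD2_c39 LD3_c47) Lrfl Lrfl
theorem f23018 : Led Lsl_ct (LP (LK LD1_c0 LD2_c39 LD3_c47)) = (LP (LK LD1_c1 LD2_c26 LD3_c8)) :=
  Lre_c IH (LK LD1_c0 LD2_c39 LD3_c47) (LK LD1_c1 LD2_c26 LD3_c8) Lrfl Lrfl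
theorem f72877 : Led Lsl_dt (LP (LK LD1_c1 LD2_c26 LD3_c8)) = (LP (LK LD1_c3 LD2_c0 LD3_c38)) :=
  Lre_d IH (LK LD1_c1 LD2_c26 LD3_c8) (LK LD1_c3 LD2_c0 LD3_c38) Lrfl Lrfl
theorem f72878 : Led Lsl_ct (LP (LK LD1_c3 LD2_c0 LD3_c38)) = (LP (LK LD1_c6 LD2_c8 LD3_c37)) :=
  Lre_c IH (LK LD1_c3 LD2_c0 LD3_c38) (LK LD1_c6 LD2_c8 LD3_c37) Lrfl Lrfl
theorem f72849 : Led Lsl_dt (LP (LK LD1_c2 LD2_c49 LD3_c22)) = (LP (LK LD1_c1 LD2_c20 LD3_c50)) :=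
  Lre_d IH (LK LD1_c2 LD2_c49 LD3_c22) (LK LD1_c1 LD2_c20 LD3_c50) Lrfl Lrfl
theorem f72845 : Led Lsl_ct (LP (LK LD1_c5 LD2_c47 LD3_c0)) = (LP (LK LD1_c2 LD2_c49 LD3_c22)) :=
  Lre_c IH (LK LD1_c5 LD2_c47 LD3_c0) (LK LD1_c2 LD2_c49 LD3_c22) Lrfl Lrfl
theorem f72879 : Led Lsl_dt (LP (LK LD1_c6 LD2_c8 LD3_c37)) = (LP (LK LD1_c5 LD2_c47 LD3_c0)) :=
  Lgr Lrot140 (Lpe (f72878 IH) (Lpe (f72877 IH) (Lpe (f23018 IH) (Lpe (f72876 IH) (Lpr_ft (f72857 IH) (Lpr_at (f72813 IH) (Lpr_cf (f72863 IH) (Lpe (f72849 IH) (Lpe (f72845 IH) (Lpn (LP (LK LD1_c5 LD2_c47 LD3_c0))))))))))))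
theorem f72893 : Led Lsl_df (LP (LK LD1_c6 LD2_c8 LD3_c37)) = (LP (LK LD1_c5 LD2_c47 LD3_c0)) :=
  Lgr Lrot38 (Lpr_dt (f72879 IH) (Lpn (LP (LK LD1_c5 LD2_c47 LD3_c0))))
theorem f74274 : Led Lsl_ff (LP (LK LD1_c5 LD2_c47 LD3_c0)) = (LP (LK LD1_c4 LD2_c58 LD3_c35)) :=
  Lgr Lrot19 (Lpe (f72893 IH) (Lpr_ft (f72883 IH) (Lpr_dt (f74262 IH) (Lpn (LP (LK LD1_c4 LD2_c58 LD3_c35))))))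
theorem f74294 : Led Lsl_ft (LP (LK LD1_c5 LD2_c47 LD3_c0)) = (LP (LK LD1_c4 LD2_c58 LD3_c35)) :=
  Lgr Lrot48 (Lpr_ff (f74274 IH) (Lpn (LP (LK LD1_c4 LD2_c58 LD3_c35))))
theorem f72910 : Led Lsl_et (LP (LK LD1_c11 LD2_c24 LD3_c13)) = (LP (LK LD1_c5 LD2_c47 LD3_c0)) :=
  Lre_e IH (LK LD1_c11 LD2_c24 LD3_c13) (LK LD1_c5 LD2_c47 LD3_c0) Lrfl Lrfl
theorem f74407 : Led Lsl_ft (LP (LK LD1_c20 LD2_c22 LD3_c0)) = (LP (LK LD1_c11 LD2_c24 LD3_c13)) :=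
  Lre_f IH (LK LD1_c20 LD2_c22 LD3_c0) (LK LD1_c11 LD2_c24 LD3_c13) Lrfl Lrfl
theorem f74272 : Led Lsl_et (LP (LK LD1_c4 LD2_c58 LD3_c35)) = (LP (LK LD1_c9 LD2_c47 LD3_c42)) :=
  Lre_e IH (LK LD1_c4 LD2_c58 LD3_c35) (LK LD1_c9 LD2_c47 LD3_c42) Lrfl Lrfl
theorem f74408 : Led Lsl_ft (LP (LK LD1_c9 LD2_c47 LD3_c42)) = (LP (LK LD1_c17 LD2_c57 LD3_c60)) :=
  Lre_f IH (LK LD1_c9 LD2_c47 LD3_c42) (LK LD1_c17 LD2_c57 LD3_c60) Lrfl Lrfl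
theorem f74409 : Led Lsl_ef (LP (LK LD1_c20 LD2_c22 LD3_c0)) = (LP (LK LD1_c17 LD2_c57 LD3_c60)) :=
  Lgr Lrot21 (Lpr_ft (f74407 IH) (Lpr_et (f72910 IH) (Lpr_ft (f74294 IH) (Lpr_et (f74272 IH) (Lpr_ft (f74408 IH) (Lpn (LP (LK LD1_c17 LD2_c57 LD3_c60))))))))
theorem f74411 : Led Lsl_ct (LP (LK LD1_c20 LD2_c22 LD3_c0)) = (LP (LK LD1_c11 LD2_c24 LD3_c17)) :=
  Lre_c IH (LK LD1_c20 LD2_c22 LD3_c0) (LK LD1_c11 LD2_c24 LD3_c17) Lrfl Lrfl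
theorem f74219 : Led Lsl_ct (LP (LK LD1_c9 LD2_c47 LD3_c44)) = (LP (LK LD1_c17 LD2_c57 LD3_c60)) :=
  Lre_c IH (LK LD1_c9 LD2_c47 LD3_c44) (LK LD1_c17 LD2_c57 LD3_c60) Lrfl Lrfl
theorem f74412 : Led Lsl_et (LP (LK LD1_c11 LD2_c24 LD3_c17)) = (LP (LK LD1_c9 LD2_c47 LD3_c44)) :=
  Lgr Lrot158 (Lpe (f74411 IH) (Lpr_ef (f74409 IH) (Lpe (f74219 IH) (Lpn (LP (LK LD1_c9 LD2_c47 LD3_c44))))))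
theorem f74420 : Led Lsl_ef (LP (LK LD1_c11 LD2_c24 LD3_c17)) = (LP (LK LD1_c9 LD2_c47 LD3_c44)) :=
  Lgr Lrot88 (Lpr_et (f74412 IH) (Lpn (LP (LK LD1_c9 LD2_c47 LD3_c44))))
theorem f74426 : Led Lsl_at (LP (LK LD1_c11 LD2_c24 LD3_c17)) = (LP (LK LD1_c5 LD2_c47 LD3_c8)) :=
  Lre_a IH (LK LD1_c11 LD2_c24 LD3_c17) (LK LD1_c5 LD2_c47 LD3_c8) Lrfl Lrfl
theorem f74427 : Led Lsl_et (LP (LK LD1_c5 LD2_c47 LD3_c8)) = (LP (LK LD1_c5 LD2_c51 LD3_c38)) :=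
  Lgr Lrot123 (Lpe (f74426 IH) (Lpr_ef (f74420 IH) (Lpe (f74221 IH) (Lpn (LP (LK LD1_c5 LD2_c51 LD3_c38))))))
theorem f74437 : Led Lsl_ft (LP (LK LD1_c2 LD2_c49 LD3_c25)) = (LP (LK LD1_c5 LD2_c47 LD3_c8)) :=
  Lre_f IH (LK LD1_c2 LD2_c49 LD3_c25) (LK LD1_c5 LD2_c47 LD3_c8) Lrfl Lrfl
theorem f74438 : Led Lsl_et (LP (LK LD1_c1 LD2_c20 LD3_c51)) = (LP (LK LD1_c2 LD2_c49 LD3_c25)) :=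
  Lre_e IH (LK LD1_c1 LD2_c20 LD3_c51) (LK LD1_c2 LD2_c49 LD3_c25) Lrfl Lrfl
theorem f74439 : Led Lsl_ft (LP (LK LD1_c5 LD2_c51 LD3_c38)) = (LP (LK LD1_c2 LD2_c52 LD3_c1)) :=
  Lre_f IH (LK LD1_c5 LD2_c51 LD3_c38) (LK LD1_c2 LD2_c52 LD3_c1) Lrfl Lrfl
theorem f74440 : Led Lsl_ff (LP (LK LD1_c1 LD2_c20 LD3_c51)) = (LP (LK LD1_c1 LD2_c22 LD3_c1)) :=
  Lgr Lrot72 (Lpr_et (f74438 IH) (Lpr_ft (f74437 IH) (Lpr_et (f74427 IH) (Lpr_ft (f74439 IH) (Lpr_et (f74243 IH) (Lpn (LP (LK LD1_c1 LD2_c22 LD3_c1))))))))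
theorem f74445 : Led Lsl_df (LP (LK LD1_c0 LD2_c39 LD3_c4)) = (LP (LK LD1_c1 LD2_c22 LD3_c1)) :=
  Lgr Lrot157 (Lpr_ct (K1.f20240 IH) (Lpr_dt (f72876 IH) (Lpr_ct (f23018 IH) (Lpr_dt (f72877 IH) (Lpr_ct (f72878 IH) (Lpr_dt (f72879 IH) (Lpr_ct (f72845 IH) (Lpe (f72899 IH) (Lpr_ff (f74440 IH) (Lpn (LP (LK LD1_c1 LD2_c22 LD3_c1))))))))))))
theorem f61587 : Led Lsl_at (LP (LK LD1_c5 LD2_c47 LD3_c0)) = (LP (LK LD1_c2 LD2_c49 LD3_c24)) :=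
  Lre_a IH (LK LD1_c5 LD2_c47 LD3_c0) (LK LD1_c2 LD2_c49 LD3_c24) Lrfl Lrfl
theorem f61531 : Led Lsl_dt (LP (LK LD1_c2 LD2_c49 LD3_c24)) = (LP (LK LD1_c5 LD2_c47 LD3_c3)) :=
  Lre_d IH (LK LD1_c2 LD2_c49 LD3_c24) (LK LD1_c5 LD2_c47 LD3_c3) Lrfl Lrfl
theorem f72888 : Led Lsl_af (LP (LK LD1_c6 LD2_c8 LD3_c37)) = (LP (LK LD1_c5 LD2_c47 LD3_c3)) :=
  Lgr Lrot117 (Lpr_dt (f72879 IH) (Lpr_at (f61587 IH) (Lpr_dt (f61531 IH) (Lpn (LP (LK LD1_c5 LD2_c47 LD3_c3))))))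
theorem f61805 : Led Lsl_ct (LP (LK LD1_c2 LD2_c52 LD3_c0)) = (LP (LK LD1_c1 LD2_c22 LD3_c1)) :=
  Lre_c IH (LK LD1_c2 LD2_c52 LD3_c0) (LK LD1_c1 LD2_c22 LD3_c1) Lrfl Lrfl
theorem f74449 : Led Lsl_dt (LP (LK LD1_c5 LD2_c51 LD3_c34)) = (LP (LK LD1_c2 LD2_c52 LD3_c0)) :=
  Lre_d IH (LK LD1_c5 LD2_c51 LD3_c34) (LK LD1_c2 LD2_c52 LD3_c0) Lrfl Lrfl
theorem f74453 : Led Lsl_ff (LP (LK LD1_c5 LD2_c47 LD3_c3)) = (LP (LK LD1_c5 LD2_c51 LD3_c34)) :=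
  Lgr Lrot103 (Lpe (f72888 IH) (Lpe (f72878 IH) (Lpe (f72877 IH) (Lpe (f23018 IH) (Lpe (f72876 IH) (Lpe (K1.f20240 IH) (Lpr_df (f74445 IH) (Lpe (f61805 IH) (Lpe (f74449 IH) (Lpn (LP (LK LD1_c5 LD2_c51 LD3_c34))))))))))))
theorem f74456 : Led Lsl_at (LP (LK LD1_c9 LD2_c16 LD3_c34)) = (LP (LK LD1_c5 LD2_c51 LD3_c34)) :=
  Lgr Lrot66 (Lpe (f72883 IH) (Lpr_af (f72888 IH) (Lpr_ff (f74453 IH) (Lpn (LP (LK LD1_c5 LD2_c51 LD3_c34))))))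
theorem f74269 : Led Lsl_df (LP (LK LD1_c9 LD2_c16 LD3_c34)) = (LP (LK LD1_c4 LD2_c58 LD3_c35)) :=
  Lgr Lrot38 (Lpr_dt (f74262 IH) (Lpn (LP (LK LD1_c4 LD2_c58 LD3_c35))))
theorem f74494 : Led Lsl_af (LP (LK LD1_c4 LD2_c58 LD3_c35)) = (LP (LK LD1_c2 LD2_c52 LD3_c0)) :=
  Lgr Lrot117 (Lpe (f74269 IH) (Lpr_at (f74456 IH) (Lpr_dt (f74449 IH) (Lpn (LP (LK LD1_c2 LD2_c52 LD3_c0))))))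
theorem f74189 : Led Lsl_bt (LP (LK LD1_c4 LD2_c58 LD3_c35)) = (LP (LK LD1_c9 LD2_c47 LD3_c41)) :=
  Lre_b IH (LK LD1_c4 LD2_c58 LD3_c35) (LK LD1_c9 LD2_c47 LD3_c41) Lrfl Lrfl
theorem f61803 : Led Lsl_bt (LP (LK LD1_c0 LD2_c18 LD3_c29)) = (LP (LK LD1_c0 LD2_c41 LD3_c18)) :=
  Lre_b IH (LK LD1_c0 LD2_c18 LD3_c29) (LK LD1_c0 LD2_c41 LD3_c18) Lrfl Lrfl
theorem f25100 : Led Lsl_ct (LP (LK LD1_c0 LD2_c41 LD3_c18)) = (LP (LK LD1_c1 LD2_c29 LD3_c21)) :=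
  Lre_c IH (LK LD1_c0 LD2_c41 LD3_c18) (LK LD1_c1 LD2_c29 LD3_c21) Lrfl Lrfl
theorem f61804 : Led Lsl_bt (LP (LK LD1_c1 LD2_c22 LD3_c1)) = (LP (LK LD1_c0 LD2_c37 LD3_c58)) :=
  Lre_b IH (LK LD1_c1 LD2_c22 LD3_c1) (LK LD1_c0 LD2_c37 LD3_c58) Lrfl Lrfl
theorem f61806 : Led Lsl_bt (LP (LK LD1_c1 LD2_c29 LD3_c21)) = (LP (LK LD1_c2 LD2_c52 LD3_c0)) :=
  Lgr Lrot128 (Lpe (f25100 IH) (Lpe (f61803 IH) (Lpr_cf (K1.f61764 IH) (Lpe (f61804 IH) (Lpe (f61805 IH) (Lpn (LP (LK LD1_c2 LD2_c52 LD3_c0))))))))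
theorem f25107 : Led Lsl_at (LP (LK LD1_c3 LD2_c6 LD3_c23)) = (LP (LK LD1_c1 LD2_c29 LD3_c21)) :=
  Lre_a IH (LK LD1_c3 LD2_c6 LD3_c23) (LK LD1_c1 LD2_c29 LD3_c21) Lrfl Lrfl
theorem f74496 : Led Lsl_bt (LP (LK LD1_c6 LD2_c18 LD3_c13)) = (LP (LK LD1_c3 LD2_c6 LD3_c23)) :=
  Lre_b IH (LK LD1_c6 LD2_c18 LD3_c13) (LK LD1_c3 LD2_c6 LD3_c23) Lrfl Lrfl
theorem f74497 : Led Lsl_at (LP (LK LD1_c9 LD2_c47 LD3_c41)) = (LP (LK LD1_c6 LD2_c18 LD3_c13)) :=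
  Lgr Lrot67 (Lpe (f74189 IH) (Lpr_af (f74494 IH) (Lpe (f61806 IH) (Lpe (f25107 IH) (Lpe (f74496 IH) (Lpn (LP (LK LD1_c6 LD2_c18 LD3_c13))))))))
theorem f61528 : Led Lsl_bt (LP (LK LD1_c5 LD2_c47 LD3_c0)) = (LP (LK LD1_c11 LD2_c24 LD3_c12)) :=
  Lre_b IH (LK LD1_c5 LD2_c47 LD3_c0) (LK LD1_c11 LD2_c24 LD3_c12) Lrfl Lrfl
theorem f74284 : Led Lsl_bt (LP (LK LD1_c9 LD2_c47 LD3_c41)) = (LP (LK LD1_c4 LD2_c58 LD3_c35)) :=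
  Lre_b IH (LK LD1_c9 LD2_c47 LD3_c41) (LK LD1_c4 LD2_c58 LD3_c35) Lrfl Lrfl
theorem f74285 : Led Lsl_ft (LP (LK LD1_c11 LD2_c24 LD3_c12)) = (LP (LK LD1_c9 LD2_c47 LD3_c41)) :=
  Lgr Lrot75 (Lpe (f61528 IH) (Lpr_ff (f74274 IH) (Lpe (f74284 IH) (Lpn (LP (LK LD1_c9 LD2_c47 LD3_c41))))))
theorem f72890 : Led Lsl_bt (LP (LK LD1_c11 LD2_c58 LD3_c44)) = (LP (LK LD1_c6 LD2_c8 LD3_c37)) :=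
  Lre_b IH (LK LD1_c11 LD2_c58 LD3_c44) (LK LD1_c6 LD2_c8 LD3_c37) Lrfl Lrfl
theorem f72891 : Led Lsl_df (LP (LK LD1_c11 LD2_c58 LD3_c44)) = (LP (LK LD1_c11 LD2_c24 LD3_c12)) :=
  Lgr Lrot12 (Lpr_bt (f72890 IH) (Lpr_dt (f72879 IH) (Lpr_bt (f61528 IH) (Lpn (LP (LK LD1_c11 LD2_c24 LD3_c12))))))
theorem f59473 : Led Lsl_dt (LP (LK LD1_c0 LD2_c37 LD3_c23)) = (LP (LK LD1_c1 LD2_c20 LD3_c59)) :=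
  Lre_d IH (LK LD1_c0 LD2_c37 LD3_c23) (LK LD1_c1 LD2_c20 LD3_c59) Lrfl Lrfl
theorem f60849 : Led Lsl_bt (LP (LK LD1_c0 LD2_c18 LD3_c18)) = (LP (LK LD1_c0 LD2_c40 LD3_c52)) :=
  Lre_b IH (LK LD1_c0 LD2_c18 LD3_c18) (LK LD1_c0 LD2_c40 LD3_c52) Lrfl Lrfl
theorem f56746 : Led Lsl_bt (LP (LK LD1_c0 LD2_c37 LD3_c23)) = (LP (LK LD1_c0 LD2_c16 LD3_c40)) :=
  Lre_b IH (LK LD1_c0 LD2_c37 LD3_c23) (LK LD1_c0 LD2_c16 LD3_c40) Lrfl Lrfl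
theorem f73188 : Led Lsl_ft (LP (LK LD1_c0 LD2_c40 LD3_c52)) = (LP (LK LD1_c0 LD2_c37 LD3_c23)) :=
  Lgr Lrot75 (Lpe (f60849 IH) (Lpr_ff (f73186 IH) (Lpe (f56746 IH) (Lpn (LP (LK LD1_c0 LD2_c37 LD3_c23))))))
theorem f73819 : Led Lsl_df (LP (LK LD1_c0 LD2_c40 LD3_c52)) = (LP (LK LD1_c1 LD2_c22 LD3_c3)) :=
  Lgr Lrot78 (Lpr_ft (f73188 IH) (Lpr_dt (f59473 IH) (Lpr_ft (f73812 IH) (Lpn (LP (LK LD1_c1 LD2_c22 LD3_c3))))))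
theorem f60831 : Led Lsl_et (LP (LK LD1_c0 LD2_c40 LD3_c52)) = (LP (LK LD1_c1 LD2_c28 LD3_c27)) :=
  Lre_e IH (LK LD1_c0 LD2_c40 LD3_c52) (LK LD1_c1 LD2_c28 LD3_c27) Lrfl Lrfl
theorem f60790 : Led Lsl_dt (LP (LK LD1_c1 LD2_c28 LD3_c27)) = (LP (LK LD1_c3 LD2_c4 LD3_c49)) :=
  Lre_d IH (LK LD1_c1 LD2_c28 LD3_c27) (LK LD1_c3 LD2_c4 LD3_c49) Lrfl Lrfl
theorem f73833 : Led Lsl_dt (LP (LK LD1_c5 LD2_c51 LD3_c47)) = (LP (LK LD1_c2 LD2_c52 LD3_c7)) :=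
  Lre_d IH (LK LD1_c5 LD2_c51 LD3_c47) (LK LD1_c2 LD2_c52 LD3_c7) Lrfl Lrfl
theorem f73834 : Led Lsl_et (LP (LK LD1_c3 LD2_c4 LD3_c49)) = (LP (LK LD1_c5 LD2_c51 LD3_c47)) :=
  Lgr Lrot71 (Lpe (f60790 IH) (Lpe (f60831 IH) (Lpr_df (f73819 IH) (Lpe (f73803 IH) (Lpe (f73833 IH) (Lpn (LP (LK LD1_c5 LD2_c51 LD3_c47))))))))
theorem f73854 : Led Lsl_ef (LP (LK LD1_c3 LD2_c4 LD3_c49)) = (LP (LK LD1_c5 LD2_c51 LD3_c47)) :=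
  Lgr Lrot88 (Lpr_et (f73834 IH) (Lpn (LP (LK LD1_c5 LD2_c51 LD3_c47))))
theorem f73133 : Led Lsl_at (LP (LK LD1_c3 LD2_c4 LD3_c49)) = (LP (LK LD1_c6 LD2_c15 LD3_c24)) :=
  Lre_a IH (LK LD1_c3 LD2_c4 LD3_c49) (LK LD1_c6 LD2_c15 LD3_c24) Lrfl Lrfl
theorem f73862 : Led Lsl_at (LP (LK LD1_c11 LD2_c30 LD3_c43)) = (LP (LK LD1_c5 LD2_c51 LD3_c47)) :=
  Lre_a IH (LK LD1_c11 LD2_c30 LD3_c43) (LK LD1_c5 LD2_c51 LD3_c47) Lrfl Lrfl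
theorem f73863 : Led Lsl_et (LP (LK LD1_c6 LD2_c15 LD3_c24)) = (LP (LK LD1_c11 LD2_c30 LD3_c43)) :=
  Lgr Lrot123 (Lpe (f73133 IH) (Lpr_ef (f73854 IH) (Lpe (f73862 IH) (Lpn (LP (LK LD1_c11 LD2_c30 LD3_c43))))))
theorem f72873 : Led Lsl_et (LP (LK LD1_c1 LD2_c25 LD3_c61)) = (LP (LK LD1_c3 LD2_c0 LD3_c29)) :=
  Lre_e IH (LK LD1_c1 LD2_c25 LD3_c61) (LK LD1_c3 LD2_c0 LD3_c29) Lrfl Lrfl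
theorem f72852 : Led Lsl_et (LP (LK LD1_c2 LD2_c49 LD3_c23)) = (LP (LK LD1_c1 LD2_c20 LD3_c50)) :=
  Lre_e IH (LK LD1_c2 LD2_c49 LD3_c23) (LK LD1_c1 LD2_c20 LD3_c50) Lrfl Lrfl
theorem f72874 : Led Lsl_ct (LP (LK LD1_c3 LD2_c0 LD3_c29)) = (LP (LK LD1_c2 LD2_c49 LD3_c23)) :=
  Lgr Lrot15 (Lpe (f72873 IH) (Lpr_cf (f72863 IH) (Lpe (f72852 IH) (Lpn (LP (LK LD1_c2 LD2_c49 LD3_c23))))))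
theorem f72947 : Led Lsl_cf (LP (LK LD1_c3 LD2_c0 LD3_c29)) = (LP (LK LD1_c2 LD2_c49 LD3_c23)) :=
  Lgr Lrot11 (Lpr_ct (f72874 IH) (Lpn (LP (LK LD1_c2 LD2_c49 LD3_c23))))
theorem f9539 : Led Lsl_bt (LP (LK LD1_c0 LD2_c39 LD3_c50)) = (LP (LK LD1_c1 LD2_c26 LD3_c10)) :=
  Lre_b IH (LK LD1_c0 LD2_c39 LD3_c50) (LK LD1_c1 LD2_c26 LD3_c10) Lrfl Lrfl
theorem f60114 : Led Lsl_at (LP (LK LD1_c1 LD2_c26 LD3_c10)) = (LP (LK LD1_c3 LD2_c0 LD3_c29)) :=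
  Lre_a IH (LK LD1_c1 LD2_c26 LD3_c10) (LK LD1_c3 LD2_c0 LD3_c29) Lrfl Lrfl
theorem f60115 : Led Lsl_bt (LP (LK LD1_c1 LD2_c20 LD3_c43)) = (LP (LK LD1_c0 LD2_c37 LD3_c17)) :=
  Lre_b IH (LK LD1_c1 LD2_c20 LD3_c43) (LK LD1_c0 LD2_c37 LD3_c17) Lrfl Lrfl
theorem f60116 : Led Lsl_at (LP (LK LD1_c2 LD2_c49 LD3_c7)) = (LP (LK LD1_c1 LD2_c20 LD3_c43)) :=
  Lre_a IH (LK LD1_c2 LD2_c49 LD3_c7) (LK LD1_c1 LD2_c20 LD3_c43) Lrfl Lrfl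
theorem f60117 : Led Lsl_bt (LP (LK LD1_c3 LD2_c0 LD3_c29)) = (LP (LK LD1_c2 LD2_c49 LD3_c7)) :=
  Lgr Lrot62 (Lpe (f60114 IH) (Lpe (f9539 IH) (Lpr_af (K1.f60108 IH) (Lpe (f60115 IH) (Lpe (f60116 IH) (Lpn (LP (LK LD1_c2 LD2_c49 LD3_c7))))))))
theorem f60698 : Led Lsl_ct (LP (LK LD1_c2 LD2_c49 LD3_c7)) = (LP (LK LD1_c5 LD2_c46 LD3_c25)) :=
  Lre_c IH (LK LD1_c2 LD2_c49 LD3_c7) (LK LD1_c5 LD2_c46 LD3_c25) Lrfl Lrfl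
theorem f60431 : Led Lsl_ft (LP (LK LD1_c1 LD2_c28 LD3_c23)) = (LP (LK LD1_c0 LD2_c40 LD3_c51)) :=
  Lre_f IH (LK LD1_c1 LD2_c28 LD3_c23) (LK LD1_c0 LD2_c40 LD3_c51) Lrfl Lrfl
theorem f60626 : Led Lsl_at (LP (LK LD1_c0 LD2_c40 LD3_c51)) = (LP (LK LD1_c0 LD2_c37 LD3_c15)) :=
  Lgr Lrot33 (Lpe (f60431 IH) (Lpe (K1.f60624 IH) (Lpe (K1.f60429 IH) (Lpr_dt (K1.f56457 IH) (Lpr_ct (K1.f60622 IH) (Lpr_dt (K1.f60590 IH) (Lpr_ct (K1.f60511 IH) (Lpr_dt (K1.f59281 IH) (Lpr_ct (K1.f59282 IH) (Lpn (LP (LK LD1_c0 LD2_c37 LD3_c15))))))))))))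
theorem f60632 : Led Lsl_af (LP (LK LD1_c1 LD2_c28 LD3_c5)) = (LP (LK LD1_c1 LD2_c20 LD3_c36)) :=
  Lgr Lrot68 (Lpr_ct (K1.f60438 IH) (Lpr_at (f60626 IH) (Lpr_ct (K1.f59284 IH) (Lpn (LP (LK LD1_c1 LD2_c20 LD3_c36))))))
theorem f60644 : Led Lsl_at (LP (LK LD1_c3 LD2_c4 LD3_c3)) = (LP (LK LD1_c6 LD2_c14 LD3_c16)) :=
  Lre_a IH (LK LD1_c3 LD2_c4 LD3_c3) (LK LD1_c6 LD2_c14 LD3_c16) Lrfl Lrfl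
theorem f60645 : Led Lsl_bt (LP (LK LD1_c2 LD2_c48 LD3_c59)) = (LP (LK LD1_c1 LD2_c20 LD3_c36)) :=
  Lre_b IH (LK LD1_c2 LD2_c48 LD3_c59) (LK LD1_c1 LD2_c20 LD3_c36) Lrfl Lrfl
theorem f60646 : Led Lsl_at (LP (LK LD1_c5 LD2_c46 LD3_c25)) = (LP (LK LD1_c2 LD2_c48 LD3_c59)) :=
  Lre_a IH (LK LD1_c5 LD2_c46 LD3_c25) (LK LD1_c2 LD2_c48 LD3_c59) Lrfl Lrfl
theorem f60647 : Led Lsl_bt (LP (LK LD1_c6 LD2_c14 LD3_c16)) = (LP (LK LD1_c5 LD2_c46 LD3_c25)) :=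
  Lgr Lrot62 (Lpe (f60644 IH) (Lpe (f60461 IH) (Lpr_af (f60632 IH) (Lpe (f60645 IH) (Lpe (f60646 IH) (Lpn (LP (LK LD1_c5 LD2_c46 LD3_c25))))))))
theorem f60649 : Led Lsl_bf (LP (LK LD1_c6 LD2_c14 LD3_c16)) = (LP (LK LD1_c5 LD2_c46 LD3_c25)) :=
  Lgr Lrot24 (Lpr_bt (f60647 IH) (Lpn (LP (LK LD1_c5 LD2_c46 LD3_c25))))
theorem f56487 : Led Lsl_et (LP (LK LD1_c1 LD2_c28 LD3_c3)) = (LP (LK LD1_c3 LD2_c4 LD3_c3)) :=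
  Lre_e IH (LK LD1_c1 LD2_c28 LD3_c3) (LK LD1_c3 LD2_c4 LD3_c3) Lrfl Lrfl
theorem f60792 : Led Lsl_et (LP (LK LD1_c1 LD2_c28 LD3_c27)) = (LP (LK LD1_c0 LD2_c40 LD3_c52)) :=
  Lre_e IH (LK LD1_c1 LD2_c28 LD3_c27) (LK LD1_c0 LD2_c40 LD3_c52) Lrfl Lrfl
theorem f60793 : Led Lsl_cf (LP (LK LD1_c1 LD2_c28 LD3_c3)) = (LP (LK LD1_c0 LD2_c40 LD3_c52)) :=
  Lgr Lrot39 (Lpr_et (f56487 IH) (Lpr_ct (f60470 IH) (Lpr_et (f60792 IH) (Lpn (LP (LK LD1_c0 LD2_c40 LD3_c52))))))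
theorem f60850 : Led Lsl_ct (LP (LK LD1_c1 LD2_c28 LD3_c3)) = (LP (LK LD1_c0 LD2_c40 LD3_c52)) :=
  Lgr Lrot59 (Lpr_cf (f60793 IH) (Lpn (LP (LK LD1_c0 LD2_c40 LD3_c52))))
theorem f60656 : Led Lsl_at (LP (LK LD1_c3 LD2_c4 LD3_c1)) = (LP (LK LD1_c1 LD2_c28 LD3_c3)) :=
  Lre_a IH (LK LD1_c3 LD2_c4 LD3_c1) (LK LD1_c1 LD2_c28 LD3_c3) Lrfl Lrfl
theorem f60863 : Led Lsl_at (LP (LK LD1_c0 LD2_c40 LD3_c52)) = (LP (LK LD1_c1 LD2_c28 LD3_c26)) :=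
  Lre_a IH (LK LD1_c0 LD2_c40 LD3_c52) (LK LD1_c1 LD2_c28 LD3_c26) Lrfl Lrfl
theorem f60864 : Led Lsl_cf (LP (LK LD1_c3 LD2_c4 LD3_c1)) = (LP (LK LD1_c1 LD2_c28 LD3_c26)) :=
  Lgr Lrot1 (Lpr_at (f60656 IH) (Lpr_ct (f60850 IH) (Lpr_at (f60863 IH) (Lpn (LP (LK LD1_c1 LD2_c28 LD3_c26))))))
theorem f60652 : Led Lsl_et (LP (LK LD1_c3 LD2_c4 LD3_c1)) = (LP (LK LD1_c6 LD2_c14 LD3_c16)) :=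
  Lre_e IH (LK LD1_c3 LD2_c4 LD3_c1) (LK LD1_c6 LD2_c14 LD3_c16) Lrfl Lrfl
theorem f60834 : Led Lsl_et (LP (LK LD1_c3 LD2_c4 LD3_c46)) = (LP (LK LD1_c1 LD2_c28 LD3_c26)) :=
  Lre_e IH (LK LD1_c3 LD2_c4 LD3_c46) (LK LD1_c1 LD2_c28 LD3_c26) Lrfl Lrfl
theorem f60872 : Led Lsl_ct (LP (LK LD1_c6 LD2_c14 LD3_c16)) = (LP (LK LD1_c3 LD2_c4 LD3_c46)) :=
  Lgr Lrot15 (Lpe (f60652 IH) (Lpr_cf (f60864 IH) (Lpe (f60834 IH) (Lpn (LP (LK LD1_c3 LD2_c4 LD3_c46))))))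
theorem f72952 : Led Lsl_bt (LP (LK LD1_c3 LD2_c4 LD3_c46)) = (LP (LK LD1_c2 LD2_c49 LD3_c23)) :=
  Lgr Lrot128 (Lpe (f60872 IH) (Lpr_bf (f60649 IH) (Lpe (f60698 IH) (Lpe (f60117 IH) (Lpr_cf (f72947 IH) (Lpn (LP (LK LD1_c2 LD2_c49 LD3_c23))))))))
theorem f60877 : Led Lsl_dt (LP (LK LD1_c6 LD2_c15 LD3_c24)) = (LP (LK LD1_c3 LD2_c4 LD3_c46)) :=
  Lre_d IH (LK LD1_c6 LD2_c15 LD3_c24) (LK LD1_c3 LD2_c4 LD3_c46) Lrfl Lrfl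
theorem f72853 : Led Lsl_dt (LP (LK LD1_c2 LD2_c49 LD3_c23)) = (LP (LK LD1_c5 LD2_c47 LD3_c2)) :=
  Lre_d IH (LK LD1_c2 LD2_c49 LD3_c23) (LK LD1_c5 LD2_c47 LD3_c2) Lrfl Lrfl
theorem f72960 : Led Lsl_bf (LP (LK LD1_c6 LD2_c15 LD3_c24)) = (LP (LK LD1_c5 LD2_c47 LD3_c2)) :=
  Lgr Lrot93 (Lpr_dt (f60877 IH) (Lpr_bt (f72952 IH) (Lpr_dt (f72853 IH) (Lpn (LP (LK LD1_c5 LD2_c47 LD3_c2))))))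
theorem f73132 : Led Lsl_et (LP (LK LD1_c11 LD2_c24 LD3_c16)) = (LP (LK LD1_c5 LD2_c47 LD3_c2)) :=
  Lre_e IH (LK LD1_c11 LD2_c24 LD3_c16) (LK LD1_c5 LD2_c47 LD3_c2) Lrfl Lrfl
theorem f73962 : Led Lsl_bf (LP (LK LD1_c11 LD2_c24 LD3_c16)) = (LP (LK LD1_c11 LD2_c30 LD3_c43)) :=
  Lgr Lrot96 (Lpr_et (f73132 IH) (Lpe (f72960 IH) (Lpr_et (f73863 IH) (Lpn (LP (LK LD1_c11 LD2_c30 LD3_c43))))))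
theorem f73973 : Led Lsl_dt (LP (LK LD1_c11 LD2_c24 LD3_c16)) = (LP (LK LD1_c5 LD2_c47 LD3_c1)) :=
  Lre_d IH (LK LD1_c11 LD2_c24 LD3_c16) (LK LD1_c5 LD2_c47 LD3_c1) Lrfl Lrfl
theorem f73829 : Led Lsl_dt (LP (LK LD1_c5 LD2_c51 LD3_c43)) = (LP (LK LD1_c11 LD2_c30 LD3_c43)) :=
  Lre_d IH (LK LD1_c5 LD2_c51 LD3_c43) (LK LD1_c11 LD2_c30 LD3_c43) Lrfl Lrfl
theorem f73974 : Led Lsl_bt (LP (LK LD1_c5 LD2_c47 LD3_c1)) = (LP (LK LD1_c5 LD2_c51 LD3_c43)) :=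
  Lgr Lrot95 (Lpe (f73973 IH) (Lpr_bf (f73962 IH) (Lpe (f73829 IH) (Lpn (LP (LK LD1_c5 LD2_c51 LD3_c43))))))
theorem f72850 : Led Lsl_et (LP (LK LD1_c2 LD2_c49 LD3_c22)) = (LP (LK LD1_c5 LD2_c47 LD3_c1)) :=
  Lre_e IH (LK LD1_c2 LD2_c49 LD3_c22) (LK LD1_c5 LD2_c47 LD3_c1) Lrfl Lrfl
theorem f73828 : Led Lsl_et (LP (LK LD1_c5 LD2_c51 LD3_c43)) = (LP (LK LD1_c2 LD2_c52 LD3_c5)) :=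
  Lre_e IH (LK LD1_c5 LD2_c51 LD3_c43) (LK LD1_c2 LD2_c52 LD3_c5) Lrfl Lrfl
theorem f73981 : Led Lsl_bf (LP (LK LD1_c2 LD2_c49 LD3_c22)) = (LP (LK LD1_c2 LD2_c52 LD3_c5)) :=
  Lgr Lrot96 (Lpr_et (f72850 IH) (Lpr_bt (f73974 IH) (Lpr_et (f73828 IH) (Lpn (LP (LK LD1_c2 LD2_c52 LD3_c5))))))
theorem f72847 : Led Lsl_ct (LP (LK LD1_c2 LD2_c49 LD3_c22)) = (LP (LK LD1_c5 LD2_c47 LD3_c0)) :=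
  Lre_c IH (LK LD1_c2 LD2_c49 LD3_c22) (LK LD1_c5 LD2_c47 LD3_c0) Lrfl Lrfl
theorem f73825 : Led Lsl_ct (LP (LK LD1_c5 LD2_c51 LD3_c42)) = (LP (LK LD1_c2 LD2_c52 LD3_c5)) :=
  Lre_c IH (LK LD1_c5 LD2_c51 LD3_c42) (LK LD1_c2 LD2_c52 LD3_c5) Lrfl Lrfl
theorem f73985 : Led Lsl_bt (LP (LK LD1_c11 LD2_c30 LD3_c41)) = (LP (LK LD1_c5 LD2_c51 LD3_c42)) :=
  Lre_b IH (LK LD1_c11 LD2_c30 LD3_c41) (LK LD1_c5 LD2_c51 LD3_c42) Lrfl Lrfl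
theorem f73986 : Led Lsl_ct (LP (LK LD1_c11 LD2_c24 LD3_c12)) = (LP (LK LD1_c11 LD2_c30 LD3_c41)) :=
  Lgr Lrot83 (Lpe (f61528 IH) (Lpe (f72847 IH) (Lpr_bf (f73981 IH) (Lpe (f73825 IH) (Lpe (f73985 IH) (Lpn (LP (LK LD1_c11 LD2_c30 LD3_c41))))))))
theorem f73990 : Led Lsl_cf (LP (LK LD1_c11 LD2_c24 LD3_c12)) = (LP (LK LD1_c11 LD2_c30 LD3_c41)) :=
  Lgr Lrot11 (Lpr_ct (f73986 IH) (Lpn (LP (LK LD1_c11 LD2_c30 LD3_c41))))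
theorem f61477 : Led Lsl_cf (LP (LK LD1_c1 LD2_c32 LD3_c50)) = (LP (LK LD1_c2 LD2_c49 LD3_c30)) :=
  Lgr Lrot11 (Lpr_ct (f61432 IH) (Lpn (LP (LK LD1_c2 LD2_c49 LD3_c30))))
theorem f61482 : Led Lsl_bt (LP (LK LD1_c1 LD2_c32 LD3_c50)) = (LP (LK LD1_c3 LD2_c12 LD3_c41)) :=
  Lre_b IH (LK LD1_c1 LD2_c32 LD3_c50) (LK LD1_c3 LD2_c12 LD3_c41) Lrfl Lrfl
theorem f61485 : Led Lsl_ct (LP (LK LD1_c3 LD2_c12 LD3_c41)) = (LP (LK LD1_c6 LD2_c29 LD3_c27)) :=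
  Lre_c IH (LK LD1_c3 LD2_c12 LD3_c41) (LK LD1_c6 LD2_c29 LD3_c27) Lrfl Lrfl
theorem f61486 : Led Lsl_bt (LP (LK LD1_c5 LD2_c47 LD3_c8)) = (LP (LK LD1_c2 LD2_c49 LD3_c30)) :=
  Lre_b IH (LK LD1_c5 LD2_c47 LD3_c8) (LK LD1_c2 LD2_c49 LD3_c30) Lrfl Lrfl
theorem f61487 : Led Lsl_ct (LP (LK LD1_c11 LD2_c24 LD3_c22)) = (LP (LK LD1_c5 LD2_c47 LD3_c8)) :=
  Lre_c IH (LK LD1_c11 LD2_c24 LD3_c22) (LK LD1_c5 LD2_c47 LD3_c8) Lrfl Lrfl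
theorem f61488 : Led Lsl_bt (LP (LK LD1_c6 LD2_c29 LD3_c27)) = (LP (LK LD1_c11 LD2_c24 LD3_c22)) :=
  Lgr Lrot128 (Lpe (f61485 IH) (Lpe (f61482 IH) (Lpr_cf (f61477 IH) (Lpe (f61486 IH) (Lpe (f61487 IH) (Lpn (LP (LK LD1_c11 LD2_c24 LD3_c22))))))))
theorem f61497 : Led Lsl_ft (LP (LK LD1_c3 LD2_c12 LD3_c38)) = (LP (LK LD1_c6 LD2_c29 LD3_c27)) :=
  Lre_f IH (LK LD1_c3 LD2_c12 LD3_c38) (LK LD1_c6 LD2_c29 LD3_c27) Lrfl Lrfl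
theorem f61498 : Led Lsl_ft (LP (LK LD1_c11 LD2_c24 LD3_c22)) = (LP (LK LD1_c5 LD2_c47 LD3_c4)) :=
  Lre_f IH (LK LD1_c11 LD2_c24 LD3_c22) (LK LD1_c5 LD2_c47 LD3_c4) Lrfl Lrfl
theorem f61499 : Led Lsl_bf (LP (LK LD1_c3 LD2_c12 LD3_c38)) = (LP (LK LD1_c5 LD2_c47 LD3_c4)) :=
  Lgr Lrot61 (Lpr_ft (f61497 IH) (Lpr_bt (f61488 IH) (Lpr_ft (f61498 IH) (Lpn (LP (LK LD1_c5 LD2_c47 LD3_c4))))))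
theorem f61513 : Led Lsl_et (LP (LK LD1_c3 LD2_c12 LD3_c38)) = (LP (LK LD1_c1 LD2_c32 LD3_c46)) :=
  Lre_e IH (LK LD1_c3 LD2_c12 LD3_c38) (LK LD1_c1 LD2_c32 LD3_c46) Lrfl Lrfl
theorem f61514 : Led Lsl_et (LP (LK LD1_c2 LD2_c49 LD3_c24)) = (LP (LK LD1_c5 LD2_c47 LD3_c4)) :=
  Lre_e IH (LK LD1_c2 LD2_c49 LD3_c24) (LK LD1_c5 LD2_c47 LD3_c4) Lrfl Lrfl
theorem f61515 : Led Lsl_bt (LP (LK LD1_c1 LD2_c32 LD3_c46)) = (LP (LK LD1_c2 LD2_c49 LD3_c24)) :=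
  Lgr Lrot119 (Lpe (f61513 IH) (Lpr_bf (f61499 IH) (Lpe (f61514 IH) (Lpn (LP (LK LD1_c2 LD2_c49 LD3_c24))))))
theorem f61525 : Led Lsl_at (LP (LK LD1_c3 LD2_c12 LD3_c35)) = (LP (LK LD1_c1 LD2_c32 LD3_c46)) :=
  Lre_a IH (LK LD1_c3 LD2_c12 LD3_c35) (LK LD1_c1 LD2_c32 LD3_c46) Lrfl Lrfl
theorem f61526 : Led Lsl_bt (LP (LK LD1_c6 LD2_c29 LD3_c16)) = (LP (LK LD1_c3 LD2_c12 LD3_c35)) :=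
  Lre_b IH (LK LD1_c6 LD2_c29 LD3_c16) (LK LD1_c3 LD2_c12 LD3_c35) Lrfl Lrfl
theorem f61527 : Led Lsl_at (LP (LK LD1_c2 LD2_c49 LD3_c24)) = (LP (LK LD1_c5 LD2_c47 LD3_c0)) :=
  Lre_a IH (LK LD1_c2 LD2_c49 LD3_c24) (LK LD1_c5 LD2_c47 LD3_c0) Lrfl Lrfl
theorem f61529 : Led Lsl_af (LP (LK LD1_c6 LD2_c29 LD3_c16)) = (LP (LK LD1_c11 LD2_c24 LD3_c12)) :=
  Lgr Lrot36 (Lpr_bt (f61526 IH) (Lpr_at (f61525 IH) (Lpr_bt (f61515 IH) (Lpr_at (f61527 IH) (Lpr_bt (f61528 IH) (Lpn (LP (LK LD1_c11 LD2_c24 LD3_c12))))))))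
theorem f66924 : Led Lsl_at (LP (LK LD1_c6 LD2_c19 LD3_c1)) = (LP (LK LD1_c3 LD2_c6 LD3_c58)) :=
  Lre_a IH (LK LD1_c6 LD2_c19 LD3_c1) (LK LD1_c3 LD2_c6 LD3_c58) Lrfl Lrfl
theorem f66973 : Led Lsl_at (LP (LK LD1_c3 LD2_c12 LD3_c41)) = (LP (LK LD1_c6 LD2_c29 LD3_c20)) :=
  Lre_a IH (LK LD1_c3 LD2_c12 LD3_c41) (LK LD1_c6 LD2_c29 LD3_c20) Lrfl Lrfl
theorem f66974 : Led Lsl_bf (LP (LK LD1_c6 LD2_c19 LD3_c1)) = (LP (LK LD1_c6 LD2_c29 LD3_c20)) :=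
  Lgr Lrot81 (Lpr_at (f66924 IH) (Lpr_bt (f66914 IH) (Lpr_at (f66966 IH) (Lpr_bt (f61482 IH) (Lpr_at (f66973 IH) (Lpn (LP (LK LD1_c6 LD2_c29 LD3_c20))))))))
theorem f66986 : Led Lsl_bt (LP (LK LD1_c6 LD2_c19 LD3_c1)) = (LP (LK LD1_c6 LD2_c29 LD3_c20)) :=
  Lgr Lrot127 (Lpr_bf (f66974 IH) (Lpn (LP (LK LD1_c6 LD2_c29 LD3_c20))))
theorem f66998 : Led Lsl_ft (LP (LK LD1_c6 LD2_c29 LD3_c20)) = (LP (LK LD1_c3 LD2_c12 LD3_c36)) :=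
  Lre_f IH (LK LD1_c6 LD2_c29 LD3_c20) (LK LD1_c3 LD2_c12 LD3_c36) Lrfl Lrfl
theorem f66999 : Led Lsl_bf (LP (LK LD1_c3 LD2_c6 LD3_c53)) = (LP (LK LD1_c3 LD2_c12 LD3_c36)) :=
  Lgr Lrot61 (Lpr_ft (K1.f66902 IH) (Lpr_bt (f66986 IH) (Lpr_ft (f66998 IH) (Lpn (LP (LK LD1_c3 LD2_c12 LD3_c36))))))
theorem f66894 : Led Lsl_et (LP (LK LD1_c3 LD2_c6 LD3_c53)) = (LP (LK LD1_c1 LD2_c29 LD3_c34)) :=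
  Lre_e IH (LK LD1_c3 LD2_c6 LD3_c53) (LK LD1_c1 LD2_c29 LD3_c34) Lrfl Lrfl
theorem f67008 : Led Lsl_et (LP (LK LD1_c1 LD2_c32 LD3_c45)) = (LP (LK LD1_c3 LD2_c12 LD3_c36)) :=
  Lre_e IH (LK LD1_c1 LD2_c32 LD3_c45) (LK LD1_c3 LD2_c12 LD3_c36) Lrfl Lrfl
theorem f67009 : Led Lsl_bt (LP (LK LD1_c1 LD2_c29 LD3_c34)) = (LP (LK LD1_c1 LD2_c32 LD3_c45)) :=
  Lgr Lrot119 (Lpe (f66894 IH) (Lpr_bf (f66999 IH) (Lpe (f67008 IH) (Lpn (LP (LK LD1_c1 LD2_c32 LD3_c45))))))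
theorem f66886 : Led Lsl_bt (LP (LK LD1_c6 LD2_c19 LD3_c0)) = (LP (LK LD1_c3 LD2_c6 LD3_c52)) :=
  Lre_b IH (LK LD1_c6 LD2_c19 LD3_c0) (LK LD1_c3 LD2_c6 LD3_c52) Lrfl Lrfl
theorem f67014 : Led Lsl_ct (LP (LK LD1_c1 LD2_c32 LD3_c45)) = (LP (LK LD1_c3 LD2_c12 LD3_c35)) :=
  Lre_c IH (LK LD1_c1 LD2_c32 LD3_c45) (LK LD1_c3 LD2_c12 LD3_c35) Lrfl Lrfl
theorem f61585 : Led Lsl_bt (LP (LK LD1_c3 LD2_c12 LD3_c35)) = (LP (LK LD1_c6 LD2_c29 LD3_c16)) :=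
  Lre_b IH (LK LD1_c3 LD2_c12 LD3_c35) (LK LD1_c6 LD2_c29 LD3_c16) Lrfl Lrfl
theorem f67015 : Led Lsl_cf (LP (LK LD1_c6 LD2_c19 LD3_c0)) = (LP (LK LD1_c6 LD2_c29 LD3_c16)) :=
  Lgr Lrot97 (Lpr_bt (f66886 IH) (Lpr_ct (K1.f66841 IH) (Lpr_bt (f67009 IH) (Lpr_ct (f67014 IH) (Lpr_bt (f61585 IH) (Lpn (LP (LK LD1_c6 LD2_c29 LD3_c16))))))))
theorem f73992 : Led Lsl_at (LP (LK LD1_c6 LD2_c19 LD3_c0)) = (LP (LK LD1_c11 LD2_c30 LD3_c41)) :=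
  Lgr Lrot107 (Lpr_cf (f67015 IH) (Lpr_af (f61529 IH) (Lpr_cf (f73990 IH) (Lpn (LP (LK LD1_c11 LD2_c30 LD3_c41))))))
theorem f66858 : Led Lsl_dt (LP (LK LD1_c3 LD2_c6 LD3_c54)) = (LP (LK LD1_c1 LD2_c29 LD3_c35)) :=
  Lre_d IH (LK LD1_c3 LD2_c6 LD3_c54) (LK LD1_c1 LD2_c29 LD3_c35) Lrfl Lrfl
theorem f66859 : Led Lsl_ff (LP (LK LD1_c3 LD2_c6 LD3_c54)) = (LP (LK LD1_c3 LD2_c12 LD3_c48)) :=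
  Lgr Lrot19 (Lpr_dt (f66858 IH) (Lpr_ft (K1.f66853 IH) (Lpr_dt (K1.f66660 IH) (Lpn (LP (LK LD1_c3 LD2_c12 LD3_c48))))))
theorem f18247 : Led Lsl_at (LP (LK LD1_c3 LD2_c24 LD3_c28)) = (LP (LK LD1_c1 LD2_c38 LD3_c48)) :=
  Lre_a IH (LK LD1_c3 LD2_c24 LD3_c28) (LK LD1_c1 LD2_c38 LD3_c48) Lrfl Lrfl
theorem f18150 : Led Lsl_ct (LP (LK LD1_c1 LD2_c38 LD3_c48)) = (LP (LK LD1_c3 LD2_c24 LD3_c43)) :=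
  Lre_c IH (LK LD1_c1 LD2_c38 LD3_c48) (LK LD1_c3 LD2_c24 LD3_c43) Lrfl Lrfl
theorem f66668 : Led Lsl_af (LP (LK LD1_c3 LD2_c12 LD3_c48)) = (LP (LK LD1_c3 LD2_c24 LD3_c43)) :=
  Lgr Lrot68 (Lpr_ct (K1.f66665 IH) (Lpr_at (f18247 IH) (Lpr_ct (f18150 IH) (Lpn (LP (LK LD1_c3 LD2_c24 LD3_c43))))))
theorem f18245 : Led Lsl_ff (LP (LK LD1_c1 LD2_c41 LD3_c45)) = (LP (LK LD1_c1 LD2_c38 LD3_c48)) :=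
  Lgr Lrot3 (Lpr_ft (K1.f18226 IH) (Lpn (LP (LK LD1_c1 LD2_c38 LD3_c48))))
theorem f11442 : Led Lsl_ct (LP (LK LD1_c1 LD2_c41 LD3_c45)) = (LP (LK LD1_c3 LD2_c30 LD3_c6)) :=
  Lre_c IH (LK LD1_c1 LD2_c41 LD3_c45) (LK LD1_c3 LD2_c30 LD3_c6) Lrfl Lrfl
theorem f18253 : Led Lsl_ft (LP (LK LD1_c3 LD2_c30 LD3_c6)) = (LP (LK LD1_c3 LD2_c24 LD3_c43)) :=
  Lgr Lrot4 (Lpe (f11442 IH) (Lpr_ff (f18245 IH) (Lpe (f18252 IH) (Lpn (LP (LK LD1_c3 LD2_c24 LD3_c43))))))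
theorem f66864 : Led Lsl_at (LP (LK LD1_c3 LD2_c6 LD3_c54)) = (LP (LK LD1_c3 LD2_c30 LD3_c6)) :=
  Lgr Lrot66 (Lpr_ff (f66859 IH) (Lpr_af (f66668 IH) (Lpe (f18253 IH) (Lpn (LP (LK LD1_c3 LD2_c30 LD3_c6))))))
theorem f66813 : Led Lsl_dt (LP (LK LD1_c1 LD2_c29 LD3_c35)) = (LP (LK LD1_c3 LD2_c6 LD3_c54)) :=
  Lre_d IH (LK LD1_c1 LD2_c29 LD3_c35) (LK LD1_c3 LD2_c6 LD3_c54) Lrfl Lrfl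
theorem f66868 : Led Lsl_df (LP (LK LD1_c3 LD2_c6 LD3_c52)) = (LP (LK LD1_c3 LD2_c30 LD3_c6)) :=
  Lgr Lrot18 (Lpr_at (K1.f66855 IH) (Lpr_dt (f66813 IH) (Lpr_at (f66864 IH) (Lpn (LP (LK LD1_c3 LD2_c30 LD3_c6))))))
theorem f66870 : Led Lsl_bt (LP (LK LD1_c3 LD2_c6 LD3_c52)) = (LP (LK LD1_c6 LD2_c19 LD3_c0)) :=
  Lre_b IH (LK LD1_c3 LD2_c6 LD3_c52) (LK LD1_c6 LD2_c19 LD3_c0) Lrfl Lrfl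
theorem f18256 : Led Lsl_bt (LP (LK LD1_c7 LD2_c1 LD3_c57)) = (LP (LK LD1_c3 LD2_c30 LD3_c6)) :=
  Lre_b IH (LK LD1_c7 LD2_c1 LD3_c57) (LK LD1_c3 LD2_c30 LD3_c6) Lrfl Lrfl
theorem f66871 : Led Lsl_dt (LP (LK LD1_c6 LD2_c19 LD3_c0)) = (LP (LK LD1_c7 LD2_c1 LD3_c57)) :=
  Lgr Lrot79 (Lpe (f66870 IH) (Lpr_df (f66868 IH) (Lpe (f18256 IH) (Lpn (LP (LK LD1_c7 LD2_c1 LD3_c57))))))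
theorem f18257 : Led Lsl_bt (LP (LK LD1_c3 LD2_c24 LD3_c43)) = (LP (LK LD1_c6 LD2_c51 LD3_c55)) :=
  Lre_b IH (LK LD1_c3 LD2_c24 LD3_c43) (LK LD1_c6 LD2_c51 LD3_c55) Lrfl Lrfl
theorem f18258 : Led Lsl_ff (LP (LK LD1_c7 LD2_c1 LD3_c57)) = (LP (LK LD1_c6 LD2_c51 LD3_c55)) :=
  Lgr Lrot25 (Lpr_bt (f18256 IH) (Lpr_ft (f18253 IH) (Lpr_bt (f18257 IH) (Lpn (LP (LK LD1_c6 LD2_c51 LD3_c55))))))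
theorem f18266 : Led Lsl_ft (LP (LK LD1_c7 LD2_c1 LD3_c57)) = (LP (LK LD1_c6 LD2_c51 LD3_c55)) :=
  Lgr Lrot48 (Lpr_ff (f18258 IH) (Lpn (LP (LK LD1_c6 LD2_c51 LD3_c55))))
theorem f66700 : Led Lsl_et (LP (LK LD1_c3 LD2_c12 LD3_c46)) = (LP (LK LD1_c6 LD2_c29 LD3_c35)) :=
  Lre_e IH (LK LD1_c3 LD2_c12 LD3_c46) (LK LD1_c6 LD2_c29 LD3_c35) Lrfl Lrfl
theorem f66701 : Led Lsl_dt (LP (LK LD1_c6 LD2_c29 LD3_c35)) = (LP (LK LD1_c12 LD2_c29 LD3_c11)) :=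
  Lre_d IH (LK LD1_c6 LD2_c29 LD3_c35) (LK LD1_c12 LD2_c29 LD3_c11) Lrfl Lrfl
theorem f19128 : Led Lsl_et (LP (LK LD1_c6 LD2_c51 LD3_c56)) = (LP (LK LD1_c3 LD2_c24 LD3_c43)) :=
  Lre_e IH (LK LD1_c6 LD2_c51 LD3_c56) (LK LD1_c3 LD2_c24 LD3_c43) Lrfl Lrfl
theorem f19118 : Led Lsl_dt (LP (LK LD1_c13 LD2_c3 LD3_c21)) = (LP (LK LD1_c6 LD2_c51 LD3_c56)) :=
  Lre_d IH (LK LD1_c13 LD2_c3 LD3_c21) (LK LD1_c6 LD2_c51 LD3_c56) Lrfl Lrfl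
theorem f66702 : Led Lsl_et (LP (LK LD1_c12 LD2_c29 LD3_c11)) = (LP (LK LD1_c13 LD2_c3 LD3_c21)) :=
  Lgr Lrot71 (Lpe (f66701 IH) (Lpe (f66700 IH) (Lpr_df (f66692 IH) (Lpe (f19128 IH) (Lpe (f19118 IH) (Lpn (LP (LK LD1_c13 LD2_c3 LD3_c21))))))))
theorem f66714 : Led Lsl_ef (LP (LK LD1_c12 LD2_c29 LD3_c11)) = (LP (LK LD1_c13 LD2_c3 LD3_c21)) :=
  Lgr Lrot88 (Lpr_et (f66702 IH) (Lpn (LP (LK LD1_c13 LD2_c3 LD3_c21))))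
theorem f66720 : Led Lsl_bt (LP (LK LD1_c12 LD2_c29 LD3_c11)) = (LP (LK LD1_c21 LD2_c35 LD3_c56)) :=
  Lre_b IH (LK LD1_c12 LD2_c29 LD3_c11) (LK LD1_c21 LD2_c35 LD3_c56) Lrfl Lrfl
theorem f66721 : Led Lsl_bt (LP (LK LD1_c22 LD2_c13 LD3_c5)) = (LP (LK LD1_c13 LD2_c3 LD3_c21)) :=
  Lre_b IH (LK LD1_c22 LD2_c13 LD3_c5) (LK LD1_c13 LD2_c3 LD3_c21) Lrfl Lrfl
theorem f66722 : Led Lsl_et (LP (LK LD1_c21 LD2_c35 LD3_c56)) = (LP (LK LD1_c22 LD2_c13 LD3_c5)) :=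
  Lgr Lrot74 (Lpe (f66720 IH) (Lpr_ef (f66714 IH) (Lpe (f66721 IH) (Lpn (LP (LK LD1_c22 LD2_c13 LD3_c5))))))
theorem f66727 : Led Lsl_dt (LP (LK LD1_c12 LD2_c29 LD3_c9)) = (LP (LK LD1_c21 LD2_c35 LD3_c56)) :=
  Lre_d IH (LK LD1_c12 LD2_c29 LD3_c9) (LK LD1_c21 LD2_c35 LD3_c56) Lrfl Lrfl
theorem f66728 : Led Lsl_et (LP (LK LD1_c6 LD2_c29 LD3_c34)) = (LP (LK LD1_c12 LD2_c29 LD3_c9)) :=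
  Lre_e IH (LK LD1_c6 LD2_c29 LD3_c34) (LK LD1_c12 LD2_c29 LD3_c9) Lrfl Lrfl
theorem f18299 : Led Lsl_dt (LP (LK LD1_c22 LD2_c13 LD3_c5)) = (LP (LK LD1_c13 LD2_c3 LD3_c20)) :=
  Lre_d IH (LK LD1_c22 LD2_c13 LD3_c5) (LK LD1_c13 LD2_c3 LD3_c20) Lrfl Lrfl
theorem f18265 : Led Lsl_et (LP (LK LD1_c13 LD2_c3 LD3_c20)) = (LP (LK LD1_c6 LD2_c51 LD3_c55)) :=
  Lre_e IH (LK LD1_c13 LD2_c3 LD3_c20) (LK LD1_c6 LD2_c51 LD3_c55) Lrfl Lrfl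
theorem f66729 : Led Lsl_df (LP (LK LD1_c6 LD2_c29 LD3_c34)) = (LP (LK LD1_c6 LD2_c51 LD3_c55)) :=
  Lgr Lrot70 (Lpr_et (f66728 IH) (Lpr_dt (f66727 IH) (Lpr_et (f66722 IH) (Lpr_dt (f18299 IH) (Lpr_et (f18265 IH) (Lpn (LP (LK LD1_c6 LD2_c51 LD3_c55))))))))
theorem f66876 : Led Lsl_ff (LP (LK LD1_c6 LD2_c19 LD3_c0)) = (LP (LK LD1_c6 LD2_c29 LD3_c34)) :=
  Lgr Lrot19 (Lpr_dt (f66871 IH) (Lpr_ft (f18266 IH) (Lpe (f66729 IH) (Lpn (LP (LK LD1_c6 LD2_c29 LD3_c34))))))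
theorem f66694 : Led Lsl_bt (LP (LK LD1_c3 LD2_c12 LD3_c46)) = (LP (LK LD1_c6 LD2_c29 LD3_c34)) :=
  Lre_b IH (LK LD1_c3 LD2_c12 LD3_c46) (LK LD1_c6 LD2_c29 LD3_c34) Lrfl Lrfl
theorem f18268 : Led Lsl_bt (LP (LK LD1_c6 LD2_c51 LD3_c55)) = (LP (LK LD1_c3 LD2_c24 LD3_c43)) :=
  Lre_b IH (LK LD1_c6 LD2_c51 LD3_c55) (LK LD1_c3 LD2_c24 LD3_c43) Lrfl Lrfl
theorem f66695 : Led Lsl_dt (LP (LK LD1_c6 LD2_c29 LD3_c34)) = (LP (LK LD1_c6 LD2_c51 LD3_c55)) :=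
  Lgr Lrot79 (Lpe (f66694 IH) (Lpr_df (f66692 IH) (Lpe (f18268 IH) (Lpn (LP (LK LD1_c6 LD2_c51 LD3_c55))))))
theorem f18269 : Led Lsl_ct (LP (LK LD1_c3 LD2_c30 LD3_c12)) = (LP (LK LD1_c7 LD2_c1 LD3_c57)) :=
  Lre_c IH (LK LD1_c3 LD2_c30 LD3_c12) (LK LD1_c7 LD2_c1 LD3_c57) Lrfl Lrfl
theorem f18270 : Led Lsl_ft (LP (LK LD1_c6 LD2_c10 LD3_c11)) = (LP (LK LD1_c3 LD2_c30 LD3_c12)) :=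
  Lre_f IH (LK LD1_c6 LD2_c10 LD3_c11) (LK LD1_c3 LD2_c30 LD3_c12) Lrfl Lrfl
theorem f18271 : Led Lsl_cf (LP (LK LD1_c6 LD2_c10 LD3_c11)) = (LP (LK LD1_c6 LD2_c51 LD3_c55)) :=
  Lgr Lrot108 (Lpr_ft (f18270 IH) (Lpr_ct (f18269 IH) (Lpr_ft (f18266 IH) (Lpn (LP (LK LD1_c6 LD2_c51 LD3_c55))))))
theorem f18277 : Led Lsl_dt (LP (LK LD1_c6 LD2_c10 LD3_c11)) = (LP (LK LD1_c3 LD2_c1 LD3_c42)) :=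
  Lre_d IH (LK LD1_c6 LD2_c10 LD3_c11) (LK LD1_c3 LD2_c1 LD3_c42) Lrfl Lrfl
theorem f18278 : Led Lsl_ct (LP (LK LD1_c3 LD2_c1 LD3_c42)) = (LP (LK LD1_c4 LD2_c40 LD3_c17)) :=
  Lre_c IH (LK LD1_c3 LD2_c1 LD3_c42) (LK LD1_c4 LD2_c40 LD3_c17) Lrfl Lrfl
theorem f18279 : Led Lsl_dt (LP (LK LD1_c4 LD2_c40 LD3_c17)) = (LP (LK LD1_c9 LD2_c16 LD3_c0)) :=
  Lre_d IH (LK LD1_c4 LD2_c40 LD3_c17) (LK LD1_c9 LD2_c16 LD3_c0) Lrfl Lrfl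
theorem f72905 : Led Lsl_bt (LP (LK LD1_c6 LD2_c8 LD3_c37)) = (LP (LK LD1_c11 LD2_c58 LD3_c44)) :=
  Lre_b IH (LK LD1_c6 LD2_c8 LD3_c37) (LK LD1_c11 LD2_c58 LD3_c44) Lrfl Lrfl
theorem f61588 : Led Lsl_bt (LP (LK LD1_c11 LD2_c24 LD3_c12)) = (LP (LK LD1_c5 LD2_c47 LD3_c0)) :=
  Lre_b IH (LK LD1_c11 LD2_c24 LD3_c12) (LK LD1_c5 LD2_c47 LD3_c0) Lrfl Lrfl
theorem f72906 : Led Lsl_dt (LP (LK LD1_c11 LD2_c58 LD3_c44)) = (LP (LK LD1_c11 LD2_c24 LD3_c12)) :=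
  Lgr Lrot79 (Lpe (f72905 IH) (Lpr_df (f72893 IH) (Lpe (f61588 IH) (Lpn (LP (LK LD1_c11 LD2_c24 LD3_c12))))))
theorem f74001 : Led Lsl_ct (LP (LK LD1_c9 LD2_c16 LD3_c0)) = (LP (LK LD1_c11 LD2_c58 LD3_c44)) :=
  Lgr Lrot53 (Lpe (f18279 IH) (Lpe (f18278 IH) (Lpe (f18277 IH) (Lpr_cf (f18271 IH) (Lpe (f66695 IH) (Lpe (f66876 IH) (Lpr_at (f73992 IH) (Lpe (f73986 IH) (Lpe (f72906 IH) (Lpn (LP (LK LD1_c11 LD2_c58 LD3_c44))))))))))))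
theorem f74004 : Led Lsl_cf (LP (LK LD1_c9 LD2_c16 LD3_c0)) = (LP (LK LD1_c11 LD2_c58 LD3_c44)) :=
  Lgr Lrot11 (Lpr_ct (f74001 IH) (Lpn (LP (LK LD1_c11 LD2_c58 LD3_c44))))
theorem f19123 : Led Lsl_dt (LP (LK LD1_c9 LD2_c16 LD3_c0)) = (LP (LK LD1_c4 LD2_c40 LD3_c17)) :=
  Lre_d IH (LK LD1_c9 LD2_c16 LD3_c0) (LK LD1_c4 LD2_c40 LD3_c17) Lrfl Lrfl
theorem f18288 : Led Lsl_ct (LP (LK LD1_c4 LD2_c40 LD3_c17)) = (LP (LK LD1_c3 LD2_c1 LD3_c42)) :=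
  Lre_c IH (LK LD1_c4 LD2_c40 LD3_c17) (LK LD1_c3 LD2_c1 LD3_c42) Lrfl Lrfl
theorem f18286 : Led Lsl_dt (LP (LK LD1_c3 LD2_c1 LD3_c42)) = (LP (LK LD1_c6 LD2_c10 LD3_c11)) :=
  Lre_d IH (LK LD1_c3 LD2_c1 LD3_c42) (LK LD1_c6 LD2_c10 LD3_c11) Lrfl Lrfl
theorem f18261 : Led Lsl_ct (LP (LK LD1_c7 LD2_c1 LD3_c57)) = (LP (LK LD1_c3 LD2_c30 LD3_c12)) :=
  Lre_c IH (LK LD1_c7 LD2_c1 LD3_c57) (LK LD1_c3 LD2_c30 LD3_c12) Lrfl Lrfl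
theorem f18262 : Led Lsl_ft (LP (LK LD1_c3 LD2_c30 LD3_c12)) = (LP (LK LD1_c6 LD2_c10 LD3_c11)) :=
  Lre_f IH (LK LD1_c3 LD2_c30 LD3_c12) (LK LD1_c6 LD2_c10 LD3_c11) Lrfl Lrfl
theorem f18263 : Led Lsl_ct (LP (LK LD1_c6 LD2_c10 LD3_c11)) = (LP (LK LD1_c6 LD2_c51 LD3_c55)) :=
  Lgr Lrot40 (Lpe (f18262 IH) (Lpe (f18261 IH) (Lpr_ff (f18258 IH) (Lpn (LP (LK LD1_c6 LD2_c51 LD3_c55))))))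
theorem f76402 : Led Lsl_ct (LP (LK LD1_c6 LD2_c29 LD3_c34)) = (LP (LK LD1_c6 LD2_c18 LD3_c13)) :=
  Lgr Lrot98 (Lpr_df (f66729 IH) (Lpe (f18263 IH) (Lpe (f18286 IH) (Lpe (f18288 IH) (Lpe (f19123 IH) (Lpr_cf (f74004 IH) (Lpr_df (f72891 IH) (Lpr_ft (f74285 IH) (Lpr_at (f74497 IH) (Lpn (LP (LK LD1_c6 LD2_c18 LD3_c13))))))))))))
theorem f72914 : Led Lsl_ft (LP (LK LD1_c11 LD2_c58 LD3_c44)) = (LP (LK LD1_c17 LD2_c11 LD3_c16)) :=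
  Lre_f IH (LK LD1_c11 LD2_c58 LD3_c44) (LK LD1_c17 LD2_c11 LD3_c16) Lrfl Lrfl
theorem f58404 : Led Lsl_ct (LP (LK LD1_c17 LD2_c11 LD3_c16)) = (LP (LK LD1_c9 LD2_c16 LD3_c40)) :=
  Lre_c IH (LK LD1_c17 LD2_c11 LD3_c16) (LK LD1_c9 LD2_c16 LD3_c40) Lrfl Lrfl
theorem f74009 : Led Lsl_ff (LP (LK LD1_c9 LD2_c16 LD3_c0)) = (LP (LK LD1_c9 LD2_c16 LD3_c40)) :=
  Lgr Lrot23 (Lpr_ct (f74001 IH) (Lpr_ft (f72914 IH) (Lpr_ct (f58404 IH) (Lpn (LP (LK LD1_c9 LD2_c16 LD3_c40))))))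
theorem f74017 : Led Lsl_ft (LP (LK LD1_c9 LD2_c16 LD3_c0)) = (LP (LK LD1_c9 LD2_c16 LD3_c40)) :=
  Lgr Lrot48 (Lpr_ff (f74009 IH) (Lpn (LP (LK LD1_c9 LD2_c16 LD3_c40))))
theorem f60951 : Led Lsl_ct (LP (LK LD1_c1 LD2_c20 LD3_c51)) = (LP (LK LD1_c2 LD2_c49 LD3_c24)) :=
  Lre_c IH (LK LD1_c1 LD2_c20 LD3_c51) (LK LD1_c2 LD2_c49 LD3_c24) Lrfl Lrfl
theorem f74443 : Led Lsl_ft (LP (LK LD1_c2 LD2_c49 LD3_c24)) = (LP (LK LD1_c2 LD2_c52 LD3_c0)) :=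
  Lgr Lrot4 (Lpe (f60951 IH) (Lpr_ff (f74440 IH) (Lpe (f61805 IH) (Lpn (LP (LK LD1_c2 LD2_c52 LD3_c0))))))
theorem f72466 : Led Lsl_dt (LP (LK LD1_c1 LD2_c10 LD3_c55)) = (LP (LK LD1_c0 LD2_c32 LD3_c52)) :=
  Lre_d IH (LK LD1_c1 LD2_c10 LD3_c55) (LK LD1_c0 LD2_c32 LD3_c52) Lrfl Lrfl
theorem f26539 : Led Lsl_ct (LP (LK LD1_c0 LD2_c17 LD3_c11)) = (LP (LK LD1_c0 LD2_c38 LD3_c39)) :=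
  Lre_c IH (LK LD1_c0 LD2_c17 LD3_c11) (LK LD1_c0 LD2_c38 LD3_c39) Lrfl Lrfl
theorem f72467 : Led Lsl_dt (LP (LK LD1_c0 LD2_c38 LD3_c39)) = (LP (LK LD1_c1 LD2_c23 LD3_c37)) :=
  Lre_d IH (LK LD1_c0 LD2_c38 LD3_c39) (LK LD1_c1 LD2_c23 LD3_c37) Lrfl Lrfl
theorem f72468 : Led Lsl_ct (LP (LK LD1_c2 LD2_c55 LD3_c20)) = (LP (LK LD1_c1 LD2_c23 LD3_c37)) :=
  Lre_c IH (LK LD1_c2 LD2_c55 LD3_c20) (LK LD1_c1 LD2_c23 LD3_c37) Lrfl Lrfl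
theorem f72469 : Led Lsl_gf (LP (LK LD1_c2 LD2_c55 LD3_c20)) = (LP (LK LD1_c2 LD2_c49 LD3_c24)) :=
  Lgr Lrot104 (Lpr_ct (f72468 IH) (Lpe (f72467 IH) (Lpe (f26539 IH) (Lpe (f20410 IH) (Lpe (f20409 IH) (Lpe (f72402 IH) (Lpe (f72466 IH) (Lpr_gt (f72439 IH) (Lpr_ct (f60951 IH) (Lpn (LP (LK LD1_c2 LD2_c49 LD3_c24))))))))))))
theorem f74502 : Led Lsl_gf (LP (LK LD1_c4 LD2_c58 LD3_c35)) = (LP (LK LD1_c2 LD2_c55 LD3_c20)) :=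
  Lgr Lrot76 (Lpr_af (f74494 IH) (Lpe (f74443 IH) (Lpe (f72469 IH) (Lpn (LP (LK LD1_c2 LD2_c55 LD3_c20))))))
theorem f72868 : Led Lsl_ct (LP (LK LD1_c9 LD2_c16 LD3_c34)) = (LP (LK LD1_c4 LD2_c40 LD3_c37)) :=
  Lre_c IH (LK LD1_c9 LD2_c16 LD3_c34) (LK LD1_c4 LD2_c40 LD3_c37) Lrfl Lrfl
theorem f22841 : Led Lsl_gt (LP (LK LD1_c4 LD2_c40 LD3_c35)) = (LP (LK LD1_c2 LD2_c17 LD3_c22)) :=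
  Lre_g IH (LK LD1_c4 LD2_c40 LD3_c35) (LK LD1_c2 LD2_c17 LD3_c22) Lrfl Lrfl
theorem f72447 : Led Lsl_ft (LP (LK LD1_c1 LD2_c10 LD3_c55)) = (LP (LK LD1_c2 LD2_c26 LD3_c61)) :=
  Lre_f IH (LK LD1_c1 LD2_c10 LD3_c55) (LK LD1_c2 LD2_c26 LD3_c61) Lrfl Lrfl
theorem f72448 : Led Lsl_at (LP (LK LD1_c2 LD2_c26 LD3_c61)) = (LP (LK LD1_c1 LD2_c10 LD3_c50)) :=
  Lre_a IH (LK LD1_c2 LD2_c26 LD3_c61) (LK LD1_c1 LD2_c10 LD3_c50) Lrfl Lrfl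
theorem f72449 : Led Lsl_gf (LP (LK LD1_c1 LD2_c10 LD3_c50)) = (LP (LK LD1_c1 LD2_c20 LD3_c51)) :=
  Lgr Lrot76 (Lpe (f72448 IH) (Lpe (f72447 IH) (Lpr_gt (f72439 IH) (Lpn (LP (LK LD1_c1 LD2_c20 LD3_c51))))))
theorem f72519 : Led Lsl_dt (LP (LK LD1_c1 LD2_c10 LD3_c50)) = (LP (LK LD1_c0 LD2_c32 LD3_c51)) :=
  Lre_d IH (LK LD1_c1 LD2_c10 LD3_c50) (LK LD1_c0 LD2_c32 LD3_c51) Lrfl Lrfl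
theorem f72520 : Led Lsl_gt (LP (LK LD1_c0 LD2_c32 LD3_c51)) = (LP (LK LD1_c1 LD2_c10 LD3_c46)) :=
  Lre_g IH (LK LD1_c0 LD2_c32 LD3_c51) (LK LD1_c1 LD2_c10 LD3_c46) Lrfl Lrfl
theorem f72521 : Led Lsl_dt (LP (LK LD1_c1 LD2_c10 LD3_c46)) = (LP (LK LD1_c2 LD2_c26 LD3_c58)) :=
  Lre_d IH (LK LD1_c1 LD2_c10 LD3_c46) (LK LD1_c2 LD2_c26 LD3_c58) Lrfl Lrfl
theorem f40684 : Led Lsl_ct (LP (LK LD1_c4 LD2_c58 LD3_c13)) = (LP (LK LD1_c2 LD2_c26 LD3_c58)) :=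
  Lre_c IH (LK LD1_c4 LD2_c58 LD3_c13) (LK LD1_c2 LD2_c26 LD3_c58) Lrfl Lrfl
theorem f40685 : Led Lsl_dt (LP (LK LD1_c2 LD2_c56 LD3_c40)) = (LP (LK LD1_c4 LD2_c58 LD3_c13)) :=
  Lre_d IH (LK LD1_c2 LD2_c56 LD3_c40) (LK LD1_c4 LD2_c58 LD3_c13) Lrfl Lrfl
theorem f40686 : Led Lsl_gt (LP (LK LD1_c4 LD2_c59 LD3_c45)) = (LP (LK LD1_c2 LD2_c56 LD3_c40)) :=
  Lre_g IH (LK LD1_c4 LD2_c59 LD3_c45) (LK LD1_c2 LD2_c56 LD3_c40) Lrfl Lrfl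
theorem f72522 : Led Lsl_dt (LP (LK LD1_c2 LD2_c55 LD3_c20)) = (LP (LK LD1_c4 LD2_c59 LD3_c45)) :=
  Lgr Lrot57 (Lpr_gf (f72469 IH) (Lpe (f60951 IH) (Lpe (f72449 IH) (Lpr_dt (f72519 IH) (Lpr_gt (f72520 IH) (Lpr_dt (f72521 IH) (Lpe (f40684 IH) (Lpe (f40685 IH) (Lpe (f40686 IH) (Lpn (LP (LK LD1_c4 LD2_c59 LD3_c45))))))))))))
theorem f72542 : Led Lsl_df (LP (LK LD1_c2 LD2_c55 LD3_c20)) = (LP (LK LD1_c4 LD2_c59 LD3_c45)) :=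
  Lgr Lrot38 (Lpr_dt (f72522 IH) (Lpn (LP (LK LD1_c4 LD2_c59 LD3_c45))))
theorem f14023 : Led Lsl_gt (LP (LK LD1_c2 LD2_c27 LD3_c41)) = (LP (LK LD1_c4 LD2_c59 LD3_c45)) :=
  Lre_g IH (LK LD1_c2 LD2_c27 LD3_c41) (LK LD1_c4 LD2_c59 LD3_c45) Lrfl Lrfl
theorem f14022 : Led Lsl_ct (LP (LK LD1_c4 LD2_c46 LD3_c40)) = (LP (LK LD1_c2 LD2_c27 LD3_c41)) :=
  Lre_c IH (LK LD1_c4 LD2_c46 LD3_c40) (LK LD1_c2 LD2_c27 LD3_c41) Lrfl Lrfl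
theorem f14147 : Led Lsl_gt (LP (LK LD1_c4 LD2_c46 LD3_c40)) = (LP (LK LD1_c2 LD2_c56 LD3_c39)) :=
  Lre_g IH (LK LD1_c4 LD2_c46 LD3_c40) (LK LD1_c2 LD2_c56 LD3_c39) Lrfl Lrfl
theorem f74504 : Led Lsl_df (LP (LK LD1_c4 LD2_c40 LD3_c35)) = (LP (LK LD1_c2 LD2_c56 LD3_c39)) :=
  Lgr Lrot153 (Lpr_gt (f22841 IH) (Lpr_dt (f72820 IH) (Lpe (f72868 IH) (Lpr_df (f74269 IH) (Lpr_gf (f74502 IH) (Lpr_df (f72542 IH) (Lpe (f14023 IH) (Lpe (f14022 IH) (Lpr_gt (f14147 IH) (Lpn (LP (LK LD1_c2 LD2_c56 LD3_c39))))))))))))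
theorem f22838 : Led Lsl_ct (LP (LK LD1_c2 LD2_c17 LD3_c22)) = (LP (LK LD1_c1 LD2_c5 LD3_c40)) :=
  Lre_c IH (LK LD1_c2 LD2_c17 LD3_c22) (LK LD1_c1 LD2_c5 LD3_c40) Lrfl Lrfl
theorem f69352 : Led Lsl_gt (LP (LK LD1_c2 LD2_c56 LD3_c39)) = (LP (LK LD1_c1 LD2_c24 LD3_c7)) :=
  Lre_g IH (LK LD1_c2 LD2_c56 LD3_c39) (LK LD1_c1 LD2_c24 LD3_c7) Lrfl Lrfl
theorem f13725 : Led Lsl_ct (LP (LK LD1_c1 LD2_c24 LD3_c7)) = (LP (LK LD1_c2 LD2_c56 LD3_c40)) :=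
  Lre_c IH (LK LD1_c1 LD2_c24 LD3_c7) (LK LD1_c2 LD2_c56 LD3_c40) Lrfl Lrfl
theorem f14069 : Led Lsl_gt (LP (LK LD1_c2 LD2_c56 LD3_c40)) = (LP (LK LD1_c4 LD2_c59 LD3_c46)) :=
  Lre_g IH (LK LD1_c2 LD2_c56 LD3_c40) (LK LD1_c4 LD2_c59 LD3_c46) Lrfl Lrfl
theorem f56977 : Led Lsl_ct (LP (LK LD1_c4 LD2_c59 LD3_c46)) = (LP (LK LD1_c2 LD2_c55 LD3_c31)) :=
  Lre_c IH (LK LD1_c4 LD2_c59 LD3_c46) (LK LD1_c2 LD2_c55 LD3_c31) Lrfl Lrfl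
theorem f26530 : Led Lsl_dt (LP (LK LD1_c1 LD2_c23 LD3_c41)) = (LP (LK LD1_c2 LD2_c55 LD3_c31)) :=
  Lre_d IH (LK LD1_c1 LD2_c23 LD3_c41) (LK LD1_c2 LD2_c55 LD3_c31) Lrfl Lrfl
theorem f74540 : Led Lsl_gt (LP (LK LD1_c1 LD2_c5 LD3_c40)) = (LP (LK LD1_c0 LD2_c38 LD3_c40)) :=
  Lgr Lrot150 (Lpe (f22838 IH) (Lpe (f22841 IH) (Lpr_df (f74504 IH) (Lpr_gt (f69352 IH) (Lpr_ct (f13725 IH) (Lpr_gt (f14069 IH) (Lpr_ct (f56977 IH) (Lpe (f26530 IH) (Lpe (f37293 IH) (Lpn (LP (LK LD1_c0 LD2_c38 LD3_c40))))))))))))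
theorem f74551 : Led Lsl_ft (LP (LK LD1_c1 LD2_c5 LD3_c40)) = (LP (LK LD1_c0 LD2_c39 LD3_c47)) :=
  Lre_f IH (LK LD1_c1 LD2_c5 LD3_c40) (LK LD1_c0 LD2_c39 LD3_c47) Lrfl Lrfl
theorem f74552 : Led Lsl_gt (LP (LK LD1_c0 LD2_c38 LD3_c40)) = (LP (LK LD1_c1 LD2_c23 LD3_c40)) :=
  Lre_g IH (LK LD1_c0 LD2_c38 LD3_c40) (LK LD1_c1 LD2_c23 LD3_c40) Lrfl Lrfl
theorem f74553 : Led Lsl_at (LP (LK LD1_c0 LD2_c39 LD3_c47)) = (LP (LK LD1_c1 LD2_c23 LD3_c40)) :=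
  Lgr Lrot26 (Lpe (f74551 IH) (Lpr_gt (f74540 IH) (Lpr_gt (f74552 IH) (Lpn (LP (LK LD1_c1 LD2_c23 LD3_c40))))))
theorem f60950 : Led Lsl_dt (LP (LK LD1_c0 LD2_c37 LD3_c20)) = (LP (LK LD1_c1 LD2_c20 LD3_c51)) :=
  Lre_d IH (LK LD1_c0 LD2_c37 LD3_c20) (LK LD1_c1 LD2_c20 LD3_c51) Lrfl Lrfl
theorem f72811 : Led Lsl_ct (LP (LK LD1_c2 LD2_c55 LD3_c26)) = (LP (LK LD1_c1 LD2_c23 LD3_c40)) :=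
  Lre_c IH (LK LD1_c2 LD2_c55 LD3_c26) (LK LD1_c1 LD2_c23 LD3_c40) Lrfl Lrfl
theorem f74790 : Led Lsl_dt (LP (LK LD1_c5 LD2_c58 LD3_c5)) = (LP (LK LD1_c2 LD2_c55 LD3_c26)) :=
  Lre_d IH (LK LD1_c5 LD2_c58 LD3_c5) (LK LD1_c2 LD2_c55 LD3_c26) Lrfl Lrfl
theorem f74791 : Led Lsl_ct (LP (LK LD1_c5 LD2_c47 LD3_c3)) = (LP (LK LD1_c5 LD2_c58 LD3_c5)) :=
  Lgr Lrot53 (Lpe (f61531 IH) (Lpe (f60951 IH) (Lpe (f60950 IH) (Lpr_cf (f60915 IH) (Lpe (f72459 IH) (Lpr_ft (f74551 IH) (Lpr_at (f74553 IH) (Lpe (f72811 IH) (Lpe (f74790 IH) (Lpn (LP (LK LD1_c5 LD2_c58 LD3_c5))))))))))))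
theorem f22839 : Led Lsl_dt (LP (LK LD1_c4 LD2_c40 LD3_c37)) = (LP (LK LD1_c2 LD2_c17 LD3_c22)) :=
  Lre_d IH (LK LD1_c4 LD2_c40 LD3_c37) (LK LD1_c2 LD2_c17 LD3_c22) Lrfl Lrfl
theorem f58733 : Led Lsl_ft (LP (LK LD1_c4 LD2_c40 LD3_c37)) = (LP (LK LD1_c3 LD2_c0 LD3_c38)) :=
  Lre_f IH (LK LD1_c4 LD2_c40 LD3_c37) (LK LD1_c3 LD2_c0 LD3_c38) Lrfl Lrfl
theorem f74801 : Led Lsl_at (LP (LK LD1_c3 LD2_c0 LD3_c38)) = (LP (LK LD1_c5 LD2_c58 LD3_c5)) :=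
  Lgr Lrot33 (Lpe (f58733 IH) (Lpr_dt (f22839 IH) (Lpr_ct (f22838 IH) (Lpr_dt (f72459 IH) (Lpe (f60915 IH) (Lpr_dt (f60950 IH) (Lpr_ct (f60951 IH) (Lpr_dt (f61531 IH) (Lpr_ct (f74791 IH) (Lpn (LP (LK LD1_c5 LD2_c58 LD3_c5))))))))))))
theorem f74806 : Led Lsl_et (LP (LK LD1_c6 LD2_c8 LD3_c38)) = (LP (LK LD1_c3 LD2_c0 LD3_c38)) :=
  Lre_e IH (LK LD1_c6 LD2_c8 LD3_c38) (LK LD1_c3 LD2_c0 LD3_c38) Lrfl Lrfl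
theorem f74798 : Led Lsl_et (LP (LK LD1_c5 LD2_c58 LD3_c5)) = (LP (LK LD1_c11 LD2_c40 LD3_c51)) :=
  Lre_e IH (LK LD1_c5 LD2_c58 LD3_c5) (LK LD1_c11 LD2_c40 LD3_c51) Lrfl Lrfl
theorem f74807 : Led Lsl_af (LP (LK LD1_c6 LD2_c8 LD3_c38)) = (LP (LK LD1_c11 LD2_c40 LD3_c51)) :=
  Lgr Lrot50 (Lpr_et (f74806 IH) (Lpr_at (f74801 IH) (Lpr_et (f74798 IH) (Lpn (LP (LK LD1_c11 LD2_c40 LD3_c51))))))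
theorem f58703 : Led Lsl_ft (LP (LK LD1_c6 LD2_c8 LD3_c38)) = (LP (LK LD1_c11 LD2_c58 LD3_c49)) :=
  Lre_f IH (LK LD1_c6 LD2_c8 LD3_c38) (LK LD1_c11 LD2_c58 LD3_c49) Lrfl Lrfl
theorem f74816 : Led Lsl_ft (LP (LK LD1_c20 LD2_c40 LD3_c40)) = (LP (LK LD1_c11 LD2_c40 LD3_c51)) :=
  Lre_f IH (LK LD1_c20 LD2_c40 LD3_c40) (LK LD1_c11 LD2_c40 LD3_c51) Lrfl Lrfl
theorem f74817 : Led Lsl_at (LP (LK LD1_c11 LD2_c58 LD3_c49)) = (LP (LK LD1_c20 LD2_c40 LD3_c40)) :=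
  Lgr Lrot66 (Lpe (f58703 IH) (Lpr_af (f74807 IH) (Lpe (f74816 IH) (Lpn (LP (LK LD1_c20 LD2_c40 LD3_c40))))))
theorem f74821 : Led Lsl_dt (LP (LK LD1_c20 LD2_c40 LD3_c40)) = (LP (LK LD1_c29 LD2_c34 LD3_c61)) :=
  Lre_d IH (LK LD1_c20 LD2_c40 LD3_c40) (LK LD1_c29 LD2_c34 LD3_c61) Lrfl Lrfl
theorem f74829 : Led Lsl_af (LP (LK LD1_c21 LD2_c3 LD3_c37)) = (LP (LK LD1_c29 LD2_c34 LD3_c61)) :=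
  Lgr Lrot117 (Lpr_dt (K1.f58660 IH) (Lpr_at (f74817 IH) (Lpr_dt (f74821 IH) (Lpn (LP (LK LD1_c29 LD2_c34 LD3_c61))))))
theorem f74834 : Led Lsl_at (LP (LK LD1_c21 LD2_c3 LD3_c37)) = (LP (LK LD1_c29 LD2_c34 LD3_c61)) :=
  Lgr Lrot100 (Lpr_af (f74829 IH) (Lpn (LP (LK LD1_c29 LD2_c34 LD3_c61))))
theorem f74842 : Led Lsl_ft (LP (LK LD1_c11 LD2_c58 LD3_c48)) = (LP (LK LD1_c21 LD2_c3 LD3_c37)) :=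
  Lre_f IH (LK LD1_c11 LD2_c58 LD3_c48) (LK LD1_c21 LD2_c3 LD3_c37) Lrfl Lrfl
theorem f74843 : Led Lsl_ft (LP (LK LD1_c29 LD2_c34 LD3_c61)) = (LP (LK LD1_c20 LD2_c40 LD3_c39)) :=
  Lre_f IH (LK LD1_c29 LD2_c34 LD3_c61) (LK LD1_c20 LD2_c40 LD3_c39) Lrfl Lrfl
theorem f74844 : Led Lsl_af (LP (LK LD1_c11 LD2_c58 LD3_c48)) = (LP (LK LD1_c20 LD2_c40 LD3_c39)) :=
  Lgr Lrot45 (Lpr_ft (f74842 IH) (Lpr_at (f74834 IH) (Lpr_ft (f74843 IH) (Lpn (LP (LK LD1_c20 LD2_c40 LD3_c39))))))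
theorem f74850 : Led Lsl_et (LP (LK LD1_c11 LD2_c58 LD3_c48)) = (LP (LK LD1_c6 LD2_c8 LD3_c41)) :=
  Lre_e IH (LK LD1_c11 LD2_c58 LD3_c48) (LK LD1_c6 LD2_c8 LD3_c41) Lrfl Lrfl
theorem f74851 : Led Lsl_et (LP (LK LD1_c11 LD2_c40 LD3_c54)) = (LP (LK LD1_c20 LD2_c40 LD3_c39)) :=
  Lre_e IH (LK LD1_c11 LD2_c40 LD3_c54) (LK LD1_c20 LD2_c40 LD3_c39) Lrfl Lrfl
theorem f74852 : Led Lsl_at (LP (LK LD1_c6 LD2_c8 LD3_c41)) = (LP (LK LD1_c11 LD2_c40 LD3_c54)) :=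
  Lgr Lrot80 (Lpe (f74850 IH) (Lpr_af (f74844 IH) (Lpe (f74851 IH) (Lpn (LP (LK LD1_c11 LD2_c40 LD3_c54))))))
theorem f74866 : Led Lsl_dt (LP (LK LD1_c3 LD2_c0 LD3_c39)) = (LP (LK LD1_c6 LD2_c8 LD3_c41)) :=
  Lre_d IH (LK LD1_c3 LD2_c0 LD3_c39) (LK LD1_c6 LD2_c8 LD3_c41) Lrfl Lrfl
theorem f74867 : Led Lsl_dt (LP (LK LD1_c11 LD2_c40 LD3_c54)) = (LP (LK LD1_c5 LD2_c58 LD3_c6)) :=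
  Lre_d IH (LK LD1_c11 LD2_c40 LD3_c54) (LK LD1_c5 LD2_c58 LD3_c6) Lrfl Lrfl
theorem f74868 : Led Lsl_af (LP (LK LD1_c3 LD2_c0 LD3_c39)) = (LP (LK LD1_c5 LD2_c58 LD3_c6)) :=
  Lgr Lrot117 (Lpr_dt (f74866 IH) (Lpr_at (f74852 IH) (Lpr_dt (f74867 IH) (Lpn (LP (LK LD1_c5 LD2_c58 LD3_c6))))))
theorem f74885 : Led Lsl_ft (LP (LK LD1_c3 LD2_c0 LD3_c39)) = (LP (LK LD1_c6 LD2_c8 LD3_c42)) :=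
  Lre_f IH (LK LD1_c3 LD2_c0 LD3_c39) (LK LD1_c6 LD2_c8 LD3_c42) Lrfl Lrfl
theorem f74886 : Led Lsl_ft (LP (LK LD1_c11 LD2_c40 LD3_c55)) = (LP (LK LD1_c5 LD2_c58 LD3_c6)) :=
  Lre_f IH (LK LD1_c11 LD2_c40 LD3_c55) (LK LD1_c5 LD2_c58 LD3_c6) Lrfl Lrfl
theorem f74887 : Led Lsl_at (LP (LK LD1_c6 LD2_c8 LD3_c42)) = (LP (LK LD1_c11 LD2_c40 LD3_c55)) :=
  Lgr Lrot66 (Lpe (f74885 IH) (Lpr_af (f74868 IH) (Lpe (f74886 IH) (Lpn (LP (LK LD1_c11 LD2_c40 LD3_c55))))))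
theorem f74910 : Led Lsl_et (LP (LK LD1_c9 LD2_c16 LD3_c39)) = (LP (LK LD1_c6 LD2_c8 LD3_c42)) :=
  Lre_e IH (LK LD1_c9 LD2_c16 LD3_c39) (LK LD1_c6 LD2_c8 LD3_c42) Lrfl Lrfl
theorem f74911 : Led Lsl_at (LP (LK LD1_c17 LD2_c11 LD3_c15)) = (LP (LK LD1_c9 LD2_c16 LD3_c39)) :=
  Lre_a IH (LK LD1_c17 LD2_c11 LD3_c15) (LK LD1_c9 LD2_c16 LD3_c39) Lrfl Lrfl
theorem f74912 : Led Lsl_ef (LP (LK LD1_c17 LD2_c11 LD3_c15)) = (LP (LK LD1_c11 LD2_c40 LD3_c55)) :=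
  Lgr Lrot20 (Lpr_at (f74911 IH) (Lpr_et (f74910 IH) (Lpr_at (f74887 IH) (Lpn (LP (LK LD1_c11 LD2_c40 LD3_c55))))))
theorem f74928 : Led Lsl_ft (LP (LK LD1_c17 LD2_c11 LD3_c15)) = (LP (LK LD1_c9 LD2_c16 LD3_c33)) :=
  Lre_f IH (LK LD1_c17 LD2_c11 LD3_c15) (LK LD1_c9 LD2_c16 LD3_c33) Lrfl Lrfl
theorem f74929 : Led Lsl_et (LP (LK LD1_c9 LD2_c16 LD3_c33)) = (LP (LK LD1_c4 LD2_c40 LD3_c36)) :=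
  Lre_e IH (LK LD1_c9 LD2_c16 LD3_c33) (LK LD1_c4 LD2_c40 LD3_c36) Lrfl Lrfl
theorem f74930 : Led Lsl_ft (LP (LK LD1_c5 LD2_c58 LD3_c6)) = (LP (LK LD1_c11 LD2_c40 LD3_c55)) :=
  Lre_f IH (LK LD1_c5 LD2_c58 LD3_c6) (LK LD1_c11 LD2_c40 LD3_c55) Lrfl Lrfl
theorem f74882 : Led Lsl_et (LP (LK LD1_c2 LD2_c55 LD3_c26)) = (LP (LK LD1_c5 LD2_c58 LD3_c6)) :=
  Lre_e IH (LK LD1_c2 LD2_c55 LD3_c26) (LK LD1_c5 LD2_c58 LD3_c6) Lrfl Lrfl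
theorem f74931 : Led Lsl_ft (LP (LK LD1_c4 LD2_c40 LD3_c36)) = (LP (LK LD1_c2 LD2_c55 LD3_c26)) :=
  Lgr Lrot86 (Lpe (f74929 IH) (Lpe (f74928 IH) (Lpr_ef (f74912 IH) (Lpe (f74930 IH) (Lpe (f74882 IH) (Lpn (LP (LK LD1_c2 LD2_c55 LD3_c26))))))))
theorem f74940 : Led Lsl_ff (LP (LK LD1_c4 LD2_c40 LD3_c36)) = (LP (LK LD1_c2 LD2_c55 LD3_c26)) :=
  Lgr Lrot3 (Lpr_ft (f74931 IH) (Lpn (LP (LK LD1_c2 LD2_c55 LD3_c26))))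
theorem f72842 : Led Lsl_ct (LP (LK LD1_c4 LD2_c40 LD3_c36)) = (LP (LK LD1_c2 LD2_c17 LD3_c28)) :=
  Lre_c IH (LK LD1_c4 LD2_c40 LD3_c36) (LK LD1_c2 LD2_c17 LD3_c28) Lrfl Lrfl
theorem f74713 : Led Lsl_ct (LP (LK LD1_c1 LD2_c23 LD3_c40)) = (LP (LK LD1_c2 LD2_c55 LD3_c26)) :=
  Lre_c IH (LK LD1_c1 LD2_c23 LD3_c40) (LK LD1_c2 LD2_c55 LD3_c26) Lrfl Lrfl
theorem f74952 : Led Lsl_ft (LP (LK LD1_c2 LD2_c17 LD3_c28)) = (LP (LK LD1_c1 LD2_c23 LD3_c40)) :=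
  Lgr Lrot4 (Lpe (f72842 IH) (Lpr_ff (f74940 IH) (Lpe (f74713 IH) (Lpn (LP (LK LD1_c1 LD2_c23 LD3_c40))))))
theorem f74987 : Led Lsl_et (LP (LK LD1_c4 LD2_c40 LD3_c50)) = (LP (LK LD1_c2 LD2_c17 LD3_c28)) :=
  Lre_e IH (LK LD1_c4 LD2_c40 LD3_c50) (LK LD1_c2 LD2_c17 LD3_c28) Lrfl Lrfl
theorem f74988 : Led Lsl_ft (LP (LK LD1_c9 LD2_c17 LD3_c7)) = (LP (LK LD1_c4 LD2_c40 LD3_c50)) :=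
  Lre_f IH (LK LD1_c9 LD2_c17 LD3_c7) (LK LD1_c4 LD2_c40 LD3_c50) Lrfl Lrfl
theorem f74784 : Led Lsl_et (LP (LK LD1_c1 LD2_c23 LD3_c40)) = (LP (LK LD1_c2 LD2_c55 LD3_c27)) :=
  Lre_e IH (LK LD1_c1 LD2_c23 LD3_c40) (LK LD1_c2 LD2_c55 LD3_c27) Lrfl Lrfl
theorem f74989 : Led Lsl_ft (LP (LK LD1_c2 LD2_c55 LD3_c27)) = (LP (LK LD1_c5 LD2_c58 LD3_c10)) :=
  Lre_f IH (LK LD1_c2 LD2_c55 LD3_c27) (LK LD1_c5 LD2_c58 LD3_c10) Lrfl Lrfl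
theorem f74990 : Led Lsl_ef (LP (LK LD1_c9 LD2_c17 LD3_c7)) = (LP (LK LD1_c5 LD2_c58 LD3_c10)) :=
  Lgr Lrot21 (Lpr_ft (f74988 IH) (Lpr_et (f74987 IH) (Lpr_ft (f74952 IH) (Lpr_et (f74784 IH) (Lpr_ft (f74989 IH) (Lpn (LP (LK LD1_c5 LD2_c58 LD3_c10))))))))
theorem f74992 : Led Lsl_at (LP (LK LD1_c9 LD2_c17 LD3_c7)) = (LP (LK LD1_c4 LD2_c40 LD3_c54)) :=
  Lre_a IH (LK LD1_c9 LD2_c17 LD3_c7) (LK LD1_c4 LD2_c40 LD3_c54) Lrfl Lrfl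
theorem f74993 : Led Lsl_et (LP (LK LD1_c4 LD2_c40 LD3_c54)) = (LP (LK LD1_c3 LD2_c0 LD3_c42)) :=
  Lre_e IH (LK LD1_c4 LD2_c40 LD3_c54) (LK LD1_c3 LD2_c0 LD3_c42) Lrfl Lrfl
theorem f74994 : Led Lsl_at (LP (LK LD1_c3 LD2_c0 LD3_c42)) = (LP (LK LD1_c5 LD2_c58 LD3_c10)) :=
  Lgr Lrot80 (Lpe (f74993 IH) (Lpe (f74992 IH) (Lpr_ef (f74990 IH) (Lpn (LP (LK LD1_c5 LD2_c58 LD3_c10))))))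
theorem f75004 : Led Lsl_ft (LP (LK LD1_c1 LD2_c26 LD3_c9)) = (LP (LK LD1_c3 LD2_c0 LD3_c42)) :=
  Lre_f IH (LK LD1_c1 LD2_c26 LD3_c9) (LK LD1_c3 LD2_c0 LD3_c42) Lrfl Lrfl
theorem f58498 : Led Lsl_gt (LP (LK LD1_c1 LD2_c26 LD3_c9)) = (LP (LK LD1_c3 LD2_c0 LD3_c40)) :=
  Lre_g IH (LK LD1_c1 LD2_c26 LD3_c9) (LK LD1_c3 LD2_c0 LD3_c40) Lrfl Lrfl
theorem f75006 : Led Lsl_gt (LP (LK LD1_c3 LD2_c0 LD3_c40)) = (LP (LK LD1_c5 LD2_c58 LD3_c10)) :=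
  Lgr Lrot46 (Lpe (f58498 IH) (Lpr_ft (f75004 IH) (Lpr_at (f74994 IH) (Lpn (LP (LK LD1_c5 LD2_c58 LD3_c10))))))
theorem f75016 : Led Lsl_et (LP (LK LD1_c6 LD2_c8 LD3_c46)) = (LP (LK LD1_c3 LD2_c0 LD3_c40)) :=
  Lre_e IH (LK LD1_c6 LD2_c8 LD3_c46) (LK LD1_c3 LD2_c0 LD3_c40) Lrfl Lrfl
theorem f74923 : Led Lsl_ct (LP (LK LD1_c17 LD2_c11 LD3_c15)) = (LP (LK LD1_c9 LD2_c17 LD3_c7)) :=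
  Lre_c IH (LK LD1_c17 LD2_c11 LD3_c15) (LK LD1_c9 LD2_c17 LD3_c7) Lrfl Lrfl
theorem f74896 : Led Lsl_ct (LP (LK LD1_c5 LD2_c58 LD3_c10)) = (LP (LK LD1_c11 LD2_c40 LD3_c55)) :=
  Lre_c IH (LK LD1_c5 LD2_c58 LD3_c10) (LK LD1_c11 LD2_c40 LD3_c55) Lrfl Lrfl
theorem f74924 : Led Lsl_et (LP (LK LD1_c9 LD2_c17 LD3_c7)) = (LP (LK LD1_c5 LD2_c58 LD3_c10)) :=
  Lgr Lrot158 (Lpe (f74923 IH) (Lpr_ef (f74912 IH) (Lpe (f74896 IH) (Lpn (LP (LK LD1_c5 LD2_c58 LD3_c10))))))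
theorem f74598 : Led Lsl_dt (LP (LK LD1_c9 LD2_c17 LD3_c7)) = (LP (LK LD1_c17 LD2_c12 LD3_c13)) :=
  Lre_d IH (LK LD1_c9 LD2_c17 LD3_c7) (LK LD1_c17 LD2_c12 LD3_c13) Lrfl Lrfl
theorem f74597 : Led Lsl_gt (LP (LK LD1_c17 LD2_c12 LD3_c13)) = (LP (LK LD1_c9 LD2_c17 LD3_c15)) :=
  Lre_g IH (LK LD1_c17 LD2_c12 LD3_c13) (LK LD1_c9 LD2_c17 LD3_c15) Lrfl Lrfl
theorem f74564 : Led Lsl_et (LP (LK LD1_c2 LD2_c17 LD3_c29)) = (LP (LK LD1_c1 LD2_c5 LD3_c40)) :=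
  Lre_e IH (LK LD1_c2 LD2_c17 LD3_c29) (LK LD1_c1 LD2_c5 LD3_c40) Lrfl Lrfl
theorem f74565 : Led Lsl_dt (LP (LK LD1_c2 LD2_c17 LD3_c29)) = (LP (LK LD1_c4 LD2_c40 LD3_c53)) :=
  Lre_d IH (LK LD1_c2 LD2_c17 LD3_c29) (LK LD1_c4 LD2_c40 LD3_c53) Lrfl Lrfl
theorem f74566 : Led Lsl_gt (LP (LK LD1_c9 LD2_c17 LD3_c15)) = (LP (LK LD1_c4 LD2_c40 LD3_c53)) :=
  Lre_g IH (LK LD1_c9 LD2_c17 LD3_c15) (LK LD1_c4 LD2_c40 LD3_c53) Lrfl Lrfl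
theorem f72401 : Led Lsl_dt (LP (LK LD1_c0 LD2_c38 LD3_c40)) = (LP (LK LD1_c0 LD2_c17 LD3_c11)) :=
  Lre_d IH (LK LD1_c0 LD2_c38 LD3_c40) (LK LD1_c0 LD2_c17 LD3_c11) Lrfl Lrfl
theorem f56896 : Led Lsl_gt (LP (LK LD1_c0 LD2_c17 LD3_c11)) = (LP (LK LD1_c0 LD2_c38 LD3_c36)) :=
  Lre_g IH (LK LD1_c0 LD2_c17 LD3_c11) (LK LD1_c0 LD2_c38 LD3_c36) Lrfl Lrfl
theorem f74567 : Led Lsl_dt (LP (LK LD1_c1 LD2_c8 LD3_c19)) = (LP (LK LD1_c0 LD2_c38 LD3_c36)) :=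
  Lre_d IH (LK LD1_c1 LD2_c8 LD3_c19) (LK LD1_c0 LD2_c38 LD3_c36) Lrfl Lrfl
theorem f74568 : Led Lsl_et (LP (LK LD1_c1 LD2_c8 LD3_c19)) = (LP (LK LD1_c2 LD2_c22 LD3_c21)) :=
  Lre_e IH (LK LD1_c1 LD2_c8 LD3_c19) (LK LD1_c2 LD2_c22 LD3_c21) Lrfl Lrfl
theorem f74569 : Led Lsl_gt (LP (LK LD1_c2 LD2_c22 LD3_c21)) = (LP (LK LD1_c4 LD2_c48 LD3_c59)) :=
  Lre_g IH (LK LD1_c2 LD2_c22 LD3_c21) (LK LD1_c4 LD2_c48 LD3_c59) Lrfl Lrfl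
theorem f74570 : Led Lsl_et (LP (LK LD1_c9 LD2_c30 LD3_c28)) = (LP (LK LD1_c4 LD2_c48 LD3_c59)) :=
  Lre_e IH (LK LD1_c9 LD2_c30 LD3_c28) (LK LD1_c4 LD2_c48 LD3_c59) Lrfl Lrfl
theorem f74571 : Led Lsl_df (LP (LK LD1_c9 LD2_c17 LD3_c15)) = (LP (LK LD1_c9 LD2_c30 LD3_c28)) :=
  Lgr Lrot170 (Lpr_gt (f74566 IH) (Lpe (f74565 IH) (Lpr_et (f74564 IH) (Lpr_gt (f74540 IH) (Lpr_dt (f72401 IH) (Lpr_gt (f56896 IH) (Lpe (f74567 IH) (Lpr_et (f74568 IH) (Lpr_gt (f74569 IH) (Lpe (f74570 IH) (Lpn (LP (LK LD1_c9 LD2_c30 LD3_c28)))))))))))))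
theorem f74601 : Led Lsl_gt (LP (LK LD1_c4 LD2_c48 LD3_c59)) = (LP (LK LD1_c2 LD2_c22 LD3_c25)) :=
  Lre_g IH (LK LD1_c4 LD2_c48 LD3_c59) (LK LD1_c2 LD2_c22 LD3_c25) Lrfl Lrfl
theorem f74607 : Led Lsl_dt (LP (LK LD1_c2 LD2_c22 LD3_c25)) = (LP (LK LD1_c4 LD2_c49 LD3_c12)) :=
  Lre_d IH (LK LD1_c2 LD2_c22 LD3_c25) (LK LD1_c4 LD2_c49 LD3_c12) Lrfl Lrfl
theorem f74608 : Led Lsl_gt (LP (LK LD1_c4 LD2_c49 LD3_c12)) = (LP (LK LD1_c9 LD2_c30 LD3_c34)) :=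
  Lre_g IH (LK LD1_c4 LD2_c49 LD3_c12) (LK LD1_c9 LD2_c30 LD3_c34) Lrfl Lrfl
theorem f75017 : Led Lsl_dt (LP (LK LD1_c6 LD2_c8 LD3_c46)) = (LP (LK LD1_c9 LD2_c30 LD3_c34)) :=
  Lgr Lrot56 (Lpr_et (f75016 IH) (Lpr_gt (f75006 IH) (Lpe (f74924 IH) (Lpr_dt (f74598 IH) (Lpr_gt (f74597 IH) (Lpr_df (f74571 IH) (Lpr_et (f74570 IH) (Lpr_gt (f74601 IH) (Lpr_dt (f74607 IH) (Lpr_gt (f74608 IH) (Lpn (LP (LK LD1_c9 LD2_c30 LD3_c34)))))))))))))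
theorem f75035 : Led Lsl_et (LP (LK LD1_c0 LD2_c39 LD3_c47)) = (LP (LK LD1_c1 LD2_c26 LD3_c9)) :=
  Lre_e IH (LK LD1_c0 LD2_c39 LD3_c47) (LK LD1_c1 LD2_c26 LD3_c9) Lrfl Lrfl
theorem f37268 : Led Lsl_dt (LP (LK LD1_c0 LD2_c39 LD3_c47)) = (LP (LK LD1_c0 LD2_c17 LD3_c49)) :=
  Lre_d IH (LK LD1_c0 LD2_c39 LD3_c47) (LK LD1_c0 LD2_c17 LD3_c49) Lrfl Lrfl
theorem f20559 : Led Lsl_gt (LP (LK LD1_c0 LD2_c39 LD3_c45)) = (LP (LK LD1_c0 LD2_c17 LD3_c49)) :=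
  Lre_g IH (LK LD1_c0 LD2_c39 LD3_c45) (LK LD1_c0 LD2_c17 LD3_c49) Lrfl Lrfl
theorem f75022 : Led Lsl_gt (LP (LK LD1_c9 LD2_c30 LD3_c34)) = (LP (LK LD1_c4 LD2_c48 LD3_c61)) :=
  Lre_g IH (LK LD1_c9 LD2_c30 LD3_c34) (LK LD1_c4 LD2_c48 LD3_c61) Lrfl Lrfl
theorem f75029 : Led Lsl_dt (LP (LK LD1_c2 LD2_c22 LD3_c21)) = (LP (LK LD1_c4 LD2_c48 LD3_c61)) :=
  Lre_d IH (LK LD1_c2 LD2_c22 LD3_c21) (LK LD1_c4 LD2_c48 LD3_c61) Lrfl Lrfl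
theorem f75030 : Led Lsl_et (LP (LK LD1_c2 LD2_c22 LD3_c21)) = (LP (LK LD1_c1 LD2_c8 LD3_c19)) :=
  Lre_e IH (LK LD1_c2 LD2_c22 LD3_c21) (LK LD1_c1 LD2_c8 LD3_c19) Lrfl Lrfl
theorem f56898 : Led Lsl_gt (LP (LK LD1_c1 LD2_c8 LD3_c19)) = (LP (LK LD1_c0 LD2_c38 LD3_c49)) :=
  Lre_g IH (LK LD1_c1 LD2_c8 LD3_c19) (LK LD1_c0 LD2_c38 LD3_c49) Lrfl Lrfl
theorem f75036 : Led Lsl_df (LP (LK LD1_c0 LD2_c39 LD3_c45)) = (LP (LK LD1_c0 LD2_c38 LD3_c49)) :=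
  Lgr Lrot135 (Lpr_gt (f20559 IH) (Lpe (f37268 IH) (Lpr_et (f75035 IH) (Lpr_gt (f58498 IH) (Lpe (f75016 IH) (Lpr_dt (f75017 IH) (Lpr_gt (f75022 IH) (Lpe (f75029 IH) (Lpr_et (f75030 IH) (Lpr_gt (f56898 IH) (Lpn (LP (LK LD1_c0 LD2_c38 LD3_c49)))))))))))))
theorem f23016 : Led Lsl_dt (LP (LK LD1_c3 LD2_c0 LD3_c38)) = (LP (LK LD1_c1 LD2_c26 LD3_c8)) :=
  Lre_d IH (LK LD1_c3 LD2_c0 LD3_c38) (LK LD1_c1 LD2_c26 LD3_c8) Lrfl Lrfl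
theorem f72711 : Led Lsl_ct (LP (LK LD1_c2 LD2_c21 LD3_c16)) = (LP (LK LD1_c1 LD2_c8 LD3_c19)) :=
  Lre_c IH (LK LD1_c2 LD2_c21 LD3_c16) (LK LD1_c1 LD2_c8 LD3_c19) Lrfl Lrfl
theorem f26424 : Led Lsl_gt (LP (LK LD1_c2 LD2_c21 LD3_c16)) = (LP (LK LD1_c1 LD2_c24 LD3_c6)) :=
  Lre_g IH (LK LD1_c2 LD2_c21 LD3_c16) (LK LD1_c1 LD2_c24 LD3_c6) Lrfl Lrfl
theorem f72724 : Led Lsl_dt (LP (LK LD1_c1 LD2_c24 LD3_c6)) = (LP (LK LD1_c2 LD2_c56 LD3_c36)) :=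
  Lre_d IH (LK LD1_c1 LD2_c24 LD3_c6) (LK LD1_c2 LD2_c56 LD3_c36) Lrfl Lrfl
theorem f75052 : Led Lsl_gf (LP (LK LD1_c3 LD2_c0 LD3_c38)) = (LP (LK LD1_c2 LD2_c56 LD3_c36)) :=
  Lgr Lrot143 (Lpr_dt (f23016 IH) (Lpe (f23018 IH) (Lpe (f72876 IH) (Lpe (f20559 IH) (Lpr_df (f75036 IH) (Lpe (f56898 IH) (Lpe (f72711 IH) (Lpr_gt (f26424 IH) (Lpr_dt (f72724 IH) (Lpn (LP (LK LD1_c2 LD2_c56 LD3_c36))))))))))))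
theorem f68994 : Led Lsl_gt (LP (LK LD1_c1 LD2_c24 LD3_c6)) = (LP (LK LD1_c0 LD2_c38 LD3_c50)) :=
  Lre_g IH (LK LD1_c1 LD2_c24 LD3_c6) (LK LD1_c0 LD2_c38 LD3_c50) Lrfl Lrfl
theorem f69350 : Led Lsl_ct (LP (LK LD1_c0 LD2_c38 LD3_c50)) = (LP (LK LD1_c0 LD2_c17 LD3_c14)) :=
  Lre_c IH (LK LD1_c0 LD2_c38 LD3_c50) (LK LD1_c0 LD2_c17 LD3_c14) Lrfl Lrfl
theorem f26478 : Led Lsl_ct (LP (LK LD1_c0 LD2_c38 LD3_c48)) = (LP (LK LD1_c1 LD2_c24 LD3_c0)) :=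
  Lre_c IH (LK LD1_c0 LD2_c38 LD3_c48) (LK LD1_c1 LD2_c24 LD3_c0) Lrfl Lrfl
theorem f26543 : Led Lsl_dt (LP (LK LD1_c2 LD2_c56 LD3_c14)) = (LP (LK LD1_c1 LD2_c24 LD3_c0)) :=
  Lre_d IH (LK LD1_c2 LD2_c56 LD3_c14) (LK LD1_c1 LD2_c24 LD3_c0) Lrfl Lrfl
theorem f72473 : Led Lsl_dt (LP (LK LD1_c1 LD2_c23 LD3_c37)) = (LP (LK LD1_c0 LD2_c38 LD3_c39)) :=
  Lre_d IH (LK LD1_c1 LD2_c23 LD3_c37) (LK LD1_c0 LD2_c38 LD3_c39) Lrfl Lrfl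
theorem f72564 : Led Lsl_ct (LP (LK LD1_c2 LD2_c55 LD3_c31)) = (LP (LK LD1_c4 LD2_c59 LD3_c46)) :=
  Lre_c IH (LK LD1_c2 LD2_c55 LD3_c31) (LK LD1_c4 LD2_c59 LD3_c46) Lrfl Lrfl
theorem f14070 : Led Lsl_dt (LP (LK LD1_c4 LD2_c59 LD3_c46)) = (LP (LK LD1_c2 LD2_c55 LD3_c51)) :=
  Lre_d IH (LK LD1_c4 LD2_c59 LD3_c46) (LK LD1_c2 LD2_c55 LD3_c51) Lrfl Lrfl
theorem f14071 : Led Lsl_ct (LP (LK LD1_c2 LD2_c55 LD3_c51)) = (LP (LK LD1_c1 LD2_c23 LD3_c52)) :=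
  Lre_c IH (LK LD1_c2 LD2_c55 LD3_c51) (LK LD1_c1 LD2_c23 LD3_c52) Lrfl Lrfl
theorem f72565 : Led Lsl_dt (LP (LK LD1_c1 LD2_c23 LD3_c52)) = (LP (LK LD1_c0 LD2_c38 LD3_c44)) :=
  Lre_d IH (LK LD1_c1 LD2_c23 LD3_c52) (LK LD1_c0 LD2_c38 LD3_c44) Lrfl Lrfl
theorem f56887 : Led Lsl_ct (LP (LK LD1_c0 LD2_c38 LD3_c44)) = (LP (LK LD1_c0 LD2_c17 LD3_c12)) :=
  Lre_c IH (LK LD1_c0 LD2_c38 LD3_c44) (LK LD1_c0 LD2_c17 LD3_c12) Lrfl Lrfl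
theorem f72566 : Led Lsl_ct (LP (LK LD1_c0 LD2_c38 LD3_c45)) = (LP (LK LD1_c1 LD2_c23 LD3_c54)) :=
  Lre_c IH (LK LD1_c0 LD2_c38 LD3_c45) (LK LD1_c1 LD2_c23 LD3_c54) Lrfl Lrfl
theorem f72552 : Led Lsl_dt (LP (LK LD1_c1 LD2_c23 LD3_c54)) = (LP (LK LD1_c2 LD2_c55 LD3_c55)) :=
  Lre_d IH (LK LD1_c1 LD2_c23 LD3_c54) (LK LD1_c2 LD2_c55 LD3_c55) Lrfl Lrfl
theorem f72567 : Led Lsl_ct (LP (LK LD1_c2 LD2_c55 LD3_c55)) = (LP (LK LD1_c4 LD2_c59 LD3_c45)) :=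
  Lgr Lrot176 (Lpe (f72552 IH) (Lpe (f72566 IH) (Lpe (f72458 IH) (Lpe (f56887 IH) (Lpe (f72565 IH) (Lpe (f14071 IH) (Lpe (f14070 IH) (Lpe (f72564 IH) (Lpe (f26530 IH) (Lpe (f37293 IH) (Lpe (f37292 IH) (Lpe (f20411 IH) (Lpe (f72473 IH) (Lpe (f72468 IH) (Lpr_df (f72542 IH) (Lpn (LP (LK LD1_c4 LD2_c59 LD3_c45))))))))))))))))))
theorem f72639 : Led Lsl_gt (LP (LK LD1_c2 LD2_c55 LD3_c55)) = (LP (LK LD1_c5 LD2_c58 LD3_c23)) :=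
  Lre_g IH (LK LD1_c2 LD2_c55 LD3_c55) (LK LD1_c5 LD2_c58 LD3_c23) Lrfl Lrfl
theorem f72640 : Led Lsl_dt (LP (LK LD1_c5 LD2_c58 LD3_c23)) = (LP (LK LD1_c2 LD2_c56 LD3_c12)) :=
  Lre_d IH (LK LD1_c5 LD2_c58 LD3_c23) (LK LD1_c2 LD2_c56 LD3_c12) Lrfl Lrfl
theorem f72641 : Led Lsl_gt (LP (LK LD1_c2 LD2_c56 LD3_c12)) = (LP (LK LD1_c1 LD2_c24 LD3_c0)) :=
  Lre_g IH (LK LD1_c2 LD2_c56 LD3_c12) (LK LD1_c1 LD2_c24 LD3_c0) Lrfl Lrfl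
theorem f26536 : Led Lsl_dt (LP (LK LD1_c1 LD2_c24 LD3_c0)) = (LP (LK LD1_c2 LD2_c56 LD3_c14)) :=
  Lre_d IH (LK LD1_c1 LD2_c24 LD3_c0) (LK LD1_c2 LD2_c56 LD3_c14) Lrfl Lrfl
theorem f14399 : Led Lsl_gt (LP (LK LD1_c4 LD2_c58 LD3_c13)) = (LP (LK LD1_c2 LD2_c27 LD3_c40)) :=
  Lre_g IH (LK LD1_c4 LD2_c58 LD3_c13) (LK LD1_c2 LD2_c27 LD3_c40) Lrfl Lrfl
theorem f14400 : Led Lsl_dt (LP (LK LD1_c2 LD2_c27 LD3_c40)) = (LP (LK LD1_c4 LD2_c59 LD3_c43)) :=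
  Lre_d IH (LK LD1_c2 LD2_c27 LD3_c40) (LK LD1_c4 LD2_c59 LD3_c43) Lrfl Lrfl
theorem f72642 : Led Lsl_cf (LP (LK LD1_c2 LD2_c56 LD3_c14)) = (LP (LK LD1_c4 LD2_c59 LD3_c43)) :=
  Lgr Lrot14 (Lpe (f26536 IH) (Lpe (f72641 IH) (Lpe (f72640 IH) (Lpe (f72639 IH) (Lpr_ct (f72567 IH) (Lpr_gt (f40686 IH) (Lpr_dt (f40685 IH) (Lpr_gt (f14399 IH) (Lpr_dt (f14400 IH) (Lpn (LP (LK LD1_c4 LD2_c59 LD3_c43))))))))))))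
theorem f75080 : Led Lsl_gt (LP (LK LD1_c6 LD2_c8 LD3_c37)) = (LP (LK LD1_c4 LD2_c59 LD3_c43)) :=
  Lgr Lrot150 (Lpe (f72878 IH) (Lpr_gf (f75052 IH) (Lpe (f72724 IH) (Lpr_gt (f68994 IH) (Lpr_ct (f69350 IH) (Lpr_gt (K0.f23682 IH) (Lpr_ct (f26478 IH) (Lpe (f26543 IH) (Lpr_cf (f72642 IH) (Lpn (LP (LK LD1_c4 LD2_c59 LD3_c43))))))))))))
theorem f72908 : Led Lsl_ct (LP (LK LD1_c6 LD2_c8 LD3_c37)) = (LP (LK LD1_c3 LD2_c0 LD3_c38)) :=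
  Lre_c IH (LK LD1_c6 LD2_c8 LD3_c37) (LK LD1_c3 LD2_c0 LD3_c38) Lrfl Lrfl
theorem f56882 : Led Lsl_dt (LP (LK LD1_c4 LD2_c59 LD3_c43)) = (LP (LK LD1_c2 LD2_c27 LD3_c40)) :=
  Lre_d IH (LK LD1_c4 LD2_c59 LD3_c43) (LK LD1_c2 LD2_c27 LD3_c40) Lrfl Lrfl
theorem f56880 : Led Lsl_gt (LP (LK LD1_c2 LD2_c27 LD3_c40)) = (LP (LK LD1_c1 LD2_c10 LD3_c60)) :=
  Lre_g IH (LK LD1_c2 LD2_c27 LD3_c40) (LK LD1_c1 LD2_c10 LD3_c60) Lrfl Lrfl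
theorem f56881 : Led Lsl_dt (LP (LK LD1_c1 LD2_c10 LD3_c60)) = (LP (LK LD1_c2 LD2_c27 LD3_c41)) :=
  Lre_d IH (LK LD1_c1 LD2_c10 LD3_c60) (LK LD1_c2 LD2_c27 LD3_c41) Lrfl Lrfl
theorem f74322 : Led Lsl_dt (LP (LK LD1_c2 LD2_c21 LD3_c16)) = (LP (LK LD1_c4 LD2_c46 LD3_c40)) :=
  Lre_d IH (LK LD1_c2 LD2_c21 LD3_c16) (LK LD1_c4 LD2_c46 LD3_c40) Lrfl Lrfl
theorem f72712 : Led Lsl_gt (LP (LK LD1_c1 LD2_c24 LD3_c5)) = (LP (LK LD1_c2 LD2_c21 LD3_c16)) :=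
  Lre_g IH (LK LD1_c1 LD2_c24 LD3_c5) (LK LD1_c2 LD2_c21 LD3_c16) Lrfl Lrfl
theorem f72713 : Led Lsl_dt (LP (LK LD1_c2 LD2_c56 LD3_c32)) = (LP (LK LD1_c1 LD2_c24 LD3_c5)) :=
  Lre_d IH (LK LD1_c2 LD2_c56 LD3_c32) (LK LD1_c1 LD2_c24 LD3_c5) Lrfl Lrfl
theorem f75136 : Led Lsl_gt (LP (LK LD1_c3 LD2_c0 LD3_c38)) = (LP (LK LD1_c2 LD2_c56 LD3_c32)) :=
  Lgr Lrot94 (Lpe (f72908 IH) (Lpr_gt (f75080 IH) (Lpr_dt (f56882 IH) (Lpr_gt (f56880 IH) (Lpr_dt (f56881 IH) (Lpe (f14022 IH) (Lpe (f74322 IH) (Lpe (f72712 IH) (Lpe (f72713 IH) (Lpn (LP (LK LD1_c2 LD2_c56 LD3_c32))))))))))))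
theorem f58725 : Led Lsl_ft (LP (LK LD1_c3 LD2_c0 LD3_c38)) = (LP (LK LD1_c4 LD2_c40 LD3_c37)) :=
  Lre_f IH (LK LD1_c3 LD2_c0 LD3_c38) (LK LD1_c4 LD2_c40 LD3_c37) Lrfl Lrfl
theorem f72714 : Led Lsl_gt (LP (LK LD1_c2 LD2_c56 LD3_c32)) = (LP (LK LD1_c6 LD2_c0 LD3_c33)) :=
  Lre_g IH (LK LD1_c2 LD2_c56 LD3_c32) (LK LD1_c6 LD2_c0 LD3_c33) Lrfl Lrfl
theorem f75141 : Led Lsl_at (LP (LK LD1_c4 LD2_c40 LD3_c37)) = (LP (LK LD1_c6 LD2_c0 LD3_c33)) :=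
  Lgr Lrot26 (Lpe (f58725 IH) (Lpr_gt (f75136 IH) (Lpr_gt (f72714 IH) (Lpn (LP (LK LD1_c6 LD2_c0 LD3_c33))))))
theorem f23015 : Led Lsl_ct (LP (LK LD1_c1 LD2_c26 LD3_c8)) = (LP (LK LD1_c0 LD2_c39 LD3_c47)) :=
  Lre_c IH (LK LD1_c1 LD2_c26 LD3_c8) (LK LD1_c0 LD2_c39 LD3_c47) Lrfl Lrfl
theorem f73428 : Led Lsl_dt (LP (LK LD1_c1 LD2_c20 LD3_c57)) = (LP (LK LD1_c2 LD2_c49 LD3_c38)) :=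
  Lre_d IH (LK LD1_c1 LD2_c20 LD3_c57) (LK LD1_c2 LD2_c49 LD3_c38) Lrfl Lrfl
theorem f73226 : Led Lsl_df (LP (LK LD1_c4 LD2_c6 LD3_c6)) = (LP (LK LD1_c2 LD2_c49 LD3_c48)) :=
  Lgr Lrot38 (Lpr_dt (f73205 IH) (Lpn (LP (LK LD1_c2 LD2_c49 LD3_c48))))
theorem f55785 : Led Lsl_bt (LP (LK LD1_c4 LD2_c6 LD3_c6)) = (LP (LK LD1_c8 LD2_c12 LD3_c49)) :=
  Lre_b IH (LK LD1_c4 LD2_c6 LD3_c6) (LK LD1_c8 LD2_c12 LD3_c49) Lrfl Lrfl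
theorem f73229 : Led Lsl_dt (LP (LK LD1_c8 LD2_c12 LD3_c49)) = (LP (LK LD1_c5 LD2_c47 LD3_c36)) :=
  Lgr Lrot79 (Lpe (f55785 IH) (Lpr_df (f73226 IH) (Lpe (f73228 IH) (Lpn (LP (LK LD1_c5 LD2_c47 LD3_c36))))))
theorem f73234 : Led Lsl_ft (LP (LK LD1_c4 LD2_c6 LD3_c0)) = (LP (LK LD1_c8 LD2_c12 LD3_c49)) :=
  Lre_f IH (LK LD1_c4 LD2_c6 LD3_c0) (LK LD1_c8 LD2_c12 LD3_c49) Lrfl Lrfl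
theorem f73235 : Led Lsl_ft (LP (LK LD1_c5 LD2_c47 LD3_c36)) = (LP (LK LD1_c2 LD2_c49 LD3_c45)) :=
  Lre_f IH (LK LD1_c5 LD2_c47 LD3_c36) (LK LD1_c2 LD2_c49 LD3_c45) Lrfl Lrfl
theorem f73236 : Led Lsl_df (LP (LK LD1_c4 LD2_c6 LD3_c0)) = (LP (LK LD1_c2 LD2_c49 LD3_c45)) :=
  Lgr Lrot78 (Lpr_ft (f73234 IH) (Lpr_dt (f73229 IH) (Lpr_ft (f73235 IH) (Lpn (LP (LK LD1_c2 LD2_c49 LD3_c45))))))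
theorem f73255 : Led Lsl_et (LP (LK LD1_c4 LD2_c6 LD3_c0)) = (LP (LK LD1_c2 LD2_c0 LD3_c16)) :=
  Lre_e IH (LK LD1_c4 LD2_c6 LD3_c0) (LK LD1_c2 LD2_c0 LD3_c16) Lrfl Lrfl
theorem f73256 : Led Lsl_dt (LP (LK LD1_c2 LD2_c0 LD3_c16)) = (LP (LK LD1_c0 LD2_c57 LD3_c6)) :=
  Lre_d IH (LK LD1_c2 LD2_c0 LD3_c16) (LK LD1_c0 LD2_c57 LD3_c6) Lrfl Lrfl
theorem f73258 : Led Lsl_et (LP (LK LD1_c0 LD2_c57 LD3_c6)) = (LP (LK LD1_c0 LD2_c37 LD3_c23)) :=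
  Lgr Lrot71 (Lpe (f73256 IH) (Lpe (f73255 IH) (Lpr_df (f73236 IH) (Lpe (f73257 IH) (Lpe (f59473 IH) (Lpn (LP (LK LD1_c0 LD2_c37 LD3_c23))))))))
theorem f60830 : Led Lsl_ft (LP (LK LD1_c2 LD2_c0 LD3_c17)) = (LP (LK LD1_c0 LD2_c57 LD3_c6)) :=
  Lre_f IH (LK LD1_c2 LD2_c0 LD3_c17) (LK LD1_c0 LD2_c57 LD3_c6) Lrfl Lrfl
theorem f60821 : Led Lsl_ef (LP (LK LD1_c2 LD2_c0 LD3_c17)) = (LP (LK LD1_c3 LD2_c4 LD3_c50)) :=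
  Lgr Lrot88 (Lpr_et (f60810 IH) (Lpn (LP (LK LD1_c3 LD2_c4 LD3_c50))))
theorem f73282 : Led Lsl_ff (LP (LK LD1_c0 LD2_c40 LD3_c52)) = (LP (LK LD1_c0 LD2_c37 LD3_c23)) :=
  Lgr Lrot72 (Lpr_et (f60831 IH) (Lpr_ft (f60795 IH) (Lpe (f60821 IH) (Lpr_ft (f60830 IH) (Lpr_et (f73258 IH) (Lpn (LP (LK LD1_c0 LD2_c37 LD3_c23))))))))
theorem f60663 : Led Lsl_at (LP (LK LD1_c1 LD2_c28 LD3_c3)) = (LP (LK LD1_c3 LD2_c4 LD3_c1)) :=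
  Lre_a IH (LK LD1_c1 LD2_c28 LD3_c3) (LK LD1_c3 LD2_c4 LD3_c1) Lrfl Lrfl
theorem f60846 : Led Lsl_at (LP (LK LD1_c1 LD2_c28 LD3_c26)) = (LP (LK LD1_c0 LD2_c40 LD3_c52)) :=
  Lre_a IH (LK LD1_c1 LD2_c28 LD3_c26) (LK LD1_c0 LD2_c40 LD3_c52) Lrfl Lrfl
theorem f60847 : Led Lsl_ct (LP (LK LD1_c3 LD2_c4 LD3_c1)) = (LP (LK LD1_c1 LD2_c28 LD3_c26)) :=
  Lgr Lrot111 (Lpe (f60663 IH) (Lpr_cf (f60793 IH) (Lpe (f60846 IH) (Lpn (LP (LK LD1_c1 LD2_c28 LD3_c26))))))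
theorem f60664 : Led Lsl_dt (LP (LK LD1_c6 LD2_c14 LD3_c15)) = (LP (LK LD1_c3 LD2_c4 LD3_c1)) :=
  Lre_d IH (LK LD1_c6 LD2_c14 LD3_c15) (LK LD1_c3 LD2_c4 LD3_c1) Lrfl Lrfl
theorem f60874 : Led Lsl_ct (LP (LK LD1_c12 LD2_c6 LD3_c59)) = (LP (LK LD1_c6 LD2_c14 LD3_c15)) :=
  Lre_c IH (LK LD1_c12 LD2_c6 LD3_c59) (LK LD1_c6 LD2_c14 LD3_c15) Lrfl Lrfl
theorem f56657 : Led Lsl_ct (LP (LK LD1_c1 LD2_c20 LD3_c59)) = (LP (LK LD1_c2 LD2_c49 LD3_c44)) :=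
  Lre_c IH (LK LD1_c1 LD2_c20 LD3_c59) (LK LD1_c2 LD2_c49 LD3_c44) Lrfl Lrfl
theorem f73297 : Led Lsl_dt (LP (LK LD1_c2 LD2_c49 LD3_c44)) = (LP (LK LD1_c5 LD2_c47 LD3_c32)) :=
  Lre_d IH (LK LD1_c2 LD2_c49 LD3_c44) (LK LD1_c5 LD2_c47 LD3_c32) Lrfl Lrfl
theorem f73298 : Led Lsl_ct (LP (LK LD1_c5 LD2_c47 LD3_c32)) = (LP (LK LD1_c11 LD2_c24 LD3_c58)) :=
  Lre_c IH (LK LD1_c5 LD2_c47 LD3_c32) (LK LD1_c11 LD2_c24 LD3_c58) Lrfl Lrfl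
theorem f73299 : Led Lsl_df (LP (LK LD1_c12 LD2_c6 LD3_c59)) = (LP (LK LD1_c11 LD2_c24 LD3_c58)) :=
  Lgr Lrot13 (Lpr_ct (f60874 IH) (Lpr_dt (f60664 IH) (Lpr_ct (f60847 IH) (Lpe (f60863 IH) (Lpr_ff (f73282 IH) (Lpr_dt (f59473 IH) (Lpr_ct (f56657 IH) (Lpr_dt (f73297 IH) (Lpr_ct (f73298 IH) (Lpn (LP (LK LD1_c11 LD2_c24 LD3_c58))))))))))))
theorem f60399 : Led Lsl_at (LP (LK LD1_c3 LD2_c4 LD3_c2)) = (LP (LK LD1_c6 LD2_c14 LD3_c15)) :=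
  Lre_a IH (LK LD1_c3 LD2_c4 LD3_c2) (LK LD1_c6 LD2_c14 LD3_c15) Lrfl Lrfl
theorem f56747 : Led Lsl_ct (LP (LK LD1_c1 LD2_c20 LD3_c58)) = (LP (LK LD1_c0 LD2_c37 LD3_c23)) :=
  Lre_c IH (LK LD1_c1 LD2_c20 LD3_c58) (LK LD1_c0 LD2_c37 LD3_c23) Lrfl Lrfl
theorem f56748 : Led Lsl_dt (LP (LK LD1_c2 LD2_c49 LD3_c41)) = (LP (LK LD1_c1 LD2_c20 LD3_c58)) :=
  Lre_d IH (LK LD1_c2 LD2_c49 LD3_c41) (LK LD1_c1 LD2_c20 LD3_c58) Lrfl Lrfl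
theorem f73308 : Led Lsl_ff (LP (LK LD1_c3 LD2_c4 LD3_c2)) = (LP (LK LD1_c2 LD2_c49 LD3_c41)) :=
  Lgr Lrot103 (Lpr_at (f60399 IH) (Lpe (f60874 IH) (Lpr_df (f73299 IH) (Lpe (f73298 IH) (Lpe (f73297 IH) (Lpe (f56657 IH) (Lpe (f59473 IH) (Lpe (f56747 IH) (Lpe (f56748 IH) (Lpn (LP (LK LD1_c2 LD2_c49 LD3_c41))))))))))))
theorem f73324 : Led Lsl_ft (LP (LK LD1_c3 LD2_c4 LD3_c2)) = (LP (LK LD1_c2 LD2_c49 LD3_c41)) :=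
  Lgr Lrot48 (Lpr_ff (f73308 IH) (Lpn (LP (LK LD1_c2 LD2_c49 LD3_c41))))
theorem f73340 : Led Lsl_et (LP (LK LD1_c6 LD2_c14 LD3_c18)) = (LP (LK LD1_c3 LD2_c4 LD3_c2)) :=
  Lre_e IH (LK LD1_c6 LD2_c14 LD3_c18) (LK LD1_c3 LD2_c4 LD3_c2) Lrfl Lrfl
theorem f73341 : Led Lsl_ft (LP (LK LD1_c12 LD2_c7 LD3_c3)) = (LP (LK LD1_c6 LD2_c14 LD3_c18)) :=
  Lre_f IH (LK LD1_c12 LD2_c7 LD3_c3) (LK LD1_c6 LD2_c14 LD3_c18) Lrfl Lrfl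
theorem f73342 : Led Lsl_et (LP (LK LD1_c2 LD2_c49 LD3_c41)) = (LP (LK LD1_c5 LD2_c47 LD3_c25)) :=
  Lre_e IH (LK LD1_c2 LD2_c49 LD3_c41) (LK LD1_c5 LD2_c47 LD3_c25) Lrfl Lrfl
theorem f73343 : Led Lsl_ft (LP (LK LD1_c5 LD2_c47 LD3_c25)) = (LP (LK LD1_c11 LD2_c24 LD3_c52)) :=
  Lre_f IH (LK LD1_c5 LD2_c47 LD3_c25) (LK LD1_c11 LD2_c24 LD3_c52) Lrfl Lrfl
theorem f73344 : Led Lsl_ef (LP (LK LD1_c12 LD2_c7 LD3_c3)) = (LP (LK LD1_c11 LD2_c24 LD3_c52)) :=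
  Lgr Lrot21 (Lpr_ft (f73341 IH) (Lpr_et (f73340 IH) (Lpr_ft (f73324 IH) (Lpr_et (f73342 IH) (Lpr_ft (f73343 IH) (Lpn (LP (LK LD1_c11 LD2_c24 LD3_c52))))))))
theorem f56443 : Led Lsl_bt (LP (LK LD1_c12 LD2_c7 LD3_c3)) = (LP (LK LD1_c6 LD2_c14 LD3_c25)) :=
  Lre_b IH (LK LD1_c12 LD2_c7 LD3_c3) (LK LD1_c6 LD2_c14 LD3_c25) Lrfl Lrfl
theorem f73346 : Led Lsl_bt (LP (LK LD1_c6 LD2_c24 LD3_c23)) = (LP (LK LD1_c11 LD2_c24 LD3_c52)) :=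
  Lgr Lrot119 (Lpe (K1.f56441 IH) (Lpe (f56443 IH) (Lpr_ef (f73344 IH) (Lpn (LP (LK LD1_c11 LD2_c24 LD3_c52))))))
theorem f56351 : Led Lsl_ft (LP (LK LD1_c3 LD2_c9 LD3_c49)) = (LP (LK LD1_c6 LD2_c24 LD3_c23)) :=
  Lre_f IH (LK LD1_c3 LD2_c9 LD3_c49) (LK LD1_c6 LD2_c24 LD3_c23) Lrfl Lrfl
theorem f73321 : Led Lsl_ft (LP (LK LD1_c11 LD2_c24 LD3_c52)) = (LP (LK LD1_c5 LD2_c47 LD3_c25)) :=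
  Lre_f IH (LK LD1_c11 LD2_c24 LD3_c52) (LK LD1_c5 LD2_c47 LD3_c25) Lrfl Lrfl
theorem f73350 : Led Lsl_bf (LP (LK LD1_c3 LD2_c9 LD3_c49)) = (LP (LK LD1_c5 LD2_c47 LD3_c25)) :=
  Lgr Lrot61 (Lpr_ft (f56351 IH) (Lpr_bt (f73346 IH) (Lpr_ft (f73321 IH) (Lpn (LP (LK LD1_c5 LD2_c47 LD3_c25))))))
theorem f46709 : Led Lsl_bt (LP (LK LD1_c4 LD2_c4 LD3_c58)) = (LP (LK LD1_c8 LD2_c10 LD3_c38)) :=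
  Lre_b IH (LK LD1_c4 LD2_c4 LD3_c58) (LK LD1_c8 LD2_c10 LD3_c38) Lrfl Lrfl
theorem f73356 : Led Lsl_dt (LP (LK LD1_c8 LD2_c10 LD3_c38)) = (LP (LK LD1_c5 LD2_c47 LD3_c25)) :=
  Lgr Lrot79 (Lpe (f46709 IH) (Lpr_df (K1.f56343 IH) (Lpr_bf (f73350 IH) (Lpn (LP (LK LD1_c5 LD2_c47 LD3_c25))))))
theorem f73361 : Led Lsl_df (LP (LK LD1_c8 LD2_c10 LD3_c38)) = (LP (LK LD1_c5 LD2_c47 LD3_c25)) :=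
  Lgr Lrot38 (Lpr_dt (f73356 IH) (Lpn (LP (LK LD1_c5 LD2_c47 LD3_c25))))
theorem f73369 : Led Lsl_et (LP (LK LD1_c8 LD2_c10 LD3_c38)) = (LP (LK LD1_c4 LD2_c4 LD3_c55)) :=
  Lre_e IH (LK LD1_c8 LD2_c10 LD3_c38) (LK LD1_c4 LD2_c4 LD3_c55) Lrfl Lrfl
theorem f73377 : Led Lsl_dt (LP (LK LD1_c4 LD2_c4 LD3_c55)) = (LP (LK LD1_c1 LD2_c59 LD3_c33)) :=
  Lre_d IH (LK LD1_c4 LD2_c4 LD3_c55) (LK LD1_c1 LD2_c59 LD3_c33) Lrfl Lrfl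
theorem f73317 : Led Lsl_dt (LP (LK LD1_c1 LD2_c20 LD3_c58)) = (LP (LK LD1_c2 LD2_c49 LD3_c41)) :=
  Lre_d IH (LK LD1_c1 LD2_c20 LD3_c58) (LK LD1_c2 LD2_c49 LD3_c41) Lrfl Lrfl
theorem f73378 : Led Lsl_et (LP (LK LD1_c1 LD2_c59 LD3_c33)) = (LP (LK LD1_c1 LD2_c20 LD3_c58)) :=
  Lgr Lrot71 (Lpe (f73377 IH) (Lpe (f73369 IH) (Lpr_df (f73361 IH) (Lpe (f73342 IH) (Lpe (f73317 IH) (Lpn (LP (LK LD1_c1 LD2_c20 LD3_c58))))))))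
theorem f46852 : Led Lsl_at (LP (LK LD1_c4 LD2_c4 LD3_c54)) = (LP (LK LD1_c1 LD2_c59 LD3_c33)) :=
  Lre_a IH (LK LD1_c4 LD2_c4 LD3_c54) (LK LD1_c1 LD2_c59 LD3_c33) Lrfl Lrfl
theorem f73380 : Led Lsl_at (LP (LK LD1_c1 LD2_c20 LD3_c58)) = (LP (LK LD1_c2 LD2_c49 LD3_c37)) :=
  Lre_a IH (LK LD1_c1 LD2_c20 LD3_c58) (LK LD1_c2 LD2_c49 LD3_c37) Lrfl Lrfl
theorem f73381 : Led Lsl_ef (LP (LK LD1_c4 LD2_c4 LD3_c54)) = (LP (LK LD1_c2 LD2_c49 LD3_c37)) :=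
  Lgr Lrot20 (Lpr_at (f46852 IH) (Lpr_et (f73378 IH) (Lpr_at (f73380 IH) (Lpn (LP (LK LD1_c2 LD2_c49 LD3_c37))))))
theorem f73392 : Led Lsl_et (LP (LK LD1_c4 LD2_c4 LD3_c54)) = (LP (LK LD1_c2 LD2_c49 LD3_c37)) :=
  Lgr Lrot87 (Lpr_ef (f73381 IH) (Lpn (LP (LK LD1_c2 LD2_c49 LD3_c37))))
theorem f46707 : Led Lsl_bt (LP (LK LD1_c8 LD2_c26 LD3_c0)) = (LP (LK LD1_c4 LD2_c13 LD3_c34)) :=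
  Lre_b IH (LK LD1_c8 LD2_c26 LD3_c0) (LK LD1_c4 LD2_c13 LD3_c34) Lrfl Lrfl
theorem f46708 : Led Lsl_at (LP (LK LD1_c15 LD2_c50 LD3_c14)) = (LP (LK LD1_c8 LD2_c26 LD3_c0)) :=
  Lre_a IH (LK LD1_c15 LD2_c50 LD3_c14) (LK LD1_c8 LD2_c26 LD3_c0) Lrfl Lrfl
theorem f46710 : Led Lsl_at (LP (LK LD1_c8 LD2_c10 LD3_c38)) = (LP (LK LD1_c15 LD2_c23 LD3_c43)) :=
  Lre_a IH (LK LD1_c8 LD2_c10 LD3_c38) (LK LD1_c15 LD2_c23 LD3_c43) Lrfl Lrfl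
theorem f46711 : Led Lsl_bf (LP (LK LD1_c15 LD2_c50 LD3_c14)) = (LP (LK LD1_c15 LD2_c23 LD3_c43)) :=
  Lgr Lrot81 (Lpr_at (f46708 IH) (Lpr_bt (f46707 IH) (Lpr_at (K1.f46701 IH) (Lpr_bt (f46709 IH) (Lpr_at (f46710 IH) (Lpn (LP (LK LD1_c15 LD2_c23 LD3_c43))))))))
theorem f46813 : Led Lsl_et (LP (LK LD1_c15 LD2_c50 LD3_c14)) = (LP (LK LD1_c8 LD2_c25 LD3_c58)) :=
  Lre_e IH (LK LD1_c15 LD2_c50 LD3_c14) (LK LD1_c8 LD2_c25 LD3_c58) Lrfl Lrfl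
theorem f46814 : Led Lsl_et (LP (LK LD1_c8 LD2_c10 LD3_c35)) = (LP (LK LD1_c15 LD2_c23 LD3_c43)) :=
  Lre_e IH (LK LD1_c8 LD2_c10 LD3_c35) (LK LD1_c15 LD2_c23 LD3_c43) Lrfl Lrfl
theorem f46815 : Led Lsl_bt (LP (LK LD1_c8 LD2_c25 LD3_c58)) = (LP (LK LD1_c8 LD2_c10 LD3_c35)) :=
  Lgr Lrot119 (Lpe (f46813 IH) (Lpr_bf (f46711 IH) (Lpe (f46814 IH) (Lpn (LP (LK LD1_c8 LD2_c10 LD3_c35))))))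
theorem f46823 : Led Lsl_bf (LP (LK LD1_c8 LD2_c25 LD3_c58)) = (LP (LK LD1_c8 LD2_c10 LD3_c35)) :=
  Lgr Lrot24 (Lpr_bt (f46815 IH) (Lpn (LP (LK LD1_c8 LD2_c10 LD3_c35))))
theorem f46841 : Led Lsl_dt (LP (LK LD1_c8 LD2_c25 LD3_c58)) = (LP (LK LD1_c4 LD2_c13 LD3_c30)) :=
  Lre_d IH (LK LD1_c8 LD2_c25 LD3_c58) (LK LD1_c4 LD2_c13 LD3_c30) Lrfl Lrfl
theorem f46842 : Led Lsl_dt (LP (LK LD1_c4 LD2_c4 LD3_c54)) = (LP (LK LD1_c8 LD2_c10 LD3_c35)) :=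
  Lre_d IH (LK LD1_c4 LD2_c4 LD3_c54) (LK LD1_c8 LD2_c10 LD3_c35) Lrfl Lrfl
theorem f46843 : Led Lsl_bt (LP (LK LD1_c4 LD2_c13 LD3_c30)) = (LP (LK LD1_c4 LD2_c4 LD3_c54)) :=
  Lgr Lrot95 (Lpe (f46841 IH) (Lpr_bf (f46823 IH) (Lpe (f46842 IH) (Lpn (LP (LK LD1_c4 LD2_c4 LD3_c54))))))
theorem f46732 : Led Lsl_bt (LP (LK LD1_c8 LD2_c26 LD3_c6)) = (LP (LK LD1_c15 LD2_c50 LD3_c26)) :=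
  Lre_b IH (LK LD1_c8 LD2_c26 LD3_c6) (LK LD1_c15 LD2_c50 LD3_c26) Lrfl Lrfl
theorem f56142 : Led Lsl_bt (LP (LK LD1_c9 LD2_c14 LD3_c51)) = (LP (LK LD1_c4 LD2_c39 LD3_c40)) :=
  Lre_b IH (LK LD1_c9 LD2_c14 LD3_c51) (LK LD1_c4 LD2_c39 LD3_c40) Lrfl Lrfl
theorem f56143 : Led Lsl_dt (LP (LK LD1_c15 LD2_c50 LD3_c26)) = (LP (LK LD1_c9 LD2_c14 LD3_c51)) :=
  Lgr Lrot79 (Lpe (f46732 IH) (Lpr_df (K1.f56140 IH) (Lpe (f56142 IH) (Lpn (LP (LK LD1_c9 LD2_c14 LD3_c51))))))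
theorem f56146 : Led Lsl_ft (LP (LK LD1_c8 LD2_c26 LD3_c0)) = (LP (LK LD1_c15 LD2_c50 LD3_c26)) :=
  Lre_f IH (LK LD1_c8 LD2_c26 LD3_c0) (LK LD1_c15 LD2_c50 LD3_c26) Lrfl Lrfl
theorem f56147 : Led Lsl_ft (LP (LK LD1_c9 LD2_c14 LD3_c51)) = (LP (LK LD1_c4 LD2_c39 LD3_c37)) :=
  Lre_f IH (LK LD1_c9 LD2_c14 LD3_c51) (LK LD1_c4 LD2_c39 LD3_c37) Lrfl Lrfl
theorem f56148 : Led Lsl_df (LP (LK LD1_c8 LD2_c26 LD3_c0)) = (LP (LK LD1_c4 LD2_c39 LD3_c37)) :=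
  Lgr Lrot78 (Lpr_ft (f56146 IH) (Lpr_dt (f56143 IH) (Lpr_ft (f56147 IH) (Lpn (LP (LK LD1_c4 LD2_c39 LD3_c37))))))
theorem f56158 : Led Lsl_et (LP (LK LD1_c8 LD2_c26 LD3_c0)) = (LP (LK LD1_c4 LD2_c13 LD3_c31)) :=
  Lre_e IH (LK LD1_c8 LD2_c26 LD3_c0) (LK LD1_c4 LD2_c13 LD3_c31) Lrfl Lrfl
theorem f56159 : Led Lsl_dt (LP (LK LD1_c4 LD2_c13 LD3_c31)) = (LP (LK LD1_c2 LD2_c4 LD3_c5)) :=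
  Lre_d IH (LK LD1_c4 LD2_c13 LD3_c31) (LK LD1_c2 LD2_c4 LD3_c5) Lrfl Lrfl
theorem f56160 : Led Lsl_et (LP (LK LD1_c2 LD2_c16 LD3_c50)) = (LP (LK LD1_c4 LD2_c39 LD3_c37)) :=
  Lre_e IH (LK LD1_c2 LD2_c16 LD3_c50) (LK LD1_c4 LD2_c39 LD3_c37) Lrfl Lrfl
theorem f56161 : Led Lsl_dt (LP (LK LD1_c1 LD2_c5 LD3_c20)) = (LP (LK LD1_c2 LD2_c16 LD3_c50)) :=
  Lre_d IH (LK LD1_c1 LD2_c5 LD3_c20) (LK LD1_c2 LD2_c16 LD3_c50) Lrfl Lrfl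
theorem f56162 : Led Lsl_et (LP (LK LD1_c2 LD2_c4 LD3_c5)) = (LP (LK LD1_c1 LD2_c5 LD3_c20)) :=
  Lgr Lrot71 (Lpe (f56159 IH) (Lpe (f56158 IH) (Lpr_df (f56148 IH) (Lpe (f56160 IH) (Lpe (f56161 IH) (Lpn (LP (LK LD1_c1 LD2_c5 LD3_c20))))))))
theorem f46614 : Led Lsl_at (LP (LK LD1_c4 LD2_c13 LD3_c30)) = (LP (LK LD1_c2 LD2_c4 LD3_c5)) :=
  Lre_a IH (LK LD1_c4 LD2_c13 LD3_c30) (LK LD1_c2 LD2_c4 LD3_c5) Lrfl Lrfl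
theorem f56180 : Led Lsl_at (LP (LK LD1_c1 LD2_c5 LD3_c20)) = (LP (LK LD1_c2 LD2_c16 LD3_c49)) :=
  Lre_a IH (LK LD1_c1 LD2_c5 LD3_c20) (LK LD1_c2 LD2_c16 LD3_c49) Lrfl Lrfl
theorem f56181 : Led Lsl_ef (LP (LK LD1_c4 LD2_c13 LD3_c30)) = (LP (LK LD1_c2 LD2_c16 LD3_c49)) :=
  Lgr Lrot20 (Lpr_at (f46614 IH) (Lpr_et (f56162 IH) (Lpr_at (f56180 IH) (Lpn (LP (LK LD1_c2 LD2_c16 LD3_c49))))))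
theorem f73396 : Led Lsl_bf (LP (LK LD1_c2 LD2_c16 LD3_c49)) = (LP (LK LD1_c2 LD2_c49 LD3_c37)) :=
  Lgr Lrot96 (Lpe (f56181 IH) (Lpr_bt (f46843 IH) (Lpr_et (f73392 IH) (Lpn (LP (LK LD1_c2 LD2_c49 LD3_c37))))))
theorem f56259 : Led Lsl_ct (LP (LK LD1_c2 LD2_c16 LD3_c49)) = (LP (LK LD1_c1 LD2_c5 LD3_c27)) :=
  Lre_c IH (LK LD1_c2 LD2_c16 LD3_c49) (LK LD1_c1 LD2_c5 LD3_c27) Lrfl Lrfl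
theorem f60266 : Led Lsl_bt (LP (LK LD1_c1 LD2_c5 LD3_c27)) = (LP (LK LD1_c0 LD2_c39 LD3_c46)) :=
  Lre_b IH (LK LD1_c1 LD2_c5 LD3_c27) (LK LD1_c0 LD2_c39 LD3_c46) Lrfl Lrfl
theorem f73387 : Led Lsl_ct (LP (LK LD1_c1 LD2_c20 LD3_c57)) = (LP (LK LD1_c2 LD2_c49 LD3_c37)) :=
  Lre_c IH (LK LD1_c1 LD2_c20 LD3_c57) (LK LD1_c2 LD2_c49 LD3_c37) Lrfl Lrfl
theorem f73403 : Led Lsl_bt (LP (LK LD1_c1 LD2_c24 LD3_c50)) = (LP (LK LD1_c1 LD2_c20 LD3_c57)) :=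
  Lgr Lrot128 (Lpe (f72860 IH) (Lpe (f60266 IH) (Lpe (f56259 IH) (Lpr_bf (f73396 IH) (Lpe (f73387 IH) (Lpn (LP (LK LD1_c1 LD2_c20 LD3_c57))))))))
theorem f74192 : Led Lsl_df (LP (LK LD1_c1 LD2_c24 LD3_c50)) = (LP (LK LD1_c2 LD2_c27 LD3_c9)) :=
  Lgr Lrot12 (Lpr_bt (f73403 IH) (Lpr_dt (f73428 IH) (Lpr_bt (f74174 IH) (Lpn (LP (LK LD1_c2 LD2_c27 LD3_c9))))))
theorem f56026 : Led Lsl_at (LP (LK LD1_c1 LD2_c24 LD3_c50)) = (LP (LK LD1_c0 LD2_c39 LD3_c4)) :=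
  Lre_a IH (LK LD1_c1 LD2_c24 LD3_c50) (LK LD1_c0 LD2_c39 LD3_c4) Lrfl Lrfl
theorem f74257 : Led Lsl_df (LP (LK LD1_c1 LD2_c22 LD3_c1)) = (LP (LK LD1_c0 LD2_c39 LD3_c4)) :=
  Lgr Lrot18 (Lpr_at (f74244 IH) (Lpe (f74192 IH) (Lpr_at (f56026 IH) (Lpn (LP (LK LD1_c0 LD2_c39 LD3_c4))))))
theorem f68360 : Led Lsl_ct (LP (LK LD1_c1 LD2_c22 LD3_c1)) = (LP (LK LD1_c2 LD2_c52 LD3_c0)) :=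
  Lre_c IH (LK LD1_c1 LD2_c22 LD3_c1) (LK LD1_c2 LD2_c52 LD3_c0) Lrfl Lrfl
theorem f74264 : Led Lsl_dt (LP (LK LD1_c2 LD2_c52 LD3_c0)) = (LP (LK LD1_c5 LD2_c51 LD3_c34)) :=
  Lre_d IH (LK LD1_c2 LD2_c52 LD3_c0) (LK LD1_c5 LD2_c51 LD3_c34) Lrfl Lrfl
theorem f75164 : Led Lsl_ct (LP (LK LD1_c5 LD2_c51 LD3_c34)) = (LP (LK LD1_c6 LD2_c0 LD3_c33)) :=
  Lgr Lrot98 (Lpe (f74264 IH) (Lpe (f68360 IH) (Lpr_df (f74257 IH) (Lpe (f37267 IH) (Lpe (f37268 IH) (Lpe (f23015 IH) (Lpe (f23016 IH) (Lpr_ft (f58725 IH) (Lpr_at (f75141 IH) (Lpn (LP (LK LD1_c6 LD2_c0 LD3_c33))))))))))))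
theorem f74458 : Led Lsl_et (LP (LK LD1_c11 LD2_c30 LD3_c32)) = (LP (LK LD1_c5 LD2_c51 LD3_c34)) :=
  Lre_e IH (LK LD1_c11 LD2_c30 LD3_c32) (LK LD1_c5 LD2_c51 LD3_c34) Lrfl Lrfl
theorem f75159 : Led Lsl_et (LP (LK LD1_c6 LD2_c0 LD3_c33)) = (LP (LK LD1_c11 LD2_c45 LD3_c27)) :=
  Lre_e IH (LK LD1_c6 LD2_c0 LD3_c33) (LK LD1_c11 LD2_c45 LD3_c27) Lrfl Lrfl
theorem f75166 : Led Lsl_cf (LP (LK LD1_c11 LD2_c30 LD3_c32)) = (LP (LK LD1_c11 LD2_c45 LD3_c27)) :=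
  Lgr Lrot39 (Lpr_et (f74458 IH) (Lpr_ct (f75164 IH) (Lpr_et (f75159 IH) (Lpn (LP (LK LD1_c11 LD2_c45 LD3_c27))))))
theorem f74465 : Led Lsl_ft (LP (LK LD1_c11 LD2_c30 LD3_c32)) = (LP (LK LD1_c20 LD2_c27 LD3_c40)) :=
  Lre_f IH (LK LD1_c11 LD2_c30 LD3_c32) (LK LD1_c20 LD2_c27 LD3_c40) Lrfl Lrfl
theorem f75174 : Led Lsl_ft (LP (LK LD1_c20 LD2_c46 LD3_c42)) = (LP (LK LD1_c11 LD2_c45 LD3_c27)) :=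
  Lre_f IH (LK LD1_c20 LD2_c46 LD3_c42) (LK LD1_c11 LD2_c45 LD3_c27) Lrfl Lrfl
theorem f75175 : Led Lsl_ct (LP (LK LD1_c20 LD2_c27 LD3_c40)) = (LP (LK LD1_c20 LD2_c46 LD3_c42)) :=
  Lgr Lrot40 (Lpe (f74465 IH) (Lpr_cf (f75166 IH) (Lpe (f75174 IH) (Lpn (LP (LK LD1_c20 LD2_c46 LD3_c42))))))
theorem f61576 : Led Lsl_et (LP (LK LD1_c5 LD2_c47 LD3_c3)) = (LP (LK LD1_c11 LD2_c24 LD3_c18)) :=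
  Lre_e IH (LK LD1_c5 LD2_c47 LD3_c3) (LK LD1_c11 LD2_c24 LD3_c18) Lrfl Lrfl
theorem f61548 : Led Lsl_ft (LP (LK LD1_c11 LD2_c24 LD3_c18)) = (LP (LK LD1_c20 LD2_c22 LD3_c5)) :=
  Lre_f IH (LK LD1_c11 LD2_c24 LD3_c18) (LK LD1_c20 LD2_c22 LD3_c5) Lrfl Lrfl
theorem f74459 : Led Lsl_ft (LP (LK LD1_c20 LD2_c27 LD3_c40)) = (LP (LK LD1_c11 LD2_c30 LD3_c32)) :=
  Lre_f IH (LK LD1_c20 LD2_c27 LD3_c40) (LK LD1_c11 LD2_c30 LD3_c32) Lrfl Lrfl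
theorem f74460 : Led Lsl_et (LP (LK LD1_c20 LD2_c22 LD3_c5)) = (LP (LK LD1_c20 LD2_c27 LD3_c40)) :=
  Lgr Lrot69 (Lpe (f61548 IH) (Lpe (f61576 IH) (Lpr_ff (f74453 IH) (Lpe (f74458 IH) (Lpe (f74459 IH) (Lpn (LP (LK LD1_c20 LD2_c27 LD3_c40))))))))
theorem f58698 : Led Lsl_ct (LP (LK LD1_c21 LD2_c3 LD3_c31)) = (LP (LK LD1_c11 LD2_c58 LD3_c49)) :=
  Lre_c IH (LK LD1_c21 LD2_c3 LD3_c31) (LK LD1_c11 LD2_c58 LD3_c49) Lrfl Lrfl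
theorem f61285 : Led Lsl_dt (LP (LK LD1_c5 LD2_c47 LD3_c3)) = (LP (LK LD1_c2 LD2_c49 LD3_c24)) :=
  Lre_d IH (LK LD1_c5 LD2_c47 LD3_c3) (LK LD1_c2 LD2_c49 LD3_c24) Lrfl Lrfl
theorem f72903 : Led Lsl_at (LP (LK LD1_c6 LD2_c8 LD3_c37)) = (LP (LK LD1_c5 LD2_c47 LD3_c3)) :=
  Lgr Lrot51 (Lpr_df (f72893 IH) (Lpe (f61527 IH) (Lpe (f61285 IH) (Lpn (LP (LK LD1_c5 LD2_c47 LD3_c3))))))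
theorem f72895 : Led Lsl_et (LP (LK LD1_c11 LD2_c58 LD3_c45)) = (LP (LK LD1_c6 LD2_c8 LD3_c37)) :=
  Lre_e IH (LK LD1_c11 LD2_c58 LD3_c45) (LK LD1_c6 LD2_c8 LD3_c37) Lrfl Lrfl
theorem f72918 : Led Lsl_af (LP (LK LD1_c11 LD2_c58 LD3_c45)) = (LP (LK LD1_c11 LD2_c24 LD3_c18)) :=
  Lgr Lrot50 (Lpr_et (f72895 IH) (Lpr_at (f72903 IH) (Lpr_et (f61576 IH) (Lpn (LP (LK LD1_c11 LD2_c24 LD3_c18))))))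
theorem f72926 : Led Lsl_ft (LP (LK LD1_c11 LD2_c58 LD3_c45)) = (LP (LK LD1_c21 LD2_c3 LD3_c31)) :=
  Lre_f IH (LK LD1_c11 LD2_c58 LD3_c45) (LK LD1_c21 LD2_c3 LD3_c31) Lrfl Lrfl
theorem f61556 : Led Lsl_ft (LP (LK LD1_c20 LD2_c22 LD3_c5)) = (LP (LK LD1_c11 LD2_c24 LD3_c18)) :=
  Lre_f IH (LK LD1_c20 LD2_c22 LD3_c5) (LK LD1_c11 LD2_c24 LD3_c18) Lrfl Lrfl
theorem f72927 : Led Lsl_at (LP (LK LD1_c21 LD2_c3 LD3_c31)) = (LP (LK LD1_c20 LD2_c22 LD3_c5)) :=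
  Lgr Lrot66 (Lpe (f72926 IH) (Lpr_af (f72918 IH) (Lpe (f61556 IH) (Lpn (LP (LK LD1_c20 LD2_c22 LD3_c5))))))
theorem f72933 : Led Lsl_af (LP (LK LD1_c21 LD2_c3 LD3_c31)) = (LP (LK LD1_c20 LD2_c22 LD3_c5)) :=
  Lgr Lrot0 (Lpr_at (f72927 IH) (Lpn (LP (LK LD1_c20 LD2_c22 LD3_c5))))
theorem f74827 : Led Lsl_cf (LP (LK LD1_c20 LD2_c22 LD3_c5)) = (LP (LK LD1_c20 LD2_c40 LD3_c40)) :=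
  Lgr Lrot1 (Lpe (f72933 IH) (Lpr_ct (f58698 IH) (Lpr_at (f74817 IH) (Lpn (LP (LK LD1_c20 LD2_c40 LD3_c40))))))
theorem f75184 : Led Lsl_ef (LP (LK LD1_c20 LD2_c40 LD3_c40)) = (LP (LK LD1_c20 LD2_c46 LD3_c42)) :=
  Lgr Lrot28 (Lpe (f74827 IH) (Lpr_et (f74460 IH) (Lpr_ct (f75175 IH) (Lpn (LP (LK LD1_c20 LD2_c46 LD3_c42))))))
theorem f75191 : Led Lsl_et (LP (LK LD1_c11 LD2_c40 LD3_c51)) = (LP (LK LD1_c5 LD2_c58 LD3_c5)) :=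
  Lre_e IH (LK LD1_c11 LD2_c40 LD3_c51) (LK LD1_c5 LD2_c58 LD3_c5) Lrfl Lrfl
theorem f75192 : Led Lsl_ft (LP (LK LD1_c11 LD2_c45 LD3_c27)) = (LP (LK LD1_c20 LD2_c46 LD3_c42)) :=
  Lre_f IH (LK LD1_c11 LD2_c45 LD3_c27) (LK LD1_c20 LD2_c46 LD3_c42) Lrfl Lrfl
theorem f75193 : Led Lsl_ft (LP (LK LD1_c5 LD2_c58 LD3_c5)) = (LP (LK LD1_c6 LD2_c0 LD3_c33)) :=
  Lgr Lrot86 (Lpe (f75191 IH) (Lpe (f74816 IH) (Lpr_ef (f75184 IH) (Lpe (f75192 IH) (Lpe (f75159 IH) (Lpn (LP (LK LD1_c6 LD2_c0 LD3_c33))))))))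
theorem f75195 : Led Lsl_bt (LP (LK LD1_c11 LD2_c40 LD3_c49)) = (LP (LK LD1_c5 LD2_c58 LD3_c5)) :=
  Lre_b IH (LK LD1_c11 LD2_c40 LD3_c49) (LK LD1_c5 LD2_c58 LD3_c5) Lrfl Lrfl
theorem f75151 : Led Lsl_bt (LP (LK LD1_c6 LD2_c0 LD3_c33)) = (LP (LK LD1_c11 LD2_c45 LD3_c26)) :=
  Lre_b IH (LK LD1_c6 LD2_c0 LD3_c33) (LK LD1_c11 LD2_c45 LD3_c26) Lrfl Lrfl
theorem f75196 : Led Lsl_ff (LP (LK LD1_c11 LD2_c40 LD3_c49)) = (LP (LK LD1_c11 LD2_c45 LD3_c26)) :=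
  Lgr Lrot25 (Lpr_bt (f75195 IH) (Lpr_ft (f75193 IH) (Lpr_bt (f75151 IH) (Lpn (LP (LK LD1_c11 LD2_c45 LD3_c26))))))
theorem f75205 : Led Lsl_ft (LP (LK LD1_c11 LD2_c40 LD3_c49)) = (LP (LK LD1_c11 LD2_c45 LD3_c26)) :=
  Lgr Lrot48 (Lpr_ff (f75196 IH) (Lpn (LP (LK LD1_c11 LD2_c45 LD3_c26))))
theorem f58240 : Led Lsl_bt (LP (LK LD1_c2 LD2_c17 LD3_c23)) = (LP (LK LD1_c4 LD2_c40 LD3_c37)) :=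
  Lre_b IH (LK LD1_c2 LD2_c17 LD3_c23) (LK LD1_c4 LD2_c40 LD3_c37) Lrfl Lrfl
theorem f58233 : Led Lsl_at (LP (LK LD1_c4 LD2_c40 LD3_c18)) = (LP (LK LD1_c2 LD2_c17 LD3_c23)) :=
  Lre_a IH (LK LD1_c4 LD2_c40 LD3_c18) (LK LD1_c2 LD2_c17 LD3_c23) Lrfl Lrfl
theorem f74012 : Led Lsl_bt (LP (LK LD1_c9 LD2_c16 LD3_c0)) = (LP (LK LD1_c4 LD2_c40 LD3_c18)) :=
  Lre_b IH (LK LD1_c9 LD2_c16 LD3_c0) (LK LD1_c4 LD2_c40 LD3_c18) Lrfl Lrfl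
theorem f75152 : Led Lsl_af (LP (LK LD1_c9 LD2_c16 LD3_c0)) = (LP (LK LD1_c11 LD2_c45 LD3_c26)) :=
  Lgr Lrot36 (Lpr_bt (f74012 IH) (Lpr_at (f58233 IH) (Lpr_bt (f58240 IH) (Lpr_at (f75141 IH) (Lpr_bt (f75151 IH) (Lpn (LP (LK LD1_c11 LD2_c45 LD3_c26))))))))
theorem f75211 : Led Lsl_af (LP (LK LD1_c11 LD2_c40 LD3_c49)) = (LP (LK LD1_c9 LD2_c16 LD3_c40)) :=
  Lgr Lrot45 (Lpr_ft (f75205 IH) (Lpe (f75152 IH) (Lpr_ft (f74017 IH) (Lpn (LP (LK LD1_c9 LD2_c16 LD3_c40))))))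
theorem f76392 : Led Lsl_dt (LP (LK LD1_c6 LD2_c18 LD3_c13)) = (LP (LK LD1_c12 LD2_c12 LD3_c36)) :=
  Lre_d IH (LK LD1_c6 LD2_c18 LD3_c13) (LK LD1_c12 LD2_c12 LD3_c36) Lrfl Lrfl
theorem f76410 : Led Lsl_cf (LP (LK LD1_c11 LD2_c40 LD3_c49)) = (LP (LK LD1_c12 LD2_c12 LD3_c36)) :=
  Lgr Lrot102 (Lpr_af (f75211 IH) (Lpe (f74017 IH) (Lpr_dt (f19123 IH) (Lpr_ct (f18288 IH) (Lpr_dt (f18286 IH) (Lpr_ct (f18263 IH) (Lpe (f66729 IH) (Lpr_ct (f76402 IH) (Lpr_dt (f76392 IH) (Lpn (LP (LK LD1_c12 LD2_c12 LD3_c36))))))))))))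
theorem f76419 : Led Lsl_ct (LP (LK LD1_c11 LD2_c40 LD3_c49)) = (LP (LK LD1_c12 LD2_c12 LD3_c36)) :=
  Lgr Lrot59 (Lpr_cf (f76410 IH) (Lpn (LP (LK LD1_c12 LD2_c12 LD3_c36))))
theorem f74795 : Led Lsl_bt (LP (LK LD1_c5 LD2_c58 LD3_c5)) = (LP (LK LD1_c11 LD2_c40 LD3_c49)) :=
  Lre_b IH (LK LD1_c5 LD2_c58 LD3_c5) (LK LD1_c11 LD2_c40 LD3_c49) Lrfl Lrfl
theorem f61203 : Led Lsl_dt (LP (LK LD1_c3 LD2_c12 LD3_c37)) = (LP (LK LD1_c1 LD2_c32 LD3_c46)) :=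
  Lre_d IH (LK LD1_c3 LD2_c12 LD3_c37) (LK LD1_c1 LD2_c32 LD3_c46) Lrfl Lrfl
theorem f61532 : Led Lsl_bf (LP (LK LD1_c3 LD2_c12 LD3_c37)) = (LP (LK LD1_c5 LD2_c47 LD3_c3)) :=
  Lgr Lrot93 (Lpr_dt (f61203 IH) (Lpr_bt (f61515 IH) (Lpr_dt (f61531 IH) (Lpn (LP (LK LD1_c5 LD2_c47 LD3_c3))))))
theorem f61534 : Led Lsl_bt (LP (LK LD1_c3 LD2_c12 LD3_c37)) = (LP (LK LD1_c5 LD2_c47 LD3_c3)) :=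
  Lgr Lrot127 (Lpr_bf (f61532 IH) (Lpn (LP (LK LD1_c5 LD2_c47 LD3_c3))))
theorem f76422 : Led Lsl_bt (LP (LK LD1_c12 LD2_c12 LD3_c36)) = (LP (LK LD1_c6 LD2_c18 LD3_c14)) :=
  Lre_b IH (LK LD1_c12 LD2_c12 LD3_c36) (LK LD1_c6 LD2_c18 LD3_c14) Lrfl Lrfl
theorem f76425 : Led Lsl_cf (LP (LK LD1_c3 LD2_c12 LD3_c37)) = (LP (LK LD1_c6 LD2_c18 LD3_c14)) :=
  Lgr Lrot97 (Lpr_bt (f61534 IH) (Lpr_ct (f74791 IH) (Lpr_bt (f74795 IH) (Lpr_ct (f76419 IH) (Lpr_bt (f76422 IH) (Lpn (LP (LK LD1_c6 LD2_c18 LD3_c14))))))))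
theorem f61202 : Led Lsl_ct (LP (LK LD1_c1 LD2_c32 LD3_c46)) = (LP (LK LD1_c0 LD2_c42 LD3_c58)) :=
  Lre_c IH (LK LD1_c1 LD2_c32 LD3_c46) (LK LD1_c0 LD2_c42 LD3_c58) Lrfl Lrfl
theorem f25122 : Led Lsl_dt (LP (LK LD1_c3 LD2_c6 LD3_c23)) = (LP (LK LD1_c6 LD2_c18 LD3_c14)) :=
  Lre_d IH (LK LD1_c3 LD2_c6 LD3_c23) (LK LD1_c6 LD2_c18 LD3_c14) Lrfl Lrfl
theorem f25121 : Led Lsl_ct (LP (LK LD1_c1 LD2_c29 LD3_c18)) = (LP (LK LD1_c3 LD2_c6 LD3_c23)) :=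
  Lre_c IH (LK LD1_c1 LD2_c29 LD3_c18) (LK LD1_c3 LD2_c6 LD3_c23) Lrfl Lrfl
theorem f25120 : Led Lsl_dt (LP (LK LD1_c0 LD2_c41 LD3_c17)) = (LP (LK LD1_c1 LD2_c29 LD3_c18)) :=
  Lre_d IH (LK LD1_c0 LD2_c41 LD3_c17) (LK LD1_c1 LD2_c29 LD3_c18) Lrfl Lrfl
theorem f25063 : Led Lsl_bt (LP (LK LD1_c0 LD2_c18 LD3_c30)) = (LP (LK LD1_c0 LD2_c41 LD3_c19)) :=
  Lre_b IH (LK LD1_c0 LD2_c18 LD3_c30) (LK LD1_c0 LD2_c41 LD3_c19) Lrfl Lrfl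
theorem f25056 : Led Lsl_bt (LP (LK LD1_c0 LD2_c41 LD3_c19)) = (LP (LK LD1_c0 LD2_c18 LD3_c30)) :=
  Lre_b IH (LK LD1_c0 LD2_c41 LD3_c19) (LK LD1_c0 LD2_c18 LD3_c30) Lrfl Lrfl
theorem f25067 : Led Lsl_ct (LP (LK LD1_c0 LD2_c41 LD3_c19)) = (LP (LK LD1_c0 LD2_c41 LD3_c19)) :=
  Lgr Lrot83 (Lpe (f25063 IH) (Lpr_cf (K1.f25057 IH) (Lpe (K0.f9709 IH) (Lpe (K1.f25050 IH) (Lpe (f25056 IH) (Lpn (LP (LK LD1_c0 LD2_c41 LD3_c19))))))))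
theorem f25086 : Led Lsl_et (LP (LK LD1_c0 LD2_c18 LD3_c28)) = (LP (LK LD1_c0 LD2_c41 LD3_c19)) :=
  Lre_e IH (LK LD1_c0 LD2_c18 LD3_c28) (LK LD1_c0 LD2_c41 LD3_c19) Lrfl Lrfl
theorem f25087 : Led Lsl_et (LP (LK LD1_c0 LD2_c41 LD3_c19)) = (LP (LK LD1_c0 LD2_c18 LD3_c28)) :=
  Lre_e IH (LK LD1_c0 LD2_c41 LD3_c19) (LK LD1_c0 LD2_c18 LD3_c28) Lrfl Lrfl
theorem f25088 : Led Lsl_cf (LP (LK LD1_c0 LD2_c18 LD3_c28)) = (LP (LK LD1_c0 LD2_c18 LD3_c28)) :=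
  Lgr Lrot39 (Lpr_et (f25086 IH) (Lpr_ct (f25067 IH) (Lpr_et (f25087 IH) (Lpn (LP (LK LD1_c0 LD2_c18 LD3_c28))))))
theorem f25094 : Led Lsl_at (LP (LK LD1_c0 LD2_c18 LD3_c28)) = (LP (LK LD1_c0 LD2_c41 LD3_c17)) :=
  Lre_a IH (LK LD1_c0 LD2_c18 LD3_c28) (LK LD1_c0 LD2_c41 LD3_c17) Lrfl Lrfl
theorem f25095 : Led Lsl_at (LP (LK LD1_c0 LD2_c41 LD3_c17)) = (LP (LK LD1_c0 LD2_c18 LD3_c28)) :=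
  Lre_a IH (LK LD1_c0 LD2_c41 LD3_c17) (LK LD1_c0 LD2_c18 LD3_c28) Lrfl Lrfl
theorem f25096 : Led Lsl_ct (LP (LK LD1_c0 LD2_c41 LD3_c17)) = (LP (LK LD1_c0 LD2_c41 LD3_c17)) :=
  Lgr Lrot111 (Lpe (f25094 IH) (Lpr_cf (f25088 IH) (Lpe (f25095 IH) (Lpn (LP (LK LD1_c0 LD2_c41 LD3_c17))))))
theorem f25117 : Led Lsl_dt (LP (LK LD1_c1 LD2_c29 LD3_c18)) = (LP (LK LD1_c0 LD2_c41 LD3_c17)) :=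
  Lre_d IH (LK LD1_c1 LD2_c29 LD3_c18) (LK LD1_c0 LD2_c41 LD3_c17) Lrfl Lrfl
theorem f25118 : Led Lsl_ct (LP (LK LD1_c3 LD2_c6 LD3_c23)) = (LP (LK LD1_c1 LD2_c29 LD3_c18)) :=
  Lre_c IH (LK LD1_c3 LD2_c6 LD3_c23) (LK LD1_c1 LD2_c29 LD3_c18) Lrfl Lrfl
theorem f25119 : Led Lsl_dt (LP (LK LD1_c6 LD2_c18 LD3_c14)) = (LP (LK LD1_c3 LD2_c6 LD3_c23)) :=
  Lre_d IH (LK LD1_c6 LD2_c18 LD3_c14) (LK LD1_c3 LD2_c6 LD3_c23) Lrfl Lrfl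
theorem f74796 : Led Lsl_cf (LP (LK LD1_c5 LD2_c47 LD3_c3)) = (LP (LK LD1_c5 LD2_c58 LD3_c5)) :=
  Lgr Lrot11 (Lpr_ct (f74791 IH) (Lpn (LP (LK LD1_c5 LD2_c58 LD3_c5))))
theorem f76416 : Led Lsl_bt (LP (LK LD1_c6 LD2_c18 LD3_c14)) = (LP (LK LD1_c12 LD2_c12 LD3_c36)) :=
  Lre_b IH (LK LD1_c6 LD2_c18 LD3_c14) (LK LD1_c12 LD2_c12 LD3_c36) Lrfl Lrfl
theorem f76417 : Led Lsl_ct (LP (LK LD1_c3 LD2_c12 LD3_c37)) = (LP (LK LD1_c6 LD2_c18 LD3_c14)) :=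
  Lgr Lrot83 (Lpr_bf (f61532 IH) (Lpr_cf (f74796 IH) (Lpe (f75195 IH) (Lpr_cf (f76410 IH) (Lpe (f76416 IH) (Lpn (LP (LK LD1_c6 LD2_c18 LD3_c14))))))))
theorem f61580 : Led Lsl_dt (LP (LK LD1_c1 LD2_c32 LD3_c46)) = (LP (LK LD1_c3 LD2_c12 LD3_c37)) :=
  Lre_d IH (LK LD1_c1 LD2_c32 LD3_c46) (LK LD1_c3 LD2_c12 LD3_c37) Lrfl Lrfl
theorem f61205 : Led Lsl_ct (LP (LK LD1_c0 LD2_c42 LD3_c58)) = (LP (LK LD1_c1 LD2_c32 LD3_c46)) :=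
  Lre_c IH (LK LD1_c0 LD2_c42 LD3_c58) (LK LD1_c1 LD2_c32 LD3_c46) Lrfl Lrfl
theorem f61000 : Led Lsl_bt (LP (LK LD1_c0 LD2_c13 LD3_c24)) = (LP (LK LD1_c0 LD2_c30 LD3_c9)) :=
  Lre_b IH (LK LD1_c0 LD2_c13 LD3_c24) (LK LD1_c0 LD2_c30 LD3_c9) Lrfl Lrfl
theorem f61001 : Led Lsl_bt (LP (LK LD1_c0 LD2_c42 LD3_c58)) = (LP (LK LD1_c0 LD2_c19 LD3_c7)) :=
  Lre_b IH (LK LD1_c0 LD2_c42 LD3_c58) (LK LD1_c0 LD2_c19 LD3_c7) Lrfl Lrfl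
theorem f61002 : Led Lsl_dt (LP (LK LD1_c0 LD2_c30 LD3_c9)) = (LP (LK LD1_c0 LD2_c42 LD3_c58)) :=
  Lgr Lrot79 (Lpe (f61000 IH) (Lpr_df (K1.f60962 IH) (Lpe (f61001 IH) (Lpn (LP (LK LD1_c0 LD2_c42 LD3_c58))))))
theorem f20968 : Led Lsl_bt (LP (LK LD1_c0 LD2_c30 LD3_c9)) = (LP (LK LD1_c0 LD2_c13 LD3_c24)) :=
  Lre_b IH (LK LD1_c0 LD2_c30 LD3_c9) (LK LD1_c0 LD2_c13 LD3_c24) Lrfl Lrfl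
theorem f9699 : Led Lsl_bt (LP (LK LD1_c0 LD2_c8 LD3_c59)) = (LP (LK LD1_c0 LD2_c8 LD3_c59)) :=
  Lgr Lrot95 (Lpe (K0.f7359 IH) (Lpr_bf (K0.f9695 IH) (Lpe (K0.f9623 IH) (Lpn (LP (LK LD1_c0 LD2_c8 LD3_c59))))))
theorem f25759 : Led Lsl_bt (LP (LK LD1_c0 LD2_c2 LD3_c49)) = (LP (LK LD1_c0 LD2_c1 LD3_c39)) :=
  Lgr Lrot127 (Lpr_bf (K0.f25735 IH) (Lpn (LP (LK LD1_c0 LD2_c1 LD3_c39))))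
theorem f20918 : Led Lsl_bt (LP (LK LD1_c0 LD2_c7 LD3_c30)) = (LP (LK LD1_c0 LD2_c7 LD3_c30)) :=
  Lgr Lrot119 (Lpe (K1.f20910 IH) (Lpr_bf (K1.f20905 IH) (Lpe (K1.f20881 IH) (Lpn (LP (LK LD1_c0 LD2_c7 LD3_c30))))))
theorem f57598 : Led Lsl_cf (LP (LK LD1_c0 LD2_c13 LD3_c24)) = (LP (LK LD1_c0 LD2_c8 LD3_c59)) :=
  Lgr Lrot160 (Lpr_gt (K1.f20967 IH) (Lpe (K0.f7010 IH) (Lpr_bt (f25759 IH) (Lpr_gt (K0.f3970 IH) (Lpr_ct (K1.f25144 IH) (Lpr_gt (K1.f57573 IH) (Lpr_cf (K0.f20940 IH) (Lpr_bt (f20918 IH) (Lpe (K0.f20895 IH) (Lpe (f9699 IH) (Lpn (LP (LK LD1_c0 LD2_c8 LD3_c59)))))))))))))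
theorem f61211 : Led Lsl_cf (LP (LK LD1_c0 LD2_c30 LD3_c9)) = (LP (LK LD1_c0 LD2_c30 LD3_c9)) :=
  Lgr Lrot97 (Lpr_bt (f20968 IH) (Lpr_ct (K1.f61007 IH) (Lpr_bt (f9699 IH) (Lpe (f57598 IH) (Lpr_bt (f61000 IH) (Lpn (LP (LK LD1_c0 LD2_c30 LD3_c9))))))))
theorem f76431 : Led Lsl_dt (LP (LK LD1_c0 LD2_c42 LD3_c58)) = (LP (LK LD1_c0 LD2_c30 LD3_c9)) :=
  Lgr Lrot173 (Lpe (f61202 IH) (Lpe (f61203 IH) (Lpr_cf (f76425 IH) (Lpe (f25122 IH) (Lpe (f25121 IH) (Lpe (f25120 IH) (Lpe (f25096 IH) (Lpe (f25117 IH) (Lpe (f25118 IH) (Lpe (f25119 IH) (Lpe (f76417 IH) (Lpe (f61580 IH) (Lpe (f61205 IH) (Lpe (f61002 IH) (Lpr_cf (f61211 IH) (Lpn (LP (LK LD1_c0 LD2_c30 LD3_c9))))))))))))))))))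
theorem f76440 : Led Lsl_ff (LP (LK LD1_c3 LD2_c12 LD3_c35)) = (LP (LK LD1_c3 LD2_c6 LD3_c23)) :=
  Lgr Lrot103 (Lpr_at (f61525 IH) (Lpe (f61205 IH) (Lpe (f61002 IH) (Lpr_cf (f61211 IH) (Lpe (f76431 IH) (Lpe (f61202 IH) (Lpe (f61203 IH) (Lpr_cf (f76425 IH) (Lpe (f25122 IH) (Lpn (LP (LK LD1_c3 LD2_c6 LD3_c23))))))))))))
theorem f67020 : Led Lsl_ct (LP (LK LD1_c3 LD2_c12 LD3_c35)) = (LP (LK LD1_c1 LD2_c32 LD3_c45)) :=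
  Lre_c IH (LK LD1_c3 LD2_c12 LD3_c35) (LK LD1_c1 LD2_c32 LD3_c45) Lrfl Lrfl
theorem f76446 : Led Lsl_ft (LP (LK LD1_c1 LD2_c32 LD3_c45)) = (LP (LK LD1_c1 LD2_c29 LD3_c18)) :=
  Lgr Lrot4 (Lpe (f67020 IH) (Lpr_ff (f76440 IH) (Lpe (f25121 IH) (Lpn (LP (LK LD1_c1 LD2_c29 LD3_c18))))))
theorem f67030 : Led Lsl_at (LP (LK LD1_c1 LD2_c5 LD3_c60)) = (LP (LK LD1_c0 LD2_c30 LD3_c9)) :=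
  Lre_a IH (LK LD1_c1 LD2_c5 LD3_c60) (LK LD1_c0 LD2_c30 LD3_c9) Lrfl Lrfl
theorem f76438 : Led Lsl_ff (LP (LK LD1_c1 LD2_c5 LD3_c60)) = (LP (LK LD1_c0 LD2_c41 LD3_c17)) :=
  Lgr Lrot103 (Lpr_at (f67030 IH) (Lpr_cf (f61211 IH) (Lpe (f76431 IH) (Lpe (f61202 IH) (Lpe (f61203 IH) (Lpr_cf (f76425 IH) (Lpe (f25122 IH) (Lpe (f25121 IH) (Lpe (f25120 IH) (Lpn (LP (LK LD1_c0 LD2_c41 LD3_c17))))))))))))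
theorem f76696 : Led Lsl_df (LP (LK LD1_c1 LD2_c32 LD3_c45)) = (LP (LK LD1_c1 LD2_c5 LD3_c60)) :=
  Lgr Lrot78 (Lpr_ft (f76446 IH) (Lpr_dt (f25117 IH) (Lpe (f76438 IH) (Lpn (LP (LK LD1_c1 LD2_c5 LD3_c60))))))
theorem f76451 : Led Lsl_ft (LP (LK LD1_c3 LD2_c12 LD3_c35)) = (LP (LK LD1_c3 LD2_c6 LD3_c23)) :=
  Lgr Lrot48 (Lpr_ff (f76440 IH) (Lpn (LP (LK LD1_c3 LD2_c6 LD3_c23))))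
theorem f25099 : Led Lsl_dt (LP (LK LD1_c0 LD2_c18 LD3_c28)) = (LP (LK LD1_c0 LD2_c41 LD3_c18)) :=
  Lre_d IH (LK LD1_c0 LD2_c18 LD3_c28) (LK LD1_c0 LD2_c41 LD3_c18) Lrfl Lrfl
theorem f25103 : Led Lsl_dt (LP (LK LD1_c0 LD2_c41 LD3_c18)) = (LP (LK LD1_c0 LD2_c18 LD3_c28)) :=
  Lre_d IH (LK LD1_c0 LD2_c41 LD3_c18) (LK LD1_c0 LD2_c18 LD3_c28) Lrfl Lrfl
theorem f25104 : Led Lsl_ct (LP (LK LD1_c1 LD2_c29 LD3_c21)) = (LP (LK LD1_c0 LD2_c41 LD3_c18)) :=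
  Lre_c IH (LK LD1_c1 LD2_c29 LD3_c21) (LK LD1_c0 LD2_c41 LD3_c18) Lrfl Lrfl
theorem f25105 : Led Lsl_dt (LP (LK LD1_c3 LD2_c6 LD3_c28)) = (LP (LK LD1_c1 LD2_c29 LD3_c21)) :=
  Lre_d IH (LK LD1_c3 LD2_c6 LD3_c28) (LK LD1_c1 LD2_c29 LD3_c21) Lrfl Lrfl
theorem f25106 : Led Lsl_ct (LP (LK LD1_c6 LD2_c18 LD3_c26)) = (LP (LK LD1_c3 LD2_c6 LD3_c28)) :=
  Lre_c IH (LK LD1_c6 LD2_c18 LD3_c26) (LK LD1_c3 LD2_c6 LD3_c28) Lrfl Lrfl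
theorem f76474 : Led Lsl_dt (LP (LK LD1_c3 LD2_c12 LD3_c35)) = (LP (LK LD1_c6 LD2_c18 LD3_c26)) :=
  Lgr Lrot159 (Lpr_ft (f76451 IH) (Lpr_at (f25107 IH) (Lpe (f25100 IH) (Lpe (f25099 IH) (Lpr_cf (f25088 IH) (Lpe (f25103 IH) (Lpe (f25104 IH) (Lpe (f25105 IH) (Lpe (f25106 IH) (Lpn (LP (LK LD1_c6 LD2_c18 LD3_c26))))))))))))
theorem f76703 : Led Lsl_ff (LP (LK LD1_c0 LD2_c41 LD3_c17)) = (LP (LK LD1_c1 LD2_c5 LD3_c60)) :=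
  Lgr Lrot103 (Lpr_at (f25095 IH) (Lpr_cf (f25088 IH) (Lpe (f25103 IH) (Lpe (f25104 IH) (Lpe (f25105 IH) (Lpe (f25106 IH) (Lpe (f76474 IH) (Lpe (f67014 IH) (Lpr_df (f76696 IH) (Lpn (LP (LK LD1_c1 LD2_c5 LD3_c60))))))))))))
theorem f76698 : Led Lsl_at (LP (LK LD1_c0 LD2_c30 LD3_c9)) = (LP (LK LD1_c1 LD2_c5 LD3_c60)) :=
  Lre_a IH (LK LD1_c0 LD2_c30 LD3_c9) (LK LD1_c1 LD2_c5 LD3_c60) Lrfl Lrfl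
theorem f76705 : Led Lsl_ft (LP (LK LD1_c0 LD2_c18 LD3_c28)) = (LP (LK LD1_c0 LD2_c30 LD3_c9)) :=
  Lgr Lrot101 (Lpe (f25095 IH) (Lpr_ff (f76703 IH) (Lpe (f76698 IH) (Lpn (LP (LK LD1_c0 LD2_c30 LD3_c9))))))
theorem f25053 : Led Lsl_gt (LP (LK LD1_c0 LD2_c18 LD3_c28)) = (LP (LK LD1_c0 LD2_c41 LD3_c15)) :=
  Lre_g IH (LK LD1_c0 LD2_c18 LD3_c28) (LK LD1_c0 LD2_c41 LD3_c15) Lrfl Lrfl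
theorem f77789 : Led Lsl_gt (LP (LK LD1_c0 LD2_c41 LD3_c15)) = (LP (LK LD1_c1 LD2_c5 LD3_c60)) :=
  Lgr Lrot46 (Lpe (f25053 IH) (Lpr_ft (f76705 IH) (Lpr_at (f76698 IH) (Lpn (LP (LK LD1_c1 LD2_c5 LD3_c60))))))
theorem f25114 : Led Lsl_ct (LP (LK LD1_c1 LD2_c29 LD3_c12)) = (LP (LK LD1_c0 LD2_c41 LD3_c15)) :=
  Lre_c IH (LK LD1_c1 LD2_c29 LD3_c12) (LK LD1_c0 LD2_c41 LD3_c15) Lrfl Lrfl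
theorem f61586 : Led Lsl_at (LP (LK LD1_c1 LD2_c32 LD3_c46)) = (LP (LK LD1_c3 LD2_c12 LD3_c35)) :=
  Lre_a IH (LK LD1_c1 LD2_c32 LD3_c46) (LK LD1_c3 LD2_c12 LD3_c35) Lrfl Lrfl
theorem f76467 : Led Lsl_ff (LP (LK LD1_c1 LD2_c32 LD3_c46)) = (LP (LK LD1_c1 LD2_c29 LD3_c21)) :=
  Lgr Lrot30 (Lpr_at (f61586 IH) (Lpr_ft (f76451 IH) (Lpr_at (f25107 IH) (Lpn (LP (LK LD1_c1 LD2_c29 LD3_c21))))))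
theorem f25101 : Led Lsl_dt (LP (LK LD1_c1 LD2_c29 LD3_c21)) = (LP (LK LD1_c3 LD2_c6 LD3_c28)) :=
  Lre_d IH (LK LD1_c1 LD2_c29 LD3_c21) (LK LD1_c3 LD2_c6 LD3_c28) Lrfl Lrfl
theorem f25102 : Led Lsl_ct (LP (LK LD1_c3 LD2_c6 LD3_c28)) = (LP (LK LD1_c6 LD2_c18 LD3_c26)) :=
  Lre_c IH (LK LD1_c3 LD2_c6 LD3_c28) (LK LD1_c6 LD2_c18 LD3_c26) Lrfl Lrfl
theorem f76480 : Led Lsl_df (LP (LK LD1_c3 LD2_c12 LD3_c35)) = (LP (LK LD1_c6 LD2_c18 LD3_c26)) :=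
  Lgr Lrot38 (Lpr_dt (f76474 IH) (Lpn (LP (LK LD1_c6 LD2_c18 LD3_c26))))
theorem f76699 : Led Lsl_dt (LP (LK LD1_c1 LD2_c32 LD3_c45)) = (LP (LK LD1_c1 LD2_c5 LD3_c60)) :=
  Lgr Lrot42 (Lpr_df (f76696 IH) (Lpn (LP (LK LD1_c1 LD2_c5 LD3_c60))))
theorem f76701 : Led Lsl_ct (LP (LK LD1_c1 LD2_c5 LD3_c60)) = (LP (LK LD1_c1 LD2_c5 LD3_c60)) :=
  Lgr Lrot53 (Lpe (f76699 IH) (Lpe (f67020 IH) (Lpr_df (f76480 IH) (Lpe (f25102 IH) (Lpe (f25101 IH) (Lpe (f76467 IH) (Lpr_at (f61586 IH) (Lpe (f67014 IH) (Lpr_df (f76696 IH) (Lpn (LP (LK LD1_c1 LD2_c5 LD3_c60))))))))))))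
theorem f25108 : Led Lsl_gt (LP (LK LD1_c0 LD2_c41 LD3_c16)) = (LP (LK LD1_c0 LD2_c18 LD3_c28)) :=
  Lre_g IH (LK LD1_c0 LD2_c41 LD3_c16) (LK LD1_c0 LD2_c18 LD3_c28) Lrfl Lrfl
theorem f76707 : Led Lsl_gf (LP (LK LD1_c0 LD2_c41 LD3_c16)) = (LP (LK LD1_c1 LD2_c5 LD3_c60)) :=
  Lgr Lrot47 (Lpr_gt (f25108 IH) (Lpe (f25095 IH) (Lpr_ff (f76703 IH) (Lpn (LP (LK LD1_c1 LD2_c5 LD3_c60))))))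
theorem f25098 : Led Lsl_bt (LP (LK LD1_c0 LD2_c18 LD3_c28)) = (LP (LK LD1_c0 LD2_c8 LD3_c19)) :=
  Lre_b IH (LK LD1_c0 LD2_c18 LD3_c28) (LK LD1_c0 LD2_c8 LD3_c19) Lrfl Lrfl
theorem f21008 : Led Lsl_bt (LP (LK LD1_c0 LD2_c40 LD3_c9)) = (LP (LK LD1_c0 LD2_c17 LD3_c61)) :=
  Lre_b IH (LK LD1_c0 LD2_c40 LD3_c9) (LK LD1_c0 LD2_c17 LD3_c61) Lrfl Lrfl
theorem f61669 : Led Lsl_cf (LP (LK LD1_c0 LD2_c41 LD3_c16)) = (LP (LK LD1_c0 LD2_c40 LD3_c9)) :=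
  Lgr Lrot160 (Lpr_gt (f25108 IH) (Lpr_cf (f25088 IH) (Lpr_bt (f25098 IH) (Lpr_gt (K1.f61633 IH) (Lpr_ct (K1.f21003 IH) (Lpr_gt (K0.f20999 IH) (Lpe (K0.f7101 IH) (Lpr_bt (K1.f7105 IH) (Lpr_gt (K1.f7106 IH) (Lpe (f21008 IH) (Lpn (LP (LK LD1_c0 LD2_c40 LD3_c9)))))))))))))
theorem f66825 : Led Lsl_gf (LP (LK LD1_c0 LD2_c41 LD3_c24)) = (LP (LK LD1_c0 LD2_c47 LD3_c10)) :=
  Lgr Lrot76 (Lpe (K1.f66816 IH) (Lpr_ff (K1.f66806 IH) (Lpe (K1.f66635 IH) (Lpn (LP (LK LD1_c0 LD2_c47 LD3_c10))))))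
theorem f76714 : Led Lsl_bf (LP (LK LD1_c0 LD2_c41 LD3_c24)) = (LP (LK LD1_c1 LD2_c5 LD3_c60)) :=
  Lgr Lrot34 (Lpr_gf (f66825 IH) (Lpe (K1.f21022 IH) (Lpr_ct (K1.f19356 IH) (Lpe (K1.f18901 IH) (Lpe (K1.f18890 IH) (Lpe (K1.f18905 IH) (Lpe (f21008 IH) (Lpe (f61669 IH) (Lpr_gf (f76707 IH) (Lpe (f76701 IH) (Lpn (LP (LK LD1_c1 LD2_c5 LD3_c60)))))))))))))
theorem f18160 : Led Lsl_gt (LP (LK LD1_c0 LD2_c21 LD3_c23)) = (LP (LK LD1_c0 LD2_c20 LD3_c25)) :=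
  Lgr Lrot46 (Lpe (K1.f12690 IH) (Lpr_ft (K1.f18144 IH) (Lpr_at (f18132 IH) (Lpn (LP (LK LD1_c0 LD2_c20 LD3_c25))))))
theorem f64363 : Led Lsl_df (LP (LK LD1_c0 LD2_c21 LD3_c23)) = (LP (LK LD1_c0 LD2_c24 LD3_c12)) :=
  Lgr Lrot38 (Lpr_dt (K1.f64346 IH) (Lpn (LP (LK LD1_c0 LD2_c24 LD3_c12))))
theorem f11839 : Led Lsl_ct (LP (LK LD1_c0 LD2_c52 LD3_c26)) = (LP (LK LD1_c0 LD2_c23 LD3_c43)) :=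
  Lre_c IH (LK LD1_c0 LD2_c52 LD3_c26) (LK LD1_c0 LD2_c23 LD3_c43) Lrfl Lrfl
theorem f62665 : Led Lsl_dt (LP (LK LD1_c0 LD2_c21 LD3_c2)) = (LP (LK LD1_c0 LD2_c23 LD3_c43)) :=
  Lgr Lrot79 (Lpe (K1.f17648 IH) (Lpr_df (K1.f62652 IH) (Lpe (K0.f11519 IH) (Lpn (LP (LK LD1_c0 LD2_c23 LD3_c43))))))
theorem f17656 : Led Lsl_ct (LP (LK LD1_c0 LD2_c46 LD3_c58)) = (LP (LK LD1_c0 LD2_c21 LD3_c2)) :=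
  Lre_c IH (LK LD1_c0 LD2_c46 LD3_c58) (LK LD1_c0 LD2_c21 LD3_c2) Lrfl Lrfl
theorem f66842 : Led Lsl_gt (LP (LK LD1_c0 LD2_c41 LD3_c24)) = (LP (LK LD1_c0 LD2_c46 LD3_c58)) :=
  Lgr Lrot150 (Lpr_cf (K1.f66827 IH) (Lpe (f18160 IH) (Lpr_df (f64363 IH) (Lpe (K0.f14630 IH) (Lpr_ct (K0.f14638 IH) (Lpr_gt (K0.f14643 IH) (Lpr_ct (f11839 IH) (Lpe (f62665 IH) (Lpe (f17656 IH) (Lpn (LP (LK LD1_c0 LD2_c46 LD3_c58))))))))))))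
theorem f17662 : Led Lsl_bt (LP (LK LD1_c1 LD2_c40 LD3_c53)) = (LP (LK LD1_c0 LD2_c46 LD3_c58)) :=
  Lre_b IH (LK LD1_c1 LD2_c40 LD3_c53) (LK LD1_c0 LD2_c46 LD3_c58) Lrfl Lrfl
theorem f17666 : Led Lsl_ct (LP (LK LD1_c1 LD2_c40 LD3_c53)) = (LP (LK LD1_c0 LD2_c47 LD3_c1)) :=
  Lre_c IH (LK LD1_c1 LD2_c40 LD3_c53) (LK LD1_c0 LD2_c47 LD3_c1) Lrfl Lrfl
theorem f25022 : Led Lsl_bt (LP (LK LD1_c0 LD2_c18 LD3_c33)) = (LP (LK LD1_c0 LD2_c41 LD3_c27)) :=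
  Lre_b IH (LK LD1_c0 LD2_c18 LD3_c33) (LK LD1_c0 LD2_c41 LD3_c27) Lrfl Lrfl
theorem f25024 : Led Lsl_bt (LP (LK LD1_c0 LD2_c21 LD3_c3)) = (LP (LK LD1_c0 LD2_c47 LD3_c1)) :=
  Lre_b IH (LK LD1_c0 LD2_c21 LD3_c3) (LK LD1_c0 LD2_c47 LD3_c1) Lrfl Lrfl
theorem f25025 : Led Lsl_gf (LP (LK LD1_c0 LD2_c41 LD3_c27)) = (LP (LK LD1_c0 LD2_c47 LD3_c1)) :=
  Lgr Lrot124 (Lpe (f25022 IH) (Lpr_ct (K1.f24971 IH) (Lpr_gt (K1.f24974 IH) (Lpe (K1.f24973 IH) (Lpr_bt (K1.f24972 IH) (Lpr_gt (K1.f21160 IH) (Lpr_ct (K1.f12749 IH) (Lpr_gt (K0.f3946 IH) (Lpe (K1.f25023 IH) (Lpr_bt (f25024 IH) (Lpn (LP (LK LD1_c0 LD2_c47 LD3_c1)))))))))))))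
theorem f62176 : Led Lsl_bt (LP (LK LD1_c0 LD2_c47 LD3_c2)) = (LP (LK LD1_c1 LD2_c40 LD3_c61)) :=
  Lre_b IH (LK LD1_c0 LD2_c47 LD3_c2) (LK LD1_c1 LD2_c40 LD3_c61) Lrfl Lrfl
theorem f56740 : Led Lsl_ct (LP (LK LD1_c0 LD2_c19 LD3_c51)) = (LP (LK LD1_c0 LD2_c44 LD3_c38)) :=
  Lre_c IH (LK LD1_c0 LD2_c19 LD3_c51) (LK LD1_c0 LD2_c44 LD3_c38) Lrfl Lrfl
theorem f57260 : Led Lsl_gt (LP (LK LD1_c1 LD2_c36 LD3_c18)) = (LP (LK LD1_c0 LD2_c44 LD3_c38)) :=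
  Lre_g IH (LK LD1_c1 LD2_c36 LD3_c18) (LK LD1_c0 LD2_c44 LD3_c38) Lrfl Lrfl
theorem f61880 : Led Lsl_bt (LP (LK LD1_c1 LD2_c29 LD3_c59)) = (LP (LK LD1_c0 LD2_c41 LD3_c36)) :=
  Lre_b IH (LK LD1_c1 LD2_c29 LD3_c59) (LK LD1_c0 LD2_c41 LD3_c36) Lrfl Lrfl
theorem f61881 : Led Lsl_ct (LP (LK LD1_c1 LD2_c29 LD3_c59)) = (LP (LK LD1_c1 LD2_c36 LD3_c18)) :=
  Lgr Lrot64 (Lpr_bt (f61880 IH) (Lpe (K1.f25018 IH) (Lpe (K1.f61873 IH) (Lpr_ct (K1.f61823 IH) (Lpe (K1.f22974 IH) (Lpe (K0.f22828 IH) (Lpe (K1.f350 IH) (Lpe (K1.f351 IH) (Lpr_ct (f56740 IH) (Lpe (f57260 IH) (Lpn (LP (LK LD1_c1 LD2_c36 LD3_c18)))))))))))))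
theorem f62315 : Led Lsl_gt (LP (LK LD1_c1 LD2_c40 LD3_c61)) = (LP (LK LD1_c1 LD2_c29 LD3_c59)) :=
  Lgr Lrot82 (Lpe (f62176 IH) (Lpr_ct (K1.f62182 IH) (Lpe (K1.f61914 IH) (Lpe (K1.f36229 IH) (Lpr_bt (K1.f24615 IH) (Lpe (K1.f350 IH) (Lpe (K1.f351 IH) (Lpr_ct (f56740 IH) (Lpe (f57260 IH) (Lpe (f61881 IH) (Lpn (LP (LK LD1_c1 LD2_c29 LD3_c59)))))))))))))
theorem f25033 : Led Lsl_dt (LP (LK LD1_c0 LD2_c47 LD3_c1)) = (LP (LK LD1_c1 LD2_c40 LD3_c61)) :=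
  Lre_d IH (LK LD1_c0 LD2_c47 LD3_c1) (LK LD1_c1 LD2_c40 LD3_c61) Lrfl Lrfl
theorem f56679 : Led Lsl_bt (LP (LK LD1_c0 LD2_c8 LD3_c54)) = (LP (LK LD1_c0 LD2_c19 LD3_c51)) :=
  Lre_b IH (LK LD1_c0 LD2_c8 LD3_c54) (LK LD1_c0 LD2_c19 LD3_c51) Lrfl Lrfl
theorem f24977 : Led Lsl_bt (LP (LK LD1_c0 LD2_c17 LD3_c59)) = (LP (LK LD1_c0 LD2_c8 LD3_c4)) :=
  Lre_b IH (LK LD1_c0 LD2_c17 LD3_c59) (LK LD1_c0 LD2_c8 LD3_c4) Lrfl Lrfl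
theorem f57532 : Led Lsl_dt (LP (LK LD1_c0 LD2_c19 LD3_c51)) = (LP (LK LD1_c0 LD2_c17 LD3_c59)) :=
  Lgr Lrot79 (Lpe (f56679 IH) (Lpr_df (K1.f57530 IH) (Lpe (f24977 IH) (Lpn (LP (LK LD1_c0 LD2_c17 LD3_c59))))))
theorem f57570 : Led Lsl_bt (LP (LK LD1_c0 LD2_c8 LD3_c4)) = (LP (LK LD1_c0 LD2_c17 LD3_c59)) :=
  Lre_b IH (LK LD1_c0 LD2_c8 LD3_c4) (LK LD1_c0 LD2_c17 LD3_c59) Lrfl Lrfl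
theorem f57571 : Led Lsl_ct (LP (LK LD1_c0 LD2_c17 LD3_c59)) = (LP (LK LD1_c0 LD2_c17 LD3_c59)) :=
  Lgr Lrot83 (Lpe (f57570 IH) (Lpr_cf (K0.f20940 IH) (Lpe (f20918 IH) (Lpr_cf (K1.f57563 IH) (Lpe (f24977 IH) (Lpn (LP (LK LD1_c0 LD2_c17 LD3_c59))))))))
theorem f57576 : Led Lsl_gt (LP (LK LD1_c0 LD2_c40 LD3_c3)) = (LP (LK LD1_c0 LD2_c17 LD3_c59)) :=
  Lre_g IH (LK LD1_c0 LD2_c40 LD3_c3) (LK LD1_c0 LD2_c17 LD3_c59) Lrfl Lrfl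
theorem f62320 : Led Lsl_ct (LP (LK LD1_c0 LD2_c41 LD3_c27)) = (LP (LK LD1_c0 LD2_c40 LD3_c3)) :=
  Lgr Lrot186 (Lpr_gf (f25025 IH) (Lpr_dt (f25033 IH) (Lpr_gt (f62315 IH) (Lpr_ct (f61881 IH) (Lpr_gt (f57260 IH) (Lpr_ct (K1.f352 IH) (Lpr_dt (f57532 IH) (Lpe (f57571 IH) (Lpe (f57576 IH) (Lpn (LP (LK LD1_c0 LD2_c40 LD3_c3))))))))))))
theorem f62331 : Led Lsl_cf (LP (LK LD1_c0 LD2_c41 LD3_c27)) = (LP (LK LD1_c0 LD2_c40 LD3_c3)) :=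
  Lgr Lrot11 (Lpr_ct (f62320 IH) (Lpn (LP (LK LD1_c0 LD2_c40 LD3_c3))))
theorem f62328 : Led Lsl_bt (LP (LK LD1_c0 LD2_c40 LD3_c3)) = (LP (LK LD1_c1 LD2_c26 LD3_c33)) :=
  Lre_b IH (LK LD1_c0 LD2_c40 LD3_c3) (LK LD1_c1 LD2_c26 LD3_c33) Lrfl Lrfl
theorem f77794 : Led Lsl_gf (LP (LK LD1_c1 LD2_c29 LD3_c12)) = (LP (LK LD1_c1 LD2_c26 LD3_c33)) :=
  Lgr Lrot181 (Lpr_ct (f25114 IH) (Lpr_gt (f77789 IH) (Lpe (f76701 IH) (Lpe (f76714 IH) (Lpr_gt (f66842 IH) (Lpe (f17662 IH) (Lpr_ct (f17666 IH) (Lpe (f25025 IH) (Lpr_cf (f62331 IH) (Lpr_bt (f62328 IH) (Lpn (LP (LK LD1_c1 LD2_c26 LD3_c33)))))))))))))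
theorem f61713 : Led Lsl_ct (LP (LK LD1_c0 LD2_c41 LD3_c16)) = (LP (LK LD1_c0 LD2_c40 LD3_c9)) :=
  Lgr Lrot59 (Lpr_cf (f61669 IH) (Lpn (LP (LK LD1_c0 LD2_c40 LD3_c9))))
theorem f67031 : Led Lsl_bt (LP (LK LD1_c0 LD2_c41 LD3_c24)) = (LP (LK LD1_c1 LD2_c5 LD3_c60)) :=
  Lgr Lrot62 (Lpe (K1.f66816 IH) (Lpe (K1.f66752 IH) (Lpr_af (K1.f66955 IH) (Lpe (f20968 IH) (Lpe (f67030 IH) (Lpn (LP (LK LD1_c1 LD2_c5 LD3_c60))))))))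
theorem f66829 : Led Lsl_ct (LP (LK LD1_c0 LD2_c41 LD3_c24)) = (LP (LK LD1_c0 LD2_c20 LD3_c25)) :=
  Lgr Lrot59 (Lpr_cf (K1.f66827 IH) (Lpn (LP (LK LD1_c0 LD2_c20 LD3_c25))))
theorem f17665 : Led Lsl_ct (LP (LK LD1_c0 LD2_c47 LD3_c48)) = (LP (LK LD1_c0 LD2_c21 LD3_c23)) :=
  Lre_c IH (LK LD1_c0 LD2_c47 LD3_c48) (LK LD1_c0 LD2_c21 LD3_c23) Lrfl Lrfl
theorem f18902 : Led Lsl_gt (LP (LK LD1_c0 LD2_c40 LD3_c7)) = (LP (LK LD1_c0 LD2_c18 LD3_c0)) :=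
  Lre_g IH (LK LD1_c0 LD2_c40 LD3_c7) (LK LD1_c0 LD2_c18 LD3_c0) Lrfl Lrfl
theorem f61996 : Led Lsl_ct (LP (LK LD1_c0 LD2_c18 LD3_c0)) = (LP (LK LD1_c0 LD2_c40 LD3_c14)) :=
  Lre_c IH (LK LD1_c0 LD2_c18 LD3_c0) (LK LD1_c0 LD2_c40 LD3_c14) Lrfl Lrfl
theorem f62678 : Led Lsl_dt (LP (LK LD1_c0 LD2_c40 LD3_c14)) = (LP (LK LD1_c0 LD2_c52 LD3_c50)) :=
  Lgr Lrot27 (Lpe (f61996 IH) (Lpe (f18902 IH) (Lpe (K1.f18891 IH) (Lpe (K1.f18904 IH) (Lpr_df (K1.f62652 IH) (Lpr_gt (K0.f12211 IH) (Lpr_ct (K0.f12210 IH) (Lpr_gt (K0.f12209 IH) (Lpr_ct (K1.f12199 IH) (Lpn (LP (LK LD1_c0 LD2_c52 LD3_c50))))))))))))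
theorem f64382 : Led Lsl_bt (LP (LK LD1_c0 LD2_c21 LD3_c23)) = (LP (LK LD1_c0 LD2_c40 LD3_c14)) :=
  Lgr Lrot95 (Lpr_df (f64363 IH) (Lpe (K0.f12195 IH) (Lpe (f62678 IH) (Lpn (LP (LK LD1_c0 LD2_c40 LD3_c14))))))
theorem f18903 : Led Lsl_ct (LP (LK LD1_c0 LD2_c40 LD3_c14)) = (LP (LK LD1_c0 LD2_c18 LD3_c0)) :=
  Lre_c IH (LK LD1_c0 LD2_c40 LD3_c14) (LK LD1_c0 LD2_c18 LD3_c0) Lrfl Lrfl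
theorem f61995 : Led Lsl_bt (LP (LK LD1_c0 LD2_c18 LD3_c0)) = (LP (LK LD1_c0 LD2_c40 LD3_c13)) :=
  Lre_b IH (LK LD1_c0 LD2_c18 LD3_c0) (LK LD1_c0 LD2_c40 LD3_c13) Lrfl Lrfl
theorem f64404 : Led Lsl_bf (LP (LK LD1_c0 LD2_c47 LD3_c48)) = (LP (LK LD1_c1 LD2_c26 LD3_c52)) :=
  Lgr Lrot90 (Lpr_ct (f17665 IH) (Lpr_bt (f64382 IH) (Lpr_ct (f18903 IH) (Lpr_bt (f61995 IH) (Lpr_ct (K1.f24973 IH) (Lpn (LP (LK LD1_c1 LD2_c26 LD3_c52))))))))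
theorem f64406 : Led Lsl_bt (LP (LK LD1_c0 LD2_c47 LD3_c48)) = (LP (LK LD1_c1 LD2_c26 LD3_c52)) :=
  Lgr Lrot127 (Lpr_bf (f64404 IH) (Lpn (LP (LK LD1_c1 LD2_c26 LD3_c52))))
theorem f25021 : Led Lsl_bt (LP (LK LD1_c1 LD2_c29 LD3_c43)) = (LP (LK LD1_c0 LD2_c41 LD3_c28)) :=
  Lre_b IH (LK LD1_c1 LD2_c29 LD3_c43) (LK LD1_c0 LD2_c41 LD3_c28) Lrfl Lrfl
theorem f25042 : Led Lsl_et (LP (LK LD1_c1 LD2_c29 LD3_c42)) = (LP (LK LD1_c0 LD2_c41 LD3_c27)) :=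
  Lre_e IH (LK LD1_c1 LD2_c29 LD3_c42) (LK LD1_c0 LD2_c41 LD3_c27) Lrfl Lrfl
theorem f62333 : Led Lsl_et (LP (LK LD1_c0 LD2_c40 LD3_c3)) = (LP (LK LD1_c1 LD2_c26 LD3_c34)) :=
  Lre_e IH (LK LD1_c0 LD2_c40 LD3_c3) (LK LD1_c1 LD2_c26 LD3_c34) Lrfl Lrfl
theorem f62334 : Led Lsl_cf (LP (LK LD1_c1 LD2_c29 LD3_c42)) = (LP (LK LD1_c1 LD2_c26 LD3_c34)) :=
  Lgr Lrot39 (Lpr_et (f25042 IH) (Lpr_ct (f62320 IH) (Lpr_et (f62333 IH) (Lpn (LP (LK LD1_c1 LD2_c26 LD3_c34))))))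
theorem f62613 : Led Lsl_ct (LP (LK LD1_c1 LD2_c29 LD3_c42)) = (LP (LK LD1_c1 LD2_c26 LD3_c34)) :=
  Lgr Lrot59 (Lpr_cf (f62334 IH) (Lpn (LP (LK LD1_c1 LD2_c26 LD3_c34))))
theorem f62626 : Led Lsl_bt (LP (LK LD1_c0 LD2_c41 LD3_c30)) = (LP (LK LD1_c1 LD2_c29 LD3_c42)) :=
  Lre_b IH (LK LD1_c0 LD2_c41 LD3_c30) (LK LD1_c1 LD2_c29 LD3_c42) Lrfl Lrfl
theorem f62627 : Led Lsl_ct (LP (LK LD1_c1 LD2_c29 LD3_c44)) = (LP (LK LD1_c0 LD2_c41 LD3_c30)) :=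
  Lre_c IH (LK LD1_c1 LD2_c29 LD3_c44) (LK LD1_c0 LD2_c41 LD3_c30) Lrfl Lrfl
theorem f62628 : Led Lsl_bt (LP (LK LD1_c3 LD2_c7 LD3_c3)) = (LP (LK LD1_c1 LD2_c29 LD3_c44)) :=
  Lre_b IH (LK LD1_c3 LD2_c7 LD3_c3) (LK LD1_c1 LD2_c29 LD3_c44) Lrfl Lrfl
theorem f62625 : Led Lsl_bt (LP (LK LD1_c1 LD2_c26 LD3_c34)) = (LP (LK LD1_c3 LD2_c1 LD3_c13)) :=
  Lre_b IH (LK LD1_c1 LD2_c26 LD3_c34) (LK LD1_c3 LD2_c1 LD3_c13) Lrfl Lrfl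
theorem f62629 : Led Lsl_cf (LP (LK LD1_c3 LD2_c7 LD3_c3)) = (LP (LK LD1_c3 LD2_c1 LD3_c13)) :=
  Lgr Lrot97 (Lpr_bt (f62628 IH) (Lpr_ct (f62627 IH) (Lpr_bt (f62626 IH) (Lpr_ct (f62613 IH) (Lpr_bt (f62625 IH) (Lpn (LP (LK LD1_c3 LD2_c1 LD3_c13))))))))
theorem f62639 : Led Lsl_et (LP (LK LD1_c3 LD2_c7 LD3_c3)) = (LP (LK LD1_c1 LD2_c29 LD3_c43)) :=
  Lre_e IH (LK LD1_c3 LD2_c7 LD3_c3) (LK LD1_c1 LD2_c29 LD3_c43) Lrfl Lrfl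
theorem f62640 : Led Lsl_et (LP (LK LD1_c1 LD2_c26 LD3_c33)) = (LP (LK LD1_c3 LD2_c1 LD3_c13)) :=
  Lre_e IH (LK LD1_c1 LD2_c26 LD3_c33) (LK LD1_c3 LD2_c1 LD3_c13) Lrfl Lrfl
theorem f62641 : Led Lsl_ct (LP (LK LD1_c1 LD2_c29 LD3_c43)) = (LP (LK LD1_c1 LD2_c26 LD3_c33)) :=
  Lgr Lrot15 (Lpe (f62639 IH) (Lpr_cf (f62629 IH) (Lpe (f62640 IH) (Lpn (LP (LK LD1_c1 LD2_c26 LD3_c33))))))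
theorem f76712 : Led Lsl_gt (LP (LK LD1_c0 LD2_c40 LD3_c9)) = (LP (LK LD1_c1 LD2_c26 LD3_c33)) :=
  Lgr Lrot149 (Lpe (f61713 IH) (Lpr_gf (f76707 IH) (Lpe (f67031 IH) (Lpr_ct (f66829 IH) (Lpe (f18160 IH) (Lpe (f17665 IH) (Lpr_bt (f64406 IH) (Lpe (K1.f24974 IH) (Lpe (f25021 IH) (Lpr_ct (f62641 IH) (Lpn (LP (LK LD1_c1 LD2_c26 LD3_c33)))))))))))))
theorem f61763 : Led Lsl_ft (LP (LK LD1_c0 LD2_c40 LD3_c9)) = (LP (LK LD1_c1 LD2_c26 LD3_c46)) :=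
  Lre_f IH (LK LD1_c0 LD2_c40 LD3_c9) (LK LD1_c1 LD2_c26 LD3_c46) Lrfl Lrfl
theorem f77812 : Led Lsl_af (LP (LK LD1_c1 LD2_c29 LD3_c12)) = (LP (LK LD1_c1 LD2_c26 LD3_c46)) :=
  Lgr Lrot31 (Lpr_gf (f77794 IH) (Lpe (f76712 IH) (Lpr_ft (f61763 IH) (Lpn (LP (LK LD1_c1 LD2_c26 LD3_c46))))))
theorem f77820 : Led Lsl_bt (LP (LK LD1_c0 LD2_c40 LD3_c12)) = (LP (LK LD1_c1 LD2_c26 LD3_c46)) :=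
  Lre_b IH (LK LD1_c0 LD2_c40 LD3_c12) (LK LD1_c1 LD2_c26 LD3_c46) Lrfl Lrfl
theorem f61994 : Led Lsl_at (LP (LK LD1_c0 LD2_c18 LD3_c0)) = (LP (LK LD1_c0 LD2_c40 LD3_c12)) :=
  Lre_a IH (LK LD1_c0 LD2_c18 LD3_c0) (LK LD1_c0 LD2_c40 LD3_c12) Lrfl Lrfl
theorem f77821 : Led Lsl_at (LP (LK LD1_c1 LD2_c26 LD3_c51)) = (LP (LK LD1_c0 LD2_c40 LD3_c13)) :=
  Lre_a IH (LK LD1_c1 LD2_c26 LD3_c51) (LK LD1_c0 LD2_c40 LD3_c13) Lrfl Lrfl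
theorem f77822 : Led Lsl_bt (LP (LK LD1_c1 LD2_c29 LD3_c12)) = (LP (LK LD1_c1 LD2_c26 LD3_c51)) :=
  Lgr Lrot62 (Lpr_af (f77812 IH) (Lpe (f77820 IH) (Lpe (f61994 IH) (Lpe (K1.f24972 IH) (Lpe (f77821 IH) (Lpn (LP (LK LD1_c1 LD2_c26 LD3_c51))))))))
theorem f25109 : Led Lsl_ct (LP (LK LD1_c0 LD2_c41 LD3_c15)) = (LP (LK LD1_c1 LD2_c29 LD3_c12)) :=
  Lre_c IH (LK LD1_c0 LD2_c41 LD3_c15) (LK LD1_c1 LD2_c29 LD3_c12) Lrfl Lrfl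
theorem f13674 : Led Lsl_bt (LP (LK LD1_c0 LD2_c18 LD3_c1)) = (LP (LK LD1_c0 LD2_c29 LD3_c61)) :=
  Lre_b IH (LK LD1_c0 LD2_c18 LD3_c1) (LK LD1_c0 LD2_c29 LD3_c61) Lrfl Lrfl
theorem f58180 : Led Lsl_ft (LP (LK LD1_c0 LD2_c40 LD3_c7)) = (LP (LK LD1_c0 LD2_c18 LD3_c1)) :=
  Lre_f IH (LK LD1_c0 LD2_c40 LD3_c7) (LK LD1_c0 LD2_c18 LD3_c1) Lrfl Lrfl
theorem f58181 : Led Lsl_bf (LP (LK LD1_c0 LD2_c40 LD3_c7)) = (LP (LK LD1_c0 LD2_c41 LD3_c10)) :=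
  Lgr Lrot61 (Lpr_ft (f58180 IH) (Lpr_bt (f13674 IH) (Lpr_ft (K1.f58157 IH) (Lpn (LP (LK LD1_c0 LD2_c41 LD3_c10))))))
theorem f13667 : Led Lsl_gt (LP (LK LD1_c0 LD2_c29 LD3_c60)) = (LP (LK LD1_c0 LD2_c13 LD3_c17)) :=
  Lre_g IH (LK LD1_c0 LD2_c29 LD3_c60) (LK LD1_c0 LD2_c13 LD3_c17) Lrfl Lrfl
theorem f58212 : Led Lsl_gf (LP (LK LD1_c0 LD2_c29 LD3_c60)) = (LP (LK LD1_c0 LD2_c41 LD3_c10)) :=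
  Lgr Lrot47 (Lpr_gt (f13667 IH) (Lpe (K0.f13650 IH) (Lpr_ff (K1.f58185 IH) (Lpn (LP (LK LD1_c0 LD2_c41 LD3_c10))))))
theorem f13668 : Led Lsl_ct (LP (LK LD1_c1 LD2_c5 LD3_c33)) = (LP (LK LD1_c0 LD2_c29 LD3_c60)) :=
  Lre_c IH (LK LD1_c1 LD2_c5 LD3_c33) (LK LD1_c0 LD2_c29 LD3_c60) Lrfl Lrfl
theorem f77792 : Led Lsl_bf (LP (LK LD1_c0 LD2_c41 LD3_c15)) = (LP (LK LD1_c1 LD2_c5 LD3_c33)) :=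
  Lgr Lrot165 (Lpr_gt (f77789 IH) (Lpr_ct (f76701 IH) (Lpe (f76707 IH) (Lpr_cf (f61669 IH) (Lpr_bt (f21008 IH) (Lpr_gt (K1.f18905 IH) (Lpr_bf (f58181 IH) (Lpr_ct (K1.f58206 IH) (Lpe (f58212 IH) (Lpe (f13668 IH) (Lpn (LP (LK LD1_c1 LD2_c5 LD3_c33)))))))))))))
theorem f66649 : Led Lsl_ct (LP (LK LD1_c0 LD2_c29 LD3_c60)) = (LP (LK LD1_c1 LD2_c5 LD3_c33)) :=
  Lre_c IH (LK LD1_c0 LD2_c29 LD3_c60) (LK LD1_c1 LD2_c5 LD3_c33) Lrfl Lrfl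
theorem f13673 : Led Lsl_bt (LP (LK LD1_c1 LD2_c5 LD3_c32)) = (LP (LK LD1_c0 LD2_c29 LD3_c60)) :=
  Lre_b IH (LK LD1_c1 LD2_c5 LD3_c32) (LK LD1_c0 LD2_c29 LD3_c60) Lrfl Lrfl
theorem f77845 : Led Lsl_cf (LP (LK LD1_c1 LD2_c5 LD3_c32)) = (LP (LK LD1_c1 LD2_c26 LD3_c51)) :=
  Lgr Lrot97 (Lpr_bt (f13673 IH) (Lpr_ct (f66649 IH) (Lpe (f77792 IH) (Lpr_ct (f25109 IH) (Lpr_bt (f77822 IH) (Lpn (LP (LK LD1_c1 LD2_c26 LD3_c51))))))))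
theorem f77875 : Led Lsl_ct (LP (LK LD1_c1 LD2_c5 LD3_c32)) = (LP (LK LD1_c1 LD2_c26 LD3_c51)) :=
  Lgr Lrot59 (Lpr_cf (f77845 IH) (Lpn (LP (LK LD1_c1 LD2_c26 LD3_c51))))
theorem f7011 : Led Lsl_bt (LP (LK LD1_c0 LD2_c6 LD3_c7)) = (LP (LK LD1_c0 LD2_c13 LD3_c25)) :=
  Lre_b IH (LK LD1_c0 LD2_c6 LD3_c7) (LK LD1_c0 LD2_c13 LD3_c25) Lrfl Lrfl
theorem f7012 : Led Lsl_gt (LP (LK LD1_c0 LD2_c13 LD3_c25)) = (LP (LK LD1_c0 LD2_c30 LD3_c10)) :=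
  Lre_g IH (LK LD1_c0 LD2_c13 LD3_c25) (LK LD1_c0 LD2_c30 LD3_c10) Lrfl Lrfl
theorem f25734 : Led Lsl_ct (LP (LK LD1_c0 LD2_c30 LD3_c10)) = (LP (LK LD1_c1 LD2_c5 LD3_c61)) :=
  Lre_c IH (LK LD1_c0 LD2_c30 LD3_c10) (LK LD1_c1 LD2_c5 LD3_c61) Lrfl Lrfl
theorem f77976 : Led Lsl_gt (LP (LK LD1_c1 LD2_c5 LD3_c61)) = (LP (LK LD1_c1 LD2_c26 LD3_c51)) :=
  Lgr Lrot149 (Lpe (f25734 IH) (Lpe (f7012 IH) (Lpe (f7011 IH) (Lpr_ct (K0.f20966 IH) (Lpr_gf (K0.f25722 IH) (Lpe (K0.f13623 IH) (Lpr_bt (K0.f13626 IH) (Lpe (f13667 IH) (Lpe (f13673 IH) (Lpr_ct (f77875 IH) (Lpn (LP (LK LD1_c1 LD2_c26 LD3_c51)))))))))))))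
theorem f60991 : Led Lsl_dt (LP (LK LD1_c0 LD2_c30 LD3_c13)) = (LP (LK LD1_c0 LD2_c13 LD3_c25)) :=
  Lre_d IH (LK LD1_c0 LD2_c30 LD3_c13) (LK LD1_c0 LD2_c13 LD3_c25) Lrfl Lrfl
theorem f26939 : Led Lsl_gt (LP (LK LD1_c0 LD2_c30 LD3_c13)) = (LP (LK LD1_c1 LD2_c6 LD3_c3)) :=
  Lre_g IH (LK LD1_c0 LD2_c30 LD3_c13) (LK LD1_c1 LD2_c6 LD3_c3) Lrfl Lrfl
theorem f60964 : Led Lsl_ct (LP (LK LD1_c1 LD2_c6 LD3_c3)) = (LP (LK LD1_c2 LD2_c18 LD3_c3)) :=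
  Lre_c IH (LK LD1_c1 LD2_c6 LD3_c3) (LK LD1_c2 LD2_c18 LD3_c3) Lrfl Lrfl
theorem f26938 : Led Lsl_bt (LP (LK LD1_c0 LD2_c13 LD3_c26)) = (LP (LK LD1_c0 LD2_c30 LD3_c13)) :=
  Lre_b IH (LK LD1_c0 LD2_c13 LD3_c26) (LK LD1_c0 LD2_c30 LD3_c13) Lrfl Lrfl
theorem f35342 : Led Lsl_bt (LP (LK LD1_c0 LD2_c6 LD3_c19)) = (LP (LK LD1_c0 LD2_c13 LD3_c49)) :=
  Lre_b IH (LK LD1_c0 LD2_c6 LD3_c19) (LK LD1_c0 LD2_c13 LD3_c49) Lrfl Lrfl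
theorem f25202 : Led Lsl_gt (LP (LK LD1_c0 LD2_c31 LD3_c7)) = (LP (LK LD1_c0 LD2_c13 LD3_c49)) :=
  Lre_g IH (LK LD1_c0 LD2_c31 LD3_c7) (LK LD1_c0 LD2_c13 LD3_c49) Lrfl Lrfl
theorem f25203 : Led Lsl_bt (LP (LK LD1_c1 LD2_c7 LD3_c49)) = (LP (LK LD1_c0 LD2_c31 LD3_c7)) :=
  Lre_b IH (LK LD1_c1 LD2_c7 LD3_c49) (LK LD1_c0 LD2_c31 LD3_c7) Lrfl Lrfl
theorem f60965 : Led Lsl_ct (LP (LK LD1_c1 LD2_c7 LD3_c49)) = (LP (LK LD1_c2 LD2_c21 LD3_c1)) :=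
  Lre_c IH (LK LD1_c1 LD2_c7 LD3_c49) (LK LD1_c2 LD2_c21 LD3_c1) Lrfl Lrfl
theorem f60966 : Led Lsl_gt (LP (LK LD1_c2 LD2_c18 LD3_c3)) = (LP (LK LD1_c2 LD2_c21 LD3_c1)) :=
  Lgr Lrot149 (Lpe (f60964 IH) (Lpe (f26939 IH) (Lpe (f26938 IH) (Lpr_ct (K1.f60927 IH) (Lpe (K0.f20071 IH) (Lpe (K0.f20070 IH) (Lpr_bt (f35342 IH) (Lpe (f25202 IH) (Lpe (f25203 IH) (Lpr_ct (f60965 IH) (Lpn (LP (LK LD1_c2 LD2_c21 LD3_c1)))))))))))))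
theorem f25204 : Led Lsl_ct (LP (LK LD1_c2 LD2_c21 LD3_c1)) = (LP (LK LD1_c1 LD2_c7 LD3_c49)) :=
  Lre_c IH (LK LD1_c2 LD2_c21 LD3_c1) (LK LD1_c1 LD2_c7 LD3_c49) Lrfl Lrfl
theorem f77983 : Led Lsl_df (LP (LK LD1_c1 LD2_c7 LD3_c49)) = (LP (LK LD1_c1 LD2_c5 LD3_c32)) :=
  Lgr Lrot162 (Lpe (f25204 IH) (Lpe (f60966 IH) (Lpe (f60964 IH) (Lpe (f26939 IH) (Lpr_dt (f60991 IH) (Lpr_gt (f7012 IH) (Lpr_ct (f25734 IH) (Lpr_gt (f77976 IH) (Lpe (f77845 IH) (Lpn (LP (LK LD1_c1 LD2_c5 LD3_c32))))))))))))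
theorem f77902 : Led Lsl_bt (LP (LK LD1_c0 LD2_c29 LD3_c60)) = (LP (LK LD1_c1 LD2_c5 LD3_c32)) :=
  Lre_b IH (LK LD1_c0 LD2_c29 LD3_c60) (LK LD1_c1 LD2_c5 LD3_c32) Lrfl Lrfl
theorem f77988 : Led Lsl_dt (LP (LK LD1_c0 LD2_c31 LD3_c7)) = (LP (LK LD1_c0 LD2_c29 LD3_c60)) :=
  Lgr Lrot79 (Lpe (f25203 IH) (Lpr_df (f77983 IH) (Lpe (f77902 IH) (Lpn (LP (LK LD1_c0 LD2_c29 LD3_c60))))))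
theorem f62318 : Led Lsl_gt (LP (LK LD1_c1 LD2_c7 LD3_c27)) = (LP (LK LD1_c0 LD2_c31 LD3_c7)) :=
  Lre_g IH (LK LD1_c1 LD2_c7 LD3_c27) (LK LD1_c0 LD2_c31 LD3_c7) Lrfl Lrfl
theorem f13798 : Led Lsl_gt (LP (LK LD1_c0 LD2_c13 LD3_c46)) = (LP (LK LD1_c0 LD2_c30 LD3_c57)) :=
  Lre_g IH (LK LD1_c0 LD2_c13 LD3_c46) (LK LD1_c0 LD2_c30 LD3_c57) Lrfl Lrfl
theorem f23592 : Led Lsl_ct (LP (LK LD1_c0 LD2_c13 LD3_c46)) = (LP (LK LD1_c0 LD2_c30 LD3_c60)) :=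
  Lre_c IH (LK LD1_c0 LD2_c13 LD3_c46) (LK LD1_c0 LD2_c30 LD3_c60) Lrfl Lrfl
theorem f23504 : Led Lsl_gt (LP (LK LD1_c0 LD2_c30 LD3_c60)) = (LP (LK LD1_c1 LD2_c7 LD3_c32)) :=
  Lre_g IH (LK LD1_c0 LD2_c30 LD3_c60) (LK LD1_c1 LD2_c7 LD3_c32) Lrfl Lrfl
theorem f23490 : Led Lsl_dt (LP (LK LD1_c1 LD2_c7 LD3_c32)) = (LP (LK LD1_c2 LD2_c20 LD3_c23)) :=
  Lre_d IH (LK LD1_c1 LD2_c7 LD3_c32) (LK LD1_c2 LD2_c20 LD3_c23) Lrfl Lrfl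
theorem f77802 : Led Lsl_dt (LP (LK LD1_c2 LD2_c17 LD3_c12)) = (LP (LK LD1_c1 LD2_c5 LD3_c33)) :=
  Lre_d IH (LK LD1_c2 LD2_c17 LD3_c12) (LK LD1_c1 LD2_c5 LD3_c33) Lrfl Lrfl
theorem f78004 : Led Lsl_gt (LP (LK LD1_c2 LD2_c20 LD3_c23)) = (LP (LK LD1_c2 LD2_c17 LD3_c12)) :=
  Lgr Lrot49 (Lpe (f23490 IH) (Lpe (f23504 IH) (Lpe (f23592 IH) (Lpr_gt (f13798 IH) (Lpr_dt (K0.f13772 IH) (Lpr_gt (f62318 IH) (Lpr_dt (f77988 IH) (Lpe (f13668 IH) (Lpe (f77802 IH) (Lpn (LP (LK LD1_c2 LD2_c17 LD3_c12))))))))))))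
theorem f23464 : Led Lsl_gt (LP (LK LD1_c0 LD2_c30 LD3_c44)) = (LP (LK LD1_c0 LD2_c13 LD3_c39)) :=
  Lre_g IH (LK LD1_c0 LD2_c30 LD3_c44) (LK LD1_c0 LD2_c13 LD3_c39) Lrfl Lrfl
theorem f23465 : Led Lsl_ct (LP (LK LD1_c1 LD2_c7 LD3_c5)) = (LP (LK LD1_c0 LD2_c30 LD3_c44)) :=
  Lre_c IH (LK LD1_c1 LD2_c7 LD3_c5) (LK LD1_c0 LD2_c30 LD3_c44) Lrfl Lrfl
theorem f23373 : Led Lsl_gf (LP (LK LD1_c0 LD2_c4 LD3_c14)) = (LP (LK LD1_c0 LD2_c3 LD3_c56)) :=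
  Lgr Lrot76 (Lpe (K0.f13462 IH) (Lpr_ff (K0.f13458 IH) (Lpr_gt (K0.f23346 IH) (Lpn (LP (LK LD1_c0 LD2_c3 LD3_c56))))))
theorem f3825 : Led Lsl_ct (LP (LK LD1_c0 LD2_c4 LD3_c14)) = (LP (LK LD1_c0 LD2_c1 LD3_c53)) :=
  Lre_c IH (LK LD1_c0 LD2_c4 LD3_c14) (LK LD1_c0 LD2_c1 LD3_c53) Lrfl Lrfl
theorem f20946 : Led Lsl_bt (LP (LK LD1_c0 LD2_c6 LD3_c16)) = (LP (LK LD1_c0 LD2_c13 LD3_c42)) :=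
  Lre_b IH (LK LD1_c0 LD2_c6 LD3_c16) (LK LD1_c0 LD2_c13 LD3_c42) Lrfl Lrfl
theorem f20947 : Led Lsl_gt (LP (LK LD1_c0 LD2_c13 LD3_c42)) = (LP (LK LD1_c0 LD2_c30 LD3_c50)) :=
  Lre_g IH (LK LD1_c0 LD2_c13 LD3_c42) (LK LD1_c0 LD2_c30 LD3_c50) Lrfl Lrfl
theorem f23468 : Led Lsl_bt (LP (LK LD1_c1 LD2_c7 LD3_c5)) = (LP (LK LD1_c0 LD2_c30 LD3_c50)) :=
  Lgr Lrot92 (Lpr_ct (f23465 IH) (Lpr_gt (f23464 IH) (Lpr_cf (f23426 IH) (Lpr_bt (K0.f23379 IH) (Lpe (f23373 IH) (Lpr_ct (f3825 IH) (Lpr_gt (K0.f1634 IH) (Lpr_cf (K0.f23272 IH) (Lpr_bt (f20946 IH) (Lpr_gt (f20947 IH) (Lpn (LP (LK LD1_c0 LD2_c30 LD3_c50)))))))))))))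
theorem f23472 : Led Lsl_ct (LP (LK LD1_c0 LD2_c30 LD3_c44)) = (LP (LK LD1_c1 LD2_c7 LD3_c5)) :=
  Lre_c IH (LK LD1_c0 LD2_c30 LD3_c44) (LK LD1_c1 LD2_c7 LD3_c5) Lrfl Lrfl
theorem f23473 : Led Lsl_bt (LP (LK LD1_c1 LD2_c7 LD3_c4)) = (LP (LK LD1_c0 LD2_c30 LD3_c44)) :=
  Lre_b IH (LK LD1_c1 LD2_c7 LD3_c4) (LK LD1_c0 LD2_c30 LD3_c44) Lrfl Lrfl
theorem f23474 : Led Lsl_ct (LP (LK LD1_c1 LD2_c7 LD3_c32)) = (LP (LK LD1_c1 LD2_c7 LD3_c4)) :=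
  Lre_c IH (LK LD1_c1 LD2_c7 LD3_c32) (LK LD1_c1 LD2_c7 LD3_c4) Lrfl Lrfl
theorem f23312 : Led Lsl_ct (LP (LK LD1_c0 LD2_c30 LD3_c50)) = (LP (LK LD1_c1 LD2_c7 LD3_c11)) :=
  Lre_c IH (LK LD1_c0 LD2_c30 LD3_c50) (LK LD1_c1 LD2_c7 LD3_c11) Lrfl Lrfl
theorem f23475 : Led Lsl_bf (LP (LK LD1_c1 LD2_c7 LD3_c32)) = (LP (LK LD1_c1 LD2_c7 LD3_c11)) :=
  Lgr Lrot90 (Lpr_ct (f23474 IH) (Lpr_bt (f23473 IH) (Lpr_ct (f23472 IH) (Lpr_bt (f23468 IH) (Lpr_ct (f23312 IH) (Lpn (LP (LK LD1_c1 LD2_c7 LD3_c11))))))))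
theorem f23494 : Led Lsl_et (LP (LK LD1_c1 LD2_c7 LD3_c32)) = (LP (LK LD1_c2 LD2_c20 LD3_c24)) :=
  Lre_e IH (LK LD1_c1 LD2_c7 LD3_c32) (LK LD1_c2 LD2_c20 LD3_c24) Lrfl Lrfl
theorem f23495 : Led Lsl_et (LP (LK LD1_c2 LD2_c19 LD3_c54)) = (LP (LK LD1_c1 LD2_c7 LD3_c11)) :=
  Lre_e IH (LK LD1_c2 LD2_c19 LD3_c54) (LK LD1_c1 LD2_c7 LD3_c11) Lrfl Lrfl
theorem f23496 : Led Lsl_bt (LP (LK LD1_c2 LD2_c20 LD3_c24)) = (LP (LK LD1_c2 LD2_c19 LD3_c54)) :=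
  Lgr Lrot119 (Lpe (f23494 IH) (Lpr_bf (f23475 IH) (Lpe (f23495 IH) (Lpn (LP (LK LD1_c2 LD2_c19 LD3_c54))))))
theorem f23508 : Led Lsl_dt (LP (LK LD1_c4 LD2_c44 LD3_c36)) = (LP (LK LD1_c2 LD2_c20 LD3_c24)) :=
  Lre_d IH (LK LD1_c4 LD2_c44 LD3_c36) (LK LD1_c2 LD2_c20 LD3_c24) Lrfl Lrfl
theorem f23509 : Led Lsl_dt (LP (LK LD1_c2 LD2_c19 LD3_c54)) = (LP (LK LD1_c4 LD2_c43 LD3_c59)) :=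
  Lre_d IH (LK LD1_c2 LD2_c19 LD3_c54) (LK LD1_c4 LD2_c43 LD3_c59) Lrfl Lrfl
theorem f23510 : Led Lsl_bf (LP (LK LD1_c4 LD2_c44 LD3_c36)) = (LP (LK LD1_c4 LD2_c43 LD3_c59)) :=
  Lgr Lrot93 (Lpr_dt (f23508 IH) (Lpr_bt (f23496 IH) (Lpr_dt (f23509 IH) (Lpn (LP (LK LD1_c4 LD2_c43 LD3_c59))))))
theorem f23514 : Led Lsl_et (LP (LK LD1_c4 LD2_c44 LD3_c36)) = (LP (LK LD1_c9 LD2_c21 LD3_c56)) :=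
  Lre_e IH (LK LD1_c4 LD2_c44 LD3_c36) (LK LD1_c9 LD2_c21 LD3_c56) Lrfl Lrfl
theorem f23515 : Led Lsl_et (LP (LK LD1_c9 LD2_c20 LD3_c48)) = (LP (LK LD1_c4 LD2_c43 LD3_c59)) :=
  Lre_e IH (LK LD1_c9 LD2_c20 LD3_c48) (LK LD1_c4 LD2_c43 LD3_c59) Lrfl Lrfl
theorem f23516 : Led Lsl_bt (LP (LK LD1_c9 LD2_c21 LD3_c56)) = (LP (LK LD1_c9 LD2_c20 LD3_c48)) :=
  Lgr Lrot119 (Lpe (f23514 IH) (Lpr_bf (f23510 IH) (Lpe (f23515 IH) (Lpn (LP (LK LD1_c9 LD2_c20 LD3_c48))))))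
theorem f23520 : Led Lsl_dt (LP (LK LD1_c4 LD2_c44 LD3_c35)) = (LP (LK LD1_c9 LD2_c21 LD3_c56)) :=
  Lre_d IH (LK LD1_c4 LD2_c44 LD3_c35) (LK LD1_c9 LD2_c21 LD3_c56) Lrfl Lrfl
theorem f23521 : Led Lsl_dt (LP (LK LD1_c9 LD2_c20 LD3_c48)) = (LP (LK LD1_c4 LD2_c43 LD3_c58)) :=
  Lre_d IH (LK LD1_c9 LD2_c20 LD3_c48) (LK LD1_c4 LD2_c43 LD3_c58) Lrfl Lrfl
theorem f23522 : Led Lsl_bf (LP (LK LD1_c4 LD2_c44 LD3_c35)) = (LP (LK LD1_c4 LD2_c43 LD3_c58)) :=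
  Lgr Lrot93 (Lpr_dt (f23520 IH) (Lpr_bt (f23516 IH) (Lpr_dt (f23521 IH) (Lpn (LP (LK LD1_c4 LD2_c43 LD3_c58))))))
theorem f23525 : Led Lsl_bt (LP (LK LD1_c4 LD2_c44 LD3_c35)) = (LP (LK LD1_c4 LD2_c43 LD3_c58)) :=
  Lgr Lrot127 (Lpr_bf (f23522 IH) (Lpn (LP (LK LD1_c4 LD2_c43 LD3_c58))))
theorem f23532 : Led Lsl_et (LP (LK LD1_c2 LD2_c20 LD3_c23)) = (LP (LK LD1_c4 LD2_c44 LD3_c35)) :=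
  Lre_e IH (LK LD1_c2 LD2_c20 LD3_c23) (LK LD1_c4 LD2_c44 LD3_c35) Lrfl Lrfl
theorem f23533 : Led Lsl_et (LP (LK LD1_c4 LD2_c43 LD3_c58)) = (LP (LK LD1_c2 LD2_c19 LD3_c53)) :=
  Lre_e IH (LK LD1_c4 LD2_c43 LD3_c58) (LK LD1_c2 LD2_c19 LD3_c53) Lrfl Lrfl
theorem f23534 : Led Lsl_bf (LP (LK LD1_c2 LD2_c20 LD3_c23)) = (LP (LK LD1_c2 LD2_c19 LD3_c53)) :=
  Lgr Lrot96 (Lpr_et (f23532 IH) (Lpr_bt (f23525 IH) (Lpr_et (f23533 IH) (Lpn (LP (LK LD1_c2 LD2_c19 LD3_c53))))))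
theorem f23539 : Led Lsl_dt (LP (LK LD1_c2 LD2_c20 LD3_c23)) = (LP (LK LD1_c1 LD2_c7 LD3_c32)) :=
  Lre_d IH (LK LD1_c2 LD2_c20 LD3_c23) (LK LD1_c1 LD2_c7 LD3_c32) Lrfl Lrfl
theorem f23498 : Led Lsl_gt (LP (LK LD1_c1 LD2_c7 LD3_c32)) = (LP (LK LD1_c0 LD2_c31 LD3_c2)) :=
  Lre_g IH (LK LD1_c1 LD2_c7 LD3_c32) (LK LD1_c0 LD2_c31 LD3_c2) Lrfl Lrfl
theorem f13783 : Led Lsl_dt (LP (LK LD1_c0 LD2_c6 LD3_c18)) = (LP (LK LD1_c0 LD2_c13 LD3_c49)) :=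
  Lre_d IH (LK LD1_c0 LD2_c6 LD3_c18) (LK LD1_c0 LD2_c13 LD3_c49) Lrfl Lrfl
theorem f13781 : Led Lsl_ct (LP (LK LD1_c0 LD2_c31 LD3_c8)) = (LP (LK LD1_c0 LD2_c13 LD3_c49)) :=
  Lre_c IH (LK LD1_c0 LD2_c31 LD3_c8) (LK LD1_c0 LD2_c13 LD3_c49) Lrfl Lrfl
theorem f58946 : Led Lsl_gt (LP (LK LD1_c1 LD2_c7 LD3_c53)) = (LP (LK LD1_c0 LD2_c31 LD3_c8)) :=
  Lre_g IH (LK LD1_c1 LD2_c7 LD3_c53) (LK LD1_c0 LD2_c31 LD3_c8) Lrfl Lrfl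
theorem f78094 : Led Lsl_cf (LP (LK LD1_c1 LD2_c7 LD3_c53)) = (LP (LK LD1_c2 LD2_c17 LD3_c12)) :=
  Lgr Lrot169 (Lpr_gt (f58946 IH) (Lpr_ct (f13781 IH) (Lpe (f13783 IH) (Lpe (K0.f13607 IH) (Lpe (K0.f23306 IH) (Lpe (K0.f23307 IH) (Lpe (f23498 IH) (Lpe (f23539 IH) (Lpr_gt (f78004 IH) (Lpn (LP (LK LD1_c2 LD2_c17 LD3_c12))))))))))))
theorem f13784 : Led Lsl_ct (LP (LK LD1_c0 LD2_c13 LD3_c49)) = (LP (LK LD1_c0 LD2_c31 LD3_c8)) :=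
  Lre_c IH (LK LD1_c0 LD2_c13 LD3_c49) (LK LD1_c0 LD2_c31 LD3_c8) Lrfl Lrfl
theorem f20062 : Led Lsl_bt (LP (LK LD1_c0 LD2_c13 LD3_c49)) = (LP (LK LD1_c0 LD2_c6 LD3_c19)) :=
  Lre_b IH (LK LD1_c0 LD2_c13 LD3_c49) (LK LD1_c0 LD2_c6 LD3_c19) Lrfl Lrfl
theorem f11010 : Led Lsl_bt (LP (LK LD1_c0 LD2_c31 LD3_c12)) = (LP (LK LD1_c0 LD2_c13 LD3_c51)) :=
  Lre_b IH (LK LD1_c0 LD2_c31 LD3_c12) (LK LD1_c0 LD2_c13 LD3_c51) Lrfl Lrfl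
theorem f78096 : Led Lsl_ct (LP (LK LD1_c0 LD2_c31 LD3_c12)) = (LP (LK LD1_c1 LD2_c8 LD3_c4)) :=
  Lre_c IH (LK LD1_c0 LD2_c31 LD3_c12) (LK LD1_c1 LD2_c8 LD3_c4) Lrfl Lrfl
theorem f78097 : Led Lsl_gt (LP (LK LD1_c1 LD2_c8 LD3_c4)) = (LP (LK LD1_c2 LD2_c21 LD3_c46)) :=
  Lre_g IH (LK LD1_c1 LD2_c8 LD3_c4) (LK LD1_c2 LD2_c21 LD3_c46) Lrfl Lrfl
theorem f78098 : Led Lsl_ct (LP (LK LD1_c2 LD2_c19 LD3_c53)) = (LP (LK LD1_c2 LD2_c21 LD3_c46)) :=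
  Lgr Lrot10 (Lpe (f23534 IH) (Lpr_gt (f78004 IH) (Lpe (f78094 IH) (Lpr_gt (f58946 IH) (Lpe (f13784 IH) (Lpr_bt (f20062 IH) (Lpr_gt (K0.f13590 IH) (Lpe (f11010 IH) (Lpr_ct (f78096 IH) (Lpr_gt (f78097 IH) (Lpn (LP (LK LD1_c2 LD2_c21 LD3_c46)))))))))))))
theorem f78103 : Led Lsl_cf (LP (LK LD1_c2 LD2_c19 LD3_c53)) = (LP (LK LD1_c2 LD2_c21 LD3_c46)) :=
  Lgr Lrot11 (Lpr_ct (f78098 IH) (Lpn (LP (LK LD1_c2 LD2_c21 LD3_c46))))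
theorem f23491 : Led Lsl_dt (LP (LK LD1_c2 LD2_c19 LD3_c53)) = (LP (LK LD1_c1 LD2_c7 LD3_c11)) :=
  Lre_d IH (LK LD1_c2 LD2_c19 LD3_c53) (LK LD1_c1 LD2_c7 LD3_c11) Lrfl Lrfl
theorem f23296 : Led Lsl_bt (LP (LK LD1_c0 LD2_c13 LD3_c42)) = (LP (LK LD1_c0 LD2_c6 LD3_c16)) :=
  Lre_b IH (LK LD1_c0 LD2_c13 LD3_c42) (LK LD1_c0 LD2_c6 LD3_c16) Lrfl Lrfl
theorem f23297 : Led Lsl_ct (LP (LK LD1_c0 LD2_c13 LD3_c42)) = (LP (LK LD1_c0 LD2_c13 LD3_c42)) :=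
  Lgr Lrot83 (Lpe (f20946 IH) (Lpr_cf (K0.f20049 IH) (Lpe (K0.f7379 IH) (Lpr_cf (K0.f23272 IH) (Lpe (f23296 IH) (Lpn (LP (LK LD1_c0 LD2_c13 LD3_c42))))))))
theorem f23310 : Led Lsl_gt (LP (LK LD1_c0 LD2_c30 LD3_c51)) = (LP (LK LD1_c0 LD2_c13 LD3_c42)) :=
  Lre_g IH (LK LD1_c0 LD2_c30 LD3_c51) (LK LD1_c0 LD2_c13 LD3_c42) Lrfl Lrfl
theorem f78108 : Led Lsl_dt (LP (LK LD1_c0 LD2_c30 LD3_c51)) = (LP (LK LD1_c1 LD2_c7 LD3_c15)) :=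
  Lre_d IH (LK LD1_c0 LD2_c30 LD3_c51) (LK LD1_c1 LD2_c7 LD3_c15) Lrfl Lrfl
theorem f78109 : Led Lsl_gt (LP (LK LD1_c1 LD2_c7 LD3_c15)) = (LP (LK LD1_c0 LD2_c31 LD3_c12)) :=
  Lgr Lrot9 (Lpe (f78108 IH) (Lpr_gt (f23310 IH) (Lpr_ct (f23297 IH) (Lpr_gt (f20947 IH) (Lpr_ct (f23312 IH) (Lpe (f23491 IH) (Lpr_cf (f78103 IH) (Lpe (f78097 IH) (Lpe (f78096 IH) (Lpn (LP (LK LD1_c0 LD2_c31 LD3_c12))))))))))))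
theorem f78116 : Led Lsl_bt (LP (LK LD1_c2 LD2_c19 LD3_c58)) = (LP (LK LD1_c1 LD2_c7 LD3_c15)) :=
  Lre_b IH (LK LD1_c2 LD2_c19 LD3_c58) (LK LD1_c1 LD2_c7 LD3_c15) Lrfl Lrfl
theorem f78119 : Led Lsl_ct (LP (LK LD1_c2 LD2_c19 LD3_c58)) = (LP (LK LD1_c4 LD2_c44 LD3_c2)) :=
  Lre_c IH (LK LD1_c2 LD2_c19 LD3_c58) (LK LD1_c4 LD2_c44 LD3_c2) Lrfl Lrfl
theorem f77877 : Led Lsl_et (LP (LK LD1_c1 LD2_c5 LD3_c32)) = (LP (LK LD1_c2 LD2_c17 LD3_c11)) :=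
  Lre_e IH (LK LD1_c1 LD2_c5 LD3_c32) (LK LD1_c2 LD2_c17 LD3_c11) Lrfl Lrfl
theorem f77860 : Led Lsl_et (LP (LK LD1_c3 LD2_c1 LD3_c38)) = (LP (LK LD1_c1 LD2_c26 LD3_c51)) :=
  Lre_e IH (LK LD1_c3 LD2_c1 LD3_c38) (LK LD1_c1 LD2_c26 LD3_c51) Lrfl Lrfl
theorem f77878 : Led Lsl_ct (LP (LK LD1_c2 LD2_c17 LD3_c11)) = (LP (LK LD1_c3 LD2_c1 LD3_c38)) :=
  Lgr Lrot15 (Lpe (f77877 IH) (Lpr_cf (f77845 IH) (Lpe (f77860 IH) (Lpn (LP (LK LD1_c3 LD2_c1 LD3_c38))))))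
theorem f77886 : Led Lsl_cf (LP (LK LD1_c2 LD2_c17 LD3_c11)) = (LP (LK LD1_c3 LD2_c1 LD3_c38)) :=
  Lgr Lrot11 (Lpr_ct (f77878 IH) (Lpn (LP (LK LD1_c3 LD2_c1 LD3_c38))))
theorem f77888 : Led Lsl_bt (LP (LK LD1_c2 LD2_c17 LD3_c11)) = (LP (LK LD1_c1 LD2_c5 LD3_c34)) :=
  Lre_b IH (LK LD1_c2 LD2_c17 LD3_c11) (LK LD1_c1 LD2_c5 LD3_c34) Lrfl Lrfl
theorem f77891 : Led Lsl_ct (LP (LK LD1_c1 LD2_c5 LD3_c34)) = (LP (LK LD1_c2 LD2_c17 LD3_c13)) :=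
  Lre_c IH (LK LD1_c1 LD2_c5 LD3_c34) (LK LD1_c2 LD2_c17 LD3_c13) Lrfl Lrfl
theorem f77816 : Led Lsl_et (LP (LK LD1_c3 LD2_c6 LD3_c15)) = (LP (LK LD1_c1 LD2_c29 LD3_c12)) :=
  Lre_e IH (LK LD1_c3 LD2_c6 LD3_c15) (LK LD1_c1 LD2_c29 LD3_c12) Lrfl Lrfl
theorem f77849 : Led Lsl_et (LP (LK LD1_c1 LD2_c26 LD3_c51)) = (LP (LK LD1_c3 LD2_c1 LD3_c38)) :=
  Lre_e IH (LK LD1_c1 LD2_c26 LD3_c51) (LK LD1_c3 LD2_c1 LD3_c38) Lrfl Lrfl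
theorem f77850 : Led Lsl_bf (LP (LK LD1_c3 LD2_c6 LD3_c15)) = (LP (LK LD1_c3 LD2_c1 LD3_c38)) :=
  Lgr Lrot96 (Lpr_et (f77816 IH) (Lpr_bt (f77822 IH) (Lpr_et (f77849 IH) (Lpn (LP (LK LD1_c3 LD2_c1 LD3_c38))))))
theorem f77854 : Led Lsl_bt (LP (LK LD1_c3 LD2_c6 LD3_c15)) = (LP (LK LD1_c3 LD2_c1 LD3_c38)) :=
  Lgr Lrot127 (Lpr_bf (f77850 IH) (Lpn (LP (LK LD1_c3 LD2_c1 LD3_c38))))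
theorem f77858 : Led Lsl_ct (LP (LK LD1_c1 LD2_c29 LD3_c14)) = (LP (LK LD1_c3 LD2_c6 LD3_c15)) :=
  Lre_c IH (LK LD1_c1 LD2_c29 LD3_c14) (LK LD1_c3 LD2_c6 LD3_c15) Lrfl Lrfl
theorem f77892 : Led Lsl_bt (LP (LK LD1_c2 LD2_c17 LD3_c13)) = (LP (LK LD1_c1 LD2_c29 LD3_c14)) :=
  Lgr Lrot128 (Lpe (f77891 IH) (Lpe (f77888 IH) (Lpr_cf (f77886 IH) (Lpe (f77854 IH) (Lpe (f77858 IH) (Lpn (LP (LK LD1_c1 LD2_c29 LD3_c14))))))))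
theorem f77898 : Led Lsl_et (LP (LK LD1_c1 LD2_c5 LD3_c33)) = (LP (LK LD1_c2 LD2_c17 LD3_c13)) :=
  Lre_e IH (LK LD1_c1 LD2_c5 LD3_c33) (LK LD1_c2 LD2_c17 LD3_c13) Lrfl Lrfl
theorem f77798 : Led Lsl_et (LP (LK LD1_c1 LD2_c29 LD3_c14)) = (LP (LK LD1_c0 LD2_c41 LD3_c15)) :=
  Lre_e IH (LK LD1_c1 LD2_c29 LD3_c14) (LK LD1_c0 LD2_c41 LD3_c15) Lrfl Lrfl
theorem f77899 : Led Lsl_bf (LP (LK LD1_c1 LD2_c5 LD3_c33)) = (LP (LK LD1_c0 LD2_c41 LD3_c15)) :=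
  Lgr Lrot96 (Lpr_et (f77898 IH) (Lpr_bt (f77892 IH) (Lpr_et (f77798 IH) (Lpn (LP (LK LD1_c0 LD2_c41 LD3_c15))))))
theorem f77801 : Led Lsl_dt (LP (LK LD1_c1 LD2_c5 LD3_c33)) = (LP (LK LD1_c2 LD2_c17 LD3_c12)) :=
  Lre_d IH (LK LD1_c1 LD2_c5 LD3_c33) (LK LD1_c2 LD2_c17 LD3_c12) Lrfl Lrfl
theorem f77791 : Led Lsl_dt (LP (LK LD1_c1 LD2_c29 LD3_c13)) = (LP (LK LD1_c0 LD2_c41 LD3_c15)) :=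
  Lre_d IH (LK LD1_c1 LD2_c29 LD3_c13) (LK LD1_c0 LD2_c41 LD3_c15) Lrfl Lrfl
theorem f77903 : Led Lsl_bt (LP (LK LD1_c2 LD2_c17 LD3_c12)) = (LP (LK LD1_c1 LD2_c29 LD3_c13)) :=
  Lgr Lrot95 (Lpe (f77801 IH) (Lpr_bf (f77899 IH) (Lpe (f77791 IH) (Lpn (LP (LK LD1_c1 LD2_c29 LD3_c13))))))
theorem f77905 : Led Lsl_bf (LP (LK LD1_c2 LD2_c17 LD3_c12)) = (LP (LK LD1_c1 LD2_c29 LD3_c13)) :=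
  Lgr Lrot24 (Lpr_bt (f77903 IH) (Lpn (LP (LK LD1_c1 LD2_c29 LD3_c13))))
theorem f25055 : Led Lsl_ct (LP (LK LD1_c1 LD2_c29 LD3_c13)) = (LP (LK LD1_c3 LD2_c6 LD3_c16)) :=
  Lre_c IH (LK LD1_c1 LD2_c29 LD3_c13) (LK LD1_c3 LD2_c6 LD3_c16) Lrfl Lrfl
theorem f78120 : Led Lsl_gf (LP (LK LD1_c4 LD2_c44 LD3_c2)) = (LP (LK LD1_c3 LD2_c6 LD3_c16)) :=
  Lgr Lrot126 (Lpe (f78119 IH) (Lpr_bt (f78116 IH) (Lpr_gt (f78109 IH) (Lpr_ct (f78096 IH) (Lpr_gt (f78097 IH) (Lpe (f78098 IH) (Lpe (f23534 IH) (Lpr_gt (f78004 IH) (Lpr_bf (f77905 IH) (Lpr_ct (f25055 IH) (Lpn (LP (LK LD1_c3 LD2_c6 LD3_c16)))))))))))))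
theorem f58948 : Led Lsl_bt (LP (LK LD1_c0 LD2_c13 LD3_c51)) = (LP (LK LD1_c0 LD2_c31 LD3_c12)) :=
  Lre_b IH (LK LD1_c0 LD2_c13 LD3_c51) (LK LD1_c0 LD2_c31 LD3_c12) Lrfl Lrfl
theorem f58917 : Led Lsl_bt (LP (LK LD1_c0 LD2_c18 LD3_c38)) = (LP (LK LD1_c0 LD2_c41 LD3_c44)) :=
  Lre_b IH (LK LD1_c0 LD2_c18 LD3_c38) (LK LD1_c0 LD2_c41 LD3_c44) Lrfl Lrfl
theorem f78122 : Led Lsl_gf (LP (LK LD1_c1 LD2_c29 LD3_c13)) = (LP (LK LD1_c0 LD2_c41 LD3_c44)) :=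
  Lgr Lrot181 (Lpr_ct (f25055 IH) (Lpe (f78120 IH) (Lpe (f78119 IH) (Lpr_bt (f78116 IH) (Lpr_gt (f78109 IH) (Lpe (f58948 IH) (Lpe (K0.f26758 IH) (Lpr_gt (K1.f58933 IH) (Lpr_cf (K1.f58852 IH) (Lpr_bt (f58917 IH) (Lpn (LP (LK LD1_c0 LD2_c41 LD3_c44)))))))))))))
theorem f66835 : Led Lsl_et (LP (LK LD1_c0 LD2_c41 LD3_c24)) = (LP (LK LD1_c0 LD2_c20 LD3_c16)) :=
  Lgr Lrot158 (Lpr_cf (K1.f66827 IH) (Lpe (f9776 IH) (Lpe (K0.f9758 IH) (Lpn (LP (LK LD1_c0 LD2_c20 LD3_c16))))))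
theorem f76717 : Led Lsl_et (LP (LK LD1_c0 LD2_c45 LD3_c10)) = (LP (LK LD1_c1 LD2_c5 LD3_c60)) :=
  Lgr Lrot74 (Lpe (K0.f9759 IH) (Lpe (f66835 IH) (Lpr_bf (f76714 IH) (Lpn (LP (LK LD1_c1 LD2_c5 LD3_c60))))))
theorem f13492 : Led Lsl_at (LP (LK LD1_c0 LD2_c19 LD3_c2)) = (LP (LK LD1_c0 LD2_c42 LD3_c47)) :=
  Lre_a IH (LK LD1_c0 LD2_c19 LD3_c2) (LK LD1_c0 LD2_c42 LD3_c47) Lrfl Lrfl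
theorem f13493 : Led Lsl_cf (LP (LK LD1_c0 LD2_c42 LD3_c47)) = (LP (LK LD1_c0 LD2_c42 LD3_c47)) :=
  Lgr Lrot1 (Lpr_at (K0.f13480 IH) (Lpr_ct (K0.f13483 IH) (Lpr_at (f13492 IH) (Lpn (LP (LK LD1_c0 LD2_c42 LD3_c47))))))
theorem f13499 : Led Lsl_ft (LP (LK LD1_c0 LD2_c42 LD3_c47)) = (LP (LK LD1_c0 LD2_c45 LD3_c10)) :=
  Lgr Lrot4 (Lpr_cf (f13493 IH) (Lpe (K0.f13481 IH) (Lpr_cf (K0.f9746 IH) (Lpn (LP (LK LD1_c0 LD2_c45 LD3_c10))))))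
theorem f25124 : Led Lsl_et (LP (LK LD1_c0 LD2_c41 LD3_c17)) = (LP (LK LD1_c1 LD2_c29 LD3_c19)) :=
  Lre_e IH (LK LD1_c0 LD2_c41 LD3_c17) (LK LD1_c1 LD2_c29 LD3_c19) Lrfl Lrfl
theorem f67484 : Led Lsl_ft (LP (LK LD1_c12 LD2_c26 LD3_c60)) = (LP (LK LD1_c6 LD2_c27 LD3_c48)) :=
  Lre_f IH (LK LD1_c12 LD2_c26 LD3_c60) (LK LD1_c6 LD2_c27 LD3_c48) Lrfl Lrfl
theorem f67485 : Led Lsl_af (LP (LK LD1_c6 LD2_c18 LD3_c54)) = (LP (LK LD1_c6 LD2_c27 LD3_c48)) :=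
  Lgr Lrot45 (Lpr_ft (f67483 IH) (Lpr_at (f67475 IH) (Lpr_ft (f67484 IH) (Lpn (LP (LK LD1_c6 LD2_c27 LD3_c48))))))
theorem f67487 : Led Lsl_at (LP (LK LD1_c6 LD2_c18 LD3_c54)) = (LP (LK LD1_c6 LD2_c27 LD3_c48)) :=
  Lgr Lrot100 (Lpr_af (f67485 IH) (Lpn (LP (LK LD1_c6 LD2_c27 LD3_c48))))
theorem f67495 : Led Lsl_dt (LP (LK LD1_c3 LD2_c6 LD3_c46)) = (LP (LK LD1_c6 LD2_c18 LD3_c54)) :=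
  Lre_d IH (LK LD1_c3 LD2_c6 LD3_c46) (LK LD1_c6 LD2_c18 LD3_c54) Lrfl Lrfl
theorem f67410 : Led Lsl_dt (LP (LK LD1_c6 LD2_c27 LD3_c48)) = (LP (LK LD1_c3 LD2_c11 LD3_c45)) :=
  Lre_d IH (LK LD1_c6 LD2_c27 LD3_c48) (LK LD1_c3 LD2_c11 LD3_c45) Lrfl Lrfl
theorem f67496 : Led Lsl_af (LP (LK LD1_c3 LD2_c6 LD3_c46)) = (LP (LK LD1_c3 LD2_c11 LD3_c45)) :=
  Lgr Lrot117 (Lpr_dt (f67495 IH) (Lpr_at (f67487 IH) (Lpr_dt (f67410 IH) (Lpn (LP (LK LD1_c3 LD2_c11 LD3_c45))))))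
theorem f67509 : Led Lsl_et (LP (LK LD1_c3 LD2_c6 LD3_c46)) = (LP (LK LD1_c1 LD2_c29 LD3_c30)) :=
  Lre_e IH (LK LD1_c3 LD2_c6 LD3_c46) (LK LD1_c1 LD2_c29 LD3_c30) Lrfl Lrfl
theorem f67413 : Led Lsl_et (LP (LK LD1_c1 LD2_c32 LD3_c13)) = (LP (LK LD1_c3 LD2_c11 LD3_c45)) :=
  Lre_e IH (LK LD1_c1 LD2_c32 LD3_c13) (LK LD1_c3 LD2_c11 LD3_c45) Lrfl Lrfl
theorem f67510 : Led Lsl_at (LP (LK LD1_c1 LD2_c29 LD3_c30)) = (LP (LK LD1_c1 LD2_c32 LD3_c13)) :=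
  Lgr Lrot80 (Lpe (f67509 IH) (Lpr_af (f67496 IH) (Lpe (f67413 IH) (Lpn (LP (LK LD1_c1 LD2_c32 LD3_c13))))))
theorem f67520 : Led Lsl_ff (LP (LK LD1_c1 LD2_c29 LD3_c30)) = (LP (LK LD1_c1 LD2_c32 LD3_c18)) :=
  Lgr Lrot103 (Lpr_at (f67510 IH) (Lpe (f25819 IH) (Lpe (f25816 IH) (Lpe (f67395 IH) (Lpe (K0.f7326 IH) (Lpr_cf (f67384 IH) (Lpe (f25842 IH) (Lpe (f25817 IH) (Lpe (f67407 IH) (Lpn (LP (LK LD1_c1 LD2_c32 LD3_c18))))))))))))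
theorem f67525 : Led Lsl_ft (LP (LK LD1_c1 LD2_c29 LD3_c30)) = (LP (LK LD1_c1 LD2_c32 LD3_c18)) :=
  Lgr Lrot48 (Lpr_ff (f67520 IH) (Lpn (LP (LK LD1_c1 LD2_c32 LD3_c18))))
theorem f67515 : Led Lsl_bt (LP (LK LD1_c3 LD2_c6 LD3_c48)) = (LP (LK LD1_c1 LD2_c29 LD3_c30)) :=
  Lre_b IH (LK LD1_c3 LD2_c6 LD3_c48) (LK LD1_c1 LD2_c29 LD3_c30) Lrfl Lrfl
theorem f67403 : Led Lsl_bt (LP (LK LD1_c1 LD2_c32 LD3_c18)) = (LP (LK LD1_c3 LD2_c11 LD3_c53)) :=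
  Lre_b IH (LK LD1_c1 LD2_c32 LD3_c18) (LK LD1_c3 LD2_c11 LD3_c53) Lrfl Lrfl
theorem f67527 : Led Lsl_ff (LP (LK LD1_c3 LD2_c6 LD3_c48)) = (LP (LK LD1_c3 LD2_c11 LD3_c53)) :=
  Lgr Lrot25 (Lpr_bt (f67515 IH) (Lpr_ft (f67525 IH) (Lpr_bt (f67403 IH) (Lpn (LP (LK LD1_c3 LD2_c11 LD3_c53))))))
theorem f67533 : Led Lsl_ct (LP (LK LD1_c3 LD2_c6 LD3_c48)) = (LP (LK LD1_c6 LD2_c18 LD3_c47)) :=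
  Lre_c IH (LK LD1_c3 LD2_c6 LD3_c48) (LK LD1_c6 LD2_c18 LD3_c47) Lrfl Lrfl
theorem f67534 : Led Lsl_ct (LP (LK LD1_c6 LD2_c27 LD3_c57)) = (LP (LK LD1_c3 LD2_c11 LD3_c53)) :=
  Lre_c IH (LK LD1_c6 LD2_c27 LD3_c57) (LK LD1_c3 LD2_c11 LD3_c53) Lrfl Lrfl
theorem f67535 : Led Lsl_ft (LP (LK LD1_c6 LD2_c18 LD3_c47)) = (LP (LK LD1_c6 LD2_c27 LD3_c57)) :=
  Lgr Lrot4 (Lpe (f67533 IH) (Lpr_ff (f67527 IH) (Lpe (f67534 IH) (Lpn (LP (LK LD1_c6 LD2_c27 LD3_c57))))))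
theorem f67569 : Led Lsl_ff (LP (LK LD1_c6 LD2_c18 LD3_c47)) = (LP (LK LD1_c6 LD2_c27 LD3_c57)) :=
  Lgr Lrot3 (Lpr_ft (f67535 IH) (Lpn (LP (LK LD1_c6 LD2_c27 LD3_c57))))
theorem f67574 : Led Lsl_dt (LP (LK LD1_c6 LD2_c18 LD3_c47)) = (LP (LK LD1_c12 LD2_c13 LD3_c26)) :=
  Lre_d IH (LK LD1_c6 LD2_c18 LD3_c47) (LK LD1_c12 LD2_c13 LD3_c26) Lrfl Lrfl
theorem f67594 : Led Lsl_dt (LP (LK LD1_c12 LD2_c27 LD3_c14)) = (LP (LK LD1_c6 LD2_c27 LD3_c57)) :=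
  Lre_d IH (LK LD1_c12 LD2_c27 LD3_c14) (LK LD1_c6 LD2_c27 LD3_c57) Lrfl Lrfl
theorem f67595 : Led Lsl_ft (LP (LK LD1_c12 LD2_c13 LD3_c26)) = (LP (LK LD1_c12 LD2_c27 LD3_c14)) :=
  Lgr Lrot54 (Lpe (f67574 IH) (Lpr_ff (f67569 IH) (Lpe (f67594 IH) (Lpn (LP (LK LD1_c12 LD2_c27 LD3_c14))))))
theorem f67612 : Led Lsl_bt (LP (LK LD1_c6 LD2_c18 LD3_c48)) = (LP (LK LD1_c12 LD2_c13 LD3_c26)) :=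
  Lre_b IH (LK LD1_c6 LD2_c18 LD3_c48) (LK LD1_c12 LD2_c13 LD3_c26) Lrfl Lrfl
theorem f67613 : Led Lsl_bt (LP (LK LD1_c12 LD2_c27 LD3_c14)) = (LP (LK LD1_c6 LD2_c27 LD3_c58)) :=
  Lre_b IH (LK LD1_c12 LD2_c27 LD3_c14) (LK LD1_c6 LD2_c27 LD3_c58) Lrfl Lrfl
theorem f67614 : Led Lsl_ff (LP (LK LD1_c6 LD2_c18 LD3_c48)) = (LP (LK LD1_c6 LD2_c27 LD3_c58)) :=
  Lgr Lrot25 (Lpr_bt (f67612 IH) (Lpr_ft (f67595 IH) (Lpr_bt (f67613 IH) (Lpn (LP (LK LD1_c6 LD2_c27 LD3_c58))))))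
theorem f67624 : Led Lsl_at (LP (LK LD1_c6 LD2_c18 LD3_c48)) = (LP (LK LD1_c12 LD2_c12 LD3_c43)) :=
  Lre_a IH (LK LD1_c6 LD2_c18 LD3_c48) (LK LD1_c12 LD2_c12 LD3_c43) Lrfl Lrfl
theorem f67634 : Led Lsl_dt (LP (LK LD1_c6 LD2_c27 LD3_c58)) = (LP (LK LD1_c3 LD2_c11 LD3_c52)) :=
  Lre_d IH (LK LD1_c6 LD2_c27 LD3_c58) (LK LD1_c3 LD2_c11 LD3_c52) Lrfl Lrfl
theorem f67635 : Led Lsl_ct (LP (LK LD1_c3 LD2_c11 LD3_c52)) = (LP (LK LD1_c1 LD2_c32 LD3_c17)) :=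
  Lre_c IH (LK LD1_c3 LD2_c11 LD3_c52) (LK LD1_c1 LD2_c32 LD3_c17) Lrfl Lrfl
theorem f67636 : Led Lsl_dt (LP (LK LD1_c1 LD2_c32 LD3_c17)) = (LP (LK LD1_c0 LD2_c42 LD3_c41)) :=
  Lre_d IH (LK LD1_c1 LD2_c32 LD3_c17) (LK LD1_c0 LD2_c42 LD3_c41) Lrfl Lrfl
theorem f67355 : Led Lsl_bt (LP (LK LD1_c0 LD2_c18 LD3_c61)) = (LP (LK LD1_c0 LD2_c42 LD3_c41)) :=
  Lre_b IH (LK LD1_c0 LD2_c18 LD3_c61) (LK LD1_c0 LD2_c42 LD3_c41) Lrfl Lrfl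
theorem f67356 : Led Lsl_bt (LP (LK LD1_c0 LD2_c42 LD3_c41)) = (LP (LK LD1_c0 LD2_c18 LD3_c61)) :=
  Lre_b IH (LK LD1_c0 LD2_c42 LD3_c41) (LK LD1_c0 LD2_c18 LD3_c61) Lrfl Lrfl
theorem f67357 : Led Lsl_ct (LP (LK LD1_c0 LD2_c42 LD3_c41)) = (LP (LK LD1_c0 LD2_c42 LD3_c41)) :=
  Lgr Lrot83 (Lpe (f67355 IH) (Lpe (f67155 IH) (Lpr_bf (K0.f9713 IH) (Lpr_cf (K1.f67157 IH) (Lpe (f67356 IH) (Lpn (LP (LK LD1_c0 LD2_c42 LD3_c41))))))))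
theorem f67637 : Led Lsl_dt (LP (LK LD1_c0 LD2_c42 LD3_c41)) = (LP (LK LD1_c1 LD2_c32 LD3_c17)) :=
  Lre_d IH (LK LD1_c0 LD2_c42 LD3_c41) (LK LD1_c1 LD2_c32 LD3_c17) Lrfl Lrfl
theorem f67638 : Led Lsl_ct (LP (LK LD1_c1 LD2_c32 LD3_c17)) = (LP (LK LD1_c3 LD2_c11 LD3_c52)) :=
  Lre_c IH (LK LD1_c1 LD2_c32 LD3_c17) (LK LD1_c3 LD2_c11 LD3_c52) Lrfl Lrfl
theorem f67625 : Led Lsl_dt (LP (LK LD1_c3 LD2_c11 LD3_c52)) = (LP (LK LD1_c6 LD2_c27 LD3_c58)) :=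
  Lre_d IH (LK LD1_c3 LD2_c11 LD3_c52) (LK LD1_c6 LD2_c27 LD3_c58) Lrfl Lrfl
theorem f67639 : Led Lsl_cf (LP (LK LD1_c12 LD2_c12 LD3_c43)) = (LP (LK LD1_c6 LD2_c27 LD3_c58)) :=
  Lgr Lrot102 (Lpe (f67624 IH) (Lpr_ff (f67614 IH) (Lpr_dt (f67634 IH) (Lpr_ct (f67635 IH) (Lpr_dt (f67636 IH) (Lpr_ct (f67357 IH) (Lpr_dt (f67637 IH) (Lpr_ct (f67638 IH) (Lpr_dt (f67625 IH) (Lpn (LP (LK LD1_c6 LD2_c27 LD3_c58))))))))))))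
theorem f25131 : Led Lsl_dt (LP (LK LD1_c12 LD2_c12 LD3_c43)) = (LP (LK LD1_c6 LD2_c18 LD3_c20)) :=
  Lre_d IH (LK LD1_c12 LD2_c12 LD3_c43) (LK LD1_c6 LD2_c18 LD3_c20) Lrfl Lrfl
theorem f25130 : Led Lsl_ct (LP (LK LD1_c6 LD2_c18 LD3_c20)) = (LP (LK LD1_c3 LD2_c6 LD3_c25)) :=
  Lre_c IH (LK LD1_c6 LD2_c18 LD3_c20) (LK LD1_c3 LD2_c6 LD3_c25) Lrfl Lrfl
theorem f67653 : Led Lsl_at (LP (LK LD1_c1 LD2_c29 LD3_c25)) = (LP (LK LD1_c3 LD2_c6 LD3_c25)) :=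
  Lre_a IH (LK LD1_c1 LD2_c29 LD3_c25) (LK LD1_c3 LD2_c6 LD3_c25) Lrfl Lrfl
theorem f67654 : Led Lsl_ff (LP (LK LD1_c1 LD2_c29 LD3_c25)) = (LP (LK LD1_c1 LD2_c32 LD3_c17)) :=
  Lgr Lrot103 (Lpr_at (f67653 IH) (Lpe (f25130 IH) (Lpe (f25131 IH) (Lpr_cf (f67639 IH) (Lpe (f67625 IH) (Lpe (f67638 IH) (Lpe (f67637 IH) (Lpe (f67357 IH) (Lpe (f67636 IH) (Lpn (LP (LK LD1_c1 LD2_c32 LD3_c17))))))))))))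
theorem f67666 : Led Lsl_ft (LP (LK LD1_c1 LD2_c29 LD3_c25)) = (LP (LK LD1_c1 LD2_c32 LD3_c17)) :=
  Lgr Lrot48 (Lpr_ff (f67654 IH) (Lpn (LP (LK LD1_c1 LD2_c32 LD3_c17))))
theorem f25078 : Led Lsl_dt (LP (LK LD1_c1 LD2_c29 LD3_c25)) = (LP (LK LD1_c0 LD2_c41 LD3_c19)) :=
  Lre_d IH (LK LD1_c1 LD2_c29 LD3_c25) (LK LD1_c0 LD2_c41 LD3_c19) Lrfl Lrfl
theorem f25082 : Led Lsl_dt (LP (LK LD1_c0 LD2_c41 LD3_c19)) = (LP (LK LD1_c1 LD2_c29 LD3_c25)) :=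
  Lre_d IH (LK LD1_c0 LD2_c41 LD3_c19) (LK LD1_c1 LD2_c29 LD3_c25) Lrfl Lrfl
theorem f25083 : Led Lsl_ct (LP (LK LD1_c1 LD2_c29 LD3_c25)) = (LP (LK LD1_c3 LD2_c6 LD3_c38)) :=
  Lre_c IH (LK LD1_c1 LD2_c29 LD3_c25) (LK LD1_c3 LD2_c6 LD3_c38) Lrfl Lrfl
theorem f25084 : Led Lsl_dt (LP (LK LD1_c3 LD2_c6 LD3_c38)) = (LP (LK LD1_c6 LD2_c18 LD3_c48)) :=
  Lre_d IH (LK LD1_c3 LD2_c6 LD3_c38) (LK LD1_c6 LD2_c18 LD3_c48) Lrfl Lrfl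
theorem f25085 : Led Lsl_ct (LP (LK LD1_c6 LD2_c18 LD3_c48)) = (LP (LK LD1_c12 LD2_c13 LD3_c29)) :=
  Lre_c IH (LK LD1_c6 LD2_c18 LD3_c48) (LK LD1_c12 LD2_c13 LD3_c29) Lrfl Lrfl
theorem f67684 : Led Lsl_at (LP (LK LD1_c1 LD2_c32 LD3_c17)) = (LP (LK LD1_c3 LD2_c11 LD3_c49)) :=
  Lre_a IH (LK LD1_c1 LD2_c32 LD3_c17) (LK LD1_c3 LD2_c11 LD3_c49) Lrfl Lrfl
theorem f67694 : Led Lsl_ct (LP (LK LD1_c6 LD2_c27 LD3_c50)) = (LP (LK LD1_c3 LD2_c11 LD3_c49)) :=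
  Lre_c IH (LK LD1_c6 LD2_c27 LD3_c50) (LK LD1_c3 LD2_c11 LD3_c49) Lrfl Lrfl
theorem f67695 : Led Lsl_dt (LP (LK LD1_c12 LD2_c13 LD3_c29)) = (LP (LK LD1_c6 LD2_c27 LD3_c50)) :=
  Lgr Lrot120 (Lpe (f25085 IH) (Lpe (f25084 IH) (Lpe (f25083 IH) (Lpe (f25082 IH) (Lpe (f25067 IH) (Lpe (f25078 IH) (Lpr_ft (f67666 IH) (Lpr_at (f67684 IH) (Lpe (f67694 IH) (Lpn (LP (LK LD1_c6 LD2_c27 LD3_c50))))))))))))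
theorem f67705 : Led Lsl_df (LP (LK LD1_c12 LD2_c13 LD3_c29)) = (LP (LK LD1_c6 LD2_c27 LD3_c50)) :=
  Lgr Lrot38 (Lpr_dt (f67695 IH) (Lpn (LP (LK LD1_c6 LD2_c27 LD3_c50))))
theorem f25081 : Led Lsl_ct (LP (LK LD1_c12 LD2_c13 LD3_c29)) = (LP (LK LD1_c6 LD2_c18 LD3_c48)) :=
  Lre_c IH (LK LD1_c12 LD2_c13 LD3_c29) (LK LD1_c6 LD2_c18 LD3_c48) Lrfl Lrfl
theorem f25080 : Led Lsl_dt (LP (LK LD1_c6 LD2_c18 LD3_c48)) = (LP (LK LD1_c3 LD2_c6 LD3_c38)) :=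
  Lre_d IH (LK LD1_c6 LD2_c18 LD3_c48) (LK LD1_c3 LD2_c6 LD3_c38) Lrfl Lrfl
theorem f25079 : Led Lsl_ct (LP (LK LD1_c3 LD2_c6 LD3_c38)) = (LP (LK LD1_c1 LD2_c29 LD3_c25)) :=
  Lre_c IH (LK LD1_c3 LD2_c6 LD3_c38) (LK LD1_c1 LD2_c29 LD3_c25) Lrfl Lrfl
theorem f25074 : Led Lsl_at (LP (LK LD1_c1 LD2_c29 LD3_c19)) = (LP (LK LD1_c0 LD2_c41 LD3_c19)) :=
  Lre_a IH (LK LD1_c1 LD2_c29 LD3_c19) (LK LD1_c0 LD2_c41 LD3_c19) Lrfl Lrfl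
theorem f67711 : Led Lsl_ct (LP (LK LD1_c3 LD2_c11 LD3_c49)) = (LP (LK LD1_c6 LD2_c27 LD3_c50)) :=
  Lre_c IH (LK LD1_c3 LD2_c11 LD3_c49) (LK LD1_c6 LD2_c27 LD3_c50) Lrfl Lrfl
theorem f67712 : Led Lsl_dt (LP (LK LD1_c1 LD2_c32 LD3_c16)) = (LP (LK LD1_c3 LD2_c11 LD3_c49)) :=
  Lre_d IH (LK LD1_c1 LD2_c32 LD3_c16) (LK LD1_c3 LD2_c11 LD3_c49) Lrfl Lrfl
theorem f67886 : Led Lsl_ff (LP (LK LD1_c1 LD2_c29 LD3_c19)) = (LP (LK LD1_c1 LD2_c32 LD3_c16)) :=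
  Lgr Lrot103 (Lpr_at (f25074 IH) (Lpe (f25067 IH) (Lpe (f25078 IH) (Lpe (f25079 IH) (Lpe (f25080 IH) (Lpe (f25081 IH) (Lpr_df (f67705 IH) (Lpe (f67711 IH) (Lpe (f67712 IH) (Lpn (LP (LK LD1_c1 LD2_c32 LD3_c16))))))))))))
theorem f25075 : Led Lsl_at (LP (LK LD1_c0 LD2_c41 LD3_c19)) = (LP (LK LD1_c1 LD2_c29 LD3_c19)) :=
  Lre_a IH (LK LD1_c0 LD2_c41 LD3_c19) (LK LD1_c1 LD2_c29 LD3_c19) Lrfl Lrfl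
theorem f25076 : Led Lsl_cf (LP (LK LD1_c1 LD2_c29 LD3_c19)) = (LP (LK LD1_c1 LD2_c29 LD3_c19)) :=
  Lgr Lrot1 (Lpr_at (f25074 IH) (Lpr_ct (f25067 IH) (Lpr_at (f25075 IH) (Lpn (LP (LK LD1_c1 LD2_c29 LD3_c19))))))
theorem f67588 : Led Lsl_bt (LP (LK LD1_c6 LD2_c18 LD3_c47)) = (LP (LK LD1_c3 LD2_c6 LD3_c38)) :=
  Lre_b IH (LK LD1_c6 LD2_c18 LD3_c47) (LK LD1_c3 LD2_c6 LD3_c38) Lrfl Lrfl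
theorem f67589 : Led Lsl_bt (LP (LK LD1_c3 LD2_c11 LD3_c52)) = (LP (LK LD1_c6 LD2_c27 LD3_c57)) :=
  Lre_b IH (LK LD1_c3 LD2_c11 LD3_c52) (LK LD1_c6 LD2_c27 LD3_c57) Lrfl Lrfl
theorem f67590 : Led Lsl_ft (LP (LK LD1_c3 LD2_c6 LD3_c38)) = (LP (LK LD1_c3 LD2_c11 LD3_c52)) :=
  Lgr Lrot75 (Lpe (f67588 IH) (Lpr_ff (f67569 IH) (Lpe (f67589 IH) (Lpn (LP (LK LD1_c3 LD2_c11 LD3_c52))))))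
theorem f67710 : Led Lsl_at (LP (LK LD1_c3 LD2_c11 LD3_c52)) = (LP (LK LD1_c6 LD2_c27 LD3_c50)) :=
  Lre_a IH (LK LD1_c3 LD2_c11 LD3_c52) (LK LD1_c6 LD2_c27 LD3_c50) Lrfl Lrfl
theorem f67704 : Led Lsl_dt (LP (LK LD1_c3 LD2_c11 LD3_c49)) = (LP (LK LD1_c1 LD2_c32 LD3_c16)) :=
  Lre_d IH (LK LD1_c3 LD2_c11 LD3_c49) (LK LD1_c1 LD2_c32 LD3_c16) Lrfl Lrfl
theorem f67713 : Led Lsl_cf (LP (LK LD1_c1 LD2_c32 LD3_c16)) = (LP (LK LD1_c1 LD2_c32 LD3_c16)) :=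
  Lgr Lrot161 (Lpr_dt (f67712 IH) (Lpr_ct (f67711 IH) (Lpe (f67710 IH) (Lpe (f67590 IH) (Lpr_dt (f25084 IH) (Lpr_ct (f25085 IH) (Lpr_dt (f67695 IH) (Lpr_ct (f67694 IH) (Lpr_dt (f67704 IH) (Lpn (LP (LK LD1_c1 LD2_c32 LD3_c16))))))))))))
theorem f67888 : Led Lsl_ft (LP (LK LD1_c1 LD2_c29 LD3_c19)) = (LP (LK LD1_c1 LD2_c32 LD3_c16)) :=
  Lgr Lrot4 (Lpr_cf (f25076 IH) (Lpr_ff (f67886 IH) (Lpr_cf (f67713 IH) (Lpn (LP (LK LD1_c1 LD2_c32 LD3_c16))))))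
theorem f76726 : Led Lsl_ef (LP (LK LD1_c0 LD2_c42 LD3_c47)) = (LP (LK LD1_c1 LD2_c32 LD3_c16)) :=
  Lgr Lrot21 (Lpr_ft (f13499 IH) (Lpr_et (f76717 IH) (Lpe (f76703 IH) (Lpr_et (f25124 IH) (Lpr_ft (f67888 IH) (Lpn (LP (LK LD1_c1 LD2_c32 LD3_c16))))))))
theorem f67715 : Led Lsl_at (LP (LK LD1_c0 LD2_c42 LD3_c41)) = (LP (LK LD1_c1 LD2_c32 LD3_c16)) :=
  Lre_a IH (LK LD1_c0 LD2_c42 LD3_c41) (LK LD1_c1 LD2_c32 LD3_c16) Lrfl Lrfl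
theorem f76728 : Led Lsl_et (LP (LK LD1_c0 LD2_c19 LD3_c2)) = (LP (LK LD1_c0 LD2_c42 LD3_c41)) :=
  Lgr Lrot123 (Lpe (K0.f13480 IH) (Lpr_ef (f76726 IH) (Lpe (f67715 IH) (Lpn (LP (LK LD1_c0 LD2_c42 LD3_c41))))))
theorem f58920 : Led Lsl_df (LP (LK LD1_c0 LD2_c19 LD3_c2)) = (LP (LK LD1_c0 LD2_c41 LD3_c44)) :=
  Lgr Lrot12 (Lpr_bt (K0.f13466 IH) (Lpr_dt (K1.f58912 IH) (Lpr_bt (f58917 IH) (Lpn (LP (LK LD1_c0 LD2_c41 LD3_c44))))))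
theorem f77101 : Led Lsl_et (LP (LK LD1_c1 LD2_c30 LD3_c22)) = (LP (LK LD1_c0 LD2_c41 LD3_c44)) :=
  Lre_e IH (LK LD1_c1 LD2_c30 LD3_c22) (LK LD1_c0 LD2_c41 LD3_c44) Lrfl Lrfl
theorem f77102 : Led Lsl_dt (LP (LK LD1_c3 LD2_c8 LD3_c18)) = (LP (LK LD1_c1 LD2_c30 LD3_c22)) :=
  Lre_d IH (LK LD1_c3 LD2_c8 LD3_c18) (LK LD1_c1 LD2_c30 LD3_c22) Lrfl Lrfl
theorem f77103 : Led Lsl_ef (LP (LK LD1_c3 LD2_c8 LD3_c18)) = (LP (LK LD1_c1 LD2_c32 LD3_c17)) :=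
  Lgr Lrot73 (Lpr_dt (f77102 IH) (Lpr_et (f77101 IH) (Lpe (f58920 IH) (Lpr_et (f76728 IH) (Lpr_dt (f67637 IH) (Lpn (LP (LK LD1_c1 LD2_c32 LD3_c17))))))))
theorem f77116 : Led Lsl_ft (LP (LK LD1_c3 LD2_c8 LD3_c18)) = (LP (LK LD1_c6 LD2_c21 LD3_c17)) :=
  Lre_f IH (LK LD1_c3 LD2_c8 LD3_c18) (LK LD1_c6 LD2_c21 LD3_c17) Lrfl Lrfl
theorem f67689 : Led Lsl_et (LP (LK LD1_c3 LD2_c6 LD3_c32)) = (LP (LK LD1_c1 LD2_c29 LD3_c25)) :=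
  Lre_e IH (LK LD1_c3 LD2_c6 LD3_c32) (LK LD1_c1 LD2_c29 LD3_c25) Lrfl Lrfl
theorem f67690 : Led Lsl_ft (LP (LK LD1_c6 LD2_c18 LD3_c40)) = (LP (LK LD1_c3 LD2_c6 LD3_c32)) :=
  Lre_f IH (LK LD1_c6 LD2_c18 LD3_c40) (LK LD1_c3 LD2_c6 LD3_c32) Lrfl Lrfl
theorem f77117 : Led Lsl_et (LP (LK LD1_c6 LD2_c21 LD3_c17)) = (LP (LK LD1_c6 LD2_c18 LD3_c40)) :=
  Lgr Lrot69 (Lpe (f77116 IH) (Lpr_ef (f77103 IH) (Lpe (f67666 IH) (Lpe (f67689 IH) (Lpe (f67690 IH) (Lpn (LP (LK LD1_c6 LD2_c18 LD3_c40))))))))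
theorem f77129 : Led Lsl_ef (LP (LK LD1_c6 LD2_c21 LD3_c17)) = (LP (LK LD1_c6 LD2_c18 LD3_c40)) :=
  Lgr Lrot88 (Lpr_et (f77117 IH) (Lpn (LP (LK LD1_c6 LD2_c18 LD3_c40))))
theorem f77131 : Led Lsl_dt (LP (LK LD1_c6 LD2_c21 LD3_c17)) = (LP (LK LD1_c3 LD2_c8 LD3_c19)) :=
  Lre_d IH (LK LD1_c6 LD2_c21 LD3_c17) (LK LD1_c3 LD2_c8 LD3_c19) Lrfl Lrfl
theorem f76634 : Led Lsl_dt (LP (LK LD1_c3 LD2_c6 LD3_c33)) = (LP (LK LD1_c6 LD2_c18 LD3_c40)) :=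
  Lre_d IH (LK LD1_c3 LD2_c6 LD3_c33) (LK LD1_c6 LD2_c18 LD3_c40) Lrfl Lrfl
theorem f68289 : Led Lsl_bt (LP (LK LD1_c3 LD2_c6 LD3_c33)) = (LP (LK LD1_c1 LD2_c29 LD3_c29)) :=
  Lre_b IH (LK LD1_c3 LD2_c6 LD3_c33) (LK LD1_c1 LD2_c29 LD3_c29) Lrfl Lrfl
theorem f68291 : Led Lsl_et (LP (LK LD1_c3 LD2_c12 LD3_c41)) = (LP (LK LD1_c3 LD2_c6 LD3_c33)) :=
  Lgr Lrot74 (Lpe (f61482 IH) (Lpr_ef (f68284 IH) (Lpe (f68289 IH) (Lpn (LP (LK LD1_c3 LD2_c6 LD3_c33))))))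
theorem f13501 : Led Lsl_ft (LP (LK LD1_c0 LD2_c20 LD3_c16)) = (LP (LK LD1_c0 LD2_c45 LD3_c21)) :=
  Lre_f IH (LK LD1_c0 LD2_c20 LD3_c16) (LK LD1_c0 LD2_c45 LD3_c21) Lrfl Lrfl
theorem f13502 : Led Lsl_bf (LP (LK LD1_c0 LD2_c42 LD3_c47)) = (LP (LK LD1_c0 LD2_c45 LD3_c21)) :=
  Lgr Lrot61 (Lpr_ft (f13499 IH) (Lpr_bt (K0.f9757 IH) (Lpr_ft (f13501 IH) (Lpn (LP (LK LD1_c0 LD2_c45 LD3_c21))))))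
theorem f13510 : Led Lsl_bt (LP (LK LD1_c0 LD2_c42 LD3_c47)) = (LP (LK LD1_c0 LD2_c45 LD3_c21)) :=
  Lgr Lrot127 (Lpr_bf (f13502 IH) (Lpn (LP (LK LD1_c0 LD2_c45 LD3_c21))))
theorem f13517 : Led Lsl_et (LP (LK LD1_c0 LD2_c45 LD3_c21)) = (LP (LK LD1_c1 LD2_c37 LD3_c49)) :=
  Lre_e IH (LK LD1_c0 LD2_c45 LD3_c21) (LK LD1_c1 LD2_c37 LD3_c49) Lrfl Lrfl
theorem f76730 : Led Lsl_bt (LP (LK LD1_c1 LD2_c37 LD3_c49)) = (LP (LK LD1_c1 LD2_c32 LD3_c16)) :=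
  Lgr Lrot119 (Lpe (f13517 IH) (Lpe (f13510 IH) (Lpr_ef (f76726 IH) (Lpn (LP (LK LD1_c1 LD2_c32 LD3_c16))))))
theorem f67095 : Led Lsl_bt (LP (LK LD1_c1 LD2_c29 LD3_c25)) = (LP (LK LD1_c0 LD2_c41 LD3_c21)) :=
  Lre_b IH (LK LD1_c1 LD2_c29 LD3_c25) (LK LD1_c0 LD2_c41 LD3_c21) Lrfl Lrfl
theorem f67423 : Led Lsl_at (LP (LK LD1_c3 LD2_c6 LD3_c25)) = (LP (LK LD1_c1 LD2_c29 LD3_c25)) :=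
  Lre_a IH (LK LD1_c3 LD2_c6 LD3_c25) (LK LD1_c1 LD2_c29 LD3_c25) Lrfl Lrfl
theorem f67421 : Led Lsl_bt (LP (LK LD1_c0 LD2_c42 LD3_c40)) = (LP (LK LD1_c1 LD2_c32 LD3_c12)) :=
  Lre_b IH (LK LD1_c0 LD2_c42 LD3_c40) (LK LD1_c1 LD2_c32 LD3_c12) Lrfl Lrfl
theorem f67424 : Led Lsl_at (LP (LK LD1_c1 LD2_c32 LD3_c12)) = (LP (LK LD1_c3 LD2_c11 LD3_c39)) :=
  Lre_a IH (LK LD1_c1 LD2_c32 LD3_c12) (LK LD1_c3 LD2_c11 LD3_c39) Lrfl Lrfl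
theorem f67425 : Led Lsl_bf (LP (LK LD1_c3 LD2_c6 LD3_c25)) = (LP (LK LD1_c3 LD2_c11 LD3_c39)) :=
  Lgr Lrot81 (Lpr_at (f67423 IH) (Lpr_bt (f67095 IH) (Lpr_at (f67419 IH) (Lpr_bt (f67421 IH) (Lpr_at (f67424 IH) (Lpn (LP (LK LD1_c3 LD2_c11 LD3_c39))))))))
theorem f25129 : Led Lsl_dt (LP (LK LD1_c3 LD2_c6 LD3_c25)) = (LP (LK LD1_c1 LD2_c29 LD3_c19)) :=
  Lre_d IH (LK LD1_c3 LD2_c6 LD3_c25) (LK LD1_c1 LD2_c29 LD3_c19) Lrfl Lrfl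
theorem f68069 : Led Lsl_dt (LP (LK LD1_c1 LD2_c32 LD3_c11)) = (LP (LK LD1_c3 LD2_c11 LD3_c39)) :=
  Lre_d IH (LK LD1_c1 LD2_c32 LD3_c11) (LK LD1_c3 LD2_c11 LD3_c39) Lrfl Lrfl
theorem f68070 : Led Lsl_bt (LP (LK LD1_c1 LD2_c29 LD3_c19)) = (LP (LK LD1_c1 LD2_c32 LD3_c11)) :=
  Lgr Lrot95 (Lpe (f25129 IH) (Lpr_bf (f67425 IH) (Lpe (f68069 IH) (Lpn (LP (LK LD1_c1 LD2_c32 LD3_c11))))))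
theorem f76739 : Led Lsl_ff (LP (LK LD1_c1 LD2_c37 LD3_c49)) = (LP (LK LD1_c1 LD2_c32 LD3_c11)) :=
  Lgr Lrot25 (Lpr_bt (f76730 IH) (Lpe (f67886 IH) (Lpr_bt (f68070 IH) (Lpn (LP (LK LD1_c1 LD2_c32 LD3_c11))))))
theorem f13512 : Led Lsl_et (LP (LK LD1_c1 LD2_c37 LD3_c49)) = (LP (LK LD1_c0 LD2_c45 LD3_c21)) :=
  Lre_e IH (LK LD1_c1 LD2_c37 LD3_c49) (LK LD1_c0 LD2_c45 LD3_c21) Lrfl Lrfl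
theorem f13518 : Led Lsl_ft (LP (LK LD1_c0 LD2_c45 LD3_c21)) = (LP (LK LD1_c0 LD2_c20 LD3_c16)) :=
  Lre_f IH (LK LD1_c0 LD2_c45 LD3_c21) (LK LD1_c0 LD2_c20 LD3_c16) Lrfl Lrfl
theorem f17655 : Led Lsl_at (LP (LK LD1_c0 LD2_c47 LD3_c52)) = (LP (LK LD1_c0 LD2_c21 LD3_c26)) :=
  Lre_a IH (LK LD1_c0 LD2_c47 LD3_c52) (LK LD1_c0 LD2_c21 LD3_c26) Lrfl Lrfl
theorem f66817 : Led Lsl_ft (LP (LK LD1_c0 LD2_c41 LD3_c24)) = (LP (LK LD1_c0 LD2_c47 LD3_c52)) :=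
  Lgr Lrot101 (Lpe (K1.f66816 IH) (Lpr_ff (K1.f66806 IH) (Lpe (f17655 IH) (Lpn (LP (LK LD1_c0 LD2_c47 LD3_c52))))))
theorem f76741 : Led Lsl_et (LP (LK LD1_c0 LD2_c20 LD3_c16)) = (LP (LK LD1_c0 LD2_c41 LD3_c24)) :=
  Lgr Lrot69 (Lpe (f13518 IH) (Lpe (f13512 IH) (Lpr_ff (f76739 IH) (Lpe (f68156 IH) (Lpe (f66817 IH) (Lpn (LP (LK LD1_c0 LD2_c41 LD3_c24))))))))
theorem f76752 : Led Lsl_et (LP (LK LD1_c1 LD2_c37 LD3_c60)) = (LP (LK LD1_c0 LD2_c45 LD3_c26)) :=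
  Lre_e IH (LK LD1_c1 LD2_c37 LD3_c60) (LK LD1_c0 LD2_c45 LD3_c26) Lrfl Lrfl
theorem f76753 : Led Lsl_df (LP (LK LD1_c1 LD2_c37 LD3_c60)) = (LP (LK LD1_c3 LD2_c6 LD3_c53)) :=
  Lgr Lrot70 (Lpr_et (f76752 IH) (Lpr_dt (K1.f9783 IH) (Lpr_et (f76741 IH) (Lpr_dt (K1.f66831 IH) (Lpr_et (K1.f66844 IH) (Lpn (LP (LK LD1_c3 LD2_c6 LD3_c53))))))))
theorem f76799 : Led Lsl_ft (LP (LK LD1_c1 LD2_c37 LD3_c60)) = (LP (LK LD1_c3 LD2_c23 LD3_c10)) :=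
  Lre_f IH (LK LD1_c1 LD2_c37 LD3_c60) (LK LD1_c3 LD2_c23 LD3_c10) Lrfl Lrfl
theorem f66895 : Led Lsl_ft (LP (LK LD1_c6 LD2_c19 LD3_c1)) = (LP (LK LD1_c3 LD2_c6 LD3_c53)) :=
  Lre_f IH (LK LD1_c6 LD2_c19 LD3_c1) (LK LD1_c3 LD2_c6 LD3_c53) Lrfl Lrfl
theorem f76800 : Led Lsl_dt (LP (LK LD1_c3 LD2_c23 LD3_c10)) = (LP (LK LD1_c6 LD2_c19 LD3_c1)) :=
  Lgr Lrot60 (Lpe (f76799 IH) (Lpr_df (f76753 IH) (Lpe (f66895 IH) (Lpn (LP (LK LD1_c6 LD2_c19 LD3_c1))))))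
theorem f76812 : Led Lsl_bt (LP (LK LD1_c6 LD2_c48 LD3_c60)) = (LP (LK LD1_c3 LD2_c23 LD3_c10)) :=
  Lre_b IH (LK LD1_c6 LD2_c48 LD3_c60) (LK LD1_c3 LD2_c23 LD3_c10) Lrfl Lrfl
theorem f76813 : Led Lsl_df (LP (LK LD1_c6 LD2_c48 LD3_c60)) = (LP (LK LD1_c6 LD2_c29 LD3_c20)) :=
  Lgr Lrot12 (Lpr_bt (f76812 IH) (Lpr_dt (f76800 IH) (Lpr_bt (f66986 IH) (Lpn (LP (LK LD1_c6 LD2_c29 LD3_c20))))))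
theorem f76893 : Led Lsl_at (LP (LK LD1_c6 LD2_c48 LD3_c60)) = (LP (LK LD1_c3 LD2_c22 LD3_c44)) :=
  Lre_a IH (LK LD1_c6 LD2_c48 LD3_c60) (LK LD1_c3 LD2_c22 LD3_c44) Lrfl Lrfl
theorem f76894 : Led Lsl_dt (LP (LK LD1_c3 LD2_c22 LD3_c44)) = (LP (LK LD1_c3 LD2_c12 LD3_c41)) :=
  Lgr Lrot44 (Lpe (f76893 IH) (Lpr_df (f76813 IH) (Lpe (f66973 IH) (Lpn (LP (LK LD1_c3 LD2_c12 LD3_c41))))))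
theorem f77136 : Led Lsl_et (LP (LK LD1_c3 LD2_c8 LD3_c19)) = (LP (LK LD1_c3 LD2_c22 LD3_c44)) :=
  Lgr Lrot71 (Lpe (f77131 IH) (Lpr_ef (f77129 IH) (Lpe (f76634 IH) (Lpe (f68291 IH) (Lpe (f76894 IH) (Lpn (LP (LK LD1_c3 LD2_c22 LD3_c44))))))))
theorem f77143 : Led Lsl_ft (LP (LK LD1_c1 LD2_c30 LD3_c22)) = (LP (LK LD1_c3 LD2_c8 LD3_c19)) :=
  Lre_f IH (LK LD1_c1 LD2_c30 LD3_c22) (LK LD1_c3 LD2_c8 LD3_c19) Lrfl Lrfl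
theorem f77144 : Led Lsl_et (LP (LK LD1_c0 LD2_c41 LD3_c44)) = (LP (LK LD1_c1 LD2_c30 LD3_c22)) :=
  Lre_e IH (LK LD1_c0 LD2_c41 LD3_c44) (LK LD1_c1 LD2_c30 LD3_c22) Lrfl Lrfl
theorem f76900 : Led Lsl_ft (LP (LK LD1_c3 LD2_c22 LD3_c44)) = (LP (LK LD1_c1 LD2_c37 LD3_c37)) :=
  Lre_f IH (LK LD1_c3 LD2_c22 LD3_c44) (LK LD1_c1 LD2_c37 LD3_c37) Lrfl Lrfl
theorem f76904 : Led Lsl_et (LP (LK LD1_c1 LD2_c37 LD3_c37)) = (LP (LK LD1_c0 LD2_c45 LD3_c11)) :=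
  Lre_e IH (LK LD1_c1 LD2_c37 LD3_c37) (LK LD1_c0 LD2_c45 LD3_c11) Lrfl Lrfl
theorem f77145 : Led Lsl_ff (LP (LK LD1_c0 LD2_c41 LD3_c44)) = (LP (LK LD1_c0 LD2_c45 LD3_c11)) :=
  Lgr Lrot72 (Lpr_et (f77144 IH) (Lpr_ft (f77143 IH) (Lpr_et (f77136 IH) (Lpr_ft (f76900 IH) (Lpr_et (f76904 IH) (Lpn (LP (LK LD1_c0 LD2_c45 LD3_c11))))))))
theorem f77154 : Led Lsl_ft (LP (LK LD1_c0 LD2_c41 LD3_c44)) = (LP (LK LD1_c0 LD2_c45 LD3_c11)) :=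
  Lgr Lrot48 (Lpr_ff (f77145 IH) (Lpn (LP (LK LD1_c0 LD2_c45 LD3_c11))))
theorem f77624 : Led Lsl_at (LP (LK LD1_c0 LD2_c45 LD3_c11)) = (LP (LK LD1_c1 LD2_c37 LD3_c33)) :=
  Lre_a IH (LK LD1_c0 LD2_c45 LD3_c11) (LK LD1_c1 LD2_c37 LD3_c33) Lrfl Lrfl
theorem f78129 : Led Lsl_gt (LP (LK LD1_c1 LD2_c29 LD3_c13)) = (LP (LK LD1_c1 LD2_c37 LD3_c33)) :=
  Lgr Lrot46 (Lpr_gf (f78122 IH) (Lpr_ft (f77154 IH) (Lpr_at (f77624 IH) (Lpn (LP (LK LD1_c1 LD2_c37 LD3_c33))))))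
theorem f25054 : Led Lsl_dt (LP (LK LD1_c0 LD2_c41 LD3_c15)) = (LP (LK LD1_c1 LD2_c29 LD3_c13)) :=
  Lre_d IH (LK LD1_c0 LD2_c41 LD3_c15) (LK LD1_c1 LD2_c29 LD3_c13) Lrfl Lrfl
theorem f64461 : Led Lsl_bt (LP (LK LD1_c0 LD2_c19 LD3_c43)) = (LP (LK LD1_c0 LD2_c44 LD3_c11)) :=
  Lre_b IH (LK LD1_c0 LD2_c19 LD3_c43) (LK LD1_c0 LD2_c44 LD3_c11) Lrfl Lrfl
theorem f64462 : Led Lsl_df (LP (LK LD1_c0 LD2_c40 LD3_c9)) = (LP (LK LD1_c0 LD2_c44 LD3_c11)) :=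
  Lgr Lrot12 (Lpr_bt (f21008 IH) (Lpr_dt (K1.f64294 IH) (Lpr_bt (f64461 IH) (Lpn (LP (LK LD1_c0 LD2_c44 LD3_c11))))))
theorem f14702 : Led Lsl_ct (LP (LK LD1_c1 LD2_c34 LD3_c59)) = (LP (LK LD1_c0 LD2_c44 LD3_c11)) :=
  Lre_c IH (LK LD1_c1 LD2_c34 LD3_c59) (LK LD1_c0 LD2_c44 LD3_c11) Lrfl Lrfl
theorem f64550 : Led Lsl_gt (LP (LK LD1_c3 LD2_c16 LD3_c30)) = (LP (LK LD1_c1 LD2_c34 LD3_c59)) :=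
  Lre_g IH (LK LD1_c3 LD2_c16 LD3_c30) (LK LD1_c1 LD2_c34 LD3_c59) Lrfl Lrfl
theorem f78157 : Led Lsl_cf (LP (LK LD1_c3 LD2_c16 LD3_c30)) = (LP (LK LD1_c1 LD2_c37 LD3_c33)) :=
  Lgr Lrot188 (Lpr_gt (f64550 IH) (Lpr_ct (f14702 IH) (Lpe (f64462 IH) (Lpe (f61713 IH) (Lpr_gf (f76707 IH) (Lpe (f76701 IH) (Lpe (f77789 IH) (Lpr_dt (f25054 IH) (Lpr_gt (f78129 IH) (Lpn (LP (LK LD1_c1 LD2_c37 LD3_c33))))))))))))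
theorem f9763 : Led Lsl_dt (LP (LK LD1_c0 LD2_c45 LD3_c10)) = (LP (LK LD1_c1 LD2_c37 LD3_c33)) :=
  Lre_d IH (LK LD1_c0 LD2_c45 LD3_c10) (LK LD1_c1 LD2_c37 LD3_c33) Lrfl Lrfl
theorem f9764 : Led Lsl_dt (LP (LK LD1_c1 LD2_c37 LD3_c33)) = (LP (LK LD1_c0 LD2_c45 LD3_c10)) :=
  Lre_d IH (LK LD1_c1 LD2_c37 LD3_c33) (LK LD1_c0 LD2_c45 LD3_c10) Lrfl Lrfl
theorem f77147 : Led Lsl_at (LP (LK LD1_c0 LD2_c41 LD3_c44)) = (LP (LK LD1_c1 LD2_c30 LD3_c20)) :=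
  Lre_a IH (LK LD1_c0 LD2_c41 LD3_c44) (LK LD1_c1 LD2_c30 LD3_c20) Lrfl Lrfl
theorem f77158 : Led Lsl_ct (LP (LK LD1_c3 LD2_c8 LD3_c12)) = (LP (LK LD1_c1 LD2_c30 LD3_c20)) :=
  Lre_c IH (LK LD1_c3 LD2_c8 LD3_c12) (LK LD1_c1 LD2_c30 LD3_c20) Lrfl Lrfl
theorem f77159 : Led Lsl_dt (LP (LK LD1_c6 LD2_c21 LD3_c5)) = (LP (LK LD1_c3 LD2_c8 LD3_c12)) :=
  Lre_d IH (LK LD1_c6 LD2_c21 LD3_c5) (LK LD1_c3 LD2_c8 LD3_c12) Lrfl Lrfl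
theorem f9748 : Led Lsl_dt (LP (LK LD1_c0 LD2_c45 LD3_c11)) = (LP (LK LD1_c0 LD2_c20 LD3_c0)) :=
  Lre_d IH (LK LD1_c0 LD2_c45 LD3_c11) (LK LD1_c0 LD2_c20 LD3_c0) Lrfl Lrfl
theorem f9751 : Led Lsl_dt (LP (LK LD1_c0 LD2_c20 LD3_c0)) = (LP (LK LD1_c0 LD2_c45 LD3_c11)) :=
  Lre_d IH (LK LD1_c0 LD2_c20 LD3_c0) (LK LD1_c0 LD2_c45 LD3_c11) Lrfl Lrfl
theorem f9752 : Led Lsl_ct (LP (LK LD1_c0 LD2_c45 LD3_c11)) = (LP (LK LD1_c1 LD2_c37 LD3_c36)) :=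
  Lre_c IH (LK LD1_c0 LD2_c45 LD3_c11) (LK LD1_c1 LD2_c37 LD3_c36) Lrfl Lrfl
theorem f9753 : Led Lsl_dt (LP (LK LD1_c1 LD2_c37 LD3_c36)) = (LP (LK LD1_c3 LD2_c22 LD3_c40)) :=
  Lre_d IH (LK LD1_c1 LD2_c37 LD3_c36) (LK LD1_c3 LD2_c22 LD3_c40) Lrfl Lrfl
theorem f77160 : Led Lsl_cf (LP (LK LD1_c6 LD2_c21 LD3_c5)) = (LP (LK LD1_c3 LD2_c22 LD3_c40)) :=
  Lgr Lrot161 (Lpr_dt (f77159 IH) (Lpr_ct (f77158 IH) (Lpe (f77147 IH) (Lpr_ff (f77145 IH) (Lpr_dt (f9748 IH) (Lpr_ct (K0.f9737 IH) (Lpr_dt (f9751 IH) (Lpr_ct (f9752 IH) (Lpr_dt (f9753 IH) (Lpn (LP (LK LD1_c3 LD2_c22 LD3_c40))))))))))))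
theorem f77180 : Led Lsl_dt (LP (LK LD1_c1 LD2_c30 LD3_c20)) = (LP (LK LD1_c0 LD2_c42 LD3_c47)) :=
  Lgr Lrot120 (Lpe (f77158 IH) (Lpe (f77159 IH) (Lpr_cf (f77160 IH) (Lpe (f9753 IH) (Lpe (f9752 IH) (Lpe (f9751 IH) (Lpr_ft (K0.f13467 IH) (Lpr_at (f13492 IH) (Lpr_cf (f13493 IH) (Lpn (LP (LK LD1_c0 LD2_c42 LD3_c47))))))))))))
theorem f77193 : Led Lsl_ff (LP (LK LD1_c1 LD2_c30 LD3_c20)) = (LP (LK LD1_c1 LD2_c37 LD3_c33)) :=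
  Lgr Lrot19 (Lpr_dt (f77180 IH) (Lpr_ft (f13499 IH) (Lpr_dt (f9763 IH) (Lpn (LP (LK LD1_c1 LD2_c37 LD3_c33))))))
theorem f77623 : Led Lsl_at (LP (LK LD1_c1 LD2_c30 LD3_c20)) = (LP (LK LD1_c0 LD2_c41 LD3_c44)) :=
  Lre_a IH (LK LD1_c1 LD2_c30 LD3_c20) (LK LD1_c0 LD2_c41 LD3_c44) Lrfl Lrfl
theorem f58901 : Led Lsl_ct (LP (LK LD1_c1 LD2_c30 LD3_c21)) = (LP (LK LD1_c0 LD2_c41 LD3_c44)) :=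
  Lre_c IH (LK LD1_c1 LD2_c30 LD3_c21) (LK LD1_c0 LD2_c41 LD3_c44) Lrfl Lrfl
theorem f61632 : Led Lsl_dt (LP (LK LD1_c3 LD2_c8 LD3_c15)) = (LP (LK LD1_c1 LD2_c30 LD3_c21)) :=
  Lre_d IH (LK LD1_c3 LD2_c8 LD3_c15) (LK LD1_c1 LD2_c30 LD3_c21) Lrfl Lrfl
theorem f77212 : Led Lsl_ct (LP (LK LD1_c6 LD2_c21 LD3_c8)) = (LP (LK LD1_c3 LD2_c8 LD3_c15)) :=
  Lre_c IH (LK LD1_c6 LD2_c21 LD3_c8) (LK LD1_c3 LD2_c8 LD3_c15) Lrfl Lrfl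
theorem f78718 : Led Lsl_dt (LP (LK LD1_c3 LD2_c16 LD3_c30)) = (LP (LK LD1_c6 LD2_c21 LD3_c8)) :=
  Lgr Lrot140 (Lpr_cf (f78157 IH) (Lpe (f9763 IH) (Lpr_cf (K0.f9746 IH) (Lpe (f9764 IH) (Lpe (f77193 IH) (Lpr_at (f77623 IH) (Lpe (f58901 IH) (Lpe (f61632 IH) (Lpe (f77212 IH) (Lpn (LP (LK LD1_c6 LD2_c21 LD3_c8))))))))))))
theorem f77162 : Led Lsl_at (LP (LK LD1_c6 LD2_c21 LD3_c5)) = (LP (LK LD1_c3 LD2_c8 LD3_c15)) :=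
  Lre_a IH (LK LD1_c6 LD2_c21 LD3_c5) (LK LD1_c3 LD2_c8 LD3_c15) Lrfl Lrfl
theorem f77163 : Led Lsl_ct (LP (LK LD1_c3 LD2_c8 LD3_c15)) = (LP (LK LD1_c6 LD2_c21 LD3_c8)) :=
  Lre_c IH (LK LD1_c3 LD2_c8 LD3_c15) (LK LD1_c6 LD2_c21 LD3_c8) Lrfl Lrfl
theorem f77164 : Led Lsl_at (LP (LK LD1_c6 LD2_c21 LD3_c8)) = (LP (LK LD1_c3 LD2_c22 LD3_c40)) :=
  Lgr Lrot107 (Lpe (f77163 IH) (Lpe (f77162 IH) (Lpr_cf (f77160 IH) (Lpn (LP (LK LD1_c3 LD2_c22 LD3_c40))))))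
theorem f9750 : Led Lsl_dt (LP (LK LD1_c3 LD2_c22 LD3_c40)) = (LP (LK LD1_c1 LD2_c37 LD3_c36)) :=
  Lre_d IH (LK LD1_c3 LD2_c22 LD3_c40) (LK LD1_c1 LD2_c37 LD3_c36) Lrfl Lrfl
theorem f78985 : Led Lsl_af (LP (LK LD1_c3 LD2_c16 LD3_c30)) = (LP (LK LD1_c1 LD2_c37 LD3_c36)) :=
  Lgr Lrot117 (Lpr_dt (f78718 IH) (Lpr_at (f77164 IH) (Lpr_dt (f9750 IH) (Lpn (LP (LK LD1_c1 LD2_c37 LD3_c36))))))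
theorem f77151 : Led Lsl_ct (LP (LK LD1_c0 LD2_c41 LD3_c44)) = (LP (LK LD1_c1 LD2_c30 LD3_c21)) :=
  Lre_c IH (LK LD1_c0 LD2_c41 LD3_c44) (LK LD1_c1 LD2_c30 LD3_c21) Lrfl Lrfl
theorem f9749 : Led Lsl_ct (LP (LK LD1_c1 LD2_c37 LD3_c36)) = (LP (LK LD1_c0 LD2_c45 LD3_c11)) :=
  Lre_c IH (LK LD1_c1 LD2_c37 LD3_c36) (LK LD1_c0 LD2_c45 LD3_c11) Lrfl Lrfl
theorem f77152 : Led Lsl_ft (LP (LK LD1_c1 LD2_c30 LD3_c21)) = (LP (LK LD1_c1 LD2_c37 LD3_c36)) :=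
  Lgr Lrot4 (Lpe (f77151 IH) (Lpr_ff (f77145 IH) (Lpe (f9749 IH) (Lpn (LP (LK LD1_c1 LD2_c37 LD3_c36))))))
theorem f77775 : Led Lsl_gt (LP (LK LD1_c1 LD2_c30 LD3_c21)) = (LP (LK LD1_c3 LD2_c8 LD3_c14)) :=
  Lre_g IH (LK LD1_c1 LD2_c30 LD3_c21) (LK LD1_c3 LD2_c8 LD3_c14) Lrfl Lrfl
theorem f79021 : Led Lsl_gf (LP (LK LD1_c3 LD2_c16 LD3_c30)) = (LP (LK LD1_c3 LD2_c8 LD3_c14)) :=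
  Lgr Lrot76 (Lpr_af (f78985 IH) (Lpe (f77152 IH) (Lpr_gt (f77775 IH) (Lpn (LP (LK LD1_c3 LD2_c8 LD3_c14))))))
theorem f78729 : Led Lsl_at (LP (LK LD1_c3 LD2_c16 LD3_c28)) = (LP (LK LD1_c1 LD2_c34 LD3_c59)) :=
  Lre_a IH (LK LD1_c3 LD2_c16 LD3_c28) (LK LD1_c1 LD2_c34 LD3_c59) Lrfl Lrfl
theorem f79023 : Led Lsl_ff (LP (LK LD1_c3 LD2_c16 LD3_c28)) = (LP (LK LD1_c3 LD2_c8 LD3_c14)) :=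
  Lgr Lrot52 (Lpr_at (f78729 IH) (Lpe (f64550 IH) (Lpr_gf (f79021 IH) (Lpn (LP (LK LD1_c3 LD2_c8 LD3_c14))))))
theorem f78159 : Led Lsl_ct (LP (LK LD1_c0 LD2_c44 LD3_c11)) = (LP (LK LD1_c1 LD2_c34 LD3_c59)) :=
  Lre_c IH (LK LD1_c0 LD2_c44 LD3_c11) (LK LD1_c1 LD2_c34 LD3_c59) Lrfl Lrfl
theorem f78721 : Led Lsl_df (LP (LK LD1_c0 LD2_c44 LD3_c11)) = (LP (LK LD1_c0 LD2_c40 LD3_c9)) :=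
  Lgr Lrot162 (Lpe (f14702 IH) (Lpe (f64550 IH) (Lpr_cf (f78157 IH) (Lpe (f78129 IH) (Lpr_dt (f77791 IH) (Lpr_gt (f77789 IH) (Lpr_ct (f76701 IH) (Lpe (f76707 IH) (Lpr_ct (f61713 IH) (Lpn (LP (LK LD1_c0 LD2_c40 LD3_c9))))))))))))
theorem f25111 : Led Lsl_dt (LP (LK LD1_c1 LD2_c29 LD3_c16)) = (LP (LK LD1_c0 LD2_c41 LD3_c16)) :=
  Lre_d IH (LK LD1_c1 LD2_c29 LD3_c16) (LK LD1_c0 LD2_c41 LD3_c16) Lrfl Lrfl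
theorem f61723 : Led Lsl_ct (LP (LK LD1_c3 LD2_c6 LD3_c20)) = (LP (LK LD1_c1 LD2_c29 LD3_c16)) :=
  Lre_c IH (LK LD1_c3 LD2_c6 LD3_c20) (LK LD1_c1 LD2_c29 LD3_c16) Lrfl Lrfl
theorem f61762 : Led Lsl_dt (LP (LK LD1_c6 LD2_c18 LD3_c9)) = (LP (LK LD1_c3 LD2_c6 LD3_c20)) :=
  Lre_d IH (LK LD1_c6 LD2_c18 LD3_c9) (LK LD1_c3 LD2_c6 LD3_c20) Lrfl Lrfl
theorem f76483 : Led Lsl_ff (LP (LK LD1_c6 LD2_c18 LD3_c14)) = (LP (LK LD1_c6 LD2_c18 LD3_c26)) :=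
  Lgr Lrot19 (Lpr_dt (f25119 IH) (Lpe (f76440 IH) (Lpr_dt (f76474 IH) (Lpn (LP (LK LD1_c6 LD2_c18 LD3_c26))))))
theorem f76486 : Led Lsl_at (LP (LK LD1_c6 LD2_c18 LD3_c14)) = (LP (LK LD1_c3 LD2_c6 LD3_c28)) :=
  Lre_a IH (LK LD1_c6 LD2_c18 LD3_c14) (LK LD1_c3 LD2_c6 LD3_c28) Lrfl Lrfl
theorem f76428 : Led Lsl_at (LP (LK LD1_c3 LD2_c6 LD3_c28)) = (LP (LK LD1_c6 LD2_c18 LD3_c14)) :=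
  Lre_a IH (LK LD1_c3 LD2_c6 LD3_c28) (LK LD1_c6 LD2_c18 LD3_c14) Lrfl Lrfl
theorem f76429 : Led Lsl_at (LP (LK LD1_c3 LD2_c12 LD3_c37)) = (LP (LK LD1_c6 LD2_c18 LD3_c26)) :=
  Lgr Lrot107 (Lpr_cf (f76425 IH) (Lpe (f76428 IH) (Lpe (f25106 IH) (Lpn (LP (LK LD1_c6 LD2_c18 LD3_c26))))))
theorem f76487 : Led Lsl_ft (LP (LK LD1_c3 LD2_c6 LD3_c28)) = (LP (LK LD1_c3 LD2_c12 LD3_c37)) :=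
  Lgr Lrot101 (Lpe (f76486 IH) (Lpr_ff (f76483 IH) (Lpe (f76429 IH) (Lpn (LP (LK LD1_c3 LD2_c12 LD3_c37))))))
theorem f61784 : Led Lsl_gt (LP (LK LD1_c3 LD2_c6 LD3_c28)) = (LP (LK LD1_c6 LD2_c18 LD3_c25)) :=
  Lre_g IH (LK LD1_c3 LD2_c6 LD3_c28) (LK LD1_c6 LD2_c18 LD3_c25) Lrfl Lrfl
theorem f76686 : Led Lsl_gt (LP (LK LD1_c6 LD2_c18 LD3_c25)) = (LP (LK LD1_c6 LD2_c18 LD3_c26)) :=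
  Lgr Lrot46 (Lpe (f61784 IH) (Lpr_ft (f76487 IH) (Lpr_at (f76429 IH) (Lpn (LP (LK LD1_c6 LD2_c18 LD3_c26))))))
theorem f78131 : Led Lsl_df (LP (LK LD1_c6 LD2_c18 LD3_c25)) = (LP (LK LD1_c3 LD2_c8 LD3_c14)) :=
  Lgr Lrot153 (Lpr_gt (f76686 IH) (Lpe (f76480 IH) (Lpe (f67014 IH) (Lpr_df (f76696 IH) (Lpe (f77789 IH) (Lpe (f77791 IH) (Lpr_gf (f78122 IH) (Lpe (f58901 IH) (Lpr_gt (f77775 IH) (Lpn (LP (LK LD1_c3 LD2_c8 LD3_c14))))))))))))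
theorem f79032 : Led Lsl_cf (LP (LK LD1_c6 LD2_c18 LD3_c9)) = (LP (LK LD1_c6 LD2_c18 LD3_c25)) :=
  Lgr Lrot118 (Lpr_dt (f61762 IH) (Lpr_ct (f61723 IH) (Lpr_dt (f25111 IH) (Lpr_ct (f61713 IH) (Lpe (f78721 IH) (Lpr_ct (f78159 IH) (Lpe (f78729 IH) (Lpr_ff (f79023 IH) (Lpe (f78131 IH) (Lpn (LP (LK LD1_c6 LD2_c18 LD3_c25))))))))))))
theorem f61715 : Led Lsl_ct (LP (LK LD1_c1 LD2_c29 LD3_c16)) = (LP (LK LD1_c3 LD2_c6 LD3_c20)) :=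
  Lre_c IH (LK LD1_c1 LD2_c29 LD3_c16) (LK LD1_c3 LD2_c6 LD3_c20) Lrfl Lrfl
theorem f78711 : Led Lsl_ct (LP (LK LD1_c3 LD2_c16 LD3_c30)) = (LP (LK LD1_c1 LD2_c37 LD3_c33)) :=
  Lgr Lrot59 (Lpr_cf (f78157 IH) (Lpn (LP (LK LD1_c1 LD2_c37 LD3_c33))))
theorem f79040 : Led Lsl_gf (LP (LK LD1_c1 LD2_c29 LD3_c16)) = (LP (LK LD1_c1 LD2_c37 LD3_c33)) :=
  Lgr Lrot104 (Lpr_ct (f61715 IH) (Lpe (f61762 IH) (Lpr_cf (f79032 IH) (Lpe (f61784 IH) (Lpe (f25106 IH) (Lpe (f76686 IH) (Lpr_df (f78131 IH) (Lpe (f79021 IH) (Lpr_ct (f78711 IH) (Lpn (LP (LK LD1_c1 LD2_c37 LD3_c33))))))))))))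
theorem f78720 : Led Lsl_dt (LP (LK LD1_c1 LD2_c34 LD3_c59)) = (LP (LK LD1_c3 LD2_c16 LD3_c32)) :=
  Lre_d IH (LK LD1_c1 LD2_c34 LD3_c59) (LK LD1_c3 LD2_c16 LD3_c32) Lrfl Lrfl
theorem f79044 : Led Lsl_gf (LP (LK LD1_c3 LD2_c6 LD3_c28)) = (LP (LK LD1_c3 LD2_c16 LD3_c32)) :=
  Lgr Lrot143 (Lpr_dt (f25105 IH) (Lpe (f25100 IH) (Lpe (f25099 IH) (Lpe (f25108 IH) (Lpe (f25111 IH) (Lpr_gf (f79040 IH) (Lpe (f78711 IH) (Lpr_gt (f64550 IH) (Lpr_dt (f78720 IH) (Lpn (LP (LK LD1_c3 LD2_c16 LD3_c32))))))))))))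
theorem f79048 : Led Lsl_gt (LP (LK LD1_c6 LD2_c18 LD3_c26)) = (LP (LK LD1_c3 LD2_c16 LD3_c32)) :=
  Lgr Lrot5 (Lpe (f76483 IH) (Lpr_at (f76486 IH) (Lpr_gf (f79044 IH) (Lpn (LP (LK LD1_c3 LD2_c16 LD3_c32))))))
theorem f77814 : Led Lsl_ct (LP (LK LD1_c3 LD2_c6 LD3_c16)) = (LP (LK LD1_c1 LD2_c29 LD3_c13)) :=
  Lre_c IH (LK LD1_c3 LD2_c6 LD3_c16) (LK LD1_c1 LD2_c29 LD3_c13) Lrfl Lrfl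
theorem f77827 : Led Lsl_dt (LP (LK LD1_c6 LD2_c18 LD3_c4)) = (LP (LK LD1_c3 LD2_c6 LD3_c16)) :=
  Lre_d IH (LK LD1_c6 LD2_c18 LD3_c4) (LK LD1_c3 LD2_c6 LD3_c16) Lrfl Lrfl
theorem f78730 : Led Lsl_ct (LP (LK LD1_c3 LD2_c16 LD3_c32)) = (LP (LK LD1_c6 LD2_c18 LD3_c4)) :=
  Lgr Lrot41 (Lpe (f78720 IH) (Lpe (f78159 IH) (Lpr_df (f78721 IH) (Lpr_ft (f61763 IH) (Lpe (f77812 IH) (Lpe (f25109 IH) (Lpe (f77791 IH) (Lpe (f77814 IH) (Lpe (f77827 IH) (Lpn (LP (LK LD1_c6 LD2_c18 LD3_c4))))))))))))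
theorem f79050 : Led Lsl_gf (LP (LK LD1_c1 LD2_c30 LD3_c21)) = (LP (LK LD1_c1 LD2_c34 LD3_c59)) :=
  Lgr Lrot147 (Lpr_ct (f58901 IH) (Lpe (f78122 IH) (Lpr_ct (f25055 IH) (Lpe (f77827 IH) (Lpe (f78730 IH) (Lpe (f79048 IH) (Lpe (f25102 IH) (Lpr_gf (f79044 IH) (Lpe (f78720 IH) (Lpn (LP (LK LD1_c1 LD2_c34 LD3_c59))))))))))))
theorem f58900 : Led Lsl_bt (LP (LK LD1_c0 LD2_c41 LD3_c44)) = (LP (LK LD1_c0 LD2_c18 LD3_c38)) :=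
  Lre_b IH (LK LD1_c0 LD2_c41 LD3_c44) (LK LD1_c0 LD2_c18 LD3_c38) Lrfl Lrfl
theorem f69184 : Led Lsl_bt (LP (LK LD1_c0 LD2_c18 LD3_c57)) = (LP (LK LD1_c0 LD2_c8 LD3_c31)) :=
  Lre_b IH (LK LD1_c0 LD2_c18 LD3_c57) (LK LD1_c0 LD2_c8 LD3_c31) Lrfl Lrfl
theorem f68985 : Led Lsl_ct (LP (LK LD1_c0 LD2_c18 LD3_c57)) = (LP (LK LD1_c0 LD2_c42 LD3_c29)) :=
  Lre_c IH (LK LD1_c0 LD2_c18 LD3_c57) (LK LD1_c0 LD2_c42 LD3_c29) Lrfl Lrfl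
theorem f69185 : Led Lsl_gt (LP (LK LD1_c0 LD2_c42 LD3_c29)) = (LP (LK LD1_c1 LD2_c31 LD3_c48)) :=
  Lre_g IH (LK LD1_c0 LD2_c42 LD3_c29) (LK LD1_c1 LD2_c31 LD3_c48) Lrfl Lrfl
theorem f23342 : Led Lsl_gt (LP (LK LD1_c0 LD2_c43 LD3_c48)) = (LP (LK LD1_c0 LD2_c19 LD3_c34)) :=
  Lre_g IH (LK LD1_c0 LD2_c43 LD3_c48) (LK LD1_c0 LD2_c19 LD3_c34) Lrfl Lrfl
theorem f23344 : Led Lsl_dt (LP (LK LD1_c0 LD2_c43 LD3_c48)) = (LP (LK LD1_c1 LD2_c34 LD3_c16)) :=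
  Lre_d IH (LK LD1_c0 LD2_c43 LD3_c48) (LK LD1_c1 LD2_c34 LD3_c16) Lrfl Lrfl
theorem f79091 : Led Lsl_gt (LP (LK LD1_c1 LD2_c34 LD3_c16)) = (LP (LK LD1_c0 LD2_c44 LD3_c11)) :=
  Lgr Lrot9 (Lpe (f23344 IH) (Lpr_gt (f23342 IH) (Lpe (K0.f23329 IH) (Lpr_gt (K0.f13495 IH) (Lpr_ct (K0.f13483 IH) (Lpr_df (f58920 IH) (Lpe (f58901 IH) (Lpr_gf (f79050 IH) (Lpe (f78159 IH) (Lpn (LP (LK LD1_c0 LD2_c44 LD3_c11))))))))))))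
theorem f23443 : Led Lsl_gt (LP (LK LD1_c0 LD2_c13 LD3_c39)) = (LP (LK LD1_c0 LD2_c30 LD3_c43)) :=
  Lre_g IH (LK LD1_c0 LD2_c13 LD3_c39) (LK LD1_c0 LD2_c30 LD3_c43) Lrfl Lrfl
theorem f23457 : Led Lsl_ct (LP (LK LD1_c1 LD2_c7 LD3_c3)) = (LP (LK LD1_c0 LD2_c30 LD3_c43)) :=
  Lre_c IH (LK LD1_c1 LD2_c7 LD3_c3) (LK LD1_c0 LD2_c30 LD3_c43) Lrfl Lrfl
theorem f23459 : Led Lsl_ct (LP (LK LD1_c0 LD2_c43 LD3_c4)) = (LP (LK LD1_c0 LD2_c43 LD3_c52)) :=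
  Lre_c IH (LK LD1_c0 LD2_c43 LD3_c4) (LK LD1_c0 LD2_c43 LD3_c52) Lrfl Lrfl
theorem f23460 : Led Lsl_gt (LP (LK LD1_c0 LD2_c19 LD3_c35)) = (LP (LK LD1_c0 LD2_c43 LD3_c52)) :=
  Lre_g IH (LK LD1_c0 LD2_c19 LD3_c35) (LK LD1_c0 LD2_c43 LD3_c52) Lrfl Lrfl
theorem f23333 : Led Lsl_bt (LP (LK LD1_c0 LD2_c8 LD3_c48)) = (LP (LK LD1_c0 LD2_c19 LD3_c34)) :=
  Lre_b IH (LK LD1_c0 LD2_c8 LD3_c48) (LK LD1_c0 LD2_c19 LD3_c34) Lrfl Lrfl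
theorem f23462 : Led Lsl_bt (LP (LK LD1_c1 LD2_c7 LD3_c3)) = (LP (LK LD1_c0 LD2_c43 LD3_c48)) :=
  Lgr Lrot22 (Lpr_ct (f23457 IH) (Lpe (f23443 IH) (Lpr_cf (f23426 IH) (Lpe (K0.f23449 IH) (Lpe (K0.f23458 IH) (Lpr_ct (f23459 IH) (Lpe (f23460 IH) (Lpe (K1.f23461 IH) (Lpr_bt (f23333 IH) (Lpe (f23342 IH) (Lpn (LP (LK LD1_c0 LD2_c43 LD3_c48)))))))))))))
theorem f23453 : Led Lsl_dt (LP (LK LD1_c2 LD2_c19 LD3_c46)) = (LP (LK LD1_c1 LD2_c7 LD3_c3)) :=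
  Lre_d IH (LK LD1_c2 LD2_c19 LD3_c46) (LK LD1_c1 LD2_c7 LD3_c3) Lrfl Lrfl
theorem f23559 : Led Lsl_bf (LP (LK LD1_c2 LD2_c19 LD3_c46)) = (LP (LK LD1_c1 LD2_c34 LD3_c16)) :=
  Lgr Lrot93 (Lpr_dt (f23453 IH) (Lpr_bt (f23462 IH) (Lpr_dt (f23344 IH) (Lpn (LP (LK LD1_c1 LD2_c34 LD3_c16))))))
theorem f23565 : Led Lsl_bt (LP (LK LD1_c2 LD2_c19 LD3_c46)) = (LP (LK LD1_c1 LD2_c34 LD3_c16)) :=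
  Lgr Lrot127 (Lpr_bf (f23559 IH) (Lpn (LP (LK LD1_c1 LD2_c34 LD3_c16))))
theorem f79095 : Led Lsl_cf (LP (LK LD1_c1 LD2_c31 LD3_c48)) = (LP (LK LD1_c2 LD2_c19 LD3_c46)) :=
  Lgr Lrot58 (Lpe (f69185 IH) (Lpe (f68985 IH) (Lpr_bt (f69184 IH) (Lpr_gf (K1.f58929 IH) (Lpe (f58900 IH) (Lpr_ct (f77151 IH) (Lpr_gf (f79050 IH) (Lpe (f78159 IH) (Lpe (f79091 IH) (Lpe (f23565 IH) (Lpn (LP (LK LD1_c2 LD2_c19 LD3_c46)))))))))))))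
theorem f61252 : Led Lsl_gt (LP (LK LD1_c0 LD2_c42 LD3_c28)) = (LP (LK LD1_c0 LD2_c18 LD3_c57)) :=
  Lre_g IH (LK LD1_c0 LD2_c42 LD3_c28) (LK LD1_c0 LD2_c18 LD3_c57) Lrfl Lrfl
theorem f61253 : Led Lsl_bt (LP (LK LD1_c1 LD2_c31 LD3_c46)) = (LP (LK LD1_c0 LD2_c42 LD3_c28)) :=
  Lre_b IH (LK LD1_c1 LD2_c31 LD3_c46) (LK LD1_c0 LD2_c42 LD3_c28) Lrfl Lrfl
theorem f64252 : Led Lsl_ct (LP (LK LD1_c0 LD2_c19 LD3_c43)) = (LP (LK LD1_c0 LD2_c44 LD3_c12)) :=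
  Lre_c IH (LK LD1_c0 LD2_c19 LD3_c43) (LK LD1_c0 LD2_c44 LD3_c12) Lrfl Lrfl
theorem f79090 : Led Lsl_gt (LP (LK LD1_c0 LD2_c44 LD3_c12)) = (LP (LK LD1_c1 LD2_c34 LD3_c61)) :=
  Lre_g IH (LK LD1_c0 LD2_c44 LD3_c12) (LK LD1_c1 LD2_c34 LD3_c61) Lrfl Lrfl
theorem f79113 : Led Lsl_ct (LP (LK LD1_c1 LD2_c31 LD3_c46)) = (LP (LK LD1_c1 LD2_c34 LD3_c61)) :=
  Lgr Lrot10 (Lpr_bt (f61253 IH) (Lpr_gt (f61252 IH) (Lpr_ct (f68985 IH) (Lpr_gt (f69185 IH) (Lpr_cf (f79095 IH) (Lpr_bt (f23565 IH) (Lpr_gt (f79091 IH) (Lpe (f64461 IH) (Lpr_ct (f64252 IH) (Lpr_gt (f79090 IH) (Lpn (LP (LK LD1_c1 LD2_c34 LD3_c61)))))))))))))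
theorem f79120 : Led Lsl_cf (LP (LK LD1_c1 LD2_c31 LD3_c46)) = (LP (LK LD1_c1 LD2_c34 LD3_c61)) :=
  Lgr Lrot11 (Lpr_ct (f79113 IH) (Lpn (LP (LK LD1_c1 LD2_c34 LD3_c61))))
theorem f57109 : Led Lsl_gt (LP (LK LD1_c0 LD2_c8 LD3_c51)) = (LP (LK LD1_c0 LD2_c19 LD3_c43)) :=
  Lre_g IH (LK LD1_c0 LD2_c8 LD3_c51) (LK LD1_c0 LD2_c19 LD3_c43) Lrfl Lrfl
theorem f62966 : Led Lsl_dt (LP (LK LD1_c0 LD2_c8 LD3_c51)) = (LP (LK LD1_c0 LD2_c3 LD3_c60)) :=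
  Lre_d IH (LK LD1_c0 LD2_c8 LD3_c51) (LK LD1_c0 LD2_c3 LD3_c60) Lrfl Lrfl
theorem f79132 : Led Lsl_df (LP (LK LD1_c1 LD2_c31 LD3_c46)) = (LP (LK LD1_c0 LD2_c43 LD3_c4)) :=
  Lgr Lrot162 (Lpr_cf (f79120 IH) (Lpe (f79090 IH) (Lpe (f64252 IH) (Lpe (f57109 IH) (Lpr_dt (f62966 IH) (Lpr_gt (K0.f7157 IH) (Lpr_ct (K1.f23461 IH) (Lpr_gt (f23460 IH) (Lpr_ct (K0.f23598 IH) (Lpn (LP (LK LD1_c0 LD2_c43 LD3_c4))))))))))))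
theorem f79138 : Led Lsl_bt (LP (LK LD1_c0 LD2_c19 LD3_c11)) = (LP (LK LD1_c0 LD2_c43 LD3_c4)) :=
  Lre_b IH (LK LD1_c0 LD2_c19 LD3_c11) (LK LD1_c0 LD2_c43 LD3_c4) Lrfl Lrfl
theorem f79139 : Led Lsl_dt (LP (LK LD1_c0 LD2_c42 LD3_c28)) = (LP (LK LD1_c0 LD2_c19 LD3_c11)) :=
  Lgr Lrot79 (Lpe (f61253 IH) (Lpr_df (f79132 IH) (Lpe (f79138 IH) (Lpn (LP (LK LD1_c0 LD2_c19 LD3_c11))))))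
theorem f79141 : Led Lsl_df (LP (LK LD1_c0 LD2_c42 LD3_c28)) = (LP (LK LD1_c0 LD2_c19 LD3_c11)) :=
  Lgr Lrot38 (Lpr_dt (f79139 IH) (Lpn (LP (LK LD1_c0 LD2_c19 LD3_c11))))
theorem f61251 : Led Lsl_dt (LP (LK LD1_c0 LD2_c18 LD3_c57)) = (LP (LK LD1_c0 LD2_c8 LD3_c30)) :=
  Lre_d IH (LK LD1_c0 LD2_c18 LD3_c57) (LK LD1_c0 LD2_c8 LD3_c30) Lrfl Lrfl
theorem f26070 : Led Lsl_at (LP (LK LD1_c0 LD2_c13 LD3_c37)) = (LP (LK LD1_c0 LD2_c30 LD3_c40)) :=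
  Lre_a IH (LK LD1_c0 LD2_c13 LD3_c37) (LK LD1_c0 LD2_c30 LD3_c40) Lrfl Lrfl
theorem f26072 : Led Lsl_ct (LP (LK LD1_c0 LD2_c30 LD3_c40)) = (LP (LK LD1_c0 LD2_c19 LD3_c5)) :=
  Lgr Lrot111 (Lpe (f26070 IH) (Lpr_cf (f26068 IH) (Lpe (f26071 IH) (Lpn (LP (LK LD1_c0 LD2_c19 LD3_c5))))))
theorem f82319 : Led Lsl_ff (LP (LK LD1_c0 LD2_c30 LD3_c45)) = (LP (LK LD1_c0 LD2_c19 LD3_c5)) :=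
  Lgr Lrot3 (Lpr_ft (f82310 IH) (Lpn (LP (LK LD1_c0 LD2_c19 LD3_c5))))
theorem f23441 : Led Lsl_at (LP (LK LD1_c0 LD2_c30 LD3_c45)) = (LP (LK LD1_c0 LD2_c13 LD3_c39)) :=
  Lre_a IH (LK LD1_c0 LD2_c30 LD3_c45) (LK LD1_c0 LD2_c13 LD3_c39) Lrfl Lrfl
theorem f82325 : Led Lsl_gf (LP (LK LD1_c0 LD2_c30 LD3_c44)) = (LP (LK LD1_c0 LD2_c19 LD3_c5)) :=
  Lgr Lrot47 (Lpr_gt (f23464 IH) (Lpe (f23441 IH) (Lpr_ff (f82319 IH) (Lpn (LP (LK LD1_c0 LD2_c19 LD3_c5))))))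
theorem f26308 : Led Lsl_bt (LP (LK LD1_c0 LD2_c13 LD3_c33)) = (LP (LK LD1_c0 LD2_c6 LD3_c11)) :=
  Lre_b IH (LK LD1_c0 LD2_c13 LD3_c33) (LK LD1_c0 LD2_c6 LD3_c11) Lrfl Lrfl
theorem f16665 : Led Lsl_bt (LP (LK LD1_c0 LD2_c3 LD3_c53)) = (LP (LK LD1_c0 LD2_c8 LD3_c30)) :=
  Lre_b IH (LK LD1_c0 LD2_c3 LD3_c53) (LK LD1_c0 LD2_c8 LD3_c30) Lrfl Lrfl
theorem f26316 : Led Lsl_cf (LP (LK LD1_c0 LD2_c13 LD3_c33)) = (LP (LK LD1_c0 LD2_c8 LD3_c30)) :=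
  Lgr Lrot97 (Lpr_bt (f26308 IH) (Lpr_ct (K0.f26052 IH) (Lpr_bt (K0.f26306 IH) (Lpr_ct (K1.f7123 IH) (Lpr_bt (f16665 IH) (Lpn (LP (LK LD1_c0 LD2_c8 LD3_c30))))))))
theorem f79143 : Led Lsl_dt (LP (LK LD1_c0 LD2_c30 LD3_c33)) = (LP (LK LD1_c0 LD2_c13 LD3_c33)) :=
  Lre_d IH (LK LD1_c0 LD2_c30 LD3_c33) (LK LD1_c0 LD2_c13 LD3_c33) Lrfl Lrfl
theorem f79144 : Led Lsl_gt (LP (LK LD1_c1 LD2_c6 LD3_c45)) = (LP (LK LD1_c0 LD2_c30 LD3_c33)) :=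
  Lre_g IH (LK LD1_c1 LD2_c6 LD3_c45) (LK LD1_c0 LD2_c30 LD3_c33) Lrfl Lrfl
theorem f82386 : Led Lsl_df (LP (LK LD1_c1 LD2_c6 LD3_c45)) = (LP (LK LD1_c0 LD2_c30 LD3_c44)) :=
  Lgr Lrot153 (Lpr_gt (f79144 IH) (Lpr_dt (f79143 IH) (Lpr_cf (f26316 IH) (Lpe (f61251 IH) (Lpe (f61252 IH) (Lpr_df (f79141 IH) (Lpr_gf (f82384 IH) (Lpr_cf (f26140 IH) (Lpe (f82325 IH) (Lpn (LP (LK LD1_c0 LD2_c30 LD3_c44))))))))))))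
theorem f82388 : Led Lsl_cf (LP (LK LD1_c0 LD2_c8 LD3_c30)) = (LP (LK LD1_c0 LD2_c13 LD3_c33)) :=
  Lgr Lrot14 (Lpe (f61251 IH) (Lpe (f61252 IH) (Lpr_df (f79141 IH) (Lpr_gf (f82384 IH) (Lpr_ct (f26072 IH) (Lpe (f82325 IH) (Lpe (f82386 IH) (Lpr_gt (f79144 IH) (Lpr_dt (f79143 IH) (Lpn (LP (LK LD1_c0 LD2_c13 LD3_c33))))))))))))
theorem f79146 : Led Lsl_et (LP (LK LD1_c0 LD2_c8 LD3_c30)) = (LP (LK LD1_c0 LD2_c18 LD3_c58)) :=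
  Lre_e IH (LK LD1_c0 LD2_c8 LD3_c30) (LK LD1_c0 LD2_c18 LD3_c58) Lrfl Lrfl
theorem f82394 : Led Lsl_et (LP (LK LD1_c0 LD2_c30 LD3_c34)) = (LP (LK LD1_c0 LD2_c13 LD3_c33)) :=
  Lre_e IH (LK LD1_c0 LD2_c30 LD3_c34) (LK LD1_c0 LD2_c13 LD3_c33) Lrfl Lrfl
theorem f82395 : Led Lsl_ct (LP (LK LD1_c0 LD2_c18 LD3_c58)) = (LP (LK LD1_c0 LD2_c30 LD3_c34)) :=
  Lgr Lrot15 (Lpe (f79146 IH) (Lpr_cf (f82388 IH) (Lpe (f82394 IH) (Lpn (LP (LK LD1_c0 LD2_c30 LD3_c34))))))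
theorem f24987 : Led Lsl_bt (LP (LK LD1_c0 LD2_c8 LD3_c32)) = (LP (LK LD1_c0 LD2_c18 LD3_c58)) :=
  Lre_b IH (LK LD1_c0 LD2_c8 LD3_c32) (LK LD1_c0 LD2_c18 LD3_c58) Lrfl Lrfl
theorem f24980 : Led Lsl_ct (LP (LK LD1_c0 LD2_c3 LD3_c54)) = (LP (LK LD1_c0 LD2_c8 LD3_c32)) :=
  Lre_c IH (LK LD1_c0 LD2_c3 LD3_c54) (LK LD1_c0 LD2_c8 LD3_c32) Lrfl Lrfl
theorem f82447 : Led Lsl_bt (LP (LK LD1_c0 LD2_c30 LD3_c34)) = (LP (LK LD1_c0 LD2_c13 LD3_c35)) :=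
  Lre_b IH (LK LD1_c0 LD2_c30 LD3_c34) (LK LD1_c0 LD2_c13 LD3_c35) Lrfl Lrfl
theorem f25752 : Led Lsl_ct (LP (LK LD1_c0 LD2_c13 LD3_c35)) = (LP (LK LD1_c0 LD2_c6 LD3_c12)) :=
  Lre_c IH (LK LD1_c0 LD2_c13 LD3_c35) (LK LD1_c0 LD2_c6 LD3_c12) Lrfl Lrfl
theorem f82448 : Led Lsl_bf (LP (LK LD1_c0 LD2_c3 LD3_c54)) = (LP (LK LD1_c0 LD2_c6 LD3_c12)) :=
  Lgr Lrot90 (Lpr_ct (f24980 IH) (Lpr_bt (f24987 IH) (Lpr_ct (f82395 IH) (Lpr_bt (f82447 IH) (Lpr_ct (f25752 IH) (Lpn (LP (LK LD1_c0 LD2_c6 LD3_c12))))))))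
theorem f7139 : Led Lsl_et (LP (LK LD1_c0 LD2_c3 LD3_c50)) = (LP (LK LD1_c0 LD2_c1 LD3_c39)) :=
  Lre_e IH (LK LD1_c0 LD2_c3 LD3_c50) (LK LD1_c0 LD2_c1 LD3_c39) Lrfl Lrfl
theorem f25763 : Led Lsl_bt (LP (LK LD1_c0 LD2_c6 LD3_c8)) = (LP (LK LD1_c0 LD2_c3 LD3_c50)) :=
  Lgr Lrot119 (Lpe (K1.f20996 IH) (Lpr_bf (K0.f25735 IH) (Lpe (f7139 IH) (Lpn (LP (LK LD1_c0 LD2_c3 LD3_c50))))))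
theorem f82517 : Led Lsl_dt (LP (LK LD1_c0 LD2_c3 LD3_c50)) = (LP (LK LD1_c0 LD2_c6 LD3_c12)) :=
  Lgr Lrot79 (Lpe (f25763 IH) (Lpe (K1.f25773 IH) (Lpr_bf (f82448 IH) (Lpn (LP (LK LD1_c0 LD2_c6 LD3_c12))))))
theorem f26351 : Led Lsl_ct (LP (LK LD1_c0 LD2_c29 LD3_c37)) = (LP (LK LD1_c0 LD2_c13 LD3_c38)) :=
  Lgr Lrot59 (Lpr_cf (K0.f26345 IH) (Lpn (LP (LK LD1_c0 LD2_c13 LD3_c38))))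
theorem f26051 : Led Lsl_dt (LP (LK LD1_c0 LD2_c13 LD3_c38)) = (LP (LK LD1_c0 LD2_c6 LD3_c13)) :=
  Lre_d IH (LK LD1_c0 LD2_c13 LD3_c38) (LK LD1_c0 LD2_c6 LD3_c13) Lrfl Lrfl
theorem f34726 : Led Lsl_dt (LP (LK LD1_c0 LD2_c2 LD3_c52)) = (LP (LK LD1_c0 LD2_c1 LD3_c29)) :=
  Lgr Lrot173 (Lpe (K0.f26045 IH) (Lpe (f26051 IH) (Lpe (f26351 IH) (Lpe (K0.f23023 IH) (Lpr_cf (K0.f34712 IH) (Lpe (K0.f20606 IH) (Lpe (K0.f134 IH) (Lpr_df (K0.f23303 IH) (Lpe (K0.f23435 IH) (Lpe (K0.f22750 IH) (Lpe (K0.f27155 IH) (Lpe (K0.f20603 IH) (Lpe (K0.f26600 IH) (Lpe (K0.f8141 IH) (Lpe (K0.f8174 IH) (Lpn (LP (LK LD1_c0 LD2_c1 LD3_c29))))))))))))))))))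
theorem f7181 : Led Lsl_et (LP (LK LD1_c0 LD2_c1 LD3_c45)) = (LP (LK LD1_c0 LD2_c4 LD3_c1)) :=
  Lre_e IH (LK LD1_c0 LD2_c1 LD3_c45) (LK LD1_c0 LD2_c4 LD3_c1) Lrfl Lrfl
theorem f25738 : Led Lsl_et (LP (LK LD1_c0 LD2_c2 LD3_c51)) = (LP (LK LD1_c0 LD2_c6 LD3_c12)) :=
  Lre_e IH (LK LD1_c0 LD2_c2 LD3_c51) (LK LD1_c0 LD2_c6 LD3_c12) Lrfl Lrfl
theorem f25739 : Led Lsl_gt (LP (LK LD1_c0 LD2_c4 LD3_c1)) = (LP (LK LD1_c0 LD2_c6 LD3_c12)) :=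
  Lgr Lrot131 (Lpe (f7181 IH) (Lpr_dt (K0.f7173 IH) (Lpe (K0.f7169 IH) (Lpe (K0.f20256 IH) (Lpr_gf (K0.f25722 IH) (Lpe (K0.f13609 IH) (Lpr_dt (K1.f7001 IH) (Lpe (K0.f6975 IH) (Lpe (K0.f25737 IH) (Lpr_et (f25738 IH) (Lpn (LP (LK LD1_c0 LD2_c6 LD3_c12)))))))))))))
theorem f7174 : Led Lsl_et (LP (LK LD1_c0 LD2_c4 LD3_c1)) = (LP (LK LD1_c0 LD2_c1 LD3_c45)) :=
  Lre_e IH (LK LD1_c0 LD2_c4 LD3_c1) (LK LD1_c0 LD2_c1 LD3_c45) Lrfl Lrfl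
theorem f82528 : Led Lsl_et (LP (LK LD1_c0 LD2_c2 LD3_c52)) = (LP (LK LD1_c0 LD2_c2 LD3_c52)) :=
  Lgr Lrot185 (Lpr_dt (f34726 IH) (Lpq (K0.f26331 IH) (Lpe (K0.f7098 IH) (Lpe (K0.f25147 IH) (Lpe (K0.f3970 IH) (Lpe (f7139 IH) (Lpr_dt (f82517 IH) (Lpe (f25739 IH) (Lpe (K0.f7414 IH) (Lpr_et (f7174 IH) (Lpe (K0.f7178 IH) (Lpn (LP (LK LD1_c0 LD2_c2 LD3_c52))))))))))))))
theorem f82532 : Led Lsl_ef (LP (LK LD1_c0 LD2_c6 LD3_c13)) = (LP (LK LD1_c0 LD2_c6 LD3_c13)) :=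
  Lgr Lrot28 (Lpr_ct (K0.f26045 IH) (Lpr_et (f82528 IH) (Lpr_ct (K0.f13604 IH) (Lpn (LP (LK LD1_c0 LD2_c6 LD3_c13))))))
theorem f26060 : Led Lsl_et (LP (LK LD1_c0 LD2_c6 LD3_c11)) = (LP (LK LD1_c0 LD2_c13 LD3_c35)) :=
  Lre_e IH (LK LD1_c0 LD2_c6 LD3_c11) (LK LD1_c0 LD2_c13 LD3_c35) Lrfl Lrfl
theorem f83186 : Led Lsl_gt (LP (LK LD1_c0 LD2_c13 LD3_c35)) = (LP (LK LD1_c0 LD2_c18 LD3_c30)) :=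
  Lgr Lrot131 (Lpe (f26060 IH) (Lpr_dt (K0.f26059 IH) (Lpr_gf (K0.f26049 IH) (Lpe (K0.f26048 IH) (Lpe (K0.f26023 IH) (Lpr_ef (f82532 IH) (Lpr_dt (K0.f26053 IH) (Lpe (K1.f61666 IH) (Lpe (K1.f25048 IH) (Lpr_et (K1.f25049 IH) (Lpn (LP (LK LD1_c0 LD2_c18 LD3_c30)))))))))))))
theorem f67378 : Led Lsl_af (LP (LK LD1_c0 LD2_c18 LD3_c30)) = (LP (LK LD1_c0 LD2_c18 LD3_c60)) :=
  Lgr Lrot0 (Lpr_at (K1.f67376 IH) (Lpn (LP (LK LD1_c0 LD2_c18 LD3_c60))))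
theorem f83935 : Led Lsl_gf (LP (LK LD1_c0 LD2_c13 LD3_c35)) = (LP (LK LD1_c0 LD2_c20 LD3_c22)) :=
  Lgr Lrot47 (Lpr_gt (f83186 IH) (Lpr_af (f67378 IH) (Lpe (K1.f67399 IH) (Lpn (LP (LK LD1_c0 LD2_c20 LD3_c22))))))
theorem f7438 : Led Lsl_ft (LP (LK LD1_c0 LD2_c4 LD3_c1)) = (LP (LK LD1_c0 LD2_c8 LD3_c8)) :=
  Lre_f IH (LK LD1_c0 LD2_c4 LD3_c1) (LK LD1_c0 LD2_c8 LD3_c8) Lrfl Lrfl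
theorem f20974 : Led Lsl_et (LP (LK LD1_c0 LD2_c8 LD3_c8)) = (LP (LK LD1_c0 LD2_c3 LD3_c44)) :=
  Lre_e IH (LK LD1_c0 LD2_c8 LD3_c8) (LK LD1_c0 LD2_c3 LD3_c44) Lrfl Lrfl
theorem f25150 : Led Lsl_at (LP (LK LD1_c0 LD2_c8 LD3_c18)) = (LP (LK LD1_c0 LD2_c8 LD3_c8)) :=
  Lgr Lrot80 (Lpe (K0.f25149 IH) (Lpr_af (K0.f24958 IH) (Lpe (f20974 IH) (Lpn (LP (LK LD1_c0 LD2_c8 LD3_c8))))))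
theorem f7395 : Led Lsl_bt (LP (LK LD1_c0 LD2_c4 LD3_c33)) = (LP (LK LD1_c0 LD2_c8 LD3_c8)) :=
  Lre_b IH (LK LD1_c0 LD2_c4 LD3_c33) (LK LD1_c0 LD2_c8 LD3_c8) Lrfl Lrfl
theorem f7396 : Led Lsl_df (LP (LK LD1_c0 LD2_c8 LD3_c8)) = (LP (LK LD1_c0 LD2_c8 LD3_c8)) :=
  Lgr Lrot12 (Lpr_bt (K1.f7394 IH) (Lpr_dt (K0.f7392 IH) (Lpr_bt (f7395 IH) (Lpn (LP (LK LD1_c0 LD2_c8 LD3_c8))))))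
theorem f25704 : Led Lsl_at (LP (LK LD1_c0 LD2_c8 LD3_c8)) = (LP (LK LD1_c0 LD2_c8 LD3_c18)) :=
  Lgr Lrot51 (Lpr_df (f7396 IH) (Lpe (f25150 IH) (Lpr_df (K0.f25698 IH) (Lpn (LP (LK LD1_c0 LD2_c8 LD3_c18))))))
theorem f25741 : Led Lsl_gf (LP (LK LD1_c0 LD2_c8 LD3_c18)) = (LP (LK LD1_c0 LD2_c6 LD3_c12)) :=
  Lgr Lrot76 (Lpe (f25704 IH) (Lpe (f7438 IH) (Lpr_gt (f25739 IH) (Lpn (LP (LK LD1_c0 LD2_c6 LD3_c12))))))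
theorem f13535 : Led Lsl_et (LP (LK LD1_c0 LD2_c20 LD3_c22)) = (LP (LK LD1_c0 LD2_c9 LD3_c10)) :=
  Lre_e IH (LK LD1_c0 LD2_c20 LD3_c22) (LK LD1_c0 LD2_c9 LD3_c10) Lrfl Lrfl
theorem f61776 : Led Lsl_gt (LP (LK LD1_c0 LD2_c41 LD3_c54)) = (LP (LK LD1_c0 LD2_c18 LD3_c42)) :=
  Lre_g IH (LK LD1_c0 LD2_c41 LD3_c54) (LK LD1_c0 LD2_c18 LD3_c42) Lrfl Lrfl
theorem f83188 : Led Lsl_dt (LP (LK LD1_c0 LD2_c20 LD3_c22)) = (LP (LK LD1_c0 LD2_c41 LD3_c54)) :=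
  Lgr Lrot136 (Lpr_et (f13535 IH) (Lpe (K0.f26023 IH) (Lpr_ef (f82532 IH) (Lpr_dt (K0.f26053 IH) (Lpe (K1.f61666 IH) (Lpe (K1.f25048 IH) (Lpe (K0.f24960 IH) (Lpe (K1.f61774 IH) (Lpr_dt (K1.f61775 IH) (Lpe (f61776 IH) (Lpn (LP (LK LD1_c0 LD2_c41 LD3_c54)))))))))))))
theorem f83196 : Led Lsl_df (LP (LK LD1_c0 LD2_c20 LD3_c22)) = (LP (LK LD1_c0 LD2_c41 LD3_c54)) :=
  Lgr Lrot38 (Lpr_dt (f83188 IH) (Lpn (LP (LK LD1_c0 LD2_c41 LD3_c54))))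
theorem f67082 : Led Lsl_ct (LP (LK LD1_c0 LD2_c18 LD3_c42)) = (LP (LK LD1_c0 LD2_c41 LD3_c55)) :=
  Lre_c IH (LK LD1_c0 LD2_c18 LD3_c42) (LK LD1_c0 LD2_c41 LD3_c55) Lrfl Lrfl
theorem f83939 : Led Lsl_gf (LP (LK LD1_c1 LD2_c29 LD3_c11)) = (LP (LK LD1_c0 LD2_c41 LD3_c55)) :=
  Lgr Lrot104 (Lpr_ct (K1.f25614 IH) (Lpe (K0.f25441 IH) (Lpe (K0.f25674 IH) (Lpr_gf (f25741 IH) (Lpe (f25752 IH) (Lpr_gf (f83935 IH) (Lpr_df (f83196 IH) (Lpr_gt (f61776 IH) (Lpr_ct (f67082 IH) (Lpn (LP (LK LD1_c0 LD2_c41 LD3_c55))))))))))))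
theorem f7469 : Led Lsl_at (LP (LK LD1_c0 LD2_c45 LD3_c7)) = (LP (LK LD1_c1 LD2_c8 LD3_c37)) :=
  Lre_a IH (LK LD1_c0 LD2_c45 LD3_c7) (LK LD1_c1 LD2_c8 LD3_c37) Lrfl Lrfl
theorem f7487 : Led Lsl_ct (LP (LK LD1_c0 LD2_c18 LD3_c7)) = (LP (LK LD1_c0 LD2_c8 LD3_c8)) :=
  Lre_c IH (LK LD1_c0 LD2_c18 LD3_c7) (LK LD1_c0 LD2_c8 LD3_c8) Lrfl Lrfl
theorem f7488 : Led Lsl_dt (LP (LK LD1_c0 LD2_c40 LD3_c29)) = (LP (LK LD1_c0 LD2_c18 LD3_c7)) :=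
  Lre_d IH (LK LD1_c0 LD2_c40 LD3_c29) (LK LD1_c0 LD2_c18 LD3_c7) Lrfl Lrfl
theorem f7489 : Led Lsl_ct (LP (LK LD1_c1 LD2_c27 LD3_c31)) = (LP (LK LD1_c0 LD2_c40 LD3_c29)) :=
  Lre_c IH (LK LD1_c1 LD2_c27 LD3_c31) (LK LD1_c0 LD2_c40 LD3_c29) Lrfl Lrfl
theorem f7454 : Led Lsl_ct (LP (LK LD1_c0 LD2_c31 LD3_c23)) = (LP (LK LD1_c1 LD2_c8 LD3_c37)) :=
  Lre_c IH (LK LD1_c0 LD2_c31 LD3_c23) (LK LD1_c1 LD2_c8 LD3_c37) Lrfl Lrfl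
theorem f7490 : Led Lsl_df (LP (LK LD1_c1 LD2_c27 LD3_c31)) = (LP (LK LD1_c1 LD2_c8 LD3_c37)) :=
  Lgr Lrot43 (Lpr_ct (f7489 IH) (Lpr_dt (f7488 IH) (Lpr_ct (f7487 IH) (Lpe (f7396 IH) (Lpr_ct (K1.f7486 IH) (Lpr_dt (K0.f7465 IH) (Lpr_ct (K0.f7466 IH) (Lpr_dt (K0.f7467 IH) (Lpr_ct (K0.f7457 IH) (Lpr_dt (K0.f7456 IH) (Lpr_ct (K0.f7455 IH) (Lpe (K0.f7429 IH) (Lpr_ct (K0.f7452 IH) (Lpr_dt (K0.f7453 IH) (Lpr_ct (f7454 IH) (Lpn (LP (LK LD1_c1 LD2_c8 LD3_c37))))))))))))))))))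
theorem f25686 : Led Lsl_af (LP (LK LD1_c1 LD2_c29 LD3_c11)) = (LP (LK LD1_c1 LD2_c27 LD3_c31)) :=
  Lgr Lrot117 (Lpr_dt (K0.f25684 IH) (Lpr_at (f7469 IH) (Lpe (f7490 IH) (Lpn (LP (LK LD1_c1 LD2_c27 LD3_c31))))))
theorem f7498 : Led Lsl_ft (LP (LK LD1_c0 LD2_c45 LD3_c7)) = (LP (LK LD1_c1 LD2_c27 LD3_c31)) :=
  Lre_f IH (LK LD1_c0 LD2_c45 LD3_c7) (LK LD1_c1 LD2_c27 LD3_c31) Lrfl Lrfl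
theorem f84011 : Led Lsl_gt (LP (LK LD1_c0 LD2_c45 LD3_c7)) = (LP (LK LD1_c0 LD2_c41 LD3_c55)) :=
  Lgr Lrot5 (Lpr_ft (f7498 IH) (Lpe (f25686 IH) (Lpr_gf (f83939 IH) (Lpn (LP (LK LD1_c0 LD2_c41 LD3_c55))))))
theorem f25463 : Led Lsl_bt (LP (LK LD1_c1 LD2_c37 LD3_c32)) = (LP (LK LD1_c0 LD2_c45 LD3_c7)) :=
  Lre_b IH (LK LD1_c1 LD2_c37 LD3_c32) (LK LD1_c0 LD2_c45 LD3_c7) Lrfl Lrfl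
theorem f57771 : Led Lsl_gt (LP (LK LD1_c6 LD2_c41 LD3_c44)) = (LP (LK LD1_c3 LD2_c18 LD3_c55)) :=
  Lre_g IH (LK LD1_c6 LD2_c41 LD3_c44) (LK LD1_c3 LD2_c18 LD3_c55) Lrfl Lrfl
theorem f67085 : Led Lsl_ct (LP (LK LD1_c0 LD2_c41 LD3_c55)) = (LP (LK LD1_c0 LD2_c18 LD3_c42)) :=
  Lre_c IH (LK LD1_c0 LD2_c41 LD3_c55) (LK LD1_c0 LD2_c18 LD3_c42) Lrfl Lrfl
theorem f25060 : Led Lsl_ct (LP (LK LD1_c1 LD2_c29 LD3_c30)) = (LP (LK LD1_c0 LD2_c41 LD3_c21)) :=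
  Lre_c IH (LK LD1_c1 LD2_c29 LD3_c30) (LK LD1_c0 LD2_c41 LD3_c21) Lrfl Lrfl
theorem f67092 : Led Lsl_bt (LP (LK LD1_c1 LD2_c29 LD3_c30)) = (LP (LK LD1_c3 LD2_c6 LD3_c48)) :=
  Lre_b IH (LK LD1_c1 LD2_c29 LD3_c30) (LK LD1_c3 LD2_c6 LD3_c48) Lrfl Lrfl
theorem f67093 : Led Lsl_gt (LP (LK LD1_c3 LD2_c6 LD3_c48)) = (LP (LK LD1_c6 LD2_c18 LD3_c56)) :=
  Lre_g IH (LK LD1_c3 LD2_c6 LD3_c48) (LK LD1_c6 LD2_c18 LD3_c56) Lrfl Lrfl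
theorem f67094 : Led Lsl_bt (LP (LK LD1_c12 LD2_c13 LD3_c39)) = (LP (LK LD1_c6 LD2_c18 LD3_c56)) :=
  Lre_b IH (LK LD1_c12 LD2_c13 LD3_c39) (LK LD1_c6 LD2_c18 LD3_c56) Lrfl Lrfl
theorem f84052 : Led Lsl_cf (LP (LK LD1_c6 LD2_c41 LD3_c44)) = (LP (LK LD1_c12 LD2_c13 LD3_c39)) :=
  Lgr Lrot160 (Lpr_gt (f57771 IH) (Lpe (K1.f25464 IH) (Lpr_bt (f25463 IH) (Lpr_gt (f84011 IH) (Lpr_ct (f67085 IH) (Lpr_gt (K1.f67079 IH) (Lpe (f25060 IH) (Lpr_bt (f67092 IH) (Lpr_gt (f67093 IH) (Lpe (f67094 IH) (Lpn (LP (LK LD1_c12 LD2_c13 LD3_c39)))))))))))))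
theorem f84066 : Led Lsl_gt (LP (LK LD1_c12 LD2_c3 LD3_c28)) = (LP (LK LD1_c6 LD2_c41 LD3_c44)) :=
  Lre_g IH (LK LD1_c12 LD2_c3 LD3_c28) (LK LD1_c6 LD2_c41 LD3_c44) Lrfl Lrfl
theorem f25476 : Led Lsl_ct (LP (LK LD1_c6 LD2_c13 LD3_c3)) = (LP (LK LD1_c12 LD2_c3 LD3_c28)) :=
  Lre_c IH (LK LD1_c6 LD2_c13 LD3_c3) (LK LD1_c12 LD2_c3 LD3_c28) Lrfl Lrfl
theorem f84067 : Led Lsl_gt (LP (LK LD1_c3 LD2_c22 LD3_c32)) = (LP (LK LD1_c6 LD2_c13 LD3_c3)) :=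
  Lre_g IH (LK LD1_c3 LD2_c22 LD3_c32) (LK LD1_c6 LD2_c13 LD3_c3) Lrfl Lrfl
theorem f84068 : Led Lsl_bt (LP (LK LD1_c6 LD2_c48 LD3_c52)) = (LP (LK LD1_c3 LD2_c22 LD3_c32)) :=
  Lre_b IH (LK LD1_c6 LD2_c48 LD3_c52) (LK LD1_c3 LD2_c22 LD3_c32) Lrfl Lrfl
theorem f67414 : Led Lsl_bt (LP (LK LD1_c3 LD2_c11 LD3_c53)) = (LP (LK LD1_c1 LD2_c32 LD3_c18)) :=
  Lre_b IH (LK LD1_c3 LD2_c11 LD3_c53) (LK LD1_c1 LD2_c32 LD3_c18) Lrfl Lrfl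
theorem f67522 : Led Lsl_ft (LP (LK LD1_c3 LD2_c6 LD3_c48)) = (LP (LK LD1_c3 LD2_c11 LD3_c53)) :=
  Lgr Lrot75 (Lpe (f67092 IH) (Lpr_ff (f67520 IH) (Lpe (f67414 IH) (Lpn (LP (LK LD1_c3 LD2_c11 LD3_c53))))))
theorem f67938 : Led Lsl_at (LP (LK LD1_c3 LD2_c11 LD3_c53)) = (LP (LK LD1_c6 LD2_c27 LD3_c61)) :=
  Lre_a IH (LK LD1_c3 LD2_c11 LD3_c53) (LK LD1_c6 LD2_c27 LD3_c61) Lrfl Lrfl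
theorem f67985 : Led Lsl_gt (LP (LK LD1_c6 LD2_c18 LD3_c56)) = (LP (LK LD1_c6 LD2_c27 LD3_c61)) :=
  Lgr Lrot46 (Lpe (f67093 IH) (Lpr_ft (f67522 IH) (Lpr_at (f67938 IH) (Lpn (LP (LK LD1_c6 LD2_c27 LD3_c61))))))
theorem f83195 : Led Lsl_ct (LP (LK LD1_c0 LD2_c41 LD3_c54)) = (LP (LK LD1_c1 LD2_c30 LD3_c48)) :=
  Lre_c IH (LK LD1_c0 LD2_c41 LD3_c54) (LK LD1_c1 LD2_c30 LD3_c48) Lrfl Lrfl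
theorem f83203 : Led Lsl_df (LP (LK LD1_c1 LD2_c29 LD3_c30)) = (LP (LK LD1_c1 LD2_c30 LD3_c48)) :=
  Lgr Lrot106 (Lpr_ct (f25060 IH) (Lpr_dt (K1.f25059 IH) (Lpr_ct (K1.f25050 IH) (Lpr_dt (K1.f9655 IH) (Lpe (K1.f25057 IH) (Lpr_af (f67378 IH) (Lpe (K1.f67399 IH) (Lpr_dt (f83188 IH) (Lpr_ct (f83195 IH) (Lpn (LP (LK LD1_c1 LD2_c30 LD3_c48))))))))))))
theorem f25062 : Led Lsl_ct (LP (LK LD1_c0 LD2_c41 LD3_c21)) = (LP (LK LD1_c1 LD2_c29 LD3_c30)) :=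
  Lre_c IH (LK LD1_c0 LD2_c41 LD3_c21) (LK LD1_c1 LD2_c29 LD3_c30) Lrfl Lrfl
theorem f67427 : Led Lsl_af (LP (LK LD1_c1 LD2_c29 LD3_c30)) = (LP (LK LD1_c1 LD2_c32 LD3_c13)) :=
  Lgr Lrot68 (Lpr_ct (f25060 IH) (Lpr_at (f67419 IH) (Lpr_ct (f25819 IH) (Lpn (LP (LK LD1_c1 LD2_c32 LD3_c13))))))
theorem f83221 : Led Lsl_ff (LP (LK LD1_c1 LD2_c32 LD3_c13)) = (LP (LK LD1_c1 LD2_c30 LD3_c48)) :=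
  Lgr Lrot103 (Lpe (f67427 IH) (Lpe (f25062 IH) (Lpe (K1.f25061 IH) (Lpr_cf (K1.f25057 IH) (Lpe (K1.f9655 IH) (Lpe (K1.f25050 IH) (Lpe (K1.f25059 IH) (Lpe (f25060 IH) (Lpr_df (f83203 IH) (Lpn (LP (LK LD1_c1 LD2_c30 LD3_c48))))))))))))
theorem f67478 : Led Lsl_ft (LP (LK LD1_c3 LD2_c11 LD3_c45)) = (LP (LK LD1_c6 LD2_c27 LD3_c49)) :=
  Lre_f IH (LK LD1_c3 LD2_c11 LD3_c45) (LK LD1_c6 LD2_c27 LD3_c49) Lrfl Lrfl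
theorem f83215 : Led Lsl_et (LP (LK LD1_c3 LD2_c9 LD3_c18)) = (LP (LK LD1_c1 LD2_c30 LD3_c48)) :=
  Lre_e IH (LK LD1_c3 LD2_c9 LD3_c18) (LK LD1_c1 LD2_c30 LD3_c48) Lrfl Lrfl
theorem f83228 : Led Lsl_ft (LP (LK LD1_c6 LD2_c23 LD3_c23)) = (LP (LK LD1_c3 LD2_c9 LD3_c18)) :=
  Lre_f IH (LK LD1_c6 LD2_c23 LD3_c23) (LK LD1_c3 LD2_c9 LD3_c18) Lrfl Lrfl
theorem f83229 : Led Lsl_et (LP (LK LD1_c6 LD2_c27 LD3_c49)) = (LP (LK LD1_c6 LD2_c23 LD3_c23)) :=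
  Lgr Lrot69 (Lpe (f67478 IH) (Lpe (f67413 IH) (Lpr_ff (f83221 IH) (Lpe (f83215 IH) (Lpe (f83228 IH) (Lpn (LP (LK LD1_c6 LD2_c23 LD3_c23))))))))
theorem f83239 : Led Lsl_ef (LP (LK LD1_c6 LD2_c27 LD3_c49)) = (LP (LK LD1_c6 LD2_c23 LD3_c23)) :=
  Lgr Lrot88 (Lpr_et (f83229 IH) (Lpn (LP (LK LD1_c6 LD2_c23 LD3_c23))))
theorem f83246 : Led Lsl_ct (LP (LK LD1_c3 LD2_c9 LD3_c21)) = (LP (LK LD1_c6 LD2_c23 LD3_c23)) :=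
  Lre_c IH (LK LD1_c3 LD2_c9 LD3_c21) (LK LD1_c6 LD2_c23 LD3_c23) Lrfl Lrfl
theorem f83247 : Led Lsl_et (LP (LK LD1_c3 LD2_c11 LD3_c48)) = (LP (LK LD1_c3 LD2_c9 LD3_c21)) :=
  Lgr Lrot158 (Lpe (f67450 IH) (Lpr_ef (f83239 IH) (Lpe (f83246 IH) (Lpn (LP (LK LD1_c3 LD2_c9 LD3_c21))))))
theorem f76809 : Led Lsl_at (LP (LK LD1_c1 LD2_c38 LD3_c13)) = (LP (LK LD1_c3 LD2_c23 LD3_c10)) :=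
  Lre_a IH (LK LD1_c1 LD2_c38 LD3_c13) (LK LD1_c3 LD2_c23 LD3_c10) Lrfl Lrfl
theorem f76810 : Led Lsl_df (LP (LK LD1_c1 LD2_c38 LD3_c13)) = (LP (LK LD1_c3 LD2_c6 LD3_c58)) :=
  Lgr Lrot18 (Lpr_at (f76809 IH) (Lpr_dt (f76800 IH) (Lpr_at (f66924 IH) (Lpn (LP (LK LD1_c3 LD2_c6 LD3_c58))))))
theorem f73785 : Led Lsl_bt (LP (LK LD1_c1 LD2_c38 LD3_c13)) = (LP (LK LD1_c0 LD2_c45 LD3_c37)) :=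
  Lre_b IH (LK LD1_c1 LD2_c38 LD3_c13) (LK LD1_c0 LD2_c45 LD3_c37) Lrfl Lrfl
theorem f76918 : Led Lsl_dt (LP (LK LD1_c0 LD2_c45 LD3_c37)) = (LP (LK LD1_c1 LD2_c29 LD3_c39)) :=
  Lgr Lrot79 (Lpe (f73785 IH) (Lpr_df (f76810 IH) (Lpe (K1.f66926 IH) (Lpn (LP (LK LD1_c1 LD2_c29 LD3_c39))))))
theorem f40500 : Led Lsl_et (LP (LK LD1_c1 LD2_c38 LD3_c28)) = (LP (LK LD1_c0 LD2_c45 LD3_c37)) :=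
  Lre_e IH (LK LD1_c1 LD2_c38 LD3_c28) (LK LD1_c0 LD2_c45 LD3_c37) Lrfl Lrfl
theorem f83255 : Led Lsl_df (LP (LK LD1_c1 LD2_c38 LD3_c28)) = (LP (LK LD1_c3 LD2_c9 LD3_c21)) :=
  Lgr Lrot70 (Lpr_et (f40500 IH) (Lpr_dt (f76918 IH) (Lpr_et (f66916 IH) (Lpr_dt (f68219 IH) (Lpr_et (f83247 IH) (Lpn (LP (LK LD1_c3 LD2_c9 LD3_c21))))))))
theorem f40319 : Led Lsl_ft (LP (LK LD1_c2 LD2_c26 LD3_c58)) = (LP (LK LD1_c1 LD2_c10 LD3_c57)) :=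
  Lre_f IH (LK LD1_c2 LD2_c26 LD3_c58) (LK LD1_c1 LD2_c10 LD3_c57) Lrfl Lrfl
theorem f40320 : Led Lsl_bt (LP (LK LD1_c1 LD2_c38 LD3_c19)) = (LP (LK LD1_c2 LD2_c26 LD3_c58)) :=
  Lre_b IH (LK LD1_c1 LD2_c38 LD3_c19) (LK LD1_c2 LD2_c26 LD3_c58) Lrfl Lrfl
theorem f40321 : Led Lsl_ft (LP (LK LD1_c1 LD2_c56 LD3_c30)) = (LP (LK LD1_c1 LD2_c38 LD3_c19)) :=
  Lgr Lrot75 (Lpr_bf (K1.f40299 IH) (Lpe (f40319 IH) (Lpe (f40320 IH) (Lpn (LP (LK LD1_c1 LD2_c38 LD3_c19))))))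
theorem f40317 : Led Lsl_dt (LP (LK LD1_c1 LD2_c56 LD3_c30)) = (LP (LK LD1_c0 LD2_c55 LD3_c1)) :=
  Lre_d IH (LK LD1_c1 LD2_c56 LD3_c30) (LK LD1_c0 LD2_c55 LD3_c1) Lrfl Lrfl
theorem f40337 : Led Lsl_ct (LP (LK LD1_c0 LD2_c55 LD3_c1)) = (LP (LK LD1_c1 LD2_c55 LD3_c44)) :=
  Lre_c IH (LK LD1_c0 LD2_c55 LD3_c1) (LK LD1_c1 LD2_c55 LD3_c44) Lrfl Lrfl
theorem f40073 : Led Lsl_ct (LP (LK LD1_c3 LD2_c57 LD3_c57)) = (LP (LK LD1_c7 LD2_c57 LD3_c13)) :=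
  Lre_c IH (LK LD1_c3 LD2_c57 LD3_c57) (LK LD1_c7 LD2_c57 LD3_c13) Lrfl Lrfl
theorem f40324 : Led Lsl_at (LP (LK LD1_c1 LD2_c38 LD3_c19)) = (LP (LK LD1_c0 LD2_c45 LD3_c33)) :=
  Lre_a IH (LK LD1_c1 LD2_c38 LD3_c19) (LK LD1_c0 LD2_c45 LD3_c33) Lrfl Lrfl
theorem f40338 : Led Lsl_ct (LP (LK LD1_c1 LD2_c38 LD3_c7)) = (LP (LK LD1_c0 LD2_c45 LD3_c33)) :=
  Lre_c IH (LK LD1_c1 LD2_c38 LD3_c7) (LK LD1_c0 LD2_c45 LD3_c33) Lrfl Lrfl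
theorem f40339 : Led Lsl_dt (LP (LK LD1_c3 LD2_c23 LD3_c37)) = (LP (LK LD1_c1 LD2_c38 LD3_c7)) :=
  Lre_d IH (LK LD1_c3 LD2_c23 LD3_c37) (LK LD1_c1 LD2_c38 LD3_c7) Lrfl Lrfl
theorem f14545 : Led Lsl_ct (LP (LK LD1_c6 LD2_c50 LD3_c29)) = (LP (LK LD1_c3 LD2_c23 LD3_c37)) :=
  Lre_c IH (LK LD1_c6 LD2_c50 LD3_c29) (LK LD1_c3 LD2_c23 LD3_c37) Lrfl Lrfl
theorem f40340 : Led Lsl_dt (LP (LK LD1_c7 LD2_c57 LD3_c13)) = (LP (LK LD1_c6 LD2_c50 LD3_c29)) :=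
  Lgr Lrot140 (Lpe (f40073 IH) (Lpe (K1.f40080 IH) (Lpe (f40337 IH) (Lpe (f40317 IH) (Lpr_ft (f40321 IH) (Lpr_at (f40324 IH) (Lpe (f40338 IH) (Lpe (f40339 IH) (Lpe (f14545 IH) (Lpn (LP (LK LD1_c6 LD2_c50 LD3_c29))))))))))))
theorem f40349 : Led Lsl_ff (LP (LK LD1_c8 LD2_c0 LD3_c39)) = (LP (LK LD1_c6 LD2_c50 LD3_c29)) :=
  Lgr Lrot19 (Lpr_dt (K1.f40038 IH) (Lpe (K1.f40058 IH) (Lpr_dt (f40340 IH) (Lpn (LP (LK LD1_c6 LD2_c50 LD3_c29))))))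
theorem f40358 : Led Lsl_ft (LP (LK LD1_c8 LD2_c0 LD3_c39)) = (LP (LK LD1_c6 LD2_c50 LD3_c29)) :=
  Lgr Lrot48 (Lpr_ff (f40349 IH) (Lpn (LP (LK LD1_c6 LD2_c50 LD3_c29))))
theorem f40363 : Led Lsl_ff (LP (LK LD1_c3 LD2_c59 LD3_c48)) = (LP (LK LD1_c3 LD2_c23 LD3_c37)) :=
  Lgr Lrot23 (Lpr_ct (K1.f40037 IH) (Lpr_ft (f40358 IH) (Lpr_ct (f14545 IH) (Lpn (LP (LK LD1_c3 LD2_c23 LD3_c37))))))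
theorem f40353 : Led Lsl_dt (LP (LK LD1_c1 LD2_c38 LD3_c7)) = (LP (LK LD1_c3 LD2_c23 LD3_c37)) :=
  Lre_d IH (LK LD1_c1 LD2_c38 LD3_c7) (LK LD1_c3 LD2_c23 LD3_c37) Lrfl Lrfl
theorem f40367 : Led Lsl_ft (LP (LK LD1_c1 LD2_c56 LD3_c33)) = (LP (LK LD1_c1 LD2_c38 LD3_c7)) :=
  Lgr Lrot54 (Lpe (K1.f40053 IH) (Lpr_ff (f40363 IH) (Lpe (f40353 IH) (Lpn (LP (LK LD1_c1 LD2_c38 LD3_c7))))))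
theorem f40376 : Led Lsl_ff (LP (LK LD1_c1 LD2_c56 LD3_c33)) = (LP (LK LD1_c1 LD2_c38 LD3_c7)) :=
  Lgr Lrot3 (Lpr_ft (f40367 IH) (Lpn (LP (LK LD1_c1 LD2_c38 LD3_c7))))
theorem f40394 : Led Lsl_bt (LP (LK LD1_c0 LD2_c45 LD3_c29)) = (LP (LK LD1_c1 LD2_c38 LD3_c7)) :=
  Lre_b IH (LK LD1_c0 LD2_c45 LD3_c29) (LK LD1_c1 LD2_c38 LD3_c7) Lrfl Lrfl
theorem f40395 : Led Lsl_ft (LP (LK LD1_c1 LD2_c38 LD3_c10)) = (LP (LK LD1_c0 LD2_c45 LD3_c29)) :=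
  Lre_f IH (LK LD1_c1 LD2_c38 LD3_c10) (LK LD1_c0 LD2_c45 LD3_c29) Lrfl Lrfl
theorem f40396 : Led Lsl_bt (LP (LK LD1_c1 LD2_c56 LD3_c33)) = (LP (LK LD1_c1 LD2_c38 LD3_c10)) :=
  Lgr Lrot35 (Lpr_ff (f40376 IH) (Lpe (f40394 IH) (Lpe (f40395 IH) (Lpn (LP (LK LD1_c1 LD2_c38 LD3_c10))))))
theorem f40373 : Led Lsl_et (LP (LK LD1_c3 LD2_c59 LD3_c49)) = (LP (LK LD1_c1 LD2_c56 LD3_c33)) :=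
  Lre_e IH (LK LD1_c3 LD2_c59 LD3_c49) (LK LD1_c1 LD2_c56 LD3_c33) Lrfl Lrfl
theorem f15036 : Led Lsl_et (LP (LK LD1_c1 LD2_c38 LD3_c10)) = (LP (LK LD1_c3 LD2_c23 LD3_c46)) :=
  Lre_e IH (LK LD1_c1 LD2_c38 LD3_c10) (LK LD1_c3 LD2_c23 LD3_c46) Lrfl Lrfl
theorem f40423 : Led Lsl_bf (LP (LK LD1_c3 LD2_c59 LD3_c49)) = (LP (LK LD1_c3 LD2_c23 LD3_c46)) :=
  Lgr Lrot96 (Lpr_et (f40373 IH) (Lpr_bt (f40396 IH) (Lpr_et (f15036 IH) (Lpn (LP (LK LD1_c3 LD2_c23 LD3_c46))))))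
theorem f40432 : Led Lsl_ct (LP (LK LD1_c3 LD2_c59 LD3_c49)) = (LP (LK LD1_c1 LD2_c56 LD3_c34)) :=
  Lre_c IH (LK LD1_c3 LD2_c59 LD3_c49) (LK LD1_c1 LD2_c56 LD3_c34) Lrfl Lrfl
theorem f40433 : Led Lsl_bt (LP (LK LD1_c1 LD2_c56 LD3_c34)) = (LP (LK LD1_c0 LD2_c55 LD3_c3)) :=
  Lre_b IH (LK LD1_c1 LD2_c56 LD3_c34) (LK LD1_c0 LD2_c55 LD3_c3) Lrfl Lrfl
theorem f40434 : Led Lsl_ct (LP (LK LD1_c1 LD2_c38 LD3_c14)) = (LP (LK LD1_c3 LD2_c23 LD3_c46)) :=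
  Lre_c IH (LK LD1_c1 LD2_c38 LD3_c14) (LK LD1_c3 LD2_c23 LD3_c46) Lrfl Lrfl
theorem f40435 : Led Lsl_bt (LP (LK LD1_c0 LD2_c45 LD3_c38)) = (LP (LK LD1_c1 LD2_c38 LD3_c14)) :=
  Lre_b IH (LK LD1_c0 LD2_c45 LD3_c38) (LK LD1_c1 LD2_c38 LD3_c14) Lrfl Lrfl
theorem f40436 : Led Lsl_ct (LP (LK LD1_c0 LD2_c55 LD3_c3)) = (LP (LK LD1_c0 LD2_c45 LD3_c38)) :=
  Lgr Lrot83 (Lpe (f40433 IH) (Lpe (f40432 IH) (Lpr_bf (f40423 IH) (Lpe (f40434 IH) (Lpe (f40435 IH) (Lpn (LP (LK LD1_c0 LD2_c45 LD3_c38))))))))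
theorem f36275 : Led Lsl_ft (LP (LK LD1_c1 LD2_c56 LD3_c37)) = (LP (LK LD1_c0 LD2_c55 LD3_c3)) :=
  Lre_f IH (LK LD1_c1 LD2_c56 LD3_c37) (LK LD1_c0 LD2_c55 LD3_c3) Lrfl Lrfl
theorem f40466 : Led Lsl_ft (LP (LK LD1_c0 LD2_c45 LD3_c38)) = (LP (LK LD1_c1 LD2_c38 LD3_c28)) :=
  Lre_f IH (LK LD1_c0 LD2_c45 LD3_c38) (LK LD1_c1 LD2_c38 LD3_c28) Lrfl Lrfl
theorem f40467 : Led Lsl_cf (LP (LK LD1_c1 LD2_c56 LD3_c37)) = (LP (LK LD1_c1 LD2_c38 LD3_c28)) :=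
  Lgr Lrot108 (Lpr_ft (f36275 IH) (Lpr_ct (f40436 IH) (Lpr_ft (f40466 IH) (Lpn (LP (LK LD1_c1 LD2_c38 LD3_c28))))))
theorem f40491 : Led Lsl_dt (LP (LK LD1_c1 LD2_c56 LD3_c37)) = (LP (LK LD1_c3 LD2_c59 LD3_c15)) :=
  Lre_d IH (LK LD1_c1 LD2_c56 LD3_c37) (LK LD1_c3 LD2_c59 LD3_c15) Lrfl Lrfl
theorem f40916 : Led Lsl_dt (LP (LK LD1_c2 LD2_c26 LD3_c48)) = (LP (LK LD1_c1 LD2_c11 LD3_c4)) :=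
  Lre_d IH (LK LD1_c2 LD2_c26 LD3_c48) (LK LD1_c1 LD2_c11 LD3_c4) Lrfl Lrfl
theorem f40917 : Led Lsl_af (LP (LK LD1_c1 LD2_c56 LD3_c37)) = (LP (LK LD1_c1 LD2_c11 LD3_c4)) :=
  Lgr Lrot117 (Lpr_dt (f40491 IH) (Lpr_at (K1.f40901 IH) (Lpr_dt (f40916 IH) (Lpn (LP (LK LD1_c1 LD2_c11 LD3_c4))))))
theorem f40954 : Led Lsl_ft (LP (LK LD1_c0 LD2_c32 LD3_c56)) = (LP (LK LD1_c1 LD2_c11 LD3_c4)) :=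
  Lre_f IH (LK LD1_c0 LD2_c32 LD3_c56) (LK LD1_c1 LD2_c11 LD3_c4) Lrfl Lrfl
theorem f40940 : Led Lsl_dt (LP (LK LD1_c0 LD2_c32 LD3_c56)) = (LP (LK LD1_c1 LD2_c10 LD3_c39)) :=
  Lre_d IH (LK LD1_c0 LD2_c32 LD3_c56) (LK LD1_c1 LD2_c10 LD3_c39) Lrfl Lrfl
theorem f40976 : Led Lsl_ct (LP (LK LD1_c1 LD2_c10 LD3_c39)) = (LP (LK LD1_c2 LD2_c26 LD3_c45)) :=
  Lre_c IH (LK LD1_c1 LD2_c10 LD3_c39) (LK LD1_c2 LD2_c26 LD3_c45) Lrfl Lrfl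
theorem f40970 : Led Lsl_dt (LP (LK LD1_c2 LD2_c26 LD3_c45)) = (LP (LK LD1_c4 LD2_c57 LD3_c50)) :=
  Lre_d IH (LK LD1_c2 LD2_c26 LD3_c45) (LK LD1_c4 LD2_c57 LD3_c50) Lrfl Lrfl
theorem f77405 : Led Lsl_ct (LP (LK LD1_c4 LD2_c57 LD3_c50)) = (LP (LK LD1_c9 LD2_c46 LD3_c35)) :=
  Lre_c IH (LK LD1_c4 LD2_c57 LD3_c50) (LK LD1_c9 LD2_c46 LD3_c35) Lrfl Lrfl
theorem f83236 : Led Lsl_ct (LP (LK LD1_c6 LD2_c23 LD3_c23)) = (LP (LK LD1_c3 LD2_c9 LD3_c21)) :=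
  Lre_c IH (LK LD1_c6 LD2_c23 LD3_c23) (LK LD1_c3 LD2_c9 LD3_c21) Lrfl Lrfl
theorem f83269 : Led Lsl_dt (LP (LK LD1_c9 LD2_c46 LD3_c35)) = (LP (LK LD1_c6 LD2_c23 LD3_c23)) :=
  Lgr Lrot140 (Lpe (f77405 IH) (Lpe (f40970 IH) (Lpe (f40976 IH) (Lpe (f40940 IH) (Lpr_ft (f40954 IH) (Lpe (f40917 IH) (Lpr_cf (f40467 IH) (Lpr_df (f83255 IH) (Lpe (f83236 IH) (Lpn (LP (LK LD1_c6 LD2_c23 LD3_c23))))))))))))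
theorem f83274 : Led Lsl_df (LP (LK LD1_c9 LD2_c46 LD3_c35)) = (LP (LK LD1_c6 LD2_c23 LD3_c23)) :=
  Lgr Lrot38 (Lpr_dt (f83269 IH) (Lpn (LP (LK LD1_c6 LD2_c23 LD3_c23))))
theorem f40505 : Led Lsl_ct (LP (LK LD1_c9 LD2_c46 LD3_c35)) = (LP (LK LD1_c4 LD2_c57 LD3_c50)) :=
  Lre_c IH (LK LD1_c9 LD2_c46 LD3_c35) (LK LD1_c4 LD2_c57 LD3_c50) Lrfl Lrfl
theorem f40504 : Led Lsl_dt (LP (LK LD1_c4 LD2_c57 LD3_c50)) = (LP (LK LD1_c2 LD2_c26 LD3_c45)) :=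
  Lre_d IH (LK LD1_c4 LD2_c57 LD3_c50) (LK LD1_c2 LD2_c26 LD3_c45) Lrfl Lrfl
theorem f67063 : Led Lsl_dt (LP (LK LD1_c1 LD2_c10 LD3_c39)) = (LP (LK LD1_c0 LD2_c32 LD3_c56)) :=
  Lre_d IH (LK LD1_c1 LD2_c10 LD3_c39) (LK LD1_c0 LD2_c32 LD3_c56) Lrfl Lrfl
theorem f58906 : Led Lsl_et (LP (LK LD1_c0 LD2_c14 LD3_c47)) = (LP (LK LD1_c0 LD2_c32 LD3_c56)) :=
  Lre_e IH (LK LD1_c0 LD2_c14 LD3_c47) (LK LD1_c0 LD2_c32 LD3_c56) Lrfl Lrfl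
theorem f58907 : Led Lsl_et (LP (LK LD1_c0 LD2_c41 LD3_c45)) = (LP (LK LD1_c0 LD2_c18 LD3_c38)) :=
  Lre_e IH (LK LD1_c0 LD2_c41 LD3_c45) (LK LD1_c0 LD2_c18 LD3_c38) Lrfl Lrfl
theorem f58908 : Led Lsl_ct (LP (LK LD1_c0 LD2_c32 LD3_c56)) = (LP (LK LD1_c0 LD2_c41 LD3_c45)) :=
  Lgr Lrot15 (Lpe (f58906 IH) (Lpr_cf (K1.f58852 IH) (Lpe (f58907 IH) (Lpn (LP (LK LD1_c0 LD2_c41 LD3_c45))))))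
theorem f58925 : Led Lsl_dt (LP (LK LD1_c0 LD2_c41 LD3_c45)) = (LP (LK LD1_c1 LD2_c30 LD3_c23)) :=
  Lre_d IH (LK LD1_c0 LD2_c41 LD3_c45) (LK LD1_c1 LD2_c30 LD3_c23) Lrfl Lrfl
theorem f67065 : Led Lsl_ct (LP (LK LD1_c1 LD2_c30 LD3_c23)) = (LP (LK LD1_c3 LD2_c8 LD3_c22)) :=
  Lre_c IH (LK LD1_c1 LD2_c30 LD3_c23) (LK LD1_c3 LD2_c8 LD3_c22) Lrfl Lrfl
theorem f83307 : Led Lsl_af (LP (LK LD1_c3 LD2_c8 LD3_c22)) = (LP (LK LD1_c3 LD2_c9 LD3_c18)) :=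
  Lgr Lrot109 (Lpe (f67065 IH) (Lpe (f58925 IH) (Lpe (f58908 IH) (Lpe (f67063 IH) (Lpe (K1.f40503 IH) (Lpe (f40504 IH) (Lpe (f40505 IH) (Lpr_df (f83274 IH) (Lpr_ft (f83228 IH) (Lpn (LP (LK LD1_c3 LD2_c9 LD3_c18))))))))))))
theorem f77355 : Led Lsl_dt (LP (LK LD1_c3 LD2_c8 LD3_c22)) = (LP (LK LD1_c6 LD2_c21 LD3_c20)) :=
  Lre_d IH (LK LD1_c3 LD2_c8 LD3_c22) (LK LD1_c6 LD2_c21 LD3_c20) Lrfl Lrfl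
theorem f83216 : Led Lsl_dt (LP (LK LD1_c6 LD2_c23 LD3_c22)) = (LP (LK LD1_c3 LD2_c9 LD3_c18)) :=
  Lre_d IH (LK LD1_c6 LD2_c23 LD3_c22) (LK LD1_c3 LD2_c9 LD3_c18) Lrfl Lrfl
theorem f83319 : Led Lsl_at (LP (LK LD1_c6 LD2_c21 LD3_c20)) = (LP (LK LD1_c6 LD2_c23 LD3_c22)) :=
  Lgr Lrot51 (Lpe (f77355 IH) (Lpr_af (f83307 IH) (Lpe (f83216 IH) (Lpn (LP (LK LD1_c6 LD2_c23 LD3_c22))))))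
theorem f77189 : Led Lsl_et (LP (LK LD1_c3 LD2_c8 LD3_c13)) = (LP (LK LD1_c1 LD2_c30 LD3_c20)) :=
  Lre_e IH (LK LD1_c3 LD2_c8 LD3_c13) (LK LD1_c1 LD2_c30 LD3_c20) Lrfl Lrfl
theorem f77190 : Led Lsl_dt (LP (LK LD1_c6 LD2_c21 LD3_c6)) = (LP (LK LD1_c3 LD2_c8 LD3_c13)) :=
  Lre_d IH (LK LD1_c6 LD2_c21 LD3_c6) (LK LD1_c3 LD2_c8 LD3_c13) Lrfl Lrfl
theorem f76732 : Led Lsl_et (LP (LK LD1_c0 LD2_c42 LD3_c47)) = (LP (LK LD1_c1 LD2_c32 LD3_c16)) :=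
  Lgr Lrot158 (Lpr_cf (f13493 IH) (Lpr_ef (f76726 IH) (Lpr_cf (f67713 IH) (Lpn (LP (LK LD1_c1 LD2_c32 LD3_c16))))))
theorem f77191 : Led Lsl_ef (LP (LK LD1_c6 LD2_c21 LD3_c6)) = (LP (LK LD1_c3 LD2_c11 LD3_c49)) :=
  Lgr Lrot73 (Lpr_dt (f77190 IH) (Lpr_et (f77189 IH) (Lpr_dt (f77180 IH) (Lpr_et (f76732 IH) (Lpr_dt (f67712 IH) (Lpn (LP (LK LD1_c3 LD2_c11 LD3_c49))))))))
theorem f77626 : Led Lsl_ct (LP (LK LD1_c6 LD2_c21 LD3_c6)) = (LP (LK LD1_c12 LD2_c16 LD3_c13)) :=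
  Lre_c IH (LK LD1_c6 LD2_c21 LD3_c6) (LK LD1_c12 LD2_c16 LD3_c13) Lrfl Lrfl
theorem f77627 : Led Lsl_et (LP (LK LD1_c12 LD2_c16 LD3_c13)) = (LP (LK LD1_c6 LD2_c27 LD3_c50)) :=
  Lgr Lrot158 (Lpe (f77626 IH) (Lpr_ef (f77191 IH) (Lpe (f67694 IH) (Lpn (LP (LK LD1_c6 LD2_c27 LD3_c50))))))
theorem f77631 : Led Lsl_at (LP (LK LD1_c6 LD2_c21 LD3_c16)) = (LP (LK LD1_c12 LD2_c16 LD3_c13)) :=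
  Lre_a IH (LK LD1_c6 LD2_c21 LD3_c16) (LK LD1_c12 LD2_c16 LD3_c13) Lrfl Lrfl
theorem f67697 : Led Lsl_at (LP (LK LD1_c6 LD2_c27 LD3_c50)) = (LP (LK LD1_c3 LD2_c11 LD3_c52)) :=
  Lre_a IH (LK LD1_c6 LD2_c27 LD3_c50) (LK LD1_c3 LD2_c11 LD3_c52) Lrfl Lrfl
theorem f77632 : Led Lsl_ef (LP (LK LD1_c6 LD2_c21 LD3_c16)) = (LP (LK LD1_c3 LD2_c11 LD3_c52)) :=
  Lgr Lrot20 (Lpr_at (f77631 IH) (Lpr_et (f77627 IH) (Lpr_at (f67697 IH) (Lpn (LP (LK LD1_c3 LD2_c11 LD3_c52))))))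
theorem f77648 : Led Lsl_dt (LP (LK LD1_c6 LD2_c21 LD3_c16)) = (LP (LK LD1_c12 LD2_c16 LD3_c37)) :=
  Lre_d IH (LK LD1_c6 LD2_c21 LD3_c16) (LK LD1_c12 LD2_c16 LD3_c37) Lrfl Lrfl
theorem f77649 : Led Lsl_et (LP (LK LD1_c12 LD2_c16 LD3_c37)) = (LP (LK LD1_c21 LD2_c21 LD3_c56)) :=
  Lre_e IH (LK LD1_c12 LD2_c16 LD3_c37) (LK LD1_c21 LD2_c21 LD3_c56) Lrfl Lrfl
theorem f67628 : Led Lsl_et (LP (LK LD1_c12 LD2_c27 LD3_c15)) = (LP (LK LD1_c6 LD2_c27 LD3_c58)) :=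
  Lre_e IH (LK LD1_c12 LD2_c27 LD3_c15) (LK LD1_c6 LD2_c27 LD3_c58) Lrfl Lrfl
theorem f77650 : Led Lsl_dt (LP (LK LD1_c21 LD2_c21 LD3_c56)) = (LP (LK LD1_c12 LD2_c27 LD3_c15)) :=
  Lgr Lrot77 (Lpe (f77649 IH) (Lpe (f77648 IH) (Lpr_ef (f77632 IH) (Lpe (f67634 IH) (Lpe (f67628 IH) (Lpn (LP (LK LD1_c12 LD2_c27 LD3_c15))))))))
theorem f77660 : Led Lsl_df (LP (LK LD1_c21 LD2_c21 LD3_c56)) = (LP (LK LD1_c12 LD2_c27 LD3_c15)) :=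
  Lgr Lrot38 (Lpr_dt (f77650 IH) (Lpn (LP (LK LD1_c12 LD2_c27 LD3_c15))))
theorem f77671 : Led Lsl_bt (LP (LK LD1_c21 LD2_c21 LD3_c56)) = (LP (LK LD1_c29 LD2_c59 LD3_c34)) :=
  Lre_b IH (LK LD1_c21 LD2_c21 LD3_c56) (LK LD1_c29 LD2_c59 LD3_c34) Lrfl Lrfl
theorem f67786 : Led Lsl_bt (LP (LK LD1_c21 LD2_c34 LD3_c38)) = (LP (LK LD1_c12 LD2_c27 LD3_c15)) :=
  Lre_b IH (LK LD1_c21 LD2_c34 LD3_c38) (LK LD1_c12 LD2_c27 LD3_c15) Lrfl Lrfl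
theorem f77672 : Led Lsl_dt (LP (LK LD1_c29 LD2_c59 LD3_c34)) = (LP (LK LD1_c21 LD2_c34 LD3_c38)) :=
  Lgr Lrot79 (Lpe (f77671 IH) (Lpr_df (f77660 IH) (Lpe (f67786 IH) (Lpn (LP (LK LD1_c21 LD2_c34 LD3_c38))))))
theorem f77679 : Led Lsl_et (LP (LK LD1_c21 LD2_c21 LD3_c53)) = (LP (LK LD1_c29 LD2_c59 LD3_c34)) :=
  Lre_e IH (LK LD1_c21 LD2_c21 LD3_c53) (LK LD1_c29 LD2_c59 LD3_c34) Lrfl Lrfl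
theorem f77680 : Led Lsl_dt (LP (LK LD1_c12 LD2_c16 LD3_c36)) = (LP (LK LD1_c21 LD2_c21 LD3_c53)) :=
  Lre_d IH (LK LD1_c12 LD2_c16 LD3_c36) (LK LD1_c21 LD2_c21 LD3_c53) Lrfl Lrfl
theorem f67954 : Led Lsl_et (LP (LK LD1_c21 LD2_c34 LD3_c38)) = (LP (LK LD1_c12 LD2_c27 LD3_c14)) :=
  Lre_e IH (LK LD1_c21 LD2_c34 LD3_c38) (LK LD1_c12 LD2_c27 LD3_c14) Lrfl Lrfl
theorem f77681 : Led Lsl_ef (LP (LK LD1_c12 LD2_c16 LD3_c36)) = (LP (LK LD1_c6 LD2_c27 LD3_c57)) :=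
  Lgr Lrot73 (Lpr_dt (f77680 IH) (Lpr_et (f77679 IH) (Lpr_dt (f77672 IH) (Lpr_et (f67954 IH) (Lpr_dt (f67594 IH) (Lpn (LP (LK LD1_c6 LD2_c27 LD3_c57))))))))
theorem f77688 : Led Lsl_ct (LP (LK LD1_c12 LD2_c16 LD3_c36)) = (LP (LK LD1_c6 LD2_c21 LD3_c19)) :=
  Lre_c IH (LK LD1_c12 LD2_c16 LD3_c36) (LK LD1_c6 LD2_c21 LD3_c19) Lrfl Lrfl
theorem f67593 : Led Lsl_ct (LP (LK LD1_c3 LD2_c11 LD3_c53)) = (LP (LK LD1_c6 LD2_c27 LD3_c57)) :=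
  Lre_c IH (LK LD1_c3 LD2_c11 LD3_c53) (LK LD1_c6 LD2_c27 LD3_c57) Lrfl Lrfl
theorem f77689 : Led Lsl_et (LP (LK LD1_c6 LD2_c21 LD3_c19)) = (LP (LK LD1_c3 LD2_c11 LD3_c53)) :=
  Lgr Lrot158 (Lpe (f77688 IH) (Lpr_ef (f77681 IH) (Lpe (f67593 IH) (Lpn (LP (LK LD1_c3 LD2_c11 LD3_c53))))))
theorem f77704 : Led Lsl_ft (LP (LK LD1_c12 LD2_c16 LD3_c42)) = (LP (LK LD1_c6 LD2_c21 LD3_c19)) :=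
  Lre_f IH (LK LD1_c12 LD2_c16 LD3_c42) (LK LD1_c6 LD2_c21 LD3_c19) Lrfl Lrfl
theorem f67537 : Led Lsl_et (LP (LK LD1_c3 LD2_c6 LD3_c48)) = (LP (LK LD1_c6 LD2_c18 LD3_c53)) :=
  Lre_e IH (LK LD1_c3 LD2_c6 LD3_c48) (LK LD1_c6 LD2_c18 LD3_c53) Lrfl Lrfl
theorem f67538 : Led Lsl_ft (LP (LK LD1_c6 LD2_c18 LD3_c53)) = (LP (LK LD1_c12 LD2_c13 LD3_c37)) :=
  Lre_f IH (LK LD1_c6 LD2_c18 LD3_c53) (LK LD1_c12 LD2_c13 LD3_c37) Lrfl Lrfl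
theorem f77705 : Led Lsl_ef (LP (LK LD1_c12 LD2_c16 LD3_c42)) = (LP (LK LD1_c12 LD2_c13 LD3_c37)) :=
  Lgr Lrot21 (Lpr_ft (f77704 IH) (Lpr_et (f77689 IH) (Lpe (f67527 IH) (Lpr_et (f67537 IH) (Lpr_ft (f67538 IH) (Lpn (LP (LK LD1_c12 LD2_c13 LD3_c37))))))))
theorem f77714 : Led Lsl_et (LP (LK LD1_c12 LD2_c16 LD3_c42)) = (LP (LK LD1_c12 LD2_c13 LD3_c37)) :=
  Lgr Lrot87 (Lpr_ef (f77705 IH) (Lpn (LP (LK LD1_c12 LD2_c13 LD3_c37))))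
theorem f77367 : Led Lsl_bt (LP (LK LD1_c6 LD2_c21 LD3_c21)) = (LP (LK LD1_c12 LD2_c16 LD3_c42)) :=
  Lre_b IH (LK LD1_c6 LD2_c21 LD3_c21) (LK LD1_c12 LD2_c16 LD3_c42) Lrfl Lrfl
theorem f68043 : Led Lsl_bt (LP (LK LD1_c12 LD2_c13 LD3_c37)) = (LP (LK LD1_c6 LD2_c18 LD3_c55)) :=
  Lre_b IH (LK LD1_c12 LD2_c13 LD3_c37) (LK LD1_c6 LD2_c18 LD3_c55) Lrfl Lrfl
theorem f77717 : Led Lsl_ef (LP (LK LD1_c6 LD2_c21 LD3_c21)) = (LP (LK LD1_c6 LD2_c18 LD3_c55)) :=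
  Lgr Lrot29 (Lpr_bt (f77367 IH) (Lpr_et (f77714 IH) (Lpr_bt (f68043 IH) (Lpn (LP (LK LD1_c6 LD2_c18 LD3_c55))))))
theorem f77721 : Led Lsl_ft (LP (LK LD1_c6 LD2_c21 LD3_c21)) = (LP (LK LD1_c3 LD2_c8 LD3_c22)) :=
  Lre_f IH (LK LD1_c6 LD2_c21 LD3_c21) (LK LD1_c3 LD2_c8 LD3_c22) Lrfl Lrfl
theorem f67512 : Led Lsl_ft (LP (LK LD1_c3 LD2_c6 LD3_c46)) = (LP (LK LD1_c6 LD2_c18 LD3_c55)) :=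
  Lre_f IH (LK LD1_c3 LD2_c6 LD3_c46) (LK LD1_c6 LD2_c18 LD3_c55) Lrfl Lrfl
theorem f67524 : Led Lsl_et (LP (LK LD1_c1 LD2_c29 LD3_c30)) = (LP (LK LD1_c3 LD2_c6 LD3_c46)) :=
  Lre_e IH (LK LD1_c1 LD2_c29 LD3_c30) (LK LD1_c3 LD2_c6 LD3_c46) Lrfl Lrfl
theorem f77722 : Led Lsl_et (LP (LK LD1_c3 LD2_c8 LD3_c22)) = (LP (LK LD1_c1 LD2_c32 LD3_c18)) :=
  Lgr Lrot69 (Lpe (f77721 IH) (Lpr_ef (f77717 IH) (Lpe (f67512 IH) (Lpe (f67524 IH) (Lpr_ff (f67520 IH) (Lpn (LP (LK LD1_c1 LD2_c32 LD3_c18))))))))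
theorem f77404 : Led Lsl_dt (LP (LK LD1_c6 LD2_c21 LD3_c20)) = (LP (LK LD1_c3 LD2_c8 LD3_c22)) :=
  Lre_d IH (LK LD1_c6 LD2_c21 LD3_c20) (LK LD1_c3 LD2_c8 LD3_c22) Lrfl Lrfl
theorem f67418 : Led Lsl_dt (LP (LK LD1_c3 LD2_c11 LD3_c45)) = (LP (LK LD1_c6 LD2_c27 LD3_c48)) :=
  Lre_d IH (LK LD1_c3 LD2_c11 LD3_c45) (LK LD1_c6 LD2_c27 LD3_c48) Lrfl Lrfl
theorem f77727 : Led Lsl_ef (LP (LK LD1_c6 LD2_c21 LD3_c20)) = (LP (LK LD1_c6 LD2_c27 LD3_c48)) :=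
  Lgr Lrot73 (Lpr_dt (f77404 IH) (Lpr_et (f77722 IH) (Lpr_dt (f67407 IH) (Lpr_et (f67413 IH) (Lpr_dt (f67418 IH) (Lpn (LP (LK LD1_c6 LD2_c27 LD3_c48))))))))
theorem f83325 : Led Lsl_ef (LP (LK LD1_c6 LD2_c18 LD3_c54)) = (LP (LK LD1_c6 LD2_c23 LD3_c22)) :=
  Lgr Lrot20 (Lpr_at (f67487 IH) (Lpe (f77727 IH) (Lpr_at (f83319 IH) (Lpn (LP (LK LD1_c6 LD2_c23 LD3_c22))))))
theorem f67489 : Led Lsl_bt (LP (LK LD1_c6 LD2_c18 LD3_c54)) = (LP (LK LD1_c12 LD2_c13 LD3_c36)) :=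
  Lre_b IH (LK LD1_c6 LD2_c18 LD3_c54) (LK LD1_c12 LD2_c13 LD3_c36) Lrfl Lrfl
theorem f83280 : Led Lsl_bt (LP (LK LD1_c12 LD2_c20 LD3_c7)) = (LP (LK LD1_c6 LD2_c23 LD3_c22)) :=
  Lre_b IH (LK LD1_c12 LD2_c20 LD3_c7) (LK LD1_c6 LD2_c23 LD3_c22) Lrfl Lrfl
theorem f83327 : Led Lsl_et (LP (LK LD1_c12 LD2_c13 LD3_c36)) = (LP (LK LD1_c12 LD2_c20 LD3_c7)) :=
  Lgr Lrot74 (Lpe (f67489 IH) (Lpr_ef (f83325 IH) (Lpe (f83280 IH) (Lpn (LP (LK LD1_c12 LD2_c20 LD3_c7))))))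
theorem f83336 : Led Lsl_ef (LP (LK LD1_c12 LD2_c13 LD3_c36)) = (LP (LK LD1_c12 LD2_c20 LD3_c7)) :=
  Lgr Lrot88 (Lpr_et (f83327 IH) (Lpn (LP (LK LD1_c12 LD2_c20 LD3_c7))))
theorem f67490 : Led Lsl_at (LP (LK LD1_c12 LD2_c13 LD3_c36)) = (LP (LK LD1_c21 LD2_c19 LD3_c38)) :=
  Lre_a IH (LK LD1_c12 LD2_c13 LD3_c36) (LK LD1_c21 LD2_c19 LD3_c38) Lrfl Lrfl
theorem f83289 : Led Lsl_at (LP (LK LD1_c21 LD2_c26 LD3_c20)) = (LP (LK LD1_c12 LD2_c20 LD3_c7)) :=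
  Lre_a IH (LK LD1_c21 LD2_c26 LD3_c20) (LK LD1_c12 LD2_c20 LD3_c7) Lrfl Lrfl
theorem f83342 : Led Lsl_et (LP (LK LD1_c21 LD2_c19 LD3_c38)) = (LP (LK LD1_c21 LD2_c26 LD3_c20)) :=
  Lgr Lrot123 (Lpe (f67490 IH) (Lpr_ef (f83336 IH) (Lpe (f83289 IH) (Lpn (LP (LK LD1_c21 LD2_c26 LD3_c20))))))
theorem f67555 : Led Lsl_dt (LP (LK LD1_c12 LD2_c13 LD3_c35)) = (LP (LK LD1_c21 LD2_c19 LD3_c38)) :=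
  Lre_d IH (LK LD1_c12 LD2_c13 LD3_c35) (LK LD1_c21 LD2_c19 LD3_c38) Lrfl Lrfl
theorem f67939 : Led Lsl_et (LP (LK LD1_c6 LD2_c18 LD3_c58)) = (LP (LK LD1_c12 LD2_c13 LD3_c35)) :=
  Lre_e IH (LK LD1_c6 LD2_c18 LD3_c58) (LK LD1_c12 LD2_c13 LD3_c35) Lrfl Lrfl
theorem f83352 : Led Lsl_dt (LP (LK LD1_c21 LD2_c26 LD3_c20)) = (LP (LK LD1_c12 LD2_c20 LD3_c4)) :=
  Lre_d IH (LK LD1_c21 LD2_c26 LD3_c20) (LK LD1_c12 LD2_c20 LD3_c4) Lrfl Lrfl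
theorem f83353 : Led Lsl_et (LP (LK LD1_c12 LD2_c20 LD3_c4)) = (LP (LK LD1_c6 LD2_c23 LD3_c20)) :=
  Lre_e IH (LK LD1_c12 LD2_c20 LD3_c4) (LK LD1_c6 LD2_c23 LD3_c20) Lrfl Lrfl
theorem f83354 : Led Lsl_df (LP (LK LD1_c6 LD2_c18 LD3_c58)) = (LP (LK LD1_c6 LD2_c23 LD3_c20)) :=
  Lgr Lrot70 (Lpr_et (f67939 IH) (Lpr_dt (f67555 IH) (Lpr_et (f83342 IH) (Lpr_dt (f83352 IH) (Lpr_et (f83353 IH) (Lpn (LP (LK LD1_c6 LD2_c23 LD3_c20))))))))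
theorem f67529 : Led Lsl_at (LP (LK LD1_c3 LD2_c6 LD3_c48)) = (LP (LK LD1_c6 LD2_c18 LD3_c58)) :=
  Lre_a IH (LK LD1_c3 LD2_c6 LD3_c48) (LK LD1_c6 LD2_c18 LD3_c58) Lrfl Lrfl
theorem f67530 : Led Lsl_at (LP (LK LD1_c6 LD2_c27 LD3_c61)) = (LP (LK LD1_c3 LD2_c11 LD3_c53)) :=
  Lre_a IH (LK LD1_c6 LD2_c27 LD3_c61) (LK LD1_c3 LD2_c11 LD3_c53) Lrfl Lrfl
theorem f67531 : Led Lsl_ft (LP (LK LD1_c6 LD2_c18 LD3_c58)) = (LP (LK LD1_c6 LD2_c27 LD3_c61)) :=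
  Lgr Lrot101 (Lpe (f67529 IH) (Lpr_ff (f67527 IH) (Lpe (f67530 IH) (Lpn (LP (LK LD1_c6 LD2_c27 LD3_c61))))))
theorem f67415 : Led Lsl_bt (LP (LK LD1_c1 LD2_c32 LD3_c13)) = (LP (LK LD1_c3 LD2_c11 LD3_c44)) :=
  Lre_b IH (LK LD1_c1 LD2_c32 LD3_c13) (LK LD1_c3 LD2_c11 LD3_c44) Lrfl Lrfl
theorem f67416 : Led Lsl_df (LP (LK LD1_c3 LD2_c11 LD3_c53)) = (LP (LK LD1_c3 LD2_c11 LD3_c44)) :=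
  Lgr Lrot12 (Lpr_bt (f67414 IH) (Lpr_dt (f67407 IH) (Lpr_bt (f67415 IH) (Lpn (LP (LK LD1_c3 LD2_c11 LD3_c44))))))
theorem f68027 : Led Lsl_at (LP (LK LD1_c6 LD2_c27 LD3_c46)) = (LP (LK LD1_c3 LD2_c11 LD3_c44)) :=
  Lre_a IH (LK LD1_c6 LD2_c27 LD3_c46) (LK LD1_c3 LD2_c11 LD3_c44) Lrfl Lrfl
theorem f68073 : Led Lsl_dt (LP (LK LD1_c6 LD2_c27 LD3_c61)) = (LP (LK LD1_c6 LD2_c27 LD3_c46)) :=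
  Lgr Lrot44 (Lpe (f67938 IH) (Lpr_df (f67416 IH) (Lpe (f68027 IH) (Lpn (LP (LK LD1_c6 LD2_c27 LD3_c46))))))
theorem f83363 : Led Lsl_ft (LP (LK LD1_c6 LD2_c27 LD3_c46)) = (LP (LK LD1_c6 LD2_c23 LD3_c20)) :=
  Lgr Lrot54 (Lpe (f68073 IH) (Lpe (f67531 IH) (Lpr_df (f83354 IH) (Lpn (LP (LK LD1_c6 LD2_c23 LD3_c20))))))
theorem f67516 : Led Lsl_at (LP (LK LD1_c6 LD2_c18 LD3_c58)) = (LP (LK LD1_c3 LD2_c6 LD3_c48)) :=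
  Lre_a IH (LK LD1_c6 LD2_c18 LD3_c58) (LK LD1_c3 LD2_c6 LD3_c48) Lrfl Lrfl
theorem f67517 : Led Lsl_at (LP (LK LD1_c3 LD2_c11 LD3_c44)) = (LP (LK LD1_c6 LD2_c27 LD3_c46)) :=
  Lre_a IH (LK LD1_c3 LD2_c11 LD3_c44) (LK LD1_c6 LD2_c27 LD3_c46) Lrfl Lrfl
theorem f67518 : Led Lsl_bf (LP (LK LD1_c6 LD2_c18 LD3_c58)) = (LP (LK LD1_c6 LD2_c27 LD3_c46)) :=
  Lgr Lrot81 (Lpr_at (f67516 IH) (Lpr_bt (f67515 IH) (Lpr_at (f67510 IH) (Lpr_bt (f67415 IH) (Lpr_at (f67517 IH) (Lpn (LP (LK LD1_c6 LD2_c27 LD3_c46))))))))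
theorem f67988 : Led Lsl_bt (LP (LK LD1_c6 LD2_c18 LD3_c58)) = (LP (LK LD1_c6 LD2_c27 LD3_c46)) :=
  Lgr Lrot127 (Lpr_bf (f67518 IH) (Lpn (LP (LK LD1_c6 LD2_c27 LD3_c46))))
theorem f67584 : Led Lsl_at (LP (LK LD1_c6 LD2_c18 LD3_c47)) = (LP (LK LD1_c12 LD2_c13 LD3_c25)) :=
  Lre_a IH (LK LD1_c6 LD2_c18 LD3_c47) (LK LD1_c12 LD2_c13 LD3_c25) Lrfl Lrfl
theorem f67585 : Led Lsl_at (LP (LK LD1_c12 LD2_c27 LD3_c13)) = (LP (LK LD1_c6 LD2_c27 LD3_c57)) :=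
  Lre_a IH (LK LD1_c12 LD2_c27 LD3_c13) (LK LD1_c6 LD2_c27 LD3_c57) Lrfl Lrfl
theorem f67586 : Led Lsl_ft (LP (LK LD1_c12 LD2_c13 LD3_c25)) = (LP (LK LD1_c12 LD2_c27 LD3_c13)) :=
  Lgr Lrot101 (Lpe (f67584 IH) (Lpr_ff (f67569 IH) (Lpe (f67585 IH) (Lpn (LP (LK LD1_c12 LD2_c27 LD3_c13))))))
theorem f67548 : Led Lsl_ct (LP (LK LD1_c6 LD2_c18 LD3_c58)) = (LP (LK LD1_c12 LD2_c13 LD3_c25)) :=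
  Lre_c IH (LK LD1_c6 LD2_c18 LD3_c58) (LK LD1_c12 LD2_c13 LD3_c25) Lrfl Lrfl
theorem f67579 : Led Lsl_ct (LP (LK LD1_c12 LD2_c27 LD3_c13)) = (LP (LK LD1_c6 LD2_c27 LD3_c61)) :=
  Lre_c IH (LK LD1_c12 LD2_c27 LD3_c13) (LK LD1_c6 LD2_c27 LD3_c61) Lrfl Lrfl
theorem f67926 : Led Lsl_ff (LP (LK LD1_c6 LD2_c18 LD3_c58)) = (LP (LK LD1_c6 LD2_c27 LD3_c61)) :=
  Lgr Lrot23 (Lpr_ct (f67548 IH) (Lpr_ft (f67586 IH) (Lpr_ct (f67579 IH) (Lpn (LP (LK LD1_c6 LD2_c27 LD3_c61))))))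
theorem f83371 : Led Lsl_bf (LP (LK LD1_c6 LD2_c27 LD3_c61)) = (LP (LK LD1_c6 LD2_c23 LD3_c20)) :=
  Lgr Lrot61 (Lpe (f67926 IH) (Lpr_bt (f67988 IH) (Lpr_ft (f83363 IH) (Lpn (LP (LK LD1_c6 LD2_c23 LD3_c20))))))
theorem f83373 : Led Lsl_ct (LP (LK LD1_c6 LD2_c23 LD3_c20)) = (LP (LK LD1_c12 LD2_c19 LD3_c52)) :=
  Lre_c IH (LK LD1_c6 LD2_c23 LD3_c20) (LK LD1_c12 LD2_c19 LD3_c52) Lrfl Lrfl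
theorem f67981 : Led Lsl_ct (LP (LK LD1_c12 LD2_c26 LD3_c41)) = (LP (LK LD1_c6 LD2_c27 LD3_c46)) :=
  Lre_c IH (LK LD1_c12 LD2_c26 LD3_c41) (LK LD1_c6 LD2_c27 LD3_c46) Lrfl Lrfl
theorem f83374 : Led Lsl_ff (LP (LK LD1_c12 LD2_c26 LD3_c41)) = (LP (LK LD1_c12 LD2_c19 LD3_c52)) :=
  Lgr Lrot23 (Lpr_ct (f67981 IH) (Lpr_ft (f83363 IH) (Lpr_ct (f83373 IH) (Lpn (LP (LK LD1_c12 LD2_c19 LD3_c52))))))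
theorem f68093 : Led Lsl_at (LP (LK LD1_c12 LD2_c26 LD3_c41)) = (LP (LK LD1_c6 LD2_c27 LD3_c38)) :=
  Lre_a IH (LK LD1_c12 LD2_c26 LD3_c41) (LK LD1_c6 LD2_c27 LD3_c38) Lrfl Lrfl
theorem f68082 : Led Lsl_gt (LP (LK LD1_c12 LD2_c26 LD3_c40)) = (LP (LK LD1_c6 LD2_c27 LD3_c38)) :=
  Lre_g IH (LK LD1_c12 LD2_c26 LD3_c40) (LK LD1_c6 LD2_c27 LD3_c38) Lrfl Lrfl
theorem f83671 : Led Lsl_gf (LP (LK LD1_c12 LD2_c26 LD3_c40)) = (LP (LK LD1_c12 LD2_c19 LD3_c52)) :=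
  Lgr Lrot47 (Lpr_gt (f68082 IH) (Lpe (f68093 IH) (Lpr_ff (f83374 IH) (Lpn (LP (LK LD1_c12 LD2_c19 LD3_c52))))))
theorem f84069 : Led Lsl_ct (LP (LK LD1_c6 LD2_c48 LD3_c52)) = (LP (LK LD1_c12 LD2_c26 LD3_c40)) :=
  Lgr Lrot10 (Lpr_bt (f84068 IH) (Lpr_gt (f84067 IH) (Lpr_ct (f25476 IH) (Lpr_gt (f84066 IH) (Lpr_cf (f84052 IH) (Lpr_bt (f67094 IH) (Lpr_gt (f67985 IH) (Lpr_bf (f83371 IH) (Lpr_ct (f83373 IH) (Lpe (f83671 IH) (Lpn (LP (LK LD1_c12 LD2_c26 LD3_c40)))))))))))))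
theorem f7442 : Led Lsl_gt (LP (LK LD1_c0 LD2_c45 LD3_c6)) = (LP (LK LD1_c0 LD2_c19 LD3_c61)) :=
  Lre_g IH (LK LD1_c0 LD2_c45 LD3_c6) (LK LD1_c0 LD2_c19 LD3_c61) Lrfl Lrfl
theorem f25634 : Led Lsl_ct (LP (LK LD1_c1 LD2_c37 LD3_c29)) = (LP (LK LD1_c0 LD2_c45 LD3_c6)) :=
  Lre_c IH (LK LD1_c1 LD2_c37 LD3_c29) (LK LD1_c0 LD2_c45 LD3_c6) Lrfl Lrfl
theorem f67544 : Led Lsl_ct (LP (LK LD1_c3 LD2_c11 LD3_c44)) = (LP (LK LD1_c6 LD2_c27 LD3_c38)) :=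
  Lre_c IH (LK LD1_c3 LD2_c11 LD3_c44) (LK LD1_c6 LD2_c27 LD3_c38) Lrfl Lrfl
theorem f67404 : Led Lsl_bt (LP (LK LD1_c3 LD2_c11 LD3_c44)) = (LP (LK LD1_c1 LD2_c32 LD3_c13)) :=
  Lre_b IH (LK LD1_c3 LD2_c11 LD3_c44) (LK LD1_c1 LD2_c32 LD3_c13) Lrfl Lrfl
theorem f84087 : Led Lsl_gf (LP (LK LD1_c1 LD2_c37 LD3_c29)) = (LP (LK LD1_c1 LD2_c32 LD3_c13)) :=
  Lgr Lrot181 (Lpr_ct (f25634 IH) (Lpr_gt (f7442 IH) (Lpe (K0.f7433 IH) (Lpr_bt (K1.f25423 IH) (Lpr_gt (K1.f57709 IH) (Lpe (f84068 IH) (Lpr_ct (f84069 IH) (Lpr_gt (f68082 IH) (Lpe (f67544 IH) (Lpr_bt (f67404 IH) (Lpn (LP (LK LD1_c1 LD2_c32 LD3_c13)))))))))))))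
theorem f7436 : Led Lsl_ct (LP (LK LD1_c0 LD2_c19 LD3_c61)) = (LP (LK LD1_c0 LD2_c45 LD3_c7)) :=
  Lre_c IH (LK LD1_c0 LD2_c19 LD3_c61) (LK LD1_c0 LD2_c45 LD3_c7) Lrfl Lrfl
theorem f25691 : Led Lsl_df (LP (LK LD1_c1 LD2_c29 LD3_c11)) = (LP (LK LD1_c0 LD2_c45 LD3_c7)) :=
  Lgr Lrot38 (Lpr_dt (K0.f25684 IH) (Lpn (LP (LK LD1_c0 LD2_c45 LD3_c7))))
theorem f84095 : Led Lsl_gf (LP (LK LD1_c1 LD2_c26 LD3_c31)) = (LP (LK LD1_c1 LD2_c32 LD3_c18)) :=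
  Lgr Lrot147 (Lpr_ct (K1.f21038 IH) (Lpe (K1.f57600 IH) (Lpr_ct (K0.f25625 IH) (Lpr_df (f25691 IH) (Lpe (f7436 IH) (Lpe (f7442 IH) (Lpe (f25634 IH) (Lpr_gf (f84087 IH) (Lpe (f67407 IH) (Lpn (LP (LK LD1_c1 LD2_c32 LD3_c18))))))))))))
theorem f84105 : Led Lsl_gt (LP (LK LD1_c1 LD2_c26 LD3_c31)) = (LP (LK LD1_c1 LD2_c32 LD3_c13)) :=
  Lgr Lrot46 (Lpr_gf (f84095 IH) (Lpe (f67520 IH) (Lpr_at (f67510 IH) (Lpn (LP (LK LD1_c1 LD2_c32 LD3_c13))))))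
theorem f21033 : Led Lsl_ct (LP (LK LD1_c0 LD2_c40 LD3_c0)) = (LP (LK LD1_c1 LD2_c26 LD3_c31)) :=
  Lre_c IH (LK LD1_c0 LD2_c40 LD3_c0) (LK LD1_c1 LD2_c26 LD3_c31) Lrfl Lrfl
theorem f25178 : Led Lsl_dt (LP (LK LD1_c0 LD2_c8 LD3_c17)) = (LP (LK LD1_c0 LD2_c18 LD3_c26)) :=
  Lre_d IH (LK LD1_c0 LD2_c8 LD3_c17) (LK LD1_c0 LD2_c18 LD3_c26) Lrfl Lrfl
theorem f25399 : Led Lsl_gf (LP (LK LD1_c0 LD2_c8 LD3_c17)) = (LP (LK LD1_c0 LD2_c8 LD3_c3)) :=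
  Lgr Lrot144 (Lpr_dt (f25178 IH) (Lpr_gt (K0.f25176 IH) (Lpr_dt (K0.f20835 IH) (Lpr_cf (K0.f20049 IH) (Lpe (K0.f7356 IH) (Lpe (K0.f20613 IH) (Lpe (K0.f7341 IH) (Lpr_gf (K0.f20831 IH) (Lpr_cf (K0.f21004 IH) (Lpn (LP (LK LD1_c0 LD2_c8 LD3_c3))))))))))))
theorem f20825 : Led Lsl_ef (LP (LK LD1_c0 LD2_c4 LD3_c12)) = (LP (LK LD1_c0 LD2_c4 LD3_c12)) :=
  Lgr Lrot73 (Lpe (K0.f7360 IH) (Lpr_et (K0.f404 IH) (Lpr_dt (K0.f20617 IH) (Lpr_et (K0.f405 IH) (Lpr_dt (K0.f7356 IH) (Lpn (LP (LK LD1_c0 LD2_c4 LD3_c12))))))))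
theorem f23299 : Led Lsl_et (LP (LK LD1_c0 LD2_c6 LD3_c16)) = (LP (LK LD1_c0 LD2_c6 LD3_c16)) :=
  Lgr Lrot158 (Lpr_cf (K0.f20049 IH) (Lpr_ef (f20825 IH) (Lpr_cf (K0.f23272 IH) (Lpn (LP (LK LD1_c0 LD2_c6 LD3_c16))))))
theorem f25410 : Led Lsl_et (LP (LK LD1_c0 LD2_c8 LD3_c58)) = (LP (LK LD1_c0 LD2_c4 LD3_c0)) :=
  Lre_e IH (LK LD1_c0 LD2_c8 LD3_c58) (LK LD1_c0 LD2_c4 LD3_c0) Lrfl Lrfl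
theorem f7435 : Led Lsl_dt (LP (LK LD1_c0 LD2_c8 LD3_c58)) = (LP (LK LD1_c0 LD2_c19 LD3_c61)) :=
  Lre_d IH (LK LD1_c0 LD2_c8 LD3_c58) (LK LD1_c0 LD2_c19 LD3_c61) Lrfl Lrfl
theorem f25411 : Led Lsl_gf (LP (LK LD1_c0 LD2_c40 LD3_c0)) = (LP (LK LD1_c0 LD2_c19 LD3_c61)) :=
  Lgr Lrot145 (Lpe (K1.f21032 IH) (Lpr_et (K1.f21018 IH) (Lpe (f25399 IH) (Lpr_dt (f25178 IH) (Lpr_gt (K0.f25176 IH) (Lpe (K0.f25197 IH) (Lpr_et (f23299 IH) (Lpr_gt (K0.f20048 IH) (Lpe (f25410 IH) (Lpr_dt (f7435 IH) (Lpn (LP (LK LD1_c0 LD2_c19 LD3_c61)))))))))))))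
theorem f10992 : Led Lsl_gt (LP (LK LD1_c0 LD2_c8 LD3_c58)) = (LP (LK LD1_c0 LD2_c19 LD3_c59)) :=
  Lre_g IH (LK LD1_c0 LD2_c8 LD3_c58) (LK LD1_c0 LD2_c19 LD3_c59) Lrfl Lrfl
theorem f84282 : Led Lsl_ct (LP (LK LD1_c0 LD2_c19 LD3_c59)) = (LP (LK LD1_c0 LD2_c9 LD3_c6)) :=
  Lgr Lrot152 (Lpe (f10992 IH) (Lpe (K0.f7432 IH) (Lpe (f25411 IH) (Lpr_ct (f21033 IH) (Lpr_gt (f84105 IH) (Lpr_ct (f25817 IH) (Lpe (f25816 IH) (Lpe (f67395 IH) (Lpr_gf (K0.f9689 IH) (Lpn (LP (LK LD1_c0 LD2_c9 LD3_c6))))))))))))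
theorem f84290 : Led Lsl_ef (LP (LK LD1_c0 LD2_c19 LD3_c59)) = (LP (LK LD1_c0 LD2_c9 LD3_c5)) :=
  Lgr Lrot28 (Lpr_ct (f84282 IH) (Lpr_et (K0.f7373 IH) (Lpr_ct (K0.f7366 IH) (Lpn (LP (LK LD1_c0 LD2_c9 LD3_c5))))))
theorem f84292 : Led Lsl_bt (LP (LK LD1_c0 LD2_c19 LD3_c59)) = (LP (LK LD1_c0 LD2_c45 LD3_c2)) :=
  Lre_b IH (LK LD1_c0 LD2_c19 LD3_c59) (LK LD1_c0 LD2_c45 LD3_c2) Lrfl Lrfl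
theorem f20018 : Led Lsl_bt (LP (LK LD1_c0 LD2_c20 LD3_c10)) = (LP (LK LD1_c0 LD2_c9 LD3_c5)) :=
  Lre_b IH (LK LD1_c0 LD2_c20 LD3_c10) (LK LD1_c0 LD2_c9 LD3_c5) Lrfl Lrfl
theorem f84322 : Led Lsl_et (LP (LK LD1_c0 LD2_c45 LD3_c2)) = (LP (LK LD1_c0 LD2_c20 LD3_c10)) :=
  Lgr Lrot74 (Lpe (f84292 IH) (Lpr_ef (f84290 IH) (Lpe (f20018 IH) (Lpn (LP (LK LD1_c0 LD2_c20 LD3_c10))))))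
theorem f84284 : Led Lsl_bt (LP (LK LD1_c0 LD2_c45 LD3_c2)) = (LP (LK LD1_c0 LD2_c19 LD3_c59)) :=
  Lre_b IH (LK LD1_c0 LD2_c45 LD3_c2) (LK LD1_c0 LD2_c19 LD3_c59) Lrfl Lrfl
theorem f20003 : Led Lsl_bf (LP (LK LD1_c0 LD2_c4 LD3_c23)) = (LP (LK LD1_c0 LD2_c9 LD3_c6)) :=
  Lgr Lrot24 (Lpr_bt (K0.f20001 IH) (Lpn (LP (LK LD1_c0 LD2_c9 LD3_c6))))
theorem f12632 : Led Lsl_bt (LP (LK LD1_c0 LD2_c9 LD3_c22)) = (LP (LK LD1_c0 LD2_c20 LD3_c40)) :=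
  Lre_b IH (LK LD1_c0 LD2_c9 LD3_c22) (LK LD1_c0 LD2_c20 LD3_c40) Lrfl Lrfl
theorem f84285 : Led Lsl_cf (LP (LK LD1_c0 LD2_c45 LD3_c2)) = (LP (LK LD1_c0 LD2_c20 LD3_c40)) :=
  Lgr Lrot97 (Lpr_bt (f84284 IH) (Lpr_ct (f84282 IH) (Lpe (f20003 IH) (Lpr_ct (K0.f12160 IH) (Lpr_bt (f12632 IH) (Lpn (LP (LK LD1_c0 LD2_c20 LD3_c40))))))))
theorem f19772 : Led Lsl_et (LP (LK LD1_c0 LD2_c9 LD3_c21)) = (LP (LK LD1_c0 LD2_c20 LD3_c40)) :=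
  Lre_e IH (LK LD1_c0 LD2_c9 LD3_c21) (LK LD1_c0 LD2_c20 LD3_c40) Lrfl Lrfl
theorem f84628 : Led Lsl_cf (LP (LK LD1_c0 LD2_c9 LD3_c21)) = (LP (LK LD1_c0 LD2_c20 LD3_c10)) :=
  Lgr Lrot39 (Lpr_et (f19772 IH) (Lpe (f84285 IH) (Lpr_et (f84322 IH) (Lpn (LP (LK LD1_c0 LD2_c20 LD3_c10))))))
theorem f12660 : Led Lsl_gt (LP (LK LD1_c0 LD2_c20 LD3_c38)) = (LP (LK LD1_c0 LD2_c9 LD3_c21)) :=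
  Lre_g IH (LK LD1_c0 LD2_c20 LD3_c38) (LK LD1_c0 LD2_c9 LD3_c21) Lrfl Lrfl
theorem f84591 : Led Lsl_ct (LP (LK LD1_c0 LD2_c46 LD3_c2)) = (LP (LK LD1_c0 LD2_c20 LD3_c38)) :=
  Lre_c IH (LK LD1_c0 LD2_c46 LD3_c2) (LK LD1_c0 LD2_c20 LD3_c38) Lrfl Lrfl
theorem f84639 : Led Lsl_bt (LP (LK LD1_c0 LD2_c46 LD3_c2)) = (LP (LK LD1_c0 LD2_c30 LD3_c10)) :=
  Lgr Lrot92 (Lpr_ct (f84591 IH) (Lpr_gt (f12660 IH) (Lpr_cf (f84628 IH) (Lpr_bt (f20018 IH) (Lpr_gt (K0.f20956 IH) (Lpr_ct (K0.f13623 IH) (Lpe (K0.f25722 IH) (Lpe (K0.f20966 IH) (Lpr_bt (f7011 IH) (Lpr_gt (f7012 IH) (Lpn (LP (LK LD1_c0 LD2_c30 LD3_c10)))))))))))))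
theorem f84641 : Led Lsl_bf (LP (LK LD1_c0 LD2_c46 LD3_c2)) = (LP (LK LD1_c0 LD2_c30 LD3_c10)) :=
  Lgr Lrot24 (Lpr_bt (f84639 IH) (Lpn (LP (LK LD1_c0 LD2_c30 LD3_c10))))
theorem f84644 : Led Lsl_bt (LP (LK LD1_c0 LD2_c20 LD3_c38)) = (LP (LK LD1_c0 LD2_c46 LD3_c1)) :=
  Lre_b IH (LK LD1_c0 LD2_c20 LD3_c38) (LK LD1_c0 LD2_c46 LD3_c1) Lrfl Lrfl
theorem f12077 : Led Lsl_bt (LP (LK LD1_c0 LD2_c4 LD3_c22)) = (LP (LK LD1_c0 LD2_c9 LD3_c21)) :=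
  Lre_b IH (LK LD1_c0 LD2_c4 LD3_c22) (LK LD1_c0 LD2_c9 LD3_c21) Lrfl Lrfl
theorem f12661 : Led Lsl_bt (LP (LK LD1_c0 LD2_c46 LD3_c1)) = (LP (LK LD1_c0 LD2_c20 LD3_c38)) :=
  Lre_b IH (LK LD1_c0 LD2_c46 LD3_c1) (LK LD1_c0 LD2_c20 LD3_c38) Lrfl Lrfl
theorem f3959 : Led Lsl_bt (LP (LK LD1_c0 LD2_c4 LD3_c17)) = (LP (LK LD1_c0 LD2_c9 LD3_c12)) :=
  Lre_b IH (LK LD1_c0 LD2_c4 LD3_c17) (LK LD1_c0 LD2_c9 LD3_c12) Lrfl Lrfl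
theorem f3960 : Led Lsl_gt (LP (LK LD1_c0 LD2_c9 LD3_c12)) = (LP (LK LD1_c0 LD2_c20 LD3_c23)) :=
  Lre_g IH (LK LD1_c0 LD2_c9 LD3_c12) (LK LD1_c0 LD2_c20 LD3_c23) Lrfl Lrfl
theorem f12662 : Led Lsl_ct (LP (LK LD1_c0 LD2_c20 LD3_c23)) = (LP (LK LD1_c0 LD2_c45 LD3_c40)) :=
  Lre_c IH (LK LD1_c0 LD2_c20 LD3_c23) (LK LD1_c0 LD2_c45 LD3_c40) Lrfl Lrfl
theorem f12663 : Led Lsl_gt (LP (LK LD1_c0 LD2_c45 LD3_c40)) = (LP (LK LD1_c1 LD2_c38 LD3_c31)) :=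
  Lre_g IH (LK LD1_c0 LD2_c45 LD3_c40) (LK LD1_c1 LD2_c38 LD3_c31) Lrfl Lrfl
theorem f12664 : Led Lsl_ct (LP (LK LD1_c0 LD2_c46 LD3_c1)) = (LP (LK LD1_c1 LD2_c38 LD3_c31)) :=
  Lgr Lrot63 (Lpr_bt (f12661 IH) (Lpr_gt (f12660 IH) (Lpe (f12077 IH) (Lpr_ct (K0.f3828 IH) (Lpr_gt (K0.f12611 IH) (Lpe (K0.f130 IH) (Lpr_bt (f3959 IH) (Lpr_gt (f3960 IH) (Lpr_ct (f12662 IH) (Lpr_gt (f12663 IH) (Lpn (LP (LK LD1_c1 LD2_c38 LD3_c31)))))))))))))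
theorem f77980 : Led Lsl_ct (LP (LK LD1_c1 LD2_c5 LD3_c61)) = (LP (LK LD1_c0 LD2_c30 LD3_c10)) :=
  Lre_c IH (LK LD1_c1 LD2_c5 LD3_c61) (LK LD1_c0 LD2_c30 LD3_c10) Lrfl Lrfl
theorem f84645 : Led Lsl_bt (LP (LK LD1_c1 LD2_c38 LD3_c31)) = (LP (LK LD1_c1 LD2_c5 LD3_c61)) :=
  Lgr Lrot128 (Lpe (f12664 IH) (Lpe (f84644 IH) (Lpe (f84591 IH) (Lpr_bf (f84641 IH) (Lpe (f77980 IH) (Lpn (LP (LK LD1_c1 LD2_c5 LD3_c61))))))))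
theorem f84647 : Led Lsl_bf (LP (LK LD1_c1 LD2_c38 LD3_c31)) = (LP (LK LD1_c1 LD2_c5 LD3_c61)) :=
  Lgr Lrot24 (Lpr_bt (f84645 IH) (Lpn (LP (LK LD1_c1 LD2_c5 LD3_c61))))
theorem f84643 : Led Lsl_ct (LP (LK LD1_c0 LD2_c20 LD3_c38)) = (LP (LK LD1_c0 LD2_c46 LD3_c2)) :=
  Lre_c IH (LK LD1_c0 LD2_c20 LD3_c38) (LK LD1_c0 LD2_c46 LD3_c2) Lrfl Lrfl
theorem f84649 : Led Lsl_ct (LP (LK LD1_c1 LD2_c38 LD3_c31)) = (LP (LK LD1_c0 LD2_c46 LD3_c1)) :=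
  Lgr Lrot83 (Lpr_bf (f84647 IH) (Lpe (f25734 IH) (Lpe (f84639 IH) (Lpe (f84643 IH) (Lpe (f12661 IH) (Lpn (LP (LK LD1_c0 LD2_c46 LD3_c1))))))))
theorem f84654 : Led Lsl_gt (LP (LK LD1_c0 LD2_c21 LD3_c2)) = (LP (LK LD1_c0 LD2_c46 LD3_c1)) :=
  Lgr Lrot149 (Lpe (f17656 IH) (Lpe (f66842 IH) (Lpr_bf (f76714 IH) (Lpr_ct (f76701 IH) (Lpe (f77789 IH) (Lpe (f25114 IH) (Lpr_bt (f77822 IH) (Lpe (f77976 IH) (Lpe (f84645 IH) (Lpr_ct (f84649 IH) (Lpn (LP (LK LD1_c0 LD2_c46 LD3_c1)))))))))))))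
theorem f84656 : Led Lsl_ft (LP (LK LD1_c0 LD2_c21 LD3_c2)) = (LP (LK LD1_c0 LD2_c46 LD3_c60)) :=
  Lre_f IH (LK LD1_c0 LD2_c21 LD3_c2) (LK LD1_c0 LD2_c46 LD3_c60) Lrfl Lrfl
theorem f84653 : Led Lsl_gt (LP (LK LD1_c0 LD2_c46 LD3_c1)) = (LP (LK LD1_c1 LD2_c39 LD3_c12)) :=
  Lre_g IH (LK LD1_c0 LD2_c46 LD3_c1) (LK LD1_c1 LD2_c39 LD3_c12) Lrfl Lrfl
theorem f84657 : Led Lsl_at (LP (LK LD1_c0 LD2_c46 LD3_c60)) = (LP (LK LD1_c1 LD2_c39 LD3_c12)) :=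
  Lgr Lrot26 (Lpe (f84656 IH) (Lpr_gt (f84654 IH) (Lpr_gt (f84653 IH) (Lpn (LP (LK LD1_c1 LD2_c39 LD3_c12))))))
theorem f19365 : Led Lsl_at (LP (LK LD1_c0 LD2_c46 LD3_c57)) = (LP (LK LD1_c0 LD2_c21 LD3_c2)) :=
  Lre_a IH (LK LD1_c0 LD2_c46 LD3_c57) (LK LD1_c0 LD2_c21 LD3_c2) Lrfl Lrfl
theorem f84673 : Led Lsl_ff (LP (LK LD1_c0 LD2_c46 LD3_c57)) = (LP (LK LD1_c1 LD2_c39 LD3_c12)) :=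
  Lgr Lrot30 (Lpr_at (f19365 IH) (Lpr_ft (f84656 IH) (Lpr_at (f84657 IH) (Lpn (LP (LK LD1_c1 LD2_c39 LD3_c12))))))
theorem f84679 : Led Lsl_gf (LP (LK LD1_c0 LD2_c46 LD3_c56)) = (LP (LK LD1_c1 LD2_c39 LD3_c12)) :=
  Lgr Lrot47 (Lpr_gt (K1.f17649 IH) (Lpe (f19365 IH) (Lpr_ff (f84673 IH) (Lpn (LP (LK LD1_c1 LD2_c39 LD3_c12))))))
theorem f21013 : Led Lsl_bt (LP (LK LD1_c0 LD2_c17 LD3_c57)) = (LP (LK LD1_c0 LD2_c8 LD3_c3)) :=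
  Lre_b IH (LK LD1_c0 LD2_c17 LD3_c57) (LK LD1_c0 LD2_c8 LD3_c3) Lrfl Lrfl
theorem f21014 : Led Lsl_ct (LP (LK LD1_c0 LD2_c9 LD3_c16)) = (LP (LK LD1_c0 LD2_c17 LD3_c57)) :=
  Lgr Lrot83 (Lpe (K0.f12692 IH) (Lpe (K0.f12686 IH) (Lpe (K0.f12689 IH) (Lpr_cf (K0.f21004 IH) (Lpe (f21013 IH) (Lpn (LP (LK LD1_c0 LD2_c17 LD3_c57))))))))
theorem f12705 : Led Lsl_bt (LP (LK LD1_c0 LD2_c9 LD3_c16)) = (LP (LK LD1_c0 LD2_c4 LD3_c20)) :=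
  Lre_b IH (LK LD1_c0 LD2_c9 LD3_c16) (LK LD1_c0 LD2_c4 LD3_c20) Lrfl Lrfl
theorem f10303 : Led Lsl_bt (LP (LK LD1_c0 LD2_c21 LD3_c59)) = (LP (LK LD1_c0 LD2_c9 LD3_c56)) :=
  Lre_b IH (LK LD1_c0 LD2_c21 LD3_c59) (LK LD1_c0 LD2_c9 LD3_c56) Lrfl Lrfl
theorem f21024 : Led Lsl_gt (LP (LK LD1_c0 LD2_c39 LD3_c59)) = (LP (LK LD1_c0 LD2_c17 LD3_c57)) :=
  Lre_g IH (LK LD1_c0 LD2_c39 LD3_c59) (LK LD1_c0 LD2_c17 LD3_c57) Lrfl Lrfl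
theorem f21157 : Led Lsl_ct (LP (LK LD1_c0 LD2_c21 LD3_c59)) = (LP (LK LD1_c0 LD2_c39 LD3_c59)) :=
  Lgr Lrot64 (Lpr_bt (f10303 IH) (Lpe (K1.f5856 IH) (Lpe (K0.f5855 IH) (Lpr_ct (K0.f356 IH) (Lpe (K0.f11017 IH) (Lpe (K0.f171 IH) (Lpr_gf (K0.f12684 IH) (Lpe (f12705 IH) (Lpr_ct (f21014 IH) (Lpe (f21024 IH) (Lpn (LP (LK LD1_c0 LD2_c39 LD3_c59)))))))))))))
theorem f17693 : Led Lsl_bt (LP (LK LD1_c0 LD2_c9 LD3_c56)) = (LP (LK LD1_c0 LD2_c21 LD3_c59)) :=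
  Lre_b IH (LK LD1_c0 LD2_c9 LD3_c56) (LK LD1_c0 LD2_c21 LD3_c59) Lrfl Lrfl
theorem f17668 : Led Lsl_bt (LP (LK LD1_c0 LD2_c46 LD3_c56)) = (LP (LK LD1_c0 LD2_c21 LD3_c60)) :=
  Lgr Lrot127 (Lpr_bf (K1.f17650 IH) (Lpn (LP (LK LD1_c0 LD2_c21 LD3_c60))))
theorem f21162 : Led Lsl_bt (LP (LK LD1_c0 LD2_c39 LD3_c59)) = (LP (LK LD1_c1 LD2_c26 LD3_c25)) :=
  Lre_b IH (LK LD1_c0 LD2_c39 LD3_c59) (LK LD1_c1 LD2_c26 LD3_c25) Lrfl Lrfl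
theorem f21163 : Led Lsl_cf (LP (LK LD1_c0 LD2_c46 LD3_c56)) = (LP (LK LD1_c1 LD2_c26 LD3_c25)) :=
  Lgr Lrot97 (Lpr_bt (f17668 IH) (Lpr_ct (K1.f10296 IH) (Lpr_bt (f17693 IH) (Lpr_ct (f21157 IH) (Lpr_bt (f21162 IH) (Lpn (LP (LK LD1_c1 LD2_c26 LD3_c25))))))))
theorem f21025 : Led Lsl_bt (LP (LK LD1_c1 LD2_c26 LD3_c25)) = (LP (LK LD1_c0 LD2_c39 LD3_c59)) :=
  Lre_b IH (LK LD1_c1 LD2_c26 LD3_c25) (LK LD1_c0 LD2_c39 LD3_c59) Lrfl Lrfl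
theorem f21019 : Led Lsl_ct (LP (LK LD1_c0 LD2_c9 LD3_c15)) = (LP (LK LD1_c0 LD2_c17 LD3_c58)) :=
  Lgr Lrot15 (Lpe (K1.f20842 IH) (Lpr_cf (K0.f21004 IH) (Lpe (K1.f21018 IH) (Lpn (LP (LK LD1_c0 LD2_c17 LD3_c58))))))
theorem f20843 : Led Lsl_ft (LP (LK LD1_c0 LD2_c20 LD3_c30)) = (LP (LK LD1_c0 LD2_c9 LD3_c15)) :=
  Lre_f IH (LK LD1_c0 LD2_c20 LD3_c30) (LK LD1_c0 LD2_c9 LD3_c15) Lrfl Lrfl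
theorem f21034 : Led Lsl_ft (LP (LK LD1_c0 LD2_c17 LD3_c58)) = (LP (LK LD1_c0 LD2_c40 LD3_c1)) :=
  Lre_f IH (LK LD1_c0 LD2_c17 LD3_c58) (LK LD1_c0 LD2_c40 LD3_c1) Lrfl Lrfl
theorem f21035 : Led Lsl_cf (LP (LK LD1_c0 LD2_c20 LD3_c30)) = (LP (LK LD1_c0 LD2_c40 LD3_c1)) :=
  Lgr Lrot108 (Lpr_ft (f20843 IH) (Lpr_ct (f21019 IH) (Lpr_ft (f21034 IH) (Lpn (LP (LK LD1_c0 LD2_c40 LD3_c1))))))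
theorem f21045 : Led Lsl_ct (LP (LK LD1_c0 LD2_c20 LD3_c30)) = (LP (LK LD1_c0 LD2_c40 LD3_c1)) :=
  Lgr Lrot59 (Lpr_cf (f21035 IH) (Lpn (LP (LK LD1_c0 LD2_c40 LD3_c1))))
theorem f20853 : Led Lsl_bt (LP (LK LD1_c0 LD2_c9 LD3_c20)) = (LP (LK LD1_c0 LD2_c20 LD3_c30)) :=
  Lre_b IH (LK LD1_c0 LD2_c9 LD3_c20) (LK LD1_c0 LD2_c20 LD3_c30) Lrfl Lrfl
theorem f20858 : Led Lsl_ct (LP (LK LD1_c0 LD2_c20 LD3_c36)) = (LP (LK LD1_c0 LD2_c9 LD3_c20)) :=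
  Lre_c IH (LK LD1_c0 LD2_c20 LD3_c36) (LK LD1_c0 LD2_c9 LD3_c20) Lrfl Lrfl
theorem f21049 : Led Lsl_bt (LP (LK LD1_c0 LD2_c45 LD3_c60)) = (LP (LK LD1_c0 LD2_c20 LD3_c36)) :=
  Lre_b IH (LK LD1_c0 LD2_c45 LD3_c60) (LK LD1_c0 LD2_c20 LD3_c36) Lrfl Lrfl
theorem f21047 : Led Lsl_bt (LP (LK LD1_c0 LD2_c40 LD3_c1)) = (LP (LK LD1_c1 LD2_c26 LD3_c30)) :=
  Lre_b IH (LK LD1_c0 LD2_c40 LD3_c1) (LK LD1_c1 LD2_c26 LD3_c30) Lrfl Lrfl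
theorem f21050 : Led Lsl_cf (LP (LK LD1_c0 LD2_c45 LD3_c60)) = (LP (LK LD1_c1 LD2_c26 LD3_c30)) :=
  Lgr Lrot97 (Lpr_bt (f21049 IH) (Lpr_ct (f20858 IH) (Lpr_bt (f20853 IH) (Lpr_ct (f21045 IH) (Lpr_bt (f21047 IH) (Lpn (LP (LK LD1_c1 LD2_c26 LD3_c30))))))))
theorem f21057 : Led Lsl_ft (LP (LK LD1_c0 LD2_c45 LD3_c60)) = (LP (LK LD1_c0 LD2_c20 LD3_c34)) :=
  Lre_f IH (LK LD1_c0 LD2_c45 LD3_c60) (LK LD1_c0 LD2_c20 LD3_c34) Lrfl Lrfl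
theorem f21058 : Led Lsl_ft (LP (LK LD1_c0 LD2_c39 LD3_c61)) = (LP (LK LD1_c1 LD2_c26 LD3_c30)) :=
  Lre_f IH (LK LD1_c0 LD2_c39 LD3_c61) (LK LD1_c1 LD2_c26 LD3_c30) Lrfl Lrfl
theorem f21059 : Led Lsl_ct (LP (LK LD1_c0 LD2_c20 LD3_c34)) = (LP (LK LD1_c0 LD2_c39 LD3_c61)) :=
  Lgr Lrot40 (Lpe (f21057 IH) (Lpr_cf (f21050 IH) (Lpe (f21058 IH) (Lpn (LP (LK LD1_c0 LD2_c39 LD3_c61))))))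
theorem f21079 : Led Lsl_et (LP (LK LD1_c0 LD2_c9 LD3_c16)) = (LP (LK LD1_c0 LD2_c20 LD3_c34)) :=
  Lre_e IH (LK LD1_c0 LD2_c9 LD3_c16) (LK LD1_c0 LD2_c20 LD3_c34) Lrfl Lrfl
theorem f21080 : Led Lsl_et (LP (LK LD1_c0 LD2_c39 LD3_c61)) = (LP (LK LD1_c0 LD2_c17 LD3_c57)) :=
  Lre_e IH (LK LD1_c0 LD2_c39 LD3_c61) (LK LD1_c0 LD2_c17 LD3_c57) Lrfl Lrfl
theorem f21081 : Led Lsl_cf (LP (LK LD1_c0 LD2_c9 LD3_c16)) = (LP (LK LD1_c0 LD2_c17 LD3_c57)) :=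
  Lgr Lrot39 (Lpr_et (f21079 IH) (Lpr_ct (f21059 IH) (Lpr_et (f21080 IH) (Lpn (LP (LK LD1_c0 LD2_c17 LD3_c57))))))
theorem f17733 : Led Lsl_bt (LP (LK LD1_c0 LD2_c45 LD3_c53)) = (LP (LK LD1_c0 LD2_c46 LD3_c61)) :=
  Lgr Lrot127 (Lpr_bf (K0.f17730 IH) (Lpn (LP (LK LD1_c0 LD2_c46 LD3_c61))))
theorem f10767 : Led Lsl_gt (LP (LK LD1_c0 LD2_c46 LD3_c61)) = (LP (LK LD1_c0 LD2_c21 LD3_c7)) :=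
  Lre_g IH (LK LD1_c0 LD2_c46 LD3_c61) (LK LD1_c0 LD2_c21 LD3_c7) Lrfl Lrfl
theorem f21102 : Led Lsl_bt (LP (LK LD1_c0 LD2_c47 LD3_c10)) = (LP (LK LD1_c0 LD2_c21 LD3_c7)) :=
  Lre_b IH (LK LD1_c0 LD2_c47 LD3_c10) (LK LD1_c0 LD2_c21 LD3_c7) Lrfl Lrfl
theorem f84681 : Led Lsl_ct (LP (LK LD1_c0 LD2_c47 LD3_c10)) = (LP (LK LD1_c1 LD2_c39 LD3_c12)) :=
  Lgr Lrot64 (Lpr_bt (f21102 IH) (Lpe (f10767 IH) (Lpe (f17733 IH) (Lpr_ct (K0.f17728 IH) (Lpe (K0.f17645 IH) (Lpr_cf (f21081 IH) (Lpe (f21024 IH) (Lpe (f21025 IH) (Lpe (f21163 IH) (Lpr_gf (f84679 IH) (Lpn (LP (LK LD1_c1 LD2_c39 LD3_c12)))))))))))))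
theorem f84685 : Led Lsl_cf (LP (LK LD1_c0 LD2_c47 LD3_c10)) = (LP (LK LD1_c1 LD2_c39 LD3_c12)) :=
  Lgr Lrot11 (Lpr_ct (f84681 IH) (Lpn (LP (LK LD1_c1 LD2_c39 LD3_c12))))
theorem f10769 : Led Lsl_bt (LP (LK LD1_c0 LD2_c9 LD3_c33)) = (LP (LK LD1_c0 LD2_c21 LD3_c6)) :=
  Lre_b IH (LK LD1_c0 LD2_c9 LD3_c33) (LK LD1_c0 LD2_c21 LD3_c6) Lrfl Lrfl
theorem f10383 : Led Lsl_bt (LP (LK LD1_c0 LD2_c9 LD3_c51)) = (LP (LK LD1_c0 LD2_c21 LD3_c44)) :=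
  Lre_b IH (LK LD1_c0 LD2_c9 LD3_c51) (LK LD1_c0 LD2_c21 LD3_c44) Lrfl Lrfl
theorem f10384 : Led Lsl_at (LP (LK LD1_c0 LD2_c21 LD3_c44)) = (LP (LK LD1_c0 LD2_c48 LD3_c15)) :=
  Lre_a IH (LK LD1_c0 LD2_c21 LD3_c44) (LK LD1_c0 LD2_c48 LD3_c15) Lrfl Lrfl
theorem f10385 : Led Lsl_bt (LP (LK LD1_c0 LD2_c21 LD3_c44)) = (LP (LK LD1_c0 LD2_c9 LD3_c51)) :=
  Lre_b IH (LK LD1_c0 LD2_c21 LD3_c44) (LK LD1_c0 LD2_c9 LD3_c51) Lrfl Lrfl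
theorem f10386 : Led Lsl_at (LP (LK LD1_c0 LD2_c48 LD3_c15)) = (LP (LK LD1_c0 LD2_c21 LD3_c44)) :=
  Lre_a IH (LK LD1_c0 LD2_c48 LD3_c15) (LK LD1_c0 LD2_c21 LD3_c44) Lrfl Lrfl
theorem f10387 : Led Lsl_bt (LP (LK LD1_c0 LD2_c48 LD3_c15)) = (LP (LK LD1_c0 LD2_c48 LD3_c15)) :=
  Lgr Lrot62 (Lpe (f10384 IH) (Lpe (f10383 IH) (Lpr_af (K0.f10381 IH) (Lpe (f10385 IH) (Lpe (f10386 IH) (Lpn (LP (LK LD1_c0 LD2_c48 LD3_c15))))))))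
theorem f10398 : Led Lsl_bf (LP (LK LD1_c0 LD2_c21 LD3_c37)) = (LP (LK LD1_c0 LD2_c21 LD3_c37)) :=
  Lgr Lrot93 (Lpr_dt (K0.f10308 IH) (Lpr_bt (f10387 IH) (Lpr_dt (K0.f10397 IH) (Lpn (LP (LK LD1_c0 LD2_c21 LD3_c37))))))
theorem f10431 : Led Lsl_bt (LP (LK LD1_c0 LD2_c9 LD3_c45)) = (LP (LK LD1_c0 LD2_c9 LD3_c45)) :=
  Lgr Lrot119 (Lpe (K0.f10307 IH) (Lpr_bf (f10398 IH) (Lpe (K0.f10245 IH) (Lpn (LP (LK LD1_c0 LD2_c9 LD3_c45))))))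
theorem f10294 : Led Lsl_gf (LP (LK LD1_c0 LD2_c9 LD3_c45)) = (LP (LK LD1_c0 LD2_c9 LD3_c56)) :=
  Lgr Lrot76 (Lpe (K0.f10283 IH) (Lpr_ff (K0.f10262 IH) (Lpr_gt (K1.f5856 IH) (Lpn (LP (LK LD1_c0 LD2_c9 LD3_c56))))))
theorem f19350 : Led Lsl_gt (LP (LK LD1_c0 LD2_c21 LD3_c6)) = (LP (LK LD1_c0 LD2_c21 LD3_c60)) :=
  Lgr Lrot82 (Lpe (f10769 IH) (Lpr_ct (K1.f10768 IH) (Lpe (f10767 IH) (Lpr_cf (K0.f9930 IH) (Lpr_bt (K0.f6102 IH) (Lpe (K0.f10755 IH) (Lpe (f10431 IH) (Lpr_ct (K0.f17960 IH) (Lpr_gf (f10294 IH) (Lpe (K1.f10296 IH) (Lpn (LP (LK LD1_c0 LD2_c21 LD3_c60)))))))))))))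
theorem f19352 : Led Lsl_ft (LP (LK LD1_c0 LD2_c21 LD3_c6)) = (LP (LK LD1_c0 LD2_c46 LD3_c53)) :=
  Lre_f IH (LK LD1_c0 LD2_c21 LD3_c6) (LK LD1_c0 LD2_c46 LD3_c53) Lrfl Lrfl
theorem f10297 : Led Lsl_gt (LP (LK LD1_c0 LD2_c21 LD3_c60)) = (LP (LK LD1_c0 LD2_c48 LD3_c61)) :=
  Lre_g IH (LK LD1_c0 LD2_c21 LD3_c60) (LK LD1_c0 LD2_c48 LD3_c61) Lrfl Lrfl
theorem f19353 : Led Lsl_at (LP (LK LD1_c0 LD2_c46 LD3_c53)) = (LP (LK LD1_c0 LD2_c48 LD3_c61)) :=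
  Lgr Lrot26 (Lpe (f19352 IH) (Lpr_gt (f19350 IH) (Lpr_gt (f10297 IH) (Lpn (LP (LK LD1_c0 LD2_c48 LD3_c61))))))
theorem f19368 : Led Lsl_et (LP (LK LD1_c1 LD2_c40 LD3_c48)) = (LP (LK LD1_c0 LD2_c46 LD3_c53)) :=
  Lre_e IH (LK LD1_c1 LD2_c40 LD3_c48) (LK LD1_c0 LD2_c46 LD3_c53) Lrfl Lrfl
theorem f17500 : Led Lsl_et (LP (LK LD1_c0 LD2_c48 LD3_c61)) = (LP (LK LD1_c1 LD2_c44 LD3_c40)) :=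
  Lre_e IH (LK LD1_c0 LD2_c48 LD3_c61) (LK LD1_c1 LD2_c44 LD3_c40) Lrfl Lrfl
theorem f19369 : Led Lsl_af (LP (LK LD1_c1 LD2_c40 LD3_c48)) = (LP (LK LD1_c1 LD2_c44 LD3_c40)) :=
  Lgr Lrot50 (Lpr_et (f19368 IH) (Lpr_at (f19353 IH) (Lpr_et (f17500 IH) (Lpn (LP (LK LD1_c1 LD2_c44 LD3_c40))))))
theorem f19389 : Led Lsl_dt (LP (LK LD1_c1 LD2_c40 LD3_c48)) = (LP (LK LD1_c3 LD2_c28 LD3_c21)) :=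
  Lre_d IH (LK LD1_c1 LD2_c40 LD3_c48) (LK LD1_c3 LD2_c28 LD3_c21) Lrfl Lrfl
theorem f19390 : Led Lsl_dt (LP (LK LD1_c3 LD2_c35 LD3_c36)) = (LP (LK LD1_c1 LD2_c44 LD3_c40)) :=
  Lre_d IH (LK LD1_c3 LD2_c35 LD3_c36) (LK LD1_c1 LD2_c44 LD3_c40) Lrfl Lrfl
theorem f19391 : Led Lsl_at (LP (LK LD1_c3 LD2_c28 LD3_c21)) = (LP (LK LD1_c3 LD2_c35 LD3_c36)) :=
  Lgr Lrot51 (Lpe (f19389 IH) (Lpr_af (f19369 IH) (Lpe (f19390 IH) (Lpn (LP (LK LD1_c3 LD2_c35 LD3_c36))))))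
theorem f19395 : Led Lsl_bt (LP (LK LD1_c1 LD2_c40 LD3_c50)) = (LP (LK LD1_c3 LD2_c28 LD3_c21)) :=
  Lre_b IH (LK LD1_c1 LD2_c40 LD3_c50) (LK LD1_c3 LD2_c28 LD3_c21) Lrfl Lrfl
theorem f19396 : Led Lsl_at (LP (LK LD1_c0 LD2_c47 LD3_c6)) = (LP (LK LD1_c1 LD2_c40 LD3_c50)) :=
  Lre_a IH (LK LD1_c0 LD2_c47 LD3_c6) (LK LD1_c1 LD2_c40 LD3_c50) Lrfl Lrfl
theorem f19397 : Led Lsl_bt (LP (LK LD1_c1 LD2_c40 LD3_c57)) = (LP (LK LD1_c0 LD2_c47 LD3_c6)) :=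
  Lre_b IH (LK LD1_c1 LD2_c40 LD3_c57) (LK LD1_c0 LD2_c47 LD3_c6) Lrfl Lrfl
theorem f19398 : Led Lsl_at (LP (LK LD1_c3 LD2_c28 LD3_c25)) = (LP (LK LD1_c1 LD2_c40 LD3_c57)) :=
  Lre_a IH (LK LD1_c3 LD2_c28 LD3_c25) (LK LD1_c1 LD2_c40 LD3_c57) Lrfl Lrfl
theorem f19399 : Led Lsl_bf (LP (LK LD1_c3 LD2_c28 LD3_c25)) = (LP (LK LD1_c3 LD2_c35 LD3_c36)) :=
  Lgr Lrot81 (Lpr_at (f19398 IH) (Lpr_bt (f19397 IH) (Lpr_at (f19396 IH) (Lpr_bt (f19395 IH) (Lpr_at (f19391 IH) (Lpn (LP (LK LD1_c3 LD2_c35 LD3_c36))))))))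
theorem f19401 : Led Lsl_bt (LP (LK LD1_c3 LD2_c28 LD3_c25)) = (LP (LK LD1_c3 LD2_c35 LD3_c36)) :=
  Lgr Lrot127 (Lpr_bf (f19399 IH) (Lpn (LP (LK LD1_c3 LD2_c35 LD3_c36))))
theorem f19409 : Led Lsl_dt (LP (LK LD1_c1 LD2_c40 LD3_c52)) = (LP (LK LD1_c3 LD2_c28 LD3_c25)) :=
  Lre_d IH (LK LD1_c1 LD2_c40 LD3_c52) (LK LD1_c3 LD2_c28 LD3_c25) Lrfl Lrfl
theorem f19410 : Led Lsl_bf (LP (LK LD1_c1 LD2_c40 LD3_c52)) = (LP (LK LD1_c1 LD2_c44 LD3_c40)) :=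
  Lgr Lrot93 (Lpr_dt (f19409 IH) (Lpr_bt (f19401 IH) (Lpr_dt (f19390 IH) (Lpn (LP (LK LD1_c1 LD2_c44 LD3_c40))))))
theorem f19416 : Led Lsl_et (LP (LK LD1_c1 LD2_c40 LD3_c52)) = (LP (LK LD1_c0 LD2_c46 LD3_c57)) :=
  Lre_e IH (LK LD1_c1 LD2_c40 LD3_c52) (LK LD1_c0 LD2_c46 LD3_c57) Lrfl Lrfl
theorem f19417 : Led Lsl_bt (LP (LK LD1_c0 LD2_c46 LD3_c57)) = (LP (LK LD1_c0 LD2_c48 LD3_c61)) :=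
  Lgr Lrot119 (Lpe (f19416 IH) (Lpr_bf (f19410 IH) (Lpe (f17500 IH) (Lpn (LP (LK LD1_c0 LD2_c48 LD3_c61))))))
theorem f19371 : Led Lsl_at (LP (LK LD1_c0 LD2_c47 LD3_c8)) = (LP (LK LD1_c0 LD2_c21 LD3_c6)) :=
  Lre_a IH (LK LD1_c0 LD2_c47 LD3_c8) (LK LD1_c0 LD2_c21 LD3_c6) Lrfl Lrfl
theorem f19372 : Led Lsl_ff (LP (LK LD1_c0 LD2_c47 LD3_c8)) = (LP (LK LD1_c0 LD2_c48 LD3_c61)) :=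
  Lgr Lrot30 (Lpr_at (f19371 IH) (Lpr_ft (f19352 IH) (Lpr_at (f19353 IH) (Lpn (LP (LK LD1_c0 LD2_c48 LD3_c61))))))
theorem f84675 : Led Lsl_bt (LP (LK LD1_c0 LD2_c47 LD3_c8)) = (LP (LK LD1_c1 LD2_c39 LD3_c12)) :=
  Lgr Lrot35 (Lpr_ff (f19372 IH) (Lpe (f19417 IH) (Lpr_ff (f84673 IH) (Lpn (LP (LK LD1_c1 LD2_c39 LD3_c12))))))
theorem f84687 : Led Lsl_ct (LP (LK LD1_c0 LD2_c21 LD3_c6)) = (LP (LK LD1_c0 LD2_c47 LD3_c8)) :=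
  Lgr Lrot83 (Lpe (f10769 IH) (Lpe (K1.f19356 IH) (Lpe (f21102 IH) (Lpr_cf (f84685 IH) (Lpe (f84675 IH) (Lpn (LP (LK LD1_c0 LD2_c47 LD3_c8))))))))
theorem f10018 : Led Lsl_bt (LP (LK LD1_c0 LD2_c21 LD3_c6)) = (LP (LK LD1_c0 LD2_c9 LD3_c33)) :=
  Lre_b IH (LK LD1_c0 LD2_c21 LD3_c6) (LK LD1_c0 LD2_c9 LD3_c33) Lrfl Lrfl
theorem f10015 : Led Lsl_gt (LP (LK LD1_c0 LD2_c4 LD3_c35)) = (LP (LK LD1_c0 LD2_c9 LD3_c43)) :=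
  Lre_g IH (LK LD1_c0 LD2_c4 LD3_c35) (LK LD1_c0 LD2_c9 LD3_c43) Lrfl Lrfl
theorem f10016 : Led Lsl_ct (LP (LK LD1_c0 LD2_c9 LD3_c43)) = (LP (LK LD1_c0 LD2_c21 LD3_c30)) :=
  Lre_c IH (LK LD1_c0 LD2_c9 LD3_c43) (LK LD1_c0 LD2_c21 LD3_c30) Lrfl Lrfl
theorem f84720 : Led Lsl_gt (LP (LK LD1_c0 LD2_c21 LD3_c30)) = (LP (LK LD1_c0 LD2_c47 LD3_c8)) :=
  Lgr Lrot149 (Lpe (f10016 IH) (Lpe (f10015 IH) (Lpe (K0.f10014 IH) (Lpr_ct (K0.f5879 IH) (Lpr_gf (K0.f10010 IH) (Lpe (K0.f109 IH) (Lpr_bt (K0.f3945 IH) (Lpe (K1.f10017 IH) (Lpe (f10018 IH) (Lpr_ct (f84687 IH) (Lpn (LP (LK LD1_c0 LD2_c47 LD3_c8)))))))))))))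
theorem f84731 : Led Lsl_bt (LP (LK LD1_c0 LD2_c9 LD3_c43)) = (LP (LK LD1_c0 LD2_c21 LD3_c29)) :=
  Lre_b IH (LK LD1_c0 LD2_c9 LD3_c43) (LK LD1_c0 LD2_c21 LD3_c29) Lrfl Lrfl
theorem f84732 : Led Lsl_gt (LP (LK LD1_c0 LD2_c47 LD3_c56)) = (LP (LK LD1_c0 LD2_c21 LD3_c29)) :=
  Lre_g IH (LK LD1_c0 LD2_c47 LD3_c56) (LK LD1_c0 LD2_c21 LD3_c29) Lrfl Lrfl
theorem f12118 : Led Lsl_ct (LP (LK LD1_c0 LD2_c40 LD3_c10)) = (LP (LK LD1_c0 LD2_c17 LD3_c61)) :=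
  Lre_c IH (LK LD1_c0 LD2_c40 LD3_c10) (LK LD1_c0 LD2_c17 LD3_c61) Lrfl Lrfl
theorem f84733 : Led Lsl_bf (LP (LK LD1_c0 LD2_c47 LD3_c56)) = (LP (LK LD1_c0 LD2_c40 LD3_c10)) :=
  Lgr Lrot156 (Lpr_gt (f84732 IH) (Lpe (f84731 IH) (Lpr_ct (f10016 IH) (Lpr_gt (f84720 IH) (Lpe (f84687 IH) (Lpr_bt (f10018 IH) (Lpr_gt (K1.f10017 IH) (Lpr_ct (K1.f12117 IH) (Lpr_gt (K1.f7106 IH) (Lpe (f12118 IH) (Lpn (LP (LK LD1_c0 LD2_c40 LD3_c10)))))))))))))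
theorem f84743 : Led Lsl_et (LP (LK LD1_c0 LD2_c47 LD3_c56)) = (LP (LK LD1_c1 LD2_c42 LD3_c41)) :=
  Lre_e IH (LK LD1_c0 LD2_c47 LD3_c56) (LK LD1_c1 LD2_c42 LD3_c41) Lrfl Lrfl
theorem f84714 : Led Lsl_et (LP (LK LD1_c1 LD2_c26 LD3_c47)) = (LP (LK LD1_c0 LD2_c40 LD3_c10)) :=
  Lre_e IH (LK LD1_c1 LD2_c26 LD3_c47) (LK LD1_c0 LD2_c40 LD3_c10) Lrfl Lrfl
theorem f84744 : Led Lsl_bt (LP (LK LD1_c1 LD2_c42 LD3_c41)) = (LP (LK LD1_c1 LD2_c26 LD3_c47)) :=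
  Lgr Lrot119 (Lpe (f84743 IH) (Lpr_bf (f84733 IH) (Lpe (f84714 IH) (Lpn (LP (LK LD1_c1 LD2_c26 LD3_c47))))))
theorem f61750 : Led Lsl_ct (LP (LK LD1_c1 LD2_c26 LD3_c47)) = (LP (LK LD1_c0 LD2_c40 LD3_c11)) :=
  Lre_c IH (LK LD1_c1 LD2_c26 LD3_c47) (LK LD1_c0 LD2_c40 LD3_c11) Lrfl Lrfl
theorem f61749 : Led Lsl_bt (LP (LK LD1_c0 LD2_c40 LD3_c11)) = (LP (LK LD1_c1 LD2_c26 LD3_c45)) :=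
  Lre_b IH (LK LD1_c0 LD2_c40 LD3_c11) (LK LD1_c1 LD2_c26 LD3_c45) Lrfl Lrfl
theorem f61717 : Led Lsl_et (LP (LK LD1_c0 LD2_c41 LD3_c16)) = (LP (LK LD1_c1 LD2_c29 LD3_c17)) :=
  Lre_e IH (LK LD1_c0 LD2_c41 LD3_c16) (LK LD1_c1 LD2_c29 LD3_c17) Lrfl Lrfl
theorem f61718 : Led Lsl_et (LP (LK LD1_c1 LD2_c26 LD3_c45)) = (LP (LK LD1_c0 LD2_c40 LD3_c9)) :=
  Lre_e IH (LK LD1_c1 LD2_c26 LD3_c45) (LK LD1_c0 LD2_c40 LD3_c9) Lrfl Lrfl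
theorem f61719 : Led Lsl_ct (LP (LK LD1_c1 LD2_c29 LD3_c17)) = (LP (LK LD1_c1 LD2_c26 LD3_c45)) :=
  Lgr Lrot15 (Lpe (f61717 IH) (Lpr_cf (f61669 IH) (Lpe (f61718 IH) (Lpn (LP (LK LD1_c1 LD2_c26 LD3_c45))))))
theorem f61728 : Led Lsl_cf (LP (LK LD1_c1 LD2_c29 LD3_c17)) = (LP (LK LD1_c1 LD2_c26 LD3_c45)) :=
  Lgr Lrot11 (Lpr_ct (f61719 IH) (Lpn (LP (LK LD1_c1 LD2_c26 LD3_c45))))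
theorem f61747 : Led Lsl_bt (LP (LK LD1_c1 LD2_c29 LD3_c17)) = (LP (LK LD1_c3 LD2_c6 LD3_c19)) :=
  Lre_b IH (LK LD1_c1 LD2_c29 LD3_c17) (LK LD1_c3 LD2_c6 LD3_c19) Lrfl Lrfl
theorem f87527 : Led Lsl_cf (LP (LK LD1_c1 LD2_c42 LD3_c41)) = (LP (LK LD1_c3 LD2_c6 LD3_c19)) :=
  Lgr Lrot97 (Lpr_bt (f84744 IH) (Lpr_ct (f61750 IH) (Lpr_bt (f61749 IH) (Lpe (f61728 IH) (Lpr_bt (f61747 IH) (Lpn (LP (LK LD1_c3 LD2_c6 LD3_c19))))))))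
theorem f87548 : Led Lsl_ct (LP (LK LD1_c1 LD2_c42 LD3_c41)) = (LP (LK LD1_c3 LD2_c6 LD3_c19)) :=
  Lgr Lrot59 (Lpr_cf (f87527 IH) (Lpn (LP (LK LD1_c3 LD2_c6 LD3_c19))))
theorem f87552 : Led Lsl_et (LP (LK LD1_c3 LD2_c6 LD3_c19)) = (LP (LK LD1_c1 LD2_c29 LD3_c15)) :=
  Lre_e IH (LK LD1_c3 LD2_c6 LD3_c19) (LK LD1_c1 LD2_c29 LD3_c15) Lrfl Lrfl
theorem f87553 : Led Lsl_cf (LP (LK LD1_c0 LD2_c47 LD3_c56)) = (LP (LK LD1_c1 LD2_c29 LD3_c15)) :=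
  Lgr Lrot39 (Lpr_et (f84743 IH) (Lpr_ct (f87548 IH) (Lpr_et (f87552 IH) (Lpn (LP (LK LD1_c1 LD2_c29 LD3_c15))))))
theorem f11387 : Led Lsl_bt (LP (LK LD1_c0 LD2_c4 LD3_c30)) = (LP (LK LD1_c0 LD2_c2 LD3_c4)) :=
  Lre_b IH (LK LD1_c0 LD2_c4 LD3_c30) (LK LD1_c0 LD2_c2 LD3_c4) Lrfl Lrfl
theorem f12116 : Led Lsl_bt (LP (LK LD1_c0 LD2_c9 LD3_c21)) = (LP (LK LD1_c0 LD2_c4 LD3_c22)) :=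
  Lre_b IH (LK LD1_c0 LD2_c9 LD3_c21) (LK LD1_c0 LD2_c4 LD3_c22) Lrfl Lrfl
theorem f20019 : Led Lsl_ct (LP (LK LD1_c0 LD2_c9 LD3_c21)) = (LP (LK LD1_c0 LD2_c20 LD3_c10)) :=
  Lgr Lrot83 (Lpe (f12077 IH) (Lpe (K0.f3830 IH) (Lpr_bf (K0.f20008 IH) (Lpe (K0.f7365 IH) (Lpe (f20018 IH) (Lpn (LP (LK LD1_c0 LD2_c20 LD3_c10))))))))
theorem f7370 : Led Lsl_gt (LP (LK LD1_c0 LD2_c45 LD3_c19)) = (LP (LK LD1_c0 LD2_c20 LD3_c10)) :=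
  Lre_g IH (LK LD1_c0 LD2_c45 LD3_c19) (LK LD1_c0 LD2_c20 LD3_c10) Lrfl Lrfl
theorem f84747 : Led Lsl_ct (LP (LK LD1_c0 LD2_c21 LD3_c29)) = (LP (LK LD1_c0 LD2_c45 LD3_c19)) :=
  Lgr Lrot91 (Lpe (f84732 IH) (Lpr_bf (f84733 IH) (Lpr_ct (f12118 IH) (Lpe (K1.f7106 IH) (Lpe (K1.f12117 IH) (Lpr_bt (f11387 IH) (Lpe (K0.f12075 IH) (Lpe (f12116 IH) (Lpr_ct (f20019 IH) (Lpe (f7370 IH) (Lpn (LP (LK LD1_c0 LD2_c45 LD3_c19)))))))))))))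
theorem f84753 : Led Lsl_cf (LP (LK LD1_c0 LD2_c21 LD3_c29)) = (LP (LK LD1_c0 LD2_c45 LD3_c19)) :=
  Lgr Lrot11 (Lpr_ct (f84747 IH) (Lpn (LP (LK LD1_c0 LD2_c45 LD3_c19))))
theorem f84750 : Led Lsl_bt (LP (LK LD1_c0 LD2_c45 LD3_c19)) = (LP (LK LD1_c1 LD2_c37 LD3_c46)) :=
  Lre_b IH (LK LD1_c0 LD2_c45 LD3_c19) (LK LD1_c1 LD2_c37 LD3_c46) Lrfl Lrfl
theorem f25115 : Led Lsl_bt (LP (LK LD1_c1 LD2_c29 LD3_c15)) = (LP (LK LD1_c0 LD2_c41 LD3_c16)) :=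
  Lre_b IH (LK LD1_c1 LD2_c29 LD3_c15) (LK LD1_c0 LD2_c41 LD3_c16) Lrfl Lrfl
theorem f87555 : Led Lsl_gt (LP (LK LD1_c1 LD2_c37 LD3_c46)) = (LP (LK LD1_c0 LD2_c47 LD3_c48)) :=
  Lgr Lrot82 (Lpe (f84750 IH) (Lpe (f84753 IH) (Lpe (f84732 IH) (Lpr_cf (f87553 IH) (Lpr_bt (f25115 IH) (Lpr_gf (f76707 IH) (Lpe (f67031 IH) (Lpr_ct (f66829 IH) (Lpe (f18160 IH) (Lpe (f17665 IH) (Lpn (LP (LK LD1_c0 LD2_c47 LD3_c48)))))))))))))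
theorem f84756 : Led Lsl_et (LP (LK LD1_c0 LD2_c47 LD3_c59)) = (LP (LK LD1_c0 LD2_c21 LD3_c29)) :=
  Lre_e IH (LK LD1_c0 LD2_c47 LD3_c59) (LK LD1_c0 LD2_c21 LD3_c29) Lrfl Lrfl
theorem f84757 : Led Lsl_et (LP (LK LD1_c0 LD2_c45 LD3_c19)) = (LP (LK LD1_c1 LD2_c37 LD3_c47)) :=
  Lre_e IH (LK LD1_c0 LD2_c45 LD3_c19) (LK LD1_c1 LD2_c37 LD3_c47) Lrfl Lrfl
theorem f84758 : Led Lsl_cf (LP (LK LD1_c0 LD2_c47 LD3_c59)) = (LP (LK LD1_c1 LD2_c37 LD3_c47)) :=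
  Lgr Lrot39 (Lpr_et (f84756 IH) (Lpr_ct (f84747 IH) (Lpr_et (f84757 IH) (Lpn (LP (LK LD1_c1 LD2_c37 LD3_c47))))))
theorem f87483 : Led Lsl_ct (LP (LK LD1_c0 LD2_c47 LD3_c59)) = (LP (LK LD1_c1 LD2_c37 LD3_c47)) :=
  Lgr Lrot59 (Lpr_cf (f84758 IH) (Lpn (LP (LK LD1_c1 LD2_c37 LD3_c47))))
theorem f87497 : Led Lsl_bt (LP (LK LD1_c0 LD2_c21 LD3_c32)) = (LP (LK LD1_c0 LD2_c47 LD3_c59)) :=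
  Lre_b IH (LK LD1_c0 LD2_c21 LD3_c32) (LK LD1_c0 LD2_c47 LD3_c59) Lrfl Lrfl
theorem f87498 : Led Lsl_ct (LP (LK LD1_c0 LD2_c48 LD3_c0)) = (LP (LK LD1_c0 LD2_c21 LD3_c32)) :=
  Lre_c IH (LK LD1_c0 LD2_c48 LD3_c0) (LK LD1_c0 LD2_c21 LD3_c32) Lrfl Lrfl
theorem f87499 : Led Lsl_bt (LP (LK LD1_c1 LD2_c42 LD3_c46)) = (LP (LK LD1_c0 LD2_c48 LD3_c0)) :=
  Lre_b IH (LK LD1_c1 LD2_c42 LD3_c46) (LK LD1_c0 LD2_c48 LD3_c0) Lrfl Lrfl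
theorem f87495 : Led Lsl_bt (LP (LK LD1_c1 LD2_c37 LD3_c47)) = (LP (LK LD1_c3 LD2_c22 LD3_c50)) :=
  Lre_b IH (LK LD1_c1 LD2_c37 LD3_c47) (LK LD1_c3 LD2_c22 LD3_c50) Lrfl Lrfl
theorem f87500 : Led Lsl_cf (LP (LK LD1_c1 LD2_c42 LD3_c46)) = (LP (LK LD1_c3 LD2_c22 LD3_c50)) :=
  Lgr Lrot97 (Lpr_bt (f87499 IH) (Lpr_ct (f87498 IH) (Lpr_bt (f87497 IH) (Lpr_ct (f87483 IH) (Lpr_bt (f87495 IH) (Lpn (LP (LK LD1_c3 LD2_c22 LD3_c50))))))))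
theorem f87509 : Led Lsl_et (LP (LK LD1_c1 LD2_c42 LD3_c46)) = (LP (LK LD1_c0 LD2_c47 LD3_c60)) :=
  Lre_e IH (LK LD1_c1 LD2_c42 LD3_c46) (LK LD1_c0 LD2_c47 LD3_c60) Lrfl Lrfl
theorem f87510 : Led Lsl_et (LP (LK LD1_c1 LD2_c37 LD3_c46)) = (LP (LK LD1_c3 LD2_c22 LD3_c50)) :=
  Lre_e IH (LK LD1_c1 LD2_c37 LD3_c46) (LK LD1_c3 LD2_c22 LD3_c50) Lrfl Lrfl
theorem f87511 : Led Lsl_ct (LP (LK LD1_c0 LD2_c47 LD3_c60)) = (LP (LK LD1_c1 LD2_c37 LD3_c46)) :=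
  Lgr Lrot15 (Lpe (f87509 IH) (Lpr_cf (f87500 IH) (Lpe (f87510 IH) (Lpn (LP (LK LD1_c1 LD2_c37 LD3_c46))))))
theorem f84730 : Led Lsl_bt (LP (LK LD1_c0 LD2_c47 LD3_c60)) = (LP (LK LD1_c0 LD2_c21 LD3_c30)) :=
  Lre_b IH (LK LD1_c0 LD2_c47 LD3_c60) (LK LD1_c0 LD2_c21 LD3_c30) Lrfl Lrfl
theorem f19378 : Led Lsl_at (LP (LK LD1_c0 LD2_c21 LD3_c6)) = (LP (LK LD1_c0 LD2_c47 LD3_c8)) :=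
  Lre_a IH (LK LD1_c0 LD2_c21 LD3_c6) (LK LD1_c0 LD2_c47 LD3_c8) Lrfl Lrfl
theorem f19379 : Led Lsl_ft (LP (LK LD1_c0 LD2_c46 LD3_c53)) = (LP (LK LD1_c0 LD2_c21 LD3_c6)) :=
  Lre_f IH (LK LD1_c0 LD2_c46 LD3_c53) (LK LD1_c0 LD2_c21 LD3_c6) Lrfl Lrfl
theorem f84722 : Led Lsl_gf (LP (LK LD1_c0 LD2_c21 LD3_c30)) = (LP (LK LD1_c0 LD2_c46 LD3_c53)) :=
  Lgr Lrot47 (Lpr_gt (f84720 IH) (Lpe (f19378 IH) (Lpe (f19379 IH) (Lpn (LP (LK LD1_c0 LD2_c46 LD3_c53))))))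
theorem f19363 : Led Lsl_bt (LP (LK LD1_c0 LD2_c21 LD3_c1)) = (LP (LK LD1_c0 LD2_c46 LD3_c53)) :=
  Lre_b IH (LK LD1_c0 LD2_c21 LD3_c1) (LK LD1_c0 LD2_c46 LD3_c53) Lrfl Lrfl
theorem f84705 : Led Lsl_ct (LP (LK LD1_c0 LD2_c21 LD3_c1)) = (LP (LK LD1_c0 LD2_c46 LD3_c54)) :=
  Lre_c IH (LK LD1_c0 LD2_c21 LD3_c1) (LK LD1_c0 LD2_c46 LD3_c54) Lrfl Lrfl
theorem f12691 : Led Lsl_ct (LP (LK LD1_c0 LD2_c21 LD3_c23)) = (LP (LK LD1_c0 LD2_c47 LD3_c48)) :=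
  Lre_c IH (LK LD1_c0 LD2_c21 LD3_c23) (LK LD1_c0 LD2_c47 LD3_c48) Lrfl Lrfl
theorem f10287 : Led Lsl_bt (LP (LK LD1_c0 LD2_c4 LD3_c35)) = (LP (LK LD1_c0 LD2_c2 LD3_c6)) :=
  Lre_b IH (LK LD1_c0 LD2_c4 LD3_c35) (LK LD1_c0 LD2_c2 LD3_c6) Lrfl Lrfl
theorem f17637 : Led Lsl_cf (LP (LK LD1_c0 LD2_c4 LD3_c35)) = (LP (LK LD1_c0 LD2_c4 LD3_c35)) :=
  Lgr Lrot108 (Lpr_ft (K0.f10226 IH) (Lpr_ct (K0.f17629 IH) (Lpe (K0.f10262 IH) (Lpn (LP (LK LD1_c0 LD2_c4 LD3_c35))))))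
theorem f6675 : Led Lsl_gt (LP (LK LD1_c0 LD2_c9 LD3_c44)) = (LP (LK LD1_c0 LD2_c4 LD3_c35)) :=
  Lre_g IH (LK LD1_c0 LD2_c9 LD3_c44) (LK LD1_c0 LD2_c4 LD3_c35) Lrfl Lrfl
theorem f10786 : Led Lsl_ct (LP (LK LD1_c0 LD2_c21 LD3_c34)) = (LP (LK LD1_c0 LD2_c9 LD3_c44)) :=
  Lre_c IH (LK LD1_c0 LD2_c21 LD3_c34) (LK LD1_c0 LD2_c9 LD3_c44) Lrfl Lrfl
theorem f84669 : Led Lsl_bt (LP (LK LD1_c0 LD2_c21 LD3_c5)) = (LP (LK LD1_c0 LD2_c46 LD3_c60)) :=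
  Lre_b IH (LK LD1_c0 LD2_c21 LD3_c5) (LK LD1_c0 LD2_c46 LD3_c60) Lrfl Lrfl
theorem f84670 : Led Lsl_at (LP (LK LD1_c0 LD2_c9 LD3_c33)) = (LP (LK LD1_c0 LD2_c21 LD3_c5)) :=
  Lre_a IH (LK LD1_c0 LD2_c9 LD3_c33) (LK LD1_c0 LD2_c21 LD3_c5) Lrfl Lrfl
theorem f84671 : Led Lsl_bf (LP (LK LD1_c0 LD2_c47 LD3_c8)) = (LP (LK LD1_c1 LD2_c39 LD3_c12)) :=
  Lgr Lrot81 (Lpr_at (f19371 IH) (Lpr_bt (f10018 IH) (Lpr_at (f84670 IH) (Lpr_bt (f84669 IH) (Lpr_at (f84657 IH) (Lpn (LP (LK LD1_c1 LD2_c39 LD3_c12))))))))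
theorem f84689 : Led Lsl_gf (LP (LK LD1_c0 LD2_c21 LD3_c34)) = (LP (LK LD1_c0 LD2_c47 LD3_c8)) :=
  Lgr Lrot181 (Lpr_ct (f10786 IH) (Lpr_gt (f6675 IH) (Lpr_cf (f17637 IH) (Lpr_bt (f10287 IH) (Lpr_gt (K0.f10012 IH) (Lpe (K1.f17652 IH) (Lpr_ct (K1.f12096 IH) (Lpe (K1.f66635 IH) (Lpr_cf (f84685 IH) (Lpe (f84671 IH) (Lpn (LP (LK LD1_c0 LD2_c47 LD3_c8)))))))))))))
theorem f12082 : Led Lsl_gt (LP (LK LD1_c0 LD2_c21 LD3_c24)) = (LP (LK LD1_c0 LD2_c9 LD3_c41)) :=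
  Lre_g IH (LK LD1_c0 LD2_c21 LD3_c24) (LK LD1_c0 LD2_c9 LD3_c41) Lrfl Lrfl
theorem f12083 : Led Lsl_bt (LP (LK LD1_c0 LD2_c47 LD3_c49)) = (LP (LK LD1_c0 LD2_c21 LD3_c24)) :=
  Lre_b IH (LK LD1_c0 LD2_c47 LD3_c49) (LK LD1_c0 LD2_c21 LD3_c24) Lrfl Lrfl
theorem f12078 : Led Lsl_gt (LP (LK LD1_c0 LD2_c9 LD3_c21)) = (LP (LK LD1_c0 LD2_c20 LD3_c37)) :=
  Lre_g IH (LK LD1_c0 LD2_c9 LD3_c21) (LK LD1_c0 LD2_c20 LD3_c37) Lrfl Lrfl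
theorem f12079 : Led Lsl_ct (LP (LK LD1_c0 LD2_c20 LD3_c37)) = (LP (LK LD1_c0 LD2_c46 LD3_c0)) :=
  Lre_c IH (LK LD1_c0 LD2_c20 LD3_c37) (LK LD1_c0 LD2_c46 LD3_c0) Lrfl Lrfl
theorem f12080 : Led Lsl_gt (LP (LK LD1_c0 LD2_c46 LD3_c0)) = (LP (LK LD1_c1 LD2_c39 LD3_c9)) :=
  Lre_g IH (LK LD1_c0 LD2_c46 LD3_c0) (LK LD1_c1 LD2_c39 LD3_c9) Lrfl Lrfl
theorem f12084 : Led Lsl_cf (LP (LK LD1_c1 LD2_c39 LD3_c9)) = (LP (LK LD1_c0 LD2_c47 LD3_c49)) :=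
  Lgr Lrot163 (Lpe (f12080 IH) (Lpe (f12079 IH) (Lpe (f12078 IH) (Lpe (f12077 IH) (Lpr_ct (K0.f3828 IH) (Lpr_gf (K0.f11945 IH) (Lpr_cf (K0.f11004 IH) (Lpr_bt (K1.f12081 IH) (Lpe (f12082 IH) (Lpe (f12083 IH) (Lpn (LP (LK LD1_c0 LD2_c47 LD3_c49)))))))))))))
theorem f84696 : Led Lsl_bf (LP (LK LD1_c0 LD2_c21 LD3_c34)) = (LP (LK LD1_c0 LD2_c20 LD3_c37)) :=
  Lgr Lrot34 (Lpr_gf (f84689 IH) (Lpr_bf (f84671 IH) (Lpe (f84685 IH) (Lpr_gf (K1.f66635 IH) (Lpe (K1.f12096 IH) (Lpe (f12082 IH) (Lpe (f12083 IH) (Lpe (f12084 IH) (Lpe (f12080 IH) (Lpe (f12079 IH) (Lpn (LP (LK LD1_c0 LD2_c20 LD3_c37)))))))))))))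
theorem f84693 : Led Lsl_bt (LP (LK LD1_c0 LD2_c9 LD3_c44)) = (LP (LK LD1_c0 LD2_c21 LD3_c33)) :=
  Lre_b IH (LK LD1_c0 LD2_c9 LD3_c44) (LK LD1_c0 LD2_c21 LD3_c33) Lrfl Lrfl
theorem f10787 : Led Lsl_ct (LP (LK LD1_c0 LD2_c21 LD3_c33)) = (LP (LK LD1_c0 LD2_c48 LD3_c6)) :=
  Lre_c IH (LK LD1_c0 LD2_c21 LD3_c33) (LK LD1_c0 LD2_c48 LD3_c6) Lrfl Lrfl
theorem f84636 : Led Lsl_ct (LP (LK LD1_c0 LD2_c46 LD3_c0)) = (LP (LK LD1_c0 LD2_c20 LD3_c37)) :=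
  Lre_c IH (LK LD1_c0 LD2_c46 LD3_c0) (LK LD1_c0 LD2_c20 LD3_c37) Lrfl Lrfl
theorem f84702 : Led Lsl_bt (LP (LK LD1_c0 LD2_c48 LD3_c6)) = (LP (LK LD1_c0 LD2_c46 LD3_c0)) :=
  Lgr Lrot128 (Lpe (f10787 IH) (Lpe (f84693 IH) (Lpe (f10786 IH) (Lpr_bf (f84696 IH) (Lpe (f84636 IH) (Lpn (LP (LK LD1_c0 LD2_c46 LD3_c0))))))))
theorem f6677 : Led Lsl_ct (LP (LK LD1_c0 LD2_c48 LD3_c6)) = (LP (LK LD1_c0 LD2_c21 LD3_c33)) :=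
  Lre_c IH (LK LD1_c0 LD2_c48 LD3_c6) (LK LD1_c0 LD2_c21 LD3_c33) Lrfl Lrfl
theorem f13664 : Led Lsl_gt (LP (LK LD1_c0 LD2_c13 LD3_c17)) = (LP (LK LD1_c0 LD2_c29 LD3_c59)) :=
  Lre_g IH (LK LD1_c0 LD2_c13 LD3_c17) (LK LD1_c0 LD2_c29 LD3_c59) Lrfl Lrfl
theorem f12089 : Led Lsl_ct (LP (LK LD1_c0 LD2_c47 LD3_c50)) = (LP (LK LD1_c0 LD2_c21 LD3_c24)) :=
  Lre_c IH (LK LD1_c0 LD2_c47 LD3_c50) (LK LD1_c0 LD2_c21 LD3_c24) Lrfl Lrfl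
theorem f66755 : Led Lsl_bf (LP (LK LD1_c0 LD2_c29 LD3_c59)) = (LP (LK LD1_c0 LD2_c47 LD3_c50)) :=
  Lgr Lrot34 (Lpe (f13664 IH) (Lpe (K0.f13626 IH) (Lpr_ct (K0.f13623 IH) (Lpr_gf (K1.f61246 IH) (Lpe (K0.f26052 IH) (Lpr_gf (K0.f26263 IH) (Lpr_bf (K1.f66640 IH) (Lpr_ct (K1.f17657 IH) (Lpe (f12082 IH) (Lpe (f12089 IH) (Lpn (LP (LK LD1_c0 LD2_c47 LD3_c50)))))))))))))
theorem f13669 : Led Lsl_ct (LP (LK LD1_c0 LD2_c29 LD3_c59)) = (LP (LK LD1_c1 LD2_c5 LD3_c30)) :=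
  Lre_c IH (LK LD1_c0 LD2_c29 LD3_c59) (LK LD1_c1 LD2_c5 LD3_c30) Lrfl Lrfl
theorem f12107 : Led Lsl_ct (LP (LK LD1_c0 LD2_c21 LD3_c24)) = (LP (LK LD1_c0 LD2_c47 LD3_c50)) :=
  Lre_c IH (LK LD1_c0 LD2_c21 LD3_c24) (LK LD1_c0 LD2_c47 LD3_c50) Lrfl Lrfl
theorem f12090 : Led Lsl_ct (LP (LK LD1_c1 LD2_c39 LD3_c9)) = (LP (LK LD1_c0 LD2_c47 LD3_c49)) :=
  Lgr Lrot59 (Lpr_cf (f12084 IH) (Lpn (LP (LK LD1_c0 LD2_c47 LD3_c49))))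
theorem f66759 : Led Lsl_bt (LP (LK LD1_c1 LD2_c5 LD3_c30)) = (LP (LK LD1_c1 LD2_c39 LD3_c9)) :=
  Lgr Lrot128 (Lpe (f13669 IH) (Lpr_bf (f66755 IH) (Lpe (f12107 IH) (Lpe (f12083 IH) (Lpe (f12090 IH) (Lpn (LP (LK LD1_c1 LD2_c39 LD3_c9))))))))
theorem f13672 : Led Lsl_ct (LP (LK LD1_c1 LD2_c5 LD3_c30)) = (LP (LK LD1_c0 LD2_c29 LD3_c59)) :=
  Lre_c IH (LK LD1_c1 LD2_c5 LD3_c30) (LK LD1_c0 LD2_c29 LD3_c59) Lrfl Lrfl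
theorem f19164 : Led Lsl_gf (LP (LK LD1_c0 LD2_c21 LD3_c24)) = (LP (LK LD1_c0 LD2_c20 LD3_c25)) :=
  Lgr Lrot47 (Lpr_gt (f12082 IH) (Lpe (f18087 IH) (Lpr_ff (f18155 IH) (Lpn (LP (LK LD1_c0 LD2_c20 LD3_c25))))))
theorem f77796 : Led Lsl_gf (LP (LK LD1_c0 LD2_c41 LD3_c10)) = (LP (LK LD1_c0 LD2_c29 LD3_c59)) :=
  Lgr Lrot181 (Lpr_ct (K1.f58206 IH) (Lpe (f58212 IH) (Lpe (f13668 IH) (Lpe (f77792 IH) (Lpr_gt (f77789 IH) (Lpe (f67031 IH) (Lpr_ct (f66829 IH) (Lpe (f19164 IH) (Lpe (f12089 IH) (Lpe (f66755 IH) (Lpn (LP (LK LD1_c0 LD2_c29 LD3_c59)))))))))))))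
theorem f84709 : Led Lsl_gf (LP (LK LD1_c0 LD2_c21 LD3_c33)) = (LP (LK LD1_c0 LD2_c40 LD3_c14)) :=
  Lgr Lrot129 (Lpe (f6677 IH) (Lpr_bt (f84702 IH) (Lpr_gt (f12080 IH) (Lpe (f66759 IH) (Lpr_ct (f13672 IH) (Lpe (f77796 IH) (Lpe (K1.f58206 IH) (Lpe (f58181 IH) (Lpr_gt (f18902 IH) (Lpr_ct (f61996 IH) (Lpn (LP (LK LD1_c0 LD2_c40 LD3_c14)))))))))))))
theorem f87559 : Led Lsl_gf (LP (LK LD1_c0 LD2_c46 LD3_c54)) = (LP (LK LD1_c0 LD2_c48 LD3_c6)) :=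
  Lgr Lrot129 (Lpe (f84705 IH) (Lpr_bt (f19363 IH) (Lpe (f84722 IH) (Lpe (f84730 IH) (Lpr_ct (f87511 IH) (Lpr_gt (f87555 IH) (Lpe (f12691 IH) (Lpr_bt (f64382 IH) (Lpe (f84709 IH) (Lpr_ct (f10787 IH) (Lpn (LP (LK LD1_c0 LD2_c48 LD3_c6)))))))))))))
theorem f87565 : Led Lsl_ct (LP (LK LD1_c0 LD2_c46 LD3_c54)) = (LP (LK LD1_c0 LD2_c21 LD3_c1)) :=
  Lre_c IH (LK LD1_c0 LD2_c46 LD3_c54) (LK LD1_c0 LD2_c21 LD3_c1) Lrfl Lrfl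
theorem f84706 : Led Lsl_bf (LP (LK LD1_c0 LD2_c48 LD3_c6)) = (LP (LK LD1_c0 LD2_c46 LD3_c0)) :=
  Lgr Lrot24 (Lpr_bt (f84702 IH) (Lpn (LP (LK LD1_c0 LD2_c46 LD3_c0))))
theorem f20086 : Led Lsl_bt (LP (LK LD1_c0 LD2_c18 LD3_c3)) = (LP (LK LD1_c0 LD2_c8 LD3_c7)) :=
  Lre_b IH (LK LD1_c0 LD2_c18 LD3_c3) (LK LD1_c0 LD2_c8 LD3_c7) Lrfl Lrfl
theorem f12152 : Led Lsl_ct (LP (LK LD1_c0 LD2_c18 LD3_c3)) = (LP (LK LD1_c0 LD2_c9 LD3_c36)) :=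
  Lre_c IH (LK LD1_c0 LD2_c18 LD3_c3) (LK LD1_c0 LD2_c9 LD3_c36) Lrfl Lrfl
theorem f87566 : Led Lsl_gt (LP (LK LD1_c0 LD2_c21 LD3_c1)) = (LP (LK LD1_c0 LD2_c9 LD3_c36)) :=
  Lgr Lrot149 (Lpe (f87565 IH) (Lpr_gf (f87559 IH) (Lpr_bf (f84706 IH) (Lpr_ct (f84636 IH) (Lpe (f12078 IH) (Lpr_cf (f84628 IH) (Lpr_bt (f20018 IH) (Lpr_gf (K0.f20952 IH) (Lpe (f20086 IH) (Lpr_ct (f12152 IH) (Lpn (LP (LK LD1_c0 LD2_c9 LD3_c36)))))))))))))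
theorem f87581 : Led Lsl_et (LP (LK LD1_c0 LD2_c46 LD3_c55)) = (LP (LK LD1_c0 LD2_c21 LD3_c1)) :=
  Lre_e IH (LK LD1_c0 LD2_c46 LD3_c55) (LK LD1_c0 LD2_c21 LD3_c1) Lrfl Lrfl
theorem f85345 : Led Lsl_dt (LP (LK LD1_c0 LD2_c46 LD3_c55)) = (LP (LK LD1_c1 LD2_c40 LD3_c50)) :=
  Lre_d IH (LK LD1_c0 LD2_c46 LD3_c55) (LK LD1_c1 LD2_c40 LD3_c50) Lrfl Lrfl
theorem f62826 : Led Lsl_dt (LP (LK LD1_c0 LD2_c9 LD3_c36)) = (LP (LK LD1_c0 LD2_c21 LD3_c14)) :=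
  Lre_d IH (LK LD1_c0 LD2_c9 LD3_c36) (LK LD1_c0 LD2_c21 LD3_c14) Lrfl Lrfl
theorem f65662 : Led Lsl_ft (LP (LK LD1_c1 LD2_c26 LD3_c56)) = (LP (LK LD1_c3 LD2_c1 LD3_c22)) :=
  Lre_f IH (LK LD1_c1 LD2_c26 LD3_c56) (LK LD1_c3 LD2_c1 LD3_c22) Lrfl Lrfl
theorem f65663 : Led Lsl_at (LP (LK LD1_c3 LD2_c1 LD3_c22)) = (LP (LK LD1_c1 LD2_c27 LD3_c6)) :=
  Lre_a IH (LK LD1_c3 LD2_c1 LD3_c22) (LK LD1_c1 LD2_c27 LD3_c6) Lrfl Lrfl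
theorem f65664 : Led Lsl_gt (LP (LK LD1_c0 LD2_c52 LD3_c2)) = (LP (LK LD1_c1 LD2_c27 LD3_c6)) :=
  Lgr Lrot46 (Lpr_gf (K1.f65640 IH) (Lpr_ft (f65662 IH) (Lpr_at (f65663 IH) (Lpn (LP (LK LD1_c1 LD2_c27 LD3_c6))))))
theorem f62871 : Led Lsl_ct (LP (LK LD1_c1 LD2_c27 LD3_c6)) = (LP (LK LD1_c0 LD2_c40 LD3_c21)) :=
  Lre_c IH (LK LD1_c1 LD2_c27 LD3_c6) (LK LD1_c0 LD2_c40 LD3_c21) Lrfl Lrfl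
theorem f7159 : Led Lsl_ct (LP (LK LD1_c0 LD2_c19 LD3_c36)) = (LP (LK LD1_c0 LD2_c43 LD3_c56)) :=
  Lre_c IH (LK LD1_c0 LD2_c19 LD3_c36) (LK LD1_c0 LD2_c43 LD3_c56) Lrfl Lrfl
theorem f65271 : Led Lsl_dt (LP (LK LD1_c1 LD2_c34 LD3_c32)) = (LP (LK LD1_c0 LD2_c43 LD3_c56)) :=
  Lre_d IH (LK LD1_c1 LD2_c34 LD3_c32) (LK LD1_c0 LD2_c43 LD3_c56) Lrfl Lrfl
theorem f64004 : Led Lsl_gt (LP (LK LD1_c1 LD2_c35 LD3_c31)) = (LP (LK LD1_c0 LD2_c52 LD3_c58)) :=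
  Lre_g IH (LK LD1_c1 LD2_c35 LD3_c31) (LK LD1_c0 LD2_c52 LD3_c58) Lrfl Lrfl
theorem f65701 : Led Lsl_cf (LP (LK LD1_c1 LD2_c34 LD3_c32)) = (LP (LK LD1_c0 LD2_c52 LD3_c58)) :=
  Lgr Lrot175 (Lpr_dt (f65271 IH) (Lpe (f7159 IH) (Lpr_gf (K1.f65253 IH) (Lpe (f62871 IH) (Lpe (f65664 IH) (Lpr_dt (K1.f65666 IH) (Lpr_gt (K1.f24618 IH) (Lpr_ct (K1.f64258 IH) (Lpr_gt (f64004 IH) (Lpn (LP (LK LD1_c0 LD2_c52 LD3_c58))))))))))))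
theorem f65270 : Led Lsl_ct (LP (LK LD1_c0 LD2_c43 LD3_c56)) = (LP (LK LD1_c0 LD2_c19 LD3_c36)) :=
  Lre_c IH (LK LD1_c0 LD2_c43 LD3_c56) (LK LD1_c0 LD2_c19 LD3_c36) Lrfl Lrfl
theorem f62820 : Led Lsl_dt (LP (LK LD1_c0 LD2_c19 LD3_c35)) = (LP (LK LD1_c0 LD2_c43 LD3_c54)) :=
  Lre_d IH (LK LD1_c0 LD2_c19 LD3_c35) (LK LD1_c0 LD2_c43 LD3_c54) Lrfl Lrfl
theorem f62823 : Led Lsl_ct (LP (LK LD1_c0 LD2_c43 LD3_c54)) = (LP (LK LD1_c1 LD2_c34 LD3_c25)) :=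
  Lre_c IH (LK LD1_c0 LD2_c43 LD3_c54) (LK LD1_c1 LD2_c34 LD3_c25) Lrfl Lrfl
theorem f65182 : Led Lsl_df (LP (LK LD1_c0 LD2_c52 LD3_c57)) = (LP (LK LD1_c1 LD2_c34 LD3_c25)) :=
  Lgr Lrot38 (Lpr_dt (K1.f65175 IH) (Lpn (LP (LK LD1_c1 LD2_c34 LD3_c25))))
theorem f65194 : Led Lsl_ct (LP (LK LD1_c0 LD2_c52 LD3_c59)) = (LP (LK LD1_c0 LD2_c23 LD3_c52)) :=
  Lre_c IH (LK LD1_c0 LD2_c52 LD3_c59) (LK LD1_c0 LD2_c23 LD3_c52) Lrfl Lrfl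
theorem f62927 : Led Lsl_ft (LP (LK LD1_c1 LD2_c27 LD3_c6)) = (LP (LK LD1_c0 LD2_c40 LD3_c19)) :=
  Lre_f IH (LK LD1_c1 LD2_c27 LD3_c6) (LK LD1_c0 LD2_c40 LD3_c19) Lrfl Lrfl
theorem f62928 : Led Lsl_at (LP (LK LD1_c0 LD2_c40 LD3_c19)) = (LP (LK LD1_c1 LD2_c26 LD3_c56)) :=
  Lre_a IH (LK LD1_c0 LD2_c40 LD3_c19) (LK LD1_c1 LD2_c26 LD3_c56) Lrfl Lrfl
theorem f62929 : Led Lsl_gf (LP (LK LD1_c1 LD2_c26 LD3_c56)) = (LP (LK LD1_c0 LD2_c51 LD3_c47)) :=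
  Lgr Lrot76 (Lpe (f62928 IH) (Lpe (f62927 IH) (Lpr_gt (K1.f62855 IH) (Lpn (LP (LK LD1_c0 LD2_c51 LD3_c47))))))
theorem f62945 : Led Lsl_ct (LP (LK LD1_c1 LD2_c26 LD3_c56)) = (LP (LK LD1_c0 LD2_c40 LD3_c16)) :=
  Lre_c IH (LK LD1_c1 LD2_c26 LD3_c56) (LK LD1_c0 LD2_c40 LD3_c16) Lrfl Lrfl
theorem f62852 : Led Lsl_ct (LP (LK LD1_c0 LD2_c19 LD3_c40)) = (LP (LK LD1_c0 LD2_c44 LD3_c3)) :=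
  Lre_c IH (LK LD1_c0 LD2_c19 LD3_c40) (LK LD1_c0 LD2_c44 LD3_c3) Lrfl Lrfl
theorem f62950 : Led Lsl_dt (LP (LK LD1_c1 LD2_c34 LD3_c42)) = (LP (LK LD1_c0 LD2_c44 LD3_c3)) :=
  Lre_d IH (LK LD1_c1 LD2_c34 LD3_c42) (LK LD1_c0 LD2_c44 LD3_c3) Lrfl Lrfl
theorem f65255 : Led Lsl_ct (LP (LK LD1_c0 LD2_c52 LD3_c57)) = (LP (LK LD1_c1 LD2_c34 LD3_c42)) :=
  Lgr Lrot110 (Lpe (K1.f15048 IH) (Lpe (f65194 IH) (Lpe (K1.f64617 IH) (Lpr_df (K1.f65236 IH) (Lpe (f62929 IH) (Lpr_ct (f62945 IH) (Lpr_gt (K1.f62849 IH) (Lpr_ct (f62852 IH) (Lpe (f62950 IH) (Lpn (LP (LK LD1_c1 LD2_c34 LD3_c42))))))))))))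
theorem f62851 : Led Lsl_ct (LP (LK LD1_c0 LD2_c44 LD3_c3)) = (LP (LK LD1_c0 LD2_c19 LD3_c40)) :=
  Lre_c IH (LK LD1_c0 LD2_c44 LD3_c3) (LK LD1_c0 LD2_c19 LD3_c40) Lrfl Lrfl
theorem f62963 : Led Lsl_ct (LP (LK LD1_c0 LD2_c8 LD3_c49)) = (LP (LK LD1_c0 LD2_c19 LD3_c39)) :=
  Lre_c IH (LK LD1_c0 LD2_c8 LD3_c49) (LK LD1_c0 LD2_c19 LD3_c39) Lrfl Lrfl
theorem f23663 : Led Lsl_dt (LP (LK LD1_c0 LD2_c19 LD3_c39)) = (LP (LK LD1_c0 LD2_c44 LD3_c1)) :=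
  Lre_d IH (LK LD1_c0 LD2_c19 LD3_c39) (LK LD1_c0 LD2_c44 LD3_c1) Lrfl Lrfl
theorem f23664 : Led Lsl_ct (LP (LK LD1_c0 LD2_c44 LD3_c1)) = (LP (LK LD1_c1 LD2_c34 LD3_c38)) :=
  Lre_c IH (LK LD1_c0 LD2_c44 LD3_c1) (LK LD1_c1 LD2_c34 LD3_c38) Lrfl Lrfl
theorem f65708 : Led Lsl_dt (LP (LK LD1_c1 LD2_c34 LD3_c38)) = (LP (LK LD1_c0 LD2_c52 LD3_c58)) :=
  Lgr Lrot173 (Lpe (f23664 IH) (Lpe (f23663 IH) (Lpe (f62963 IH) (Lpe (K1.f62859 IH) (Lpe (f62851 IH) (Lpe (f62950 IH) (Lpe (f65255 IH) (Lpr_df (f65182 IH) (Lpe (f62823 IH) (Lpe (f62820 IH) (Lpe (K1.f23461 IH) (Lpe (K1.f65252 IH) (Lpe (f65270 IH) (Lpe (f65271 IH) (Lpr_cf (f65701 IH) (Lpn (LP (LK LD1_c0 LD2_c52 LD3_c58))))))))))))))))))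
theorem f20837 : Led Lsl_gt (LP (LK LD1_c0 LD2_c52 LD3_c58)) = (LP (LK LD1_c0 LD2_c23 LD3_c52)) :=
  Lre_g IH (LK LD1_c0 LD2_c52 LD3_c58) (LK LD1_c0 LD2_c23 LD3_c52) Lrfl Lrfl
theorem f20836 : Led Lsl_dt (LP (LK LD1_c0 LD2_c23 LD3_c52)) = (LP (LK LD1_c0 LD2_c10 LD3_c40)) :=
  Lre_d IH (LK LD1_c0 LD2_c23 LD3_c52) (LK LD1_c0 LD2_c10 LD3_c40) Lrfl Lrfl
theorem f65776 : Led Lsl_gf (LP (LK LD1_c1 LD2_c34 LD3_c38)) = (LP (LK LD1_c0 LD2_c47 LD3_c14)) :=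
  Lgr Lrot144 (Lpr_dt (f65708 IH) (Lpr_gt (f20837 IH) (Lpr_dt (f20836 IH) (Lpe (K0.f11541 IH) (Lpe (K1.f17452 IH) (Lpe (K1.f12428 IH) (Lpe (K1.f23359 IH) (Lpe (K1.f62796 IH) (Lpe (K1.f18769 IH) (Lpn (LP (LK LD1_c0 LD2_c47 LD3_c14))))))))))))
theorem f63200 : Led Lsl_ft (LP (LK LD1_c0 LD2_c47 LD3_c14)) = (LP (LK LD1_c1 LD2_c40 LD3_c45)) :=
  Lre_f IH (LK LD1_c0 LD2_c47 LD3_c14) (LK LD1_c1 LD2_c40 LD3_c45) Lrfl Lrfl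
theorem f65785 : Led Lsl_gt (LP (LK LD1_c1 LD2_c34 LD3_c38)) = (LP (LK LD1_c0 LD2_c47 LD3_c27)) :=
  Lgr Lrot46 (Lpr_gf (f65776 IH) (Lpr_ft (f63200 IH) (Lpr_at (K1.f19048 IH) (Lpn (LP (LK LD1_c0 LD2_c47 LD3_c27))))))
theorem f65193 : Led Lsl_ct (LP (LK LD1_c0 LD2_c23 LD3_c52)) = (LP (LK LD1_c0 LD2_c52 LD3_c59)) :=
  Lre_c IH (LK LD1_c0 LD2_c23 LD3_c52) (LK LD1_c0 LD2_c52 LD3_c59) Lrfl Lrfl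
theorem f12417 : Led Lsl_ct (LP (LK LD1_c0 LD2_c23 LD3_c34)) = (LP (LK LD1_c0 LD2_c52 LD3_c2)) :=
  Lre_c IH (LK LD1_c0 LD2_c23 LD3_c34) (LK LD1_c0 LD2_c52 LD3_c2) Lrfl Lrfl
theorem f65238 : Led Lsl_dt (LP (LK LD1_c0 LD2_c10 LD3_c31)) = (LP (LK LD1_c0 LD2_c4 LD3_c56)) :=
  Lre_d IH (LK LD1_c0 LD2_c10 LD3_c31) (LK LD1_c0 LD2_c4 LD3_c56) Lrfl Lrfl
theorem f58788 : Led Lsl_ct (LP (LK LD1_c0 LD2_c23 LD3_c27)) = (LP (LK LD1_c0 LD2_c10 LD3_c31)) :=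
  Lre_c IH (LK LD1_c0 LD2_c23 LD3_c27) (LK LD1_c0 LD2_c10 LD3_c31) Lrfl Lrfl
theorem f65244 : Led Lsl_dt (LP (LK LD1_c0 LD2_c51 LD3_c54)) = (LP (LK LD1_c0 LD2_c23 LD3_c27)) :=
  Lre_d IH (LK LD1_c0 LD2_c51 LD3_c54) (LK LD1_c0 LD2_c23 LD3_c27) Lrfl Lrfl
theorem f65687 : Led Lsl_cf (LP (LK LD1_c0 LD2_c51 LD3_c54)) = (LP (LK LD1_c1 LD2_c35 LD3_c30)) :=
  Lgr Lrot55 (Lpr_dt (f65244 IH) (Lpr_ct (f58788 IH) (Lpr_dt (f65238 IH) (Lpr_ct (K0.f5714 IH) (Lpr_dt (K1.f62858 IH) (Lpr_ct (K1.f62863 IH) (Lpe (K1.f65236 IH) (Lpr_ct (K1.f65195 IH) (Lpr_dt (K1.f62804 IH) (Lpr_ct (K1.f62807 IH) (Lpr_dt (K1.f23359 IH) (Lpr_ct (K1.f5251 IH) (Lpr_dt (K1.f12416 IH) (Lpr_ct (f12417 IH) (Lpr_dt (K1.f65666 IH) (Lpn (LP (LK LD1_c1 LD2_c35 LD3_c30))))))))))))))))))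
theorem f6701 : Led Lsl_ct (LP (LK LD1_c0 LD2_c10 LD3_c31)) = (LP (LK LD1_c0 LD2_c23 LD3_c27)) :=
  Lre_c IH (LK LD1_c0 LD2_c10 LD3_c31) (LK LD1_c0 LD2_c23 LD3_c27) Lrfl Lrfl
theorem f11405 : Led Lsl_ct (LP (LK LD1_c0 LD2_c47 LD3_c27)) = (LP (LK LD1_c0 LD2_c21 LD3_c14)) :=
  Lre_c IH (LK LD1_c0 LD2_c47 LD3_c27) (LK LD1_c0 LD2_c21 LD3_c14) Lrfl Lrfl
theorem f65830 : Led Lsl_gf (LP (LK LD1_c0 LD2_c10 LD3_c31)) = (LP (LK LD1_c0 LD2_c21 LD3_c14)) :=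
  Lgr Lrot104 (Lpr_ct (f6701 IH) (Lpe (f65244 IH) (Lpr_cf (f65687 IH) (Lpe (K1.f62193 IH) (Lpe (f65193 IH) (Lpe (f20837 IH) (Lpe (f65708 IH) (Lpr_gt (f65785 IH) (Lpr_ct (f11405 IH) (Lpn (LP (LK LD1_c0 LD2_c21 LD3_c14))))))))))))
theorem f6700 : Led Lsl_dt (LP (LK LD1_c0 LD2_c4 LD3_c56)) = (LP (LK LD1_c0 LD2_c10 LD3_c31)) :=
  Lre_d IH (LK LD1_c0 LD2_c4 LD3_c56) (LK LD1_c0 LD2_c10 LD3_c31) Lrfl Lrfl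
theorem f84742 : Led Lsl_dt (LP (LK LD1_c0 LD2_c47 LD3_c56)) = (LP (LK LD1_c1 LD2_c42 LD3_c40)) :=
  Lre_d IH (LK LD1_c0 LD2_c47 LD3_c56) (LK LD1_c1 LD2_c42 LD3_c40) Lrfl Lrfl
theorem f12143 : Led Lsl_bt (LP (LK LD1_c0 LD2_c5 LD3_c0)) = (LP (LK LD1_c0 LD2_c10 LD3_c46)) :=
  Lre_b IH (LK LD1_c0 LD2_c5 LD3_c0) (LK LD1_c0 LD2_c10 LD3_c46) Lrfl Lrfl
theorem f12144 : Led Lsl_df (LP (LK LD1_c0 LD2_c9 LD3_c21)) = (LP (LK LD1_c0 LD2_c10 LD3_c46)) :=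
  Lgr Lrot12 (Lpr_bt (f12116 IH) (Lpr_dt (K0.f12114 IH) (Lpr_bt (f12143 IH) (Lpn (LP (LK LD1_c0 LD2_c10 LD3_c46))))))
theorem f11655 : Led Lsl_ct (LP (LK LD1_c0 LD2_c24 LD3_c7)) = (LP (LK LD1_c0 LD2_c10 LD3_c46)) :=
  Lre_c IH (LK LD1_c0 LD2_c24 LD3_c7) (LK LD1_c0 LD2_c10 LD3_c46) Lrfl Lrfl
theorem f11523 : Led Lsl_gt (LP (LK LD1_c0 LD2_c53 LD3_c39)) = (LP (LK LD1_c0 LD2_c24 LD3_c7)) :=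
  Lre_g IH (LK LD1_c0 LD2_c53 LD3_c39) (LK LD1_c0 LD2_c24 LD3_c7) Lrfl Lrfl
theorem f11265 : Led Lsl_bt (LP (LK LD1_c0 LD2_c10 LD3_c46)) = (LP (LK LD1_c0 LD2_c5 LD3_c0)) :=
  Lre_b IH (LK LD1_c0 LD2_c10 LD3_c46) (LK LD1_c0 LD2_c5 LD3_c0) Lrfl Lrfl
theorem f11266 : Led Lsl_ct (LP (LK LD1_c0 LD2_c10 LD3_c46)) = (LP (LK LD1_c0 LD2_c24 LD3_c7)) :=
  Lre_c IH (LK LD1_c0 LD2_c10 LD3_c46) (LK LD1_c0 LD2_c24 LD3_c7) Lrfl Lrfl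
theorem f5888 : Led Lsl_bt (LP (LK LD1_c0 LD2_c4 LD3_c36)) = (LP (LK LD1_c0 LD2_c9 LD3_c46)) :=
  Lre_b IH (LK LD1_c0 LD2_c4 LD3_c36) (LK LD1_c0 LD2_c9 LD3_c46) Lrfl Lrfl
theorem f5898 : Led Lsl_gt (LP (LK LD1_c0 LD2_c9 LD3_c46)) = (LP (LK LD1_c0 LD2_c21 LD3_c38)) :=
  Lre_g IH (LK LD1_c0 LD2_c9 LD3_c46) (LK LD1_c0 LD2_c21 LD3_c38) Lrfl Lrfl
theorem f6670 : Led Lsl_bt (LP (LK LD1_c0 LD2_c48 LD3_c17)) = (LP (LK LD1_c0 LD2_c21 LD3_c38)) :=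
  Lre_b IH (LK LD1_c0 LD2_c48 LD3_c17) (LK LD1_c0 LD2_c21 LD3_c38) Lrfl Lrfl
theorem f11524 : Led Lsl_cf (LP (LK LD1_c0 LD2_c53 LD3_c39)) = (LP (LK LD1_c0 LD2_c48 LD3_c17)) :=
  Lgr Lrot160 (Lpr_gt (f11523 IH) (Lpe (f11266 IH) (Lpr_bt (f11265 IH) (Lpr_gt (K0.f11021 IH) (Lpr_ct (K0.f5851 IH) (Lpr_gt (K0.f11507 IH) (Lpr_cf (K0.f5892 IH) (Lpr_bt (f5888 IH) (Lpr_gt (f5898 IH) (Lpe (f6670 IH) (Lpn (LP (LK LD1_c0 LD2_c48 LD3_c17)))))))))))))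
theorem f84760 : Led Lsl_gt (LP (LK LD1_c1 LD2_c42 LD3_c40)) = (LP (LK LD1_c0 LD2_c48 LD3_c17)) :=
  Lgr Lrot9 (Lpe (f84742 IH) (Lpr_gt (f84732 IH) (Lpr_ct (f84747 IH) (Lpr_gt (f7370 IH) (Lpe (f84628 IH) (Lpr_df (f12144 IH) (Lpe (f11655 IH) (Lpe (f11523 IH) (Lpr_cf (f11524 IH) (Lpn (LP (LK LD1_c0 LD2_c48 LD3_c17))))))))))))
theorem f11543 : Led Lsl_ct (LP (LK LD1_c0 LD2_c52 LD3_c46)) = (LP (LK LD1_c0 LD2_c23 LD3_c49)) :=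
  Lre_c IH (LK LD1_c0 LD2_c52 LD3_c46) (LK LD1_c0 LD2_c23 LD3_c49) Lrfl Lrfl
theorem f84922 : Led Lsl_bf (LP (LK LD1_c1 LD2_c42 LD3_c40)) = (LP (LK LD1_c0 LD2_c52 LD3_c46)) :=
  Lgr Lrot165 (Lpr_gt (f84760 IH) (Lpe (f11524 IH) (Lpr_gt (f11523 IH) (Lpe (f11266 IH) (Lpr_bt (f11265 IH) (Lpr_gt (K0.f11021 IH) (Lpe (K0.f11251 IH) (Lpr_ct (K0.f11541 IH) (Lpr_gt (K1.f11542 IH) (Lpe (f11543 IH) (Lpn (LP (LK LD1_c0 LD2_c52 LD3_c46)))))))))))))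
theorem f84762 : Led Lsl_dt (LP (LK LD1_c1 LD2_c42 LD3_c40)) = (LP (LK LD1_c0 LD2_c47 LD3_c56)) :=
  Lre_d IH (LK LD1_c1 LD2_c42 LD3_c40) (LK LD1_c0 LD2_c47 LD3_c56) Lrfl Lrfl
theorem f84738 : Led Lsl_bt (LP (LK LD1_c0 LD2_c47 LD3_c56)) = (LP (LK LD1_c0 LD2_c40 LD3_c10)) :=
  Lgr Lrot127 (Lpr_bf (f84733 IH) (Lpn (LP (LK LD1_c0 LD2_c40 LD3_c10))))
theorem f84930 : Led Lsl_dt (LP (LK LD1_c0 LD2_c40 LD3_c10)) = (LP (LK LD1_c0 LD2_c52 LD3_c46)) :=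
  Lgr Lrot79 (Lpe (f84738 IH) (Lpe (f84762 IH) (Lpr_bf (f84922 IH) (Lpn (LP (LK LD1_c0 LD2_c52 LD3_c46))))))
theorem f84963 : Led Lsl_df (LP (LK LD1_c0 LD2_c40 LD3_c10)) = (LP (LK LD1_c0 LD2_c52 LD3_c46)) :=
  Lgr Lrot38 (Lpr_dt (f84930 IH) (Lpn (LP (LK LD1_c0 LD2_c52 LD3_c46))))
theorem f21011 : Led Lsl_ct (LP (LK LD1_c0 LD2_c17 LD3_c61)) = (LP (LK LD1_c0 LD2_c40 LD3_c10)) :=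
  Lre_c IH (LK LD1_c0 LD2_c17 LD3_c61) (LK LD1_c0 LD2_c40 LD3_c10) Lrfl Lrfl
theorem f64262 : Led Lsl_ct (LP (LK LD1_c0 LD2_c23 LD3_c49)) = (LP (LK LD1_c0 LD2_c52 LD3_c46)) :=
  Lre_c IH (LK LD1_c0 LD2_c23 LD3_c49) (LK LD1_c0 LD2_c52 LD3_c46) Lrfl Lrfl
theorem f11526 : Led Lsl_gt (LP (LK LD1_c0 LD2_c10 LD3_c39)) = (LP (LK LD1_c0 LD2_c4 LD3_c59)) :=
  Lre_g IH (LK LD1_c0 LD2_c10 LD3_c39) (LK LD1_c0 LD2_c4 LD3_c59) Lrfl Lrfl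
theorem f84971 : Led Lsl_dt (LP (LK LD1_c0 LD2_c9 LD3_c33)) = (LP (LK LD1_c0 LD2_c10 LD3_c39)) :=
  Lgr Lrot6 (Lpr_gt (K1.f10017 IH) (Lpr_ct (K1.f12117 IH) (Lpr_gt (K1.f7106 IH) (Lpr_ct (f21011 IH) (Lpr_df (f84963 IH) (Lpe (f64262 IH) (Lpe (K1.f11542 IH) (Lpe (K0.f11541 IH) (Lpe (f11526 IH) (Lpn (LP (LK LD1_c0 LD2_c10 LD3_c39))))))))))))
theorem f84984 : Led Lsl_et (LP (LK LD1_c0 LD2_c9 LD3_c33)) = (LP (LK LD1_c0 LD2_c21 LD3_c8)) :=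
  Lre_e IH (LK LD1_c0 LD2_c9 LD3_c33) (LK LD1_c0 LD2_c21 LD3_c8) Lrfl Lrfl
theorem f64300 : Led Lsl_et (LP (LK LD1_c0 LD2_c2 LD3_c15)) = (LP (LK LD1_c0 LD2_c4 LD3_c30)) :=
  Lre_e IH (LK LD1_c0 LD2_c2 LD3_c15) (LK LD1_c0 LD2_c4 LD3_c30) Lrfl Lrfl
theorem f14666 : Led Lsl_dt (LP (LK LD1_c0 LD2_c10 LD3_c27)) = (LP (LK LD1_c0 LD2_c23 LD3_c13)) :=
  Lre_d IH (LK LD1_c0 LD2_c10 LD3_c27) (LK LD1_c0 LD2_c23 LD3_c13) Lrfl Lrfl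
theorem f14688 : Led Lsl_et (LP (LK LD1_c0 LD2_c10 LD3_c27)) = (LP (LK LD1_c0 LD2_c23 LD3_c14)) :=
  Lre_e IH (LK LD1_c0 LD2_c10 LD3_c27) (LK LD1_c0 LD2_c23 LD3_c14) Lrfl Lrfl
theorem f84987 : Led Lsl_gf (LP (LK LD1_c0 LD2_c21 LD3_c8)) = (LP (LK LD1_c0 LD2_c23 LD3_c14)) :=
  Lgr Lrot141 (Lpe (f84984 IH) (Lpr_dt (f84971 IH) (Lpr_gt (f11526 IH) (Lpe (K1.f17452 IH) (Lpr_et (f64300 IH) (Lpr_gt (K0.f3946 IH) (Lpr_dt (K1.f62667 IH) (Lpr_gt (K0.f12211 IH) (Lpe (f14666 IH) (Lpr_et (f14688 IH) (Lpn (LP (LK LD1_c0 LD2_c23 LD3_c14)))))))))))))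
theorem f84989 : Led Lsl_ft (LP (LK LD1_c0 LD2_c23 LD3_c14)) = (LP (LK LD1_c0 LD2_c46 LD3_c52)) :=
  Lre_f IH (LK LD1_c0 LD2_c23 LD3_c14) (LK LD1_c0 LD2_c46 LD3_c52) Lrfl Lrfl
theorem f11089 : Led Lsl_at (LP (LK LD1_c0 LD2_c46 LD3_c52)) = (LP (LK LD1_c0 LD2_c21 LD3_c15)) :=
  Lre_a IH (LK LD1_c0 LD2_c46 LD3_c52) (LK LD1_c0 LD2_c21 LD3_c15) Lrfl Lrfl
theorem f84990 : Led Lsl_gt (LP (LK LD1_c0 LD2_c21 LD3_c8)) = (LP (LK LD1_c0 LD2_c21 LD3_c15)) :=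
  Lgr Lrot46 (Lpr_gf (f84987 IH) (Lpr_ft (f84989 IH) (Lpr_at (f11089 IH) (Lpn (LP (LK LD1_c0 LD2_c21 LD3_c15))))))
theorem f14679 : Led Lsl_gt (LP (LK LD1_c0 LD2_c23 LD3_c13)) = (LP (LK LD1_c0 LD2_c10 LD3_c39)) :=
  Lre_g IH (LK LD1_c0 LD2_c23 LD3_c13) (LK LD1_c0 LD2_c10 LD3_c39) Lrfl Lrfl
theorem f62827 : Led Lsl_et (LP (LK LD1_c0 LD2_c9 LD3_c36)) = (LP (LK LD1_c0 LD2_c21 LD3_c15)) :=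
  Lre_e IH (LK LD1_c0 LD2_c9 LD3_c36) (LK LD1_c0 LD2_c21 LD3_c15) Lrfl Lrfl
theorem f85012 : Led Lsl_ef (LP (LK LD1_c0 LD2_c4 LD3_c56)) = (LP (LK LD1_c0 LD2_c4 LD3_c56)) :=
  Lgr Lrot167 (Lpr_gt (K1.f14709 IH) (Lpr_dt (f14666 IH) (Lpr_gt (f14679 IH) (Lpe (f84971 IH) (Lpr_et (f84984 IH) (Lpr_gt (f84990 IH) (Lpe (f62827 IH) (Lpr_dt (f62826 IH) (Lpe (f65830 IH) (Lpe (f6700 IH) (Lpn (LP (LK LD1_c0 LD2_c4 LD3_c56)))))))))))))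
theorem f14689 : Led Lsl_et (LP (LK LD1_c0 LD2_c23 LD3_c14)) = (LP (LK LD1_c0 LD2_c10 LD3_c27)) :=
  Lre_e IH (LK LD1_c0 LD2_c23 LD3_c14) (LK LD1_c0 LD2_c10 LD3_c27) Lrfl Lrfl
theorem f62830 : Led Lsl_dt (LP (LK LD1_c0 LD2_c23 LD3_c14)) = (LP (LK LD1_c0 LD2_c51 LD3_c30)) :=
  Lre_d IH (LK LD1_c0 LD2_c23 LD3_c14) (LK LD1_c0 LD2_c51 LD3_c30) Lrfl Lrfl
theorem f87582 : Led Lsl_gf (LP (LK LD1_c1 LD2_c40 LD3_c50)) = (LP (LK LD1_c0 LD2_c51 LD3_c30)) :=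
  Lgr Lrot145 (Lpe (f85345 IH) (Lpr_et (f87581 IH) (Lpr_gt (f87566 IH) (Lpr_dt (f62826 IH) (Lpe (f65830 IH) (Lpe (f6700 IH) (Lpe (f85012 IH) (Lpr_gt (K1.f14709 IH) (Lpe (f14689 IH) (Lpr_dt (f62830 IH) (Lpn (LP (LK LD1_c0 LD2_c51 LD3_c30)))))))))))))
theorem f85661 : Led Lsl_ft (LP (LK LD1_c0 LD2_c51 LD3_c30)) = (LP (LK LD1_c1 LD2_c40 LD3_c47)) :=
  Lre_f IH (LK LD1_c0 LD2_c51 LD3_c30) (LK LD1_c1 LD2_c40 LD3_c47) Lrfl Lrfl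
theorem f85655 : Led Lsl_at (LP (LK LD1_c1 LD2_c40 LD3_c47)) = (LP (LK LD1_c0 LD2_c47 LD3_c33)) :=
  Lre_a IH (LK LD1_c1 LD2_c40 LD3_c47) (LK LD1_c0 LD2_c47 LD3_c33) Lrfl Lrfl
theorem f87588 : Led Lsl_gt (LP (LK LD1_c1 LD2_c40 LD3_c50)) = (LP (LK LD1_c0 LD2_c47 LD3_c33)) :=
  Lgr Lrot46 (Lpr_gf (f87582 IH) (Lpr_ft (f85661 IH) (Lpr_at (f85655 IH) (Lpn (LP (LK LD1_c0 LD2_c47 LD3_c33))))))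
theorem f18889 : Led Lsl_at (LP (LK LD1_c0 LD2_c21 LD3_c0)) = (LP (LK LD1_c0 LD2_c9 LD3_c36)) :=
  Lre_a IH (LK LD1_c0 LD2_c21 LD3_c0) (LK LD1_c0 LD2_c9 LD3_c36) Lrfl Lrfl
theorem f18894 : Led Lsl_ft (LP (LK LD1_c0 LD2_c9 LD3_c34)) = (LP (LK LD1_c0 LD2_c21 LD3_c0)) :=
  Lre_f IH (LK LD1_c0 LD2_c9 LD3_c34) (LK LD1_c0 LD2_c21 LD3_c0) Lrfl Lrfl
theorem f87569 : Led Lsl_gf (LP (LK LD1_c0 LD2_c21 LD3_c1)) = (LP (LK LD1_c0 LD2_c9 LD3_c34)) :=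
  Lgr Lrot47 (Lpr_gt (f87566 IH) (Lpe (f18889 IH) (Lpe (f18894 IH) (Lpn (LP (LK LD1_c0 LD2_c9 LD3_c34))))))
theorem f87607 : Led Lsl_et (LP (LK LD1_c0 LD2_c4 LD3_c58)) = (LP (LK LD1_c0 LD2_c9 LD3_c34)) :=
  Lre_e IH (LK LD1_c0 LD2_c4 LD3_c58) (LK LD1_c0 LD2_c9 LD3_c34) Lrfl Lrfl
theorem f65008 : Led Lsl_dt (LP (LK LD1_c0 LD2_c4 LD3_c58)) = (LP (LK LD1_c0 LD2_c10 LD3_c37)) :=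
  Lre_d IH (LK LD1_c0 LD2_c4 LD3_c58) (LK LD1_c0 LD2_c10 LD3_c37) Lrfl Lrfl
theorem f11978 : Led Lsl_gt (LP (LK LD1_c0 LD2_c23 LD3_c40)) = (LP (LK LD1_c0 LD2_c10 LD3_c37)) :=
  Lre_g IH (LK LD1_c0 LD2_c23 LD3_c40) (LK LD1_c0 LD2_c10 LD3_c37) Lrfl Lrfl
theorem f64520 : Led Lsl_dt (LP (LK LD1_c0 LD2_c21 LD3_c15)) = (LP (LK LD1_c0 LD2_c47 LD3_c33)) :=
  Lre_d IH (LK LD1_c0 LD2_c21 LD3_c15) (LK LD1_c0 LD2_c47 LD3_c33) Lrfl Lrfl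
theorem f87585 : Led Lsl_et (LP (LK LD1_c0 LD2_c21 LD3_c15)) = (LP (LK LD1_c0 LD2_c9 LD3_c36)) :=
  Lre_e IH (LK LD1_c0 LD2_c21 LD3_c15) (LK LD1_c0 LD2_c9 LD3_c36) Lrfl Lrfl
theorem f84981 : Led Lsl_ft (LP (LK LD1_c0 LD2_c21 LD3_c1)) = (LP (LK LD1_c0 LD2_c9 LD3_c33)) :=
  Lre_f IH (LK LD1_c0 LD2_c21 LD3_c1) (LK LD1_c0 LD2_c9 LD3_c33) Lrfl Lrfl
theorem f87571 : Led Lsl_gf (LP (LK LD1_c0 LD2_c21 LD3_c5)) = (LP (LK LD1_c0 LD2_c9 LD3_c36)) :=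
  Lgr Lrot76 (Lpe (f84670 IH) (Lpe (f84981 IH) (Lpr_gt (f87566 IH) (Lpn (LP (LK LD1_c0 LD2_c9 LD3_c36))))))
theorem f87608 : Led Lsl_df (LP (LK LD1_c0 LD2_c23 LD3_c40)) = (LP (LK LD1_c0 LD2_c21 LD3_c5)) :=
  Lgr Lrot135 (Lpr_gt (f11978 IH) (Lpe (f65008 IH) (Lpr_et (f87607 IH) (Lpe (f87569 IH) (Lpe (f87581 IH) (Lpr_dt (f85345 IH) (Lpr_gt (f87588 IH) (Lpe (f64520 IH) (Lpr_et (f87585 IH) (Lpe (f87571 IH) (Lpn (LP (LK LD1_c0 LD2_c21 LD3_c5)))))))))))))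
theorem f62672 : Led Lsl_ft (LP (LK LD1_c0 LD2_c9 LD3_c32)) = (LP (LK LD1_c0 LD2_c21 LD3_c5)) :=
  Lre_f IH (LK LD1_c0 LD2_c9 LD3_c32) (LK LD1_c0 LD2_c21 LD3_c5) Lrfl Lrfl
theorem f87620 : Led Lsl_ft (LP (LK LD1_c0 LD2_c23 LD3_c40)) = (LP (LK LD1_c0 LD2_c10 LD3_c38)) :=
  Lgr Lrot54 (Lpr_df (f87608 IH) (Lpe (f62672 IH) (Lpr_df (K1.f62652 IH) (Lpn (LP (LK LD1_c0 LD2_c10 LD3_c38))))))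
theorem f63718 : Led Lsl_gt (LP (LK LD1_c0 LD2_c10 LD3_c37)) = (LP (LK LD1_c0 LD2_c23 LD3_c39)) :=
  Lre_g IH (LK LD1_c0 LD2_c10 LD3_c37) (LK LD1_c0 LD2_c23 LD3_c39) Lrfl Lrfl
theorem f87660 : Led Lsl_af (LP (LK LD1_c0 LD2_c23 LD3_c39)) = (LP (LK LD1_c0 LD2_c10 LD3_c38)) :=
  Lgr Lrot31 (Lpe (f63718 IH) (Lpe (f11978 IH) (Lpr_ft (f87620 IH) (Lpn (LP (LK LD1_c0 LD2_c10 LD3_c38))))))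
theorem f87671 : Led Lsl_et (LP (LK LD1_c0 LD2_c23 LD3_c39)) = (LP (LK LD1_c0 LD2_c52 LD3_c13)) :=
  Lre_e IH (LK LD1_c0 LD2_c23 LD3_c39) (LK LD1_c0 LD2_c52 LD3_c13) Lrfl Lrfl
theorem f62671 : Led Lsl_et (LP (LK LD1_c0 LD2_c23 LD3_c45)) = (LP (LK LD1_c0 LD2_c10 LD3_c38)) :=
  Lre_e IH (LK LD1_c0 LD2_c23 LD3_c45) (LK LD1_c0 LD2_c10 LD3_c38) Lrfl Lrfl
theorem f87672 : Led Lsl_at (LP (LK LD1_c0 LD2_c52 LD3_c13)) = (LP (LK LD1_c0 LD2_c23 LD3_c45)) :=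
  Lgr Lrot80 (Lpe (f87671 IH) (Lpr_af (f87660 IH) (Lpe (f62671 IH) (Lpn (LP (LK LD1_c0 LD2_c23 LD3_c45))))))
theorem f87679 : Led Lsl_ct (LP (LK LD1_c1 LD2_c50 LD3_c39)) = (LP (LK LD1_c0 LD2_c52 LD3_c13)) :=
  Lre_c IH (LK LD1_c1 LD2_c50 LD3_c39) (LK LD1_c0 LD2_c52 LD3_c13) Lrfl Lrfl
theorem f62710 : Led Lsl_ct (LP (LK LD1_c0 LD2_c23 LD3_c45)) = (LP (LK LD1_c0 LD2_c52 LD3_c32)) :=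
  Lre_c IH (LK LD1_c0 LD2_c23 LD3_c45) (LK LD1_c0 LD2_c52 LD3_c32) Lrfl Lrfl
theorem f87680 : Led Lsl_af (LP (LK LD1_c1 LD2_c50 LD3_c39)) = (LP (LK LD1_c0 LD2_c52 LD3_c32)) :=
  Lgr Lrot68 (Lpr_ct (f87679 IH) (Lpr_at (f87672 IH) (Lpr_ct (f62710 IH) (Lpn (LP (LK LD1_c0 LD2_c52 LD3_c32))))))
theorem f87692 : Led Lsl_dt (LP (LK LD1_c1 LD2_c50 LD3_c39)) = (LP (LK LD1_c3 LD2_c47 LD3_c5)) :=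
  Lre_d IH (LK LD1_c1 LD2_c50 LD3_c39) (LK LD1_c3 LD2_c47 LD3_c5) Lrfl Lrfl
theorem f87682 : Led Lsl_dt (LP (LK LD1_c1 LD2_c51 LD3_c25)) = (LP (LK LD1_c0 LD2_c52 LD3_c32)) :=
  Lre_d IH (LK LD1_c1 LD2_c51 LD3_c25) (LK LD1_c0 LD2_c52 LD3_c32) Lrfl Lrfl
theorem f87693 : Led Lsl_at (LP (LK LD1_c3 LD2_c47 LD3_c5)) = (LP (LK LD1_c1 LD2_c51 LD3_c25)) :=
  Lgr Lrot51 (Lpe (f87692 IH) (Lpr_af (f87680 IH) (Lpe (f87682 IH) (Lpn (LP (LK LD1_c1 LD2_c51 LD3_c25))))))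
theorem f87708 : Led Lsl_et (LP (LK LD1_c7 LD2_c34 LD3_c59)) = (LP (LK LD1_c3 LD2_c47 LD3_c5)) :=
  Lre_e IH (LK LD1_c7 LD2_c34 LD3_c59) (LK LD1_c3 LD2_c47 LD3_c5) Lrfl Lrfl
theorem f87709 : Led Lsl_et (LP (LK LD1_c1 LD2_c51 LD3_c25)) = (LP (LK LD1_c3 LD2_c48 LD3_c44)) :=
  Lre_e IH (LK LD1_c1 LD2_c51 LD3_c25) (LK LD1_c3 LD2_c48 LD3_c44) Lrfl Lrfl
theorem f87710 : Led Lsl_af (LP (LK LD1_c7 LD2_c34 LD3_c59)) = (LP (LK LD1_c3 LD2_c48 LD3_c44)) :=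
  Lgr Lrot50 (Lpr_et (f87708 IH) (Lpr_at (f87693 IH) (Lpr_et (f87709 IH) (Lpn (LP (LK LD1_c3 LD2_c48 LD3_c44))))))
theorem f87724 : Led Lsl_ft (LP (LK LD1_c7 LD2_c34 LD3_c59)) = (LP (LK LD1_c14 LD2_c17 LD3_c57)) :=
  Lre_f IH (LK LD1_c7 LD2_c34 LD3_c59) (LK LD1_c14 LD2_c17 LD3_c57) Lrfl Lrfl
theorem f64881 : Led Lsl_ft (LP (LK LD1_c7 LD2_c38 LD3_c37)) = (LP (LK LD1_c3 LD2_c48 LD3_c44)) :=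
  Lre_f IH (LK LD1_c7 LD2_c38 LD3_c37) (LK LD1_c3 LD2_c48 LD3_c44) Lrfl Lrfl
theorem f87725 : Led Lsl_at (LP (LK LD1_c14 LD2_c17 LD3_c57)) = (LP (LK LD1_c7 LD2_c38 LD3_c37)) :=
  Lgr Lrot66 (Lpe (f87724 IH) (Lpr_af (f87710 IH) (Lpe (f64881 IH) (Lpn (LP (LK LD1_c7 LD2_c38 LD3_c37))))))
theorem f87731 : Led Lsl_dt (LP (LK LD1_c7 LD2_c34 LD3_c60)) = (LP (LK LD1_c14 LD2_c17 LD3_c57)) :=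
  Lre_d IH (LK LD1_c7 LD2_c34 LD3_c60) (LK LD1_c14 LD2_c17 LD3_c57) Lrfl Lrfl
theorem f64878 : Led Lsl_dt (LP (LK LD1_c7 LD2_c38 LD3_c37)) = (LP (LK LD1_c3 LD2_c48 LD3_c45)) :=
  Lre_d IH (LK LD1_c7 LD2_c38 LD3_c37) (LK LD1_c3 LD2_c48 LD3_c45) Lrfl Lrfl
theorem f87732 : Led Lsl_af (LP (LK LD1_c7 LD2_c34 LD3_c60)) = (LP (LK LD1_c3 LD2_c48 LD3_c45)) :=
  Lgr Lrot117 (Lpr_dt (f87731 IH) (Lpr_at (f87725 IH) (Lpr_dt (f64878 IH) (Lpn (LP (LK LD1_c3 LD2_c48 LD3_c45))))))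
theorem f87738 : Led Lsl_at (LP (LK LD1_c7 LD2_c34 LD3_c60)) = (LP (LK LD1_c3 LD2_c48 LD3_c45)) :=
  Lgr Lrot100 (Lpr_af (f87732 IH) (Lpn (LP (LK LD1_c3 LD2_c48 LD3_c45))))
theorem f87757 : Led Lsl_ft (LP (LK LD1_c3 LD2_c47 LD3_c3)) = (LP (LK LD1_c7 LD2_c34 LD3_c60)) :=
  Lre_f IH (LK LD1_c3 LD2_c47 LD3_c3) (LK LD1_c7 LD2_c34 LD3_c60) Lrfl Lrfl
theorem f64886 : Led Lsl_ft (LP (LK LD1_c3 LD2_c48 LD3_c45)) = (LP (LK LD1_c1 LD2_c51 LD3_c22)) :=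
  Lre_f IH (LK LD1_c3 LD2_c48 LD3_c45) (LK LD1_c1 LD2_c51 LD3_c22) Lrfl Lrfl
theorem f87758 : Led Lsl_af (LP (LK LD1_c3 LD2_c47 LD3_c3)) = (LP (LK LD1_c1 LD2_c51 LD3_c22)) :=
  Lgr Lrot45 (Lpr_ft (f87757 IH) (Lpr_at (f87738 IH) (Lpr_ft (f64886 IH) (Lpn (LP (LK LD1_c1 LD2_c51 LD3_c22))))))
theorem f87772 : Led Lsl_et (LP (LK LD1_c3 LD2_c47 LD3_c3)) = (LP (LK LD1_c1 LD2_c50 LD3_c38)) :=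
  Lre_e IH (LK LD1_c3 LD2_c47 LD3_c3) (LK LD1_c1 LD2_c50 LD3_c38) Lrfl Lrfl
theorem f64894 : Led Lsl_et (LP (LK LD1_c0 LD2_c52 LD3_c31)) = (LP (LK LD1_c1 LD2_c51 LD3_c22)) :=
  Lre_e IH (LK LD1_c0 LD2_c52 LD3_c31) (LK LD1_c1 LD2_c51 LD3_c22) Lrfl Lrfl
theorem f87773 : Led Lsl_at (LP (LK LD1_c1 LD2_c50 LD3_c38)) = (LP (LK LD1_c0 LD2_c52 LD3_c31)) :=
  Lgr Lrot80 (Lpe (f87772 IH) (Lpr_af (f87758 IH) (Lpe (f64894 IH) (Lpn (LP (LK LD1_c0 LD2_c52 LD3_c31))))))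
theorem f40584 : Led Lsl_dt (LP (LK LD1_c0 LD2_c44 LD3_c18)) = (LP (LK LD1_c1 LD2_c35 LD3_c22)) :=
  Lre_d IH (LK LD1_c0 LD2_c44 LD3_c18) (LK LD1_c1 LD2_c35 LD3_c22) Lrfl Lrfl
theorem f17778 : Led Lsl_dt (LP (LK LD1_c0 LD2_c21 LD3_c7)) = (LP (LK LD1_c0 LD2_c47 LD3_c11)) :=
  Lre_d IH (LK LD1_c0 LD2_c21 LD3_c7) (LK LD1_c0 LD2_c47 LD3_c11) Lrfl Lrfl
theorem f11311 : Led Lsl_dt (LP (LK LD1_c0 LD2_c47 LD3_c25)) = (LP (LK LD1_c0 LD2_c21 LD3_c12)) :=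
  Lre_d IH (LK LD1_c0 LD2_c47 LD3_c25) (LK LD1_c0 LD2_c21 LD3_c12) Lrfl Lrfl
theorem f4466 : Led Lsl_ct (LP (LK LD1_c0 LD2_c9 LD3_c35)) = (LP (LK LD1_c0 LD2_c21 LD3_c12)) :=
  Lre_c IH (LK LD1_c0 LD2_c9 LD3_c35) (LK LD1_c0 LD2_c21 LD3_c12) Lrfl Lrfl
theorem f17783 : Led Lsl_dt (LP (LK LD1_c0 LD2_c4 LD3_c30)) = (LP (LK LD1_c0 LD2_c9 LD3_c35)) :=
  Lre_d IH (LK LD1_c0 LD2_c4 LD3_c30) (LK LD1_c0 LD2_c9 LD3_c35) Lrfl Lrfl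
theorem f64909 : Led Lsl_dt (LP (LK LD1_c0 LD2_c10 LD3_c39)) = (LP (LK LD1_c0 LD2_c9 LD3_c33)) :=
  Lgr Lrot57 (Lpe (f14679 IH) (Lpe (K0.f14661 IH) (Lpr_gt (K0.f12209 IH) (Lpr_dt (K1.f14742 IH) (Lpr_gt (K1.f64905 IH) (Lpr_dt (f11311 IH) (Lpe (f4466 IH) (Lpe (f17783 IH) (Lpe (K1.f10017 IH) (Lpn (LP (LK LD1_c0 LD2_c9 LD3_c33))))))))))))
theorem f84982 : Led Lsl_ct (LP (LK LD1_c0 LD2_c23 LD3_c47)) = (LP (LK LD1_c0 LD2_c10 LD3_c39)) :=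
  Lre_c IH (LK LD1_c0 LD2_c23 LD3_c47) (LK LD1_c0 LD2_c10 LD3_c39) Lrfl Lrfl
theorem f63502 : Led Lsl_dt (LP (LK LD1_c0 LD2_c52 LD3_c40)) = (LP (LK LD1_c0 LD2_c23 LD3_c47)) :=
  Lre_d IH (LK LD1_c0 LD2_c52 LD3_c40) (LK LD1_c0 LD2_c23 LD3_c47) Lrfl Lrfl
theorem f87792 : Led Lsl_ff (LP (LK LD1_c1 LD2_c50 LD3_c38)) = (LP (LK LD1_c0 LD2_c52 LD3_c40)) :=
  Lgr Lrot103 (Lpr_at (f87773 IH) (Lpr_cf (K1.f64611 IH) (Lpe (f40584 IH) (Lpe (K1.f64597 IH) (Lpe (f17778 IH) (Lpe (K1.f10768 IH) (Lpe (f64909 IH) (Lpe (f84982 IH) (Lpe (f63502 IH) (Lpn (LP (LK LD1_c0 LD2_c52 LD3_c40))))))))))))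
theorem f87802 : Led Lsl_ft (LP (LK LD1_c1 LD2_c50 LD3_c38)) = (LP (LK LD1_c0 LD2_c52 LD3_c40)) :=
  Lgr Lrot48 (Lpr_ff (f87792 IH) (Lpn (LP (LK LD1_c0 LD2_c52 LD3_c40))))
theorem f63722 : Led Lsl_dt (LP (LK LD1_c0 LD2_c52 LD3_c12)) = (LP (LK LD1_c1 LD2_c50 LD3_c38)) :=
  Lre_d IH (LK LD1_c0 LD2_c52 LD3_c12) (LK LD1_c1 LD2_c50 LD3_c38) Lrfl Lrfl
theorem f87878 : Led Lsl_ff (LP (LK LD1_c0 LD2_c52 LD3_c12)) = (LP (LK LD1_c0 LD2_c23 LD3_c47)) :=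
  Lgr Lrot19 (Lpr_dt (f63722 IH) (Lpr_ft (f87802 IH) (Lpr_dt (f63502 IH) (Lpn (LP (LK LD1_c0 LD2_c23 LD3_c47))))))
theorem f63848 : Led Lsl_ct (LP (LK LD1_c0 LD2_c52 LD3_c12)) = (LP (LK LD1_c0 LD2_c23 LD3_c39)) :=
  Lre_c IH (LK LD1_c0 LD2_c52 LD3_c12) (LK LD1_c0 LD2_c23 LD3_c39) Lrfl Lrfl
theorem f14681 : Led Lsl_ct (LP (LK LD1_c0 LD2_c10 LD3_c39)) = (LP (LK LD1_c0 LD2_c23 LD3_c47)) :=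
  Lre_c IH (LK LD1_c0 LD2_c10 LD3_c39) (LK LD1_c0 LD2_c23 LD3_c47) Lrfl Lrfl
theorem f87923 : Led Lsl_ft (LP (LK LD1_c0 LD2_c23 LD3_c39)) = (LP (LK LD1_c0 LD2_c10 LD3_c39)) :=
  Lgr Lrot4 (Lpe (f63848 IH) (Lpr_ff (f87878 IH) (Lpe (f14681 IH) (Lpn (LP (LK LD1_c0 LD2_c10 LD3_c39))))))
theorem f88457 : Led Lsl_af (LP (LK LD1_c0 LD2_c23 LD3_c40)) = (LP (LK LD1_c0 LD2_c10 LD3_c39)) :=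
  Lgr Lrot45 (Lpr_ft (f87620 IH) (Lpe (f87660 IH) (Lpr_ft (f87923 IH) (Lpn (LP (LK LD1_c0 LD2_c10 LD3_c39))))))
theorem f87619 : Led Lsl_et (LP (LK LD1_c0 LD2_c23 LD3_c40)) = (LP (LK LD1_c0 LD2_c52 LD3_c16)) :=
  Lre_e IH (LK LD1_c0 LD2_c23 LD3_c40) (LK LD1_c0 LD2_c52 LD3_c16) Lrfl Lrfl
theorem f86933 : Led Lsl_et (LP (LK LD1_c0 LD2_c23 LD3_c48)) = (LP (LK LD1_c0 LD2_c10 LD3_c39)) :=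
  Lre_e IH (LK LD1_c0 LD2_c23 LD3_c48) (LK LD1_c0 LD2_c10 LD3_c39) Lrfl Lrfl
theorem f89193 : Led Lsl_at (LP (LK LD1_c0 LD2_c52 LD3_c16)) = (LP (LK LD1_c0 LD2_c23 LD3_c48)) :=
  Lgr Lrot80 (Lpe (f87619 IH) (Lpr_af (f88457 IH) (Lpe (f86933 IH) (Lpn (LP (LK LD1_c0 LD2_c23 LD3_c48))))))
theorem f12004 : Led Lsl_ct (LP (LK LD1_c1 LD2_c50 LD3_c44)) = (LP (LK LD1_c0 LD2_c52 LD3_c16)) :=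
  Lre_c IH (LK LD1_c1 LD2_c50 LD3_c44) (LK LD1_c0 LD2_c52 LD3_c16) Lrfl Lrfl
theorem f87959 : Led Lsl_ct (LP (LK LD1_c0 LD2_c23 LD3_c48)) = (LP (LK LD1_c0 LD2_c52 LD3_c41)) :=
  Lre_c IH (LK LD1_c0 LD2_c23 LD3_c48) (LK LD1_c0 LD2_c52 LD3_c41) Lrfl Lrfl
theorem f89199 : Led Lsl_af (LP (LK LD1_c1 LD2_c50 LD3_c44)) = (LP (LK LD1_c0 LD2_c52 LD3_c41)) :=
  Lgr Lrot68 (Lpr_ct (f12004 IH) (Lpr_at (f89193 IH) (Lpr_ct (f87959 IH) (Lpn (LP (LK LD1_c0 LD2_c52 LD3_c41))))))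
theorem f12065 : Led Lsl_dt (LP (LK LD1_c1 LD2_c50 LD3_c44)) = (LP (LK LD1_c3 LD2_c47 LD3_c14)) :=
  Lre_d IH (LK LD1_c1 LD2_c50 LD3_c44) (LK LD1_c3 LD2_c47 LD3_c14) Lrfl Lrfl
theorem f87834 : Led Lsl_dt (LP (LK LD1_c1 LD2_c51 LD3_c49)) = (LP (LK LD1_c0 LD2_c52 LD3_c41)) :=
  Lre_d IH (LK LD1_c1 LD2_c51 LD3_c49) (LK LD1_c0 LD2_c52 LD3_c41) Lrfl Lrfl
theorem f89206 : Led Lsl_at (LP (LK LD1_c3 LD2_c47 LD3_c14)) = (LP (LK LD1_c1 LD2_c51 LD3_c49)) :=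
  Lgr Lrot51 (Lpe (f12065 IH) (Lpr_af (f89199 IH) (Lpe (f87834 IH) (Lpn (LP (LK LD1_c1 LD2_c51 LD3_c49))))))
theorem f89234 : Led Lsl_et (LP (LK LD1_c7 LD2_c35 LD3_c12)) = (LP (LK LD1_c3 LD2_c47 LD3_c14)) :=
  Lre_e IH (LK LD1_c7 LD2_c35 LD3_c12) (LK LD1_c3 LD2_c47 LD3_c14) Lrfl Lrfl
theorem f87833 : Led Lsl_et (LP (LK LD1_c1 LD2_c51 LD3_c49)) = (LP (LK LD1_c3 LD2_c49 LD3_c32)) :=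
  Lre_e IH (LK LD1_c1 LD2_c51 LD3_c49) (LK LD1_c3 LD2_c49 LD3_c32) Lrfl Lrfl
theorem f89235 : Led Lsl_af (LP (LK LD1_c7 LD2_c35 LD3_c12)) = (LP (LK LD1_c3 LD2_c49 LD3_c32)) :=
  Lgr Lrot50 (Lpr_et (f89234 IH) (Lpr_at (f89206 IH) (Lpr_et (f87833 IH) (Lpn (LP (LK LD1_c3 LD2_c49 LD3_c32))))))
theorem f89248 : Led Lsl_ft (LP (LK LD1_c7 LD2_c35 LD3_c12)) = (LP (LK LD1_c14 LD2_c18 LD3_c17)) :=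
  Lre_f IH (LK LD1_c7 LD2_c35 LD3_c12) (LK LD1_c14 LD2_c18 LD3_c17) Lrfl Lrfl
theorem f87252 : Led Lsl_ft (LP (LK LD1_c7 LD2_c40 LD3_c2)) = (LP (LK LD1_c3 LD2_c49 LD3_c32)) :=
  Lre_f IH (LK LD1_c7 LD2_c40 LD3_c2) (LK LD1_c3 LD2_c49 LD3_c32) Lrfl Lrfl
theorem f89249 : Led Lsl_at (LP (LK LD1_c14 LD2_c18 LD3_c17)) = (LP (LK LD1_c7 LD2_c40 LD3_c2)) :=
  Lgr Lrot66 (Lpe (f89248 IH) (Lpr_af (f89235 IH) (Lpe (f87252 IH) (Lpn (LP (LK LD1_c7 LD2_c40 LD3_c2))))))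
theorem f89258 : Led Lsl_dt (LP (LK LD1_c7 LD2_c35 LD3_c13)) = (LP (LK LD1_c14 LD2_c18 LD3_c17)) :=
  Lre_d IH (LK LD1_c7 LD2_c35 LD3_c13) (LK LD1_c14 LD2_c18 LD3_c17) Lrfl Lrfl
theorem f87248 : Led Lsl_dt (LP (LK LD1_c7 LD2_c40 LD3_c2)) = (LP (LK LD1_c3 LD2_c49 LD3_c33)) :=
  Lre_d IH (LK LD1_c7 LD2_c40 LD3_c2) (LK LD1_c3 LD2_c49 LD3_c33) Lrfl Lrfl
theorem f89259 : Led Lsl_af (LP (LK LD1_c7 LD2_c35 LD3_c13)) = (LP (LK LD1_c3 LD2_c49 LD3_c33)) :=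
  Lgr Lrot117 (Lpr_dt (f89258 IH) (Lpr_at (f89249 IH) (Lpr_dt (f87248 IH) (Lpn (LP (LK LD1_c3 LD2_c49 LD3_c33))))))
theorem f87799 : Led Lsl_et (LP (LK LD1_c1 LD2_c50 LD3_c38)) = (LP (LK LD1_c3 LD2_c47 LD3_c3)) :=
  Lre_e IH (LK LD1_c1 LD2_c50 LD3_c38) (LK LD1_c3 LD2_c47 LD3_c3) Lrfl Lrfl
theorem f87184 : Led Lsl_et (LP (LK LD1_c1 LD2_c51 LD3_c46)) = (LP (LK LD1_c0 LD2_c52 LD3_c40)) :=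
  Lre_e IH (LK LD1_c1 LD2_c51 LD3_c46) (LK LD1_c0 LD2_c52 LD3_c40) Lrfl Lrfl
theorem f87267 : Led Lsl_ft (LP (LK LD1_c3 LD2_c49 LD3_c33)) = (LP (LK LD1_c1 LD2_c51 LD3_c46)) :=
  Lre_f IH (LK LD1_c3 LD2_c49 LD3_c33) (LK LD1_c1 LD2_c51 LD3_c46) Lrfl Lrfl
theorem f87800 : Led Lsl_et (LP (LK LD1_c7 LD2_c34 LD3_c60)) = (LP (LK LD1_c3 LD2_c49 LD3_c33)) :=
  Lgr Lrot69 (Lpe (f87757 IH) (Lpe (f87799 IH) (Lpr_ff (f87792 IH) (Lpe (f87184 IH) (Lpe (f87267 IH) (Lpn (LP (LK LD1_c3 LD2_c49 LD3_c33))))))))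
theorem f89271 : Led Lsl_et (LP (LK LD1_c7 LD2_c35 LD3_c13)) = (LP (LK LD1_c3 LD2_c48 LD3_c45)) :=
  Lgr Lrot123 (Lpr_af (f89259 IH) (Lpe (f87800 IH) (Lpr_af (f87732 IH) (Lpn (LP (LK LD1_c3 LD2_c48 LD3_c45))))))
theorem f89286 : Led Lsl_ft (LP (LK LD1_c3 LD2_c47 LD3_c11)) = (LP (LK LD1_c7 LD2_c35 LD3_c13)) :=
  Lre_f IH (LK LD1_c3 LD2_c47 LD3_c11) (LK LD1_c7 LD2_c35 LD3_c13) Lrfl Lrfl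
theorem f12069 : Led Lsl_et (LP (LK LD1_c1 LD2_c50 LD3_c43)) = (LP (LK LD1_c3 LD2_c47 LD3_c11)) :=
  Lre_e IH (LK LD1_c1 LD2_c50 LD3_c43) (LK LD1_c3 LD2_c47 LD3_c11) Lrfl Lrfl
theorem f64613 : Led Lsl_et (LP (LK LD1_c1 LD2_c51 LD3_c22)) = (LP (LK LD1_c0 LD2_c52 LD3_c31)) :=
  Lre_e IH (LK LD1_c1 LD2_c51 LD3_c22) (LK LD1_c0 LD2_c52 LD3_c31) Lrfl Lrfl
theorem f89287 : Led Lsl_ff (LP (LK LD1_c1 LD2_c50 LD3_c43)) = (LP (LK LD1_c0 LD2_c52 LD3_c31)) :=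
  Lgr Lrot72 (Lpr_et (f12069 IH) (Lpr_ft (f89286 IH) (Lpr_et (f89271 IH) (Lpr_ft (f64886 IH) (Lpr_et (f64613 IH) (Lpn (LP (LK LD1_c0 LD2_c52 LD3_c31))))))))
theorem f12060 : Led Lsl_dt (LP (LK LD1_c1 LD2_c50 LD3_c43)) = (LP (LK LD1_c0 LD2_c52 LD3_c15)) :=
  Lre_d IH (LK LD1_c1 LD2_c50 LD3_c43) (LK LD1_c0 LD2_c52 LD3_c15) Lrfl Lrfl
theorem f89291 : Led Lsl_ft (LP (LK LD1_c0 LD2_c52 LD3_c15)) = (LP (LK LD1_c0 LD2_c23 LD3_c44)) :=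
  Lgr Lrot54 (Lpe (f12060 IH) (Lpr_ff (f89287 IH) (Lpe (K1.f17460 IH) (Lpn (LP (LK LD1_c0 LD2_c23 LD3_c44))))))
theorem f11959 : Led Lsl_bt (LP (LK LD1_c1 LD2_c50 LD3_c42)) = (LP (LK LD1_c0 LD2_c52 LD3_c15)) :=
  Lre_b IH (LK LD1_c1 LD2_c50 LD3_c42) (LK LD1_c0 LD2_c52 LD3_c15) Lrfl Lrfl
theorem f89677 : Led Lsl_ff (LP (LK LD1_c1 LD2_c50 LD3_c42)) = (LP (LK LD1_c0 LD2_c52 LD3_c30)) :=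
  Lgr Lrot25 (Lpr_bt (f11959 IH) (Lpr_ft (f89291 IH) (Lpr_bt (K1.f11857 IH) (Lpn (LP (LK LD1_c0 LD2_c52 LD3_c30))))))
theorem f89759 : Led Lsl_ft (LP (LK LD1_c1 LD2_c50 LD3_c42)) = (LP (LK LD1_c0 LD2_c52 LD3_c30)) :=
  Lgr Lrot48 (Lpr_ff (f89677 IH) (Lpn (LP (LK LD1_c0 LD2_c52 LD3_c30))))
theorem f9879 : Led Lsl_bt (LP (LK LD1_c0 LD2_c5 LD3_c3)) = (LP (LK LD1_c0 LD2_c10 LD3_c42)) :=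
  Lre_b IH (LK LD1_c0 LD2_c5 LD3_c3) (LK LD1_c0 LD2_c10 LD3_c42) Lrfl Lrfl
theorem f9901 : Led Lsl_gt (LP (LK LD1_c0 LD2_c10 LD3_c42)) = (LP (LK LD1_c0 LD2_c23 LD3_c40)) :=
  Lre_g IH (LK LD1_c0 LD2_c10 LD3_c42) (LK LD1_c0 LD2_c23 LD3_c40) Lrfl Lrfl
theorem f11952 : Led Lsl_bt (LP (LK LD1_c0 LD2_c52 LD3_c14)) = (LP (LK LD1_c0 LD2_c23 LD3_c40)) :=
  Lre_b IH (LK LD1_c0 LD2_c52 LD3_c14) (LK LD1_c0 LD2_c23 LD3_c40) Lrfl Lrfl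
theorem f9877 : Led Lsl_bt (LP (LK LD1_c0 LD2_c9 LD3_c28)) = (LP (LK LD1_c0 LD2_c4 LD3_c27)) :=
  Lre_b IH (LK LD1_c0 LD2_c9 LD3_c28) (LK LD1_c0 LD2_c4 LD3_c27) Lrfl Lrfl
theorem f11950 : Led Lsl_ct (LP (LK LD1_c0 LD2_c9 LD3_c28)) = (LP (LK LD1_c0 LD2_c20 LD3_c55)) :=
  Lre_c IH (LK LD1_c0 LD2_c9 LD3_c28) (LK LD1_c0 LD2_c20 LD3_c55) Lrfl Lrfl
theorem f11953 : Led Lsl_gt (LP (LK LD1_c0 LD2_c46 LD3_c36)) = (LP (LK LD1_c0 LD2_c20 LD3_c55)) :=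
  Lre_g IH (LK LD1_c0 LD2_c46 LD3_c36) (LK LD1_c0 LD2_c20 LD3_c55) Lrfl Lrfl
theorem f11954 : Led Lsl_ct (LP (LK LD1_c0 LD2_c52 LD3_c14)) = (LP (LK LD1_c0 LD2_c46 LD3_c36)) :=
  Lgr Lrot64 (Lpr_bt (f11952 IH) (Lpe (f9901 IH) (Lpe (f9879 IH) (Lpe (K0.f9883 IH) (Lpr_gf (K0.f11937 IH) (Lpr_cf (K0.f5892 IH) (Lpe (K0.f11941 IH) (Lpe (f9877 IH) (Lpr_ct (f11950 IH) (Lpe (f11953 IH) (Lpn (LP (LK LD1_c0 LD2_c46 LD3_c36)))))))))))))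
theorem f11957 : Led Lsl_bt (LP (LK LD1_c0 LD2_c23 LD3_c40)) = (LP (LK LD1_c0 LD2_c52 LD3_c14)) :=
  Lre_b IH (LK LD1_c0 LD2_c23 LD3_c40) (LK LD1_c0 LD2_c52 LD3_c14) Lrfl Lrfl
theorem f11958 : Led Lsl_ct (LP (LK LD1_c0 LD2_c52 LD3_c15)) = (LP (LK LD1_c0 LD2_c23 LD3_c40)) :=
  Lre_c IH (LK LD1_c0 LD2_c52 LD3_c15) (LK LD1_c0 LD2_c23 LD3_c40) Lrfl Lrfl
theorem f11960 : Led Lsl_bt (LP (LK LD1_c0 LD2_c46 LD3_c36)) = (LP (LK LD1_c1 LD2_c40 LD3_c11)) :=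
  Lre_b IH (LK LD1_c0 LD2_c46 LD3_c36) (LK LD1_c1 LD2_c40 LD3_c11) Lrfl Lrfl
theorem f11961 : Led Lsl_cf (LP (LK LD1_c1 LD2_c50 LD3_c42)) = (LP (LK LD1_c1 LD2_c40 LD3_c11)) :=
  Lgr Lrot97 (Lpr_bt (f11959 IH) (Lpr_ct (f11958 IH) (Lpr_bt (f11957 IH) (Lpr_ct (f11954 IH) (Lpr_bt (f11960 IH) (Lpn (LP (LK LD1_c1 LD2_c40 LD3_c11))))))))
theorem f11849 : Led Lsl_ct (LP (LK LD1_c0 LD2_c52 LD3_c30)) = (LP (LK LD1_c1 LD2_c51 LD3_c6)) :=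
  Lre_c IH (LK LD1_c0 LD2_c52 LD3_c30) (LK LD1_c1 LD2_c51 LD3_c6) Lrfl Lrfl
theorem f89819 : Led Lsl_ff (LP (LK LD1_c1 LD2_c40 LD3_c11)) = (LP (LK LD1_c1 LD2_c51 LD3_c6)) :=
  Lgr Lrot23 (Lpe (f11961 IH) (Lpr_ft (f89759 IH) (Lpr_ct (f11849 IH) (Lpn (LP (LK LD1_c1 LD2_c51 LD3_c6))))))
theorem f12032 : Led Lsl_bt (LP (LK LD1_c1 LD2_c40 LD3_c11)) = (LP (LK LD1_c0 LD2_c46 LD3_c36)) :=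
  Lre_b IH (LK LD1_c1 LD2_c40 LD3_c11) (LK LD1_c0 LD2_c46 LD3_c36) Lrfl Lrfl
theorem f17298 : Led Lsl_bt (LP (LK LD1_c0 LD2_c52 LD3_c26)) = (LP (LK LD1_c1 LD2_c51 LD3_c6)) :=
  Lre_b IH (LK LD1_c0 LD2_c52 LD3_c26) (LK LD1_c1 LD2_c51 LD3_c6) Lrfl Lrfl
theorem f89829 : Led Lsl_ft (LP (LK LD1_c0 LD2_c46 LD3_c36)) = (LP (LK LD1_c0 LD2_c52 LD3_c26)) :=
  Lgr Lrot75 (Lpe (f12032 IH) (Lpr_ff (f89819 IH) (Lpe (f17298 IH) (Lpn (LP (LK LD1_c0 LD2_c52 LD3_c26))))))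
theorem f11951 : Led Lsl_gt (LP (LK LD1_c0 LD2_c20 LD3_c55)) = (LP (LK LD1_c0 LD2_c46 LD3_c35)) :=
  Lre_g IH (LK LD1_c0 LD2_c20 LD3_c55) (LK LD1_c0 LD2_c46 LD3_c35) Lrfl Lrfl
theorem f89841 : Led Lsl_af (LP (LK LD1_c0 LD2_c46 LD3_c35)) = (LP (LK LD1_c0 LD2_c52 LD3_c26)) :=
  Lgr Lrot31 (Lpe (f11951 IH) (Lpe (f11953 IH) (Lpr_ft (f89829 IH) (Lpn (LP (LK LD1_c0 LD2_c52 LD3_c26))))))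
theorem f89851 : Led Lsl_et (LP (LK LD1_c0 LD2_c46 LD3_c35)) = (LP (LK LD1_c1 LD2_c40 LD3_c10)) :=
  Lre_e IH (LK LD1_c0 LD2_c46 LD3_c35) (LK LD1_c1 LD2_c40 LD3_c10) Lrfl Lrfl
theorem f11858 : Led Lsl_et (LP (LK LD1_c1 LD2_c51 LD3_c8)) = (LP (LK LD1_c0 LD2_c52 LD3_c26)) :=
  Lre_e IH (LK LD1_c1 LD2_c51 LD3_c8) (LK LD1_c0 LD2_c52 LD3_c26) Lrfl Lrfl
theorem f89852 : Led Lsl_at (LP (LK LD1_c1 LD2_c40 LD3_c10)) = (LP (LK LD1_c1 LD2_c51 LD3_c8)) :=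
  Lgr Lrot80 (Lpe (f89851 IH) (Lpr_af (f89841 IH) (Lpe (f11858 IH) (Lpn (LP (LK LD1_c1 LD2_c51 LD3_c8))))))
theorem f89859 : Led Lsl_ct (LP (LK LD1_c1 LD2_c51 LD3_c8)) = (LP (LK LD1_c0 LD2_c52 LD3_c27)) :=
  Lre_c IH (LK LD1_c1 LD2_c51 LD3_c8) (LK LD1_c0 LD2_c52 LD3_c27) Lrfl Lrfl
theorem f87678 : Led Lsl_at (LP (LK LD1_c0 LD2_c52 LD3_c27)) = (LP (LK LD1_c1 LD2_c51 LD3_c5)) :=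
  Lre_a IH (LK LD1_c0 LD2_c52 LD3_c27) (LK LD1_c1 LD2_c51 LD3_c5) Lrfl Lrfl
theorem f89860 : Led Lsl_cf (LP (LK LD1_c1 LD2_c40 LD3_c10)) = (LP (LK LD1_c1 LD2_c51 LD3_c5)) :=
  Lgr Lrot1 (Lpr_at (f89852 IH) (Lpr_ct (f89859 IH) (Lpr_at (f87678 IH) (Lpn (LP (LK LD1_c1 LD2_c51 LD3_c5))))))
theorem f90032 : Led Lsl_ct (LP (LK LD1_c1 LD2_c40 LD3_c10)) = (LP (LK LD1_c1 LD2_c51 LD3_c5)) :=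
  Lgr Lrot59 (Lpr_cf (f89860 IH) (Lpn (LP (LK LD1_c1 LD2_c51 LD3_c5))))
theorem f88638 : Led Lsl_et (LP (LK LD1_c1 LD2_c51 LD3_c5)) = (LP (LK LD1_c0 LD2_c52 LD3_c25)) :=
  Lre_e IH (LK LD1_c1 LD2_c51 LD3_c5) (LK LD1_c0 LD2_c52 LD3_c25) Lrfl Lrfl
theorem f90056 : Led Lsl_cf (LP (LK LD1_c0 LD2_c46 LD3_c35)) = (LP (LK LD1_c0 LD2_c52 LD3_c25)) :=
  Lgr Lrot39 (Lpr_et (f89851 IH) (Lpr_ct (f90032 IH) (Lpr_et (f88638 IH) (Lpn (LP (LK LD1_c0 LD2_c52 LD3_c25))))))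
theorem f6681 : Led Lsl_gt (LP (LK LD1_c0 LD2_c49 LD3_c22)) = (LP (LK LD1_c0 LD2_c22 LD3_c8)) :=
  Lre_g IH (LK LD1_c0 LD2_c49 LD3_c22) (LK LD1_c0 LD2_c22 LD3_c8) Lrfl Lrfl
theorem f88466 : Led Lsl_ff (LP (LK LD1_c0 LD2_c23 LD3_c39)) = (LP (LK LD1_c0 LD2_c10 LD3_c39)) :=
  Lgr Lrot3 (Lpr_ft (f87923 IH) (Lpn (LP (LK LD1_c0 LD2_c10 LD3_c39))))
theorem f87666 : Led Lsl_bt (LP (LK LD1_c0 LD2_c23 LD3_c39)) = (LP (LK LD1_c0 LD2_c52 LD3_c11)) :=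
  Lre_b IH (LK LD1_c0 LD2_c23 LD3_c39) (LK LD1_c0 LD2_c52 LD3_c11) Lrfl Lrfl
theorem f11527 : Led Lsl_bt (LP (LK LD1_c0 LD2_c23 LD3_c46)) = (LP (LK LD1_c0 LD2_c10 LD3_c39)) :=
  Lre_b IH (LK LD1_c0 LD2_c23 LD3_c46) (LK LD1_c0 LD2_c10 LD3_c39) Lrfl Lrfl
theorem f88468 : Led Lsl_ft (LP (LK LD1_c0 LD2_c52 LD3_c11)) = (LP (LK LD1_c0 LD2_c23 LD3_c46)) :=
  Lgr Lrot75 (Lpe (f87666 IH) (Lpr_ff (f88466 IH) (Lpe (f11527 IH) (Lpn (LP (LK LD1_c0 LD2_c23 LD3_c46))))))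
theorem f6674 : Led Lsl_dt (LP (LK LD1_c0 LD2_c4 LD3_c35)) = (LP (LK LD1_c0 LD2_c9 LD3_c46)) :=
  Lre_d IH (LK LD1_c0 LD2_c4 LD3_c35) (LK LD1_c0 LD2_c9 LD3_c46) Lrfl Lrfl
theorem f6671 : Led Lsl_ct (LP (LK LD1_c0 LD2_c21 LD3_c38)) = (LP (LK LD1_c0 LD2_c48 LD3_c18)) :=
  Lre_c IH (LK LD1_c0 LD2_c21 LD3_c38) (LK LD1_c0 LD2_c48 LD3_c18) Lrfl Lrfl
theorem f11528 : Led Lsl_ct (LP (LK LD1_c0 LD2_c23 LD3_c46)) = (LP (LK LD1_c0 LD2_c52 LD3_c37)) :=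
  Lre_c IH (LK LD1_c0 LD2_c23 LD3_c46) (LK LD1_c0 LD2_c52 LD3_c37) Lrfl Lrfl
theorem f11529 : Led Lsl_gf (LP (LK LD1_c0 LD2_c52 LD3_c37)) = (LP (LK LD1_c0 LD2_c48 LD3_c18)) :=
  Lgr Lrot129 (Lpe (f11528 IH) (Lpr_bt (f11527 IH) (Lpr_gt (f11526 IH) (Lpe (K0.f11249 IH) (Lpr_ct (K0.f5851 IH) (Lpr_gt (K0.f11507 IH) (Lpr_cf (K0.f5892 IH) (Lpr_bt (f5888 IH) (Lpr_gt (f5898 IH) (Lpr_ct (f6671 IH) (Lpn (LP (LK LD1_c0 LD2_c48 LD3_c18)))))))))))))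
theorem f11538 : Led Lsl_ct (LP (LK LD1_c0 LD2_c52 LD3_c37)) = (LP (LK LD1_c0 LD2_c23 LD3_c46)) :=
  Lre_c IH (LK LD1_c0 LD2_c52 LD3_c37) (LK LD1_c0 LD2_c23 LD3_c46) Lrfl Lrfl
theorem f84683 : Led Lsl_cf (LP (LK LD1_c0 LD2_c21 LD3_c6)) = (LP (LK LD1_c0 LD2_c47 LD3_c8)) :=
  Lgr Lrot97 (Lpr_bt (f10018 IH) (Lpr_ct (K1.f10768 IH) (Lpr_bt (K1.f21022 IH) (Lpr_ct (f84681 IH) (Lpe (f84671 IH) (Lpn (LP (LK LD1_c0 LD2_c47 LD3_c8))))))))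
theorem f84726 : Led Lsl_dt (LP (LK LD1_c0 LD2_c23 LD3_c46)) = (LP (LK LD1_c0 LD2_c21 LD3_c6)) :=
  Lgr Lrot27 (Lpe (f11538 IH) (Lpr_gf (f11529 IH) (Lpe (f6671 IH) (Lpe (f5898 IH) (Lpe (f6674 IH) (Lpr_gt (f10015 IH) (Lpr_ct (f10016 IH) (Lpr_gt (f84720 IH) (Lpe (f84683 IH) (Lpn (LP (LK LD1_c0 LD2_c21 LD3_c6))))))))))))
theorem f88473 : Led Lsl_df (LP (LK LD1_c0 LD2_c52 LD3_c11)) = (LP (LK LD1_c0 LD2_c46 LD3_c53)) :=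
  Lgr Lrot78 (Lpr_ft (f88468 IH) (Lpr_dt (f84726 IH) (Lpr_ft (f19352 IH) (Lpn (LP (LK LD1_c0 LD2_c46 LD3_c53))))))
theorem f19361 : Led Lsl_af (LP (LK LD1_c0 LD2_c46 LD3_c53)) = (LP (LK LD1_c0 LD2_c48 LD3_c61)) :=
  Lgr Lrot0 (Lpr_at (f19353 IH) (Lpn (LP (LK LD1_c0 LD2_c48 LD3_c61))))
theorem f17498 : Led Lsl_dt (LP (LK LD1_c1 LD2_c44 LD3_c39)) = (LP (LK LD1_c0 LD2_c48 LD3_c61)) :=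
  Lre_d IH (LK LD1_c1 LD2_c44 LD3_c39) (LK LD1_c0 LD2_c48 LD3_c61) Lrfl Lrfl
theorem f88477 : Led Lsl_at (LP (LK LD1_c0 LD2_c52 LD3_c11)) = (LP (LK LD1_c1 LD2_c44 LD3_c39)) :=
  Lgr Lrot51 (Lpr_df (f88473 IH) (Lpr_af (f19361 IH) (Lpe (f17498 IH) (Lpn (LP (LK LD1_c1 LD2_c44 LD3_c39))))))
theorem f88475 : Led Lsl_et (LP (LK LD1_c1 LD2_c50 LD3_c35)) = (LP (LK LD1_c0 LD2_c52 LD3_c11)) :=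
  Lre_e IH (LK LD1_c1 LD2_c50 LD3_c35) (LK LD1_c0 LD2_c52 LD3_c11) Lrfl Lrfl
theorem f87154 : Led Lsl_et (LP (LK LD1_c1 LD2_c44 LD3_c39)) = (LP (LK LD1_c3 LD2_c35 LD3_c35)) :=
  Lre_e IH (LK LD1_c1 LD2_c44 LD3_c39) (LK LD1_c3 LD2_c35 LD3_c35) Lrfl Lrfl
theorem f88626 : Led Lsl_af (LP (LK LD1_c1 LD2_c50 LD3_c35)) = (LP (LK LD1_c3 LD2_c35 LD3_c35)) :=
  Lgr Lrot50 (Lpr_et (f88475 IH) (Lpr_at (f88477 IH) (Lpr_et (f87154 IH) (Lpn (LP (LK LD1_c3 LD2_c35 LD3_c35))))))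
theorem f87676 : Led Lsl_bt (LP (LK LD1_c1 LD2_c50 LD3_c35)) = (LP (LK LD1_c0 LD2_c52 LD3_c13)) :=
  Lre_b IH (LK LD1_c1 LD2_c50 LD3_c35) (LK LD1_c0 LD2_c52 LD3_c13) Lrfl Lrfl
theorem f87677 : Led Lsl_bt (LP (LK LD1_c0 LD2_c23 LD3_c45)) = (LP (LK LD1_c0 LD2_c52 LD3_c27)) :=
  Lre_b IH (LK LD1_c0 LD2_c23 LD3_c45) (LK LD1_c0 LD2_c52 LD3_c27) Lrfl Lrfl
theorem f88630 : Led Lsl_bt (LP (LK LD1_c1 LD2_c51 LD3_c5)) = (LP (LK LD1_c3 LD2_c35 LD3_c35)) :=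
  Lgr Lrot62 (Lpe (f87678 IH) (Lpe (f87677 IH) (Lpe (f87672 IH) (Lpe (f87676 IH) (Lpr_af (f88626 IH) (Lpn (LP (LK LD1_c3 LD2_c35 LD3_c35))))))))
theorem f88632 : Led Lsl_bf (LP (LK LD1_c1 LD2_c51 LD3_c5)) = (LP (LK LD1_c3 LD2_c35 LD3_c35)) :=
  Lgr Lrot24 (Lpr_bt (f88630 IH) (Lpn (LP (LK LD1_c3 LD2_c35 LD3_c35))))
theorem f88639 : Led Lsl_bt (LP (LK LD1_c0 LD2_c52 LD3_c25)) = (LP (LK LD1_c1 LD2_c44 LD3_c39)) :=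
  Lgr Lrot119 (Lpe (f88638 IH) (Lpr_bf (f88632 IH) (Lpe (f87154 IH) (Lpn (LP (LK LD1_c1 LD2_c44 LD3_c39))))))
theorem f10181 : Led Lsl_at (LP (LK LD1_c0 LD2_c9 LD3_c46)) = (LP (LK LD1_c0 LD2_c21 LD3_c36)) :=
  Lre_a IH (LK LD1_c0 LD2_c9 LD3_c46) (LK LD1_c0 LD2_c21 LD3_c36) Lrfl Lrfl
theorem f10220 : Led Lsl_at (LP (LK LD1_c0 LD2_c22 LD3_c4)) = (LP (LK LD1_c0 LD2_c9 LD3_c59)) :=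
  Lre_a IH (LK LD1_c0 LD2_c22 LD3_c4) (LK LD1_c0 LD2_c9 LD3_c59) Lrfl Lrfl
theorem f10221 : Led Lsl_ft (LP (LK LD1_c0 LD2_c21 LD3_c36)) = (LP (LK LD1_c0 LD2_c22 LD3_c4)) :=
  Lgr Lrot101 (Lpe (f10181 IH) (Lpr_ff (K0.f10218 IH) (Lpe (f10220 IH) (Lpn (LP (LK LD1_c0 LD2_c22 LD3_c4))))))
theorem f10801 : Led Lsl_gt (LP (LK LD1_c0 LD2_c21 LD3_c36)) = (LP (LK LD1_c0 LD2_c22 LD3_c7)) :=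
  Lgr Lrot5 (Lpr_ft (f10221 IH) (Lpr_at (f10220 IH) (Lpe (K0.f5904 IH) (Lpn (LP (LK LD1_c0 LD2_c22 LD3_c7))))))
theorem f10244 : Led Lsl_dt (LP (LK LD1_c0 LD2_c9 LD3_c45)) = (LP (LK LD1_c0 LD2_c21 LD3_c36)) :=
  Lre_d IH (LK LD1_c0 LD2_c9 LD3_c45) (LK LD1_c0 LD2_c21 LD3_c36) Lrfl Lrfl
theorem f10298 : Led Lsl_dt (LP (LK LD1_c0 LD2_c48 LD3_c61)) = (LP (LK LD1_c1 LD2_c44 LD3_c39)) :=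
  Lre_d IH (LK LD1_c0 LD2_c48 LD3_c61) (LK LD1_c1 LD2_c44 LD3_c39) Lrfl Lrfl
theorem f5245 : Led Lsl_dt (LP (LK LD1_c0 LD2_c50 LD3_c0)) = (LP (LK LD1_c0 LD2_c22 LD3_c32)) :=
  Lre_d IH (LK LD1_c0 LD2_c50 LD3_c0) (LK LD1_c0 LD2_c22 LD3_c32) Lrfl Lrfl
theorem f17469 : Led Lsl_gt (LP (LK LD1_c1 LD2_c44 LD3_c39)) = (LP (LK LD1_c0 LD2_c50 LD3_c0)) :=
  Lgr Lrot49 (Lpe (f10298 IH) (Lpe (f10297 IH) (Lpe (K1.f10300 IH) (Lpe (f10294 IH) (Lpr_dt (f10244 IH) (Lpr_gt (f10801 IH) (Lpr_dt (K0.f17463 IH) (Lpe (K1.f5247 IH) (Lpe (f5245 IH) (Lpn (LP (LK LD1_c0 LD2_c50 LD3_c0))))))))))))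
theorem f90064 : Led Lsl_cf (LP (LK LD1_c0 LD2_c49 LD3_c22)) = (LP (LK LD1_c0 LD2_c50 LD3_c0)) :=
  Lgr Lrot125 (Lpr_gt (f6681 IH) (Lpe (K0.f6093 IH) (Lpr_bt (K0.f5886 IH) (Lpe (K0.f11937 IH) (Lpe (f9877 IH) (Lpr_ct (f11950 IH) (Lpr_gt (f11951 IH) (Lpr_cf (f90056 IH) (Lpr_bt (f88639 IH) (Lpr_gt (f17469 IH) (Lpn (LP (LK LD1_c0 LD2_c50 LD3_c0)))))))))))))
theorem f5887 : Led Lsl_ct (LP (LK LD1_c0 LD2_c22 LD3_c8)) = (LP (LK LD1_c0 LD2_c9 LD3_c59)) :=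
  Lre_c IH (LK LD1_c0 LD2_c22 LD3_c8) (LK LD1_c0 LD2_c9 LD3_c59) Lrfl Lrfl
theorem f90075 : Led Lsl_gf (LP (LK LD1_c0 LD2_c22 LD3_c1)) = (LP (LK LD1_c0 LD2_c48 LD3_c61)) :=
  Lgr Lrot147 (Lpr_ct (K0.f10766 IH) (Lpr_gt (K0.f6101 IH) (Lpr_ct (K0.f17629 IH) (Lpe (K0.f10232 IH) (Lpe (f5887 IH) (Lpe (f6681 IH) (Lpr_cf (f90064 IH) (Lpe (f17469 IH) (Lpe (f10298 IH) (Lpn (LP (LK LD1_c0 LD2_c48 LD3_c61))))))))))))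
theorem f11032 : Led Lsl_bt (LP (LK LD1_c0 LD2_c9 LD3_c12)) = (LP (LK LD1_c0 LD2_c4 LD3_c17)) :=
  Lre_b IH (LK LD1_c0 LD2_c9 LD3_c12) (LK LD1_c0 LD2_c4 LD3_c17) Lrfl Lrfl
theorem f66801 : Led Lsl_cf (LP (LK LD1_c0 LD2_c18 LD3_c31)) = (LP (LK LD1_c0 LD2_c9 LD3_c12)) :=
  Lgr Lrot108 (Lpr_ft (K1.f66753 IH) (Lpr_ct (K1.f17657 IH) (Lpr_ft (K1.f18144 IH) (Lpn (LP (LK LD1_c0 LD2_c9 LD3_c12))))))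
theorem f66808 : Led Lsl_gt (LP (LK LD1_c0 LD2_c18 LD3_c31)) = (LP (LK LD1_c0 LD2_c41 LD3_c22)) :=
  Lre_g IH (LK LD1_c0 LD2_c18 LD3_c31) (LK LD1_c0 LD2_c41 LD3_c22) Lrfl Lrfl
theorem f90094 : Led Lsl_cf (LP (LK LD1_c0 LD2_c41 LD3_c22)) = (LP (LK LD1_c0 LD2_c46 LD3_c57)) :=
  Lgr Lrot58 (Lpe (f66808 IH) (Lpr_cf (f66801 IH) (Lpr_bt (f11032 IH) (Lpr_gf (K0.f11022 IH) (Lpe (K0.f10253 IH) (Lpr_ct (K0.f17629 IH) (Lpe (K0.f6101 IH) (Lpe (K0.f10766 IH) (Lpr_gf (f90075 IH) (Lpe (f19417 IH) (Lpn (LP (LK LD1_c0 LD2_c46 LD3_c57)))))))))))))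
theorem f90103 : Led Lsl_ct (LP (LK LD1_c0 LD2_c41 LD3_c22)) = (LP (LK LD1_c0 LD2_c46 LD3_c57)) :=
  Lgr Lrot59 (Lpr_cf (f90094 IH) (Lpn (LP (LK LD1_c0 LD2_c46 LD3_c57))))
theorem f66803 : Led Lsl_dt (LP (LK LD1_c0 LD2_c41 LD3_c25)) = (LP (LK LD1_c0 LD2_c18 LD3_c31)) :=
  Lre_d IH (LK LD1_c0 LD2_c41 LD3_c25) (LK LD1_c0 LD2_c18 LD3_c31) Lrfl Lrfl
theorem f25184 : Led Lsl_dt (LP (LK LD1_c0 LD2_c18 LD3_c32)) = (LP (LK LD1_c0 LD2_c8 LD3_c20)) :=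
  Lre_d IH (LK LD1_c0 LD2_c18 LD3_c32) (LK LD1_c0 LD2_c8 LD3_c20) Lrfl Lrfl
theorem f68330 : Led Lsl_gt (LP (LK LD1_c0 LD2_c17 LD3_c0)) = (LP (LK LD1_c0 LD2_c37 LD3_c59)) :=
  Lgr Lrot150 (Lpe (K1.f22456 IH) (Lpr_gf (K0.f20068 IH) (Lpe (K0.f20067 IH) (Lpe (K0.f20952 IH) (Lpr_ct (K0.f7365 IH) (Lpe (K0.f7362 IH) (Lpr_ct (K1.f25765 IH) (Lpe (f25184 IH) (Lpr_cf (f68316 IH) (Lpn (LP (LK LD1_c0 LD2_c37 LD3_c59))))))))))))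
theorem f22501 : Led Lsl_bt (LP (LK LD1_c0 LD2_c40 LD3_c21)) = (LP (LK LD1_c0 LD2_c18 LD3_c6)) :=
  Lre_b IH (LK LD1_c0 LD2_c40 LD3_c21) (LK LD1_c0 LD2_c18 LD3_c6) Lrfl Lrfl
theorem f65645 : Led Lsl_bt (LP (LK LD1_c0 LD2_c23 LD3_c34)) = (LP (LK LD1_c0 LD2_c52 LD3_c0)) :=
  Lre_b IH (LK LD1_c0 LD2_c23 LD3_c34) (LK LD1_c0 LD2_c52 LD3_c0) Lrfl Lrfl
theorem f68322 : Led Lsl_ct (LP (LK LD1_c0 LD2_c18 LD3_c32)) = (LP (LK LD1_c0 LD2_c37 LD3_c59)) :=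
  Lgr Lrot59 (Lpr_cf (f68316 IH) (Lpn (LP (LK LD1_c0 LD2_c37 LD3_c59))))
theorem f66944 : Led Lsl_bt (LP (LK LD1_c0 LD2_c18 LD3_c32)) = (LP (LK LD1_c0 LD2_c41 LD3_c25)) :=
  Lre_b IH (LK LD1_c0 LD2_c18 LD3_c32) (LK LD1_c0 LD2_c41 LD3_c25) Lrfl Lrfl
theorem f68335 : Led Lsl_gf (LP (LK LD1_c0 LD2_c52 LD3_c0)) = (LP (LK LD1_c0 LD2_c41 LD3_c25)) :=
  Lgr Lrot124 (Lpe (f65645 IH) (Lpr_ct (f12417 IH) (Lpr_gt (f65664 IH) (Lpe (K1.f22502 IH) (Lpr_bt (f22501 IH) (Lpe (K0.f20068 IH) (Lpr_ct (K1.f22456 IH) (Lpr_gt (f68330 IH) (Lpe (f68322 IH) (Lpr_bt (f66944 IH) (Lpn (LP (LK LD1_c0 LD2_c41 LD3_c25)))))))))))))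
theorem f23365 : Led Lsl_ct (LP (LK LD1_c0 LD2_c52 LD3_c0)) = (LP (LK LD1_c1 LD2_c50 LD3_c20)) :=
  Lre_c IH (LK LD1_c0 LD2_c52 LD3_c0) (LK LD1_c1 LD2_c50 LD3_c20) Lrfl Lrfl
theorem f22496 : Led Lsl_bt (LP (LK LD1_c0 LD2_c8 LD3_c43)) = (LP (LK LD1_c0 LD2_c19 LD3_c22)) :=
  Lre_b IH (LK LD1_c0 LD2_c8 LD3_c43) (LK LD1_c0 LD2_c19 LD3_c22) Lrfl Lrfl
theorem f22503 : Led Lsl_gt (LP (LK LD1_c0 LD2_c43 LD3_c23)) = (LP (LK LD1_c0 LD2_c19 LD3_c22)) :=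
  Lre_g IH (LK LD1_c0 LD2_c43 LD3_c23) (LK LD1_c0 LD2_c19 LD3_c22) Lrfl Lrfl
theorem f22504 : Led Lsl_bt (LP (LK LD1_c1 LD2_c33 LD3_c33)) = (LP (LK LD1_c0 LD2_c43 LD3_c23)) :=
  Lre_b IH (LK LD1_c1 LD2_c33 LD3_c33) (LK LD1_c0 LD2_c43 LD3_c23) Lrfl Lrfl
theorem f22505 : Led Lsl_ct (LP (LK LD1_c1 LD2_c33 LD3_c33)) = (LP (LK LD1_c3 LD2_c13 LD3_c58)) :=
  Lre_c IH (LK LD1_c1 LD2_c33 LD3_c33) (LK LD1_c3 LD2_c13 LD3_c58) Lrfl Lrfl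
theorem f68338 : Led Lsl_gf (LP (LK LD1_c3 LD2_c13 LD3_c58)) = (LP (LK LD1_c1 LD2_c50 LD3_c20)) :=
  Lgr Lrot129 (Lpe (f22505 IH) (Lpr_bt (f22504 IH) (Lpr_gt (f22503 IH) (Lpe (f22496 IH) (Lpr_ct (K1.f22456 IH) (Lpr_gt (f68330 IH) (Lpe (f68322 IH) (Lpr_bt (f66944 IH) (Lpe (f68335 IH) (Lpr_ct (f23365 IH) (Lpn (LP (LK LD1_c1 LD2_c50 LD3_c20)))))))))))))
theorem f68341 : Led Lsl_ct (LP (LK LD1_c3 LD2_c13 LD3_c58)) = (LP (LK LD1_c1 LD2_c33 LD3_c33)) :=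
  Lre_c IH (LK LD1_c3 LD2_c13 LD3_c58) (LK LD1_c1 LD2_c33 LD3_c33) Lrfl Lrfl
theorem f10781 : Led Lsl_ct (LP (LK LD1_c0 LD2_c9 LD3_c44)) = (LP (LK LD1_c0 LD2_c21 LD3_c34)) :=
  Lre_c IH (LK LD1_c0 LD2_c9 LD3_c44) (LK LD1_c0 LD2_c21 LD3_c34) Lrfl Lrfl
theorem f19376 : Led Lsl_ft (LP (LK LD1_c0 LD2_c47 LD3_c8)) = (LP (LK LD1_c0 LD2_c48 LD3_c61)) :=
  Lgr Lrot48 (Lpr_ff (f19372 IH) (Lpn (LP (LK LD1_c0 LD2_c48 LD3_c61))))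
theorem f84691 : Led Lsl_gt (LP (LK LD1_c0 LD2_c21 LD3_c34)) = (LP (LK LD1_c0 LD2_c46 LD3_c53)) :=
  Lgr Lrot46 (Lpr_gf (f84689 IH) (Lpr_ft (f19376 IH) (Lpe (f19361 IH) (Lpn (LP (LK LD1_c0 LD2_c46 LD3_c53))))))
theorem f84718 : Led Lsl_cf (LP (LK LD1_c0 LD2_c46 LD3_c53)) = (LP (LK LD1_c0 LD2_c48 LD3_c61)) :=
  Lgr Lrot108 (Lpr_ft (f19379 IH) (Lpr_ct (f84687 IH) (Lpr_ft (f19376 IH) (Lpn (LP (LK LD1_c0 LD2_c48 LD3_c61))))))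
theorem f19364 : Led Lsl_at (LP (LK LD1_c0 LD2_c9 LD3_c32)) = (LP (LK LD1_c0 LD2_c21 LD3_c1)) :=
  Lre_a IH (LK LD1_c0 LD2_c9 LD3_c32) (LK LD1_c0 LD2_c21 LD3_c1) Lrfl Lrfl
theorem f9934 : Led Lsl_bt (LP (LK LD1_c0 LD2_c21 LD3_c2)) = (LP (LK LD1_c0 LD2_c9 LD3_c32)) :=
  Lre_b IH (LK LD1_c0 LD2_c21 LD3_c2) (LK LD1_c0 LD2_c9 LD3_c32) Lrfl Lrfl
theorem f19366 : Led Lsl_bf (LP (LK LD1_c0 LD2_c46 LD3_c57)) = (LP (LK LD1_c0 LD2_c48 LD3_c61)) :=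
  Lgr Lrot81 (Lpr_at (f19365 IH) (Lpr_bt (f9934 IH) (Lpr_at (f19364 IH) (Lpr_bt (f19363 IH) (Lpr_at (f19353 IH) (Lpn (LP (LK LD1_c0 LD2_c48 LD3_c61))))))))
theorem f87557 : Led Lsl_gf (LP (LK LD1_c0 LD2_c47 LD3_c60)) = (LP (LK LD1_c0 LD2_c46 LD3_c57)) :=
  Lgr Lrot181 (Lpr_ct (f87511 IH) (Lpr_gt (f87555 IH) (Lpe (f12691 IH) (Lpr_bt (f64382 IH) (Lpe (f84709 IH) (Lpe (f84693 IH) (Lpr_ct (f10781 IH) (Lpr_gt (f84691 IH) (Lpr_cf (f84718 IH) (Lpe (f19366 IH) (Lpn (LP (LK LD1_c0 LD2_c46 LD3_c57)))))))))))))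
theorem f94200 : Led Lsl_df (LP (LK LD1_c1 LD2_c33 LD3_c33)) = (LP (LK LD1_c1 LD2_c37 LD3_c46)) :=
  Lgr Lrot162 (Lpe (f68341 IH) (Lpr_gf (f68338 IH) (Lpe (f23365 IH) (Lpr_gf (f68335 IH) (Lpr_dt (f66803 IH) (Lpr_gt (f66808 IH) (Lpr_ct (f90103 IH) (Lpe (f87557 IH) (Lpr_ct (f87511 IH) (Lpn (LP (LK LD1_c1 LD2_c37 LD3_c46))))))))))))
theorem f66840 : Led Lsl_dt (LP (LK LD1_c1 LD2_c29 LD3_c34)) = (LP (LK LD1_c0 LD2_c41 LD3_c24)) :=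
  Lre_d IH (LK LD1_c1 LD2_c29 LD3_c34) (LK LD1_c0 LD2_c41 LD3_c24) Lrfl Lrfl
theorem f90105 : Led Lsl_et (LP (LK LD1_c0 LD2_c41 LD3_c22)) = (LP (LK LD1_c1 LD2_c29 LD3_c31)) :=
  Lre_e IH (LK LD1_c0 LD2_c41 LD3_c22) (LK LD1_c1 LD2_c29 LD3_c31) Lrfl Lrfl
theorem f90106 : Led Lsl_ct (LP (LK LD1_c1 LD2_c29 LD3_c31)) = (LP (LK LD1_c1 LD2_c40 LD3_c52)) :=
  Lgr Lrot15 (Lpe (f90105 IH) (Lpr_cf (f90094 IH) (Lpe (f19416 IH) (Lpn (LP (LK LD1_c1 LD2_c40 LD3_c52))))))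
theorem f90127 : Led Lsl_cf (LP (LK LD1_c1 LD2_c29 LD3_c31)) = (LP (LK LD1_c1 LD2_c40 LD3_c52)) :=
  Lgr Lrot11 (Lpr_ct (f90106 IH) (Lpn (LP (LK LD1_c1 LD2_c40 LD3_c52))))
theorem f19386 : Led Lsl_at (LP (LK LD1_c0 LD2_c46 LD3_c59)) = (LP (LK LD1_c1 LD2_c40 LD3_c52)) :=
  Lre_a IH (LK LD1_c0 LD2_c46 LD3_c59) (LK LD1_c1 LD2_c40 LD3_c52) Lrfl Lrfl
theorem f76779 : Led Lsl_ct (LP (LK LD1_c1 LD2_c40 LD3_c54)) = (LP (LK LD1_c0 LD2_c46 LD3_c59)) :=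
  Lre_c IH (LK LD1_c1 LD2_c40 LD3_c54) (LK LD1_c0 LD2_c46 LD3_c59) Lrfl Lrfl
theorem f90132 : Led Lsl_at (LP (LK LD1_c1 LD2_c29 LD3_c31)) = (LP (LK LD1_c1 LD2_c40 LD3_c54)) :=
  Lgr Lrot107 (Lpr_cf (f90127 IH) (Lpe (f19386 IH) (Lpe (f76779 IH) (Lpn (LP (LK LD1_c1 LD2_c40 LD3_c54))))))
theorem f17667 : Led Lsl_et (LP (LK LD1_c1 LD2_c40 LD3_c54)) = (LP (LK LD1_c0 LD2_c46 LD3_c58)) :=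
  Lre_e IH (LK LD1_c1 LD2_c40 LD3_c54) (LK LD1_c0 LD2_c46 LD3_c58) Lrfl Lrfl
theorem f90138 : Led Lsl_af (LP (LK LD1_c0 LD2_c41 LD3_c22)) = (LP (LK LD1_c0 LD2_c46 LD3_c58)) :=
  Lgr Lrot50 (Lpr_et (f90105 IH) (Lpr_at (f90132 IH) (Lpr_et (f17667 IH) (Lpn (LP (LK LD1_c0 LD2_c46 LD3_c58))))))
theorem f88644 : Led Lsl_df (LP (LK LD1_c0 LD2_c52 LD3_c25)) = (LP (LK LD1_c0 LD2_c46 LD3_c57)) :=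
  Lgr Lrot12 (Lpr_bt (f88639 IH) (Lpr_dt (f17498 IH) (Lpe (f19366 IH) (Lpn (LP (LK LD1_c0 LD2_c46 LD3_c57))))))
theorem f88646 : Led Lsl_dt (LP (LK LD1_c0 LD2_c52 LD3_c25)) = (LP (LK LD1_c0 LD2_c46 LD3_c57)) :=
  Lgr Lrot42 (Lpr_df (f88644 IH) (Lpn (LP (LK LD1_c0 LD2_c46 LD3_c57))))
theorem f17295 : Led Lsl_at (LP (LK LD1_c0 LD2_c52 LD3_c25)) = (LP (LK LD1_c0 LD2_c23 LD3_c43)) :=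
  Lre_a IH (LK LD1_c0 LD2_c52 LD3_c25) (LK LD1_c0 LD2_c23 LD3_c43) Lrfl Lrfl
theorem f89846 : Led Lsl_ct (LP (LK LD1_c0 LD2_c46 LD3_c35)) = (LP (LK LD1_c0 LD2_c52 LD3_c25)) :=
  Lgr Lrot111 (Lpr_af (f89841 IH) (Lpe (K0.f11520 IH) (Lpe (f17295 IH) (Lpn (LP (LK LD1_c0 LD2_c52 LD3_c25))))))
theorem f89968 : Led Lsl_dt (LP (LK LD1_c1 LD2_c40 LD3_c9)) = (LP (LK LD1_c0 LD2_c46 LD3_c35)) :=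
  Lre_d IH (LK LD1_c1 LD2_c40 LD3_c9) (LK LD1_c0 LD2_c46 LD3_c35) Lrfl Lrfl
theorem f68352 : Led Lsl_gt (LP (LK LD1_c0 LD2_c41 LD3_c23)) = (LP (LK LD1_c0 LD2_c18 LD3_c31)) :=
  Lre_g IH (LK LD1_c0 LD2_c41 LD3_c23) (LK LD1_c0 LD2_c18 LD3_c31) Lrfl Lrfl
theorem f90142 : Led Lsl_ft (LP (LK LD1_c0 LD2_c41 LD3_c23)) = (LP (LK LD1_c0 LD2_c46 LD3_c58)) :=
  Lgr Lrot2 (Lpr_gt (f68352 IH) (Lpr_gt (f66808 IH) (Lpr_af (f90138 IH) (Lpn (LP (LK LD1_c0 LD2_c46 LD3_c58))))))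
theorem f40496 : Led Lsl_bt (LP (LK LD1_c1 LD2_c38 LD3_c28)) = (LP (LK LD1_c3 LD2_c23 LD3_c55)) :=
  Lre_b IH (LK LD1_c1 LD2_c38 LD3_c28) (LK LD1_c3 LD2_c23 LD3_c55) Lrfl Lrfl
theorem f83261 : Led Lsl_bt (LP (LK LD1_c6 LD2_c23 LD3_c17)) = (LP (LK LD1_c3 LD2_c9 LD3_c21)) :=
  Lre_b IH (LK LD1_c6 LD2_c23 LD3_c17) (LK LD1_c3 LD2_c9 LD3_c21) Lrfl Lrfl
theorem f83262 : Led Lsl_dt (LP (LK LD1_c3 LD2_c23 LD3_c55)) = (LP (LK LD1_c6 LD2_c23 LD3_c17)) :=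
  Lgr Lrot79 (Lpe (f40496 IH) (Lpr_df (f83255 IH) (Lpe (f83261 IH) (Lpn (LP (LK LD1_c6 LD2_c23 LD3_c17))))))
theorem f76857 : Led Lsl_et (LP (LK LD1_c3 LD2_c23 LD3_c55)) = (LP (LK LD1_c1 LD2_c38 LD3_c13)) :=
  Lre_e IH (LK LD1_c3 LD2_c23 LD3_c55) (LK LD1_c1 LD2_c38 LD3_c13) Lrfl Lrfl
theorem f76863 : Led Lsl_gt (LP (LK LD1_c3 LD2_c23 LD3_c8)) = (LP (LK LD1_c1 LD2_c38 LD3_c13)) :=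
  Lre_g IH (LK LD1_c3 LD2_c23 LD3_c8) (LK LD1_c1 LD2_c38 LD3_c13) Lrfl Lrfl
theorem f76815 : Led Lsl_df (LP (LK LD1_c3 LD2_c23 LD3_c10)) = (LP (LK LD1_c6 LD2_c19 LD3_c1)) :=
  Lgr Lrot38 (Lpr_dt (f76800 IH) (Lpn (LP (LK LD1_c6 LD2_c19 LD3_c1))))
theorem f76837 : Led Lsl_at (LP (LK LD1_c3 LD2_c23 LD3_c10)) = (LP (LK LD1_c1 LD2_c38 LD3_c13)) :=
  Lre_a IH (LK LD1_c3 LD2_c23 LD3_c10) (LK LD1_c1 LD2_c38 LD3_c13) Lrfl Lrfl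
theorem f76838 : Led Lsl_dt (LP (LK LD1_c1 LD2_c38 LD3_c13)) = (LP (LK LD1_c3 LD2_c6 LD3_c58)) :=
  Lgr Lrot44 (Lpe (f76837 IH) (Lpr_df (f76815 IH) (Lpe (K1.f66906 IH) (Lpn (LP (LK LD1_c3 LD2_c6 LD3_c58))))))
theorem f76858 : Led Lsl_ft (LP (LK LD1_c0 LD2_c45 LD3_c30)) = (LP (LK LD1_c1 LD2_c38 LD3_c13)) :=
  Lre_f IH (LK LD1_c0 LD2_c45 LD3_c30) (LK LD1_c1 LD2_c38 LD3_c13) Lrfl Lrfl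
theorem f66921 : Led Lsl_ft (LP (LK LD1_c3 LD2_c6 LD3_c58)) = (LP (LK LD1_c1 LD2_c29 LD3_c36)) :=
  Lre_f IH (LK LD1_c3 LD2_c6 LD3_c58) (LK LD1_c1 LD2_c29 LD3_c36) Lrfl Lrfl
theorem f76859 : Led Lsl_df (LP (LK LD1_c0 LD2_c45 LD3_c30)) = (LP (LK LD1_c1 LD2_c29 LD3_c36)) :=
  Lgr Lrot78 (Lpr_ft (f76858 IH) (Lpr_dt (f76838 IH) (Lpr_ft (f66921 IH) (Lpn (LP (LK LD1_c1 LD2_c29 LD3_c36))))))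
theorem f76883 : Led Lsl_gt (LP (LK LD1_c1 LD2_c38 LD3_c12)) = (LP (LK LD1_c0 LD2_c45 LD3_c30)) :=
  Lre_g IH (LK LD1_c1 LD2_c38 LD3_c12) (LK LD1_c0 LD2_c45 LD3_c30) Lrfl Lrfl
theorem f76845 : Led Lsl_dt (LP (LK LD1_c3 LD2_c23 LD3_c53)) = (LP (LK LD1_c1 LD2_c38 LD3_c12)) :=
  Lre_d IH (LK LD1_c3 LD2_c23 LD3_c53) (LK LD1_c1 LD2_c38 LD3_c12) Lrfl Lrfl
theorem f66922 : Led Lsl_et (LP (LK LD1_c1 LD2_c29 LD3_c36)) = (LP (LK LD1_c0 LD2_c41 LD3_c25)) :=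
  Lre_e IH (LK LD1_c1 LD2_c29 LD3_c36) (LK LD1_c0 LD2_c41 LD3_c25) Lrfl Lrfl
theorem f23356 : Led Lsl_dt (LP (LK LD1_c0 LD2_c52 LD3_c0)) = (LP (LK LD1_c0 LD2_c23 LD3_c33)) :=
  Lre_d IH (LK LD1_c0 LD2_c52 LD3_c0) (LK LD1_c0 LD2_c23 LD3_c33) Lrfl Lrfl
theorem f5765 : Led Lsl_ct (LP (LK LD1_c0 LD2_c10 LD3_c34)) = (LP (LK LD1_c0 LD2_c4 LD3_c57)) :=
  Lre_c IH (LK LD1_c0 LD2_c10 LD3_c34) (LK LD1_c0 LD2_c4 LD3_c57) Lrfl Lrfl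
theorem f23348 : Led Lsl_bt (LP (LK LD1_c0 LD2_c10 LD3_c34)) = (LP (LK LD1_c0 LD2_c23 LD3_c33)) :=
  Lre_b IH (LK LD1_c0 LD2_c10 LD3_c34) (LK LD1_c0 LD2_c23 LD3_c33) Lrfl Lrfl
theorem f23349 : Led Lsl_gf (LP (LK LD1_c0 LD2_c20 LD3_c16)) = (LP (LK LD1_c0 LD2_c23 LD3_c33)) :=
  Lgr Lrot124 (Lpe (K0.f9757 IH) (Lpe (K0.f9746 IH) (Lpr_gt (K0.f13524 IH) (Lpr_cf (K0.f23329 IH) (Lpr_bt (K0.f23328 IH) (Lpr_gt (K0.f14705 IH) (Lpr_ct (K1.f14687 IH) (Lpr_gt (K1.f14692 IH) (Lpe (f5765 IH) (Lpr_bt (f23348 IH) (Lpn (LP (LK LD1_c0 LD2_c23 LD3_c33)))))))))))))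
theorem f23361 : Led Lsl_et (LP (LK LD1_c0 LD2_c45 LD3_c26)) = (LP (LK LD1_c1 LD2_c37 LD3_c60)) :=
  Lre_e IH (LK LD1_c0 LD2_c45 LD3_c26) (LK LD1_c1 LD2_c37 LD3_c60) Lrfl Lrfl
theorem f23362 : Led Lsl_gt (LP (LK LD1_c1 LD2_c37 LD3_c60)) = (LP (LK LD1_c3 LD2_c23 LD3_c8)) :=
  Lre_g IH (LK LD1_c1 LD2_c37 LD3_c60) (LK LD1_c3 LD2_c23 LD3_c8) Lrfl Lrfl
theorem f76884 : Led Lsl_et (LP (LK LD1_c3 LD2_c23 LD3_c53)) = (LP (LK LD1_c3 LD2_c23 LD3_c8)) :=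
  Lgr Lrot122 (Lpr_dt (f76845 IH) (Lpr_gt (f76883 IH) (Lpr_df (f76859 IH) (Lpr_et (f66922 IH) (Lpe (f68335 IH) (Lpr_dt (f23356 IH) (Lpe (f23349 IH) (Lpe (K1.f9783 IH) (Lpr_et (f23361 IH) (Lpr_gt (f23362 IH) (Lpn (LP (LK LD1_c3 LD2_c23 LD3_c8)))))))))))))
theorem f76825 : Led Lsl_gt (LP (LK LD1_c3 LD2_c23 LD3_c10)) = (LP (LK LD1_c1 LD2_c38 LD3_c12)) :=
  Lre_g IH (LK LD1_c3 LD2_c23 LD3_c10) (LK LD1_c1 LD2_c38 LD3_c12) Lrfl Lrfl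
theorem f66995 : Led Lsl_gt (LP (LK LD1_c3 LD2_c6 LD3_c56)) = (LP (LK LD1_c6 LD2_c19 LD3_c1)) :=
  Lre_g IH (LK LD1_c3 LD2_c6 LD3_c56) (LK LD1_c6 LD2_c19 LD3_c1) Lrfl Lrfl
theorem f68217 : Led Lsl_et (LP (LK LD1_c6 LD2_c19 LD3_c3)) = (LP (LK LD1_c3 LD2_c6 LD3_c56)) :=
  Lre_e IH (LK LD1_c6 LD2_c19 LD3_c3) (LK LD1_c3 LD2_c6 LD3_c56) Lrfl Lrfl
theorem f68218 : Led Lsl_dt (LP (LK LD1_c6 LD2_c19 LD3_c3)) = (LP (LK LD1_c12 LD2_c13 LD3_c54)) :=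
  Lre_d IH (LK LD1_c6 LD2_c19 LD3_c3) (LK LD1_c12 LD2_c13 LD3_c54) Lrfl Lrfl
theorem f83713 : Led Lsl_gf (LP (LK LD1_c12 LD2_c13 LD3_c54)) = (LP (LK LD1_c6 LD2_c23 LD3_c17)) :=
  Lgr Lrot145 (Lpe (f68218 IH) (Lpr_et (f68217 IH) (Lpr_gt (f66995 IH) (Lpe (f76815 IH) (Lpr_gt (f76825 IH) (Lpe (f76845 IH) (Lpr_et (f76884 IH) (Lpr_gt (f76863 IH) (Lpe (f76857 IH) (Lpr_dt (f83262 IH) (Lpn (LP (LK LD1_c6 LD2_c23 LD3_c17)))))))))))))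
theorem f83577 : Led Lsl_ft (LP (LK LD1_c6 LD2_c23 LD3_c17)) = (LP (LK LD1_c3 LD2_c9 LD3_c16)) :=
  Lre_f IH (LK LD1_c6 LD2_c23 LD3_c17) (LK LD1_c3 LD2_c9 LD3_c16) Lrfl Lrfl
theorem f83544 : Led Lsl_at (LP (LK LD1_c3 LD2_c9 LD3_c16)) = (LP (LK LD1_c6 LD2_c23 LD3_c9)) :=
  Lre_a IH (LK LD1_c3 LD2_c9 LD3_c16) (LK LD1_c6 LD2_c23 LD3_c9) Lrfl Lrfl
theorem f83715 : Led Lsl_gt (LP (LK LD1_c12 LD2_c13 LD3_c54)) = (LP (LK LD1_c6 LD2_c23 LD3_c9)) :=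
  Lgr Lrot46 (Lpr_gf (f83713 IH) (Lpr_ft (f83577 IH) (Lpr_at (f83544 IH) (Lpn (LP (LK LD1_c6 LD2_c23 LD3_c9))))))
theorem f76879 : Led Lsl_gt (LP (LK LD1_c1 LD2_c29 LD3_c36)) = (LP (LK LD1_c3 LD2_c6 LD3_c56)) :=
  Lre_g IH (LK LD1_c1 LD2_c29 LD3_c36) (LK LD1_c3 LD2_c6 LD3_c56) Lrfl Lrfl
theorem f66932 : Led Lsl_et (LP (LK LD1_c0 LD2_c41 LD3_c25)) = (LP (LK LD1_c1 LD2_c29 LD3_c36)) :=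
  Lre_e IH (LK LD1_c0 LD2_c41 LD3_c25) (LK LD1_c1 LD2_c29 LD3_c36) Lrfl Lrfl
theorem f83379 : Led Lsl_ff (LP (LK LD1_c6 LD2_c27 LD3_c46)) = (LP (LK LD1_c6 LD2_c23 LD3_c20)) :=
  Lgr Lrot3 (Lpr_ft (f83363 IH) (Lpn (LP (LK LD1_c6 LD2_c23 LD3_c20))))
theorem f67553 : Led Lsl_ct (LP (LK LD1_c6 LD2_c27 LD3_c46)) = (LP (LK LD1_c12 LD2_c26 LD3_c41)) :=
  Lre_c IH (LK LD1_c6 LD2_c27 LD3_c46) (LK LD1_c12 LD2_c26 LD3_c41) Lrfl Lrfl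
theorem f83359 : Led Lsl_ct (LP (LK LD1_c12 LD2_c19 LD3_c52)) = (LP (LK LD1_c6 LD2_c23 LD3_c20)) :=
  Lre_c IH (LK LD1_c12 LD2_c19 LD3_c52) (LK LD1_c6 LD2_c23 LD3_c20) Lrfl Lrfl
theorem f83386 : Led Lsl_ft (LP (LK LD1_c12 LD2_c26 LD3_c41)) = (LP (LK LD1_c12 LD2_c19 LD3_c52)) :=
  Lgr Lrot4 (Lpe (f67553 IH) (Lpr_ff (f83379 IH) (Lpe (f83359 IH) (Lpn (LP (LK LD1_c12 LD2_c19 LD3_c52))))))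
theorem f68091 : Led Lsl_at (LP (LK LD1_c6 LD2_c27 LD3_c38)) = (LP (LK LD1_c12 LD2_c26 LD3_c41)) :=
  Lre_a IH (LK LD1_c6 LD2_c27 LD3_c38) (LK LD1_c12 LD2_c26 LD3_c41) Lrfl Lrfl
theorem f83401 : Led Lsl_at (LP (LK LD1_c12 LD2_c19 LD3_c52)) = (LP (LK LD1_c6 LD2_c23 LD3_c12)) :=
  Lre_a IH (LK LD1_c12 LD2_c19 LD3_c52) (LK LD1_c6 LD2_c23 LD3_c12) Lrfl Lrfl
theorem f83402 : Led Lsl_ff (LP (LK LD1_c6 LD2_c27 LD3_c38)) = (LP (LK LD1_c6 LD2_c23 LD3_c12)) :=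
  Lgr Lrot30 (Lpr_at (f68091 IH) (Lpr_ft (f83386 IH) (Lpr_at (f83401 IH) (Lpn (LP (LK LD1_c6 LD2_c23 LD3_c12))))))
theorem f83418 : Led Lsl_ft (LP (LK LD1_c6 LD2_c27 LD3_c38)) = (LP (LK LD1_c6 LD2_c23 LD3_c12)) :=
  Lgr Lrot48 (Lpr_ff (f83402 IH) (Lpn (LP (LK LD1_c6 LD2_c23 LD3_c12))))
theorem f67932 : Led Lsl_dt (LP (LK LD1_c12 LD2_c26 LD3_c42)) = (LP (LK LD1_c6 LD2_c27 LD3_c38)) :=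
  Lre_d IH (LK LD1_c12 LD2_c26 LD3_c42) (LK LD1_c6 LD2_c27 LD3_c38) Lrfl Lrfl
theorem f83423 : Led Lsl_dt (LP (LK LD1_c6 LD2_c23 LD3_c12)) = (LP (LK LD1_c12 LD2_c19 LD3_c53)) :=
  Lre_d IH (LK LD1_c6 LD2_c23 LD3_c12) (LK LD1_c12 LD2_c19 LD3_c53) Lrfl Lrfl
theorem f83430 : Led Lsl_ff (LP (LK LD1_c12 LD2_c26 LD3_c42)) = (LP (LK LD1_c12 LD2_c19 LD3_c53)) :=
  Lgr Lrot19 (Lpr_dt (f67932 IH) (Lpr_ft (f83418 IH) (Lpr_dt (f83423 IH) (Lpn (LP (LK LD1_c12 LD2_c19 LD3_c53))))))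
theorem f68117 : Led Lsl_bt (LP (LK LD1_c12 LD2_c26 LD3_c42)) = (LP (LK LD1_c6 LD2_c27 LD3_c39)) :=
  Lre_b IH (LK LD1_c12 LD2_c26 LD3_c42) (LK LD1_c6 LD2_c27 LD3_c39) Lrfl Lrfl
theorem f83441 : Led Lsl_bt (LP (LK LD1_c6 LD2_c23 LD3_c13)) = (LP (LK LD1_c12 LD2_c19 LD3_c53)) :=
  Lre_b IH (LK LD1_c6 LD2_c23 LD3_c13) (LK LD1_c12 LD2_c19 LD3_c53) Lrfl Lrfl
theorem f83442 : Led Lsl_ft (LP (LK LD1_c6 LD2_c27 LD3_c39)) = (LP (LK LD1_c6 LD2_c23 LD3_c13)) :=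
  Lgr Lrot75 (Lpe (f68117 IH) (Lpr_ff (f83430 IH) (Lpe (f83441 IH) (Lpn (LP (LK LD1_c6 LD2_c23 LD3_c13))))))
theorem f83452 : Led Lsl_ff (LP (LK LD1_c6 LD2_c27 LD3_c39)) = (LP (LK LD1_c6 LD2_c23 LD3_c13)) :=
  Lgr Lrot3 (Lpr_ft (f83442 IH) (Lpn (LP (LK LD1_c6 LD2_c23 LD3_c13))))
theorem f18115 : Led Lsl_dt (LP (LK LD1_c7 LD2_c5 LD3_c17)) = (LP (LK LD1_c3 LD2_c31 LD3_c53)) :=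
  Lre_d IH (LK LD1_c7 LD2_c5 LD3_c17) (LK LD1_c3 LD2_c31 LD3_c53) Lrfl Lrfl
theorem f17177 : Led Lsl_dt (LP (LK LD1_c3 LD2_c25 LD3_c23)) = (LP (LK LD1_c6 LD2_c52 LD3_c60)) :=
  Lre_d IH (LK LD1_c3 LD2_c25 LD3_c23) (LK LD1_c6 LD2_c52 LD3_c60) Lrfl Lrfl
theorem f19190 : Led Lsl_ff (LP (LK LD1_c7 LD2_c5 LD3_c17)) = (LP (LK LD1_c6 LD2_c52 LD3_c60)) :=
  Lgr Lrot19 (Lpr_dt (f18115 IH) (Lpr_ft (f19182 IH) (Lpr_dt (f17177 IH) (Lpn (LP (LK LD1_c6 LD2_c52 LD3_c60))))))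
theorem f83462 : Led Lsl_ct (LP (LK LD1_c7 LD2_c5 LD3_c17)) = (LP (LK LD1_c6 LD2_c23 LD3_c13)) :=
  Lgr Lrot40 (Lpr_ff (f19190 IH) (Lpr_cf (f68113 IH) (Lpr_ff (f83452 IH) (Lpn (LP (LK LD1_c6 LD2_c23 LD3_c13))))))
theorem f19172 : Led Lsl_dt (LP (LK LD1_c3 LD2_c31 LD3_c53)) = (LP (LK LD1_c7 LD2_c5 LD3_c17)) :=
  Lre_d IH (LK LD1_c3 LD2_c31 LD3_c53) (LK LD1_c7 LD2_c5 LD3_c17) Lrfl Lrfl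
theorem f83450 : Led Lsl_dt (LP (LK LD1_c6 LD2_c23 LD3_c13)) = (LP (LK LD1_c3 LD2_c9 LD3_c15)) :=
  Lre_d IH (LK LD1_c6 LD2_c23 LD3_c13) (LK LD1_c3 LD2_c9 LD3_c15) Lrfl Lrfl
theorem f83466 : Led Lsl_ct (LP (LK LD1_c3 LD2_c9 LD3_c15)) = (LP (LK LD1_c1 LD2_c30 LD3_c47)) :=
  Lre_c IH (LK LD1_c3 LD2_c9 LD3_c15) (LK LD1_c1 LD2_c30 LD3_c47) Lrfl Lrfl
theorem f83469 : Led Lsl_at (LP (LK LD1_c3 LD2_c9 LD3_c14)) = (LP (LK LD1_c1 LD2_c30 LD3_c47)) :=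
  Lre_a IH (LK LD1_c3 LD2_c9 LD3_c14) (LK LD1_c1 LD2_c30 LD3_c47) Lrfl Lrfl
theorem f83470 : Led Lsl_ft (LP (LK LD1_c3 LD2_c11 LD3_c39)) = (LP (LK LD1_c3 LD2_c9 LD3_c14)) :=
  Lgr Lrot142 (Lpr_dt (f68014 IH) (Lpe (f68151 IH) (Lpr_dt (f18091 IH) (Lpr_ct (f18111 IH) (Lpr_dt (f19172 IH) (Lpr_ct (f83462 IH) (Lpr_dt (f83450 IH) (Lpr_ct (f83466 IH) (Lpe (f83469 IH) (Lpn (LP (LK LD1_c3 LD2_c9 LD3_c14))))))))))))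
theorem f83487 : Led Lsl_ff (LP (LK LD1_c3 LD2_c11 LD3_c39)) = (LP (LK LD1_c3 LD2_c9 LD3_c14)) :=
  Lgr Lrot3 (Lpr_ft (f83470 IH) (Lpn (LP (LK LD1_c3 LD2_c9 LD3_c14))))
theorem f68015 : Led Lsl_et (LP (LK LD1_c3 LD2_c11 LD3_c39)) = (LP (LK LD1_c6 LD2_c27 LD3_c30)) :=
  Lre_e IH (LK LD1_c3 LD2_c11 LD3_c39) (LK LD1_c6 LD2_c27 LD3_c30) Lrfl Lrfl
theorem f83499 : Led Lsl_et (LP (LK LD1_c6 LD2_c23 LD3_c9)) = (LP (LK LD1_c3 LD2_c9 LD3_c14)) :=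
  Lre_e IH (LK LD1_c6 LD2_c23 LD3_c9) (LK LD1_c3 LD2_c9 LD3_c14) Lrfl Lrfl
theorem f83500 : Led Lsl_ft (LP (LK LD1_c12 LD2_c19 LD3_c47)) = (LP (LK LD1_c6 LD2_c23 LD3_c9)) :=
  Lre_f IH (LK LD1_c12 LD2_c19 LD3_c47) (LK LD1_c6 LD2_c23 LD3_c9) Lrfl Lrfl
theorem f83501 : Led Lsl_et (LP (LK LD1_c12 LD2_c26 LD3_c33)) = (LP (LK LD1_c12 LD2_c19 LD3_c47)) :=
  Lgr Lrot69 (Lpe (f68062 IH) (Lpe (f68015 IH) (Lpr_ff (f83487 IH) (Lpe (f83499 IH) (Lpe (f83500 IH) (Lpn (LP (LK LD1_c12 LD2_c19 LD3_c47))))))))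
theorem f76817 : Led Lsl_et (LP (LK LD1_c6 LD2_c49 LD3_c18)) = (LP (LK LD1_c3 LD2_c23 LD3_c10)) :=
  Lre_e IH (LK LD1_c6 LD2_c49 LD3_c18) (LK LD1_c3 LD2_c23 LD3_c10) Lrfl Lrfl
theorem f83509 : Led Lsl_df (LP (LK LD1_c6 LD2_c49 LD3_c18)) = (LP (LK LD1_c12 LD2_c19 LD3_c47)) :=
  Lgr Lrot70 (Lpr_et (f76817 IH) (Lpr_dt (f76800 IH) (Lpr_et (K1.f66904 IH) (Lpr_dt (f68187 IH) (Lpr_et (f83501 IH) (Lpn (LP (LK LD1_c12 LD2_c19 LD3_c47))))))))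
theorem f77335 : Led Lsl_ft (LP (LK LD1_c6 LD2_c49 LD3_c18)) = (LP (LK LD1_c3 LD2_c22 LD3_c53)) :=
  Lre_f IH (LK LD1_c6 LD2_c49 LD3_c18) (LK LD1_c3 LD2_c22 LD3_c53) Lrfl Lrfl
theorem f83484 : Led Lsl_ft (LP (LK LD1_c6 LD2_c23 LD3_c9)) = (LP (LK LD1_c12 LD2_c19 LD3_c47)) :=
  Lre_f IH (LK LD1_c6 LD2_c23 LD3_c9) (LK LD1_c12 LD2_c19 LD3_c47) Lrfl Lrfl
theorem f83517 : Led Lsl_dt (LP (LK LD1_c3 LD2_c22 LD3_c53)) = (LP (LK LD1_c6 LD2_c23 LD3_c9)) :=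
  Lgr Lrot60 (Lpe (f77335 IH) (Lpr_df (f83509 IH) (Lpe (f83484 IH) (Lpn (LP (LK LD1_c6 LD2_c23 LD3_c9))))))
theorem f77341 : Led Lsl_et (LP (LK LD1_c3 LD2_c22 LD3_c53)) = (LP (LK LD1_c1 LD2_c37 LD3_c48)) :=
  Lre_e IH (LK LD1_c3 LD2_c22 LD3_c53) (LK LD1_c1 LD2_c37 LD3_c48) Lrfl Lrfl
theorem f77319 : Led Lsl_gt (LP (LK LD1_c1 LD2_c37 LD3_c48)) = (LP (LK LD1_c0 LD2_c45 LD3_c28)) :=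
  Lre_g IH (LK LD1_c1 LD2_c37 LD3_c48) (LK LD1_c0 LD2_c45 LD3_c28) Lrfl Lrfl
theorem f83720 : Led Lsl_df (LP (LK LD1_c0 LD2_c41 LD3_c23)) = (LP (LK LD1_c0 LD2_c45 LD3_c28)) :=
  Lgr Lrot135 (Lpr_gt (f68352 IH) (Lpe (f66803 IH) (Lpr_et (f66932 IH) (Lpr_gt (f76879 IH) (Lpe (f68217 IH) (Lpr_dt (f68218 IH) (Lpr_gt (f83715 IH) (Lpe (f83517 IH) (Lpr_et (f77341 IH) (Lpr_gt (f77319 IH) (Lpn (LP (LK LD1_c0 LD2_c45 LD3_c28)))))))))))))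
theorem f83727 : Led Lsl_dt (LP (LK LD1_c0 LD2_c41 LD3_c23)) = (LP (LK LD1_c0 LD2_c45 LD3_c28)) :=
  Lgr Lrot42 (Lpr_df (f83720 IH) (Lpn (LP (LK LD1_c0 LD2_c45 LD3_c28))))
theorem f77324 : Led Lsl_ct (LP (LK LD1_c0 LD2_c45 LD3_c28)) = (LP (LK LD1_c1 LD2_c38 LD3_c3)) :=
  Lre_c IH (LK LD1_c0 LD2_c45 LD3_c28) (LK LD1_c1 LD2_c38 LD3_c3) Lrfl Lrfl
theorem f83914 : Led Lsl_dt (LP (LK LD1_c1 LD2_c38 LD3_c3)) = (LP (LK LD1_c3 LD2_c23 LD3_c23)) :=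
  Lre_d IH (LK LD1_c1 LD2_c38 LD3_c3) (LK LD1_c3 LD2_c23 LD3_c23) Lrfl Lrfl
theorem f90144 : Led Lsl_cf (LP (LK LD1_c1 LD2_c40 LD3_c9)) = (LP (LK LD1_c3 LD2_c23 LD3_c23)) :=
  Lgr Lrot116 (Lpr_dt (f89968 IH) (Lpr_ct (f89846 IH) (Lpr_dt (f88646 IH) (Lpe (f90094 IH) (Lpr_af (f90138 IH) (Lpe (f90142 IH) (Lpr_dt (f83727 IH) (Lpr_ct (f77324 IH) (Lpr_dt (f83914 IH) (Lpn (LP (LK LD1_c3 LD2_c23 LD3_c23))))))))))))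
theorem f90147 : Led Lsl_ct (LP (LK LD1_c1 LD2_c40 LD3_c9)) = (LP (LK LD1_c3 LD2_c23 LD3_c23)) :=
  Lgr Lrot59 (Lpr_cf (f90144 IH) (Lpn (LP (LK LD1_c3 LD2_c23 LD3_c23))))
theorem f89848 : Led Lsl_dt (LP (LK LD1_c0 LD2_c46 LD3_c35)) = (LP (LK LD1_c1 LD2_c40 LD3_c9)) :=
  Lre_d IH (LK LD1_c0 LD2_c46 LD3_c35) (LK LD1_c1 LD2_c40 LD3_c9) Lrfl Lrfl
theorem f84677 : Led Lsl_ft (LP (LK LD1_c0 LD2_c46 LD3_c57)) = (LP (LK LD1_c1 LD2_c39 LD3_c12)) :=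
  Lgr Lrot48 (Lpr_ff (f84673 IH) (Lpn (LP (LK LD1_c1 LD2_c39 LD3_c12))))
theorem f84667 : Led Lsl_af (LP (LK LD1_c0 LD2_c46 LD3_c60)) = (LP (LK LD1_c1 LD2_c39 LD3_c12)) :=
  Lgr Lrot0 (Lpr_at (f84657 IH) (Lpn (LP (LK LD1_c1 LD2_c39 LD3_c12))))
theorem f83726 : Led Lsl_dt (LP (LK LD1_c3 LD2_c23 LD3_c23)) = (LP (LK LD1_c1 LD2_c38 LD3_c3)) :=
  Lre_d IH (LK LD1_c3 LD2_c23 LD3_c23) (LK LD1_c1 LD2_c38 LD3_c3) Lrfl Lrfl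
theorem f83725 : Led Lsl_ct (LP (LK LD1_c1 LD2_c38 LD3_c3)) = (LP (LK LD1_c0 LD2_c45 LD3_c28)) :=
  Lre_c IH (LK LD1_c1 LD2_c38 LD3_c3) (LK LD1_c0 LD2_c45 LD3_c28) Lrfl Lrfl
theorem f90173 : Led Lsl_cf (LP (LK LD1_c0 LD2_c46 LD3_c60)) = (LP (LK LD1_c0 LD2_c41 LD3_c23)) :=
  Lgr Lrot102 (Lpr_af (f84667 IH) (Lpe (f84677 IH) (Lpe (f88644 IH) (Lpe (f90056 IH) (Lpr_dt (f89848 IH) (Lpr_ct (f90147 IH) (Lpr_dt (f83726 IH) (Lpr_ct (f83725 IH) (Lpe (f83720 IH) (Lpn (LP (LK LD1_c0 LD2_c41 LD3_c23))))))))))))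
theorem f88850 : Led Lsl_ft (LP (LK LD1_c0 LD2_c46 LD3_c60)) = (LP (LK LD1_c0 LD2_c21 LD3_c2)) :=
  Lre_f IH (LK LD1_c0 LD2_c46 LD3_c60) (LK LD1_c0 LD2_c21 LD3_c2) Lrfl Lrfl
theorem f90184 : Led Lsl_ft (LP (LK LD1_c0 LD2_c46 LD3_c58)) = (LP (LK LD1_c0 LD2_c41 LD3_c23)) :=
  Lgr Lrot4 (Lpe (K1.f9935 IH) (Lpe (f88850 IH) (Lpr_cf (f90173 IH) (Lpn (LP (LK LD1_c0 LD2_c41 LD3_c23))))))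
theorem f83722 : Led Lsl_bt (LP (LK LD1_c0 LD2_c41 LD3_c23)) = (LP (LK LD1_c1 LD2_c29 LD3_c32)) :=
  Lre_b IH (LK LD1_c0 LD2_c41 LD3_c23) (LK LD1_c1 LD2_c29 LD3_c32) Lrfl Lrfl
theorem f90188 : Led Lsl_ff (LP (LK LD1_c1 LD2_c40 LD3_c53)) = (LP (LK LD1_c1 LD2_c29 LD3_c32)) :=
  Lgr Lrot25 (Lpr_bt (f17662 IH) (Lpr_ft (f90184 IH) (Lpr_bt (f83722 IH) (Lpn (LP (LK LD1_c1 LD2_c29 LD3_c32))))))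
theorem f90190 : Led Lsl_ft (LP (LK LD1_c1 LD2_c40 LD3_c53)) = (LP (LK LD1_c1 LD2_c29 LD3_c32)) :=
  Lgr Lrot48 (Lpr_ff (f90188 IH) (Lpn (LP (LK LD1_c1 LD2_c29 LD3_c32))))
theorem f17663 : Led Lsl_ct (LP (LK LD1_c0 LD2_c47 LD3_c1)) = (LP (LK LD1_c1 LD2_c40 LD3_c53)) :=
  Lre_c IH (LK LD1_c0 LD2_c47 LD3_c1) (LK LD1_c1 LD2_c40 LD3_c53) Lrfl Lrfl
theorem f88767 : Led Lsl_ft (LP (LK LD1_c1 LD2_c41 LD3_c1)) = (LP (LK LD1_c0 LD2_c47 LD3_c1)) :=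
  Lre_f IH (LK LD1_c1 LD2_c41 LD3_c1) (LK LD1_c0 LD2_c47 LD3_c1) Lrfl Lrfl
theorem f90194 : Led Lsl_cf (LP (LK LD1_c1 LD2_c41 LD3_c1)) = (LP (LK LD1_c1 LD2_c29 LD3_c32)) :=
  Lgr Lrot108 (Lpr_ft (f88767 IH) (Lpr_ct (f17663 IH) (Lpr_ft (f90190 IH) (Lpn (LP (LK LD1_c1 LD2_c29 LD3_c32))))))
theorem f62190 : Led Lsl_ft (LP (LK LD1_c0 LD2_c9 LD3_c33)) = (LP (LK LD1_c0 LD2_c21 LD3_c1)) :=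
  Lre_f IH (LK LD1_c0 LD2_c9 LD3_c33) (LK LD1_c0 LD2_c21 LD3_c1) Lrfl Lrfl
theorem f88462 : Led Lsl_df (LP (LK LD1_c0 LD2_c23 LD3_c39)) = (LP (LK LD1_c0 LD2_c21 LD3_c1)) :=
  Lgr Lrot78 (Lpr_ft (f87923 IH) (Lpr_dt (f64909 IH) (Lpr_ft (f62190 IH) (Lpn (LP (LK LD1_c0 LD2_c21 LD3_c1))))))
theorem f63847 : Led Lsl_gt (LP (LK LD1_c0 LD2_c23 LD3_c39)) = (LP (LK LD1_c0 LD2_c10 LD3_c42)) :=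
  Lre_g IH (LK LD1_c0 LD2_c23 LD3_c39) (LK LD1_c0 LD2_c10 LD3_c42) Lrfl Lrfl
theorem f12063 : Led Lsl_dt (LP (LK LD1_c0 LD2_c4 LD3_c60)) = (LP (LK LD1_c0 LD2_c10 LD3_c42)) :=
  Lre_d IH (LK LD1_c0 LD2_c4 LD3_c60) (LK LD1_c0 LD2_c10 LD3_c42) Lrfl Lrfl
theorem f87624 : Led Lsl_et (LP (LK LD1_c0 LD2_c4 LD3_c60)) = (LP (LK LD1_c0 LD2_c10 LD3_c43)) :=
  Lre_e IH (LK LD1_c0 LD2_c4 LD3_c60) (LK LD1_c0 LD2_c10 LD3_c43) Lrfl Lrfl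
theorem f7426 : Led Lsl_gt (LP (LK LD1_c0 LD2_c10 LD3_c43)) = (LP (LK LD1_c0 LD2_c23 LD3_c59)) :=
  Lre_g IH (LK LD1_c0 LD2_c10 LD3_c43) (LK LD1_c0 LD2_c23 LD3_c59) Lrfl Lrfl
theorem f88650 : Led Lsl_ef (LP (LK LD1_c0 LD2_c23 LD3_c59)) = (LP (LK LD1_c0 LD2_c21 LD3_c5)) :=
  Lgr Lrot17 (Lpe (f7426 IH) (Lpe (f87624 IH) (Lpr_dt (f12063 IH) (Lpe (f63847 IH) (Lpr_df (f88462 IH) (Lpr_gf (f87569 IH) (Lpe (f87607 IH) (Lpr_dt (f65008 IH) (Lpe (f11978 IH) (Lpr_df (f87608 IH) (Lpn (LP (LK LD1_c0 LD2_c21 LD3_c5)))))))))))))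
theorem f88659 : Led Lsl_et (LP (LK LD1_c0 LD2_c23 LD3_c59)) = (LP (LK LD1_c0 LD2_c21 LD3_c5)) :=
  Lgr Lrot87 (Lpr_ef (f88650 IH) (Lpn (LP (LK LD1_c0 LD2_c21 LD3_c5))))
theorem f18008 : Led Lsl_ct (LP (LK LD1_c0 LD2_c53 LD3_c18)) = (LP (LK LD1_c0 LD2_c23 LD3_c59)) :=
  Lre_c IH (LK LD1_c0 LD2_c53 LD3_c18) (LK LD1_c0 LD2_c23 LD3_c59) Lrfl Lrfl
theorem f87662 : Led Lsl_ct (LP (LK LD1_c0 LD2_c21 LD3_c5)) = (LP (LK LD1_c0 LD2_c47 LD3_c4)) :=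
  Lre_c IH (LK LD1_c0 LD2_c21 LD3_c5) (LK LD1_c0 LD2_c47 LD3_c4) Lrfl Lrfl
theorem f88666 : Led Lsl_ef (LP (LK LD1_c0 LD2_c53 LD3_c18)) = (LP (LK LD1_c0 LD2_c47 LD3_c4)) :=
  Lgr Lrot28 (Lpr_ct (f18008 IH) (Lpr_et (f88659 IH) (Lpr_ct (f87662 IH) (Lpn (LP (LK LD1_c0 LD2_c47 LD3_c4))))))
theorem f58173 : Led Lsl_bt (LP (LK LD1_c0 LD2_c53 LD3_c18)) = (LP (LK LD1_c1 LD2_c53 LD3_c24)) :=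
  Lre_b IH (LK LD1_c0 LD2_c53 LD3_c18) (LK LD1_c1 LD2_c53 LD3_c24) Lrfl Lrfl
theorem f88673 : Led Lsl_bt (LP (LK LD1_c1 LD2_c41 LD3_c1)) = (LP (LK LD1_c0 LD2_c47 LD3_c4)) :=
  Lre_b IH (LK LD1_c1 LD2_c41 LD3_c1) (LK LD1_c0 LD2_c47 LD3_c4) Lrfl Lrfl
theorem f88674 : Led Lsl_et (LP (LK LD1_c1 LD2_c53 LD3_c24)) = (LP (LK LD1_c1 LD2_c41 LD3_c1)) :=
  Lgr Lrot74 (Lpe (f58173 IH) (Lpr_ef (f88666 IH) (Lpe (f88673 IH) (Lpn (LP (LK LD1_c1 LD2_c41 LD3_c1))))))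
theorem f88765 : Led Lsl_ef (LP (LK LD1_c1 LD2_c53 LD3_c24)) = (LP (LK LD1_c1 LD2_c41 LD3_c1)) :=
  Lgr Lrot88 (Lpr_et (f88674 IH) (Lpn (LP (LK LD1_c1 LD2_c41 LD3_c1))))
theorem f83912 : Led Lsl_et (LP (LK LD1_c3 LD2_c6 LD3_c50)) = (LP (LK LD1_c1 LD2_c29 LD3_c32)) :=
  Lre_e IH (LK LD1_c3 LD2_c6 LD3_c50) (LK LD1_c1 LD2_c29 LD3_c32) Lrfl Lrfl
theorem f90196 : Led Lsl_ct (LP (LK LD1_c1 LD2_c53 LD3_c24)) = (LP (LK LD1_c3 LD2_c6 LD3_c50)) :=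
  Lgr Lrot15 (Lpr_ef (f88765 IH) (Lpr_cf (f90194 IH) (Lpe (f83912 IH) (Lpn (LP (LK LD1_c3 LD2_c6 LD3_c50))))))
theorem f10993 : Led Lsl_ct (LP (LK LD1_c0 LD2_c23 LD3_c59)) = (LP (LK LD1_c0 LD2_c53 LD3_c18)) :=
  Lre_c IH (LK LD1_c0 LD2_c23 LD3_c59) (LK LD1_c0 LD2_c53 LD3_c18) Lrfl Lrfl
theorem f10991 : Led Lsl_bt (LP (LK LD1_c0 LD2_c53 LD3_c17)) = (LP (LK LD1_c0 LD2_c23 LD3_c59)) :=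
  Lre_b IH (LK LD1_c0 LD2_c53 LD3_c17) (LK LD1_c0 LD2_c23 LD3_c59) Lrfl Lrfl
theorem f90198 : Led Lsl_bt (LP (LK LD1_c3 LD2_c6 LD3_c50)) = (LP (LK LD1_c1 LD2_c29 LD3_c33)) :=
  Lre_b IH (LK LD1_c3 LD2_c6 LD3_c50) (LK LD1_c1 LD2_c29 LD3_c33) Lrfl Lrfl
theorem f90199 : Led Lsl_cf (LP (LK LD1_c0 LD2_c53 LD3_c17)) = (LP (LK LD1_c1 LD2_c29 LD3_c33)) :=
  Lgr Lrot97 (Lpr_bt (f10991 IH) (Lpr_ct (f10993 IH) (Lpr_bt (f58173 IH) (Lpr_ct (f90196 IH) (Lpr_bt (f90198 IH) (Lpn (LP (LK LD1_c1 LD2_c29 LD3_c33))))))))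
theorem f64292 : Led Lsl_at (LP (LK LD1_c0 LD2_c21 LD3_c5)) = (LP (LK LD1_c0 LD2_c9 LD3_c33)) :=
  Lre_a IH (LK LD1_c0 LD2_c21 LD3_c5) (LK LD1_c0 LD2_c9 LD3_c33) Lrfl Lrfl
theorem f88662 : Led Lsl_af (LP (LK LD1_c0 LD2_c23 LD3_c59)) = (LP (LK LD1_c0 LD2_c21 LD3_c8)) :=
  Lgr Lrot50 (Lpr_et (f88659 IH) (Lpr_at (f64292 IH) (Lpr_et (f84984 IH) (Lpn (LP (LK LD1_c0 LD2_c21 LD3_c8))))))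
theorem f10008 : Led Lsl_gt (LP (LK LD1_c0 LD2_c23 LD3_c60)) = (LP (LK LD1_c0 LD2_c10 LD3_c43)) :=
  Lre_g IH (LK LD1_c0 LD2_c23 LD3_c60) (LK LD1_c0 LD2_c10 LD3_c43) Lrfl Lrfl
theorem f88775 : Led Lsl_ft (LP (LK LD1_c0 LD2_c23 LD3_c60)) = (LP (LK LD1_c0 LD2_c21 LD3_c8)) :=
  Lgr Lrot2 (Lpr_gt (f10008 IH) (Lpr_gt (f7426 IH) (Lpr_af (f88662 IH) (Lpn (LP (LK LD1_c0 LD2_c21 LD3_c8))))))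
theorem f88782 : Led Lsl_ff (LP (LK LD1_c0 LD2_c23 LD3_c60)) = (LP (LK LD1_c0 LD2_c21 LD3_c8)) :=
  Lgr Lrot3 (Lpr_ft (f88775 IH) (Lpn (LP (LK LD1_c0 LD2_c21 LD3_c8))))
theorem f7408 : Led Lsl_gt (LP (LK LD1_c0 LD2_c21 LD3_c15)) = (LP (LK LD1_c0 LD2_c47 LD3_c32)) :=
  Lre_g IH (LK LD1_c0 LD2_c21 LD3_c15) (LK LD1_c0 LD2_c47 LD3_c32) Lrfl Lrfl
theorem f88788 : Led Lsl_at (LP (LK LD1_c0 LD2_c23 LD3_c60)) = (LP (LK LD1_c0 LD2_c47 LD3_c32)) :=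
  Lgr Lrot26 (Lpr_ff (f88782 IH) (Lpr_gt (f84990 IH) (Lpr_gt (f7408 IH) (Lpn (LP (LK LD1_c0 LD2_c47 LD3_c32))))))
theorem f64301 : Led Lsl_et (LP (LK LD1_c0 LD2_c21 LD3_c8)) = (LP (LK LD1_c0 LD2_c9 LD3_c33)) :=
  Lre_e IH (LK LD1_c0 LD2_c21 LD3_c8) (LK LD1_c0 LD2_c9 LD3_c33) Lrfl Lrfl
theorem f88653 : Led Lsl_at (LP (LK LD1_c0 LD2_c23 LD3_c59)) = (LP (LK LD1_c0 LD2_c21 LD3_c8)) :=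
  Lgr Lrot80 (Lpr_ef (f88650 IH) (Lpe (f84670 IH) (Lpe (f64301 IH) (Lpn (LP (LK LD1_c0 LD2_c21 LD3_c8))))))
theorem f88796 : Led Lsl_ff (LP (LK LD1_c0 LD2_c23 LD3_c59)) = (LP (LK LD1_c0 LD2_c47 LD3_c32)) :=
  Lgr Lrot30 (Lpr_at (f88653 IH) (Lpe (f88782 IH) (Lpr_at (f88788 IH) (Lpn (LP (LK LD1_c0 LD2_c47 LD3_c32))))))
theorem f18016 : Led Lsl_bt (LP (LK LD1_c0 LD2_c23 LD3_c59)) = (LP (LK LD1_c0 LD2_c53 LD3_c17)) :=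
  Lre_b IH (LK LD1_c0 LD2_c23 LD3_c59) (LK LD1_c0 LD2_c53 LD3_c17) Lrfl Lrfl
theorem f11934 : Led Lsl_bt (LP (LK LD1_c1 LD2_c42 LD3_c4)) = (LP (LK LD1_c0 LD2_c47 LD3_c32)) :=
  Lre_b IH (LK LD1_c1 LD2_c42 LD3_c4) (LK LD1_c0 LD2_c47 LD3_c32) Lrfl Lrfl
theorem f88798 : Led Lsl_ft (LP (LK LD1_c0 LD2_c53 LD3_c17)) = (LP (LK LD1_c1 LD2_c42 LD3_c4)) :=
  Lgr Lrot75 (Lpe (f18016 IH) (Lpr_ff (f88796 IH) (Lpe (f11934 IH) (Lpn (LP (LK LD1_c1 LD2_c42 LD3_c4))))))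
theorem f11932 : Led Lsl_ct (LP (LK LD1_c0 LD2_c20 LD3_c57)) = (LP (LK LD1_c0 LD2_c45 LD3_c32)) :=
  Lre_c IH (LK LD1_c0 LD2_c20 LD3_c57) (LK LD1_c0 LD2_c45 LD3_c32) Lrfl Lrfl
theorem f11933 : Led Lsl_gt (LP (LK LD1_c1 LD2_c38 LD3_c16)) = (LP (LK LD1_c0 LD2_c45 LD3_c32)) :=
  Lre_g IH (LK LD1_c1 LD2_c38 LD3_c16) (LK LD1_c0 LD2_c45 LD3_c32) Lrfl Lrfl
theorem f7407 : Led Lsl_bt (LP (LK LD1_c0 LD2_c9 LD3_c40)) = (LP (LK LD1_c0 LD2_c21 LD3_c15)) :=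
  Lre_b IH (LK LD1_c0 LD2_c9 LD3_c40) (LK LD1_c0 LD2_c21 LD3_c15) Lrfl Lrfl
theorem f11935 : Led Lsl_cf (LP (LK LD1_c1 LD2_c38 LD3_c16)) = (LP (LK LD1_c1 LD2_c42 LD3_c4)) :=
  Lgr Lrot160 (Lpr_gt (f11933 IH) (Lpe (f11932 IH) (Lpr_bt (K0.f9817 IH) (Lpr_gt (K0.f11929 IH) (Lpr_ct (K0.f9960 IH) (Lpe (K0.f10996 IH) (Lpe (K0.f7398 IH) (Lpr_bt (f7407 IH) (Lpr_gt (f7408 IH) (Lpe (f11934 IH) (Lpn (LP (LK LD1_c1 LD2_c42 LD3_c4)))))))))))))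
theorem f90206 : Led Lsl_ft (LP (LK LD1_c1 LD2_c38 LD3_c16)) = (LP (LK LD1_c1 LD2_c29 LD3_c33)) :=
  Lgr Lrot4 (Lpr_cf (f11935 IH) (Lpe (f88798 IH) (Lpr_cf (f90199 IH) (Lpn (LP (LK LD1_c1 LD2_c29 LD3_c33))))))
theorem f7329 : Led Lsl_gt (LP (LK LD1_c0 LD2_c45 LD3_c32)) = (LP (LK LD1_c1 LD2_c38 LD3_c15)) :=
  Lre_g IH (LK LD1_c0 LD2_c45 LD3_c32) (LK LD1_c1 LD2_c38 LD3_c15) Lrfl Lrfl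
theorem f90212 : Led Lsl_af (LP (LK LD1_c1 LD2_c38 LD3_c15)) = (LP (LK LD1_c1 LD2_c29 LD3_c33)) :=
  Lgr Lrot31 (Lpe (f7329 IH) (Lpe (f11933 IH) (Lpr_ft (f90206 IH) (Lpn (LP (LK LD1_c1 LD2_c29 LD3_c33))))))
theorem f83729 : Led Lsl_et (LP (LK LD1_c0 LD2_c41 LD3_c23)) = (LP (LK LD1_c1 LD2_c29 LD3_c33)) :=
  Lre_e IH (LK LD1_c0 LD2_c41 LD3_c23) (LK LD1_c1 LD2_c29 LD3_c33) Lrfl Lrfl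
theorem f90176 : Led Lsl_at (LP (LK LD1_c0 LD2_c47 LD3_c10)) = (LP (LK LD1_c0 LD2_c41 LD3_c23)) :=
  Lgr Lrot107 (Lpr_cf (f84685 IH) (Lpe (f84657 IH) (Lpr_cf (f90173 IH) (Lpn (LP (LK LD1_c0 LD2_c41 LD3_c23))))))
theorem f90218 : Led Lsl_et (LP (LK LD1_c1 LD2_c38 LD3_c15)) = (LP (LK LD1_c0 LD2_c47 LD3_c10)) :=
  Lgr Lrot123 (Lpr_af (f90212 IH) (Lpe (f83729 IH) (Lpe (f90176 IH) (Lpn (LP (LK LD1_c0 LD2_c47 LD3_c10))))))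
theorem f90224 : Led Lsl_ef (LP (LK LD1_c1 LD2_c38 LD3_c15)) = (LP (LK LD1_c0 LD2_c47 LD3_c10)) :=
  Lgr Lrot88 (Lpr_et (f90218 IH) (Lpn (LP (LK LD1_c0 LD2_c47 LD3_c10))))
theorem f66637 : Led Lsl_et (LP (LK LD1_c0 LD2_c20 LD3_c18)) = (LP (LK LD1_c0 LD2_c45 LD3_c32)) :=
  Lre_e IH (LK LD1_c0 LD2_c20 LD3_c18) (LK LD1_c0 LD2_c45 LD3_c32) Lrfl Lrfl
theorem f14637 : Led Lsl_dt (LP (LK LD1_c0 LD2_c20 LD3_c18)) = (LP (LK LD1_c0 LD2_c45 LD3_c31)) :=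
  Lre_d IH (LK LD1_c0 LD2_c20 LD3_c18) (LK LD1_c0 LD2_c45 LD3_c31) Lrfl Lrfl
theorem f11880 : Led Lsl_gt (LP (LK LD1_c1 LD2_c37 LD3_c57)) = (LP (LK LD1_c0 LD2_c45 LD3_c31)) :=
  Lre_g IH (LK LD1_c1 LD2_c37 LD3_c57) (LK LD1_c0 LD2_c45 LD3_c31) Lrfl Lrfl
theorem f90230 : Led Lsl_df (LP (LK LD1_c1 LD2_c37 LD3_c57)) = (LP (LK LD1_c0 LD2_c46 LD3_c58)) :=
  Lgr Lrot135 (Lpr_gt (f11880 IH) (Lpe (f14637 IH) (Lpr_et (f66637 IH) (Lpr_gt (f7329 IH) (Lpr_ef (f90224 IH) (Lpr_dt (K1.f66582 IH) (Lpr_gt (K1.f9784 IH) (Lpe (K0.f15039 IH) (Lpr_et (f76741 IH) (Lpr_gt (f66842 IH) (Lpn (LP (LK LD1_c0 LD2_c46 LD3_c58)))))))))))))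
theorem f90240 : Led Lsl_ft (LP (LK LD1_c1 LD2_c37 LD3_c57)) = (LP (LK LD1_c0 LD2_c45 LD3_c28)) :=
  Lgr Lrot54 (Lpr_df (f90230 IH) (Lpe (f90142 IH) (Lpr_df (f83720 IH) (Lpn (LP (LK LD1_c0 LD2_c45 LD3_c28))))))
theorem f90299 : Led Lsl_af (LP (LK LD1_c1 LD2_c37 LD3_c58)) = (LP (LK LD1_c0 LD2_c45 LD3_c28)) :=
  Lgr Lrot31 (Lpe (K1.f23366 IH) (Lpe (f11880 IH) (Lpr_ft (f90240 IH) (Lpn (LP (LK LD1_c0 LD2_c45 LD3_c28))))))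
theorem f90301 : Led Lsl_at (LP (LK LD1_c1 LD2_c37 LD3_c58)) = (LP (LK LD1_c0 LD2_c45 LD3_c28)) :=
  Lgr Lrot100 (Lpr_af (f90299 IH) (Lpn (LP (LK LD1_c0 LD2_c45 LD3_c28))))
theorem f9805 : Led Lsl_gt (LP (LK LD1_c0 LD2_c45 LD3_c27)) = (LP (LK LD1_c1 LD2_c37 LD3_c48)) :=
  Lre_g IH (LK LD1_c0 LD2_c45 LD3_c27) (LK LD1_c1 LD2_c37 LD3_c48) Lrfl Lrfl
theorem f90559 : Led Lsl_ff (LP (LK LD1_c1 LD2_c37 LD3_c58)) = (LP (LK LD1_c0 LD2_c45 LD3_c27)) :=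
  Lgr Lrot52 (Lpr_at (f90301 IH) (Lpe (f77319 IH) (Lpe (f9805 IH) (Lpn (LP (LK LD1_c0 LD2_c45 LD3_c27))))))
theorem f90561 : Led Lsl_dt (LP (LK LD1_c0 LD2_c45 LD3_c27)) = (LP (LK LD1_c0 LD2_c41 LD3_c22)) :=
  Lgr Lrot159 (Lpe (f90559 IH) (Lpr_at (f90301 IH) (Lpe (f83725 IH) (Lpe (f83726 IH) (Lpe (f90147 IH) (Lpe (f89848 IH) (Lpr_cf (f90056 IH) (Lpr_df (f88644 IH) (Lpe (f90103 IH) (Lpn (LP (LK LD1_c0 LD2_c41 LD3_c22))))))))))))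
theorem f59568 : Led Lsl_gt (LP (LK LD1_c0 LD2_c20 LD3_c17)) = (LP (LK LD1_c0 LD2_c45 LD3_c27)) :=
  Lre_g IH (LK LD1_c0 LD2_c20 LD3_c17) (LK LD1_c0 LD2_c45 LD3_c27) Lrfl Lrfl
theorem f76872 : Led Lsl_et (LP (LK LD1_c0 LD2_c45 LD3_c30)) = (LP (LK LD1_c0 LD2_c20 LD3_c17)) :=
  Lre_e IH (LK LD1_c0 LD2_c45 LD3_c30) (LK LD1_c0 LD2_c20 LD3_c17) Lrfl Lrfl
theorem f76790 : Led Lsl_at (LP (LK LD1_c1 LD2_c37 LD3_c60)) = (LP (LK LD1_c0 LD2_c45 LD3_c30)) :=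
  Lre_a IH (LK LD1_c1 LD2_c37 LD3_c60) (LK LD1_c0 LD2_c45 LD3_c30) Lrfl Lrfl
theorem f66962 : Led Lsl_at (LP (LK LD1_c1 LD2_c29 LD3_c36)) = (LP (LK LD1_c3 LD2_c6 LD3_c53)) :=
  Lre_a IH (LK LD1_c1 LD2_c29 LD3_c36) (LK LD1_c3 LD2_c6 LD3_c53) Lrfl Lrfl
theorem f76791 : Led Lsl_dt (LP (LK LD1_c0 LD2_c45 LD3_c30)) = (LP (LK LD1_c1 LD2_c29 LD3_c36)) :=
  Lgr Lrot44 (Lpe (f76790 IH) (Lpr_df (f76753 IH) (Lpe (f66962 IH) (Lpn (LP (LK LD1_c1 LD2_c29 LD3_c36))))))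
theorem f76876 : Led Lsl_gt (LP (LK LD1_c3 LD2_c6 LD3_c57)) = (LP (LK LD1_c1 LD2_c29 LD3_c36)) :=
  Lre_g IH (LK LD1_c3 LD2_c6 LD3_c57) (LK LD1_c1 LD2_c29 LD3_c36) Lrfl Lrfl
theorem f76834 : Led Lsl_dt (LP (LK LD1_c6 LD2_c19 LD3_c5)) = (LP (LK LD1_c3 LD2_c6 LD3_c57)) :=
  Lre_d IH (LK LD1_c6 LD2_c19 LD3_c5) (LK LD1_c3 LD2_c6 LD3_c57) Lrfl Lrfl
theorem f18093 : Led Lsl_at (LP (LK LD1_c0 LD2_c21 LD3_c26)) = (LP (LK LD1_c0 LD2_c47 LD3_c52)) :=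
  Lre_a IH (LK LD1_c0 LD2_c21 LD3_c26) (LK LD1_c0 LD2_c47 LD3_c52) Lrfl Lrfl
theorem f66809 : Led Lsl_gt (LP (LK LD1_c0 LD2_c41 LD3_c22)) = (LP (LK LD1_c0 LD2_c47 LD3_c52)) :=
  Lgr Lrot46 (Lpe (f66808 IH) (Lpr_ft (K1.f66753 IH) (Lpr_at (f18093 IH) (Lpn (LP (LK LD1_c0 LD2_c47 LD3_c52))))))
theorem f66657 : Led Lsl_at (LP (LK LD1_c0 LD2_c42 LD3_c60)) = (LP (LK LD1_c1 LD2_c32 LD3_c51)) :=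
  Lre_a IH (LK LD1_c0 LD2_c42 LD3_c60) (LK LD1_c1 LD2_c32 LD3_c51) Lrfl Lrfl
theorem f66658 : Led Lsl_dt (LP (LK LD1_c1 LD2_c32 LD3_c51)) = (LP (LK LD1_c0 LD2_c47 LD3_c52)) :=
  Lgr Lrot44 (Lpe (f66657 IH) (Lpr_df (K1.f66642 IH) (Lpe (f17655 IH) (Lpn (LP (LK LD1_c0 LD2_c47 LD3_c52))))))
theorem f66750 : Led Lsl_gt (LP (LK LD1_c3 LD2_c12 LD3_c47)) = (LP (LK LD1_c6 LD2_c29 LD3_c36)) :=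
  Lre_g IH (LK LD1_c3 LD2_c12 LD3_c47) (LK LD1_c6 LD2_c29 LD3_c36) Lrfl Lrfl
theorem f90584 : Led Lsl_et (LP (LK LD1_c6 LD2_c19 LD3_c5)) = (LP (LK LD1_c6 LD2_c29 LD3_c36)) :=
  Lgr Lrot122 (Lpr_dt (f76834 IH) (Lpr_gt (f76876 IH) (Lpe (f76791 IH) (Lpr_et (f76872 IH) (Lpr_gt (f59568 IH) (Lpr_dt (f90561 IH) (Lpr_gt (f66809 IH) (Lpe (f66658 IH) (Lpr_et (f66742 IH) (Lpr_gt (f66750 IH) (Lpn (LP (LK LD1_c6 LD2_c29 LD3_c36)))))))))))))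
theorem f66990 : Led Lsl_gt (LP (LK LD1_c6 LD2_c19 LD3_c1)) = (LP (LK LD1_c3 LD2_c6 LD3_c57)) :=
  Lre_g IH (LK LD1_c6 LD2_c19 LD3_c1) (LK LD1_c3 LD2_c6 LD3_c57) Lrfl Lrfl
theorem f76828 : Led Lsl_et (LP (LK LD1_c3 LD2_c23 LD3_c10)) = (LP (LK LD1_c6 LD2_c49 LD3_c18)) :=
  Lre_e IH (LK LD1_c3 LD2_c23 LD3_c10) (LK LD1_c6 LD2_c49 LD3_c18) Lrfl Lrfl
theorem f76835 : Led Lsl_gt (LP (LK LD1_c3 LD2_c23 LD3_c56)) = (LP (LK LD1_c6 LD2_c49 LD3_c18)) :=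
  Lre_g IH (LK LD1_c3 LD2_c23 LD3_c56) (LK LD1_c6 LD2_c49 LD3_c18) Lrfl Lrfl
theorem f76836 : Led Lsl_et (LP (LK LD1_c6 LD2_c50 LD3_c54)) = (LP (LK LD1_c3 LD2_c23 LD3_c56)) :=
  Lre_e IH (LK LD1_c6 LD2_c50 LD3_c54) (LK LD1_c3 LD2_c23 LD3_c56) Lrfl Lrfl
theorem f66934 : Led Lsl_gt (LP (LK LD1_c6 LD2_c29 LD3_c36)) = (LP (LK LD1_c3 LD2_c12 LD3_c52)) :=
  Lre_g IH (LK LD1_c6 LD2_c29 LD3_c36) (LK LD1_c3 LD2_c12 LD3_c52) Lrfl Lrfl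
theorem f67460 : Led Lsl_at (LP (LK LD1_c6 LD2_c27 LD3_c43)) = (LP (LK LD1_c12 LD2_c26 LD3_c33)) :=
  Lre_a IH (LK LD1_c6 LD2_c27 LD3_c43) (LK LD1_c12 LD2_c26 LD3_c33) Lrfl Lrfl
theorem f68185 : Led Lsl_dt (LP (LK LD1_c3 LD2_c12 LD3_c52)) = (LP (LK LD1_c6 LD2_c27 LD3_c43)) :=
  Lgr Lrot44 (Lpe (K1.f66907 IH) (Lpr_df (f68178 IH) (Lpe (f67460 IH) (Lpn (LP (LK LD1_c6 LD2_c27 LD3_c43))))))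
theorem f68229 : Led Lsl_gt (LP (LK LD1_c6 LD2_c27 LD3_c43)) = (LP (LK LD1_c12 LD2_c26 LD3_c32)) :=
  Lre_g IH (LK LD1_c6 LD2_c27 LD3_c43) (LK LD1_c12 LD2_c26 LD3_c32) Lrfl Lrfl
theorem f90590 : Led Lsl_dt (LP (LK LD1_c6 LD2_c50 LD3_c54)) = (LP (LK LD1_c12 LD2_c26 LD3_c32)) :=
  Lgr Lrot56 (Lpr_et (f76836 IH) (Lpr_gt (f76835 IH) (Lpe (f76828 IH) (Lpr_dt (f76800 IH) (Lpr_gt (f66990 IH) (Lpe (f76834 IH) (Lpr_et (f90584 IH) (Lpr_gt (f66934 IH) (Lpr_dt (f68185 IH) (Lpr_gt (f68229 IH) (Lpn (LP (LK LD1_c12 LD2_c26 LD3_c32)))))))))))))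
theorem f40448 : Led Lsl_gt (LP (LK LD1_c1 LD2_c38 LD3_c14)) = (LP (LK LD1_c3 LD2_c23 LD3_c56)) :=
  Lre_g IH (LK LD1_c1 LD2_c38 LD3_c14) (LK LD1_c3 LD2_c23 LD3_c56) Lrfl Lrfl
theorem f23371 : Led Lsl_et (LP (LK LD1_c0 LD2_c45 LD3_c31)) = (LP (LK LD1_c1 LD2_c38 LD3_c14)) :=
  Lre_e IH (LK LD1_c0 LD2_c45 LD3_c31) (LK LD1_c1 LD2_c38 LD3_c14) Lrfl Lrfl
theorem f11879 : Led Lsl_dt (LP (LK LD1_c0 LD2_c45 LD3_c31)) = (LP (LK LD1_c0 LD2_c20 LD3_c18)) :=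
  Lre_d IH (LK LD1_c0 LD2_c45 LD3_c31) (LK LD1_c0 LD2_c20 LD3_c18) Lrfl Lrfl
theorem f15030 : Led Lsl_dt (LP (LK LD1_c0 LD2_c51 LD3_c35)) = (LP (LK LD1_c0 LD2_c23 LD3_c19)) :=
  Lre_d IH (LK LD1_c0 LD2_c51 LD3_c35) (LK LD1_c0 LD2_c23 LD3_c19) Lrfl Lrfl
theorem f68063 : Led Lsl_gt (LP (LK LD1_c12 LD2_c26 LD3_c32)) = (LP (LK LD1_c6 LD2_c27 LD3_c30)) :=
  Lre_g IH (LK LD1_c12 LD2_c26 LD3_c32) (LK LD1_c6 LD2_c27 LD3_c30) Lrfl Lrfl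
theorem f90596 : Led Lsl_gf (LP (LK LD1_c0 LD2_c51 LD3_c35)) = (LP (LK LD1_c1 LD2_c32 LD3_c51)) :=
  Lgr Lrot138 (Lpr_dt (f15030 IH) (Lpe (K0.f11883 IH) (Lpe (f11879 IH) (Lpr_et (f23371 IH) (Lpr_gt (f40448 IH) (Lpe (f76836 IH) (Lpr_dt (f90590 IH) (Lpr_gt (f68063 IH) (Lpe (f68170 IH) (Lpr_et (K1.f66749 IH) (Lpn (LP (LK LD1_c1 LD2_c32 LD3_c51)))))))))))))
theorem f23707 : Led Lsl_dt (LP (LK LD1_c0 LD2_c23 LD3_c19)) = (LP (LK LD1_c0 LD2_c51 LD3_c35)) :=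
  Lre_d IH (LK LD1_c0 LD2_c23 LD3_c19) (LK LD1_c0 LD2_c51 LD3_c35) Lrfl Lrfl
theorem f66422 : Led Lsl_ft (LP (LK LD1_c0 LD2_c4 LD3_c56)) = (LP (LK LD1_c0 LD2_c10 LD3_c32)) :=
  Lre_f IH (LK LD1_c0 LD2_c4 LD3_c56) (LK LD1_c0 LD2_c10 LD3_c32) Lrfl Lrfl
theorem f85023 : Led Lsl_et (LP (LK LD1_c0 LD2_c10 LD3_c32)) = (LP (LK LD1_c0 LD2_c23 LD3_c29)) :=
  Lre_e IH (LK LD1_c0 LD2_c10 LD3_c32) (LK LD1_c0 LD2_c23 LD3_c29) Lrfl Lrfl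
theorem f85024 : Led Lsl_ft (LP (LK LD1_c0 LD2_c10 LD3_c32)) = (LP (LK LD1_c0 LD2_c4 LD3_c56)) :=
  Lre_f IH (LK LD1_c0 LD2_c10 LD3_c32) (LK LD1_c0 LD2_c4 LD3_c56) Lrfl Lrfl
theorem f85025 : Led Lsl_et (LP (LK LD1_c0 LD2_c23 LD3_c29)) = (LP (LK LD1_c0 LD2_c10 LD3_c32)) :=
  Lre_e IH (LK LD1_c0 LD2_c23 LD3_c29) (LK LD1_c0 LD2_c10 LD3_c32) Lrfl Lrfl
theorem f85026 : Led Lsl_ft (LP (LK LD1_c0 LD2_c23 LD3_c29)) = (LP (LK LD1_c0 LD2_c23 LD3_c29)) :=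
  Lgr Lrot86 (Lpe (f85023 IH) (Lpe (f66422 IH) (Lpr_ef (f85012 IH) (Lpe (f85024 IH) (Lpe (f85025 IH) (Lpn (LP (LK LD1_c0 LD2_c23 LD3_c29))))))))
theorem f85037 : Led Lsl_ct (LP (LK LD1_c0 LD2_c51 LD3_c50)) = (LP (LK LD1_c0 LD2_c23 LD3_c29)) :=
  Lre_c IH (LK LD1_c0 LD2_c51 LD3_c50) (LK LD1_c0 LD2_c23 LD3_c29) Lrfl Lrfl
theorem f85038 : Led Lsl_ct (LP (LK LD1_c0 LD2_c23 LD3_c29)) = (LP (LK LD1_c0 LD2_c51 LD3_c50)) :=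
  Lre_c IH (LK LD1_c0 LD2_c23 LD3_c29) (LK LD1_c0 LD2_c51 LD3_c50) Lrfl Lrfl
theorem f85039 : Led Lsl_ff (LP (LK LD1_c0 LD2_c51 LD3_c50)) = (LP (LK LD1_c0 LD2_c51 LD3_c50)) :=
  Lgr Lrot23 (Lpr_ct (f85037 IH) (Lpr_ft (f85026 IH) (Lpr_ct (f85038 IH) (Lpn (LP (LK LD1_c0 LD2_c51 LD3_c50))))))
theorem f85045 : Led Lsl_bt (LP (LK LD1_c0 LD2_c51 LD3_c50)) = (LP (LK LD1_c1 LD2_c49 LD3_c48)) :=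
  Lre_b IH (LK LD1_c0 LD2_c51 LD3_c50) (LK LD1_c1 LD2_c49 LD3_c48) Lrfl Lrfl
theorem f85050 : Led Lsl_bt (LP (LK LD1_c1 LD2_c49 LD3_c48)) = (LP (LK LD1_c0 LD2_c51 LD3_c50)) :=
  Lre_b IH (LK LD1_c1 LD2_c49 LD3_c48) (LK LD1_c0 LD2_c51 LD3_c50) Lrfl Lrfl
theorem f85051 : Led Lsl_ft (LP (LK LD1_c1 LD2_c49 LD3_c48)) = (LP (LK LD1_c1 LD2_c49 LD3_c48)) :=
  Lgr Lrot75 (Lpe (f85045 IH) (Lpr_ff (f85039 IH) (Lpe (f85050 IH) (Lpn (LP (LK LD1_c1 LD2_c49 LD3_c48))))))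
theorem f85061 : Led Lsl_et (LP (LK LD1_c0 LD2_c51 LD3_c44)) = (LP (LK LD1_c1 LD2_c49 LD3_c48)) :=
  Lre_e IH (LK LD1_c0 LD2_c51 LD3_c44) (LK LD1_c1 LD2_c49 LD3_c48) Lrfl Lrfl
theorem f85062 : Led Lsl_ft (LP (LK LD1_c0 LD2_c23 LD3_c24)) = (LP (LK LD1_c0 LD2_c51 LD3_c44)) :=
  Lre_f IH (LK LD1_c0 LD2_c23 LD3_c24) (LK LD1_c0 LD2_c51 LD3_c44) Lrfl Lrfl
theorem f85063 : Led Lsl_et (LP (LK LD1_c1 LD2_c49 LD3_c48)) = (LP (LK LD1_c0 LD2_c51 LD3_c44)) :=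
  Lre_e IH (LK LD1_c1 LD2_c49 LD3_c48) (LK LD1_c0 LD2_c51 LD3_c44) Lrfl Lrfl
theorem f85064 : Led Lsl_ft (LP (LK LD1_c0 LD2_c51 LD3_c44)) = (LP (LK LD1_c0 LD2_c23 LD3_c24)) :=
  Lre_f IH (LK LD1_c0 LD2_c51 LD3_c44) (LK LD1_c0 LD2_c23 LD3_c24) Lrfl Lrfl
theorem f85065 : Led Lsl_ef (LP (LK LD1_c0 LD2_c23 LD3_c24)) = (LP (LK LD1_c0 LD2_c23 LD3_c24)) :=
  Lgr Lrot21 (Lpr_ft (f85062 IH) (Lpr_et (f85061 IH) (Lpr_ft (f85051 IH) (Lpr_et (f85063 IH) (Lpr_ft (f85064 IH) (Lpn (LP (LK LD1_c0 LD2_c23 LD3_c24))))))))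
theorem f12421 : Led Lsl_ct (LP (LK LD1_c0 LD2_c23 LD3_c24)) = (LP (LK LD1_c0 LD2_c51 LD3_c34)) :=
  Lre_c IH (LK LD1_c0 LD2_c23 LD3_c24) (LK LD1_c0 LD2_c51 LD3_c34) Lrfl Lrfl
theorem f24341 : Led Lsl_ct (LP (LK LD1_c0 LD2_c51 LD3_c34)) = (LP (LK LD1_c0 LD2_c23 LD3_c24)) :=
  Lre_c IH (LK LD1_c0 LD2_c51 LD3_c34) (LK LD1_c0 LD2_c23 LD3_c24) Lrfl Lrfl
theorem f85067 : Led Lsl_et (LP (LK LD1_c0 LD2_c51 LD3_c34)) = (LP (LK LD1_c0 LD2_c51 LD3_c34)) :=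
  Lgr Lrot158 (Lpe (f12421 IH) (Lpr_ef (f85065 IH) (Lpe (f24341 IH) (Lpn (LP (LK LD1_c0 LD2_c51 LD3_c34))))))
theorem f23709 : Led Lsl_bt (LP (LK LD1_c0 LD2_c23 LD3_c19)) = (LP (LK LD1_c0 LD2_c51 LD3_c34)) :=
  Lre_b IH (LK LD1_c0 LD2_c23 LD3_c19) (LK LD1_c0 LD2_c51 LD3_c34) Lrfl Lrfl
theorem f24399 : Led Lsl_bt (LP (LK LD1_c0 LD2_c51 LD3_c34)) = (LP (LK LD1_c0 LD2_c23 LD3_c19)) :=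
  Lre_b IH (LK LD1_c0 LD2_c51 LD3_c34) (LK LD1_c0 LD2_c23 LD3_c19) Lrfl Lrfl
theorem f85148 : Led Lsl_ef (LP (LK LD1_c0 LD2_c23 LD3_c19)) = (LP (LK LD1_c0 LD2_c23 LD3_c19)) :=
  Lgr Lrot29 (Lpr_bt (f23709 IH) (Lpr_et (f85067 IH) (Lpr_bt (f24399 IH) (Lpn (LP (LK LD1_c0 LD2_c23 LD3_c19))))))
theorem f23369 : Led Lsl_et (LP (LK LD1_c0 LD2_c45 LD3_c32)) = (LP (LK LD1_c0 LD2_c20 LD3_c18)) :=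
  Lre_e IH (LK LD1_c0 LD2_c45 LD3_c32) (LK LD1_c0 LD2_c20 LD3_c18) Lrfl Lrfl
theorem f77329 : Led Lsl_at (LP (LK LD1_c1 LD2_c38 LD3_c14)) = (LP (LK LD1_c3 LD2_c22 LD3_c53)) :=
  Lre_a IH (LK LD1_c1 LD2_c38 LD3_c14) (LK LD1_c3 LD2_c22 LD3_c53) Lrfl Lrfl
theorem f83519 : Led Lsl_at (LP (LK LD1_c6 LD2_c23 LD3_c9)) = (LP (LK LD1_c3 LD2_c9 LD3_c16)) :=
  Lre_a IH (LK LD1_c6 LD2_c23 LD3_c9) (LK LD1_c3 LD2_c9 LD3_c16) Lrfl Lrfl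
theorem f83532 : Led Lsl_df (LP (LK LD1_c1 LD2_c38 LD3_c14)) = (LP (LK LD1_c3 LD2_c9 LD3_c16)) :=
  Lgr Lrot18 (Lpr_at (f77329 IH) (Lpr_dt (f83517 IH) (Lpr_at (f83519 IH) (Lpn (LP (LK LD1_c3 LD2_c9 LD3_c16))))))
theorem f83573 : Led Lsl_et (LP (LK LD1_c1 LD2_c38 LD3_c14)) = (LP (LK LD1_c0 LD2_c45 LD3_c31)) :=
  Lre_e IH (LK LD1_c1 LD2_c38 LD3_c14) (LK LD1_c0 LD2_c45 LD3_c31) Lrfl Lrfl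
theorem f83593 : Led Lsl_et (LP (LK LD1_c1 LD2_c30 LD3_c47)) = (LP (LK LD1_c3 LD2_c9 LD3_c16)) :=
  Lre_e IH (LK LD1_c1 LD2_c30 LD3_c47) (LK LD1_c3 LD2_c9 LD3_c16) Lrfl Lrfl
theorem f83594 : Led Lsl_dt (LP (LK LD1_c0 LD2_c45 LD3_c32)) = (LP (LK LD1_c1 LD2_c30 LD3_c47)) :=
  Lgr Lrot77 (Lpe (f66637 IH) (Lpe (f11879 IH) (Lpe (f83573 IH) (Lpr_df (f83532 IH) (Lpe (f83593 IH) (Lpn (LP (LK LD1_c1 LD2_c30 LD3_c47))))))))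
theorem f66814 : Led Lsl_et (LP (LK LD1_c1 LD2_c29 LD3_c31)) = (LP (LK LD1_c0 LD2_c41 LD3_c22)) :=
  Lre_e IH (LK LD1_c1 LD2_c29 LD3_c31) (LK LD1_c0 LD2_c41 LD3_c22) Lrfl Lrfl
theorem f66815 : Led Lsl_dt (LP (LK LD1_c1 LD2_c29 LD3_c31)) = (LP (LK LD1_c3 LD2_c6 LD3_c49)) :=
  Lre_d IH (LK LD1_c1 LD2_c29 LD3_c31) (LK LD1_c3 LD2_c6 LD3_c49) Lrfl Lrfl
theorem f90610 : Led Lsl_gt (LP (LK LD1_c1 LD2_c30 LD3_c47)) = (LP (LK LD1_c3 LD2_c6 LD3_c49)) :=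
  Lgr Lrot112 (Lpe (f83594 IH) (Lpr_et (f23369 IH) (Lpr_gf (K0.f11883 IH) (Lpr_ef (f85148 IH) (Lpr_dt (f23707 IH) (Lpr_gf (f90596 IH) (Lpr_df (f66739 IH) (Lpe (f66809 IH) (Lpe (f66814 IH) (Lpr_dt (f66815 IH) (Lpn (LP (LK LD1_c3 LD2_c6 LD3_c49)))))))))))))
theorem f83474 : Led Lsl_ff (LP (LK LD1_c1 LD2_c32 LD3_c12)) = (LP (LK LD1_c1 LD2_c30 LD3_c47)) :=
  Lgr Lrot30 (Lpr_at (f67424 IH) (Lpr_ft (f83470 IH) (Lpr_at (f83469 IH) (Lpn (LP (LK LD1_c1 LD2_c30 LD3_c47))))))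
theorem f90612 : Led Lsl_gf (LP (LK LD1_c3 LD2_c11 LD3_c39)) = (LP (LK LD1_c3 LD2_c6 LD3_c49)) :=
  Lgr Lrot76 (Lpe (f67424 IH) (Lpr_ff (f83474 IH) (Lpr_gt (f90610 IH) (Lpn (LP (LK LD1_c3 LD2_c6 LD3_c49))))))
theorem f14978 : Led Lsl_dt (LP (LK LD1_c0 LD2_c20 LD3_c17)) = (LP (LK LD1_c0 LD2_c9 LD3_c8)) :=
  Lre_d IH (LK LD1_c0 LD2_c20 LD3_c17) (LK LD1_c0 LD2_c9 LD3_c8) Lrfl Lrfl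
theorem f66811 : Led Lsl_dt (LP (LK LD1_c0 LD2_c18 LD3_c31)) = (LP (LK LD1_c0 LD2_c41 LD3_c25)) :=
  Lre_d IH (LK LD1_c0 LD2_c18 LD3_c31) (LK LD1_c0 LD2_c41 LD3_c25) Lrfl Lrfl
theorem f76873 : Led Lsl_et (LP (LK LD1_c0 LD2_c9 LD3_c8)) = (LP (LK LD1_c0 LD2_c18 LD3_c31)) :=
  Lgr Lrot71 (Lpe (f14978 IH) (Lpe (f76872 IH) (Lpr_df (f76859 IH) (Lpe (f66932 IH) (Lpe (f66811 IH) (Lpn (LP (LK LD1_c0 LD2_c18 LD3_c31))))))))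
theorem f76892 : Led Lsl_gt (LP (LK LD1_c0 LD2_c45 LD3_c28)) = (LP (LK LD1_c0 LD2_c20 LD3_c17)) :=
  Lre_g IH (LK LD1_c0 LD2_c45 LD3_c28) (LK LD1_c0 LD2_c20 LD3_c17) Lrfl Lrfl
theorem f90843 : Led Lsl_gt (LP (LK LD1_c0 LD2_c47 LD3_c52)) = (LP (LK LD1_c0 LD2_c41 LD3_c23)) :=
  Lgr Lrot137 (Lpr_ef (f68164 IH) (Lpr_dt (f68069 IH) (Lpr_gf (f90612 IH) (Lpe (f66815 IH) (Lpr_et (f66814 IH) (Lpe (f66808 IH) (Lpe (f76873 IH) (Lpr_dt (K0.f14554 IH) (Lpe (f76892 IH) (Lpe (f83727 IH) (Lpn (LP (LK LD1_c0 LD2_c41 LD3_c23)))))))))))))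
theorem f18146 : Led Lsl_gf (LP (LK LD1_c0 LD2_c21 LD3_c25)) = (LP (LK LD1_c0 LD2_c20 LD3_c23)) :=
  Lgr Lrot76 (Lpe (f18064 IH) (Lpr_ff (K1.f18135 IH) (Lpr_gt (f3960 IH) (Lpn (LP (LK LD1_c0 LD2_c20 LD3_c23))))))
theorem f69277 : Led Lsl_ct (LP (LK LD1_c1 LD2_c38 LD3_c0)) = (LP (LK LD1_c0 LD2_c45 LD3_c27)) :=
  Lre_c IH (LK LD1_c1 LD2_c38 LD3_c0) (LK LD1_c0 LD2_c45 LD3_c27) Lrfl Lrfl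
theorem f83760 : Led Lsl_dt (LP (LK LD1_c3 LD2_c23 LD3_c14)) = (LP (LK LD1_c1 LD2_c38 LD3_c0)) :=
  Lre_d IH (LK LD1_c3 LD2_c23 LD3_c14) (LK LD1_c1 LD2_c38 LD3_c0) Lrfl Lrfl
theorem f11965 : Led Lsl_dt (LP (LK LD1_c0 LD2_c46 LD3_c36)) = (LP (LK LD1_c1 LD2_c40 LD3_c12)) :=
  Lre_d IH (LK LD1_c0 LD2_c46 LD3_c36) (LK LD1_c1 LD2_c40 LD3_c12) Lrfl Lrfl
theorem f90574 : Led Lsl_cf (LP (LK LD1_c3 LD2_c23 LD3_c14)) = (LP (LK LD1_c1 LD2_c40 LD3_c12)) :=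
  Lgr Lrot118 (Lpr_dt (f83760 IH) (Lpr_ct (f69277 IH) (Lpr_dt (f90561 IH) (Lpr_ct (f90103 IH) (Lpe (f88644 IH) (Lpe (f90056 IH) (Lpr_af (f89841 IH) (Lpe (f89829 IH) (Lpr_dt (f11965 IH) (Lpn (LP (LK LD1_c1 LD2_c40 LD3_c12))))))))))))
theorem f19420 : Led Lsl_at (LP (LK LD1_c0 LD2_c21 LD3_c2)) = (LP (LK LD1_c0 LD2_c46 LD3_c57)) :=
  Lre_a IH (LK LD1_c0 LD2_c21 LD3_c2) (LK LD1_c0 LD2_c46 LD3_c57) Lrfl Lrfl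
theorem f90576 : Led Lsl_df (LP (LK LD1_c0 LD2_c52 LD3_c14)) = (LP (LK LD1_c0 LD2_c46 LD3_c60)) :=
  Lgr Lrot157 (Lpr_ct (f11954 IH) (Lpr_dt (f11965 IH) (Lpe (f90574 IH) (Lpr_dt (f83760 IH) (Lpr_ct (f69277 IH) (Lpr_dt (f90561 IH) (Lpr_ct (f90103 IH) (Lpe (f19420 IH) (Lpe (f88850 IH) (Lpn (LP (LK LD1_c0 LD2_c46 LD3_c60))))))))))))
theorem f11963 : Led Lsl_cf (LP (LK LD1_c0 LD2_c52 LD3_c14)) = (LP (LK LD1_c0 LD2_c46 LD3_c36)) :=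
  Lgr Lrot11 (Lpr_ct (f11954 IH) (Lpn (LP (LK LD1_c0 LD2_c46 LD3_c36))))
theorem f15066 : Led Lsl_gt (LP (LK LD1_c0 LD2_c52 LD3_c54)) = (LP (LK LD1_c0 LD2_c46 LD3_c36)) :=
  Lgr Lrot5 (Lpr_ft (K0.f15055 IH) (Lpr_at (K0.f15057 IH) (Lpe (f11953 IH) (Lpn (LP (LK LD1_c0 LD2_c46 LD3_c36))))))
theorem f9903 : Led Lsl_gt (LP (LK LD1_c0 LD2_c9 LD3_c28)) = (LP (LK LD1_c0 LD2_c20 LD3_c53)) :=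
  Lre_g IH (LK LD1_c0 LD2_c9 LD3_c28) (LK LD1_c0 LD2_c20 LD3_c53) Lrfl Lrfl
theorem f14600 : Led Lsl_gt (LP (LK LD1_c0 LD2_c20 LD3_c53)) = (LP (LK LD1_c0 LD2_c24 LD3_c14)) :=
  Lgr Lrot46 (Lpe (f9903 IH) (Lpr_ft (K0.f14574 IH) (Lpr_at (K0.f14573 IH) (Lpn (LP (LK LD1_c0 LD2_c24 LD3_c14))))))
theorem f90849 : Led Lsl_df (LP (LK LD1_c0 LD2_c20 LD3_c23)) = (LP (LK LD1_c0 LD2_c20 LD3_c53)) :=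
  Lgr Lrot155 (Lpe (f18146 IH) (Lpr_ct (f18090 IH) (Lpr_gt (f90843 IH) (Lpe (f90173 IH) (Lpe (f90576 IH) (Lpr_cf (f11963 IH) (Lpe (f15066 IH) (Lpe (K0.f14581 IH) (Lpe (f14600 IH) (Lpn (LP (LK LD1_c0 LD2_c20 LD3_c53))))))))))))
theorem f18082 : Led Lsl_et (LP (LK LD1_c0 LD2_c47 LD3_c34)) = (LP (LK LD1_c1 LD2_c42 LD3_c8)) :=
  Lre_e IH (LK LD1_c0 LD2_c47 LD3_c34) (LK LD1_c1 LD2_c42 LD3_c8) Lrfl Lrfl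
theorem f18095 : Led Lsl_gt (LP (LK LD1_c1 LD2_c42 LD3_c8)) = (LP (LK LD1_c3 LD2_c31 LD3_c10)) :=
  Lre_g IH (LK LD1_c1 LD2_c42 LD3_c8) (LK LD1_c3 LD2_c31 LD3_c10) Lrfl Lrfl
theorem f14592 : Led Lsl_et (LP (LK LD1_c0 LD2_c20 LD3_c56)) = (LP (LK LD1_c0 LD2_c9 LD3_c28)) :=
  Lre_e IH (LK LD1_c0 LD2_c20 LD3_c56) (LK LD1_c0 LD2_c9 LD3_c28) Lrfl Lrfl
theorem f19071 : Led Lsl_dt (LP (LK LD1_c0 LD2_c20 LD3_c56)) = (LP (LK LD1_c0 LD2_c45 LD3_c49)) :=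
  Lre_d IH (LK LD1_c0 LD2_c20 LD3_c56) (LK LD1_c0 LD2_c45 LD3_c49) Lrfl Lrfl
theorem f17017 : Led Lsl_gt (LP (LK LD1_c1 LD2_c38 LD3_c51)) = (LP (LK LD1_c0 LD2_c45 LD3_c49)) :=
  Lre_g IH (LK LD1_c1 LD2_c38 LD3_c51) (LK LD1_c0 LD2_c45 LD3_c49) Lrfl Lrfl
theorem f17093 : Led Lsl_dt (LP (LK LD1_c3 LD2_c24 LD3_c55)) = (LP (LK LD1_c1 LD2_c38 LD3_c51)) :=
  Lre_d IH (LK LD1_c3 LD2_c24 LD3_c55) (LK LD1_c1 LD2_c38 LD3_c51) Lrfl Lrfl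
theorem f90858 : Led Lsl_ef (LP (LK LD1_c3 LD2_c31 LD3_c10)) = (LP (LK LD1_c3 LD2_c24 LD3_c55)) :=
  Lgr Lrot17 (Lpe (f18095 IH) (Lpe (f18082 IH) (Lpe (f18078 IH) (Lpr_gf (f18146 IH) (Lpr_df (f90849 IH) (Lpe (f9903 IH) (Lpe (f14592 IH) (Lpr_dt (f19071 IH) (Lpe (f17017 IH) (Lpe (f17093 IH) (Lpn (LP (LK LD1_c3 LD2_c24 LD3_c55)))))))))))))
theorem f18199 : Led Lsl_gt (LP (LK LD1_c3 LD2_c31 LD3_c10)) = (LP (LK LD1_c1 LD2_c42 LD3_c11)) :=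
  Lre_g IH (LK LD1_c3 LD2_c31 LD3_c10) (LK LD1_c1 LD2_c42 LD3_c11) Lrfl Lrfl
theorem f15713 : Led Lsl_dt (LP (LK LD1_c1 LD2_c38 LD3_c52)) = (LP (LK LD1_c0 LD2_c46 LD3_c41)) :=
  Lre_d IH (LK LD1_c1 LD2_c38 LD3_c52) (LK LD1_c0 LD2_c46 LD3_c41) Lrfl Lrfl
theorem f15721 : Led Lsl_gt (LP (LK LD1_c0 LD2_c46 LD3_c41)) = (LP (LK LD1_c1 LD2_c39 LD3_c51)) :=
  Lre_g IH (LK LD1_c0 LD2_c46 LD3_c41) (LK LD1_c1 LD2_c39 LD3_c51) Lrfl Lrfl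
theorem f15824 : Led Lsl_gt (LP (LK LD1_c3 LD2_c24 LD3_c32)) = (LP (LK LD1_c1 LD2_c38 LD3_c51)) :=
  Lre_g IH (LK LD1_c3 LD2_c24 LD3_c32) (LK LD1_c1 LD2_c38 LD3_c51) Lrfl Lrfl
theorem f15823 : Led Lsl_dt (LP (LK LD1_c1 LD2_c39 LD3_c52)) = (LP (LK LD1_c3 LD2_c24 LD3_c32)) :=
  Lre_d IH (LK LD1_c1 LD2_c39 LD3_c52) (LK LD1_c3 LD2_c24 LD3_c32) Lrfl Lrfl
theorem f16719 : Led Lsl_gt (LP (LK LD1_c0 LD2_c46 LD3_c39)) = (LP (LK LD1_c1 LD2_c39 LD3_c52)) :=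
  Lre_g IH (LK LD1_c0 LD2_c46 LD3_c39) (LK LD1_c1 LD2_c39 LD3_c52) Lrfl Lrfl
theorem f17105 : Led Lsl_et (LP (LK LD1_c1 LD2_c40 LD3_c25)) = (LP (LK LD1_c0 LD2_c46 LD3_c39)) :=
  Lre_e IH (LK LD1_c1 LD2_c40 LD3_c25) (LK LD1_c0 LD2_c46 LD3_c39) Lrfl Lrfl
theorem f90867 : Led Lsl_df (LP (LK LD1_c1 LD2_c39 LD3_c51)) = (LP (LK LD1_c1 LD2_c40 LD3_c25)) :=
  Lgr Lrot168 (Lpe (f15721 IH) (Lpe (f15713 IH) (Lpe (K1.f18185 IH) (Lpe (f18199 IH) (Lpr_ef (f90858 IH) (Lpr_dt (f17093 IH) (Lpe (f15824 IH) (Lpe (f15823 IH) (Lpe (f16719 IH) (Lpe (f17105 IH) (Lpn (LP (LK LD1_c1 LD2_c40 LD3_c25)))))))))))))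
theorem f15903 : Led Lsl_gt (LP (LK LD1_c1 LD2_c39 LD3_c51)) = (LP (LK LD1_c0 LD2_c46 LD3_c28)) :=
  Lre_g IH (LK LD1_c1 LD2_c39 LD3_c51) (LK LD1_c0 LD2_c46 LD3_c28) Lrfl Lrfl
theorem f15799 : Led Lsl_dt (LP (LK LD1_c1 LD2_c38 LD3_c41)) = (LP (LK LD1_c0 LD2_c46 LD3_c28)) :=
  Lre_d IH (LK LD1_c1 LD2_c38 LD3_c41) (LK LD1_c0 LD2_c46 LD3_c28) Lrfl Lrfl
theorem f15801 : Led Lsl_et (LP (LK LD1_c1 LD2_c38 LD3_c41)) = (LP (LK LD1_c0 LD2_c45 LD3_c45)) :=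
  Lre_e IH (LK LD1_c1 LD2_c38 LD3_c41) (LK LD1_c0 LD2_c45 LD3_c45) Lrfl Lrfl
theorem f16743 : Led Lsl_gt (LP (LK LD1_c0 LD2_c20 LD3_c56)) = (LP (LK LD1_c0 LD2_c46 LD3_c39)) :=
  Lre_g IH (LK LD1_c0 LD2_c20 LD3_c56) (LK LD1_c0 LD2_c46 LD3_c39) Lrfl Lrfl
theorem f14624 : Led Lsl_et (LP (LK LD1_c0 LD2_c9 LD3_c28)) = (LP (LK LD1_c0 LD2_c20 LD3_c56)) :=
  Lre_e IH (LK LD1_c0 LD2_c9 LD3_c28) (LK LD1_c0 LD2_c20 LD3_c56) Lrfl Lrfl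
theorem f12340 : Led Lsl_gt (LP (LK LD1_c0 LD2_c9 LD3_c26)) = (LP (LK LD1_c0 LD2_c4 LD3_c26)) :=
  Lre_g IH (LK LD1_c0 LD2_c9 LD3_c26) (LK LD1_c0 LD2_c4 LD3_c26) Lrfl Lrfl
theorem f14609 : Led Lsl_dt (LP (LK LD1_c0 LD2_c20 LD3_c50)) = (LP (LK LD1_c0 LD2_c9 LD3_c26)) :=
  Lre_d IH (LK LD1_c0 LD2_c20 LD3_c50) (LK LD1_c0 LD2_c9 LD3_c26) Lrfl Lrfl
theorem f90881 : Led Lsl_gt (LP (LK LD1_c0 LD2_c45 LD3_c45)) = (LP (LK LD1_c0 LD2_c20 LD3_c50)) :=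
  Lgr Lrot137 (Lpe (f15801 IH) (Lpr_dt (f15799 IH) (Lpe (f15903 IH) (Lpr_df (f90867 IH) (Lpr_et (f17105 IH) (Lpe (f16743 IH) (Lpe (f14624 IH) (Lpr_dt (K0.f11976 IH) (Lpe (f12340 IH) (Lpe (f14609 IH) (Lpn (LP (LK LD1_c0 LD2_c20 LD3_c50)))))))))))))
theorem f18083 : Led Lsl_at (LP (LK LD1_c0 LD2_c47 LD3_c24)) = (LP (LK LD1_c1 LD2_c41 LD3_c44)) :=
  Lre_a IH (LK LD1_c0 LD2_c47 LD3_c24) (LK LD1_c1 LD2_c41 LD3_c44) Lrfl Lrfl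
theorem f18222 : Led Lsl_at (LP (LK LD1_c1 LD2_c38 LD3_c40)) = (LP (LK LD1_c0 LD2_c45 LD3_c48)) :=
  Lre_a IH (LK LD1_c1 LD2_c38 LD3_c40) (LK LD1_c0 LD2_c45 LD3_c48) Lrfl Lrfl
theorem f18223 : Led Lsl_ft (LP (LK LD1_c1 LD2_c41 LD3_c44)) = (LP (LK LD1_c1 LD2_c38 LD3_c40)) :=
  Lgr Lrot101 (Lpe (f18083 IH) (Lpr_ff (K1.f18218 IH) (Lpe (f18222 IH) (Lpn (LP (LK LD1_c1 LD2_c38 LD3_c40))))))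
theorem f18077 : Led Lsl_ct (LP (LK LD1_c0 LD2_c47 LD3_c34)) = (LP (LK LD1_c1 LD2_c41 LD3_c44)) :=
  Lre_c IH (LK LD1_c0 LD2_c47 LD3_c34) (LK LD1_c1 LD2_c41 LD3_c44) Lrfl Lrfl
theorem f19130 : Led Lsl_ff (LP (LK LD1_c0 LD2_c47 LD3_c34)) = (LP (LK LD1_c0 LD2_c45 LD3_c45)) :=
  Lgr Lrot23 (Lpr_ct (f18077 IH) (Lpr_ft (f18223 IH) (Lpr_ct (K1.f15853 IH) (Lpn (LP (LK LD1_c0 LD2_c45 LD3_c45))))))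
theorem f90883 : Led Lsl_gf (LP (LK LD1_c0 LD2_c21 LD3_c16)) = (LP (LK LD1_c0 LD2_c20 LD3_c50)) :=
  Lgr Lrot76 (Lpe (f11410 IH) (Lpr_ff (f19130 IH) (Lpr_gt (f90881 IH) (Lpn (LP (LK LD1_c0 LD2_c20 LD3_c50))))))
theorem f66661 : Led Lsl_dt (LP (LK LD1_c0 LD2_c42 LD3_c60)) = (LP (LK LD1_c0 LD2_c21 LD3_c26)) :=
  Lgr Lrot42 (Lpr_df (K1.f66642 IH) (Lpn (LP (LK LD1_c0 LD2_c21 LD3_c26))))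
theorem f9798 : Led Lsl_dt (LP (LK LD1_c0 LD2_c9 LD3_c26)) = (LP (LK LD1_c0 LD2_c20 LD3_c50)) :=
  Lre_d IH (LK LD1_c0 LD2_c9 LD3_c26) (LK LD1_c0 LD2_c20 LD3_c50) Lrfl Lrfl
theorem f9797 : Led Lsl_gt (LP (LK LD1_c0 LD2_c20 LD3_c42)) = (LP (LK LD1_c0 LD2_c9 LD3_c26)) :=
  Lre_g IH (LK LD1_c0 LD2_c20 LD3_c42) (LK LD1_c0 LD2_c9 LD3_c26) Lrfl Lrfl
theorem f9813 : Led Lsl_gt (LP (LK LD1_c0 LD2_c45 LD3_c21)) = (LP (LK LD1_c0 LD2_c20 LD3_c15)) :=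
  Lre_g IH (LK LD1_c0 LD2_c45 LD3_c21) (LK LD1_c0 LD2_c20 LD3_c15) Lrfl Lrfl
theorem f13519 : Led Lsl_dt (LP (LK LD1_c0 LD2_c20 LD3_c15)) = (LP (LK LD1_c0 LD2_c45 LD3_c24)) :=
  Lre_d IH (LK LD1_c0 LD2_c20 LD3_c15) (LK LD1_c0 LD2_c45 LD3_c24) Lrfl Lrfl
theorem f91947 : Led Lsl_gf (LP (LK LD1_c0 LD2_c42 LD3_c60)) = (LP (LK LD1_c0 LD2_c45 LD3_c24)) :=
  Lgr Lrot143 (Lpr_dt (f66661 IH) (Lpe (K1.f12096 IH) (Lpr_df (K1.f18060 IH) (Lpr_gf (f90883 IH) (Lpe (f9798 IH) (Lpe (f9797 IH) (Lpe (K0.f9792 IH) (Lpr_gt (f9813 IH) (Lpr_dt (f13519 IH) (Lpn (LP (LK LD1_c0 LD2_c45 LD3_c24))))))))))))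
theorem f11975 : Led Lsl_gt (LP (LK LD1_c0 LD2_c20 LD3_c15)) = (LP (LK LD1_c0 LD2_c9 LD3_c8)) :=
  Lre_g IH (LK LD1_c0 LD2_c20 LD3_c15) (LK LD1_c0 LD2_c9 LD3_c8) Lrfl Lrfl
theorem f11974 : Led Lsl_ct (LP (LK LD1_c0 LD2_c9 LD3_c8)) = (LP (LK LD1_c0 LD2_c4 LD3_c26)) :=
  Lre_c IH (LK LD1_c0 LD2_c9 LD3_c8) (LK LD1_c0 LD2_c4 LD3_c26) Lrfl Lrfl
theorem f20200 : Led Lsl_gt (LP (LK LD1_c0 LD2_c4 LD3_c26)) = (LP (LK LD1_c0 LD2_c9 LD3_c25)) :=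
  Lre_g IH (LK LD1_c0 LD2_c4 LD3_c26) (LK LD1_c0 LD2_c9 LD3_c25) Lrfl Lrfl
theorem f14991 : Led Lsl_ct (LP (LK LD1_c0 LD2_c9 LD3_c25)) = (LP (LK LD1_c0 LD2_c20 LD3_c45)) :=
  Lre_c IH (LK LD1_c0 LD2_c9 LD3_c25) (LK LD1_c0 LD2_c20 LD3_c45) Lrfl Lrfl
theorem f91953 : Led Lsl_dt (LP (LK LD1_c0 LD2_c46 LD3_c12)) = (LP (LK LD1_c0 LD2_c20 LD3_c45)) :=
  Lre_d IH (LK LD1_c0 LD2_c46 LD3_c12) (LK LD1_c0 LD2_c20 LD3_c45) Lrfl Lrfl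
theorem f91954 : Led Lsl_ct (LP (LK LD1_c1 LD2_c39 LD3_c25)) = (LP (LK LD1_c0 LD2_c46 LD3_c12)) :=
  Lre_c IH (LK LD1_c1 LD2_c39 LD3_c25) (LK LD1_c0 LD2_c46 LD3_c12) Lrfl Lrfl
theorem f91955 : Led Lsl_gt (LP (LK LD1_c1 LD2_c32 LD3_c52)) = (LP (LK LD1_c1 LD2_c39 LD3_c25)) :=
  Lgr Lrot150 (Lpe (K1.f59462 IH) (Lpr_gf (f91947 IH) (Lpe (f13519 IH) (Lpr_gt (f11975 IH) (Lpr_ct (f11974 IH) (Lpr_gt (f20200 IH) (Lpr_ct (f14991 IH) (Lpe (f91953 IH) (Lpe (f91954 IH) (Lpn (LP (LK LD1_c1 LD2_c39 LD3_c25))))))))))))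
theorem f91976 : Led Lsl_gf (LP (LK LD1_c3 LD2_c6 LD3_c52)) = (LP (LK LD1_c1 LD2_c39 LD3_c25)) :=
  Lgr Lrot76 (Lpe (K1.f66837 IH) (Lpr_ff (K1.f66838 IH) (Lpr_gt (f91955 IH) (Lpn (LP (LK LD1_c1 LD2_c39 LD3_c25))))))
theorem f91962 : Led Lsl_ct (LP (LK LD1_c0 LD2_c46 LD3_c12)) = (LP (LK LD1_c1 LD2_c39 LD3_c25)) :=
  Lre_c IH (LK LD1_c0 LD2_c46 LD3_c12) (LK LD1_c1 LD2_c39 LD3_c25) Lrfl Lrfl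
theorem f94205 : Led Lsl_gt (LP (LK LD1_c1 LD2_c33 LD3_c33)) = (LP (LK LD1_c0 LD2_c46 LD3_c12)) :=
  Lgr Lrot9 (Lpr_df (f94200 IH) (Lpr_gt (f87555 IH) (Lpr_ct (f17665 IH) (Lpr_gt (f18160 IH) (Lpe (K1.f66827 IH) (Lpe (f66840 IH) (Lpe (K1.f66841 IH) (Lpr_gf (f91976 IH) (Lpe (f91962 IH) (Lpn (LP (LK LD1_c0 LD2_c46 LD3_c12))))))))))))
theorem f9775 : Led Lsl_et (LP (LK LD1_c0 LD2_c20 LD3_c25)) = (LP (LK LD1_c0 LD2_c9 LD3_c27)) :=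
  Lre_e IH (LK LD1_c0 LD2_c20 LD3_c25) (LK LD1_c0 LD2_c9 LD3_c27) Lrfl Lrfl
theorem f9777 : Led Lsl_bf (LP (LK LD1_c0 LD2_c20 LD3_c25)) = (LP (LK LD1_c0 LD2_c20 LD3_c25)) :=
  Lgr Lrot96 (Lpr_et (f9775 IH) (Lpr_bt (K0.f9761 IH) (Lpr_et (f9776 IH) (Lpn (LP (LK LD1_c0 LD2_c20 LD3_c25))))))
theorem f87515 : Led Lsl_gt (LP (LK LD1_c0 LD2_c47 LD3_c50)) = (LP (LK LD1_c1 LD2_c37 LD3_c46)) :=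
  Lgr Lrot149 (Lpe (f12107 IH) (Lpr_gf (f19164 IH) (Lpr_bf (f9777 IH) (Lpe (K1.f66827 IH) (Lpr_gf (f66825 IH) (Lpr_cf (f84685 IH) (Lpe (f84671 IH) (Lpe (f84720 IH) (Lpe (f84730 IH) (Lpr_ct (f87511 IH) (Lpn (LP (LK LD1_c1 LD2_c37 LD3_c46)))))))))))))
theorem f14988 : Led Lsl_dt (LP (LK LD1_c0 LD2_c20 LD3_c46)) = (LP (LK LD1_c0 LD2_c9 LD3_c25)) :=
  Lre_d IH (LK LD1_c0 LD2_c20 LD3_c46) (LK LD1_c0 LD2_c9 LD3_c25) Lrfl Lrfl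
theorem f94208 : Led Lsl_gt (LP (LK LD1_c0 LD2_c21 LD3_c16)) = (LP (LK LD1_c0 LD2_c20 LD3_c46)) :=
  Lgr Lrot49 (Lpe (K1.f18058 IH) (Lpe (f12082 IH) (Lpe (f12089 IH) (Lpr_gt (f87515 IH) (Lpe (f94200 IH) (Lpr_gt (f94205 IH) (Lpr_dt (f91953 IH) (Lpe (f14991 IH) (Lpe (f14988 IH) (Lpn (LP (LK LD1_c0 LD2_c20 LD3_c46))))))))))))
theorem f18139 : Led Lsl_et (LP (LK LD1_c0 LD2_c47 LD3_c51)) = (LP (LK LD1_c0 LD2_c21 LD3_c24)) :=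
  Lre_e IH (LK LD1_c0 LD2_c47 LD3_c51) (LK LD1_c0 LD2_c21 LD3_c24) Lrfl Lrfl
theorem f18140 : Led Lsl_dt (LP (LK LD1_c0 LD2_c47 LD3_c51)) = (LP (LK LD1_c1 LD2_c42 LD3_c34)) :=
  Lre_d IH (LK LD1_c0 LD2_c47 LD3_c51) (LK LD1_c1 LD2_c42 LD3_c34) Lrfl Lrfl
theorem f18133 : Led Lsl_et (LP (LK LD1_c0 LD2_c21 LD3_c27)) = (LP (LK LD1_c0 LD2_c9 LD3_c41)) :=
  Lre_e IH (LK LD1_c0 LD2_c21 LD3_c27) (LK LD1_c0 LD2_c9 LD3_c41) Lrfl Lrfl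
theorem f18068 : Led Lsl_dt (LP (LK LD1_c0 LD2_c21 LD3_c27)) = (LP (LK LD1_c0 LD2_c47 LD3_c55)) :=
  Lre_d IH (LK LD1_c0 LD2_c21 LD3_c27) (LK LD1_c0 LD2_c47 LD3_c55) Lrfl Lrfl
theorem f64365 : Led Lsl_gf (LP (LK LD1_c0 LD2_c47 LD3_c55)) = (LP (LK LD1_c1 LD2_c42 LD3_c34)) :=
  Lgr Lrot145 (Lpe (f18068 IH) (Lpr_et (f18133 IH) (Lpr_gt (K1.f12690 IH) (Lpr_dt (K1.f64346 IH) (Lpe (K0.f14630 IH) (Lpe (K0.f9772 IH) (Lpr_et (f9776 IH) (Lpe (f19164 IH) (Lpe (f18139 IH) (Lpr_dt (f18140 IH) (Lpn (LP (LK LD1_c1 LD2_c42 LD3_c34)))))))))))))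
theorem f18106 : Led Lsl_at (LP (LK LD1_c1 LD2_c42 LD3_c35)) = (LP (LK LD1_c0 LD2_c47 LD3_c55)) :=
  Lre_a IH (LK LD1_c1 LD2_c42 LD3_c35) (LK LD1_c0 LD2_c47 LD3_c55) Lrfl Lrfl
theorem f64367 : Led Lsl_gt (LP (LK LD1_c1 LD2_c39 LD3_c18)) = (LP (LK LD1_c1 LD2_c42 LD3_c34)) :=
  Lgr Lrot5 (Lpe (f19168 IH) (Lpr_at (f18106 IH) (Lpr_gf (f64365 IH) (Lpn (LP (LK LD1_c1 LD2_c42 LD3_c34))))))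
theorem f9811 : Led Lsl_gt (LP (LK LD1_c0 LD2_c9 LD3_c25)) = (LP (LK LD1_c0 LD2_c20 LD3_c42)) :=
  Lre_g IH (LK LD1_c0 LD2_c9 LD3_c25) (LK LD1_c0 LD2_c20 LD3_c42) Lrfl Lrfl
theorem f20201 : Led Lsl_dt (LP (LK LD1_c0 LD2_c9 LD3_c25)) = (LP (LK LD1_c0 LD2_c20 LD3_c46)) :=
  Lre_d IH (LK LD1_c0 LD2_c9 LD3_c25) (LK LD1_c0 LD2_c20 LD3_c46) Lrfl Lrfl
theorem f94229 : Led Lsl_ef (LP (LK LD1_c0 LD2_c9 LD3_c25)) = (LP (LK LD1_c0 LD2_c9 LD3_c25)) :=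
  Lgr Lrot114 (Lpr_gt (f9811 IH) (Lpe (K0.f9794 IH) (Lpr_dt (f9823 IH) (Lpr_gt (f64367 IH) (Lpe (f18140 IH) (Lpr_et (f18139 IH) (Lpr_gt (f12082 IH) (Lpr_dt (K1.f18058 IH) (Lpr_gt (f94208 IH) (Lpe (f20201 IH) (Lpn (LP (LK LD1_c0 LD2_c9 LD3_c25)))))))))))))
theorem f13506 : Led Lsl_ct (LP (LK LD1_c0 LD2_c20 LD3_c45)) = (LP (LK LD1_c0 LD2_c9 LD3_c25)) :=
  Lre_c IH (LK LD1_c0 LD2_c20 LD3_c45) (LK LD1_c0 LD2_c9 LD3_c25) Lrfl Lrfl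
theorem f94238 : Led Lsl_et (LP (LK LD1_c0 LD2_c20 LD3_c45)) = (LP (LK LD1_c0 LD2_c20 LD3_c45)) :=
  Lgr Lrot158 (Lpe (f14991 IH) (Lpr_ef (f94229 IH) (Lpe (f13506 IH) (Lpn (LP (LK LD1_c0 LD2_c20 LD3_c45))))))
theorem f91957 : Led Lsl_dt (LP (LK LD1_c0 LD2_c20 LD3_c45)) = (LP (LK LD1_c0 LD2_c46 LD3_c12)) :=
  Lre_d IH (LK LD1_c0 LD2_c20 LD3_c45) (LK LD1_c0 LD2_c46 LD3_c12) Lrfl Lrfl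
theorem f14989 : Led Lsl_gt (LP (LK LD1_c0 LD2_c20 LD3_c45)) = (LP (LK LD1_c0 LD2_c46 LD3_c10)) :=
  Lre_g IH (LK LD1_c0 LD2_c20 LD3_c45) (LK LD1_c0 LD2_c46 LD3_c10) Lrfl Lrfl
theorem f14990 : Led Lsl_dt (LP (LK LD1_c0 LD2_c46 LD3_c10)) = (LP (LK LD1_c1 LD2_c39 LD3_c22)) :=
  Lre_d IH (LK LD1_c0 LD2_c46 LD3_c10) (LK LD1_c1 LD2_c39 LD3_c22) Lrfl Lrfl
theorem f15851 : Led Lsl_ct (LP (LK LD1_c0 LD2_c45 LD3_c45)) = (LP (LK LD1_c1 LD2_c38 LD3_c40)) :=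
  Lre_c IH (LK LD1_c0 LD2_c45 LD3_c45) (LK LD1_c1 LD2_c38 LD3_c40) Lrfl Lrfl
theorem f18280 : Led Lsl_et (LP (LK LD1_c6 LD2_c10 LD3_c11)) = (LP (LK LD1_c12 LD2_c1 LD3_c16)) :=
  Lre_e IH (LK LD1_c6 LD2_c10 LD3_c11) (LK LD1_c12 LD2_c1 LD3_c16) Lrfl Lrfl
theorem f18281 : Led Lsl_ct (LP (LK LD1_c12 LD2_c1 LD3_c16)) = (LP (LK LD1_c13 LD2_c3 LD3_c20)) :=
  Lgr Lrot15 (Lpe (f18280 IH) (Lpr_cf (f18271 IH) (Lpe (f18265 IH) (Lpn (LP (LK LD1_c13 LD2_c3 LD3_c20))))))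
theorem f18296 : Led Lsl_cf (LP (LK LD1_c12 LD2_c1 LD3_c16)) = (LP (LK LD1_c13 LD2_c3 LD3_c20)) :=
  Lgr Lrot11 (Lpr_ct (f18281 IH) (Lpn (LP (LK LD1_c13 LD2_c3 LD3_c20))))
theorem f18300 : Led Lsl_bt (LP (LK LD1_c12 LD2_c1 LD3_c16)) = (LP (LK LD1_c6 LD2_c10 LD3_c13)) :=
  Lre_b IH (LK LD1_c12 LD2_c1 LD3_c16) (LK LD1_c6 LD2_c10 LD3_c13) Lrfl Lrfl
theorem f18302 : Led Lsl_ct (LP (LK LD1_c6 LD2_c10 LD3_c13)) = (LP (LK LD1_c3 LD2_c30 LD3_c18)) :=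
  Lre_c IH (LK LD1_c6 LD2_c10 LD3_c13) (LK LD1_c3 LD2_c30 LD3_c18) Lrfl Lrfl
theorem f18303 : Led Lsl_bt (LP (LK LD1_c6 LD2_c51 LD3_c56)) = (LP (LK LD1_c13 LD2_c3 LD3_c20)) :=
  Lre_b IH (LK LD1_c6 LD2_c51 LD3_c56) (LK LD1_c13 LD2_c3 LD3_c20) Lrfl Lrfl
theorem f18305 : Led Lsl_bt (LP (LK LD1_c3 LD2_c30 LD3_c18)) = (LP (LK LD1_c3 LD2_c24 LD3_c44)) :=
  Lgr Lrot128 (Lpe (f18302 IH) (Lpe (f18300 IH) (Lpr_cf (f18296 IH) (Lpe (f18303 IH) (Lpe (f18304 IH) (Lpn (LP (LK LD1_c3 LD2_c24 LD3_c44))))))))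
theorem f18310 : Led Lsl_dt (LP (LK LD1_c7 LD2_c2 LD3_c24)) = (LP (LK LD1_c3 LD2_c30 LD3_c18)) :=
  Lre_d IH (LK LD1_c7 LD2_c2 LD3_c24) (LK LD1_c3 LD2_c30 LD3_c18) Lrfl Lrfl
theorem f18311 : Led Lsl_dt (LP (LK LD1_c3 LD2_c24 LD3_c44)) = (LP (LK LD1_c6 LD2_c51 LD3_c57)) :=
  Lre_d IH (LK LD1_c3 LD2_c24 LD3_c44) (LK LD1_c6 LD2_c51 LD3_c57) Lrfl Lrfl
theorem f18312 : Led Lsl_bf (LP (LK LD1_c7 LD2_c2 LD3_c24)) = (LP (LK LD1_c6 LD2_c51 LD3_c57)) :=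
  Lgr Lrot93 (Lpr_dt (f18310 IH) (Lpr_bt (f18305 IH) (Lpr_dt (f18311 IH) (Lpn (LP (LK LD1_c6 LD2_c51 LD3_c57))))))
theorem f18326 : Led Lsl_et (LP (LK LD1_c7 LD2_c2 LD3_c24)) = (LP (LK LD1_c3 LD2_c30 LD3_c34)) :=
  Lre_e IH (LK LD1_c7 LD2_c2 LD3_c24) (LK LD1_c3 LD2_c30 LD3_c34) Lrfl Lrfl
theorem f18327 : Led Lsl_et (LP (LK LD1_c3 LD2_c24 LD3_c47)) = (LP (LK LD1_c6 LD2_c51 LD3_c57)) :=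
  Lre_e IH (LK LD1_c3 LD2_c24 LD3_c47) (LK LD1_c6 LD2_c51 LD3_c57) Lrfl Lrfl
theorem f18328 : Led Lsl_bt (LP (LK LD1_c3 LD2_c30 LD3_c34)) = (LP (LK LD1_c3 LD2_c24 LD3_c47)) :=
  Lgr Lrot119 (Lpe (f18326 IH) (Lpr_bf (f18312 IH) (Lpe (f18327 IH) (Lpn (LP (LK LD1_c3 LD2_c24 LD3_c47))))))
theorem f18358 : Led Lsl_ft (LP (LK LD1_c7 LD2_c2 LD3_c61)) = (LP (LK LD1_c3 LD2_c30 LD3_c34)) :=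
  Lre_f IH (LK LD1_c7 LD2_c2 LD3_c61) (LK LD1_c3 LD2_c30 LD3_c34) Lrfl Lrfl
theorem f18359 : Led Lsl_ft (LP (LK LD1_c3 LD2_c24 LD3_c47)) = (LP (LK LD1_c6 LD2_c52 LD3_c5)) :=
  Lre_f IH (LK LD1_c3 LD2_c24 LD3_c47) (LK LD1_c6 LD2_c52 LD3_c5) Lrfl Lrfl
theorem f18360 : Led Lsl_bf (LP (LK LD1_c7 LD2_c2 LD3_c61)) = (LP (LK LD1_c6 LD2_c52 LD3_c5)) :=
  Lgr Lrot61 (Lpr_ft (f18358 IH) (Lpr_bt (f18328 IH) (Lpr_ft (f18359 IH) (Lpn (LP (LK LD1_c6 LD2_c52 LD3_c5))))))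
theorem f18388 : Led Lsl_dt (LP (LK LD1_c7 LD2_c2 LD3_c61)) = (LP (LK LD1_c3 LD2_c30 LD3_c31)) :=
  Lre_d IH (LK LD1_c7 LD2_c2 LD3_c61) (LK LD1_c3 LD2_c30 LD3_c31) Lrfl Lrfl
theorem f18210 : Led Lsl_dt (LP (LK LD1_c3 LD2_c24 LD3_c48)) = (LP (LK LD1_c6 LD2_c52 LD3_c5)) :=
  Lre_d IH (LK LD1_c3 LD2_c24 LD3_c48) (LK LD1_c6 LD2_c52 LD3_c5) Lrfl Lrfl
theorem f18389 : Led Lsl_bt (LP (LK LD1_c3 LD2_c30 LD3_c31)) = (LP (LK LD1_c3 LD2_c24 LD3_c48)) :=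
  Lgr Lrot95 (Lpe (f18388 IH) (Lpr_bf (f18360 IH) (Lpe (f18210 IH) (Lpn (LP (LK LD1_c3 LD2_c24 LD3_c48))))))
theorem f18543 : Led Lsl_ct (LP (LK LD1_c1 LD2_c42 LD3_c1)) = (LP (LK LD1_c3 LD2_c30 LD3_c31)) :=
  Lre_c IH (LK LD1_c1 LD2_c42 LD3_c1) (LK LD1_c3 LD2_c30 LD3_c31) Lrfl Lrfl
theorem f18544 : Led Lsl_bt (LP (LK LD1_c0 LD2_c47 LD3_c47)) = (LP (LK LD1_c1 LD2_c42 LD3_c1)) :=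
  Lre_b IH (LK LD1_c0 LD2_c47 LD3_c47) (LK LD1_c1 LD2_c42 LD3_c1) Lrfl Lrfl
theorem f15786 : Led Lsl_bt (LP (LK LD1_c1 LD2_c38 LD3_c52)) = (LP (LK LD1_c0 LD2_c45 LD3_c52)) :=
  Lre_b IH (LK LD1_c1 LD2_c38 LD3_c52) (LK LD1_c0 LD2_c45 LD3_c52) Lrfl Lrfl
theorem f18545 : Led Lsl_cf (LP (LK LD1_c0 LD2_c47 LD3_c47)) = (LP (LK LD1_c0 LD2_c45 LD3_c52)) :=
  Lgr Lrot97 (Lpr_bt (f18544 IH) (Lpr_ct (f18543 IH) (Lpr_bt (f18389 IH) (Lpr_ct (K1.f15787 IH) (Lpr_bt (f15786 IH) (Lpn (LP (LK LD1_c0 LD2_c45 LD3_c52))))))))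
theorem f18556 : Led Lsl_ct (LP (LK LD1_c0 LD2_c47 LD3_c47)) = (LP (LK LD1_c0 LD2_c45 LD3_c52)) :=
  Lgr Lrot59 (Lpr_cf (f18545 IH) (Lpn (LP (LK LD1_c0 LD2_c45 LD3_c52))))
theorem f18564 : Led Lsl_ft (LP (LK LD1_c0 LD2_c21 LD3_c21)) = (LP (LK LD1_c0 LD2_c47 LD3_c47)) :=
  Lre_f IH (LK LD1_c0 LD2_c21 LD3_c21) (LK LD1_c0 LD2_c47 LD3_c47) Lrfl Lrfl
theorem f11423 : Led Lsl_ft (LP (LK LD1_c0 LD2_c45 LD3_c52)) = (LP (LK LD1_c0 LD2_c20 LD3_c27)) :=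
  Lre_f IH (LK LD1_c0 LD2_c45 LD3_c52) (LK LD1_c0 LD2_c20 LD3_c27) Lrfl Lrfl
theorem f18565 : Led Lsl_cf (LP (LK LD1_c0 LD2_c21 LD3_c21)) = (LP (LK LD1_c0 LD2_c20 LD3_c27)) :=
  Lgr Lrot108 (Lpr_ft (f18564 IH) (Lpr_ct (f18556 IH) (Lpr_ft (f11423 IH) (Lpn (LP (LK LD1_c0 LD2_c20 LD3_c27))))))
theorem f18570 : Led Lsl_bt (LP (LK LD1_c0 LD2_c21 LD3_c21)) = (LP (LK LD1_c0 LD2_c47 LD3_c31)) :=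
  Lre_b IH (LK LD1_c0 LD2_c21 LD3_c21) (LK LD1_c0 LD2_c47 LD3_c31) Lrfl Lrfl
theorem f18571 : Led Lsl_ct (LP (LK LD1_c0 LD2_c47 LD3_c31)) = (LP (LK LD1_c1 LD2_c41 LD3_c54)) :=
  Lre_c IH (LK LD1_c0 LD2_c47 LD3_c31) (LK LD1_c1 LD2_c41 LD3_c54) Lrfl Lrfl
theorem f15777 : Led Lsl_bt (LP (LK LD1_c0 LD2_c45 LD3_c49)) = (LP (LK LD1_c0 LD2_c20 LD3_c27)) :=
  Lre_b IH (LK LD1_c0 LD2_c45 LD3_c49) (LK LD1_c0 LD2_c20 LD3_c27) Lrfl Lrfl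
theorem f18572 : Led Lsl_ct (LP (LK LD1_c1 LD2_c38 LD3_c49)) = (LP (LK LD1_c0 LD2_c45 LD3_c49)) :=
  Lre_c IH (LK LD1_c1 LD2_c38 LD3_c49) (LK LD1_c0 LD2_c45 LD3_c49) Lrfl Lrfl
theorem f18573 : Led Lsl_bt (LP (LK LD1_c1 LD2_c41 LD3_c54)) = (LP (LK LD1_c1 LD2_c38 LD3_c49)) :=
  Lgr Lrot128 (Lpe (f18571 IH) (Lpe (f18570 IH) (Lpr_cf (f18565 IH) (Lpe (f15777 IH) (Lpe (f18572 IH) (Lpn (LP (LK LD1_c1 LD2_c38 LD3_c49))))))))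
theorem f18594 : Led Lsl_et (LP (LK LD1_c0 LD2_c47 LD3_c27)) = (LP (LK LD1_c1 LD2_c41 LD3_c54)) :=
  Lre_e IH (LK LD1_c0 LD2_c47 LD3_c27) (LK LD1_c1 LD2_c41 LD3_c54) Lrfl Lrfl
theorem f18595 : Led Lsl_bf (LP (LK LD1_c0 LD2_c47 LD3_c27)) = (LP (LK LD1_c0 LD2_c45 LD3_c48)) :=
  Lgr Lrot96 (Lpr_et (f18594 IH) (Lpr_bt (f18573 IH) (Lpr_et (K1.f18217 IH) (Lpn (LP (LK LD1_c0 LD2_c45 LD3_c48))))))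
theorem f18611 : Led Lsl_at (LP (LK LD1_c0 LD2_c47 LD3_c27)) = (LP (LK LD1_c1 LD2_c40 LD3_c45)) :=
  Lre_a IH (LK LD1_c0 LD2_c47 LD3_c27) (LK LD1_c1 LD2_c40 LD3_c45) Lrfl Lrfl
theorem f18612 : Led Lsl_bt (LP (LK LD1_c1 LD2_c40 LD3_c45)) = (LP (LK LD1_c3 LD2_c28 LD3_c15)) :=
  Lre_b IH (LK LD1_c1 LD2_c40 LD3_c45) (LK LD1_c3 LD2_c28 LD3_c15) Lrfl Lrfl
theorem f15854 : Led Lsl_bt (LP (LK LD1_c3 LD2_c24 LD3_c27)) = (LP (LK LD1_c1 LD2_c38 LD3_c40)) :=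
  Lre_b IH (LK LD1_c3 LD2_c24 LD3_c27) (LK LD1_c1 LD2_c38 LD3_c40) Lrfl Lrfl
theorem f18613 : Led Lsl_at (LP (LK LD1_c3 LD2_c28 LD3_c15)) = (LP (LK LD1_c3 LD2_c24 LD3_c27)) :=
  Lgr Lrot67 (Lpe (f18612 IH) (Lpe (f18611 IH) (Lpr_bf (f18595 IH) (Lpe (f18222 IH) (Lpe (f15854 IH) (Lpn (LP (LK LD1_c3 LD2_c24 LD3_c27))))))))
theorem f18624 : Led Lsl_ft (LP (LK LD1_c1 LD2_c41 LD3_c15)) = (LP (LK LD1_c3 LD2_c28 LD3_c15)) :=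
  Lre_f IH (LK LD1_c1 LD2_c41 LD3_c15) (LK LD1_c3 LD2_c28 LD3_c15) Lrfl Lrfl
theorem f18625 : Led Lsl_at (LP (LK LD1_c3 LD2_c29 LD3_c2)) = (LP (LK LD1_c1 LD2_c41 LD3_c15)) :=
  Lre_a IH (LK LD1_c3 LD2_c29 LD3_c2) (LK LD1_c1 LD2_c41 LD3_c15) Lrfl Lrfl
theorem f18626 : Led Lsl_ff (LP (LK LD1_c3 LD2_c29 LD3_c2)) = (LP (LK LD1_c3 LD2_c24 LD3_c27)) :=
  Lgr Lrot30 (Lpr_at (f18625 IH) (Lpr_ft (f18624 IH) (Lpr_at (f18613 IH) (Lpn (LP (LK LD1_c3 LD2_c24 LD3_c27))))))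
theorem f18645 : Led Lsl_ft (LP (LK LD1_c3 LD2_c29 LD3_c2)) = (LP (LK LD1_c3 LD2_c24 LD3_c27)) :=
  Lgr Lrot48 (Lpr_ff (f18626 IH) (Lpn (LP (LK LD1_c3 LD2_c24 LD3_c27))))
theorem f18085 : Led Lsl_bt (LP (LK LD1_c1 LD2_c41 LD3_c44)) = (LP (LK LD1_c3 LD2_c29 LD3_c2)) :=
  Lre_b IH (LK LD1_c1 LD2_c41 LD3_c44) (LK LD1_c3 LD2_c29 LD3_c2) Lrfl Lrfl
theorem f18657 : Led Lsl_ff (LP (LK LD1_c1 LD2_c41 LD3_c44)) = (LP (LK LD1_c1 LD2_c38 LD3_c40)) :=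
  Lgr Lrot25 (Lpr_bt (f18085 IH) (Lpr_ft (f18645 IH) (Lpr_bt (f15854 IH) (Lpn (LP (LK LD1_c1 LD2_c38 LD3_c40))))))
theorem f11440 : Led Lsl_at (LP (LK LD1_c1 LD2_c41 LD3_c44)) = (LP (LK LD1_c0 LD2_c47 LD3_c24)) :=
  Lre_a IH (LK LD1_c1 LD2_c41 LD3_c44) (LK LD1_c0 LD2_c47 LD3_c24) Lrfl Lrfl
theorem f19038 : Led Lsl_gf (LP (LK LD1_c1 LD2_c41 LD3_c22)) = (LP (LK LD1_c1 LD2_c38 LD3_c40)) :=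
  Lgr Lrot47 (Lpe (K1.f11435 IH) (Lpe (f11440 IH) (Lpr_ff (f18657 IH) (Lpn (LP (LK LD1_c1 LD2_c38 LD3_c40))))))
theorem f11973 : Led Lsl_dt (LP (LK LD1_c0 LD2_c4 LD3_c26)) = (LP (LK LD1_c0 LD2_c9 LD3_c28)) :=
  Lre_d IH (LK LD1_c0 LD2_c4 LD3_c26) (LK LD1_c0 LD2_c9 LD3_c28) Lrfl Lrfl
theorem f15010 : Led Lsl_gt (LP (LK LD1_c1 LD2_c40 LD3_c15)) = (LP (LK LD1_c0 LD2_c46 LD3_c37)) :=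
  Lre_g IH (LK LD1_c1 LD2_c40 LD3_c15) (LK LD1_c0 LD2_c46 LD3_c37) Lrfl Lrfl
theorem f90885 : Led Lsl_dt (LP (LK LD1_c1 LD2_c41 LD3_c22)) = (LP (LK LD1_c1 LD2_c40 LD3_c15)) :=
  Lgr Lrot57 (Lpr_gf (f19038 IH) (Lpe (f15851 IH) (Lpr_gt (f90881 IH) (Lpr_dt (f14609 IH) (Lpr_gt (f12340 IH) (Lpr_dt (f11973 IH) (Lpe (K0.f9878 IH) (Lpe (K0.f14555 IH) (Lpe (f15010 IH) (Lpn (LP (LK LD1_c1 LD2_c40 LD3_c15))))))))))))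
theorem f18985 : Led Lsl_et (LP (LK LD1_c3 LD2_c24 LD3_c29)) = (LP (LK LD1_c1 LD2_c38 LD3_c40)) :=
  Lre_e IH (LK LD1_c3 LD2_c24 LD3_c29) (LK LD1_c1 LD2_c38 LD3_c40) Lrfl Lrfl
theorem f19041 : Led Lsl_dt (LP (LK LD1_c3 LD2_c24 LD3_c29)) = (LP (LK LD1_c6 LD2_c51 LD3_c36)) :=
  Lre_d IH (LK LD1_c3 LD2_c24 LD3_c29) (LK LD1_c6 LD2_c51 LD3_c36) Lrfl Lrfl
theorem f11970 : Led Lsl_dt (LP (LK LD1_c0 LD2_c20 LD3_c55)) = (LP (LK LD1_c0 LD2_c46 LD3_c37)) :=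
  Lre_d IH (LK LD1_c0 LD2_c20 LD3_c55) (LK LD1_c0 LD2_c46 LD3_c37) Lrfl Lrfl
theorem f17010 : Led Lsl_et (LP (LK LD1_c0 LD2_c20 LD3_c55)) = (LP (LK LD1_c0 LD2_c46 LD3_c38)) :=
  Lre_e IH (LK LD1_c0 LD2_c20 LD3_c55) (LK LD1_c0 LD2_c46 LD3_c38) Lrfl Lrfl
theorem f15685 : Led Lsl_gt (LP (LK LD1_c0 LD2_c46 LD3_c38)) = (LP (LK LD1_c1 LD2_c40 LD3_c18)) :=
  Lre_g IH (LK LD1_c0 LD2_c46 LD3_c38) (LK LD1_c1 LD2_c40 LD3_c18) Lrfl Lrfl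
theorem f15321 : Led Lsl_et (LP (LK LD1_c3 LD2_c27 LD3_c24)) = (LP (LK LD1_c1 LD2_c40 LD3_c18)) :=
  Lre_e IH (LK LD1_c3 LD2_c27 LD3_c24) (LK LD1_c1 LD2_c40 LD3_c18) Lrfl Lrfl
theorem f15322 : Led Lsl_dt (LP (LK LD1_c3 LD2_c27 LD3_c24)) = (LP (LK LD1_c6 LD2_c56 LD3_c55)) :=
  Lre_d IH (LK LD1_c3 LD2_c27 LD3_c24) (LK LD1_c6 LD2_c56 LD3_c55) Lrfl Lrfl
theorem f90895 : Led Lsl_gf (LP (LK LD1_c6 LD2_c51 LD3_c36)) = (LP (LK LD1_c6 LD2_c56 LD3_c55)) :=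
  Lgr Lrot145 (Lpe (f19041 IH) (Lpr_et (f18985 IH) (Lpe (f19038 IH) (Lpr_dt (f90885 IH) (Lpr_gt (f15010 IH) (Lpe (f11970 IH) (Lpr_et (f17010 IH) (Lpr_gt (f15685 IH) (Lpe (f15321 IH) (Lpr_dt (f15322 IH) (Lpn (LP (LK LD1_c6 LD2_c56 LD3_c55)))))))))))))
theorem f18342 : Led Lsl_at (LP (LK LD1_c3 LD2_c24 LD3_c47)) = (LP (LK LD1_c6 LD2_c51 LD3_c36)) :=
  Lre_a IH (LK LD1_c3 LD2_c24 LD3_c47) (LK LD1_c6 LD2_c51 LD3_c36) Lrfl Lrfl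
theorem f19057 : Led Lsl_ft (LP (LK LD1_c6 LD2_c52 LD3_c5)) = (LP (LK LD1_c3 LD2_c24 LD3_c47)) :=
  Lre_f IH (LK LD1_c6 LD2_c52 LD3_c5) (LK LD1_c3 LD2_c24 LD3_c47) Lrfl Lrfl
theorem f90900 : Led Lsl_gt (LP (LK LD1_c6 LD2_c52 LD3_c5)) = (LP (LK LD1_c6 LD2_c56 LD3_c55)) :=
  Lgr Lrot5 (Lpr_ft (f19057 IH) (Lpr_at (f18342 IH) (Lpr_gf (f90895 IH) (Lpn (LP (LK LD1_c6 LD2_c56 LD3_c55))))))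
theorem f18182 : Led Lsl_ct (LP (LK LD1_c3 LD2_c30 LD3_c11)) = (LP (LK LD1_c1 LD2_c42 LD3_c11)) :=
  Lre_c IH (LK LD1_c3 LD2_c30 LD3_c11) (LK LD1_c1 LD2_c42 LD3_c11) Lrfl Lrfl
theorem f15789 : Led Lsl_ct (LP (LK LD1_c1 LD2_c38 LD3_c52)) = (LP (LK LD1_c3 LD2_c24 LD3_c48)) :=
  Lre_c IH (LK LD1_c1 LD2_c38 LD3_c52) (LK LD1_c3 LD2_c24 LD3_c48) Lrfl Lrfl
theorem f18183 : Led Lsl_ef (LP (LK LD1_c3 LD2_c30 LD3_c11)) = (LP (LK LD1_c3 LD2_c24 LD3_c48)) :=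
  Lgr Lrot28 (Lpr_ct (f18182 IH) (Lpr_et (K1.f18169 IH) (Lpr_ct (f15789 IH) (Lpn (LP (LK LD1_c3 LD2_c24 LD3_c48))))))
theorem f19148 : Led Lsl_gt (LP (LK LD1_c7 LD2_c1 LD3_c53)) = (LP (LK LD1_c3 LD2_c30 LD3_c11)) :=
  Lre_g IH (LK LD1_c7 LD2_c1 LD3_c53) (LK LD1_c3 LD2_c30 LD3_c11) Lrfl Lrfl
theorem f15320 : Led Lsl_gt (LP (LK LD1_c1 LD2_c40 LD3_c18)) = (LP (LK LD1_c3 LD2_c26 LD3_c16)) :=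
  Lre_g IH (LK LD1_c1 LD2_c40 LD3_c18) (LK LD1_c3 LD2_c26 LD3_c16) Lrfl Lrfl
theorem f15300 : Led Lsl_gt (LP (LK LD1_c6 LD2_c54 LD3_c29)) = (LP (LK LD1_c3 LD2_c27 LD3_c29)) :=
  Lre_g IH (LK LD1_c6 LD2_c54 LD3_c29) (LK LD1_c3 LD2_c27 LD3_c29) Lrfl Lrfl
theorem f15301 : Led Lsl_dt (LP (LK LD1_c6 LD2_c57 LD3_c8)) = (LP (LK LD1_c3 LD2_c27 LD3_c29)) :=
  Lre_d IH (LK LD1_c6 LD2_c57 LD3_c8) (LK LD1_c3 LD2_c27 LD3_c29) Lrfl Lrfl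
theorem f90921 : Led Lsl_ef (LP (LK LD1_c7 LD2_c1 LD3_c53)) = (LP (LK LD1_c6 LD2_c57 LD3_c8)) :=
  Lgr Lrot114 (Lpr_gt (f19148 IH) (Lpr_ef (f18183 IH) (Lpr_dt (f18210 IH) (Lpr_gt (f90900 IH) (Lpe (f15322 IH) (Lpr_et (f15321 IH) (Lpr_gt (f15320 IH) (Lpr_dt (K0.f15295 IH) (Lpr_gt (f15300 IH) (Lpe (f15301 IH) (Lpn (LP (LK LD1_c6 LD2_c57 LD3_c8)))))))))))))
theorem f18727 : Led Lsl_gt (LP (LK LD1_c3 LD2_c30 LD3_c5)) = (LP (LK LD1_c7 LD2_c1 LD3_c53)) :=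
  Lre_g IH (LK LD1_c3 LD2_c30 LD3_c5) (LK LD1_c7 LD2_c1 LD3_c53) Lrfl Lrfl
theorem f18984 : Led Lsl_et (LP (LK LD1_c1 LD2_c41 LD3_c44)) = (LP (LK LD1_c3 LD2_c30 LD3_c5)) :=
  Lre_e IH (LK LD1_c1 LD2_c41 LD3_c44) (LK LD1_c3 LD2_c30 LD3_c5) Lrfl Lrfl
theorem f15464 : Led Lsl_gt (LP (LK LD1_c3 LD2_c27 LD3_c29)) = (LP (LK LD1_c1 LD2_c40 LD3_c20)) :=
  Lre_g IH (LK LD1_c3 LD2_c27 LD3_c29) (LK LD1_c1 LD2_c40 LD3_c20) Lrfl Lrfl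
theorem f15679 : Led Lsl_dt (LP (LK LD1_c0 LD2_c46 LD3_c38)) = (LP (LK LD1_c1 LD2_c40 LD3_c20)) :=
  Lre_d IH (LK LD1_c0 LD2_c46 LD3_c38) (LK LD1_c1 LD2_c40 LD3_c20) Lrfl Lrfl
theorem f90152 : Led Lsl_gt (LP (LK LD1_c1 LD2_c40 LD3_c9)) = (LP (LK LD1_c3 LD2_c27 LD3_c5)) :=
  Lre_g IH (LK LD1_c1 LD2_c40 LD3_c9) (LK LD1_c3 LD2_c27 LD3_c5) Lrfl Lrfl
theorem f90934 : Led Lsl_dt (LP (LK LD1_c1 LD2_c41 LD3_c44)) = (LP (LK LD1_c3 LD2_c27 LD3_c5)) :=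
  Lgr Lrot56 (Lpr_et (f18984 IH) (Lpr_gt (f18727 IH) (Lpr_ef (f90921 IH) (Lpr_dt (f15301 IH) (Lpr_gt (f15464 IH) (Lpe (f15679 IH) (Lpr_et (K0.f15623 IH) (Lpr_gt (f11951 IH) (Lpr_dt (f89848 IH) (Lpr_gt (f90152 IH) (Lpn (LP (LK LD1_c3 LD2_c27 LD3_c5)))))))))))))
theorem f90943 : Led Lsl_ff (LP (LK LD1_c3 LD2_c24 LD3_c28)) = (LP (LK LD1_c3 LD2_c27 LD3_c5)) :=
  Lgr Lrot19 (Lpr_dt (K1.f15859 IH) (Lpe (f18657 IH) (Lpr_dt (f90934 IH) (Lpn (LP (LK LD1_c3 LD2_c27 LD3_c5))))))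
theorem f90945 : Led Lsl_at (LP (LK LD1_c1 LD2_c41 LD3_c45)) = (LP (LK LD1_c3 LD2_c27 LD3_c5)) :=
  Lgr Lrot66 (Lpr_ff (f18245 IH) (Lpe (f18247 IH) (Lpr_ff (f90943 IH) (Lpn (LP (LK LD1_c3 LD2_c27 LD3_c5))))))
theorem f91291 : Led Lsl_gt (LP (LK LD1_c1 LD2_c38 LD3_c48)) = (LP (LK LD1_c1 LD2_c40 LD3_c9)) :=
  Lgr Lrot5 (Lpe (f18245 IH) (Lpr_at (f90945 IH) (Lpe (f90152 IH) (Lpn (LP (LK LD1_c1 LD2_c40 LD3_c9))))))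
theorem f66812 : Led Lsl_ct (LP (LK LD1_c0 LD2_c41 LD3_c25)) = (LP (LK LD1_c1 LD2_c29 LD3_c35)) :=
  Lre_c IH (LK LD1_c0 LD2_c41 LD3_c25) (LK LD1_c1 LD2_c29 LD3_c35) Lrfl Lrfl
theorem f15009 : Led Lsl_gt (LP (LK LD1_c3 LD2_c22 LD3_c52)) = (LP (LK LD1_c1 LD2_c38 LD3_c6)) :=
  Lre_g IH (LK LD1_c3 LD2_c22 LD3_c52) (LK LD1_c1 LD2_c38 LD3_c6) Lrfl Lrfl
theorem f77310 : Led Lsl_dt (LP (LK LD1_c1 LD2_c38 LD3_c6)) = (LP (LK LD1_c3 LD2_c23 LD3_c32)) :=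
  Lre_d IH (LK LD1_c1 LD2_c38 LD3_c6) (LK LD1_c3 LD2_c23 LD3_c32) Lrfl Lrfl
theorem f83732 : Led Lsl_gf (LP (LK LD1_c3 LD2_c6 LD3_c54)) = (LP (LK LD1_c3 LD2_c23 LD3_c32)) :=
  Lgr Lrot143 (Lpr_dt (f66858 IH) (Lpe (f66812 IH) (Lpe (f66811 IH) (Lpe (f68352 IH) (Lpr_df (f83720 IH) (Lpe (f77319 IH) (Lpe (K0.f14980 IH) (Lpr_gt (f15009 IH) (Lpr_dt (f77310 IH) (Lpn (LP (LK LD1_c3 LD2_c23 LD3_c32))))))))))))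
theorem f66866 : Led Lsl_af (LP (LK LD1_c3 LD2_c6 LD3_c54)) = (LP (LK LD1_c3 LD2_c30 LD3_c6)) :=
  Lgr Lrot0 (Lpr_at (f66864 IH) (Lpn (LP (LK LD1_c3 LD2_c30 LD3_c6))))
theorem f11443 : Led Lsl_ct (LP (LK LD1_c3 LD2_c30 LD3_c6)) = (LP (LK LD1_c1 LD2_c41 LD3_c45)) :=
  Lre_c IH (LK LD1_c3 LD2_c30 LD3_c6) (LK LD1_c1 LD2_c41 LD3_c45) Lrfl Lrfl
theorem f18241 : Led Lsl_ff (LP (LK LD1_c3 LD2_c30 LD3_c6)) = (LP (LK LD1_c3 LD2_c24 LD3_c43)) :=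
  Lgr Lrot23 (Lpr_ct (f11443 IH) (Lpr_ft (K1.f18226 IH) (Lpr_ct (f18150 IH) (Lpn (LP (LK LD1_c3 LD2_c24 LD3_c43))))))
theorem f83758 : Led Lsl_gt (LP (LK LD1_c3 LD2_c24 LD3_c43)) = (LP (LK LD1_c3 LD2_c23 LD3_c32)) :=
  Lgr Lrot5 (Lpe (f18241 IH) (Lpe (f66866 IH) (Lpr_gf (f83732 IH) (Lpn (LP (LK LD1_c3 LD2_c23 LD3_c32))))))
theorem f14578 : Led Lsl_dt (LP (LK LD1_c3 LD2_c23 LD3_c32)) = (LP (LK LD1_c1 LD2_c38 LD3_c6)) :=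
  Lre_d IH (LK LD1_c3 LD2_c23 LD3_c32) (LK LD1_c1 LD2_c38 LD3_c6) Lrfl Lrfl
theorem f14577 : Led Lsl_gt (LP (LK LD1_c1 LD2_c38 LD3_c6)) = (LP (LK LD1_c0 LD2_c45 LD3_c29)) :=
  Lre_g IH (LK LD1_c1 LD2_c38 LD3_c6) (LK LD1_c0 LD2_c45 LD3_c29) Lrfl Lrfl
theorem f91295 : Led Lsl_gf (LP (LK LD1_c0 LD2_c52 LD3_c54)) = (LP (LK LD1_c0 LD2_c46 LD3_c35)) :=
  Lgr Lrot143 (Lpr_dt (K0.f14579 IH) (Lpe (K0.f14531 IH) (Lpe (K0.f14552 IH) (Lpe (f14577 IH) (Lpe (f14578 IH) (Lpe (f83758 IH) (Lpe (f18150 IH) (Lpr_gt (f91291 IH) (Lpr_dt (f89968 IH) (Lpn (LP (LK LD1_c0 LD2_c46 LD3_c35))))))))))))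
theorem f18076 : Led Lsl_ct (LP (LK LD1_c0 LD2_c47 LD3_c52)) = (LP (LK LD1_c0 LD2_c21 LD3_c25)) :=
  Lre_c IH (LK LD1_c0 LD2_c47 LD3_c52) (LK LD1_c0 LD2_c21 LD3_c25) Lrfl Lrfl
theorem f66697 : Led Lsl_ct (LP (LK LD1_c3 LD2_c12 LD3_c46)) = (LP (LK LD1_c1 LD2_c32 LD3_c51)) :=
  Lre_c IH (LK LD1_c3 LD2_c12 LD3_c46) (LK LD1_c1 LD2_c32 LD3_c51) Lrfl Lrfl
theorem f18149 : Led Lsl_dt (LP (LK LD1_c0 LD2_c45 LD3_c48)) = (LP (LK LD1_c1 LD2_c38 LD3_c48)) :=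
  Lre_d IH (LK LD1_c0 LD2_c45 LD3_c48) (LK LD1_c1 LD2_c38 LD3_c48) Lrfl Lrfl
theorem f11055 : Led Lsl_ct (LP (LK LD1_c0 LD2_c20 LD3_c26)) = (LP (LK LD1_c0 LD2_c45 LD3_c48)) :=
  Lre_c IH (LK LD1_c0 LD2_c20 LD3_c26) (LK LD1_c0 LD2_c45 LD3_c48) Lrfl Lrfl
theorem f66821 : Led Lsl_ct (LP (LK LD1_c0 LD2_c18 LD3_c31)) = (LP (LK LD1_c0 LD2_c9 LD3_c12)) :=
  Lgr Lrot40 (Lpr_ff (K1.f66806 IH) (Lpe (K1.f12096 IH) (Lpr_ff (K1.f18135 IH) (Lpn (LP (LK LD1_c0 LD2_c9 LD3_c12))))))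
theorem f66847 : Led Lsl_ct (LP (LK LD1_c1 LD2_c29 LD3_c35)) = (LP (LK LD1_c0 LD2_c41 LD3_c25)) :=
  Lre_c IH (LK LD1_c1 LD2_c29 LD3_c35) (LK LD1_c0 LD2_c41 LD3_c25) Lrfl Lrfl
theorem f90941 : Led Lsl_cf (LP (LK LD1_c3 LD2_c6 LD3_c54)) = (LP (LK LD1_c3 LD2_c27 LD3_c5)) :=
  Lgr Lrot55 (Lpr_dt (f66858 IH) (Lpr_ct (f66847 IH) (Lpr_dt (f66803 IH) (Lpr_ct (f66821 IH) (Lpr_dt (K1.f18148 IH) (Lpr_ct (f11055 IH) (Lpr_dt (f18149 IH) (Lpr_ct (f18150 IH) (Lpe (f66692 IH) (Lpr_ct (f66697 IH) (Lpr_dt (f66658 IH) (Lpr_ct (f18076 IH) (Lpr_dt (f18065 IH) (Lpr_ct (f18077 IH) (Lpr_dt (f90934 IH) (Lpn (LP (LK LD1_c3 LD2_c27 LD3_c5))))))))))))))))))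
theorem f66670 : Led Lsl_cf (LP (LK LD1_c3 LD2_c12 LD3_c48)) = (LP (LK LD1_c3 LD2_c24 LD3_c28)) :=
  Lgr Lrot11 (Lpr_ct (K1.f66665 IH) (Lpn (LP (LK LD1_c3 LD2_c24 LD3_c28))))
theorem f90950 : Led Lsl_ct (LP (LK LD1_c3 LD2_c6 LD3_c54)) = (LP (LK LD1_c3 LD2_c27 LD3_c5)) :=
  Lgr Lrot40 (Lpr_ff (f66859 IH) (Lpr_cf (f66670 IH) (Lpr_ff (f90943 IH) (Lpn (LP (LK LD1_c3 LD2_c27 LD3_c5))))))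
theorem f14977 : Led Lsl_ct (LP (LK LD1_c0 LD2_c45 LD3_c29)) = (LP (LK LD1_c0 LD2_c20 LD3_c17)) :=
  Lre_c IH (LK LD1_c0 LD2_c45 LD3_c29) (LK LD1_c0 LD2_c20 LD3_c17) Lrfl Lrfl
theorem f69269 : Led Lsl_ct (LP (LK LD1_c0 LD2_c45 LD3_c27)) = (LP (LK LD1_c1 LD2_c38 LD3_c0)) :=
  Lre_c IH (LK LD1_c0 LD2_c45 LD3_c27) (LK LD1_c1 LD2_c38 LD3_c0) Lrfl Lrfl
theorem f83761 : Led Lsl_dt (LP (LK LD1_c1 LD2_c38 LD3_c0)) = (LP (LK LD1_c3 LD2_c23 LD3_c14)) :=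
  Lre_d IH (LK LD1_c1 LD2_c38 LD3_c0) (LK LD1_c3 LD2_c23 LD3_c14) Lrfl Lrfl
theorem f90977 : Led Lsl_gf (LP (LK LD1_c1 LD2_c40 LD3_c12)) = (LP (LK LD1_c3 LD2_c27 LD3_c5)) :=
  Lgr Lrot104 (Lpe (f90574 IH) (Lpe (f83761 IH) (Lpe (f69269 IH) (Lpe (f59568 IH) (Lpe (f14977 IH) (Lpe (f14577 IH) (Lpe (f14578 IH) (Lpe (f83732 IH) (Lpr_ct (f90950 IH) (Lpn (LP (LK LD1_c3 LD2_c27 LD3_c5))))))))))))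
theorem f11972 : Led Lsl_dt (LP (LK LD1_c1 LD2_c40 LD3_c12)) = (LP (LK LD1_c0 LD2_c46 LD3_c36)) :=
  Lre_d IH (LK LD1_c1 LD2_c40 LD3_c12) (LK LD1_c0 LD2_c46 LD3_c36) Lrfl Lrfl
theorem f12034 : Led Lsl_ct (LP (LK LD1_c0 LD2_c46 LD3_c37)) = (LP (LK LD1_c1 LD2_c40 LD3_c16)) :=
  Lre_c IH (LK LD1_c0 LD2_c46 LD3_c37) (LK LD1_c1 LD2_c40 LD3_c16) Lrfl Lrfl
theorem f15008 : Led Lsl_gt (LP (LK LD1_c1 LD2_c38 LD3_c5)) = (LP (LK LD1_c3 LD2_c22 LD3_c52)) :=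
  Lre_g IH (LK LD1_c1 LD2_c38 LD3_c5) (LK LD1_c3 LD2_c22 LD3_c52) Lrfl Lrfl
theorem f83744 : Led Lsl_dt (LP (LK LD1_c3 LD2_c23 LD3_c29)) = (LP (LK LD1_c1 LD2_c38 LD3_c5)) :=
  Lre_d IH (LK LD1_c3 LD2_c23 LD3_c29) (LK LD1_c1 LD2_c38 LD3_c5) Lrfl Lrfl
theorem f90981 : Led Lsl_gf (LP (LK LD1_c3 LD2_c23 LD3_c29)) = (LP (LK LD1_c3 LD2_c6 LD3_c54)) :=
  Lgr Lrot144 (Lpr_dt (f83744 IH) (Lpr_gt (f15008 IH) (Lpr_dt (K0.f14557 IH) (Lpe (f12034 IH) (Lpe (f11970 IH) (Lpe (f11953 IH) (Lpe (f11972 IH) (Lpr_gf (f90977 IH) (Lpe (f90950 IH) (Lpn (LP (LK LD1_c3 LD2_c6 LD3_c54))))))))))))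
theorem f90979 : Led Lsl_gt (LP (LK LD1_c1 LD2_c40 LD3_c12)) = (LP (LK LD1_c1 LD2_c38 LD3_c48)) :=
  Lgr Lrot46 (Lpr_gf (f90977 IH) (Lpe (f90943 IH) (Lpr_at (f18247 IH) (Lpn (LP (LK LD1_c1 LD2_c38 LD3_c48))))))
theorem f9904 : Led Lsl_ct (LP (LK LD1_c0 LD2_c20 LD3_c53)) = (LP (LK LD1_c0 LD2_c46 LD3_c30)) :=
  Lre_c IH (LK LD1_c0 LD2_c20 LD3_c53) (LK LD1_c0 LD2_c46 LD3_c30) Lrfl Lrfl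
theorem f90985 : Led Lsl_dt (LP (LK LD1_c0 LD2_c46 LD3_c30)) = (LP (LK LD1_c1 LD2_c39 LD3_c57)) :=
  Lre_d IH (LK LD1_c0 LD2_c46 LD3_c30) (LK LD1_c1 LD2_c39 LD3_c57) Lrfl Lrfl
theorem f90986 : Led Lsl_cf (LP (LK LD1_c1 LD2_c39 LD3_c57)) = (LP (LK LD1_c3 LD2_c23 LD3_c32)) :=
  Lgr Lrot99 (Lpe (f90985 IH) (Lpe (f9904 IH) (Lpe (f9903 IH) (Lpe (K0.f9878 IH) (Lpe (f11953 IH) (Lpe (f11972 IH) (Lpr_gt (f90979 IH) (Lpr_ct (f18150 IH) (Lpr_gt (f83758 IH) (Lpn (LP (LK LD1_c3 LD2_c23 LD3_c32))))))))))))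
theorem f91106 : Led Lsl_ct (LP (LK LD1_c1 LD2_c39 LD3_c57)) = (LP (LK LD1_c3 LD2_c23 LD3_c32)) :=
  Lgr Lrot59 (Lpr_cf (f90986 IH) (Lpn (LP (LK LD1_c3 LD2_c23 LD3_c32))))
theorem f87612 : Led Lsl_bt (LP (LK LD1_c0 LD2_c46 LD3_c60)) = (LP (LK LD1_c0 LD2_c21 LD3_c5)) :=
  Lre_b IH (LK LD1_c0 LD2_c46 LD3_c60) (LK LD1_c0 LD2_c21 LD3_c5) Lrfl Lrfl
theorem f87613 : Led Lsl_dt (LP (LK LD1_c0 LD2_c52 LD3_c14)) = (LP (LK LD1_c0 LD2_c46 LD3_c60)) :=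
  Lgr Lrot79 (Lpe (f11957 IH) (Lpr_df (f87608 IH) (Lpe (f87612 IH) (Lpn (LP (LK LD1_c0 LD2_c46 LD3_c60))))))
theorem f90847 : Led Lsl_dt (LP (LK LD1_c0 LD2_c20 LD3_c23)) = (LP (LK LD1_c0 LD2_c20 LD3_c53)) :=
  Lgr Lrot6 (Lpe (f18146 IH) (Lpr_ct (f18090 IH) (Lpr_gt (f90843 IH) (Lpe (f90173 IH) (Lpe (f87613 IH) (Lpr_cf (f11963 IH) (Lpe (f15066 IH) (Lpe (K0.f14581 IH) (Lpe (f14600 IH) (Lpn (LP (LK LD1_c0 LD2_c20 LD3_c53))))))))))))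
theorem f18151 : Led Lsl_ct (LP (LK LD1_c0 LD2_c45 LD3_c40)) = (LP (LK LD1_c0 LD2_c20 LD3_c23)) :=
  Lre_c IH (LK LD1_c0 LD2_c45 LD3_c40) (LK LD1_c0 LD2_c20 LD3_c23) Lrfl Lrfl
theorem f83743 : Led Lsl_dt (LP (LK LD1_c1 LD2_c38 LD3_c33)) = (LP (LK LD1_c0 LD2_c45 LD3_c40)) :=
  Lre_d IH (LK LD1_c1 LD2_c38 LD3_c33) (LK LD1_c0 LD2_c45 LD3_c40) Lrfl Lrfl
theorem f83734 : Led Lsl_dt (LP (LK LD1_c0 LD2_c45 LD3_c40)) = (LP (LK LD1_c1 LD2_c38 LD3_c33)) :=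
  Lre_d IH (LK LD1_c0 LD2_c45 LD3_c40) (LK LD1_c1 LD2_c38 LD3_c33) Lrfl Lrfl
theorem f83735 : Led Lsl_gt (LP (LK LD1_c0 LD2_c45 LD3_c29)) = (LP (LK LD1_c1 LD2_c38 LD3_c5)) :=
  Lre_g IH (LK LD1_c0 LD2_c45 LD3_c29) (LK LD1_c1 LD2_c38 LD3_c5) Lrfl Lrfl
theorem f83736 : Led Lsl_cf (LP (LK LD1_c1 LD2_c38 LD3_c33)) = (LP (LK LD1_c1 LD2_c38 LD3_c5)) :=
  Lgr Lrot99 (Lpe (f83734 IH) (Lpe (f12662 IH) (Lpe (f3960 IH) (Lpe (f66821 IH) (Lpe (f68352 IH) (Lpr_df (f83720 IH) (Lpr_gt (f76892 IH) (Lpr_ct (K0.f14553 IH) (Lpr_gt (f83735 IH) (Lpn (LP (LK LD1_c1 LD2_c38 LD3_c5))))))))))))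
theorem f18131 : Led Lsl_at (LP (LK LD1_c0 LD2_c20 LD3_c25)) = (LP (LK LD1_c0 LD2_c9 LD3_c12)) :=
  Lre_a IH (LK LD1_c0 LD2_c20 LD3_c25) (LK LD1_c0 LD2_c9 LD3_c12) Lrfl Lrfl
theorem f18141 : Led Lsl_ft (LP (LK LD1_c0 LD2_c21 LD3_c25)) = (LP (LK LD1_c0 LD2_c20 LD3_c25)) :=
  Lgr Lrot101 (Lpe (f18064 IH) (Lpr_ff (K1.f18135 IH) (Lpe (f18131 IH) (Lpn (LP (LK LD1_c0 LD2_c20 LD3_c25))))))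
theorem f18617 : Led Lsl_gt (LP (LK LD1_c0 LD2_c20 LD3_c24)) = (LP (LK LD1_c0 LD2_c9 LD3_c12)) :=
  Lre_g IH (LK LD1_c0 LD2_c20 LD3_c24) (LK LD1_c0 LD2_c9 LD3_c12) Lrfl Lrfl
theorem f19340 : Led Lsl_gt (LP (LK LD1_c0 LD2_c21 LD3_c25)) = (LP (LK LD1_c0 LD2_c20 LD3_c24)) :=
  Lgr Lrot5 (Lpr_ft (f18141 IH) (Lpr_at (f18131 IH) (Lpe (f18617 IH) (Lpn (LP (LK LD1_c0 LD2_c20 LD3_c24))))))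
theorem f19342 : Led Lsl_ct (LP (LK LD1_c0 LD2_c20 LD3_c24)) = (LP (LK LD1_c0 LD2_c45 LD3_c43)) :=
  Lre_c IH (LK LD1_c0 LD2_c20 LD3_c24) (LK LD1_c0 LD2_c45 LD3_c43) Lrfl Lrfl
theorem f19344 : Led Lsl_dt (LP (LK LD1_c0 LD2_c45 LD3_c43)) = (LP (LK LD1_c1 LD2_c38 LD3_c37)) :=
  Lre_d IH (LK LD1_c0 LD2_c45 LD3_c43) (LK LD1_c1 LD2_c38 LD3_c37) Lrfl Lrfl
theorem f90580 : Led Lsl_ct (LP (LK LD1_c1 LD2_c38 LD3_c6)) = (LP (LK LD1_c1 LD2_c38 LD3_c37)) :=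
  Lgr Lrot151 (Lpe (f15009 IH) (Lpe (K0.f14558 IH) (Lpe (f9805 IH) (Lpr_dt (f90561 IH) (Lpr_gt (f66809 IH) (Lpr_ct (f18076 IH) (Lpr_gt (f19340 IH) (Lpr_ct (f19342 IH) (Lpr_dt (f19344 IH) (Lpn (LP (LK LD1_c1 LD2_c38 LD3_c37))))))))))))
theorem f19343 : Led Lsl_dt (LP (LK LD1_c1 LD2_c38 LD3_c37)) = (LP (LK LD1_c0 LD2_c45 LD3_c43)) :=
  Lre_d IH (LK LD1_c1 LD2_c38 LD3_c37) (LK LD1_c0 LD2_c45 LD3_c43) Lrfl Lrfl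
theorem f19345 : Led Lsl_ct (LP (LK LD1_c0 LD2_c45 LD3_c43)) = (LP (LK LD1_c0 LD2_c20 LD3_c24)) :=
  Lre_c IH (LK LD1_c0 LD2_c45 LD3_c43) (LK LD1_c0 LD2_c20 LD3_c24) Lrfl Lrfl
theorem f9907 : Led Lsl_gt (LP (LK LD1_c0 LD2_c20 LD3_c54)) = (LP (LK LD1_c0 LD2_c9 LD3_c28)) :=
  Lre_g IH (LK LD1_c0 LD2_c20 LD3_c54) (LK LD1_c0 LD2_c9 LD3_c28) Lrfl Lrfl
theorem f90845 : Led Lsl_dt (LP (LK LD1_c0 LD2_c20 LD3_c24)) = (LP (LK LD1_c0 LD2_c20 LD3_c54)) :=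
  Lgr Lrot57 (Lpe (f19340 IH) (Lpe (f18076 IH) (Lpr_gt (f90843 IH) (Lpr_dt (f83727 IH) (Lpr_gt (f76892 IH) (Lpr_dt (f14978 IH) (Lpe (K0.f12570 IH) (Lpe (K0.f11976 IH) (Lpe (f9907 IH) (Lpn (LP (LK LD1_c0 LD2_c20 LD3_c54))))))))))))
theorem f91128 : Led Lsl_ct (LP (LK LD1_c0 LD2_c20 LD3_c54)) = (LP (LK LD1_c0 LD2_c46 LD3_c33)) :=
  Lre_c IH (LK LD1_c0 LD2_c20 LD3_c54) (LK LD1_c0 LD2_c46 LD3_c33) Lrfl Lrfl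
theorem f91129 : Led Lsl_dt (LP (LK LD1_c0 LD2_c46 LD3_c33)) = (LP (LK LD1_c1 LD2_c40 LD3_c3)) :=
  Lre_d IH (LK LD1_c0 LD2_c46 LD3_c33) (LK LD1_c1 LD2_c40 LD3_c3) Lrfl Lrfl
theorem f91130 : Led Lsl_cf (LP (LK LD1_c3 LD2_c23 LD3_c29)) = (LP (LK LD1_c1 LD2_c40 LD3_c3)) :=
  Lgr Lrot55 (Lpr_dt (f83744 IH) (Lpe (f83736 IH) (Lpr_dt (f83743 IH) (Lpr_ct (f18151 IH) (Lpr_dt (f90847 IH) (Lpr_ct (f9904 IH) (Lpr_dt (f90985 IH) (Lpr_ct (f91106 IH) (Lpr_dt (f14578 IH) (Lpr_ct (f90580 IH) (Lpr_dt (f19343 IH) (Lpr_ct (f19345 IH) (Lpr_dt (f90845 IH) (Lpr_ct (f91128 IH) (Lpr_dt (f91129 IH) (Lpn (LP (LK LD1_c1 LD2_c40 LD3_c3))))))))))))))))))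
theorem f91283 : Led Lsl_ct (LP (LK LD1_c3 LD2_c23 LD3_c29)) = (LP (LK LD1_c1 LD2_c40 LD3_c3)) :=
  Lgr Lrot59 (Lpr_cf (f91130 IH) (Lpn (LP (LK LD1_c1 LD2_c40 LD3_c3))))
theorem f91297 : Led Lsl_gt (LP (LK LD1_c0 LD2_c24 LD3_c14)) = (LP (LK LD1_c0 LD2_c20 LD3_c54)) :=
  Lgr Lrot150 (Lpe (K0.f14560 IH) (Lpr_gf (f91295 IH) (Lpe (f89968 IH) (Lpr_gt (f90152 IH) (Lpe (f90941 IH) (Lpe (f90981 IH) (Lpr_ct (f91283 IH) (Lpe (f91129 IH) (Lpe (f91128 IH) (Lpn (LP (LK LD1_c0 LD2_c20 LD3_c54))))))))))))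
theorem f91301 : Led Lsl_df (LP (LK LD1_c0 LD2_c20 LD3_c24)) = (LP (LK LD1_c0 LD2_c20 LD3_c54)) :=
  Lgr Lrot153 (Lpr_gt (f18617 IH) (Lpr_dt (K1.f18148 IH) (Lpe (f11053 IH) (Lpe (K1.f11054 IH) (Lpe (f90979 IH) (Lpe (f11965 IH) (Lpe (f15066 IH) (Lpe (K0.f14581 IH) (Lpr_gt (f91297 IH) (Lpn (LP (LK LD1_c0 LD2_c20 LD3_c54))))))))))))
theorem f91303 : Led Lsl_gt (LP (LK LD1_c1 LD2_c39 LD3_c22)) = (LP (LK LD1_c1 LD2_c38 LD3_c37)) :=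
  Lgr Lrot49 (Lpe (f14990 IH) (Lpe (f14989 IH) (Lpe (f14991 IH) (Lpr_gt (f9811 IH) (Lpe (K0.f14974 IH) (Lpr_gt (f91297 IH) (Lpe (f91301 IH) (Lpe (f19345 IH) (Lpe (f19343 IH) (Lpn (LP (LK LD1_c1 LD2_c38 LD3_c37))))))))))))
theorem f91315 : Led Lsl_et (LP (LK LD1_c0 LD2_c45 LD3_c43)) = (LP (LK LD1_c1 LD2_c38 LD3_c38)) :=
  Lre_e IH (LK LD1_c0 LD2_c45 LD3_c43) (LK LD1_c1 LD2_c38 LD3_c38) Lrfl Lrfl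
theorem f94347 : Led Lsl_gf (LP (LK LD1_c3 LD2_c22 LD3_c50)) = (LP (LK LD1_c1 LD2_c38 LD3_c38)) :=
  Lgr Lrot141 (Lpe (f87510 IH) (Lpe (f94200 IH) (Lpr_gt (f94205 IH) (Lpe (f91957 IH) (Lpr_et (f94238 IH) (Lpr_gt (f14989 IH) (Lpr_dt (f14990 IH) (Lpr_gt (f91303 IH) (Lpe (f19344 IH) (Lpr_et (f91315 IH) (Lpn (LP (LK LD1_c1 LD2_c38 LD3_c38)))))))))))))
theorem f87477 : Led Lsl_bt (LP (LK LD1_c0 LD2_c47 LD3_c59)) = (LP (LK LD1_c0 LD2_c21 LD3_c32)) :=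
  Lre_b IH (LK LD1_c0 LD2_c47 LD3_c59) (LK LD1_c0 LD2_c21 LD3_c32) Lrfl Lrfl
theorem f87478 : Led Lsl_ct (LP (LK LD1_c0 LD2_c21 LD3_c32)) = (LP (LK LD1_c0 LD2_c48 LD3_c0)) :=
  Lre_c IH (LK LD1_c0 LD2_c21 LD3_c32) (LK LD1_c0 LD2_c48 LD3_c0) Lrfl Lrfl
theorem f87479 : Led Lsl_bt (LP (LK LD1_c0 LD2_c48 LD3_c0)) = (LP (LK LD1_c1 LD2_c42 LD3_c46)) :=
  Lre_b IH (LK LD1_c0 LD2_c48 LD3_c0) (LK LD1_c1 LD2_c42 LD3_c46) Lrfl Lrfl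
theorem f87480 : Led Lsl_bt (LP (LK LD1_c3 LD2_c22 LD3_c50)) = (LP (LK LD1_c1 LD2_c37 LD3_c47)) :=
  Lre_b IH (LK LD1_c3 LD2_c22 LD3_c50) (LK LD1_c1 LD2_c37 LD3_c47) Lrfl Lrfl
theorem f87481 : Led Lsl_ct (LP (LK LD1_c1 LD2_c42 LD3_c46)) = (LP (LK LD1_c3 LD2_c22 LD3_c50)) :=
  Lgr Lrot83 (Lpe (f87479 IH) (Lpe (f87478 IH) (Lpe (f87477 IH) (Lpr_cf (f84758 IH) (Lpe (f87480 IH) (Lpn (LP (LK LD1_c3 LD2_c22 LD3_c50))))))))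
theorem f87514 : Led Lsl_gt (LP (LK LD1_c0 LD2_c48 LD3_c0)) = (LP (LK LD1_c1 LD2_c42 LD3_c48)) :=
  Lre_g IH (LK LD1_c0 LD2_c48 LD3_c0) (LK LD1_c1 LD2_c42 LD3_c48) Lrfl Lrfl
theorem f92040 : Led Lsl_ct (LP (LK LD1_c0 LD2_c45 LD3_c44)) = (LP (LK LD1_c1 LD2_c38 LD3_c38)) :=
  Lre_c IH (LK LD1_c0 LD2_c45 LD3_c44) (LK LD1_c1 LD2_c38 LD3_c38) Lrfl Lrfl
theorem f18143 : Led Lsl_et (LP (LK LD1_c0 LD2_c4 LD3_c26)) = (LP (LK LD1_c0 LD2_c9 LD3_c12)) :=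
  Lre_e IH (LK LD1_c0 LD2_c4 LD3_c26) (LK LD1_c0 LD2_c9 LD3_c12) Lrfl Lrfl
theorem f91305 : Led Lsl_et (LP (LK LD1_c0 LD2_c20 LD3_c24)) = (LP (LK LD1_c0 LD2_c45 LD3_c44)) :=
  Lre_e IH (LK LD1_c0 LD2_c20 LD3_c24) (LK LD1_c0 LD2_c45 LD3_c44) Lrfl Lrfl
theorem f92036 : Led Lsl_gf (LP (LK LD1_c0 LD2_c45 LD3_c44)) = (LP (LK LD1_c0 LD2_c46 LD3_c6)) :=
  Lgr Lrot141 (Lpe (f91305 IH) (Lpr_dt (f90845 IH) (Lpr_gt (f9907 IH) (Lpe (f11973 IH) (Lpr_et (f18143 IH) (Lpr_gt (f3960 IH) (Lpr_dt (f90847 IH) (Lpr_gt (f14600 IH) (Lpr_df (K0.f14974 IH) (Lpr_et (K0.f9793 IH) (Lpn (LP (LK LD1_c0 LD2_c46 LD3_c6)))))))))))))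
theorem f68107 : Led Lsl_gt (LP (LK LD1_c0 LD2_c42 LD3_c39)) = (LP (LK LD1_c1 LD2_c32 LD3_c10)) :=
  Lre_g IH (LK LD1_c0 LD2_c42 LD3_c39) (LK LD1_c1 LD2_c32 LD3_c10) Lrfl Lrfl
theorem f68108 : Led Lsl_gf (LP (LK LD1_c1 LD2_c37 LD3_c49)) = (LP (LK LD1_c1 LD2_c32 LD3_c10)) :=
  Lgr Lrot76 (Lpe (K1.f68101 IH) (Lpr_ff (K1.f68099 IH) (Lpr_gt (f68107 IH) (Lpn (LP (LK LD1_c1 LD2_c32 LD3_c10))))))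
theorem f83505 : Led Lsl_ct (LP (LK LD1_c3 LD2_c11 LD3_c38)) = (LP (LK LD1_c1 LD2_c32 LD3_c10)) :=
  Lre_c IH (LK LD1_c3 LD2_c11 LD3_c38) (LK LD1_c1 LD2_c32 LD3_c10) Lrfl Lrfl
theorem f94352 : Led Lsl_bf (LP (LK LD1_c1 LD2_c42 LD3_c48)) = (LP (LK LD1_c3 LD2_c11 LD3_c38)) :=
  Lgr Lrot34 (Lpe (f87514 IH) (Lpe (f87499 IH) (Lpr_ct (f87481 IH) (Lpr_gf (f94347 IH) (Lpe (f92040 IH) (Lpr_gf (f92036 IH) (Lpe (K0.f9795 IH) (Lpr_ct (K1.f9821 IH) (Lpr_gf (f68108 IH) (Lpe (f83505 IH) (Lpn (LP (LK LD1_c3 LD2_c11 LD3_c38)))))))))))))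
theorem f83506 : Led Lsl_ct (LP (LK LD1_c1 LD2_c32 LD3_c10)) = (LP (LK LD1_c3 LD2_c11 LD3_c38)) :=
  Lre_c IH (LK LD1_c1 LD2_c32 LD3_c10) (LK LD1_c3 LD2_c11 LD3_c38) Lrfl Lrfl
theorem f84293 : Led Lsl_bt (LP (LK LD1_c0 LD2_c19 LD3_c48)) = (LP (LK LD1_c0 LD2_c8 LD3_c58)) :=
  Lre_b IH (LK LD1_c0 LD2_c19 LD3_c48) (LK LD1_c0 LD2_c8 LD3_c58) Lrfl Lrfl
theorem f12165 : Led Lsl_ct (LP (LK LD1_c0 LD2_c19 LD3_c48)) = (LP (LK LD1_c0 LD2_c10 LD3_c43)) :=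
  Lre_c IH (LK LD1_c0 LD2_c19 LD3_c48) (LK LD1_c0 LD2_c10 LD3_c43) Lrfl Lrfl
theorem f84294 : Led Lsl_ct (LP (LK LD1_c0 LD2_c53 LD3_c20)) = (LP (LK LD1_c0 LD2_c23 LD3_c60)) :=
  Lre_c IH (LK LD1_c0 LD2_c53 LD3_c20) (LK LD1_c0 LD2_c23 LD3_c60) Lrfl Lrfl
theorem f84295 : Led Lsl_bt (LP (LK LD1_c0 LD2_c53 LD3_c20)) = (LP (LK LD1_c1 LD2_c32 LD3_c10)) :=
  Lgr Lrot92 (Lpr_ct (f84294 IH) (Lpr_gt (f10008 IH) (Lpe (f12165 IH) (Lpr_bt (f84293 IH) (Lpr_gt (f10992 IH) (Lpr_ct (f84282 IH) (Lpe (K0.f9689 IH) (Lpr_cf (f67384 IH) (Lpr_bt (K1.f67380 IH) (Lpr_gt (f68107 IH) (Lpn (LP (LK LD1_c1 LD2_c32 LD3_c10)))))))))))))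
theorem f84299 : Led Lsl_ct (LP (LK LD1_c0 LD2_c23 LD3_c60)) = (LP (LK LD1_c0 LD2_c53 LD3_c20)) :=
  Lre_c IH (LK LD1_c0 LD2_c23 LD3_c60) (LK LD1_c0 LD2_c53 LD3_c20) Lrfl Lrfl
theorem f10009 : Led Lsl_bt (LP (LK LD1_c0 LD2_c53 LD3_c19)) = (LP (LK LD1_c0 LD2_c23 LD3_c60)) :=
  Lre_b IH (LK LD1_c0 LD2_c53 LD3_c19) (LK LD1_c0 LD2_c23 LD3_c60) Lrfl Lrfl
theorem f94358 : Led Lsl_ct (LP (LK LD1_c1 LD2_c42 LD3_c48)) = (LP (LK LD1_c0 LD2_c53 LD3_c19)) :=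
  Lgr Lrot83 (Lpr_bf (f94352 IH) (Lpe (f83506 IH) (Lpe (f84295 IH) (Lpe (f84299 IH) (Lpe (f10009 IH) (Lpn (LP (LK LD1_c0 LD2_c53 LD3_c19))))))))
theorem f94368 : Led Lsl_cf (LP (LK LD1_c1 LD2_c42 LD3_c48)) = (LP (LK LD1_c0 LD2_c53 LD3_c19)) :=
  Lgr Lrot11 (Lpr_ct (f94358 IH) (Lpn (LP (LK LD1_c0 LD2_c53 LD3_c19))))
theorem f7425 : Led Lsl_bt (LP (LK LD1_c0 LD2_c5 LD3_c4)) = (LP (LK LD1_c0 LD2_c10 LD3_c43)) :=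
  Lre_b IH (LK LD1_c0 LD2_c5 LD3_c4) (LK LD1_c0 LD2_c10 LD3_c43) Lrfl Lrfl
theorem f7419 : Led Lsl_ct (LP (LK LD1_c0 LD2_c5 LD3_c4)) = (LP (LK LD1_c0 LD2_c2 LD3_c18)) :=
  Lre_c IH (LK LD1_c0 LD2_c5 LD3_c4) (LK LD1_c0 LD2_c2 LD3_c18) Lrfl Lrfl
theorem f9963 : Led Lsl_bt (LP (LK LD1_c0 LD2_c4 LD3_c43)) = (LP (LK LD1_c0 LD2_c9 LD3_c60)) :=
  Lre_b IH (LK LD1_c0 LD2_c4 LD3_c43) (LK LD1_c0 LD2_c9 LD3_c60) Lrfl Lrfl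
theorem f94376 : Led Lsl_gf (LP (LK LD1_c0 LD2_c21 LD3_c32)) = (LP (LK LD1_c0 LD2_c9 LD3_c60)) :=
  Lgr Lrot181 (Lpr_ct (f87478 IH) (Lpr_gt (f87514 IH) (Lpr_cf (f94368 IH) (Lpr_bt (f10009 IH) (Lpr_gt (f10008 IH) (Lpe (f7425 IH) (Lpr_ct (f7419 IH) (Lpr_gt (K0.f10001 IH) (Lpe (K0.f9960 IH) (Lpr_bt (f9963 IH) (Lpn (LP (LK LD1_c0 LD2_c9 LD3_c60)))))))))))))
theorem f94411 : Led Lsl_et (LP (LK LD1_c0 LD2_c9 LD3_c43)) = (LP (LK LD1_c0 LD2_c21 LD3_c32)) :=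
  Lre_e IH (LK LD1_c0 LD2_c9 LD3_c43) (LK LD1_c0 LD2_c21 LD3_c32) Lrfl Lrfl
theorem f10271 : Led Lsl_dt (LP (LK LD1_c0 LD2_c9 LD3_c43)) = (LP (LK LD1_c0 LD2_c21 LD3_c31)) :=
  Lre_d IH (LK LD1_c0 LD2_c9 LD3_c43) (LK LD1_c0 LD2_c21 LD3_c31) Lrfl Lrfl
theorem f4022 : Led Lsl_et (LP (LK LD1_c0 LD2_c4 LD3_c46)) = (LP (LK LD1_c0 LD2_c10 LD3_c6)) :=
  Lre_e IH (LK LD1_c0 LD2_c4 LD3_c46) (LK LD1_c0 LD2_c10 LD3_c6) Lrfl Lrfl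
theorem f3931 : Led Lsl_et (LP (LK LD1_c0 LD2_c10 LD3_c6)) = (LP (LK LD1_c0 LD2_c4 LD3_c46)) :=
  Lre_e IH (LK LD1_c0 LD2_c10 LD3_c6) (LK LD1_c0 LD2_c4 LD3_c46) Lrfl Lrfl
theorem f4023 : Led Lsl_dt (LP (LK LD1_c0 LD2_c10 LD3_c6)) = (LP (LK LD1_c0 LD2_c10 LD3_c6)) :=
  Lgr Lrot77 (Lpe (f4022 IH) (Lpe (K0.f331 IH) (Lpr_ef (K0.f3971 IH) (Lpe (K0.f335 IH) (Lpe (f3931 IH) (Lpn (LP (LK LD1_c0 LD2_c10 LD3_c6))))))))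
theorem f4029 : Led Lsl_ft (LP (LK LD1_c0 LD2_c22 LD3_c28)) = (LP (LK LD1_c0 LD2_c10 LD3_c6)) :=
  Lre_f IH (LK LD1_c0 LD2_c22 LD3_c28) (LK LD1_c0 LD2_c10 LD3_c6) Lrfl Lrfl
theorem f4030 : Led Lsl_ft (LP (LK LD1_c0 LD2_c10 LD3_c6)) = (LP (LK LD1_c0 LD2_c22 LD3_c28)) :=
  Lre_f IH (LK LD1_c0 LD2_c10 LD3_c6) (LK LD1_c0 LD2_c22 LD3_c28) Lrfl Lrfl
theorem f4031 : Led Lsl_df (LP (LK LD1_c0 LD2_c22 LD3_c28)) = (LP (LK LD1_c0 LD2_c22 LD3_c28)) :=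
  Lgr Lrot78 (Lpr_ft (f4029 IH) (Lpr_dt (f4023 IH) (Lpr_ft (f4030 IH) (Lpn (LP (LK LD1_c0 LD2_c22 LD3_c28))))))
theorem f4039 : Led Lsl_bt (LP (LK LD1_c0 LD2_c22 LD3_c28)) = (LP (LK LD1_c0 LD2_c49 LD3_c57)) :=
  Lre_b IH (LK LD1_c0 LD2_c22 LD3_c28) (LK LD1_c0 LD2_c49 LD3_c57) Lrfl Lrfl
theorem f4040 : Led Lsl_bt (LP (LK LD1_c0 LD2_c49 LD3_c57)) = (LP (LK LD1_c0 LD2_c22 LD3_c28)) :=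
  Lre_b IH (LK LD1_c0 LD2_c49 LD3_c57) (LK LD1_c0 LD2_c22 LD3_c28) Lrfl Lrfl
theorem f4041 : Led Lsl_dt (LP (LK LD1_c0 LD2_c49 LD3_c57)) = (LP (LK LD1_c0 LD2_c49 LD3_c57)) :=
  Lgr Lrot79 (Lpe (f4039 IH) (Lpr_df (f4031 IH) (Lpe (f4040 IH) (Lpn (LP (LK LD1_c0 LD2_c49 LD3_c57))))))
theorem f4047 : Led Lsl_ct (LP (LK LD1_c1 LD2_c46 LD3_c20)) = (LP (LK LD1_c0 LD2_c49 LD3_c57)) :=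
  Lre_c IH (LK LD1_c1 LD2_c46 LD3_c20) (LK LD1_c0 LD2_c49 LD3_c57) Lrfl Lrfl
theorem f4048 : Led Lsl_dt (LP (LK LD1_c3 LD2_c38 LD3_c47)) = (LP (LK LD1_c1 LD2_c46 LD3_c20)) :=
  Lre_d IH (LK LD1_c3 LD2_c38 LD3_c47) (LK LD1_c1 LD2_c46 LD3_c20) Lrfl Lrfl
theorem f4049 : Led Lsl_ct (LP (LK LD1_c7 LD2_c18 LD3_c1)) = (LP (LK LD1_c3 LD2_c38 LD3_c47)) :=
  Lre_c IH (LK LD1_c7 LD2_c18 LD3_c1) (LK LD1_c3 LD2_c38 LD3_c47) Lrfl Lrfl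
theorem f4050 : Led Lsl_ct (LP (LK LD1_c0 LD2_c49 LD3_c57)) = (LP (LK LD1_c1 LD2_c46 LD3_c20)) :=
  Lre_c IH (LK LD1_c0 LD2_c49 LD3_c57) (LK LD1_c1 LD2_c46 LD3_c20) Lrfl Lrfl
theorem f4063 : Led Lsl_at (LP (LK LD1_c3 LD2_c38 LD3_c19)) = (LP (LK LD1_c1 LD2_c46 LD3_c20)) :=
  Lre_a IH (LK LD1_c3 LD2_c38 LD3_c19) (LK LD1_c1 LD2_c46 LD3_c20) Lrfl Lrfl
theorem f4064 : Led Lsl_ft (LP (LK LD1_c1 LD2_c46 LD3_c7)) = (LP (LK LD1_c3 LD2_c38 LD3_c19)) :=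
  Lre_f IH (LK LD1_c1 LD2_c46 LD3_c7) (LK LD1_c3 LD2_c38 LD3_c19) Lrfl Lrfl
theorem f4065 : Led Lsl_dt (LP (LK LD1_c1 LD2_c46 LD3_c7)) = (LP (LK LD1_c3 LD2_c38 LD3_c18)) :=
  Lre_d IH (LK LD1_c1 LD2_c46 LD3_c7) (LK LD1_c3 LD2_c38 LD3_c18) Lrfl Lrfl
theorem f4066 : Led Lsl_ct (LP (LK LD1_c3 LD2_c38 LD3_c18)) = (LP (LK LD1_c7 LD2_c16 LD3_c60)) :=
  Lre_c IH (LK LD1_c3 LD2_c38 LD3_c18) (LK LD1_c7 LD2_c16 LD3_c60) Lrfl Lrfl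
theorem f4067 : Led Lsl_df (LP (LK LD1_c7 LD2_c18 LD3_c1)) = (LP (LK LD1_c7 LD2_c16 LD3_c60)) :=
  Lgr Lrot106 (Lpr_ct (f4049 IH) (Lpr_dt (f4048 IH) (Lpr_ct (f4047 IH) (Lpr_dt (f4041 IH) (Lpr_ct (f4050 IH) (Lpe (f4063 IH) (Lpe (f4064 IH) (Lpr_dt (f4065 IH) (Lpr_ct (f4066 IH) (Lpn (LP (LK LD1_c7 LD2_c16 LD3_c60))))))))))))
theorem f4051 : Led Lsl_dt (LP (LK LD1_c1 LD2_c46 LD3_c20)) = (LP (LK LD1_c3 LD2_c38 LD3_c47)) :=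
  Lre_d IH (LK LD1_c1 LD2_c46 LD3_c20) (LK LD1_c3 LD2_c38 LD3_c47) Lrfl Lrfl
theorem f4052 : Led Lsl_ct (LP (LK LD1_c3 LD2_c38 LD3_c47)) = (LP (LK LD1_c7 LD2_c18 LD3_c1)) :=
  Lre_c IH (LK LD1_c3 LD2_c38 LD3_c47) (LK LD1_c7 LD2_c18 LD3_c1) Lrfl Lrfl
theorem f4054 : Led Lsl_ft (LP (LK LD1_c0 LD2_c49 LD3_c57)) = (LP (LK LD1_c0 LD2_c22 LD3_c26)) :=
  Lre_f IH (LK LD1_c0 LD2_c49 LD3_c57) (LK LD1_c0 LD2_c22 LD3_c26) Lrfl Lrfl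
theorem f4055 : Led Lsl_at (LP (LK LD1_c0 LD2_c22 LD3_c26)) = (LP (LK LD1_c0 LD2_c49 LD3_c50)) :=
  Lre_a IH (LK LD1_c0 LD2_c22 LD3_c26) (LK LD1_c0 LD2_c49 LD3_c50) Lrfl Lrfl
theorem f4056 : Led Lsl_ct (LP (LK LD1_c1 LD2_c46 LD3_c7)) = (LP (LK LD1_c0 LD2_c49 LD3_c50)) :=
  Lre_c IH (LK LD1_c1 LD2_c46 LD3_c7) (LK LD1_c0 LD2_c49 LD3_c50) Lrfl Lrfl
theorem f4057 : Led Lsl_dt (LP (LK LD1_c3 LD2_c38 LD3_c18)) = (LP (LK LD1_c1 LD2_c46 LD3_c7)) :=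
  Lre_d IH (LK LD1_c3 LD2_c38 LD3_c18) (LK LD1_c1 LD2_c46 LD3_c7) Lrfl Lrfl
theorem f4058 : Led Lsl_ct (LP (LK LD1_c7 LD2_c16 LD3_c60)) = (LP (LK LD1_c3 LD2_c38 LD3_c18)) :=
  Lre_c IH (LK LD1_c7 LD2_c16 LD3_c60) (LK LD1_c3 LD2_c38 LD3_c18) Lrfl Lrfl
theorem f4059 : Led Lsl_df (LP (LK LD1_c7 LD2_c16 LD3_c60)) = (LP (LK LD1_c7 LD2_c18 LD3_c1)) :=
  Lgr Lrot13 (Lpr_ct (f4058 IH) (Lpr_dt (f4057 IH) (Lpr_ct (f4056 IH) (Lpe (f4055 IH) (Lpe (f4054 IH) (Lpr_dt (f4041 IH) (Lpr_ct (f4050 IH) (Lpr_dt (f4051 IH) (Lpr_ct (f4052 IH) (Lpn (LP (LK LD1_c7 LD2_c18 LD3_c1))))))))))))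
theorem f4084 : Led Lsl_ct (LP (LK LD1_c0 LD2_c49 LD3_c50)) = (LP (LK LD1_c1 LD2_c46 LD3_c7)) :=
  Lre_c IH (LK LD1_c0 LD2_c49 LD3_c50) (LK LD1_c1 LD2_c46 LD3_c7) Lrfl Lrfl
theorem f4085 : Led Lsl_dt (LP (LK LD1_c0 LD2_c49 LD3_c50)) = (LP (LK LD1_c0 LD2_c49 LD3_c50)) :=
  Lgr Lrot173 (Lpe (f4056 IH) (Lpe (f4057 IH) (Lpe (f4058 IH) (Lpr_df (f4059 IH) (Lpe (f4052 IH) (Lpe (f4051 IH) (Lpe (f4050 IH) (Lpe (f4041 IH) (Lpe (f4047 IH) (Lpe (f4048 IH) (Lpe (f4049 IH) (Lpr_df (f4067 IH) (Lpe (f4066 IH) (Lpe (f4065 IH) (Lpe (f4084 IH) (Lpn (LP (LK LD1_c0 LD2_c49 LD3_c50))))))))))))))))))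
theorem f4381 : Led Lsl_et (LP (LK LD1_c0 LD2_c22 LD3_c24)) = (LP (LK LD1_c0 LD2_c49 LD3_c50)) :=
  Lre_e IH (LK LD1_c0 LD2_c22 LD3_c24) (LK LD1_c0 LD2_c49 LD3_c50) Lrfl Lrfl
theorem f4382 : Led Lsl_et (LP (LK LD1_c0 LD2_c49 LD3_c50)) = (LP (LK LD1_c0 LD2_c22 LD3_c24)) :=
  Lre_e IH (LK LD1_c0 LD2_c49 LD3_c50) (LK LD1_c0 LD2_c22 LD3_c24) Lrfl Lrfl
theorem f393 : Led Lsl_dt (LP (LK LD1_c0 LD2_c22 LD3_c24)) = (LP (LK LD1_c0 LD2_c10 LD3_c4)) :=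
  Lre_d IH (LK LD1_c0 LD2_c22 LD3_c24) (LK LD1_c0 LD2_c10 LD3_c4) Lrfl Lrfl
theorem f4383 : Led Lsl_ef (LP (LK LD1_c0 LD2_c10 LD3_c4)) = (LP (LK LD1_c0 LD2_c10 LD3_c4)) :=
  Lgr Lrot73 (Lpr_dt (K0.f396 IH) (Lpr_et (f4381 IH) (Lpr_dt (f4085 IH) (Lpr_et (f4382 IH) (Lpr_dt (f393 IH) (Lpn (LP (LK LD1_c0 LD2_c10 LD3_c4))))))))
theorem f94412 : Led Lsl_gt (LP (LK LD1_c0 LD2_c21 LD3_c31)) = (LP (LK LD1_c0 LD2_c22 LD3_c24)) :=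
  Lgr Lrot112 (Lpe (f10271 IH) (Lpr_et (f94411 IH) (Lpr_gf (f94376 IH) (Lpe (K0.f10258 IH) (Lpr_dt (K0.f6100 IH) (Lpe (K0.f5904 IH) (Lpr_df (K0.f17465 IH) (Lpe (K0.f5242 IH) (Lpr_ef (f4383 IH) (Lpr_dt (K0.f396 IH) (Lpn (LP (LK LD1_c0 LD2_c22 LD3_c24)))))))))))))
theorem f10267 : Led Lsl_dt (LP (LK LD1_c0 LD2_c21 LD3_c31)) = (LP (LK LD1_c0 LD2_c9 LD3_c43)) :=
  Lre_d IH (LK LD1_c0 LD2_c21 LD3_c31) (LK LD1_c0 LD2_c9 LD3_c43) Lrfl Lrfl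
theorem f10250 : Led Lsl_at (LP (LK LD1_c0 LD2_c4 LD3_c41)) = (LP (LK LD1_c0 LD2_c9 LD3_c58)) :=
  Lre_a IH (LK LD1_c0 LD2_c4 LD3_c41) (LK LD1_c0 LD2_c9 LD3_c58) Lrfl Lrfl
theorem f10264 : Led Lsl_gt (LP (LK LD1_c0 LD2_c9 LD3_c43)) = (LP (LK LD1_c0 LD2_c9 LD3_c58)) :=
  Lgr Lrot46 (Lpe (f10015 IH) (Lpr_ft (K0.f10226 IH) (Lpr_at (f10250 IH) (Lpn (LP (LK LD1_c0 LD2_c9 LD3_c58))))))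
theorem f17631 : Led Lsl_cf (LP (LK LD1_c0 LD2_c9 LD3_c58)) = (LP (LK LD1_c0 LD2_c9 LD3_c58)) :=
  Lgr Lrot1 (Lpr_at (K0.f10284 IH) (Lpr_ct (K0.f17629 IH) (Lpr_at (f10250 IH) (Lpn (LP (LK LD1_c0 LD2_c9 LD3_c58))))))
theorem f10249 : Led Lsl_at (LP (LK LD1_c0 LD2_c9 LD3_c45)) = (LP (LK LD1_c0 LD2_c4 LD3_c35)) :=
  Lre_a IH (LK LD1_c0 LD2_c9 LD3_c45) (LK LD1_c0 LD2_c4 LD3_c35) Lrfl Lrfl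
theorem f10251 : Led Lsl_ff (LP (LK LD1_c0 LD2_c9 LD3_c45)) = (LP (LK LD1_c0 LD2_c9 LD3_c58)) :=
  Lgr Lrot30 (Lpr_at (f10249 IH) (Lpr_ft (K0.f10226 IH) (Lpr_at (f10250 IH) (Lpn (LP (LK LD1_c0 LD2_c9 LD3_c58))))))
theorem f10775 : Led Lsl_gf (LP (LK LD1_c0 LD2_c9 LD3_c44)) = (LP (LK LD1_c0 LD2_c9 LD3_c58)) :=
  Lgr Lrot47 (Lpr_gt (f6675 IH) (Lpe (f10249 IH) (Lpr_ff (f10251 IH) (Lpn (LP (LK LD1_c0 LD2_c9 LD3_c58))))))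
theorem f10782 : Led Lsl_dt (LP (LK LD1_c0 LD2_c21 LD3_c34)) = (LP (LK LD1_c0 LD2_c48 LD3_c8)) :=
  Lre_d IH (LK LD1_c0 LD2_c21 LD3_c34) (LK LD1_c0 LD2_c48 LD3_c8) Lrfl Lrfl
theorem f395 : Led Lsl_dt (LP (LK LD1_c1 LD2_c46 LD3_c6)) = (LP (LK LD1_c0 LD2_c49 LD3_c49)) :=
  Lre_d IH (LK LD1_c1 LD2_c46 LD3_c6) (LK LD1_c0 LD2_c49 LD3_c49) Lrfl Lrfl
theorem f5012 : Led Lsl_ft (LP (LK LD1_c0 LD2_c49 LD3_c49)) = (LP (LK LD1_c0 LD2_c50 LD3_c1)) :=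
  Lgr Lrot54 (Lpe (f395 IH) (Lpr_ff (K0.f5005 IH) (Lpr_df (K0.f4986 IH) (Lpn (LP (LK LD1_c0 LD2_c50 LD3_c1))))))
theorem f4977 : Led Lsl_at (LP (LK LD1_c0 LD2_c50 LD3_c1)) = (LP (LK LD1_c0 LD2_c22 LD3_c35)) :=
  Lre_a IH (LK LD1_c0 LD2_c50 LD3_c1) (LK LD1_c0 LD2_c22 LD3_c35) Lrfl Lrfl
theorem f5238 : Led Lsl_gt (LP (LK LD1_c0 LD2_c50 LD3_c4)) = (LP (LK LD1_c0 LD2_c22 LD3_c35)) :=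
  Lre_g IH (LK LD1_c0 LD2_c50 LD3_c4) (LK LD1_c0 LD2_c22 LD3_c35) Lrfl Lrfl
theorem f5701 : Led Lsl_gt (LP (LK LD1_c0 LD2_c49 LD3_c49)) = (LP (LK LD1_c0 LD2_c50 LD3_c4)) :=
  Lgr Lrot5 (Lpr_ft (f5012 IH) (Lpr_at (f4977 IH) (Lpe (f5238 IH) (Lpn (LP (LK LD1_c0 LD2_c50 LD3_c4))))))
theorem f94416 : Led Lsl_cf (LP (LK LD1_c0 LD2_c48 LD3_c8)) = (LP (LK LD1_c0 LD2_c50 LD3_c4)) :=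
  Lgr Lrot99 (Lpe (f10782 IH) (Lpe (f10781 IH) (Lpr_gf (f10775 IH) (Lpr_cf (f17631 IH) (Lpe (f10264 IH) (Lpe (f10267 IH) (Lpr_gt (f94412 IH) (Lpr_ct (K0.f397 IH) (Lpr_gt (f5701 IH) (Lpn (LP (LK LD1_c0 LD2_c50 LD3_c4))))))))))))
theorem f4978 : Led Lsl_dt (LP (LK LD1_c0 LD2_c22 LD3_c35)) = (LP (LK LD1_c0 LD2_c50 LD3_c5)) :=
  Lre_d IH (LK LD1_c0 LD2_c22 LD3_c35) (LK LD1_c0 LD2_c50 LD3_c5) Lrfl Lrfl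
theorem f23708 : Led Lsl_ct (LP (LK LD1_c0 LD2_c23 LD3_c19)) = (LP (LK LD1_c0 LD2_c10 LD3_c29)) :=
  Lre_c IH (LK LD1_c0 LD2_c23 LD3_c19) (LK LD1_c0 LD2_c10 LD3_c29) Lrfl Lrfl
theorem f65863 : Led Lsl_dt (LP (LK LD1_c0 LD2_c23 LD3_c20)) = (LP (LK LD1_c0 LD2_c10 LD3_c29)) :=
  Lre_d IH (LK LD1_c0 LD2_c23 LD3_c20) (LK LD1_c0 LD2_c10 LD3_c29) Lrfl Lrfl
theorem f65871 : Led Lsl_gt (LP (LK LD1_c0 LD2_c51 LD3_c36)) = (LP (LK LD1_c0 LD2_c23 LD3_c20)) :=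
  Lre_g IH (LK LD1_c0 LD2_c51 LD3_c36) (LK LD1_c0 LD2_c23 LD3_c20) Lrfl Lrfl
theorem f90600 : Led Lsl_df (LP (LK LD1_c0 LD2_c51 LD3_c36)) = (LP (LK LD1_c0 LD2_c47 LD3_c60)) :=
  Lgr Lrot153 (Lpr_gt (f65871 IH) (Lpr_dt (f65863 IH) (Lpe (f23708 IH) (Lpe (f15030 IH) (Lpr_gf (f90596 IH) (Lpr_df (f66739 IH) (Lpe (f66809 IH) (Lpr_cf (f90094 IH) (Lpe (f87557 IH) (Lpn (LP (LK LD1_c0 LD2_c47 LD3_c60))))))))))))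
theorem f92272 : Led Lsl_dt (LP (LK LD1_c0 LD2_c51 LD3_c36)) = (LP (LK LD1_c0 LD2_c47 LD3_c60)) :=
  Lgr Lrot42 (Lpr_df (f90600 IH) (Lpn (LP (LK LD1_c0 LD2_c47 LD3_c60))))
theorem f84725 : Led Lsl_dt (LP (LK LD1_c0 LD2_c21 LD3_c30)) = (LP (LK LD1_c0 LD2_c47 LD3_c61)) :=
  Lre_d IH (LK LD1_c0 LD2_c21 LD3_c30) (LK LD1_c0 LD2_c47 LD3_c61) Lrfl Lrfl
theorem f92278 : Led Lsl_bf (LP (LK LD1_c0 LD2_c51 LD3_c36)) = (LP (LK LD1_c0 LD2_c47 LD3_c61)) :=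
  Lgr Lrot93 (Lpr_dt (f92272 IH) (Lpr_bt (f84730 IH) (Lpr_dt (f84725 IH) (Lpn (LP (LK LD1_c0 LD2_c47 LD3_c61))))))
theorem f5728 : Led Lsl_ct (LP (LK LD1_c0 LD2_c23 LD3_c20)) = (LP (LK LD1_c0 LD2_c51 LD3_c37)) :=
  Lre_c IH (LK LD1_c0 LD2_c23 LD3_c20) (LK LD1_c0 LD2_c51 LD3_c37) Lrfl Lrfl
theorem f11306 : Led Lsl_bt (LP (LK LD1_c0 LD2_c21 LD3_c14)) = (LP (LK LD1_c0 LD2_c9 LD3_c39)) :=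
  Lre_b IH (LK LD1_c0 LD2_c21 LD3_c14) (LK LD1_c0 LD2_c9 LD3_c39) Lrfl Lrfl
theorem f11075 : Led Lsl_bt (LP (LK LD1_c0 LD2_c9 LD3_c13)) = (LP (LK LD1_c0 LD2_c20 LD3_c26)) :=
  Lre_b IH (LK LD1_c0 LD2_c9 LD3_c13) (LK LD1_c0 LD2_c20 LD3_c26) Lrfl Lrfl
theorem f11078 : Led Lsl_gt (LP (LK LD1_c0 LD2_c20 LD3_c26)) = (LP (LK LD1_c0 LD2_c45 LD3_c46)) :=
  Lre_g IH (LK LD1_c0 LD2_c20 LD3_c26) (LK LD1_c0 LD2_c45 LD3_c46) Lrfl Lrfl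
theorem f65832 : Led Lsl_bt (LP (LK LD1_c0 LD2_c44 LD3_c1)) = (LP (LK LD1_c0 LD2_c45 LD3_c46)) :=
  Lgr Lrot92 (Lpr_ct (f23664 IH) (Lpr_gt (f65785 IH) (Lpe (K1.f11061 IH) (Lpr_bt (f11306 IH) (Lpr_gt (K0.f11403 IH) (Lpr_ct (K0.f12655 IH) (Lpe (K0.f11283 IH) (Lpr_cf (K0.f11050 IH) (Lpr_bt (f11075 IH) (Lpr_gt (f11078 IH) (Lpn (LP (LK LD1_c0 LD2_c45 LD3_c46)))))))))))))
theorem f18770 : Led Lsl_ct (LP (LK LD1_c0 LD2_c21 LD3_c9)) = (LP (LK LD1_c0 LD2_c47 LD3_c14)) :=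
  Lre_c IH (LK LD1_c0 LD2_c21 LD3_c9) (LK LD1_c0 LD2_c47 LD3_c14) Lrfl Lrfl
theorem f7158 : Led Lsl_dt (LP (LK LD1_c0 LD2_c8 LD3_c48)) = (LP (LK LD1_c0 LD2_c19 LD3_c36)) :=
  Lre_d IH (LK LD1_c0 LD2_c8 LD3_c48) (LK LD1_c0 LD2_c19 LD3_c36) Lrfl Lrfl
theorem f62947 : Led Lsl_dt (LP (LK LD1_c0 LD2_c40 LD3_c16)) = (LP (LK LD1_c0 LD2_c18 LD3_c1)) :=
  Lre_d IH (LK LD1_c0 LD2_c40 LD3_c16) (LK LD1_c0 LD2_c18 LD3_c1) Lrfl Lrfl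
theorem f13675 : Led Lsl_ct (LP (LK LD1_c0 LD2_c9 LD3_c34)) = (LP (LK LD1_c0 LD2_c18 LD3_c1)) :=
  Lre_c IH (LK LD1_c0 LD2_c9 LD3_c34) (LK LD1_c0 LD2_c18 LD3_c1) Lrfl Lrfl
theorem f58193 : Led Lsl_dt (LP (LK LD1_c0 LD2_c21 LD3_c9)) = (LP (LK LD1_c0 LD2_c9 LD3_c34)) :=
  Lre_d IH (LK LD1_c0 LD2_c21 LD3_c9) (LK LD1_c0 LD2_c9 LD3_c34) Lrfl Lrfl
theorem f65637 : Led Lsl_gt (LP (LK LD1_c0 LD2_c10 LD3_c31)) = (LP (LK LD1_c0 LD2_c21 LD3_c9)) :=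
  Lgr Lrot49 (Lpe (f6700 IH) (Lpe (K0.f6699 IH) (Lpe (K1.f12427 IH) (Lpr_gt (K0.f7157 IH) (Lpr_dt (f7158 IH) (Lpr_gt (K1.f65387 IH) (Lpr_dt (f62947 IH) (Lpe (f13675 IH) (Lpe (f58193 IH) (Lpn (LP (LK LD1_c0 LD2_c21 LD3_c9))))))))))))
theorem f65788 : Led Lsl_bt (LP (LK LD1_c0 LD2_c23 LD3_c20)) = (LP (LK LD1_c0 LD2_c10 LD3_c31)) :=
  Lre_b IH (LK LD1_c0 LD2_c23 LD3_c20) (LK LD1_c0 LD2_c10 LD3_c31) Lrfl Lrfl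
theorem f18171 : Led Lsl_gf (LP (LK LD1_c0 LD2_c47 LD3_c34)) = (LP (LK LD1_c0 LD2_c45 LD3_c46)) :=
  Lgr Lrot76 (Lpe (f11408 IH) (Lpr_ff (K1.f18157 IH) (Lpr_gt (f11078 IH) (Lpn (LP (LK LD1_c0 LD2_c45 LD3_c46))))))
theorem f11411 : Led Lsl_bt (LP (LK LD1_c0 LD2_c47 LD3_c34)) = (LP (LK LD1_c0 LD2_c47 LD3_c34)) :=
  Lgr Lrot62 (Lpe (f11408 IH) (Lpe (K1.f4464 IH) (Lpr_af (K0.f11400 IH) (Lpe (K1.f11409 IH) (Lpe (f11410 IH) (Lpn (LP (LK LD1_c0 LD2_c47 LD3_c34))))))))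
theorem f65855 : Led Lsl_gf (LP (LK LD1_c0 LD2_c51 LD3_c37)) = (LP (LK LD1_c1 LD2_c41 LD3_c44)) :=
  Lgr Lrot126 (Lpe (f5728 IH) (Lpr_bt (f65788 IH) (Lpr_gt (f65637 IH) (Lpr_ct (f18770 IH) (Lpe (f65776 IH) (Lpe (f23664 IH) (Lpr_bt (f65832 IH) (Lpe (f18171 IH) (Lpe (f11411 IH) (Lpr_ct (f18077 IH) (Lpn (LP (LK LD1_c1 LD2_c41 LD3_c44)))))))))))))
theorem f65857 : Led Lsl_gt (LP (LK LD1_c0 LD2_c51 LD3_c37)) = (LP (LK LD1_c0 LD2_c45 LD3_c48)) :=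
  Lgr Lrot46 (Lpr_gf (f65855 IH) (Lpr_ft (f18223 IH) (Lpr_at (f18222 IH) (Lpn (LP (LK LD1_c0 LD2_c45 LD3_c48))))))
theorem f4938 : Led Lsl_bt (LP (LK LD1_c0 LD2_c10 LD3_c10)) = (LP (LK LD1_c0 LD2_c4 LD3_c48)) :=
  Lre_b IH (LK LD1_c0 LD2_c10 LD3_c10) (LK LD1_c0 LD2_c4 LD3_c48) Lrfl Lrfl
theorem f3923 : Led Lsl_ct (LP (LK LD1_c0 LD2_c10 LD3_c10)) = (LP (LK LD1_c0 LD2_c22 LD3_c35)) :=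
  Lre_c IH (LK LD1_c0 LD2_c10 LD3_c10) (LK LD1_c0 LD2_c22 LD3_c35) Lrfl Lrfl
theorem f5394 : Led Lsl_gt (LP (LK LD1_c0 LD2_c22 LD3_c35)) = (LP (LK LD1_c0 LD2_c50 LD3_c3)) :=
  Lre_g IH (LK LD1_c0 LD2_c22 LD3_c35) (LK LD1_c0 LD2_c50 LD3_c3) Lrfl Lrfl
theorem f92283 : Led Lsl_cf (LP (LK LD1_c0 LD2_c50 LD3_c3)) = (LP (LK LD1_c0 LD2_c47 LD3_c61)) :=
  Lgr Lrot58 (Lpe (f5394 IH) (Lpe (f3923 IH) (Lpr_bt (f4938 IH) (Lpe (K0.f11030 IH) (Lpe (K1.f11052 IH) (Lpr_ct (f11055 IH) (Lpe (f65857 IH) (Lpe (f5728 IH) (Lpe (f65871 IH) (Lpr_bf (f92278 IH) (Lpn (LP (LK LD1_c0 LD2_c47 LD3_c61)))))))))))))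
theorem f92287 : Led Lsl_ct (LP (LK LD1_c0 LD2_c50 LD3_c3)) = (LP (LK LD1_c0 LD2_c47 LD3_c61)) :=
  Lgr Lrot59 (Lpr_cf (f92283 IH) (Lpn (LP (LK LD1_c0 LD2_c47 LD3_c61))))
theorem f10788 : Led Lsl_dt (LP (LK LD1_c0 LD2_c21 LD3_c35)) = (LP (LK LD1_c0 LD2_c9 LD3_c44)) :=
  Lre_d IH (LK LD1_c0 LD2_c21 LD3_c35) (LK LD1_c0 LD2_c9 LD3_c44) Lrfl Lrfl
theorem f92338 : Led Lsl_gf (LP (LK LD1_c0 LD2_c10 LD3_c10)) = (LP (LK LD1_c0 LD2_c21 LD3_c35)) :=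
  Lgr Lrot147 (Lpr_ct (f3923 IH) (Lpr_gt (f5394 IH) (Lpr_ct (f92287 IH) (Lpe (f84725 IH) (Lpe (f10016 IH) (Lpe (f10015 IH) (Lpr_cf (f17637 IH) (Lpe (f6675 IH) (Lpe (f10788 IH) (Lpn (LP (LK LD1_c0 LD2_c21 LD3_c35))))))))))))
theorem f4939 : Led Lsl_at (LP (LK LD1_c0 LD2_c22 LD3_c33)) = (LP (LK LD1_c0 LD2_c10 LD3_c10)) :=
  Lre_a IH (LK LD1_c0 LD2_c22 LD3_c33) (LK LD1_c0 LD2_c10 LD3_c10) Lrfl Lrfl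
theorem f4953 : Led Lsl_at (LP (LK LD1_c0 LD2_c10 LD3_c5)) = (LP (LK LD1_c0 LD2_c22 LD3_c24)) :=
  Lre_a IH (LK LD1_c0 LD2_c10 LD3_c5) (LK LD1_c0 LD2_c22 LD3_c24) Lrfl Lrfl
theorem f4954 : Led Lsl_ft (LP (LK LD1_c0 LD2_c22 LD3_c24)) = (LP (LK LD1_c0 LD2_c22 LD3_c33)) :=
  Lgr Lrot101 (Lpe (f4953 IH) (Lpr_ff (K0.f4951 IH) (Lpe (f4939 IH) (Lpn (LP (LK LD1_c0 LD2_c22 LD3_c33))))))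
theorem f92342 : Led Lsl_gt (LP (LK LD1_c0 LD2_c22 LD3_c24)) = (LP (LK LD1_c0 LD2_c21 LD3_c35)) :=
  Lgr Lrot5 (Lpr_ft (f4954 IH) (Lpr_at (f4939 IH) (Lpr_gf (f92338 IH) (Lpn (LP (LK LD1_c0 LD2_c21 LD3_c35))))))
theorem f4387 : Led Lsl_gt (LP (LK LD1_c1 LD2_c46 LD3_c9)) = (LP (LK LD1_c0 LD2_c49 LD3_c50)) :=
  Lre_g IH (LK LD1_c1 LD2_c46 LD3_c9) (LK LD1_c0 LD2_c49 LD3_c50) Lrfl Lrfl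
theorem f5940 : Led Lsl_gt (LP (LK LD1_c0 LD2_c21 LD3_c41)) = (LP (LK LD1_c0 LD2_c48 LD3_c27)) :=
  Lre_g IH (LK LD1_c0 LD2_c21 LD3_c41) (LK LD1_c0 LD2_c48 LD3_c27) Lrfl Lrfl
theorem f10813 : Led Lsl_et (LP (LK LD1_c1 LD2_c43 LD3_c45)) = (LP (LK LD1_c0 LD2_c48 LD3_c27)) :=
  Lre_e IH (LK LD1_c1 LD2_c43 LD3_c45) (LK LD1_c0 LD2_c48 LD3_c27) Lrfl Lrfl
theorem f92484 : Led Lsl_df (LP (LK LD1_c1 LD2_c46 LD3_c9)) = (LP (LK LD1_c1 LD2_c43 LD3_c45)) :=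
  Lgr Lrot170 (Lpr_gt (f4387 IH) (Lpe (f4085 IH) (Lpr_et (f4382 IH) (Lpr_gt (f92342 IH) (Lpr_dt (f10788 IH) (Lpr_gt (f6675 IH) (Lpe (K0.f10225 IH) (Lpr_et (K0.f10215 IH) (Lpr_gt (f5940 IH) (Lpe (f10813 IH) (Lpn (LP (LK LD1_c1 LD2_c43 LD3_c45)))))))))))))
theorem f4071 : Led Lsl_gt (LP (LK LD1_c0 LD2_c49 LD3_c57)) = (LP (LK LD1_c1 LD2_c46 LD3_c9)) :=
  Lre_g IH (LK LD1_c0 LD2_c49 LD3_c57) (LK LD1_c1 LD2_c46 LD3_c9) Lrfl Lrfl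
theorem f4069 : Led Lsl_gt (LP (LK LD1_c1 LD2_c46 LD3_c8)) = (LP (LK LD1_c0 LD2_c49 LD3_c57)) :=
  Lre_g IH (LK LD1_c1 LD2_c46 LD3_c8) (LK LD1_c0 LD2_c49 LD3_c57) Lrfl Lrfl
theorem f6402 : Led Lsl_gt (LP (LK LD1_c0 LD2_c48 LD3_c27)) = (LP (LK LD1_c1 LD2_c43 LD3_c10)) :=
  Lre_g IH (LK LD1_c0 LD2_c48 LD3_c27) (LK LD1_c1 LD2_c43 LD3_c10) Lrfl Lrfl
theorem f10154 : Led Lsl_at (LP (LK LD1_c1 LD2_c43 LD3_c10)) = (LP (LK LD1_c0 LD2_c48 LD3_c30)) :=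
  Lre_a IH (LK LD1_c1 LD2_c43 LD3_c10) (LK LD1_c0 LD2_c48 LD3_c30) Lrfl Lrfl
theorem f10140 : Led Lsl_at (LP (LK LD1_c0 LD2_c49 LD3_c28)) = (LP (LK LD1_c1 LD2_c45 LD3_c4)) :=
  Lre_a IH (LK LD1_c0 LD2_c49 LD3_c28) (LK LD1_c1 LD2_c45 LD3_c4) Lrfl Lrfl
theorem f10210 : Led Lsl_ef (LP (LK LD1_c1 LD2_c43 LD3_c10)) = (LP (LK LD1_c1 LD2_c45 LD3_c4)) :=
  Lgr Lrot20 (Lpr_at (f10154 IH) (Lpr_et (K0.f10202 IH) (Lpr_at (f10140 IH) (Lpn (LP (LK LD1_c1 LD2_c45 LD3_c4))))))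
theorem f10810 : Led Lsl_dt (LP (LK LD1_c1 LD2_c45 LD3_c4)) = (LP (LK LD1_c3 LD2_c36 LD3_c28)) :=
  Lre_d IH (LK LD1_c1 LD2_c45 LD3_c4) (LK LD1_c3 LD2_c36 LD3_c28) Lrfl Lrfl
theorem f10814 : Led Lsl_gt (LP (LK LD1_c3 LD2_c36 LD3_c28)) = (LP (LK LD1_c1 LD2_c45 LD3_c38)) :=
  Lre_g IH (LK LD1_c3 LD2_c36 LD3_c28) (LK LD1_c1 LD2_c45 LD3_c38) Lrfl Lrfl
theorem f10815 : Led Lsl_dt (LP (LK LD1_c3 LD2_c37 LD3_c35)) = (LP (LK LD1_c1 LD2_c45 LD3_c38)) :=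
  Lre_d IH (LK LD1_c3 LD2_c37 LD3_c35) (LK LD1_c1 LD2_c45 LD3_c38) Lrfl Lrfl
theorem f92503 : Led Lsl_ef (LP (LK LD1_c1 LD2_c46 LD3_c8)) = (LP (LK LD1_c3 LD2_c37 LD3_c35)) :=
  Lgr Lrot167 (Lpr_gt (f4069 IH) (Lpr_dt (f4041 IH) (Lpr_gt (f4071 IH) (Lpr_df (f92484 IH) (Lpr_et (f10813 IH) (Lpr_gt (f6402 IH) (Lpr_ef (f10210 IH) (Lpr_dt (f10810 IH) (Lpr_gt (f10814 IH) (Lpe (f10815 IH) (Lpn (LP (LK LD1_c3 LD2_c37 LD3_c35)))))))))))))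
theorem f4388 : Led Lsl_gt (LP (LK LD1_c0 LD2_c49 LD3_c50)) = (LP (LK LD1_c1 LD2_c46 LD3_c8)) :=
  Lre_g IH (LK LD1_c0 LD2_c49 LD3_c50) (LK LD1_c1 LD2_c46 LD3_c8) Lrfl Lrfl
theorem f4971 : Led Lsl_ff (LP (LK LD1_c0 LD2_c4 LD3_c45)) = (LP (LK LD1_c0 LD2_c4 LD3_c47)) :=
  Lgr Lrot19 (Lpr_dt (K0.f374 IH) (Lpr_ft (K0.f4963 IH) (Lpr_dt (K0.f4965 IH) (Lpn (LP (LK LD1_c0 LD2_c4 LD3_c47))))))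
theorem f5756 : Led Lsl_gf (LP (LK LD1_c0 LD2_c10 LD3_c4)) = (LP (LK LD1_c0 LD2_c10 LD3_c7)) :=
  Lgr Lrot76 (Lpe (K0.f370 IH) (Lpr_ff (f4971 IH) (Lpr_gt (K0.f5709 IH) (Lpn (LP (LK LD1_c0 LD2_c10 LD3_c7))))))
theorem f6655 : Led Lsl_gt (LP (LK LD1_c1 LD2_c45 LD3_c38)) = (LP (LK LD1_c0 LD2_c49 LD3_c27)) :=
  Lre_g IH (LK LD1_c1 LD2_c45 LD3_c38) (LK LD1_c0 LD2_c49 LD3_c27) Lrfl Lrfl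
theorem f92511 : Led Lsl_dt (LP (LK LD1_c0 LD2_c22 LD3_c9)) = (LP (LK LD1_c0 LD2_c49 LD3_c27)) :=
  Lre_d IH (LK LD1_c0 LD2_c22 LD3_c9) (LK LD1_c0 LD2_c49 LD3_c27) Lrfl Lrfl
theorem f5900 : Led Lsl_gt (LP (LK LD1_c0 LD2_c9 LD3_c59)) = (LP (LK LD1_c0 LD2_c22 LD3_c6)) :=
  Lre_g IH (LK LD1_c0 LD2_c9 LD3_c59) (LK LD1_c0 LD2_c22 LD3_c6) Lrfl Lrfl
theorem f92512 : Led Lsl_df (LP (LK LD1_c0 LD2_c10 LD3_c7)) = (LP (LK LD1_c0 LD2_c22 LD3_c6)) :=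
  Lgr Lrot135 (Lpe (f5756 IH) (Lpe (f393 IH) (Lpr_et (f4381 IH) (Lpr_gt (f4388 IH) (Lpr_ef (f92503 IH) (Lpr_dt (f10815 IH) (Lpr_gt (f6655 IH) (Lpe (f92511 IH) (Lpr_et (K0.f10217 IH) (Lpr_gt (f5900 IH) (Lpn (LP (LK LD1_c0 LD2_c22 LD3_c6)))))))))))))
theorem f6673 : Led Lsl_dt (LP (LK LD1_c0 LD2_c49 LD3_c21)) = (LP (LK LD1_c1 LD2_c45 LD3_c19)) :=
  Lre_d IH (LK LD1_c0 LD2_c49 LD3_c21) (LK LD1_c1 LD2_c45 LD3_c19) Lrfl Lrfl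
theorem f92522 : Led Lsl_gf (LP (LK LD1_c1 LD2_c46 LD3_c6)) = (LP (LK LD1_c1 LD2_c45 LD3_c19)) :=
  Lgr Lrot143 (Lpr_dt (f395 IH) (Lpe (K0.f397 IH) (Lpe (K0.f396 IH) (Lpr_gf (f5756 IH) (Lpr_df (f92512 IH) (Lpe (f5900 IH) (Lpe (f5887 IH) (Lpr_gt (K0.f6672 IH) (Lpr_dt (f6673 IH) (Lpn (LP (LK LD1_c1 LD2_c45 LD3_c19))))))))))))
theorem f5021 : Led Lsl_at (LP (LK LD1_c0 LD2_c49 LD3_c53)) = (LP (LK LD1_c1 LD2_c46 LD3_c6)) :=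
  Lre_a IH (LK LD1_c0 LD2_c49 LD3_c53) (LK LD1_c1 LD2_c46 LD3_c6) Lrfl Lrfl
theorem f5232 : Led Lsl_ff (LP (LK LD1_c0 LD2_c49 LD3_c53)) = (LP (LK LD1_c0 LD2_c50 LD3_c5)) :=
  Lgr Lrot23 (Lpr_ct (K0.f377 IH) (Lpe (K0.f5005 IH) (Lpr_ct (K0.f5224 IH) (Lpn (LP (LK LD1_c0 LD2_c50 LD3_c5))))))
theorem f92526 : Led Lsl_gt (LP (LK LD1_c0 LD2_c50 LD3_c5)) = (LP (LK LD1_c1 LD2_c45 LD3_c19)) :=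
  Lgr Lrot5 (Lpe (f5232 IH) (Lpr_at (f5021 IH) (Lpr_gf (f92522 IH) (Lpn (LP (LK LD1_c1 LD2_c45 LD3_c19))))))
theorem f10680 : Led Lsl_dt (LP (LK LD1_c1 LD2_c45 LD3_c19)) = (LP (LK LD1_c0 LD2_c49 LD3_c21)) :=
  Lre_d IH (LK LD1_c1 LD2_c45 LD3_c19) (LK LD1_c0 LD2_c49 LD3_c21) Lrfl Lrfl
theorem f5712 : Led Lsl_dt (LP (LK LD1_c0 LD2_c22 LD3_c30)) = (LP (LK LD1_c0 LD2_c49 LD3_c61)) :=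
  Lre_d IH (LK LD1_c0 LD2_c22 LD3_c30) (LK LD1_c0 LD2_c49 LD3_c61) Lrfl Lrfl
theorem f5239 : Led Lsl_ff (LP (LK LD1_c0 LD2_c10 LD3_c4)) = (LP (LK LD1_c0 LD2_c10 LD3_c9)) :=
  Lgr Lrot23 (Lpr_ct (K0.f372 IH) (Lpr_ft (K0.f5236 IH) (Lpe (K0.f4996 IH) (Lpn (LP (LK LD1_c0 LD2_c10 LD3_c9))))))
theorem f4905 : Led Lsl_bt (LP (LK LD1_c0 LD2_c2 LD3_c11)) = (LP (LK LD1_c0 LD2_c4 LD3_c47)) :=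
  Lre_b IH (LK LD1_c0 LD2_c2 LD3_c11) (LK LD1_c0 LD2_c4 LD3_c47) Lrfl Lrfl
theorem f4907 : Led Lsl_bf (LP (LK LD1_c0 LD2_c10 LD3_c9)) = (LP (LK LD1_c0 LD2_c10 LD3_c9)) :=
  Lgr Lrot81 (Lpr_at (K0.f4904 IH) (Lpr_bt (K1.f4903 IH) (Lpr_at (K0.f3935 IH) (Lpr_bt (f4905 IH) (Lpr_at (K0.f4906 IH) (Lpn (LP (LK LD1_c0 LD2_c10 LD3_c9))))))))
theorem f5253 : Led Lsl_bt (LP (LK LD1_c0 LD2_c10 LD3_c4)) = (LP (LK LD1_c0 LD2_c10 LD3_c4)) :=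
  Lgr Lrot35 (Lpr_ff (f5239 IH) (Lpr_bf (f4907 IH) (Lpe (K0.f5236 IH) (Lpn (LP (LK LD1_c0 LD2_c10 LD3_c4))))))
theorem f5252 : Led Lsl_bt (LP (LK LD1_c0 LD2_c4 LD3_c57)) = (LP (LK LD1_c0 LD2_c10 LD3_c33)) :=
  Lre_b IH (LK LD1_c0 LD2_c4 LD3_c57) (LK LD1_c0 LD2_c10 LD3_c33) Lrfl Lrfl
theorem f5758 : Led Lsl_gt (LP (LK LD1_c0 LD2_c10 LD3_c33)) = (LP (LK LD1_c0 LD2_c22 LD3_c30)) :=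
  Lgr Lrot82 (Lpe (f5252 IH) (Lpr_ct (K1.f5251 IH) (Lpe (K1.f5250 IH) (Lpe (K0.f5249 IH) (Lpr_bt (K0.f5248 IH) (Lpe (K0.f5242 IH) (Lpe (f5253 IH) (Lpr_ct (K0.f372 IH) (Lpr_gf (f5756 IH) (Lpe (K0.f5717 IH) (Lpn (LP (LK LD1_c0 LD2_c22 LD3_c30)))))))))))))
theorem f5763 : Led Lsl_dt (LP (LK LD1_c0 LD2_c23 LD3_c31)) = (LP (LK LD1_c0 LD2_c10 LD3_c33)) :=
  Lre_d IH (LK LD1_c0 LD2_c23 LD3_c31) (LK LD1_c0 LD2_c10 LD3_c33) Lrfl Lrfl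
theorem f94450 : Led Lsl_gt (LP (LK LD1_c0 LD2_c48 LD3_c8)) = (LP (LK LD1_c0 LD2_c23 LD3_c31)) :=
  Lgr Lrot94 (Lpr_cf (f94416 IH) (Lpr_gt (f5238 IH) (Lpr_dt (f4978 IH) (Lpr_gt (f92526 IH) (Lpr_dt (f10680 IH) (Lpe (K0.f17296 IH) (Lpe (f5712 IH) (Lpe (f5758 IH) (Lpe (f5763 IH) (Lpn (LP (LK LD1_c0 LD2_c23 LD3_c31))))))))))))
theorem f10783 : Led Lsl_dt (LP (LK LD1_c0 LD2_c48 LD3_c8)) = (LP (LK LD1_c0 LD2_c21 LD3_c34)) :=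
  Lre_d IH (LK LD1_c0 LD2_c48 LD3_c8) (LK LD1_c0 LD2_c21 LD3_c34) Lrfl Lrfl
theorem f19422 : Led Lsl_bt (LP (LK LD1_c0 LD2_c46 LD3_c53)) = (LP (LK LD1_c0 LD2_c21 LD3_c1)) :=
  Lre_b IH (LK LD1_c0 LD2_c46 LD3_c53) (LK LD1_c0 LD2_c21 LD3_c1) Lrfl Lrfl
theorem f11006 : Led Lsl_bt (LP (LK LD1_c0 LD2_c4 LD3_c32)) = (LP (LK LD1_c0 LD2_c9 LD3_c36)) :=
  Lre_b IH (LK LD1_c0 LD2_c4 LD3_c32) (LK LD1_c0 LD2_c9 LD3_c36) Lrfl Lrfl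
theorem f87577 : Led Lsl_ct (LP (LK LD1_c0 LD2_c46 LD3_c53)) = (LP (LK LD1_c0 LD2_c48 LD3_c61)) :=
  Lgr Lrot63 (Lpr_bt (f19422 IH) (Lpr_gt (f87566 IH) (Lpe (f11006 IH) (Lpr_ct (K0.f171 IH) (Lpr_gt (K0.f11017 IH) (Lpe (K0.f356 IH) (Lpr_bt (K0.f5855 IH) (Lpr_gt (K1.f5856 IH) (Lpr_ct (K1.f10300 IH) (Lpr_gt (f10297 IH) (Lpn (LP (LK LD1_c0 LD2_c48 LD3_c61)))))))))))))
theorem f10758 : Led Lsl_ct (LP (LK LD1_c0 LD2_c49 LD3_c9)) = (LP (LK LD1_c0 LD2_c22 LD3_c2)) :=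
  Lre_c IH (LK LD1_c0 LD2_c49 LD3_c9) (LK LD1_c0 LD2_c22 LD3_c2) Lrfl Lrfl
theorem f5783 : Led Lsl_ct (LP (LK LD1_c0 LD2_c23 LD3_c31)) = (LP (LK LD1_c0 LD2_c51 LD3_c60)) :=
  Lre_c IH (LK LD1_c0 LD2_c23 LD3_c31) (LK LD1_c0 LD2_c51 LD3_c60) Lrfl Lrfl
theorem f94478 : Led Lsl_gf (LP (LK LD1_c0 LD2_c49 LD3_c9)) = (LP (LK LD1_c0 LD2_c51 LD3_c60)) :=
  Lgr Lrot104 (Lpr_ct (f10758 IH) (Lpe (K0.f10757 IH) (Lpe (K0.f10766 IH) (Lpr_gf (f90075 IH) (Lpe (f87577 IH) (Lpe (f84691 IH) (Lpe (f10783 IH) (Lpr_gt (f94450 IH) (Lpr_ct (f5783 IH) (Lpn (LP (LK LD1_c0 LD2_c51 LD3_c60))))))))))))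
theorem f379 : Led Lsl_ct (LP (LK LD1_c0 LD2_c22 LD3_c25)) = (LP (LK LD1_c0 LD2_c10 LD3_c5)) :=
  Lre_c IH (LK LD1_c0 LD2_c22 LD3_c25) (LK LD1_c0 LD2_c10 LD3_c5) Lrfl Lrfl
theorem f5261 : Led Lsl_bf (LP (LK LD1_c0 LD2_c22 LD3_c24)) = (LP (LK LD1_c0 LD2_c22 LD3_c24)) :=
  Lgr Lrot93 (Lpr_dt (f393 IH) (Lpr_bt (f5253 IH) (Lpr_dt (K0.f396 IH) (Lpn (LP (LK LD1_c0 LD2_c22 LD3_c24))))))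
theorem f5265 : Led Lsl_bt (LP (LK LD1_c0 LD2_c49 LD3_c50)) = (LP (LK LD1_c0 LD2_c49 LD3_c50)) :=
  Lgr Lrot119 (Lpe (f4381 IH) (Lpr_bf (f5261 IH) (Lpe (f4382 IH) (Lpn (LP (LK LD1_c0 LD2_c49 LD3_c50))))))
theorem f4026 : Led Lsl_bt (LP (LK LD1_c0 LD2_c10 LD3_c6)) = (LP (LK LD1_c0 LD2_c22 LD3_c26)) :=
  Lre_b IH (LK LD1_c0 LD2_c10 LD3_c6) (LK LD1_c0 LD2_c22 LD3_c26) Lrfl Lrfl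
theorem f4370 : Led Lsl_at (LP (LK LD1_c0 LD2_c49 LD3_c50)) = (LP (LK LD1_c0 LD2_c22 LD3_c26)) :=
  Lre_a IH (LK LD1_c0 LD2_c49 LD3_c50) (LK LD1_c0 LD2_c22 LD3_c26) Lrfl Lrfl
theorem f4025 : Led Lsl_bt (LP (LK LD1_c0 LD2_c22 LD3_c26)) = (LP (LK LD1_c0 LD2_c10 LD3_c6)) :=
  Lre_b IH (LK LD1_c0 LD2_c22 LD3_c26) (LK LD1_c0 LD2_c10 LD3_c6) Lrfl Lrfl
theorem f5267 : Led Lsl_af (LP (LK LD1_c0 LD2_c10 LD3_c6)) = (LP (LK LD1_c0 LD2_c10 LD3_c6)) :=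
  Lgr Lrot36 (Lpr_bt (f4026 IH) (Lpr_at (f4055 IH) (Lpr_bt (f5265 IH) (Lpr_at (f4370 IH) (Lpr_bt (f4025 IH) (Lpn (LP (LK LD1_c0 LD2_c10 LD3_c6))))))))
theorem f3932 : Led Lsl_et (LP (LK LD1_c0 LD2_c4 LD3_c48)) = (LP (LK LD1_c0 LD2_c10 LD3_c12)) :=
  Lre_e IH (LK LD1_c0 LD2_c4 LD3_c48) (LK LD1_c0 LD2_c10 LD3_c12) Lrfl Lrfl
theorem f3933 : Led Lsl_cf (LP (LK LD1_c0 LD2_c10 LD3_c6)) = (LP (LK LD1_c0 LD2_c10 LD3_c12)) :=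
  Lgr Lrot39 (Lpr_et (f3931 IH) (Lpr_ct (K0.f3919 IH) (Lpr_et (f3932 IH) (Lpn (LP (LK LD1_c0 LD2_c10 LD3_c12))))))
theorem f4944 : Led Lsl_et (LP (LK LD1_c0 LD2_c10 LD3_c12)) = (LP (LK LD1_c0 LD2_c4 LD3_c48)) :=
  Lre_e IH (LK LD1_c0 LD2_c10 LD3_c12) (LK LD1_c0 LD2_c4 LD3_c48) Lrfl Lrfl
theorem f4945 : Led Lsl_at (LP (LK LD1_c0 LD2_c10 LD3_c12)) = (LP (LK LD1_c0 LD2_c10 LD3_c12)) :=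
  Lgr Lrot80 (Lpe (f3932 IH) (Lpr_af (K0.f4909 IH) (Lpe (f4944 IH) (Lpn (LP (LK LD1_c0 LD2_c10 LD3_c12))))))
theorem f5318 : Led Lsl_ct (LP (LK LD1_c0 LD2_c10 LD3_c6)) = (LP (LK LD1_c0 LD2_c10 LD3_c12)) :=
  Lgr Lrot111 (Lpr_af (f5267 IH) (Lpr_cf (f3933 IH) (Lpe (f4945 IH) (Lpn (LP (LK LD1_c0 LD2_c10 LD3_c12))))))
theorem f4122 : Led Lsl_ct (LP (LK LD1_c0 LD2_c49 LD3_c54)) = (LP (LK LD1_c0 LD2_c22 LD3_c26)) :=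
  Lre_c IH (LK LD1_c0 LD2_c49 LD3_c54) (LK LD1_c0 LD2_c22 LD3_c26) Lrfl Lrfl
theorem f5324 : Led Lsl_bt (LP (LK LD1_c0 LD2_c10 LD3_c12)) = (LP (LK LD1_c0 LD2_c22 LD3_c36)) :=
  Lre_b IH (LK LD1_c0 LD2_c10 LD3_c12) (LK LD1_c0 LD2_c22 LD3_c36) Lrfl Lrfl
theorem f5325 : Led Lsl_ct (LP (LK LD1_c0 LD2_c22 LD3_c36)) = (LP (LK LD1_c0 LD2_c50 LD3_c6)) :=
  Lre_c IH (LK LD1_c0 LD2_c22 LD3_c36) (LK LD1_c0 LD2_c50 LD3_c6) Lrfl Lrfl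
theorem f5326 : Led Lsl_bf (LP (LK LD1_c0 LD2_c49 LD3_c54)) = (LP (LK LD1_c0 LD2_c50 LD3_c6)) :=
  Lgr Lrot90 (Lpr_ct (f4122 IH) (Lpr_bt (f4025 IH) (Lpr_ct (f5318 IH) (Lpr_bt (f5324 IH) (Lpr_ct (f5325 IH) (Lpn (LP (LK LD1_c0 LD2_c50 LD3_c6))))))))
theorem f5339 : Led Lsl_et (LP (LK LD1_c0 LD2_c49 LD3_c54)) = (LP (LK LD1_c0 LD2_c22 LD3_c25)) :=
  Lre_e IH (LK LD1_c0 LD2_c49 LD3_c54) (LK LD1_c0 LD2_c22 LD3_c25) Lrfl Lrfl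
theorem f5340 : Led Lsl_et (LP (LK LD1_c0 LD2_c22 LD3_c35)) = (LP (LK LD1_c0 LD2_c50 LD3_c6)) :=
  Lre_e IH (LK LD1_c0 LD2_c22 LD3_c35) (LK LD1_c0 LD2_c50 LD3_c6) Lrfl Lrfl
theorem f5341 : Led Lsl_bt (LP (LK LD1_c0 LD2_c22 LD3_c25)) = (LP (LK LD1_c0 LD2_c22 LD3_c35)) :=
  Lgr Lrot119 (Lpe (f5339 IH) (Lpr_bf (f5326 IH) (Lpe (f5340 IH) (Lpn (LP (LK LD1_c0 LD2_c22 LD3_c35))))))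
theorem f5396 : Led Lsl_bt (LP (LK LD1_c1 LD2_c46 LD3_c38)) = (LP (LK LD1_c0 LD2_c50 LD3_c3)) :=
  Lre_b IH (LK LD1_c1 LD2_c46 LD3_c38) (LK LD1_c0 LD2_c50 LD3_c3) Lrfl Lrfl
theorem f94482 : Led Lsl_bt (LP (LK LD1_c1 LD2_c50 LD3_c15)) = (LP (LK LD1_c0 LD2_c51 LD3_c60)) :=
  Lre_b IH (LK LD1_c1 LD2_c50 LD3_c15) (LK LD1_c0 LD2_c51 LD3_c60) Lrfl Lrfl
theorem f93627 : Led Lsl_ct (LP (LK LD1_c1 LD2_c50 LD3_c15)) = (LP (LK LD1_c0 LD2_c52 LD3_c7)) :=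
  Lre_c IH (LK LD1_c1 LD2_c50 LD3_c15) (LK LD1_c0 LD2_c52 LD3_c7) Lrfl Lrfl
theorem f62825 : Led Lsl_gt (LP (LK LD1_c1 LD2_c50 LD3_c25)) = (LP (LK LD1_c0 LD2_c52 LD3_c7)) :=
  Lre_g IH (LK LD1_c1 LD2_c50 LD3_c25) (LK LD1_c0 LD2_c52 LD3_c7) Lrfl Lrfl
theorem f94485 : Led Lsl_ct (LP (LK LD1_c1 LD2_c46 LD3_c38)) = (LP (LK LD1_c1 LD2_c50 LD3_c25)) :=
  Lgr Lrot64 (Lpr_bt (f5396 IH) (Lpe (f5394 IH) (Lpe (f5341 IH) (Lpr_ct (f379 IH) (Lpe (K0.f17956 IH) (Lpe (f10758 IH) (Lpr_gf (f94478 IH) (Lpe (f94482 IH) (Lpr_ct (f93627 IH) (Lpe (f62825 IH) (Lpn (LP (LK LD1_c1 LD2_c50 LD3_c25)))))))))))))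
theorem f94539 : Led Lsl_cf (LP (LK LD1_c1 LD2_c46 LD3_c38)) = (LP (LK LD1_c1 LD2_c50 LD3_c25)) :=
  Lgr Lrot11 (Lpr_ct (f94485 IH) (Lpn (LP (LK LD1_c1 LD2_c50 LD3_c25))))
theorem f92340 : Led Lsl_gt (LP (LK LD1_c3 LD2_c39 LD3_c21)) = (LP (LK LD1_c1 LD2_c46 LD3_c38)) :=
  Lre_g IH (LK LD1_c3 LD2_c39 LD3_c21) (LK LD1_c1 LD2_c46 LD3_c38) Lrfl Lrfl
theorem f17905 : Led Lsl_bt (LP (LK LD1_c1 LD2_c44 LD3_c55)) = (LP (LK LD1_c0 LD2_c49 LD3_c9)) :=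
  Lre_b IH (LK LD1_c1 LD2_c44 LD3_c55) (LK LD1_c0 LD2_c49 LD3_c9) Lrfl Lrfl
theorem f10760 : Led Lsl_ct (LP (LK LD1_c0 LD2_c22 LD3_c2)) = (LP (LK LD1_c0 LD2_c49 LD3_c9)) :=
  Lre_c IH (LK LD1_c0 LD2_c22 LD3_c2) (LK LD1_c0 LD2_c49 LD3_c9) Lrfl Lrfl
theorem f10764 : Led Lsl_bt (LP (LK LD1_c0 LD2_c49 LD3_c9)) = (LP (LK LD1_c1 LD2_c44 LD3_c55)) :=
  Lre_b IH (LK LD1_c0 LD2_c49 LD3_c9) (LK LD1_c1 LD2_c44 LD3_c55) Lrfl Lrfl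
theorem f17787 : Led Lsl_bt (LP (LK LD1_c3 LD2_c29 LD3_c20)) = (LP (LK LD1_c1 LD2_c41 LD3_c24)) :=
  Lre_b IH (LK LD1_c3 LD2_c29 LD3_c20) (LK LD1_c1 LD2_c41 LD3_c24) Lrfl Lrfl
theorem f17788 : Led Lsl_ct (LP (LK LD1_c1 LD2_c44 LD3_c55)) = (LP (LK LD1_c3 LD2_c29 LD3_c20)) :=
  Lgr Lrot83 (Lpe (f10764 IH) (Lpe (f10760 IH) (Lpe (K0.f17786 IH) (Lpr_cf (K0.f17780 IH) (Lpe (f17787 IH) (Lpn (LP (LK LD1_c3 LD2_c29 LD3_c20))))))))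
theorem f17803 : Led Lsl_gt (LP (LK LD1_c3 LD2_c29 LD3_c20)) = (LP (LK LD1_c7 LD2_c0 LD3_c16)) :=
  Lre_g IH (LK LD1_c3 LD2_c29 LD3_c20) (LK LD1_c7 LD2_c0 LD3_c16) Lrfl Lrfl
theorem f92341 : Led Lsl_bt (LP (LK LD1_c7 LD2_c18 LD3_c55)) = (LP (LK LD1_c3 LD2_c39 LD3_c21)) :=
  Lre_b IH (LK LD1_c7 LD2_c18 LD3_c55) (LK LD1_c3 LD2_c39 LD3_c21) Lrfl Lrfl
theorem f94489 : Led Lsl_cf (LP (LK LD1_c7 LD2_c0 LD3_c16)) = (LP (LK LD1_c7 LD2_c18 LD3_c55)) :=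
  Lgr Lrot58 (Lpe (f17803 IH) (Lpe (f17788 IH) (Lpr_bt (f17905 IH) (Lpr_gf (f94478 IH) (Lpe (f94482 IH) (Lpr_ct (f93627 IH) (Lpe (f62825 IH) (Lpe (f94485 IH) (Lpe (f92340 IH) (Lpe (f92341 IH) (Lpn (LP (LK LD1_c7 LD2_c18 LD3_c55)))))))))))))
theorem f91111 : Led Lsl_gt (LP (LK LD1_c3 LD2_c26 LD3_c31)) = (LP (LK LD1_c1 LD2_c39 LD3_c57)) :=
  Lre_g IH (LK LD1_c3 LD2_c26 LD3_c31) (LK LD1_c1 LD2_c39 LD3_c57) Lrfl Lrfl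
theorem f90856 : Led Lsl_df (LP (LK LD1_c1 LD2_c41 LD3_c44)) = (LP (LK LD1_c3 LD2_c27 LD3_c5)) :=
  Lgr Lrot84 (Lpe (f18077 IH) (Lpe (f18065 IH) (Lpr_gf (f18146 IH) (Lpr_df (f90849 IH) (Lpe (f9903 IH) (Lpe (K0.f9878 IH) (Lpr_gt (f11951 IH) (Lpr_dt (f89848 IH) (Lpr_gt (f90152 IH) (Lpn (LP (LK LD1_c3 LD2_c27 LD3_c5))))))))))))
theorem f18173 : Led Lsl_ct (LP (LK LD1_c1 LD2_c38 LD3_c42)) = (LP (LK LD1_c0 LD2_c45 LD3_c46)) :=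
  Lre_c IH (LK LD1_c1 LD2_c38 LD3_c42) (LK LD1_c0 LD2_c45 LD3_c46) Lrfl Lrfl
theorem f18174 : Led Lsl_gt (LP (LK LD1_c3 LD2_c24 LD3_c33)) = (LP (LK LD1_c1 LD2_c38 LD3_c42)) :=
  Lre_g IH (LK LD1_c3 LD2_c24 LD3_c33) (LK LD1_c1 LD2_c38 LD3_c42) Lrfl Lrfl
theorem f91134 : Led Lsl_df (LP (LK LD1_c3 LD2_c26 LD3_c31)) = (LP (LK LD1_c3 LD2_c24 LD3_c33)) :=
  Lgr Lrot155 (Lpr_gt (f91111 IH) (Lpr_ct (f91106 IH) (Lpe (f83732 IH) (Lpr_ct (f90950 IH) (Lpe (f90856 IH) (Lpe (f18077 IH) (Lpr_gf (f18171 IH) (Lpe (f18173 IH) (Lpe (f18174 IH) (Lpn (LP (LK LD1_c3 LD2_c24 LD3_c33))))))))))))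
theorem f90854 : Led Lsl_dt (LP (LK LD1_c1 LD2_c39 LD3_c57)) = (LP (LK LD1_c0 LD2_c46 LD3_c30)) :=
  Lre_d IH (LK LD1_c1 LD2_c39 LD3_c57) (LK LD1_c0 LD2_c46 LD3_c30) Lrfl Lrfl
theorem f12057 : Led Lsl_ct (LP (LK LD1_c0 LD2_c46 LD3_c30)) = (LP (LK LD1_c0 LD2_c20 LD3_c53)) :=
  Lre_c IH (LK LD1_c0 LD2_c46 LD3_c30) (LK LD1_c0 LD2_c20 LD3_c53) Lrfl Lrfl
theorem f11076 : Led Lsl_gt (LP (LK LD1_c0 LD2_c45 LD3_c47)) = (LP (LK LD1_c0 LD2_c20 LD3_c26)) :=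
  Lre_g IH (LK LD1_c0 LD2_c45 LD3_c47) (LK LD1_c0 LD2_c20 LD3_c26) Lrfl Lrfl
theorem f12825 : Led Lsl_ct (LP (LK LD1_c0 LD2_c45 LD3_c47)) = (LP (LK LD1_c1 LD2_c38 LD3_c45)) :=
  Lre_c IH (LK LD1_c0 LD2_c45 LD3_c47) (LK LD1_c1 LD2_c38 LD3_c45) Lrfl Lrfl
theorem f91138 : Led Lsl_gt (LP (LK LD1_c1 LD2_c38 LD3_c45)) = (LP (LK LD1_c3 LD2_c24 LD3_c33)) :=
  Lgr Lrot94 (Lpe (f12825 IH) (Lpr_gt (f11076 IH) (Lpr_dt (K1.f12844 IH) (Lpr_gt (f3960 IH) (Lpr_dt (f90847 IH) (Lpe (f12057 IH) (Lpe (f90854 IH) (Lpe (f91111 IH) (Lpr_df (f91134 IH) (Lpn (LP (LK LD1_c3 LD2_c24 LD3_c33))))))))))))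
theorem f19157 : Led Lsl_gt (LP (LK LD1_c0 LD2_c47 LD3_c34)) = (LP (LK LD1_c0 LD2_c45 LD3_c47)) :=
  Lgr Lrot5 (Lpr_ft (f18162 IH) (Lpr_at (f15849 IH) (Lpe (f11076 IH) (Lpn (LP (LK LD1_c0 LD2_c45 LD3_c47))))))
theorem f18088 : Led Lsl_bt (LP (LK LD1_c0 LD2_c21 LD3_c25)) = (LP (LK LD1_c0 LD2_c21 LD3_c25)) :=
  Lgr Lrot95 (Lpr_df (f18078 IH) (Lpe (f11411 IH) (Lpe (f18065 IH) (Lpn (LP (LK LD1_c0 LD2_c21 LD3_c25))))))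
theorem f21165 : Led Lsl_cf (LP (LK LD1_c0 LD2_c21 LD3_c59)) = (LP (LK LD1_c0 LD2_c39 LD3_c59)) :=
  Lgr Lrot11 (Lpr_ct (f21157 IH) (Lpn (LP (LK LD1_c0 LD2_c39 LD3_c59))))
theorem f21169 : Led Lsl_ct (LP (LK LD1_c0 LD2_c46 LD3_c56)) = (LP (LK LD1_c1 LD2_c26 LD3_c25)) :=
  Lgr Lrot83 (Lpr_bf (K1.f17650 IH) (Lpe (K1.f10300 IH) (Lpe (f10303 IH) (Lpr_cf (f21165 IH) (Lpe (f21025 IH) (Lpn (LP (LK LD1_c1 LD2_c26 LD3_c25))))))))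
theorem f90110 : Led Lsl_gt (LP (LK LD1_c0 LD2_c45 LD3_c43)) = (LP (LK LD1_c1 LD2_c26 LD3_c25)) :=
  Lgr Lrot149 (Lpe (f19342 IH) (Lpe (f19340 IH) (Lpe (f18088 IH) (Lpr_ct (f18090 IH) (Lpe (f66809 IH) (Lpr_cf (f90094 IH) (Lpr_bt (f19417 IH) (Lpe (f10297 IH) (Lpe (f17668 IH) (Lpr_ct (f21169 IH) (Lpn (LP (LK LD1_c1 LD2_c26 LD3_c25)))))))))))))
theorem f91220 : Led Lsl_cf (LP (LK LD1_c1 LD2_c40 LD3_c51)) = (LP (LK LD1_c3 LD2_c24 LD3_c33)) :=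
  Lgr Lrot99 (Lpe (K1.f17660 IH) (Lpr_cf (f21163 IH) (Lpe (f90110 IH) (Lpe (f19342 IH) (Lpe (f19340 IH) (Lpr_df (f18078 IH) (Lpr_gt (f19157 IH) (Lpr_ct (f12825 IH) (Lpr_gt (f91138 IH) (Lpn (LP (LK LD1_c3 LD2_c24 LD3_c33))))))))))))
theorem f91224 : Led Lsl_ct (LP (LK LD1_c1 LD2_c40 LD3_c51)) = (LP (LK LD1_c3 LD2_c24 LD3_c33)) :=
  Lgr Lrot59 (Lpr_cf (f91220 IH) (Lpn (LP (LK LD1_c3 LD2_c24 LD3_c33))))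
theorem f89289 : Led Lsl_at (LP (LK LD1_c1 LD2_c50 LD3_c43)) = (LP (LK LD1_c0 LD2_c52 LD3_c40)) :=
  Lgr Lrot66 (Lpr_ff (f89287 IH) (Lpe (f87773 IH) (Lpr_ff (f87792 IH) (Lpn (LP (LK LD1_c0 LD2_c52 LD3_c40))))))
theorem f17456 : Led Lsl_gt (LP (LK LD1_c0 LD2_c52 LD3_c31)) = (LP (LK LD1_c1 LD2_c51 LD3_c20)) :=
  Lre_g IH (LK LD1_c0 LD2_c52 LD3_c31) (LK LD1_c1 LD2_c51 LD3_c20) Lrfl Lrfl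
theorem f89295 : Led Lsl_gf (LP (LK LD1_c0 LD2_c52 LD3_c40)) = (LP (LK LD1_c1 LD2_c51 LD3_c20)) :=
  Lgr Lrot76 (Lpe (f89289 IH) (Lpr_ff (f89287 IH) (Lpr_gt (f17456 IH) (Lpn (LP (LK LD1_c1 LD2_c51 LD3_c20))))))
theorem f62184 : Led Lsl_dt (LP (LK LD1_c1 LD2_c35 LD3_c19)) = (LP (LK LD1_c0 LD2_c44 LD3_c17)) :=
  Lre_d IH (LK LD1_c1 LD2_c35 LD3_c19) (LK LD1_c0 LD2_c44 LD3_c17) Lrfl Lrfl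
theorem f63504 : Led Lsl_dt (LP (LK LD1_c0 LD2_c23 LD3_c47)) = (LP (LK LD1_c0 LD2_c52 LD3_c40)) :=
  Lre_d IH (LK LD1_c0 LD2_c23 LD3_c47) (LK LD1_c0 LD2_c52 LD3_c40) Lrfl Lrfl
theorem f84974 : Led Lsl_cf (LP (LK LD1_c1 LD2_c35 LD3_c19)) = (LP (LK LD1_c0 LD2_c52 LD3_c40)) :=
  Lgr Lrot55 (Lpr_dt (f62184 IH) (Lpe (K1.f62010 IH) (Lpr_dt (K1.f17782 IH) (Lpr_ct (K1.f25023 IH) (Lpr_dt (K1.f62667 IH) (Lpr_ct (K0.f17301 IH) (Lpr_dt (K1.f17460 IH) (Lpr_ct (K1.f64603 IH) (Lpr_dt (K1.f64251 IH) (Lpe (K1.f64478 IH) (Lpr_dt (K1.f19357 IH) (Lpr_ct (K1.f19356 IH) (Lpr_dt (f84971 IH) (Lpr_ct (f14681 IH) (Lpr_dt (f63504 IH) (Lpn (LP (LK LD1_c0 LD2_c52 LD3_c40))))))))))))))))))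
theorem f87181 : Led Lsl_ct (LP (LK LD1_c1 LD2_c35 LD3_c19)) = (LP (LK LD1_c0 LD2_c52 LD3_c40)) :=
  Lgr Lrot59 (Lpr_cf (f84974 IH) (Lpn (LP (LK LD1_c0 LD2_c52 LD3_c40))))
theorem f63219 : Led Lsl_ef (LP (LK LD1_c6 LD2_c59 LD3_c58)) = (LP (LK LD1_c7 LD2_c41 LD3_c33)) :=
  Lgr Lrot88 (Lpr_et (K1.f63203 IH) (Lpn (LP (LK LD1_c7 LD2_c41 LD3_c33))))
theorem f63221 : Led Lsl_dt (LP (LK LD1_c6 LD2_c59 LD3_c58)) = (LP (LK LD1_c13 LD2_c16 LD3_c52)) :=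
  Lre_d IH (LK LD1_c6 LD2_c59 LD3_c58) (LK LD1_c13 LD2_c16 LD3_c52) Lrfl Lrfl
theorem f63232 : Led Lsl_et (LP (LK LD1_c13 LD2_c16 LD3_c52)) = (LP (LK LD1_c22 LD2_c32 LD3_c22)) :=
  Lre_e IH (LK LD1_c13 LD2_c16 LD3_c52) (LK LD1_c22 LD2_c32 LD3_c22) Lrfl Lrfl
theorem f63233 : Led Lsl_dt (LP (LK LD1_c14 LD2_c30 LD3_c0)) = (LP (LK LD1_c7 LD2_c41 LD3_c33)) :=
  Lre_d IH (LK LD1_c14 LD2_c30 LD3_c0) (LK LD1_c7 LD2_c41 LD3_c33) Lrfl Lrfl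
theorem f63234 : Led Lsl_et (LP (LK LD1_c24 LD2_c11 LD3_c7)) = (LP (LK LD1_c14 LD2_c30 LD3_c0)) :=
  Lre_e IH (LK LD1_c24 LD2_c11 LD3_c7) (LK LD1_c14 LD2_c30 LD3_c0) Lrfl Lrfl
theorem f63235 : Led Lsl_dt (LP (LK LD1_c22 LD2_c32 LD3_c22)) = (LP (LK LD1_c24 LD2_c11 LD3_c7)) :=
  Lgr Lrot77 (Lpe (f63232 IH) (Lpe (f63221 IH) (Lpr_ef (f63219 IH) (Lpe (f63233 IH) (Lpe (f63234 IH) (Lpn (LP (LK LD1_c24 LD2_c11 LD3_c7))))))))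
theorem f63252 : Led Lsl_ft (LP (LK LD1_c13 LD2_c17 LD3_c6)) = (LP (LK LD1_c22 LD2_c32 LD3_c22)) :=
  Lre_f IH (LK LD1_c13 LD2_c17 LD3_c6) (LK LD1_c22 LD2_c32 LD3_c22) Lrfl Lrfl
theorem f63253 : Led Lsl_dt (LP (LK LD1_c22 LD2_c29 LD3_c59)) = (LP (LK LD1_c13 LD2_c17 LD3_c6)) :=
  Lre_d IH (LK LD1_c22 LD2_c29 LD3_c59) (LK LD1_c13 LD2_c17 LD3_c6) Lrfl Lrfl
theorem f63254 : Led Lsl_ff (LP (LK LD1_c22 LD2_c29 LD3_c59)) = (LP (LK LD1_c24 LD2_c11 LD3_c7)) :=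
  Lgr Lrot19 (Lpr_dt (f63253 IH) (Lpr_ft (f63252 IH) (Lpr_dt (f63235 IH) (Lpn (LP (LK LD1_c24 LD2_c11 LD3_c7))))))
theorem f63274 : Led Lsl_ft (LP (LK LD1_c22 LD2_c29 LD3_c59)) = (LP (LK LD1_c24 LD2_c11 LD3_c7)) :=
  Lgr Lrot48 (Lpr_ff (f63254 IH) (Lpn (LP (LK LD1_c24 LD2_c11 LD3_c7))))
theorem f63283 : Led Lsl_et (LP (LK LD1_c13 LD2_c14 LD3_c61)) = (LP (LK LD1_c22 LD2_c29 LD3_c59)) :=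
  Lre_e IH (LK LD1_c13 LD2_c14 LD3_c61) (LK LD1_c22 LD2_c29 LD3_c59) Lrfl Lrfl
theorem f63284 : Led Lsl_ft (LP (LK LD1_c6 LD2_c58 LD3_c46)) = (LP (LK LD1_c13 LD2_c14 LD3_c61)) :=
  Lre_f IH (LK LD1_c6 LD2_c58 LD3_c46) (LK LD1_c13 LD2_c14 LD3_c61) Lrfl Lrfl
theorem f63285 : Led Lsl_ft (LP (LK LD1_c14 LD2_c30 LD3_c0)) = (LP (LK LD1_c7 LD2_c41 LD3_c32)) :=
  Lre_f IH (LK LD1_c14 LD2_c30 LD3_c0) (LK LD1_c7 LD2_c41 LD3_c32) Lrfl Lrfl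
theorem f63286 : Led Lsl_ef (LP (LK LD1_c6 LD2_c58 LD3_c46)) = (LP (LK LD1_c7 LD2_c41 LD3_c32)) :=
  Lgr Lrot21 (Lpr_ft (f63284 IH) (Lpr_et (f63283 IH) (Lpr_ft (f63274 IH) (Lpr_et (f63234 IH) (Lpr_ft (f63285 IH) (Lpn (LP (LK LD1_c7 LD2_c41 LD3_c32))))))))
theorem f63312 : Led Lsl_ct (LP (LK LD1_c6 LD2_c58 LD3_c46)) = (LP (LK LD1_c13 LD2_c14 LD3_c60)) :=
  Lre_c IH (LK LD1_c6 LD2_c58 LD3_c46) (LK LD1_c13 LD2_c14 LD3_c60) Lrfl Lrfl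
theorem f63313 : Led Lsl_ct (LP (LK LD1_c14 LD2_c29 LD3_c61)) = (LP (LK LD1_c7 LD2_c41 LD3_c32)) :=
  Lre_c IH (LK LD1_c14 LD2_c29 LD3_c61) (LK LD1_c7 LD2_c41 LD3_c32) Lrfl Lrfl
theorem f63314 : Led Lsl_et (LP (LK LD1_c13 LD2_c14 LD3_c60)) = (LP (LK LD1_c14 LD2_c29 LD3_c61)) :=
  Lgr Lrot158 (Lpe (f63312 IH) (Lpr_ef (f63286 IH) (Lpe (f63313 IH) (Lpn (LP (LK LD1_c14 LD2_c29 LD3_c61))))))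
theorem f63327 : Led Lsl_ef (LP (LK LD1_c13 LD2_c14 LD3_c60)) = (LP (LK LD1_c14 LD2_c29 LD3_c61)) :=
  Lgr Lrot88 (Lpr_et (f63314 IH) (Lpn (LP (LK LD1_c14 LD2_c29 LD3_c61))))
theorem f63331 : Led Lsl_at (LP (LK LD1_c13 LD2_c14 LD3_c60)) = (LP (LK LD1_c7 LD2_c3 LD3_c8)) :=
  Lre_a IH (LK LD1_c13 LD2_c14 LD3_c60) (LK LD1_c7 LD2_c3 LD3_c8) Lrfl Lrfl
theorem f63332 : Led Lsl_et (LP (LK LD1_c7 LD2_c3 LD3_c8)) = (LP (LK LD1_c13 LD2_c21 LD3_c4)) :=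
  Lre_e IH (LK LD1_c7 LD2_c3 LD3_c8) (LK LD1_c13 LD2_c21 LD3_c4) Lrfl Lrfl
theorem f63333 : Led Lsl_at (LP (LK LD1_c13 LD2_c21 LD3_c4)) = (LP (LK LD1_c14 LD2_c29 LD3_c61)) :=
  Lgr Lrot80 (Lpe (f63332 IH) (Lpe (f63331 IH) (Lpr_ef (f63327 IH) (Lpn (LP (LK LD1_c14 LD2_c29 LD3_c61))))))
theorem f63350 : Led Lsl_ft (LP (LK LD1_c22 LD2_c37 LD3_c25)) = (LP (LK LD1_c13 LD2_c21 LD3_c4)) :=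
  Lre_f IH (LK LD1_c22 LD2_c37 LD3_c25) (LK LD1_c13 LD2_c21 LD3_c4) Lrfl Lrfl
theorem f63353 : Led Lsl_dt (LP (LK LD1_c22 LD2_c37 LD3_c25)) = (LP (LK LD1_c29 LD2_c51 LD3_c60)) :=
  Lre_d IH (LK LD1_c22 LD2_c37 LD3_c25) (LK LD1_c29 LD2_c51 LD3_c60) Lrfl Lrfl
theorem f63354 : Led Lsl_ct (LP (LK LD1_c29 LD2_c51 LD3_c60)) = (LP (LK LD1_c21 LD2_c7 LD3_c59)) :=
  Lre_c IH (LK LD1_c29 LD2_c51 LD3_c60) (LK LD1_c21 LD2_c7 LD3_c59) Lrfl Lrfl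
theorem f63355 : Led Lsl_dt (LP (LK LD1_c21 LD2_c7 LD3_c59)) = (LP (LK LD1_c12 LD2_c2 LD3_c33)) :=
  Lre_d IH (LK LD1_c21 LD2_c7 LD3_c59) (LK LD1_c12 LD2_c2 LD3_c33) Lrfl Lrfl
theorem f63356 : Led Lsl_ct (LP (LK LD1_c12 LD2_c2 LD3_c33)) = (LP (LK LD1_c6 LD2_c11 LD3_c3)) :=
  Lre_c IH (LK LD1_c12 LD2_c2 LD3_c33) (LK LD1_c6 LD2_c11 LD3_c3) Lrfl Lrfl
theorem f63357 : Led Lsl_dt (LP (LK LD1_c6 LD2_c11 LD3_c3)) = (LP (LK LD1_c3 LD2_c2 LD3_c8)) :=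
  Lre_d IH (LK LD1_c6 LD2_c11 LD3_c3) (LK LD1_c3 LD2_c2 LD3_c8) Lrfl Lrfl
theorem f63340 : Led Lsl_ct (LP (LK LD1_c7 LD2_c41 LD3_c32)) = (LP (LK LD1_c14 LD2_c29 LD3_c61)) :=
  Lre_c IH (LK LD1_c7 LD2_c41 LD3_c32) (LK LD1_c14 LD2_c29 LD3_c61) Lrfl Lrfl
theorem f63182 : Led Lsl_dt (LP (LK LD1_c3 LD2_c50 LD3_c14)) = (LP (LK LD1_c7 LD2_c41 LD3_c32)) :=
  Lre_d IH (LK LD1_c3 LD2_c50 LD3_c14) (LK LD1_c7 LD2_c41 LD3_c32) Lrfl Lrfl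
theorem f63358 : Led Lsl_ct (LP (LK LD1_c3 LD2_c2 LD3_c8)) = (LP (LK LD1_c3 LD2_c50 LD3_c14)) :=
  Lgr Lrot53 (Lpe (f63357 IH) (Lpe (f63356 IH) (Lpe (f63355 IH) (Lpe (f63354 IH) (Lpe (f63353 IH) (Lpr_ft (f63350 IH) (Lpr_at (f63333 IH) (Lpe (f63340 IH) (Lpe (f63182 IH) (Lpn (LP (LK LD1_c3 LD2_c50 LD3_c14))))))))))))
theorem f63374 : Led Lsl_et (LP (LK LD1_c1 LD2_c27 LD3_c4)) = (LP (LK LD1_c3 LD2_c2 LD3_c8)) :=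
  Lre_e IH (LK LD1_c1 LD2_c27 LD3_c4) (LK LD1_c3 LD2_c2 LD3_c8) Lrfl Lrfl
theorem f63375 : Led Lsl_cf (LP (LK LD1_c1 LD2_c27 LD3_c4)) = (LP (LK LD1_c1 LD2_c52 LD3_c2)) :=
  Lgr Lrot39 (Lpr_et (f63374 IH) (Lpr_ct (f63358 IH) (Lpr_et (K1.f63123 IH) (Lpn (LP (LK LD1_c1 LD2_c52 LD3_c2))))))
theorem f87350 : Led Lsl_gf (LP (LK LD1_c1 LD2_c35 LD3_c19)) = (LP (LK LD1_c1 LD2_c27 LD3_c4)) :=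
  Lgr Lrot104 (Lpr_ct (f87181 IH) (Lpe (f63504 IH) (Lpe (f14681 IH) (Lpe (f14679 IH) (Lpe (K0.f14661 IH) (Lpe (K1.f14680 IH) (Lpe (K1.f63503 IH) (Lpr_gt (K1.f62675 IH) (Lpe (f63375 IH) (Lpn (LP (LK LD1_c1 LD2_c27 LD3_c4))))))))))))
theorem f63496 : Led Lsl_ft (LP (LK LD1_c1 LD2_c27 LD3_c4)) = (LP (LK LD1_c3 LD2_c2 LD3_c9)) :=
  Lre_f IH (LK LD1_c1 LD2_c27 LD3_c4) (LK LD1_c3 LD2_c2 LD3_c9) Lrfl Lrfl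
theorem f87352 : Led Lsl_at (LP (LK LD1_c3 LD2_c2 LD3_c9)) = (LP (LK LD1_c1 LD2_c41 LD3_c47)) :=
  Lre_a IH (LK LD1_c3 LD2_c2 LD3_c9) (LK LD1_c1 LD2_c41 LD3_c47) Lrfl Lrfl
theorem f87353 : Led Lsl_gt (LP (LK LD1_c1 LD2_c35 LD3_c19)) = (LP (LK LD1_c1 LD2_c41 LD3_c47)) :=
  Lgr Lrot46 (Lpr_gf (f87350 IH) (Lpr_ft (f63496 IH) (Lpr_at (f87352 IH) (Lpn (LP (LK LD1_c1 LD2_c41 LD3_c47))))))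
theorem f11468 : Led Lsl_gt (LP (LK LD1_c0 LD2_c21 LD3_c11)) = (LP (LK LD1_c0 LD2_c9 LD3_c35)) :=
  Lre_g IH (LK LD1_c0 LD2_c21 LD3_c11) (LK LD1_c0 LD2_c9 LD3_c35) Lrfl Lrfl
theorem f64296 : Led Lsl_ct (LP (LK LD1_c0 LD2_c47 LD3_c20)) = (LP (LK LD1_c0 LD2_c21 LD3_c11)) :=
  Lre_c IH (LK LD1_c0 LD2_c47 LD3_c20) (LK LD1_c0 LD2_c21 LD3_c11) Lrfl Lrfl
theorem f18886 : Led Lsl_gt (LP (LK LD1_c0 LD2_c21 LD3_c10)) = (LP (LK LD1_c0 LD2_c46 LD3_c51)) :=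
  Lre_g IH (LK LD1_c0 LD2_c21 LD3_c10) (LK LD1_c0 LD2_c46 LD3_c51) Lrfl Lrfl
theorem f89297 : Led Lsl_dt (LP (LK LD1_c1 LD2_c41 LD3_c24)) = (LP (LK LD1_c1 LD2_c51 LD3_c20)) :=
  Lgr Lrot57 (Lpe (K0.f11439 IH) (Lpe (K0.f11438 IH) (Lpr_gt (f18886 IH) (Lpr_dt (K1.f18877 IH) (Lpr_gt (K1.f18901 IH) (Lpr_dt (f84971 IH) (Lpe (f84982 IH) (Lpe (f63502 IH) (Lpr_gf (f89295 IH) (Lpn (LP (LK LD1_c1 LD2_c51 LD3_c20))))))))))))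
theorem f89299 : Led Lsl_gf (LP (LK LD1_c0 LD2_c47 LD3_c20)) = (LP (LK LD1_c1 LD2_c41 LD3_c24)) :=
  Lgr Lrot147 (Lpr_ct (f64296 IH) (Lpr_gt (f11468 IH) (Lpr_ct (f4466 IH) (Lpe (f11311 IH) (Lpe (K1.f63115 IH) (Lpe (f87353 IH) (Lpr_cf (f84974 IH) (Lpr_gf (f89295 IH) (Lpe (f89297 IH) (Lpn (LP (LK LD1_c1 LD2_c41 LD3_c24))))))))))))
theorem f18884 : Led Lsl_ct (LP (LK LD1_c0 LD2_c21 LD3_c11)) = (LP (LK LD1_c0 LD2_c47 LD3_c20)) :=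
  Lre_c IH (LK LD1_c0 LD2_c21 LD3_c11) (LK LD1_c0 LD2_c47 LD3_c20) Lrfl Lrfl
theorem f64796 : Led Lsl_bt (LP (LK LD1_c0 LD2_c21 LD3_c11)) = (LP (LK LD1_c0 LD2_c47 LD3_c19)) :=
  Lre_b IH (LK LD1_c0 LD2_c21 LD3_c11) (LK LD1_c0 LD2_c47 LD3_c19) Lrfl Lrfl
theorem f4966 : Led Lsl_at (LP (LK LD1_c0 LD2_c22 LD3_c24)) = (LP (LK LD1_c0 LD2_c10 LD3_c5)) :=
  Lre_a IH (LK LD1_c0 LD2_c22 LD3_c24) (LK LD1_c0 LD2_c10 LD3_c5) Lrfl Lrfl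
theorem f4967 : Led Lsl_ff (LP (LK LD1_c0 LD2_c22 LD3_c24)) = (LP (LK LD1_c0 LD2_c22 LD3_c33)) :=
  Lgr Lrot30 (Lpr_at (f4966 IH) (Lpr_ft (K0.f4963 IH) (Lpr_at (K0.f4937 IH) (Lpn (LP (LK LD1_c0 LD2_c22 LD3_c33))))))
theorem f17958 : Led Lsl_gf (LP (LK LD1_c0 LD2_c22 LD3_c2)) = (LP (LK LD1_c0 LD2_c22 LD3_c33)) :=
  Lgr Lrot47 (Lpr_gt (K0.f17956 IH) (Lpe (f4966 IH) (Lpr_ff (f4967 IH) (Lpn (LP (LK LD1_c0 LD2_c22 LD3_c33))))))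
theorem f4940 : Led Lsl_bt (LP (LK LD1_c0 LD2_c22 LD3_c33)) = (LP (LK LD1_c0 LD2_c22 LD3_c33)) :=
  Lgr Lrot62 (Lpe (K0.f4937 IH) (Lpe (K0.f3922 IH) (Lpr_af (K0.f4909 IH) (Lpe (f4938 IH) (Lpe (f4939 IH) (Lpn (LP (LK LD1_c0 LD2_c22 LD3_c33))))))))
theorem f5813 : Led Lsl_gt (LP (LK LD1_c0 LD2_c49 LD3_c51)) = (LP (LK LD1_c0 LD2_c50 LD3_c1)) :=
  Lgr Lrot46 (Lpe (K1.f5812 IH) (Lpr_ft (K0.f4957 IH) (Lpr_at (K0.f4994 IH) (Lpn (LP (LK LD1_c0 LD2_c50 LD3_c1))))))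
theorem f89658 : Led Lsl_gt (LP (LK LD1_c0 LD2_c47 LD3_c19)) = (LP (LK LD1_c0 LD2_c49 LD3_c0)) :=
  Lgr Lrot82 (Lpe (f64796 IH) (Lpr_ct (f18884 IH) (Lpr_gf (f89299 IH) (Lpe (K0.f17790 IH) (Lpr_bt (K0.f17786 IH) (Lpr_gf (f17958 IH) (Lpe (f4940 IH) (Lpr_ct (K0.f4995 IH) (Lpe (f5813 IH) (Lpe (K1.f18018 IH) (Lpn (LP (LK LD1_c0 LD2_c49 LD3_c0)))))))))))))
theorem f11079 : Led Lsl_ct (LP (LK LD1_c0 LD2_c45 LD3_c46)) = (LP (LK LD1_c1 LD2_c38 LD3_c42)) :=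
  Lre_c IH (LK LD1_c0 LD2_c45 LD3_c46) (LK LD1_c1 LD2_c38 LD3_c42) Lrfl Lrfl
theorem f65847 : Led Lsl_bf (LP (LK LD1_c0 LD2_c44 LD3_c1)) = (LP (LK LD1_c0 LD2_c45 LD3_c46)) :=
  Lgr Lrot24 (Lpr_bt (f65832 IH) (Lpn (LP (LK LD1_c0 LD2_c45 LD3_c46))))
theorem f91232 : Led Lsl_gf (LP (LK LD1_c0 LD2_c49 LD3_c5)) = (LP (LK LD1_c0 LD2_c44 LD3_c1)) :=
  Lgr Lrot181 (Lpr_ct (K0.f17790 IH) (Lpe (f89299 IH) (Lpe (f18884 IH) (Lpr_bt (f64796 IH) (Lpr_gt (f89658 IH) (Lpe (K1.f17670 IH) (Lpr_ct (f91224 IH) (Lpr_gt (f18174 IH) (Lpe (f11079 IH) (Lpe (f65847 IH) (Lpn (LP (LK LD1_c0 LD2_c44 LD3_c1)))))))))))))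
theorem f17801 : Led Lsl_bt (LP (LK LD1_c1 LD2_c41 LD3_c24)) = (LP (LK LD1_c3 LD2_c29 LD3_c20)) :=
  Lre_b IH (LK LD1_c1 LD2_c41 LD3_c24) (LK LD1_c3 LD2_c29 LD3_c20) Lrfl Lrfl
theorem f65787 : Led Lsl_ct (LP (LK LD1_c1 LD2_c34 LD3_c38)) = (LP (LK LD1_c0 LD2_c44 LD3_c1)) :=
  Lre_c IH (LK LD1_c1 LD2_c34 LD3_c38) (LK LD1_c0 LD2_c44 LD3_c1) Lrfl Lrfl
theorem f18768 : Led Lsl_bt (LP (LK LD1_c1 LD2_c41 LD3_c15)) = (LP (LK LD1_c0 LD2_c47 LD3_c14)) :=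
  Lre_b IH (LK LD1_c1 LD2_c41 LD3_c15) (LK LD1_c0 LD2_c47 LD3_c14) Lrfl Lrfl
theorem f18661 : Led Lsl_et (LP (LK LD1_c6 LD2_c59 LD3_c48)) = (LP (LK LD1_c3 LD2_c29 LD3_c2)) :=
  Lre_e IH (LK LD1_c6 LD2_c59 LD3_c48) (LK LD1_c3 LD2_c29 LD3_c2) Lrfl Lrfl
theorem f18662 : Led Lsl_ft (LP (LK LD1_c13 LD2_c16 LD3_c34)) = (LP (LK LD1_c6 LD2_c59 LD3_c48)) :=
  Lre_f IH (LK LD1_c13 LD2_c16 LD3_c34) (LK LD1_c6 LD2_c59 LD3_c48) Lrfl Lrfl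
theorem f15865 : Led Lsl_et (LP (LK LD1_c3 LD2_c24 LD3_c27)) = (LP (LK LD1_c6 LD2_c51 LD3_c33)) :=
  Lre_e IH (LK LD1_c3 LD2_c24 LD3_c27) (LK LD1_c6 LD2_c51 LD3_c33) Lrfl Lrfl
theorem f15842 : Led Lsl_ft (LP (LK LD1_c6 LD2_c51 LD3_c33)) = (LP (LK LD1_c13 LD2_c2 LD3_c52)) :=
  Lre_f IH (LK LD1_c6 LD2_c51 LD3_c33) (LK LD1_c13 LD2_c2 LD3_c52) Lrfl Lrfl
theorem f18663 : Led Lsl_ef (LP (LK LD1_c13 LD2_c16 LD3_c34)) = (LP (LK LD1_c13 LD2_c2 LD3_c52)) :=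
  Lgr Lrot21 (Lpr_ft (f18662 IH) (Lpr_et (f18661 IH) (Lpr_ft (f18645 IH) (Lpr_et (f15865 IH) (Lpr_ft (f15842 IH) (Lpn (LP (LK LD1_c13 LD2_c2 LD3_c52))))))))
theorem f11057 : Led Lsl_dt (LP (LK LD1_c0 LD2_c20 LD3_c27)) = (LP (LK LD1_c0 LD2_c9 LD3_c30)) :=
  Lre_d IH (LK LD1_c0 LD2_c20 LD3_c27) (LK LD1_c0 LD2_c9 LD3_c30) Lrfl Lrfl
theorem f11956 : Led Lsl_dt (LP (LK LD1_c0 LD2_c9 LD3_c30)) = (LP (LK LD1_c0 LD2_c20 LD3_c27)) :=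
  Lre_d IH (LK LD1_c0 LD2_c9 LD3_c30) (LK LD1_c0 LD2_c20 LD3_c27) Lrfl Lrfl
theorem f15767 : Led Lsl_af (LP (LK LD1_c0 LD2_c20 LD3_c27)) = (LP (LK LD1_c0 LD2_c20 LD3_c27)) :=
  Lgr Lrot117 (Lpr_dt (f11057 IH) (Lpr_at (K0.f15746 IH) (Lpr_dt (f11956 IH) (Lpn (LP (LK LD1_c0 LD2_c20 LD3_c27))))))
theorem f15775 : Led Lsl_bt (LP (LK LD1_c0 LD2_c20 LD3_c27)) = (LP (LK LD1_c0 LD2_c45 LD3_c49)) :=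
  Lre_b IH (LK LD1_c0 LD2_c20 LD3_c27) (LK LD1_c0 LD2_c45 LD3_c49) Lrfl Lrfl
theorem f15776 : Led Lsl_at (LP (LK LD1_c0 LD2_c45 LD3_c49)) = (LP (LK LD1_c1 LD2_c38 LD3_c41)) :=
  Lre_a IH (LK LD1_c0 LD2_c45 LD3_c49) (LK LD1_c1 LD2_c38 LD3_c41) Lrfl Lrfl
theorem f15778 : Led Lsl_at (LP (LK LD1_c1 LD2_c38 LD3_c41)) = (LP (LK LD1_c0 LD2_c45 LD3_c49)) :=
  Lre_a IH (LK LD1_c1 LD2_c38 LD3_c41) (LK LD1_c0 LD2_c45 LD3_c49) Lrfl Lrfl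
theorem f15779 : Led Lsl_bt (LP (LK LD1_c1 LD2_c38 LD3_c41)) = (LP (LK LD1_c1 LD2_c38 LD3_c41)) :=
  Lgr Lrot62 (Lpe (f15776 IH) (Lpe (f15775 IH) (Lpr_af (f15767 IH) (Lpe (f15777 IH) (Lpe (f15778 IH) (Lpn (LP (LK LD1_c1 LD2_c38 LD3_c41))))))))
theorem f15804 : Led Lsl_ft (LP (LK LD1_c3 LD2_c24 LD3_c32)) = (LP (LK LD1_c1 LD2_c38 LD3_c41)) :=
  Lre_f IH (LK LD1_c3 LD2_c24 LD3_c32) (LK LD1_c1 LD2_c38 LD3_c41) Lrfl Lrfl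
theorem f15805 : Led Lsl_ft (LP (LK LD1_c1 LD2_c38 LD3_c41)) = (LP (LK LD1_c3 LD2_c24 LD3_c32)) :=
  Lre_f IH (LK LD1_c1 LD2_c38 LD3_c41) (LK LD1_c3 LD2_c24 LD3_c32) Lrfl Lrfl
theorem f15806 : Led Lsl_bf (LP (LK LD1_c3 LD2_c24 LD3_c32)) = (LP (LK LD1_c3 LD2_c24 LD3_c32)) :=
  Lgr Lrot61 (Lpr_ft (f15804 IH) (Lpr_bt (f15779 IH) (Lpr_ft (f15805 IH) (Lpn (LP (LK LD1_c3 LD2_c24 LD3_c32))))))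
theorem f15816 : Led Lsl_ct (LP (LK LD1_c3 LD2_c24 LD3_c32)) = (LP (LK LD1_c6 LD2_c51 LD3_c37)) :=
  Lre_c IH (LK LD1_c3 LD2_c24 LD3_c32) (LK LD1_c6 LD2_c51 LD3_c37) Lrfl Lrfl
theorem f15817 : Led Lsl_bt (LP (LK LD1_c6 LD2_c51 LD3_c37)) = (LP (LK LD1_c13 LD2_c2 LD3_c52)) :=
  Lre_b IH (LK LD1_c6 LD2_c51 LD3_c37) (LK LD1_c13 LD2_c2 LD3_c52) Lrfl Lrfl
theorem f15818 : Led Lsl_ct (LP (LK LD1_c6 LD2_c51 LD3_c37)) = (LP (LK LD1_c3 LD2_c24 LD3_c32)) :=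
  Lre_c IH (LK LD1_c6 LD2_c51 LD3_c37) (LK LD1_c3 LD2_c24 LD3_c32) Lrfl Lrfl
theorem f15819 : Led Lsl_bt (LP (LK LD1_c13 LD2_c2 LD3_c52)) = (LP (LK LD1_c6 LD2_c51 LD3_c37)) :=
  Lre_b IH (LK LD1_c13 LD2_c2 LD3_c52) (LK LD1_c6 LD2_c51 LD3_c37) Lrfl Lrfl
theorem f15820 : Led Lsl_ct (LP (LK LD1_c13 LD2_c2 LD3_c52)) = (LP (LK LD1_c13 LD2_c2 LD3_c52)) :=
  Lgr Lrot83 (Lpe (f15817 IH) (Lpe (f15816 IH) (Lpr_bf (f15806 IH) (Lpe (f15818 IH) (Lpe (f15819 IH) (Lpn (LP (LK LD1_c13 LD2_c2 LD3_c52))))))))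
theorem f18641 : Led Lsl_et (LP (LK LD1_c3 LD2_c29 LD3_c2)) = (LP (LK LD1_c6 LD2_c59 LD3_c48)) :=
  Lre_e IH (LK LD1_c3 LD2_c29 LD3_c2) (LK LD1_c6 LD2_c59 LD3_c48) Lrfl Lrfl
theorem f18642 : Led Lsl_ft (LP (LK LD1_c6 LD2_c59 LD3_c48)) = (LP (LK LD1_c13 LD2_c16 LD3_c34)) :=
  Lre_f IH (LK LD1_c6 LD2_c59 LD3_c48) (LK LD1_c13 LD2_c16 LD3_c34) Lrfl Lrfl
theorem f15864 : Led Lsl_et (LP (LK LD1_c6 LD2_c51 LD3_c33)) = (LP (LK LD1_c3 LD2_c24 LD3_c27)) :=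
  Lre_e IH (LK LD1_c6 LD2_c51 LD3_c33) (LK LD1_c3 LD2_c24 LD3_c27) Lrfl Lrfl
theorem f15843 : Led Lsl_ft (LP (LK LD1_c13 LD2_c2 LD3_c52)) = (LP (LK LD1_c6 LD2_c51 LD3_c33)) :=
  Lre_f IH (LK LD1_c13 LD2_c2 LD3_c52) (LK LD1_c6 LD2_c51 LD3_c33) Lrfl Lrfl
theorem f18643 : Led Lsl_et (LP (LK LD1_c13 LD2_c16 LD3_c34)) = (LP (LK LD1_c13 LD2_c2 LD3_c52)) :=
  Lgr Lrot69 (Lpe (f18642 IH) (Lpe (f18641 IH) (Lpr_ff (f18626 IH) (Lpe (f15864 IH) (Lpe (f15843 IH) (Lpn (LP (LK LD1_c13 LD2_c2 LD3_c52))))))))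
theorem f18677 : Led Lsl_ct (LP (LK LD1_c13 LD2_c16 LD3_c34)) = (LP (LK LD1_c13 LD2_c16 LD3_c34)) :=
  Lgr Lrot15 (Lpr_ef (f18663 IH) (Lpe (f15820 IH) (Lpe (f18643 IH) (Lpn (LP (LK LD1_c13 LD2_c16 LD3_c34))))))
theorem f18692 : Led Lsl_cf (LP (LK LD1_c6 LD2_c59 LD3_c48)) = (LP (LK LD1_c6 LD2_c59 LD3_c48)) :=
  Lgr Lrot108 (Lpr_ft (f18642 IH) (Lpr_ct (f18677 IH) (Lpr_ft (f18662 IH) (Lpn (LP (LK LD1_c6 LD2_c59 LD3_c48))))))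
theorem f18709 : Led Lsl_at (LP (LK LD1_c6 LD2_c59 LD3_c48)) = (LP (LK LD1_c3 LD2_c29 LD3_c4)) :=
  Lre_a IH (LK LD1_c6 LD2_c59 LD3_c48) (LK LD1_c3 LD2_c29 LD3_c4) Lrfl Lrfl
theorem f18710 : Led Lsl_at (LP (LK LD1_c3 LD2_c29 LD3_c4)) = (LP (LK LD1_c6 LD2_c59 LD3_c48)) :=
  Lre_a IH (LK LD1_c3 LD2_c29 LD3_c4) (LK LD1_c6 LD2_c59 LD3_c48) Lrfl Lrfl
theorem f18711 : Led Lsl_ct (LP (LK LD1_c3 LD2_c29 LD3_c4)) = (LP (LK LD1_c3 LD2_c29 LD3_c4)) :=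
  Lgr Lrot111 (Lpe (f18709 IH) (Lpr_cf (f18692 IH) (Lpe (f18710 IH) (Lpn (LP (LK LD1_c3 LD2_c29 LD3_c4))))))
theorem f18748 : Led Lsl_et (LP (LK LD1_c1 LD2_c41 LD3_c15)) = (LP (LK LD1_c3 LD2_c29 LD3_c4)) :=
  Lre_e IH (LK LD1_c1 LD2_c41 LD3_c15) (LK LD1_c3 LD2_c29 LD3_c4) Lrfl Lrfl
theorem f18749 : Led Lsl_et (LP (LK LD1_c3 LD2_c29 LD3_c4)) = (LP (LK LD1_c1 LD2_c41 LD3_c15)) :=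
  Lre_e IH (LK LD1_c3 LD2_c29 LD3_c4) (LK LD1_c1 LD2_c41 LD3_c15) Lrfl Lrfl
theorem f18750 : Led Lsl_cf (LP (LK LD1_c1 LD2_c41 LD3_c15)) = (LP (LK LD1_c1 LD2_c41 LD3_c15)) :=
  Lgr Lrot39 (Lpr_et (f18748 IH) (Lpr_ct (f18711 IH) (Lpr_et (f18749 IH) (Lpn (LP (LK LD1_c1 LD2_c41 LD3_c15))))))
theorem f18647 : Led Lsl_gt (LP (LK LD1_c3 LD2_c29 LD3_c1)) = (LP (LK LD1_c1 LD2_c41 LD3_c15)) :=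
  Lre_g IH (LK LD1_c3 LD2_c29 LD3_c1) (LK LD1_c1 LD2_c41 LD3_c15) Lrfl Lrfl
theorem f18651 : Led Lsl_ct (LP (LK LD1_c6 LD2_c59 LD3_c46)) = (LP (LK LD1_c3 LD2_c29 LD3_c1)) :=
  Lre_c IH (LK LD1_c6 LD2_c59 LD3_c46) (LK LD1_c3 LD2_c29 LD3_c1) Lrfl Lrfl
theorem f91238 : Led Lsl_bf (LP (LK LD1_c7 LD2_c0 LD3_c16)) = (LP (LK LD1_c6 LD2_c59 LD3_c46)) :=
  Lgr Lrot34 (Lpe (f17803 IH) (Lpe (f17801 IH) (Lpe (K0.f17780 IH) (Lpr_gf (f91232 IH) (Lpe (f65787 IH) (Lpr_gf (f65776 IH) (Lpe (f18768 IH) (Lpe (f18750 IH) (Lpe (f18647 IH) (Lpe (f18651 IH) (Lpn (LP (LK LD1_c6 LD2_c59 LD3_c46)))))))))))))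
theorem f91242 : Led Lsl_bt (LP (LK LD1_c7 LD2_c0 LD3_c16)) = (LP (LK LD1_c6 LD2_c59 LD3_c46)) :=
  Lgr Lrot127 (Lpr_bf (f91238 IH) (Lpn (LP (LK LD1_c6 LD2_c59 LD3_c46))))
theorem f91259 : Led Lsl_bt (LP (LK LD1_c3 LD2_c29 LD3_c1)) = (LP (LK LD1_c6 LD2_c59 LD3_c45)) :=
  Lre_b IH (LK LD1_c3 LD2_c29 LD3_c1) (LK LD1_c6 LD2_c59 LD3_c45) Lrfl Lrfl
theorem f94499 : Led Lsl_bt (LP (LK LD1_c3 LD2_c39 LD3_c21)) = (LP (LK LD1_c7 LD2_c18 LD3_c55)) :=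
  Lre_b IH (LK LD1_c3 LD2_c39 LD3_c21) (LK LD1_c7 LD2_c18 LD3_c55) Lrfl Lrfl
theorem f94500 : Led Lsl_ct (LP (LK LD1_c6 LD2_c59 LD3_c45)) = (LP (LK LD1_c3 LD2_c39 LD3_c21)) :=
  Lgr Lrot83 (Lpe (f91259 IH) (Lpe (f18651 IH) (Lpe (f91242 IH) (Lpr_cf (f94489 IH) (Lpe (f94499 IH) (Lpn (LP (LK LD1_c3 LD2_c39 LD3_c21))))))))
theorem f18652 : Led Lsl_bt (LP (LK LD1_c6 LD2_c59 LD3_c45)) = (LP (LK LD1_c3 LD2_c29 LD3_c1)) :=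
  Lre_b IH (LK LD1_c6 LD2_c59 LD3_c45) (LK LD1_c3 LD2_c29 LD3_c1) Lrfl Lrfl
theorem f18648 : Led Lsl_gf (LP (LK LD1_c3 LD2_c29 LD3_c1)) = (LP (LK LD1_c3 LD2_c24 LD3_c27)) :=
  Lgr Lrot47 (Lpr_gt (f18647 IH) (Lpe (f18625 IH) (Lpr_ff (f18626 IH) (Lpn (LP (LK LD1_c3 LD2_c24 LD3_c27))))))
theorem f15852 : Led Lsl_bt (LP (LK LD1_c1 LD2_c38 LD3_c40)) = (LP (LK LD1_c3 LD2_c24 LD3_c27)) :=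
  Lre_b IH (LK LD1_c1 LD2_c38 LD3_c40) (LK LD1_c3 LD2_c24 LD3_c27) Lrfl Lrfl
theorem f15850 : Led Lsl_at (LP (LK LD1_c0 LD2_c20 LD3_c26)) = (LP (LK LD1_c0 LD2_c45 LD3_c45)) :=
  Lre_a IH (LK LD1_c0 LD2_c20 LD3_c26) (LK LD1_c0 LD2_c45 LD3_c45) Lrfl Lrfl
theorem f94216 : Led Lsl_gf (LP (LK LD1_c0 LD2_c45 LD3_c45)) = (LP (LK LD1_c0 LD2_c20 LD3_c46)) :=
  Lgr Lrot76 (Lpe (f15850 IH) (Lpr_ff (K1.f11421 IH) (Lpr_gt (f94208 IH) (Lpn (LP (LK LD1_c0 LD2_c20 LD3_c46))))))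
theorem f94225 : Led Lsl_ct (LP (LK LD1_c0 LD2_c46 LD3_c14)) = (LP (LK LD1_c0 LD2_c20 LD3_c46)) :=
  Lre_c IH (LK LD1_c0 LD2_c46 LD3_c14) (LK LD1_c0 LD2_c20 LD3_c46) Lrfl Lrfl
theorem f94532 : Led Lsl_gt (LP (LK LD1_c1 LD2_c39 LD3_c27)) = (LP (LK LD1_c0 LD2_c46 LD3_c14)) :=
  Lre_g IH (LK LD1_c1 LD2_c39 LD3_c27) (LK LD1_c0 LD2_c46 LD3_c14) Lrfl Lrfl
theorem f94566 : Led Lsl_bf (LP (LK LD1_c1 LD2_c39 LD3_c27)) = (LP (LK LD1_c1 LD2_c50 LD3_c25)) :=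
  Lgr Lrot165 (Lpr_gt (f94532 IH) (Lpr_ct (f94225 IH) (Lpe (f94216 IH) (Lpe (K1.f15853 IH) (Lpr_bt (f15852 IH) (Lpe (f18648 IH) (Lpe (f18652 IH) (Lpr_ct (f94500 IH) (Lpr_gt (f92340 IH) (Lpr_cf (f94539 IH) (Lpn (LP (LK LD1_c1 LD2_c50 LD3_c25)))))))))))))
theorem f94575 : Led Lsl_et (LP (LK LD1_c1 LD2_c39 LD3_c27)) = (LP (LK LD1_c3 LD2_c25 LD3_c38)) :=
  Lre_e IH (LK LD1_c1 LD2_c39 LD3_c27) (LK LD1_c3 LD2_c25 LD3_c38) Lrfl Lrfl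
theorem f94561 : Led Lsl_et (LP (LK LD1_c3 LD2_c46 LD3_c36)) = (LP (LK LD1_c1 LD2_c50 LD3_c25)) :=
  Lre_e IH (LK LD1_c3 LD2_c46 LD3_c36) (LK LD1_c1 LD2_c50 LD3_c25) Lrfl Lrfl
theorem f94576 : Led Lsl_bt (LP (LK LD1_c3 LD2_c25 LD3_c38)) = (LP (LK LD1_c3 LD2_c46 LD3_c36)) :=
  Lgr Lrot119 (Lpe (f94575 IH) (Lpr_bf (f94566 IH) (Lpe (f94561 IH) (Lpn (LP (LK LD1_c3 LD2_c46 LD3_c36))))))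
theorem f94541 : Led Lsl_et (LP (LK LD1_c3 LD2_c39 LD3_c23)) = (LP (LK LD1_c1 LD2_c46 LD3_c38)) :=
  Lre_e IH (LK LD1_c3 LD2_c39 LD3_c23) (LK LD1_c1 LD2_c46 LD3_c38) Lrfl Lrfl
theorem f94542 : Led Lsl_et (LP (LK LD1_c1 LD2_c50 LD3_c25)) = (LP (LK LD1_c3 LD2_c46 LD3_c36)) :=
  Lre_e IH (LK LD1_c1 LD2_c50 LD3_c25) (LK LD1_c3 LD2_c46 LD3_c36) Lrfl Lrfl
theorem f94543 : Led Lsl_cf (LP (LK LD1_c3 LD2_c39 LD3_c23)) = (LP (LK LD1_c3 LD2_c46 LD3_c36)) :=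
  Lgr Lrot39 (Lpr_et (f94541 IH) (Lpr_ct (f94485 IH) (Lpr_et (f94542 IH) (Lpn (LP (LK LD1_c3 LD2_c46 LD3_c36))))))
theorem f92304 : Led Lsl_bt (LP (LK LD1_c3 LD2_c39 LD3_c23)) = (LP (LK LD1_c1 LD2_c46 LD3_c39)) :=
  Lre_b IH (LK LD1_c3 LD2_c39 LD3_c23) (LK LD1_c1 LD2_c46 LD3_c39) Lrfl Lrfl
theorem f92291 : Led Lsl_et (LP (LK LD1_c0 LD2_c50 LD3_c3)) = (LP (LK LD1_c1 LD2_c46 LD3_c39)) :=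
  Lre_e IH (LK LD1_c0 LD2_c50 LD3_c3) (LK LD1_c1 LD2_c46 LD3_c39) Lrfl Lrfl
theorem f92280 : Led Lsl_et (LP (LK LD1_c1 LD2_c42 LD3_c47)) = (LP (LK LD1_c0 LD2_c47 LD3_c61)) :=
  Lre_e IH (LK LD1_c1 LD2_c42 LD3_c47) (LK LD1_c0 LD2_c47 LD3_c61) Lrfl Lrfl
theorem f92292 : Led Lsl_ct (LP (LK LD1_c1 LD2_c46 LD3_c39)) = (LP (LK LD1_c1 LD2_c42 LD3_c47)) :=
  Lgr Lrot15 (Lpe (f92291 IH) (Lpr_cf (f92283 IH) (Lpe (f92280 IH) (Lpn (LP (LK LD1_c1 LD2_c42 LD3_c47))))))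
theorem f92274 : Led Lsl_et (LP (LK LD1_c0 LD2_c51 LD3_c36)) = (LP (LK LD1_c1 LD2_c49 LD3_c32)) :=
  Lre_e IH (LK LD1_c0 LD2_c51 LD3_c36) (LK LD1_c1 LD2_c49 LD3_c32) Lrfl Lrfl
theorem f92281 : Led Lsl_bt (LP (LK LD1_c1 LD2_c49 LD3_c32)) = (LP (LK LD1_c1 LD2_c42 LD3_c47)) :=
  Lgr Lrot119 (Lpe (f92274 IH) (Lpr_bf (f92278 IH) (Lpe (f92280 IH) (Lpn (LP (LK LD1_c1 LD2_c42 LD3_c47))))))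
theorem f93170 : Led Lsl_bf (LP (LK LD1_c1 LD2_c49 LD3_c32)) = (LP (LK LD1_c1 LD2_c42 LD3_c47)) :=
  Lgr Lrot24 (Lpr_bt (f92281 IH) (Lpn (LP (LK LD1_c1 LD2_c42 LD3_c47))))
theorem f94581 : Led Lsl_cf (LP (LK LD1_c3 LD2_c25 LD3_c38)) = (LP (LK LD1_c1 LD2_c49 LD3_c32)) :=
  Lgr Lrot97 (Lpr_bt (f94576 IH) (Lpe (f94543 IH) (Lpr_bt (f92304 IH) (Lpr_ct (f92292 IH) (Lpe (f93170 IH) (Lpn (LP (LK LD1_c1 LD2_c49 LD3_c32))))))))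
theorem f94596 : Led Lsl_ct (LP (LK LD1_c3 LD2_c25 LD3_c38)) = (LP (LK LD1_c1 LD2_c49 LD3_c32)) :=
  Lgr Lrot59 (Lpr_cf (f94581 IH) (Lpn (LP (LK LD1_c1 LD2_c49 LD3_c32))))
theorem f85259 : Led Lsl_et (LP (LK LD1_c1 LD2_c49 LD3_c32)) = (LP (LK LD1_c0 LD2_c51 LD3_c36)) :=
  Lre_e IH (LK LD1_c1 LD2_c49 LD3_c32) (LK LD1_c0 LD2_c51 LD3_c36) Lrfl Lrfl
theorem f94610 : Led Lsl_cf (LP (LK LD1_c1 LD2_c39 LD3_c27)) = (LP (LK LD1_c0 LD2_c51 LD3_c36)) :=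
  Lgr Lrot39 (Lpr_et (f94575 IH) (Lpr_ct (f94596 IH) (Lpr_et (f85259 IH) (Lpn (LP (LK LD1_c0 LD2_c51 LD3_c36))))))
theorem f20202 : Led Lsl_ct (LP (LK LD1_c0 LD2_c20 LD3_c46)) = (LP (LK LD1_c0 LD2_c46 LD3_c14)) :=
  Lre_c IH (LK LD1_c0 LD2_c20 LD3_c46) (LK LD1_c0 LD2_c46 LD3_c14) Lrfl Lrfl
theorem f94614 : Led Lsl_bt (LP (LK LD1_c0 LD2_c20 LD3_c46)) = (LP (LK LD1_c0 LD2_c46 LD3_c9)) :=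
  Lre_b IH (LK LD1_c0 LD2_c20 LD3_c46) (LK LD1_c0 LD2_c46 LD3_c9) Lrfl Lrfl
theorem f10274 : Led Lsl_bt (LP (LK LD1_c0 LD2_c21 LD3_c30)) = (LP (LK LD1_c0 LD2_c47 LD3_c60)) :=
  Lre_b IH (LK LD1_c0 LD2_c21 LD3_c30) (LK LD1_c0 LD2_c47 LD3_c60) Lrfl Lrfl
theorem f84724 : Led Lsl_dt (LP (LK LD1_c0 LD2_c47 LD3_c61)) = (LP (LK LD1_c0 LD2_c21 LD3_c30)) :=
  Lre_d IH (LK LD1_c0 LD2_c47 LD3_c61) (LK LD1_c0 LD2_c21 LD3_c30) Lrfl Lrfl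
theorem f92270 : Led Lsl_bt (LP (LK LD1_c0 LD2_c51 LD3_c36)) = (LP (LK LD1_c0 LD2_c47 LD3_c61)) :=
  Lgr Lrot95 (Lpr_df (f90600 IH) (Lpe (f10274 IH) (Lpe (f84724 IH) (Lpn (LP (LK LD1_c0 LD2_c47 LD3_c61))))))
theorem f4969 : Led Lsl_ff (LP (LK LD1_c0 LD2_c22 LD3_c25)) = (LP (LK LD1_c0 LD2_c22 LD3_c35)) :=
  Lgr Lrot23 (Lpr_ct (f379 IH) (Lpr_ft (K0.f4963 IH) (Lpr_ct (f3923 IH) (Lpn (LP (LK LD1_c0 LD2_c22 LD3_c35))))))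
theorem f399 : Led Lsl_at (LP (LK LD1_c0 LD2_c22 LD3_c25)) = (LP (LK LD1_c0 LD2_c49 LD3_c49)) :=
  Lre_a IH (LK LD1_c0 LD2_c22 LD3_c25) (LK LD1_c0 LD2_c49 LD3_c49) Lrfl Lrfl
theorem f5800 : Led Lsl_gf (LP (LK LD1_c0 LD2_c49 LD3_c49)) = (LP (LK LD1_c0 LD2_c50 LD3_c3)) :=
  Lgr Lrot76 (Lpe (f399 IH) (Lpr_ff (f4969 IH) (Lpr_gt (f5394 IH) (Lpn (LP (LK LD1_c0 LD2_c50 LD3_c3))))))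
theorem f394 : Led Lsl_ct (LP (LK LD1_c0 LD2_c49 LD3_c49)) = (LP (LK LD1_c0 LD2_c22 LD3_c24)) :=
  Lre_c IH (LK LD1_c0 LD2_c49 LD3_c49) (LK LD1_c0 LD2_c22 LD3_c24) Lrfl Lrfl
theorem f5764 : Led Lsl_dt (LP (LK LD1_c0 LD2_c10 LD3_c33)) = (LP (LK LD1_c0 LD2_c23 LD3_c31)) :=
  Lre_d IH (LK LD1_c0 LD2_c10 LD3_c33) (LK LD1_c0 LD2_c23 LD3_c31) Lrfl Lrfl
theorem f92294 : Led Lsl_gt (LP (LK LD1_c0 LD2_c23 LD3_c31)) = (LP (LK LD1_c0 LD2_c47 LD3_c61)) :=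
  Lgr Lrot9 (Lpe (f5764 IH) (Lpr_gt (f5758 IH) (Lpr_ct (K0.f5717 IH) (Lpe (f5756 IH) (Lpr_ct (K0.f372 IH) (Lpe (f393 IH) (Lpe (f394 IH) (Lpr_gf (f5800 IH) (Lpr_cf (f92283 IH) (Lpn (LP (LK LD1_c0 LD2_c47 LD3_c61))))))))))))
theorem f92297 : Led Lsl_bt (LP (LK LD1_c0 LD2_c10 LD3_c35)) = (LP (LK LD1_c0 LD2_c23 LD3_c31)) :=
  Lre_b IH (LK LD1_c0 LD2_c10 LD3_c35) (LK LD1_c0 LD2_c23 LD3_c31) Lrfl Lrfl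
theorem f92285 : Led Lsl_bt (LP (LK LD1_c0 LD2_c10 LD3_c31)) = (LP (LK LD1_c0 LD2_c23 LD3_c20)) :=
  Lre_b IH (LK LD1_c0 LD2_c10 LD3_c31) (LK LD1_c0 LD2_c23 LD3_c20) Lrfl Lrfl
theorem f65953 : Led Lsl_gt (LP (LK LD1_c0 LD2_c23 LD3_c27)) = (LP (LK LD1_c0 LD2_c51 LD3_c51)) :=
  Lre_g IH (LK LD1_c0 LD2_c23 LD3_c27) (LK LD1_c0 LD2_c51 LD3_c51) Lrfl Lrfl
theorem f92344 : Led Lsl_bt (LP (LK LD1_c0 LD2_c48 LD3_c7)) = (LP (LK LD1_c0 LD2_c21 LD3_c35)) :=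
  Lre_b IH (LK LD1_c0 LD2_c48 LD3_c7) (LK LD1_c0 LD2_c21 LD3_c35) Lrfl Lrfl
theorem f92345 : Led Lsl_cf (LP (LK LD1_c0 LD2_c51 LD3_c51)) = (LP (LK LD1_c0 LD2_c48 LD3_c7)) :=
  Lgr Lrot58 (Lpe (f65953 IH) (Lpe (f6701 IH) (Lpr_bt (f92285 IH) (Lpe (f65871 IH) (Lpr_bf (f92278 IH) (Lpe (f92283 IH) (Lpe (f5394 IH) (Lpe (f3923 IH) (Lpr_gf (f92338 IH) (Lpe (f92344 IH) (Lpn (LP (LK LD1_c0 LD2_c48 LD3_c7)))))))))))))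
theorem f92360 : Led Lsl_gt (LP (LK LD1_c0 LD2_c51 LD3_c51)) = (LP (LK LD1_c0 LD2_c23 LD3_c36)) :=
  Lgr Lrot65 (Lpr_cf (f92345 IH) (Lpr_bt (f92344 IH) (Lpe (f92342 IH) (Lpr_bf (f5261 IH) (Lpr_ct (K0.f397 IH) (Lpr_gf (f5800 IH) (Lpr_cf (f92283 IH) (Lpe (f92294 IH) (Lpe (f92297 IH) (Lpr_ct (K1.f14694 IH) (Lpn (LP (LK LD1_c0 LD2_c23 LD3_c36)))))))))))))
theorem f94615 : Led Lsl_gt (LP (LK LD1_c0 LD2_c46 LD3_c9)) = (LP (LK LD1_c0 LD2_c48 LD3_c7)) :=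
  Lgr Lrot82 (Lpe (f94614 IH) (Lpr_ct (f20202 IH) (Lpe (f94532 IH) (Lpr_cf (f94610 IH) (Lpr_bt (f92270 IH) (Lpe (f92294 IH) (Lpe (f92297 IH) (Lpr_ct (K1.f14694 IH) (Lpe (f92360 IH) (Lpr_cf (f92345 IH) (Lpn (LP (LK LD1_c0 LD2_c48 LD3_c7)))))))))))))
theorem f94332 : Led Lsl_dt (LP (LK LD1_c0 LD2_c46 LD3_c9)) = (LP (LK LD1_c0 LD2_c20 LD3_c44)) :=
  Lre_d IH (LK LD1_c0 LD2_c46 LD3_c9) (LK LD1_c0 LD2_c20 LD3_c44) Lrfl Lrfl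
theorem f94624 : Led Lsl_gt (LP (LK LD1_c0 LD2_c20 LD3_c44)) = (LP (LK LD1_c0 LD2_c22 LD3_c31)) :=
  Lgr Lrot9 (Lpe (f94332 IH) (Lpr_gt (f94615 IH) (Lpe (f92345 IH) (Lpr_gt (f92360 IH) (Lpr_ct (K1.f62807 IH) (Lpe (K1.f14693 IH) (Lpe (f5765 IH) (Lpe (K1.f5250 IH) (Lpe (K0.f5249 IH) (Lpn (LP (LK LD1_c0 LD2_c22 LD3_c31))))))))))))
theorem f94212 : Led Lsl_bt (LP (LK LD1_c0 LD2_c9 LD3_c25)) = (LP (LK LD1_c0 LD2_c20 LD3_c44)) :=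
  Lre_b IH (LK LD1_c0 LD2_c9 LD3_c25) (LK LD1_c0 LD2_c20 LD3_c44) Lrfl Lrfl
theorem f5721 : Led Lsl_bt (LP (LK LD1_c0 LD2_c23 LD3_c17)) = (LP (LK LD1_c0 LD2_c22 LD3_c30)) :=
  Lgr Lrot127 (Lpr_bf (K0.f5718 IH) (Lpn (LP (LK LD1_c0 LD2_c22 LD3_c30))))
theorem f5723 : Led Lsl_bt (LP (LK LD1_c0 LD2_c22 LD3_c29)) = (LP (LK LD1_c0 LD2_c10 LD3_c7)) :=
  Lre_b IH (LK LD1_c0 LD2_c22 LD3_c29) (LK LD1_c0 LD2_c10 LD3_c7) Lrfl Lrfl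
theorem f23685 : Led Lsl_cf (LP (LK LD1_c0 LD2_c19 LD3_c20)) = (LP (LK LD1_c0 LD2_c22 LD3_c29)) :=
  Lgr Lrot160 (Lpr_gt (K1.f12422 IH) (Lpr_cf (K0.f23667 IH) (Lpr_bt (K0.f4476 IH) (Lpe (K0.f11464 IH) (Lpr_ct (K0.f6731 IH) (Lpe (K0.f9922 IH) (Lpe (K0.f3900 IH) (Lpr_bt (f4905 IH) (Lpr_gt (K0.f5709 IH) (Lpe (f5723 IH) (Lpn (LP (LK LD1_c0 LD2_c22 LD3_c29)))))))))))))
theorem f23690 : Led Lsl_ct (LP (LK LD1_c0 LD2_c19 LD3_c20)) = (LP (LK LD1_c0 LD2_c22 LD3_c29)) :=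
  Lgr Lrot59 (Lpr_cf (f23685 IH) (Lpn (LP (LK LD1_c0 LD2_c22 LD3_c29))))
theorem f12423 : Led Lsl_bt (LP (LK LD1_c0 LD2_c43 LD3_c19)) = (LP (LK LD1_c0 LD2_c19 LD3_c20)) :=
  Lre_b IH (LK LD1_c0 LD2_c43 LD3_c19) (LK LD1_c0 LD2_c19 LD3_c20) Lrfl Lrfl
theorem f5710 : Led Lsl_ct (LP (LK LD1_c0 LD2_c10 LD3_c7)) = (LP (LK LD1_c0 LD2_c22 LD3_c30)) :=
  Lre_c IH (LK LD1_c0 LD2_c10 LD3_c7) (LK LD1_c0 LD2_c22 LD3_c30) Lrfl Lrfl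
theorem f23697 : Led Lsl_cf (LP (LK LD1_c0 LD2_c43 LD3_c19)) = (LP (LK LD1_c0 LD2_c23 LD3_c17)) :=
  Lgr Lrot97 (Lpr_bt (f12423 IH) (Lpr_ct (f23690 IH) (Lpr_bt (f5723 IH) (Lpr_ct (f5710 IH) (Lpe (K0.f5718 IH) (Lpn (LP (LK LD1_c0 LD2_c23 LD3_c17))))))))
theorem f94645 : Led Lsl_gf (LP (LK LD1_c0 LD2_c20 LD3_c45)) = (LP (LK LD1_c0 LD2_c43 LD3_c19)) :=
  Lgr Lrot126 (Lpe (f14991 IH) (Lpr_bt (f94212 IH) (Lpr_gt (f94624 IH) (Lpr_ct (K0.f5249 IH) (Lpr_gt (K1.f5250 IH) (Lpe (K1.f5251 IH) (Lpr_bt (f5252 IH) (Lpr_gt (f5758 IH) (Lpe (f5721 IH) (Lpe (f23697 IH) (Lpn (LP (LK LD1_c0 LD2_c43 LD3_c19)))))))))))))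
theorem f83741 : Led Lsl_ct (LP (LK LD1_c1 LD2_c38 LD3_c33)) = (LP (LK LD1_c1 LD2_c38 LD3_c5)) :=
  Lgr Lrot59 (Lpr_cf (f83736 IH) (Lpn (LP (LK LD1_c1 LD2_c38 LD3_c5))))
theorem f23703 : Led Lsl_dt (LP (LK LD1_c1 LD2_c33 LD3_c25)) = (LP (LK LD1_c0 LD2_c43 LD3_c19)) :=
  Lre_d IH (LK LD1_c1 LD2_c33 LD3_c25) (LK LD1_c0 LD2_c43 LD3_c19) Lrfl Lrfl
theorem f94650 : Led Lsl_gf (LP (LK LD1_c1 LD2_c38 LD3_c33)) = (LP (LK LD1_c1 LD2_c33 LD3_c25)) :=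
  Lgr Lrot147 (Lpr_ct (f83741 IH) (Lpr_gt (f15008 IH) (Lpr_ct (K0.f14980 IH) (Lpe (K0.f13516 IH) (Lpe (K0.f9791 IH) (Lpe (f9811 IH) (Lpe (f13506 IH) (Lpr_gf (f94645 IH) (Lpe (f23703 IH) (Lpn (LP (LK LD1_c1 LD2_c33 LD3_c25))))))))))))
theorem f9807 : Led Lsl_ct (LP (LK LD1_c0 LD2_c9 LD3_c26)) = (LP (LK LD1_c0 LD2_c20 LD3_c49)) :=
  Lre_c IH (LK LD1_c0 LD2_c9 LD3_c26) (LK LD1_c0 LD2_c20 LD3_c49) Lrfl Lrfl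
theorem f23700 : Led Lsl_dt (LP (LK LD1_c0 LD2_c43 LD3_c19)) = (LP (LK LD1_c1 LD2_c33 LD3_c25)) :=
  Lre_d IH (LK LD1_c0 LD2_c43 LD3_c19) (LK LD1_c1 LD2_c33 LD3_c25) Lrfl Lrfl
theorem f94653 : Led Lsl_gt (LP (LK LD1_c0 LD2_c20 LD3_c49)) = (LP (LK LD1_c0 LD2_c43 LD3_c19)) :=
  Lgr Lrot94 (Lpe (f9807 IH) (Lpr_gt (f12340 IH) (Lpr_dt (f11973 IH) (Lpr_gt (f9903 IH) (Lpe (f90849 IH) (Lpe (f18151 IH) (Lpe (f83743 IH) (Lpr_gf (f94650 IH) (Lpe (f23700 IH) (Lpn (LP (LK LD1_c0 LD2_c43 LD3_c19))))))))))))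
theorem f9808 : Led Lsl_gt (LP (LK LD1_c0 LD2_c20 LD3_c14)) = (LP (LK LD1_c0 LD2_c45 LD3_c21)) :=
  Lre_g IH (LK LD1_c0 LD2_c20 LD3_c14) (LK LD1_c0 LD2_c45 LD3_c21) Lrfl Lrfl
theorem f5754 : Led Lsl_gt (LP (LK LD1_c0 LD2_c22 LD3_c30)) = (LP (LK LD1_c0 LD2_c49 LD3_c60)) :=
  Lre_g IH (LK LD1_c0 LD2_c22 LD3_c30) (LK LD1_c0 LD2_c49 LD3_c60) Lrfl Lrfl
theorem f5760 : Led Lsl_ft (LP (LK LD1_c0 LD2_c10 LD3_c33)) = (LP (LK LD1_c0 LD2_c23 LD3_c15)) :=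
  Lre_f IH (LK LD1_c0 LD2_c10 LD3_c33) (LK LD1_c0 LD2_c23 LD3_c15) Lrfl Lrfl
theorem f5761 : Led Lsl_at (LP (LK LD1_c0 LD2_c23 LD3_c15)) = (LP (LK LD1_c0 LD2_c49 LD3_c60)) :=
  Lgr Lrot26 (Lpe (f5760 IH) (Lpr_gt (f5758 IH) (Lpr_gt (f5754 IH) (Lpn (LP (LK LD1_c0 LD2_c49 LD3_c60))))))
theorem f5774 : Led Lsl_bt (LP (LK LD1_c0 LD2_c10 LD3_c28)) = (LP (LK LD1_c0 LD2_c23 LD3_c15)) :=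
  Lre_b IH (LK LD1_c0 LD2_c10 LD3_c28) (LK LD1_c0 LD2_c23 LD3_c15) Lrfl Lrfl
theorem f5775 : Led Lsl_at (LP (LK LD1_c0 LD2_c4 LD3_c56)) = (LP (LK LD1_c0 LD2_c10 LD3_c28)) :=
  Lre_a IH (LK LD1_c0 LD2_c4 LD3_c56) (LK LD1_c0 LD2_c10 LD3_c28) Lrfl Lrfl
theorem f5777 : Led Lsl_at (LP (LK LD1_c0 LD2_c23 LD3_c18)) = (LP (LK LD1_c0 LD2_c10 LD3_c29)) :=
  Lre_a IH (LK LD1_c0 LD2_c23 LD3_c18) (LK LD1_c0 LD2_c10 LD3_c29) Lrfl Lrfl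
theorem f5778 : Led Lsl_bf (LP (LK LD1_c0 LD2_c23 LD3_c18)) = (LP (LK LD1_c0 LD2_c49 LD3_c60)) :=
  Lgr Lrot81 (Lpr_at (f5777 IH) (Lpr_bt (K0.f5776 IH) (Lpr_at (f5775 IH) (Lpr_bt (f5774 IH) (Lpr_at (f5761 IH) (Lpn (LP (LK LD1_c0 LD2_c49 LD3_c60))))))))
theorem f5793 : Led Lsl_bt (LP (LK LD1_c0 LD2_c23 LD3_c18)) = (LP (LK LD1_c0 LD2_c49 LD3_c60)) :=
  Lgr Lrot127 (Lpr_bf (f5778 IH) (Lpn (LP (LK LD1_c0 LD2_c49 LD3_c60))))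
theorem f94657 : Led Lsl_cf (LP (LK LD1_c0 LD2_c20 LD3_c14)) = (LP (LK LD1_c0 LD2_c23 LD3_c18)) :=
  Lgr Lrot160 (Lpr_gt (f9808 IH) (Lpe (K0.f9791 IH) (Lpe (K0.f9781 IH) (Lpr_gt (f9797 IH) (Lpr_ct (f9807 IH) (Lpr_gt (f94653 IH) (Lpr_cf (f23697 IH) (Lpr_bt (f5721 IH) (Lpr_gt (f5754 IH) (Lpe (f5793 IH) (Lpn (LP (LK LD1_c0 LD2_c23 LD3_c18)))))))))))))
theorem f85029 : Led Lsl_at (LP (LK LD1_c0 LD2_c10 LD3_c36)) = (LP (LK LD1_c0 LD2_c23 LD3_c29)) :=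
  Lre_a IH (LK LD1_c0 LD2_c10 LD3_c36) (LK LD1_c0 LD2_c23 LD3_c29) Lrfl Lrfl
theorem f85030 : Led Lsl_at (LP (LK LD1_c0 LD2_c23 LD3_c29)) = (LP (LK LD1_c0 LD2_c10 LD3_c36)) :=
  Lre_a IH (LK LD1_c0 LD2_c23 LD3_c29) (LK LD1_c0 LD2_c10 LD3_c36) Lrfl Lrfl
theorem f85031 : Led Lsl_ff (LP (LK LD1_c0 LD2_c10 LD3_c36)) = (LP (LK LD1_c0 LD2_c10 LD3_c36)) :=
  Lgr Lrot30 (Lpr_at (f85029 IH) (Lpr_ft (f85026 IH) (Lpr_at (f85030 IH) (Lpn (LP (LK LD1_c0 LD2_c10 LD3_c36))))))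
theorem f85182 : Led Lsl_bt (LP (LK LD1_c0 LD2_c10 LD3_c36)) = (LP (LK LD1_c0 LD2_c23 LD3_c32)) :=
  Lre_b IH (LK LD1_c0 LD2_c10 LD3_c36) (LK LD1_c0 LD2_c23 LD3_c32) Lrfl Lrfl
theorem f85183 : Led Lsl_bt (LP (LK LD1_c0 LD2_c23 LD3_c32)) = (LP (LK LD1_c0 LD2_c10 LD3_c36)) :=
  Lre_b IH (LK LD1_c0 LD2_c23 LD3_c32) (LK LD1_c0 LD2_c10 LD3_c36) Lrfl Lrfl
theorem f85184 : Led Lsl_ft (LP (LK LD1_c0 LD2_c23 LD3_c32)) = (LP (LK LD1_c0 LD2_c23 LD3_c32)) :=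
  Lgr Lrot75 (Lpe (f85182 IH) (Lpr_ff (f85031 IH) (Lpe (f85183 IH) (Lpn (LP (LK LD1_c0 LD2_c23 LD3_c32))))))
theorem f85192 : Led Lsl_et (LP (LK LD1_c0 LD2_c10 LD3_c33)) = (LP (LK LD1_c0 LD2_c23 LD3_c32)) :=
  Lre_e IH (LK LD1_c0 LD2_c10 LD3_c33) (LK LD1_c0 LD2_c23 LD3_c32) Lrfl Lrfl
theorem f5790 : Led Lsl_ft (LP (LK LD1_c0 LD2_c23 LD3_c15)) = (LP (LK LD1_c0 LD2_c10 LD3_c33)) :=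
  Lre_f IH (LK LD1_c0 LD2_c23 LD3_c15) (LK LD1_c0 LD2_c10 LD3_c33) Lrfl Lrfl
theorem f5768 : Led Lsl_et (LP (LK LD1_c0 LD2_c23 LD3_c32)) = (LP (LK LD1_c0 LD2_c10 LD3_c33)) :=
  Lre_e IH (LK LD1_c0 LD2_c23 LD3_c32) (LK LD1_c0 LD2_c10 LD3_c33) Lrfl Lrfl
theorem f85193 : Led Lsl_ef (LP (LK LD1_c0 LD2_c23 LD3_c15)) = (LP (LK LD1_c0 LD2_c23 LD3_c15)) :=
  Lgr Lrot21 (Lpr_ft (f5790 IH) (Lpr_et (f85192 IH) (Lpr_ft (f85184 IH) (Lpr_et (f5768 IH) (Lpr_ft (f5760 IH) (Lpn (LP (LK LD1_c0 LD2_c23 LD3_c15))))))))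
theorem f5772 : Led Lsl_af (LP (LK LD1_c0 LD2_c23 LD3_c15)) = (LP (LK LD1_c0 LD2_c49 LD3_c60)) :=
  Lgr Lrot0 (Lpr_at (f5761 IH) (Lpn (LP (LK LD1_c0 LD2_c49 LD3_c60))))
theorem f85195 : Led Lsl_et (LP (LK LD1_c0 LD2_c49 LD3_c60)) = (LP (LK LD1_c0 LD2_c49 LD3_c60)) :=
  Lgr Lrot123 (Lpe (f5761 IH) (Lpr_ef (f85193 IH) (Lpr_af (f5772 IH) (Lpn (LP (LK LD1_c0 LD2_c49 LD3_c60))))))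
theorem f85197 : Led Lsl_ef (LP (LK LD1_c0 LD2_c23 LD3_c18)) = (LP (LK LD1_c0 LD2_c23 LD3_c18)) :=
  Lgr Lrot29 (Lpr_bt (f5793 IH) (Lpr_et (f85195 IH) (Lpe (f5778 IH) (Lpn (LP (LK LD1_c0 LD2_c23 LD3_c18))))))
theorem f94662 : Led Lsl_ct (LP (LK LD1_c0 LD2_c20 LD3_c14)) = (LP (LK LD1_c0 LD2_c23 LD3_c18)) :=
  Lgr Lrot59 (Lpr_cf (f94657 IH) (Lpn (LP (LK LD1_c0 LD2_c23 LD3_c18))))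
theorem f94664 : Led Lsl_et (LP (LK LD1_c0 LD2_c20 LD3_c14)) = (LP (LK LD1_c0 LD2_c20 LD3_c14)) :=
  Lgr Lrot158 (Lpr_cf (f94657 IH) (Lpr_ef (f85197 IH) (Lpe (f94662 IH) (Lpn (LP (LK LD1_c0 LD2_c20 LD3_c14))))))
theorem f20028 : Led Lsl_dt (LP (LK LD1_c0 LD2_c20 LD3_c14)) = (LP (LK LD1_c0 LD2_c45 LD3_c22)) :=
  Lre_d IH (LK LD1_c0 LD2_c20 LD3_c14) (LK LD1_c0 LD2_c45 LD3_c22) Lrfl Lrfl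
theorem f83497 : Led Lsl_dt (LP (LK LD1_c1 LD2_c37 LD3_c49)) = (LP (LK LD1_c3 LD2_c9 LD3_c14)) :=
  Lgr Lrot60 (Lpr_ff (f76739 IH) (Lpe (f68014 IH) (Lpr_ff (f83487 IH) (Lpn (LP (LK LD1_c3 LD2_c9 LD3_c14))))))
theorem f68013 : Led Lsl_at (LP (LK LD1_c3 LD2_c11 LD3_c39)) = (LP (LK LD1_c1 LD2_c32 LD3_c12)) :=
  Lre_a IH (LK LD1_c3 LD2_c11 LD3_c39) (LK LD1_c1 LD2_c32 LD3_c12) Lrfl Lrfl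
theorem f76755 : Led Lsl_gt (LP (LK LD1_c3 LD2_c11 LD3_c41)) = (LP (LK LD1_c1 LD2_c32 LD3_c12)) :=
  Lre_g IH (LK LD1_c3 LD2_c11 LD3_c41) (LK LD1_c1 LD2_c32 LD3_c12) Lrfl Lrfl
theorem f83503 : Led Lsl_gf (LP (LK LD1_c3 LD2_c11 LD3_c41)) = (LP (LK LD1_c3 LD2_c9 LD3_c14)) :=
  Lgr Lrot47 (Lpr_gt (f76755 IH) (Lpe (f68013 IH) (Lpr_ff (f83487 IH) (Lpn (LP (LK LD1_c3 LD2_c9 LD3_c14))))))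
theorem f68072 : Led Lsl_at (LP (LK LD1_c1 LD2_c32 LD3_c11)) = (LP (LK LD1_c0 LD2_c42 LD3_c39)) :=
  Lre_a IH (LK LD1_c1 LD2_c32 LD3_c11) (LK LD1_c0 LD2_c42 LD3_c39) Lrfl Lrfl
theorem f68158 : Led Lsl_ef (LP (LK LD1_c0 LD2_c21 LD3_c26)) = (LP (LK LD1_c0 LD2_c42 LD3_c39)) :=
  Lgr Lrot20 (Lpr_at (f18093 IH) (Lpr_et (f68156 IH) (Lpr_at (f68072 IH) (Lpn (LP (LK LD1_c0 LD2_c42 LD3_c39))))))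
theorem f76756 : Led Lsl_df (LP (LK LD1_c3 LD2_c11 LD3_c41)) = (LP (LK LD1_c1 LD2_c40 LD3_c54)) :=
  Lgr Lrot170 (Lpr_gt (f76755 IH) (Lpe (f68110 IH) (Lpe (f68158 IH) (Lpe (K1.f66635 IH) (Lpr_dt (K1.f66582 IH) (Lpr_gt (K1.f9784 IH) (Lpe (K0.f15039 IH) (Lpr_et (f76741 IH) (Lpr_gt (f66842 IH) (Lpe (f17667 IH) (Lpn (LP (LK LD1_c1 LD2_c40 LD3_c54)))))))))))))
theorem f94680 : Led Lsl_gf (LP (LK LD1_c0 LD2_c45 LD3_c22)) = (LP (LK LD1_c0 LD2_c42 LD3_c60)) :=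
  Lgr Lrot134 (Lpe (f20028 IH) (Lpr_et (f94664 IH) (Lpr_gt (f9808 IH) (Lpe (f13512 IH) (Lpr_dt (f83497 IH) (Lpe (f83503 IH) (Lpr_df (f76756 IH) (Lpr_et (f17667 IH) (Lpe (K1.f17653 IH) (Lpe (K1.f66642 IH) (Lpn (LP (LK LD1_c0 LD2_c42 LD3_c60)))))))))))))
theorem f66804 : Led Lsl_ff (LP (LK LD1_c0 LD2_c41 LD3_c25)) = (LP (LK LD1_c0 LD2_c42 LD3_c60)) :=
  Lgr Lrot19 (Lpr_dt (f66803 IH) (Lpr_ft (K1.f66753 IH) (Lpe (K1.f66642 IH) (Lpn (LP (LK LD1_c0 LD2_c42 LD3_c60))))))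
theorem f66873 : Led Lsl_at (LP (LK LD1_c0 LD2_c41 LD3_c25)) = (LP (LK LD1_c1 LD2_c29 LD3_c34)) :=
  Lre_a IH (LK LD1_c0 LD2_c41 LD3_c25) (LK LD1_c1 LD2_c29 LD3_c34) Lrfl Lrfl
theorem f94682 : Led Lsl_gt (LP (LK LD1_c0 LD2_c45 LD3_c22)) = (LP (LK LD1_c1 LD2_c29 LD3_c34)) :=
  Lgr Lrot46 (Lpr_gf (f94680 IH) (Lpe (f66804 IH) (Lpr_at (f66873 IH) (Lpn (LP (LK LD1_c1 LD2_c29 LD3_c34))))))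
theorem f12571 : Led Lsl_gt (LP (LK LD1_c0 LD2_c9 LD3_c8)) = (LP (LK LD1_c0 LD2_c20 LD3_c14)) :=
  Lre_g IH (LK LD1_c0 LD2_c9 LD3_c8) (LK LD1_c0 LD2_c20 LD3_c14) Lrfl Lrfl
theorem f13547 : Led Lsl_bt (LP (LK LD1_c0 LD2_c9 LD3_c8)) = (LP (LK LD1_c0 LD2_c4 LD3_c14)) :=
  Lre_b IH (LK LD1_c0 LD2_c9 LD3_c8) (LK LD1_c0 LD2_c4 LD3_c14) Lrfl Lrfl
theorem f67073 : Led Lsl_et (LP (LK LD1_c0 LD2_c18 LD3_c31)) = (LP (LK LD1_c0 LD2_c9 LD3_c8)) :=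
  Lgr Lrot74 (Lpe (K1.f66752 IH) (Lpr_ef (K1.f67053 IH) (Lpe (f13547 IH) (Lpn (LP (LK LD1_c0 LD2_c9 LD3_c8))))))
theorem f66901 : Led Lsl_at (LP (LK LD1_c1 LD2_c29 LD3_c34)) = (LP (LK LD1_c0 LD2_c41 LD3_c25)) :=
  Lre_a IH (LK LD1_c1 LD2_c29 LD3_c34) (LK LD1_c0 LD2_c41 LD3_c25) Lrfl Lrfl
theorem f90598 : Led Lsl_gt (LP (LK LD1_c0 LD2_c51 LD3_c35)) = (LP (LK LD1_c0 LD2_c41 LD3_c25)) :=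
  Lgr Lrot46 (Lpr_gf (f90596 IH) (Lpe (K1.f66899 IH) (Lpr_at (f66901 IH) (Lpn (LP (LK LD1_c0 LD2_c41 LD3_c25))))))
theorem f95253 : Led Lsl_gf (LP (LK LD1_c0 LD2_c23 LD3_c19)) = (LP (LK LD1_c0 LD2_c20 LD3_c16)) :=
  Lgr Lrot141 (Lpr_ef (f85148 IH) (Lpr_dt (f23707 IH) (Lpr_gt (f90598 IH) (Lpe (f66811 IH) (Lpr_et (f67073 IH) (Lpr_gt (f12571 IH) (Lpr_dt (f20028 IH) (Lpr_gt (f94682 IH) (Lpe (K1.f66831 IH) (Lpr_et (f66835 IH) (Lpn (LP (LK LD1_c0 LD2_c20 LD3_c16)))))))))))))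
theorem f5796 : Led Lsl_at (LP (LK LD1_c0 LD2_c10 LD3_c29)) = (LP (LK LD1_c0 LD2_c23 LD3_c18)) :=
  Lre_a IH (LK LD1_c0 LD2_c10 LD3_c29) (LK LD1_c0 LD2_c23 LD3_c18) Lrfl Lrfl
theorem f94660 : Led Lsl_at (LP (LK LD1_c0 LD2_c20 LD3_c14)) = (LP (LK LD1_c0 LD2_c23 LD3_c19)) :=
  Lgr Lrot107 (Lpr_cf (f94657 IH) (Lpe (f5796 IH) (Lpe (f23708 IH) (Lpn (LP (LK LD1_c0 LD2_c23 LD3_c19))))))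
theorem f95255 : Led Lsl_ff (LP (LK LD1_c0 LD2_c20 LD3_c14)) = (LP (LK LD1_c0 LD2_c23 LD3_c33)) :=
  Lgr Lrot52 (Lpr_at (f94660 IH) (Lpr_gf (f95253 IH) (Lpr_gf (f23349 IH) (Lpn (LP (LK LD1_c0 LD2_c23 LD3_c33))))))
theorem f23360 : Led Lsl_et (LP (LK LD1_c0 LD2_c52 LD3_c1)) = (LP (LK LD1_c0 LD2_c23 LD3_c33)) :=
  Lre_e IH (LK LD1_c0 LD2_c52 LD3_c1) (LK LD1_c0 LD2_c23 LD3_c33) Lrfl Lrfl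
theorem f85046 : Led Lsl_at (LP (LK LD1_c0 LD2_c51 LD3_c50)) = (LP (LK LD1_c0 LD2_c23 LD3_c35)) :=
  Lre_a IH (LK LD1_c0 LD2_c51 LD3_c50) (LK LD1_c0 LD2_c23 LD3_c35) Lrfl Lrfl
theorem f85047 : Led Lsl_at (LP (LK LD1_c0 LD2_c23 LD3_c35)) = (LP (LK LD1_c0 LD2_c51 LD3_c50)) :=
  Lre_a IH (LK LD1_c0 LD2_c23 LD3_c35) (LK LD1_c0 LD2_c51 LD3_c50) Lrfl Lrfl
theorem f85048 : Led Lsl_ft (LP (LK LD1_c0 LD2_c23 LD3_c35)) = (LP (LK LD1_c0 LD2_c23 LD3_c35)) :=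
  Lgr Lrot101 (Lpe (f85046 IH) (Lpr_ff (f85039 IH) (Lpe (f85047 IH) (Lpn (LP (LK LD1_c0 LD2_c23 LD3_c35))))))
theorem f85168 : Led Lsl_bt (LP (LK LD1_c0 LD2_c52 LD3_c1)) = (LP (LK LD1_c0 LD2_c23 LD3_c35)) :=
  Lre_b IH (LK LD1_c0 LD2_c52 LD3_c1) (LK LD1_c0 LD2_c23 LD3_c35) Lrfl Lrfl
theorem f85169 : Led Lsl_bt (LP (LK LD1_c0 LD2_c23 LD3_c35)) = (LP (LK LD1_c0 LD2_c52 LD3_c1)) :=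
  Lre_b IH (LK LD1_c0 LD2_c23 LD3_c35) (LK LD1_c0 LD2_c52 LD3_c1) Lrfl Lrfl
theorem f85170 : Led Lsl_ff (LP (LK LD1_c0 LD2_c52 LD3_c1)) = (LP (LK LD1_c0 LD2_c52 LD3_c1)) :=
  Lgr Lrot25 (Lpr_bt (f85168 IH) (Lpr_ft (f85048 IH) (Lpr_bt (f85169 IH) (Lpn (LP (LK LD1_c0 LD2_c52 LD3_c1))))))
theorem f68353 : Led Lsl_et (LP (LK LD1_c0 LD2_c23 LD3_c33)) = (LP (LK LD1_c0 LD2_c52 LD3_c1)) :=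
  Lre_e IH (LK LD1_c0 LD2_c23 LD3_c33) (LK LD1_c0 LD2_c52 LD3_c1) Lrfl Lrfl
theorem f95287 : Led Lsl_ft (LP (LK LD1_c0 LD2_c20 LD3_c14)) = (LP (LK LD1_c0 LD2_c23 LD3_c33)) :=
  Lgr Lrot86 (Lpe (f94664 IH) (Lpr_ff (f95255 IH) (Lpe (f23360 IH) (Lpr_ff (f85170 IH) (Lpe (f68353 IH) (Lpn (LP (LK LD1_c0 LD2_c23 LD3_c33))))))))
theorem f95298 : Led Lsl_af (LP (LK LD1_c0 LD2_c20 LD3_c15)) = (LP (LK LD1_c0 LD2_c23 LD3_c33)) :=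
  Lgr Lrot31 (Lpe (f9813 IH) (Lpe (f9808 IH) (Lpr_ft (f95287 IH) (Lpn (LP (LK LD1_c0 LD2_c23 LD3_c33))))))
theorem f94674 : Led Lsl_af (LP (LK LD1_c0 LD2_c20 LD3_c14)) = (LP (LK LD1_c0 LD2_c23 LD3_c19)) :=
  Lgr Lrot50 (Lpr_et (f94664 IH) (Lpr_at (f94660 IH) (Lpe (f85148 IH) (Lpn (LP (LK LD1_c0 LD2_c23 LD3_c19))))))
theorem f95310 : Led Lsl_ft (LP (LK LD1_c0 LD2_c20 LD3_c15)) = (LP (LK LD1_c0 LD2_c23 LD3_c19)) :=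
  Lgr Lrot101 (Lpr_af (f95298 IH) (Lpe (f95287 IH) (Lpr_af (f94674 IH) (Lpn (LP (LK LD1_c0 LD2_c23 LD3_c19))))))
theorem f13520 : Led Lsl_ct (LP (LK LD1_c0 LD2_c45 LD3_c24)) = (LP (LK LD1_c1 LD2_c37 LD3_c54)) :=
  Lre_c IH (LK LD1_c0 LD2_c45 LD3_c24) (LK LD1_c1 LD2_c37 LD3_c54) Lrfl Lrfl
theorem f91982 : Led Lsl_dt (LP (LK LD1_c1 LD2_c37 LD3_c54)) = (LP (LK LD1_c3 LD2_c22 LD3_c60)) :=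
  Lre_d IH (LK LD1_c1 LD2_c37 LD3_c54) (LK LD1_c3 LD2_c22 LD3_c60) Lrfl Lrfl
theorem f94666 : Led Lsl_dt (LP (LK LD1_c0 LD2_c45 LD3_c22)) = (LP (LK LD1_c0 LD2_c20 LD3_c14)) :=
  Lre_d IH (LK LD1_c0 LD2_c45 LD3_c22) (LK LD1_c0 LD2_c20 LD3_c14) Lrfl Lrfl
theorem f15007 : Led Lsl_gt (LP (LK LD1_c3 LD2_c23 LD3_c39)) = (LP (LK LD1_c1 LD2_c40 LD3_c16)) :=
  Lre_g IH (LK LD1_c3 LD2_c23 LD3_c39) (LK LD1_c1 LD2_c40 LD3_c16) Lrfl Lrfl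
theorem f59445 : Led Lsl_ct (LP (LK LD1_c1 LD2_c32 LD3_c52)) = (LP (LK LD1_c0 LD2_c42 LD3_c60)) :=
  Lre_c IH (LK LD1_c1 LD2_c32 LD3_c52) (LK LD1_c0 LD2_c42 LD3_c60) Lrfl Lrfl
theorem f94684 : Led Lsl_df (LP (LK LD1_c3 LD2_c23 LD3_c39)) = (LP (LK LD1_c1 LD2_c39 LD3_c25)) :=
  Lgr Lrot153 (Lpr_gt (f15007 IH) (Lpr_dt (K0.f14979 IH) (Lpe (K0.f14558 IH) (Lpe (K0.f13516 IH) (Lpe (f9808 IH) (Lpe (f94666 IH) (Lpr_gf (f94680 IH) (Lpe (f59445 IH) (Lpr_gt (f91955 IH) (Lpn (LP (LK LD1_c1 LD2_c39 LD3_c25))))))))))))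
theorem f11971 : Led Lsl_gt (LP (LK LD1_c0 LD2_c46 LD3_c37)) = (LP (LK LD1_c1 LD2_c40 LD3_c14)) :=
  Lre_g IH (LK LD1_c0 LD2_c46 LD3_c37) (LK LD1_c1 LD2_c40 LD3_c14) Lrfl Lrfl
theorem f66741 : Led Lsl_at (LP (LK LD1_c1 LD2_c32 LD3_c51)) = (LP (LK LD1_c0 LD2_c42 LD3_c60)) :=
  Lre_a IH (LK LD1_c1 LD2_c32 LD3_c51) (LK LD1_c0 LD2_c42 LD3_c60) Lrfl Lrfl
theorem f91950 : Led Lsl_gt (LP (LK LD1_c1 LD2_c29 LD3_c34)) = (LP (LK LD1_c0 LD2_c45 LD3_c24)) :=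
  Lgr Lrot5 (Lpr_ft (K1.f66891 IH) (Lpr_at (f66741 IH) (Lpr_gf (f91947 IH) (Lpn (LP (LK LD1_c0 LD2_c45 LD3_c24))))))
theorem f91983 : Led Lsl_dt (LP (LK LD1_c3 LD2_c22 LD3_c60)) = (LP (LK LD1_c1 LD2_c37 LD3_c54)) :=
  Lre_d IH (LK LD1_c3 LD2_c22 LD3_c60) (LK LD1_c1 LD2_c37 LD3_c54) Lrfl Lrfl
theorem f94695 : Led Lsl_ct (LP (LK LD1_c1 LD2_c40 LD3_c14)) = (LP (LK LD1_c3 LD2_c22 LD3_c60)) :=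
  Lgr Lrot110 (Lpe (f11971 IH) (Lpe (K0.f14556 IH) (Lpe (f15007 IH) (Lpr_df (f94684 IH) (Lpe (f91976 IH) (Lpr_ct (K1.f66841 IH) (Lpr_gt (f91950 IH) (Lpr_ct (f13520 IH) (Lpe (f91983 IH) (Lpn (LP (LK LD1_c3 LD2_c22 LD3_c60))))))))))))
theorem f94702 : Led Lsl_cf (LP (LK LD1_c1 LD2_c40 LD3_c14)) = (LP (LK LD1_c3 LD2_c22 LD3_c60)) :=
  Lgr Lrot11 (Lpr_ct (f94695 IH) (Lpn (LP (LK LD1_c3 LD2_c22 LD3_c60))))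
theorem f94344 : Led Lsl_ft (LP (LK LD1_c0 LD2_c20 LD3_c45)) = (LP (LK LD1_c0 LD2_c46 LD3_c13)) :=
  Lre_f IH (LK LD1_c0 LD2_c20 LD3_c45) (LK LD1_c0 LD2_c46 LD3_c13) Lrfl Lrfl
theorem f94692 : Led Lsl_at (LP (LK LD1_c0 LD2_c46 LD3_c13)) = (LP (LK LD1_c0 LD2_c20 LD3_c49)) :=
  Lre_a IH (LK LD1_c0 LD2_c46 LD3_c13) (LK LD1_c0 LD2_c20 LD3_c49) Lrfl Lrfl
theorem f14602 : Led Lsl_ct (LP (LK LD1_c0 LD2_c46 LD3_c24)) = (LP (LK LD1_c0 LD2_c20 LD3_c50)) :=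
  Lre_c IH (LK LD1_c0 LD2_c46 LD3_c24) (LK LD1_c0 LD2_c20 LD3_c50) Lrfl Lrfl
theorem f14603 : Led Lsl_dt (LP (LK LD1_c1 LD2_c39 LD3_c44)) = (LP (LK LD1_c0 LD2_c46 LD3_c24)) :=
  Lre_d IH (LK LD1_c1 LD2_c39 LD3_c44) (LK LD1_c0 LD2_c46 LD3_c24) Lrfl Lrfl
theorem f94693 : Led Lsl_ct (LP (LK LD1_c3 LD2_c23 LD3_c39)) = (LP (LK LD1_c1 LD2_c39 LD3_c44)) :=
  Lgr Lrot41 (Lpr_df (f94684 IH) (Lpe (f91962 IH) (Lpe (f91957 IH) (Lpr_ft (f94344 IH) (Lpr_at (f94692 IH) (Lpe (f9807 IH) (Lpe (f14609 IH) (Lpe (f14602 IH) (Lpe (f14603 IH) (Lpn (LP (LK LD1_c1 LD2_c39 LD3_c44))))))))))))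
theorem f94219 : Led Lsl_dt (LP (LK LD1_c1 LD2_c39 LD3_c29)) = (LP (LK LD1_c0 LD2_c46 LD3_c14)) :=
  Lre_d IH (LK LD1_c1 LD2_c39 LD3_c29) (LK LD1_c0 LD2_c46 LD3_c14) Lrfl Lrfl
theorem f14580 : Led Lsl_gt (LP (LK LD1_c3 LD2_c23 LD3_c40)) = (LP (LK LD1_c1 LD2_c38 LD3_c8)) :=
  Lre_g IH (LK LD1_c3 LD2_c23 LD3_c40) (LK LD1_c1 LD2_c38 LD3_c8) Lrfl Lrfl
theorem f15005 : Led Lsl_gf (LP (LK LD1_c3 LD2_c23 LD3_c40)) = (LP (LK LD1_c1 LD2_c40 LD3_c16)) :=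
  Lgr Lrot47 (Lpr_gt (f14580 IH) (Lpr_af (K0.f14404 IH) (Lpr_ff (K0.f14984 IH) (Lpn (LP (LK LD1_c1 LD2_c40 LD3_c16))))))
theorem f94220 : Led Lsl_ct (LP (LK LD1_c3 LD2_c23 LD3_c40)) = (LP (LK LD1_c1 LD2_c39 LD3_c29)) :=
  Lgr Lrot110 (Lpr_gf (f15005 IH) (Lpe (f12034 IH) (Lpe (f15010 IH) (Lpe (f90885 IH) (Lpe (K1.f11435 IH) (Lpr_ct (K1.f11445 IH) (Lpr_gt (f94208 IH) (Lpr_ct (f20202 IH) (Lpe (f94219 IH) (Lpn (LP (LK LD1_c1 LD2_c39 LD3_c29))))))))))))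
theorem f26118 : Led Lsl_dt (LP (LK LD1_c0 LD2_c20 LD3_c49)) = (LP (LK LD1_c0 LD2_c46 LD3_c22)) :=
  Lre_d IH (LK LD1_c0 LD2_c20 LD3_c49) (LK LD1_c0 LD2_c46 LD3_c22) Lrfl Lrfl
theorem f26119 : Led Lsl_ct (LP (LK LD1_c0 LD2_c46 LD3_c22)) = (LP (LK LD1_c1 LD2_c39 LD3_c40)) :=
  Lre_c IH (LK LD1_c0 LD2_c46 LD3_c22) (LK LD1_c1 LD2_c39 LD3_c40) Lrfl Lrfl
theorem f94741 : Led Lsl_df (LP (LK LD1_c3 LD2_c23 LD3_c40)) = (LP (LK LD1_c1 LD2_c39 LD3_c40)) :=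
  Lgr Lrot43 (Lpr_ct (f94220 IH) (Lpr_dt (f94219 IH) (Lpr_ct (f94225 IH) (Lpr_dt (f14988 IH) (Lpr_ct (f14991 IH) (Lpr_dt (f91957 IH) (Lpr_ct (f91962 IH) (Lpe (f94684 IH) (Lpr_ct (f94693 IH) (Lpr_dt (f14603 IH) (Lpr_ct (f14602 IH) (Lpr_dt (f14609 IH) (Lpr_ct (f9807 IH) (Lpr_dt (f26118 IH) (Lpr_ct (f26119 IH) (Lpn (LP (LK LD1_c1 LD2_c39 LD3_c40))))))))))))))))))
theorem f14976 : Led Lsl_dt (LP (LK LD1_c1 LD2_c38 LD3_c8)) = (LP (LK LD1_c0 LD2_c45 LD3_c29)) :=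
  Lre_d IH (LK LD1_c1 LD2_c38 LD3_c8) (LK LD1_c0 LD2_c45 LD3_c29) Lrfl Lrfl
theorem f91958 : Led Lsl_dt (LP (LK LD1_c0 LD2_c45 LD3_c24)) = (LP (LK LD1_c0 LD2_c20 LD3_c15)) :=
  Lre_d IH (LK LD1_c0 LD2_c45 LD3_c24) (LK LD1_c0 LD2_c20 LD3_c15) Lrfl Lrfl
theorem f94775 : Led Lsl_gt (LP (LK LD1_c3 LD2_c6 LD3_c52)) = (LP (LK LD1_c1 LD2_c39 LD3_c40)) :=
  Lgr Lrot94 (Lpe (K1.f66832 IH) (Lpr_gt (f91950 IH) (Lpr_dt (f91958 IH) (Lpr_gt (f11975 IH) (Lpr_dt (K0.f14554 IH) (Lpe (f14977 IH) (Lpe (f14976 IH) (Lpe (f14580 IH) (Lpr_df (f94741 IH) (Lpn (LP (LK LD1_c1 LD2_c39 LD3_c40))))))))))))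
theorem f66845 : Led Lsl_ft (LP (LK LD1_c3 LD2_c6 LD3_c52)) = (LP (LK LD1_c3 LD2_c12 LD3_c46)) :=
  Lgr Lrot101 (Lpe (K1.f66837 IH) (Lpr_ff (K1.f66838 IH) (Lpe (f66664 IH) (Lpn (LP (LK LD1_c3 LD2_c12 LD3_c46))))))
theorem f94778 : Led Lsl_gf (LP (LK LD1_c1 LD2_c32 LD3_c52)) = (LP (LK LD1_c1 LD2_c39 LD3_c40)) :=
  Lgr Lrot76 (Lpe (f66664 IH) (Lpe (f66845 IH) (Lpr_gt (f94775 IH) (Lpn (LP (LK LD1_c1 LD2_c39 LD3_c40))))))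
theorem f19040 : Led Lsl_dt (LP (LK LD1_c1 LD2_c38 LD3_c40)) = (LP (LK LD1_c3 LD2_c24 LD3_c28)) :=
  Lre_d IH (LK LD1_c1 LD2_c38 LD3_c40) (LK LD1_c3 LD2_c24 LD3_c28) Lrfl Lrfl
theorem f18164 : Led Lsl_ft (LP (LK LD1_c0 LD2_c47 LD3_c24)) = (LP (LK LD1_c0 LD2_c45 LD3_c48)) :=
  Lgr Lrot4 (Lpe (K1.f11431 IH) (Lpr_ff (K1.f18157 IH) (Lpe (f11053 IH) (Lpn (LP (LK LD1_c0 LD2_c45 LD3_c48))))))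
theorem f11437 : Led Lsl_gt (LP (LK LD1_c0 LD2_c47 LD3_c24)) = (LP (LK LD1_c1 LD2_c41 LD3_c43)) :=
  Lre_g IH (LK LD1_c0 LD2_c47 LD3_c24) (LK LD1_c1 LD2_c41 LD3_c43) Lrfl Lrfl
theorem f19037 : Led Lsl_at (LP (LK LD1_c0 LD2_c45 LD3_c48)) = (LP (LK LD1_c1 LD2_c38 LD3_c40)) :=
  Lre_a IH (LK LD1_c0 LD2_c45 LD3_c48) (LK LD1_c1 LD2_c38 LD3_c40) Lrfl Lrfl
theorem f19152 : Led Lsl_gt (LP (LK LD1_c1 LD2_c41 LD3_c43)) = (LP (LK LD1_c1 LD2_c38 LD3_c40)) :=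
  Lgr Lrot46 (Lpe (f11437 IH) (Lpr_ft (f18164 IH) (Lpr_at (f19037 IH) (Lpn (LP (LK LD1_c1 LD2_c38 LD3_c40))))))
theorem f94773 : Led Lsl_dt (LP (LK LD1_c3 LD2_c23 LD3_c40)) = (LP (LK LD1_c1 LD2_c39 LD3_c40)) :=
  Lgr Lrot42 (Lpr_df (f94741 IH) (Lpn (LP (LK LD1_c1 LD2_c39 LD3_c40))))
theorem f94781 : Led Lsl_df (LP (LK LD1_c1 LD2_c41 LD3_c43)) = (LP (LK LD1_c1 LD2_c40 LD3_c14)) :=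
  Lgr Lrot153 (Lpr_gt (f19152 IH) (Lpr_dt (f19040 IH) (Lpe (K1.f66665 IH) (Lpe (K1.f66660 IH) (Lpr_gf (f94778 IH) (Lpe (f94773 IH) (Lpr_gf (f15005 IH) (Lpe (f12034 IH) (Lpr_gt (f11971 IH) (Lpn (LP (LK LD1_c1 LD2_c40 LD3_c14))))))))))))
theorem f5799 : Led Lsl_dt (LP (LK LD1_c0 LD2_c51 LD3_c33)) = (LP (LK LD1_c0 LD2_c23 LD3_c18)) :=
  Lre_d IH (LK LD1_c0 LD2_c51 LD3_c33) (LK LD1_c0 LD2_c23 LD3_c18) Lrfl Lrfl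
theorem f95320 : Led Lsl_ct (LP (LK LD1_c1 LD2_c41 LD3_c43)) = (LP (LK LD1_c0 LD2_c51 LD3_c33)) :=
  Lgr Lrot53 (Lpr_df (f94781 IH) (Lpr_cf (f94702 IH) (Lpe (f91982 IH) (Lpe (f13520 IH) (Lpe (f13519 IH) (Lpr_ft (f95310 IH) (Lpe (f94674 IH) (Lpr_cf (f94657 IH) (Lpe (f5799 IH) (Lpn (LP (LK LD1_c0 LD2_c51 LD3_c33))))))))))))
theorem f19155 : Led Lsl_et (LP (LK LD1_c3 LD2_c30 LD3_c4)) = (LP (LK LD1_c1 LD2_c41 LD3_c43)) :=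
  Lre_e IH (LK LD1_c3 LD2_c30 LD3_c4) (LK LD1_c1 LD2_c41 LD3_c43) Lrfl Lrfl
theorem f85199 : Led Lsl_et (LP (LK LD1_c0 LD2_c51 LD3_c33)) = (LP (LK LD1_c1 LD2_c49 LD3_c28)) :=
  Lre_e IH (LK LD1_c0 LD2_c51 LD3_c33) (LK LD1_c1 LD2_c49 LD3_c28) Lrfl Lrfl
theorem f95326 : Led Lsl_cf (LP (LK LD1_c3 LD2_c30 LD3_c4)) = (LP (LK LD1_c1 LD2_c49 LD3_c28)) :=
  Lgr Lrot39 (Lpr_et (f19155 IH) (Lpr_ct (f95320 IH) (Lpr_et (f85199 IH) (Lpn (LP (LK LD1_c1 LD2_c49 LD3_c28))))))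
theorem f95334 : Led Lsl_ct (LP (LK LD1_c3 LD2_c30 LD3_c4)) = (LP (LK LD1_c1 LD2_c49 LD3_c28)) :=
  Lgr Lrot59 (Lpr_cf (f95326 IH) (Lpn (LP (LK LD1_c1 LD2_c49 LD3_c28))))
theorem f85204 : Led Lsl_at (LP (LK LD1_c1 LD2_c49 LD3_c28)) = (LP (LK LD1_c0 LD2_c51 LD3_c38)) :=
  Lre_a IH (LK LD1_c1 LD2_c49 LD3_c28) (LK LD1_c0 LD2_c51 LD3_c38) Lrfl Lrfl
theorem f85247 : Led Lsl_ct (LP (LK LD1_c0 LD2_c51 LD3_c38)) = (LP (LK LD1_c1 LD2_c49 LD3_c35)) :=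
  Lre_c IH (LK LD1_c0 LD2_c51 LD3_c38) (LK LD1_c1 LD2_c49 LD3_c35) Lrfl Lrfl
theorem f95337 : Led Lsl_af (LP (LK LD1_c3 LD2_c30 LD3_c4)) = (LP (LK LD1_c1 LD2_c49 LD3_c35)) :=
  Lgr Lrot68 (Lpr_ct (f95334 IH) (Lpr_at (f85204 IH) (Lpr_ct (f85247 IH) (Lpn (LP (LK LD1_c1 LD2_c49 LD3_c35))))))
theorem f91766 : Led Lsl_et (LP (LK LD1_c0 LD2_c51 LD3_c37)) = (LP (LK LD1_c1 LD2_c49 LD3_c35)) :=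
  Lre_e IH (LK LD1_c0 LD2_c51 LD3_c37) (LK LD1_c1 LD2_c49 LD3_c35) Lrfl Lrfl
theorem f95349 : Led Lsl_at (LP (LK LD1_c1 LD2_c41 LD3_c43)) = (LP (LK LD1_c0 LD2_c51 LD3_c37)) :=
  Lgr Lrot80 (Lpe (f19155 IH) (Lpr_af (f95337 IH) (Lpe (f91766 IH) (Lpn (LP (LK LD1_c0 LD2_c51 LD3_c37))))))
theorem f12781 : Led Lsl_gt (LP (LK LD1_c0 LD2_c45 LD3_c48)) = (LP (LK LD1_c1 LD2_c38 LD3_c47)) :=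
  Lre_g IH (LK LD1_c0 LD2_c45 LD3_c48) (LK LD1_c1 LD2_c38 LD3_c47) Lrfl Lrfl
theorem f18228 : Led Lsl_gf (LP (LK LD1_c1 LD2_c41 LD3_c44)) = (LP (LK LD1_c1 LD2_c38 LD3_c47)) :=
  Lgr Lrot76 (Lpe (f18083 IH) (Lpr_ff (K1.f18218 IH) (Lpr_gt (f12781 IH) (Lpn (LP (LK LD1_c1 LD2_c38 LD3_c47))))))
theorem f95355 : Led Lsl_ff (LP (LK LD1_c1 LD2_c41 LD3_c43)) = (LP (LK LD1_c1 LD2_c38 LD3_c47)) :=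
  Lgr Lrot52 (Lpr_at (f95349 IH) (Lpr_gf (f65855 IH) (Lpr_gf (f18228 IH) (Lpn (LP (LK LD1_c1 LD2_c38 LD3_c47))))))
theorem f5727 : Led Lsl_dt (LP (LK LD1_c0 LD2_c10 LD3_c29)) = (LP (LK LD1_c0 LD2_c23 LD3_c20)) :=
  Lre_d IH (LK LD1_c0 LD2_c10 LD3_c29) (LK LD1_c0 LD2_c23 LD3_c20) Lrfl Lrfl
theorem f23706 : Led Lsl_ct (LP (LK LD1_c1 LD2_c49 LD3_c30)) = (LP (LK LD1_c0 LD2_c51 LD3_c35)) :=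
  Lre_c IH (LK LD1_c1 LD2_c49 LD3_c30) (LK LD1_c0 LD2_c51 LD3_c35) Lrfl Lrfl
theorem f90604 : Led Lsl_dt (LP (LK LD1_c3 LD2_c44 LD3_c50)) = (LP (LK LD1_c1 LD2_c49 LD3_c30)) :=
  Lre_d IH (LK LD1_c3 LD2_c44 LD3_c50) (LK LD1_c1 LD2_c49 LD3_c30) Lrfl Lrfl
theorem f90602 : Led Lsl_ct (LP (LK LD1_c0 LD2_c51 LD3_c35)) = (LP (LK LD1_c1 LD2_c49 LD3_c30)) :=
  Lre_c IH (LK LD1_c0 LD2_c51 LD3_c35) (LK LD1_c1 LD2_c49 LD3_c30) Lrfl Lrfl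
theorem f15046 : Led Lsl_ct (LP (LK LD1_c3 LD2_c23 LD3_c3)) = (LP (LK LD1_c1 LD2_c37 LD3_c58)) :=
  Lre_c IH (LK LD1_c3 LD2_c23 LD3_c3) (LK LD1_c1 LD2_c37 LD3_c58) Lrfl Lrfl
theorem f23702 : Led Lsl_dt (LP (LK LD1_c3 LD2_c13 LD3_c43)) = (LP (LK LD1_c6 LD2_c31 LD3_c6)) :=
  Lre_d IH (LK LD1_c3 LD2_c13 LD3_c43) (LK LD1_c6 LD2_c31 LD3_c6) Lrfl Lrfl
theorem f95257 : Led Lsl_gf (LP (LK LD1_c3 LD2_c44 LD3_c50)) = (LP (LK LD1_c6 LD2_c31 LD3_c6)) :=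
  Lgr Lrot143 (Lpr_dt (f90604 IH) (Lpe (f90602 IH) (Lpe (f23707 IH) (Lpr_gf (f95253 IH) (Lpe (K1.f9783 IH) (Lpe (K1.f9784 IH) (Lpe (f15046 IH) (Lpe (K1.f66567 IH) (Lpr_dt (f23702 IH) (Lpn (LP (LK LD1_c6 LD2_c31 LD3_c6))))))))))))
theorem f93239 : Led Lsl_ct (LP (LK LD1_c3 LD2_c23 LD3_c14)) = (LP (LK LD1_c1 LD2_c40 LD3_c12)) :=
  Lgr Lrot59 (Lpr_cf (f90574 IH) (Lpn (LP (LK LD1_c1 LD2_c40 LD3_c12))))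
theorem f90180 : Led Lsl_ct (LP (LK LD1_c0 LD2_c46 LD3_c60)) = (LP (LK LD1_c0 LD2_c41 LD3_c23)) :=
  Lgr Lrot59 (Lpr_cf (f90173 IH) (Lpn (LP (LK LD1_c0 LD2_c41 LD3_c23))))
theorem f90305 : Led Lsl_at (LP (LK LD1_c3 LD2_c23 LD3_c3)) = (LP (LK LD1_c1 LD2_c38 LD3_c3)) :=
  Lgr Lrot107 (Lpe (K1.f23367 IH) (Lpr_af (f90299 IH) (Lpe (f83725 IH) (Lpn (LP (LK LD1_c1 LD2_c38 LD3_c3))))))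
theorem f93256 : Led Lsl_ft (LP (LK LD1_c1 LD2_c38 LD3_c0)) = (LP (LK LD1_c3 LD2_c23 LD3_c3)) :=
  Lgr Lrot142 (Lpr_dt (f83761 IH) (Lpr_ct (f93239 IH) (Lpr_dt (f11972 IH) (Lpe (f11963 IH) (Lpr_dt (f87613 IH) (Lpr_ct (f90180 IH) (Lpr_dt (f83727 IH) (Lpr_ct (f77324 IH) (Lpe (f90305 IH) (Lpn (LP (LK LD1_c3 LD2_c23 LD3_c3))))))))))))
theorem f17139 : Led Lsl_ct (LP (LK LD1_c3 LD2_c23 LD3_c1)) = (LP (LK LD1_c1 LD2_c37 LD3_c57)) :=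
  Lre_c IH (LK LD1_c3 LD2_c23 LD3_c1) (LK LD1_c1 LD2_c37 LD3_c57) Lrfl Lrfl
theorem f90294 : Led Lsl_ff (LP (LK LD1_c3 LD2_c23 LD3_c1)) = (LP (LK LD1_c1 LD2_c38 LD3_c3)) :=
  Lgr Lrot23 (Lpr_ct (f17139 IH) (Lpr_ft (f90240 IH) (Lpr_ct (f77324 IH) (Lpn (LP (LK LD1_c1 LD2_c38 LD3_c3))))))
theorem f93258 : Led Lsl_af (LP (LK LD1_c1 LD2_c38 LD3_c0)) = (LP (LK LD1_c3 LD2_c23 LD3_c1)) :=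
  Lgr Lrot45 (Lpr_ft (f93256 IH) (Lpr_at (f90305 IH) (Lpe (f90294 IH) (Lpn (LP (LK LD1_c3 LD2_c23 LD3_c1))))))
theorem f93267 : Led Lsl_at (LP (LK LD1_c1 LD2_c38 LD3_c0)) = (LP (LK LD1_c3 LD2_c23 LD3_c1)) :=
  Lgr Lrot100 (Lpr_af (f93258 IH) (Lpn (LP (LK LD1_c3 LD2_c23 LD3_c1))))
theorem f93260 : Led Lsl_ff (LP (LK LD1_c1 LD2_c38 LD3_c0)) = (LP (LK LD1_c3 LD2_c23 LD3_c3)) :=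
  Lgr Lrot3 (Lpr_ft (f93256 IH) (Lpn (LP (LK LD1_c3 LD2_c23 LD3_c3))))
theorem f93997 : Led Lsl_gt (LP (LK LD1_c3 LD2_c13 LD3_c43)) = (LP (LK LD1_c3 LD2_c23 LD3_c1)) :=
  Lgr Lrot46 (Lpr_gf (K1.f66567 IH) (Lpe (f93260 IH) (Lpr_at (f93267 IH) (Lpn (LP (LK LD1_c3 LD2_c23 LD3_c1))))))
theorem f14636 : Led Lsl_ct (LP (LK LD1_c0 LD2_c45 LD3_c31)) = (LP (LK LD1_c1 LD2_c38 LD3_c10)) :=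
  Lre_c IH (LK LD1_c0 LD2_c45 LD3_c31) (LK LD1_c1 LD2_c38 LD3_c10) Lrfl Lrfl
theorem f15028 : Led Lsl_dt (LP (LK LD1_c3 LD2_c23 LD3_c42)) = (LP (LK LD1_c1 LD2_c38 LD3_c10)) :=
  Lre_d IH (LK LD1_c3 LD2_c23 LD3_c42) (LK LD1_c1 LD2_c38 LD3_c10) Lrfl Lrfl
theorem f14564 : Led Lsl_ct (LP (LK LD1_c1 LD2_c39 LD3_c48)) = (LP (LK LD1_c3 LD2_c23 LD3_c42)) :=
  Lre_c IH (LK LD1_c1 LD2_c39 LD3_c48) (LK LD1_c3 LD2_c23 LD3_c42) Lrfl Lrfl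
theorem f14997 : Led Lsl_ft (LP (LK LD1_c0 LD2_c52 LD3_c55)) = (LP (LK LD1_c0 LD2_c46 LD3_c37)) :=
  Lgr Lrot4 (Lpe (K0.f11838 IH) (Lpr_ff (K0.f14984 IH) (Lpe (f12034 IH) (Lpn (LP (LK LD1_c0 LD2_c46 LD3_c37))))))
theorem f11835 : Led Lsl_gt (LP (LK LD1_c0 LD2_c52 LD3_c55)) = (LP (LK LD1_c1 LD2_c52 LD3_c21)) :=
  Lre_g IH (LK LD1_c0 LD2_c52 LD3_c55) (LK LD1_c1 LD2_c52 LD3_c21) Lrfl Lrfl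
theorem f15051 : Led Lsl_at (LP (LK LD1_c0 LD2_c46 LD3_c37)) = (LP (LK LD1_c1 LD2_c39 LD3_c48)) :=
  Lre_a IH (LK LD1_c0 LD2_c46 LD3_c37) (LK LD1_c1 LD2_c39 LD3_c48) Lrfl Lrfl
theorem f17137 : Led Lsl_gt (LP (LK LD1_c1 LD2_c52 LD3_c21)) = (LP (LK LD1_c1 LD2_c39 LD3_c48)) :=
  Lgr Lrot46 (Lpe (f11835 IH) (Lpr_ft (f14997 IH) (Lpr_at (f15051 IH) (Lpn (LP (LK LD1_c1 LD2_c39 LD3_c48))))))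
theorem f95272 : Led Lsl_ct (LP (LK LD1_c3 LD2_c44 LD3_c50)) = (LP (LK LD1_c1 LD2_c52 LD3_c21)) :=
  Lgr Lrot152 (Lpr_gf (f95257 IH) (Lpe (f23702 IH) (Lpr_gt (f93997 IH) (Lpr_ct (f17139 IH) (Lpr_gt (f11880 IH) (Lpr_ct (f14636 IH) (Lpe (f15028 IH) (Lpe (f14564 IH) (Lpe (f17137 IH) (Lpn (LP (LK LD1_c1 LD2_c52 LD3_c21))))))))))))
theorem f95279 : Led Lsl_cf (LP (LK LD1_c3 LD2_c44 LD3_c50)) = (LP (LK LD1_c1 LD2_c52 LD3_c21)) :=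
  Lgr Lrot11 (Lpr_ct (f95272 IH) (Lpn (LP (LK LD1_c1 LD2_c52 LD3_c21))))
theorem f95357 : Led Lsl_dt (LP (LK LD1_c1 LD2_c38 LD3_c47)) = (LP (LK LD1_c1 LD2_c52 LD3_c21)) :=
  Lgr Lrot159 (Lpe (f95355 IH) (Lpr_at (f95349 IH) (Lpe (f5728 IH) (Lpe (f5727 IH) (Lpe (f23708 IH) (Lpe (f15030 IH) (Lpe (f23706 IH) (Lpe (f90604 IH) (Lpr_cf (f95279 IH) (Lpn (LP (LK LD1_c1 LD2_c52 LD3_c21))))))))))))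
theorem f95361 : Led Lsl_df (LP (LK LD1_c1 LD2_c38 LD3_c47)) = (LP (LK LD1_c1 LD2_c52 LD3_c21)) :=
  Lgr Lrot38 (Lpr_dt (f95357 IH) (Lpn (LP (LK LD1_c1 LD2_c52 LD3_c21))))
theorem f94807 : Led Lsl_dt (LP (LK LD1_c1 LD2_c41 LD3_c43)) = (LP (LK LD1_c1 LD2_c40 LD3_c14)) :=
  Lgr Lrot42 (Lpr_df (f94781 IH) (Lpn (LP (LK LD1_c1 LD2_c40 LD3_c14))))
theorem f95415 : Led Lsl_ft (LP (LK LD1_c1 LD2_c40 LD3_c14)) = (LP (LK LD1_c1 LD2_c52 LD3_c21)) :=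
  Lgr Lrot54 (Lpe (f94807 IH) (Lpr_ff (f95355 IH) (Lpr_df (f95361 IH) (Lpn (LP (LK LD1_c1 LD2_c52 LD3_c21))))))
theorem f95425 : Led Lsl_ff (LP (LK LD1_c1 LD2_c40 LD3_c14)) = (LP (LK LD1_c1 LD2_c52 LD3_c21)) :=
  Lgr Lrot3 (Lpr_ft (f95415 IH) (Lpn (LP (LK LD1_c1 LD2_c52 LD3_c21))))
theorem f18220 : Led Lsl_dt (LP (LK LD1_c3 LD2_c30 LD3_c11)) = (LP (LK LD1_c7 LD2_c2 LD3_c5)) :=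
  Lre_d IH (LK LD1_c3 LD2_c30 LD3_c11) (LK LD1_c7 LD2_c2 LD3_c5) Lrfl Lrfl
theorem f14843 : Led Lsl_gt (LP (LK LD1_c1 LD2_c52 LD3_c24)) = (LP (LK LD1_c3 LD2_c50 LD3_c57)) :=
  Lre_g IH (LK LD1_c1 LD2_c52 LD3_c24) (LK LD1_c3 LD2_c50 LD3_c57) Lrfl Lrfl
theorem f15298 : Led Lsl_et (LP (LK LD1_c3 LD2_c51 LD3_c7)) = (LP (LK LD1_c1 LD2_c52 LD3_c24)) :=
  Lre_e IH (LK LD1_c3 LD2_c51 LD3_c7) (LK LD1_c1 LD2_c52 LD3_c24) Lrfl Lrfl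
theorem f15299 : Led Lsl_dt (LP (LK LD1_c3 LD2_c51 LD3_c7)) = (LP (LK LD1_c7 LD2_c43 LD3_c36)) :=
  Lre_d IH (LK LD1_c3 LD2_c51 LD3_c7) (LK LD1_c7 LD2_c43 LD3_c36) Lrfl Lrfl
theorem f90932 : Led Lsl_gt (LP (LK LD1_c7 LD2_c2 LD3_c5)) = (LP (LK LD1_c7 LD2_c43 LD3_c36)) :=
  Lgr Lrot139 (Lpe (f18220 IH) (Lpe (f19148 IH) (Lpr_ef (f90921 IH) (Lpr_dt (f15301 IH) (Lpe (f15300 IH) (Lpe (K0.f15295 IH) (Lpe (K0.f15064 IH) (Lpe (f14843 IH) (Lpe (f15298 IH) (Lpr_dt (f15299 IH) (Lpn (LP (LK LD1_c7 LD2_c43 LD3_c36)))))))))))))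
theorem f91728 : Led Lsl_ft (LP (LK LD1_c7 LD2_c2 LD3_c5)) = (LP (LK LD1_c3 LD2_c30 LD3_c10)) :=
  Lre_f IH (LK LD1_c7 LD2_c2 LD3_c5) (LK LD1_c3 LD2_c30 LD3_c10) Lrfl Lrfl
theorem f91729 : Led Lsl_at (LP (LK LD1_c3 LD2_c30 LD3_c10)) = (LP (LK LD1_c7 LD2_c1 LD3_c55)) :=
  Lre_a IH (LK LD1_c3 LD2_c30 LD3_c10) (LK LD1_c7 LD2_c1 LD3_c55) Lrfl Lrfl
theorem f91730 : Led Lsl_gf (LP (LK LD1_c7 LD2_c1 LD3_c55)) = (LP (LK LD1_c7 LD2_c43 LD3_c36)) :=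
  Lgr Lrot76 (Lpe (f91729 IH) (Lpe (f91728 IH) (Lpr_gt (f90932 IH) (Lpn (LP (LK LD1_c7 LD2_c43 LD3_c36))))))
theorem f18235 : Led Lsl_dt (LP (LK LD1_c3 LD2_c30 LD3_c5)) = (LP (LK LD1_c7 LD2_c1 LD3_c55)) :=
  Lre_d IH (LK LD1_c3 LD2_c30 LD3_c5) (LK LD1_c7 LD2_c1 LD3_c55) Lrfl Lrfl
theorem f18234 : Led Lsl_et (LP (LK LD1_c3 LD2_c30 LD3_c5)) = (LP (LK LD1_c1 LD2_c41 LD3_c44)) :=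
  Lre_e IH (LK LD1_c3 LD2_c30 LD3_c5) (LK LD1_c1 LD2_c41 LD3_c44) Lrfl Lrfl
theorem f65859 : Led Lsl_dt (LP (LK LD1_c0 LD2_c51 LD3_c37)) = (LP (LK LD1_c1 LD2_c49 LD3_c34)) :=
  Lre_d IH (LK LD1_c0 LD2_c51 LD3_c37) (LK LD1_c1 LD2_c49 LD3_c34) Lrfl Lrfl
theorem f91751 : Led Lsl_gt (LP (LK LD1_c0 LD2_c52 LD3_c56)) = (LP (LK LD1_c1 LD2_c52 LD3_c24)) :=
  Lre_g IH (LK LD1_c0 LD2_c52 LD3_c56) (LK LD1_c1 LD2_c52 LD3_c24) Lrfl Lrfl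
theorem f17109 : Led Lsl_et (LP (LK LD1_c0 LD2_c23 LD3_c51)) = (LP (LK LD1_c0 LD2_c52 LD3_c56)) :=
  Lre_e IH (LK LD1_c0 LD2_c23 LD3_c51) (LK LD1_c0 LD2_c52 LD3_c56) Lrfl Lrfl
theorem f11834 : Led Lsl_dt (LP (LK LD1_c0 LD2_c23 LD3_c51)) = (LP (LK LD1_c0 LD2_c52 LD3_c55)) :=
  Lre_d IH (LK LD1_c0 LD2_c23 LD3_c51) (LK LD1_c0 LD2_c52 LD3_c55) Lrfl Lrfl
theorem f91752 : Led Lsl_gt (LP (LK LD1_c1 LD2_c49 LD3_c34)) = (LP (LK LD1_c0 LD2_c52 LD3_c55)) :=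
  Lgr Lrot139 (Lpe (f65859 IH) (Lpr_gf (f65855 IH) (Lpe (f18234 IH) (Lpr_dt (f18235 IH) (Lpr_gf (f91730 IH) (Lpe (f15299 IH) (Lpr_et (f15298 IH) (Lpe (f91751 IH) (Lpe (f17109 IH) (Lpr_dt (f11834 IH) (Lpn (LP (LK LD1_c0 LD2_c52 LD3_c55)))))))))))))
theorem f91754 : Led Lsl_gf (LP (LK LD1_c1 LD2_c49 LD3_c34)) = (LP (LK LD1_c1 LD2_c39 LD3_c48)) :=
  Lgr Lrot47 (Lpr_gt (f91752 IH) (Lpe (K0.f14543 IH) (Lpr_ff (K0.f15042 IH) (Lpn (LP (LK LD1_c1 LD2_c39 LD3_c48))))))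
theorem f95436 : Led Lsl_at (LP (LK LD1_c1 LD2_c40 LD3_c14)) = (LP (LK LD1_c1 LD2_c49 LD3_c34)) :=
  Lgr Lrot26 (Lpr_ff (f95425 IH) (Lpr_gt (f17137 IH) (Lpe (f91754 IH) (Lpn (LP (LK LD1_c1 LD2_c49 LD3_c34))))))
theorem f65860 : Led Lsl_ct (LP (LK LD1_c1 LD2_c49 LD3_c34)) = (LP (LK LD1_c3 LD2_c44 LD3_c58)) :=
  Lre_c IH (LK LD1_c1 LD2_c49 LD3_c34) (LK LD1_c3 LD2_c44 LD3_c58) Lrfl Lrfl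
theorem f95438 : Led Lsl_af (LP (LK LD1_c3 LD2_c22 LD3_c60)) = (LP (LK LD1_c3 LD2_c44 LD3_c58)) :=
  Lgr Lrot68 (Lpe (f94702 IH) (Lpr_at (f95436 IH) (Lpr_ct (f65860 IH) (Lpn (LP (LK LD1_c3 LD2_c44 LD3_c58))))))
theorem f65862 : Led Lsl_ct (LP (LK LD1_c0 LD2_c51 LD3_c37)) = (LP (LK LD1_c0 LD2_c23 LD3_c20)) :=
  Lre_c IH (LK LD1_c0 LD2_c51 LD3_c37) (LK LD1_c0 LD2_c23 LD3_c20) Lrfl Lrfl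
theorem f65864 : Led Lsl_dt (LP (LK LD1_c1 LD2_c49 LD3_c34)) = (LP (LK LD1_c0 LD2_c51 LD3_c37)) :=
  Lre_d IH (LK LD1_c1 LD2_c49 LD3_c34) (LK LD1_c0 LD2_c51 LD3_c37) Lrfl Lrfl
theorem f65861 : Led Lsl_ct (LP (LK LD1_c3 LD2_c44 LD3_c58)) = (LP (LK LD1_c1 LD2_c49 LD3_c34)) :=
  Lre_c IH (LK LD1_c3 LD2_c44 LD3_c58) (LK LD1_c1 LD2_c49 LD3_c34) Lrfl Lrfl
theorem f23357 : Led Lsl_dt (LP (LK LD1_c0 LD2_c23 LD3_c33)) = (LP (LK LD1_c0 LD2_c52 LD3_c0)) :=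
  Lre_d IH (LK LD1_c0 LD2_c23 LD3_c33) (LK LD1_c0 LD2_c52 LD3_c0) Lrfl Lrfl
theorem f95289 : Led Lsl_df (LP (LK LD1_c3 LD2_c44 LD3_c58)) = (LP (LK LD1_c1 LD2_c50 LD3_c20)) :=
  Lgr Lrot106 (Lpr_ct (f65861 IH) (Lpr_dt (f65864 IH) (Lpr_ct (f65862 IH) (Lpr_dt (f65863 IH) (Lpr_ct (K0.f5720 IH) (Lpe (f94660 IH) (Lpr_ff (f95255 IH) (Lpr_dt (f23357 IH) (Lpr_ct (f23365 IH) (Lpn (LP (LK LD1_c1 LD2_c50 LD3_c20))))))))))))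
theorem f95533 : Led Lsl_at (LP (LK LD1_c1 LD2_c37 LD3_c54)) = (LP (LK LD1_c1 LD2_c50 LD3_c20)) :=
  Lgr Lrot51 (Lpe (f91983 IH) (Lpr_af (f95438 IH) (Lpr_df (f95289 IH) (Lpn (LP (LK LD1_c1 LD2_c50 LD3_c20))))))
theorem f23364 : Led Lsl_ct (LP (LK LD1_c1 LD2_c50 LD3_c20)) = (LP (LK LD1_c0 LD2_c52 LD3_c0)) :=
  Lre_c IH (LK LD1_c1 LD2_c50 LD3_c20) (LK LD1_c0 LD2_c52 LD3_c0) Lrfl Lrfl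
theorem f95538 : Led Lsl_af (LP (LK LD1_c0 LD2_c45 LD3_c24)) = (LP (LK LD1_c0 LD2_c52 LD3_c0)) :=
  Lgr Lrot68 (Lpr_ct (f13520 IH) (Lpr_at (f95533 IH) (Lpr_ct (f23364 IH) (Lpn (LP (LK LD1_c0 LD2_c52 LD3_c0))))))
theorem f95541 : Led Lsl_bt (LP (LK LD1_c0 LD2_c45 LD3_c24)) = (LP (LK LD1_c1 LD2_c37 LD3_c52)) :=
  Lre_b IH (LK LD1_c0 LD2_c45 LD3_c24) (LK LD1_c1 LD2_c37 LD3_c52) Lrfl Lrfl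
theorem f66419 : Led Lsl_at (LP (LK LD1_c0 LD2_c51 LD3_c49)) = (LP (LK LD1_c0 LD2_c23 LD3_c34)) :=
  Lre_a IH (LK LD1_c0 LD2_c51 LD3_c49) (LK LD1_c0 LD2_c23 LD3_c34) Lrfl Lrfl
theorem f95542 : Led Lsl_bt (LP (LK LD1_c1 LD2_c49 LD3_c47)) = (LP (LK LD1_c0 LD2_c51 LD3_c49)) :=
  Lre_b IH (LK LD1_c1 LD2_c49 LD3_c47) (LK LD1_c0 LD2_c51 LD3_c49) Lrfl Lrfl
theorem f95543 : Led Lsl_at (LP (LK LD1_c1 LD2_c37 LD3_c52)) = (LP (LK LD1_c1 LD2_c49 LD3_c47)) :=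
  Lgr Lrot67 (Lpe (f95541 IH) (Lpr_af (f95538 IH) (Lpe (f65645 IH) (Lpe (f66419 IH) (Lpe (f95542 IH) (Lpn (LP (LK LD1_c1 LD2_c49 LD3_c47))))))))
theorem f91969 : Led Lsl_dt (LP (LK LD1_c0 LD2_c45 LD3_c23)) = (LP (LK LD1_c1 LD2_c37 LD3_c52)) :=
  Lre_d IH (LK LD1_c0 LD2_c45 LD3_c23) (LK LD1_c1 LD2_c37 LD3_c52) Lrfl Lrfl
theorem f95548 : Led Lsl_dt (LP (LK LD1_c1 LD2_c49 LD3_c47)) = (LP (LK LD1_c0 LD2_c51 LD3_c44)) :=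
  Lre_d IH (LK LD1_c1 LD2_c49 LD3_c47) (LK LD1_c0 LD2_c51 LD3_c44) Lrfl Lrfl
theorem f95549 : Led Lsl_af (LP (LK LD1_c0 LD2_c45 LD3_c23)) = (LP (LK LD1_c0 LD2_c51 LD3_c44)) :=
  Lgr Lrot117 (Lpr_dt (f91969 IH) (Lpr_at (f95543 IH) (Lpr_dt (f95548 IH) (Lpn (LP (LK LD1_c0 LD2_c51 LD3_c44))))))
theorem f95554 : Led Lsl_et (LP (LK LD1_c0 LD2_c45 LD3_c23)) = (LP (LK LD1_c1 LD2_c37 LD3_c53)) :=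
  Lre_e IH (LK LD1_c0 LD2_c45 LD3_c23) (LK LD1_c1 LD2_c37 LD3_c53) Lrfl Lrfl
theorem f95555 : Led Lsl_at (LP (LK LD1_c1 LD2_c37 LD3_c53)) = (LP (LK LD1_c1 LD2_c49 LD3_c48)) :=
  Lgr Lrot80 (Lpe (f95554 IH) (Lpr_af (f95549 IH) (Lpe (f85063 IH) (Lpn (LP (LK LD1_c1 LD2_c49 LD3_c48))))))
theorem f95561 : Led Lsl_af (LP (LK LD1_c1 LD2_c37 LD3_c53)) = (LP (LK LD1_c1 LD2_c49 LD3_c48)) :=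
  Lgr Lrot0 (Lpr_at (f95555 IH) (Lpn (LP (LK LD1_c1 LD2_c49 LD3_c48))))
theorem f95566 : Led Lsl_ff (LP (LK LD1_c1 LD2_c37 LD3_c53)) = (LP (LK LD1_c1 LD2_c37 LD3_c53)) :=
  Lgr Lrot30 (Lpr_at (f95555 IH) (Lpr_ft (f85051 IH) (Lpe (f95561 IH) (Lpn (LP (LK LD1_c1 LD2_c37 LD3_c53))))))
theorem f95560 : Led Lsl_et (LP (LK LD1_c1 LD2_c37 LD3_c53)) = (LP (LK LD1_c0 LD2_c45 LD3_c23)) :=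
  Lre_e IH (LK LD1_c1 LD2_c37 LD3_c53) (LK LD1_c0 LD2_c45 LD3_c23) Lrfl Lrfl
theorem f13523 : Led Lsl_bt (LP (LK LD1_c0 LD2_c45 LD3_c23)) = (LP (LK LD1_c0 LD2_c20 LD3_c15)) :=
  Lre_b IH (LK LD1_c0 LD2_c45 LD3_c23) (LK LD1_c0 LD2_c20 LD3_c15) Lrfl Lrfl
theorem f95312 : Led Lsl_ff (LP (LK LD1_c0 LD2_c45 LD3_c23)) = (LP (LK LD1_c0 LD2_c51 LD3_c34)) :=
  Lgr Lrot25 (Lpr_bt (f13523 IH) (Lpr_ft (f95310 IH) (Lpr_bt (f23709 IH) (Lpn (LP (LK LD1_c0 LD2_c51 LD3_c34))))))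
theorem f95571 : Led Lsl_ft (LP (LK LD1_c0 LD2_c45 LD3_c23)) = (LP (LK LD1_c0 LD2_c51 LD3_c34)) :=
  Lgr Lrot86 (Lpe (f95560 IH) (Lpr_ff (f95566 IH) (Lpe (f95554 IH) (Lpr_ff (f95312 IH) (Lpe (f85067 IH) (Lpn (LP (LK LD1_c0 LD2_c51 LD3_c34))))))))
theorem f91963 : Led Lsl_ct (LP (LK LD1_c1 LD2_c37 LD3_c52)) = (LP (LK LD1_c3 LD2_c22 LD3_c58)) :=
  Lre_c IH (LK LD1_c1 LD2_c37 LD3_c52) (LK LD1_c3 LD2_c22 LD3_c58) Lrfl Lrfl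
theorem f91968 : Led Lsl_dt (LP (LK LD1_c3 LD2_c22 LD3_c58)) = (LP (LK LD1_c6 LD2_c49 LD3_c26)) :=
  Lre_d IH (LK LD1_c3 LD2_c22 LD3_c58) (LK LD1_c6 LD2_c49 LD3_c26) Lrfl Lrfl
theorem f95573 : Led Lsl_af (LP (LK LD1_c0 LD2_c23 LD3_c24)) = (LP (LK LD1_c0 LD2_c51 LD3_c34)) :=
  Lgr Lrot45 (Lpr_ft (f85062 IH) (Lpe (f95549 IH) (Lpr_ft (f95571 IH) (Lpn (LP (LK LD1_c0 LD2_c51 LD3_c34))))))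
theorem f66444 : Led Lsl_dt (LP (LK LD1_c1 LD2_c49 LD3_c29)) = (LP (LK LD1_c0 LD2_c51 LD3_c34)) :=
  Lre_d IH (LK LD1_c1 LD2_c49 LD3_c29) (LK LD1_c0 LD2_c51 LD3_c34) Lrfl Lrfl
theorem f90607 : Led Lsl_bt (LP (LK LD1_c1 LD2_c49 LD3_c29)) = (LP (LK LD1_c0 LD2_c51 LD3_c35)) :=
  Lre_b IH (LK LD1_c1 LD2_c49 LD3_c29) (LK LD1_c0 LD2_c51 LD3_c35) Lrfl Lrfl
theorem f24028 : Led Lsl_bt (LP (LK LD1_c0 LD2_c8 LD3_c46)) = (LP (LK LD1_c0 LD2_c19 LD3_c27)) :=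
  Lre_b IH (LK LD1_c0 LD2_c8 LD3_c46) (LK LD1_c0 LD2_c19 LD3_c27) Lrfl Lrfl
theorem f24032 : Led Lsl_gt (LP (LK LD1_c0 LD2_c19 LD3_c27)) = (LP (LK LD1_c0 LD2_c43 LD3_c36)) :=
  Lre_g IH (LK LD1_c0 LD2_c19 LD3_c27) (LK LD1_c0 LD2_c43 LD3_c36) Lrfl Lrfl
theorem f24033 : Led Lsl_ct (LP (LK LD1_c0 LD2_c43 LD3_c36)) = (LP (LK LD1_c1 LD2_c33 LD3_c59)) :=
  Lre_c IH (LK LD1_c0 LD2_c43 LD3_c36) (LK LD1_c1 LD2_c33 LD3_c59) Lrfl Lrfl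
theorem f24034 : Led Lsl_gt (LP (LK LD1_c1 LD2_c33 LD3_c59)) = (LP (LK LD1_c3 LD2_c14 LD3_c51)) :=
  Lre_g IH (LK LD1_c1 LD2_c33 LD3_c59) (LK LD1_c3 LD2_c14 LD3_c51) Lrfl Lrfl
theorem f93178 : Led Lsl_ct (LP (LK LD1_c1 LD2_c49 LD3_c29)) = (LP (LK LD1_c3 LD2_c14 LD3_c51)) :=
  Lgr Lrot63 (Lpr_bt (f90607 IH) (Lpr_gt (f90598 IH) (Lpe (f66944 IH) (Lpr_ct (f68322 IH) (Lpr_gt (f8312 IH) (Lpr_cf (K0.f23919 IH) (Lpr_bt (f24028 IH) (Lpr_gt (f24032 IH) (Lpr_ct (f24033 IH) (Lpr_gt (f24034 IH) (Lpn (LP (LK LD1_c3 LD2_c14 LD3_c51)))))))))))))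
theorem f93186 : Led Lsl_cf (LP (LK LD1_c1 LD2_c49 LD3_c29)) = (LP (LK LD1_c3 LD2_c14 LD3_c51)) :=
  Lgr Lrot11 (Lpr_ct (f93178 IH) (Lpn (LP (LK LD1_c3 LD2_c14 LD3_c51))))
theorem f5899 : Led Lsl_bt (LP (LK LD1_c0 LD2_c4 LD3_c42)) = (LP (LK LD1_c0 LD2_c9 LD3_c59)) :=
  Lre_b IH (LK LD1_c0 LD2_c4 LD3_c42) (LK LD1_c0 LD2_c9 LD3_c59) Lrfl Lrfl
theorem f5729 : Led Lsl_bt (LP (LK LD1_c0 LD2_c51 LD3_c37)) = (LP (LK LD1_c1 LD2_c49 LD3_c33)) :=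
  Lre_b IH (LK LD1_c0 LD2_c51 LD3_c37) (LK LD1_c1 LD2_c49 LD3_c33) Lrfl Lrfl
theorem f5730 : Led Lsl_gt (LP (LK LD1_c1 LD2_c49 LD3_c33)) = (LP (LK LD1_c3 LD2_c44 LD3_c54)) :=
  Lre_g IH (LK LD1_c1 LD2_c49 LD3_c33) (LK LD1_c3 LD2_c44 LD3_c54) Lrfl Lrfl
theorem f93195 : Led Lsl_dt (LP (LK LD1_c3 LD2_c44 LD3_c54)) = (LP (LK LD1_c3 LD2_c14 LD3_c51)) :=
  Lgr Lrot182 (Lpe (f5730 IH) (Lpe (f5729 IH) (Lpe (f5728 IH) (Lpe (f5727 IH) (Lpe (K0.f5716 IH) (Lpr_bf (K0.f5718 IH) (Lpe (f5710 IH) (Lpr_df (f92512 IH) (Lpe (f5900 IH) (Lpe (f5899 IH) (Lpr_cf (K0.f5892 IH) (Lpe (K0.f5878 IH) (Lpe (K0.f11028 IH) (Lpe (f11032 IH) (Lpe (f66821 IH) (Lpe (f66803 IH) (Lpe (f90598 IH) (Lpe (f90607 IH) (Lpr_cf (f93186 IH) (Lpn (LP (LK LD1_c3 LD2_c14 LD3_c51))))))))))))))))))))))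
theorem f95581 : Led Lsl_ct (LP (LK LD1_c6 LD2_c49 LD3_c26)) = (LP (LK LD1_c3 LD2_c44 LD3_c54)) :=
  Lgr Lrot41 (Lpe (f91968 IH) (Lpe (f91963 IH) (Lpe (f91969 IH) (Lpr_ft (f95571 IH) (Lpe (f95573 IH) (Lpe (f24341 IH) (Lpe (f66444 IH) (Lpr_cf (f93186 IH) (Lpe (f93195 IH) (Lpn (LP (LK LD1_c3 LD2_c44 LD3_c54))))))))))))
theorem f95575 : Led Lsl_cf (LP (LK LD1_c0 LD2_c45 LD3_c23)) = (LP (LK LD1_c0 LD2_c51 LD3_c44)) :=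
  Lgr Lrot108 (Lpr_ft (f95571 IH) (Lpr_ct (f24341 IH) (Lpr_ft (f85062 IH) (Lpn (LP (LK LD1_c0 LD2_c51 LD3_c44))))))
theorem f95551 : Led Lsl_ft (LP (LK LD1_c1 LD2_c49 LD3_c47)) = (LP (LK LD1_c0 LD2_c51 LD3_c43)) :=
  Lre_f IH (LK LD1_c1 LD2_c49 LD3_c47) (LK LD1_c0 LD2_c51 LD3_c43) Lrfl Lrfl
theorem f95589 : Led Lsl_at (LP (LK LD1_c0 LD2_c51 LD3_c43)) = (LP (LK LD1_c1 LD2_c49 LD3_c29)) :=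
  Lgr Lrot33 (Lpe (f95551 IH) (Lpr_dt (f95548 IH) (Lpe (f95575 IH) (Lpr_dt (f91969 IH) (Lpr_ct (f91963 IH) (Lpr_dt (f91968 IH) (Lpr_ct (f95581 IH) (Lpr_dt (f93195 IH) (Lpe (f93186 IH) (Lpn (LP (LK LD1_c1 LD2_c49 LD3_c29))))))))))))
theorem f62891 : Led Lsl_ct (LP (LK LD1_c1 LD2_c49 LD3_c45)) = (LP (LK LD1_c0 LD2_c51 LD3_c43)) :=
  Lre_c IH (LK LD1_c1 LD2_c49 LD3_c45) (LK LD1_c0 LD2_c51 LD3_c43) Lrfl Lrfl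
theorem f95595 : Led Lsl_af (LP (LK LD1_c1 LD2_c49 LD3_c45)) = (LP (LK LD1_c3 LD2_c14 LD3_c51)) :=
  Lgr Lrot68 (Lpr_ct (f62891 IH) (Lpr_at (f95589 IH) (Lpr_ct (f93178 IH) (Lpn (LP (LK LD1_c3 LD2_c14 LD3_c51))))))
theorem f62890 : Led Lsl_ct (LP (LK LD1_c0 LD2_c51 LD3_c43)) = (LP (LK LD1_c1 LD2_c49 LD3_c45)) :=
  Lre_c IH (LK LD1_c0 LD2_c51 LD3_c43) (LK LD1_c1 LD2_c49 LD3_c45) Lrfl Lrfl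
theorem f24340 : Led Lsl_dt (LP (LK LD1_c0 LD2_c23 LD3_c24)) = (LP (LK LD1_c0 LD2_c51 LD3_c43)) :=
  Lre_d IH (LK LD1_c0 LD2_c23 LD3_c24) (LK LD1_c0 LD2_c51 LD3_c43) Lrfl Lrfl
theorem f95609 : Led Lsl_ft (LP (LK LD1_c3 LD2_c22 LD3_c58)) = (LP (LK LD1_c3 LD2_c14 LD3_c51)) :=
  Lgr Lrot142 (Lpr_dt (f91968 IH) (Lpr_ct (f95581 IH) (Lpr_dt (f93195 IH) (Lpe (f93186 IH) (Lpr_dt (f66444 IH) (Lpr_ct (f24341 IH) (Lpr_dt (f24340 IH) (Lpr_ct (f62890 IH) (Lpr_af (f95595 IH) (Lpn (LP (LK LD1_c3 LD2_c14 LD3_c51))))))))))))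
theorem f95615 : Led Lsl_ff (LP (LK LD1_c3 LD2_c22 LD3_c58)) = (LP (LK LD1_c3 LD2_c14 LD3_c51)) :=
  Lgr Lrot3 (Lpr_ft (f95609 IH) (Lpn (LP (LK LD1_c3 LD2_c14 LD3_c51))))
theorem f95559 : Led Lsl_bt (LP (LK LD1_c3 LD2_c22 LD3_c58)) = (LP (LK LD1_c6 LD2_c49 LD3_c25)) :=
  Lre_b IH (LK LD1_c3 LD2_c22 LD3_c58) (LK LD1_c6 LD2_c49 LD3_c25) Lrfl Lrfl
theorem f93189 : Led Lsl_bt (LP (LK LD1_c6 LD2_c33 LD3_c11)) = (LP (LK LD1_c3 LD2_c14 LD3_c51)) :=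
  Lre_b IH (LK LD1_c6 LD2_c33 LD3_c11) (LK LD1_c3 LD2_c14 LD3_c51) Lrfl Lrfl
theorem f95617 : Led Lsl_ft (LP (LK LD1_c6 LD2_c49 LD3_c25)) = (LP (LK LD1_c6 LD2_c33 LD3_c11)) :=
  Lgr Lrot75 (Lpe (f95559 IH) (Lpr_ff (f95615 IH) (Lpe (f93189 IH) (Lpn (LP (LK LD1_c6 LD2_c33 LD3_c11))))))
theorem f95635 : Led Lsl_ct (LP (LK LD1_c3 LD2_c22 LD3_c59)) = (LP (LK LD1_c6 LD2_c49 LD3_c25)) :=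
  Lre_c IH (LK LD1_c3 LD2_c22 LD3_c59) (LK LD1_c6 LD2_c49 LD3_c25) Lrfl Lrfl
theorem f93181 : Led Lsl_bt (LP (LK LD1_c0 LD2_c51 LD3_c35)) = (LP (LK LD1_c1 LD2_c49 LD3_c29)) :=
  Lre_b IH (LK LD1_c0 LD2_c51 LD3_c35) (LK LD1_c1 LD2_c49 LD3_c29) Lrfl Lrfl
theorem f93182 : Led Lsl_bt (LP (LK LD1_c3 LD2_c44 LD3_c49)) = (LP (LK LD1_c1 LD2_c49 LD3_c30)) :=
  Lre_b IH (LK LD1_c3 LD2_c44 LD3_c49) (LK LD1_c1 LD2_c49 LD3_c30) Lrfl Lrfl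
theorem f93183 : Led Lsl_bt (LP (LK LD1_c3 LD2_c14 LD3_c51)) = (LP (LK LD1_c6 LD2_c33 LD3_c11)) :=
  Lre_b IH (LK LD1_c3 LD2_c14 LD3_c51) (LK LD1_c6 LD2_c33 LD3_c11) Lrfl Lrfl
theorem f93184 : Led Lsl_cf (LP (LK LD1_c3 LD2_c44 LD3_c49)) = (LP (LK LD1_c6 LD2_c33 LD3_c11)) :=
  Lgr Lrot97 (Lpr_bt (f93182 IH) (Lpr_ct (f23706 IH) (Lpr_bt (f93181 IH) (Lpr_ct (f93178 IH) (Lpr_bt (f93183 IH) (Lpn (LP (LK LD1_c6 LD2_c33 LD3_c11))))))))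
theorem f95636 : Led Lsl_ff (LP (LK LD1_c3 LD2_c22 LD3_c59)) = (LP (LK LD1_c3 LD2_c44 LD3_c49)) :=
  Lgr Lrot23 (Lpr_ct (f95635 IH) (Lpr_ft (f95617 IH) (Lpe (f93184 IH) (Lpn (LP (LK LD1_c3 LD2_c44 LD3_c49))))))
theorem f95641 : Led Lsl_ft (LP (LK LD1_c3 LD2_c22 LD3_c59)) = (LP (LK LD1_c3 LD2_c44 LD3_c49)) :=
  Lgr Lrot48 (Lpr_ff (f95636 IH) (Lpn (LP (LK LD1_c3 LD2_c44 LD3_c49))))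
theorem f13521 : Led Lsl_bt (LP (LK LD1_c1 LD2_c37 LD3_c54)) = (LP (LK LD1_c3 LD2_c22 LD3_c59)) :=
  Lre_b IH (LK LD1_c1 LD2_c37 LD3_c54) (LK LD1_c3 LD2_c22 LD3_c59) Lrfl Lrfl
theorem f95643 : Led Lsl_ff (LP (LK LD1_c1 LD2_c37 LD3_c54)) = (LP (LK LD1_c1 LD2_c49 LD3_c30)) :=
  Lgr Lrot25 (Lpr_bt (f13521 IH) (Lpr_ft (f95641 IH) (Lpr_bt (f93182 IH) (Lpn (LP (LK LD1_c1 LD2_c49 LD3_c30))))))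
theorem f91952 : Led Lsl_ct (LP (LK LD1_c1 LD2_c37 LD3_c54)) = (LP (LK LD1_c0 LD2_c45 LD3_c24)) :=
  Lre_c IH (LK LD1_c1 LD2_c37 LD3_c54) (LK LD1_c0 LD2_c45 LD3_c24) Lrfl Lrfl
theorem f95648 : Led Lsl_ft (LP (LK LD1_c0 LD2_c45 LD3_c24)) = (LP (LK LD1_c0 LD2_c51 LD3_c35)) :=
  Lgr Lrot4 (Lpe (f91952 IH) (Lpr_ff (f95643 IH) (Lpe (f90602 IH) (Lpn (LP (LK LD1_c0 LD2_c51 LD3_c35))))))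
theorem f95285 : Led Lsl_ft (LP (LK LD1_c0 LD2_c45 LD3_c22)) = (LP (LK LD1_c0 LD2_c52 LD3_c0)) :=
  Lgr Lrot54 (Lpe (f20028 IH) (Lpr_ff (f95255 IH) (Lpe (f23356 IH) (Lpn (LP (LK LD1_c0 LD2_c52 LD3_c0))))))
theorem f95652 : Led Lsl_af (LP (LK LD1_c0 LD2_c45 LD3_c22)) = (LP (LK LD1_c0 LD2_c51 LD3_c35)) :=
  Lgr Lrot45 (Lpr_ft (f95285 IH) (Lpe (f95538 IH) (Lpr_ft (f95648 IH) (Lpn (LP (LK LD1_c0 LD2_c51 LD3_c35))))))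
theorem f94677 : Led Lsl_et (LP (LK LD1_c0 LD2_c45 LD3_c22)) = (LP (LK LD1_c1 LD2_c37 LD3_c51)) :=
  Lre_e IH (LK LD1_c0 LD2_c45 LD3_c22) (LK LD1_c1 LD2_c37 LD3_c51) Lrfl Lrfl
theorem f85166 : Led Lsl_et (LP (LK LD1_c1 LD2_c49 LD3_c31)) = (LP (LK LD1_c0 LD2_c51 LD3_c35)) :=
  Lre_e IH (LK LD1_c1 LD2_c49 LD3_c31) (LK LD1_c0 LD2_c51 LD3_c35) Lrfl Lrfl
theorem f95660 : Led Lsl_at (LP (LK LD1_c1 LD2_c37 LD3_c51)) = (LP (LK LD1_c1 LD2_c49 LD3_c31)) :=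
  Lgr Lrot80 (Lpe (f94677 IH) (Lpr_af (f95652 IH) (Lpe (f85166 IH) (Lpn (LP (LK LD1_c1 LD2_c49 LD3_c31))))))
theorem f85156 : Led Lsl_bt (LP (LK LD1_c1 LD2_c49 LD3_c31)) = (LP (LK LD1_c3 LD2_c44 LD3_c48)) :=
  Lre_b IH (LK LD1_c1 LD2_c49 LD3_c31) (LK LD1_c3 LD2_c44 LD3_c48) Lrfl Lrfl
theorem f62895 : Led Lsl_et (LP (LK LD1_c1 LD2_c49 LD3_c46)) = (LP (LK LD1_c0 LD2_c51 LD3_c43)) :=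
  Lre_e IH (LK LD1_c1 LD2_c49 LD3_c46) (LK LD1_c0 LD2_c51 LD3_c43) Lrfl Lrfl
theorem f85152 : Led Lsl_et (LP (LK LD1_c1 LD2_c49 LD3_c29)) = (LP (LK LD1_c3 LD2_c44 LD3_c48)) :=
  Lre_e IH (LK LD1_c1 LD2_c49 LD3_c29) (LK LD1_c3 LD2_c44 LD3_c48) Lrfl Lrfl
theorem f95597 : Led Lsl_af (LP (LK LD1_c1 LD2_c49 LD3_c46)) = (LP (LK LD1_c3 LD2_c44 LD3_c48)) :=
  Lgr Lrot50 (Lpr_et (f62895 IH) (Lpr_at (f95589 IH) (Lpr_et (f85152 IH) (Lpn (LP (LK LD1_c3 LD2_c44 LD3_c48))))))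
theorem f85073 : Led Lsl_bt (LP (LK LD1_c1 LD2_c49 LD3_c46)) = (LP (LK LD1_c0 LD2_c51 LD3_c48)) :=
  Lre_b IH (LK LD1_c1 LD2_c49 LD3_c46) (LK LD1_c0 LD2_c51 LD3_c48) Lrfl Lrfl
theorem f85109 : Led Lsl_at (LP (LK LD1_c0 LD2_c51 LD3_c48)) = (LP (LK LD1_c1 LD2_c49 LD3_c26)) :=
  Lre_a IH (LK LD1_c0 LD2_c51 LD3_c48) (LK LD1_c1 LD2_c49 LD3_c26) Lrfl Lrfl
theorem f95664 : Led Lsl_bf (LP (LK LD1_c1 LD2_c37 LD3_c51)) = (LP (LK LD1_c1 LD2_c49 LD3_c26)) :=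
  Lgr Lrot81 (Lpr_at (f95660 IH) (Lpr_bt (f85156 IH) (Lpe (f95597 IH) (Lpr_bt (f85073 IH) (Lpr_at (f85109 IH) (Lpn (LP (LK LD1_c1 LD2_c49 LD3_c26))))))))
theorem f95708 : Led Lsl_bt (LP (LK LD1_c1 LD2_c37 LD3_c51)) = (LP (LK LD1_c1 LD2_c49 LD3_c26)) :=
  Lgr Lrot127 (Lpr_bf (f95664 IH) (Lpn (LP (LK LD1_c1 LD2_c49 LD3_c26))))
theorem f85139 : Led Lsl_et (LP (LK LD1_c1 LD2_c49 LD3_c26)) = (LP (LK LD1_c0 LD2_c51 LD3_c31)) :=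
  Lre_e IH (LK LD1_c1 LD2_c49 LD3_c26) (LK LD1_c0 LD2_c51 LD3_c31) Lrfl Lrfl
theorem f95711 : Led Lsl_bf (LP (LK LD1_c0 LD2_c45 LD3_c22)) = (LP (LK LD1_c0 LD2_c51 LD3_c31)) :=
  Lgr Lrot96 (Lpr_et (f94677 IH) (Lpr_bt (f95708 IH) (Lpr_et (f85139 IH) (Lpn (LP (LK LD1_c0 LD2_c51 LD3_c31))))))
theorem f22843 : Led Lsl_bt (LP (LK LD1_c0 LD2_c13 LD3_c18)) = (LP (LK LD1_c0 LD2_c30 LD3_c0)) :=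
  Lre_b IH (LK LD1_c0 LD2_c13 LD3_c18) (LK LD1_c0 LD2_c30 LD3_c0) Lrfl Lrfl
theorem f23924 : Led Lsl_gt (LP (LK LD1_c0 LD2_c30 LD3_c0)) = (LP (LK LD1_c1 LD2_c5 LD3_c36)) :=
  Lre_g IH (LK LD1_c0 LD2_c30 LD3_c0) (LK LD1_c1 LD2_c5 LD3_c36) Lrfl Lrfl

end

end K2

end

end Cfsg.Agent.Helper28.S1692
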