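import Cfsg.Agent.Lib.Helper28.S1692.Seeds19

set_option autoImplicit false
set_option maxRecDepth 100000
set_option linter.all false

namespace Cfsg.Agent.Helper28.S1692

open Cfsg.Agent.Helper28
open Cfsg.Spor.ON (Gen)

noncomputable section

namespace K20
abbrev LD1_c0 := D1.c0
abbrev LD1_c1 := D1.c1
abbrev LD1_c2 := D1.c2
abbrev LD1_c3 := D1.c3
abbrev LD1_c4 := D1.c4
abbrev LD1_c5 := D1.c5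
abbrev LD1_c6 := D1.c6
abbrev LD1_c7 := D1.c7
abbrev LD1_c8 := D1.c8
abbrev LD1_c9 := D1.c9
abbrev LD1_c10 := D1.c10
abbrev LD1_c11 := D1.c11
abbrev LD1_c12 := D1.c12
abbrev LD1_c13 := D1.c13
abbrev LD1_c14 := D1.c14
abbrev LD1_c15 := D1.c15
abbrev LD1_c16 := D1.c16
abbrev LD1_c17 := D1.c17
abbrev LD1_c18 := D1.c18
abbrev LD1_c19 := D1.c19
abbrev LD1_c20 := D1.c20
abbrev LD1_c21 := D1.c21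
abbrev LD1_c22 := D1.c22
abbrev LD1_c23 := D1.c23
abbrev LD1_c24 := D1.c24
abbrev LD1_c25 := D1.c25
abbrev LD1_c26 := D1.c26
abbrev LD1_c27 := D1.c27
abbrev LD1_c28 := D1.c28
abbrev LD1_c29 := D1.c29
abbrev LD1_c30 := D1.c30
abbrev LD1_c31 := D1.c31
abbrev LD1_c32 := D1.c32
abbrev LD2_c0 := D2.c0
abbrev LD2_c1 := D2.c1
abbrev LD2_c2 := D2.c2
abbrev LD2_c3 := D2.c3
abbrev LD2_c4 := D2.c4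
abbrev LD2_c5 := D2.c5
abbrev LD2_c6 := D2.c6
abbrev LD2_c7 := D2.c7
abbrev LD2_c8 := D2.c8
abbrev LD2_c9 := D2.c9
abbrev LD2_c10 := D2.c10
abbrev LD2_c11 := D2.c11
abbrev LD2_c12 := D2.c12
abbrev LD2_c13 := D2.c13
abbrev LD2_c14 := D2.c14
abbrev LD2_c15 := D2.c15
abbrev LD2_c16 := D2.c16
abbrev LD2_c17 := D2.c17
abbrev LD2_c18 := D2.c18
abbrev LD2_c19 := D2.c19
abbrev LD2_c20 := D2.c20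
abbrev LD2_c21 := D2.c21
abbrev LD2_c22 := D2.c22
abbrev LD2_c23 := D2.c23
abbrev LD2_c24 := D2.c24
abbrev LD2_c25 := D2.c25
abbrev LD2_c26 := D2.c26
abbrev LD2_c27 := D2.c27
abbrev LD2_c28 := D2.c28
abbrev LD2_c29 := D2.c29
abbrev LD2_c30 := D2.c30
abbrev LD2_c31 := D2.c31
abbrev LD2_c32 := D2.c32
abbrev LD2_c33 := D2.c33
abbrev LD2_c34 := D2.c34
abbrev LD2_c35 := D2.c35
abbrev LD2_c36 := D2.c36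
abbrev LD2_c37 := D2.c37
abbrev LD2_c38 := D2.c38
abbrev LD2_c39 := D2.c39
abbrev LD2_c40 := D2.c40
abbrev LD2_c41 := D2.c41
abbrev LD2_c42 := D2.c42
abbrev LD2_c43 := D2.c43
abbrev LD2_c44 := D2.c44
abbrev LD2_c45 := D2.c45
abbrev LD2_c46 := D2.c46
abbrev LD2_c47 := D2.c47
abbrev LD2_c48 := D2.c48
abbrev LD2_c49 := D2.c49
abbrev LD2_c50 := D2.c50
abbrev LD2_c51 := D2.c51
abbrev LD2_c52 := D2.c52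
abbrev LD2_c53 := D2.c53
abbrev LD2_c54 := D2.c54
abbrev LD2_c55 := D2.c55
abbrev LD2_c56 := D2.c56
abbrev LD2_c57 := D2.c57
abbrev LD2_c58 := D2.c58
abbrev LD2_c59 := D2.c59
abbrev LD3_c0 := D3.c0
abbrev LD3_c1 := D3.c1
abbrev LD3_c2 := D3.c2
abbrev LD3_c3 := D3.c3
abbrev LD3_c4 := D3.c4
abbrev LD3_c5 := D3.c5
abbrev LD3_c6 := D3.c6
abbrev LD3_c7 := D3.c7
abbrev LD3_c8 := D3.c8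
abbrev LD3_c9 := D3.c9
abbrev LD3_c10 := D3.c10
abbrev LD3_c11 := D3.c11
abbrev LD3_c12 := D3.c12
abbrev LD3_c13 := D3.c13
abbrev LD3_c14 := D3.c14
abbrev LD3_c15 := D3.c15
abbrev LD3_c16 := D3.c16
abbrev LD3_c17 := D3.c17
abbrev LD3_c18 := D3.c18
abbrev LD3_c19 := D3.c19
abbrev LD3_c20 := D3.c20
abbrev LD3_c21 := D3.c21
abbrev LD3_c22 := D3.c22
abbrev LD3_c23 := D3.c23
abbrev LD3_c24 := D3.c24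
abbrev LD3_c25 := D3.c25
abbrev LD3_c26 := D3.c26
abbrev LD3_c27 := D3.c27
abbrev LD3_c28 := D3.c28
abbrev LD3_c29 := D3.c29
abbrev LD3_c30 := D3.c30
abbrev LD3_c31 := D3.c31
abbrev LD3_c32 := D3.c32
abbrev LD3_c33 := D3.c33
abbrev LD3_c34 := D3.c34
abbrev LD3_c35 := D3.c35
abbrev LD3_c36 := D3.c36
abbrev LD3_c37 := D3.c37
abbrev LD3_c38 := D3.c38
abbrev LD3_c39 := D3.c39
abbrev LD3_c40 := D3.c40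
abbrev LD3_c41 := D3.c41
abbrev LD3_c42 := D3.c42
abbrev LD3_c43 := D3.c43
abbrev LD3_c44 := D3.c44
abbrev LD3_c45 := D3.c45
abbrev LD3_c46 := D3.c46
abbrev LD3_c47 := D3.c47
abbrev LD3_c48 := D3.c48
abbrev LD3_c49 := D3.c49
abbrev LD3_c50 := D3.c50
abbrev LD3_c51 := D3.c51
abbrev LD3_c52 := D3.c52
abbrev LD3_c53 := D3.c53
abbrev LD3_c54 := D3.c54
abbrev LD3_c55 := D3.c55
abbrev LD3_c56 := D3.c56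
abbrev LD3_c57 := D3.c57
abbrev LD3_c58 := D3.c58
abbrev LD3_c59 := D3.c59
abbrev LD3_c60 := D3.c60
abbrev LD3_c61 := D3.c61
abbrev LG_g := Gen.g
abbrev Lsl_gt : Gen × Bool := sl_gt
alias Lfl_gt := fl_gt
alias Lpr_gt := pr_gt
abbrev Lsl_gf : Gen × Bool := sl_gf
alias Lfl_gf := fl_gf
alias Lpr_gf := pr_gf
alias Lre_g := re_g
alias Leoe_g := eoe_g
abbrev LG_a := Gen.a
abbrev Lsl_at : Gen × Bool := sl_at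
alias Lfl_at := fl_at
alias Lpr_at := pr_at
abbrev Lsl_af : Gen × Bool := sl_af
alias Lfl_af := fl_af
alias Lpr_af := pr_af
alias Lre_a := re_a
alias Leoe_a := eoe_a
abbrev LG_b := Gen.b
abbrev Lsl_bt : Gen × Bool := sl_bt
alias Lfl_bt := fl_bt
alias Lpr_bt := pr_bt
abbrev Lsl_bf : Gen × Bool := sl_bf
alias Lfl_bf := fl_bf
alias Lpr_bf := pr_bf
alias Lre_b := re_b
alias Leoe_b := eoe_b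
abbrev LG_c := Gen.c
abbrev Lsl_ct : Gen × Bool := sl_ct
alias Lfl_ct := fl_ct
alias Lpr_ct := pr_ct
abbrev Lsl_cf : Gen × Bool := sl_cf
alias Lfl_cf := fl_cf
alias Lpr_cf := pr_cf
alias Lre_c := re_c
alias Leoe_c := eoe_c
abbrev LG_d := Gen.d
abbrev Lsl_dt : Gen × Bool := sl_dt
alias Lfl_dt := fl_dt
alias Lpr_dt := pr_dt
abbrev Lsl_df : Gen × Bool := sl_df
alias Lfl_df := fl_df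
alias Lpr_df := pr_df
alias Lre_d := re_d
alias Leoe_d := eoe_d
abbrev LG_e := Gen.e
abbrev Lsl_et : Gen × Bool := sl_et
alias Lfl_et := fl_et
alias Lpr_et := pr_et
abbrev Lsl_ef : Gen × Bool := sl_ef
alias Lfl_ef := fl_ef
alias Lpr_ef := pr_ef
alias Lre_e := re_e
alias Leoe_e := eoe_e
abbrev LG_f := Gen.f
abbrev Lsl_ft : Gen × Bool := sl_ft
alias Lfl_ft := fl_ft
alias Lpr_ft := pr_ft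
abbrev Lsl_ff : Gen × Bool := sl_ff
alias Lfl_ff := fl_ff
alias Lpr_ff := pr_ff
alias Lre_f := re_f
alias Leoe_f := eoe_f
abbrev LK := Pt.mk
abbrev LQ : Type := Qt rels S
abbrev LP (p : Pt) : LQ := P p
abbrev Led (l : Gen × Bool) (c : LQ) : LQ := ed l c
abbrev LEOK (x : Gen) (p : Pt) : Prop := EntryOK rels S fwd inv o plet idx x p
alias Lpe := pe
alias Lpn := pn
alias Lgr := gr
alias Lpq := pq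
alias Lpqs := pqs
alias Llr := lr
alias Leop := eop
alias Lefun := efun
alias Lecon := econ
theorem Lrfl {α : Sort _} {a : α} : a = a := rfl
alias Lrot0 := rot0
alias Lrot1 := rot1
alias Lrot2 := rot2
alias Lrot3 := rot3
alias Lrot4 := rot4
alias Lrot5 := rot5
alias Lrot6 := rot6
alias Lrot7 := rot7
alias Lrot8 := rot8
alias Lrot9 := rot9
alias Lrot10 := rot10
alias Lrot11 := rot11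
alias Lrot12 := rot12
alias Lrot13 := rot13
alias Lrot14 := rot14
alias Lrot15 := rot15
alias Lrot17 := rot17
alias Lrot18 := rot18
alias Lrot19 := rot19
alias Lrot20 := rot20
alias Lrot21 := rot21
alias Lrot23 := rot23
alias Lrot24 := rot24
alias Lrot25 := rot25
alias Lrot26 := rot26
alias Lrot27 := rot27
alias Lrot28 := rot28
alias Lrot29 := rot29
alias Lrot30 := rot30
alias Lrot31 := rot31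
alias Lrot32 := rot32
alias Lrot33 := rot33
alias Lrot34 := rot34
alias Lrot35 := rot35
alias Lrot36 := rot36
alias Lrot37 := rot37
alias Lrot38 := rot38
alias Lrot39 := rot39
alias Lrot40 := rot40
alias Lrot42 := rot42
alias Lrot43 := rot43
alias Lrot44 := rot44
alias Lrot45 := rot45
alias Lrot46 := rot46
alias Lrot47 := rot47
alias Lrot48 := rot48
alias Lrot49 := rot49
alias Lrot50 := rot50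
alias Lrot51 := rot51
alias Lrot52 := rot52
alias Lrot53 := rot53
alias Lrot54 := rot54
alias Lrot55 := rot55
alias Lrot56 := rot56
alias Lrot57 := rot57
alias Lrot58 := rot58
alias Lrot59 := rot59
alias Lrot60 := rot60
alias Lrot61 := rot61
alias Lrot62 := rot62
alias Lrot63 := rot63
alias Lrot64 := rot64
alias Lrot65 := rot65
alias Lrot66 := rot66
alias Lrot67 := rot67
alias Lrot68 := rot68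
alias Lrot69 := rot69
alias Lrot70 := rot70
alias Lrot71 := rot71
alias Lrot72 := rot72
alias Lrot73 := rot73
alias Lrot74 := rot74
alias Lrot75 := rot75
alias Lrot76 := rot76
alias Lrot77 := rot77
alias Lrot78 := rot78
alias Lrot79 := rot79
alias Lrot80 := rot80
alias Lrot81 := rot81
alias Lrot82 := rot82
alias Lrot83 := rot83
alias Lrot84 := rot84
alias Lrot85 := rot85
alias Lrot86 := rot86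
alias Lrot87 := rot87
alias Lrot88 := rot88
alias Lrot89 := rot89
alias Lrot90 := rot90
alias Lrot91 := rot91
alias Lrot92 := rot92
alias Lrot93 := rot93
alias Lrot94 := rot94
alias Lrot95 := rot95
alias Lrot96 := rot96
alias Lrot97 := rot97
alias Lrot98 := rot98
alias Lrot99 := rot99
alias Lrot100 := rot100
alias Lrot101 := rot101
alias Lrot102 := rot102
alias Lrot103 := rot103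
alias Lrot104 := rot104
alias Lrot105 := rot105
alias Lrot106 := rot106
alias Lrot107 := rot107
alias Lrot108 := rot108
alias Lrot109 := rot109
alias Lrot110 := rot110
alias Lrot111 := rot111
alias Lrot112 := rot112
alias Lrot114 := rot114
alias Lrot115 := rot115
alias Lrot116 := rot116
alias Lrot117 := rot117
alias Lrot118 := rot118
alias Lrot119 := rot119
alias Lrot120 := rot120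
alias Lrot121 := rot121
alias Lrot122 := rot122
alias Lrot123 := rot123
alias Lrot124 := rot124
alias Lrot125 := rot125
alias Lrot126 := rot126
alias Lrot127 := rot127
alias Lrot128 := rot128
alias Lrot129 := rot129
alias Lrot130 := rot130
alias Lrot131 := rot131
alias Lrot132 := rot132
alias Lrot133 := rot133
alias Lrot134 := rot134
alias Lrot135 := rot135
alias Lrot136 := rot136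
alias Lrot137 := rot137
alias Lrot138 := rot138
alias Lrot139 := rot139
alias Lrot140 := rot140
alias Lrot141 := rot141
alias Lrot142 := rot142
alias Lrot143 := rot143
alias Lrot144 := rot144
alias Lrot145 := rot145
alias Lrot146 := rot146
alias Lrot147 := rot147
alias Lrot148 := rot148
alias Lrot149 := rot149
alias Lrot150 := rot150
alias Lrot151 := rot151
alias Lrot152 := rot152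
alias Lrot153 := rot153
alias Lrot154 := rot154
alias Lrot155 := rot155
alias Lrot156 := rot156
alias Lrot158 := rot158
alias Lrot159 := rot159
alias Lrot160 := rot160
alias Lrot161 := rot161
alias Lrot162 := rot162
alias Lrot163 := rot163
alias Lrot164 := rot164
alias Lrot165 := rot165
alias Lrot166 := rot166
alias Lrot167 := rot167
alias Lrot168 := rot168
alias Lrot169 := rot169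
alias Lrot170 := rot170
alias Lrot171 := rot171
alias Lrot172 := rot172
alias Lrot173 := rot173
alias Lrot174 := rot174
alias Lrot176 := rot176
alias Lrot179 := rot179
alias Lrot180 := rot180
alias Lrot181 := rot181
alias Lrot182 := rot182
alias Lrot183 := rot183
alias Lrot185 := rot185
alias Lrot188 := rot188
alias Lrot189 := rot189
alias Lrot190 := rot190
alias Lrot191 := rot191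

section
variable (IH : IHT)
include IH

theorem f315108 : Led Lsl_af (LP (LK LD1_c0 LD2_c11 LD3_c24)) = (LP (LK LD1_c0 LD2_c25 LD3_c13)) :=
  Lgr Lrot31 (Lpe (K11.f28160 IH) (Lpe (K11.f28164 IH) (Lpr_ft (K19.f315104 IH) (Lpn (LP (LK LD1_c0 LD2_c25 LD3_c13))))))
theorem f314779 : Led Lsl_at (LP (LK LD1_c0 LD2_c11 LD3_c24)) = (LP (LK LD1_c0 LD2_c25 LD3_c13)) :=
  Lgr Lrot107 (Lpe (K11.f53081 IH) (Lpr_af (K19.f314773 IH) (Lpr_cf (K12.f182180 IH) (Lpn (LP (LK LD1_c0 LD2_c25 LD3_c13))))))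
theorem f196946 : Led Lsl_bf (LP (LK LD1_c0 LD2_c14 LD3_c9)) = (LP (LK LD1_c0 LD2_c25 LD3_c13)) :=
  Lgr Lrot34 (Lpe (K10.f3080 IH) (Lpe (K0.f2150 IH) (Lpr_ct (K0.f2144 IH) (Lpe (K10.f171187 IH) (Lpe (K9.f8005 IH) (Lpe (K9.f6791 IH) (Lpe (K10.f7995 IH) (Lpr_ct (K10.f52668 IH) (Lpr_gf (K10.f196932 IH) (Lpr_cf (K12.f182180 IH) (Lpn (LP (LK LD1_c0 LD2_c25 LD3_c13)))))))))))))
theorem f197402 : Led Lsl_bf (LP (LK LD1_c0 LD2_c25 LD3_c13)) = (LP (LK LD1_c0 LD2_c14 LD3_c9)) :=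
  Lgr Lrot90 (Lpe (K12.f182180 IH) (Lpr_bt (K9.f171759 IH) (Lpr_ct (K9.f165205 IH) (Lpr_bt (K13.f171761 IH) (Lpr_ct (K10.f197400 IH) (Lpn (LP (LK LD1_c0 LD2_c14 LD3_c9))))))))
theorem f315110 : Led Lsl_at (LP (LK LD1_c0 LD2_c14 LD3_c9)) = (LP (LK LD1_c0 LD2_c14 LD3_c9)) :=
  Lgr Lrot67 (Lpr_bf (f196946 IH) (Lpe (f314779 IH) (Lpr_bf (K10.f192801 IH) (Lpr_af (f315108 IH) (Lpr_bf (f197402 IH) (Lpn (LP (LK LD1_c0 LD2_c14 LD3_c9))))))))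
theorem f315112 : Led Lsl_ff (LP (LK LD1_c0 LD2_c14 LD3_c9)) = (LP (LK LD1_c0 LD2_c14 LD3_c8)) :=
  Lgr Lrot52 (Lpr_at (f315110 IH) (Lpe (K10.f3080 IH) (Lpr_gf (K11.f3055 IH) (Lpn (LP (LK LD1_c0 LD2_c14 LD3_c8))))))
theorem f315116 : Led Lsl_et (LP (LK LD1_c1 LD2_c9 LD3_c17)) = (LP (LK LD1_c1 LD2_c9 LD3_c16)) :=
  Lgr Lrot69 (Lpe (K19.f313387 IH) (Lpe (K19.f197407 IH) (Lpr_ff (f315112 IH) (Lpe (K11.f2932 IH) (Lpe (K11.f200659 IH) (Lpn (LP (LK LD1_c1 LD2_c9 LD3_c16))))))))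
theorem f313420 : Led Lsl_af (LP (LK LD1_c1 LD2_c9 LD3_c17)) = (LP (LK LD1_c1 LD2_c9 LD3_c17)) :=
  Lgr Lrot31 (Lpr_gf (K19.f313418 IH) (Lpe (K19.f313385 IH) (Lpr_ft (K19.f313387 IH) (Lpn (LP (LK LD1_c1 LD2_c9 LD3_c17))))))
theorem f315102 : Led Lsl_et (LP (LK LD1_c1 LD2_c9 LD3_c16)) = (LP (LK LD1_c1 LD2_c9 LD3_c17)) :=
  Lgr Lrot74 (Lpr_bf (K11.f200655 IH) (Lpr_ef (K19.f315100 IH) (Lpe (K19.f313398 IH) (Lpn (LP (LK LD1_c1 LD2_c9 LD3_c17))))))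
theorem f315118 : Led Lsl_af (LP (LK LD1_c1 LD2_c9 LD3_c16)) = (LP (LK LD1_c1 LD2_c9 LD3_c16)) :=
  Lgr Lrot50 (Lpr_et (f315102 IH) (Lpe (f313420 IH) (Lpr_et (f315116 IH) (Lpn (LP (LK LD1_c1 LD2_c9 LD3_c16))))))
theorem f315126 : Led Lsl_gf (LP (LK LD1_c1 LD2_c9 LD3_c16)) = (LP (LK LD1_c0 LD2_c39 LD3_c29)) :=
  Lgr Lrot76 (Lpr_af (f315118 IH) (Lpe (K11.f200650 IH) (Lpe (K16.f253525 IH) (Lpn (LP (LK LD1_c0 LD2_c39 LD3_c29))))))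
theorem f313489 : Led Lsl_gf (LP (LK LD1_c1 LD2_c3 LD3_c7)) = (LP (LK LD1_c0 LD2_c33 LD3_c42)) :=
  Lgr Lrot126 (Lpe (K11.f200679 IH) (Lpr_bt (K11.f200652 IH) (Lpr_gt (K19.f313483 IH) (Lpe (K14.f216361 IH) (Lpr_gt (K12.f170847 IH) (Lpe (K13.f170684 IH) (Lpr_bt (K11.f170647 IH) (Lpr_gt (K9.f178979 IH) (Lpe (K10.f177634 IH) (Lpr_ct (K19.f182022 IH) (Lpn (LP (LK LD1_c0 LD2_c33 LD3_c42)))))))))))))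
theorem f22406 : Led Lsl_bt (LP (LK LD1_c0 LD2_c36 LD3_c29)) = (LP (LK LD1_c0 LD2_c16 LD3_c21)) :=
  Lre_b IH (LK LD1_c0 LD2_c36 LD3_c29) (LK LD1_c0 LD2_c16 LD3_c21) Lrfl Lrfl
theorem f313503 : Led Lsl_dt (LP (LK LD1_c1 LD2_c3 LD3_c7)) = (LP (LK LD1_c0 LD2_c36 LD3_c29)) :=
  Lgr Lrot79 (Lpe (K19.f200675 IH) (Lpr_df (K19.f313501 IH) (Lpe (f22406 IH) (Lpn (LP (LK LD1_c0 LD2_c36 LD3_c29))))))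
theorem f34650 : Led Lsl_dt (LP (LK LD1_c0 LD2_c33 LD3_c46)) = (LP (LK LD1_c0 LD2_c15 LD3_c9)) :=
  Lre_d IH (LK LD1_c0 LD2_c33 LD3_c46) (LK LD1_c0 LD2_c15 LD3_c9) Lrfl Lrfl
theorem f163713 : Led Lsl_bt (LP (LK LD1_c0 LD2_c33 LD3_c46)) = (LP (LK LD1_c0 LD2_c15 LD3_c24)) :=
  Lre_b IH (LK LD1_c0 LD2_c33 LD3_c46) (LK LD1_c0 LD2_c15 LD3_c24) Lrfl Lrfl
theorem f163714 : Led Lsl_at (LP (LK LD1_c0 LD2_c33 LD3_c46)) = (LP (LK LD1_c0 LD2_c33 LD3_c46)) :=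
  Lgr Lrot67 (Lpe (K10.f163712 IH) (Lpe (K9.f163710 IH) (Lpr_bf (K9.f3154 IH) (Lpr_af (K8.f163695 IH) (Lpe (f163713 IH) (Lpn (LP (LK LD1_c0 LD2_c33 LD3_c46))))))))
theorem f164321 : Led Lsl_ft (LP (LK LD1_c0 LD2_c15 LD3_c8)) = (LP (LK LD1_c0 LD2_c33 LD3_c46)) :=
  Lre_f IH (LK LD1_c0 LD2_c15 LD3_c8) (LK LD1_c0 LD2_c33 LD3_c46) Lrfl Lrfl
theorem f37151 : Led Lsl_gt (LP (LK LD1_c0 LD2_c15 LD3_c8)) = (LP (LK LD1_c0 LD2_c33 LD3_c43)) :=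
  Lre_g IH (LK LD1_c0 LD2_c15 LD3_c8) (LK LD1_c0 LD2_c33 LD3_c43) Lrfl Lrfl
theorem f165469 : Led Lsl_gt (LP (LK LD1_c0 LD2_c33 LD3_c43)) = (LP (LK LD1_c0 LD2_c33 LD3_c46)) :=
  Lgr Lrot46 (Lpe (f37151 IH) (Lpr_ft (f164321 IH) (Lpr_at (f163714 IH) (Lpn (LP (LK LD1_c0 LD2_c33 LD3_c46))))))
theorem f315128 : Led Lsl_dt (LP (LK LD1_c1 LD2_c9 LD3_c16)) = (LP (LK LD1_c0 LD2_c33 LD3_c43)) :=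
  Lgr Lrot57 (Lpr_gf (f315126 IH) (Lpr_cf (K16.f182020 IH) (Lpe (f313489 IH) (Lpr_dt (f313503 IH) (Lpe (K10.f193443 IH) (Lpr_dt (K10.f34645 IH) (Lpr_cf (K10.f34643 IH) (Lpe (f34650 IH) (Lpe (f165469 IH) (Lpn (LP (LK LD1_c0 LD2_c33 LD3_c43))))))))))))
theorem f200661 : Led Lsl_df (LP (LK LD1_c0 LD2_c31 LD3_c48)) = (LP (LK LD1_c0 LD2_c33 LD3_c44)) :=
  Lgr Lrot38 (Lpr_dt (K11.f200648 IH) (Lpn (LP (LK LD1_c0 LD2_c33 LD3_c44))))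
theorem f315140 : Led Lsl_ff (LP (LK LD1_c0 LD2_c33 LD3_c44)) = (LP (LK LD1_c0 LD2_c33 LD3_c43)) :=
  Lgr Lrot19 (Lpe (f200661 IH) (Lpr_ft (K11.f200650 IH) (Lpr_dt (f315128 IH) (Lpn (LP (LK LD1_c0 LD2_c33 LD3_c43))))))
theorem f315144 : Led Lsl_ft (LP (LK LD1_c0 LD2_c33 LD3_c44)) = (LP (LK LD1_c0 LD2_c33 LD3_c43)) :=
  Lgr Lrot48 (Lpr_ff (f315140 IH) (Lpn (LP (LK LD1_c0 LD2_c33 LD3_c43))))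
theorem f34944 : Led Lsl_bt (LP (LK LD1_c1 LD2_c4 LD3_c39)) = (LP (LK LD1_c2 LD2_c14 LD3_c60)) :=
  Lre_b IH (LK LD1_c1 LD2_c4 LD3_c39) (LK LD1_c2 LD2_c14 LD3_c60) Lrfl Lrfl
theorem f34922 : Led Lsl_ct (LP (LK LD1_c2 LD2_c14 LD3_c60)) = (LP (LK LD1_c4 LD2_c20 LD3_c14)) :=
  Lgr Lrot59 (Lpr_cf (K2.f34895 IH) (Lpn (LP (LK LD1_c4 LD2_c20 LD3_c14))))
theorem f31763 : Led Lsl_bt (LP (LK LD1_c4 LD2_c20 LD3_c14)) = (LP (LK LD1_c2 LD2_c7 LD3_c36)) :=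
  Lre_b IH (LK LD1_c4 LD2_c20 LD3_c14) (LK LD1_c2 LD2_c7 LD3_c36) Lrfl Lrfl
theorem f35203 : Led Lsl_bt (LP (LK LD1_c1 LD2_c0 LD3_c53)) = (LP (LK LD1_c0 LD2_c32 LD3_c13)) :=
  Lgr Lrot128 (Lpe (K0.f31801 IH) (Lpe (f31763 IH) (Lpe (f34922 IH) (Lpe (f34944 IH) (Lpr_cf (K2.f34992 IH) (Lpn (LP (LK LD1_c0 LD2_c32 LD3_c13))))))))
theorem f240621 : Led Lsl_ct (LP (LK LD1_c1 LD2_c9 LD3_c33)) = (LP (LK LD1_c2 LD2_c7 LD3_c46)) :=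
  Lgr Lrot8 (Lpr_gt (K19.f31589 IH) (Lpr_dt (K1.f28639 IH) (Lpe (K13.f31569 IH) (Lpr_dt (K13.f31571 IH) (Lpe (K13.f31573 IH) (Lpr_df (K19.f239307 IH) (Lpr_gf (K15.f239252 IH) (Lpe (K13.f31815 IH) (Lpr_gf (K16.f240619 IH) (Lpn (LP (LK LD1_c2 LD2_c7 LD3_c46))))))))))))
theorem f240625 : Led Lsl_bf (LP (LK LD1_c0 LD2_c33 LD3_c43)) = (LP (LK LD1_c1 LD2_c9 LD3_c33)) :=
  Lgr Lrot34 (Lpe (f37151 IH) (Lpe (K10.f20523 IH) (Lpr_ct (K8.f20526 IH) (Lpe (K10.f56664 IH) (Lpe (K10.f186688 IH) (Lpe (K9.f31679 IH) (Lpe (f35203 IH) (Lpr_ct (K1.f31765 IH) (Lpr_gf (K16.f240619 IH) (Lpe (f240621 IH) (Lpn (LP (LK LD1_c1 LD2_c9 LD3_c33)))))))))))))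
theorem f240627 : Led Lsl_bt (LP (LK LD1_c0 LD2_c33 LD3_c43)) = (LP (LK LD1_c1 LD2_c9 LD3_c33)) :=
  Lgr Lrot127 (Lpr_bf (f240625 IH) (Lpn (LP (LK LD1_c1 LD2_c9 LD3_c33))))
theorem f315154 : Led Lsl_ff (LP (LK LD1_c0 LD2_c56 LD3_c26)) = (LP (LK LD1_c1 LD2_c9 LD3_c33)) :=
  Lgr Lrot25 (Lpe (K10.f194089 IH) (Lpr_ft (f315144 IH) (Lpr_bt (f240627 IH) (Lpn (LP (LK LD1_c1 LD2_c9 LD3_c33))))))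
theorem f315158 : Led Lsl_at (LP (LK LD1_c0 LD2_c56 LD3_c26)) = (LP (LK LD1_c1 LD2_c9 LD3_c34)) :=
  Lgr Lrot26 (Lpr_ff (f315154 IH) (Lpr_gt (K19.f31589 IH) (Lpe (K12.f31587 IH) (Lpn (LP (LK LD1_c1 LD2_c9 LD3_c34))))))
theorem f315166 : Led Lsl_af (LP (LK LD1_c1 LD2_c57 LD3_c32)) = (LP (LK LD1_c1 LD2_c57 LD3_c58)) :=
  Lgr Lrot50 (Lpr_et (K12.f211574 IH) (Lpr_at (f315158 IH) (Lpr_et (K13.f240603 IH) (Lpn (LP (LK LD1_c1 LD2_c57 LD3_c58))))))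
theorem f315174 : Led Lsl_ft (LP (LK LD1_c1 LD2_c57 LD3_c31)) = (LP (LK LD1_c1 LD2_c57 LD3_c58)) :=
  Lgr Lrot2 (Lpr_gt (K12.f227918 IH) (Lpe (K12.f211583 IH) (Lpr_af (f315166 IH) (Lpn (LP (LK LD1_c1 LD2_c57 LD3_c58))))))
theorem f315178 : Led Lsl_ff (LP (LK LD1_c4 LD2_c1 LD3_c14)) = (LP (LK LD1_c4 LD2_c2 LD3_c1)) :=
  Lgr Lrot23 (Lpr_ct (K12.f190439 IH) (Lpr_ft (f315174 IH) (Lpr_ct (K13.f194137 IH) (Lpn (LP (LK LD1_c4 LD2_c2 LD3_c1))))))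
theorem f262401 : Led Lsl_gf (LP (LK LD1_c2 LD2_c31 LD3_c48)) = (LP (LK LD1_c4 LD2_c1 LD3_c52)) :=
  Lgr Lrot147 (Lpr_ct (K13.f33979 IH) (Lpr_gt (K10.f180781 IH) (Lpr_ct (K10.f180783 IH) (Lpe (K13.f180784 IH) (Lpr_cf (K17.f242092 IH) (Lpe (K13.f242490 IH) (Lpr_cf (K13.f242339 IH) (Lpr_gf (K15.f262396 IH) (Lpe (K15.f33862 IH) (Lpn (LP (LK LD1_c4 LD2_c1 LD3_c52))))))))))))
theorem f262404 : Led Lsl_gt (LP (LK LD1_c4 LD2_c2 LD3_c23)) = (LP (LK LD1_c8 LD2_c4 LD3_c33)) :=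
  Lgr Lrot49 (Lpr_df (K0.f34022 IH) (Lpr_gf (f262401 IH) (Lpr_cf (K15.f212300 IH) (Lpr_gt (K12.f46962 IH) (Lpr_dt (K1.f46028 IH) (Lpe (K10.f190874 IH) (Lpr_dt (K16.f184657 IH) (Lpe (K11.f184654 IH) (Lpr_df (K13.f242112 IH) (Lpn (LP (LK LD1_c8 LD2_c4 LD3_c33))))))))))))
theorem f242572 : Led Lsl_dt (LP (LK LD1_c4 LD2_c2 LD3_c0)) = (LP (LK LD1_c8 LD2_c3 LD3_c36)) :=
  Lgr Lrot6 (Lpr_gt (K10.f194127 IH) (Lpr_ct (K10.f80928 IH) (Lpe (K12.f227315 IH) (Lpr_ct (K12.f227317 IH) (Lpe (K13.f227320 IH) (Lpe (K13.f242140 IH) (Lpr_gf (K13.f242559 IH) (Lpr_cf (K13.f239961 IH) (Lpe (K13.f197248 IH) (Lpn (LP (LK LD1_c8 LD2_c3 LD3_c36))))))))))))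
theorem f262416 : Led Lsl_gt (LP (LK LD1_c1 LD2_c59 LD3_c29)) = (LP (LK LD1_c4 LD2_c2 LD3_c0)) :=
  Lgr Lrot49 (Lpe (K13.f193409 IH) (Lpe (K13.f34584 IH) (Lpe (K0.f34021 IH) (Lpr_gt (f262404 IH) (Lpe (K13.f242112 IH) (Lpe (K13.f240447 IH) (Lpe (K13.f242546 IH) (Lpr_cf (K13.f240053 IH) (Lpe (f242572 IH) (Lpn (LP (LK LD1_c4 LD2_c2 LD3_c0))))))))))))
theorem f315184 : Led Lsl_at (LP (LK LD1_c4 LD2_c1 LD3_c14)) = (LP (LK LD1_c4 LD2_c2 LD3_c0)) :=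
  Lgr Lrot26 (Lpr_ff (f315178 IH) (Lpe (K13.f240586 IH) (Lpr_gt (f262416 IH) (Lpn (LP (LK LD1_c4 LD2_c2 LD3_c0))))))
theorem f315170 : Led Lsl_at (LP (LK LD1_c4 LD2_c1 LD3_c15)) = (LP (LK LD1_c4 LD2_c2 LD3_c1)) :=
  Lgr Lrot107 (Lpe (K12.f211569 IH) (Lpr_af (f315166 IH) (Lpe (K13.f194138 IH) (Lpn (LP (LK LD1_c4 LD2_c2 LD3_c1))))))
theorem f315192 : Led Lsl_ff (LP (LK LD1_c4 LD2_c1 LD3_c15)) = (LP (LK LD1_c4 LD2_c2 LD3_c0)) :=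
  Lgr Lrot30 (Lpr_at (f315170 IH) (Lpe (f315178 IH) (Lpr_at (f315184 IH) (Lpn (LP (LK LD1_c4 LD2_c2 LD3_c0))))))
theorem f315198 : Led Lsl_ft (LP (LK LD1_c4 LD2_c1 LD3_c15)) = (LP (LK LD1_c4 LD2_c2 LD3_c0)) :=
  Lgr Lrot48 (Lpr_ff (f315192 IH) (Lpn (LP (LK LD1_c4 LD2_c2 LD3_c0))))
theorem f315202 : Led Lsl_ff (LP (LK LD1_c1 LD2_c57 LD3_c32)) = (LP (LK LD1_c1 LD2_c57 LD3_c57)) :=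
  Lgr Lrot23 (Lpr_ct (K12.f211569 IH) (Lpr_ft (f315198 IH) (Lpr_ct (K13.f194134 IH) (Lpn (LP (LK LD1_c1 LD2_c57 LD3_c57))))))
theorem f315142 : Led Lsl_ft (LP (LK LD1_c0 LD2_c56 LD3_c26)) = (LP (LK LD1_c1 LD2_c9 LD3_c33)) :=
  Lgr Lrot75 (Lpe (K10.f194091 IH) (Lpr_ff (f315140 IH) (Lpr_bf (f240625 IH) (Lpn (LP (LK LD1_c1 LD2_c9 LD3_c33))))))
theorem f242587 : Led Lsl_et (LP (LK LD1_c2 LD2_c18 LD3_c51)) = (LP (LK LD1_c1 LD2_c57 LD3_c57)) :=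
  Lgr Lrot71 (Lpe (K16.f59143 IH) (Lpe (K13.f210873 IH) (Lpe (K15.f182030 IH) (Lpr_ef (K13.f242581 IH) (Lpe (K13.f242579 IH) (Lpn (LP (LK LD1_c1 LD2_c57 LD3_c57))))))))
theorem f315216 : Led Lsl_ft (LP (LK LD1_c2 LD2_c24 LD3_c46)) = (LP (LK LD1_c2 LD2_c18 LD3_c51)) :=
  Lgr Lrot86 (Lpe (K19.f240634 IH) (Lpe (f315142 IH) (Lpe (K12.f211574 IH) (Lpr_ff (f315202 IH) (Lpe (f242587 IH) (Lpn (LP (LK LD1_c2 LD2_c18 LD3_c51))))))))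
theorem f315220 : Led Lsl_af (LP (LK LD1_c4 LD2_c0 LD3_c23)) = (LP (LK LD1_c2 LD2_c18 LD3_c51)) :=
  Lgr Lrot31 (Lpe (K13.f29629 IH) (Lpe (K19.f313477 IH) (Lpr_ft (f315216 IH) (Lpn (LP (LK LD1_c2 LD2_c18 LD3_c51))))))
theorem f315224 : Led Lsl_at (LP (LK LD1_c1 LD2_c57 LD3_c4)) = (LP (LK LD1_c1 LD2_c6 LD3_c26)) :=
  Lgr Lrot51 (Lpe (K13.f239356 IH) (Lpr_af (f315220 IH) (Lpe (K16.f59143 IH) (Lpn (LP (LK LD1_c1 LD2_c6 LD3_c26))))))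
theorem f315230 : Led Lsl_ff (LP (LK LD1_c1 LD2_c57 LD3_c4)) = (LP (LK LD1_c1 LD2_c6 LD3_c27)) :=
  Lgr Lrot52 (Lpr_at (f315224 IH) (Lpe (K13.f59090 IH) (Lpe (K13.f37092 IH) (Lpn (LP (LK LD1_c1 LD2_c6 LD3_c27))))))
theorem f315236 : Led Lsl_ft (LP (LK LD1_c4 LD2_c0 LD3_c23)) = (LP (LK LD1_c2 LD2_c18 LD3_c52)) :=
  Lgr Lrot54 (Lpr_df (K13.f239354 IH) (Lpr_ff (f315230 IH) (Lpe (K13.f59087 IH) (Lpn (LP (LK LD1_c2 LD2_c18 LD3_c52))))))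
theorem f315176 : Led Lsl_ff (LP (LK LD1_c1 LD2_c57 LD3_c31)) = (LP (LK LD1_c1 LD2_c57 LD3_c58)) :=
  Lgr Lrot25 (Lpe (K12.f227927 IH) (Lpr_ft (f315174 IH) (Lpe (K13.f240591 IH) (Lpn (LP (LK LD1_c1 LD2_c57 LD3_c58))))))
theorem f315244 : Led Lsl_ff (LP (LK LD1_c1 LD2_c9 LD3_c34)) = (LP (LK LD1_c1 LD2_c56 LD3_c39)) :=
  Lgr Lrot72 (Lpr_et (K13.f240603 IH) (Lpe (f315176 IH) (Lpr_et (K13.f242504 IH) (Lpr_ft (f315236 IH) (Lpr_et (K13.f59152 IH) (Lpn (LP (LK LD1_c1 LD2_c56 LD3_c39))))))))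
theorem f211593 : Led Lsl_ft (LP (LK LD1_c0 LD2_c55 LD3_c33)) = (LP (LK LD1_c1 LD2_c57 LD3_c27)) :=
  Lre_f IH (LK LD1_c0 LD2_c55 LD3_c33) (LK LD1_c1 LD2_c57 LD3_c27) Lrfl Lrfl
theorem f315252 : Led Lsl_dt (LP (LK LD1_c1 LD2_c57 LD3_c27)) = (LP (LK LD1_c1 LD2_c56 LD3_c39)) :=
  Lgr Lrot60 (Lpe (f211593 IH) (Lpe (K12.f216356 IH) (Lpr_ff (f315244 IH) (Lpn (LP (LK LD1_c1 LD2_c56 LD3_c39))))))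
theorem f315270 : Led Lsl_et (LP (LK LD1_c1 LD2_c57 LD3_c27)) = (LP (LK LD1_c0 LD2_c56 LD3_c34)) :=
  Lgr Lrot121 (Lpr_dt (f315252 IH) (Lpe (K13.f28655 IH) (Lpe (K10.f28647 IH) (Lpr_et (K0.f28578 IH) (Lpe (K0.f2996 IH) (Lpe (K0.f2981 IH) (Lpr_dt (K0.f2973 IH) (Lpr_gf (K10.f193663 IH) (Lpe (K10.f193654 IH) (Lpr_gf (K13.f238288 IH) (Lpn (LP (LK LD1_c0 LD2_c56 LD3_c34)))))))))))))
theorem f216371 : Led Lsl_ft (LP (LK LD1_c0 LD2_c59 LD3_c20)) = (LP (LK LD1_c2 LD2_c4 LD3_c39)) :=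
  Lre_f IH (LK LD1_c0 LD2_c59 LD3_c20) (LK LD1_c2 LD2_c4 LD3_c39) Lrfl Lrfl
theorem f216358 : Led Lsl_ft (LP (LK LD1_c1 LD2_c57 LD3_c27)) = (LP (LK LD1_c0 LD2_c55 LD3_c33)) :=
  Lre_f IH (LK LD1_c1 LD2_c57 LD3_c27) (LK LD1_c0 LD2_c55 LD3_c33) Lrfl Lrfl
theorem f216372 : Led Lsl_ct (LP (LK LD1_c2 LD2_c4 LD3_c39)) = (LP (LK LD1_c1 LD2_c57 LD3_c27)) :=
  Lgr Lrot40 (Lpe (f216371 IH) (Lpr_cf (K12.f216367 IH) (Lpe (f216358 IH) (Lpn (LP (LK LD1_c1 LD2_c57 LD3_c27))))))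
theorem f315274 : Led Lsl_ef (LP (LK LD1_c2 LD2_c4 LD3_c39)) = (LP (LK LD1_c1 LD2_c59 LD3_c24)) :=
  Lgr Lrot28 (Lpr_ct (f216372 IH) (Lpr_et (f315270 IH) (Lpr_ct (K13.f192808 IH) (Lpn (LP (LK LD1_c1 LD2_c59 LD3_c24))))))
theorem f315300 : Led Lsl_gt (LP (LK LD1_c2 LD2_c4 LD3_c39)) = (LP (LK LD1_c1 LD2_c59 LD3_c10)) :=
  Lgr Lrot137 (Lpr_ef (f315274 IH) (Lpr_dt (K13.f239105 IH) (Lpe (K13.f168527 IH) (Lpe (K12.f168350 IH) (Lpr_et (K12.f168339 IH) (Lpe (K11.f211270 IH) (Lpr_ef (K11.f211246 IH) (Lpr_dt (K12.f190228 IH) (Lpe (K13.f223723 IH) (Lpe (K13.f223712 IH) (Lpn (LP (LK LD1_c1 LD2_c59 LD3_c10)))))))))))))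
theorem f216381 : Led Lsl_ft (LP (LK LD1_c2 LD2_c4 LD3_c39)) = (LP (LK LD1_c0 LD2_c59 LD3_c20)) :=
  Lre_f IH (LK LD1_c2 LD2_c4 LD3_c39) (LK LD1_c0 LD2_c59 LD3_c20) Lrfl Lrfl
theorem f315302 : Led Lsl_at (LP (LK LD1_c0 LD2_c59 LD3_c20)) = (LP (LK LD1_c0 LD2_c56 LD3_c21)) :=
  Lgr Lrot26 (Lpe (f216381 IH) (Lpr_gt (f315300 IH) (Lpr_gt (K13.f194096 IH) (Lpn (LP (LK LD1_c0 LD2_c56 LD3_c21))))))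
theorem f225644 : Led Lsl_ft (LP (LK LD1_c0 LD2_c56 LD3_c21)) = (LP (LK LD1_c1 LD2_c59 LD3_c12)) :=
  Lre_f IH (LK LD1_c0 LD2_c56 LD3_c21) (LK LD1_c1 LD2_c59 LD3_c12) Lrfl Lrfl
theorem f315310 : Led Lsl_af (LP (LK LD1_c2 LD2_c4 LD3_c39)) = (LP (LK LD1_c1 LD2_c59 LD3_c12)) :=
  Lgr Lrot45 (Lpr_ft (f216381 IH) (Lpr_at (f315302 IH) (Lpr_ft (f225644 IH) (Lpn (LP (LK LD1_c1 LD2_c59 LD3_c12))))))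
theorem f315298 : Led Lsl_et (LP (LK LD1_c2 LD2_c4 LD3_c39)) = (LP (LK LD1_c1 LD2_c59 LD3_c24)) :=
  Lgr Lrot87 (Lpr_ef (f315274 IH) (Lpn (LP (LK LD1_c1 LD2_c59 LD3_c24))))
theorem f315314 : Led Lsl_at (LP (LK LD1_c1 LD2_c59 LD3_c24)) = (LP (LK LD1_c1 LD2_c19 LD3_c12)) :=
  Lgr Lrot80 (Lpe (f315298 IH) (Lpr_af (f315310 IH) (Lpr_ef (K19.f314762 IH) (Lpn (LP (LK LD1_c1 LD2_c19 LD3_c12))))))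
theorem f315316 : Led Lsl_af (LP (LK LD1_c4 LD2_c4 LD3_c38)) = (LP (LK LD1_c2 LD2_c3 LD3_c41)) :=
  Lgr Lrot36 (Lpr_bt (K13.f192811 IH) (Lpr_at (f315314 IH) (Lpr_bt (K19.f196990 IH) (Lpe (K19.f201336 IH) (Lpr_bt (K13.f179115 IH) (Lpn (LP (LK LD1_c2 LD2_c3 LD3_c41))))))))
theorem f237900 : Led Lsl_at (LP (LK LD1_c4 LD2_c18 LD3_c59)) = (LP (LK LD1_c2 LD2_c6 LD3_c46)) :=
  Lre_a IH (LK LD1_c4 LD2_c18 LD3_c59) (LK LD1_c2 LD2_c6 LD3_c46) Lrfl Lrfl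
theorem f315318 : Led Lsl_dt (LP (LK LD1_c4 LD2_c4 LD3_c38)) = (LP (LK LD1_c4 LD2_c18 LD3_c59)) :=
  Lgr Lrot44 (Lpr_af (f315316 IH) (Lpe (K13.f237806 IH) (Lpe (f237900 IH) (Lpn (LP (LK LD1_c4 LD2_c18 LD3_c59))))))
theorem f315336 : Led Lsl_gt (LP (LK LD1_c2 LD2_c23 LD3_c14)) = (LP (LK LD1_c4 LD2_c18 LD3_c59)) :=
  Lgr Lrot112 (Lpe (K13.f287 IH) (Lpr_et (K13.f167325 IH) (Lpe (K14.f247176 IH) (Lpe (K14.f168987 IH) (Lpr_dt (K14.f168942 IH) (Lpr_gf (K14.f247180 IH) (Lpe (K14.f189257 IH) (Lpe (K13.f189253 IH) (Lpe (K15.f199546 IH) (Lpr_dt (f315318 IH) (Lpn (LP (LK LD1_c4 LD2_c18 LD3_c59)))))))))))))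
theorem f315347 : Led Lsl_bt (LP (LK LD1_c2 LD2_c26 LD3_c13)) = (LP (LK LD1_c4 LD2_c18 LD3_c59)) :=
  Lgr Lrot92 (Lpe (K13.f182346 IH) (Lpr_gt (K13.f182345 IH) (Lpe (K13.f216695 IH) (Lpe (K13.f243192 IH) (Lpr_gt (K15.f761 IH) (Lpr_ct (K18.f167421 IH) (Lpr_gt (K15.f167408 IH) (Lpe (K13.f167371 IH) (Lpr_bt (K13.f167369 IH) (Lpr_gt (f315336 IH) (Lpn (LP (LK LD1_c4 LD2_c18 LD3_c59)))))))))))))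
theorem f239126 : Led Lsl_bt (LP (LK LD1_c8 LD2_c40 LD3_c35)) = (LP (LK LD1_c4 LD2_c21 LD3_c31)) :=
  Lre_b IH (LK LD1_c8 LD2_c40 LD3_c35) (LK LD1_c4 LD2_c21 LD3_c31) Lrfl Lrfl
theorem f2795 : Led Lsl_gt (LP (LK LD1_c4 LD2_c51 LD3_c50)) = (LP (LK LD1_c9 LD2_c35 LD3_c51)) :=
  Lre_g IH (LK LD1_c4 LD2_c51 LD3_c50) (LK LD1_c9 LD2_c35 LD3_c51) Lrfl Lrfl
theorem f167359 : Led Lsl_dt (LP (LK LD1_c4 LD2_c8 LD3_c29)) = (LP (LK LD1_c8 LD2_c17 LD3_c3)) :=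
  Lre_d IH (LK LD1_c4 LD2_c8 LD3_c29) (LK LD1_c8 LD2_c17 LD3_c3) Lrfl Lrfl
theorem f167361 : Led Lsl_gt (LP (LK LD1_c8 LD2_c17 LD3_c1)) = (LP (LK LD1_c4 LD2_c8 LD3_c29)) :=
  Lre_g IH (LK LD1_c8 LD2_c17 LD3_c1) (LK LD1_c4 LD2_c8 LD3_c29) Lrfl Lrfl
theorem f308829 : Led Lsl_dt (LP (LK LD1_c9 LD2_c35 LD3_c51)) = (LP (LK LD1_c8 LD2_c17 LD3_c1)) :=
  Lgr Lrot57 (Lpe (f2795 IH) (Lpe (K15.f233084 IH) (Lpe (K19.f238041 IH) (Lpe (K19.f238059 IH) (Lpr_gt (K19.f308827 IH) (Lpr_dt (K13.f184419 IH) (Lpe (K13.f233376 IH) (Lpe (f167359 IH) (Lpe (f167361 IH) (Lpn (LP (LK LD1_c8 LD2_c17 LD3_c1))))))))))))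
theorem f315330 : Led Lsl_cf (LP (LK LD1_c8 LD2_c17 LD3_c1)) = (LP (LK LD1_c4 LD2_c18 LD3_c59)) :=
  Lgr Lrot14 (Lpe (f308829 IH) (Lpe (f2795 IH) (Lpe (K15.f2794 IH) (Lpe (K12.f2793 IH) (Lpr_ct (K13.f1918 IH) (Lpr_gt (K11.f2792 IH) (Lpe (K13.f238068 IH) (Lpr_gt (K14.f238222 IH) (Lpr_dt (f315318 IH) (Lpn (LP (LK LD1_c4 LD2_c18 LD3_c59))))))))))))
theorem f315334 : Led Lsl_bt (LP (LK LD1_c8 LD2_c17 LD3_c1)) = (LP (LK LD1_c15 LD2_c34 LD3_c43)) :=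
  Lre_b IH (LK LD1_c8 LD2_c17 LD3_c1) (LK LD1_c15 LD2_c34 LD3_c43) Lrfl Lrfl
theorem f315358 : Led Lsl_cf (LP (LK LD1_c8 LD2_c40 LD3_c35)) = (LP (LK LD1_c15 LD2_c34 LD3_c43)) :=
  Lgr Lrot97 (Lpr_bt (f239126 IH) (Lpe (K13.f239118 IH) (Lpr_bt (f315347 IH) (Lpe (f315330 IH) (Lpr_bt (f315334 IH) (Lpn (LP (LK LD1_c15 LD2_c34 LD3_c43))))))))
theorem f298960 : Led Lsl_et (LP (LK LD1_c8 LD2_c40 LD3_c35)) = (LP (LK LD1_c16 LD2_c14 LD3_c59)) :=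
  Lre_e IH (LK LD1_c8 LD2_c40 LD3_c35) (LK LD1_c16 LD2_c14 LD3_c59) Lrfl Lrfl
theorem f298927 : Led Lsl_bt (LP (LK LD1_c8 LD2_c40 LD3_c37)) = (LP (LK LD1_c16 LD2_c14 LD3_c59)) :=
  Lre_b IH (LK LD1_c8 LD2_c40 LD3_c37) (LK LD1_c16 LD2_c14 LD3_c59) Lrfl Lrfl
theorem f238139 : Led Lsl_bt (LP (LK LD1_c4 LD2_c22 LD3_c44)) = (LP (LK LD1_c4 LD2_c51 LD3_c29)) :=
  Lgr Lrot95 (Lpe (K13.f200465 IH) (Lpr_bf (K19.f189998 IH) (Lpr_df (K19.f238136 IH) (Lpn (LP (LK LD1_c4 LD2_c51 LD3_c29))))))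
theorem f200481 : Led Lsl_ct (LP (LK LD1_c8 LD2_c43 LD3_c21)) = (LP (LK LD1_c4 LD2_c22 LD3_c44)) :=
  Lre_c IH (LK LD1_c8 LD2_c43 LD3_c21) (LK LD1_c4 LD2_c22 LD3_c44) Lrfl Lrfl
theorem f238143 : Led Lsl_bt (LP (LK LD1_c16 LD2_c20 LD3_c13)) = (LP (LK LD1_c8 LD2_c43 LD3_c21)) :=
  Lre_b IH (LK LD1_c16 LD2_c20 LD3_c13) (LK LD1_c8 LD2_c43 LD3_c21) Lrfl Lrfl
theorem f298928 : Led Lsl_ct (LP (LK LD1_c16 LD2_c14 LD3_c59)) = (LP (LK LD1_c16 LD2_c20 LD3_c13)) :=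
  Lgr Lrot83 (Lpe (f298927 IH) (Lpr_cf (K19.f298881 IH) (Lpe (f238139 IH) (Lpe (f200481 IH) (Lpe (f238143 IH) (Lpn (LP (LK LD1_c16 LD2_c20 LD3_c13))))))))
theorem f315366 : Led Lsl_et (LP (LK LD1_c16 LD2_c20 LD3_c13)) = (LP (LK LD1_c15 LD2_c34 LD3_c43)) :=
  Lgr Lrot158 (Lpe (f298928 IH) (Lpe (f298960 IH) (Lpr_cf (f315358 IH) (Lpn (LP (LK LD1_c15 LD2_c34 LD3_c43))))))
theorem f200484 : Led Lsl_bt (LP (LK LD1_c8 LD2_c43 LD3_c21)) = (LP (LK LD1_c16 LD2_c20 LD3_c13)) :=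
  Lre_b IH (LK LD1_c8 LD2_c43 LD3_c21) (LK LD1_c16 LD2_c20 LD3_c13) Lrfl Lrfl
theorem f235598 : Led Lsl_bt (LP (LK LD1_c15 LD2_c34 LD3_c43)) = (LP (LK LD1_c8 LD2_c17 LD3_c1)) :=
  Lre_b IH (LK LD1_c15 LD2_c34 LD3_c43) (LK LD1_c8 LD2_c17 LD3_c1) Lrfl Lrfl
theorem f315387 : Led Lsl_ef (LP (LK LD1_c8 LD2_c43 LD3_c21)) = (LP (LK LD1_c8 LD2_c17 LD3_c1)) :=
  Lgr Lrot29 (Lpr_bt (f200484 IH) (Lpr_et (f315366 IH) (Lpr_bt (f235598 IH) (Lpn (LP (LK LD1_c8 LD2_c17 LD3_c1))))))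
theorem f315395 : Led Lsl_et (LP (LK LD1_c4 LD2_c22 LD3_c44)) = (LP (LK LD1_c4 LD2_c18 LD3_c59)) :=
  Lgr Lrot158 (Lpe (f200481 IH) (Lpr_ef (f315387 IH) (Lpr_cf (f315330 IH) (Lpn (LP (LK LD1_c4 LD2_c18 LD3_c59))))))
theorem f315397 : Led Lsl_af (LP (LK LD1_c4 LD2_c22 LD3_c44)) = (LP (LK LD1_c4 LD2_c18 LD3_c61)) :=
  Lgr Lrot50 (Lpr_et (f315395 IH) (Lpr_at (f237900 IH) (Lpr_et (K14.f237907 IH) (Lpn (LP (LK LD1_c4 LD2_c18 LD3_c61))))))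
theorem f315423 : Led Lsl_at (LP (LK LD1_c4 LD2_c14 LD3_c22)) = (LP (LK LD1_c4 LD2_c5 LD3_c28)) :=
  Lgr Lrot51 (Lpr_df (K19.f200479 IH) (Lpr_af (f315397 IH) (Lpr_df (K17.f237914 IH) (Lpn (LP (LK LD1_c4 LD2_c5 LD3_c28))))))
theorem f190020 : Led Lsl_ft (LP (LK LD1_c8 LD2_c27 LD3_c28)) = (LP (LK LD1_c4 LD2_c14 LD3_c22)) :=
  Lre_f IH (LK LD1_c8 LD2_c27 LD3_c28) (LK LD1_c4 LD2_c14 LD3_c22) Lrfl Lrfl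
theorem f315433 : Led Lsl_gt (LP (LK LD1_c8 LD2_c27 LD3_c28)) = (LP (LK LD1_c8 LD2_c11 LD3_c54)) :=
  Lgr Lrot5 (Lpr_ft (f190020 IH) (Lpr_at (f315423 IH) (Lpe (K19.f237929 IH) (Lpn (LP (LK LD1_c8 LD2_c11 LD3_c54))))))
theorem f237931 : Led Lsl_ct (LP (LK LD1_c8 LD2_c11 LD3_c54)) = (LP (LK LD1_c15 LD2_c26 LD3_c4)) :=
  Lre_c IH (LK LD1_c8 LD2_c11 LD3_c54) (LK LD1_c15 LD2_c26 LD3_c4) Lrfl Lrfl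
theorem f168485 : Led Lsl_et (LP (LK LD1_c17 LD2_c54 LD3_c2)) = (LP (LK LD1_c9 LD2_c44 LD3_c51)) :=
  Lre_e IH (LK LD1_c17 LD2_c54 LD3_c2) (LK LD1_c9 LD2_c44 LD3_c51) Lrfl Lrfl
theorem f298197 : Led Lsl_et (LP (LK LD1_c8 LD2_c43 LD3_c17)) = (LP (LK LD1_c16 LD2_c20 LD3_c4)) :=
  Lre_e IH (LK LD1_c8 LD2_c43 LD3_c17) (LK LD1_c16 LD2_c20 LD3_c4) Lrfl Lrfl
theorem f298198 : Led Lsl_bf (LP (LK LD1_c17 LD2_c54 LD3_c2)) = (LP (LK LD1_c16 LD2_c20 LD3_c4)) :=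
  Lgr Lrot96 (Lpr_et (f168485 IH) (Lpr_bt (K19.f298190 IH) (Lpr_et (f298197 IH) (Lpn (LP (LK LD1_c16 LD2_c20 LD3_c4))))))
theorem f298201 : Led Lsl_bt (LP (LK LD1_c17 LD2_c54 LD3_c2)) = (LP (LK LD1_c16 LD2_c20 LD3_c4)) :=
  Lgr Lrot127 (Lpr_bf (f298198 IH) (Lpn (LP (LK LD1_c16 LD2_c20 LD3_c4))))
theorem f168424 : Led Lsl_at (LP (LK LD1_c9 LD2_c44 LD3_c53)) = (LP (LK LD1_c17 LD2_c54 LD3_c2)) :=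
  Lre_a IH (LK LD1_c9 LD2_c44 LD3_c53) (LK LD1_c17 LD2_c54 LD3_c2) Lrfl Lrfl
theorem f168380 : Led Lsl_bt (LP (LK LD1_c4 LD2_c56 LD3_c48)) = (LP (LK LD1_c9 LD2_c44 LD3_c53)) :=
  Lre_b IH (LK LD1_c4 LD2_c56 LD3_c48) (LK LD1_c9 LD2_c44 LD3_c53) Lrfl Lrfl
theorem f298204 : Led Lsl_at (LP (LK LD1_c16 LD2_c20 LD3_c4)) = (LP (LK LD1_c8 LD2_c43 LD3_c18)) :=
  Lre_a IH (LK LD1_c16 LD2_c20 LD3_c4) (LK LD1_c8 LD2_c43 LD3_c18) Lrfl Lrfl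
theorem f238797 : Led Lsl_bt (LP (LK LD1_c8 LD2_c43 LD3_c18)) = (LP (LK LD1_c4 LD2_c22 LD3_c43)) :=
  Lre_b IH (LK LD1_c8 LD2_c43 LD3_c18) (LK LD1_c4 LD2_c22 LD3_c43) Lrfl Lrfl
theorem f298205 : Led Lsl_af (LP (LK LD1_c4 LD2_c56 LD3_c48)) = (LP (LK LD1_c4 LD2_c22 LD3_c43)) :=
  Lgr Lrot36 (Lpr_bt (f168380 IH) (Lpr_at (f168424 IH) (Lpr_bt (f298201 IH) (Lpr_at (f298204 IH) (Lpr_bt (f238797 IH) (Lpn (LP (LK LD1_c4 LD2_c22 LD3_c43))))))))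
theorem f298209 : Led Lsl_ft (LP (LK LD1_c8 LD2_c43 LD3_c20)) = (LP (LK LD1_c4 LD2_c22 LD3_c43)) :=
  Lre_f IH (LK LD1_c8 LD2_c43 LD3_c20) (LK LD1_c4 LD2_c22 LD3_c43) Lrfl Lrfl
theorem f298210 : Led Lsl_gf (LP (LK LD1_c9 LD2_c34 LD3_c26)) = (LP (LK LD1_c8 LD2_c43 LD3_c20)) :=
  Lgr Lrot47 (Lpr_gt (K18.f236897 IH) (Lpr_af (f298205 IH) (Lpe (f298209 IH) (Lpn (LP (LK LD1_c8 LD2_c43 LD3_c20))))))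
theorem f297973 : Led Lsl_af (LP (LK LD1_c4 LD2_c22 LD3_c45)) = (LP (LK LD1_c4 LD2_c56 LD3_c50)) :=
  Lgr Lrot117 (Lpe (K12.f200450 IH) (Lpr_at (K18.f297967 IH) (Lpr_dt (K14.f247202 IH) (Lpn (LP (LK LD1_c4 LD2_c56 LD3_c50))))))
theorem f168390 : Led Lsl_gt (LP (LK LD1_c2 LD2_c26 LD3_c15)) = (LP (LK LD1_c4 LD2_c56 LD3_c49)) :=
  Lre_g IH (LK LD1_c2 LD2_c26 LD3_c15) (LK LD1_c4 LD2_c56 LD3_c49) Lrfl Lrfl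
theorem f298439 : Led Lsl_gf (LP (LK LD1_c4 LD2_c22 LD3_c45)) = (LP (LK LD1_c4 LD2_c56 LD3_c49)) :=
  Lgr Lrot76 (Lpr_af (f297973 IH) (Lpe (K14.f168386 IH) (Lpr_gt (f168390 IH) (Lpn (LP (LK LD1_c4 LD2_c56 LD3_c49))))))
theorem f315437 : Led Lsl_df (LP (LK LD1_c8 LD2_c27 LD3_c28)) = (LP (LK LD1_c4 LD2_c56 LD3_c49)) :=
  Lgr Lrot155 (Lpr_gt (f315433 IH) (Lpr_ct (f237931 IH) (Lpe (K19.f247205 IH) (Lpe (K17.f216129 IH) (Lpr_dt (K13.f228066 IH) (Lpe (K19.f236460 IH) (Lpr_gf (f298210 IH) (Lpe (K18.f200509 IH) (Lpr_gf (f298439 IH) (Lpn (LP (LK LD1_c4 LD2_c56 LD3_c49))))))))))))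
theorem f315441 : Led Lsl_ft (LP (LK LD1_c4 LD2_c22 LD3_c44)) = (LP (LK LD1_c4 LD2_c56 LD3_c49)) :=
  Lgr Lrot54 (Lpe (K13.f200465 IH) (Lpe (f190020 IH) (Lpr_df (f315437 IH) (Lpn (LP (LK LD1_c4 LD2_c56 LD3_c49))))))
theorem f315447 : Led Lsl_ff (LP (LK LD1_c4 LD2_c22 LD3_c44)) = (LP (LK LD1_c4 LD2_c56 LD3_c49)) :=
  Lgr Lrot3 (Lpr_ft (f315441 IH) (Lpn (LP (LK LD1_c4 LD2_c56 LD3_c49))))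
theorem f315419 : Led Lsl_at (LP (LK LD1_c4 LD2_c22 LD3_c44)) = (LP (LK LD1_c4 LD2_c18 LD3_c61)) :=
  Lgr Lrot100 (Lpr_af (f315397 IH) (Lpn (LP (LK LD1_c4 LD2_c18 LD3_c61))))
theorem f237927 : Led Lsl_dt (LP (LK LD1_c16 LD2_c8 LD3_c4)) = (LP (LK LD1_c8 LD2_c36 LD3_c35)) :=
  Lre_d IH (LK LD1_c16 LD2_c8 LD3_c4) (LK LD1_c8 LD2_c36 LD3_c35) Lrfl Lrfl
theorem f237971 : Led Lsl_ct (LP (LK LD1_c26 LD2_c4 LD3_c38)) = (LP (LK LD1_c16 LD2_c8 LD3_c4)) :=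
  Lre_c IH (LK LD1_c26 LD2_c4 LD3_c38) (LK LD1_c16 LD2_c8 LD3_c4) Lrfl Lrfl
theorem f308922 : Led Lsl_ff (LP (LK LD1_c9 LD2_c44 LD3_c55)) = (LP (LK LD1_c8 LD2_c41 LD3_c7)) :=
  Lgr Lrot23 (Lpe (K18.f299004 IH) (Lpr_ft (K19.f308915 IH) (Lpr_ct (K18.f28905 IH) (Lpn (LP (LK LD1_c8 LD2_c41 LD3_c7))))))
theorem f299271 : Led Lsl_ef (LP (LK LD1_c8 LD2_c41 LD3_c7)) = (LP (LK LD1_c8 LD2_c32 LD3_c57)) :=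
  Lgr Lrot28 (Lpr_ct (K18.f28907 IH) (Lpr_et (K18.f299264 IH) (Lpr_ct (K14.f178391 IH) (Lpn (LP (LK LD1_c8 LD2_c32 LD3_c57))))))
theorem f308941 : Led Lsl_et (LP (LK LD1_c9 LD2_c44 LD3_c55)) = (LP (LK LD1_c17 LD2_c37 LD3_c38)) :=
  Lgr Lrot69 (Lpr_ff (f308922 IH) (Lpr_ef (f299271 IH) (Lpr_ff (K19.f308796 IH) (Lpe (K16.f255668 IH) (Lpe (K18.f255694 IH) (Lpn (LP (LK LD1_c17 LD2_c37 LD3_c38))))))))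
theorem f168504 : Led Lsl_bt (LP (LK LD1_c17 LD2_c54 LD3_c13)) = (LP (LK LD1_c9 LD2_c44 LD3_c55)) :=
  Lre_b IH (LK LD1_c17 LD2_c54 LD3_c13) (LK LD1_c9 LD2_c44 LD3_c55) Lrfl Lrfl
theorem f255777 : Led Lsl_bt (LP (LK LD1_c17 LD2_c37 LD3_c38)) = (LP (LK LD1_c27 LD2_c25 LD3_c46)) :=
  Lre_b IH (LK LD1_c17 LD2_c37 LD3_c38) (LK LD1_c27 LD2_c25 LD3_c46) Lrfl Lrfl
theorem f308945 : Led Lsl_ef (LP (LK LD1_c17 LD2_c54 LD3_c13)) = (LP (LK LD1_c27 LD2_c25 LD3_c46)) :=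
  Lgr Lrot29 (Lpr_bt (f168504 IH) (Lpr_et (f308941 IH) (Lpr_bt (f255777 IH) (Lpn (LP (LK LD1_c27 LD2_c25 LD3_c46))))))
theorem f299003 : Led Lsl_bt (LP (LK LD1_c9 LD2_c44 LD3_c55)) = (LP (LK LD1_c17 LD2_c54 LD3_c13)) :=
  Lre_b IH (LK LD1_c9 LD2_c44 LD3_c55) (LK LD1_c17 LD2_c54 LD3_c13) Lrfl Lrfl
theorem f238796 : Led Lsl_bt (LP (LK LD1_c16 LD2_c16 LD3_c2)) = (LP (LK LD1_c8 LD2_c41 LD3_c7)) :=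
  Lre_b IH (LK LD1_c16 LD2_c16 LD3_c2) (LK LD1_c8 LD2_c41 LD3_c7) Lrfl Lrfl
theorem f308937 : Led Lsl_ft (LP (LK LD1_c17 LD2_c54 LD3_c13)) = (LP (LK LD1_c16 LD2_c16 LD3_c2)) :=
  Lgr Lrot75 (Lpe (f299003 IH) (Lpr_ff (f308922 IH) (Lpe (f238796 IH) (Lpn (LP (LK LD1_c16 LD2_c16 LD3_c2))))))
theorem f255857 : Led Lsl_ft (LP (LK LD1_c17 LD2_c37 LD3_c36)) = (LP (LK LD1_c27 LD2_c25 LD3_c46)) :=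
  Lre_f IH (LK LD1_c17 LD2_c37 LD3_c36) (LK LD1_c27 LD2_c25 LD3_c46) Lrfl Lrfl
theorem f255815 : Led Lsl_et (LP (LK LD1_c9 LD2_c34 LD3_c21)) = (LP (LK LD1_c17 LD2_c37 LD3_c36)) :=
  Lre_e IH (LK LD1_c9 LD2_c34 LD3_c21) (LK LD1_c17 LD2_c37 LD3_c36) Lrfl Lrfl
theorem f251832 : Led Lsl_bt (LP (LK LD1_c8 LD2_c32 LD3_c57)) = (LP (LK LD1_c16 LD2_c2 LD3_c57)) :=
  Lre_b IH (LK LD1_c8 LD2_c32 LD3_c57) (LK LD1_c16 LD2_c2 LD3_c57) Lrfl Lrfl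
theorem f255661 : Led Lsl_bt (LP (LK LD1_c9 LD2_c34 LD3_c21)) = (LP (LK LD1_c4 LD2_c51 LD3_c10)) :=
  Lre_b IH (LK LD1_c9 LD2_c34 LD3_c21) (LK LD1_c4 LD2_c51 LD3_c10) Lrfl Lrfl
theorem f308798 : Led Lsl_ft (LP (LK LD1_c16 LD2_c2 LD3_c57)) = (LP (LK LD1_c9 LD2_c34 LD3_c21)) :=
  Lgr Lrot75 (Lpe (f251832 IH) (Lpr_ff (K19.f308796 IH) (Lpe (f255661 IH) (Lpn (LP (LK LD1_c9 LD2_c34 LD3_c21))))))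
theorem f308950 : Led Lsl_et (LP (LK LD1_c16 LD2_c16 LD3_c2)) = (LP (LK LD1_c16 LD2_c2 LD3_c57)) :=
  Lgr Lrot69 (Lpe (f308937 IH) (Lpr_ef (f308945 IH) (Lpe (f255857 IH) (Lpe (f255815 IH) (Lpe (f308798 IH) (Lpn (LP (LK LD1_c16 LD2_c2 LD3_c57))))))))
theorem f308953 : Led Lsl_ef (LP (LK LD1_c16 LD2_c16 LD3_c2)) = (LP (LK LD1_c16 LD2_c2 LD3_c57)) :=
  Lgr Lrot88 (Lpr_et (f308950 IH) (Lpn (LP (LK LD1_c16 LD2_c2 LD3_c57))))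
theorem f251819 : Led Lsl_bt (LP (LK LD1_c16 LD2_c2 LD3_c57)) = (LP (LK LD1_c8 LD2_c32 LD3_c57)) :=
  Lre_b IH (LK LD1_c16 LD2_c2 LD3_c57) (LK LD1_c8 LD2_c32 LD3_c57) Lrfl Lrfl
theorem f255624 : Led Lsl_bt (LP (LK LD1_c4 LD2_c51 LD3_c10)) = (LP (LK LD1_c9 LD2_c34 LD3_c21)) :=
  Lre_b IH (LK LD1_c4 LD2_c51 LD3_c10) (LK LD1_c9 LD2_c34 LD3_c21) Lrfl Lrfl
theorem f308790 : Led Lsl_ff (LP (LK LD1_c16 LD2_c2 LD3_c57)) = (LP (LK LD1_c9 LD2_c34 LD3_c21)) :=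
  Lgr Lrot25 (Lpr_bt (f251819 IH) (Lpr_ft (K19.f308788 IH) (Lpr_bt (f255624 IH) (Lpn (LP (LK LD1_c9 LD2_c34 LD3_c21))))))
theorem f255844 : Led Lsl_et (LP (LK LD1_c17 LD2_c37 LD3_c36)) = (LP (LK LD1_c9 LD2_c34 LD3_c21)) :=
  Lre_e IH (LK LD1_c17 LD2_c37 LD3_c36) (LK LD1_c9 LD2_c34 LD3_c21) Lrfl Lrfl
theorem f255805 : Led Lsl_ft (LP (LK LD1_c27 LD2_c25 LD3_c46)) = (LP (LK LD1_c17 LD2_c37 LD3_c36)) :=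
  Lre_f IH (LK LD1_c27 LD2_c25 LD3_c46) (LK LD1_c17 LD2_c37 LD3_c36) Lrfl Lrfl
theorem f308948 : Led Lsl_et (LP (LK LD1_c17 LD2_c54 LD3_c13)) = (LP (LK LD1_c27 LD2_c25 LD3_c46)) :=
  Lgr Lrot87 (Lpr_ef (f308945 IH) (Lpn (LP (LK LD1_c27 LD2_c25 LD3_c46))))
theorem f308956 : Led Lsl_ft (LP (LK LD1_c16 LD2_c16 LD3_c2)) = (LP (LK LD1_c17 LD2_c54 LD3_c13)) :=
  Lgr Lrot86 (Lpr_ef (f308953 IH) (Lpr_ff (f308790 IH) (Lpe (f255844 IH) (Lpe (f255805 IH) (Lpe (f308948 IH) (Lpn (LP (LK LD1_c17 LD2_c54 LD3_c13))))))))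
theorem f308952 : Led Lsl_dt (LP (LK LD1_c26 LD2_c13 LD3_c50)) = (LP (LK LD1_c16 LD2_c16 LD3_c2)) :=
  Lre_d IH (LK LD1_c26 LD2_c13 LD3_c50) (LK LD1_c16 LD2_c16 LD3_c2) Lrfl Lrfl
theorem f308947 : Led Lsl_dt (LP (LK LD1_c17 LD2_c54 LD3_c13)) = (LP (LK LD1_c27 LD2_c39 LD3_c43)) :=
  Lre_d IH (LK LD1_c17 LD2_c54 LD3_c13) (LK LD1_c27 LD2_c39 LD3_c43) Lrfl Lrfl
theorem f308958 : Led Lsl_ff (LP (LK LD1_c26 LD2_c13 LD3_c50)) = (LP (LK LD1_c27 LD2_c39 LD3_c43)) :=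
  Lgr Lrot19 (Lpr_dt (f308952 IH) (Lpr_ft (f308956 IH) (Lpr_dt (f308947 IH) (Lpn (LP (LK LD1_c27 LD2_c39 LD3_c43))))))
theorem f308960 : Led Lsl_bt (LP (LK LD1_c26 LD2_c13 LD3_c50)) = (LP (LK LD1_c16 LD2_c16 LD3_c3)) :=
  Lre_b IH (LK LD1_c26 LD2_c13 LD3_c50) (LK LD1_c16 LD2_c16 LD3_c3) Lrfl Lrfl
theorem f299031 : Led Lsl_bt (LP (LK LD1_c17 LD2_c54 LD3_c14)) = (LP (LK LD1_c27 LD2_c39 LD3_c43)) :=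
  Lre_b IH (LK LD1_c17 LD2_c54 LD3_c14) (LK LD1_c27 LD2_c39 LD3_c43) Lrfl Lrfl
theorem f308961 : Led Lsl_ft (LP (LK LD1_c16 LD2_c16 LD3_c3)) = (LP (LK LD1_c17 LD2_c54 LD3_c14)) :=
  Lgr Lrot75 (Lpe (f308960 IH) (Lpr_ff (f308958 IH) (Lpe (f299031 IH) (Lpn (LP (LK LD1_c17 LD2_c54 LD3_c14))))))
theorem f237231 : Led Lsl_dt (LP (LK LD1_c16 LD2_c16 LD3_c3)) = (LP (LK LD1_c8 LD2_c41 LD3_c7)) :=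
  Lre_d IH (LK LD1_c16 LD2_c16 LD3_c3) (LK LD1_c8 LD2_c41 LD3_c7) Lrfl Lrfl
theorem f227045 : Led Lsl_ct (LP (LK LD1_c4 LD2_c3 LD3_c10)) = (LP (LK LD1_c8 LD2_c6 LD3_c51)) :=
  Lre_c IH (LK LD1_c4 LD2_c3 LD3_c10) (LK LD1_c8 LD2_c6 LD3_c51) Lrfl Lrfl
theorem f308972 : Led Lsl_af (LP (LK LD1_c16 LD2_c15 LD3_c61)) = (LP (LK LD1_c17 LD2_c54 LD3_c14)) :=
  Lgr Lrot109 (Lpe (K18.f238020 IH) (Lpr_df (K18.f299140 IH) (Lpe (K18.f227054 IH) (Lpe (K18.f194400 IH) (Lpe (f227045 IH) (Lpe (K18.f299252 IH) (Lpe (K18.f28907 IH) (Lpe (f237231 IH) (Lpr_ft (f308961 IH) (Lpn (LP (LK LD1_c17 LD2_c54 LD3_c14))))))))))))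
theorem f308974 : Led Lsl_at (LP (LK LD1_c16 LD2_c15 LD3_c61)) = (LP (LK LD1_c17 LD2_c54 LD3_c14)) :=
  Lgr Lrot100 (Lpr_af (f308972 IH) (Lpn (LP (LK LD1_c17 LD2_c54 LD3_c14))))
theorem f298218 : Led Lsl_ct (LP (LK LD1_c27 LD2_c39 LD3_c44)) = (LP (LK LD1_c17 LD2_c54 LD3_c14)) :=
  Lre_c IH (LK LD1_c27 LD2_c39 LD3_c44) (LK LD1_c17 LD2_c54 LD3_c14) Lrfl Lrfl
theorem f200495 : Led Lsl_dt (LP (LK LD1_c16 LD2_c20 LD3_c12)) = (LP (LK LD1_c8 LD2_c43 LD3_c20)) :=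
  Lre_d IH (LK LD1_c16 LD2_c20 LD3_c12) (LK LD1_c8 LD2_c43 LD3_c20) Lrfl Lrfl
theorem f168510 : Led Lsl_gt (LP (LK LD1_c17 LD2_c54 LD3_c16)) = (LP (LK LD1_c9 LD2_c44 LD3_c56)) :=
  Lre_g IH (LK LD1_c17 LD2_c54 LD3_c16) (LK LD1_c9 LD2_c44 LD3_c56) Lrfl Lrfl
theorem f298029 : Led Lsl_gt (LP (LK LD1_c16 LD2_c20 LD3_c12)) = (LP (LK LD1_c17 LD2_c54 LD3_c16)) :=
  Lgr Lrot5 (Lpr_ft (K19.f200499 IH) (Lpr_at (K19.f298020 IH) (Lpe (f168510 IH) (Lpn (LP (LK LD1_c17 LD2_c54 LD3_c16))))))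
theorem f298031 : Led Lsl_ct (LP (LK LD1_c17 LD2_c54 LD3_c16)) = (LP (LK LD1_c27 LD2_c39 LD3_c48)) :=
  Lre_c IH (LK LD1_c17 LD2_c54 LD3_c16) (LK LD1_c27 LD2_c39 LD3_c48) Lrfl Lrfl
theorem f298213 : Led Lsl_gf (LP (LK LD1_c24 LD2_c44 LD3_c56)) = (LP (LK LD1_c27 LD2_c39 LD3_c48)) :=
  Lgr Lrot104 (Lpr_ct (K18.f224943 IH) (Lpe (K19.f197719 IH) (Lpe (K18.f197649 IH) (Lpe (K13.f197708 IH) (Lpe (K19.f236460 IH) (Lpr_gf (f298210 IH) (Lpe (f200495 IH) (Lpr_gt (f298029 IH) (Lpr_ct (f298031 IH) (Lpn (LP (LK LD1_c27 LD2_c39 LD3_c48))))))))))))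
theorem f298032 : Led Lsl_ct (LP (LK LD1_c27 LD2_c39 LD3_c48)) = (LP (LK LD1_c17 LD2_c54 LD3_c16)) :=
  Lre_c IH (LK LD1_c27 LD2_c39 LD3_c48) (LK LD1_c17 LD2_c54 LD3_c16) Lrfl Lrfl
theorem f168448 : Led Lsl_dt (LP (LK LD1_c9 LD2_c44 LD3_c55)) = (LP (LK LD1_c17 LD2_c54 LD3_c14)) :=
  Lre_d IH (LK LD1_c9 LD2_c44 LD3_c55) (LK LD1_c17 LD2_c54 LD3_c14) Lrfl Lrfl
theorem f168449 : Led Lsl_ct (LP (LK LD1_c17 LD2_c54 LD3_c14)) = (LP (LK LD1_c27 LD2_c39 LD3_c44)) :=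
  Lre_c IH (LK LD1_c17 LD2_c54 LD3_c14) (LK LD1_c27 LD2_c39 LD3_c44) Lrfl Lrfl
theorem f299029 : Led Lsl_df (LP (LK LD1_c27 LD2_c39 LD3_c44)) = (LP (LK LD1_c27 LD2_c24 LD3_c7)) :=
  Lgr Lrot84 (Lpe (f168449 IH) (Lpe (f168448 IH) (Lpe (K18.f168447 IH) (Lpe (K18.f168509 IH) (Lpe (f168510 IH) (Lpe (f298032 IH) (Lpe (f298213 IH) (Lpr_dt (K18.f224962 IH) (Lpr_gt (K18.f299027 IH) (Lpn (LP (LK LD1_c27 LD2_c24 LD3_c7))))))))))))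
theorem f216213 : Led Lsl_ct (LP (LK LD1_c8 LD2_c2 LD3_c48)) = (LP (LK LD1_c9 LD2_c33 LD3_c30)) :=
  Lgr Lrot59 (Lpr_cf (K17.f216129 IH) (Lpn (LP (LK LD1_c9 LD2_c33 LD3_c30))))
theorem f236470 : Led Lsl_dt (LP (LK LD1_c17 LD2_c37 LD3_c45)) = (LP (LK LD1_c9 LD2_c34 LD3_c26)) :=
  Lre_d IH (LK LD1_c17 LD2_c37 LD3_c45) (LK LD1_c9 LD2_c34 LD3_c26) Lrfl Lrfl
theorem f309013 : Led Lsl_ff (LP (LK LD1_c16 LD2_c15 LD3_c61)) = (LP (LK LD1_c17 LD2_c37 LD3_c45)) :=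
  Lgr Lrot103 (Lpr_at (f308974 IH) (Lpe (f298218 IH) (Lpr_df (f299029 IH) (Lpe (K18.f216222 IH) (Lpe (K18.f27670 IH) (Lpe (f216213 IH) (Lpr_df (K13.f228079 IH) (Lpe (K19.f236460 IH) (Lpe (f236470 IH) (Lpn (LP (LK LD1_c17 LD2_c37 LD3_c45))))))))))))
theorem f309020 : Led Lsl_ft (LP (LK LD1_c16 LD2_c15 LD3_c61)) = (LP (LK LD1_c17 LD2_c37 LD3_c45)) :=
  Lgr Lrot48 (Lpr_ff (f309013 IH) (Lpn (LP (LK LD1_c17 LD2_c37 LD3_c45))))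
theorem f298212 : Led Lsl_ct (LP (LK LD1_c17 LD2_c37 LD3_c45)) = (LP (LK LD1_c27 LD2_c25 LD3_c52)) :=
  Lre_c IH (LK LD1_c17 LD2_c37 LD3_c45) (LK LD1_c27 LD2_c25 LD3_c52) Lrfl Lrfl
theorem f309024 : Led Lsl_ff (LP (LK LD1_c26 LD2_c13 LD3_c47)) = (LP (LK LD1_c27 LD2_c25 LD3_c52)) :=
  Lgr Lrot23 (Lpr_ct (K18.f238020 IH) (Lpr_ft (f309020 IH) (Lpr_ct (f298212 IH) (Lpn (LP (LK LD1_c27 LD2_c25 LD3_c52))))))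
theorem f308976 : Led Lsl_at (LP (LK LD1_c26 LD2_c13 LD3_c47)) = (LP (LK LD1_c27 LD2_c39 LD3_c44)) :=
  Lgr Lrot107 (Lpe (K18.f238033 IH) (Lpr_af (f308972 IH) (Lpe (f298218 IH) (Lpn (LP (LK LD1_c27 LD2_c39 LD3_c44))))))
theorem f298402 : Led Lsl_ct (LP (LK LD1_c26 LD2_c13 LD3_c51)) = (LP (LK LD1_c16 LD2_c16 LD3_c3)) :=
  Lre_c IH (LK LD1_c26 LD2_c13 LD3_c51) (LK LD1_c16 LD2_c16 LD3_c3) Lrfl Lrfl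
theorem f308968 : Led Lsl_ff (LP (LK LD1_c26 LD2_c13 LD3_c51)) = (LP (LK LD1_c27 LD2_c39 LD3_c44)) :=
  Lgr Lrot23 (Lpr_ct (f298402 IH) (Lpr_ft (f308961 IH) (Lpr_ct (f168449 IH) (Lpn (LP (LK LD1_c27 LD2_c39 LD3_c44))))))
theorem f309028 : Led Lsl_at (LP (LK LD1_c26 LD2_c13 LD3_c51)) = (LP (LK LD1_c27 LD2_c25 LD3_c52)) :=
  Lgr Lrot66 (Lpr_ff (f308968 IH) (Lpe (f308976 IH) (Lpr_ff (f309024 IH) (Lpn (LP (LK LD1_c27 LD2_c25 LD3_c52))))))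
theorem f309030 : Led Lsl_af (LP (LK LD1_c26 LD2_c13 LD3_c51)) = (LP (LK LD1_c27 LD2_c25 LD3_c52)) :=
  Lgr Lrot0 (Lpr_at (f309028 IH) (Lpn (LP (LK LD1_c27 LD2_c25 LD3_c52))))
theorem f299032 : Led Lsl_dt (LP (LK LD1_c27 LD2_c39 LD3_c44)) = (LP (LK LD1_c27 LD2_c24 LD3_c7)) :=
  Lgr Lrot42 (Lpr_df (f299029 IH) (Lpn (LP (LK LD1_c27 LD2_c24 LD3_c7))))
theorem f308980 : Led Lsl_af (LP (LK LD1_c25 LD2_c6 LD3_c44)) = (LP (LK LD1_c27 LD2_c24 LD3_c7)) :=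
  Lgr Lrot117 (Lpe (K18.f299140 IH) (Lpr_at (f308976 IH) (Lpr_dt (f299032 IH) (Lpn (LP (LK LD1_c27 LD2_c24 LD3_c7))))))
theorem f227071 : Led Lsl_dt (LP (LK LD1_c25 LD2_c6 LD3_c45)) = (LP (LK LD1_c15 LD2_c16 LD3_c42)) :=
  Lre_d IH (LK LD1_c25 LD2_c6 LD3_c45) (LK LD1_c15 LD2_c16 LD3_c42) Lrfl Lrfl
theorem f227050 : Led Lsl_ft (LP (LK LD1_c15 LD2_c16 LD3_c41)) = (LP (LK LD1_c25 LD2_c6 LD3_c45)) :=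
  Lre_f IH (LK LD1_c15 LD2_c16 LD3_c41) (LK LD1_c25 LD2_c6 LD3_c45) Lrfl Lrfl
theorem f227052 : Led Lsl_at (LP (LK LD1_c25 LD2_c6 LD3_c45)) = (LP (LK LD1_c20 LD2_c2 LD3_c39)) :=
  Lgr Lrot26 (Lpe (f227050 IH) (Lpr_gt (K18.f226988 IH) (Lpr_gt (K18.f227051 IH) (Lpn (LP (LK LD1_c20 LD2_c2 LD3_c39))))))
theorem f227066 : Led Lsl_af (LP (LK LD1_c25 LD2_c6 LD3_c45)) = (LP (LK LD1_c20 LD2_c2 LD3_c39)) :=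
  Lgr Lrot0 (Lpr_at (f227052 IH) (Lpn (LP (LK LD1_c20 LD2_c2 LD3_c39))))
theorem f299155 : Led Lsl_dt (LP (LK LD1_c16 LD2_c16 LD3_c1)) = (LP (LK LD1_c20 LD2_c2 LD3_c39)) :=
  Lgr Lrot44 (Lpr_af (K18.f299147 IH) (Lpe (f227071 IH) (Lpr_af (f227066 IH) (Lpn (LP (LK LD1_c20 LD2_c2 LD3_c39))))))
theorem f227068 : Led Lsl_ct (LP (LK LD1_c20 LD2_c2 LD3_c39)) = (LP (LK LD1_c29 LD2_c16 LD3_c8)) :=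
  Lre_c IH (LK LD1_c20 LD2_c2 LD3_c39) (LK LD1_c29 LD2_c16 LD3_c8) Lrfl Lrfl
theorem f299257 : Led Lsl_df (LP (LK LD1_c26 LD2_c13 LD3_c51)) = (LP (LK LD1_c29 LD2_c16 LD3_c8)) :=
  Lgr Lrot43 (Lpr_ct (f298402 IH) (Lpr_dt (f237231 IH) (Lpr_ct (K18.f28907 IH) (Lpr_dt (K18.f299252 IH) (Lpr_ct (f227045 IH) (Lpr_dt (K18.f194400 IH) (Lpr_ct (K18.f227054 IH) (Lpe (K18.f299140 IH) (Lpr_ct (K18.f238020 IH) (Lpr_dt (K18.f238019 IH) (Lpr_ct (K18.f238025 IH) (Lpr_dt (K17.f28862 IH) (Lpr_ct (K17.f28863 IH) (Lpr_dt (f299155 IH) (Lpr_ct (f227068 IH) (Lpn (LP (LK LD1_c29 LD2_c16 LD3_c8))))))))))))))))))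
theorem f308984 : Led Lsl_ft (LP (LK LD1_c29 LD2_c16 LD3_c8)) = (LP (LK LD1_c27 LD2_c24 LD3_c7)) :=
  Lgr Lrot142 (Lpe (f299257 IH) (Lpr_ct (f298402 IH) (Lpr_dt (f237231 IH) (Lpr_ct (K18.f28907 IH) (Lpr_dt (K18.f299252 IH) (Lpr_ct (f227045 IH) (Lpr_dt (K18.f194400 IH) (Lpr_ct (K18.f227054 IH) (Lpr_af (f308980 IH) (Lpn (LP (LK LD1_c27 LD2_c24 LD3_c7))))))))))))
theorem f308988 : Led Lsl_gt (LP (LK LD1_c29 LD2_c16 LD3_c8)) = (LP (LK LD1_c26 LD2_c13 LD3_c43)) :=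
  Lgr Lrot5 (Lpr_ft (f308984 IH) (Lpe (f308980 IH) (Lpe (K18.f299135 IH) (Lpn (LP (LK LD1_c26 LD2_c13 LD3_c43))))))
theorem f299143 : Led Lsl_dt (LP (LK LD1_c26 LD2_c13 LD3_c47)) = (LP (LK LD1_c25 LD2_c6 LD3_c44)) :=
  Lgr Lrot42 (Lpr_df (K18.f299140 IH) (Lpn (LP (LK LD1_c25 LD2_c6 LD3_c44))))
theorem f238795 : Led Lsl_dt (LP (LK LD1_c8 LD2_c41 LD3_c7)) = (LP (LK LD1_c16 LD2_c16 LD3_c3)) :=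
  Lre_d IH (LK LD1_c8 LD2_c41 LD3_c7) (LK LD1_c16 LD2_c16 LD3_c3) Lrfl Lrfl
theorem f298401 : Led Lsl_ct (LP (LK LD1_c16 LD2_c16 LD3_c3)) = (LP (LK LD1_c26 LD2_c13 LD3_c51)) :=
  Lre_c IH (LK LD1_c16 LD2_c16 LD3_c3) (LK LD1_c26 LD2_c13 LD3_c51) Lrfl Lrfl
theorem f227070 : Led Lsl_ct (LP (LK LD1_c29 LD2_c16 LD3_c8)) = (LP (LK LD1_c20 LD2_c2 LD3_c39)) :=
  Lre_c IH (LK LD1_c29 LD2_c16 LD3_c8) (LK LD1_c20 LD2_c2 LD3_c39) Lrfl Lrfl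
theorem f299181 : Led Lsl_dt (LP (LK LD1_c26 LD2_c13 LD3_c51)) = (LP (LK LD1_c29 LD2_c16 LD3_c8)) :=
  Lgr Lrot173 (Lpe (f298401 IH) (Lpe (f238795 IH) (Lpe (K18.f28905 IH) (Lpe (K18.f227190 IH) (Lpe (K18.f227044 IH) (Lpe (K18.f227060 IH) (Lpe (K18.f227058 IH) (Lpe (f299143 IH) (Lpe (K18.f238033 IH) (Lpe (K18.f238023 IH) (Lpe (K18.f28866 IH) (Lpe (K18.f28871 IH) (Lpe (K18.f28865 IH) (Lpr_df (K18.f299179 IH) (Lpe (f227070 IH) (Lpn (LP (LK LD1_c29 LD2_c16 LD3_c8))))))))))))))))))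
theorem f28844 : Led Lsl_dt (LP (LK LD1_c4 LD2_c21 LD3_c43)) = (LP (LK LD1_c8 LD2_c41 LD3_c2)) :=
  Lre_d IH (LK LD1_c4 LD2_c21 LD3_c43) (LK LD1_c8 LD2_c41 LD3_c2) Lrfl Lrfl
theorem f237928 : Led Lsl_gt (LP (LK LD1_c26 LD2_c4 LD3_c37)) = (LP (LK LD1_c16 LD2_c8 LD3_c4)) :=
  Lre_g IH (LK LD1_c26 LD2_c4 LD3_c37) (LK LD1_c16 LD2_c8 LD3_c4) Lrfl Lrfl
theorem f238016 : Led Lsl_ct (LP (LK LD1_c32 LD2_c3 LD3_c57)) = (LP (LK LD1_c26 LD2_c4 LD3_c37)) :=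
  Lre_c IH (LK LD1_c32 LD2_c3 LD3_c57) (LK LD1_c26 LD2_c4 LD3_c37) Lrfl Lrfl
theorem f308994 : Led Lsl_gf (LP (LK LD1_c26 LD2_c13 LD3_c51)) = (LP (LK LD1_c32 LD2_c3 LD3_c57)) :=
  Lgr Lrot144 (Lpr_dt (f299181 IH) (Lpr_gt (f308988 IH) (Lpr_dt (K18.f28898 IH) (Lpe (K18.f28845 IH) (Lpe (f28844 IH) (Lpe (K17.f238013 IH) (Lpe (f237927 IH) (Lpe (f237928 IH) (Lpe (f238016 IH) (Lpn (LP (LK LD1_c32 LD2_c3 LD3_c57))))))))))))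
theorem f296356 : Led Lsl_ct (LP (LK LD1_c27 LD2_c25 LD3_c52)) = (LP (LK LD1_c17 LD2_c37 LD3_c45)) :=
  Lre_c IH (LK LD1_c27 LD2_c25 LD3_c52) (LK LD1_c17 LD2_c37 LD3_c45) Lrfl Lrfl
theorem f309017 : Led Lsl_ft (LP (LK LD1_c26 LD2_c13 LD3_c47)) = (LP (LK LD1_c27 LD2_c25 LD3_c52)) :=
  Lgr Lrot4 (Lpe (K18.f238033 IH) (Lpr_ff (f309013 IH) (Lpe (f296356 IH) (Lpn (LP (LK LD1_c27 LD2_c25 LD3_c52))))))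
theorem f309032 : Led Lsl_gf (LP (LK LD1_c32 LD2_c3 LD3_c57)) = (LP (LK LD1_c26 LD2_c13 LD3_c47)) :=
  Lgr Lrot47 (Lpe (f308994 IH) (Lpr_af (f309030 IH) (Lpe (f309017 IH) (Lpn (LP (LK LD1_c26 LD2_c13 LD3_c47))))))
theorem f237921 : Led Lsl_ct (LP (LK LD1_c16 LD2_c8 LD3_c4)) = (LP (LK LD1_c26 LD2_c4 LD3_c38)) :=
  Lre_c IH (LK LD1_c16 LD2_c8 LD3_c4) (LK LD1_c26 LD2_c4 LD3_c38) Lrfl Lrfl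
theorem f309036 : Led Lsl_df (LP (LK LD1_c26 LD2_c4 LD3_c38)) = (LP (LK LD1_c31 LD2_c47 LD3_c15)) :=
  Lgr Lrot162 (Lpe (f237921 IH) (Lpe (f237928 IH) (Lpe (f238016 IH) (Lpr_gf (f309032 IH) (Lpr_dt (f299143 IH) (Lpe (K19.f299138 IH) (Lpr_ct (K18.f28849 IH) (Lpr_gt (K18.f226908 IH) (Lpr_ct (K18.f298004 IH) (Lpn (LP (LK LD1_c31 LD2_c47 LD3_c15))))))))))))
theorem f190019 : Led Lsl_ct (LP (LK LD1_c8 LD2_c27 LD3_c28)) = (LP (LK LD1_c15 LD2_c52 LD3_c51)) :=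
  Lre_c IH (LK LD1_c8 LD2_c27 LD3_c28) (LK LD1_c15 LD2_c52 LD3_c51) Lrfl Lrfl
theorem f315451 : Led Lsl_df (LP (LK LD1_c25 LD2_c8 LD3_c29)) = (LP (LK LD1_c15 LD2_c52 LD3_c51)) :=
  Lgr Lrot106 (Lpr_ct (K18.f298004 IH) (Lpe (f309036 IH) (Lpr_ct (f237971 IH) (Lpr_dt (f237927 IH) (Lpr_ct (K18.f237911 IH) (Lpe (f315419 IH) (Lpr_ff (f315447 IH) (Lpe (f315437 IH) (Lpr_ct (f190019 IH) (Lpn (LP (LK LD1_c15 LD2_c52 LD3_c51))))))))))))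
theorem f315458 : Led Lsl_ft (LP (LK LD1_c15 LD2_c52 LD3_c51)) = (LP (LK LD1_c8 LD2_c27 LD3_c25)) :=
  Lre_f IH (LK LD1_c15 LD2_c52 LD3_c51) (LK LD1_c8 LD2_c27 LD3_c25) Lrfl Lrfl
theorem f315459 : Led Lsl_af (LP (LK LD1_c8 LD2_c7 LD3_c0)) = (LP (LK LD1_c8 LD2_c27 LD3_c25)) :=
  Lgr Lrot109 (Lpe (K18.f256147 IH) (Lpe (K17.f237922 IH) (Lpe (K18.f237911 IH) (Lpe (f237927 IH) (Lpe (f237971 IH) (Lpr_df (f309036 IH) (Lpe (K18.f298004 IH) (Lpr_df (f315451 IH) (Lpr_ft (f315458 IH) (Lpn (LP (LK LD1_c8 LD2_c27 LD3_c25))))))))))))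
theorem f216512 : Led Lsl_et (LP (LK LD1_c4 LD2_c14 LD3_c21)) = (LP (LK LD1_c8 LD2_c27 LD3_c25)) :=
  Lre_e IH (LK LD1_c4 LD2_c14 LD3_c21) (LK LD1_c8 LD2_c27 LD3_c25) Lrfl Lrfl
theorem f315472 : Led Lsl_at (LP (LK LD1_c4 LD2_c3 LD3_c13)) = (LP (LK LD1_c4 LD2_c14 LD3_c21)) :=
  Lgr Lrot80 (Lpe (K18.f50959 IH) (Lpr_af (f315459 IH) (Lpe (f216512 IH) (Lpn (LP (LK LD1_c4 LD2_c14 LD3_c21))))))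
theorem f315491 : Led Lsl_ff (LP (LK LD1_c4 LD2_c3 LD3_c13)) = (LP (LK LD1_c2 LD2_c43 LD3_c61)) :=
  Lgr Lrot52 (Lpr_at (f315472 IH) (Lpr_gf (K13.f189978 IH) (Lpr_gf (K10.f188027 IH) (Lpn (LP (LK LD1_c2 LD2_c43 LD3_c61))))))
theorem f315502 : Led Lsl_ft (LP (LK LD1_c4 LD2_c3 LD3_c13)) = (LP (LK LD1_c2 LD2_c43 LD3_c61)) :=
  Lgr Lrot48 (Lpr_ff (f315491 IH) (Lpn (LP (LK LD1_c2 LD2_c43 LD3_c61))))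
theorem f315513 : Led Lsl_af (LP (LK LD1_c4 LD2_c3 LD3_c14)) = (LP (LK LD1_c2 LD2_c43 LD3_c61)) :=
  Lgr Lrot31 (Lpe (K13.f30967 IH) (Lpe (K15.f30977 IH) (Lpr_ft (f315502 IH) (Lpn (LP (LK LD1_c2 LD2_c43 LD3_c61))))))
theorem f315485 : Led Lsl_af (LP (LK LD1_c4 LD2_c3 LD3_c13)) = (LP (LK LD1_c4 LD2_c14 LD3_c21)) :=
  Lgr Lrot0 (Lpr_at (f315472 IH) (Lpn (LP (LK LD1_c4 LD2_c14 LD3_c21))))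
theorem f315521 : Led Lsl_ft (LP (LK LD1_c4 LD2_c3 LD3_c14)) = (LP (LK LD1_c4 LD2_c14 LD3_c21)) :=
  Lgr Lrot101 (Lpr_af (f315513 IH) (Lpe (f315502 IH) (Lpr_af (f315485 IH) (Lpn (LP (LK LD1_c4 LD2_c14 LD3_c21))))))
theorem f315529 : Led Lsl_ff (LP (LK LD1_c4 LD2_c3 LD3_c14)) = (LP (LK LD1_c4 LD2_c14 LD3_c21)) :=
  Lgr Lrot3 (Lpr_ft (f315521 IH) (Lpn (LP (LK LD1_c4 LD2_c14 LD3_c21))))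
theorem f315533 : Led Lsl_ft (LP (LK LD1_c8 LD2_c7 LD3_c2)) = (LP (LK LD1_c8 LD2_c27 LD3_c24)) :=
  Lgr Lrot54 (Lpe (K19.f30968 IH) (Lpr_ff (f315529 IH) (Lpe (K15.f189981 IH) (Lpn (LP (LK LD1_c8 LD2_c27 LD3_c24))))))
theorem f315489 : Led Lsl_af (LP (LK LD1_c8 LD2_c6 LD3_c61)) = (LP (LK LD1_c8 LD2_c27 LD3_c24)) :=
  Lgr Lrot117 (Lpr_dt (K19.f51253 IH) (Lpr_at (f315472 IH) (Lpr_dt (K17.f189982 IH) (Lpn (LP (LK LD1_c8 LD2_c27 LD3_c24))))))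
theorem f51361 : Led Lsl_dt (LP (LK LD1_c4 LD2_c3 LD3_c13)) = (LP (LK LD1_c8 LD2_c6 LD3_c61)) :=
  Lre_d IH (LK LD1_c4 LD2_c3 LD3_c13) (LK LD1_c8 LD2_c6 LD3_c61) Lrfl Lrfl
theorem f315497 : Led Lsl_ft (LP (LK LD1_c8 LD2_c6 LD3_c61)) = (LP (LK LD1_c5 LD2_c36 LD3_c11)) :=
  Lgr Lrot54 (Lpe (f51361 IH) (Lpr_ff (f315491 IH) (Lpe (K15.f178250 IH) (Lpn (LP (LK LD1_c5 LD2_c36 LD3_c11))))))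
theorem f315535 : Led Lsl_af (LP (LK LD1_c8 LD2_c7 LD3_c2)) = (LP (LK LD1_c5 LD2_c36 LD3_c11)) :=
  Lgr Lrot45 (Lpr_ft (f315533 IH) (Lpe (f315489 IH) (Lpr_ft (f315497 IH) (Lpn (LP (LK LD1_c5 LD2_c36 LD3_c11))))))
theorem f51258 : Led Lsl_et (LP (LK LD1_c8 LD2_c7 LD3_c2)) = (LP (LK LD1_c15 LD2_c17 LD3_c6)) :=
  Lre_e IH (LK LD1_c8 LD2_c7 LD3_c2) (LK LD1_c15 LD2_c17 LD3_c6) Lrfl Lrfl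
theorem f187624 : Led Lsl_et (LP (LK LD1_c11 LD2_c4 LD3_c39)) = (LP (LK LD1_c5 LD2_c36 LD3_c11)) :=
  Lre_e IH (LK LD1_c11 LD2_c4 LD3_c39) (LK LD1_c5 LD2_c36 LD3_c11) Lrfl Lrfl
theorem f315550 : Led Lsl_at (LP (LK LD1_c15 LD2_c17 LD3_c6)) = (LP (LK LD1_c11 LD2_c4 LD3_c39)) :=
  Lgr Lrot80 (Lpe (f51258 IH) (Lpr_af (f315535 IH) (Lpe (f187624 IH) (Lpn (LP (LK LD1_c11 LD2_c4 LD3_c39))))))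
theorem f291197 : Led Lsl_dt (LP (LK LD1_c25 LD2_c7 LD3_c12)) = (LP (LK LD1_c15 LD2_c17 LD3_c6)) :=
  Lre_d IH (LK LD1_c25 LD2_c7 LD3_c12) (LK LD1_c15 LD2_c17 LD3_c6) Lrfl Lrfl
theorem f216526 : Led Lsl_dt (LP (LK LD1_c11 LD2_c4 LD3_c39)) = (LP (LK LD1_c19 LD2_c57 LD3_c2)) :=
  Lre_d IH (LK LD1_c11 LD2_c4 LD3_c39) (LK LD1_c19 LD2_c57 LD3_c2) Lrfl Lrfl
theorem f315556 : Led Lsl_af (LP (LK LD1_c25 LD2_c7 LD3_c12)) = (LP (LK LD1_c19 LD2_c57 LD3_c2)) :=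
  Lgr Lrot117 (Lpr_dt (f291197 IH) (Lpr_at (f315550 IH) (Lpr_dt (f216526 IH) (Lpn (LP (LK LD1_c19 LD2_c57 LD3_c2))))))
theorem f315564 : Led Lsl_et (LP (LK LD1_c25 LD2_c7 LD3_c12)) = (LP (LK LD1_c15 LD2_c17 LD3_c7)) :=
  Lre_e IH (LK LD1_c25 LD2_c7 LD3_c12) (LK LD1_c15 LD2_c17 LD3_c7) Lrfl Lrfl
theorem f315565 : Led Lsl_et (LP (LK LD1_c11 LD2_c4 LD3_c28)) = (LP (LK LD1_c19 LD2_c57 LD3_c2)) :=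
  Lre_e IH (LK LD1_c11 LD2_c4 LD3_c28) (LK LD1_c19 LD2_c57 LD3_c2) Lrfl Lrfl
theorem f315566 : Led Lsl_at (LP (LK LD1_c15 LD2_c17 LD3_c7)) = (LP (LK LD1_c11 LD2_c4 LD3_c28)) :=
  Lgr Lrot80 (Lpe (f315564 IH) (Lpr_af (f315556 IH) (Lpe (f315565 IH) (Lpn (LP (LK LD1_c11 LD2_c4 LD3_c28))))))
theorem f52313 : Led Lsl_dt (LP (LK LD1_c8 LD2_c7 LD3_c3)) = (LP (LK LD1_c15 LD2_c17 LD3_c7)) :=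
  Lre_d IH (LK LD1_c8 LD2_c7 LD3_c3) (LK LD1_c15 LD2_c17 LD3_c7) Lrfl Lrfl
theorem f189178 : Led Lsl_dt (LP (LK LD1_c11 LD2_c4 LD3_c28)) = (LP (LK LD1_c5 LD2_c36 LD3_c3)) :=
  Lre_d IH (LK LD1_c11 LD2_c4 LD3_c28) (LK LD1_c5 LD2_c36 LD3_c3) Lrfl Lrfl
theorem f315570 : Led Lsl_af (LP (LK LD1_c8 LD2_c7 LD3_c3)) = (LP (LK LD1_c5 LD2_c36 LD3_c3)) :=
  Lgr Lrot117 (Lpr_dt (f52313 IH) (Lpr_at (f315566 IH) (Lpr_dt (f189178 IH) (Lpn (LP (LK LD1_c5 LD2_c36 LD3_c3))))))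
theorem f50388 : Led Lsl_dt (LP (LK LD1_c4 LD2_c3 LD3_c16)) = (LP (LK LD1_c1 LD2_c58 LD3_c36)) :=
  Lre_d IH (LK LD1_c4 LD2_c3 LD3_c16) (LK LD1_c1 LD2_c58 LD3_c36) Lrfl Lrfl
theorem f290980 : Led Lsl_gt (LP (LK LD1_c6 LD2_c6 LD3_c60)) = (LP (LK LD1_c9 LD2_c33 LD3_c41)) :=
  Lgr Lrot180 (Lpe (K15.f265673 IH) (Lpr_gt (K15.f50389 IH) (Lpr_dt (f50388 IH) (Lpr_gt (K15.f50323 IH) (Lpr_dt (f51361 IH) (Lpr_ct (K19.f290970 IH) (Lpe (K19.f30968 IH) (Lpe (K13.f30967 IH) (Lpe (K15.f50972 IH) (Lpn (LP (LK LD1_c9 LD2_c33 LD3_c41))))))))))))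
theorem f291057 : Led Lsl_ct (LP (LK LD1_c4 LD2_c3 LD3_c14)) = (LP (LK LD1_c2 LD2_c23 LD3_c8)) :=
  Lgr Lrot152 (Lpe (K13.f30967 IH) (Lpe (K15.f50972 IH) (Lpr_gt (K15.f50953 IH) (Lpe (K15.f261325 IH) (Lpr_gt (f290980 IH) (Lpr_ct (K10.f50955 IH) (Lpe (K10.f27663 IH) (Lpe (K0.f27646 IH) (Lpe (K13.f3795 IH) (Lpn (LP (LK LD1_c2 LD2_c23 LD3_c8))))))))))))
theorem f52312 : Led Lsl_et (LP (LK LD1_c8 LD2_c7 LD3_c3)) = (LP (LK LD1_c4 LD2_c3 LD3_c14)) :=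
  Lre_e IH (LK LD1_c8 LD2_c7 LD3_c3) (LK LD1_c4 LD2_c3 LD3_c14) Lrfl Lrfl
theorem f231552 : Led Lsl_et (LP (LK LD1_c2 LD2_c23 LD3_c8)) = (LP (LK LD1_c4 LD2_c50 LD3_c40)) :=
  Lre_e IH (LK LD1_c2 LD2_c23 LD3_c8) (LK LD1_c4 LD2_c50 LD3_c40) Lrfl Lrfl
theorem f291064 : Led Lsl_cf (LP (LK LD1_c8 LD2_c7 LD3_c3)) = (LP (LK LD1_c4 LD2_c50 LD3_c40)) :=
  Lgr Lrot39 (Lpr_et (f52312 IH) (Lpr_ct (f291057 IH) (Lpr_et (f231552 IH) (Lpn (LP (LK LD1_c4 LD2_c50 LD3_c40))))))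
theorem f291093 : Led Lsl_ct (LP (LK LD1_c8 LD2_c7 LD3_c3)) = (LP (LK LD1_c4 LD2_c50 LD3_c40)) :=
  Lgr Lrot59 (Lpr_cf (f291064 IH) (Lpn (LP (LK LD1_c4 LD2_c50 LD3_c40))))
theorem f189177 : Led Lsl_ct (LP (LK LD1_c2 LD2_c43 LD3_c52)) = (LP (LK LD1_c5 LD2_c36 LD3_c3)) :=
  Lre_c IH (LK LD1_c2 LD2_c43 LD3_c52) (LK LD1_c5 LD2_c36 LD3_c3) Lrfl Lrfl
theorem f315573 : Led Lsl_at (LP (LK LD1_c4 LD2_c50 LD3_c40)) = (LP (LK LD1_c2 LD2_c43 LD3_c52)) :=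
  Lgr Lrot107 (Lpe (f291093 IH) (Lpr_af (f315570 IH) (Lpe (f189177 IH) (Lpn (LP (LK LD1_c2 LD2_c43 LD3_c52))))))
theorem f231558 : Led Lsl_ft (LP (LK LD1_c9 LD2_c33 LD3_c27)) = (LP (LK LD1_c4 LD2_c50 LD3_c40)) :=
  Lre_f IH (LK LD1_c9 LD2_c33 LD3_c27) (LK LD1_c4 LD2_c50 LD3_c40) Lrfl Lrfl
theorem f315583 : Led Lsl_ft (LP (LK LD1_c2 LD2_c43 LD3_c52)) = (LP (LK LD1_c5 LD2_c36 LD3_c4)) :=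
  Lre_f IH (LK LD1_c2 LD2_c43 LD3_c52) (LK LD1_c5 LD2_c36 LD3_c4) Lrfl Lrfl
theorem f315584 : Led Lsl_af (LP (LK LD1_c9 LD2_c33 LD3_c27)) = (LP (LK LD1_c5 LD2_c36 LD3_c4)) :=
  Lgr Lrot45 (Lpr_ft (f231558 IH) (Lpr_at (f315573 IH) (Lpr_ft (f315583 IH) (Lpn (LP (LK LD1_c5 LD2_c36 LD3_c4))))))
theorem f313103 : Led Lsl_dt (LP (LK LD1_c2 LD2_c43 LD3_c53)) = (LP (LK LD1_c5 LD2_c36 LD3_c4)) :=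
  Lre_d IH (LK LD1_c2 LD2_c43 LD3_c53) (LK LD1_c5 LD2_c36 LD3_c4) Lrfl Lrfl
theorem f199421 : Led Lsl_at (LP (LK LD1_c5 LD2_c35 LD3_c23)) = (LP (LK LD1_c2 LD2_c43 LD3_c53)) :=
  Lre_a IH (LK LD1_c5 LD2_c35 LD3_c23) (LK LD1_c2 LD2_c43 LD3_c53) Lrfl Lrfl
theorem f315593 : Led Lsl_dt (LP (LK LD1_c9 LD2_c33 LD3_c27)) = (LP (LK LD1_c5 LD2_c35 LD3_c23)) :=
  Lgr Lrot44 (Lpr_af (f315584 IH) (Lpe (f313103 IH) (Lpe (f199421 IH) (Lpn (LP (LK LD1_c5 LD2_c35 LD3_c23))))))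
theorem f199367 : Led Lsl_et (LP (LK LD1_c4 LD2_c4 LD3_c36)) = (LP (LK LD1_c8 LD2_c10 LD3_c2)) :=
  Lre_e IH (LK LD1_c4 LD2_c4 LD3_c36) (LK LD1_c8 LD2_c10 LD3_c2) Lrfl Lrfl
theorem f199402 : Led Lsl_ft (LP (LK LD1_c8 LD2_c10 LD3_c2)) = (LP (LK LD1_c15 LD2_c22 LD3_c55)) :=
  Lre_f IH (LK LD1_c8 LD2_c10 LD3_c2) (LK LD1_c15 LD2_c22 LD3_c55) Lrfl Lrfl
theorem f199403 : Led Lsl_et (LP (LK LD1_c5 LD2_c35 LD3_c20)) = (LP (LK LD1_c2 LD2_c43 LD3_c35)) :=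
  Lre_e IH (LK LD1_c5 LD2_c35 LD3_c20) (LK LD1_c2 LD2_c43 LD3_c35) Lrfl Lrfl
theorem f199404 : Led Lsl_ft (LP (LK LD1_c11 LD2_c2 LD3_c52)) = (LP (LK LD1_c5 LD2_c35 LD3_c20)) :=
  Lre_f IH (LK LD1_c11 LD2_c2 LD3_c52) (LK LD1_c5 LD2_c35 LD3_c20) Lrfl Lrfl
theorem f199405 : Led Lsl_et (LP (LK LD1_c15 LD2_c22 LD3_c55)) = (LP (LK LD1_c11 LD2_c2 LD3_c52)) :=
  Lgr Lrot69 (Lpe (f199402 IH) (Lpe (f199367 IH) (Lpr_ff (K19.f199375 IH) (Lpe (f199403 IH) (Lpe (f199404 IH) (Lpn (LP (LK LD1_c11 LD2_c2 LD3_c52))))))))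
theorem f199242 : Led Lsl_ct (LP (LK LD1_c8 LD2_c10 LD3_c4)) = (LP (LK LD1_c15 LD2_c22 LD3_c55)) :=
  Lre_c IH (LK LD1_c8 LD2_c10 LD3_c4) (LK LD1_c15 LD2_c22 LD3_c55) Lrfl Lrfl
theorem f189228 : Led Lsl_ct (LP (LK LD1_c11 LD2_c2 LD3_c52)) = (LP (LK LD1_c5 LD2_c35 LD3_c23)) :=
  Lre_c IH (LK LD1_c11 LD2_c2 LD3_c52) (LK LD1_c5 LD2_c35 LD3_c23) Lrfl Lrfl
theorem f199408 : Led Lsl_ef (LP (LK LD1_c8 LD2_c10 LD3_c4)) = (LP (LK LD1_c5 LD2_c35 LD3_c23)) :=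
  Lgr Lrot28 (Lpr_ct (f199242 IH) (Lpr_et (f199405 IH) (Lpr_ct (f189228 IH) (Lpn (LP (LK LD1_c5 LD2_c35 LD3_c23))))))
theorem f315324 : Led Lsl_ff (LP (LK LD1_c2 LD2_c23 LD3_c24)) = (LP (LK LD1_c4 LD2_c18 LD3_c59)) :=
  Lgr Lrot19 (Lpe (K15.f199193 IH) (Lpr_ft (K13.f192814 IH) (Lpr_dt (f315318 IH) (Lpn (LP (LK LD1_c4 LD2_c18 LD3_c59))))))
theorem f199217 : Led Lsl_ft (LP (LK LD1_c4 LD2_c51 LD3_c9)) = (LP (LK LD1_c9 LD2_c34 LD3_c20)) :=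
  Lre_f IH (LK LD1_c4 LD2_c51 LD3_c9) (LK LD1_c9 LD2_c34 LD3_c20) Lrfl Lrfl
theorem f315449 : Led Lsl_et (LP (LK LD1_c9 LD2_c34 LD3_c20)) = (LP (LK LD1_c4 LD2_c56 LD3_c49)) :=
  Lgr Lrot69 (Lpe (f199217 IH) (Lpe (K15.f199196 IH) (Lpr_ff (f315324 IH) (Lpe (f315395 IH) (Lpr_ff (f315447 IH) (Lpn (LP (LK LD1_c4 LD2_c56 LD3_c49))))))))
theorem f315607 : Led Lsl_ef (LP (LK LD1_c9 LD2_c33 LD3_c27)) = (LP (LK LD1_c8 LD2_c27 LD3_c28)) :=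
  Lgr Lrot73 (Lpr_dt (f315593 IH) (Lpe (f199408 IH) (Lpr_dt (K15.f199215 IH) (Lpr_et (f315449 IH) (Lpe (f315437 IH) (Lpn (LP (LK LD1_c8 LD2_c27 LD3_c28))))))))
theorem f315618 : Led Lsl_et (LP (LK LD1_c9 LD2_c33 LD3_c27)) = (LP (LK LD1_c8 LD2_c27 LD3_c28)) :=
  Lgr Lrot87 (Lpr_ef (f315607 IH) (Lpn (LP (LK LD1_c8 LD2_c27 LD3_c28))))
theorem f27905 : Led Lsl_et (LP (LK LD1_c4 LD2_c14 LD3_c31)) = (LP (LK LD1_c2 LD2_c4 LD3_c38)) :=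
  Lre_e IH (LK LD1_c4 LD2_c14 LD3_c31) (LK LD1_c2 LD2_c4 LD3_c38) Lrfl Lrfl
theorem f231553 : Led Lsl_bf (LP (LK LD1_c4 LD2_c14 LD3_c31)) = (LP (LK LD1_c4 LD2_c50 LD3_c40)) :=
  Lgr Lrot96 (Lpr_et (f27905 IH) (Lpr_bt (K13.f231548 IH) (Lpr_et (f231552 IH) (Lpn (LP (LK LD1_c4 LD2_c50 LD3_c40))))))
theorem f231557 : Led Lsl_ft (LP (LK LD1_c4 LD2_c14 LD3_c31)) = (LP (LK LD1_c8 LD2_c27 LD3_c48)) :=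
  Lre_f IH (LK LD1_c4 LD2_c14 LD3_c31) (LK LD1_c8 LD2_c27 LD3_c48) Lrfl Lrfl
theorem f231559 : Led Lsl_bt (LP (LK LD1_c8 LD2_c27 LD3_c48)) = (LP (LK LD1_c9 LD2_c33 LD3_c27)) :=
  Lgr Lrot35 (Lpe (f231557 IH) (Lpr_bf (f231553 IH) (Lpe (f231558 IH) (Lpn (LP (LK LD1_c9 LD2_c33 LD3_c27))))))
theorem f190005 : Led Lsl_ft (LP (LK LD1_c4 LD2_c14 LD3_c22)) = (LP (LK LD1_c8 LD2_c27 LD3_c28)) :=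
  Lre_f IH (LK LD1_c4 LD2_c14 LD3_c22) (LK LD1_c8 LD2_c27 LD3_c28) Lrfl Lrfl
theorem f190006 : Led Lsl_ft (LP (LK LD1_c8 LD2_c37 LD3_c52)) = (LP (LK LD1_c4 LD2_c19 LD3_c57)) :=
  Lre_f IH (LK LD1_c8 LD2_c37 LD3_c52) (LK LD1_c4 LD2_c19 LD3_c57) Lrfl Lrfl
theorem f190007 : Led Lsl_bt (LP (LK LD1_c8 LD2_c27 LD3_c28)) = (LP (LK LD1_c8 LD2_c37 LD3_c52)) :=
  Lgr Lrot35 (Lpe (f190005 IH) (Lpr_bf (K19.f189998 IH) (Lpe (f190006 IH) (Lpn (LP (LK LD1_c8 LD2_c37 LD3_c52))))))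
theorem f315666 : Led Lsl_ef (LP (LK LD1_c8 LD2_c27 LD3_c48)) = (LP (LK LD1_c8 LD2_c37 LD3_c52)) :=
  Lgr Lrot29 (Lpr_bt (f231559 IH) (Lpr_et (f315618 IH) (Lpr_bt (f190007 IH) (Lpn (LP (LK LD1_c8 LD2_c37 LD3_c52))))))
theorem f231567 : Led Lsl_ft (LP (LK LD1_c8 LD2_c27 LD3_c48)) = (LP (LK LD1_c4 LD2_c14 LD3_c31)) :=
  Lre_f IH (LK LD1_c8 LD2_c27 LD3_c48) (LK LD1_c4 LD2_c14 LD3_c31) Lrfl Lrfl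
theorem f190021 : Led Lsl_ft (LP (LK LD1_c4 LD2_c19 LD3_c57)) = (LP (LK LD1_c8 LD2_c37 LD3_c52)) :=
  Lre_f IH (LK LD1_c4 LD2_c19 LD3_c57) (LK LD1_c8 LD2_c37 LD3_c52) Lrfl Lrfl
theorem f315670 : Led Lsl_ft (LP (LK LD1_c2 LD2_c4 LD3_c38)) = (LP (LK LD1_c2 LD2_c7 LD3_c27)) :=
  Lgr Lrot86 (Lpe (f27905 IH) (Lpe (f231567 IH) (Lpr_ef (f315666 IH) (Lpe (f190021 IH) (Lpe (K19.f189997 IH) (Lpn (LP (LK LD1_c2 LD2_c7 LD3_c27))))))))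
theorem f315674 : Led Lsl_ff (LP (LK LD1_c2 LD2_c4 LD3_c38)) = (LP (LK LD1_c2 LD2_c7 LD3_c27)) :=
  Lgr Lrot3 (Lpr_ft (f315670 IH) (Lpn (LP (LK LD1_c2 LD2_c7 LD3_c27))))
theorem f315678 : Led Lsl_at (LP (LK LD1_c2 LD2_c4 LD3_c38)) = (LP (LK LD1_c1 LD2_c59 LD3_c11)) :=
  Lgr Lrot26 (Lpr_ff (f315674 IH) (Lpe (K13.f191285 IH) (Lpe (K10.f189867 IH) (Lpn (LP (LK LD1_c1 LD2_c59 LD3_c11))))))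
theorem f225645 : Led Lsl_et (LP (LK LD1_c1 LD2_c59 LD3_c11)) = (LP (LK LD1_c4 LD2_c4 LD3_c29)) :=
  Lre_e IH (LK LD1_c1 LD2_c59 LD3_c11) (LK LD1_c4 LD2_c4 LD3_c29) Lrfl Lrfl
theorem f315682 : Led Lsl_af (LP (LK LD1_c4 LD2_c14 LD3_c31)) = (LP (LK LD1_c4 LD2_c4 LD3_c29)) :=
  Lgr Lrot50 (Lpr_et (f27905 IH) (Lpr_at (f315678 IH) (Lpr_et (f225645 IH) (Lpn (LP (LK LD1_c4 LD2_c4 LD3_c29))))))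
theorem f189375 : Led Lsl_ct (LP (LK LD1_c4 LD2_c14 LD3_c31)) = (LP (LK LD1_c8 LD2_c27 LD3_c47)) :=
  Lre_c IH (LK LD1_c4 LD2_c14 LD3_c31) (LK LD1_c8 LD2_c27 LD3_c47) Lrfl Lrfl
theorem f314938 : Led Lsl_ct (LP (LK LD1_c8 LD2_c9 LD3_c58)) = (LP (LK LD1_c4 LD2_c4 LD3_c29)) :=
  Lre_c IH (LK LD1_c8 LD2_c9 LD3_c58) (LK LD1_c4 LD2_c4 LD3_c29) Lrfl Lrfl
theorem f315688 : Led Lsl_at (LP (LK LD1_c8 LD2_c27 LD3_c47)) = (LP (LK LD1_c8 LD2_c9 LD3_c58)) :=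
  Lgr Lrot107 (Lpe (f189375 IH) (Lpr_af (f315682 IH) (Lpe (f314938 IH) (Lpn (LP (LK LD1_c8 LD2_c9 LD3_c58))))))
theorem f315695 : Led Lsl_af (LP (LK LD1_c8 LD2_c27 LD3_c47)) = (LP (LK LD1_c8 LD2_c9 LD3_c58)) :=
  Lgr Lrot0 (Lpr_at (f315688 IH) (Lpn (LP (LK LD1_c8 LD2_c9 LD3_c58))))
theorem f231521 : Led Lsl_et (LP (LK LD1_c8 LD2_c27 LD3_c47)) = (LP (LK LD1_c4 LD2_c14 LD3_c33)) :=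
  Lre_e IH (LK LD1_c8 LD2_c27 LD3_c47) (LK LD1_c4 LD2_c14 LD3_c33) Lrfl Lrfl
theorem f227364 : Led Lsl_et (LP (LK LD1_c4 LD2_c4 LD3_c33)) = (LP (LK LD1_c8 LD2_c9 LD3_c58)) :=
  Lre_e IH (LK LD1_c4 LD2_c4 LD3_c33) (LK LD1_c8 LD2_c9 LD3_c58) Lrfl Lrfl
theorem f315697 : Led Lsl_at (LP (LK LD1_c4 LD2_c14 LD3_c33)) = (LP (LK LD1_c4 LD2_c4 LD3_c33)) :=
  Lgr Lrot80 (Lpe (f231521 IH) (Lpr_af (f315695 IH) (Lpe (f227364 IH) (Lpn (LP (LK LD1_c4 LD2_c4 LD3_c33))))))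
theorem f32048 : Led Lsl_dt (LP (LK LD1_c8 LD2_c27 LD3_c50)) = (LP (LK LD1_c4 LD2_c14 LD3_c33)) :=
  Lre_d IH (LK LD1_c8 LD2_c27 LD3_c50) (LK LD1_c4 LD2_c14 LD3_c33) Lrfl Lrfl
theorem f194200 : Led Lsl_dt (LP (LK LD1_c4 LD2_c4 LD3_c33)) = (LP (LK LD1_c8 LD2_c9 LD3_c60)) :=
  Lre_d IH (LK LD1_c4 LD2_c4 LD3_c33) (LK LD1_c8 LD2_c9 LD3_c60) Lrfl Lrfl
theorem f315699 : Led Lsl_af (LP (LK LD1_c8 LD2_c27 LD3_c50)) = (LP (LK LD1_c8 LD2_c9 LD3_c60)) :=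
  Lgr Lrot117 (Lpr_dt (f32048 IH) (Lpr_at (f315697 IH) (Lpr_dt (f194200 IH) (Lpn (LP (LK LD1_c8 LD2_c9 LD3_c60))))))
theorem f255279 : Led Lsl_gf (LP (LK LD1_c8 LD2_c27 LD3_c50)) = (LP (LK LD1_c10 LD2_c0 LD3_c57)) :=
  Lgr Lrot143 (Lpr_dt (f32048 IH) (Lpe (K13.f27890 IH) (Lpe (K12.f8102 IH) (Lpe (K13.f166424 IH) (Lpe (K13.f227295 IH) (Lpe (K13.f177541 IH) (Lpe (K13.f182028 IH) (Lpr_gt (K14.f255274 IH) (Lpr_dt (K14.f255278 IH) (Lpn (LP (LK LD1_c10 LD2_c0 LD3_c57))))))))))))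
theorem f315705 : Led Lsl_ft (LP (LK LD1_c8 LD2_c14 LD3_c20)) = (LP (LK LD1_c8 LD2_c9 LD3_c60)) :=
  Lgr Lrot2 (Lpr_gt (K14.f255311 IH) (Lpe (f255279 IH) (Lpr_af (f315699 IH) (Lpn (LP (LK LD1_c8 LD2_c9 LD3_c60))))))
theorem f315711 : Led Lsl_ff (LP (LK LD1_c8 LD2_c14 LD3_c20)) = (LP (LK LD1_c8 LD2_c9 LD3_c60)) :=
  Lgr Lrot3 (Lpr_ft (f315705 IH) (Lpn (LP (LK LD1_c8 LD2_c9 LD3_c60))))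
theorem f31581 : Led Lsl_ct (LP (LK LD1_c8 LD2_c9 LD3_c61)) = (LP (LK LD1_c4 LD2_c4 LD3_c35)) :=
  Lre_c IH (LK LD1_c8 LD2_c9 LD3_c61) (LK LD1_c4 LD2_c4 LD3_c35) Lrfl Lrfl
theorem f201381 : Led Lsl_gf (LP (LK LD1_c8 LD2_c9 LD3_c61)) = (LP (LK LD1_c10 LD2_c4 LD3_c11)) :=
  Lgr Lrot172 (Lpr_ct (f31581 IH) (Lpr_dt (K15.f31580 IH) (Lpe (K10.f28790 IH) (Lpe (K10.f31578 IH) (Lpe (K11.f201379 IH) (Lpr_gf (K11.f201373 IH) (Lpr_dt (K13.f197831 IH) (Lpr_gt (K13.f197832 IH) (Lpr_ct (K13.f201378 IH) (Lpn (LP (LK LD1_c10 LD2_c4 LD3_c11))))))))))))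
theorem f315717 : Led Lsl_at (LP (LK LD1_c8 LD2_c14 LD3_c20)) = (LP (LK LD1_c8 LD2_c9 LD3_c61)) :=
  Lgr Lrot26 (Lpr_ff (f315711 IH) (Lpr_gt (K13.f227362 IH) (Lpe (f201381 IH) (Lpn (LP (LK LD1_c8 LD2_c9 LD3_c61))))))
theorem f195548 : Led Lsl_et (LP (LK LD1_c15 LD2_c29 LD3_c59)) = (LP (LK LD1_c8 LD2_c14 LD3_c20)) :=
  Lre_e IH (LK LD1_c15 LD2_c29 LD3_c59) (LK LD1_c8 LD2_c14 LD3_c20) Lrfl Lrfl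
theorem f240976 : Led Lsl_et (LP (LK LD1_c8 LD2_c9 LD3_c61)) = (LP (LK LD1_c15 LD2_c22 LD3_c45)) :=
  Lre_e IH (LK LD1_c8 LD2_c9 LD3_c61) (LK LD1_c15 LD2_c22 LD3_c45) Lrfl Lrfl
theorem f315725 : Led Lsl_af (LP (LK LD1_c15 LD2_c29 LD3_c59)) = (LP (LK LD1_c15 LD2_c22 LD3_c45)) :=
  Lgr Lrot50 (Lpr_et (f195548 IH) (Lpr_at (f315717 IH) (Lpr_et (f240976 IH) (Lpn (LP (LK LD1_c15 LD2_c22 LD3_c45))))))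
theorem f195538 : Led Lsl_dt (LP (LK LD1_c15 LD2_c29 LD3_c59)) = (LP (LK LD1_c25 LD2_c23 LD3_c10)) :=
  Lre_d IH (LK LD1_c15 LD2_c29 LD3_c59) (LK LD1_c25 LD2_c23 LD3_c10) Lrfl Lrfl
theorem f211653 : Led Lsl_dt (LP (LK LD1_c25 LD2_c14 LD3_c35)) = (LP (LK LD1_c15 LD2_c22 LD3_c45)) :=
  Lre_d IH (LK LD1_c25 LD2_c14 LD3_c35) (LK LD1_c15 LD2_c22 LD3_c45) Lrfl Lrfl
theorem f315783 : Led Lsl_at (LP (LK LD1_c25 LD2_c23 LD3_c10)) = (LP (LK LD1_c25 LD2_c14 LD3_c35)) :=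
  Lgr Lrot51 (Lpe (f195538 IH) (Lpr_af (f315725 IH) (Lpe (f211653 IH) (Lpn (LP (LK LD1_c25 LD2_c14 LD3_c35))))))
theorem f195540 : Led Lsl_et (LP (LK LD1_c15 LD2_c30 LD3_c0)) = (LP (LK LD1_c25 LD2_c23 LD3_c10)) :=
  Lre_e IH (LK LD1_c15 LD2_c30 LD3_c0) (LK LD1_c25 LD2_c23 LD3_c10) Lrfl Lrfl
theorem f240955 : Led Lsl_df (LP (LK LD1_c5 LD2_c6 LD3_c46)) = (LP (LK LD1_c4 LD2_c3 LD3_c34)) :=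
  Lgr Lrot38 (Lpr_dt (K13.f240949 IH) (Lpn (LP (LK LD1_c4 LD2_c3 LD3_c34))))
theorem f240969 : Led Lsl_df (LP (LK LD1_c4 LD2_c19 LD3_c56)) = (LP (LK LD1_c8 LD2_c9 LD3_c61)) :=
  Lgr Lrot155 (Lpe (K13.f189871 IH) (Lpr_ct (K13.f31192 IH) (Lpr_gt (K11.f31189 IH) (Lpr_ct (K13.f28964 IH) (Lpe (f240955 IH) (Lpe (K13.f204954 IH) (Lpe (K13.f165476 IH) (Lpe (K13.f201376 IH) (Lpr_gf (K13.f240962 IH) (Lpn (LP (LK LD1_c8 LD2_c9 LD3_c61))))))))))))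
theorem f235966 : Led Lsl_et (LP (LK LD1_c4 LD2_c19 LD3_c56)) = (LP (LK LD1_c8 LD2_c37 LD3_c49)) :=
  Lre_e IH (LK LD1_c4 LD2_c19 LD3_c56) (LK LD1_c8 LD2_c37 LD3_c49) Lrfl Lrfl
theorem f201394 : Led Lsl_et (LP (LK LD1_c15 LD2_c22 LD3_c45)) = (LP (LK LD1_c8 LD2_c9 LD3_c61)) :=
  Lre_e IH (LK LD1_c15 LD2_c22 LD3_c45) (LK LD1_c8 LD2_c9 LD3_c61) Lrfl Lrfl
theorem f240974 : Led Lsl_et (LP (LK LD1_c16 LD2_c9 LD3_c54)) = (LP (LK LD1_c25 LD2_c14 LD3_c35)) :=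
  Lgr Lrot71 (Lpe (K14.f191300 IH) (Lpe (f235966 IH) (Lpr_df (f240969 IH) (Lpe (f201394 IH) (Lpe (f211653 IH) (Lpn (LP (LK LD1_c25 LD2_c14 LD3_c35))))))))
theorem f240978 : Led Lsl_ef (LP (LK LD1_c16 LD2_c9 LD3_c54)) = (LP (LK LD1_c25 LD2_c14 LD3_c35)) :=
  Lgr Lrot88 (Lpr_et (f240974 IH) (Lpn (LP (LK LD1_c25 LD2_c14 LD3_c35))))
theorem f315787 : Led Lsl_af (LP (LK LD1_c15 LD2_c30 LD3_c0)) = (LP (LK LD1_c16 LD2_c9 LD3_c54)) :=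
  Lgr Lrot50 (Lpr_et (f195540 IH) (Lpr_at (f315783 IH) (Lpe (f240978 IH) (Lpn (LP (LK LD1_c16 LD2_c9 LD3_c54))))))
theorem f195545 : Led Lsl_dt (LP (LK LD1_c15 LD2_c30 LD3_c0)) = (LP (LK LD1_c8 LD2_c14 LD3_c21)) :=
  Lre_d IH (LK LD1_c15 LD2_c30 LD3_c0) (LK LD1_c8 LD2_c14 LD3_c21) Lrfl Lrfl
theorem f315791 : Led Lsl_at (LP (LK LD1_c8 LD2_c14 LD3_c21)) = (LP (LK LD1_c8 LD2_c37 LD3_c49)) :=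
  Lgr Lrot51 (Lpe (f195545 IH) (Lpr_af (f315787 IH) (Lpe (K14.f191300 IH) (Lpn (LP (LK LD1_c8 LD2_c37 LD3_c49))))))
theorem f195464 : Led Lsl_ct (LP (LK LD1_c4 LD2_c6 LD3_c55)) = (LP (LK LD1_c8 LD2_c14 LD3_c21)) :=
  Lre_c IH (LK LD1_c4 LD2_c6 LD3_c55) (LK LD1_c8 LD2_c14 LD3_c21) Lrfl Lrfl
theorem f190004 : Led Lsl_ct (LP (LK LD1_c8 LD2_c37 LD3_c49)) = (LP (LK LD1_c4 LD2_c19 LD3_c57)) :=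
  Lre_c IH (LK LD1_c8 LD2_c37 LD3_c49) (LK LD1_c4 LD2_c19 LD3_c57) Lrfl Lrfl
theorem f315795 : Led Lsl_af (LP (LK LD1_c4 LD2_c6 LD3_c55)) = (LP (LK LD1_c4 LD2_c19 LD3_c57)) :=
  Lgr Lrot68 (Lpr_ct (f195464 IH) (Lpr_at (f315791 IH) (Lpr_ct (f190004 IH) (Lpn (LP (LK LD1_c4 LD2_c19 LD3_c57))))))
theorem f195493 : Led Lsl_gt (LP (LK LD1_c8 LD2_c14 LD3_c23)) = (LP (LK LD1_c4 LD2_c6 LD3_c55)) :=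
  Lre_g IH (LK LD1_c8 LD2_c14 LD3_c23) (LK LD1_c4 LD2_c6 LD3_c55) Lrfl Lrfl
theorem f315813 : Led Lsl_gf (LP (LK LD1_c8 LD2_c14 LD3_c23)) = (LP (LK LD1_c8 LD2_c37 LD3_c52)) :=
  Lgr Lrot47 (Lpr_gt (f195493 IH) (Lpr_af (f315795 IH) (Lpe (f190006 IH) (Lpn (LP (LK LD1_c8 LD2_c37 LD3_c52))))))
theorem f29195 : Led Lsl_et (LP (LK LD1_c1 LD2_c56 LD3_c57)) = (LP (LK LD1_c4 LD2_c0 LD3_c21)) :=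
  Lre_e IH (LK LD1_c1 LD2_c56 LD3_c57) (LK LD1_c4 LD2_c0 LD3_c21) Lrfl Lrfl
theorem f1570 : Led Lsl_et (LP (LK LD1_c9 LD2_c36 LD3_c33)) = (LP (LK LD1_c4 LD2_c52 LD3_c5)) :=
  Lre_e IH (LK LD1_c9 LD2_c36 LD3_c33) (LK LD1_c4 LD2_c52 LD3_c5) Lrfl Lrfl
theorem f314656 : Led Lsl_df (LP (LK LD1_c8 LD2_c14 LD3_c23)) = (LP (LK LD1_c9 LD2_c36 LD3_c33)) :=
  Lgr Lrot170 (Lpr_gt (f195493 IH) (Lpr_df (K19.f314649 IH) (Lpr_et (K19.f232282 IH) (Lpe (K14.f232270 IH) (Lpr_dt (K12.f173348 IH) (Lpr_gt (K12.f193266 IH) (Lpe (K1.f29180 IH) (Lpr_et (f29195 IH) (Lpr_gt (K19.f30655 IH) (Lpe (f1570 IH) (Lpn (LP (LK LD1_c9 LD2_c36 LD3_c33)))))))))))))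
theorem f1554 : Led Lsl_et (LP (LK LD1_c1 LD2_c8 LD3_c58)) = (LP (LK LD1_c2 LD2_c23 LD3_c48)) :=
  Lre_e IH (LK LD1_c1 LD2_c8 LD3_c58) (LK LD1_c2 LD2_c23 LD3_c48) Lrfl Lrfl
theorem f30663 : Led Lsl_et (LP (LK LD1_c2 LD2_c23 LD3_c14)) = (LP (LK LD1_c4 LD2_c50 LD3_c52)) :=
  Lre_e IH (LK LD1_c2 LD2_c23 LD3_c14) (LK LD1_c4 LD2_c50 LD3_c52) Lrfl Lrfl
theorem f305005 : Led Lsl_at (LP (LK LD1_c16 LD2_c9 LD3_c40)) = (LP (LK LD1_c8 LD2_c37 LD3_c39)) :=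
  Lre_a IH (LK LD1_c16 LD2_c9 LD3_c40) (LK LD1_c8 LD2_c37 LD3_c39) Lrfl Lrfl
theorem f305006 : Led Lsl_ft (LP (LK LD1_c8 LD2_c40 LD3_c37)) = (LP (LK LD1_c16 LD2_c9 LD3_c40)) :=
  Lgr Lrot2 (Lpe (K19.f239121 IH) (Lpr_gt (K19.f305003 IH) (Lpe (f305005 IH) (Lpn (LP (LK LD1_c16 LD2_c9 LD3_c40))))))
theorem f305050 : Led Lsl_ff (LP (LK LD1_c8 LD2_c40 LD3_c37)) = (LP (LK LD1_c16 LD2_c9 LD3_c40)) :=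
  Lgr Lrot3 (Lpr_ft (f305006 IH) (Lpn (LP (LK LD1_c16 LD2_c9 LD3_c40))))
theorem f298930 : Led Lsl_ct (LP (LK LD1_c8 LD2_c40 LD3_c37)) = (LP (LK LD1_c4 LD2_c51 LD3_c29)) :=
  Lgr Lrot59 (Lpr_cf (K19.f298881 IH) (Lpn (LP (LK LD1_c4 LD2_c51 LD3_c29))))
theorem f305053 : Led Lsl_ct (LP (LK LD1_c8 LD2_c37 LD3_c38)) = (LP (LK LD1_c16 LD2_c9 LD3_c40)) :=
  Lre_c IH (LK LD1_c8 LD2_c37 LD3_c38) (LK LD1_c16 LD2_c9 LD3_c40) Lrfl Lrfl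
theorem f305054 : Led Lsl_ft (LP (LK LD1_c4 LD2_c51 LD3_c29)) = (LP (LK LD1_c8 LD2_c37 LD3_c38)) :=
  Lgr Lrot4 (Lpe (f298930 IH) (Lpr_ff (f305050 IH) (Lpe (f305053 IH) (Lpn (LP (LK LD1_c8 LD2_c37 LD3_c38))))))
theorem f305057 : Led Lsl_df (LP (LK LD1_c8 LD2_c37 LD3_c52)) = (LP (LK LD1_c8 LD2_c37 LD3_c38)) :=
  Lgr Lrot78 (Lpr_ft (f190006 IH) (Lpr_dt (K19.f238116 IH) (Lpr_ft (f305054 IH) (Lpn (LP (LK LD1_c8 LD2_c37 LD3_c38))))))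
theorem f315817 : Led Lsl_gt (LP (LK LD1_c4 LD2_c50 LD3_c52)) = (LP (LK LD1_c8 LD2_c37 LD3_c38)) :=
  Lgr Lrot137 (Lpe (f30663 IH) (Lpr_dt (K13.f2074 IH) (Lpe (K12.f286 IH) (Lpe (K0.f1552 IH) (Lpr_et (f1554 IH) (Lpe (K18.f1557 IH) (Lpe (f1570 IH) (Lpe (f314656 IH) (Lpr_gf (f315813 IH) (Lpr_df (f305057 IH) (Lpn (LP (LK LD1_c8 LD2_c37 LD3_c38)))))))))))))
theorem f305047 : Led Lsl_ct (LP (LK LD1_c16 LD2_c9 LD3_c40)) = (LP (LK LD1_c8 LD2_c37 LD3_c38)) :=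
  Lre_c IH (LK LD1_c16 LD2_c9 LD3_c40) (LK LD1_c8 LD2_c37 LD3_c38) Lrfl Lrfl
theorem f305048 : Led Lsl_ff (LP (LK LD1_c4 LD2_c51 LD3_c29)) = (LP (LK LD1_c8 LD2_c37 LD3_c38)) :=
  Lgr Lrot23 (Lpe (K19.f298881 IH) (Lpr_ft (f305006 IH) (Lpr_ct (f305047 IH) (Lpn (LP (LK LD1_c8 LD2_c37 LD3_c38))))))
theorem f199318 : Led Lsl_et (LP (LK LD1_c1 LD2_c59 LD3_c23)) = (LP (LK LD1_c4 LD2_c4 LD3_c43)) :=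
  Lre_e IH (LK LD1_c1 LD2_c59 LD3_c23) (LK LD1_c4 LD2_c4 LD3_c43) Lrfl Lrfl
theorem f315064 : Led Lsl_ef (LP (LK LD1_c8 LD2_c37 LD3_c38)) = (LP (LK LD1_c8 LD2_c10 LD3_c20)) :=
  Lgr Lrot21 (Lpe (f305048 IH) (Lpe (K19.f298934 IH) (Lpr_ft (K19.f315057 IH) (Lpr_et (f199318 IH) (Lpr_ft (K15.f199245 IH) (Lpn (LP (LK LD1_c8 LD2_c10 LD3_c20))))))))
theorem f199231 : Led Lsl_dt (LP (LK LD1_c8 LD2_c10 LD3_c20)) = (LP (LK LD1_c4 LD2_c4 LD3_c44)) :=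
  Lre_d IH (LK LD1_c8 LD2_c10 LD3_c20) (LK LD1_c4 LD2_c4 LD3_c44) Lrfl Lrfl
theorem f315823 : Led Lsl_gf (LP (LK LD1_c2 LD2_c45 LD3_c34)) = (LP (LK LD1_c4 LD2_c4 LD3_c44)) :=
  Lgr Lrot145 (Lpr_df (K13.f216432 IH) (Lpr_et (K13.f1572 IH) (Lpr_gt (K13.f1571 IH) (Lpr_dt (K0.f1552 IH) (Lpr_gt (K12.f286 IH) (Lpe (K13.f2074 IH) (Lpr_et (f30663 IH) (Lpr_gt (f315817 IH) (Lpr_ef (f315064 IH) (Lpr_dt (f199231 IH) (Lpn (LP (LK LD1_c4 LD2_c4 LD3_c44)))))))))))))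
theorem f216454 : Led Lsl_bt (LP (LK LD1_c5 LD2_c39 LD3_c15)) = (LP (LK LD1_c2 LD2_c45 LD3_c34)) :=
  Lre_b IH (LK LD1_c5 LD2_c39 LD3_c15) (LK LD1_c2 LD2_c45 LD3_c34) Lrfl Lrfl
theorem f216437 : Led Lsl_ct (LP (LK LD1_c2 LD2_c45 LD3_c34)) = (LP (LK LD1_c5 LD2_c39 LD3_c16)) :=
  Lre_c IH (LK LD1_c2 LD2_c45 LD3_c34) (LK LD1_c5 LD2_c39 LD3_c16) Lrfl Lrfl
theorem f227008 : Led Lsl_bt (LP (LK LD1_c1 LD2_c58 LD3_c52)) = (LP (LK LD1_c4 LD2_c3 LD3_c41)) :=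
  Lre_b IH (LK LD1_c1 LD2_c58 LD3_c52) (LK LD1_c4 LD2_c3 LD3_c41) Lrfl Lrfl
theorem f315830 : Led Lsl_gt (LP (LK LD1_c9 LD2_c0 LD3_c54)) = (LP (LK LD1_c15 LD2_c22 LD3_c55)) :=
  Lgr Lrot65 (Lpr_cf (K18.f301576 IH) (Lpe (K18.f275715 IH) (Lpe (K16.f223213 IH) (Lpe (f227008 IH) (Lpr_ct (K19.f226870 IH) (Lpe (K18.f226991 IH) (Lpe (f216437 IH) (Lpr_gf (f315823 IH) (Lpe (K15.f199238 IH) (Lpr_ct (f199242 IH) (Lpn (LP (LK LD1_c15 LD2_c22 LD3_c55)))))))))))))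
theorem f255610 : Led Lsl_bt (LP (LK LD1_c1 LD2_c16 LD3_c9)) = (LP (LK LD1_c2 LD2_c38 LD3_c15)) :=
  Lre_b IH (LK LD1_c1 LD2_c16 LD3_c9) (LK LD1_c2 LD2_c38 LD3_c15) Lrfl Lrfl
theorem f217851 : Led Lsl_gt (LP (LK LD1_c5 LD2_c23 LD3_c47)) = (LP (LK LD1_c2 LD2_c38 LD3_c26)) :=
  Lre_g IH (LK LD1_c5 LD2_c23 LD3_c47) (LK LD1_c2 LD2_c38 LD3_c26) Lrfl Lrfl
theorem f315833 : Led Lsl_ct (LP (LK LD1_c5 LD2_c39 LD3_c15)) = (LP (LK LD1_c5 LD2_c23 LD3_c47)) :=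
  Lgr Lrot64 (Lpr_bt (f216454 IH) (Lpr_gf (f315823 IH) (Lpe (K15.f199238 IH) (Lpr_ct (f199242 IH) (Lpe (f315830 IH) (Lpr_cf (K18.f301576 IH) (Lpe (K16.f234100 IH) (Lpe (f255610 IH) (Lpr_ct (K18.f255611 IH) (Lpe (f217851 IH) (Lpn (LP (LK LD1_c5 LD2_c23 LD3_c47)))))))))))))
theorem f315838 : Led Lsl_cf (LP (LK LD1_c5 LD2_c39 LD3_c15)) = (LP (LK LD1_c5 LD2_c23 LD3_c47)) :=
  Lgr Lrot11 (Lpr_ct (f315833 IH) (Lpn (LP (LK LD1_c5 LD2_c23 LD3_c47))))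
theorem f192391 : Led Lsl_et (LP (LK LD1_c5 LD2_c21 LD3_c11)) = (LP (LK LD1_c10 LD2_c32 LD3_c34)) :=
  Lre_e IH (LK LD1_c5 LD2_c21 LD3_c11) (LK LD1_c10 LD2_c32 LD3_c34) Lrfl Lrfl
theorem f192392 : Led Lsl_ct (LP (LK LD1_c10 LD2_c32 LD3_c34)) = (LP (LK LD1_c9 LD2_c33 LD3_c51)) :=
  Lgr Lrot15 (Lpe (f192391 IH) (Lpr_cf (K13.f192370 IH) (Lpe (K19.f189264 IH) (Lpn (LP (LK LD1_c9 LD2_c33 LD3_c51))))))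
theorem f192415 : Led Lsl_et (LP (LK LD1_c10 LD2_c32 LD3_c34)) = (LP (LK LD1_c5 LD2_c21 LD3_c11)) :=
  Lre_e IH (LK LD1_c10 LD2_c32 LD3_c34) (LK LD1_c5 LD2_c21 LD3_c11) Lrfl Lrfl
theorem f192413 : Led Lsl_dt (LP (LK LD1_c10 LD2_c32 LD3_c34)) = (LP (LK LD1_c19 LD2_c5 LD3_c41)) :=
  Lre_d IH (LK LD1_c10 LD2_c32 LD3_c34) (LK LD1_c19 LD2_c5 LD3_c41) Lrfl Lrfl
theorem f309091 : Led Lsl_et (LP (LK LD1_c5 LD2_c23 LD3_c55)) = (LP (LK LD1_c2 LD2_c38 LD3_c31)) :=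
  Lre_e IH (LK LD1_c5 LD2_c23 LD3_c55) (LK LD1_c2 LD2_c38 LD3_c31) Lrfl Lrfl
theorem f303060 : Led Lsl_dt (LP (LK LD1_c5 LD2_c23 LD3_c55)) = (LP (LK LD1_c10 LD2_c38 LD3_c28)) :=
  Lre_d IH (LK LD1_c5 LD2_c23 LD3_c55) (LK LD1_c10 LD2_c38 LD3_c28) Lrfl Lrfl
theorem f309146 : Led Lsl_gt (LP (LK LD1_c19 LD2_c5 LD3_c41)) = (LP (LK LD1_c10 LD2_c38 LD3_c28)) :=
  Lgr Lrot112 (Lpe (f192413 IH) (Lpr_et (f192415 IH) (Lpe (K13.f41989 IH) (Lpe (K12.f42079 IH) (Lpr_dt (K9.f29024 IH) (Lpr_gf (K19.f309139 IH) (Lpe (K19.f255848 IH) (Lpe (K19.f235600 IH) (Lpe (f309091 IH) (Lpr_dt (f303060 IH) (Lpn (LP (LK LD1_c10 LD2_c38 LD3_c28)))))))))))))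
theorem f255764 : Led Lsl_ct (LP (LK LD1_c2 LD2_c38 LD3_c29)) = (LP (LK LD1_c5 LD2_c23 LD3_c55)) :=
  Lre_c IH (LK LD1_c2 LD2_c38 LD3_c29) (LK LD1_c5 LD2_c23 LD3_c55) Lrfl Lrfl
theorem f288893 : Led Lsl_ct (LP (LK LD1_c15 LD2_c44 LD3_c37)) = (LP (LK LD1_c8 LD2_c21 LD3_c59)) :=
  Lre_c IH (LK LD1_c15 LD2_c44 LD3_c37) (LK LD1_c8 LD2_c21 LD3_c59) Lrfl Lrfl
theorem f309149 : Led Lsl_gf (LP (LK LD1_c10 LD2_c32 LD3_c34)) = (LP (LK LD1_c15 LD2_c44 LD3_c37)) :=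
  Lgr Lrot144 (Lpr_dt (f192413 IH) (Lpr_gt (f309146 IH) (Lpr_dt (K18.f255591 IH) (Lpe (f255764 IH) (Lpe (K16.f224204 IH) (Lpe (K16.f247050 IH) (Lpe (K17.f288694 IH) (Lpe (K18.f288801 IH) (Lpe (f288893 IH) (Lpn (LP (LK LD1_c15 LD2_c44 LD3_c37))))))))))))
theorem f288887 : Led Lsl_ct (LP (LK LD1_c8 LD2_c21 LD3_c59)) = (LP (LK LD1_c15 LD2_c44 LD3_c37)) :=
  Lre_c IH (LK LD1_c8 LD2_c21 LD3_c59) (LK LD1_c15 LD2_c44 LD3_c37) Lrfl Lrfl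
theorem f303049 : Led Lsl_gf (LP (LK LD1_c5 LD2_c23 LD3_c47)) = (LP (LK LD1_c10 LD2_c31 LD3_c23)) :=
  Lgr Lrot47 (Lpr_gt (f217851 IH) (Lpr_af (K18.f303028 IH) (Lpe (K18.f303027 IH) (Lpn (LP (LK LD1_c10 LD2_c31 LD3_c23))))))
theorem f315894 : Led Lsl_gt (LP (LK LD1_c2 LD2_c38 LD3_c27)) = (LP (LK LD1_c5 LD2_c20 LD3_c41)) :=
  Lgr Lrot9 (Lpe (K19.f307768 IH) (Lpr_gt (K18.f288892 IH) (Lpr_ct (f288887 IH) (Lpe (f309149 IH) (Lpr_ct (f192392 IH) (Lpe (K19.f216435 IH) (Lpr_cf (f315838 IH) (Lpr_gf (f303049 IH) (Lpe (K19.f169196 IH) (Lpn (LP (LK LD1_c5 LD2_c20 LD3_c41))))))))))))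
theorem f288650 : Led Lsl_ff (LP (LK LD1_c4 LD2_c11 LD3_c10)) = (LP (LK LD1_c2 LD2_c38 LD3_c27)) :=
  Lgr Lrot72 (Lpe (K16.f215456 IH) (Lpe (K17.f288590 IH) (Lpr_et (K15.f246146 IH) (Lpr_ft (K17.f288641 IH) (Lpr_et (K17.f288633 IH) (Lpn (LP (LK LD1_c2 LD2_c38 LD3_c27))))))))
theorem f288690 : Led Lsl_at (LP (LK LD1_c4 LD2_c11 LD3_c10)) = (LP (LK LD1_c2 LD2_c38 LD3_c28)) :=
  Lgr Lrot66 (Lpr_ff (f288650 IH) (Lpe (K17.f288660 IH) (Lpr_ff (K17.f288685 IH) (Lpn (LP (LK LD1_c2 LD2_c38 LD3_c28))))))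
theorem f315898 : Led Lsl_gf (LP (LK LD1_c2 LD2_c38 LD3_c28)) = (LP (LK LD1_c5 LD2_c20 LD3_c41)) :=
  Lgr Lrot76 (Lpe (f288690 IH) (Lpr_ff (f288650 IH) (Lpr_gt (f315894 IH) (Lpn (LP (LK LD1_c5 LD2_c20 LD3_c41))))))
theorem f288871 : Led Lsl_et (LP (LK LD1_c4 LD2_c11 LD3_c2)) = (LP (LK LD1_c2 LD2_c2 LD3_c48)) :=
  Lre_e IH (LK LD1_c4 LD2_c11 LD3_c2) (LK LD1_c2 LD2_c2 LD3_c48) Lrfl Lrfl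
theorem f7866 : Led Lsl_et (LP (LK LD1_c1 LD2_c0 LD3_c0)) = (LP (LK LD1_c2 LD2_c6 LD3_c2)) :=
  Lre_e IH (LK LD1_c1 LD2_c0 LD3_c0) (LK LD1_c2 LD2_c6 LD3_c2) Lrfl Lrfl
theorem f7827 : Led Lsl_gt (LP (LK LD1_c2 LD2_c6 LD3_c2)) = (LP (LK LD1_c4 LD2_c17 LD3_c27)) :=
  Lre_g IH (LK LD1_c2 LD2_c6 LD3_c2) (LK LD1_c4 LD2_c17 LD3_c27) Lrfl Lrfl
theorem f315911 : Led Lsl_ef (LP (LK LD1_c4 LD2_c17 LD3_c27)) = (LP (LK LD1_c8 LD2_c32 LD3_c56)) :=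
  Lgr Lrot17 (Lpe (f7827 IH) (Lpe (f7866 IH) (Lpr_dt (K12.f7815 IH) (Lpe (K11.f7852 IH) (Lpe (K11.f199764 IH) (Lpe (K17.f288860 IH) (Lpe (f288871 IH) (Lpr_dt (K17.f288694 IH) (Lpr_gf (f315898 IH) (Lpe (K15.f184280 IH) (Lpn (LP (LK LD1_c8 LD2_c32 LD3_c56)))))))))))))
theorem f300849 : Led Lsl_et (LP (LK LD1_c4 LD2_c10 LD3_c43)) = (LP (LK LD1_c2 LD2_c2 LD3_c37)) :=
  Lre_e IH (LK LD1_c4 LD2_c10 LD3_c43) (LK LD1_c2 LD2_c2 LD3_c37) Lrfl Lrfl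
theorem f315924 : Led Lsl_ft (LP (LK LD1_c4 LD2_c17 LD3_c27)) = (LP (LK LD1_c4 LD2_c10 LD3_c43)) :=
  Lgr Lrot86 (Lpr_ef (f315911 IH) (Lpe (K18.f184269 IH) (Lpe (K15.f184251 IH) (Lpr_ff (K18.f300857 IH) (Lpe (f300849 IH) (Lpn (LP (LK LD1_c4 LD2_c10 LD3_c43))))))))
theorem f315930 : Led Lsl_ff (LP (LK LD1_c4 LD2_c17 LD3_c27)) = (LP (LK LD1_c4 LD2_c10 LD3_c43)) :=
  Lgr Lrot3 (Lpr_ft (f315924 IH) (Lpn (LP (LK LD1_c4 LD2_c10 LD3_c43))))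
theorem f300889 : Led Lsl_af (LP (LK LD1_c8 LD2_c32 LD3_c56)) = (LP (LK LD1_c5 LD2_c23 LD3_c56)) :=
  Lgr Lrot0 (Lpr_at (K18.f300880 IH) (Lpn (LP (LK LD1_c5 LD2_c23 LD3_c56))))
theorem f315913 : Led Lsl_at (LP (LK LD1_c4 LD2_c17 LD3_c27)) = (LP (LK LD1_c8 LD2_c33 LD3_c0)) :=
  Lgr Lrot80 (Lpr_ef (f315911 IH) (Lpr_af (f300889 IH) (Lpr_ef (K19.f309058 IH) (Lpn (LP (LK LD1_c8 LD2_c33 LD3_c0))))))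
theorem f309061 : Led Lsl_gt (LP (LK LD1_c4 LD2_c17 LD3_c15)) = (LP (LK LD1_c8 LD2_c33 LD3_c0)) :=
  Lgr Lrot131 (Lpe (K15.f260992 IH) (Lpr_dt (K15.f231140 IH) (Lpr_gf (K15.f260916 IH) (Lpe (K16.f184459 IH) (Lpe (K12.f219779 IH) (Lpe (K16.f215546 IH) (Lpr_dt (K16.f215461 IH) (Lpr_gf (K18.f300902 IH) (Lpe (K18.f300884 IH) (Lpr_et (K19.f309049 IH) (Lpn (LP (LK LD1_c8 LD2_c33 LD3_c0)))))))))))))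
theorem f315938 : Led Lsl_gf (LP (LK LD1_c4 LD2_c17 LD3_c15)) = (LP (LK LD1_c4 LD2_c10 LD3_c43)) :=
  Lgr Lrot47 (Lpr_gt (f309061 IH) (Lpe (f315913 IH) (Lpr_ff (f315930 IH) (Lpn (LP (LK LD1_c4 LD2_c10 LD3_c43))))))
theorem f7796 : Led Lsl_ft (LP (LK LD1_c4 LD2_c17 LD3_c28)) = (LP (LK LD1_c2 LD2_c6 LD3_c2)) :=
  Lre_f IH (LK LD1_c4 LD2_c17 LD3_c28) (LK LD1_c2 LD2_c6 LD3_c2) Lrfl Lrfl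
theorem f315941 : Led Lsl_gt (LP (LK LD1_c4 LD2_c17 LD3_c28)) = (LP (LK LD1_c4 LD2_c10 LD3_c43)) :=
  Lgr Lrot5 (Lpr_ft (f7796 IH) (Lpr_at (K15.f7797 IH) (Lpr_gf (f315938 IH) (Lpn (LP (LK LD1_c4 LD2_c10 LD3_c43))))))
theorem f7769 : Led Lsl_bt (LP (LK LD1_c2 LD2_c40 LD3_c37)) = (LP (LK LD1_c5 LD2_c28 LD3_c25)) :=
  Lre_b IH (LK LD1_c2 LD2_c40 LD3_c37) (LK LD1_c5 LD2_c28 LD3_c25) Lrfl Lrfl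
theorem f7770 : Led Lsl_df (LP (LK LD1_c4 LD2_c17 LD3_c28)) = (LP (LK LD1_c5 LD2_c28 LD3_c25)) :=
  Lgr Lrot12 (Lpr_bt (K12.f7768 IH) (Lpr_dt (K12.f7751 IH) (Lpr_bt (f7769 IH) (Lpn (LP (LK LD1_c5 LD2_c28 LD3_c25))))))
theorem f315920 : Led Lsl_dt (LP (LK LD1_c4 LD2_c17 LD3_c27)) = (LP (LK LD1_c6 LD2_c5 LD3_c1)) :=
  Lgr Lrot77 (Lpr_ef (f315911 IH) (Lpr_df (K15.f184267 IH) (Lpe (K19.f310935 IH) (Lpe (K19.f283472 IH) (Lpr_ef (K17.f283445 IH) (Lpn (LP (LK LD1_c6 LD2_c5 LD3_c1))))))))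
theorem f283378 : Led Lsl_ft (LP (LK LD1_c6 LD2_c5 LD3_c1)) = (LP (LK LD1_c2 LD2_c58 LD3_c41)) :=
  Lre_f IH (LK LD1_c6 LD2_c5 LD3_c1) (LK LD1_c2 LD2_c58 LD3_c41) Lrfl Lrfl
theorem f315936 : Led Lsl_dt (LP (LK LD1_c2 LD2_c58 LD3_c41)) = (LP (LK LD1_c4 LD2_c10 LD3_c43)) :=
  Lgr Lrot60 (Lpe (f283378 IH) (Lpe (f315920 IH) (Lpr_ff (f315930 IH) (Lpn (LP (LK LD1_c4 LD2_c10 LD3_c43))))))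
theorem f283377 : Led Lsl_et (LP (LK LD1_c2 LD2_c58 LD3_c41)) = (LP (LK LD1_c1 LD2_c25 LD3_c4)) :=
  Lre_e IH (LK LD1_c2 LD2_c58 LD3_c41) (LK LD1_c1 LD2_c25 LD3_c4) Lrfl Lrfl
theorem f41805 : Led Lsl_dt (LP (LK LD1_c2 LD2_c58 LD3_c27)) = (LP (LK LD1_c1 LD2_c24 LD3_c57)) :=
  Lre_d IH (LK LD1_c2 LD2_c58 LD3_c27) (LK LD1_c1 LD2_c24 LD3_c57) Lrfl Lrfl
theorem f315960 : Led Lsl_et (LP (LK LD1_c1 LD2_c25 LD3_c2)) = (LP (LK LD1_c2 LD2_c58 LD3_c38)) :=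
  Lre_e IH (LK LD1_c1 LD2_c25 LD3_c2) (LK LD1_c2 LD2_c58 LD3_c38) Lrfl Lrfl
theorem f244144 : Led Lsl_gt (LP (LK LD1_c2 LD2_c58 LD3_c38)) = (LP (LK LD1_c6 LD2_c4 LD3_c53)) :=
  Lre_g IH (LK LD1_c2 LD2_c58 LD3_c38) (LK LD1_c6 LD2_c4 LD3_c53) Lrfl Lrfl
theorem f315961 : Led Lsl_et (LP (LK LD1_c5 LD2_c28 LD3_c25)) = (LP (LK LD1_c6 LD2_c4 LD3_c53)) :=
  Lgr Lrot122 (Lpe (f7770 IH) (Lpr_gt (f315941 IH) (Lpe (f315936 IH) (Lpr_et (f283377 IH) (Lpr_gt (K10.f41810 IH) (Lpr_dt (f41805 IH) (Lpr_gt (K9.f41811 IH) (Lpe (K15.f183870 IH) (Lpr_et (f315960 IH) (Lpr_gt (f244144 IH) (Lpn (LP (LK LD1_c6 LD2_c4 LD3_c53)))))))))))))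
theorem f315969 : Led Lsl_ff (LP (LK LD1_c4 LD2_c27 LD3_c49)) = (LP (LK LD1_c6 LD2_c4 LD3_c53)) :=
  Lgr Lrot72 (Lpr_et (K19.f41732 IH) (Lpe (K16.f253475 IH) (Lpr_et (K12.f7817 IH) (Lpr_ft (K16.f7822 IH) (Lpr_et (f315961 IH) (Lpn (LP (LK LD1_c6 LD2_c4 LD3_c53))))))))
theorem f315976 : Led Lsl_ft (LP (LK LD1_c4 LD2_c27 LD3_c49)) = (LP (LK LD1_c6 LD2_c4 LD3_c53)) :=
  Lgr Lrot48 (Lpr_ff (f315969 IH) (Lpn (LP (LK LD1_c6 LD2_c4 LD3_c53))))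
theorem f225908 : Led Lsl_et (LP (LK LD1_c2 LD2_c11 LD3_c4)) = (LP (LK LD1_c4 LD2_c27 LD3_c49)) :=
  Lre_e IH (LK LD1_c2 LD2_c11 LD3_c4) (LK LD1_c4 LD2_c27 LD3_c49) Lrfl Lrfl
theorem f41754 : Led Lsl_et (LP (LK LD1_c2 LD2_c58 LD3_c24)) = (LP (LK LD1_c6 LD2_c4 LD3_c25)) :=
  Lre_e IH (LK LD1_c2 LD2_c58 LD3_c24) (LK LD1_c6 LD2_c4 LD3_c25) Lrfl Lrfl
theorem f261304 : Led Lsl_gt (LP (LK LD1_c4 LD2_c27 LD3_c49)) = (LP (LK LD1_c6 LD2_c4 LD3_c25)) :=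
  Lgr Lrot131 (Lpe (f225908 IH) (Lpe (K14.f253473 IH) (Lpr_gf (K15.f261294 IH) (Lpe (K15.f211276 IH) (Lpr_gf (K12.f220767 IH) (Lpr_ef (K1.f41710 IH) (Lpr_dt (K1.f41751 IH) (Lpe (K9.f41752 IH) (Lpe (K15.f41753 IH) (Lpr_et (f41754 IH) (Lpn (LP (LK LD1_c6 LD2_c4 LD3_c25)))))))))))))
theorem f261306 : Led Lsl_gt (LP (LK LD1_c6 LD2_c4 LD3_c25)) = (LP (LK LD1_c11 LD2_c52 LD3_c18)) :=
  Lre_g IH (LK LD1_c6 LD2_c4 LD3_c25) (LK LD1_c11 LD2_c52 LD3_c18) Lrfl Lrfl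
theorem f315980 : Led Lsl_af (LP (LK LD1_c11 LD2_c52 LD3_c18)) = (LP (LK LD1_c6 LD2_c4 LD3_c53)) :=
  Lgr Lrot31 (Lpe (f261306 IH) (Lpe (f261304 IH) (Lpr_ft (f315976 IH) (Lpn (LP (LK LD1_c6 LD2_c4 LD3_c53))))))
theorem f278594 : Led Lsl_ft (LP (LK LD1_c2 LD2_c34 LD3_c56)) = (LP (LK LD1_c5 LD2_c16 LD3_c22)) :=
  Lre_f IH (LK LD1_c2 LD2_c34 LD3_c56) (LK LD1_c5 LD2_c16 LD3_c22) Lrfl Lrfl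
theorem f315974 : Led Lsl_dt (LP (LK LD1_c5 LD2_c16 LD3_c22)) = (LP (LK LD1_c6 LD2_c4 LD3_c53)) :=
  Lgr Lrot60 (Lpe (f278594 IH) (Lpe (K19.f255000 IH) (Lpr_ff (f315969 IH) (Lpn (LP (LK LD1_c6 LD2_c4 LD3_c53))))))
theorem f315987 : Led Lsl_dt (LP (LK LD1_c11 LD2_c52 LD3_c18)) = (LP (LK LD1_c8 LD2_c52 LD3_c14)) :=
  Lgr Lrot44 (Lpr_af (f315980 IH) (Lpe (f315974 IH) (Lpr_af (K14.f247578 IH) (Lpn (LP (LK LD1_c8 LD2_c52 LD3_c14))))))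
theorem f41816 : Led Lsl_et (LP (LK LD1_c1 LD2_c25 LD3_c7)) = (LP (LK LD1_c2 LD2_c58 LD3_c50)) :=
  Lre_e IH (LK LD1_c1 LD2_c25 LD3_c7) (LK LD1_c2 LD2_c58 LD3_c50) Lrfl Lrfl
theorem f249254 : Led Lsl_et (LP (LK LD1_c2 LD2_c36 LD3_c35)) = (LP (LK LD1_c1 LD2_c15 LD3_c17)) :=
  Lre_e IH (LK LD1_c2 LD2_c36 LD3_c35) (LK LD1_c1 LD2_c15 LD3_c17) Lrfl Lrfl
theorem f200364 : Led Lsl_et (LP (LK LD1_c5 LD2_c11 LD3_c60)) = (LP (LK LD1_c2 LD2_c32 LD3_c51)) :=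
  Lre_e IH (LK LD1_c5 LD2_c11 LD3_c60) (LK LD1_c2 LD2_c32 LD3_c51) Lrfl Lrfl
theorem f240267 : Led Lsl_et (LP (LK LD1_c6 LD2_c4 LD3_c49)) = (LP (LK LD1_c2 LD2_c58 LD3_c35)) :=
  Lre_e IH (LK LD1_c6 LD2_c4 LD3_c49) (LK LD1_c2 LD2_c58 LD3_c35) Lrfl Lrfl
theorem f274409 : Led Lsl_bf (LP (LK LD1_c6 LD2_c4 LD3_c49)) = (LP (LK LD1_c6 LD2_c4 LD3_c25)) :=
  Lgr Lrot96 (Lpr_et (f240267 IH) (Lpr_bt (K17.f274406 IH) (Lpr_et (f41754 IH) (Lpn (LP (LK LD1_c6 LD2_c4 LD3_c25))))))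
theorem f240265 : Led Lsl_et (LP (LK LD1_c5 LD2_c11 LD3_c58)) = (LP (LK LD1_c10 LD2_c14 LD3_c42)) :=
  Lre_e IH (LK LD1_c5 LD2_c11 LD3_c58) (LK LD1_c10 LD2_c14 LD3_c42) Lrfl Lrfl
theorem f240268 : Led Lsl_dt (LP (LK LD1_c10 LD2_c14 LD3_c42)) = (LP (LK LD1_c6 LD2_c4 LD3_c49)) :=
  Lgr Lrot77 (Lpe (f240265 IH) (Lpr_df (K15.f240259 IH) (Lpe (K19.f240266 IH) (Lpe (K16.f183865 IH) (Lpe (f240267 IH) (Lpn (LP (LK LD1_c6 LD2_c4 LD3_c49))))))))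
theorem f240273 : Led Lsl_df (LP (LK LD1_c10 LD2_c14 LD3_c42)) = (LP (LK LD1_c6 LD2_c4 LD3_c49)) :=
  Lgr Lrot38 (Lpr_dt (f240268 IH) (Lpn (LP (LK LD1_c6 LD2_c4 LD3_c49))))
theorem f240281 : Led Lsl_bt (LP (LK LD1_c10 LD2_c14 LD3_c42)) = (LP (LK LD1_c5 LD2_c11 LD3_c60)) :=
  Lre_b IH (LK LD1_c10 LD2_c14 LD3_c42) (LK LD1_c5 LD2_c11 LD3_c60) Lrfl Lrfl
theorem f274415 : Led Lsl_dt (LP (LK LD1_c5 LD2_c11 LD3_c60)) = (LP (LK LD1_c6 LD2_c4 LD3_c25)) :=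
  Lgr Lrot79 (Lpe (f240281 IH) (Lpr_df (f240273 IH) (Lpr_bf (f274409 IH) (Lpn (LP (LK LD1_c6 LD2_c4 LD3_c25))))))
theorem f190746 : Led Lsl_et (LP (LK LD1_c2 LD2_c34 LD3_c56)) = (LP (LK LD1_c1 LD2_c14 LD3_c27)) :=
  Lre_e IH (LK LD1_c2 LD2_c34 LD3_c56) (LK LD1_c1 LD2_c14 LD3_c27) Lrfl Lrfl
theorem f278563 : Led Lsl_dt (LP (LK LD1_c2 LD2_c34 LD3_c56)) = (LP (LK LD1_c4 LD2_c27 LD3_c49)) :=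
  Lgr Lrot136 (Lpr_et (f190746 IH) (Lpe (K10.f190744 IH) (Lpe (K1.f44592 IH) (Lpr_dt (K1.f28255 IH) (Lpe (K12.f28271 IH) (Lpe (K14.f28272 IH) (Lpr_gf (K16.f278556 IH) (Lpe (f200364 IH) (Lpr_dt (f274415 IH) (Lpe (f261304 IH) (Lpn (LP (LK LD1_c4 LD2_c27 LD3_c49)))))))))))))
theorem f170046 : Led Lsl_gt (LP (LK LD1_c5 LD2_c16 LD3_c21)) = (LP (LK LD1_c2 LD2_c34 LD3_c56)) :=
  Lre_g IH (LK LD1_c5 LD2_c16 LD3_c21) (LK LD1_c2 LD2_c34 LD3_c56) Lrfl Lrfl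
theorem f278565 : Led Lsl_et (LP (LK LD1_c10 LD2_c22 LD3_c20)) = (LP (LK LD1_c5 LD2_c16 LD3_c21)) :=
  Lre_e IH (LK LD1_c10 LD2_c22 LD3_c20) (LK LD1_c5 LD2_c16 LD3_c21) Lrfl Lrfl
theorem f278566 : Led Lsl_df (LP (LK LD1_c10 LD2_c29 LD3_c35)) = (LP (LK LD1_c10 LD2_c22 LD3_c20)) :=
  Lgr Lrot168 (Lpe (K19.f249327 IH) (Lpe (K16.f249245 IH) (Lpr_et (f249254 IH) (Lpr_gf (K16.f278556 IH) (Lpe (f200364 IH) (Lpr_dt (f274415 IH) (Lpe (f261304 IH) (Lpe (f278563 IH) (Lpe (f170046 IH) (Lpe (f278565 IH) (Lpn (LP (LK LD1_c10 LD2_c22 LD3_c20)))))))))))))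
theorem f256101 : Led Lsl_et (LP (LK LD1_c10 LD2_c29 LD3_c35)) = (LP (LK LD1_c11 LD2_c54 LD3_c30)) :=
  Lgr Lrot87 (Lpr_ef (K19.f256097 IH) (Lpn (LP (LK LD1_c11 LD2_c54 LD3_c30))))
theorem f278571 : Led Lsl_et (LP (LK LD1_c5 LD2_c16 LD3_c21)) = (LP (LK LD1_c10 LD2_c22 LD3_c20)) :=
  Lre_e IH (LK LD1_c5 LD2_c16 LD3_c21) (LK LD1_c10 LD2_c22 LD3_c20) Lrfl Lrfl
theorem f278572 : Led Lsl_dt (LP (LK LD1_c10 LD2_c22 LD3_c19)) = (LP (LK LD1_c5 LD2_c16 LD3_c21)) :=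
  Lre_d IH (LK LD1_c10 LD2_c22 LD3_c19) (LK LD1_c5 LD2_c16 LD3_c21) Lrfl Lrfl
theorem f278573 : Led Lsl_et (LP (LK LD1_c6 LD2_c5 LD3_c27)) = (LP (LK LD1_c10 LD2_c22 LD3_c19)) :=
  Lgr Lrot71 (Lpe (K19.f41730 IH) (Lpe (f256101 IH) (Lpr_df (f278566 IH) (Lpe (f278571 IH) (Lpe (f278572 IH) (Lpn (LP (LK LD1_c10 LD2_c22 LD3_c19))))))))
theorem f278578 : Led Lsl_ef (LP (LK LD1_c6 LD2_c5 LD3_c27)) = (LP (LK LD1_c10 LD2_c22 LD3_c19)) :=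
  Lgr Lrot88 (Lpr_et (f278573 IH) (Lpn (LP (LK LD1_c10 LD2_c22 LD3_c19))))
theorem f316013 : Led Lsl_gf (LP (LK LD1_c5 LD2_c16 LD3_c21)) = (LP (LK LD1_c8 LD2_c52 LD3_c14)) :=
  Lgr Lrot134 (Lpe (f278572 IH) (Lpe (f278578 IH) (Lpr_gt (K19.f41712 IH) (Lpe (f41816 IH) (Lpr_dt (K10.f41818 IH) (Lpr_gt (K9.f22402 IH) (Lpe (K15.f41753 IH) (Lpr_et (f41754 IH) (Lpr_gt (f261306 IH) (Lpr_dt (f315987 IH) (Lpn (LP (LK LD1_c8 LD2_c52 LD3_c14)))))))))))))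
theorem f230536 : Led Lsl_gt (LP (LK LD1_c5 LD2_c19 LD3_c19)) = (LP (LK LD1_c2 LD2_c36 LD3_c20)) :=
  Lre_g IH (LK LD1_c5 LD2_c19 LD3_c19) (LK LD1_c2 LD2_c36 LD3_c20) Lrfl Lrfl
theorem f300470 : Led Lsl_gt (LP (LK LD1_c5 LD2_c12 LD3_c8)) = (LP (LK LD1_c5 LD2_c19 LD3_c19)) :=
  Lgr Lrot5 (Lpr_ft (K18.f200260 IH) (Lpr_at (K18.f300442 IH) (Lpe (f230536 IH) (Lpn (LP (LK LD1_c5 LD2_c19 LD3_c19))))))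
theorem f230983 : Led Lsl_gt (LP (LK LD1_c4 LD2_c10 LD3_c20)) = (LP (LK LD1_c8 LD2_c20 LD3_c20)) :=
  Lre_g IH (LK LD1_c4 LD2_c10 LD3_c20) (LK LD1_c8 LD2_c20 LD3_c20) Lrfl Lrfl
theorem f316063 : Led Lsl_dt (LP (LK LD1_c5 LD2_c19 LD3_c19)) = (LP (LK LD1_c4 LD2_c10 LD3_c20)) :=
  Lgr Lrot171 (Lpe (f300470 IH) (Lpr_ef (K18.f300673 IH) (Lpr_dt (K19.f302833 IH) (Lpe (K19.f302812 IH) (Lpr_df (f278566 IH) (Lpr_et (f278565 IH) (Lpr_gf (f316013 IH) (Lpe (K14.f248430 IH) (Lpr_dt (K14.f248356 IH) (Lpe (f230983 IH) (Lpn (LP (LK LD1_c4 LD2_c10 LD3_c20)))))))))))))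
theorem f316067 : Led Lsl_df (LP (LK LD1_c5 LD2_c19 LD3_c19)) = (LP (LK LD1_c4 LD2_c10 LD3_c20)) :=
  Lgr Lrot38 (Lpr_dt (f316063 IH) (Lpn (LP (LK LD1_c4 LD2_c10 LD3_c20))))
theorem f300346 : Led Lsl_df (LP (LK LD1_c4 LD2_c11 LD3_c25)) = (LP (LK LD1_c2 LD2_c36 LD3_c20)) :=
  Lgr Lrot38 (Lpr_dt (K18.f300341 IH) (Lpn (LP (LK LD1_c2 LD2_c36 LD3_c20))))
theorem f200235 : Led Lsl_ct (LP (LK LD1_c4 LD2_c11 LD3_c25)) = (LP (LK LD1_c8 LD2_c22 LD3_c33)) :=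
  Lre_c IH (LK LD1_c4 LD2_c11 LD3_c25) (LK LD1_c8 LD2_c22 LD3_c33) Lrfl Lrfl
theorem f178708 : Led Lsl_gt (LP (LK LD1_c2 LD2_c2 LD3_c21)) = (LP (LK LD1_c4 LD2_c10 LD3_c20)) :=
  Lre_g IH (LK LD1_c2 LD2_c2 LD3_c21) (LK LD1_c4 LD2_c10 LD3_c20) Lrfl Lrfl
theorem f167558 : Led Lsl_ct (LP (LK LD1_c4 LD2_c10 LD3_c19)) = (LP (LK LD1_c2 LD2_c2 LD3_c21)) :=
  Lre_c IH (LK LD1_c4 LD2_c10 LD3_c19) (LK LD1_c2 LD2_c2 LD3_c21) Lrfl Lrfl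
theorem f182232 : Led Lsl_gt (LP (LK LD1_c4 LD2_c10 LD3_c19)) = (LP (LK LD1_c8 LD2_c20 LD3_c54)) :=
  Lre_g IH (LK LD1_c4 LD2_c10 LD3_c19) (LK LD1_c8 LD2_c20 LD3_c54) Lrfl Lrfl
theorem f316075 : Led Lsl_dt (LP (LK LD1_c8 LD2_c20 LD3_c54)) = (LP (LK LD1_c15 LD2_c42 LD3_c52)) :=
  Lre_d IH (LK LD1_c8 LD2_c20 LD3_c54) (LK LD1_c15 LD2_c42 LD3_c52) Lrfl Lrfl
theorem f316076 : Led Lsl_gf (LP (LK LD1_c15 LD2_c45 LD3_c39)) = (LP (LK LD1_c15 LD2_c42 LD3_c52)) :=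
  Lgr Lrot143 (Lpr_dt (K18.f200245 IH) (Lpe (f200235 IH) (Lpr_df (f300346 IH) (Lpe (f230536 IH) (Lpr_df (f316067 IH) (Lpe (f178708 IH) (Lpe (f167558 IH) (Lpr_gt (f182232 IH) (Lpr_dt (f316075 IH) (Lpn (LP (LK LD1_c15 LD2_c42 LD3_c52))))))))))))
theorem f200234 : Led Lsl_dt (LP (LK LD1_c8 LD2_c22 LD3_c33)) = (LP (LK LD1_c15 LD2_c45 LD3_c39)) :=
  Lre_d IH (LK LD1_c8 LD2_c22 LD3_c33) (LK LD1_c15 LD2_c45 LD3_c39) Lrfl Lrfl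
theorem f300465 : Led Lsl_et (LP (LK LD1_c8 LD2_c22 LD3_c33)) = (LP (LK LD1_c4 LD2_c11 LD3_c24)) :=
  Lre_e IH (LK LD1_c8 LD2_c22 LD3_c33) (LK LD1_c4 LD2_c11 LD3_c24) Lrfl Lrfl
theorem f316164 : Led Lsl_ef (LP (LK LD1_c4 LD2_c17 LD3_c40)) = (LP (LK LD1_c4 LD2_c11 LD3_c4)) :=
  Lgr Lrot17 (Lpr_gf (K18.f304506 IH) (Lpe (f300465 IH) (Lpr_dt (f200234 IH) (Lpr_gf (f316076 IH) (Lpe (f316075 IH) (Lpe (f182232 IH) (Lpe (K12.f231093 IH) (Lpr_dt (K16.f178771 IH) (Lpe (K16.f178503 IH) (Lpe (K17.f275445 IH) (Lpn (LP (LK LD1_c4 LD2_c11 LD3_c4)))))))))))))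
theorem f310172 : Led Lsl_et (LP (LK LD1_c4 LD2_c17 LD3_c43)) = (LP (LK LD1_c2 LD2_c6 LD3_c11)) :=
  Lre_e IH (LK LD1_c4 LD2_c17 LD3_c43) (LK LD1_c2 LD2_c6 LD3_c11) Lrfl Lrfl
theorem f316175 : Led Lsl_dt (LP (LK LD1_c4 LD2_c17 LD3_c43)) = (LP (LK LD1_c8 LD2_c34 LD3_c30)) :=
  Lre_d IH (LK LD1_c4 LD2_c17 LD3_c43) (LK LD1_c8 LD2_c34 LD3_c30) Lrfl Lrfl
theorem f220386 : Led Lsl_et (LP (LK LD1_c8 LD2_c20 LD3_c42)) = (LP (LK LD1_c4 LD2_c10 LD3_c15)) :=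
  Lre_e IH (LK LD1_c8 LD2_c20 LD3_c42) (LK LD1_c4 LD2_c10 LD3_c15) Lrfl Lrfl
theorem f220384 : Led Lsl_dt (LP (LK LD1_c8 LD2_c20 LD3_c42)) = (LP (LK LD1_c15 LD2_c42 LD3_c27)) :=
  Lre_d IH (LK LD1_c8 LD2_c20 LD3_c42) (LK LD1_c15 LD2_c42 LD3_c27) Lrfl Lrfl
theorem f316176 : Led Lsl_gt (LP (LK LD1_c8 LD2_c34 LD3_c30)) = (LP (LK LD1_c15 LD2_c42 LD3_c27)) :=
  Lgr Lrot112 (Lpe (f316175 IH) (Lpr_et (f310172 IH) (Lpe (K16.f7962 IH) (Lpr_ef (f316164 IH) (Lpr_dt (K17.f275445 IH) (Lpr_gf (K17.f290567 IH) (Lpe (K16.f231138 IH) (Lpr_gf (K14.f231134 IH) (Lpe (f220386 IH) (Lpr_dt (f220384 IH) (Lpn (LP (LK LD1_c15 LD2_c42 LD3_c27)))))))))))))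
theorem f316179 : Led Lsl_ft (LP (LK LD1_c8 LD2_c34 LD3_c30)) = (LP (LK LD1_c16 LD2_c5 LD3_c37)) :=
  Lre_f IH (LK LD1_c8 LD2_c34 LD3_c30) (LK LD1_c16 LD2_c5 LD3_c37) Lrfl Lrfl
theorem f316180 : Led Lsl_gt (LP (LK LD1_c15 LD2_c42 LD3_c27)) = (LP (LK LD1_c25 LD2_c38 LD3_c16)) :=
  Lre_g IH (LK LD1_c15 LD2_c42 LD3_c27) (LK LD1_c25 LD2_c38 LD3_c16) Lrfl Lrfl
theorem f316181 : Led Lsl_at (LP (LK LD1_c16 LD2_c5 LD3_c37)) = (LP (LK LD1_c25 LD2_c38 LD3_c16)) :=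
  Lgr Lrot26 (Lpe (f316179 IH) (Lpr_gt (f316176 IH) (Lpr_gt (f316180 IH) (Lpn (LP (LK LD1_c25 LD2_c38 LD3_c16))))))
theorem f316238 : Led Lsl_at (LP (LK LD1_c16 LD2_c5 LD3_c7)) = (LP (LK LD1_c8 LD2_c34 LD3_c30)) :=
  Lre_a IH (LK LD1_c16 LD2_c5 LD3_c7) (LK LD1_c8 LD2_c34 LD3_c30) Lrfl Lrfl
theorem f316239 : Led Lsl_ff (LP (LK LD1_c16 LD2_c5 LD3_c7)) = (LP (LK LD1_c25 LD2_c38 LD3_c16)) :=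
  Lgr Lrot30 (Lpr_at (f316238 IH) (Lpr_ft (f316179 IH) (Lpr_at (f316181 IH) (Lpn (LP (LK LD1_c25 LD2_c38 LD3_c16))))))
theorem f284120 : Led Lsl_dt (LP (LK LD1_c16 LD2_c5 LD3_c7)) = (LP (LK LD1_c8 LD2_c34 LD3_c14)) :=
  Lre_d IH (LK LD1_c16 LD2_c5 LD3_c7) (LK LD1_c8 LD2_c34 LD3_c14) Lrfl Lrfl
theorem f310191 : Led Lsl_ft (LP (LK LD1_c8 LD2_c34 LD3_c14)) = (LP (LK LD1_c16 LD2_c5 LD3_c8)) :=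
  Lre_f IH (LK LD1_c8 LD2_c34 LD3_c14) (LK LD1_c16 LD2_c5 LD3_c8) Lrfl Lrfl
theorem f316241 : Led Lsl_dt (LP (LK LD1_c16 LD2_c5 LD3_c8)) = (LP (LK LD1_c25 LD2_c38 LD3_c16)) :=
  Lgr Lrot60 (Lpe (f310191 IH) (Lpe (f284120 IH) (Lpr_ff (f316239 IH) (Lpn (LP (LK LD1_c25 LD2_c38 LD3_c16))))))
theorem f200236 : Led Lsl_at (LP (LK LD1_c15 LD2_c45 LD3_c40)) = (LP (LK LD1_c8 LD2_c22 LD3_c50)) :=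
  Lre_a IH (LK LD1_c15 LD2_c45 LD3_c40) (LK LD1_c8 LD2_c22 LD3_c50) Lrfl Lrfl
theorem f310166 : Led Lsl_at (LP (LK LD1_c8 LD2_c34 LD3_c31)) = (LP (LK LD1_c16 LD2_c5 LD3_c8)) :=
  Lre_a IH (LK LD1_c8 LD2_c34 LD3_c31) (LK LD1_c16 LD2_c5 LD3_c8) Lrfl Lrfl
theorem f310167 : Led Lsl_ef (LP (LK LD1_c15 LD2_c45 LD3_c40)) = (LP (LK LD1_c16 LD2_c5 LD3_c8)) :=
  Lgr Lrot20 (Lpr_at (f200236 IH) (Lpr_et (K19.f310163 IH) (Lpr_at (f310166 IH) (Lpn (LP (LK LD1_c16 LD2_c5 LD3_c8))))))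
theorem f316272 : Led Lsl_gt (LP (LK LD1_c15 LD2_c45 LD3_c40)) = (LP (LK LD1_c8 LD2_c22 LD3_c48)) :=
  Lre_g IH (LK LD1_c15 LD2_c45 LD3_c40) (LK LD1_c8 LD2_c22 LD3_c48) Lrfl Lrfl
theorem f231133 : Led Lsl_et (LP (LK LD1_c4 LD2_c10 LD3_c19)) = (LP (LK LD1_c2 LD2_c2 LD3_c20)) :=
  Lre_e IH (LK LD1_c4 LD2_c10 LD3_c19) (LK LD1_c2 LD2_c2 LD3_c20) Lrfl Lrfl
theorem f178669 : Led Lsl_dt (LP (LK LD1_c4 LD2_c10 LD3_c19)) = (LP (LK LD1_c8 LD2_c20 LD3_c56)) :=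
  Lre_d IH (LK LD1_c4 LD2_c10 LD3_c19) (LK LD1_c8 LD2_c20 LD3_c56) Lrfl Lrfl
theorem f167560 : Led Lsl_gt (LP (LK LD1_c15 LD2_c42 LD3_c58)) = (LP (LK LD1_c8 LD2_c20 LD3_c56)) :=
  Lre_g IH (LK LD1_c15 LD2_c42 LD3_c58) (LK LD1_c8 LD2_c20 LD3_c56) Lrfl Lrfl
theorem f316273 : Led Lsl_dt (LP (LK LD1_c8 LD2_c22 LD3_c48)) = (LP (LK LD1_c15 LD2_c42 LD3_c58)) :=
  Lgr Lrot171 (Lpe (f316272 IH) (Lpr_ef (f310167 IH) (Lpr_dt (f316241 IH) (Lpe (f316180 IH) (Lpe (f220384 IH) (Lpr_et (f220386 IH) (Lpe (K14.f171011 IH) (Lpe (f231133 IH) (Lpr_dt (f178669 IH) (Lpe (f167560 IH) (Lpn (LP (LK LD1_c15 LD2_c42 LD3_c58)))))))))))))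
theorem f258392 : Led Lsl_gt (LP (LK LD1_c8 LD2_c22 LD3_c35)) = (LP (LK LD1_c4 LD2_c11 LD3_c32)) :=
  Lre_g IH (LK LD1_c8 LD2_c22 LD3_c35) (LK LD1_c4 LD2_c11 LD3_c32) Lrfl Lrfl
theorem f167559 : Led Lsl_dt (LP (LK LD1_c8 LD2_c20 LD3_c56)) = (LP (LK LD1_c4 LD2_c10 LD3_c19)) :=
  Lre_d IH (LK LD1_c8 LD2_c20 LD3_c56) (LK LD1_c4 LD2_c10 LD3_c19) Lrfl Lrfl
theorem f178670 : Led Lsl_ct (LP (LK LD1_c2 LD2_c2 LD3_c21)) = (LP (LK LD1_c4 LD2_c10 LD3_c19)) :=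
  Lre_c IH (LK LD1_c2 LD2_c2 LD3_c21) (LK LD1_c4 LD2_c10 LD3_c19) Lrfl Lrfl
theorem f178707 : Led Lsl_gt (LP (LK LD1_c5 LD2_c18 LD3_c34)) = (LP (LK LD1_c2 LD2_c35 LD3_c56)) :=
  Lre_g IH (LK LD1_c5 LD2_c18 LD3_c34) (LK LD1_c2 LD2_c35 LD3_c56) Lrfl Lrfl
theorem f316284 : Led Lsl_dt (LP (LK LD1_c4 LD2_c11 LD3_c32)) = (LP (LK LD1_c5 LD2_c18 LD3_c34)) :=
  Lgr Lrot57 (Lpe (f258392 IH) (Lpe (K18.f200173 IH) (Lpr_gt (f316272 IH) (Lpr_dt (f316273 IH) (Lpr_gt (f167560 IH) (Lpr_dt (f167559 IH) (Lpe (f178670 IH) (Lpr_df (K9.f178605 IH) (Lpe (f178707 IH) (Lpn (LP (LK LD1_c5 LD2_c18 LD3_c34))))))))))))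
theorem f316314 : Led Lsl_df (LP (LK LD1_c4 LD2_c11 LD3_c32)) = (LP (LK LD1_c5 LD2_c18 LD3_c34)) :=
  Lgr Lrot38 (Lpr_dt (f316284 IH) (Lpn (LP (LK LD1_c5 LD2_c18 LD3_c34))))
theorem f170637 : Led Lsl_gt (LP (LK LD1_c4 LD2_c11 LD3_c32)) = (LP (LK LD1_c2 LD2_c2 LD3_c59)) :=
  Lre_g IH (LK LD1_c4 LD2_c11 LD3_c32) (LK LD1_c2 LD2_c2 LD3_c59) Lrfl Lrfl
theorem f170633 : Led Lsl_et (LP (LK LD1_c2 LD2_c2 LD3_c59)) = (LP (LK LD1_c0 LD2_c58 LD3_c22)) :=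
  Lre_e IH (LK LD1_c2 LD2_c2 LD3_c59) (LK LD1_c0 LD2_c58 LD3_c22) Lrfl Lrfl
theorem f200143 : Led Lsl_dt (LP (LK LD1_c2 LD2_c32 LD3_c54)) = (LP (LK LD1_c2 LD2_c2 LD3_c59)) :=
  Lgr Lrot77 (Lpe (K18.f200142 IH) (Lpe (K14.f190319 IH) (Lpr_ef (K11.f200138 IH) (Lpe (K15.f170627 IH) (Lpe (f170633 IH) (Lpn (LP (LK LD1_c2 LD2_c2 LD3_c59))))))))
theorem f230292 : Led Lsl_gt (LP (LK LD1_c2 LD2_c36 LD3_c23)) = (LP (LK LD1_c5 LD2_c19 LD3_c24)) :=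
  Lre_g IH (LK LD1_c2 LD2_c36 LD3_c23) (LK LD1_c5 LD2_c19 LD3_c24) Lrfl Lrfl
theorem f316347 : Led Lsl_ef (LP (LK LD1_c5 LD2_c19 LD3_c24)) = (LP (LK LD1_c5 LD2_c18 LD3_c34)) :=
  Lgr Lrot17 (Lpe (f230292 IH) (Lpe (K15.f230291 IH) (Lpr_dt (K12.f44266 IH) (Lpr_gf (K14.f230288 IH) (Lpe (K15.f266137 IH) (Lpe (K13.f190315 IH) (Lpe (K18.f200149 IH) (Lpr_dt (f200143 IH) (Lpe (f170637 IH) (Lpr_df (f316314 IH) (Lpn (LP (LK LD1_c5 LD2_c18 LD3_c34)))))))))))))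
theorem f230293 : Led Lsl_dt (LP (LK LD1_c5 LD2_c19 LD3_c24)) = (LP (LK LD1_c10 LD2_c28 LD3_c38)) :=
  Lre_d IH (LK LD1_c5 LD2_c19 LD3_c24) (LK LD1_c10 LD2_c28 LD3_c38) Lrfl Lrfl
theorem f42561 : Led Lsl_et (LP (LK LD1_c0 LD2_c35 LD3_c19)) = (LP (LK LD1_c1 LD2_c16 LD3_c19)) :=
  Lre_e IH (LK LD1_c0 LD2_c35 LD3_c19) (LK LD1_c1 LD2_c16 LD3_c19) Lrfl Lrfl
theorem f42568 : Led Lsl_gt (LP (LK LD1_c1 LD2_c16 LD3_c19)) = (LP (LK LD1_c2 LD2_c38 LD3_c55)) :=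
  Lre_g IH (LK LD1_c1 LD2_c16 LD3_c19) (LK LD1_c2 LD2_c38 LD3_c55) Lrfl Lrfl
theorem f258257 : Led Lsl_et (LP (LK LD1_c5 LD2_c24 LD3_c45)) = (LP (LK LD1_c2 LD2_c38 LD3_c55)) :=
  Lre_e IH (LK LD1_c5 LD2_c24 LD3_c45) (LK LD1_c2 LD2_c38 LD3_c55) Lrfl Lrfl
theorem f184270 : Led Lsl_gt (LP (LK LD1_c8 LD2_c32 LD3_c55)) = (LP (LK LD1_c4 LD2_c16 LD3_c47)) :=
  Lre_g IH (LK LD1_c8 LD2_c32 LD3_c55) (LK LD1_c4 LD2_c16 LD3_c47) Lrfl Lrfl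
theorem f258258 : Led Lsl_dt (LP (LK LD1_c5 LD2_c24 LD3_c45)) = (LP (LK LD1_c8 LD2_c32 LD3_c55)) :=
  Lgr Lrot136 (Lpr_et (f258257 IH) (Lpe (f42568 IH) (Lpe (f42561 IH) (Lpr_dt (K10.f41480 IH) (Lpe (K15.f258253 IH) (Lpr_df (K15.f258247 IH) (Lpe (K12.f221676 IH) (Lpe (K15.f169168 IH) (Lpe (K16.f184264 IH) (Lpe (f184270 IH) (Lpn (LP (LK LD1_c8 LD2_c32 LD3_c55)))))))))))))
theorem f258266 : Led Lsl_gt (LP (LK LD1_c10 LD2_c40 LD3_c9)) = (LP (LK LD1_c5 LD2_c24 LD3_c45)) :=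
  Lre_g IH (LK LD1_c10 LD2_c40 LD3_c9) (LK LD1_c5 LD2_c24 LD3_c45) Lrfl Lrfl
theorem f258242 : Led Lsl_dt (LP (LK LD1_c10 LD2_c28 LD3_c38)) = (LP (LK LD1_c5 LD2_c19 LD3_c24)) :=
  Lre_d IH (LK LD1_c10 LD2_c28 LD3_c38) (LK LD1_c5 LD2_c19 LD3_c24) Lrfl Lrfl
theorem f258268 : Led Lsl_ef (LP (LK LD1_c10 LD2_c40 LD3_c9)) = (LP (LK LD1_c10 LD2_c28 LD3_c38)) :=
  Lgr Lrot167 (Lpr_gt (f258266 IH) (Lpr_dt (f258258 IH) (Lpr_gt (f184270 IH) (Lpr_df (K16.f184264 IH) (Lpr_et (K15.f169168 IH) (Lpr_gt (K12.f221676 IH) (Lpe (K15.f258236 IH) (Lpr_dt (K15.f230575 IH) (Lpr_gt (f230292 IH) (Lpe (f258242 IH) (Lpn (LP (LK LD1_c10 LD2_c28 LD3_c38)))))))))))))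
theorem f288792 : Led Lsl_gt (LP (LK LD1_c4 LD2_c11 LD3_c2)) = (LP (LK LD1_c8 LD2_c21 LD3_c58)) :=
  Lre_g IH (LK LD1_c4 LD2_c11 LD3_c2) (LK LD1_c8 LD2_c21 LD3_c58) Lrfl Lrfl
theorem f316317 : Led Lsl_et (LP (LK LD1_c4 LD2_c11 LD3_c32)) = (LP (LK LD1_c8 LD2_c21 LD3_c58)) :=
  Lgr Lrot122 (Lpr_dt (f316284 IH) (Lpr_gt (f178707 IH) (Lpe (K9.f178544 IH) (Lpr_et (K9.f178698 IH) (Lpr_gt (K14.f170944 IH) (Lpe (K14.f182260 IH) (Lpe (K17.f288783 IH) (Lpr_df (K17.f278513 IH) (Lpr_et (K17.f288791 IH) (Lpr_gt (f288792 IH) (Lpn (LP (LK LD1_c8 LD2_c21 LD3_c58)))))))))))))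
theorem f316321 : Led Lsl_ef (LP (LK LD1_c4 LD2_c11 LD3_c32)) = (LP (LK LD1_c8 LD2_c21 LD3_c58)) :=
  Lgr Lrot88 (Lpr_et (f316317 IH) (Lpn (LP (LK LD1_c8 LD2_c21 LD3_c58))))
theorem f316351 : Led Lsl_dt (LP (LK LD1_c10 LD2_c40 LD3_c9)) = (LP (LK LD1_c8 LD2_c21 LD3_c58)) :=
  Lgr Lrot77 (Lpr_ef (f258268 IH) (Lpe (f230293 IH) (Lpr_ef (f316347 IH) (Lpe (f316284 IH) (Lpr_ef (f316321 IH) (Lpn (LP (LK LD1_c8 LD2_c21 LD3_c58))))))))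
theorem f258271 : Led Lsl_et (LP (LK LD1_c10 LD2_c40 LD3_c9)) = (LP (LK LD1_c10 LD2_c28 LD3_c38)) :=
  Lgr Lrot87 (Lpr_ef (f258268 IH) (Lpn (LP (LK LD1_c10 LD2_c28 LD3_c38))))
theorem f215525 : Led Lsl_ft (LP (LK LD1_c4 LD2_c11 LD3_c2)) = (LP (LK LD1_c8 LD2_c21 LD3_c60)) :=
  Lre_f IH (LK LD1_c4 LD2_c11 LD3_c2) (LK LD1_c8 LD2_c21 LD3_c60) Lrfl Lrfl
theorem f288702 : Led Lsl_df (LP (LK LD1_c4 LD2_c11 LD3_c2)) = (LP (LK LD1_c2 LD2_c38 LD3_c28)) :=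
  Lgr Lrot78 (Lpr_ft (f215525 IH) (Lpe (K19.f215498 IH) (Lpr_ft (K17.f288698 IH) (Lpn (LP (LK LD1_c2 LD2_c38 LD3_c28))))))
theorem f230816 : Led Lsl_df (LP (LK LD1_c5 LD2_c5 LD3_c19)) = (LP (LK LD1_c5 LD2_c20 LD3_c16)) :=
  Lgr Lrot38 (Lpr_dt (K14.f230801 IH) (Lpn (LP (LK LD1_c5 LD2_c20 LD3_c16))))
theorem f169949 : Led Lsl_gt (LP (LK LD1_c10 LD2_c1 LD3_c43)) = (LP (LK LD1_c5 LD2_c5 LD3_c19)) :=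
  Lre_g IH (LK LD1_c10 LD2_c1 LD3_c43) (LK LD1_c5 LD2_c5 LD3_c19) Lrfl Lrfl
theorem f198962 : Led Lsl_gt (LP (LK LD1_c2 LD2_c37 LD3_c31)) = (LP (LK LD1_c5 LD2_c21 LD3_c57)) :=
  Lre_g IH (LK LD1_c2 LD2_c37 LD3_c31) (LK LD1_c5 LD2_c21 LD3_c57) Lrfl Lrfl
theorem f199020 : Led Lsl_et (LP (LK LD1_c10 LD2_c34 LD3_c13)) = (LP (LK LD1_c5 LD2_c21 LD3_c57)) :=
  Lre_e IH (LK LD1_c10 LD2_c34 LD3_c13) (LK LD1_c5 LD2_c21 LD3_c57) Lrfl Lrfl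
theorem f256495 : Led Lsl_df (LP (LK LD1_c10 LD2_c1 LD3_c43)) = (LP (LK LD1_c10 LD2_c34 LD3_c13)) :=
  Lgr Lrot170 (Lpr_gt (f169949 IH) (Lpr_df (f230816 IH) (Lpr_et (K14.f192891 IH) (Lpr_gt (K15.f192883 IH) (Lpr_dt (K15.f256489 IH) (Lpr_gt (K14.f199019 IH) (Lpr_df (K14.f199007 IH) (Lpr_et (K17.f199018 IH) (Lpr_gt (f198962 IH) (Lpe (f199020 IH) (Lpn (LP (LK LD1_c10 LD2_c34 LD3_c13)))))))))))))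
theorem f316387 : Led Lsl_gt (LP (LK LD1_c10 LD2_c28 LD3_c38)) = (LP (LK LD1_c10 LD2_c34 LD3_c13)) :=
  Lgr Lrot137 (Lpe (f258271 IH) (Lpr_dt (f316351 IH) (Lpe (f288792 IH) (Lpr_df (f288702 IH) (Lpe (K16.f256507 IH) (Lpe (K15.f192883 IH) (Lpe (K14.f192891 IH) (Lpe (f230816 IH) (Lpe (f169949 IH) (Lpr_df (f256495 IH) (Lpn (LP (LK LD1_c10 LD2_c34 LD3_c13)))))))))))))
theorem f266143 : Led Lsl_et (LP (LK LD1_c2 LD2_c32 LD3_c51)) = (LP (LK LD1_c5 LD2_c11 LD3_c60)) :=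
  Lre_e IH (LK LD1_c2 LD2_c32 LD3_c51) (LK LD1_c5 LD2_c11 LD3_c60) Lrfl Lrfl
theorem f240512 : Led Lsl_gt (LP (LK LD1_c10 LD2_c14 LD3_c46)) = (LP (LK LD1_c5 LD2_c11 LD3_c60)) :=
  Lre_g IH (LK LD1_c10 LD2_c14 LD3_c46) (LK LD1_c5 LD2_c11 LD3_c60) Lrfl Lrfl
theorem f256499 : Led Lsl_dt (LP (LK LD1_c10 LD2_c1 LD3_c43)) = (LP (LK LD1_c10 LD2_c34 LD3_c13)) :=
  Lgr Lrot42 (Lpr_df (f256495 IH) (Lpn (LP (LK LD1_c10 LD2_c34 LD3_c13))))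
theorem f316389 : Led Lsl_ef (LP (LK LD1_c10 LD2_c14 LD3_c46)) = (LP (LK LD1_c10 LD2_c1 LD3_c43)) :=
  Lgr Lrot114 (Lpr_gt (f240512 IH) (Lpe (f266143 IH) (Lpr_dt (K15.f266137 IH) (Lpe (K14.f230288 IH) (Lpe (K12.f44266 IH) (Lpr_et (K15.f230291 IH) (Lpr_gt (f230292 IH) (Lpr_dt (f230293 IH) (Lpr_gt (f316387 IH) (Lpe (f256499 IH) (Lpn (LP (LK LD1_c10 LD2_c1 LD3_c43)))))))))))))
theorem f264901 : Led Lsl_et (LP (LK LD1_c6 LD2_c4 LD3_c25)) = (LP (LK LD1_c2 LD2_c58 LD3_c24)) :=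
  Lre_e IH (LK LD1_c6 LD2_c4 LD3_c25) (LK LD1_c2 LD2_c58 LD3_c24) Lrfl Lrfl
theorem f183862 : Led Lsl_bt (LP (LK LD1_c1 LD2_c24 LD3_c55)) = (LP (LK LD1_c1 LD2_c25 LD3_c1)) :=
  Lgr Lrot127 (Lpr_bf (K9.f183860 IH) (Lpn (LP (LK LD1_c1 LD2_c25 LD3_c1))))
theorem f256286 : Led Lsl_et (LP (LK LD1_c2 LD2_c5 LD3_c45)) = (LP (LK LD1_c1 LD2_c24 LD3_c55)) :=
  Lgr Lrot74 (Lpr_bf (K14.f256279 IH) (Lpe (K19.f240266 IH) (Lpe (f183862 IH) (Lpn (LP (LK LD1_c1 LD2_c24 LD3_c55))))))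
theorem f266139 : Led Lsl_df (LP (LK LD1_c5 LD2_c11 LD3_c60)) = (LP (LK LD1_c6 LD2_c4 LD3_c25)) :=
  Lgr Lrot70 (Lpr_et (f200364 IH) (Lpr_dt (K15.f266137 IH) (Lpr_et (f256286 IH) (Lpr_dt (K15.f22403 IH) (Lpr_et (f41754 IH) (Lpn (LP (LK LD1_c6 LD2_c4 LD3_c25))))))))
theorem f42291 : Led Lsl_gt (LP (LK LD1_c2 LD2_c58 LD3_c44)) = (LP (LK LD1_c6 LD2_c5 LD3_c6)) :=
  Lre_g IH (LK LD1_c2 LD2_c58 LD3_c44) (LK LD1_c6 LD2_c5 LD3_c6) Lrfl Lrfl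
theorem f42480 : Led Lsl_et (LP (LK LD1_c11 LD2_c53 LD3_c40)) = (LP (LK LD1_c6 LD2_c5 LD3_c6)) :=
  Lre_e IH (LK LD1_c11 LD2_c53 LD3_c40) (LK LD1_c6 LD2_c5 LD3_c6) Lrfl Lrfl
theorem f290044 : Led Lsl_df (LP (LK LD1_c10 LD2_c14 LD3_c46)) = (LP (LK LD1_c11 LD2_c53 LD3_c40)) :=
  Lgr Lrot170 (Lpr_gt (f240512 IH) (Lpr_df (f266139 IH) (Lpr_et (f264901 IH) (Lpr_gt (K17.f290037 IH) (Lpr_dt (K17.f274437 IH) (Lpe (K17.f284094 IH) (Lpr_df (K9.f42143 IH) (Lpr_et (K15.f42148 IH) (Lpr_gt (f42291 IH) (Lpe (f42480 IH) (Lpn (LP (LK LD1_c11 LD2_c53 LD3_c40)))))))))))))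
theorem f290048 : Led Lsl_dt (LP (LK LD1_c10 LD2_c14 LD3_c46)) = (LP (LK LD1_c11 LD2_c53 LD3_c40)) :=
  Lgr Lrot42 (Lpr_df (f290044 IH) (Lpn (LP (LK LD1_c11 LD2_c53 LD3_c40))))
theorem f256501 : Led Lsl_et (LP (LK LD1_c5 LD2_c21 LD3_c57)) = (LP (LK LD1_c10 LD2_c34 LD3_c13)) :=
  Lre_e IH (LK LD1_c5 LD2_c21 LD3_c57) (LK LD1_c10 LD2_c34 LD3_c13) Lrfl Lrfl
theorem f316391 : Led Lsl_dt (LP (LK LD1_c6 LD2_c5 LD3_c6)) = (LP (LK LD1_c5 LD2_c21 LD3_c57)) :=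
  Lgr Lrot77 (Lpe (f42480 IH) (Lpe (f290048 IH) (Lpr_ef (f316389 IH) (Lpr_df (f256495 IH) (Lpe (f256501 IH) (Lpn (LP (LK LD1_c5 LD2_c21 LD3_c57))))))))
theorem f256626 : Led Lsl_at (LP (LK LD1_c8 LD2_c39 LD3_c17)) = (LP (LK LD1_c8 LD2_c7 LD3_c43)) :=
  Lgr Lrot100 (Lpr_af (K15.f256622 IH) (Lpn (LP (LK LD1_c8 LD2_c7 LD3_c43))))
theorem f284537 : Led Lsl_af (LP (LK LD1_c8 LD2_c53 LD3_c53)) = (LP (LK LD1_c5 LD2_c21 LD3_c59)) :=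
  Lgr Lrot36 (Lpe (K13.f231361 IH) (Lpr_at (K19.f284533 IH) (Lpe (K10.f187965 IH) (Lpr_at (f256626 IH) (Lpr_bt (K15.f198968 IH) (Lpn (LP (LK LD1_c5 LD2_c21 LD3_c59))))))))
theorem f284553 : Led Lsl_gf (LP (LK LD1_c8 LD2_c53 LD3_c53)) = (LP (LK LD1_c5 LD2_c21 LD3_c57)) :=
  Lgr Lrot76 (Lpr_af (f284537 IH) (Lpe (K12.f198959 IH) (Lpr_gt (f198962 IH) (Lpn (LP (LK LD1_c5 LD2_c21 LD3_c57))))))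
theorem f316548 : Led Lsl_et (LP (LK LD1_c5 LD2_c19 LD3_c55)) = (LP (LK LD1_c4 LD2_c28 LD3_c2)) :=
  Lgr Lrot122 (Lpr_dt (K17.f274437 IH) (Lpe (K17.f284094 IH) (Lpr_df (K9.f42143 IH) (Lpr_et (K15.f42148 IH) (Lpr_gt (f42291 IH) (Lpr_dt (f316391 IH) (Lpe (f284553 IH) (Lpe (K13.f231360 IH) (Lpr_et (K17.f284170 IH) (Lpe (K17.f267062 IH) (Lpn (LP (LK LD1_c4 LD2_c28 LD3_c2)))))))))))))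
theorem f256245 : Led Lsl_ct (LP (LK LD1_c10 LD2_c29 LD3_c41)) = (LP (LK LD1_c5 LD2_c19 LD3_c55)) :=
  Lre_c IH (LK LD1_c10 LD2_c29 LD3_c41) (LK LD1_c5 LD2_c19 LD3_c55) Lrfl Lrfl
theorem f247398 : Led Lsl_ct (LP (LK LD1_c4 LD2_c28 LD3_c2)) = (LP (LK LD1_c8 LD2_c54 LD3_c7)) :=
  Lre_c IH (LK LD1_c4 LD2_c28 LD3_c2) (LK LD1_c8 LD2_c54 LD3_c7) Lrfl Lrfl
theorem f316552 : Led Lsl_ef (LP (LK LD1_c10 LD2_c29 LD3_c41)) = (LP (LK LD1_c8 LD2_c54 LD3_c7)) :=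
  Lgr Lrot28 (Lpr_ct (f256245 IH) (Lpr_et (f316548 IH) (Lpr_ct (f247398 IH) (Lpn (LP (LK LD1_c8 LD2_c54 LD3_c7))))))
theorem f316556 : Led Lsl_et (LP (LK LD1_c10 LD2_c29 LD3_c41)) = (LP (LK LD1_c8 LD2_c54 LD3_c7)) :=
  Lgr Lrot87 (Lpr_ef (f316552 IH) (Lpn (LP (LK LD1_c8 LD2_c54 LD3_c7))))
theorem f41652 : Led Lsl_et (LP (LK LD1_c4 LD2_c28 LD3_c40)) = (LP (LK LD1_c2 LD2_c11 LD3_c22)) :=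
  Lre_e IH (LK LD1_c4 LD2_c28 LD3_c40) (LK LD1_c2 LD2_c11 LD3_c22) Lrfl Lrfl
theorem f41653 : Led Lsl_ft (LP (LK LD1_c2 LD2_c11 LD3_c22)) = (LP (LK LD1_c1 LD2_c2 LD3_c40)) :=
  Lre_f IH (LK LD1_c2 LD2_c11 LD3_c22) (LK LD1_c1 LD2_c2 LD3_c40) Lrfl Lrfl
theorem f41654 : Led Lsl_et (LP (LK LD1_c2 LD2_c58 LD3_c49)) = (LP (LK LD1_c6 LD2_c5 LD3_c25)) :=
  Lre_e IH (LK LD1_c2 LD2_c58 LD3_c49) (LK LD1_c6 LD2_c5 LD3_c25) Lrfl Lrfl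
theorem f41655 : Led Lsl_ft (LP (LK LD1_c1 LD2_c25 LD3_c6)) = (LP (LK LD1_c2 LD2_c58 LD3_c49)) :=
  Lre_f IH (LK LD1_c1 LD2_c25 LD3_c6) (LK LD1_c2 LD2_c58 LD3_c49) Lrfl Lrfl
theorem f41656 : Led Lsl_et (LP (LK LD1_c1 LD2_c2 LD3_c40)) = (LP (LK LD1_c1 LD2_c25 LD3_c6)) :=
  Lgr Lrot69 (Lpe (f41653 IH) (Lpe (f41652 IH) (Lpr_ff (K1.f41634 IH) (Lpe (f41654 IH) (Lpe (f41655 IH) (Lpn (LP (LK LD1_c1 LD2_c25 LD3_c6))))))))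
theorem f165042 : Led Lsl_gt (LP (LK LD1_c4 LD2_c28 LD3_c36)) = (LP (LK LD1_c2 LD2_c11 LD3_c21)) :=
  Lre_g IH (LK LD1_c4 LD2_c28 LD3_c36) (LK LD1_c2 LD2_c11 LD3_c21) Lrfl Lrfl
theorem f316243 : Led Lsl_ft (LP (LK LD1_c16 LD2_c5 LD3_c7)) = (LP (LK LD1_c25 LD2_c38 LD3_c16)) :=
  Lgr Lrot48 (Lpr_ff (f316239 IH) (Lpn (LP (LK LD1_c25 LD2_c38 LD3_c16))))
theorem f221937 : Led Lsl_ef (LP (LK LD1_c4 LD2_c11 LD3_c26)) = (LP (LK LD1_c4 LD2_c18 LD3_c0)) :=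
  Lgr Lrot88 (Lpr_et (K18.f221933 IH) (Lpn (LP (LK LD1_c4 LD2_c18 LD3_c0))))
theorem f290091 : Led Lsl_et (LP (LK LD1_c8 LD2_c34 LD3_c14)) = (LP (LK LD1_c4 LD2_c17 LD3_c37)) :=
  Lre_e IH (LK LD1_c8 LD2_c34 LD3_c14) (LK LD1_c4 LD2_c17 LD3_c37) Lrfl Lrfl
theorem f290092 : Led Lsl_dt (LP (LK LD1_c8 LD2_c34 LD3_c14)) = (LP (LK LD1_c16 LD2_c5 LD3_c7)) :=
  Lre_d IH (LK LD1_c8 LD2_c34 LD3_c14) (LK LD1_c16 LD2_c5 LD3_c7) Lrfl Lrfl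
theorem f179670 : Led Lsl_et (LP (LK LD1_c8 LD2_c33 LD3_c54)) = (LP (LK LD1_c4 LD2_c17 LD3_c23)) :=
  Lre_e IH (LK LD1_c8 LD2_c33 LD3_c54) (LK LD1_c4 LD2_c17 LD3_c23) Lrfl Lrfl
theorem f179666 : Led Lsl_dt (LP (LK LD1_c8 LD2_c33 LD3_c54)) = (LP (LK LD1_c16 LD2_c4 LD3_c39)) :=
  Lre_d IH (LK LD1_c8 LD2_c33 LD3_c54) (LK LD1_c16 LD2_c4 LD3_c39) Lrfl Lrfl
theorem f296049 : Led Lsl_gt (LP (LK LD1_c16 LD2_c5 LD3_c7)) = (LP (LK LD1_c16 LD2_c4 LD3_c39)) :=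
  Lgr Lrot112 (Lpe (f290092 IH) (Lpr_et (f290091 IH) (Lpe (K17.f290078 IH) (Lpr_ef (f221937 IH) (Lpr_dt (K18.f296031 IH) (Lpe (K18.f179627 IH) (Lpe (K12.f179626 IH) (Lpe (K15.f179610 IH) (Lpe (f179670 IH) (Lpr_dt (f179666 IH) (Lpn (LP (LK LD1_c16 LD2_c4 LD3_c39)))))))))))))
theorem f316234 : Led Lsl_af (LP (LK LD1_c16 LD2_c5 LD3_c37)) = (LP (LK LD1_c25 LD2_c38 LD3_c16)) :=
  Lgr Lrot0 (Lpr_at (f316181 IH) (Lpn (LP (LK LD1_c25 LD2_c38 LD3_c16))))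
theorem f316261 : Led Lsl_gt (LP (LK LD1_c16 LD2_c4 LD3_c39)) = (LP (LK LD1_c16 LD2_c5 LD3_c37)) :=
  Lgr Lrot46 (Lpe (f296049 IH) (Lpr_ft (f316243 IH) (Lpe (f316234 IH) (Lpn (LP (LK LD1_c16 LD2_c5 LD3_c37))))))
theorem f284127 : Led Lsl_dt (LP (LK LD1_c16 LD2_c5 LD3_c37)) = (LP (LK LD1_c8 LD2_c34 LD3_c31)) :=
  Lre_d IH (LK LD1_c16 LD2_c5 LD3_c37) (LK LD1_c8 LD2_c34 LD3_c31) Lrfl Lrfl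
theorem f310160 : Led Lsl_ct (LP (LK LD1_c4 LD2_c17 LD3_c46)) = (LP (LK LD1_c8 LD2_c34 LD3_c31)) :=
  Lre_c IH (LK LD1_c4 LD2_c17 LD3_c46) (LK LD1_c8 LD2_c34 LD3_c31) Lrfl Lrfl
theorem f302923 : Led Lsl_ct (LP (LK LD1_c16 LD2_c4 LD3_c28)) = (LP (LK LD1_c8 LD2_c33 LD3_c49)) :=
  Lre_c IH (LK LD1_c16 LD2_c4 LD3_c28) (LK LD1_c8 LD2_c33 LD3_c49) Lrfl Lrfl
theorem f316263 : Led Lsl_gf (LP (LK LD1_c8 LD2_c33 LD3_c54)) = (LP (LK LD1_c16 LD2_c4 LD3_c28)) :=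
  Lgr Lrot144 (Lpr_dt (f179666 IH) (Lpr_gt (f316261 IH) (Lpr_dt (f284127 IH) (Lpe (f310160 IH) (Lpe (K19.f310181 IH) (Lpe (K19.f247399 IH) (Lpe (K17.f247352 IH) (Lpe (K19.f238718 IH) (Lpe (f302923 IH) (Lpn (LP (LK LD1_c16 LD2_c4 LD3_c28))))))))))))
theorem f179622 : Led Lsl_et (LP (LK LD1_c8 LD2_c36 LD3_c3)) = (LP (LK LD1_c4 LD2_c18 LD3_c42)) :=
  Lre_e IH (LK LD1_c8 LD2_c36 LD3_c3) (LK LD1_c4 LD2_c18 LD3_c42) Lrfl Lrfl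
theorem f179623 : Led Lsl_et (LP (LK LD1_c4 LD2_c17 LD3_c23)) = (LP (LK LD1_c8 LD2_c33 LD3_c54)) :=
  Lre_e IH (LK LD1_c4 LD2_c17 LD3_c23) (LK LD1_c8 LD2_c33 LD3_c54) Lrfl Lrfl
theorem f179624 : Led Lsl_cf (LP (LK LD1_c8 LD2_c36 LD3_c3)) = (LP (LK LD1_c8 LD2_c33 LD3_c54)) :=
  Lgr Lrot39 (Lpr_et (f179622 IH) (Lpr_ct (K15.f179611 IH) (Lpr_et (f179623 IH) (Lpn (LP (LK LD1_c8 LD2_c33 LD3_c54))))))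
theorem f219314 : Led Lsl_ct (LP (LK LD1_c15 LD2_c36 LD3_c26)) = (LP (LK LD1_c8 LD2_c17 LD3_c58)) :=
  Lre_c IH (LK LD1_c15 LD2_c36 LD3_c26) (LK LD1_c8 LD2_c17 LD3_c58) Lrfl Lrfl
theorem f302920 : Led Lsl_ct (LP (LK LD1_c8 LD2_c33 LD3_c49)) = (LP (LK LD1_c16 LD2_c4 LD3_c28)) :=
  Lre_c IH (LK LD1_c8 LD2_c33 LD3_c49) (LK LD1_c16 LD2_c4 LD3_c28) Lrfl Lrfl
theorem f267049 : Led Lsl_gt (LP (LK LD1_c4 LD2_c28 LD3_c1)) = (LP (LK LD1_c8 LD2_c52 LD3_c57)) :=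
  Lgr Lrot46 (Lpe (K19.f247399 IH) (Lpr_ft (K15.f247383 IH) (Lpr_at (K15.f267036 IH) (Lpn (LP (LK LD1_c8 LD2_c52 LD3_c57))))))
theorem f293808 : Led Lsl_ft (LP (LK LD1_c5 LD2_c19 LD3_c51)) = (LP (LK LD1_c5 LD2_c5 LD3_c21)) :=
  Lgr Lrot48 (Lpr_ff (K18.f293800 IH) (Lpn (LP (LK LD1_c5 LD2_c5 LD3_c21))))
theorem f302798 : Led Lsl_gt (LP (LK LD1_c5 LD2_c19 LD3_c51)) = (LP (LK LD1_c5 LD2_c6 LD3_c15)) :=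
  Lgr Lrot5 (Lpr_ft (f293808 IH) (Lpr_at (K19.f293820 IH) (Lpr_gf (K19.f302796 IH) (Lpn (LP (LK LD1_c5 LD2_c6 LD3_c15))))))
theorem f293798 : Led Lsl_df (LP (LK LD1_c5 LD2_c19 LD3_c51)) = (LP (LK LD1_c8 LD2_c8 LD3_c15)) :=
  Lgr Lrot38 (Lpr_dt (K18.f293793 IH) (Lpn (LP (LK LD1_c8 LD2_c8 LD3_c15))))
theorem f44672 : Led Lsl_gt (LP (LK LD1_c4 LD2_c27 LD3_c35)) = (LP (LK LD1_c8 LD2_c52 LD3_c61)) :=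
  Lre_g IH (LK LD1_c4 LD2_c27 LD3_c35) (LK LD1_c8 LD2_c52 LD3_c61) Lrfl Lrfl
theorem f265431 : Led Lsl_gf (LP (LK LD1_c4 LD2_c28 LD3_c21)) = (LP (LK LD1_c8 LD2_c52 LD3_c61)) :=
  Lgr Lrot76 (Lpr_af (K16.f265425 IH) (Lpe (K16.f44662 IH) (Lpr_gt (f44672 IH) (Lpn (LP (LK LD1_c8 LD2_c52 LD3_c61))))))
theorem f278644 : Led Lsl_et (LP (LK LD1_c16 LD2_c4 LD3_c29)) = (LP (LK LD1_c8 LD2_c52 LD3_c61)) :=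
  Lgr Lrot122 (Lpr_dt (K19.f247402 IH) (Lpr_gt (K19.f238718 IH) (Lpr_df (K14.f247387 IH) (Lpr_et (K15.f191925 IH) (Lpr_gt (K14.f191902 IH) (Lpe (K14.f253473 IH) (Lpr_gt (K16.f278640 IH) (Lpr_df (K15.f44639 IH) (Lpr_et (K15.f44642 IH) (Lpr_gt (f44672 IH) (Lpn (LP (LK LD1_c8 LD2_c52 LD3_c61)))))))))))))
theorem f302918 : Led Lsl_gt (LP (LK LD1_c8 LD2_c20 LD3_c34)) = (LP (LK LD1_c8 LD2_c33 LD3_c49)) :=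
  Lgr Lrot139 (Lpe (K15.f182277 IH) (Lpe (f267049 IH) (Lpe (K19.f267053 IH) (Lpr_dt (K19.f302808 IH) (Lpe (f302798 IH) (Lpr_df (f293798 IH) (Lpr_et (K17.f292174 IH) (Lpr_gf (f265431 IH) (Lpe (f278644 IH) (Lpr_dt (K19.f247402 IH) (Lpn (LP (LK LD1_c8 LD2_c33 LD3_c49)))))))))))))
theorem f316265 : Led Lsl_gf (LP (LK LD1_c15 LD2_c36 LD3_c26)) = (LP (LK LD1_c8 LD2_c54 LD3_c7)) :=
  Lgr Lrot104 (Lpr_ct (f219314 IH) (Lpe (K16.f219305 IH) (Lpr_cf (f179624 IH) (Lpr_gf (f316263 IH) (Lpe (f302920 IH) (Lpe (f302918 IH) (Lpe (K15.f182277 IH) (Lpe (K17.f267062 IH) (Lpr_ct (f247398 IH) (Lpn (LP (LK LD1_c8 LD2_c54 LD3_c7))))))))))))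
theorem f316268 : Led Lsl_et (LP (LK LD1_c8 LD2_c17 LD3_c57)) = (LP (LK LD1_c15 LD2_c36 LD3_c26)) :=
  Lre_e IH (LK LD1_c8 LD2_c17 LD3_c57) (LK LD1_c15 LD2_c36 LD3_c26) Lrfl Lrfl
theorem f316560 : Led Lsl_df (LP (LK LD1_c4 LD2_c28 LD3_c36)) = (LP (LK LD1_c8 LD2_c17 LD3_c57)) :=
  Lgr Lrot170 (Lpr_gt (f165042 IH) (Lpe (K14.f187450 IH) (Lpr_et (f41656 IH) (Lpr_gt (K11.f42154 IH) (Lpr_dt (K17.f274097 IH) (Lpr_gt (K17.f274247 IH) (Lpr_df (K17.f290010 IH) (Lpr_et (f316556 IH) (Lpe (f316265 IH) (Lpe (f316268 IH) (Lpn (LP (LK LD1_c8 LD2_c17 LD3_c57)))))))))))))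
theorem f41689 : Led Lsl_et (LP (LK LD1_c6 LD2_c5 LD3_c11)) = (LP (LK LD1_c2 LD2_c58 LD3_c45)) :=
  Lre_e IH (LK LD1_c6 LD2_c5 LD3_c11) (LK LD1_c2 LD2_c58 LD3_c45) Lrfl Lrfl
theorem f41690 : Led Lsl_dt (LP (LK LD1_c6 LD2_c5 LD3_c11)) = (LP (LK LD1_c11 LD2_c53 LD3_c48)) :=
  Lre_d IH (LK LD1_c6 LD2_c5 LD3_c11) (LK LD1_c11 LD2_c53 LD3_c48) Lrfl Lrfl
theorem f219728 : Led Lsl_et (LP (LK LD1_c8 LD2_c53 LD3_c23)) = (LP (LK LD1_c4 LD2_c27 LD3_c46)) :=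
  Lre_e IH (LK LD1_c8 LD2_c53 LD3_c23) (LK LD1_c4 LD2_c27 LD3_c46) Lrfl Lrfl
theorem f219729 : Led Lsl_dt (LP (LK LD1_c8 LD2_c53 LD3_c23)) = (LP (LK LD1_c16 LD2_c37 LD3_c21)) :=
  Lre_d IH (LK LD1_c8 LD2_c53 LD3_c23) (LK LD1_c16 LD2_c37 LD3_c21) Lrfl Lrfl
theorem f316568 : Led Lsl_gt (LP (LK LD1_c11 LD2_c53 LD3_c48)) = (LP (LK LD1_c16 LD2_c37 LD3_c21)) :=
  Lgr Lrot112 (Lpe (f41690 IH) (Lpr_et (f41689 IH) (Lpe (K11.f42154 IH) (Lpe (f41656 IH) (Lpr_dt (K14.f187450 IH) (Lpe (f165042 IH) (Lpr_df (f316560 IH) (Lpe (K16.f219630 IH) (Lpe (f219728 IH) (Lpr_dt (f219729 IH) (Lpn (LP (LK LD1_c16 LD2_c37 LD3_c21)))))))))))))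
theorem f279034 : Led Lsl_af (LP (LK LD1_c16 LD2_c37 LD3_c21)) = (LP (LK LD1_c10 LD2_c47 LD3_c52)) :=
  Lgr Lrot0 (Lpr_at (K16.f279028 IH) (Lpn (LP (LK LD1_c10 LD2_c47 LD3_c52))))
theorem f7855 : Led Lsl_ft (LP (LK LD1_c19 LD2_c32 LD3_c1)) = (LP (LK LD1_c10 LD2_c47 LD3_c52)) :=
  Lre_f IH (LK LD1_c19 LD2_c32 LD3_c1) (LK LD1_c10 LD2_c47 LD3_c52) Lrfl Lrfl
theorem f316570 : Led Lsl_gf (LP (LK LD1_c11 LD2_c53 LD3_c48)) = (LP (LK LD1_c19 LD2_c32 LD3_c1)) :=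
  Lgr Lrot47 (Lpr_gt (f316568 IH) (Lpr_af (f279034 IH) (Lpe (f7855 IH) (Lpn (LP (LK LD1_c19 LD2_c32 LD3_c1))))))
theorem f41687 : Led Lsl_et (LP (LK LD1_c11 LD2_c52 LD3_c38)) = (LP (LK LD1_c6 LD2_c4 LD3_c32)) :=
  Lre_e IH (LK LD1_c11 LD2_c52 LD3_c38) (LK LD1_c6 LD2_c4 LD3_c32) Lrfl Lrfl
theorem f41600 : Led Lsl_at (LP (LK LD1_c20 LD2_c55 LD3_c47)) = (LP (LK LD1_c11 LD2_c54 LD3_c25)) :=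
  Lre_a IH (LK LD1_c20 LD2_c55 LD3_c47) (LK LD1_c11 LD2_c54 LD3_c25) Lrfl Lrfl
theorem f41602 : Led Lsl_af (LP (LK LD1_c26 LD2_c41 LD3_c21)) = (LP (LK LD1_c20 LD2_c58 LD3_c53)) :=
  Lgr Lrot68 (Lpr_ct (K1.f41582 IH) (Lpr_at (f41600 IH) (Lpr_ct (K1.f41601 IH) (Lpn (LP (LK LD1_c20 LD2_c58 LD3_c53))))))
theorem f41613 : Led Lsl_ft (LP (LK LD1_c16 LD2_c42 LD3_c35)) = (LP (LK LD1_c20 LD2_c58 LD3_c53)) :=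
  Lgr Lrot142 (Lpr_dt (K1.f41564 IH) (Lpr_ct (K1.f41582 IH) (Lpr_dt (K1.f41581 IH) (Lpr_ct (K1.f41580 IH) (Lpe (K1.f41608 IH) (Lpr_ct (K1.f41607 IH) (Lpr_dt (K1.f41606 IH) (Lpe (K1.f41604 IH) (Lpr_af (f41602 IH) (Lpn (LP (LK LD1_c20 LD2_c58 LD3_c53))))))))))))
theorem f41668 : Led Lsl_ft (LP (LK LD1_c26 LD2_c34 LD3_c14)) = (LP (LK LD1_c26 LD2_c41 LD3_c21)) :=
  Lgr Lrot54 (Lpr_df (K1.f41661 IH) (Lpe (f41613 IH) (Lpe (K1.f41568 IH) (Lpn (LP (LK LD1_c26 LD2_c41 LD3_c21))))))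
theorem f41678 : Led Lsl_ff (LP (LK LD1_c16 LD2_c37 LD3_c6)) = (LP (LK LD1_c20 LD2_c55 LD3_c47)) :=
  Lgr Lrot23 (Lpr_ct (K1.f41547 IH) (Lpr_ft (f41668 IH) (Lpr_ct (K1.f41582 IH) (Lpn (LP (LK LD1_c20 LD2_c55 LD3_c47))))))
theorem f41682 : Led Lsl_at (LP (LK LD1_c16 LD2_c37 LD3_c6)) = (LP (LK LD1_c8 LD2_c55 LD3_c35)) :=
  Lre_a IH (LK LD1_c16 LD2_c37 LD3_c6) (LK LD1_c8 LD2_c55 LD3_c35) Lrfl Lrfl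
theorem f41584 : Led Lsl_gt (LP (LK LD1_c16 LD2_c42 LD3_c34)) = (LP (LK LD1_c8 LD2_c55 LD3_c35)) :=
  Lre_g IH (LK LD1_c16 LD2_c42 LD3_c34) (LK LD1_c8 LD2_c55 LD3_c35) Lrfl Lrfl
theorem f41685 : Led Lsl_gf (LP (LK LD1_c16 LD2_c42 LD3_c34)) = (LP (LK LD1_c20 LD2_c55 LD3_c47)) :=
  Lgr Lrot47 (Lpr_gt (f41584 IH) (Lpe (f41682 IH) (Lpr_ff (f41678 IH) (Lpn (LP (LK LD1_c20 LD2_c55 LD3_c47))))))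
theorem f279014 : Led Lsl_ft (LP (LK LD1_c8 LD2_c53 LD3_c23)) = (LP (LK LD1_c16 LD2_c37 LD3_c22)) :=
  Lre_f IH (LK LD1_c8 LD2_c53 LD3_c23) (LK LD1_c16 LD2_c37 LD3_c22) Lrfl Lrfl
theorem f279016 : Led Lsl_gt (LP (LK LD1_c8 LD2_c53 LD3_c23)) = (LP (LK LD1_c16 LD2_c37 LD3_c19)) :=
  Lre_g IH (LK LD1_c8 LD2_c53 LD3_c23) (LK LD1_c16 LD2_c37 LD3_c19) Lrfl Lrfl
theorem f279017 : Led Lsl_gt (LP (LK LD1_c16 LD2_c37 LD3_c19)) = (LP (LK LD1_c10 LD2_c47 LD3_c53)) :=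
  Lgr Lrot46 (Lpe (f279016 IH) (Lpr_ft (f279014 IH) (Lpr_at (K16.f278995 IH) (Lpn (LP (LK LD1_c10 LD2_c47 LD3_c53))))))
theorem f279021 : Led Lsl_et (LP (LK LD1_c26 LD2_c34 LD3_c38)) = (LP (LK LD1_c16 LD2_c37 LD3_c19)) :=
  Lre_e IH (LK LD1_c26 LD2_c34 LD3_c38) (LK LD1_c16 LD2_c37 LD3_c19) Lrfl Lrfl
theorem f316582 : Led Lsl_df (LP (LK LD1_c16 LD2_c42 LD3_c34)) = (LP (LK LD1_c26 LD2_c34 LD3_c38)) :=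
  Lgr Lrot168 (Lpr_gf (f41685 IH) (Lpe (K1.f41606 IH) (Lpr_et (f41687 IH) (Lpe (K11.f41688 IH) (Lpe (f41689 IH) (Lpr_dt (f41690 IH) (Lpr_gf (f316570 IH) (Lpe (K16.f7791 IH) (Lpe (f279017 IH) (Lpe (f279021 IH) (Lpn (LP (LK LD1_c26 LD2_c34 LD3_c38)))))))))))))
theorem f41636 : Led Lsl_gt (LP (LK LD1_c4 LD2_c28 LD3_c40)) = (LP (LK LD1_c8 LD2_c55 LD3_c33)) :=
  Lre_g IH (LK LD1_c4 LD2_c28 LD3_c40) (LK LD1_c8 LD2_c55 LD3_c33) Lrfl Lrfl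
theorem f41637 : Led Lsl_gt (LP (LK LD1_c8 LD2_c55 LD3_c33)) = (LP (LK LD1_c11 LD2_c52 LD3_c38)) :=
  Lgr Lrot46 (Lpe (f41636 IH) (Lpr_ft (K1.f41616 IH) (Lpr_at (K1.f41615 IH) (Lpn (LP (LK LD1_c11 LD2_c52 LD3_c38))))))
theorem f41643 : Led Lsl_et (LP (LK LD1_c16 LD2_c42 LD3_c30)) = (LP (LK LD1_c8 LD2_c55 LD3_c33)) :=
  Lre_e IH (LK LD1_c16 LD2_c42 LD3_c30) (LK LD1_c8 LD2_c55 LD3_c33) Lrfl Lrfl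
theorem f41644 : Led Lsl_dt (LP (LK LD1_c16 LD2_c42 LD3_c30)) = (LP (LK LD1_c26 LD2_c41 LD3_c16)) :=
  Lre_d IH (LK LD1_c16 LD2_c42 LD3_c30) (LK LD1_c26 LD2_c41 LD3_c16) Lrfl Lrfl
theorem f244145 : Led Lsl_ct (LP (LK LD1_c6 LD2_c4 LD3_c53)) = (LP (LK LD1_c11 LD2_c53 LD3_c9)) :=
  Lre_c IH (LK LD1_c6 LD2_c4 LD3_c53) (LK LD1_c11 LD2_c53 LD3_c9) Lrfl Lrfl
theorem f315963 : Led Lsl_ef (LP (LK LD1_c10 LD2_c47 LD3_c53)) = (LP (LK LD1_c11 LD2_c53 LD3_c9)) :=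
  Lgr Lrot28 (Lpr_ct (K16.f7802 IH) (Lpr_et (f315961 IH) (Lpr_ct (f244145 IH) (Lpn (LP (LK LD1_c11 LD2_c53 LD3_c9))))))
theorem f316589 : Led Lsl_dt (LP (LK LD1_c11 LD2_c53 LD3_c9)) = (LP (LK LD1_c20 LD2_c56 LD3_c38)) :=
  Lre_d IH (LK LD1_c11 LD2_c53 LD3_c9) (LK LD1_c20 LD2_c56 LD3_c38) Lrfl Lrfl
theorem f316590 : Led Lsl_gf (LP (LK LD1_c26 LD2_c41 LD3_c16)) = (LP (LK LD1_c20 LD2_c56 LD3_c38)) :=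
  Lgr Lrot145 (Lpe (f41644 IH) (Lpr_et (f41643 IH) (Lpr_gt (f41637 IH) (Lpr_dt (K1.f41606 IH) (Lpe (f41685 IH) (Lpr_df (f316582 IH) (Lpr_et (f279021 IH) (Lpr_gt (f279017 IH) (Lpr_ef (f315963 IH) (Lpr_dt (f316589 IH) (Lpn (LP (LK LD1_c20 LD2_c56 LD3_c38)))))))))))))
theorem f41645 : Led Lsl_et (LP (LK LD1_c6 LD2_c4 LD3_c32)) = (LP (LK LD1_c11 LD2_c52 LD3_c38)) :=
  Lre_e IH (LK LD1_c6 LD2_c4 LD3_c32) (LK LD1_c11 LD2_c52 LD3_c38) Lrfl Lrfl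
theorem f265152 : Led Lsl_ft (LP (LK LD1_c2 LD2_c58 LD3_c26)) = (LP (LK LD1_c6 LD2_c4 LD3_c32)) :=
  Lre_f IH (LK LD1_c2 LD2_c58 LD3_c26) (LK LD1_c6 LD2_c4 LD3_c32) Lrfl Lrfl
theorem f265158 : Led Lsl_df (LP (LK LD1_c8 LD2_c14 LD3_c0)) = (LP (LK LD1_c6 LD2_c4 LD3_c32)) :=
  Lgr Lrot78 (Lpr_ft (K15.f265149 IH) (Lpr_dt (K15.f42508 IH) (Lpr_ft (f265152 IH) (Lpn (LP (LK LD1_c6 LD2_c4 LD3_c32))))))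
theorem f265174 : Led Lsl_et (LP (LK LD1_c8 LD2_c13 LD3_c31)) = (LP (LK LD1_c15 LD2_c28 LD3_c16)) :=
  Lre_e IH (LK LD1_c8 LD2_c13 LD3_c31) (LK LD1_c15 LD2_c28 LD3_c16) Lrfl Lrfl
theorem f316596 : Led Lsl_gt (LP (LK LD1_c15 LD2_c28 LD3_c16)) = (LP (LK LD1_c11 LD2_c53 LD3_c9)) :=
  Lgr Lrot137 (Lpe (f265174 IH) (Lpr_dt (K16.f256253 IH) (Lpe (K16.f265166 IH) (Lpr_df (f265158 IH) (Lpr_et (f41645 IH) (Lpe (f41637 IH) (Lpe (f41643 IH) (Lpr_dt (f41644 IH) (Lpr_gf (f316590 IH) (Lpe (f316589 IH) (Lpn (LP (LK LD1_c11 LD2_c53 LD3_c9)))))))))))))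
theorem f316602 : Led Lsl_et (LP (LK LD1_c10 LD2_c47 LD3_c53)) = (LP (LK LD1_c11 LD2_c53 LD3_c9)) :=
  Lgr Lrot122 (Lpr_dt (K16.f7791 IH) (Lpe (f316570 IH) (Lpe (f41690 IH) (Lpr_et (f41689 IH) (Lpr_gt (K11.f41688 IH) (Lpe (f265158 IH) (Lpr_gt (K16.f265166 IH) (Lpe (K16.f256253 IH) (Lpr_et (f265174 IH) (Lpr_gt (f316596 IH) (Lpn (LP (LK LD1_c11 LD2_c53 LD3_c9)))))))))))))
theorem f315989 : Led Lsl_et (LP (LK LD1_c11 LD2_c52 LD3_c18)) = (LP (LK LD1_c8 LD2_c53 LD3_c26)) :=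
  Lgr Lrot123 (Lpr_af (f315980 IH) (Lpe (f315961 IH) (Lpe (K17.f278991 IH) (Lpn (LP (LK LD1_c8 LD2_c53 LD3_c26))))))
theorem f315995 : Led Lsl_ef (LP (LK LD1_c11 LD2_c52 LD3_c18)) = (LP (LK LD1_c8 LD2_c53 LD3_c26)) :=
  Lgr Lrot88 (Lpr_et (f315989 IH) (Lpn (LP (LK LD1_c8 LD2_c53 LD3_c26))))
theorem f274423 : Led Lsl_ct (LP (LK LD1_c11 LD2_c52 LD3_c18)) = (LP (LK LD1_c20 LD2_c55 LD3_c5)) :=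
  Lre_c IH (LK LD1_c11 LD2_c52 LD3_c18) (LK LD1_c20 LD2_c55 LD3_c5) Lrfl Lrfl
theorem f278985 : Led Lsl_ct (LP (LK LD1_c16 LD2_c37 LD3_c22)) = (LP (LK LD1_c8 LD2_c53 LD3_c26)) :=
  Lre_c IH (LK LD1_c16 LD2_c37 LD3_c22) (LK LD1_c8 LD2_c53 LD3_c26) Lrfl Lrfl
theorem f315999 : Led Lsl_et (LP (LK LD1_c20 LD2_c55 LD3_c5)) = (LP (LK LD1_c16 LD2_c37 LD3_c22)) :=
  Lgr Lrot158 (Lpe (f274423 IH) (Lpr_ef (f315995 IH) (Lpe (f278985 IH) (Lpn (LP (LK LD1_c16 LD2_c37 LD3_c22))))))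
theorem f316604 : Led Lsl_af (LP (LK LD1_c20 LD2_c55 LD3_c5)) = (LP (LK LD1_c11 LD2_c53 LD3_c9)) :=
  Lgr Lrot50 (Lpr_et (f315999 IH) (Lpr_at (K16.f278995 IH) (Lpr_et (f316602 IH) (Lpn (LP (LK LD1_c11 LD2_c53 LD3_c9))))))
theorem f315971 : Led Lsl_ct (LP (LK LD1_c11 LD2_c53 LD3_c9)) = (LP (LK LD1_c6 LD2_c4 LD3_c53)) :=
  Lre_c IH (LK LD1_c11 LD2_c53 LD3_c9) (LK LD1_c6 LD2_c4 LD3_c53) Lrfl Lrfl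
theorem f315972 : Led Lsl_ft (LP (LK LD1_c8 LD2_c53 LD3_c29)) = (LP (LK LD1_c11 LD2_c53 LD3_c9)) :=
  Lgr Lrot4 (Lpe (K19.f225845 IH) (Lpr_ff (f315969 IH) (Lpe (f315971 IH) (Lpn (LP (LK LD1_c11 LD2_c53 LD3_c9))))))
theorem f316629 : Led Lsl_gf (LP (LK LD1_c20 LD2_c55 LD3_c5)) = (LP (LK LD1_c16 LD2_c37 LD3_c31)) :=
  Lgr Lrot76 (Lpr_af (f316604 IH) (Lpe (f315972 IH) (Lpr_gt (K19.f225877 IH) (Lpn (LP (LK LD1_c16 LD2_c37 LD3_c31))))))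
theorem f315997 : Led Lsl_bt (LP (LK LD1_c11 LD2_c52 LD3_c18)) = (LP (LK LD1_c10 LD2_c28 LD3_c43)) :=
  Lgr Lrot119 (Lpr_ef (f315995 IH) (Lpr_bf (K17.f289002 IH) (Lpe (K19.f276869 IH) (Lpn (LP (LK LD1_c10 LD2_c28 LD3_c43))))))
theorem f249328 : Led Lsl_gt (LP (LK LD1_c10 LD2_c29 LD3_c36)) = (LP (LK LD1_c5 LD2_c19 LD3_c52)) :=
  Lre_g IH (LK LD1_c10 LD2_c29 LD3_c36) (LK LD1_c5 LD2_c19 LD3_c52) Lrfl Lrfl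
theorem f302837 : Led Lsl_gf (LP (LK LD1_c10 LD2_c29 LD3_c36)) = (LP (LK LD1_c8 LD2_c54 LD3_c6)) :=
  Lgr Lrot47 (Lpr_gt (f249328 IH) (Lpr_af (K19.f302789 IH) (Lpr_ff (K19.f302829 IH) (Lpn (LP (LK LD1_c8 LD2_c54 LD3_c6))))))
theorem f165947 : Led Lsl_gt (LP (LK LD1_c2 LD2_c34 LD3_c61)) = (LP (LK LD1_c5 LD2_c16 LD3_c29)) :=
  Lre_g IH (LK LD1_c2 LD2_c34 LD3_c61) (LK LD1_c5 LD2_c16 LD3_c29) Lrfl Lrfl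
theorem f169435 : Led Lsl_et (LP (LK LD1_c10 LD2_c22 LD3_c33)) = (LP (LK LD1_c5 LD2_c16 LD3_c29)) :=
  Lre_e IH (LK LD1_c10 LD2_c22 LD3_c33) (LK LD1_c5 LD2_c16 LD3_c29) Lrfl Lrfl
theorem f258081 : Led Lsl_dt (LP (LK LD1_c10 LD2_c22 LD3_c33)) = (LP (LK LD1_c10 LD2_c29 LD3_c36)) :=
  Lgr Lrot136 (Lpr_et (f169435 IH) (Lpe (f165947 IH) (Lpe (K10.f169379 IH) (Lpe (K12.f167616 IH) (Lpe (K14.f169404 IH) (Lpe (K15.f258059 IH) (Lpr_gf (K18.f258075 IH) (Lpe (f249254 IH) (Lpr_dt (K16.f249245 IH) (Lpe (f249328 IH) (Lpn (LP (LK LD1_c10 LD2_c29 LD3_c36)))))))))))))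
theorem f300444 : Led Lsl_gf (LP (LK LD1_c5 LD2_c12 LD3_c8)) = (LP (LK LD1_c5 LD2_c19 LD3_c18)) :=
  Lgr Lrot76 (Lpr_af (K18.f300383 IH) (Lpe (K18.f230469 IH) (Lpr_gt (K9.f44077 IH) (Lpn (LP (LK LD1_c5 LD2_c19 LD3_c18))))))
theorem f184231 : Led Lsl_et (LP (LK LD1_c8 LD2_c33 LD3_c20)) = (LP (LK LD1_c5 LD2_c19 LD3_c18)) :=
  Lgr Lrot122 (Lpr_dt (K18.f169399 IH) (Lpr_gt (K18.f169398 IH) (Lpr_df (K10.f169360 IH) (Lpr_et (K18.f169397 IH) (Lpr_gt (K9.f184104 IH) (Lpr_dt (K9.f44074 IH) (Lpr_gt (K9.f28274 IH) (Lpe (K9.f44075 IH) (Lpr_et (K9.f44076 IH) (Lpr_gt (K9.f44077 IH) (Lpn (LP (LK LD1_c5 LD2_c19 LD3_c18)))))))))))))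
theorem f302839 : Led Lsl_gt (LP (LK LD1_c5 LD2_c16 LD3_c29)) = (LP (LK LD1_c5 LD2_c19 LD3_c61)) :=
  Lgr Lrot137 (Lpe (f169435 IH) (Lpr_dt (f258081 IH) (Lpr_gf (f302837 IH) (Lpe (K19.f302833 IH) (Lpe (K18.f300673 IH) (Lpr_gf (f300444 IH) (Lpe (f184231 IH) (Lpr_dt (K18.f169399 IH) (Lpe (K18.f184455 IH) (Lpe (K14.f248338 IH) (Lpn (LP (LK LD1_c5 LD2_c19 LD3_c61)))))))))))))
theorem f230578 : Led Lsl_bt (LP (LK LD1_c8 LD2_c52 LD3_c14)) = (LP (LK LD1_c5 LD2_c19 LD3_c27)) :=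
  Lgr Lrot35 (Lpe (K14.f230576 IH) (Lpr_bf (K15.f230565 IH) (Lpe (K15.f230577 IH) (Lpn (LP (LK LD1_c5 LD2_c19 LD3_c27))))))
theorem f248434 : Led Lsl_ef (LP (LK LD1_c5 LD2_c19 LD3_c61)) = (LP (LK LD1_c5 LD2_c19 LD3_c27)) :=
  Lgr Lrot29 (Lpr_bt (K14.f248320 IH) (Lpr_et (K14.f248430 IH) (Lpr_bt (f230578 IH) (Lpn (LP (LK LD1_c5 LD2_c19 LD3_c27))))))
theorem f293744 : Led Lsl_af (LP (LK LD1_c10 LD2_c16 LD3_c31)) = (LP (LK LD1_c10 LD2_c1 LD3_c44)) :=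
  Lgr Lrot0 (Lpr_at (K18.f293740 IH) (Lpn (LP (LK LD1_c10 LD2_c1 LD3_c44))))
theorem f293816 : Led Lsl_ef (LP (LK LD1_c5 LD2_c19 LD3_c51)) = (LP (LK LD1_c10 LD2_c16 LD3_c31)) :=
  Lgr Lrot20 (Lpr_at (K18.f293810 IH) (Lpr_et (K18.f293767 IH) (Lpe (f293744 IH) (Lpn (LP (LK LD1_c10 LD2_c16 LD3_c31))))))
theorem f265344 : Led Lsl_bf (LP (LK LD1_c8 LD2_c38 LD3_c52)) = (LP (LK LD1_c5 LD2_c21 LD3_c43)) :=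
  Lgr Lrot24 (Lpr_bt (K18.f265340 IH) (Lpn (LP (LK LD1_c5 LD2_c21 LD3_c43))))
theorem f265357 : Led Lsl_df (LP (LK LD1_c5 LD2_c21 LD3_c43)) = (LP (LK LD1_c10 LD2_c16 LD3_c31)) :=
  Lgr Lrot12 (Lpe (f265344 IH) (Lpr_dt (K17.f265355 IH) (Lpe (K18.f240382 IH) (Lpn (LP (LK LD1_c10 LD2_c16 LD3_c31))))))
theorem f302841 : Led Lsl_gt (LP (LK LD1_c10 LD2_c28 LD3_c43)) = (LP (LK LD1_c5 LD2_c21 LD3_c43)) :=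
  Lgr Lrot112 (Lpe (K15.f230596 IH) (Lpe (f248434 IH) (Lpe (f302839 IH) (Lpe (f169435 IH) (Lpr_dt (f258081 IH) (Lpr_gf (f302837 IH) (Lpe (K19.f302833 IH) (Lpe (f302798 IH) (Lpr_ef (f293816 IH) (Lpe (f265357 IH) (Lpn (LP (LK LD1_c5 LD2_c21 LD3_c43)))))))))))))
theorem f271023 : Led Lsl_gf (LP (LK LD1_c10 LD2_c20 LD3_c23)) = (LP (LK LD1_c5 LD2_c35 LD3_c32)) :=
  Lgr Lrot141 (Lpe (K14.f237092 IH) (Lpr_dt (K14.f190972 IH) (Lpe (K13.f196387 IH) (Lpe (K9.f47790 IH) (Lpr_et (K14.f54085 IH) (Lpr_gt (K14.f213900 IH) (Lpr_dt (K14.f246628 IH) (Lpr_gt (K16.f271013 IH) (Lpe (K17.f270998 IH) (Lpr_et (K16.f246997 IH) (Lpn (LP (LK LD1_c5 LD2_c35 LD3_c32)))))))))))))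
theorem f212981 : Led Lsl_ct (LP (LK LD1_c2 LD2_c43 LD3_c44)) = (LP (LK LD1_c5 LD2_c35 LD3_c35)) :=
  Lre_c IH (LK LD1_c2 LD2_c43 LD3_c44) (LK LD1_c5 LD2_c35 LD3_c35) Lrfl Lrfl
theorem f246958 : Led Lsl_gt (LP (LK LD1_c11 LD2_c3 LD3_c21)) = (LP (LK LD1_c5 LD2_c35 LD3_c35)) :=
  Lre_g IH (LK LD1_c11 LD2_c3 LD3_c21) (LK LD1_c5 LD2_c35 LD3_c35) Lrfl Lrfl
theorem f316633 : Led Lsl_ct (LP (LK LD1_c8 LD2_c38 LD3_c52)) = (LP (LK LD1_c11 LD2_c3 LD3_c21)) :=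
  Lgr Lrot64 (Lpr_bt (K18.f265340 IH) (Lpe (f302841 IH) (Lpe (f315997 IH) (Lpr_ct (f274423 IH) (Lpr_gf (f316629 IH) (Lpr_cf (K19.f264888 IH) (Lpr_gf (f271023 IH) (Lpe (K16.f246975 IH) (Lpr_ct (f212981 IH) (Lpe (f246958 IH) (Lpn (LP (LK LD1_c11 LD2_c3 LD3_c21)))))))))))))
theorem f265348 : Led Lsl_ct (LP (LK LD1_c8 LD2_c38 LD3_c49)) = (LP (LK LD1_c4 LD2_c20 LD3_c31)) :=
  Lre_c IH (LK LD1_c8 LD2_c38 LD3_c49) (LK LD1_c4 LD2_c20 LD3_c31) Lrfl Lrfl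
theorem f316666 : Led Lsl_ff (LP (LK LD1_c8 LD2_c38 LD3_c49)) = (LP (LK LD1_c11 LD2_c3 LD3_c21)) :=
  Lgr Lrot23 (Lpr_ct (f265348 IH) (Lpr_ft (K18.f265338 IH) (Lpr_ct (f316633 IH) (Lpn (LP (LK LD1_c11 LD2_c3 LD3_c21))))))
theorem f212987 : Led Lsl_ct (LP (LK LD1_c5 LD2_c12 LD3_c46)) = (LP (LK LD1_c2 LD2_c33 LD3_c14)) :=
  Lre_c IH (LK LD1_c5 LD2_c12 LD3_c46) (LK LD1_c2 LD2_c33 LD3_c14) Lrfl Lrfl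
theorem f265335 : Led Lsl_ct (LP (LK LD1_c4 LD2_c20 LD3_c31)) = (LP (LK LD1_c8 LD2_c38 LD3_c49)) :=
  Lre_c IH (LK LD1_c4 LD2_c20 LD3_c31) (LK LD1_c8 LD2_c38 LD3_c49) Lrfl Lrfl
theorem f293347 : Led Lsl_af (LP (LK LD1_c5 LD2_c12 LD3_c46)) = (LP (LK LD1_c8 LD2_c38 LD3_c49)) :=
  Lgr Lrot68 (Lpr_ct (f212987 IH) (Lpr_at (K18.f293339 IH) (Lpr_ct (f265335 IH) (Lpn (LP (LK LD1_c8 LD2_c38 LD3_c49))))))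
theorem f316683 : Led Lsl_gf (LP (LK LD1_c5 LD2_c12 LD3_c46)) = (LP (LK LD1_c5 LD2_c35 LD3_c35)) :=
  Lgr Lrot76 (Lpr_af (f293347 IH) (Lpr_ff (f316666 IH) (Lpr_gt (f246958 IH) (Lpn (LP (LK LD1_c5 LD2_c35 LD3_c35))))))
theorem f201738 : Led Lsl_et (LP (LK LD1_c2 LD2_c33 LD3_c13)) = (LP (LK LD1_c5 LD2_c12 LD3_c46)) :=
  Lre_e IH (LK LD1_c2 LD2_c33 LD3_c13) (LK LD1_c5 LD2_c12 LD3_c46) Lrfl Lrfl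
theorem f316701 : Led Lsl_et (LP (LK LD1_c2 LD2_c43 LD3_c43)) = (LP (LK LD1_c5 LD2_c35 LD3_c35)) :=
  Lre_e IH (LK LD1_c2 LD2_c43 LD3_c43) (LK LD1_c5 LD2_c35 LD3_c35) Lrfl Lrfl
theorem f199486 : Led Lsl_dt (LP (LK LD1_c2 LD2_c43 LD3_c43)) = (LP (LK LD1_c5 LD2_c35 LD3_c34)) :=
  Lre_d IH (LK LD1_c2 LD2_c43 LD3_c43) (LK LD1_c5 LD2_c35 LD3_c34) Lrfl Lrfl
theorem f316704 : Led Lsl_gt (LP (LK LD1_c9 LD2_c51 LD3_c30)) = (LP (LK LD1_c5 LD2_c35 LD3_c34)) :=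
  Lgr Lrot139 (Lpe (K19.f54211 IH) (Lpe (K16.f54209 IH) (Lpe (K12.f54200 IH) (Lpr_dt (K11.f31741 IH) (Lpe (K11.f201731 IH) (Lpe (K11.f191122 IH) (Lpr_et (f201738 IH) (Lpr_gf (f316683 IH) (Lpe (f316701 IH) (Lpr_dt (f199486 IH) (Lpn (LP (LK LD1_c5 LD2_c35 LD3_c34)))))))))))))
theorem f199485 : Led Lsl_dt (LP (LK LD1_c5 LD2_c35 LD3_c34)) = (LP (LK LD1_c2 LD2_c43 LD3_c43)) :=
  Lre_d IH (LK LD1_c5 LD2_c35 LD3_c34) (LK LD1_c2 LD2_c43 LD3_c43) Lrfl Lrfl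
theorem f238086 : Led Lsl_dt (LP (LK LD1_c9 LD2_c0 LD3_c37)) = (LP (LK LD1_c4 LD2_c31 LD3_c21)) :=
  Lre_d IH (LK LD1_c9 LD2_c0 LD3_c37) (LK LD1_c4 LD2_c31 LD3_c21) Lrfl Lrfl
theorem f316706 : Led Lsl_gt (LP (LK LD1_c5 LD2_c24 LD3_c31)) = (LP (LK LD1_c9 LD2_c0 LD3_c37)) :=
  Lgr Lrot94 (Lpe (K19.f279623 IH) (Lpr_gt (f316704 IH) (Lpr_dt (f199485 IH) (Lpe (K12.f199483 IH) (Lpe (K12.f212962 IH) (Lpe (K19.f279640 IH) (Lpr_df (K19.f310667 IH) (Lpe (K19.f310681 IH) (Lpe (f238086 IH) (Lpn (LP (LK LD1_c9 LD2_c0 LD3_c37))))))))))))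
theorem f238076 : Led Lsl_dt (LP (LK LD1_c4 LD2_c31 LD3_c21)) = (LP (LK LD1_c9 LD2_c0 LD3_c37)) :=
  Lre_d IH (LK LD1_c4 LD2_c31 LD3_c21) (LK LD1_c9 LD2_c0 LD3_c37) Lrfl Lrfl
theorem f235349 : Led Lsl_dt (LP (LK LD1_c4 LD2_c31 LD3_c23)) = (LP (LK LD1_c9 LD2_c0 LD3_c42)) :=
  Lre_d IH (LK LD1_c4 LD2_c31 LD3_c23) (LK LD1_c9 LD2_c0 LD3_c42) Lrfl Lrfl
theorem f293424 : Led Lsl_ct (LP (LK LD1_c9 LD2_c0 LD3_c37)) = (LP (LK LD1_c9 LD2_c0 LD3_c42)) :=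
  Lgr Lrot7 (Lpe (f238076 IH) (Lpr_gf (K19.f293420 IH) (Lpe (K19.f235643 IH) (Lpe (K16.f54219 IH) (Lpe (K13.f235337 IH) (Lpr_gt (K13.f175038 IH) (Lpr_dt (K13.f175037 IH) (Lpr_gt (K19.f235348 IH) (Lpr_dt (f235349 IH) (Lpn (LP (LK LD1_c9 LD2_c0 LD3_c42))))))))))))
theorem f316814 : Led Lsl_ct (LP (LK LD1_c2 LD2_c38 LD3_c12)) = (LP (LK LD1_c4 LD2_c31 LD3_c23)) :=
  Lgr Lrot110 (Lpe (K18.f217761 IH) (Lpe (K16.f224179 IH) (Lpr_gf (K13.f224173 IH) (Lpe (K19.f189396 IH) (Lpe (K19.f279614 IH) (Lpr_ct (K19.f279623 IH) (Lpr_gt (f316706 IH) (Lpr_ct (f293424 IH) (Lpe (f235349 IH) (Lpn (LP (LK LD1_c4 LD2_c31 LD3_c23))))))))))))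
theorem f290452 : Led Lsl_dt (LP (LK LD1_c16 LD2_c41 LD3_c17)) = (LP (LK LD1_c26 LD2_c39 LD3_c57)) :=
  Lre_d IH (LK LD1_c16 LD2_c41 LD3_c17) (LK LD1_c26 LD2_c39 LD3_c57) Lrfl Lrfl
theorem f290468 : Led Lsl_ft (LP (LK LD1_c16 LD2_c41 LD3_c17)) = (LP (LK LD1_c8 LD2_c55 LD3_c7)) :=
  Lre_f IH (LK LD1_c16 LD2_c41 LD3_c17) (LK LD1_c8 LD2_c55 LD3_c7) Lrfl Lrfl
theorem f290467 : Led Lsl_at (LP (LK LD1_c8 LD2_c55 LD3_c7)) = (LP (LK LD1_c16 LD2_c41 LD3_c14)) :=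
  Lre_a IH (LK LD1_c8 LD2_c55 LD3_c7) (LK LD1_c16 LD2_c41 LD3_c14) Lrfl Lrfl
theorem f290432 : Led Lsl_bt (LP (LK LD1_c16 LD2_c41 LD3_c17)) = (LP (LK LD1_c8 LD2_c55 LD3_c11)) :=
  Lre_b IH (LK LD1_c16 LD2_c41 LD3_c17) (LK LD1_c8 LD2_c55 LD3_c11) Lrfl Lrfl
theorem f54140 : Led Lsl_bt (LP (LK LD1_c9 LD2_c51 LD3_c42)) = (LP (LK LD1_c5 LD2_c0 LD3_c41)) :=
  Lre_b IH (LK LD1_c9 LD2_c51 LD3_c42) (LK LD1_c5 LD2_c0 LD3_c41) Lrfl Lrfl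
theorem f54266 : Led Lsl_gt (LP (LK LD1_c9 LD2_c51 LD3_c47)) = (LP (LK LD1_c5 LD2_c0 LD3_c43)) :=
  Lre_g IH (LK LD1_c9 LD2_c51 LD3_c47) (LK LD1_c5 LD2_c0 LD3_c43) Lrfl Lrfl
theorem f290433 : Led Lsl_ct (LP (LK LD1_c16 LD2_c41 LD3_c17)) = (LP (LK LD1_c9 LD2_c51 LD3_c47)) :=
  Lgr Lrot64 (Lpr_bt (f290432 IH) (Lpr_gf (K17.f290406 IH) (Lpe (K17.f199129 IH) (Lpr_ct (K14.f44734 IH) (Lpe (K12.f220796 IH) (Lpe (K15.f201296 IH) (Lpe (K15.f218814 IH) (Lpe (f54140 IH) (Lpr_ct (K12.f54142 IH) (Lpe (f54266 IH) (Lpn (LP (LK LD1_c9 LD2_c51 LD3_c47)))))))))))))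
theorem f275525 : Led Lsl_ft (LP (LK LD1_c8 LD2_c55 LD3_c7)) = (LP (LK LD1_c16 LD2_c41 LD3_c17)) :=
  Lre_f IH (LK LD1_c8 LD2_c55 LD3_c7) (LK LD1_c16 LD2_c41 LD3_c17) Lrfl Lrfl
theorem f275523 : Led Lsl_ct (LP (LK LD1_c16 LD2_c41 LD3_c15)) = (LP (LK LD1_c8 LD2_c55 LD3_c7)) :=
  Lre_c IH (LK LD1_c16 LD2_c41 LD3_c15) (LK LD1_c8 LD2_c55 LD3_c7) Lrfl Lrfl
theorem f290448 : Led Lsl_ff (LP (LK LD1_c16 LD2_c41 LD3_c15)) = (LP (LK LD1_c9 LD2_c51 LD3_c47)) :=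
  Lgr Lrot23 (Lpr_ct (f275523 IH) (Lpr_ft (f275525 IH) (Lpr_ct (f290433 IH) (Lpn (LP (LK LD1_c9 LD2_c51 LD3_c47))))))
theorem f54268 : Led Lsl_gt (LP (LK LD1_c5 LD2_c0 LD3_c43)) = (LP (LK LD1_c9 LD2_c51 LD3_c46)) :=
  Lre_g IH (LK LD1_c5 LD2_c0 LD3_c43) (LK LD1_c9 LD2_c51 LD3_c46) Lrfl Lrfl
theorem f290458 : Led Lsl_at (LP (LK LD1_c16 LD2_c41 LD3_c15)) = (LP (LK LD1_c9 LD2_c51 LD3_c46)) :=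
  Lgr Lrot26 (Lpr_ff (f290448 IH) (Lpr_gt (f54266 IH) (Lpr_gt (f54268 IH) (Lpn (LP (LK LD1_c9 LD2_c51 LD3_c46))))))
theorem f223500 : Led Lsl_ct (LP (LK LD1_c8 LD2_c55 LD3_c7)) = (LP (LK LD1_c16 LD2_c41 LD3_c15)) :=
  Lre_c IH (LK LD1_c8 LD2_c55 LD3_c7) (LK LD1_c16 LD2_c41 LD3_c15) Lrfl Lrfl
theorem f290462 : Led Lsl_at (LP (LK LD1_c16 LD2_c41 LD3_c14)) = (LP (LK LD1_c8 LD2_c55 LD3_c7)) :=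
  Lre_a IH (LK LD1_c16 LD2_c41 LD3_c14) (LK LD1_c8 LD2_c55 LD3_c7) Lrfl Lrfl
theorem f290463 : Led Lsl_cf (LP (LK LD1_c16 LD2_c41 LD3_c14)) = (LP (LK LD1_c9 LD2_c51 LD3_c46)) :=
  Lgr Lrot1 (Lpr_at (f290462 IH) (Lpr_ct (f223500 IH) (Lpr_at (f290458 IH) (Lpn (LP (LK LD1_c9 LD2_c51 LD3_c46))))))
theorem f212746 : Led Lsl_dt (LP (LK LD1_c18 LD2_c3 LD3_c7)) = (LP (LK LD1_c9 LD2_c51 LD3_c46)) :=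
  Lre_d IH (LK LD1_c18 LD2_c3 LD3_c7) (LK LD1_c9 LD2_c51 LD3_c46) Lrfl Lrfl
theorem f54269 : Led Lsl_dt (LP (LK LD1_c9 LD2_c51 LD3_c46)) = (LP (LK LD1_c18 LD2_c3 LD3_c7)) :=
  Lre_d IH (LK LD1_c9 LD2_c51 LD3_c46) (LK LD1_c18 LD2_c3 LD3_c7) Lrfl Lrfl
theorem f277989 : Led Lsl_bt (LP (LK LD1_c11 LD2_c3 LD3_c53)) = (LP (LK LD1_c5 LD2_c35 LD3_c49)) :=
  Lre_b IH (LK LD1_c11 LD2_c3 LD3_c53) (LK LD1_c5 LD2_c35 LD3_c49) Lrfl Lrfl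
theorem f277990 : Led Lsl_ct (LP (LK LD1_c18 LD2_c3 LD3_c7)) = (LP (LK LD1_c11 LD2_c3 LD3_c53)) :=
  Lgr Lrot191 (Lpe (f54269 IH) (Lpe (f54268 IH) (Lpe (K14.f53673 IH) (Lpe (K13.f53680 IH) (Lpe (K9.f21866 IH) (Lpe (K12.f199181 IH) (Lpe (K12.f192816 IH) (Lpe (K10.f53083 IH) (Lpe (K10.f53079 IH) (Lpe (K12.f211290 IH) (Lpr_bf (K12.f211397 IH) (Lpe (K11.f166456 IH) (Lpe (K16.f226894 IH) (Lpe (K19.f244048 IH) (Lpe (K16.f199532 IH) (Lpe (K16.f192824 IH) (Lpr_df (K16.f199353 IH) (Lpr_gf (K16.f277982 IH) (Lpe (f277989 IH) (Lpn (LP (LK LD1_c11 LD2_c3 LD3_c53))))))))))))))))))))))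
theorem f277996 : Led Lsl_cf (LP (LK LD1_c18 LD2_c3 LD3_c7)) = (LP (LK LD1_c11 LD2_c3 LD3_c53)) :=
  Lgr Lrot11 (Lpr_ct (f277990 IH) (Lpn (LP (LK LD1_c11 LD2_c3 LD3_c53))))
theorem f275488 : Led Lsl_dt (LP (LK LD1_c25 LD2_c37 LD3_c23)) = (LP (LK LD1_c15 LD2_c41 LD3_c47)) :=
  Lre_d IH (LK LD1_c25 LD2_c37 LD3_c23) (LK LD1_c15 LD2_c41 LD3_c47) Lrfl Lrfl
theorem f290526 : Led Lsl_df (LP (LK LD1_c11 LD2_c3 LD3_c53)) = (LP (LK LD1_c11 LD2_c2 LD3_c33)) :=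
  Lgr Lrot13 (Lpe (f277996 IH) (Lpr_dt (f212746 IH) (Lpe (f290463 IH) (Lpe (f290467 IH) (Lpe (f290468 IH) (Lpr_dt (f290452 IH) (Lpr_ct (K17.f290515 IH) (Lpr_dt (f275488 IH) (Lpe (K16.f275573 IH) (Lpn (LP (LK LD1_c11 LD2_c2 LD3_c33))))))))))))
theorem f213748 : Led Lsl_bt (LP (LK LD1_c11 LD2_c2 LD3_c33)) = (LP (LK LD1_c5 LD2_c35 LD3_c12)) :=
  Lre_b IH (LK LD1_c11 LD2_c2 LD3_c33) (LK LD1_c5 LD2_c35 LD3_c12) Lrfl Lrfl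
theorem f235245 : Led Lsl_ff (LP (LK LD1_c11 LD2_c2 LD3_c33)) = (LP (LK LD1_c8 LD2_c39 LD3_c31)) :=
  Lgr Lrot25 (Lpr_bt (f213748 IH) (Lpr_ft (K13.f235243 IH) (Lpr_bt (K10.f31305 IH) (Lpn (LP (LK LD1_c8 LD2_c39 LD3_c31))))))
theorem f48122 : Led Lsl_dt (LP (LK LD1_c16 LD2_c13 LD3_c0)) = (LP (LK LD1_c8 LD2_c39 LD3_c31)) :=
  Lre_d IH (LK LD1_c16 LD2_c13 LD3_c0) (LK LD1_c8 LD2_c39 LD3_c31) Lrfl Lrfl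
theorem f290542 : Led Lsl_ft (LP (LK LD1_c11 LD2_c3 LD3_c53)) = (LP (LK LD1_c16 LD2_c13 LD3_c0)) :=
  Lgr Lrot54 (Lpr_df (f290526 IH) (Lpr_ff (f235245 IH) (Lpe (f48122 IH) (Lpn (LP (LK LD1_c16 LD2_c13 LD3_c0))))))
theorem f277967 : Led Lsl_bt (LP (LK LD1_c5 LD2_c35 LD3_c49)) = (LP (LK LD1_c11 LD2_c3 LD3_c53)) :=
  Lre_b IH (LK LD1_c5 LD2_c35 LD3_c49) (LK LD1_c11 LD2_c3 LD3_c53) Lrfl Lrfl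
theorem f212747 : Led Lsl_bt (LP (LK LD1_c16 LD2_c13 LD3_c0)) = (LP (LK LD1_c8 LD2_c39 LD3_c32)) :=
  Lre_b IH (LK LD1_c16 LD2_c13 LD3_c0) (LK LD1_c8 LD2_c39 LD3_c32) Lrfl Lrfl
theorem f290544 : Led Lsl_ff (LP (LK LD1_c5 LD2_c35 LD3_c49)) = (LP (LK LD1_c8 LD2_c39 LD3_c32)) :=
  Lgr Lrot25 (Lpr_bt (f277967 IH) (Lpr_ft (f290542 IH) (Lpr_bt (f212747 IH) (Lpn (LP (LK LD1_c8 LD2_c39 LD3_c32))))))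
theorem f277965 : Led Lsl_af (LP (LK LD1_c9 LD2_c0 LD3_c52)) = (LP (LK LD1_c5 LD2_c35 LD3_c49)) :=
  Lgr Lrot68 (Lpr_ct (K13.f235337 IH) (Lpr_at (K13.f53681 IH) (Lpr_ct (K16.f277933 IH) (Lpn (LP (LK LD1_c5 LD2_c35 LD3_c49))))))
theorem f313073 : Led Lsl_gt (LP (LK LD1_c5 LD2_c35 LD3_c19)) = (LP (LK LD1_c9 LD2_c0 LD3_c52)) :=
  Lgr Lrot46 (Lpr_gf (K19.f313071 IH) (Lpe (f290544 IH) (Lpe (f277965 IH) (Lpn (LP (LK LD1_c9 LD2_c0 LD3_c52))))))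
theorem f199389 : Led Lsl_dt (LP (LK LD1_c2 LD2_c43 LD3_c35)) = (LP (LK LD1_c5 LD2_c35 LD3_c19)) :=
  Lre_d IH (LK LD1_c2 LD2_c43 LD3_c35) (LK LD1_c5 LD2_c35 LD3_c19) Lrfl Lrfl
theorem f316826 : Led Lsl_gf (LP (LK LD1_c2 LD2_c43 LD3_c35)) = (LP (LK LD1_c4 LD2_c31 LD3_c23)) :=
  Lgr Lrot148 (Lpr_dt (f199389 IH) (Lpr_gt (f313073 IH) (Lpr_dt (K13.f235330 IH) (Lpe (K13.f235544 IH) (Lpe (K13.f234101 IH) (Lpr_gf (K13.f235577 IH) (Lpe (K16.f172010 IH) (Lpe (K18.f303271 IH) (Lpr_ct (f316814 IH) (Lpn (LP (LK LD1_c4 LD2_c31 LD3_c23))))))))))))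
theorem f235673 : Led Lsl_ct (LP (LK LD1_c1 LD2_c8 LD3_c54)) = (LP (LK LD1_c2 LD2_c23 LD3_c33)) :=
  Lre_c IH (LK LD1_c1 LD2_c8 LD3_c54) (LK LD1_c2 LD2_c23 LD3_c33) Lrfl Lrfl
theorem f238077 : Led Lsl_dt (LP (LK LD1_c2 LD2_c12 LD3_c39)) = (LP (LK LD1_c1 LD2_c8 LD3_c54)) :=
  Lgr Lrot42 (Lpr_df (K15.f238070 IH) (Lpn (LP (LK LD1_c1 LD2_c8 LD3_c54))))
theorem f313081 : Led Lsl_gt (LP (LK LD1_c1 LD2_c18 LD3_c12)) = (LP (LK LD1_c2 LD2_c12 LD3_c39)) :=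
  Lgr Lrot49 (Lpe (K19.f199338 IH) (Lpr_gf (K19.f313075 IH) (Lpe (K8.f33280 IH) (Lpr_gt (K12.f212542 IH) (Lpr_dt (K10.f172027 IH) (Lpe (K13.f235637 IH) (Lpr_dt (K17.f235674 IH) (Lpe (f235673 IH) (Lpe (f238077 IH) (Lpn (LP (LK LD1_c2 LD2_c12 LD3_c39))))))))))))
theorem f293426 : Led Lsl_cf (LP (LK LD1_c9 LD2_c0 LD3_c37)) = (LP (LK LD1_c9 LD2_c0 LD3_c42)) :=
  Lgr Lrot14 (Lpe (f238076 IH) (Lpr_gf (K19.f293420 IH) (Lpe (K19.f235643 IH) (Lpe (K16.f54219 IH) (Lpe (K13.f235343 IH) (Lpr_gt (K13.f175038 IH) (Lpr_dt (K13.f175037 IH) (Lpr_gt (K19.f235348 IH) (Lpr_dt (f235349 IH) (Lpn (LP (LK LD1_c9 LD2_c0 LD3_c42))))))))))))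
theorem f293497 : Led Lsl_dt (LP (LK LD1_c9 LD2_c0 LD3_c42)) = (LP (LK LD1_c4 LD2_c31 LD3_c23)) :=
  Lre_d IH (LK LD1_c9 LD2_c0 LD3_c42) (LK LD1_c4 LD2_c31 LD3_c23) Lrfl Lrfl
theorem f316812 : Led Lsl_gf (LP (LK LD1_c9 LD2_c43 LD3_c41)) = (LP (LK LD1_c9 LD2_c0 LD3_c42)) :=
  Lgr Lrot104 (Lpr_ct (K19.f314389 IH) (Lpe (K19.f171303 IH) (Lpe (K13.f171302 IH) (Lpe (K13.f213478 IH) (Lpe (K12.f53664 IH) (Lpr_gf (K12.f212994 IH) (Lpe (K19.f167848 IH) (Lpr_gt (f316706 IH) (Lpr_ct (f293424 IH) (Lpn (LP (LK LD1_c9 LD2_c0 LD3_c42))))))))))))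
theorem f316829 : Led Lsl_gf (LP (LK LD1_c9 LD2_c0 LD3_c42)) = (LP (LK LD1_c7 LD2_c58 LD3_c44)) :=
  Lgr Lrot104 (Lpe (f293426 IH) (Lpe (f238076 IH) (Lpe (K19.f212541 IH) (Lpe (f313081 IH) (Lpe (K19.f199391 IH) (Lpr_gf (f316826 IH) (Lpe (f293497 IH) (Lpe (f316812 IH) (Lpr_ct (K19.f314389 IH) (Lpn (LP (LK LD1_c7 LD2_c58 LD3_c44))))))))))))
theorem f313068 : Led Lsl_ct (LP (LK LD1_c5 LD2_c35 LD3_c19)) = (LP (LK LD1_c4 LD2_c31 LD3_c26)) :=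
  Lgr Lrot40 (Lpe (K16.f199364 IH) (Lpe (K16.f177987 IH) (Lpr_ff (K19.f313064 IH) (Lpn (LP (LK LD1_c4 LD2_c31 LD3_c26))))))
theorem f235668 : Led Lsl_dt (LP (LK LD1_c9 LD2_c0 LD3_c45)) = (LP (LK LD1_c4 LD2_c31 LD3_c24)) :=
  Lre_d IH (LK LD1_c9 LD2_c0 LD3_c45) (LK LD1_c4 LD2_c31 LD3_c24) Lrfl Lrfl
theorem f316839 : Led Lsl_gf (LP (LK LD1_c9 LD2_c0 LD3_c45)) = (LP (LK LD1_c9 LD2_c43 LD3_c41)) :=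
  Lgr Lrot144 (Lpr_dt (f235668 IH) (Lpr_gt (K13.f175041 IH) (Lpr_dt (K14.f177913 IH) (Lpe (f313068 IH) (Lpe (f199389 IH) (Lpr_gf (f316826 IH) (Lpe (f293497 IH) (Lpr_gf (f316829 IH) (Lpe (K19.f314389 IH) (Lpn (LP (LK LD1_c9 LD2_c43 LD3_c41))))))))))))
theorem f314387 : Led Lsl_gt (LP (LK LD1_c4 LD2_c56 LD3_c0)) = (LP (LK LD1_c4 LD2_c20 LD3_c46)) :=
  Lgr Lrot5 (Lpr_ft (K13.f235275 IH) (Lpr_at (K19.f314373 IH) (Lpe (K13.f218141 IH) (Lpn (LP (LK LD1_c4 LD2_c20 LD3_c46))))))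
theorem f33514 : Led Lsl_bf (LP (LK LD1_c2 LD2_c7 LD3_c51)) = (LP (LK LD1_c1 LD2_c14 LD3_c7)) :=
  Lgr Lrot24 (Lpr_bt (K10.f33512 IH) (Lpn (LP (LK LD1_c1 LD2_c14 LD3_c7))))
theorem f224846 : Led Lsl_gf (LP (LK LD1_c2 LD2_c36 LD3_c60)) = (LP (LK LD1_c2 LD2_c7 LD3_c51)) :=
  Lgr Lrot124 (Lpe (K16.f224648 IH) (Lpr_ct (K12.f172023 IH) (Lpr_gt (K12.f172024 IH) (Lpr_cf (K12.f224435 IH) (Lpe (K12.f224214 IH) (Lpr_gt (K12.f27506 IH) (Lpr_ct (K12.f188896 IH) (Lpr_gt (K12.f188897 IH) (Lpe (K10.f33456 IH) (Lpe (f33514 IH) (Lpn (LP (LK LD1_c2 LD2_c7 LD3_c51)))))))))))))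
theorem f279632 : Led Lsl_cf (LP (LK LD1_c9 LD2_c51 LD3_c30)) = (LP (LK LD1_c5 LD2_c24 LD3_c31)) :=
  Lgr Lrot11 (Lpr_ct (K19.f279623 IH) (Lpn (LP (LK LD1_c5 LD2_c24 LD3_c31))))
theorem f189439 : Led Lsl_gt (LP (LK LD1_c1 LD2_c18 LD3_c16)) = (LP (LK LD1_c2 LD2_c43 LD3_c45)) :=
  Lre_g IH (LK LD1_c1 LD2_c18 LD3_c16) (LK LD1_c2 LD2_c43 LD3_c45) Lrfl Lrfl
theorem f189440 : Led Lsl_dt (LP (LK LD1_c2 LD2_c43 LD3_c45)) = (LP (LK LD1_c5 LD2_c35 LD3_c39)) :=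
  Lre_d IH (LK LD1_c2 LD2_c43 LD3_c45) (LK LD1_c5 LD2_c35 LD3_c39) Lrfl Lrfl
theorem f278004 : Led Lsl_ct (LP (LK LD1_c5 LD2_c35 LD3_c34)) = (LP (LK LD1_c5 LD2_c35 LD3_c39)) :=
  Lgr Lrot7 (Lpe (f199486 IH) (Lpr_gf (K16.f277987 IH) (Lpe (K13.f224187 IH) (Lpe (K13.f234007 IH) (Lpr_cf (K16.f277904 IH) (Lpr_gt (K16.f189126 IH) (Lpr_dt (K12.f189125 IH) (Lpr_gt (f189439 IH) (Lpr_dt (f189440 IH) (Lpn (LP (LK LD1_c5 LD2_c35 LD3_c39))))))))))))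
theorem f311268 : Led Lsl_gf (LP (LK LD1_c2 LD2_c38 LD3_c10)) = (LP (LK LD1_c4 LD2_c21 LD3_c21)) :=
  Lgr Lrot154 (Lpr_dt (K13.f235629 IH) (Lpr_ct (K19.f311260 IH) (Lpe (K14.f224180 IH) (Lpe (K13.f221609 IH) (Lpr_df (K13.f235671 IH) (Lpe (K15.f265036 IH) (Lpr_ct (K10.f194411 IH) (Lpr_gt (K19.f251778 IH) (Lpr_dt (K13.f184416 IH) (Lpn (LP (LK LD1_c4 LD2_c21 LD3_c21))))))))))))
theorem f311618 : Led Lsl_cf (LP (LK LD1_c4 LD2_c21 LD3_c21)) = (LP (LK LD1_c2 LD2_c43 LD3_c45)) :=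
  Lgr Lrot99 (Lpe (K13.f184416 IH) (Lpe (K19.f184411 IH) (Lpe (K14.f247176 IH) (Lpr_cf (K19.f181439 IH) (Lpr_gf (K19.f311610 IH) (Lpe (K19.f311616 IH) (Lpr_gt (K12.f177871 IH) (Lpr_ct (K16.f177935 IH) (Lpr_gt (f189439 IH) (Lpn (LP (LK LD1_c2 LD2_c43 LD3_c45))))))))))))
theorem f312118 : Led Lsl_gf (LP (LK LD1_c4 LD2_c4 LD3_c36)) = (LP (LK LD1_c2 LD2_c43 LD3_c45)) :=
  Lgr Lrot144 (Lpr_dt (K12.f199348 IH) (Lpr_gt (K16.f199381 IH) (Lpe (K16.f277928 IH) (Lpe (K13.f31168 IH) (Lpe (K10.f31298 IH) (Lpr_gf (K19.f312116 IH) (Lpe (K13.f235629 IH) (Lpr_gf (f311268 IH) (Lpr_cf (f311618 IH) (Lpn (LP (LK LD1_c2 LD2_c43 LD3_c45))))))))))))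
theorem f312120 : Led Lsl_cf (LP (LK LD1_c2 LD2_c43 LD3_c45)) = (LP (LK LD1_c4 LD2_c21 LD3_c21)) :=
  Lgr Lrot166 (Lpe (f312118 IH) (Lpr_dt (K12.f199348 IH) (Lpr_gt (K16.f199381 IH) (Lpe (K16.f277928 IH) (Lpr_ct (K10.f31176 IH) (Lpe (K10.f31298 IH) (Lpr_gf (K19.f312116 IH) (Lpe (K13.f235629 IH) (Lpr_gf (f311268 IH) (Lpn (LP (LK LD1_c4 LD2_c21 LD3_c21))))))))))))
theorem f187043 : Led Lsl_dt (LP (LK LD1_c9 LD2_c0 LD3_c33)) = (LP (LK LD1_c4 LD2_c31 LD3_c18)) :=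
  Lre_d IH (LK LD1_c9 LD2_c0 LD3_c33) (LK LD1_c4 LD2_c31 LD3_c18) Lrfl Lrfl
theorem f316710 : Led Lsl_gf (LP (LK LD1_c5 LD2_c24 LD3_c31)) = (LP (LK LD1_c9 LD2_c0 LD3_c33)) :=
  Lgr Lrot147 (Lpe (f279632 IH) (Lpr_gt (f316704 IH) (Lpr_ct (f278004 IH) (Lpe (f189440 IH) (Lpr_cf (f312120 IH) (Lpe (K13.f199322 IH) (Lpe (K12.f172013 IH) (Lpe (K12.f187036 IH) (Lpe (f187043 IH) (Lpn (LP (LK LD1_c9 LD2_c0 LD3_c33))))))))))))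
theorem f316872 : Led Lsl_ct (LP (LK LD1_c9 LD2_c0 LD3_c45)) = (LP (LK LD1_c9 LD2_c0 LD3_c33)) :=
  Lgr Lrot152 (Lpr_gf (f316839 IH) (Lpe (K19.f235270 IH) (Lpr_gt (f314387 IH) (Lpr_ct (K10.f31176 IH) (Lpe (f224846 IH) (Lpe (K16.f235109 IH) (Lpe (K19.f212939 IH) (Lpr_cf (f279632 IH) (Lpr_gf (f316710 IH) (Lpn (LP (LK LD1_c9 LD2_c0 LD3_c33))))))))))))
theorem f235667 : Led Lsl_dt (LP (LK LD1_c4 LD2_c31 LD3_c24)) = (LP (LK LD1_c9 LD2_c0 LD3_c45)) :=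
  Lre_d IH (LK LD1_c4 LD2_c31 LD3_c24) (LK LD1_c9 LD2_c0 LD3_c45) Lrfl Lrfl
theorem f314391 : Led Lsl_cf (LP (LK LD1_c9 LD2_c43 LD3_c41)) = (LP (LK LD1_c7 LD2_c58 LD3_c44)) :=
  Lgr Lrot11 (Lpr_ct (K19.f314389 IH) (Lpn (LP (LK LD1_c7 LD2_c58 LD3_c44))))
theorem f316874 : Led Lsl_gt (LP (LK LD1_c9 LD2_c0 LD3_c45)) = (LP (LK LD1_c7 LD2_c58 LD3_c44)) :=
  Lgr Lrot9 (Lpe (f235667 IH) (Lpr_gt (K13.f175041 IH) (Lpr_ct (K13.f175036 IH) (Lpr_gt (K12.f183315 IH) (Lpr_ct (K12.f187035 IH) (Lpe (f187043 IH) (Lpe (f316872 IH) (Lpr_gf (f316839 IH) (Lpr_cf (f314391 IH) (Lpn (LP (LK LD1_c7 LD2_c58 LD3_c44))))))))))))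
theorem f316883 : Led Lsl_gf (LP (LK LD1_c4 LD2_c31 LD3_c24)) = (LP (LK LD1_c2 LD2_c43 LD3_c35)) :=
  Lgr Lrot144 (Lpr_dt (f235667 IH) (Lpr_gt (f316874 IH) (Lpr_dt (K19.f171305 IH) (Lpe (K13.f171302 IH) (Lpr_df (K14.f171297 IH) (Lpr_gf (K14.f246817 IH) (Lpe (f238077 IH) (Lpe (f313081 IH) (Lpe (K19.f199391 IH) (Lpn (LP (LK LD1_c2 LD2_c43 LD3_c35))))))))))))
theorem f261286 : Led Lsl_gf (LP (LK LD1_c1 LD2_c8 LD3_c54)) = (LP (LK LD1_c1 LD2_c59 LD3_c25)) :=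
  Lgr Lrot124 (Lpe (K15.f238073 IH) (Lpe (K15.f260899 IH) (Lpr_gt (K15.f261279 IH) (Lpe (K14.f180057 IH) (Lpr_bt (K14.f211275 IH) (Lpe (K12.f211401 IH) (Lpr_ct (K12.f28926 IH) (Lpr_gt (K12.f211290 IH) (Lpe (K15.f53097 IH) (Lpr_bt (K19.f189885 IH) (Lpn (LP (LK LD1_c1 LD2_c59 LD3_c25)))))))))))))
theorem f189972 : Led Lsl_cf (LP (LK LD1_c1 LD2_c59 LD3_c25)) = (LP (LK LD1_c1 LD2_c59 LD3_c25)) :=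
  Lgr Lrot39 (Lpe (K19.f189883 IH) (Lpr_ct (K10.f189968 IH) (Lpr_et (K19.f189880 IH) (Lpn (LP (LK LD1_c1 LD2_c59 LD3_c25))))))
theorem f311599 : Led Lsl_et (LP (LK LD1_c2 LD2_c23 LD3_c28)) = (LP (LK LD1_c2 LD2_c46 LD3_c27)) :=
  Lgr Lrot87 (Lpr_ef (K19.f311590 IH) (Lpn (LP (LK LD1_c2 LD2_c46 LD3_c27))))
theorem f21867 : Led Lsl_et (LP (LK LD1_c1 LD2_c11 LD3_c27)) = (LP (LK LD1_c0 LD2_c33 LD3_c5)) :=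
  Lre_e IH (LK LD1_c1 LD2_c11 LD3_c27) (LK LD1_c0 LD2_c33 LD3_c5) Lrfl Lrfl
theorem f21868 : Led Lsl_dt (LP (LK LD1_c1 LD2_c11 LD3_c27)) = (LP (LK LD1_c2 LD2_c28 LD3_c27)) :=
  Lre_d IH (LK LD1_c1 LD2_c11 LD3_c27) (LK LD1_c2 LD2_c28 LD3_c27) Lrfl Lrfl
theorem f311602 : Led Lsl_gf (LP (LK LD1_c1 LD2_c59 LD3_c25)) = (LP (LK LD1_c2 LD2_c46 LD3_c27)) :=
  Lgr Lrot141 (Lpe (K19.f189880 IH) (Lpr_dt (K14.f27604 IH) (Lpr_gt (K14.f253031 IH) (Lpe (f21868 IH) (Lpr_et (f21867 IH) (Lpr_gt (K9.f3777 IH) (Lpr_dt (K0.f3573 IH) (Lpr_gt (K9.f21861 IH) (Lpr_df (K19.f311489 IH) (Lpr_et (f311599 IH) (Lpn (LP (LK LD1_c2 LD2_c46 LD3_c27)))))))))))))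
theorem f311588 : Led Lsl_df (LP (LK LD1_c2 LD2_c12 LD3_c38)) = (LP (LK LD1_c2 LD2_c46 LD3_c27)) :=
  Lgr Lrot38 (Lpr_dt (K19.f311554 IH) (Lpn (LP (LK LD1_c2 LD2_c46 LD3_c27))))
theorem f199401 : Led Lsl_ct (LP (LK LD1_c1 LD2_c18 LD3_c12)) = (LP (LK LD1_c2 LD2_c43 LD3_c35)) :=
  Lre_c IH (LK LD1_c1 LD2_c18 LD3_c12) (LK LD1_c2 LD2_c43 LD3_c35) Lrfl Lrfl
theorem f317013 : Led Lsl_gt (LP (LK LD1_c2 LD2_c12 LD3_c38)) = (LP (LK LD1_c1 LD2_c18 LD3_c12)) :=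
  Lgr Lrot9 (Lpr_df (f311588 IH) (Lpe (f311602 IH) (Lpe (f189972 IH) (Lpe (f261286 IH) (Lpr_ct (f235673 IH) (Lpe (K17.f235674 IH) (Lpr_cf (K14.f235917 IH) (Lpr_gf (f316883 IH) (Lpe (f199401 IH) (Lpn (LP (LK LD1_c1 LD2_c18 LD3_c12))))))))))))
theorem f194696 : Led Lsl_dt (LP (LK LD1_c8 LD2_c6 LD3_c56)) = (LP (LK LD1_c4 LD2_c3 LD3_c11)) :=
  Lre_d IH (LK LD1_c8 LD2_c6 LD3_c56) (LK LD1_c4 LD2_c3 LD3_c11) Lrfl Lrfl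
theorem f274635 : Led Lsl_ct (LP (LK LD1_c4 LD2_c3 LD3_c9)) = (LP (LK LD1_c5 LD2_c22 LD3_c31)) :=
  Lgr Lrot176 (Lpe (K17.f51367 IH) (Lpe (K15.f51252 IH) (Lpe (K15.f194389 IH) (Lpr_cf (K19.f216278 IH) (Lpe (K16.f194761 IH) (Lpr_cf (K10.f194759 IH) (Lpe (K15.f42454 IH) (Lpe (K15.f171988 IH) (Lpe (K10.f194748 IH) (Lpe (K13.f51280 IH) (Lpe (f194696 IH) (Lpr_cf (K16.f274596 IH) (Lpe (K16.f27668 IH) (Lpe (K13.f216120 IH) (Lpe (K17.f274541 IH) (Lpn (LP (LK LD1_c5 LD2_c22 LD3_c31))))))))))))))))))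
theorem f313228 : Led Lsl_gt (LP (LK LD1_c1 LD2_c18 LD3_c13)) = (LP (LK LD1_c1 LD2_c11 LD3_c27)) :=
  Lgr Lrot146 (Lpr_dt (K19.f313090 IH) (Lpr_gt (K13.f3795 IH) (Lpr_ct (K0.f27646 IH) (Lpr_gt (K13.f27667 IH) (Lpe (K14.f216126 IH) (Lpe (K17.f274650 IH) (Lpe (f274635 IH) (Lpr_gf (K15.f259087 IH) (Lpe (K14.f252669 IH) (Lpn (LP (LK LD1_c1 LD2_c11 LD3_c27))))))))))))
theorem f317025 : Led Lsl_gf (LP (LK LD1_c2 LD2_c23 LD3_c28)) = (LP (LK LD1_c2 LD2_c0 LD3_c46)) :=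
  Lgr Lrot141 (Lpr_ef (K19.f311590 IH) (Lpe (f311588 IH) (Lpr_gt (f317013 IH) (Lpe (K19.f199338 IH) (Lpr_et (K13.f199341 IH) (Lpr_gt (f313228 IH) (Lpr_dt (f21868 IH) (Lpe (K14.f253042 IH) (Lpe (K15.f22095 IH) (Lpr_et (K13.f22069 IH) (Lpn (LP (LK LD1_c2 LD2_c0 LD3_c46)))))))))))))
theorem f311695 : Led Lsl_ff (LP (LK LD1_c4 LD2_c19 LD3_c4)) = (LP (LK LD1_c2 LD2_c23 LD3_c13)) :=
  Lgr Lrot25 (Lpe (K15.f265015 IH) (Lpr_ft (K19.f311693 IH) (Lpr_bt (K14.f33299 IH) (Lpn (LP (LK LD1_c2 LD2_c23 LD3_c13))))))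
theorem f317027 : Led Lsl_af (LP (LK LD1_c2 LD2_c23 LD3_c28)) = (LP (LK LD1_c4 LD2_c19 LD3_c4)) :=
  Lgr Lrot31 (Lpr_gf (f317025 IH) (Lpr_gf (K14.f253165 IH) (Lpe (f311695 IH) (Lpn (LP (LK LD1_c4 LD2_c19 LD3_c4))))))
theorem f311608 : Led Lsl_ef (LP (LK LD1_c4 LD2_c19 LD3_c4)) = (LP (LK LD1_c2 LD2_c23 LD3_c36)) :=
  Lgr Lrot88 (Lpr_et (K19.f311595 IH) (Lpn (LP (LK LD1_c2 LD2_c23 LD3_c36))))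
theorem f317038 : Led Lsl_at (LP (LK LD1_c2 LD2_c46 LD3_c27)) = (LP (LK LD1_c2 LD2_c23 LD3_c36)) :=
  Lgr Lrot80 (Lpe (f311599 IH) (Lpr_af (f317027 IH) (Lpr_ef (f311608 IH) (Lpn (LP (LK LD1_c2 LD2_c23 LD3_c36))))))
theorem f311606 : Led Lsl_df (LP (LK LD1_c1 LD2_c18 LD3_c15)) = (LP (LK LD1_c2 LD2_c23 LD3_c36)) :=
  Lgr Lrot70 (Lpr_et (K19.f246946 IH) (Lpr_dt (K16.f246940 IH) (Lpr_et (K16.f33936 IH) (Lpr_dt (K15.f213489 IH) (Lpr_et (K19.f311595 IH) (Lpn (LP (LK LD1_c2 LD2_c23 LD3_c36))))))))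
theorem f317042 : Led Lsl_af (LP (LK LD1_c2 LD2_c12 LD3_c38)) = (LP (LK LD1_c1 LD2_c18 LD3_c15)) :=
  Lgr Lrot117 (Lpr_dt (K19.f311554 IH) (Lpr_at (f317038 IH) (Lpe (f311606 IH) (Lpn (LP (LK LD1_c1 LD2_c18 LD3_c15))))))
theorem f234251 : Led Lsl_bf (LP (LK LD1_c2 LD2_c12 LD3_c38)) = (LP (LK LD1_c4 LD2_c8 LD3_c33)) :=
  Lgr Lrot24 (Lpr_bt (K13.f234248 IH) (Lpn (LP (LK LD1_c4 LD2_c8 LD3_c33))))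
theorem f311870 : Led Lsl_ff (LP (LK LD1_c1 LD2_c18 LD3_c14)) = (LP (LK LD1_c2 LD2_c12 LD3_c38)) :=
  Lgr Lrot25 (Lpr_bt (K13.f189386 IH) (Lpr_ft (K19.f311868 IH) (Lpe (f234251 IH) (Lpn (LP (LK LD1_c2 LD2_c12 LD3_c38))))))
theorem f317023 : Led Lsl_at (LP (LK LD1_c1 LD2_c18 LD3_c14)) = (LP (LK LD1_c2 LD2_c12 LD3_c39)) :=
  Lgr Lrot26 (Lpr_ff (f311870 IH) (Lpr_gt (f317013 IH) (Lpr_gt (f313081 IH) (Lpn (LP (LK LD1_c2 LD2_c12 LD3_c39))))))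
theorem f317050 : Led Lsl_ft (LP (LK LD1_c2 LD2_c12 LD3_c39)) = (LP (LK LD1_c1 LD2_c18 LD3_c15)) :=
  Lgr Lrot101 (Lpe (f317023 IH) (Lpr_ff (f311870 IH) (Lpr_af (f317042 IH) (Lpn (LP (LK LD1_c1 LD2_c18 LD3_c15))))))
theorem f317056 : Led Lsl_ff (LP (LK LD1_c2 LD2_c12 LD3_c39)) = (LP (LK LD1_c1 LD2_c18 LD3_c15)) :=
  Lgr Lrot3 (Lpr_ft (f317050 IH) (Lpn (LP (LK LD1_c1 LD2_c18 LD3_c15))))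
theorem f238105 : Led Lsl_ft (LP (LK LD1_c4 LD2_c31 LD3_c22)) = (LP (LK LD1_c9 LD2_c0 LD3_c40)) :=
  Lre_f IH (LK LD1_c4 LD2_c31 LD3_c22) (LK LD1_c9 LD2_c0 LD3_c40) Lrfl Lrfl
theorem f246947 : Led Lsl_ft (LP (LK LD1_c5 LD2_c35 LD3_c37)) = (LP (LK LD1_c2 LD2_c43 LD3_c44)) :=
  Lre_f IH (LK LD1_c5 LD2_c35 LD3_c37) (LK LD1_c2 LD2_c43 LD3_c44) Lrfl Lrfl
theorem f317064 : Led Lsl_et (LP (LK LD1_c9 LD2_c0 LD3_c40)) = (LP (LK LD1_c5 LD2_c35 LD3_c37)) :=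
  Lgr Lrot69 (Lpe (f238105 IH) (Lpe (K15.f238079 IH) (Lpr_ff (f317056 IH) (Lpe (K16.f199495 IH) (Lpe (f246947 IH) (Lpn (LP (LK LD1_c5 LD2_c35 LD3_c37))))))))
theorem f238161 : Led Lsl_ct (LP (LK LD1_c16 LD2_c50 LD3_c13)) = (LP (LK LD1_c9 LD2_c0 LD3_c40)) :=
  Lre_c IH (LK LD1_c16 LD2_c50 LD3_c13) (LK LD1_c9 LD2_c0 LD3_c40) Lrfl Lrfl
theorem f246962 : Led Lsl_ct (LP (LK LD1_c5 LD2_c35 LD3_c37)) = (LP (LK LD1_c11 LD2_c3 LD3_c23)) :=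
  Lre_c IH (LK LD1_c5 LD2_c35 LD3_c37) (LK LD1_c11 LD2_c3 LD3_c23) Lrfl Lrfl
theorem f317068 : Led Lsl_ef (LP (LK LD1_c16 LD2_c50 LD3_c13)) = (LP (LK LD1_c11 LD2_c3 LD3_c23)) :=
  Lgr Lrot28 (Lpr_ct (f238161 IH) (Lpr_et (f317064 IH) (Lpr_ct (f246962 IH) (Lpn (LP (LK LD1_c11 LD2_c3 LD3_c23))))))
theorem f317073 : Led Lsl_et (LP (LK LD1_c16 LD2_c50 LD3_c13)) = (LP (LK LD1_c11 LD2_c3 LD3_c23)) :=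
  Lgr Lrot87 (Lpr_ef (f317068 IH) (Lpn (LP (LK LD1_c11 LD2_c3 LD3_c23))))
theorem f317076 : Led Lsl_bt (LP (LK LD1_c26 LD2_c47 LD3_c27)) = (LP (LK LD1_c16 LD2_c50 LD3_c13)) :=
  Lre_b IH (LK LD1_c26 LD2_c47 LD3_c27) (LK LD1_c16 LD2_c50 LD3_c13) Lrfl Lrfl
theorem f246970 : Led Lsl_bt (LP (LK LD1_c11 LD2_c3 LD3_c23)) = (LP (LK LD1_c19 LD2_c55 LD3_c9)) :=
  Lre_b IH (LK LD1_c11 LD2_c3 LD3_c23) (LK LD1_c19 LD2_c55 LD3_c9) Lrfl Lrfl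
theorem f317077 : Led Lsl_ef (LP (LK LD1_c26 LD2_c47 LD3_c27)) = (LP (LK LD1_c19 LD2_c55 LD3_c9)) :=
  Lgr Lrot29 (Lpr_bt (f317076 IH) (Lpr_et (f317073 IH) (Lpr_bt (f246970 IH) (Lpn (LP (LK LD1_c19 LD2_c55 LD3_c9))))))
theorem f317087 : Led Lsl_ft (LP (LK LD1_c26 LD2_c47 LD3_c27)) = (LP (LK LD1_c16 LD2_c50 LD3_c8)) :=
  Lre_f IH (LK LD1_c26 LD2_c47 LD3_c27) (LK LD1_c16 LD2_c50 LD3_c8) Lrfl Lrfl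
theorem f316784 : Led Lsl_et (LP (LK LD1_c16 LD2_c50 LD3_c8)) = (LP (LK LD1_c9 LD2_c0 LD3_c36)) :=
  Lre_e IH (LK LD1_c16 LD2_c50 LD3_c8) (LK LD1_c9 LD2_c0 LD3_c36) Lrfl Lrfl
theorem f317088 : Led Lsl_ft (LP (LK LD1_c11 LD2_c3 LD3_c19)) = (LP (LK LD1_c19 LD2_c55 LD3_c9)) :=
  Lre_f IH (LK LD1_c11 LD2_c3 LD3_c19) (LK LD1_c19 LD2_c55 LD3_c9) Lrfl Lrfl
theorem f317089 : Led Lsl_et (LP (LK LD1_c5 LD2_c35 LD3_c33)) = (LP (LK LD1_c11 LD2_c3 LD3_c19)) :=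
  Lre_e IH (LK LD1_c5 LD2_c35 LD3_c33) (LK LD1_c11 LD2_c3 LD3_c19) Lrfl Lrfl
theorem f317090 : Led Lsl_ft (LP (LK LD1_c9 LD2_c0 LD3_c36)) = (LP (LK LD1_c5 LD2_c35 LD3_c33)) :=
  Lgr Lrot86 (Lpe (f316784 IH) (Lpe (f317087 IH) (Lpr_ef (f317077 IH) (Lpe (f317088 IH) (Lpe (f317089 IH) (Lpn (LP (LK LD1_c5 LD2_c35 LD3_c33))))))))
theorem f317100 : Led Lsl_ff (LP (LK LD1_c9 LD2_c0 LD3_c36)) = (LP (LK LD1_c5 LD2_c35 LD3_c33)) :=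
  Lgr Lrot3 (Lpr_ft (f317090 IH) (Lpn (LP (LK LD1_c5 LD2_c35 LD3_c33))))
theorem f317104 : Led Lsl_dt (LP (LK LD1_c9 LD2_c0 LD3_c36)) = (LP (LK LD1_c16 LD2_c50 LD3_c7)) :=
  Lre_d IH (LK LD1_c9 LD2_c0 LD3_c36) (LK LD1_c16 LD2_c50 LD3_c7) Lrfl Lrfl
theorem f199501 : Led Lsl_dt (LP (LK LD1_c11 LD2_c3 LD3_c18)) = (LP (LK LD1_c5 LD2_c35 LD3_c33)) :=
  Lre_d IH (LK LD1_c11 LD2_c3 LD3_c18) (LK LD1_c5 LD2_c35 LD3_c33) Lrfl Lrfl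
theorem f317119 : Led Lsl_ft (LP (LK LD1_c16 LD2_c50 LD3_c7)) = (LP (LK LD1_c11 LD2_c3 LD3_c18)) :=
  Lgr Lrot54 (Lpe (f317104 IH) (Lpr_ff (f317100 IH) (Lpe (f199501 IH) (Lpn (LP (LK LD1_c11 LD2_c3 LD3_c18))))))
theorem f293459 : Led Lsl_bt (LP (LK LD1_c9 LD2_c0 LD3_c37)) = (LP (LK LD1_c16 LD2_c50 LD3_c7)) :=
  Lre_b IH (LK LD1_c9 LD2_c0 LD3_c37) (LK LD1_c16 LD2_c50 LD3_c7) Lrfl Lrfl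
theorem f316715 : Led Lsl_bt (LP (LK LD1_c11 LD2_c3 LD3_c18)) = (LP (LK LD1_c5 LD2_c35 LD3_c34)) :=
  Lre_b IH (LK LD1_c11 LD2_c3 LD3_c18) (LK LD1_c5 LD2_c35 LD3_c34) Lrfl Lrfl
theorem f317135 : Led Lsl_ff (LP (LK LD1_c9 LD2_c0 LD3_c37)) = (LP (LK LD1_c5 LD2_c35 LD3_c34)) :=
  Lgr Lrot25 (Lpr_bt (f293459 IH) (Lpr_ft (f317119 IH) (Lpr_bt (f316715 IH) (Lpn (LP (LK LD1_c5 LD2_c35 LD3_c34))))))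
theorem f316708 : Led Lsl_gf (LP (LK LD1_c8 LD2_c27 LD3_c52)) = (LP (LK LD1_c5 LD2_c35 LD3_c39)) :=
  Lgr Lrot104 (Lpe (K19.f235277 IH) (Lpe (K19.f169141 IH) (Lpe (K13.f41083 IH) (Lpe (K13.f235107 IH) (Lpe (K13.f212662 IH) (Lpe (K17.f212937 IH) (Lpe (K19.f212939 IH) (Lpr_gt (f316704 IH) (Lpr_ct (f278004 IH) (Lpn (LP (LK LD1_c5 LD2_c35 LD3_c39))))))))))))
theorem f218272 : Led Lsl_dt (LP (LK LD1_c8 LD2_c27 LD3_c52)) = (LP (LK LD1_c4 LD2_c14 LD3_c34)) :=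
  Lre_d IH (LK LD1_c8 LD2_c27 LD3_c52) (LK LD1_c4 LD2_c14 LD3_c34) Lrfl Lrfl
theorem f316758 : Led Lsl_gf (LP (LK LD1_c9 LD2_c51 LD3_c33)) = (LP (LK LD1_c5 LD2_c35 LD3_c34)) :=
  Lgr Lrot144 (Lpr_dt (K19.f212665 IH) (Lpr_gt (K19.f53723 IH) (Lpr_dt (K12.f53710 IH) (Lpe (K13.f235337 IH) (Lpr_df (K13.f235323 IH) (Lpr_gf (K13.f235259 IH) (Lpe (f218272 IH) (Lpr_gf (f316708 IH) (Lpe (f278004 IH) (Lpn (LP (LK LD1_c5 LD2_c35 LD3_c34))))))))))))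
theorem f317154 : Led Lsl_at (LP (LK LD1_c9 LD2_c0 LD3_c37)) = (LP (LK LD1_c5 LD2_c35 LD3_c26)) :=
  Lgr Lrot26 (Lpr_ff (f317135 IH) (Lpe (f316758 IH) (Lpr_gt (K19.f247178 IH) (Lpn (LP (LK LD1_c5 LD2_c35 LD3_c26))))))
theorem f293491 : Led Lsl_et (LP (LK LD1_c16 LD2_c50 LD3_c9)) = (LP (LK LD1_c9 LD2_c0 LD3_c37)) :=
  Lre_e IH (LK LD1_c16 LD2_c50 LD3_c9) (LK LD1_c9 LD2_c0 LD3_c37) Lrfl Lrfl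
theorem f224190 : Led Lsl_et (LP (LK LD1_c5 LD2_c35 LD3_c26)) = (LP (LK LD1_c11 LD2_c3 LD3_c2)) :=
  Lre_e IH (LK LD1_c5 LD2_c35 LD3_c26) (LK LD1_c11 LD2_c3 LD3_c2) Lrfl Lrfl
theorem f317165 : Led Lsl_af (LP (LK LD1_c16 LD2_c50 LD3_c9)) = (LP (LK LD1_c11 LD2_c3 LD3_c2)) :=
  Lgr Lrot50 (Lpr_et (f293491 IH) (Lpr_at (f317154 IH) (Lpr_et (f224190 IH) (Lpn (LP (LK LD1_c11 LD2_c3 LD3_c2))))))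
theorem f293487 : Led Lsl_ft (LP (LK LD1_c16 LD2_c50 LD3_c9)) = (LP (LK LD1_c26 LD2_c47 LD3_c31)) :=
  Lre_f IH (LK LD1_c16 LD2_c50 LD3_c9) (LK LD1_c26 LD2_c47 LD3_c31) Lrfl Lrfl
theorem f279570 : Led Lsl_ft (LP (LK LD1_c19 LD2_c54 LD3_c39)) = (LP (LK LD1_c11 LD2_c3 LD3_c2)) :=
  Lre_f IH (LK LD1_c19 LD2_c54 LD3_c39) (LK LD1_c11 LD2_c3 LD3_c2) Lrfl Lrfl
theorem f317174 : Led Lsl_at (LP (LK LD1_c26 LD2_c47 LD3_c31)) = (LP (LK LD1_c19 LD2_c54 LD3_c39)) :=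
  Lgr Lrot66 (Lpe (f293487 IH) (Lpr_af (f317165 IH) (Lpe (f279570 IH) (Lpn (LP (LK LD1_c19 LD2_c54 LD3_c39))))))
theorem f293486 : Led Lsl_dt (LP (LK LD1_c32 LD2_c16 LD3_c11)) = (LP (LK LD1_c26 LD2_c47 LD3_c31)) :=
  Lre_d IH (LK LD1_c32 LD2_c16 LD3_c11) (LK LD1_c26 LD2_c47 LD3_c31) Lrfl Lrfl
theorem f279591 : Led Lsl_dt (LP (LK LD1_c19 LD2_c54 LD3_c39)) = (LP (LK LD1_c29 LD2_c10 LD3_c16)) :=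
  Lre_d IH (LK LD1_c19 LD2_c54 LD3_c39) (LK LD1_c29 LD2_c10 LD3_c16) Lrfl Lrfl
theorem f317182 : Led Lsl_af (LP (LK LD1_c32 LD2_c16 LD3_c11)) = (LP (LK LD1_c29 LD2_c10 LD3_c16)) :=
  Lgr Lrot117 (Lpr_dt (f293486 IH) (Lpr_at (f317174 IH) (Lpr_dt (f279591 IH) (Lpn (LP (LK LD1_c29 LD2_c10 LD3_c16))))))
theorem f317186 : Led Lsl_at (LP (LK LD1_c32 LD2_c16 LD3_c11)) = (LP (LK LD1_c29 LD2_c10 LD3_c16)) :=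
  Lgr Lrot100 (Lpr_af (f317182 IH) (Lpn (LP (LK LD1_c29 LD2_c10 LD3_c16))))
theorem f293474 : Led Lsl_ft (LP (LK LD1_c26 LD2_c47 LD3_c30)) = (LP (LK LD1_c32 LD2_c16 LD3_c11)) :=
  Lre_f IH (LK LD1_c26 LD2_c47 LD3_c30) (LK LD1_c32 LD2_c16 LD3_c11) Lrfl Lrfl
theorem f279600 : Led Lsl_ft (LP (LK LD1_c29 LD2_c10 LD3_c16)) = (LP (LK LD1_c19 LD2_c54 LD3_c38)) :=
  Lre_f IH (LK LD1_c29 LD2_c10 LD3_c16) (LK LD1_c19 LD2_c54 LD3_c38) Lrfl Lrfl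
theorem f317191 : Led Lsl_af (LP (LK LD1_c26 LD2_c47 LD3_c30)) = (LP (LK LD1_c19 LD2_c54 LD3_c38)) :=
  Lgr Lrot45 (Lpr_ft (f293474 IH) (Lpr_at (f317186 IH) (Lpr_ft (f279600 IH) (Lpn (LP (LK LD1_c19 LD2_c54 LD3_c38))))))
theorem f310702 : Led Lsl_et (LP (LK LD1_c26 LD2_c47 LD3_c30)) = (LP (LK LD1_c16 LD2_c50 LD3_c12)) :=
  Lre_e IH (LK LD1_c26 LD2_c47 LD3_c30) (LK LD1_c16 LD2_c50 LD3_c12) Lrfl Lrfl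
theorem f317196 : Led Lsl_et (LP (LK LD1_c11 LD2_c3 LD3_c5)) = (LP (LK LD1_c19 LD2_c54 LD3_c38)) :=
  Lre_e IH (LK LD1_c11 LD2_c3 LD3_c5) (LK LD1_c19 LD2_c54 LD3_c38) Lrfl Lrfl
theorem f317197 : Led Lsl_at (LP (LK LD1_c16 LD2_c50 LD3_c12)) = (LP (LK LD1_c11 LD2_c3 LD3_c5)) :=
  Lgr Lrot80 (Lpe (f310702 IH) (Lpr_af (f317191 IH) (Lpe (f317196 IH) (Lpn (LP (LK LD1_c11 LD2_c3 LD3_c5))))))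
theorem f189408 : Led Lsl_ft (LP (LK LD1_c11 LD2_c3 LD3_c5)) = (LP (LK LD1_c19 LD2_c54 LD3_c46)) :=
  Lre_f IH (LK LD1_c11 LD2_c3 LD3_c5) (LK LD1_c19 LD2_c54 LD3_c46) Lrfl Lrfl
theorem f308261 : Led Lsl_at (LP (LK LD1_c16 LD2_c10 LD3_c0)) = (LP (LK LD1_c16 LD2_c11 LD3_c24)) :=
  Lgr Lrot100 (Lpr_af (K19.f308259 IH) (Lpn (LP (LK LD1_c16 LD2_c11 LD3_c24))))
theorem f31852 : Led Lsl_gt (LP (LK LD1_c26 LD2_c8 LD3_c6)) = (LP (LK LD1_c16 LD2_c11 LD3_c24)) :=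
  Lre_g IH (LK LD1_c26 LD2_c8 LD3_c6) (LK LD1_c16 LD2_c11 LD3_c24) Lrfl Lrfl
theorem f308285 : Led Lsl_gf (LP (LK LD1_c26 LD2_c8 LD3_c6)) = (LP (LK LD1_c19 LD2_c54 LD3_c44)) :=
  Lgr Lrot47 (Lpr_gt (f31852 IH) (Lpe (f308261 IH) (Lpr_ff (K19.f308276 IH) (Lpn (LP (LK LD1_c19 LD2_c54 LD3_c44))))))
theorem f308287 : Led Lsl_af (LP (LK LD1_c26 LD2_c8 LD3_c6)) = (LP (LK LD1_c19 LD2_c54 LD3_c46)) :=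
  Lgr Lrot31 (Lpr_gf (f308285 IH) (Lpe (K19.f234020 IH) (Lpr_ft (f189408 IH) (Lpn (LP (LK LD1_c19 LD2_c54 LD3_c46))))))
theorem f317206 : Led Lsl_ff (LP (LK LD1_c16 LD2_c50 LD3_c12)) = (LP (LK LD1_c26 LD2_c8 LD3_c6)) :=
  Lgr Lrot30 (Lpr_at (f317197 IH) (Lpr_ft (f189408 IH) (Lpe (f308287 IH) (Lpn (LP (LK LD1_c26 LD2_c8 LD3_c6))))))
theorem f317214 : Led Lsl_ft (LP (LK LD1_c16 LD2_c50 LD3_c12)) = (LP (LK LD1_c26 LD2_c8 LD3_c6)) :=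
  Lgr Lrot48 (Lpr_ff (f317206 IH) (Lpn (LP (LK LD1_c26 LD2_c8 LD3_c6))))
theorem f238094 : Led Lsl_dt (LP (LK LD1_c16 LD2_c50 LD3_c12)) = (LP (LK LD1_c9 LD2_c0 LD3_c38)) :=
  Lre_d IH (LK LD1_c16 LD2_c50 LD3_c12) (LK LD1_c9 LD2_c0 LD3_c38) Lrfl Lrfl
theorem f238093 : Led Lsl_ct (LP (LK LD1_c9 LD2_c0 LD3_c38)) = (LP (LK LD1_c4 LD2_c31 LD3_c22)) :=
  Lre_c IH (LK LD1_c9 LD2_c0 LD3_c38) (LK LD1_c4 LD2_c31 LD3_c22) Lrfl Lrfl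
theorem f238097 : Led Lsl_ct (LP (LK LD1_c9 LD2_c35 LD3_c1)) = (LP (LK LD1_c17 LD2_c38 LD3_c54)) :=
  Lre_c IH (LK LD1_c9 LD2_c35 LD3_c1) (LK LD1_c17 LD2_c38 LD3_c54) Lrfl Lrfl
theorem f238098 : Led Lsl_dt (LP (LK LD1_c17 LD2_c38 LD3_c54)) = (LP (LK LD1_c27 LD2_c26 LD3_c58)) :=
  Lre_d IH (LK LD1_c17 LD2_c38 LD3_c54) (LK LD1_c27 LD2_c26 LD3_c58) Lrfl Lrfl
theorem f308290 : Led Lsl_at (LP (LK LD1_c26 LD2_c8 LD3_c6)) = (LP (LK LD1_c19 LD2_c54 LD3_c46)) :=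
  Lgr Lrot100 (Lpr_af (f308287 IH) (Lpn (LP (LK LD1_c19 LD2_c54 LD3_c46))))
theorem f317222 : Led Lsl_ct (LP (LK LD1_c27 LD2_c26 LD3_c58)) = (LP (LK LD1_c19 LD2_c54 LD3_c46)) :=
  Lgr Lrot98 (Lpe (f238098 IH) (Lpe (f238097 IH) (Lpe (K16.f238046 IH) (Lpe (K19.f238096 IH) (Lpe (K15.f238082 IH) (Lpe (f238093 IH) (Lpe (f238094 IH) (Lpr_ft (f317214 IH) (Lpr_at (f308290 IH) (Lpn (LP (LK LD1_c19 LD2_c54 LD3_c46))))))))))))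
theorem f308297 : Led Lsl_dt (LP (LK LD1_c19 LD2_c54 LD3_c46)) = (LP (LK LD1_c11 LD2_c3 LD3_c6)) :=
  Lre_d IH (LK LD1_c19 LD2_c54 LD3_c46) (LK LD1_c11 LD2_c3 LD3_c6) Lrfl Lrfl
theorem f222300 : Led Lsl_ct (LP (LK LD1_c11 LD2_c3 LD3_c6)) = (LP (LK LD1_c5 LD2_c35 LD3_c30)) :=
  Lre_c IH (LK LD1_c11 LD2_c3 LD3_c6) (LK LD1_c5 LD2_c35 LD3_c30) Lrfl Lrfl
theorem f317230 : Led Lsl_at (LP (LK LD1_c9 LD2_c0 LD3_c40)) = (LP (LK LD1_c5 LD2_c35 LD3_c30)) :=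
  Lgr Lrot33 (Lpe (f238105 IH) (Lpr_dt (K15.f238082 IH) (Lpr_ct (K19.f238096 IH) (Lpr_dt (K16.f238046 IH) (Lpr_ct (f238097 IH) (Lpr_dt (f238098 IH) (Lpr_ct (f317222 IH) (Lpr_dt (f308297 IH) (Lpr_ct (f222300 IH) (Lpn (LP (LK LD1_c5 LD2_c35 LD3_c30))))))))))))
theorem f189406 : Led Lsl_ft (LP (LK LD1_c5 LD2_c35 LD3_c30)) = (LP (LK LD1_c2 LD2_c43 LD3_c41)) :=
  Lre_f IH (LK LD1_c5 LD2_c35 LD3_c30) (LK LD1_c2 LD2_c43 LD3_c41) Lrfl Lrfl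
theorem f317241 : Led Lsl_af (LP (LK LD1_c4 LD2_c31 LD3_c22)) = (LP (LK LD1_c2 LD2_c43 LD3_c41)) :=
  Lgr Lrot45 (Lpr_ft (f238105 IH) (Lpr_at (f317230 IH) (Lpr_ft (f189406 IH) (Lpn (LP (LK LD1_c2 LD2_c43 LD3_c41))))))
theorem f317249 : Led Lsl_at (LP (LK LD1_c2 LD2_c23 LD3_c35)) = (LP (LK LD1_c4 LD2_c50 LD3_c52)) :=
  Lgr Lrot51 (Lpe (K15.f238082 IH) (Lpr_af (f317241 IH) (Lpr_df (K13.f189404 IH) (Lpn (LP (LK LD1_c4 LD2_c50 LD3_c52))))))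
theorem f238160 : Led Lsl_ft (LP (LK LD1_c4 LD2_c51 LD3_c30)) = (LP (LK LD1_c2 LD2_c23 LD3_c35)) :=
  Lre_f IH (LK LD1_c4 LD2_c51 LD3_c30) (LK LD1_c2 LD2_c23 LD3_c35) Lrfl Lrfl
theorem f314667 : Led Lsl_et (LP (LK LD1_c8 LD2_c14 LD3_c23)) = (LP (LK LD1_c15 LD2_c30 LD3_c7)) :=
  Lre_e IH (LK LD1_c8 LD2_c14 LD3_c23) (LK LD1_c15 LD2_c30 LD3_c7) Lrfl Lrfl
theorem f233954 : Led Lsl_et (LP (LK LD1_c4 LD2_c52 LD3_c5)) = (LP (LK LD1_c9 LD2_c36 LD3_c33)) :=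
  Lre_e IH (LK LD1_c4 LD2_c52 LD3_c5) (LK LD1_c9 LD2_c36 LD3_c33) Lrfl Lrfl
theorem f314668 : Led Lsl_dt (LP (LK LD1_c15 LD2_c30 LD3_c7)) = (LP (LK LD1_c9 LD2_c34 LD3_c18)) :=
  Lgr Lrot77 (Lpe (f314667 IH) (Lpr_df (f314656 IH) (Lpe (f233954 IH) (Lpe (K18.f1558 IH) (Lpe (K18.f233948 IH) (Lpn (LP (LK LD1_c9 LD2_c34 LD3_c18))))))))
theorem f314678 : Led Lsl_et (LP (LK LD1_c15 LD2_c30 LD3_c7)) = (LP (LK LD1_c8 LD2_c14 LD3_c23)) :=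
  Lre_e IH (LK LD1_c15 LD2_c30 LD3_c7) (LK LD1_c8 LD2_c14 LD3_c23) Lrfl Lrfl
theorem f199211 : Led Lsl_dt (LP (LK LD1_c4 LD2_c4 LD3_c37)) = (LP (LK LD1_c4 LD2_c51 LD3_c9)) :=
  Lgr Lrot42 (Lpr_df (K15.f199197 IH) (Lpn (LP (LK LD1_c4 LD2_c51 LD3_c9))))
theorem f189415 : Led Lsl_et (LP (LK LD1_c2 LD2_c43 LD3_c41)) = (LP (LK LD1_c1 LD2_c18 LD3_c14)) :=
  Lre_e IH (LK LD1_c2 LD2_c43 LD3_c41) (LK LD1_c1 LD2_c18 LD3_c14) Lrfl Lrfl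
theorem f314679 : Led Lsl_gt (LP (LK LD1_c4 LD2_c12 LD3_c43)) = (LP (LK LD1_c4 LD2_c50 LD3_c52)) :=
  Lgr Lrot139 (Lpe (K19.f314653 IH) (Lpe (f195493 IH) (Lpe (f314678 IH) (Lpr_dt (f314668 IH) (Lpe (K18.f199224 IH) (Lpe (f199211 IH) (Lpr_et (K15.f199195 IH) (Lpr_gf (K13.f233931 IH) (Lpe (f189415 IH) (Lpr_dt (K13.f189394 IH) (Lpn (LP (LK LD1_c4 LD2_c50 LD3_c52)))))))))))))
theorem f317261 : Led Lsl_gt (LP (LK LD1_c4 LD2_c51 LD3_c30)) = (LP (LK LD1_c4 LD2_c12 LD3_c43)) :=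
  Lgr Lrot5 (Lpr_ft (f238160 IH) (Lpr_at (f317249 IH) (Lpe (f314679 IH) (Lpn (LP (LK LD1_c4 LD2_c12 LD3_c43))))))
theorem f190225 : Led Lsl_et (LP (LK LD1_c4 LD2_c6 LD3_c55)) = (LP (LK LD1_c2 LD2_c0 LD3_c49)) :=
  Lre_e IH (LK LD1_c4 LD2_c6 LD3_c55) (LK LD1_c2 LD2_c0 LD3_c49) Lrfl Lrfl
theorem f33183 : Led Lsl_et (LP (LK LD1_c2 LD2_c7 LD3_c39)) = (LP (LK LD1_c4 LD2_c20 LD3_c24)) :=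
  Lre_e IH (LK LD1_c2 LD2_c7 LD3_c39) (LK LD1_c4 LD2_c20 LD3_c24) Lrfl Lrfl
theorem f317267 : Led Lsl_gf (LP (LK LD1_c5 LD2_c35 LD3_c37)) = (LP (LK LD1_c4 LD2_c20 LD3_c24)) :=
  Lgr Lrot141 (Lpe (f317064 IH) (Lpr_dt (K15.f238157 IH) (Lpr_gt (f317261 IH) (Lpe (K19.f314653 IH) (Lpr_et (f190225 IH) (Lpr_gt (K13.f190220 IH) (Lpr_dt (K10.f28486 IH) (Lpe (K13.f239294 IH) (Lpe (K15.f33152 IH) (Lpr_et (f33183 IH) (Lpn (LP (LK LD1_c4 LD2_c20 LD3_c24)))))))))))))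
theorem f265608 : Led Lsl_bt (LP (LK LD1_c4 LD2_c50 LD3_c39)) = (LP (LK LD1_c4 LD2_c20 LD3_c24)) :=
  Lgr Lrot119 (Lpe (K16.f224861 IH) (Lpr_bf (K15.f265598 IH) (Lpe (K19.f33153 IH) (Lpn (LP (LK LD1_c4 LD2_c20 LD3_c24))))))
theorem f277595 : Led Lsl_bt (LP (LK LD1_c5 LD2_c12 LD3_c50)) = (LP (LK LD1_c10 LD2_c15 LD3_c40)) :=
  Lre_b IH (LK LD1_c5 LD2_c12 LD3_c50) (LK LD1_c10 LD2_c15 LD3_c40) Lrfl Lrfl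
theorem f293335 : Led Lsl_ct (LP (LK LD1_c5 LD2_c12 LD3_c50)) = (LP (LK LD1_c10 LD2_c15 LD3_c58)) :=
  Lre_c IH (LK LD1_c5 LD2_c12 LD3_c50) (LK LD1_c10 LD2_c15 LD3_c58) Lrfl Lrfl
theorem f317271 : Led Lsl_gt (LP (LK LD1_c11 LD2_c3 LD3_c23)) = (LP (LK LD1_c10 LD2_c15 LD3_c58)) :=
  Lgr Lrot149 (Lpe (f246962 IH) (Lpr_gf (f317267 IH) (Lpe (f265608 IH) (Lpr_ct (K18.f243730 IH) (Lpr_gf (K18.f265677 IH) (Lpr_cf (K18.f244291 IH) (Lpe (K19.f243945 IH) (Lpe (K18.f304105 IH) (Lpe (f277595 IH) (Lpr_ct (f293335 IH) (Lpn (LP (LK LD1_c10 LD2_c15 LD3_c58)))))))))))))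
theorem f246961 : Led Lsl_bt (LP (LK LD1_c5 LD2_c35 LD3_c37)) = (LP (LK LD1_c11 LD2_c3 LD3_c14)) :=
  Lre_b IH (LK LD1_c5 LD2_c35 LD3_c37) (LK LD1_c11 LD2_c3 LD3_c14) Lrfl Lrfl
theorem f291671 : Led Lsl_df (LP (LK LD1_c2 LD2_c34 LD3_c36)) = (LP (LK LD1_c5 LD2_c12 LD3_c35)) :=
  Lgr Lrot12 (Lpr_bt (K16.f271200 IH) (Lpr_dt (K17.f32345 IH) (Lpr_bt (K18.f291667 IH) (Lpn (LP (LK LD1_c5 LD2_c12 LD3_c35))))))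
theorem f264087 : Led Lsl_gt (LP (LK LD1_c4 LD2_c5 LD3_c12)) = (LP (LK LD1_c8 LD2_c11 LD3_c9)) :=
  Lre_g IH (LK LD1_c4 LD2_c5 LD3_c12) (LK LD1_c8 LD2_c11 LD3_c9) Lrfl Lrfl
theorem f291711 : Led Lsl_ct (LP (LK LD1_c8 LD2_c11 LD3_c9)) = (LP (LK LD1_c5 LD2_c12 LD3_c35)) :=
  Lgr Lrot110 (Lpe (f264087 IH) (Lpe (K13.f182447 IH) (Lpe (K19.f284788 IH) (Lpe (K16.f180050 IH) (Lpr_gt (K14.f253942 IH) (Lpr_ct (K10.f47973 IH) (Lpe (K16.f259652 IH) (Lpr_ct (K16.f271198 IH) (Lpr_df (f291671 IH) (Lpn (LP (LK LD1_c5 LD2_c12 LD3_c35))))))))))))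
theorem f291728 : Led Lsl_dt (LP (LK LD1_c15 LD2_c24 LD3_c46)) = (LP (LK LD1_c8 LD2_c11 LD3_c9)) :=
  Lre_d IH (LK LD1_c15 LD2_c24 LD3_c46) (LK LD1_c8 LD2_c11 LD3_c9) Lrfl Lrfl
theorem f271194 : Led Lsl_df (LP (LK LD1_c5 LD2_c12 LD3_c35)) = (LP (LK LD1_c2 LD2_c34 LD3_c36)) :=
  Lgr Lrot153 (Lpr_gt (K18.f183954 IH) (Lpr_dt (K14.f183898 IH) (Lpe (K9.f171667 IH) (Lpe (K15.f171668 IH) (Lpe (K13.f171669 IH) (Lpr_df (K14.f251568 IH) (Lpr_gf (K15.f247629 IH) (Lpe (K15.f247439 IH) (Lpr_gt (K16.f271192 IH) (Lpn (LP (LK LD1_c2 LD2_c34 LD3_c36))))))))))))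
theorem f47975 : Led Lsl_dt (LP (LK LD1_c7 LD2_c58 LD3_c2)) = (LP (LK LD1_c15 LD2_c1 LD3_c48)) :=
  Lre_d IH (LK LD1_c7 LD2_c58 LD3_c2) (LK LD1_c15 LD2_c1 LD3_c48) Lrfl Lrfl
theorem f291732 : Led Lsl_gf (LP (LK LD1_c15 LD2_c24 LD3_c46)) = (LP (LK LD1_c15 LD2_c1 LD3_c48)) :=
  Lgr Lrot154 (Lpr_dt (f291728 IH) (Lpr_ct (f291711 IH) (Lpr_df (f271194 IH) (Lpe (K16.f271192 IH) (Lpe (K14.f231292 IH) (Lpe (K14.f50614 IH) (Lpr_ct (K9.f30959 IH) (Lpe (K10.f194351 IH) (Lpr_dt (f47975 IH) (Lpn (LP (LK LD1_c15 LD2_c1 LD3_c48))))))))))))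
theorem f194353 : Led Lsl_gt (LP (LK LD1_c7 LD2_c58 LD3_c2)) = (LP (LK LD1_c4 LD2_c7 LD3_c51)) :=
  Lgr Lrot46 (Lpr_gf (K10.f194351 IH) (Lpr_ft (K12.f30896 IH) (Lpr_at (K12.f50635 IH) (Lpn (LP (LK LD1_c4 LD2_c7 LD3_c51))))))
theorem f291737 : Led Lsl_ct (LP (LK LD1_c15 LD2_c24 LD3_c46)) = (LP (LK LD1_c10 LD2_c16 LD3_c33)) :=
  Lgr Lrot152 (Lpr_gf (f291732 IH) (Lpe (f47975 IH) (Lpr_gt (f194353 IH) (Lpr_ct (K9.f49241 IH) (Lpr_gt (K10.f49235 IH) (Lpr_ct (K10.f188062 IH) (Lpe (K14.f47281 IH) (Lpe (K14.f247523 IH) (Lpr_gf (K17.f284731 IH) (Lpn (LP (LK LD1_c10 LD2_c16 LD3_c33))))))))))))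
theorem f265274 : Led Lsl_dt (LP (LK LD1_c8 LD2_c11 LD3_c9)) = (LP (LK LD1_c15 LD2_c24 LD3_c46)) :=
  Lre_d IH (LK LD1_c8 LD2_c11 LD3_c9) (LK LD1_c15 LD2_c24 LD3_c46) Lrfl Lrfl
theorem f191110 : Led Lsl_dt (LP (LK LD1_c8 LD2_c11 LD3_c12)) = (LP (LK LD1_c4 LD2_c5 LD3_c12)) :=
  Lre_d IH (LK LD1_c8 LD2_c11 LD3_c12) (LK LD1_c4 LD2_c5 LD3_c12) Lrfl Lrfl
theorem f185418 : Led Lsl_dt (LP (LK LD1_c5 LD2_c13 LD3_c7)) = (LP (LK LD1_c10 LD2_c16 LD3_c33)) :=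
  Lre_d IH (LK LD1_c5 LD2_c13 LD3_c7) (LK LD1_c10 LD2_c16 LD3_c33) Lrfl Lrfl
theorem f291753 : Led Lsl_gf (LP (LK LD1_c8 LD2_c11 LD3_c12)) = (LP (LK LD1_c8 LD2_c39 LD3_c46)) :=
  Lgr Lrot148 (Lpr_dt (f191110 IH) (Lpr_gt (f264087 IH) (Lpr_dt (f265274 IH) (Lpr_ct (f291737 IH) (Lpe (f185418 IH) (Lpe (K15.f185417 IH) (Lpe (K12.f183895 IH) (Lpe (K12.f183896 IH) (Lpe (K14.f230669 IH) (Lpn (LP (LK LD1_c8 LD2_c39 LD3_c46))))))))))))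
theorem f216153 : Led Lsl_dt (LP (LK LD1_c4 LD2_c5 LD3_c21)) = (LP (LK LD1_c8 LD2_c11 LD3_c34)) :=
  Lre_d IH (LK LD1_c4 LD2_c5 LD3_c21) (LK LD1_c8 LD2_c11 LD3_c34) Lrfl Lrfl
theorem f265773 : Led Lsl_dt (LP (LK LD1_c4 LD2_c5 LD3_c12)) = (LP (LK LD1_c8 LD2_c11 LD3_c12)) :=
  Lre_d IH (LK LD1_c4 LD2_c5 LD3_c12) (LK LD1_c8 LD2_c11 LD3_c12) Lrfl Lrfl
theorem f265774 : Led Lsl_gt (LP (LK LD1_c8 LD2_c11 LD3_c12)) = (LP (LK LD1_c15 LD2_c24 LD3_c53)) :=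
  Lre_g IH (LK LD1_c8 LD2_c11 LD3_c12) (LK LD1_c15 LD2_c24 LD3_c53) Lrfl Lrfl
theorem f265775 : Led Lsl_dt (LP (LK LD1_c15 LD2_c24 LD3_c53)) = (LP (LK LD1_c8 LD2_c11 LD3_c25)) :=
  Lgr Lrot105 (Lpe (f265774 IH) (Lpe (f265773 IH) (Lpe (K13.f187883 IH) (Lpe (K13.f187884 IH) (Lpr_gt (K15.f265771 IH) (Lpr_dt (K16.f187540 IH) (Lpe (K10.f188006 IH) (Lpr_dt (K9.f50103 IH) (Lpe (K17.f191203 IH) (Lpn (LP (LK LD1_c8 LD2_c11 LD3_c25))))))))))))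
theorem f44817 : Led Lsl_gt (LP (LK LD1_c8 LD2_c52 LD3_c50)) = (LP (LK LD1_c4 LD2_c27 LD3_c29)) :=
  Lre_g IH (LK LD1_c8 LD2_c52 LD3_c50) (LK LD1_c4 LD2_c27 LD3_c29) Lrfl Lrfl
theorem f284719 : Led Lsl_ct (LP (LK LD1_c8 LD2_c11 LD3_c12)) = (LP (LK LD1_c8 LD2_c52 LD3_c50)) :=
  Lgr Lrot8 (Lpr_gt (f265774 IH) (Lpr_dt (f265775 IH) (Lpe (K13.f216151 IH) (Lpr_dt (f216153 IH) (Lpr_cf (K17.f284697 IH) (Lpe (K17.f44790 IH) (Lpe (K14.f44788 IH) (Lpe (K13.f44838 IH) (Lpe (f44817 IH) (Lpn (LP (LK LD1_c8 LD2_c52 LD3_c50))))))))))))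
theorem f230664 : Led Lsl_df (LP (LK LD1_c5 LD2_c18 LD3_c30)) = (LP (LK LD1_c10 LD2_c16 LD3_c43)) :=
  Lgr Lrot38 (Lpr_dt (K12.f230662 IH) (Lpn (LP (LK LD1_c10 LD2_c16 LD3_c43))))
theorem f284786 : Led Lsl_gt (LP (LK LD1_c8 LD2_c52 LD3_c6)) = (LP (LK LD1_c10 LD2_c16 LD3_c43)) :=
  Lgr Lrot49 (Lpe (K15.f184498 IH) (Lpr_gf (K15.f265861 IH) (Lpe (K15.f265849 IH) (Lpr_gt (K17.f284783 IH) (Lpr_dt (K19.f187891 IH) (Lpe (K10.f187877 IH) (Lpr_dt (K12.f43383 IH) (Lpr_cf (K12.f184025 IH) (Lpr_df (f230664 IH) (Lpn (LP (LK LD1_c10 LD2_c16 LD3_c43))))))))))))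
theorem f291758 : Led Lsl_dt (LP (LK LD1_c8 LD2_c52 LD3_c50)) = (LP (LK LD1_c5 LD2_c1 LD3_c17)) :=
  Lgr Lrot27 (Lpe (f284719 IH) (Lpr_gf (f291753 IH) (Lpr_cf (K14.f230669 IH) (Lpe (f284786 IH) (Lpe (K15.f184498 IH) (Lpr_gt (K17.f271196 IH) (Lpe (K17.f230742 IH) (Lpr_gt (K14.f192484 IH) (Lpr_ct (K14.f192974 IH) (Lpn (LP (LK LD1_c5 LD2_c1 LD3_c17))))))))))))
theorem f291827 : Led Lsl_gf (LP (LK LD1_c8 LD2_c52 LD3_c50)) = (LP (LK LD1_c8 LD2_c11 LD3_c47)) :=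
  Lgr Lrot143 (Lpr_dt (f291758 IH) (Lpe (K14.f192974 IH) (Lpe (K14.f192488 IH) (Lpe (K10.f192481 IH) (Lpe (K15.f43382 IH) (Lpr_gf (K14.f215054 IH) (Lpe (K17.f215042 IH) (Lpr_gt (K14.f47259 IH) (Lpe (K13.f46187 IH) (Lpn (LP (LK LD1_c8 LD2_c11 LD3_c47))))))))))))
theorem f47401 : Led Lsl_gt (LP (LK LD1_c4 LD2_c5 LD3_c25)) = (LP (LK LD1_c8 LD2_c11 LD3_c45)) :=
  Lre_g IH (LK LD1_c4 LD2_c5 LD3_c25) (LK LD1_c8 LD2_c11 LD3_c45) Lrfl Lrfl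
theorem f261349 : Led Lsl_dt (LP (LK LD1_c8 LD2_c11 LD3_c7)) = (LP (LK LD1_c15 LD2_c24 LD3_c40)) :=
  Lre_d IH (LK LD1_c8 LD2_c11 LD3_c7) (LK LD1_c15 LD2_c24 LD3_c40) Lrfl Lrfl
theorem f265090 : Led Lsl_gt (LP (LK LD1_c5 LD2_c4 LD3_c51)) = (LP (LK LD1_c8 LD2_c11 LD3_c7)) :=
  Lgr Lrot149 (Lpe (K15.f237813 IH) (Lpe (K15.f211378 IH) (Lpr_bf (K15.f261352 IH) (Lpr_ct (K15.f236144 IH) (Lpe (K15.f261390 IH) (Lpe (K14.f204985 IH) (Lpr_bt (K14.f252586 IH) (Lpr_gf (K16.f265055 IH) (Lpr_bf (K15.f230881 IH) (Lpr_ct (K15.f183840 IH) (Lpn (LP (LK LD1_c8 LD2_c11 LD3_c7)))))))))))))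
theorem f291829 : Led Lsl_dt (LP (LK LD1_c8 LD2_c11 LD3_c45)) = (LP (LK LD1_c5 LD2_c4 LD3_c51)) :=
  Lgr Lrot115 (Lpe (f47401 IH) (Lpr_ct (K1.f46179 IH) (Lpe (f291827 IH) (Lpr_dt (f291758 IH) (Lpr_gt (K14.f253979 IH) (Lpr_dt (K17.f242997 IH) (Lpe (K17.f284754 IH) (Lpe (f261349 IH) (Lpe (f265090 IH) (Lpn (LP (LK LD1_c5 LD2_c4 LD3_c51))))))))))))
theorem f46233 : Led Lsl_ft (LP (LK LD1_c1 LD2_c59 LD3_c42)) = (LP (LK LD1_c4 LD2_c5 LD3_c6)) :=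
  Lre_f IH (LK LD1_c1 LD2_c59 LD3_c42) (LK LD1_c4 LD2_c5 LD3_c6) Lrfl Lrfl
theorem f46234 : Led Lsl_at (LP (LK LD1_c4 LD2_c5 LD3_c6)) = (LP (LK LD1_c1 LD2_c59 LD3_c54)) :=
  Lre_a IH (LK LD1_c4 LD2_c5 LD3_c6) (LK LD1_c1 LD2_c59 LD3_c54) Lrfl Lrfl
theorem f46237 : Led Lsl_cf (LP (LK LD1_c8 LD2_c11 LD3_c49)) = (LP (LK LD1_c4 LD2_c27 LD3_c19)) :=
  Lgr Lrot161 (Lpr_dt (K12.f46236 IH) (Lpr_ct (K10.f46235 IH) (Lpe (f46234 IH) (Lpe (f46233 IH) (Lpr_dt (K1.f46225 IH) (Lpr_ct (K1.f46212 IH) (Lpr_dt (K1.f44264 IH) (Lpr_ct (K1.f44063 IH) (Lpr_dt (K13.f44122 IH) (Lpn (LP (LK LD1_c4 LD2_c27 LD3_c19))))))))))))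
theorem f47221 : Led Lsl_af (LP (LK LD1_c8 LD2_c52 LD3_c51)) = (LP (LK LD1_c8 LD2_c11 LD3_c49)) :=
  Lgr Lrot68 (Lpr_ct (K15.f46186 IH) (Lpr_at (K13.f47215 IH) (Lpe (f46237 IH) (Lpn (LP (LK LD1_c8 LD2_c11 LD3_c49))))))
theorem f47213 : Led Lsl_ft (LP (LK LD1_c4 LD2_c5 LD3_c25)) = (LP (LK LD1_c8 LD2_c11 LD3_c49)) :=
  Lre_f IH (LK LD1_c4 LD2_c5 LD3_c25) (LK LD1_c8 LD2_c11 LD3_c49) Lrfl Lrfl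
theorem f47402 : Led Lsl_gf (LP (LK LD1_c8 LD2_c52 LD3_c51)) = (LP (LK LD1_c8 LD2_c11 LD3_c45)) :=
  Lgr Lrot76 (Lpr_af (f47221 IH) (Lpe (f47213 IH) (Lpr_gt (f47401 IH) (Lpn (LP (LK LD1_c8 LD2_c11 LD3_c45))))))
theorem f44819 : Led Lsl_gt (LP (LK LD1_c4 LD2_c27 LD3_c29)) = (LP (LK LD1_c8 LD2_c52 LD3_c49)) :=
  Lre_g IH (LK LD1_c4 LD2_c27 LD3_c29) (LK LD1_c8 LD2_c52 LD3_c49) Lrfl Lrfl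
theorem f188089 : Led Lsl_ct (LP (LK LD1_c1 LD2_c59 LD3_c49)) = (LP (LK LD1_c4 LD2_c5 LD3_c15)) :=
  Lre_c IH (LK LD1_c1 LD2_c59 LD3_c49) (LK LD1_c4 LD2_c5 LD3_c15) Lrfl Lrfl
theorem f188091 : Led Lsl_dt (LP (LK LD1_c4 LD2_c5 LD3_c15)) = (LP (LK LD1_c8 LD2_c11 LD3_c20)) :=
  Lre_d IH (LK LD1_c4 LD2_c5 LD3_c15) (LK LD1_c8 LD2_c11 LD3_c20) Lrfl Lrfl
theorem f291837 : Led Lsl_ct (LP (LK LD1_c8 LD2_c52 LD3_c49)) = (LP (LK LD1_c8 LD2_c11 LD3_c20)) :=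
  Lgr Lrot151 (Lpe (f44819 IH) (Lpe (K15.f46186 IH) (Lpr_gf (f47402 IH) (Lpr_dt (f291829 IH) (Lpr_gt (f265090 IH) (Lpr_ct (K15.f188084 IH) (Lpr_gt (K15.f188085 IH) (Lpr_ct (f188089 IH) (Lpr_dt (f188091 IH) (Lpn (LP (LK LD1_c8 LD2_c11 LD3_c20))))))))))))
theorem f230711 : Led Lsl_ct (LP (LK LD1_c8 LD2_c39 LD3_c46)) = (LP (LK LD1_c10 LD2_c16 LD3_c43)) :=
  Lgr Lrot59 (Lpr_cf (K14.f230669 IH) (Lpn (LP (LK LD1_c10 LD2_c16 LD3_c43))))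
theorem f291843 : Led Lsl_gf (LP (LK LD1_c8 LD2_c39 LD3_c46)) = (LP (LK LD1_c8 LD2_c11 LD3_c20)) :=
  Lgr Lrot104 (Lpr_ct (f230711 IH) (Lpe (K12.f230662 IH) (Lpe (K9.f184017 IH) (Lpr_gf (K14.f215054 IH) (Lpe (K17.f215042 IH) (Lpe (K14.f44788 IH) (Lpe (K13.f44838 IH) (Lpr_gt (f44819 IH) (Lpr_ct (f291837 IH) (Lpn (LP (LK LD1_c8 LD2_c11 LD3_c20))))))))))))
theorem f264021 : Led Lsl_df (LP (LK LD1_c9 LD2_c42 LD3_c12)) = (LP (LK LD1_c5 LD2_c22 LD3_c34)) :=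
  Lgr Lrot106 (Lpr_ct (K15.f264001 IH) (Lpr_dt (K15.f218686 IH) (Lpe (K12.f228406 IH) (Lpr_dt (K12.f200416 IH) (Lpe (K12.f211411 IH) (Lpr_af (K13.f246364 IH) (Lpe (K13.f220723 IH) (Lpe (K13.f246303 IH) (Lpr_ct (K14.f218483 IH) (Lpn (LP (LK LD1_c5 LD2_c22 LD3_c34))))))))))))
theorem f264031 : Led Lsl_et (LP (LK LD1_c5 LD2_c22 LD3_c34)) = (LP (LK LD1_c10 LD2_c35 LD3_c28)) :=
  Lre_e IH (LK LD1_c5 LD2_c22 LD3_c34) (LK LD1_c10 LD2_c35 LD3_c28) Lrfl Lrfl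
theorem f291851 : Led Lsl_et (LP (LK LD1_c4 LD2_c5 LD3_c15)) = (LP (LK LD1_c8 LD2_c11 LD3_c21)) :=
  Lre_e IH (LK LD1_c4 LD2_c5 LD3_c15) (LK LD1_c8 LD2_c11 LD3_c21) Lrfl Lrfl
theorem f291852 : Led Lsl_gt (LP (LK LD1_c10 LD2_c35 LD3_c28)) = (LP (LK LD1_c8 LD2_c11 LD3_c21)) :=
  Lgr Lrot131 (Lpe (f264031 IH) (Lpe (f264021 IH) (Lpe (K15.f217342 IH) (Lpe (K15.f217341 IH) (Lpe (K14.f217339 IH) (Lpr_ef (K9.f30882 IH) (Lpr_dt (K17.f30898 IH) (Lpr_gf (f291843 IH) (Lpe (f188091 IH) (Lpr_et (f291851 IH) (Lpn (LP (LK LD1_c8 LD2_c11 LD3_c21)))))))))))))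
theorem f277575 : Led Lsl_ft (LP (LK LD1_c10 LD2_c35 LD3_c28)) = (LP (LK LD1_c19 LD2_c10 LD3_c59)) :=
  Lre_f IH (LK LD1_c10 LD2_c35 LD3_c28) (LK LD1_c19 LD2_c10 LD3_c59) Lrfl Lrfl
theorem f278255 : Led Lsl_gt (LP (LK LD1_c8 LD2_c11 LD3_c21)) = (LP (LK LD1_c15 LD2_c25 LD3_c3)) :=
  Lre_g IH (LK LD1_c8 LD2_c11 LD3_c21) (LK LD1_c15 LD2_c25 LD3_c3) Lrfl Lrfl
theorem f291854 : Led Lsl_at (LP (LK LD1_c19 LD2_c10 LD3_c59)) = (LP (LK LD1_c15 LD2_c25 LD3_c3)) :=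
  Lgr Lrot26 (Lpe (f277575 IH) (Lpr_gt (f291852 IH) (Lpr_gt (f278255 IH) (Lpn (LP (LK LD1_c15 LD2_c25 LD3_c3))))))
theorem f291864 : Led Lsl_ff (LP (LK LD1_c9 LD2_c41 LD3_c24)) = (LP (LK LD1_c15 LD2_c25 LD3_c3)) :=
  Lgr Lrot30 (Lpr_at (K16.f277571 IH) (Lpr_ft (f277575 IH) (Lpr_at (f291854 IH) (Lpn (LP (LK LD1_c15 LD2_c25 LD3_c3))))))
theorem f291870 : Led Lsl_ft (LP (LK LD1_c9 LD2_c41 LD3_c24)) = (LP (LK LD1_c15 LD2_c25 LD3_c3)) :=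
  Lgr Lrot48 (Lpr_ff (f291864 IH) (Lpn (LP (LK LD1_c15 LD2_c25 LD3_c3))))
theorem f254486 : Led Lsl_ct (LP (LK LD1_c10 LD2_c35 LD3_c30)) = (LP (LK LD1_c19 LD2_c10 LD3_c59)) :=
  Lre_c IH (LK LD1_c10 LD2_c35 LD3_c30) (LK LD1_c19 LD2_c10 LD3_c59) Lrfl Lrfl
theorem f291862 : Led Lsl_cf (LP (LK LD1_c10 LD2_c15 LD3_c38)) = (LP (LK LD1_c15 LD2_c25 LD3_c3)) :=
  Lgr Lrot1 (Lpr_at (K18.f251001 IH) (Lpr_ct (f254486 IH) (Lpr_at (f291854 IH) (Lpn (LP (LK LD1_c15 LD2_c25 LD3_c3))))))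
theorem f291881 : Led Lsl_cf (LP (LK LD1_c9 LD2_c41 LD3_c24)) = (LP (LK LD1_c5 LD2_c22 LD3_c17)) :=
  Lgr Lrot108 (Lpr_ft (f291870 IH) (Lpe (f291862 IH) (Lpe (K16.f277587 IH) (Lpn (LP (LK LD1_c5 LD2_c22 LD3_c17))))))
theorem f291860 : Led Lsl_af (LP (LK LD1_c19 LD2_c10 LD3_c59)) = (LP (LK LD1_c15 LD2_c25 LD3_c3)) :=
  Lgr Lrot0 (Lpr_at (f291854 IH) (Lpn (LP (LK LD1_c15 LD2_c25 LD3_c3))))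
theorem f250386 : Led Lsl_dt (LP (LK LD1_c2 LD2_c29 LD3_c13)) = (LP (LK LD1_c4 LD2_c30 LD3_c54)) :=
  Lgr Lrot42 (Lpr_df (K14.f250353 IH) (Lpn (LP (LK LD1_c4 LD2_c30 LD3_c54))))
theorem f283970 : Led Lsl_gt (LP (LK LD1_c2 LD2_c31 LD3_c54)) = (LP (LK LD1_c2 LD2_c28 LD3_c58)) :=
  Lgr Lrot94 (Lpe (K17.f165573 IH) (Lpr_gt (K17.f260601 IH) (Lpr_dt (K14.f195844 IH) (Lpe (K14.f215348 IH) (Lpr_dt (K12.f43259 IH) (Lpe (K14.f43860 IH) (Lpe (K9.f41381 IH) (Lpr_gf (K17.f283964 IH) (Lpe (K17.f283830 IH) (Lpn (LP (LK LD1_c2 LD2_c28 LD3_c58))))))))))))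
theorem f256459 : Led Lsl_df (LP (LK LD1_c8 LD2_c10 LD3_c54)) = (LP (LK LD1_c5 LD2_c9 LD3_c34)) :=
  Lgr Lrot38 (Lpr_dt (K15.f256455 IH) (Lpn (LP (LK LD1_c5 LD2_c9 LD3_c34))))
theorem f283980 : Led Lsl_gt (LP (LK LD1_c4 LD2_c30 LD3_c54)) = (LP (LK LD1_c8 LD2_c10 LD3_c54)) :=
  Lgr Lrot112 (Lpe (f250386 IH) (Lpr_et (K14.f184052 IH) (Lpe (K14.f184044 IH) (Lpe (K9.f43913 IH) (Lpr_dt (K9.f43257 IH) (Lpr_gf (K17.f283964 IH) (Lpe (K17.f283830 IH) (Lpe (f283970 IH) (Lpe (K15.f256400 IH) (Lpe (f256459 IH) (Lpn (LP (LK LD1_c8 LD2_c10 LD3_c54)))))))))))))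
theorem f262092 : Led Lsl_bf (LP (LK LD1_c8 LD2_c15 LD3_c59)) = (LP (LK LD1_c10 LD2_c35 LD3_c30)) :=
  Lgr Lrot61 (Lpr_ft (K15.f262090 IH) (Lpr_bt (K14.f228747 IH) (Lpr_ft (K14.f228754 IH) (Lpn (LP (LK LD1_c10 LD2_c35 LD3_c30))))))
theorem f187815 : Led Lsl_ct (LP (LK LD1_c8 LD2_c10 LD3_c54)) = (LP (LK LD1_c15 LD2_c24 LD3_c19)) :=
  Lre_c IH (LK LD1_c8 LD2_c10 LD3_c54) (LK LD1_c15 LD2_c24 LD3_c19) Lrfl Lrfl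
theorem f283988 : Led Lsl_gf (LP (LK LD1_c19 LD2_c10 LD3_c59)) = (LP (LK LD1_c15 LD2_c24 LD3_c19)) :=
  Lgr Lrot129 (Lpe (f254486 IH) (Lpe (f262092 IH) (Lpe (K17.f263406 IH) (Lpe (K12.f185654 IH) (Lpr_ct (K17.f185657 IH) (Lpr_gt (K17.f268166 IH) (Lpr_cf (K14.f173963 IH) (Lpr_bt (K14.f173959 IH) (Lpr_gt (f283980 IH) (Lpr_ct (f187815 IH) (Lpn (LP (LK LD1_c15 LD2_c24 LD3_c19)))))))))))))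
theorem f291885 : Led Lsl_gt (LP (LK LD1_c9 LD2_c41 LD3_c24)) = (LP (LK LD1_c15 LD2_c24 LD3_c19)) :=
  Lgr Lrot5 (Lpr_ft (f291870 IH) (Lpe (f291860 IH) (Lpr_gf (f283988 IH) (Lpn (LP (LK LD1_c15 LD2_c24 LD3_c19))))))
theorem f187808 : Led Lsl_bt (LP (LK LD1_c8 LD2_c13 LD3_c32)) = (LP (LK LD1_c8 LD2_c10 LD3_c54)) :=
  Lgr Lrot119 (Lpe (K17.f187777 IH) (Lpr_bf (K15.f187799 IH) (Lpe (K15.f187807 IH) (Lpn (LP (LK LD1_c8 LD2_c10 LD3_c54))))))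
theorem f187811 : Led Lsl_bf (LP (LK LD1_c8 LD2_c13 LD3_c32)) = (LP (LK LD1_c8 LD2_c10 LD3_c54)) :=
  Lgr Lrot24 (Lpr_bt (f187808 IH) (Lpn (LP (LK LD1_c8 LD2_c10 LD3_c54))))
theorem f317280 : Led Lsl_gf (LP (LK LD1_c11 LD2_c3 LD3_c14)) = (LP (LK LD1_c8 LD2_c13 LD3_c32)) :=
  Lgr Lrot124 (Lpe (f246961 IH) (Lpr_ct (f246962 IH) (Lpr_gt (f317271 IH) (Lpe (f293335 IH) (Lpr_bt (f277595 IH) (Lpr_gt (K18.f304105 IH) (Lpe (f291881 IH) (Lpr_gt (f291885 IH) (Lpe (f187815 IH) (Lpe (f187811 IH) (Lpn (LP (LK LD1_c8 LD2_c13 LD3_c32)))))))))))))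
theorem f284814 : Led Lsl_ft (LP (LK LD1_c9 LD2_c41 LD3_c0)) = (LP (LK LD1_c17 LD2_c48 LD3_c47)) :=
  Lre_f IH (LK LD1_c9 LD2_c41 LD3_c0) (LK LD1_c17 LD2_c48 LD3_c47) Lrfl Lrfl
theorem f317282 : Led Lsl_af (LP (LK LD1_c11 LD2_c3 LD3_c14)) = (LP (LK LD1_c17 LD2_c48 LD3_c47)) :=
  Lgr Lrot31 (Lpr_gf (f317280 IH) (Lpe (K17.f284811 IH) (Lpr_ft (f284814 IH) (Lpn (LP (LK LD1_c17 LD2_c48 LD3_c47))))))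
theorem f246998 : Led Lsl_ft (LP (LK LD1_c11 LD2_c3 LD3_c14)) = (LP (LK LD1_c5 LD2_c35 LD3_c32)) :=
  Lre_f IH (LK LD1_c11 LD2_c3 LD3_c14) (LK LD1_c5 LD2_c35 LD3_c32) Lrfl Lrfl
theorem f317288 : Led Lsl_at (LP (LK LD1_c5 LD2_c35 LD3_c32)) = (LP (LK LD1_c9 LD2_c41 LD3_c0)) :=
  Lgr Lrot66 (Lpe (f246998 IH) (Lpr_af (f317282 IH) (Lpe (f284814 IH) (Lpn (LP (LK LD1_c9 LD2_c41 LD3_c0))))))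
theorem f246995 : Led Lsl_df (LP (LK LD1_c5 LD2_c35 LD3_c32)) = (LP (LK LD1_c9 LD2_c39 LD3_c24)) :=
  Lgr Lrot38 (Lpr_dt (K16.f246976 IH) (Lpn (LP (LK LD1_c9 LD2_c39 LD3_c24))))
theorem f274877 : Led Lsl_dt (LP (LK LD1_c9 LD2_c41 LD3_c0)) = (LP (LK LD1_c15 LD2_c30 LD3_c57)) :=
  Lgr Lrot77 (Lpe (K17.f274876 IH) (Lpr_df (K16.f274870 IH) (Lpe (K14.f256066 IH) (Lpe (K14.f251587 IH) (Lpe (K17.f215045 IH) (Lpn (LP (LK LD1_c15 LD2_c30 LD3_c57))))))))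
theorem f317294 : Led Lsl_af (LP (LK LD1_c9 LD2_c39 LD3_c24)) = (LP (LK LD1_c15 LD2_c30 LD3_c57)) :=
  Lgr Lrot117 (Lpe (f246995 IH) (Lpr_at (f317288 IH) (Lpr_dt (f274877 IH) (Lpn (LP (LK LD1_c15 LD2_c30 LD3_c57))))))
theorem f317298 : Led Lsl_at (LP (LK LD1_c9 LD2_c39 LD3_c24)) = (LP (LK LD1_c15 LD2_c30 LD3_c57)) :=
  Lgr Lrot100 (Lpr_af (f317294 IH) (Lpn (LP (LK LD1_c15 LD2_c30 LD3_c57))))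
theorem f317304 : Led Lsl_af (LP (LK LD1_c4 LD2_c53 LD3_c58)) = (LP (LK LD1_c8 LD2_c15 LD3_c5)) :=
  Lgr Lrot50 (Lpr_et (K16.f229046 IH) (Lpr_at (f317298 IH) (Lpr_et (K17.f215045 IH) (Lpn (LP (LK LD1_c8 LD2_c15 LD3_c5))))))
theorem f317308 : Led Lsl_at (LP (LK LD1_c4 LD2_c27 LD3_c16)) = (LP (LK LD1_c4 LD2_c27 LD3_c26)) :=
  Lgr Lrot107 (Lpr_cf (K17.f284766 IH) (Lpr_af (f317304 IH) (Lpe (K17.f215042 IH) (Lpn (LP (LK LD1_c4 LD2_c27 LD3_c26))))))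
theorem f317317 : Led Lsl_ff (LP (LK LD1_c4 LD2_c27 LD3_c16)) = (LP (LK LD1_c4 LD2_c27 LD3_c27)) :=
  Lgr Lrot52 (Lpr_at (f317308 IH) (Lpe (K14.f44788 IH) (Lpe (K15.f44785 IH) (Lpn (LP (LK LD1_c4 LD2_c27 LD3_c27))))))
theorem f317324 : Led Lsl_ft (LP (LK LD1_c4 LD2_c27 LD3_c16)) = (LP (LK LD1_c4 LD2_c27 LD3_c27)) :=
  Lgr Lrot48 (Lpr_ff (f317317 IH) (Lpn (LP (LK LD1_c4 LD2_c27 LD3_c27))))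
theorem f317331 : Led Lsl_af (LP (LK LD1_c4 LD2_c27 LD3_c17)) = (LP (LK LD1_c4 LD2_c27 LD3_c27)) :=
  Lgr Lrot31 (Lpe (K12.f46256 IH) (Lpe (K17.f284756 IH) (Lpr_ft (f317324 IH) (Lpn (LP (LK LD1_c4 LD2_c27 LD3_c27))))))
theorem f317310 : Led Lsl_af (LP (LK LD1_c4 LD2_c27 LD3_c16)) = (LP (LK LD1_c4 LD2_c27 LD3_c26)) :=
  Lgr Lrot0 (Lpr_at (f317308 IH) (Lpn (LP (LK LD1_c4 LD2_c27 LD3_c26))))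
theorem f317342 : Led Lsl_ft (LP (LK LD1_c4 LD2_c27 LD3_c17)) = (LP (LK LD1_c4 LD2_c27 LD3_c26)) :=
  Lgr Lrot101 (Lpr_af (f317331 IH) (Lpe (f317324 IH) (Lpr_af (f317310 IH) (Lpn (LP (LK LD1_c4 LD2_c27 LD3_c26))))))
theorem f317351 : Led Lsl_ff (LP (LK LD1_c4 LD2_c27 LD3_c17)) = (LP (LK LD1_c4 LD2_c27 LD3_c26)) :=
  Lgr Lrot3 (Lpr_ft (f317342 IH) (Lpn (LP (LK LD1_c4 LD2_c27 LD3_c26))))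
theorem f46258 : Led Lsl_dt (LP (LK LD1_c4 LD2_c27 LD3_c17)) = (LP (LK LD1_c8 LD2_c52 LD3_c19)) :=
  Lre_d IH (LK LD1_c4 LD2_c27 LD3_c17) (LK LD1_c8 LD2_c52 LD3_c19) Lrfl Lrfl
theorem f317355 : Led Lsl_ft (LP (LK LD1_c8 LD2_c52 LD3_c19)) = (LP (LK LD1_c8 LD2_c52 LD3_c39)) :=
  Lgr Lrot54 (Lpe (f46258 IH) (Lpr_ff (f317351 IH) (Lpe (K17.f47303 IH) (Lpn (LP (LK LD1_c8 LD2_c52 LD3_c39))))))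
theorem f50748 : Led Lsl_ft (LP (LK LD1_c16 LD2_c13 LD3_c30)) = (LP (LK LD1_c8 LD2_c39 LD3_c46)) :=
  Lre_f IH (LK LD1_c16 LD2_c13 LD3_c30) (LK LD1_c8 LD2_c39 LD3_c46) Lrfl Lrfl
theorem f49253 : Led Lsl_dt (LP (LK LD1_c4 LD2_c7 LD3_c51)) = (LP (LK LD1_c8 LD2_c15 LD3_c45)) :=
  Lre_d IH (LK LD1_c4 LD2_c7 LD3_c51) (LK LD1_c8 LD2_c15 LD3_c45) Lrfl Lrfl
theorem f50639 : Led Lsl_af (LP (LK LD1_c8 LD2_c39 LD3_c46)) = (LP (LK LD1_c8 LD2_c15 LD3_c45)) :=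
  Lgr Lrot117 (Lpr_dt (K14.f30892 IH) (Lpr_at (K12.f50635 IH) (Lpr_dt (f49253 IH) (Lpn (LP (LK LD1_c8 LD2_c15 LD3_c45))))))
theorem f50730 : Led Lsl_at (LP (LK LD1_c8 LD2_c39 LD3_c46)) = (LP (LK LD1_c8 LD2_c15 LD3_c45)) :=
  Lgr Lrot100 (Lpr_af (f50639 IH) (Lpn (LP (LK LD1_c8 LD2_c15 LD3_c45))))
theorem f259564 : Led Lsl_gf (LP (LK LD1_c8 LD2_c15 LD3_c45)) = (LP (LK LD1_c15 LD2_c24 LD3_c18)) :=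
  Lgr Lrot76 (Lpe (f50730 IH) (Lpe (f50748 IH) (Lpr_gt (K15.f259552 IH) (Lpn (LP (LK LD1_c15 LD2_c24 LD3_c18))))))
theorem f49418 : Led Lsl_dt (LP (LK LD1_c8 LD2_c15 LD3_c45)) = (LP (LK LD1_c4 LD2_c7 LD3_c51)) :=
  Lre_d IH (LK LD1_c8 LD2_c15 LD3_c45) (LK LD1_c4 LD2_c7 LD3_c51) Lrfl Lrfl
theorem f259554 : Led Lsl_dt (LP (LK LD1_c8 LD2_c10 LD3_c55)) = (LP (LK LD1_c15 LD2_c24 LD3_c21)) :=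
  Lre_d IH (LK LD1_c8 LD2_c10 LD3_c55) (LK LD1_c15 LD2_c24 LD3_c21) Lrfl Lrfl
theorem f259570 : Led Lsl_ct (LP (LK LD1_c8 LD2_c52 LD3_c19)) = (LP (LK LD1_c15 LD2_c24 LD3_c21)) :=
  Lgr Lrot7 (Lpe (f46258 IH) (Lpe (K12.f46256 IH) (Lpe (K13.f46165 IH) (Lpr_gf (K13.f47233 IH) (Lpr_cf (K15.f259566 IH) (Lpe (f259564 IH) (Lpr_dt (f49418 IH) (Lpr_gt (K16.f259548 IH) (Lpr_dt (f259554 IH) (Lpn (LP (LK LD1_c15 LD2_c24 LD3_c21))))))))))))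
theorem f259572 : Led Lsl_cf (LP (LK LD1_c8 LD2_c52 LD3_c19)) = (LP (LK LD1_c15 LD2_c24 LD3_c21)) :=
  Lgr Lrot11 (Lpr_ct (f259570 IH) (Lpn (LP (LK LD1_c15 LD2_c24 LD3_c21))))
theorem f317366 : Led Lsl_ff (LP (LK LD1_c15 LD2_c24 LD3_c21)) = (LP (LK LD1_c8 LD2_c11 LD3_c34)) :=
  Lgr Lrot23 (Lpe (f259572 IH) (Lpr_ft (f317355 IH) (Lpe (K17.f284697 IH) (Lpn (LP (LK LD1_c8 LD2_c11 LD3_c34))))))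
theorem f317372 : Led Lsl_at (LP (LK LD1_c15 LD2_c24 LD3_c21)) = (LP (LK LD1_c8 LD2_c11 LD3_c27)) :=
  Lgr Lrot33 (Lpr_ff (f317366 IH) (Lpr_dt (K17.f216146 IH) (Lpr_ct (K17.f194227 IH) (Lpe (K14.f247637 IH) (Lpr_ct (K14.f247682 IH) (Lpe (K14.f251576 IH) (Lpe (K15.f247718 IH) (Lpr_dt (K17.f190747 IH) (Lpr_ct (K17.f284685 IH) (Lpn (LP (LK LD1_c8 LD2_c11 LD3_c27))))))))))))
theorem f317377 : Led Lsl_af (LP (LK LD1_c8 LD2_c10 LD3_c55)) = (LP (LK LD1_c4 LD2_c5 LD3_c18)) :=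
  Lgr Lrot117 (Lpr_dt (f259554 IH) (Lpr_at (f317372 IH) (Lpr_dt (K17.f191279 IH) (Lpn (LP (LK LD1_c4 LD2_c5 LD3_c18))))))
theorem f317388 : Led Lsl_ft (LP (LK LD1_c7 LD2_c58 LD3_c2)) = (LP (LK LD1_c4 LD2_c5 LD3_c18)) :=
  Lgr Lrot2 (Lpr_gt (f194353 IH) (Lpr_gt (K16.f259548 IH) (Lpr_af (f317377 IH) (Lpn (LP (LK LD1_c4 LD2_c5 LD3_c18))))))
theorem f317402 : Led Lsl_ff (LP (LK LD1_c7 LD2_c58 LD3_c2)) = (LP (LK LD1_c4 LD2_c5 LD3_c18)) :=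
  Lgr Lrot3 (Lpr_ft (f317388 IH) (Lpn (LP (LK LD1_c4 LD2_c5 LD3_c18))))
theorem f317412 : Led Lsl_at (LP (LK LD1_c7 LD2_c58 LD3_c2)) = (LP (LK LD1_c4 LD2_c5 LD3_c21)) :=
  Lgr Lrot26 (Lpr_ff (f317402 IH) (Lpr_gt (K11.f182554 IH) (Lpe (K13.f216151 IH) (Lpn (LP (LK LD1_c4 LD2_c5 LD3_c21))))))
theorem f317382 : Led Lsl_at (LP (LK LD1_c8 LD2_c10 LD3_c55)) = (LP (LK LD1_c4 LD2_c5 LD3_c18)) :=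
  Lgr Lrot100 (Lpr_af (f317377 IH) (Lpn (LP (LK LD1_c4 LD2_c5 LD3_c18))))
theorem f317423 : Led Lsl_ff (LP (LK LD1_c8 LD2_c10 LD3_c55)) = (LP (LK LD1_c4 LD2_c5 LD3_c21)) :=
  Lgr Lrot30 (Lpr_at (f317382 IH) (Lpe (f317402 IH) (Lpr_at (f317412 IH) (Lpn (LP (LK LD1_c4 LD2_c5 LD3_c21))))))
theorem f292005 : Led Lsl_et (LP (LK LD1_c8 LD2_c10 LD3_c55)) = (LP (LK LD1_c15 LD2_c24 LD3_c22)) :=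
  Lre_e IH (LK LD1_c8 LD2_c10 LD3_c55) (LK LD1_c15 LD2_c24 LD3_c22) Lrfl Lrfl
theorem f317429 : Led Lsl_ft (LP (LK LD1_c15 LD2_c24 LD3_c22)) = (LP (LK LD1_c25 LD2_c16 LD3_c49)) :=
  Lre_f IH (LK LD1_c15 LD2_c24 LD3_c22) (LK LD1_c25 LD2_c16 LD3_c49) Lrfl Lrfl
theorem f216155 : Led Lsl_et (LP (LK LD1_c8 LD2_c11 LD3_c35)) = (LP (LK LD1_c4 LD2_c5 LD3_c21)) :=
  Lre_e IH (LK LD1_c8 LD2_c11 LD3_c35) (LK LD1_c4 LD2_c5 LD3_c21) Lrfl Lrfl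
theorem f317430 : Led Lsl_ft (LP (LK LD1_c15 LD2_c25 LD3_c35)) = (LP (LK LD1_c8 LD2_c11 LD3_c35)) :=
  Lre_f IH (LK LD1_c15 LD2_c25 LD3_c35) (LK LD1_c8 LD2_c11 LD3_c35) Lrfl Lrfl
theorem f317431 : Led Lsl_et (LP (LK LD1_c25 LD2_c16 LD3_c49)) = (LP (LK LD1_c15 LD2_c25 LD3_c35)) :=
  Lgr Lrot69 (Lpe (f317429 IH) (Lpe (f292005 IH) (Lpr_ff (f317423 IH) (Lpe (f216155 IH) (Lpe (f317430 IH) (Lpn (LP (LK LD1_c15 LD2_c25 LD3_c35))))))))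
theorem f317437 : Led Lsl_ef (LP (LK LD1_c25 LD2_c16 LD3_c49)) = (LP (LK LD1_c15 LD2_c25 LD3_c35)) :=
  Lgr Lrot88 (Lpr_et (f317431 IH) (Lpn (LP (LK LD1_c15 LD2_c25 LD3_c35))))
theorem f317439 : Led Lsl_ct (LP (LK LD1_c25 LD2_c16 LD3_c49)) = (LP (LK LD1_c15 LD2_c24 LD3_c24)) :=
  Lre_c IH (LK LD1_c25 LD2_c16 LD3_c49) (LK LD1_c15 LD2_c24 LD3_c24) Lrfl Lrfl
theorem f317440 : Led Lsl_ct (LP (LK LD1_c8 LD2_c11 LD3_c38)) = (LP (LK LD1_c15 LD2_c25 LD3_c35)) :=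
  Lre_c IH (LK LD1_c8 LD2_c11 LD3_c38) (LK LD1_c15 LD2_c25 LD3_c35) Lrfl Lrfl
theorem f317441 : Led Lsl_et (LP (LK LD1_c15 LD2_c24 LD3_c24)) = (LP (LK LD1_c8 LD2_c11 LD3_c38)) :=
  Lgr Lrot158 (Lpe (f317439 IH) (Lpr_ef (f317437 IH) (Lpe (f317440 IH) (Lpn (LP (LK LD1_c8 LD2_c11 LD3_c38))))))
theorem f271081 : Led Lsl_ft (LP (LK LD1_c8 LD2_c10 LD3_c56)) = (LP (LK LD1_c15 LD2_c24 LD3_c24)) :=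
  Lre_f IH (LK LD1_c8 LD2_c10 LD3_c56) (LK LD1_c15 LD2_c24 LD3_c24) Lrfl Lrfl
theorem f247701 : Led Lsl_ft (LP (LK LD1_c8 LD2_c11 LD3_c38)) = (LP (LK LD1_c4 LD2_c5 LD3_c22)) :=
  Lre_f IH (LK LD1_c8 LD2_c11 LD3_c38) (LK LD1_c4 LD2_c5 LD3_c22) Lrfl Lrfl
theorem f55277 : Led Lsl_et (LP (LK LD1_c4 LD2_c5 LD3_c22)) = (LP (LK LD1_c1 LD2_c59 LD3_c52)) :=
  Lre_e IH (LK LD1_c4 LD2_c5 LD3_c22) (LK LD1_c1 LD2_c59 LD3_c52) Lrfl Lrfl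
theorem f317445 : Led Lsl_ff (LP (LK LD1_c4 LD2_c5 LD3_c4)) = (LP (LK LD1_c1 LD2_c59 LD3_c52)) :=
  Lgr Lrot72 (Lpr_et (K16.f271074 IH) (Lpr_ft (f271081 IH) (Lpr_et (f317441 IH) (Lpr_ft (f247701 IH) (Lpr_et (f55277 IH) (Lpn (LP (LK LD1_c1 LD2_c59 LD3_c52))))))))
theorem f317449 : Led Lsl_ft (LP (LK LD1_c4 LD2_c13 LD3_c54)) = (LP (LK LD1_c4 LD2_c5 LD3_c20)) :=
  Lgr Lrot75 (Lpr_bf (K15.f259542 IH) (Lpr_ff (f317445 IH) (Lpe (K13.f47421 IH) (Lpn (LP (LK LD1_c4 LD2_c5 LD3_c20))))))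
theorem f317457 : Led Lsl_af (LP (LK LD1_c4 LD2_c13 LD3_c55)) = (LP (LK LD1_c4 LD2_c5 LD3_c20)) :=
  Lgr Lrot31 (Lpr_gf (K12.f189620 IH) (Lpe (K15.f189716 IH) (Lpr_ft (f317449 IH) (Lpn (LP (LK LD1_c4 LD2_c5 LD3_c20))))))
theorem f194234 : Led Lsl_et (LP (LK LD1_c8 LD2_c11 LD3_c32)) = (LP (LK LD1_c4 LD2_c5 LD3_c20)) :=
  Lre_e IH (LK LD1_c8 LD2_c11 LD3_c32) (LK LD1_c4 LD2_c5 LD3_c20) Lrfl Lrfl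
theorem f317467 : Led Lsl_at (LP (LK LD1_c8 LD2_c26 LD3_c28)) = (LP (LK LD1_c8 LD2_c11 LD3_c32)) :=
  Lgr Lrot80 (Lpe (K12.f189651 IH) (Lpr_af (f317457 IH) (Lpe (f194234 IH) (Lpn (LP (LK LD1_c8 LD2_c11 LD3_c32))))))
theorem f194298 : Led Lsl_ft (LP (LK LD1_c8 LD2_c11 LD3_c32)) = (LP (LK LD1_c15 LD2_c25 LD3_c27)) :=
  Lre_f IH (LK LD1_c8 LD2_c11 LD3_c32) (LK LD1_c15 LD2_c25 LD3_c27) Lrfl Lrfl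
theorem f317475 : Led Lsl_af (LP (LK LD1_c15 LD2_c51 LD3_c11)) = (LP (LK LD1_c15 LD2_c25 LD3_c27)) :=
  Lgr Lrot45 (Lpr_ft (K12.f189649 IH) (Lpr_at (f317467 IH) (Lpr_ft (f194298 IH) (Lpn (LP (LK LD1_c15 LD2_c25 LD3_c27))))))
theorem f247647 : Led Lsl_et (LP (LK LD1_c1 LD2_c59 LD3_c52)) = (LP (LK LD1_c4 LD2_c5 LD3_c22)) :=
  Lre_e IH (LK LD1_c1 LD2_c59 LD3_c52) (LK LD1_c4 LD2_c5 LD3_c22) Lrfl Lrfl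
theorem f199699 : Led Lsl_et (LP (LK LD1_c7 LD2_c57 LD3_c38)) = (LP (LK LD1_c3 LD2_c58 LD3_c6)) :=
  Lre_e IH (LK LD1_c7 LD2_c57 LD3_c38) (LK LD1_c3 LD2_c58 LD3_c6) Lrfl Lrfl
theorem f247684 : Led Lsl_dt (LP (LK LD1_c4 LD2_c5 LD3_c22)) = (LP (LK LD1_c7 LD2_c57 LD3_c38)) :=
  Lgr Lrot77 (Lpe (f247647 IH) (Lpe (K17.f247635 IH) (Lpr_ef (K14.f247680 IH) (Lpe (K13.f55005 IH) (Lpe (f199699 IH) (Lpn (LP (LK LD1_c7 LD2_c57 LD3_c38))))))))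
theorem f194294 : Led Lsl_bt (LP (LK LD1_c8 LD2_c11 LD3_c32)) = (LP (LK LD1_c4 LD2_c5 LD3_c22)) :=
  Lre_b IH (LK LD1_c8 LD2_c11 LD3_c32) (LK LD1_c4 LD2_c5 LD3_c22) Lrfl Lrfl
theorem f199700 : Led Lsl_et (LP (LK LD1_c2 LD2_c1 LD3_c39)) = (LP (LK LD1_c4 LD2_c8 LD3_c35)) :=
  Lre_e IH (LK LD1_c2 LD2_c1 LD3_c39) (LK LD1_c4 LD2_c8 LD3_c35) Lrfl Lrfl
theorem f199701 : Led Lsl_bf (LP (LK LD1_c7 LD2_c57 LD3_c38)) = (LP (LK LD1_c4 LD2_c8 LD3_c35)) :=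
  Lgr Lrot96 (Lpr_et (f199699 IH) (Lpr_bt (K13.f199688 IH) (Lpr_et (f199700 IH) (Lpn (LP (LK LD1_c4 LD2_c8 LD3_c35))))))
theorem f199706 : Led Lsl_bt (LP (LK LD1_c7 LD2_c57 LD3_c38)) = (LP (LK LD1_c4 LD2_c8 LD3_c35)) :=
  Lgr Lrot127 (Lpr_bf (f199701 IH) (Lpn (LP (LK LD1_c4 LD2_c8 LD3_c35))))
theorem f247696 : Led Lsl_df (LP (LK LD1_c8 LD2_c11 LD3_c32)) = (LP (LK LD1_c4 LD2_c8 LD3_c35)) :=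
  Lgr Lrot12 (Lpr_bt (f194294 IH) (Lpr_dt (f247684 IH) (Lpr_bt (f199706 IH) (Lpn (LP (LK LD1_c4 LD2_c8 LD3_c35))))))
theorem f199714 : Led Lsl_ft (LP (LK LD1_c8 LD2_c17 LD3_c16)) = (LP (LK LD1_c4 LD2_c8 LD3_c35)) :=
  Lre_f IH (LK LD1_c8 LD2_c17 LD3_c16) (LK LD1_c4 LD2_c8 LD3_c35) Lrfl Lrfl
theorem f247702 : Led Lsl_dt (LP (LK LD1_c15 LD2_c25 LD3_c27)) = (LP (LK LD1_c8 LD2_c17 LD3_c16)) :=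
  Lgr Lrot60 (Lpe (f194298 IH) (Lpr_df (f247696 IH) (Lpe (f199714 IH) (Lpn (LP (LK LD1_c8 LD2_c17 LD3_c16))))))
theorem f247708 : Led Lsl_df (LP (LK LD1_c15 LD2_c25 LD3_c27)) = (LP (LK LD1_c8 LD2_c17 LD3_c16)) :=
  Lgr Lrot38 (Lpr_dt (f247702 IH) (Lpn (LP (LK LD1_c8 LD2_c17 LD3_c16))))
theorem f317479 : Led Lsl_at (LP (LK LD1_c15 LD2_c33 LD3_c22)) = (LP (LK LD1_c8 LD2_c17 LD3_c16)) :=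
  Lgr Lrot51 (Lpe (K12.f189666 IH) (Lpr_af (f317475 IH) (Lpr_df (f247708 IH) (Lpn (LP (LK LD1_c8 LD2_c17 LD3_c16))))))
theorem f317481 : Led Lsl_af (LP (LK LD1_c15 LD2_c33 LD3_c22)) = (LP (LK LD1_c8 LD2_c17 LD3_c16)) :=
  Lgr Lrot0 (Lpr_at (f317479 IH) (Lpn (LP (LK LD1_c8 LD2_c17 LD3_c16))))
theorem f199750 : Led Lsl_ft (LP (LK LD1_c4 LD2_c8 LD3_c35)) = (LP (LK LD1_c8 LD2_c17 LD3_c16)) :=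
  Lre_f IH (LK LD1_c4 LD2_c8 LD3_c35) (LK LD1_c8 LD2_c17 LD3_c16) Lrfl Lrfl
theorem f317483 : Led Lsl_at (LP (LK LD1_c8 LD2_c16 LD3_c25)) = (LP (LK LD1_c4 LD2_c8 LD3_c35)) :=
  Lgr Lrot66 (Lpe (K12.f189665 IH) (Lpr_af (f317481 IH) (Lpe (f199750 IH) (Lpn (LP (LK LD1_c4 LD2_c8 LD3_c35))))))
theorem f199749 : Led Lsl_et (LP (LK LD1_c4 LD2_c8 LD3_c35)) = (LP (LK LD1_c2 LD2_c1 LD3_c39)) :=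
  Lre_e IH (LK LD1_c4 LD2_c8 LD3_c35) (LK LD1_c2 LD2_c1 LD3_c39) Lrfl Lrfl
theorem f317489 : Led Lsl_af (LP (LK LD1_c4 LD2_c8 LD3_c10)) = (LP (LK LD1_c2 LD2_c1 LD3_c39)) :=
  Lgr Lrot50 (Lpr_et (K12.f189658 IH) (Lpr_at (f317483 IH) (Lpr_et (f199749 IH) (Lpn (LP (LK LD1_c2 LD2_c1 LD3_c39))))))
theorem f317499 : Led Lsl_ft (LP (LK LD1_c3 LD2_c58 LD3_c20)) = (LP (LK LD1_c2 LD2_c1 LD3_c39)) :=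
  Lgr Lrot2 (Lpr_gt (K14.f234799 IH) (Lpe (K14.f234776 IH) (Lpr_af (f317489 IH) (Lpn (LP (LK LD1_c2 LD2_c1 LD3_c39))))))
theorem f317509 : Led Lsl_ff (LP (LK LD1_c3 LD2_c58 LD3_c20)) = (LP (LK LD1_c2 LD2_c1 LD3_c39)) :=
  Lgr Lrot3 (Lpr_ft (f317499 IH) (Lpn (LP (LK LD1_c2 LD2_c1 LD3_c39))))
theorem f317519 : Led Lsl_at (LP (LK LD1_c3 LD2_c58 LD3_c20)) = (LP (LK LD1_c2 LD2_c1 LD3_c54)) :=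
  Lgr Lrot26 (Lpr_ff (f317509 IH) (Lpr_gt (K14.f199703 IH) (Lpe (K16.f254793 IH) (Lpn (LP (LK LD1_c2 LD2_c1 LD3_c54))))))
theorem f317493 : Led Lsl_at (LP (LK LD1_c4 LD2_c8 LD3_c10)) = (LP (LK LD1_c2 LD2_c1 LD3_c39)) :=
  Lgr Lrot100 (Lpr_af (f317489 IH) (Lpn (LP (LK LD1_c2 LD2_c1 LD3_c39))))
theorem f317529 : Led Lsl_ff (LP (LK LD1_c4 LD2_c8 LD3_c10)) = (LP (LK LD1_c2 LD2_c1 LD3_c54)) :=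
  Lgr Lrot30 (Lpr_at (f317493 IH) (Lpe (f317509 IH) (Lpr_at (f317519 IH) (Lpn (LP (LK LD1_c2 LD2_c1 LD3_c54))))))
theorem f317540 : Led Lsl_ft (LP (LK LD1_c4 LD2_c8 LD3_c10)) = (LP (LK LD1_c2 LD2_c1 LD3_c54)) :=
  Lgr Lrot48 (Lpr_ff (f317529 IH) (Lpn (LP (LK LD1_c2 LD2_c1 LD3_c54))))
theorem f189671 : Led Lsl_et (LP (LK LD1_c8 LD2_c16 LD3_c25)) = (LP (LK LD1_c4 LD2_c8 LD3_c10)) :=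
  Lre_e IH (LK LD1_c8 LD2_c16 LD3_c25) (LK LD1_c4 LD2_c8 LD3_c10) Lrfl Lrfl
theorem f317548 : Led Lsl_ft (LP (LK LD1_c4 LD2_c9 LD3_c3)) = (LP (LK LD1_c8 LD2_c18 LD3_c12)) :=
  Lre_f IH (LK LD1_c4 LD2_c9 LD3_c3) (LK LD1_c8 LD2_c18 LD3_c12) Lrfl Lrfl
theorem f317549 : Led Lsl_ef (LP (LK LD1_c15 LD2_c33 LD3_c22)) = (LP (LK LD1_c8 LD2_c18 LD3_c12)) :=
  Lgr Lrot21 (Lpr_ft (K12.f189665 IH) (Lpr_et (f189671 IH) (Lpr_ft (f317540 IH) (Lpr_et (K15.f190832 IH) (Lpr_ft (f317548 IH) (Lpn (LP (LK LD1_c8 LD2_c18 LD3_c12))))))))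
theorem f234815 : Led Lsl_et (LP (LK LD1_c7 LD2_c58 LD3_c4)) = (LP (LK LD1_c3 LD2_c58 LD3_c20)) :=
  Lre_e IH (LK LD1_c7 LD2_c58 LD3_c4) (LK LD1_c3 LD2_c58 LD3_c20) Lrfl Lrfl
theorem f301164 : Led Lsl_ft (LP (LK LD1_c15 LD2_c1 LD3_c51)) = (LP (LK LD1_c7 LD2_c58 LD3_c4)) :=
  Lre_f IH (LK LD1_c15 LD2_c1 LD3_c51) (LK LD1_c7 LD2_c58 LD3_c4) Lrfl Lrfl
theorem f317507 : Led Lsl_ef (LP (LK LD1_c15 LD2_c1 LD3_c51)) = (LP (LK LD1_c8 LD2_c17 LD3_c16)) :=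
  Lgr Lrot21 (Lpr_ft (f301164 IH) (Lpr_et (f234815 IH) (Lpr_ft (f317499 IH) (Lpr_et (f199700 IH) (Lpr_ft (f199750 IH) (Lpn (LP (LK LD1_c8 LD2_c17 LD3_c16))))))))
theorem f317551 : Led Lsl_at (LP (LK LD1_c15 LD2_c1 LD3_c51)) = (LP (LK LD1_c8 LD2_c18 LD3_c12)) :=
  Lgr Lrot80 (Lpr_ef (f317507 IH) (Lpe (f317479 IH) (Lpr_ef (f317549 IH) (Lpn (LP (LK LD1_c8 LD2_c18 LD3_c12))))))
theorem f301079 : Led Lsl_ft (LP (LK LD1_c7 LD2_c58 LD3_c4)) = (LP (LK LD1_c15 LD2_c1 LD3_c51)) :=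
  Lre_f IH (LK LD1_c7 LD2_c58 LD3_c4) (LK LD1_c15 LD2_c1 LD3_c51) Lrfl Lrfl
theorem f317559 : Led Lsl_gt (LP (LK LD1_c10 LD2_c51 LD3_c37)) = (LP (LK LD1_c8 LD2_c18 LD3_c12)) :=
  Lgr Lrot46 (Lpe (K18.f301075 IH) (Lpr_ft (f301079 IH) (Lpr_at (f317551 IH) (Lpn (LP (LK LD1_c8 LD2_c18 LD3_c12))))))
theorem f317562 : Led Lsl_gf (LP (LK LD1_c9 LD2_c37 LD3_c44)) = (LP (LK LD1_c8 LD2_c18 LD3_c12)) :=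
  Lgr Lrot76 (Lpr_af (K16.f258494 IH) (Lpr_ff (K18.f300992 IH) (Lpr_gt (f317559 IH) (Lpn (LP (LK LD1_c8 LD2_c18 LD3_c12))))))
theorem f273701 : Led Lsl_ct (LP (LK LD1_c2 LD2_c41 LD3_c20)) = (LP (LK LD1_c1 LD2_c17 LD3_c20)) :=
  Lre_c IH (LK LD1_c2 LD2_c41 LD3_c20) (LK LD1_c1 LD2_c17 LD3_c20) Lrfl Lrfl
theorem f236210 : Led Lsl_ct (LP (LK LD1_c5 LD2_c30 LD3_c16)) = (LP (LK LD1_c2 LD2_c41 LD3_c23)) :=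
  Lre_c IH (LK LD1_c5 LD2_c30 LD3_c16) (LK LD1_c2 LD2_c41 LD3_c23) Lrfl Lrfl
theorem f273702 : Led Lsl_gt (LP (LK LD1_c10 LD2_c51 LD3_c58)) = (LP (LK LD1_c5 LD2_c30 LD3_c16)) :=
  Lre_g IH (LK LD1_c10 LD2_c51 LD3_c58) (LK LD1_c5 LD2_c30 LD3_c16) Lrfl Lrfl
theorem f300990 : Led Lsl_df (LP (LK LD1_c15 LD2_c39 LD3_c35)) = (LP (LK LD1_c10 LD2_c51 LD3_c37)) :=
  Lgr Lrot38 (Lpr_dt (K18.f300981 IH) (Lpn (LP (LK LD1_c10 LD2_c51 LD3_c37))))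
theorem f236301 : Led Lsl_ct (LP (LK LD1_c25 LD2_c32 LD3_c16)) = (LP (LK LD1_c15 LD2_c37 LD3_c26)) :=
  Lre_c IH (LK LD1_c25 LD2_c32 LD3_c16) (LK LD1_c15 LD2_c37 LD3_c26) Lrfl Lrfl
theorem f243297 : Led Lsl_ct (LP (LK LD1_c15 LD2_c58 LD3_c16)) = (LP (LK LD1_c25 LD2_c55 LD3_c8)) :=
  Lre_c IH (LK LD1_c15 LD2_c58 LD3_c16) (LK LD1_c25 LD2_c55 LD3_c8) Lrfl Lrfl
theorem f298774 : Led Lsl_af (LP (LK LD1_c25 LD2_c32 LD3_c16)) = (LP (LK LD1_c25 LD2_c55 LD3_c8)) :=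
  Lgr Lrot68 (Lpr_ct (f236301 IH) (Lpr_at (K19.f298770 IH) (Lpr_ct (f243297 IH) (Lpn (LP (LK LD1_c25 LD2_c55 LD3_c8))))))
theorem f236286 : Led Lsl_ct (LP (LK LD1_c15 LD2_c37 LD3_c26)) = (LP (LK LD1_c25 LD2_c32 LD3_c16)) :=
  Lre_c IH (LK LD1_c15 LD2_c37 LD3_c26) (LK LD1_c25 LD2_c32 LD3_c16) Lrfl Lrfl
theorem f236284 : Led Lsl_ct (LP (LK LD1_c4 LD2_c9 LD3_c11)) = (LP (LK LD1_c8 LD2_c18 LD3_c25)) :=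
  Lre_c IH (LK LD1_c4 LD2_c9 LD3_c11) (LK LD1_c8 LD2_c18 LD3_c25) Lrfl Lrfl
theorem f298778 : Led Lsl_ft (LP (LK LD1_c25 LD2_c32 LD3_c13)) = (LP (LK LD1_c25 LD2_c55 LD3_c8)) :=
  Lgr Lrot142 (Lpe (K18.f294992 IH) (Lpr_ct (K18.f236283 IH) (Lpr_dt (K18.f231612 IH) (Lpr_ct (K18.f231602 IH) (Lpr_dt (K17.f236268 IH) (Lpr_ct (f236284 IH) (Lpr_dt (K17.f236285 IH) (Lpr_ct (f236286 IH) (Lpr_af (f298774 IH) (Lpn (LP (LK LD1_c25 LD2_c55 LD3_c8))))))))))))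
theorem f298780 : Led Lsl_ff (LP (LK LD1_c25 LD2_c32 LD3_c13)) = (LP (LK LD1_c25 LD2_c55 LD3_c8)) :=
  Lgr Lrot3 (Lpr_ft (f298778 IH) (Lpn (LP (LK LD1_c25 LD2_c55 LD3_c8))))
theorem f298782 : Led Lsl_ft (LP (LK LD1_c15 LD2_c37 LD3_c24)) = (LP (LK LD1_c15 LD2_c58 LD3_c16)) :=
  Lgr Lrot4 (Lpe (K18.f295788 IH) (Lpr_ff (f298780 IH) (Lpe (f243297 IH) (Lpn (LP (LK LD1_c15 LD2_c58 LD3_c16))))))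
theorem f295885 : Led Lsl_gt (LP (LK LD1_c15 LD2_c37 LD3_c24)) = (LP (LK LD1_c25 LD2_c32 LD3_c11)) :=
  Lre_g IH (LK LD1_c15 LD2_c37 LD3_c24) (LK LD1_c25 LD2_c32 LD3_c11) Lrfl Lrfl
theorem f298784 : Led Lsl_gt (LP (LK LD1_c25 LD2_c32 LD3_c11)) = (LP (LK LD1_c15 LD2_c37 LD3_c26)) :=
  Lgr Lrot46 (Lpe (f295885 IH) (Lpr_ft (f298782 IH) (Lpe (K19.f298772 IH) (Lpn (LP (LK LD1_c15 LD2_c37 LD3_c26))))))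
theorem f1036 : Led Lsl_et (LP (LK LD1_c2 LD2_c5 LD3_c35)) = (LP (LK LD1_c4 LD2_c16 LD3_c38)) :=
  Lre_e IH (LK LD1_c2 LD2_c5 LD3_c35) (LK LD1_c4 LD2_c16 LD3_c38) Lrfl Lrfl
theorem f1292 : Led Lsl_gt (LP (LK LD1_c4 LD2_c16 LD3_c38)) = (LP (LK LD1_c8 LD2_c32 LD3_c30)) :=
  Lre_g IH (LK LD1_c4 LD2_c16 LD3_c38) (LK LD1_c8 LD2_c32 LD3_c30) Lrfl Lrfl
theorem f1299 : Led Lsl_et (LP (LK LD1_c16 LD2_c2 LD3_c20)) = (LP (LK LD1_c8 LD2_c32 LD3_c30)) :=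
  Lre_e IH (LK LD1_c16 LD2_c2 LD3_c20) (LK LD1_c8 LD2_c32 LD3_c30) Lrfl Lrfl
theorem f298802 : Led Lsl_df (LP (LK LD1_c25 LD2_c32 LD3_c11)) = (LP (LK LD1_c16 LD2_c2 LD3_c20)) :=
  Lgr Lrot170 (Lpr_gt (f298784 IH) (Lpe (K17.f236285 IH) (Lpe (K17.f283184 IH) (Lpr_gt (K17.f282710 IH) (Lpr_dt (K18.f295081 IH) (Lpr_gt (K18.f51932 IH) (Lpe (K16.f52011 IH) (Lpr_et (f1036 IH) (Lpr_gt (f1292 IH) (Lpe (f1299 IH) (Lpn (LP (LK LD1_c16 LD2_c2 LD3_c20)))))))))))))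
theorem f841 : Led Lsl_at (LP (LK LD1_c4 LD2_c9 LD3_c57)) = (LP (LK LD1_c8 LD2_c17 LD3_c0)) :=
  Lre_a IH (LK LD1_c4 LD2_c9 LD3_c57) (LK LD1_c8 LD2_c17 LD3_c0) Lrfl Lrfl
theorem f842 : Led Lsl_at (LP (LK LD1_c8 LD2_c30 LD3_c10)) = (LP (LK LD1_c4 LD2_c16 LD3_c38)) :=
  Lre_a IH (LK LD1_c8 LD2_c30 LD3_c10) (LK LD1_c4 LD2_c16 LD3_c38) Lrfl Lrfl
theorem f843 : Led Lsl_ff (LP (LK LD1_c4 LD2_c9 LD3_c57)) = (LP (LK LD1_c4 LD2_c16 LD3_c38)) :=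
  Lgr Lrot30 (Lpr_at (f841 IH) (Lpr_ft (K18.f813 IH) (Lpr_at (f842 IH) (Lpn (LP (LK LD1_c4 LD2_c16 LD3_c38))))))
theorem f1293 : Led Lsl_gf (LP (LK LD1_c8 LD2_c17 LD3_c0)) = (LP (LK LD1_c8 LD2_c32 LD3_c30)) :=
  Lgr Lrot76 (Lpe (f841 IH) (Lpr_ff (f843 IH) (Lpr_gt (f1292 IH) (Lpn (LP (LK LD1_c8 LD2_c32 LD3_c30))))))
theorem f845 : Led Lsl_et (LP (LK LD1_c4 LD2_c8 LD3_c26)) = (LP (LK LD1_c8 LD2_c17 LD3_c0)) :=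
  Lre_e IH (LK LD1_c4 LD2_c8 LD3_c26) (LK LD1_c8 LD2_c17 LD3_c0) Lrfl Lrfl
theorem f298808 : Led Lsl_gf (LP (LK LD1_c8 LD2_c18 LD3_c24)) = (LP (LK LD1_c5 LD2_c29 LD3_c39)) :=
  Lgr Lrot138 (Lpr_dt (K18.f294986 IH) (Lpr_gt (f295885 IH) (Lpr_df (f298802 IH) (Lpr_et (f1299 IH) (Lpe (f1293 IH) (Lpe (f845 IH) (Lpr_dt (K12.f856 IH) (Lpr_gt (K13.f1300 IH) (Lpr_df (K14.f222674 IH) (Lpr_et (K18.f222677 IH) (Lpn (LP (LK LD1_c5 LD2_c29 LD3_c39)))))))))))))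
theorem f251808 : Led Lsl_gt (LP (LK LD1_c15 LD2_c39 LD3_c43)) = (LP (LK LD1_c8 LD2_c19 LD3_c30)) :=
  Lre_g IH (LK LD1_c15 LD2_c39 LD3_c43) (LK LD1_c8 LD2_c19 LD3_c30) Lrfl Lrfl
theorem f298812 : Led Lsl_dt (LP (LK LD1_c10 LD2_c51 LD3_c61)) = (LP (LK LD1_c15 LD2_c39 LD3_c43)) :=
  Lgr Lrot136 (Lpr_et (K18.f295821 IH) (Lpr_gf (f298808 IH) (Lpe (K18.f222677 IH) (Lpe (K14.f222674 IH) (Lpe (K13.f1300 IH) (Lpe (K12.f856 IH) (Lpe (K12.f51487 IH) (Lpe (K17.f1315 IH) (Lpr_dt (K17.f1316 IH) (Lpe (f251808 IH) (Lpn (LP (LK LD1_c15 LD2_c39 LD3_c43)))))))))))))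
theorem f236211 : Led Lsl_dt (LP (LK LD1_c10 LD2_c51 LD3_c60)) = (LP (LK LD1_c5 LD2_c30 LD3_c16)) :=
  Lre_d IH (LK LD1_c10 LD2_c51 LD3_c60) (LK LD1_c5 LD2_c30 LD3_c16) Lrfl Lrfl
theorem f298819 : Led Lsl_ff (LP (LK LD1_c10 LD2_c51 LD3_c60)) = (LP (LK LD1_c15 LD2_c39 LD3_c43)) :=
  Lgr Lrot19 (Lpr_dt (f236211 IH) (Lpr_ft (K18.f295715 IH) (Lpr_dt (f298812 IH) (Lpn (LP (LK LD1_c15 LD2_c39 LD3_c43))))))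
theorem f298829 : Led Lsl_ft (LP (LK LD1_c10 LD2_c51 LD3_c60)) = (LP (LK LD1_c15 LD2_c39 LD3_c43)) :=
  Lgr Lrot48 (Lpr_ff (f298819 IH) (Lpn (LP (LK LD1_c15 LD2_c39 LD3_c43))))
theorem f243366 : Led Lsl_ft (LP (LK LD1_c8 LD2_c30 LD3_c13)) = (LP (LK LD1_c15 LD2_c58 LD3_c9)) :=
  Lre_f IH (LK LD1_c8 LD2_c30 LD3_c13) (LK LD1_c15 LD2_c58 LD3_c9) Lrfl Lrfl
theorem f295795 : Led Lsl_ef (LP (LK LD1_c15 LD2_c33 LD3_c44)) = (LP (LK LD1_c15 LD2_c58 LD3_c9)) :=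
  Lgr Lrot21 (Lpr_ft (K18.f295786 IH) (Lpe (K17.f283184 IH) (Lpr_ft (K18.f295066 IH) (Lpr_et (K18.f243363 IH) (Lpr_ft (f243366 IH) (Lpn (LP (LK LD1_c15 LD2_c58 LD3_c9))))))))
theorem f1303 : Led Lsl_et (LP (LK LD1_c8 LD2_c16 LD3_c50)) = (LP (LK LD1_c4 LD2_c8 LD3_c22)) :=
  Lre_e IH (LK LD1_c8 LD2_c16 LD3_c50) (LK LD1_c4 LD2_c8 LD3_c22) Lrfl Lrfl
theorem f170356 : Led Lsl_gt (LP (LK LD1_c25 LD2_c27 LD3_c60)) = (LP (LK LD1_c15 LD2_c34 LD3_c14)) :=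
  Lre_g IH (LK LD1_c25 LD2_c27 LD3_c60) (LK LD1_c15 LD2_c34 LD3_c14) Lrfl Lrfl
theorem f298734 : Led Lsl_dt (LP (LK LD1_c15 LD2_c58 LD3_c9)) = (LP (LK LD1_c25 LD2_c27 LD3_c60)) :=
  Lgr Lrot136 (Lpe (f295795 IH) (Lpr_gf (K18.f298724 IH) (Lpe (K19.f220488 IH) (Lpr_dt (K15.f266420 IH) (Lpe (K19.f50427 IH) (Lpe (K12.f50405 IH) (Lpe (K13.f50428 IH) (Lpe (f1303 IH) (Lpr_dt (K17.f1304 IH) (Lpe (f170356 IH) (Lpn (LP (LK LD1_c25 LD2_c27 LD3_c60)))))))))))))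
theorem f298738 : Led Lsl_df (LP (LK LD1_c15 LD2_c58 LD3_c9)) = (LP (LK LD1_c25 LD2_c27 LD3_c60)) :=
  Lgr Lrot38 (Lpr_dt (f298734 IH) (Lpn (LP (LK LD1_c25 LD2_c27 LD3_c60))))
theorem f298814 : Led Lsl_af (LP (LK LD1_c25 LD2_c27 LD3_c60)) = (LP (LK LD1_c15 LD2_c39 LD3_c43)) :=
  Lgr Lrot117 (Lpe (f298738 IH) (Lpe (K18.f295728 IH) (Lpr_dt (f298812 IH) (Lpn (LP (LK LD1_c15 LD2_c39 LD3_c43))))))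
theorem f273728 : Led Lsl_ft (LP (LK LD1_c15 LD2_c39 LD3_c45)) = (LP (LK LD1_c8 LD2_c19 LD3_c30)) :=
  Lre_f IH (LK LD1_c15 LD2_c39 LD3_c45) (LK LD1_c8 LD2_c19 LD3_c30) Lrfl Lrfl
theorem f273729 : Led Lsl_gf (LP (LK LD1_c25 LD2_c27 LD3_c60)) = (LP (LK LD1_c15 LD2_c39 LD3_c45)) :=
  Lgr Lrot47 (Lpr_gt (f170356 IH) (Lpr_af (K17.f273722 IH) (Lpe (f273728 IH) (Lpn (LP (LK LD1_c15 LD2_c39 LD3_c45))))))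
theorem f298832 : Led Lsl_gt (LP (LK LD1_c10 LD2_c51 LD3_c60)) = (LP (LK LD1_c15 LD2_c39 LD3_c45)) :=
  Lgr Lrot5 (Lpr_ft (f298829 IH) (Lpe (f298814 IH) (Lpr_gf (f273729 IH) (Lpn (LP (LK LD1_c15 LD2_c39 LD3_c45))))))
theorem f243419 : Led Lsl_gt (LP (LK LD1_c16 LD2_c8 LD3_c57)) = (LP (LK LD1_c8 LD2_c37 LD3_c14)) :=
  Lre_g IH (LK LD1_c16 LD2_c8 LD3_c57) (LK LD1_c8 LD2_c37 LD3_c14) Lrfl Lrfl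
theorem f301131 : Led Lsl_cf (LP (LK LD1_c10 LD2_c51 LD3_c58)) = (LP (LK LD1_c16 LD2_c8 LD3_c57)) :=
  Lgr Lrot166 (Lpr_gt (f273702 IH) (Lpr_dt (K18.f295096 IH) (Lpr_gt (f298832 IH) (Lpr_dt (K17.f258479 IH) (Lpr_ct (K15.f258472 IH) (Lpr_df (f300990 IH) (Lpe (K18.f301075 IH) (Lpr_df (K19.f301095 IH) (Lpe (f243419 IH) (Lpn (LP (LK LD1_c16 LD2_c8 LD3_c57))))))))))))
theorem f317554 : Led Lsl_dt (LP (LK LD1_c15 LD2_c36 LD3_c53)) = (LP (LK LD1_c8 LD2_c18 LD3_c12)) :=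
  Lre_d IH (LK LD1_c15 LD2_c36 LD3_c53) (LK LD1_c8 LD2_c18 LD3_c12) Lrfl Lrfl
theorem f317591 : Led Lsl_gf (LP (LK LD1_c16 LD2_c8 LD3_c57)) = (LP (LK LD1_c15 LD2_c36 LD3_c53)) :=
  Lgr Lrot147 (Lpe (f301131 IH) (Lpr_gt (f273702 IH) (Lpr_ct (f236210 IH) (Lpe (K14.f236152 IH) (Lpe (f273701 IH) (Lpe (K16.f222522 IH) (Lpr_cf (K16.f273689 IH) (Lpr_gf (f317562 IH) (Lpe (f317554 IH) (Lpn (LP (LK LD1_c15 LD2_c36 LD3_c53))))))))))))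
theorem f229609 : Led Lsl_ft (LP (LK LD1_c15 LD2_c36 LD3_c53)) = (LP (LK LD1_c8 LD2_c18 LD3_c11)) :=
  Lre_f IH (LK LD1_c15 LD2_c36 LD3_c53) (LK LD1_c8 LD2_c18 LD3_c11) Lrfl Lrfl
theorem f317602 : Led Lsl_af (LP (LK LD1_c8 LD2_c37 LD3_c14)) = (LP (LK LD1_c8 LD2_c18 LD3_c11)) :=
  Lgr Lrot31 (Lpe (f243419 IH) (Lpr_gf (f317591 IH) (Lpr_ft (f229609 IH) (Lpn (LP (LK LD1_c8 LD2_c18 LD3_c11))))))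
theorem f229608 : Led Lsl_et (LP (LK LD1_c4 LD2_c9 LD3_c5)) = (LP (LK LD1_c8 LD2_c18 LD3_c11)) :=
  Lre_e IH (LK LD1_c4 LD2_c9 LD3_c5) (LK LD1_c8 LD2_c18 LD3_c11) Lrfl Lrfl
theorem f317610 : Led Lsl_at (LP (LK LD1_c4 LD2_c19 LD3_c30)) = (LP (LK LD1_c4 LD2_c9 LD3_c5)) :=
  Lgr Lrot80 (Lpe (K19.f243401 IH) (Lpr_af (f317602 IH) (Lpe (f229608 IH) (Lpn (LP (LK LD1_c4 LD2_c9 LD3_c5))))))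
theorem f317618 : Led Lsl_ff (LP (LK LD1_c4 LD2_c19 LD3_c30)) = (LP (LK LD1_c4 LD2_c12 LD3_c21)) :=
  Lgr Lrot103 (Lpr_at (f317610 IH) (Lpe (K17.f190843 IH) (Lpe (K17.f282717 IH) (Lpr_cf (K17.f282725 IH) (Lpe (K17.f245143 IH) (Lpe (K16.f177927 IH) (Lpe (K17.f271573 IH) (Lpr_cf (K14.f253247 IH) (Lpr_df (K16.f259285 IH) (Lpn (LP (LK LD1_c4 LD2_c12 LD3_c21))))))))))))
theorem f317626 : Led Lsl_ft (LP (LK LD1_c4 LD2_c19 LD3_c30)) = (LP (LK LD1_c4 LD2_c12 LD3_c21)) :=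
  Lgr Lrot48 (Lpr_ff (f317618 IH) (Lpn (LP (LK LD1_c4 LD2_c12 LD3_c21))))
theorem f317643 : Led Lsl_af (LP (LK LD1_c4 LD2_c51 LD3_c0)) = (LP (LK LD1_c4 LD2_c12 LD3_c21)) :=
  Lgr Lrot31 (Lpr_gf (K18.f295111 IH) (Lpe (K15.f263684 IH) (Lpr_ft (f317626 IH) (Lpn (LP (LK LD1_c4 LD2_c12 LD3_c21))))))
theorem f317612 : Led Lsl_af (LP (LK LD1_c4 LD2_c19 LD3_c30)) = (LP (LK LD1_c4 LD2_c9 LD3_c5)) :=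
  Lgr Lrot0 (Lpr_at (f317610 IH) (Lpn (LP (LK LD1_c4 LD2_c9 LD3_c5))))
theorem f317651 : Led Lsl_ft (LP (LK LD1_c4 LD2_c51 LD3_c0)) = (LP (LK LD1_c4 LD2_c9 LD3_c5)) :=
  Lgr Lrot101 (Lpr_af (f317643 IH) (Lpe (f317626 IH) (Lpr_af (f317612 IH) (Lpn (LP (LK LD1_c4 LD2_c9 LD3_c5))))))
theorem f317649 : Led Lsl_dt (LP (LK LD1_c4 LD2_c51 LD3_c0)) = (LP (LK LD1_c4 LD2_c9 LD3_c6)) :=
  Lgr Lrot44 (Lpr_af (f317643 IH) (Lpe (K17.f259283 IH) (Lpr_af (K16.f259270 IH) (Lpn (LP (LK LD1_c4 LD2_c9 LD3_c6))))))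
theorem f317661 : Led Lsl_dt (LP (LK LD1_c2 LD2_c1 LD3_c59)) = (LP (LK LD1_c1 LD2_c16 LD3_c52)) :=
  Lgr Lrot32 (Lpe (K16.f259267 IH) (Lpe (f317649 IH) (Lpr_ft (f317651 IH) (Lpe (f317612 IH) (Lpe (K15.f243398 IH) (Lpe (K16.f243404 IH) (Lpe (K17.f262929 IH) (Lpe (K17.f244852 IH) (Lpe (K17.f244851 IH) (Lpn (LP (LK LD1_c1 LD2_c16 LD3_c52))))))))))))
theorem f317681 : Led Lsl_et (LP (LK LD1_c2 LD2_c1 LD3_c59)) = (LP (LK LD1_c4 LD2_c7 LD3_c60)) :=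
  Lgr Lrot121 (Lpr_dt (f317661 IH) (Lpr_gf (K17.f244849 IH) (Lpe (K13.f234213 IH) (Lpr_et (K14.f234212 IH) (Lpe (K13.f234197 IH) (Lpe (K13.f47544 IH) (Lpr_dt (K9.f32879 IH) (Lpe (K15.f260628 IH) (Lpr_df (K15.f253172 IH) (Lpr_gf (K15.f259210 IH) (Lpn (LP (LK LD1_c4 LD2_c7 LD3_c60)))))))))))))
theorem f317689 : Led Lsl_ef (LP (LK LD1_c2 LD2_c1 LD3_c59)) = (LP (LK LD1_c4 LD2_c7 LD3_c60)) :=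
  Lgr Lrot88 (Lpr_et (f317681 IH) (Lpn (LP (LK LD1_c4 LD2_c7 LD3_c60))))
theorem f317669 : Led Lsl_et (LP (LK LD1_c1 LD2_c16 LD3_c52)) = (LP (LK LD1_c2 LD2_c40 LD3_c15)) :=
  Lre_e IH (LK LD1_c1 LD2_c16 LD3_c52) (LK LD1_c2 LD2_c40 LD3_c15) Lrfl Lrfl
theorem f32399 : Led Lsl_et (LP (LK LD1_c5 LD2_c15 LD3_c5)) = (LP (LK LD1_c2 LD2_c34 LD3_c24)) :=
  Lre_e IH (LK LD1_c5 LD2_c15 LD3_c5) (LK LD1_c2 LD2_c34 LD3_c24) Lrfl Lrfl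
theorem f317697 : Led Lsl_dt (LP (LK LD1_c2 LD2_c40 LD3_c15)) = (LP (LK LD1_c5 LD2_c15 LD3_c5)) :=
  Lgr Lrot77 (Lpe (f317669 IH) (Lpe (f317661 IH) (Lpr_ef (f317689 IH) (Lpe (K15.f259208 IH) (Lpe (f32399 IH) (Lpn (LP (LK LD1_c5 LD2_c15 LD3_c5))))))))
theorem f317703 : Led Lsl_ft (LP (LK LD1_c5 LD2_c27 LD3_c49)) = (LP (LK LD1_c2 LD2_c40 LD3_c15)) :=
  Lre_f IH (LK LD1_c5 LD2_c27 LD3_c49) (LK LD1_c2 LD2_c40 LD3_c15) Lrfl Lrfl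
theorem f214822 : Led Lsl_ft (LP (LK LD1_c5 LD2_c15 LD3_c5)) = (LP (LK LD1_c10 LD2_c19 LD3_c39)) :=
  Lre_f IH (LK LD1_c5 LD2_c15 LD3_c5) (LK LD1_c10 LD2_c19 LD3_c39) Lrfl Lrfl
theorem f317704 : Led Lsl_df (LP (LK LD1_c5 LD2_c27 LD3_c49)) = (LP (LK LD1_c10 LD2_c19 LD3_c39)) :=
  Lgr Lrot78 (Lpr_ft (f317703 IH) (Lpr_dt (f317697 IH) (Lpr_ft (f214822 IH) (Lpn (LP (LK LD1_c10 LD2_c19 LD3_c39))))))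
theorem f317733 : Led Lsl_dt (LP (LK LD1_c5 LD2_c27 LD3_c49)) = (LP (LK LD1_c10 LD2_c19 LD3_c39)) :=
  Lgr Lrot42 (Lpr_df (f317704 IH) (Lpn (LP (LK LD1_c10 LD2_c19 LD3_c39))))
theorem f317741 : Led Lsl_bt (LP (LK LD1_c10 LD2_c46 LD3_c35)) = (LP (LK LD1_c5 LD2_c27 LD3_c49)) :=
  Lre_b IH (LK LD1_c10 LD2_c46 LD3_c35) (LK LD1_c5 LD2_c27 LD3_c49) Lrfl Lrfl
theorem f214807 : Led Lsl_ft (LP (LK LD1_c10 LD2_c19 LD3_c39)) = (LP (LK LD1_c5 LD2_c15 LD3_c5)) :=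
  Lre_f IH (LK LD1_c10 LD2_c19 LD3_c39) (LK LD1_c5 LD2_c15 LD3_c5) Lrfl Lrfl
theorem f214808 : Led Lsl_ft (LP (LK LD1_c8 LD2_c52 LD3_c1)) = (LP (LK LD1_c16 LD2_c34 LD3_c44)) :=
  Lre_f IH (LK LD1_c8 LD2_c52 LD3_c1) (LK LD1_c16 LD2_c34 LD3_c44) Lrfl Lrfl
theorem f214809 : Led Lsl_bf (LP (LK LD1_c10 LD2_c19 LD3_c39)) = (LP (LK LD1_c16 LD2_c34 LD3_c44)) :=
  Lgr Lrot61 (Lpr_ft (f214807 IH) (Lpr_bt (K14.f214801 IH) (Lpr_ft (f214808 IH) (Lpn (LP (LK LD1_c16 LD2_c34 LD3_c44))))))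
theorem f214816 : Led Lsl_bt (LP (LK LD1_c10 LD2_c19 LD3_c39)) = (LP (LK LD1_c16 LD2_c34 LD3_c44)) :=
  Lgr Lrot127 (Lpr_bf (f214809 IH) (Lpn (LP (LK LD1_c16 LD2_c34 LD3_c44))))
theorem f317742 : Led Lsl_df (LP (LK LD1_c10 LD2_c46 LD3_c35)) = (LP (LK LD1_c16 LD2_c34 LD3_c44)) :=
  Lgr Lrot12 (Lpr_bt (f317741 IH) (Lpr_dt (f317733 IH) (Lpr_bt (f214816 IH) (Lpn (LP (LK LD1_c16 LD2_c34 LD3_c44))))))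
theorem f317746 : Led Lsl_ft (LP (LK LD1_c10 LD2_c46 LD3_c35)) = (LP (LK LD1_c5 LD2_c27 LD3_c44)) :=
  Lre_f IH (LK LD1_c10 LD2_c46 LD3_c35) (LK LD1_c5 LD2_c27 LD3_c44) Lrfl Lrfl
theorem f317747 : Led Lsl_dt (LP (LK LD1_c5 LD2_c27 LD3_c44)) = (LP (LK LD1_c8 LD2_c52 LD3_c1)) :=
  Lgr Lrot60 (Lpe (f317746 IH) (Lpr_df (f317742 IH) (Lpe (f214808 IH) (Lpn (LP (LK LD1_c8 LD2_c52 LD3_c1))))))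
theorem f317751 : Led Lsl_et (LP (LK LD1_c2 LD2_c40 LD3_c13)) = (LP (LK LD1_c5 LD2_c27 LD3_c44)) :=
  Lre_e IH (LK LD1_c2 LD2_c40 LD3_c13) (LK LD1_c5 LD2_c27 LD3_c44) Lrfl Lrfl
theorem f288502 : Led Lsl_cf (LP (LK LD1_c5 LD2_c15 LD3_c30)) = (LP (LK LD1_c5 LD2_c2 LD3_c55)) :=
  Lgr Lrot11 (Lpr_ct (K17.f288495 IH) (Lpn (LP (LK LD1_c5 LD2_c2 LD3_c55))))
theorem f249555 : Led Lsl_dt (LP (LK LD1_c9 LD2_c56 LD3_c38)) = (LP (LK LD1_c5 LD2_c2 LD3_c55)) :=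
  Lre_d IH (LK LD1_c9 LD2_c56 LD3_c38) (LK LD1_c5 LD2_c2 LD3_c55) Lrfl Lrfl
theorem f288553 : Led Lsl_df (LP (LK LD1_c8 LD2_c15 LD3_c41)) = (LP (LK LD1_c4 LD2_c27 LD3_c9)) :=
  Lgr Lrot153 (Lpr_gt (K17.f288551 IH) (Lpe (K17.f288504 IH) (Lpr_cf (f288502 IH) (Lpe (f249555 IH) (Lpr_gf (K18.f275194 IH) (Lpe (K14.f192930 IH) (Lpe (K10.f192927 IH) (Lpe (K1.f44223 IH) (Lpr_gt (K14.f44239 IH) (Lpn (LP (LK LD1_c4 LD2_c27 LD3_c9))))))))))))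
theorem f259266 : Led Lsl_bt (LP (LK LD1_c4 LD2_c8 LD3_c61)) = (LP (LK LD1_c2 LD2_c1 LD3_c59)) :=
  Lre_b IH (LK LD1_c4 LD2_c8 LD3_c61) (LK LD1_c2 LD2_c1 LD3_c59) Lrfl Lrfl
theorem f231816 : Led Lsl_ct (LP (LK LD1_c4 LD2_c6 LD3_c27)) = (LP (LK LD1_c4 LD2_c7 LD3_c54)) :=
  Lgr Lrot7 (Lpr_df (K14.f231801 IH) (Lpe (K14.f33271 IH) (Lpe (K14.f33266 IH) (Lpr_gf (K10.f190893 IH) (Lpr_cf (K10.f45710 IH) (Lpr_gt (K10.f189720 IH) (Lpr_dt (K10.f183689 IH) (Lpr_gt (K15.f189722 IH) (Lpe (K17.f189758 IH) (Lpn (LP (LK LD1_c4 LD2_c7 LD3_c54))))))))))))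
theorem f288557 : Led Lsl_bf (LP (LK LD1_c8 LD2_c15 LD3_c41)) = (LP (LK LD1_c4 LD2_c7 LD3_c60)) :=
  Lgr Lrot165 (Lpr_gt (K17.f288551 IH) (Lpe (K17.f288555 IH) (Lpr_gt (K16.f253423 IH) (Lpe (K14.f253413 IH) (Lpr_bt (K17.f249639 IH) (Lpe (K14.f255923 IH) (Lpe (K14.f231815 IH) (Lpr_ct (f231816 IH) (Lpr_gt (K15.f189767 IH) (Lpr_cf (K15.f259685 IH) (Lpn (LP (LK LD1_c4 LD2_c7 LD3_c60)))))))))))))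
theorem f317683 : Led Lsl_ef (LP (LK LD1_c4 LD2_c8 LD3_c61)) = (LP (LK LD1_c8 LD2_c15 LD3_c41)) :=
  Lgr Lrot29 (Lpr_bt (f259266 IH) (Lpr_et (f317681 IH) (Lpe (f288557 IH) (Lpn (LP (LK LD1_c8 LD2_c15 LD3_c41))))))
theorem f317752 : Led Lsl_df (LP (LK LD1_c2 LD2_c40 LD3_c13)) = (LP (LK LD1_c4 LD2_c8 LD3_c61)) :=
  Lgr Lrot70 (Lpr_et (f317751 IH) (Lpr_dt (f317747 IH) (Lpr_et (K14.f44240 IH) (Lpe (f288553 IH) (Lpe (f317683 IH) (Lpn (LP (LK LD1_c4 LD2_c8 LD3_c61))))))))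
theorem f197008 : Led Lsl_ct (LP (LK LD1_c5 LD2_c27 LD3_c43)) = (LP (LK LD1_c2 LD2_c40 LD3_c13)) :=
  Lre_c IH (LK LD1_c5 LD2_c27 LD3_c43) (LK LD1_c2 LD2_c40 LD3_c13) Lrfl Lrfl
theorem f318024 : Led Lsl_ct (LP (LK LD1_c4 LD2_c19 LD3_c6)) = (LP (LK LD1_c4 LD2_c8 LD3_c61)) :=
  Lgr Lrot110 (Lpe (K17.f290840 IH) (Lpe (K16.f181213 IH) (Lpe (K16.f179870 IH) (Lpe (K18.f226842 IH) (Lpr_gt (K16.f278157 IH) (Lpr_ct (K17.f171928 IH) (Lpr_gt (K18.f252137 IH) (Lpr_ct (f197008 IH) (Lpr_df (f317752 IH) (Lpn (LP (LK LD1_c4 LD2_c8 LD3_c61))))))))))))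
theorem f318016 : Led Lsl_ft (LP (LK LD1_c4 LD2_c8 LD3_c61)) = (LP (LK LD1_c2 LD2_c1 LD3_c52)) :=
  Lre_f IH (LK LD1_c4 LD2_c8 LD3_c61) (LK LD1_c2 LD2_c1 LD3_c52) Lrfl Lrfl
theorem f318032 : Led Lsl_ff (LP (LK LD1_c4 LD2_c19 LD3_c6)) = (LP (LK LD1_c4 LD2_c8 LD3_c56)) :=
  Lgr Lrot23 (Lpr_ct (f318024 IH) (Lpr_ft (f318016 IH) (Lpr_ct (K15.f219300 IH) (Lpn (LP (LK LD1_c4 LD2_c8 LD3_c56))))))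
theorem f318042 : Led Lsl_at (LP (LK LD1_c4 LD2_c19 LD3_c6)) = (LP (LK LD1_c8 LD2_c11 LD3_c6)) :=
  Lgr Lrot26 (Lpr_ff (f318032 IH) (Lpe (K15.f257935 IH) (Lpe (K18.f278430 IH) (Lpn (LP (LK LD1_c8 LD2_c11 LD3_c6))))))
theorem f318048 : Led Lsl_af (LP (LK LD1_c4 LD2_c13 LD3_c0)) = (LP (LK LD1_c4 LD2_c51 LD3_c20)) :=
  Lgr Lrot117 (Lpe (K19.f255930 IH) (Lpr_at (f318042 IH) (Lpr_dt (K16.f278420 IH) (Lpn (LP (LK LD1_c4 LD2_c51 LD3_c20))))))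
theorem f267579 : Led Lsl_dt (LP (LK LD1_c4 LD2_c51 LD3_c19)) = (LP (LK LD1_c2 LD2_c23 LD3_c29)) :=
  Lre_d IH (LK LD1_c4 LD2_c51 LD3_c19) (LK LD1_c2 LD2_c23 LD3_c29) Lrfl Lrfl
theorem f311730 : Led Lsl_gf (LP (LK LD1_c4 LD2_c51 LD3_c19)) = (LP (LK LD1_c5 LD2_c29 LD3_c35)) :=
  Lgr Lrot143 (Lpr_dt (f267579 IH) (Lpr_cf (K19.f311713 IH) (Lpe (K14.f41972 IH) (Lpe (K16.f278157 IH) (Lpe (K16.f226843 IH) (Lpe (K15.f170320 IH) (Lpe (K15.f266915 IH) (Lpe (K18.f299285 IH) (Lpe (K18.f260938 IH) (Lpn (LP (LK LD1_c5 LD2_c29 LD3_c35))))))))))))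
theorem f318056 : Led Lsl_ft (LP (LK LD1_c5 LD2_c29 LD3_c35)) = (LP (LK LD1_c4 LD2_c51 LD3_c20)) :=
  Lgr Lrot2 (Lpe (f311730 IH) (Lpr_gt (K19.f311743 IH) (Lpr_af (f318048 IH) (Lpn (LP (LK LD1_c4 LD2_c51 LD3_c20))))))
theorem f318064 : Led Lsl_ff (LP (LK LD1_c5 LD2_c29 LD3_c35)) = (LP (LK LD1_c4 LD2_c51 LD3_c20)) :=
  Lgr Lrot3 (Lpr_ft (f318056 IH) (Lpn (LP (LK LD1_c4 LD2_c51 LD3_c20))))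
theorem f318072 : Led Lsl_at (LP (LK LD1_c5 LD2_c29 LD3_c35)) = (LP (LK LD1_c4 LD2_c18 LD3_c42)) :=
  Lgr Lrot26 (Lpr_ff (f318064 IH) (Lpe (K18.f278426 IH) (Lpr_gt (K15.f218082 IH) (Lpn (LP (LK LD1_c4 LD2_c18 LD3_c42))))))
theorem f179620 : Led Lsl_cf (LP (LK LD1_c4 LD2_c18 LD3_c42)) = (LP (LK LD1_c4 LD2_c17 LD3_c23)) :=
  Lgr Lrot11 (Lpr_ct (K15.f179611 IH) (Lpn (LP (LK LD1_c4 LD2_c17 LD3_c23))))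
theorem f254116 : Led Lsl_af (LP (LK LD1_c4 LD2_c19 LD3_c44)) = (LP (LK LD1_c7 LD2_c57 LD3_c54)) :=
  Lgr Lrot45 (Lpr_ft (K14.f253823 IH) (Lpr_at (K14.f253887 IH) (Lpr_ft (K14.f254111 IH) (Lpn (LP (LK LD1_c7 LD2_c57 LD3_c54))))))
theorem f276236 : Led Lsl_gf (LP (LK LD1_c4 LD2_c27 LD3_c42)) = (LP (LK LD1_c5 LD2_c36 LD3_c28)) :=
  Lgr Lrot47 (Lpr_gt (K16.f276231 IH) (Lpr_af (f254116 IH) (Lpe (K14.f254111 IH) (Lpn (LP (LK LD1_c5 LD2_c36 LD3_c28))))))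
theorem f231237 : Led Lsl_dt (LP (LK LD1_c1 LD2_c2 LD3_c33)) = (LP (LK LD1_c2 LD2_c11 LD3_c1)) :=
  Lre_d IH (LK LD1_c1 LD2_c2 LD3_c33) (LK LD1_c2 LD2_c11 LD3_c1) Lrfl Lrfl
theorem f256790 : Led Lsl_dt (LP (LK LD1_c4 LD2_c27 LD3_c42)) = (LP (LK LD1_c8 LD2_c34 LD3_c0)) :=
  Lgr Lrot173 (Lpe (K16.f219726 IH) (Lpe (f231237 IH) (Lpr_cf (K15.f256786 IH) (Lpe (K12.f230945 IH) (Lpe (K14.f231110 IH) (Lpe (K15.f231115 IH) (Lpe (K12.f231165 IH) (Lpe (K12.f226812 IH) (Lpe (K12.f201090 IH) (Lpe (K12.f201089 IH) (Lpe (K12.f201101 IH) (Lpe (K12.f7815 IH) (Lpe (K12.f179628 IH) (Lpe (K12.f179721 IH) (Lpe (K18.f231156 IH) (Lpn (LP (LK LD1_c8 LD2_c34 LD3_c0))))))))))))))))))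
theorem f179687 : Led Lsl_ct (LP (LK LD1_c4 LD2_c17 LD3_c25)) = (LP (LK LD1_c8 LD2_c34 LD3_c0)) :=
  Lre_c IH (LK LD1_c4 LD2_c17 LD3_c25) (LK LD1_c8 LD2_c34 LD3_c0) Lrfl Lrfl
theorem f303312 : Led Lsl_dt (LP (LK LD1_c8 LD2_c22 LD3_c8)) = (LP (LK LD1_c4 LD2_c17 LD3_c23)) :=
  Lgr Lrot57 (Lpr_gf (K18.f303304 IH) (Lpr_cf (K18.f300768 IH) (Lpr_gt (K18.f266877 IH) (Lpr_dt (K18.f253908 IH) (Lpe (f276236 IH) (Lpr_dt (f256790 IH) (Lpe (f179687 IH) (Lpe (K12.f179626 IH) (Lpe (K15.f179610 IH) (Lpn (LP (LK LD1_c4 LD2_c17 LD3_c23))))))))))))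
theorem f303300 : Led Lsl_ct (LP (LK LD1_c15 LD2_c1 LD3_c31)) = (LP (LK LD1_c8 LD2_c22 LD3_c8)) :=
  Lgr Lrot8 (Lpr_gt (K18.f303292 IH) (Lpr_dt (K18.f224027 IH) (Lpr_gt (K16.f253189 IH) (Lpr_dt (K16.f48084 IH) (Lpr_cf (K17.f290781 IH) (Lpe (K17.f290790 IH) (Lpe (K12.f170587 IH) (Lpe (K18.f51525 IH) (Lpe (K18.f51526 IH) (Lpn (LP (LK LD1_c8 LD2_c22 LD3_c8))))))))))))
theorem f296017 : Led Lsl_gt (LP (LK LD1_c4 LD2_c3 LD3_c38)) = (LP (LK LD1_c2 LD2_c11 LD3_c1)) :=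
  Lgr Lrot180 (Lpe (K18.f212489 IH) (Lpr_gt (K18.f190816 IH) (Lpr_dt (K15.f223135 IH) (Lpr_gt (K18.f223167 IH) (Lpr_dt (K18.f296005 IH) (Lpr_ct (K12.f217973 IH) (Lpe (K12.f201082 IH) (Lpr_gf (K15.f231235 IH) (Lpe (K12.f231244 IH) (Lpn (LP (LK LD1_c2 LD2_c11 LD3_c1))))))))))))
theorem f300821 : Led Lsl_df (LP (LK LD1_c4 LD2_c3 LD3_c38)) = (LP (LK LD1_c4 LD2_c52 LD3_c51)) :=
  Lgr Lrot153 (Lpr_gt (f296017 IH) (Lpr_dt (K12.f231244 IH) (Lpr_cf (K15.f256786 IH) (Lpe (K12.f230945 IH) (Lpr_gf (K18.f300817 IH) (Lpe (K18.f300807 IH) (Lpe (K14.f1705 IH) (Lpe (K18.f211440 IH) (Lpr_gt (K16.f179757 IH) (Lpn (LP (LK LD1_c4 LD2_c52 LD3_c51))))))))))))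
theorem f318074 : Led Lsl_cf (LP (LK LD1_c4 LD2_c52 LD3_c51)) = (LP (LK LD1_c8 LD2_c11 LD3_c6)) :=
  Lgr Lrot118 (Lpe (f300821 IH) (Lpe (K18.f212489 IH) (Lpr_dt (K18.f226818 IH) (Lpr_ct (f303300 IH) (Lpr_dt (f303312 IH) (Lpe (f179620 IH) (Lpe (f318072 IH) (Lpr_ff (f318064 IH) (Lpe (K18.f278422 IH) (Lpn (LP (LK LD1_c8 LD2_c11 LD3_c6))))))))))))
theorem f311262 : Led Lsl_cf (LP (LK LD1_c2 LD2_c38 LD3_c11)) = (LP (LK LD1_c1 LD2_c16 LD3_c5)) :=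
  Lgr Lrot39 (Lpr_et (K19.f235632 IH) (Lpr_ct (K19.f311260 IH) (Lpr_et (K13.f235683 IH) (Lpn (LP (LK LD1_c1 LD2_c16 LD3_c5))))))
theorem f169154 : Led Lsl_bt (LP (LK LD1_c1 LD2_c16 LD3_c5)) = (LP (LK LD1_c0 LD2_c35 LD3_c17)) :=
  Lre_b IH (LK LD1_c1 LD2_c16 LD3_c5) (LK LD1_c0 LD2_c35 LD3_c17) Lrfl Lrfl
theorem f264918 : Led Lsl_gf (LP (LK LD1_c1 LD2_c15 LD3_c10)) = (LP (LK LD1_c2 LD2_c30 LD3_c20)) :=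
  Lgr Lrot143 (Lpr_dt (K9.f44075 IH) (Lpe (K14.f230429 IH) (Lpe (K14.f43817 IH) (Lpr_gf (K15.f248189 IH) (Lpr_df (K14.f251313 IH) (Lpe (K14.f246661 IH) (Lpr_cf (K14.f230322 IH) (Lpe (K15.f255875 IH) (Lpr_dt (K15.f264914 IH) (Lpn (LP (LK LD1_c2 LD2_c30 LD3_c20))))))))))))
theorem f264922 : Led Lsl_gf (LP (LK LD1_c0 LD2_c35 LD3_c17)) = (LP (LK LD1_c1 LD2_c15 LD3_c11)) :=
  Lgr Lrot141 (Lpe (K15.f224206 IH) (Lpr_dt (K13.f41441 IH) (Lpe (K13.f224169 IH) (Lpe (K14.f251010 IH) (Lpr_et (K14.f250426 IH) (Lpe (K15.f255875 IH) (Lpr_dt (K15.f264914 IH) (Lpe (f264918 IH) (Lpe (K9.f28275 IH) (Lpr_et (K18.f230443 IH) (Lpn (LP (LK LD1_c1 LD2_c15 LD3_c11)))))))))))))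
theorem f318084 : Led Lsl_gt (LP (LK LD1_c4 LD2_c52 LD3_c51)) = (LP (LK LD1_c2 LD2_c37 LD3_c20)) :=
  Lgr Lrot149 (Lpr_cf (f318074 IH) (Lpr_gf (K18.f278430 IH) (Lpe (K13.f189254 IH) (Lpe (K13.f233731 IH) (Lpe (K19.f311290 IH) (Lpr_cf (f311262 IH) (Lpr_bt (f169154 IH) (Lpr_gf (f264922 IH) (Lpe (K18.f230439 IH) (Lpe (K16.f187543 IH) (Lpn (LP (LK LD1_c2 LD2_c37 LD3_c20)))))))))))))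
theorem f33507 : Led Lsl_et (LP (LK LD1_c1 LD2_c14 LD3_c8)) = (LP (LK LD1_c0 LD2_c34 LD3_c23)) :=
  Lre_e IH (LK LD1_c1 LD2_c14 LD3_c8) (LK LD1_c0 LD2_c34 LD3_c23) Lrfl Lrfl
theorem f311467 : Led Lsl_dt (LP (LK LD1_c4 LD2_c21 LD3_c10)) = (LP (LK LD1_c2 LD2_c37 LD3_c16)) :=
  Lgr Lrot60 (Lpe (K19.f187124 IH) (Lpe (K10.f45750 IH) (Lpr_ff (K19.f311461 IH) (Lpn (LP (LK LD1_c2 LD2_c37 LD3_c16))))))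
theorem f318092 : Led Lsl_ef (LP (LK LD1_c4 LD2_c52 LD3_c51)) = (LP (LK LD1_c4 LD2_c21 LD3_c10)) :=
  Lgr Lrot167 (Lpr_gt (f318084 IH) (Lpr_dt (K18.f300756 IH) (Lpr_gt (K17.f290779 IH) (Lpe (K16.f45757 IH) (Lpr_et (f33507 IH) (Lpr_gt (K8.f45790 IH) (Lpe (K1.f43921 IH) (Lpr_dt (K10.f43960 IH) (Lpr_gt (K10.f43943 IH) (Lpe (f311467 IH) (Lpn (LP (LK LD1_c4 LD2_c21 LD3_c10)))))))))))))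
theorem f228541 : Led Lsl_et (LP (LK LD1_c4 LD2_c3 LD3_c38)) = (LP (LK LD1_c8 LD2_c7 LD3_c47)) :=
  Lre_e IH (LK LD1_c4 LD2_c3 LD3_c38) (LK LD1_c8 LD2_c7 LD3_c47) Lrfl Lrfl
theorem f43945 : Led Lsl_et (LP (LK LD1_c5 LD2_c21 LD3_c22)) = (LP (LK LD1_c2 LD2_c37 LD3_c16)) :=
  Lre_e IH (LK LD1_c5 LD2_c21 LD3_c22) (LK LD1_c2 LD2_c37 LD3_c16) Lrfl Lrfl
theorem f318096 : Led Lsl_dt (LP (LK LD1_c8 LD2_c7 LD3_c47)) = (LP (LK LD1_c5 LD2_c21 LD3_c22)) :=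
  Lgr Lrot77 (Lpe (f228541 IH) (Lpr_df (f300821 IH) (Lpr_ef (f318092 IH) (Lpr_df (K19.f311457 IH) (Lpe (f43945 IH) (Lpn (LP (LK LD1_c5 LD2_c21 LD3_c22))))))))
theorem f318103 : Led Lsl_df (LP (LK LD1_c8 LD2_c7 LD3_c47)) = (LP (LK LD1_c5 LD2_c21 LD3_c22)) :=
  Lgr Lrot38 (Lpr_dt (f318096 IH) (Lpn (LP (LK LD1_c5 LD2_c21 LD3_c22))))
theorem f224802 : Led Lsl_ff (LP (LK LD1_c4 LD2_c0 LD3_c59)) = (LP (LK LD1_c2 LD2_c38 LD3_c32)) :=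
  Lgr Lrot3 (Lpr_ft (K19.f224796 IH) (Lpn (LP (LK LD1_c2 LD2_c38 LD3_c32))))
theorem f196786 : Led Lsl_ft (LP (LK LD1_c8 LD2_c2 LD3_c43)) = (LP (LK LD1_c15 LD2_c8 LD3_c55)) :=
  Lre_f IH (LK LD1_c8 LD2_c2 LD3_c43) (LK LD1_c15 LD2_c8 LD3_c55) Lrfl Lrfl
theorem f224805 : Led Lsl_et (LP (LK LD1_c5 LD2_c23 LD3_c61)) = (LP (LK LD1_c2 LD2_c38 LD3_c32)) :=
  Lre_e IH (LK LD1_c5 LD2_c23 LD3_c61) (LK LD1_c2 LD2_c38 LD3_c32) Lrfl Lrfl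
theorem f224806 : Led Lsl_ft (LP (LK LD1_c10 LD2_c38 LD3_c42)) = (LP (LK LD1_c5 LD2_c23 LD3_c61)) :=
  Lre_f IH (LK LD1_c10 LD2_c38 LD3_c42) (LK LD1_c5 LD2_c23 LD3_c61) Lrfl Lrfl
theorem f224807 : Led Lsl_et (LP (LK LD1_c15 LD2_c8 LD3_c55)) = (LP (LK LD1_c10 LD2_c38 LD3_c42)) :=
  Lgr Lrot69 (Lpe (f196786 IH) (Lpe (K19.f196776 IH) (Lpr_ff (f224802 IH) (Lpe (f224805 IH) (Lpe (f224806 IH) (Lpn (LP (LK LD1_c10 LD2_c38 LD3_c42))))))))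
theorem f306498 : Led Lsl_df (LP (LK LD1_c10 LD2_c20 LD3_c21)) = (LP (LK LD1_c10 LD2_c38 LD3_c42)) :=
  Lgr Lrot38 (Lpr_dt (K19.f306496 IH) (Lpn (LP (LK LD1_c10 LD2_c38 LD3_c42))))
theorem f306501 : Led Lsl_et (LP (LK LD1_c10 LD2_c20 LD3_c21)) = (LP (LK LD1_c18 LD2_c45 LD3_c61)) :=
  Lre_e IH (LK LD1_c10 LD2_c20 LD3_c21) (LK LD1_c18 LD2_c45 LD3_c61) Lrfl Lrfl
theorem f312371 : Led Lsl_dt (LP (LK LD1_c18 LD2_c45 LD3_c61)) = (LP (LK LD1_c15 LD2_c16 LD3_c24)) :=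
  Lgr Lrot77 (Lpe (f306501 IH) (Lpr_df (f306498 IH) (Lpe (f224807 IH) (Lpe (K19.f196784 IH) (Lpr_ef (K19.f312367 IH) (Lpn (LP (LK LD1_c15 LD2_c16 LD3_c24))))))))
theorem f318116 : Led Lsl_gf (LP (LK LD1_c8 LD2_c7 LD3_c47)) = (LP (LK LD1_c15 LD2_c16 LD3_c24)) :=
  Lgr Lrot145 (Lpr_df (f318103 IH) (Lpr_et (f43945 IH) (Lpe (K14.f190740 IH) (Lpr_dt (K1.f46125 IH) (Lpe (K10.f187887 IH) (Lpe (K14.f190926 IH) (Lpr_et (K19.f190931 IH) (Lpr_gt (K19.f251420 IH) (Lpe (K19.f306500 IH) (Lpr_dt (f312371 IH) (Lpn (LP (LK LD1_c15 LD2_c16 LD3_c24)))))))))))))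
theorem f240258 : Led Lsl_et (LP (LK LD1_c10 LD2_c14 LD3_c42)) = (LP (LK LD1_c5 LD2_c11 LD3_c58)) :=
  Lre_e IH (LK LD1_c10 LD2_c14 LD3_c42) (LK LD1_c5 LD2_c11 LD3_c58) Lrfl Lrfl
theorem f318114 : Led Lsl_gt (LP (LK LD1_c8 LD2_c7 LD3_c47)) = (LP (LK LD1_c6 LD2_c4 LD3_c49)) :=
  Lgr Lrot112 (Lpr_df (f318103 IH) (Lpr_et (f43945 IH) (Lpe (K10.f43943 IH) (Lpr_ef (K1.f43925 IH) (Lpr_dt (K1.f43944 IH) (Lpe (K9.f184763 IH) (Lpe (K15.f184828 IH) (Lpr_gf (K15.f257598 IH) (Lpe (f240258 IH) (Lpr_dt (f240268 IH) (Lpn (LP (LK LD1_c6 LD2_c4 LD3_c49)))))))))))))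
theorem f192247 : Led Lsl_ft (LP (LK LD1_c15 LD2_c16 LD3_c24)) = (LP (LK LD1_c8 LD2_c6 LD3_c41)) :=
  Lre_f IH (LK LD1_c15 LD2_c16 LD3_c24) (LK LD1_c8 LD2_c6 LD3_c41) Lrfl Lrfl
theorem f318120 : Led Lsl_af (LP (LK LD1_c6 LD2_c4 LD3_c49)) = (LP (LK LD1_c8 LD2_c6 LD3_c41)) :=
  Lgr Lrot31 (Lpe (f318114 IH) (Lpr_gf (f318116 IH) (Lpr_ft (f192247 IH) (Lpn (LP (LK LD1_c8 LD2_c6 LD3_c41))))))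
theorem f318124 : Led Lsl_at (LP (LK LD1_c2 LD2_c58 LD3_c35)) = (LP (LK LD1_c4 LD2_c3 LD3_c1)) :=
  Lgr Lrot80 (Lpe (f240267 IH) (Lpr_af (f318120 IH) (Lpe (K18.f192218 IH) (Lpn (LP (LK LD1_c4 LD2_c3 LD3_c1))))))
theorem f318126 : Led Lsl_af (LP (LK LD1_c1 LD2_c25 LD3_c1)) = (LP (LK LD1_c1 LD2_c58 LD3_c31)) :=
  Lgr Lrot117 (Lpr_dt (K19.f187841 IH) (Lpr_at (f318124 IH) (Lpr_dt (K15.f192217 IH) (Lpn (LP (LK LD1_c1 LD2_c58 LD3_c31))))))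
theorem f318134 : Led Lsl_ft (LP (LK LD1_c1 LD2_c24 LD3_c59)) = (LP (LK LD1_c1 LD2_c58 LD3_c31)) :=
  Lgr Lrot2 (Lpr_gt (K9.f182089 IH) (Lpr_gt (K10.f187792 IH) (Lpr_af (f318126 IH) (Lpn (LP (LK LD1_c1 LD2_c58 LD3_c31))))))
theorem f318140 : Led Lsl_ff (LP (LK LD1_c1 LD2_c24 LD3_c59)) = (LP (LK LD1_c1 LD2_c58 LD3_c31)) :=
  Lgr Lrot3 (Lpr_ft (f318134 IH) (Lpn (LP (LK LD1_c1 LD2_c58 LD3_c31))))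
theorem f318146 : Led Lsl_at (LP (LK LD1_c1 LD2_c24 LD3_c59)) = (LP (LK LD1_c1 LD2_c24 LD3_c58)) :=
  Lgr Lrot26 (Lpr_ff (f318140 IH) (Lpr_gt (K10.f192205 IH) (Lpr_gt (K10.f194180 IH) (Lpn (LP (LK LD1_c1 LD2_c24 LD3_c58))))))
theorem f318128 : Led Lsl_at (LP (LK LD1_c1 LD2_c25 LD3_c1)) = (LP (LK LD1_c1 LD2_c58 LD3_c31)) :=
  Lgr Lrot100 (Lpr_af (f318126 IH) (Lpn (LP (LK LD1_c1 LD2_c58 LD3_c31))))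
theorem f318156 : Led Lsl_ff (LP (LK LD1_c1 LD2_c25 LD3_c1)) = (LP (LK LD1_c1 LD2_c24 LD3_c58)) :=
  Lgr Lrot30 (Lpr_at (f318128 IH) (Lpe (f318140 IH) (Lpr_at (f318146 IH) (Lpn (LP (LK LD1_c1 LD2_c24 LD3_c58))))))
theorem f318160 : Led Lsl_ft (LP (LK LD1_c1 LD2_c25 LD3_c1)) = (LP (LK LD1_c1 LD2_c24 LD3_c58)) :=
  Lgr Lrot48 (Lpr_ff (f318156 IH) (Lpn (LP (LK LD1_c1 LD2_c24 LD3_c58))))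
theorem f318162 : Led Lsl_ff (LP (LK LD1_c0 LD2_c39 LD3_c10)) = (LP (LK LD1_c1 LD2_c24 LD3_c54)) :=
  Lgr Lrot23 (Lpr_ct (K10.f183864 IH) (Lpr_ft (f318160 IH) (Lpe (K10.f194172 IH) (Lpn (LP (LK LD1_c1 LD2_c24 LD3_c54))))))
theorem f318168 : Led Lsl_ft (LP (LK LD1_c1 LD2_c25 LD3_c2)) = (LP (LK LD1_c2 LD2_c58 LD3_c23)) :=
  Lgr Lrot54 (Lpe (K14.f41813 IH) (Lpr_ff (f318162 IH) (Lpe (K16.f41757 IH) (Lpn (LP (LK LD1_c2 LD2_c58 LD3_c23))))))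
theorem f318179 : Led Lsl_af (LP (LK LD1_c1 LD2_c24 LD3_c60)) = (LP (LK LD1_c2 LD2_c58 LD3_c23)) :=
  Lgr Lrot31 (Lpr_gf (K15.f256823 IH) (Lpe (K14.f252592 IH) (Lpr_ft (f318168 IH) (Lpn (LP (LK LD1_c2 LD2_c58 LD3_c23))))))
theorem f42249 : Led Lsl_et (LP (LK LD1_c1 LD2_c24 LD3_c60)) = (LP (LK LD1_c2 LD2_c58 LD3_c32)) :=
  Lre_e IH (LK LD1_c1 LD2_c24 LD3_c60) (LK LD1_c2 LD2_c58 LD3_c32) Lrfl Lrfl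
theorem f41478 : Led Lsl_dt (LP (LK LD1_c1 LD2_c16 LD3_c19)) = (LP (LK LD1_c2 LD2_c38 LD3_c57)) :=
  Lre_d IH (LK LD1_c1 LD2_c16 LD3_c19) (LK LD1_c2 LD2_c38 LD3_c57) Lrfl Lrfl
theorem f42562 : Led Lsl_et (LP (LK LD1_c2 LD2_c38 LD3_c57)) = (LP (LK LD1_c2 LD2_c58 LD3_c23)) :=
  Lgr Lrot71 (Lpe (f41478 IH) (Lpe (f42561 IH) (Lpe (K1.f41431 IH) (Lpr_ef (K10.f42555 IH) (Lpe (K16.f41757 IH) (Lpn (LP (LK LD1_c2 LD2_c58 LD3_c23))))))))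
theorem f318187 : Led Lsl_at (LP (LK LD1_c2 LD2_c58 LD3_c32)) = (LP (LK LD1_c2 LD2_c38 LD3_c57)) :=
  Lgr Lrot80 (Lpe (f42249 IH) (Lpr_af (f318179 IH) (Lpe (f42562 IH) (Lpn (LP (LK LD1_c2 LD2_c38 LD3_c57))))))
theorem f42222 : Led Lsl_ft (LP (LK LD1_c6 LD2_c4 LD3_c44)) = (LP (LK LD1_c2 LD2_c58 LD3_c32)) :=
  Lre_f IH (LK LD1_c6 LD2_c4 LD3_c44) (LK LD1_c2 LD2_c58 LD3_c32) Lrfl Lrfl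
theorem f42634 : Led Lsl_ft (LP (LK LD1_c2 LD2_c38 LD3_c57)) = (LP (LK LD1_c5 LD2_c24 LD3_c50)) :=
  Lre_f IH (LK LD1_c2 LD2_c38 LD3_c57) (LK LD1_c5 LD2_c24 LD3_c50) Lrfl Lrfl
theorem f318195 : Led Lsl_af (LP (LK LD1_c6 LD2_c4 LD3_c44)) = (LP (LK LD1_c5 LD2_c24 LD3_c50)) :=
  Lgr Lrot45 (Lpr_ft (f42222 IH) (Lpr_at (f318187 IH) (Lpr_ft (f42634 IH) (Lpn (LP (LK LD1_c5 LD2_c24 LD3_c50))))))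
theorem f42168 : Led Lsl_et (LP (LK LD1_c1 LD2_c15 LD3_c32)) = (LP (LK LD1_c2 LD2_c37 LD3_c4)) :=
  Lre_e IH (LK LD1_c1 LD2_c15 LD3_c32) (LK LD1_c2 LD2_c37 LD3_c4) Lrfl Lrfl
theorem f42171 : Led Lsl_et (LP (LK LD1_c2 LD2_c58 LD3_c32)) = (LP (LK LD1_c1 LD2_c24 LD3_c60)) :=
  Lre_e IH (LK LD1_c2 LD2_c58 LD3_c32) (LK LD1_c1 LD2_c24 LD3_c60) Lrfl Lrfl
theorem f42172 : Led Lsl_dt (LP (LK LD1_c2 LD2_c37 LD3_c4)) = (LP (LK LD1_c2 LD2_c58 LD3_c32)) :=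
  Lgr Lrot77 (Lpe (f42168 IH) (Lpr_df (K10.f42160 IH) (Lpe (K14.f42169 IH) (Lpe (K16.f42170 IH) (Lpe (f42171 IH) (Lpn (LP (LK LD1_c2 LD2_c58 LD3_c32))))))))
theorem f42190 : Led Lsl_ft (LP (LK LD1_c5 LD2_c20 LD3_c54)) = (LP (LK LD1_c2 LD2_c37 LD3_c4)) :=
  Lre_f IH (LK LD1_c5 LD2_c20 LD3_c54) (LK LD1_c2 LD2_c37 LD3_c4) Lrfl Lrfl
theorem f42191 : Led Lsl_ft (LP (LK LD1_c2 LD2_c58 LD3_c32)) = (LP (LK LD1_c6 LD2_c4 LD3_c44)) :=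
  Lre_f IH (LK LD1_c2 LD2_c58 LD3_c32) (LK LD1_c6 LD2_c4 LD3_c44) Lrfl Lrfl
theorem f42192 : Led Lsl_df (LP (LK LD1_c5 LD2_c20 LD3_c54)) = (LP (LK LD1_c6 LD2_c4 LD3_c44)) :=
  Lgr Lrot78 (Lpr_ft (f42190 IH) (Lpr_dt (f42172 IH) (Lpr_ft (f42191 IH) (Lpn (LP (LK LD1_c6 LD2_c4 LD3_c44))))))
theorem f194492 : Led Lsl_dt (LP (LK LD1_c2 LD2_c38 LD3_c58)) = (LP (LK LD1_c5 LD2_c24 LD3_c50)) :=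
  Lre_d IH (LK LD1_c2 LD2_c38 LD3_c58) (LK LD1_c5 LD2_c24 LD3_c50) Lrfl Lrfl
theorem f318206 : Led Lsl_at (LP (LK LD1_c5 LD2_c20 LD3_c54)) = (LP (LK LD1_c2 LD2_c38 LD3_c58)) :=
  Lgr Lrot51 (Lpr_df (f42192 IH) (Lpr_af (f318195 IH) (Lpe (f194492 IH) (Lpn (LP (LK LD1_c2 LD2_c38 LD3_c58))))))
theorem f42223 : Led Lsl_ct (LP (LK LD1_c10 LD2_c31 LD3_c52)) = (LP (LK LD1_c5 LD2_c20 LD3_c54)) :=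
  Lre_c IH (LK LD1_c10 LD2_c31 LD3_c52) (LK LD1_c5 LD2_c20 LD3_c54) Lrfl Lrfl
theorem f318213 : Led Lsl_ct (LP (LK LD1_c2 LD2_c38 LD3_c58)) = (LP (LK LD1_c5 LD2_c24 LD3_c43)) :=
  Lre_c IH (LK LD1_c2 LD2_c38 LD3_c58) (LK LD1_c5 LD2_c24 LD3_c43) Lrfl Lrfl
theorem f318214 : Led Lsl_af (LP (LK LD1_c10 LD2_c31 LD3_c52)) = (LP (LK LD1_c5 LD2_c24 LD3_c43)) :=
  Lgr Lrot68 (Lpr_ct (f42223 IH) (Lpr_at (f318206 IH) (Lpr_ct (f318213 IH) (Lpn (LP (LK LD1_c5 LD2_c24 LD3_c43))))))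
theorem f318223 : Led Lsl_ft (LP (LK LD1_c10 LD2_c31 LD3_c52)) = (LP (LK LD1_c5 LD2_c20 LD3_c52)) :=
  Lre_f IH (LK LD1_c10 LD2_c31 LD3_c52) (LK LD1_c5 LD2_c20 LD3_c52) Lrfl Lrfl
theorem f318224 : Led Lsl_ft (LP (LK LD1_c2 LD2_c38 LD3_c53)) = (LP (LK LD1_c5 LD2_c24 LD3_c43)) :=
  Lre_f IH (LK LD1_c2 LD2_c38 LD3_c53) (LK LD1_c5 LD2_c24 LD3_c43) Lrfl Lrfl
theorem f318225 : Led Lsl_at (LP (LK LD1_c5 LD2_c20 LD3_c52)) = (LP (LK LD1_c2 LD2_c38 LD3_c53)) :=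
  Lgr Lrot66 (Lpe (f318223 IH) (Lpr_af (f318214 IH) (Lpe (f318224 IH) (Lpn (LP (LK LD1_c2 LD2_c38 LD3_c53))))))
theorem f264035 : Led Lsl_et (LP (LK LD1_c2 LD2_c37 LD3_c3)) = (LP (LK LD1_c5 LD2_c20 LD3_c52)) :=
  Lre_e IH (LK LD1_c2 LD2_c37 LD3_c3) (LK LD1_c5 LD2_c20 LD3_c52) Lrfl Lrfl
theorem f217665 : Led Lsl_et (LP (LK LD1_c2 LD2_c38 LD3_c53)) = (LP (LK LD1_c1 LD2_c16 LD3_c17)) :=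
  Lre_e IH (LK LD1_c2 LD2_c38 LD3_c53) (LK LD1_c1 LD2_c16 LD3_c17) Lrfl Lrfl
theorem f318238 : Led Lsl_af (LP (LK LD1_c2 LD2_c37 LD3_c3)) = (LP (LK LD1_c1 LD2_c16 LD3_c17)) :=
  Lgr Lrot50 (Lpr_et (f264035 IH) (Lpr_at (f318225 IH) (Lpr_et (f217665 IH) (Lpn (LP (LK LD1_c1 LD2_c16 LD3_c17))))))
theorem f318254 : Led Lsl_ft (LP (LK LD1_c2 LD2_c36 LD3_c61)) = (LP (LK LD1_c1 LD2_c16 LD3_c17)) :=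
  Lgr Lrot2 (Lpr_gt (K12.f172024 IH) (Lpe (K12.f224437 IH) (Lpr_af (f318238 IH) (Lpn (LP (LK LD1_c1 LD2_c16 LD3_c17))))))
theorem f318266 : Led Lsl_ff (LP (LK LD1_c2 LD2_c36 LD3_c61)) = (LP (LK LD1_c1 LD2_c16 LD3_c17)) :=
  Lgr Lrot3 (Lpr_ft (f318254 IH) (Lpn (LP (LK LD1_c1 LD2_c16 LD3_c17))))
theorem f318278 : Led Lsl_at (LP (LK LD1_c2 LD2_c36 LD3_c61)) = (LP (LK LD1_c1 LD2_c16 LD3_c13)) :=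
  Lgr Lrot26 (Lpr_ff (f318266 IH) (Lpe (K12.f217657 IH) (Lpr_gt (K12.f196825 IH) (Lpn (LP (LK LD1_c1 LD2_c16 LD3_c13))))))
theorem f318245 : Led Lsl_at (LP (LK LD1_c2 LD2_c37 LD3_c3)) = (LP (LK LD1_c1 LD2_c16 LD3_c17)) :=
  Lgr Lrot100 (Lpr_af (f318238 IH) (Lpn (LP (LK LD1_c1 LD2_c16 LD3_c17))))
theorem f318292 : Led Lsl_ff (LP (LK LD1_c2 LD2_c37 LD3_c3)) = (LP (LK LD1_c1 LD2_c16 LD3_c13)) :=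
  Lgr Lrot30 (Lpr_at (f318245 IH) (Lpe (f318266 IH) (Lpr_at (f318278 IH) (Lpn (LP (LK LD1_c1 LD2_c16 LD3_c13))))))
theorem f318304 : Led Lsl_ft (LP (LK LD1_c2 LD2_c37 LD3_c3)) = (LP (LK LD1_c1 LD2_c16 LD3_c13)) :=
  Lgr Lrot48 (Lpr_ff (f318292 IH) (Lpn (LP (LK LD1_c1 LD2_c16 LD3_c13))))
theorem f223760 : Led Lsl_et (LP (LK LD1_c5 LD2_c20 LD3_c52)) = (LP (LK LD1_c2 LD2_c37 LD3_c3)) :=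
  Lre_e IH (LK LD1_c5 LD2_c20 LD3_c52) (LK LD1_c2 LD2_c37 LD3_c3) Lrfl Lrfl
theorem f284183 : Led Lsl_et (LP (LK LD1_c1 LD2_c16 LD3_c13)) = (LP (LK LD1_c2 LD2_c38 LD3_c40)) :=
  Lre_e IH (LK LD1_c1 LD2_c16 LD3_c13) (LK LD1_c2 LD2_c38 LD3_c40) Lrfl Lrfl
theorem f318312 : Led Lsl_ft (LP (LK LD1_c2 LD2_c38 LD3_c40)) = (LP (LK LD1_c5 LD2_c24 LD3_c21)) :=
  Lre_f IH (LK LD1_c2 LD2_c38 LD3_c40) (LK LD1_c5 LD2_c24 LD3_c21) Lrfl Lrfl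
theorem f318313 : Led Lsl_ef (LP (LK LD1_c10 LD2_c31 LD3_c52)) = (LP (LK LD1_c5 LD2_c24 LD3_c21)) :=
  Lgr Lrot21 (Lpr_ft (f318223 IH) (Lpr_et (f223760 IH) (Lpr_ft (f318304 IH) (Lpr_et (f284183 IH) (Lpr_ft (f318312 IH) (Lpn (LP (LK LD1_c5 LD2_c24 LD3_c21))))))))
theorem f318318 : Led Lsl_ct (LP (LK LD1_c2 LD2_c38 LD3_c47)) = (LP (LK LD1_c5 LD2_c24 LD3_c21)) :=
  Lre_c IH (LK LD1_c2 LD2_c38 LD3_c47) (LK LD1_c5 LD2_c24 LD3_c21) Lrfl Lrfl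
theorem f318319 : Led Lsl_et (LP (LK LD1_c5 LD2_c20 LD3_c54)) = (LP (LK LD1_c2 LD2_c38 LD3_c47)) :=
  Lgr Lrot158 (Lpe (f42223 IH) (Lpr_ef (f318313 IH) (Lpe (f318318 IH) (Lpn (LP (LK LD1_c2 LD2_c38 LD3_c47))))))
theorem f318326 : Led Lsl_ef (LP (LK LD1_c5 LD2_c20 LD3_c54)) = (LP (LK LD1_c2 LD2_c38 LD3_c47)) :=
  Lgr Lrot88 (Lpr_et (f318319 IH) (Lpn (LP (LK LD1_c2 LD2_c38 LD3_c47))))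
theorem f42214 : Led Lsl_bt (LP (LK LD1_c5 LD2_c20 LD3_c54)) = (LP (LK LD1_c10 LD2_c31 LD3_c43)) :=
  Lre_b IH (LK LD1_c5 LD2_c20 LD3_c54) (LK LD1_c10 LD2_c31 LD3_c43) Lrfl Lrfl
theorem f318329 : Led Lsl_bt (LP (LK LD1_c5 LD2_c24 LD3_c6)) = (LP (LK LD1_c2 LD2_c38 LD3_c47)) :=
  Lre_b IH (LK LD1_c5 LD2_c24 LD3_c6) (LK LD1_c2 LD2_c38 LD3_c47) Lrfl Lrfl
theorem f318330 : Led Lsl_et (LP (LK LD1_c10 LD2_c31 LD3_c43)) = (LP (LK LD1_c5 LD2_c24 LD3_c6)) :=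
  Lgr Lrot74 (Lpe (f42214 IH) (Lpr_ef (f318326 IH) (Lpe (f318329 IH) (Lpn (LP (LK LD1_c5 LD2_c24 LD3_c6))))))
theorem f42242 : Led Lsl_ft (LP (LK LD1_c5 LD2_c20 LD3_c49)) = (LP (LK LD1_c10 LD2_c31 LD3_c43)) :=
  Lre_f IH (LK LD1_c5 LD2_c20 LD3_c49) (LK LD1_c10 LD2_c31 LD3_c43) Lrfl Lrfl
theorem f42239 : Led Lsl_et (LP (LK LD1_c2 LD2_c37 LD3_c2)) = (LP (LK LD1_c5 LD2_c20 LD3_c49)) :=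
  Lre_e IH (LK LD1_c2 LD2_c37 LD3_c2) (LK LD1_c5 LD2_c20 LD3_c49) Lrfl Lrfl
theorem f318339 : Led Lsl_ft (LP (LK LD1_c5 LD2_c24 LD3_c6)) = (LP (LK LD1_c2 LD2_c38 LD3_c35)) :=
  Lre_f IH (LK LD1_c5 LD2_c24 LD3_c6) (LK LD1_c2 LD2_c38 LD3_c35) Lrfl Lrfl
theorem f318340 : Led Lsl_ff (LP (LK LD1_c2 LD2_c37 LD3_c2)) = (LP (LK LD1_c1 LD2_c16 LD3_c12)) :=
  Lgr Lrot72 (Lpr_et (f42239 IH) (Lpr_ft (f42242 IH) (Lpr_et (f318330 IH) (Lpr_ft (f318339 IH) (Lpr_et (K18.f183962 IH) (Lpn (LP (LK LD1_c1 LD2_c16 LD3_c12))))))))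
theorem f318348 : Led Lsl_ft (LP (LK LD1_c2 LD2_c37 LD3_c2)) = (LP (LK LD1_c1 LD2_c16 LD3_c12)) :=
  Lgr Lrot48 (Lpr_ff (f318340 IH) (Lpn (LP (LK LD1_c1 LD2_c16 LD3_c12))))
theorem f194615 : Led Lsl_dt (LP (LK LD1_c1 LD2_c16 LD3_c17)) = (LP (LK LD1_c2 LD2_c38 LD3_c52)) :=
  Lre_d IH (LK LD1_c1 LD2_c16 LD3_c17) (LK LD1_c2 LD2_c38 LD3_c52) Lrfl Lrfl
theorem f55169 : Led Lsl_gt (LP (LK LD1_c1 LD2_c10 LD3_c1)) = (LP (LK LD1_c2 LD2_c25 LD3_c38)) :=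
  Lre_g IH (LK LD1_c1 LD2_c10 LD3_c1) (LK LD1_c2 LD2_c25 LD3_c38) Lrfl Lrfl
theorem f55172 : Led Lsl_dt (LP (LK LD1_c2 LD2_c25 LD3_c38)) = (LP (LK LD1_c4 LD2_c55 LD3_c35)) :=
  Lre_d IH (LK LD1_c2 LD2_c25 LD3_c38) (LK LD1_c4 LD2_c55 LD3_c35) Lrfl Lrfl
theorem f218229 : Led Lsl_cf (LP (LK LD1_c4 LD2_c55 LD3_c35)) = (LP (LK LD1_c2 LD2_c38 LD3_c52)) :=
  Lgr Lrot14 (Lpe (f55172 IH) (Lpe (f55169 IH) (Lpe (K14.f55216 IH) (Lpe (K12.f55192 IH) (Lpr_ct (K12.f217668 IH) (Lpr_gt (K12.f217674 IH) (Lpe (K12.f217735 IH) (Lpr_gt (K12.f217930 IH) (Lpr_dt (f194615 IH) (Lpn (LP (LK LD1_c2 LD2_c38 LD3_c52))))))))))))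
theorem f224804 : Led Lsl_at (LP (LK LD1_c1 LD2_c16 LD3_c12)) = (LP (LK LD1_c2 LD2_c38 LD3_c32)) :=
  Lre_a IH (LK LD1_c1 LD2_c16 LD3_c12) (LK LD1_c2 LD2_c38 LD3_c32) Lrfl Lrfl
theorem f318358 : Led Lsl_ct (LP (LK LD1_c2 LD2_c25 LD3_c38)) = (LP (LK LD1_c2 LD2_c38 LD3_c32)) :=
  Lgr Lrot98 (Lpe (K14.f218517 IH) (Lpr_cf (f218229 IH) (Lpe (f194615 IH) (Lpe (K12.f194444 IH) (Lpe (K1.f41431 IH) (Lpe (K10.f42551 IH) (Lpe (K10.f194605 IH) (Lpr_ft (f318348 IH) (Lpr_at (f224804 IH) (Lpn (LP (LK LD1_c2 LD2_c38 LD3_c32))))))))))))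
theorem f168731 : Led Lsl_bt (LP (LK LD1_c2 LD2_c25 LD3_c40)) = (LP (LK LD1_c1 LD2_c10 LD3_c1)) :=
  Lre_b IH (LK LD1_c2 LD2_c25 LD3_c40) (LK LD1_c1 LD2_c10 LD3_c1) Lrfl Lrfl
theorem f55371 : Led Lsl_ct (LP (LK LD1_c2 LD2_c25 LD3_c40)) = (LP (LK LD1_c1 LD2_c10 LD3_c7)) :=
  Lre_c IH (LK LD1_c2 LD2_c25 LD3_c40) (LK LD1_c1 LD2_c10 LD3_c7) Lrfl Lrfl
theorem f168805 : Led Lsl_gt (LP (LK LD1_c2 LD2_c25 LD3_c56)) = (LP (LK LD1_c1 LD2_c10 LD3_c7)) :=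
  Lre_g IH (LK LD1_c2 LD2_c25 LD3_c56) (LK LD1_c1 LD2_c10 LD3_c7) Lrfl Lrfl
theorem f217439 : Led Lsl_ct (LP (LK LD1_c4 LD2_c56 LD3_c18)) = (LP (LK LD1_c2 LD2_c25 LD3_c56)) :=
  Lre_c IH (LK LD1_c4 LD2_c56 LD3_c18) (LK LD1_c2 LD2_c25 LD3_c56) Lrfl Lrfl
theorem f217440 : Led Lsl_bt (LP (LK LD1_c4 LD2_c56 LD3_c18)) = (LP (LK LD1_c9 LD2_c44 LD3_c18)) :=
  Lre_b IH (LK LD1_c4 LD2_c56 LD3_c18) (LK LD1_c9 LD2_c44 LD3_c18) Lrfl Lrfl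
theorem f55141 : Led Lsl_dt (LP (LK LD1_c4 LD2_c54 LD3_c41)) = (LP (LK LD1_c2 LD2_c39 LD3_c12)) :=
  Lre_d IH (LK LD1_c4 LD2_c54 LD3_c41) (LK LD1_c2 LD2_c39 LD3_c12) Lrfl Lrfl
theorem f318370 : Led Lsl_gf (LP (LK LD1_c2 LD2_c37 LD3_c46)) = (LP (LK LD1_c2 LD2_c38 LD3_c32)) :=
  Lgr Lrot148 (Lpr_dt (K10.f194625 IH) (Lpe (K12.f194623 IH) (Lpr_dt (K15.f169256 IH) (Lpr_ct (K12.f169161 IH) (Lpr_df (K13.f218386 IH) (Lpe (K12.f55142 IH) (Lpe (f55141 IH) (Lpe (K14.f41152 IH) (Lpr_ct (f318358 IH) (Lpn (LP (LK LD1_c2 LD2_c38 LD3_c32))))))))))))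
theorem f52296 : Led Lsl_ct (LP (LK LD1_c8 LD2_c9 LD3_c19)) = (LP (LK LD1_c4 LD2_c4 LD3_c14)) :=
  Lre_c IH (LK LD1_c8 LD2_c9 LD3_c19) (LK LD1_c4 LD2_c4 LD3_c14) Lrfl Lrfl
theorem f196536 : Led Lsl_bf (LP (LK LD1_c8 LD2_c9 LD3_c19)) = (LP (LK LD1_c5 LD2_c22 LD3_c26)) :=
  Lgr Lrot90 (Lpr_ct (f52296 IH) (Lpr_bt (K11.f52276 IH) (Lpr_ct (K11.f52320 IH) (Lpr_bt (K10.f196414 IH) (Lpr_ct (K12.f172030 IH) (Lpn (LP (LK LD1_c5 LD2_c22 LD3_c26))))))))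
theorem f318377 : Led Lsl_gf (LP (LK LD1_c9 LD2_c44 LD3_c18)) = (LP (LK LD1_c8 LD2_c9 LD3_c19)) :=
  Lgr Lrot124 (Lpe (f217440 IH) (Lpr_ct (f217439 IH) (Lpr_gt (f168805 IH) (Lpe (f55371 IH) (Lpr_bt (f168731 IH) (Lpr_gt (f55169 IH) (Lpr_ct (f318358 IH) (Lpe (f318370 IH) (Lpe (K12.f194618 IH) (Lpe (f196536 IH) (Lpn (LP (LK LD1_c8 LD2_c9 LD3_c19)))))))))))))
theorem f168819 : Led Lsl_ct (LP (LK LD1_c17 LD2_c53 LD3_c32)) = (LP (LK LD1_c9 LD2_c44 LD3_c18)) :=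
  Lre_c IH (LK LD1_c17 LD2_c53 LD3_c32) (LK LD1_c9 LD2_c44 LD3_c18) Lrfl Lrfl
theorem f168818 : Led Lsl_bt (LP (LK LD1_c17 LD2_c53 LD3_c32)) = (LP (LK LD1_c9 LD2_c44 LD3_c15)) :=
  Lre_b IH (LK LD1_c17 LD2_c53 LD3_c32) (LK LD1_c9 LD2_c44 LD3_c15) Lrfl Lrfl
theorem f53073 : Led Lsl_bt (LP (LK LD1_c4 LD2_c4 LD3_c7)) = (LP (LK LD1_c1 LD2_c59 LD3_c0)) :=
  Lre_b IH (LK LD1_c4 LD2_c4 LD3_c7) (LK LD1_c1 LD2_c59 LD3_c0) Lrfl Lrfl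
theorem f196404 : Led Lsl_bt (LP (LK LD1_c1 LD2_c59 LD3_c0)) = (LP (LK LD1_c4 LD2_c4 LD3_c7)) :=
  Lre_b IH (LK LD1_c1 LD2_c59 LD3_c0) (LK LD1_c4 LD2_c4 LD3_c7) Lrfl Lrfl
theorem f167921 : Led Lsl_bt (LP (LK LD1_c0 LD2_c32 LD3_c24)) = (LP (LK LD1_c1 LD2_c10 LD3_c3)) :=
  Lre_b IH (LK LD1_c0 LD2_c32 LD3_c24) (LK LD1_c1 LD2_c10 LD3_c3) Lrfl Lrfl
theorem f168796 : Led Lsl_bt (LP (LK LD1_c2 LD2_c12 LD3_c4)) = (LP (LK LD1_c1 LD2_c2 LD3_c60)) :=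
  Lre_b IH (LK LD1_c2 LD2_c12 LD3_c4) (LK LD1_c1 LD2_c2 LD3_c60) Lrfl Lrfl
theorem f196405 : Led Lsl_ct (LP (LK LD1_c4 LD2_c4 LD3_c7)) = (LP (LK LD1_c2 LD2_c12 LD3_c4)) :=
  Lgr Lrot83 (Lpe (f196404 IH) (Lpr_cf (K10.f196399 IH) (Lpe (f167921 IH) (Lpr_cf (K9.f167911 IH) (Lpe (f168796 IH) (Lpn (LP (LK LD1_c2 LD2_c12 LD3_c4))))))))
theorem f168802 : Led Lsl_gt (LP (LK LD1_c4 LD2_c30 LD3_c5)) = (LP (LK LD1_c2 LD2_c12 LD3_c4)) :=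
  Lre_g IH (LK LD1_c4 LD2_c30 LD3_c5) (LK LD1_c2 LD2_c12 LD3_c4) Lrfl Lrfl
theorem f318384 : Led Lsl_ct (LP (LK LD1_c8 LD2_c58 LD3_c19)) = (LP (LK LD1_c4 LD2_c30 LD3_c5)) :=
  Lre_c IH (LK LD1_c8 LD2_c58 LD3_c19) (LK LD1_c4 LD2_c30 LD3_c5) Lrfl Lrfl
theorem f318385 : Led Lsl_gt (LP (LK LD1_c9 LD2_c44 LD3_c15)) = (LP (LK LD1_c8 LD2_c58 LD3_c19)) :=
  Lgr Lrot82 (Lpe (f168818 IH) (Lpr_ct (f168819 IH) (Lpr_gf (f318377 IH) (Lpe (K11.f52298 IH) (Lpr_bt (K11.f52276 IH) (Lpe (K10.f53069 IH) (Lpe (f53073 IH) (Lpr_ct (f196405 IH) (Lpe (f168802 IH) (Lpe (f318384 IH) (Lpn (LP (LK LD1_c8 LD2_c58 LD3_c19)))))))))))))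
theorem f52463 : Led Lsl_gt (LP (LK LD1_c8 LD2_c9 LD3_c18)) = (LP (LK LD1_c4 LD2_c4 LD3_c14)) :=
  Lre_g IH (LK LD1_c8 LD2_c9 LD3_c18) (LK LD1_c4 LD2_c4 LD3_c14) Lrfl Lrfl
theorem f52475 : Led Lsl_bt (LP (LK LD1_c15 LD2_c21 LD3_c33)) = (LP (LK LD1_c8 LD2_c9 LD3_c18)) :=
  Lre_b IH (LK LD1_c15 LD2_c21 LD3_c33) (LK LD1_c8 LD2_c9 LD3_c18) Lrfl Lrfl
theorem f53033 : Led Lsl_bt (LP (LK LD1_c1 LD2_c58 LD3_c60)) = (LP (LK LD1_c4 LD2_c4 LD3_c2)) :=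
  Lre_b IH (LK LD1_c1 LD2_c58 LD3_c60) (LK LD1_c4 LD2_c4 LD3_c2) Lrfl Lrfl
theorem f53034 : Led Lsl_gt (LP (LK LD1_c4 LD2_c4 LD3_c2)) = (LP (LK LD1_c8 LD2_c8 LD3_c40)) :=
  Lre_g IH (LK LD1_c4 LD2_c4 LD3_c2) (LK LD1_c8 LD2_c8 LD3_c40) Lrfl Lrfl
theorem f53035 : Led Lsl_ct (LP (LK LD1_c8 LD2_c8 LD3_c40)) = (LP (LK LD1_c15 LD2_c20 LD3_c5)) :=
  Lre_c IH (LK LD1_c8 LD2_c8 LD3_c40) (LK LD1_c15 LD2_c20 LD3_c5) Lrfl Lrfl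
theorem f53036 : Led Lsl_gt (LP (LK LD1_c15 LD2_c20 LD3_c5)) = (LP (LK LD1_c25 LD2_c11 LD3_c18)) :=
  Lre_g IH (LK LD1_c15 LD2_c20 LD3_c5) (LK LD1_c25 LD2_c11 LD3_c18) Lrfl Lrfl
theorem f53037 : Led Lsl_ct (LP (LK LD1_c15 LD2_c21 LD3_c33)) = (LP (LK LD1_c25 LD2_c11 LD3_c18)) :=
  Lgr Lrot63 (Lpr_bt (f52475 IH) (Lpr_gt (f52463 IH) (Lpe (K11.f52316 IH) (Lpr_ct (K11.f52320 IH) (Lpr_gt (K11.f28119 IH) (Lpe (K11.f53032 IH) (Lpr_bt (f53033 IH) (Lpr_gt (f53034 IH) (Lpr_ct (f53035 IH) (Lpr_gt (f53036 IH) (Lpn (LP (LK LD1_c25 LD2_c11 LD3_c18)))))))))))))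
theorem f318387 : Led Lsl_bf (LP (LK LD1_c8 LD2_c58 LD3_c19)) = (LP (LK LD1_c8 LD2_c8 LD3_c40)) :=
  Lgr Lrot34 (Lpe (f318385 IH) (Lpe (f168818 IH) (Lpr_ct (f168819 IH) (Lpr_gf (f318377 IH) (Lpe (K11.f52298 IH) (Lpe (f52463 IH) (Lpe (f52475 IH) (Lpr_ct (f53037 IH) (Lpe (f53036 IH) (Lpe (f53035 IH) (Lpn (LP (LK LD1_c8 LD2_c8 LD3_c40)))))))))))))
theorem f318392 : Led Lsl_bt (LP (LK LD1_c4 LD2_c30 LD3_c5)) = (LP (LK LD1_c8 LD2_c58 LD3_c18)) :=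
  Lre_b IH (LK LD1_c4 LD2_c30 LD3_c5) (LK LD1_c8 LD2_c58 LD3_c18) Lrfl Lrfl
theorem f168804 : Led Lsl_ct (LP (LK LD1_c8 LD2_c58 LD3_c18)) = (LP (LK LD1_c16 LD2_c47 LD3_c16)) :=
  Lre_c IH (LK LD1_c8 LD2_c58 LD3_c18) (LK LD1_c16 LD2_c47 LD3_c16) Lrfl Lrfl
theorem f196426 : Led Lsl_ct (LP (LK LD1_c15 LD2_c20 LD3_c5)) = (LP (LK LD1_c8 LD2_c8 LD3_c40)) :=
  Lre_c IH (LK LD1_c15 LD2_c20 LD3_c5) (LK LD1_c8 LD2_c8 LD3_c40) Lrfl Lrfl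
theorem f318393 : Led Lsl_bt (LP (LK LD1_c16 LD2_c47 LD3_c16)) = (LP (LK LD1_c15 LD2_c20 LD3_c5)) :=
  Lgr Lrot128 (Lpe (f168804 IH) (Lpe (f318392 IH) (Lpe (f318384 IH) (Lpr_bf (f318387 IH) (Lpe (f196426 IH) (Lpn (LP (LK LD1_c15 LD2_c20 LD3_c5))))))))
theorem f318407 : Led Lsl_bf (LP (LK LD1_c16 LD2_c47 LD3_c16)) = (LP (LK LD1_c15 LD2_c20 LD3_c5)) :=
  Lgr Lrot24 (Lpr_bt (f318393 IH) (Lpn (LP (LK LD1_c15 LD2_c20 LD3_c5))))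
theorem f41079 : Led Lsl_ct (LP (LK LD1_c3 LD2_c58 LD3_c34)) = (LP (LK LD1_c1 LD2_c56 LD3_c2)) :=
  Lre_c IH (LK LD1_c3 LD2_c58 LD3_c34) (LK LD1_c1 LD2_c56 LD3_c2) Lrfl Lrfl
theorem f173077 : Led Lsl_bf (LP (LK LD1_c3 LD2_c58 LD3_c34)) = (LP (LK LD1_c5 LD2_c31 LD3_c30)) :=
  Lgr Lrot90 (Lpr_ct (f41079 IH) (Lpr_bt (K12.f41078 IH) (Lpr_ct (K9.f173074 IH) (Lpr_bt (K9.f173061 IH) (Lpr_ct (K9.f173076 IH) (Lpn (LP (LK LD1_c5 LD2_c31 LD3_c30))))))))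
theorem f173649 : Led Lsl_ct (LP (LK LD1_c5 LD2_c31 LD3_c30)) = (LP (LK LD1_c2 LD2_c41 LD3_c58)) :=
  Lre_c IH (LK LD1_c5 LD2_c31 LD3_c30) (LK LD1_c2 LD2_c41 LD3_c58) Lrfl Lrfl
theorem f173658 : Led Lsl_gt (LP (LK LD1_c5 LD2_c31 LD3_c28)) = (LP (LK LD1_c2 LD2_c41 LD3_c58)) :=
  Lre_g IH (LK LD1_c5 LD2_c31 LD3_c28) (LK LD1_c2 LD2_c41 LD3_c58) Lrfl Lrfl
theorem f173660 : Led Lsl_ct (LP (LK LD1_c10 LD2_c54 LD3_c33)) = (LP (LK LD1_c5 LD2_c31 LD3_c28)) :=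
  Lre_c IH (LK LD1_c10 LD2_c54 LD3_c33) (LK LD1_c5 LD2_c31 LD3_c28) Lrfl Lrfl
theorem f318417 : Led Lsl_gt (LP (LK LD1_c16 LD2_c47 LD3_c16)) = (LP (LK LD1_c10 LD2_c54 LD3_c33)) :=
  Lgr Lrot82 (Lpr_bf (f318407 IH) (Lpr_ct (f196426 IH) (Lpe (f53034 IH) (Lpe (K13.f196425 IH) (Lpr_bt (K13.f196424 IH) (Lpr_gf (K12.f196418 IH) (Lpr_bf (f173077 IH) (Lpr_ct (f173649 IH) (Lpe (f173658 IH) (Lpe (f173660 IH) (Lpn (LP (LK LD1_c10 LD2_c54 LD3_c33)))))))))))))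
theorem f218818 : Led Lsl_bt (LP (LK LD1_c8 LD2_c8 LD3_c11)) = (LP (LK LD1_c4 LD2_c3 LD3_c53)) :=
  Lre_b IH (LK LD1_c8 LD2_c8 LD3_c11) (LK LD1_c4 LD2_c3 LD3_c53) Lrfl Lrfl
theorem f218819 : Led Lsl_ct (LP (LK LD1_c8 LD2_c8 LD3_c11)) = (LP (LK LD1_c4 LD2_c3 LD3_c55)) :=
  Lre_c IH (LK LD1_c8 LD2_c8 LD3_c11) (LK LD1_c4 LD2_c3 LD3_c55) Lrfl Lrfl
theorem f211282 : Led Lsl_gt (LP (LK LD1_c4 LD2_c3 LD3_c55)) = (LP (LK LD1_c8 LD2_c8 LD3_c16)) :=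
  Lre_g IH (LK LD1_c4 LD2_c3 LD3_c55) (LK LD1_c8 LD2_c8 LD3_c16) Lrfl Lrfl
theorem f218820 : Led Lsl_ct (LP (LK LD1_c15 LD2_c19 LD3_c22)) = (LP (LK LD1_c8 LD2_c8 LD3_c16)) :=
  Lre_c IH (LK LD1_c15 LD2_c19 LD3_c22) (LK LD1_c8 LD2_c8 LD3_c16) Lrfl Lrfl
theorem f218821 : Led Lsl_bt (LP (LK LD1_c15 LD2_c19 LD3_c22)) = (LP (LK LD1_c25 LD2_c10 LD3_c24)) :=
  Lre_b IH (LK LD1_c15 LD2_c19 LD3_c22) (LK LD1_c25 LD2_c10 LD3_c24) Lrfl Lrfl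
theorem f290450 : Led Lsl_gf (LP (LK LD1_c16 LD2_c41 LD3_c17)) = (LP (LK LD1_c25 LD2_c10 LD3_c24)) :=
  Lgr Lrot181 (Lpr_ct (f290433 IH) (Lpr_gt (f54266 IH) (Lpe (K12.f54142 IH) (Lpr_bt (f54140 IH) (Lpr_gt (K15.f218814 IH) (Lpe (f218818 IH) (Lpr_ct (f218819 IH) (Lpr_gt (f211282 IH) (Lpe (f218820 IH) (Lpr_bt (f218821 IH) (Lpn (LP (LK LD1_c25 LD2_c10 LD3_c24)))))))))))))
theorem f227113 : Led Lsl_ct (LP (LK LD1_c8 LD2_c8 LD3_c16)) = (LP (LK LD1_c15 LD2_c19 LD3_c22)) :=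
  Lre_c IH (LK LD1_c8 LD2_c8 LD3_c16) (LK LD1_c15 LD2_c19 LD3_c22) Lrfl Lrfl
theorem f290528 : Led Lsl_df (LP (LK LD1_c8 LD2_c8 LD3_c16)) = (LP (LK LD1_c8 LD2_c8 LD3_c40)) :=
  Lgr Lrot183 (Lpr_ct (f227113 IH) (Lpr_bt (f218821 IH) (Lpe (f290450 IH) (Lpr_dt (f290452 IH) (Lpr_ct (K17.f290515 IH) (Lpr_bt (K17.f218127 IH) (Lpe (K17.f218118 IH) (Lpr_dt (K17.f171927 IH) (Lpr_ct (K18.f171919 IH) (Lpe (K14.f171907 IH) (Lpe (K16.f246389 IH) (Lpr_dt (K15.f226892 IH) (Lpe (K15.f211399 IH) (Lpr_bt (K13.f211292 IH) (Lpe (K12.f201070 IH) (Lpr_dt (K11.f211278 IH) (Lpr_ct (K11.f53022 IH) (Lpr_bt (f53033 IH) (Lpr_gt (f53034 IH) (Lpn (LP (LK LD1_c8 LD2_c8 LD3_c40))))))))))))))))))))))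
theorem f290532 : Led Lsl_dt (LP (LK LD1_c8 LD2_c8 LD3_c16)) = (LP (LK LD1_c8 LD2_c8 LD3_c40)) :=
  Lgr Lrot42 (Lpr_df (f290528 IH) (Lpn (LP (LK LD1_c8 LD2_c8 LD3_c40))))
theorem f292432 : Led Lsl_dt (LP (LK LD1_c15 LD2_c24 LD3_c9)) = (LP (LK LD1_c8 LD2_c16 LD3_c22)) :=
  Lgr Lrot42 (Lpr_df (K17.f292372 IH) (Lpn (LP (LK LD1_c8 LD2_c16 LD3_c22))))
theorem f54006 : Led Lsl_bt (LP (LK LD1_c15 LD2_c24 LD3_c8)) = (LP (LK LD1_c8 LD2_c10 LD3_c49)) :=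
  Lre_b IH (LK LD1_c15 LD2_c24 LD3_c8) (LK LD1_c8 LD2_c10 LD3_c49) Lrfl Lrfl
theorem f173718 : Led Lsl_dt (LP (LK LD1_c10 LD2_c54 LD3_c33)) = (LP (LK LD1_c19 LD2_c42 LD3_c35)) :=
  Lre_d IH (LK LD1_c10 LD2_c54 LD3_c33) (LK LD1_c19 LD2_c42 LD3_c35) Lrfl Lrfl
theorem f318419 : Led Lsl_cf (LP (LK LD1_c15 LD2_c24 LD3_c8)) = (LP (LK LD1_c19 LD2_c42 LD3_c35)) :=
  Lgr Lrot89 (Lpr_bt (f54006 IH) (Lpr_gt (K17.f53914 IH) (Lpr_dt (f292432 IH) (Lpr_ct (K12.f189103 IH) (Lpr_bt (K12.f189102 IH) (Lpe (K12.f189099 IH) (Lpr_dt (K14.f167639 IH) (Lpe (K14.f197623 IH) (Lpr_bt (K14.f197625 IH) (Lpr_gt (K13.f224984 IH) (Lpe (K11.f211272 IH) (Lpr_ct (K11.f199145 IH) (Lpr_bt (K17.f53028 IH) (Lpr_gt (f211282 IH) (Lpr_dt (f290532 IH) (Lpr_ct (f53035 IH) (Lpe (f318407 IH) (Lpr_gt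 (f318417 IH) (Lpr_dt (f173718 IH) (Lpn (LP (LK LD1_c19 LD2_c42 LD3_c35))))))))))))))))))))))
theorem f219415 : Led Lsl_ff (LP (LK LD1_c8 LD2_c10 LD3_c49)) = (LP (LK LD1_c8 LD2_c24 LD3_c0)) :=
  Lgr Lrot19 (Lpr_dt (K17.f53652 IH) (Lpr_ft (K12.f219408 IH) (Lpr_dt (K12.f219383 IH) (Lpn (LP (LK LD1_c8 LD2_c24 LD3_c0))))))
theorem f54004 : Led Lsl_bt (LP (LK LD1_c8 LD2_c10 LD3_c49)) = (LP (LK LD1_c15 LD2_c24 LD3_c8)) :=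
  Lre_b IH (LK LD1_c8 LD2_c10 LD3_c49) (LK LD1_c15 LD2_c24 LD3_c8) Lrfl Lrfl
theorem f219387 : Led Lsl_bt (LP (LK LD1_c15 LD2_c47 LD3_c39)) = (LP (LK LD1_c8 LD2_c24 LD3_c0)) :=
  Lre_b IH (LK LD1_c15 LD2_c47 LD3_c39) (LK LD1_c8 LD2_c24 LD3_c0) Lrfl Lrfl
theorem f219551 : Led Lsl_ft (LP (LK LD1_c15 LD2_c24 LD3_c8)) = (LP (LK LD1_c15 LD2_c47 LD3_c39)) :=
  Lgr Lrot75 (Lpe (f54004 IH) (Lpr_ff (f219415 IH) (Lpe (f219387 IH) (Lpn (LP (LK LD1_c15 LD2_c47 LD3_c39))))))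
theorem f275487 : Led Lsl_dt (LP (LK LD1_c15 LD2_c3 LD3_c37)) = (LP (LK LD1_c24 LD2_c52 LD3_c47)) :=
  Lre_d IH (LK LD1_c15 LD2_c3 LD3_c37) (LK LD1_c24 LD2_c52 LD3_c47) Lrfl Lrfl
theorem f213536 : Led Lsl_bt (LP (LK LD1_c18 LD2_c3 LD3_c2)) = (LP (LK LD1_c9 LD2_c51 LD3_c43)) :=
  Lre_b IH (LK LD1_c18 LD2_c3 LD3_c2) (LK LD1_c9 LD2_c51 LD3_c43) Lrfl Lrfl
theorem f275490 : Led Lsl_ct (LP (LK LD1_c24 LD2_c52 LD3_c47)) = (LP (LK LD1_c18 LD2_c3 LD3_c2)) :=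
  Lgr Lrot191 (Lpe (f275487 IH) (Lpr_gf (K16.f275483 IH) (Lpe (K16.f170858 IH) (Lpe (K16.f170857 IH) (Lpe (K16.f170856 IH) (Lpe (K12.f170855 IH) (Lpr_bf (K12.f170606 IH) (Lpe (K9.f1710 IH) (Lpe (K10.f170859 IH) (Lpr_gf (K11.f193348 IH) (Lpe (K12.f211409 IH) (Lpe (K12.f28916 IH) (Lpr_df (K9.f28828 IH) (Lpe (K9.f28823 IH) (Lpe (K15.f28923 IH) (Lpe (K15.f28924 IH) (Lpe (K15.f28925 IH) (Lpe (K15.f213498 IH) (Lpe (f213536 IH) (Lpn (LP (LK LD1_c18 LD2_c3 LD3_c2))))))))))))))))))))))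
theorem f275497 : Led Lsl_bt (LP (LK LD1_c15 LD2_c3 LD3_c38)) = (LP (LK LD1_c24 LD2_c52 LD3_c47)) :=
  Lre_b IH (LK LD1_c15 LD2_c3 LD3_c38) (LK LD1_c24 LD2_c52 LD3_c47) Lrfl Lrfl
theorem f219395 : Led Lsl_bt (LP (LK LD1_c8 LD2_c24 LD3_c0)) = (LP (LK LD1_c15 LD2_c47 LD3_c39)) :=
  Lre_b IH (LK LD1_c8 LD2_c24 LD3_c0) (LK LD1_c15 LD2_c47 LD3_c39) Lrfl Lrfl
theorem f275498 : Led Lsl_cf (LP (LK LD1_c15 LD2_c3 LD3_c38)) = (LP (LK LD1_c15 LD2_c47 LD3_c39)) :=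
  Lgr Lrot97 (Lpr_bt (f275497 IH) (Lpr_ct (f275490 IH) (Lpr_bt (f213536 IH) (Lpr_ct (K15.f219388 IH) (Lpr_bt (f219395 IH) (Lpn (LP (LK LD1_c15 LD2_c47 LD3_c39))))))))
theorem f318424 : Led Lsl_ft (LP (LK LD1_c15 LD2_c3 LD3_c38)) = (LP (LK LD1_c19 LD2_c42 LD3_c35)) :=
  Lgr Lrot4 (Lpr_cf (f275498 IH) (Lpe (f219551 IH) (Lpr_cf (f318419 IH) (Lpn (LP (LK LD1_c19 LD2_c42 LD3_c35))))))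
theorem f318429 : Led Lsl_ff (LP (LK LD1_c15 LD2_c3 LD3_c38)) = (LP (LK LD1_c19 LD2_c42 LD3_c35)) :=
  Lgr Lrot3 (Lpr_ft (f318424 IH) (Lpn (LP (LK LD1_c19 LD2_c42 LD3_c35))))
theorem f174027 : Led Lsl_dt (LP (LK LD1_c15 LD2_c3 LD3_c38)) = (LP (LK LD1_c7 LD2_c58 LD3_c59)) :=
  Lre_d IH (LK LD1_c15 LD2_c3 LD3_c38) (LK LD1_c7 LD2_c58 LD3_c59) Lrfl Lrfl
theorem f318431 : Led Lsl_ft (LP (LK LD1_c7 LD2_c58 LD3_c59)) = (LP (LK LD1_c10 LD2_c54 LD3_c33)) :=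
  Lgr Lrot54 (Lpe (f174027 IH) (Lpr_ff (f318429 IH) (Lpe (f173718 IH) (Lpn (LP (LK LD1_c10 LD2_c54 LD3_c33))))))
theorem f174025 : Led Lsl_ct (LP (LK LD1_c3 LD2_c58 LD3_c45)) = (LP (LK LD1_c7 LD2_c58 LD3_c59)) :=
  Lre_c IH (LK LD1_c3 LD2_c58 LD3_c45) (LK LD1_c7 LD2_c58 LD3_c59) Lrfl Lrfl
theorem f318433 : Led Lsl_ff (LP (LK LD1_c3 LD2_c58 LD3_c45)) = (LP (LK LD1_c5 LD2_c31 LD3_c28)) :=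
  Lgr Lrot23 (Lpr_ct (f174025 IH) (Lpr_ft (f318431 IH) (Lpr_ct (f173660 IH) (Lpn (LP (LK LD1_c5 LD2_c31 LD3_c28))))))
theorem f318442 : Led Lsl_at (LP (LK LD1_c3 LD2_c58 LD3_c45)) = (LP (LK LD1_c5 LD2_c31 LD3_c27)) :=
  Lgr Lrot26 (Lpr_ff (f318433 IH) (Lpr_gt (f173658 IH) (Lpr_gt (K9.f173083 IH) (Lpn (LP (LK LD1_c5 LD2_c31 LD3_c27))))))
theorem f174032 : Led Lsl_dt (LP (LK LD1_c7 LD2_c58 LD3_c60)) = (LP (LK LD1_c3 LD2_c58 LD3_c45)) :=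
  Lre_d IH (LK LD1_c7 LD2_c58 LD3_c60) (LK LD1_c3 LD2_c58 LD3_c45) Lrfl Lrfl
theorem f318450 : Led Lsl_af (LP (LK LD1_c7 LD2_c58 LD3_c60)) = (LP (LK LD1_c10 LD2_c54 LD3_c31)) :=
  Lgr Lrot117 (Lpr_dt (f174032 IH) (Lpr_at (f318442 IH) (Lpr_dt (K17.f173084 IH) (Lpn (LP (LK LD1_c10 LD2_c54 LD3_c31))))))
theorem f174022 : Led Lsl_dt (LP (LK LD1_c3 LD2_c58 LD3_c45)) = (LP (LK LD1_c7 LD2_c58 LD3_c60)) :=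
  Lre_d IH (LK LD1_c3 LD2_c58 LD3_c45) (LK LD1_c7 LD2_c58 LD3_c60) Lrfl Lrfl
theorem f173659 : Led Lsl_dt (LP (LK LD1_c10 LD2_c54 LD3_c34)) = (LP (LK LD1_c5 LD2_c31 LD3_c28)) :=
  Lre_d IH (LK LD1_c10 LD2_c54 LD3_c34) (LK LD1_c5 LD2_c31 LD3_c28) Lrfl Lrfl
theorem f318437 : Led Lsl_ft (LP (LK LD1_c7 LD2_c58 LD3_c60)) = (LP (LK LD1_c10 LD2_c54 LD3_c34)) :=
  Lgr Lrot54 (Lpe (f174022 IH) (Lpr_ff (f318433 IH) (Lpe (f173659 IH) (Lpn (LP (LK LD1_c10 LD2_c54 LD3_c34))))))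
theorem f200576 : Led Lsl_bt (LP (LK LD1_c15 LD2_c3 LD3_c27)) = (LP (LK LD1_c7 LD2_c58 LD3_c56)) :=
  Lre_b IH (LK LD1_c15 LD2_c3 LD3_c27) (LK LD1_c7 LD2_c58 LD3_c56) Lrfl Lrfl
theorem f290342 : Led Lsl_ff (LP (LK LD1_c10 LD2_c54 LD3_c31)) = (LP (LK LD1_c7 LD2_c58 LD3_c56)) :=
  Lgr Lrot25 (Lpe (K17.f174066 IH) (Lpr_ft (K17.f290340 IH) (Lpr_bt (f200576 IH) (Lpn (LP (LK LD1_c7 LD2_c58 LD3_c56))))))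
theorem f318455 : Led Lsl_at (LP (LK LD1_c10 LD2_c54 LD3_c34)) = (LP (LK LD1_c7 LD2_c58 LD3_c56)) :=
  Lgr Lrot66 (Lpe (f318437 IH) (Lpr_af (f318450 IH) (Lpr_ff (f290342 IH) (Lpn (LP (LK LD1_c7 LD2_c58 LD3_c56))))))
theorem f318459 : Led Lsl_af (LP (LK LD1_c10 LD2_c54 LD3_c34)) = (LP (LK LD1_c7 LD2_c58 LD3_c56)) :=
  Lgr Lrot0 (Lpr_at (f318455 IH) (Lpn (LP (LK LD1_c7 LD2_c58 LD3_c56))))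
theorem f200603 : Led Lsl_bt (LP (LK LD1_c7 LD2_c58 LD3_c56)) = (LP (LK LD1_c15 LD2_c3 LD3_c27)) :=
  Lre_b IH (LK LD1_c7 LD2_c58 LD3_c56) (LK LD1_c15 LD2_c3 LD3_c27) Lrfl Lrfl
theorem f290350 : Led Lsl_ft (LP (LK LD1_c10 LD2_c54 LD3_c31)) = (LP (LK LD1_c7 LD2_c58 LD3_c56)) :=
  Lgr Lrot75 (Lpe (K17.f174412 IH) (Lpr_ff (K17.f290346 IH) (Lpe (f200603 IH) (Lpn (LP (LK LD1_c7 LD2_c58 LD3_c56))))))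
theorem f226752 : Led Lsl_df (LP (LK LD1_c1 LD2_c19 LD3_c29)) = (LP (LK LD1_c1 LD2_c3 LD3_c14)) :=
  Lgr Lrot174 (Lpr_ct (K12.f226736 IH) (Lpe (K12.f7886 IH) (Lpe (K12.f7885 IH) (Lpe (K9.f168091 IH) (Lpe (K9.f168092 IH) (Lpe (K1.f40844 IH) (Lpr_gt (K9.f168832 IH) (Lpr_dt (K9.f168831 IH) (Lpe (K12.f211982 IH) (Lpn (LP (LK LD1_c1 LD2_c3 LD3_c14))))))))))))
theorem f289431 : Led Lsl_ft (LP (LK LD1_c1 LD2_c19 LD3_c29)) = (LP (LK LD1_c1 LD2_c18 LD3_c42)) :=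
  Lgr Lrot54 (Lpr_df (f226752 IH) (Lpr_ff (K17.f289397 IH) (Lpe (K12.f164989 IH) (Lpn (LP (LK LD1_c1 LD2_c18 LD3_c42))))))
theorem f225455 : Led Lsl_et (LP (LK LD1_c1 LD2_c19 LD3_c30)) = (LP (LK LD1_c2 LD2_c46 LD3_c17)) :=
  Lre_e IH (LK LD1_c1 LD2_c19 LD3_c30) (LK LD1_c2 LD2_c46 LD3_c17) Lrfl Lrfl
theorem f288048 : Led Lsl_af (LP (LK LD1_c1 LD2_c19 LD3_c30)) = (LP (LK LD1_c1 LD2_c18 LD3_c42)) :=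
  Lgr Lrot50 (Lpr_et (f225455 IH) (Lpr_at (K17.f288040 IH) (Lpr_et (K17.f164997 IH) (Lpn (LP (LK LD1_c1 LD2_c18 LD3_c42))))))
theorem f289440 : Led Lsl_dt (LP (LK LD1_c1 LD2_c19 LD3_c29)) = (LP (LK LD1_c1 LD2_c3 LD3_c14)) :=
  Lgr Lrot159 (Lpr_ft (f289431 IH) (Lpe (f288048 IH) (Lpe (K12.f225250 IH) (Lpe (K12.f173950 IH) (Lpr_cf (K13.f173930 IH) (Lpe (K14.f250317 IH) (Lpe (K14.f228900 IH) (Lpe (K17.f267765 IH) (Lpe (K12.f211805 IH) (Lpn (LP (LK LD1_c1 LD2_c3 LD3_c14))))))))))))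
theorem f226740 : Led Lsl_bt (LP (LK LD1_c2 LD2_c46 LD3_c14)) = (LP (LK LD1_c1 LD2_c19 LD3_c29)) :=
  Lre_b IH (LK LD1_c2 LD2_c46 LD3_c14) (LK LD1_c1 LD2_c19 LD3_c29) Lrfl Lrfl
theorem f289442 : Led Lsl_df (LP (LK LD1_c2 LD2_c46 LD3_c14)) = (LP (LK LD1_c2 LD2_c12 LD3_c30)) :=
  Lgr Lrot12 (Lpr_bt (f226740 IH) (Lpr_dt (f289440 IH) (Lpr_bt (K17.f211833 IH) (Lpn (LP (LK LD1_c2 LD2_c12 LD3_c30))))))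
theorem f165124 : Led Lsl_dt (LP (LK LD1_c2 LD2_c44 LD3_c43)) = (LP (LK LD1_c1 LD2_c18 LD3_c41)) :=
  Lre_d IH (LK LD1_c2 LD2_c44 LD3_c43) (LK LD1_c1 LD2_c18 LD3_c41) Lrfl Lrfl
theorem f289471 : Led Lsl_ft (LP (LK LD1_c2 LD2_c46 LD3_c14)) = (LP (LK LD1_c2 LD2_c44 LD3_c43)) :=
  Lgr Lrot54 (Lpr_df (f289442 IH) (Lpr_ff (K17.f289376 IH) (Lpe (f165124 IH) (Lpn (LP (LK LD1_c2 LD2_c44 LD3_c43))))))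
theorem f226741 : Led Lsl_ct (LP (LK LD1_c5 LD2_c40 LD3_c36)) = (LP (LK LD1_c2 LD2_c46 LD3_c14)) :=
  Lre_c IH (LK LD1_c5 LD2_c40 LD3_c36) (LK LD1_c2 LD2_c46 LD3_c14) Lrfl Lrfl
theorem f164994 : Led Lsl_ct (LP (LK LD1_c2 LD2_c44 LD3_c43)) = (LP (LK LD1_c5 LD2_c37 LD3_c31)) :=
  Lre_c IH (LK LD1_c2 LD2_c44 LD3_c43) (LK LD1_c5 LD2_c37 LD3_c31) Lrfl Lrfl
theorem f289476 : Led Lsl_ff (LP (LK LD1_c5 LD2_c40 LD3_c36)) = (LP (LK LD1_c5 LD2_c37 LD3_c31)) :=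
  Lgr Lrot23 (Lpr_ct (f226741 IH) (Lpr_ft (f289471 IH) (Lpr_ct (f164994 IH) (Lpn (LP (LK LD1_c5 LD2_c37 LD3_c31))))))
theorem f289494 : Led Lsl_ft (LP (LK LD1_c5 LD2_c40 LD3_c36)) = (LP (LK LD1_c5 LD2_c37 LD3_c31)) :=
  Lgr Lrot48 (Lpr_ff (f289476 IH) (Lpn (LP (LK LD1_c5 LD2_c37 LD3_c31))))
theorem f226742 : Led Lsl_bt (LP (LK LD1_c2 LD2_c40 LD3_c42)) = (LP (LK LD1_c5 LD2_c28 LD3_c51)) :=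
  Lre_b IH (LK LD1_c2 LD2_c40 LD3_c42) (LK LD1_c5 LD2_c28 LD3_c51) Lrfl Lrfl
theorem f165024 : Led Lsl_ct (LP (LK LD1_c5 LD2_c28 LD3_c51)) = (LP (LK LD1_c10 LD2_c48 LD3_c50)) :=
  Lre_c IH (LK LD1_c5 LD2_c28 LD3_c51) (LK LD1_c10 LD2_c48 LD3_c50) Lrfl Lrfl
theorem f226743 : Led Lsl_bf (LP (LK LD1_c5 LD2_c40 LD3_c36)) = (LP (LK LD1_c10 LD2_c48 LD3_c50)) :=
  Lgr Lrot90 (Lpr_ct (f226741 IH) (Lpr_bt (f226740 IH) (Lpr_ct (K12.f226736 IH) (Lpr_bt (f226742 IH) (Lpr_ct (f165024 IH) (Lpn (LP (LK LD1_c10 LD2_c48 LD3_c50))))))))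
theorem f178887 : Led Lsl_bt (LP (LK LD1_c5 LD2_c31 LD3_c48)) = (LP (LK LD1_c2 LD2_c42 LD3_c3)) :=
  Lre_b IH (LK LD1_c5 LD2_c31 LD3_c48) (LK LD1_c2 LD2_c42 LD3_c3) Lrfl Lrfl
theorem f178912 : Led Lsl_ct (LP (LK LD1_c10 LD2_c55 LD3_c22)) = (LP (LK LD1_c5 LD2_c31 LD3_c48)) :=
  Lre_c IH (LK LD1_c10 LD2_c55 LD3_c22) (LK LD1_c5 LD2_c31 LD3_c48) Lrfl Lrfl
theorem f226392 : Led Lsl_bt (LP (LK LD1_c1 LD2_c18 LD3_c42)) = (LP (LK LD1_c2 LD2_c44 LD3_c43)) :=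
  Lre_b IH (LK LD1_c1 LD2_c18 LD3_c42) (LK LD1_c2 LD2_c44 LD3_c43) Lrfl Lrfl
theorem f226393 : Led Lsl_bf (LP (LK LD1_c10 LD2_c55 LD3_c22)) = (LP (LK LD1_c5 LD2_c37 LD3_c31)) :=
  Lgr Lrot90 (Lpr_ct (f178912 IH) (Lpr_bt (f178887 IH) (Lpr_ct (K12.f226020 IH) (Lpr_bt (f226392 IH) (Lpr_ct (f164994 IH) (Lpn (LP (LK LD1_c5 LD2_c37 LD3_c31))))))))
theorem f289496 : Led Lsl_ff (LP (LK LD1_c10 LD2_c48 LD3_c50)) = (LP (LK LD1_c10 LD2_c55 LD3_c22)) :=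
  Lgr Lrot25 (Lpe (f226743 IH) (Lpr_ft (f289494 IH) (Lpe (f226393 IH) (Lpn (LP (LK LD1_c10 LD2_c55 LD3_c22))))))
theorem f289507 : Led Lsl_at (LP (LK LD1_c10 LD2_c48 LD3_c50)) = (LP (LK LD1_c19 LD2_c32 LD3_c54)) :=
  Lre_a IH (LK LD1_c10 LD2_c48 LD3_c50) (LK LD1_c19 LD2_c32 LD3_c54) Lrfl Lrfl
theorem f178942 : Led Lsl_at (LP (LK LD1_c19 LD2_c43 LD3_c52)) = (LP (LK LD1_c10 LD2_c55 LD3_c22)) :=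
  Lre_a IH (LK LD1_c19 LD2_c43 LD3_c52) (LK LD1_c10 LD2_c55 LD3_c22) Lrfl Lrfl
theorem f289508 : Led Lsl_ft (LP (LK LD1_c19 LD2_c32 LD3_c54)) = (LP (LK LD1_c19 LD2_c43 LD3_c52)) :=
  Lgr Lrot101 (Lpe (f289507 IH) (Lpr_ff (f289496 IH) (Lpe (f178942 IH) (Lpn (LP (LK LD1_c19 LD2_c43 LD3_c52))))))
theorem f280511 : Led Lsl_ff (LP (LK LD1_c1 LD2_c19 LD3_c61)) = (LP (LK LD1_c2 LD2_c13 LD3_c9)) :=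
  Lgr Lrot3 (Lpr_ft (K16.f280471 IH) (Lpn (LP (LK LD1_c2 LD2_c13 LD3_c9))))
theorem f280539 : Led Lsl_ff (LP (LK LD1_c1 LD2_c19 LD3_c50)) = (LP (LK LD1_c2 LD2_c13 LD3_c17)) :=
  Lgr Lrot25 (Lpr_bt (K16.f280535 IH) (Lpe (f280511 IH) (Lpr_bt (K16.f268849 IH) (Lpn (LP (LK LD1_c2 LD2_c13 LD3_c17))))))
theorem f269059 : Led Lsl_dt (LP (LK LD1_c1 LD2_c19 LD3_c50)) = (LP (LK LD1_c2 LD2_c46 LD3_c50)) :=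
  Lre_d IH (LK LD1_c1 LD2_c19 LD3_c50) (LK LD1_c2 LD2_c46 LD3_c50) Lrfl Lrfl
theorem f280543 : Led Lsl_ft (LP (LK LD1_c2 LD2_c46 LD3_c50)) = (LP (LK LD1_c4 LD2_c32 LD3_c29)) :=
  Lgr Lrot54 (Lpe (f269059 IH) (Lpr_ff (f280539 IH) (Lpe (K16.f268840 IH) (Lpn (LP (LK LD1_c4 LD2_c32 LD3_c29))))))
theorem f280555 : Led Lsl_ff (LP (LK LD1_c2 LD2_c46 LD3_c50)) = (LP (LK LD1_c4 LD2_c32 LD3_c29)) :=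
  Lgr Lrot3 (Lpr_ft (f280543 IH) (Lpn (LP (LK LD1_c4 LD2_c32 LD3_c29))))
theorem f269060 : Led Lsl_ct (LP (LK LD1_c2 LD2_c46 LD3_c50)) = (LP (LK LD1_c5 LD2_c41 LD3_c33)) :=
  Lre_c IH (LK LD1_c2 LD2_c46 LD3_c50) (LK LD1_c5 LD2_c41 LD3_c33) Lrfl Lrfl
theorem f280568 : Led Lsl_ct (LP (LK LD1_c9 LD2_c2 LD3_c32)) = (LP (LK LD1_c4 LD2_c32 LD3_c29)) :=
  Lre_c IH (LK LD1_c9 LD2_c2 LD3_c32) (LK LD1_c4 LD2_c32 LD3_c29) Lrfl Lrfl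
theorem f280569 : Led Lsl_ft (LP (LK LD1_c5 LD2_c41 LD3_c33)) = (LP (LK LD1_c9 LD2_c2 LD3_c32)) :=
  Lgr Lrot4 (Lpe (f269060 IH) (Lpr_ff (f280555 IH) (Lpe (f280568 IH) (Lpn (LP (LK LD1_c9 LD2_c2 LD3_c32))))))
theorem f269082 : Led Lsl_dt (LP (LK LD1_c11 LD2_c13 LD3_c16)) = (LP (LK LD1_c5 LD2_c41 LD3_c33)) :=
  Lre_d IH (LK LD1_c11 LD2_c13 LD3_c16) (LK LD1_c5 LD2_c41 LD3_c33) Lrfl Lrfl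
theorem f269001 : Led Lsl_dt (LP (LK LD1_c9 LD2_c2 LD3_c32)) = (LP (LK LD1_c16 LD2_c52 LD3_c52)) :=
  Lre_d IH (LK LD1_c9 LD2_c2 LD3_c32) (LK LD1_c16 LD2_c52 LD3_c52) Lrfl Lrfl
theorem f280585 : Led Lsl_ff (LP (LK LD1_c11 LD2_c13 LD3_c16)) = (LP (LK LD1_c16 LD2_c52 LD3_c52)) :=
  Lgr Lrot19 (Lpr_dt (f269082 IH) (Lpr_ft (f280569 IH) (Lpr_dt (f269001 IH) (Lpn (LP (LK LD1_c16 LD2_c52 LD3_c52))))))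
theorem f280597 : Led Lsl_ft (LP (LK LD1_c11 LD2_c13 LD3_c16)) = (LP (LK LD1_c16 LD2_c52 LD3_c52)) :=
  Lgr Lrot48 (Lpr_ff (f280585 IH) (Lpn (LP (LK LD1_c16 LD2_c52 LD3_c52))))
theorem f174358 : Led Lsl_bt (LP (LK LD1_c20 LD2_c7 LD3_c53)) = (LP (LK LD1_c11 LD2_c13 LD3_c16)) :=
  Lre_b IH (LK LD1_c20 LD2_c7 LD3_c53) (LK LD1_c11 LD2_c13 LD3_c16) Lrfl Lrfl
theorem f280604 : Led Lsl_bt (LP (LK LD1_c16 LD2_c52 LD3_c52)) = (LP (LK LD1_c26 LD2_c49 LD3_c44)) :=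
  Lre_b IH (LK LD1_c16 LD2_c52 LD3_c52) (LK LD1_c26 LD2_c49 LD3_c44) Lrfl Lrfl
theorem f280605 : Led Lsl_ff (LP (LK LD1_c20 LD2_c7 LD3_c53)) = (LP (LK LD1_c26 LD2_c49 LD3_c44)) :=
  Lgr Lrot25 (Lpr_bt (f174358 IH) (Lpr_ft (f280597 IH) (Lpr_bt (f280604 IH) (Lpn (LP (LK LD1_c26 LD2_c49 LD3_c44))))))
theorem f174372 : Led Lsl_dt (LP (LK LD1_c20 LD2_c7 LD3_c53)) = (LP (LK LD1_c11 LD2_c13 LD3_c15)) :=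
  Lre_d IH (LK LD1_c20 LD2_c7 LD3_c53) (LK LD1_c11 LD2_c13 LD3_c15) Lrfl Lrfl
theorem f280613 : Led Lsl_dt (LP (LK LD1_c16 LD2_c52 LD3_c51)) = (LP (LK LD1_c26 LD2_c49 LD3_c44)) :=
  Lre_d IH (LK LD1_c16 LD2_c52 LD3_c51) (LK LD1_c26 LD2_c49 LD3_c44) Lrfl Lrfl
theorem f280614 : Led Lsl_ft (LP (LK LD1_c11 LD2_c13 LD3_c15)) = (LP (LK LD1_c16 LD2_c52 LD3_c51)) :=
  Lgr Lrot54 (Lpe (f174372 IH) (Lpr_ff (f280605 IH) (Lpe (f280613 IH) (Lpn (LP (LK LD1_c16 LD2_c52 LD3_c51))))))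
theorem f268834 : Led Lsl_bt (LP (LK LD1_c11 LD2_c15 LD3_c20)) = (LP (LK LD1_c5 LD2_c42 LD3_c35)) :=
  Lre_b IH (LK LD1_c11 LD2_c15 LD3_c20) (LK LD1_c5 LD2_c42 LD3_c35) Lrfl Lrfl
theorem f268836 : Led Lsl_bt (LP (LK LD1_c9 LD2_c2 LD3_c32)) = (LP (LK LD1_c16 LD2_c52 LD3_c51)) :=
  Lre_b IH (LK LD1_c9 LD2_c2 LD3_c32) (LK LD1_c16 LD2_c52 LD3_c51) Lrfl Lrfl
theorem f268837 : Led Lsl_cf (LP (LK LD1_c11 LD2_c15 LD3_c20)) = (LP (LK LD1_c16 LD2_c52 LD3_c51)) :=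
  Lgr Lrot97 (Lpr_bt (f268834 IH) (Lpr_ct (K16.f268833 IH) (Lpr_bt (K16.f268819 IH) (Lpr_ct (K16.f268835 IH) (Lpr_bt (f268836 IH) (Lpn (LP (LK LD1_c16 LD2_c52 LD3_c51))))))))
theorem f280417 : Led Lsl_ft (LP (LK LD1_c5 LD2_c42 LD3_c35)) = (LP (LK LD1_c9 LD2_c2 LD3_c1)) :=
  Lgr Lrot54 (Lpe (K16.f268843 IH) (Lpr_ff (K16.f280404 IH) (Lpe (K16.f181768 IH) (Lpn (LP (LK LD1_c9 LD2_c2 LD3_c1))))))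
theorem f174503 : Led Lsl_bt (LP (LK LD1_c9 LD2_c2 LD3_c1)) = (LP (LK LD1_c16 LD2_c52 LD3_c1)) :=
  Lre_b IH (LK LD1_c9 LD2_c2 LD3_c1) (LK LD1_c16 LD2_c52 LD3_c1) Lrfl Lrfl
theorem f280450 : Led Lsl_ff (LP (LK LD1_c11 LD2_c15 LD3_c20)) = (LP (LK LD1_c16 LD2_c52 LD3_c1)) :=
  Lgr Lrot25 (Lpr_bt (f268834 IH) (Lpr_ft (f280417 IH) (Lpr_bt (f174503 IH) (Lpn (LP (LK LD1_c16 LD2_c52 LD3_c1))))))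
theorem f280459 : Led Lsl_ft (LP (LK LD1_c11 LD2_c15 LD3_c20)) = (LP (LK LD1_c16 LD2_c52 LD3_c1)) :=
  Lgr Lrot48 (Lpr_ff (f280450 IH) (Lpn (LP (LK LD1_c16 LD2_c52 LD3_c1))))
theorem f280617 : Led Lsl_cf (LP (LK LD1_c11 LD2_c13 LD3_c15)) = (LP (LK LD1_c16 LD2_c52 LD3_c1)) :=
  Lgr Lrot108 (Lpr_ft (f280614 IH) (Lpe (f268837 IH) (Lpr_ft (f280459 IH) (Lpn (LP (LK LD1_c16 LD2_c52 LD3_c1))))))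
theorem f280622 : Led Lsl_ct (LP (LK LD1_c11 LD2_c13 LD3_c15)) = (LP (LK LD1_c16 LD2_c52 LD3_c1)) :=
  Lgr Lrot59 (Lpr_cf (f280617 IH) (Lpn (LP (LK LD1_c16 LD2_c52 LD3_c1))))
theorem f168118 : Led Lsl_et (LP (LK LD1_c1 LD2_c17 LD3_c49)) = (LP (LK LD1_c2 LD2_c42 LD3_c32)) :=
  Lre_e IH (LK LD1_c1 LD2_c17 LD3_c49) (LK LD1_c2 LD2_c42 LD3_c32) Lrfl Lrfl
theorem f174123 : Led Lsl_et (LP (LK LD1_c1 LD2_c19 LD3_c56)) = (LP (LK LD1_c0 LD2_c36 LD3_c60)) :=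
  Lre_e IH (LK LD1_c1 LD2_c19 LD3_c56) (LK LD1_c0 LD2_c36 LD3_c60) Lrfl Lrfl
theorem f174124 : Led Lsl_ct (LP (LK LD1_c2 LD2_c42 LD3_c32)) = (LP (LK LD1_c1 LD2_c19 LD3_c56)) :=
  Lgr Lrot15 (Lpe (f168118 IH) (Lpr_cf (K9.f174110 IH) (Lpe (f174123 IH) (Lpn (LP (LK LD1_c1 LD2_c19 LD3_c56))))))
theorem f174286 : Led Lsl_cf (LP (LK LD1_c2 LD2_c42 LD3_c32)) = (LP (LK LD1_c1 LD2_c19 LD3_c56)) :=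
  Lgr Lrot11 (Lpr_ct (f174124 IH) (Lpn (LP (LK LD1_c1 LD2_c19 LD3_c56))))
theorem f174293 : Led Lsl_bt (LP (LK LD1_c2 LD2_c42 LD3_c32)) = (LP (LK LD1_c5 LD2_c32 LD3_c44)) :=
  Lre_b IH (LK LD1_c2 LD2_c42 LD3_c32) (LK LD1_c5 LD2_c32 LD3_c44) Lrfl Lrfl
theorem f174296 : Led Lsl_ct (LP (LK LD1_c5 LD2_c32 LD3_c44)) = (LP (LK LD1_c10 LD2_c57 LD3_c14)) :=
  Lre_c IH (LK LD1_c5 LD2_c32 LD3_c44) (LK LD1_c10 LD2_c57 LD3_c14) Lrfl Lrfl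
theorem f174297 : Led Lsl_bt (LP (LK LD1_c2 LD2_c46 LD3_c58)) = (LP (LK LD1_c1 LD2_c19 LD3_c56)) :=
  Lre_b IH (LK LD1_c2 LD2_c46 LD3_c58) (LK LD1_c1 LD2_c19 LD3_c56) Lrfl Lrfl
theorem f174298 : Led Lsl_ct (LP (LK LD1_c5 LD2_c41 LD3_c55)) = (LP (LK LD1_c2 LD2_c46 LD3_c58)) :=
  Lre_c IH (LK LD1_c5 LD2_c41 LD3_c55) (LK LD1_c2 LD2_c46 LD3_c58) Lrfl Lrfl
theorem f174299 : Led Lsl_bt (LP (LK LD1_c10 LD2_c57 LD3_c14)) = (LP (LK LD1_c5 LD2_c41 LD3_c55)) :=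
  Lgr Lrot128 (Lpe (f174296 IH) (Lpe (f174293 IH) (Lpr_cf (f174286 IH) (Lpe (f174297 IH) (Lpe (f174298 IH) (Lpn (LP (LK LD1_c5 LD2_c41 LD3_c55))))))))
theorem f174314 : Led Lsl_et (LP (LK LD1_c5 LD2_c32 LD3_c43)) = (LP (LK LD1_c10 LD2_c57 LD3_c14)) :=
  Lre_e IH (LK LD1_c5 LD2_c32 LD3_c43) (LK LD1_c10 LD2_c57 LD3_c14) Lrfl Lrfl
theorem f174316 : Led Lsl_bf (LP (LK LD1_c5 LD2_c32 LD3_c43)) = (LP (LK LD1_c2 LD2_c46 LD3_c57)) :=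
  Lgr Lrot96 (Lpr_et (f174314 IH) (Lpr_bt (f174299 IH) (Lpr_et (K16.f174315 IH) (Lpn (LP (LK LD1_c2 LD2_c46 LD3_c57))))))
theorem f174324 : Led Lsl_at (LP (LK LD1_c5 LD2_c32 LD3_c43)) = (LP (LK LD1_c10 LD2_c57 LD3_c2)) :=
  Lre_a IH (LK LD1_c5 LD2_c32 LD3_c43) (LK LD1_c10 LD2_c57 LD3_c2) Lrfl Lrfl
theorem f174325 : Led Lsl_bt (LP (LK LD1_c10 LD2_c57 LD3_c2)) = (LP (LK LD1_c19 LD2_c46 LD3_c46)) :=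
  Lre_b IH (LK LD1_c10 LD2_c57 LD3_c2) (LK LD1_c19 LD2_c46 LD3_c46) Lrfl Lrfl
theorem f174326 : Led Lsl_at (LP (LK LD1_c5 LD2_c41 LD3_c33)) = (LP (LK LD1_c2 LD2_c46 LD3_c57)) :=
  Lre_a IH (LK LD1_c5 LD2_c41 LD3_c33) (LK LD1_c2 LD2_c46 LD3_c57) Lrfl Lrfl
theorem f174327 : Led Lsl_bt (LP (LK LD1_c11 LD2_c13 LD3_c15)) = (LP (LK LD1_c5 LD2_c41 LD3_c33)) :=
  Lre_b IH (LK LD1_c11 LD2_c13 LD3_c15) (LK LD1_c5 LD2_c41 LD3_c33) Lrfl Lrfl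
theorem f174328 : Led Lsl_at (LP (LK LD1_c19 LD2_c46 LD3_c46)) = (LP (LK LD1_c11 LD2_c13 LD3_c15)) :=
  Lgr Lrot67 (Lpe (f174325 IH) (Lpe (f174324 IH) (Lpr_bf (f174316 IH) (Lpe (f174326 IH) (Lpe (f174327 IH) (Lpn (LP (LK LD1_c11 LD2_c13 LD3_c15))))))))
theorem f174455 : Led Lsl_bt (LP (LK LD1_c4 LD2_c29 LD3_c59)) = (LP (LK LD1_c2 LD2_c11 LD3_c61)) :=
  Lre_b IH (LK LD1_c4 LD2_c29 LD3_c59) (LK LD1_c2 LD2_c11 LD3_c61) Lrfl Lrfl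
theorem f174456 : Led Lsl_ct (LP (LK LD1_c8 LD2_c58 LD3_c6)) = (LP (LK LD1_c4 LD2_c29 LD3_c59)) :=
  Lre_c IH (LK LD1_c8 LD2_c58 LD3_c6) (LK LD1_c4 LD2_c29 LD3_c59) Lrfl Lrfl
theorem f174453 : Led Lsl_bt (LP (LK LD1_c1 LD2_c3 LD3_c40)) = (LP (LK LD1_c2 LD2_c13 LD3_c10)) :=
  Lre_b IH (LK LD1_c1 LD2_c3 LD3_c40) (LK LD1_c2 LD2_c13 LD3_c10) Lrfl Lrfl
theorem f174457 : Led Lsl_ct (LP (LK LD1_c2 LD2_c13 LD3_c10)) = (LP (LK LD1_c4 LD2_c32 LD3_c14)) :=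
  Lre_c IH (LK LD1_c2 LD2_c13 LD3_c10) (LK LD1_c4 LD2_c32 LD3_c14) Lrfl Lrfl
theorem f174458 : Led Lsl_bf (LP (LK LD1_c8 LD2_c58 LD3_c6)) = (LP (LK LD1_c4 LD2_c32 LD3_c14)) :=
  Lgr Lrot90 (Lpr_ct (f174456 IH) (Lpr_bt (f174455 IH) (Lpr_ct (K12.f174445 IH) (Lpr_bt (f174453 IH) (Lpr_ct (f174457 IH) (Lpn (LP (LK LD1_c4 LD2_c32 LD3_c14))))))))
theorem f174461 : Led Lsl_at (LP (LK LD1_c8 LD2_c58 LD3_c6)) = (LP (LK LD1_c16 LD2_c47 LD3_c0)) :=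
  Lre_a IH (LK LD1_c8 LD2_c58 LD3_c6) (LK LD1_c16 LD2_c47 LD3_c0) Lrfl Lrfl
theorem f174462 : Led Lsl_bt (LP (LK LD1_c16 LD2_c47 LD3_c0)) = (LP (LK LD1_c26 LD2_c45 LD3_c30)) :=
  Lre_b IH (LK LD1_c16 LD2_c47 LD3_c0) (LK LD1_c26 LD2_c45 LD3_c30) Lrfl Lrfl
theorem f174463 : Led Lsl_at (LP (LK LD1_c9 LD2_c2 LD3_c1)) = (LP (LK LD1_c4 LD2_c32 LD3_c14)) :=
  Lre_a IH (LK LD1_c9 LD2_c2 LD3_c1) (LK LD1_c4 LD2_c32 LD3_c14) Lrfl Lrfl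
theorem f174464 : Led Lsl_bt (LP (LK LD1_c16 LD2_c52 LD3_c1)) = (LP (LK LD1_c9 LD2_c2 LD3_c1)) :=
  Lre_b IH (LK LD1_c16 LD2_c52 LD3_c1) (LK LD1_c9 LD2_c2 LD3_c1) Lrfl Lrfl
theorem f174465 : Led Lsl_at (LP (LK LD1_c26 LD2_c45 LD3_c30)) = (LP (LK LD1_c16 LD2_c52 LD3_c1)) :=
  Lgr Lrot67 (Lpe (f174462 IH) (Lpe (f174461 IH) (Lpr_bf (f174458 IH) (Lpe (f174463 IH) (Lpe (f174464 IH) (Lpn (LP (LK LD1_c16 LD2_c52 LD3_c1))))))))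
theorem f174496 : Led Lsl_af (LP (LK LD1_c26 LD2_c45 LD3_c30)) = (LP (LK LD1_c16 LD2_c52 LD3_c1)) :=
  Lgr Lrot0 (Lpr_at (f174465 IH) (Lpn (LP (LK LD1_c16 LD2_c52 LD3_c1))))
theorem f280625 : Led Lsl_cf (LP (LK LD1_c19 LD2_c46 LD3_c46)) = (LP (LK LD1_c26 LD2_c45 LD3_c30)) :=
  Lgr Lrot1 (Lpr_at (f174328 IH) (Lpr_ct (f280622 IH) (Lpe (f174496 IH) (Lpn (LP (LK LD1_c26 LD2_c45 LD3_c30))))))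
theorem f174368 : Led Lsl_bt (LP (LK LD1_c19 LD2_c46 LD3_c46)) = (LP (LK LD1_c10 LD2_c57 LD3_c2)) :=
  Lre_b IH (LK LD1_c19 LD2_c46 LD3_c46) (LK LD1_c10 LD2_c57 LD3_c2) Lrfl Lrfl
theorem f280638 : Led Lsl_ct (LP (LK LD1_c10 LD2_c57 LD3_c2)) = (LP (LK LD1_c5 LD2_c32 LD3_c39)) :=
  Lre_c IH (LK LD1_c10 LD2_c57 LD3_c2) (LK LD1_c5 LD2_c32 LD3_c39) Lrfl Lrfl
theorem f280639 : Led Lsl_ct (LP (LK LD1_c8 LD2_c58 LD3_c4)) = (LP (LK LD1_c16 LD2_c47 LD3_c0)) :=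
  Lre_c IH (LK LD1_c8 LD2_c58 LD3_c4) (LK LD1_c16 LD2_c47 LD3_c0) Lrfl Lrfl
theorem f280640 : Led Lsl_bt (LP (LK LD1_c5 LD2_c32 LD3_c39)) = (LP (LK LD1_c8 LD2_c58 LD3_c4)) :=
  Lgr Lrot128 (Lpe (f280638 IH) (Lpe (f174368 IH) (Lpr_cf (f280625 IH) (Lpe (f174462 IH) (Lpe (f280639 IH) (Lpn (LP (LK LD1_c8 LD2_c58 LD3_c4))))))))
theorem f280648 : Led Lsl_dt (LP (LK LD1_c2 LD2_c42 LD3_c29)) = (LP (LK LD1_c5 LD2_c32 LD3_c39)) :=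
  Lre_d IH (LK LD1_c2 LD2_c42 LD3_c29) (LK LD1_c5 LD2_c32 LD3_c39) Lrfl Lrfl
theorem f280649 : Led Lsl_dt (LP (LK LD1_c8 LD2_c58 LD3_c4)) = (LP (LK LD1_c4 LD2_c29 LD3_c58)) :=
  Lre_d IH (LK LD1_c8 LD2_c58 LD3_c4) (LK LD1_c4 LD2_c29 LD3_c58) Lrfl Lrfl
theorem f280650 : Led Lsl_bf (LP (LK LD1_c2 LD2_c42 LD3_c29)) = (LP (LK LD1_c4 LD2_c29 LD3_c58)) :=
  Lgr Lrot93 (Lpr_dt (f280648 IH) (Lpr_bt (f280640 IH) (Lpr_dt (f280649 IH) (Lpn (LP (LK LD1_c4 LD2_c29 LD3_c58))))))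
theorem f280662 : Led Lsl_et (LP (LK LD1_c2 LD2_c42 LD3_c29)) = (LP (LK LD1_c5 LD2_c32 LD3_c40)) :=
  Lre_e IH (LK LD1_c2 LD2_c42 LD3_c29) (LK LD1_c5 LD2_c32 LD3_c40) Lrfl Lrfl
theorem f280663 : Led Lsl_et (LP (LK LD1_c8 LD2_c58 LD3_c5)) = (LP (LK LD1_c4 LD2_c29 LD3_c58)) :=
  Lre_e IH (LK LD1_c8 LD2_c58 LD3_c5) (LK LD1_c4 LD2_c29 LD3_c58) Lrfl Lrfl
theorem f280664 : Led Lsl_bt (LP (LK LD1_c5 LD2_c32 LD3_c40)) = (LP (LK LD1_c8 LD2_c58 LD3_c5)) :=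
  Lgr Lrot119 (Lpe (f280662 IH) (Lpr_bf (f280650 IH) (Lpe (f280663 IH) (Lpn (LP (LK LD1_c8 LD2_c58 LD3_c5))))))
theorem f280672 : Led Lsl_bf (LP (LK LD1_c5 LD2_c32 LD3_c40)) = (LP (LK LD1_c8 LD2_c58 LD3_c5)) :=
  Lgr Lrot24 (Lpr_bt (f280664 IH) (Lpn (LP (LK LD1_c8 LD2_c58 LD3_c5))))
theorem f261737 : Led Lsl_ct (LP (LK LD1_c5 LD2_c32 LD3_c40)) = (LP (LK LD1_c10 LD2_c56 LD3_c17)) :=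
  Lre_c IH (LK LD1_c5 LD2_c32 LD3_c40) (LK LD1_c10 LD2_c56 LD3_c17) Lrfl Lrfl
theorem f261736 : Led Lsl_bt (LP (LK LD1_c10 LD2_c56 LD3_c17)) = (LP (LK LD1_c19 LD2_c44 LD3_c25)) :=
  Lre_b IH (LK LD1_c10 LD2_c56 LD3_c17) (LK LD1_c19 LD2_c44 LD3_c25) Lrfl Lrfl
theorem f261608 : Led Lsl_ct (LP (LK LD1_c8 LD2_c6 LD3_c10)) = (LP (LK LD1_c4 LD2_c2 LD3_c50)) :=
  Lre_c IH (LK LD1_c8 LD2_c6 LD3_c10) (LK LD1_c4 LD2_c2 LD3_c50) Lrfl Lrfl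
theorem f261609 : Led Lsl_bt (LP (LK LD1_c15 LD2_c15 LD3_c15)) = (LP (LK LD1_c8 LD2_c6 LD3_c10)) :=
  Lre_b IH (LK LD1_c15 LD2_c15 LD3_c15) (LK LD1_c8 LD2_c6 LD3_c10) Lrfl Lrfl
theorem f261610 : Led Lsl_ct (LP (LK LD1_c2 LD2_c41 LD3_c48)) = (LP (LK LD1_c5 LD2_c31 LD3_c0)) :=
  Lre_c IH (LK LD1_c2 LD2_c41 LD3_c48) (LK LD1_c5 LD2_c31 LD3_c0) Lrfl Lrfl
theorem f261611 : Led Lsl_bt (LP (LK LD1_c5 LD2_c31 LD3_c0)) = (LP (LK LD1_c10 LD2_c53 LD3_c29)) :=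
  Lre_b IH (LK LD1_c5 LD2_c31 LD3_c0) (LK LD1_c10 LD2_c53 LD3_c29) Lrfl Lrfl
theorem f261612 : Led Lsl_cf (LP (LK LD1_c15 LD2_c15 LD3_c15)) = (LP (LK LD1_c10 LD2_c53 LD3_c29)) :=
  Lgr Lrot97 (Lpr_bt (f261609 IH) (Lpr_ct (f261608 IH) (Lpr_bt (K15.f261601 IH) (Lpr_ct (f261610 IH) (Lpr_bt (f261611 IH) (Lpn (LP (LK LD1_c10 LD2_c53 LD3_c29))))))))
theorem f261636 : Led Lsl_ct (LP (LK LD1_c15 LD2_c15 LD3_c15)) = (LP (LK LD1_c10 LD2_c53 LD3_c29)) :=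
  Lgr Lrot59 (Lpr_cf (f261612 IH) (Lpn (LP (LK LD1_c10 LD2_c53 LD3_c29))))
theorem f213378 : Led Lsl_et (LP (LK LD1_c8 LD2_c6 LD3_c8)) = (LP (LK LD1_c15 LD2_c15 LD3_c15)) :=
  Lre_e IH (LK LD1_c8 LD2_c6 LD3_c8) (LK LD1_c15 LD2_c15 LD3_c15) Lrfl Lrfl
theorem f221363 : Led Lsl_et (LP (LK LD1_c10 LD2_c53 LD3_c29)) = (LP (LK LD1_c5 LD2_c30 LD3_c60)) :=
  Lre_e IH (LK LD1_c10 LD2_c53 LD3_c29) (LK LD1_c5 LD2_c30 LD3_c60) Lrfl Lrfl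
theorem f261652 : Led Lsl_cf (LP (LK LD1_c8 LD2_c6 LD3_c8)) = (LP (LK LD1_c5 LD2_c30 LD3_c60)) :=
  Lgr Lrot39 (Lpr_et (f213378 IH) (Lpr_ct (f261636 IH) (Lpr_et (f221363 IH) (Lpn (LP (LK LD1_c5 LD2_c30 LD3_c60))))))
theorem f213228 : Led Lsl_bt (LP (LK LD1_c4 LD2_c2 LD3_c48)) = (LP (LK LD1_c8 LD2_c6 LD3_c8)) :=
  Lre_b IH (LK LD1_c4 LD2_c2 LD3_c48) (LK LD1_c8 LD2_c6 LD3_c8) Lrfl Lrfl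
theorem f213229 : Led Lsl_bt (LP (LK LD1_c5 LD2_c32 LD3_c8)) = (LP (LK LD1_c2 LD2_c42 LD3_c17)) :=
  Lre_b IH (LK LD1_c5 LD2_c32 LD3_c8) (LK LD1_c2 LD2_c42 LD3_c17) Lrfl Lrfl
theorem f213230 : Led Lsl_ft (LP (LK LD1_c8 LD2_c6 LD3_c8)) = (LP (LK LD1_c5 LD2_c32 LD3_c8)) :=
  Lgr Lrot75 (Lpe (f213228 IH) (Lpr_ff (K12.f213169 IH) (Lpe (f213229 IH) (Lpn (LP (LK LD1_c5 LD2_c32 LD3_c8))))))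
theorem f221327 : Led Lsl_bt (LP (LK LD1_c4 LD2_c14 LD3_c14)) = (LP (LK LD1_c8 LD2_c27 LD3_c2)) :=
  Lre_b IH (LK LD1_c4 LD2_c14 LD3_c14) (LK LD1_c8 LD2_c27 LD3_c2) Lrfl Lrfl
theorem f221328 : Led Lsl_bt (LP (LK LD1_c5 LD2_c30 LD3_c60)) = (LP (LK LD1_c2 LD2_c41 LD3_c46)) :=
  Lre_b IH (LK LD1_c5 LD2_c30 LD3_c60) (LK LD1_c2 LD2_c41 LD3_c46) Lrfl Lrfl
theorem f221329 : Led Lsl_ft (LP (LK LD1_c8 LD2_c27 LD3_c2)) = (LP (LK LD1_c5 LD2_c30 LD3_c60)) :=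
  Lgr Lrot75 (Lpe (f221327 IH) (Lpr_ff (K16.f221324 IH) (Lpe (f221328 IH) (Lpn (LP (LK LD1_c5 LD2_c30 LD3_c60))))))
theorem f261658 : Led Lsl_ct (LP (LK LD1_c5 LD2_c32 LD3_c8)) = (LP (LK LD1_c8 LD2_c27 LD3_c2)) :=
  Lgr Lrot40 (Lpe (f213230 IH) (Lpr_cf (f261652 IH) (Lpe (f221329 IH) (Lpn (LP (LK LD1_c8 LD2_c27 LD3_c2))))))
theorem f213379 : Led Lsl_et (LP (LK LD1_c10 LD2_c55 LD3_c59)) = (LP (LK LD1_c5 LD2_c32 LD3_c8)) :=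
  Lre_e IH (LK LD1_c10 LD2_c55 LD3_c59) (LK LD1_c5 LD2_c32 LD3_c8) Lrfl Lrfl
theorem f221362 : Led Lsl_et (LP (LK LD1_c8 LD2_c27 LD3_c2)) = (LP (LK LD1_c15 LD2_c52 LD3_c0)) :=
  Lre_e IH (LK LD1_c8 LD2_c27 LD3_c2) (LK LD1_c15 LD2_c52 LD3_c0) Lrfl Lrfl
theorem f261670 : Led Lsl_cf (LP (LK LD1_c10 LD2_c55 LD3_c59)) = (LP (LK LD1_c15 LD2_c52 LD3_c0)) :=
  Lgr Lrot39 (Lpr_et (f213379 IH) (Lpr_ct (f261658 IH) (Lpr_et (f221362 IH) (Lpn (LP (LK LD1_c15 LD2_c52 LD3_c0))))))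
theorem f261691 : Led Lsl_at (LP (LK LD1_c10 LD2_c55 LD3_c59)) = (LP (LK LD1_c19 LD2_c44 LD3_c25)) :=
  Lre_a IH (LK LD1_c10 LD2_c55 LD3_c59) (LK LD1_c19 LD2_c44 LD3_c25) Lrfl Lrfl
theorem f261692 : Led Lsl_at (LP (LK LD1_c25 LD2_c47 LD3_c43)) = (LP (LK LD1_c15 LD2_c52 LD3_c0)) :=
  Lre_a IH (LK LD1_c25 LD2_c47 LD3_c43) (LK LD1_c15 LD2_c52 LD3_c0) Lrfl Lrfl
theorem f261693 : Led Lsl_ct (LP (LK LD1_c19 LD2_c44 LD3_c25)) = (LP (LK LD1_c25 LD2_c47 LD3_c43)) :=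
  Lgr Lrot111 (Lpe (f261691 IH) (Lpr_cf (f261670 IH) (Lpe (f261692 IH) (Lpn (LP (LK LD1_c25 LD2_c47 LD3_c43))))))
theorem f280682 : Led Lsl_ct (LP (LK LD1_c16 LD2_c46 LD3_c33)) = (LP (LK LD1_c8 LD2_c58 LD3_c5)) :=
  Lre_c IH (LK LD1_c16 LD2_c46 LD3_c33) (LK LD1_c8 LD2_c58 LD3_c5) Lrfl Lrfl
theorem f280683 : Led Lsl_bt (LP (LK LD1_c25 LD2_c47 LD3_c43)) = (LP (LK LD1_c16 LD2_c46 LD3_c33)) :=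
  Lgr Lrot128 (Lpe (f261693 IH) (Lpe (f261736 IH) (Lpe (f261737 IH) (Lpr_bf (f280672 IH) (Lpe (f280682 IH) (Lpn (LP (LK LD1_c16 LD2_c46 LD3_c33))))))))
theorem f221401 : Led Lsl_et (LP (LK LD1_c15 LD2_c51 LD3_c60)) = (LP (LK LD1_c25 LD2_c47 LD3_c43)) :=
  Lre_e IH (LK LD1_c15 LD2_c51 LD3_c60) (LK LD1_c25 LD2_c47 LD3_c43) Lrfl Lrfl
theorem f280694 : Led Lsl_et (LP (LK LD1_c16 LD2_c46 LD3_c33)) = (LP (LK LD1_c8 LD2_c57 LD3_c50)) :=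
  Lre_e IH (LK LD1_c16 LD2_c46 LD3_c33) (LK LD1_c8 LD2_c57 LD3_c50) Lrfl Lrfl
theorem f280695 : Led Lsl_bf (LP (LK LD1_c15 LD2_c51 LD3_c60)) = (LP (LK LD1_c8 LD2_c57 LD3_c50)) :=
  Lgr Lrot96 (Lpr_et (f221401 IH) (Lpr_bt (f280683 IH) (Lpr_et (f280694 IH) (Lpn (LP (LK LD1_c8 LD2_c57 LD3_c50))))))
theorem f221389 : Led Lsl_at (LP (LK LD1_c15 LD2_c51 LD3_c60)) = (LP (LK LD1_c8 LD2_c27 LD3_c2)) :=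
  Lre_a IH (LK LD1_c15 LD2_c51 LD3_c60) (LK LD1_c8 LD2_c27 LD3_c2) Lrfl Lrfl
theorem f221390 : Led Lsl_at (LP (LK LD1_c5 LD2_c30 LD3_c60)) = (LP (LK LD1_c10 LD2_c53 LD3_c27)) :=
  Lre_a IH (LK LD1_c5 LD2_c30 LD3_c60) (LK LD1_c10 LD2_c53 LD3_c27) Lrfl Lrfl
theorem f221391 : Led Lsl_ff (LP (LK LD1_c15 LD2_c51 LD3_c60)) = (LP (LK LD1_c10 LD2_c53 LD3_c27)) :=
  Lgr Lrot30 (Lpr_at (f221389 IH) (Lpr_ft (f221329 IH) (Lpr_at (f221390 IH) (Lpn (LP (LK LD1_c10 LD2_c53 LD3_c27))))))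
theorem f221402 : Led Lsl_ft (LP (LK LD1_c15 LD2_c51 LD3_c60)) = (LP (LK LD1_c10 LD2_c53 LD3_c27)) :=
  Lgr Lrot48 (Lpr_ff (f221391 IH) (Lpn (LP (LK LD1_c10 LD2_c53 LD3_c27))))
theorem f221413 : Led Lsl_bt (LP (LK LD1_c10 LD2_c53 LD3_c27)) = (LP (LK LD1_c5 LD2_c31 LD3_c8)) :=
  Lre_b IH (LK LD1_c10 LD2_c53 LD3_c27) (LK LD1_c5 LD2_c31 LD3_c8) Lrfl Lrfl
theorem f280698 : Led Lsl_ft (LP (LK LD1_c5 LD2_c31 LD3_c8)) = (LP (LK LD1_c8 LD2_c57 LD3_c50)) :=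
  Lgr Lrot75 (Lpe (f221413 IH) (Lpe (f221402 IH) (Lpr_bf (f280695 IH) (Lpn (LP (LK LD1_c8 LD2_c57 LD3_c50))))))
theorem f280712 : Led Lsl_ff (LP (LK LD1_c5 LD2_c31 LD3_c8)) = (LP (LK LD1_c8 LD2_c57 LD3_c50)) :=
  Lgr Lrot3 (Lpr_ft (f280698 IH) (Lpn (LP (LK LD1_c8 LD2_c57 LD3_c50))))
theorem f221398 : Led Lsl_ct (LP (LK LD1_c5 LD2_c31 LD3_c8)) = (LP (LK LD1_c2 LD2_c42 LD3_c0)) :=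
  Lre_c IH (LK LD1_c5 LD2_c31 LD3_c8) (LK LD1_c2 LD2_c42 LD3_c0) Lrfl Lrfl
theorem f280667 : Led Lsl_ct (LP (LK LD1_c4 LD2_c29 LD3_c58)) = (LP (LK LD1_c8 LD2_c57 LD3_c50)) :=
  Lre_c IH (LK LD1_c4 LD2_c29 LD3_c58) (LK LD1_c8 LD2_c57 LD3_c50) Lrfl Lrfl
theorem f280722 : Led Lsl_ft (LP (LK LD1_c2 LD2_c42 LD3_c0)) = (LP (LK LD1_c4 LD2_c29 LD3_c58)) :=
  Lgr Lrot4 (Lpe (f221398 IH) (Lpr_ff (f280712 IH) (Lpe (f280667 IH) (Lpn (LP (LK LD1_c4 LD2_c29 LD3_c58))))))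
theorem f280819 : Led Lsl_at (LP (LK LD1_c4 LD2_c29 LD3_c58)) = (LP (LK LD1_c2 LD2_c11 LD3_c60)) :=
  Lre_a IH (LK LD1_c4 LD2_c29 LD3_c58) (LK LD1_c2 LD2_c11 LD3_c60) Lrfl Lrfl
theorem f174507 : Led Lsl_gt (LP (LK LD1_c4 LD2_c29 LD3_c57)) = (LP (LK LD1_c2 LD2_c11 LD3_c60)) :=
  Lre_g IH (LK LD1_c4 LD2_c29 LD3_c57) (LK LD1_c2 LD2_c11 LD3_c60) Lrfl Lrfl
theorem f281621 : Led Lsl_gt (LP (LK LD1_c2 LD2_c42 LD3_c0)) = (LP (LK LD1_c4 LD2_c29 LD3_c57)) :=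
  Lgr Lrot5 (Lpr_ft (f280722 IH) (Lpr_at (f280819 IH) (Lpe (f174507 IH) (Lpn (LP (LK LD1_c4 LD2_c29 LD3_c57))))))
theorem f280719 : Led Lsl_at (LP (LK LD1_c5 LD2_c31 LD3_c8)) = (LP (LK LD1_c2 LD2_c41 LD3_c50)) :=
  Lre_a IH (LK LD1_c5 LD2_c31 LD3_c8) (LK LD1_c2 LD2_c41 LD3_c50) Lrfl Lrfl
theorem f173047 : Led Lsl_ct (LP (LK LD1_c1 LD2_c17 LD3_c38)) = (LP (LK LD1_c2 LD2_c41 LD3_c50)) :=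
  Lre_c IH (LK LD1_c1 LD2_c17 LD3_c38) (LK LD1_c2 LD2_c41 LD3_c50) Lrfl Lrfl
theorem f221289 : Led Lsl_dt (LP (LK LD1_c2 LD2_c42 LD3_c1)) = (LP (LK LD1_c1 LD2_c17 LD3_c38)) :=
  Lre_d IH (LK LD1_c2 LD2_c42 LD3_c1) (LK LD1_c1 LD2_c17 LD3_c38) Lrfl Lrfl
theorem f178895 : Led Lsl_ct (LP (LK LD1_c5 LD2_c31 LD3_c42)) = (LP (LK LD1_c2 LD2_c42 LD3_c1)) :=
  Lre_c IH (LK LD1_c5 LD2_c31 LD3_c42) (LK LD1_c2 LD2_c42 LD3_c1) Lrfl Lrfl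
theorem f178896 : Led Lsl_dt (LP (LK LD1_c10 LD2_c55 LD3_c11)) = (LP (LK LD1_c5 LD2_c31 LD3_c42)) :=
  Lre_d IH (LK LD1_c10 LD2_c55 LD3_c11) (LK LD1_c5 LD2_c31 LD3_c42) Lrfl Lrfl
theorem f280730 : Led Lsl_ct (LP (LK LD1_c19 LD2_c43 LD3_c38)) = (LP (LK LD1_c10 LD2_c55 LD3_c11)) :=
  Lre_c IH (LK LD1_c19 LD2_c43 LD3_c38) (LK LD1_c10 LD2_c55 LD3_c11) Lrfl Lrfl
theorem f280706 : Led Lsl_dt (LP (LK LD1_c8 LD2_c57 LD3_c50)) = (LP (LK LD1_c16 LD2_c46 LD3_c32)) :=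
  Lre_d IH (LK LD1_c8 LD2_c57 LD3_c50) (LK LD1_c16 LD2_c46 LD3_c32) Lrfl Lrfl
theorem f280731 : Led Lsl_ct (LP (LK LD1_c16 LD2_c46 LD3_c32)) = (LP (LK LD1_c26 LD2_c44 LD3_c61)) :=
  Lre_c IH (LK LD1_c16 LD2_c46 LD3_c32) (LK LD1_c26 LD2_c44 LD3_c61) Lrfl Lrfl
theorem f280732 : Led Lsl_df (LP (LK LD1_c19 LD2_c43 LD3_c38)) = (LP (LK LD1_c26 LD2_c44 LD3_c61)) :=
  Lgr Lrot106 (Lpr_ct (f280730 IH) (Lpr_dt (f178896 IH) (Lpr_ct (f178895 IH) (Lpr_dt (f221289 IH) (Lpr_ct (f173047 IH) (Lpe (f280719 IH) (Lpr_ff (f280712 IH) (Lpr_dt (f280706 IH) (Lpr_ct (f280731 IH) (Lpn (LP (LK LD1_c26 LD2_c44 LD3_c61))))))))))))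
theorem f224506 : Led Lsl_dt (LP (LK LD1_c2 LD2_c41 LD3_c50)) = (LP (LK LD1_c5 LD2_c31 LD3_c9)) :=
  Lre_d IH (LK LD1_c2 LD2_c41 LD3_c50) (LK LD1_c5 LD2_c31 LD3_c9) Lrfl Lrfl
theorem f225233 : Led Lsl_ct (LP (LK LD1_c5 LD2_c31 LD3_c9)) = (LP (LK LD1_c10 LD2_c53 LD3_c52)) :=
  Lre_c IH (LK LD1_c5 LD2_c31 LD3_c9) (LK LD1_c10 LD2_c53 LD3_c52) Lrfl Lrfl
theorem f280749 : Led Lsl_at (LP (LK LD1_c19 LD2_c41 LD3_c30)) = (LP (LK LD1_c10 LD2_c53 LD3_c52)) :=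
  Lre_a IH (LK LD1_c19 LD2_c41 LD3_c30) (LK LD1_c10 LD2_c53 LD3_c52) Lrfl Lrfl
theorem f280750 : Led Lsl_ff (LP (LK LD1_c19 LD2_c41 LD3_c30)) = (LP (LK LD1_c26 LD2_c44 LD3_c61)) :=
  Lgr Lrot103 (Lpr_at (f280749 IH) (Lpe (f225233 IH) (Lpe (f224506 IH) (Lpe (f173047 IH) (Lpe (f221289 IH) (Lpe (f178895 IH) (Lpe (f178896 IH) (Lpe (f280730 IH) (Lpr_df (f280732 IH) (Lpn (LP (LK LD1_c26 LD2_c44 LD3_c61))))))))))))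
theorem f280758 : Led Lsl_ft (LP (LK LD1_c19 LD2_c41 LD3_c30)) = (LP (LK LD1_c26 LD2_c44 LD3_c61)) :=
  Lgr Lrot48 (Lpr_ff (f280750 IH) (Lpn (LP (LK LD1_c26 LD2_c44 LD3_c61))))
theorem f280766 : Led Lsl_at (LP (LK LD1_c10 LD2_c53 LD3_c52)) = (LP (LK LD1_c19 LD2_c41 LD3_c30)) :=
  Lre_a IH (LK LD1_c10 LD2_c53 LD3_c52) (LK LD1_c19 LD2_c41 LD3_c30) Lrfl Lrfl
theorem f280767 : Led Lsl_at (LP (LK LD1_c26 LD2_c44 LD3_c61)) = (LP (LK LD1_c16 LD2_c46 LD3_c34)) :=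
  Lre_a IH (LK LD1_c26 LD2_c44 LD3_c61) (LK LD1_c16 LD2_c46 LD3_c34) Lrfl Lrfl
theorem f280768 : Led Lsl_ff (LP (LK LD1_c10 LD2_c53 LD3_c52)) = (LP (LK LD1_c16 LD2_c46 LD3_c34)) :=
  Lgr Lrot30 (Lpr_at (f280766 IH) (Lpr_ft (f280758 IH) (Lpr_at (f280767 IH) (Lpn (LP (LK LD1_c16 LD2_c46 LD3_c34))))))
theorem f280717 : Led Lsl_ct (LP (LK LD1_c10 LD2_c53 LD3_c48)) = (LP (LK LD1_c19 LD2_c41 LD3_c30)) :=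
  Lre_c IH (LK LD1_c10 LD2_c53 LD3_c48) (LK LD1_c19 LD2_c41 LD3_c30) Lrfl Lrfl
theorem f280716 : Led Lsl_dt (LP (LK LD1_c5 LD2_c31 LD3_c8)) = (LP (LK LD1_c10 LD2_c53 LD3_c48)) :=
  Lre_d IH (LK LD1_c5 LD2_c31 LD3_c8) (LK LD1_c10 LD2_c53 LD3_c48) Lrfl Lrfl
theorem f221407 : Led Lsl_ct (LP (LK LD1_c2 LD2_c42 LD3_c0)) = (LP (LK LD1_c5 LD2_c31 LD3_c8)) :=
  Lre_c IH (LK LD1_c2 LD2_c42 LD3_c0) (LK LD1_c5 LD2_c31 LD3_c8) Lrfl Lrfl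
theorem f221408 : Led Lsl_dt (LP (LK LD1_c5 LD2_c31 LD3_c38)) = (LP (LK LD1_c2 LD2_c42 LD3_c0)) :=
  Lre_d IH (LK LD1_c5 LD2_c31 LD3_c38) (LK LD1_c2 LD2_c42 LD3_c0) Lrfl Lrfl
theorem f280774 : Led Lsl_ct (LP (LK LD1_c10 LD2_c54 LD3_c59)) = (LP (LK LD1_c5 LD2_c31 LD3_c38)) :=
  Lre_c IH (LK LD1_c10 LD2_c54 LD3_c59) (LK LD1_c5 LD2_c31 LD3_c38) Lrfl Lrfl
theorem f280775 : Led Lsl_dt (LP (LK LD1_c19 LD2_c43 LD3_c6)) = (LP (LK LD1_c10 LD2_c54 LD3_c59)) :=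
  Lre_d IH (LK LD1_c19 LD2_c43 LD3_c6) (LK LD1_c10 LD2_c54 LD3_c59) Lrfl Lrfl
theorem f280776 : Led Lsl_dt (LP (LK LD1_c16 LD2_c46 LD3_c34)) = (LP (LK LD1_c26 LD2_c45 LD3_c1)) :=
  Lre_d IH (LK LD1_c16 LD2_c46 LD3_c34) (LK LD1_c26 LD2_c45 LD3_c1) Lrfl Lrfl
theorem f280777 : Led Lsl_cf (LP (LK LD1_c19 LD2_c43 LD3_c6)) = (LP (LK LD1_c26 LD2_c45 LD3_c1)) :=
  Lgr Lrot118 (Lpr_dt (f280775 IH) (Lpr_ct (f280774 IH) (Lpr_dt (f221408 IH) (Lpr_ct (f221407 IH) (Lpr_dt (f280716 IH) (Lpr_ct (f280717 IH) (Lpe (f280766 IH) (Lpr_ff (f280768 IH) (Lpr_dt (f280776 IH) (Lpn (LP (LK LD1_c26 LD2_c45 LD3_c1))))))))))))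
theorem f280786 : Led Lsl_at (LP (LK LD1_c2 LD2_c42 LD3_c1)) = (LP (LK LD1_c5 LD2_c31 LD3_c38)) :=
  Lre_a IH (LK LD1_c2 LD2_c42 LD3_c1) (LK LD1_c5 LD2_c31 LD3_c38) Lrfl Lrfl
theorem f262875 : Led Lsl_ct (LP (LK LD1_c8 LD2_c57 LD3_c51)) = (LP (LK LD1_c16 LD2_c46 LD3_c34)) :=
  Lre_c IH (LK LD1_c8 LD2_c57 LD3_c51) (LK LD1_c16 LD2_c46 LD3_c34) Lrfl Lrfl
theorem f280770 : Led Lsl_dt (LP (LK LD1_c4 LD2_c29 LD3_c50)) = (LP (LK LD1_c8 LD2_c57 LD3_c51)) :=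
  Lre_d IH (LK LD1_c4 LD2_c29 LD3_c50) (LK LD1_c8 LD2_c57 LD3_c51) Lrfl Lrfl
theorem f169286 : Led Lsl_ct (LP (LK LD1_c2 LD2_c11 LD3_c60)) = (LP (LK LD1_c4 LD2_c29 LD3_c50)) :=
  Lre_c IH (LK LD1_c2 LD2_c11 LD3_c60) (LK LD1_c4 LD2_c29 LD3_c50) Lrfl Lrfl
theorem f217963 : Led Lsl_dt (LP (LK LD1_c4 LD2_c29 LD3_c59)) = (LP (LK LD1_c2 LD2_c11 LD3_c60)) :=
  Lre_d IH (LK LD1_c4 LD2_c29 LD3_c59) (LK LD1_c2 LD2_c11 LD3_c60) Lrfl Lrfl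
theorem f280787 : Led Lsl_ff (LP (LK LD1_c2 LD2_c42 LD3_c1)) = (LP (LK LD1_c4 LD2_c29 LD3_c59)) :=
  Lgr Lrot103 (Lpr_at (f280786 IH) (Lpe (f280774 IH) (Lpe (f280775 IH) (Lpr_cf (f280777 IH) (Lpe (f280776 IH) (Lpe (f262875 IH) (Lpe (f280770 IH) (Lpe (f169286 IH) (Lpe (f217963 IH) (Lpn (LP (LK LD1_c4 LD2_c29 LD3_c59))))))))))))
theorem f280801 : Led Lsl_ft (LP (LK LD1_c2 LD2_c42 LD3_c1)) = (LP (LK LD1_c4 LD2_c29 LD3_c59)) :=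
  Lgr Lrot48 (Lpr_ff (f280787 IH) (Lpn (LP (LK LD1_c4 LD2_c29 LD3_c59))))
theorem f174440 : Led Lsl_ct (LP (LK LD1_c4 LD2_c29 LD3_c59)) = (LP (LK LD1_c8 LD2_c58 LD3_c6)) :=
  Lre_c IH (LK LD1_c4 LD2_c29 LD3_c59) (LK LD1_c8 LD2_c58 LD3_c6) Lrfl Lrfl
theorem f280804 : Led Lsl_ff (LP (LK LD1_c5 LD2_c31 LD3_c42)) = (LP (LK LD1_c8 LD2_c58 LD3_c6)) :=
  Lgr Lrot23 (Lpr_ct (f178895 IH) (Lpr_ft (f280801 IH) (Lpr_ct (f174440 IH) (Lpn (LP (LK LD1_c8 LD2_c58 LD3_c6))))))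
theorem f280752 : Led Lsl_dt (LP (LK LD1_c5 LD2_c31 LD3_c42)) = (LP (LK LD1_c10 LD2_c55 LD3_c11)) :=
  Lre_d IH (LK LD1_c5 LD2_c31 LD3_c42) (LK LD1_c10 LD2_c55 LD3_c11) Lrfl Lrfl
theorem f174493 : Led Lsl_dt (LP (LK LD1_c16 LD2_c47 LD3_c3)) = (LP (LK LD1_c8 LD2_c58 LD3_c6)) :=
  Lre_d IH (LK LD1_c16 LD2_c47 LD3_c3) (LK LD1_c8 LD2_c58 LD3_c6) Lrfl Lrfl
theorem f280838 : Led Lsl_ft (LP (LK LD1_c10 LD2_c55 LD3_c11)) = (LP (LK LD1_c16 LD2_c47 LD3_c3)) :=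
  Lgr Lrot54 (Lpe (f280752 IH) (Lpr_ff (f280804 IH) (Lpe (f174493 IH) (Lpn (LP (LK LD1_c16 LD2_c47 LD3_c3))))))
theorem f174467 : Led Lsl_dt (LP (LK LD1_c8 LD2_c58 LD3_c6)) = (LP (LK LD1_c16 LD2_c47 LD3_c3)) :=
  Lre_d IH (LK LD1_c8 LD2_c58 LD3_c6) (LK LD1_c16 LD2_c47 LD3_c3) Lrfl Lrfl
theorem f174468 : Led Lsl_dt (LP (LK LD1_c9 LD2_c2 LD3_c7)) = (LP (LK LD1_c4 LD2_c32 LD3_c14)) :=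
  Lre_d IH (LK LD1_c9 LD2_c2 LD3_c7) (LK LD1_c4 LD2_c32 LD3_c14) Lrfl Lrfl
theorem f174469 : Led Lsl_bt (LP (LK LD1_c16 LD2_c47 LD3_c3)) = (LP (LK LD1_c9 LD2_c2 LD3_c7)) :=
  Lgr Lrot95 (Lpe (f174467 IH) (Lpr_bf (f174458 IH) (Lpe (f174468 IH) (Lpn (LP (LK LD1_c9 LD2_c2 LD3_c7))))))
theorem f174234 : Led Lsl_dt (LP (LK LD1_c5 LD2_c42 LD3_c55)) = (LP (LK LD1_c2 LD2_c47 LD3_c25)) :=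
  Lre_d IH (LK LD1_c5 LD2_c42 LD3_c55) (LK LD1_c2 LD2_c47 LD3_c25) Lrfl Lrfl
theorem f174494 : Led Lsl_dt (LP (LK LD1_c4 LD2_c32 LD3_c14)) = (LP (LK LD1_c9 LD2_c2 LD3_c7)) :=
  Lre_d IH (LK LD1_c4 LD2_c32 LD3_c14) (LK LD1_c9 LD2_c2 LD3_c7) Lrfl Lrfl
theorem f280358 : Led Lsl_ff (LP (LK LD1_c5 LD2_c42 LD3_c55)) = (LP (LK LD1_c9 LD2_c2 LD3_c7)) :=
  Lgr Lrot19 (Lpr_dt (f174234 IH) (Lpr_ft (K16.f280352 IH) (Lpr_dt (f174494 IH) (Lpn (LP (LK LD1_c9 LD2_c2 LD3_c7))))))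
theorem f280847 : Led Lsl_bf (LP (LK LD1_c10 LD2_c55 LD3_c11)) = (LP (LK LD1_c5 LD2_c42 LD3_c55)) :=
  Lgr Lrot61 (Lpr_ft (f280838 IH) (Lpr_bt (f174469 IH) (Lpe (f280358 IH) (Lpn (LP (LK LD1_c5 LD2_c42 LD3_c55))))))
theorem f280853 : Led Lsl_bt (LP (LK LD1_c10 LD2_c55 LD3_c11)) = (LP (LK LD1_c5 LD2_c42 LD3_c55)) :=
  Lgr Lrot127 (Lpr_bf (f280847 IH) (Lpn (LP (LK LD1_c5 LD2_c42 LD3_c55))))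
theorem f280879 : Led Lsl_bf (LP (LK LD1_c5 LD2_c31 LD3_c42)) = (LP (LK LD1_c2 LD2_c47 LD3_c25)) :=
  Lgr Lrot93 (Lpr_dt (f280752 IH) (Lpr_bt (f280853 IH) (Lpr_dt (f174234 IH) (Lpn (LP (LK LD1_c2 LD2_c47 LD3_c25))))))
theorem f280840 : Led Lsl_et (LP (LK LD1_c5 LD2_c31 LD3_c42)) = (LP (LK LD1_c10 LD2_c55 LD3_c12)) :=
  Lre_e IH (LK LD1_c5 LD2_c31 LD3_c42) (LK LD1_c10 LD2_c55 LD3_c12) Lrfl Lrfl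
theorem f280884 : Led Lsl_bt (LP (LK LD1_c10 LD2_c55 LD3_c12)) = (LP (LK LD1_c5 LD2_c42 LD3_c56)) :=
  Lgr Lrot119 (Lpe (f280840 IH) (Lpr_bf (f280879 IH) (Lpe (K16.f280350 IH) (Lpn (LP (LK LD1_c5 LD2_c42 LD3_c56))))))
theorem f280908 : Led Lsl_ft (LP (LK LD1_c19 LD2_c43 LD3_c40)) = (LP (LK LD1_c10 LD2_c55 LD3_c12)) :=
  Lre_f IH (LK LD1_c19 LD2_c43 LD3_c40) (LK LD1_c10 LD2_c55 LD3_c12) Lrfl Lrfl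
theorem f280909 : Led Lsl_ft (LP (LK LD1_c5 LD2_c42 LD3_c56)) = (LP (LK LD1_c11 LD2_c16 LD3_c9)) :=
  Lre_f IH (LK LD1_c5 LD2_c42 LD3_c56) (LK LD1_c11 LD2_c16 LD3_c9) Lrfl Lrfl
theorem f280910 : Led Lsl_bf (LP (LK LD1_c19 LD2_c43 LD3_c40)) = (LP (LK LD1_c11 LD2_c16 LD3_c9)) :=
  Lgr Lrot61 (Lpr_ft (f280908 IH) (Lpr_bt (f280884 IH) (Lpr_ft (f280909 IH) (Lpn (LP (LK LD1_c11 LD2_c16 LD3_c9))))))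
theorem f280920 : Led Lsl_ct (LP (LK LD1_c19 LD2_c43 LD3_c40)) = (LP (LK LD1_c10 LD2_c55 LD3_c15)) :=
  Lre_c IH (LK LD1_c19 LD2_c43 LD3_c40) (LK LD1_c10 LD2_c55 LD3_c15) Lrfl Lrfl
theorem f280921 : Led Lsl_bt (LP (LK LD1_c10 LD2_c55 LD3_c15)) = (LP (LK LD1_c5 LD2_c31 LD3_c54)) :=
  Lre_b IH (LK LD1_c10 LD2_c55 LD3_c15) (LK LD1_c5 LD2_c31 LD3_c54) Lrfl Lrfl
theorem f268788 : Led Lsl_ct (LP (LK LD1_c5 LD2_c42 LD3_c60)) = (LP (LK LD1_c11 LD2_c16 LD3_c9)) :=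
  Lre_c IH (LK LD1_c5 LD2_c42 LD3_c60) (LK LD1_c11 LD2_c16 LD3_c9) Lrfl Lrfl
theorem f280922 : Led Lsl_ct (LP (LK LD1_c5 LD2_c31 LD3_c54)) = (LP (LK LD1_c2 LD2_c47 LD3_c32)) :=
  Lgr Lrot83 (Lpe (f280921 IH) (Lpe (f280920 IH) (Lpr_bf (f280910 IH) (Lpe (f268788 IH) (Lpe (K16.f268773 IH) (Lpn (LP (LK LD1_c2 LD2_c47 LD3_c32))))))))
theorem f280926 : Led Lsl_cf (LP (LK LD1_c5 LD2_c31 LD3_c54)) = (LP (LK LD1_c2 LD2_c47 LD3_c32)) :=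
  Lgr Lrot11 (Lpr_ct (f280922 IH) (Lpn (LP (LK LD1_c2 LD2_c47 LD3_c32))))
theorem f280934 : Led Lsl_ft (LP (LK LD1_c5 LD2_c31 LD3_c54)) = (LP (LK LD1_c2 LD2_c42 LD3_c5)) :=
  Lre_f IH (LK LD1_c5 LD2_c31 LD3_c54) (LK LD1_c2 LD2_c42 LD3_c5) Lrfl Lrfl
theorem f280935 : Led Lsl_ft (LP (LK LD1_c1 LD2_c20 LD3_c3)) = (LP (LK LD1_c2 LD2_c47 LD3_c32)) :=
  Lre_f IH (LK LD1_c1 LD2_c20 LD3_c3) (LK LD1_c2 LD2_c47 LD3_c32) Lrfl Lrfl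
theorem f280936 : Led Lsl_ct (LP (LK LD1_c2 LD2_c42 LD3_c5)) = (LP (LK LD1_c1 LD2_c20 LD3_c3)) :=
  Lgr Lrot40 (Lpe (f280934 IH) (Lpr_cf (f280926 IH) (Lpe (f280935 IH) (Lpn (LP (LK LD1_c1 LD2_c20 LD3_c3))))))
theorem f176864 : Led Lsl_dt (LP (LK LD1_c2 LD2_c47 LD3_c31)) = (LP (LK LD1_c1 LD2_c20 LD3_c3)) :=
  Lre_d IH (LK LD1_c2 LD2_c47 LD3_c31) (LK LD1_c1 LD2_c20 LD3_c3) Lrfl Lrfl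
theorem f177742 : Led Lsl_dt (LP (LK LD1_c2 LD2_c13 LD3_c21)) = (LP (LK LD1_c4 LD2_c32 LD3_c45)) :=
  Lre_d IH (LK LD1_c2 LD2_c13 LD3_c21) (LK LD1_c4 LD2_c32 LD3_c45) Lrfl Lrfl
theorem f268747 : Led Lsl_at (LP (LK LD1_c1 LD2_c20 LD3_c3)) = (LP (LK LD1_c2 LD2_c13 LD3_c21)) :=
  Lgr Lrot51 (Lpe (f176864 IH) (Lpr_af (K16.f268736 IH) (Lpe (f177742 IH) (Lpn (LP (LK LD1_c2 LD2_c13 LD3_c21))))))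
theorem f226733 : Led Lsl_et (LP (LK LD1_c1 LD2_c3 LD3_c43)) = (LP (LK LD1_c2 LD2_c13 LD3_c21)) :=
  Lre_e IH (LK LD1_c1 LD2_c3 LD3_c43) (LK LD1_c2 LD2_c13 LD3_c21) Lrfl Lrfl
theorem f165034 : Led Lsl_et (LP (LK LD1_c4 LD2_c29 LD3_c38)) = (LP (LK LD1_c2 LD2_c11 LD3_c51)) :=
  Lre_e IH (LK LD1_c4 LD2_c29 LD3_c38) (LK LD1_c2 LD2_c11 LD3_c51) Lrfl Lrfl
theorem f226734 : Led Lsl_ct (LP (LK LD1_c2 LD2_c13 LD3_c21)) = (LP (LK LD1_c4 LD2_c29 LD3_c38)) :=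
  Lgr Lrot15 (Lpe (f226733 IH) (Lpr_cf (K12.f226705 IH) (Lpe (f165034 IH) (Lpn (LP (LK LD1_c4 LD2_c29 LD3_c38))))))
theorem f280940 : Led Lsl_af (LP (LK LD1_c2 LD2_c42 LD3_c5)) = (LP (LK LD1_c4 LD2_c29 LD3_c38)) :=
  Lgr Lrot68 (Lpr_ct (f280936 IH) (Lpr_at (f268747 IH) (Lpr_ct (f226734 IH) (Lpn (LP (LK LD1_c4 LD2_c29 LD3_c38))))))
theorem f173943 : Led Lsl_et (LP (LK LD1_c2 LD2_c42 LD3_c5)) = (LP (LK LD1_c1 LD2_c17 LD3_c39)) :=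
  Lre_e IH (LK LD1_c2 LD2_c42 LD3_c5) (LK LD1_c1 LD2_c17 LD3_c39) Lrfl Lrfl
theorem f173176 : Led Lsl_et (LP (LK LD1_c2 LD2_c11 LD3_c51)) = (LP (LK LD1_c4 LD2_c29 LD3_c38)) :=
  Lre_e IH (LK LD1_c2 LD2_c11 LD3_c51) (LK LD1_c4 LD2_c29 LD3_c38) Lrfl Lrfl
theorem f280958 : Led Lsl_at (LP (LK LD1_c1 LD2_c17 LD3_c39)) = (LP (LK LD1_c2 LD2_c11 LD3_c51)) :=
  Lgr Lrot80 (Lpe (f173943 IH) (Lpr_af (f280940 IH) (Lpe (f173176 IH) (Lpn (LP (LK LD1_c2 LD2_c11 LD3_c51))))))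
theorem f280965 : Led Lsl_af (LP (LK LD1_c0 LD2_c35 LD3_c52)) = (LP (LK LD1_c1 LD2_c2 LD3_c55)) :=
  Lgr Lrot117 (Lpr_dt (K12.f173036 IH) (Lpr_at (f280958 IH) (Lpr_dt (K12.f165009 IH) (Lpn (LP (LK LD1_c1 LD2_c2 LD3_c55))))))
theorem f280972 : Led Lsl_ft (LP (LK LD1_c0 LD2_c35 LD3_c56)) = (LP (LK LD1_c1 LD2_c2 LD3_c55)) :=
  Lgr Lrot2 (Lpe (K9.f168087 IH) (Lpr_gt (K9.f172861 IH) (Lpr_af (f280965 IH) (Lpn (LP (LK LD1_c1 LD2_c2 LD3_c55))))))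
theorem f280982 : Led Lsl_ff (LP (LK LD1_c0 LD2_c35 LD3_c56)) = (LP (LK LD1_c1 LD2_c2 LD3_c55)) :=
  Lgr Lrot3 (Lpr_ft (f280972 IH) (Lpn (LP (LK LD1_c1 LD2_c2 LD3_c55))))
theorem f226417 : Led Lsl_et (LP (LK LD1_c0 LD2_c35 LD3_c56)) = (LP (LK LD1_c1 LD2_c17 LD3_c50)) :=
  Lre_e IH (LK LD1_c0 LD2_c35 LD3_c56) (LK LD1_c1 LD2_c17 LD3_c50) Lrfl Lrfl
theorem f280989 : Led Lsl_ft (LP (LK LD1_c1 LD2_c17 LD3_c50)) = (LP (LK LD1_c2 LD2_c42 LD3_c35)) :=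
  Lre_f IH (LK LD1_c1 LD2_c17 LD3_c50) (LK LD1_c2 LD2_c42 LD3_c35) Lrfl Lrfl
theorem f280990 : Led Lsl_ft (LP (LK LD1_c4 LD2_c29 LD3_c42)) = (LP (LK LD1_c2 LD2_c11 LD3_c52)) :=
  Lre_f IH (LK LD1_c4 LD2_c29 LD3_c42) (LK LD1_c2 LD2_c11 LD3_c52) Lrfl Lrfl
theorem f280991 : Led Lsl_et (LP (LK LD1_c2 LD2_c42 LD3_c35)) = (LP (LK LD1_c4 LD2_c29 LD3_c42)) :=
  Lgr Lrot69 (Lpe (f280989 IH) (Lpe (f226417 IH) (Lpr_ff (f280982 IH) (Lpe (K19.f173173 IH) (Lpe (f280990 IH) (Lpn (LP (LK LD1_c4 LD2_c29 LD3_c42))))))))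
theorem f280993 : Led Lsl_bt (LP (LK LD1_c5 LD2_c32 LD3_c47)) = (LP (LK LD1_c2 LD2_c42 LD3_c35)) :=
  Lre_b IH (LK LD1_c5 LD2_c32 LD3_c47) (LK LD1_c2 LD2_c42 LD3_c35) Lrfl Lrfl
theorem f261782 : Led Lsl_bt (LP (LK LD1_c4 LD2_c29 LD3_c42)) = (LP (LK LD1_c8 LD2_c57 LD3_c31)) :=
  Lre_b IH (LK LD1_c4 LD2_c29 LD3_c42) (LK LD1_c8 LD2_c57 LD3_c31) Lrfl Lrfl
theorem f280994 : Led Lsl_ef (LP (LK LD1_c5 LD2_c32 LD3_c47)) = (LP (LK LD1_c8 LD2_c57 LD3_c31)) :=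
  Lgr Lrot29 (Lpr_bt (f280993 IH) (Lpr_et (f280991 IH) (Lpr_bt (f261782 IH) (Lpn (LP (LK LD1_c8 LD2_c57 LD3_c31))))))
theorem f281043 : Led Lsl_et (LP (LK LD1_c5 LD2_c32 LD3_c47)) = (LP (LK LD1_c8 LD2_c57 LD3_c31)) :=
  Lgr Lrot87 (Lpr_ef (f280994 IH) (Lpn (LP (LK LD1_c8 LD2_c57 LD3_c31))))
theorem f281052 : Led Lsl_ct (LP (LK LD1_c10 LD2_c56 LD3_c25)) = (LP (LK LD1_c5 LD2_c32 LD3_c47)) :=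
  Lre_c IH (LK LD1_c10 LD2_c56 LD3_c25) (LK LD1_c5 LD2_c32 LD3_c47) Lrfl Lrfl
theorem f281053 : Led Lsl_ct (LP (LK LD1_c8 LD2_c57 LD3_c31)) = (LP (LK LD1_c16 LD2_c45 LD3_c37)) :=
  Lre_c IH (LK LD1_c8 LD2_c57 LD3_c31) (LK LD1_c16 LD2_c45 LD3_c37) Lrfl Lrfl
theorem f281054 : Led Lsl_ef (LP (LK LD1_c10 LD2_c56 LD3_c25)) = (LP (LK LD1_c16 LD2_c45 LD3_c37)) :=
  Lgr Lrot28 (Lpr_ct (f281052 IH) (Lpr_et (f281043 IH) (Lpr_ct (f281053 IH) (Lpn (LP (LK LD1_c16 LD2_c45 LD3_c37))))))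
theorem f281065 : Led Lsl_ft (LP (LK LD1_c10 LD2_c56 LD3_c25)) = (LP (LK LD1_c5 LD2_c32 LD3_c21)) :=
  Lre_f IH (LK LD1_c10 LD2_c56 LD3_c25) (LK LD1_c5 LD2_c32 LD3_c21) Lrfl Lrfl
theorem f281066 : Led Lsl_et (LP (LK LD1_c5 LD2_c32 LD3_c21)) = (LP (LK LD1_c2 LD2_c42 LD3_c21)) :=
  Lre_e IH (LK LD1_c5 LD2_c32 LD3_c21) (LK LD1_c2 LD2_c42 LD3_c21) Lrfl Lrfl
theorem f281067 : Led Lsl_ft (LP (LK LD1_c8 LD2_c57 LD3_c6)) = (LP (LK LD1_c16 LD2_c45 LD3_c37)) :=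
  Lre_f IH (LK LD1_c8 LD2_c57 LD3_c6) (LK LD1_c16 LD2_c45 LD3_c37) Lrfl Lrfl
theorem f281068 : Led Lsl_et (LP (LK LD1_c4 LD2_c29 LD3_c26)) = (LP (LK LD1_c8 LD2_c57 LD3_c6)) :=
  Lre_e IH (LK LD1_c4 LD2_c29 LD3_c26) (LK LD1_c8 LD2_c57 LD3_c6) Lrfl Lrfl
theorem f281069 : Led Lsl_ft (LP (LK LD1_c2 LD2_c42 LD3_c21)) = (LP (LK LD1_c4 LD2_c29 LD3_c26)) :=
  Lgr Lrot86 (Lpe (f281066 IH) (Lpe (f281065 IH) (Lpr_ef (f281054 IH) (Lpe (f281067 IH) (Lpe (f281068 IH) (Lpn (LP (LK LD1_c4 LD2_c29 LD3_c26))))))))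
theorem f281079 : Led Lsl_ff (LP (LK LD1_c2 LD2_c42 LD3_c21)) = (LP (LK LD1_c4 LD2_c29 LD3_c26)) :=
  Lgr Lrot3 (Lpr_ft (f281069 IH) (Lpn (LP (LK LD1_c4 LD2_c29 LD3_c26))))
theorem f281091 : Led Lsl_at (LP (LK LD1_c2 LD2_c42 LD3_c21)) = (LP (LK LD1_c5 LD2_c32 LD3_c19)) :=
  Lre_a IH (LK LD1_c2 LD2_c42 LD3_c21) (LK LD1_c5 LD2_c32 LD3_c19) Lrfl Lrfl
theorem f261934 : Led Lsl_at (LP (LK LD1_c8 LD2_c57 LD3_c4)) = (LP (LK LD1_c4 LD2_c29 LD3_c26)) :=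
  Lre_a IH (LK LD1_c8 LD2_c57 LD3_c4) (LK LD1_c4 LD2_c29 LD3_c26) Lrfl Lrfl
theorem f281092 : Led Lsl_ft (LP (LK LD1_c5 LD2_c32 LD3_c19)) = (LP (LK LD1_c8 LD2_c57 LD3_c4)) :=
  Lgr Lrot101 (Lpe (f281091 IH) (Lpr_ff (f281079 IH) (Lpe (f261934 IH) (Lpn (LP (LK LD1_c8 LD2_c57 LD3_c4))))))
theorem f213345 : Led Lsl_ct (LP (LK LD1_c2 LD2_c42 LD3_c29)) = (LP (LK LD1_c5 LD2_c32 LD3_c19)) :=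
  Lre_c IH (LK LD1_c2 LD2_c42 LD3_c29) (LK LD1_c5 LD2_c32 LD3_c19) Lrfl Lrfl
theorem f281087 : Led Lsl_ct (LP (LK LD1_c8 LD2_c57 LD3_c4)) = (LP (LK LD1_c4 LD2_c29 LD3_c35)) :=
  Lre_c IH (LK LD1_c8 LD2_c57 LD3_c4) (LK LD1_c4 LD2_c29 LD3_c35) Lrfl Lrfl
theorem f281136 : Led Lsl_ff (LP (LK LD1_c2 LD2_c42 LD3_c29)) = (LP (LK LD1_c4 LD2_c29 LD3_c35)) :=
  Lgr Lrot23 (Lpr_ct (f213345 IH) (Lpr_ft (f281092 IH) (Lpr_ct (f281087 IH) (Lpn (LP (LK LD1_c4 LD2_c29 LD3_c35))))))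
theorem f281145 : Led Lsl_ft (LP (LK LD1_c2 LD2_c42 LD3_c29)) = (LP (LK LD1_c4 LD2_c29 LD3_c35)) :=
  Lgr Lrot48 (Lpr_ff (f281136 IH) (Lpn (LP (LK LD1_c4 LD2_c29 LD3_c35))))
theorem f281153 : Led Lsl_bf (LP (LK LD1_c2 LD2_c42 LD3_c0)) = (LP (LK LD1_c4 LD2_c29 LD3_c35)) :=
  Lgr Lrot61 (Lpr_ft (f280722 IH) (Lpe (f280650 IH) (Lpr_ft (f281145 IH) (Lpn (LP (LK LD1_c4 LD2_c29 LD3_c35))))))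
theorem f281083 : Led Lsl_ct (LP (LK LD1_c4 LD2_c29 LD3_c35)) = (LP (LK LD1_c8 LD2_c57 LD3_c4)) :=
  Lre_c IH (LK LD1_c4 LD2_c29 LD3_c35) (LK LD1_c8 LD2_c57 LD3_c4) Lrfl Lrfl
theorem f174116 : Led Lsl_gt (LP (LK LD1_c2 LD2_c42 LD3_c21)) = (LP (LK LD1_c5 LD2_c32 LD3_c17)) :=
  Lre_g IH (LK LD1_c2 LD2_c42 LD3_c21) (LK LD1_c5 LD2_c32 LD3_c17) Lrfl Lrfl
theorem f281073 : Led Lsl_at (LP (LK LD1_c4 LD2_c29 LD3_c26)) = (LP (LK LD1_c8 LD2_c57 LD3_c4)) :=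
  Lre_a IH (LK LD1_c4 LD2_c29 LD3_c26) (LK LD1_c8 LD2_c57 LD3_c4) Lrfl Lrfl
theorem f281081 : Led Lsl_gt (LP (LK LD1_c5 LD2_c32 LD3_c17)) = (LP (LK LD1_c8 LD2_c57 LD3_c4)) :=
  Lgr Lrot46 (Lpe (f174116 IH) (Lpr_ft (f281069 IH) (Lpr_at (f281073 IH) (Lpn (LP (LK LD1_c8 LD2_c57 LD3_c4))))))
theorem f174508 : Led Lsl_bt (LP (LK LD1_c8 LD2_c58 LD3_c1)) = (LP (LK LD1_c4 LD2_c29 LD3_c57)) :=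
  Lre_b IH (LK LD1_c8 LD2_c58 LD3_c1) (LK LD1_c4 LD2_c29 LD3_c57) Lrfl Lrfl
theorem f281626 : Led Lsl_ct (LP (LK LD1_c8 LD2_c58 LD3_c1)) = (LP (LK LD1_c8 LD2_c58 LD3_c59)) :=
  Lre_c IH (LK LD1_c8 LD2_c58 LD3_c1) (LK LD1_c8 LD2_c58 LD3_c59) Lrfl Lrfl
theorem f281627 : Led Lsl_gt (LP (LK LD1_c8 LD2_c58 LD3_c59)) = (LP (LK LD1_c4 LD2_c30 LD3_c27)) :=
  Lre_g IH (LK LD1_c8 LD2_c58 LD3_c59) (LK LD1_c4 LD2_c30 LD3_c27) Lrfl Lrfl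
theorem f281628 : Led Lsl_ct (LP (LK LD1_c2 LD2_c12 LD3_c11)) = (LP (LK LD1_c4 LD2_c30 LD3_c27)) :=
  Lre_c IH (LK LD1_c2 LD2_c12 LD3_c11) (LK LD1_c4 LD2_c30 LD3_c27) Lrfl Lrfl
theorem f281629 : Led Lsl_bt (LP (LK LD1_c2 LD2_c12 LD3_c11)) = (LP (LK LD1_c4 LD2_c30 LD3_c26)) :=
  Lre_b IH (LK LD1_c2 LD2_c12 LD3_c11) (LK LD1_c4 LD2_c30 LD3_c26) Lrfl Lrfl
theorem f281630 : Led Lsl_gt (LP (LK LD1_c4 LD2_c30 LD3_c26)) = (LP (LK LD1_c8 LD2_c59 LD3_c8)) :=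
  Lre_g IH (LK LD1_c4 LD2_c30 LD3_c26) (LK LD1_c8 LD2_c59 LD3_c8) Lrfl Lrfl
theorem f281631 : Led Lsl_cf (LP (LK LD1_c5 LD2_c32 LD3_c17)) = (LP (LK LD1_c8 LD2_c59 LD3_c8)) :=
  Lgr Lrot125 (Lpr_gt (f281081 IH) (Lpe (f281083 IH) (Lpe (f281153 IH) (Lpr_gt (f281621 IH) (Lpe (f174508 IH) (Lpr_ct (f281626 IH) (Lpr_gt (f281627 IH) (Lpe (f281628 IH) (Lpr_bt (f281629 IH) (Lpr_gt (f281630 IH) (Lpn (LP (LK LD1_c8 LD2_c59 LD3_c8)))))))))))))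
theorem f281088 : Led Lsl_dt (LP (LK LD1_c4 LD2_c29 LD3_c35)) = (LP (LK LD1_c8 LD2_c57 LD3_c24)) :=
  Lre_d IH (LK LD1_c4 LD2_c29 LD3_c35) (LK LD1_c8 LD2_c57 LD3_c24) Lrfl Lrfl
theorem f281085 : Led Lsl_ct (LP (LK LD1_c16 LD2_c46 LD3_c4)) = (LP (LK LD1_c8 LD2_c57 LD3_c24)) :=
  Lre_c IH (LK LD1_c16 LD2_c46 LD3_c4) (LK LD1_c8 LD2_c57 LD3_c24) Lrfl Lrfl
theorem f213346 : Led Lsl_dt (LP (LK LD1_c5 LD2_c32 LD3_c39)) = (LP (LK LD1_c2 LD2_c42 LD3_c29)) :=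
  Lre_d IH (LK LD1_c5 LD2_c32 LD3_c39) (LK LD1_c2 LD2_c42 LD3_c29) Lrfl Lrfl
theorem f281155 : Led Lsl_ff (LP (LK LD1_c5 LD2_c32 LD3_c39)) = (LP (LK LD1_c8 LD2_c57 LD3_c24)) :=
  Lgr Lrot19 (Lpr_dt (f213346 IH) (Lpr_ft (f281145 IH) (Lpr_dt (f281088 IH) (Lpn (LP (LK LD1_c8 LD2_c57 LD3_c24))))))
theorem f280653 : Led Lsl_ct (LP (LK LD1_c5 LD2_c32 LD3_c39)) = (LP (LK LD1_c10 LD2_c57 LD3_c2)) :=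
  Lre_c IH (LK LD1_c5 LD2_c32 LD3_c39) (LK LD1_c10 LD2_c57 LD3_c2) Lrfl Lrfl
theorem f281171 : Led Lsl_ft (LP (LK LD1_c10 LD2_c57 LD3_c2)) = (LP (LK LD1_c16 LD2_c46 LD3_c4)) :=
  Lgr Lrot4 (Lpe (f280653 IH) (Lpr_ff (f281155 IH) (Lpe (f281085 IH) (Lpn (LP (LK LD1_c16 LD2_c46 LD3_c4))))))
theorem f281181 : Led Lsl_ff (LP (LK LD1_c10 LD2_c57 LD3_c2)) = (LP (LK LD1_c16 LD2_c46 LD3_c4)) :=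
  Lgr Lrot3 (Lpr_ft (f281171 IH) (Lpn (LP (LK LD1_c16 LD2_c46 LD3_c4))))
theorem f174369 : Led Lsl_at (LP (LK LD1_c10 LD2_c57 LD3_c2)) = (LP (LK LD1_c5 LD2_c32 LD3_c43)) :=
  Lre_a IH (LK LD1_c10 LD2_c57 LD3_c2) (LK LD1_c5 LD2_c32 LD3_c43) Lrfl Lrfl
theorem f281185 : Led Lsl_at (LP (LK LD1_c8 LD2_c57 LD3_c26)) = (LP (LK LD1_c16 LD2_c46 LD3_c4)) :=
  Lre_a IH (LK LD1_c8 LD2_c57 LD3_c26) (LK LD1_c16 LD2_c46 LD3_c4) Lrfl Lrfl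
theorem f281186 : Led Lsl_ft (LP (LK LD1_c5 LD2_c32 LD3_c43)) = (LP (LK LD1_c8 LD2_c57 LD3_c26)) :=
  Lgr Lrot101 (Lpe (f174369 IH) (Lpr_ff (f281181 IH) (Lpe (f281185 IH) (Lpn (LP (LK LD1_c8 LD2_c57 LD3_c26))))))
theorem f174336 : Led Lsl_gt (LP (LK LD1_c5 LD2_c32 LD3_c43)) = (LP (LK LD1_c10 LD2_c57 LD3_c11)) :=
  Lre_g IH (LK LD1_c5 LD2_c32 LD3_c43) (LK LD1_c10 LD2_c57 LD3_c11) Lrfl Lrfl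
theorem f281294 : Led Lsl_gt (LP (LK LD1_c10 LD2_c57 LD3_c11)) = (LP (LK LD1_c16 LD2_c46 LD3_c4)) :=
  Lgr Lrot46 (Lpe (f174336 IH) (Lpr_ft (f281186 IH) (Lpr_at (f281185 IH) (Lpn (LP (LK LD1_c16 LD2_c46 LD3_c4))))))
theorem f281639 : Led Lsl_dt (LP (LK LD1_c8 LD2_c59 LD3_c11)) = (LP (LK LD1_c4 LD2_c30 LD3_c26)) :=
  Lre_d IH (LK LD1_c8 LD2_c59 LD3_c11) (LK LD1_c4 LD2_c30 LD3_c26) Lrfl Lrfl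
theorem f281640 : Led Lsl_gt (LP (LK LD1_c8 LD2_c59 LD3_c11)) = (LP (LK LD1_c16 LD2_c48 LD3_c24)) :=
  Lre_g IH (LK LD1_c8 LD2_c59 LD3_c11) (LK LD1_c16 LD2_c48 LD3_c24) Lrfl Lrfl
theorem f281641 : Led Lsl_cf (LP (LK LD1_c10 LD2_c57 LD3_c11)) = (LP (LK LD1_c16 LD2_c48 LD3_c24)) :=
  Lgr Lrot169 (Lpr_gt (f281294 IH) (Lpr_ct (f281085 IH) (Lpe (f281088 IH) (Lpe (f281087 IH) (Lpe (f281081 IH) (Lpr_cf (f281631 IH) (Lpe (f281630 IH) (Lpe (f281639 IH) (Lpr_gt (f281640 IH) (Lpn (LP (LK LD1_c16 LD2_c48 LD3_c24))))))))))))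
theorem f174118 : Led Lsl_ct (LP (LK LD1_c2 LD2_c42 LD3_c30)) = (LP (LK LD1_c5 LD2_c32 LD3_c43)) :=
  Lre_c IH (LK LD1_c2 LD2_c42 LD3_c30) (LK LD1_c5 LD2_c32 LD3_c43) Lrfl Lrfl
theorem f174330 : Led Lsl_bt (LP (LK LD1_c2 LD2_c42 LD3_c30)) = (LP (LK LD1_c1 LD2_c17 LD3_c49)) :=
  Lre_b IH (LK LD1_c2 LD2_c42 LD3_c30) (LK LD1_c1 LD2_c17 LD3_c49) Lrfl Lrfl
theorem f226399 : Led Lsl_gt (LP (LK LD1_c2 LD2_c42 LD3_c3)) = (LP (LK LD1_c1 LD2_c17 LD3_c49)) :=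
  Lgr Lrot180 (Lpr_ct (K12.f226020 IH) (Lpr_gt (K15.f164714 IH) (Lpr_dt (K15.f164713 IH) (Lpe (K9.f168826 IH) (Lpr_dt (K9.f40866 IH) (Lpr_ct (K12.f40851 IH) (Lpe (K1.f40843 IH) (Lpr_gf (K9.f168087 IH) (Lpe (K9.f168094 IH) (Lpn (LP (LK LD1_c1 LD2_c17 LD3_c49))))))))))))
theorem f178938 : Led Lsl_ct (LP (LK LD1_c5 LD2_c31 LD3_c48)) = (LP (LK LD1_c10 LD2_c55 LD3_c22)) :=
  Lre_c IH (LK LD1_c5 LD2_c31 LD3_c48) (LK LD1_c10 LD2_c55 LD3_c22) Lrfl Lrfl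
theorem f174388 : Led Lsl_gt (LP (LK LD1_c5 LD2_c32 LD3_c42)) = (LP (LK LD1_c2 LD2_c42 LD3_c30)) :=
  Lre_g IH (LK LD1_c5 LD2_c32 LD3_c42) (LK LD1_c2 LD2_c42 LD3_c30) Lrfl Lrfl
theorem f174393 : Led Lsl_bt (LP (LK LD1_c10 LD2_c57 LD3_c9)) = (LP (LK LD1_c5 LD2_c32 LD3_c42)) :=
  Lre_b IH (LK LD1_c10 LD2_c57 LD3_c9) (LK LD1_c5 LD2_c32 LD3_c42) Lrfl Lrfl
theorem f226142 : Led Lsl_ft (LP (LK LD1_c2 LD2_c43 LD3_c6)) = (LP (LK LD1_c5 LD2_c33 LD3_c48)) :=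
  Lre_f IH (LK LD1_c2 LD2_c43 LD3_c6) (LK LD1_c5 LD2_c33 LD3_c48) Lrfl Lrfl
theorem f226143 : Led Lsl_at (LP (LK LD1_c5 LD2_c33 LD3_c48)) = (LP (LK LD1_c2 LD2_c43 LD3_c1)) :=
  Lre_a IH (LK LD1_c5 LD2_c33 LD3_c48) (LK LD1_c2 LD2_c43 LD3_c1) Lrfl Lrfl
theorem f226144 : Led Lsl_gf (LP (LK LD1_c2 LD2_c43 LD3_c1)) = (LP (LK LD1_c5 LD2_c33 LD3_c16)) :=
  Lgr Lrot76 (Lpe (f226143 IH) (Lpe (f226142 IH) (Lpr_gt (K14.f226029 IH) (Lpn (LP (LK LD1_c5 LD2_c33 LD3_c16))))))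
theorem f220436 : Led Lsl_ct (LP (LK LD1_c2 LD2_c43 LD3_c1)) = (LP (LK LD1_c5 LD2_c34 LD3_c1)) :=
  Lre_c IH (LK LD1_c2 LD2_c43 LD3_c1) (LK LD1_c5 LD2_c34 LD3_c1) Lrfl Lrfl
theorem f226171 : Led Lsl_gt (LP (LK LD1_c5 LD2_c34 LD3_c1)) = (LP (LK LD1_c11 LD2_c0 LD3_c13)) :=
  Lre_g IH (LK LD1_c5 LD2_c34 LD3_c1) (LK LD1_c11 LD2_c0 LD3_c13) Lrfl Lrfl
theorem f174108 : Led Lsl_ct (LP (LK LD1_c1 LD2_c17 LD3_c49)) = (LP (LK LD1_c0 LD2_c36 LD3_c60)) :=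
  Lgr Lrot7 (Lpe (K9.f168099 IH) (Lpr_gf (K9.f174106 IH) (Lpe (K9.f173647 IH) (Lpr_gf (K9.f168539 IH) (Lpr_cf (K9.f172399 IH) (Lpr_gt (K9.f22481 IH) (Lpr_dt (K9.f165204 IH) (Lpr_gt (K9.f68576 IH) (Lpr_dt (K9.f68581 IH) (Lpn (LP (LK LD1_c0 LD2_c36 LD3_c60))))))))))))
theorem f174117 : Led Lsl_bt (LP (LK LD1_c1 LD2_c17 LD3_c49)) = (LP (LK LD1_c2 LD2_c42 LD3_c30)) :=
  Lre_b IH (LK LD1_c1 LD2_c17 LD3_c49) (LK LD1_c2 LD2_c42 LD3_c30) Lrfl Lrfl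
theorem f226176 : Led Lsl_cf (LP (LK LD1_c11 LD2_c0 LD3_c13)) = (LP (LK LD1_c10 LD2_c57 LD3_c9)) :=
  Lgr Lrot163 (Lpe (f226171 IH) (Lpe (f220436 IH) (Lpr_gf (f226144 IH) (Lpe (K14.f225397 IH) (Lpe (K14.f226006 IH) (Lpe (K12.f68582 IH) (Lpe (f174108 IH) (Lpr_bt (f174117 IH) (Lpe (f174388 IH) (Lpe (f174393 IH) (Lpn (LP (LK LD1_c10 LD2_c57 LD3_c9)))))))))))))
theorem f226198 : Led Lsl_bt (LP (LK LD1_c2 LD2_c43 LD3_c1)) = (LP (LK LD1_c5 LD2_c33 LD3_c53)) :=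
  Lre_b IH (LK LD1_c2 LD2_c43 LD3_c1) (LK LD1_c5 LD2_c33 LD3_c53) Lrfl Lrfl
theorem f226199 : Led Lsl_gt (LP (LK LD1_c10 LD2_c59 LD3_c45)) = (LP (LK LD1_c5 LD2_c33 LD3_c53)) :=
  Lre_g IH (LK LD1_c10 LD2_c59 LD3_c45) (LK LD1_c5 LD2_c33 LD3_c53) Lrfl Lrfl
theorem f281667 : Led Lsl_bf (LP (LK LD1_c10 LD2_c59 LD3_c45)) = (LP (LK LD1_c16 LD2_c48 LD3_c24)) :=
  Lgr Lrot156 (Lpr_gt (f226199 IH) (Lpe (f226198 IH) (Lpr_ct (f220436 IH) (Lpr_gt (f226171 IH) (Lpr_cf (f226176 IH) (Lpr_bt (f174393 IH) (Lpr_gt (f174388 IH) (Lpr_ct (f174118 IH) (Lpr_gt (f174336 IH) (Lpr_cf (f281641 IH) (Lpn (LP (LK LD1_c16 LD2_c48 LD3_c24)))))))))))))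
theorem f226180 : Led Lsl_ct (LP (LK LD1_c5 LD2_c33 LD3_c53)) = (LP (LK LD1_c10 LD2_c59 LD3_c46)) :=
  Lre_c IH (LK LD1_c5 LD2_c33 LD3_c53) (LK LD1_c10 LD2_c59 LD3_c46) Lrfl Lrfl
theorem f281669 : Led Lsl_gf (LP (LK LD1_c10 LD2_c55 LD3_c22)) = (LP (LK LD1_c10 LD2_c59 LD3_c46)) :=
  Lgr Lrot129 (Lpe (f178938 IH) (Lpr_bt (f178887 IH) (Lpr_gt (f226399 IH) (Lpe (f174330 IH) (Lpr_ct (f174118 IH) (Lpr_gt (f174336 IH) (Lpr_cf (f281641 IH) (Lpe (f281667 IH) (Lpr_gt (f226199 IH) (Lpr_ct (f226180 IH) (Lpn (LP (LK LD1_c10 LD2_c59 LD3_c46)))))))))))))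
theorem f289576 : Led Lsl_gt (LP (LK LD1_c19 LD2_c32 LD3_c54)) = (LP (LK LD1_c10 LD2_c59 LD3_c46)) :=
  Lgr Lrot5 (Lpr_ft (f289508 IH) (Lpr_at (f178942 IH) (Lpr_gf (f281669 IH) (Lpn (LP (LK LD1_c10 LD2_c59 LD3_c46))))))
theorem f253886 : Led Lsl_ct (LP (LK LD1_c10 LD2_c48 LD3_c44)) = (LP (LK LD1_c19 LD2_c32 LD3_c54)) :=
  Lre_c IH (LK LD1_c10 LD2_c48 LD3_c44) (LK LD1_c19 LD2_c32 LD3_c54) Lrfl Lrfl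
theorem f174083 : Led Lsl_ct (LP (LK LD1_c10 LD2_c59 LD3_c46)) = (LP (LK LD1_c5 LD2_c33 LD3_c53)) :=
  Lre_c IH (LK LD1_c10 LD2_c59 LD3_c46) (LK LD1_c5 LD2_c33 LD3_c53) Lrfl Lrfl
theorem f174082 : Led Lsl_dt (LP (LK LD1_c2 LD2_c42 LD3_c61)) = (LP (LK LD1_c5 LD2_c33 LD3_c53)) :=
  Lre_d IH (LK LD1_c2 LD2_c42 LD3_c61) (LK LD1_c5 LD2_c33 LD3_c53) Lrfl Lrfl
theorem f174081 : Led Lsl_ct (LP (LK LD1_c5 LD2_c33 LD3_c52)) = (LP (LK LD1_c2 LD2_c42 LD3_c61)) :=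
  Lre_c IH (LK LD1_c5 LD2_c33 LD3_c52) (LK LD1_c2 LD2_c42 LD3_c61) Lrfl Lrfl
theorem f173700 : Led Lsl_dt (LP (LK LD1_c10 LD2_c54 LD3_c31)) = (LP (LK LD1_c5 LD2_c31 LD3_c27)) :=
  Lre_d IH (LK LD1_c10 LD2_c54 LD3_c31) (LK LD1_c5 LD2_c31 LD3_c27) Lrfl Lrfl
theorem f289578 : Led Lsl_gf (LP (LK LD1_c10 LD2_c48 LD3_c44)) = (LP (LK LD1_c10 LD2_c54 LD3_c31)) :=
  Lgr Lrot147 (Lpr_ct (f253886 IH) (Lpr_gt (f289576 IH) (Lpr_ct (f174083 IH) (Lpe (f174082 IH) (Lpe (f174081 IH) (Lpr_gf (K9.f174074 IH) (Lpe (K1.f54755 IH) (Lpr_gf (K9.f174051 IH) (Lpe (f173700 IH) (Lpn (LP (LK LD1_c10 LD2_c54 LD3_c31))))))))))))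
theorem f318681 : Led Lsl_gf (LP (LK LD1_c10 LD2_c54 LD3_c34)) = (LP (LK LD1_c10 LD2_c48 LD3_c44)) :=
  Lgr Lrot76 (Lpr_af (f318459 IH) (Lpe (f290350 IH) (Lpe (f289578 IH) (Lpn (LP (LK LD1_c10 LD2_c48 LD3_c44))))))
theorem f289515 : Led Lsl_ft (LP (LK LD1_c10 LD2_c48 LD3_c50)) = (LP (LK LD1_c10 LD2_c55 LD3_c22)) :=
  Lgr Lrot48 (Lpr_ff (f289496 IH) (Lpn (LP (LK LD1_c10 LD2_c55 LD3_c22))))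
theorem f289522 : Led Lsl_ff (LP (LK LD1_c5 LD2_c28 LD3_c51)) = (LP (LK LD1_c5 LD2_c31 LD3_c48)) :=
  Lgr Lrot23 (Lpr_ct (f165024 IH) (Lpr_ft (f289515 IH) (Lpr_ct (f178912 IH) (Lpn (LP (LK LD1_c5 LD2_c31 LD3_c48))))))
theorem f287999 : Led Lsl_at (LP (LK LD1_c5 LD2_c28 LD3_c51)) = (LP (LK LD1_c10 LD2_c48 LD3_c44)) :=
  Lre_a IH (LK LD1_c5 LD2_c28 LD3_c51) (LK LD1_c10 LD2_c48 LD3_c44) Lrfl Lrfl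
theorem f178907 : Led Lsl_at (LP (LK LD1_c10 LD2_c55 LD3_c21)) = (LP (LK LD1_c5 LD2_c31 LD3_c48)) :=
  Lre_a IH (LK LD1_c10 LD2_c55 LD3_c21) (LK LD1_c5 LD2_c31 LD3_c48) Lrfl Lrfl
theorem f289531 : Led Lsl_ft (LP (LK LD1_c10 LD2_c48 LD3_c44)) = (LP (LK LD1_c10 LD2_c55 LD3_c21)) :=
  Lgr Lrot101 (Lpe (f287999 IH) (Lpr_ff (f289522 IH) (Lpe (f178907 IH) (Lpn (LP (LK LD1_c10 LD2_c55 LD3_c21))))))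
theorem f318683 : Led Lsl_gt (LP (LK LD1_c10 LD2_c54 LD3_c34)) = (LP (LK LD1_c5 LD2_c31 LD3_c48)) :=
  Lgr Lrot46 (Lpr_gf (f318681 IH) (Lpr_ft (f289531 IH) (Lpr_at (f178907 IH) (Lpn (LP (LK LD1_c5 LD2_c31 LD3_c48))))))
theorem f173714 : Led Lsl_dt (LP (LK LD1_c5 LD2_c31 LD3_c28)) = (LP (LK LD1_c10 LD2_c54 LD3_c34)) :=
  Lre_d IH (LK LD1_c5 LD2_c31 LD3_c28) (LK LD1_c10 LD2_c54 LD3_c34) Lrfl Lrfl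
theorem f173644 : Led Lsl_at (LP (LK LD1_c5 LD2_c31 LD3_c29)) = (LP (LK LD1_c2 LD2_c41 LD3_c58)) :=
  Lre_a IH (LK LD1_c5 LD2_c31 LD3_c29) (LK LD1_c2 LD2_c41 LD3_c58) Lrfl Lrfl
theorem f173712 : Led Lsl_gt (LP (LK LD1_c3 LD2_c58 LD3_c46)) = (LP (LK LD1_c5 LD2_c31 LD3_c28)) :=
  Lgr Lrot5 (Lpr_ft (K9.f173701 IH) (Lpr_at (f173644 IH) (Lpe (f173658 IH) (Lpn (LP (LK LD1_c5 LD2_c31 LD3_c28))))))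
theorem f174078 : Led Lsl_dt (LP (LK LD1_c5 LD2_c33 LD3_c52)) = (LP (LK LD1_c10 LD2_c59 LD3_c43)) :=
  Lre_d IH (LK LD1_c5 LD2_c33 LD3_c52) (LK LD1_c10 LD2_c59 LD3_c43) Lrfl Lrfl
theorem f178098 : Led Lsl_bt (LP (LK LD1_c2 LD2_c44 LD3_c10)) = (LP (LK LD1_c1 LD2_c18 LD3_c26)) :=
  Lre_b IH (LK LD1_c2 LD2_c44 LD3_c10) (LK LD1_c1 LD2_c18 LD3_c26) Lrfl Lrfl
theorem f178898 : Led Lsl_bt (LP (LK LD1_c2 LD2_c42 LD3_c3)) = (LP (LK LD1_c5 LD2_c31 LD3_c48)) :=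
  Lre_b IH (LK LD1_c2 LD2_c42 LD3_c3) (LK LD1_c5 LD2_c31 LD3_c48) Lrfl Lrfl
theorem f178899 : Led Lsl_df (LP (LK LD1_c2 LD2_c44 LD3_c10)) = (LP (LK LD1_c5 LD2_c31 LD3_c48)) :=
  Lgr Lrot12 (Lpr_bt (f178098 IH) (Lpr_dt (K12.f178890 IH) (Lpr_bt (f178898 IH) (Lpn (LP (LK LD1_c5 LD2_c31 LD3_c48))))))
theorem f178099 : Led Lsl_ct (LP (LK LD1_c5 LD2_c36 LD3_c31)) = (LP (LK LD1_c2 LD2_c44 LD3_c10)) :=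
  Lre_c IH (LK LD1_c5 LD2_c36 LD3_c31) (LK LD1_c2 LD2_c44 LD3_c10) Lrfl Lrfl
theorem f318686 : Led Lsl_gt (LP (LK LD1_c10 LD2_c59 LD3_c43)) = (LP (LK LD1_c11 LD2_c5 LD3_c10)) :=
  Lgr Lrot49 (Lpe (f174078 IH) (Lpr_gf (K9.f174074 IH) (Lpe (K1.f54755 IH) (Lpr_gt (f173712 IH) (Lpr_dt (f173714 IH) (Lpr_gt (f318683 IH) (Lpe (f178899 IH) (Lpe (f178099 IH) (Lpe (K19.f178100 IH) (Lpn (LP (LK LD1_c11 LD2_c5 LD3_c10))))))))))))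
theorem f174091 : Led Lsl_dt (LP (LK LD1_c10 LD2_c59 LD3_c43)) = (LP (LK LD1_c5 LD2_c33 LD3_c52)) :=
  Lre_d IH (LK LD1_c10 LD2_c59 LD3_c43) (LK LD1_c5 LD2_c33 LD3_c52) Lrfl Lrfl
theorem f173662 : Led Lsl_ct (LP (LK LD1_c5 LD2_c31 LD3_c27)) = (LP (LK LD1_c10 LD2_c54 LD3_c30)) :=
  Lre_c IH (LK LD1_c5 LD2_c31 LD3_c27) (LK LD1_c10 LD2_c54 LD3_c30) Lrfl Lrfl
theorem f174097 : Led Lsl_dt (LP (LK LD1_c10 LD2_c54 LD3_c30)) = (LP (LK LD1_c19 LD2_c42 LD3_c32)) :=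
  Lre_d IH (LK LD1_c10 LD2_c54 LD3_c30) (LK LD1_c19 LD2_c42 LD3_c32) Lrfl Lrfl
theorem f173634 : Led Lsl_dt (LP (LK LD1_c7 LD2_c58 LD3_c56)) = (LP (LK LD1_c3 LD2_c58 LD3_c44)) :=
  Lre_d IH (LK LD1_c7 LD2_c58 LD3_c56) (LK LD1_c3 LD2_c58 LD3_c44) Lrfl Lrfl
theorem f318464 : Led Lsl_af (LP (LK LD1_c5 LD2_c31 LD3_c28)) = (LP (LK LD1_c3 LD2_c58 LD3_c44)) :=
  Lgr Lrot117 (Lpr_dt (f173714 IH) (Lpr_at (f318455 IH) (Lpr_dt (f173634 IH) (Lpn (LP (LK LD1_c3 LD2_c58 LD3_c44))))))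
theorem f318481 : Led Lsl_ft (LP (LK LD1_c5 LD2_c31 LD3_c27)) = (LP (LK LD1_c3 LD2_c58 LD3_c44)) :=
  Lgr Lrot101 (Lpe (f318442 IH) (Lpr_ff (f318433 IH) (Lpr_af (f318464 IH) (Lpn (LP (LK LD1_c3 LD2_c58 LD3_c44))))))
theorem f174053 : Led Lsl_ct (LP (LK LD1_c10 LD2_c54 LD3_c30)) = (LP (LK LD1_c5 LD2_c31 LD3_c27)) :=
  Lre_c IH (LK LD1_c10 LD2_c54 LD3_c30) (LK LD1_c5 LD2_c31 LD3_c27) Lrfl Lrfl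
theorem f173633 : Led Lsl_ct (LP (LK LD1_c3 LD2_c58 LD3_c44)) = (LP (LK LD1_c7 LD2_c58 LD3_c55)) :=
  Lre_c IH (LK LD1_c3 LD2_c58 LD3_c44) (LK LD1_c7 LD2_c58 LD3_c55) Lrfl Lrfl
theorem f318483 : Led Lsl_ff (LP (LK LD1_c10 LD2_c54 LD3_c30)) = (LP (LK LD1_c7 LD2_c58 LD3_c55)) :=
  Lgr Lrot23 (Lpr_ct (f174053 IH) (Lpr_ft (f318481 IH) (Lpr_ct (f173633 IH) (Lpn (LP (LK LD1_c7 LD2_c58 LD3_c55))))))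
theorem f318488 : Led Lsl_dt (LP (LK LD1_c15 LD2_c3 LD3_c30)) = (LP (LK LD1_c7 LD2_c58 LD3_c55)) :=
  Lre_d IH (LK LD1_c15 LD2_c3 LD3_c30) (LK LD1_c7 LD2_c58 LD3_c55) Lrfl Lrfl
theorem f318489 : Led Lsl_ft (LP (LK LD1_c19 LD2_c42 LD3_c32)) = (LP (LK LD1_c15 LD2_c3 LD3_c30)) :=
  Lgr Lrot54 (Lpe (f174097 IH) (Lpr_ff (f318483 IH) (Lpe (f318488 IH) (Lpn (LP (LK LD1_c15 LD2_c3 LD3_c30))))))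
theorem f174094 : Led Lsl_dt (LP (LK LD1_c19 LD2_c42 LD3_c32)) = (LP (LK LD1_c10 LD2_c54 LD3_c30)) :=
  Lre_d IH (LK LD1_c19 LD2_c42 LD3_c32) (LK LD1_c10 LD2_c54 LD3_c30) Lrfl Lrfl
theorem f232847 : Led Lsl_bt (LP (LK LD1_c8 LD2_c34 LD3_c20)) = (LP (LK LD1_c4 LD2_c17 LD3_c40)) :=
  Lre_b IH (LK LD1_c8 LD2_c34 LD3_c20) (LK LD1_c4 LD2_c17 LD3_c40) Lrfl Lrfl
theorem f287760 : Led Lsl_bt (LP (LK LD1_c8 LD2_c33 LD3_c10)) = (LP (LK LD1_c16 LD2_c3 LD3_c16)) :=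
  Lre_b IH (LK LD1_c8 LD2_c33 LD3_c10) (LK LD1_c16 LD2_c3 LD3_c16) Lrfl Lrfl
theorem f287761 : Led Lsl_df (LP (LK LD1_c8 LD2_c34 LD3_c20)) = (LP (LK LD1_c16 LD2_c3 LD3_c16)) :=
  Lgr Lrot12 (Lpr_bt (f232847 IH) (Lpr_dt (K17.f287758 IH) (Lpr_bt (f287760 IH) (Lpn (LP (LK LD1_c16 LD2_c3 LD3_c16))))))
theorem f270896 : Led Lsl_bt (LP (LK LD1_c4 LD2_c17 LD3_c40)) = (LP (LK LD1_c8 LD2_c34 LD3_c20)) :=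
  Lre_b IH (LK LD1_c4 LD2_c17 LD3_c40) (LK LD1_c8 LD2_c34 LD3_c20) Lrfl Lrfl
theorem f53932 : Led Lsl_bt (LP (LK LD1_c8 LD2_c10 LD3_c48)) = (LP (LK LD1_c4 LD2_c5 LD3_c0)) :=
  Lre_b IH (LK LD1_c8 LD2_c10 LD3_c48) (LK LD1_c4 LD2_c5 LD3_c0) Lrfl Lrfl
theorem f270897 : Led Lsl_ct (LP (LK LD1_c8 LD2_c34 LD3_c20)) = (LP (LK LD1_c8 LD2_c10 LD3_c48)) :=
  Lgr Lrot83 (Lpe (f270896 IH) (Lpr_cf (K16.f270890 IH) (Lpe (K12.f53827 IH) (Lpe (K12.f53651 IH) (Lpe (f53932 IH) (Lpn (LP (LK LD1_c8 LD2_c10 LD3_c48))))))))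
theorem f53922 : Led Lsl_dt (LP (LK LD1_c8 LD2_c10 LD3_c48)) = (LP (LK LD1_c15 LD2_c24 LD3_c8)) :=
  Lre_d IH (LK LD1_c8 LD2_c10 LD3_c48) (LK LD1_c15 LD2_c24 LD3_c8) Lrfl Lrfl
theorem f318422 : Led Lsl_ct (LP (LK LD1_c15 LD2_c24 LD3_c8)) = (LP (LK LD1_c19 LD2_c42 LD3_c35)) :=
  Lgr Lrot59 (Lpr_cf (f318419 IH) (Lpn (LP (LK LD1_c19 LD2_c42 LD3_c35))))
theorem f318536 : Led Lsl_af (LP (LK LD1_c19 LD2_c42 LD3_c35)) = (LP (LK LD1_c15 LD2_c3 LD3_c30)) :=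
  Lgr Lrot109 (Lpe (f318422 IH) (Lpe (f53922 IH) (Lpe (f270897 IH) (Lpr_df (f287761 IH) (Lpr_cf (K17.f224986 IH) (Lpe (K17.f173084 IH) (Lpe (f174053 IH) (Lpe (f174094 IH) (Lpr_ft (f318489 IH) (Lpn (LP (LK LD1_c15 LD2_c3 LD3_c30))))))))))))
theorem f318542 : Led Lsl_at (LP (LK LD1_c15 LD2_c3 LD3_c38)) = (LP (LK LD1_c19 LD2_c42 LD3_c32)) :=
  Lgr Lrot66 (Lpr_ff (f318429 IH) (Lpr_af (f318536 IH) (Lpe (f318489 IH) (Lpn (LP (LK LD1_c19 LD2_c42 LD3_c32))))))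
theorem f219557 : Led Lsl_at (LP (LK LD1_c25 LD2_c44 LD3_c22)) = (LP (LK LD1_c15 LD2_c47 LD3_c39)) :=
  Lre_a IH (LK LD1_c25 LD2_c44 LD3_c22) (LK LD1_c15 LD2_c47 LD3_c39) Lrfl Lrfl
theorem f318546 : Led Lsl_cf (LP (LK LD1_c25 LD2_c44 LD3_c22)) = (LP (LK LD1_c19 LD2_c42 LD3_c32)) :=
  Lgr Lrot1 (Lpr_at (f219557 IH) (Lpe (f275498 IH) (Lpr_at (f318542 IH) (Lpn (LP (LK LD1_c19 LD2_c42 LD3_c32))))))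
theorem f318554 : Led Lsl_ct (LP (LK LD1_c25 LD2_c44 LD3_c22)) = (LP (LK LD1_c19 LD2_c42 LD3_c32)) :=
  Lgr Lrot59 (Lpr_cf (f318546 IH) (Lpn (LP (LK LD1_c19 LD2_c42 LD3_c32))))
theorem f178911 : Led Lsl_ct (LP (LK LD1_c11 LD2_c5 LD3_c10)) = (LP (LK LD1_c19 LD2_c58 LD3_c3)) :=
  Lre_c IH (LK LD1_c11 LD2_c5 LD3_c10) (LK LD1_c19 LD2_c58 LD3_c3) Lrfl Lrfl
theorem f318690 : Led Lsl_gf (LP (LK LD1_c25 LD2_c44 LD3_c22)) = (LP (LK LD1_c19 LD2_c58 LD3_c3)) :=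
  Lgr Lrot104 (Lpr_ct (f318554 IH) (Lpe (f174097 IH) (Lpe (f173662 IH) (Lpe (K9.f173083 IH) (Lpe (f173649 IH) (Lpe (K9.f174076 IH) (Lpe (f174091 IH) (Lpr_gt (f318686 IH) (Lpr_ct (f178911 IH) (Lpn (LP (LK LD1_c19 LD2_c58 LD3_c3))))))))))))
theorem f219575 : Led Lsl_dt (LP (LK LD1_c25 LD2_c44 LD3_c22)) = (LP (LK LD1_c15 LD2_c47 LD3_c38)) :=
  Lre_d IH (LK LD1_c25 LD2_c44 LD3_c22) (LK LD1_c15 LD2_c47 LD3_c38) Lrfl Lrfl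
theorem f53330 : Led Lsl_bt (LP (LK LD1_c4 LD2_c12 LD3_c12)) = (LP (LK LD1_c8 LD2_c23 LD3_c61)) :=
  Lre_b IH (LK LD1_c4 LD2_c12 LD3_c12) (LK LD1_c8 LD2_c23 LD3_c61) Lrfl Lrfl
theorem f219410 : Led Lsl_ff (LP (LK LD1_c8 LD2_c10 LD3_c48)) = (LP (LK LD1_c8 LD2_c23 LD3_c61)) :=
  Lgr Lrot25 (Lpr_bt (f53932 IH) (Lpr_ft (K12.f219408 IH) (Lpr_bt (f53330 IH) (Lpn (LP (LK LD1_c8 LD2_c23 LD3_c61))))))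
theorem f53929 : Led Lsl_at (LP (LK LD1_c8 LD2_c10 LD3_c48)) = (LP (LK LD1_c15 LD2_c24 LD3_c7)) :=
  Lre_a IH (LK LD1_c8 LD2_c10 LD3_c48) (LK LD1_c15 LD2_c24 LD3_c7) Lrfl Lrfl
theorem f219559 : Led Lsl_at (LP (LK LD1_c15 LD2_c47 LD3_c38)) = (LP (LK LD1_c8 LD2_c23 LD3_c61)) :=
  Lre_a IH (LK LD1_c15 LD2_c47 LD3_c38) (LK LD1_c8 LD2_c23 LD3_c61) Lrfl Lrfl
theorem f219560 : Led Lsl_ft (LP (LK LD1_c15 LD2_c24 LD3_c7)) = (LP (LK LD1_c15 LD2_c47 LD3_c38)) :=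
  Lgr Lrot101 (Lpe (f53929 IH) (Lpr_ff (f219410 IH) (Lpe (f219559 IH) (Lpn (LP (LK LD1_c15 LD2_c47 LD3_c38))))))
theorem f219566 : Led Lsl_ff (LP (LK LD1_c15 LD2_c24 LD3_c7)) = (LP (LK LD1_c15 LD2_c47 LD3_c38)) :=
  Lgr Lrot3 (Lpr_ft (f219560 IH) (Lpn (LP (LK LD1_c15 LD2_c47 LD3_c38))))
theorem f53940 : Led Lsl_at (LP (LK LD1_c15 LD2_c24 LD3_c7)) = (LP (LK LD1_c8 LD2_c10 LD3_c48)) :=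
  Lre_a IH (LK LD1_c15 LD2_c24 LD3_c7) (LK LD1_c8 LD2_c10 LD3_c48) Lrfl Lrfl
theorem f53935 : Led Lsl_gt (LP (LK LD1_c15 LD2_c24 LD3_c6)) = (LP (LK LD1_c8 LD2_c10 LD3_c48)) :=
  Lre_g IH (LK LD1_c15 LD2_c24 LD3_c6) (LK LD1_c8 LD2_c10 LD3_c48) Lrfl Lrfl
theorem f219577 : Led Lsl_gf (LP (LK LD1_c15 LD2_c24 LD3_c6)) = (LP (LK LD1_c15 LD2_c47 LD3_c38)) :=
  Lgr Lrot47 (Lpr_gt (f53935 IH) (Lpe (f53940 IH) (Lpr_ff (f219566 IH) (Lpn (LP (LK LD1_c15 LD2_c47 LD3_c38))))))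
theorem f253834 : Led Lsl_dt (LP (LK LD1_c10 LD2_c48 LD3_c44)) = (LP (LK LD1_c5 LD2_c28 LD3_c49)) :=
  Lre_d IH (LK LD1_c10 LD2_c48 LD3_c44) (LK LD1_c5 LD2_c28 LD3_c49) Lrfl Lrfl
theorem f253833 : Led Lsl_ct (LP (LK LD1_c5 LD2_c28 LD3_c49)) = (LP (LK LD1_c10 LD2_c48 LD3_c43)) :=
  Lre_c IH (LK LD1_c5 LD2_c28 LD3_c49) (LK LD1_c10 LD2_c48 LD3_c43) Lrfl Lrfl
theorem f253840 : Led Lsl_dt (LP (LK LD1_c19 LD2_c32 LD3_c52)) = (LP (LK LD1_c10 LD2_c48 LD3_c43)) :=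
  Lre_d IH (LK LD1_c19 LD2_c32 LD3_c52) (LK LD1_c10 LD2_c48 LD3_c43) Lrfl Lrfl
theorem f173835 : Led Lsl_gt (LP (LK LD1_c5 LD2_c31 LD3_c30)) = (LP (LK LD1_c10 LD2_c54 LD3_c38)) :=
  Lre_g IH (LK LD1_c5 LD2_c31 LD3_c30) (LK LD1_c10 LD2_c54 LD3_c38) Lrfl Lrfl
theorem f173836 : Led Lsl_dt (LP (LK LD1_c10 LD2_c54 LD3_c38)) = (LP (LK LD1_c19 LD2_c42 LD3_c42)) :=
  Lre_d IH (LK LD1_c10 LD2_c54 LD3_c38) (LK LD1_c19 LD2_c42 LD3_c42) Lrfl Lrfl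
theorem f289582 : Led Lsl_gf (LP (LK LD1_c19 LD2_c32 LD3_c52)) = (LP (LK LD1_c19 LD2_c42 LD3_c42)) :=
  Lgr Lrot143 (Lpr_dt (f253840 IH) (Lpe (f253833 IH) (Lpe (f253834 IH) (Lpr_gf (f289578 IH) (Lpe (K17.f173084 IH) (Lpe (K9.f173083 IH) (Lpe (f173649 IH) (Lpr_gt (f173835 IH) (Lpr_dt (f173836 IH) (Lpn (LP (LK LD1_c19 LD2_c42 LD3_c42))))))))))))
theorem f253882 : Led Lsl_at (LP (LK LD1_c10 LD2_c48 LD3_c48)) = (LP (LK LD1_c19 LD2_c32 LD3_c52)) :=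
  Lre_a IH (LK LD1_c10 LD2_c48 LD3_c48) (LK LD1_c19 LD2_c32 LD3_c52) Lrfl Lrfl
theorem f253805 : Led Lsl_dt (LP (LK LD1_c10 LD2_c48 LD3_c48)) = (LP (LK LD1_c5 LD2_c28 LD3_c50)) :=
  Lre_d IH (LK LD1_c10 LD2_c48 LD3_c48) (LK LD1_c5 LD2_c28 LD3_c50) Lrfl Lrfl
theorem f178910 : Led Lsl_dt (LP (LK LD1_c5 LD2_c36 LD3_c31)) = (LP (LK LD1_c11 LD2_c5 LD3_c10)) :=
  Lre_d IH (LK LD1_c5 LD2_c36 LD3_c31) (LK LD1_c11 LD2_c5 LD3_c10) Lrfl Lrfl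
theorem f253806 : Led Lsl_ff (LP (LK LD1_c10 LD2_c48 LD3_c48)) = (LP (LK LD1_c11 LD2_c5 LD3_c10)) :=
  Lgr Lrot19 (Lpr_dt (f253805 IH) (Lpr_ft (K14.f253798 IH) (Lpr_dt (f178910 IH) (Lpn (LP (LK LD1_c11 LD2_c5 LD3_c10))))))
theorem f289585 : Led Lsl_gt (LP (LK LD1_c11 LD2_c5 LD3_c10)) = (LP (LK LD1_c19 LD2_c42 LD3_c42)) :=
  Lgr Lrot5 (Lpe (f253806 IH) (Lpr_at (f253882 IH) (Lpr_gf (f289582 IH) (Lpn (LP (LK LD1_c19 LD2_c42 LD3_c42))))))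
theorem f174018 : Led Lsl_dt (LP (LK LD1_c19 LD2_c42 LD3_c42)) = (LP (LK LD1_c10 LD2_c54 LD3_c38)) :=
  Lre_d IH (LK LD1_c19 LD2_c42 LD3_c42) (LK LD1_c10 LD2_c54 LD3_c38) Lrfl Lrfl
theorem f173625 : Led Lsl_ff (LP (LK LD1_c3 LD2_c58 LD3_c32)) = (LP (LK LD1_c5 LD2_c31 LD3_c30)) :=
  Lgr Lrot23 (Lpr_ct (K16.f54885 IH) (Lpr_ft (K9.f173609 IH) (Lpr_ct (K9.f173076 IH) (Lpn (LP (LK LD1_c5 LD2_c31 LD3_c30))))))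
theorem f54751 : Led Lsl_at (LP (LK LD1_c3 LD2_c58 LD3_c32)) = (LP (LK LD1_c7 LD2_c58 LD3_c34)) :=
  Lre_a IH (LK LD1_c3 LD2_c58 LD3_c32) (LK LD1_c7 LD2_c58 LD3_c34) Lrfl Lrfl
theorem f174016 : Led Lsl_gf (LP (LK LD1_c7 LD2_c58 LD3_c34)) = (LP (LK LD1_c10 LD2_c54 LD3_c38)) :=
  Lgr Lrot76 (Lpe (f54751 IH) (Lpr_ff (f173625 IH) (Lpr_gt (f173835 IH) (Lpn (LP (LK LD1_c10 LD2_c54 LD3_c38))))))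
theorem f54764 : Led Lsl_dt (LP (LK LD1_c7 LD2_c58 LD3_c34)) = (LP (LK LD1_c15 LD2_c2 LD3_c55)) :=
  Lre_d IH (LK LD1_c7 LD2_c58 LD3_c34) (LK LD1_c15 LD2_c2 LD3_c55) Lrfl Lrfl
theorem f42859 : Led Lsl_ct (LP (LK LD1_c24 LD2_c51 LD3_c53)) = (LP (LK LD1_c15 LD2_c2 LD3_c55)) :=
  Lre_c IH (LK LD1_c24 LD2_c51 LD3_c53) (LK LD1_c15 LD2_c2 LD3_c55) Lrfl Lrfl
theorem f318700 : Led Lsl_dt (LP (LK LD1_c15 LD2_c24 LD3_c6)) = (LP (LK LD1_c24 LD2_c51 LD3_c53)) :=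
  Lgr Lrot105 (Lpr_gf (f219577 IH) (Lpe (f219575 IH) (Lpr_gf (f318690 IH) (Lpe (f178911 IH) (Lpr_gt (f289585 IH) (Lpr_dt (f174018 IH) (Lpe (f174016 IH) (Lpr_dt (f54764 IH) (Lpe (f42859 IH) (Lpn (LP (LK LD1_c24 LD2_c51 LD3_c53))))))))))))
theorem f54779 : Led Lsl_ct (LP (LK LD1_c7 LD2_c58 LD3_c34)) = (LP (LK LD1_c3 LD2_c58 LD3_c46)) :=
  Lre_c IH (LK LD1_c7 LD2_c58 LD3_c34) (LK LD1_c3 LD2_c58 LD3_c46) Lrfl Lrfl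
theorem f140353 : Led Lsl_dt (LP (LK LD1_c4 LD2_c57 LD3_c35)) = (LP (LK LD1_c9 LD2_c46 LD3_c0)) :=
  Lre_d IH (LK LD1_c4 LD2_c57 LD3_c35) (LK LD1_c9 LD2_c46 LD3_c0) Lrfl Lrfl
theorem f318707 : Led Lsl_cf (LP (LK LD1_c15 LD2_c24 LD3_c6)) = (LP (LK LD1_c9 LD2_c46 LD3_c0)) :=
  Lgr Lrot116 (Lpr_dt (f318700 IH) (Lpr_ct (f42859 IH) (Lpr_dt (K12.f54759 IH) (Lpr_ct (f54779 IH) (Lpe (K1.f41057 IH) (Lpr_ff (K9.f173542 IH) (Lpe (K9.f173627 IH) (Lpr_ct (K9.f140366 IH) (Lpr_dt (f140353 IH) (Lpn (LP (LK LD1_c9 LD2_c46 LD3_c0))))))))))))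
theorem f140443 : Led Lsl_at (LP (LK LD1_c17 LD2_c55 LD3_c43)) = (LP (LK LD1_c9 LD2_c46 LD3_c0)) :=
  Lre_a IH (LK LD1_c17 LD2_c55 LD3_c43) (LK LD1_c9 LD2_c46 LD3_c0) Lrfl Lrfl
theorem f227978 : Led Lsl_df (LP (LK LD1_c1 LD2_c55 LD3_c16)) = (LP (LK LD1_c2 LD2_c6 LD3_c60)) :=
  Lgr Lrot84 (Lpr_cf (K11.f173356 IH) (Lpr_df (K12.f6803 IH) (Lpr_gf (K12.f216325 IH) (Lpe (K12.f28572 IH) (Lpe (K11.f28571 IH) (Lpe (K9.f52240 IH) (Lpe (K12.f180106 IH) (Lpr_dt (K10.f170692 IH) (Lpr_gt (K12.f227976 IH) (Lpn (LP (LK LD1_c2 LD2_c6 LD3_c60))))))))))))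
theorem f53331 : Led Lsl_gt (LP (LK LD1_c8 LD2_c23 LD3_c61)) = (LP (LK LD1_c15 LD2_c47 LD3_c36)) :=
  Lre_g IH (LK LD1_c8 LD2_c23 LD3_c61) (LK LD1_c15 LD2_c47 LD3_c36) Lrfl Lrfl
theorem f173895 : Led Lsl_bt (LP (LK LD1_c7 LD2_c58 LD3_c35)) = (LP (LK LD1_c3 LD2_c58 LD3_c33)) :=
  Lre_b IH (LK LD1_c7 LD2_c58 LD3_c35) (LK LD1_c3 LD2_c58 LD3_c33) Lrfl Lrfl
theorem f173703 : Led Lsl_ct (LP (LK LD1_c15 LD2_c2 LD3_c58)) = (LP (LK LD1_c7 LD2_c58 LD3_c35)) :=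
  Lre_c IH (LK LD1_c15 LD2_c2 LD3_c58) (LK LD1_c7 LD2_c58 LD3_c35) Lrfl Lrfl
theorem f275381 : Led Lsl_dt (LP (LK LD1_c15 LD2_c47 LD3_c36)) = (LP (LK LD1_c15 LD2_c2 LD3_c58)) :=
  Lgr Lrot182 (Lpe (f53331 IH) (Lpe (f53330 IH) (Lpe (K12.f53329 IH) (Lpe (K12.f53328 IH) (Lpe (K15.f53327 IH) (Lpe (K10.f51603 IH) (Lpe (K9.f51596 IH) (Lpe (K9.f51597 IH) (Lpe (K9.f53321 IH) (Lpe (K11.f6801 IH) (Lpe (K11.f173353 IH) (Lpr_df (f227978 IH) (Lpe (K12.f227976 IH) (Lpe (K12.f170697 IH) (Lpe (K12.f170791 IH) (Lpr_df (K16.f275365 IH) (Lpe (K16.f42711 IH) (Lpe (f173895 IH) (Lpe (f173703 IH) (Lpn (LP (LK LD1_c15 LD2_c2 LD3_c58))))))))))))))))))))))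
theorem f140362 : Led Lsl_ct (LP (LK LD1_c4 LD2_c57 LD3_c48)) = (LP (LK LD1_c9 LD2_c45 LD3_c61)) :=
  Lre_c IH (LK LD1_c4 LD2_c57 LD3_c48) (LK LD1_c9 LD2_c45 LD3_c61) Lrfl Lrfl
theorem f140388 : Led Lsl_dt (LP (LK LD1_c9 LD2_c45 LD3_c61)) = (LP (LK LD1_c17 LD2_c55 LD3_c43)) :=
  Lre_d IH (LK LD1_c9 LD2_c45 LD3_c61) (LK LD1_c17 LD2_c55 LD3_c43) Lrfl Lrfl
theorem f275403 : Led Lsl_cf (LP (LK LD1_c15 LD2_c47 LD3_c36)) = (LP (LK LD1_c17 LD2_c55 LD3_c43)) :=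
  Lgr Lrot116 (Lpr_dt (f275381 IH) (Lpr_ct (f173703 IH) (Lpr_dt (K12.f54915 IH) (Lpr_ct (K16.f54885 IH) (Lpe (K16.f54765 IH) (Lpr_ff (K16.f173622 IH) (Lpe (K9.f173692 IH) (Lpr_ct (f140362 IH) (Lpr_dt (f140388 IH) (Lpn (LP (LK LD1_c17 LD2_c55 LD3_c43))))))))))))
theorem f275405 : Led Lsl_ct (LP (LK LD1_c15 LD2_c47 LD3_c36)) = (LP (LK LD1_c17 LD2_c55 LD3_c43)) :=
  Lgr Lrot59 (Lpr_cf (f275403 IH) (Lpn (LP (LK LD1_c17 LD2_c55 LD3_c43))))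
theorem f318710 : Led Lsl_at (LP (LK LD1_c15 LD2_c24 LD3_c6)) = (LP (LK LD1_c15 LD2_c47 LD3_c36)) :=
  Lgr Lrot107 (Lpr_cf (f318707 IH) (Lpe (f140443 IH) (Lpe (f275405 IH) (Lpn (LP (LK LD1_c15 LD2_c47 LD3_c36))))))
theorem f219568 : Led Lsl_gt (LP (LK LD1_c15 LD2_c47 LD3_c37)) = (LP (LK LD1_c8 LD2_c23 LD3_c61)) :=
  Lre_g IH (LK LD1_c15 LD2_c47 LD3_c37) (LK LD1_c8 LD2_c23 LD3_c61) Lrfl Lrfl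
theorem f318957 : Led Lsl_ff (LP (LK LD1_c15 LD2_c24 LD3_c6)) = (LP (LK LD1_c15 LD2_c47 LD3_c37)) :=
  Lgr Lrot52 (Lpr_at (f318710 IH) (Lpe (f53331 IH) (Lpe (f219568 IH) (Lpn (LP (LK LD1_c15 LD2_c47 LD3_c37))))))
theorem f219571 : Led Lsl_dt (LP (LK LD1_c15 LD2_c47 LD3_c37)) = (LP (LK LD1_c25 LD2_c44 LD3_c20)) :=
  Lre_d IH (LK LD1_c15 LD2_c47 LD3_c37) (LK LD1_c25 LD2_c44 LD3_c20) Lrfl Lrfl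
theorem f173632 : Led Lsl_dt (LP (LK LD1_c19 LD2_c42 LD3_c40)) = (LP (LK LD1_c10 LD2_c54 LD3_c36)) :=
  Lre_d IH (LK LD1_c19 LD2_c42 LD3_c40) (LK LD1_c10 LD2_c54 LD3_c36) Lrfl Lrfl
theorem f318959 : Led Lsl_ct (LP (LK LD1_c25 LD2_c44 LD3_c20)) = (LP (LK LD1_c19 LD2_c42 LD3_c40)) :=
  Lgr Lrot133 (Lpe (f219571 IH) (Lpe (f318957 IH) (Lpr_at (f318710 IH) (Lpr_cf (f275403 IH) (Lpe (f140388 IH) (Lpe (f140362 IH) (Lpr_df (K9.f173692 IH) (Lpe (K16.f173631 IH) (Lpe (f173632 IH) (Lpn (LP (LK LD1_c19 LD2_c42 LD3_c40))))))))))))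
theorem f140340 : Led Lsl_dt (LP (LK LD1_c7 LD2_c59 LD3_c2)) = (LP (LK LD1_c15 LD2_c3 LD3_c44)) :=
  Lre_d IH (LK LD1_c7 LD2_c59 LD3_c2) (LK LD1_c15 LD2_c3 LD3_c44) Lrfl Lrfl
theorem f318965 : Led Lsl_cf (LP (LK LD1_c15 LD2_c47 LD3_c37)) = (LP (LK LD1_c15 LD2_c3 LD3_c44)) :=
  Lgr Lrot55 (Lpr_dt (f219571 IH) (Lpr_ct (f318959 IH) (Lpr_dt (f173632 IH) (Lpr_ct (K16.f173631 IH) (Lpe (K9.f173692 IH) (Lpr_ct (f140362 IH) (Lpr_dt (f140388 IH) (Lpe (f275403 IH) (Lpr_dt (f275381 IH) (Lpr_ct (f173703 IH) (Lpr_dt (K12.f54915 IH) (Lpr_ct (K16.f54885 IH) (Lpr_dt (K9.f54790 IH) (Lpr_ct (K9.f40740 IH) (Lpr_dt (f140340 IH) (Lpn (LP (LK LD1_c15 LD2_c3 LD3_c44))))))))))))))))))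
theorem f270581 : Led Lsl_et (LP (LK LD1_c4 LD2_c21 LD3_c2)) = (LP (LK LD1_c4 LD2_c52 LD3_c9)) :=
  Lgr Lrot87 (Lpr_ef (K17.f270576 IH) (Lpn (LP (LK LD1_c4 LD2_c52 LD3_c9))))
theorem f42001 : Led Lsl_bt (LP (LK LD1_c8 LD2_c39 LD3_c49)) = (LP (LK LD1_c4 LD2_c21 LD3_c2)) :=
  Lre_b IH (LK LD1_c8 LD2_c39 LD3_c49) (LK LD1_c4 LD2_c21 LD3_c2) Lrfl Lrfl
theorem f270572 : Led Lsl_bt (LP (LK LD1_c4 LD2_c52 LD3_c9)) = (LP (LK LD1_c9 LD2_c36 LD3_c41)) :=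
  Lre_b IH (LK LD1_c4 LD2_c52 LD3_c9) (LK LD1_c9 LD2_c36 LD3_c41) Lrfl Lrfl
theorem f270583 : Led Lsl_ef (LP (LK LD1_c8 LD2_c39 LD3_c49)) = (LP (LK LD1_c9 LD2_c36 LD3_c41)) :=
  Lgr Lrot29 (Lpr_bt (f42001 IH) (Lpr_et (f270581 IH) (Lpr_bt (f270572 IH) (Lpn (LP (LK LD1_c9 LD2_c36 LD3_c41))))))
theorem f41984 : Led Lsl_bt (LP (LK LD1_c5 LD2_c21 LD3_c13)) = (LP (LK LD1_c2 LD2_c37 LD3_c11)) :=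
  Lre_b IH (LK LD1_c5 LD2_c21 LD3_c13) (LK LD1_c2 LD2_c37 LD3_c11) Lrfl Lrfl
theorem f41986 : Led Lsl_bt (LP (LK LD1_c4 LD2_c21 LD3_c2)) = (LP (LK LD1_c8 LD2_c39 LD3_c49)) :=
  Lre_b IH (LK LD1_c4 LD2_c21 LD3_c2) (LK LD1_c8 LD2_c39 LD3_c49) Lrfl Lrfl
theorem f41987 : Led Lsl_cf (LP (LK LD1_c5 LD2_c21 LD3_c13)) = (LP (LK LD1_c8 LD2_c39 LD3_c49)) :=
  Lgr Lrot97 (Lpr_bt (f41984 IH) (Lpr_ct (K9.f41896 IH) (Lpr_bt (K1.f41978 IH) (Lpr_ct (K15.f41985 IH) (Lpr_bt (f41986 IH) (Lpn (LP (LK LD1_c8 LD2_c39 LD3_c49))))))))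
theorem f42067 : Led Lsl_bt (LP (LK LD1_c2 LD2_c58 LD3_c21)) = (LP (LK LD1_c6 LD2_c4 LD3_c18)) :=
  Lre_b IH (LK LD1_c2 LD2_c58 LD3_c21) (LK LD1_c6 LD2_c4 LD3_c18) Lrfl Lrfl
theorem f42087 : Led Lsl_et (LP (LK LD1_c6 LD2_c4 LD3_c18)) = (LP (LK LD1_c5 LD2_c21 LD3_c13)) :=
  Lgr Lrot74 (Lpe (f42067 IH) (Lpr_ef (K9.f42085 IH) (Lpe (f41984 IH) (Lpn (LP (LK LD1_c5 LD2_c21 LD3_c13))))))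
theorem f42103 : Led Lsl_ef (LP (LK LD1_c6 LD2_c4 LD3_c18)) = (LP (LK LD1_c5 LD2_c21 LD3_c13)) :=
  Lgr Lrot88 (Lpr_et (f42087 IH) (Lpn (LP (LK LD1_c5 LD2_c21 LD3_c13))))
theorem f270600 : Led Lsl_ct (LP (LK LD1_c6 LD2_c4 LD3_c18)) = (LP (LK LD1_c9 LD2_c36 LD3_c41)) :=
  Lgr Lrot15 (Lpr_ef (f42103 IH) (Lpr_cf (f41987 IH) (Lpr_ef (f270583 IH) (Lpn (LP (LK LD1_c9 LD2_c36 LD3_c41))))))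
theorem f270603 : Led Lsl_cf (LP (LK LD1_c6 LD2_c4 LD3_c18)) = (LP (LK LD1_c9 LD2_c36 LD3_c41)) :=
  Lgr Lrot11 (Lpr_ct (f270600 IH) (Lpn (LP (LK LD1_c9 LD2_c36 LD3_c41))))
theorem f270578 : Led Lsl_bt (LP (LK LD1_c9 LD2_c36 LD3_c41)) = (LP (LK LD1_c4 LD2_c52 LD3_c9)) :=
  Lre_b IH (LK LD1_c9 LD2_c36 LD3_c41) (LK LD1_c4 LD2_c52 LD3_c9) Lrfl Lrfl
theorem f188859 : Led Lsl_bt (LP (LK LD1_c4 LD2_c18 LD3_c37)) = (LP (LK LD1_c8 LD2_c35 LD3_c56)) :=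
  Lre_b IH (LK LD1_c4 LD2_c18 LD3_c37) (LK LD1_c8 LD2_c35 LD3_c56) Lrfl Lrfl
theorem f53136 : Led Lsl_bt (LP (LK LD1_c0 LD2_c12 LD3_c8)) = (LP (LK LD1_c0 LD2_c27 LD3_c23)) :=
  Lre_b IH (LK LD1_c0 LD2_c12 LD3_c8) (LK LD1_c0 LD2_c27 LD3_c23) Lrfl Lrfl
theorem f173469 : Led Lsl_bt (LP (LK LD1_c2 LD2_c12 LD3_c13)) = (LP (LK LD1_c1 LD2_c3 LD3_c1)) :=
  Lre_b IH (LK LD1_c2 LD2_c12 LD3_c13) (LK LD1_c1 LD2_c3 LD3_c1) Lrfl Lrfl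
theorem f225248 : Led Lsl_ct (LP (LK LD1_c4 LD2_c30 LD3_c33)) = (LP (LK LD1_c2 LD2_c12 LD3_c13)) :=
  Lre_c IH (LK LD1_c4 LD2_c30 LD3_c33) (LK LD1_c2 LD2_c12 LD3_c13) Lrfl Lrfl
theorem f225249 : Led Lsl_dt (LP (LK LD1_c8 LD2_c59 LD3_c27)) = (LP (LK LD1_c4 LD2_c30 LD3_c33)) :=
  Lre_d IH (LK LD1_c8 LD2_c59 LD3_c27) (LK LD1_c4 LD2_c30 LD3_c33) Lrfl Lrfl
theorem f247333 : Led Lsl_gt (LP (LK LD1_c8 LD2_c35 LD3_c56)) = (LP (LK LD1_c8 LD2_c59 LD3_c27)) :=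
  Lgr Lrot190 (Lpe (f188859 IH) (Lpe (K12.f188827 IH) (Lpe (K12.f171483 IH) (Lpe (K10.f171482 IH) (Lpe (f53136 IH) (Lpe (K9.f8005 IH) (Lpe (K9.f8015 IH) (Lpe (K9.f179111 IH) (Lpe (K12.f168314 IH) (Lpe (K11.f168315 IH) (Lpe (K14.f223693 IH) (Lpe (K12.f200702 IH) (Lpr_bf (K14.f247327 IH) (Lpe (K12.f167838 IH) (Lpr_df (K12.f225187 IH) (Lpe (K9.f9232 IH) (Lpe (f173469 IH) (Lpe (f225248 IH) (Lpe (f225249 IH) (Lpn (LP (LK LD1_c8 LD2_c59 LD3_c27))))))))))))))))))))))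
theorem f243794 : Led Lsl_bt (LP (LK LD1_c5 LD2_c44 LD3_c46)) = (LP (LK LD1_c8 LD2_c59 LD3_c27)) :=
  Lre_b IH (LK LD1_c5 LD2_c44 LD3_c46) (LK LD1_c8 LD2_c59 LD3_c27) Lrfl Lrfl
theorem f270607 : Led Lsl_ct (LP (LK LD1_c5 LD2_c44 LD3_c46)) = (LP (LK LD1_c9 LD2_c45 LD3_c47)) :=
  Lre_c IH (LK LD1_c5 LD2_c44 LD3_c46) (LK LD1_c9 LD2_c45 LD3_c47) Lrfl Lrfl
theorem f270608 : Led Lsl_gf (LP (LK LD1_c6 LD2_c4 LD3_c18)) = (LP (LK LD1_c9 LD2_c45 LD3_c47)) :=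
  Lgr Lrot126 (Lpr_cf (f270603 IH) (Lpr_bt (f270578 IH) (Lpr_gt (K14.f2878 IH) (Lpr_ct (K14.f2875 IH) (Lpe (K14.f221828 IH) (Lpe (K12.f188812 IH) (Lpr_bt (f188859 IH) (Lpr_gt (f247333 IH) (Lpe (f243794 IH) (Lpr_ct (f270607 IH) (Lpn (LP (LK LD1_c9 LD2_c45 LD3_c47)))))))))))))
theorem f270610 : Led Lsl_ft (LP (LK LD1_c9 LD2_c45 LD3_c47)) = (LP (LK LD1_c5 LD2_c44 LD3_c44)) :=
  Lre_f IH (LK LD1_c9 LD2_c45 LD3_c47) (LK LD1_c5 LD2_c44 LD3_c44) Lrfl Lrfl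
theorem f140391 : Led Lsl_at (LP (LK LD1_c5 LD2_c44 LD3_c44)) = (LP (LK LD1_c9 LD2_c46 LD3_c5)) :=
  Lre_a IH (LK LD1_c5 LD2_c44 LD3_c44) (LK LD1_c9 LD2_c46 LD3_c5) Lrfl Lrfl
theorem f270611 : Led Lsl_gt (LP (LK LD1_c6 LD2_c4 LD3_c18)) = (LP (LK LD1_c9 LD2_c46 LD3_c5)) :=
  Lgr Lrot46 (Lpr_gf (f270608 IH) (Lpr_ft (f270610 IH) (Lpr_at (f140391 IH) (Lpn (LP (LK LD1_c9 LD2_c46 LD3_c5))))))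
theorem f170643 : Led Lsl_bt (LP (LK LD1_c2 LD2_c2 LD3_c58)) = (LP (LK LD1_c4 LD2_c11 LD3_c28)) :=
  Lre_b IH (LK LD1_c2 LD2_c2 LD3_c58) (LK LD1_c4 LD2_c11 LD3_c28) Lrfl Lrfl
theorem f171008 : Led Lsl_gt (LP (LK LD1_c8 LD2_c22 LD3_c40)) = (LP (LK LD1_c4 LD2_c11 LD3_c28)) :=
  Lre_g IH (LK LD1_c8 LD2_c22 LD3_c40) (LK LD1_c4 LD2_c11 LD3_c28) Lrfl Lrfl
theorem f200134 : Led Lsl_bt (LP (LK LD1_c15 LD2_c45 LD3_c51)) = (LP (LK LD1_c8 LD2_c22 LD3_c40)) :=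
  Lre_b IH (LK LD1_c15 LD2_c45 LD3_c51) (LK LD1_c8 LD2_c22 LD3_c40) Lrfl Lrfl
theorem f140404 : Led Lsl_ct (LP (LK LD1_c9 LD2_c46 LD3_c5)) = (LP (LK LD1_c5 LD2_c44 LD3_c5)) :=
  Lre_c IH (LK LD1_c9 LD2_c46 LD3_c5) (LK LD1_c5 LD2_c44 LD3_c5) Lrfl Lrfl
theorem f140405 : Led Lsl_gt (LP (LK LD1_c5 LD2_c44 LD3_c5)) = (LP (LK LD1_c11 LD2_c18 LD3_c12)) :=
  Lre_g IH (LK LD1_c5 LD2_c44 LD3_c5) (LK LD1_c11 LD2_c18 LD3_c12) Lrfl Lrfl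
theorem f270619 : Led Lsl_ct (LP (LK LD1_c15 LD2_c45 LD3_c51)) = (LP (LK LD1_c11 LD2_c18 LD3_c12)) :=
  Lgr Lrot63 (Lpr_bt (f200134 IH) (Lpr_gt (f171008 IH) (Lpe (f170643 IH) (Lpr_ct (K15.f170630 IH) (Lpe (K11.f200129 IH) (Lpe (K9.f29016 IH) (Lpr_bt (f42067 IH) (Lpr_gt (f270611 IH) (Lpr_ct (f140404 IH) (Lpr_gt (f140405 IH) (Lpn (LP (LK LD1_c11 LD2_c18 LD3_c12)))))))))))))
theorem f170992 : Led Lsl_ct (LP (LK LD1_c4 LD2_c11 LD3_c28)) = (LP (LK LD1_c2 LD2_c2 LD3_c60)) :=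
  Lre_c IH (LK LD1_c4 LD2_c11 LD3_c28) (LK LD1_c2 LD2_c2 LD3_c60) Lrfl Lrfl
theorem f53152 : Led Lsl_gt (LP (LK LD1_c2 LD2_c2 LD3_c60)) = (LP (LK LD1_c4 LD2_c11 LD3_c34)) :=
  Lre_g IH (LK LD1_c2 LD2_c2 LD3_c60) (LK LD1_c4 LD2_c11 LD3_c34) Lrfl Lrfl
theorem f270625 : Led Lsl_ct (LP (LK LD1_c8 LD2_c22 LD3_c55)) = (LP (LK LD1_c4 LD2_c11 LD3_c34)) :=
  Lre_c IH (LK LD1_c8 LD2_c22 LD3_c55) (LK LD1_c4 LD2_c11 LD3_c34) Lrfl Lrfl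
theorem f270626 : Led Lsl_bt (LP (LK LD1_c8 LD2_c22 LD3_c55)) = (LP (LK LD1_c15 LD2_c46 LD3_c14)) :=
  Lre_b IH (LK LD1_c8 LD2_c22 LD3_c55) (LK LD1_c15 LD2_c46 LD3_c14) Lrfl Lrfl
theorem f140369 : Led Lsl_dt (LP (LK LD1_c9 LD2_c46 LD3_c0)) = (LP (LK LD1_c4 LD2_c57 LD3_c35)) :=
  Lre_d IH (LK LD1_c9 LD2_c46 LD3_c0) (LK LD1_c4 LD2_c57 LD3_c35) Lrfl Lrfl
theorem f140370 : Led Lsl_ff (LP (LK LD1_c9 LD2_c46 LD3_c0)) = (LP (LK LD1_c15 LD2_c3 LD3_c44)) :=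
  Lgr Lrot19 (Lpr_dt (f140369 IH) (Lpr_ft (K9.f140360 IH) (Lpr_dt (f140340 IH) (Lpn (LP (LK LD1_c15 LD2_c3 LD3_c44))))))
theorem f140376 : Led Lsl_bt (LP (LK LD1_c9 LD2_c46 LD3_c0)) = (LP (LK LD1_c4 LD2_c57 LD3_c36)) :=
  Lre_b IH (LK LD1_c9 LD2_c46 LD3_c0) (LK LD1_c4 LD2_c57 LD3_c36) Lrfl Lrfl
theorem f140377 : Led Lsl_ft (LP (LK LD1_c4 LD2_c57 LD3_c36)) = (LP (LK LD1_c9 LD2_c46 LD3_c5)) :=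
  Lre_f IH (LK LD1_c4 LD2_c57 LD3_c36) (LK LD1_c9 LD2_c46 LD3_c5) Lrfl Lrfl
theorem f140378 : Led Lsl_bt (LP (LK LD1_c9 LD2_c46 LD3_c5)) = (LP (LK LD1_c15 LD2_c3 LD3_c44)) :=
  Lgr Lrot35 (Lpe (f140377 IH) (Lpe (f140376 IH) (Lpr_ff (f140370 IH) (Lpn (LP (LK LD1_c15 LD2_c3 LD3_c44))))))
theorem f270627 : Led Lsl_gt (LP (LK LD1_c15 LD2_c46 LD3_c14)) = (LP (LK LD1_c15 LD2_c3 LD3_c44)) :=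
  Lgr Lrot164 (Lpe (f270626 IH) (Lpr_ct (f270625 IH) (Lpe (f53152 IH) (Lpe (f170992 IH) (Lpe (f171008 IH) (Lpe (f200134 IH) (Lpr_ct (f270619 IH) (Lpe (f140405 IH) (Lpe (f140404 IH) (Lpr_bt (f140378 IH) (Lpn (LP (LK LD1_c15 LD2_c3 LD3_c44)))))))))))))
theorem f171033 : Led Lsl_bt (LP (LK LD1_c4 LD2_c11 LD3_c28)) = (LP (LK LD1_c2 LD2_c2 LD3_c58)) :=
  Lre_b IH (LK LD1_c4 LD2_c11 LD3_c28) (LK LD1_c2 LD2_c2 LD3_c58) Lrfl Lrfl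
theorem f200137 : Led Lsl_bt (LP (LK LD1_c8 LD2_c22 LD3_c37)) = (LP (LK LD1_c4 LD2_c11 LD3_c27)) :=
  Lre_b IH (LK LD1_c8 LD2_c22 LD3_c37) (LK LD1_c4 LD2_c11 LD3_c27) Lrfl Lrfl
theorem f319013 : Led Lsl_cf (LP (LK LD1_c8 LD2_c23 LD3_c61)) = (LP (LK LD1_c8 LD2_c22 LD3_c37)) :=
  Lgr Lrot163 (Lpe (f219568 IH) (Lpr_cf (f318965 IH) (Lpe (f270627 IH) (Lpe (f270626 IH) (Lpr_ct (f270625 IH) (Lpe (f53152 IH) (Lpe (f170992 IH) (Lpr_bt (f171033 IH) (Lpe (K15.f167007 IH) (Lpe (f200137 IH) (Lpn (LP (LK LD1_c8 LD2_c22 LD3_c37)))))))))))))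
theorem f170230 : Led Lsl_bt (LP (LK LD1_c4 LD2_c17 LD3_c41)) = (LP (LK LD1_c2 LD2_c6 LD3_c11)) :=
  Lre_b IH (LK LD1_c4 LD2_c17 LD3_c41) (LK LD1_c2 LD2_c6 LD3_c11) Lrfl Lrfl
theorem f167298 : Led Lsl_ct (LP (LK LD1_c4 LD2_c17 LD3_c41)) = (LP (LK LD1_c2 LD2_c6 LD3_c13)) :=
  Lre_c IH (LK LD1_c4 LD2_c17 LD3_c41) (LK LD1_c2 LD2_c6 LD3_c13) Lrfl Lrfl
theorem f7932 : Led Lsl_gt (LP (LK LD1_c2 LD2_c6 LD3_c13)) = (LP (LK LD1_c4 LD2_c17 LD3_c47)) :=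
  Lre_g IH (LK LD1_c2 LD2_c6 LD3_c13) (LK LD1_c4 LD2_c17 LD3_c47) Lrfl Lrfl
theorem f318720 : Led Lsl_ct (LP (LK LD1_c8 LD2_c34 LD3_c40)) = (LP (LK LD1_c4 LD2_c17 LD3_c47)) :=
  Lre_c IH (LK LD1_c8 LD2_c34 LD3_c40) (LK LD1_c4 LD2_c17 LD3_c47) Lrfl Lrfl
theorem f318721 : Led Lsl_bt (LP (LK LD1_c8 LD2_c34 LD3_c40)) = (LP (LK LD1_c16 LD2_c5 LD3_c51)) :=
  Lre_b IH (LK LD1_c8 LD2_c34 LD3_c40) (LK LD1_c16 LD2_c5 LD3_c51) Lrfl Lrfl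
theorem f318722 : Led Lsl_gt (LP (LK LD1_c16 LD2_c5 LD3_c51)) = (LP (LK LD1_c9 LD2_c46 LD3_c0)) :=
  Lgr Lrot82 (Lpe (f318721 IH) (Lpr_ct (f318720 IH) (Lpe (f7932 IH) (Lpe (f167298 IH) (Lpr_bt (f170230 IH) (Lpe (K16.f7962 IH) (Lpe (f232847 IH) (Lpr_ct (f270897 IH) (Lpe (f53935 IH) (Lpr_cf (f318707 IH) (Lpn (LP (LK LD1_c9 LD2_c46 LD3_c0)))))))))))))
theorem f253835 : Led Lsl_ct (LP (LK LD1_c19 LD2_c32 LD3_c54)) = (LP (LK LD1_c10 LD2_c48 LD3_c44)) :=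
  Lre_c IH (LK LD1_c19 LD2_c32 LD3_c54) (LK LD1_c10 LD2_c48 LD3_c44) Lrfl Lrfl
theorem f318726 : Led Lsl_df (LP (LK LD1_c16 LD2_c5 LD3_c51)) = (LP (LK LD1_c10 LD2_c59 LD3_c46)) :=
  Lgr Lrot153 (Lpr_gt (f318722 IH) (Lpr_dt (f140369 IH) (Lpe (K9.f140366 IH) (Lpr_df (K9.f173627 IH) (Lpe (f173658 IH) (Lpe (f173659 IH) (Lpr_gf (f318681 IH) (Lpe (f253835 IH) (Lpr_gt (f289576 IH) (Lpn (LP (LK LD1_c10 LD2_c59 LD3_c46))))))))))))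
theorem f318846 : Led Lsl_dt (LP (LK LD1_c16 LD2_c5 LD3_c51)) = (LP (LK LD1_c10 LD2_c59 LD3_c46)) :=
  Lgr Lrot42 (Lpr_df (f318726 IH) (Lpn (LP (LK LD1_c10 LD2_c59 LD3_c46))))
theorem f289580 : Led Lsl_gt (LP (LK LD1_c5 LD2_c31 LD3_c48)) = (LP (LK LD1_c10 LD2_c54 LD3_c31)) :=
  Lgr Lrot5 (Lpe (f289522 IH) (Lpr_at (f287999 IH) (Lpr_gf (f289578 IH) (Lpn (LP (LK LD1_c10 LD2_c54 LD3_c31))))))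
theorem f318852 : Led Lsl_ct (LP (LK LD1_c8 LD2_c10 LD3_c48)) = (LP (LK LD1_c8 LD2_c34 LD3_c20)) :=
  Lgr Lrot151 (Lpe (f53935 IH) (Lpr_cf (f318707 IH) (Lpe (f318722 IH) (Lpr_dt (f318846 IH) (Lpe (f281669 IH) (Lpr_ct (f178912 IH) (Lpr_gt (f289580 IH) (Lpe (K17.f224986 IH) (Lpe (f287761 IH) (Lpn (LP (LK LD1_c8 LD2_c34 LD3_c20))))))))))))
theorem f319026 : Led Lsl_ft (LP (LK LD1_c8 LD2_c34 LD3_c20)) = (LP (LK LD1_c8 LD2_c22 LD3_c37)) :=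
  Lgr Lrot4 (Lpe (f318852 IH) (Lpr_ff (f219410 IH) (Lpr_cf (f319013 IH) (Lpn (LP (LK LD1_c8 LD2_c22 LD3_c37))))))
theorem f319038 : Led Lsl_ff (LP (LK LD1_c8 LD2_c34 LD3_c20)) = (LP (LK LD1_c8 LD2_c22 LD3_c37)) :=
  Lgr Lrot3 (Lpr_ft (f319026 IH) (Lpn (LP (LK LD1_c8 LD2_c22 LD3_c37))))
theorem f219785 : Led Lsl_bt (LP (LK LD1_c8 LD2_c22 LD3_c1)) = (LP (LK LD1_c4 LD2_c11 LD3_c4)) :=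
  Lre_b IH (LK LD1_c8 LD2_c22 LD3_c1) (LK LD1_c4 LD2_c11 LD3_c4) Lrfl Lrfl
theorem f316166 : Led Lsl_et (LP (LK LD1_c8 LD2_c34 LD3_c20)) = (LP (LK LD1_c8 LD2_c22 LD3_c1)) :=
  Lgr Lrot74 (Lpe (f270896 IH) (Lpr_ef (f316164 IH) (Lpe (f219785 IH) (Lpn (LP (LK LD1_c8 LD2_c22 LD3_c1))))))
theorem f221914 : Led Lsl_bt (LP (LK LD1_c4 LD2_c11 LD3_c4)) = (LP (LK LD1_c8 LD2_c22 LD3_c1)) :=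
  Lre_b IH (LK LD1_c4 LD2_c11 LD3_c4) (LK LD1_c8 LD2_c22 LD3_c1) Lrfl Lrfl
theorem f192376 : Led Lsl_bt (LP (LK LD1_c8 LD2_c34 LD3_c57)) = (LP (LK LD1_c4 LD2_c18 LD3_c1)) :=
  Lre_b IH (LK LD1_c8 LD2_c34 LD3_c57) (LK LD1_c4 LD2_c18 LD3_c1) Lrfl Lrfl
theorem f221915 : Led Lsl_ft (LP (LK LD1_c8 LD2_c22 LD3_c1)) = (LP (LK LD1_c8 LD2_c34 LD3_c57)) :=
  Lgr Lrot75 (Lpe (f221914 IH) (Lpr_ff (K16.f221912 IH) (Lpe (f192376 IH) (Lpn (LP (LK LD1_c8 LD2_c34 LD3_c57))))))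
theorem f221869 : Led Lsl_et (LP (LK LD1_c8 LD2_c34 LD3_c57)) = (LP (LK LD1_c16 LD2_c6 LD3_c14)) :=
  Lre_e IH (LK LD1_c8 LD2_c34 LD3_c57) (LK LD1_c16 LD2_c6 LD3_c14) Lrfl Lrfl
theorem f319023 : Led Lsl_et (LP (LK LD1_c15 LD2_c45 LD3_c48)) = (LP (LK LD1_c8 LD2_c22 LD3_c37)) :=
  Lre_e IH (LK LD1_c15 LD2_c45 LD3_c48) (LK LD1_c8 LD2_c22 LD3_c37) Lrfl Lrfl
theorem f319045 : Led Lsl_ft (LP (LK LD1_c16 LD2_c6 LD3_c14)) = (LP (LK LD1_c15 LD2_c45 LD3_c48)) :=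
  Lgr Lrot86 (Lpe (f221869 IH) (Lpe (f221915 IH) (Lpe (f316166 IH) (Lpr_ff (f319038 IH) (Lpe (f319023 IH) (Lpn (LP (LK LD1_c15 LD2_c45 LD3_c48))))))))
theorem f221868 : Led Lsl_dt (LP (LK LD1_c26 LD2_c3 LD3_c10)) = (LP (LK LD1_c16 LD2_c6 LD3_c14)) :=
  Lre_d IH (LK LD1_c26 LD2_c3 LD3_c10) (LK LD1_c16 LD2_c6 LD3_c14) Lrfl Lrfl
theorem f319059 : Led Lsl_dt (LP (LK LD1_c15 LD2_c45 LD3_c48)) = (LP (LK LD1_c25 LD2_c42 LD3_c28)) :=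
  Lre_d IH (LK LD1_c15 LD2_c45 LD3_c48) (LK LD1_c25 LD2_c42 LD3_c28) Lrfl Lrfl
theorem f319060 : Led Lsl_ff (LP (LK LD1_c26 LD2_c3 LD3_c10)) = (LP (LK LD1_c25 LD2_c42 LD3_c28)) :=
  Lgr Lrot19 (Lpr_dt (f221868 IH) (Lpr_ft (f319045 IH) (Lpr_dt (f319059 IH) (Lpn (LP (LK LD1_c25 LD2_c42 LD3_c28))))))
theorem f319065 : Led Lsl_ft (LP (LK LD1_c26 LD2_c3 LD3_c10)) = (LP (LK LD1_c25 LD2_c42 LD3_c28)) :=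
  Lgr Lrot48 (Lpr_ff (f319060 IH) (Lpn (LP (LK LD1_c25 LD2_c42 LD3_c28))))
theorem f221894 : Led Lsl_bt (LP (LK LD1_c16 LD2_c6 LD3_c15)) = (LP (LK LD1_c26 LD2_c3 LD3_c10)) :=
  Lre_b IH (LK LD1_c16 LD2_c6 LD3_c15) (LK LD1_c26 LD2_c3 LD3_c10) Lrfl Lrfl
theorem f319068 : Led Lsl_bt (LP (LK LD1_c25 LD2_c42 LD3_c28)) = (LP (LK LD1_c15 LD2_c45 LD3_c49)) :=
  Lre_b IH (LK LD1_c25 LD2_c42 LD3_c28) (LK LD1_c15 LD2_c45 LD3_c49) Lrfl Lrfl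
theorem f319069 : Led Lsl_ff (LP (LK LD1_c16 LD2_c6 LD3_c15)) = (LP (LK LD1_c15 LD2_c45 LD3_c49)) :=
  Lgr Lrot25 (Lpr_bt (f221894 IH) (Lpr_ft (f319065 IH) (Lpr_bt (f319068 IH) (Lpn (LP (LK LD1_c15 LD2_c45 LD3_c49))))))
theorem f221860 : Led Lsl_dt (LP (LK LD1_c16 LD2_c6 LD3_c15)) = (LP (LK LD1_c8 LD2_c34 LD3_c58)) :=
  Lre_d IH (LK LD1_c16 LD2_c6 LD3_c15) (LK LD1_c8 LD2_c34 LD3_c58) Lrfl Lrfl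
theorem f290094 : Led Lsl_dt (LP (LK LD1_c8 LD2_c22 LD3_c38)) = (LP (LK LD1_c15 LD2_c45 LD3_c49)) :=
  Lre_d IH (LK LD1_c8 LD2_c22 LD3_c38) (LK LD1_c15 LD2_c45 LD3_c49) Lrfl Lrfl
theorem f319074 : Led Lsl_ft (LP (LK LD1_c8 LD2_c34 LD3_c58)) = (LP (LK LD1_c8 LD2_c22 LD3_c38)) :=
  Lgr Lrot54 (Lpe (f221860 IH) (Lpr_ff (f319069 IH) (Lpe (f290094 IH) (Lpn (LP (LK LD1_c8 LD2_c22 LD3_c38))))))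
theorem f188787 : Led Lsl_bt (LP (LK LD1_c8 LD2_c35 LD3_c54)) = (LP (LK LD1_c4 LD2_c18 LD3_c38)) :=
  Lre_b IH (LK LD1_c8 LD2_c35 LD3_c54) (LK LD1_c4 LD2_c18 LD3_c38) Lrfl Lrfl
theorem f219359 : Led Lsl_bt (LP (LK LD1_c4 LD2_c12 LD3_c13)) = (LP (LK LD1_c8 LD2_c23 LD3_c59)) :=
  Lre_b IH (LK LD1_c4 LD2_c12 LD3_c13) (LK LD1_c8 LD2_c23 LD3_c59) Lrfl Lrfl
theorem f219426 : Led Lsl_ff (LP (LK LD1_c8 LD2_c35 LD3_c54)) = (LP (LK LD1_c8 LD2_c23 LD3_c59)) :=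
  Lgr Lrot25 (Lpr_bt (f188787 IH) (Lpr_ft (K12.f219423 IH) (Lpr_bt (f219359 IH) (Lpn (LP (LK LD1_c8 LD2_c23 LD3_c59))))))
theorem f319083 : Led Lsl_cf (LP (LK LD1_c8 LD2_c23 LD3_c59)) = (LP (LK LD1_c8 LD2_c22 LD3_c38)) :=
  Lgr Lrot108 (Lpe (f219426 IH) (Lpr_ct (K18.f221857 IH) (Lpr_ft (f319074 IH) (Lpn (LP (LK LD1_c8 LD2_c22 LD3_c38))))))
theorem f219432 : Led Lsl_af (LP (LK LD1_c8 LD2_c35 LD3_c55)) = (LP (LK LD1_c8 LD2_c23 LD3_c59)) :=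
  Lgr Lrot45 (Lpr_ft (K18.f218097 IH) (Lpe (K12.f218092 IH) (Lpr_ft (K12.f219430 IH) (Lpn (LP (LK LD1_c8 LD2_c23 LD3_c59))))))
theorem f188819 : Led Lsl_ct (LP (LK LD1_c8 LD2_c35 LD3_c55)) = (LP (LK LD1_c8 LD2_c34 LD3_c19)) :=
  Lgr Lrot59 (Lpr_cf (K18.f188815 IH) (Lpn (LP (LK LD1_c8 LD2_c34 LD3_c19))))
theorem f319085 : Led Lsl_at (LP (LK LD1_c8 LD2_c34 LD3_c19)) = (LP (LK LD1_c8 LD2_c22 LD3_c38)) :=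
  Lgr Lrot107 (Lpe (f188819 IH) (Lpr_af (f219432 IH) (Lpr_cf (f319083 IH) (Lpn (LP (LK LD1_c8 LD2_c22 LD3_c38))))))
theorem f188818 : Led Lsl_bt (LP (LK LD1_c16 LD2_c5 LD3_c15)) = (LP (LK LD1_c8 LD2_c34 LD3_c19)) :=
  Lre_b IH (LK LD1_c16 LD2_c5 LD3_c15) (LK LD1_c8 LD2_c34 LD3_c19) Lrfl Lrfl
theorem f219886 : Led Lsl_at (LP (LK LD1_c26 LD2_c2 LD3_c16)) = (LP (LK LD1_c16 LD2_c5 LD3_c15)) :=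
  Lre_a IH (LK LD1_c26 LD2_c2 LD3_c16) (LK LD1_c16 LD2_c5 LD3_c15) Lrfl Lrfl
theorem f319082 : Led Lsl_bt (LP (LK LD1_c8 LD2_c22 LD3_c38)) = (LP (LK LD1_c15 LD2_c45 LD3_c48)) :=
  Lre_b IH (LK LD1_c8 LD2_c22 LD3_c38) (LK LD1_c15 LD2_c45 LD3_c48) Lrfl Lrfl
theorem f319053 : Led Lsl_at (LP (LK LD1_c15 LD2_c45 LD3_c48)) = (LP (LK LD1_c25 LD2_c42 LD3_c26)) :=
  Lre_a IH (LK LD1_c15 LD2_c45 LD3_c48) (LK LD1_c25 LD2_c42 LD3_c26) Lrfl Lrfl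
theorem f319094 : Led Lsl_bf (LP (LK LD1_c26 LD2_c2 LD3_c16)) = (LP (LK LD1_c25 LD2_c42 LD3_c26)) :=
  Lgr Lrot81 (Lpr_at (f219886 IH) (Lpr_bt (f188818 IH) (Lpr_at (f319085 IH) (Lpr_bt (f319082 IH) (Lpr_at (f319053 IH) (Lpn (LP (LK LD1_c25 LD2_c42 LD3_c26))))))))
theorem f219862 : Led Lsl_ff (LP (LK LD1_c8 LD2_c22 LD3_c0)) = (LP (LK LD1_c8 LD2_c34 LD3_c19)) :=
  Lgr Lrot3 (Lpr_ft (K18.f219851 IH) (Lpn (LP (LK LD1_c8 LD2_c34 LD3_c19))))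
theorem f219841 : Led Lsl_bt (LP (LK LD1_c8 LD2_c22 LD3_c0)) = (LP (LK LD1_c15 LD2_c44 LD3_c41)) :=
  Lre_b IH (LK LD1_c8 LD2_c22 LD3_c0) (LK LD1_c15 LD2_c44 LD3_c41) Lrfl Lrfl
theorem f219864 : Led Lsl_ft (LP (LK LD1_c15 LD2_c44 LD3_c41)) = (LP (LK LD1_c16 LD2_c5 LD3_c15)) :=
  Lgr Lrot75 (Lpe (f219841 IH) (Lpr_ff (f219862 IH) (Lpe (f188818 IH) (Lpn (LP (LK LD1_c16 LD2_c5 LD3_c15))))))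
theorem f219870 : Led Lsl_at (LP (LK LD1_c25 LD2_c41 LD3_c7)) = (LP (LK LD1_c15 LD2_c44 LD3_c41)) :=
  Lre_a IH (LK LD1_c25 LD2_c41 LD3_c7) (LK LD1_c15 LD2_c44 LD3_c41) Lrfl Lrfl
theorem f219871 : Led Lsl_at (LP (LK LD1_c16 LD2_c5 LD3_c15)) = (LP (LK LD1_c26 LD2_c2 LD3_c16)) :=
  Lre_a IH (LK LD1_c16 LD2_c5 LD3_c15) (LK LD1_c26 LD2_c2 LD3_c16) Lrfl Lrfl
theorem f219872 : Led Lsl_ff (LP (LK LD1_c25 LD2_c41 LD3_c7)) = (LP (LK LD1_c26 LD2_c2 LD3_c16)) :=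
  Lgr Lrot30 (Lpr_at (f219870 IH) (Lpr_ft (f219864 IH) (Lpr_at (f219871 IH) (Lpn (LP (LK LD1_c26 LD2_c2 LD3_c16))))))
theorem f219885 : Led Lsl_at (LP (LK LD1_c15 LD2_c44 LD3_c41)) = (LP (LK LD1_c25 LD2_c41 LD3_c7)) :=
  Lre_a IH (LK LD1_c15 LD2_c44 LD3_c41) (LK LD1_c25 LD2_c41 LD3_c7) Lrfl Lrfl
theorem f221854 : Led Lsl_bt (LP (LK LD1_c16 LD2_c6 LD3_c14)) = (LP (LK LD1_c8 LD2_c34 LD3_c58)) :=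
  Lre_b IH (LK LD1_c16 LD2_c6 LD3_c14) (LK LD1_c8 LD2_c34 LD3_c58) Lrfl Lrfl
theorem f221867 : Led Lsl_at (LP (LK LD1_c26 LD2_c3 LD3_c9)) = (LP (LK LD1_c16 LD2_c6 LD3_c14)) :=
  Lre_a IH (LK LD1_c26 LD2_c3 LD3_c9) (LK LD1_c16 LD2_c6 LD3_c14) Lrfl Lrfl
theorem f221877 : Led Lsl_bt (LP (LK LD1_c25 LD2_c41 LD3_c7)) = (LP (LK LD1_c26 LD2_c3 LD3_c9)) :=
  Lgr Lrot62 (Lpe (f219885 IH) (Lpe (f219841 IH) (Lpr_af (K18.f221862 IH) (Lpe (f221854 IH) (Lpe (f221867 IH) (Lpn (LP (LK LD1_c26 LD2_c3 LD3_c9))))))))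
theorem f319108 : Led Lsl_ft (LP (LK LD1_c26 LD2_c3 LD3_c9)) = (LP (LK LD1_c25 LD2_c42 LD3_c26)) :=
  Lgr Lrot75 (Lpe (f221877 IH) (Lpr_ff (f219872 IH) (Lpr_bf (f319094 IH) (Lpn (LP (LK LD1_c25 LD2_c42 LD3_c26))))))
theorem f175138 : Led Lsl_bt (LP (LK LD1_c1 LD2_c20 LD3_c27)) = (LP (LK LD1_c0 LD2_c37 LD3_c10)) :=
  Lre_b IH (LK LD1_c1 LD2_c20 LD3_c27) (LK LD1_c0 LD2_c37 LD3_c10) Lrfl Lrfl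
theorem f179512 : Led Lsl_ct (LP (LK LD1_c2 LD2_c48 LD3_c11)) = (LP (LK LD1_c1 LD2_c20 LD3_c27)) :=
  Lre_c IH (LK LD1_c2 LD2_c48 LD3_c11) (LK LD1_c1 LD2_c20 LD3_c27) Lrfl Lrfl
theorem f179513 : Led Lsl_dt (LP (LK LD1_c5 LD2_c44 LD3_c40)) = (LP (LK LD1_c2 LD2_c48 LD3_c11)) :=
  Lre_d IH (LK LD1_c5 LD2_c44 LD3_c40) (LK LD1_c2 LD2_c48 LD3_c11) Lrfl Lrfl
theorem f53808 : Led Lsl_bt (LP (LK LD1_c4 LD2_c6 LD3_c10)) = (LP (LK LD1_c8 LD2_c12 LD3_c59)) :=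
  Lre_b IH (LK LD1_c4 LD2_c6 LD3_c10) (LK LD1_c8 LD2_c12 LD3_c59) Lrfl Lrfl
theorem f243714 : Led Lsl_gf (LP (LK LD1_c5 LD2_c44 LD3_c40)) = (LP (LK LD1_c8 LD2_c12 LD3_c59)) :=
  Lgr Lrot85 (Lpr_dt (f179513 IH) (Lpr_ct (f179512 IH) (Lpr_bt (f175138 IH) (Lpr_gt (K9.f168230 IH) (Lpr_dt (K9.f179182 IH) (Lpr_ct (K9.f171861 IH) (Lpr_bt (K12.f179307 IH) (Lpr_gt (K13.f179411 IH) (Lpr_dt (K13.f243658 IH) (Lpe (K15.f224873 IH) (Lpr_bt (K12.f178493 IH) (Lpr_gt (K10.f178491 IH) (Lpr_dt (K9.f51587 IH) (Lpr_ct (K9.f51579 IH) (Lpr_bt (K14.f51586 IH) (Lpr_gt (K14.f222155 IH) (Lpr_dt (K10.f53809 IH) (Lpr_ct (K12.f53771 IH) (Lpr_bt (f53808 IH) (Lpn (LP (LK LD1_c8 LD2_c12 LD3_c59))))))))))))))))))))))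
theorem f243752 : Led Lsl_gt (LP (LK LD1_c5 LD2_c44 LD3_c40)) = (LP (LK LD1_c11 LD2_c19 LD3_c24)) :=
  Lre_g IH (LK LD1_c5 LD2_c44 LD3_c40) (LK LD1_c11 LD2_c19 LD3_c24) Lrfl Lrfl
theorem f188867 : Led Lsl_bt (LP (LK LD1_c8 LD2_c35 LD3_c56)) = (LP (LK LD1_c4 LD2_c18 LD3_c37)) :=
  Lre_b IH (LK LD1_c8 LD2_c35 LD3_c56) (LK LD1_c4 LD2_c18 LD3_c37) Lrfl Lrfl
theorem f188868 : Led Lsl_ff (LP (LK LD1_c8 LD2_c35 LD3_c56)) = (LP (LK LD1_c8 LD2_c12 LD3_c59)) :=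
  Lgr Lrot25 (Lpr_bt (f188867 IH) (Lpr_ft (K12.f188865 IH) (Lpr_bt (f53808 IH) (Lpn (LP (LK LD1_c8 LD2_c12 LD3_c59))))))
theorem f243753 : Led Lsl_af (LP (LK LD1_c11 LD2_c19 LD3_c24)) = (LP (LK LD1_c8 LD2_c35 LD3_c56)) :=
  Lgr Lrot31 (Lpe (f243752 IH) (Lpr_gf (f243714 IH) (Lpe (f188868 IH) (Lpn (LP (LK LD1_c8 LD2_c35 LD3_c56))))))
theorem f53780 : Led Lsl_at (LP (LK LD1_c15 LD2_c27 LD3_c18)) = (LP (LK LD1_c8 LD2_c12 LD3_c59)) :=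
  Lre_a IH (LK LD1_c15 LD2_c27 LD3_c18) (LK LD1_c8 LD2_c12 LD3_c59) Lrfl Lrfl
theorem f243778 : Led Lsl_ft (LP (LK LD1_c11 LD2_c19 LD3_c24)) = (LP (LK LD1_c15 LD2_c27 LD3_c18)) :=
  Lgr Lrot101 (Lpr_af (f243753 IH) (Lpr_ff (f188868 IH) (Lpe (f53780 IH) (Lpn (LP (LK LD1_c15 LD2_c27 LD3_c18))))))
theorem f243785 : Led Lsl_ff (LP (LK LD1_c11 LD2_c19 LD3_c24)) = (LP (LK LD1_c15 LD2_c27 LD3_c18)) :=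
  Lgr Lrot3 (Lpr_ft (f243778 IH) (Lpn (LP (LK LD1_c15 LD2_c27 LD3_c18))))
theorem f243775 : Led Lsl_et (LP (LK LD1_c11 LD2_c19 LD3_c24)) = (LP (LK LD1_c20 LD2_c16 LD3_c3)) :=
  Lre_e IH (LK LD1_c11 LD2_c19 LD3_c24) (LK LD1_c20 LD2_c16 LD3_c3) Lrfl Lrfl
theorem f53918 : Led Lsl_bt (LP (LK LD1_c15 LD2_c24 LD3_c11)) = (LP (LK LD1_c25 LD2_c16 LD3_c42)) :=
  Lre_b IH (LK LD1_c15 LD2_c24 LD3_c11) (LK LD1_c25 LD2_c16 LD3_c42) Lrfl Lrfl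
theorem f53919 : Led Lsl_dt (LP (LK LD1_c25 LD2_c16 LD3_c42)) = (LP (LK LD1_c25 LD2_c18 LD3_c61)) :=
  Lgr Lrot79 (Lpe (f53918 IH) (Lpr_df (K17.f53911 IH) (Lpe (K17.f53796 IH) (Lpn (LP (LK LD1_c25 LD2_c18 LD3_c61))))))
theorem f53921 : Led Lsl_et (LP (LK LD1_c15 LD2_c24 LD3_c8)) = (LP (LK LD1_c25 LD2_c16 LD3_c42)) :=
  Lre_e IH (LK LD1_c15 LD2_c24 LD3_c8) (LK LD1_c25 LD2_c16 LD3_c42) Lrfl Lrfl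
theorem f53924 : Led Lsl_dt (LP (LK LD1_c15 LD2_c27 LD3_c19)) = (LP (LK LD1_c8 LD2_c12 LD3_c59)) :=
  Lre_d IH (LK LD1_c15 LD2_c27 LD3_c19) (LK LD1_c8 LD2_c12 LD3_c59) Lrfl Lrfl
theorem f53925 : Led Lsl_ef (LP (LK LD1_c8 LD2_c10 LD3_c48)) = (LP (LK LD1_c8 LD2_c12 LD3_c59)) :=
  Lgr Lrot73 (Lpr_dt (f53922 IH) (Lpr_et (f53921 IH) (Lpr_dt (f53919 IH) (Lpr_et (K17.f53923 IH) (Lpr_dt (f53924 IH) (Lpn (LP (LK LD1_c8 LD2_c12 LD3_c59))))))))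
theorem f53930 : Led Lsl_et (LP (LK LD1_c15 LD2_c24 LD3_c7)) = (LP (LK LD1_c15 LD2_c27 LD3_c18)) :=
  Lgr Lrot123 (Lpe (f53929 IH) (Lpr_ef (f53925 IH) (Lpe (f53780 IH) (Lpn (LP (LK LD1_c15 LD2_c27 LD3_c18))))))
theorem f219576 : Led Lsl_et (LP (LK LD1_c25 LD2_c44 LD3_c23)) = (LP (LK LD1_c15 LD2_c47 LD3_c38)) :=
  Lre_e IH (LK LD1_c25 LD2_c44 LD3_c23) (LK LD1_c15 LD2_c47 LD3_c38) Lrfl Lrfl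
theorem f243896 : Led Lsl_ft (LP (LK LD1_c20 LD2_c16 LD3_c3)) = (LP (LK LD1_c25 LD2_c44 LD3_c23)) :=
  Lgr Lrot86 (Lpe (f243775 IH) (Lpr_ff (f243785 IH) (Lpe (f53930 IH) (Lpr_ff (f219566 IH) (Lpe (f219576 IH) (Lpn (LP (LK LD1_c25 LD2_c44 LD3_c23))))))))
theorem f219548 : Led Lsl_at (LP (LK LD1_c25 LD2_c44 LD3_c23)) = (LP (LK LD1_c15 LD2_c47 LD3_c40)) :=
  Lre_a IH (LK LD1_c25 LD2_c44 LD3_c23) (LK LD1_c15 LD2_c47 LD3_c40) Lrfl Lrfl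
theorem f188795 : Led Lsl_bt (LP (LK LD1_c8 LD2_c35 LD3_c58)) = (LP (LK LD1_c16 LD2_c7 LD3_c13)) :=
  Lre_b IH (LK LD1_c8 LD2_c35 LD3_c58) (LK LD1_c16 LD2_c7 LD3_c13) Lrfl Lrfl
theorem f219420 : Led Lsl_bt (LP (LK LD1_c15 LD2_c47 LD3_c40)) = (LP (LK LD1_c8 LD2_c24 LD3_c1)) :=
  Lre_b IH (LK LD1_c15 LD2_c47 LD3_c40) (LK LD1_c8 LD2_c24 LD3_c1) Lrfl Lrfl
theorem f219421 : Led Lsl_ft (LP (LK LD1_c16 LD2_c7 LD3_c13)) = (LP (LK LD1_c15 LD2_c47 LD3_c40)) :=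
  Lgr Lrot75 (Lpe (f188795 IH) (Lpr_ff (K12.f219418 IH) (Lpe (f219420 IH) (Lpn (LP (LK LD1_c15 LD2_c47 LD3_c40))))))
theorem f219546 : Led Lsl_ff (LP (LK LD1_c16 LD2_c7 LD3_c13)) = (LP (LK LD1_c15 LD2_c47 LD3_c40)) :=
  Lgr Lrot3 (Lpr_ft (f219421 IH) (Lpn (LP (LK LD1_c15 LD2_c47 LD3_c40))))
theorem f243898 : Led Lsl_af (LP (LK LD1_c20 LD2_c16 LD3_c3)) = (LP (LK LD1_c16 LD2_c7 LD3_c13)) :=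
  Lgr Lrot45 (Lpr_ft (f243896 IH) (Lpr_at (f219548 IH) (Lpe (f219546 IH) (Lpn (LP (LK LD1_c16 LD2_c7 LD3_c13))))))
theorem f219549 : Led Lsl_bt (LP (LK LD1_c16 LD2_c7 LD3_c13)) = (LP (LK LD1_c8 LD2_c35 LD3_c58)) :=
  Lre_b IH (LK LD1_c16 LD2_c7 LD3_c13) (LK LD1_c8 LD2_c35 LD3_c58) Lrfl Lrfl
theorem f221861 : Led Lsl_bt (LP (LK LD1_c8 LD2_c34 LD3_c58)) = (LP (LK LD1_c16 LD2_c6 LD3_c14)) :=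
  Lre_b IH (LK LD1_c8 LD2_c34 LD3_c58) (LK LD1_c16 LD2_c6 LD3_c14) Lrfl Lrfl
theorem f221864 : Led Lsl_cf (LP (LK LD1_c16 LD2_c7 LD3_c13)) = (LP (LK LD1_c16 LD2_c6 LD3_c14)) :=
  Lgr Lrot97 (Lpr_bt (f219549 IH) (Lpr_ct (K12.f188791 IH) (Lpr_bt (K12.f188786 IH) (Lpr_ct (K18.f221857 IH) (Lpr_bt (f221861 IH) (Lpn (LP (LK LD1_c16 LD2_c6 LD3_c14))))))))
theorem f243900 : Led Lsl_ct (LP (LK LD1_c20 LD2_c16 LD3_c3)) = (LP (LK LD1_c26 LD2_c3 LD3_c9)) :=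
  Lgr Lrot111 (Lpr_af (f243898 IH) (Lpr_cf (f221864 IH) (Lpe (f221867 IH) (Lpn (LP (LK LD1_c26 LD2_c3 LD3_c9))))))
theorem f243782 : Led Lsl_et (LP (LK LD1_c20 LD2_c16 LD3_c3)) = (LP (LK LD1_c11 LD2_c19 LD3_c24)) :=
  Lre_e IH (LK LD1_c20 LD2_c16 LD3_c3) (LK LD1_c11 LD2_c19 LD3_c24) Lrfl Lrfl
theorem f53938 : Led Lsl_ef (LP (LK LD1_c15 LD2_c24 LD3_c7)) = (LP (LK LD1_c15 LD2_c27 LD3_c18)) :=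
  Lgr Lrot88 (Lpr_et (f53930 IH) (Lpn (LP (LK LD1_c15 LD2_c27 LD3_c18))))
theorem f219565 : Led Lsl_et (LP (LK LD1_c15 LD2_c47 LD3_c38)) = (LP (LK LD1_c25 LD2_c44 LD3_c23)) :=
  Lre_e IH (LK LD1_c15 LD2_c47 LD3_c38) (LK LD1_c25 LD2_c44 LD3_c23) Lrfl Lrfl
theorem f243783 : Led Lsl_ff (LP (LK LD1_c20 LD2_c16 LD3_c3)) = (LP (LK LD1_c25 LD2_c44 LD3_c23)) :=
  Lgr Lrot72 (Lpr_et (f243782 IH) (Lpr_ft (f243778 IH) (Lpe (f53938 IH) (Lpr_ft (f219560 IH) (Lpr_et (f219565 IH) (Lpn (LP (LK LD1_c25 LD2_c44 LD3_c23))))))))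
theorem f319110 : Led Lsl_cf (LP (LK LD1_c25 LD2_c44 LD3_c23)) = (LP (LK LD1_c25 LD2_c42 LD3_c26)) :=
  Lgr Lrot108 (Lpe (f243783 IH) (Lpr_ct (f243900 IH) (Lpr_ft (f319108 IH) (Lpn (LP (LK LD1_c25 LD2_c42 LD3_c26))))))
theorem f319116 : Led Lsl_ct (LP (LK LD1_c25 LD2_c44 LD3_c23)) = (LP (LK LD1_c25 LD2_c42 LD3_c26)) :=
  Lgr Lrot59 (Lpr_cf (f319110 IH) (Lpn (LP (LK LD1_c25 LD2_c42 LD3_c26))))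
theorem f319042 : Led Lsl_et (LP (LK LD1_c25 LD2_c42 LD3_c26)) = (LP (LK LD1_c15 LD2_c45 LD3_c47)) :=
  Lre_e IH (LK LD1_c25 LD2_c42 LD3_c26) (LK LD1_c15 LD2_c45 LD3_c47) Lrfl Lrfl
theorem f319118 : Led Lsl_cf (LP (LK LD1_c15 LD2_c47 LD3_c38)) = (LP (LK LD1_c15 LD2_c45 LD3_c47)) :=
  Lgr Lrot39 (Lpr_et (f219565 IH) (Lpr_ct (f319116 IH) (Lpr_et (f319042 IH) (Lpn (LP (LK LD1_c15 LD2_c45 LD3_c47))))))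
theorem f219564 : Led Lsl_dt (LP (LK LD1_c15 LD2_c47 LD3_c38)) = (LP (LK LD1_c25 LD2_c44 LD3_c22)) :=
  Lre_d IH (LK LD1_c15 LD2_c47 LD3_c38) (LK LD1_c25 LD2_c44 LD3_c22) Lrfl Lrfl
theorem f173717 : Led Lsl_dt (LP (LK LD1_c19 LD2_c42 LD3_c35)) = (LP (LK LD1_c10 LD2_c54 LD3_c33)) :=
  Lre_d IH (LK LD1_c19 LD2_c42 LD3_c35) (LK LD1_c10 LD2_c54 LD3_c33) Lrfl Lrfl
theorem f173716 : Led Lsl_ct (LP (LK LD1_c10 LD2_c54 LD3_c34)) = (LP (LK LD1_c19 LD2_c42 LD3_c36)) :=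
  Lre_c IH (LK LD1_c10 LD2_c54 LD3_c34) (LK LD1_c19 LD2_c42 LD3_c36) Lrfl Lrfl
theorem f319120 : Led Lsl_dt (LP (LK LD1_c19 LD2_c42 LD3_c36)) = (LP (LK LD1_c15 LD2_c45 LD3_c47)) :=
  Lgr Lrot173 (Lpe (f173716 IH) (Lpe (f173714 IH) (Lpe (f173660 IH) (Lpe (f173717 IH) (Lpe (f318422 IH) (Lpe (f53922 IH) (Lpe (f270897 IH) (Lpr_df (f287761 IH) (Lpr_cf (K17.f224986 IH) (Lpe (K17.f173084 IH) (Lpe (f174053 IH) (Lpe (f174094 IH) (Lpe (f318554 IH) (Lpe (f219564 IH) (Lpr_cf (f319118 IH) (Lpn (LP (LK LD1_c15 LD2_c45 LD3_c47))))))))))))))))))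
theorem f319122 : Led Lsl_df (LP (LK LD1_c19 LD2_c42 LD3_c36)) = (LP (LK LD1_c15 LD2_c45 LD3_c47)) :=
  Lgr Lrot38 (Lpr_dt (f319120 IH) (Lpn (LP (LK LD1_c15 LD2_c45 LD3_c47))))
theorem f173715 : Led Lsl_ct (LP (LK LD1_c19 LD2_c42 LD3_c36)) = (LP (LK LD1_c10 LD2_c54 LD3_c34)) :=
  Lre_c IH (LK LD1_c19 LD2_c42 LD3_c36) (LK LD1_c10 LD2_c54 LD3_c34) Lrfl Lrfl
theorem f140450 : Led Lsl_gt (LP (LK LD1_c2 LD2_c26 LD3_c44)) = (LP (LK LD1_c4 LD2_c57 LD3_c46)) :=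
  Lre_g IH (LK LD1_c2 LD2_c26 LD3_c44) (LK LD1_c4 LD2_c57 LD3_c46) Lrfl Lrfl
theorem f140432 : Led Lsl_at (LP (LK LD1_c3 LD2_c58 LD3_c47)) = (LP (LK LD1_c7 LD2_c59 LD3_c0)) :=
  Lre_a IH (LK LD1_c3 LD2_c58 LD3_c47) (LK LD1_c7 LD2_c59 LD3_c0) Lrfl Lrfl
theorem f140451 : Led Lsl_gt (LP (LK LD1_c4 LD2_c57 LD3_c46)) = (LP (LK LD1_c7 LD2_c59 LD3_c0)) :=
  Lgr Lrot46 (Lpe (f140450 IH) (Lpr_ft (K9.f140351 IH) (Lpr_at (f140432 IH) (Lpn (LP (LK LD1_c7 LD2_c59 LD3_c0))))))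
theorem f140453 : Led Lsl_ct (LP (LK LD1_c4 LD2_c57 LD3_c46)) = (LP (LK LD1_c9 LD2_c46 LD3_c27)) :=
  Lre_c IH (LK LD1_c4 LD2_c57 LD3_c46) (LK LD1_c9 LD2_c46 LD3_c27) Lrfl Lrfl
theorem f140454 : Led Lsl_gt (LP (LK LD1_c9 LD2_c46 LD3_c27)) = (LP (LK LD1_c17 LD2_c56 LD3_c26)) :=
  Lre_g IH (LK LD1_c9 LD2_c46 LD3_c27) (LK LD1_c17 LD2_c56 LD3_c26) Lrfl Lrfl
theorem f270905 : Led Lsl_gt (LP (LK LD1_c8 LD2_c34 LD3_c20)) = (LP (LK LD1_c16 LD2_c5 LD3_c17)) :=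
  Lre_g IH (LK LD1_c8 LD2_c34 LD3_c20) (LK LD1_c16 LD2_c5 LD3_c17) Lrfl Lrfl
theorem f319030 : Led Lsl_at (LP (LK LD1_c8 LD2_c22 LD3_c37)) = (LP (LK LD1_c15 LD2_c45 LD3_c47)) :=
  Lre_a IH (LK LD1_c8 LD2_c22 LD3_c37) (LK LD1_c15 LD2_c45 LD3_c47) Lrfl Lrfl
theorem f319040 : Led Lsl_gt (LP (LK LD1_c16 LD2_c5 LD3_c17)) = (LP (LK LD1_c15 LD2_c45 LD3_c47)) :=
  Lgr Lrot46 (Lpe (f270905 IH) (Lpr_ft (f319026 IH) (Lpr_at (f319030 IH) (Lpn (LP (LK LD1_c15 LD2_c45 LD3_c47))))))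
theorem f319124 : Led Lsl_dt (LP (LK LD1_c17 LD2_c56 LD3_c26)) = (LP (LK LD1_c16 LD2_c5 LD3_c17)) :=
  Lgr Lrot57 (Lpe (f140454 IH) (Lpe (f140453 IH) (Lpr_gt (f140451 IH) (Lpr_dt (K9.f54781 IH) (Lpr_gt (f173712 IH) (Lpr_dt (f173714 IH) (Lpe (f173715 IH) (Lpr_df (f319122 IH) (Lpe (f319040 IH) (Lpn (LP (LK LD1_c16 LD2_c5 LD3_c17))))))))))))
theorem f319126 : Led Lsl_df (LP (LK LD1_c17 LD2_c56 LD3_c26)) = (LP (LK LD1_c16 LD2_c5 LD3_c17)) :=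
  Lgr Lrot38 (Lpr_dt (f319124 IH) (Lpn (LP (LK LD1_c16 LD2_c5 LD3_c17))))
theorem f318544 : Led Lsl_af (LP (LK LD1_c15 LD2_c3 LD3_c38)) = (LP (LK LD1_c19 LD2_c42 LD3_c32)) :=
  Lgr Lrot0 (Lpr_at (f318542 IH) (Lpn (LP (LK LD1_c19 LD2_c42 LD3_c32))))
theorem f318570 : Led Lsl_at (LP (LK LD1_c7 LD2_c58 LD3_c59)) = (LP (LK LD1_c10 LD2_c54 LD3_c30)) :=
  Lgr Lrot51 (Lpe (f174027 IH) (Lpr_af (f318544 IH) (Lpe (f174097 IH) (Lpn (LP (LK LD1_c10 LD2_c54 LD3_c30))))))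
theorem f174026 : Led Lsl_dt (LP (LK LD1_c7 LD2_c58 LD3_c59)) = (LP (LK LD1_c15 LD2_c3 LD3_c38)) :=
  Lre_d IH (LK LD1_c7 LD2_c58 LD3_c59) (LK LD1_c15 LD2_c3 LD3_c38) Lrfl Lrfl
theorem f318427 : Led Lsl_ff (LP (LK LD1_c7 LD2_c58 LD3_c59)) = (LP (LK LD1_c10 LD2_c54 LD3_c33)) :=
  Lgr Lrot19 (Lpr_dt (f174026 IH) (Lpr_ft (f318424 IH) (Lpr_dt (f173717 IH) (Lpn (LP (LK LD1_c10 LD2_c54 LD3_c33))))))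
theorem f318492 : Led Lsl_ft (LP (LK LD1_c10 LD2_c54 LD3_c30)) = (LP (LK LD1_c7 LD2_c58 LD3_c55)) :=
  Lgr Lrot48 (Lpr_ff (f318483 IH) (Lpn (LP (LK LD1_c7 LD2_c58 LD3_c55))))
theorem f318577 : Led Lsl_af (LP (LK LD1_c10 LD2_c54 LD3_c33)) = (LP (LK LD1_c7 LD2_c58 LD3_c55)) :=
  Lgr Lrot45 (Lpe (f318427 IH) (Lpr_at (f318570 IH) (Lpr_ft (f318492 IH) (Lpn (LP (LK LD1_c7 LD2_c58 LD3_c55))))))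
theorem f318582 : Led Lsl_gf (LP (LK LD1_c16 LD2_c47 LD3_c16)) = (LP (LK LD1_c10 LD2_c54 LD3_c30)) :=
  Lgr Lrot47 (Lpr_gt (f318417 IH) (Lpr_af (f318577 IH) (Lpe (f318492 IH) (Lpn (LP (LK LD1_c10 LD2_c54 LD3_c30))))))
theorem f318413 : Led Lsl_ct (LP (LK LD1_c16 LD2_c47 LD3_c16)) = (LP (LK LD1_c8 LD2_c58 LD3_c18)) :=
  Lre_c IH (LK LD1_c16 LD2_c47 LD3_c16) (LK LD1_c8 LD2_c58 LD3_c18) Lrfl Lrfl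
theorem f318584 : Led Lsl_dt (LP (LK LD1_c8 LD2_c58 LD3_c18)) = (LP (LK LD1_c16 LD2_c47 LD3_c17)) :=
  Lre_d IH (LK LD1_c8 LD2_c58 LD3_c18) (LK LD1_c16 LD2_c47 LD3_c17) Lrfl Lrfl
theorem f318585 : Led Lsl_cf (LP (LK LD1_c16 LD2_c47 LD3_c17)) = (LP (LK LD1_c17 LD2_c56 LD3_c26)) :=
  Lgr Lrot99 (Lpe (f318584 IH) (Lpe (f318413 IH) (Lpr_gf (f318582 IH) (Lpe (f173662 IH) (Lpe (K9.f173083 IH) (Lpe (K9.f173652 IH) (Lpr_gt (f140450 IH) (Lpr_ct (f140453 IH) (Lpr_gt (f140454 IH) (Lpn (LP (LK LD1_c17 LD2_c56 LD3_c26))))))))))))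
theorem f318587 : Led Lsl_bt (LP (LK LD1_c16 LD2_c47 LD3_c17)) = (LP (LK LD1_c8 LD2_c58 LD3_c20)) :=
  Lre_b IH (LK LD1_c16 LD2_c47 LD3_c17) (LK LD1_c8 LD2_c58 LD3_c20) Lrfl Lrfl
theorem f318588 : Led Lsl_ct (LP (LK LD1_c16 LD2_c47 LD3_c17)) = (LP (LK LD1_c17 LD2_c56 LD3_c26)) :=
  Lgr Lrot59 (Lpr_cf (f318585 IH) (Lpn (LP (LK LD1_c17 LD2_c56 LD3_c26))))
theorem f40985 : Led Lsl_bt (LP (LK LD1_c1 LD2_c10 LD3_c38)) = (LP (LK LD1_c2 LD2_c26 LD3_c44)) :=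
  Lre_b IH (LK LD1_c1 LD2_c10 LD3_c38) (LK LD1_c2 LD2_c26 LD3_c44) Lrfl Lrfl
theorem f174738 : Led Lsl_bt (LP (LK LD1_c2 LD2_c12 LD3_c15)) = (LP (LK LD1_c4 LD2_c30 LD3_c36)) :=
  Lre_b IH (LK LD1_c2 LD2_c12 LD3_c15) (LK LD1_c4 LD2_c30 LD3_c36) Lrfl Lrfl
theorem f318593 : Led Lsl_gt (LP (LK LD1_c8 LD2_c58 LD3_c20)) = (LP (LK LD1_c4 LD2_c30 LD3_c36)) :=
  Lgr Lrot164 (Lpe (f318587 IH) (Lpr_ct (f318588 IH) (Lpe (f140454 IH) (Lpe (f140453 IH) (Lpe (f140450 IH) (Lpe (f40985 IH) (Lpr_ct (K9.f40760 IH) (Lpr_gf (K9.f168848 IH) (Lpe (K9.f173081 IH) (Lpr_bt (f174738 IH) (Lpn (LP (LK LD1_c4 LD2_c30 LD3_c36)))))))))))))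
theorem f225420 : Led Lsl_bt (LP (LK LD1_c2 LD2_c12 LD3_c23)) = (LP (LK LD1_c1 LD2_c3 LD3_c9)) :=
  Lre_b IH (LK LD1_c2 LD2_c12 LD3_c23) (LK LD1_c1 LD2_c3 LD3_c9) Lrfl Lrfl
theorem f225699 : Led Lsl_df (LP (LK LD1_c2 LD2_c12 LD3_c23)) = (LP (LK LD1_c4 LD2_c30 LD3_c36)) :=
  Lgr Lrot12 (Lpr_bt (f225420 IH) (Lpr_dt (K12.f225241 IH) (Lpr_bt (f174738 IH) (Lpn (LP (LK LD1_c4 LD2_c30 LD3_c36))))))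
theorem f263167 : Led Lsl_bt (LP (LK LD1_c1 LD2_c17 LD3_c11)) = (LP (LK LD1_c2 LD2_c5 LD3_c17)) :=
  Lgr Lrot130 (Lpr_ct (K15.f262826 IH) (Lpr_gf (K15.f263155 IH) (Lpe (K12.f28121 IH) (Lpr_bt (K9.f27312 IH) (Lpr_gf (K9.f53383 IH) (Lpe (K10.f53389 IH) (Lpe (K10.f187061 IH) (Lpe (K16.f232207 IH) (Lpr_cf (K10.f44491 IH) (Lpr_gf (K12.f220610 IH) (Lpn (LP (LK LD1_c2 LD2_c5 LD3_c17)))))))))))))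
theorem f222641 : Led Lsl_dt (LP (LK LD1_c1 LD2_c17 LD3_c12)) = (LP (LK LD1_c0 LD2_c35 LD3_c43)) :=
  Lre_d IH (LK LD1_c1 LD2_c17 LD3_c12) (LK LD1_c0 LD2_c35 LD3_c43) Lrfl Lrfl
theorem f266441 : Led Lsl_gf (LP (LK LD1_c1 LD2_c17 LD3_c12)) = (LP (LK LD1_c2 LD2_c11 LD3_c24)) :=
  Lgr Lrot143 (Lpr_dt (f222641 IH) (Lpe (K15.f262826 IH) (Lpe (K16.f220501 IH) (Lpr_gf (K15.f266437 IH) (Lpr_df (K14.f246701 IH) (Lpe (K14.f254795 IH) (Lpe (K14.f196365 IH) (Lpe (K14.f236247 IH) (Lpr_dt (K13.f197515 IH) (Lpn (LP (LK LD1_c2 LD2_c11 LD3_c24))))))))))))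
theorem f226784 : Led Lsl_bt (LP (LK LD1_c4 LD2_c4 LD3_c25)) = (LP (LK LD1_c1 LD2_c59 LD3_c8)) :=
  Lre_b IH (LK LD1_c4 LD2_c4 LD3_c25) (LK LD1_c1 LD2_c59 LD3_c8) Lrfl Lrfl
theorem f319135 : Led Lsl_ct (LP (LK LD1_c2 LD2_c12 LD3_c23)) = (LP (LK LD1_c4 LD2_c4 LD3_c25)) :=
  Lgr Lrot191 (Lpr_df (f225699 IH) (Lpe (f318593 IH) (Lpe (f318587 IH) (Lpr_cf (f318585 IH) (Lpr_df (f319126 IH) (Lpe (f270905 IH) (Lpe (f270896 IH) (Lpr_cf (K16.f270890 IH) (Lpe (K12.f44496 IH) (Lpr_gf (K12.f220610 IH) (Lpe (f263167 IH) (Lpe (K15.f222642 IH) (Lpe (f222641 IH) (Lpr_gf (f266441 IH) (Lpe (K15.f228036 IH) (Lpe (K12.f228150 IH) (Lpr_df (K13.f228156 IH) (Lpe (K12.f226897 IH) (Lpe (f226784 IH) (Lpn (LP (LK LD1_c4 LD2_c4 LD3_c25))))))))))))))))))))))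
theorem f179300 : Led Lsl_ct (LP (LK LD1_c2 LD2_c45 LD3_c31)) = (LP (LK LD1_c1 LD2_c19 LD3_c13)) :=
  Lre_c IH (LK LD1_c2 LD2_c45 LD3_c31) (LK LD1_c1 LD2_c19 LD3_c13) Lrfl Lrfl
theorem f319143 : Led Lsl_ff (LP (LK LD1_c2 LD2_c12 LD3_c23)) = (LP (LK LD1_c1 LD2_c19 LD3_c13)) :=
  Lgr Lrot23 (Lpr_ct (f319135 IH) (Lpr_ft (K19.f314860 IH) (Lpr_ct (f179300 IH) (Lpn (LP (LK LD1_c1 LD2_c19 LD3_c13))))))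
theorem f167849 : Led Lsl_bt (LP (LK LD1_c1 LD2_c3 LD3_c9)) = (LP (LK LD1_c2 LD2_c12 LD3_c23)) :=
  Lre_b IH (LK LD1_c1 LD2_c3 LD3_c9) (LK LD1_c2 LD2_c12 LD3_c23) Lrfl Lrfl
theorem f42264 : Led Lsl_bt (LP (LK LD1_c4 LD2_c30 LD3_c36)) = (LP (LK LD1_c2 LD2_c12 LD3_c15)) :=
  Lre_b IH (LK LD1_c4 LD2_c30 LD3_c36) (LK LD1_c2 LD2_c12 LD3_c15) Lrfl Lrfl
theorem f225239 : Led Lsl_dt (LP (LK LD1_c2 LD2_c12 LD3_c23)) = (LP (LK LD1_c4 LD2_c30 LD3_c36)) :=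
  Lgr Lrot79 (Lpe (f167849 IH) (Lpr_df (K12.f225187 IH) (Lpe (f42264 IH) (Lpn (LP (LK LD1_c4 LD2_c30 LD3_c36))))))
theorem f172313 : Led Lsl_bt (LP (LK LD1_c1 LD2_c18 LD3_c4)) = (LP (LK LD1_c2 LD2_c43 LD3_c15)) :=
  Lre_b IH (LK LD1_c1 LD2_c18 LD3_c4) (LK LD1_c2 LD2_c43 LD3_c15) Lrfl Lrfl
theorem f178158 : Led Lsl_bt (LP (LK LD1_c1 LD2_c19 LD3_c13)) = (LP (LK LD1_c0 LD2_c36 LD3_c34)) :=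
  Lre_b IH (LK LD1_c1 LD2_c19 LD3_c13) (LK LD1_c0 LD2_c36 LD3_c34) Lrfl Lrfl
theorem f179180 : Led Lsl_dt (LP (LK LD1_c2 LD2_c43 LD3_c15)) = (LP (LK LD1_c1 LD2_c19 LD3_c13)) :=
  Lgr Lrot79 (Lpe (f172313 IH) (Lpr_df (K9.f179120 IH) (Lpe (f178158 IH) (Lpn (LP (LK LD1_c1 LD2_c19 LD3_c13))))))
theorem f319291 : Led Lsl_ft (LP (LK LD1_c4 LD2_c30 LD3_c36)) = (LP (LK LD1_c2 LD2_c43 LD3_c15)) :=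
  Lgr Lrot54 (Lpe (f225239 IH) (Lpr_ff (f319143 IH) (Lpe (f179180 IH) (Lpn (LP (LK LD1_c2 LD2_c43 LD3_c15))))))
theorem f319303 : Led Lsl_ff (LP (LK LD1_c4 LD2_c30 LD3_c36)) = (LP (LK LD1_c2 LD2_c43 LD3_c15)) :=
  Lgr Lrot3 (Lpr_ft (f319291 IH) (Lpn (LP (LK LD1_c2 LD2_c43 LD3_c15))))
theorem f319308 : Led Lsl_ft (LP (LK LD1_c2 LD2_c12 LD3_c15)) = (LP (LK LD1_c1 LD2_c18 LD3_c4)) :=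
  Lgr Lrot75 (Lpe (f42264 IH) (Lpr_ff (f319303 IH) (Lpe (f172313 IH) (Lpn (LP (LK LD1_c1 LD2_c18 LD3_c4))))))
theorem f319314 : Led Lsl_af (LP (LK LD1_c2 LD2_c12 LD3_c16)) = (LP (LK LD1_c1 LD2_c18 LD3_c4)) :=
  Lgr Lrot31 (Lpe (K12.f167917 IH) (Lpe (K9.f42263 IH) (Lpr_ft (f319308 IH) (Lpn (LP (LK LD1_c1 LD2_c18 LD3_c4))))))
theorem f225361 : Led Lsl_et (LP (LK LD1_c2 LD2_c12 LD3_c16)) = (LP (LK LD1_c4 LD2_c30 LD3_c38)) :=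
  Lre_e IH (LK LD1_c2 LD2_c12 LD3_c16) (LK LD1_c4 LD2_c30 LD3_c38) Lrfl Lrfl
theorem f179448 : Led Lsl_et (LP (LK LD1_c2 LD2_c43 LD3_c16)) = (LP (LK LD1_c1 LD2_c18 LD3_c4)) :=
  Lre_e IH (LK LD1_c2 LD2_c43 LD3_c16) (LK LD1_c1 LD2_c18 LD3_c4) Lrfl Lrfl
theorem f319322 : Led Lsl_at (LP (LK LD1_c4 LD2_c30 LD3_c38)) = (LP (LK LD1_c2 LD2_c43 LD3_c16)) :=
  Lgr Lrot80 (Lpe (f225361 IH) (Lpr_af (f319314 IH) (Lpe (f179448 IH) (Lpn (LP (LK LD1_c2 LD2_c43 LD3_c16))))))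
theorem f211783 : Led Lsl_et (LP (LK LD1_c1 LD2_c3 LD3_c16)) = (LP (LK LD1_c2 LD2_c12 LD3_c32)) :=
  Lre_e IH (LK LD1_c1 LD2_c3 LD3_c16) (LK LD1_c2 LD2_c12 LD3_c32) Lrfl Lrfl
theorem f9237 : Led Lsl_et (LP (LK LD1_c4 LD2_c30 LD3_c38)) = (LP (LK LD1_c2 LD2_c12 LD3_c16)) :=
  Lre_e IH (LK LD1_c4 LD2_c30 LD3_c38) (LK LD1_c2 LD2_c12 LD3_c16) Lrfl Lrfl
theorem f225168 : Led Lsl_ct (LP (LK LD1_c2 LD2_c12 LD3_c32)) = (LP (LK LD1_c4 LD2_c30 LD3_c38)) :=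
  Lgr Lrot15 (Lpe (f211783 IH) (Lpr_cf (K12.f225160 IH) (Lpe (f9237 IH) (Lpn (LP (LK LD1_c4 LD2_c30 LD3_c38))))))
theorem f171822 : Led Lsl_et (LP (LK LD1_c1 LD2_c18 LD3_c50)) = (LP (LK LD1_c0 LD2_c36 LD3_c19)) :=
  Lre_e IH (LK LD1_c1 LD2_c18 LD3_c50) (LK LD1_c0 LD2_c36 LD3_c19) Lrfl Lrfl
theorem f172322 : Led Lsl_et (LP (LK LD1_c1 LD2_c18 LD3_c4)) = (LP (LK LD1_c2 LD2_c43 LD3_c16)) :=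
  Lre_e IH (LK LD1_c1 LD2_c18 LD3_c4) (LK LD1_c2 LD2_c43 LD3_c16) Lrfl Lrfl
theorem f172323 : Led Lsl_cf (LP (LK LD1_c1 LD2_c18 LD3_c50)) = (LP (LK LD1_c2 LD2_c43 LD3_c16)) :=
  Lgr Lrot39 (Lpr_et (f171822 IH) (Lpr_ct (K9.f172301 IH) (Lpr_et (f172322 IH) (Lpn (LP (LK LD1_c2 LD2_c43 LD3_c16))))))
theorem f319327 : Led Lsl_af (LP (LK LD1_c2 LD2_c12 LD3_c32)) = (LP (LK LD1_c1 LD2_c18 LD3_c50)) :=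
  Lgr Lrot68 (Lpr_ct (f225168 IH) (Lpr_at (f319322 IH) (Lpe (f172323 IH) (Lpn (LP (LK LD1_c1 LD2_c18 LD3_c50))))))
theorem f319334 : Led Lsl_at (LP (LK LD1_c2 LD2_c12 LD3_c32)) = (LP (LK LD1_c1 LD2_c18 LD3_c50)) :=
  Lgr Lrot100 (Lpr_af (f319327 IH) (Lpn (LP (LK LD1_c1 LD2_c18 LD3_c50))))
theorem f319369 : Led Lsl_af (LP (LK LD1_c1 LD2_c3 LD3_c16)) = (LP (LK LD1_c0 LD2_c36 LD3_c19)) :=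
  Lgr Lrot50 (Lpr_et (f211783 IH) (Lpr_at (f319334 IH) (Lpr_et (f171822 IH) (Lpn (LP (LK LD1_c0 LD2_c36 LD3_c19))))))
theorem f319378 : Led Lsl_ft (LP (LK LD1_c1 LD2_c3 LD3_c26)) = (LP (LK LD1_c0 LD2_c36 LD3_c19)) :=
  Lgr Lrot2 (Lpe (K9.f168848 IH) (Lpr_gt (K12.f174913 IH) (Lpr_af (f319369 IH) (Lpn (LP (LK LD1_c0 LD2_c36 LD3_c19))))))
theorem f319382 : Led Lsl_ff (LP (LK LD1_c0 LD2_c28 LD3_c58)) = (LP (LK LD1_c0 LD2_c16 LD3_c9)) :=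
  Lgr Lrot19 (Lpr_dt (K9.f168836 IH) (Lpr_ft (f319378 IH) (Lpr_dt (K9.f165159 IH) (Lpn (LP (LK LD1_c0 LD2_c16 LD3_c9))))))
theorem f319391 : Led Lsl_at (LP (LK LD1_c0 LD2_c28 LD3_c58)) = (LP (LK LD1_c0 LD2_c16 LD3_c20)) :=
  Lgr Lrot26 (Lpr_ff (f319382 IH) (Lpr_gt (K9.f164710 IH) (Lpe (K9.f171864 IH) (Lpn (LP (LK LD1_c0 LD2_c16 LD3_c20))))))
theorem f319376 : Led Lsl_at (LP (LK LD1_c0 LD2_c28 LD3_c51)) = (LP (LK LD1_c0 LD2_c16 LD3_c9)) :=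
  Lgr Lrot51 (Lpe (K12.f174912 IH) (Lpr_af (f319369 IH) (Lpe (K9.f24534 IH) (Lpn (LP (LK LD1_c0 LD2_c16 LD3_c9))))))
theorem f319404 : Led Lsl_ff (LP (LK LD1_c0 LD2_c28 LD3_c51)) = (LP (LK LD1_c0 LD2_c16 LD3_c20)) :=
  Lgr Lrot30 (Lpr_at (f319376 IH) (Lpe (f319382 IH) (Lpr_at (f319391 IH) (Lpn (LP (LK LD1_c0 LD2_c16 LD3_c20))))))
theorem f171843 : Led Lsl_gt (LP (LK LD1_c0 LD2_c36 LD3_c17)) = (LP (LK LD1_c0 LD2_c16 LD3_c9)) :=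
  Lre_g IH (LK LD1_c0 LD2_c36 LD3_c17) (LK LD1_c0 LD2_c16 LD3_c9) Lrfl Lrfl
theorem f319414 : Led Lsl_gf (LP (LK LD1_c0 LD2_c36 LD3_c17)) = (LP (LK LD1_c0 LD2_c16 LD3_c20)) :=
  Lgr Lrot47 (Lpr_gt (f171843 IH) (Lpe (f319376 IH) (Lpr_ff (f319404 IH) (Lpn (LP (LK LD1_c0 LD2_c16 LD3_c20))))))
theorem f313394 : Led Lsl_bt (LP (LK LD1_c0 LD2_c31 LD3_c50)) = (LP (LK LD1_c0 LD2_c55 LD3_c35)) :=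
  Lgr Lrot127 (Lpr_bf (K19.f313392 IH) (Lpn (LP (LK LD1_c0 LD2_c55 LD3_c35))))
theorem f313543 : Led Lsl_bt (LP (LK LD1_c1 LD2_c10 LD3_c11)) = (LP (LK LD1_c0 LD2_c36 LD3_c27)) :=
  Lgr Lrot95 (Lpr_df (K11.f182352 IH) (Lpe (f313394 IH) (Lpr_df (K19.f313539 IH) (Lpn (LP (LK LD1_c0 LD2_c36 LD3_c27))))))
theorem f255103 : Led Lsl_dt (LP (LK LD1_c1 LD2_c10 LD3_c23)) = (LP (LK LD1_c1 LD2_c0 LD3_c35)) :=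
  Lgr Lrot42 (Lpr_df (K14.f255095 IH) (Lpn (LP (LK LD1_c1 LD2_c0 LD3_c35))))
theorem f255126 : Led Lsl_gf (LP (LK LD1_c2 LD2_c26 LD3_c2)) = (LP (LK LD1_c1 LD2_c55 LD3_c24)) :=
  Lgr Lrot104 (Lpr_ct (K13.f182332 IH) (Lpr_df (K11.f182352 IH) (Lpr_cf (K12.f196960 IH) (Lpe (K12.f165224 IH) (Lpr_cf (K13.f229251 IH) (Lpr_gf (K17.f255093 IH) (Lpe (f255103 IH) (Lpr_gt (K14.f255109 IH) (Lpr_ct (K11.f174950 IH) (Lpn (LP (LK LD1_c1 LD2_c55 LD3_c24))))))))))))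
theorem f255158 : Led Lsl_bf (LP (LK LD1_c1 LD2_c10 LD3_c23)) = (LP (LK LD1_c0 LD2_c42 LD3_c17)) :=
  Lgr Lrot96 (Lpr_et (K14.f255156 IH) (Lpr_bt (K11.f25990 IH) (Lpr_et (K17.f204851 IH) (Lpn (LP (LK LD1_c0 LD2_c42 LD3_c17))))))
theorem f319426 : Led Lsl_cf (LP (LK LD1_c0 LD2_c36 LD3_c17)) = (LP (LK LD1_c0 LD2_c42 LD3_c17)) :=
  Lgr Lrot58 (Lpr_gf (f319414 IH) (Lpe (K12.f165209 IH) (Lpr_bt (K13.f172035 IH) (Lpe (K13.f197395 IH) (Lpe (f313543 IH) (Lpr_ct (K12.f172681 IH) (Lpr_gf (f255126 IH) (Lpe (K11.f174950 IH) (Lpe (K14.f255109 IH) (Lpr_bf (f255158 IH) (Lpn (LP (LK LD1_c0 LD2_c42 LD3_c17)))))))))))))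
theorem f172330 : Led Lsl_dt (LP (LK LD1_c1 LD2_c18 LD3_c44)) = (LP (LK LD1_c0 LD2_c36 LD3_c17)) :=
  Lre_d IH (LK LD1_c1 LD2_c18 LD3_c44) (LK LD1_c0 LD2_c36 LD3_c17) Lrfl Lrfl
theorem f319448 : Led Lsl_gf (LP (LK LD1_c1 LD2_c18 LD3_c44)) = (LP (LK LD1_c1 LD2_c3 LD3_c30)) :=
  Lgr Lrot143 (Lpr_dt (f172330 IH) (Lpr_cf (f319426 IH) (Lpr_df (K14.f253565 IH) (Lpe (K14.f253548 IH) (Lpe (K9.f178469 IH) (Lpe (K9.f53310 IH) (Lpe (K1.f40854 IH) (Lpr_gt (K9.f168829 IH) (Lpr_dt (K15.f165000 IH) (Lpn (LP (LK LD1_c1 LD2_c3 LD3_c30))))))))))))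
theorem f289438 : Led Lsl_ff (LP (LK LD1_c1 LD2_c19 LD3_c29)) = (LP (LK LD1_c1 LD2_c18 LD3_c42)) :=
  Lgr Lrot3 (Lpr_ft (f289431 IH) (Lpn (LP (LK LD1_c1 LD2_c18 LD3_c42))))
theorem f319451 : Led Lsl_af (LP (LK LD1_c1 LD2_c18 LD3_c44)) = (LP (LK LD1_c1 LD2_c19 LD3_c29)) :=
  Lgr Lrot31 (Lpr_gf (f319448 IH) (Lpe (K15.f164714 IH) (Lpe (f289438 IH) (Lpn (LP (LK LD1_c1 LD2_c19 LD3_c29))))))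
theorem f226395 : Led Lsl_cf (LP (LK LD1_c2 LD2_c42 LD3_c3)) = (LP (LK LD1_c1 LD2_c18 LD3_c42)) :=
  Lgr Lrot11 (Lpr_ct (K12.f226020 IH) (Lpn (LP (LK LD1_c1 LD2_c18 LD3_c42))))
theorem f288032 : Led Lsl_at (LP (LK LD1_c1 LD2_c19 LD3_c30)) = (LP (LK LD1_c1 LD2_c18 LD3_c42)) :=
  Lgr Lrot107 (Lpe (K12.f225250 IH) (Lpr_af (K17.f288002 IH) (Lpr_cf (f226395 IH) (Lpn (LP (LK LD1_c1 LD2_c18 LD3_c42))))))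
theorem f319462 : Led Lsl_ft (LP (LK LD1_c1 LD2_c18 LD3_c44)) = (LP (LK LD1_c1 LD2_c19 LD3_c30)) :=
  Lgr Lrot101 (Lpr_af (f319451 IH) (Lpr_ff (f289438 IH) (Lpe (f288032 IH) (Lpn (LP (LK LD1_c1 LD2_c19 LD3_c30))))))
theorem f319471 : Led Lsl_ff (LP (LK LD1_c1 LD2_c18 LD3_c44)) = (LP (LK LD1_c1 LD2_c19 LD3_c30)) :=
  Lgr Lrot3 (Lpr_ft (f319462 IH) (Lpn (LP (LK LD1_c1 LD2_c19 LD3_c30))))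
theorem f319430 : Led Lsl_et (LP (LK LD1_c1 LD2_c18 LD3_c44)) = (LP (LK LD1_c2 LD2_c44 LD3_c50)) :=
  Lre_e IH (LK LD1_c1 LD2_c18 LD3_c44) (LK LD1_c2 LD2_c44 LD3_c50) Lrfl Lrfl
theorem f319475 : Led Lsl_ft (LP (LK LD1_c2 LD2_c44 LD3_c50)) = (LP (LK LD1_c5 LD2_c37 LD3_c49)) :=
  Lre_f IH (LK LD1_c2 LD2_c44 LD3_c50) (LK LD1_c5 LD2_c37 LD3_c49) Lrfl Lrfl
theorem f319476 : Led Lsl_et (LP (LK LD1_c5 LD2_c37 LD3_c49)) = (LP (LK LD1_c5 LD2_c40 LD3_c45)) :=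
  Lgr Lrot69 (Lpe (f319475 IH) (Lpe (f319430 IH) (Lpr_ff (f319471 IH) (Lpe (K12.f225334 IH) (Lpe (K17.f225486 IH) (Lpn (LP (LK LD1_c5 LD2_c40 LD3_c45))))))))
theorem f288054 : Led Lsl_at (LP (LK LD1_c5 LD2_c40 LD3_c45)) = (LP (LK LD1_c5 LD2_c37 LD3_c35)) :=
  Lgr Lrot100 (Lpr_af (K17.f288050 IH) (Lpn (LP (LK LD1_c5 LD2_c37 LD3_c35))))
theorem f226747 : Led Lsl_et (LP (LK LD1_c2 LD2_c46 LD3_c15)) = (LP (LK LD1_c1 LD2_c19 LD3_c29)) :=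
  Lre_e IH (LK LD1_c2 LD2_c46 LD3_c15) (LK LD1_c1 LD2_c19 LD3_c29) Lrfl Lrfl
theorem f289435 : Led Lsl_ft (LP (LK LD1_c5 LD2_c40 LD3_c40)) = (LP (LK LD1_c2 LD2_c46 LD3_c15)) :=
  Lre_f IH (LK LD1_c5 LD2_c40 LD3_c40) (LK LD1_c2 LD2_c46 LD3_c15) Lrfl Lrfl
theorem f289436 : Led Lsl_ef (LP (LK LD1_c5 LD2_c40 LD3_c40)) = (LP (LK LD1_c5 LD2_c37 LD3_c35)) :=
  Lgr Lrot21 (Lpr_ft (f289435 IH) (Lpr_et (f226747 IH) (Lpr_ft (f289431 IH) (Lpr_et (K17.f165069 IH) (Lpr_ft (K17.f165085 IH) (Lpn (LP (LK LD1_c5 LD2_c37 LD3_c35))))))))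
theorem f319478 : Led Lsl_af (LP (LK LD1_c5 LD2_c37 LD3_c49)) = (LP (LK LD1_c5 LD2_c40 LD3_c40)) :=
  Lgr Lrot50 (Lpr_et (f319476 IH) (Lpr_at (f288054 IH) (Lpe (f289436 IH) (Lpn (LP (LK LD1_c5 LD2_c40 LD3_c40))))))
theorem f319493 : Led Lsl_at (LP (LK LD1_c5 LD2_c37 LD3_c49)) = (LP (LK LD1_c5 LD2_c40 LD3_c40)) :=
  Lgr Lrot100 (Lpr_af (f319478 IH) (Lpn (LP (LK LD1_c5 LD2_c40 LD3_c40))))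
theorem f319497 : Led Lsl_af (LP (LK LD1_c2 LD2_c44 LD3_c50)) = (LP (LK LD1_c2 LD2_c46 LD3_c15)) :=
  Lgr Lrot45 (Lpr_ft (f319475 IH) (Lpr_at (f319493 IH) (Lpr_ft (f289435 IH) (Lpn (LP (LK LD1_c2 LD2_c46 LD3_c15))))))
theorem f226748 : Led Lsl_cf (LP (LK LD1_c2 LD2_c46 LD3_c15)) = (LP (LK LD1_c5 LD2_c28 LD3_c53)) :=
  Lgr Lrot39 (Lpr_et (f226747 IH) (Lpr_ct (K12.f226736 IH) (Lpr_et (K17.f168547 IH) (Lpn (LP (LK LD1_c5 LD2_c28 LD3_c53))))))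
theorem f287963 : Led Lsl_ft (LP (LK LD1_c10 LD2_c48 LD3_c57)) = (LP (LK LD1_c19 LD2_c33 LD3_c19)) :=
  Lre_f IH (LK LD1_c10 LD2_c48 LD3_c57) (LK LD1_c19 LD2_c33 LD3_c19) Lrfl Lrfl
theorem f287964 : Led Lsl_ft (LP (LK LD1_c19 LD2_c43 LD3_c56)) = (LP (LK LD1_c10 LD2_c55 LD3_c26)) :=
  Lre_f IH (LK LD1_c19 LD2_c43 LD3_c56) (LK LD1_c10 LD2_c55 LD3_c26) Lrfl Lrfl
theorem f287965 : Led Lsl_at (LP (LK LD1_c19 LD2_c33 LD3_c19)) = (LP (LK LD1_c19 LD2_c43 LD3_c56)) :=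
  Lgr Lrot66 (Lpe (f287963 IH) (Lpr_af (K17.f287952 IH) (Lpe (f287964 IH) (Lpn (LP (LK LD1_c19 LD2_c43 LD3_c56))))))
theorem f287970 : Led Lsl_dt (LP (LK LD1_c10 LD2_c48 LD3_c58)) = (LP (LK LD1_c19 LD2_c33 LD3_c19)) :=
  Lre_d IH (LK LD1_c10 LD2_c48 LD3_c58) (LK LD1_c19 LD2_c33 LD3_c19) Lrfl Lrfl
theorem f287967 : Led Lsl_dt (LP (LK LD1_c19 LD2_c43 LD3_c56)) = (LP (LK LD1_c10 LD2_c55 LD3_c27)) :=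
  Lre_d IH (LK LD1_c19 LD2_c43 LD3_c56) (LK LD1_c10 LD2_c55 LD3_c27) Lrfl Lrfl
theorem f287971 : Led Lsl_af (LP (LK LD1_c10 LD2_c48 LD3_c58)) = (LP (LK LD1_c10 LD2_c55 LD3_c27)) :=
  Lgr Lrot117 (Lpr_dt (f287970 IH) (Lpr_at (f287965 IH) (Lpr_dt (f287967 IH) (Lpn (LP (LK LD1_c10 LD2_c55 LD3_c27))))))
theorem f287973 : Led Lsl_at (LP (LK LD1_c10 LD2_c48 LD3_c58)) = (LP (LK LD1_c10 LD2_c55 LD3_c27)) :=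
  Lgr Lrot100 (Lpr_af (f287971 IH) (Lpn (LP (LK LD1_c10 LD2_c55 LD3_c27))))
theorem f287983 : Led Lsl_ft (LP (LK LD1_c5 LD2_c28 LD3_c53)) = (LP (LK LD1_c10 LD2_c48 LD3_c58)) :=
  Lre_f IH (LK LD1_c5 LD2_c28 LD3_c53) (LK LD1_c10 LD2_c48 LD3_c58) Lrfl Lrfl
theorem f287984 : Led Lsl_ft (LP (LK LD1_c10 LD2_c55 LD3_c27)) = (LP (LK LD1_c5 LD2_c31 LD3_c51)) :=
  Lre_f IH (LK LD1_c10 LD2_c55 LD3_c27) (LK LD1_c5 LD2_c31 LD3_c51) Lrfl Lrfl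
theorem f287985 : Led Lsl_af (LP (LK LD1_c5 LD2_c28 LD3_c53)) = (LP (LK LD1_c5 LD2_c31 LD3_c51)) :=
  Lgr Lrot45 (Lpr_ft (f287983 IH) (Lpr_at (f287973 IH) (Lpr_ft (f287984 IH) (Lpn (LP (LK LD1_c5 LD2_c31 LD3_c51))))))
theorem f319505 : Led Lsl_ct (LP (LK LD1_c2 LD2_c44 LD3_c50)) = (LP (LK LD1_c5 LD2_c31 LD3_c51)) :=
  Lgr Lrot111 (Lpr_af (f319497 IH) (Lpr_cf (f226748 IH) (Lpr_af (f287985 IH) (Lpn (LP (LK LD1_c5 LD2_c31 LD3_c51))))))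
theorem f319468 : Led Lsl_ft (LP (LK LD1_c5 LD2_c37 LD3_c49)) = (LP (LK LD1_c2 LD2_c44 LD3_c50)) :=
  Lre_f IH (LK LD1_c5 LD2_c37 LD3_c49) (LK LD1_c2 LD2_c44 LD3_c50) Lrfl Lrfl
theorem f287977 : Led Lsl_ft (LP (LK LD1_c5 LD2_c31 LD3_c51)) = (LP (LK LD1_c10 LD2_c55 LD3_c27)) :=
  Lre_f IH (LK LD1_c5 LD2_c31 LD3_c51) (LK LD1_c10 LD2_c55 LD3_c27) Lrfl Lrfl
theorem f319513 : Led Lsl_cf (LP (LK LD1_c5 LD2_c37 LD3_c49)) = (LP (LK LD1_c10 LD2_c55 LD3_c27)) :=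
  Lgr Lrot108 (Lpr_ft (f319468 IH) (Lpr_ct (f319505 IH) (Lpr_ft (f287977 IH) (Lpn (LP (LK LD1_c10 LD2_c55 LD3_c27))))))
theorem f319522 : Led Lsl_ct (LP (LK LD1_c5 LD2_c37 LD3_c49)) = (LP (LK LD1_c10 LD2_c55 LD3_c27)) :=
  Lgr Lrot59 (Lpr_cf (f319513 IH) (Lpn (LP (LK LD1_c10 LD2_c55 LD3_c27))))
theorem f319524 : Led Lsl_cf (LP (LK LD1_c5 LD2_c40 LD3_c40)) = (LP (LK LD1_c10 LD2_c48 LD3_c58)) :=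
  Lgr Lrot1 (Lpe (f319478 IH) (Lpr_ct (f319522 IH) (Lpe (f287971 IH) (Lpn (LP (LK LD1_c10 LD2_c48 LD3_c58))))))
theorem f319526 : Led Lsl_ct (LP (LK LD1_c2 LD2_c46 LD3_c15)) = (LP (LK LD1_c5 LD2_c28 LD3_c53)) :=
  Lgr Lrot40 (Lpe (f289435 IH) (Lpr_cf (f319524 IH) (Lpe (f287983 IH) (Lpn (LP (LK LD1_c5 LD2_c28 LD3_c53))))))
theorem f319504 : Led Lsl_bt (LP (LK LD1_c5 LD2_c40 LD3_c37)) = (LP (LK LD1_c2 LD2_c46 LD3_c15)) :=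
  Lre_b IH (LK LD1_c5 LD2_c40 LD3_c37) (LK LD1_c2 LD2_c46 LD3_c15) Lrfl Lrfl
theorem f319528 : Led Lsl_ct (LP (LK LD1_c11 LD2_c11 LD3_c56)) = (LP (LK LD1_c5 LD2_c40 LD3_c37)) :=
  Lre_c IH (LK LD1_c11 LD2_c11 LD3_c56) (LK LD1_c5 LD2_c40 LD3_c37) Lrfl Lrfl
theorem f287990 : Led Lsl_bt (LP (LK LD1_c5 LD2_c28 LD3_c53)) = (LP (LK LD1_c10 LD2_c48 LD3_c51)) :=
  Lre_b IH (LK LD1_c5 LD2_c28 LD3_c53) (LK LD1_c10 LD2_c48 LD3_c51) Lrfl Lrfl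
theorem f319529 : Led Lsl_ct (LP (LK LD1_c10 LD2_c48 LD3_c51)) = (LP (LK LD1_c19 LD2_c33 LD3_c9)) :=
  Lre_c IH (LK LD1_c10 LD2_c48 LD3_c51) (LK LD1_c19 LD2_c33 LD3_c9) Lrfl Lrfl
theorem f319530 : Led Lsl_bf (LP (LK LD1_c11 LD2_c11 LD3_c56)) = (LP (LK LD1_c19 LD2_c33 LD3_c9)) :=
  Lgr Lrot90 (Lpr_ct (f319528 IH) (Lpr_bt (f319504 IH) (Lpr_ct (f319526 IH) (Lpr_bt (f287990 IH) (Lpr_ct (f319529 IH) (Lpn (LP (LK LD1_c19 LD2_c33 LD3_c9))))))))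
theorem f289500 : Led Lsl_et (LP (LK LD1_c11 LD2_c11 LD3_c56)) = (LP (LK LD1_c5 LD2_c40 LD3_c36)) :=
  Lre_e IH (LK LD1_c11 LD2_c11 LD3_c56) (LK LD1_c5 LD2_c40 LD3_c36) Lrfl Lrfl
theorem f289514 : Led Lsl_et (LP (LK LD1_c10 LD2_c48 LD3_c50)) = (LP (LK LD1_c19 LD2_c33 LD3_c9)) :=
  Lre_e IH (LK LD1_c10 LD2_c48 LD3_c50) (LK LD1_c19 LD2_c33 LD3_c9) Lrfl Lrfl
theorem f319540 : Led Lsl_bt (LP (LK LD1_c5 LD2_c40 LD3_c36)) = (LP (LK LD1_c10 LD2_c48 LD3_c50)) :=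
  Lgr Lrot119 (Lpe (f289500 IH) (Lpr_bf (f319530 IH) (Lpe (f289514 IH) (Lpn (LP (LK LD1_c10 LD2_c48 LD3_c50))))))
theorem f319546 : Led Lsl_bf (LP (LK LD1_c5 LD2_c37 LD3_c31)) = (LP (LK LD1_c10 LD2_c55 LD3_c22)) :=
  Lgr Lrot61 (Lpe (f289476 IH) (Lpr_bt (f319540 IH) (Lpr_ft (f289515 IH) (Lpn (LP (LK LD1_c10 LD2_c55 LD3_c22))))))
theorem f258332 : Led Lsl_dt (LP (LK LD1_c5 LD2_c37 LD3_c31)) = (LP (LK LD1_c11 LD2_c6 LD3_c39)) :=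
  Lre_d IH (LK LD1_c5 LD2_c37 LD3_c31) (LK LD1_c11 LD2_c6 LD3_c39) Lrfl Lrfl
theorem f178913 : Led Lsl_dt (LP (LK LD1_c19 LD2_c43 LD3_c54)) = (LP (LK LD1_c10 LD2_c55 LD3_c22)) :=
  Lre_d IH (LK LD1_c19 LD2_c43 LD3_c54) (LK LD1_c10 LD2_c55 LD3_c22) Lrfl Lrfl
theorem f319548 : Led Lsl_bt (LP (LK LD1_c11 LD2_c6 LD3_c39)) = (LP (LK LD1_c19 LD2_c43 LD3_c54)) :=
  Lgr Lrot95 (Lpe (f258332 IH) (Lpr_bf (f319546 IH) (Lpe (f178913 IH) (Lpn (LP (LK LD1_c19 LD2_c43 LD3_c54))))))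
theorem f319550 : Led Lsl_bf (LP (LK LD1_c11 LD2_c6 LD3_c39)) = (LP (LK LD1_c19 LD2_c43 LD3_c54)) :=
  Lgr Lrot24 (Lpr_bt (f319548 IH) (Lpn (LP (LK LD1_c19 LD2_c43 LD3_c54))))
theorem f184257 : Led Lsl_bt (LP (LK LD1_c4 LD2_c16 LD3_c46)) = (LP (LK LD1_c8 LD2_c32 LD3_c51)) :=
  Lre_b IH (LK LD1_c4 LD2_c16 LD3_c46) (LK LD1_c8 LD2_c32 LD3_c51) Lrfl Lrfl
theorem f164990 : Led Lsl_bt (LP (LK LD1_c2 LD2_c44 LD3_c43)) = (LP (LK LD1_c1 LD2_c18 LD3_c42)) :=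
  Lre_b IH (LK LD1_c2 LD2_c44 LD3_c43) (LK LD1_c1 LD2_c18 LD3_c42) Lrfl Lrfl
theorem f164991 : Led Lsl_ct (LP (LK LD1_c5 LD2_c37 LD3_c31)) = (LP (LK LD1_c2 LD2_c44 LD3_c43)) :=
  Lre_c IH (LK LD1_c5 LD2_c37 LD3_c31) (LK LD1_c2 LD2_c44 LD3_c43) Lrfl Lrfl
theorem f164992 : Led Lsl_dt (LP (LK LD1_c11 LD2_c6 LD3_c39)) = (LP (LK LD1_c5 LD2_c37 LD3_c31)) :=
  Lre_d IH (LK LD1_c11 LD2_c6 LD3_c39) (LK LD1_c5 LD2_c37 LD3_c31) Lrfl Lrfl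
theorem f258320 : Led Lsl_gt (LP (LK LD1_c8 LD2_c32 LD3_c51)) = (LP (LK LD1_c11 LD2_c6 LD3_c39)) :=
  Lgr Lrot190 (Lpe (f184257 IH) (Lpe (K14.f170174 IH) (Lpr_df (K14.f184244 IH) (Lpr_gf (K16.f258313 IH) (Lpe (K11.f2145 IH) (Lpe (K9.f2142 IH) (Lpe (K9.f2140 IH) (Lpr_gf (K9.f2138 IH) (Lpe (K0.f2146 IH) (Lpe (K10.f197387 IH) (Lpe (K10.f193449 IH) (Lpr_gf (K19.f197797 IH) (Lpe (K13.f164993 IH) (Lpe (K9.f164712 IH) (Lpe (K15.f164713 IH) (Lpe (K15.f164714 IH) (Lpe (f164990 IH) (Lpe (f164991 IH) (Lpe (f164992 IH) (Lpn (LP (LK LD1_c11 LD2_c6 LD3_c39))))))))))))))))))))))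
theorem f258331 : Led Lsl_bt (LP (LK LD1_c8 LD2_c33 LD3_c3)) = (LP (LK LD1_c4 LD2_c16 LD3_c52)) :=
  Lre_b IH (LK LD1_c8 LD2_c33 LD3_c3) (LK LD1_c4 LD2_c16 LD3_c52) Lrfl Lrfl
theorem f290236 : Led Lsl_bt (LP (LK LD1_c4 LD2_c16 LD3_c52)) = (LP (LK LD1_c8 LD2_c33 LD3_c3)) :=
  Lre_b IH (LK LD1_c4 LD2_c16 LD3_c52) (LK LD1_c8 LD2_c33 LD3_c3) Lrfl Lrfl
theorem f189115 : Led Lsl_bt (LP (LK LD1_c8 LD2_c37 LD3_c11)) = (LP (LK LD1_c4 LD2_c19 LD3_c28)) :=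
  Lre_b IH (LK LD1_c8 LD2_c37 LD3_c11) (LK LD1_c4 LD2_c19 LD3_c28) Lrfl Lrfl
theorem f290249 : Led Lsl_ct (LP (LK LD1_c8 LD2_c33 LD3_c3)) = (LP (LK LD1_c8 LD2_c37 LD3_c11)) :=
  Lgr Lrot83 (Lpe (f290236 IH) (Lpr_cf (K17.f290244 IH) (Lpe (K17.f189118 IH) (Lpe (K16.f189110 IH) (Lpe (f189115 IH) (Lpn (LP (LK LD1_c8 LD2_c37 LD3_c11))))))))
theorem f319554 : Led Lsl_gt (LP (LK LD1_c16 LD2_c8 LD3_c49)) = (LP (LK LD1_c8 LD2_c37 LD3_c11)) :=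
  Lre_g IH (LK LD1_c16 LD2_c8 LD3_c49) (LK LD1_c8 LD2_c37 LD3_c11) Lrfl Lrfl
theorem f319555 : Led Lsl_cf (LP (LK LD1_c16 LD2_c8 LD3_c49)) = (LP (LK LD1_c19 LD2_c43 LD3_c54)) :=
  Lgr Lrot160 (Lpr_gt (f319554 IH) (Lpe (f290249 IH) (Lpr_bt (f258331 IH) (Lpr_gt (K17.f187069 IH) (Lpr_ct (K14.f167767 IH) (Lpr_gt (K14.f169420 IH) (Lpe (K15.f184255 IH) (Lpr_bt (f184257 IH) (Lpr_gt (f258320 IH) (Lpr_bf (f319550 IH) (Lpn (LP (LK LD1_c19 LD2_c43 LD3_c54)))))))))))))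
theorem f178939 : Led Lsl_dt (LP (LK LD1_c10 LD2_c55 LD3_c22)) = (LP (LK LD1_c19 LD2_c43 LD3_c54)) :=
  Lre_d IH (LK LD1_c10 LD2_c55 LD3_c22) (LK LD1_c19 LD2_c43 LD3_c54) Lrfl Lrfl
theorem f178116 : Led Lsl_bt (LP (LK LD1_c1 LD2_c18 LD3_c26)) = (LP (LK LD1_c2 LD2_c44 LD3_c10)) :=
  Lre_b IH (LK LD1_c1 LD2_c18 LD3_c26) (LK LD1_c2 LD2_c44 LD3_c10) Lrfl Lrfl
theorem f178888 : Led Lsl_dt (LP (LK LD1_c2 LD2_c44 LD3_c10)) = (LP (LK LD1_c5 LD2_c31 LD3_c48)) :=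
  Lgr Lrot79 (Lpe (f178116 IH) (Lpr_df (K12.f178885 IH) (Lpe (f178887 IH) (Lpn (LP (LK LD1_c5 LD2_c31 LD3_c48))))))
theorem f42837 : Led Lsl_ct (LP (LK LD1_c15 LD2_c2 LD3_c55)) = (LP (LK LD1_c24 LD2_c51 LD3_c53)) :=
  Lre_c IH (LK LD1_c15 LD2_c2 LD3_c55) (LK LD1_c24 LD2_c51 LD3_c53) Lrfl Lrfl
theorem f318967 : Led Lsl_ff (LP (LK LD1_c25 LD2_c44 LD3_c20)) = (LP (LK LD1_c24 LD2_c51 LD3_c53)) :=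
  Lgr Lrot23 (Lpr_ct (f318959 IH) (Lpe (K12.f173752 IH) (Lpr_ct (f42837 IH) (Lpn (LP (LK LD1_c24 LD2_c51 LD3_c53))))))
theorem f318971 : Led Lsl_ft (LP (LK LD1_c25 LD2_c44 LD3_c20)) = (LP (LK LD1_c24 LD2_c51 LD3_c53)) :=
  Lgr Lrot48 (Lpr_ff (f318967 IH) (Lpn (LP (LK LD1_c24 LD2_c51 LD3_c53))))
theorem f318704 : Led Lsl_df (LP (LK LD1_c15 LD2_c24 LD3_c6)) = (LP (LK LD1_c24 LD2_c51 LD3_c53)) :=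
  Lgr Lrot38 (Lpr_dt (f318700 IH) (Lpn (LP (LK LD1_c24 LD2_c51 LD3_c53))))
theorem f318973 : Led Lsl_ff (LP (LK LD1_c15 LD2_c47 LD3_c37)) = (LP (LK LD1_c15 LD2_c24 LD3_c6)) :=
  Lgr Lrot19 (Lpr_dt (f219571 IH) (Lpr_ft (f318971 IH) (Lpe (f318704 IH) (Lpn (LP (LK LD1_c15 LD2_c24 LD3_c6))))))
theorem f53933 : Led Lsl_gt (LP (LK LD1_c8 LD2_c10 LD3_c48)) = (LP (LK LD1_c15 LD2_c24 LD3_c5)) :=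
  Lre_g IH (LK LD1_c8 LD2_c10 LD3_c48) (LK LD1_c15 LD2_c24 LD3_c5) Lrfl Lrfl
theorem f318994 : Led Lsl_at (LP (LK LD1_c15 LD2_c47 LD3_c37)) = (LP (LK LD1_c15 LD2_c24 LD3_c5)) :=
  Lgr Lrot26 (Lpr_ff (f318973 IH) (Lpr_gt (f53935 IH) (Lpr_gt (f53933 IH) (Lpn (LP (LK LD1_c15 LD2_c24 LD3_c5))))))
theorem f219572 : Led Lsl_dt (LP (LK LD1_c25 LD2_c44 LD3_c20)) = (LP (LK LD1_c15 LD2_c47 LD3_c37)) :=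
  Lre_d IH (LK LD1_c25 LD2_c44 LD3_c20) (LK LD1_c15 LD2_c47 LD3_c37) Lrfl Lrfl
theorem f173695 : Led Lsl_ct (LP (LK LD1_c10 LD2_c54 LD3_c39)) = (LP (LK LD1_c19 LD2_c42 LD3_c44)) :=
  Lre_c IH (LK LD1_c10 LD2_c54 LD3_c39) (LK LD1_c19 LD2_c42 LD3_c44) Lrfl Lrfl
theorem f318961 : Led Lsl_af (LP (LK LD1_c25 LD2_c44 LD3_c20)) = (LP (LK LD1_c19 LD2_c42 LD3_c44)) :=
  Lgr Lrot68 (Lpr_ct (f318959 IH) (Lpr_at (K12.f173767 IH) (Lpr_ct (f173695 IH) (Lpn (LP (LK LD1_c19 LD2_c42 LD3_c44))))))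
theorem f318998 : Led Lsl_df (LP (LK LD1_c19 LD2_c42 LD3_c44)) = (LP (LK LD1_c15 LD2_c24 LD3_c5)) :=
  Lgr Lrot18 (Lpe (f318961 IH) (Lpr_dt (f219572 IH) (Lpr_at (f318994 IH) (Lpn (LP (LK LD1_c15 LD2_c24 LD3_c5))))))
theorem f253883 : Led Lsl_at (LP (LK LD1_c19 LD2_c58 LD3_c1)) = (LP (LK LD1_c11 LD2_c5 LD3_c10)) :=
  Lre_a IH (LK LD1_c19 LD2_c58 LD3_c1) (LK LD1_c11 LD2_c5 LD3_c10) Lrfl Lrfl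
theorem f253844 : Led Lsl_at (LP (LK LD1_c19 LD2_c32 LD3_c52)) = (LP (LK LD1_c10 LD2_c48 LD3_c48)) :=
  Lre_a IH (LK LD1_c19 LD2_c32 LD3_c52) (LK LD1_c10 LD2_c48 LD3_c48) Lrfl Lrfl
theorem f253845 : Led Lsl_at (LP (LK LD1_c11 LD2_c5 LD3_c10)) = (LP (LK LD1_c19 LD2_c58 LD3_c1)) :=
  Lre_a IH (LK LD1_c11 LD2_c5 LD3_c10) (LK LD1_c19 LD2_c58 LD3_c1) Lrfl Lrfl
theorem f253846 : Led Lsl_ff (LP (LK LD1_c19 LD2_c32 LD3_c52)) = (LP (LK LD1_c19 LD2_c58 LD3_c1)) :=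
  Lgr Lrot30 (Lpr_at (f253844 IH) (Lpr_ft (K19.f253825 IH) (Lpr_at (f253845 IH) (Lpn (LP (LK LD1_c19 LD2_c58 LD3_c1))))))
theorem f253880 : Led Lsl_ft (LP (LK LD1_c19 LD2_c32 LD3_c52)) = (LP (LK LD1_c19 LD2_c58 LD3_c1)) :=
  Lgr Lrot48 (Lpr_ff (f253846 IH) (Lpn (LP (LK LD1_c19 LD2_c58 LD3_c1))))
theorem f318688 : Led Lsl_gf (LP (LK LD1_c10 LD2_c59 LD3_c43)) = (LP (LK LD1_c19 LD2_c32 LD3_c52)) :=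
  Lgr Lrot47 (Lpr_gt (f318686 IH) (Lpe (f253883 IH) (Lpe (f253880 IH) (Lpn (LP (LK LD1_c19 LD2_c32 LD3_c52))))))
theorem f53941 : Led Lsl_dt (LP (LK LD1_c15 LD2_c24 LD3_c8)) = (LP (LK LD1_c8 LD2_c10 LD3_c48)) :=
  Lre_d IH (LK LD1_c15 LD2_c24 LD3_c8) (LK LD1_c8 LD2_c10 LD3_c48) Lrfl Lrfl
theorem f53928 : Led Lsl_gt (LP (LK LD1_c25 LD2_c16 LD3_c41)) = (LP (LK LD1_c15 LD2_c24 LD3_c8)) :=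
  Lre_g IH (LK LD1_c25 LD2_c16 LD3_c41) (LK LD1_c15 LD2_c24 LD3_c8) Lrfl Lrfl
theorem f319008 : Led Lsl_cf (LP (LK LD1_c19 LD2_c32 LD3_c52)) = (LP (LK LD1_c25 LD2_c16 LD3_c41)) :=
  Lgr Lrot166 (Lpe (f318688 IH) (Lpr_dt (f174091 IH) (Lpr_gt (K9.f174076 IH) (Lpr_dt (K12.f173694 IH) (Lpr_ct (f173695 IH) (Lpr_df (f318998 IH) (Lpe (f53933 IH) (Lpe (f53941 IH) (Lpe (f53928 IH) (Lpn (LP (LK LD1_c25 LD2_c16 LD3_c41))))))))))))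
theorem f319561 : Led Lsl_dt (LP (LK LD1_c16 LD2_c8 LD3_c49)) = (LP (LK LD1_c25 LD2_c16 LD3_c41)) :=
  Lgr Lrot120 (Lpr_cf (f319555 IH) (Lpe (f178939 IH) (Lpe (f178938 IH) (Lpe (f178888 IH) (Lpe (f178099 IH) (Lpe (K19.f178100 IH) (Lpe (f253806 IH) (Lpr_at (f253882 IH) (Lpr_cf (f319008 IH) (Lpn (LP (LK LD1_c25 LD2_c16 LD3_c41))))))))))))
theorem f319583 : Led Lsl_df (LP (LK LD1_c16 LD2_c8 LD3_c49)) = (LP (LK LD1_c25 LD2_c16 LD3_c41)) :=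
  Lgr Lrot38 (Lpr_dt (f319561 IH) (Lpn (LP (LK LD1_c25 LD2_c16 LD3_c41))))
theorem f318457 : Led Lsl_dt (LP (LK LD1_c7 LD2_c58 LD3_c55)) = (LP (LK LD1_c15 LD2_c3 LD3_c30)) :=
  Lre_d IH (LK LD1_c7 LD2_c58 LD3_c55) (LK LD1_c15 LD2_c3 LD3_c30) Lrfl Lrfl
theorem f318504 : Led Lsl_ff (LP (LK LD1_c19 LD2_c42 LD3_c32)) = (LP (LK LD1_c15 LD2_c3 LD3_c30)) :=
  Lgr Lrot19 (Lpr_dt (f174094 IH) (Lpr_ft (f318492 IH) (Lpr_dt (f318457 IH) (Lpn (LP (LK LD1_c15 LD2_c3 LD3_c30))))))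
theorem f318510 : Led Lsl_ct (LP (LK LD1_c24 LD2_c52 LD3_c43)) = (LP (LK LD1_c15 LD2_c3 LD3_c30)) :=
  Lre_c IH (LK LD1_c24 LD2_c52 LD3_c43) (LK LD1_c15 LD2_c3 LD3_c30) Lrfl Lrfl
theorem f318556 : Led Lsl_ft (LP (LK LD1_c25 LD2_c44 LD3_c22)) = (LP (LK LD1_c24 LD2_c52 LD3_c43)) :=
  Lgr Lrot4 (Lpr_cf (f318546 IH) (Lpr_ff (f318504 IH) (Lpe (f318510 IH) (Lpn (LP (LK LD1_c24 LD2_c52 LD3_c43))))))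
theorem f219553 : Led Lsl_at (LP (LK LD1_c15 LD2_c47 LD3_c39)) = (LP (LK LD1_c25 LD2_c44 LD3_c22)) :=
  Lre_a IH (LK LD1_c15 LD2_c47 LD3_c39) (LK LD1_c25 LD2_c44 LD3_c22) Lrfl Lrfl
theorem f318558 : Led Lsl_af (LP (LK LD1_c15 LD2_c24 LD3_c8)) = (LP (LK LD1_c24 LD2_c52 LD3_c43)) :=
  Lgr Lrot45 (Lpr_ft (f219551 IH) (Lpr_at (f219553 IH) (Lpr_ft (f318556 IH) (Lpn (LP (LK LD1_c24 LD2_c52 LD3_c43))))))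
theorem f318564 : Led Lsl_gt (LP (LK LD1_c25 LD2_c44 LD3_c22)) = (LP (LK LD1_c25 LD2_c16 LD3_c41)) :=
  Lgr Lrot5 (Lpr_ft (f318556 IH) (Lpe (f318558 IH) (Lpe (f53928 IH) (Lpn (LP (LK LD1_c25 LD2_c16 LD3_c41))))))
theorem f253850 : Led Lsl_ff (LP (LK LD1_c19 LD2_c33 LD3_c0)) = (LP (LK LD1_c19 LD2_c58 LD3_c3)) :=
  Lgr Lrot23 (Lpr_ct (K19.f253849 IH) (Lpr_ft (K19.f253825 IH) (Lpr_ct (f178911 IH) (Lpn (LP (LK LD1_c19 LD2_c58 LD3_c3))))))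
theorem f318698 : Led Lsl_af (LP (LK LD1_c25 LD2_c16 LD3_c41)) = (LP (LK LD1_c19 LD2_c33 LD3_c0)) :=
  Lgr Lrot31 (Lpe (f318564 IH) (Lpr_gf (f318690 IH) (Lpe (f253850 IH) (Lpn (LP (LK LD1_c19 LD2_c33 LD3_c0))))))
theorem f166571 : Led Lsl_bt (LP (LK LD1_c4 LD2_c12 LD3_c19)) = (LP (LK LD1_c8 LD2_c24 LD3_c10)) :=
  Lre_b IH (LK LD1_c4 LD2_c12 LD3_c19) (LK LD1_c8 LD2_c24 LD3_c10) Lrfl Lrfl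
theorem f166572 : Led Lsl_gt (LP (LK LD1_c8 LD2_c24 LD3_c10)) = (LP (LK LD1_c15 LD2_c47 LD3_c56)) :=
  Lre_g IH (LK LD1_c8 LD2_c24 LD3_c10) (LK LD1_c15 LD2_c47 LD3_c56) Lrfl Lrfl
theorem f305158 : Led Lsl_df (LP (LK LD1_c19 LD2_c33 LD3_c0)) = (LP (LK LD1_c15 LD2_c47 LD3_c56)) :=
  Lgr Lrot183 (Lpr_ct (K19.f253849 IH) (Lpr_bt (K19.f305134 IH) (Lpr_gt (K18.f303314 IH) (Lpr_dt (K18.f42769 IH) (Lpr_ct (K16.f218701 IH) (Lpr_bt (K12.f50176 IH) (Lpr_gt (K12.f27976 IH) (Lpr_dt (K9.f27968 IH) (Lpr_ct (K1.f27949 IH) (Lpr_bt (K9.f27948 IH) (Lpe (K9.f180235 IH) (Lpr_dt (K9.f167311 IH) (Lpr_ct (K14.f170287 IH) (Lpr_bt (K14.f170290 IH) (Lpr_gt (K14.f170291 IH) (Lpr_dt (K14.f246733 IH) (Lpr_ct (K12.f167091 IH) (Lpr_bt (f166571 IH) (Lpr_gt (f166572 IH) (Lpn (LP (LK LD1_c15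 LD2_c47 LD3_c56))))))))))))))))))))))
theorem f319590 : Led Lsl_at (LP (LK LD1_c16 LD2_c8 LD3_c49)) = (LP (LK LD1_c15 LD2_c47 LD3_c56)) :=
  Lgr Lrot51 (Lpr_df (f319583 IH) (Lpr_af (f318698 IH) (Lpr_df (f305158 IH) (Lpn (LP (LK LD1_c15 LD2_c47 LD3_c56))))))
theorem f167175 : Led Lsl_gt (LP (LK LD1_c15 LD2_c47 LD3_c57)) = (LP (LK LD1_c8 LD2_c24 LD3_c10)) :=
  Lre_g IH (LK LD1_c15 LD2_c47 LD3_c57) (LK LD1_c8 LD2_c24 LD3_c10) Lrfl Lrfl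
theorem f319596 : Led Lsl_ff (LP (LK LD1_c16 LD2_c8 LD3_c49)) = (LP (LK LD1_c15 LD2_c47 LD3_c57)) :=
  Lgr Lrot52 (Lpr_at (f319590 IH) (Lpe (f166572 IH) (Lpe (f167175 IH) (Lpn (LP (LK LD1_c15 LD2_c47 LD3_c57))))))
theorem f319602 : Led Lsl_ft (LP (LK LD1_c16 LD2_c8 LD3_c49)) = (LP (LK LD1_c15 LD2_c47 LD3_c57)) :=
  Lgr Lrot48 (Lpr_ff (f319596 IH) (Lpn (LP (LK LD1_c15 LD2_c47 LD3_c57))))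
theorem f260867 : Led Lsl_gt (LP (LK LD1_c8 LD2_c37 LD3_c11)) = (LP (LK LD1_c16 LD2_c8 LD3_c48)) :=
  Lre_g IH (LK LD1_c8 LD2_c37 LD3_c11) (LK LD1_c16 LD2_c8 LD3_c48) Lrfl Lrfl
theorem f319609 : Led Lsl_af (LP (LK LD1_c16 LD2_c8 LD3_c48)) = (LP (LK LD1_c15 LD2_c47 LD3_c57)) :=
  Lgr Lrot31 (Lpe (f260867 IH) (Lpe (f319554 IH) (Lpr_ft (f319602 IH) (Lpn (LP (LK LD1_c15 LD2_c47 LD3_c57))))))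
theorem f173651 : Led Lsl_ct (LP (LK LD1_c19 LD2_c42 LD3_c44)) = (LP (LK LD1_c10 LD2_c54 LD3_c39)) :=
  Lre_c IH (LK LD1_c19 LD2_c42 LD3_c44) (LK LD1_c10 LD2_c54 LD3_c39) Lrfl Lrfl
theorem f319006 : Led Lsl_ct (LP (LK LD1_c19 LD2_c32 LD3_c52)) = (LP (LK LD1_c25 LD2_c16 LD3_c41)) :=
  Lgr Lrot8 (Lpe (f318688 IH) (Lpr_dt (f174091 IH) (Lpr_gt (K9.f174076 IH) (Lpr_dt (K12.f173694 IH) (Lpe (f173651 IH) (Lpr_df (f318998 IH) (Lpe (f53933 IH) (Lpe (f53941 IH) (Lpe (f53928 IH) (Lpn (LP (LK LD1_c25 LD2_c16 LD3_c41))))))))))))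
theorem f319011 : Led Lsl_af (LP (LK LD1_c19 LD2_c33 LD3_c0)) = (LP (LK LD1_c25 LD2_c16 LD3_c41)) :=
  Lgr Lrot68 (Lpr_ct (K19.f253849 IH) (Lpr_at (f253882 IH) (Lpr_ct (f319006 IH) (Lpn (LP (LK LD1_c25 LD2_c16 LD3_c41))))))
theorem f305160 : Led Lsl_dt (LP (LK LD1_c19 LD2_c33 LD3_c0)) = (LP (LK LD1_c15 LD2_c47 LD3_c56)) :=
  Lgr Lrot42 (Lpr_df (f305158 IH) (Lpn (LP (LK LD1_c15 LD2_c47 LD3_c56))))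
theorem f319578 : Led Lsl_af (LP (LK LD1_c16 LD2_c8 LD3_c49)) = (LP (LK LD1_c15 LD2_c47 LD3_c56)) :=
  Lgr Lrot117 (Lpr_dt (f319561 IH) (Lpe (f319011 IH) (Lpr_dt (f305160 IH) (Lpn (LP (LK LD1_c15 LD2_c47 LD3_c56))))))
theorem f319613 : Led Lsl_ft (LP (LK LD1_c16 LD2_c8 LD3_c48)) = (LP (LK LD1_c15 LD2_c47 LD3_c56)) :=
  Lgr Lrot101 (Lpr_af (f319609 IH) (Lpe (f319602 IH) (Lpr_af (f319578 IH) (Lpn (LP (LK LD1_c15 LD2_c47 LD3_c56))))))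
theorem f178937 : Led Lsl_ct (LP (LK LD1_c19 LD2_c58 LD3_c3)) = (LP (LK LD1_c11 LD2_c5 LD3_c10)) :=
  Lre_c IH (LK LD1_c19 LD2_c58 LD3_c3) (LK LD1_c11 LD2_c5 LD3_c10) Lrfl Lrfl
theorem f319619 : Led Lsl_dt (LP (LK LD1_c16 LD2_c8 LD3_c48)) = (LP (LK LD1_c19 LD2_c58 LD3_c3)) :=
  Lgr Lrot159 (Lpr_ft (f319613 IH) (Lpe (f319578 IH) (Lpr_cf (f319555 IH) (Lpe (f178939 IH) (Lpe (f178938 IH) (Lpe (f178888 IH) (Lpe (f178099 IH) (Lpe (K19.f178100 IH) (Lpe (f178937 IH) (Lpn (LP (LK LD1_c19 LD2_c58 LD3_c3))))))))))))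
theorem f290256 : Led Lsl_gt (LP (LK LD1_c8 LD2_c33 LD3_c3)) = (LP (LK LD1_c16 LD2_c3 LD3_c5)) :=
  Lre_g IH (LK LD1_c8 LD2_c33 LD3_c3) (LK LD1_c16 LD2_c3 LD3_c5) Lrfl Lrfl
theorem f219574 : Led Lsl_at (LP (LK LD1_c8 LD2_c23 LD3_c61)) = (LP (LK LD1_c15 LD2_c47 LD3_c38)) :=
  Lre_a IH (LK LD1_c8 LD2_c23 LD3_c61) (LK LD1_c15 LD2_c47 LD3_c38) Lrfl Lrfl
theorem f319015 : Led Lsl_at (LP (LK LD1_c15 LD2_c45 LD3_c47)) = (LP (LK LD1_c8 LD2_c22 LD3_c37)) :=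
  Lre_a IH (LK LD1_c15 LD2_c45 LD3_c47) (LK LD1_c8 LD2_c22 LD3_c37) Lrfl Lrfl
theorem f319016 : Led Lsl_ct (LP (LK LD1_c15 LD2_c47 LD3_c38)) = (LP (LK LD1_c15 LD2_c45 LD3_c47)) :=
  Lgr Lrot111 (Lpe (f219574 IH) (Lpr_cf (f319013 IH) (Lpe (f319015 IH) (Lpn (LP (LK LD1_c15 LD2_c45 LD3_c47))))))
theorem f318462 : Led Lsl_af (LP (LK LD1_c19 LD2_c42 LD3_c36)) = (LP (LK LD1_c15 LD2_c3 LD3_c32)) :=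
  Lgr Lrot68 (Lpr_ct (f173715 IH) (Lpr_at (f318455 IH) (Lpr_ct (K17.f171760 IH) (Lpn (LP (LK LD1_c15 LD2_c3 LD3_c32))))))
theorem f290287 : Led Lsl_ft (LP (LK LD1_c16 LD2_c3 LD3_c16)) = (LP (LK LD1_c15 LD2_c3 LD3_c32)) :=
  Lgr Lrot75 (Lpe (f287760 IH) (Lpr_ff (K17.f290283 IH) (Lpe (K17.f200395 IH) (Lpn (LP (LK LD1_c15 LD2_c3 LD3_c32))))))
theorem f178117 : Led Lsl_gt (LP (LK LD1_c2 LD2_c44 LD3_c10)) = (LP (LK LD1_c5 LD2_c36 LD3_c37)) :=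
  Lre_g IH (LK LD1_c2 LD2_c44 LD3_c10) (LK LD1_c5 LD2_c36 LD3_c37) Lrfl Lrfl
theorem f178125 : Led Lsl_ct (LP (LK LD1_c5 LD2_c36 LD3_c37)) = (LP (LK LD1_c11 LD2_c5 LD3_c21)) :=
  Lre_c IH (LK LD1_c5 LD2_c36 LD3_c37) (LK LD1_c11 LD2_c5 LD3_c21) Lrfl Lrfl
theorem f171866 : Led Lsl_bt (LP (LK LD1_c0 LD2_c36 LD3_c34)) = (LP (LK LD1_c1 LD2_c19 LD3_c13)) :=
  Lre_b IH (LK LD1_c0 LD2_c36 LD3_c34) (LK LD1_c1 LD2_c19 LD3_c13) Lrfl Lrfl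
theorem f178122 : Led Lsl_gt (LP (LK LD1_c2 LD2_c45 LD3_c41)) = (LP (LK LD1_c1 LD2_c19 LD3_c13)) :=
  Lre_g IH (LK LD1_c2 LD2_c45 LD3_c41) (LK LD1_c1 LD2_c19 LD3_c13) Lrfl Lrfl
theorem f178123 : Led Lsl_bt (LP (LK LD1_c5 LD2_c39 LD3_c27)) = (LP (LK LD1_c2 LD2_c45 LD3_c41)) :=
  Lre_b IH (LK LD1_c5 LD2_c39 LD3_c27) (LK LD1_c2 LD2_c45 LD3_c41) Lrfl Lrfl
theorem f178124 : Led Lsl_ct (LP (LK LD1_c5 LD2_c39 LD3_c27)) = (LP (LK LD1_c11 LD2_c10 LD3_c0)) :=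
  Lre_c IH (LK LD1_c5 LD2_c39 LD3_c27) (LK LD1_c11 LD2_c10 LD3_c0) Lrfl Lrfl
theorem f178126 : Led Lsl_gf (LP (LK LD1_c11 LD2_c10 LD3_c0)) = (LP (LK LD1_c11 LD2_c5 LD3_c21)) :=
  Lgr Lrot129 (Lpe (f178124 IH) (Lpr_bt (f178123 IH) (Lpr_gt (f178122 IH) (Lpe (f171866 IH) (Lpr_ct (K9.f171861 IH) (Lpr_gt (K12.f178096 IH) (Lpe (K12.f177860 IH) (Lpr_bt (f178116 IH) (Lpr_gt (f178117 IH) (Lpr_ct (f178125 IH) (Lpn (LP (LK LD1_c11 LD2_c5 LD3_c21)))))))))))))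
theorem f178133 : Led Lsl_ct (LP (LK LD1_c11 LD2_c10 LD3_c0)) = (LP (LK LD1_c5 LD2_c39 LD3_c27)) :=
  Lre_c IH (LK LD1_c11 LD2_c10 LD3_c0) (LK LD1_c5 LD2_c39 LD3_c27) Lrfl Lrfl
theorem f178135 : Led Lsl_dt (LP (LK LD1_c5 LD2_c39 LD3_c27)) = (LP (LK LD1_c11 LD2_c10 LD3_c1)) :=
  Lre_d IH (LK LD1_c5 LD2_c39 LD3_c27) (LK LD1_c11 LD2_c10 LD3_c1) Lrfl Lrfl
theorem f178136 : Led Lsl_ct (LP (LK LD1_c20 LD2_c4 LD3_c36)) = (LP (LK LD1_c11 LD2_c10 LD3_c1)) :=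
  Lre_c IH (LK LD1_c20 LD2_c4 LD3_c36) (LK LD1_c11 LD2_c10 LD3_c1) Lrfl Lrfl
theorem f289592 : Led Lsl_gf (LP (LK LD1_c20 LD2_c4 LD3_c36)) = (LP (LK LD1_c16 LD2_c3 LD3_c16)) :=
  Lgr Lrot104 (Lpr_ct (f178136 IH) (Lpe (f178135 IH) (Lpe (f178133 IH) (Lpr_gf (f178126 IH) (Lpe (f178125 IH) (Lpe (f178117 IH) (Lpr_df (f178899 IH) (Lpr_gt (f289580 IH) (Lpe (K17.f224986 IH) (Lpn (LP (LK LD1_c16 LD2_c3 LD3_c16))))))))))))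
theorem f318675 : Led Lsl_gf (LP (LK LD1_c19 LD2_c42 LD3_c36)) = (LP (LK LD1_c20 LD2_c4 LD3_c36)) :=
  Lgr Lrot76 (Lpr_af (f318462 IH) (Lpe (f290287 IH) (Lpe (f289592 IH) (Lpn (LP (LK LD1_c20 LD2_c4 LD3_c36))))))
theorem f319621 : Led Lsl_dt (LP (LK LD1_c16 LD2_c3 LD3_c5)) = (LP (LK LD1_c20 LD2_c4 LD3_c36)) :=
  Lgr Lrot115 (Lpe (f290256 IH) (Lpr_ct (f290249 IH) (Lpr_gt (f260867 IH) (Lpr_dt (f319619 IH) (Lpe (f318690 IH) (Lpr_dt (f219575 IH) (Lpr_ct (f319016 IH) (Lpe (f319120 IH) (Lpr_gf (f318675 IH) (Lpn (LP (LK LD1_c20 LD2_c4 LD3_c36))))))))))))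
theorem f289597 : Led Lsl_bt (LP (LK LD1_c11 LD2_c10 LD3_c1)) = (LP (LK LD1_c5 LD2_c39 LD3_c29)) :=
  Lre_b IH (LK LD1_c11 LD2_c10 LD3_c1) (LK LD1_c5 LD2_c39 LD3_c29) Lrfl Lrfl
theorem f177653 : Led Lsl_gf (LP (LK LD1_c1 LD2_c18 LD3_c42)) = (LP (LK LD1_c1 LD2_c3 LD3_c35)) :=
  Lgr Lrot134 (Lpe (K12.f164711 IH) (Lpr_et (K9.f165072 IH) (Lpe (K9.f177179 IH) (Lpr_ef (K10.f177649 IH) (Lpe (K10.f177651 IH) (Lpr_gt (K10.f101573 IH) (Lpe (K9.f100603 IH) (Lpr_et (K9.f100942 IH) (Lpr_gt (K9.f174744 IH) (Lpr_dt (K15.f20630 IH) (Lpn (LP (LK LD1_c1 LD2_c3 LD3_c35)))))))))))))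
theorem f226533 : Led Lsl_gf (LP (LK LD1_c0 LD2_c36 LD3_c8)) = (LP (LK LD1_c1 LD2_c16 LD3_c61)) :=
  Lgr Lrot144 (Lpr_dt (K12.f226409 IH) (Lpr_gt (K9.f44741 IH) (Lpr_dt (K9.f44740 IH) (Lpe (K9.f172858 IH) (Lpe (K9.f8440 IH) (Lpe (K9.f8439 IH) (Lpe (K13.f8425 IH) (Lpe (K12.f172407 IH) (Lpe (K12.f172408 IH) (Lpn (LP (LK LD1_c1 LD2_c16 LD3_c61))))))))))))
theorem f180284 : Led Lsl_cf (LP (LK LD1_c1 LD2_c18 LD3_c38)) = (LP (LK LD1_c2 LD2_c40 LD3_c39)) :=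
  Lgr Lrot14 (Lpe (K9.f164733 IH) (Lpr_gf (K10.f180278 IH) (Lpr_df (K9.f172427 IH) (Lpe (K9.f172426 IH) (Lpr_ct (K9.f168229 IH) (Lpr_gt (K9.f168230 IH) (Lpr_dt (K9.f179182 IH) (Lpe (K12.f179189 IH) (Lpr_dt (K15.f179299 IH) (Lpn (LP (LK LD1_c2 LD2_c40 LD3_c39))))))))))))
theorem f180403 : Led Lsl_gt (LP (LK LD1_c2 LD2_c12 LD3_c5)) = (LP (LK LD1_c2 LD2_c40 LD3_c39)) :=
  Lgr Lrot9 (Lpe (K15.f165038 IH) (Lpr_gt (K9.f167840 IH) (Lpr_ct (K9.f42261 IH) (Lpr_gt (K9.f7633 IH) (Lpr_ct (K9.f167786 IH) (Lpe (K12.f169279 IH) (Lpr_cf (K12.f173400 IH) (Lpe (K10.f180280 IH) (Lpr_cf (f180284 IH) (Lpn (LP (LK LD1_c2 LD2_c40 LD3_c39))))))))))))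
theorem f226535 : Led Lsl_ct (LP (LK LD1_c2 LD2_c12 LD3_c5)) = (LP (LK LD1_c1 LD2_c3 LD3_c35)) :=
  Lgr Lrot8 (Lpr_gt (f180403 IH) (Lpr_dt (K15.f179312 IH) (Lpe (f226533 IH) (Lpr_dt (K12.f226409 IH) (Lpe (K9.f172139 IH) (Lpe (K9.f165211 IH) (Lpr_gf (K9.f171864 IH) (Lpe (K12.f164989 IH) (Lpr_gf (f177653 IH) (Lpn (LP (LK LD1_c1 LD2_c3 LD3_c35))))))))))))
theorem f289595 : Led Lsl_bt (LP (LK LD1_c2 LD2_c12 LD3_c5)) = (LP (LK LD1_c4 LD2_c30 LD3_c7)) :=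
  Lre_b IH (LK LD1_c2 LD2_c12 LD3_c5) (LK LD1_c4 LD2_c30 LD3_c7) Lrfl Lrfl
theorem f289596 : Led Lsl_ct (LP (LK LD1_c11 LD2_c10 LD3_c1)) = (LP (LK LD1_c20 LD2_c4 LD3_c36)) :=
  Lre_c IH (LK LD1_c11 LD2_c10 LD3_c1) (LK LD1_c20 LD2_c4 LD3_c36) Lrfl Lrfl
theorem f289598 : Led Lsl_gf (LP (LK LD1_c4 LD2_c30 LD3_c7)) = (LP (LK LD1_c5 LD2_c39 LD3_c29)) :=
  Lgr Lrot124 (Lpe (f289595 IH) (Lpr_ct (f226535 IH) (Lpe (f177653 IH) (Lpe (K12.f226020 IH) (Lpr_bt (f178898 IH) (Lpr_gt (f289580 IH) (Lpe (K17.f224986 IH) (Lpe (f289592 IH) (Lpe (f289596 IH) (Lpr_bt (f289597 IH) (Lpn (LP (LK LD1_c5 LD2_c39 LD3_c29)))))))))))))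
theorem f168815 : Led Lsl_dt (LP (LK LD1_c4 LD2_c30 LD3_c7)) = (LP (LK LD1_c2 LD2_c12 LD3_c4)) :=
  Lre_d IH (LK LD1_c4 LD2_c30 LD3_c7) (LK LD1_c2 LD2_c12 LD3_c4) Lrfl Lrfl
theorem f319633 : Led Lsl_cf (LP (LK LD1_c4 LD2_c4 LD3_c7)) = (LP (LK LD1_c2 LD2_c12 LD3_c4)) :=
  Lgr Lrot89 (Lpr_bt (f53073 IH) (Lpr_gt (K10.f53069 IH) (Lpr_dt (K10.f52252 IH) (Lpr_ct (K11.f52291 IH) (Lpr_bt (K9.f50400 IH) (Lpr_gt (K12.f33099 IH) (Lpr_dt (K14.f50396 IH) (Lpe (K15.f258547 IH) (Lpr_bt (K15.f257947 IH) (Lpe (K15.f257937 IH) (Lpe (K17.f290242 IH) (Lpe (K17.f290244 IH) (Lpr_bt (f290236 IH) (Lpr_gt (f290256 IH) (Lpr_dt (f319621 IH) (Lpr_ct (f178136 IH) (Lpr_bt (f289597 IH) (Lpe (f289598 IH) (Lpr_dt (f168815 IH) (Lpn (LP (LK LD1_c2 LD2_c12 LD3_c4))))))))))))))))))))))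
theorem f319640 : Led Lsl_et (LP (LK LD1_c4 LD2_c4 LD3_c7)) = (LP (LK LD1_c8 LD2_c8 LD3_c57)) :=
  Lre_e IH (LK LD1_c4 LD2_c4 LD3_c7) (LK LD1_c8 LD2_c8 LD3_c57) Lrfl Lrfl
theorem f319641 : Led Lsl_et (LP (LK LD1_c4 LD2_c30 LD3_c8)) = (LP (LK LD1_c2 LD2_c12 LD3_c4)) :=
  Lre_e IH (LK LD1_c4 LD2_c30 LD3_c8) (LK LD1_c2 LD2_c12 LD3_c4) Lrfl Lrfl
theorem f319642 : Led Lsl_ct (LP (LK LD1_c8 LD2_c8 LD3_c57)) = (LP (LK LD1_c4 LD2_c30 LD3_c8)) :=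
  Lgr Lrot15 (Lpe (f319640 IH) (Lpr_cf (f319633 IH) (Lpe (f319641 IH) (Lpn (LP (LK LD1_c4 LD2_c30 LD3_c8))))))
theorem f319671 : Led Lsl_ft (LP (LK LD1_c15 LD2_c20 LD3_c37)) = (LP (LK LD1_c8 LD2_c8 LD3_c57)) :=
  Lre_f IH (LK LD1_c15 LD2_c20 LD3_c37) (LK LD1_c8 LD2_c8 LD3_c57) Lrfl Lrfl
theorem f319672 : Led Lsl_ft (LP (LK LD1_c4 LD2_c30 LD3_c8)) = (LP (LK LD1_c8 LD2_c58 LD3_c27)) :=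
  Lre_f IH (LK LD1_c4 LD2_c30 LD3_c8) (LK LD1_c8 LD2_c58 LD3_c27) Lrfl Lrfl
theorem f319673 : Led Lsl_cf (LP (LK LD1_c15 LD2_c20 LD3_c37)) = (LP (LK LD1_c8 LD2_c58 LD3_c27)) :=
  Lgr Lrot108 (Lpr_ft (f319671 IH) (Lpr_ct (f319642 IH) (Lpr_ft (f319672 IH) (Lpn (LP (LK LD1_c8 LD2_c58 LD3_c27))))))
theorem f319687 : Led Lsl_ct (LP (LK LD1_c15 LD2_c20 LD3_c37)) = (LP (LK LD1_c8 LD2_c58 LD3_c27)) :=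
  Lgr Lrot59 (Lpr_cf (f319673 IH) (Lpn (LP (LK LD1_c8 LD2_c58 LD3_c27))))
theorem f319696 : Led Lsl_bt (LP (LK LD1_c8 LD2_c8 LD3_c59)) = (LP (LK LD1_c15 LD2_c20 LD3_c37)) :=
  Lre_b IH (LK LD1_c8 LD2_c8 LD3_c59) (LK LD1_c15 LD2_c20 LD3_c37) Lrfl Lrfl
theorem f168781 : Led Lsl_bt (LP (LK LD1_c8 LD2_c58 LD3_c27)) = (LP (LK LD1_c4 LD2_c30 LD3_c11)) :=
  Lre_b IH (LK LD1_c8 LD2_c58 LD3_c27) (LK LD1_c4 LD2_c30 LD3_c11) Lrfl Lrfl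
theorem f167913 : Led Lsl_et (LP (LK LD1_c1 LD2_c2 LD3_c60)) = (LP (LK LD1_c2 LD2_c12 LD3_c6)) :=
  Lre_e IH (LK LD1_c1 LD2_c2 LD3_c60) (LK LD1_c2 LD2_c12 LD3_c6) Lrfl Lrfl
theorem f167914 : Led Lsl_cf (LP (LK LD1_c1 LD2_c10 LD3_c4)) = (LP (LK LD1_c2 LD2_c12 LD3_c6)) :=
  Lgr Lrot39 (Lpr_et (K13.f41100 IH) (Lpr_ct (K9.f167841 IH) (Lpr_et (f167913 IH) (Lpn (LP (LK LD1_c2 LD2_c12 LD3_c6))))))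
theorem f168755 : Led Lsl_ft (LP (LK LD1_c1 LD2_c10 LD3_c4)) = (LP (LK LD1_c2 LD2_c25 LD3_c48)) :=
  Lre_f IH (LK LD1_c1 LD2_c10 LD3_c4) (LK LD1_c2 LD2_c25 LD3_c48) Lrfl Lrfl
theorem f168756 : Led Lsl_ft (LP (LK LD1_c4 LD2_c30 LD3_c11)) = (LP (LK LD1_c2 LD2_c12 LD3_c6)) :=
  Lre_f IH (LK LD1_c4 LD2_c30 LD3_c11) (LK LD1_c2 LD2_c12 LD3_c6) Lrfl Lrfl
theorem f168757 : Led Lsl_ct (LP (LK LD1_c2 LD2_c25 LD3_c48)) = (LP (LK LD1_c4 LD2_c30 LD3_c11)) :=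
  Lgr Lrot40 (Lpe (f168755 IH) (Lpr_cf (f167914 IH) (Lpe (f168756 IH) (Lpn (LP (LK LD1_c4 LD2_c30 LD3_c11))))))
theorem f168776 : Led Lsl_cf (LP (LK LD1_c2 LD2_c25 LD3_c48)) = (LP (LK LD1_c4 LD2_c30 LD3_c11)) :=
  Lgr Lrot11 (Lpr_ct (f168757 IH) (Lpn (LP (LK LD1_c4 LD2_c30 LD3_c11))))
theorem f168780 : Led Lsl_bt (LP (LK LD1_c2 LD2_c25 LD3_c48)) = (LP (LK LD1_c4 LD2_c55 LD3_c56)) :=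
  Lre_b IH (LK LD1_c2 LD2_c25 LD3_c48) (LK LD1_c4 LD2_c55 LD3_c56) Lrfl Lrfl
theorem f319697 : Led Lsl_cf (LP (LK LD1_c8 LD2_c8 LD3_c59)) = (LP (LK LD1_c4 LD2_c55 LD3_c56)) :=
  Lgr Lrot97 (Lpr_bt (f319696 IH) (Lpr_ct (f319687 IH) (Lpr_bt (f168781 IH) (Lpe (f168776 IH) (Lpr_bt (f168780 IH) (Lpn (LP (LK LD1_c4 LD2_c55 LD3_c56))))))))
theorem f314144 : Led Lsl_ft (LP (LK LD1_c2 LD2_c4 LD3_c42)) = (LP (LK LD1_c4 LD2_c14 LD3_c41)) :=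
  Lre_f IH (LK LD1_c2 LD2_c4 LD3_c42) (LK LD1_c4 LD2_c14 LD3_c41) Lrfl Lrfl
theorem f314146 : Led Lsl_at (LP (LK LD1_c4 LD2_c14 LD3_c41)) = (LP (LK LD1_c4 LD2_c55 LD3_c56)) :=
  Lgr Lrot66 (Lpe (f314144 IH) (Lpr_af (K19.f314133 IH) (Lpe (K19.f314145 IH) (Lpn (LP (LK LD1_c4 LD2_c55 LD3_c56))))))
theorem f319704 : Led Lsl_at (LP (LK LD1_c8 LD2_c8 LD3_c59)) = (LP (LK LD1_c8 LD2_c28 LD3_c2)) :=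
  Lgr Lrot107 (Lpr_cf (f319697 IH) (Lpe (f314146 IH) (Lpe (K19.f314213 IH) (Lpn (LP (LK LD1_c8 LD2_c28 LD3_c2))))))
theorem f314136 : Led Lsl_ct (LP (LK LD1_c4 LD2_c14 LD3_c41)) = (LP (LK LD1_c8 LD2_c28 LD3_c2)) :=
  Lre_c IH (LK LD1_c4 LD2_c14 LD3_c41) (LK LD1_c8 LD2_c28 LD3_c2) Lrfl Lrfl
theorem f200750 : Led Lsl_cf (LP (LK LD1_c8 LD2_c10 LD3_c25)) = (LP (LK LD1_c8 LD2_c9 LD3_c4)) :=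
  Lgr Lrot11 (Lpr_ct (K19.f200744 IH) (Lpn (LP (LK LD1_c8 LD2_c9 LD3_c4))))
theorem f314426 : Led Lsl_et (LP (LK LD1_c8 LD2_c28 LD3_c2)) = (LP (LK LD1_c8 LD2_c9 LD3_c4)) :=
  Lgr Lrot158 (Lpe (f314136 IH) (Lpr_ef (K19.f314424 IH) (Lpr_cf (f200750 IH) (Lpn (LP (LK LD1_c8 LD2_c9 LD3_c4))))))
theorem f319715 : Led Lsl_ef (LP (LK LD1_c8 LD2_c8 LD3_c59)) = (LP (LK LD1_c8 LD2_c28 LD3_c13)) :=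
  Lgr Lrot20 (Lpr_at (f319704 IH) (Lpr_et (f314426 IH) (Lpe (K19.f314476 IH) (Lpn (LP (LK LD1_c8 LD2_c28 LD3_c13))))))
theorem f319707 : Led Lsl_ft (LP (LK LD1_c8 LD2_c8 LD3_c59)) = (LP (LK LD1_c4 LD2_c4 LD3_c8)) :=
  Lre_f IH (LK LD1_c8 LD2_c8 LD3_c59) (LK LD1_c4 LD2_c4 LD3_c8) Lrfl Lrfl
theorem f53074 : Led Lsl_et (LP (LK LD1_c4 LD2_c4 LD3_c8)) = (LP (LK LD1_c1 LD2_c59 LD3_c0)) :=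
  Lre_e IH (LK LD1_c4 LD2_c4 LD3_c8) (LK LD1_c1 LD2_c59 LD3_c0) Lrfl Lrfl
theorem f220965 : Led Lsl_ft (LP (LK LD1_c4 LD2_c14 LD3_c42)) = (LP (LK LD1_c8 LD2_c28 LD3_c13)) :=
  Lre_f IH (LK LD1_c4 LD2_c14 LD3_c42) (LK LD1_c8 LD2_c28 LD3_c13) Lrfl Lrfl
theorem f319725 : Led Lsl_ft (LP (LK LD1_c1 LD2_c59 LD3_c0)) = (LP (LK LD1_c2 LD2_c4 LD3_c43)) :=
  Lgr Lrot86 (Lpe (f53074 IH) (Lpe (f319707 IH) (Lpr_ef (f319715 IH) (Lpe (f220965 IH) (Lpe (K19.f221026 IH) (Lpn (LP (LK LD1_c2 LD2_c4 LD3_c43))))))))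
theorem f319731 : Led Lsl_ff (LP (LK LD1_c1 LD2_c59 LD3_c0)) = (LP (LK LD1_c2 LD2_c4 LD3_c43)) :=
  Lgr Lrot3 (Lpr_ft (f319725 IH) (Lpn (LP (LK LD1_c2 LD2_c4 LD3_c43))))
theorem f218372 : Led Lsl_bt (LP (LK LD1_c4 LD2_c14 LD3_c15)) = (LP (LK LD1_c2 LD2_c4 LD3_c30)) :=
  Lre_b IH (LK LD1_c4 LD2_c14 LD3_c15) (LK LD1_c2 LD2_c4 LD3_c30) Lrfl Lrfl
theorem f196911 : Led Lsl_gt (LP (LK LD1_c4 LD2_c14 LD3_c47)) = (LP (LK LD1_c2 LD2_c4 LD3_c45)) :=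
  Lre_g IH (LK LD1_c4 LD2_c14 LD3_c47) (LK LD1_c2 LD2_c4 LD3_c45) Lrfl Lrfl
theorem f218033 : Led Lsl_ct (LP (LK LD1_c8 LD2_c28 LD3_c24)) = (LP (LK LD1_c4 LD2_c14 LD3_c47)) :=
  Lre_c IH (LK LD1_c8 LD2_c28 LD3_c24) (LK LD1_c4 LD2_c14 LD3_c47) Lrfl Lrfl
theorem f220882 : Led Lsl_bt (LP (LK LD1_c2 LD2_c41 LD3_c50)) = (LP (LK LD1_c1 LD2_c17 LD3_c34)) :=
  Lre_b IH (LK LD1_c2 LD2_c41 LD3_c50) (LK LD1_c1 LD2_c17 LD3_c34) Lrfl Lrfl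
theorem f220883 : Led Lsl_ct (LP (LK LD1_c2 LD2_c41 LD3_c50)) = (LP (LK LD1_c1 LD2_c17 LD3_c38)) :=
  Lre_c IH (LK LD1_c2 LD2_c41 LD3_c50) (LK LD1_c1 LD2_c17 LD3_c38) Lrfl Lrfl
theorem f178873 : Led Lsl_gt (LP (LK LD1_c1 LD2_c17 LD3_c38)) = (LP (LK LD1_c2 LD2_c41 LD3_c60)) :=
  Lre_g IH (LK LD1_c1 LD2_c17 LD3_c38) (LK LD1_c2 LD2_c41 LD3_c60) Lrfl Lrfl
theorem f220884 : Led Lsl_ct (LP (LK LD1_c5 LD2_c31 LD3_c34)) = (LP (LK LD1_c2 LD2_c41 LD3_c60)) :=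
  Lre_c IH (LK LD1_c5 LD2_c31 LD3_c34) (LK LD1_c2 LD2_c41 LD3_c60) Lrfl Lrfl
theorem f220885 : Led Lsl_bt (LP (LK LD1_c5 LD2_c31 LD3_c34)) = (LP (LK LD1_c10 LD2_c54 LD3_c50)) :=
  Lre_b IH (LK LD1_c5 LD2_c31 LD3_c34) (LK LD1_c10 LD2_c54 LD3_c50) Lrfl Lrfl
theorem f220886 : Led Lsl_gf (LP (LK LD1_c8 LD2_c28 LD3_c24)) = (LP (LK LD1_c10 LD2_c54 LD3_c50)) :=
  Lgr Lrot181 (Lpr_ct (f218033 IH) (Lpr_gt (f196911 IH) (Lpe (K18.f52829 IH) (Lpr_bt (f218372 IH) (Lpr_gt (K12.f220872 IH) (Lpe (f220882 IH) (Lpr_ct (f220883 IH) (Lpr_gt (f178873 IH) (Lpe (f220884 IH) (Lpr_bt (f220885 IH) (Lpn (LP (LK LD1_c10 LD2_c54 LD3_c50)))))))))))))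
theorem f220894 : Led Lsl_at (LP (LK LD1_c15 LD2_c54 LD3_c24)) = (LP (LK LD1_c8 LD2_c28 LD3_c24)) :=
  Lre_a IH (LK LD1_c15 LD2_c54 LD3_c24) (LK LD1_c8 LD2_c28 LD3_c24) Lrfl Lrfl
theorem f220895 : Led Lsl_ft (LP (LK LD1_c8 LD2_c28 LD3_c19)) = (LP (LK LD1_c15 LD2_c54 LD3_c24)) :=
  Lre_f IH (LK LD1_c8 LD2_c28 LD3_c19) (LK LD1_c15 LD2_c54 LD3_c24) Lrfl Lrfl
theorem f220896 : Led Lsl_gt (LP (LK LD1_c8 LD2_c28 LD3_c19)) = (LP (LK LD1_c10 LD2_c54 LD3_c50)) :=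
  Lgr Lrot5 (Lpr_ft (f220895 IH) (Lpr_at (f220894 IH) (Lpr_gf (f220886 IH) (Lpn (LP (LK LD1_c10 LD2_c54 LD3_c50))))))
theorem f52833 : Led Lsl_ct (LP (LK LD1_c4 LD2_c14 LD3_c46)) = (LP (LK LD1_c8 LD2_c28 LD3_c19)) :=
  Lre_c IH (LK LD1_c4 LD2_c14 LD3_c46) (LK LD1_c8 LD2_c28 LD3_c19) Lrfl Lrfl
theorem f196942 : Led Lsl_gt (LP (LK LD1_c2 LD2_c4 LD3_c45)) = (LP (LK LD1_c4 LD2_c14 LD3_c46)) :=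
  Lre_g IH (LK LD1_c2 LD2_c4 LD3_c45) (LK LD1_c4 LD2_c14 LD3_c46) Lrfl Lrfl
theorem f196941 : Led Lsl_bt (LP (LK LD1_c0 LD2_c59 LD3_c23)) = (LP (LK LD1_c2 LD2_c4 LD3_c45)) :=
  Lre_b IH (LK LD1_c0 LD2_c59 LD3_c23) (LK LD1_c2 LD2_c4 LD3_c45) Lrfl Lrfl
theorem f220900 : Led Lsl_ct (LP (LK LD1_c10 LD2_c59 LD3_c6)) = (LP (LK LD1_c10 LD2_c54 LD3_c50)) :=
  Lre_c IH (LK LD1_c10 LD2_c59 LD3_c6) (LK LD1_c10 LD2_c54 LD3_c50) Lrfl Lrfl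
theorem f220906 : Led Lsl_bt (LP (LK LD1_c10 LD2_c59 LD3_c6)) = (LP (LK LD1_c5 LD2_c33 LD3_c36)) :=
  Lre_b IH (LK LD1_c10 LD2_c59 LD3_c6) (LK LD1_c5 LD2_c33 LD3_c36) Lrfl Lrfl
theorem f220920 : Led Lsl_gt (LP (LK LD1_c5 LD2_c33 LD3_c36)) = (LP (LK LD1_c2 LD2_c42 LD3_c54)) :=
  Lre_g IH (LK LD1_c5 LD2_c33 LD3_c36) (LK LD1_c2 LD2_c42 LD3_c54) Lrfl Lrfl
theorem f220921 : Led Lsl_bt (LP (LK LD1_c2 LD2_c4 LD3_c43)) = (LP (LK LD1_c2 LD2_c42 LD3_c54)) :=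
  Lgr Lrot92 (Lpr_ct (K15.f196929 IH) (Lpr_gt (K11.f27782 IH) (Lpe (K10.f52671 IH) (Lpr_bt (f196941 IH) (Lpr_gt (f196942 IH) (Lpr_ct (f52833 IH) (Lpr_gt (f220896 IH) (Lpe (f220900 IH) (Lpr_bt (f220906 IH) (Lpr_gt (f220920 IH) (Lpn (LP (LK LD1_c2 LD2_c42 LD3_c54)))))))))))))
theorem f220946 : Led Lsl_bf (LP (LK LD1_c2 LD2_c4 LD3_c43)) = (LP (LK LD1_c2 LD2_c42 LD3_c54)) :=
  Lgr Lrot24 (Lpr_bt (f220921 IH) (Lpn (LP (LK LD1_c2 LD2_c42 LD3_c54))))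
theorem f319735 : Led Lsl_ft (LP (LK LD1_c4 LD2_c4 LD3_c7)) = (LP (LK LD1_c2 LD2_c42 LD3_c54)) :=
  Lgr Lrot75 (Lpe (f196404 IH) (Lpr_ff (f319731 IH) (Lpr_bf (f220946 IH) (Lpn (LP (LK LD1_c2 LD2_c42 LD3_c54))))))
theorem f319741 : Led Lsl_et (LP (LK LD1_c8 LD2_c8 LD3_c57)) = (LP (LK LD1_c4 LD2_c4 LD3_c7)) :=
  Lre_e IH (LK LD1_c8 LD2_c8 LD3_c57) (LK LD1_c4 LD2_c4 LD3_c7) Lrfl Lrfl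
theorem f220950 : Led Lsl_et (LP (LK LD1_c2 LD2_c42 LD3_c54)) = (LP (LK LD1_c5 LD2_c33 LD3_c37)) :=
  Lre_e IH (LK LD1_c2 LD2_c42 LD3_c54) (LK LD1_c5 LD2_c33 LD3_c37) Lrfl Lrfl
theorem f221015 : Led Lsl_ft (LP (LK LD1_c5 LD2_c33 LD3_c37)) = (LP (LK LD1_c10 LD2_c59 LD3_c11)) :=
  Lre_f IH (LK LD1_c5 LD2_c33 LD3_c37) (LK LD1_c10 LD2_c59 LD3_c11) Lrfl Lrfl
theorem f319742 : Led Lsl_ef (LP (LK LD1_c15 LD2_c20 LD3_c37)) = (LP (LK LD1_c10 LD2_c59 LD3_c11)) :=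
  Lgr Lrot21 (Lpr_ft (f319671 IH) (Lpr_et (f319741 IH) (Lpr_ft (f319735 IH) (Lpr_et (f220950 IH) (Lpr_ft (f221015 IH) (Lpn (LP (LK LD1_c10 LD2_c59 LD3_c11))))))))
theorem f221012 : Led Lsl_ct (LP (LK LD1_c5 LD2_c33 LD3_c44)) = (LP (LK LD1_c10 LD2_c59 LD3_c11)) :=
  Lre_c IH (LK LD1_c5 LD2_c33 LD3_c44) (LK LD1_c10 LD2_c59 LD3_c11) Lrfl Lrfl
theorem f319747 : Led Lsl_et (LP (LK LD1_c8 LD2_c58 LD3_c27)) = (LP (LK LD1_c5 LD2_c33 LD3_c44)) :=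
  Lgr Lrot158 (Lpe (f319687 IH) (Lpr_ef (f319742 IH) (Lpe (f221012 IH) (Lpn (LP (LK LD1_c5 LD2_c33 LD3_c44))))))
theorem f319751 : Led Lsl_ef (LP (LK LD1_c8 LD2_c58 LD3_c27)) = (LP (LK LD1_c5 LD2_c33 LD3_c44)) :=
  Lgr Lrot88 (Lpr_et (f319747 IH) (Lpn (LP (LK LD1_c5 LD2_c33 LD3_c44))))
theorem f319701 : Led Lsl_ft (LP (LK LD1_c8 LD2_c58 LD3_c27)) = (LP (LK LD1_c4 LD2_c30 LD3_c8)) :=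
  Lre_f IH (LK LD1_c8 LD2_c58 LD3_c27) (LK LD1_c4 LD2_c30 LD3_c8) Lrfl Lrfl
theorem f319757 : Led Lsl_ft (LP (LK LD1_c2 LD2_c42 LD3_c56)) = (LP (LK LD1_c5 LD2_c33 LD3_c44)) :=
  Lre_f IH (LK LD1_c2 LD2_c42 LD3_c56) (LK LD1_c5 LD2_c33 LD3_c44) Lrfl Lrfl
theorem f319758 : Led Lsl_et (LP (LK LD1_c1 LD2_c17 LD3_c57)) = (LP (LK LD1_c2 LD2_c42 LD3_c56)) :=
  Lre_e IH (LK LD1_c1 LD2_c17 LD3_c57) (LK LD1_c2 LD2_c42 LD3_c56) Lrfl Lrfl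
theorem f319759 : Led Lsl_ft (LP (LK LD1_c2 LD2_c12 LD3_c4)) = (LP (LK LD1_c1 LD2_c17 LD3_c57)) :=
  Lgr Lrot86 (Lpe (f319641 IH) (Lpe (f319701 IH) (Lpr_ef (f319751 IH) (Lpe (f319757 IH) (Lpe (f319758 IH) (Lpn (LP (LK LD1_c1 LD2_c17 LD3_c57))))))))
theorem f226125 : Led Lsl_dt (LP (LK LD1_c1 LD2_c17 LD3_c57)) = (LP (LK LD1_c2 LD2_c42 LD3_c55)) :=
  Lre_d IH (LK LD1_c1 LD2_c17 LD3_c57) (LK LD1_c2 LD2_c42 LD3_c55) Lrfl Lrfl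
theorem f319763 : Led Lsl_ff (LP (LK LD1_c4 LD2_c30 LD3_c7)) = (LP (LK LD1_c2 LD2_c42 LD3_c55)) :=
  Lgr Lrot19 (Lpr_dt (f168815 IH) (Lpr_ft (f319759 IH) (Lpr_dt (f226125 IH) (Lpn (LP (LK LD1_c2 LD2_c42 LD3_c55))))))
theorem f319784 : Led Lsl_ft (LP (LK LD1_c4 LD2_c30 LD3_c7)) = (LP (LK LD1_c2 LD2_c42 LD3_c55)) :=
  Lgr Lrot48 (Lpr_ff (f319763 IH) (Lpn (LP (LK LD1_c2 LD2_c42 LD3_c55))))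
theorem f174224 : Led Lsl_bt (LP (LK LD1_c2 LD2_c42 LD3_c55)) = (LP (LK LD1_c1 LD2_c17 LD3_c58)) :=
  Lre_b IH (LK LD1_c2 LD2_c42 LD3_c55) (LK LD1_c1 LD2_c17 LD3_c58) Lrfl Lrfl
theorem f319848 : Led Lsl_ff (LP (LK LD1_c2 LD2_c12 LD3_c5)) = (LP (LK LD1_c1 LD2_c17 LD3_c58)) :=
  Lgr Lrot25 (Lpr_bt (f289595 IH) (Lpr_ft (f319784 IH) (Lpr_bt (f174224 IH) (Lpn (LP (LK LD1_c1 LD2_c17 LD3_c58))))))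
theorem f319856 : Led Lsl_at (LP (LK LD1_c2 LD2_c12 LD3_c5)) = (LP (LK LD1_c1 LD2_c17 LD3_c55)) :=
  Lgr Lrot26 (Lpr_ff (f319848 IH) (Lpr_gt (K17.f225356 IH) (Lpr_gt (K14.f179853 IH) (Lpn (LP (LK LD1_c1 LD2_c17 LD3_c55))))))
theorem f180409 : Led Lsl_et (LP (LK LD1_c4 LD2_c30 LD3_c9)) = (LP (LK LD1_c2 LD2_c12 LD3_c5)) :=
  Lre_e IH (LK LD1_c4 LD2_c30 LD3_c9) (LK LD1_c2 LD2_c12 LD3_c5) Lrfl Lrfl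
theorem f225724 : Led Lsl_et (LP (LK LD1_c1 LD2_c17 LD3_c55)) = (LP (LK LD1_c2 LD2_c42 LD3_c48)) :=
  Lre_e IH (LK LD1_c1 LD2_c17 LD3_c55) (LK LD1_c2 LD2_c42 LD3_c48) Lrfl Lrfl
theorem f319867 : Led Lsl_af (LP (LK LD1_c4 LD2_c30 LD3_c9)) = (LP (LK LD1_c2 LD2_c42 LD3_c48)) :=
  Lgr Lrot50 (Lpr_et (f180409 IH) (Lpr_at (f319856 IH) (Lpr_et (f225724 IH) (Lpn (LP (LK LD1_c2 LD2_c42 LD3_c48))))))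
theorem f319871 : Led Lsl_bt (LP (LK LD1_c4 LD2_c30 LD3_c9)) = (LP (LK LD1_c8 LD2_c58 LD3_c24)) :=
  Lre_b IH (LK LD1_c4 LD2_c30 LD3_c9) (LK LD1_c8 LD2_c58 LD3_c24) Lrfl Lrfl
theorem f319872 : Led Lsl_at (LP (LK LD1_c8 LD2_c58 LD3_c24)) = (LP (LK LD1_c16 LD2_c47 LD3_c21)) :=
  Lre_a IH (LK LD1_c8 LD2_c58 LD3_c24) (LK LD1_c16 LD2_c47 LD3_c21) Lrfl Lrfl
theorem f225728 : Led Lsl_bt (LP (LK LD1_c5 LD2_c33 LD3_c9)) = (LP (LK LD1_c2 LD2_c42 LD3_c48)) :=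
  Lre_b IH (LK LD1_c5 LD2_c33 LD3_c9) (LK LD1_c2 LD2_c42 LD3_c48) Lrfl Lrfl
theorem f319873 : Led Lsl_at (LP (LK LD1_c10 LD2_c57 LD3_c52)) = (LP (LK LD1_c5 LD2_c33 LD3_c9)) :=
  Lre_a IH (LK LD1_c10 LD2_c57 LD3_c52) (LK LD1_c5 LD2_c33 LD3_c9) Lrfl Lrfl
theorem f319874 : Led Lsl_bt (LP (LK LD1_c16 LD2_c47 LD3_c21)) = (LP (LK LD1_c10 LD2_c57 LD3_c52)) :=
  Lgr Lrot62 (Lpe (f319872 IH) (Lpe (f319871 IH) (Lpr_af (f319867 IH) (Lpe (f225728 IH) (Lpe (f319873 IH) (Lpn (LP (LK LD1_c10 LD2_c57 LD3_c52))))))))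
theorem f319894 : Led Lsl_bf (LP (LK LD1_c16 LD2_c47 LD3_c21)) = (LP (LK LD1_c10 LD2_c57 LD3_c52)) :=
  Lgr Lrot24 (Lpr_bt (f319874 IH) (Lpn (LP (LK LD1_c10 LD2_c57 LD3_c52))))
theorem f319796 : Led Lsl_et (LP (LK LD1_c16 LD2_c47 LD3_c21)) = (LP (LK LD1_c8 LD2_c58 LD3_c21)) :=
  Lre_e IH (LK LD1_c16 LD2_c47 LD3_c21) (LK LD1_c8 LD2_c58 LD3_c21) Lrfl Lrfl
theorem f319905 : Led Lsl_et (LP (LK LD1_c5 LD2_c33 LD3_c0)) = (LP (LK LD1_c10 LD2_c57 LD3_c52)) :=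
  Lre_e IH (LK LD1_c5 LD2_c33 LD3_c0) (LK LD1_c10 LD2_c57 LD3_c52) Lrfl Lrfl
theorem f319906 : Led Lsl_bt (LP (LK LD1_c8 LD2_c58 LD3_c21)) = (LP (LK LD1_c5 LD2_c33 LD3_c0)) :=
  Lgr Lrot119 (Lpe (f319796 IH) (Lpr_bf (f319894 IH) (Lpe (f319905 IH) (Lpn (LP (LK LD1_c5 LD2_c33 LD3_c0))))))
theorem f319794 : Led Lsl_dt (LP (LK LD1_c4 LD2_c30 LD3_c6)) = (LP (LK LD1_c8 LD2_c58 LD3_c21)) :=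
  Lre_d IH (LK LD1_c4 LD2_c30 LD3_c6) (LK LD1_c8 LD2_c58 LD3_c21) Lrfl Lrfl
theorem f319910 : Led Lsl_dt (LP (LK LD1_c5 LD2_c33 LD3_c0)) = (LP (LK LD1_c2 LD2_c42 LD3_c42)) :=
  Lre_d IH (LK LD1_c5 LD2_c33 LD3_c0) (LK LD1_c2 LD2_c42 LD3_c42) Lrfl Lrfl
theorem f319911 : Led Lsl_bf (LP (LK LD1_c4 LD2_c30 LD3_c6)) = (LP (LK LD1_c2 LD2_c42 LD3_c42)) :=
  Lgr Lrot93 (Lpr_dt (f319794 IH) (Lpr_bt (f319906 IH) (Lpr_dt (f319910 IH) (Lpn (LP (LK LD1_c2 LD2_c42 LD3_c42))))))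
theorem f319795 : Led Lsl_et (LP (LK LD1_c4 LD2_c30 LD3_c6)) = (LP (LK LD1_c8 LD2_c58 LD3_c22)) :=
  Lre_e IH (LK LD1_c4 LD2_c30 LD3_c6) (LK LD1_c8 LD2_c58 LD3_c22) Lrfl Lrfl
theorem f319919 : Led Lsl_et (LP (LK LD1_c5 LD2_c33 LD3_c1)) = (LP (LK LD1_c2 LD2_c42 LD3_c42)) :=
  Lre_e IH (LK LD1_c5 LD2_c33 LD3_c1) (LK LD1_c2 LD2_c42 LD3_c42) Lrfl Lrfl
theorem f319920 : Led Lsl_bt (LP (LK LD1_c8 LD2_c58 LD3_c22)) = (LP (LK LD1_c5 LD2_c33 LD3_c1)) :=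
  Lgr Lrot119 (Lpe (f319795 IH) (Lpr_bf (f319911 IH) (Lpe (f319919 IH) (Lpn (LP (LK LD1_c5 LD2_c33 LD3_c1))))))
theorem f319930 : Led Lsl_dt (LP (LK LD1_c16 LD2_c47 LD3_c22)) = (LP (LK LD1_c8 LD2_c58 LD3_c22)) :=
  Lre_d IH (LK LD1_c16 LD2_c47 LD3_c22) (LK LD1_c8 LD2_c58 LD3_c22) Lrfl Lrfl
theorem f319931 : Led Lsl_dt (LP (LK LD1_c5 LD2_c33 LD3_c1)) = (LP (LK LD1_c10 LD2_c57 LD3_c54)) :=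
  Lre_d IH (LK LD1_c5 LD2_c33 LD3_c1) (LK LD1_c10 LD2_c57 LD3_c54) Lrfl Lrfl
theorem f319932 : Led Lsl_bf (LP (LK LD1_c16 LD2_c47 LD3_c22)) = (LP (LK LD1_c10 LD2_c57 LD3_c54)) :=
  Lgr Lrot93 (Lpr_dt (f319930 IH) (Lpr_bt (f319920 IH) (Lpr_dt (f319931 IH) (Lpn (LP (LK LD1_c10 LD2_c57 LD3_c54))))))
theorem f319941 : Led Lsl_bt (LP (LK LD1_c16 LD2_c47 LD3_c22)) = (LP (LK LD1_c10 LD2_c57 LD3_c54)) :=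
  Lgr Lrot127 (Lpr_bf (f319932 IH) (Lpn (LP (LK LD1_c10 LD2_c57 LD3_c54))))
theorem f319692 : Led Lsl_at (LP (LK LD1_c8 LD2_c58 LD3_c26)) = (LP (LK LD1_c16 LD2_c47 LD3_c22)) :=
  Lre_a IH (LK LD1_c8 LD2_c58 LD3_c26) (LK LD1_c16 LD2_c47 LD3_c22) Lrfl Lrfl
theorem f281463 : Led Lsl_bt (LP (LK LD1_c4 LD2_c30 LD3_c10)) = (LP (LK LD1_c8 LD2_c58 LD3_c26)) :=
  Lre_b IH (LK LD1_c4 LD2_c30 LD3_c10) (LK LD1_c8 LD2_c58 LD3_c26) Lrfl Lrfl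
theorem f319945 : Led Lsl_at (LP (LK LD1_c10 LD2_c57 LD3_c54)) = (LP (LK LD1_c5 LD2_c33 LD3_c12)) :=
  Lre_a IH (LK LD1_c10 LD2_c57 LD3_c54) (LK LD1_c5 LD2_c33 LD3_c12) Lrfl Lrfl
theorem f319946 : Led Lsl_bt (LP (LK LD1_c5 LD2_c33 LD3_c12)) = (LP (LK LD1_c2 LD2_c42 LD3_c49)) :=
  Lre_b IH (LK LD1_c5 LD2_c33 LD3_c12) (LK LD1_c2 LD2_c42 LD3_c49) Lrfl Lrfl
theorem f319947 : Led Lsl_af (LP (LK LD1_c4 LD2_c30 LD3_c10)) = (LP (LK LD1_c2 LD2_c42 LD3_c49)) :=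
  Lgr Lrot36 (Lpr_bt (f281463 IH) (Lpr_at (f319692 IH) (Lpr_bt (f319941 IH) (Lpr_at (f319945 IH) (Lpr_bt (f319946 IH) (Lpn (LP (LK LD1_c2 LD2_c42 LD3_c49))))))))
theorem f168759 : Led Lsl_ft (LP (LK LD1_c4 LD2_c30 LD3_c10)) = (LP (LK LD1_c8 LD2_c58 LD3_c34)) :=
  Lre_f IH (LK LD1_c4 LD2_c30 LD3_c10) (LK LD1_c8 LD2_c58 LD3_c34) Lrfl Lrfl
theorem f213619 : Led Lsl_ft (LP (LK LD1_c5 LD2_c33 LD3_c24)) = (LP (LK LD1_c2 LD2_c42 LD3_c49)) :=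
  Lre_f IH (LK LD1_c5 LD2_c33 LD3_c24) (LK LD1_c2 LD2_c42 LD3_c49) Lrfl Lrfl
theorem f319953 : Led Lsl_at (LP (LK LD1_c8 LD2_c58 LD3_c34)) = (LP (LK LD1_c5 LD2_c33 LD3_c24)) :=
  Lgr Lrot66 (Lpe (f168759 IH) (Lpr_af (f319947 IH) (Lpe (f213619 IH) (Lpn (LP (LK LD1_c5 LD2_c33 LD3_c24))))))
theorem f168778 : Led Lsl_dt (LP (LK LD1_c4 LD2_c30 LD3_c11)) = (LP (LK LD1_c8 LD2_c58 LD3_c34)) :=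
  Lre_d IH (LK LD1_c4 LD2_c30 LD3_c11) (LK LD1_c8 LD2_c58 LD3_c34) Lrfl Lrfl
theorem f213616 : Led Lsl_dt (LP (LK LD1_c5 LD2_c33 LD3_c24)) = (LP (LK LD1_c2 LD2_c42 LD3_c50)) :=
  Lre_d IH (LK LD1_c5 LD2_c33 LD3_c24) (LK LD1_c2 LD2_c42 LD3_c50) Lrfl Lrfl
theorem f319962 : Led Lsl_af (LP (LK LD1_c4 LD2_c30 LD3_c11)) = (LP (LK LD1_c2 LD2_c42 LD3_c50)) :=
  Lgr Lrot117 (Lpr_dt (f168778 IH) (Lpr_at (f319953 IH) (Lpr_dt (f213616 IH) (Lpn (LP (LK LD1_c2 LD2_c42 LD3_c50))))))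
theorem f314154 : Led Lsl_df (LP (LK LD1_c5 LD2_c1 LD3_c27)) = (LP (LK LD1_c4 LD2_c55 LD3_c56)) :=
  Lgr Lrot38 (Lpr_dt (K19.f314152 IH) (Lpn (LP (LK LD1_c4 LD2_c55 LD3_c56))))
theorem f314317 : Led Lsl_df (LP (LK LD1_c2 LD2_c25 LD3_c48)) = (LP (LK LD1_c2 LD2_c29 LD3_c8)) :=
  Lgr Lrot12 (Lpr_bt (f168780 IH) (Lpe (f314154 IH) (Lpr_bt (K19.f314277 IH) (Lpn (LP (LK LD1_c2 LD2_c29 LD3_c8))))))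
theorem f276110 : Led Lsl_ct (LP (LK LD1_c5 LD2_c3 LD3_c13)) = (LP (LK LD1_c2 LD2_c29 LD3_c8)) :=
  Lre_c IH (LK LD1_c5 LD2_c3 LD3_c13) (LK LD1_c2 LD2_c29 LD3_c8) Lrfl Lrfl
theorem f276109 : Led Lsl_dt (LP (LK LD1_c9 LD2_c57 LD3_c20)) = (LP (LK LD1_c5 LD2_c3 LD3_c13)) :=
  Lre_d IH (LK LD1_c9 LD2_c57 LD3_c20) (LK LD1_c5 LD2_c3 LD3_c13) Lrfl Lrfl
theorem f213618 : Led Lsl_ft (LP (LK LD1_c1 LD2_c17 LD3_c56)) = (LP (LK LD1_c2 LD2_c42 LD3_c50)) :=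
  Lre_f IH (LK LD1_c1 LD2_c17 LD3_c56) (LK LD1_c2 LD2_c42 LD3_c50) Lrfl Lrfl
theorem f179203 : Led Lsl_dt (LP (LK LD1_c1 LD2_c17 LD3_c56)) = (LP (LK LD1_c2 LD2_c42 LD3_c49)) :=
  Lre_d IH (LK LD1_c1 LD2_c17 LD3_c56) (LK LD1_c2 LD2_c42 LD3_c49) Lrfl Lrfl
theorem f213716 : Led Lsl_ct (LP (LK LD1_c2 LD2_c42 LD3_c49)) = (LP (LK LD1_c5 LD2_c33 LD3_c23)) :=
  Lre_c IH (LK LD1_c2 LD2_c42 LD3_c49) (LK LD1_c5 LD2_c33 LD3_c23) Lrfl Lrfl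
theorem f213717 : Led Lsl_dt (LP (LK LD1_c5 LD2_c33 LD3_c23)) = (LP (LK LD1_c10 LD2_c58 LD3_c44)) :=
  Lre_d IH (LK LD1_c5 LD2_c33 LD3_c23) (LK LD1_c10 LD2_c58 LD3_c44) Lrfl Lrfl
theorem f319971 : Led Lsl_cf (LP (LK LD1_c9 LD2_c57 LD3_c20)) = (LP (LK LD1_c10 LD2_c58 LD3_c44)) :=
  Lgr Lrot116 (Lpr_dt (f276109 IH) (Lpr_ct (f276110 IH) (Lpe (f314317 IH) (Lpr_ct (f168757 IH) (Lpr_af (f319962 IH) (Lpe (f213618 IH) (Lpr_dt (f179203 IH) (Lpr_ct (f213716 IH) (Lpr_dt (f213717 IH) (Lpn (LP (LK LD1_c10 LD2_c58 LD3_c44))))))))))))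
theorem f319973 : Led Lsl_ct (LP (LK LD1_c9 LD2_c57 LD3_c20)) = (LP (LK LD1_c10 LD2_c58 LD3_c44)) :=
  Lgr Lrot59 (Lpr_cf (f319971 IH) (Lpn (LP (LK LD1_c10 LD2_c58 LD3_c44))))
theorem f276108 : Led Lsl_dt (LP (LK LD1_c5 LD2_c3 LD3_c13)) = (LP (LK LD1_c9 LD2_c57 LD3_c20)) :=
  Lre_d IH (LK LD1_c5 LD2_c3 LD3_c13) (LK LD1_c9 LD2_c57 LD3_c20) Lrfl Lrfl
theorem f213634 : Led Lsl_dt (LP (LK LD1_c10 LD2_c58 LD3_c44)) = (LP (LK LD1_c5 LD2_c33 LD3_c23)) :=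
  Lre_d IH (LK LD1_c10 LD2_c58 LD3_c44) (LK LD1_c5 LD2_c33 LD3_c23) Lrfl Lrfl
theorem f213633 : Led Lsl_ct (LP (LK LD1_c5 LD2_c33 LD3_c23)) = (LP (LK LD1_c2 LD2_c42 LD3_c49)) :=
  Lre_c IH (LK LD1_c5 LD2_c33 LD3_c23) (LK LD1_c2 LD2_c42 LD3_c49) Lrfl Lrfl
theorem f213632 : Led Lsl_dt (LP (LK LD1_c2 LD2_c42 LD3_c49)) = (LP (LK LD1_c1 LD2_c17 LD3_c56)) :=
  Lre_d IH (LK LD1_c2 LD2_c42 LD3_c49) (LK LD1_c1 LD2_c17 LD3_c56) Lrfl Lrfl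
theorem f212998 : Led Lsl_bt (LP (LK LD1_c5 LD2_c24 LD3_c30)) = (LP (LK LD1_c2 LD2_c38 LD3_c49)) :=
  Lre_b IH (LK LD1_c5 LD2_c24 LD3_c30) (LK LD1_c2 LD2_c38 LD3_c49) Lrfl Lrfl
theorem f213003 : Led Lsl_ct (LP (LK LD1_c5 LD2_c24 LD3_c30)) = (LP (LK LD1_c2 LD2_c38 LD3_c51)) :=
  Lre_c IH (LK LD1_c5 LD2_c24 LD3_c30) (LK LD1_c2 LD2_c38 LD3_c51) Lrfl Lrfl
theorem f213004 : Led Lsl_gt (LP (LK LD1_c5 LD2_c24 LD3_c37)) = (LP (LK LD1_c2 LD2_c38 LD3_c51)) :=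
  Lre_g IH (LK LD1_c5 LD2_c24 LD3_c37) (LK LD1_c2 LD2_c38 LD3_c51) Lrfl Lrfl
theorem f213005 : Led Lsl_ct (LP (LK LD1_c10 LD2_c39 LD3_c53)) = (LP (LK LD1_c5 LD2_c24 LD3_c37)) :=
  Lre_c IH (LK LD1_c10 LD2_c39 LD3_c53) (LK LD1_c5 LD2_c24 LD3_c37) Lrfl Lrfl
theorem f213006 : Led Lsl_bt (LP (LK LD1_c10 LD2_c39 LD3_c53)) = (LP (LK LD1_c5 LD2_c33 LD3_c2)) :=
  Lre_b IH (LK LD1_c10 LD2_c39 LD3_c53) (LK LD1_c5 LD2_c33 LD3_c2) Lrfl Lrfl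
theorem f213007 : Led Lsl_gt (LP (LK LD1_c2 LD2_c42 LD3_c43)) = (LP (LK LD1_c5 LD2_c33 LD3_c2)) :=
  Lre_g IH (LK LD1_c2 LD2_c42 LD3_c43) (LK LD1_c5 LD2_c33 LD3_c2) Lrfl Lrfl
theorem f213482 : Led Lsl_bf (LP (LK LD1_c2 LD2_c42 LD3_c43)) = (LP (LK LD1_c3 LD2_c58 LD3_c36)) :=
  Lgr Lrot156 (Lpr_gt (f213007 IH) (Lpe (f213006 IH) (Lpr_ct (f213005 IH) (Lpr_gt (f213004 IH) (Lpe (f213003 IH) (Lpr_bt (f212998 IH) (Lpe (K12.f212994 IH) (Lpr_ct (K12.f53664 IH) (Lpr_gt (K13.f213478 IH) (Lpe (K16.f171306 IH) (Lpn (LP (LK LD1_c3 LD2_c58 LD3_c36)))))))))))))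
theorem f213550 : Led Lsl_et (LP (LK LD1_c2 LD2_c42 LD3_c43)) = (LP (LK LD1_c5 LD2_c33 LD3_c5)) :=
  Lre_e IH (LK LD1_c2 LD2_c42 LD3_c43) (LK LD1_c5 LD2_c33 LD3_c5) Lrfl Lrfl
theorem f213551 : Led Lsl_et (LP (LK LD1_c7 LD2_c58 LD3_c45)) = (LP (LK LD1_c3 LD2_c58 LD3_c36)) :=
  Lre_e IH (LK LD1_c7 LD2_c58 LD3_c45) (LK LD1_c3 LD2_c58 LD3_c36) Lrfl Lrfl
theorem f213552 : Led Lsl_bt (LP (LK LD1_c5 LD2_c33 LD3_c5)) = (LP (LK LD1_c7 LD2_c58 LD3_c45)) :=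
  Lgr Lrot119 (Lpe (f213550 IH) (Lpr_bf (f213482 IH) (Lpe (f213551 IH) (Lpn (LP (LK LD1_c7 LD2_c58 LD3_c45))))))
theorem f213584 : Led Lsl_ft (LP (LK LD1_c10 LD2_c58 LD3_c6)) = (LP (LK LD1_c5 LD2_c33 LD3_c5)) :=
  Lre_f IH (LK LD1_c10 LD2_c58 LD3_c6) (LK LD1_c5 LD2_c33 LD3_c5) Lrfl Lrfl
theorem f213585 : Led Lsl_ft (LP (LK LD1_c7 LD2_c58 LD3_c45)) = (LP (LK LD1_c15 LD2_c3 LD3_c18)) :=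
  Lre_f IH (LK LD1_c7 LD2_c58 LD3_c45) (LK LD1_c15 LD2_c3 LD3_c18) Lrfl Lrfl
theorem f213586 : Led Lsl_bf (LP (LK LD1_c10 LD2_c58 LD3_c6)) = (LP (LK LD1_c15 LD2_c3 LD3_c18)) :=
  Lgr Lrot61 (Lpr_ft (f213584 IH) (Lpr_bt (f213552 IH) (Lpr_ft (f213585 IH) (Lpn (LP (LK LD1_c15 LD2_c3 LD3_c18))))))
theorem f213604 : Led Lsl_ct (LP (LK LD1_c10 LD2_c58 LD3_c6)) = (LP (LK LD1_c5 LD2_c33 LD3_c13)) :=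
  Lre_c IH (LK LD1_c10 LD2_c58 LD3_c6) (LK LD1_c5 LD2_c33 LD3_c13) Lrfl Lrfl
theorem f213605 : Led Lsl_bt (LP (LK LD1_c5 LD2_c33 LD3_c13)) = (LP (LK LD1_c2 LD2_c42 LD3_c50)) :=
  Lre_b IH (LK LD1_c5 LD2_c33 LD3_c13) (LK LD1_c2 LD2_c42 LD3_c50) Lrfl Lrfl
theorem f213607 : Led Lsl_bt (LP (LK LD1_c3 LD2_c58 LD3_c40)) = (LP (LK LD1_c7 LD2_c58 LD3_c48)) :=
  Lre_b IH (LK LD1_c3 LD2_c58 LD3_c40) (LK LD1_c7 LD2_c58 LD3_c48) Lrfl Lrfl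
theorem f213608 : Led Lsl_ct (LP (LK LD1_c2 LD2_c42 LD3_c50)) = (LP (LK LD1_c3 LD2_c58 LD3_c40)) :=
  Lgr Lrot83 (Lpe (f213605 IH) (Lpe (f213604 IH) (Lpr_bf (f213586 IH) (Lpe (K19.f213606 IH) (Lpe (f213607 IH) (Lpn (LP (LK LD1_c3 LD2_c58 LD3_c40))))))))
theorem f213614 : Led Lsl_cf (LP (LK LD1_c2 LD2_c42 LD3_c50)) = (LP (LK LD1_c3 LD2_c58 LD3_c40)) :=
  Lgr Lrot11 (Lpr_ct (f213608 IH) (Lpn (LP (LK LD1_c3 LD2_c58 LD3_c40))))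
theorem f213627 : Led Lsl_ft (LP (LK LD1_c2 LD2_c42 LD3_c50)) = (LP (LK LD1_c1 LD2_c17 LD3_c56)) :=
  Lre_f IH (LK LD1_c2 LD2_c42 LD3_c50) (LK LD1_c1 LD2_c17 LD3_c56) Lrfl Lrfl
theorem f171278 : Led Lsl_ft (LP (LK LD1_c1 LD2_c56 LD3_c4)) = (LP (LK LD1_c3 LD2_c58 LD3_c40)) :=
  Lre_f IH (LK LD1_c1 LD2_c56 LD3_c4) (LK LD1_c3 LD2_c58 LD3_c40) Lrfl Lrfl
theorem f213628 : Led Lsl_ct (LP (LK LD1_c1 LD2_c17 LD3_c56)) = (LP (LK LD1_c1 LD2_c56 LD3_c4)) :=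
  Lgr Lrot40 (Lpe (f213627 IH) (Lpr_cf (f213614 IH) (Lpe (f171278 IH) (Lpn (LP (LK LD1_c1 LD2_c56 LD3_c4))))))
theorem f169599 : Led Lsl_et (LP (LK LD1_c5 LD2_c2 LD3_c27)) = (LP (LK LD1_c2 LD2_c28 LD3_c47)) :=
  Lre_e IH (LK LD1_c5 LD2_c2 LD3_c27) (LK LD1_c2 LD2_c28 LD3_c47) Lrfl Lrfl
theorem f168764 : Led Lsl_ct (LP (LK LD1_c4 LD2_c55 LD3_c61)) = (LP (LK LD1_c2 LD2_c25 LD3_c47)) :=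
  Lre_c IH (LK LD1_c4 LD2_c55 LD3_c61) (LK LD1_c2 LD2_c25 LD3_c47) Lrfl Lrfl
theorem f181893 : Led Lsl_ef (LP (LK LD1_c4 LD2_c55 LD3_c61)) = (LP (LK LD1_c2 LD2_c31 LD3_c61)) :=
  Lgr Lrot28 (Lpr_ct (f168764 IH) (Lpr_et (K18.f181890 IH) (Lpr_ct (K13.f165485 IH) (Lpn (LP (LK LD1_c2 LD2_c31 LD3_c61))))))
theorem f313907 : Led Lsl_af (LP (LK LD1_c5 LD2_c2 LD3_c27)) = (LP (LK LD1_c4 LD2_c55 LD3_c61)) :=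
  Lgr Lrot50 (Lpr_et (f169599 IH) (Lpr_at (K19.f313897 IH) (Lpe (f181893 IH) (Lpn (LP (LK LD1_c4 LD2_c55 LD3_c61))))))
theorem f319976 : Led Lsl_ft (LP (LK LD1_c5 LD2_c3 LD3_c13)) = (LP (LK LD1_c4 LD2_c55 LD3_c61)) :=
  Lgr Lrot142 (Lpr_dt (f276108 IH) (Lpr_ct (f319973 IH) (Lpr_dt (f213634 IH) (Lpr_ct (f213633 IH) (Lpr_dt (f213632 IH) (Lpr_ct (f213628 IH) (Lpr_dt (K14.f171271 IH) (Lpr_ct (K19.f171274 IH) (Lpr_af (f313907 IH) (Lpn (LP (LK LD1_c4 LD2_c55 LD3_c61))))))))))))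
theorem f257615 : Led Lsl_ct (LP (LK LD1_c2 LD2_c29 LD3_c1)) = (LP (LK LD1_c5 LD2_c2 LD3_c59)) :=
  Lre_c IH (LK LD1_c2 LD2_c29 LD3_c1) (LK LD1_c5 LD2_c2 LD3_c59) Lrfl Lrfl
theorem f275982 : Led Lsl_bt (LP (LK LD1_c2 LD2_c29 LD3_c1)) = (LP (LK LD1_c1 LD2_c11 LD3_c42)) :=
  Lre_b IH (LK LD1_c2 LD2_c29 LD3_c1) (LK LD1_c1 LD2_c11 LD3_c42) Lrfl Lrfl
theorem f276107 : Led Lsl_ct (LP (LK LD1_c2 LD2_c29 LD3_c8)) = (LP (LK LD1_c5 LD2_c3 LD3_c13)) :=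
  Lre_c IH (LK LD1_c2 LD2_c29 LD3_c8) (LK LD1_c5 LD2_c3 LD3_c13) Lrfl Lrfl
theorem f288626 : Led Lsl_bt (LP (LK LD1_c2 LD2_c33 LD3_c33)) = (LP (LK LD1_c5 LD2_c13 LD3_c14)) :=
  Lre_b IH (LK LD1_c2 LD2_c33 LD3_c33) (LK LD1_c5 LD2_c13 LD3_c14) Lrfl Lrfl
theorem f288631 : Led Lsl_ct (LP (LK LD1_c2 LD2_c33 LD3_c33)) = (LP (LK LD1_c5 LD2_c13 LD3_c21)) :=
  Lre_c IH (LK LD1_c2 LD2_c33 LD3_c33) (LK LD1_c5 LD2_c13 LD3_c21) Lrfl Lrfl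
theorem f306423 : Led Lsl_gt (LP (LK LD1_c5 LD2_c3 LD3_c13)) = (LP (LK LD1_c5 LD2_c13 LD3_c21)) :=
  Lgr Lrot149 (Lpe (f276107 IH) (Lpe (K19.f21308 IH) (Lpe (f275982 IH) (Lpr_ct (f257615 IH) (Lpe (K19.f306377 IH) (Lpr_cf (K19.f306408 IH) (Lpr_bt (K19.f195910 IH) (Lpe (K17.f288620 IH) (Lpe (f288626 IH) (Lpr_ct (f288631 IH) (Lpn (LP (LK LD1_c5 LD2_c13 LD3_c21)))))))))))))
theorem f319984 : Led Lsl_gt (LP (LK LD1_c5 LD2_c13 LD3_c21)) = (LP (LK LD1_c5 LD2_c2 LD3_c27)) :=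
  Lgr Lrot46 (Lpe (f306423 IH) (Lpr_ft (f319976 IH) (Lpe (f313907 IH) (Lpn (LP (LK LD1_c5 LD2_c2 LD3_c27))))))
theorem f198767 : Led Lsl_ct (LP (LK LD1_c1 LD2_c17 LD3_c42)) = (LP (LK LD1_c2 LD2_c42 LD3_c13)) :=
  Lre_c IH (LK LD1_c1 LD2_c17 LD3_c42) (LK LD1_c2 LD2_c42 LD3_c13) Lrfl Lrfl
theorem f171280 : Led Lsl_ct (LP (LK LD1_c5 LD2_c2 LD3_c27)) = (LP (LK LD1_c2 LD2_c28 LD3_c48)) :=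
  Lre_c IH (LK LD1_c5 LD2_c2 LD3_c27) (LK LD1_c2 LD2_c28 LD3_c48) Lrfl Lrfl
theorem f319988 : Led Lsl_gt (LP (LK LD1_c2 LD2_c42 LD3_c13)) = (LP (LK LD1_c1 LD2_c17 LD3_c56)) :=
  Lgr Lrot150 (Lpe (f198767 IH) (Lpe (K15.f261771 IH) (Lpr_df (K15.f261784 IH) (Lpr_gt (K18.f304407 IH) (Lpr_ct (f288631 IH) (Lpr_gt (f319984 IH) (Lpr_ct (f171280 IH) (Lpe (K14.f171271 IH) (Lpe (f213628 IH) (Lpn (LP (LK LD1_c1 LD2_c17 LD3_c56))))))))))))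
theorem f198766 : Led Lsl_ct (LP (LK LD1_c2 LD2_c42 LD3_c13)) = (LP (LK LD1_c1 LD2_c17 LD3_c42)) :=
  Lre_c IH (LK LD1_c2 LD2_c42 LD3_c13) (LK LD1_c1 LD2_c17 LD3_c42) Lrfl Lrfl
theorem f180563 : Led Lsl_ct (LP (LK LD1_c2 LD2_c30 LD3_c28)) = (LP (LK LD1_c5 LD2_c6 LD3_c26)) :=
  Lre_c IH (LK LD1_c2 LD2_c30 LD3_c28) (LK LD1_c5 LD2_c6 LD3_c26) Lrfl Lrfl
theorem f320112 : Led Lsl_gt (LP (LK LD1_c2 LD2_c42 LD3_c49)) = (LP (LK LD1_c5 LD2_c33 LD3_c21)) :=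
  Lre_g IH (LK LD1_c2 LD2_c42 LD3_c49) (LK LD1_c5 LD2_c33 LD3_c21) Lrfl Lrfl
theorem f320113 : Led Lsl_df (LP (LK LD1_c5 LD2_c6 LD3_c26)) = (LP (LK LD1_c5 LD2_c33 LD3_c21)) :=
  Lgr Lrot84 (Lpe (f180563 IH) (Lpe (K18.f180553 IH) (Lpr_gf (K14.f198749 IH) (Lpe (K14.f178757 IH) (Lpe (K14.f198751 IH) (Lpe (f198766 IH) (Lpr_gt (f319988 IH) (Lpr_dt (f179203 IH) (Lpr_gt (f320112 IH) (Lpn (LP (LK LD1_c5 LD2_c33 LD3_c21))))))))))))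
theorem f302782 : Led Lsl_af (LP (LK LD1_c5 LD2_c13 LD3_c25)) = (LP (LK LD1_c5 LD2_c6 LD3_c26)) :=
  Lgr Lrot0 (Lpr_at (K19.f302780 IH) (Lpn (LP (LK LD1_c5 LD2_c6 LD3_c26))))
theorem f184932 : Led Lsl_et (LP (LK LD1_c5 LD2_c13 LD3_c25)) = (LP (LK LD1_c2 LD2_c33 LD3_c34)) :=
  Lre_e IH (LK LD1_c5 LD2_c13 LD3_c25) (LK LD1_c2 LD2_c33 LD3_c34) Lrfl Lrfl
theorem f8560 : Led Lsl_et (LP (LK LD1_c0 LD2_c39 LD3_c21)) = (LP (LK LD1_c0 LD2_c28 LD3_c43)) :=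
  Lgr Lrot158 (Lpe (K10.f8558 IH) (Lpr_ef (K0.f8543 IH) (Lpe (K9.f8559 IH) (Lpn (LP (LK LD1_c0 LD2_c28 LD3_c43))))))
theorem f168790 : Led Lsl_et (LP (LK LD1_c2 LD2_c12 LD3_c6)) = (LP (LK LD1_c1 LD2_c2 LD3_c60)) :=
  Lre_e IH (LK LD1_c2 LD2_c12 LD3_c6) (LK LD1_c1 LD2_c2 LD3_c60) Lrfl Lrfl
theorem f168787 : Led Lsl_dt (LP (LK LD1_c2 LD2_c12 LD3_c6)) = (LP (LK LD1_c4 LD2_c30 LD3_c10)) :=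
  Lre_d IH (LK LD1_c2 LD2_c12 LD3_c6) (LK LD1_c4 LD2_c30 LD3_c10) Lrfl Lrfl
theorem f177513 : Led Lsl_gt (LP (LK LD1_c4 LD2_c30 LD3_c10)) = (LP (LK LD1_c8 LD2_c58 LD3_c31)) :=
  Lre_g IH (LK LD1_c4 LD2_c30 LD3_c10) (LK LD1_c8 LD2_c58 LD3_c31) Lrfl Lrfl
theorem f184933 : Led Lsl_dt (LP (LK LD1_c5 LD2_c13 LD3_c25)) = (LP (LK LD1_c8 LD2_c58 LD3_c31)) :=
  Lgr Lrot37 (Lpr_et (f184932 IH) (Lpr_gt (K10.f184902 IH) (Lpe (K10.f177501 IH) (Lpr_gt (K10.f9061 IH) (Lpe (K9.f9025 IH) (Lpr_et (f8560 IH) (Lpr_gt (K9.f165037 IH) (Lpe (f168790 IH) (Lpr_dt (f168787 IH) (Lpr_gt (f177513 IH) (Lpn (LP (LK LD1_c8 LD2_c58 LD3_c31)))))))))))))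
theorem f320134 : Led Lsl_at (LP (LK LD1_c8 LD2_c58 LD3_c31)) = (LP (LK LD1_c5 LD2_c33 LD3_c21)) :=
  Lgr Lrot51 (Lpe (f184933 IH) (Lpr_af (f302782 IH) (Lpr_df (f320113 IH) (Lpn (LP (LK LD1_c5 LD2_c33 LD3_c21))))))
theorem f179204 : Led Lsl_gt (LP (LK LD1_c5 LD2_c33 LD3_c22)) = (LP (LK LD1_c2 LD2_c42 LD3_c49)) :=
  Lre_g IH (LK LD1_c5 LD2_c33 LD3_c22) (LK LD1_c2 LD2_c42 LD3_c49) Lrfl Lrfl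
theorem f320165 : Led Lsl_ff (LP (LK LD1_c8 LD2_c58 LD3_c31)) = (LP (LK LD1_c5 LD2_c33 LD3_c22)) :=
  Lgr Lrot52 (Lpr_at (f320134 IH) (Lpe (f320112 IH) (Lpe (f179204 IH) (Lpn (LP (LK LD1_c5 LD2_c33 LD3_c22))))))
theorem f320174 : Led Lsl_ft (LP (LK LD1_c8 LD2_c58 LD3_c31)) = (LP (LK LD1_c5 LD2_c33 LD3_c22)) :=
  Lgr Lrot48 (Lpr_ff (f320165 IH) (Lpn (LP (LK LD1_c5 LD2_c33 LD3_c22))))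
theorem f304263 : Led Lsl_ff (LP (LK LD1_c2 LD2_c30 LD3_c28)) = (LP (LK LD1_c4 LD2_c29 LD3_c23)) :=
  Lgr Lrot3 (Lpr_ft (K18.f304256 IH) (Lpn (LP (LK LD1_c4 LD2_c29 LD3_c23))))
theorem f304252 : Led Lsl_ct (LP (LK LD1_c8 LD2_c56 LD3_c60)) = (LP (LK LD1_c4 LD2_c29 LD3_c23)) :=
  Lre_c IH (LK LD1_c8 LD2_c56 LD3_c60) (LK LD1_c4 LD2_c29 LD3_c23) Lrfl Lrfl
theorem f304265 : Led Lsl_ft (LP (LK LD1_c5 LD2_c6 LD3_c26)) = (LP (LK LD1_c8 LD2_c56 LD3_c60)) :=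
  Lgr Lrot4 (Lpe (f180563 IH) (Lpr_ff (f304263 IH) (Lpe (f304252 IH) (Lpn (LP (LK LD1_c8 LD2_c56 LD3_c60))))))
theorem f304287 : Led Lsl_bf (LP (LK LD1_c4 LD2_c28 LD3_c1)) = (LP (LK LD1_c2 LD2_c11 LD3_c46)) :=
  Lgr Lrot24 (Lpr_bt (K19.f304285 IH) (Lpn (LP (LK LD1_c2 LD2_c11 LD3_c46))))
theorem f167717 : Led Lsl_ct (LP (LK LD1_c2 LD2_c11 LD3_c46)) = (LP (LK LD1_c4 LD2_c29 LD3_c22)) :=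
  Lre_c IH (LK LD1_c2 LD2_c11 LD3_c46) (LK LD1_c4 LD2_c29 LD3_c22) Lrfl Lrfl
theorem f304293 : Led Lsl_gt (LP (LK LD1_c2 LD2_c12 LD3_c45)) = (LP (LK LD1_c4 LD2_c29 LD3_c22)) :=
  Lgr Lrot149 (Lpe (K18.f226050 IH) (Lpe (K18.f212624 IH) (Lpe (K18.f212626 IH) (Lpr_ct (K18.f301591 IH) (Lpe (K18.f301592 IH) (Lpr_cf (K18.f301593 IH) (Lpr_bt (K15.f261042 IH) (Lpe (f267049 IH) (Lpr_bf (f304287 IH) (Lpr_ct (f167717 IH) (Lpn (LP (LK LD1_c4 LD2_c29 LD3_c22)))))))))))))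
theorem f168763 : Led Lsl_gt (LP (LK LD1_c8 LD2_c58 LD3_c32)) = (LP (LK LD1_c4 LD2_c30 LD3_c10)) :=
  Lre_g IH (LK LD1_c8 LD2_c58 LD3_c32) (LK LD1_c4 LD2_c30 LD3_c10) Lrfl Lrfl
theorem f304274 : Led Lsl_et (LP (LK LD1_c8 LD2_c56 LD3_c60)) = (LP (LK LD1_c4 LD2_c29 LD3_c22)) :=
  Lre_e IH (LK LD1_c8 LD2_c56 LD3_c60) (LK LD1_c4 LD2_c29 LD3_c22) Lrfl Lrfl
theorem f304302 : Led Lsl_df (LP (LK LD1_c8 LD2_c58 LD3_c32)) = (LP (LK LD1_c8 LD2_c56 LD3_c60)) :=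
  Lgr Lrot170 (Lpr_gt (f168763 IH) (Lpe (f168787 IH) (Lpr_et (f168790 IH) (Lpr_gt (K9.f167840 IH) (Lpr_dt (K9.f167916 IH) (Lpr_gt (K12.f167917 IH) (Lpr_df (K18.f225701 IH) (Lpr_et (K18.f226043 IH) (Lpr_gt (f304293 IH) (Lpe (f304274 IH) (Lpn (LP (LK LD1_c8 LD2_c56 LD3_c60)))))))))))))
theorem f320141 : Led Lsl_ft (LP (LK LD1_c8 LD2_c58 LD3_c32)) = (LP (LK LD1_c5 LD2_c33 LD3_c21)) :=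
  Lgr Lrot54 (Lpr_df (f304302 IH) (Lpe (f304265 IH) (Lpr_df (f320113 IH) (Lpn (LP (LK LD1_c5 LD2_c33 LD3_c21))))))
theorem f320151 : Led Lsl_af (LP (LK LD1_c8 LD2_c58 LD3_c31)) = (LP (LK LD1_c5 LD2_c33 LD3_c21)) :=
  Lgr Lrot31 (Lpe (f177513 IH) (Lpe (f168763 IH) (Lpr_ft (f320141 IH) (Lpn (LP (LK LD1_c5 LD2_c33 LD3_c21))))))
theorem f320176 : Led Lsl_af (LP (LK LD1_c8 LD2_c58 LD3_c32)) = (LP (LK LD1_c5 LD2_c33 LD3_c22)) :=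
  Lgr Lrot45 (Lpr_ft (f320141 IH) (Lpe (f320151 IH) (Lpr_ft (f320174 IH) (Lpn (LP (LK LD1_c5 LD2_c33 LD3_c22))))))
theorem f304307 : Led Lsl_dt (LP (LK LD1_c8 LD2_c58 LD3_c32)) = (LP (LK LD1_c8 LD2_c56 LD3_c60)) :=
  Lgr Lrot42 (Lpr_df (f304302 IH) (Lpn (LP (LK LD1_c8 LD2_c56 LD3_c60))))
theorem f184943 : Led Lsl_df (LP (LK LD1_c5 LD2_c13 LD3_c25)) = (LP (LK LD1_c8 LD2_c58 LD3_c31)) :=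
  Lgr Lrot38 (Lpr_dt (f184933 IH) (Lpn (LP (LK LD1_c8 LD2_c58 LD3_c31))))
theorem f304424 : Led Lsl_ct (LP (LK LD1_c5 LD2_c30 LD3_c49)) = (LP (LK LD1_c2 LD2_c41 LD3_c38)) :=
  Lre_c IH (LK LD1_c5 LD2_c30 LD3_c49) (LK LD1_c2 LD2_c41 LD3_c38) Lrfl Lrfl
theorem f304439 : Led Lsl_ft (LP (LK LD1_c5 LD2_c13 LD3_c25)) = (LP (LK LD1_c5 LD2_c30 LD3_c49)) :=
  Lgr Lrot4 (Lpe (K19.f184939 IH) (Lpr_ff (K18.f304435 IH) (Lpe (f304424 IH) (Lpn (LP (LK LD1_c5 LD2_c30 LD3_c49))))))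
theorem f320171 : Led Lsl_dt (LP (LK LD1_c5 LD2_c30 LD3_c49)) = (LP (LK LD1_c5 LD2_c33 LD3_c22)) :=
  Lgr Lrot60 (Lpe (f304439 IH) (Lpr_df (f184943 IH) (Lpr_ff (f320165 IH) (Lpn (LP (LK LD1_c5 LD2_c33 LD3_c22))))))
theorem f320191 : Led Lsl_at (LP (LK LD1_c8 LD2_c56 LD3_c60)) = (LP (LK LD1_c5 LD2_c30 LD3_c49)) :=
  Lgr Lrot51 (Lpe (f304307 IH) (Lpr_af (f320176 IH) (Lpe (f320171 IH) (Lpn (LP (LK LD1_c5 LD2_c30 LD3_c49))))))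
theorem f320197 : Led Lsl_ff (LP (LK LD1_c5 LD2_c13 LD3_c25)) = (LP (LK LD1_c5 LD2_c30 LD3_c49)) :=
  Lgr Lrot30 (Lpr_at (K19.f302780 IH) (Lpr_ft (f304265 IH) (Lpr_at (f320191 IH) (Lpn (LP (LK LD1_c5 LD2_c30 LD3_c49))))))
theorem f302939 : Led Lsl_ft (LP (LK LD1_c2 LD2_c33 LD3_c34)) = (LP (LK LD1_c2 LD2_c39 LD3_c22)) :=
  Lgr Lrot54 (Lpr_df (K10.f185078 IH) (Lpr_ff (K18.f302935 IH) (Lpr_df (K14.f198712 IH) (Lpn (LP (LK LD1_c2 LD2_c39 LD3_c22))))))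
theorem f320204 : Led Lsl_et (LP (LK LD1_c2 LD2_c41 LD3_c37)) = (LP (LK LD1_c5 LD2_c30 LD3_c49)) :=
  Lre_e IH (LK LD1_c2 LD2_c41 LD3_c37) (LK LD1_c5 LD2_c30 LD3_c49) Lrfl Lrfl
theorem f320205 : Led Lsl_ft (LP (LK LD1_c4 LD2_c11 LD3_c23)) = (LP (LK LD1_c2 LD2_c41 LD3_c37)) :=
  Lgr Lrot86 (Lpe (K18.f195716 IH) (Lpe (f302939 IH) (Lpe (f184932 IH) (Lpr_ff (f320197 IH) (Lpe (f320204 IH) (Lpn (LP (LK LD1_c2 LD2_c41 LD3_c37))))))))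
theorem f320214 : Led Lsl_ff (LP (LK LD1_c4 LD2_c11 LD3_c23)) = (LP (LK LD1_c2 LD2_c41 LD3_c37)) :=
  Lgr Lrot3 (Lpr_ft (f320205 IH) (Lpn (LP (LK LD1_c2 LD2_c41 LD3_c37))))
theorem f167698 : Led Lsl_bt (LP (LK LD1_c4 LD2_c11 LD3_c23)) = (LP (LK LD1_c8 LD2_c22 LD3_c29)) :=
  Lre_b IH (LK LD1_c4 LD2_c11 LD3_c23) (LK LD1_c8 LD2_c22 LD3_c29) Lrfl Lrfl
theorem f320216 : Led Lsl_bt (LP (LK LD1_c5 LD2_c30 LD3_c47)) = (LP (LK LD1_c2 LD2_c41 LD3_c37)) :=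
  Lre_b IH (LK LD1_c5 LD2_c30 LD3_c47) (LK LD1_c2 LD2_c41 LD3_c37) Lrfl Lrfl
theorem f320217 : Led Lsl_ft (LP (LK LD1_c8 LD2_c22 LD3_c29)) = (LP (LK LD1_c5 LD2_c30 LD3_c47)) :=
  Lgr Lrot75 (Lpe (f167698 IH) (Lpr_ff (f320214 IH) (Lpe (f320216 IH) (Lpn (LP (LK LD1_c5 LD2_c30 LD3_c47))))))
theorem f184964 : Led Lsl_et (LP (LK LD1_c10 LD2_c17 LD3_c6)) = (LP (LK LD1_c5 LD2_c13 LD3_c26)) :=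
  Lre_e IH (LK LD1_c10 LD2_c17 LD3_c6) (LK LD1_c5 LD2_c13 LD3_c26) Lrfl Lrfl
theorem f320268 : Led Lsl_et (LP (LK LD1_c5 LD2_c30 LD3_c47)) = (LP (LK LD1_c10 LD2_c53 LD3_c8)) :=
  Lre_e IH (LK LD1_c5 LD2_c30 LD3_c47) (LK LD1_c10 LD2_c53 LD3_c8) Lrfl Lrfl
theorem f320269 : Led Lsl_ff (LP (LK LD1_c10 LD2_c17 LD3_c6)) = (LP (LK LD1_c10 LD2_c53 LD3_c8)) :=
  Lgr Lrot72 (Lpr_et (f184964 IH) (Lpr_ft (K18.f302949 IH) (Lpr_et (K18.f195725 IH) (Lpr_ft (f320217 IH) (Lpr_et (f320268 IH) (Lpn (LP (LK LD1_c10 LD2_c53 LD3_c8))))))))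
theorem f184966 : Led Lsl_ct (LP (LK LD1_c10 LD2_c17 LD3_c6)) = (LP (LK LD1_c18 LD2_c41 LD3_c34)) :=
  Lre_c IH (LK LD1_c10 LD2_c17 LD3_c6) (LK LD1_c18 LD2_c41 LD3_c34) Lrfl Lrfl
theorem f307783 : Led Lsl_bt (LP (LK LD1_c5 LD2_c23 LD3_c50)) = (LP (LK LD1_c10 LD2_c38 LD3_c18)) :=
  Lre_b IH (LK LD1_c5 LD2_c23 LD3_c50) (LK LD1_c10 LD2_c38 LD3_c18) Lrfl Lrfl
theorem f307809 : Led Lsl_ff (LP (LK LD1_c15 LD2_c45 LD3_c22)) = (LP (LK LD1_c10 LD2_c38 LD3_c18)) :=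
  Lgr Lrot25 (Lpr_bt (K18.f215548 IH) (Lpr_ft (K19.f307800 IH) (Lpr_bt (f307783 IH) (Lpn (LP (LK LD1_c10 LD2_c38 LD3_c18))))))
theorem f184929 : Led Lsl_ct (LP (LK LD1_c10 LD2_c16 LD3_c50)) = (LP (LK LD1_c5 LD2_c13 LD3_c26)) :=
  Lre_c IH (LK LD1_c10 LD2_c16 LD3_c50) (LK LD1_c5 LD2_c13 LD3_c26) Lrfl Lrfl
theorem f215454 : Led Lsl_cf (LP (LK LD1_c10 LD2_c33 LD3_c18)) = (LP (LK LD1_c5 LD2_c25 LD3_c61)) :=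
  Lgr Lrot97 (Lpr_bt (K18.f215436 IH) (Lpr_ct (K14.f215435 IH) (Lpr_bt (K14.f215449 IH) (Lpr_ct (K12.f195594 IH) (Lpr_bt (K18.f195702 IH) (Lpn (LP (LK LD1_c5 LD2_c25 LD3_c61))))))))
theorem f302951 : Led Lsl_ff (LP (LK LD1_c10 LD2_c16 LD3_c50)) = (LP (LK LD1_c10 LD2_c33 LD3_c18)) :=
  Lgr Lrot23 (Lpr_ct (f184929 IH) (Lpr_ft (K18.f302949 IH) (Lpe (f215454 IH) (Lpn (LP (LK LD1_c10 LD2_c33 LD3_c18))))))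
theorem f307863 : Led Lsl_et (LP (LK LD1_c10 LD2_c16 LD3_c50)) = (LP (LK LD1_c18 LD2_c41 LD3_c34)) :=
  Lre_e IH (LK LD1_c10 LD2_c16 LD3_c50) (LK LD1_c18 LD2_c41 LD3_c34) Lrfl Lrfl
theorem f307864 : Led Lsl_et (LP (LK LD1_c19 LD2_c16 LD3_c24)) = (LP (LK LD1_c10 LD2_c38 LD3_c18)) :=
  Lre_e IH (LK LD1_c19 LD2_c16 LD3_c24) (LK LD1_c10 LD2_c38 LD3_c18) Lrfl Lrfl
theorem f307865 : Led Lsl_ft (LP (LK LD1_c18 LD2_c41 LD3_c34)) = (LP (LK LD1_c19 LD2_c16 LD3_c24)) :=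
  Lgr Lrot86 (Lpe (f307863 IH) (Lpr_ff (f302951 IH) (Lpr_ef (K18.f215561 IH) (Lpr_ff (f307809 IH) (Lpe (f307864 IH) (Lpn (LP (LK LD1_c19 LD2_c16 LD3_c24))))))))
theorem f320272 : Led Lsl_ct (LP (LK LD1_c19 LD2_c16 LD3_c24)) = (LP (LK LD1_c10 LD2_c53 LD3_c8)) :=
  Lgr Lrot40 (Lpe (f307865 IH) (Lpe (f184966 IH) (Lpr_ff (f320269 IH) (Lpn (LP (LK LD1_c10 LD2_c53 LD3_c8))))))
theorem f320287 : Led Lsl_cf (LP (LK LD1_c19 LD2_c16 LD3_c24)) = (LP (LK LD1_c10 LD2_c53 LD3_c8)) :=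
  Lgr Lrot11 (Lpr_ct (f320272 IH) (Lpn (LP (LK LD1_c10 LD2_c53 LD3_c8))))
theorem f320291 : Led Lsl_ct (LP (LK LD1_c10 LD2_c38 LD3_c18)) = (LP (LK LD1_c5 LD2_c30 LD3_c47)) :=
  Lgr Lrot15 (Lpe (f307864 IH) (Lpr_cf (f320287 IH) (Lpe (f320268 IH) (Lpn (LP (LK LD1_c5 LD2_c30 LD3_c47))))))
theorem f245794 : Led Lsl_ct (LP (LK LD1_c2 LD2_c41 LD3_c37)) = (LP (LK LD1_c1 LD2_c17 LD3_c28)) :=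
  Lre_c IH (LK LD1_c2 LD2_c41 LD3_c37) (LK LD1_c1 LD2_c17 LD3_c28) Lrfl Lrfl
theorem f320295 : Led Lsl_bf (LP (LK LD1_c2 LD2_c38 LD3_c27)) = (LP (LK LD1_c1 LD2_c17 LD3_c28)) :=
  Lgr Lrot90 (Lpr_ct (K19.f241960 IH) (Lpr_bt (f307783 IH) (Lpr_ct (f320291 IH) (Lpr_bt (f320216 IH) (Lpr_ct (f245794 IH) (Lpn (LP (LK LD1_c1 LD2_c17 LD3_c28))))))))
theorem f245970 : Led Lsl_bt (LP (LK LD1_c0 LD2_c36 LD3_c35)) = (LP (LK LD1_c1 LD2_c19 LD3_c8)) :=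
  Lre_b IH (LK LD1_c0 LD2_c36 LD3_c35) (LK LD1_c1 LD2_c19 LD3_c8) Lrfl Lrfl
theorem f179970 : Led Lsl_ct (LP (LK LD1_c0 LD2_c36 LD3_c35)) = (LP (LK LD1_c1 LD2_c19 LD3_c14)) :=
  Lre_c IH (LK LD1_c0 LD2_c36 LD3_c35) (LK LD1_c1 LD2_c19 LD3_c14) Lrfl Lrfl
theorem f245793 : Led Lsl_ct (LP (LK LD1_c1 LD2_c17 LD3_c28)) = (LP (LK LD1_c2 LD2_c41 LD3_c37)) :=
  Lre_c IH (LK LD1_c1 LD2_c17 LD3_c28) (LK LD1_c2 LD2_c41 LD3_c37) Lrfl Lrfl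
theorem f320304 : Led Lsl_gt (LP (LK LD1_c1 LD2_c19 LD3_c14)) = (LP (LK LD1_c2 LD2_c41 LD3_c37)) :=
  Lgr Lrot65 (Lpe (f179970 IH) (Lpr_bt (f245970 IH) (Lpe (K13.f196955 IH) (Lpe (f216454 IH) (Lpr_ct (f315833 IH) (Lpr_gf (f303049 IH) (Lpe (K19.f169196 IH) (Lpe (f315894 IH) (Lpr_bf (f320295 IH) (Lpr_ct (f245793 IH) (Lpn (LP (LK LD1_c2 LD2_c41 LD3_c37)))))))))))))
theorem f167013 : Led Lsl_gt (LP (LK LD1_c1 LD2_c9 LD3_c23)) = (LP (LK LD1_c2 LD2_c24 LD3_c30)) :=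
  Lre_g IH (LK LD1_c1 LD2_c9 LD3_c23) (LK LD1_c2 LD2_c24 LD3_c30) Lrfl Lrfl
theorem f215523 : Led Lsl_at (LP (LK LD1_c4 LD2_c11 LD3_c11)) = (LP (LK LD1_c8 LD2_c21 LD3_c60)) :=
  Lre_a IH (LK LD1_c4 LD2_c11 LD3_c11) (LK LD1_c8 LD2_c21 LD3_c60) Lrfl Lrfl
theorem f288683 : Led Lsl_df (LP (LK LD1_c4 LD2_c11 LD3_c11)) = (LP (LK LD1_c2 LD2_c38 LD3_c27)) :=
  Lgr Lrot18 (Lpr_at (f215523 IH) (Lpe (K19.f215498 IH) (Lpr_at (K17.f288660 IH) (Lpn (LP (LK LD1_c2 LD2_c38 LD3_c27))))))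
theorem f320299 : Led Lsl_dt (LP (LK LD1_c2 LD2_c2 LD3_c56)) = (LP (LK LD1_c1 LD2_c17 LD3_c28)) :=
  Lgr Lrot79 (Lpe (K18.f295971 IH) (Lpr_df (f288683 IH) (Lpr_bf (f320295 IH) (Lpn (LP (LK LD1_c1 LD2_c17 LD3_c28))))))
theorem f289035 : Led Lsl_ct (LP (LK LD1_c4 LD2_c11 LD3_c19)) = (LP (LK LD1_c2 LD2_c2 LD3_c56)) :=
  Lre_c IH (LK LD1_c4 LD2_c11 LD3_c19) (LK LD1_c2 LD2_c2 LD3_c56) Lrfl Lrfl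
theorem f310207 : Led Lsl_ct (LP (LK LD1_c2 LD2_c6 LD3_c17)) = (LP (LK LD1_c4 LD2_c17 LD3_c54)) :=
  Lre_c IH (LK LD1_c2 LD2_c6 LD3_c17) (LK LD1_c4 LD2_c17 LD3_c54) Lrfl Lrfl
theorem f310283 : Led Lsl_af (LP (LK LD1_c4 LD2_c11 LD3_c19)) = (LP (LK LD1_c4 LD2_c17 LD3_c54)) :=
  Lgr Lrot68 (Lpr_ct (f289035 IH) (Lpr_at (K19.f310277 IH) (Lpr_ct (f310207 IH) (Lpn (LP (LK LD1_c4 LD2_c17 LD3_c54))))))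
theorem f299410 : Led Lsl_ft (LP (LK LD1_c2 LD2_c6 LD3_c14)) = (LP (LK LD1_c4 LD2_c17 LD3_c54)) :=
  Lre_f IH (LK LD1_c2 LD2_c6 LD3_c14) (LK LD1_c4 LD2_c17 LD3_c54) Lrfl Lrfl
theorem f170201 : Led Lsl_gt (LP (LK LD1_c2 LD2_c6 LD3_c14)) = (LP (LK LD1_c4 LD2_c17 LD3_c51)) :=
  Lre_g IH (LK LD1_c2 LD2_c6 LD3_c14) (LK LD1_c4 LD2_c17 LD3_c51) Lrfl Lrfl
theorem f310292 : Led Lsl_gf (LP (LK LD1_c4 LD2_c11 LD3_c19)) = (LP (LK LD1_c4 LD2_c17 LD3_c51)) :=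
  Lgr Lrot76 (Lpr_af (f310283 IH) (Lpe (f299410 IH) (Lpr_gt (f170201 IH) (Lpn (LP (LK LD1_c4 LD2_c17 LD3_c51))))))
theorem f320391 : Led Lsl_ct (LP (LK LD1_c2 LD2_c24 LD3_c30)) = (LP (LK LD1_c4 LD2_c17 LD3_c51)) :=
  Lgr Lrot152 (Lpe (f167013 IH) (Lpe (K13.f179960 IH) (Lpr_gt (K13.f171765 IH) (Lpr_ct (f179970 IH) (Lpr_gt (f320304 IH) (Lpr_ct (f245794 IH) (Lpe (f320299 IH) (Lpe (f289035 IH) (Lpr_gf (f310292 IH) (Lpn (LP (LK LD1_c4 LD2_c17 LD3_c51))))))))))))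
theorem f320393 : Led Lsl_df (LP (LK LD1_c2 LD2_c2 LD3_c56)) = (LP (LK LD1_c1 LD2_c17 LD3_c28)) :=
  Lgr Lrot162 (Lpe (f289035 IH) (Lpr_gf (f310292 IH) (Lpe (f320391 IH) (Lpe (f167013 IH) (Lpe (K13.f179847 IH) (Lpr_gt (K13.f171765 IH) (Lpr_ct (f179970 IH) (Lpr_gt (f320304 IH) (Lpr_ct (f245794 IH) (Lpn (LP (LK LD1_c1 LD2_c17 LD3_c28))))))))))))
theorem f8619 : Led Lsl_et (LP (LK LD1_c0 LD2_c28 LD3_c44)) = (LP (LK LD1_c1 LD2_c3 LD3_c3)) :=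
  Lre_e IH (LK LD1_c0 LD2_c28 LD3_c44) (LK LD1_c1 LD2_c3 LD3_c3) Lrfl Lrfl
theorem f183263 : Led Lsl_gt (LP (LK LD1_c2 LD2_c12 LD3_c20)) = (LP (LK LD1_c1 LD2_c3 LD3_c3)) :=
  Lre_g IH (LK LD1_c2 LD2_c12 LD3_c20) (LK LD1_c1 LD2_c3 LD3_c3) Lrfl Lrfl
theorem f7659 : Led Lsl_dt (LP (LK LD1_c4 LD2_c30 LD3_c51)) = (LP (LK LD1_c2 LD2_c12 LD3_c20)) :=
  Lre_d IH (LK LD1_c4 LD2_c30 LD3_c51) (LK LD1_c2 LD2_c12 LD3_c20) Lrfl Lrfl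
theorem f183264 : Led Lsl_ef (LP (LK LD1_c4 LD2_c10 LD3_c58)) = (LP (LK LD1_c4 LD2_c30 LD3_c51)) :=
  Lgr Lrot17 (Lpe (K13.f178850 IH) (Lpe (K15.f178864 IH) (Lpr_dt (K9.f178865 IH) (Lpe (K9.f183229 IH) (Lpr_df (K9.f183243 IH) (Lpe (K9.f8441 IH) (Lpe (K0.f8569 IH) (Lpr_dt (K0.f7591 IH) (Lpe (f183263 IH) (Lpe (f7659 IH) (Lpn (LP (LK LD1_c4 LD2_c30 LD3_c51)))))))))))))
theorem f178853 : Led Lsl_dt (LP (LK LD1_c4 LD2_c10 LD3_c58)) = (LP (LK LD1_c4 LD2_c17 LD3_c59)) :=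
  Lgr Lrot42 (Lpr_df (K13.f178851 IH) (Lpn (LP (LK LD1_c4 LD2_c17 LD3_c59))))
theorem f178857 : Led Lsl_dt (LP (LK LD1_c2 LD2_c6 LD3_c16)) = (LP (LK LD1_c4 LD2_c17 LD3_c58)) :=
  Lre_d IH (LK LD1_c2 LD2_c6 LD3_c16) (LK LD1_c4 LD2_c17 LD3_c58) Lrfl Lrfl
theorem f7653 : Led Lsl_dt (LP (LK LD1_c2 LD2_c12 LD3_c20)) = (LP (LK LD1_c4 LD2_c30 LD3_c51)) :=
  Lre_d IH (LK LD1_c2 LD2_c12 LD3_c20) (LK LD1_c4 LD2_c30 LD3_c51) Lrfl Lrfl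
theorem f183271 : Led Lsl_et (LP (LK LD1_c4 LD2_c17 LD3_c58)) = (LP (LK LD1_c2 LD2_c12 LD3_c20)) :=
  Lgr Lrot71 (Lpe (f178857 IH) (Lpe (K13.f7925 IH) (Lpe (f178853 IH) (Lpr_ef (f183264 IH) (Lpe (f7653 IH) (Lpn (LP (LK LD1_c2 LD2_c12 LD3_c20))))))))
theorem f178856 : Led Lsl_dt (LP (LK LD1_c4 LD2_c17 LD3_c58)) = (LP (LK LD1_c2 LD2_c6 LD3_c16)) :=
  Lre_d IH (LK LD1_c4 LD2_c17 LD3_c58) (LK LD1_c2 LD2_c6 LD3_c16) Lrfl Lrfl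
theorem f320490 : Led Lsl_gt (LP (LK LD1_c2 LD2_c2 LD3_c56)) = (LP (LK LD1_c2 LD2_c6 LD3_c16)) :=
  Lgr Lrot139 (Lpr_df (f320393 IH) (Lpe (K18.f178520 IH) (Lpe (K18.f183300 IH) (Lpr_dt (K9.f168179 IH) (Lpe (K9.f43097 IH) (Lpe (K9.f168098 IH) (Lpr_et (f8619 IH) (Lpe (f183263 IH) (Lpe (f183271 IH) (Lpr_dt (f178856 IH) (Lpn (LP (LK LD1_c2 LD2_c6 LD3_c16)))))))))))))
theorem f175255 : Led Lsl_dt (LP (LK LD1_c2 LD2_c41 LD3_c33)) = (LP (LK LD1_c5 LD2_c30 LD3_c41)) :=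
  Lre_d IH (LK LD1_c2 LD2_c41 LD3_c33) (LK LD1_c5 LD2_c30 LD3_c41) Lrfl Lrfl
theorem f175256 : Led Lsl_gt (LP (LK LD1_c5 LD2_c30 LD3_c41)) = (LP (LK LD1_c10 LD2_c52 LD3_c60)) :=
  Lre_g IH (LK LD1_c5 LD2_c30 LD3_c41) (LK LD1_c10 LD2_c52 LD3_c60) Lrfl Lrfl
theorem f183293 : Led Lsl_ct (LP (LK LD1_c8 LD2_c34 LD3_c50)) = (LP (LK LD1_c4 LD2_c17 LD3_c58)) :=
  Lre_c IH (LK LD1_c8 LD2_c34 LD3_c50) (LK LD1_c4 LD2_c17 LD3_c58) Lrfl Lrfl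
theorem f320492 : Led Lsl_dt (LP (LK LD1_c10 LD2_c52 LD3_c60)) = (LP (LK LD1_c8 LD2_c34 LD3_c50)) :=
  Lgr Lrot105 (Lpe (f175256 IH) (Lpe (f175255 IH) (Lpe (K19.f175251 IH) (Lpe (K13.f245753 IH) (Lpr_gt (K18.f178520 IH) (Lpe (f320393 IH) (Lpr_gt (f320490 IH) (Lpr_dt (f178857 IH) (Lpe (f183293 IH) (Lpn (LP (LK LD1_c8 LD2_c34 LD3_c50))))))))))))
theorem f320497 : Led Lsl_df (LP (LK LD1_c10 LD2_c52 LD3_c60)) = (LP (LK LD1_c8 LD2_c34 LD3_c50)) :=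
  Lgr Lrot38 (Lpr_dt (f320492 IH) (Lpn (LP (LK LD1_c8 LD2_c34 LD3_c50))))
theorem f183273 : Led Lsl_et (LP (LK LD1_c4 LD2_c10 LD3_c58)) = (LP (LK LD1_c4 LD2_c30 LD3_c51)) :=
  Lgr Lrot87 (Lpr_ef (f183264 IH) (Lpn (LP (LK LD1_c4 LD2_c30 LD3_c51))))
theorem f178855 : Led Lsl_et (LP (LK LD1_c2 LD2_c6 LD3_c16)) = (LP (LK LD1_c4 LD2_c17 LD3_c59)) :=
  Lre_e IH (LK LD1_c2 LD2_c6 LD3_c16) (LK LD1_c4 LD2_c17 LD3_c59) Lrfl Lrfl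
theorem f183276 : Led Lsl_ef (LP (LK LD1_c4 LD2_c17 LD3_c58)) = (LP (LK LD1_c2 LD2_c12 LD3_c20)) :=
  Lgr Lrot73 (Lpr_dt (f178856 IH) (Lpr_et (f178855 IH) (Lpe (K13.f178851 IH) (Lpr_et (f183273 IH) (Lpr_dt (f7659 IH) (Lpn (LP (LK LD1_c2 LD2_c12 LD3_c20))))))))
theorem f183279 : Led Lsl_ct (LP (LK LD1_c4 LD2_c17 LD3_c58)) = (LP (LK LD1_c8 LD2_c34 LD3_c50)) :=
  Lre_c IH (LK LD1_c4 LD2_c17 LD3_c58) (LK LD1_c8 LD2_c34 LD3_c50) Lrfl Lrfl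
theorem f183280 : Led Lsl_ct (LP (LK LD1_c4 LD2_c30 LD3_c50)) = (LP (LK LD1_c2 LD2_c12 LD3_c20)) :=
  Lre_c IH (LK LD1_c4 LD2_c30 LD3_c50) (LK LD1_c2 LD2_c12 LD3_c20) Lrfl Lrfl
theorem f183281 : Led Lsl_et (LP (LK LD1_c8 LD2_c34 LD3_c50)) = (LP (LK LD1_c4 LD2_c30 LD3_c50)) :=
  Lgr Lrot158 (Lpe (f183279 IH) (Lpr_ef (f183276 IH) (Lpe (f183280 IH) (Lpn (LP (LK LD1_c4 LD2_c30 LD3_c50))))))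
theorem f320502 : Led Lsl_gf (LP (LK LD1_c2 LD2_c41 LD3_c59)) = (LP (LK LD1_c4 LD2_c30 LD3_c50)) :=
  Lgr Lrot141 (Lpe (K9.f173069 IH) (Lpe (K9.f173067 IH) (Lpr_gt (K9.f175085 IH) (Lpe (K9.f168295 IH) (Lpr_et (K19.f175250 IH) (Lpr_gt (K19.f175251 IH) (Lpr_dt (f175255 IH) (Lpr_gt (f175256 IH) (Lpr_df (f320497 IH) (Lpr_et (f183281 IH) (Lpn (LP (LK LD1_c4 LD2_c30 LD3_c50)))))))))))))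
theorem f54988 : Led Lsl_bt (LP (LK LD1_c15 LD2_c3 LD3_c10)) = (LP (LK LD1_c7 LD2_c58 LD3_c42)) :=
  Lre_b IH (LK LD1_c15 LD2_c3 LD3_c10) (LK LD1_c7 LD2_c58 LD3_c42) Lrfl Lrfl
theorem f7656 : Led Lsl_ct (LP (LK LD1_c2 LD2_c12 LD3_c20)) = (LP (LK LD1_c4 LD2_c30 LD3_c50)) :=
  Lre_c IH (LK LD1_c2 LD2_c12 LD3_c20) (LK LD1_c4 LD2_c30 LD3_c50) Lrfl Lrfl
theorem f7652 : Led Lsl_gt (LP (LK LD1_c1 LD2_c16 LD3_c46)) = (LP (LK LD1_c2 LD2_c12 LD3_c20)) :=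
  Lre_g IH (LK LD1_c1 LD2_c16 LD3_c46) (LK LD1_c2 LD2_c12 LD3_c20) Lrfl Lrfl
theorem f7635 : Led Lsl_bt (LP (LK LD1_c2 LD2_c37 LD3_c37)) = (LP (LK LD1_c1 LD2_c16 LD3_c46)) :=
  Lre_b IH (LK LD1_c2 LD2_c37 LD3_c37) (LK LD1_c1 LD2_c16 LD3_c46) Lrfl Lrfl
theorem f8635 : Led Lsl_ct (LP (LK LD1_c2 LD2_c37 LD3_c37)) = (LP (LK LD1_c5 LD2_c22 LD3_c14)) :=
  Lre_c IH (LK LD1_c2 LD2_c37 LD3_c37) (LK LD1_c5 LD2_c22 LD3_c14) Lrfl Lrfl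
theorem f196050 : Led Lsl_gt (LP (LK LD1_c10 LD2_c32 LD3_c23)) = (LP (LK LD1_c5 LD2_c22 LD3_c14)) :=
  Lre_g IH (LK LD1_c10 LD2_c32 LD3_c23) (LK LD1_c5 LD2_c22 LD3_c14) Lrfl Lrfl
theorem f320508 : Led Lsl_ct (LP (LK LD1_c15 LD2_c3 LD3_c10)) = (LP (LK LD1_c10 LD2_c32 LD3_c23)) :=
  Lgr Lrot64 (Lpr_bt (f54988 IH) (Lpe (K14.f41344 IH) (Lpe (K1.f41325 IH) (Lpr_ct (K9.f173551 IH) (Lpr_gf (f320502 IH) (Lpe (f7656 IH) (Lpe (f7652 IH) (Lpe (f7635 IH) (Lpr_ct (f8635 IH) (Lpe (f196050 IH) (Lpn (LP (LK LD1_c10 LD2_c32 LD3_c23)))))))))))))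
theorem f47866 : Led Lsl_ct (LP (LK LD1_c8 LD2_c13 LD3_c9)) = (LP (LK LD1_c15 LD2_c27 LD3_c41)) :=
  Lre_c IH (LK LD1_c8 LD2_c13 LD3_c9) (LK LD1_c15 LD2_c27 LD3_c41) Lrfl Lrfl
theorem f41356 : Led Lsl_ct (LP (LK LD1_c15 LD2_c1 LD3_c13)) = (LP (LK LD1_c7 LD2_c57 LD3_c48)) :=
  Lre_c IH (LK LD1_c15 LD2_c1 LD3_c13) (LK LD1_c7 LD2_c57 LD3_c48) Lrfl Lrfl
theorem f54533 : Led Lsl_ff (LP (LK LD1_c15 LD2_c1 LD3_c13)) = (LP (LK LD1_c15 LD2_c27 LD3_c41)) :=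
  Lgr Lrot23 (Lpr_ct (f41356 IH) (Lpr_ft (K1.f54524 IH) (Lpr_ct (f47866 IH) (Lpn (LP (LK LD1_c15 LD2_c27 LD3_c41))))))
theorem f41341 : Led Lsl_at (LP (LK LD1_c15 LD2_c1 LD3_c13)) = (LP (LK LD1_c7 LD2_c58 LD3_c41)) :=
  Lre_a IH (LK LD1_c15 LD2_c1 LD3_c13) (LK LD1_c7 LD2_c58 LD3_c41) Lrfl Lrfl
theorem f41348 : Led Lsl_gt (LP (LK LD1_c15 LD2_c3 LD3_c8)) = (LP (LK LD1_c7 LD2_c58 LD3_c41)) :=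
  Lre_g IH (LK LD1_c15 LD2_c3 LD3_c8) (LK LD1_c7 LD2_c58 LD3_c41) Lrfl Lrfl
theorem f54992 : Led Lsl_gf (LP (LK LD1_c15 LD2_c3 LD3_c8)) = (LP (LK LD1_c15 LD2_c27 LD3_c41)) :=
  Lgr Lrot47 (Lpr_gt (f41348 IH) (Lpe (f41341 IH) (Lpr_ff (f54533 IH) (Lpn (LP (LK LD1_c15 LD2_c27 LD3_c41))))))
theorem f223566 : Led Lsl_gt (LP (LK LD1_c5 LD2_c21 LD3_c8)) = (LP (LK LD1_c10 LD2_c32 LD3_c23)) :=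
  Lre_g IH (LK LD1_c5 LD2_c21 LD3_c8) (LK LD1_c10 LD2_c32 LD3_c23) Lrfl Lrfl
theorem f41448 : Led Lsl_ct (LP (LK LD1_c2 LD2_c37 LD3_c10)) = (LP (LK LD1_c5 LD2_c21 LD3_c8)) :=
  Lre_c IH (LK LD1_c2 LD2_c37 LD3_c10) (LK LD1_c5 LD2_c21 LD3_c8) Lrfl Lrfl
theorem f7832 : Led Lsl_gt (LP (LK LD1_c2 LD2_c40 LD3_c31)) = (LP (LK LD1_c5 LD2_c28 LD3_c23)) :=
  Lre_g IH (LK LD1_c2 LD2_c40 LD3_c31) (LK LD1_c5 LD2_c28 LD3_c23) Lrfl Lrfl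
theorem f278997 : Led Lsl_gf (LP (LK LD1_c8 LD2_c53 LD3_c26)) = (LP (LK LD1_c5 LD2_c28 LD3_c23)) :=
  Lgr Lrot76 (Lpr_af (K16.f278978 IH) (Lpe (K16.f7822 IH) (Lpr_gt (f7832 IH) (Lpn (LP (LK LD1_c5 LD2_c28 LD3_c23))))))
theorem f279008 : Led Lsl_et (LP (LK LD1_c10 LD2_c47 LD3_c57)) = (LP (LK LD1_c5 LD2_c28 LD3_c23)) :=
  Lre_e IH (LK LD1_c10 LD2_c47 LD3_c57) (LK LD1_c5 LD2_c28 LD3_c23) Lrfl Lrfl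
theorem f8675 : Led Lsl_gt (LP (LK LD1_c2 LD2_c58 LD3_c50)) = (LP (LK LD1_c6 LD2_c5 LD3_c26)) :=
  Lre_g IH (LK LD1_c2 LD2_c58 LD3_c50) (LK LD1_c6 LD2_c5 LD3_c26) Lrfl Lrfl
theorem f316015 : Led Lsl_dt (LP (LK LD1_c10 LD2_c47 LD3_c57)) = (LP (LK LD1_c6 LD2_c5 LD3_c26)) :=
  Lgr Lrot56 (Lpr_et (f279008 IH) (Lpe (f278997 IH) (Lpe (f315989 IH) (Lpr_dt (f315987 IH) (Lpe (f316013 IH) (Lpe (f278572 IH) (Lpe (f278578 IH) (Lpr_gt (K19.f41712 IH) (Lpe (K1.f8639 IH) (Lpr_gt (f8675 IH) (Lpn (LP (LK LD1_c6 LD2_c5 LD3_c26)))))))))))))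
theorem f316027 : Led Lsl_gf (LP (LK LD1_c4 LD2_c27 LD3_c41)) = (LP (LK LD1_c6 LD2_c5 LD3_c26)) :=
  Lgr Lrot145 (Lpe (K1.f41446 IH) (Lpr_et (K19.f41551 IH) (Lpr_gt (K12.f41555 IH) (Lpr_dt (K16.f253443 IH) (Lpr_gt (K14.f7845 IH) (Lpr_df (K12.f7719 IH) (Lpr_et (K12.f7817 IH) (Lpr_gt (f7832 IH) (Lpe (f279008 IH) (Lpr_dt (f316015 IH) (Lpn (LP (LK LD1_c6 LD2_c5 LD3_c26)))))))))))))
theorem f8676 : Led Lsl_bt (LP (LK LD1_c11 LD2_c54 LD3_c26)) = (LP (LK LD1_c6 LD2_c5 LD3_c26)) :=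
  Lre_b IH (LK LD1_c11 LD2_c54 LD3_c26) (LK LD1_c6 LD2_c5 LD3_c26) Lrfl Lrfl
theorem f320520 : Led Lsl_cf (LP (LK LD1_c15 LD2_c3 LD3_c8)) = (LP (LK LD1_c11 LD2_c54 LD3_c26)) :=
  Lgr Lrot163 (Lpr_gf (f54992 IH) (Lpe (f47866 IH) (Lpe (K14.f54985 IH) (Lpe (f54988 IH) (Lpr_ct (f320508 IH) (Lpe (f223566 IH) (Lpe (f41448 IH) (Lpr_bt (K1.f41444 IH) (Lpr_gf (f316027 IH) (Lpe (f8676 IH) (Lpn (LP (LK LD1_c11 LD2_c54 LD3_c26)))))))))))))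
theorem f41335 : Led Lsl_ct (LP (LK LD1_c3 LD2_c58 LD3_c35)) = (LP (LK LD1_c7 LD2_c58 LD3_c41)) :=
  Lre_c IH (LK LD1_c3 LD2_c58 LD3_c35) (LK LD1_c7 LD2_c58 LD3_c41) Lrfl Lrfl
theorem f41329 : Led Lsl_gt (LP (LK LD1_c1 LD2_c56 LD3_c8)) = (LP (LK LD1_c3 LD2_c58 LD3_c49)) :=
  Lre_g IH (LK LD1_c1 LD2_c56 LD3_c8) (LK LD1_c3 LD2_c58 LD3_c49) Lrfl Lrfl
theorem f8665 : Led Lsl_gt (LP (LK LD1_c1 LD2_c18 LD3_c6)) = (LP (LK LD1_c2 LD2_c43 LD3_c20)) :=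
  Lre_g IH (LK LD1_c1 LD2_c18 LD3_c6) (LK LD1_c2 LD2_c43 LD3_c20) Lrfl Lrfl
theorem f8666 : Led Lsl_gt (LP (LK LD1_c2 LD2_c43 LD3_c20)) = (LP (LK LD1_c2 LD2_c59 LD3_c35)) :=
  Lgr Lrot46 (Lpe (f8665 IH) (Lpr_ft (K0.f8650 IH) (Lpr_at (K0.f8651 IH) (Lpn (LP (LK LD1_c2 LD2_c59 LD3_c35))))))
theorem f320535 : Led Lsl_ct (LP (LK LD1_c3 LD2_c58 LD3_c49)) = (LP (LK LD1_c2 LD2_c43 LD3_c20)) :=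
  Lgr Lrot91 (Lpe (f41329 IH) (Lpe (K1.f41104 IH) (Lpr_ct (f41335 IH) (Lpe (f41348 IH) (Lpr_cf (f320520 IH) (Lpr_bt (f8676 IH) (Lpe (f8675 IH) (Lpe (K1.f8610 IH) (Lpr_ct (K0.f8596 IH) (Lpe (f8666 IH) (Lpn (LP (LK LD1_c2 LD2_c43 LD3_c20)))))))))))))
theorem f320546 : Led Lsl_bt (LP (LK LD1_c3 LD2_c58 LD3_c49)) = (LP (LK LD1_c7 LD2_c59 LD3_c5)) :=
  Lre_b IH (LK LD1_c3 LD2_c58 LD3_c49) (LK LD1_c7 LD2_c59 LD3_c5) Lrfl Lrfl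
theorem f8680 : Led Lsl_ct (LP (LK LD1_c6 LD2_c5 LD3_c26)) = (LP (LK LD1_c11 LD2_c54 LD3_c27)) :=
  Lre_c IH (LK LD1_c6 LD2_c5 LD3_c26) (LK LD1_c11 LD2_c54 LD3_c27) Lrfl Lrfl
theorem f41715 : Led Lsl_dt (LP (LK LD1_c6 LD2_c5 LD3_c27)) = (LP (LK LD1_c11 LD2_c54 LD3_c30)) :=
  Lre_d IH (LK LD1_c6 LD2_c5 LD3_c27) (LK LD1_c11 LD2_c54 LD3_c30) Lrfl Lrfl
theorem f41717 : Led Lsl_ct (LP (LK LD1_c11 LD2_c54 LD3_c30)) = (LP (LK LD1_c20 LD2_c58 LD3_c60)) :=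
  Lre_c IH (LK LD1_c11 LD2_c54 LD3_c30) (LK LD1_c20 LD2_c58 LD3_c60) Lrfl Lrfl
theorem f249329 : Led Lsl_ct (LP (LK LD1_c10 LD2_c29 LD3_c35)) = (LP (LK LD1_c19 LD2_c1 LD3_c4)) :=
  Lre_c IH (LK LD1_c10 LD2_c29 LD3_c35) (LK LD1_c19 LD2_c1 LD3_c4) Lrfl Lrfl
theorem f292819 : Led Lsl_dt (LP (LK LD1_c8 LD2_c54 LD3_c27)) = (LP (LK LD1_c4 LD2_c28 LD3_c10)) :=
  Lre_d IH (LK LD1_c8 LD2_c54 LD3_c27) (LK LD1_c4 LD2_c28 LD3_c10) Lrfl Lrfl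
theorem f292810 : Led Lsl_gt (LP (LK LD1_c16 LD2_c39 LD3_c52)) = (LP (LK LD1_c8 LD2_c54 LD3_c27)) :=
  Lre_g IH (LK LD1_c16 LD2_c39 LD3_c52) (LK LD1_c8 LD2_c54 LD3_c27) Lrfl Lrfl
theorem f292776 : Led Lsl_df (LP (LK LD1_c8 LD2_c53 LD3_c41)) = (LP (LK LD1_c4 LD2_c28 LD3_c6)) :=
  Lgr Lrot38 (Lpr_dt (K17.f292766 IH) (Lpn (LP (LK LD1_c4 LD2_c28 LD3_c6))))
theorem f292670 : Led Lsl_et (LP (LK LD1_c2 LD2_c11 LD3_c10)) = (LP (LK LD1_c4 LD2_c28 LD3_c0)) :=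
  Lre_e IH (LK LD1_c2 LD2_c11 LD3_c10) (LK LD1_c4 LD2_c28 LD3_c0) Lrfl Lrfl
theorem f247364 : Led Lsl_gt (LP (LK LD1_c4 LD2_c28 LD3_c0)) = (LP (LK LD1_c8 LD2_c54 LD3_c1)) :=
  Lre_g IH (LK LD1_c4 LD2_c28 LD3_c0) (LK LD1_c8 LD2_c54 LD3_c1) Lrfl Lrfl
theorem f292811 : Led Lsl_et (LP (LK LD1_c16 LD2_c39 LD3_c0)) = (LP (LK LD1_c8 LD2_c54 LD3_c1)) :=
  Lre_e IH (LK LD1_c16 LD2_c39 LD3_c0) (LK LD1_c8 LD2_c54 LD3_c1) Lrfl Lrfl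
theorem f292812 : Led Lsl_df (LP (LK LD1_c16 LD2_c39 LD3_c52)) = (LP (LK LD1_c16 LD2_c39 LD3_c0)) :=
  Lgr Lrot170 (Lpr_gt (f292810 IH) (Lpe (K18.f292809 IH) (Lpr_et (K16.f276478 IH) (Lpr_gt (K17.f235211 IH) (Lpe (f292776 IH) (Lpr_gt (K17.f292798 IH) (Lpe (K16.f267126 IH) (Lpr_et (f292670 IH) (Lpr_gt (f247364 IH) (Lpe (f292811 IH) (Lpn (LP (LK LD1_c16 LD2_c39 LD3_c0)))))))))))))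
theorem f302816 : Led Lsl_gt (LP (LK LD1_c19 LD2_c1 LD3_c4)) = (LP (LK LD1_c16 LD2_c39 LD3_c0)) :=
  Lgr Lrot94 (Lpe (f249329 IH) (Lpr_gt (K19.f302812 IH) (Lpr_dt (K19.f302808 IH) (Lpe (K19.f302796 IH) (Lpr_dt (K18.f253460 IH) (Lpe (K18.f292820 IH) (Lpe (f292819 IH) (Lpe (f292810 IH) (Lpr_df (f292812 IH) (Lpn (LP (LK LD1_c16 LD2_c39 LD3_c0))))))))))))
theorem f256103 : Led Lsl_ct (LP (LK LD1_c19 LD2_c1 LD3_c4)) = (LP (LK LD1_c10 LD2_c29 LD3_c35)) :=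
  Lre_c IH (LK LD1_c19 LD2_c1 LD3_c4) (LK LD1_c10 LD2_c29 LD3_c35) Lrfl Lrfl
theorem f256104 : Led Lsl_ef (LP (LK LD1_c19 LD2_c1 LD3_c4)) = (LP (LK LD1_c20 LD2_c58 LD3_c60)) :=
  Lgr Lrot28 (Lpr_ct (f256103 IH) (Lpr_et (f256101 IH) (Lpr_ct (f41717 IH) (Lpn (LP (LK LD1_c20 LD2_c58 LD3_c60))))))
theorem f276486 : Led Lsl_et (LP (LK LD1_c8 LD2_c54 LD3_c15)) = (LP (LK LD1_c4 LD2_c28 LD3_c6)) :=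
  Lre_e IH (LK LD1_c8 LD2_c54 LD3_c15) (LK LD1_c4 LD2_c28 LD3_c6) Lrfl Lrfl
theorem f276487 : Led Lsl_dt (LP (LK LD1_c8 LD2_c54 LD3_c15)) = (LP (LK LD1_c16 LD2_c39 LD3_c24)) :=
  Lre_d IH (LK LD1_c8 LD2_c54 LD3_c15) (LK LD1_c16 LD2_c39 LD3_c24) Lrfl Lrfl
theorem f292823 : Led Lsl_gt (LP (LK LD1_c16 LD2_c39 LD3_c24)) = (LP (LK LD1_c26 LD2_c37 LD3_c49)) :=
  Lre_g IH (LK LD1_c16 LD2_c39 LD3_c24) (LK LD1_c26 LD2_c37 LD3_c49) Lrfl Lrfl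
theorem f302821 : Led Lsl_dt (LP (LK LD1_c20 LD2_c58 LD3_c60)) = (LP (LK LD1_c26 LD2_c37 LD3_c49)) :=
  Lgr Lrot37 (Lpe (f256104 IH) (Lpr_gt (f302816 IH) (Lpe (f292812 IH) (Lpr_gt (f292810 IH) (Lpe (K18.f292809 IH) (Lpr_et (K16.f276478 IH) (Lpr_gt (K17.f235211 IH) (Lpe (f276486 IH) (Lpr_dt (f276487 IH) (Lpr_gt (f292823 IH) (Lpn (LP (LK LD1_c26 LD2_c37 LD3_c49)))))))))))))
theorem f302823 : Led Lsl_df (LP (LK LD1_c20 LD2_c58 LD3_c60)) = (LP (LK LD1_c26 LD2_c37 LD3_c49)) :=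
  Lgr Lrot38 (Lpr_dt (f302821 IH) (Lpn (LP (LK LD1_c26 LD2_c37 LD3_c49))))
theorem f310255 : Led Lsl_ct (LP (LK LD1_c11 LD2_c54 LD3_c27)) = (LP (LK LD1_c6 LD2_c5 LD3_c26)) :=
  Lre_c IH (LK LD1_c11 LD2_c54 LD3_c27) (LK LD1_c6 LD2_c5 LD3_c26) Lrfl Lrfl
theorem f316029 : Led Lsl_gf (LP (LK LD1_c8 LD2_c54 LD3_c15)) = (LP (LK LD1_c11 LD2_c54 LD3_c27)) :=
  Lgr Lrot144 (Lpr_dt (f276487 IH) (Lpr_gt (f292823 IH) (Lpe (f302823 IH) (Lpe (f41717 IH) (Lpe (f41715 IH) (Lpe (K19.f41713 IH) (Lpe (K1.f41446 IH) (Lpr_gf (f316027 IH) (Lpe (f310255 IH) (Lpn (LP (LK LD1_c11 LD2_c54 LD3_c27))))))))))))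
theorem f54081 : Led Lsl_ef (LP (LK LD1_c4 LD2_c20 LD3_c21)) = (LP (LK LD1_c5 LD2_c0 LD3_c41)) :=
  Lgr Lrot28 (Lpr_ct (K16.f28661 IH) (Lpr_et (K12.f54079 IH) (Lpr_ct (K15.f53644 IH) (Lpn (LP (LK LD1_c5 LD2_c0 LD3_c41))))))
theorem f182118 : Led Lsl_et (LP (LK LD1_c6 LD2_c4 LD3_c58)) = (LP (LK LD1_c11 LD2_c53 LD3_c16)) :=
  Lre_e IH (LK LD1_c6 LD2_c4 LD3_c58) (LK LD1_c11 LD2_c53 LD3_c16) Lrfl Lrfl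
theorem f292563 : Led Lsl_ft (LP (LK LD1_c11 LD2_c53 LD3_c16)) = (LP (LK LD1_c8 LD2_c54 LD3_c15)) :=
  Lgr Lrot86 (Lpe (f182118 IH) (Lpr_ff (K10.f182112 IH) (Lpr_ef (f54081 IH) (Lpr_ff (K17.f292557 IH) (Lpe (f276486 IH) (Lpn (LP (LK LD1_c8 LD2_c54 LD3_c15))))))))
theorem f292519 : Led Lsl_bt (LP (LK LD1_c4 LD2_c31 LD3_c17)) = (LP (LK LD1_c8 LD2_c37 LD3_c3)) :=
  Lgr Lrot127 (Lpr_bf (K17.f292515 IH) (Lpn (LP (LK LD1_c8 LD2_c37 LD3_c3))))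
theorem f292521 : Led Lsl_dt (LP (LK LD1_c8 LD2_c37 LD3_c3)) = (LP (LK LD1_c8 LD2_c37 LD3_c3)) :=
  Lgr Lrot79 (Lpe (f292519 IH) (Lpe (K14.f212699 IH) (Lpr_bf (K17.f292515 IH) (Lpn (LP (LK LD1_c8 LD2_c37 LD3_c3))))))
theorem f292527 : Led Lsl_ff (LP (LK LD1_c8 LD2_c38 LD3_c35)) = (LP (LK LD1_c8 LD2_c37 LD3_c3)) :=
  Lgr Lrot19 (Lpe (K10.f31085 IH) (Lpr_ft (K17.f292523 IH) (Lpr_dt (f292521 IH) (Lpn (LP (LK LD1_c8 LD2_c37 LD3_c3))))))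
theorem f292568 : Led Lsl_cf (LP (LK LD1_c8 LD2_c37 LD3_c3)) = (LP (LK LD1_c8 LD2_c54 LD3_c15)) :=
  Lgr Lrot108 (Lpe (f292527 IH) (Lpe (K10.f182110 IH) (Lpr_ft (f292563 IH) (Lpn (LP (LK LD1_c8 LD2_c54 LD3_c15))))))
theorem f292573 : Led Lsl_ct (LP (LK LD1_c8 LD2_c37 LD3_c3)) = (LP (LK LD1_c8 LD2_c54 LD3_c15)) :=
  Lgr Lrot59 (Lpr_cf (f292568 IH) (Lpn (LP (LK LD1_c8 LD2_c54 LD3_c15))))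
theorem f320549 : Led Lsl_gf (LP (LK LD1_c7 LD2_c59 LD3_c5)) = (LP (LK LD1_c4 LD2_c31 LD3_c17)) :=
  Lgr Lrot124 (Lpe (f320546 IH) (Lpr_ct (f320535 IH) (Lpr_gt (f8666 IH) (Lpe (K0.f8596 IH) (Lpr_bt (K1.f8610 IH) (Lpr_gt (f8675 IH) (Lpr_ct (f8680 IH) (Lpe (f316029 IH) (Lpe (f292573 IH) (Lpe (K17.f292515 IH) (Lpn (LP (LK LD1_c4 LD2_c31 LD3_c17)))))))))))))
theorem f212768 : Led Lsl_ff (LP (LK LD1_c0 LD2_c36 LD3_c2)) = (LP (LK LD1_c0 LD2_c33 LD3_c0)) :=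
  Lgr Lrot72 (Lpr_et (K14.f212756 IH) (Lpr_ft (K12.f212758 IH) (Lpr_et (K8.f33279 IH) (Lpr_ft (K0.f33282 IH) (Lpr_et (K13.f33291 IH) (Lpn (LP (LK LD1_c0 LD2_c33 LD3_c0))))))))
theorem f313079 : Led Lsl_gt (LP (LK LD1_c0 LD2_c36 LD3_c3)) = (LP (LK LD1_c1 LD2_c3 LD3_c20)) :=
  Lgr Lrot46 (Lpr_gf (K19.f313075 IH) (Lpe (f212768 IH) (Lpr_at (K14.f212751 IH) (Lpn (LP (LK LD1_c1 LD2_c3 LD3_c20))))))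
theorem f199392 : Led Lsl_dt (LP (LK LD1_c1 LD2_c18 LD3_c12)) = (LP (LK LD1_c0 LD2_c36 LD3_c3)) :=
  Lre_d IH (LK LD1_c1 LD2_c18 LD3_c12) (LK LD1_c0 LD2_c36 LD3_c3) Lrfl Lrfl
theorem f311538 : Led Lsl_dt (LP (LK LD1_c4 LD2_c31 LD3_c19)) = (LP (LK LD1_c2 LD2_c28 LD3_c30)) :=
  Lgr Lrot42 (Lpr_df (K19.f311528 IH) (Lpn (LP (LK LD1_c2 LD2_c28 LD3_c30))))
theorem f311545 : Led Lsl_dt (LP (LK LD1_c9 LD2_c53 LD3_c40)) = (LP (LK LD1_c5 LD2_c1 LD3_c38)) :=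
  Lre_d IH (LK LD1_c9 LD2_c53 LD3_c40) (LK LD1_c5 LD2_c1 LD3_c38) Lrfl Lrfl
theorem f320555 : Led Lsl_ef (LP (LK LD1_c7 LD2_c59 LD3_c5)) = (LP (LK LD1_c9 LD2_c53 LD3_c40)) :=
  Lgr Lrot17 (Lpr_gf (f320549 IH) (Lpe (K14.f212701 IH) (Lpr_dt (K13.f177917 IH) (Lpe (f313079 IH) (Lpe (f199392 IH) (Lpe (f317013 IH) (Lpe (K13.f212619 IH) (Lpr_dt (f311538 IH) (Lpe (K19.f311544 IH) (Lpe (f311545 IH) (Lpn (LP (LK LD1_c9 LD2_c53 LD3_c40)))))))))))))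
theorem f320551 : Led Lsl_gt (LP (LK LD1_c7 LD2_c59 LD3_c5)) = (LP (LK LD1_c4 LD2_c20 LD3_c1)) :=
  Lgr Lrot46 (Lpr_gf (f320549 IH) (Lpe (K14.f212697 IH) (Lpr_at (K10.f32051 IH) (Lpn (LP (LK LD1_c4 LD2_c20 LD3_c1))))))
theorem f317265 : Led Lsl_gf (LP (LK LD1_c9 LD2_c0 LD3_c40)) = (LP (LK LD1_c5 LD2_c35 LD3_c28)) :=
  Lgr Lrot138 (Lpr_dt (K15.f238157 IH) (Lpr_gt (f317261 IH) (Lpe (K19.f314653 IH) (Lpr_et (f190225 IH) (Lpr_gt (K13.f190220 IH) (Lpe (K10.f28487 IH) (Lpe (K14.f28490 IH) (Lpr_gt (K14.f28498 IH) (Lpr_df (K14.f247173 IH) (Lpr_et (K14.f189445 IH) (Lpn (LP (LK LD1_c5 LD2_c35 LD3_c28)))))))))))))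
theorem f246951 : Led Lsl_ft (LP (LK LD1_c2 LD2_c43 LD3_c44)) = (LP (LK LD1_c5 LD2_c35 LD3_c37)) :=
  Lre_f IH (LK LD1_c2 LD2_c43 LD3_c44) (LK LD1_c5 LD2_c35 LD3_c37) Lrfl Lrfl
theorem f317054 : Led Lsl_ef (LP (LK LD1_c9 LD2_c0 LD3_c40)) = (LP (LK LD1_c5 LD2_c35 LD3_c37)) :=
  Lgr Lrot21 (Lpr_ft (K15.f238101 IH) (Lpr_et (K19.f212548 IH) (Lpr_ft (f317050 IH) (Lpr_et (K19.f246946 IH) (Lpr_ft (f246951 IH) (Lpn (LP (LK LD1_c5 LD2_c35 LD3_c37))))))))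
theorem f246948 : Led Lsl_ft (LP (LK LD1_c5 LD2_c0 LD3_c50)) = (LP (LK LD1_c9 LD2_c52 LD3_c1)) :=
  Lre_f IH (LK LD1_c5 LD2_c0 LD3_c50) (LK LD1_c9 LD2_c52 LD3_c1) Lrfl Lrfl
theorem f246949 : Led Lsl_df (LP (LK LD1_c5 LD2_c35 LD3_c37)) = (LP (LK LD1_c9 LD2_c52 LD3_c1)) :=
  Lgr Lrot78 (Lpr_ft (f246947 IH) (Lpr_dt (K16.f246940 IH) (Lpr_ft (f246948 IH) (Lpn (LP (LK LD1_c9 LD2_c52 LD3_c1))))))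
theorem f246965 : Led Lsl_dt (LP (LK LD1_c5 LD2_c35 LD3_c37)) = (LP (LK LD1_c9 LD2_c52 LD3_c1)) :=
  Lgr Lrot42 (Lpr_df (f246949 IH) (Lpn (LP (LK LD1_c9 LD2_c52 LD3_c1))))
theorem f320562 : Led Lsl_gt (LP (LK LD1_c9 LD2_c52 LD3_c1)) = (LP (LK LD1_c5 LD2_c1 LD3_c38)) :=
  Lgr Lrot112 (Lpe (f246965 IH) (Lpe (f317054 IH) (Lpr_gf (f317265 IH) (Lpe (K14.f189445 IH) (Lpe (K14.f247173 IH) (Lpe (K14.f28498 IH) (Lpr_df (K14.f28490 IH) (Lpe (f320551 IH) (Lpr_ef (f320555 IH) (Lpr_dt (f311545 IH) (Lpn (LP (LK LD1_c5 LD2_c1 LD3_c38)))))))))))))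
theorem f246967 : Led Lsl_ft (LP (LK LD1_c9 LD2_c52 LD3_c1)) = (LP (LK LD1_c5 LD2_c0 LD3_c50)) :=
  Lre_f IH (LK LD1_c9 LD2_c52 LD3_c1) (LK LD1_c5 LD2_c0 LD3_c50) Lrfl Lrfl
theorem f320564 : Led Lsl_at (LP (LK LD1_c5 LD2_c0 LD3_c50)) = (LP (LK LD1_c2 LD2_c28 LD3_c30)) :=
  Lgr Lrot26 (Lpe (f246967 IH) (Lpr_gt (f320562 IH) (Lpr_gt (K19.f311544 IH) (Lpn (LP (LK LD1_c2 LD2_c28 LD3_c30))))))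
theorem f311543 : Led Lsl_ft (LP (LK LD1_c2 LD2_c28 LD3_c30)) = (LP (LK LD1_c5 LD2_c1 LD3_c39)) :=
  Lre_f IH (LK LD1_c2 LD2_c28 LD3_c30) (LK LD1_c5 LD2_c1 LD3_c39) Lrfl Lrfl
theorem f320573 : Led Lsl_af (LP (LK LD1_c9 LD2_c52 LD3_c1)) = (LP (LK LD1_c5 LD2_c1 LD3_c39)) :=
  Lgr Lrot45 (Lpr_ft (f246967 IH) (Lpr_at (f320564 IH) (Lpr_ft (f311543 IH) (Lpn (LP (LK LD1_c5 LD2_c1 LD3_c39))))))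
theorem f177617 : Led Lsl_et (LP (LK LD1_c5 LD2_c2 LD3_c18)) = (LP (LK LD1_c2 LD2_c28 LD3_c44)) :=
  Lre_e IH (LK LD1_c5 LD2_c2 LD3_c18) (LK LD1_c2 LD2_c28 LD3_c44) Lrfl Lrfl
theorem f246981 : Led Lsl_gt (LP (LK LD1_c2 LD2_c43 LD3_c44)) = (LP (LK LD1_c2 LD2_c59 LD3_c47)) :=
  Lgr Lrot139 (Lpr_df (K16.f246944 IH) (Lpe (K16.f213496 IH) (Lpe (K16.f213497 IH) (Lpe (K16.f246894 IH) (Lpe (K14.f195690 IH) (Lpe (K13.f195616 IH) (Lpr_et (K14.f195627 IH) (Lpe (K14.f242297 IH) (Lpe (f177617 IH) (Lpr_dt (K10.f177587 IH) (Lpn (LP (LK LD1_c2 LD2_c59 LD3_c47)))))))))))))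
theorem f177606 : Led Lsl_gt (LP (LK LD1_c2 LD2_c59 LD3_c47)) = (LP (LK LD1_c6 LD2_c7 LD3_c15)) :=
  Lre_g IH (LK LD1_c2 LD2_c59 LD3_c47) (LK LD1_c6 LD2_c7 LD3_c15) Lrfl Lrfl
theorem f246984 : Led Lsl_at (LP (LK LD1_c5 LD2_c35 LD3_c37)) = (LP (LK LD1_c6 LD2_c7 LD3_c15)) :=
  Lgr Lrot26 (Lpe (f246951 IH) (Lpr_gt (f246981 IH) (Lpr_gt (f177606 IH) (Lpn (LP (LK LD1_c6 LD2_c7 LD3_c15))))))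
theorem f320582 : Led Lsl_dt (LP (LK LD1_c6 LD2_c7 LD3_c15)) = (LP (LK LD1_c5 LD2_c1 LD3_c39)) :=
  Lgr Lrot44 (Lpe (f246984 IH) (Lpr_df (f246949 IH) (Lpr_af (f320573 IH) (Lpn (LP (LK LD1_c5 LD2_c1 LD3_c39))))))
theorem f320594 : Led Lsl_df (LP (LK LD1_c6 LD2_c7 LD3_c15)) = (LP (LK LD1_c5 LD2_c1 LD3_c39)) :=
  Lgr Lrot38 (Lpr_dt (f320582 IH) (Lpn (LP (LK LD1_c5 LD2_c1 LD3_c39))))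
theorem f320603 : Led Lsl_ft (LP (LK LD1_c6 LD2_c7 LD3_c15)) = (LP (LK LD1_c4 LD2_c31 LD3_c19)) :=
  Lgr Lrot54 (Lpr_df (f320594 IH) (Lpe (f311543 IH) (Lpe (f311538 IH) (Lpn (LP (LK LD1_c4 LD2_c31 LD3_c19))))))
theorem f320591 : Led Lsl_ct (LP (LK LD1_c5 LD2_c1 LD3_c39)) = (LP (LK LD1_c9 LD2_c53 LD3_c36)) :=
  Lre_c IH (LK LD1_c5 LD2_c1 LD3_c39) (LK LD1_c9 LD2_c53 LD3_c36) Lrfl Lrfl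
theorem f320592 : Led Lsl_dt (LP (LK LD1_c9 LD2_c53 LD3_c36)) = (LP (LK LD1_c18 LD2_c6 LD3_c17)) :=
  Lre_d IH (LK LD1_c9 LD2_c53 LD3_c36) (LK LD1_c18 LD2_c6 LD3_c17) Lrfl Lrfl
theorem f320593 : Led Lsl_ct (LP (LK LD1_c18 LD2_c6 LD3_c17)) = (LP (LK LD1_c27 LD2_c47 LD3_c23)) :=
  Lre_c IH (LK LD1_c18 LD2_c6 LD3_c17) (LK LD1_c27 LD2_c47 LD3_c23) Lrfl Lrfl
theorem f317048 : Led Lsl_at (LP (LK LD1_c4 LD2_c31 LD3_c19)) = (LP (LK LD1_c2 LD2_c43 LD3_c44)) :=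
  Lgr Lrot80 (Lpe (K19.f234264 IH) (Lpr_af (f317042 IH) (Lpe (K16.f199495 IH) (Lpn (LP (LK LD1_c2 LD2_c43 LD3_c44))))))
theorem f212980 : Led Lsl_ct (LP (LK LD1_c5 LD2_c35 LD3_c35)) = (LP (LK LD1_c2 LD2_c43 LD3_c44)) :=
  Lre_c IH (LK LD1_c5 LD2_c35 LD3_c35) (LK LD1_c2 LD2_c43 LD3_c44) Lrfl Lrfl
theorem f212979 : Led Lsl_dt (LP (LK LD1_c11 LD2_c3 LD3_c22)) = (LP (LK LD1_c5 LD2_c35 LD3_c35)) :=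
  Lre_d IH (LK LD1_c11 LD2_c3 LD3_c22) (LK LD1_c5 LD2_c35 LD3_c35) Lrfl Lrfl
theorem f246943 : Led Lsl_ct (LP (LK LD1_c19 LD2_c55 LD3_c17)) = (LP (LK LD1_c11 LD2_c3 LD3_c22)) :=
  Lre_c IH (LK LD1_c19 LD2_c55 LD3_c17) (LK LD1_c11 LD2_c3 LD3_c22) Lrfl Lrfl
theorem f320608 : Led Lsl_dt (LP (LK LD1_c27 LD2_c47 LD3_c23)) = (LP (LK LD1_c19 LD2_c55 LD3_c17)) :=
  Lgr Lrot140 (Lpe (f320593 IH) (Lpe (f320592 IH) (Lpe (f320591 IH) (Lpe (f320582 IH) (Lpr_ft (f320603 IH) (Lpr_at (f317048 IH) (Lpe (f212980 IH) (Lpe (f212979 IH) (Lpe (f246943 IH) (Lpn (LP (LK LD1_c19 LD2_c55 LD3_c17))))))))))))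
theorem f320611 : Led Lsl_df (LP (LK LD1_c27 LD2_c47 LD3_c23)) = (LP (LK LD1_c19 LD2_c55 LD3_c17)) :=
  Lgr Lrot38 (Lpr_dt (f320608 IH) (Lpn (LP (LK LD1_c19 LD2_c55 LD3_c17))))
theorem f320602 : Led Lsl_ct (LP (LK LD1_c27 LD2_c47 LD3_c23)) = (LP (LK LD1_c18 LD2_c6 LD3_c17)) :=
  Lre_c IH (LK LD1_c27 LD2_c47 LD3_c23) (LK LD1_c18 LD2_c6 LD3_c17) Lrfl Lrfl
theorem f320597 : Led Lsl_dt (LP (LK LD1_c18 LD2_c6 LD3_c17)) = (LP (LK LD1_c9 LD2_c53 LD3_c36)) :=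
  Lre_d IH (LK LD1_c18 LD2_c6 LD3_c17) (LK LD1_c9 LD2_c53 LD3_c36) Lrfl Lrfl
theorem f320579 : Led Lsl_ct (LP (LK LD1_c9 LD2_c53 LD3_c36)) = (LP (LK LD1_c5 LD2_c1 LD3_c39)) :=
  Lre_c IH (LK LD1_c9 LD2_c53 LD3_c36) (LK LD1_c5 LD2_c1 LD3_c39) Lrfl Lrfl
theorem f212982 : Led Lsl_ct (LP (LK LD1_c11 LD2_c3 LD3_c22)) = (LP (LK LD1_c19 LD2_c55 LD3_c17)) :=
  Lre_c IH (LK LD1_c11 LD2_c3 LD3_c22) (LK LD1_c19 LD2_c55 LD3_c17) Lrfl Lrfl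
theorem f199525 : Led Lsl_dt (LP (LK LD1_c5 LD2_c35 LD3_c35)) = (LP (LK LD1_c11 LD2_c3 LD3_c22)) :=
  Lre_d IH (LK LD1_c5 LD2_c35 LD3_c35) (LK LD1_c11 LD2_c3 LD3_c22) Lrfl Lrfl
theorem f316685 : Led Lsl_ft (LP (LK LD1_c5 LD2_c35 LD3_c35)) = (LP (LK LD1_c11 LD2_c3 LD3_c23)) :=
  Lre_f IH (LK LD1_c5 LD2_c35 LD3_c35) (LK LD1_c11 LD2_c3 LD3_c23) Lrfl Lrfl
theorem f201743 : Led Lsl_gt (LP (LK LD1_c5 LD2_c12 LD3_c46)) = (LP (LK LD1_c10 LD2_c15 LD3_c56)) :=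
  Lre_g IH (LK LD1_c5 LD2_c12 LD3_c46) (LK LD1_c10 LD2_c15 LD3_c56) Lrfl Lrfl
theorem f316686 : Led Lsl_af (LP (LK LD1_c10 LD2_c15 LD3_c56)) = (LP (LK LD1_c11 LD2_c3 LD3_c23)) :=
  Lgr Lrot31 (Lpe (f201743 IH) (Lpr_gf (f316683 IH) (Lpr_ft (f316685 IH) (Lpn (LP (LK LD1_c11 LD2_c3 LD3_c23))))))
theorem f320622 : Led Lsl_ct (LP (LK LD1_c6 LD2_c7 LD3_c15)) = (LP (LK LD1_c10 LD2_c15 LD3_c56)) :=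
  Lgr Lrot98 (Lpr_df (f320594 IH) (Lpe (f320579 IH) (Lpe (f320597 IH) (Lpe (f320602 IH) (Lpr_df (f320611 IH) (Lpe (f212982 IH) (Lpe (f199525 IH) (Lpr_ft (f316685 IH) (Lpe (f316686 IH) (Lpn (LP (LK LD1_c10 LD2_c15 LD3_c56))))))))))))
theorem f177611 : Led Lsl_ct (LP (LK LD1_c9 LD2_c55 LD3_c25)) = (LP (LK LD1_c18 LD2_c10 LD3_c0)) :=
  Lre_c IH (LK LD1_c9 LD2_c55 LD3_c25) (LK LD1_c18 LD2_c10 LD3_c0) Lrfl Lrfl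
theorem f246955 : Led Lsl_ct (LP (LK LD1_c9 LD2_c51 LD3_c61)) = (LP (LK LD1_c5 LD2_c0 LD3_c50)) :=
  Lre_c IH (LK LD1_c9 LD2_c51 LD3_c61) (LK LD1_c5 LD2_c0 LD3_c50) Lrfl Lrfl
theorem f246956 : Led Lsl_dt (LP (LK LD1_c18 LD2_c3 LD3_c37)) = (LP (LK LD1_c9 LD2_c51 LD3_c61)) :=
  Lre_d IH (LK LD1_c18 LD2_c3 LD3_c37) (LK LD1_c9 LD2_c51 LD3_c61) Lrfl Lrfl
theorem f186876 : Led Lsl_gt (LP (LK LD1_c27 LD2_c45 LD3_c12)) = (LP (LK LD1_c18 LD2_c3 LD3_c37)) :=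
  Lre_g IH (LK LD1_c27 LD2_c45 LD3_c12) (LK LD1_c18 LD2_c3 LD3_c37) Lrfl Lrfl
theorem f302805 : Led Lsl_ct (LP (LK LD1_c2 LD2_c30 LD3_c29)) = (LP (LK LD1_c5 LD2_c6 LD3_c21)) :=
  Lre_c IH (LK LD1_c2 LD2_c30 LD3_c29) (LK LD1_c5 LD2_c6 LD3_c21) Lrfl Lrfl
theorem f304324 : Led Lsl_at (LP (LK LD1_c5 LD2_c6 LD3_c21)) = (LP (LK LD1_c5 LD2_c13 LD3_c21)) :=
  Lgr Lrot107 (Lpe (f302805 IH) (Lpr_af (K18.f304320 IH) (Lpe (K18.f288627 IH) (Lpn (LP (LK LD1_c5 LD2_c13 LD3_c21))))))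
theorem f304326 : Led Lsl_af (LP (LK LD1_c5 LD2_c6 LD3_c21)) = (LP (LK LD1_c5 LD2_c13 LD3_c21)) :=
  Lgr Lrot0 (Lpr_at (f304324 IH) (Lpn (LP (LK LD1_c5 LD2_c13 LD3_c21))))
theorem f304331 : Led Lsl_ft (LP (LK LD1_c5 LD2_c6 LD3_c21)) = (LP (LK LD1_c2 LD2_c30 LD3_c26)) :=
  Lre_f IH (LK LD1_c5 LD2_c6 LD3_c21) (LK LD1_c2 LD2_c30 LD3_c26) Lrfl Lrfl
theorem f302187 : Led Lsl_ft (LP (LK LD1_c2 LD2_c33 LD3_c30)) = (LP (LK LD1_c5 LD2_c13 LD3_c21)) :=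
  Lre_f IH (LK LD1_c2 LD2_c33 LD3_c30) (LK LD1_c5 LD2_c13 LD3_c21) Lrfl Lrfl
theorem f304332 : Led Lsl_at (LP (LK LD1_c2 LD2_c30 LD3_c26)) = (LP (LK LD1_c2 LD2_c33 LD3_c30)) :=
  Lgr Lrot66 (Lpe (f304331 IH) (Lpr_af (f304326 IH) (Lpe (f302187 IH) (Lpn (LP (LK LD1_c2 LD2_c33 LD3_c30))))))
theorem f186798 : Led Lsl_bt (LP (LK LD1_c0 LD2_c33 LD3_c61)) = (LP (LK LD1_c1 LD2_c13 LD3_c21)) :=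
  Lre_b IH (LK LD1_c0 LD2_c33 LD3_c61) (LK LD1_c1 LD2_c13 LD3_c21) Lrfl Lrfl
theorem f240361 : Led Lsl_gt (LP (LK LD1_c2 LD2_c31 LD3_c61)) = (LP (LK LD1_c1 LD2_c13 LD3_c24)) :=
  Lgr Lrot65 (Lpe (K13.f165485 IH) (Lpr_bt (K13.f240284 IH) (Lpr_gf (K13.f240248 IH) (Lpe (K13.f190324 IH) (Lpr_ct (K13.f190307 IH) (Lpr_gf (K13.f190317 IH) (Lpe (K13.f190316 IH) (Lpe (K13.f190315 IH) (Lpe (f186798 IH) (Lpr_ct (K10.f185013 IH) (Lpn (LP (LK LD1_c1 LD2_c13 LD3_c24)))))))))))))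
theorem f185581 : Led Lsl_ct (LP (LK LD1_c1 LD2_c13 LD3_c24)) = (LP (LK LD1_c0 LD2_c33 LD3_c61)) :=
  Lre_c IH (LK LD1_c1 LD2_c13 LD3_c24) (LK LD1_c0 LD2_c33 LD3_c61) Lrfl Lrfl
theorem f71543 : Led Lsl_cf (LP (LK LD1_c1 LD2_c23 LD3_c0)) = (LP (LK LD1_c1 LD2_c15 LD3_c0)) :=
  Lgr Lrot108 (Lpr_ft (K10.f71542 IH) (Lpr_ct (K8.f71517 IH) (Lpr_ft (K2.f71534 IH) (Lpn (LP (LK LD1_c1 LD2_c15 LD3_c0))))))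
theorem f194033 : Led Lsl_cf (LP (LK LD1_c5 LD2_c2 LD3_c29)) = (LP (LK LD1_c2 LD2_c30 LD3_c43)) :=
  Lgr Lrot14 (Lpe (K12.f165627 IH) (Lpe (K12.f165626 IH) (Lpe (K8.f165604 IH) (Lpr_gf (K8.f165605 IH) (Lpe (f71543 IH) (Lpr_gt (K10.f185158 IH) (Lpr_dt (K10.f20498 IH) (Lpe (K10.f193990 IH) (Lpr_dt (K10.f194019 IH) (Lpn (LP (LK LD1_c2 LD2_c30 LD3_c43))))))))))))
theorem f240455 : Led Lsl_dt (LP (LK LD1_c2 LD2_c31 LD3_c61)) = (LP (LK LD1_c5 LD2_c4 LD3_c7)) :=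
  Lgr Lrot6 (Lpr_gt (f240361 IH) (Lpr_ct (f185581 IH) (Lpr_gt (K12.f185578 IH) (Lpe (K12.f212104 IH) (Lpe (K12.f165630 IH) (Lpr_cf (f194033 IH) (Lpe (K10.f166373 IH) (Lpe (K10.f169768 IH) (Lpr_gf (K10.f194053 IH) (Lpn (LP (LK LD1_c5 LD2_c4 LD3_c7))))))))))))
theorem f185267 : Led Lsl_et (LP (LK LD1_c1 LD2_c13 LD3_c41)) = (LP (LK LD1_c2 LD2_c33 LD3_c30)) :=
  Lre_e IH (LK LD1_c1 LD2_c13 LD3_c41) (LK LD1_c2 LD2_c33 LD3_c30) Lrfl Lrfl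
theorem f240470 : Led Lsl_gt (LP (LK LD1_c4 LD2_c55 LD3_c61)) = (LP (LK LD1_c2 LD2_c33 LD3_c30)) :=
  Lgr Lrot131 (Lpr_ef (f181893 IH) (Lpr_dt (f240455 IH) (Lpe (K10.f21398 IH) (Lpe (K10.f21397 IH) (Lpe (K9.f21393 IH) (Lpe (K0.f21371 IH) (Lpr_dt (K8.f21387 IH) (Lpe (K10.f21392 IH) (Lpr_df (K10.f185264 IH) (Lpr_et (f185267 IH) (Lpn (LP (LK LD1_c2 LD2_c33 LD3_c30)))))))))))))
theorem f304340 : Led Lsl_gt (LP (LK LD1_c5 LD2_c6 LD3_c21)) = (LP (LK LD1_c4 LD2_c55 LD3_c61)) :=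
  Lgr Lrot5 (Lpr_ft (f304331 IH) (Lpr_at (f304332 IH) (Lpe (f240470 IH) (Lpn (LP (LK LD1_c4 LD2_c55 LD3_c61))))))
theorem f300677 : Led Lsl_bt (LP (LK LD1_c2 LD2_c30 LD3_c29)) = (LP (LK LD1_c5 LD2_c6 LD3_c15)) :=
  Lre_b IH (LK LD1_c2 LD2_c30 LD3_c29) (LK LD1_c5 LD2_c6 LD3_c15) Lrfl Lrfl
theorem f269305 : Led Lsl_bt (LP (LK LD1_c8 LD2_c8 LD3_c15)) = (LP (LK LD1_c4 LD2_c3 LD3_c60)) :=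
  Lre_b IH (LK LD1_c8 LD2_c8 LD3_c15) (LK LD1_c4 LD2_c3 LD3_c60) Lrfl Lrfl
theorem f293796 : Led Lsl_bf (LP (LK LD1_c5 LD2_c19 LD3_c51)) = (LP (LK LD1_c8 LD2_c8 LD3_c32)) :=
  Lgr Lrot93 (Lpr_dt (K18.f293793 IH) (Lpr_bt (f269305 IH) (Lpr_dt (K16.f247922 IH) (Lpn (LP (LK LD1_c8 LD2_c8 LD3_c32))))))
theorem f247917 : Led Lsl_ct (LP (LK LD1_c8 LD2_c8 LD3_c32)) = (LP (LK LD1_c15 LD2_c19 LD3_c53)) :=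
  Lre_c IH (LK LD1_c8 LD2_c8 LD3_c32) (LK LD1_c15 LD2_c19 LD3_c53) Lrfl Lrfl
theorem f168751 : Led Lsl_ct (LP (LK LD1_c2 LD2_c25 LD3_c47)) = (LP (LK LD1_c4 LD2_c55 LD3_c61)) :=
  Lre_c IH (LK LD1_c2 LD2_c25 LD3_c47) (LK LD1_c4 LD2_c55 LD3_c61) Lrfl Lrfl
theorem f274761 : Led Lsl_ct (LP (LK LD1_c5 LD2_c0 LD3_c48)) = (LP (LK LD1_c9 LD2_c51 LD3_c58)) :=
  Lre_c IH (LK LD1_c5 LD2_c0 LD3_c48) (LK LD1_c9 LD2_c51 LD3_c58) Lrfl Lrfl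
theorem f304344 : Led Lsl_gf (LP (LK LD1_c15 LD2_c19 LD3_c53)) = (LP (LK LD1_c9 LD2_c51 LD3_c58)) :=
  Lgr Lrot129 (Lpe (f247917 IH) (Lpe (f293796 IH) (Lpr_gt (f302798 IH) (Lpe (f300677 IH) (Lpr_ct (f302805 IH) (Lpr_gt (f304340 IH) (Lpe (f168751 IH) (Lpr_bt (K13.f181887 IH) (Lpe (K16.f274754 IH) (Lpr_ct (f274761 IH) (Lpn (LP (LK LD1_c9 LD2_c51 LD3_c58)))))))))))))
theorem f240152 : Led Lsl_ft (LP (LK LD1_c10 LD2_c7 LD3_c37)) = (LP (LK LD1_c18 LD2_c26 LD3_c51)) :=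
  Lre_f IH (LK LD1_c10 LD2_c7 LD3_c37) (LK LD1_c18 LD2_c26 LD3_c51) Lrfl Lrfl
theorem f237012 : Led Lsl_et (LP (LK LD1_c8 LD2_c8 LD3_c31)) = (LP (LK LD1_c8 LD2_c3 LD3_c8)) :=
  Lgr Lrot158 (Lpe (K18.f237011 IH) (Lpr_ef (K15.f237008 IH) (Lpe (K13.f182004 IH) (Lpn (LP (LK LD1_c8 LD2_c3 LD3_c8))))))
theorem f269217 : Led Lsl_et (LP (LK LD1_c18 LD2_c26 LD3_c51)) = (LP (LK LD1_c15 LD2_c19 LD3_c53)) :=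
  Lgr Lrot69 (Lpe (f240152 IH) (Lpe (K18.f240149 IH) (Lpr_ff (K16.f269207 IH) (Lpe (f237012 IH) (Lpe (K18.f237056 IH) (Lpn (LP (LK LD1_c15 LD2_c19 LD3_c53))))))))
theorem f186878 : Led Lsl_et (LP (LK LD1_c5 LD2_c0 LD3_c47)) = (LP (LK LD1_c9 LD2_c51 LD3_c58)) :=
  Lre_e IH (LK LD1_c5 LD2_c0 LD3_c47) (LK LD1_c9 LD2_c51 LD3_c58) Lrfl Lrfl
theorem f186874 : Led Lsl_et (LP (LK LD1_c9 LD2_c51 LD3_c61)) = (LP (LK LD1_c5 LD2_c0 LD3_c49)) :=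
  Lre_e IH (LK LD1_c9 LD2_c51 LD3_c61) (LK LD1_c5 LD2_c0 LD3_c49) Lrfl Lrfl
theorem f186875 : Led Lsl_dt (LP (LK LD1_c9 LD2_c51 LD3_c61)) = (LP (LK LD1_c18 LD2_c3 LD3_c37)) :=
  Lre_d IH (LK LD1_c9 LD2_c51 LD3_c61) (LK LD1_c18 LD2_c3 LD3_c37) Lrfl Lrfl
theorem f304350 : Led Lsl_dt (LP (LK LD1_c18 LD2_c26 LD3_c51)) = (LP (LK LD1_c27 LD2_c45 LD3_c12)) :=
  Lgr Lrot136 (Lpr_et (f269217 IH) (Lpr_gf (f304344 IH) (Lpe (f186878 IH) (Lpr_dt (K15.f186877 IH) (Lpr_gf (K14.f186868 IH) (Lpe (K9.f46542 IH) (Lpe (K12.f186859 IH) (Lpe (f186874 IH) (Lpr_dt (f186875 IH) (Lpe (f186876 IH) (Lpn (LP (LK LD1_c27 LD2_c45 LD3_c12)))))))))))))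
theorem f314204 : Led Lsl_gt (LP (LK LD1_c18 LD2_c10 LD3_c0)) = (LP (LK LD1_c18 LD2_c26 LD3_c51)) :=
  Lgr Lrot94 (Lpe (f177611 IH) (Lpe (K19.f314193 IH) (Lpr_dt (K19.f314195 IH) (Lpr_gt (K19.f246953 IH) (Lpr_dt (K16.f246940 IH) (Lpe (f246955 IH) (Lpe (f246956 IH) (Lpe (f186876 IH) (Lpe (f304350 IH) (Lpn (LP (LK LD1_c18 LD2_c26 LD3_c51))))))))))))
theorem f316664 : Led Lsl_cf (LP (LK LD1_c8 LD2_c38 LD3_c52)) = (LP (LK LD1_c11 LD2_c3 LD3_c21)) :=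
  Lgr Lrot11 (Lpr_ct (f316633 IH) (Lpn (LP (LK LD1_c11 LD2_c3 LD3_c21))))
theorem f320633 : Led Lsl_gf (LP (LK LD1_c11 LD2_c3 LD3_c21)) = (LP (LK LD1_c10 LD2_c15 LD3_c56)) :=
  Lgr Lrot104 (Lpe (f316664 IH) (Lpr_df (K17.f265350 IH) (Lpr_cf (K18.f240208 IH) (Lpe (f314204 IH) (Lpe (f177611 IH) (Lpe (K13.f169621 IH) (Lpr_df (K13.f177556 IH) (Lpr_gt (f177606 IH) (Lpr_ct (f320622 IH) (Lpn (LP (LK LD1_c10 LD2_c15 LD3_c56))))))))))))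
theorem f246993 : Led Lsl_af (LP (LK LD1_c5 LD2_c35 LD3_c37)) = (LP (LK LD1_c6 LD2_c7 LD3_c15)) :=
  Lgr Lrot0 (Lpr_at (f246984 IH) (Lpn (LP (LK LD1_c6 LD2_c7 LD3_c15))))
theorem f317269 : Led Lsl_ff (LP (LK LD1_c6 LD2_c7 LD3_c15)) = (LP (LK LD1_c4 LD2_c31 LD3_c19)) :=
  Lgr Lrot52 (Lpe (f246993 IH) (Lpr_gf (f317267 IH) (Lpe (K19.f311551 IH) (Lpn (LP (LK LD1_c4 LD2_c31 LD3_c19))))))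
theorem f320631 : Led Lsl_ff (LP (LK LD1_c9 LD2_c0 LD3_c34)) = (LP (LK LD1_c10 LD2_c15 LD3_c56)) :=
  Lgr Lrot23 (Lpr_ct (K13.f234262 IH) (Lpe (f317269 IH) (Lpr_ct (f320622 IH) (Lpn (LP (LK LD1_c10 LD2_c15 LD3_c56))))))
theorem f320650 : Led Lsl_af (LP (LK LD1_c5 LD2_c35 LD3_c35)) = (LP (LK LD1_c9 LD2_c0 LD3_c34)) :=
  Lgr Lrot31 (Lpe (f246958 IH) (Lpr_gf (f320633 IH) (Lpe (f320631 IH) (Lpn (LP (LK LD1_c9 LD2_c0 LD3_c34))))))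
theorem f199524 : Led Lsl_et (LP (LK LD1_c5 LD2_c35 LD3_c35)) = (LP (LK LD1_c2 LD2_c43 LD3_c43)) :=
  Lre_e IH (LK LD1_c5 LD2_c35 LD3_c35) (LK LD1_c2 LD2_c43 LD3_c43) Lrfl Lrfl
theorem f316728 : Led Lsl_et (LP (LK LD1_c4 LD2_c31 LD3_c18)) = (LP (LK LD1_c9 LD2_c0 LD3_c34)) :=
  Lre_e IH (LK LD1_c4 LD2_c31 LD3_c18) (LK LD1_c9 LD2_c0 LD3_c34) Lrfl Lrfl
theorem f320660 : Led Lsl_at (LP (LK LD1_c2 LD2_c43 LD3_c43)) = (LP (LK LD1_c4 LD2_c31 LD3_c18)) :=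
  Lgr Lrot80 (Lpe (f199524 IH) (Lpr_af (f320650 IH) (Lpe (f316728 IH) (Lpn (LP (LK LD1_c4 LD2_c31 LD3_c18))))))
theorem f317062 : Led Lsl_ft (LP (LK LD1_c4 LD2_c31 LD3_c21)) = (LP (LK LD1_c2 LD2_c43 LD3_c43)) :=
  Lgr Lrot4 (Lpe (K19.f212541 IH) (Lpr_ff (f317056 IH) (Lpe (K12.f199487 IH) (Lpn (LP (LK LD1_c2 LD2_c43 LD3_c43))))))
theorem f311604 : Led Lsl_cf (LP (LK LD1_c4 LD2_c2 LD3_c61)) = (LP (LK LD1_c2 LD2_c23 LD3_c36)) :=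
  Lgr Lrot39 (Lpe (K19.f274680 IH) (Lpr_ct (K17.f259081 IH) (Lpr_et (K19.f311595 IH) (Lpn (LP (LK LD1_c2 LD2_c23 LD3_c36))))))
theorem f184418 : Led Lsl_ft (LP (LK LD1_c2 LD2_c8 LD3_c11)) = (LP (LK LD1_c4 LD2_c21 LD3_c22)) :=
  Lre_f IH (LK LD1_c2 LD2_c8 LD3_c11) (LK LD1_c4 LD2_c21 LD3_c22) Lrfl Lrfl
theorem f293393 : Led Lsl_at (LP (LK LD1_c4 LD2_c21 LD3_c22)) = (LP (LK LD1_c4 LD2_c2 LD3_c61)) :=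
  Lgr Lrot26 (Lpe (f184418 IH) (Lpr_gt (K19.f184415 IH) (Lpr_gt (K19.f293391 IH) (Lpn (LP (LK LD1_c4 LD2_c2 LD3_c61))))))
theorem f293405 : Led Lsl_af (LP (LK LD1_c4 LD2_c21 LD3_c22)) = (LP (LK LD1_c4 LD2_c2 LD3_c61)) :=
  Lgr Lrot0 (Lpr_at (f293393 IH) (Lpn (LP (LK LD1_c4 LD2_c2 LD3_c61))))
theorem f317040 : Led Lsl_cf (LP (LK LD1_c2 LD2_c46 LD3_c27)) = (LP (LK LD1_c4 LD2_c21 LD3_c22)) :=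
  Lgr Lrot1 (Lpr_at (f317038 IH) (Lpe (f311604 IH) (Lpe (f293405 IH) (Lpn (LP (LK LD1_c4 LD2_c21 LD3_c22))))))
theorem f320668 : Led Lsl_dt (LP (LK LD1_c2 LD2_c38 LD3_c12)) = (LP (LK LD1_c4 LD2_c21 LD3_c22)) :=
  Lgr Lrot140 (Lpr_cf (K19.f303273 IH) (Lpe (f293497 IH) (Lpe (f293424 IH) (Lpe (f238076 IH) (Lpr_ft (f317062 IH) (Lpr_at (f320660 IH) (Lpe (K12.f187035 IH) (Lpr_df (f311588 IH) (Lpr_cf (f317040 IH) (Lpn (LP (LK LD1_c4 LD2_c21 LD3_c22))))))))))))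
theorem f320680 : Led Lsl_gf (LP (LK LD1_c4 LD2_c1 LD3_c0)) = (LP (LK LD1_c4 LD2_c21 LD3_c22)) :=
  Lgr Lrot179 (Lpr_ct (K10.f194411 IH) (Lpr_gt (K19.f251778 IH) (Lpe (K13.f184369 IH) (Lpe (K13.f189134 IH) (Lpe (K13.f178051 IH) (Lpr_gf (K18.f279538 IH) (Lpe (K12.f172028 IH) (Lpe (K18.f303271 IH) (Lpr_dt (f320668 IH) (Lpn (LP (LK LD1_c4 LD2_c21 LD3_c22))))))))))))
theorem f165854 : Led Lsl_et (LP (LK LD1_c2 LD2_c28 LD3_c24)) = (LP (LK LD1_c1 LD2_c11 LD3_c25)) :=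
  Lre_e IH (LK LD1_c2 LD2_c28 LD3_c24) (LK LD1_c1 LD2_c11 LD3_c25) Lrfl Lrfl
theorem f311485 : Led Lsl_df (LP (LK LD1_c2 LD2_c36 LD3_c30)) = (LP (LK LD1_c4 LD2_c51 LD3_c7)) :=
  Lgr Lrot153 (Lpr_gt (K14.f247895 IH) (Lpr_dt (K1.f45849 IH) (Lpr_cf (K1.f45881 IH) (Lpe (K1.f45891 IH) (Lpe (K14.f248072 IH) (Lpe (K17.f274675 IH) (Lpe (K15.f184818 IH) (Lpr_cf (K15.f192197 IH) (Lpr_gt (K19.f311483 IH) (Lpn (LP (LK LD1_c4 LD2_c51 LD3_c7))))))))))))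
theorem f320688 : Led Lsl_et (LP (LK LD1_c4 LD2_c51 LD3_c7)) = (LP (LK LD1_c4 LD2_c21 LD3_c22)) :=
  Lgr Lrot185 (Lpe (f311485 IH) (Lpe (K10.f184756 IH) (Lpe (K12.f45876 IH) (Lpr_gf (K15.f192472 IH) (Lpe (f165854 IH) (Lpr_dt (K17.f192480 IH) (Lpe (K14.f253002 IH) (Lpe (K14.f28176 IH) (Lpr_et (K10.f192512 IH) (Lpr_gf (f320680 IH) (Lpn (LP (LK LD1_c4 LD2_c21 LD3_c22)))))))))))))
theorem f186915 : Led Lsl_et (LP (LK LD1_c1 LD2_c8 LD3_c48)) = (LP (LK LD1_c2 LD2_c23 LD3_c23)) :=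
  Lre_e IH (LK LD1_c1 LD2_c8 LD3_c48) (LK LD1_c2 LD2_c23 LD3_c23) Lrfl Lrfl
theorem f184414 : Led Lsl_ft (LP (LK LD1_c4 LD2_c21 LD3_c22)) = (LP (LK LD1_c2 LD2_c8 LD3_c11)) :=
  Lre_f IH (LK LD1_c4 LD2_c21 LD3_c22) (LK LD1_c2 LD2_c8 LD3_c11) Lrfl Lrfl
theorem f320696 : Led Lsl_ff (LP (LK LD1_c1 LD2_c8 LD3_c48)) = (LP (LK LD1_c1 LD2_c1 LD3_c14)) :=
  Lgr Lrot72 (Lpr_et (f186915 IH) (Lpr_ft (K19.f186894 IH) (Lpr_et (f320688 IH) (Lpr_ft (f184414 IH) (Lpr_et (K13.f184417 IH) (Lpn (LP (LK LD1_c1 LD2_c1 LD3_c14))))))))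
theorem f320704 : Led Lsl_at (LP (LK LD1_c1 LD2_c8 LD3_c48)) = (LP (LK LD1_c0 LD2_c57 LD3_c51)) :=
  Lgr Lrot26 (Lpr_ff (f320696 IH) (Lpr_gt (K13.f29028 IH) (Lpe (K12.f228930 IH) (Lpn (LP (LK LD1_c0 LD2_c57 LD3_c51))))))
theorem f320710 : Led Lsl_af (LP (LK LD1_c2 LD2_c23 LD3_c23)) = (LP (LK LD1_c2 LD2_c1 LD3_c37)) :=
  Lgr Lrot50 (Lpr_et (K10.f186890 IH) (Lpr_at (f320704 IH) (Lpr_et (K12.f167354 IH) (Lpn (LP (LK LD1_c2 LD2_c1 LD3_c37))))))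
theorem f317034 : Led Lsl_at (LP (LK LD1_c4 LD2_c51 LD3_c7)) = (LP (LK LD1_c4 LD2_c3 LD3_c5)) :=
  Lgr Lrot107 (Lpe (K19.f187120 IH) (Lpr_af (f317027 IH) (Lpe (K17.f259081 IH) (Lpn (LP (LK LD1_c4 LD2_c3 LD3_c5))))))
theorem f320718 : Led Lsl_ft (LP (LK LD1_c4 LD2_c3 LD3_c5)) = (LP (LK LD1_c2 LD2_c1 LD3_c37)) :=
  Lgr Lrot101 (Lpe (f317034 IH) (Lpe (K19.f186894 IH) (Lpr_af (f320710 IH) (Lpn (LP (LK LD1_c2 LD2_c1 LD3_c37))))))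
theorem f320724 : Led Lsl_ff (LP (LK LD1_c4 LD2_c3 LD3_c5)) = (LP (LK LD1_c2 LD2_c1 LD3_c37)) :=
  Lgr Lrot3 (Lpr_ft (f320718 IH) (Lpn (LP (LK LD1_c2 LD2_c1 LD3_c37))))
theorem f320731 : Led Lsl_ft (LP (LK LD1_c2 LD2_c34 LD3_c43)) = (LP (LK LD1_c2 LD2_c36 LD3_c31)) :=
  Lgr Lrot54 (Lpe (K17.f274675 IH) (Lpr_ff (f320724 IH) (Lpr_df (K15.f228971 IH) (Lpn (LP (LK LD1_c2 LD2_c36 LD3_c31))))))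
theorem f320737 : Led Lsl_af (LP (LK LD1_c4 LD2_c2 LD3_c34)) = (LP (LK LD1_c2 LD2_c36 LD3_c31)) :=
  Lgr Lrot31 (Lpe (K10.f46540 IH) (Lpe (K14.f248072 IH) (Lpr_ft (f320731 IH) (Lpn (LP (LK LD1_c2 LD2_c36 LD3_c31))))))
theorem f187125 : Led Lsl_bt (LP (LK LD1_c4 LD2_c21 LD3_c9)) = (LP (LK LD1_c4 LD2_c2 LD3_c34)) :=
  Lgr Lrot127 (Lpr_bf (K10.f187113 IH) (Lpn (LP (LK LD1_c4 LD2_c2 LD3_c34))))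
theorem f311463 : Led Lsl_ft (LP (LK LD1_c4 LD2_c2 LD3_c34)) = (LP (LK LD1_c2 LD2_c36 LD3_c30)) :=
  Lgr Lrot75 (Lpe (f187125 IH) (Lpr_ff (K19.f311461 IH) (Lpr_bf (K10.f190448 IH) (Lpn (LP (LK LD1_c2 LD2_c36 LD3_c30))))))
theorem f320745 : Led Lsl_at (LP (LK LD1_c2 LD2_c36 LD3_c30)) = (LP (LK LD1_c2 LD2_c34 LD3_c43)) :=
  Lgr Lrot66 (Lpe (f311463 IH) (Lpr_af (f320737 IH) (Lpe (f320731 IH) (Lpn (LP (LK LD1_c2 LD2_c34 LD3_c43))))))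
theorem f320753 : Led Lsl_af (LP (LK LD1_c5 LD2_c19 LD3_c43)) = (LP (LK LD1_c5 LD2_c15 LD3_c44)) :=
  Lgr Lrot50 (Lpr_et (K14.f190459 IH) (Lpr_at (f320745 IH) (Lpr_et (K19.f180947 IH) (Lpn (LP (LK LD1_c5 LD2_c15 LD3_c44))))))
theorem f171674 : Led Lsl_gt (LP (LK LD1_c5 LD2_c12 LD3_c48)) = (LP (LK LD1_c2 LD2_c33 LD3_c14)) :=
  Lre_g IH (LK LD1_c5 LD2_c12 LD3_c48) (LK LD1_c2 LD2_c33 LD3_c14) Lrfl Lrfl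
theorem f242315 : Led Lsl_dt (LP (LK LD1_c5 LD2_c19 LD3_c43)) = (LP (LK LD1_c5 LD2_c12 LD3_c48)) :=
  Lgr Lrot136 (Lpr_et (K14.f190459 IH) (Lpe (K10.f184756 IH) (Lpr_ef (K1.f44914 IH) (Lpr_dt (K1.f46575 IH) (Lpr_gf (K10.f192584 IH) (Lpe (K13.f171525 IH) (Lpr_gf (K13.f242305 IH) (Lpe (K18.f196119 IH) (Lpr_dt (K18.f196120 IH) (Lpe (f171674 IH) (Lpn (LP (LK LD1_c5 LD2_c12 LD3_c48)))))))))))))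
theorem f320761 : Led Lsl_at (LP (LK LD1_c5 LD2_c12 LD3_c48)) = (LP (LK LD1_c8 LD2_c38 LD3_c51)) :=
  Lgr Lrot51 (Lpe (f242315 IH) (Lpr_af (f320753 IH) (Lpr_df (K19.f293357 IH) (Lpn (LP (LK LD1_c8 LD2_c38 LD3_c51))))))
theorem f192338 : Led Lsl_gt (LP (LK LD1_c4 LD2_c20 LD3_c31)) = (LP (LK LD1_c8 LD2_c38 LD3_c50)) :=
  Lre_g IH (LK LD1_c4 LD2_c20 LD3_c31) (LK LD1_c8 LD2_c38 LD3_c50) Lrfl Lrfl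
theorem f293341 : Led Lsl_gf (LP (LK LD1_c5 LD2_c12 LD3_c50)) = (LP (LK LD1_c8 LD2_c38 LD3_c50)) :=
  Lgr Lrot76 (Lpr_af (K18.f293322 IH) (Lpe (K18.f265338 IH) (Lpr_gt (f192338 IH) (Lpn (LP (LK LD1_c8 LD2_c38 LD3_c50))))))
theorem f320767 : Led Lsl_ff (LP (LK LD1_c5 LD2_c12 LD3_c48)) = (LP (LK LD1_c8 LD2_c38 LD3_c50)) :=
  Lgr Lrot52 (Lpr_at (f320761 IH) (Lpe (K19.f293351 IH) (Lpr_gf (f293341 IH) (Lpn (LP (LK LD1_c8 LD2_c38 LD3_c50))))))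
theorem f320771 : Led Lsl_ft (LP (LK LD1_c5 LD2_c12 LD3_c48)) = (LP (LK LD1_c8 LD2_c38 LD3_c50)) :=
  Lgr Lrot48 (Lpr_ff (f320767 IH) (Lpn (LP (LK LD1_c8 LD2_c38 LD3_c50))))
theorem f171686 : Led Lsl_gt (LP (LK LD1_c2 LD2_c33 LD3_c14)) = (LP (LK LD1_c5 LD2_c12 LD3_c47)) :=
  Lre_g IH (LK LD1_c2 LD2_c33 LD3_c14) (LK LD1_c5 LD2_c12 LD3_c47) Lrfl Lrfl
theorem f320778 : Led Lsl_af (LP (LK LD1_c5 LD2_c12 LD3_c47)) = (LP (LK LD1_c8 LD2_c38 LD3_c50)) :=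
  Lgr Lrot31 (Lpe (f171686 IH) (Lpe (f171674 IH) (Lpr_ft (f320771 IH) (Lpn (LP (LK LD1_c8 LD2_c38 LD3_c50))))))
theorem f320763 : Led Lsl_af (LP (LK LD1_c5 LD2_c12 LD3_c48)) = (LP (LK LD1_c8 LD2_c38 LD3_c51)) :=
  Lgr Lrot0 (Lpr_at (f320761 IH) (Lpn (LP (LK LD1_c8 LD2_c38 LD3_c51))))
theorem f320787 : Led Lsl_ft (LP (LK LD1_c5 LD2_c12 LD3_c47)) = (LP (LK LD1_c8 LD2_c38 LD3_c51)) :=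
  Lgr Lrot101 (Lpr_af (f320778 IH) (Lpe (f320771 IH) (Lpr_af (f320763 IH) (Lpn (LP (LK LD1_c8 LD2_c38 LD3_c51))))))
theorem f320793 : Led Lsl_ff (LP (LK LD1_c5 LD2_c12 LD3_c47)) = (LP (LK LD1_c8 LD2_c38 LD3_c51)) :=
  Lgr Lrot3 (Lpr_ft (f320787 IH) (Lpn (LP (LK LD1_c8 LD2_c38 LD3_c51))))
theorem f171688 : Led Lsl_dt (LP (LK LD1_c5 LD2_c12 LD3_c47)) = (LP (LK LD1_c10 LD2_c15 LD3_c60)) :=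
  Lre_d IH (LK LD1_c5 LD2_c12 LD3_c47) (LK LD1_c10 LD2_c15 LD3_c60) Lrfl Lrfl
theorem f320797 : Led Lsl_ft (LP (LK LD1_c10 LD2_c15 LD3_c60)) = (LP (LK LD1_c5 LD2_c15 LD3_c44)) :=
  Lgr Lrot54 (Lpe (f171688 IH) (Lpr_ff (f320793 IH) (Lpe (K19.f293353 IH) (Lpn (LP (LK LD1_c5 LD2_c15 LD3_c44))))))
theorem f228987 : Led Lsl_ft (LP (LK LD1_c5 LD2_c19 LD3_c44)) = (LP (LK LD1_c10 LD2_c29 LD3_c19)) :=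
  Lre_f IH (LK LD1_c5 LD2_c19 LD3_c44) (LK LD1_c10 LD2_c29 LD3_c19) Lrfl Lrfl
theorem f320805 : Led Lsl_ef (LP (LK LD1_c10 LD2_c15 LD3_c60)) = (LP (LK LD1_c10 LD2_c29 LD3_c19)) :=
  Lgr Lrot21 (Lpr_ft (f320797 IH) (Lpr_et (K19.f180760 IH) (Lpr_ft (f320731 IH) (Lpr_et (K12.f228974 IH) (Lpr_ft (f228987 IH) (Lpn (LP (LK LD1_c10 LD2_c29 LD3_c19))))))))
theorem f320807 : Led Lsl_et (LP (LK LD1_c10 LD2_c15 LD3_c60)) = (LP (LK LD1_c10 LD2_c29 LD3_c19)) :=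
  Lgr Lrot87 (Lpr_ef (f320805 IH) (Lpn (LP (LK LD1_c10 LD2_c29 LD3_c19))))
theorem f196121 : Led Lsl_dt (LP (LK LD1_c10 LD2_c15 LD3_c60)) = (LP (LK LD1_c5 LD2_c12 LD3_c47)) :=
  Lre_d IH (LK LD1_c10 LD2_c15 LD3_c60) (LK LD1_c5 LD2_c12 LD3_c47) Lrfl Lrfl
theorem f216746 : Led Lsl_bt (LP (LK LD1_c2 LD2_c8 LD3_c28)) = (LP (LK LD1_c4 LD2_c21 LD3_c55)) :=
  Lre_b IH (LK LD1_c2 LD2_c8 LD3_c28) (LK LD1_c4 LD2_c21 LD3_c55) Lrfl Lrfl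
theorem f216747 : Led Lsl_dt (LP (LK LD1_c4 LD2_c1 LD3_c13)) = (LP (LK LD1_c2 LD2_c8 LD3_c28)) :=
  Lgr Lrot79 (Lpr_bf (K16.f193008 IH) (Lpr_df (K16.f216743 IH) (Lpe (f216746 IH) (Lpn (LP (LK LD1_c2 LD2_c8 LD3_c28))))))
theorem f216783 : Led Lsl_gt (LP (LK LD1_c4 LD2_c21 LD3_c60)) = (LP (LK LD1_c2 LD2_c8 LD3_c28)) :=
  Lre_g IH (LK LD1_c4 LD2_c21 LD3_c60) (LK LD1_c2 LD2_c8 LD3_c28) Lrfl Lrfl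
theorem f216784 : Led Lsl_dt (LP (LK LD1_c8 LD2_c41 LD3_c44)) = (LP (LK LD1_c4 LD2_c21 LD3_c60)) :=
  Lre_d IH (LK LD1_c8 LD2_c41 LD3_c44) (LK LD1_c4 LD2_c21 LD3_c60) Lrfl Lrfl
theorem f246132 : Led Lsl_ef (LP (LK LD1_c8 LD2_c5 LD3_c48)) = (LP (LK LD1_c8 LD2_c41 LD3_c44)) :=
  Lgr Lrot17 (Lpe (K19.f246129 IH) (Lpe (K18.f212302 IH) (Lpe (K13.f246092 IH) (Lpr_gf (K13.f246117 IH) (Lpe (K13.f196109 IH) (Lpe (K13.f196110 IH) (Lpe (K16.f193007 IH) (Lpr_dt (f216747 IH) (Lpe (f216783 IH) (Lpe (f216784 IH) (Lpn (LP (LK LD1_c8 LD2_c41 LD3_c44)))))))))))))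
theorem f246135 : Led Lsl_et (LP (LK LD1_c8 LD2_c5 LD3_c48)) = (LP (LK LD1_c8 LD2_c41 LD3_c44)) :=
  Lgr Lrot87 (Lpr_ef (f246132 IH) (Lpn (LP (LK LD1_c8 LD2_c41 LD3_c44))))
theorem f320813 : Led Lsl_gf (LP (LK LD1_c8 LD2_c41 LD3_c44)) = (LP (LK LD1_c10 LD2_c29 LD3_c19)) :=
  Lgr Lrot141 (Lpe (f246135 IH) (Lpr_dt (K19.f246130 IH) (Lpe (K19.f305614 IH) (Lpe (K19.f305605 IH) (Lpr_et (K19.f305608 IH) (Lpr_gt (K19.f225598 IH) (Lpr_dt (K18.f196120 IH) (Lpr_gt (f171686 IH) (Lpe (f196121 IH) (Lpr_et (f320807 IH) (Lpn (LP (LK LD1_c10 LD2_c29 LD3_c19)))))))))))))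
theorem f305620 : Led Lsl_ef (LP (LK LD1_c8 LD2_c18 LD3_c35)) = (LP (LK LD1_c4 LD2_c21 LD3_c60)) :=
  Lgr Lrot73 (Lpr_dt (K19.f238557 IH) (Lpr_et (K19.f305616 IH) (Lpr_dt (K19.f246137 IH) (Lpr_et (f246135 IH) (Lpr_dt (f216784 IH) (Lpn (LP (LK LD1_c4 LD2_c21 LD3_c60))))))))
theorem f246134 : Led Lsl_dt (LP (LK LD1_c4 LD2_c21 LD3_c60)) = (LP (LK LD1_c8 LD2_c41 LD3_c44)) :=
  Lre_d IH (LK LD1_c4 LD2_c21 LD3_c60) (LK LD1_c8 LD2_c41 LD3_c44) Lrfl Lrfl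
theorem f311305 : Led Lsl_gf (LP (LK LD1_c8 LD2_c5 LD3_c43)) = (LP (LK LD1_c8 LD2_c41 LD3_c44)) :=
  Lgr Lrot145 (Lpe (K14.f186892 IH) (Lpr_et (K14.f186907 IH) (Lpr_gt (K19.f186908 IH) (Lpr_dt (K19.f308869 IH) (Lpr_gt (K19.f311290 IH) (Lpe (K13.f167271 IH) (Lpr_et (K16.f233736 IH) (Lpr_gt (K19.f238554 IH) (Lpr_ef (f305620 IH) (Lpr_dt (f246134 IH) (Lpn (LP (LK LD1_c8 LD2_c41 LD3_c44)))))))))))))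
theorem f320815 : Led Lsl_af (LP (LK LD1_c8 LD2_c5 LD3_c43)) = (LP (LK LD1_c5 LD2_c19 LD3_c44)) :=
  Lgr Lrot31 (Lpr_gf (f311305 IH) (Lpr_gf (f320813 IH) (Lpr_ft (K12.f228984 IH) (Lpn (LP (LK LD1_c5 LD2_c19 LD3_c44))))))
theorem f320821 : Led Lsl_at (LP (LK LD1_c15 LD2_c14 LD3_c32)) = (LP (LK LD1_c10 LD2_c29 LD3_c19)) :=
  Lgr Lrot66 (Lpe (K14.f186902 IH) (Lpr_af (f320815 IH) (Lpe (K12.f228984 IH) (Lpn (LP (LK LD1_c10 LD2_c29 LD3_c19))))))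
theorem f242317 : Led Lsl_df (LP (LK LD1_c5 LD2_c19 LD3_c43)) = (LP (LK LD1_c5 LD2_c12 LD3_c48)) :=
  Lgr Lrot38 (Lpr_dt (f242315 IH) (Lpn (LP (LK LD1_c5 LD2_c12 LD3_c48))))
theorem f320769 : Led Lsl_dt (LP (LK LD1_c10 LD2_c29 LD3_c16)) = (LP (LK LD1_c8 LD2_c38 LD3_c50)) :=
  Lgr Lrot60 (Lpe (K14.f190466 IH) (Lpr_df (f242317 IH) (Lpr_ff (f320767 IH) (Lpn (LP (LK LD1_c8 LD2_c38 LD3_c50))))))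
theorem f320782 : Led Lsl_at (LP (LK LD1_c10 LD2_c15 LD3_c60)) = (LP (LK LD1_c10 LD2_c29 LD3_c16)) :=
  Lgr Lrot51 (Lpe (f171688 IH) (Lpr_af (f320778 IH) (Lpe (f320769 IH) (Lpn (LP (LK LD1_c10 LD2_c29 LD3_c16))))))
theorem f320829 : Led Lsl_ef (LP (LK LD1_c15 LD2_c14 LD3_c32)) = (LP (LK LD1_c10 LD2_c29 LD3_c16)) :=
  Lgr Lrot20 (Lpr_at (f320821 IH) (Lpe (f320805 IH) (Lpr_at (f320782 IH) (Lpn (LP (LK LD1_c10 LD2_c29 LD3_c16))))))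
theorem f320831 : Led Lsl_et (LP (LK LD1_c15 LD2_c14 LD3_c32)) = (LP (LK LD1_c10 LD2_c29 LD3_c16)) :=
  Lgr Lrot87 (Lpr_ef (f320829 IH) (Lpn (LP (LK LD1_c10 LD2_c29 LD3_c16))))
theorem f186896 : Led Lsl_et (LP (LK LD1_c4 LD2_c2 LD3_c34)) = (LP (LK LD1_c8 LD2_c5 LD3_c43)) :=
  Lre_e IH (LK LD1_c4 LD2_c2 LD3_c34) (LK LD1_c8 LD2_c5 LD3_c43) Lrfl Lrfl
theorem f320837 : Led Lsl_ff (LP (LK LD1_c4 LD2_c2 LD3_c34)) = (LP (LK LD1_c2 LD2_c36 LD3_c30)) :=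
  Lgr Lrot72 (Lpr_et (f186896 IH) (Lpr_ft (K14.f186902 IH) (Lpr_et (f320831 IH) (Lpr_ft (K14.f190479 IH) (Lpr_et (K14.f190459 IH) (Lpn (LP (LK LD1_c2 LD2_c36 LD3_c30))))))))
theorem f320839 : Led Lsl_ft (LP (LK LD1_c5 LD2_c0 LD3_c52)) = (LP (LK LD1_c2 LD2_c28 LD3_c34)) :=
  Lgr Lrot4 (Lpe (K10.f192931 IH) (Lpr_ff (f320837 IH) (Lpr_cf (K14.f190537 IH) (Lpn (LP (LK LD1_c2 LD2_c28 LD3_c34))))))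
theorem f320850 : Led Lsl_af (LP (LK LD1_c5 LD2_c0 LD3_c51)) = (LP (LK LD1_c2 LD2_c28 LD3_c34)) :=
  Lgr Lrot31 (Lpe (K10.f33365 IH) (Lpe (K10.f3365 IH) (Lpr_ft (f320839 IH) (Lpn (LP (LK LD1_c2 LD2_c28 LD3_c34))))))
theorem f180761 : Led Lsl_et (LP (LK LD1_c5 LD2_c0 LD3_c51)) = (LP (LK LD1_c9 LD2_c52 LD3_c4)) :=
  Lre_e IH (LK LD1_c5 LD2_c0 LD3_c51) (LK LD1_c9 LD2_c52 LD3_c4) Lrfl Lrfl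
theorem f320857 : Led Lsl_at (LP (LK LD1_c9 LD2_c52 LD3_c4)) = (LP (LK LD1_c5 LD2_c1 LD3_c49)) :=
  Lgr Lrot80 (Lpe (f180761 IH) (Lpr_af (f320850 IH) (Lpe (K14.f3441 IH) (Lpn (LP (LK LD1_c5 LD2_c1 LD3_c49))))))
theorem f180932 : Led Lsl_ft (LP (LK LD1_c18 LD2_c3 LD3_c48)) = (LP (LK LD1_c9 LD2_c52 LD3_c4)) :=
  Lre_f IH (LK LD1_c18 LD2_c3 LD3_c48) (LK LD1_c9 LD2_c52 LD3_c4) Lrfl Lrfl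
theorem f320864 : Led Lsl_af (LP (LK LD1_c18 LD2_c3 LD3_c48)) = (LP (LK LD1_c9 LD2_c54 LD3_c6)) :=
  Lgr Lrot45 (Lpr_ft (f180932 IH) (Lpr_at (f320857 IH) (Lpr_ft (K14.f190530 IH) (Lpn (LP (LK LD1_c9 LD2_c54 LD3_c6))))))
theorem f320868 : Led Lsl_dt (LP (LK LD1_c18 LD2_c3 LD3_c48)) = (LP (LK LD1_c27 LD2_c45 LD3_c26)) :=
  Lre_d IH (LK LD1_c18 LD2_c3 LD3_c48) (LK LD1_c27 LD2_c45 LD3_c26) Lrfl Lrfl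
theorem f190528 : Led Lsl_dt (LP (LK LD1_c18 LD2_c7 LD3_c9)) = (LP (LK LD1_c9 LD2_c54 LD3_c6)) :=
  Lre_d IH (LK LD1_c18 LD2_c7 LD3_c9) (LK LD1_c9 LD2_c54 LD3_c6) Lrfl Lrfl
theorem f320874 : Led Lsl_at (LP (LK LD1_c27 LD2_c45 LD3_c26)) = (LP (LK LD1_c18 LD2_c7 LD3_c9)) :=
  Lgr Lrot51 (Lpe (f320868 IH) (Lpr_af (f320864 IH) (Lpe (f190528 IH) (Lpn (LP (LK LD1_c18 LD2_c7 LD3_c9))))))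
theorem f320876 : Led Lsl_af (LP (LK LD1_c27 LD2_c45 LD3_c26)) = (LP (LK LD1_c18 LD2_c7 LD3_c9)) :=
  Lgr Lrot0 (Lpr_at (f320874 IH) (Lpn (LP (LK LD1_c18 LD2_c7 LD3_c9))))
theorem f190590 : Led Lsl_ft (LP (LK LD1_c9 LD2_c54 LD3_c5)) = (LP (LK LD1_c18 LD2_c7 LD3_c9)) :=
  Lre_f IH (LK LD1_c9 LD2_c54 LD3_c5) (LK LD1_c18 LD2_c7 LD3_c9) Lrfl Lrfl
theorem f320881 : Led Lsl_gf (LP (LK LD1_c27 LD2_c45 LD3_c26)) = (LP (LK LD1_c18 LD2_c7 LD3_c6)) :=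
  Lgr Lrot76 (Lpr_af (f320876 IH) (Lpe (f190590 IH) (Lpr_gt (K19.f21841 IH) (Lpn (LP (LK LD1_c18 LD2_c7 LD3_c6))))))
theorem f320869 : Led Lsl_dt (LP (LK LD1_c27 LD2_c45 LD3_c26)) = (LP (LK LD1_c18 LD2_c3 LD3_c48)) :=
  Lre_d IH (LK LD1_c27 LD2_c45 LD3_c26) (LK LD1_c18 LD2_c3 LD3_c48) Lrfl Lrfl
theorem f180762 : Led Lsl_cf (LP (LK LD1_c5 LD2_c15 LD3_c44)) = (LP (LK LD1_c9 LD2_c52 LD3_c4)) :=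
  Lgr Lrot39 (Lpr_et (K19.f180760 IH) (Lpr_ct (K10.f180748 IH) (Lpr_et (f180761 IH) (Lpn (LP (LK LD1_c9 LD2_c52 LD3_c4))))))
theorem f180929 : Led Lsl_ct (LP (LK LD1_c5 LD2_c15 LD3_c44)) = (LP (LK LD1_c9 LD2_c52 LD3_c4)) :=
  Lgr Lrot59 (Lpr_cf (f180762 IH) (Lpn (LP (LK LD1_c9 LD2_c52 LD3_c4))))
theorem f180949 : Led Lsl_ft (LP (LK LD1_c9 LD2_c52 LD3_c4)) = (LP (LK LD1_c18 LD2_c3 LD3_c48)) :=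
  Lre_f IH (LK LD1_c9 LD2_c52 LD3_c4) (LK LD1_c18 LD2_c3 LD3_c48) Lrfl Lrfl
theorem f320803 : Led Lsl_cf (LP (LK LD1_c10 LD2_c15 LD3_c60)) = (LP (LK LD1_c18 LD2_c3 LD3_c48)) :=
  Lgr Lrot108 (Lpr_ft (f320797 IH) (Lpr_ct (f180929 IH) (Lpr_ft (f180949 IH) (Lpn (LP (LK LD1_c18 LD2_c3 LD3_c48))))))
theorem f33177 : Led Lsl_gt (LP (LK LD1_c18 LD2_c26 LD3_c35)) = (LP (LK LD1_c10 LD2_c7 LD3_c29)) :=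
  Lre_g IH (LK LD1_c18 LD2_c26 LD3_c35) (LK LD1_c10 LD2_c7 LD3_c29) Lrfl Lrfl
theorem f320883 : Led Lsl_ct (LP (LK LD1_c10 LD2_c16 LD3_c1)) = (LP (LK LD1_c18 LD2_c26 LD3_c35)) :=
  Lgr Lrot8 (Lpr_gt (K19.f225598 IH) (Lpr_dt (K18.f196120 IH) (Lpr_gt (f171686 IH) (Lpr_dt (f171688 IH) (Lpr_cf (f320803 IH) (Lpe (f320869 IH) (Lpr_gf (f320881 IH) (Lpe (K19.f311578 IH) (Lpe (f33177 IH) (Lpn (LP (LK LD1_c18 LD2_c26 LD3_c35))))))))))))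
theorem f306092 : Led Lsl_gf (LP (LK LD1_c9 LD2_c56 LD3_c39)) = (LP (LK LD1_c10 LD2_c11 LD3_c8)) :=
  Lgr Lrot76 (Lpe (K18.f294144 IH) (Lpr_ff (K19.f306082 IH) (Lpe (K19.f299764 IH) (Lpn (LP (LK LD1_c10 LD2_c11 LD3_c8))))))
theorem f294212 : Led Lsl_ct (LP (LK LD1_c10 LD2_c20 LD3_c17)) = (LP (LK LD1_c9 LD2_c56 LD3_c39)) :=
  Lgr Lrot111 (Lpr_af (K18.f294167 IH) (Lpe (K19.f294156 IH) (Lpr_af (K18.f294142 IH) (Lpn (LP (LK LD1_c9 LD2_c56 LD3_c39))))))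
theorem f314279 : Led Lsl_gt (LP (LK LD1_c8 LD2_c2 LD3_c58)) = (LP (LK LD1_c5 LD2_c1 LD3_c22)) :=
  Lgr Lrot82 (Lpe (K19.f294210 IH) (Lpr_ct (f294212 IH) (Lpr_gf (f306092 IH) (Lpe (K19.f289938 IH) (Lpr_bt (K19.f289937 IH) (Lpr_gf (K19.f300199 IH) (Lpe (K19.f314277 IH) (Lpr_ct (K19.f247902 IH) (Lpr_gf (K19.f314275 IH) (Lpe (K19.f252695 IH) (Lpn (LP (LK LD1_c5 LD2_c1 LD3_c22)))))))))))))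
theorem f269283 : Led Lsl_at (LP (LK LD1_c15 LD2_c9 LD3_c20)) = (LP (LK LD1_c8 LD2_c8 LD3_c32)) :=
  Lgr Lrot100 (Lpr_af (K16.f269271 IH) (Lpn (LP (LK LD1_c8 LD2_c8 LD3_c32))))
theorem f314281 : Led Lsl_gf (LP (LK LD1_c8 LD2_c8 LD3_c32)) = (LP (LK LD1_c5 LD2_c1 LD3_c22)) :=
  Lgr Lrot76 (Lpe (f269283 IH) (Lpe (K18.f269248 IH) (Lpr_gt (f314279 IH) (Lpn (LP (LK LD1_c5 LD2_c1 LD3_c22))))))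
theorem f192479 : Led Lsl_et (LP (LK LD1_c2 LD2_c28 LD3_c23)) = (LP (LK LD1_c5 LD2_c1 LD3_c22)) :=
  Lre_e IH (LK LD1_c2 LD2_c28 LD3_c23) (LK LD1_c5 LD2_c1 LD3_c22) Lrfl Lrfl
theorem f314311 : Led Lsl_gt (LP (LK LD1_c8 LD2_c38 LD3_c52)) = (LP (LK LD1_c5 LD2_c12 LD3_c48)) :=
  Lgr Lrot112 (Lpr_df (K17.f265350 IH) (Lpe (K17.f293224 IH) (Lpr_gf (f314281 IH) (Lpe (f192479 IH) (Lpr_dt (K15.f3737 IH) (Lpe (K10.f192470 IH) (Lpe (K1.f45849 IH) (Lpe (K14.f247895 IH) (Lpe (K14.f190459 IH) (Lpr_dt (f242315 IH) (Lpn (LP (LK LD1_c5 LD2_c12 LD3_c48)))))))))))))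
theorem f33165 : Led Lsl_ct (LP (LK LD1_c10 LD2_c7 LD3_c29)) = (LP (LK LD1_c5 LD2_c8 LD3_c33)) :=
  Lre_c IH (LK LD1_c10 LD2_c7 LD3_c29) (LK LD1_c5 LD2_c8 LD3_c33) Lrfl Lrfl
theorem f33173 : Led Lsl_ct (LP (LK LD1_c8 LD2_c38 LD3_c38)) = (LP (LK LD1_c4 LD2_c20 LD3_c24)) :=
  Lre_c IH (LK LD1_c8 LD2_c38 LD3_c38) (LK LD1_c4 LD2_c20 LD3_c24) Lrfl Lrfl
theorem f316825 : Led Lsl_et (LP (LK LD1_c4 LD2_c31 LD3_c23)) = (LP (LK LD1_c9 LD2_c0 LD3_c43)) :=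
  Lre_e IH (LK LD1_c4 LD2_c31 LD3_c23) (LK LD1_c9 LD2_c0 LD3_c43) Lrfl Lrfl
theorem f31418 : Led Lsl_et (LP (LK LD1_c2 LD2_c7 LD3_c54)) = (LP (LK LD1_c4 LD2_c20 LD3_c46)) :=
  Lre_e IH (LK LD1_c2 LD2_c7 LD3_c54) (LK LD1_c4 LD2_c20 LD3_c46) Lrfl Lrfl
theorem f241028 : Led Lsl_et (LP (LK LD1_c4 LD2_c20 LD3_c23)) = (LP (LK LD1_c8 LD2_c38 LD3_c38)) :=
  Lre_e IH (LK LD1_c4 LD2_c20 LD3_c23) (LK LD1_c8 LD2_c38 LD3_c38) Lrfl Lrfl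
theorem f316843 : Led Lsl_gt (LP (LK LD1_c9 LD2_c0 LD3_c43)) = (LP (LK LD1_c8 LD2_c38 LD3_c38)) :=
  Lgr Lrot131 (Lpe (f316825 IH) (Lpr_dt (f235349 IH) (Lpr_gf (f316829 IH) (Lpe (K19.f171303 IH) (Lpe (K13.f218141 IH) (Lpe (f31418 IH) (Lpr_dt (K11.f31355 IH) (Lpe (K13.f241018 IH) (Lpe (K13.f239288 IH) (Lpr_et (f241028 IH) (Lpn (LP (LK LD1_c8 LD2_c38 LD3_c38)))))))))))))
theorem f320889 : Led Lsl_ct (LP (LK LD1_c5 LD2_c12 LD3_c48)) = (LP (LK LD1_c9 LD2_c0 LD3_c43)) :=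
  Lgr Lrot152 (Lpe (f314311 IH) (Lpr_df (K17.f265350 IH) (Lpe (K19.f293511 IH) (Lpr_ct (f320883 IH) (Lpr_gt (f33177 IH) (Lpr_ct (f33165 IH) (Lpe (K19.f33166 IH) (Lpe (f33173 IH) (Lpe (f316843 IH) (Lpn (LP (LK LD1_c9 LD2_c0 LD3_c43))))))))))))
theorem f320894 : Led Lsl_cf (LP (LK LD1_c5 LD2_c12 LD3_c48)) = (LP (LK LD1_c9 LD2_c0 LD3_c43)) :=
  Lgr Lrot11 (Lpr_ct (f320889 IH) (Lpn (LP (LK LD1_c9 LD2_c0 LD3_c43))))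
theorem f320904 : Led Lsl_et (LP (LK LD1_c5 LD2_c12 LD3_c48)) = (LP (LK LD1_c2 LD2_c38 LD3_c12)) :=
  Lgr Lrot158 (Lpr_cf (f320894 IH) (Lpe (f316825 IH) (Lpe (f316814 IH) (Lpn (LP (LK LD1_c2 LD2_c38 LD3_c12))))))
theorem f190470 : Led Lsl_gt (LP (LK LD1_c5 LD2_c19 LD3_c43)) = (LP (LK LD1_c10 LD2_c29 LD3_c15)) :=
  Lre_g IH (LK LD1_c5 LD2_c19 LD3_c43) (LK LD1_c10 LD2_c29 LD3_c15) Lrfl Lrfl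
theorem f242322 : Led Lsl_dt (LP (LK LD1_c19 LD2_c0 LD3_c35)) = (LP (LK LD1_c10 LD2_c29 LD3_c15)) :=
  Lre_d IH (LK LD1_c19 LD2_c0 LD3_c35) (LK LD1_c10 LD2_c29 LD3_c15) Lrfl Lrfl
theorem f235731 : Led Lsl_gt (LP (LK LD1_c10 LD2_c37 LD3_c33)) = (LP (LK LD1_c5 LD2_c23 LD3_c31)) :=
  Lre_g IH (LK LD1_c10 LD2_c37 LD3_c33) (LK LD1_c5 LD2_c23 LD3_c31) Lrfl Lrfl
theorem f229729 : Led Lsl_gt (LP (LK LD1_c7 LD2_c55 LD3_c49)) = (LP (LK LD1_c3 LD2_c57 LD3_c4)) :=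
  Lre_g IH (LK LD1_c7 LD2_c55 LD3_c49) (LK LD1_c3 LD2_c57 LD3_c4) Lrfl Lrfl
theorem f269820 : Led Lsl_gt (LP (LK LD1_c4 LD2_c21 LD3_c61)) = (LP (LK LD1_c7 LD2_c55 LD3_c49)) :=
  Lgr Lrot5 (Lpr_ft (K16.f216768 IH) (Lpr_at (K16.f269810 IH) (Lpe (f229729 IH) (Lpn (LP (LK LD1_c7 LD2_c55 LD3_c49))))))
theorem f228981 : Led Lsl_dt (LP (LK LD1_c4 LD2_c8 LD3_c30)) = (LP (LK LD1_c5 LD2_c19 LD3_c44)) :=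
  Lgr Lrot42 (Lpr_df (K12.f228975 IH) (Lpn (LP (LK LD1_c5 LD2_c19 LD3_c44))))
theorem f228989 : Led Lsl_gt (LP (LK LD1_c10 LD2_c29 LD3_c18)) = (LP (LK LD1_c5 LD2_c19 LD3_c44)) :=
  Lre_g IH (LK LD1_c10 LD2_c29 LD3_c18) (LK LD1_c5 LD2_c19 LD3_c44) Lrfl Lrfl
theorem f275867 : Led Lsl_dt (LP (LK LD1_c7 LD2_c55 LD3_c49)) = (LP (LK LD1_c10 LD2_c29 LD3_c18)) :=
  Lgr Lrot171 (Lpe (f269820 IH) (Lpr_ef (K16.f269876 IH) (Lpr_dt (K16.f275727 IH) (Lpe (K16.f234100 IH) (Lpe (K14.f235603 IH) (Lpr_et (K14.f235602 IH) (Lpe (K19.f235593 IH) (Lpe (K12.f228973 IH) (Lpr_dt (f228981 IH) (Lpe (f228989 IH) (Lpn (LP (LK LD1_c10 LD2_c29 LD3_c18)))))))))))))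
theorem f275869 : Led Lsl_df (LP (LK LD1_c7 LD2_c55 LD3_c49)) = (LP (LK LD1_c10 LD2_c29 LD3_c18)) :=
  Lgr Lrot38 (Lpr_dt (f275867 IH) (Lpn (LP (LK LD1_c10 LD2_c29 LD3_c18))))
theorem f229723 : Led Lsl_dt (LP (LK LD1_c4 LD2_c1 LD3_c61)) = (LP (LK LD1_c3 LD2_c57 LD3_c4)) :=
  Lgr Lrot42 (Lpr_df (K15.f229717 IH) (Lpn (LP (LK LD1_c3 LD2_c57 LD3_c4))))
theorem f243007 : Led Lsl_dt (LP (LK LD1_c4 LD2_c1 LD3_c58)) = (LP (LK LD1_c2 LD2_c7 LD3_c44)) :=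
  Lgr Lrot27 (Lpr_cf (K13.f240166 IH) (Lpe (K13.f33191 IH) (Lpe (K13.f33193 IH) (Lpe (K13.f33265 IH) (Lpe (K13.f240300 IH) (Lpe (K12.f193261 IH) (Lpr_ct (K13.f173224 IH) (Lpr_gt (K13.f242789 IH) (Lpr_ct (K13.f164142 IH) (Lpn (LP (LK LD1_c2 LD2_c7 LD3_c44))))))))))))
theorem f260212 : Led Lsl_gt (LP (LK LD1_c2 LD2_c7 LD3_c44)) = (LP (LK LD1_c3 LD2_c56 LD3_c61)) :=
  Lgr Lrot9 (Lpe (f243007 IH) (Lpr_gt (K13.f240170 IH) (Lpr_ct (K11.f184680 IH) (Lpe (K13.f240447 IH) (Lpr_ct (K12.f184652 IH) (Lpe (K12.f229234 IH) (Lpe (K11.f182369 IH) (Lpr_gf (K15.f260208 IH) (Lpe (K15.f242239 IH) (Lpn (LP (LK LD1_c3 LD2_c56 LD3_c61))))))))))))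
theorem f259107 : Led Lsl_gt (LP (LK LD1_c4 LD2_c2 LD3_c27)) = (LP (LK LD1_c8 LD2_c5 LD3_c26)) :=
  Lre_g IH (LK LD1_c4 LD2_c2 LD3_c27) (LK LD1_c8 LD2_c5 LD3_c26) Lrfl Lrfl
theorem f275876 : Led Lsl_ef (LP (LK LD1_c8 LD2_c5 LD3_c26)) = (LP (LK LD1_c10 LD2_c29 LD3_c18)) :=
  Lgr Lrot17 (Lpe (f259107 IH) (Lpe (K19.f259102 IH) (Lpe (K15.f260166 IH) (Lpe (f260212 IH) (Lpe (f243007 IH) (Lpe (K13.f193633 IH) (Lpe (K15.f229148 IH) (Lpr_dt (f229723 IH) (Lpe (f229729 IH) (Lpr_df (f275869 IH) (Lpn (LP (LK LD1_c10 LD2_c29 LD3_c18)))))))))))))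
theorem f275881 : Led Lsl_et (LP (LK LD1_c8 LD2_c5 LD3_c26)) = (LP (LK LD1_c10 LD2_c29 LD3_c18)) :=
  Lgr Lrot87 (Lpr_ef (f275876 IH) (Lpn (LP (LK LD1_c10 LD2_c29 LD3_c18))))
theorem f259117 : Led Lsl_dt (LP (LK LD1_c15 LD2_c14 LD3_c9)) = (LP (LK LD1_c8 LD2_c5 LD3_c26)) :=
  Lre_d IH (LK LD1_c15 LD2_c14 LD3_c9) (LK LD1_c8 LD2_c5 LD3_c26) Lrfl Lrfl
theorem f227962 : Led Lsl_gt (LP (LK LD1_c8 LD2_c36 LD3_c57)) = (LP (LK LD1_c4 LD2_c19 LD3_c15)) :=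
  Lre_g IH (LK LD1_c8 LD2_c36 LD3_c57) (LK LD1_c4 LD2_c19 LD3_c15) Lrfl Lrfl
theorem f211311 : Led Lsl_gt (LP (LK LD1_c1 LD2_c58 LD3_c61)) = (LP (LK LD1_c4 LD2_c4 LD3_c4)) :=
  Lre_g IH (LK LD1_c1 LD2_c58 LD3_c61) (LK LD1_c4 LD2_c4 LD3_c4) Lrfl Lrfl
theorem f243964 : Led Lsl_et (LP (LK LD1_c8 LD2_c8 LD3_c50)) = (LP (LK LD1_c4 LD2_c4 LD3_c4)) :=
  Lre_e IH (LK LD1_c8 LD2_c8 LD3_c50) (LK LD1_c4 LD2_c4 LD3_c4) Lrfl Lrfl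
theorem f243965 : Led Lsl_df (LP (LK LD1_c8 LD2_c36 LD3_c57)) = (LP (LK LD1_c8 LD2_c8 LD3_c50)) :=
  Lgr Lrot170 (Lpr_gt (f227962 IH) (Lpe (K13.f228069 IH) (Lpr_et (K13.f228068 IH) (Lpr_gt (K13.f200712 IH) (Lpr_dt (K15.f243956 IH) (Lpe (K12.f201070 IH) (Lpe (K11.f201300 IH) (Lpr_et (K18.f211287 IH) (Lpr_gt (f211311 IH) (Lpe (f243964 IH) (Lpn (LP (LK LD1_c8 LD2_c8 LD3_c50)))))))))))))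
theorem f243972 : Led Lsl_gt (LP (LK LD1_c15 LD2_c20 LD3_c26)) = (LP (LK LD1_c8 LD2_c8 LD3_c50)) :=
  Lre_g IH (LK LD1_c15 LD2_c20 LD3_c26) (LK LD1_c8 LD2_c8 LD3_c50) Lrfl Lrfl
theorem f259118 : Led Lsl_ef (LP (LK LD1_c15 LD2_c20 LD3_c26)) = (LP (LK LD1_c15 LD2_c14 LD3_c9)) :=
  Lgr Lrot167 (Lpr_gt (f243972 IH) (Lpe (f243965 IH) (Lpr_gt (f227962 IH) (Lpe (K13.f228069 IH) (Lpr_et (K13.f228068 IH) (Lpr_gt (K13.f200712 IH) (Lpe (K15.f243930 IH) (Lpr_dt (K15.f259100 IH) (Lpr_gt (f259107 IH) (Lpe (f259117 IH) (Lpn (LP (LK LD1_c15 LD2_c14 LD3_c9)))))))))))))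
theorem f259120 : Led Lsl_et (LP (LK LD1_c15 LD2_c20 LD3_c26)) = (LP (LK LD1_c15 LD2_c14 LD3_c9)) :=
  Lgr Lrot87 (Lpr_ef (f259118 IH) (Lpn (LP (LK LD1_c15 LD2_c14 LD3_c9))))
theorem f235596 : Led Lsl_dt (LP (LK LD1_c2 LD2_c38 LD3_c17)) = (LP (LK LD1_c1 LD2_c16 LD3_c5)) :=
  Lre_d IH (LK LD1_c2 LD2_c38 LD3_c17) (LK LD1_c1 LD2_c16 LD3_c5) Lrfl Lrfl
theorem f186954 : Led Lsl_gt (LP (LK LD1_c7 LD2_c55 LD3_c25)) = (LP (LK LD1_c14 LD2_c56 LD3_c57)) :=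
  Lre_g IH (LK LD1_c7 LD2_c55 LD3_c25) (LK LD1_c14 LD2_c56 LD3_c57) Lrfl Lrfl
theorem f275871 : Led Lsl_et (LP (LK LD1_c7 LD2_c55 LD3_c49)) = (LP (LK LD1_c14 LD2_c56 LD3_c57)) :=
  Lgr Lrot122 (Lpr_dt (f275867 IH) (Lpr_gt (f228989 IH) (Lpe (f228981 IH) (Lpr_et (K12.f228973 IH) (Lpr_gt (K19.f235593 IH) (Lpr_dt (f235596 IH) (Lpr_gt (K13.f235597 IH) (Lpr_df (K13.f235690 IH) (Lpr_et (K17.f186958 IH) (Lpr_gt (f186954 IH) (Lpn (LP (LK LD1_c14 LD2_c56 LD3_c57)))))))))))))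
theorem f275884 : Led Lsl_df (LP (LK LD1_c15 LD2_c20 LD3_c26)) = (LP (LK LD1_c14 LD2_c56 LD3_c57)) :=
  Lgr Lrot70 (Lpr_et (f259120 IH) (Lpr_dt (f259117 IH) (Lpr_et (f275881 IH) (Lpe (f275869 IH) (Lpr_et (f275871 IH) (Lpn (LP (LK LD1_c14 LD2_c56 LD3_c57))))))))
theorem f243968 : Led Lsl_dt (LP (LK LD1_c8 LD2_c36 LD3_c57)) = (LP (LK LD1_c8 LD2_c8 LD3_c50)) :=
  Lgr Lrot42 (Lpr_df (f243965 IH) (Lpn (LP (LK LD1_c8 LD2_c8 LD3_c50))))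
theorem f275886 : Led Lsl_et (LP (LK LD1_c8 LD2_c36 LD3_c57)) = (LP (LK LD1_c10 LD2_c37 LD3_c33)) :=
  Lgr Lrot185 (Lpr_dt (f243968 IH) (Lpe (f243972 IH) (Lpr_df (f275884 IH) (Lpe (f186954 IH) (Lpe (K17.f186958 IH) (Lpe (K13.f235690 IH) (Lpe (K13.f235597 IH) (Lpe (f235596 IH) (Lpr_et (K16.f235730 IH) (Lpe (f235731 IH) (Lpn (LP (LK LD1_c10 LD2_c37 LD3_c33)))))))))))))
theorem f275892 : Led Lsl_ef (LP (LK LD1_c8 LD2_c36 LD3_c57)) = (LP (LK LD1_c10 LD2_c37 LD3_c33)) :=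
  Lgr Lrot88 (Lpr_et (f275886 IH) (Lpn (LP (LK LD1_c10 LD2_c37 LD3_c33))))
theorem f211312 : Led Lsl_dt (LP (LK LD1_c4 LD2_c4 LD3_c4)) = (LP (LK LD1_c8 LD2_c8 LD3_c49)) :=
  Lre_d IH (LK LD1_c4 LD2_c4 LD3_c4) (LK LD1_c8 LD2_c8 LD3_c49) Lrfl Lrfl
theorem f211324 : Led Lsl_et (LP (LK LD1_c8 LD2_c8 LD3_c49)) = (LP (LK LD1_c15 LD2_c20 LD3_c25)) :=
  Lre_e IH (LK LD1_c8 LD2_c8 LD3_c49) (LK LD1_c15 LD2_c20 LD3_c25) Lrfl Lrfl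
theorem f275894 : Led Lsl_dt (LP (LK LD1_c15 LD2_c20 LD3_c25)) = (LP (LK LD1_c10 LD2_c37 LD3_c33)) :=
  Lgr Lrot77 (Lpe (f211324 IH) (Lpe (f211312 IH) (Lpe (f243964 IH) (Lpe (f243968 IH) (Lpr_ef (f275892 IH) (Lpn (LP (LK LD1_c10 LD2_c37 LD3_c33))))))))
theorem f227959 : Led Lsl_gt (LP (LK LD1_c3 LD2_c57 LD3_c3)) = (LP (LK LD1_c7 LD2_c55 LD3_c45)) :=
  Lre_g IH (LK LD1_c3 LD2_c57 LD3_c3) (LK LD1_c7 LD2_c55 LD3_c45) Lrfl Lrfl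
theorem f227960 : Led Lsl_dt (LP (LK LD1_c7 LD2_c55 LD3_c45)) = (LP (LK LD1_c14 LD2_c57 LD3_c27)) :=
  Lre_d IH (LK LD1_c7 LD2_c55 LD3_c45) (LK LD1_c14 LD2_c57 LD3_c27) Lrfl Lrfl
theorem f243970 : Led Lsl_et (LP (LK LD1_c4 LD2_c4 LD3_c4)) = (LP (LK LD1_c8 LD2_c8 LD3_c50)) :=
  Lre_e IH (LK LD1_c4 LD2_c4 LD3_c4) (LK LD1_c8 LD2_c8 LD3_c50) Lrfl Lrfl
theorem f211323 : Led Lsl_dt (LP (LK LD1_c8 LD2_c8 LD3_c49)) = (LP (LK LD1_c4 LD2_c4 LD3_c4)) :=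
  Lre_d IH (LK LD1_c8 LD2_c8 LD3_c49) (LK LD1_c4 LD2_c4 LD3_c4) Lrfl Lrfl
theorem f243971 : Led Lsl_et (LP (LK LD1_c15 LD2_c20 LD3_c25)) = (LP (LK LD1_c8 LD2_c8 LD3_c49)) :=
  Lre_e IH (LK LD1_c15 LD2_c20 LD3_c25) (LK LD1_c8 LD2_c8 LD3_c49) Lrfl Lrfl
theorem f275890 : Led Lsl_df (LP (LK LD1_c15 LD2_c20 LD3_c25)) = (LP (LK LD1_c10 LD2_c37 LD3_c33)) :=
  Lgr Lrot70 (Lpr_et (f243971 IH) (Lpr_dt (f211323 IH) (Lpr_et (f243970 IH) (Lpe (f243965 IH) (Lpr_et (f275886 IH) (Lpn (LP (LK LD1_c10 LD2_c37 LD3_c33))))))))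
theorem f275896 : Led Lsl_gt (LP (LK LD1_c14 LD2_c57 LD3_c27)) = (LP (LK LD1_c15 LD2_c20 LD3_c25)) :=
  Lgr Lrot139 (Lpe (f227960 IH) (Lpe (f227959 IH) (Lpe (K16.f227958 IH) (Lpr_dt (K12.f227950 IH) (Lpe (K12.f181212 IH) (Lpe (K13.f170307 IH) (Lpr_et (K13.f227961 IH) (Lpe (f227962 IH) (Lpr_ef (f275892 IH) (Lpe (f275890 IH) (Lpn (LP (LK LD1_c15 LD2_c20 LD3_c25)))))))))))))
theorem f320911 : Led Lsl_et (LP (LK LD1_c19 LD2_c0 LD3_c35)) = (LP (LK LD1_c14 LD2_c57 LD3_c27)) :=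
  Lgr Lrot121 (Lpr_dt (f242322 IH) (Lpe (f190470 IH) (Lpr_df (f242317 IH) (Lpr_et (f320904 IH) (Lpe (K18.f217761 IH) (Lpe (K14.f235740 IH) (Lpr_dt (K14.f235741 IH) (Lpe (f235731 IH) (Lpe (f275894 IH) (Lpe (f275896 IH) (Lpn (LP (LK LD1_c14 LD2_c57 LD3_c27)))))))))))))
theorem f320915 : Led Lsl_ef (LP (LK LD1_c19 LD2_c0 LD3_c35)) = (LP (LK LD1_c14 LD2_c57 LD3_c27)) :=
  Lgr Lrot88 (Lpr_et (f320911 IH) (Lpn (LP (LK LD1_c14 LD2_c57 LD3_c27))))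
theorem f269904 : Led Lsl_dt (LP (LK LD1_c14 LD2_c57 LD3_c27)) = (LP (LK LD1_c7 LD2_c55 LD3_c45)) :=
  Lre_d IH (LK LD1_c14 LD2_c57 LD3_c27) (LK LD1_c7 LD2_c55 LD3_c45) Lrfl Lrfl
theorem f270349 : Led Lsl_bt (LP (LK LD1_c10 LD2_c0 LD3_c55)) = (LP (LK LD1_c5 LD2_c4 LD3_c57)) :=
  Lre_b IH (LK LD1_c10 LD2_c0 LD3_c55) (LK LD1_c5 LD2_c4 LD3_c57) Lrfl Lrfl
theorem f269907 : Led Lsl_bt (LP (LK LD1_c3 LD2_c57 LD3_c3)) = (LP (LK LD1_c7 LD2_c55 LD3_c44)) :=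
  Lre_b IH (LK LD1_c3 LD2_c57 LD3_c3) (LK LD1_c7 LD2_c55 LD3_c44) Lrfl Lrfl
theorem f274528 : Led Lsl_dt (LP (LK LD1_c5 LD2_c4 LD3_c57)) = (LP (LK LD1_c3 LD2_c57 LD3_c3)) :=
  Lgr Lrot79 (Lpe (f270349 IH) (Lpr_df (K16.f274526 IH) (Lpe (f269907 IH) (Lpn (LP (LK LD1_c3 LD2_c57 LD3_c3))))))
theorem f31639 : Led Lsl_et (LP (LK LD1_c5 LD2_c4 LD3_c57)) = (LP (LK LD1_c2 LD2_c29 LD3_c47)) :=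
  Lre_e IH (LK LD1_c5 LD2_c4 LD3_c57) (LK LD1_c2 LD2_c29 LD3_c47) Lrfl Lrfl
theorem f187945 : Led Lsl_gt (LP (LK LD1_c4 LD2_c20 LD3_c48)) = (LP (LK LD1_c8 LD2_c39 LD3_c15)) :=
  Lre_g IH (LK LD1_c4 LD2_c20 LD3_c48) (LK LD1_c8 LD2_c39 LD3_c15) Lrfl Lrfl
theorem f266653 : Led Lsl_et (LP (LK LD1_c16 LD2_c12 LD3_c30)) = (LP (LK LD1_c8 LD2_c39 LD3_c15)) :=
  Lre_e IH (LK LD1_c16 LD2_c12 LD3_c30) (LK LD1_c8 LD2_c39 LD3_c15) Lrfl Lrfl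
theorem f266654 : Led Lsl_dt (LP (LK LD1_c16 LD2_c12 LD3_c30)) = (LP (LK LD1_c15 LD2_c12 LD3_c30)) :=
  Lgr Lrot136 (Lpr_et (f266653 IH) (Lpe (f187945 IH) (Lpe (K10.f187932 IH) (Lpr_dt (K13.f187930 IH) (Lpe (K12.f170847 IH) (Lpe (K19.f266640 IH) (Lpr_gf (K15.f266634 IH) (Lpe (K17.f243013 IH) (Lpr_dt (K17.f265336 IH) (Lpe (K19.f240205 IH) (Lpn (LP (LK LD1_c15 LD2_c12 LD3_c30)))))))))))))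
theorem f320923 : Led Lsl_gt (LP (LK LD1_c19 LD2_c0 LD3_c35)) = (LP (LK LD1_c16 LD2_c12 LD3_c30)) :=
  Lgr Lrot137 (Lpr_ef (f320915 IH) (Lpr_dt (f269904 IH) (Lpe (f227959 IH) (Lpe (f274528 IH) (Lpr_et (f31639 IH) (Lpr_gf (K15.f266634 IH) (Lpe (K17.f243013 IH) (Lpr_dt (K17.f265336 IH) (Lpe (K19.f240205 IH) (Lpe (f266654 IH) (Lpn (LP (LK LD1_c16 LD2_c12 LD3_c30)))))))))))))
theorem f266658 : Led Lsl_et (LP (LK LD1_c8 LD2_c39 LD3_c15)) = (LP (LK LD1_c16 LD2_c12 LD3_c30)) :=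
  Lre_e IH (LK LD1_c8 LD2_c39 LD3_c15) (LK LD1_c16 LD2_c12 LD3_c30) Lrfl Lrfl
theorem f293316 : Led Lsl_at (LP (LK LD1_c5 LD2_c5 LD3_c3)) = (LP (LK LD1_c8 LD2_c38 LD3_c6)) :=
  Lgr Lrot100 (Lpr_af (K18.f293312 IH) (Lpn (LP (LK LD1_c8 LD2_c38 LD3_c6))))
theorem f293336 : Led Lsl_et (LP (LK LD1_c5 LD2_c12 LD3_c50)) = (LP (LK LD1_c5 LD2_c5 LD3_c3)) :=
  Lgr Lrot123 (Lpr_af (K18.f293322 IH) (Lpe (K17.f293216 IH) (Lpe (f293316 IH) (Lpn (LP (LK LD1_c5 LD2_c5 LD3_c3))))))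
theorem f310571 : Led Lsl_gt (LP (LK LD1_c8 LD2_c39 LD3_c15)) = (LP (LK LD1_c8 LD2_c7 LD3_c43)) :=
  Lgr Lrot137 (Lpe (f266653 IH) (Lpr_dt (f266654 IH) (Lpe (K19.f293515 IH) (Lpe (K18.f269261 IH) (Lpr_et (f293336 IH) (Lpr_gf (K19.f293320 IH) (Lpr_ef (K19.f187947 IH) (Lpr_dt (K19.f187946 IH) (Lpr_gf (K19.f310569 IH) (Lpe (K12.f198973 IH) (Lpn (LP (LK LD1_c8 LD2_c7 LD3_c43)))))))))))))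
theorem f305492 : Led Lsl_et (LP (LK LD1_c4 LD2_c3 LD3_c33)) = (LP (LK LD1_c4 LD2_c19 LD3_c16)) :=
  Lgr Lrot87 (Lpr_ef (K19.f305490 IH) (Lpn (LP (LK LD1_c4 LD2_c19 LD3_c16))))
theorem f265030 : Led Lsl_dt (LP (LK LD1_c6 LD2_c4 LD3_c45)) = (LP (LK LD1_c5 LD2_c22 LD3_c30)) :=
  Lgr Lrot42 (Lpr_df (K15.f265028 IH) (Lpn (LP (LK LD1_c5 LD2_c22 LD3_c30))))
theorem f194755 : Led Lsl_et (LP (LK LD1_c1 LD2_c58 LD3_c35)) = (LP (LK LD1_c4 LD2_c3 LD3_c12)) :=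
  Lre_e IH (LK LD1_c1 LD2_c58 LD3_c35) (LK LD1_c4 LD2_c3 LD3_c12) Lrfl Lrfl
theorem f194713 : Led Lsl_gt (LP (LK LD1_c4 LD2_c3 LD3_c12)) = (LP (LK LD1_c8 LD2_c6 LD3_c58)) :=
  Lre_g IH (LK LD1_c4 LD2_c3 LD3_c12) (LK LD1_c8 LD2_c6 LD3_c58) Lrfl Lrfl
theorem f310573 : Led Lsl_df (LP (LK LD1_c8 LD2_c39 LD3_c15)) = (LP (LK LD1_c8 LD2_c6 LD3_c58)) :=
  Lgr Lrot135 (Lpr_gt (f310571 IH) (Lpe (K15.f198991 IH) (Lpr_et (f305492 IH) (Lpr_gt (K19.f269387 IH) (Lpe (K17.f265032 IH) (Lpr_dt (f265030 IH) (Lpr_gt (K15.f172006 IH) (Lpe (K10.f194748 IH) (Lpr_et (f194755 IH) (Lpr_gt (f194713 IH) (Lpn (LP (LK LD1_c8 LD2_c6 LD3_c58)))))))))))))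
theorem f310581 : Led Lsl_dt (LP (LK LD1_c8 LD2_c39 LD3_c15)) = (LP (LK LD1_c8 LD2_c6 LD3_c58)) :=
  Lgr Lrot42 (Lpr_df (f310573 IH) (Lpn (LP (LK LD1_c8 LD2_c6 LD3_c58))))
theorem f255787 : Led Lsl_at (LP (LK LD1_c2 LD2_c38 LD3_c15)) = (LP (LK LD1_c5 LD2_c23 LD3_c25)) :=
  Lre_a IH (LK LD1_c2 LD2_c38 LD3_c15) (LK LD1_c5 LD2_c23 LD3_c25) Lrfl Lrfl
theorem f255786 : Led Lsl_ft (LP (LK LD1_c5 LD2_c23 LD3_c32)) = (LP (LK LD1_c2 LD2_c38 LD3_c15)) :=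
  Lre_f IH (LK LD1_c5 LD2_c23 LD3_c32) (LK LD1_c2 LD2_c38 LD3_c15) Lrfl Lrfl
theorem f312124 : Led Lsl_gf (LP (LK LD1_c5 LD2_c4 LD3_c57)) = (LP (LK LD1_c5 LD2_c23 LD3_c32)) :=
  Lgr Lrot47 (Lpr_gt (K19.f312122 IH) (Lpe (f255787 IH) (Lpe (f255786 IH) (Lpn (LP (LK LD1_c5 LD2_c23 LD3_c32))))))
theorem f303256 : Led Lsl_ef (LP (LK LD1_c5 LD2_c23 LD3_c32)) = (LP (LK LD1_c10 LD2_c30 LD3_c55)) :=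
  Lgr Lrot29 (Lpr_bt (K18.f279497 IH) (Lpr_et (K18.f303243 IH) (Lpr_bt (K15.f42435 IH) (Lpn (LP (LK LD1_c10 LD2_c30 LD3_c55))))))
theorem f320925 : Led Lsl_gt (LP (LK LD1_c8 LD2_c6 LD3_c58)) = (LP (LK LD1_c11 LD2_c53 LD3_c28)) :=
  Lgr Lrot112 (Lpe (f310581 IH) (Lpr_et (f266658 IH) (Lpe (f320923 IH) (Lpr_ef (f320915 IH) (Lpr_dt (f269904 IH) (Lpe (f227959 IH) (Lpe (f274528 IH) (Lpr_gf (f312124 IH) (Lpr_ef (f303256 IH) (Lpr_dt (K15.f42437 IH) (Lpn (LP (LK LD1_c11 LD2_c53 LD3_c28)))))))))))))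
theorem f194756 : Led Lsl_et (LP (LK LD1_c15 LD2_c16 LD3_c57)) = (LP (LK LD1_c8 LD2_c6 LD3_c58)) :=
  Lre_e IH (LK LD1_c15 LD2_c16 LD3_c57) (LK LD1_c8 LD2_c6 LD3_c58) Lrfl Lrfl
theorem f299152 : Led Lsl_ct (LP (LK LD1_c8 LD2_c6 LD3_c54)) = (LP (LK LD1_c15 LD2_c16 LD3_c42)) :=
  Lre_c IH (LK LD1_c8 LD2_c6 LD3_c54) (LK LD1_c15 LD2_c16 LD3_c42) Lrfl Lrfl
theorem f299153 : Led Lsl_at (LP (LK LD1_c8 LD2_c41 LD3_c5)) = (LP (LK LD1_c8 LD2_c6 LD3_c54)) :=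
  Lgr Lrot107 (Lpe (K18.f28865 IH) (Lpr_af (K18.f299147 IH) (Lpe (f299152 IH) (Lpn (LP (LK LD1_c8 LD2_c6 LD3_c54))))))
theorem f305597 : Led Lsl_et (LP (LK LD1_c8 LD2_c6 LD3_c54)) = (LP (LK LD1_c11 LD2_c53 LD3_c28)) :=
  Lgr Lrot123 (Lpe (f299153 IH) (Lpr_ef (K17.f279738 IH) (Lpr_af (K19.f305591 IH) (Lpn (LP (LK LD1_c11 LD2_c53 LD3_c28))))))
theorem f243952 : Led Lsl_ft (LP (LK LD1_c8 LD2_c36 LD3_c43)) = (LP (LK LD1_c4 LD2_c19 LD3_c9)) :=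
  Lre_f IH (LK LD1_c8 LD2_c36 LD3_c43) (LK LD1_c4 LD2_c19 LD3_c9) Lrfl Lrfl
theorem f296256 : Led Lsl_af (LP (LK LD1_c4 LD2_c3 LD3_c27)) = (LP (LK LD1_c4 LD2_c19 LD3_c9)) :=
  Lgr Lrot45 (Lpr_ft (K18.f296254 IH) (Lpe (K18.f244002 IH) (Lpr_ft (f243952 IH) (Lpn (LP (LK LD1_c4 LD2_c19 LD3_c9))))))
theorem f312285 : Led Lsl_gt (LP (LK LD1_c8 LD2_c36 LD3_c43)) = (LP (LK LD1_c8 LD2_c6 LD3_c47)) :=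
  Lgr Lrot5 (Lpr_ft (f243952 IH) (Lpe (f296256 IH) (Lpr_gf (K19.f312283 IH) (Lpn (LP (LK LD1_c8 LD2_c6 LD3_c47))))))
theorem f312279 : Led Lsl_df (LP (LK LD1_c15 LD2_c12 LD3_c49)) = (LP (LK LD1_c8 LD2_c6 LD3_c47)) :=
  Lgr Lrot38 (Lpr_dt (K19.f312277 IH) (Lpn (LP (LK LD1_c8 LD2_c6 LD3_c47))))
theorem f320927 : Led Lsl_dt (LP (LK LD1_c15 LD2_c16 LD3_c57)) = (LP (LK LD1_c18 LD2_c21 LD3_c38)) :=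
  Lgr Lrot56 (Lpr_et (f194756 IH) (Lpr_gt (f320925 IH) (Lpe (f305597 IH) (Lpe (K19.f308924 IH) (Lpr_gt (K18.f296398 IH) (Lpr_df (K15.f28883 IH) (Lpr_et (K19.f262639 IH) (Lpr_gt (f312285 IH) (Lpe (f312279 IH) (Lpe (K19.f312289 IH) (Lpn (LP (LK LD1_c18 LD2_c21 LD3_c38)))))))))))))
theorem f310575 : Led Lsl_et (LP (LK LD1_c8 LD2_c6 LD3_c58)) = (LP (LK LD1_c15 LD2_c16 LD3_c57)) :=
  Lre_e IH (LK LD1_c8 LD2_c6 LD3_c58) (LK LD1_c15 LD2_c16 LD3_c57) Lrfl Lrfl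
theorem f259112 : Led Lsl_dt (LP (LK LD1_c8 LD2_c5 LD3_c26)) = (LP (LK LD1_c15 LD2_c14 LD3_c9)) :=
  Lre_d IH (LK LD1_c8 LD2_c5 LD3_c26) (LK LD1_c15 LD2_c14 LD3_c9) Lrfl Lrfl
theorem f275873 : Led Lsl_ef (LP (LK LD1_c7 LD2_c55 LD3_c49)) = (LP (LK LD1_c14 LD2_c56 LD3_c57)) :=
  Lgr Lrot88 (Lpr_et (f275871 IH) (Lpn (LP (LK LD1_c14 LD2_c56 LD3_c57))))
theorem f275879 : Led Lsl_dt (LP (LK LD1_c15 LD2_c20 LD3_c26)) = (LP (LK LD1_c14 LD2_c56 LD3_c57)) :=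
  Lgr Lrot77 (Lpr_ef (f259118 IH) (Lpe (f259112 IH) (Lpr_ef (f275876 IH) (Lpe (f275867 IH) (Lpr_ef (f275873 IH) (Lpn (LP (LK LD1_c14 LD2_c56 LD3_c57))))))))
theorem f310576 : Led Lsl_gf (LP (LK LD1_c15 LD2_c16 LD3_c57)) = (LP (LK LD1_c15 LD2_c14 LD3_c9)) :=
  Lgr Lrot141 (Lpe (f310575 IH) (Lpe (f310573 IH) (Lpr_gt (f310571 IH) (Lpe (K15.f198991 IH) (Lpr_et (f305492 IH) (Lpr_gt (K19.f269387 IH) (Lpe (K17.f237111 IH) (Lpr_gt (f186954 IH) (Lpe (f275879 IH) (Lpr_et (f259120 IH) (Lpn (LP (LK LD1_c15 LD2_c14 LD3_c9)))))))))))))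
theorem f227206 : Led Lsl_ct (LP (LK LD1_c4 LD2_c3 LD3_c49)) = (LP (LK LD1_c8 LD2_c8 LD3_c3)) :=
  Lre_c IH (LK LD1_c4 LD2_c3 LD3_c49) (LK LD1_c8 LD2_c8 LD3_c3) Lrfl Lrfl
theorem f265721 : Led Lsl_et (LP (LK LD1_c8 LD2_c8 LD3_c3)) = (LP (LK LD1_c8 LD2_c14 LD3_c11)) :=
  Lgr Lrot158 (Lpe (f227206 IH) (Lpe (K17.f265032 IH) (Lpr_cf (K15.f265714 IH) (Lpn (LP (LK LD1_c8 LD2_c14 LD3_c11))))))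
theorem f265754 : Led Lsl_ef (LP (LK LD1_c8 LD2_c8 LD3_c3)) = (LP (LK LD1_c8 LD2_c14 LD3_c11)) :=
  Lgr Lrot88 (Lpr_et (f265721 IH) (Lpn (LP (LK LD1_c8 LD2_c14 LD3_c11))))
theorem f227207 : Led Lsl_ct (LP (LK LD1_c8 LD2_c8 LD3_c3)) = (LP (LK LD1_c4 LD2_c3 LD3_c49)) :=
  Lre_c IH (LK LD1_c8 LD2_c8 LD3_c3) (LK LD1_c4 LD2_c3 LD3_c49) Lrfl Lrfl
theorem f265758 : Led Lsl_et (LP (LK LD1_c4 LD2_c3 LD3_c49)) = (LP (LK LD1_c6 LD2_c4 LD3_c45)) :=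
  Lgr Lrot158 (Lpe (f227207 IH) (Lpr_ef (f265754 IH) (Lpe (K15.f265719 IH) (Lpn (LP (LK LD1_c6 LD2_c4 LD3_c45))))))
theorem f320935 : Led Lsl_dt (LP (LK LD1_c6 LD2_c4 LD3_c47)) = (LP (LK LD1_c10 LD2_c3 LD3_c7)) :=
  Lgr Lrot56 (Lpr_et (K19.f244115 IH) (Lpr_gt (K15.f187852 IH) (Lpe (f265758 IH) (Lpe (K17.f237111 IH) (Lpr_gt (f186954 IH) (Lpe (f275879 IH) (Lpr_et (f259120 IH) (Lpe (f310576 IH) (Lpr_dt (f320927 IH) (Lpr_gt (K19.f251486 IH) (Lpn (LP (LK LD1_c10 LD2_c3 LD3_c7)))))))))))))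
theorem f251468 : Led Lsl_et (LP (LK LD1_c5 LD2_c1 LD3_c7)) = (LP (LK LD1_c9 LD2_c52 LD3_c41)) :=
  Lre_e IH (LK LD1_c5 LD2_c1 LD3_c7) (LK LD1_c9 LD2_c52 LD3_c41) Lrfl Lrfl
theorem f251470 : Led Lsl_ct (LP (LK LD1_c9 LD2_c52 LD3_c41)) = (LP (LK LD1_c10 LD2_c3 LD3_c7)) :=
  Lgr Lrot15 (Lpe (f251468 IH) (Lpr_cf (K15.f251459 IH) (Lpe (K19.f251469 IH) (Lpn (LP (LK LD1_c10 LD2_c3 LD3_c7))))))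
theorem f251481 : Led Lsl_dt (LP (LK LD1_c18 LD2_c4 LD3_c54)) = (LP (LK LD1_c9 LD2_c52 LD3_c41)) :=
  Lre_d IH (LK LD1_c18 LD2_c4 LD3_c54) (LK LD1_c9 LD2_c52 LD3_c41) Lrfl Lrfl
theorem f251495 : Led Lsl_et (LP (LK LD1_c9 LD2_c52 LD3_c41)) = (LP (LK LD1_c5 LD2_c1 LD3_c7)) :=
  Lre_e IH (LK LD1_c9 LD2_c52 LD3_c41) (LK LD1_c5 LD2_c1 LD3_c7) Lrfl Lrfl
theorem f251493 : Led Lsl_dt (LP (LK LD1_c9 LD2_c52 LD3_c41)) = (LP (LK LD1_c18 LD2_c4 LD3_c54)) :=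
  Lre_d IH (LK LD1_c9 LD2_c52 LD3_c41) (LK LD1_c18 LD2_c4 LD3_c54) Lrfl Lrfl
theorem f197187 : Led Lsl_et (LP (LK LD1_c5 LD2_c8 LD3_c60)) = (LP (LK LD1_c2 LD2_c31 LD3_c39)) :=
  Lre_e IH (LK LD1_c5 LD2_c8 LD3_c60) (LK LD1_c2 LD2_c31 LD3_c39) Lrfl Lrfl
theorem f197188 : Led Lsl_dt (LP (LK LD1_c5 LD2_c8 LD3_c60)) = (LP (LK LD1_c10 LD2_c8 LD3_c30)) :=
  Lre_d IH (LK LD1_c5 LD2_c8 LD3_c60) (LK LD1_c10 LD2_c8 LD3_c30) Lrfl Lrfl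
theorem f265909 : Led Lsl_gf (LP (LK LD1_c18 LD2_c4 LD3_c54)) = (LP (LK LD1_c10 LD2_c8 LD3_c30)) :=
  Lgr Lrot145 (Lpe (f251493 IH) (Lpr_et (f251495 IH) (Lpr_gt (K15.f265897 IH) (Lpr_dt (K15.f247812 IH) (Lpr_gt (K14.f247888 IH) (Lpe (K1.f45901 IH) (Lpr_et (K1.f47039 IH) (Lpr_gt (K12.f197174 IH) (Lpe (f197187 IH) (Lpr_dt (f197188 IH) (Lpn (LP (LK LD1_c10 LD2_c8 LD3_c30)))))))))))))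
theorem f242839 : Led Lsl_gt (LP (LK LD1_c10 LD2_c8 LD3_c29)) = (LP (LK LD1_c5 LD2_c8 LD3_c60)) :=
  Lre_g IH (LK LD1_c10 LD2_c8 LD3_c29) (LK LD1_c5 LD2_c8 LD3_c60) Lrfl Lrfl
theorem f320943 : Led Lsl_ct (LP (LK LD1_c8 LD2_c5 LD3_c49)) = (LP (LK LD1_c10 LD2_c8 LD3_c29)) :=
  Lgr Lrot8 (Lpr_gt (K19.f246103 IH) (Lpr_dt (K18.f246113 IH) (Lpe (K19.f296371 IH) (Lpr_dt (f320935 IH) (Lpe (f251470 IH) (Lpe (f251481 IH) (Lpr_gf (f265909 IH) (Lpe (f197188 IH) (Lpe (f242839 IH) (Lpn (LP (LK LD1_c10 LD2_c8 LD3_c29))))))))))))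
theorem f201013 : Led Lsl_ct (LP (LK LD1_c5 LD2_c38 LD3_c55)) = (LP (LK LD1_c2 LD2_c45 LD3_c25)) :=
  Lre_c IH (LK LD1_c5 LD2_c38 LD3_c55) (LK LD1_c2 LD2_c45 LD3_c25) Lrfl Lrfl
theorem f243731 : Led Lsl_gt (LP (LK LD1_c11 LD2_c8 LD3_c44)) = (LP (LK LD1_c5 LD2_c38 LD3_c55)) :=
  Lre_g IH (LK LD1_c11 LD2_c8 LD3_c44) (LK LD1_c5 LD2_c38 LD3_c55) Lrfl Lrfl
theorem f320953 : Led Lsl_ct (LP (LK LD1_c8 LD2_c6 LD3_c47)) = (LP (LK LD1_c11 LD2_c8 LD3_c44)) :=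
  Lgr Lrot152 (Lpe (f312285 IH) (Lpr_df (K19.f259108 IH) (Lpe (K19.f296427 IH) (Lpr_ct (f320943 IH) (Lpr_gt (f242839 IH) (Lpr_ct (K17.f197202 IH) (Lpr_df (K18.f296839 IH) (Lpe (f201013 IH) (Lpe (f243731 IH) (Lpn (LP (LK LD1_c11 LD2_c8 LD3_c44))))))))))))
theorem f311459 : Led Lsl_af (LP (LK LD1_c8 LD2_c52 LD3_c1)) = (LP (LK LD1_c5 LD2_c21 LD3_c22)) :=
  Lgr Lrot50 (Lpr_et (K14.f44240 IH) (Lpr_at (K19.f311451 IH) (Lpr_et (K14.f190458 IH) (Lpn (LP (LK LD1_c5 LD2_c21 LD3_c22))))))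
theorem f303368 : Led Lsl_bt (LP (LK LD1_c5 LD2_c27 LD3_c44)) = (LP (LK LD1_c2 LD2_c40 LD3_c15)) :=
  Lre_b IH (LK LD1_c5 LD2_c27 LD3_c44) (LK LD1_c2 LD2_c40 LD3_c15) Lrfl Lrfl
theorem f317699 : Led Lsl_df (LP (LK LD1_c5 LD2_c27 LD3_c44)) = (LP (LK LD1_c8 LD2_c52 LD3_c1)) :=
  Lgr Lrot12 (Lpr_bt (f303368 IH) (Lpr_dt (f317697 IH) (Lpr_bt (K14.f214801 IH) (Lpn (LP (LK LD1_c8 LD2_c52 LD3_c1))))))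
theorem f318098 : Led Lsl_af (LP (LK LD1_c8 LD2_c7 LD3_c47)) = (LP (LK LD1_c5 LD2_c27 LD3_c44)) :=
  Lgr Lrot117 (Lpr_dt (f318096 IH) (Lpe (f311459 IH) (Lpe (f317699 IH) (Lpn (LP (LK LD1_c5 LD2_c27 LD3_c44))))))
theorem f318118 : Led Lsl_gt (LP (LK LD1_c10 LD2_c46 LD3_c35)) = (LP (LK LD1_c15 LD2_c16 LD3_c24)) :=
  Lgr Lrot5 (Lpr_ft (f317746 IH) (Lpe (f318098 IH) (Lpr_gf (f318116 IH) (Lpn (LP (LK LD1_c15 LD2_c16 LD3_c24))))))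
theorem f317728 : Led Lsl_bt (LP (LK LD1_c5 LD2_c27 LD3_c49)) = (LP (LK LD1_c10 LD2_c46 LD3_c35)) :=
  Lre_b IH (LK LD1_c5 LD2_c27 LD3_c49) (LK LD1_c10 LD2_c46 LD3_c35) Lrfl Lrfl
theorem f317731 : Led Lsl_ct (LP (LK LD1_c5 LD2_c27 LD3_c49)) = (LP (LK LD1_c10 LD2_c46 LD3_c44)) :=
  Lre_c IH (LK LD1_c5 LD2_c27 LD3_c49) (LK LD1_c10 LD2_c46 LD3_c44) Lrfl Lrfl
theorem f252654 : Led Lsl_ct (LP (LK LD1_c8 LD2_c11 LD3_c18)) = (LP (LK LD1_c15 LD2_c24 LD3_c59)) :=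
  Lre_c IH (LK LD1_c8 LD2_c11 LD3_c18) (LK LD1_c15 LD2_c24 LD3_c59) Lrfl Lrfl
theorem f320981 : Led Lsl_gf (LP (LK LD1_c10 LD2_c46 LD3_c44)) = (LP (LK LD1_c15 LD2_c24 LD3_c59)) :=
  Lgr Lrot129 (Lpe (f317731 IH) (Lpr_bt (f317728 IH) (Lpr_gt (f318118 IH) (Lpe (K19.f296277 IH) (Lpr_ct (f320953 IH) (Lpr_gt (f243731 IH) (Lpe (K16.f201015 IH) (Lpr_bt (K17.f244147 IH) (Lpe (K17.f286292 IH) (Lpr_ct (f252654 IH) (Lpn (LP (LK LD1_c15 LD2_c24 LD3_c59)))))))))))))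
theorem f317732 : Led Lsl_dt (LP (LK LD1_c10 LD2_c46 LD3_c44)) = (LP (LK LD1_c19 LD2_c29 LD3_c44)) :=
  Lre_d IH (LK LD1_c10 LD2_c46 LD3_c44) (LK LD1_c19 LD2_c29 LD3_c44) Lrfl Lrfl
theorem f257144 : Led Lsl_et (LP (LK LD1_c8 LD2_c11 LD3_c17)) = (LP (LK LD1_c15 LD2_c24 LD3_c59)) :=
  Lre_e IH (LK LD1_c8 LD2_c11 LD3_c17) (LK LD1_c15 LD2_c24 LD3_c59) Lrfl Lrfl
theorem f45639 : Led Lsl_et (LP (LK LD1_c4 LD2_c15 LD3_c1)) = (LP (LK LD1_c8 LD2_c29 LD3_c5)) :=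
  Lre_e IH (LK LD1_c4 LD2_c15 LD3_c1) (LK LD1_c8 LD2_c29 LD3_c5) Lrfl Lrfl
theorem f45173 : Led Lsl_gt (LP (LK LD1_c15 LD2_c56 LD3_c2)) = (LP (LK LD1_c8 LD2_c29 LD3_c5)) :=
  Lre_g IH (LK LD1_c15 LD2_c56 LD3_c2) (LK LD1_c8 LD2_c29 LD3_c5) Lrfl Lrfl
theorem f189056 : Led Lsl_et (LP (LK LD1_c25 LD2_c52 LD3_c21)) = (LP (LK LD1_c15 LD2_c56 LD3_c2)) :=
  Lre_e IH (LK LD1_c25 LD2_c52 LD3_c21) (LK LD1_c15 LD2_c56 LD3_c2) Lrfl Lrfl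
theorem f221239 : Led Lsl_et (LP (LK LD1_c8 LD2_c56 LD3_c28)) = (LP (LK LD1_c4 LD2_c29 LD3_c5)) :=
  Lre_e IH (LK LD1_c8 LD2_c56 LD3_c28) (LK LD1_c4 LD2_c29 LD3_c5) Lrfl Lrfl
theorem f221240 : Led Lsl_dt (LP (LK LD1_c8 LD2_c56 LD3_c28)) = (LP (LK LD1_c16 LD2_c44 LD3_c14)) :=
  Lre_d IH (LK LD1_c8 LD2_c56 LD3_c28) (LK LD1_c16 LD2_c44 LD3_c14) Lrfl Lrfl
theorem f221241 : Led Lsl_gt (LP (LK LD1_c26 LD2_c43 LD3_c1)) = (LP (LK LD1_c16 LD2_c44 LD3_c14)) :=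
  Lre_g IH (LK LD1_c26 LD2_c43 LD3_c1) (LK LD1_c16 LD2_c44 LD3_c14) Lrfl Lrfl
theorem f188983 : Led Lsl_gt (LP (LK LD1_c8 LD2_c56 LD3_c25)) = (LP (LK LD1_c15 LD2_c56 LD3_c2)) :=
  Lgr Lrot5 (Lpr_ft (K12.f188974 IH) (Lpr_at (K10.f45514 IH) (Lpe (f45173 IH) (Lpn (LP (LK LD1_c15 LD2_c56 LD3_c2))))))
theorem f221242 : Led Lsl_df (LP (LK LD1_c26 LD2_c43 LD3_c1)) = (LP (LK LD1_c25 LD2_c52 LD3_c21)) :=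
  Lgr Lrot170 (Lpr_gt (f221241 IH) (Lpe (f221240 IH) (Lpr_et (f221239 IH) (Lpr_gt (K18.f189091 IH) (Lpr_dt (K13.f188910 IH) (Lpr_gt (K17.f221233 IH) (Lpe (K12.f188605 IH) (Lpr_et (K12.f188632 IH) (Lpr_gt (f188983 IH) (Lpe (f189056 IH) (Lpn (LP (LK LD1_c25 LD2_c52 LD3_c21)))))))))))))
theorem f320989 : Led Lsl_gt (LP (LK LD1_c19 LD2_c29 LD3_c44)) = (LP (LK LD1_c26 LD2_c43 LD3_c1)) :=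
  Lgr Lrot139 (Lpe (f317732 IH) (Lpr_gf (f320981 IH) (Lpe (f257144 IH) (Lpr_dt (K15.f257142 IH) (Lpe (K15.f257195 IH) (Lpe (K1.f45141 IH) (Lpr_et (f45639 IH) (Lpe (f45173 IH) (Lpe (f189056 IH) (Lpe (f221242 IH) (Lpn (LP (LK LD1_c26 LD2_c43 LD3_c1)))))))))))))
theorem f286311 : Led Lsl_gt (LP (LK LD1_c15 LD2_c50 LD3_c45)) = (LP (LK LD1_c10 LD2_c8 LD3_c18)) :=
  Lgr Lrot139 (Lpe (K17.f286147 IH) (Lpe (K17.f216143 IH) (Lpe (K16.f216142 IH) (Lpr_dt (K15.f192456 IH) (Lpr_gf (K15.f216138 IH) (Lpe (K11.f27413 IH) (Lpr_et (K11.f27416 IH) (Lpe (K17.f189696 IH) (Lpr_ef (K17.f286308 IH) (Lpr_dt (K17.f286305 IH) (Lpn (LP (LK LD1_c10 LD2_c8 LD3_c18)))))))))))))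
theorem f286310 : Led Lsl_dt (LP (LK LD1_c10 LD2_c8 LD3_c18)) = (LP (LK LD1_c18 LD2_c27 LD3_c60)) :=
  Lre_d IH (LK LD1_c10 LD2_c8 LD3_c18) (LK LD1_c18 LD2_c27 LD3_c60) Lrfl Lrfl
theorem f221245 : Led Lsl_dt (LP (LK LD1_c26 LD2_c43 LD3_c1)) = (LP (LK LD1_c25 LD2_c52 LD3_c21)) :=
  Lgr Lrot42 (Lpr_df (f221242 IH) (Lpn (LP (LK LD1_c25 LD2_c52 LD3_c21))))
theorem f320995 : Led Lsl_cf (LP (LK LD1_c18 LD2_c27 LD3_c60)) = (LP (LK LD1_c25 LD2_c52 LD3_c21)) :=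
  Lgr Lrot14 (Lpe (f286310 IH) (Lpe (f286311 IH) (Lpe (K17.f286147 IH) (Lpe (K17.f216143 IH) (Lpr_ct (f252654 IH) (Lpe (f320981 IH) (Lpr_dt (f317732 IH) (Lpr_gt (f320989 IH) (Lpr_dt (f221245 IH) (Lpn (LP (LK LD1_c25 LD2_c52 LD3_c21))))))))))))
theorem f221247 : Led Lsl_et (LP (LK LD1_c15 LD2_c56 LD3_c2)) = (LP (LK LD1_c25 LD2_c52 LD3_c21)) :=
  Lre_e IH (LK LD1_c15 LD2_c56 LD3_c2) (LK LD1_c25 LD2_c52 LD3_c21) Lrfl Lrfl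
theorem f320997 : Led Lsl_ct (LP (LK LD1_c15 LD2_c51 LD3_c7)) = (LP (LK LD1_c15 LD2_c56 LD3_c2)) :=
  Lgr Lrot15 (Lpr_ef (K17.f286308 IH) (Lpr_cf (f320995 IH) (Lpe (f221247 IH) (Lpn (LP (LK LD1_c15 LD2_c56 LD3_c2))))))
theorem f310323 : Led Lsl_et (LP (LK LD1_c5 LD2_c28 LD3_c23)) = (LP (LK LD1_c10 LD2_c47 LD3_c57)) :=
  Lre_e IH (LK LD1_c5 LD2_c28 LD3_c23) (LK LD1_c10 LD2_c47 LD3_c57) Lrfl Lrfl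
theorem f7876 : Led Lsl_dt (LP (LK LD1_c10 LD2_c47 LD3_c56)) = (LP (LK LD1_c5 LD2_c28 LD3_c23)) :=
  Lre_d IH (LK LD1_c10 LD2_c47 LD3_c56) (LK LD1_c5 LD2_c28 LD3_c23) Lrfl Lrfl
theorem f310290 : Led Lsl_at (LP (LK LD1_c4 LD2_c11 LD3_c19)) = (LP (LK LD1_c4 LD2_c17 LD3_c54)) :=
  Lgr Lrot100 (Lpr_af (f310283 IH) (Lpn (LP (LK LD1_c4 LD2_c17 LD3_c54))))
theorem f170869 : Led Lsl_gt (LP (LK LD1_c2 LD2_c2 LD3_c52)) = (LP (LK LD1_c4 LD2_c11 LD3_c16)) :=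
  Lre_g IH (LK LD1_c2 LD2_c2 LD3_c52) (LK LD1_c4 LD2_c11 LD3_c16) Lrfl Lrfl
theorem f310298 : Led Lsl_gt (LP (LK LD1_c4 LD2_c11 LD3_c16)) = (LP (LK LD1_c4 LD2_c17 LD3_c54)) :=
  Lgr Lrot46 (Lpe (f170869 IH) (Lpr_ft (K18.f299439 IH) (Lpr_at (f310290 IH) (Lpn (LP (LK LD1_c4 LD2_c17 LD3_c54))))))
theorem f310213 : Led Lsl_ct (LP (LK LD1_c4 LD2_c17 LD3_c54)) = (LP (LK LD1_c2 LD2_c6 LD3_c17)) :=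
  Lre_c IH (LK LD1_c4 LD2_c17 LD3_c54) (LK LD1_c2 LD2_c6 LD3_c17) Lrfl Lrfl
theorem f304290 : Led Lsl_ct (LP (LK LD1_c4 LD2_c29 LD3_c22)) = (LP (LK LD1_c2 LD2_c11 LD3_c46)) :=
  Lre_c IH (LK LD1_c4 LD2_c29 LD3_c22) (LK LD1_c2 LD2_c11 LD3_c46) Lrfl Lrfl
theorem f274520 : Led Lsl_gt (LP (LK LD1_c1 LD2_c8 LD3_c60)) = (LP (LK LD1_c2 LD2_c23 LD3_c52)) :=
  Lre_g IH (LK LD1_c1 LD2_c8 LD3_c60) (LK LD1_c2 LD2_c23 LD3_c52) Lrfl Lrfl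
theorem f310300 : Led Lsl_cf (LP (LK LD1_c4 LD2_c11 LD3_c16)) = (LP (LK LD1_c2 LD2_c23 LD3_c52)) :=
  Lgr Lrot169 (Lpr_gt (f310298 IH) (Lpr_ct (f310213 IH) (Lpe (K19.f310194 IH) (Lpe (f304290 IH) (Lpe (f304293 IH) (Lpe (K18.f226050 IH) (Lpe (K18.f212624 IH) (Lpr_df (K19.f306899 IH) (Lpr_gt (f274520 IH) (Lpn (LP (LK LD1_c2 LD2_c23 LD3_c52))))))))))))
theorem f274519 : Led Lsl_bt (LP (LK LD1_c2 LD2_c23 LD3_c51)) = (LP (LK LD1_c1 LD2_c8 LD3_c60)) :=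
  Lre_b IH (LK LD1_c2 LD2_c23 LD3_c51) (LK LD1_c1 LD2_c8 LD3_c60) Lrfl Lrfl
theorem f274518 : Led Lsl_ct (LP (LK LD1_c2 LD2_c23 LD3_c51)) = (LP (LK LD1_c4 LD2_c52 LD3_c11)) :=
  Lre_c IH (LK LD1_c2 LD2_c23 LD3_c51) (LK LD1_c4 LD2_c52 LD3_c11) Lrfl Lrfl
theorem f270591 : Led Lsl_gt (LP (LK LD1_c9 LD2_c36 LD3_c44)) = (LP (LK LD1_c4 LD2_c52 LD3_c11)) :=
  Lre_g IH (LK LD1_c9 LD2_c36 LD3_c44) (LK LD1_c4 LD2_c52 LD3_c11) Lrfl Lrfl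
theorem f237144 : Led Lsl_dt (LP (LK LD1_c4 LD2_c3 LD3_c41)) = (LP (LK LD1_c8 LD2_c7 LD3_c54)) :=
  Lre_d IH (LK LD1_c4 LD2_c3 LD3_c41) (LK LD1_c8 LD2_c7 LD3_c54) Lrfl Lrfl
theorem f237122 : Led Lsl_et (LP (LK LD1_c4 LD2_c12 LD3_c24)) = (LP (LK LD1_c8 LD2_c24 LD3_c25)) :=
  Lre_e IH (LK LD1_c4 LD2_c12 LD3_c24) (LK LD1_c8 LD2_c24 LD3_c25) Lrfl Lrfl
theorem f237124 : Led Lsl_ct (LP (LK LD1_c8 LD2_c24 LD3_c25)) = (LP (LK LD1_c8 LD2_c7 LD3_c54)) :=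
  Lgr Lrot15 (Lpe (f237122 IH) (Lpr_cf (K15.f236996 IH) (Lpe (K17.f237123 IH) (Lpn (LP (LK LD1_c8 LD2_c7 LD3_c54))))))
theorem f237135 : Led Lsl_dt (LP (LK LD1_c15 LD2_c48 LD3_c20)) = (LP (LK LD1_c8 LD2_c24 LD3_c25)) :=
  Lre_d IH (LK LD1_c15 LD2_c48 LD3_c20) (LK LD1_c8 LD2_c24 LD3_c25) Lrfl Lrfl
theorem f237168 : Led Lsl_et (LP (LK LD1_c8 LD2_c24 LD3_c25)) = (LP (LK LD1_c4 LD2_c12 LD3_c24)) :=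
  Lre_e IH (LK LD1_c8 LD2_c24 LD3_c25) (LK LD1_c4 LD2_c12 LD3_c24) Lrfl Lrfl
theorem f237164 : Led Lsl_dt (LP (LK LD1_c8 LD2_c24 LD3_c25)) = (LP (LK LD1_c15 LD2_c48 LD3_c20)) :=
  Lre_d IH (LK LD1_c8 LD2_c24 LD3_c25) (LK LD1_c15 LD2_c48 LD3_c20) Lrfl Lrfl
theorem f270585 : Led Lsl_et (LP (LK LD1_c4 LD2_c52 LD3_c11)) = (LP (LK LD1_c2 LD2_c23 LD3_c50)) :=
  Lre_e IH (LK LD1_c4 LD2_c52 LD3_c11) (LK LD1_c2 LD2_c23 LD3_c50) Lrfl Lrfl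
theorem f270586 : Led Lsl_dt (LP (LK LD1_c4 LD2_c52 LD3_c11)) = (LP (LK LD1_c9 LD2_c36 LD3_c45)) :=
  Lre_d IH (LK LD1_c4 LD2_c52 LD3_c11) (LK LD1_c9 LD2_c36 LD3_c45) Lrfl Lrfl
theorem f270587 : Led Lsl_gf (LP (LK LD1_c15 LD2_c48 LD3_c20)) = (LP (LK LD1_c9 LD2_c36 LD3_c45)) :=
  Lgr Lrot145 (Lpe (f237164 IH) (Lpr_et (f237168 IH) (Lpe (K15.f261110 IH) (Lpr_dt (K16.f261094 IH) (Lpe (K15.f267242 IH) (Lpr_df (K15.f267266 IH) (Lpr_et (f270581 IH) (Lpr_gt (K14.f2878 IH) (Lpe (f270585 IH) (Lpr_dt (f270586 IH) (Lpn (LP (LK LD1_c9 LD2_c36 LD3_c45)))))))))))))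
theorem f222030 : Led Lsl_gt (LP (LK LD1_c15 LD2_c57 LD3_c5)) = (LP (LK LD1_c8 LD2_c29 LD3_c46)) :=
  Lre_g IH (LK LD1_c15 LD2_c57 LD3_c5) (LK LD1_c8 LD2_c29 LD3_c46) Lrfl Lrfl
theorem f274513 : Led Lsl_cf (LP (LK LD1_c9 LD2_c36 LD3_c44)) = (LP (LK LD1_c15 LD2_c57 LD3_c5)) :=
  Lgr Lrot166 (Lpr_gt (f270591 IH) (Lpr_dt (f270586 IH) (Lpe (f270587 IH) (Lpr_dt (f237135 IH) (Lpr_ct (f237124 IH) (Lpe (f237144 IH) (Lpe (K16.f212498 IH) (Lpr_df (K16.f274507 IH) (Lpe (f222030 IH) (Lpn (LP (LK LD1_c15 LD2_c57 LD3_c5))))))))))))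
theorem f310192 : Led Lsl_gt (LP (LK LD1_c4 LD2_c17 LD3_c46)) = (LP (LK LD1_c8 LD2_c34 LD3_c16)) :=
  Lre_g IH (LK LD1_c4 LD2_c17 LD3_c46) (LK LD1_c8 LD2_c34 LD3_c16) Lrfl Lrfl
theorem f310302 : Led Lsl_bt (LP (LK LD1_c15 LD2_c57 LD3_c5)) = (LP (LK LD1_c8 LD2_c34 LD3_c16)) :=
  Lgr Lrot92 (Lpe (f274513 IH) (Lpr_gt (f270591 IH) (Lpe (f274518 IH) (Lpr_bt (f274519 IH) (Lpr_gt (f274520 IH) (Lpe (f310300 IH) (Lpr_gt (f310298 IH) (Lpe (f310207 IH) (Lpr_bt (K19.f310178 IH) (Lpr_gt (f310192 IH) (Lpn (LP (LK LD1_c8 LD2_c34 LD3_c16)))))))))))))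
theorem f310305 : Led Lsl_bf (LP (LK LD1_c15 LD2_c57 LD3_c5)) = (LP (LK LD1_c8 LD2_c34 LD3_c16)) :=
  Lgr Lrot24 (Lpr_bt (f310302 IH) (Lpn (LP (LK LD1_c8 LD2_c34 LD3_c16))))
theorem f7740 : Led Lsl_bt (LP (LK LD1_c2 LD2_c40 LD3_c31)) = (LP (LK LD1_c1 LD2_c16 LD3_c60)) :=
  Lre_b IH (LK LD1_c2 LD2_c40 LD3_c31) (LK LD1_c1 LD2_c16 LD3_c60) Lrfl Lrfl
theorem f7741 : Led Lsl_dt (LP (LK LD1_c2 LD2_c6 LD3_c2)) = (LP (LK LD1_c2 LD2_c40 LD3_c31)) :=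
  Lgr Lrot79 (Lpe (K15.f7739 IH) (Lpr_df (K12.f7728 IH) (Lpe (f7740 IH) (Lpn (LP (LK LD1_c2 LD2_c40 LD3_c31))))))
theorem f7984 : Led Lsl_gt (LP (LK LD1_c8 LD2_c34 LD3_c16)) = (LP (LK LD1_c4 LD2_c17 LD3_c38)) :=
  Lre_g IH (LK LD1_c8 LD2_c34 LD3_c16) (LK LD1_c4 LD2_c17 LD3_c38) Lrfl Lrfl
theorem f284132 : Led Lsl_et (LP (LK LD1_c10 LD2_c47 LD3_c56)) = (LP (LK LD1_c8 LD2_c34 LD3_c16)) :=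
  Lgr Lrot121 (Lpr_dt (f7876 IH) (Lpe (f7832 IH) (Lpe (f7741 IH) (Lpr_et (K12.f7814 IH) (Lpe (K14.f7877 IH) (Lpe (K14.f7878 IH) (Lpr_dt (K17.f247352 IH) (Lpe (K17.f247396 IH) (Lpr_df (K17.f284116 IH) (Lpe (f7984 IH) (Lpn (LP (LK LD1_c8 LD2_c34 LD3_c16)))))))))))))
theorem f310308 : Led Lsl_bt (LP (LK LD1_c19 LD2_c32 LD3_c3)) = (LP (LK LD1_c10 LD2_c47 LD3_c56)) :=
  Lre_b IH (LK LD1_c19 LD2_c32 LD3_c3) (LK LD1_c10 LD2_c47 LD3_c56) Lrfl Lrfl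
theorem f310309 : Led Lsl_et (LP (LK LD1_c15 LD2_c57 LD3_c5)) = (LP (LK LD1_c19 LD2_c32 LD3_c3)) :=
  Lgr Lrot74 (Lpr_bf (f310305 IH) (Lpe (f284132 IH) (Lpe (f310308 IH) (Lpn (LP (LK LD1_c19 LD2_c32 LD3_c3))))))
theorem f310314 : Led Lsl_ef (LP (LK LD1_c15 LD2_c57 LD3_c5)) = (LP (LK LD1_c19 LD2_c32 LD3_c3)) :=
  Lgr Lrot88 (Lpr_et (f310309 IH) (Lpn (LP (LK LD1_c19 LD2_c32 LD3_c3))))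
theorem f310316 : Led Lsl_bt (LP (LK LD1_c10 LD2_c47 LD3_c56)) = (LP (LK LD1_c19 LD2_c32 LD3_c3)) :=
  Lre_b IH (LK LD1_c10 LD2_c47 LD3_c56) (LK LD1_c19 LD2_c32 LD3_c3) Lrfl Lrfl
theorem f310317 : Led Lsl_et (LP (LK LD1_c8 LD2_c34 LD3_c16)) = (LP (LK LD1_c10 LD2_c47 LD3_c56)) :=
  Lgr Lrot74 (Lpe (f310302 IH) (Lpr_ef (f310314 IH) (Lpe (f310316 IH) (Lpn (LP (LK LD1_c10 LD2_c47 LD3_c56))))))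
theorem f316023 : Led Lsl_et (LP (LK LD1_c6 LD2_c5 LD3_c26)) = (LP (LK LD1_c11 LD2_c54 LD3_c28)) :=
  Lre_e IH (LK LD1_c6 LD2_c5 LD3_c26) (LK LD1_c11 LD2_c54 LD3_c28) Lrfl Lrfl
theorem f316024 : Led Lsl_df (LP (LK LD1_c8 LD2_c34 LD3_c16)) = (LP (LK LD1_c11 LD2_c54 LD3_c28)) :=
  Lgr Lrot70 (Lpr_et (f310317 IH) (Lpr_dt (f7876 IH) (Lpr_et (f310323 IH) (Lpr_dt (f316015 IH) (Lpr_et (f316023 IH) (Lpn (LP (LK LD1_c11 LD2_c54 LD3_c28))))))))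
theorem f316041 : Led Lsl_dt (LP (LK LD1_c8 LD2_c34 LD3_c16)) = (LP (LK LD1_c11 LD2_c54 LD3_c28)) :=
  Lgr Lrot42 (Lpr_df (f316024 IH) (Lpn (LP (LK LD1_c11 LD2_c54 LD3_c28))))
theorem f316043 : Led Lsl_bt (LP (LK LD1_c11 LD2_c54 LD3_c28)) = (LP (LK LD1_c20 LD2_c58 LD3_c54)) :=
  Lre_b IH (LK LD1_c11 LD2_c54 LD3_c28) (LK LD1_c20 LD2_c58 LD3_c54) Lrfl Lrfl
theorem f316044 : Led Lsl_df (LP (LK LD1_c15 LD2_c57 LD3_c5)) = (LP (LK LD1_c20 LD2_c58 LD3_c54)) :=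
  Lgr Lrot12 (Lpr_bt (f310302 IH) (Lpr_dt (f316041 IH) (Lpr_bt (f316043 IH) (Lpn (LP (LK LD1_c20 LD2_c58 LD3_c54))))))
theorem f316051 : Led Lsl_et (LP (LK LD1_c20 LD2_c58 LD3_c54)) = (LP (LK LD1_c11 LD2_c54 LD3_c26)) :=
  Lre_e IH (LK LD1_c20 LD2_c58 LD3_c54) (LK LD1_c11 LD2_c54 LD3_c26) Lrfl Lrfl
theorem f316052 : Led Lsl_gt (LP (LK LD1_c8 LD2_c39 LD3_c29)) = (LP (LK LD1_c11 LD2_c54 LD3_c26)) :=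
  Lgr Lrot131 (Lpe (K11.f31247 IH) (Lpr_dt (K10.f28684 IH) (Lpe (K9.f182089 IH) (Lpe (K15.f182097 IH) (Lpe (K15.f257991 IH) (Lpe (K16.f274503 IH) (Lpr_dt (K18.f274501 IH) (Lpe (f222030 IH) (Lpr_df (f316044 IH) (Lpr_et (f316051 IH) (Lpn (LP (LK LD1_c11 LD2_c54 LD3_c26)))))))))))))
theorem f275614 : Led Lsl_ff (LP (LK LD1_c8 LD2_c39 LD3_c29)) = (LP (LK LD1_c8 LD2_c20 LD3_c22)) :=
  Lgr Lrot30 (Lpr_at (K11.f54285 IH) (Lpr_ft (K15.f201212 IH) (Lpr_at (K16.f275600 IH) (Lpn (LP (LK LD1_c8 LD2_c20 LD3_c22))))))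
theorem f31227 : Led Lsl_bt (LP (LK LD1_c8 LD2_c39 LD3_c29)) = (LP (LK LD1_c4 LD2_c20 LD3_c61)) :=
  Lre_b IH (LK LD1_c8 LD2_c39 LD3_c29) (LK LD1_c4 LD2_c20 LD3_c61) Lrfl Lrfl
theorem f31228 : Led Lsl_dt (LP (LK LD1_c8 LD2_c39 LD3_c29)) = (LP (LK LD1_c8 LD2_c39 LD3_c29)) :=
  Lgr Lrot79 (Lpe (K11.f31217 IH) (Lpr_df (K17.f31221 IH) (Lpe (f31227 IH) (Lpn (LP (LK LD1_c8 LD2_c39 LD3_c29))))))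
theorem f212816 : Led Lsl_et (LP (LK LD1_c4 LD2_c10 LD3_c4)) = (LP (LK LD1_c8 LD2_c20 LD3_c22)) :=
  Lre_e IH (LK LD1_c4 LD2_c10 LD3_c4) (LK LD1_c8 LD2_c20 LD3_c22) Lrfl Lrfl
theorem f212818 : Led Lsl_dt (LP (LK LD1_c8 LD2_c20 LD3_c22)) = (LP (LK LD1_c8 LD2_c20 LD3_c22)) :=
  Lgr Lrot77 (Lpe (f212816 IH) (Lpe (K16.f170856 IH) (Lpr_ef (K12.f212810 IH) (Lpe (K16.f212796 IH) (Lpe (K16.f212817 IH) (Lpn (LP (LK LD1_c8 LD2_c20 LD3_c22))))))))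
theorem f275618 : Led Lsl_ft (LP (LK LD1_c8 LD2_c39 LD3_c29)) = (LP (LK LD1_c8 LD2_c20 LD3_c22)) :=
  Lgr Lrot54 (Lpe (f31228 IH) (Lpr_ff (f275614 IH) (Lpe (f212818 IH) (Lpn (LP (LK LD1_c8 LD2_c20 LD3_c22))))))
theorem f275610 : Led Lsl_af (LP (LK LD1_c8 LD2_c7 LD3_c45)) = (LP (LK LD1_c8 LD2_c20 LD3_c22)) :=
  Lgr Lrot0 (Lpr_at (K16.f275600 IH) (Lpn (LP (LK LD1_c8 LD2_c20 LD3_c22))))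
theorem f316054 : Led Lsl_gf (LP (LK LD1_c8 LD2_c7 LD3_c45)) = (LP (LK LD1_c11 LD2_c54 LD3_c26)) :=
  Lgr Lrot76 (Lpr_af (f275610 IH) (Lpe (f275618 IH) (Lpr_gt (f316052 IH) (Lpn (LP (LK LD1_c11 LD2_c54 LD3_c26))))))
theorem f316017 : Led Lsl_bt (LP (LK LD1_c6 LD2_c5 LD3_c26)) = (LP (LK LD1_c11 LD2_c54 LD3_c26)) :=
  Lre_b IH (LK LD1_c6 LD2_c5 LD3_c26) (LK LD1_c11 LD2_c54 LD3_c26) Lrfl Lrfl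
theorem f220846 : Led Lsl_et (LP (LK LD1_c8 LD2_c8 LD3_c10)) = (LP (LK LD1_c15 LD2_c19 LD3_c8)) :=
  Lre_e IH (LK LD1_c8 LD2_c8 LD3_c10) (LK LD1_c15 LD2_c19 LD3_c8) Lrfl Lrfl
theorem f292548 : Led Lsl_at (LP (LK LD1_c15 LD2_c19 LD3_c8)) = (LP (LK LD1_c8 LD2_c54 LD3_c15)) :=
  Lgr Lrot80 (Lpe (f220846 IH) (Lpr_af (K17.f292538 IH) (Lpe (f276486 IH) (Lpn (LP (LK LD1_c8 LD2_c54 LD3_c15))))))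
theorem f316032 : Led Lsl_gt (LP (LK LD1_c10 LD2_c37 LD3_c12)) = (LP (LK LD1_c11 LD2_c54 LD3_c27)) :=
  Lgr Lrot5 (Lpe (K17.f220847 IH) (Lpr_at (f292548 IH) (Lpr_gf (f316029 IH) (Lpn (LP (LK LD1_c11 LD2_c54 LD3_c27))))))
theorem f292497 : Led Lsl_gt (LP (LK LD1_c8 LD2_c37 LD3_c3)) = (LP (LK LD1_c16 LD2_c8 LD3_c39)) :=
  Lre_g IH (LK LD1_c8 LD2_c37 LD3_c3) (LK LD1_c16 LD2_c8 LD3_c39) Lrfl Lrfl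
theorem f292534 : Led Lsl_gf (LP (LK LD1_c15 LD2_c27 LD3_c45)) = (LP (LK LD1_c16 LD2_c8 LD3_c39)) :=
  Lgr Lrot76 (Lpr_af (K10.f183658 IH) (Lpr_ff (f292527 IH) (Lpr_gt (f292497 IH) (Lpn (LP (LK LD1_c16 LD2_c8 LD3_c39))))))
theorem f321002 : Led Lsl_bt (LP (LK LD1_c15 LD2_c51 LD3_c7)) = (LP (LK LD1_c16 LD2_c8 LD3_c39)) :=
  Lgr Lrot130 (Lpr_ct (f320997 IH) (Lpe (f188983 IH) (Lpe (K12.f188752 IH) (Lpr_bt (K15.f201220 IH) (Lpr_gf (f316054 IH) (Lpe (f316017 IH) (Lpr_ct (f8680 IH) (Lpe (f316032 IH) (Lpr_cf (K10.f190136 IH) (Lpr_gf (f292534 IH) (Lpn (LP (LK LD1_c16 LD2_c8 LD3_c39)))))))))))))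
theorem f224444 : Led Lsl_et (LP (LK LD1_c10 LD2_c31 LD3_c30)) = (LP (LK LD1_c5 LD2_c20 LD3_c43)) :=
  Lre_e IH (LK LD1_c10 LD2_c31 LD3_c30) (LK LD1_c5 LD2_c20 LD3_c43) Lrfl Lrfl
theorem f224540 : Led Lsl_ct (LP (LK LD1_c9 LD2_c41 LD3_c6)) = (LP (LK LD1_c10 LD2_c31 LD3_c30)) :=
  Lgr Lrot15 (Lpe (K12.f223899 IH) (Lpr_cf (K12.f224487 IH) (Lpe (f224444 IH) (Lpn (LP (LK LD1_c10 LD2_c31 LD3_c30))))))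
theorem f215519 : Led Lsl_et (LP (LK LD1_c2 LD2_c36 LD3_c58)) = (LP (LK LD1_c5 LD2_c20 LD3_c39)) :=
  Lre_e IH (LK LD1_c2 LD2_c36 LD3_c58) (LK LD1_c5 LD2_c20 LD3_c39) Lrfl Lrfl
theorem f169212 : Led Lsl_gt (LP (LK LD1_c5 LD2_c20 LD3_c39)) = (LP (LK LD1_c10 LD2_c31 LD3_c20)) :=
  Lre_g IH (LK LD1_c5 LD2_c20 LD3_c39) (LK LD1_c10 LD2_c31 LD3_c20) Lrfl Lrfl
theorem f169221 : Led Lsl_dt (LP (LK LD1_c10 LD2_c31 LD3_c20)) = (LP (LK LD1_c19 LD2_c4 LD3_c15)) :=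
  Lre_d IH (LK LD1_c10 LD2_c31 LD3_c20) (LK LD1_c19 LD2_c4 LD3_c15) Lrfl Lrfl
theorem f169177 : Led Lsl_ct (LP (LK LD1_c2 LD2_c36 LD3_c59)) = (LP (LK LD1_c5 LD2_c20 LD3_c39)) :=
  Lre_c IH (LK LD1_c2 LD2_c36 LD3_c59) (LK LD1_c5 LD2_c20 LD3_c39) Lrfl Lrfl
theorem f215478 : Led Lsl_df (LP (LK LD1_c5 LD2_c25 LD3_c49)) = (LP (LK LD1_c4 LD2_c11 LD3_c9)) :=
  Lgr Lrot38 (Lpr_dt (K16.f215468 IH) (Lpn (LP (LK LD1_c4 LD2_c11 LD3_c9))))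
theorem f215473 : Led Lsl_ct (LP (LK LD1_c10 LD2_c42 LD3_c52)) = (LP (LK LD1_c5 LD2_c25 LD3_c49)) :=
  Lre_c IH (LK LD1_c10 LD2_c42 LD3_c52) (LK LD1_c5 LD2_c25 LD3_c49) Lrfl Lrfl
theorem f215474 : Led Lsl_dt (LP (LK LD1_c19 LD2_c23 LD3_c36)) = (LP (LK LD1_c10 LD2_c42 LD3_c52)) :=
  Lre_d IH (LK LD1_c19 LD2_c23 LD3_c36) (LK LD1_c10 LD2_c42 LD3_c52) Lrfl Lrfl
theorem f215506 : Led Lsl_gt (LP (LK LD1_c19 LD2_c4 LD3_c15)) = (LP (LK LD1_c19 LD2_c23 LD3_c36)) :=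
  Lgr Lrot49 (Lpe (f169221 IH) (Lpe (f169212 IH) (Lpe (f169177 IH) (Lpr_gt (K17.f169187 IH) (Lpr_dt (K17.f215491 IH) (Lpr_gt (K17.f215489 IH) (Lpe (f215478 IH) (Lpe (f215473 IH) (Lpe (f215474 IH) (Lpn (LP (LK LD1_c19 LD2_c23 LD3_c36))))))))))))
theorem f215521 : Led Lsl_dt (LP (LK LD1_c10 LD2_c42 LD3_c52)) = (LP (LK LD1_c19 LD2_c23 LD3_c36)) :=
  Lre_d IH (LK LD1_c10 LD2_c42 LD3_c52) (LK LD1_c19 LD2_c23 LD3_c36) Lrfl Lrfl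
theorem f215522 : Led Lsl_et (LP (LK LD1_c10 LD2_c42 LD3_c52)) = (LP (LK LD1_c5 LD2_c25 LD3_c47)) :=
  Lre_e IH (LK LD1_c10 LD2_c42 LD3_c52) (LK LD1_c5 LD2_c25 LD3_c47) Lrfl Lrfl
theorem f224550 : Led Lsl_et (LP (LK LD1_c5 LD2_c20 LD3_c43)) = (LP (LK LD1_c10 LD2_c31 LD3_c30)) :=
  Lre_e IH (LK LD1_c5 LD2_c20 LD3_c43) (LK LD1_c10 LD2_c31 LD3_c30) Lrfl Lrfl
theorem f224557 : Led Lsl_gt (LP (LK LD1_c5 LD2_c25 LD3_c47)) = (LP (LK LD1_c10 LD2_c31 LD3_c30)) :=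
  Lgr Lrot131 (Lpe (f215522 IH) (Lpr_dt (f215521 IH) (Lpe (f215506 IH) (Lpe (f169221 IH) (Lpe (f169212 IH) (Lpe (f215519 IH) (Lpr_dt (K12.f215520 IH) (Lpe (K12.f224553 IH) (Lpr_df (K12.f224548 IH) (Lpr_et (f224550 IH) (Lpn (LP (LK LD1_c10 LD2_c31 LD3_c30)))))))))))))
theorem f41506 : Led Lsl_ct (LP (LK LD1_c2 LD2_c39 LD3_c17)) = (LP (LK LD1_c5 LD2_c25 LD3_c47)) :=
  Lre_c IH (LK LD1_c2 LD2_c39 LD3_c17) (LK LD1_c5 LD2_c25 LD3_c47) Lrfl Lrfl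
theorem f224567 : Led Lsl_bt (LP (LK LD1_c2 LD2_c39 LD3_c17)) = (LP (LK LD1_c5 LD2_c25 LD3_c46)) :=
  Lre_b IH (LK LD1_c2 LD2_c39 LD3_c17) (LK LD1_c5 LD2_c25 LD3_c46) Lrfl Lrfl
theorem f321004 : Led Lsl_gf (LP (LK LD1_c5 LD2_c25 LD3_c46)) = (LP (LK LD1_c4 LD2_c20 LD3_c52)) :=
  Lgr Lrot124 (Lpe (f224567 IH) (Lpr_ct (f41506 IH) (Lpr_gt (f224557 IH) (Lpe (f224540 IH) (Lpe (K14.f224226 IH) (Lpr_gt (K17.f27500 IH) (Lpr_ct (f320997 IH) (Lpr_gt (f45173 IH) (Lpe (K12.f45165 IH) (Lpe (K11.f54295 IH) (Lpn (LP (LK LD1_c4 LD2_c20 LD3_c52)))))))))))))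
theorem f320548 : Led Lsl_ct (LP (LK LD1_c5 LD2_c25 LD3_c46)) = (LP (LK LD1_c10 LD2_c42 LD3_c49)) :=
  Lre_c IH (LK LD1_c5 LD2_c25 LD3_c46) (LK LD1_c10 LD2_c42 LD3_c49) Lrfl Lrfl
theorem f321006 : Led Lsl_gf (LP (LK LD1_c9 LD2_c0 LD3_c31)) = (LP (LK LD1_c10 LD2_c42 LD3_c49)) :=
  Lgr Lrot129 (Lpe (K14.f212680 IH) (Lpr_bt (f292519 IH) (Lpr_gt (f292497 IH) (Lpe (f321002 IH) (Lpr_ct (f320997 IH) (Lpr_gt (f45173 IH) (Lpe (K12.f45165 IH) (Lpe (K11.f54295 IH) (Lpe (f321004 IH) (Lpr_ct (f320548 IH) (Lpn (LP (LK LD1_c10 LD2_c42 LD3_c49)))))))))))))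
theorem f300915 : Led Lsl_gf (LP (LK LD1_c9 LD2_c0 LD3_c57)) = (LP (LK LD1_c10 LD2_c37 LD3_c21)) :=
  Lgr Lrot47 (Lpr_gt (K18.f300913 IH) (Lpe (K18.f279471 IH) (Lpr_ff (K18.f279467 IH) (Lpn (LP (LK LD1_c10 LD2_c37 LD3_c21))))))
theorem f239877 : Led Lsl_dt (LP (LK LD1_c9 LD2_c0 LD3_c57)) = (LP (LK LD1_c16 LD2_c50 LD3_c48)) :=
  Lre_d IH (LK LD1_c9 LD2_c0 LD3_c57) (LK LD1_c16 LD2_c50 LD3_c48) Lrfl Lrfl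
theorem f239887 : Led Lsl_gt (LP (LK LD1_c16 LD2_c50 LD3_c48)) = (LP (LK LD1_c26 LD2_c48 LD3_c17)) :=
  Lre_g IH (LK LD1_c16 LD2_c50 LD3_c48) (LK LD1_c26 LD2_c48 LD3_c17) Lrfl Lrfl
theorem f321015 : Led Lsl_et (LP (LK LD1_c19 LD2_c23 LD3_c34)) = (LP (LK LD1_c10 LD2_c42 LD3_c49)) :=
  Lre_e IH (LK LD1_c19 LD2_c23 LD3_c34) (LK LD1_c10 LD2_c42 LD3_c49) Lrfl Lrfl
theorem f321016 : Led Lsl_df (LP (LK LD1_c26 LD2_c48 LD3_c17)) = (LP (LK LD1_c19 LD2_c23 LD3_c34)) :=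
  Lgr Lrot132 (Lpe (f239887 IH) (Lpe (f239877 IH) (Lpr_gf (f300915 IH) (Lpe (K18.f279477 IH) (Lpe (K19.f310667 IH) (Lpr_gf (K19.f212717 IH) (Lpe (K12.f212635 IH) (Lpr_et (K14.f212674 IH) (Lpr_gf (f321006 IH) (Lpe (f321015 IH) (Lpn (LP (LK LD1_c19 LD2_c23 LD3_c34)))))))))))))
theorem f321019 : Led Lsl_dt (LP (LK LD1_c26 LD2_c48 LD3_c17)) = (LP (LK LD1_c19 LD2_c23 LD3_c34)) :=
  Lgr Lrot42 (Lpr_df (f321016 IH) (Lpn (LP (LK LD1_c19 LD2_c23 LD3_c34))))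
theorem f227964 : Led Lsl_gt (LP (LK LD1_c7 LD2_c55 LD3_c46)) = (LP (LK LD1_c3 LD2_c57 LD3_c3)) :=
  Lre_g IH (LK LD1_c7 LD2_c55 LD3_c46) (LK LD1_c3 LD2_c57 LD3_c3) Lrfl Lrfl
theorem f269910 : Led Lsl_gt (LP (LK LD1_c4 LD2_c21 LD3_c53)) = (LP (LK LD1_c7 LD2_c55 LD3_c46)) :=
  Lgr Lrot5 (Lpr_ft (K16.f260441 IH) (Lpr_at (K16.f269898 IH) (Lpe (f227964 IH) (Lpn (LP (LK LD1_c7 LD2_c55 LD3_c46))))))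
theorem f321018 : Led Lsl_ct (LP (LK LD1_c10 LD2_c42 LD3_c51)) = (LP (LK LD1_c19 LD2_c23 LD3_c34)) :=
  Lre_c IH (LK LD1_c10 LD2_c42 LD3_c51) (LK LD1_c19 LD2_c23 LD3_c34) Lrfl Lrfl
theorem f321023 : Led Lsl_dt (LP (LK LD1_c7 LD2_c55 LD3_c46)) = (LP (LK LD1_c10 LD2_c42 LD3_c51)) :=
  Lgr Lrot105 (Lpe (f269910 IH) (Lpe (K16.f260581 IH) (Lpr_gf (K19.f312126 IH) (Lpe (K19.f255788 IH) (Lpe (f300915 IH) (Lpr_dt (f239877 IH) (Lpr_gt (f239887 IH) (Lpr_dt (f321019 IH) (Lpe (f321018 IH) (Lpn (LP (LK LD1_c10 LD2_c42 LD3_c51))))))))))))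
theorem f227965 : Led Lsl_et (LP (LK LD1_c14 LD2_c57 LD3_c29)) = (LP (LK LD1_c7 LD2_c55 LD3_c46)) :=
  Lre_e IH (LK LD1_c14 LD2_c57 LD3_c29) (LK LD1_c7 LD2_c55 LD3_c46) Lrfl Lrfl
theorem f321029 : Led Lsl_et (LP (LK LD1_c10 LD2_c42 LD3_c51)) = (LP (LK LD1_c5 LD2_c25 LD3_c46)) :=
  Lre_e IH (LK LD1_c10 LD2_c42 LD3_c51) (LK LD1_c5 LD2_c25 LD3_c46) Lrfl Lrfl
theorem f321030 : Led Lsl_dt (LP (LK LD1_c5 LD2_c25 LD3_c46)) = (LP (LK LD1_c10 LD2_c42 LD3_c50)) :=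
  Lre_d IH (LK LD1_c5 LD2_c25 LD3_c46) (LK LD1_c10 LD2_c42 LD3_c50) Lrfl Lrfl
theorem f276769 : Led Lsl_bt (LP (LK LD1_c5 LD2_c25 LD3_c48)) = (LP (LK LD1_c10 LD2_c42 LD3_c50)) :=
  Lre_b IH (LK LD1_c5 LD2_c25 LD3_c48) (LK LD1_c10 LD2_c42 LD3_c50) Lrfl Lrfl
theorem f276770 : Led Lsl_bt (LP (LK LD1_c10 LD2_c35 LD3_c55)) = (LP (LK LD1_c5 LD2_c22 LD3_c48)) :=
  Lre_b IH (LK LD1_c10 LD2_c35 LD3_c55) (LK LD1_c5 LD2_c22 LD3_c48) Lrfl Lrfl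
theorem f276771 : Led Lsl_et (LP (LK LD1_c10 LD2_c42 LD3_c50)) = (LP (LK LD1_c10 LD2_c35 LD3_c55)) :=
  Lgr Lrot74 (Lpe (f276769 IH) (Lpr_ef (K16.f276765 IH) (Lpe (f276770 IH) (Lpn (LP (LK LD1_c10 LD2_c35 LD3_c55))))))
theorem f321031 : Led Lsl_df (LP (LK LD1_c14 LD2_c57 LD3_c29)) = (LP (LK LD1_c10 LD2_c35 LD3_c55)) :=
  Lgr Lrot70 (Lpr_et (f227965 IH) (Lpr_dt (f321023 IH) (Lpr_et (f321029 IH) (Lpr_dt (f321030 IH) (Lpr_et (f276771 IH) (Lpn (LP (LK LD1_c10 LD2_c35 LD3_c55))))))))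
theorem f321037 : Led Lsl_dt (LP (LK LD1_c14 LD2_c57 LD3_c29)) = (LP (LK LD1_c10 LD2_c35 LD3_c55)) :=
  Lgr Lrot42 (Lpr_df (f321031 IH) (Lpn (LP (LK LD1_c10 LD2_c35 LD3_c55))))
theorem f276763 : Led Lsl_df (LP (LK LD1_c8 LD2_c22 LD3_c19)) = (LP (LK LD1_c5 LD2_c22 LD3_c48)) :=
  Lgr Lrot38 (Lpr_dt (K16.f276759 IH) (Lpn (LP (LK LD1_c5 LD2_c22 LD3_c48))))
theorem f321040 : Led Lsl_bf (LP (LK LD1_c14 LD2_c57 LD3_c29)) = (LP (LK LD1_c8 LD2_c22 LD3_c19)) :=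
  Lgr Lrot93 (Lpr_dt (f321037 IH) (Lpr_bt (f276770 IH) (Lpe (f276763 IH) (Lpn (LP (LK LD1_c8 LD2_c22 LD3_c19))))))
theorem f321047 : Led Lsl_bt (LP (LK LD1_c7 LD2_c55 LD3_c46)) = (LP (LK LD1_c4 LD2_c11 LD3_c9)) :=
  Lgr Lrot119 (Lpe (f227965 IH) (Lpr_bf (f321040 IH) (Lpe (K16.f215480 IH) (Lpn (LP (LK LD1_c4 LD2_c11 LD3_c9))))))
theorem f269912 : Led Lsl_ct (LP (LK LD1_c7 LD2_c55 LD3_c46)) = (LP (LK LD1_c14 LD2_c57 LD3_c28)) :=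
  Lre_c IH (LK LD1_c7 LD2_c55 LD3_c46) (LK LD1_c14 LD2_c57 LD3_c28) Lrfl Lrfl
theorem f239858 : Led Lsl_ft (LP (LK LD1_c9 LD2_c0 LD3_c57)) = (LP (LK LD1_c9 LD2_c37 LD3_c51)) :=
  Lgr Lrot4 (Lpe (K18.f212577 IH) (Lpr_ff (K15.f239851 IH) (Lpe (K17.f239857 IH) (Lpn (LP (LK LD1_c9 LD2_c37 LD3_c51))))))
theorem f212613 : Led Lsl_ct (LP (LK LD1_c9 LD2_c0 LD3_c60)) = (LP (LK LD1_c4 LD2_c31 LD3_c29)) :=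
  Lre_c IH (LK LD1_c9 LD2_c0 LD3_c60) (LK LD1_c4 LD2_c31 LD3_c29) Lrfl Lrfl
theorem f247058 : Led Lsl_ff (LP (LK LD1_c9 LD2_c0 LD3_c60)) = (LP (LK LD1_c10 LD2_c37 LD3_c29)) :=
  Lgr Lrot23 (Lpr_ct (f212613 IH) (Lpr_ft (K14.f247052 IH) (Lpe (K18.f247031 IH) (Lpn (LP (LK LD1_c10 LD2_c37 LD3_c29))))))
theorem f279756 : Led Lsl_af (LP (LK LD1_c9 LD2_c37 LD3_c51)) = (LP (LK LD1_c9 LD2_c0 LD3_c60)) :=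
  Lgr Lrot31 (Lpe (K17.f279435 IH) (Lpr_gf (K18.f279754 IH) (Lpe (f247058 IH) (Lpn (LP (LK LD1_c9 LD2_c0 LD3_c60))))))
theorem f279800 : Led Lsl_at (LP (LK LD1_c9 LD2_c37 LD3_c51)) = (LP (LK LD1_c9 LD2_c0 LD3_c60)) :=
  Lgr Lrot100 (Lpr_af (f279756 IH) (Lpn (LP (LK LD1_c9 LD2_c0 LD3_c60))))
theorem f300917 : Led Lsl_gf (LP (LK LD1_c9 LD2_c0 LD3_c60)) = (LP (LK LD1_c10 LD2_c37 LD3_c31)) :=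
  Lgr Lrot76 (Lpe (f279800 IH) (Lpe (f239858 IH) (Lpr_gt (K18.f300913 IH) (Lpn (LP (LK LD1_c10 LD2_c37 LD3_c31))))))
theorem f312139 : Led Lsl_gt (LP (LK LD1_c14 LD2_c57 LD3_c28)) = (LP (LK LD1_c7 LD2_c55 LD3_c52)) :=
  Lgr Lrot150 (Lpe (f269912 IH) (Lpe (f269910 IH) (Lpe (K16.f260581 IH) (Lpr_gt (K19.f312132 IH) (Lpr_ct (K18.f255800 IH) (Lpe (f300917 IH) (Lpr_ct (f212613 IH) (Lpr_df (K14.f247075 IH) (Lpr_cf (K16.f270835 IH) (Lpn (LP (LK LD1_c7 LD2_c55 LD3_c52))))))))))))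
theorem f247141 : Led Lsl_gt (LP (LK LD1_c8 LD2_c1 LD3_c28)) = (LP (LK LD1_c15 LD2_c6 LD3_c40)) :=
  Lre_g IH (LK LD1_c8 LD2_c1 LD3_c28) (LK LD1_c15 LD2_c6 LD3_c40) Lrfl Lrfl
theorem f307764 : Led Lsl_ct (LP (LK LD1_c8 LD2_c34 LD3_c17)) = (LP (LK LD1_c16 LD2_c5 LD3_c8)) :=
  Lre_c IH (LK LD1_c8 LD2_c34 LD3_c17) (LK LD1_c16 LD2_c5 LD3_c8) Lrfl Lrfl
theorem f307896 : Led Lsl_gt (LP (LK LD1_c8 LD2_c34 LD3_c28)) = (LP (LK LD1_c16 LD2_c5 LD3_c8)) :=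
  Lre_g IH (LK LD1_c8 LD2_c34 LD3_c28) (LK LD1_c16 LD2_c5 LD3_c8) Lrfl Lrfl
theorem f321052 : Led Lsl_ct (LP (LK LD1_c15 LD2_c6 LD3_c40)) = (LP (LK LD1_c8 LD2_c34 LD3_c28)) :=
  Lgr Lrot91 (Lpe (f247141 IH) (Lpe (K16.f247135 IH) (Lpe (K16.f236486 IH) (Lpe (f312139 IH) (Lpe (f269912 IH) (Lpr_bt (f321047 IH) (Lpe (K17.f215489 IH) (Lpr_bf (K19.f310281 IH) (Lpr_ct (f307764 IH) (Lpe (f307896 IH) (Lpn (LP (LK LD1_c8 LD2_c34 LD3_c28)))))))))))))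
theorem f215475 : Led Lsl_ct (LP (LK LD1_c4 LD2_c11 LD3_c9)) = (LP (LK LD1_c8 LD2_c22 LD3_c18)) :=
  Lre_c IH (LK LD1_c4 LD2_c11 LD3_c9) (LK LD1_c8 LD2_c22 LD3_c18) Lrfl Lrfl
theorem f42641 : Led Lsl_ef (LP (LK LD1_c2 LD2_c37 LD3_c12)) = (LP (LK LD1_c2 LD2_c58 LD3_c22)) :=
  Lgr Lrot28 (Lpr_ct (K12.f42640 IH) (Lpr_et (K9.f42488 IH) (Lpr_ct (K11.f29055 IH) (Lpn (LP (LK LD1_c2 LD2_c58 LD3_c22))))))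
theorem f43212 : Led Lsl_et (LP (LK LD1_c10 LD2_c32 LD3_c46)) = (LP (LK LD1_c5 LD2_c21 LD3_c15)) :=
  Lre_e IH (LK LD1_c10 LD2_c32 LD3_c46) (LK LD1_c5 LD2_c21 LD3_c15) Lrfl Lrfl
theorem f43213 : Led Lsl_dt (LP (LK LD1_c10 LD2_c32 LD3_c46)) = (LP (LK LD1_c19 LD2_c5 LD3_c60)) :=
  Lre_d IH (LK LD1_c10 LD2_c32 LD3_c46) (LK LD1_c19 LD2_c5 LD3_c60) Lrfl Lrfl
theorem f232268 : Led Lsl_et (LP (LK LD1_c8 LD2_c32 LD3_c53)) = (LP (LK LD1_c4 LD2_c16 LD3_c46)) :=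
  Lre_e IH (LK LD1_c8 LD2_c32 LD3_c53) (LK LD1_c4 LD2_c16 LD3_c46) Lrfl Lrfl
theorem f184359 : Led Lsl_dt (LP (LK LD1_c8 LD2_c32 LD3_c53)) = (LP (LK LD1_c16 LD2_c2 LD3_c52)) :=
  Lre_d IH (LK LD1_c8 LD2_c32 LD3_c53) (LK LD1_c16 LD2_c2 LD3_c52) Lrfl Lrfl
theorem f258415 : Led Lsl_gt (LP (LK LD1_c19 LD2_c5 LD3_c60)) = (LP (LK LD1_c16 LD2_c2 LD3_c52)) :=
  Lgr Lrot112 (Lpe (f43213 IH) (Lpr_et (f43212 IH) (Lpe (K14.f43199 IH) (Lpr_ef (f42641 IH) (Lpr_dt (K9.f29056 IH) (Lpr_gf (K15.f258397 IH) (Lpe (K15.f211429 IH) (Lpe (K14.f232259 IH) (Lpe (f232268 IH) (Lpr_dt (f184359 IH) (Lpn (LP (LK LD1_c16 LD2_c2 LD3_c52)))))))))))))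
theorem f184261 : Led Lsl_dt (LP (LK LD1_c16 LD2_c2 LD3_c52)) = (LP (LK LD1_c8 LD2_c32 LD3_c53)) :=
  Lre_d IH (LK LD1_c16 LD2_c2 LD3_c52) (LK LD1_c8 LD2_c32 LD3_c53) Lrfl Lrfl
theorem f184297 : Led Lsl_ct (LP (LK LD1_c4 LD2_c16 LD3_c47)) = (LP (LK LD1_c8 LD2_c32 LD3_c53)) :=
  Lre_c IH (LK LD1_c4 LD2_c16 LD3_c47) (LK LD1_c8 LD2_c32 LD3_c53) Lrfl Lrfl
theorem f215481 : Led Lsl_ct (LP (LK LD1_c8 LD2_c22 LD3_c18)) = (LP (LK LD1_c4 LD2_c11 LD3_c9)) :=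
  Lre_c IH (LK LD1_c8 LD2_c22 LD3_c18) (LK LD1_c4 LD2_c11 LD3_c9) Lrfl Lrfl
theorem f258417 : Led Lsl_gf (LP (LK LD1_c10 LD2_c32 LD3_c46)) = (LP (LK LD1_c8 LD2_c22 LD3_c18)) :=
  Lgr Lrot144 (Lpr_dt (f43213 IH) (Lpr_gt (f258415 IH) (Lpr_dt (f184261 IH) (Lpe (f184297 IH) (Lpr_df (K16.f184264 IH) (Lpe (K16.f258401 IH) (Lpe (K16.f215461 IH) (Lpe (K16.f215467 IH) (Lpe (f215481 IH) (Lpn (LP (LK LD1_c8 LD2_c22 LD3_c18))))))))))))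
theorem f243325 : Led Lsl_bt (LP (LK LD1_c2 LD2_c5 LD3_c31)) = (LP (LK LD1_c4 LD2_c16 LD3_c21)) :=
  Lre_b IH (LK LD1_c2 LD2_c5 LD3_c31) (LK LD1_c4 LD2_c16 LD3_c21) Lrfl Lrfl
theorem f250529 : Led Lsl_gt (LP (LK LD1_c4 LD2_c16 LD3_c21)) = (LP (LK LD1_c8 LD2_c31 LD3_c51)) :=
  Lre_g IH (LK LD1_c4 LD2_c16 LD3_c21) (LK LD1_c8 LD2_c31 LD3_c51) Lrfl Lrfl
theorem f250532 : Led Lsl_bt (LP (LK LD1_c16 LD2_c0 LD3_c46)) = (LP (LK LD1_c8 LD2_c31 LD3_c51)) :=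
  Lre_b IH (LK LD1_c16 LD2_c0 LD3_c46) (LK LD1_c8 LD2_c31 LD3_c51) Lrfl Lrfl
theorem f229439 : Led Lsl_gt (LP (LK LD1_c9 LD2_c38 LD3_c9)) = (LP (LK LD1_c4 LD2_c53 LD3_c6)) :=
  Lre_g IH (LK LD1_c9 LD2_c38 LD3_c9) (LK LD1_c4 LD2_c53 LD3_c6) Lrfl Lrfl
theorem f250533 : Led Lsl_ct (LP (LK LD1_c16 LD2_c0 LD3_c46)) = (LP (LK LD1_c9 LD2_c38 LD3_c9)) :=
  Lgr Lrot64 (Lpr_bt (f250532 IH) (Lpe (f250529 IH) (Lpe (f243325 IH) (Lpr_ct (K14.f188966 IH) (Lpr_gf (K14.f250525 IH) (Lpe (K12.f33442 IH) (Lpe (K16.f189093 IH) (Lpe (K16.f229763 IH) (Lpr_ct (K16.f229770 IH) (Lpe (f229439 IH) (Lpn (LP (LK LD1_c9 LD2_c38 LD3_c9)))))))))))))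
theorem f250559 : Led Lsl_cf (LP (LK LD1_c16 LD2_c0 LD3_c46)) = (LP (LK LD1_c9 LD2_c38 LD3_c9)) :=
  Lgr Lrot11 (Lpr_ct (f250533 IH) (Lpn (LP (LK LD1_c9 LD2_c38 LD3_c9))))
theorem f250530 : Led Lsl_ct (LP (LK LD1_c8 LD2_c31 LD3_c51)) = (LP (LK LD1_c16 LD2_c0 LD3_c47)) :=
  Lre_c IH (LK LD1_c8 LD2_c31 LD3_c51) (LK LD1_c16 LD2_c0 LD3_c47) Lrfl Lrfl
theorem f229440 : Led Lsl_bt (LP (LK LD1_c17 LD2_c43 LD3_c61)) = (LP (LK LD1_c9 LD2_c38 LD3_c9)) :=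
  Lre_b IH (LK LD1_c17 LD2_c43 LD3_c61) (LK LD1_c9 LD2_c38 LD3_c9) Lrfl Lrfl
theorem f39746 : Led Lsl_bt (LP (LK LD1_c1 LD2_c55 LD3_c19)) = (LP (LK LD1_c3 LD2_c57 LD3_c7)) :=
  Lre_b IH (LK LD1_c1 LD2_c55 LD3_c19) (LK LD1_c3 LD2_c57 LD3_c7) Lrfl Lrfl
theorem f43195 : Led Lsl_gt (LP (LK LD1_c3 LD2_c57 LD3_c7)) = (LP (LK LD1_c7 LD2_c55 LD3_c56)) :=
  Lre_g IH (LK LD1_c3 LD2_c57 LD3_c7) (LK LD1_c7 LD2_c55 LD3_c56) Lrfl Lrfl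
theorem f39652 : Led Lsl_ct (LP (LK LD1_c7 LD2_c55 LD3_c56)) = (LP (LK LD1_c14 LD2_c57 LD3_c51)) :=
  Lre_c IH (LK LD1_c7 LD2_c55 LD3_c56) (LK LD1_c14 LD2_c57 LD3_c51) Lrfl Lrfl
theorem f39653 : Led Lsl_gt (LP (LK LD1_c14 LD2_c57 LD3_c51)) = (LP (LK LD1_c24 LD2_c45 LD3_c18)) :=
  Lre_g IH (LK LD1_c14 LD2_c57 LD3_c51) (LK LD1_c24 LD2_c45 LD3_c18) Lrfl Lrfl
theorem f229441 : Led Lsl_cf (LP (LK LD1_c24 LD2_c45 LD3_c18)) = (LP (LK LD1_c17 LD2_c43 LD3_c61)) :=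
  Lgr Lrot163 (Lpe (f39653 IH) (Lpe (f39652 IH) (Lpe (f43195 IH) (Lpe (f39746 IH) (Lpr_ct (K12.f43103 IH) (Lpe (K12.f43209 IH) (Lpr_cf (K12.f229414 IH) (Lpr_bt (K16.f229438 IH) (Lpe (f229439 IH) (Lpe (f229440 IH) (Lpn (LP (LK LD1_c17 LD2_c43 LD3_c61)))))))))))))
theorem f229446 : Led Lsl_ct (LP (LK LD1_c24 LD2_c45 LD3_c18)) = (LP (LK LD1_c17 LD2_c43 LD3_c61)) :=
  Lgr Lrot59 (Lpr_cf (f229441 IH) (Lpn (LP (LK LD1_c17 LD2_c43 LD3_c61))))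
theorem f250580 : Led Lsl_bt (LP (LK LD1_c16 LD2_c0 LD3_c47)) = (LP (LK LD1_c24 LD2_c45 LD3_c18)) :=
  Lgr Lrot128 (Lpe (f250530 IH) (Lpe (f250532 IH) (Lpr_cf (f250559 IH) (Lpe (f229440 IH) (Lpe (f229446 IH) (Lpn (LP (LK LD1_c24 LD2_c45 LD3_c18))))))))
theorem f250556 : Led Lsl_ct (LP (LK LD1_c16 LD2_c0 LD3_c47)) = (LP (LK LD1_c8 LD2_c31 LD3_c51)) :=
  Lre_c IH (LK LD1_c16 LD2_c0 LD3_c47) (LK LD1_c8 LD2_c31 LD3_c51) Lrfl Lrfl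
theorem f250513 : Led Lsl_ct (LP (LK LD1_c8 LD2_c31 LD3_c54)) = (LP (LK LD1_c4 LD2_c16 LD3_c21)) :=
  Lre_c IH (LK LD1_c8 LD2_c31 LD3_c54) (LK LD1_c4 LD2_c16 LD3_c21) Lrfl Lrfl
theorem f43198 : Led Lsl_gt (LP (LK LD1_c24 LD2_c45 LD3_c18)) = (LP (LK LD1_c14 LD2_c57 LD3_c55)) :=
  Lre_g IH (LK LD1_c24 LD2_c45 LD3_c18) (LK LD1_c14 LD2_c57 LD3_c55) Lrfl Lrfl
theorem f43197 : Led Lsl_ct (LP (LK LD1_c14 LD2_c57 LD3_c55)) = (LP (LK LD1_c7 LD2_c55 LD3_c57)) :=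
  Lre_c IH (LK LD1_c14 LD2_c57 LD3_c55) (LK LD1_c7 LD2_c55 LD3_c57) Lrfl Lrfl
theorem f43196 : Led Lsl_gt (LP (LK LD1_c7 LD2_c55 LD3_c57)) = (LP (LK LD1_c3 LD2_c57 LD3_c7)) :=
  Lre_g IH (LK LD1_c7 LD2_c55 LD3_c57) (LK LD1_c3 LD2_c57 LD3_c7) Lrfl Lrfl
theorem f43176 : Led Lsl_ct (LP (LK LD1_c5 LD2_c21 LD3_c16)) = (LP (LK LD1_c3 LD2_c57 LD3_c7)) :=
  Lgr Lrot15 (Lpr_ef (K11.f42656 IH) (Lpr_cf (K11.f29080 IH) (Lpe (K11.f29094 IH) (Lpn (LP (LK LD1_c3 LD2_c57 LD3_c7))))))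
theorem f250586 : Led Lsl_bt (LP (LK LD1_c8 LD2_c31 LD3_c54)) = (LP (LK LD1_c5 LD2_c21 LD3_c15)) :=
  Lgr Lrot92 (Lpr_ct (f250513 IH) (Lpr_gt (f250529 IH) (Lpe (f250556 IH) (Lpr_bt (f250580 IH) (Lpr_gt (f43198 IH) (Lpr_ct (f43197 IH) (Lpr_gt (f43196 IH) (Lpe (f43176 IH) (Lpr_bt (K11.f42655 IH) (Lpr_gt (K14.f43199 IH) (Lpn (LP (LK LD1_c5 LD2_c21 LD3_c15)))))))))))))
theorem f250592 : Led Lsl_et (LP (LK LD1_c16 LD2_c0 LD3_c59)) = (LP (LK LD1_c8 LD2_c31 LD3_c54)) :=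
  Lre_e IH (LK LD1_c16 LD2_c0 LD3_c59) (LK LD1_c8 LD2_c31 LD3_c54) Lrfl Lrfl
theorem f250518 : Led Lsl_et (LP (LK LD1_c5 LD2_c21 LD3_c15)) = (LP (LK LD1_c10 LD2_c32 LD3_c46)) :=
  Lre_e IH (LK LD1_c5 LD2_c21 LD3_c15) (LK LD1_c10 LD2_c32 LD3_c46) Lrfl Lrfl
theorem f250593 : Led Lsl_bf (LP (LK LD1_c16 LD2_c0 LD3_c59)) = (LP (LK LD1_c10 LD2_c32 LD3_c46)) :=
  Lgr Lrot96 (Lpr_et (f250592 IH) (Lpr_bt (f250586 IH) (Lpr_et (f250518 IH) (Lpn (LP (LK LD1_c10 LD2_c32 LD3_c46))))))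
theorem f250599 : Led Lsl_ct (LP (LK LD1_c16 LD2_c0 LD3_c59)) = (LP (LK LD1_c8 LD2_c31 LD3_c56)) :=
  Lre_c IH (LK LD1_c16 LD2_c0 LD3_c59) (LK LD1_c8 LD2_c31 LD3_c56) Lrfl Lrfl
theorem f250600 : Led Lsl_bt (LP (LK LD1_c8 LD2_c31 LD3_c56)) = (LP (LK LD1_c4 LD2_c16 LD3_c24)) :=
  Lre_b IH (LK LD1_c8 LD2_c31 LD3_c56) (LK LD1_c4 LD2_c16 LD3_c24) Lrfl Lrfl
theorem f250540 : Led Lsl_ct (LP (LK LD1_c4 LD2_c16 LD3_c24)) = (LP (LK LD1_c8 LD2_c31 LD3_c58)) :=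
  Lre_c IH (LK LD1_c4 LD2_c16 LD3_c24) (LK LD1_c8 LD2_c31 LD3_c58) Lrfl Lrfl
theorem f246776 : Led Lsl_bt (LP (LK LD1_c8 LD2_c31 LD3_c58)) = (LP (LK LD1_c16 LD2_c1 LD3_c6)) :=
  Lre_b IH (LK LD1_c8 LD2_c31 LD3_c58) (LK LD1_c16 LD2_c1 LD3_c6) Lrfl Lrfl
theorem f250601 : Led Lsl_ct (LP (LK LD1_c16 LD2_c1 LD3_c6)) = (LP (LK LD1_c10 LD2_c32 LD3_c46)) :=
  Lgr Lrot83 (Lpe (f246776 IH) (Lpe (f250540 IH) (Lpe (f250600 IH) (Lpe (f250599 IH) (Lpr_bf (f250593 IH) (Lpn (LP (LK LD1_c10 LD2_c32 LD3_c46))))))))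
theorem f246780 : Led Lsl_bt (LP (LK LD1_c16 LD2_c1 LD3_c6)) = (LP (LK LD1_c8 LD2_c31 LD3_c58)) :=
  Lre_b IH (LK LD1_c16 LD2_c1 LD3_c6) (LK LD1_c8 LD2_c31 LD3_c58) Lrfl Lrfl
theorem f250547 : Led Lsl_gt (LP (LK LD1_c8 LD2_c31 LD3_c58)) = (LP (LK LD1_c16 LD2_c1 LD3_c7)) :=
  Lre_g IH (LK LD1_c8 LD2_c31 LD3_c58) (LK LD1_c16 LD2_c1 LD3_c7) Lrfl Lrfl
theorem f321058 : Led Lsl_bt (LP (LK LD1_c15 LD2_c6 LD3_c40)) = (LP (LK LD1_c16 LD2_c1 LD3_c7)) :=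
  Lgr Lrot92 (Lpr_ct (f321052 IH) (Lpr_gt (f307896 IH) (Lpe (f307764 IH) (Lpe (K19.f310281 IH) (Lpr_gt (K17.f215489 IH) (Lpr_ct (f215475 IH) (Lpe (f258417 IH) (Lpe (f250601 IH) (Lpr_bt (f246780 IH) (Lpr_gt (f250547 IH) (Lpn (LP (LK LD1_c16 LD2_c1 LD3_c7)))))))))))))
theorem f321060 : Led Lsl_bf (LP (LK LD1_c15 LD2_c6 LD3_c40)) = (LP (LK LD1_c16 LD2_c1 LD3_c7)) :=
  Lgr Lrot24 (Lpr_bt (f321058 IH) (Lpn (LP (LK LD1_c16 LD2_c1 LD3_c7))))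
theorem f258454 : Led Lsl_gt (LP (LK LD1_c15 LD2_c6 LD3_c40)) = (LP (LK LD1_c24 LD2_c54 LD3_c44)) :=
  Lre_g IH (LK LD1_c15 LD2_c6 LD3_c40) (LK LD1_c24 LD2_c54 LD3_c44) Lrfl Lrfl
theorem f243357 : Led Lsl_et (LP (LK LD1_c8 LD2_c30 LD3_c13)) = (LP (LK LD1_c4 LD2_c15 LD3_c37)) :=
  Lre_e IH (LK LD1_c8 LD2_c30 LD3_c13) (LK LD1_c4 LD2_c15 LD3_c37) Lrfl Lrfl
theorem f586 : Led Lsl_ef (LP (LK LD1_c0 LD2_c57 LD3_c61)) = (LP (LK LD1_c0 LD2_c59 LD3_c48)) :=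
  Lgr Lrot28 (Lpr_ct (K13.f584 IH) (Lpr_et (K1.f559 IH) (Lpr_ct (K9.f585 IH) (Lpn (LP (LK LD1_c0 LD2_c59 LD3_c48))))))
theorem f1317 : Led Lsl_gt (LP (LK LD1_c8 LD2_c19 LD3_c30)) = (LP (LK LD1_c15 LD2_c39 LD3_c42)) :=
  Lre_g IH (LK LD1_c8 LD2_c19 LD3_c30) (LK LD1_c15 LD2_c39 LD3_c42) Lrfl Lrfl
theorem f243358 : Led Lsl_dt (LP (LK LD1_c8 LD2_c30 LD3_c13)) = (LP (LK LD1_c15 LD2_c39 LD3_c42)) :=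
  Lgr Lrot37 (Lpr_et (f243357 IH) (Lpr_gt (K15.f167408 IH) (Lpr_dt (K15.f243304 IH) (Lpr_gt (K12.f1021 IH) (Lpe (K17.f1007 IH) (Lpe (f586 IH) (Lpr_gt (K14.f1312 IH) (Lpe (K17.f1315 IH) (Lpr_dt (K17.f1316 IH) (Lpr_gt (f1317 IH) (Lpn (LP (LK LD1_c15 LD2_c39 LD3_c42)))))))))))))
theorem f243361 : Led Lsl_df (LP (LK LD1_c8 LD2_c30 LD3_c13)) = (LP (LK LD1_c15 LD2_c39 LD3_c42)) :=
  Lgr Lrot38 (Lpr_dt (f243358 IH) (Lpn (LP (LK LD1_c15 LD2_c39 LD3_c42))))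
theorem f298740 : Led Lsl_ff (LP (LK LD1_c15 LD2_c39 LD3_c42)) = (LP (LK LD1_c25 LD2_c27 LD3_c60)) :=
  Lgr Lrot19 (Lpe (f243361 IH) (Lpr_ft (f243366 IH) (Lpr_dt (f298734 IH) (Lpn (LP (LK LD1_c25 LD2_c27 LD3_c60))))))
theorem f258763 : Led Lsl_dt (LP (LK LD1_c10 LD2_c50 LD3_c15)) = (LP (LK LD1_c19 LD2_c35 LD3_c33)) :=
  Lre_d IH (LK LD1_c10 LD2_c50 LD3_c15) (LK LD1_c19 LD2_c35 LD3_c33) Lrfl Lrfl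
theorem f295751 : Led Lsl_ct (LP (LK LD1_c19 LD2_c35 LD3_c33)) = (LP (LK LD1_c28 LD2_c57 LD3_c31)) :=
  Lre_c IH (LK LD1_c19 LD2_c35 LD3_c33) (LK LD1_c28 LD2_c57 LD3_c31) Lrfl Lrfl
theorem f295752 : Led Lsl_dt (LP (LK LD1_c28 LD2_c57 LD3_c31)) = (LP (LK LD1_c19 LD2_c38 LD3_c48)) :=
  Lre_d IH (LK LD1_c28 LD2_c57 LD3_c31) (LK LD1_c19 LD2_c38 LD3_c48) Lrfl Lrfl
theorem f295753 : Led Lsl_ct (LP (LK LD1_c19 LD2_c38 LD3_c48)) = (LP (LK LD1_c10 LD2_c51 LD3_c60)) :=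
  Lre_c IH (LK LD1_c19 LD2_c38 LD3_c48) (LK LD1_c10 LD2_c51 LD3_c60) Lrfl Lrfl
theorem f298747 : Led Lsl_at (LP (LK LD1_c15 LD2_c39 LD3_c42)) = (LP (LK LD1_c10 LD2_c51 LD3_c60)) :=
  Lgr Lrot33 (Lpr_ff (f298740 IH) (Lpe (f298738 IH) (Lpr_ct (K18.f295725 IH) (Lpe (K18.f295741 IH) (Lpr_ct (K18.f222652 IH) (Lpr_dt (f258763 IH) (Lpr_ct (f295751 IH) (Lpr_dt (f295752 IH) (Lpr_ct (f295753 IH) (Lpn (LP (LK LD1_c10 LD2_c51 LD3_c60))))))))))))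
theorem f298750 : Led Lsl_gt (LP (LK LD1_c15 LD2_c34 LD3_c14)) = (LP (LK LD1_c10 LD2_c51 LD3_c60)) :=
  Lgr Lrot46 (Lpe (f170356 IH) (Lpe (f298740 IH) (Lpr_at (f298747 IH) (Lpn (LP (LK LD1_c10 LD2_c51 LD3_c60))))))
theorem f236214 : Led Lsl_ct (LP (LK LD1_c2 LD2_c41 LD3_c23)) = (LP (LK LD1_c5 LD2_c30 LD3_c16)) :=
  Lre_c IH (LK LD1_c2 LD2_c41 LD3_c23) (LK LD1_c5 LD2_c30 LD3_c16) Lrfl Lrfl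
theorem f236213 : Led Lsl_ct (LP (LK LD1_c15 LD2_c33 LD3_c56)) = (LP (LK LD1_c8 LD2_c16 LD3_c41)) :=
  Lre_c IH (LK LD1_c15 LD2_c33 LD3_c56) (LK LD1_c8 LD2_c16 LD3_c41) Lrfl Lrfl
theorem f298752 : Led Lsl_gf (LP (LK LD1_c8 LD2_c16 LD3_c50)) = (LP (LK LD1_c15 LD2_c33 LD3_c56)) :=
  Lgr Lrot144 (Lpr_dt (K17.f1304 IH) (Lpr_gt (f298750 IH) (Lpr_dt (f236211 IH) (Lpe (f236214 IH) (Lpe (K14.f236152 IH) (Lpe (K13.f236149 IH) (Lpe (K13.f236195 IH) (Lpe (K15.f236197 IH) (Lpe (f236213 IH) (Lpn (LP (LK LD1_c15 LD2_c33 LD3_c56))))))))))))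
theorem f258492 : Led Lsl_af (LP (LK LD1_c8 LD2_c16 LD3_c50)) = (LP (LK LD1_c4 LD2_c9 LD3_c43)) :=
  Lgr Lrot68 (Lpr_ct (K16.f170340 IH) (Lpr_at (K15.f258487 IH) (Lpr_ct (K15.f251806 IH) (Lpn (LP (LK LD1_c4 LD2_c9 LD3_c43))))))
theorem f298757 : Led Lsl_gt (LP (LK LD1_c8 LD2_c19 LD3_c31)) = (LP (LK LD1_c15 LD2_c33 LD3_c56)) :=
  Lgr Lrot5 (Lpr_ft (K17.f258519 IH) (Lpe (f258492 IH) (Lpr_gf (f298752 IH) (Lpn (LP (LK LD1_c15 LD2_c33 LD3_c56))))))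
theorem f236209 : Led Lsl_ct (LP (LK LD1_c8 LD2_c16 LD3_c41)) = (LP (LK LD1_c15 LD2_c33 LD3_c56)) :=
  Lre_c IH (LK LD1_c8 LD2_c16 LD3_c41) (LK LD1_c15 LD2_c33 LD3_c56) Lrfl Lrfl
theorem f247248 : Led Lsl_bf (LP (LK LD1_c8 LD2_c9 LD3_c39)) = (LP (LK LD1_c10 LD2_c50 LD3_c42)) :=
  Lgr Lrot93 (Lpr_dt (K14.f247202 IH) (Lpr_bt (K14.f168388 IH) (Lpr_dt (K17.f168403 IH) (Lpn (LP (LK LD1_c10 LD2_c50 LD3_c42))))))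
theorem f235804 : Led Lsl_gt (LP (LK LD1_c2 LD2_c40 LD3_c12)) = (LP (LK LD1_c5 LD2_c27 LD3_c40)) :=
  Lre_g IH (LK LD1_c2 LD2_c40 LD3_c12) (LK LD1_c5 LD2_c27 LD3_c40) Lrfl Lrfl
theorem f235808 : Led Lsl_ct (LP (LK LD1_c5 LD2_c27 LD3_c40)) = (LP (LK LD1_c10 LD2_c46 LD3_c27)) :=
  Lre_c IH (LK LD1_c5 LD2_c27 LD3_c40) (LK LD1_c10 LD2_c46 LD3_c27) Lrfl Lrfl
theorem f168417 : Led Lsl_ct (LP (LK LD1_c10 LD2_c50 LD3_c35)) = (LP (LK LD1_c5 LD2_c29 LD3_c43)) :=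
  Lre_c IH (LK LD1_c10 LD2_c50 LD3_c35) (LK LD1_c5 LD2_c29 LD3_c43) Lrfl Lrfl
theorem f298879 : Led Lsl_gt (LP (LK LD1_c10 LD2_c46 LD3_c27)) = (LP (LK LD1_c16 LD2_c44 LD3_c25)) :=
  Lgr Lrot150 (Lpe (f235808 IH) (Lpe (f235804 IH) (Lpr_df (K19.f235999 IH) (Lpr_gt (K18.f236018 IH) (Lpr_ct (K18.f236019 IH) (Lpr_gt (K18.f298728 IH) (Lpr_ct (f168417 IH) (Lpe (K14.f168497 IH) (Lpe (K17.f213819 IH) (Lpn (LP (LK LD1_c16 LD2_c44 LD3_c25))))))))))))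
theorem f298892 : Led Lsl_bf (LP (LK LD1_c8 LD2_c55 LD3_c45)) = (LP (LK LD1_c5 LD2_c27 LD3_c40)) :=
  Lgr Lrot34 (Lpe (K15.f197609 IH) (Lpe (K12.f228042 IH) (Lpe (K12.f228143 IH) (Lpr_gf (K18.f298887 IH) (Lpe (K18.f200455 IH) (Lpr_gf (K18.f297981 IH) (Lpr_bf (f247248 IH) (Lpe (K17.f213807 IH) (Lpe (f298879 IH) (Lpe (f235808 IH) (Lpn (LP (LK LD1_c5 LD2_c27 LD3_c40)))))))))))))
theorem f236236 : Led Lsl_dt (LP (LK LD1_c8 LD2_c55 LD3_c45)) = (LP (LK LD1_c15 LD2_c33 LD3_c57)) :=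
  Lgr Lrot42 (Lpr_df (K15.f236234 IH) (Lpn (LP (LK LD1_c15 LD2_c33 LD3_c57))))
theorem f236020 : Led Lsl_dt (LP (LK LD1_c10 LD2_c46 LD3_c28)) = (LP (LK LD1_c5 LD2_c27 LD3_c40)) :=
  Lre_d IH (LK LD1_c10 LD2_c46 LD3_c28) (LK LD1_c5 LD2_c27 LD3_c40) Lrfl Lrfl
theorem f298900 : Led Lsl_bt (LP (LK LD1_c15 LD2_c33 LD3_c57)) = (LP (LK LD1_c10 LD2_c46 LD3_c28)) :=
  Lgr Lrot95 (Lpe (f236236 IH) (Lpr_bf (f298892 IH) (Lpe (f236020 IH) (Lpn (LP (LK LD1_c10 LD2_c46 LD3_c28))))))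
theorem f236238 : Led Lsl_et (LP (LK LD1_c8 LD2_c16 LD3_c41)) = (LP (LK LD1_c15 LD2_c33 LD3_c57)) :=
  Lre_e IH (LK LD1_c8 LD2_c16 LD3_c41) (LK LD1_c15 LD2_c33 LD3_c57) Lrfl Lrfl
theorem f236021 : Led Lsl_et (LP (LK LD1_c4 LD2_c8 LD3_c16)) = (LP (LK LD1_c2 LD2_c1 LD3_c30)) :=
  Lre_e IH (LK LD1_c4 LD2_c8 LD3_c16) (LK LD1_c2 LD2_c1 LD3_c30) Lrfl Lrfl
theorem f222039 : Led Lsl_gt (LP (LK LD1_c8 LD2_c29 LD3_c51)) = (LP (LK LD1_c4 LD2_c15 LD3_c28)) :=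
  Lre_g IH (LK LD1_c8 LD2_c29 LD3_c51) (LK LD1_c4 LD2_c15 LD3_c28) Lrfl Lrfl
theorem f250733 : Led Lsl_et (LP (LK LD1_c10 LD2_c46 LD3_c28)) = (LP (LK LD1_c8 LD2_c29 LD3_c51)) :=
  Lgr Lrot121 (Lpr_dt (f236020 IH) (Lpe (f235804 IH) (Lpr_df (K19.f235999 IH) (Lpr_et (f236021 IH) (Lpr_gf (K14.f250722 IH) (Lpe (K18.f167748 IH) (Lpr_dt (K12.f167726 IH) (Lpe (K18.f167749 IH) (Lpe (K18.f250731 IH) (Lpe (f222039 IH) (Lpn (LP (LK LD1_c8 LD2_c29 LD3_c51)))))))))))))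
theorem f298905 : Led Lsl_bf (LP (LK LD1_c8 LD2_c16 LD3_c41)) = (LP (LK LD1_c8 LD2_c29 LD3_c51)) :=
  Lgr Lrot96 (Lpr_et (f236238 IH) (Lpr_bt (f298900 IH) (Lpr_et (f250733 IH) (Lpn (LP (LK LD1_c8 LD2_c29 LD3_c51))))))
theorem f298907 : Led Lsl_bt (LP (LK LD1_c8 LD2_c16 LD3_c41)) = (LP (LK LD1_c8 LD2_c29 LD3_c51)) :=
  Lgr Lrot127 (Lpr_bf (f298905 IH) (Lpn (LP (LK LD1_c8 LD2_c29 LD3_c51))))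
theorem f222018 : Led Lsl_ct (LP (LK LD1_c4 LD2_c15 LD3_c28)) = (LP (LK LD1_c8 LD2_c29 LD3_c50)) :=
  Lre_c IH (LK LD1_c4 LD2_c15 LD3_c28) (LK LD1_c8 LD2_c29 LD3_c50) Lrfl Lrfl
theorem f222045 : Led Lsl_gt (LP (LK LD1_c8 LD2_c29 LD3_c50)) = (LP (LK LD1_c15 LD2_c57 LD3_c14)) :=
  Lre_g IH (LK LD1_c8 LD2_c29 LD3_c50) (LK LD1_c15 LD2_c57 LD3_c14) Lrfl Lrfl
theorem f321062 : Led Lsl_cf (LP (LK LD1_c15 LD2_c57 LD3_c14)) = (LP (LK LD1_c16 LD2_c1 LD3_c7)) :=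
  Lgr Lrot163 (Lpe (f222045 IH) (Lpe (f222018 IH) (Lpe (f222039 IH) (Lpe (f298907 IH) (Lpr_ct (f236209 IH) (Lpe (f298757 IH) (Lpe (K17.f258480 IH) (Lpe (K15.f258473 IH) (Lpe (f258454 IH) (Lpr_bf (f321060 IH) (Lpn (LP (LK LD1_c16 LD2_c1 LD3_c7)))))))))))))
theorem f222031 : Led Lsl_bt (LP (LK LD1_c4 LD2_c15 LD3_c28)) = (LP (LK LD1_c8 LD2_c29 LD3_c46)) :=
  Lre_b IH (LK LD1_c4 LD2_c15 LD3_c28) (LK LD1_c8 LD2_c29 LD3_c46) Lrfl Lrfl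
theorem f284129 : Led Lsl_ct (LP (LK LD1_c8 LD2_c34 LD3_c16)) = (LP (LK LD1_c16 LD2_c5 LD3_c11)) :=
  Lre_c IH (LK LD1_c8 LD2_c34 LD3_c16) (LK LD1_c16 LD2_c5 LD3_c11) Lrfl Lrfl
theorem f321068 : Led Lsl_gf (LP (LK LD1_c16 LD2_c5 LD3_c11)) = (LP (LK LD1_c20 LD2_c54 LD3_c52)) :=
  Lgr Lrot129 (Lpe (f284129 IH) (Lpe (f310305 IH) (Lpr_gt (f222030 IH) (Lpe (f222031 IH) (Lpr_ct (f222018 IH) (Lpr_gt (f222045 IH) (Lpr_cf (f321062 IH) (Lpe (f321060 IH) (Lpr_gt (f258454 IH) (Lpe (K15.f258448 IH) (Lpn (LP (LK LD1_c20 LD2_c54 LD3_c52)))))))))))))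
theorem f321070 : Led Lsl_gt (LP (LK LD1_c16 LD2_c5 LD3_c11)) = (LP (LK LD1_c11 LD2_c52 LD3_c0)) :=
  Lgr Lrot46 (Lpr_gf (f321068 IH) (Lpr_ft (K15.f258446 IH) (Lpe (K16.f270810 IH) (Lpn (LP (LK LD1_c11 LD2_c52 LD3_c0))))))
theorem f284128 : Led Lsl_ct (LP (LK LD1_c16 LD2_c5 LD3_c11)) = (LP (LK LD1_c8 LD2_c34 LD3_c16)) :=
  Lre_c IH (LK LD1_c16 LD2_c5 LD3_c11) (LK LD1_c8 LD2_c34 LD3_c16) Lrfl Lrfl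
theorem f238648 : Led Lsl_ct (LP (LK LD1_c4 LD2_c17 LD3_c21)) = (LP (LK LD1_c8 LD2_c33 LD3_c48)) :=
  Lre_c IH (LK LD1_c4 LD2_c17 LD3_c21) (LK LD1_c8 LD2_c33 LD3_c48) Lrfl Lrfl
theorem f238647 : Led Lsl_dt (LP (LK LD1_c16 LD2_c4 LD3_c26)) = (LP (LK LD1_c8 LD2_c33 LD3_c48)) :=
  Lre_d IH (LK LD1_c16 LD2_c4 LD3_c26) (LK LD1_c8 LD2_c33 LD3_c48) Lrfl Lrfl
theorem f42094 : Led Lsl_dt (LP (LK LD1_c11 LD2_c52 LD3_c0)) = (LP (LK LD1_c20 LD2_c54 LD3_c42)) :=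
  Lre_d IH (LK LD1_c11 LD2_c52 LD3_c0) (LK LD1_c20 LD2_c54 LD3_c42) Lrfl Lrfl
theorem f321073 : Led Lsl_gf (LP (LK LD1_c16 LD2_c4 LD3_c26)) = (LP (LK LD1_c20 LD2_c54 LD3_c42)) :=
  Lgr Lrot143 (Lpr_dt (f238647 IH) (Lpe (f238648 IH) (Lpr_df (K14.f247387 IH) (Lpe (K17.f247396 IH) (Lpr_df (K17.f284116 IH) (Lpe (f7984 IH) (Lpe (f284128 IH) (Lpr_gt (f321070 IH) (Lpr_dt (f42094 IH) (Lpn (LP (LK LD1_c20 LD2_c54 LD3_c42))))))))))))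
theorem f267025 : Led Lsl_gt (LP (LK LD1_c16 LD2_c4 LD3_c26)) = (LP (LK LD1_c26 LD2_c1 LD3_c39)) :=
  Lre_g IH (LK LD1_c16 LD2_c4 LD3_c26) (LK LD1_c26 LD2_c1 LD3_c39) Lrfl Lrfl
theorem f258445 : Led Lsl_dt (LP (LK LD1_c20 LD2_c54 LD3_c51)) = (LP (LK LD1_c11 LD2_c52 LD3_c5)) :=
  Lre_d IH (LK LD1_c20 LD2_c54 LD3_c51) (LK LD1_c11 LD2_c52 LD3_c5) Lrfl Lrfl
theorem f270817 : Led Lsl_at (LP (LK LD1_c20 LD2_c54 LD3_c42)) = (LP (LK LD1_c20 LD2_c54 LD3_c51)) :=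
  Lgr Lrot51 (Lpe (f42094 IH) (Lpr_af (K16.f270810 IH) (Lpe (f258445 IH) (Lpn (LP (LK LD1_c20 LD2_c54 LD3_c51))))))
theorem f42664 : Led Lsl_et (LP (LK LD1_c11 LD2_c52 LD3_c5)) = (LP (LK LD1_c6 LD2_c4 LD3_c20)) :=
  Lre_e IH (LK LD1_c11 LD2_c52 LD3_c5) (LK LD1_c6 LD2_c4 LD3_c20) Lrfl Lrfl
theorem f42665 : Led Lsl_dt (LP (LK LD1_c11 LD2_c52 LD3_c5)) = (LP (LK LD1_c20 LD2_c54 LD3_c51)) :=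
  Lre_d IH (LK LD1_c11 LD2_c52 LD3_c5) (LK LD1_c20 LD2_c54 LD3_c51) Lrfl Lrfl
theorem f260893 : Led Lsl_et (LP (LK LD1_c8 LD2_c20 LD3_c32)) = (LP (LK LD1_c4 LD2_c10 LD3_c11)) :=
  Lre_e IH (LK LD1_c8 LD2_c20 LD3_c32) (LK LD1_c4 LD2_c10 LD3_c11) Lrfl Lrfl
theorem f182305 : Led Lsl_dt (LP (LK LD1_c8 LD2_c20 LD3_c32)) = (LP (LK LD1_c15 LD2_c42 LD3_c7)) :=
  Lre_d IH (LK LD1_c8 LD2_c20 LD3_c32) (LK LD1_c15 LD2_c42 LD3_c7) Lrfl Lrfl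
theorem f267565 : Led Lsl_gt (LP (LK LD1_c20 LD2_c54 LD3_c51)) = (LP (LK LD1_c15 LD2_c42 LD3_c7)) :=
  Lgr Lrot112 (Lpe (f42665 IH) (Lpr_et (f42664 IH) (Lpe (K15.f29085 IH) (Lpe (K9.f42651 IH) (Lpr_dt (K9.f42662 IH) (Lpr_gf (K15.f267554 IH) (Lpe (K15.f260888 IH) (Lpe (K15.f260886 IH) (Lpe (f260893 IH) (Lpr_dt (f182305 IH) (Lpn (LP (LK LD1_c15 LD2_c42 LD3_c7)))))))))))))
theorem f247390 : Led Lsl_dt (LP (LK LD1_c8 LD2_c33 LD3_c48)) = (LP (LK LD1_c16 LD2_c4 LD3_c26)) :=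
  Lre_d IH (LK LD1_c8 LD2_c33 LD3_c48) (LK LD1_c16 LD2_c4 LD3_c26) Lrfl Lrfl
theorem f182271 : Led Lsl_dt (LP (LK LD1_c15 LD2_c42 LD3_c7)) = (LP (LK LD1_c8 LD2_c20 LD3_c32)) :=
  Lre_d IH (LK LD1_c15 LD2_c42 LD3_c7) (LK LD1_c8 LD2_c20 LD3_c32) Lrfl Lrfl
theorem f267001 : Led Lsl_at (LP (LK LD1_c16 LD2_c4 LD3_c26)) = (LP (LK LD1_c15 LD2_c42 LD3_c7)) :=
  Lgr Lrot51 (Lpe (f247390 IH) (Lpr_af (K15.f266993 IH) (Lpe (f182271 IH) (Lpn (LP (LK LD1_c15 LD2_c42 LD3_c7))))))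
theorem f247389 : Led Lsl_ft (LP (LK LD1_c26 LD2_c1 LD3_c40)) = (LP (LK LD1_c16 LD2_c4 LD3_c26)) :=
  Lre_f IH (LK LD1_c26 LD2_c1 LD3_c40) (LK LD1_c16 LD2_c4 LD3_c26) Lrfl Lrfl
theorem f267567 : Led Lsl_gf (LP (LK LD1_c20 LD2_c54 LD3_c51)) = (LP (LK LD1_c26 LD2_c1 LD3_c40)) :=
  Lgr Lrot47 (Lpr_gt (f267565 IH) (Lpe (f267001 IH) (Lpe (f247389 IH) (Lpn (LP (LK LD1_c26 LD2_c1 LD3_c40))))))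
theorem f238715 : Led Lsl_dt (LP (LK LD1_c26 LD2_c1 LD3_c40)) = (LP (LK LD1_c16 LD2_c4 LD3_c27)) :=
  Lre_d IH (LK LD1_c26 LD2_c1 LD3_c40) (LK LD1_c16 LD2_c4 LD3_c27) Lrfl Lrfl
theorem f182293 : Led Lsl_dt (LP (LK LD1_c15 LD2_c42 LD3_c8)) = (LP (LK LD1_c25 LD2_c37 LD3_c52)) :=
  Lre_d IH (LK LD1_c15 LD2_c42 LD3_c8) (LK LD1_c25 LD2_c37 LD3_c52) Lrfl Lrfl
theorem f267013 : Led Lsl_af (LP (LK LD1_c26 LD2_c1 LD3_c40)) = (LP (LK LD1_c25 LD2_c37 LD3_c52)) :=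
  Lgr Lrot117 (Lpr_dt (f238715 IH) (Lpr_at (K15.f267005 IH) (Lpr_dt (f182293 IH) (Lpn (LP (LK LD1_c25 LD2_c37 LD3_c52))))))
theorem f182279 : Led Lsl_ft (LP (LK LD1_c15 LD2_c42 LD3_c7)) = (LP (LK LD1_c25 LD2_c37 LD3_c52)) :=
  Lre_f IH (LK LD1_c15 LD2_c42 LD3_c7) (LK LD1_c25 LD2_c37 LD3_c52) Lrfl Lrfl
theorem f267019 : Led Lsl_gt (LP (LK LD1_c15 LD2_c42 LD3_c7)) = (LP (LK LD1_c25 LD2_c37 LD3_c50)) :=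
  Lre_g IH (LK LD1_c15 LD2_c42 LD3_c7) (LK LD1_c25 LD2_c37 LD3_c50) Lrfl Lrfl
theorem f267020 : Led Lsl_gf (LP (LK LD1_c26 LD2_c1 LD3_c40)) = (LP (LK LD1_c25 LD2_c37 LD3_c50)) :=
  Lgr Lrot76 (Lpr_af (f267013 IH) (Lpe (f182279 IH) (Lpr_gt (f267019 IH) (Lpn (LP (LK LD1_c25 LD2_c37 LD3_c50))))))
theorem f270821 : Led Lsl_ff (LP (LK LD1_c20 LD2_c54 LD3_c42)) = (LP (LK LD1_c25 LD2_c37 LD3_c50)) :=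
  Lgr Lrot52 (Lpr_at (f270817 IH) (Lpr_gf (f267567 IH) (Lpr_gf (f267020 IH) (Lpn (LP (LK LD1_c25 LD2_c37 LD3_c50))))))
theorem f270824 : Led Lsl_ft (LP (LK LD1_c20 LD2_c54 LD3_c42)) = (LP (LK LD1_c25 LD2_c37 LD3_c50)) :=
  Lgr Lrot48 (Lpr_ff (f270821 IH) (Lpn (LP (LK LD1_c25 LD2_c37 LD3_c50))))
theorem f321093 : Led Lsl_af (LP (LK LD1_c26 LD2_c1 LD3_c39)) = (LP (LK LD1_c25 LD2_c37 LD3_c50)) :=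
  Lgr Lrot31 (Lpe (f267025 IH) (Lpr_gf (f321073 IH) (Lpr_ft (f270824 IH) (Lpn (LP (LK LD1_c25 LD2_c37 LD3_c50))))))
theorem f270819 : Led Lsl_af (LP (LK LD1_c20 LD2_c54 LD3_c42)) = (LP (LK LD1_c20 LD2_c54 LD3_c51)) :=
  Lgr Lrot0 (Lpr_at (f270817 IH) (Lpn (LP (LK LD1_c20 LD2_c54 LD3_c51))))
theorem f321097 : Led Lsl_ft (LP (LK LD1_c26 LD2_c1 LD3_c39)) = (LP (LK LD1_c20 LD2_c54 LD3_c51)) :=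
  Lgr Lrot101 (Lpr_af (f321093 IH) (Lpe (f270824 IH) (Lpr_af (f270819 IH) (Lpn (LP (LK LD1_c20 LD2_c54 LD3_c51))))))
theorem f321099 : Led Lsl_df (LP (LK LD1_c26 LD2_c1 LD3_c39)) = (LP (LK LD1_c20 LD2_c54 LD3_c52)) :=
  Lgr Lrot78 (Lpr_ft (f321097 IH) (Lpr_dt (f258445 IH) (Lpr_ft (K15.f258456 IH) (Lpn (LP (LK LD1_c20 LD2_c54 LD3_c52))))))
theorem f267017 : Led Lsl_at (LP (LK LD1_c26 LD2_c1 LD3_c40)) = (LP (LK LD1_c25 LD2_c37 LD3_c52)) :=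
  Lgr Lrot100 (Lpr_af (f267013 IH) (Lpn (LP (LK LD1_c25 LD2_c37 LD3_c52))))
theorem f267022 : Led Lsl_ft (LP (LK LD1_c16 LD2_c4 LD3_c26)) = (LP (LK LD1_c26 LD2_c1 LD3_c40)) :=
  Lre_f IH (LK LD1_c16 LD2_c4 LD3_c26) (LK LD1_c26 LD2_c1 LD3_c40) Lrfl Lrfl
theorem f267026 : Led Lsl_gt (LP (LK LD1_c26 LD2_c1 LD3_c39)) = (LP (LK LD1_c25 LD2_c37 LD3_c52)) :=
  Lgr Lrot46 (Lpe (f267025 IH) (Lpr_ft (f267022 IH) (Lpr_at (f267017 IH) (Lpn (LP (LK LD1_c25 LD2_c37 LD3_c52))))))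
theorem f182299 : Led Lsl_dt (LP (LK LD1_c25 LD2_c37 LD3_c52)) = (LP (LK LD1_c15 LD2_c42 LD3_c8)) :=
  Lre_d IH (LK LD1_c25 LD2_c37 LD3_c52) (LK LD1_c15 LD2_c42 LD3_c8) Lrfl Lrfl
theorem f310193 : Led Lsl_gt (LP (LK LD1_c8 LD2_c34 LD3_c15)) = (LP (LK LD1_c4 LD2_c17 LD3_c46)) :=
  Lre_g IH (LK LD1_c8 LD2_c34 LD3_c15) (LK LD1_c4 LD2_c17 LD3_c46) Lrfl Lrfl
theorem f284130 : Led Lsl_ct (LP (LK LD1_c8 LD2_c34 LD3_c15)) = (LP (LK LD1_c16 LD2_c5 LD3_c9)) :=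
  Lre_c IH (LK LD1_c8 LD2_c34 LD3_c15) (LK LD1_c16 LD2_c5 LD3_c9) Lrfl Lrfl
theorem f321105 : Led Lsl_gt (LP (LK LD1_c16 LD2_c5 LD3_c9)) = (LP (LK LD1_c20 LD2_c54 LD3_c52)) :=
  Lgr Lrot94 (Lpe (f284130 IH) (Lpr_gt (f310193 IH) (Lpe (K19.f310188 IH) (Lpr_gt (f267049 IH) (Lpr_dt (K15.f182277 IH) (Lpe (K15.f182298 IH) (Lpe (f182299 IH) (Lpe (f267026 IH) (Lpr_df (f321099 IH) (Lpn (LP (LK LD1_c20 LD2_c54 LD3_c52))))))))))))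
theorem f7982 : Led Lsl_gt (LP (LK LD1_c4 LD2_c17 LD3_c38)) = (LP (LK LD1_c8 LD2_c34 LD3_c15)) :=
  Lre_g IH (LK LD1_c4 LD2_c17 LD3_c38) (LK LD1_c8 LD2_c34 LD3_c15) Lrfl Lrfl
theorem f290076 : Led Lsl_bt (LP (LK LD1_c4 LD2_c11 LD3_c2)) = (LP (LK LD1_c4 LD2_c17 LD3_c38)) :=
  Lgr Lrot119 (Lpe (K17.f288791 IH) (Lpr_bf (K17.f290067 IH) (Lpe (K17.f7981 IH) (Lpn (LP (LK LD1_c4 LD2_c17 LD3_c38))))))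
theorem f289024 : Led Lsl_ct (LP (LK LD1_c4 LD2_c11 LD3_c2)) = (LP (LK LD1_c8 LD2_c21 LD3_c57)) :=
  Lre_c IH (LK LD1_c4 LD2_c11 LD3_c2) (LK LD1_c8 LD2_c21 LD3_c57) Lrfl Lrfl
theorem f295949 : Led Lsl_gt (LP (LK LD1_c15 LD2_c44 LD3_c33)) = (LP (LK LD1_c8 LD2_c21 LD3_c57)) :=
  Lre_g IH (LK LD1_c15 LD2_c44 LD3_c33) (LK LD1_c8 LD2_c21 LD3_c57) Lrfl Lrfl
theorem f246716 : Led Lsl_ef (LP (LK LD1_c19 LD2_c53 LD3_c50)) = (LP (LK LD1_c15 LD2_c34 LD3_c55)) :=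
  Lgr Lrot88 (Lpr_et (K19.f246714 IH) (Lpn (LP (LK LD1_c15 LD2_c34 LD3_c55))))
theorem f301101 : Led Lsl_et (LP (LK LD1_c9 LD2_c37 LD3_c43)) = (LP (LK LD1_c17 LD2_c43 LD3_c22)) :=
  Lre_e IH (LK LD1_c9 LD2_c37 LD3_c43) (LK LD1_c17 LD2_c43 LD3_c22) Lrfl Lrfl
theorem f170375 : Led Lsl_dt (LP (LK LD1_c17 LD2_c43 LD3_c21)) = (LP (LK LD1_c9 LD2_c37 LD3_c43)) :=
  Lre_d IH (LK LD1_c17 LD2_c43 LD3_c21) (LK LD1_c9 LD2_c37 LD3_c43) Lrfl Lrfl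
theorem f301102 : Led Lsl_et (LP (LK LD1_c11 LD2_c2 LD3_c32)) = (LP (LK LD1_c17 LD2_c43 LD3_c21)) :=
  Lgr Lrot71 (Lpe (K19.f213072 IH) (Lpr_ef (f246716 IH) (Lpr_df (K19.f301097 IH) (Lpe (f301101 IH) (Lpe (f170375 IH) (Lpn (LP (LK LD1_c17 LD2_c43 LD3_c21))))))))
theorem f301122 : Led Lsl_ef (LP (LK LD1_c11 LD2_c2 LD3_c32)) = (LP (LK LD1_c17 LD2_c43 LD3_c21)) :=
  Lgr Lrot88 (Lpr_et (f301102 IH) (Lpn (LP (LK LD1_c17 LD2_c43 LD3_c21))))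
theorem f301124 : Led Lsl_gt (LP (LK LD1_c15 LD2_c39 LD3_c35)) = (LP (LK LD1_c9 LD2_c37 LD3_c43)) :=
  Lgr Lrot139 (Lpr_df (f300990 IH) (Lpe (K18.f301075 IH) (Lpe (K18.f223080 IH) (Lpr_dt (K12.f223026 IH) (Lpr_gf (K12.f223064 IH) (Lpe (K12.f212849 IH) (Lpr_et (K12.f212852 IH) (Lpe (K19.f213071 IH) (Lpr_ef (f301122 IH) (Lpr_dt (f170375 IH) (Lpn (LP (LK LD1_c9 LD2_c37 LD3_c43)))))))))))))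
theorem f170377 : Led Lsl_bt (LP (LK LD1_c17 LD2_c43 LD3_c20)) = (LP (LK LD1_c9 LD2_c37 LD3_c43)) :=
  Lre_b IH (LK LD1_c17 LD2_c43 LD3_c20) (LK LD1_c9 LD2_c37 LD3_c43) Lrfl Lrfl
theorem f321156 : Led Lsl_cf (LP (LK LD1_c15 LD2_c44 LD3_c33)) = (LP (LK LD1_c17 LD2_c43 LD3_c20)) :=
  Lgr Lrot160 (Lpr_gt (f295949 IH) (Lpe (f289024 IH) (Lpr_bt (f290076 IH) (Lpr_gt (f7982 IH) (Lpr_ct (f284130 IH) (Lpr_gt (f321105 IH) (Lpr_cf (K15.f258448 IH) (Lpr_bt (K15.f258477 IH) (Lpr_gt (f301124 IH) (Lpe (f170377 IH) (Lpn (LP (LK LD1_c17 LD2_c43 LD3_c20)))))))))))))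
theorem f288854 : Led Lsl_dt (LP (LK LD1_c8 LD2_c21 LD3_c57)) = (LP (LK LD1_c15 LD2_c44 LD3_c34)) :=
  Lre_d IH (LK LD1_c8 LD2_c21 LD3_c57) (LK LD1_c15 LD2_c44 LD3_c34) Lrfl Lrfl
theorem f295948 : Led Lsl_et (LP (LK LD1_c4 LD2_c11 LD3_c1)) = (LP (LK LD1_c8 LD2_c21 LD3_c57)) :=
  Lre_e IH (LK LD1_c4 LD2_c11 LD3_c1) (LK LD1_c8 LD2_c21 LD3_c57) Lrfl Lrfl
theorem f295925 : Led Lsl_gt (LP (LK LD1_c8 LD2_c21 LD3_c33)) = (LP (LK LD1_c15 LD2_c43 LD3_c53)) :=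
  Lre_g IH (LK LD1_c8 LD2_c21 LD3_c33) (LK LD1_c15 LD2_c43 LD3_c53) Lrfl Lrfl
theorem f295930 : Led Lsl_dt (LP (LK LD1_c25 LD2_c40 LD3_c10)) = (LP (LK LD1_c15 LD2_c43 LD3_c53)) :=
  Lre_d IH (LK LD1_c25 LD2_c40 LD3_c10) (LK LD1_c15 LD2_c43 LD3_c53) Lrfl Lrfl
theorem f295950 : Led Lsl_ef (LP (LK LD1_c15 LD2_c44 LD3_c33)) = (LP (LK LD1_c25 LD2_c40 LD3_c10)) :=
  Lgr Lrot114 (Lpr_gt (f295949 IH) (Lpe (f295948 IH) (Lpr_dt (K17.f288809 IH) (Lpr_gt (K18.f295934 IH) (Lpe (K18.f178766 IH) (Lpr_et (K18.f178767 IH) (Lpe (K18.f295922 IH) (Lpr_dt (K17.f288883 IH) (Lpr_gt (f295925 IH) (Lpe (f295930 IH) (Lpn (LP (LK LD1_c25 LD2_c40 LD3_c10)))))))))))))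
theorem f252028 : Led Lsl_et (LP (LK LD1_c4 LD2_c10 LD3_c48)) = (LP (LK LD1_c2 LD2_c2 LD3_c38)) :=
  Lre_e IH (LK LD1_c4 LD2_c10 LD3_c48) (LK LD1_c2 LD2_c2 LD3_c38) Lrfl Lrfl
theorem f167199 : Led Lsl_et (LP (LK LD1_c8 LD2_c21 LD3_c23)) = (LP (LK LD1_c4 LD2_c10 LD3_c45)) :=
  Lre_e IH (LK LD1_c8 LD2_c21 LD3_c23) (LK LD1_c4 LD2_c10 LD3_c45) Lrfl Lrfl
theorem f167197 : Led Lsl_dt (LP (LK LD1_c8 LD2_c21 LD3_c23)) = (LP (LK LD1_c15 LD2_c43 LD3_c37)) :=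
  Lre_d IH (LK LD1_c8 LD2_c21 LD3_c23) (LK LD1_c15 LD2_c43 LD3_c37) Lrfl Lrfl
theorem f295955 : Led Lsl_gt (LP (LK LD1_c15 LD2_c44 LD3_c34)) = (LP (LK LD1_c15 LD2_c43 LD3_c37)) :=
  Lgr Lrot139 (Lpe (f288854 IH) (Lpe (f295949 IH) (Lpr_ef (f295950 IH) (Lpr_dt (f295930 IH) (Lpe (f295925 IH) (Lpe (K17.f288883 IH) (Lpr_et (f252028 IH) (Lpe (K15.f167085 IH) (Lpe (f167199 IH) (Lpr_dt (f167197 IH) (Lpn (LP (LK LD1_c15 LD2_c43 LD3_c37)))))))))))))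
theorem f167122 : Led Lsl_dt (LP (LK LD1_c15 LD2_c43 LD3_c37)) = (LP (LK LD1_c8 LD2_c21 LD3_c23)) :=
  Lre_d IH (LK LD1_c15 LD2_c43 LD3_c37) (LK LD1_c8 LD2_c21 LD3_c23) Lrfl Lrfl
theorem f167103 : Led Lsl_et (LP (LK LD1_c4 LD2_c10 LD3_c45)) = (LP (LK LD1_c8 LD2_c21 LD3_c23)) :=
  Lre_e IH (LK LD1_c4 LD2_c10 LD3_c45) (LK LD1_c8 LD2_c21 LD3_c23) Lrfl Lrfl
theorem f167104 : Led Lsl_et (LP (LK LD1_c8 LD2_c24 LD3_c9)) = (LP (LK LD1_c4 LD2_c12 LD3_c18)) :=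
  Lre_e IH (LK LD1_c8 LD2_c24 LD3_c9) (LK LD1_c4 LD2_c12 LD3_c18) Lrfl Lrfl
theorem f167105 : Led Lsl_ct (LP (LK LD1_c8 LD2_c21 LD3_c23)) = (LP (LK LD1_c8 LD2_c24 LD3_c9)) :=
  Lgr Lrot15 (Lpe (f167103 IH) (Lpr_cf (K15.f167087 IH) (Lpe (f167104 IH) (Lpn (LP (LK LD1_c8 LD2_c24 LD3_c9))))))
theorem f171929 : Led Lsl_bf (LP (LK LD1_c4 LD2_c55 LD3_c10)) = (LP (LK LD1_c7 LD2_c57 LD3_c40)) :=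
  Lgr Lrot24 (Lpr_bt (K14.f171925 IH) (Lpn (LP (LK LD1_c7 LD2_c57 LD3_c40))))
theorem f167115 : Led Lsl_bt (LP (LK LD1_c8 LD2_c24 LD3_c9)) = (LP (LK LD1_c4 LD2_c12 LD3_c20)) :=
  Lre_b IH (LK LD1_c8 LD2_c24 LD3_c9) (LK LD1_c4 LD2_c12 LD3_c20) Lrfl Lrfl
theorem f246742 : Led Lsl_dt (LP (LK LD1_c4 LD2_c55 LD3_c10)) = (LP (LK LD1_c8 LD2_c24 LD3_c9)) :=
  Lgr Lrot79 (Lpr_bf (f171929 IH) (Lpr_df (K14.f246740 IH) (Lpe (f167115 IH) (Lpn (LP (LK LD1_c8 LD2_c24 LD3_c9))))))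
theorem f171976 : Led Lsl_gt (LP (LK LD1_c9 LD2_c41 LD3_c51)) = (LP (LK LD1_c4 LD2_c55 LD3_c10)) :=
  Lre_g IH (LK LD1_c9 LD2_c41 LD3_c51) (LK LD1_c4 LD2_c55 LD3_c10) Lrfl Lrfl
theorem f221840 : Led Lsl_et (LP (LK LD1_c16 LD2_c1 LD3_c6)) = (LP (LK LD1_c8 LD2_c31 LD3_c57)) :=
  Lre_e IH (LK LD1_c16 LD2_c1 LD3_c6) (LK LD1_c8 LD2_c31 LD3_c57) Lrfl Lrfl
theorem f246774 : Led Lsl_dt (LP (LK LD1_c16 LD2_c1 LD3_c6)) = (LP (LK LD1_c9 LD2_c41 LD3_c51)) :=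
  Lgr Lrot136 (Lpr_et (f221840 IH) (Lpe (K12.f221836 IH) (Lpe (K12.f53835 IH) (Lpr_dt (K10.f53811 IH) (Lpr_gf (K12.f211422 IH) (Lpe (K12.f200526 IH) (Lpr_gf (K14.f246765 IH) (Lpe (f167104 IH) (Lpe (K14.f246754 IH) (Lpe (f171976 IH) (Lpn (LP (LK LD1_c9 LD2_c41 LD3_c51)))))))))))))
theorem f321161 : Led Lsl_gf (LP (LK LD1_c16 LD2_c1 LD3_c6)) = (LP (LK LD1_c17 LD2_c43 LD3_c20)) :=
  Lgr Lrot144 (Lpr_dt (f246774 IH) (Lpr_gt (f171976 IH) (Lpr_dt (f246742 IH) (Lpe (f167105 IH) (Lpe (f167122 IH) (Lpe (f295955 IH) (Lpe (f288854 IH) (Lpe (f295949 IH) (Lpr_cf (f321156 IH) (Lpn (LP (LK LD1_c17 LD2_c43 LD3_c20))))))))))))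
theorem f246779 : Led Lsl_et (LP (LK LD1_c8 LD2_c31 LD3_c57)) = (LP (LK LD1_c16 LD2_c1 LD3_c6)) :=
  Lre_e IH (LK LD1_c8 LD2_c31 LD3_c57) (LK LD1_c16 LD2_c1 LD3_c6) Lrfl Lrfl
theorem f178796 : Led Lsl_et (LP (LK LD1_c4 LD2_c13 LD3_c0)) = (LP (LK LD1_c8 LD2_c25 LD3_c13)) :=
  Lre_e IH (LK LD1_c4 LD2_c13 LD3_c0) (LK LD1_c8 LD2_c25 LD3_c13) Lrfl Lrfl
theorem f200435 : Led Lsl_bt (LP (LK LD1_c5 LD2_c38 LD3_c57)) = (LP (LK LD1_c2 LD2_c45 LD3_c28)) :=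
  Lre_b IH (LK LD1_c5 LD2_c38 LD3_c57) (LK LD1_c2 LD2_c45 LD3_c28) Lrfl Lrfl
theorem f200436 : Led Lsl_bt (LP (LK LD1_c2 LD2_c8 LD3_c49)) = (LP (LK LD1_c4 LD2_c22 LD3_c41)) :=
  Lre_b IH (LK LD1_c2 LD2_c8 LD3_c49) (LK LD1_c4 LD2_c22 LD3_c41) Lrfl Lrfl
theorem f200437 : Led Lsl_df (LP (LK LD1_c5 LD2_c38 LD3_c57)) = (LP (LK LD1_c4 LD2_c22 LD3_c41)) :=
  Lgr Lrot12 (Lpr_bt (f200435 IH) (Lpr_dt (K12.f200423 IH) (Lpr_bt (f200436 IH) (Lpn (LP (LK LD1_c4 LD2_c22 LD3_c41))))))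
theorem f200536 : Led Lsl_gt (LP (LK LD1_c5 LD2_c38 LD3_c57)) = (LP (LK LD1_c11 LD2_c8 LD3_c47)) :=
  Lre_g IH (LK LD1_c5 LD2_c38 LD3_c57) (LK LD1_c11 LD2_c8 LD3_c47) Lrfl Lrfl
theorem f200553 : Led Lsl_dt (LP (LK LD1_c20 LD2_c2 LD3_c28)) = (LP (LK LD1_c11 LD2_c8 LD3_c47)) :=
  Lre_d IH (LK LD1_c20 LD2_c2 LD3_c28) (LK LD1_c11 LD2_c8 LD3_c47) Lrfl Lrfl
theorem f321167 : Led Lsl_et (LP (LK LD1_c20 LD2_c2 LD3_c28)) = (LP (LK LD1_c17 LD2_c43 LD3_c20)) :=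
  Lgr Lrot121 (Lpr_dt (f200553 IH) (Lpe (f200536 IH) (Lpr_df (f200437 IH) (Lpr_et (K12.f200525 IH) (Lpr_gf (K14.f246765 IH) (Lpe (f167104 IH) (Lpe (K14.f246754 IH) (Lpe (f171976 IH) (Lpe (f246774 IH) (Lpr_gf (f321161 IH) (Lpn (LP (LK LD1_c17 LD2_c43 LD3_c20)))))))))))))
theorem f321169 : Led Lsl_gt (LP (LK LD1_c8 LD2_c25 LD3_c13)) = (LP (LK LD1_c4 LD2_c22 LD3_c41)) :=
  Lgr Lrot137 (Lpe (f178796 IH) (Lpe (K19.f255930 IH) (Lpe (K17.f290840 IH) (Lpe (K15.f266879 IH) (Lpr_et (f246779 IH) (Lpr_gf (f321161 IH) (Lpe (f321167 IH) (Lpr_dt (f200553 IH) (Lpe (f200536 IH) (Lpr_df (f200437 IH) (Lpn (LP (LK LD1_c4 LD2_c22 LD3_c41)))))))))))))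
theorem f43270 : Led Lsl_et (LP (LK LD1_c4 LD2_c13 LD3_c24)) = (LP (LK LD1_c3 LD2_c58 LD3_c3)) :=
  Lgr Lrot87 (Lpr_ef (K10.f43264 IH) (Lpn (LP (LK LD1_c3 LD2_c58 LD3_c3))))
theorem f182612 : Led Lsl_et (LP (LK LD1_c8 LD2_c13 LD3_c36)) = (LP (LK LD1_c4 LD2_c6 LD3_c32)) :=
  Lre_e IH (LK LD1_c8 LD2_c13 LD3_c36) (LK LD1_c4 LD2_c6 LD3_c32) Lrfl Lrfl
theorem f321175 : Led Lsl_df (LP (LK LD1_c8 LD2_c25 LD3_c13)) = (LP (LK LD1_c8 LD2_c13 LD3_c36)) :=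
  Lgr Lrot170 (Lpr_gt (f321169 IH) (Lpe (K12.f200516 IH) (Lpr_et (K18.f200538 IH) (Lpr_gt (K12.f228398 IH) (Lpr_dt (K18.f218831 IH) (Lpe (K12.f220738 IH) (Lpe (K10.f43267 IH) (Lpr_et (f43270 IH) (Lpe (K11.f183714 IH) (Lpe (f182612 IH) (Lpn (LP (LK LD1_c8 LD2_c13 LD3_c36)))))))))))))
theorem f318054 : Led Lsl_at (LP (LK LD1_c8 LD2_c25 LD3_c13)) = (LP (LK LD1_c9 LD2_c34 LD3_c45)) :=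
  Lgr Lrot80 (Lpe (f178796 IH) (Lpr_af (f318048 IH) (Lpe (K16.f232297 IH) (Lpn (LP (LK LD1_c9 LD2_c34 LD3_c45))))))
theorem f278424 : Led Lsl_df (LP (LK LD1_c9 LD2_c33 LD3_c18)) = (LP (LK LD1_c9 LD2_c34 LD3_c45)) :=
  Lgr Lrot70 (Lpr_et (K18.f27730 IH) (Lpr_dt (K16.f254262 IH) (Lpe (K16.f254268 IH) (Lpr_dt (K16.f278420 IH) (Lpr_et (K16.f232303 IH) (Lpn (LP (LK LD1_c9 LD2_c34 LD3_c45))))))))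
theorem f321177 : Led Lsl_at (LP (LK LD1_c9 LD2_c33 LD3_c18)) = (LP (LK LD1_c8 LD2_c13 LD3_c36)) :=
  Lgr Lrot51 (Lpr_df (f278424 IH) (Lpe (f318054 IH) (Lpr_df (f321175 IH) (Lpn (LP (LK LD1_c8 LD2_c13 LD3_c36))))))
theorem f321202 : Led Lsl_af (LP (LK LD1_c4 LD2_c50 LD3_c34)) = (LP (LK LD1_c4 LD2_c6 LD3_c32)) :=
  Lgr Lrot50 (Lpr_et (K14.f194779 IH) (Lpr_at (f321177 IH) (Lpr_et (f182612 IH) (Lpn (LP (LK LD1_c4 LD2_c6 LD3_c32))))))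
theorem f321208 : Led Lsl_ft (LP (LK LD1_c4 LD2_c50 LD3_c35)) = (LP (LK LD1_c4 LD2_c6 LD3_c32)) :=
  Lgr Lrot2 (Lpr_gt (K12.f27731 IH) (Lpr_gt (K10.f27729 IH) (Lpr_af (f321202 IH) (Lpn (LP (LK LD1_c4 LD2_c6 LD3_c32))))))
theorem f321218 : Led Lsl_ff (LP (LK LD1_c4 LD2_c50 LD3_c35)) = (LP (LK LD1_c4 LD2_c6 LD3_c32)) :=
  Lgr Lrot3 (Lpr_ft (f321208 IH) (Lpn (LP (LK LD1_c4 LD2_c6 LD3_c32))))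
theorem f321228 : Led Lsl_at (LP (LK LD1_c4 LD2_c50 LD3_c35)) = (LP (LK LD1_c5 LD2_c17 LD3_c23)) :=
  Lgr Lrot26 (Lpr_ff (f321218 IH) (Lpr_gt (K11.f195948 IH) (Lpe (K10.f191753 IH) (Lpn (LP (LK LD1_c5 LD2_c17 LD3_c23))))))
theorem f213925 : Led Lsl_ft (LP (LK LD1_c4 LD2_c54 LD3_c47)) = (LP (LK LD1_c2 LD2_c25 LD3_c16)) :=
  Lre_f IH (LK LD1_c4 LD2_c54 LD3_c47) (LK LD1_c2 LD2_c25 LD3_c16) Lrfl Lrfl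
theorem f321214 : Led Lsl_df (LP (LK LD1_c4 LD2_c54 LD3_c47)) = (LP (LK LD1_c4 LD2_c6 LD3_c32)) :=
  Lgr Lrot78 (Lpr_ft (f213925 IH) (Lpe (K12.f213912 IH) (Lpr_ft (f321208 IH) (Lpn (LP (LK LD1_c4 LD2_c6 LD3_c32))))))
theorem f321230 : Led Lsl_cf (LP (LK LD1_c8 LD2_c15 LD3_c41)) = (LP (LK LD1_c4 LD2_c54 LD3_c47)) :=
  Lgr Lrot118 (Lpr_dt (K17.f288493 IH) (Lpr_ct (K14.f214790 IH) (Lpr_dt (K17.f31512 IH) (Lpr_ct (K17.f215697 IH) (Lpr_dt (K17.f187678 IH) (Lpr_ct (K14.f187672 IH) (Lpe (f321228 IH) (Lpr_ff (f321218 IH) (Lpe (f321214 IH) (Lpn (LP (LK LD1_c4 LD2_c54 LD3_c47))))))))))))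
theorem f231379 : Led Lsl_bt (LP (LK LD1_c2 LD2_c11 LD3_c2)) = (LP (LK LD1_c1 LD2_c2 LD3_c35)) :=
  Lre_b IH (LK LD1_c2 LD2_c11 LD3_c2) (LK LD1_c1 LD2_c2 LD3_c35) Lrfl Lrfl
theorem f284090 : Led Lsl_bt (LP (LK LD1_c2 LD2_c44 LD3_c26)) = (LP (LK LD1_c4 LD2_c19 LD3_c8)) :=
  Lgr Lrot127 (Lpr_bf (K17.f284086 IH) (Lpn (LP (LK LD1_c4 LD2_c19 LD3_c8))))
theorem f265105 : Led Lsl_bt (LP (LK LD1_c4 LD2_c54 LD3_c47)) = (LP (LK LD1_c2 LD2_c25 LD3_c24)) :=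
  Lre_b IH (LK LD1_c4 LD2_c54 LD3_c47) (LK LD1_c2 LD2_c25 LD3_c24) Lrfl Lrfl
theorem f321246 : Led Lsl_gf (LP (LK LD1_c4 LD2_c19 LD3_c8)) = (LP (LK LD1_c2 LD2_c25 LD3_c24)) :=
  Lgr Lrot124 (Lpe (f284090 IH) (Lpr_ct (K17.f284677 IH) (Lpr_gt (K14.f230939 IH) (Lpe (K15.f247439 IH) (Lpr_bt (f231379 IH) (Lpe (K14.f253477 IH) (Lpr_ct (K17.f183831 IH) (Lpr_gt (K17.f230863 IH) (Lpr_cf (f321230 IH) (Lpr_bt (f265105 IH) (Lpn (LP (LK LD1_c2 LD2_c25 LD3_c24)))))))))))))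
theorem f321262 : Led Lsl_et (LP (LK LD1_c2 LD2_c6 LD3_c56)) = (LP (LK LD1_c2 LD2_c25 LD3_c24)) :=
  Lgr Lrot121 (Lpr_dt (K14.f255928 IH) (Lpe (K14.f178507 IH) (Lpe (K14.f184318 IH) (Lpr_et (K14.f228814 IH) (Lpe (K18.f228821 IH) (Lpe (K18.f300731 IH) (Lpr_dt (K10.f182211 IH) (Lpe (K17.f182530 IH) (Lpe (K18.f290006 IH) (Lpr_gf (f321246 IH) (Lpn (LP (LK LD1_c2 LD2_c25 LD3_c24)))))))))))))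
theorem f321268 : Led Lsl_ef (LP (LK LD1_c2 LD2_c6 LD3_c56)) = (LP (LK LD1_c2 LD2_c25 LD3_c24)) :=
  Lgr Lrot88 (Lpr_et (f321262 IH) (Lpn (LP (LK LD1_c2 LD2_c25 LD3_c24))))
theorem f266811 : Led Lsl_bt (LP (LK LD1_c2 LD2_c3 LD3_c59)) = (LP (LK LD1_c4 LD2_c8 LD3_c56)) :=
  Lgr Lrot92 (Lpe (K15.f257964 IH) (Lpr_gt (K15.f257962 IH) (Lpe (K15.f169151 IH) (Lpe (K15.f257949 IH) (Lpr_gt (K15.f257953 IH) (Lpr_ct (K15.f245893 IH) (Lpr_gt (K18.f261410 IH) (Lpr_cf (K16.f262867 IH) (Lpr_bt (K18.f191056 IH) (Lpr_gt (K15.f266805 IH) (Lpn (LP (LK LD1_c4 LD2_c8 LD3_c56)))))))))))))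
theorem f318036 : Led Lsl_ft (LP (LK LD1_c2 LD2_c6 LD3_c56)) = (LP (LK LD1_c2 LD2_c3 LD3_c59)) :=
  Lgr Lrot75 (Lpe (K19.f211392 IH) (Lpr_ff (f318032 IH) (Lpe (f266811 IH) (Lpn (LP (LK LD1_c2 LD2_c3 LD3_c59))))))
theorem f252103 : Led Lsl_gt (LP (LK LD1_c2 LD2_c3 LD3_c47)) = (LP (LK LD1_c4 LD2_c12 LD3_c60)) :=
  Lre_g IH (LK LD1_c2 LD2_c3 LD3_c47) (LK LD1_c4 LD2_c12 LD3_c60) Lrfl Lrfl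
theorem f252074 : Led Lsl_ct (LP (LK LD1_c2 LD2_c2 LD3_c36)) = (LP (LK LD1_c2 LD2_c3 LD3_c47)) :=
  Lgr Lrot15 (Lpe (K15.f251896 IH) (Lpr_cf (K14.f252069 IH) (Lpe (K14.f252073 IH) (Lpn (LP (LK LD1_c2 LD2_c3 LD3_c47))))))
theorem f258302 : Led Lsl_dt (LP (LK LD1_c4 LD2_c12 LD3_c60)) = (LP (LK LD1_c2 LD2_c25 LD3_c11)) :=
  Lgr Lrot57 (Lpe (f252103 IH) (Lpe (f252074 IH) (Lpr_gt (K15.f258300 IH) (Lpr_dt (K14.f44309 IH) (Lpr_gt (K12.f171870 IH) (Lpr_dt (K12.f167805 IH) (Lpe (K9.f167804 IH) (Lpe (K12.f55280 IH) (Lpe (K12.f55291 IH) (Lpn (LP (LK LD1_c2 LD2_c25 LD3_c11))))))))))))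
theorem f41394 : Led Lsl_at (LP (LK LD1_c0 LD2_c32 LD3_c23)) = (LP (LK LD1_c1 LD2_c9 LD3_c52)) :=
  Lre_a IH (LK LD1_c0 LD2_c32 LD3_c23) (LK LD1_c1 LD2_c9 LD3_c52) Lrfl Lrfl
theorem f41395 : Led Lsl_et (LP (LK LD1_c0 LD2_c32 LD3_c23)) = (LP (LK LD1_c0 LD2_c32 LD3_c23)) :=
  Lgr Lrot123 (Lpe (K9.f40831 IH) (Lpr_ef (K1.f41387 IH) (Lpe (f41394 IH) (Lpn (LP (LK LD1_c0 LD2_c32 LD3_c23))))))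
theorem f271175 : Led Lsl_et (LP (LK LD1_c2 LD2_c3 LD3_c59)) = (LP (LK LD1_c1 LD2_c9 LD3_c50)) :=
  Lgr Lrot122 (Lpe (K17.f271165 IH) (Lpr_gt (K16.f271161 IH) (Lpe (K14.f251906 IH) (Lpr_et (K15.f252095 IH) (Lpr_gt (f252103 IH) (Lpr_dt (f258302 IH) (Lpr_gt (K12.f55291 IH) (Lpe (K12.f55279 IH) (Lpr_et (f41395 IH) (Lpr_gt (K12.f40822 IH) (Lpn (LP (LK LD1_c1 LD2_c9 LD3_c50)))))))))))))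
theorem f321274 : Led Lsl_ft (LP (LK LD1_c1 LD2_c9 LD3_c50)) = (LP (LK LD1_c0 LD2_c32 LD3_c20)) :=
  Lgr Lrot86 (Lpe (f271175 IH) (Lpe (f318036 IH) (Lpr_ef (f321268 IH) (Lpe (K15.f265052 IH) (Lpe (K15.f216288 IH) (Lpn (LP (LK LD1_c0 LD2_c32 LD3_c20))))))))
theorem f321284 : Led Lsl_af (LP (LK LD1_c1 LD2_c9 LD3_c49)) = (LP (LK LD1_c0 LD2_c32 LD3_c20)) :=
  Lgr Lrot31 (Lpe (K9.f41907 IH) (Lpe (K12.f41974 IH) (Lpr_ft (f321274 IH) (Lpn (LP (LK LD1_c0 LD2_c32 LD3_c20))))))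
theorem f311940 : Led Lsl_ft (LP (LK LD1_c1 LD2_c9 LD3_c49)) = (LP (LK LD1_c0 LD2_c32 LD3_c21)) :=
  Lgr Lrot75 (Lpr_bf (K11.f188569 IH) (Lpr_ff (K19.f311936 IH) (Lpe (K14.f171984 IH) (Lpn (LP (LK LD1_c0 LD2_c32 LD3_c21))))))
theorem f321296 : Led Lsl_at (LP (LK LD1_c0 LD2_c32 LD3_c21)) = (LP (LK LD1_c1 LD2_c9 LD3_c50)) :=
  Lgr Lrot66 (Lpe (f311940 IH) (Lpr_af (f321284 IH) (Lpe (f321274 IH) (Lpn (LP (LK LD1_c1 LD2_c9 LD3_c50))))))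
theorem f321306 : Led Lsl_af (LP (LK LD1_c1 LD2_c9 LD3_c60)) = (LP (LK LD1_c2 LD2_c3 LD3_c59)) :=
  Lgr Lrot50 (Lpr_et (K14.f41407 IH) (Lpr_at (f321296 IH) (Lpr_et (K18.f257970 IH) (Lpn (LP (LK LD1_c2 LD2_c3 LD3_c59))))))
theorem f311970 : Led Lsl_bf (LP (LK LD1_c4 LD2_c14 LD3_c8)) = (LP (LK LD1_c8 LD2_c11 LD3_c6)) :=
  Lgr Lrot93 (Lpr_dt (K19.f311966 IH) (Lpr_bt (K16.f232294 IH) (Lpe (K18.f278422 IH) (Lpn (LP (LK LD1_c8 LD2_c11 LD3_c6))))))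
theorem f258691 : Led Lsl_gf (LP (LK LD1_c5 LD2_c32 LD3_c9)) = (LP (LK LD1_c5 LD2_c29 LD3_c55)) :=
  Lgr Lrot143 (Lpr_dt (K14.f213235 IH) (Lpe (K12.f213232 IH) (Lpr_df (K15.f258682 IH) (Lpe (K13.f246241 IH) (Lpe (K12.f175247 IH) (Lpe (K12.f175246 IH) (Lpe (K12.f216961 IH) (Lpr_gt (K14.f175175 IH) (Lpr_dt (K14.f175176 IH) (Lpn (LP (LK LD1_c5 LD2_c29 LD3_c55))))))))))))
theorem f258740 : Led Lsl_ct (LP (LK LD1_c8 LD2_c18 LD3_c46)) = (LP (LK LD1_c5 LD2_c29 LD3_c55)) :=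
  Lgr Lrot8 (Lpr_gt (K14.f233262 IH) (Lpr_dt (K14.f190862 IH) (Lpr_gt (K12.f167241 IH) (Lpr_dt (K15.f234432 IH) (Lpr_cf (K15.f258654 IH) (Lpe (K15.f258662 IH) (Lpe (K16.f258680 IH) (Lpe (K14.f213235 IH) (Lpr_gf (f258691 IH) (Lpn (LP (LK LD1_c5 LD2_c29 LD3_c55))))))))))))
theorem f258782 : Led Lsl_at (LP (LK LD1_c4 LD2_c14 LD3_c8)) = (LP (LK LD1_c4 LD2_c13 LD3_c22)) :=
  Lgr Lrot33 (Lpe (K19.f220525 IH) (Lpe (K12.f220515 IH) (Lpr_ct (K12.f213768 IH) (Lpr_dt (K14.f236245 IH) (Lpr_ct (f258740 IH) (Lpr_dt (K14.f234798 IH) (Lpr_ct (K14.f220578 IH) (Lpr_dt (K14.f251727 IH) (Lpe (K14.f251723 IH) (Lpn (LP (LK LD1_c4 LD2_c13 LD3_c22))))))))))))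
theorem f318046 : Led Lsl_af (LP (LK LD1_c2 LD2_c6 LD3_c56)) = (LP (LK LD1_c2 LD2_c3 LD3_c60)) :=
  Lgr Lrot36 (Lpr_bt (K17.f254519 IH) (Lpr_at (f318042 IH) (Lpe (f311970 IH) (Lpr_at (f258782 IH) (Lpr_bt (K14.f166989 IH) (Lpn (LP (LK LD1_c2 LD2_c3 LD3_c60))))))))
theorem f321316 : Led Lsl_ft (LP (LK LD1_c1 LD2_c9 LD3_c60)) = (LP (LK LD1_c2 LD2_c3 LD3_c60)) :=
  Lgr Lrot101 (Lpr_af (f321306 IH) (Lpe (f318036 IH) (Lpr_af (f318046 IH) (Lpn (LP (LK LD1_c2 LD2_c3 LD3_c60))))))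
theorem f321326 : Led Lsl_ff (LP (LK LD1_c1 LD2_c9 LD3_c60)) = (LP (LK LD1_c2 LD2_c3 LD3_c60)) :=
  Lgr Lrot3 (Lpr_ft (f321316 IH) (Lpn (LP (LK LD1_c2 LD2_c3 LD3_c60))))
theorem f311946 : Led Lsl_ff (LP (LK LD1_c1 LD2_c9 LD3_c49)) = (LP (LK LD1_c0 LD2_c32 LD3_c21)) :=
  Lgr Lrot25 (Lpr_bt (K10.f188565 IH) (Lpr_ft (K19.f311944 IH) (Lpr_bt (K14.f171904 IH) (Lpn (LP (LK LD1_c0 LD2_c32 LD3_c21))))))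
theorem f321334 : Led Lsl_ft (LP (LK LD1_c2 LD2_c25 LD3_c9)) = (LP (LK LD1_c4 LD2_c13 LD3_c23)) :=
  Lgr Lrot86 (Lpe (K10.f167801 IH) (Lpr_ff (f311946 IH) (Lpe (K14.f41407 IH) (Lpr_ff (f321326 IH) (Lpe (K14.f166627 IH) (Lpn (LP (LK LD1_c4 LD2_c13 LD3_c23))))))))
theorem f257329 : Led Lsl_dt (LP (LK LD1_c6 LD2_c5 LD3_c10)) = (LP (LK LD1_c2 LD2_c58 LD3_c45)) :=
  Lre_d IH (LK LD1_c6 LD2_c5 LD3_c10) (LK LD1_c2 LD2_c58 LD3_c45) Lrfl Lrfl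
theorem f265103 : Led Lsl_af (LP (LK LD1_c2 LD2_c25 LD3_c24)) = (LP (LK LD1_c4 LD2_c13 LD3_c23)) :=
  Lgr Lrot0 (Lpr_at (K15.f265053 IH) (Lpn (LP (LK LD1_c4 LD2_c13 LD3_c23))))
theorem f265106 : Led Lsl_ct (LP (LK LD1_c4 LD2_c54 LD3_c53)) = (LP (LK LD1_c2 LD2_c25 LD3_c24)) :=
  Lre_c IH (LK LD1_c4 LD2_c54 LD3_c53) (LK LD1_c2 LD2_c25 LD3_c24) Lrfl Lrfl
theorem f321342 : Led Lsl_dt (LP (LK LD1_c4 LD2_c20 LD3_c19)) = (LP (LK LD1_c4 LD2_c54 LD3_c53)) :=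
  Lgr Lrot120 (Lpe (K17.f257319 IH) (Lpe (f257329 IH) (Lpr_cf (K17.f274327 IH) (Lpe (K17.f187337 IH) (Lpe (K10.f187336 IH) (Lpe (K12.f187305 IH) (Lpr_ft (f321334 IH) (Lpe (f265103 IH) (Lpe (f265106 IH) (Lpn (LP (LK LD1_c4 LD2_c54 LD3_c53))))))))))))
theorem f219297 : Led Lsl_et (LP (LK LD1_c4 LD2_c8 LD3_c55)) = (LP (LK LD1_c8 LD2_c17 LD3_c58)) :=
  Lre_e IH (LK LD1_c4 LD2_c8 LD3_c55) (LK LD1_c8 LD2_c17 LD3_c58) Lrfl Lrfl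
theorem f321251 : Led Lsl_gf (LP (LK LD1_c5 LD2_c22 LD3_c42)) = (LP (LK LD1_c4 LD2_c54 LD3_c53)) :=
  Lgr Lrot144 (Lpr_dt (K15.f264046 IH) (Lpr_gt (K15.f182531 IH) (Lpr_dt (K15.f182527 IH) (Lpe (K10.f182524 IH) (Lpe (K15.f54530 IH) (Lpe (K17.f182530 IH) (Lpe (K18.f290006 IH) (Lpr_gf (f321246 IH) (Lpe (f265106 IH) (Lpn (LP (LK LD1_c4 LD2_c54 LD3_c53))))))))))))
theorem f321354 : Led Lsl_gf (LP (LK LD1_c8 LD2_c17 LD3_c58)) = (LP (LK LD1_c15 LD2_c24 LD3_c29)) :=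
  Lgr Lrot141 (Lpe (f219297 IH) (Lpr_dt (K14.f219289 IH) (Lpe (K12.f219284 IH) (Lpe (K12.f53645 IH) (Lpe (K12.f54083 IH) (Lpr_gt (K11.f54091 IH) (Lpr_dt (f321342 IH) (Lpe (f321251 IH) (Lpr_df (K15.f264054 IH) (Lpr_et (K16.f264056 IH) (Lpn (LP (LK LD1_c15 LD2_c24 LD3_c29)))))))))))))
theorem f238089 : Led Lsl_bt (LP (LK LD1_c9 LD2_c0 LD3_c35)) = (LP (LK LD1_c4 LD2_c31 LD3_c22)) :=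
  Lre_b IH (LK LD1_c9 LD2_c0 LD3_c35) (LK LD1_c4 LD2_c31 LD3_c22) Lrfl Lrfl
theorem f238090 : Led Lsl_bt (LP (LK LD1_c2 LD2_c23 LD3_c35)) = (LP (LK LD1_c4 LD2_c51 LD3_c22)) :=
  Lre_b IH (LK LD1_c2 LD2_c23 LD3_c35) (LK LD1_c4 LD2_c51 LD3_c22) Lrfl Lrfl
theorem f238091 : Led Lsl_df (LP (LK LD1_c9 LD2_c0 LD3_c35)) = (LP (LK LD1_c4 LD2_c51 LD3_c22)) :=
  Lgr Lrot12 (Lpr_bt (f238089 IH) (Lpr_dt (K15.f238082 IH) (Lpr_bt (f238090 IH) (Lpn (LP (LK LD1_c4 LD2_c51 LD3_c22))))))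
theorem f238188 : Led Lsl_gt (LP (LK LD1_c9 LD2_c0 LD3_c35)) = (LP (LK LD1_c16 LD2_c50 LD3_c1)) :=
  Lre_g IH (LK LD1_c9 LD2_c0 LD3_c35) (LK LD1_c16 LD2_c50 LD3_c1) Lrfl Lrfl
theorem f238206 : Led Lsl_dt (LP (LK LD1_c26 LD2_c47 LD3_c17)) = (LP (LK LD1_c16 LD2_c50 LD3_c1)) :=
  Lre_d IH (LK LD1_c26 LD2_c47 LD3_c17) (LK LD1_c16 LD2_c50 LD3_c1) Lrfl Lrfl
theorem f247080 : Led Lsl_dt (LP (LK LD1_c9 LD2_c0 LD3_c59)) = (LP (LK LD1_c8 LD2_c1 LD3_c28)) :=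
  Lgr Lrot79 (Lpe (K16.f247066 IH) (Lpr_df (K14.f247075 IH) (Lpe (K15.f247079 IH) (Lpn (LP (LK LD1_c8 LD2_c1 LD3_c28))))))
theorem f273885 : Led Lsl_df (LP (LK LD1_c15 LD2_c24 LD3_c29)) = (LP (LK LD1_c15 LD2_c6 LD3_c39)) :=
  Lgr Lrot18 (Lpr_at (K16.f273881 IH) (Lpr_dt (f247080 IH) (Lpr_at (K16.f247159 IH) (Lpn (LP (LK LD1_c15 LD2_c6 LD3_c39))))))
theorem f179637 : Led Lsl_ct (LP (LK LD1_c8 LD2_c36 LD3_c3)) = (LP (LK LD1_c8 LD2_c33 LD3_c54)) :=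
  Lgr Lrot59 (Lpr_cf (f179624 IH) (Lpn (LP (LK LD1_c8 LD2_c33 LD3_c54))))
theorem f179639 : Led Lsl_dt (LP (LK LD1_c16 LD2_c4 LD3_c39)) = (LP (LK LD1_c8 LD2_c33 LD3_c54)) :=
  Lre_d IH (LK LD1_c16 LD2_c4 LD3_c39) (LK LD1_c8 LD2_c33 LD3_c54) Lrfl Lrfl
theorem f284131 : Led Lsl_gt (LP (LK LD1_c16 LD2_c5 LD3_c6)) = (LP (LK LD1_c8 LD2_c34 LD3_c14)) :=
  Lre_g IH (LK LD1_c16 LD2_c5 LD3_c6) (LK LD1_c8 LD2_c34 LD3_c14) Lrfl Lrfl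
theorem f299400 : Led Lsl_ft (LP (LK LD1_c4 LD2_c17 LD3_c54)) = (LP (LK LD1_c2 LD2_c6 LD3_c14)) :=
  Lre_f IH (LK LD1_c4 LD2_c17 LD3_c54) (LK LD1_c2 LD2_c6 LD3_c14) Lrfl Lrfl
theorem f310296 : Led Lsl_af (LP (LK LD1_c2 LD2_c2 LD3_c52)) = (LP (LK LD1_c2 LD2_c6 LD3_c14)) :=
  Lgr Lrot45 (Lpr_ft (K18.f299439 IH) (Lpr_at (f310290 IH) (Lpr_ft (f299400 IH) (Lpn (LP (LK LD1_c2 LD2_c6 LD3_c14))))))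
theorem f170868 : Led Lsl_gt (LP (LK LD1_c4 LD2_c11 LD3_c17)) = (LP (LK LD1_c2 LD2_c2 LD3_c52)) :=
  Lre_g IH (LK LD1_c4 LD2_c11 LD3_c17) (LK LD1_c2 LD2_c2 LD3_c52) Lrfl Lrfl
theorem f310331 : Led Lsl_gf (LP (LK LD1_c4 LD2_c11 LD3_c17)) = (LP (LK LD1_c4 LD2_c17 LD3_c54)) :=
  Lgr Lrot47 (Lpr_gt (f170868 IH) (Lpr_af (f310296 IH) (Lpe (f299400 IH) (Lpn (LP (LK LD1_c4 LD2_c17 LD3_c54))))))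
theorem f170935 : Led Lsl_bt (LP (LK LD1_c2 LD2_c3 LD3_c32)) = (LP (LK LD1_c4 LD2_c12 LD3_c36)) :=
  Lre_b IH (LK LD1_c2 LD2_c3 LD3_c32) (LK LD1_c4 LD2_c12 LD3_c36) Lrfl Lrfl
theorem f212554 : Led Lsl_df (LP (LK LD1_c2 LD2_c3 LD3_c32)) = (LP (LK LD1_c1 LD2_c3 LD3_c24)) :=
  Lgr Lrot12 (Lpr_bt (f170935 IH) (Lpr_dt (K14.f212551 IH) (Lpr_bt (K18.f212553 IH) (Lpn (LP (LK LD1_c1 LD2_c3 LD3_c24))))))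
theorem f170934 : Led Lsl_ct (LP (LK LD1_c4 LD2_c12 LD3_c38)) = (LP (LK LD1_c2 LD2_c3 LD3_c32)) :=
  Lre_c IH (LK LD1_c4 LD2_c12 LD3_c38) (LK LD1_c2 LD2_c3 LD3_c32) Lrfl Lrfl
theorem f170603 : Led Lsl_et (LP (LK LD1_c2 LD2_c2 LD3_c52)) = (LP (LK LD1_c0 LD2_c58 LD3_c20)) :=
  Lre_e IH (LK LD1_c2 LD2_c2 LD3_c52) (LK LD1_c0 LD2_c58 LD3_c20) Lrfl Lrfl
theorem f170604 : Led Lsl_dt (LP (LK LD1_c2 LD2_c2 LD3_c52)) = (LP (LK LD1_c4 LD2_c11 LD3_c18)) :=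
  Lre_d IH (LK LD1_c2 LD2_c2 LD3_c52) (LK LD1_c4 LD2_c11 LD3_c18) Lrfl Lrfl
theorem f170920 : Led Lsl_gt (LP (LK LD1_c4 LD2_c11 LD3_c18)) = (LP (LK LD1_c8 LD2_c22 LD3_c25)) :=
  Lre_g IH (LK LD1_c4 LD2_c11 LD3_c18) (LK LD1_c8 LD2_c22 LD3_c25) Lrfl Lrfl
theorem f1887 : Led Lsl_bt (LP (LK LD1_c9 LD2_c36 LD3_c23)) = (LP (LK LD1_c17 LD2_c41 LD3_c3)) :=
  Lre_b IH (LK LD1_c9 LD2_c36 LD3_c23) (LK LD1_c17 LD2_c41 LD3_c3) Lrfl Lrfl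
theorem f2535 : Led Lsl_bt (LP (LK LD1_c17 LD2_c44 LD3_c33)) = (LP (LK LD1_c9 LD2_c38 LD3_c32)) :=
  Lre_b IH (LK LD1_c17 LD2_c44 LD3_c33) (LK LD1_c9 LD2_c38 LD3_c32) Lrfl Lrfl
theorem f2536 : Led Lsl_dt (LP (LK LD1_c17 LD2_c41 LD3_c3)) = (LP (LK LD1_c17 LD2_c44 LD3_c33)) :=
  Lgr Lrot79 (Lpe (f1887 IH) (Lpr_df (K1.f2533 IH) (Lpe (f2535 IH) (Lpn (LP (LK LD1_c17 LD2_c44 LD3_c33))))))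
theorem f2543 : Led Lsl_ft (LP (LK LD1_c9 LD2_c36 LD3_c12)) = (LP (LK LD1_c17 LD2_c41 LD3_c3)) :=
  Lre_f IH (LK LD1_c9 LD2_c36 LD3_c12) (LK LD1_c17 LD2_c41 LD3_c3) Lrfl Lrfl
theorem f2544 : Led Lsl_ft (LP (LK LD1_c17 LD2_c44 LD3_c33)) = (LP (LK LD1_c9 LD2_c38 LD3_c25)) :=
  Lre_f IH (LK LD1_c17 LD2_c44 LD3_c33) (LK LD1_c9 LD2_c38 LD3_c25) Lrfl Lrfl
theorem f2545 : Led Lsl_df (LP (LK LD1_c9 LD2_c36 LD3_c12)) = (LP (LK LD1_c9 LD2_c38 LD3_c25)) :=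
  Lgr Lrot78 (Lpr_ft (f2543 IH) (Lpr_dt (f2536 IH) (Lpr_ft (f2544 IH) (Lpn (LP (LK LD1_c9 LD2_c38 LD3_c25))))))
theorem f2557 : Led Lsl_et (LP (LK LD1_c9 LD2_c36 LD3_c12)) = (LP (LK LD1_c4 LD2_c51 LD3_c58)) :=
  Lre_e IH (LK LD1_c9 LD2_c36 LD3_c12) (LK LD1_c4 LD2_c51 LD3_c58) Lrfl Lrfl
theorem f2355 : Led Lsl_dt (LP (LK LD1_c4 LD2_c51 LD3_c58)) = (LP (LK LD1_c2 LD2_c23 LD3_c45)) :=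
  Lre_d IH (LK LD1_c4 LD2_c51 LD3_c58) (LK LD1_c2 LD2_c23 LD3_c45) Lrfl Lrfl
theorem f2558 : Led Lsl_et (LP (LK LD1_c4 LD2_c53 LD3_c12)) = (LP (LK LD1_c9 LD2_c38 LD3_c25)) :=
  Lre_e IH (LK LD1_c4 LD2_c53 LD3_c12) (LK LD1_c9 LD2_c38 LD3_c25) Lrfl Lrfl
theorem f2559 : Led Lsl_dt (LP (LK LD1_c2 LD2_c24 LD3_c23)) = (LP (LK LD1_c4 LD2_c53 LD3_c12)) :=
  Lre_d IH (LK LD1_c2 LD2_c24 LD3_c23) (LK LD1_c4 LD2_c53 LD3_c12) Lrfl Lrfl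
theorem f2560 : Led Lsl_et (LP (LK LD1_c2 LD2_c23 LD3_c45)) = (LP (LK LD1_c2 LD2_c24 LD3_c23)) :=
  Lgr Lrot71 (Lpe (f2355 IH) (Lpe (f2557 IH) (Lpr_df (f2545 IH) (Lpe (f2558 IH) (Lpe (f2559 IH) (Lpn (LP (LK LD1_c2 LD2_c24 LD3_c23))))))))
theorem f2579 : Led Lsl_ft (LP (LK LD1_c4 LD2_c51 LD3_c59)) = (LP (LK LD1_c2 LD2_c23 LD3_c45)) :=
  Lre_f IH (LK LD1_c4 LD2_c51 LD3_c59) (LK LD1_c2 LD2_c23 LD3_c45) Lrfl Lrfl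
theorem f2580 : Led Lsl_et (LP (LK LD1_c9 LD2_c36 LD3_c14)) = (LP (LK LD1_c4 LD2_c51 LD3_c59)) :=
  Lre_e IH (LK LD1_c9 LD2_c36 LD3_c14) (LK LD1_c4 LD2_c51 LD3_c59) Lrfl Lrfl
theorem f2165 : Led Lsl_ct (LP (LK LD1_c4 LD2_c52 LD3_c40)) = (LP (LK LD1_c2 LD2_c24 LD3_c2)) :=
  Lre_c IH (LK LD1_c4 LD2_c52 LD3_c40) (LK LD1_c2 LD2_c24 LD3_c2) Lrfl Lrfl
theorem f2302 : Led Lsl_ct (LP (LK LD1_c1 LD2_c9 LD3_c26)) = (LP (LK LD1_c2 LD2_c24 LD3_c23)) :=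
  Lre_c IH (LK LD1_c1 LD2_c9 LD3_c26) (LK LD1_c2 LD2_c24 LD3_c23) Lrfl Lrfl
theorem f2303 : Led Lsl_ff (LP (LK LD1_c4 LD2_c52 LD3_c40)) = (LP (LK LD1_c2 LD2_c24 LD3_c23)) :=
  Lgr Lrot23 (Lpr_ct (f2165 IH) (Lpr_ft (K0.f2278 IH) (Lpr_ct (f2302 IH) (Lpn (LP (LK LD1_c2 LD2_c24 LD3_c23))))))
theorem f2581 : Led Lsl_et (LP (LK LD1_c4 LD2_c52 LD3_c40)) = (LP (LK LD1_c9 LD2_c37 LD3_c25)) :=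
  Lre_e IH (LK LD1_c4 LD2_c52 LD3_c40) (LK LD1_c9 LD2_c37 LD3_c25) Lrfl Lrfl
theorem f2582 : Led Lsl_ff (LP (LK LD1_c9 LD2_c36 LD3_c14)) = (LP (LK LD1_c9 LD2_c37 LD3_c25)) :=
  Lgr Lrot72 (Lpr_et (f2580 IH) (Lpr_ft (f2579 IH) (Lpr_et (f2560 IH) (Lpe (f2303 IH) (Lpr_et (f2581 IH) (Lpn (LP (LK LD1_c9 LD2_c37 LD3_c25))))))))
theorem f2605 : Led Lsl_ft (LP (LK LD1_c9 LD2_c36 LD3_c14)) = (LP (LK LD1_c9 LD2_c37 LD3_c25)) :=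
  Lgr Lrot48 (Lpr_ff (f2582 IH) (Lpn (LP (LK LD1_c9 LD2_c37 LD3_c25))))
theorem f2619 : Led Lsl_ct (LP (LK LD1_c4 LD2_c52 LD3_c42)) = (LP (LK LD1_c9 LD2_c36 LD3_c14)) :=
  Lre_c IH (LK LD1_c4 LD2_c52 LD3_c42) (LK LD1_c9 LD2_c36 LD3_c14) Lrfl Lrfl
theorem f2620 : Led Lsl_ct (LP (LK LD1_c9 LD2_c37 LD3_c25)) = (LP (LK LD1_c4 LD2_c52 LD3_c41)) :=
  Lre_c IH (LK LD1_c9 LD2_c37 LD3_c25) (LK LD1_c4 LD2_c52 LD3_c41) Lrfl Lrfl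
theorem f2621 : Led Lsl_ff (LP (LK LD1_c4 LD2_c52 LD3_c42)) = (LP (LK LD1_c4 LD2_c52 LD3_c41)) :=
  Lgr Lrot23 (Lpr_ct (f2619 IH) (Lpr_ft (f2605 IH) (Lpr_ct (f2620 IH) (Lpn (LP (LK LD1_c4 LD2_c52 LD3_c41))))))
theorem f2651 : Led Lsl_et (LP (LK LD1_c4 LD2_c52 LD3_c42)) = (LP (LK LD1_c2 LD2_c24 LD3_c3)) :=
  Lre_e IH (LK LD1_c4 LD2_c52 LD3_c42) (LK LD1_c2 LD2_c24 LD3_c3) Lrfl Lrfl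
theorem f2306 : Led Lsl_ft (LP (LK LD1_c2 LD2_c24 LD3_c3)) = (LP (LK LD1_c1 LD2_c9 LD3_c1)) :=
  Lre_f IH (LK LD1_c2 LD2_c24 LD3_c3) (LK LD1_c1 LD2_c9 LD3_c1) Lrfl Lrfl
theorem f2277 : Led Lsl_et (LP (LK LD1_c2 LD2_c24 LD3_c2)) = (LP (LK LD1_c4 LD2_c52 LD3_c41)) :=
  Lre_e IH (LK LD1_c2 LD2_c24 LD3_c2) (LK LD1_c4 LD2_c52 LD3_c41) Lrfl Lrfl
theorem f2652 : Led Lsl_et (LP (LK LD1_c1 LD2_c9 LD3_c1)) = (LP (LK LD1_c1 LD2_c9 LD3_c26)) :=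
  Lgr Lrot69 (Lpe (f2306 IH) (Lpe (f2651 IH) (Lpr_ff (f2621 IH) (Lpe (f2277 IH) (Lpr_ff (K0.f2266 IH) (Lpn (LP (LK LD1_c1 LD2_c9 LD3_c26))))))))
theorem f2249 : Led Lsl_bt (LP (LK LD1_c0 LD2_c31 LD3_c33)) = (LP (LK LD1_c1 LD2_c9 LD3_c1)) :=
  Lre_b IH (LK LD1_c0 LD2_c31 LD3_c33) (LK LD1_c1 LD2_c9 LD3_c1) Lrfl Lrfl
theorem f2250 : Led Lsl_bt (LP (LK LD1_c1 LD2_c9 LD3_c26)) = (LP (LK LD1_c0 LD2_c31 LD3_c55)) :=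
  Lre_b IH (LK LD1_c1 LD2_c9 LD3_c26) (LK LD1_c0 LD2_c31 LD3_c55) Lrfl Lrfl
theorem f2660 : Led Lsl_ef (LP (LK LD1_c0 LD2_c31 LD3_c33)) = (LP (LK LD1_c0 LD2_c31 LD3_c55)) :=
  Lgr Lrot29 (Lpr_bt (f2249 IH) (Lpr_et (f2652 IH) (Lpr_bt (f2250 IH) (Lpn (LP (LK LD1_c0 LD2_c31 LD3_c55))))))
theorem f166499 : Led Lsl_et (LP (LK LD1_c4 LD2_c12 LD3_c38)) = (LP (LK LD1_c2 LD2_c3 LD3_c31)) :=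
  Lre_e IH (LK LD1_c4 LD2_c12 LD3_c38) (LK LD1_c2 LD2_c3 LD3_c31) Lrfl Lrfl
theorem f170921 : Led Lsl_df (LP (LK LD1_c8 LD2_c22 LD3_c25)) = (LP (LK LD1_c4 LD2_c12 LD3_c38)) :=
  Lgr Lrot168 (Lpe (f170920 IH) (Lpe (f170604 IH) (Lpr_et (f170603 IH) (Lpr_gf (K9.f170590 IH) (Lpr_ef (f2660 IH) (Lpe (K0.f2226 IH) (Lpe (K9.f167291 IH) (Lpe (K9.f170160 IH) (Lpe (K9.f166473 IH) (Lpe (f166499 IH) (Lpn (LP (LK LD1_c4 LD2_c12 LD3_c38)))))))))))))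
theorem f170925 : Led Lsl_dt (LP (LK LD1_c8 LD2_c22 LD3_c25)) = (LP (LK LD1_c4 LD2_c12 LD3_c38)) :=
  Lgr Lrot42 (Lpr_df (f170921 IH) (Lpn (LP (LK LD1_c4 LD2_c12 LD3_c38))))
theorem f306926 : Led Lsl_cf (LP (LK LD1_c4 LD2_c11 LD3_c17)) = (LP (LK LD1_c2 LD2_c23 LD3_c53)) :=
  Lgr Lrot166 (Lpr_gt (f170868 IH) (Lpr_dt (f170604 IH) (Lpr_gt (f170920 IH) (Lpr_dt (f170925 IH) (Lpr_ct (f170934 IH) (Lpr_df (f212554 IH) (Lpe (K18.f212624 IH) (Lpr_df (K19.f306899 IH) (Lpe (K19.f306906 IH) (Lpn (LP (LK LD1_c2 LD2_c23 LD3_c53))))))))))))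
theorem f171055 : Led Lsl_bt (LP (LK LD1_c4 LD2_c51 LD3_c31)) = (LP (LK LD1_c2 LD2_c23 LD3_c39)) :=
  Lre_b IH (LK LD1_c4 LD2_c51 LD3_c31) (LK LD1_c2 LD2_c23 LD3_c39) Lrfl Lrfl
theorem f171047 : Led Lsl_et (LP (LK LD1_c4 LD2_c15 LD3_c31)) = (LP (LK LD1_c8 LD2_c29 LD3_c60)) :=
  Lre_e IH (LK LD1_c4 LD2_c15 LD3_c31) (LK LD1_c8 LD2_c29 LD3_c60) Lrfl Lrfl
theorem f171048 : Led Lsl_et (LP (LK LD1_c4 LD2_c51 LD3_c31)) = (LP (LK LD1_c2 LD2_c23 LD3_c37)) :=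
  Lre_e IH (LK LD1_c4 LD2_c51 LD3_c31) (LK LD1_c2 LD2_c23 LD3_c37) Lrfl Lrfl
theorem f171049 : Led Lsl_ct (LP (LK LD1_c8 LD2_c29 LD3_c60)) = (LP (LK LD1_c4 LD2_c51 LD3_c31)) :=
  Lgr Lrot15 (Lpe (f171047 IH) (Lpr_cf (K11.f171036 IH) (Lpe (f171048 IH) (Lpn (LP (LK LD1_c4 LD2_c51 LD3_c31))))))
theorem f171060 : Led Lsl_cf (LP (LK LD1_c8 LD2_c29 LD3_c60)) = (LP (LK LD1_c4 LD2_c51 LD3_c31)) :=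
  Lgr Lrot11 (Lpr_ct (f171049 IH) (Lpn (LP (LK LD1_c4 LD2_c51 LD3_c31))))
theorem f167685 : Led Lsl_gt (LP (LK LD1_c0 LD2_c58 LD3_c21)) = (LP (LK LD1_c2 LD2_c2 LD3_c53)) :=
  Lre_g IH (LK LD1_c0 LD2_c58 LD3_c21) (LK LD1_c2 LD2_c2 LD3_c53) Lrfl Lrfl
theorem f310285 : Led Lsl_gt (LP (LK LD1_c2 LD2_c2 LD3_c53)) = (LP (LK LD1_c2 LD2_c6 LD3_c17)) :=
  Lgr Lrot46 (Lpe (f167685 IH) (Lpr_ft (K19.f299453 IH) (Lpr_at (K19.f310277 IH) (Lpn (LP (LK LD1_c2 LD2_c6 LD3_c17))))))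
theorem f310287 : Led Lsl_bt (LP (LK LD1_c4 LD2_c11 LD3_c20)) = (LP (LK LD1_c2 LD2_c2 LD3_c53)) :=
  Lre_b IH (LK LD1_c4 LD2_c11 LD3_c20) (LK LD1_c2 LD2_c2 LD3_c53) Lrfl Lrfl
theorem f310289 : Led Lsl_ct (LP (LK LD1_c4 LD2_c11 LD3_c20)) = (LP (LK LD1_c8 LD2_c22 LD3_c26)) :=
  Lre_c IH (LK LD1_c4 LD2_c11 LD3_c20) (LK LD1_c8 LD2_c22 LD3_c26) Lrfl Lrfl
theorem f310335 : Led Lsl_gt (LP (LK LD1_c8 LD2_c29 LD3_c60)) = (LP (LK LD1_c8 LD2_c22 LD3_c26)) :=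
  Lgr Lrot65 (Lpr_cf (f171060 IH) (Lpr_bt (f171055 IH) (Lpe (K19.f171080 IH) (Lpe (K19.f309898 IH) (Lpe (f306926 IH) (Lpr_gf (f310331 IH) (Lpe (f310207 IH) (Lpe (f310285 IH) (Lpe (f310287 IH) (Lpr_ct (f310289 IH) (Lpn (LP (LK LD1_c8 LD2_c22 LD3_c26)))))))))))))
theorem f171070 : Led Lsl_gt (LP (LK LD1_c9 LD2_c35 LD3_c4)) = (LP (LK LD1_c4 LD2_c51 LD3_c31)) :=
  Lre_g IH (LK LD1_c9 LD2_c35 LD3_c4) (LK LD1_c4 LD2_c51 LD3_c31) Lrfl Lrfl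
theorem f171079 : Led Lsl_bt (LP (LK LD1_c17 LD2_c38 LD3_c56)) = (LP (LK LD1_c9 LD2_c35 LD3_c4)) :=
  Lre_b IH (LK LD1_c17 LD2_c38 LD3_c56) (LK LD1_c9 LD2_c35 LD3_c4) Lrfl Lrfl
theorem f310185 : Led Lsl_bt (LP (LK LD1_c4 LD2_c17 LD3_c46)) = (LP (LK LD1_c2 LD2_c6 LD3_c17)) :=
  Lre_b IH (LK LD1_c4 LD2_c17 LD3_c46) (LK LD1_c2 LD2_c6 LD3_c17) Lrfl Lrfl
theorem f310175 : Led Lsl_gt (LP (LK LD1_c8 LD2_c34 LD3_c31)) = (LP (LK LD1_c16 LD2_c5 LD3_c6)) :=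
  Lre_g IH (LK LD1_c8 LD2_c34 LD3_c31) (LK LD1_c16 LD2_c5 LD3_c6) Lrfl Lrfl
theorem f310337 : Led Lsl_ct (LP (LK LD1_c17 LD2_c38 LD3_c56)) = (LP (LK LD1_c16 LD2_c5 LD3_c6)) :=
  Lgr Lrot10 (Lpr_bt (f171079 IH) (Lpr_gt (f171070 IH) (Lpe (f171060 IH) (Lpr_gt (f310335 IH) (Lpe (f310289 IH) (Lpr_bt (f310287 IH) (Lpr_gt (f310285 IH) (Lpe (f310185 IH) (Lpr_ct (f310160 IH) (Lpr_gt (f310175 IH) (Lpn (LP (LK LD1_c16 LD2_c5 LD3_c6)))))))))))))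
theorem f310339 : Led Lsl_cf (LP (LK LD1_c17 LD2_c38 LD3_c56)) = (LP (LK LD1_c16 LD2_c5 LD3_c6)) :=
  Lgr Lrot11 (Lpr_ct (f310337 IH) (Lpn (LP (LK LD1_c16 LD2_c5 LD3_c6))))
theorem f321358 : Led Lsl_gt (LP (LK LD1_c17 LD2_c38 LD3_c56)) = (LP (LK LD1_c15 LD2_c6 LD3_c39)) :=
  Lgr Lrot94 (Lpr_cf (f310339 IH) (Lpr_gt (f284131 IH) (Lpr_dt (f290092 IH) (Lpr_gt (f296049 IH) (Lpr_dt (f179639 IH) (Lpe (f179637 IH) (Lpr_df (K16.f219309 IH) (Lpr_gf (f321354 IH) (Lpr_df (f273885 IH) (Lpn (LP (LK LD1_c15 LD2_c6 LD3_c39))))))))))))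
theorem f321360 : Led Lsl_et (LP (LK LD1_c26 LD2_c47 LD3_c17)) = (LP (LK LD1_c17 LD2_c38 LD3_c56)) :=
  Lgr Lrot121 (Lpr_dt (f238206 IH) (Lpe (f238188 IH) (Lpr_df (f238091 IH) (Lpr_et (K15.f238180 IH) (Lpe (K15.f267585 IH) (Lpe (f179622 IH) (Lpr_dt (K16.f219305 IH) (Lpr_gf (f321354 IH) (Lpr_df (f273885 IH) (Lpe (f321358 IH) (Lpn (LP (LK LD1_c17 LD2_c38 LD3_c56)))))))))))))
theorem f321366 : Led Lsl_et (LP (LK LD1_c4 LD2_c19 LD3_c27)) = (LP (LK LD1_c8 LD2_c37 LD3_c10)) :=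
  Lre_e IH (LK LD1_c4 LD2_c19 LD3_c27) (LK LD1_c8 LD2_c37 LD3_c10) Lrfl Lrfl
theorem f321367 : Led Lsl_gf (LP (LK LD1_c4 LD2_c51 LD3_c22)) = (LP (LK LD1_c8 LD2_c37 LD3_c10)) :=
  Lgr Lrot138 (Lpe (f238091 IH) (Lpr_gt (f238188 IH) (Lpe (f238206 IH) (Lpr_et (f321360 IH) (Lpr_gt (f321358 IH) (Lpe (K15.f256048 IH) (Lpr_dt (K15.f257941 IH) (Lpe (K15.f257937 IH) (Lpe (K17.f278200 IH) (Lpr_et (f321366 IH) (Lpn (LP (LK LD1_c8 LD2_c37 LD3_c10)))))))))))))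
theorem f238189 : Led Lsl_et (LP (LK LD1_c9 LD2_c0 LD3_c35)) = (LP (LK LD1_c4 LD2_c31 LD3_c20)) :=
  Lre_e IH (LK LD1_c9 LD2_c0 LD3_c35) (LK LD1_c4 LD2_c31 LD3_c20) Lrfl Lrfl
theorem f278683 : Led Lsl_gt (LP (LK LD1_c4 LD2_c27 LD3_c50)) = (LP (LK LD1_c2 LD2_c11 LD3_c10)) :=
  Lgr Lrot189 (Lpe (K16.f278658 IH) (Lpr_gf (K16.f278662 IH) (Lpe (K16.f276425 IH) (Lpe (K15.f267164 IH) (Lpr_dt (K15.f267125 IH) (Lpr_gt (K15.f267123 IH) (Lpr_dt (K16.f267099 IH) (Lpe (K16.f267100 IH) (Lpe (K16.f267126 IH) (Lpn (LP (LK LD1_c2 LD2_c11 LD3_c10))))))))))))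
theorem f279291 : Led Lsl_ff (LP (LK LD1_c4 LD2_c5 LD3_c1)) = (LP (LK LD1_c4 LD2_c19 LD3_c22)) :=
  Lgr Lrot23 (Lpr_ct (K14.f53637 IH) (Lpr_ft (K16.f279289 IH) (Lpr_ct (K17.f279258 IH) (Lpn (LP (LK LD1_c4 LD2_c19 LD3_c22))))))
theorem f53971 : Led Lsl_af (LP (LK LD1_c4 LD2_c5 LD3_c0)) = (LP (LK LD1_c4 LD2_c5 LD3_c1)) :=
  Lgr Lrot68 (Lpr_ct (K12.f53651 IH) (Lpr_at (K12.f53965 IH) (Lpr_ct (K12.f53961 IH) (Lpn (LP (LK LD1_c4 LD2_c5 LD3_c1))))))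
theorem f223370 : Led Lsl_ct (LP (LK LD1_c4 LD2_c28 LD3_c7)) = (LP (LK LD1_c4 LD2_c4 LD3_c61)) :=
  Lgr Lrot59 (Lpr_cf (K12.f223205 IH) (Lpn (LP (LK LD1_c4 LD2_c4 LD3_c61))))
theorem f292450 : Led Lsl_df (LP (LK LD1_c4 LD2_c28 LD3_c7)) = (LP (LK LD1_c8 LD2_c53 LD3_c42)) :=
  Lgr Lrot106 (Lpr_ct (f223370 IH) (Lpr_dt (K9.f53633 IH) (Lpr_ct (K10.f44499 IH) (Lpr_dt (K12.f47448 IH) (Lpr_ct (K16.f53887 IH) (Lpr_af (f53971 IH) (Lpr_ff (f279291 IH) (Lpr_dt (K17.f279301 IH) (Lpr_ct (K17.f292437 IH) (Lpn (LP (LK LD1_c8 LD2_c53 LD3_c42))))))))))))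
theorem f292655 : Led Lsl_gt (LP (LK LD1_c4 LD2_c31 LD3_c20)) = (LP (LK LD1_c4 LD2_c14 LD3_c2)) :=
  Lgr Lrot94 (Lpe (K16.f278642 IH) (Lpr_gt (f278683 IH) (Lpr_dt (K16.f267126 IH) (Lpr_gt (K17.f292649 IH) (Lpe (f292450 IH) (Lpr_cf (K12.f223205 IH) (Lpe (K9.f47462 IH) (Lpr_gf (K16.f260918 IH) (Lpe (K16.f260935 IH) (Lpn (LP (LK LD1_c4 LD2_c14 LD3_c2))))))))))))
theorem f182565 : Led Lsl_et (LP (LK LD1_c8 LD2_c11 LD3_c24)) = (LP (LK LD1_c4 LD2_c5 LD3_c17)) :=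
  Lre_e IH (LK LD1_c8 LD2_c11 LD3_c24) (LK LD1_c4 LD2_c5 LD3_c17) Lrfl Lrfl
theorem f321382 : Led Lsl_dt (LP (LK LD1_c8 LD2_c11 LD3_c24)) = (LP (LK LD1_c8 LD2_c37 LD3_c10)) :=
  Lgr Lrot136 (Lpr_et (f182565 IH) (Lpe (K10.f191100 IH) (Lpe (K9.f47791 IH) (Lpr_dt (K9.f53633 IH) (Lpr_gf (K16.f260918 IH) (Lpe (K16.f260935 IH) (Lpe (f292655 IH) (Lpe (f238189 IH) (Lpr_dt (K15.f238172 IH) (Lpr_gf (f321367 IH) (Lpn (LP (LK LD1_c8 LD2_c37 LD3_c10)))))))))))))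
theorem f182943 : Led Lsl_gt (LP (LK LD1_c15 LD2_c25 LD3_c7)) = (LP (LK LD1_c8 LD2_c11 LD3_c24)) :=
  Lre_g IH (LK LD1_c15 LD2_c25 LD3_c7) (LK LD1_c8 LD2_c11 LD3_c24) Lrfl Lrfl
theorem f278659 : Led Lsl_et (LP (LK LD1_c8 LD2_c53 LD3_c32)) = (LP (LK LD1_c4 LD2_c27 LD3_c50)) :=
  Lre_e IH (LK LD1_c8 LD2_c53 LD3_c32) (LK LD1_c4 LD2_c27 LD3_c50) Lrfl Lrfl
theorem f278660 : Led Lsl_cf (LP (LK LD1_c8 LD2_c53 LD3_c32)) = (LP (LK LD1_c9 LD2_c0 LD3_c35)) :=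
  Lgr Lrot39 (Lpr_et (f278659 IH) (Lpr_ct (K16.f278642 IH) (Lpr_et (K15.f238179 IH) (Lpn (LP (LK LD1_c9 LD2_c0 LD3_c35))))))
theorem f292673 : Led Lsl_dt (LP (LK LD1_c16 LD2_c37 LD3_c40)) = (LP (LK LD1_c8 LD2_c53 LD3_c32)) :=
  Lre_d IH (LK LD1_c16 LD2_c37 LD3_c40) (LK LD1_c8 LD2_c53 LD3_c32) Lrfl Lrfl
theorem f292667 : Led Lsl_dt (LP (LK LD1_c8 LD2_c53 LD3_c32)) = (LP (LK LD1_c16 LD2_c37 LD3_c40)) :=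
  Lre_d IH (LK LD1_c8 LD2_c53 LD3_c32) (LK LD1_c16 LD2_c37 LD3_c40) Lrfl Lrfl
theorem f190206 : Led Lsl_cf (LP (LK LD1_c4 LD2_c15 LD3_c3)) = (LP (LK LD1_c6 LD2_c4 LD3_c59)) :=
  Lgr Lrot108 (Lpe (K10.f183638 IH) (Lpe (K10.f190097 IH) (Lpr_ft (K10.f190199 IH) (Lpn (LP (LK LD1_c6 LD2_c4 LD3_c59))))))
theorem f223372 : Led Lsl_et (LP (LK LD1_c4 LD2_c28 LD3_c7)) = (LP (LK LD1_c6 LD2_c4 LD3_c59)) :=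
  Lgr Lrot158 (Lpr_cf (K12.f223205 IH) (Lpe (K14.f54085 IH) (Lpr_cf (f190206 IH) (Lpn (LP (LK LD1_c6 LD2_c4 LD3_c59))))))
theorem f292469 : Led Lsl_dt (LP (LK LD1_c6 LD2_c4 LD3_c60)) = (LP (LK LD1_c11 LD2_c53 LD3_c20)) :=
  Lre_d IH (LK LD1_c6 LD2_c4 LD3_c60) (LK LD1_c11 LD2_c53 LD3_c20) Lrfl Lrfl
theorem f292668 : Led Lsl_gf (LP (LK LD1_c16 LD2_c37 LD3_c40)) = (LP (LK LD1_c11 LD2_c53 LD3_c20)) :=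
  Lgr Lrot145 (Lpe (f292667 IH) (Lpr_et (f278659 IH) (Lpr_gt (f278683 IH) (Lpr_dt (K16.f267126 IH) (Lpr_gt (K17.f292649 IH) (Lpe (K17.f292454 IH) (Lpr_et (f223372 IH) (Lpr_gt (K10.f190189 IH) (Lpe (K17.f283440 IH) (Lpr_dt (f292469 IH) (Lpn (LP (LK LD1_c11 LD2_c53 LD3_c20)))))))))))))
theorem f292675 : Led Lsl_gt (LP (LK LD1_c11 LD2_c53 LD3_c19)) = (LP (LK LD1_c6 LD2_c4 LD3_c60)) :=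
  Lre_g IH (LK LD1_c11 LD2_c53 LD3_c19) (LK LD1_c6 LD2_c4 LD3_c60) Lrfl Lrfl
theorem f321387 : Led Lsl_cf (LP (LK LD1_c15 LD2_c25 LD3_c7)) = (LP (LK LD1_c11 LD2_c53 LD3_c19)) :=
  Lgr Lrot166 (Lpr_gt (f182943 IH) (Lpr_dt (f321382 IH) (Lpe (f321367 IH) (Lpe (f238091 IH) (Lpe (f278660 IH) (Lpe (f292673 IH) (Lpr_gf (f292668 IH) (Lpe (f292469 IH) (Lpe (f292675 IH) (Lpn (LP (LK LD1_c11 LD2_c53 LD3_c19))))))))))))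
theorem f260972 : Led Lsl_et (LP (LK LD1_c15 LD2_c25 LD3_c7)) = (LP (LK LD1_c25 LD2_c17 LD3_c21)) :=
  Lre_e IH (LK LD1_c15 LD2_c25 LD3_c7) (LK LD1_c25 LD2_c17 LD3_c21) Lrfl Lrfl
theorem f292683 : Led Lsl_et (LP (LK LD1_c20 LD2_c56 LD3_c56)) = (LP (LK LD1_c11 LD2_c53 LD3_c19)) :=
  Lre_e IH (LK LD1_c20 LD2_c56 LD3_c56) (LK LD1_c11 LD2_c53 LD3_c19) Lrfl Lrfl
theorem f321392 : Led Lsl_ct (LP (LK LD1_c25 LD2_c17 LD3_c21)) = (LP (LK LD1_c20 LD2_c56 LD3_c56)) :=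
  Lgr Lrot15 (Lpe (f260972 IH) (Lpr_cf (f321387 IH) (Lpe (f292683 IH) (Lpn (LP (LK LD1_c20 LD2_c56 LD3_c56))))))
theorem f220387 : Led Lsl_et (LP (LK LD1_c5 LD2_c29 LD3_c35)) = (LP (LK LD1_c10 LD2_c50 LD3_c24)) :=
  Lre_e IH (LK LD1_c5 LD2_c29 LD3_c35) (LK LD1_c10 LD2_c50 LD3_c24) Lrfl Lrfl
theorem f260958 : Led Lsl_et (LP (LK LD1_c2 LD2_c4 LD3_c24)) = (LP (LK LD1_c4 LD2_c14 LD3_c3)) :=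
  Lre_e IH (LK LD1_c2 LD2_c4 LD3_c24) (LK LD1_c4 LD2_c14 LD3_c3) Lrfl Lrfl
theorem f260959 : Led Lsl_et (LP (LK LD1_c8 LD2_c26 LD3_c41)) = (LP (LK LD1_c4 LD2_c14 LD3_c2)) :=
  Lre_e IH (LK LD1_c8 LD2_c26 LD3_c41) (LK LD1_c4 LD2_c14 LD3_c2) Lrfl Lrfl
theorem f260960 : Led Lsl_dt (LP (LK LD1_c10 LD2_c50 LD3_c24)) = (LP (LK LD1_c8 LD2_c26 LD3_c41)) :=
  Lgr Lrot77 (Lpe (f220387 IH) (Lpr_df (K18.f260938 IH) (Lpe (f260958 IH) (Lpe (K16.f260935 IH) (Lpe (f260959 IH) (Lpn (LP (LK LD1_c8 LD2_c26 LD3_c41))))))))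
theorem f260964 : Led Lsl_df (LP (LK LD1_c10 LD2_c50 LD3_c24)) = (LP (LK LD1_c8 LD2_c26 LD3_c41)) :=
  Lgr Lrot38 (Lpr_dt (f260960 IH) (Lpn (LP (LK LD1_c8 LD2_c26 LD3_c41))))
theorem f220374 : Led Lsl_gt (LP (LK LD1_c10 LD2_c50 LD3_c24)) = (LP (LK LD1_c19 LD2_c35 LD3_c45)) :=
  Lre_g IH (LK LD1_c10 LD2_c50 LD3_c24) (LK LD1_c19 LD2_c35 LD3_c45) Lrfl Lrfl
theorem f183011 : Led Lsl_et (LP (LK LD1_c4 LD2_c5 LD3_c17)) = (LP (LK LD1_c8 LD2_c11 LD3_c24)) :=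
  Lre_e IH (LK LD1_c4 LD2_c5 LD3_c17) (LK LD1_c8 LD2_c11 LD3_c24) Lrfl Lrfl
theorem f256119 : Led Lsl_et (LP (LK LD1_c25 LD2_c17 LD3_c21)) = (LP (LK LD1_c15 LD2_c25 LD3_c7)) :=
  Lre_e IH (LK LD1_c25 LD2_c17 LD3_c21) (LK LD1_c15 LD2_c25 LD3_c7) Lrfl Lrfl
theorem f260968 : Led Lsl_df (LP (LK LD1_c19 LD2_c35 LD3_c45)) = (LP (LK LD1_c25 LD2_c17 LD3_c21)) :=
  Lgr Lrot132 (Lpe (f220374 IH) (Lpr_df (f260964 IH) (Lpe (K16.f260941 IH) (Lpr_ef (K16.f247073 IH) (Lpr_dt (K15.f223728 IH) (Lpe (K14.f256086 IH) (Lpr_df (K15.f256084 IH) (Lpr_et (f183011 IH) (Lpe (f182943 IH) (Lpe (f256119 IH) (Lpn (LP (LK LD1_c25 LD2_c17 LD3_c21)))))))))))))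
theorem f260970 : Led Lsl_dt (LP (LK LD1_c19 LD2_c35 LD3_c45)) = (LP (LK LD1_c25 LD2_c17 LD3_c21)) :=
  Lgr Lrot42 (Lpr_df (f260968 IH) (Lpn (LP (LK LD1_c25 LD2_c17 LD3_c21))))
theorem f292359 : Led Lsl_et (LP (LK LD1_c4 LD2_c28 LD3_c0)) = (LP (LK LD1_c2 LD2_c11 LD3_c10)) :=
  Lre_e IH (LK LD1_c4 LD2_c28 LD3_c0) (LK LD1_c2 LD2_c11 LD3_c10) Lrfl Lrfl
theorem f267028 : Led Lsl_dt (LP (LK LD1_c4 LD2_c28 LD3_c0)) = (LP (LK LD1_c8 LD2_c54 LD3_c3)) :=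
  Lre_d IH (LK LD1_c4 LD2_c28 LD3_c0) (LK LD1_c8 LD2_c54 LD3_c3) Lrfl Lrfl
theorem f292682 : Led Lsl_gt (LP (LK LD1_c8 LD2_c54 LD3_c3)) = (LP (LK LD1_c16 LD2_c39 LD3_c3)) :=
  Lre_g IH (LK LD1_c8 LD2_c54 LD3_c3) (LK LD1_c16 LD2_c39 LD3_c3) Lrfl Lrfl
theorem f292684 : Led Lsl_df (LP (LK LD1_c16 LD2_c39 LD3_c3)) = (LP (LK LD1_c20 LD2_c56 LD3_c56)) :=
  Lgr Lrot168 (Lpe (f292682 IH) (Lpe (f267028 IH) (Lpr_et (f292359 IH) (Lpe (f278683 IH) (Lpe (f278659 IH) (Lpr_dt (f292667 IH) (Lpr_gf (f292668 IH) (Lpe (f292469 IH) (Lpe (f292675 IH) (Lpe (f292683 IH) (Lpn (LP (LK LD1_c20 LD2_c56 LD3_c56)))))))))))))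
theorem f292690 : Led Lsl_dt (LP (LK LD1_c16 LD2_c39 LD3_c3)) = (LP (LK LD1_c20 LD2_c56 LD3_c56)) :=
  Lgr Lrot42 (Lpr_df (f292684 IH) (Lpn (LP (LK LD1_c20 LD2_c56 LD3_c56))))
theorem f247362 : Led Lsl_gt (LP (LK LD1_c8 LD2_c54 LD3_c2)) = (LP (LK LD1_c4 LD2_c28 LD3_c0)) :=
  Lre_g IH (LK LD1_c8 LD2_c54 LD3_c2) (LK LD1_c4 LD2_c28 LD3_c0) Lrfl Lrfl
theorem f321397 : Led Lsl_cf (LP (LK LD1_c9 LD2_c0 LD3_c59)) = (LP (LK LD1_c8 LD2_c54 LD3_c2)) :=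
  Lgr Lrot166 (Lpr_gt (K16.f260941 IH) (Lpe (f260964 IH) (Lpr_gt (f220374 IH) (Lpr_dt (f260970 IH) (Lpr_ct (f321392 IH) (Lpe (f292690 IH) (Lpe (f292682 IH) (Lpe (f267028 IH) (Lpe (f247362 IH) (Lpn (LP (LK LD1_c8 LD2_c54 LD3_c2))))))))))))
theorem f182301 : Led Lsl_ct (LP (LK LD1_c8 LD2_c52 LD3_c57)) = (LP (LK LD1_c16 LD2_c36 LD3_c19)) :=
  Lre_c IH (LK LD1_c8 LD2_c52 LD3_c57) (LK LD1_c16 LD2_c36 LD3_c19) Lrfl Lrfl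
theorem f321409 : Led Lsl_gt (LP (LK LD1_c16 LD2_c36 LD3_c19)) = (LP (LK LD1_c8 LD2_c54 LD3_c2)) :=
  Lgr Lrot150 (Lpe (f182301 IH) (Lpe (f267049 IH) (Lpr_df (K19.f310188 IH) (Lpr_gt (f310192 IH) (Lpr_ct (f284129 IH) (Lpr_gt (f321070 IH) (Lpr_ct (K16.f270815 IH) (Lpe (f247080 IH) (Lpr_cf (f321397 IH) (Lpn (LP (LK LD1_c8 LD2_c54 LD3_c2))))))))))))
theorem f321413 : Led Lsl_ft (LP (LK LD1_c16 LD2_c36 LD3_c19)) = (LP (LK LD1_c8 LD2_c52 LD3_c55)) :=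
  Lre_f IH (LK LD1_c16 LD2_c36 LD3_c19) (LK LD1_c8 LD2_c52 LD3_c55) Lrfl Lrfl
theorem f321414 : Led Lsl_at (LP (LK LD1_c8 LD2_c52 LD3_c55)) = (LP (LK LD1_c4 LD2_c28 LD3_c0)) :=
  Lgr Lrot26 (Lpe (f321413 IH) (Lpr_gt (f321409 IH) (Lpr_gt (f247362 IH) (Lpn (LP (LK LD1_c4 LD2_c28 LD3_c0))))))
theorem f321422 : Led Lsl_ft (LP (LK LD1_c4 LD2_c28 LD3_c0)) = (LP (LK LD1_c8 LD2_c54 LD3_c4)) :=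
  Lre_f IH (LK LD1_c4 LD2_c28 LD3_c0) (LK LD1_c8 LD2_c54 LD3_c4) Lrfl Lrfl
theorem f321423 : Led Lsl_af (LP (LK LD1_c16 LD2_c36 LD3_c19)) = (LP (LK LD1_c8 LD2_c54 LD3_c4)) :=
  Lgr Lrot45 (Lpr_ft (f321413 IH) (Lpr_at (f321414 IH) (Lpr_ft (f321422 IH) (Lpn (LP (LK LD1_c8 LD2_c54 LD3_c4))))))
theorem f321429 : Led Lsl_gf (LP (LK LD1_c16 LD2_c36 LD3_c19)) = (LP (LK LD1_c8 LD2_c54 LD3_c1)) :=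
  Lgr Lrot76 (Lpr_af (f321423 IH) (Lpe (f321422 IH) (Lpr_gt (f247364 IH) (Lpn (LP (LK LD1_c8 LD2_c54 LD3_c1))))))
theorem f261032 : Led Lsl_bf (LP (LK LD1_c15 LD2_c18 LD3_c29)) = (LP (LK LD1_c8 LD2_c52 LD3_c57)) :=
  Lgr Lrot93 (Lpr_dt (K15.f261026 IH) (Lpe (K15.f260808 IH) (Lpe (K17.f182294 IH) (Lpn (LP (LK LD1_c8 LD2_c52 LD3_c57))))))
theorem f301001 : Led Lsl_bt (LP (LK LD1_c15 LD2_c51 LD3_c26)) = (LP (LK LD1_c10 LD2_c51 LD3_c37)) :=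
  Lgr Lrot35 (Lpe (K16.f273889 IH) (Lpr_bf (K16.f273879 IH) (Lpr_ff (K18.f300992 IH) (Lpn (LP (LK LD1_c10 LD2_c51 LD3_c37))))))
theorem f321434 : Led Lsl_ct (LP (LK LD1_c15 LD2_c51 LD3_c26)) = (LP (LK LD1_c8 LD2_c54 LD3_c1)) :=
  Lgr Lrot64 (Lpr_bt (f301001 IH) (Lpe (K18.f301075 IH) (Lpe (K18.f301083 IH) (Lpr_ct (K18.f301087 IH) (Lpe (K18.f301088 IH) (Lpr_cf (K18.f301340 IH) (Lpe (K17.f261038 IH) (Lpr_bf (f261032 IH) (Lpr_ct (f182301 IH) (Lpr_gf (f321429 IH) (Lpn (LP (LK LD1_c8 LD2_c54 LD3_c1)))))))))))))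
theorem f317558 : Led Lsl_ct (LP (LK LD1_c8 LD2_c18 LD3_c12)) = (LP (LK LD1_c15 LD2_c36 LD3_c48)) :=
  Lre_c IH (LK LD1_c8 LD2_c18 LD3_c12) (LK LD1_c15 LD2_c36 LD3_c48) Lrfl Lrfl
theorem f247361 : Led Lsl_ct (LP (LK LD1_c2 LD2_c11 LD3_c11)) = (LP (LK LD1_c4 LD2_c28 LD3_c0)) :=
  Lre_c IH (LK LD1_c2 LD2_c11 LD3_c11) (LK LD1_c4 LD2_c28 LD3_c0) Lrfl Lrfl
theorem f216630 : Led Lsl_bt (LP (LK LD1_c4 LD2_c9 LD3_c17)) = (LP (LK LD1_c2 LD2_c2 LD3_c1)) :=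
  Lre_b IH (LK LD1_c4 LD2_c9 LD3_c17) (LK LD1_c2 LD2_c2 LD3_c1) Lrfl Lrfl
theorem f1409 : Led Lsl_dt (LP (LK LD1_c2 LD2_c2 LD3_c1)) = (LP (LK LD1_c4 LD2_c9 LD3_c27)) :=
  Lre_d IH (LK LD1_c2 LD2_c2 LD3_c1) (LK LD1_c4 LD2_c9 LD3_c27) Lrfl Lrfl
theorem f238555 : Led Lsl_bf (LP (LK LD1_c4 LD2_c19 LD3_c14)) = (LP (LK LD1_c4 LD2_c9 LD3_c27)) :=
  Lgr Lrot93 (Lpr_dt (K15.f238549 IH) (Lpr_bt (f216630 IH) (Lpr_dt (f1409 IH) (Lpn (LP (LK LD1_c4 LD2_c9 LD3_c27))))))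
theorem f238577 : Led Lsl_ct (LP (LK LD1_c4 LD2_c9 LD3_c27)) = (LP (LK LD1_c8 LD2_c18 LD3_c57)) :=
  Lre_c IH (LK LD1_c4 LD2_c9 LD3_c27) (LK LD1_c8 LD2_c18 LD3_c57) Lrfl Lrfl
theorem f321599 : Led Lsl_gt (LP (LK LD1_c15 LD2_c36 LD3_c48)) = (LP (LK LD1_c8 LD2_c18 LD3_c57)) :=
  Lgr Lrot149 (Lpe (f317558 IH) (Lpe (f317559 IH) (Lpe (f301001 IH) (Lpr_ct (f321434 IH) (Lpe (f247364 IH) (Lpe (f247361 IH) (Lpe (K14.f247344 IH) (Lpe (K15.f228078 IH) (Lpr_bf (f238555 IH) (Lpr_ct (f238577 IH) (Lpn (LP (LK LD1_c8 LD2_c18 LD3_c57)))))))))))))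
theorem f238571 : Led Lsl_ct (LP (LK LD1_c8 LD2_c18 LD3_c57)) = (LP (LK LD1_c4 LD2_c9 LD3_c27)) :=
  Lre_c IH (LK LD1_c8 LD2_c18 LD3_c57) (LK LD1_c4 LD2_c9 LD3_c27) Lrfl Lrfl
theorem f234474 : Led Lsl_ct (LP (LK LD1_c4 LD2_c9 LD3_c22)) = (LP (LK LD1_c2 LD2_c2 LD3_c1)) :=
  Lre_c IH (LK LD1_c4 LD2_c9 LD3_c22) (LK LD1_c2 LD2_c2 LD3_c1) Lrfl Lrfl
theorem f254752 : Led Lsl_gt (LP (LK LD1_c8 LD2_c18 LD3_c49)) = (LP (LK LD1_c4 LD2_c9 LD3_c22)) :=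
  Lre_g IH (LK LD1_c8 LD2_c18 LD3_c49) (LK LD1_c4 LD2_c9 LD3_c22) Lrfl Lrfl
theorem f321606 : Led Lsl_ct (LP (LK LD1_c9 LD2_c37 LD3_c43)) = (LP (LK LD1_c8 LD2_c18 LD3_c49)) :=
  Lgr Lrot152 (Lpe (f301124 IH) (Lpr_df (f300990 IH) (Lpr_gt (f317559 IH) (Lpr_ct (f317558 IH) (Lpr_gt (f321599 IH) (Lpr_ct (f238571 IH) (Lpe (f1409 IH) (Lpe (f234474 IH) (Lpe (f254752 IH) (Lpn (LP (LK LD1_c8 LD2_c18 LD3_c49))))))))))))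
theorem f234471 : Led Lsl_ct (LP (LK LD1_c2 LD2_c2 LD3_c1)) = (LP (LK LD1_c4 LD2_c9 LD3_c22)) :=
  Lre_c IH (LK LD1_c2 LD2_c2 LD3_c1) (LK LD1_c4 LD2_c9 LD3_c22) Lrfl Lrfl
theorem f238546 : Led Lsl_bt (LP (LK LD1_c2 LD2_c2 LD3_c1)) = (LP (LK LD1_c4 LD2_c9 LD3_c17)) :=
  Lre_b IH (LK LD1_c2 LD2_c2 LD3_c1) (LK LD1_c4 LD2_c9 LD3_c17) Lrfl Lrfl
theorem f321620 : Led Lsl_bt (LP (LK LD1_c8 LD2_c34 LD3_c15)) = (LP (LK LD1_c8 LD2_c18 LD3_c35)) :=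
  Lgr Lrot92 (Lpr_ct (f284130 IH) (Lpr_gt (f321105 IH) (Lpr_cf (K15.f258448 IH) (Lpr_bt (K15.f258477 IH) (Lpr_gt (f301124 IH) (Lpr_ct (f321606 IH) (Lpr_gt (f254752 IH) (Lpe (f234471 IH) (Lpr_bt (f238546 IH) (Lpr_gt (K19.f238554 IH) (Lpn (LP (LK LD1_c8 LD2_c18 LD3_c35)))))))))))))
theorem f316393 : Led Lsl_et (LP (LK LD1_c10 LD2_c14 LD3_c46)) = (LP (LK LD1_c10 LD2_c1 LD3_c43)) :=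
  Lgr Lrot87 (Lpr_ef (f316389 IH) (Lpn (LP (LK LD1_c10 LD2_c1 LD3_c43))))
theorem f230654 : Led Lsl_et (LP (LK LD1_c2 LD2_c10 LD3_c50)) = (LP (LK LD1_c4 LD2_c27 LD3_c15)) :=
  Lre_e IH (LK LD1_c2 LD2_c10 LD3_c50) (LK LD1_c4 LD2_c27 LD3_c15) Lrfl Lrfl
theorem f230580 : Led Lsl_gt (LP (LK LD1_c4 LD2_c27 LD3_c15)) = (LP (LK LD1_c8 LD2_c52 LD3_c12)) :=
  Lre_g IH (LK LD1_c4 LD2_c27 LD3_c15) (LK LD1_c8 LD2_c52 LD3_c12) Lrfl Lrfl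
theorem f230581 : Led Lsl_dt (LP (LK LD1_c8 LD2_c52 LD3_c12)) = (LP (LK LD1_c16 LD2_c35 LD3_c3)) :=
  Lre_d IH (LK LD1_c8 LD2_c52 LD3_c12) (LK LD1_c16 LD2_c35 LD3_c3) Lrfl Lrfl
theorem f316397 : Led Lsl_gf (LP (LK LD1_c11 LD2_c53 LD3_c40)) = (LP (LK LD1_c16 LD2_c35 LD3_c3)) :=
  Lgr Lrot134 (Lpe (f290048 IH) (Lpr_et (f316393 IH) (Lpr_gt (f169949 IH) (Lpe (K14.f230800 IH) (Lpr_dt (K14.f230798 IH) (Lpr_gt (K14.f230786 IH) (Lpe (K12.f230783 IH) (Lpr_et (f230654 IH) (Lpr_gt (f230580 IH) (Lpr_dt (f230581 IH) (Lpn (LP (LK LD1_c16 LD2_c35 LD3_c3)))))))))))))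
theorem f7973 : Led Lsl_et (LP (LK LD1_c2 LD2_c6 LD3_c10)) = (LP (LK LD1_c4 LD2_c17 LD3_c38)) :=
  Lre_e IH (LK LD1_c2 LD2_c6 LD3_c10) (LK LD1_c4 LD2_c17 LD3_c38) Lrfl Lrfl
theorem f290166 : Led Lsl_ef (LP (LK LD1_c5 LD2_c19 LD3_c55)) = (LP (LK LD1_c4 LD2_c28 LD3_c2)) :=
  Lgr Lrot73 (Lpr_dt (K17.f274437 IH) (Lpr_et (K17.f290164 IH) (Lpe (K17.f7955 IH) (Lpr_et (f7973 IH) (Lpe (K17.f284116 IH) (Lpn (LP (LK LD1_c4 LD2_c28 LD3_c2))))))))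
theorem f284121 : Led Lsl_dt (LP (LK LD1_c4 LD2_c28 LD3_c2)) = (LP (LK LD1_c4 LD2_c17 LD3_c38)) :=
  Lgr Lrot42 (Lpr_df (K17.f284116 IH) (Lpn (LP (LK LD1_c4 LD2_c17 LD3_c38))))
theorem f284197 : Led Lsl_dt (LP (LK LD1_c16 LD2_c5 LD3_c10)) = (LP (LK LD1_c8 LD2_c34 LD3_c15)) :=
  Lre_d IH (LK LD1_c16 LD2_c5 LD3_c10) (LK LD1_c8 LD2_c34 LD3_c15) Lrfl Lrfl
theorem f316400 : Led Lsl_et (LP (LK LD1_c16 LD2_c5 LD3_c10)) = (LP (LK LD1_c16 LD2_c35 LD3_c3)) :=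
  Lgr Lrot121 (Lpr_dt (f284197 IH) (Lpe (f7982 IH) (Lpe (f284121 IH) (Lpe (f290166 IH) (Lpe (K17.f290037 IH) (Lpe (f264901 IH) (Lpe (f266139 IH) (Lpe (f240512 IH) (Lpr_df (f290044 IH) (Lpr_gf (f316397 IH) (Lpn (LP (LK LD1_c16 LD2_c35 LD3_c3)))))))))))))
theorem f302820 : Led Lsl_et (LP (LK LD1_c4 LD2_c28 LD3_c1)) = (LP (LK LD1_c8 LD2_c54 LD3_c6)) :=
  Lre_e IH (LK LD1_c4 LD2_c28 LD3_c1) (LK LD1_c8 LD2_c54 LD3_c6) Lrfl Lrfl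
theorem f258086 : Led Lsl_df (LP (LK LD1_c10 LD2_c22 LD3_c33)) = (LP (LK LD1_c10 LD2_c29 LD3_c36)) :=
  Lgr Lrot38 (Lpr_dt (f258081 IH) (Lpn (LP (LK LD1_c10 LD2_c29 LD3_c36))))
theorem f248337 : Led Lsl_et (LP (LK LD1_c2 LD2_c5 LD3_c39)) = (LP (LK LD1_c4 LD2_c16 LD3_c45)) :=
  Lre_e IH (LK LD1_c2 LD2_c5 LD3_c39) (LK LD1_c4 LD2_c16 LD3_c45) Lrfl Lrfl
theorem f288905 : Led Lsl_ef (LP (LK LD1_c8 LD2_c20 LD3_c38)) = (LP (LK LD1_c8 LD2_c32 LD3_c49)) :=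
  Lgr Lrot21 (Lpr_ft (K17.f288872 IH) (Lpr_et (K15.f251895 IH) (Lpe (K14.f251886 IH) (Lpr_et (f248337 IH) (Lpr_ft (K12.f230972 IH) (Lpn (LP (LK LD1_c8 LD2_c32 LD3_c49))))))))
theorem f288806 : Led Lsl_gt (LP (LK LD1_c2 LD2_c11 LD3_c12)) = (LP (LK LD1_c1 LD2_c9 LD3_c29)) :=
  Lgr Lrot46 (Lpe (K17.f288799 IH) (Lpr_ft (K17.f288797 IH) (Lpe (K17.f288802 IH) (Lpn (LP (LK LD1_c1 LD2_c9 LD3_c29))))))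
theorem f167530 : Led Lsl_et (LP (LK LD1_c1 LD2_c0 LD3_c9)) = (LP (LK LD1_c2 LD2_c6 LD3_c20)) :=
  Lre_e IH (LK LD1_c1 LD2_c0 LD3_c9) (LK LD1_c2 LD2_c6 LD3_c20) Lrfl Lrfl
theorem f167512 : Led Lsl_gt (LP (LK LD1_c2 LD2_c6 LD3_c20)) = (LP (LK LD1_c4 LD2_c18 LD3_c5)) :=
  Lre_g IH (LK LD1_c2 LD2_c6 LD3_c20) (LK LD1_c4 LD2_c18 LD3_c5) Lrfl Lrfl
theorem f302852 : Led Lsl_df (LP (LK LD1_c5 LD2_c16 LD3_c29)) = (LP (LK LD1_c4 LD2_c18 LD3_c5)) :=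
  Lgr Lrot135 (Lpr_gt (f302839 IH) (Lpr_df (K14.f248351 IH) (Lpe (f288905 IH) (Lpr_gt (K17.f236952 IH) (Lpe (K17.f236954 IH) (Lpe (K15.f267591 IH) (Lpr_gt (f288806 IH) (Lpe (K18.f167503 IH) (Lpr_et (f167530 IH) (Lpr_gt (f167512 IH) (Lpn (LP (LK LD1_c4 LD2_c18 LD3_c5)))))))))))))
theorem f302861 : Led Lsl_dt (LP (LK LD1_c5 LD2_c16 LD3_c29)) = (LP (LK LD1_c4 LD2_c18 LD3_c5)) :=
  Lgr Lrot42 (Lpr_df (f302852 IH) (Lpn (LP (LK LD1_c4 LD2_c18 LD3_c5))))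
theorem f258088 : Led Lsl_et (LP (LK LD1_c5 LD2_c16 LD3_c29)) = (LP (LK LD1_c10 LD2_c22 LD3_c33)) :=
  Lre_e IH (LK LD1_c5 LD2_c16 LD3_c29) (LK LD1_c10 LD2_c22 LD3_c33) Lrfl Lrfl
theorem f165193 : Led Lsl_et (LP (LK LD1_c2 LD2_c29 LD3_c60)) = (LP (LK LD1_c1 LD2_c11 LD3_c61)) :=
  Lre_e IH (LK LD1_c2 LD2_c29 LD3_c60) (LK LD1_c1 LD2_c11 LD3_c61) Lrfl Lrfl
theorem f242941 : Led Lsl_gt (LP (LK LD1_c8 LD2_c8 LD3_c14)) = (LP (LK LD1_c4 LD2_c3 LD3_c54)) :=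
  Lre_g IH (LK LD1_c8 LD2_c8 LD3_c14) (LK LD1_c4 LD2_c3 LD3_c54) Lrfl Lrfl
theorem f46071 : Led Lsl_gt (LP (LK LD1_c5 LD2_c20 LD3_c14)) = (LP (LK LD1_c2 LD2_c36 LD3_c46)) :=
  Lre_g IH (LK LD1_c5 LD2_c20 LD3_c14) (LK LD1_c2 LD2_c36 LD3_c46) Lrfl Lrfl
theorem f46315 : Led Lsl_gf (LP (LK LD1_c5 LD2_c20 LD3_c14)) = (LP (LK LD1_c4 LD2_c27 LD3_c21)) :=
  Lgr Lrot47 (Lpr_gt (f46071 IH) (Lpr_af (K1.f46309 IH) (Lpr_ff (K1.f44072 IH) (Lpn (LP (LK LD1_c4 LD2_c27 LD3_c21))))))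
theorem f46077 : Led Lsl_et (LP (LK LD1_c10 LD2_c30 LD3_c29)) = (LP (LK LD1_c5 LD2_c20 LD3_c14)) :=
  Lre_e IH (LK LD1_c10 LD2_c30 LD3_c29) (LK LD1_c5 LD2_c20 LD3_c14) Lrfl Lrfl
theorem f242951 : Led Lsl_dt (LP (LK LD1_c10 LD2_c30 LD3_c29)) = (LP (LK LD1_c8 LD2_c8 LD3_c14)) :=
  Lgr Lrot136 (Lpr_et (f46077 IH) (Lpr_gf (f46315 IH) (Lpe (K1.f44071 IH) (Lpr_dt (K1.f46136 IH) (Lpr_gf (K14.f192359 IH) (Lpe (K15.f31636 IH) (Lpe (K14.f31637 IH) (Lpe (K15.f167523 IH) (Lpr_dt (K18.f242935 IH) (Lpe (f242941 IH) (Lpn (LP (LK LD1_c8 LD2_c8 LD3_c14)))))))))))))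
theorem f302893 : Led Lsl_gt (LP (LK LD1_c10 LD2_c22 LD3_c33)) = (LP (LK LD1_c10 LD2_c30 LD3_c29)) :=
  Lgr Lrot137 (Lpe (f258088 IH) (Lpr_dt (f302861 IH) (Lpe (f167512 IH) (Lpr_df (K18.f167480 IH) (Lpr_et (f165193 IH) (Lpe (K14.f31637 IH) (Lpe (K15.f167523 IH) (Lpr_dt (K18.f242935 IH) (Lpe (f242941 IH) (Lpe (f242951 IH) (Lpn (LP (LK LD1_c10 LD2_c30 LD3_c29)))))))))))))
theorem f242954 : Led Lsl_df (LP (LK LD1_c10 LD2_c30 LD3_c29)) = (LP (LK LD1_c8 LD2_c8 LD3_c14)) :=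
  Lgr Lrot38 (Lpr_dt (f242951 IH) (Lpn (LP (LK LD1_c8 LD2_c8 LD3_c14))))
theorem f242956 : Led Lsl_et (LP (LK LD1_c8 LD2_c8 LD3_c14)) = (LP (LK LD1_c15 LD2_c19 LD3_c20)) :=
  Lre_e IH (LK LD1_c8 LD2_c8 LD3_c14) (LK LD1_c15 LD2_c19 LD3_c20) Lrfl Lrfl
theorem f316407 : Led Lsl_gt (LP (LK LD1_c15 LD2_c19 LD3_c20)) = (LP (LK LD1_c16 LD2_c35 LD3_c3)) :=
  Lgr Lrot131 (Lpe (f242956 IH) (Lpe (f242954 IH) (Lpe (f302893 IH) (Lpr_df (f258086 IH) (Lpr_gf (f302837 IH) (Lpe (f302820 IH) (Lpr_dt (K19.f310181 IH) (Lpe (f310193 IH) (Lpe (f284197 IH) (Lpr_et (f316400 IH) (Lpn (LP (LK LD1_c16 LD2_c35 LD3_c3)))))))))))))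
theorem f240501 : Led Lsl_gt (LP (LK LD1_c5 LD2_c11 LD3_c60)) = (LP (LK LD1_c10 LD2_c14 LD3_c45)) :=
  Lre_g IH (LK LD1_c5 LD2_c11 LD3_c60) (LK LD1_c10 LD2_c14 LD3_c45) Lrfl Lrfl
theorem f46072 : Led Lsl_dt (LP (LK LD1_c10 LD2_c30 LD3_c28)) = (LP (LK LD1_c5 LD2_c20 LD3_c14)) :=
  Lre_d IH (LK LD1_c10 LD2_c30 LD3_c28) (LK LD1_c5 LD2_c20 LD3_c14) Lrfl Lrfl
theorem f266144 : Led Lsl_ef (LP (LK LD1_c10 LD2_c14 LD3_c45)) = (LP (LK LD1_c10 LD2_c30 LD3_c28)) :=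
  Lgr Lrot17 (Lpe (f240501 IH) (Lpe (f266143 IH) (Lpr_dt (K15.f266137 IH) (Lpe (K14.f169407 IH) (Lpr_df (K12.f167616 IH) (Lpr_gf (K9.f184226 IH) (Lpe (K1.f44751 IH) (Lpe (K1.f46064 IH) (Lpe (f46071 IH) (Lpe (f46072 IH) (Lpn (LP (LK LD1_c10 LD2_c30 LD3_c28)))))))))))))
theorem f46317 : Led Lsl_dt (LP (LK LD1_c5 LD2_c20 LD3_c14)) = (LP (LK LD1_c10 LD2_c30 LD3_c28)) :=
  Lre_d IH (LK LD1_c5 LD2_c20 LD3_c14) (LK LD1_c10 LD2_c30 LD3_c28) Lrfl Lrfl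
theorem f242946 : Led Lsl_et (LP (LK LD1_c15 LD2_c19 LD3_c20)) = (LP (LK LD1_c8 LD2_c8 LD3_c14)) :=
  Lre_e IH (LK LD1_c15 LD2_c19 LD3_c20) (LK LD1_c8 LD2_c8 LD3_c14) Lrfl Lrfl
theorem f266146 : Led Lsl_dt (LP (LK LD1_c10 LD2_c14 LD3_c45)) = (LP (LK LD1_c15 LD2_c19 LD3_c20)) :=
  Lgr Lrot77 (Lpr_ef (f266144 IH) (Lpe (f46317 IH) (Lpe (f46077 IH) (Lpr_df (f242954 IH) (Lpe (f242946 IH) (Lpn (LP (LK LD1_c15 LD2_c19 LD3_c20))))))))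
theorem f166070 : Led Lsl_gt (LP (LK LD1_c5 LD2_c16 LD3_c30)) = (LP (LK LD1_c2 LD2_c34 LD3_c61)) :=
  Lre_g IH (LK LD1_c5 LD2_c16 LD3_c30) (LK LD1_c2 LD2_c34 LD3_c61) Lrfl Lrfl
theorem f316410 : Led Lsl_ef (LP (LK LD1_c5 LD2_c16 LD3_c30)) = (LP (LK LD1_c8 LD2_c52 LD3_c12)) :=
  Lgr Lrot114 (Lpr_gt (f166070 IH) (Lpe (K10.f169379 IH) (Lpe (K12.f167616 IH) (Lpr_gt (K14.f169407 IH) (Lpe (K15.f266137 IH) (Lpr_et (f266143 IH) (Lpr_gt (f240501 IH) (Lpr_dt (f266146 IH) (Lpr_gt (f316407 IH) (Lpe (f230581 IH) (Lpn (LP (LK LD1_c8 LD2_c52 LD3_c12)))))))))))))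
theorem f212328 : Led Lsl_et (LP (LK LD1_c2 LD2_c35 LD3_c51)) = (LP (LK LD1_c1 LD2_c14 LD3_c57)) :=
  Lre_e IH (LK LD1_c2 LD2_c35 LD3_c51) (LK LD1_c1 LD2_c14 LD3_c57) Lrfl Lrfl
theorem f278534 : Led Lsl_gt (LP (LK LD1_c2 LD2_c37 LD3_c59)) = (LP (LK LD1_c5 LD2_c20 LD3_c16)) :=
  Lgr Lrot112 (Lpr_df (K16.f276941 IH) (Lpr_et (f212328 IH) (Lpr_gf (K14.f192119 IH) (Lpr_ef (K1.f44749 IH) (Lpr_dt (K1.f44591 IH) (Lpe (K9.f44597 IH) (Lpe (K15.f44607 IH) (Lpr_gf (K16.f278528 IH) (Lpe (K18.f167525 IH) (Lpr_dt (K14.f230801 IH) (Lpn (LP (LK LD1_c5 LD2_c20 LD3_c16)))))))))))))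
theorem f268066 : Led Lsl_ft (LP (LK LD1_c5 LD2_c18 LD3_c25)) = (LP (LK LD1_c2 LD2_c35 LD3_c51)) :=
  Lre_f IH (LK LD1_c5 LD2_c18 LD3_c25) (LK LD1_c2 LD2_c35 LD3_c51) Lrfl Lrfl
theorem f276951 : Led Lsl_ft (LP (LK LD1_c2 LD2_c37 LD3_c59)) = (LP (LK LD1_c5 LD2_c21 LD3_c42)) :=
  Lgr Lrot54 (Lpr_df (K16.f276941 IH) (Lpe (f268066 IH) (Lpe (K15.f268056 IH) (Lpn (LP (LK LD1_c5 LD2_c21 LD3_c42))))))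
theorem f258166 : Led Lsl_af (LP (LK LD1_c10 LD2_c28 LD3_c43)) = (LP (LK LD1_c5 LD2_c21 LD3_c42)) :=
  Lgr Lrot0 (Lpr_at (K15.f258152 IH) (Lpn (LP (LK LD1_c5 LD2_c21 LD3_c42))))
theorem f278536 : Led Lsl_gf (LP (LK LD1_c10 LD2_c28 LD3_c43)) = (LP (LK LD1_c5 LD2_c20 LD3_c16)) :=
  Lgr Lrot76 (Lpr_af (f258166 IH) (Lpe (f276951 IH) (Lpr_gt (f278534 IH) (Lpn (LP (LK LD1_c5 LD2_c20 LD3_c16))))))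
theorem f316416 : Led Lsl_gf (LP (LK LD1_c5 LD2_c16 LD3_c30)) = (LP (LK LD1_c5 LD2_c19 LD3_c61)) :=
  Lgr Lrot141 (Lpr_ef (f316410 IH) (Lpr_dt (f230581 IH) (Lpe (f316397 IH) (Lpe (f290048 IH) (Lpr_et (f316393 IH) (Lpr_gt (f169949 IH) (Lpr_dt (K14.f230801 IH) (Lpe (f278536 IH) (Lpe (K15.f230596 IH) (Lpe (f248434 IH) (Lpn (LP (LK LD1_c5 LD2_c19 LD3_c61)))))))))))))
theorem f167524 : Led Lsl_gt (LP (LK LD1_c4 LD2_c18 LD3_c6)) = (LP (LK LD1_c2 LD2_c6 LD3_c20)) :=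
  Lre_g IH (LK LD1_c4 LD2_c18 LD3_c6) (LK LD1_c2 LD2_c6 LD3_c20) Lrfl Lrfl
theorem f316418 : Led Lsl_dt (LP (LK LD1_c5 LD2_c16 LD3_c30)) = (LP (LK LD1_c4 LD2_c18 LD3_c6)) :=
  Lgr Lrot171 (Lpr_gf (f316416 IH) (Lpr_ef (f248434 IH) (Lpr_dt (K15.f230596 IH) (Lpr_gf (f278536 IH) (Lpe (K14.f230801 IH) (Lpr_et (K18.f167525 IH) (Lpe (K14.f165197 IH) (Lpe (f165193 IH) (Lpe (K18.f167480 IH) (Lpe (f167524 IH) (Lpn (LP (LK LD1_c4 LD2_c18 LD3_c6)))))))))))))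
theorem f247594 : Led Lsl_dt (LP (LK LD1_c16 LD2_c35 LD3_c3)) = (LP (LK LD1_c8 LD2_c52 LD3_c12)) :=
  Lre_d IH (LK LD1_c16 LD2_c35 LD3_c3) (LK LD1_c8 LD2_c52 LD3_c12) Lrfl Lrfl
theorem f7983 : Led Lsl_dt (LP (LK LD1_c8 LD2_c34 LD3_c15)) = (LP (LK LD1_c16 LD2_c5 LD3_c10)) :=
  Lre_d IH (LK LD1_c8 LD2_c34 LD3_c15) (LK LD1_c16 LD2_c5 LD3_c10) Lrfl Lrfl
theorem f316423 : Led Lsl_ef (LP (LK LD1_c8 LD2_c34 LD3_c15)) = (LP (LK LD1_c4 LD2_c18 LD3_c6)) :=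
  Lgr Lrot73 (Lpr_dt (f7983 IH) (Lpr_et (f316400 IH) (Lpr_dt (f247594 IH) (Lpe (f316410 IH) (Lpr_dt (f316418 IH) (Lpn (LP (LK LD1_c4 LD2_c18 LD3_c6))))))))
theorem f305626 : Led Lsl_et (LP (LK LD1_c8 LD2_c18 LD3_c35)) = (LP (LK LD1_c4 LD2_c21 LD3_c60)) :=
  Lgr Lrot71 (Lpe (K19.f238564 IH) (Lpr_ef (K19.f305622 IH) (Lpe (K19.f246130 IH) (Lpr_ef (f246132 IH) (Lpe (f246134 IH) (Lpn (LP (LK LD1_c4 LD2_c21 LD3_c60))))))))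
theorem f321626 : Led Lsl_bf (LP (LK LD1_c4 LD2_c18 LD3_c6)) = (LP (LK LD1_c4 LD2_c21 LD3_c60)) :=
  Lgr Lrot96 (Lpe (f316423 IH) (Lpr_bt (f321620 IH) (Lpr_et (f305626 IH) (Lpn (LP (LK LD1_c4 LD2_c21 LD3_c60))))))
theorem f316421 : Led Lsl_df (LP (LK LD1_c5 LD2_c16 LD3_c30)) = (LP (LK LD1_c4 LD2_c18 LD3_c6)) :=
  Lgr Lrot38 (Lpr_dt (f316418 IH) (Lpn (LP (LK LD1_c4 LD2_c18 LD3_c6))))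
theorem f321633 : Led Lsl_bt (LP (LK LD1_c5 LD2_c16 LD3_c30)) = (LP (LK LD1_c8 LD2_c41 LD3_c44)) :=
  Lgr Lrot95 (Lpr_df (f316421 IH) (Lpr_bf (f321626 IH) (Lpe (f216784 IH) (Lpn (LP (LK LD1_c8 LD2_c41 LD3_c44))))))
theorem f321637 : Led Lsl_bf (LP (LK LD1_c8 LD2_c52 LD3_c12)) = (LP (LK LD1_c8 LD2_c5 LD3_c48)) :=
  Lgr Lrot96 (Lpe (f316410 IH) (Lpr_bt (f321633 IH) (Lpe (f246132 IH) (Lpn (LP (LK LD1_c8 LD2_c5 LD3_c48))))))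
theorem f247591 : Led Lsl_gf (LP (LK LD1_c5 LD2_c16 LD3_c22)) = (LP (LK LD1_c8 LD2_c52 LD3_c12)) :=
  Lgr Lrot76 (Lpr_af (K14.f247578 IH) (Lpe (K14.f230576 IH) (Lpr_gt (f230580 IH) (Lpn (LP (LK LD1_c8 LD2_c52 LD3_c12))))))
theorem f230619 : Led Lsl_gt (LP (LK LD1_c16 LD2_c35 LD3_c0)) = (LP (LK LD1_c8 LD2_c52 LD3_c11)) :=
  Lre_g IH (LK LD1_c16 LD2_c35 LD3_c0) (LK LD1_c8 LD2_c52 LD3_c11) Lrfl Lrfl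
theorem f247610 : Led Lsl_gt (LP (LK LD1_c10 LD2_c22 LD3_c14)) = (LP (LK LD1_c16 LD2_c35 LD3_c0)) :=
  Lgr Lrot5 (Lpr_ft (K14.f247602 IH) (Lpr_at (K14.f247604 IH) (Lpe (f230619 IH) (Lpn (LP (LK LD1_c16 LD2_c35 LD3_c0))))))
theorem f201012 : Led Lsl_dt (LP (LK LD1_c11 LD2_c8 LD3_c45)) = (LP (LK LD1_c5 LD2_c38 LD3_c55)) :=
  Lre_d IH (LK LD1_c11 LD2_c8 LD3_c45) (LK LD1_c5 LD2_c38 LD3_c55) Lrfl Lrfl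
theorem f197201 : Led Lsl_ct (LP (LK LD1_c2 LD2_c31 LD3_c40)) = (LP (LK LD1_c5 LD2_c8 LD3_c60)) :=
  Lre_c IH (LK LD1_c2 LD2_c31 LD3_c40) (LK LD1_c5 LD2_c8 LD3_c60) Lrfl Lrfl
theorem f197203 : Led Lsl_ct (LP (LK LD1_c10 LD2_c8 LD3_c30)) = (LP (LK LD1_c18 LD2_c28 LD3_c27)) :=
  Lre_c IH (LK LD1_c10 LD2_c8 LD3_c30) (LK LD1_c18 LD2_c28 LD3_c27) Lrfl Lrfl
theorem f296841 : Led Lsl_dt (LP (LK LD1_c18 LD2_c28 LD3_c27)) = (LP (LK LD1_c28 LD2_c3 LD3_c20)) :=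
  Lre_d IH (LK LD1_c18 LD2_c28 LD3_c27) (LK LD1_c28 LD2_c3 LD3_c20) Lrfl Lrfl
theorem f296897 : Led Lsl_cf (LP (LK LD1_c25 LD2_c14 LD3_c14)) = (LP (LK LD1_c28 LD2_c3 LD3_c20)) :=
  Lgr Lrot55 (Lpr_dt (K18.f286731 IH) (Lpr_ct (K18.f286739 IH) (Lpr_dt (K18.f296891 IH) (Lpr_ct (K18.f258994 IH) (Lpr_dt (K18.f287260 IH) (Lpe (K18.f287251 IH) (Lpr_dt (K18.f244515 IH) (Lpr_ct (K18.f244481 IH) (Lpr_dt (f201012 IH) (Lpr_ct (f201013 IH) (Lpe (K18.f296839 IH) (Lpr_ct (f197201 IH) (Lpr_dt (f197188 IH) (Lpr_ct (f197203 IH) (Lpr_dt (f296841 IH) (Lpn (LP (LK LD1_c28 LD2_c3 LD3_c20))))))))))))))))))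
theorem f287166 : Led Lsl_ft (LP (LK LD1_c5 LD2_c8 LD3_c60)) = (LP (LK LD1_c10 LD2_c8 LD3_c31)) :=
  Lre_f IH (LK LD1_c5 LD2_c8 LD3_c60) (LK LD1_c10 LD2_c8 LD3_c31) Lrfl Lrfl
theorem f296903 : Led Lsl_at (LP (LK LD1_c10 LD2_c8 LD3_c31)) = (LP (LK LD1_c15 LD2_c11 LD3_c35)) :=
  Lgr Lrot33 (Lpe (f287166 IH) (Lpr_dt (f197188 IH) (Lpr_ct (f197203 IH) (Lpr_dt (f296841 IH) (Lpe (f296897 IH) (Lpr_dt (K18.f286731 IH) (Lpr_ct (K18.f286739 IH) (Lpr_dt (K18.f296891 IH) (Lpr_ct (K18.f258994 IH) (Lpn (LP (LK LD1_c15 LD2_c11 LD3_c35))))))))))))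
theorem f242308 : Led Lsl_gt (LP (LK LD1_c5 LD2_c8 LD3_c60)) = (LP (LK LD1_c10 LD2_c8 LD3_c28)) :=
  Lre_g IH (LK LD1_c5 LD2_c8 LD3_c60) (LK LD1_c10 LD2_c8 LD3_c28) Lrfl Lrfl
theorem f296907 : Led Lsl_gt (LP (LK LD1_c10 LD2_c8 LD3_c28)) = (LP (LK LD1_c15 LD2_c11 LD3_c35)) :=
  Lgr Lrot46 (Lpe (f242308 IH) (Lpr_ft (f287166 IH) (Lpr_at (f296903 IH) (Lpn (LP (LK LD1_c15 LD2_c11 LD3_c35))))))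
theorem f244125 : Led Lsl_ct (LP (LK LD1_c6 LD2_c4 LD3_c47)) = (LP (LK LD1_c11 LD2_c8 LD3_c43)) :=
  Lgr Lrot15 (Lpe (K19.f187861 IH) (Lpe (K15.f187853 IH) (Lpr_ef (K16.f244120 IH) (Lpn (LP (LK LD1_c11 LD2_c8 LD3_c43))))))
theorem f299059 : Led Lsl_cf (LP (LK LD1_c10 LD2_c8 LD3_c28)) = (LP (LK LD1_c8 LD2_c5 LD3_c48)) :=
  Lgr Lrot169 (Lpr_gt (f296907 IH) (Lpr_ct (K17.f259000 IH) (Lpe (K18.f296891 IH) (Lpe (K18.f286739 IH) (Lpr_gf (K19.f299053 IH) (Lpe (f244125 IH) (Lpr_gf (K19.f296371 IH) (Lpe (K18.f246113 IH) (Lpr_gt (K19.f246129 IH) (Lpn (LP (LK LD1_c8 LD2_c5 LD3_c48))))))))))))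
theorem f287216 : Led Lsl_bt (LP (LK LD1_c2 LD2_c31 LD3_c40)) = (LP (LK LD1_c5 LD2_c8 LD3_c57)) :=
  Lre_b IH (LK LD1_c2 LD2_c31 LD3_c40) (LK LD1_c5 LD2_c8 LD3_c57) Lrfl Lrfl
theorem f299066 : Led Lsl_bt (LP (LK LD1_c18 LD2_c27 LD3_c59)) = (LP (LK LD1_c10 LD2_c8 LD3_c18)) :=
  Lre_b IH (LK LD1_c18 LD2_c27 LD3_c59) (LK LD1_c10 LD2_c8 LD3_c18) Lrfl Lrfl
theorem f321643 : Led Lsl_cf (LP (LK LD1_c16 LD2_c35 LD3_c0)) = (LP (LK LD1_c18 LD2_c27 LD3_c59)) :=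
  Lgr Lrot163 (Lpe (f247610 IH) (Lpe (K14.f170034 IH) (Lpr_gf (f247591 IH) (Lpr_bf (f321637 IH) (Lpe (f299059 IH) (Lpe (f242308 IH) (Lpe (f197201 IH) (Lpr_bt (f287216 IH) (Lpe (K17.f286294 IH) (Lpe (f299066 IH) (Lpn (LP (LK LD1_c18 LD2_c27 LD3_c59)))))))))))))
theorem f230567 : Led Lsl_bt (LP (LK LD1_c4 LD2_c27 LD3_c15)) = (LP (LK LD1_c2 LD2_c36 LD3_c23)) :=
  Lgr Lrot127 (Lpr_bf (K15.f230565 IH) (Lpn (LP (LK LD1_c2 LD2_c36 LD3_c23))))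
theorem f230656 : Led Lsl_ct (LP (LK LD1_c5 LD2_c19 LD3_c24)) = (LP (LK LD1_c10 LD2_c28 LD3_c37)) :=
  Lre_c IH (LK LD1_c5 LD2_c19 LD3_c24) (LK LD1_c10 LD2_c28 LD3_c37) Lrfl Lrfl
theorem f294717 : Led Lsl_cf (LP (LK LD1_c10 LD2_c30 LD3_c0)) = (LP (LK LD1_c17 LD2_c45 LD3_c47)) :=
  Lgr Lrot11 (Lpr_ct (K18.f294712 IH) (Lpn (LP (LK LD1_c17 LD2_c45 LD3_c47))))
theorem f321650 : Led Lsl_gt (LP (LK LD1_c10 LD2_c28 LD3_c37)) = (LP (LK LD1_c10 LD2_c30 LD3_c0)) :=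
  Lgr Lrot149 (Lpe (f230656 IH) (Lpe (f230292 IH) (Lpe (f230567 IH) (Lpr_ct (K15.f230569 IH) (Lpe (f230619 IH) (Lpr_cf (f321643 IH) (Lpr_bt (f299066 IH) (Lpe (f286311 IH) (Lpe (K18.f275000 IH) (Lpe (f294717 IH) (Lpn (LP (LK LD1_c10 LD2_c30 LD3_c0)))))))))))))
theorem f258158 : Led Lsl_ct (LP (LK LD1_c2 LD2_c37 LD3_c26)) = (LP (LK LD1_c5 LD2_c21 LD3_c41)) :=
  Lre_c IH (LK LD1_c2 LD2_c37 LD3_c26) (LK LD1_c5 LD2_c21 LD3_c41) Lrfl Lrfl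
theorem f297735 : Led Lsl_dt (LP (LK LD1_c18 LD2_c52 LD3_c30)) = (LP (LK LD1_c17 LD2_c45 LD3_c47)) :=
  Lgr Lrot60 (Lpr_ff (K18.f297729 IH) (Lpe (K16.f274981 IH) (Lpe (K18.f274990 IH) (Lpn (LP (LK LD1_c17 LD2_c45 LD3_c47))))))
theorem f321652 : Led Lsl_ct (LP (LK LD1_c10 LD2_c33 LD3_c37)) = (LP (LK LD1_c18 LD2_c52 LD3_c30)) :=
  Lgr Lrot110 (Lpe (K19.f215821 IH) (Lpe (f258158 IH) (Lpe (K15.f258148 IH) (Lpe (K15.f44268 IH) (Lpr_gt (f230292 IH) (Lpr_ct (f230656 IH) (Lpr_gt (f321650 IH) (Lpr_ct (K18.f294712 IH) (Lpe (f297735 IH) (Lpn (LP (LK LD1_c18 LD2_c52 LD3_c30))))))))))))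
theorem f268077 : Led Lsl_dt (LP (LK LD1_c19 LD2_c7 LD3_c31)) = (LP (LK LD1_c10 LD2_c33 LD3_c37)) :=
  Lre_d IH (LK LD1_c19 LD2_c7 LD3_c31) (LK LD1_c10 LD2_c33 LD3_c37) Lrfl Lrfl
theorem f294696 : Led Lsl_dt (LP (LK LD1_c10 LD2_c30 LD3_c0)) = (LP (LK LD1_c19 LD2_c1 LD3_c42)) :=
  Lre_d IH (LK LD1_c10 LD2_c30 LD3_c0) (LK LD1_c19 LD2_c1 LD3_c42) Lrfl Lrfl
theorem f294695 : Led Lsl_ct (LP (LK LD1_c19 LD2_c1 LD3_c42)) = (LP (LK LD1_c28 LD2_c28 LD3_c25)) :=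
  Lre_c IH (LK LD1_c19 LD2_c1 LD3_c42) (LK LD1_c28 LD2_c28 LD3_c25) Lrfl Lrfl
theorem f294706 : Led Lsl_dt (LP (LK LD1_c28 LD2_c28 LD3_c25)) = (LP (LK LD1_c28 LD2_c29 LD3_c52)) :=
  Lgr Lrot42 (Lpr_df (K18.f294704 IH) (Lpn (LP (LK LD1_c28 LD2_c29 LD3_c52))))
theorem f256943 : Led Lsl_ct (LP (LK LD1_c28 LD2_c29 LD3_c52)) = (LP (LK LD1_c19 LD2_c3 LD3_c37)) :=
  Lre_c IH (LK LD1_c28 LD2_c29 LD3_c52) (LK LD1_c19 LD2_c3 LD3_c37) Lrfl Lrfl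
theorem f321663 : Led Lsl_ft (LP (LK LD1_c19 LD2_c7 LD3_c31)) = (LP (LK LD1_c10 LD2_c36 LD3_c20)) :=
  Lgr Lrot142 (Lpr_dt (f268077 IH) (Lpr_ct (f321652 IH) (Lpr_dt (f297735 IH) (Lpe (f294717 IH) (Lpr_dt (f294696 IH) (Lpr_ct (f294695 IH) (Lpr_dt (f294706 IH) (Lpr_ct (f256943 IH) (Lpr_af (K16.f277749 IH) (Lpn (LP (LK LD1_c10 LD2_c36 LD3_c20))))))))))))
theorem f321670 : Led Lsl_ff (LP (LK LD1_c19 LD2_c7 LD3_c31)) = (LP (LK LD1_c10 LD2_c36 LD3_c20)) :=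
  Lgr Lrot3 (Lpr_ft (f321663 IH) (Lpn (LP (LK LD1_c10 LD2_c36 LD3_c20))))
theorem f321684 : Led Lsl_ft (LP (LK LD1_c10 LD2_c33 LD3_c37)) = (LP (LK LD1_c5 LD2_c22 LD3_c60)) :=
  Lgr Lrot54 (Lpe (f268077 IH) (Lpr_ff (f321670 IH) (Lpe (K16.f217750 IH) (Lpn (LP (LK LD1_c5 LD2_c22 LD3_c60))))))
theorem f277764 : Led Lsl_af (LP (LK LD1_c10 LD2_c30 LD3_c60)) = (LP (LK LD1_c5 LD2_c22 LD3_c60)) :=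
  Lgr Lrot0 (Lpr_at (K16.f277762 IH) (Lpn (LP (LK LD1_c5 LD2_c22 LD3_c60))))
theorem f258989 : Led Lsl_ct (LP (LK LD1_c18 LD2_c59 LD3_c41)) = (LP (LK LD1_c10 LD2_c28 LD3_c50)) :=
  Lre_c IH (LK LD1_c18 LD2_c59 LD3_c41) (LK LD1_c10 LD2_c28 LD3_c50) Lrfl Lrfl
theorem f259009 : Led Lsl_dt (LP (LK LD1_c28 LD2_c26 LD3_c58)) = (LP (LK LD1_c18 LD2_c59 LD3_c41)) :=
  Lre_d IH (LK LD1_c28 LD2_c26 LD3_c58) (LK LD1_c18 LD2_c59 LD3_c41) Lrfl Lrfl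
theorem f321689 : Led Lsl_ct (LP (LK LD1_c19 LD2_c7 LD3_c31)) = (LP (LK LD1_c28 LD2_c26 LD3_c58)) :=
  Lgr Lrot133 (Lpe (K19.f215822 IH) (Lpr_ft (f321684 IH) (Lpe (f277764 IH) (Lpe (K17.f256933 IH) (Lpe (K18.f260263 IH) (Lpe (K18.f258977 IH) (Lpe (K18.f258987 IH) (Lpe (f258989 IH) (Lpe (f259009 IH) (Lpn (LP (LK LD1_c28 LD2_c26 LD3_c58))))))))))))
theorem f274980 : Led Lsl_ct (LP (LK LD1_c19 LD2_c12 LD3_c33)) = (LP (LK LD1_c10 LD2_c36 LD3_c20)) :=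
  Lre_c IH (LK LD1_c19 LD2_c12 LD3_c33) (LK LD1_c10 LD2_c36 LD3_c20) Lrfl Lrfl
theorem f321693 : Led Lsl_ff (LP (LK LD1_c19 LD2_c12 LD3_c33)) = (LP (LK LD1_c28 LD2_c26 LD3_c58)) :=
  Lgr Lrot23 (Lpr_ct (f274980 IH) (Lpe (f321670 IH) (Lpr_ct (f321689 IH) (Lpn (LP (LK LD1_c28 LD2_c26 LD3_c58))))))
theorem f321697 : Led Lsl_ft (LP (LK LD1_c19 LD2_c12 LD3_c33)) = (LP (LK LD1_c28 LD2_c26 LD3_c58)) :=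
  Lgr Lrot48 (Lpr_ff (f321693 IH) (Lpn (LP (LK LD1_c28 LD2_c26 LD3_c58))))
theorem f277760 : Led Lsl_at (LP (LK LD1_c28 LD2_c29 LD3_c52)) = (LP (LK LD1_c19 LD2_c12 LD3_c33)) :=
  Lgr Lrot107 (Lpe (K18.f256940 IH) (Lpr_af (K16.f277749 IH) (Lpe (f274980 IH) (Lpn (LP (LK LD1_c19 LD2_c12 LD3_c33))))))
theorem f294708 : Led Lsl_ft (LP (LK LD1_c28 LD2_c28 LD3_c25)) = (LP (LK LD1_c19 LD2_c1 LD3_c41)) :=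
  Lre_f IH (LK LD1_c28 LD2_c28 LD3_c25) (LK LD1_c19 LD2_c1 LD3_c41) Lrfl Lrfl
theorem f294709 : Led Lsl_dt (LP (LK LD1_c19 LD2_c1 LD3_c41)) = (LP (LK LD1_c28 LD2_c28 LD3_c24)) :=
  Lre_d IH (LK LD1_c19 LD2_c1 LD3_c41) (LK LD1_c28 LD2_c28 LD3_c24) Lrfl Lrfl
theorem f294710 : Led Lsl_ft (LP (LK LD1_c28 LD2_c28 LD3_c24)) = (LP (LK LD1_c28 LD2_c29 LD3_c52)) :=
  Lgr Lrot54 (Lpe (f294709 IH) (Lpe (f294708 IH) (Lpr_df (K18.f294704 IH) (Lpn (LP (LK LD1_c28 LD2_c29 LD3_c52))))))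
theorem f321704 : Led Lsl_af (LP (LK LD1_c28 LD2_c28 LD3_c24)) = (LP (LK LD1_c28 LD2_c26 LD3_c58)) :=
  Lgr Lrot45 (Lpr_ft (f294710 IH) (Lpr_at (f277760 IH) (Lpr_ft (f321697 IH) (Lpn (LP (LK LD1_c28 LD2_c26 LD3_c58))))))
theorem f274988 : Led Lsl_dt (LP (LK LD1_c28 LD2_c28 LD3_c24)) = (LP (LK LD1_c19 LD2_c1 LD3_c41)) :=
  Lre_d IH (LK LD1_c28 LD2_c28 LD3_c24) (LK LD1_c19 LD2_c1 LD3_c41) Lrfl Lrfl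
theorem f258980 : Led Lsl_dt (LP (LK LD1_c18 LD2_c59 LD3_c41)) = (LP (LK LD1_c28 LD2_c26 LD3_c58)) :=
  Lre_d IH (LK LD1_c18 LD2_c59 LD3_c41) (LK LD1_c28 LD2_c26 LD3_c58) Lrfl Lrfl
theorem f321708 : Led Lsl_at (LP (LK LD1_c19 LD2_c1 LD3_c41)) = (LP (LK LD1_c18 LD2_c59 LD3_c41)) :=
  Lgr Lrot51 (Lpe (f274988 IH) (Lpr_af (f321704 IH) (Lpe (f258980 IH) (Lpn (LP (LK LD1_c18 LD2_c59 LD3_c41))))))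
theorem f258979 : Led Lsl_ct (LP (LK LD1_c10 LD2_c28 LD3_c50)) = (LP (LK LD1_c18 LD2_c59 LD3_c41)) :=
  Lre_c IH (LK LD1_c10 LD2_c28 LD3_c50) (LK LD1_c18 LD2_c59 LD3_c41) Lrfl Lrfl
theorem f44274 : Led Lsl_dt (LP (LK LD1_c5 LD2_c19 LD3_c30)) = (LP (LK LD1_c10 LD2_c28 LD3_c50)) :=
  Lre_d IH (LK LD1_c5 LD2_c19 LD3_c30) (LK LD1_c10 LD2_c28 LD3_c50) Lrfl Lrfl
theorem f321717 : Led Lsl_dt (LP (LK LD1_c8 LD2_c9 LD3_c40)) = (LP (LK LD1_c8 LD2_c4 LD3_c9)) :=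
  Lgr Lrot140 (Lpr_cf (K17.f256938 IH) (Lpe (K16.f256942 IH) (Lpe (f256943 IH) (Lpe (f294706 IH) (Lpr_ft (f294708 IH) (Lpr_at (f321708 IH) (Lpe (f258979 IH) (Lpe (f44274 IH) (Lpr_cf (K18.f258957 IH) (Lpn (LP (LK LD1_c8 LD2_c4 LD3_c9))))))))))))
theorem f294811 : Led Lsl_ft (LP (LK LD1_c10 LD2_c30 LD3_c0)) = (LP (LK LD1_c5 LD2_c20 LD3_c2)) :=
  Lre_f IH (LK LD1_c10 LD2_c30 LD3_c0) (LK LD1_c5 LD2_c20 LD3_c2) Lrfl Lrfl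
theorem f321721 : Led Lsl_at (LP (LK LD1_c5 LD2_c20 LD3_c2)) = (LP (LK LD1_c5 LD2_c19 LD3_c30)) :=
  Lgr Lrot33 (Lpe (f294811 IH) (Lpr_dt (f294696 IH) (Lpr_ct (f294695 IH) (Lpr_dt (f294706 IH) (Lpr_ct (f256943 IH) (Lpr_dt (K16.f256942 IH) (Lpe (K17.f256938 IH) (Lpr_dt (f321717 IH) (Lpe (K18.f258957 IH) (Lpn (LP (LK LD1_c5 LD2_c19 LD3_c30))))))))))))
theorem f258981 : Led Lsl_ft (LP (LK LD1_c5 LD2_c19 LD3_c30)) = (LP (LK LD1_c10 LD2_c28 LD3_c51)) :=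
  Lre_f IH (LK LD1_c5 LD2_c19 LD3_c30) (LK LD1_c10 LD2_c28 LD3_c51) Lrfl Lrfl
theorem f321724 : Led Lsl_af (LP (LK LD1_c10 LD2_c30 LD3_c0)) = (LP (LK LD1_c10 LD2_c28 LD3_c51)) :=
  Lgr Lrot45 (Lpr_ft (f294811 IH) (Lpr_at (f321721 IH) (Lpr_ft (f258981 IH) (Lpn (LP (LK LD1_c10 LD2_c28 LD3_c51))))))
theorem f258982 : Led Lsl_ft (LP (LK LD1_c15 LD2_c11 LD3_c25)) = (LP (LK LD1_c8 LD2_c4 LD3_c9)) :=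
  Lre_f IH (LK LD1_c15 LD2_c11 LD3_c25) (LK LD1_c8 LD2_c4 LD3_c9) Lrfl Lrfl
theorem f258983 : Led Lsl_ct (LP (LK LD1_c10 LD2_c28 LD3_c51)) = (LP (LK LD1_c15 LD2_c11 LD3_c25)) :=
  Lgr Lrot40 (Lpe (f258981 IH) (Lpr_cf (K18.f258957 IH) (Lpe (f258982 IH) (Lpn (LP (LK LD1_c15 LD2_c11 LD3_c25))))))
theorem f258995 : Led Lsl_cf (LP (LK LD1_c10 LD2_c28 LD3_c51)) = (LP (LK LD1_c15 LD2_c11 LD3_c25)) :=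
  Lgr Lrot11 (Lpr_ct (f258983 IH) (Lpn (LP (LK LD1_c15 LD2_c11 LD3_c25))))
theorem f321726 : Led Lsl_at (LP (LK LD1_c17 LD2_c45 LD3_c47)) = (LP (LK LD1_c15 LD2_c11 LD3_c25)) :=
  Lgr Lrot107 (Lpe (K18.f294712 IH) (Lpr_af (f321724 IH) (Lpr_cf (f258995 IH) (Lpn (LP (LK LD1_c15 LD2_c11 LD3_c25))))))
theorem f294814 : Led Lsl_ef (LP (LK LD1_c17 LD2_c45 LD3_c47)) = (LP (LK LD1_c17 LD2_c46 LD3_c56)) :=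
  Lgr Lrot28 (Lpe (f294717 IH) (Lpr_et (K18.f294809 IH) (Lpr_ct (K17.f230097 IH) (Lpn (LP (LK LD1_c17 LD2_c46 LD3_c56))))))
theorem f321730 : Led Lsl_ef (LP (LK LD1_c10 LD2_c8 LD3_c38)) = (LP (LK LD1_c15 LD2_c11 LD3_c25)) :=
  Lgr Lrot20 (Lpr_at (K15.f266219 IH) (Lpe (f294814 IH) (Lpr_at (f321726 IH) (Lpn (LP (LK LD1_c15 LD2_c11 LD3_c25))))))
theorem f321738 : Led Lsl_ft (LP (LK LD1_c2 LD2_c31 LD3_c41)) = (LP (LK LD1_c4 LD2_c1 LD3_c46)) :=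
  Lgr Lrot86 (Lpe (K15.f212312 IH) (Lpe (K15.f229532 IH) (Lpr_ef (f321730 IH) (Lpe (K18.f259003 IH) (Lpe (K18.f258956 IH) (Lpn (LP (LK LD1_c4 LD2_c1 LD3_c46))))))))
theorem f212318 : Led Lsl_ct (LP (LK LD1_c2 LD2_c36 LD3_c42)) = (LP (LK LD1_c2 LD2_c31 LD3_c41)) :=
  Lgr Lrot59 (Lpr_cf (K12.f212313 IH) (Lpn (LP (LK LD1_c2 LD2_c31 LD3_c41))))
theorem f321740 : Led Lsl_ff (LP (LK LD1_c2 LD2_c36 LD3_c42)) = (LP (LK LD1_c2 LD2_c36 LD3_c24)) :=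
  Lgr Lrot23 (Lpr_ct (f212318 IH) (Lpr_ft (f321738 IH) (Lpe (K15.f258954 IH) (Lpn (LP (LK LD1_c2 LD2_c36 LD3_c24))))))
theorem f321751 : Led Lsl_ft (LP (LK LD1_c2 LD2_c36 LD3_c42)) = (LP (LK LD1_c2 LD2_c36 LD3_c24)) :=
  Lgr Lrot48 (Lpr_ff (f321740 IH) (Lpn (LP (LK LD1_c2 LD2_c36 LD3_c24))))
theorem f44908 : Led Lsl_et (LP (LK LD1_c5 LD2_c20 LD3_c5)) = (LP (LK LD1_c2 LD2_c36 LD3_c42)) :=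
  Lre_e IH (LK LD1_c5 LD2_c20 LD3_c5) (LK LD1_c2 LD2_c36 LD3_c42) Lrfl Lrfl
theorem f321757 : Led Lsl_ft (LP (LK LD1_c10 LD2_c30 LD3_c7)) = (LP (LK LD1_c5 LD2_c20 LD3_c5)) :=
  Lre_f IH (LK LD1_c10 LD2_c30 LD3_c7) (LK LD1_c5 LD2_c20 LD3_c5) Lrfl Lrfl
theorem f258094 : Led Lsl_et (LP (LK LD1_c2 LD2_c36 LD3_c24)) = (LP (LK LD1_c5 LD2_c19 LD3_c30)) :=
  Lre_e IH (LK LD1_c2 LD2_c36 LD3_c24) (LK LD1_c5 LD2_c19 LD3_c30) Lrfl Lrfl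
theorem f321758 : Led Lsl_ef (LP (LK LD1_c10 LD2_c30 LD3_c7)) = (LP (LK LD1_c10 LD2_c28 LD3_c51)) :=
  Lgr Lrot21 (Lpr_ft (f321757 IH) (Lpr_et (f44908 IH) (Lpr_ft (f321751 IH) (Lpr_et (f258094 IH) (Lpr_ft (f258981 IH) (Lpn (LP (LK LD1_c10 LD2_c28 LD3_c51))))))))
theorem f321736 : Led Lsl_et (LP (LK LD1_c10 LD2_c8 LD3_c38)) = (LP (LK LD1_c15 LD2_c11 LD3_c25)) :=
  Lgr Lrot87 (Lpr_ef (f321730 IH) (Lpn (LP (LK LD1_c15 LD2_c11 LD3_c25))))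
theorem f321762 : Led Lsl_ct (LP (LK LD1_c10 LD2_c30 LD3_c7)) = (LP (LK LD1_c10 LD2_c8 LD3_c38)) :=
  Lgr Lrot15 (Lpr_ef (f321758 IH) (Lpr_cf (f258995 IH) (Lpe (f321736 IH) (Lpn (LP (LK LD1_c10 LD2_c8 LD3_c38))))))
theorem f321748 : Led Lsl_ft (LP (LK LD1_c5 LD2_c20 LD3_c5)) = (LP (LK LD1_c10 LD2_c30 LD3_c7)) :=
  Lre_f IH (LK LD1_c5 LD2_c20 LD3_c5) (LK LD1_c10 LD2_c30 LD3_c7) Lrfl Lrfl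
theorem f321770 : Led Lsl_cf (LP (LK LD1_c5 LD2_c20 LD3_c5)) = (LP (LK LD1_c5 LD2_c9 LD3_c2)) :=
  Lgr Lrot108 (Lpr_ft (f321748 IH) (Lpr_ct (f321762 IH) (Lpr_ft (K15.f229532 IH) (Lpn (LP (LK LD1_c5 LD2_c9 LD3_c2))))))
theorem f321786 : Led Lsl_at (LP (LK LD1_c5 LD2_c20 LD3_c5)) = (LP (LK LD1_c5 LD2_c19 LD3_c33)) :=
  Lgr Lrot107 (Lpr_cf (f321770 IH) (Lpr_af (K15.f266213 IH) (Lpe (K17.f229990 IH) (Lpn (LP (LK LD1_c5 LD2_c19 LD3_c33))))))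
theorem f229527 : Led Lsl_dt (LP (LK LD1_c10 LD2_c30 LD3_c6)) = (LP (LK LD1_c5 LD2_c20 LD3_c5)) :=
  Lre_d IH (LK LD1_c10 LD2_c30 LD3_c6) (LK LD1_c5 LD2_c20 LD3_c5) Lrfl Lrfl
theorem f44277 : Led Lsl_dt (LP (LK LD1_c5 LD2_c19 LD3_c33)) = (LP (LK LD1_c10 LD2_c28 LD3_c58)) :=
  Lre_d IH (LK LD1_c5 LD2_c19 LD3_c33) (LK LD1_c10 LD2_c28 LD3_c58) Lrfl Lrfl
theorem f321841 : Led Lsl_af (LP (LK LD1_c10 LD2_c30 LD3_c6)) = (LP (LK LD1_c10 LD2_c28 LD3_c58)) :=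
  Lgr Lrot117 (Lpr_dt (f229527 IH) (Lpr_at (f321786 IH) (Lpr_dt (f44277 IH) (Lpn (LP (LK LD1_c10 LD2_c28 LD3_c58))))))
theorem f321843 : Led Lsl_at (LP (LK LD1_c10 LD2_c30 LD3_c6)) = (LP (LK LD1_c10 LD2_c28 LD3_c58)) :=
  Lgr Lrot100 (Lpr_af (f321841 IH) (Lpn (LP (LK LD1_c10 LD2_c28 LD3_c58))))
theorem f321772 : Led Lsl_ft (LP (LK LD1_c19 LD2_c1 LD3_c52)) = (LP (LK LD1_c10 LD2_c30 LD3_c6)) :=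
  Lre_f IH (LK LD1_c19 LD2_c1 LD3_c52) (LK LD1_c10 LD2_c30 LD3_c6) Lrfl Lrfl
theorem f44278 : Led Lsl_gt (LP (LK LD1_c19 LD2_c0 LD3_c0)) = (LP (LK LD1_c10 LD2_c28 LD3_c58)) :=
  Lre_g IH (LK LD1_c19 LD2_c0 LD3_c0) (LK LD1_c10 LD2_c28 LD3_c58) Lrfl Lrfl
theorem f321933 : Led Lsl_gt (LP (LK LD1_c19 LD2_c1 LD3_c52)) = (LP (LK LD1_c19 LD2_c0 LD3_c0)) :=
  Lgr Lrot5 (Lpr_ft (f321772 IH) (Lpr_at (f321843 IH) (Lpe (f44278 IH) (Lpn (LP (LK LD1_c19 LD2_c0 LD3_c0))))))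
theorem f321764 : Led Lsl_dt (LP (LK LD1_c10 LD2_c30 LD3_c7)) = (LP (LK LD1_c19 LD2_c1 LD3_c52)) :=
  Lre_d IH (LK LD1_c10 LD2_c30 LD3_c7) (LK LD1_c19 LD2_c1 LD3_c52) Lrfl Lrfl
theorem f309112 : Led Lsl_gt (LP (LK LD1_c28 LD2_c42 LD3_c49)) = (LP (LK LD1_c19 LD2_c16 LD3_c50)) :=
  Lre_g IH (LK LD1_c28 LD2_c42 LD3_c49) (LK LD1_c19 LD2_c16 LD3_c50) Lrfl Lrfl
theorem f309192 : Led Lsl_gt (LP (LK LD1_c25 LD2_c38 LD3_c0)) = (LP (LK LD1_c28 LD2_c42 LD3_c49)) :=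
  Lgr Lrot5 (Lpe (K19.f305382 IH) (Lpr_at (K19.f309185 IH) (Lpe (f309112 IH) (Lpn (LP (LK LD1_c28 LD2_c42 LD3_c49))))))
theorem f284160 : Led Lsl_gf (LP (LK LD1_c8 LD2_c20 LD3_c38)) = (LP (LK LD1_c4 LD2_c10 LD3_c49)) :=
  Lgr Lrot47 (Lpr_gt (K17.f236952 IH) (Lpr_af (K17.f276733 IH) (Lpr_ff (K17.f284146 IH) (Lpn (LP (LK LD1_c4 LD2_c10 LD3_c49))))))
theorem f233310 : Led Lsl_ct (LP (LK LD1_c4 LD2_c10 LD3_c14)) = (LP (LK LD1_c8 LD2_c20 LD3_c37)) :=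
  Lre_c IH (LK LD1_c4 LD2_c10 LD3_c14) (LK LD1_c8 LD2_c20 LD3_c37) Lrfl Lrfl
theorem f309120 : Led Lsl_cf (LP (LK LD1_c8 LD2_c30 LD3_c46)) = (LP (LK LD1_c10 LD2_c38 LD3_c32)) :=
  Lgr Lrot39 (Lpr_et (K17.f220622 IH) (Lpr_ct (K19.f309107 IH) (Lpr_et (K19.f309119 IH) (Lpn (LP (LK LD1_c10 LD2_c38 LD3_c32))))))
theorem f284177 : Led Lsl_ct (LP (LK LD1_c8 LD2_c21 LD3_c37)) = (LP (LK LD1_c15 LD2_c44 LD3_c0)) :=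
  Lre_c IH (LK LD1_c8 LD2_c21 LD3_c37) (LK LD1_c15 LD2_c44 LD3_c0) Lrfl Lrfl
theorem f309170 : Led Lsl_gt (LP (LK LD1_c5 LD2_c22 LD3_c50)) = (LP (LK LD1_c8 LD2_c21 LD3_c37)) :=
  Lgr Lrot9 (Lpe (K17.f288913 IH) (Lpr_gt (K17.f236952 IH) (Lpr_ct (f233310 IH) (Lpr_gt (K19.f309144 IH) (Lpe (f309120 IH) (Lpe (K17.f220623 IH) (Lpe (K19.f286983 IH) (Lpr_gf (K18.f284174 IH) (Lpe (f284177 IH) (Lpn (LP (LK LD1_c8 LD2_c21 LD3_c37))))))))))))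
theorem f297810 : Led Lsl_dt (LP (LK LD1_c8 LD2_c21 LD3_c37)) = (LP (LK LD1_c15 LD2_c44 LD3_c1)) :=
  Lre_d IH (LK LD1_c8 LD2_c21 LD3_c37) (LK LD1_c15 LD2_c44 LD3_c1) Lrfl Lrfl
theorem f309176 : Led Lsl_ct (LP (LK LD1_c15 LD2_c44 LD3_c1)) = (LP (LK LD1_c25 LD2_c40 LD3_c24)) :=
  Lre_c IH (LK LD1_c15 LD2_c44 LD3_c1) (LK LD1_c25 LD2_c40 LD3_c24) Lrfl Lrfl
theorem f309194 : Led Lsl_df (LP (LK LD1_c25 LD2_c40 LD3_c24)) = (LP (LK LD1_c28 LD2_c42 LD3_c49)) :=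
  Lgr Lrot84 (Lpe (f309176 IH) (Lpe (f297810 IH) (Lpe (f309170 IH) (Lpe (K17.f288913 IH) (Lpr_gf (f284160 IH) (Lpe (K19.f284153 IH) (Lpr_gt (K19.f305356 IH) (Lpr_dt (K19.f288880 IH) (Lpr_gt (f309192 IH) (Lpn (LP (LK LD1_c28 LD2_c42 LD3_c49))))))))))))
theorem f309202 : Led Lsl_dt (LP (LK LD1_c25 LD2_c40 LD3_c24)) = (LP (LK LD1_c28 LD2_c42 LD3_c49)) :=
  Lgr Lrot42 (Lpr_df (f309194 IH) (Lpn (LP (LK LD1_c28 LD2_c42 LD3_c49))))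
theorem f297808 : Led Lsl_dt (LP (LK LD1_c15 LD2_c44 LD3_c1)) = (LP (LK LD1_c8 LD2_c21 LD3_c37)) :=
  Lre_d IH (LK LD1_c15 LD2_c44 LD3_c1) (LK LD1_c8 LD2_c21 LD3_c37) Lrfl Lrfl
theorem f200261 : Led Lsl_gt (LP (LK LD1_c8 LD2_c22 LD3_c34)) = (LP (LK LD1_c4 LD2_c11 LD3_c33)) :=
  Lre_g IH (LK LD1_c8 LD2_c22 LD3_c34) (LK LD1_c4 LD2_c11 LD3_c33) Lrfl Lrfl
theorem f310199 : Led Lsl_et (LP (LK LD1_c15 LD2_c44 LD3_c1)) = (LP (LK LD1_c8 LD2_c22 LD3_c34)) :=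
  Lgr Lrot185 (Lpr_dt (f297808 IH) (Lpe (f309170 IH) (Lpe (K17.f288913 IH) (Lpr_gf (f284160 IH) (Lpe (K17.f284134 IH) (Lpe (K17.f182294 IH) (Lpe (f267049 IH) (Lpr_df (K19.f310188 IH) (Lpe (K19.f310169 IH) (Lpe (f200261 IH) (Lpn (LP (LK LD1_c8 LD2_c22 LD3_c34)))))))))))))
theorem f310203 : Led Lsl_ef (LP (LK LD1_c15 LD2_c44 LD3_c1)) = (LP (LK LD1_c8 LD2_c22 LD3_c34)) :=
  Lgr Lrot88 (Lpr_et (f310199 IH) (Lpn (LP (LK LD1_c8 LD2_c22 LD3_c34))))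
theorem f200262 : Led Lsl_ct (LP (LK LD1_c15 LD2_c45 LD3_c41)) = (LP (LK LD1_c8 LD2_c22 LD3_c34)) :=
  Lre_c IH (LK LD1_c15 LD2_c45 LD3_c41) (LK LD1_c8 LD2_c22 LD3_c34) Lrfl Lrfl
theorem f310205 : Led Lsl_et (LP (LK LD1_c25 LD2_c40 LD3_c24)) = (LP (LK LD1_c15 LD2_c45 LD3_c41)) :=
  Lgr Lrot158 (Lpe (f309176 IH) (Lpr_ef (f310203 IH) (Lpe (f200262 IH) (Lpn (LP (LK LD1_c15 LD2_c45 LD3_c41))))))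
theorem f42095 : Led Lsl_et (LP (LK LD1_c11 LD2_c52 LD3_c3)) = (LP (LK LD1_c6 LD2_c4 LD3_c17)) :=
  Lre_e IH (LK LD1_c11 LD2_c52 LD3_c3) (LK LD1_c6 LD2_c4 LD3_c17) Lrfl Lrfl
theorem f270785 : Led Lsl_ft (LP (LK LD1_c20 LD2_c54 LD3_c49)) = (LP (LK LD1_c11 LD2_c52 LD3_c3)) :=
  Lre_f IH (LK LD1_c20 LD2_c54 LD3_c49) (LK LD1_c11 LD2_c52 LD3_c3) Lrfl Lrfl
theorem f270786 : Led Lsl_et (LP (LK LD1_c20 LD2_c54 LD3_c52)) = (LP (LK LD1_c20 LD2_c54 LD3_c49)) :=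
  Lgr Lrot69 (Lpe (K15.f258456 IH) (Lpe (K15.f258435 IH) (Lpr_ff (K16.f270779 IH) (Lpe (f42095 IH) (Lpe (f270785 IH) (Lpn (LP (LK LD1_c20 LD2_c54 LD3_c49))))))))
theorem f321109 : Led Lsl_gt (LP (LK LD1_c15 LD2_c45 LD3_c41)) = (LP (LK LD1_c20 LD2_c54 LD3_c49)) :=
  Lgr Lrot131 (Lpe (f310205 IH) (Lpr_dt (f309202 IH) (Lpe (f309192 IH) (Lpe (K19.f288880 IH) (Lpe (K19.f305356 IH) (Lpr_ef (K19.f305338 IH) (Lpr_dt (f182293 IH) (Lpe (f267026 IH) (Lpr_df (f321099 IH) (Lpr_et (f270786 IH) (Lpn (LP (LK LD1_c20 LD2_c54 LD3_c49)))))))))))))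
theorem f178711 : Led Lsl_ct (LP (LK LD1_c4 LD2_c10 LD3_c20)) = (LP (LK LD1_c8 LD2_c20 LD3_c59)) :=
  Lre_c IH (LK LD1_c4 LD2_c10 LD3_c20) (LK LD1_c8 LD2_c20 LD3_c59) Lrfl Lrfl
theorem f300452 : Led Lsl_dt (LP (LK LD1_c15 LD2_c43 LD3_c1)) = (LP (LK LD1_c8 LD2_c20 LD3_c59)) :=
  Lre_d IH (LK LD1_c15 LD2_c43 LD3_c1) (LK LD1_c8 LD2_c20 LD3_c59) Lrfl Lrfl
theorem f316070 : Led Lsl_gt (LP (LK LD1_c25 LD2_c39 LD3_c15)) = (LP (LK LD1_c15 LD2_c43 LD3_c1)) :=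
  Lre_g IH (LK LD1_c25 LD2_c39 LD3_c15) (LK LD1_c15 LD2_c43 LD3_c1) Lrfl Lrfl
theorem f321111 : Led Lsl_df (LP (LK LD1_c25 LD2_c39 LD3_c15)) = (LP (LK LD1_c20 LD2_c54 LD3_c49)) :=
  Lgr Lrot153 (Lpr_gt (f316070 IH) (Lpr_dt (f300452 IH) (Lpe (f178711 IH) (Lpe (f316063 IH) (Lpe (f300470 IH) (Lpr_df (K19.f200249 IH) (Lpe (f200261 IH) (Lpe (f200262 IH) (Lpr_gt (f321109 IH) (Lpn (LP (LK LD1_c20 LD2_c54 LD3_c49))))))))))))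
theorem f300454 : Led Lsl_dt (LP (LK LD1_c8 LD2_c20 LD3_c59)) = (LP (LK LD1_c15 LD2_c43 LD3_c1)) :=
  Lre_d IH (LK LD1_c8 LD2_c20 LD3_c59) (LK LD1_c15 LD2_c43 LD3_c1) Lrfl Lrfl
theorem f300358 : Led Lsl_et (LP (LK LD1_c4 LD2_c11 LD3_c25)) = (LP (LK LD1_c2 LD2_c2 LD3_c57)) :=
  Lre_e IH (LK LD1_c4 LD2_c11 LD3_c25) (LK LD1_c2 LD2_c2 LD3_c57) Lrfl Lrfl
theorem f304502 : Led Lsl_gf (LP (LK LD1_c1 LD2_c24 LD3_c53)) = (LP (LK LD1_c2 LD2_c2 LD3_c57)) :=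
  Lgr Lrot76 (Lpe (K1.f42044 IH) (Lpe (K18.f232706 IH) (Lpr_gt (K18.f304498 IH) (Lpn (LP (LK LD1_c2 LD2_c2 LD3_c57))))))
theorem f169414 : Led Lsl_et (LP (LK LD1_c0 LD2_c59 LD3_c52)) = (LP (LK LD1_c2 LD2_c5 LD3_c44)) :=
  Lre_e IH (LK LD1_c0 LD2_c59 LD3_c52) (LK LD1_c2 LD2_c5 LD3_c44) Lrfl Lrfl
theorem f169386 : Led Lsl_gt (LP (LK LD1_c2 LD2_c5 LD3_c44)) = (LP (LK LD1_c4 LD2_c16 LD3_c56)) :=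
  Lre_g IH (LK LD1_c2 LD2_c5 LD3_c44) (LK LD1_c4 LD2_c16 LD3_c56) Lrfl Lrfl
theorem f316078 : Led Lsl_ef (LP (LK LD1_c4 LD2_c16 LD3_c56)) = (LP (LK LD1_c4 LD2_c10 LD3_c20)) :=
  Lgr Lrot17 (Lpe (f169386 IH) (Lpe (f169414 IH) (Lpr_dt (K10.f169377 IH) (Lpr_gf (K10.f184237 IH) (Lpe (K9.f29050 IH) (Lpr_gf (f304502 IH) (Lpe (f300358 IH) (Lpr_dt (K18.f300341 IH) (Lpe (f230536 IH) (Lpr_df (f316067 IH) (Lpn (LP (LK LD1_c4 LD2_c10 LD3_c20)))))))))))))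
theorem f316087 : Led Lsl_et (LP (LK LD1_c4 LD2_c16 LD3_c56)) = (LP (LK LD1_c4 LD2_c10 LD3_c20)) :=
  Lgr Lrot87 (Lpr_ef (f316078 IH) (Lpn (LP (LK LD1_c4 LD2_c10 LD3_c20))))
theorem f248359 : Led Lsl_ct (LP (LK LD1_c8 LD2_c33 LD3_c16)) = (LP (LK LD1_c4 LD2_c16 LD3_c56)) :=
  Lre_c IH (LK LD1_c8 LD2_c33 LD3_c16) (LK LD1_c4 LD2_c16 LD3_c56) Lrfl Lrfl
theorem f316091 : Led Lsl_ef (LP (LK LD1_c8 LD2_c33 LD3_c16)) = (LP (LK LD1_c8 LD2_c20 LD3_c59)) :=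
  Lgr Lrot28 (Lpr_ct (f248359 IH) (Lpr_et (f316087 IH) (Lpr_ct (f178711 IH) (Lpn (LP (LK LD1_c8 LD2_c20 LD3_c59))))))
theorem f169393 : Led Lsl_gt (LP (LK LD1_c8 LD2_c33 LD3_c16)) = (LP (LK LD1_c16 LD2_c3 LD3_c30)) :=
  Lre_g IH (LK LD1_c8 LD2_c33 LD3_c16) (LK LD1_c16 LD2_c3 LD3_c30) Lrfl Lrfl
theorem f321115 : Led Lsl_et (LP (LK LD1_c15 LD2_c42 LD3_c18)) = (LP (LK LD1_c16 LD2_c3 LD3_c30)) :=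
  Lgr Lrot122 (Lpr_dt (K19.f288880 IH) (Lpr_gt (f309192 IH) (Lpe (f309202 IH) (Lpr_et (f310205 IH) (Lpr_gt (f321109 IH) (Lpe (f321111 IH) (Lpr_gt (f316070 IH) (Lpe (f300454 IH) (Lpe (f316091 IH) (Lpr_gt (f169393 IH) (Lpn (LP (LK LD1_c16 LD2_c3 LD3_c30)))))))))))))
theorem f287710 : Led Lsl_ef (LP (LK LD1_c8 LD2_c43 LD3_c14)) = (LP (LK LD1_c14 LD2_c58 LD3_c13)) :=
  Lgr Lrot21 (Lpr_ft (K18.f200518 IH) (Lpr_et (K12.f200525 IH) (Lpr_ft (K17.f287704 IH) (Lpr_et (K19.f229503 IH) (Lpr_ft (K15.f229531 IH) (Lpn (LP (LK LD1_c14 LD2_c58 LD3_c13))))))))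
theorem f321118 : Led Lsl_cf (LP (LK LD1_c14 LD2_c58 LD3_c13)) = (LP (LK LD1_c16 LD2_c3 LD3_c30)) :=
  Lgr Lrot39 (Lpe (f287710 IH) (Lpr_ct (K19.f305370 IH) (Lpr_et (f321115 IH) (Lpn (LP (LK LD1_c16 LD2_c3 LD3_c30))))))
theorem f169392 : Led Lsl_ct (LP (LK LD1_c4 LD2_c16 LD3_c56)) = (LP (LK LD1_c8 LD2_c33 LD3_c16)) :=
  Lre_c IH (LK LD1_c4 LD2_c16 LD3_c56) (LK LD1_c8 LD2_c33 LD3_c16) Lrfl Lrfl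
theorem f166067 : Led Lsl_ct (LP (LK LD1_c5 LD2_c16 LD3_c29)) = (LP (LK LD1_c10 LD2_c22 LD3_c32)) :=
  Lre_c IH (LK LD1_c5 LD2_c16 LD3_c29) (LK LD1_c10 LD2_c22 LD3_c32) Lrfl Lrfl
theorem f321773 : Led Lsl_gf (LP (LK LD1_c10 LD2_c30 LD3_c7)) = (LP (LK LD1_c10 LD2_c22 LD3_c32)) :=
  Lgr Lrot104 (Lpr_ct (f321762 IH) (Lpe (K15.f229533 IH) (Lpr_cf (f321118 IH) (Lpe (f169393 IH) (Lpe (f169392 IH) (Lpe (f169386 IH) (Lpr_df (K10.f169360 IH) (Lpr_gt (f165947 IH) (Lpr_ct (f166067 IH) (Lpn (LP (LK LD1_c10 LD2_c22 LD3_c32))))))))))))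
theorem f166075 : Led Lsl_ct (LP (LK LD1_c10 LD2_c22 LD3_c32)) = (LP (LK LD1_c5 LD2_c16 LD3_c29)) :=
  Lre_c IH (LK LD1_c10 LD2_c22 LD3_c32) (LK LD1_c5 LD2_c16 LD3_c29) Lrfl Lrfl
theorem f184428 : Led Lsl_ct (LP (LK LD1_c8 LD2_c33 LD3_c20)) = (LP (LK LD1_c16 LD2_c3 LD3_c39)) :=
  Lre_c IH (LK LD1_c8 LD2_c33 LD3_c20) (LK LD1_c16 LD2_c3 LD3_c39) Lrfl Lrfl
theorem f321935 : Led Lsl_df (LP (LK LD1_c16 LD2_c3 LD3_c39)) = (LP (LK LD1_c19 LD2_c0 LD3_c0)) :=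
  Lgr Lrot84 (Lpe (f184428 IH) (Lpe (K18.f184434 IH) (Lpe (K18.f184455 IH) (Lpe (K14.f248338 IH) (Lpe (f302839 IH) (Lpe (f166075 IH) (Lpe (f321773 IH) (Lpr_dt (f321764 IH) (Lpr_gt (f321933 IH) (Lpn (LP (LK LD1_c19 LD2_c0 LD3_c0))))))))))))
theorem f321938 : Led Lsl_dt (LP (LK LD1_c16 LD2_c3 LD3_c39)) = (LP (LK LD1_c19 LD2_c0 LD3_c0)) :=
  Lgr Lrot42 (Lpr_df (f321935 IH) (Lpn (LP (LK LD1_c19 LD2_c0 LD3_c0))))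
theorem f184436 : Led Lsl_ef (LP (LK LD1_c8 LD2_c33 LD3_c20)) = (LP (LK LD1_c5 LD2_c19 LD3_c18)) :=
  Lgr Lrot17 (Lpr_gf (K18.f184235 IH) (Lpe (K18.f44270 IH) (Lpr_dt (K14.f44269 IH) (Lpe (K10.f44054 IH) (Lpe (K1.f44049 IH) (Lpr_gf (K9.f182204 IH) (Lpe (K9.f178716 IH) (Lpe (K9.f178605 IH) (Lpe (K9.f178717 IH) (Lpe (K9.f182217 IH) (Lpn (LP (LK LD1_c5 LD2_c19 LD3_c18)))))))))))))
theorem f182219 : Led Lsl_ct (LP (LK LD1_c10 LD2_c28 LD3_c24)) = (LP (LK LD1_c5 LD2_c19 LD3_c18)) :=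
  Lre_c IH (LK LD1_c10 LD2_c28 LD3_c24) (LK LD1_c5 LD2_c19 LD3_c18) Lrfl Lrfl
theorem f184438 : Led Lsl_et (LP (LK LD1_c16 LD2_c3 LD3_c39)) = (LP (LK LD1_c10 LD2_c28 LD3_c24)) :=
  Lgr Lrot158 (Lpe (f184428 IH) (Lpr_ef (f184436 IH) (Lpe (f182219 IH) (Lpn (LP (LK LD1_c10 LD2_c28 LD3_c24))))))
theorem f230068 : Led Lsl_et (LP (LK LD1_c8 LD2_c3 LD3_c57)) = (LP (LK LD1_c15 LD2_c11 LD3_c1)) :=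
  Lre_e IH (LK LD1_c8 LD2_c3 LD3_c57) (LK LD1_c15 LD2_c11 LD3_c1) Lrfl Lrfl
theorem f321942 : Led Lsl_gf (LP (LK LD1_c10 LD2_c28 LD3_c24)) = (LP (LK LD1_c15 LD2_c11 LD3_c1)) :=
  Lgr Lrot141 (Lpe (f184438 IH) (Lpr_dt (f321938 IH) (Lpr_gt (f44278 IH) (Lpe (f44277 IH) (Lpr_et (K18.f44276 IH) (Lpr_gt (K14.f44275 IH) (Lpr_dt (K14.f44126 IH) (Lpr_gt (K15.f44127 IH) (Lpr_df (K15.f230065 IH) (Lpr_et (f230068 IH) (Lpn (LP (LK LD1_c15 LD2_c11 LD3_c1)))))))))))))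
theorem f182251 : Led Lsl_dt (LP (LK LD1_c10 LD2_c28 LD3_c24)) = (LP (LK LD1_c18 LD2_c58 LD3_c56)) :=
  Lre_d IH (LK LD1_c10 LD2_c28 LD3_c24) (LK LD1_c18 LD2_c58 LD3_c56) Lrfl Lrfl
theorem f193183 : Led Lsl_ct (LP (LK LD1_c8 LD2_c3 LD3_c58)) = (LP (LK LD1_c15 LD2_c11 LD3_c1)) :=
  Lre_c IH (LK LD1_c8 LD2_c3 LD3_c58) (LK LD1_c15 LD2_c11 LD3_c1) Lrfl Lrfl
theorem f193176 : Led Lsl_gt (LP (LK LD1_c8 LD2_c3 LD3_c58)) = (LP (LK LD1_c15 LD2_c11 LD3_c2)) :=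
  Lre_g IH (LK LD1_c8 LD2_c3 LD3_c58) (LK LD1_c15 LD2_c11 LD3_c2) Lrfl Lrfl
theorem f44451 : Led Lsl_et (LP (LK LD1_c9 LD2_c39 LD3_c25)) = (LP (LK LD1_c4 LD2_c53 LD3_c59)) :=
  Lre_e IH (LK LD1_c9 LD2_c39 LD3_c25) (LK LD1_c4 LD2_c53 LD3_c59) Lrfl Lrfl
theorem f188694 : Led Lsl_gt (LP (LK LD1_c15 LD2_c1 LD3_c19)) = (LP (LK LD1_c7 LD2_c57 LD3_c52)) :=
  Lre_g IH (LK LD1_c15 LD2_c1 LD3_c19) (LK LD1_c7 LD2_c57 LD3_c52) Lrfl Lrfl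
theorem f192990 : Led Lsl_et (LP (LK LD1_c4 LD2_c1 LD3_c39)) = (LP (LK LD1_c8 LD2_c3 LD3_c58)) :=
  Lre_e IH (LK LD1_c4 LD2_c1 LD3_c39) (LK LD1_c8 LD2_c3 LD3_c58) Lrfl Lrfl
theorem f193177 : Led Lsl_df (LP (LK LD1_c15 LD2_c1 LD3_c19)) = (LP (LK LD1_c15 LD2_c11 LD3_c2)) :=
  Lgr Lrot135 (Lpr_gt (f188694 IH) (Lpr_df (K12.f190801 IH) (Lpr_et (f44451 IH) (Lpr_gt (K10.f44450 IH) (Lpr_ef (K1.f44335 IH) (Lpr_dt (K15.f31515 IH) (Lpr_gt (K14.f192982 IH) (Lpe (K10.f182059 IH) (Lpr_et (f192990 IH) (Lpr_gt (f193176 IH) (Lpn (LP (LK LD1_c15 LD2_c11 LD3_c2)))))))))))))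
theorem f212291 : Led Lsl_et (LP (LK LD1_c4 LD2_c27 LD3_c17)) = (LP (LK LD1_c8 LD2_c52 LD3_c20)) :=
  Lre_e IH (LK LD1_c4 LD2_c27 LD3_c17) (LK LD1_c8 LD2_c52 LD3_c20) Lrfl Lrfl
theorem f212292 : Led Lsl_cf (LP (LK LD1_c9 LD2_c39 LD3_c25)) = (LP (LK LD1_c8 LD2_c52 LD3_c20)) :=
  Lgr Lrot39 (Lpr_et (f44451 IH) (Lpr_ct (K12.f212260 IH) (Lpr_et (f212291 IH) (Lpn (LP (LK LD1_c8 LD2_c52 LD3_c20))))))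
theorem f316332 : Led Lsl_dt (LP (LK LD1_c16 LD2_c35 LD3_c16)) = (LP (LK LD1_c8 LD2_c52 LD3_c20)) :=
  Lre_d IH (LK LD1_c16 LD2_c35 LD3_c16) (LK LD1_c8 LD2_c52 LD3_c20) Lrfl Lrfl
theorem f321944 : Led Lsl_gt (LP (LK LD1_c18 LD2_c58 LD3_c56)) = (LP (LK LD1_c16 LD2_c35 LD3_c16)) :=
  Lgr Lrot49 (Lpe (f182251 IH) (Lpr_gf (f321942 IH) (Lpe (f193183 IH) (Lpr_gt (f193176 IH) (Lpe (f193177 IH) (Lpr_gt (f188694 IH) (Lpr_dt (K12.f190797 IH) (Lpr_cf (f212292 IH) (Lpe (f316332 IH) (Lpn (LP (LK LD1_c16 LD2_c35 LD3_c16))))))))))))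
theorem f193182 : Led Lsl_ct (LP (LK LD1_c15 LD2_c11 LD3_c1)) = (LP (LK LD1_c8 LD2_c3 LD3_c58)) :=
  Lre_c IH (LK LD1_c15 LD2_c11 LD3_c1) (LK LD1_c8 LD2_c3 LD3_c58) Lrfl Lrfl
theorem f321946 : Led Lsl_cf (LP (LK LD1_c8 LD2_c52 LD3_c20)) = (LP (LK LD1_c9 LD2_c39 LD3_c25)) :=
  Lgr Lrot14 (Lpe (f316332 IH) (Lpe (f321944 IH) (Lpe (f182251 IH) (Lpr_gf (f321942 IH) (Lpr_ct (f193182 IH) (Lpr_gt (f193176 IH) (Lpe (f193177 IH) (Lpr_gt (f188694 IH) (Lpr_dt (K12.f190797 IH) (Lpn (LP (LK LD1_c9 LD2_c39 LD3_c25))))))))))))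
theorem f321950 : Led Lsl_bt (LP (LK LD1_c8 LD2_c52 LD3_c20)) = (LP (LK LD1_c16 LD2_c35 LD3_c14)) :=
  Lre_b IH (LK LD1_c8 LD2_c52 LD3_c20) (LK LD1_c16 LD2_c35 LD3_c14) Lrfl Lrfl
theorem f190795 : Led Lsl_bt (LP (LK LD1_c8 LD2_c15 LD3_c51)) = (LP (LK LD1_c9 LD2_c39 LD3_c25)) :=
  Lgr Lrot127 (Lpr_bf (K12.f190793 IH) (Lpn (LP (LK LD1_c9 LD2_c39 LD3_c25))))
theorem f48864 : Led Lsl_et (LP (LK LD1_c10 LD2_c23 LD3_c51)) = (LP (LK LD1_c5 LD2_c17 LD3_c6)) :=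
  Lre_e IH (LK LD1_c10 LD2_c23 LD3_c51) (LK LD1_c5 LD2_c17 LD3_c6) Lrfl Lrfl
theorem f184186 : Led Lsl_et (LP (LK LD1_c4 LD2_c7 LD3_c55)) = (LP (LK LD1_c8 LD2_c15 LD3_c51)) :=
  Lre_e IH (LK LD1_c4 LD2_c7 LD3_c55) (LK LD1_c8 LD2_c15 LD3_c51) Lrfl Lrfl
theorem f184187 : Led Lsl_cf (LP (LK LD1_c10 LD2_c23 LD3_c51)) = (LP (LK LD1_c8 LD2_c15 LD3_c51)) :=
  Lgr Lrot39 (Lpr_et (f48864 IH) (Lpr_ct (K10.f184180 IH) (Lpr_et (f184186 IH) (Lpn (LP (LK LD1_c8 LD2_c15 LD3_c51))))))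
theorem f184206 : Led Lsl_ct (LP (LK LD1_c10 LD2_c23 LD3_c51)) = (LP (LK LD1_c8 LD2_c15 LD3_c51)) :=
  Lgr Lrot59 (Lpr_cf (f184187 IH) (Lpn (LP (LK LD1_c8 LD2_c15 LD3_c51))))
theorem f184208 : Led Lsl_bt (LP (LK LD1_c18 LD2_c51 LD3_c51)) = (LP (LK LD1_c10 LD2_c23 LD3_c51)) :=
  Lre_b IH (LK LD1_c18 LD2_c51 LD3_c51) (LK LD1_c10 LD2_c23 LD3_c51) Lrfl Lrfl
theorem f321951 : Led Lsl_ct (LP (LK LD1_c16 LD2_c35 LD3_c14)) = (LP (LK LD1_c18 LD2_c51 LD3_c51)) :=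
  Lgr Lrot83 (Lpe (f321950 IH) (Lpr_cf (f321946 IH) (Lpe (f190795 IH) (Lpe (f184206 IH) (Lpe (f184208 IH) (Lpn (LP (LK LD1_c18 LD2_c51 LD3_c51))))))))
theorem f321964 : Led Lsl_et (LP (LK LD1_c8 LD2_c52 LD3_c18)) = (LP (LK LD1_c16 LD2_c35 LD3_c14)) :=
  Lre_e IH (LK LD1_c8 LD2_c52 LD3_c18) (LK LD1_c16 LD2_c35 LD3_c14) Lrfl Lrfl
theorem f321965 : Led Lsl_et (LP (LK LD1_c18 LD2_c51 LD3_c51)) = (LP (LK LD1_c10 LD2_c23 LD3_c49)) :=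
  Lre_e IH (LK LD1_c18 LD2_c51 LD3_c51) (LK LD1_c10 LD2_c23 LD3_c49) Lrfl Lrfl
theorem f321966 : Led Lsl_cf (LP (LK LD1_c8 LD2_c52 LD3_c18)) = (LP (LK LD1_c10 LD2_c23 LD3_c49)) :=
  Lgr Lrot39 (Lpr_et (f321964 IH) (Lpr_ct (f321951 IH) (Lpr_et (f321965 IH) (Lpn (LP (LK LD1_c10 LD2_c23 LD3_c49))))))
theorem f212286 : Led Lsl_bt (LP (LK LD1_c4 LD2_c27 LD3_c17)) = (LP (LK LD1_c8 LD2_c52 LD3_c18)) :=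
  Lre_b IH (LK LD1_c4 LD2_c27 LD3_c17) (LK LD1_c8 LD2_c52 LD3_c18) Lrfl Lrfl
theorem f47146 : Led Lsl_bt (LP (LK LD1_c8 LD2_c52 LD3_c38)) = (LP (LK LD1_c4 LD2_c27 LD3_c26)) :=
  Lre_b IH (LK LD1_c8 LD2_c52 LD3_c38) (LK LD1_c4 LD2_c27 LD3_c26) Lrfl Lrfl
theorem f317353 : Led Lsl_ft (LP (LK LD1_c8 LD2_c52 LD3_c18)) = (LP (LK LD1_c8 LD2_c52 LD3_c38)) :=
  Lgr Lrot75 (Lpe (f212286 IH) (Lpr_ff (f317351 IH) (Lpe (f47146 IH) (Lpn (LP (LK LD1_c8 LD2_c52 LD3_c38))))))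
theorem f214629 : Led Lsl_bt (LP (LK LD1_c4 LD2_c7 LD3_c33)) = (LP (LK LD1_c8 LD2_c15 LD3_c5)) :=
  Lre_b IH (LK LD1_c4 LD2_c7 LD3_c33) (LK LD1_c8 LD2_c15 LD3_c5) Lrfl Lrfl
theorem f215040 : Led Lsl_ct (LP (LK LD1_c8 LD2_c52 LD3_c38)) = (LP (LK LD1_c5 LD2_c18 LD3_c1)) :=
  Lgr Lrot83 (Lpe (K19.f215039 IH) (Lpr_cf (K14.f215035 IH) (Lpe (f214629 IH) (Lpr_cf (K13.f214615 IH) (Lpe (K19.f32824 IH) (Lpn (LP (LK LD1_c5 LD2_c18 LD3_c1))))))))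
theorem f321973 : Led Lsl_ft (LP (LK LD1_c5 LD2_c18 LD3_c1)) = (LP (LK LD1_c10 LD2_c23 LD3_c49)) :=
  Lgr Lrot4 (Lpe (f215040 IH) (Lpe (f317353 IH) (Lpr_cf (f321966 IH) (Lpn (LP (LK LD1_c10 LD2_c23 LD3_c49))))))
theorem f322000 : Led Lsl_ff (LP (LK LD1_c5 LD2_c18 LD3_c1)) = (LP (LK LD1_c10 LD2_c23 LD3_c49)) :=
  Lgr Lrot3 (Lpr_ft (f321973 IH) (Lpn (LP (LK LD1_c10 LD2_c23 LD3_c49))))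
theorem f214650 : Led Lsl_dt (LP (LK LD1_c5 LD2_c18 LD3_c1)) = (LP (LK LD1_c10 LD2_c25 LD3_c47)) :=
  Lre_d IH (LK LD1_c5 LD2_c18 LD3_c1) (LK LD1_c10 LD2_c25 LD3_c47) Lrfl Lrfl
theorem f321972 : Led Lsl_dt (LP (LK LD1_c18 LD2_c51 LD3_c50)) = (LP (LK LD1_c10 LD2_c23 LD3_c49)) :=
  Lre_d IH (LK LD1_c18 LD2_c51 LD3_c50) (LK LD1_c10 LD2_c23 LD3_c49) Lrfl Lrfl
theorem f322009 : Led Lsl_ft (LP (LK LD1_c10 LD2_c25 LD3_c47)) = (LP (LK LD1_c18 LD2_c51 LD3_c50)) :=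
  Lgr Lrot54 (Lpe (f214650 IH) (Lpr_ff (f322000 IH) (Lpe (f321972 IH) (Lpn (LP (LK LD1_c18 LD2_c51 LD3_c50))))))
theorem f191500 : Led Lsl_bt (LP (LK LD1_c5 LD2_c18 LD3_c2)) = (LP (LK LD1_c10 LD2_c25 LD3_c47)) :=
  Lre_b IH (LK LD1_c5 LD2_c18 LD3_c2) (LK LD1_c10 LD2_c25 LD3_c47) Lrfl Lrfl
theorem f188513 : Led Lsl_bt (LP (LK LD1_c18 LD2_c51 LD3_c50)) = (LP (LK LD1_c10 LD2_c23 LD3_c50)) :=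
  Lre_b IH (LK LD1_c18 LD2_c51 LD3_c50) (LK LD1_c10 LD2_c23 LD3_c50) Lrfl Lrfl
theorem f322015 : Led Lsl_ff (LP (LK LD1_c5 LD2_c18 LD3_c2)) = (LP (LK LD1_c10 LD2_c23 LD3_c50)) :=
  Lgr Lrot25 (Lpr_bt (f191500 IH) (Lpr_ft (f322009 IH) (Lpr_bt (f188513 IH) (Lpn (LP (LK LD1_c10 LD2_c23 LD3_c50))))))
theorem f182064 : Led Lsl_dt (LP (LK LD1_c1 LD2_c25 LD3_c8)) = (LP (LK LD1_c0 LD2_c39 LD3_c13)) :=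
  Lre_d IH (LK LD1_c1 LD2_c25 LD3_c8) (LK LD1_c0 LD2_c39 LD3_c13) Lrfl Lrfl
theorem f257840 : Led Lsl_gt (LP (LK LD1_c2 LD2_c35 LD3_c25)) = (LP (LK LD1_c5 LD2_c17 LD3_c14)) :=
  Lgr Lrot9 (Lpe (K13.f32959 IH) (Lpr_gt (K10.f32091 IH) (Lpr_ct (K0.f32062 IH) (Lpr_gt (K10.f32251 IH) (Lpe (K10.f182062 IH) (Lpe (f182064 IH) (Lpe (K17.f182065 IH) (Lpe (K15.f182086 IH) (Lpr_cf (K15.f257820 IH) (Lpn (LP (LK LD1_c5 LD2_c17 LD3_c14))))))))))))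
theorem f259371 : Led Lsl_cf (LP (LK LD1_c10 LD2_c44 LD3_c37)) = (LP (LK LD1_c10 LD2_c24 LD3_c32)) :=
  Lgr Lrot14 (Lpe (K15.f259333 IH) (Lpr_gf (K15.f257845 IH) (Lpe (K10.f49106 IH) (Lpr_gf (K10.f188045 IH) (Lpr_ct (K10.f187636 IH) (Lpr_gt (K13.f48413 IH) (Lpe (K13.f191524 IH) (Lpr_gt (K15.f259365 IH) (Lpr_dt (K15.f48196 IH) (Lpn (LP (LK LD1_c10 LD2_c24 LD3_c32))))))))))))
theorem f285435 : Led Lsl_gt (LP (LK LD1_c10 LD2_c23 LD3_c50)) = (LP (LK LD1_c10 LD2_c24 LD3_c32)) :=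
  Lgr Lrot150 (Lpe (K17.f188500 IH) (Lpr_gf (K17.f285429 IH) (Lpe (K18.f49922 IH) (Lpr_gt (K16.f192104 IH) (Lpr_ct (K13.f191360 IH) (Lpr_gt (f257840 IH) (Lpe (K15.f257820 IH) (Lpr_df (K15.f259358 IH) (Lpr_cf (f259371 IH) (Lpn (LP (LK LD1_c10 LD2_c24 LD3_c32))))))))))))
theorem f191336 : Led Lsl_dt (LP (LK LD1_c8 LD2_c15 LD3_c18)) = (LP (LK LD1_c4 LD2_c7 LD3_c39)) :=
  Lre_d IH (LK LD1_c8 LD2_c15 LD3_c18) (LK LD1_c4 LD2_c7 LD3_c39) Lrfl Lrfl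
theorem f273657 : Led Lsl_gf (LP (LK LD1_c9 LD2_c53 LD3_c19)) = (LP (LK LD1_c10 LD2_c24 LD3_c32)) :=
  Lgr Lrot104 (Lpr_ct (K17.f184166 IH) (Lpe (K17.f53592 IH) (Lpr_cf (K10.f188047 IH) (Lpr_gf (K10.f188520 IH) (Lpe (K16.f33073 IH) (Lpr_gf (K13.f231576 IH) (Lpe (f191336 IH) (Lpr_gt (K16.f273649 IH) (Lpe (K15.f259363 IH) (Lpn (LP (LK LD1_c10 LD2_c24 LD3_c32))))))))))))
theorem f322026 : Led Lsl_at (LP (LK LD1_c5 LD2_c18 LD3_c2)) = (LP (LK LD1_c9 LD2_c53 LD3_c19)) :=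
  Lgr Lrot26 (Lpr_ff (f322015 IH) (Lpr_gt (f285435 IH) (Lpe (f273657 IH) (Lpn (LP (LK LD1_c9 LD2_c53 LD3_c19))))))
theorem f322032 : Led Lsl_af (LP (LK LD1_c2 LD2_c35 LD3_c44)) = (LP (LK LD1_c5 LD2_c1 LD3_c31)) :=
  Lgr Lrot117 (Lpr_dt (K17.f48934 IH) (Lpr_at (f322026 IH) (Lpr_dt (K17.f3745 IH) (Lpn (LP (LK LD1_c5 LD2_c1 LD3_c31))))))
theorem f191045 : Led Lsl_ct (LP (LK LD1_c4 LD2_c7 LD3_c33)) = (LP (LK LD1_c2 LD2_c35 LD3_c44)) :=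
  Lgr Lrot152 (Lpe (K13.f45010 IH) (Lpe (K8.f44966 IH) (Lpr_gt (K10.f44989 IH) (Lpr_ct (K10.f191037 IH) (Lpr_gt (K10.f32906 IH) (Lpr_ct (K10.f32165 IH) (Lpe (K1.f32168 IH) (Lpe (K10.f32507 IH) (Lpe (K13.f32823 IH) (Lpn (LP (LK LD1_c2 LD2_c35 LD3_c44))))))))))))
theorem f50078 : Led Lsl_ef (LP (LK LD1_c2 LD2_c1 LD3_c20)) = (LP (LK LD1_c2 LD2_c1 LD3_c20)) :=
  Lgr Lrot20 (Lpe (K9.f49814 IH) (Lpr_et (K9.f50076 IH) (Lpr_at (K10.f49613 IH) (Lpn (LP (LK LD1_c2 LD2_c1 LD3_c20))))))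
theorem f274822 : Led Lsl_dt (LP (LK LD1_c5 LD2_c28 LD3_c11)) = (LP (LK LD1_c4 LD2_c7 LD3_c33)) :=
  Lgr Lrot171 (Lpe (K15.f175060 IH) (Lpr_ef (K14.f252575 IH) (Lpr_dt (K15.f192462 IH) (Lpe (K15.f263656 IH) (Lpe (K15.f263660 IH) (Lpr_et (K16.f274815 IH) (Lpr_gf (K10.f53595 IH) (Lpr_ef (f50078 IH) (Lpr_dt (K10.f49649 IH) (Lpe (K13.f49820 IH) (Lpn (LP (LK LD1_c4 LD2_c7 LD3_c33)))))))))))))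
theorem f188537 : Led Lsl_ft (LP (LK LD1_c2 LD2_c4 LD3_c23)) = (LP (LK LD1_c4 LD2_c14 LD3_c1)) :=
  Lre_f IH (LK LD1_c2 LD2_c4 LD3_c23) (LK LD1_c4 LD2_c14 LD3_c1) Lrfl Lrfl
theorem f311926 : Led Lsl_ct (LP (LK LD1_c4 LD2_c14 LD3_c1)) = (LP (LK LD1_c5 LD2_c28 LD3_c11)) :=
  Lgr Lrot40 (Lpe (f188537 IH) (Lpe (K10.f188528 IH) (Lpr_ff (K19.f311920 IH) (Lpn (LP (LK LD1_c5 LD2_c28 LD3_c11))))))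
theorem f322041 : Led Lsl_ft (LP (LK LD1_c2 LD2_c35 LD3_c45)) = (LP (LK LD1_c5 LD2_c1 LD3_c31)) :=
  Lgr Lrot2 (Lpr_gt (K10.f48933 IH) (Lpr_gt (K13.f48270 IH) (Lpr_af (f322032 IH) (Lpn (LP (LK LD1_c5 LD2_c1 LD3_c31))))))
theorem f53480 : Led Lsl_dt (LP (LK LD1_c8 LD2_c15 LD3_c23)) = (LP (LK LD1_c4 LD2_c7 LD3_c41)) :=
  Lre_d IH (LK LD1_c8 LD2_c15 LD3_c23) (LK LD1_c4 LD2_c7 LD3_c41) Lrfl Lrfl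
theorem f322043 : Led Lsl_df (LP (LK LD1_c4 LD2_c14 LD3_c1)) = (LP (LK LD1_c2 LD2_c35 LD3_c27)) :=
  Lgr Lrot13 (Lpr_ct (f311926 IH) (Lpr_dt (f274822 IH) (Lpr_ct (f191045 IH) (Lpr_af (f322032 IH) (Lpe (f322041 IH) (Lpr_dt (K17.f32524 IH) (Lpe (K17.f214681 IH) (Lpr_dt (f53480 IH) (Lpr_ct (K10.f191355 IH) (Lpn (LP (LK LD1_c2 LD2_c35 LD3_c27))))))))))))
theorem f322059 : Led Lsl_cf (LP (LK LD1_c4 LD2_c14 LD3_c1)) = (LP (LK LD1_c5 LD2_c28 LD3_c11)) :=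
  Lgr Lrot14 (Lpr_df (f322043 IH) (Lpe (K11.f33048 IH) (Lpe (K9.f32077 IH) (Lpe (K10.f32091 IH) (Lpe (K13.f192101 IH) (Lpr_gt (K10.f44993 IH) (Lpr_dt (K8.f44966 IH) (Lpr_gt (K13.f45010 IH) (Lpe (K17.f284828 IH) (Lpn (LP (LK LD1_c5 LD2_c28 LD3_c11))))))))))))
theorem f322049 : Led Lsl_dt (LP (LK LD1_c4 LD2_c14 LD3_c1)) = (LP (LK LD1_c2 LD2_c35 LD3_c27)) :=
  Lgr Lrot42 (Lpr_df (f322043 IH) (Lpn (LP (LK LD1_c2 LD2_c35 LD3_c27))))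
theorem f322024 : Led Lsl_ft (LP (LK LD1_c5 LD2_c18 LD3_c2)) = (LP (LK LD1_c10 LD2_c23 LD3_c50)) :=
  Lgr Lrot48 (Lpr_ff (f322015 IH) (Lpn (LP (LK LD1_c10 LD2_c23 LD3_c50))))
theorem f322063 : Led Lsl_af (LP (LK LD1_c5 LD2_c18 LD3_c5)) = (LP (LK LD1_c10 LD2_c23 LD3_c50)) :=
  Lgr Lrot109 (Lpe (K17.f214678 IH) (Lpe (K17.f50321 IH) (Lpr_cf (K10.f191349 IH) (Lpe (f322049 IH) (Lpr_cf (f322059 IH) (Lpr_df (K17.f284828 IH) (Lpr_cf (K13.f214615 IH) (Lpe (K17.f50788 IH) (Lpr_ft (f322024 IH) (Lpn (LP (LK LD1_c10 LD2_c23 LD3_c50))))))))))))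
theorem f322028 : Led Lsl_af (LP (LK LD1_c5 LD2_c18 LD3_c2)) = (LP (LK LD1_c9 LD2_c53 LD3_c19)) :=
  Lgr Lrot0 (Lpr_at (f322026 IH) (Lpn (LP (LK LD1_c9 LD2_c53 LD3_c19))))
theorem f322080 : Led Lsl_ft (LP (LK LD1_c5 LD2_c18 LD3_c5)) = (LP (LK LD1_c9 LD2_c53 LD3_c19)) :=
  Lgr Lrot101 (Lpr_af (f322063 IH) (Lpe (f322024 IH) (Lpr_af (f322028 IH) (Lpn (LP (LK LD1_c9 LD2_c53 LD3_c19))))))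
theorem f322084 : Led Lsl_ff (LP (LK LD1_c2 LD2_c35 LD3_c45)) = (LP (LK LD1_c5 LD2_c1 LD3_c31)) :=
  Lgr Lrot19 (Lpr_dt (K17.f32524 IH) (Lpr_ft (f322080 IH) (Lpr_dt (K17.f3745 IH) (Lpn (LP (LK LD1_c5 LD2_c1 LD3_c31))))))
theorem f322090 : Led Lsl_ft (LP (LK LD1_c4 LD2_c7 LD3_c34)) = (LP (LK LD1_c2 LD2_c28 LD3_c28)) :=
  Lgr Lrot4 (Lpr_cf (K10.f191516 IH) (Lpr_ff (f322084 IH) (Lpe (K9.f165377 IH) (Lpn (LP (LK LD1_c2 LD2_c28 LD3_c28))))))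
theorem f322096 : Led Lsl_af (LP (LK LD1_c4 LD2_c7 LD3_c33)) = (LP (LK LD1_c2 LD2_c28 LD3_c28)) :=
  Lgr Lrot31 (Lpe (K13.f45010 IH) (Lpe (K10.f45012 IH) (Lpr_ft (f322090 IH) (Lpn (LP (LK LD1_c2 LD2_c28 LD3_c28))))))
theorem f322102 : Led Lsl_at (LP (LK LD1_c8 LD2_c15 LD3_c6)) = (LP (LK LD1_c5 LD2_c1 LD3_c32)) :=
  Lgr Lrot80 (Lpe (K19.f214630 IH) (Lpr_af (f322096 IH) (Lpe (K19.f184116 IH) (Lpn (LP (LK LD1_c5 LD2_c1 LD3_c32))))))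
theorem f214749 : Led Lsl_ft (LP (LK LD1_c15 LD2_c30 LD3_c59)) = (LP (LK LD1_c8 LD2_c15 LD3_c6)) :=
  Lre_f IH (LK LD1_c15 LD2_c30 LD3_c59) (LK LD1_c8 LD2_c15 LD3_c6) Lrfl Lrfl
theorem f311512 : Led Lsl_gt (LP (LK LD1_c9 LD2_c53 LD3_c21)) = (LP (LK LD1_c5 LD2_c1 LD3_c32)) :=
  Lre_g IH (LK LD1_c9 LD2_c53 LD3_c21) (LK LD1_c5 LD2_c1 LD3_c32) Lrfl Lrfl
theorem f322106 : Led Lsl_gt (LP (LK LD1_c15 LD2_c30 LD3_c59)) = (LP (LK LD1_c9 LD2_c53 LD3_c21)) :=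
  Lgr Lrot5 (Lpr_ft (f214749 IH) (Lpr_at (f322102 IH) (Lpe (f311512 IH) (Lpn (LP (LK LD1_c9 LD2_c53 LD3_c21))))))
theorem f311531 : Led Lsl_dt (LP (LK LD1_c18 LD2_c5 LD3_c51)) = (LP (LK LD1_c9 LD2_c53 LD3_c21)) :=
  Lre_d IH (LK LD1_c18 LD2_c5 LD3_c51) (LK LD1_c9 LD2_c53 LD3_c21) Lrfl Lrfl
theorem f222449 : Led Lsl_et (LP (LK LD1_c8 LD2_c17 LD3_c11)) = (LP (LK LD1_c4 LD2_c8 LD3_c33)) :=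
  Lre_e IH (LK LD1_c8 LD2_c17 LD3_c11) (LK LD1_c4 LD2_c8 LD3_c33) Lrfl Lrfl
theorem f311532 : Led Lsl_ef (LP (LK LD1_c10 LD2_c24 LD3_c30)) = (LP (LK LD1_c18 LD2_c5 LD3_c51)) :=
  Lgr Lrot17 (Lpe (K15.f222446 IH) (Lpe (K12.f222437 IH) (Lpr_dt (K12.f222221 IH) (Lpe (K12.f199615 IH) (Lpe (K13.f199687 IH) (Lpe (K13.f199704 IH) (Lpe (f222449 IH) (Lpr_dt (K19.f311525 IH) (Lpe (f311512 IH) (Lpe (f311531 IH) (Lpn (LP (LK LD1_c18 LD2_c5 LD3_c51)))))))))))))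
theorem f231799 : Led Lsl_et (LP (LK LD1_c4 LD2_c6 LD3_c26)) = (LP (LK LD1_c8 LD2_c13 LD3_c30)) :=
  Lre_e IH (LK LD1_c4 LD2_c6 LD3_c26) (LK LD1_c8 LD2_c13 LD3_c30) Lrfl Lrfl
theorem f231813 : Led Lsl_gt (LP (LK LD1_c8 LD2_c13 LD3_c30)) = (LP (LK LD1_c15 LD2_c28 LD3_c14)) :=
  Lre_g IH (LK LD1_c8 LD2_c13 LD3_c30) (LK LD1_c15 LD2_c28 LD3_c14) Lrfl Lrfl
theorem f322108 : Led Lsl_df (LP (LK LD1_c15 LD2_c30 LD3_c59)) = (LP (LK LD1_c15 LD2_c28 LD3_c14)) :=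
  Lgr Lrot135 (Lpr_gt (f322106 IH) (Lpe (f311531 IH) (Lpe (f311532 IH) (Lpr_gt (K15.f32942 IH) (Lpe (K10.f32117 IH) (Lpr_dt (K10.f32101 IH) (Lpr_gt (K11.f192526 IH) (Lpe (K14.f192519 IH) (Lpr_et (f231799 IH) (Lpr_gt (f231813 IH) (Lpn (LP (LK LD1_c15 LD2_c28 LD3_c14)))))))))))))
theorem f284826 : Led Lsl_df (LP (LK LD1_c10 LD2_c24 LD3_c13)) = (LP (LK LD1_c8 LD2_c15 LD3_c6)) :=
  Lgr Lrot38 (Lpr_dt (K17.f284818 IH) (Lpn (LP (LK LD1_c8 LD2_c15 LD3_c6))))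
theorem f322116 : Led Lsl_ft (LP (LK LD1_c10 LD2_c24 LD3_c13)) = (LP (LK LD1_c15 LD2_c28 LD3_c14)) :=
  Lgr Lrot54 (Lpr_df (f284826 IH) (Lpe (f214749 IH) (Lpr_df (f322108 IH) (Lpn (LP (LK LD1_c15 LD2_c28 LD3_c14))))))
theorem f322124 : Led Lsl_ff (LP (LK LD1_c10 LD2_c24 LD3_c13)) = (LP (LK LD1_c15 LD2_c28 LD3_c14)) :=
  Lgr Lrot3 (Lpr_ft (f322116 IH) (Lpn (LP (LK LD1_c15 LD2_c28 LD3_c14))))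
theorem f322128 : Led Lsl_et (LP (LK LD1_c15 LD2_c34 LD3_c57)) = (LP (LK LD1_c15 LD2_c28 LD3_c14)) :=
  Lgr Lrot69 (Lpe (K19.f232194 IH) (Lpe (K19.f232187 IH) (Lpe (K19.f311832 IH) (Lpr_ef (K17.f251733 IH) (Lpr_ff (f322124 IH) (Lpn (LP (LK LD1_c15 LD2_c28 LD3_c14))))))))
theorem f278451 : Led Lsl_df (LP (LK LD1_c8 LD2_c42 LD3_c33)) = (LP (LK LD1_c10 LD2_c23 LD3_c36)) :=
  Lgr Lrot38 (Lpr_dt (K19.f278438 IH) (Lpn (LP (LK LD1_c10 LD2_c23 LD3_c36))))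
theorem f232304 : Led Lsl_gt (LP (LK LD1_c16 LD2_c18 LD3_c58)) = (LP (LK LD1_c8 LD2_c42 LD3_c33)) :=
  Lre_g IH (LK LD1_c16 LD2_c18 LD3_c58) (LK LD1_c8 LD2_c42 LD3_c33) Lrfl Lrfl
theorem f322132 : Led Lsl_dt (LP (LK LD1_c15 LD2_c34 LD3_c57)) = (LP (LK LD1_c16 LD2_c18 LD3_c58)) :=
  Lgr Lrot136 (Lpr_et (f322128 IH) (Lpe (f231813 IH) (Lpe (f231799 IH) (Lpr_dt (K14.f192519 IH) (Lpe (K11.f192526 IH) (Lpe (K10.f32101 IH) (Lpe (K10.f32125 IH) (Lpe (K14.f32948 IH) (Lpe (f278451 IH) (Lpe (f232304 IH) (Lpn (LP (LK LD1_c16 LD2_c18 LD3_c58)))))))))))))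
theorem f322138 : Led Lsl_ff (LP (LK LD1_c9 LD2_c41 LD3_c42)) = (LP (LK LD1_c16 LD2_c18 LD3_c58)) :=
  Lgr Lrot19 (Lpr_dt (K19.f232191 IH) (Lpr_ft (K19.f232194 IH) (Lpr_dt (f322132 IH) (Lpn (LP (LK LD1_c16 LD2_c18 LD3_c58))))))
theorem f322144 : Led Lsl_ft (LP (LK LD1_c9 LD2_c41 LD3_c42)) = (LP (LK LD1_c16 LD2_c18 LD3_c58)) :=
  Lgr Lrot48 (Lpr_ff (f322138 IH) (Lpn (LP (LK LD1_c16 LD2_c18 LD3_c58))))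
theorem f267582 : Led Lsl_et (LP (LK LD1_c4 LD2_c51 LD3_c19)) = (LP (LK LD1_c9 LD2_c34 LD3_c44)) :=
  Lre_e IH (LK LD1_c4 LD2_c51 LD3_c19) (LK LD1_c9 LD2_c34 LD3_c44) Lrfl Lrfl
theorem f311770 : Led Lsl_bt (LP (LK LD1_c9 LD2_c34 LD3_c44)) = (LP (LK LD1_c9 LD2_c41 LD3_c42)) :=
  Lgr Lrot119 (Lpe (f267582 IH) (Lpr_bf (K19.f311762 IH) (Lpe (K19.f219115 IH) (Lpn (LP (LK LD1_c9 LD2_c41 LD3_c42))))))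
theorem f238203 : Led Lsl_at (LP (LK LD1_c9 LD2_c34 LD3_c44)) = (LP (LK LD1_c4 LD2_c51 LD3_c22)) :=
  Lre_a IH (LK LD1_c9 LD2_c34 LD3_c44) (LK LD1_c4 LD2_c51 LD3_c22) Lrfl Lrfl
theorem f321369 : Led Lsl_gt (LP (LK LD1_c16 LD2_c8 LD3_c47)) = (LP (LK LD1_c8 LD2_c37 LD3_c10)) :=
  Lre_g IH (LK LD1_c16 LD2_c8 LD3_c47) (LK LD1_c8 LD2_c37 LD3_c10) Lrfl Lrfl
theorem f321370 : Led Lsl_ff (LP (LK LD1_c9 LD2_c34 LD3_c44)) = (LP (LK LD1_c16 LD2_c8 LD3_c47)) :=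
  Lgr Lrot52 (Lpr_at (f238203 IH) (Lpr_gf (f321367 IH) (Lpe (f321369 IH) (Lpn (LP (LK LD1_c16 LD2_c8 LD3_c47))))))
theorem f322146 : Led Lsl_bf (LP (LK LD1_c16 LD2_c8 LD3_c47)) = (LP (LK LD1_c16 LD2_c18 LD3_c58)) :=
  Lgr Lrot61 (Lpe (f321370 IH) (Lpr_bt (f311770 IH) (Lpr_ft (f322144 IH) (Lpn (LP (LK LD1_c16 LD2_c18 LD3_c58))))))
theorem f311778 : Led Lsl_ff (LP (LK LD1_c4 LD2_c13 LD3_c58)) = (LP (LK LD1_c4 LD2_c55 LD3_c3)) :=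
  Lgr Lrot3 (Lpr_ft (K19.f311772 IH) (Lpn (LP (LK LD1_c4 LD2_c55 LD3_c3))))
theorem f188655 : Led Lsl_ft (LP (LK LD1_c8 LD2_c26 LD3_c33)) = (LP (LK LD1_c15 LD2_c51 LD3_c20)) :=
  Lre_f IH (LK LD1_c8 LD2_c26 LD3_c33) (LK LD1_c15 LD2_c51 LD3_c20) Lrfl Lrfl
theorem f322142 : Led Lsl_et (LP (LK LD1_c15 LD2_c51 LD3_c20)) = (LP (LK LD1_c16 LD2_c18 LD3_c58)) :=
  Lgr Lrot69 (Lpe (f188655 IH) (Lpe (K12.f188604 IH) (Lpr_ff (f311778 IH) (Lpe (K19.f219115 IH) (Lpr_ff (f322138 IH) (Lpn (LP (LK LD1_c16 LD2_c18 LD3_c58))))))))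
theorem f188654 : Led Lsl_ft (LP (LK LD1_c15 LD2_c1 LD3_c20)) = (LP (LK LD1_c7 LD2_c57 LD3_c52)) :=
  Lre_f IH (LK LD1_c15 LD2_c1 LD3_c20) (LK LD1_c7 LD2_c57 LD3_c52) Lrfl Lrfl
theorem f188656 : Led Lsl_bf (LP (LK LD1_c15 LD2_c1 LD3_c20)) = (LP (LK LD1_c15 LD2_c51 LD3_c20)) :=
  Lgr Lrot61 (Lpr_ft (f188654 IH) (Lpr_bt (K12.f188643 IH) (Lpr_ft (f188655 IH) (Lpn (LP (LK LD1_c15 LD2_c51 LD3_c20))))))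
theorem f188661 : Led Lsl_bt (LP (LK LD1_c15 LD2_c1 LD3_c20)) = (LP (LK LD1_c15 LD2_c51 LD3_c20)) :=
  Lgr Lrot127 (Lpr_bf (f188656 IH) (Lpn (LP (LK LD1_c15 LD2_c51 LD3_c20))))
theorem f322154 : Led Lsl_et (LP (LK LD1_c16 LD2_c8 LD3_c47)) = (LP (LK LD1_c15 LD2_c1 LD3_c20)) :=
  Lgr Lrot74 (Lpr_bf (f322146 IH) (Lpe (f322142 IH) (Lpe (f188661 IH) (Lpn (LP (LK LD1_c15 LD2_c1 LD3_c20))))))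
theorem f322160 : Led Lsl_ff (LP (LK LD1_c16 LD2_c8 LD3_c47)) = (LP (LK LD1_c9 LD2_c34 LD3_c44)) :=
  Lgr Lrot72 (Lpr_et (f322154 IH) (Lpr_ft (f188654 IH) (Lpr_et (K12.f188693 IH) (Lpr_ft (K15.f267576 IH) (Lpr_et (f267582 IH) (Lpn (LP (LK LD1_c9 LD2_c34 LD3_c44))))))))
theorem f311816 : Led Lsl_bt (LP (LK LD1_c25 LD2_c28 LD3_c61)) = (LP (LK LD1_c15 LD2_c34 LD3_c57)) :=
  Lre_b IH (LK LD1_c25 LD2_c28 LD3_c61) (LK LD1_c15 LD2_c34 LD3_c57) Lrfl Lrfl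
theorem f322152 : Led Lsl_dt (LP (LK LD1_c16 LD2_c8 LD3_c47)) = (LP (LK LD1_c25 LD2_c28 LD3_c61)) :=
  Lgr Lrot79 (Lpr_bf (f322146 IH) (Lpe (f322132 IH) (Lpe (f311816 IH) (Lpn (LP (LK LD1_c25 LD2_c28 LD3_c61))))))
theorem f254843 : Led Lsl_ft (LP (LK LD1_c25 LD2_c28 LD3_c61)) = (LP (LK LD1_c15 LD2_c34 LD3_c54)) :=
  Lre_f IH (LK LD1_c25 LD2_c28 LD3_c61) (LK LD1_c15 LD2_c34 LD3_c54) Lrfl Lrfl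
theorem f322164 : Led Lsl_dt (LP (LK LD1_c15 LD2_c34 LD3_c54)) = (LP (LK LD1_c9 LD2_c34 LD3_c44)) :=
  Lgr Lrot60 (Lpe (f254843 IH) (Lpe (f322152 IH) (Lpr_ff (f322160 IH) (Lpn (LP (LK LD1_c9 LD2_c34 LD3_c44))))))
theorem f322166 : Led Lsl_df (LP (LK LD1_c15 LD2_c34 LD3_c54)) = (LP (LK LD1_c9 LD2_c34 LD3_c44)) :=
  Lgr Lrot38 (Lpr_dt (f322164 IH) (Lpn (LP (LK LD1_c9 LD2_c34 LD3_c44))))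
theorem f254847 : Led Lsl_et (LP (LK LD1_c15 LD2_c34 LD3_c54)) = (LP (LK LD1_c8 LD2_c17 LD3_c9)) :=
  Lre_e IH (LK LD1_c15 LD2_c34 LD3_c54) (LK LD1_c8 LD2_c17 LD3_c9) Lrfl Lrfl
theorem f322170 : Led Lsl_et (LP (LK LD1_c4 LD2_c19 LD3_c49)) = (LP (LK LD1_c2 LD2_c23 LD3_c29)) :=
  Lgr Lrot71 (Lpr_df (K17.f254824 IH) (Lpe (f254847 IH) (Lpr_df (f322166 IH) (Lpe (f267582 IH) (Lpe (K19.f311721 IH) (Lpn (LP (LK LD1_c2 LD2_c23 LD3_c29))))))))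
theorem f267580 : Led Lsl_ff (LP (LK LD1_c1 LD2_c55 LD3_c55)) = (LP (LK LD1_c2 LD2_c23 LD3_c29)) :=
  Lgr Lrot19 (Lpr_dt (K15.f42758 IH) (Lpr_ft (K15.f267576 IH) (Lpr_dt (f267579 IH) (Lpn (LP (LK LD1_c2 LD2_c23 LD3_c29))))))
theorem f322174 : Led Lsl_ff (LP (LK LD1_c4 LD2_c19 LD3_c49)) = (LP (LK LD1_c4 LD2_c12 LD3_c54)) :=
  Lgr Lrot72 (Lpr_et (f322170 IH) (Lpe (f267580 IH) (Lpr_et (K12.f188582 IH) (Lpr_ft (K19.f311659 IH) (Lpr_et (K14.f256066 IH) (Lpn (LP (LK LD1_c4 LD2_c12 LD3_c54))))))))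
theorem f322180 : Led Lsl_ft (LP (LK LD1_c4 LD2_c19 LD3_c49)) = (LP (LK LD1_c4 LD2_c12 LD3_c54)) :=
  Lgr Lrot48 (Lpr_ff (f322174 IH) (Lpn (LP (LK LD1_c4 LD2_c12 LD3_c54))))
theorem f322182 : Led Lsl_ff (LP (LK LD1_c2 LD2_c7 LD3_c22)) = (LP (LK LD1_c2 LD2_c3 LD3_c42)) :=
  Lgr Lrot23 (Lpr_ct (K14.f170292 IH) (Lpr_ft (f322180 IH) (Lpr_ct (K14.f200356 IH) (Lpn (LP (LK LD1_c2 LD2_c3 LD3_c42))))))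
theorem f322188 : Led Lsl_at (LP (LK LD1_c2 LD2_c7 LD3_c22)) = (LP (LK LD1_c1 LD2_c55 LD3_c60)) :=
  Lgr Lrot26 (Lpr_ff (f322182 IH) (Lpr_gt (K16.f276668 IH) (Lpe (K16.f278636 IH) (Lpn (LP (LK LD1_c1 LD2_c55 LD3_c60))))))
theorem f267177 : Led Lsl_dt (LP (LK LD1_c1 LD2_c55 LD3_c60)) = (LP (LK LD1_c2 LD2_c7 LD3_c10)) :=
  Lgr Lrot6 (Lpr_gt (K15.f261279 IH) (Lpr_ct (K15.f196989 IH) (Lpe (K15.f261294 IH) (Lpr_ct (K12.f201240 IH) (Lpe (K15.f261317 IH) (Lpr_cf (K15.f267166 IH) (Lpe (K15.f179547 IH) (Lpe (K15.f179546 IH) (Lpe (K15.f179570 IH) (Lpn (LP (LK LD1_c2 LD2_c7 LD3_c10))))))))))))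
theorem f322192 : Led Lsl_af (LP (LK LD1_c2 LD2_c3 LD3_c23)) = (LP (LK LD1_c2 LD2_c7 LD3_c10)) :=
  Lgr Lrot117 (Lpe (K15.f246737 IH) (Lpr_at (f322188 IH) (Lpr_dt (f267177 IH) (Lpn (LP (LK LD1_c2 LD2_c7 LD3_c10))))))
theorem f322184 : Led Lsl_ft (LP (LK LD1_c2 LD2_c3 LD3_c23)) = (LP (LK LD1_c2 LD2_c7 LD3_c9)) :=
  Lgr Lrot54 (Lpe (K14.f246733 IH) (Lpr_ff (f322182 IH) (Lpr_df (K16.f276672 IH) (Lpn (LP (LK LD1_c2 LD2_c7 LD3_c9))))))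
theorem f243393 : Led Lsl_bt (LP (LK LD1_c2 LD2_c7 LD3_c10)) = (LP (LK LD1_c4 LD2_c19 LD3_c30)) :=
  Lre_b IH (LK LD1_c2 LD2_c7 LD3_c10) (LK LD1_c4 LD2_c19 LD3_c30) Lrfl Lrfl
theorem f317637 : Led Lsl_ff (LP (LK LD1_c2 LD2_c7 LD3_c10)) = (LP (LK LD1_c2 LD2_c3 LD3_c24)) :=
  Lgr Lrot25 (Lpr_bt (f243393 IH) (Lpr_ft (f317626 IH) (Lpr_bt (K16.f199578 IH) (Lpn (LP (LK LD1_c2 LD2_c3 LD3_c24))))))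
theorem f322202 : Led Lsl_at (LP (LK LD1_c2 LD2_c7 LD3_c9)) = (LP (LK LD1_c2 LD2_c3 LD3_c24)) :=
  Lgr Lrot66 (Lpe (f322184 IH) (Lpr_af (f322192 IH) (Lpr_ff (f317637 IH) (Lpn (LP (LK LD1_c2 LD2_c3 LD3_c24))))))
theorem f322212 : Led Lsl_et (LP (LK LD1_c4 LD2_c19 LD3_c29)) = (LP (LK LD1_c2 LD2_c7 LD3_c9)) :=
  Lre_e IH (LK LD1_c4 LD2_c19 LD3_c29) (LK LD1_c2 LD2_c7 LD3_c9) Lrfl Lrfl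
theorem f271099 : Led Lsl_et (LP (LK LD1_c2 LD2_c3 LD3_c24)) = (LP (LK LD1_c4 LD2_c12 LD3_c23)) :=
  Lre_e IH (LK LD1_c2 LD2_c3 LD3_c24) (LK LD1_c4 LD2_c12 LD3_c23) Lrfl Lrfl
theorem f322213 : Led Lsl_af (LP (LK LD1_c4 LD2_c19 LD3_c29)) = (LP (LK LD1_c4 LD2_c12 LD3_c23)) :=
  Lgr Lrot50 (Lpr_et (f322212 IH) (Lpr_at (f322202 IH) (Lpr_et (f271099 IH) (Lpn (LP (LK LD1_c4 LD2_c12 LD3_c23))))))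
theorem f271126 : Led Lsl_ft (LP (LK LD1_c8 LD2_c24 LD3_c22)) = (LP (LK LD1_c4 LD2_c12 LD3_c23)) :=
  Lre_f IH (LK LD1_c8 LD2_c24 LD3_c22) (LK LD1_c4 LD2_c12 LD3_c23) Lrfl Lrfl
theorem f228839 : Led Lsl_gt (LP (LK LD1_c2 LD2_c3 LD3_c51)) = (LP (LK LD1_c4 LD2_c13 LD3_c11)) :=
  Lre_g IH (LK LD1_c2 LD2_c3 LD3_c51) (LK LD1_c4 LD2_c13 LD3_c11) Lrfl Lrfl
theorem f271078 : Led Lsl_ft (LP (LK LD1_c4 LD2_c12 LD3_c23)) = (LP (LK LD1_c8 LD2_c24 LD3_c22)) :=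
  Lre_f IH (LK LD1_c4 LD2_c12 LD3_c23) (LK LD1_c8 LD2_c24 LD3_c22) Lrfl Lrfl
theorem f271088 : Led Lsl_af (LP (LK LD1_c4 LD2_c13 LD3_c11)) = (LP (LK LD1_c8 LD2_c24 LD3_c22)) :=
  Lgr Lrot31 (Lpe (f228839 IH) (Lpr_gf (K16.f271084 IH) (Lpr_ft (f271078 IH) (Lpn (LP (LK LD1_c8 LD2_c24 LD3_c22))))))
theorem f271109 : Led Lsl_at (LP (LK LD1_c4 LD2_c13 LD3_c11)) = (LP (LK LD1_c8 LD2_c24 LD3_c22)) :=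
  Lgr Lrot100 (Lpr_af (f271088 IH) (Lpn (LP (LK LD1_c8 LD2_c24 LD3_c22))))
theorem f322221 : Led Lsl_ft (LP (LK LD1_c4 LD2_c19 LD3_c29)) = (LP (LK LD1_c4 LD2_c13 LD3_c11)) :=
  Lgr Lrot101 (Lpr_af (f322213 IH) (Lpe (f271126 IH) (Lpe (f271109 IH) (Lpn (LP (LK LD1_c4 LD2_c13 LD3_c11))))))
theorem f322229 : Led Lsl_ff (LP (LK LD1_c4 LD2_c19 LD3_c29)) = (LP (LK LD1_c4 LD2_c13 LD3_c11)) :=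
  Lgr Lrot3 (Lpr_ft (f322221 IH) (Lpn (LP (LK LD1_c4 LD2_c13 LD3_c11))))
theorem f322215 : Led Lsl_at (LP (LK LD1_c4 LD2_c19 LD3_c29)) = (LP (LK LD1_c4 LD2_c12 LD3_c23)) :=
  Lgr Lrot100 (Lpr_af (f322213 IH) (Lpn (LP (LK LD1_c4 LD2_c12 LD3_c23))))
theorem f322238 : Led Lsl_gf (LP (LK LD1_c8 LD2_c24 LD3_c21)) = (LP (LK LD1_c4 LD2_c13 LD3_c11)) :=
  Lgr Lrot47 (Lpr_gt (K16.f271083 IH) (Lpe (f322215 IH) (Lpr_ff (f322229 IH) (Lpn (LP (LK LD1_c4 LD2_c13 LD3_c11))))))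
theorem f271141 : Led Lsl_ct (LP (LK LD1_c8 LD2_c24 LD3_c21)) = (LP (LK LD1_c15 LD2_c48 LD3_c14)) :=
  Lre_c IH (LK LD1_c8 LD2_c24 LD3_c21) (LK LD1_c15 LD2_c48 LD3_c14) Lrfl Lrfl
theorem f228836 : Led Lsl_at (LP (LK LD1_c8 LD2_c25 LD3_c12)) = (LP (LK LD1_c4 LD2_c13 LD3_c10)) :=
  Lre_a IH (LK LD1_c8 LD2_c25 LD3_c12) (LK LD1_c4 LD2_c13 LD3_c10) Lrfl Lrfl
theorem f228857 : Led Lsl_ct (LP (LK LD1_c8 LD2_c25 LD3_c12)) = (LP (LK LD1_c4 LD2_c12 LD3_c59)) :=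
  Lre_c IH (LK LD1_c8 LD2_c25 LD3_c12) (LK LD1_c4 LD2_c12 LD3_c59) Lrfl Lrfl
theorem f271142 : Led Lsl_ff (LP (LK LD1_c8 LD2_c25 LD3_c12)) = (LP (LK LD1_c15 LD2_c48 LD3_c14)) :=
  Lgr Lrot23 (Lpr_ct (f228857 IH) (Lpr_ft (K16.f271137 IH) (Lpr_ct (f271141 IH) (Lpn (LP (LK LD1_c15 LD2_c48 LD3_c14))))))
theorem f309986 : Led Lsl_gt (LP (LK LD1_c15 LD2_c48 LD3_c14)) = (LP (LK LD1_c8 LD2_c24 LD3_c28)) :=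
  Lgr Lrot5 (Lpe (f271142 IH) (Lpr_at (f228836 IH) (Lpr_gf (K19.f309984 IH) (Lpn (LP (LK LD1_c8 LD2_c24 LD3_c28))))))
theorem f276722 : Led Lsl_cf (LP (LK LD1_c8 LD2_c30 LD3_c52)) = (LP (LK LD1_c8 LD2_c24 LD3_c28)) :=
  Lgr Lrot39 (Lpr_et (K16.f276715 IH) (Lpe (K15.f166491 IH) (Lpr_et (K17.f166510 IH) (Lpn (LP (LK LD1_c8 LD2_c24 LD3_c28))))))
theorem f250986 : Led Lsl_ct (LP (LK LD1_c10 LD2_c33 LD3_c41)) = (LP (LK LD1_c5 LD2_c21 LD3_c45)) :=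
  Lre_c IH (LK LD1_c10 LD2_c33 LD3_c41) (LK LD1_c5 LD2_c21 LD3_c45) Lrfl Lrfl
theorem f228796 : Led Lsl_gt (LP (LK LD1_c19 LD2_c7 LD3_c40)) = (LP (LK LD1_c10 LD2_c33 LD3_c41)) :=
  Lre_g IH (LK LD1_c19 LD2_c7 LD3_c40) (LK LD1_c10 LD2_c33 LD3_c41) Lrfl Lrfl
theorem f228798 : Led Lsl_dt (LP (LK LD1_c11 LD2_c4 LD3_c44)) = (LP (LK LD1_c5 LD2_c36 LD3_c14)) :=
  Lre_d IH (LK LD1_c11 LD2_c4 LD3_c44) (LK LD1_c5 LD2_c36 LD3_c14) Lrfl Lrfl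
theorem f228698 : Led Lsl_dt (LP (LK LD1_c5 LD2_c36 LD3_c14)) = (LP (LK LD1_c11 LD2_c4 LD3_c44)) :=
  Lre_d IH (LK LD1_c5 LD2_c36 LD3_c14) (LK LD1_c11 LD2_c4 LD3_c44) Lrfl Lrfl
theorem f55090 : Led Lsl_ef (LP (LK LD1_c4 LD2_c5 LD3_c5)) = (LP (LK LD1_c2 LD2_c25 LD3_c13)) :=
  Lgr Lrot28 (Lpr_ct (K1.f46226 IH) (Lpr_et (K1.f55071 IH) (Lpr_ct (K1.f41200 IH) (Lpn (LP (LK LD1_c2 LD2_c25 LD3_c13))))))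
theorem f187506 : Led Lsl_et (LP (LK LD1_c10 LD2_c33 LD3_c41)) = (LP (LK LD1_c5 LD2_c21 LD3_c44)) :=
  Lre_e IH (LK LD1_c10 LD2_c33 LD3_c41) (LK LD1_c5 LD2_c21 LD3_c44) Lrfl Lrfl
theorem f187507 : Led Lsl_dt (LP (LK LD1_c10 LD2_c33 LD3_c41)) = (LP (LK LD1_c19 LD2_c7 LD3_c41)) :=
  Lre_d IH (LK LD1_c10 LD2_c33 LD3_c41) (LK LD1_c19 LD2_c7 LD3_c41) Lrfl Lrfl
theorem f228794 : Led Lsl_gf (LP (LK LD1_c11 LD2_c4 LD3_c44)) = (LP (LK LD1_c19 LD2_c7 LD3_c41)) :=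
  Lgr Lrot145 (Lpe (f228698 IH) (Lpr_et (K15.f228697 IH) (Lpr_gt (K12.f228733 IH) (Lpr_dt (K12.f224719 IH) (Lpr_gt (K12.f173118 IH) (Lpe (K12.f55114 IH) (Lpe (f55090 IH) (Lpe (K10.f187498 IH) (Lpe (f187506 IH) (Lpr_dt (f187507 IH) (Lpn (LP (LK LD1_c19 LD2_c7 LD3_c41)))))))))))))
theorem f271092 : Led Lsl_cf (LP (LK LD1_c19 LD2_c7 LD3_c40)) = (LP (LK LD1_c15 LD2_c24 LD3_c23)) :=
  Lgr Lrot166 (Lpr_gt (f228796 IH) (Lpr_dt (f187507 IH) (Lpe (f228794 IH) (Lpr_dt (f228798 IH) (Lpr_ct (K19.f228801 IH) (Lpr_df (K19.f228829 IH) (Lpr_gf (K16.f271084 IH) (Lpe (K16.f271067 IH) (Lpe (K16.f271082 IH) (Lpn (LP (LK LD1_c15 LD2_c24 LD3_c23))))))))))))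
theorem f276682 : Led Lsl_et (LP (LK LD1_c2 LD2_c7 LD3_c9)) = (LP (LK LD1_c4 LD2_c19 LD3_c29)) :=
  Lre_e IH (LK LD1_c2 LD2_c7 LD3_c9) (LK LD1_c4 LD2_c19 LD3_c29) Lrfl Lrfl
theorem f218584 : Led Lsl_et (LP (LK LD1_c4 LD2_c5 LD3_c19)) = (LP (LK LD1_c1 LD2_c59 LD3_c51)) :=
  Lre_e IH (LK LD1_c4 LD2_c5 LD3_c19) (LK LD1_c1 LD2_c59 LD3_c51) Lrfl Lrfl
theorem f278202 : Led Lsl_dt (LP (LK LD1_c4 LD2_c19 LD3_c29)) = (LP (LK LD1_c4 LD2_c5 LD3_c19)) :=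
  Lgr Lrot77 (Lpe (f276682 IH) (Lpr_df (K16.f278198 IH) (Lpe (K14.f256072 IH) (Lpe (K17.f251594 IH) (Lpe (f218584 IH) (Lpn (LP (LK LD1_c4 LD2_c5 LD3_c19))))))))
theorem f322235 : Led Lsl_ft (LP (LK LD1_c4 LD2_c5 LD3_c19)) = (LP (LK LD1_c8 LD2_c11 LD3_c31)) :=
  Lre_f IH (LK LD1_c4 LD2_c5 LD3_c19) (LK LD1_c8 LD2_c11 LD3_c31) Lrfl Lrfl
theorem f322236 : Led Lsl_dt (LP (LK LD1_c8 LD2_c11 LD3_c31)) = (LP (LK LD1_c4 LD2_c13 LD3_c11)) :=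
  Lgr Lrot60 (Lpe (f322235 IH) (Lpe (f278202 IH) (Lpr_ff (f322229 IH) (Lpn (LP (LK LD1_c4 LD2_c13 LD3_c11))))))
theorem f322240 : Led Lsl_gf (LP (LK LD1_c15 LD2_c24 LD3_c23)) = (LP (LK LD1_c8 LD2_c11 LD3_c31)) :=
  Lgr Lrot147 (Lpe (f271092 IH) (Lpr_gt (f228796 IH) (Lpr_ct (f250986 IH) (Lpr_df (K16.f250987 IH) (Lpr_cf (f276722 IH) (Lpe (f309986 IH) (Lpe (f271141 IH) (Lpr_gf (f322238 IH) (Lpe (f322236 IH) (Lpn (LP (LK LD1_c8 LD2_c11 LD3_c31))))))))))))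
theorem f322242 : Led Lsl_df (LP (LK LD1_c8 LD2_c11 LD3_c31)) = (LP (LK LD1_c4 LD2_c13 LD3_c11)) :=
  Lgr Lrot155 (Lpe (f322240 IH) (Lpe (f271092 IH) (Lpr_gt (f228796 IH) (Lpr_ct (f250986 IH) (Lpr_dt (K14.f250983 IH) (Lpr_cf (f276722 IH) (Lpe (f309986 IH) (Lpe (f271141 IH) (Lpr_gf (f322238 IH) (Lpn (LP (LK LD1_c4 LD2_c13 LD3_c11))))))))))))
theorem f322251 : Led Lsl_ft (LP (LK LD1_c8 LD2_c11 LD3_c31)) = (LP (LK LD1_c4 LD2_c5 LD3_c19)) :=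
  Lre_f IH (LK LD1_c8 LD2_c11 LD3_c31) (LK LD1_c4 LD2_c5 LD3_c19) Lrfl Lrfl
theorem f322252 : Led Lsl_dt (LP (LK LD1_c4 LD2_c5 LD3_c19)) = (LP (LK LD1_c4 LD2_c19 LD3_c29)) :=
  Lgr Lrot60 (Lpe (f322251 IH) (Lpr_df (f322242 IH) (Lpe (f322221 IH) (Lpn (LP (LK LD1_c4 LD2_c19 LD3_c29))))))
theorem f41217 : Led Lsl_at (LP (LK LD1_c1 LD2_c9 LD3_c51)) = (LP (LK LD1_c0 LD2_c32 LD3_c22)) :=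
  Lre_a IH (LK LD1_c1 LD2_c9 LD3_c51) (LK LD1_c0 LD2_c32 LD3_c22) Lrfl Lrfl
theorem f55086 : Led Lsl_ef (LP (LK LD1_c0 LD2_c56 LD3_c50)) = (LP (LK LD1_c0 LD2_c32 LD3_c22)) :=
  Lgr Lrot20 (Lpr_at (K10.f47958 IH) (Lpr_et (K1.f55071 IH) (Lpr_at (f41217 IH) (Lpn (LP (LK LD1_c0 LD2_c32 LD3_c22))))))
theorem f322270 : Led Lsl_gf (LP (LK LD1_c4 LD2_c12 LD3_c59)) = (LP (LK LD1_c4 LD2_c19 LD3_c29)) :=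
  Lgr Lrot145 (Lpe (K19.f252097 IH) (Lpr_et (K15.f218583 IH) (Lpr_gt (K14.f218560 IH) (Lpr_dt (K13.f171910 IH) (Lpr_gt (K13.f171911 IH) (Lpe (K12.f167938 IH) (Lpe (f55086 IH) (Lpr_gt (K9.f182550 IH) (Lpe (f218584 IH) (Lpr_dt (f322252 IH) (Lpn (LP (LK LD1_c4 LD2_c19 LD3_c29)))))))))))))
theorem f322272 : Led Lsl_gt (LP (LK LD1_c4 LD2_c12 LD3_c59)) = (LP (LK LD1_c8 LD2_c24 LD3_c22)) :=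
  Lgr Lrot46 (Lpr_gf (f322270 IH) (Lpr_ft (f322221 IH) (Lpr_at (f271109 IH) (Lpn (LP (LK LD1_c8 LD2_c24 LD3_c22))))))
theorem f254053 : Led Lsl_ct (LP (LK LD1_c4 LD2_c19 LD3_c25)) = (LP (LK LD1_c8 LD2_c37 LD3_c9)) :=
  Lre_c IH (LK LD1_c4 LD2_c19 LD3_c25) (LK LD1_c8 LD2_c37 LD3_c9) Lrfl Lrfl
theorem f310061 : Led Lsl_et (LP (LK LD1_c4 LD2_c13 LD3_c6)) = (LP (LK LD1_c8 LD2_c25 LD3_c26)) :=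
  Lre_e IH (LK LD1_c4 LD2_c13 LD3_c6) (LK LD1_c8 LD2_c25 LD3_c26) Lrfl Lrfl
theorem f267248 : Led Lsl_et (LP (LK LD1_c4 LD2_c19 LD3_c24)) = (LP (LK LD1_c8 LD2_c37 LD3_c9)) :=
  Lre_e IH (LK LD1_c4 LD2_c19 LD3_c24) (LK LD1_c8 LD2_c37 LD3_c9) Lrfl Lrfl
theorem f310064 : Led Lsl_gt (LP (LK LD1_c8 LD2_c25 LD3_c26)) = (LP (LK LD1_c8 LD2_c37 LD3_c9)) :=
  Lgr Lrot131 (Lpe (f310061 IH) (Lpr_dt (K19.f178366 IH) (Lpr_gf (K19.f310046 IH) (Lpe (K19.f222093 IH) (Lpe (K14.f2878 IH) (Lpe (f270581 IH) (Lpe (K15.f267266 IH) (Lpr_gf (K15.f267242 IH) (Lpe (K16.f261094 IH) (Lpr_et (f267248 IH) (Lpn (LP (LK LD1_c8 LD2_c37 LD3_c9)))))))))))))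
theorem f310041 : Led Lsl_et (LP (LK LD1_c8 LD2_c25 LD3_c26)) = (LP (LK LD1_c4 LD2_c13 LD3_c6)) :=
  Lre_e IH (LK LD1_c8 LD2_c25 LD3_c26) (LK LD1_c4 LD2_c13 LD3_c6) Lrfl Lrfl
theorem f310042 : Led Lsl_cf (LP (LK LD1_c8 LD2_c25 LD3_c26)) = (LP (LK LD1_c8 LD2_c30 LD3_c47)) :=
  Lgr Lrot39 (Lpr_et (f310041 IH) (Lpr_ct (K19.f310033 IH) (Lpr_et (K19.f283222 IH) (Lpn (LP (LK LD1_c8 LD2_c30 LD3_c47))))))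
theorem f283223 : Led Lsl_bt (LP (LK LD1_c8 LD2_c30 LD3_c47)) = (LP (LK LD1_c7 LD2_c55 LD3_c41)) :=
  Lgr Lrot119 (Lpe (K19.f283222 IH) (Lpr_bf (K17.f283216 IH) (Lpr_ef (K13.f236458 IH) (Lpn (LP (LK LD1_c7 LD2_c55 LD3_c41))))))
theorem f238149 : Led Lsl_ct (LP (LK LD1_c4 LD2_c51 LD3_c22)) = (LP (LK LD1_c9 LD2_c34 LD3_c48)) :=
  Lre_c IH (LK LD1_c4 LD2_c51 LD3_c22) (LK LD1_c9 LD2_c34 LD3_c48) Lrfl Lrfl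
theorem f262164 : Led Lsl_ft (LP (LK LD1_c8 LD2_c41 LD3_c3)) = (LP (LK LD1_c4 LD2_c21 LD3_c43)) :=
  Lre_f IH (LK LD1_c8 LD2_c41 LD3_c3) (LK LD1_c4 LD2_c21 LD3_c43) Lrfl Lrfl
theorem f262165 : Led Lsl_at (LP (LK LD1_c4 LD2_c21 LD3_c43)) = (LP (LK LD1_c7 LD2_c55 LD3_c39)) :=
  Lgr Lrot33 (Lpe (f262164 IH) (Lpr_dt (K15.f28892 IH) (Lpr_ct (K15.f28893 IH) (Lpr_dt (K15.f262151 IH) (Lpr_ct (K15.f228153 IH) (Lpr_dt (K15.f228152 IH) (Lpr_ct (K15.f228108 IH) (Lpr_dt (K13.f228062 IH) (Lpr_ct (K18.f197649 IH) (Lpn (LP (LK LD1_c7 LD2_c55 LD3_c39))))))))))))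
theorem f298885 : Led Lsl_gt (LP (LK LD1_c8 LD2_c41 LD3_c3)) = (LP (LK LD1_c8 LD2_c43 LD3_c21)) :=
  Lgr Lrot5 (Lpr_ft (f262164 IH) (Lpr_at (f262165 IH) (Lpr_gf (K18.f298883 IH) (Lpn (LP (LK LD1_c8 LD2_c43 LD3_c21))))))
theorem f238148 : Led Lsl_bt (LP (LK LD1_c4 LD2_c51 LD3_c22)) = (LP (LK LD1_c2 LD2_c23 LD3_c35)) :=
  Lre_b IH (LK LD1_c4 LD2_c51 LD3_c22) (LK LD1_c2 LD2_c23 LD3_c35) Lrfl Lrfl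
theorem f309051 : Led Lsl_ct (LP (LK LD1_c8 LD2_c33 LD3_c0)) = (LP (LK LD1_c16 LD2_c3 LD3_c0)) :=
  Lre_c IH (LK LD1_c8 LD2_c33 LD3_c0) (LK LD1_c16 LD2_c3 LD3_c0) Lrfl Lrfl
theorem f309052 : Led Lsl_gt (LP (LK LD1_c9 LD2_c34 LD3_c48)) = (LP (LK LD1_c16 LD2_c3 LD3_c0)) :=
  Lgr Lrot65 (Lpe (f238149 IH) (Lpr_bt (f238148 IH) (Lpe (K19.f2456 IH) (Lpe (f238139 IH) (Lpr_ct (K18.f200476 IH) (Lpe (f298885 IH) (Lpe (K15.f28891 IH) (Lpe (K18.f296398 IH) (Lpr_bf (K19.f308920 IH) (Lpr_ct (f309051 IH) (Lpn (LP (LK LD1_c16 LD2_c3 LD3_c0)))))))))))))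
theorem f321374 : Led Lsl_bt (LP (LK LD1_c4 LD2_c19 LD3_c29)) = (LP (LK LD1_c8 LD2_c37 LD3_c10)) :=
  Lre_b IH (LK LD1_c4 LD2_c19 LD3_c29) (LK LD1_c8 LD2_c37 LD3_c10) Lrfl Lrfl
theorem f321377 : Led Lsl_ct (LP (LK LD1_c4 LD2_c19 LD3_c29)) = (LP (LK LD1_c8 LD2_c37 LD3_c13)) :=
  Lre_c IH (LK LD1_c4 LD2_c19 LD3_c29) (LK LD1_c8 LD2_c37 LD3_c13) Lrfl Lrfl
theorem f321378 : Led Lsl_gt (LP (LK LD1_c16 LD2_c8 LD3_c54)) = (LP (LK LD1_c8 LD2_c37 LD3_c13)) :=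
  Lre_g IH (LK LD1_c16 LD2_c8 LD3_c54) (LK LD1_c8 LD2_c37 LD3_c13) Lrfl Lrfl
theorem f321379 : Led Lsl_ct (LP (LK LD1_c8 LD2_c40 LD3_c56)) = (LP (LK LD1_c16 LD2_c8 LD3_c54)) :=
  Lgr Lrot64 (Lpr_bt (K13.f28877 IH) (Lpe (K18.f296398 IH) (Lpr_bf (K19.f308920 IH) (Lpr_ct (f309051 IH) (Lpe (f309052 IH) (Lpe (f238149 IH) (Lpr_gf (f321367 IH) (Lpe (f321374 IH) (Lpr_ct (f321377 IH) (Lpe (f321378 IH) (Lpn (LP (LK LD1_c16 LD2_c8 LD3_c54)))))))))))))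
theorem f271121 : Led Lsl_ct (LP (LK LD1_c8 LD2_c24 LD3_c22)) = (LP (LK LD1_c15 LD2_c48 LD3_c13)) :=
  Lre_c IH (LK LD1_c8 LD2_c24 LD3_c22) (LK LD1_c15 LD2_c48 LD3_c13) Lrfl Lrfl
theorem f322280 : Led Lsl_gf (LP (LK LD1_c16 LD2_c8 LD3_c54)) = (LP (LK LD1_c15 LD2_c48 LD3_c13)) :=
  Lgr Lrot129 (Lpe (f321379 IH) (Lpr_bt (K13.f28877 IH) (Lpe (K18.f296352 IH) (Lpe (f283223 IH) (Lpe (f310042 IH) (Lpr_gt (f310064 IH) (Lpe (f254053 IH) (Lpr_bt (K15.f261140 IH) (Lpr_gt (f322272 IH) (Lpr_ct (f271121 IH) (Lpn (LP (LK LD1_c15 LD2_c48 LD3_c13)))))))))))))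
theorem f168377 : Led Lsl_bt (LP (LK LD1_c2 LD2_c26 LD3_c15)) = (LP (LK LD1_c2 LD2_c41 LD3_c6)) :=
  Lgr Lrot127 (Lpr_bf (K14.f168367 IH) (Lpn (LP (LK LD1_c2 LD2_c41 LD3_c6))))
theorem f168511 : Led Lsl_gt (LP (LK LD1_c2 LD2_c41 LD3_c6)) = (LP (LK LD1_c5 LD2_c29 LD3_c40)) :=
  Lre_g IH (LK LD1_c2 LD2_c41 LD3_c6) (LK LD1_c5 LD2_c29 LD3_c40) Lrfl Lrfl
theorem f322284 : Led Lsl_bf (LP (LK LD1_c5 LD2_c29 LD3_c40)) = (LP (LK LD1_c8 LD2_c24 LD3_c22)) :=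
  Lgr Lrot34 (Lpe (f168511 IH) (Lpe (f168377 IH) (Lpr_ct (K18.f168379 IH) (Lpe (K18.f236897 IH) (Lpr_cf (K18.f236456 IH) (Lpr_gf (K18.f296352 IH) (Lpe (K13.f28877 IH) (Lpr_ct (f321379 IH) (Lpr_gf (f322280 IH) (Lpe (f271121 IH) (Lpn (LP (LK LD1_c8 LD2_c24 LD3_c22)))))))))))))
theorem f286132 : Led Lsl_gt (LP (LK LD1_c5 LD2_c29 LD3_c40)) = (LP (LK LD1_c10 LD2_c50 LD3_c6)) :=
  Lre_g IH (LK LD1_c5 LD2_c29 LD3_c40) (LK LD1_c10 LD2_c50 LD3_c6) Lrfl Lrfl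
theorem f295916 : Led Lsl_bf (LP (LK LD1_c10 LD2_c50 LD3_c6)) = (LP (LK LD1_c15 LD2_c49 LD3_c18)) :=
  Lgr Lrot24 (Lpr_bt (K18.f295914 IH) (Lpn (LP (LK LD1_c15 LD2_c49 LD3_c18))))
theorem f231600 : Led Lsl_bf (LP (LK LD1_c4 LD2_c14 LD3_c58)) = (LP (LK LD1_c4 LD2_c7 LD3_c40)) :=
  Lgr Lrot24 (Lpr_bt (K18.f231598 IH) (Lpn (LP (LK LD1_c4 LD2_c7 LD3_c40))))
theorem f236281 : Led Lsl_bf (LP (LK LD1_c4 LD2_c16 LD3_c1)) = (LP (LK LD1_c4 LD2_c9 LD3_c11)) :=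
  Lgr Lrot93 (Lpr_dt (K14.f236168 IH) (Lpe (f231600 IH) (Lpr_dt (K17.f236268 IH) (Lpn (LP (LK LD1_c4 LD2_c9 LD3_c11))))))
theorem f220672 : Led Lsl_bt (LP (LK LD1_c4 LD2_c15 LD3_c55)) = (LP (LK LD1_c2 LD2_c5 LD3_c23)) :=
  Lre_b IH (LK LD1_c4 LD2_c15 LD3_c55) (LK LD1_c2 LD2_c5 LD3_c23) Lrfl Lrfl
theorem f322291 : Led Lsl_gt (LP (LK LD1_c8 LD2_c30 LD3_c50)) = (LP (LK LD1_c15 LD2_c48 LD3_c13)) :=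
  Lgr Lrot65 (Lpe (K18.f220673 IH) (Lpr_bt (f220672 IH) (Lpe (K14.f1407 IH) (Lpr_bf (f236281 IH) (Lpr_ct (f236284 IH) (Lpr_gf (K18.f295836 IH) (Lpe (K18.f295850 IH) (Lpe (f286132 IH) (Lpr_bf (f322284 IH) (Lpr_ct (f271121 IH) (Lpn (LP (LK LD1_c15 LD2_c48 LD3_c13)))))))))))))
theorem f166558 : Led Lsl_gt (LP (LK LD1_c16 LD2_c4 LD3_c16)) = (LP (LK LD1_c8 LD2_c33 LD3_c45)) :=
  Lre_g IH (LK LD1_c16 LD2_c4 LD3_c16) (LK LD1_c8 LD2_c33 LD3_c45) Lrfl Lrfl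
theorem f322293 : Led Lsl_ct (LP (LK LD1_c15 LD2_c49 LD3_c18)) = (LP (LK LD1_c16 LD2_c4 LD3_c16)) :=
  Lgr Lrot64 (Lpe (f295916 IH) (Lpe (f286132 IH) (Lpr_bf (f322284 IH) (Lpr_ct (f271121 IH) (Lpe (f322291 IH) (Lpe (K18.f220673 IH) (Lpe (K14.f220663 IH) (Lpr_bf (K16.f276720 IH) (Lpr_ct (K19.f166555 IH) (Lpe (f166558 IH) (Lpn (LP (LK LD1_c16 LD2_c4 LD3_c16)))))))))))))
theorem f297765 : Led Lsl_df (LP (LK LD1_c15 LD2_c49 LD3_c18)) = (LP (LK LD1_c17 LD2_c48 LD3_c55)) :=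
  Lgr Lrot18 (Lpe (K18.f297705 IH) (Lpe (K12.f200507 IH) (Lpr_at (K18.f297757 IH) (Lpn (LP (LK LD1_c17 LD2_c48 LD3_c55))))))
theorem f200535 : Led Lsl_dt (LP (LK LD1_c16 LD2_c19 LD3_c59)) = (LP (LK LD1_c8 LD2_c43 LD3_c12)) :=
  Lre_d IH (LK LD1_c16 LD2_c19 LD3_c59) (LK LD1_c8 LD2_c43 LD3_c12) Lrfl Lrfl
theorem f305388 : Led Lsl_ft (LP (LK LD1_c8 LD2_c43 LD3_c12)) = (LP (LK LD1_c15 LD2_c42 LD3_c18)) :=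
  Lgr Lrot54 (Lpe (f200535 IH) (Lpr_ff (K19.f305382 IH) (Lpe (K19.f288880 IH) (Lpn (LP (LK LD1_c15 LD2_c42 LD3_c18))))))
theorem f322306 : Led Lsl_at (LP (LK LD1_c15 LD2_c42 LD3_c18)) = (LP (LK LD1_c16 LD2_c4 LD3_c16)) :=
  Lgr Lrot33 (Lpe (f305388 IH) (Lpr_dt (K18.f200522 IH) (Lpr_ct (K18.f200523 IH) (Lpe (K18.f254374 IH) (Lpr_ct (K18.f254363 IH) (Lpr_dt (K18.f297769 IH) (Lpr_ct (K17.f286985 IH) (Lpe (f297765 IH) (Lpr_ct (f322293 IH) (Lpn (LP (LK LD1_c16 LD2_c4 LD3_c16))))))))))))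
theorem f276752 : Led Lsl_dt (LP (LK LD1_c16 LD2_c4 LD3_c16)) = (LP (LK LD1_c26 LD2_c1 LD3_c32)) :=
  Lre_d IH (LK LD1_c16 LD2_c4 LD3_c16) (LK LD1_c26 LD2_c1 LD3_c32) Lrfl Lrfl
theorem f322308 : Led Lsl_af (LP (LK LD1_c25 LD2_c38 LD3_c0)) = (LP (LK LD1_c26 LD2_c1 LD3_c32)) :=
  Lgr Lrot117 (Lpr_dt (K19.f275306 IH) (Lpr_at (f322306 IH) (Lpr_dt (f276752 IH) (Lpn (LP (LK LD1_c26 LD2_c1 LD3_c32))))))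
theorem f305378 : Led Lsl_dt (LP (LK LD1_c28 LD2_c29 LD3_c45)) = (LP (LK LD1_c31 LD2_c57 LD3_c6)) :=
  Lgr Lrot42 (Lpr_df (K19.f305374 IH) (Lpn (LP (LK LD1_c31 LD2_c57 LD3_c6))))
theorem f228507 : Led Lsl_dt (LP (LK LD1_c28 LD2_c38 LD3_c17)) = (LP (LK LD1_c19 LD2_c12 LD3_c11)) :=
  Lre_d IH (LK LD1_c28 LD2_c38 LD3_c17) (LK LD1_c19 LD2_c12 LD3_c11) Lrfl Lrfl
theorem f305391 : Led Lsl_af (LP (LK LD1_c28 LD2_c38 LD3_c17)) = (LP (LK LD1_c31 LD2_c57 LD3_c6)) :=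
  Lgr Lrot117 (Lpr_dt (f228507 IH) (Lpr_at (K19.f297818 IH) (Lpr_dt (f305378 IH) (Lpn (LP (LK LD1_c31 LD2_c57 LD3_c6))))))
theorem f322313 : Led Lsl_ct (LP (LK LD1_c28 LD2_c38 LD3_c17)) = (LP (LK LD1_c26 LD2_c1 LD3_c32)) :=
  Lgr Lrot111 (Lpr_af (f305391 IH) (Lpe (K19.f305365 IH) (Lpr_af (f322308 IH) (Lpn (LP (LK LD1_c26 LD2_c1 LD3_c32))))))
theorem f228508 : Led Lsl_dt (LP (LK LD1_c19 LD2_c12 LD3_c11)) = (LP (LK LD1_c28 LD2_c38 LD3_c17)) :=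
  Lre_d IH (LK LD1_c19 LD2_c12 LD3_c11) (LK LD1_c28 LD2_c38 LD3_c17) Lrfl Lrfl
theorem f276751 : Led Lsl_dt (LP (LK LD1_c26 LD2_c1 LD3_c32)) = (LP (LK LD1_c16 LD2_c4 LD3_c16)) :=
  Lre_d IH (LK LD1_c26 LD2_c1 LD3_c32) (LK LD1_c16 LD2_c4 LD3_c16) Lrfl Lrfl
theorem f322300 : Led Lsl_cf (LP (LK LD1_c15 LD2_c49 LD3_c18)) = (LP (LK LD1_c16 LD2_c4 LD3_c16)) :=
  Lgr Lrot11 (Lpr_ct (f322293 IH) (Lpn (LP (LK LD1_c16 LD2_c4 LD3_c16))))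
theorem f286976 : Led Lsl_bt (LP (LK LD1_c28 LD2_c29 LD3_c44)) = (LP (LK LD1_c19 LD2_c3 LD3_c32)) :=
  Lre_b IH (LK LD1_c28 LD2_c29 LD3_c44) (LK LD1_c19 LD2_c3 LD3_c32) Lrfl Lrfl
theorem f245178 : Led Lsl_bt (LP (LK LD1_c10 LD2_c46 LD3_c53)) = (LP (LK LD1_c19 LD2_c29 LD3_c61)) :=
  Lre_b IH (LK LD1_c10 LD2_c46 LD3_c53) (LK LD1_c19 LD2_c29 LD3_c61) Lrfl Lrfl
theorem f286987 : Led Lsl_bf (LP (LK LD1_c15 LD2_c51 LD3_c22)) = (LP (LK LD1_c17 LD2_c48 LD3_c55)) :=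
  Lgr Lrot90 (Lpe (K17.f245168 IH) (Lpr_bt (f245178 IH) (Lpe (K17.f286969 IH) (Lpr_bt (f286976 IH) (Lpr_ct (K17.f286985 IH) (Lpn (LP (LK LD1_c17 LD2_c48 LD3_c55))))))))
theorem f295918 : Led Lsl_df (LP (LK LD1_c17 LD2_c48 LD3_c55)) = (LP (LK LD1_c15 LD2_c49 LD3_c18)) :=
  Lgr Lrot12 (Lpe (f286987 IH) (Lpe (K17.f286128 IH) (Lpr_bt (K18.f295914 IH) (Lpn (LP (LK LD1_c15 LD2_c49 LD3_c18))))))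
theorem f322349 : Led Lsl_at (LP (LK LD1_c10 LD2_c36 LD3_c12)) = (LP (LK LD1_c19 LD2_c3 LD3_c32)) :=
  Lgr Lrot33 (Lpe (K18.f228548 IH) (Lpr_dt (K18.f228438 IH) (Lpr_ct (K19.f228505 IH) (Lpr_dt (f228508 IH) (Lpr_ct (f322313 IH) (Lpr_dt (f276751 IH) (Lpe (f322300 IH) (Lpe (f295918 IH) (Lpe (K17.f286989 IH) (Lpn (LP (LK LD1_c19 LD2_c3 LD3_c32))))))))))))
theorem f305397 : Led Lsl_gf (LP (LK LD1_c4 LD2_c10 LD3_c51)) = (LP (LK LD1_c8 LD2_c20 LD3_c39)) :=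
  Lgr Lrot47 (Lpr_gt (K16.f276741 IH) (Lpr_af (K19.f305354 IH) (Lpe (K16.f236955 IH) (Lpn (LP (LK LD1_c8 LD2_c20 LD3_c39))))))
theorem f267639 : Led Lsl_at (LP (LK LD1_c2 LD2_c2 LD3_c39)) = (LP (LK LD1_c4 LD2_c10 LD3_c40)) :=
  Lre_a IH (LK LD1_c2 LD2_c2 LD3_c39) (LK LD1_c4 LD2_c10 LD3_c40) Lrfl Lrfl
theorem f276745 : Led Lsl_ft (LP (LK LD1_c4 LD2_c10 LD3_c51)) = (LP (LK LD1_c2 LD2_c2 LD3_c39)) :=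
  Lre_f IH (LK LD1_c4 LD2_c10 LD3_c51) (LK LD1_c2 LD2_c2 LD3_c39) Lrfl Lrfl
theorem f288910 : Led Lsl_at (LP (LK LD1_c8 LD2_c20 LD3_c38)) = (LP (LK LD1_c4 LD2_c10 LD3_c51)) :=
  Lgr Lrot66 (Lpr_ff (K17.f288907 IH) (Lpe (f267639 IH) (Lpe (f276745 IH) (Lpn (LP (LK LD1_c4 LD2_c10 LD3_c51))))))
theorem f305399 : Led Lsl_gt (LP (LK LD1_c4 LD2_c10 LD3_c40)) = (LP (LK LD1_c8 LD2_c20 LD3_c39)) :=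
  Lgr Lrot5 (Lpe (K17.f288907 IH) (Lpr_at (f288910 IH) (Lpr_gf (f305397 IH) (Lpn (LP (LK LD1_c8 LD2_c20 LD3_c39))))))
theorem f258315 : Led Lsl_gt (LP (LK LD1_c5 LD2_c22 LD3_c49)) = (LP (LK LD1_c2 LD2_c37 LD3_c57)) :=
  Lre_g IH (LK LD1_c5 LD2_c22 LD3_c49) (LK LD1_c2 LD2_c37 LD3_c57) Lrfl Lrfl
theorem f305405 : Led Lsl_ct (LP (LK LD1_c5 LD2_c22 LD3_c49)) = (LP (LK LD1_c10 LD2_c35 LD3_c57)) :=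
  Lre_c IH (LK LD1_c5 LD2_c22 LD3_c49) (LK LD1_c10 LD2_c35 LD3_c57) Lrfl Lrfl
theorem f254344 : Led Lsl_df (LP (LK LD1_c19 LD2_c2 LD3_c45)) = (LP (LK LD1_c19 LD2_c12 LD3_c10)) :=
  Lgr Lrot38 (Lpr_dt (K18.f254336 IH) (Lpn (LP (LK LD1_c19 LD2_c12 LD3_c10))))
theorem f305406 : Led Lsl_gt (LP (LK LD1_c10 LD2_c35 LD3_c57)) = (LP (LK LD1_c5 LD2_c22 LD3_c56)) :=
  Lgr Lrot94 (Lpe (f305405 IH) (Lpr_gt (f258315 IH) (Lpe (K16.f256814 IH) (Lpr_gt (f305399 IH) (Lpe (K16.f275321 IH) (Lpe (K14.f231435 IH) (Lpr_df (f254344 IH) (Lpe (K18.f228497 IH) (Lpe (K18.f228438 IH) (Lpn (LP (LK LD1_c5 LD2_c22 LD3_c56))))))))))))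
theorem f297811 : Led Lsl_af (LP (LK LD1_c5 LD2_c22 LD3_c56)) = (LP (LK LD1_c10 LD2_c30 LD3_c58)) :=
  Lgr Lrot0 (Lpr_at (K18.f297806 IH) (Lpn (LP (LK LD1_c10 LD2_c30 LD3_c58))))
theorem f305409 : Led Lsl_gf (LP (LK LD1_c10 LD2_c35 LD3_c57)) = (LP (LK LD1_c19 LD2_c3 LD3_c32)) :=
  Lgr Lrot47 (Lpr_gt (f305406 IH) (Lpr_af (f297811 IH) (Lpe (K18.f277832 IH) (Lpn (LP (LK LD1_c19 LD2_c3 LD3_c32))))))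
theorem f305408 : Led Lsl_ct (LP (LK LD1_c10 LD2_c35 LD3_c57)) = (LP (LK LD1_c5 LD2_c22 LD3_c49)) :=
  Lre_c IH (LK LD1_c10 LD2_c35 LD3_c57) (LK LD1_c5 LD2_c22 LD3_c49) Lrfl Lrfl
theorem f305417 : Led Lsl_gf (LP (LK LD1_c19 LD2_c11 LD3_c33)) = (LP (LK LD1_c19 LD2_c8 LD3_c17)) :=
  Lgr Lrot104 (Lpr_ct (K18.f224367 IH) (Lpe (K16.f224351 IH) (Lpe (K16.f224361 IH) (Lpe (f258315 IH) (Lpe (f305408 IH) (Lpr_gf (f305409 IH) (Lpe (K18.f297769 IH) (Lpr_gt (K18.f215819 IH) (Lpr_ct (K16.f228500 IH) (Lpn (LP (LK LD1_c19 LD2_c8 LD3_c17))))))))))))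
theorem f224365 : Led Lsl_gt (LP (LK LD1_c19 LD2_c11 LD3_c33)) = (LP (LK LD1_c28 LD2_c37 LD3_c28)) :=
  Lre_g IH (LK LD1_c19 LD2_c11 LD3_c33) (LK LD1_c28 LD2_c37 LD3_c28) Lrfl Lrfl
theorem f305419 : Led Lsl_af (LP (LK LD1_c28 LD2_c37 LD3_c28)) = (LP (LK LD1_c28 LD2_c34 LD3_c1)) :=
  Lgr Lrot31 (Lpe (f224365 IH) (Lpr_gf (f305417 IH) (Lpr_ft (K16.f254392 IH) (Lpn (LP (LK LD1_c28 LD2_c34 LD3_c1))))))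
theorem f254388 : Led Lsl_at (LP (LK LD1_c28 LD2_c28 LD3_c60)) = (LP (LK LD1_c19 LD2_c8 LD3_c17)) :=
  Lgr Lrot100 (Lpr_af (K18.f254385 IH) (Lpn (LP (LK LD1_c19 LD2_c8 LD3_c17))))
theorem f305426 : Led Lsl_ft (LP (LK LD1_c28 LD2_c37 LD3_c28)) = (LP (LK LD1_c28 LD2_c28 LD3_c60)) :=
  Lgr Lrot101 (Lpr_af (f305419 IH) (Lpe (K16.f254392 IH) (Lpe (f254388 IH) (Lpn (LP (LK LD1_c28 LD2_c28 LD3_c60))))))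
theorem f228506 : Led Lsl_gt (LP (LK LD1_c28 LD2_c33 LD3_c60)) = (LP (LK LD1_c19 LD2_c8 LD3_c17)) :=
  Lre_g IH (LK LD1_c28 LD2_c33 LD3_c60) (LK LD1_c19 LD2_c8 LD3_c17) Lrfl Lrfl
theorem f305432 : Led Lsl_gt (LP (LK LD1_c28 LD2_c37 LD3_c28)) = (LP (LK LD1_c28 LD2_c33 LD3_c60)) :=
  Lgr Lrot5 (Lpr_ft (f305426 IH) (Lpr_at (f254388 IH) (Lpe (f228506 IH) (Lpn (LP (LK LD1_c28 LD2_c33 LD3_c60))))))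
theorem f288997 : Led Lsl_ff (LP (LK LD1_c25 LD2_c40 LD3_c18)) = (LP (LK LD1_c19 LD2_c11 LD3_c33)) :=
  Lgr Lrot3 (Lpr_ft (K18.f288992 IH) (Lpn (LP (LK LD1_c19 LD2_c11 LD3_c33))))
theorem f305434 : Led Lsl_at (LP (LK LD1_c25 LD2_c40 LD3_c18)) = (LP (LK LD1_c28 LD2_c33 LD3_c60)) :=
  Lgr Lrot26 (Lpr_ff (f288997 IH) (Lpr_gt (f224365 IH) (Lpr_gt (f305432 IH) (Lpn (LP (LK LD1_c28 LD2_c33 LD3_c60))))))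
theorem f276835 : Led Lsl_at (LP (LK LD1_c19 LD2_c9 LD3_c5)) = (LP (LK LD1_c19 LD2_c11 LD3_c34)) :=
  Lgr Lrot100 (Lpr_af (K16.f276833 IH) (Lpn (LP (LK LD1_c19 LD2_c11 LD3_c34))))
theorem f305438 : Led Lsl_cf (LP (LK LD1_c19 LD2_c9 LD3_c5)) = (LP (LK LD1_c28 LD2_c33 LD3_c60)) :=
  Lgr Lrot1 (Lpr_at (f276835 IH) (Lpe (K17.f288987 IH) (Lpr_at (f305434 IH) (Lpn (LP (LK LD1_c28 LD2_c33 LD3_c60))))))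
theorem f276767 : Led Lsl_ct (LP (LK LD1_c10 LD2_c35 LD3_c56)) = (LP (LK LD1_c5 LD2_c22 LD3_c48)) :=
  Lre_c IH (LK LD1_c10 LD2_c35 LD3_c56) (LK LD1_c5 LD2_c22 LD3_c48) Lrfl Lrfl
theorem f305428 : Led Lsl_cf (LP (LK LD1_c28 LD2_c37 LD3_c28)) = (LP (LK LD1_c19 LD2_c12 LD3_c10)) :=
  Lgr Lrot102 (Lpr_af (f305419 IH) (Lpe (K16.f254392 IH) (Lpr_dt (K16.f254340 IH) (Lpr_ct (K16.f275309 IH) (Lpr_dt (K16.f275319 IH) (Lpr_ct (K16.f275320 IH) (Lpe (K16.f275321 IH) (Lpr_ct (K15.f231436 IH) (Lpr_dt (K18.f254336 IH) (Lpn (LP (LK LD1_c19 LD2_c12 LD3_c10))))))))))))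
theorem f305457 : Led Lsl_gf (LP (LK LD1_c10 LD2_c35 LD3_c56)) = (LP (LK LD1_c5 LD2_c22 LD3_c56)) :=
  Lgr Lrot147 (Lpr_ct (f276767 IH) (Lpe (K16.f276781 IH) (Lpr_ct (K16.f267671 IH) (Lpr_df (K16.f276810 IH) (Lpr_cf (f305438 IH) (Lpe (f305432 IH) (Lpr_cf (f305428 IH) (Lpe (K18.f228497 IH) (Lpe (K18.f228438 IH) (Lpn (LP (LK LD1_c5 LD2_c22 LD3_c56))))))))))))
theorem f322351 : Led Lsl_gt (LP (LK LD1_c10 LD2_c35 LD3_c56)) = (LP (LK LD1_c19 LD2_c3 LD3_c32)) :=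
  Lgr Lrot46 (Lpr_gf (f305457 IH) (Lpr_ft (K18.f228548 IH) (Lpr_at (f322349 IH) (Lpn (LP (LK LD1_c19 LD2_c3 LD3_c32))))))
theorem f276757 : Led Lsl_ct (LP (LK LD1_c5 LD2_c22 LD3_c48)) = (LP (LK LD1_c10 LD2_c35 LD3_c56)) :=
  Lre_c IH (LK LD1_c5 LD2_c22 LD3_c48) (LK LD1_c10 LD2_c35 LD3_c56) Lrfl Lrfl
theorem f322353 : Led Lsl_gt (LP (LK LD1_c15 LD2_c42 LD3_c20)) = (LP (LK LD1_c16 LD2_c4 LD3_c16)) :=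
  Lgr Lrot150 (Lpe (K19.f275317 IH) (Lpe (f305399 IH) (Lpr_df (K16.f256814 IH) (Lpr_gt (K16.f276748 IH) (Lpr_ct (f276757 IH) (Lpr_gt (f322351 IH) (Lpr_ct (K17.f286985 IH) (Lpr_df (f295918 IH) (Lpr_cf (f322300 IH) (Lpn (LP (LK LD1_c16 LD2_c4 LD3_c16))))))))))))
theorem f267637 : Led Lsl_ct (LP (LK LD1_c4 LD2_c17 LD3_c15)) = (LP (LK LD1_c8 LD2_c33 LD3_c40)) :=
  Lre_c IH (LK LD1_c4 LD2_c17 LD3_c15) (LK LD1_c8 LD2_c33 LD3_c40) Lrfl Lrfl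
theorem f170894 : Led Lsl_dt (LP (LK LD1_c4 LD2_c10 LD3_c44)) = (LP (LK LD1_c8 LD2_c21 LD3_c19)) :=
  Lre_d IH (LK LD1_c4 LD2_c10 LD3_c44) (LK LD1_c8 LD2_c21 LD3_c19) Lrfl Lrfl
theorem f252045 : Led Lsl_et (LP (LK LD1_c4 LD2_c10 LD3_c44)) = (LP (LK LD1_c8 LD2_c21 LD3_c20)) :=
  Lre_e IH (LK LD1_c4 LD2_c10 LD3_c44) (LK LD1_c8 LD2_c21 LD3_c20) Lrfl Lrfl
theorem f290575 : Led Lsl_et (LP (LK LD1_c4 LD2_c17 LD3_c14)) = (LP (LK LD1_c8 LD2_c33 LD3_c40)) :=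
  Lre_e IH (LK LD1_c4 LD2_c17 LD3_c14) (LK LD1_c8 LD2_c33 LD3_c40) Lrfl Lrfl
theorem f316173 : Led Lsl_gt (LP (LK LD1_c8 LD2_c21 LD3_c20)) = (LP (LK LD1_c8 LD2_c33 LD3_c40)) :=
  Lgr Lrot131 (Lpe (f252045 IH) (Lpr_dt (f170894 IH) (Lpe (K19.f270903 IH) (Lpe (K19.f7986 IH) (Lpe (K16.f7962 IH) (Lpr_ef (f316164 IH) (Lpr_dt (K17.f275445 IH) (Lpr_gf (K17.f290567 IH) (Lpe (K16.f231138 IH) (Lpr_et (f290575 IH) (Lpn (LP (LK LD1_c8 LD2_c33 LD3_c40)))))))))))))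
theorem f200555 : Led Lsl_et (LP (LK LD1_c8 LD2_c43 LD3_c9)) = (LP (LK LD1_c4 LD2_c22 LD3_c39)) :=
  Lre_e IH (LK LD1_c8 LD2_c43 LD3_c9) (LK LD1_c4 LD2_c22 LD3_c39) Lrfl Lrfl
theorem f252046 : Led Lsl_ct (LP (LK LD1_c8 LD2_c21 LD3_c20)) = (LP (LK LD1_c8 LD2_c43 LD3_c9)) :=
  Lgr Lrot15 (Lpe (f252045 IH) (Lpr_cf (K14.f252035 IH) (Lpe (f200555 IH) (Lpn (LP (LK LD1_c8 LD2_c43 LD3_c9))))))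
theorem f252050 : Led Lsl_cf (LP (LK LD1_c8 LD2_c21 LD3_c20)) = (LP (LK LD1_c8 LD2_c43 LD3_c9)) :=
  Lgr Lrot11 (Lpr_ct (f252046 IH) (Lpn (LP (LK LD1_c8 LD2_c43 LD3_c9))))
theorem f322357 : Led Lsl_bt (LP (LK LD1_c8 LD2_c43 LD3_c9)) = (LP (LK LD1_c5 LD2_c29 LD3_c41)) :=
  Lgr Lrot92 (Lpe (f252050 IH) (Lpr_gt (f316173 IH) (Lpe (f267637 IH) (Lpr_bt (K15.f267629 IH) (Lpr_gt (f305399 IH) (Lpr_ct (K19.f275317 IH) (Lpr_gt (f322353 IH) (Lpe (f322293 IH) (Lpe (f295916 IH) (Lpr_gt (K17.f263719 IH) (Lpn (LP (LK LD1_c5 LD2_c29 LD3_c41)))))))))))))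
theorem f299269 : Led Lsl_bf (LP (LK LD1_c4 LD2_c21 LD3_c45)) = (LP (LK LD1_c4 LD2_c16 LD3_c50)) :=
  Lgr Lrot96 (Lpr_et (K18.f299264 IH) (Lpr_bt (K14.f178390 IH) (Lpr_et (K19.f290174 IH) (Lpn (LP (LK LD1_c4 LD2_c16 LD3_c50))))))
theorem f308909 : Led Lsl_ft (LP (LK LD1_c8 LD2_c33 LD3_c0)) = (LP (LK LD1_c4 LD2_c16 LD3_c50)) :=
  Lre_f IH (LK LD1_c8 LD2_c33 LD3_c0) (LK LD1_c4 LD2_c16 LD3_c50) Lrfl Lrfl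
theorem f308910 : Led Lsl_bt (LP (LK LD1_c7 LD2_c55 LD3_c40)) = (LP (LK LD1_c8 LD2_c33 LD3_c0)) :=
  Lgr Lrot35 (Lpr_ff (K19.f308907 IH) (Lpr_bf (f299269 IH) (Lpe (f308909 IH) (Lpn (LP (LK LD1_c8 LD2_c33 LD3_c0))))))
theorem f315932 : Led Lsl_at (LP (LK LD1_c4 LD2_c16 LD3_c50)) = (LP (LK LD1_c4 LD2_c10 LD3_c43)) :=
  Lgr Lrot66 (Lpe (f308909 IH) (Lpe (f315913 IH) (Lpr_ff (f315930 IH) (Lpn (LP (LK LD1_c4 LD2_c10 LD3_c43))))))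
theorem f315956 : Led Lsl_gf (LP (LK LD1_c4 LD2_c17 LD3_c28)) = (LP (LK LD1_c8 LD2_c33 LD3_c0)) :=
  Lgr Lrot47 (Lpr_gt (f315941 IH) (Lpe (f315932 IH) (Lpe (f308909 IH) (Lpn (LP (LK LD1_c8 LD2_c33 LD3_c0))))))
theorem f7853 : Led Lsl_ct (LP (LK LD1_c4 LD2_c17 LD3_c28)) = (LP (LK LD1_c8 LD2_c34 LD3_c4)) :=
  Lre_c IH (LK LD1_c4 LD2_c17 LD3_c28) (LK LD1_c8 LD2_c34 LD3_c4) Lrfl Lrfl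
theorem f322365 : Led Lsl_gf (LP (LK LD1_c8 LD2_c21 LD3_c20)) = (LP (LK LD1_c8 LD2_c34 LD3_c4)) :=
  Lgr Lrot129 (Lpr_cf (f252050 IH) (Lpr_bt (f322357 IH) (Lpr_gt (K17.f168513 IH) (Lpe (f168377 IH) (Lpr_ct (K18.f168379 IH) (Lpr_gt (K18.f168447 IH) (Lpe (K18.f299001 IH) (Lpr_bt (f308910 IH) (Lpe (f315956 IH) (Lpr_ct (f7853 IH) (Lpn (LP (LK LD1_c8 LD2_c34 LD3_c4)))))))))))))
theorem f322367 : Led Lsl_gf (LP (LK LD1_c2 LD2_c6 LD3_c9)) = (LP (LK LD1_c2 LD2_c2 LD3_c44)) :=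
  Lgr Lrot124 (Lpe (K12.f7768 IH) (Lpr_ct (f7853 IH) (Lpe (f322365 IH) (Lpr_cf (f252050 IH) (Lpr_bt (f322357 IH) (Lpr_gt (K17.f168513 IH) (Lpr_ct (K18.f168393 IH) (Lpe (f298808 IH) (Lpe (K18.f292391 IH) (Lpe (K18.f294984 IH) (Lpn (LP (LK LD1_c2 LD2_c2 LD3_c44)))))))))))))
theorem f245984 : Led Lsl_dt (LP (LK LD1_c2 LD2_c39 LD3_c45)) = (LP (LK LD1_c2 LD2_c2 LD3_c44)) :=
  Lgr Lrot42 (Lpr_df (K13.f245928 IH) (Lpn (LP (LK LD1_c2 LD2_c2 LD3_c44))))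
theorem f179052 : Led Lsl_et (LP (LK LD1_c5 LD2_c26 LD3_c53)) = (LP (LK LD1_c2 LD2_c39 LD3_c50)) :=
  Lre_e IH (LK LD1_c5 LD2_c26 LD3_c53) (LK LD1_c2 LD2_c39 LD3_c50) Lrfl Lrfl
theorem f169475 : Led Lsl_gt (LP (LK LD1_c5 LD2_c5 LD3_c35)) = (LP (LK LD1_c2 LD2_c30 LD3_c1)) :=
  Lre_g IH (LK LD1_c5 LD2_c5 LD3_c35) (LK LD1_c2 LD2_c30 LD3_c1) Lrfl Lrfl
theorem f179053 : Led Lsl_dt (LP (LK LD1_c5 LD2_c26 LD3_c53)) = (LP (LK LD1_c5 LD2_c5 LD3_c35)) :=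
  Lgr Lrot136 (Lpr_et (f179052 IH) (Lpe (K19.f179051 IH) (Lpe (K19.f8426 IH) (Lpe (K10.f8423 IH) (Lpe (K0.f7738 IH) (Lpe (K9.f7942 IH) (Lpr_gf (K9.f179033 IH) (Lpe (K9.f169453 IH) (Lpr_dt (K10.f169467 IH) (Lpe (f169475 IH) (Lpn (LP (LK LD1_c5 LD2_c5 LD3_c35)))))))))))))
theorem f264313 : Led Lsl_gt (LP (LK LD1_c5 LD2_c12 LD3_c13)) = (LP (LK LD1_c5 LD2_c5 LD3_c35)) :=
  Lgr Lrot5 (Lpr_ft (K12.f185634 IH) (Lpr_at (K15.f264301 IH) (Lpe (f169475 IH) (Lpn (LP (LK LD1_c5 LD2_c5 LD3_c35))))))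
theorem f169476 : Led Lsl_gt (LP (LK LD1_c1 LD2_c25 LD3_c16)) = (LP (LK LD1_c2 LD2_c59 LD3_c5)) :=
  Lre_g IH (LK LD1_c1 LD2_c25 LD3_c16) (LK LD1_c2 LD2_c59 LD3_c5) Lrfl Lrfl
theorem f264358 : Led Lsl_gf (LP (LK LD1_c2 LD2_c39 LD3_c37)) = (LP (LK LD1_c2 LD2_c59 LD3_c5)) :=
  Lgr Lrot76 (Lpr_af (K15.f264352 IH) (Lpe (K9.f169469 IH) (Lpr_gt (f169476 IH) (Lpn (LP (LK LD1_c2 LD2_c59 LD3_c5))))))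
theorem f322369 : Led Lsl_et (LP (LK LD1_c2 LD2_c40 LD3_c37)) = (LP (LK LD1_c2 LD2_c59 LD3_c5)) :=
  Lgr Lrot121 (Lpe (K12.f7775 IH) (Lpr_gf (f322367 IH) (Lpe (f245984 IH) (Lpr_et (K19.f309513 IH) (Lpe (K19.f309699 IH) (Lpe (f179052 IH) (Lpr_dt (f179053 IH) (Lpe (f264313 IH) (Lpr_df (K12.f185636 IH) (Lpr_gf (f264358 IH) (Lpn (LP (LK LD1_c2 LD2_c59 LD3_c5)))))))))))))
theorem f322383 : Led Lsl_gt (LP (LK LD1_c2 LD2_c6 LD3_c9)) = (LP (LK LD1_c2 LD2_c2 LD3_c26)) :=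
  Lgr Lrot112 (Lpr_df (K12.f7775 IH) (Lpr_et (f322369 IH) (Lpe (f169476 IH) (Lpe (K15.f165047 IH) (Lpr_dt (K9.f165046 IH) (Lpe (K9.f179036 IH) (Lpe (K0.f7645 IH) (Lpe (K10.f183464 IH) (Lpe (K13.f8577 IH) (Lpr_dt (K13.f179774 IH) (Lpn (LP (LK LD1_c2 LD2_c2 LD3_c26)))))))))))))
theorem f7777 : Led Lsl_ft (LP (LK LD1_c2 LD2_c6 LD3_c9)) = (LP (LK LD1_c1 LD2_c0 LD3_c3)) :=
  Lre_f IH (LK LD1_c2 LD2_c6 LD3_c9) (LK LD1_c1 LD2_c0 LD3_c3) Lrfl Lrfl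
theorem f231059 : Led Lsl_ef (LP (LK LD1_c2 LD2_c6 LD3_c9)) = (LP (LK LD1_c2 LD2_c2 LD3_c32)) :=
  Lgr Lrot21 (Lpr_ft (f7777 IH) (Lpr_et (K12.f7726 IH) (Lpr_ft (K12.f231051 IH) (Lpr_et (K12.f520 IH) (Lpr_ft (K9.f178548 IH) (Lpn (LP (LK LD1_c2 LD2_c2 LD3_c32))))))))
theorem f165946 : Led Lsl_gt (LP (LK LD1_c1 LD2_c14 LD3_c30)) = (LP (LK LD1_c2 LD2_c35 LD3_c0)) :=
  Lre_g IH (LK LD1_c1 LD2_c14 LD3_c30) (LK LD1_c2 LD2_c35 LD3_c0) Lrfl Lrfl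
theorem f307923 : Led Lsl_gf (LP (LK LD1_c2 LD2_c35 LD3_c59)) = (LP (LK LD1_c2 LD2_c35 LD3_c0)) :=
  Lgr Lrot76 (Lpr_af (K19.f307917 IH) (Lpe (K15.f165942 IH) (Lpr_gt (f165946 IH) (Lpn (LP (LK LD1_c2 LD2_c35 LD3_c0))))))
theorem f167430 : Led Lsl_gt (LP (LK LD1_c1 LD2_c0 LD3_c11)) = (LP (LK LD1_c2 LD2_c6 LD3_c23)) :=
  Lre_g IH (LK LD1_c1 LD2_c0 LD3_c11) (LK LD1_c2 LD2_c6 LD3_c23) Lrfl Lrfl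
theorem f322387 : Led Lsl_df (LP (LK LD1_c2 LD2_c35 LD3_c0)) = (LP (LK LD1_c2 LD2_c6 LD3_c23)) :=
  Lgr Lrot135 (Lpe (f307923 IH) (Lpe (K9.f178550 IH) (Lpe (f231059 IH) (Lpr_gt (f322383 IH) (Lpe (K13.f179030 IH) (Lpe (K13.f179028 IH) (Lpe (K9.f170281 IH) (Lpe (K9.f167309 IH) (Lpr_et (K18.f167429 IH) (Lpr_gt (f167430 IH) (Lpn (LP (LK LD1_c2 LD2_c6 LD3_c23)))))))))))))
theorem f169342 : Led Lsl_dt (LP (LK LD1_c0 LD2_c59 LD3_c57)) = (LP (LK LD1_c1 LD2_c14 LD3_c30)) :=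
  Lgr Lrot42 (Lpr_df (K10.f167622 IH) (Lpn (LP (LK LD1_c1 LD2_c14 LD3_c30))))
theorem f245901 : Led Lsl_gt (LP (LK LD1_c2 LD2_c39 LD3_c44)) = (LP (LK LD1_c1 LD2_c16 LD3_c37)) :=
  Lre_g IH (LK LD1_c2 LD2_c39 LD3_c44) (LK LD1_c1 LD2_c16 LD3_c37) Lrfl Lrfl
theorem f322393 : Led Lsl_et (LP (LK LD1_c2 LD2_c6 LD3_c23)) = (LP (LK LD1_c4 LD2_c18 LD3_c13)) :=
  Lre_e IH (LK LD1_c2 LD2_c6 LD3_c23) (LK LD1_c4 LD2_c18 LD3_c13) Lrfl Lrfl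
theorem f53390 : Led Lsl_gt (LP (LK LD1_c2 LD2_c5 LD3_c56)) = (LP (LK LD1_c0 LD2_c59 LD3_c57)) :=
  Lre_g IH (LK LD1_c2 LD2_c5 LD3_c56) (LK LD1_c0 LD2_c59 LD3_c57) Lrfl Lrfl
theorem f53391 : Led Lsl_et (LP (LK LD1_c4 LD2_c17 LD3_c11)) = (LP (LK LD1_c2 LD2_c5 LD3_c56)) :=
  Lre_e IH (LK LD1_c4 LD2_c17 LD3_c11) (LK LD1_c2 LD2_c5 LD3_c56) Lrfl Lrfl
theorem f185587 : Led Lsl_et (LP (LK LD1_c0 LD2_c33 LD3_c61)) = (LP (LK LD1_c1 LD2_c13 LD3_c25)) :=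
  Lre_e IH (LK LD1_c0 LD2_c33 LD3_c61) (LK LD1_c1 LD2_c13 LD3_c25) Lrfl Lrfl
theorem f185588 : Led Lsl_gt (LP (LK LD1_c1 LD2_c13 LD3_c25)) = (LP (LK LD1_c2 LD2_c32 LD3_c60)) :=
  Lre_g IH (LK LD1_c1 LD2_c13 LD3_c25) (LK LD1_c2 LD2_c32 LD3_c60) Lrfl Lrfl
theorem f32915 : Led Lsl_et (LP (LK LD1_c1 LD2_c14 LD3_c60)) = (LP (LK LD1_c0 LD2_c34 LD3_c47)) :=
  Lre_e IH (LK LD1_c1 LD2_c14 LD3_c60) (LK LD1_c0 LD2_c34 LD3_c47) Lrfl Lrfl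
theorem f53448 : Led Lsl_gt (LP (LK LD1_c2 LD2_c2 LD3_c31)) = (LP (LK LD1_c0 LD2_c58 LD3_c8)) :=
  Lre_g IH (LK LD1_c2 LD2_c2 LD3_c31) (LK LD1_c0 LD2_c58 LD3_c8) Lrfl Lrfl
theorem f48328 : Led Lsl_et (LP (LK LD1_c0 LD2_c15 LD3_c29)) = (LP (LK LD1_c0 LD2_c15 LD3_c35)) :=
  Lgr Lrot74 (Lpe (K9.f32845 IH) (Lpr_ef (K10.f48324 IH) (Lpe (K9.f32844 IH) (Lpn (LP (LK LD1_c0 LD2_c15 LD3_c35))))))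
theorem f167451 : Led Lsl_gt (LP (LK LD1_c1 LD2_c12 LD3_c3)) = (LP (LK LD1_c2 LD2_c30 LD3_c6)) :=
  Lre_g IH (LK LD1_c1 LD2_c12 LD3_c3) (LK LD1_c2 LD2_c30 LD3_c6) Lrfl Lrfl
theorem f178560 : Led Lsl_df (LP (LK LD1_c2 LD2_c2 LD3_c31)) = (LP (LK LD1_c2 LD2_c30 LD3_c6)) :=
  Lgr Lrot135 (Lpr_gt (f53448 IH) (Lpr_df (K9.f178538 IH) (Lpr_et (f32915 IH) (Lpr_gt (K9.f32065 IH) (Lpe (f48328 IH) (Lpr_dt (K9.f31447 IH) (Lpr_gt (K9.f167611 IH) (Lpe (K9.f164691 IH) (Lpr_et (K18.f165192 IH) (Lpr_gt (f167451 IH) (Lpn (LP (LK LD1_c2 LD2_c30 LD3_c6)))))))))))))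
theorem f185591 : Led Lsl_ef (LP (LK LD1_c2 LD2_c32 LD3_c60)) = (LP (LK LD1_c2 LD2_c30 LD3_c6)) :=
  Lgr Lrot17 (Lpe (f185588 IH) (Lpe (f185587 IH) (Lpr_dt (K10.f184990 IH) (Lpr_gf (K10.f185574 IH) (Lpe (K8.f31617 IH) (Lpe (K9.f32065 IH) (Lpe (f32915 IH) (Lpe (K9.f178538 IH) (Lpe (f53448 IH) (Lpr_df (f178560 IH) (Lpn (LP (LK LD1_c2 LD2_c30 LD3_c6)))))))))))))
theorem f185589 : Led Lsl_dt (LP (LK LD1_c2 LD2_c32 LD3_c60)) = (LP (LK LD1_c2 LD2_c5 LD3_c56)) :=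
  Lgr Lrot171 (Lpe (f185588 IH) (Lpe (f185587 IH) (Lpr_dt (K10.f184990 IH) (Lpr_gf (K10.f185574 IH) (Lpe (K8.f31617 IH) (Lpe (K10.f48634 IH) (Lpe (K9.f31448 IH) (Lpe (K15.f32859 IH) (Lpe (K10.f167622 IH) (Lpe (f53390 IH) (Lpn (LP (LK LD1_c2 LD2_c5 LD3_c56)))))))))))))
theorem f185596 : Led Lsl_et (LP (LK LD1_c2 LD2_c5 LD3_c56)) = (LP (LK LD1_c4 LD2_c17 LD3_c11)) :=
  Lre_e IH (LK LD1_c2 LD2_c5 LD3_c56) (LK LD1_c4 LD2_c17 LD3_c11) Lrfl Lrfl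
theorem f178564 : Led Lsl_dt (LP (LK LD1_c2 LD2_c2 LD3_c31)) = (LP (LK LD1_c2 LD2_c30 LD3_c6)) :=
  Lgr Lrot42 (Lpr_df (f178560 IH) (Lpn (LP (LK LD1_c2 LD2_c30 LD3_c6))))
theorem f53449 : Led Lsl_et (LP (LK LD1_c4 LD2_c10 LD3_c35)) = (LP (LK LD1_c2 LD2_c2 LD3_c31)) :=
  Lre_e IH (LK LD1_c4 LD2_c10 LD3_c35) (LK LD1_c2 LD2_c2 LD3_c31) Lrfl Lrfl
theorem f185597 : Led Lsl_dt (LP (LK LD1_c4 LD2_c17 LD3_c11)) = (LP (LK LD1_c4 LD2_c10 LD3_c35)) :=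
  Lgr Lrot77 (Lpe (f185596 IH) (Lpe (f185589 IH) (Lpr_ef (f185591 IH) (Lpe (f178564 IH) (Lpe (f53449 IH) (Lpn (LP (LK LD1_c4 LD2_c10 LD3_c35))))))))
theorem f546 : Led Lsl_gt (LP (LK LD1_c0 LD2_c58 LD3_c30)) = (LP (LK LD1_c2 LD2_c3 LD3_c12)) :=
  Lre_g IH (LK LD1_c0 LD2_c58 LD3_c30) (LK LD1_c2 LD2_c3 LD3_c12) Lrfl Lrfl
theorem f27328 : Led Lsl_dt (LP (LK LD1_c2 LD2_c3 LD3_c12)) = (LP (LK LD1_c4 LD2_c12 LD3_c5)) :=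
  Lre_d IH (LK LD1_c2 LD2_c3 LD3_c12) (LK LD1_c4 LD2_c12 LD3_c5) Lrfl Lrfl
theorem f185607 : Led Lsl_gt (LP (LK LD1_c4 LD2_c12 LD3_c5)) = (LP (LK LD1_c4 LD2_c10 LD3_c35)) :=
  Lgr Lrot139 (Lpe (f27328 IH) (Lpe (f546 IH) (Lpe (K0.f542 IH) (Lpr_dt (K0.f27320 IH) (Lpr_gf (K9.f53383 IH) (Lpe (K9.f1393 IH) (Lpr_et (K15.f1394 IH) (Lpe (f53390 IH) (Lpe (f53391 IH) (Lpr_dt (f185597 IH) (Lpn (LP (LK LD1_c4 LD2_c10 LD3_c35)))))))))))))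
theorem f178574 : Led Lsl_et (LP (LK LD1_c2 LD2_c3 LD3_c12)) = (LP (LK LD1_c4 LD2_c12 LD3_c6)) :=
  Lre_e IH (LK LD1_c2 LD2_c3 LD3_c12) (LK LD1_c4 LD2_c12 LD3_c6) Lrfl Lrfl
theorem f322394 : Led Lsl_gf (LP (LK LD1_c4 LD2_c12 LD3_c6)) = (LP (LK LD1_c4 LD2_c18 LD3_c13)) :=
  Lgr Lrot141 (Lpe (f178574 IH) (Lpr_dt (f27328 IH) (Lpr_gt (f185607 IH) (Lpe (f185597 IH) (Lpr_et (f53391 IH) (Lpr_gt (f53390 IH) (Lpr_dt (f169342 IH) (Lpr_gt (f165946 IH) (Lpr_df (f322387 IH) (Lpr_et (f322393 IH) (Lpn (LP (LK LD1_c4 LD2_c18 LD3_c13)))))))))))))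
theorem f322396 : Led Lsl_df (LP (LK LD1_c2 LD2_c39 LD3_c44)) = (LP (LK LD1_c4 LD2_c12 LD3_c6)) :=
  Lgr Lrot135 (Lpr_gt (f245901 IH) (Lpr_df (K19.f245925 IH) (Lpr_et (K18.f53392 IH) (Lpr_gt (K9.f53385 IH) (Lpe (K10.f167621 IH) (Lpr_dt (f169342 IH) (Lpr_gt (f165946 IH) (Lpr_df (f322387 IH) (Lpr_et (f322393 IH) (Lpe (f322394 IH) (Lpn (LP (LK LD1_c4 LD2_c12 LD3_c6)))))))))))))
theorem f245909 : Led Lsl_et (LP (LK LD1_c2 LD2_c39 LD3_c44)) = (LP (LK LD1_c5 LD2_c26 LD3_c42)) :=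
  Lre_e IH (LK LD1_c2 LD2_c39 LD3_c44) (LK LD1_c5 LD2_c26 LD3_c42) Lrfl Lrfl
theorem f179132 : Led Lsl_et (LP (LK LD1_c0 LD2_c35 LD3_c48)) = (LP (LK LD1_c0 LD2_c15 LD3_c60)) :=
  Lre_e IH (LK LD1_c0 LD2_c35 LD3_c48) (LK LD1_c0 LD2_c15 LD3_c60) Lrfl Lrfl
theorem f179133 : Led Lsl_dt (LP (LK LD1_c0 LD2_c35 LD3_c48)) = (LP (LK LD1_c1 LD2_c17 LD3_c30)) :=
  Lre_d IH (LK LD1_c0 LD2_c35 LD3_c48) (LK LD1_c1 LD2_c17 LD3_c30) Lrfl Lrfl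
theorem f179134 : Led Lsl_gt (LP (LK LD1_c1 LD2_c17 LD3_c30)) = (LP (LK LD1_c2 LD2_c41 LD3_c41)) :=
  Lre_g IH (LK LD1_c1 LD2_c17 LD3_c30) (LK LD1_c2 LD2_c41 LD3_c41) Lrfl Lrfl
theorem f245902 : Led Lsl_et (LP (LK LD1_c5 LD2_c26 LD3_c42)) = (LP (LK LD1_c2 LD2_c39 LD3_c44)) :=
  Lre_e IH (LK LD1_c5 LD2_c26 LD3_c42) (LK LD1_c2 LD2_c39 LD3_c44) Lrfl Lrfl
theorem f245903 : Led Lsl_df (LP (LK LD1_c2 LD2_c41 LD3_c41)) = (LP (LK LD1_c5 LD2_c26 LD3_c42)) :=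
  Lgr Lrot168 (Lpe (f179134 IH) (Lpe (f179133 IH) (Lpr_et (f179132 IH) (Lpr_gf (K9.f179116 IH) (Lpe (K13.f7766 IH) (Lpe (K12.f7728 IH) (Lpr_gf (K13.f245894 IH) (Lpe (K13.f245899 IH) (Lpe (f245901 IH) (Lpe (f245902 IH) (Lpn (LP (LK LD1_c5 LD2_c26 LD3_c42)))))))))))))
theorem f27335 : Led Lsl_dt (LP (LK LD1_c4 LD2_c12 LD3_c5)) = (LP (LK LD1_c2 LD2_c3 LD3_c12)) :=
  Lre_d IH (LK LD1_c4 LD2_c12 LD3_c5) (LK LD1_c2 LD2_c3 LD3_c12) Lrfl Lrfl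
theorem f322404 : Led Lsl_et (LP (LK LD1_c2 LD2_c41 LD3_c41)) = (LP (LK LD1_c4 LD2_c12 LD3_c5)) :=
  Lgr Lrot71 (Lpr_df (f245903 IH) (Lpe (f245909 IH) (Lpr_df (f322396 IH) (Lpe (f178574 IH) (Lpe (f27335 IH) (Lpn (LP (LK LD1_c4 LD2_c12 LD3_c5))))))))
theorem f322468 : Led Lsl_ef (LP (LK LD1_c2 LD2_c41 LD3_c41)) = (LP (LK LD1_c4 LD2_c12 LD3_c5)) :=
  Lgr Lrot88 (Lpr_et (f322404 IH) (Lpn (LP (LK LD1_c4 LD2_c12 LD3_c5))))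
theorem f195491 : Led Lsl_ct (LP (LK LD1_c8 LD2_c14 LD3_c22)) = (LP (LK LD1_c15 LD2_c30 LD3_c3)) :=
  Lre_c IH (LK LD1_c8 LD2_c14 LD3_c22) (LK LD1_c15 LD2_c30 LD3_c3) Lrfl Lrfl
theorem f167385 : Led Lsl_ct (LP (LK LD1_c4 LD2_c50 LD3_c52)) = (LP (LK LD1_c9 LD2_c33 LD3_c50)) :=
  Lre_c IH (LK LD1_c4 LD2_c50 LD3_c52) (LK LD1_c9 LD2_c33 LD3_c50) Lrfl Lrfl
theorem f314683 : Led Lsl_gt (LP (LK LD1_c15 LD2_c30 LD3_c3)) = (LP (LK LD1_c16 LD2_c10 LD3_c1)) :=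
  Lgr Lrot150 (Lpe (f195491 IH) (Lpe (K19.f195474 IH) (Lpr_df (K19.f314649 IH) (Lpr_gt (f314679 IH) (Lpr_ct (f167385 IH) (Lpr_gt (K16.f167392 IH) (Lpe (K19.f269425 IH) (Lpe (K19.f305472 IH) (Lpe (K19.f308630 IH) (Lpn (LP (LK LD1_c16 LD2_c10 LD3_c1))))))))))))
theorem f195463 : Led Lsl_bt (LP (LK LD1_c2 LD2_c0 LD3_c50)) = (LP (LK LD1_c4 LD2_c6 LD3_c55)) :=
  Lre_b IH (LK LD1_c2 LD2_c0 LD3_c50) (LK LD1_c4 LD2_c6 LD3_c55) Lrfl Lrfl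
theorem f171763 : Led Lsl_et (LP (LK LD1_c2 LD2_c0 LD3_c50)) = (LP (LK LD1_c0 LD2_c57 LD3_c23)) :=
  Lre_e IH (LK LD1_c2 LD2_c0 LD3_c50) (LK LD1_c0 LD2_c57 LD3_c23) Lrfl Lrfl
theorem f195457 : Led Lsl_et (LP (LK LD1_c1 LD2_c16 LD3_c41)) = (LP (LK LD1_c2 LD2_c39 LD3_c55)) :=
  Lre_e IH (LK LD1_c1 LD2_c16 LD3_c41) (LK LD1_c2 LD2_c39 LD3_c55) Lrfl Lrfl
theorem f195458 : Led Lsl_cf (LP (LK LD1_c2 LD2_c0 LD3_c50)) = (LP (LK LD1_c2 LD2_c39 LD3_c55)) :=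
  Lgr Lrot39 (Lpr_et (f171763 IH) (Lpr_ct (K10.f195427 IH) (Lpr_et (f195457 IH) (Lpn (LP (LK LD1_c2 LD2_c39 LD3_c55))))))
theorem f195469 : Led Lsl_ct (LP (LK LD1_c2 LD2_c0 LD3_c50)) = (LP (LK LD1_c2 LD2_c39 LD3_c55)) :=
  Lgr Lrot59 (Lpr_cf (f195458 IH) (Lpn (LP (LK LD1_c2 LD2_c39 LD3_c55))))
theorem f245931 : Led Lsl_ct (LP (LK LD1_c2 LD2_c39 LD3_c44)) = (LP (LK LD1_c5 LD2_c26 LD3_c41)) :=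
  Lre_c IH (LK LD1_c2 LD2_c39 LD3_c44) (LK LD1_c5 LD2_c26 LD3_c41) Lrfl Lrfl
theorem f7745 : Led Lsl_ct (LP (LK LD1_c2 LD2_c40 LD3_c34)) = (LP (LK LD1_c1 LD2_c16 LD3_c60)) :=
  Lre_c IH (LK LD1_c2 LD2_c40 LD3_c34) (LK LD1_c1 LD2_c16 LD3_c60) Lrfl Lrfl
theorem f7746 : Led Lsl_dt (LP (LK LD1_c5 LD2_c28 LD3_c34)) = (LP (LK LD1_c2 LD2_c40 LD3_c34)) :=
  Lre_d IH (LK LD1_c5 LD2_c28 LD3_c34) (LK LD1_c2 LD2_c40 LD3_c34) Lrfl Lrfl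
theorem f179194 : Led Lsl_et (LP (LK LD1_c0 LD2_c16 LD3_c2)) = (LP (LK LD1_c0 LD2_c35 LD3_c30)) :=
  Lre_e IH (LK LD1_c0 LD2_c16 LD3_c2) (LK LD1_c0 LD2_c35 LD3_c30) Lrfl Lrfl
theorem f179195 : Led Lsl_et (LP (LK LD1_c2 LD2_c39 LD3_c55)) = (LP (LK LD1_c1 LD2_c16 LD3_c41)) :=
  Lre_e IH (LK LD1_c2 LD2_c39 LD3_c55) (LK LD1_c1 LD2_c16 LD3_c41) Lrfl Lrfl
theorem f179196 : Led Lsl_dt (LP (LK LD1_c2 LD2_c39 LD3_c55)) = (LP (LK LD1_c5 LD2_c26 LD3_c59)) :=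
  Lre_d IH (LK LD1_c2 LD2_c39 LD3_c55) (LK LD1_c5 LD2_c26 LD3_c59) Lrfl Lrfl
theorem f179197 : Led Lsl_et (LP (LK LD1_c2 LD2_c40 LD3_c34)) = (LP (LK LD1_c1 LD2_c16 LD3_c59)) :=
  Lre_e IH (LK LD1_c2 LD2_c40 LD3_c34) (LK LD1_c1 LD2_c16 LD3_c59) Lrfl Lrfl
theorem f179198 : Led Lsl_gt (LP (LK LD1_c5 LD2_c26 LD3_c59)) = (LP (LK LD1_c5 LD2_c28 LD3_c34)) :=
  Lgr Lrot112 (Lpe (f179196 IH) (Lpr_et (f179195 IH) (Lpe (K10.f8436 IH) (Lpe (f179194 IH) (Lpr_dt (K9.f174113 IH) (Lpe (K9.f172300 IH) (Lpr_df (K9.f179120 IH) (Lpe (K9.f178111 IH) (Lpe (f179197 IH) (Lpr_dt (K17.f7857 IH) (Lpn (LP (LK LD1_c5 LD2_c28 LD3_c34)))))))))))))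
theorem f245932 : Led Lsl_gt (LP (LK LD1_c5 LD2_c26 LD3_c41)) = (LP (LK LD1_c2 LD2_c39 LD3_c55)) :=
  Lgr Lrot94 (Lpe (f245931 IH) (Lpr_gt (f245901 IH) (Lpr_dt (K13.f245899 IH) (Lpe (K13.f245894 IH) (Lpr_dt (K19.f7747 IH) (Lpe (f7745 IH) (Lpe (f7746 IH) (Lpe (f179198 IH) (Lpe (f179196 IH) (Lpn (LP (LK LD1_c2 LD2_c39 LD3_c55))))))))))))
theorem f231433 : Led Lsl_bf (LP (LK LD1_c10 LD2_c30 LD3_c36)) = (LP (LK LD1_c8 LD2_c39 LD3_c14)) :=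
  Lgr Lrot24 (Lpr_bt (K15.f231430 IH) (Lpn (LP (LK LD1_c8 LD2_c39 LD3_c14))))
theorem f254407 : Led Lsl_gt (LP (LK LD1_c10 LD2_c30 LD3_c36)) = (LP (LK LD1_c5 LD2_c21 LD3_c52)) :=
  Lgr Lrot5 (Lpr_ft (K14.f231437 IH) (Lpr_at (K14.f254395 IH) (Lpe (K16.f254406 IH) (Lpn (LP (LK LD1_c5 LD2_c21 LD3_c52))))))
theorem f314688 : Led Lsl_bt (LP (LK LD1_c2 LD2_c39 LD3_c44)) = (LP (LK LD1_c5 LD2_c21 LD3_c52)) :=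
  Lgr Lrot92 (Lpr_ct (f245931 IH) (Lpr_gt (f245932 IH) (Lpe (f195469 IH) (Lpr_bt (f195463 IH) (Lpr_gt (K19.f195474 IH) (Lpr_ct (f195491 IH) (Lpr_gt (f314683 IH) (Lpe (K19.f308642 IH) (Lpe (f231433 IH) (Lpr_gt (f254407 IH) (Lpn (LP (LK LD1_c5 LD2_c21 LD3_c52)))))))))))))
theorem f256516 : Led Lsl_et (LP (LK LD1_c5 LD2_c21 LD3_c52)) = (LP (LK LD1_c10 LD2_c34 LD3_c1)) :=
  Lre_e IH (LK LD1_c5 LD2_c21 LD3_c52) (LK LD1_c10 LD2_c34 LD3_c1) Lrfl Lrfl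
theorem f314699 : Led Lsl_bf (LP (LK LD1_c5 LD2_c26 LD3_c42)) = (LP (LK LD1_c10 LD2_c34 LD3_c1)) :=
  Lgr Lrot96 (Lpr_et (f245902 IH) (Lpr_bt (f314688 IH) (Lpr_et (f256516 IH) (Lpn (LP (LK LD1_c10 LD2_c34 LD3_c1))))))
theorem f314705 : Led Lsl_bt (LP (LK LD1_c2 LD2_c41 LD3_c41)) = (LP (LK LD1_c5 LD2_c23 LD3_c53)) :=
  Lgr Lrot95 (Lpr_df (f245903 IH) (Lpr_bf (f314699 IH) (Lpr_df (K16.f256514 IH) (Lpn (LP (LK LD1_c5 LD2_c23 LD3_c53))))))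
theorem f178572 : Led Lsl_bt (LP (LK LD1_c8 LD2_c23 LD3_c49)) = (LP (LK LD1_c4 LD2_c12 LD3_c5)) :=
  Lre_b IH (LK LD1_c8 LD2_c23 LD3_c49) (LK LD1_c4 LD2_c12 LD3_c5) Lrfl Lrfl
theorem f322470 : Led Lsl_et (LP (LK LD1_c5 LD2_c23 LD3_c53)) = (LP (LK LD1_c8 LD2_c23 LD3_c49)) :=
  Lgr Lrot74 (Lpe (f314705 IH) (Lpr_ef (f322468 IH) (Lpe (f178572 IH) (Lpn (LP (LK LD1_c8 LD2_c23 LD3_c49))))))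
theorem f322478 : Led Lsl_dt (LP (LK LD1_c8 LD2_c23 LD3_c49)) = (LP (LK LD1_c4 LD2_c12 LD3_c3)) :=
  Lre_d IH (LK LD1_c8 LD2_c23 LD3_c49) (LK LD1_c4 LD2_c12 LD3_c3) Lrfl Lrfl
theorem f322479 : Led Lsl_et (LP (LK LD1_c4 LD2_c12 LD3_c3)) = (LP (LK LD1_c8 LD2_c23 LD3_c50)) :=
  Lre_e IH (LK LD1_c4 LD2_c12 LD3_c3) (LK LD1_c8 LD2_c23 LD3_c50) Lrfl Lrfl
theorem f322480 : Led Lsl_df (LP (LK LD1_c5 LD2_c21 LD3_c52)) = (LP (LK LD1_c8 LD2_c23 LD3_c50)) :=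
  Lgr Lrot70 (Lpr_et (f256516 IH) (Lpr_dt (K16.f256509 IH) (Lpr_et (f322470 IH) (Lpr_dt (f322478 IH) (Lpr_et (f322479 IH) (Lpn (LP (LK LD1_c8 LD2_c23 LD3_c50))))))))
theorem f322489 : Led Lsl_et (LP (LK LD1_c8 LD2_c23 LD3_c50)) = (LP (LK LD1_c4 LD2_c12 LD3_c3)) :=
  Lre_e IH (LK LD1_c8 LD2_c23 LD3_c50) (LK LD1_c4 LD2_c12 LD3_c3) Lrfl Lrfl
theorem f322492 : Led Lsl_gf (LP (LK LD1_c4 LD2_c16 LD3_c43)) = (LP (LK LD1_c4 LD2_c12 LD3_c3)) :=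
  Lgr Lrot141 (Lpe (K13.f184453 IH) (Lpr_dt (K13.f184452 IH) (Lpe (K17.f256800 IH) (Lpe (K14.f251891 IH) (Lpr_et (K18.f256807 IH) (Lpr_gt (f305399 IH) (Lpe (K16.f275321 IH) (Lpr_gt (f254407 IH) (Lpr_df (f322480 IH) (Lpr_et (f322489 IH) (Lpn (LP (LK LD1_c4 LD2_c12 LD3_c3)))))))))))))
theorem f1535 : Led Lsl_ct (LP (LK LD1_c1 LD2_c9 LD3_c4)) = (LP (LK LD1_c2 LD2_c24 LD3_c5)) :=
  Lre_c IH (LK LD1_c1 LD2_c9 LD3_c4) (LK LD1_c2 LD2_c24 LD3_c5) Lrfl Lrfl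
theorem f322496 : Led Lsl_bt (LP (LK LD1_c2 LD2_c3 LD3_c12)) = (LP (LK LD1_c4 LD2_c12 LD3_c3)) :=
  Lre_b IH (LK LD1_c2 LD2_c3 LD3_c12) (LK LD1_c4 LD2_c12 LD3_c3) Lrfl Lrfl
theorem f27331 : Led Lsl_ct (LP (LK LD1_c2 LD2_c3 LD3_c12)) = (LP (LK LD1_c4 LD2_c12 LD3_c4)) :=
  Lre_c IH (LK LD1_c2 LD2_c3 LD3_c12) (LK LD1_c4 LD2_c12 LD3_c4) Lrfl Lrfl
theorem f322497 : Led Lsl_gt (LP (LK LD1_c2 LD2_c24 LD3_c5)) = (LP (LK LD1_c4 LD2_c12 LD3_c4)) :=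
  Lgr Lrot65 (Lpe (f1535 IH) (Lpr_bt (K0.f1531 IH) (Lpe (K18.f1557 IH) (Lpe (K19.f1568 IH) (Lpr_ct (K19.f305523 IH) (Lpe (K19.f232827 IH) (Lpe (K13.f232715 IH) (Lpr_gf (f322492 IH) (Lpe (f322496 IH) (Lpr_ct (f27331 IH) (Lpn (LP (LK LD1_c4 LD2_c12 LD3_c4)))))))))))))
theorem f2307 : Led Lsl_et (LP (LK LD1_c4 LD2_c52 LD3_c41)) = (LP (LK LD1_c2 LD2_c24 LD3_c2)) :=
  Lre_e IH (LK LD1_c4 LD2_c52 LD3_c41) (LK LD1_c2 LD2_c24 LD3_c2) Lrfl Lrfl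
theorem f2221 : Led Lsl_bt (LP (LK LD1_c2 LD2_c24 LD3_c3)) = (LP (LK LD1_c1 LD2_c9 LD3_c3)) :=
  Lre_b IH (LK LD1_c2 LD2_c24 LD3_c3) (LK LD1_c1 LD2_c9 LD3_c3) Lrfl Lrfl
theorem f2223 : Led Lsl_df (LP (LK LD1_c2 LD2_c24 LD3_c3)) = (LP (LK LD1_c1 LD2_c9 LD3_c26)) :=
  Lgr Lrot12 (Lpr_bt (f2221 IH) (Lpr_dt (K0.f2217 IH) (Lpr_bt (K0.f2222 IH) (Lpn (LP (LK LD1_c1 LD2_c9 LD3_c26))))))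
theorem f2662 : Led Lsl_et (LP (LK LD1_c2 LD2_c24 LD3_c3)) = (LP (LK LD1_c4 LD2_c52 LD3_c42)) :=
  Lre_e IH (LK LD1_c2 LD2_c24 LD3_c3) (LK LD1_c4 LD2_c52 LD3_c42) Lrfl Lrfl
theorem f2663 : Led Lsl_df (LP (LK LD1_c4 LD2_c52 LD3_c41)) = (LP (LK LD1_c4 LD2_c52 LD3_c42)) :=
  Lgr Lrot70 (Lpr_et (f2307 IH) (Lpr_dt (K0.f2275 IH) (Lpr_et (f2652 IH) (Lpe (f2223 IH) (Lpr_et (f2662 IH) (Lpn (LP (LK LD1_c4 LD2_c52 LD3_c42))))))))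
theorem f2670 : Led Lsl_dt (LP (LK LD1_c4 LD2_c52 LD3_c41)) = (LP (LK LD1_c4 LD2_c52 LD3_c42)) :=
  Lgr Lrot42 (Lpr_df (f2663 IH) (Lpn (LP (LK LD1_c4 LD2_c52 LD3_c42))))
theorem f2381 : Led Lsl_bt (LP (LK LD1_c2 LD2_c24 LD3_c4)) = (LP (LK LD1_c4 LD2_c52 LD3_c41)) :=
  Lre_b IH (LK LD1_c2 LD2_c24 LD3_c4) (LK LD1_c4 LD2_c52 LD3_c41) Lrfl Lrfl
theorem f2379 : Led Lsl_bt (LP (LK LD1_c4 LD2_c52 LD3_c42)) = (LP (LK LD1_c2 LD2_c24 LD3_c5)) :=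
  Lre_b IH (LK LD1_c4 LD2_c52 LD3_c42) (LK LD1_c2 LD2_c24 LD3_c5) Lrfl Lrfl
theorem f2678 : Led Lsl_df (LP (LK LD1_c2 LD2_c24 LD3_c4)) = (LP (LK LD1_c2 LD2_c24 LD3_c5)) :=
  Lgr Lrot12 (Lpr_bt (f2381 IH) (Lpr_dt (f2670 IH) (Lpr_bt (f2379 IH) (Lpn (LP (LK LD1_c2 LD2_c24 LD3_c5))))))
theorem f51502 : Led Lsl_ct (LP (LK LD1_c4 LD2_c12 LD3_c4)) = (LP (LK LD1_c2 LD2_c3 LD3_c12)) :=
  Lre_c IH (LK LD1_c4 LD2_c12 LD3_c4) (LK LD1_c2 LD2_c3 LD3_c12) Lrfl Lrfl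
theorem f51500 : Led Lsl_gf (LP (LK LD1_c0 LD2_c58 LD3_c30)) = (LP (LK LD1_c2 LD2_c3 LD3_c12)) :=
  Lgr Lrot76 (Lpr_af (K9.f51496 IH) (Lpe (K0.f534 IH) (Lpr_gt (f546 IH) (Lpn (LP (LK LD1_c2 LD2_c3 LD3_c12))))))
theorem f533 : Led Lsl_ct (LP (LK LD1_c0 LD2_c58 LD3_c30)) = (LP (LK LD1_c2 LD2_c3 LD3_c11)) :=
  Lre_c IH (LK LD1_c0 LD2_c58 LD3_c30) (LK LD1_c2 LD2_c3 LD3_c11) Lrfl Lrfl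
theorem f1124 : Led Lsl_et (LP (LK LD1_c2 LD2_c3 LD3_c11)) = (LP (LK LD1_c0 LD2_c58 LD3_c29)) :=
  Lre_e IH (LK LD1_c2 LD2_c3 LD3_c11) (LK LD1_c0 LD2_c58 LD3_c29) Lrfl Lrfl
theorem f507 : Led Lsl_ef (LP (LK LD1_c0 LD2_c26 LD3_c30)) = (LP (LK LD1_c0 LD2_c27 LD3_c21)) :=
  Lgr Lrot28 (Lpr_ct (K9.f505 IH) (Lpr_et (K0.f486 IH) (Lpr_ct (K9.f506 IH) (Lpn (LP (LK LD1_c0 LD2_c27 LD3_c21))))))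
theorem f1396 : Led Lsl_et (LP (LK LD1_c0 LD2_c58 LD3_c28)) = (LP (LK LD1_c2 LD2_c3 LD3_c10)) :=
  Lre_e IH (LK LD1_c0 LD2_c58 LD3_c28) (LK LD1_c2 LD2_c3 LD3_c10) Lrfl Lrfl
theorem f51624 : Led Lsl_df (LP (LK LD1_c2 LD2_c3 LD3_c11)) = (LP (LK LD1_c2 LD2_c3 LD3_c10)) :=
  Lgr Lrot70 (Lpr_et (f1124 IH) (Lpr_dt (K9.f51613 IH) (Lpe (f507 IH) (Lpr_dt (K9.f1125 IH) (Lpr_et (f1396 IH) (Lpn (LP (LK LD1_c2 LD2_c3 LD3_c10))))))))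
theorem f541 : Led Lsl_ct (LP (LK LD1_c2 LD2_c3 LD3_c11)) = (LP (LK LD1_c0 LD2_c58 LD3_c30)) :=
  Lre_c IH (LK LD1_c2 LD2_c3 LD3_c11) (LK LD1_c0 LD2_c58 LD3_c30) Lrfl Lrfl
theorem f51631 : Led Lsl_dt (LP (LK LD1_c2 LD2_c3 LD3_c11)) = (LP (LK LD1_c2 LD2_c3 LD3_c10)) :=
  Lgr Lrot42 (Lpr_df (f51624 IH) (Lpn (LP (LK LD1_c2 LD2_c3 LD3_c10))))
theorem f51555 : Led Lsl_ct (LP (LK LD1_c2 LD2_c3 LD3_c10)) = (LP (LK LD1_c1 LD2_c0 LD3_c15)) :=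
  Lgr Lrot15 (Lpe (f1396 IH) (Lpr_cf (K9.f51542 IH) (Lpe (K0.f545 IH) (Lpn (LP (LK LD1_c1 LD2_c0 LD3_c15))))))
theorem f51633 : Led Lsl_ct (LP (LK LD1_c1 LD2_c0 LD3_c15)) = (LP (LK LD1_c2 LD2_c3 LD3_c10)) :=
  Lgr Lrot53 (Lpe (K0.f27326 IH) (Lpe (f51555 IH) (Lpe (f51631 IH) (Lpe (f533 IH) (Lpr_df (K0.f27322 IH) (Lpr_ft (K0.f534 IH) (Lpe (K9.f51496 IH) (Lpe (f541 IH) (Lpr_df (f51624 IH) (Lpn (LP (LK LD1_c2 LD2_c3 LD3_c10))))))))))))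
theorem f52148 : Led Lsl_ct (LP (LK LD1_c4 LD2_c18 LD3_c32)) = (LP (LK LD1_c2 LD2_c6 LD3_c33)) :=
  Lre_c IH (LK LD1_c4 LD2_c18 LD3_c32) (LK LD1_c2 LD2_c6 LD3_c33) Lrfl Lrfl
theorem f322558 : Led Lsl_gt (LP (LK LD1_c2 LD2_c24 LD3_c4)) = (LP (LK LD1_c4 LD2_c18 LD3_c32)) :=
  Lgr Lrot9 (Lpr_df (f2678 IH) (Lpr_gt (f322497 IH) (Lpr_ct (f51502 IH) (Lpe (f51500 IH) (Lpr_ct (f533 IH) (Lpr_df (f51624 IH) (Lpe (f51633 IH) (Lpe (K13.f53393 IH) (Lpe (f52148 IH) (Lpn (LP (LK LD1_c4 LD2_c18 LD3_c32))))))))))))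
theorem f2422 : Led Lsl_bt (LP (LK LD1_c9 LD2_c38 LD3_c39)) = (LP (LK LD1_c4 LD2_c53 LD3_c18)) :=
  Lre_b IH (LK LD1_c9 LD2_c38 LD3_c39) (LK LD1_c4 LD2_c53 LD3_c18) Lrfl Lrfl
theorem f199906 : Led Lsl_bt (LP (LK LD1_c4 LD2_c10 LD3_c38)) = (LP (LK LD1_c7 LD2_c55 LD3_c29)) :=
  Lgr Lrot35 (Lpr_ff (K11.f199904 IH) (Lpe (K13.f199837 IH) (Lpe (K13.f39143 IH) (Lpn (LP (LK LD1_c7 LD2_c55 LD3_c29))))))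
theorem f232775 : Led Lsl_at (LP (LK LD1_c8 LD2_c32 LD3_c43)) = (LP (LK LD1_c8 LD2_c21 LD3_c14)) :=
  Lgr Lrot100 (Lpr_af (K13.f232773 IH) (Lpn (LP (LK LD1_c8 LD2_c21 LD3_c14))))
theorem f232742 : Led Lsl_ff (LP (LK LD1_c8 LD2_c32 LD3_c43)) = (LP (LK LD1_c8 LD2_c20 LD3_c13)) :=
  Lgr Lrot23 (Lpr_ct (K13.f232718 IH) (Lpr_ft (K13.f232740 IH) (Lpr_ct (K13.f184472 IH) (Lpn (LP (LK LD1_c8 LD2_c20 LD3_c13))))))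
theorem f184468 : Led Lsl_gt (LP (LK LD1_c8 LD2_c20 LD3_c13)) = (LP (LK LD1_c15 LD2_c41 LD3_c29)) :=
  Lre_g IH (LK LD1_c8 LD2_c20 LD3_c13) (LK LD1_c15 LD2_c41 LD3_c29) Lrfl Lrfl
theorem f232835 : Led Lsl_gt (LP (LK LD1_c15 LD2_c41 LD3_c29)) = (LP (LK LD1_c8 LD2_c21 LD3_c14)) :=
  Lgr Lrot46 (Lpe (f184468 IH) (Lpe (f232742 IH) (Lpr_at (f232775 IH) (Lpn (LP (LK LD1_c8 LD2_c21 LD3_c14))))))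
theorem f308754 : Led Lsl_cf (LP (LK LD1_c15 LD2_c41 LD3_c29)) = (LP (LK LD1_c9 LD2_c38 LD3_c39)) :=
  Lgr Lrot160 (Lpr_gt (f232835 IH) (Lpe (K11.f199908 IH) (Lpr_bt (f199906 IH) (Lpr_gt (K13.f39146 IH) (Lpr_ct (K19.f39154 IH) (Lpr_gt (K19.f308747 IH) (Lpe (K9.f29202 IH) (Lpr_bt (K19.f29803 IH) (Lpe (K19.f29795 IH) (Lpe (f2422 IH) (Lpn (LP (LK LD1_c9 LD2_c38 LD3_c39)))))))))))))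
theorem f27343 : Led Lsl_ct (LP (LK LD1_c2 LD2_c6 LD3_c33)) = (LP (LK LD1_c4 LD2_c18 LD3_c32)) :=
  Lre_c IH (LK LD1_c2 LD2_c6 LD3_c33) (LK LD1_c4 LD2_c18 LD3_c32) Lrfl Lrfl
theorem f322567 : Led Lsl_bt (LP (LK LD1_c2 LD2_c6 LD3_c33)) = (LP (LK LD1_c4 LD2_c18 LD3_c31)) :=
  Lre_b IH (LK LD1_c2 LD2_c6 LD3_c33) (LK LD1_c4 LD2_c18 LD3_c31) Lrfl Lrfl
theorem f322570 : Led Lsl_gf (LP (LK LD1_c4 LD2_c9 LD3_c61)) = (LP (LK LD1_c4 LD2_c18 LD3_c31)) :=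
  Lgr Lrot181 (Lpr_ct (K13.f184472 IH) (Lpr_gt (f184468 IH) (Lpr_cf (f308754 IH) (Lpr_bt (f2422 IH) (Lpr_gt (K19.f2414 IH) (Lpe (K0.f2391 IH) (Lpe (K0.f2175 IH) (Lpr_gt (f322558 IH) (Lpe (f27343 IH) (Lpr_bt (f322567 IH) (Lpn (LP (LK LD1_c4 LD2_c18 LD3_c31)))))))))))))
theorem f300792 : Led Lsl_et (LP (LK LD1_c4 LD2_c17 LD3_c61)) = (LP (LK LD1_c2 LD2_c6 LD3_c18)) :=
  Lre_e IH (LK LD1_c4 LD2_c17 LD3_c61) (LK LD1_c2 LD2_c6 LD3_c18) Lrfl Lrfl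
theorem f300795 : Led Lsl_et (LP (LK LD1_c2 LD2_c6 LD3_c18)) = (LP (LK LD1_c4 LD2_c17 LD3_c61)) :=
  Lre_e IH (LK LD1_c2 LD2_c6 LD3_c18) (LK LD1_c4 LD2_c17 LD3_c61) Lrfl Lrfl
theorem f300796 : Led Lsl_df (LP (LK LD1_c4 LD2_c27 LD3_c13)) = (LP (LK LD1_c4 LD2_c17 LD3_c61)) :=
  Lgr Lrot70 (Lpr_et (K18.f230449 IH) (Lpr_dt (K14.f44269 IH) (Lpr_et (K14.f187542 IH) (Lpr_dt (K18.f300790 IH) (Lpr_et (f300795 IH) (Lpn (LP (LK LD1_c4 LD2_c17 LD3_c61))))))))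
theorem f184435 : Led Lsl_et (LP (LK LD1_c4 LD2_c16 LD3_c57)) = (LP (LK LD1_c8 LD2_c33 LD3_c21)) :=
  Lre_e IH (LK LD1_c4 LD2_c16 LD3_c57) (LK LD1_c8 LD2_c33 LD3_c21) Lrfl Lrfl
theorem f179828 : Led Lsl_dt (LP (LK LD1_c8 LD2_c35 LD3_c50)) = (LP (LK LD1_c4 LD2_c18 LD3_c31)) :=
  Lre_d IH (LK LD1_c8 LD2_c35 LD3_c50) (LK LD1_c4 LD2_c18 LD3_c31) Lrfl Lrfl
theorem f322578 : Led Lsl_gt (LP (LK LD1_c8 LD2_c33 LD3_c21)) = (LP (LK LD1_c8 LD2_c35 LD3_c50)) :=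
  Lgr Lrot137 (Lpe (f184435 IH) (Lpr_dt (K18.f184434 IH) (Lpr_gf (K18.f184235 IH) (Lpr_df (f300796 IH) (Lpr_et (f300792 IH) (Lpe (K18.f300773 IH) (Lpe (K13.f219203 IH) (Lpr_dt (K13.f219210 IH) (Lpr_gf (f322570 IH) (Lpe (f179828 IH) (Lpn (LP (LK LD1_c8 LD2_c35 LD3_c50)))))))))))))
theorem f184457 : Led Lsl_ct (LP (LK LD1_c8 LD2_c33 LD3_c21)) = (LP (LK LD1_c16 LD2_c3 LD3_c38)) :=
  Lre_c IH (LK LD1_c8 LD2_c33 LD3_c21) (LK LD1_c16 LD2_c3 LD3_c38) Lrfl Lrfl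
theorem f184474 : Led Lsl_gt (LP (LK LD1_c16 LD2_c3 LD3_c38)) = (LP (LK LD1_c26 LD2_c0 LD3_c60)) :=
  Lre_g IH (LK LD1_c16 LD2_c3 LD3_c38) (LK LD1_c26 LD2_c0 LD3_c60) Lrfl Lrfl
theorem f219217 : Led Lsl_gt (LP (LK LD1_c25 LD2_c37 LD3_c4)) = (LP (LK LD1_c15 LD2_c41 LD3_c31)) :=
  Lre_g IH (LK LD1_c25 LD2_c37 LD3_c4) (LK LD1_c15 LD2_c41 LD3_c31) Lrfl Lrfl
theorem f322580 : Led Lsl_dt (LP (LK LD1_c26 LD2_c0 LD3_c60)) = (LP (LK LD1_c25 LD2_c37 LD3_c4)) :=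
  Lgr Lrot57 (Lpe (f184474 IH) (Lpe (f184457 IH) (Lpr_gt (f322578 IH) (Lpr_dt (f179828 IH) (Lpe (f322570 IH) (Lpr_dt (K13.f219210 IH) (Lpe (K13.f184467 IH) (Lpe (K13.f219212 IH) (Lpe (f219217 IH) (Lpn (LP (LK LD1_c25 LD2_c37 LD3_c4))))))))))))
theorem f219231 : Led Lsl_gf (LP (LK LD1_c25 LD2_c37 LD3_c4)) = (LP (LK LD1_c15 LD2_c43 LD3_c25)) :=
  Lgr Lrot47 (Lpr_gt (f219217 IH) (Lpr_af (K13.f219222 IH) (Lpe (K13.f199983 IH) (Lpn (LP (LK LD1_c15 LD2_c43 LD3_c25))))))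
theorem f199936 : Led Lsl_et (LP (LK LD1_c8 LD2_c21 LD3_c14)) = (LP (LK LD1_c4 LD2_c10 LD3_c37)) :=
  Lre_e IH (LK LD1_c8 LD2_c21 LD3_c14) (LK LD1_c4 LD2_c10 LD3_c37) Lrfl Lrfl
theorem f182303 : Led Lsl_ft (LP (LK LD1_c25 LD2_c37 LD3_c52)) = (LP (LK LD1_c15 LD2_c42 LD3_c7)) :=
  Lre_f IH (LK LD1_c25 LD2_c37 LD3_c52) (LK LD1_c15 LD2_c42 LD3_c7) Lrfl Lrfl
theorem f267023 : Led Lsl_af (LP (LK LD1_c16 LD2_c4 LD3_c26)) = (LP (LK LD1_c15 LD2_c42 LD3_c7)) :=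
  Lgr Lrot45 (Lpr_ft (f267022 IH) (Lpr_at (f267017 IH) (Lpr_ft (f182303 IH) (Lpn (LP (LK LD1_c15 LD2_c42 LD3_c7))))))
theorem f321091 : Led Lsl_gt (LP (LK LD1_c25 LD2_c37 LD3_c52)) = (LP (LK LD1_c20 LD2_c54 LD3_c42)) :=
  Lgr Lrot5 (Lpr_ft (f182303 IH) (Lpe (f267023 IH) (Lpr_gf (f321073 IH) (Lpn (LP (LK LD1_c20 LD2_c54 LD3_c42))))))
theorem f238650 : Led Lsl_gt (LP (LK LD1_c8 LD2_c33 LD3_c48)) = (LP (LK LD1_c16 LD2_c4 LD3_c24)) :=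
  Lre_g IH (LK LD1_c8 LD2_c33 LD3_c48) (LK LD1_c16 LD2_c4 LD3_c24) Lrfl Lrfl
theorem f267015 : Led Lsl_gt (LP (LK LD1_c16 LD2_c4 LD3_c24)) = (LP (LK LD1_c15 LD2_c42 LD3_c8)) :=
  Lgr Lrot46 (Lpe (f238650 IH) (Lpr_ft (K15.f267003 IH) (Lpr_at (K15.f267005 IH) (Lpn (LP (LK LD1_c15 LD2_c42 LD3_c8))))))
theorem f322589 : Led Lsl_et (LP (LK LD1_c26 LD2_c0 LD3_c60)) = (LP (LK LD1_c16 LD2_c4 LD3_c24)) :=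
  Lgr Lrot121 (Lpr_dt (f322580 IH) (Lpr_gf (f219231 IH) (Lpe (K13.f199941 IH) (Lpr_et (f199936 IH) (Lpe (K13.f232795 IH) (Lpe (K16.f42093 IH) (Lpr_dt (f42094 IH) (Lpe (f321091 IH) (Lpe (f182293 IH) (Lpe (f267015 IH) (Lpn (LP (LK LD1_c16 LD2_c4 LD3_c24)))))))))))))
theorem f322608 : Led Lsl_ef (LP (LK LD1_c26 LD2_c0 LD3_c60)) = (LP (LK LD1_c16 LD2_c4 LD3_c24)) :=
  Lgr Lrot88 (Lpr_et (f322589 IH) (Lpn (LP (LK LD1_c16 LD2_c4 LD3_c24))))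
theorem f182290 : Led Lsl_ct (LP (LK LD1_c16 LD2_c36 LD3_c19)) = (LP (LK LD1_c8 LD2_c52 LD3_c57)) :=
  Lre_c IH (LK LD1_c16 LD2_c36 LD3_c19) (LK LD1_c8 LD2_c52 LD3_c57) Lrfl Lrfl
theorem f321596 : Led Lsl_ct (LP (LK LD1_c19 LD2_c35 LD3_c45)) = (LP (LK LD1_c16 LD2_c4 LD3_c24)) :=
  Lgr Lrot152 (Lpe (f220374 IH) (Lpr_df (f260964 IH) (Lpr_gt (K16.f260943 IH) (Lpr_ct (f321434 IH) (Lpe (f321429 IH) (Lpr_ct (f182290 IH) (Lpr_df (K17.f182294 IH) (Lpe (K15.f182298 IH) (Lpe (f267015 IH) (Lpn (LP (LK LD1_c16 LD2_c4 LD3_c24))))))))))))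
theorem f167367 : Led Lsl_bt (LP (LK LD1_c4 LD2_c14 LD3_c3)) = (LP (LK LD1_c2 LD2_c4 LD3_c27)) :=
  Lre_b IH (LK LD1_c4 LD2_c14 LD3_c3) (LK LD1_c2 LD2_c4 LD3_c27) Lrfl Lrfl
theorem f220517 : Led Lsl_dt (LP (LK LD1_c5 LD2_c29 LD3_c35)) = (LP (LK LD1_c4 LD2_c14 LD3_c3)) :=
  Lgr Lrot79 (Lpe (K14.f220350 IH) (Lpr_df (K12.f220515 IH) (Lpe (f167367 IH) (Lpn (LP (LK LD1_c4 LD2_c14 LD3_c3))))))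
theorem f188788 : Led Lsl_dt (LP (LK LD1_c8 LD2_c35 LD3_c54)) = (LP (LK LD1_c8 LD2_c35 LD3_c54)) :=
  Lgr Lrot79 (Lpe (K12.f188786 IH) (Lpr_df (K12.f188784 IH) (Lpe (f188787 IH) (Lpn (LP (LK LD1_c8 LD2_c35 LD3_c54))))))
theorem f188797 : Led Lsl_gt (LP (LK LD1_c16 LD2_c7 LD3_c11)) = (LP (LK LD1_c8 LD2_c35 LD3_c54)) :=
  Lre_g IH (LK LD1_c16 LD2_c7 LD3_c11) (LK LD1_c8 LD2_c35 LD3_c54) Lrfl Lrfl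
theorem f188798 : Led Lsl_dt (LP (LK LD1_c26 LD2_c3 LD3_c54)) = (LP (LK LD1_c16 LD2_c7 LD3_c11)) :=
  Lre_d IH (LK LD1_c26 LD2_c3 LD3_c54) (LK LD1_c16 LD2_c7 LD3_c11) Lrfl Lrfl
theorem f299289 : Led Lsl_ef (LP (LK LD1_c19 LD2_c35 LD3_c45)) = (LP (LK LD1_c26 LD2_c3 LD3_c54)) :=
  Lgr Lrot17 (Lpe (f220374 IH) (Lpe (f220387 IH) (Lpr_dt (f220517 IH) (Lpr_gf (K18.f299285 IH) (Lpe (K18.f266930 IH) (Lpr_gf (K13.f229622 IH) (Lpe (K12.f188796 IH) (Lpr_dt (f188788 IH) (Lpe (f188797 IH) (Lpe (f188798 IH) (Lpn (LP (LK LD1_c26 LD2_c3 LD3_c54)))))))))))))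
theorem f322610 : Led Lsl_ct (LP (LK LD1_c26 LD2_c0 LD3_c60)) = (LP (LK LD1_c26 LD2_c3 LD3_c54)) :=
  Lgr Lrot15 (Lpr_ef (f322608 IH) (Lpe (f321596 IH) (Lpr_ef (f299289 IH) (Lpn (LP (LK LD1_c26 LD2_c3 LD3_c54))))))
theorem f322587 : Led Lsl_df (LP (LK LD1_c26 LD2_c0 LD3_c60)) = (LP (LK LD1_c25 LD2_c37 LD3_c4)) :=
  Lgr Lrot38 (Lpr_dt (f322580 IH) (Lpn (LP (LK LD1_c25 LD2_c37 LD3_c4))))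
theorem f218109 : Led Lsl_dt (LP (LK LD1_c16 LD2_c7 LD3_c11)) = (LP (LK LD1_c26 LD2_c3 LD3_c54)) :=
  Lre_d IH (LK LD1_c16 LD2_c7 LD3_c11) (LK LD1_c26 LD2_c3 LD3_c54) Lrfl Lrfl
theorem f218107 : Led Lsl_gt (LP (LK LD1_c8 LD2_c35 LD3_c55)) = (LP (LK LD1_c16 LD2_c7 LD3_c11)) :=
  Lgr Lrot5 (Lpr_ft (K18.f218097 IH) (Lpe (K12.f218092 IH) (Lpe (f188797 IH) (Lpn (LP (LK LD1_c16 LD2_c7 LD3_c11))))))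
theorem f188776 : Led Lsl_dt (LP (LK LD1_c8 LD2_c35 LD3_c55)) = (LP (LK LD1_c8 LD2_c35 LD3_c55)) :=
  Lgr Lrot77 (Lpe (K18.f188774 IH) (Lpe (K10.f188773 IH) (Lpr_ef (K12.f188768 IH) (Lpe (K10.f188765 IH) (Lpe (K18.f188775 IH) (Lpn (LP (LK LD1_c8 LD2_c35 LD3_c55))))))))
theorem f322614 : Led Lsl_gt (LP (LK LD1_c9 LD2_c38 LD3_c39)) = (LP (LK LD1_c8 LD2_c35 LD3_c55)) :=
  Lgr Lrot180 (Lpe (f308754 IH) (Lpr_gt (f232835 IH) (Lpr_dt (K13.f199941 IH) (Lpe (f219231 IH) (Lpe (f322587 IH) (Lpr_ct (f322610 IH) (Lpe (f218109 IH) (Lpe (f218107 IH) (Lpe (f188776 IH) (Lpn (LP (LK LD1_c8 LD2_c35 LD3_c55))))))))))))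
theorem f299342 : Led Lsl_dt (LP (LK LD1_c17 LD2_c44 LD3_c57)) = (LP (LK LD1_c9 LD2_c38 LD3_c39)) :=
  Lre_d IH (LK LD1_c17 LD2_c44 LD3_c57) (LK LD1_c9 LD2_c38 LD3_c39) Lrfl Lrfl
theorem f237903 : Led Lsl_et (LP (LK LD1_c4 LD2_c18 LD3_c61)) = (LP (LK LD1_c2 LD2_c6 LD3_c46)) :=
  Lre_e IH (LK LD1_c4 LD2_c18 LD3_c61) (LK LD1_c2 LD2_c6 LD3_c46) Lrfl Lrfl
theorem f2423 : Led Lsl_et (LP (LK LD1_c9 LD2_c38 LD3_c41)) = (LP (LK LD1_c4 LD2_c53 LD3_c18)) :=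
  Lre_e IH (LK LD1_c9 LD2_c38 LD3_c41) (LK LD1_c4 LD2_c53 LD3_c18) Lrfl Lrfl
theorem f299312 : Led Lsl_df (LP (LK LD1_c8 LD2_c11 LD3_c54)) = (LP (LK LD1_c9 LD2_c38 LD3_c41)) :=
  Lgr Lrot170 (Lpr_gt (K19.f237929 IH) (Lpe (K17.f237922 IH) (Lpr_et (f237903 IH) (Lpr_gt (K18.f299283 IH) (Lpr_dt (K18.f2041 IH) (Lpr_gt (K9.f1600 IH) (Lpe (K0.f1580 IH) (Lpr_et (K0.f1577 IH) (Lpe (K19.f29795 IH) (Lpe (f2423 IH) (Lpn (LP (LK LD1_c9 LD2_c38 LD3_c41)))))))))))))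
theorem f299320 : Led Lsl_et (LP (LK LD1_c4 LD2_c53 LD3_c18)) = (LP (LK LD1_c9 LD2_c38 LD3_c41)) :=
  Lre_e IH (LK LD1_c4 LD2_c53 LD3_c18) (LK LD1_c9 LD2_c38 LD3_c41) Lrfl Lrfl
theorem f2418 : Led Lsl_dt (LP (LK LD1_c9 LD2_c38 LD3_c40)) = (LP (LK LD1_c4 LD2_c53 LD3_c18)) :=
  Lre_d IH (LK LD1_c9 LD2_c38 LD3_c40) (LK LD1_c4 LD2_c53 LD3_c18) Lrfl Lrfl
theorem f299321 : Led Lsl_et (LP (LK LD1_c8 LD2_c10 LD3_c17)) = (LP (LK LD1_c9 LD2_c38 LD3_c40)) :=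
  Lgr Lrot71 (Lpe (K19.f223688 IH) (Lpr_ef (K19.f237944 IH) (Lpr_df (f299312 IH) (Lpe (f299320 IH) (Lpe (f2418 IH) (Lpn (LP (LK LD1_c9 LD2_c38 LD3_c40))))))))
theorem f199266 : Led Lsl_bt (LP (LK LD1_c15 LD2_c23 LD3_c18)) = (LP (LK LD1_c8 LD2_c10 LD3_c17)) :=
  Lre_b IH (LK LD1_c15 LD2_c23 LD3_c18) (LK LD1_c8 LD2_c10 LD3_c17) Lrfl Lrfl
theorem f299323 : Led Lsl_bt (LP (LK LD1_c9 LD2_c38 LD3_c40)) = (LP (LK LD1_c17 LD2_c44 LD3_c57)) :=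
  Lre_b IH (LK LD1_c9 LD2_c38 LD3_c40) (LK LD1_c17 LD2_c44 LD3_c57) Lrfl Lrfl
theorem f299324 : Led Lsl_ef (LP (LK LD1_c15 LD2_c23 LD3_c18)) = (LP (LK LD1_c17 LD2_c44 LD3_c57)) :=
  Lgr Lrot29 (Lpr_bt (f199266 IH) (Lpr_et (f299321 IH) (Lpr_bt (f299323 IH) (Lpn (LP (LK LD1_c17 LD2_c44 LD3_c57))))))
theorem f246735 : Led Lsl_df (LP (LK LD1_c2 LD2_c25 LD3_c29)) = (LP (LK LD1_c4 LD2_c12 LD3_c18)) :=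
  Lgr Lrot12 (Lpe (K14.f246720 IH) (Lpr_dt (K14.f246733 IH) (Lpr_bt (K14.f167096 IH) (Lpn (LP (LK LD1_c4 LD2_c12 LD3_c18))))))
theorem f322624 : Led Lsl_gf (LP (LK LD1_c15 LD2_c23 LD3_c18)) = (LP (LK LD1_c8 LD2_c24 LD3_c9)) :=
  Lgr Lrot141 (Lpr_ef (f299324 IH) (Lpr_dt (f299342 IH) (Lpr_gt (f322614 IH) (Lpe (f188776 IH) (Lpr_et (K18.f188775 IH) (Lpr_gt (K19.f270888 IH) (Lpe (K16.f270884 IH) (Lpr_gt (K14.f246722 IH) (Lpr_df (f246735 IH) (Lpr_et (K14.f167200 IH) (Lpn (LP (LK LD1_c8 LD2_c24 LD3_c9)))))))))))))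
theorem f237965 : Led Lsl_dt (LP (LK LD1_c25 LD2_c15 LD3_c32)) = (LP (LK LD1_c15 LD2_c23 LD3_c18)) :=
  Lre_d IH (LK LD1_c25 LD2_c15 LD3_c32) (LK LD1_c15 LD2_c23 LD3_c18) Lrfl Lrfl
theorem f237946 : Led Lsl_bt (LP (LK LD1_c15 LD2_c23 LD3_c20)) = (LP (LK LD1_c25 LD2_c15 LD3_c32)) :=
  Lre_b IH (LK LD1_c15 LD2_c23 LD3_c20) (LK LD1_c25 LD2_c15 LD3_c32) Lrfl Lrfl
theorem f237934 : Led Lsl_bt (LP (LK LD1_c15 LD2_c26 LD3_c3)) = (LP (LK LD1_c8 LD2_c11 LD3_c54)) :=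
  Lre_b IH (LK LD1_c15 LD2_c26 LD3_c3) (LK LD1_c8 LD2_c11 LD3_c54) Lrfl Lrfl
theorem f237947 : Led Lsl_et (LP (LK LD1_c25 LD2_c15 LD3_c32)) = (LP (LK LD1_c15 LD2_c26 LD3_c3)) :=
  Lgr Lrot74 (Lpe (f237946 IH) (Lpr_ef (K19.f237944 IH) (Lpe (f237934 IH) (Lpn (LP (LK LD1_c15 LD2_c26 LD3_c3))))))
theorem f322626 : Led Lsl_gt (LP (LK LD1_c15 LD2_c26 LD3_c3)) = (LP (LK LD1_c9 LD2_c33 LD3_c18)) :=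
  Lgr Lrot137 (Lpe (f237947 IH) (Lpr_dt (f237965 IH) (Lpr_gf (f322624 IH) (Lpe (f246742 IH) (Lpr_et (K14.f171972 IH) (Lpr_gf (K14.f252101 IH) (Lpe (K17.f220630 IH) (Lpr_dt (K17.f220623 IH) (Lpe (K18.f278434 IH) (Lpr_df (K18.f278436 IH) (Lpn (LP (LK LD1_c9 LD2_c33 LD3_c18)))))))))))))
theorem f231448 : Led Lsl_gt (LP (LK LD1_c19 LD2_c2 LD3_c43)) = (LP (LK LD1_c10 LD2_c30 LD3_c34)) :=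
  Lre_g IH (LK LD1_c19 LD2_c2 LD3_c43) (LK LD1_c10 LD2_c30 LD3_c34) Lrfl Lrfl
theorem f322632 : Led Lsl_cf (LP (LK LD1_c15 LD2_c26 LD3_c3)) = (LP (LK LD1_c19 LD2_c2 LD3_c43)) :=
  Lgr Lrot166 (Lpr_gt (f322626 IH) (Lpe (K18.f278436 IH) (Lpr_gt (K18.f278434 IH) (Lpe (K17.f220625 IH) (Lpe (K17.f286965 IH) (Lpe (K19.f277885 IH) (Lpr_gf (K18.f277842 IH) (Lpe (K18.f231416 IH) (Lpe (f231448 IH) (Lpn (LP (LK LD1_c19 LD2_c2 LD3_c43))))))))))))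
theorem f237937 : Led Lsl_bt (LP (LK LD1_c25 LD2_c15 LD3_c32)) = (LP (LK LD1_c15 LD2_c23 LD3_c20)) :=
  Lre_b IH (LK LD1_c25 LD2_c15 LD3_c32) (LK LD1_c15 LD2_c23 LD3_c20) Lrfl Lrfl
theorem f237938 : Led Lsl_bt (LP (LK LD1_c8 LD2_c11 LD3_c54)) = (LP (LK LD1_c15 LD2_c26 LD3_c3)) :=
  Lre_b IH (LK LD1_c8 LD2_c11 LD3_c54) (LK LD1_c15 LD2_c26 LD3_c3) Lrfl Lrfl
theorem f237939 : Led Lsl_ef (LP (LK LD1_c25 LD2_c15 LD3_c32)) = (LP (LK LD1_c15 LD2_c26 LD3_c3)) :=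
  Lgr Lrot29 (Lpr_bt (f237937 IH) (Lpr_et (K19.f237935 IH) (Lpr_bt (f237938 IH) (Lpn (LP (LK LD1_c15 LD2_c26 LD3_c3))))))
theorem f277844 : Led Lsl_et (LP (LK LD1_c28 LD2_c28 LD3_c59)) = (LP (LK LD1_c19 LD2_c2 LD3_c43)) :=
  Lre_e IH (LK LD1_c28 LD2_c28 LD3_c59) (LK LD1_c19 LD2_c2 LD3_c43) Lrfl Lrfl
theorem f322643 : Led Lsl_ct (LP (LK LD1_c25 LD2_c15 LD3_c32)) = (LP (LK LD1_c28 LD2_c28 LD3_c59)) :=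
  Lgr Lrot15 (Lpr_ef (f237939 IH) (Lpr_cf (f322632 IH) (Lpe (f277844 IH) (Lpn (LP (LK LD1_c28 LD2_c28 LD3_c59))))))
theorem f237964 : Led Lsl_dt (LP (LK LD1_c15 LD2_c23 LD3_c18)) = (LP (LK LD1_c25 LD2_c15 LD3_c32)) :=
  Lre_d IH (LK LD1_c15 LD2_c23 LD3_c18) (LK LD1_c25 LD2_c15 LD3_c32) Lrfl Lrfl
theorem f257011 : Led Lsl_et (LP (LK LD1_c5 LD2_c20 LD3_c39)) = (LP (LK LD1_c2 LD2_c36 LD3_c58)) :=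
  Lre_e IH (LK LD1_c5 LD2_c20 LD3_c39) (LK LD1_c2 LD2_c36 LD3_c58) Lrfl Lrfl
theorem f184262 : Led Lsl_dt (LP (LK LD1_c5 LD2_c20 LD3_c39)) = (LP (LK LD1_c10 LD2_c31 LD3_c22)) :=
  Lre_d IH (LK LD1_c5 LD2_c20 LD3_c39) (LK LD1_c10 LD2_c31 LD3_c22) Lrfl Lrfl
theorem f277845 : Led Lsl_gt (LP (LK LD1_c10 LD2_c31 LD3_c22)) = (LP (LK LD1_c19 LD2_c4 LD3_c17)) :=
  Lre_g IH (LK LD1_c10 LD2_c31 LD3_c22) (LK LD1_c19 LD2_c4 LD3_c17) Lrfl Lrfl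
theorem f277846 : Led Lsl_dt (LP (LK LD1_c28 LD2_c28 LD3_c59)) = (LP (LK LD1_c19 LD2_c4 LD3_c17)) :=
  Lgr Lrot37 (Lpr_et (f277844 IH) (Lpr_gt (f231448 IH) (Lpr_dt (K18.f231416 IH) (Lpe (K18.f277842 IH) (Lpe (K18.f277841 IH) (Lpr_et (K18.f277831 IH) (Lpr_gt (K16.f277833 IH) (Lpe (f257011 IH) (Lpr_dt (f184262 IH) (Lpr_gt (f277845 IH) (Lpn (LP (LK LD1_c19 LD2_c4 LD3_c17)))))))))))))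
theorem f277854 : Led Lsl_df (LP (LK LD1_c28 LD2_c28 LD3_c59)) = (LP (LK LD1_c19 LD2_c4 LD3_c17)) :=
  Lgr Lrot38 (Lpr_dt (f277846 IH) (Lpn (LP (LK LD1_c19 LD2_c4 LD3_c17))))
theorem f169210 : Led Lsl_gt (LP (LK LD1_c10 LD2_c31 LD3_c21)) = (LP (LK LD1_c5 LD2_c20 LD3_c39)) :=
  Lre_g IH (LK LD1_c10 LD2_c31 LD3_c21) (LK LD1_c5 LD2_c20 LD3_c39) Lrfl Lrfl
theorem f322649 : Led Lsl_cf (LP (LK LD1_c9 LD2_c41 LD3_c51)) = (LP (LK LD1_c10 LD2_c31 LD3_c21)) :=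
  Lgr Lrot166 (Lpr_gt (f171976 IH) (Lpr_dt (f246742 IH) (Lpe (f322624 IH) (Lpr_dt (f237964 IH) (Lpr_ct (f322643 IH) (Lpr_df (f277854 IH) (Lpe (f277845 IH) (Lpe (f184262 IH) (Lpe (f169210 IH) (Lpn (LP (LK LD1_c10 LD2_c31 LD3_c21))))))))))))
theorem f277860 : Led Lsl_et (LP (LK LD1_c5 LD2_c21 LD3_c32)) = (LP (LK LD1_c10 LD2_c31 LD3_c21)) :=
  Lgr Lrot121 (Lpr_dt (K16.f215894 IH) (Lpr_gf (K16.f275188 IH) (Lpe (K14.f231410 IH) (Lpr_et (K14.f254309 IH) (Lpe (f231448 IH) (Lpe (f277844 IH) (Lpr_dt (f277846 IH) (Lpe (f277845 IH) (Lpe (f184262 IH) (Lpe (f169210 IH) (Lpn (LP (LK LD1_c10 LD2_c31 LD3_c21)))))))))))))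
theorem f322653 : Led Lsl_et (LP (LK LD1_c9 LD2_c41 LD3_c51)) = (LP (LK LD1_c8 LD2_c13 LD3_c10)) :=
  Lgr Lrot158 (Lpr_cf (f322649 IH) (Lpe (f277860 IH) (Lpe (K16.f215875 IH) (Lpn (LP (LK LD1_c8 LD2_c13 LD3_c10))))))
theorem f246777 : Led Lsl_df (LP (LK LD1_c16 LD2_c1 LD3_c6)) = (LP (LK LD1_c9 LD2_c41 LD3_c51)) :=
  Lgr Lrot38 (Lpr_dt (f246774 IH) (Lpn (LP (LK LD1_c9 LD2_c41 LD3_c51))))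
theorem f27575 : Led Lsl_gt (LP (LK LD1_c9 LD2_c33 LD3_c22)) = (LP (LK LD1_c17 LD2_c35 LD3_c52)) :=
  Lre_g IH (LK LD1_c9 LD2_c33 LD3_c22) (LK LD1_c17 LD2_c35 LD3_c52) Lrfl Lrfl
theorem f191013 : Led Lsl_et (LP (LK LD1_c27 LD2_c23 LD3_c59)) = (LP (LK LD1_c17 LD2_c35 LD3_c52)) :=
  Lre_e IH (LK LD1_c27 LD2_c23 LD3_c59) (LK LD1_c17 LD2_c35 LD3_c52) Lrfl Lrfl
theorem f322666 : Led Lsl_df (LP (LK LD1_c17 LD2_c43 LD3_c20)) = (LP (LK LD1_c27 LD2_c23 LD3_c59)) :=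
  Lgr Lrot170 (Lpe (f321161 IH) (Lpr_df (f246777 IH) (Lpr_et (f322653 IH) (Lpr_gt (K16.f179073 IH) (Lpr_dt (K12.f179070 IH) (Lpr_gt (K10.f191011 IH) (Lpe (K14.f27572 IH) (Lpr_et (K10.f27574 IH) (Lpr_gt (f27575 IH) (Lpe (f191013 IH) (Lpn (LP (LK LD1_c27 LD2_c23 LD3_c59)))))))))))))
theorem f264053 : Led Lsl_et (LP (LK LD1_c17 LD2_c35 LD3_c52)) = (LP (LK LD1_c27 LD2_c23 LD3_c59)) :=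
  Lre_e IH (LK LD1_c17 LD2_c35 LD3_c52) (LK LD1_c27 LD2_c23 LD3_c59) Lrfl Lrfl
theorem f200556 : Led Lsl_et (LP (LK LD1_c20 LD2_c2 LD3_c29)) = (LP (LK LD1_c11 LD2_c8 LD3_c47)) :=
  Lre_e IH (LK LD1_c20 LD2_c2 LD3_c29) (LK LD1_c11 LD2_c8 LD3_c47) Lrfl Lrfl
theorem f223905 : Led Lsl_et (LP (LK LD1_c9 LD2_c41 LD3_c6)) = (LP (LK LD1_c4 LD2_c54 LD3_c48)) :=
  Lre_e IH (LK LD1_c9 LD2_c41 LD3_c6) (LK LD1_c4 LD2_c54 LD3_c48) Lrfl Lrfl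
theorem f27569 : Led Lsl_df (LP (LK LD1_c9 LD2_c33 LD3_c22)) = (LP (LK LD1_c9 LD2_c33 LD3_c22)) :=
  Lgr Lrot12 (Lpr_bt (K14.f27567 IH) (Lpr_dt (K19.f27565 IH) (Lpr_bt (K19.f27568 IH) (Lpn (LP (LK LD1_c9 LD2_c33 LD3_c22))))))
theorem f195944 : Led Lsl_df (LP (LK LD1_c10 LD2_c9 LD3_c36)) = (LP (LK LD1_c10 LD2_c9 LD3_c36)) :=
  Lgr Lrot18 (Lpr_at (K12.f195938 IH) (Lpe (f27569 IH) (Lpe (K12.f195940 IH) (Lpn (LP (LK LD1_c10 LD2_c9 LD3_c36))))))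
theorem f224228 : Led Lsl_df (LP (LK LD1_c9 LD2_c41 LD3_c6)) = (LP (LK LD1_c9 LD2_c41 LD3_c6)) :=
  Lgr Lrot78 (Lpe (K12.f224216 IH) (Lpe (f195944 IH) (Lpr_ft (K12.f224222 IH) (Lpn (LP (LK LD1_c9 LD2_c41 LD3_c6))))))
theorem f224433 : Led Lsl_gt (LP (LK LD1_c17 LD2_c35 LD3_c52)) = (LP (LK LD1_c9 LD2_c41 LD3_c6)) :=
  Lgr Lrot46 (Lpe (f27575 IH) (Lpr_ft (K10.f196848 IH) (Lpr_at (K14.f224218 IH) (Lpn (LP (LK LD1_c9 LD2_c41 LD3_c6))))))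
theorem f264048 : Led Lsl_dt (LP (LK LD1_c20 LD2_c2 LD3_c29)) = (LP (LK LD1_c17 LD2_c35 LD3_c52)) :=
  Lgr Lrot136 (Lpr_et (f200556 IH) (Lpe (f200536 IH) (Lpe (K12.f200524 IH) (Lpr_dt (K12.f200416 IH) (Lpr_gf (K15.f264032 IH) (Lpe (K15.f223910 IH) (Lpr_gf (K13.f223897 IH) (Lpe (f223905 IH) (Lpe (f224228 IH) (Lpe (f224433 IH) (Lpn (LP (LK LD1_c17 LD2_c35 LD3_c52)))))))))))))
theorem f264052 : Led Lsl_et (LP (LK LD1_c11 LD2_c8 LD3_c47)) = (LP (LK LD1_c20 LD2_c2 LD3_c29)) :=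
  Lre_e IH (LK LD1_c11 LD2_c8 LD3_c47) (LK LD1_c20 LD2_c2 LD3_c29) Lrfl Lrfl
theorem f322672 : Led Lsl_et (LP (LK LD1_c17 LD2_c43 LD3_c20)) = (LP (LK LD1_c20 LD2_c2 LD3_c28)) :=
  Lgr Lrot71 (Lpr_df (f322666 IH) (Lpe (f264053 IH) (Lpe (f264048 IH) (Lpe (f264052 IH) (Lpe (f200553 IH) (Lpn (LP (LK LD1_c20 LD2_c2 LD3_c28))))))))
theorem f321158 : Led Lsl_bt (LP (LK LD1_c9 LD2_c37 LD3_c43)) = (LP (LK LD1_c17 LD2_c43 LD3_c20)) :=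
  Lre_b IH (LK LD1_c9 LD2_c37 LD3_c43) (LK LD1_c17 LD2_c43 LD3_c20) Lrfl Lrfl
theorem f322708 : Led Lsl_bf (LP (LK LD1_c17 LD2_c43 LD3_c22)) = (LP (LK LD1_c20 LD2_c2 LD3_c28)) :=
  Lgr Lrot96 (Lpr_et (K19.f200573 IH) (Lpr_bt (f321158 IH) (Lpr_et (f322672 IH) (Lpn (LP (LK LD1_c20 LD2_c2 LD3_c28))))))
theorem f200552 : Led Lsl_dt (LP (LK LD1_c11 LD2_c8 LD3_c47)) = (LP (LK LD1_c20 LD2_c2 LD3_c28)) :=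
  Lre_d IH (LK LD1_c11 LD2_c8 LD3_c47) (LK LD1_c20 LD2_c2 LD3_c28) Lrfl Lrfl
theorem f322712 : Led Lsl_bt (LP (LK LD1_c15 LD2_c34 LD3_c55)) = (LP (LK LD1_c11 LD2_c8 LD3_c47)) :=
  Lgr Lrot95 (Lpr_df (K19.f301097 IH) (Lpr_bf (f322708 IH) (Lpe (f200552 IH) (Lpn (LP (LK LD1_c11 LD2_c8 LD3_c47))))))
theorem f297767 : Led Lsl_gt (LP (LK LD1_c11 LD2_c8 LD3_c47)) = (LP (LK LD1_c17 LD2_c48 LD3_c55)) :=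
  Lgr Lrot46 (Lpe (f200536 IH) (Lpr_ft (K18.f200530 IH) (Lpr_at (K18.f297757 IH) (Lpn (LP (LK LD1_c17 LD2_c48 LD3_c55))))))
theorem f309972 : Led Lsl_bt (LP (LK LD1_c5 LD2_c22 LD3_c49)) = (LP (LK LD1_c10 LD2_c34 LD3_c61)) :=
  Lgr Lrot92 (Lpr_ct (f305405 IH) (Lpr_gt (f305406 IH) (Lpe (K18.f228421 IH) (Lpr_bt (f200435 IH) (Lpe (K19.f309963 IH) (Lpr_ct (K19.f305103 IH) (Lpr_gt (K19.f309968 IH) (Lpe (K18.f28881 IH) (Lpe (K13.f196655 IH) (Lpr_gt (K19.f246333 IH) (Lpn (LP (LK LD1_c10 LD2_c34 LD3_c61)))))))))))))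
theorem f220681 : Led Lsl_ct (LP (LK LD1_c2 LD2_c41 LD3_c15)) = (LP (LK LD1_c5 LD2_c29 LD3_c50)) :=
  Lre_c IH (LK LD1_c2 LD2_c41 LD3_c15) (LK LD1_c5 LD2_c29 LD3_c50) Lrfl Lrfl
theorem f220720 : Led Lsl_gt (LP (LK LD1_c5 LD2_c29 LD3_c50)) = (LP (LK LD1_c10 LD2_c50 LD3_c55)) :=
  Lre_g IH (LK LD1_c5 LD2_c29 LD3_c50) (LK LD1_c10 LD2_c50 LD3_c55) Lrfl Lrfl
theorem f322718 : Led Lsl_ct (LP (LK LD1_c15 LD2_c34 LD3_c55)) = (LP (LK LD1_c10 LD2_c50 LD3_c55)) :=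
  Lgr Lrot10 (Lpr_bt (f322712 IH) (Lpr_gt (f297767 IH) (Lpe (K17.f286989 IH) (Lpe (f305409 IH) (Lpe (f305405 IH) (Lpr_bt (f309972 IH) (Lpr_gt (K19.f220650 IH) (Lpr_bf (K16.f220679 IH) (Lpr_ct (f220681 IH) (Lpr_gt (f220720 IH) (Lpn (LP (LK LD1_c10 LD2_c50 LD3_c55)))))))))))))
theorem f250924 : Led Lsl_et (LP (LK LD1_c10 LD2_c50 LD3_c55)) = (LP (LK LD1_c19 LD2_c36 LD3_c39)) :=
  Lre_e IH (LK LD1_c10 LD2_c50 LD3_c55) (LK LD1_c19 LD2_c36 LD3_c39) Lrfl Lrfl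
theorem f322723 : Led Lsl_cf (LP (LK LD1_c19 LD2_c53 LD3_c50)) = (LP (LK LD1_c19 LD2_c36 LD3_c39)) :=
  Lgr Lrot39 (Lpr_et (K19.f246714 IH) (Lpr_ct (f322718 IH) (Lpr_et (f250924 IH) (Lpn (LP (LK LD1_c19 LD2_c36 LD3_c39))))))
theorem f213107 : Led Lsl_dt (LP (LK LD1_c11 LD2_c2 LD3_c32)) = (LP (LK LD1_c19 LD2_c53 LD3_c50)) :=
  Lre_d IH (LK LD1_c11 LD2_c2 LD3_c32) (LK LD1_c19 LD2_c53 LD3_c50) Lrfl Lrfl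
theorem f213044 : Led Lsl_gt (LP (LK LD1_c5 LD2_c35 LD3_c11)) = (LP (LK LD1_c11 LD2_c2 LD3_c31)) :=
  Lre_g IH (LK LD1_c5 LD2_c35 LD3_c11) (LK LD1_c11 LD2_c2 LD3_c31) Lrfl Lrfl
theorem f213756 : Led Lsl_gf (LP (LK LD1_c10 LD2_c23 LD3_c39)) = (LP (LK LD1_c11 LD2_c2 LD3_c31)) :=
  Lgr Lrot76 (Lpe (K10.f32933 IH) (Lpr_ff (K12.f212864 IH) (Lpr_gt (f213044 IH) (Lpn (LP (LK LD1_c11 LD2_c2 LD3_c31))))))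
theorem f250917 : Led Lsl_et (LP (LK LD1_c2 LD2_c41 LD3_c14)) = (LP (LK LD1_c5 LD2_c29 LD3_c50)) :=
  Lre_e IH (LK LD1_c2 LD2_c41 LD3_c14) (LK LD1_c5 LD2_c29 LD3_c50) Lrfl Lrfl
theorem f250919 : Led Lsl_et (LP (LK LD1_c19 LD2_c36 LD3_c39)) = (LP (LK LD1_c10 LD2_c50 LD3_c55)) :=
  Lre_e IH (LK LD1_c19 LD2_c36 LD3_c39) (LK LD1_c10 LD2_c50 LD3_c55) Lrfl Lrfl
theorem f50177 : Led Lsl_et (LP (LK LD1_c8 LD2_c6 LD3_c30)) = (LP (LK LD1_c4 LD2_c2 LD3_c55)) :=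
  Lre_e IH (LK LD1_c8 LD2_c6 LD3_c30) (LK LD1_c4 LD2_c2 LD3_c55) Lrfl Lrfl
theorem f28094 : Led Lsl_gt (LP (LK LD1_c25 LD2_c5 LD3_c56)) = (LP (LK LD1_c15 LD2_c16 LD3_c2)) :=
  Lre_g IH (LK LD1_c25 LD2_c5 LD3_c56) (LK LD1_c15 LD2_c16 LD3_c2) Lrfl Lrfl
theorem f250920 : Led Lsl_dt (LP (LK LD1_c19 LD2_c36 LD3_c39)) = (LP (LK LD1_c25 LD2_c5 LD3_c56)) :=
  Lgr Lrot136 (Lpr_et (f250919 IH) (Lpe (f220720 IH) (Lpe (f250917 IH) (Lpr_dt (K13.f220566 IH) (Lpr_gf (K15.f250904 IH) (Lpe (K14.f50169 IH) (Lpe (K12.f50166 IH) (Lpe (f50177 IH) (Lpr_dt (K9.f28085 IH) (Lpe (f28094 IH) (Lpn (LP (LK LD1_c25 LD2_c5 LD3_c56)))))))))))))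
theorem f250922 : Led Lsl_df (LP (LK LD1_c19 LD2_c36 LD3_c39)) = (LP (LK LD1_c25 LD2_c5 LD3_c56)) :=
  Lgr Lrot38 (Lpr_dt (f250920 IH) (Lpn (LP (LK LD1_c25 LD2_c5 LD3_c56))))
theorem f217202 : Led Lsl_af (LP (LK LD1_c15 LD2_c16 LD3_c2)) = (LP (LK LD1_c10 LD2_c49 LD3_c61)) :=
  Lgr Lrot45 (Lpr_ft (K9.f50226 IH) (Lpr_at (K9.f49746 IH) (Lpr_ft (K12.f217195 IH) (Lpn (LP (LK LD1_c10 LD2_c49 LD3_c61))))))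
theorem f217206 : Led Lsl_gt (LP (LK LD1_c15 LD2_c33 LD3_c14)) = (LP (LK LD1_c25 LD2_c5 LD3_c56)) :=
  Lgr Lrot5 (Lpr_ft (K12.f217195 IH) (Lpe (f217202 IH) (Lpe (f28094 IH) (Lpn (LP (LK LD1_c25 LD2_c5 LD3_c56))))))
theorem f50098 : Led Lsl_dt (LP (LK LD1_c8 LD2_c16 LD3_c21)) = (LP (LK LD1_c15 LD2_c33 LD3_c14)) :=
  Lre_d IH (LK LD1_c8 LD2_c16 LD3_c21) (LK LD1_c15 LD2_c33 LD3_c14) Lrfl Lrfl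
theorem f50217 : Led Lsl_gt (LP (LK LD1_c8 LD2_c6 LD3_c30)) = (LP (LK LD1_c15 LD2_c16 LD3_c0)) :=
  Lre_g IH (LK LD1_c8 LD2_c6 LD3_c30) (LK LD1_c15 LD2_c16 LD3_c0) Lrfl Lrfl
theorem f50218 : Led Lsl_gt (LP (LK LD1_c15 LD2_c16 LD3_c0)) = (LP (LK LD1_c8 LD2_c16 LD3_c21)) :=
  Lgr Lrot46 (Lpe (f50217 IH) (Lpr_ft (K9.f50198 IH) (Lpr_at (K9.f49761 IH) (Lpn (LP (LK LD1_c8 LD2_c16 LD3_c21))))))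
theorem f322731 : Led Lsl_ct (LP (LK LD1_c11 LD2_c2 LD3_c31)) = (LP (LK LD1_c15 LD2_c16 LD3_c0)) :=
  Lgr Lrot8 (Lpe (f213756 IH) (Lpe (K10.f32934 IH) (Lpe (K19.f222457 IH) (Lpr_dt (f213107 IH) (Lpr_cf (f322723 IH) (Lpr_df (f250922 IH) (Lpe (f217206 IH) (Lpe (f50098 IH) (Lpe (f50218 IH) (Lpn (LP (LK LD1_c15 LD2_c16 LD3_c0))))))))))))
theorem f212897 : Led Lsl_bt (LP (LK LD1_c2 LD2_c43 LD3_c34)) = (LP (LK LD1_c5 LD2_c35 LD3_c11)) :=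
  Lre_b IH (LK LD1_c2 LD2_c43 LD3_c34) (LK LD1_c5 LD2_c35 LD3_c11) Lrfl Lrfl
theorem f212912 : Led Lsl_gt (LP (LK LD1_c11 LD2_c2 LD3_c40)) = (LP (LK LD1_c5 LD2_c35 LD3_c16)) :=
  Lre_g IH (LK LD1_c11 LD2_c2 LD3_c40) (LK LD1_c5 LD2_c35 LD3_c16) Lrfl Lrfl
theorem f227243 : Led Lsl_ct (LP (LK LD1_c8 LD2_c41 LD3_c21)) = (LP (LK LD1_c16 LD2_c16 LD3_c35)) :=
  Lre_c IH (LK LD1_c8 LD2_c41 LD3_c21) (LK LD1_c16 LD2_c16 LD3_c35) Lrfl Lrfl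
theorem f275739 : Led Lsl_dt (LP (LK LD1_c26 LD2_c14 LD3_c34)) = (LP (LK LD1_c16 LD2_c16 LD3_c35)) :=
  Lre_d IH (LK LD1_c26 LD2_c14 LD3_c34) (LK LD1_c16 LD2_c16 LD3_c35) Lrfl Lrfl
theorem f241956 : Led Lsl_ct (LP (LK LD1_c5 LD2_c23 LD3_c29)) = (LP (LK LD1_c2 LD2_c38 LD3_c15)) :=
  Lre_c IH (LK LD1_c5 LD2_c23 LD3_c29) (LK LD1_c2 LD2_c38 LD3_c15) Lrfl Lrfl
theorem f234049 : Led Lsl_dt (LP (LK LD1_c10 LD2_c37 LD3_c29)) = (LP (LK LD1_c19 LD2_c14 LD3_c52)) :=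
  Lre_d IH (LK LD1_c10 LD2_c37 LD3_c29) (LK LD1_c19 LD2_c14 LD3_c52) Lrfl Lrfl
theorem f275740 : Led Lsl_gf (LP (LK LD1_c26 LD2_c14 LD3_c34)) = (LP (LK LD1_c19 LD2_c14 LD3_c52)) :=
  Lgr Lrot143 (Lpr_dt (f275739 IH) (Lpe (f227243 IH) (Lpe (K19.f227239 IH) (Lpr_gf (K17.f275737 IH) (Lpe (K16.f269896 IH) (Lpe (K16.f234100 IH) (Lpe (f241956 IH) (Lpr_gt (K18.f234048 IH) (Lpr_dt (f234049 IH) (Lpn (LP (LK LD1_c19 LD2_c14 LD3_c52))))))))))))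
theorem f275744 : Led Lsl_dt (LP (LK LD1_c16 LD2_c16 LD3_c35)) = (LP (LK LD1_c26 LD2_c14 LD3_c34)) :=
  Lre_d IH (LK LD1_c16 LD2_c16 LD3_c35) (LK LD1_c26 LD2_c14 LD3_c34) Lrfl Lrfl
theorem f275745 : Led Lsl_et (LP (LK LD1_c16 LD2_c16 LD3_c35)) = (LP (LK LD1_c11 LD2_c2 LD3_c40)) :=
  Lgr Lrot185 (Lpr_dt (f275744 IH) (Lpr_gf (f275740 IH) (Lpe (f234049 IH) (Lpe (K18.f234048 IH) (Lpe (K17.f234017 IH) (Lpr_dt (K13.f224178 IH) (Lpe (K13.f234007 IH) (Lpe (K13.f212772 IH) (Lpr_et (K12.f212918 IH) (Lpe (f212912 IH) (Lpn (LP (LK LD1_c11 LD2_c2 LD3_c40)))))))))))))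
theorem f275753 : Led Lsl_ef (LP (LK LD1_c16 LD2_c16 LD3_c35)) = (LP (LK LD1_c11 LD2_c2 LD3_c40)) :=
  Lgr Lrot88 (Lpr_et (f275745 IH) (Lpn (LP (LK LD1_c11 LD2_c2 LD3_c40))))
theorem f227238 : Led Lsl_ct (LP (LK LD1_c16 LD2_c16 LD3_c35)) = (LP (LK LD1_c8 LD2_c41 LD3_c21)) :=
  Lre_c IH (LK LD1_c16 LD2_c16 LD3_c35) (LK LD1_c8 LD2_c41 LD3_c21) Lrfl Lrfl
theorem f275759 : Led Lsl_ct (LP (LK LD1_c8 LD2_c39 LD3_c43)) = (LP (LK LD1_c11 LD2_c2 LD3_c40)) :=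
  Lgr Lrot15 (Lpr_ef (K17.f227236 IH) (Lpe (f227238 IH) (Lpr_ef (f275753 IH) (Lpn (LP (LK LD1_c11 LD2_c2 LD3_c40))))))
theorem f322735 : Led Lsl_bt (LP (LK LD1_c8 LD2_c39 LD3_c43)) = (LP (LK LD1_c10 LD2_c35 LD3_c18)) :=
  Lgr Lrot92 (Lpr_ct (f275759 IH) (Lpr_gt (f212912 IH) (Lpe (K12.f212898 IH) (Lpr_bt (f212897 IH) (Lpr_gt (f213044 IH) (Lpr_ct (f322731 IH) (Lpr_gt (f50218 IH) (Lpe (K9.f49770 IH) (Lpr_bt (K12.f50094 IH) (Lpe (K14.f196802 IH) (Lpn (LP (LK LD1_c10 LD2_c35 LD3_c18)))))))))))))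
theorem f31834 : Led Lsl_et (LP (LK LD1_c4 LD2_c20 LD3_c0)) = (LP (LK LD1_c8 LD2_c38 LD3_c0)) :=
  Lre_e IH (LK LD1_c4 LD2_c20 LD3_c0) (LK LD1_c8 LD2_c38 LD3_c0) Lrfl Lrfl
theorem f31836 : Led Lsl_at (LP (LK LD1_c8 LD2_c38 LD3_c0)) = (LP (LK LD1_c8 LD2_c38 LD3_c47)) :=
  Lgr Lrot80 (Lpe (f31834 IH) (Lpr_af (K0.f31813 IH) (Lpe (K14.f31835 IH) (Lpn (LP (LK LD1_c8 LD2_c38 LD3_c47))))))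
theorem f32007 : Led Lsl_et (LP (LK LD1_c4 LD2_c20 LD3_c28)) = (LP (LK LD1_c8 LD2_c38 LD3_c47)) :=
  Lre_e IH (LK LD1_c4 LD2_c20 LD3_c28) (LK LD1_c8 LD2_c38 LD3_c47) Lrfl Lrfl
theorem f212654 : Led Lsl_et (LP (LK LD1_c9 LD2_c0 LD3_c31)) = (LP (LK LD1_c4 LD2_c31 LD3_c16)) :=
  Lre_e IH (LK LD1_c9 LD2_c0 LD3_c31) (LK LD1_c4 LD2_c31 LD3_c16) Lrfl Lrfl
theorem f212655 : Led Lsl_ft (LP (LK LD1_c8 LD2_c38 LD3_c47)) = (LP (LK LD1_c9 LD2_c0 LD3_c31)) :=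
  Lgr Lrot86 (Lpe (f32007 IH) (Lpe (K0.f31812 IH) (Lpr_ef (K12.f54189 IH) (Lpr_ff (K12.f212644 IH) (Lpe (f212654 IH) (Lpn (LP (LK LD1_c9 LD2_c0 LD3_c31))))))))
theorem f212915 : Led Lsl_at (LP (LK LD1_c9 LD2_c0 LD3_c31)) = (LP (LK LD1_c5 LD2_c35 LD3_c16)) :=
  Lgr Lrot66 (Lpe (f212655 IH) (Lpe (f31836 IH) (Lpr_ff (K12.f212899 IH) (Lpn (LP (LK LD1_c5 LD2_c35 LD3_c16))))))
theorem f213752 : Led Lsl_gt (LP (LK LD1_c8 LD2_c38 LD3_c47)) = (LP (LK LD1_c11 LD2_c2 LD3_c40)) :=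
  Lgr Lrot5 (Lpr_ft (f212655 IH) (Lpr_at (f212915 IH) (Lpe (f212912 IH) (Lpn (LP (LK LD1_c11 LD2_c2 LD3_c40))))))
theorem f31089 : Led Lsl_ct (LP (LK LD1_c4 LD2_c20 LD3_c29)) = (LP (LK LD1_c8 LD2_c38 LD3_c47)) :=
  Lre_c IH (LK LD1_c4 LD2_c20 LD3_c29) (LK LD1_c8 LD2_c38 LD3_c47) Lrfl Lrfl
theorem f196542 : Led Lsl_bt (LP (LK LD1_c4 LD2_c1 LD3_c10)) = (LP (LK LD1_c5 LD2_c22 LD3_c27)) :=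
  Lgr Lrot127 (Lpr_bf (K10.f196540 IH) (Lpn (LP (LK LD1_c5 LD2_c22 LD3_c27))))
theorem f52375 : Led Lsl_ct (LP (LK LD1_c15 LD2_c17 LD3_c27)) = (LP (LK LD1_c8 LD2_c7 LD3_c11)) :=
  Lre_c IH (LK LD1_c15 LD2_c17 LD3_c27) (LK LD1_c8 LD2_c7 LD3_c11) Lrfl Lrfl
theorem f52398 : Led Lsl_dt (LP (LK LD1_c8 LD2_c7 LD3_c11)) = (LP (LK LD1_c4 LD2_c4 LD3_c16)) :=
  Lre_d IH (LK LD1_c8 LD2_c7 LD3_c11) (LK LD1_c4 LD2_c4 LD3_c16) Lrfl Lrfl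
theorem f52283 : Led Lsl_ft (LP (LK LD1_c8 LD2_c9 LD3_c24)) = (LP (LK LD1_c4 LD2_c4 LD3_c16)) :=
  Lre_f IH (LK LD1_c8 LD2_c9 LD3_c24) (LK LD1_c4 LD2_c4 LD3_c16) Lrfl Lrfl
theorem f52344 : Led Lsl_ct (LP (LK LD1_c4 LD2_c4 LD3_c16)) = (LP (LK LD1_c4 LD2_c1 LD3_c10)) :=
  Lgr Lrot40 (Lpe (f52283 IH) (Lpr_cf (K10.f52332 IH) (Lpe (K10.f28073 IH) (Lpn (LP (LK LD1_c4 LD2_c1 LD3_c10))))))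
theorem f52376 : Led Lsl_af (LP (LK LD1_c15 LD2_c17 LD3_c27)) = (LP (LK LD1_c15 LD2_c21 LD3_c58)) :=
  Lgr Lrot68 (Lpr_ct (f52375 IH) (Lpr_at (K10.f52362 IH) (Lpr_ct (K10.f27991 IH) (Lpn (LP (LK LD1_c15 LD2_c21 LD3_c58))))))
theorem f52601 : Led Lsl_ct (LP (LK LD1_c8 LD2_c7 LD3_c11)) = (LP (LK LD1_c15 LD2_c17 LD3_c27)) :=
  Lre_c IH (LK LD1_c8 LD2_c7 LD3_c11) (LK LD1_c15 LD2_c17 LD3_c27) Lrfl Lrfl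
theorem f52602 : Led Lsl_ct (LP (LK LD1_c4 LD2_c1 LD3_c10)) = (LP (LK LD1_c4 LD2_c4 LD3_c16)) :=
  Lgr Lrot53 (Lpr_df (K19.f27980 IH) (Lpe (f52344 IH) (Lpe (f52398 IH) (Lpe (f52375 IH) (Lpe (K10.f51028 IH) (Lpr_ft (K10.f52590 IH) (Lpe (f52376 IH) (Lpe (f52601 IH) (Lpe (K10.f52305 IH) (Lpn (LP (LK LD1_c4 LD2_c4 LD3_c16))))))))))))
theorem f52607 : Led Lsl_gt (LP (LK LD1_c4 LD2_c4 LD3_c16)) = (LP (LK LD1_c8 LD2_c9 LD3_c22)) :=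
  Lre_g IH (LK LD1_c4 LD2_c4 LD3_c16) (LK LD1_c8 LD2_c9 LD3_c22) Lrfl Lrfl
theorem f189905 : Led Lsl_gt (LP (LK LD1_c4 LD2_c19 LD3_c55)) = (LP (LK LD1_c8 LD2_c37 LD3_c45)) :=
  Lre_g IH (LK LD1_c4 LD2_c19 LD3_c55) (LK LD1_c8 LD2_c37 LD3_c45) Lrfl Lrfl
theorem f168889 : Led Lsl_bt (LP (LK LD1_c1 LD2_c10 LD3_c6)) = (LP (LK LD1_c2 LD2_c25 LD3_c51)) :=
  Lre_b IH (LK LD1_c1 LD2_c10 LD3_c6) (LK LD1_c2 LD2_c25 LD3_c51) Lrfl Lrfl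
theorem f168890 : Led Lsl_bt (LP (LK LD1_c2 LD2_c59 LD3_c37)) = (LP (LK LD1_c1 LD2_c25 LD3_c32)) :=
  Lre_b IH (LK LD1_c2 LD2_c59 LD3_c37) (LK LD1_c1 LD2_c25 LD3_c32) Lrfl Lrfl
theorem f168891 : Led Lsl_dt (LP (LK LD1_c2 LD2_c25 LD3_c51)) = (LP (LK LD1_c2 LD2_c59 LD3_c37)) :=
  Lgr Lrot79 (Lpe (f168889 IH) (Lpr_df (K14.f168883 IH) (Lpe (f168890 IH) (Lpn (LP (LK LD1_c2 LD2_c59 LD3_c37))))))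
theorem f168950 : Led Lsl_gt (LP (LK LD1_c6 LD2_c7 LD3_c1)) = (LP (LK LD1_c2 LD2_c59 LD3_c37)) :=
  Lre_g IH (LK LD1_c6 LD2_c7 LD3_c1) (LK LD1_c2 LD2_c59 LD3_c37) Lrfl Lrfl
theorem f235113 : Led Lsl_dt (LP (LK LD1_c8 LD2_c37 LD3_c45)) = (LP (LK LD1_c6 LD2_c7 LD3_c1)) :=
  Lgr Lrot171 (Lpe (f189905 IH) (Lpe (K19.f32034 IH) (Lpr_dt (K13.f32031 IH) (Lpe (K10.f32028 IH) (Lpe (K0.f31707 IH) (Lpr_et (K13.f33295 IH) (Lpr_gf (K13.f235105 IH) (Lpe (K14.f168940 IH) (Lpr_dt (f168891 IH) (Lpe (f168950 IH) (Lpn (LP (LK LD1_c6 LD2_c7 LD3_c1)))))))))))))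
theorem f235118 : Led Lsl_df (LP (LK LD1_c8 LD2_c37 LD3_c45)) = (LP (LK LD1_c6 LD2_c7 LD3_c1)) :=
  Lgr Lrot38 (Lpr_dt (f235113 IH) (Lpn (LP (LK LD1_c6 LD2_c7 LD3_c1))))
theorem f235120 : Led Lsl_et (LP (LK LD1_c6 LD2_c7 LD3_c1)) = (LP (LK LD1_c11 LD2_c57 LD3_c3)) :=
  Lre_e IH (LK LD1_c6 LD2_c7 LD3_c1) (LK LD1_c11 LD2_c57 LD3_c3) Lrfl Lrfl
theorem f27469 : Led Lsl_dt (LP (LK LD1_c8 LD2_c28 LD3_c38)) = (LP (LK LD1_c4 LD2_c14 LD3_c54)) :=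
  Lre_d IH (LK LD1_c8 LD2_c28 LD3_c38) (LK LD1_c4 LD2_c14 LD3_c54) Lrfl Lrfl
theorem f235125 : Led Lsl_gf (LP (LK LD1_c8 LD2_c28 LD3_c38)) = (LP (LK LD1_c11 LD2_c57 LD3_c3)) :=
  Lgr Lrot138 (Lpr_dt (f27469 IH) (Lpr_gt (K19.f27468 IH) (Lpr_df (K11.f27433 IH) (Lpr_et (K11.f27458 IH) (Lpe (K11.f200696 IH) (Lpe (K19.f189909 IH) (Lpe (K19.f189891 IH) (Lpr_gt (f189905 IH) (Lpr_df (f235118 IH) (Lpr_et (f235120 IH) (Lpn (LP (LK LD1_c11 LD2_c57 LD3_c3)))))))))))))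
theorem f312202 : Led Lsl_et (LP (LK LD1_c5 LD2_c36 LD3_c26)) = (LP (LK LD1_c8 LD2_c28 LD3_c38)) :=
  Lgr Lrot122 (Lpr_dt (K19.f309956 IH) (Lpe (K19.f312185 IH) (Lpe (K19.f237972 IH) (Lpr_et (K19.f312196 IH) (Lpr_gt (K19.f189904 IH) (Lpe (K19.f189891 IH) (Lpr_gt (f189905 IH) (Lpr_df (f235118 IH) (Lpr_et (f235120 IH) (Lpe (f235125 IH) (Lpn (LP (LK LD1_c8 LD2_c28 LD3_c38)))))))))))))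
theorem f305101 : Led Lsl_ct (LP (LK LD1_c11 LD2_c4 LD3_c61)) = (LP (LK LD1_c5 LD2_c36 LD3_c26)) :=
  Lre_c IH (LK LD1_c11 LD2_c4 LD3_c61) (LK LD1_c5 LD2_c36 LD3_c26) Lrfl Lrfl
theorem f224249 : Led Lsl_ct (LP (LK LD1_c8 LD2_c28 LD3_c38)) = (LP (LK LD1_c15 LD2_c55 LD3_c1)) :=
  Lre_c IH (LK LD1_c8 LD2_c28 LD3_c38) (LK LD1_c15 LD2_c55 LD3_c1) Lrfl Lrfl
theorem f312204 : Led Lsl_ef (LP (LK LD1_c11 LD2_c4 LD3_c61)) = (LP (LK LD1_c15 LD2_c55 LD3_c1)) :=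
  Lgr Lrot28 (Lpr_ct (f305101 IH) (Lpr_et (f312202 IH) (Lpr_ct (f224249 IH) (Lpn (LP (LK LD1_c15 LD2_c55 LD3_c1))))))
theorem f52403 : Led Lsl_et (LP (LK LD1_c8 LD2_c7 LD3_c13)) = (LP (LK LD1_c4 LD2_c3 LD3_c17)) :=
  Lre_e IH (LK LD1_c8 LD2_c7 LD3_c13) (LK LD1_c4 LD2_c3 LD3_c17) Lrfl Lrfl
theorem f28025 : Led Lsl_dt (LP (LK LD1_c8 LD2_c7 LD3_c13)) = (LP (LK LD1_c15 LD2_c17 LD3_c31)) :=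
  Lre_d IH (LK LD1_c8 LD2_c7 LD3_c13) (LK LD1_c15 LD2_c17 LD3_c31) Lrfl Lrfl
theorem f52368 : Led Lsl_af (LP (LK LD1_c8 LD2_c7 LD3_c11)) = (LP (LK LD1_c8 LD2_c9 LD3_c27)) :=
  Lgr Lrot0 (Lpr_at (K10.f52362 IH) (Lpn (LP (LK LD1_c8 LD2_c9 LD3_c27))))
theorem f52306 : Led Lsl_gt (LP (LK LD1_c15 LD2_c17 LD3_c29)) = (LP (LK LD1_c8 LD2_c7 LD3_c11)) :=
  Lre_g IH (LK LD1_c15 LD2_c17 LD3_c29) (LK LD1_c8 LD2_c7 LD3_c11) Lrfl Lrfl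
theorem f28034 : Led Lsl_ft (LP (LK LD1_c15 LD2_c17 LD3_c31)) = (LP (LK LD1_c8 LD2_c9 LD3_c27)) :=
  Lre_f IH (LK LD1_c15 LD2_c17 LD3_c31) (LK LD1_c8 LD2_c9 LD3_c27) Lrfl Lrfl
theorem f52976 : Led Lsl_gf (LP (LK LD1_c15 LD2_c17 LD3_c29)) = (LP (LK LD1_c15 LD2_c17 LD3_c31)) :=
  Lgr Lrot47 (Lpr_gt (f52306 IH) (Lpr_af (f52368 IH) (Lpe (f28034 IH) (Lpn (LP (LK LD1_c15 LD2_c17 LD3_c31))))))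
theorem f312208 : Led Lsl_df (LP (LK LD1_c15 LD2_c17 LD3_c29)) = (LP (LK LD1_c15 LD2_c55 LD3_c1)) :=
  Lgr Lrot168 (Lpr_gf (f52976 IH) (Lpe (f28025 IH) (Lpr_et (f52403 IH) (Lpe (K10.f189976 IH) (Lpe (K18.f189988 IH) (Lpr_dt (K18.f189989 IH) (Lpe (K18.f262178 IH) (Lpe (K18.f28882 IH) (Lpe (K19.f309968 IH) (Lpr_ef (f312204 IH) (Lpn (LP (LK LD1_c15 LD2_c55 LD3_c1)))))))))))))
theorem f312211 : Led Lsl_dt (LP (LK LD1_c15 LD2_c17 LD3_c29)) = (LP (LK LD1_c15 LD2_c55 LD3_c1)) :=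
  Lgr Lrot42 (Lpr_df (f312208 IH) (Lpn (LP (LK LD1_c15 LD2_c55 LD3_c1))))
theorem f28026 : Led Lsl_ct (LP (LK LD1_c8 LD2_c7 LD3_c13)) = (LP (LK LD1_c4 LD2_c3 LD3_c18)) :=
  Lre_c IH (LK LD1_c8 LD2_c7 LD3_c13) (LK LD1_c4 LD2_c3 LD3_c18) Lrfl Lrfl
theorem f52336 : Led Lsl_at (LP (LK LD1_c8 LD2_c9 LD3_c24)) = (LP (LK LD1_c8 LD2_c7 LD3_c13)) :=
  Lgr Lrot107 (Lpr_cf (K10.f52332 IH) (Lpe (K10.f27996 IH) (Lpe (f28026 IH) (Lpn (LP (LK LD1_c8 LD2_c7 LD3_c13))))))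
theorem f52998 : Led Lsl_gt (LP (LK LD1_c8 LD2_c9 LD3_c22)) = (LP (LK LD1_c8 LD2_c7 LD3_c13)) :=
  Lgr Lrot46 (Lpe (f52607 IH) (Lpr_ft (K10.f52323 IH) (Lpr_at (f52336 IH) (Lpn (LP (LK LD1_c8 LD2_c7 LD3_c13))))))
theorem f224248 : Led Lsl_ct (LP (LK LD1_c15 LD2_c55 LD3_c1)) = (LP (LK LD1_c8 LD2_c28 LD3_c38)) :=
  Lre_c IH (LK LD1_c15 LD2_c55 LD3_c1) (LK LD1_c8 LD2_c28 LD3_c38) Lrfl Lrfl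
theorem f224247 : Led Lsl_dt (LP (LK LD1_c4 LD2_c14 LD3_c54)) = (LP (LK LD1_c8 LD2_c28 LD3_c38)) :=
  Lre_d IH (LK LD1_c4 LD2_c14 LD3_c54) (LK LD1_c8 LD2_c28 LD3_c38) Lrfl Lrfl
theorem f312224 : Led Lsl_cf (LP (LK LD1_c8 LD2_c9 LD3_c22)) = (LP (LK LD1_c4 LD2_c14 LD3_c53)) :=
  Lgr Lrot166 (Lpr_gt (f52998 IH) (Lpr_dt (f28025 IH) (Lpe (f52976 IH) (Lpr_dt (f312211 IH) (Lpr_ct (f224248 IH) (Lpe (f224247 IH) (Lpe (K19.f224245 IH) (Lpe (K19.f27565 IH) (Lpr_gf (K19.f27623 IH) (Lpn (LP (LK LD1_c4 LD2_c14 LD3_c53))))))))))))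
theorem f322743 : Led Lsl_bf (LP (LK LD1_c5 LD2_c35 LD3_c17)) = (LP (LK LD1_c4 LD2_c14 LD3_c53)) :=
  Lgr Lrot165 (Lpe (K14.f212884 IH) (Lpr_ct (f31089 IH) (Lpr_gt (f213752 IH) (Lpe (f275759 IH) (Lpr_bt (f322735 IH) (Lpr_gt (K14.f194657 IH) (Lpe (f196542 IH) (Lpr_ct (f52602 IH) (Lpr_gt (f52607 IH) (Lpr_cf (f312224 IH) (Lpn (LP (LK LD1_c4 LD2_c14 LD3_c53)))))))))))))
theorem f322751 : Led Lsl_bt (LP (LK LD1_c11 LD2_c2 LD3_c44)) = (LP (LK LD1_c8 LD2_c28 LD3_c37)) :=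
  Lgr Lrot119 (Lpe (K16.f225651 IH) (Lpr_bf (f322743 IH) (Lpe (K19.f27625 IH) (Lpn (LP (LK LD1_c8 LD2_c28 LD3_c37))))))
theorem f246934 : Led Lsl_df (LP (LK LD1_c11 LD2_c2 LD3_c44)) = (LP (LK LD1_c9 LD2_c52 LD3_c0)) :=
  Lgr Lrot38 (Lpr_dt (K16.f246930 IH) (Lpn (LP (LK LD1_c9 LD2_c52 LD3_c0))))
theorem f322755 : Led Lsl_bf (LP (LK LD1_c9 LD2_c52 LD3_c0)) = (LP (LK LD1_c8 LD2_c4 LD3_c13)) :=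
  Lgr Lrot93 (Lpe (f246934 IH) (Lpr_bt (f322751 IH) (Lpr_dt (K19.f274774 IH) (Lpn (LP (LK LD1_c8 LD2_c4 LD3_c13))))))
theorem f322757 : Led Lsl_bt (LP (LK LD1_c9 LD2_c52 LD3_c0)) = (LP (LK LD1_c8 LD2_c4 LD3_c13)) :=
  Lgr Lrot127 (Lpr_bf (f322755 IH) (Lpn (LP (LK LD1_c8 LD2_c4 LD3_c13))))
theorem f246933 : Led Lsl_ct (LP (LK LD1_c9 LD2_c52 LD3_c0)) = (LP (LK LD1_c18 LD2_c3 LD3_c39)) :=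
  Lre_c IH (LK LD1_c9 LD2_c52 LD3_c0) (LK LD1_c18 LD2_c3 LD3_c39) Lrfl Lrfl
theorem f180936 : Led Lsl_gt (LP (LK LD1_c2 LD2_c34 LD3_c45)) = (LP (LK LD1_c5 LD2_c15 LD3_c49)) :=
  Lre_g IH (LK LD1_c2 LD2_c34 LD3_c45) (LK LD1_c5 LD2_c15 LD3_c49) Lrfl Lrfl
theorem f180950 : Led Lsl_ct (LP (LK LD1_c5 LD2_c15 LD3_c49)) = (LP (LK LD1_c10 LD2_c20 LD3_c61)) :=
  Lre_c IH (LK LD1_c5 LD2_c15 LD3_c49) (LK LD1_c10 LD2_c20 LD3_c61) Lrfl Lrfl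
theorem f286483 : Led Lsl_gt (LP (LK LD1_c10 LD2_c20 LD3_c61)) = (LP (LK LD1_c18 LD2_c27 LD3_c57)) :=
  Lgr Lrot150 (Lpe (f180950 IH) (Lpe (f180936 IH) (Lpr_df (K19.f271599 IH) (Lpe (K19.f271584 IH) (Lpr_ct (K19.f48212 IH) (Lpr_gt (K19.f286481 IH) (Lpe (K17.f286262 IH) (Lpr_df (K17.f286323 IH) (Lpe (K17.f286343 IH) (Lpn (LP (LK LD1_c18 LD2_c27 LD3_c57))))))))))))
theorem f180923 : Led Lsl_bt (LP (LK LD1_c5 LD2_c15 LD3_c44)) = (LP (LK LD1_c2 LD2_c34 LD3_c45)) :=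
  Lre_b IH (LK LD1_c5 LD2_c15 LD3_c44) (LK LD1_c2 LD2_c34 LD3_c45) Lrfl Lrfl
theorem f322773 : Led Lsl_gt (LP (LK LD1_c18 LD2_c3 LD3_c39)) = (LP (LK LD1_c9 LD2_c52 LD3_c4)) :=
  Lgr Lrot65 (Lpe (f246933 IH) (Lpr_bt (f322757 IH) (Lpe (K19.f298599 IH) (Lpe (K18.f286387 IH) (Lpr_ct (K17.f286386 IH) (Lpe (f286483 IH) (Lpe (f180950 IH) (Lpe (f180936 IH) (Lpe (f180923 IH) (Lpr_ct (f180929 IH) (Lpn (LP (LK LD1_c9 LD2_c52 LD3_c4)))))))))))))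
theorem f246936 : Led Lsl_ct (LP (LK LD1_c18 LD2_c3 LD3_c39)) = (LP (LK LD1_c9 LD2_c52 LD3_c0)) :=
  Lre_c IH (LK LD1_c18 LD2_c3 LD3_c39) (LK LD1_c9 LD2_c52 LD3_c0) Lrfl Lrfl
theorem f180946 : Led Lsl_dt (LP (LK LD1_c9 LD2_c52 LD3_c4)) = (LP (LK LD1_c18 LD2_c3 LD3_c47)) :=
  Lre_d IH (LK LD1_c9 LD2_c52 LD3_c4) (LK LD1_c18 LD2_c3 LD3_c47) Lrfl Lrfl
theorem f322777 : Led Lsl_gf (LP (LK LD1_c18 LD2_c9 LD3_c61)) = (LP (LK LD1_c18 LD2_c3 LD3_c47)) :=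
  Lgr Lrot143 (Lpr_dt (K19.f177592 IH) (Lpe (K19.f177622 IH) (Lpr_df (K13.f177556 IH) (Lpe (f246981 IH) (Lpr_df (K16.f246944 IH) (Lpe (K16.f213496 IH) (Lpe (f246936 IH) (Lpr_gt (f322773 IH) (Lpr_dt (f180946 IH) (Lpn (LP (LK LD1_c18 LD2_c3 LD3_c47))))))))))))
theorem f180935 : Led Lsl_gt (LP (LK LD1_c27 LD2_c45 LD3_c25)) = (LP (LK LD1_c18 LD2_c3 LD3_c47)) :=
  Lre_g IH (LK LD1_c27 LD2_c45 LD3_c25) (LK LD1_c18 LD2_c3 LD3_c47) Lrfl Lrfl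
theorem f322779 : Led Lsl_ff (LP (LK LD1_c18 LD2_c7 LD3_c6)) = (LP (LK LD1_c27 LD2_c45 LD3_c25)) :=
  Lgr Lrot52 (Lpe (K19.f314246 IH) (Lpr_gf (f322777 IH) (Lpe (f180935 IH) (Lpn (LP (LK LD1_c27 LD2_c45 LD3_c25))))))
theorem f322788 : Led Lsl_ft (LP (LK LD1_c18 LD2_c7 LD3_c6)) = (LP (LK LD1_c27 LD2_c45 LD3_c25)) :=
  Lgr Lrot48 (Lpr_ff (f322779 IH) (Lpn (LP (LK LD1_c27 LD2_c45 LD3_c25))))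
theorem f311581 : Led Lsl_ft (LP (LK LD1_c18 LD2_c26 LD3_c36)) = (LP (LK LD1_c10 LD2_c7 LD3_c29)) :=
  Lre_f IH (LK LD1_c18 LD2_c26 LD3_c36) (LK LD1_c10 LD2_c7 LD3_c29) Lrfl Lrfl
theorem f322792 : Led Lsl_df (LP (LK LD1_c18 LD2_c26 LD3_c36)) = (LP (LK LD1_c27 LD2_c45 LD3_c25)) :=
  Lgr Lrot78 (Lpr_ft (f311581 IH) (Lpr_dt (K19.f311578 IH) (Lpr_ft (f322788 IH) (Lpn (LP (LK LD1_c27 LD2_c45 LD3_c25))))))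
theorem f263290 : Led Lsl_ct (LP (LK LD1_c18 LD2_c26 LD3_c36)) = (LP (LK LD1_c10 LD2_c7 LD3_c32)) :=
  Lre_c IH (LK LD1_c18 LD2_c26 LD3_c36) (LK LD1_c10 LD2_c7 LD3_c32) Lrfl Lrfl
theorem f177593 : Led Lsl_ct (LP (LK LD1_c2 LD2_c59 LD3_c47)) = (LP (LK LD1_c6 LD2_c7 LD3_c14)) :=
  Lre_c IH (LK LD1_c2 LD2_c59 LD3_c47) (LK LD1_c6 LD2_c7 LD3_c14) Lrfl Lrfl
theorem f177594 : Led Lsl_dt (LP (LK LD1_c6 LD2_c7 LD3_c14)) = (LP (LK LD1_c11 LD2_c57 LD3_c20)) :=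
  Lre_d IH (LK LD1_c6 LD2_c7 LD3_c14) (LK LD1_c11 LD2_c57 LD3_c20) Lrfl Lrfl
theorem f177595 : Led Lsl_ct (LP (LK LD1_c11 LD2_c57 LD3_c20)) = (LP (LK LD1_c21 LD2_c2 LD3_c28)) :=
  Lre_c IH (LK LD1_c11 LD2_c57 LD3_c20) (LK LD1_c21 LD2_c2 LD3_c28) Lrfl Lrfl
theorem f177596 : Led Lsl_dt (LP (LK LD1_c21 LD2_c2 LD3_c28)) = (LP (LK LD1_c29 LD2_c49 LD3_c53)) :=
  Lre_d IH (LK LD1_c21 LD2_c2 LD3_c28) (LK LD1_c29 LD2_c49 LD3_c53) Lrfl Lrfl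
theorem f322796 : Led Lsl_ct (LP (LK LD1_c29 LD2_c49 LD3_c53)) = (LP (LK LD1_c27 LD2_c45 LD3_c25)) :=
  Lgr Lrot53 (Lpe (f177596 IH) (Lpe (f177595 IH) (Lpe (f177594 IH) (Lpe (f177593 IH) (Lpe (K10.f177587 IH) (Lpe (K19.f314177 IH) (Lpr_at (K19.f314165 IH) (Lpe (f263290 IH) (Lpr_df (f322792 IH) (Lpn (LP (LK LD1_c27 LD2_c45 LD3_c25))))))))))))
theorem f322798 : Led Lsl_ft (LP (LK LD1_c6 LD2_c7 LD3_c14)) = (LP (LK LD1_c11 LD2_c57 LD3_c21)) :=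
  Lre_f IH (LK LD1_c6 LD2_c7 LD3_c14) (LK LD1_c11 LD2_c57 LD3_c21) Lrfl Lrfl
theorem f322799 : Led Lsl_af (LP (LK LD1_c11 LD2_c3 LD3_c24)) = (LP (LK LD1_c11 LD2_c57 LD3_c21)) :=
  Lgr Lrot109 (Lpe (K19.f246954 IH) (Lpe (K19.f314195 IH) (Lpe (f263290 IH) (Lpr_df (f322792 IH) (Lpe (f322796 IH) (Lpe (f177596 IH) (Lpe (f177595 IH) (Lpe (f177594 IH) (Lpr_ft (f322798 IH) (Lpn (LP (LK LD1_c11 LD2_c57 LD3_c21))))))))))))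
theorem f191294 : Led Lsl_gt (LP (LK LD1_c6 LD2_c7 LD3_c14)) = (LP (LK LD1_c11 LD2_c57 LD3_c19)) :=
  Lre_g IH (LK LD1_c6 LD2_c7 LD3_c14) (LK LD1_c11 LD2_c57 LD3_c19) Lrfl Lrfl
theorem f322807 : Led Lsl_gf (LP (LK LD1_c11 LD2_c3 LD3_c24)) = (LP (LK LD1_c11 LD2_c57 LD3_c19)) :=
  Lgr Lrot76 (Lpr_af (f322799 IH) (Lpe (f322798 IH) (Lpr_gt (f191294 IH) (Lpn (LP (LK LD1_c11 LD2_c57 LD3_c19))))))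
theorem f293383 : Led Lsl_cf (LP (LK LD1_c8 LD2_c38 LD3_c51)) = (LP (LK LD1_c5 LD2_c35 LD3_c43)) :=
  Lgr Lrot39 (Lpr_et (K19.f293379 IH) (Lpr_ct (K16.f177937 IH) (Lpr_et (K19.f177951 IH) (Lpn (LP (LK LD1_c5 LD2_c35 LD3_c43))))))
theorem f320891 : Led Lsl_af (LP (LK LD1_c5 LD2_c35 LD3_c43)) = (LP (LK LD1_c9 LD2_c0 LD3_c43)) :=
  Lgr Lrot68 (Lpe (f293383 IH) (Lpe (f320763 IH) (Lpr_ct (f320889 IH) (Lpn (LP (LK LD1_c9 LD2_c0 LD3_c43))))))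
theorem f322809 : Led Lsl_ff (LP (LK LD1_c9 LD2_c0 LD3_c43)) = (LP (LK LD1_c11 LD2_c57 LD3_c19)) :=
  Lgr Lrot52 (Lpe (f320891 IH) (Lpe (K19.f314529 IH) (Lpr_gf (f322807 IH) (Lpn (LP (LK LD1_c11 LD2_c57 LD3_c19))))))
theorem f322823 : Led Lsl_ft (LP (LK LD1_c9 LD2_c0 LD3_c43)) = (LP (LK LD1_c11 LD2_c57 LD3_c19)) :=
  Lgr Lrot48 (Lpr_ff (f322809 IH) (Lpn (LP (LK LD1_c11 LD2_c57 LD3_c19))))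
theorem f320902 : Led Lsl_at (LP (LK LD1_c5 LD2_c35 LD3_c43)) = (LP (LK LD1_c9 LD2_c0 LD3_c43)) :=
  Lgr Lrot107 (Lpe (K19.f293389 IH) (Lpe (f320761 IH) (Lpr_cf (f320894 IH) (Lpn (LP (LK LD1_c9 LD2_c0 LD3_c43))))))
theorem f293330 : Led Lsl_ct (LP (LK LD1_c5 LD2_c12 LD3_c47)) = (LP (LK LD1_c10 LD2_c15 LD3_c59)) :=
  Lre_c IH (LK LD1_c5 LD2_c12 LD3_c47) (LK LD1_c10 LD2_c15 LD3_c59) Lrfl Lrfl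
theorem f320795 : Led Lsl_ft (LP (LK LD1_c10 LD2_c15 LD3_c59)) = (LP (LK LD1_c5 LD2_c35 LD3_c43)) :=
  Lgr Lrot4 (Lpe (f293330 IH) (Lpr_ff (f320793 IH) (Lpr_cf (f293383 IH) (Lpn (LP (LK LD1_c5 LD2_c35 LD3_c43))))))
theorem f322826 : Led Lsl_af (LP (LK LD1_c10 LD2_c15 LD3_c59)) = (LP (LK LD1_c11 LD2_c57 LD3_c19)) :=
  Lgr Lrot45 (Lpr_ft (f320795 IH) (Lpr_at (f320902 IH) (Lpr_ft (f322823 IH) (Lpn (LP (LK LD1_c11 LD2_c57 LD3_c19))))))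
theorem f322835 : Led Lsl_gt (LP (LK LD1_c8 LD2_c38 LD3_c38)) = (LP (LK LD1_c10 LD2_c15 LD3_c59)) :=
  Lgr Lrot46 (Lpe (f316843 IH) (Lpr_ft (f322823 IH) (Lpe (f322826 IH) (Lpn (LP (LK LD1_c10 LD2_c15 LD3_c59))))))
theorem f33162 : Led Lsl_ct (LP (LK LD1_c4 LD2_c20 LD3_c24)) = (LP (LK LD1_c8 LD2_c38 LD3_c38)) :=
  Lre_c IH (LK LD1_c4 LD2_c20 LD3_c24) (LK LD1_c8 LD2_c38 LD3_c38) Lrfl Lrfl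
theorem f263068 : Led Lsl_ct (LP (LK LD1_c5 LD2_c5 LD3_c37)) = (LP (LK LD1_c10 LD2_c2 LD3_c20)) :=
  Lre_c IH (LK LD1_c5 LD2_c5 LD3_c37) (LK LD1_c10 LD2_c2 LD3_c20) Lrfl Lrfl
theorem f263264 : Led Lsl_bt (LP (LK LD1_c2 LD2_c28 LD3_c17)) = (LP (LK LD1_c2 LD2_c31 LD3_c29)) :=
  Lgr Lrot92 (Lpr_ct (K15.f3735 IH) (Lpr_gt (K15.f3739 IH) (Lpe (K15.f3756 IH) (Lpe (K15.f252697 IH) (Lpr_gt (K15.f263248 IH) (Lpr_ct (f263068 IH) (Lpe (K15.f263066 IH) (Lpe (K14.f190899 IH) (Lpr_bt (K14.f33194 IH) (Lpr_gt (K13.f22110 IH) (Lpn (LP (LK LD1_c2 LD2_c31 LD3_c29)))))))))))))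
theorem f263270 : Led Lsl_bf (LP (LK LD1_c5 LD2_c1 LD3_c4)) = (LP (LK LD1_c5 LD2_c8 LD3_c33)) :=
  Lgr Lrot96 (Lpr_et (K16.f170545 IH) (Lpr_bt (f263264 IH) (Lpr_et (K19.f33154 IH) (Lpn (LP (LK LD1_c5 LD2_c8 LD3_c33))))))
theorem f263272 : Led Lsl_bt (LP (LK LD1_c5 LD2_c1 LD3_c4)) = (LP (LK LD1_c5 LD2_c8 LD3_c33)) :=
  Lgr Lrot127 (Lpr_bf (f263270 IH) (Lpn (LP (LK LD1_c5 LD2_c8 LD3_c33))))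
theorem f274705 : Led Lsl_bt (LP (LK LD1_c4 LD2_c20 LD3_c24)) = (LP (LK LD1_c4 LD2_c50 LD3_c39)) :=
  Lgr Lrot95 (Lpr_df (K19.f33155 IH) (Lpe (f263272 IH) (Lpr_df (K16.f274686 IH) (Lpn (LP (LK LD1_c4 LD2_c50 LD3_c39))))))
theorem f243738 : Led Lsl_bt (LP (LK LD1_c5 LD2_c38 LD3_c53)) = (LP (LK LD1_c2 LD2_c45 LD3_c25)) :=
  Lre_b IH (LK LD1_c5 LD2_c38 LD3_c53) (LK LD1_c2 LD2_c45 LD3_c25) Lrfl Lrfl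
theorem f243742 : Led Lsl_ct (LP (LK LD1_c5 LD2_c38 LD3_c53)) = (LP (LK LD1_c5 LD2_c27 LD3_c55)) :=
  Lre_c IH (LK LD1_c5 LD2_c38 LD3_c53) (LK LD1_c5 LD2_c27 LD3_c55) Lrfl Lrfl
theorem f303355 : Led Lsl_ct (LP (LK LD1_c10 LD2_c46 LD3_c33)) = (LP (LK LD1_c5 LD2_c27 LD3_c44)) :=
  Lre_c IH (LK LD1_c10 LD2_c46 LD3_c33) (LK LD1_c5 LD2_c27 LD3_c44) Lrfl Lrfl
theorem f303351 : Led Lsl_gt (LP (LK LD1_c19 LD2_c29 LD3_c17)) = (LP (LK LD1_c10 LD2_c46 LD3_c33)) :=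
  Lre_g IH (LK LD1_c19 LD2_c29 LD3_c17) (LK LD1_c10 LD2_c46 LD3_c33) Lrfl Lrfl
theorem f214825 : Led Lsl_bt (LP (LK LD1_c10 LD2_c19 LD3_c37)) = (LP (LK LD1_c18 LD2_c44 LD3_c52)) :=
  Lre_b IH (LK LD1_c10 LD2_c19 LD3_c37) (LK LD1_c18 LD2_c44 LD3_c52) Lrfl Lrfl
theorem f214813 : Led Lsl_ct (LP (LK LD1_c5 LD2_c15 LD3_c5)) = (LP (LK LD1_c10 LD2_c19 LD3_c37)) :=
  Lre_c IH (LK LD1_c5 LD2_c15 LD3_c5) (LK LD1_c10 LD2_c19 LD3_c37) Lrfl Lrfl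
theorem f214803 : Led Lsl_bf (LP (LK LD1_c5 LD2_c15 LD3_c5)) = (LP (LK LD1_c8 LD2_c52 LD3_c1)) :=
  Lgr Lrot24 (Lpr_bt (K14.f214801 IH) (Lpn (LP (LK LD1_c8 LD2_c52 LD3_c1))))
theorem f214891 : Led Lsl_bt (LP (LK LD1_c24 LD2_c47 LD3_c60)) = (LP (LK LD1_c15 LD2_c0 LD3_c37)) :=
  Lre_b IH (LK LD1_c24 LD2_c47 LD3_c60) (LK LD1_c15 LD2_c0 LD3_c37) Lrfl Lrfl
theorem f214892 : Led Lsl_cf (LP (LK LD1_c8 LD2_c52 LD3_c1)) = (LP (LK LD1_c15 LD2_c0 LD3_c37)) :=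
  Lgr Lrot97 (Lpe (f214803 IH) (Lpr_ct (f214813 IH) (Lpr_bt (f214825 IH) (Lpr_ct (K14.f214851 IH) (Lpr_bt (f214891 IH) (Lpn (LP (LK LD1_c15 LD2_c0 LD3_c37))))))))
theorem f247988 : Led Lsl_ct (LP (LK LD1_c5 LD2_c10 LD3_c6)) = (LP (LK LD1_c10 LD2_c10 LD3_c56)) :=
  Lre_c IH (LK LD1_c5 LD2_c10 LD3_c6) (LK LD1_c10 LD2_c10 LD3_c56) Lrfl Lrfl
theorem f247985 : Led Lsl_dt (LP (LK LD1_c18 LD2_c32 LD3_c54)) = (LP (LK LD1_c10 LD2_c10 LD3_c56)) :=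
  Lre_d IH (LK LD1_c18 LD2_c32 LD3_c54) (LK LD1_c10 LD2_c10 LD3_c56) Lrfl Lrfl
theorem f44331 : Led Lsl_et (LP (LK LD1_c2 LD2_c24 LD3_c60)) = (LP (LK LD1_c3 LD2_c58 LD3_c4)) :=
  Lgr Lrot158 (Lpe (K9.f43498 IH) (Lpr_ef (K1.f44322 IH) (Lpe (K12.f31509 IH) (Lpn (LP (LK LD1_c3 LD2_c58 LD3_c4))))))
theorem f44462 : Led Lsl_dt (LP (LK LD1_c15 LD2_c0 LD3_c37)) = (LP (LK LD1_c24 LD2_c48 LD3_c0)) :=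
  Lre_d IH (LK LD1_c15 LD2_c0 LD3_c37) (LK LD1_c24 LD2_c48 LD3_c0) Lrfl Lrfl
theorem f247980 : Led Lsl_et (LP (LK LD1_c10 LD2_c10 LD3_c56)) = (LP (LK LD1_c5 LD2_c10 LD3_c5)) :=
  Lre_e IH (LK LD1_c10 LD2_c10 LD3_c56) (LK LD1_c5 LD2_c10 LD3_c5) Lrfl Lrfl
theorem f247981 : Led Lsl_dt (LP (LK LD1_c10 LD2_c10 LD3_c56)) = (LP (LK LD1_c18 LD2_c32 LD3_c54)) :=
  Lre_d IH (LK LD1_c10 LD2_c10 LD3_c56) (LK LD1_c18 LD2_c32 LD3_c54) Lrfl Lrfl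
theorem f247982 : Led Lsl_gt (LP (LK LD1_c24 LD2_c48 LD3_c0)) = (LP (LK LD1_c18 LD2_c32 LD3_c54)) :=
  Lgr Lrot112 (Lpe (f44462 IH) (Lpr_et (K14.f44461 IH) (Lpe (K14.f31503 IH) (Lpe (f44331 IH) (Lpr_dt (K9.f43489 IH) (Lpe (K14.f43598 IH) (Lpr_df (K14.f247968 IH) (Lpe (K14.f247976 IH) (Lpe (f247980 IH) (Lpr_dt (f247981 IH) (Lpn (LP (LK LD1_c18 LD2_c32 LD3_c54)))))))))))))
theorem f254188 : Led Lsl_ct (LP (LK LD1_c18 LD2_c34 LD3_c7)) = (LP (LK LD1_c10 LD2_c11 LD3_c36)) :=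
  Lre_c IH (LK LD1_c18 LD2_c34 LD3_c7) (LK LD1_c10 LD2_c11 LD3_c36) Lrfl Lrfl
theorem f254212 : Led Lsl_gf (LP (LK LD1_c15 LD2_c0 LD3_c37)) = (LP (LK LD1_c18 LD2_c34 LD3_c7)) :=
  Lgr Lrot144 (Lpr_dt (f44462 IH) (Lpr_gt (f247982 IH) (Lpr_dt (f247985 IH) (Lpe (f247988 IH) (Lpr_df (K15.f248023 IH) (Lpe (K14.f254192 IH) (Lpr_df (K14.f254208 IH) (Lpe (K14.f250374 IH) (Lpe (f254188 IH) (Lpn (LP (LK LD1_c18 LD2_c34 LD3_c7))))))))))))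
theorem f253663 : Led Lsl_ct (LP (LK LD1_c10 LD2_c11 LD3_c36)) = (LP (LK LD1_c18 LD2_c34 LD3_c7)) :=
  Lre_c IH (LK LD1_c10 LD2_c11 LD3_c36) (LK LD1_c18 LD2_c34 LD3_c7) Lrfl Lrfl
theorem f253664 : Led Lsl_gt (LP (LK LD1_c5 LD2_c36 LD3_c36)) = (LP (LK LD1_c11 LD2_c5 LD3_c3)) :=
  Lre_g IH (LK LD1_c5 LD2_c36 LD3_c36) (LK LD1_c11 LD2_c5 LD3_c3) Lrfl Lrfl
theorem f317757 : Led Lsl_cf (LP (LK LD1_c19 LD2_c29 LD3_c17)) = (LP (LK LD1_c11 LD2_c5 LD3_c3)) :=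
  Lgr Lrot188 (Lpr_gt (f303351 IH) (Lpr_ct (f303355 IH) (Lpr_dt (f317747 IH) (Lpr_cf (f214892 IH) (Lpr_gf (f254212 IH) (Lpe (f253663 IH) (Lpe (K14.f253662 IH) (Lpr_dt (K14.f253655 IH) (Lpr_gt (f253664 IH) (Lpn (LP (LK LD1_c11 LD2_c5 LD3_c3))))))))))))
theorem f303358 : Led Lsl_ct (LP (LK LD1_c5 LD2_c27 LD3_c44)) = (LP (LK LD1_c10 LD2_c46 LD3_c33)) :=
  Lre_c IH (LK LD1_c5 LD2_c27 LD3_c44) (LK LD1_c10 LD2_c46 LD3_c33) Lrfl Lrfl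
theorem f287851 : Led Lsl_gf (LP (LK LD1_c5 LD2_c36 LD3_c43)) = (LP (LK LD1_c2 LD2_c59 LD3_c4)) :=
  Lgr Lrot47 (Lpr_gt (K17.f287849 IH) (Lpe (K15.f268103 IH) (Lpr_ff (K15.f268121 IH) (Lpn (LP (LK LD1_c2 LD2_c59 LD3_c4))))))
theorem f169464 : Led Lsl_ct (LP (LK LD1_c1 LD2_c25 LD3_c16)) = (LP (LK LD1_c2 LD2_c59 LD3_c4)) :=
  Lre_c IH (LK LD1_c1 LD2_c25 LD3_c16) (LK LD1_c2 LD2_c59 LD3_c4) Lrfl Lrfl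
theorem f169460 : Led Lsl_bt (LP (LK LD1_c1 LD2_c25 LD3_c16)) = (LP (LK LD1_c2 LD2_c59 LD3_c1)) :=
  Lre_b IH (LK LD1_c1 LD2_c25 LD3_c16) (LK LD1_c2 LD2_c59 LD3_c1) Lrfl Lrfl
theorem f317765 : Led Lsl_gt (LP (LK LD1_c2 LD2_c40 LD3_c15)) = (LP (LK LD1_c2 LD2_c59 LD3_c1)) :=
  Lgr Lrot164 (Lpe (f303368 IH) (Lpr_ct (f303358 IH) (Lpe (f303351 IH) (Lpr_cf (f317757 IH) (Lpe (f253664 IH) (Lpe (K18.f253650 IH) (Lpr_ct (K17.f183165 IH) (Lpr_gf (f287851 IH) (Lpe (f169464 IH) (Lpr_bt (f169460 IH) (Lpn (LP (LK LD1_c2 LD2_c59 LD3_c1)))))))))))))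
theorem f303369 : Led Lsl_gt (LP (LK LD1_c5 LD2_c27 LD3_c48)) = (LP (LK LD1_c2 LD2_c40 LD3_c15)) :=
  Lre_g IH (LK LD1_c5 LD2_c27 LD3_c48) (LK LD1_c2 LD2_c40 LD3_c15) Lrfl Lrfl
theorem f48223 : Led Lsl_ct (LP (LK LD1_c8 LD2_c29 LD3_c13)) = (LP (LK LD1_c4 LD2_c15 LD3_c8)) :=
  Lre_c IH (LK LD1_c8 LD2_c29 LD3_c13) (LK LD1_c4 LD2_c15 LD3_c8) Lrfl Lrfl
theorem f169510 : Led Lsl_ct (LP (LK LD1_c2 LD2_c59 LD3_c1)) = (LP (LK LD1_c6 LD2_c5 LD3_c50)) :=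
  Lre_c IH (LK LD1_c2 LD2_c59 LD3_c1) (LK LD1_c6 LD2_c5 LD3_c50) Lrfl Lrfl
theorem f275124 : Led Lsl_at (LP (LK LD1_c4 LD2_c15 LD3_c8)) = (LP (LK LD1_c2 LD2_c59 LD3_c1)) :=
  Lgr Lrot107 (Lpe (f48223 IH) (Lpr_af (K16.f275117 IH) (Lpe (f169510 IH) (Lpn (LP (LK LD1_c2 LD2_c59 LD3_c1))))))
theorem f317771 : Led Lsl_ft (LP (LK LD1_c5 LD2_c27 LD3_c48)) = (LP (LK LD1_c4 LD2_c15 LD3_c8)) :=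
  Lgr Lrot2 (Lpr_gt (f303369 IH) (Lpr_gt (f317765 IH) (Lpe (f275124 IH) (Lpn (LP (LK LD1_c4 LD2_c15 LD3_c8))))))
theorem f317872 : Led Lsl_ff (LP (LK LD1_c5 LD2_c27 LD3_c48)) = (LP (LK LD1_c4 LD2_c15 LD3_c8)) :=
  Lgr Lrot3 (Lpr_ft (f317771 IH) (Lpn (LP (LK LD1_c4 LD2_c15 LD3_c8))))
theorem f231733 : Led Lsl_ft (LP (LK LD1_c8 LD2_c28 LD3_c45)) = (LP (LK LD1_c4 LD2_c14 LD3_c56)) :=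
  Lre_f IH (LK LD1_c8 LD2_c28 LD3_c45) (LK LD1_c4 LD2_c14 LD3_c56) Lrfl Lrfl
theorem f317882 : Led Lsl_et (LP (LK LD1_c5 LD2_c27 LD3_c48)) = (LP (LK LD1_c8 LD2_c28 LD3_c45)) :=
  Lgr Lrot69 (Lpr_ff (f317872 IH) (Lpe (K10.f45149 IH) (Lpr_ff (K15.f264836 IH) (Lpe (K15.f49092 IH) (Lpe (f231733 IH) (Lpn (LP (LK LD1_c8 LD2_c28 LD3_c45))))))))
theorem f317709 : Led Lsl_ct (LP (LK LD1_c10 LD2_c46 LD3_c45)) = (LP (LK LD1_c5 LD2_c27 LD3_c48)) :=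
  Lre_c IH (LK LD1_c10 LD2_c46 LD3_c45) (LK LD1_c5 LD2_c27 LD3_c48) Lrfl Lrfl
theorem f231744 : Led Lsl_ct (LP (LK LD1_c8 LD2_c28 LD3_c45)) = (LP (LK LD1_c15 LD2_c55 LD3_c11)) :=
  Lre_c IH (LK LD1_c8 LD2_c28 LD3_c45) (LK LD1_c15 LD2_c55 LD3_c11) Lrfl Lrfl
theorem f317886 : Led Lsl_ef (LP (LK LD1_c10 LD2_c46 LD3_c45)) = (LP (LK LD1_c15 LD2_c55 LD3_c11)) :=
  Lgr Lrot28 (Lpr_ct (f317709 IH) (Lpr_et (f317882 IH) (Lpr_ct (f231744 IH) (Lpn (LP (LK LD1_c15 LD2_c55 LD3_c11))))))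
theorem f317890 : Led Lsl_et (LP (LK LD1_c10 LD2_c46 LD3_c45)) = (LP (LK LD1_c15 LD2_c55 LD3_c11)) :=
  Lgr Lrot87 (Lpr_ef (f317886 IH) (Lpn (LP (LK LD1_c15 LD2_c55 LD3_c11))))
theorem f264786 : Led Lsl_ft (LP (LK LD1_c5 LD2_c25 LD3_c57)) = (LP (LK LD1_c10 LD2_c43 LD3_c8)) :=
  Lre_f IH (LK LD1_c5 LD2_c25 LD3_c57) (LK LD1_c10 LD2_c43 LD3_c8) Lrfl Lrfl
theorem f261519 : Led Lsl_et (LP (LK LD1_c6 LD2_c5 LD3_c50)) = (LP (LK LD1_c2 LD2_c59 LD3_c0)) :=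
  Lre_e IH (LK LD1_c6 LD2_c5 LD3_c50) (LK LD1_c2 LD2_c59 LD3_c0) Lrfl Lrfl
theorem f275144 : Led Lsl_et (LP (LK LD1_c10 LD2_c43 LD3_c8)) = (LP (LK LD1_c11 LD2_c55 LD3_c10)) :=
  Lgr Lrot69 (Lpe (f264786 IH) (Lpe (K15.f257386 IH) (Lpr_ff (K16.f275137 IH) (Lpe (f261519 IH) (Lpe (K16.f268135 IH) (Lpn (LP (LK LD1_c11 LD2_c55 LD3_c10))))))))
theorem f317892 : Led Lsl_af (LP (LK LD1_c10 LD2_c46 LD3_c45)) = (LP (LK LD1_c11 LD2_c55 LD3_c10)) :=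
  Lgr Lrot50 (Lpr_et (f317890 IH) (Lpe (K15.f264774 IH) (Lpr_et (f275144 IH) (Lpn (LP (LK LD1_c11 LD2_c55 LD3_c10))))))
theorem f268145 : Led Lsl_ft (LP (LK LD1_c6 LD2_c5 LD3_c50)) = (LP (LK LD1_c11 LD2_c55 LD3_c10)) :=
  Lre_f IH (LK LD1_c6 LD2_c5 LD3_c50) (LK LD1_c11 LD2_c55 LD3_c10) Lrfl Lrfl
theorem f317900 : Led Lsl_gf (LP (LK LD1_c10 LD2_c46 LD3_c45)) = (LP (LK LD1_c11 LD2_c55 LD3_c8)) :=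
  Lgr Lrot76 (Lpr_af (f317892 IH) (Lpe (f268145 IH) (Lpr_gt (K17.f231699 IH) (Lpn (LP (LK LD1_c11 LD2_c55 LD3_c8))))))
theorem f286421 : Led Lsl_ff (LP (LK LD1_c8 LD2_c56 LD3_c30)) = (LP (LK LD1_c11 LD2_c55 LD3_c8)) :=
  Lgr Lrot23 (Lpe (K16.f274950 IH) (Lpe (K17.f286145 IH) (Lpr_ct (K17.f286417 IH) (Lpn (LP (LK LD1_c11 LD2_c55 LD3_c8))))))
theorem f286433 : Led Lsl_at (LP (LK LD1_c8 LD2_c56 LD3_c30)) = (LP (LK LD1_c5 LD2_c27 LD3_c55)) :=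
  Lgr Lrot107 (Lpr_cf (K16.f275028 IH) (Lpr_af (K17.f286429 IH) (Lpe (K17.f243739 IH) (Lpn (LP (LK LD1_c5 LD2_c27 LD3_c55))))))
theorem f317902 : Led Lsl_gt (LP (LK LD1_c10 LD2_c46 LD3_c45)) = (LP (LK LD1_c5 LD2_c27 LD3_c55)) :=
  Lgr Lrot46 (Lpr_gf (f317900 IH) (Lpe (f286421 IH) (Lpr_at (f286433 IH) (Lpn (LP (LK LD1_c5 LD2_c27 LD3_c55))))))
theorem f317708 : Led Lsl_ct (LP (LK LD1_c5 LD2_c27 LD3_c48)) = (LP (LK LD1_c10 LD2_c46 LD3_c45)) :=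
  Lre_c IH (LK LD1_c5 LD2_c27 LD3_c48) (LK LD1_c10 LD2_c46 LD3_c45) Lrfl Lrfl
theorem f317862 : Led Lsl_af (LP (LK LD1_c5 LD2_c27 LD3_c48)) = (LP (LK LD1_c6 LD2_c5 LD3_c52)) :=
  Lgr Lrot45 (Lpr_ft (f317771 IH) (Lpr_at (f275124 IH) (Lpr_ft (K9.f169501 IH) (Lpn (LP (LK LD1_c6 LD2_c5 LD3_c52))))))
theorem f169526 : Led Lsl_gt (LP (LK LD1_c2 LD2_c59 LD3_c1)) = (LP (LK LD1_c6 LD2_c5 LD3_c51)) :=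
  Lre_g IH (LK LD1_c2 LD2_c59 LD3_c1) (LK LD1_c6 LD2_c5 LD3_c51) Lrfl Lrfl
theorem f318006 : Led Lsl_gf (LP (LK LD1_c5 LD2_c27 LD3_c48)) = (LP (LK LD1_c6 LD2_c5 LD3_c51)) :=
  Lgr Lrot76 (Lpr_af (f317862 IH) (Lpe (K9.f169501 IH) (Lpr_gt (f169526 IH) (Lpn (LP (LK LD1_c6 LD2_c5 LD3_c51))))))
theorem f322840 : Led Lsl_bf (LP (LK LD1_c6 LD2_c5 LD3_c51)) = (LP (LK LD1_c5 LD2_c12 LD3_c47)) :=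
  Lgr Lrot165 (Lpe (f318006 IH) (Lpr_ct (f317708 IH) (Lpr_gt (f317902 IH) (Lpe (f243742 IH) (Lpr_bt (f243738 IH) (Lpr_gt (K16.f243717 IH) (Lpe (f274705 IH) (Lpr_ct (f33162 IH) (Lpr_gt (f322835 IH) (Lpe (f293330 IH) (Lpn (LP (LK LD1_c5 LD2_c12 LD3_c47)))))))))))))
theorem f293381 : Led Lsl_bf (LP (LK LD1_c8 LD2_c38 LD3_c51)) = (LP (LK LD1_c4 LD2_c29 LD3_c6)) :=
  Lgr Lrot96 (Lpr_et (K19.f293379 IH) (Lpr_bt (K16.f177933 IH) (Lpr_et (K19.f271583 IH) (Lpn (LP (LK LD1_c4 LD2_c29 LD3_c6))))))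
theorem f322848 : Led Lsl_ft (LP (LK LD1_c6 LD2_c5 LD3_c51)) = (LP (LK LD1_c4 LD2_c29 LD3_c6)) :=
  Lgr Lrot75 (Lpr_bf (f322840 IH) (Lpr_ff (f320793 IH) (Lpr_bf (f293381 IH) (Lpn (LP (LK LD1_c4 LD2_c29 LD3_c6))))))
theorem f271603 : Led Lsl_ft (LP (LK LD1_c2 LD2_c34 LD3_c45)) = (LP (LK LD1_c5 LD2_c15 LD3_c51)) :=
  Lre_f IH (LK LD1_c2 LD2_c34 LD3_c45) (LK LD1_c5 LD2_c15 LD3_c51) Lrfl Lrfl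
theorem f320801 : Led Lsl_bf (LP (LK LD1_c10 LD2_c15 LD3_c60)) = (LP (LK LD1_c5 LD2_c15 LD3_c51)) :=
  Lgr Lrot61 (Lpr_ft (f320797 IH) (Lpr_bt (f180923 IH) (Lpr_ft (f271603 IH) (Lpn (LP (LK LD1_c5 LD2_c15 LD3_c51))))))
theorem f322846 : Led Lsl_dt (LP (LK LD1_c6 LD2_c5 LD3_c51)) = (LP (LK LD1_c5 LD2_c15 LD3_c51)) :=
  Lgr Lrot79 (Lpr_bf (f322840 IH) (Lpe (f196121 IH) (Lpr_bf (f320801 IH) (Lpn (LP (LK LD1_c5 LD2_c15 LD3_c51))))))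
theorem f180976 : Led Lsl_ct (LP (LK LD1_c5 LD2_c15 LD3_c51)) = (LP (LK LD1_c10 LD2_c20 LD3_c60)) :=
  Lre_c IH (LK LD1_c5 LD2_c15 LD3_c51) (LK LD1_c10 LD2_c20 LD3_c60) Lrfl Lrfl
theorem f322854 : Led Lsl_dt (LP (LK LD1_c10 LD2_c20 LD3_c60)) = (LP (LK LD1_c18 LD2_c47 LD3_c1)) :=
  Lre_d IH (LK LD1_c10 LD2_c20 LD3_c60) (LK LD1_c18 LD2_c47 LD3_c1) Lrfl Lrfl
theorem f322855 : Led Lsl_ct (LP (LK LD1_c18 LD2_c47 LD3_c1)) = (LP (LK LD1_c28 LD2_c16 LD3_c45)) :=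
  Lre_c IH (LK LD1_c18 LD2_c47 LD3_c1) (LK LD1_c28 LD2_c16 LD3_c45) Lrfl Lrfl
theorem f190462 : Led Lsl_bf (LP (LK LD1_c5 LD2_c21 LD3_c22)) = (LP (LK LD1_c5 LD2_c19 LD3_c43)) :=
  Lgr Lrot24 (Lpr_bt (K14.f190460 IH) (Lpn (LP (LK LD1_c5 LD2_c19 LD3_c43))))
theorem f318111 : Led Lsl_bt (LP (LK LD1_c8 LD2_c7 LD3_c47)) = (LP (LK LD1_c5 LD2_c12 LD3_c48)) :=
  Lgr Lrot95 (Lpr_df (f318103 IH) (Lpr_bf (f190462 IH) (Lpr_df (f242317 IH) (Lpn (LP (LK LD1_c5 LD2_c12 LD3_c48))))))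
theorem f317749 : Led Lsl_bt (LP (LK LD1_c2 LD2_c40 LD3_c15)) = (LP (LK LD1_c5 LD2_c27 LD3_c44)) :=
  Lre_b IH (LK LD1_c2 LD2_c40 LD3_c15) (LK LD1_c5 LD2_c27 LD3_c44) Lrfl Lrfl
theorem f320765 : Led Lsl_af (LP (LK LD1_c2 LD2_c40 LD3_c15)) = (LP (LK LD1_c4 LD2_c29 LD3_c6)) :=
  Lgr Lrot36 (Lpr_bt (f317749 IH) (Lpe (f318098 IH) (Lpr_bt (f318111 IH) (Lpr_at (f320761 IH) (Lpe (K19.f293355 IH) (Lpn (LP (LK LD1_c4 LD2_c29 LD3_c6))))))))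
theorem f282865 : Led Lsl_ct (LP (LK LD1_c5 LD2_c27 LD3_c47)) = (LP (LK LD1_c2 LD2_c40 LD3_c15)) :=
  Lre_c IH (LK LD1_c5 LD2_c27 LD3_c47) (LK LD1_c2 LD2_c40 LD3_c15) Lrfl Lrfl
theorem f282864 : Led Lsl_dt (LP (LK LD1_c10 LD2_c46 LD3_c43)) = (LP (LK LD1_c5 LD2_c27 LD3_c47)) :=
  Lre_d IH (LK LD1_c10 LD2_c46 LD3_c43) (LK LD1_c5 LD2_c27 LD3_c47) Lrfl Lrfl
theorem f317701 : Led Lsl_ct (LP (LK LD1_c19 LD2_c29 LD3_c43)) = (LP (LK LD1_c10 LD2_c46 LD3_c43)) :=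
  Lre_c IH (LK LD1_c19 LD2_c29 LD3_c43) (LK LD1_c10 LD2_c46 LD3_c43) Lrfl Lrfl
theorem f322856 : Led Lsl_dt (LP (LK LD1_c28 LD2_c16 LD3_c45)) = (LP (LK LD1_c19 LD2_c29 LD3_c43)) :=
  Lgr Lrot140 (Lpe (f322855 IH) (Lpe (f322854 IH) (Lpe (f180976 IH) (Lpe (f322846 IH) (Lpr_ft (f322848 IH) (Lpe (f320765 IH) (Lpe (f282865 IH) (Lpe (f282864 IH) (Lpe (f317701 IH) (Lpn (LP (LK LD1_c19 LD2_c29 LD3_c43))))))))))))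
theorem f322868 : Led Lsl_ft (LP (LK LD1_c10 LD2_c20 LD3_c60)) = (LP (LK LD1_c5 LD2_c15 LD3_c48)) :=
  Lre_f IH (LK LD1_c10 LD2_c20 LD3_c60) (LK LD1_c5 LD2_c15 LD3_c48) Lrfl Lrfl
theorem f322869 : Led Lsl_at (LP (LK LD1_c5 LD2_c15 LD3_c48)) = (LP (LK LD1_c10 LD2_c19 LD3_c37)) :=
  Lgr Lrot33 (Lpe (f322868 IH) (Lpr_dt (f322854 IH) (Lpr_ct (f322855 IH) (Lpr_dt (f322856 IH) (Lpr_ct (f317701 IH) (Lpr_dt (f282864 IH) (Lpr_ct (f282865 IH) (Lpr_dt (f317697 IH) (Lpr_ct (f214813 IH) (Lpn (LP (LK LD1_c10 LD2_c19 LD3_c37))))))))))))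
theorem f317797 : Led Lsl_ft (LP (LK LD1_c10 LD2_c19 LD3_c37)) = (LP (LK LD1_c18 LD2_c44 LD3_c56)) :=
  Lre_f IH (LK LD1_c10 LD2_c19 LD3_c37) (LK LD1_c18 LD2_c44 LD3_c56) Lrfl Lrfl
theorem f322881 : Led Lsl_af (LP (LK LD1_c10 LD2_c20 LD3_c60)) = (LP (LK LD1_c18 LD2_c44 LD3_c56)) :=
  Lgr Lrot45 (Lpr_ft (f322868 IH) (Lpr_at (f322869 IH) (Lpr_ft (f317797 IH) (Lpn (LP (LK LD1_c18 LD2_c44 LD3_c56))))))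
theorem f214824 : Led Lsl_dt (LP (LK LD1_c28 LD2_c14 LD3_c48)) = (LP (LK LD1_c18 LD2_c44 LD3_c56)) :=
  Lre_d IH (LK LD1_c28 LD2_c14 LD3_c48) (LK LD1_c18 LD2_c44 LD3_c56) Lrfl Lrfl
theorem f322887 : Led Lsl_at (LP (LK LD1_c18 LD2_c47 LD3_c1)) = (LP (LK LD1_c28 LD2_c14 LD3_c48)) :=
  Lgr Lrot51 (Lpe (f322854 IH) (Lpr_af (f322881 IH) (Lpe (f214824 IH) (Lpn (LP (LK LD1_c28 LD2_c14 LD3_c48))))))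
theorem f271604 : Led Lsl_ft (LP (LK LD1_c10 LD2_c20 LD3_c59)) = (LP (LK LD1_c18 LD2_c47 LD3_c1)) :=
  Lre_f IH (LK LD1_c10 LD2_c20 LD3_c59) (LK LD1_c18 LD2_c47 LD3_c1) Lrfl Lrfl
theorem f271595 : Led Lsl_dt (LP (LK LD1_c10 LD2_c20 LD3_c59)) = (LP (LK LD1_c5 LD2_c15 LD3_c48)) :=
  Lre_d IH (LK LD1_c10 LD2_c20 LD3_c59) (LK LD1_c5 LD2_c15 LD3_c48) Lrfl Lrfl
theorem f180942 : Led Lsl_ct (LP (LK LD1_c5 LD2_c15 LD3_c48)) = (LP (LK LD1_c2 LD2_c34 LD3_c45)) :=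
  Lre_c IH (LK LD1_c5 LD2_c15 LD3_c48) (LK LD1_c2 LD2_c34 LD3_c45) Lrfl Lrfl
theorem f178018 : Led Lsl_ct (LP (LK LD1_c4 LD2_c29 LD3_c6)) = (LP (LK LD1_c8 LD2_c56 LD3_c28)) :=
  Lre_c IH (LK LD1_c4 LD2_c29 LD3_c6) (LK LD1_c8 LD2_c56 LD3_c28) Lrfl Lrfl
theorem f221250 : Led Lsl_ct (LP (LK LD1_c16 LD2_c44 LD3_c14)) = (LP (LK LD1_c26 LD2_c43 LD3_c2)) :=
  Lre_c IH (LK LD1_c16 LD2_c44 LD3_c14) (LK LD1_c26 LD2_c43 LD3_c2) Lrfl Lrfl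
theorem f271598 : Led Lsl_dt (LP (LK LD1_c26 LD2_c43 LD3_c2)) = (LP (LK LD1_c32 LD2_c15 LD3_c0)) :=
  Lre_d IH (LK LD1_c26 LD2_c43 LD3_c2) (LK LD1_c32 LD2_c15 LD3_c0) Lrfl Lrfl
theorem f322899 : Led Lsl_ct (LP (LK LD1_c32 LD2_c15 LD3_c0)) = (LP (LK LD1_c28 LD2_c14 LD3_c48)) :=
  Lgr Lrot98 (Lpe (f271598 IH) (Lpe (f221250 IH) (Lpe (f221240 IH) (Lpe (f178018 IH) (Lpe (K19.f271592 IH) (Lpe (f180942 IH) (Lpe (f271595 IH) (Lpr_ft (f271604 IH) (Lpr_at (f322887 IH) (Lpn (LP (LK LD1_c28 LD2_c14 LD3_c48))))))))))))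
theorem f317735 : Led Lsl_ft (LP (LK LD1_c28 LD2_c14 LD3_c48)) = (LP (LK LD1_c18 LD2_c44 LD3_c55)) :=
  Lre_f IH (LK LD1_c28 LD2_c14 LD3_c48) (LK LD1_c18 LD2_c44 LD3_c55) Lrfl Lrfl
theorem f317702 : Led Lsl_ct (LP (LK LD1_c18 LD2_c44 LD3_c55)) = (LP (LK LD1_c28 LD2_c14 LD3_c47)) :=
  Lre_c IH (LK LD1_c18 LD2_c44 LD3_c55) (LK LD1_c28 LD2_c14 LD3_c47) Lrfl Lrfl
theorem f322907 : Led Lsl_ff (LP (LK LD1_c32 LD2_c15 LD3_c0)) = (LP (LK LD1_c28 LD2_c14 LD3_c47)) :=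
  Lgr Lrot23 (Lpr_ct (f322899 IH) (Lpr_ft (f317735 IH) (Lpr_ct (f317702 IH) (Lpn (LP (LK LD1_c28 LD2_c14 LD3_c47))))))
theorem f322914 : Led Lsl_ft (LP (LK LD1_c32 LD2_c15 LD3_c0)) = (LP (LK LD1_c28 LD2_c14 LD3_c47)) :=
  Lgr Lrot48 (Lpr_ff (f322907 IH) (Lpn (LP (LK LD1_c28 LD2_c14 LD3_c47))))
theorem f317706 : Led Lsl_ft (LP (LK LD1_c2 LD2_c40 LD3_c15)) = (LP (LK LD1_c5 LD2_c27 LD3_c49)) :=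
  Lre_f IH (LK LD1_c2 LD2_c40 LD3_c15) (LK LD1_c5 LD2_c27 LD3_c49) Lrfl Lrfl
theorem f317773 : Led Lsl_at (LP (LK LD1_c5 LD2_c27 LD3_c49)) = (LP (LK LD1_c6 LD2_c5 LD3_c51)) :=
  Lgr Lrot26 (Lpe (f317706 IH) (Lpr_gt (f317765 IH) (Lpr_gt (f169526 IH) (Lpn (LP (LK LD1_c6 LD2_c5 LD3_c51))))))
theorem f214840 : Led Lsl_dt (LP (LK LD1_c10 LD2_c19 LD3_c37)) = (LP (LK LD1_c18 LD2_c44 LD3_c55)) :=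
  Lre_d IH (LK LD1_c10 LD2_c19 LD3_c37) (LK LD1_c18 LD2_c44 LD3_c55) Lrfl Lrfl
theorem f261493 : Led Lsl_ct (LP (LK LD1_c11 LD2_c55 LD3_c11)) = (LP (LK LD1_c6 LD2_c5 LD3_c51)) :=
  Lre_c IH (LK LD1_c11 LD2_c55 LD3_c11) (LK LD1_c6 LD2_c5 LD3_c51) Lrfl Lrfl
theorem f261490 : Led Lsl_dt (LP (LK LD1_c21 LD2_c0 LD3_c2)) = (LP (LK LD1_c11 LD2_c55 LD3_c11)) :=
  Lre_d IH (LK LD1_c21 LD2_c0 LD3_c2) (LK LD1_c11 LD2_c55 LD3_c11) Lrfl Lrfl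
theorem f261489 : Led Lsl_ct (LP (LK LD1_c29 LD2_c48 LD3_c28)) = (LP (LK LD1_c21 LD2_c0 LD3_c2)) :=
  Lre_c IH (LK LD1_c29 LD2_c48 LD3_c28) (LK LD1_c21 LD2_c0 LD3_c2) Lrfl Lrfl
theorem f317792 : Led Lsl_dt (LP (LK LD1_c28 LD2_c14 LD3_c47)) = (LP (LK LD1_c29 LD2_c48 LD3_c28)) :=
  Lgr Lrot140 (Lpe (f317702 IH) (Lpe (f214840 IH) (Lpe (f214813 IH) (Lpe (f317697 IH) (Lpr_ft (f317706 IH) (Lpr_at (f317773 IH) (Lpe (f261493 IH) (Lpe (f261490 IH) (Lpe (f261489 IH) (Lpn (LP (LK LD1_c29 LD2_c48 LD3_c28))))))))))))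
theorem f322919 : Led Lsl_ff (LP (LK LD1_c26 LD2_c43 LD3_c2)) = (LP (LK LD1_c29 LD2_c48 LD3_c28)) :=
  Lgr Lrot19 (Lpr_dt (f271598 IH) (Lpr_ft (f322914 IH) (Lpr_dt (f317792 IH) (Lpn (LP (LK LD1_c29 LD2_c48 LD3_c28))))))
theorem f317795 : Led Lsl_df (LP (LK LD1_c28 LD2_c14 LD3_c47)) = (LP (LK LD1_c29 LD2_c48 LD3_c28)) :=
  Lgr Lrot38 (Lpr_dt (f317792 IH) (Lpn (LP (LK LD1_c29 LD2_c48 LD3_c28))))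
theorem f317785 : Led Lsl_ct (LP (LK LD1_c28 LD2_c14 LD3_c47)) = (LP (LK LD1_c18 LD2_c44 LD3_c55)) :=
  Lre_c IH (LK LD1_c28 LD2_c14 LD3_c47) (LK LD1_c18 LD2_c44 LD3_c55) Lrfl Lrfl
theorem f214811 : Led Lsl_dt (LP (LK LD1_c18 LD2_c44 LD3_c55)) = (LP (LK LD1_c10 LD2_c19 LD3_c37)) :=
  Lre_d IH (LK LD1_c18 LD2_c44 LD3_c55) (LK LD1_c10 LD2_c19 LD3_c37) Lrfl Lrfl
theorem f317667 : Led Lsl_df (LP (LK LD1_c2 LD2_c1 LD3_c59)) = (LP (LK LD1_c1 LD2_c16 LD3_c52)) :=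
  Lgr Lrot38 (Lpr_dt (f317661 IH) (Lpn (LP (LK LD1_c1 LD2_c16 LD3_c52))))
theorem f244864 : Led Lsl_et (LP (LK LD1_c2 LD2_c40 LD3_c15)) = (LP (LK LD1_c1 LD2_c16 LD3_c52)) :=
  Lre_e IH (LK LD1_c2 LD2_c40 LD3_c15) (LK LD1_c1 LD2_c16 LD3_c52) Lrfl Lrfl
theorem f317687 : Led Lsl_df (LP (LK LD1_c2 LD2_c40 LD3_c15)) = (LP (LK LD1_c5 LD2_c15 LD3_c5)) :=
  Lgr Lrot70 (Lpr_et (f244864 IH) (Lpe (f317667 IH) (Lpr_et (f317681 IH) (Lpe (K15.f259206 IH) (Lpr_et (K14.f214800 IH) (Lpn (LP (LK LD1_c5 LD2_c15 LD3_c5))))))))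
theorem f282867 : Led Lsl_ct (LP (LK LD1_c2 LD2_c40 LD3_c15)) = (LP (LK LD1_c5 LD2_c27 LD3_c47)) :=
  Lre_c IH (LK LD1_c2 LD2_c40 LD3_c15) (LK LD1_c5 LD2_c27 LD3_c47) Lrfl Lrfl
theorem f282849 : Led Lsl_dt (LP (LK LD1_c5 LD2_c27 LD3_c47)) = (LP (LK LD1_c10 LD2_c46 LD3_c43)) :=
  Lre_d IH (LK LD1_c5 LD2_c27 LD3_c47) (LK LD1_c10 LD2_c46 LD3_c43) Lrfl Lrfl
theorem f282868 : Led Lsl_ct (LP (LK LD1_c10 LD2_c46 LD3_c43)) = (LP (LK LD1_c19 LD2_c29 LD3_c43)) :=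
  Lre_c IH (LK LD1_c10 LD2_c46 LD3_c43) (LK LD1_c19 LD2_c29 LD3_c43) Lrfl Lrfl
theorem f322924 : Led Lsl_at (LP (LK LD1_c26 LD2_c43 LD3_c2)) = (LP (LK LD1_c19 LD2_c29 LD3_c43)) :=
  Lgr Lrot33 (Lpr_ff (f322919 IH) (Lpe (f317795 IH) (Lpr_ct (f317785 IH) (Lpr_dt (f214811 IH) (Lpr_ct (K14.f214805 IH) (Lpe (f317687 IH) (Lpr_ct (f282867 IH) (Lpr_dt (f282849 IH) (Lpr_ct (f282868 IH) (Lpn (LP (LK LD1_c19 LD2_c29 LD3_c43))))))))))))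
theorem f310388 : Led Lsl_et (LP (LK LD1_c32 LD2_c14 LD3_c54)) = (LP (LK LD1_c26 LD2_c43 LD3_c2)) :=
  Lre_e IH (LK LD1_c32 LD2_c14 LD3_c54) (LK LD1_c26 LD2_c43 LD3_c2) Lrfl Lrfl
theorem f322861 : Led Lsl_et (LP (LK LD1_c19 LD2_c29 LD3_c43)) = (LP (LK LD1_c28 LD2_c51 LD3_c59)) :=
  Lre_e IH (LK LD1_c19 LD2_c29 LD3_c43) (LK LD1_c28 LD2_c51 LD3_c59) Lrfl Lrfl
theorem f322928 : Led Lsl_af (LP (LK LD1_c32 LD2_c14 LD3_c54)) = (LP (LK LD1_c28 LD2_c51 LD3_c59)) :=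
  Lgr Lrot50 (Lpr_et (f310388 IH) (Lpr_at (f322924 IH) (Lpr_et (f322861 IH) (Lpn (LP (LK LD1_c28 LD2_c51 LD3_c59))))))
theorem f282752 : Led Lsl_ct (LP (LK LD1_c32 LD2_c14 LD3_c54)) = (LP (LK LD1_c26 LD2_c42 LD3_c59)) :=
  Lre_c IH (LK LD1_c32 LD2_c14 LD3_c54) (LK LD1_c26 LD2_c42 LD3_c59) Lrfl Lrfl
theorem f262966 : Led Lsl_ct (LP (LK LD1_c19 LD2_c29 LD3_c37)) = (LP (LK LD1_c28 LD2_c51 LD3_c59)) :=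
  Lre_c IH (LK LD1_c19 LD2_c29 LD3_c37) (LK LD1_c28 LD2_c51 LD3_c59) Lrfl Lrfl
theorem f322947 : Led Lsl_at (LP (LK LD1_c26 LD2_c42 LD3_c59)) = (LP (LK LD1_c19 LD2_c29 LD3_c37)) :=
  Lgr Lrot107 (Lpe (f282752 IH) (Lpr_af (f322928 IH) (Lpe (f262966 IH) (Lpn (LP (LK LD1_c19 LD2_c29 LD3_c37))))))
theorem f282763 : Led Lsl_ft (LP (LK LD1_c32 LD2_c14 LD3_c55)) = (LP (LK LD1_c26 LD2_c42 LD3_c59)) :=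
  Lre_f IH (LK LD1_c32 LD2_c14 LD3_c55) (LK LD1_c26 LD2_c42 LD3_c59) Lrfl Lrfl
theorem f262946 : Led Lsl_ft (LP (LK LD1_c19 LD2_c29 LD3_c37)) = (LP (LK LD1_c28 LD2_c51 LD3_c60)) :=
  Lre_f IH (LK LD1_c19 LD2_c29 LD3_c37) (LK LD1_c28 LD2_c51 LD3_c60) Lrfl Lrfl
theorem f322956 : Led Lsl_af (LP (LK LD1_c32 LD2_c14 LD3_c55)) = (LP (LK LD1_c28 LD2_c51 LD3_c60)) :=
  Lgr Lrot45 (Lpr_ft (f282763 IH) (Lpr_at (f322947 IH) (Lpr_ft (f262946 IH) (Lpn (LP (LK LD1_c28 LD2_c51 LD3_c60))))))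
theorem f282762 : Led Lsl_dt (LP (LK LD1_c32 LD2_c14 LD3_c55)) = (LP (LK LD1_c26 LD2_c42 LD3_c60)) :=
  Lre_d IH (LK LD1_c32 LD2_c14 LD3_c55) (LK LD1_c26 LD2_c42 LD3_c60) Lrfl Lrfl
theorem f262954 : Led Lsl_dt (LP (LK LD1_c19 LD2_c29 LD3_c38)) = (LP (LK LD1_c28 LD2_c51 LD3_c60)) :=
  Lre_d IH (LK LD1_c19 LD2_c29 LD3_c38) (LK LD1_c28 LD2_c51 LD3_c60) Lrfl Lrfl
theorem f322962 : Led Lsl_at (LP (LK LD1_c26 LD2_c42 LD3_c60)) = (LP (LK LD1_c19 LD2_c29 LD3_c38)) :=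
  Lgr Lrot51 (Lpe (f282762 IH) (Lpr_af (f322956 IH) (Lpe (f262954 IH) (Lpn (LP (LK LD1_c19 LD2_c29 LD3_c38))))))
theorem f282719 : Led Lsl_et (LP (LK LD1_c8 LD2_c31 LD3_c18)) = (LP (LK LD1_c15 LD2_c59 LD3_c58)) :=
  Lre_e IH (LK LD1_c8 LD2_c31 LD3_c18) (LK LD1_c15 LD2_c59 LD3_c58) Lrfl Lrfl
theorem f282734 : Led Lsl_et (LP (LK LD1_c16 LD2_c44 LD3_c12)) = (LP (LK LD1_c8 LD2_c56 LD3_c27)) :=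
  Lre_e IH (LK LD1_c16 LD2_c44 LD3_c12) (LK LD1_c8 LD2_c56 LD3_c27) Lrfl Lrfl
theorem f282735 : Led Lsl_ct (LP (LK LD1_c15 LD2_c59 LD3_c58)) = (LP (LK LD1_c16 LD2_c44 LD3_c12)) :=
  Lgr Lrot15 (Lpe (f282719 IH) (Lpr_cf (K17.f282725 IH) (Lpe (f282734 IH) (Lpn (LP (LK LD1_c16 LD2_c44 LD3_c12))))))
theorem f282745 : Led Lsl_ft (LP (LK LD1_c25 LD2_c57 LD3_c19)) = (LP (LK LD1_c15 LD2_c59 LD3_c58)) :=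
  Lre_f IH (LK LD1_c25 LD2_c57 LD3_c19) (LK LD1_c15 LD2_c59 LD3_c58) Lrfl Lrfl
theorem f282746 : Led Lsl_ft (LP (LK LD1_c16 LD2_c44 LD3_c12)) = (LP (LK LD1_c26 LD2_c42 LD3_c60)) :=
  Lre_f IH (LK LD1_c16 LD2_c44 LD3_c12) (LK LD1_c26 LD2_c42 LD3_c60) Lrfl Lrfl
theorem f282747 : Led Lsl_cf (LP (LK LD1_c25 LD2_c57 LD3_c19)) = (LP (LK LD1_c26 LD2_c42 LD3_c60)) :=
  Lgr Lrot108 (Lpr_ft (f282745 IH) (Lpr_ct (f282735 IH) (Lpr_ft (f282746 IH) (Lpn (LP (LK LD1_c26 LD2_c42 LD3_c60))))))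
theorem f282760 : Led Lsl_ct (LP (LK LD1_c25 LD2_c57 LD3_c19)) = (LP (LK LD1_c26 LD2_c42 LD3_c60)) :=
  Lgr Lrot59 (Lpr_cf (f282747 IH) (Lpn (LP (LK LD1_c26 LD2_c42 LD3_c60))))
theorem f262931 : Led Lsl_et (LP (LK LD1_c5 LD2_c27 LD3_c46)) = (LP (LK LD1_c10 LD2_c46 LD3_c41)) :=
  Lre_e IH (LK LD1_c5 LD2_c27 LD3_c46) (LK LD1_c10 LD2_c46 LD3_c41) Lrfl Lrfl
theorem f262915 : Led Lsl_et (LP (LK LD1_c15 LD2_c58 LD3_c22)) = (LP (LK LD1_c8 LD2_c30 LD3_c21)) :=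
  Lre_e IH (LK LD1_c15 LD2_c58 LD3_c22) (LK LD1_c8 LD2_c30 LD3_c21) Lrfl Lrfl
theorem f262932 : Led Lsl_ct (LP (LK LD1_c10 LD2_c46 LD3_c41)) = (LP (LK LD1_c15 LD2_c58 LD3_c22)) :=
  Lgr Lrot15 (Lpe (f262931 IH) (Lpr_cf (K17.f262909 IH) (Lpe (f262915 IH) (Lpn (LP (LK LD1_c15 LD2_c58 LD3_c22))))))
theorem f262942 : Led Lsl_ft (LP (LK LD1_c19 LD2_c29 LD3_c38)) = (LP (LK LD1_c10 LD2_c46 LD3_c41)) :=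
  Lre_f IH (LK LD1_c19 LD2_c29 LD3_c38) (LK LD1_c10 LD2_c46 LD3_c41) Lrfl Lrfl
theorem f262943 : Led Lsl_ft (LP (LK LD1_c15 LD2_c58 LD3_c22)) = (LP (LK LD1_c25 LD2_c55 LD3_c23)) :=
  Lre_f IH (LK LD1_c15 LD2_c58 LD3_c22) (LK LD1_c25 LD2_c55 LD3_c23) Lrfl Lrfl
theorem f262944 : Led Lsl_cf (LP (LK LD1_c19 LD2_c29 LD3_c38)) = (LP (LK LD1_c25 LD2_c55 LD3_c23)) :=
  Lgr Lrot108 (Lpr_ft (f262942 IH) (Lpr_ct (f262932 IH) (Lpr_ft (f262943 IH) (Lpn (LP (LK LD1_c25 LD2_c55 LD3_c23))))))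
theorem f262952 : Led Lsl_ct (LP (LK LD1_c19 LD2_c29 LD3_c38)) = (LP (LK LD1_c25 LD2_c55 LD3_c23)) :=
  Lgr Lrot59 (Lpr_cf (f262944 IH) (Lpn (LP (LK LD1_c25 LD2_c55 LD3_c23))))
theorem f322972 : Led Lsl_af (LP (LK LD1_c25 LD2_c57 LD3_c19)) = (LP (LK LD1_c25 LD2_c55 LD3_c23)) :=
  Lgr Lrot68 (Lpr_ct (f282760 IH) (Lpr_at (f322962 IH) (Lpr_ct (f262952 IH) (Lpn (LP (LK LD1_c25 LD2_c55 LD3_c23))))))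
theorem f322978 : Led Lsl_at (LP (LK LD1_c15 LD2_c59 LD3_c58)) = (LP (LK LD1_c15 LD2_c58 LD3_c22)) :=
  Lgr Lrot66 (Lpe (f282745 IH) (Lpr_af (f322972 IH) (Lpe (f262943 IH) (Lpn (LP (LK LD1_c15 LD2_c58 LD3_c22))))))
theorem f322986 : Led Lsl_af (LP (LK LD1_c8 LD2_c31 LD3_c18)) = (LP (LK LD1_c8 LD2_c30 LD3_c21)) :=
  Lgr Lrot50 (Lpr_et (f282719 IH) (Lpr_at (f322978 IH) (Lpr_et (f262915 IH) (Lpn (LP (LK LD1_c8 LD2_c30 LD3_c21))))))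
theorem f322998 : Led Lsl_ft (LP (LK LD1_c8 LD2_c31 LD3_c17)) = (LP (LK LD1_c8 LD2_c30 LD3_c21)) :=
  Lgr Lrot142 (Lpr_dt (K17.f271037 IH) (Lpr_ct (K16.f199579 IH) (Lpe (K16.f259285 IH) (Lpe (K14.f253247 IH) (Lpr_dt (K17.f271573 IH) (Lpr_ct (K16.f177927 IH) (Lpr_dt (K17.f245143 IH) (Lpe (K17.f282725 IH) (Lpr_af (f322986 IH) (Lpn (LP (LK LD1_c8 LD2_c30 LD3_c21))))))))))))
theorem f323004 : Led Lsl_ff (LP (LK LD1_c8 LD2_c31 LD3_c17)) = (LP (LK LD1_c8 LD2_c30 LD3_c21)) :=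
  Lgr Lrot3 (Lpr_ft (f322998 IH) (Lpn (LP (LK LD1_c8 LD2_c30 LD3_c21))))
theorem f323017 : Led Lsl_at (LP (LK LD1_c8 LD2_c31 LD3_c17)) = (LP (LK LD1_c8 LD2_c30 LD3_c24)) :=
  Lgr Lrot33 (Lpr_ff (f323004 IH) (Lpr_dt (K16.f243404 IH) (Lpr_ct (K15.f243398 IH) (Lpr_dt (K18.f283212 IH) (Lpr_ct (K15.f261399 IH) (Lpe (K13.f235997 IH) (Lpr_ct (K13.f173955 IH) (Lpr_dt (K16.f235777 IH) (Lpe (K18.f271468 IH) (Lpn (LP (LK LD1_c8 LD2_c30 LD3_c24))))))))))))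
theorem f322990 : Led Lsl_at (LP (LK LD1_c8 LD2_c31 LD3_c18)) = (LP (LK LD1_c8 LD2_c30 LD3_c21)) :=
  Lgr Lrot100 (Lpr_af (f322986 IH) (Lpn (LP (LK LD1_c8 LD2_c30 LD3_c21))))
theorem f323026 : Led Lsl_ff (LP (LK LD1_c8 LD2_c31 LD3_c18)) = (LP (LK LD1_c8 LD2_c30 LD3_c24)) :=
  Lgr Lrot30 (Lpr_at (f322990 IH) (Lpe (f323004 IH) (Lpr_at (f323017 IH) (Lpn (LP (LK LD1_c8 LD2_c30 LD3_c24))))))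
theorem f323038 : Led Lsl_ft (LP (LK LD1_c8 LD2_c31 LD3_c18)) = (LP (LK LD1_c8 LD2_c30 LD3_c24)) :=
  Lgr Lrot48 (Lpr_ff (f323026 IH) (Lpn (LP (LK LD1_c8 LD2_c30 LD3_c24))))
theorem f323042 : Led Lsl_ff (LP (LK LD1_c8 LD2_c56 LD3_c27)) = (LP (LK LD1_c5 LD2_c27 LD3_c38)) :=
  Lgr Lrot23 (Lpe (K17.f282725 IH) (Lpr_ft (f323038 IH) (Lpr_ct (K16.f271460 IH) (Lpn (LP (LK LD1_c5 LD2_c27 LD3_c38))))))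
theorem f323121 : Led Lsl_ft (LP (LK LD1_c4 LD2_c29 LD3_c5)) = (LP (LK LD1_c2 LD2_c40 LD3_c11)) :=
  Lgr Lrot54 (Lpe (K17.f221079 IH) (Lpr_ff (f323042 IH) (Lpe (K16.f235777 IH) (Lpn (LP (LK LD1_c2 LD2_c40 LD3_c11))))))
theorem f282794 : Led Lsl_dt (LP (LK LD1_c8 LD2_c24 LD3_c16)) = (LP (LK LD1_c8 LD2_c31 LD3_c17)) :=
  Lgr Lrot173 (Lpe (K16.f236226 IH) (Lpe (K17.f259283 IH) (Lpr_cf (K16.f259280 IH) (Lpr_df (K16.f271575 IH) (Lpe (K16.f177943 IH) (Lpe (K17.f221079 IH) (Lpe (K17.f282721 IH) (Lpr_df (K17.f282712 IH) (Lpe (K15.f190839 IH) (Lpe (K14.f190829 IH) (Lpe (K17.f190838 IH) (Lpe (K16.f190837 IH) (Lpe (K18.f236258 IH) (Lpe (K17.f236319 IH) (Lpr_cf (K17.f282775 IH) (Lpn (LP (LK LD1_c8 LD2_c31 LD3_c17))))))))))))))))))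
theorem f282796 : Led Lsl_gf (LP (LK LD1_c4 LD2_c9 LD3_c14)) = (LP (LK LD1_c4 LD2_c13 LD3_c61)) :=
  Lgr Lrot143 (Lpr_dt (K17.f236320 IH) (Lpr_cf (K17.f282775 IH) (Lpe (f282794 IH) (Lpe (K16.f236227 IH) (Lpe (K13.f190852 IH) (Lpe (K16.f271536 IH) (Lpe (K16.f33479 IH) (Lpe (K12.f188900 IH) (Lpr_dt (K12.f188567 IH) (Lpn (LP (LK LD1_c4 LD2_c13 LD3_c61))))))))))))
theorem f323130 : Led Lsl_af (LP (LK LD1_c4 LD2_c9 LD3_c14)) = (LP (LK LD1_c2 LD2_c40 LD3_c11)) :=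
  Lgr Lrot31 (Lpr_gf (f282796 IH) (Lpe (K18.f189091 IH) (Lpr_ft (f323121 IH) (Lpn (LP (LK LD1_c2 LD2_c40 LD3_c11))))))
theorem f295308 : Led Lsl_et (LP (LK LD1_c4 LD2_c9 LD3_c14)) = (LP (LK LD1_c8 LD2_c18 LD3_c28)) :=
  Lre_e IH (LK LD1_c4 LD2_c9 LD3_c14) (LK LD1_c8 LD2_c18 LD3_c28) Lrfl Lrfl
theorem f235788 : Led Lsl_et (LP (LK LD1_c5 LD2_c27 LD3_c39)) = (LP (LK LD1_c2 LD2_c40 LD3_c11)) :=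
  Lre_e IH (LK LD1_c5 LD2_c27 LD3_c39) (LK LD1_c2 LD2_c40 LD3_c11) Lrfl Lrfl
theorem f323139 : Led Lsl_at (LP (LK LD1_c8 LD2_c18 LD3_c28)) = (LP (LK LD1_c5 LD2_c27 LD3_c39)) :=
  Lgr Lrot80 (Lpe (f295308 IH) (Lpr_af (f323130 IH) (Lpe (f235788 IH) (Lpn (LP (LK LD1_c5 LD2_c27 LD3_c39))))))
theorem f323151 : Led Lsl_ft (LP (LK LD1_c15 LD2_c37 LD3_c33)) = (LP (LK LD1_c8 LD2_c18 LD3_c28)) :=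
  Lre_f IH (LK LD1_c15 LD2_c37 LD3_c33) (LK LD1_c8 LD2_c18 LD3_c28) Lrfl Lrfl
theorem f323127 : Led Lsl_ft (LP (LK LD1_c5 LD2_c27 LD3_c39)) = (LP (LK LD1_c10 LD2_c46 LD3_c26)) :=
  Lre_f IH (LK LD1_c5 LD2_c27 LD3_c39) (LK LD1_c10 LD2_c46 LD3_c26) Lrfl Lrfl
theorem f323152 : Led Lsl_af (LP (LK LD1_c15 LD2_c37 LD3_c33)) = (LP (LK LD1_c10 LD2_c46 LD3_c26)) :=
  Lgr Lrot45 (Lpr_ft (f323151 IH) (Lpr_at (f323139 IH) (Lpr_ft (f323127 IH) (Lpn (LP (LK LD1_c10 LD2_c46 LD3_c26))))))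
theorem f323161 : Led Lsl_ct (LP (LK LD1_c8 LD2_c18 LD3_c29)) = (LP (LK LD1_c15 LD2_c37 LD3_c33)) :=
  Lre_c IH (LK LD1_c8 LD2_c18 LD3_c29) (LK LD1_c15 LD2_c37 LD3_c33) Lrfl Lrfl
theorem f323178 : Led Lsl_dt (LP (LK LD1_c4 LD2_c9 LD3_c13)) = (LP (LK LD1_c8 LD2_c18 LD3_c29)) :=
  Lre_d IH (LK LD1_c4 LD2_c9 LD3_c13) (LK LD1_c8 LD2_c18 LD3_c29) Lrfl Lrfl
theorem f323179 : Led Lsl_ct (LP (LK LD1_c8 LD2_c18 LD3_c23)) = (LP (LK LD1_c4 LD2_c9 LD3_c13)) :=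
  Lre_c IH (LK LD1_c8 LD2_c18 LD3_c23) (LK LD1_c4 LD2_c9 LD3_c13) Lrfl Lrfl
theorem f323180 : Led Lsl_dt (LP (LK LD1_c15 LD2_c37 LD3_c22)) = (LP (LK LD1_c8 LD2_c18 LD3_c23)) :=
  Lre_d IH (LK LD1_c15 LD2_c37 LD3_c22) (LK LD1_c8 LD2_c18 LD3_c23) Lrfl Lrfl
theorem f323181 : Led Lsl_ct (LP (LK LD1_c25 LD2_c32 LD3_c7)) = (LP (LK LD1_c15 LD2_c37 LD3_c22)) :=
  Lre_c IH (LK LD1_c25 LD2_c32 LD3_c7) (LK LD1_c15 LD2_c37 LD3_c22) Lrfl Lrfl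
theorem f235789 : Led Lsl_dt (LP (LK LD1_c5 LD2_c27 LD3_c39)) = (LP (LK LD1_c10 LD2_c46 LD3_c25)) :=
  Lre_d IH (LK LD1_c5 LD2_c27 LD3_c39) (LK LD1_c10 LD2_c46 LD3_c25) Lrfl Lrfl
theorem f236006 : Led Lsl_ct (LP (LK LD1_c10 LD2_c46 LD3_c25)) = (LP (LK LD1_c19 LD2_c29 LD3_c3)) :=
  Lre_c IH (LK LD1_c10 LD2_c46 LD3_c25) (LK LD1_c19 LD2_c29 LD3_c3) Lrfl Lrfl
theorem f323182 : Led Lsl_df (LP (LK LD1_c25 LD2_c32 LD3_c7)) = (LP (LK LD1_c19 LD2_c29 LD3_c3)) :=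
  Lgr Lrot106 (Lpr_ct (f323181 IH) (Lpr_dt (f323180 IH) (Lpr_ct (f323179 IH) (Lpr_dt (f323178 IH) (Lpr_ct (f323161 IH) (Lpr_af (f323152 IH) (Lpe (f323127 IH) (Lpr_dt (f235789 IH) (Lpr_ct (f236006 IH) (Lpn (LP (LK LD1_c19 LD2_c29 LD3_c3))))))))))))
theorem f236016 : Led Lsl_ft (LP (LK LD1_c4 LD2_c8 LD3_c16)) = (LP (LK LD1_c8 LD2_c16 LD3_c36)) :=
  Lre_f IH (LK LD1_c4 LD2_c8 LD3_c16) (LK LD1_c8 LD2_c16 LD3_c36) Lrfl Lrfl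
theorem f323194 : Led Lsl_af (LP (LK LD1_c4 LD2_c9 LD3_c13)) = (LP (LK LD1_c8 LD2_c16 LD3_c36)) :=
  Lgr Lrot109 (Lpe (f323179 IH) (Lpe (f323180 IH) (Lpe (f323181 IH) (Lpr_df (f323182 IH) (Lpe (f236006 IH) (Lpe (f235789 IH) (Lpe (K14.f235801 IH) (Lpr_df (K19.f235999 IH) (Lpr_ft (f236016 IH) (Lpn (LP (LK LD1_c8 LD2_c16 LD3_c36))))))))))))
theorem f323210 : Led Lsl_gf (LP (LK LD1_c4 LD2_c9 LD3_c13)) = (LP (LK LD1_c8 LD2_c16 LD3_c35)) :=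
  Lgr Lrot76 (Lpr_af (f323194 IH) (Lpe (f236016 IH) (Lpr_gt (K18.f236018 IH) (Lpn (LP (LK LD1_c8 LD2_c16 LD3_c35))))))
theorem f323212 : Led Lsl_gt (LP (LK LD1_c4 LD2_c9 LD3_c13)) = (LP (LK LD1_c4 LD2_c15 LD3_c40)) :=
  Lgr Lrot46 (Lpr_gf (f323210 IH) (Lpr_ft (K18.f295771 IH) (Lpr_at (K18.f295009 IH) (Lpn (LP (LK LD1_c4 LD2_c15 LD3_c40))))))
theorem f323216 : Led Lsl_dt (LP (LK LD1_c8 LD2_c18 LD3_c29)) = (LP (LK LD1_c4 LD2_c9 LD3_c13)) :=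
  Lre_d IH (LK LD1_c8 LD2_c18 LD3_c29) (LK LD1_c4 LD2_c9 LD3_c13) Lrfl Lrfl
theorem f245113 : Led Lsl_dt (LP (LK LD1_c10 LD2_c44 LD3_c5)) = (LP (LK LD1_c5 LD2_c26 LD3_c26)) :=
  Lre_d IH (LK LD1_c10 LD2_c44 LD3_c5) (LK LD1_c5 LD2_c26 LD3_c26) Lrfl Lrfl
theorem f323217 : Led Lsl_gf (LP (LK LD1_c8 LD2_c18 LD3_c29)) = (LP (LK LD1_c5 LD2_c27 LD3_c40)) :=
  Lgr Lrot144 (Lpr_dt (f323216 IH) (Lpr_gt (f323212 IH) (Lpe (K18.f245919 IH) (Lpe (K19.f245131 IH) (Lpe (f245113 IH) (Lpe (K17.f245099 IH) (Lpr_df (K17.f286078 IH) (Lpe (f298879 IH) (Lpe (f235808 IH) (Lpn (LP (LK LD1_c5 LD2_c27 LD3_c40))))))))))))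
theorem f236002 : Led Lsl_et (LP (LK LD1_c10 LD2_c46 LD3_c29)) = (LP (LK LD1_c5 LD2_c27 LD3_c40)) :=
  Lre_e IH (LK LD1_c10 LD2_c46 LD3_c29) (LK LD1_c5 LD2_c27 LD3_c40) Lrfl Lrfl
theorem f45172 : Led Lsl_gt (LP (LK LD1_c4 LD2_c15 LD3_c2)) = (LP (LK LD1_c8 LD2_c29 LD3_c6)) :=
  Lre_g IH (LK LD1_c4 LD2_c15 LD3_c2) (LK LD1_c8 LD2_c29 LD3_c6) Lrfl Lrfl
theorem f323224 : Led Lsl_dt (LP (LK LD1_c10 LD2_c46 LD3_c29)) = (LP (LK LD1_c8 LD2_c29 LD3_c6)) :=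
  Lgr Lrot37 (Lpr_et (f236002 IH) (Lpe (f323217 IH) (Lpr_dt (f323216 IH) (Lpr_gt (f323212 IH) (Lpr_df (K19.f298852 IH) (Lpr_et (K19.f243600 IH) (Lpr_gt (K17.f194213 IH) (Lpe (K10.f45161 IH) (Lpe (K10.f45162 IH) (Lpr_gt (f45172 IH) (Lpn (LP (LK LD1_c8 LD2_c29 LD3_c6)))))))))))))
theorem f250744 : Led Lsl_et (LP (LK LD1_c5 LD2_c27 LD3_c40)) = (LP (LK LD1_c10 LD2_c46 LD3_c29)) :=
  Lre_e IH (LK LD1_c5 LD2_c27 LD3_c40) (LK LD1_c10 LD2_c46 LD3_c29) Lrfl Lrfl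
theorem f250738 : Led Lsl_ef (LP (LK LD1_c10 LD2_c46 LD3_c28)) = (LP (LK LD1_c8 LD2_c29 LD3_c51)) :=
  Lgr Lrot88 (Lpr_et (f250733 IH) (Lpn (LP (LK LD1_c8 LD2_c29 LD3_c51))))
theorem f323229 : Led Lsl_et (LP (LK LD1_c8 LD2_c29 LD3_c6)) = (LP (LK LD1_c15 LD2_c56 LD3_c4)) :=
  Lre_e IH (LK LD1_c8 LD2_c29 LD3_c6) (LK LD1_c15 LD2_c56 LD3_c4) Lrfl Lrfl
theorem f323230 : Led Lsl_df (LP (LK LD1_c8 LD2_c29 LD3_c51)) = (LP (LK LD1_c15 LD2_c56 LD3_c4)) :=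
  Lgr Lrot70 (Lpe (f250738 IH) (Lpr_dt (f236020 IH) (Lpr_et (f250744 IH) (Lpr_dt (f323224 IH) (Lpr_et (f323229 IH) (Lpn (LP (LK LD1_c15 LD2_c56 LD3_c4))))))))
theorem f250746 : Led Lsl_df (LP (LK LD1_c4 LD2_c15 LD3_c28)) = (LP (LK LD1_c4 LD2_c29 LD3_c13)) :=
  Lgr Lrot38 (Lpr_dt (K18.f250731 IH) (Lpn (LP (LK LD1_c4 LD2_c29 LD3_c13))))
theorem f237858 : Led Lsl_et (LP (LK LD1_c2 LD2_c39 LD3_c21)) = (LP (LK LD1_c1 LD2_c16 LD3_c26)) :=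
  Lre_e IH (LK LD1_c2 LD2_c39 LD3_c21) (LK LD1_c1 LD2_c16 LD3_c26) Lrfl Lrfl
theorem f246295 : Led Lsl_gt (LP (LK LD1_c1 LD2_c17 LD3_c47)) = (LP (LK LD1_c2 LD2_c42 LD3_c24)) :=
  Lre_g IH (LK LD1_c1 LD2_c17 LD3_c47) (LK LD1_c2 LD2_c42 LD3_c24) Lrfl Lrfl
theorem f258839 : Led Lsl_dt (LP (LK LD1_c15 LD2_c55 LD3_c11)) = (LP (LK LD1_c25 LD2_c51 LD3_c27)) :=
  Lre_d IH (LK LD1_c15 LD2_c55 LD3_c11) (LK LD1_c25 LD2_c51 LD3_c27) Lrfl Lrfl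
theorem f262878 : Led Lsl_et (LP (LK LD1_c2 LD2_c11 LD3_c58)) = (LP (LK LD1_c4 LD2_c29 LD3_c52)) :=
  Lre_e IH (LK LD1_c2 LD2_c11 LD3_c58) (LK LD1_c4 LD2_c29 LD3_c52) Lrfl Lrfl
theorem f271754 : Led Lsl_gt (LP (LK LD1_c4 LD2_c29 LD3_c52)) = (LP (LK LD1_c8 LD2_c57 LD3_c54)) :=
  Lre_g IH (LK LD1_c4 LD2_c29 LD3_c52) (LK LD1_c8 LD2_c57 LD3_c54) Lrfl Lrfl
theorem f271758 : Led Lsl_dt (LP (LK LD1_c8 LD2_c57 LD3_c54)) = (LP (LK LD1_c16 LD2_c46 LD3_c42)) :=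
  Lre_d IH (LK LD1_c8 LD2_c57 LD3_c54) (LK LD1_c16 LD2_c46 LD3_c42) Lrfl Lrfl
theorem f317913 : Led Lsl_gf (LP (LK LD1_c25 LD2_c51 LD3_c27)) = (LP (LK LD1_c16 LD2_c46 LD3_c42)) :=
  Lgr Lrot134 (Lpe (f258839 IH) (Lpe (f317886 IH) (Lpr_gt (f317902 IH) (Lpe (K17.f261480 IH) (Lpr_dt (K16.f243635 IH) (Lpr_gt (K16.f271458 IH) (Lpe (K15.f182081 IH) (Lpr_et (f262878 IH) (Lpr_gt (f271754 IH) (Lpr_dt (f271758 IH) (Lpn (LP (LK LD1_c16 LD2_c46 LD3_c42)))))))))))))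
theorem f231750 : Led Lsl_dt (LP (LK LD1_c25 LD2_c51 LD3_c27)) = (LP (LK LD1_c15 LD2_c55 LD3_c11)) :=
  Lre_d IH (LK LD1_c25 LD2_c51 LD3_c27) (LK LD1_c15 LD2_c55 LD3_c11) Lrfl Lrfl
theorem f213262 : Led Lsl_ft (LP (LK LD1_c2 LD2_c42 LD3_c18)) = (LP (LK LD1_c5 LD2_c32 LD3_c13)) :=
  Lre_f IH (LK LD1_c2 LD2_c42 LD3_c18) (LK LD1_c5 LD2_c32 LD3_c13) Lrfl Lrfl
theorem f213263 : Led Lsl_at (LP (LK LD1_c5 LD2_c32 LD3_c13)) = (LP (LK LD1_c2 LD2_c42 LD3_c26)) :=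
  Lre_a IH (LK LD1_c5 LD2_c32 LD3_c13) (LK LD1_c2 LD2_c42 LD3_c26) Lrfl Lrfl
theorem f258796 : Led Lsl_ct (LP (LK LD1_c5 LD2_c32 LD3_c28)) = (LP (LK LD1_c2 LD2_c42 LD3_c26)) :=
  Lre_c IH (LK LD1_c5 LD2_c32 LD3_c28) (LK LD1_c2 LD2_c42 LD3_c26) Lrfl Lrfl
theorem f258776 : Led Lsl_dt (LP (LK LD1_c10 LD2_c56 LD3_c44)) = (LP (LK LD1_c5 LD2_c32 LD3_c28)) :=
  Lre_d IH (LK LD1_c10 LD2_c56 LD3_c44) (LK LD1_c5 LD2_c32 LD3_c28) Lrfl Lrfl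
theorem f258797 : Led Lsl_ct (LP (LK LD1_c19 LD2_c46 LD3_c12)) = (LP (LK LD1_c10 LD2_c56 LD3_c44)) :=
  Lre_c IH (LK LD1_c19 LD2_c46 LD3_c12) (LK LD1_c10 LD2_c56 LD3_c44) Lrfl Lrfl
theorem f258790 : Led Lsl_dt (LP (LK LD1_c8 LD2_c28 LD3_c42)) = (LP (LK LD1_c15 LD2_c55 LD3_c10)) :=
  Lre_d IH (LK LD1_c8 LD2_c28 LD3_c42) (LK LD1_c15 LD2_c55 LD3_c10) Lrfl Lrfl
theorem f258791 : Led Lsl_ct (LP (LK LD1_c15 LD2_c55 LD3_c10)) = (LP (LK LD1_c25 LD2_c51 LD3_c26)) :=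
  Lre_c IH (LK LD1_c15 LD2_c55 LD3_c10) (LK LD1_c25 LD2_c51 LD3_c26) Lrfl Lrfl
theorem f258798 : Led Lsl_df (LP (LK LD1_c19 LD2_c46 LD3_c12)) = (LP (LK LD1_c25 LD2_c51 LD3_c26)) :=
  Lgr Lrot13 (Lpr_ct (f258797 IH) (Lpr_dt (f258776 IH) (Lpr_ct (f258796 IH) (Lpe (f213263 IH) (Lpe (f213262 IH) (Lpr_dt (K15.f258689 IH) (Lpr_ct (K15.f231738 IH) (Lpr_dt (f258790 IH) (Lpr_ct (f258791 IH) (Lpn (LP (LK LD1_c25 LD2_c51 LD3_c26))))))))))))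
theorem f258811 : Led Lsl_ft (LP (LK LD1_c19 LD2_c46 LD3_c12)) = (LP (LK LD1_c10 LD2_c56 LD3_c43)) :=
  Lre_f IH (LK LD1_c19 LD2_c46 LD3_c12) (LK LD1_c10 LD2_c56 LD3_c43) Lrfl Lrfl
theorem f258812 : Led Lsl_dt (LP (LK LD1_c10 LD2_c56 LD3_c43)) = (LP (LK LD1_c19 LD2_c46 LD3_c11)) :=
  Lre_d IH (LK LD1_c10 LD2_c56 LD3_c43) (LK LD1_c19 LD2_c46 LD3_c11) Lrfl Lrfl
theorem f258813 : Led Lsl_ft (LP (LK LD1_c19 LD2_c46 LD3_c11)) = (LP (LK LD1_c25 LD2_c51 LD3_c26)) :=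
  Lgr Lrot54 (Lpe (f258812 IH) (Lpe (f258811 IH) (Lpr_df (f258798 IH) (Lpn (LP (LK LD1_c25 LD2_c51 LD3_c26))))))
theorem f258821 : Led Lsl_ct (LP (LK LD1_c25 LD2_c51 LD3_c26)) = (LP (LK LD1_c15 LD2_c55 LD3_c10)) :=
  Lre_c IH (LK LD1_c25 LD2_c51 LD3_c26) (LK LD1_c15 LD2_c55 LD3_c10) Lrfl Lrfl
theorem f258822 : Led Lsl_ft (LP (LK LD1_c15 LD2_c55 LD3_c10)) = (LP (LK LD1_c25 LD2_c51 LD3_c27)) :=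
  Lre_f IH (LK LD1_c15 LD2_c55 LD3_c10) (LK LD1_c25 LD2_c51 LD3_c27) Lrfl Lrfl
theorem f258823 : Led Lsl_cf (LP (LK LD1_c19 LD2_c46 LD3_c11)) = (LP (LK LD1_c25 LD2_c51 LD3_c27)) :=
  Lgr Lrot108 (Lpr_ft (f258813 IH) (Lpr_ct (f258821 IH) (Lpr_ft (f258822 IH) (Lpn (LP (LK LD1_c25 LD2_c51 LD3_c27))))))
theorem f258827 : Led Lsl_dt (LP (LK LD1_c19 LD2_c46 LD3_c11)) = (LP (LK LD1_c10 LD2_c56 LD3_c43)) :=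
  Lre_d IH (LK LD1_c19 LD2_c46 LD3_c11) (LK LD1_c10 LD2_c56 LD3_c43) Lrfl Lrfl
theorem f258828 : Led Lsl_ct (LP (LK LD1_c10 LD2_c56 LD3_c43)) = (LP (LK LD1_c5 LD2_c32 LD3_c27)) :=
  Lre_c IH (LK LD1_c10 LD2_c56 LD3_c43) (LK LD1_c5 LD2_c32 LD3_c27) Lrfl Lrfl
theorem f258841 : Led Lsl_at (LP (LK LD1_c10 LD2_c56 LD3_c1)) = (LP (LK LD1_c5 LD2_c32 LD3_c27)) :=
  Lre_a IH (LK LD1_c10 LD2_c56 LD3_c1) (LK LD1_c5 LD2_c32 LD3_c27) Lrfl Lrfl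
theorem f258842 : Led Lsl_ft (LP (LK LD1_c19 LD2_c44 LD3_c45)) = (LP (LK LD1_c10 LD2_c56 LD3_c1)) :=
  Lre_f IH (LK LD1_c19 LD2_c44 LD3_c45) (LK LD1_c10 LD2_c56 LD3_c1) Lrfl Lrfl
theorem f213370 : Led Lsl_dt (LP (LK LD1_c19 LD2_c44 LD3_c45)) = (LP (LK LD1_c10 LD2_c56 LD3_c2)) :=
  Lre_d IH (LK LD1_c19 LD2_c44 LD3_c45) (LK LD1_c10 LD2_c56 LD3_c2) Lrfl Lrfl
theorem f213247 : Led Lsl_ct (LP (LK LD1_c10 LD2_c56 LD3_c2)) = (LP (LK LD1_c5 LD2_c32 LD3_c13)) :=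
  Lre_c IH (LK LD1_c10 LD2_c56 LD3_c2) (LK LD1_c5 LD2_c32 LD3_c13) Lrfl Lrfl
theorem f258843 : Led Lsl_dt (LP (LK LD1_c5 LD2_c32 LD3_c13)) = (LP (LK LD1_c8 LD2_c28 LD3_c45)) :=
  Lgr Lrot32 (Lpe (f213247 IH) (Lpe (f213370 IH) (Lpr_ft (f258842 IH) (Lpr_at (f258841 IH) (Lpe (f258828 IH) (Lpe (f258827 IH) (Lpr_cf (f258823 IH) (Lpe (f258839 IH) (Lpe (f231744 IH) (Lpn (LP (LK LD1_c8 LD2_c28 LD3_c45))))))))))))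
theorem f213270 : Led Lsl_gt (LP (LK LD1_c2 LD2_c42 LD3_c24)) = (LP (LK LD1_c5 LD2_c32 LD3_c13)) :=
  Lre_g IH (LK LD1_c2 LD2_c42 LD3_c24) (LK LD1_c5 LD2_c32 LD3_c13) Lrfl Lrfl
theorem f257366 : Led Lsl_ct (LP (LK LD1_c2 LD2_c11 LD3_c59)) = (LP (LK LD1_c4 LD2_c29 LD3_c52)) :=
  Lre_c IH (LK LD1_c2 LD2_c11 LD3_c59) (LK LD1_c4 LD2_c29 LD3_c52) Lrfl Lrfl
theorem f264458 : Led Lsl_gt (LP (LK LD1_c2 LD2_c11 LD3_c59)) = (LP (LK LD1_c4 LD2_c29 LD3_c53)) :=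
  Lre_g IH (LK LD1_c2 LD2_c11 LD3_c59) (LK LD1_c4 LD2_c29 LD3_c53) Lrfl Lrfl
theorem f317919 : Led Lsl_df (LP (LK LD1_c2 LD2_c42 LD3_c24)) = (LP (LK LD1_c4 LD2_c29 LD3_c53)) :=
  Lgr Lrot153 (Lpr_gt (f213270 IH) (Lpr_dt (f258843 IH) (Lpe (K15.f231747 IH) (Lpe (f231750 IH) (Lpr_gf (f317913 IH) (Lpe (f271758 IH) (Lpe (f271754 IH) (Lpe (f257366 IH) (Lpr_gt (f264458 IH) (Lpn (LP (LK LD1_c4 LD2_c29 LD3_c53))))))))))))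
theorem f301541 : Led Lsl_et (LP (LK LD1_c4 LD2_c29 LD3_c53)) = (LP (LK LD1_c8 LD2_c57 LD3_c59)) :=
  Lre_e IH (LK LD1_c4 LD2_c29 LD3_c53) (LK LD1_c8 LD2_c57 LD3_c59) Lrfl Lrfl
theorem f323246 : Led Lsl_gt (LP (LK LD1_c8 LD2_c57 LD3_c59)) = (LP (LK LD1_c15 LD2_c56 LD3_c4)) :=
  Lgr Lrot137 (Lpe (f301541 IH) (Lpe (f317919 IH) (Lpe (f246295 IH) (Lpe (K15.f264632 IH) (Lpr_et (f237858 IH) (Lpe (K15.f190967 IH) (Lpr_ef (K18.f263244 IH) (Lpe (f250746 IH) (Lpe (f222039 IH) (Lpr_df (f323230 IH) (Lpn (LP (LK LD1_c15 LD2_c56 LD3_c4)))))))))))))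
theorem f301528 : Led Lsl_at (LP (LK LD1_c4 LD2_c29 LD3_c13)) = (LP (LK LD1_c4 LD2_c16 LD3_c10)) :=
  Lgr Lrot66 (Lpr_ff (K18.f301526 IH) (Lpe (K18.f301466 IH) (Lpr_ff (K16.f273433 IH) (Lpn (LP (LK LD1_c4 LD2_c16 LD3_c10))))))
theorem f282896 : Led Lsl_at (LP (LK LD1_c2 LD2_c40 LD3_c60)) = (LP (LK LD1_c1 LD2_c17 LD3_c20)) :=
  Lre_a IH (LK LD1_c2 LD2_c40 LD3_c60) (LK LD1_c1 LD2_c17 LD3_c20) Lrfl Lrfl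
theorem f273703 : Led Lsl_bt (LP (LK LD1_c1 LD2_c17 LD3_c20)) = (LP (LK LD1_c0 LD2_c35 LD3_c48)) :=
  Lre_b IH (LK LD1_c1 LD2_c17 LD3_c20) (LK LD1_c0 LD2_c35 LD3_c48) Lrfl Lrfl
theorem f245757 : Led Lsl_at (LP (LK LD1_c0 LD2_c35 LD3_c48)) = (LP (LK LD1_c1 LD2_c2 LD3_c53)) :=
  Lgr Lrot100 (Lpr_af (K13.f245754 IH) (Lpn (LP (LK LD1_c1 LD2_c2 LD3_c53))))
theorem f282897 : Led Lsl_af (LP (LK LD1_c4 LD2_c15 LD3_c58)) = (LP (LK LD1_c2 LD2_c11 LD3_c42)) :=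
  Lgr Lrot36 (Lpr_bt (K17.f282894 IH) (Lpr_at (f282896 IH) (Lpr_bt (f273703 IH) (Lpr_at (f245757 IH) (Lpr_bt (K17.f167705 IH) (Lpn (LP (LK LD1_c2 LD2_c11 LD3_c42))))))))
theorem f167758 : Led Lsl_ft (LP (LK LD1_c4 LD2_c29 LD3_c14)) = (LP (LK LD1_c2 LD2_c11 LD3_c42)) :=
  Lre_f IH (LK LD1_c4 LD2_c29 LD3_c14) (LK LD1_c2 LD2_c11 LD3_c42) Lrfl Lrfl
theorem f301464 : Led Lsl_gf (LP (LK LD1_c4 LD2_c16 LD3_c10)) = (LP (LK LD1_c4 LD2_c29 LD3_c14)) :=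
  Lgr Lrot47 (Lpr_gt (K18.f301434 IH) (Lpr_af (f282897 IH) (Lpe (f167758 IH) (Lpn (LP (LK LD1_c4 LD2_c29 LD3_c14))))))
theorem f301534 : Led Lsl_gf (LP (LK LD1_c4 LD2_c29 LD3_c14)) = (LP (LK LD1_c8 LD2_c30 LD3_c56)) :=
  Lgr Lrot47 (Lpe (f301464 IH) (Lpe (f301528 IH) (Lpr_ff (K18.f301526 IH) (Lpn (LP (LK LD1_c8 LD2_c30 LD3_c56))))))
theorem f167735 : Led Lsl_ft (LP (LK LD1_c2 LD2_c11 LD3_c42)) = (LP (LK LD1_c4 LD2_c29 LD3_c14)) :=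
  Lre_f IH (LK LD1_c2 LD2_c11 LD3_c42) (LK LD1_c4 LD2_c29 LD3_c14) Lrfl Lrfl
theorem f283138 : Led Lsl_df (LP (LK LD1_c8 LD2_c31 LD3_c7)) = (LP (LK LD1_c4 LD2_c29 LD3_c14)) :=
  Lgr Lrot78 (Lpr_ft (K17.f283132 IH) (Lpr_dt (K12.f167726 IH) (Lpr_ft (f167735 IH) (Lpn (LP (LK LD1_c4 LD2_c29 LD3_c14))))))
theorem f250931 : Led Lsl_gt (LP (LK LD1_c8 LD2_c17 LD3_c21)) = (LP (LK LD1_c4 LD2_c8 LD3_c39)) :=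
  Lre_g IH (LK LD1_c8 LD2_c17 LD3_c21) (LK LD1_c4 LD2_c8 LD3_c39) Lrfl Lrfl
theorem f283142 : Led Lsl_gt (LP (LK LD1_c8 LD2_c31 LD3_c7)) = (LP (LK LD1_c8 LD2_c17 LD3_c21)) :=
  Lgr Lrot5 (Lpr_ft (K17.f283132 IH) (Lpr_at (K17.f260680 IH) (Lpe (f250931 IH) (Lpn (LP (LK LD1_c8 LD2_c17 LD3_c21))))))
theorem f273421 : Led Lsl_dt (LP (LK LD1_c10 LD2_c25 LD3_c11)) = (LP (LK LD1_c5 LD2_c17 LD3_c47)) :=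
  Lre_d IH (LK LD1_c10 LD2_c25 LD3_c11) (LK LD1_c5 LD2_c17 LD3_c47) Lrfl Lrfl
theorem f273388 : Led Lsl_at (LP (LK LD1_c2 LD2_c35 LD3_c37)) = (LP (LK LD1_c5 LD2_c17 LD3_c3)) :=
  Lgr Lrot100 (Lpr_af (K16.f273384 IH) (Lpn (LP (LK LD1_c5 LD2_c17 LD3_c3))))
theorem f273500 : Led Lsl_ft (LP (LK LD1_c5 LD2_c17 LD3_c47)) = (LP (LK LD1_c2 LD2_c35 LD3_c37)) :=
  Lre_f IH (LK LD1_c5 LD2_c17 LD3_c47) (LK LD1_c2 LD2_c35 LD3_c37) Lrfl Lrfl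
theorem f273501 : Led Lsl_at (LP (LK LD1_c10 LD2_c17 LD3_c1)) = (LP (LK LD1_c5 LD2_c17 LD3_c47)) :=
  Lgr Lrot66 (Lpr_ff (K16.f273431 IH) (Lpe (f273388 IH) (Lpe (f273500 IH) (Lpn (LP (LK LD1_c5 LD2_c17 LD3_c47))))))
theorem f263435 : Led Lsl_gt (LP (LK LD1_c8 LD2_c15 LD3_c60)) = (LP (LK LD1_c4 LD2_c28 LD3_c46)) :=
  Lgr Lrot139 (Lpr_df (K17.f47777 IH) (Lpe (K17.f263427 IH) (Lpr_ef (K17.f263429 IH) (Lpr_dt (K17.f32217 IH) (Lpe (K17.f32209 IH) (Lpr_df (K1.f32182 IH) (Lpr_et (K10.f32202 IH) (Lpe (K14.f32107 IH) (Lpe (K14.f32218 IH) (Lpe (K14.f254487 IH) (Lpn (LP (LK LD1_c4 LD2_c28 LD3_c46)))))))))))))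
theorem f263439 : Led Lsl_gf (LP (LK LD1_c10 LD2_c17 LD3_c2)) = (LP (LK LD1_c5 LD2_c17 LD3_c3)) :=
  Lgr Lrot141 (Lpr_ef (K17.f263083 IH) (Lpe (K17.f47777 IH) (Lpr_gt (f263435 IH) (Lpr_df (K14.f254487 IH) (Lpr_et (K14.f32218 IH) (Lpr_gt (K14.f32107 IH) (Lpr_dt (K9.f32106 IH) (Lpr_gt (K10.f32109 IH) (Lpe (K15.f48720 IH) (Lpr_et (K16.f48721 IH) (Lpn (LP (LK LD1_c5 LD2_c17 LD3_c3)))))))))))))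
theorem f273507 : Led Lsl_gf (LP (LK LD1_c5 LD2_c17 LD3_c47)) = (LP (LK LD1_c10 LD2_c17 LD3_c2)) :=
  Lgr Lrot76 (Lpe (f273501 IH) (Lpr_ff (K16.f273431 IH) (Lpe (f263439 IH) (Lpn (LP (LK LD1_c10 LD2_c17 LD3_c2))))))
theorem f264436 : Led Lsl_at (LP (LK LD1_c8 LD2_c57 LD3_c47)) = (LP (LK LD1_c4 LD2_c29 LD3_c55)) :=
  Lre_a IH (LK LD1_c8 LD2_c57 LD3_c47) (LK LD1_c4 LD2_c29 LD3_c55) Lrfl Lrfl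
theorem f271774 : Led Lsl_ef (LP (LK LD1_c8 LD2_c57 LD3_c47)) = (LP (LK LD1_c5 LD2_c31 LD3_c3)) :=
  Lgr Lrot20 (Lpr_at (f264436 IH) (Lpr_et (K16.f271765 IH) (Lpr_at (K15.f261623 IH) (Lpn (LP (LK LD1_c5 LD2_c31 LD3_c3))))))
theorem f273511 : Led Lsl_gt (LP (LK LD1_c4 LD2_c29 LD3_c53)) = (LP (LK LD1_c8 LD2_c57 LD3_c47)) :=
  Lre_g IH (LK LD1_c4 LD2_c29 LD3_c53) (LK LD1_c8 LD2_c57 LD3_c47) Lrfl Lrfl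
theorem f273512 : Led Lsl_et (LP (LK LD1_c8 LD2_c57 LD3_c59)) = (LP (LK LD1_c4 LD2_c29 LD3_c53)) :=
  Lre_e IH (LK LD1_c8 LD2_c57 LD3_c59) (LK LD1_c4 LD2_c29 LD3_c53) Lrfl Lrfl
theorem f301536 : Led Lsl_df (LP (LK LD1_c8 LD2_c17 LD3_c21)) = (LP (LK LD1_c8 LD2_c57 LD3_c59)) :=
  Lgr Lrot132 (Lpe (f283142 IH) (Lpr_df (f283138 IH) (Lpr_gf (f301534 IH) (Lpe (K18.f301524 IH) (Lpr_dt (f273421 IH) (Lpr_gf (f273507 IH) (Lpr_df (K15.f261859 IH) (Lpe (f271774 IH) (Lpe (f273511 IH) (Lpe (f273512 IH) (Lpn (LP (LK LD1_c8 LD2_c57 LD3_c59)))))))))))))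
theorem f301539 : Led Lsl_dt (LP (LK LD1_c8 LD2_c17 LD3_c21)) = (LP (LK LD1_c8 LD2_c57 LD3_c59)) :=
  Lgr Lrot42 (Lpr_df (f301536 IH) (Lpn (LP (LK LD1_c8 LD2_c57 LD3_c59))))
theorem f323244 : Led Lsl_dt (LP (LK LD1_c8 LD2_c29 LD3_c51)) = (LP (LK LD1_c15 LD2_c56 LD3_c4)) :=
  Lgr Lrot42 (Lpr_df (f323230 IH) (Lpn (LP (LK LD1_c15 LD2_c56 LD3_c4))))
theorem f282491 : Led Lsl_gf (LP (LK LD1_c10 LD2_c3 LD3_c47)) = (LP (LK LD1_c5 LD2_c15 LD3_c3)) :=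
  Lgr Lrot76 (Lpe (K15.f261875 IH) (Lpr_ff (K17.f282485 IH) (Lpe (K15.f259202 IH) (Lpn (LP (LK LD1_c5 LD2_c15 LD3_c3))))))
theorem f261879 : Led Lsl_df (LP (LK LD1_c10 LD2_c3 LD3_c47)) = (LP (LK LD1_c8 LD2_c6 LD3_c13)) :=
  Lgr Lrot38 (Lpr_dt (K15.f261865 IH) (Lpn (LP (LK LD1_c8 LD2_c6 LD3_c13))))
theorem f213239 : Led Lsl_ft (LP (LK LD1_c8 LD2_c6 LD3_c10)) = (LP (LK LD1_c15 LD2_c15 LD3_c20)) :=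
  Lre_f IH (LK LD1_c8 LD2_c6 LD3_c10) (LK LD1_c15 LD2_c15 LD3_c20) Lrfl Lrfl
theorem f213240 : Led Lsl_et (LP (LK LD1_c5 LD2_c32 LD3_c10)) = (LP (LK LD1_c2 LD2_c42 LD3_c17)) :=
  Lre_e IH (LK LD1_c5 LD2_c32 LD3_c10) (LK LD1_c2 LD2_c42 LD3_c17) Lrfl Lrfl
theorem f213241 : Led Lsl_ft (LP (LK LD1_c10 LD2_c56 LD3_c2)) = (LP (LK LD1_c5 LD2_c32 LD3_c10)) :=
  Lre_f IH (LK LD1_c10 LD2_c56 LD3_c2) (LK LD1_c5 LD2_c32 LD3_c10) Lrfl Lrfl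
theorem f213242 : Led Lsl_et (LP (LK LD1_c15 LD2_c15 LD3_c20)) = (LP (LK LD1_c10 LD2_c56 LD3_c2)) :=
  Lgr Lrot69 (Lpe (f213239 IH) (Lpe (K15.f213238 IH) (Lpr_ff (K12.f213169 IH) (Lpe (f213240 IH) (Lpe (f213241 IH) (Lpn (LP (LK LD1_c10 LD2_c56 LD3_c2))))))))
theorem f213246 : Led Lsl_ct (LP (LK LD1_c8 LD2_c6 LD3_c13)) = (LP (LK LD1_c15 LD2_c15 LD3_c20)) :=
  Lre_c IH (LK LD1_c8 LD2_c6 LD3_c13) (LK LD1_c15 LD2_c15 LD3_c20) Lrfl Lrfl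
theorem f213248 : Led Lsl_ef (LP (LK LD1_c8 LD2_c6 LD3_c13)) = (LP (LK LD1_c5 LD2_c32 LD3_c13)) :=
  Lgr Lrot28 (Lpr_ct (f213246 IH) (Lpr_et (f213242 IH) (Lpr_ct (f213247 IH) (Lpn (LP (LK LD1_c5 LD2_c32 LD3_c13))))))
theorem f213258 : Led Lsl_et (LP (LK LD1_c8 LD2_c6 LD3_c13)) = (LP (LK LD1_c5 LD2_c32 LD3_c13)) :=
  Lgr Lrot87 (Lpr_ef (f213248 IH) (Lpn (LP (LK LD1_c5 LD2_c32 LD3_c13))))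
theorem f213272 : Led Lsl_gt (LP (LK LD1_c5 LD2_c32 LD3_c13)) = (LP (LK LD1_c2 LD2_c42 LD3_c25)) :=
  Lre_g IH (LK LD1_c5 LD2_c32 LD3_c13) (LK LD1_c2 LD2_c42 LD3_c25) Lrfl Lrfl
theorem f252591 : Led Lsl_et (LP (LK LD1_c2 LD2_c58 LD3_c52)) = (LP (LK LD1_c1 LD2_c25 LD3_c8)) :=
  Lre_e IH (LK LD1_c2 LD2_c58 LD3_c52) (LK LD1_c1 LD2_c25 LD3_c8) Lrfl Lrfl
theorem f264465 : Led Lsl_gt (LP (LK LD1_c4 LD2_c29 LD3_c54)) = (LP (LK LD1_c2 LD2_c11 LD3_c59)) :=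
  Lre_g IH (LK LD1_c4 LD2_c29 LD3_c54) (LK LD1_c2 LD2_c11 LD3_c59) Lrfl Lrfl
theorem f282495 : Led Lsl_dt (LP (LK LD1_c2 LD2_c42 LD3_c25)) = (LP (LK LD1_c4 LD2_c29 LD3_c54)) :=
  Lgr Lrot171 (Lpe (f213272 IH) (Lpe (f213258 IH) (Lpe (f261879 IH) (Lpr_gf (f282491 IH) (Lpe (K15.f252568 IH) (Lpr_et (K14.f252577 IH) (Lpr_gf (K14.f252580 IH) (Lpe (f252591 IH) (Lpe (K15.f264443 IH) (Lpe (f264465 IH) (Lpn (LP (LK LD1_c4 LD2_c29 LD3_c54)))))))))))))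
theorem f282502 : Led Lsl_df (LP (LK LD1_c2 LD2_c42 LD3_c25)) = (LP (LK LD1_c4 LD2_c29 LD3_c54)) :=
  Lgr Lrot38 (Lpr_dt (f282495 IH) (Lpn (LP (LK LD1_c4 LD2_c29 LD3_c54))))
theorem f264715 : Led Lsl_gt (LP (LK LD1_c2 LD2_c42 LD3_c25)) = (LP (LK LD1_c1 LD2_c17 LD3_c47)) :=
  Lre_g IH (LK LD1_c2 LD2_c42 LD3_c25) (LK LD1_c1 LD2_c17 LD3_c47) Lrfl Lrfl
theorem f231677 : Led Lsl_gt (LP (LK LD1_c4 LD2_c14 LD3_c58)) = (LP (LK LD1_c8 LD2_c28 LD3_c49)) :=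
  Lre_g IH (LK LD1_c4 LD2_c14 LD3_c58) (LK LD1_c8 LD2_c28 LD3_c49) Lrfl Lrfl
theorem f282552 : Led Lsl_ef (LP (LK LD1_c8 LD2_c28 LD3_c49)) = (LP (LK LD1_c4 LD2_c29 LD3_c54)) :=
  Lgr Lrot17 (Lpe (f231677 IH) (Lpe (K18.f231597 IH) (Lpr_dt (K17.f266305 IH) (Lpe (K15.f266291 IH) (Lpr_df (K18.f263180 IH) (Lpe (K15.f183027 IH) (Lpe (f237858 IH) (Lpr_dt (K15.f264632 IH) (Lpe (f264715 IH) (Lpr_df (f282502 IH) (Lpn (LP (LK LD1_c4 LD2_c29 LD3_c54)))))))))))))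
theorem f282558 : Led Lsl_et (LP (LK LD1_c8 LD2_c28 LD3_c49)) = (LP (LK LD1_c4 LD2_c29 LD3_c54)) :=
  Lgr Lrot87 (Lpr_ef (f282552 IH) (Lpn (LP (LK LD1_c4 LD2_c29 LD3_c54))))
theorem f213273 : Led Lsl_et (LP (LK LD1_c5 LD2_c32 LD3_c33)) = (LP (LK LD1_c2 LD2_c42 LD3_c25)) :=
  Lre_e IH (LK LD1_c5 LD2_c32 LD3_c33) (LK LD1_c2 LD2_c42 LD3_c25) Lrfl Lrfl
theorem f282504 : Led Lsl_dt (LP (LK LD1_c10 LD2_c56 LD3_c52)) = (LP (LK LD1_c5 LD2_c32 LD3_c33)) :=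
  Lre_d IH (LK LD1_c10 LD2_c56 LD3_c52) (LK LD1_c5 LD2_c32 LD3_c33) Lrfl Lrfl
theorem f282508 : Led Lsl_et (LP (LK LD1_c2 LD2_c42 LD3_c25)) = (LP (LK LD1_c5 LD2_c32 LD3_c33)) :=
  Lre_e IH (LK LD1_c2 LD2_c42 LD3_c25) (LK LD1_c5 LD2_c32 LD3_c33) Lrfl Lrfl

end

end K20

end

end Cfsg.Agent.Helper28.S1692
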