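import Cfsg.Agent.Lib.Helper28.S1692.Seeds20

set_option autoImplicit false
set_option maxRecDepth 100000
set_option linter.all false

namespace Cfsg.Agent.Helper28.S1692

open Cfsg.Agent.Helper28
open Cfsg.Spor.ON (Gen)

noncomputable section

namespace K21
abbrev LD1_c0 := D1.c0
abbrev LD1_c1 := D1.c1
abbrev LD1_c2 := D1.c2
abbrev LD1_c3 := D1.c3
abbrev LD1_c4 := D1.c4
abbrev LD1_c5 := D1.c5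
abbrev LD1_c6 := D1.c6
abbrev LD1_c7 := D1.c7
abbrev LD1_c8 := D1.c8
abbrev LD1_c9 := D1.c9
abbrev LD1_c10 := D1.c10
abbrev LD1_c11 := D1.c11
abbrev LD1_c12 := D1.c12
abbrev LD1_c13 := D1.c13
abbrev LD1_c14 := D1.c14
abbrev LD1_c15 := D1.c15
abbrev LD1_c16 := D1.c16
abbrev LD1_c17 := D1.c17
abbrev LD1_c18 := D1.c18
abbrev LD1_c19 := D1.c19
abbrev LD1_c20 := D1.c20
abbrev LD1_c21 := D1.c21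
abbrev LD1_c22 := D1.c22
abbrev LD1_c23 := D1.c23
abbrev LD1_c24 := D1.c24
abbrev LD1_c25 := D1.c25
abbrev LD1_c26 := D1.c26
abbrev LD1_c27 := D1.c27
abbrev LD1_c28 := D1.c28
abbrev LD1_c29 := D1.c29
abbrev LD1_c30 := D1.c30
abbrev LD1_c31 := D1.c31
abbrev LD1_c32 := D1.c32
abbrev LD2_c0 := D2.c0
abbrev LD2_c1 := D2.c1
abbrev LD2_c2 := D2.c2
abbrev LD2_c3 := D2.c3
abbrev LD2_c4 := D2.c4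
abbrev LD2_c5 := D2.c5
abbrev LD2_c6 := D2.c6
abbrev LD2_c7 := D2.c7
abbrev LD2_c8 := D2.c8
abbrev LD2_c9 := D2.c9
abbrev LD2_c10 := D2.c10
abbrev LD2_c11 := D2.c11
abbrev LD2_c12 := D2.c12
abbrev LD2_c13 := D2.c13
abbrev LD2_c14 := D2.c14
abbrev LD2_c15 := D2.c15
abbrev LD2_c16 := D2.c16
abbrev LD2_c17 := D2.c17
abbrev LD2_c18 := D2.c18
abbrev LD2_c19 := D2.c19
abbrev LD2_c20 := D2.c20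
abbrev LD2_c21 := D2.c21
abbrev LD2_c22 := D2.c22
abbrev LD2_c23 := D2.c23
abbrev LD2_c24 := D2.c24
abbrev LD2_c25 := D2.c25
abbrev LD2_c26 := D2.c26
abbrev LD2_c27 := D2.c27
abbrev LD2_c28 := D2.c28
abbrev LD2_c29 := D2.c29
abbrev LD2_c30 := D2.c30
abbrev LD2_c31 := D2.c31
abbrev LD2_c32 := D2.c32
abbrev LD2_c33 := D2.c33
abbrev LD2_c34 := D2.c34
abbrev LD2_c35 := D2.c35
abbrev LD2_c36 := D2.c36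
abbrev LD2_c37 := D2.c37
abbrev LD2_c38 := D2.c38
abbrev LD2_c39 := D2.c39
abbrev LD2_c40 := D2.c40
abbrev LD2_c41 := D2.c41
abbrev LD2_c42 := D2.c42
abbrev LD2_c43 := D2.c43
abbrev LD2_c44 := D2.c44
abbrev LD2_c45 := D2.c45
abbrev LD2_c46 := D2.c46
abbrev LD2_c47 := D2.c47
abbrev LD2_c48 := D2.c48
abbrev LD2_c49 := D2.c49
abbrev LD2_c50 := D2.c50
abbrev LD2_c51 := D2.c51
abbrev LD2_c52 := D2.c52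
abbrev LD2_c53 := D2.c53
abbrev LD2_c54 := D2.c54
abbrev LD2_c55 := D2.c55
abbrev LD2_c56 := D2.c56
abbrev LD2_c57 := D2.c57
abbrev LD2_c58 := D2.c58
abbrev LD2_c59 := D2.c59
abbrev LD3_c0 := D3.c0
abbrev LD3_c1 := D3.c1
abbrev LD3_c2 := D3.c2
abbrev LD3_c3 := D3.c3
abbrev LD3_c4 := D3.c4
abbrev LD3_c5 := D3.c5
abbrev LD3_c6 := D3.c6
abbrev LD3_c7 := D3.c7
abbrev LD3_c8 := D3.c8
abbrev LD3_c9 := D3.c9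
abbrev LD3_c10 := D3.c10
abbrev LD3_c11 := D3.c11
abbrev LD3_c12 := D3.c12
abbrev LD3_c13 := D3.c13
abbrev LD3_c14 := D3.c14
abbrev LD3_c15 := D3.c15
abbrev LD3_c16 := D3.c16
abbrev LD3_c17 := D3.c17
abbrev LD3_c18 := D3.c18
abbrev LD3_c19 := D3.c19
abbrev LD3_c20 := D3.c20
abbrev LD3_c21 := D3.c21
abbrev LD3_c22 := D3.c22
abbrev LD3_c23 := D3.c23
abbrev LD3_c24 := D3.c24
abbrev LD3_c25 := D3.c25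
abbrev LD3_c26 := D3.c26
abbrev LD3_c27 := D3.c27
abbrev LD3_c28 := D3.c28
abbrev LD3_c29 := D3.c29
abbrev LD3_c30 := D3.c30
abbrev LD3_c31 := D3.c31
abbrev LD3_c32 := D3.c32
abbrev LD3_c33 := D3.c33
abbrev LD3_c34 := D3.c34
abbrev LD3_c35 := D3.c35
abbrev LD3_c36 := D3.c36
abbrev LD3_c37 := D3.c37
abbrev LD3_c38 := D3.c38
abbrev LD3_c39 := D3.c39
abbrev LD3_c40 := D3.c40
abbrev LD3_c41 := D3.c41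
abbrev LD3_c42 := D3.c42
abbrev LD3_c43 := D3.c43
abbrev LD3_c44 := D3.c44
abbrev LD3_c45 := D3.c45
abbrev LD3_c46 := D3.c46
abbrev LD3_c47 := D3.c47
abbrev LD3_c48 := D3.c48
abbrev LD3_c49 := D3.c49
abbrev LD3_c50 := D3.c50
abbrev LD3_c51 := D3.c51
abbrev LD3_c52 := D3.c52
abbrev LD3_c53 := D3.c53
abbrev LD3_c54 := D3.c54
abbrev LD3_c55 := D3.c55
abbrev LD3_c56 := D3.c56
abbrev LD3_c57 := D3.c57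
abbrev LD3_c58 := D3.c58
abbrev LD3_c59 := D3.c59
abbrev LD3_c60 := D3.c60
abbrev LD3_c61 := D3.c61
abbrev LG_g := Gen.g
abbrev Lsl_gt : Gen × Bool := sl_gt
alias Lfl_gt := fl_gt
alias Lpr_gt := pr_gt
abbrev Lsl_gf : Gen × Bool := sl_gf
alias Lfl_gf := fl_gf
alias Lpr_gf := pr_gf
alias Lre_g := re_g
alias Leoe_g := eoe_g
abbrev LG_a := Gen.a
abbrev Lsl_at : Gen × Bool := sl_at
alias Lfl_at := fl_at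
alias Lpr_at := pr_at
abbrev Lsl_af : Gen × Bool := sl_af
alias Lfl_af := fl_af
alias Lpr_af := pr_af
alias Lre_a := re_a
alias Leoe_a := eoe_a
abbrev LG_b := Gen.b
abbrev Lsl_bt : Gen × Bool := sl_bt
alias Lfl_bt := fl_bt
alias Lpr_bt := pr_bt
abbrev Lsl_bf : Gen × Bool := sl_bf
alias Lfl_bf := fl_bf
alias Lpr_bf := pr_bf
alias Lre_b := re_b
alias Leoe_b := eoe_b
abbrev LG_c := Gen.c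
abbrev Lsl_ct : Gen × Bool := sl_ct
alias Lfl_ct := fl_ct
alias Lpr_ct := pr_ct
abbrev Lsl_cf : Gen × Bool := sl_cf
alias Lfl_cf := fl_cf
alias Lpr_cf := pr_cf
alias Lre_c := re_c
alias Leoe_c := eoe_c
abbrev LG_d := Gen.d
abbrev Lsl_dt : Gen × Bool := sl_dt
alias Lfl_dt := fl_dt
alias Lpr_dt := pr_dt
abbrev Lsl_df : Gen × Bool := sl_df
alias Lfl_df := fl_df
alias Lpr_df := pr_df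
alias Lre_d := re_d
alias Leoe_d := eoe_d
abbrev LG_e := Gen.e
abbrev Lsl_et : Gen × Bool := sl_et
alias Lfl_et := fl_et
alias Lpr_et := pr_et
abbrev Lsl_ef : Gen × Bool := sl_ef
alias Lfl_ef := fl_ef
alias Lpr_ef := pr_ef
alias Lre_e := re_e
alias Leoe_e := eoe_e
abbrev LG_f := Gen.f
abbrev Lsl_ft : Gen × Bool := sl_ft
alias Lfl_ft := fl_ft
alias Lpr_ft := pr_ft
abbrev Lsl_ff : Gen × Bool := sl_ff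
alias Lfl_ff := fl_ff
alias Lpr_ff := pr_ff
alias Lre_f := re_f
alias Leoe_f := eoe_f
abbrev LK := Pt.mk
abbrev LQ : Type := Qt rels S
abbrev LP (p : Pt) : LQ := P p
abbrev Led (l : Gen × Bool) (c : LQ) : LQ := ed l c
abbrev LEOK (x : Gen) (p : Pt) : Prop := EntryOK rels S fwd inv o plet idx x p
alias Lpe := pe
alias Lpn := pn
alias Lgr := gr
alias Lpq := pq
alias Lpqs := pqs
alias Llr := lr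
alias Leop := eop
alias Lefun := efun
alias Lecon := econ
theorem Lrfl {α : Sort _} {a : α} : a = a := rfl
alias Lrot0 := rot0
alias Lrot1 := rot1
alias Lrot2 := rot2
alias Lrot3 := rot3
alias Lrot4 := rot4
alias Lrot5 := rot5
alias Lrot6 := rot6
alias Lrot7 := rot7
alias Lrot8 := rot8
alias Lrot9 := rot9
alias Lrot10 := rot10
alias Lrot11 := rot11
alias Lrot12 := rot12
alias Lrot13 := rot13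
alias Lrot14 := rot14
alias Lrot15 := rot15
alias Lrot17 := rot17
alias Lrot18 := rot18
alias Lrot19 := rot19
alias Lrot20 := rot20
alias Lrot21 := rot21
alias Lrot22 := rot22
alias Lrot23 := rot23
alias Lrot24 := rot24
alias Lrot25 := rot25
alias Lrot26 := rot26
alias Lrot27 := rot27
alias Lrot28 := rot28
alias Lrot29 := rot29
alias Lrot30 := rot30
alias Lrot31 := rot31
alias Lrot32 := rot32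
alias Lrot33 := rot33
alias Lrot34 := rot34
alias Lrot35 := rot35
alias Lrot36 := rot36
alias Lrot37 := rot37
alias Lrot38 := rot38
alias Lrot39 := rot39
alias Lrot40 := rot40
alias Lrot41 := rot41
alias Lrot42 := rot42
alias Lrot43 := rot43
alias Lrot44 := rot44
alias Lrot45 := rot45
alias Lrot46 := rot46
alias Lrot47 := rot47
alias Lrot48 := rot48
alias Lrot49 := rot49
alias Lrot50 := rot50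
alias Lrot51 := rot51
alias Lrot52 := rot52
alias Lrot54 := rot54
alias Lrot55 := rot55
alias Lrot56 := rot56
alias Lrot57 := rot57
alias Lrot58 := rot58
alias Lrot59 := rot59
alias Lrot60 := rot60
alias Lrot61 := rot61
alias Lrot62 := rot62
alias Lrot63 := rot63
alias Lrot64 := rot64
alias Lrot65 := rot65
alias Lrot66 := rot66
alias Lrot67 := rot67
alias Lrot68 := rot68
alias Lrot69 := rot69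
alias Lrot70 := rot70
alias Lrot71 := rot71
alias Lrot72 := rot72
alias Lrot73 := rot73
alias Lrot74 := rot74
alias Lrot75 := rot75
alias Lrot76 := rot76
alias Lrot77 := rot77
alias Lrot78 := rot78
alias Lrot79 := rot79
alias Lrot80 := rot80
alias Lrot81 := rot81
alias Lrot82 := rot82
alias Lrot83 := rot83
alias Lrot84 := rot84
alias Lrot86 := rot86
alias Lrot87 := rot87
alias Lrot88 := rot88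
alias Lrot90 := rot90
alias Lrot91 := rot91
alias Lrot92 := rot92
alias Lrot93 := rot93
alias Lrot94 := rot94
alias Lrot95 := rot95
alias Lrot96 := rot96
alias Lrot97 := rot97
alias Lrot98 := rot98
alias Lrot99 := rot99
alias Lrot100 := rot100
alias Lrot101 := rot101
alias Lrot102 := rot102
alias Lrot104 := rot104
alias Lrot105 := rot105
alias Lrot106 := rot106
alias Lrot107 := rot107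
alias Lrot108 := rot108
alias Lrot109 := rot109
alias Lrot110 := rot110
alias Lrot111 := rot111
alias Lrot112 := rot112
alias Lrot113 := rot113
alias Lrot114 := rot114
alias Lrot117 := rot117
alias Lrot119 := rot119
alias Lrot120 := rot120
alias Lrot121 := rot121
alias Lrot122 := rot122
alias Lrot123 := rot123
alias Lrot124 := rot124
alias Lrot125 := rot125
alias Lrot126 := rot126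
alias Lrot127 := rot127
alias Lrot128 := rot128
alias Lrot129 := rot129
alias Lrot130 := rot130
alias Lrot131 := rot131
alias Lrot132 := rot132
alias Lrot134 := rot134
alias Lrot135 := rot135
alias Lrot136 := rot136
alias Lrot137 := rot137
alias Lrot138 := rot138
alias Lrot139 := rot139
alias Lrot140 := rot140
alias Lrot141 := rot141
alias Lrot142 := rot142
alias Lrot143 := rot143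
alias Lrot144 := rot144
alias Lrot145 := rot145
alias Lrot146 := rot146
alias Lrot147 := rot147
alias Lrot148 := rot148
alias Lrot149 := rot149
alias Lrot150 := rot150
alias Lrot152 := rot152
alias Lrot153 := rot153
alias Lrot154 := rot154
alias Lrot155 := rot155
alias Lrot156 := rot156
alias Lrot158 := rot158
alias Lrot159 := rot159
alias Lrot160 := rot160
alias Lrot162 := rot162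
alias Lrot163 := rot163
alias Lrot164 := rot164
alias Lrot165 := rot165
alias Lrot166 := rot166
alias Lrot167 := rot167
alias Lrot168 := rot168
alias Lrot169 := rot169
alias Lrot170 := rot170
alias Lrot171 := rot171
alias Lrot173 := rot173
alias Lrot179 := rot179
alias Lrot180 := rot180
alias Lrot181 := rot181
alias Lrot185 := rot185
alias Lrot187 := rot187

section
variable (IH : IHT)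
include IH

theorem f282509 : Led Lsl_gf (LP (LK LD1_c5 LD2_c32 LD3_c33)) = (LP (LK LD1_c4 LD2_c7 LD3_c40)) :=
  Lgr Lrot141 (Lpe (K20.f282508 IH) (Lpr_dt (K20.f282495 IH) (Lpr_gt (K20.f264465 IH) (Lpr_df (K15.f264443 IH) (Lpr_et (K20.f252591 IH) (Lpe (K14.f252580 IH) (Lpr_dt (K14.f191318 IH) (Lpr_gt (K14.f236157 IH) (Lpr_df (K13.f236132 IH) (Lpr_et (K14.f231676 IH) (Lpn (LP (LK LD1_c4 LD2_c7 LD3_c40)))))))))))))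
theorem f235809 : Led Lsl_gt (LP (LK LD1_c5 LD2_c27 LD3_c41)) = (LP (LK LD1_c2 LD2_c40 LD3_c12)) :=
  Lre_g IH (LK LD1_c5 LD2_c27 LD3_c41) (LK LD1_c2 LD2_c40 LD3_c12) Lrfl Lrfl
theorem f688 : Led Lsl_gt (LP (LK LD1_c2 LD2_c2 LD3_c5)) = (LP (LK LD1_c4 LD2_c9 LD3_c36)) :=
  Lre_g IH (LK LD1_c2 LD2_c2 LD3_c5) (LK LD1_c4 LD2_c9 LD3_c36) Lrfl Lrfl
theorem f246289 : Led Lsl_et (LP (LK LD1_c8 LD2_c19 LD3_c15)) = (LP (LK LD1_c4 LD2_c9 LD3_c36)) :=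
  Lre_e IH (LK LD1_c8 LD2_c19 LD3_c15) (LK LD1_c4 LD2_c9 LD3_c36) Lrfl Lrfl
theorem f250691 : Led Lsl_dt (LP (LK LD1_c8 LD2_c19 LD3_c15)) = (LP (LK LD1_c5 LD2_c27 LD3_c41)) :=
  Lgr Lrot136 (Lpr_et (f246289 IH) (Lpe (f688 IH) (Lpe (K14.f232026 IH) (Lpr_dt (K13.f51464 IH) (Lpr_gf (K13.f246281 IH) (Lpe (K14.f250661 IH) (Lpr_gf (K14.f250685 IH) (Lpe (K20.f236021 IH) (Lpe (K19.f235999 IH) (Lpe (f235809 IH) (Lpn (LP (LK LD1_c5 LD2_c27 LD3_c41)))))))))))))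
theorem f250693 : Led Lsl_gt (LP (LK LD1_c15 LD2_c39 LD3_c5)) = (LP (LK LD1_c8 LD2_c19 LD3_c15)) :=
  Lre_g IH (LK LD1_c15 LD2_c39 LD3_c5) (LK LD1_c8 LD2_c19 LD3_c15) Lrfl Lrfl
theorem f282516 : Led Lsl_et (LP (LK LD1_c10 LD2_c56 LD3_c52)) = (LP (LK LD1_c15 LD2_c39 LD3_c5)) :=
  Lgr Lrot121 (Lpr_dt (K20.f282504 IH) (Lpr_gf (f282509 IH) (Lpe (K14.f236168 IH) (Lpe (K14.f250656 IH) (Lpr_gf (K14.f250685 IH) (Lpe (K20.f236021 IH) (Lpe (K19.f235999 IH) (Lpe (f235809 IH) (Lpe (f250691 IH) (Lpe (f250693 IH) (Lpn (LP (LK LD1_c15 LD2_c39 LD3_c5)))))))))))))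
theorem f282520 : Led Lsl_ef (LP (LK LD1_c10 LD2_c56 LD3_c52)) = (LP (LK LD1_c15 LD2_c39 LD3_c5)) :=
  Lgr Lrot88 (Lpr_et (f282516 IH) (Lpn (LP (LK LD1_c15 LD2_c39 LD3_c5))))
theorem f282556 : Led Lsl_dt (LP (LK LD1_c8 LD2_c28 LD3_c49)) = (LP (LK LD1_c15 LD2_c39 LD3_c5)) :=
  Lgr Lrot77 (Lpr_ef (K20.f282552 IH) (Lpe (K20.f282495 IH) (Lpe (K20.f213273 IH) (Lpe (K20.f282504 IH) (Lpr_ef (f282520 IH) (Lpn (LP (LK LD1_c15 LD2_c39 LD3_c5))))))))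
theorem f264511 : Led Lsl_et (LP (LK LD1_c1 LD2_c2 LD3_c57)) = (LP (LK LD1_c2 LD2_c11 LD3_c59)) :=
  Lre_e IH (LK LD1_c1 LD2_c2 LD3_c57) (LK LD1_c2 LD2_c11 LD3_c59) Lrfl Lrfl
theorem f235812 : Led Lsl_et (LP (LK LD1_c1 LD2_c16 LD3_c51)) = (LP (LK LD1_c2 LD2_c40 LD3_c12)) :=
  Lre_e IH (LK LD1_c1 LD2_c16 LD3_c51) (LK LD1_c2 LD2_c40 LD3_c12) Lrfl Lrfl
theorem f235805 : Led Lsl_dt (LP (LK LD1_c5 LD2_c27 LD3_c40)) = (LP (LK LD1_c10 LD2_c46 LD3_c28)) :=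
  Lre_d IH (LK LD1_c5 LD2_c27 LD3_c40) (LK LD1_c10 LD2_c46 LD3_c28) Lrfl Lrfl
theorem f282565 : Led Lsl_gf (LP (LK LD1_c15 LD2_c39 LD3_c5)) = (LP (LK LD1_c10 LD2_c46 LD3_c28)) :=
  Lgr Lrot134 (Lpe (f282556 IH) (Lpr_et (K20.f282558 IH) (Lpr_gt (K20.f264465 IH) (Lpe (f264511 IH) (Lpe (K15.f262811 IH) (Lpr_gt (K15.f261395 IH) (Lpe (K13.f235995 IH) (Lpr_et (f235812 IH) (Lpr_gt (K20.f235804 IH) (Lpr_dt (f235805 IH) (Lpn (LP (LK LD1_c10 LD2_c46 LD3_c28)))))))))))))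
theorem f323248 : Led Lsl_gf (LP (LK LD1_c6 LD2_c6 LD3_c3)) = (LP (LK LD1_c5 LD2_c32 LD3_c33)) :=
  Lgr Lrot145 (Lpe (K17.f283108 IH) (Lpr_et (K17.f283110 IH) (Lpr_gt (K20.f283142 IH) (Lpr_dt (K20.f301539 IH) (Lpr_gt (K20.f323246 IH) (Lpe (K20.f323244 IH) (Lpe (K20.f250738 IH) (Lpe (f282565 IH) (Lpe (f282516 IH) (Lpr_dt (K20.f282504 IH) (Lpn (LP (LK LD1_c5 LD2_c32 LD3_c33)))))))))))))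
theorem f271759 : Led Lsl_gt (LP (LK LD1_c8 LD2_c57 LD3_c47)) = (LP (LK LD1_c4 LD2_c29 LD3_c54)) :=
  Lre_g IH (LK LD1_c8 LD2_c57 LD3_c47) (LK LD1_c4 LD2_c29 LD3_c54) Lrfl Lrfl
theorem f317926 : Led Lsl_dt (LP (LK LD1_c2 LD2_c42 LD3_c24)) = (LP (LK LD1_c4 LD2_c29 LD3_c53)) :=
  Lgr Lrot42 (Lpr_df (K20.f317919 IH) (Lpn (LP (LK LD1_c4 LD2_c29 LD3_c53))))
theorem f246294 : Led Lsl_et (LP (LK LD1_c0 LD2_c35 LD3_c55)) = (LP (LK LD1_c1 LD2_c17 LD3_c47)) :=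
  Lre_e IH (LK LD1_c0 LD2_c35 LD3_c55) (LK LD1_c1 LD2_c17 LD3_c47) Lrfl Lrfl
theorem f317864 : Led Lsl_bf (LP (LK LD1_c5 LD2_c27 LD3_c48)) = (LP (LK LD1_c8 LD2_c15 LD3_c60)) :=
  Lgr Lrot61 (Lpr_ft (K20.f317771 IH) (Lpr_bt (K10.f189801 IH) (Lpr_ft (K17.f47766 IH) (Lpn (LP (LK LD1_c8 LD2_c15 LD3_c60))))))
theorem f231735 : Led Lsl_bf (LP (LK LD1_c8 LD2_c28 LD3_c45)) = (LP (LK LD1_c8 LD2_c15 LD3_c16)) :=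
  Lgr Lrot61 (Lpr_ft (K20.f231733 IH) (Lpr_bt (K17.f231723 IH) (Lpr_ft (K17.f231734 IH) (Lpn (LP (LK LD1_c8 LD2_c15 LD3_c16))))))
theorem f231742 : Led Lsl_bt (LP (LK LD1_c8 LD2_c28 LD3_c45)) = (LP (LK LD1_c8 LD2_c15 LD3_c16)) :=
  Lgr Lrot127 (Lpr_bf (f231735 IH) (Lpn (LP (LK LD1_c8 LD2_c15 LD3_c16))))
theorem f317884 : Led Lsl_ef (LP (LK LD1_c8 LD2_c15 LD3_c60)) = (LP (LK LD1_c8 LD2_c15 LD3_c16)) :=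
  Lgr Lrot29 (Lpe (f317864 IH) (Lpr_et (K20.f317882 IH) (Lpr_bt (f231742 IH) (Lpn (LP (LK LD1_c8 LD2_c15 LD3_c16))))))
theorem f317937 : Led Lsl_dt (LP (LK LD1_c8 LD2_c15 LD3_c16)) = (LP (LK LD1_c8 LD2_c57 LD3_c47)) :=
  Lgr Lrot56 (Lpe (f317884 IH) (Lpr_gt (K20.f263435 IH) (Lpe (K14.f228746 IH) (Lpr_dt (K14.f246307 IH) (Lpe (K13.f246285 IH) (Lpr_df (K15.f220603 IH) (Lpr_et (f246294 IH) (Lpr_gt (K20.f246295 IH) (Lpr_dt (f317926 IH) (Lpr_gt (K20.f273511 IH) (Lpn (LP (LK LD1_c8 LD2_c57 LD3_c47)))))))))))))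
theorem f263437 : Led Lsl_gf (LP (LK LD1_c8 LD2_c15 LD3_c60)) = (LP (LK LD1_c5 LD2_c26 LD3_c12)) :=
  Lgr Lrot47 (Lpr_gt (K20.f263435 IH) (Lpr_af (K15.f254632 IH) (Lpr_ff (K15.f262107 IH) (Lpn (LP (LK LD1_c5 LD2_c26 LD3_c12))))))
theorem f254683 : Led Lsl_ff (LP (LK LD1_c2 LD2_c11 LD3_c24)) = (LP (LK LD1_c1 LD2_c17 LD3_c17)) :=
  Lgr Lrot23 (Lpr_ct (K12.f178103 IH) (Lpr_ft (K14.f254679 IH) (Lpr_ct (K13.f220215 IH) (Lpn (LP (LK LD1_c1 LD2_c17 LD3_c17))))))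
theorem f262113 : Led Lsl_et (LP (LK LD1_c8 LD2_c55 LD3_c46)) = (LP (LK LD1_c5 LD2_c26 LD3_c12)) :=
  Lgr Lrot69 (Lpe (K12.f197605 IH) (Lpe (K13.f197593 IH) (Lpr_ff (f254683 IH) (Lpe (K14.f220313 IH) (Lpr_ff (K15.f262107 IH) (Lpn (LP (LK LD1_c5 LD2_c26 LD3_c12))))))))
theorem f323250 : Led Lsl_gt (LP (LK LD1_c4 LD2_c16 LD3_c0)) = (LP (LK LD1_c8 LD2_c29 LD3_c45)) :=
  Lgr Lrot139 (Lpr_df (K18.f283113 IH) (Lpr_gf (f323248 IH) (Lpe (K20.f282508 IH) (Lpr_dt (K20.f282495 IH) (Lpe (f271759 IH) (Lpe (f317937 IH) (Lpe (f317884 IH) (Lpr_gf (f263437 IH) (Lpe (f262113 IH) (Lpe (K15.f197615 IH) (Lpn (LP (LK LD1_c8 LD2_c29 LD3_c45)))))))))))))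
theorem f246007 : Led Lsl_bt (LP (LK LD1_c6 LD2_c6 LD3_c3)) = (LP (LK LD1_c2 LD2_c59 LD3_c14)) :=
  Lre_b IH (LK LD1_c6 LD2_c6 LD3_c3) (LK LD1_c2 LD2_c59 LD3_c14) Lrfl Lrfl
theorem f283111 : Led Lsl_bf (LP (LK LD1_c4 LD2_c16 LD3_c0)) = (LP (LK LD1_c2 LD2_c6 LD3_c8)) :=
  Lgr Lrot93 (Lpr_dt (K17.f283108 IH) (Lpr_bt (f246007 IH) (Lpe (K19.f245847 IH) (Lpn (LP (LK LD1_c2 LD2_c6 LD3_c8))))))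
theorem f228868 : Led Lsl_ft (LP (LK LD1_c2 LD2_c3 LD3_c58)) = (LP (LK LD1_c0 LD2_c58 LD3_c57)) :=
  Lre_f IH (LK LD1_c2 LD2_c3 LD3_c58) (LK LD1_c0 LD2_c58 LD3_c57) Lrfl Lrfl
theorem f179593 : Led Lsl_bt (LP (LK LD1_c1 LD2_c0 LD3_c41)) = (LP (LK LD1_c2 LD2_c7 LD3_c12)) :=
  Lre_b IH (LK LD1_c1 LD2_c0 LD3_c41) (LK LD1_c2 LD2_c7 LD3_c12) Lrfl Lrfl
theorem f228823 : Led Lsl_bt (LP (LK LD1_c2 LD2_c3 LD3_c51)) = (LP (LK LD1_c0 LD2_c58 LD3_c57)) :=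
  Lre_b IH (LK LD1_c2 LD2_c3 LD3_c51) (LK LD1_c0 LD2_c58 LD3_c57) Lrfl Lrfl
theorem f261142 : Led Lsl_af (LP (LK LD1_c1 LD2_c0 LD3_c41)) = (LP (LK LD1_c0 LD2_c58 LD3_c57)) :=
  Lgr Lrot36 (Lpr_bt (f179593 IH) (Lpr_at (K18.f254037 IH) (Lpr_bt (K15.f261140 IH) (Lpr_at (K16.f228872 IH) (Lpr_bt (f228823 IH) (Lpn (LP (LK LD1_c0 LD2_c58 LD3_c57))))))))
theorem f287810 : Led Lsl_gt (LP (LK LD1_c2 LD2_c6 LD3_c47)) = (LP (LK LD1_c1 LD2_c0 LD3_c41)) :=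
  Lgr Lrot46 (Lpr_gf (K17.f287808 IH) (Lpr_ft (f228868 IH) (Lpe (f261142 IH) (Lpn (LP (LK LD1_c1 LD2_c0 LD3_c41))))))
theorem f179592 : Led Lsl_ct (LP (LK LD1_c1 LD2_c0 LD3_c41)) = (LP (LK LD1_c2 LD2_c7 LD3_c18)) :=
  Lre_c IH (LK LD1_c1 LD2_c0 LD3_c41) (LK LD1_c2 LD2_c7 LD3_c18) Lrfl Lrfl
theorem f323252 : Led Lsl_gf (LP (LK LD1_c4 LD2_c17 LD3_c36)) = (LP (LK LD1_c2 LD2_c7 LD3_c18)) :=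
  Lgr Lrot129 (Lpe (K19.f7761 IH) (Lpe (f283111 IH) (Lpr_gt (f323250 IH) (Lpe (K13.f197650 IH) (Lpr_ct (K18.f197652 IH) (Lpr_gt (K18.f296549 IH) (Lpe (K17.f237910 IH) (Lpr_bt (K17.f237916 IH) (Lpr_gt (f287810 IH) (Lpr_ct (f179592 IH) (Lpn (LP (LK LD1_c2 LD2_c7 LD3_c18)))))))))))))
theorem f245782 : Led Lsl_ct (LP (LK LD1_c4 LD2_c17 LD3_c36)) = (LP (LK LD1_c2 LD2_c6 LD3_c8)) :=
  Lre_c IH (LK LD1_c4 LD2_c17 LD3_c36) (LK LD1_c2 LD2_c6 LD3_c8) Lrfl Lrfl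
theorem f245826 : Led Lsl_ct (LP (LK LD1_c2 LD2_c2 LD3_c44)) = (LP (LK LD1_c4 LD2_c10 LD3_c57)) :=
  Lre_c IH (LK LD1_c2 LD2_c2 LD3_c44) (LK LD1_c4 LD2_c10 LD3_c57) Lrfl Lrfl
theorem f245833 : Led Lsl_af (LP (LK LD1_c4 LD2_c17 LD3_c36)) = (LP (LK LD1_c4 LD2_c10 LD3_c57)) :=
  Lgr Lrot68 (Lpr_ct (f245782 IH) (Lpr_at (K13.f245830 IH) (Lpr_ct (f245826 IH) (Lpn (LP (LK LD1_c4 LD2_c10 LD3_c57))))))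
theorem f179534 : Led Lsl_dt (LP (LK LD1_c1 LD2_c0 LD3_c40)) = (LP (LK LD1_c1 LD2_c0 LD3_c12)) :=
  Lgr Lrot27 (Lpe (K9.f179533 IH) (Lpr_gf (K9.f179529 IH) (Lpe (K9.f170075 IH) (Lpe (K9.f179102 IH) (Lpe (K9.f170941 IH) (Lpr_gt (K9.f170939 IH) (Lpr_ct (K9.f251 IH) (Lpr_gt (K9.f2798 IH) (Lpe (K9.f171194 IH) (Lpn (LP (LK LD1_c1 LD2_c0 LD3_c12))))))))))))
theorem f179553 : Led Lsl_et (LP (LK LD1_c1 LD2_c0 LD3_c40)) = (LP (LK LD1_c2 LD2_c7 LD3_c18)) :=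
  Lre_e IH (LK LD1_c1 LD2_c0 LD3_c40) (LK LD1_c2 LD2_c7 LD3_c18) Lrfl Lrfl
theorem f179583 : Led Lsl_et (LP (LK LD1_c2 LD2_c5 LD3_c51)) = (LP (LK LD1_c4 LD2_c17 LD3_c6)) :=
  Lre_e IH (LK LD1_c2 LD2_c5 LD3_c51) (LK LD1_c4 LD2_c17 LD3_c6) Lrfl Lrfl
theorem f179584 : Led Lsl_gf (LP (LK LD1_c2 LD2_c7 LD3_c18)) = (LP (LK LD1_c4 LD2_c17 LD3_c6)) :=
  Lgr Lrot141 (Lpe (f179553 IH) (Lpr_dt (f179534 IH) (Lpe (K9.f52225 IH) (Lpe (K9.f51609 IH) (Lpe (K20.f507 IH) (Lpr_gt (K9.f1399 IH) (Lpe (K9.f178274 IH) (Lpe (K9.f178343 IH) (Lpr_df (K9.f179563 IH) (Lpr_et (f179583 IH) (Lpn (LP (LK LD1_c4 LD2_c17 LD3_c6)))))))))))))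
theorem f323281 : Led Lsl_ff (LP (LK LD1_c4 LD2_c10 LD3_c57)) = (LP (LK LD1_c4 LD2_c17 LD3_c6)) :=
  Lgr Lrot52 (Lpe (f245833 IH) (Lpr_gf (f323252 IH) (Lpr_gf (f179584 IH) (Lpn (LP (LK LD1_c4 LD2_c17 LD3_c6))))))
theorem f245832 : Led Lsl_ct (LP (LK LD1_c4 LD2_c10 LD3_c57)) = (LP (LK LD1_c2 LD2_c2 LD3_c44)) :=
  Lre_c IH (LK LD1_c4 LD2_c10 LD3_c57) (LK LD1_c2 LD2_c2 LD3_c44) Lrfl Lrfl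
theorem f323285 : Led Lsl_ft (LP (LK LD1_c2 LD2_c2 LD3_c44)) = (LP (LK LD1_c2 LD2_c5 LD3_c52)) :=
  Lgr Lrot4 (Lpe (f245832 IH) (Lpr_ff (f323281 IH) (Lpe (K19.f179586 IH) (Lpn (LP (LK LD1_c2 LD2_c5 LD3_c52))))))
theorem f323292 : Led Lsl_af (LP (LK LD1_c2 LD2_c2 LD3_c26)) = (LP (LK LD1_c2 LD2_c5 LD3_c52)) :=
  Lgr Lrot45 (Lpe (K13.f245835 IH) (Lpr_at (K13.f245830 IH) (Lpr_ft (f323285 IH) (Lpn (LP (LK LD1_c2 LD2_c5 LD3_c52))))))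
theorem f220156 : Led Lsl_bf (LP (LK LD1_c4 LD2_c8 LD3_c41)) = (LP (LK LD1_c2 LD2_c2 LD3_c26)) :=
  Lgr Lrot24 (Lpr_bt (K15.f220065 IH) (Lpn (LP (LK LD1_c2 LD2_c2 LD3_c26))))
theorem f323294 : Led Lsl_at (LP (LK LD1_c4 LD2_c8 LD3_c41)) = (LP (LK LD1_c4 LD2_c16 LD3_c1)) :=
  Lgr Lrot67 (Lpr_bf (f220156 IH) (Lpr_af (f323292 IH) (Lpe (K18.f243270 IH) (Lpe (K18.f295009 IH) (Lpe (K18.f236298 IH) (Lpn (LP (LK LD1_c4 LD2_c16 LD3_c1))))))))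
theorem f283115 : Led Lsl_et (LP (LK LD1_c8 LD2_c31 LD3_c7)) = (LP (LK LD1_c4 LD2_c16 LD3_c0)) :=
  Lre_e IH (LK LD1_c8 LD2_c31 LD3_c7) (LK LD1_c4 LD2_c16 LD3_c0) Lrfl Lrfl
theorem f236389 : Led Lsl_ft (LP (LK LD1_c2 LD2_c1 LD3_c42)) = (LP (LK LD1_c2 LD2_c5 LD3_c48)) :=
  Lgr Lrot54 (Lpr_df (K13.f220205 IH) (Lpr_ff (K13.f236383 IH) (Lpe (K14.f167639 IH) (Lpn (LP (LK LD1_c2 LD2_c5 LD3_c48))))))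
theorem f283153 : Led Lsl_ft (LP (LK LD1_c4 LD2_c16 LD3_c0)) = (LP (LK LD1_c4 LD2_c8 LD3_c41)) :=
  Lgr Lrot86 (Lpe (f283115 IH) (Lpr_ff (K17.f283140 IH) (Lpe (K12.f167729 IH) (Lpe (f236389 IH) (Lpe (K17.f1364 IH) (Lpn (LP (LK LD1_c4 LD2_c8 LD3_c41))))))))
theorem f323298 : Led Lsl_gt (LP (LK LD1_c8 LD2_c29 LD3_c45)) = (LP (LK LD1_c4 LD2_c16 LD3_c1)) :=
  Lgr Lrot46 (Lpe (f323250 IH) (Lpr_ft (f283153 IH) (Lpr_at (f323294 IH) (Lpn (LP (LK LD1_c4 LD2_c16 LD3_c1))))))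
theorem f283151 : Led Lsl_dt (LP (LK LD1_c8 LD2_c31 LD3_c7)) = (LP (LK LD1_c4 LD2_c29 LD3_c14)) :=
  Lgr Lrot60 (Lpr_ff (K17.f283140 IH) (Lpr_df (K17.f167706 IH) (Lpe (K20.f167758 IH) (Lpn (LP (LK LD1_c4 LD2_c29 LD3_c14))))))
theorem f271300 : Led Lsl_bt (LP (LK LD1_c10 LD2_c24 LD3_c59)) = (LP (LK LD1_c5 LD2_c17 LD3_c47)) :=
  Lre_b IH (LK LD1_c10 LD2_c24 LD3_c59) (LK LD1_c5 LD2_c17 LD3_c47) Lrfl Lrfl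
theorem f275709 : Led Lsl_ef (LP (LK LD1_c8 LD2_c31 LD3_c50)) = (LP (LK LD1_c5 LD2_c17 LD3_c47)) :=
  Lgr Lrot29 (Lpe (K16.f254549 IH) (Lpr_et (K19.f275705 IH) (Lpr_bt (f271300 IH) (Lpn (LP (LK LD1_c5 LD2_c17 LD3_c47))))))
theorem f270506 : Led Lsl_bt (LP (LK LD1_c8 LD2_c29 LD3_c52)) = (LP (LK LD1_c15 LD2_c57 LD3_c6)) :=
  Lre_b IH (LK LD1_c8 LD2_c29 LD3_c52) (LK LD1_c15 LD2_c57 LD3_c6) Lrfl Lrfl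
theorem f271414 : Led Lsl_et (LP (LK LD1_c4 LD2_c16 LD3_c20)) = (LP (LK LD1_c8 LD2_c29 LD3_c52)) :=
  Lgr Lrot74 (Lpe (K16.f254547 IH) (Lpr_ef (K16.f271410 IH) (Lpe (f270506 IH) (Lpn (LP (LK LD1_c8 LD2_c29 LD3_c52))))))
theorem f301522 : Led Lsl_dt (LP (LK LD1_c8 LD2_c29 LD3_c52)) = (LP (LK LD1_c8 LD2_c30 LD3_c56)) :=
  Lgr Lrot77 (Lpe (f271414 IH) (Lpe (K16.f254540 IH) (Lpr_ef (f275709 IH) (Lpe (K20.f273421 IH) (Lpr_ef (K18.f301518 IH) (Lpn (LP (LK LD1_c8 LD2_c30 LD3_c56))))))))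
theorem f185023 : Led Lsl_gt (LP (LK LD1_c2 LD2_c11 LD3_c49)) = (LP (LK LD1_c4 LD2_c29 LD3_c29)) :=
  Lre_g IH (LK LD1_c2 LD2_c11 LD3_c49) (LK LD1_c4 LD2_c29 LD3_c29) Lrfl Lrfl
theorem f285559 : Led Lsl_ef (LP (LK LD1_c4 LD2_c29 LD3_c29)) = (LP (LK LD1_c8 LD2_c16 LD3_c3)) :=
  Lgr Lrot17 (Lpe (f185023 IH) (Lpe (K15.f185021 IH) (Lpr_dt (K15.f236414 IH) (Lpe (K13.f220579 IH) (Lpe (K13.f220568 IH) (Lpr_gf (K12.f220582 IH) (Lpe (K17.f220592 IH) (Lpr_dt (K18.f282976 IH) (Lpr_gf (K18.f285557 IH) (Lpr_df (K18.f282950 IH) (Lpn (LP (LK LD1_c8 LD2_c16 LD3_c3)))))))))))))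
theorem f285567 : Led Lsl_et (LP (LK LD1_c4 LD2_c29 LD3_c29)) = (LP (LK LD1_c8 LD2_c16 LD3_c3)) :=
  Lgr Lrot87 (Lpr_ef (f285559 IH) (Lpn (LP (LK LD1_c8 LD2_c16 LD3_c3))))
theorem f185024 : Led Lsl_dt (LP (LK LD1_c8 LD2_c57 LD3_c13)) = (LP (LK LD1_c4 LD2_c29 LD3_c29)) :=
  Lre_d IH (LK LD1_c8 LD2_c57 LD3_c13) (LK LD1_c4 LD2_c29 LD3_c29) Lrfl Lrfl
theorem f259255 : Led Lsl_dt (LP (LK LD1_c2 LD2_c41 LD3_c54)) = (LP (LK LD1_c5 LD2_c31 LD3_c20)) :=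
  Lre_d IH (LK LD1_c2 LD2_c41 LD3_c54) (LK LD1_c5 LD2_c31 LD3_c20) Lrfl Lrfl
theorem f285572 : Led Lsl_ef (LP (LK LD1_c8 LD2_c57 LD3_c13)) = (LP (LK LD1_c5 LD2_c31 LD3_c20)) :=
  Lgr Lrot73 (Lpr_dt (f185024 IH) (Lpr_et (f285567 IH) (Lpe (K18.f282950 IH) (Lpr_et (K18.f259257 IH) (Lpr_dt (f259255 IH) (Lpn (LP (LK LD1_c5 LD2_c31 LD3_c20))))))))
theorem f212213 : Led Lsl_dt (LP (LK LD1_c5 LD2_c31 LD3_c20)) = (LP (LK LD1_c2 LD2_c41 LD3_c54)) :=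
  Lre_d IH (LK LD1_c5 LD2_c31 LD3_c20) (LK LD1_c2 LD2_c41 LD3_c54) Lrfl Lrfl
theorem f231953 : Led Lsl_et (LP (LK LD1_c2 LD2_c34 LD3_c41)) = (LP (LK LD1_c1 LD2_c14 LD3_c21)) :=
  Lre_e IH (LK LD1_c2 LD2_c34 LD3_c41) (LK LD1_c1 LD2_c14 LD3_c21) Lrfl Lrfl
theorem f231954 : Led Lsl_dt (LP (LK LD1_c2 LD2_c34 LD3_c41)) = (LP (LK LD1_c5 LD2_c15 LD3_c41)) :=
  Lre_d IH (LK LD1_c2 LD2_c34 LD3_c41) (LK LD1_c5 LD2_c15 LD3_c41) Lrfl Lrfl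
theorem f260604 : Led Lsl_gt (LP (LK LD1_c10 LD2_c20 LD3_c41)) = (LP (LK LD1_c5 LD2_c15 LD3_c41)) :=
  Lre_g IH (LK LD1_c10 LD2_c20 LD3_c41) (LK LD1_c5 LD2_c15 LD3_c41) Lrfl Lrfl
theorem f259322 : Led Lsl_et (LP (LK LD1_c2 LD2_c1 LD3_c46)) = (LP (LK LD1_c4 LD2_c8 LD3_c49)) :=
  Lre_e IH (LK LD1_c2 LD2_c1 LD3_c46) (LK LD1_c4 LD2_c8 LD3_c49) Lrfl Lrfl
theorem f220184 : Led Lsl_gt (LP (LK LD1_c4 LD2_c8 LD3_c49)) = (LP (LK LD1_c8 LD2_c17 LD3_c48)) :=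
  Lre_g IH (LK LD1_c4 LD2_c8 LD3_c49) (LK LD1_c8 LD2_c17 LD3_c48) Lrfl Lrfl
theorem f260603 : Led Lsl_et (LP (LK LD1_c15 LD2_c36 LD3_c9)) = (LP (LK LD1_c8 LD2_c17 LD3_c48)) :=
  Lre_e IH (LK LD1_c15 LD2_c36 LD3_c9) (LK LD1_c8 LD2_c17 LD3_c48) Lrfl Lrfl
theorem f260605 : Led Lsl_dt (LP (LK LD1_c15 LD2_c36 LD3_c9)) = (LP (LK LD1_c10 LD2_c20 LD3_c41)) :=
  Lgr Lrot136 (Lpr_et (f260603 IH) (Lpe (f220184 IH) (Lpe (f259322 IH) (Lpr_dt (K14.f228968 IH) (Lpe (K14.f167355 IH) (Lpe (K15.f253177 IH) (Lpr_gf (K15.f260593 IH) (Lpe (f231953 IH) (Lpr_dt (f231954 IH) (Lpe (f260604 IH) (Lpn (LP (LK LD1_c10 LD2_c20 LD3_c41)))))))))))))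
theorem f285578 : Led Lsl_gt (LP (LK LD1_c8 LD2_c57 LD3_c13)) = (LP (LK LD1_c15 LD2_c36 LD3_c9)) :=
  Lgr Lrot137 (Lpr_ef (f285572 IH) (Lpr_dt (f212213 IH) (Lpe (K18.f185887 IH) (Lpe (K15.f212210 IH) (Lpe (K15.f212144 IH) (Lpr_gf (K15.f260593 IH) (Lpe (f231953 IH) (Lpr_dt (f231954 IH) (Lpe (f260604 IH) (Lpe (f260605 IH) (Lpn (LP (LK LD1_c15 LD2_c36 LD3_c9)))))))))))))
theorem f285564 : Led Lsl_dt (LP (LK LD1_c4 LD2_c29 LD3_c29)) = (LP (LK LD1_c8 LD2_c57 LD3_c13)) :=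
  Lre_d IH (LK LD1_c4 LD2_c29 LD3_c29) (LK LD1_c8 LD2_c57 LD3_c13) Lrfl Lrfl
theorem f220687 : Led Lsl_gt (LP (LK LD1_c5 LD2_c29 LD3_c51)) = (LP (LK LD1_c2 LD2_c41 LD3_c15)) :=
  Lre_g IH (LK LD1_c5 LD2_c29 LD3_c51) (LK LD1_c2 LD2_c41 LD3_c15) Lrfl Lrfl
theorem f260608 : Led Lsl_df (LP (LK LD1_c15 LD2_c36 LD3_c9)) = (LP (LK LD1_c10 LD2_c20 LD3_c41)) :=
  Lgr Lrot38 (Lpr_dt (f260605 IH) (Lpn (LP (LK LD1_c10 LD2_c20 LD3_c41))))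
theorem f285581 : Led Lsl_ef (LP (LK LD1_c5 LD2_c29 LD3_c51)) = (LP (LK LD1_c10 LD2_c20 LD3_c41)) :=
  Lgr Lrot114 (Lpr_gt (f220687 IH) (Lpe (K14.f220570 IH) (Lpr_dt (K13.f220568 IH) (Lpr_gt (K13.f220579 IH) (Lpe (K15.f236414 IH) (Lpr_et (K15.f185021 IH) (Lpr_gt (f185023 IH) (Lpr_dt (f285564 IH) (Lpr_gt (f285578 IH) (Lpr_df (f260608 IH) (Lpn (LP (LK LD1_c10 LD2_c20 LD3_c41)))))))))))))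
theorem f285587 : Led Lsl_et (LP (LK LD1_c5 LD2_c29 LD3_c51)) = (LP (LK LD1_c10 LD2_c20 LD3_c41)) :=
  Lgr Lrot87 (Lpr_ef (f285581 IH) (Lpn (LP (LK LD1_c10 LD2_c20 LD3_c41))))
theorem f220716 : Led Lsl_dt (LP (LK LD1_c10 LD2_c50 LD3_c59)) = (LP (LK LD1_c5 LD2_c29 LD3_c51)) :=
  Lre_d IH (LK LD1_c10 LD2_c50 LD3_c59) (LK LD1_c5 LD2_c29 LD3_c51) Lrfl Lrfl
theorem f220704 : Led Lsl_dt (LP (LK LD1_c2 LD2_c5 LD3_c23)) = (LP (LK LD1_c2 LD2_c41 LD3_c15)) :=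
  Lgr Lrot60 (Lpe (K15.f220700 IH) (Lpr_df (K15.f220696 IH) (Lpe (K15.f220684 IH) (Lpn (LP (LK LD1_c2 LD2_c41 LD3_c15))))))
theorem f49051 : Led Lsl_gt (LP (LK LD1_c4 LD2_c15 LD3_c30)) = (LP (LK LD1_c8 LD2_c29 LD3_c56)) :=
  Lre_g IH (LK LD1_c4 LD2_c15 LD3_c30) (LK LD1_c8 LD2_c29 LD3_c56) Lrfl Lrfl
theorem f261420 : Led Lsl_et (LP (LK LD1_c10 LD2_c50 LD3_c59)) = (LP (LK LD1_c8 LD2_c29 LD3_c56)) :=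
  Lgr Lrot122 (Lpr_dt (f220716 IH) (Lpr_gt (f220687 IH) (Lpe (f220704 IH) (Lpr_et (K14.f220572 IH) (Lpe (K13.f243274 IH) (Lpr_dt (K15.f245877 IH) (Lpr_gt (K15.f261404 IH) (Lpe (K15.f48241 IH) (Lpr_et (K15.f48243 IH) (Lpr_gt (f49051 IH) (Lpn (LP (LK LD1_c8 LD2_c29 LD3_c56)))))))))))))
theorem f261426 : Led Lsl_ef (LP (LK LD1_c10 LD2_c50 LD3_c59)) = (LP (LK LD1_c8 LD2_c29 LD3_c56)) :=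
  Lgr Lrot88 (Lpr_et (f261420 IH) (Lpn (LP (LK LD1_c8 LD2_c29 LD3_c56))))
theorem f285591 : Led Lsl_df (LP (LK LD1_c8 LD2_c29 LD3_c56)) = (LP (LK LD1_c8 LD2_c17 LD3_c48)) :=
  Lgr Lrot70 (Lpe (f261426 IH) (Lpr_dt (f220716 IH) (Lpr_et (f285587 IH) (Lpe (f260608 IH) (Lpr_et (f260603 IH) (Lpn (LP (LK LD1_c8 LD2_c17 LD3_c48))))))))
theorem f212136 : Led Lsl_et (LP (LK LD1_c2 LD2_c30 LD3_c2)) = (LP (LK LD1_c2 LD2_c41 LD3_c56)) :=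
  Lgr Lrot74 (Lpe (K17.f180579 IH) (Lpr_ef (K15.f212134 IH) (Lpe (K15.f198771 IH) (Lpn (LP (LK LD1_c2 LD2_c41 LD3_c56))))))
theorem f263017 : Led Lsl_ff (LP (LK LD1_c5 LD2_c17 LD3_c45)) = (LP (LK LD1_c10 LD2_c17 LD3_c2)) :=
  Lgr Lrot3 (Lpr_ft (K15.f262995 IH) (Lpn (LP (LK LD1_c10 LD2_c17 LD3_c2))))
theorem f262988 : Led Lsl_at (LP (LK LD1_c5 LD2_c17 LD3_c45)) = (LP (LK LD1_c2 LD2_c41 LD3_c56)) :=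
  Lgr Lrot51 (Lpr_df (K15.f262986 IH) (Lpe (K15.f261752 IH) (Lpe (K15.f212210 IH) (Lpn (LP (LK LD1_c2 LD2_c41 LD3_c56))))))
theorem f273509 : Led Lsl_gt (LP (LK LD1_c5 LD2_c17 LD3_c47)) = (LP (LK LD1_c2 LD2_c41 LD3_c56)) :=
  Lgr Lrot46 (Lpr_gf (K20.f273507 IH) (Lpe (f263017 IH) (Lpr_at (f262988 IH) (Lpn (LP (LK LD1_c2 LD2_c41 LD3_c56))))))
theorem f273560 : Led Lsl_et (LP (LK LD1_c8 LD2_c31 LD3_c50)) = (LP (LK LD1_c5 LD2_c17 LD3_c47)) :=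
  Lgr Lrot123 (Lpr_af (K16.f273533 IH) (Lpe (K16.f273505 IH) (Lpe (K16.f263022 IH) (Lpn (LP (LK LD1_c5 LD2_c17 LD3_c47))))))
theorem f285683 : Led Lsl_gt (LP (LK LD1_c8 LD2_c29 LD3_c56)) = (LP (LK LD1_c4 LD2_c16 LD3_c20)) :=
  Lgr Lrot139 (Lpr_df (f285591 IH) (Lpe (f220184 IH) (Lpe (f259322 IH) (Lpr_dt (K14.f228968 IH) (Lpe (K14.f167355 IH) (Lpe (K15.f253177 IH) (Lpr_et (f212136 IH) (Lpe (f273509 IH) (Lpe (f273560 IH) (Lpr_dt (K16.f254540 IH) (Lpn (LP (LK LD1_c4 LD2_c16 LD3_c20)))))))))))))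
theorem f323254 : Led Lsl_gf (LP (LK LD1_c5 LD2_c29 LD3_c51)) = (LP (LK LD1_c8 LD2_c55 LD3_c46)) :=
  Lgr Lrot134 (Lpe (f220716 IH) (Lpr_et (f261420 IH) (Lpr_gt (f285683 IH) (Lpr_ef (K16.f271418 IH) (Lpr_dt (f301522 IH) (Lpe (K20.f301534 IH) (Lpe (f283151 IH) (Lpr_et (f283115 IH) (Lpr_gt (f323250 IH) (Lpr_dt (K13.f197603 IH) (Lpn (LP (LK LD1_c8 LD2_c55 LD3_c46)))))))))))))
theorem f283118 : Led Lsl_ct (LP (LK LD1_c5 LD2_c29 LD3_c51)) = (LP (LK LD1_c10 LD2_c50 LD3_c58)) :=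
  Lre_c IH (LK LD1_c5 LD2_c29 LD3_c51) (LK LD1_c10 LD2_c50 LD3_c58) Lrfl Lrfl
theorem f220709 : Led Lsl_ct (LP (LK LD1_c4 LD2_c16 LD3_c1)) = (LP (LK LD1_c8 LD2_c31 LD3_c8)) :=
  Lre_c IH (LK LD1_c4 LD2_c16 LD3_c1) (LK LD1_c8 LD2_c31 LD3_c8) Lrfl Lrfl
theorem f243315 : Led Lsl_et (LP (LK LD1_c8 LD2_c26 LD3_c42)) = (LP (LK LD1_c15 LD2_c51 LD3_c29)) :=
  Lre_e IH (LK LD1_c8 LD2_c26 LD3_c42) (LK LD1_c15 LD2_c51 LD3_c29) Lrfl Lrfl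
theorem f220711 : Led Lsl_ct (LP (LK LD1_c8 LD2_c31 LD3_c8)) = (LP (LK LD1_c4 LD2_c16 LD3_c1)) :=
  Lre_c IH (LK LD1_c8 LD2_c31 LD3_c8) (LK LD1_c4 LD2_c16 LD3_c1) Lrfl Lrfl
theorem f250659 : Led Lsl_et (LP (LK LD1_c8 LD2_c16 LD3_c26)) = (LP (LK LD1_c8 LD2_c31 LD3_c8)) :=
  Lgr Lrot158 (Lpe (K14.f250658 IH) (Lpr_ef (K14.f250656 IH) (Lpe (f220711 IH) (Lpn (LP (LK LD1_c8 LD2_c31 LD3_c8))))))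
theorem f250877 : Led Lsl_gf (LP (LK LD1_c15 LD2_c51 LD3_c29)) = (LP (LK LD1_c8 LD2_c31 LD3_c8)) :=
  Lgr Lrot141 (Lpe (f243315 IH) (Lpr_dt (K15.f243304 IH) (Lpr_gt (K12.f1021 IH) (Lpe (K17.f1007 IH) (Lpe (K20.f586 IH) (Lpr_gt (K14.f1312 IH) (Lpr_dt (K14.f1313 IH) (Lpr_gt (K14.f1314 IH) (Lpr_df (K14.f250870 IH) (Lpr_et (f250659 IH) (Lpn (LP (LK LD1_c8 LD2_c31 LD3_c8)))))))))))))
theorem f167384 : Led Lsl_ct (LP (LK LD1_c15 LD2_c51 LD3_c29)) = (LP (LK LD1_c8 LD2_c26 LD3_c43)) :=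
  Lre_c IH (LK LD1_c15 LD2_c51 LD3_c29) (LK LD1_c8 LD2_c26 LD3_c43) Lrfl Lrfl
theorem f222280 : Led Lsl_et (LP (LK LD1_c2 LD2_c41 LD3_c17)) = (LP (LK LD1_c5 LD2_c29 LD3_c59)) :=
  Lre_e IH (LK LD1_c2 LD2_c41 LD3_c17) (LK LD1_c5 LD2_c29 LD3_c59) Lrfl Lrfl
theorem f189436 : Led Lsl_et (LP (LK LD1_c5 LD2_c35 LD3_c24)) = (LP (LK LD1_c2 LD2_c43 LD3_c39)) :=
  Lre_e IH (LK LD1_c5 LD2_c35 LD3_c24) (LK LD1_c2 LD2_c43 LD3_c39) Lrfl Lrfl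
theorem f222281 : Led Lsl_ct (LP (LK LD1_c5 LD2_c29 LD3_c59)) = (LP (LK LD1_c5 LD2_c35 LD3_c24)) :=
  Lgr Lrot15 (Lpe (f222280 IH) (Lpr_cf (K13.f222244 IH) (Lpe (f189436 IH) (Lpn (LP (LK LD1_c5 LD2_c35 LD3_c24))))))
theorem f323300 : Led Lsl_gt (LP (LK LD1_c10 LD2_c50 LD3_c58)) = (LP (LK LD1_c5 LD2_c29 LD3_c59)) :=
  Lgr Lrot150 (Lpe (f283118 IH) (Lpr_gf (f323254 IH) (Lpe (K13.f197603 IH) (Lpr_gt (f323298 IH) (Lpr_ct (f220709 IH) (Lpe (f250877 IH) (Lpr_ct (f167384 IH) (Lpe (K13.f189418 IH) (Lpe (f222281 IH) (Lpn (LP (LK LD1_c5 LD2_c29 LD3_c59))))))))))))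
theorem f298002 : Led Lsl_cf (LP (LK LD1_c15 LD2_c17 LD3_c47)) = (LP (LK LD1_c8 LD2_c9 LD3_c37)) :=
  Lgr Lrot166 (Lpr_gt (K18.f262199 IH) (Lpr_dt (K15.f262186 IH) (Lpr_gt (K18.f296540 IH) (Lpr_dt (K18.f256149 IH) (Lpe (K18.f256144 IH) (Lpe (K17.f237922 IH) (Lpe (K18.f297991 IH) (Lpe (K12.f200497 IH) (Lpr_gf (K18.f297993 IH) (Lpn (LP (LK LD1_c8 LD2_c9 LD3_c37))))))))))))
theorem f222287 : Led Lsl_cf (LP (LK LD1_c5 LD2_c29 LD3_c59)) = (LP (LK LD1_c5 LD2_c35 LD3_c24)) :=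
  Lgr Lrot11 (Lpr_ct (f222281 IH) (Lpn (LP (LK LD1_c5 LD2_c35 LD3_c24))))
theorem f323336 : Led Lsl_bt (LP (LK LD1_c8 LD2_c9 LD3_c37)) = (LP (LK LD1_c5 LD2_c35 LD3_c28)) :=
  Lgr Lrot92 (Lpe (f298002 IH) (Lpr_gt (K18.f262199 IH) (Lpr_cf (K15.f228127 IH) (Lpr_bt (K12.f228051 IH) (Lpe (f323254 IH) (Lpr_ct (f283118 IH) (Lpr_gt (f323300 IH) (Lpr_cf (f222287 IH) (Lpr_bt (K19.f189397 IH) (Lpr_gt (K14.f189412 IH) (Lpn (LP (LK LD1_c5 LD2_c35 LD3_c28)))))))))))))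
theorem f323345 : Led Lsl_bf (LP (LK LD1_c11 LD2_c8 LD3_c37)) = (LP (LK LD1_c11 LD2_c3 LD3_c9)) :=
  Lgr Lrot96 (Lpe (K14.f238338 IH) (Lpr_bt (f323336 IH) (Lpr_et (K14.f247106 IH) (Lpn (LP (LK LD1_c11 LD2_c3 LD3_c9))))))
theorem f247101 : Led Lsl_dt (LP (LK LD1_c8 LD2_c1 LD3_c29)) = (LP (LK LD1_c15 LD2_c6 LD3_c43)) :=
  Lre_d IH (LK LD1_c8 LD2_c1 LD3_c29) (LK LD1_c15 LD2_c6 LD3_c43) Lrfl Lrfl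
theorem f189423 : Led Lsl_dt (LP (LK LD1_c5 LD2_c35 LD3_c28)) = (LP (LK LD1_c11 LD2_c3 LD3_c8)) :=
  Lre_d IH (LK LD1_c5 LD2_c35 LD3_c28) (LK LD1_c11 LD2_c3 LD3_c8) Lrfl Lrfl
theorem f247165 : Led Lsl_dt (LP (LK LD1_c8 LD2_c38 LD3_c1)) = (LP (LK LD1_c11 LD2_c3 LD3_c9)) :=
  Lgr Lrot77 (Lpr_ef (K14.f247161 IH) (Lpe (f247101 IH) (Lpe (K14.f247096 IH) (Lpe (f189423 IH) (Lpe (K14.f189445 IH) (Lpn (LP (LK LD1_c11 LD2_c3 LD3_c9))))))))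
theorem f323349 : Led Lsl_bt (LP (LK LD1_c5 LD2_c38 LD3_c52)) = (LP (LK LD1_c8 LD2_c38 LD3_c1)) :=
  Lgr Lrot95 (Lpe (K14.f194682 IH) (Lpr_bf (f323345 IH) (Lpe (f247165 IH) (Lpn (LP (LK LD1_c8 LD2_c38 LD3_c1))))))
theorem f323354 : Led Lsl_bf (LP (LK LD1_c11 LD2_c8 LD3_c38)) = (LP (LK LD1_c15 LD2_c6 LD3_c43)) :=
  Lgr Lrot96 (Lpr_et (K14.f194683 IH) (Lpr_bt (f323349 IH) (Lpr_et (K14.f247167 IH) (Lpn (LP (LK LD1_c15 LD2_c6 LD3_c43))))))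
theorem f323358 : Led Lsl_bt (LP (LK LD1_c9 LD2_c33 LD3_c55)) = (LP (LK LD1_c8 LD2_c1 LD3_c29)) :=
  Lgr Lrot95 (Lpe (K14.f247183 IH) (Lpr_bf (f323354 IH) (Lpe (f247101 IH) (Lpn (LP (LK LD1_c8 LD2_c1 LD3_c29))))))
theorem f196975 : Led Lsl_et (LP (LK LD1_c5 LD2_c39 LD3_c19)) = (LP (LK LD1_c2 LD2_c45 LD3_c39)) :=
  Lre_e IH (LK LD1_c5 LD2_c39 LD3_c19) (LK LD1_c2 LD2_c45 LD3_c39) Lrfl Lrfl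
theorem f167268 : Led Lsl_et (LP (LK LD1_c8 LD2_c18 LD3_c34)) = (LP (LK LD1_c4 LD2_c9 LD3_c15)) :=
  Lre_e IH (LK LD1_c8 LD2_c18 LD3_c34) (LK LD1_c4 LD2_c9 LD3_c15) Lrfl Lrfl
theorem f167269 : Led Lsl_dt (LP (LK LD1_c8 LD2_c18 LD3_c34)) = (LP (LK LD1_c15 LD2_c37 LD3_c46)) :=
  Lre_d IH (LK LD1_c8 LD2_c18 LD3_c34) (LK LD1_c15 LD2_c37 LD3_c46) Lrfl Lrfl
theorem f216605 : Led Lsl_gf (LP (LK LD1_c11 LD2_c9 LD3_c41)) = (LP (LK LD1_c15 LD2_c37 LD3_c46)) :=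
  Lgr Lrot145 (Lpe (K19.f196976 IH) (Lpr_et (f196975 IH) (Lpe (K12.f196962 IH) (Lpr_dt (K12.f28946 IH) (Lpr_gt (K12.f216424 IH) (Lpe (K1.f29246 IH) (Lpr_et (K1.f29767 IH) (Lpe (K9.f167255 IH) (Lpe (f167268 IH) (Lpr_dt (f167269 IH) (Lpn (LP (LK LD1_c15 LD2_c37 LD3_c46)))))))))))))
theorem f216448 : Led Lsl_dt (LP (LK LD1_c11 LD2_c9 LD3_c41)) = (LP (LK LD1_c5 LD2_c39 LD3_c19)) :=
  Lre_d IH (LK LD1_c11 LD2_c9 LD3_c41) (LK LD1_c5 LD2_c39 LD3_c19) Lrfl Lrfl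
theorem f216450 : Led Lsl_ct (LP (LK LD1_c5 LD2_c39 LD3_c19)) = (LP (LK LD1_c2 LD2_c45 LD3_c35)) :=
  Lre_c IH (LK LD1_c5 LD2_c39 LD3_c19) (LK LD1_c2 LD2_c45 LD3_c35) Lrfl Lrfl
theorem f216611 : Led Lsl_gt (LP (LK LD1_c15 LD2_c37 LD3_c45)) = (LP (LK LD1_c8 LD2_c18 LD3_c34)) :=
  Lre_g IH (LK LD1_c15 LD2_c37 LD3_c45) (LK LD1_c8 LD2_c18 LD3_c34) Lrfl Lrfl
theorem f216612 : Led Lsl_ct (LP (LK LD1_c9 LD2_c33 LD3_c55)) = (LP (LK LD1_c15 LD2_c37 LD3_c45)) :=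
  Lgr Lrot8 (Lpr_gt (K14.f189258 IH) (Lpe (K13.f216432 IH) (Lpr_gt (K13.f196955 IH) (Lpr_dt (K13.f200468 IH) (Lpe (f216450 IH) (Lpe (f216448 IH) (Lpr_gf (f216605 IH) (Lpe (f167269 IH) (Lpe (f216611 IH) (Lpn (LP (LK LD1_c15 LD2_c37 LD3_c45))))))))))))
theorem f216629 : Led Lsl_ct (LP (LK LD1_c4 LD2_c9 LD3_c17)) = (LP (LK LD1_c8 LD2_c18 LD3_c34)) :=
  Lre_c IH (LK LD1_c4 LD2_c9 LD3_c17) (LK LD1_c8 LD2_c18 LD3_c34) Lrfl Lrfl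
theorem f216631 : Led Lsl_gt (LP (LK LD1_c2 LD2_c2 LD3_c1)) = (LP (LK LD1_c4 LD2_c9 LD3_c25)) :=
  Lre_g IH (LK LD1_c2 LD2_c2 LD3_c1) (LK LD1_c4 LD2_c9 LD3_c25) Lrfl Lrfl
theorem f216632 : Led Lsl_ct (LP (LK LD1_c4 LD2_c9 LD3_c25)) = (LP (LK LD1_c8 LD2_c18 LD3_c53)) :=
  Lre_c IH (LK LD1_c4 LD2_c9 LD3_c25) (LK LD1_c8 LD2_c18 LD3_c53) Lrfl Lrfl
theorem f247169 : Led Lsl_gt (LP (LK LD1_c4 LD2_c52 LD3_c58)) = (LP (LK LD1_c8 LD2_c1 LD3_c29)) :=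
  Lgr Lrot139 (Lpe (K15.f239861 IH) (Lpe (K13.f212570 IH) (Lpe (K13.f212544 IH) (Lpr_dt (K12.f177911 IH) (Lpe (K12.f177915 IH) (Lpe (K13.f177917 IH) (Lpr_et (K14.f212701 IH) (Lpe (K14.f212904 IH) (Lpr_ef (K14.f247161 IH) (Lpr_dt (K14.f247090 IH) (Lpn (LP (LK LD1_c8 LD2_c1 LD3_c29)))))))))))))
theorem f170369 : Led Lsl_bt (LP (LK LD1_c9 LD2_c37 LD3_c45)) = (LP (LK LD1_c4 LD2_c52 LD3_c58)) :=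
  Lre_b IH (LK LD1_c9 LD2_c37 LD3_c45) (LK LD1_c4 LD2_c52 LD3_c58) Lrfl Lrfl
theorem f170352 : Led Lsl_cf (LP (LK LD1_c15 LD2_c34 LD3_c15)) = (LP (LK LD1_c9 LD2_c37 LD3_c45)) :=
  Lgr Lrot108 (Lpr_ft (K17.f170350 IH) (Lpr_ct (K16.f170340 IH) (Lpr_ft (K15.f170351 IH) (Lpn (LP (LK LD1_c9 LD2_c37 LD3_c45))))))
theorem f323362 : Led Lsl_gt (LP (LK LD1_c8 LD2_c18 LD3_c53)) = (LP (LK LD1_c15 LD2_c34 LD3_c15)) :=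
  Lgr Lrot149 (Lpe (f216632 IH) (Lpe (f216631 IH) (Lpe (K20.f216630 IH) (Lpr_ct (f216629 IH) (Lpe (f216611 IH) (Lpe (f216612 IH) (Lpr_bt (f323358 IH) (Lpe (f247169 IH) (Lpe (f170369 IH) (Lpe (f170352 IH) (Lpn (LP (LK LD1_c15 LD2_c34 LD3_c15)))))))))))))
theorem f170367 : Led Lsl_ct (LP (LK LD1_c15 LD2_c34 LD3_c15)) = (LP (LK LD1_c9 LD2_c37 LD3_c45)) :=
  Lgr Lrot59 (Lpr_cf (f170352 IH) (Lpn (LP (LK LD1_c9 LD2_c37 LD3_c45))))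
theorem f300931 : Led Lsl_cf (LP (LK LD1_c8 LD2_c18 LD3_c9)) = (LP (LK LD1_c10 LD2_c50 LD3_c13)) :=
  Lgr Lrot11 (Lpr_ct (K18.f300927 IH) (Lpn (LP (LK LD1_c10 LD2_c50 LD3_c13))))
theorem f266384 : Led Lsl_gt (LP (LK LD1_c5 LD2_c29 LD3_c27)) = (LP (LK LD1_c10 LD2_c50 LD3_c13)) :=
  Lre_g IH (LK LD1_c5 LD2_c29 LD3_c27) (LK LD1_c10 LD2_c50 LD3_c13) Lrfl Lrfl
theorem f266375 : Led Lsl_ct (LP (LK LD1_c2 LD2_c40 LD3_c60)) = (LP (LK LD1_c5 LD2_c29 LD3_c27)) :=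
  Lre_c IH (LK LD1_c2 LD2_c40 LD3_c60) (LK LD1_c5 LD2_c29 LD3_c27) Lrfl Lrfl
theorem f323369 : Led Lsl_gt (LP (LK LD1_c4 LD2_c9 LD3_c27)) = (LP (LK LD1_c2 LD2_c40 LD3_c60)) :=
  Lgr Lrot9 (Lpe (K20.f1409 IH) (Lpr_gt (f216631 IH) (Lpr_ct (f216632 IH) (Lpr_gt (f323362 IH) (Lpr_ct (f170367 IH) (Lpr_df (K15.f263588 IH) (Lpr_cf (f300931 IH) (Lpe (f266384 IH) (Lpe (f266375 IH) (Lpn (LP (LK LD1_c2 LD2_c40 LD3_c60))))))))))))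
theorem f250669 : Led Lsl_gt (LP (LK LD1_c4 LD2_c9 LD3_c26)) = (LP (LK LD1_c2 LD2_c2 LD3_c1)) :=
  Lre_g IH (LK LD1_c4 LD2_c9 LD3_c26) (LK LD1_c2 LD2_c2 LD3_c1) Lrfl Lrfl
theorem f323398 : Led Lsl_ct (LP (LK LD1_c4 LD2_c9 LD3_c26)) = (LP (LK LD1_c8 LD2_c18 LD3_c55)) :=
  Lre_c IH (LK LD1_c4 LD2_c9 LD3_c26) (LK LD1_c8 LD2_c18 LD3_c55) Lrfl Lrfl
theorem f295755 : Led Lsl_dt (LP (LK LD1_c2 LD2_c40 LD3_c60)) = (LP (LK LD1_c4 LD2_c15 LD3_c38)) :=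
  Lgr Lrot60 (Lpe (K17.f222647 IH) (Lpr_df (K18.f295741 IH) (Lpe (K18.f283177 IH) (Lpn (LP (LK LD1_c4 LD2_c15 LD3_c38))))))
theorem f243372 : Led Lsl_ct (LP (LK LD1_c8 LD2_c30 LD3_c13)) = (LP (LK LD1_c4 LD2_c15 LD3_c38)) :=
  Lre_c IH (LK LD1_c8 LD2_c30 LD3_c13) (LK LD1_c4 LD2_c15 LD3_c38) Lrfl Lrfl
theorem f323399 : Led Lsl_gt (LP (LK LD1_c8 LD2_c18 LD3_c55)) = (LP (LK LD1_c4 LD2_c9 LD3_c43)) :=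
  Lgr Lrot94 (Lpe (f323398 IH) (Lpr_gt (f250669 IH) (Lpr_dt (K20.f1409 IH) (Lpr_gt (f323369 IH) (Lpr_dt (f295755 IH) (Lpe (f243372 IH) (Lpr_df (K20.f243361 IH) (Lpe (K20.f1317 IH) (Lpe (K17.f1316 IH) (Lpn (LP (LK LD1_c4 LD2_c9 LD3_c43))))))))))))
theorem f323441 : Led Lsl_gf (LP (LK LD1_c8 LD2_c18 LD3_c55)) = (LP (LK LD1_c15 LD2_c34 LD3_c15)) :=
  Lgr Lrot47 (Lpr_gt (f323399 IH) (Lpe (K17.f273726 IH) (Lpe (K17.f170350 IH) (Lpn (LP (LK LD1_c15 LD2_c34 LD3_c15))))))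
theorem f310304 : Led Lsl_bt (LP (LK LD1_c2 LD2_c23 LD3_c52)) = (LP (LK LD1_c4 LD2_c52 LD3_c15)) :=
  Lre_b IH (LK LD1_c2 LD2_c23 LD3_c52) (LK LD1_c4 LD2_c52 LD3_c15) Lrfl Lrfl
theorem f321075 : Led Lsl_gf (LP (LK LD1_c4 LD2_c52 LD3_c15)) = (LP (LK LD1_c4 LD2_c0 LD3_c15)) :=
  Lgr Lrot124 (Lpe (f310304 IH) (Lpe (K20.f310300 IH) (Lpr_gt (K20.f310298 IH) (Lpe (K20.f310207 IH) (Lpr_bt (K19.f310178 IH) (Lpr_gt (K20.f310192 IH) (Lpr_ct (K20.f284129 IH) (Lpr_gt (K20.f321070 IH) (Lpe (K16.f270740 IH) (Lpr_bt (K15.f247079 IH) (Lpn (LP (LK LD1_c4 LD2_c0 LD3_c15)))))))))))))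
theorem f321078 : Led Lsl_gt (LP (LK LD1_c4 LD2_c52 LD3_c15)) = (LP (LK LD1_c4 LD2_c52 LD3_c58)) :=
  Lgr Lrot46 (Lpr_gf (f321075 IH) (Lpr_ft (K16.f247088 IH) (Lpe (K17.f247118 IH) (Lpn (LP (LK LD1_c4 LD2_c52 LD3_c58))))))
theorem f181827 : Led Lsl_ct (LP (LK LD1_c0 LD2_c58 LD3_c21)) = (LP (LK LD1_c2 LD2_c2 LD3_c52)) :=
  Lre_c IH (LK LD1_c0 LD2_c58 LD3_c21) (LK LD1_c2 LD2_c2 LD3_c52) Lrfl Lrfl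
theorem f323453 : Led Lsl_bt (LP (LK LD1_c4 LD2_c9 LD3_c26)) = (LP (LK LD1_c2 LD2_c2 LD3_c54)) :=
  Lgr Lrot130 (Lpr_ct (f323398 IH) (Lpr_gf (f323441 IH) (Lpr_cf (f170352 IH) (Lpr_bt (f170369 IH) (Lpe (f321078 IH) (Lpe (f310304 IH) (Lpe (K20.f310300 IH) (Lpe (K20.f170869 IH) (Lpe (f181827 IH) (Lpe (K19.f167664 IH) (Lpn (LP (LK LD1_c2 LD2_c2 LD3_c54)))))))))))))
theorem f250670 : Led Lsl_et (LP (LK LD1_c8 LD2_c18 LD3_c56)) = (LP (LK LD1_c4 LD2_c9 LD3_c26)) :=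
  Lre_e IH (LK LD1_c8 LD2_c18 LD3_c56) (LK LD1_c4 LD2_c9 LD3_c26) Lrfl Lrfl
theorem f323460 : Led Lsl_bf (LP (LK LD1_c8 LD2_c18 LD3_c56)) = (LP (LK LD1_c4 LD2_c11 LD3_c22)) :=
  Lgr Lrot96 (Lpr_et (f250670 IH) (Lpr_bt (f323453 IH) (Lpr_et (K19.f167672 IH) (Lpn (LP (LK LD1_c4 LD2_c11 LD3_c22))))))
theorem f167670 : Led Lsl_df (LP (LK LD1_c4 LD2_c11 LD3_c22)) = (LP (LK LD1_c2 LD2_c40 LD3_c35)) :=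
  Lgr Lrot38 (Lpr_dt (K19.f167666 IH) (Lpn (LP (LK LD1_c2 LD2_c40 LD3_c35))))
theorem f167677 : Led Lsl_bt (LP (LK LD1_c5 LD2_c28 LD3_c36)) = (LP (LK LD1_c2 LD2_c40 LD3_c35)) :=
  Lre_b IH (LK LD1_c5 LD2_c28 LD3_c36) (LK LD1_c2 LD2_c40 LD3_c35) Lrfl Lrfl
theorem f323465 : Led Lsl_dt (LP (LK LD1_c8 LD2_c18 LD3_c56)) = (LP (LK LD1_c5 LD2_c28 LD3_c36)) :=
  Lgr Lrot79 (Lpr_bf (f323460 IH) (Lpr_df (f167670 IH) (Lpe (f167677 IH) (Lpn (LP (LK LD1_c5 LD2_c28 LD3_c36))))))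
theorem f323468 : Led Lsl_df (LP (LK LD1_c8 LD2_c18 LD3_c56)) = (LP (LK LD1_c5 LD2_c28 LD3_c36)) :=
  Lgr Lrot38 (Lpr_dt (f323465 IH) (Lpn (LP (LK LD1_c5 LD2_c28 LD3_c36))))
theorem f181815 : Led Lsl_bt (LP (LK LD1_c2 LD2_c43 LD3_c29)) = (LP (LK LD1_c5 LD2_c35 LD3_c6)) :=
  Lre_b IH (LK LD1_c2 LD2_c43 LD3_c29) (LK LD1_c5 LD2_c35 LD3_c6) Lrfl Lrfl
theorem f181816 : Led Lsl_ef (LP (LK LD1_c5 LD2_c28 LD3_c36)) = (LP (LK LD1_c5 LD2_c35 LD3_c6)) :=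
  Lgr Lrot29 (Lpr_bt (f167677 IH) (Lpr_et (K19.f181813 IH) (Lpr_bt (f181815 IH) (Lpn (LP (LK LD1_c5 LD2_c35 LD3_c6))))))
theorem f181864 : Led Lsl_dt (LP (LK LD1_c2 LD2_c43 LD3_c27)) = (LP (LK LD1_c5 LD2_c35 LD3_c6)) :=
  Lre_d IH (LK LD1_c2 LD2_c43 LD3_c27) (LK LD1_c5 LD2_c35 LD3_c6) Lrfl Lrfl
theorem f181865 : Led Lsl_et (LP (LK LD1_c5 LD2_c35 LD3_c7)) = (LP (LK LD1_c2 LD2_c43 LD3_c27)) :=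
  Lre_e IH (LK LD1_c5 LD2_c35 LD3_c7) (LK LD1_c2 LD2_c43 LD3_c27) Lrfl Lrfl
theorem f324175 : Led Lsl_dt (LP (LK LD1_c4 LD2_c9 LD3_c26)) = (LP (LK LD1_c5 LD2_c35 LD3_c7)) :=
  Lgr Lrot77 (Lpe (f250670 IH) (Lpr_df (f323468 IH) (Lpr_ef (f181816 IH) (Lpe (f181864 IH) (Lpe (f181865 IH) (Lpn (LP (LK LD1_c5 LD2_c35 LD3_c7))))))))
theorem f323470 : Led Lsl_et (LP (LK LD1_c4 LD2_c9 LD3_c26)) = (LP (LK LD1_c8 LD2_c18 LD3_c56)) :=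
  Lre_e IH (LK LD1_c4 LD2_c9 LD3_c26) (LK LD1_c8 LD2_c18 LD3_c56) Lrfl Lrfl
theorem f263148 : Led Lsl_et (LP (LK LD1_c0 LD2_c35 LD3_c43)) = (LP (LK LD1_c1 LD2_c17 LD3_c13)) :=
  Lre_e IH (LK LD1_c0 LD2_c35 LD3_c43) (LK LD1_c1 LD2_c17 LD3_c13) Lrfl Lrfl
theorem f263150 : Led Lsl_df (LP (LK LD1_c2 LD2_c40 LD3_c60)) = (LP (LK LD1_c4 LD2_c15 LD3_c38)) :=
  Lgr Lrot70 (Lpr_et (K17.f222646 IH) (Lpr_dt (K20.f222641 IH) (Lpr_et (f263148 IH) (Lpr_dt (K15.f263140 IH) (Lpr_et (K18.f263149 IH) (Lpn (LP (LK LD1_c4 LD2_c15 LD3_c38))))))))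
theorem f243387 : Led Lsl_et (LP (LK LD1_c4 LD2_c15 LD3_c38)) = (LP (LK LD1_c2 LD2_c5 LD3_c10)) :=
  Lre_e IH (LK LD1_c4 LD2_c15 LD3_c38) (LK LD1_c2 LD2_c5 LD3_c10) Lrfl Lrfl
theorem f323471 : Led Lsl_gt (LP (LK LD1_c2 LD2_c41 LD3_c15)) = (LP (LK LD1_c5 LD2_c28 LD3_c36)) :=
  Lgr Lrot112 (Lpe (f220704 IH) (Lpr_et (K14.f220572 IH) (Lpe (K15.f243355 IH) (Lpe (f243387 IH) (Lpe (f263150 IH) (Lpe (f323369 IH) (Lpe (K20.f1409 IH) (Lpe (f250669 IH) (Lpe (f250670 IH) (Lpr_dt (f323465 IH) (Lpn (LP (LK LD1_c5 LD2_c28 LD3_c36)))))))))))))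
theorem f323473 : Led Lsl_gf (LP (LK LD1_c8 LD2_c55 LD3_c46)) = (LP (LK LD1_c5 LD2_c28 LD3_c36)) :=
  Lgr Lrot76 (Lpr_af (K15.f262047 IH) (Lpe (K15.f220684 IH) (Lpr_gt (f323471 IH) (Lpn (LP (LK LD1_c5 LD2_c28 LD3_c36))))))
theorem f296400 : Led Lsl_et (LP (LK LD1_c8 LD2_c29 LD3_c45)) = (LP (LK LD1_c4 LD2_c15 LD3_c49)) :=
  Lgr Lrot74 (Lpe (K13.f197650 IH) (Lpr_ef (K18.f296396 IH) (Lpe (K13.f243115 IH) (Lpn (LP (LK LD1_c4 LD2_c15 LD3_c49))))))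
theorem f287643 : Led Lsl_ft (LP (LK LD1_c4 LD2_c15 LD3_c49)) = (LP (LK LD1_c2 LD2_c5 LD3_c13)) :=
  Lre_f IH (LK LD1_c4 LD2_c15 LD3_c49) (LK LD1_c2 LD2_c5 LD3_c13) Lrfl Lrfl
theorem f287644 : Led Lsl_gf (LP (LK LD1_c8 LD2_c29 LD3_c39)) = (LP (LK LD1_c4 LD2_c15 LD3_c49)) :=
  Lgr Lrot47 (Lpr_gt (K10.f48295 IH) (Lpr_af (K17.f287639 IH) (Lpe (f287643 IH) (Lpn (LP (LK LD1_c4 LD2_c15 LD3_c49))))))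
theorem f48314 : Led Lsl_dt (LP (LK LD1_c8 LD2_c16 LD3_c30)) = (LP (LK LD1_c5 LD2_c17 LD3_c36)) :=
  Lgr Lrot42 (Lpr_df (K10.f48311 IH) (Lpn (LP (LK LD1_c5 LD2_c17 LD3_c36))))
theorem f47671 : Led Lsl_et (LP (LK LD1_c15 LD2_c33 LD3_c35)) = (LP (LK LD1_c8 LD2_c16 LD3_c30)) :=
  Lre_e IH (LK LD1_c15 LD2_c33 LD3_c35) (LK LD1_c8 LD2_c16 LD3_c30) Lrfl Lrfl
theorem f48947 : Led Lsl_dt (LP (LK LD1_c15 LD2_c41 LD3_c17)) = (LP (LK LD1_c15 LD2_c33 LD3_c35)) :=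
  Lre_d IH (LK LD1_c15 LD2_c41 LD3_c17) (LK LD1_c15 LD2_c33 LD3_c35) Lrfl Lrfl
theorem f48948 : Led Lsl_ef (LP (LK LD1_c15 LD2_c41 LD3_c17)) = (LP (LK LD1_c8 LD2_c29 LD3_c39)) :=
  Lgr Lrot73 (Lpr_dt (f48947 IH) (Lpr_et (f47671 IH) (Lpr_dt (f48314 IH) (Lpe (K10.f48306 IH) (Lpe (K10.f48296 IH) (Lpn (LP (LK LD1_c8 LD2_c29 LD3_c39))))))))
theorem f48960 : Led Lsl_et (LP (LK LD1_c15 LD2_c41 LD3_c17)) = (LP (LK LD1_c8 LD2_c29 LD3_c39)) :=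
  Lgr Lrot87 (Lpr_ef (f48948 IH) (Lpn (LP (LK LD1_c8 LD2_c29 LD3_c39))))
theorem f48316 : Led Lsl_et (LP (LK LD1_c8 LD2_c16 LD3_c30)) = (LP (LK LD1_c15 LD2_c33 LD3_c35)) :=
  Lre_e IH (LK LD1_c8 LD2_c16 LD3_c30) (LK LD1_c15 LD2_c33 LD3_c35) Lrfl Lrfl
theorem f1362 : Led Lsl_dt (LP (LK LD1_c8 LD2_c32 LD3_c38)) = (LP (LK LD1_c4 LD2_c16 LD3_c40)) :=
  Lre_d IH (LK LD1_c8 LD2_c32 LD3_c38) (LK LD1_c4 LD2_c16 LD3_c40) Lrfl Lrfl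
theorem f48951 : Led Lsl_gt (LP (LK LD1_c15 LD2_c33 LD3_c35)) = (LP (LK LD1_c8 LD2_c32 LD3_c38)) :=
  Lgr Lrot137 (Lpe (f48316 IH) (Lpr_dt (f48314 IH) (Lpe (K10.f48299 IH) (Lpe (K15.f48245 IH) (Lpr_et (K15.f805 IH) (Lpe (K10.f27367 IH) (Lpe (K18.f1369 IH) (Lpe (K17.f27336 IH) (Lpe (K17.f1347 IH) (Lpe (f1362 IH) (Lpn (LP (LK LD1_c8 LD2_c32 LD3_c38)))))))))))))
theorem f1350 : Led Lsl_dt (LP (LK LD1_c4 LD2_c16 LD3_c40)) = (LP (LK LD1_c8 LD2_c32 LD3_c38)) :=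
  Lre_d IH (LK LD1_c4 LD2_c16 LD3_c40) (LK LD1_c8 LD2_c32 LD3_c38) Lrfl Lrfl
theorem f48958 : Led Lsl_et (LP (LK LD1_c4 LD2_c16 LD3_c40)) = (LP (LK LD1_c8 LD2_c32 LD3_c39)) :=
  Lre_e IH (LK LD1_c4 LD2_c16 LD3_c40) (LK LD1_c8 LD2_c32 LD3_c39) Lrfl Lrfl
theorem f324156 : Led Lsl_gt (LP (LK LD1_c8 LD2_c32 LD3_c39)) = (LP (LK LD1_c8 LD2_c18 LD3_c56)) :=
  Lgr Lrot137 (Lpe (f48958 IH) (Lpr_dt (f1350 IH) (Lpe (f48951 IH) (Lpe (f48947 IH) (Lpr_et (f48960 IH) (Lpr_gf (f287644 IH) (Lpe (f296400 IH) (Lpr_dt (K13.f197603 IH) (Lpr_gf (f323473 IH) (Lpe (f323465 IH) (Lpn (LP (LK LD1_c8 LD2_c18 LD3_c56)))))))))))))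
theorem f1377 : Led Lsl_gt (LP (LK LD1_c8 LD2_c20 LD3_c6)) = (LP (LK LD1_c15 LD2_c41 LD3_c17)) :=
  Lre_g IH (LK LD1_c8 LD2_c20 LD3_c6) (LK LD1_c15 LD2_c41 LD3_c17) Lrfl Lrfl
theorem f236162 : Led Lsl_dt (LP (LK LD1_c5 LD2_c30 LD3_c14)) = (LP (LK LD1_c10 LD2_c51 LD3_c53)) :=
  Lre_d IH (LK LD1_c5 LD2_c30 LD3_c14) (LK LD1_c10 LD2_c51 LD3_c53) Lrfl Lrfl
theorem f324179 : Led Lsl_gf (LP (LK LD1_c10 LD2_c51 LD3_c53)) = (LP (LK LD1_c5 LD2_c35 LD3_c7)) :=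
  Lgr Lrot145 (Lpe (f236162 IH) (Lpe (K14.f250648 IH) (Lpr_gt (f1377 IH) (Lpr_dt (f48947 IH) (Lpr_gt (f48951 IH) (Lpe (f1350 IH) (Lpr_et (f48958 IH) (Lpr_gt (f324156 IH) (Lpe (f323470 IH) (Lpr_dt (f324175 IH) (Lpn (LP (LK LD1_c5 LD2_c35 LD3_c7)))))))))))))
theorem f295761 : Led Lsl_gt (LP (LK LD1_c5 LD2_c30 LD3_c14)) = (LP (LK LD1_c8 LD2_c30 LD3_c16)) :=
  Lgr Lrot137 (Lpe (K14.f250640 IH) (Lpr_dt (K14.f1374 IH) (Lpe (K14.f1370 IH) (Lpe (K17.f27324 IH) (Lpr_et (K1.f555 IH) (Lpe (K12.f51409 IH) (Lpe (K13.f1328 IH) (Lpr_dt (K13.f236195 IH) (Lpe (K18.f222655 IH) (Lpr_df (K18.f295741 IH) (Lpn (LP (LK LD1_c8 LD2_c30 LD3_c16)))))))))))))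
theorem f222653 : Led Lsl_et (LP (LK LD1_c5 LD2_c29 LD3_c29)) = (LP (LK LD1_c8 LD2_c6 LD3_c7)) :=
  Lgr Lrot87 (Lpr_ef (K17.f222649 IH) (Lpn (LP (LK LD1_c8 LD2_c6 LD3_c7))))
theorem f181871 : Led Lsl_et (LP (LK LD1_c2 LD2_c43 LD3_c27)) = (LP (LK LD1_c5 LD2_c35 LD3_c7)) :=
  Lre_e IH (LK LD1_c2 LD2_c43 LD3_c27) (LK LD1_c5 LD2_c35 LD3_c7) Lrfl Lrfl
theorem f181872 : Led Lsl_gt (LP (LK LD1_c11 LD2_c2 LD3_c26)) = (LP (LK LD1_c5 LD2_c35 LD3_c6)) :=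
  Lre_g IH (LK LD1_c11 LD2_c2 LD3_c26) (LK LD1_c5 LD2_c35 LD3_c6) Lrfl Lrfl
theorem f258553 : Led Lsl_df (LP (LK LD1_c2 LD2_c4 LD3_c51)) = (LP (LK LD1_c1 LD2_c17 LD3_c45)) :=
  Lgr Lrot78 (Lpr_ft (K15.f258551 IH) (Lpr_dt (K13.f33100 IH) (Lpr_ft (K12.f213233 IH) (Lpn (LP (LK LD1_c1 LD2_c17 LD3_c45))))))
theorem f181866 : Led Lsl_dt (LP (LK LD1_c5 LD2_c35 LD3_c6)) = (LP (LK LD1_c2 LD2_c43 LD3_c27)) :=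
  Lre_d IH (LK LD1_c5 LD2_c35 LD3_c6) (LK LD1_c2 LD2_c43 LD3_c27) Lrfl Lrfl
theorem f323480 : Led Lsl_gf (LP (LK LD1_c4 LD2_c2 LD3_c56)) = (LP (LK LD1_c2 LD2_c43 LD3_c27)) :=
  Lgr Lrot145 (Lpr_df (K9.f27984 IH) (Lpr_et (K12.f28090 IH) (Lpr_gt (K15.f258591 IH) (Lpe (f258553 IH) (Lpe (K15.f257932 IH) (Lpe (K13.f220568 IH) (Lpr_et (K14.f220570 IH) (Lpr_gt (f323471 IH) (Lpr_ef (f181816 IH) (Lpr_dt (f181866 IH) (Lpn (LP (LK LD1_c2 LD2_c43 LD3_c27)))))))))))))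
theorem f213268 : Led Lsl_et (LP (LK LD1_c2 LD2_c42 LD3_c18)) = (LP (LK LD1_c1 LD2_c17 LD3_c45)) :=
  Lre_e IH (LK LD1_c2 LD2_c42 LD3_c18) (LK LD1_c1 LD2_c17 LD3_c45) Lrfl Lrfl
theorem f54369 : Led Lsl_gt (LP (LK LD1_c4 LD2_c14 LD3_c56)) = (LP (LK LD1_c8 LD2_c28 LD3_c43)) :=
  Lre_g IH (LK LD1_c4 LD2_c14 LD3_c56) (LK LD1_c8 LD2_c28 LD3_c43) Lrfl Lrfl
theorem f257365 : Led Lsl_dt (LP (LK LD1_c8 LD2_c57 LD3_c56)) = (LP (LK LD1_c4 LD2_c29 LD3_c52)) :=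
  Lre_d IH (LK LD1_c8 LD2_c57 LD3_c56) (LK LD1_c4 LD2_c29 LD3_c52) Lrfl Lrfl
theorem f217967 : Led Lsl_gt (LP (LK LD1_c16 LD2_c46 LD3_c46)) = (LP (LK LD1_c8 LD2_c57 LD3_c56)) :=
  Lre_g IH (LK LD1_c16 LD2_c46 LD3_c46) (LK LD1_c8 LD2_c57 LD3_c56) Lrfl Lrfl
theorem f257359 : Led Lsl_gf (LP (LK LD1_c8 LD2_c28 LD3_c41)) = (LP (LK LD1_c11 LD2_c55 LD3_c5)) :=
  Lgr Lrot47 (Lpe (K15.f231913 IH) (Lpe (K15.f252367 IH) (Lpr_ff (K15.f257203 IH) (Lpn (LP (LK LD1_c11 LD2_c55 LD3_c5))))))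
theorem f231920 : Led Lsl_et (LP (LK LD1_c4 LD2_c14 LD3_c55)) = (LP (LK LD1_c8 LD2_c28 LD3_c42)) :=
  Lre_e IH (LK LD1_c4 LD2_c14 LD3_c55) (LK LD1_c8 LD2_c28 LD3_c42) Lrfl Lrfl
theorem f231739 : Led Lsl_gt (LP (LK LD1_c8 LD2_c28 LD3_c42)) = (LP (LK LD1_c15 LD2_c55 LD3_c8)) :=
  Lre_g IH (LK LD1_c8 LD2_c28 LD3_c42) (LK LD1_c15 LD2_c55 LD3_c8) Lrfl Lrfl
theorem f217958 : Led Lsl_dt (LP (LK LD1_c4 LD2_c29 LD3_c52)) = (LP (LK LD1_c8 LD2_c57 LD3_c56)) :=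
  Lre_d IH (LK LD1_c4 LD2_c29 LD3_c52) (LK LD1_c8 LD2_c57 LD3_c56) Lrfl Lrfl
theorem f257361 : Led Lsl_dt (LP (LK LD1_c15 LD2_c55 LD3_c8)) = (LP (LK LD1_c16 LD2_c46 LD3_c46)) :=
  Lgr Lrot171 (Lpe (f231739 IH) (Lpe (f231920 IH) (Lpr_dt (K15.f231868 IH) (Lpr_gf (f257359 IH) (Lpr_df (K17.f252511 IH) (Lpr_et (K11.f183724 IH) (Lpr_gf (K12.f217947 IH) (Lpe (K16.f217957 IH) (Lpr_dt (f217958 IH) (Lpe (f217967 IH) (Lpn (LP (LK LD1_c16 LD2_c46 LD3_c46)))))))))))))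
theorem f192541 : Led Lsl_gt (LP (LK LD1_c6 LD2_c5 LD3_c34)) = (LP (LK LD1_c2 LD2_c58 LD3_c52)) :=
  Lre_g IH (LK LD1_c6 LD2_c5 LD3_c34) (LK LD1_c2 LD2_c58 LD3_c52) Lrfl Lrfl
theorem f264456 : Led Lsl_dt (LP (LK LD1_c8 LD2_c28 LD3_c43)) = (LP (LK LD1_c6 LD2_c5 LD3_c34)) :=
  Lgr Lrot57 (Lpe (f54369 IH) (Lpe (K17.f231727 IH) (Lpr_gt (f231739 IH) (Lpr_dt (f257361 IH) (Lpr_gt (f217967 IH) (Lpr_dt (f257365 IH) (Lpe (K20.f257366 IH) (Lpr_df (K15.f264443 IH) (Lpe (f192541 IH) (Lpn (LP (LK LD1_c6 LD2_c5 LD3_c34))))))))))))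
theorem f264468 : Led Lsl_df (LP (LK LD1_c8 LD2_c28 LD3_c43)) = (LP (LK LD1_c6 LD2_c5 LD3_c34)) :=
  Lgr Lrot38 (Lpr_dt (f264456 IH) (Lpn (LP (LK LD1_c6 LD2_c5 LD3_c34))))
theorem f323493 : Led Lsl_et (LP (LK LD1_c6 LD2_c5 LD3_c34)) = (LP (LK LD1_c11 LD2_c2 LD3_c26)) :=
  Lgr Lrot121 (Lpe (f264468 IH) (Lpe (f54369 IH) (Lpe (K15.f258689 IH) (Lpr_et (f213268 IH) (Lpe (K15.f258591 IH) (Lpe (K12.f28090 IH) (Lpe (K9.f27984 IH) (Lpr_gf (f323480 IH) (Lpe (f181866 IH) (Lpe (f181872 IH) (Lpn (LP (LK LD1_c11 LD2_c2 LD3_c26)))))))))))))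
theorem f323499 : Led Lsl_ef (LP (LK LD1_c6 LD2_c5 LD3_c34)) = (LP (LK LD1_c11 LD2_c2 LD3_c26)) :=
  Lgr Lrot88 (Lpr_et (f323493 IH) (Lpn (LP (LK LD1_c11 LD2_c2 LD3_c26))))
theorem f262813 : Led Lsl_gt (LP (LK LD1_c0 LD2_c34 LD3_c22)) = (LP (LK LD1_c0 LD2_c35 LD3_c33)) :=
  Lgr Lrot82 (Lpe (K8.f33510 IH) (Lpe (K10.f53954 IH) (Lpe (K12.f199181 IH) (Lpe (K12.f192818 IH) (Lpr_bt (K12.f192817 IH) (Lpr_gf (K10.f193322 IH) (Lpe (K15.f27479 IH) (Lpr_ct (K10.f27357 IH) (Lpe (K10.f27368 IH) (Lpr_cf (K15.f262795 IH) (Lpn (LP (LK LD1_c0 LD2_c35 LD3_c33)))))))))))))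
theorem f264472 : Led Lsl_gt (LP (LK LD1_c2 LD2_c40 LD3_c8)) = (LP (LK LD1_c5 LD2_c27 LD3_c33)) :=
  Lre_g IH (LK LD1_c2 LD2_c40 LD3_c8) (LK LD1_c5 LD2_c27 LD3_c33) Lrfl Lrfl
theorem f264473 : Led Lsl_et (LP (LK LD1_c8 LD2_c28 LD3_c43)) = (LP (LK LD1_c5 LD2_c27 LD3_c33)) :=
  Lgr Lrot122 (Lpr_dt (f264456 IH) (Lpr_gt (f192541 IH) (Lpe (K17.f264454 IH) (Lpr_et (K15.f218137 IH) (Lpe (K12.f218133 IH) (Lpr_dt (K10.f33436 IH) (Lpr_gt (f262813 IH) (Lpe (K15.f244842 IH) (Lpr_et (K17.f244843 IH) (Lpr_gt (f264472 IH) (Lpn (LP (LK LD1_c5 LD2_c27 LD3_c33)))))))))))))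
theorem f264478 : Led Lsl_ef (LP (LK LD1_c8 LD2_c28 LD3_c43)) = (LP (LK LD1_c5 LD2_c27 LD3_c33)) :=
  Lgr Lrot88 (Lpr_et (f264473 IH) (Lpn (LP (LK LD1_c5 LD2_c27 LD3_c33))))
theorem f197551 : Led Lsl_gt (LP (LK LD1_c4 LD2_c28 LD3_c53)) = (LP (LK LD1_c2 LD2_c11 LD3_c27)) :=
  Lre_g IH (LK LD1_c4 LD2_c28 LD3_c53) (LK LD1_c2 LD2_c11 LD3_c27) Lrfl Lrfl
theorem f264484 : Led Lsl_df (LP (LK LD1_c4 LD2_c28 LD3_c53)) = (LP (LK LD1_c5 LD2_c27 LD3_c33)) :=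
  Lgr Lrot170 (Lpr_gt (f197551 IH) (Lpe (K19.f197523 IH) (Lpr_et (K18.f183500 IH) (Lpr_gt (K9.f183491 IH) (Lpr_dt (K1.f45131 IH) (Lpr_gt (K9.f45399 IH) (Lpe (K15.f49082 IH) (Lpr_et (K17.f54368 IH) (Lpr_gt (f54369 IH) (Lpr_ef (f264478 IH) (Lpn (LP (LK LD1_c5 LD2_c27 LD3_c33)))))))))))))
theorem f264489 : Led Lsl_et (LP (LK LD1_c4 LD2_c28 LD3_c53)) = (LP (LK LD1_c8 LD2_c56 LD3_c5)) :=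
  Lre_e IH (LK LD1_c4 LD2_c28 LD3_c53) (LK LD1_c8 LD2_c56 LD3_c5) Lrfl Lrfl
theorem f323503 : Led Lsl_dt (LP (LK LD1_c8 LD2_c56 LD3_c5)) = (LP (LK LD1_c11 LD2_c2 LD3_c26)) :=
  Lgr Lrot77 (Lpe (f264489 IH) (Lpr_df (f264484 IH) (Lpe (f264473 IH) (Lpr_df (f264468 IH) (Lpr_ef (f323499 IH) (Lpn (LP (LK LD1_c11 LD2_c2 LD3_c26))))))))
theorem f197581 : Led Lsl_et (LP (LK LD1_c8 LD2_c56 LD3_c5)) = (LP (LK LD1_c4 LD2_c28 LD3_c53)) :=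
  Lre_e IH (LK LD1_c8 LD2_c56 LD3_c5) (LK LD1_c4 LD2_c28 LD3_c53) Lrfl Lrfl
theorem f324185 : Led Lsl_gt (LP (LK LD1_c8 LD2_c6 LD3_c7)) = (LP (LK LD1_c4 LD2_c28 LD3_c53)) :=
  Lgr Lrot131 (Lpe (f222653 IH) (Lpr_dt (K18.f295738 IH) (Lpe (f295761 IH) (Lpe (K14.f236154 IH) (Lpr_gf (f324179 IH) (Lpe (f181871 IH) (Lpr_dt (f181864 IH) (Lpe (f181872 IH) (Lpe (f323503 IH) (Lpr_et (f197581 IH) (Lpn (LP (LK LD1_c4 LD2_c28 LD3_c53)))))))))))))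
theorem f231608 : Led Lsl_ft (LP (LK LD1_c8 LD2_c28 LD3_c51)) = (LP (LK LD1_c4 LD2_c14 LD3_c58)) :=
  Lre_f IH (LK LD1_c8 LD2_c28 LD3_c51) (LK LD1_c4 LD2_c14 LD3_c58) Lrfl Lrfl
theorem f231610 : Led Lsl_bf (LP (LK LD1_c8 LD2_c28 LD3_c51)) = (LP (LK LD1_c8 LD2_c15 LD3_c21)) :=
  Lgr Lrot61 (Lpr_ft (f231608 IH) (Lpr_bt (K18.f231598 IH) (Lpr_ft (K17.f231609 IH) (Lpn (LP (LK LD1_c8 LD2_c15 LD3_c21))))))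
theorem f231617 : Led Lsl_bt (LP (LK LD1_c8 LD2_c28 LD3_c51)) = (LP (LK LD1_c8 LD2_c15 LD3_c21)) :=
  Lgr Lrot127 (Lpr_bf (f231610 IH) (Lpn (LP (LK LD1_c8 LD2_c15 LD3_c21))))
theorem f283010 : Led Lsl_ef (LP (LK LD1_c8 LD2_c28 LD3_c51)) = (LP (LK LD1_c8 LD2_c29 LD3_c18)) :=
  Lgr Lrot29 (Lpr_bt (f231617 IH) (Lpr_et (K17.f283008 IH) (Lpe (K18.f190068 IH) (Lpn (LP (LK LD1_c8 LD2_c29 LD3_c18))))))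
theorem f264808 : Led Lsl_gf (LP (LK LD1_c5 LD2_c25 LD3_c60)) = (LP (LK LD1_c8 LD2_c28 LD3_c43)) :=
  Lgr Lrot76 (Lpr_af (K15.f264782 IH) (Lpe (K15.f231748 IH) (Lpr_gt (f54369 IH) (Lpn (LP (LK LD1_c8 LD2_c28 LD3_c43))))))
theorem f264618 : Led Lsl_bt (LP (LK LD1_c2 LD2_c39 LD3_c29)) = (LP (LK LD1_c5 LD2_c25 LD3_c60)) :=
  Lre_b IH (LK LD1_c2 LD2_c39 LD3_c29) (LK LD1_c5 LD2_c25 LD3_c60) Lrfl Lrfl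
theorem f264599 : Led Lsl_bt (LP (LK LD1_c2 LD2_c42 LD3_c26)) = (LP (LK LD1_c1 LD2_c17 LD3_c53)) :=
  Lre_b IH (LK LD1_c2 LD2_c42 LD3_c26) (LK LD1_c1 LD2_c17 LD3_c53) Lrfl Lrfl
theorem f264619 : Led Lsl_dt (LP (LK LD1_c5 LD2_c25 LD3_c60)) = (LP (LK LD1_c2 LD2_c42 LD3_c26)) :=
  Lgr Lrot79 (Lpe (f264618 IH) (Lpr_df (K15.f264609 IH) (Lpe (f264599 IH) (Lpn (LP (LK LD1_c2 LD2_c42 LD3_c26))))))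
theorem f261425 : Led Lsl_dt (LP (LK LD1_c5 LD2_c29 LD3_c51)) = (LP (LK LD1_c10 LD2_c50 LD3_c59)) :=
  Lre_d IH (LK LD1_c5 LD2_c29 LD3_c51) (LK LD1_c10 LD2_c50 LD3_c59) Lrfl Lrfl
theorem f282990 : Led Lsl_et (LP (LK LD1_c2 LD2_c34 LD3_c42)) = (LP (LK LD1_c5 LD2_c15 LD3_c41)) :=
  Lre_e IH (LK LD1_c2 LD2_c34 LD3_c42) (LK LD1_c5 LD2_c15 LD3_c41) Lrfl Lrfl
theorem f220178 : Led Lsl_dt (LP (LK LD1_c6 LD2_c6 LD3_c1)) = (LP (LK LD1_c11 LD2_c55 LD3_c32)) :=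
  Lre_d IH (LK LD1_c6 LD2_c6 LD3_c1) (LK LD1_c11 LD2_c55 LD3_c32) Lrfl Lrfl
theorem f285593 : Led Lsl_gf (LP (LK LD1_c10 LD2_c50 LD3_c59)) = (LP (LK LD1_c11 LD2_c55 LD3_c32)) :=
  Lgr Lrot134 (Lpe (f261425 IH) (Lpr_et (f285587 IH) (Lpr_gt (f260604 IH) (Lpe (f282990 IH) (Lpr_dt (K16.f49902 IH) (Lpr_gt (K14.f253965 IH) (Lpr_df (K14.f251267 IH) (Lpr_et (K17.f220166 IH) (Lpr_gt (K17.f220172 IH) (Lpr_dt (f220178 IH) (Lpn (LP (LK LD1_c11 LD2_c55 LD3_c32)))))))))))))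
theorem f285597 : Led Lsl_gt (LP (LK LD1_c2 LD2_c39 LD3_c39)) = (LP (LK LD1_c5 LD2_c26 LD3_c27)) :=
  Lre_g IH (LK LD1_c2 LD2_c39 LD3_c39) (LK LD1_c5 LD2_c26 LD3_c27) Lrfl Lrfl
theorem f285598 : Led Lsl_dt (LP (LK LD1_c10 LD2_c44 LD3_c8)) = (LP (LK LD1_c5 LD2_c26 LD3_c27)) :=
  Lre_d IH (LK LD1_c10 LD2_c44 LD3_c8) (LK LD1_c5 LD2_c26 LD3_c27) Lrfl Lrfl
theorem f285599 : Led Lsl_et (LP (LK LD1_c10 LD2_c44 LD3_c8)) = (LP (LK LD1_c11 LD2_c55 LD3_c32)) :=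
  Lgr Lrot121 (Lpr_dt (f285598 IH) (Lpe (f285597 IH) (Lpr_df (K18.f245919 IH) (Lpr_et (K18.f840 IH) (Lpr_gf (K13.f243274 IH) (Lpe (K14.f220572 IH) (Lpr_dt (f220704 IH) (Lpe (f220687 IH) (Lpe (f220716 IH) (Lpr_gf (f285593 IH) (Lpn (LP (LK LD1_c11 LD2_c55 LD3_c32)))))))))))))
theorem f285603 : Led Lsl_dt (LP (LK LD1_c5 LD2_c26 LD3_c27)) = (LP (LK LD1_c10 LD2_c44 LD3_c8)) :=
  Lre_d IH (LK LD1_c5 LD2_c26 LD3_c27) (LK LD1_c10 LD2_c44 LD3_c8) Lrfl Lrfl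
theorem f220185 : Led Lsl_dt (LP (LK LD1_c11 LD2_c55 LD3_c32)) = (LP (LK LD1_c6 LD2_c6 LD3_c1)) :=
  Lre_d IH (LK LD1_c11 LD2_c55 LD3_c32) (LK LD1_c6 LD2_c6 LD3_c1) Lrfl Lrfl
theorem f282450 : Led Lsl_ef (LP (LK LD1_c5 LD2_c32 LD3_c12)) = (LP (LK LD1_c6 LD2_c6 LD3_c1)) :=
  Lgr Lrot88 (Lpr_et (K17.f282445 IH) (Lpn (LP (LK LD1_c6 LD2_c6 LD3_c1))))
theorem f285604 : Led Lsl_ef (LP (LK LD1_c5 LD2_c26 LD3_c27)) = (LP (LK LD1_c8 LD2_c57 LD3_c46)) :=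
  Lgr Lrot73 (Lpr_dt (f285603 IH) (Lpr_et (f285599 IH) (Lpr_dt (f220185 IH) (Lpe (f282450 IH) (Lpr_dt (K17.f263038 IH) (Lpn (LP (LK LD1_c8 LD2_c57 LD3_c46))))))))
theorem f324187 : Led Lsl_gf (LP (LK LD1_c8 LD2_c28 LD3_c51)) = (LP (LK LD1_c5 LD2_c26 LD3_c27)) :=
  Lgr Lrot141 (Lpr_ef (f283010 IH) (Lpe (K18.f282969 IH) (Lpr_gt (f324185 IH) (Lpr_df (f264484 IH) (Lpe (f264478 IH) (Lpe (f264808 IH) (Lpr_dt (f264619 IH) (Lpr_gt (K17.f263046 IH) (Lpr_df (K17.f263033 IH) (Lpe (f285604 IH) (Lpn (LP (LK LD1_c5 LD2_c26 LD3_c27)))))))))))))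
theorem f324189 : Led Lsl_af (LP (LK LD1_c8 LD2_c28 LD3_c51)) = (LP (LK LD1_c5 LD2_c26 LD3_c29)) :=
  Lgr Lrot31 (Lpr_gf (f324187 IH) (Lpe (f285597 IH) (Lpr_ft (K18.f285736 IH) (Lpn (LP (LK LD1_c5 LD2_c26 LD3_c29))))))
theorem f231619 : Led Lsl_ct (LP (LK LD1_c8 LD2_c28 LD3_c51)) = (LP (LK LD1_c15 LD2_c55 LD3_c23)) :=
  Lre_c IH (LK LD1_c8 LD2_c28 LD3_c51) (LK LD1_c15 LD2_c55 LD3_c23) Lrfl Lrfl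
theorem f324191 : Led Lsl_at (LP (LK LD1_c15 LD2_c55 LD3_c23)) = (LP (LK LD1_c10 LD2_c44 LD3_c6)) :=
  Lgr Lrot107 (Lpe (f231619 IH) (Lpr_af (f324189 IH) (Lpe (K18.f245995 IH) (Lpn (LP (LK LD1_c10 LD2_c44 LD3_c6))))))
theorem f245130 : Led Lsl_dt (LP (LK LD1_c10 LD2_c44 LD3_c6)) = (LP (LK LD1_c19 LD2_c25 LD3_c37)) :=
  Lre_d IH (LK LD1_c10 LD2_c44 LD3_c6) (LK LD1_c19 LD2_c25 LD3_c37) Lrfl Lrfl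
theorem f324195 : Led Lsl_df (LP (LK LD1_c15 LD2_c55 LD3_c23)) = (LP (LK LD1_c19 LD2_c30 LD3_c4)) :=
  Lgr Lrot18 (Lpr_at (f324191 IH) (Lpr_dt (f245130 IH) (Lpe (K17.f245102 IH) (Lpn (LP (LK LD1_c19 LD2_c30 LD3_c4))))))
theorem f231622 : Led Lsl_ct (LP (LK LD1_c15 LD2_c55 LD3_c23)) = (LP (LK LD1_c8 LD2_c28 LD3_c51)) :=
  Lre_c IH (LK LD1_c15 LD2_c55 LD3_c23) (LK LD1_c8 LD2_c28 LD3_c51) Lrfl Lrfl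
theorem f283016 : Led Lsl_et (LP (LK LD1_c8 LD2_c28 LD3_c51)) = (LP (LK LD1_c8 LD2_c29 LD3_c18)) :=
  Lgr Lrot74 (Lpr_bf (f231610 IH) (Lpr_ef (K17.f283014 IH) (Lpe (K18.f190061 IH) (Lpn (LP (LK LD1_c8 LD2_c29 LD3_c18))))))
theorem f295767 : Led Lsl_dt (LP (LK LD1_c8 LD2_c16 LD3_c35)) = (LP (LK LD1_c8 LD2_c28 LD3_c51)) :=
  Lgr Lrot77 (Lpr_ef (K18.f295763 IH) (Lpe (K18.f295738 IH) (Lpr_ef (K17.f222649 IH) (Lpr_df (K18.f282969 IH) (Lpe (f283016 IH) (Lpn (LP (LK LD1_c8 LD2_c28 LD3_c51))))))))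
theorem f236039 : Led Lsl_ct (LP (LK LD1_c5 LD2_c27 LD3_c41)) = (LP (LK LD1_c10 LD2_c46 LD3_c30)) :=
  Lre_c IH (LK LD1_c5 LD2_c27 LD3_c41) (LK LD1_c10 LD2_c46 LD3_c30) Lrfl Lrfl
theorem f324203 : Led Lsl_gt (LP (LK LD1_c10 LD2_c46 LD3_c30)) = (LP (LK LD1_c5 LD2_c27 LD3_c52)) :=
  Lgr Lrot94 (Lpe (f236039 IH) (Lpr_gt (f235809 IH) (Lpr_dt (K19.f236010 IH) (Lpr_gt (K18.f236018 IH) (Lpr_dt (f295767 IH) (Lpe (f231622 IH) (Lpr_df (f324195 IH) (Lpe (K17.f245100 IH) (Lpe (K17.f245095 IH) (Lpn (LP (LK LD1_c5 LD2_c27 LD3_c52))))))))))))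
theorem f295834 : Led Lsl_ft (LP (LK LD1_c8 LD2_c30 LD3_c19)) = (LP (LK LD1_c8 LD2_c18 LD3_c24)) :=
  Lgr Lrot48 (Lpr_ff (K18.f295828 IH) (Lpn (LP (LK LD1_c8 LD2_c18 LD3_c24))))
theorem f298726 : Led Lsl_gt (LP (LK LD1_c8 LD2_c30 LD3_c19)) = (LP (LK LD1_c10 LD2_c50 LD3_c4)) :=
  Lgr Lrot5 (Lpr_ft (f295834 IH) (Lpe (K18.f295806 IH) (Lpr_gf (K18.f298724 IH) (Lpn (LP (LK LD1_c10 LD2_c50 LD3_c4))))))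
theorem f324208 : Led Lsl_gf (LP (LK LD1_c5 LD2_c27 LD3_c41)) = (LP (LK LD1_c8 LD2_c18 LD3_c29)) :=
  Lgr Lrot147 (Lpr_ct (f236039 IH) (Lpr_gt (f324203 IH) (Lpr_ct (K17.f245139 IH) (Lpe (K17.f286133 IH) (Lpe (K17.f213824 IH) (Lpe (f298726 IH) (Lpe (K18.f243296 IH) (Lpe (K20.f323212 IH) (Lpe (K20.f323216 IH) (Lpn (LP (LK LD1_c8 LD2_c18 LD3_c29))))))))))))
theorem f324211 : Led Lsl_ft (LP (LK LD1_c8 LD2_c18 LD3_c29)) = (LP (LK LD1_c4 LD2_c9 LD3_c12)) :=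
  Lre_f IH (LK LD1_c8 LD2_c18 LD3_c29) (LK LD1_c4 LD2_c9 LD3_c12) Lrfl Lrfl
theorem f324212 : Led Lsl_af (LP (LK LD1_c2 LD2_c40 LD3_c12)) = (LP (LK LD1_c4 LD2_c9 LD3_c12)) :=
  Lgr Lrot31 (Lpe (f235809 IH) (Lpr_gf (f324208 IH) (Lpr_ft (f324211 IH) (Lpn (LP (LK LD1_c4 LD2_c9 LD3_c12))))))
theorem f246259 : Led Lsl_et (LP (LK LD1_c2 LD2_c1 LD3_c58)) = (LP (LK LD1_c4 LD2_c9 LD3_c12)) :=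
  Lre_e IH (LK LD1_c2 LD2_c1 LD3_c58) (LK LD1_c4 LD2_c9 LD3_c12) Lrfl Lrfl
theorem f324223 : Led Lsl_at (LP (LK LD1_c1 LD2_c16 LD3_c51)) = (LP (LK LD1_c2 LD2_c1 LD3_c58)) :=
  Lgr Lrot80 (Lpe (K14.f235796 IH) (Lpr_af (f324212 IH) (Lpe (f246259 IH) (Lpn (LP (LK LD1_c2 LD2_c1 LD3_c58))))))
theorem f324227 : Led Lsl_ff (LP (LK LD1_c1 LD2_c16 LD3_c51)) = (LP (LK LD1_c2 LD2_c11 LD3_c40)) :=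
  Lgr Lrot52 (Lpr_at (f324223 IH) (Lpr_gf (K17.f282798 IH) (Lpe (K16.f247325 IH) (Lpn (LP (LK LD1_c2 LD2_c11 LD3_c40))))))
theorem f235803 : Led Lsl_ft (LP (LK LD1_c2 LD2_c40 LD3_c12)) = (LP (LK LD1_c5 LD2_c27 LD3_c42)) :=
  Lre_f IH (LK LD1_c2 LD2_c40 LD3_c12) (LK LD1_c5 LD2_c27 LD3_c42) Lrfl Lrfl
theorem f167760 : Led Lsl_et (LP (LK LD1_c4 LD2_c29 LD3_c6)) = (LP (LK LD1_c2 LD2_c11 LD3_c40)) :=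
  Lre_e IH (LK LD1_c4 LD2_c29 LD3_c6) (LK LD1_c2 LD2_c11 LD3_c40) Lrfl Lrfl
theorem f324235 : Led Lsl_et (LP (LK LD1_c5 LD2_c27 LD3_c42)) = (LP (LK LD1_c6 LD2_c5 LD3_c51)) :=
  Lgr Lrot69 (Lpe (f235803 IH) (Lpe (f235812 IH) (Lpr_ff (f324227 IH) (Lpe (f167760 IH) (Lpe (K20.f322848 IH) (Lpn (LP (LK LD1_c6 LD2_c5 LD3_c51))))))))
theorem f236012 : Led Lsl_ft (LP (LK LD1_c8 LD2_c16 LD3_c36)) = (LP (LK LD1_c4 LD2_c8 LD3_c16)) :=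
  Lre_f IH (LK LD1_c8 LD2_c16 LD3_c36) (LK LD1_c4 LD2_c8 LD3_c16) Lrfl Lrfl
theorem f236013 : Led Lsl_dt (LP (LK LD1_c5 LD2_c27 LD3_c42)) = (LP (LK LD1_c8 LD2_c16 LD3_c36)) :=
  Lgr Lrot60 (Lpe (f235803 IH) (Lpr_df (K19.f235999 IH) (Lpe (f236012 IH) (Lpn (LP (LK LD1_c8 LD2_c16 LD3_c36))))))
theorem f169557 : Led Lsl_et (LP (LK LD1_c1 LD2_c25 LD3_c13)) = (LP (LK LD1_c2 LD2_c59 LD3_c1)) :=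
  Lre_e IH (LK LD1_c1 LD2_c25 LD3_c13) (LK LD1_c2 LD2_c59 LD3_c1) Lrfl Lrfl
theorem f324245 : Led Lsl_gt (LP (LK LD1_c8 LD2_c16 LD3_c36)) = (LP (LK LD1_c4 LD2_c9 LD3_c11)) :=
  Lgr Lrot112 (Lpe (f236013 IH) (Lpr_et (f324235 IH) (Lpe (K20.f169526 IH) (Lpe (f169557 IH) (Lpr_dt (K9.f169517 IH) (Lpr_gf (K9.f183668 IH) (Lpe (K1.f45154 IH) (Lpe (K13.f45189 IH) (Lpe (K17.f45606 IH) (Lpr_dt (K17.f236268 IH) (Lpn (LP (LK LD1_c4 LD2_c9 LD3_c11)))))))))))))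
theorem f45600 : Led Lsl_et (LP (LK LD1_c4 LD2_c15 LD3_c18)) = (LP (LK LD1_c2 LD2_c5 LD3_c0)) :=
  Lre_e IH (LK LD1_c4 LD2_c15 LD3_c18) (LK LD1_c2 LD2_c5 LD3_c0) Lrfl Lrfl
theorem f310235 : Led Lsl_bt (LP (LK LD1_c1 LD2_c18 LD3_c8)) = (LP (LK LD1_c2 LD2_c43 LD3_c27)) :=
  Lre_b IH (LK LD1_c1 LD2_c18 LD3_c8) (LK LD1_c2 LD2_c43 LD3_c27) Lrfl Lrfl
theorem f7617 : Led Lsl_ct (LP (LK LD1_c1 LD2_c18 LD3_c8)) = (LP (LK LD1_c2 LD2_c43 LD3_c28)) :=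
  Lre_c IH (LK LD1_c1 LD2_c18 LD3_c8) (LK LD1_c2 LD2_c43 LD3_c28) Lrfl Lrfl
theorem f181811 : Led Lsl_dt (LP (LK LD1_c2 LD2_c2 LD3_c54)) = (LP (LK LD1_c2 LD2_c43 LD3_c30)) :=
  Lgr Lrot77 (Lpe (K19.f167665 IH) (Lpr_df (f167670 IH) (Lpr_ef (K15.f181800 IH) (Lpe (K19.f8597 IH) (Lpe (K19.f7629 IH) (Lpn (LP (LK LD1_c2 LD2_c43 LD3_c30))))))))
theorem f181868 : Led Lsl_ct (LP (LK LD1_c2 LD2_c43 LD3_c30)) = (LP (LK LD1_c5 LD2_c35 LD3_c9)) :=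
  Lre_c IH (LK LD1_c2 LD2_c43 LD3_c30) (LK LD1_c5 LD2_c35 LD3_c9) Lrfl Lrfl
theorem f181825 : Led Lsl_dt (LP (LK LD1_c11 LD2_c2 LD3_c29)) = (LP (LK LD1_c5 LD2_c35 LD3_c9)) :=
  Lre_d IH (LK LD1_c11 LD2_c2 LD3_c29) (LK LD1_c5 LD2_c35 LD3_c9) Lrfl Lrfl
theorem f245962 : Led Lsl_dt (LP (LK LD1_c2 LD2_c45 LD3_c47)) = (LP (LK LD1_c5 LD2_c39 LD3_c44)) :=
  Lre_d IH (LK LD1_c2 LD2_c45 LD3_c47) (LK LD1_c5 LD2_c39 LD3_c44) Lrfl Lrfl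
theorem f310218 : Led Lsl_gf (LP (LK LD1_c11 LD2_c2 LD3_c29)) = (LP (LK LD1_c5 LD2_c39 LD3_c44)) :=
  Lgr Lrot143 (Lpr_dt (f181825 IH) (Lpe (f181868 IH) (Lpe (f181811 IH) (Lpr_gf (K19.f310214 IH) (Lpe (K19.f310194 IH) (Lpe (K18.f167681 IH) (Lpe (K13.f167694 IH) (Lpe (K19.f306781 IH) (Lpr_dt (f245962 IH) (Lpn (LP (LK LD1_c5 LD2_c39 LD3_c44))))))))))))
theorem f181869 : Led Lsl_dt (LP (LK LD1_c5 LD2_c35 LD3_c9)) = (LP (LK LD1_c11 LD2_c2 LD3_c29)) :=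
  Lre_d IH (LK LD1_c5 LD2_c35 LD3_c9) (LK LD1_c11 LD2_c2 LD3_c29) Lrfl Lrfl
theorem f310223 : Led Lsl_et (LP (LK LD1_c5 LD2_c35 LD3_c9)) = (LP (LK LD1_c2 LD2_c43 LD3_c28)) :=
  Lre_e IH (LK LD1_c5 LD2_c35 LD3_c9) (LK LD1_c2 LD2_c43 LD3_c28) Lrfl Lrfl
theorem f41053 : Led Lsl_et (LP (LK LD1_c1 LD2_c10 LD3_c9)) = (LP (LK LD1_c2 LD2_c25 LD3_c61)) :=
  Lre_e IH (LK LD1_c1 LD2_c10 LD3_c9) (LK LD1_c2 LD2_c25 LD3_c61) Lrfl Lrfl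
theorem f310224 : Led Lsl_gt (LP (LK LD1_c2 LD2_c43 LD3_c28)) = (LP (LK LD1_c2 LD2_c25 LD3_c61)) :=
  Lgr Lrot131 (Lpe (f310223 IH) (Lpr_dt (f181869 IH) (Lpr_gf (f310218 IH) (Lpe (f245962 IH) (Lpr_gf (K19.f306781 IH) (Lpe (K19.f173172 IH) (Lpr_dt (K9.f167777 IH) (Lpe (K12.f173163 IH) (Lpr_df (K1.f41025 IH) (Lpr_et (f41053 IH) (Lpn (LP (LK LD1_c2 LD2_c25 LD3_c61)))))))))))))
theorem f173070 : Led Lsl_af (LP (LK LD1_c2 LD2_c25 LD3_c61)) = (LP (LK LD1_c2 LD2_c41 LD3_c59)) :=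
  Lgr Lrot50 (Lpr_et (K19.f41040 IH) (Lpr_at (K9.f173034 IH) (Lpr_et (K9.f173069 IH) (Lpn (LP (LK LD1_c2 LD2_c41 LD3_c59))))))
theorem f173556 : Led Lsl_ft (LP (LK LD1_c4 LD2_c7 LD3_c3)) = (LP (LK LD1_c2 LD2_c41 LD3_c59)) :=
  Lgr Lrot48 (Lpr_ff (K9.f173544 IH) (Lpn (LP (LK LD1_c2 LD2_c41 LD3_c59))))
theorem f310226 : Led Lsl_gf (LP (LK LD1_c2 LD2_c43 LD3_c28)) = (LP (LK LD1_c4 LD2_c7 LD3_c3)) :=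
  Lgr Lrot47 (Lpr_gt (f310224 IH) (Lpr_af (f173070 IH) (Lpe (f173556 IH) (Lpn (LP (LK LD1_c4 LD2_c7 LD3_c3))))))
theorem f323488 : Led Lsl_bt (LP (LK LD1_c11 LD2_c2 LD3_c31)) = (LP (LK LD1_c8 LD2_c14 LD3_c5)) :=
  Lgr Lrot22 (Lpr_ct (K20.f322731 IH) (Lpe (K20.f50217 IH) (Lpe (K9.f28084 IH) (Lpr_gf (f323480 IH) (Lpe (f310235 IH) (Lpr_ct (f7617 IH) (Lpr_gf (f310226 IH) (Lpe (K19.f47903 IH) (Lpr_bt (K9.f47874 IH) (Lpe (K19.f47887 IH) (Lpn (LP (LK LD1_c8 LD2_c14 LD3_c5)))))))))))))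
theorem f54537 : Led Lsl_gt (LP (LK LD1_c7 LD2_c57 LD3_c48)) = (LP (LK LD1_c8 LD2_c14 LD3_c5)) :=
  Lgr Lrot5 (Lpr_ft (K1.f54524 IH) (Lpr_at (K9.f47862 IH) (Lpe (K19.f47887 IH) (Lpn (LP (LK LD1_c8 LD2_c14 LD3_c5))))))
theorem f55137 : Led Lsl_gt (LP (LK LD1_c8 LD2_c11 LD3_c50)) = (LP (LK LD1_c15 LD2_c25 LD3_c56)) :=
  Lre_g IH (LK LD1_c8 LD2_c11 LD3_c50) (LK LD1_c15 LD2_c25 LD3_c56) Lrfl Lrfl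
theorem f55138 : Led Lsl_gt (LP (LK LD1_c15 LD2_c25 LD3_c56)) = (LP (LK LD1_c9 LD2_c40 LD3_c61)) :=
  Lgr Lrot46 (Lpe (f55137 IH) (Lpr_ft (K1.f55126 IH) (Lpr_at (K1.f55125 IH) (Lpn (LP (LK LD1_c9 LD2_c40 LD3_c61))))))
theorem f323928 : Led Lsl_ct (LP (LK LD1_c10 LD2_c35 LD3_c18)) = (LP (LK LD1_c15 LD2_c25 LD3_c56)) :=
  Lgr Lrot91 (Lpr_gf (K14.f196802 IH) (Lpe (K12.f50094 IH) (Lpr_ct (K9.f49770 IH) (Lpe (K20.f50218 IH) (Lpe (K20.f322731 IH) (Lpr_bt (f323488 IH) (Lpe (f54537 IH) (Lpr_bf (K1.f41108 IH) (Lpr_ct (K19.f41124 IH) (Lpe (f55138 IH) (Lpn (LP (LK LD1_c15 LD2_c25 LD3_c56)))))))))))))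
theorem f322737 : Led Lsl_bf (LP (LK LD1_c8 LD2_c39 LD3_c43)) = (LP (LK LD1_c10 LD2_c35 LD3_c18)) :=
  Lgr Lrot24 (Lpr_bt (K20.f322735 IH) (Lpn (LP (LK LD1_c10 LD2_c35 LD3_c18))))
theorem f183731 : Led Lsl_bt (LP (LK LD1_c4 LD2_c13 LD3_c52)) = (LP (LK LD1_c8 LD2_c26 LD3_c24)) :=
  Lre_b IH (LK LD1_c4 LD2_c13 LD3_c52) (LK LD1_c8 LD2_c26 LD3_c24) Lrfl Lrfl
theorem f183751 : Led Lsl_gt (LP (LK LD1_c8 LD2_c26 LD3_c24)) = (LP (LK LD1_c15 LD2_c51 LD3_c2)) :=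
  Lre_g IH (LK LD1_c8 LD2_c26 LD3_c24) (LK LD1_c15 LD2_c51 LD3_c2) Lrfl Lrfl
theorem f217620 : Led Lsl_bt (LP (LK LD1_c25 LD2_c46 LD3_c55)) = (LP (LK LD1_c15 LD2_c51 LD3_c2)) :=
  Lre_b IH (LK LD1_c25 LD2_c46 LD3_c55) (LK LD1_c15 LD2_c51 LD3_c2) Lrfl Lrfl
theorem f235112 : Led Lsl_bt (LP (LK LD1_c9 LD2_c43 LD3_c46)) = (LP (LK LD1_c4 LD2_c56 LD3_c2)) :=
  Lre_b IH (LK LD1_c9 LD2_c43 LD3_c46) (LK LD1_c4 LD2_c56 LD3_c2) Lrfl Lrfl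
theorem f235237 : Led Lsl_at (LP (LK LD1_c17 LD2_c52 LD3_c60)) = (LP (LK LD1_c9 LD2_c43 LD3_c46)) :=
  Lre_a IH (LK LD1_c17 LD2_c52 LD3_c60) (LK LD1_c9 LD2_c43 LD3_c46) Lrfl Lrfl
theorem f235238 : Led Lsl_bt (LP (LK LD1_c19 LD2_c53 LD3_c52)) = (LP (LK LD1_c17 LD2_c52 LD3_c60)) :=
  Lgr Lrot62 (Lpe (K16.f235236 IH) (Lpe (K16.f235235 IH) (Lpr_af (K13.f235231 IH) (Lpe (f235112 IH) (Lpe (f235237 IH) (Lpn (LP (LK LD1_c17 LD2_c52 LD3_c60))))))))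
theorem f235523 : Led Lsl_ft (LP (LK LD1_c17 LD2_c52 LD3_c60)) = (LP (LK LD1_c16 LD2_c12 LD3_c27)) :=
  Lgr Lrot75 (Lpe (f235238 IH) (Lpr_ff (K16.f235518 IH) (Lpe (K10.f31294 IH) (Lpn (LP (LK LD1_c16 LD2_c12 LD3_c27))))))
theorem f235529 : Led Lsl_ff (LP (LK LD1_c17 LD2_c52 LD3_c60)) = (LP (LK LD1_c16 LD2_c12 LD3_c27)) :=
  Lgr Lrot3 (Lpr_ft (f235523 IH) (Lpn (LP (LK LD1_c16 LD2_c12 LD3_c27))))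
theorem f235364 : Led Lsl_gt (LP (LK LD1_c17 LD2_c52 LD3_c59)) = (LP (LK LD1_c9 LD2_c43 LD3_c46)) :=
  Lre_g IH (LK LD1_c17 LD2_c52 LD3_c59) (LK LD1_c9 LD2_c43 LD3_c46) Lrfl Lrfl
theorem f235533 : Led Lsl_gf (LP (LK LD1_c17 LD2_c52 LD3_c59)) = (LP (LK LD1_c16 LD2_c12 LD3_c27)) :=
  Lgr Lrot47 (Lpr_gt (f235364 IH) (Lpe (f235237 IH) (Lpr_ff (f235529 IH) (Lpn (LP (LK LD1_c16 LD2_c12 LD3_c27))))))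
theorem f33473 : Led Lsl_bt (LP (LK LD1_c10 LD2_c19 LD3_c25)) = (LP (LK LD1_c5 LD2_c14 LD3_c61)) :=
  Lre_b IH (LK LD1_c10 LD2_c19 LD3_c25) (LK LD1_c5 LD2_c14 LD3_c61) Lrfl Lrfl
theorem f33474 : Led Lsl_at (LP (LK LD1_c18 LD2_c44 LD3_c27)) = (LP (LK LD1_c10 LD2_c19 LD3_c25)) :=
  Lre_a IH (LK LD1_c18 LD2_c44 LD3_c27) (LK LD1_c10 LD2_c19 LD3_c25) Lrfl Lrfl
theorem f33475 : Led Lsl_bt (LP (LK LD1_c5 LD2_c14 LD3_c56)) = (LP (LK LD1_c10 LD2_c19 LD3_c15)) :=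
  Lre_b IH (LK LD1_c5 LD2_c14 LD3_c56) (LK LD1_c10 LD2_c19 LD3_c15) Lrfl Lrfl
theorem f33476 : Led Lsl_at (LP (LK LD1_c10 LD2_c19 LD3_c15)) = (LP (LK LD1_c18 LD2_c44 LD3_c8)) :=
  Lre_a IH (LK LD1_c10 LD2_c19 LD3_c15) (LK LD1_c18 LD2_c44 LD3_c8) Lrfl Lrfl
theorem f33477 : Led Lsl_bf (LP (LK LD1_c18 LD2_c44 LD3_c27)) = (LP (LK LD1_c18 LD2_c44 LD3_c8)) :=
  Lgr Lrot81 (Lpr_at (f33474 IH) (Lpr_bt (f33473 IH) (Lpr_at (K16.f33468 IH) (Lpr_bt (f33475 IH) (Lpr_at (f33476 IH) (Lpn (LP (LK LD1_c18 LD2_c44 LD3_c8))))))))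
theorem f33481 : Led Lsl_bt (LP (LK LD1_c18 LD2_c44 LD3_c27)) = (LP (LK LD1_c18 LD2_c44 LD3_c8)) :=
  Lgr Lrot127 (Lpr_bf (f33477 IH) (Lpn (LP (LK LD1_c18 LD2_c44 LD3_c8))))
theorem f33491 : Led Lsl_dt (LP (LK LD1_c10 LD2_c19 LD3_c24)) = (LP (LK LD1_c18 LD2_c44 LD3_c27)) :=
  Lre_d IH (LK LD1_c10 LD2_c19 LD3_c24) (LK LD1_c18 LD2_c44 LD3_c27) Lrfl Lrfl
theorem f33492 : Led Lsl_dt (LP (LK LD1_c18 LD2_c44 LD3_c8)) = (LP (LK LD1_c10 LD2_c19 LD3_c14)) :=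
  Lre_d IH (LK LD1_c18 LD2_c44 LD3_c8) (LK LD1_c10 LD2_c19 LD3_c14) Lrfl Lrfl
theorem f33493 : Led Lsl_bf (LP (LK LD1_c10 LD2_c19 LD3_c24)) = (LP (LK LD1_c10 LD2_c19 LD3_c14)) :=
  Lgr Lrot93 (Lpr_dt (f33491 IH) (Lpr_bt (f33481 IH) (Lpr_dt (f33492 IH) (Lpn (LP (LK LD1_c10 LD2_c19 LD3_c14))))))
theorem f221156 : Led Lsl_gf (LP (LK LD1_c10 LD2_c53 LD3_c41)) = (LP (LK LD1_c15 LD2_c51 LD3_c2)) :=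
  Lgr Lrot76 (Lpe (K15.f221047 IH) (Lpr_ff (K12.f221139 IH) (Lpr_gt (f183751 IH) (Lpn (LP (LK LD1_c15 LD2_c51 LD3_c2))))))
theorem f235535 : Led Lsl_cf (LP (LK LD1_c17 LD2_c52 LD3_c59)) = (LP (LK LD1_c25 LD2_c46 LD3_c55)) :=
  Lgr Lrot58 (Lpr_gf (f235533 IH) (Lpr_cf (K10.f33536 IH) (Lpe (f33493 IH) (Lpe (K15.f189074 IH) (Lpe (K15.f224840 IH) (Lpr_ct (K15.f217888 IH) (Lpr_gf (K15.f224836 IH) (Lpe (K15.f224447 IH) (Lpr_gf (f221156 IH) (Lpe (f217620 IH) (Lpn (LP (LK LD1_c25 LD2_c46 LD3_c55)))))))))))))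
theorem f295183 : Led Lsl_bt (LP (LK LD1_c5 LD2_c27 LD3_c26)) = (LP (LK LD1_c2 LD2_c40 LD3_c5)) :=
  Lre_b IH (LK LD1_c5 LD2_c27 LD3_c26) (LK LD1_c2 LD2_c40 LD3_c5) Lrfl Lrfl
theorem f295304 : Led Lsl_cf (LP (LK LD1_c9 LD2_c43 LD3_c46)) = (LP (LK LD1_c5 LD2_c27 LD3_c26)) :=
  Lgr Lrot58 (Lpe (f235364 IH) (Lpr_cf (f235535 IH) (Lpr_bt (f217620 IH) (Lpe (f183751 IH) (Lpe (f183731 IH) (Lpr_ct (K11.f50874 IH) (Lpe (K12.f217485 IH) (Lpe (K16.f217491 IH) (Lpr_gf (K18.f295292 IH) (Lpe (f295183 IH) (Lpn (LP (LK LD1_c5 LD2_c27 LD3_c26)))))))))))))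
theorem f235366 : Led Lsl_et (LP (LK LD1_c9 LD2_c43 LD3_c46)) = (LP (LK LD1_c17 LD2_c52 LD3_c61)) :=
  Lre_e IH (LK LD1_c9 LD2_c43 LD3_c46) (LK LD1_c17 LD2_c52 LD3_c61) Lrfl Lrfl
theorem f295322 : Led Lsl_et (LP (LK LD1_c10 LD2_c45 LD3_c59)) = (LP (LK LD1_c5 LD2_c27 LD3_c26)) :=
  Lre_e IH (LK LD1_c10 LD2_c45 LD3_c59) (LK LD1_c5 LD2_c27 LD3_c26) Lrfl Lrfl
theorem f295323 : Led Lsl_ct (LP (LK LD1_c17 LD2_c52 LD3_c61)) = (LP (LK LD1_c10 LD2_c45 LD3_c59)) :=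
  Lgr Lrot15 (Lpe (f235366 IH) (Lpr_cf (f295304 IH) (Lpe (f295322 IH) (Lpn (LP (LK LD1_c10 LD2_c45 LD3_c59))))))
theorem f235610 : Led Lsl_bt (LP (LK LD1_c9 LD2_c43 LD3_c47)) = (LP (LK LD1_c17 LD2_c52 LD3_c61)) :=
  Lre_b IH (LK LD1_c9 LD2_c43 LD3_c47) (LK LD1_c17 LD2_c52 LD3_c61) Lrfl Lrfl
theorem f235220 : Led Lsl_et (LP (LK LD1_c9 LD2_c43 LD3_c47)) = (LP (LK LD1_c4 LD2_c56 LD3_c2)) :=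
  Lre_e IH (LK LD1_c9 LD2_c43 LD3_c47) (LK LD1_c4 LD2_c56 LD3_c2) Lrfl Lrfl
theorem f235553 : Led Lsl_ct (LP (LK LD1_c5 LD2_c23 LD3_c23)) = (LP (LK LD1_c9 LD2_c43 LD3_c47)) :=
  Lgr Lrot15 (Lpe (K17.f235552 IH) (Lpr_cf (K13.f235544 IH) (Lpe (f235220 IH) (Lpn (LP (LK LD1_c9 LD2_c43 LD3_c47))))))
theorem f295357 : Led Lsl_bt (LP (LK LD1_c10 LD2_c45 LD3_c59)) = (LP (LK LD1_c5 LD2_c27 LD3_c28)) :=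
  Lre_b IH (LK LD1_c10 LD2_c45 LD3_c59) (LK LD1_c5 LD2_c27 LD3_c28) Lrfl Lrfl
theorem f295202 : Led Lsl_ct (LP (LK LD1_c5 LD2_c27 LD3_c28)) = (LP (LK LD1_c2 LD2_c40 LD3_c6)) :=
  Lre_c IH (LK LD1_c5 LD2_c27 LD3_c28) (LK LD1_c2 LD2_c40 LD3_c6) Lrfl Lrfl
theorem f295407 : Led Lsl_bf (LP (LK LD1_c5 LD2_c23 LD3_c23)) = (LP (LK LD1_c2 LD2_c40 LD3_c6)) :=
  Lgr Lrot90 (Lpr_ct (f235553 IH) (Lpr_bt (f235610 IH) (Lpr_ct (f295323 IH) (Lpr_bt (f295357 IH) (Lpr_ct (f295202 IH) (Lpn (LP (LK LD1_c2 LD2_c40 LD3_c6))))))))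
theorem f282853 : Led Lsl_gt (LP (LK LD1_c5 LD2_c27 LD3_c28)) = (LP (LK LD1_c10 LD2_c45 LD3_c61)) :=
  Lre_g IH (LK LD1_c5 LD2_c27 LD3_c28) (LK LD1_c10 LD2_c45 LD3_c61) Lrfl Lrfl
theorem f27989 : Led Lsl_ct (LP (LK LD1_c1 LD2_c59 LD3_c5)) = (LP (LK LD1_c4 LD2_c4 LD3_c17)) :=
  Lre_c IH (LK LD1_c1 LD2_c59 LD3_c5) (LK LD1_c4 LD2_c4 LD3_c17) Lrfl Lrfl
theorem f53007 : Led Lsl_gt (LP (LK LD1_c4 LD2_c4 LD3_c17)) = (LP (LK LD1_c8 LD2_c9 LD3_c25)) :=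
  Lre_g IH (LK LD1_c4 LD2_c4 LD3_c17) (LK LD1_c8 LD2_c9 LD3_c25) Lrfl Lrfl
theorem f55304 : Led Lsl_at (LP (LK LD1_c1 LD2_c59 LD3_c61)) = (LP (LK LD1_c2 LD2_c0 LD3_c54)) :=
  Lgr Lrot66 (Lpr_ff (K1.f55299 IH) (Lpe (K1.f41094 IH) (Lpr_ff (K9.f54866 IH) (Lpn (LP (LK LD1_c2 LD2_c0 LD3_c54))))))
theorem f55315 : Led Lsl_gt (LP (LK LD1_c1 LD2_c10 LD3_c10)) = (LP (LK LD1_c2 LD2_c26 LD3_c0)) :=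
  Lre_g IH (LK LD1_c1 LD2_c10 LD3_c10) (LK LD1_c2 LD2_c26 LD3_c0) Lrfl Lrfl
theorem f55316 : Led Lsl_gf (LP (LK LD1_c2 LD2_c0 LD3_c54)) = (LP (LK LD1_c2 LD2_c26 LD3_c0)) :=
  Lgr Lrot76 (Lpe (f55304 IH) (Lpr_ff (K1.f55299 IH) (Lpr_gt (f55315 IH) (Lpn (LP (LK LD1_c2 LD2_c26 LD3_c0))))))
theorem f55320 : Led Lsl_bt (LP (LK LD1_c4 LD2_c56 LD3_c28)) = (LP (LK LD1_c2 LD2_c26 LD3_c0)) :=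
  Lre_b IH (LK LD1_c4 LD2_c56 LD3_c28) (LK LD1_c2 LD2_c26 LD3_c0) Lrfl Lrfl
theorem f323491 : Led Lsl_cf (LP (LK LD1_c8 LD2_c9 LD3_c25)) = (LP (LK LD1_c4 LD2_c56 LD3_c28)) :=
  Lgr Lrot58 (Lpe (f53007 IH) (Lpe (f27989 IH) (Lpr_bt (K9.f27983 IH) (Lpr_gf (f323480 IH) (Lpe (f310235 IH) (Lpr_ct (f7617 IH) (Lpr_gf (f310226 IH) (Lpe (K19.f47903 IH) (Lpr_gf (f55316 IH) (Lpe (f55320 IH) (Lpn (LP (LK LD1_c4 LD2_c56 LD3_c28)))))))))))))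
theorem f28009 : Led Lsl_bt (LP (LK LD1_c8 LD2_c9 LD3_c31)) = (LP (LK LD1_c4 LD2_c4 LD3_c19)) :=
  Lre_b IH (LK LD1_c8 LD2_c9 LD3_c31) (LK LD1_c4 LD2_c4 LD3_c19) Lrfl Lrfl
theorem f30988 : Led Lsl_ct (LP (LK LD1_c8 LD2_c9 LD3_c31)) = (LP (LK LD1_c15 LD2_c22 LD3_c3)) :=
  Lre_c IH (LK LD1_c8 LD2_c9 LD3_c31) (LK LD1_c15 LD2_c22 LD3_c3) Lrfl Lrfl
theorem f47880 : Led Lsl_ct (LP (LK LD1_c4 LD2_c6 LD3_c43)) = (LP (LK LD1_c8 LD2_c14 LD3_c3)) :=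
  Lre_c IH (LK LD1_c4 LD2_c6 LD3_c43) (LK LD1_c8 LD2_c14 LD3_c3) Lrfl Lrfl
theorem f323558 : Led Lsl_gf (LP (LK LD1_c15 LD2_c22 LD3_c3)) = (LP (LK LD1_c8 LD2_c14 LD3_c3)) :=
  Lgr Lrot126 (Lpe (f30988 IH) (Lpr_bt (f28009 IH) (Lpr_gt (K15.f27998 IH) (Lpr_ct (f27989 IH) (Lpr_gt (f53007 IH) (Lpr_cf (f323491 IH) (Lpr_bt (f55320 IH) (Lpe (f55316 IH) (Lpe (K9.f47875 IH) (Lpr_ct (f47880 IH) (Lpn (LP (LK LD1_c8 LD2_c14 LD3_c3)))))))))))))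
theorem f41361 : Led Lsl_at (LP (LK LD1_c7 LD2_c58 LD3_c41)) = (LP (LK LD1_c15 LD2_c1 LD3_c13)) :=
  Lre_a IH (LK LD1_c7 LD2_c58 LD3_c41) (LK LD1_c15 LD2_c1 LD3_c13) Lrfl Lrfl
theorem f47886 : Led Lsl_at (LP (LK LD1_c15 LD2_c27 LD3_c41)) = (LP (LK LD1_c8 LD2_c14 LD3_c3)) :=
  Lre_a IH (LK LD1_c15 LD2_c27 LD3_c41) (LK LD1_c8 LD2_c14 LD3_c3) Lrfl Lrfl
theorem f54554 : Led Lsl_ff (LP (LK LD1_c7 LD2_c58 LD3_c41)) = (LP (LK LD1_c8 LD2_c14 LD3_c3)) :=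
  Lgr Lrot30 (Lpr_at (f41361 IH) (Lpr_ft (K1.f54545 IH) (Lpr_at (f47886 IH) (Lpn (LP (LK LD1_c8 LD2_c14 LD3_c3))))))
theorem f323560 : Led Lsl_gt (LP (LK LD1_c15 LD2_c22 LD3_c3)) = (LP (LK LD1_c15 LD2_c1 LD3_c13)) :=
  Lgr Lrot46 (Lpr_gf (f323558 IH) (Lpe (f54554 IH) (Lpr_at (f41361 IH) (Lpn (LP (LK LD1_c15 LD2_c1 LD3_c13))))))
theorem f30854 : Led Lsl_ct (LP (LK LD1_c8 LD2_c39 LD3_c48)) = (LP (LK LD1_c16 LD2_c13 LD3_c31)) :=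
  Lre_c IH (LK LD1_c8 LD2_c39 LD3_c48) (LK LD1_c16 LD2_c13 LD3_c31) Lrfl Lrfl
theorem f55079 : Led Lsl_ct (LP (LK LD1_c8 LD2_c11 LD3_c52)) = (LP (LK LD1_c15 LD2_c25 LD3_c60)) :=
  Lre_c IH (LK LD1_c8 LD2_c11 LD3_c52) (LK LD1_c15 LD2_c25 LD3_c60) Lrfl Lrfl
theorem f323587 : Led Lsl_gf (LP (LK LD1_c16 LD2_c13 LD3_c31)) = (LP (LK LD1_c15 LD2_c25 LD3_c60)) :=
  Lgr Lrot129 (Lpe (f30854 IH) (Lpe (K12.f30986 IH) (Lpr_gt (K15.f28076 IH) (Lpe (f28009 IH) (Lpr_ct (f30988 IH) (Lpr_gt (f323560 IH) (Lpe (K1.f41116 IH) (Lpr_bt (K1.f41114 IH) (Lpe (K17.f55073 IH) (Lpr_ct (f55079 IH) (Lpn (LP (LK LD1_c15 LD2_c25 LD3_c60)))))))))))))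
theorem f27999 : Led Lsl_ct (LP (LK LD1_c4 LD2_c4 LD3_c19)) = (LP (LK LD1_c8 LD2_c9 LD3_c32)) :=
  Lre_c IH (LK LD1_c4 LD2_c4 LD3_c19) (LK LD1_c8 LD2_c9 LD3_c32) Lrfl Lrfl
theorem f199425 : Led Lsl_et (LP (LK LD1_c1 LD2_c18 LD3_c12)) = (LP (LK LD1_c2 LD2_c43 LD3_c36)) :=
  Lre_e IH (LK LD1_c1 LD2_c18 LD3_c12) (LK LD1_c2 LD2_c43 LD3_c36) Lrfl Lrfl
theorem f313087 : Led Lsl_gt (LP (LK LD1_c2 LD2_c43 LD3_c36)) = (LP (LK LD1_c5 LD2_c35 LD3_c21)) :=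
  Lre_g IH (LK LD1_c2 LD2_c43 LD3_c36) (LK LD1_c5 LD2_c35 LD3_c21) Lrfl Lrfl
theorem f313092 : Led Lsl_ef (LP (LK LD1_c5 LD2_c35 LD3_c21)) = (LP (LK LD1_c8 LD2_c37 LD3_c45)) :=
  Lgr Lrot17 (Lpe (f313087 IH) (Lpe (f199425 IH) (Lpr_dt (K20.f199392 IH) (Lpr_gf (K19.f313075 IH) (Lpe (K9.f33294 IH) (Lpr_gf (K13.f235105 IH) (Lpe (K14.f168940 IH) (Lpr_dt (K20.f168891 IH) (Lpe (K20.f168950 IH) (Lpe (K20.f235113 IH) (Lpn (LP (LK LD1_c8 LD2_c37 LD3_c45)))))))))))))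
theorem f194210 : Led Lsl_et (LP (LK LD1_c4 LD2_c4 LD3_c29)) = (LP (LK LD1_c1 LD2_c59 LD3_c11)) :=
  Lre_e IH (LK LD1_c4 LD2_c4 LD3_c29) (LK LD1_c1 LD2_c59 LD3_c11) Lrfl Lrfl
theorem f212893 : Led Lsl_dt (LP (LK LD1_c4 LD2_c4 LD3_c29)) = (LP (LK LD1_c1 LD2_c59 LD3_c9)) :=
  Lre_d IH (LK LD1_c4 LD2_c4 LD3_c29) (LK LD1_c1 LD2_c59 LD3_c9) Lrfl Lrfl
theorem f200709 : Led Lsl_gt (LP (LK LD1_c4 LD2_c4 LD3_c28)) = (LP (LK LD1_c1 LD2_c59 LD3_c9)) :=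
  Lre_g IH (LK LD1_c4 LD2_c4 LD3_c28) (LK LD1_c1 LD2_c59 LD3_c9) Lrfl Lrfl
theorem f313088 : Led Lsl_dt (LP (LK LD1_c5 LD2_c35 LD3_c21)) = (LP (LK LD1_c4 LD2_c4 LD3_c28)) :=
  Lgr Lrot171 (Lpe (f313087 IH) (Lpe (f199425 IH) (Lpr_dt (K20.f199392 IH) (Lpr_gf (K19.f313075 IH) (Lpe (K9.f33294 IH) (Lpe (K19.f54040 IH) (Lpe (K13.f223715 IH) (Lpe (f194210 IH) (Lpr_dt (f212893 IH) (Lpe (f200709 IH) (Lpn (LP (LK LD1_c4 LD2_c4 LD3_c28)))))))))))))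
theorem f313097 : Led Lsl_et (LP (LK LD1_c4 LD2_c4 LD3_c28)) = (LP (LK LD1_c8 LD2_c9 LD3_c55)) :=
  Lre_e IH (LK LD1_c4 LD2_c4 LD3_c28) (LK LD1_c8 LD2_c9 LD3_c55) Lrfl Lrfl
theorem f168961 : Led Lsl_et (LP (LK LD1_c11 LD2_c57 LD3_c3)) = (LP (LK LD1_c6 LD2_c7 LD3_c1)) :=
  Lre_e IH (LK LD1_c11 LD2_c57 LD3_c3) (LK LD1_c6 LD2_c7 LD3_c1) Lrfl Lrfl
theorem f313098 : Led Lsl_dt (LP (LK LD1_c8 LD2_c9 LD3_c55)) = (LP (LK LD1_c11 LD2_c57 LD3_c3)) :=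
  Lgr Lrot77 (Lpe (f313097 IH) (Lpe (f313088 IH) (Lpr_ef (f313092 IH) (Lpr_df (K20.f235118 IH) (Lpe (f168961 IH) (Lpn (LP (LK LD1_c11 LD2_c57 LD3_c3))))))))
theorem f200710 : Led Lsl_et (LP (LK LD1_c8 LD2_c9 LD3_c55)) = (LP (LK LD1_c4 LD2_c4 LD3_c28)) :=
  Lre_e IH (LK LD1_c8 LD2_c9 LD3_c55) (LK LD1_c4 LD2_c4 LD3_c28) Lrfl Lrfl
theorem f200708 : Led Lsl_et (LP (LK LD1_c0 LD2_c56 LD3_c20)) = (LP (LK LD1_c1 LD2_c59 LD3_c9)) :=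
  Lre_e IH (LK LD1_c0 LD2_c56 LD3_c20) (LK LD1_c1 LD2_c59 LD3_c9) Lrfl Lrfl
theorem f27471 : Led Lsl_dt (LP (LK LD1_c4 LD2_c14 LD3_c53)) = (LP (LK LD1_c8 LD2_c28 LD3_c36)) :=
  Lre_d IH (LK LD1_c4 LD2_c14 LD3_c53) (LK LD1_c8 LD2_c28 LD3_c36) Lrfl Lrfl
theorem f313121 : Led Lsl_gt (LP (LK LD1_c8 LD2_c28 LD3_c36)) = (LP (LK LD1_c11 LD2_c57 LD3_c3)) :=
  Lgr Lrot139 (Lpe (f27471 IH) (Lpe (K19.f27470 IH) (Lpe (K11.f27460 IH) (Lpr_dt (K10.f27459 IH) (Lpe (K11.f200694 IH) (Lpe (K12.f200698 IH) (Lpr_et (f200708 IH) (Lpe (f200709 IH) (Lpe (f200710 IH) (Lpr_dt (f313098 IH) (Lpn (LP (LK LD1_c11 LD2_c57 LD3_c3)))))))))))))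
theorem f52897 : Led Lsl_ct (LP (LK LD1_c4 LD2_c50 LD3_c46)) = (LP (LK LD1_c8 LD2_c28 LD3_c34)) :=
  Lgr Lrot59 (Lpr_cf (K19.f52630 IH) (Lpn (LP (LK LD1_c8 LD2_c28 LD3_c34))))
theorem f235128 : Led Lsl_ct (LP (LK LD1_c11 LD2_c57 LD3_c3)) = (LP (LK LD1_c21 LD2_c2 LD3_c4)) :=
  Lre_c IH (LK LD1_c11 LD2_c57 LD3_c3) (LK LD1_c21 LD2_c2 LD3_c4) Lrfl Lrfl
theorem f299227 : Led Lsl_gt (LP (LK LD1_c21 LD2_c2 LD3_c4)) = (LP (LK LD1_c15 LD2_c22 LD3_c9)) :=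
  Lgr Lrot94 (Lpe (f235128 IH) (Lpe (K20.f235125 IH) (Lpr_dt (K20.f27469 IH) (Lpr_gt (K19.f27468 IH) (Lpe (K11.f27433 IH) (Lpe (K19.f27455 IH) (Lpe (K10.f27456 IH) (Lpe (K18.f27467 IH) (Lpr_df (K18.f299225 IH) (Lpn (LP (LK LD1_c15 LD2_c22 LD3_c9))))))))))))
theorem f28005 : Led Lsl_ct (LP (LK LD1_c8 LD2_c9 LD3_c32)) = (LP (LK LD1_c4 LD2_c4 LD3_c19)) :=
  Lre_c IH (LK LD1_c8 LD2_c9 LD3_c32) (LK LD1_c4 LD2_c4 LD3_c19) Lrfl Lrfl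
theorem f313126 : Led Lsl_gt (LP (LK LD1_c8 LD2_c28 LD3_c34)) = (LP (LK LD1_c8 LD2_c9 LD3_c32)) :=
  Lgr Lrot150 (Lpe (f52897 IH) (Lpr_gf (K19.f27623 IH) (Lpe (K19.f27477 IH) (Lpr_gt (f313121 IH) (Lpr_ct (f235128 IH) (Lpr_gt (f299227 IH) (Lpr_ct (K18.f28078 IH) (Lpe (K18.f28077 IH) (Lpe (f28005 IH) (Lpn (LP (LK LD1_c8 LD2_c9 LD3_c32))))))))))))
theorem f313129 : Led Lsl_gf (LP (LK LD1_c4 LD2_c14 LD3_c52)) = (LP (LK LD1_c8 LD2_c9 LD3_c32)) :=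
  Lgr Lrot76 (Lpr_af (K10.f52634 IH) (Lpe (K10.f52633 IH) (Lpr_gt (f313126 IH) (Lpn (LP (LK LD1_c8 LD2_c9 LD3_c32))))))
theorem f27452 : Led Lsl_ct (LP (LK LD1_c2 LD2_c4 LD3_c48)) = (LP (LK LD1_c4 LD2_c14 LD3_c52)) :=
  Lre_c IH (LK LD1_c2 LD2_c4 LD3_c48) (LK LD1_c4 LD2_c14 LD3_c52) Lrfl Lrfl
theorem f27442 : Led Lsl_gt (LP (LK LD1_c4 LD2_c14 LD3_c18)) = (LP (LK LD1_c8 LD2_c27 LD3_c15)) :=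
  Lre_g IH (LK LD1_c4 LD2_c14 LD3_c18) (LK LD1_c8 LD2_c27 LD3_c15) Lrfl Lrfl
theorem f323591 : Led Lsl_bf (LP (LK LD1_c8 LD2_c27 LD3_c15)) = (LP (LK LD1_c8 LD2_c11 LD3_c52)) :=
  Lgr Lrot34 (Lpe (f27442 IH) (Lpe (K11.f27431 IH) (Lpr_ct (f27452 IH) (Lpr_gf (f313129 IH) (Lpe (f27999 IH) (Lpe (K15.f28076 IH) (Lpr_bf (K12.f30986 IH) (Lpr_ct (f30854 IH) (Lpr_gf (f323587 IH) (Lpe (f55079 IH) (Lpn (LP (LK LD1_c8 LD2_c11 LD3_c52)))))))))))))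
theorem f323593 : Led Lsl_bt (LP (LK LD1_c8 LD2_c27 LD3_c15)) = (LP (LK LD1_c8 LD2_c11 LD3_c52)) :=
  Lgr Lrot127 (Lpr_bf (f323591 IH) (Lpn (LP (LK LD1_c8 LD2_c11 LD3_c52))))
theorem f323935 : Led Lsl_cf (LP (LK LD1_c10 LD2_c45 LD3_c61)) = (LP (LK LD1_c8 LD2_c27 LD3_c15)) :=
  Lgr Lrot58 (Lpe (f282853 IH) (Lpe (K18.f295210 IH) (Lpe (f295407 IH) (Lpr_gf (K17.f235617 IH) (Lpr_bf (f322737 IH) (Lpr_ct (f323928 IH) (Lpe (f55137 IH) (Lpe (K1.f55128 IH) (Lpe (K17.f47980 IH) (Lpe (f323593 IH) (Lpn (LP (LK LD1_c8 LD2_c27 LD3_c15)))))))))))))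
theorem f55052 : Led Lsl_bt (LP (LK LD1_c1 LD2_c59 LD3_c61)) = (LP (LK LD1_c4 LD2_c5 LD3_c27)) :=
  Lre_b IH (LK LD1_c1 LD2_c59 LD3_c61) (LK LD1_c4 LD2_c5 LD3_c27) Lrfl Lrfl
theorem f55306 : Led Lsl_ft (LP (LK LD1_c4 LD2_c5 LD3_c34)) = (LP (LK LD1_c2 LD2_c25 LD3_c61)) :=
  Lgr Lrot4 (Lpe (K9.f55303 IH) (Lpr_ff (K1.f55299 IH) (Lpe (K19.f41112 IH) (Lpn (LP (LK LD1_c2 LD2_c25 LD3_c61))))))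
theorem f173546 : Led Lsl_at (LP (LK LD1_c2 LD2_c25 LD3_c61)) = (LP (LK LD1_c2 LD2_c41 LD3_c59)) :=
  Lgr Lrot66 (Lpe (f55306 IH) (Lpe (K9.f55673 IH) (Lpr_ff (K9.f173544 IH) (Lpn (LP (LK LD1_c2 LD2_c41 LD3_c59))))))
theorem f320504 : Led Lsl_gt (LP (LK LD1_c4 LD2_c5 LD3_c34)) = (LP (LK LD1_c4 LD2_c30 LD3_c50)) :=
  Lgr Lrot5 (Lpr_ft (f55306 IH) (Lpr_at (f173546 IH) (Lpr_gf (K20.f320502 IH) (Lpn (LP (LK LD1_c4 LD2_c30 LD3_c50))))))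
theorem f183299 : Led Lsl_bt (LP (LK LD1_c2 LD2_c12 LD3_c20)) = (LP (LK LD1_c4 LD2_c30 LD3_c49)) :=
  Lre_b IH (LK LD1_c2 LD2_c12 LD3_c20) (LK LD1_c4 LD2_c30 LD3_c49) Lrfl Lrfl
theorem f323959 : Led Lsl_gf (LP (LK LD1_c2 LD2_c40 LD3_c6)) = (LP (LK LD1_c4 LD2_c30 LD3_c49)) :=
  Lgr Lrot181 (Lpr_ct (K18.f295210 IH) (Lpr_gt (f282853 IH) (Lpr_cf (f323935 IH) (Lpr_bt (f323593 IH) (Lpr_gt (K17.f47980 IH) (Lpe (f55052 IH) (Lpr_ct (K9.f55303 IH) (Lpr_gt (f320504 IH) (Lpe (K20.f7656 IH) (Lpr_bt (f183299 IH) (Lpn (LP (LK LD1_c4 LD2_c30 LD3_c49)))))))))))))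
theorem f295200 : Led Lsl_at (LP (LK LD1_c4 LD2_c29 LD3_c3)) = (LP (LK LD1_c2 LD2_c40 LD3_c6)) :=
  Lgr Lrot66 (Lpr_ff (K15.f188979 IH) (Lpr_af (K10.f45537 IH) (Lpr_ff (K18.f295198 IH) (Lpn (LP (LK LD1_c2 LD2_c40 LD3_c6))))))
theorem f323961 : Led Lsl_gt (LP (LK LD1_c4 LD2_c15 LD3_c18)) = (LP (LK LD1_c4 LD2_c30 LD3_c49)) :=
  Lgr Lrot5 (Lpe (K15.f188979 IH) (Lpr_at (f295200 IH) (Lpr_gf (f323959 IH) (Lpn (LP (LK LD1_c4 LD2_c30 LD3_c49))))))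
theorem f323964 : Led Lsl_dt (LP (LK LD1_c8 LD2_c59 LD3_c54)) = (LP (LK LD1_c4 LD2_c30 LD3_c49)) :=
  Lre_d IH (LK LD1_c8 LD2_c59 LD3_c54) (LK LD1_c4 LD2_c30 LD3_c49) Lrfl Lrfl
theorem f246260 : Led Lsl_gt (LP (LK LD1_c4 LD2_c9 LD3_c12)) = (LP (LK LD1_c8 LD2_c18 LD3_c26)) :=
  Lre_g IH (LK LD1_c4 LD2_c9 LD3_c12) (LK LD1_c8 LD2_c18 LD3_c26) Lrfl Lrfl
theorem f323967 : Led Lsl_ef (LP (LK LD1_c8 LD2_c18 LD3_c26)) = (LP (LK LD1_c8 LD2_c59 LD3_c54)) :=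
  Lgr Lrot17 (Lpe (f246260 IH) (Lpe (f246259 IH) (Lpr_dt (K16.f190837 IH) (Lpr_gf (K13.f246255 IH) (Lpe (K18.f278115 IH) (Lpr_gf (K16.f278109 IH) (Lpe (K18.f278104 IH) (Lpr_dt (K18.f278105 IH) (Lpr_gf (f323959 IH) (Lpe (f323964 IH) (Lpn (LP (LK LD1_c8 LD2_c59 LD3_c54)))))))))))))
theorem f324249 : Led Lsl_gf (LP (LK LD1_c5 LD2_c27 LD3_c42)) = (LP (LK LD1_c8 LD2_c18 LD3_c26)) :=
  Lgr Lrot138 (Lpr_dt (f236013 IH) (Lpr_gt (f324245 IH) (Lpe (K17.f236268 IH) (Lpr_et (K17.f45606 IH) (Lpr_gt (K13.f45189 IH) (Lpe (f45600 IH) (Lpr_dt (K10.f45598 IH) (Lpr_gt (f323961 IH) (Lpe (f323964 IH) (Lpe (f323967 IH) (Lpn (LP (LK LD1_c8 LD2_c18 LD3_c26)))))))))))))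
theorem f324243 : Led Lsl_ef (LP (LK LD1_c5 LD2_c27 LD3_c42)) = (LP (LK LD1_c6 LD2_c5 LD3_c51)) :=
  Lgr Lrot88 (Lpr_et (f324235 IH) (Lpn (LP (LK LD1_c6 LD2_c5 LD3_c51))))
theorem f295207 : Led Lsl_gt (LP (LK LD1_c2 LD2_c40 LD3_c6)) = (LP (LK LD1_c5 LD2_c27 LD3_c29)) :=
  Lre_g IH (LK LD1_c2 LD2_c40 LD3_c6) (LK LD1_c5 LD2_c27 LD3_c29) Lrfl Lrfl
theorem f295208 : Led Lsl_gf (LP (LK LD1_c4 LD2_c15 LD3_c18)) = (LP (LK LD1_c5 LD2_c27 LD3_c29)) :=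
  Lgr Lrot76 (Lpr_af (K10.f45537 IH) (Lpr_ff (K18.f295198 IH) (Lpr_gt (f295207 IH) (Lpn (LP (LK LD1_c5 LD2_c27 LD3_c29))))))
theorem f317710 : Led Lsl_et (LP (LK LD1_c10 LD2_c46 LD3_c4)) = (LP (LK LD1_c5 LD2_c27 LD3_c29)) :=
  Lre_e IH (LK LD1_c10 LD2_c46 LD3_c4) (LK LD1_c5 LD2_c27 LD3_c29) Lrfl Lrfl
theorem f214827 : Led Lsl_gt (LP (LK LD1_c10 LD2_c19 LD3_c38)) = (LP (LK LD1_c5 LD2_c15 LD3_c5)) :=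
  Lre_g IH (LK LD1_c10 LD2_c19 LD3_c38) (LK LD1_c5 LD2_c15 LD3_c5) Lrfl Lrfl
theorem f317711 : Led Lsl_dt (LP (LK LD1_c10 LD2_c46 LD3_c4)) = (LP (LK LD1_c10 LD2_c19 LD3_c38)) :=
  Lgr Lrot136 (Lpr_et (f317710 IH) (Lpe (f295207 IH) (Lpe (K18.f278103 IH) (Lpr_dt (K18.f278088 IH) (Lpe (K16.f174977 IH) (Lpe (K14.f196999 IH) (Lpe (K17.f197004 IH) (Lpe (K20.f244864 IH) (Lpr_dt (K20.f317697 IH) (Lpe (f214827 IH) (Lpn (LP (LK LD1_c10 LD2_c19 LD3_c38)))))))))))))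
theorem f324256 : Led Lsl_gt (LP (LK LD1_c5 LD2_c15 LD3_c51)) = (LP (LK LD1_c10 LD2_c19 LD3_c38)) :=
  Lgr Lrot112 (Lpe (K20.f322846 IH) (Lpe (f324243 IH) (Lpr_gf (f324249 IH) (Lpr_ef (f323967 IH) (Lpr_dt (f323964 IH) (Lpe (f323961 IH) (Lpe (K10.f45598 IH) (Lpr_gf (f295208 IH) (Lpe (f317710 IH) (Lpr_dt (f317711 IH) (Lpn (LP (LK LD1_c10 LD2_c19 LD3_c38)))))))))))))
theorem f286448 : Led Lsl_at (LP (LK LD1_c16 LD2_c44 LD3_c19)) = (LP (LK LD1_c10 LD2_c46 LD3_c60)) :=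
  Lgr Lrot100 (Lpr_af (K17.f286445 IH) (Lpn (LP (LK LD1_c10 LD2_c46 LD3_c60))))
theorem f243741 : Led Lsl_gt (LP (LK LD1_c19 LD2_c30 LD3_c24)) = (LP (LK LD1_c10 LD2_c46 LD3_c60)) :=
  Lre_g IH (LK LD1_c19 LD2_c30 LD3_c24) (LK LD1_c10 LD2_c46 LD3_c60) Lrfl Lrfl
theorem f286477 : Led Lsl_gf (LP (LK LD1_c19 LD2_c30 LD3_c24)) = (LP (LK LD1_c20 LD2_c59 LD3_c58)) :=
  Lgr Lrot47 (Lpr_gt (f243741 IH) (Lpe (f286448 IH) (Lpr_ff (K17.f286467 IH) (Lpn (LP (LK LD1_c20 LD2_c59 LD3_c58))))))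
theorem f317714 : Led Lsl_df (LP (LK LD1_c10 LD2_c46 LD3_c4)) = (LP (LK LD1_c10 LD2_c19 LD3_c38)) :=
  Lgr Lrot38 (Lpr_dt (f317711 IH) (Lpn (LP (LK LD1_c10 LD2_c19 LD3_c38))))
theorem f317713 : Led Lsl_ct (LP (LK LD1_c19 LD2_c28 LD3_c24)) = (LP (LK LD1_c10 LD2_c46 LD3_c4)) :=
  Lre_c IH (LK LD1_c19 LD2_c28 LD3_c24) (LK LD1_c10 LD2_c46 LD3_c4) Lrfl Lrfl
theorem f324260 : Led Lsl_dt (LP (LK LD1_c19 LD2_c30 LD3_c24)) = (LP (LK LD1_c19 LD2_c28 LD3_c24)) :=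
  Lgr Lrot105 (Lpr_gf (f286477 IH) (Lpe (K17.f231881 IH) (Lpe (K17.f231699 IH) (Lpe (K20.f169510 IH) (Lpr_gt (K20.f169526 IH) (Lpr_dt (K20.f322846 IH) (Lpr_gt (f324256 IH) (Lpe (f317714 IH) (Lpe (f317713 IH) (Lpn (LP (LK LD1_c19 LD2_c28 LD3_c24))))))))))))
theorem f324262 : Led Lsl_df (LP (LK LD1_c19 LD2_c30 LD3_c24)) = (LP (LK LD1_c19 LD2_c28 LD3_c24)) :=
  Lgr Lrot38 (Lpr_dt (f324260 IH) (Lpn (LP (LK LD1_c19 LD2_c28 LD3_c24))))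
theorem f183787 : Led Lsl_et (LP (LK LD1_c6 LD2_c6 LD3_c17)) = (LP (LK LD1_c11 LD2_c55 LD3_c55)) :=
  Lre_e IH (LK LD1_c6 LD2_c6 LD3_c17) (LK LD1_c11 LD2_c55 LD3_c55) Lrfl Lrfl
theorem f324264 : Led Lsl_et (LP (LK LD1_c19 LD2_c28 LD3_c24)) = (LP (LK LD1_c10 LD2_c46 LD3_c2)) :=
  Lre_e IH (LK LD1_c19 LD2_c28 LD3_c24) (LK LD1_c10 LD2_c46 LD3_c2) Lrfl Lrfl
theorem f324272 : Led Lsl_gf (LP (LK LD1_c11 LD2_c55 LD3_c55)) = (LP (LK LD1_c10 LD2_c46 LD3_c2)) :=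
  Lgr Lrot141 (Lpe (f183787 IH) (Lpe (K13.f231691 IH) (Lpr_gt (K13.f179043 IH) (Lpe (K15.f231697 IH) (Lpr_et (K16.f231698 IH) (Lpr_gt (K17.f231699 IH) (Lpr_dt (K17.f231881 IH) (Lpe (f286477 IH) (Lpr_df (f324262 IH) (Lpr_et (f324264 IH) (Lpn (LP (LK LD1_c10 LD2_c46 LD3_c2)))))))))))))
theorem f183789 : Led Lsl_et (LP (LK LD1_c8 LD2_c27 LD3_c14)) = (LP (LK LD1_c4 LD2_c14 LD3_c17)) :=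
  Lre_e IH (LK LD1_c8 LD2_c27 LD3_c14) (LK LD1_c4 LD2_c14 LD3_c17) Lrfl Lrfl
theorem f183790 : Led Lsl_ft (LP (LK LD1_c11 LD2_c55 LD3_c55)) = (LP (LK LD1_c8 LD2_c27 LD3_c14)) :=
  Lgr Lrot86 (Lpe (f183787 IH) (Lpr_ff (K11.f183780 IH) (Lpe (K11.f50903 IH) (Lpe (K12.f183788 IH) (Lpe (f183789 IH) (Lpn (LP (LK LD1_c8 LD2_c27 LD3_c14))))))))
theorem f27435 : Led Lsl_ct (LP (LK LD1_c8 LD2_c27 LD3_c14)) = (LP (LK LD1_c4 LD2_c14 LD3_c18)) :=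
  Lre_c IH (LK LD1_c8 LD2_c27 LD3_c14) (LK LD1_c4 LD2_c14 LD3_c18) Lrfl Lrfl
theorem f183792 : Led Lsl_cf (LP (LK LD1_c11 LD2_c55 LD3_c55)) = (LP (LK LD1_c8 LD2_c26 LD3_c31)) :=
  Lgr Lrot108 (Lpr_ft (f183790 IH) (Lpr_ct (f27435 IH) (Lpr_ft (K11.f27424 IH) (Lpn (LP (LK LD1_c8 LD2_c26 LD3_c31))))))
theorem f323352 : Led Lsl_bf (LP (LK LD1_c5 LD2_c38 LD3_c52)) = (LP (LK LD1_c8 LD2_c38 LD3_c1)) :=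
  Lgr Lrot24 (Lpr_bt (f323349 IH) (Lpn (LP (LK LD1_c8 LD2_c38 LD3_c1))))
theorem f28499 : Led Lsl_ct (LP (LK LD1_c8 LD2_c38 LD3_c1)) = (LP (LK LD1_c16 LD2_c10 LD3_c20)) :=
  Lre_c IH (LK LD1_c8 LD2_c38 LD3_c1) (LK LD1_c16 LD2_c10 LD3_c20) Lrfl Lrfl
theorem f324006 : Led Lsl_ct (LP (LK LD1_c5 LD2_c27 LD3_c29)) = (LP (LK LD1_c10 LD2_c46 LD3_c2)) :=
  Lre_c IH (LK LD1_c5 LD2_c27 LD3_c29) (LK LD1_c10 LD2_c46 LD3_c2) Lrfl Lrfl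
theorem f295188 : Led Lsl_bt (LP (LK LD1_c5 LD2_c23 LD3_c23)) = (LP (LK LD1_c2 LD2_c40 LD3_c6)) :=
  Lgr Lrot119 (Lpe (K17.f235552 IH) (Lpr_bf (K18.f295179 IH) (Lpe (K18.f278104 IH) (Lpn (LP (LK LD1_c2 LD2_c40 LD3_c6))))))
theorem f324276 : Led Lsl_gt (LP (LK LD1_c16 LD2_c10 LD3_c20)) = (LP (LK LD1_c9 LD2_c43 LD3_c47)) :=
  Lgr Lrot65 (Lpe (f28499 IH) (Lpe (f323352 IH) (Lpe (K14.f224238 IH) (Lpe (K18.f27419 IH) (Lpe (f183792 IH) (Lpr_gf (f324272 IH) (Lpe (f324006 IH) (Lpe (f295207 IH) (Lpe (f295188 IH) (Lpr_ct (f235553 IH) (Lpn (LP (LK LD1_c9 LD2_c43 LD3_c47)))))))))))))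
theorem f235241 : Led Lsl_at (LP (LK LD1_c11 LD2_c2 LD3_c34)) = (LP (LK LD1_c9 LD2_c43 LD3_c47)) :=
  Lgr Lrot80 (Lpe (K16.f235240 IH) (Lpr_af (K13.f235231 IH) (Lpe (f235220 IH) (Lpn (LP (LK LD1_c9 LD2_c43 LD3_c47))))))
theorem f213750 : Led Lsl_et (LP (LK LD1_c11 LD2_c2 LD3_c34)) = (LP (LK LD1_c5 LD2_c35 LD3_c12)) :=
  Lre_e IH (LK LD1_c11 LD2_c2 LD3_c34) (LK LD1_c5 LD2_c35 LD3_c12) Lrfl Lrfl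
theorem f31256 : Led Lsl_et (LP (LK LD1_c4 LD2_c20 LD3_c60)) = (LP (LK LD1_c8 LD2_c39 LD3_c42)) :=
  Lre_e IH (LK LD1_c4 LD2_c20 LD3_c60) (LK LD1_c8 LD2_c39 LD3_c42) Lrfl Lrfl
theorem f235249 : Led Lsl_ff (LP (LK LD1_c11 LD2_c2 LD3_c34)) = (LP (LK LD1_c8 LD2_c39 LD3_c42)) :=
  Lgr Lrot72 (Lpr_et (f213750 IH) (Lpr_ft (K13.f235243 IH) (Lpr_et (K14.f31419 IH) (Lpr_ft (K10.f31274 IH) (Lpr_et (f31256 IH) (Lpn (LP (LK LD1_c8 LD2_c39 LD3_c42))))))))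
theorem f324278 : Led Lsl_gf (LP (LK LD1_c16 LD2_c10 LD3_c20)) = (LP (LK LD1_c8 LD2_c39 LD3_c42)) :=
  Lgr Lrot47 (Lpr_gt (f324276 IH) (Lpe (f235241 IH) (Lpr_ff (f235249 IH) (Lpn (LP (LK LD1_c8 LD2_c39 LD3_c42))))))
theorem f299071 : Led Lsl_cf (LP (LK LD1_c8 LD2_c28 LD3_c32)) = (LP (LK LD1_c8 LD2_c3 LD3_c6)) :=
  Lgr Lrot11 (Lpr_ct (K19.f299068 IH) (Lpn (LP (LK LD1_c8 LD2_c3 LD3_c6))))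
theorem f299070 : Led Lsl_bt (LP (LK LD1_c8 LD2_c3 LD3_c6)) = (LP (LK LD1_c15 LD2_c9 LD3_c36)) :=
  Lre_b IH (LK LD1_c8 LD2_c3 LD3_c6) (LK LD1_c15 LD2_c9 LD3_c36) Lrfl Lrfl
theorem f324294 : Led Lsl_gt (LP (LK LD1_c15 LD2_c9 LD3_c36)) = (LP (LK LD1_c8 LD2_c39 LD3_c29)) :=
  Lgr Lrot164 (Lpe (f299070 IH) (Lpe (f299071 IH) (Lpe (K19.f52899 IH) (Lpr_cf (K19.f224234 IH) (Lpe (K14.f194681 IH) (Lpr_bf (f323352 IH) (Lpr_ct (f28499 IH) (Lpr_gf (f324278 IH) (Lpe (K10.f31218 IH) (Lpr_bt (K11.f31217 IH) (Lpn (LP (LK LD1_c8 LD2_c39 LD3_c29)))))))))))))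
theorem f170924 : Led Lsl_ct (LP (LK LD1_c2 LD2_c3 LD3_c32)) = (LP (LK LD1_c4 LD2_c12 LD3_c38)) :=
  Lre_c IH (LK LD1_c2 LD2_c3 LD3_c32) (LK LD1_c4 LD2_c12 LD3_c38) Lrfl Lrfl
theorem f306924 : Led Lsl_ct (LP (LK LD1_c4 LD2_c11 LD3_c17)) = (LP (LK LD1_c2 LD2_c23 LD3_c53)) :=
  Lgr Lrot8 (Lpr_gt (K20.f170868 IH) (Lpr_dt (K20.f170604 IH) (Lpr_gt (K20.f170920 IH) (Lpr_dt (K20.f170925 IH) (Lpe (f170924 IH) (Lpr_df (K20.f212554 IH) (Lpe (K18.f212624 IH) (Lpr_df (K19.f306899 IH) (Lpe (K19.f306906 IH) (Lpn (LP (LK LD1_c2 LD2_c23 LD3_c53))))))))))))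
theorem f306911 : Led Lsl_dt (LP (LK LD1_c2 LD2_c23 LD3_c53)) = (LP (LK LD1_c4 LD2_c52 LD3_c17)) :=
  Lre_d IH (LK LD1_c2 LD2_c23 LD3_c53) (LK LD1_c4 LD2_c52 LD3_c17) Lrfl Lrfl
theorem f309882 : Led Lsl_et (LP (LK LD1_c2 LD2_c43 LD3_c21)) = (LP (LK LD1_c5 LD2_c34 LD3_c56)) :=
  Lre_e IH (LK LD1_c2 LD2_c43 LD3_c21) (LK LD1_c5 LD2_c34 LD3_c56) Lrfl Lrfl
theorem f309883 : Led Lsl_cf (LP (LK LD1_c4 LD2_c52 LD3_c17)) = (LP (LK LD1_c5 LD2_c34 LD3_c56)) :=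
  Lgr Lrot39 (Lpe (K19.f306908 IH) (Lpr_ct (K19.f309875 IH) (Lpr_et (f309882 IH) (Lpn (LP (LK LD1_c5 LD2_c34 LD3_c56))))))
theorem f195720 : Led Lsl_dt (LP (LK LD1_c4 LD2_c11 LD3_c21)) = (LP (LK LD1_c2 LD2_c2 LD3_c53)) :=
  Lre_d IH (LK LD1_c4 LD2_c11 LD3_c21) (LK LD1_c2 LD2_c2 LD3_c53) Lrfl Lrfl
theorem f195709 : Led Lsl_df (LP (LK LD1_c6 LD2_c6 LD3_c28)) = (LP (LK LD1_c5 LD2_c12 LD3_c12)) :=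
  Lgr Lrot38 (Lpr_dt (K19.f195707 IH) (Lpn (LP (LK LD1_c5 LD2_c12 LD3_c12))))
theorem f309705 : Led Lsl_et (LP (LK LD1_c5 LD2_c5 LD3_c35)) = (LP (LK LD1_c5 LD2_c12 LD3_c12)) :=
  Lgr Lrot71 (Lpe (K20.f179053 IH) (Lpe (K19.f179057 IH) (Lpr_df (K19.f309701 IH) (Lpe (K19.f195706 IH) (Lpr_df (f195709 IH) (Lpn (LP (LK LD1_c5 LD2_c12 LD3_c12))))))))
theorem f309707 : Led Lsl_ef (LP (LK LD1_c5 LD2_c5 LD3_c35)) = (LP (LK LD1_c5 LD2_c12 LD3_c12)) :=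
  Lgr Lrot88 (Lpr_et (f309705 IH) (Lpn (LP (LK LD1_c5 LD2_c12 LD3_c12))))
theorem f267791 : Led Lsl_df (LP (LK LD1_c0 LD2_c59 LD3_c59)) = (LP (LK LD1_c0 LD2_c34 LD3_c46)) :=
  Lgr Lrot162 (Lpr_cf (K15.f169428 IH) (Lpr_gf (K15.f267787 IH) (Lpe (K10.f177186 IH) (Lpr_gf (K10.f185823 IH) (Lpr_dt (K9.f171208 IH) (Lpr_gt (K9.f20822 IH) (Lpr_ct (K8.f21379 IH) (Lpr_gt (K10.f21996 IH) (Lpr_ct (K10.f185181 IH) (Lpn (LP (LK LD1_c0 LD2_c34 LD3_c46))))))))))))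
theorem f185442 : Led Lsl_gt (LP (LK LD1_c1 LD2_c14 LD3_c58)) = (LP (LK LD1_c2 LD2_c35 LD3_c52)) :=
  Lre_g IH (LK LD1_c1 LD2_c14 LD3_c58) (LK LD1_c2 LD2_c35 LD3_c52) Lrfl Lrfl
theorem f185443 : Led Lsl_dt (LP (LK LD1_c2 LD2_c35 LD3_c52)) = (LP (LK LD1_c5 LD2_c18 LD3_c27)) :=
  Lre_d IH (LK LD1_c2 LD2_c35 LD3_c52) (LK LD1_c5 LD2_c18 LD3_c27) Lrfl Lrfl
theorem f309714 : Led Lsl_gt (LP (LK LD1_c5 LD2_c18 LD3_c27)) = (LP (LK LD1_c6 LD2_c6 LD3_c28)) :=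
  Lgr Lrot139 (Lpe (f185443 IH) (Lpe (f185442 IH) (Lpe (K15.f185189 IH) (Lpe (f267791 IH) (Lpe (K14.f250014 IH) (Lpr_df (K9.f169450 IH) (Lpr_et (K9.f169454 IH) (Lpe (K20.f169475 IH) (Lpr_ef (f309707 IH) (Lpe (f195709 IH) (Lpn (LP (LK LD1_c6 LD2_c6 LD3_c28)))))))))))))
theorem f167688 : Led Lsl_dt (LP (LK LD1_c2 LD2_c2 LD3_c55)) = (LP (LK LD1_c0 LD2_c58 LD3_c21)) :=
  Lre_d IH (LK LD1_c2 LD2_c2 LD3_c55) (LK LD1_c0 LD2_c58 LD3_c21) Lrfl Lrfl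
theorem f309723 : Led Lsl_ef (LP (LK LD1_c5 LD2_c18 LD3_c27)) = (LP (LK LD1_c4 LD2_c11 LD3_c21)) :=
  Lgr Lrot167 (Lpr_gt (f309714 IH) (Lpr_dt (K19.f195707 IH) (Lpr_gt (K19.f185639 IH) (Lpr_df (K14.f185632 IH) (Lpr_et (K12.f185626 IH) (Lpe (K12.f195601 IH) (Lpr_ef (K16.f195714 IH) (Lpr_dt (f167688 IH) (Lpr_gt (K20.f167685 IH) (Lpe (f195720 IH) (Lpn (LP (LK LD1_c4 LD2_c11 LD3_c21)))))))))))))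
theorem f309731 : Led Lsl_et (LP (LK LD1_c5 LD2_c18 LD3_c27)) = (LP (LK LD1_c4 LD2_c11 LD3_c21)) :=
  Lgr Lrot87 (Lpr_ef (f309723 IH) (Lpn (LP (LK LD1_c4 LD2_c11 LD3_c21))))
theorem f309718 : Led Lsl_dt (LP (LK LD1_c5 LD2_c18 LD3_c27)) = (LP (LK LD1_c2 LD2_c35 LD3_c52)) :=
  Lre_d IH (LK LD1_c5 LD2_c18 LD3_c27) (LK LD1_c2 LD2_c35 LD3_c52) Lrfl Lrfl
theorem f185472 : Led Lsl_ft (LP (LK LD1_c1 LD2_c14 LD3_c58)) = (LP (LK LD1_c2 LD2_c35 LD3_c54)) :=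
  Lre_f IH (LK LD1_c1 LD2_c14 LD3_c58) (LK LD1_c2 LD2_c35 LD3_c54) Lrfl Lrfl
theorem f276190 : Led Lsl_dt (LP (LK LD1_c1 LD2_c17 LD3_c0)) = (LP (LK LD1_c1 LD2_c14 LD3_c58)) :=
  Lgr Lrot60 (Lpr_ff (K16.f276148 IH) (Lpr_df (K16.f267861 IH) (Lpe (f185472 IH) (Lpn (LP (LK LD1_c1 LD2_c14 LD3_c58))))))
theorem f179119 : Led Lsl_gt (LP (LK LD1_c2 LD2_c41 LD3_c42)) = (LP (LK LD1_c1 LD2_c17 LD3_c30)) :=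
  Lre_g IH (LK LD1_c2 LD2_c41 LD3_c42) (LK LD1_c1 LD2_c17 LD3_c30) Lrfl Lrfl
theorem f178866 : Led Lsl_ft (LP (LK LD1_c0 LD2_c26 LD3_c27)) = (LP (LK LD1_c0 LD2_c58 LD3_c18)) :=
  Lre_f IH (LK LD1_c0 LD2_c26 LD3_c27) (LK LD1_c0 LD2_c58 LD3_c18) Lrfl Lrfl
theorem f254983 : Led Lsl_af (LP (LK LD1_c1 LD2_c0 LD3_c5)) = (LP (LK LD1_c0 LD2_c58 LD3_c18)) :=
  Lgr Lrot31 (Lpr_gf (K14.f254981 IH) (Lpe (K9.f178848 IH) (Lpr_ft (f178866 IH) (Lpn (LP (LK LD1_c0 LD2_c58 LD3_c18))))))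
theorem f267717 : Led Lsl_dt (LP (LK LD1_c0 LD2_c35 LD3_c37)) = (LP (LK LD1_c0 LD2_c58 LD3_c18)) :=
  Lgr Lrot44 (Lpr_af (K15.f267711 IH) (Lpe (K14.f254985 IH) (Lpr_af (f254983 IH) (Lpn (LP (LK LD1_c0 LD2_c58 LD3_c18))))))
theorem f267728 : Led Lsl_gt (LP (LK LD1_c0 LD2_c58 LD3_c18)) = (LP (LK LD1_c0 LD2_c39 LD3_c15)) :=
  Lgr Lrot49 (Lpe (f267717 IH) (Lpr_gf (K15.f267724 IH) (Lpe (K12.f168180 IH) (Lpe (K12.f225246 IH) (Lpr_dt (K12.f173950 IH) (Lpr_gt (K12.f225338 IH) (Lpr_dt (K12.f169279 IH) (Lpe (K9.f167786 IH) (Lpe (K9.f181788 IH) (Lpn (LP (LK LD1_c0 LD2_c39 LD3_c15))))))))))))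
theorem f181802 : Led Lsl_et (LP (LK LD1_c0 LD2_c28 LD3_c42)) = (LP (LK LD1_c1 LD2_c2 LD3_c59)) :=
  Lre_e IH (LK LD1_c0 LD2_c28 LD3_c42) (LK LD1_c1 LD2_c2 LD3_c59) Lrfl Lrfl
theorem f181804 : Led Lsl_gt (LP (LK LD1_c1 LD2_c2 LD3_c59)) = (LP (LK LD1_c2 LD2_c12 LD3_c1)) :=
  Lre_g IH (LK LD1_c1 LD2_c2 LD3_c59) (LK LD1_c2 LD2_c12 LD3_c1) Lrfl Lrfl
theorem f181805 : Led Lsl_et (LP (LK LD1_c4 LD2_c30 LD3_c1)) = (LP (LK LD1_c2 LD2_c12 LD3_c1)) :=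
  Lre_e IH (LK LD1_c4 LD2_c30 LD3_c1) (LK LD1_c2 LD2_c12 LD3_c1) Lrfl Lrfl
theorem f267743 : Led Lsl_dt (LP (LK LD1_c4 LD2_c30 LD3_c1)) = (LP (LK LD1_c2 LD2_c41 LD3_c42)) :=
  Lgr Lrot136 (Lpr_et (f181805 IH) (Lpe (f181804 IH) (Lpe (f181802 IH) (Lpe (K9.f181218 IH) (Lpe (f267728 IH) (Lpe (f267717 IH) (Lpr_gf (K15.f267724 IH) (Lpe (K20.f179132 IH) (Lpr_dt (K20.f179133 IH) (Lpe (f179119 IH) (Lpn (LP (LK LD1_c2 LD2_c41 LD3_c42)))))))))))))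
theorem f309738 : Led Lsl_gf (LP (LK LD1_c4 LD2_c30 LD3_c1)) = (LP (LK LD1_c4 LD2_c11 LD3_c21)) :=
  Lgr Lrot138 (Lpr_dt (f267743 IH) (Lpr_gt (f179119 IH) (Lpe (K20.f179133 IH) (Lpr_et (K20.f179132 IH) (Lpe (K15.f267724 IH) (Lpe (K18.f228677 IH) (Lpr_dt (f276190 IH) (Lpr_gt (f185442 IH) (Lpe (f309718 IH) (Lpr_et (f309731 IH) (Lpn (LP (LK LD1_c4 LD2_c11 LD3_c21)))))))))))))
theorem f276178 : Led Lsl_ct (LP (LK LD1_c4 LD2_c30 LD3_c1)) = (LP (LK LD1_c8 LD2_c58 LD3_c11)) :=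
  Lre_c IH (LK LD1_c4 LD2_c30 LD3_c1) (LK LD1_c8 LD2_c58 LD3_c11) Lrfl Lrfl
theorem f310333 : Led Lsl_gf (LP (LK LD1_c5 LD2_c34 LD3_c56)) = (LP (LK LD1_c8 LD2_c58 LD3_c11)) :=
  Lgr Lrot104 (Lpe (f309883 IH) (Lpe (f306911 IH) (Lpe (f306924 IH) (Lpr_gf (K20.f310331 IH) (Lpe (K20.f310207 IH) (Lpe (K20.f310285 IH) (Lpe (f195720 IH) (Lpe (f309738 IH) (Lpr_ct (f276178 IH) (Lpn (LP (LK LD1_c8 LD2_c58 LD3_c11))))))))))))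
theorem f304299 : Led Lsl_dt (LP (LK LD1_c5 LD2_c34 LD3_c56)) = (LP (LK LD1_c11 LD2_c2 LD3_c10)) :=
  Lre_d IH (LK LD1_c5 LD2_c34 LD3_c56) (LK LD1_c11 LD2_c2 LD3_c10) Lrfl Lrfl
theorem f183266 : Led Lsl_et (LP (LK LD1_c0 LD2_c16 LD3_c1)) = (LP (LK LD1_c0 LD2_c35 LD3_c57)) :=
  Lre_e IH (LK LD1_c0 LD2_c16 LD3_c1) (LK LD1_c0 LD2_c35 LD3_c57) Lrfl Lrfl
theorem f183268 : Led Lsl_gt (LP (LK LD1_c0 LD2_c35 LD3_c57)) = (LP (LK LD1_c1 LD2_c17 LD3_c51)) :=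
  Lre_g IH (LK LD1_c0 LD2_c35 LD3_c57) (LK LD1_c1 LD2_c17 LD3_c51) Lrfl Lrfl
theorem f169491 : Led Lsl_ft (LP (LK LD1_c2 LD2_c59 LD3_c6)) = (LP (LK LD1_c1 LD2_c25 LD3_c16)) :=
  Lre_f IH (LK LD1_c2 LD2_c59 LD3_c6) (LK LD1_c1 LD2_c25 LD3_c16) Lrfl Lrfl
theorem f264388 : Led Lsl_et (LP (LK LD1_c2 LD2_c39 LD3_c29)) = (LP (LK LD1_c2 LD2_c59 LD3_c6)) :=
  Lgr Lrot69 (Lpe (K15.f264387 IH) (Lpe (K15.f183252 IH) (Lpr_ff (K15.f264379 IH) (Lpe (K9.f169453 IH) (Lpe (f169491 IH) (Lpn (LP (LK LD1_c2 LD2_c59 LD3_c6))))))))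
theorem f264611 : Led Lsl_gt (LP (LK LD1_c2 LD2_c12 LD3_c1)) = (LP (LK LD1_c1 LD2_c17 LD3_c53)) :=
  Lgr Lrot46 (Lpe (f181804 IH) (Lpr_ft (K15.f264520 IH) (Lpr_at (K15.f264594 IH) (Lpn (LP (LK LD1_c1 LD2_c17 LD3_c53))))))
theorem f276155 : Led Lsl_dt (LP (LK LD1_c1 LD2_c17 LD3_c51)) = (LP (LK LD1_c2 LD2_c12 LD3_c1)) :=
  Lgr Lrot171 (Lpe (f183268 IH) (Lpe (f183266 IH) (Lpe (K9.f183243 IH) (Lpe (K16.f254963 IH) (Lpr_df (K14.f253471 IH) (Lpr_et (K14.f225839 IH) (Lpr_gf (K16.f276146 IH) (Lpe (f264388 IH) (Lpr_dt (K15.f264621 IH) (Lpe (f264611 IH) (Lpn (LP (LK LD1_c2 LD2_c12 LD3_c1)))))))))))))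
theorem f276158 : Led Lsl_df (LP (LK LD1_c1 LD2_c17 LD3_c51)) = (LP (LK LD1_c2 LD2_c12 LD3_c1)) :=
  Lgr Lrot38 (Lpr_dt (f276155 IH) (Lpn (LP (LK LD1_c2 LD2_c12 LD3_c1))))
theorem f264646 : Led Lsl_gt (LP (LK LD1_c2 LD2_c39 LD3_c28)) = (LP (LK LD1_c1 LD2_c16 LD3_c30)) :=
  Lre_g IH (LK LD1_c2 LD2_c39 LD3_c28) (LK LD1_c1 LD2_c16 LD3_c30) Lrfl Lrfl
theorem f264673 : Led Lsl_et (LP (LK LD1_c5 LD2_c26 LD3_c5)) = (LP (LK LD1_c2 LD2_c39 LD3_c28)) :=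
  Lre_e IH (LK LD1_c5 LD2_c26 LD3_c5) (LK LD1_c2 LD2_c39 LD3_c28) Lrfl Lrfl
theorem f264635 : Led Lsl_gt (LP (LK LD1_c1 LD2_c16 LD3_c30)) = (LP (LK LD1_c2 LD2_c39 LD3_c27)) :=
  Lre_g IH (LK LD1_c1 LD2_c16 LD3_c30) (LK LD1_c2 LD2_c39 LD3_c27) Lrfl Lrfl
theorem f264647 : Led Lsl_df (LP (LK LD1_c2 LD2_c39 LD3_c28)) = (LP (LK LD1_c2 LD2_c39 LD3_c27)) :=
  Lgr Lrot135 (Lpr_gt (f264646 IH) (Lpr_df (K15.f264627 IH) (Lpr_et (K15.f183253 IH) (Lpr_gt (K9.f168089 IH) (Lpe (K0.f8541 IH) (Lpr_dt (K0.f8387 IH) (Lpr_gt (K9.f8470 IH) (Lpe (K9.f166130 IH) (Lpr_et (K15.f183252 IH) (Lpr_gt (f264635 IH) (Lpn (LP (LK LD1_c2 LD2_c39 LD3_c27)))))))))))))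
theorem f264649 : Led Lsl_et (LP (LK LD1_c0 LD2_c15 LD3_c57)) = (LP (LK LD1_c0 LD2_c35 LD3_c39)) :=
  Lre_e IH (LK LD1_c0 LD2_c15 LD3_c57) (LK LD1_c0 LD2_c35 LD3_c39) Lrfl Lrfl
theorem f8553 : Led Lsl_gt (LP (LK LD1_c0 LD2_c35 LD3_c39)) = (LP (LK LD1_c1 LD2_c17 LD3_c6)) :=
  Lre_g IH (LK LD1_c0 LD2_c35 LD3_c39) (LK LD1_c1 LD2_c17 LD3_c6) Lrfl Lrfl
theorem f264650 : Led Lsl_et (LP (LK LD1_c2 LD2_c39 LD3_c27)) = (LP (LK LD1_c1 LD2_c17 LD3_c6)) :=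
  Lgr Lrot122 (Lpe (f264647 IH) (Lpr_gt (f264646 IH) (Lpr_df (K15.f264627 IH) (Lpr_et (K15.f183253 IH) (Lpr_gt (K9.f168089 IH) (Lpr_dt (K9.f168090 IH) (Lpr_gt (K0.f7709 IH) (Lpe (K13.f8425 IH) (Lpr_et (f264649 IH) (Lpr_gt (f8553 IH) (Lpn (LP (LK LD1_c1 LD2_c17 LD3_c6)))))))))))))
theorem f264653 : Led Lsl_ef (LP (LK LD1_c2 LD2_c39 LD3_c27)) = (LP (LK LD1_c1 LD2_c17 LD3_c6)) :=
  Lgr Lrot88 (Lpr_et (f264650 IH) (Lpn (LP (LK LD1_c1 LD2_c17 LD3_c6))))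
theorem f7767 : Led Lsl_et (LP (LK LD1_c0 LD2_c35 LD3_c39)) = (LP (LK LD1_c0 LD2_c15 LD3_c57)) :=
  Lre_e IH (LK LD1_c0 LD2_c35 LD3_c39) (LK LD1_c0 LD2_c15 LD3_c57) Lrfl Lrfl
theorem f8427 : Led Lsl_df (LP (LK LD1_c0 LD2_c35 LD3_c39)) = (LP (LK LD1_c1 LD2_c16 LD3_c40)) :=
  Lgr Lrot70 (Lpr_et (f7767 IH) (Lpr_dt (K13.f8425 IH) (Lpr_et (K0.f7737 IH) (Lpr_dt (K0.f8389 IH) (Lpr_et (K19.f8426 IH) (Lpn (LP (LK LD1_c1 LD2_c16 LD3_c40))))))))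
theorem f264657 : Led Lsl_gt (LP (LK LD1_c1 LD2_c17 LD3_c7)) = (LP (LK LD1_c0 LD2_c35 LD3_c39)) :=
  Lre_g IH (LK LD1_c1 LD2_c17 LD3_c7) (LK LD1_c0 LD2_c35 LD3_c39) Lrfl Lrfl
theorem f264658 : Led Lsl_df (LP (LK LD1_c1 LD2_c17 LD3_c7)) = (LP (LK LD1_c1 LD2_c17 LD3_c6)) :=
  Lgr Lrot170 (Lpr_gt (f264657 IH) (Lpr_df (f8427 IH) (Lpr_et (K19.f8552 IH) (Lpr_gt (K0.f8388 IH) (Lpr_dt (K0.f8387 IH) (Lpr_gt (K9.f8470 IH) (Lpe (K9.f166130 IH) (Lpr_et (K15.f183252 IH) (Lpr_gt (f264635 IH) (Lpr_ef (f264653 IH) (Lpn (LP (LK LD1_c1 LD2_c17 LD3_c6)))))))))))))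
theorem f264660 : Led Lsl_dt (LP (LK LD1_c1 LD2_c17 LD3_c7)) = (LP (LK LD1_c1 LD2_c17 LD3_c6)) :=
  Lgr Lrot42 (Lpr_df (f264658 IH) (Lpn (LP (LK LD1_c1 LD2_c17 LD3_c6))))
theorem f264668 : Led Lsl_et (LP (LK LD1_c2 LD2_c40 LD3_c53)) = (LP (LK LD1_c1 LD2_c17 LD3_c7)) :=
  Lre_e IH (LK LD1_c2 LD2_c40 LD3_c53) (LK LD1_c1 LD2_c17 LD3_c7) Lrfl Lrfl
theorem f264656 : Led Lsl_et (LP (LK LD1_c2 LD2_c39 LD3_c28)) = (LP (LK LD1_c5 LD2_c26 LD3_c5)) :=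
  Lre_e IH (LK LD1_c2 LD2_c39 LD3_c28) (LK LD1_c5 LD2_c26 LD3_c5) Lrfl Lrfl
theorem f264669 : Led Lsl_df (LP (LK LD1_c2 LD2_c40 LD3_c53)) = (LP (LK LD1_c5 LD2_c26 LD3_c5)) :=
  Lgr Lrot70 (Lpr_et (f264668 IH) (Lpr_dt (f264660 IH) (Lpe (f264653 IH) (Lpe (f264647 IH) (Lpr_et (f264656 IH) (Lpn (LP (LK LD1_c5 LD2_c26 LD3_c5))))))))
theorem f264674 : Led Lsl_gf (LP (LK LD1_c2 LD2_c40 LD3_c53)) = (LP (LK LD1_c2 LD2_c43 LD3_c29)) :=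
  Lgr Lrot134 (Lpr_df (f264669 IH) (Lpr_et (f264673 IH) (Lpr_gt (f264646 IH) (Lpe (K15.f183252 IH) (Lpr_dt (K9.f166130 IH) (Lpr_gt (K10.f183207 IH) (Lpe (K9.f8449 IH) (Lpr_et (K0.f8499 IH) (Lpr_gt (K15.f8594 IH) (Lpr_dt (K19.f8597 IH) (Lpn (LP (LK LD1_c2 LD2_c43 LD3_c29)))))))))))))
theorem f276160 : Led Lsl_et (LP (LK LD1_c2 LD2_c12 LD3_c1)) = (LP (LK LD1_c4 LD2_c30 LD3_c1)) :=
  Lre_e IH (LK LD1_c2 LD2_c12 LD3_c1) (LK LD1_c4 LD2_c30 LD3_c1) Lrfl Lrfl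
theorem f276175 : Led Lsl_gf (LP (LK LD1_c2 LD2_c43 LD3_c30)) = (LP (LK LD1_c4 LD2_c30 LD3_c1)) :=
  Lgr Lrot141 (Lpe (K19.f181820 IH) (Lpr_dt (K19.f8597 IH) (Lpe (f264674 IH) (Lpr_df (f264669 IH) (Lpr_et (f264673 IH) (Lpr_gt (f264646 IH) (Lpr_dt (K15.f183254 IH) (Lpr_gt (f183268 IH) (Lpr_df (f276158 IH) (Lpr_et (f276160 IH) (Lpn (LP (LK LD1_c4 LD2_c30 LD3_c1)))))))))))))
theorem f181826 : Led Lsl_dt (LP (LK LD1_c8 LD2_c22 LD3_c30)) = (LP (LK LD1_c4 LD2_c11 LD3_c23)) :=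
  Lre_d IH (LK LD1_c8 LD2_c22 LD3_c30) (LK LD1_c4 LD2_c11 LD3_c23) Lrfl Lrfl
theorem f310341 : Led Lsl_gt (LP (LK LD1_c11 LD2_c2 LD3_c10)) = (LP (LK LD1_c8 LD2_c22 LD3_c30)) :=
  Lgr Lrot49 (Lpe (f304299 IH) (Lpr_gf (f310333 IH) (Lpe (f276178 IH) (Lpe (f276175 IH) (Lpe (K19.f181821 IH) (Lpr_gt (K19.f167664 IH) (Lpr_dt (K13.f1390 IH) (Lpe (K18.f167682 IH) (Lpe (f181826 IH) (Lpn (LP (LK LD1_c8 LD2_c22 LD3_c30))))))))))))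
theorem f304298 : Led Lsl_et (LP (LK LD1_c5 LD2_c34 LD3_c56)) = (LP (LK LD1_c2 LD2_c43 LD3_c21)) :=
  Lre_e IH (LK LD1_c5 LD2_c34 LD3_c56) (LK LD1_c2 LD2_c43 LD3_c21) Lrfl Lrfl
theorem f195728 : Led Lsl_dt (LP (LK LD1_c4 LD2_c11 LD3_c23)) = (LP (LK LD1_c8 LD2_c22 LD3_c30)) :=
  Lre_d IH (LK LD1_c4 LD2_c11 LD3_c23) (LK LD1_c8 LD2_c22 LD3_c30) Lrfl Lrfl
theorem f8684 : Led Lsl_et (LP (LK LD1_c1 LD2_c25 LD3_c27)) = (LP (LK LD1_c2 LD2_c59 LD3_c35)) :=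
  Lre_e IH (LK LD1_c1 LD2_c25 LD3_c27) (LK LD1_c2 LD2_c59 LD3_c35) Lrfl Lrfl
theorem f310348 : Led Lsl_gf (LP (LK LD1_c2 LD2_c43 LD3_c21)) = (LP (LK LD1_c2 LD2_c59 LD3_c35)) :=
  Lgr Lrot141 (Lpe (f304298 IH) (Lpr_dt (f304299 IH) (Lpr_gt (f310341 IH) (Lpe (f195728 IH) (Lpe (K18.f195722 IH) (Lpr_gt (K12.f195595 IH) (Lpe (K12.f187555 IH) (Lpe (K10.f195583 IH) (Lpe (K9.f8511 IH) (Lpr_et (f8684 IH) (Lpn (LP (LK LD1_c2 LD2_c59 LD3_c35)))))))))))))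
theorem f27436 : Led Lsl_ct (LP (LK LD1_c4 LD2_c14 LD3_c18)) = (LP (LK LD1_c8 LD2_c27 LD3_c14)) :=
  Lre_c IH (LK LD1_c4 LD2_c14 LD3_c18) (LK LD1_c8 LD2_c27 LD3_c14) Lrfl Lrfl
theorem f309789 : Led Lsl_bt (LP (LK LD1_c2 LD2_c43 LD3_c23)) = (LP (LK LD1_c1 LD2_c18 LD3_c7)) :=
  Lre_b IH (LK LD1_c2 LD2_c43 LD3_c23) (LK LD1_c1 LD2_c18 LD3_c7) Lrfl Lrfl
theorem f309793 : Led Lsl_ct (LP (LK LD1_c2 LD2_c43 LD3_c23)) = (LP (LK LD1_c5 LD2_c34 LD3_c60)) :=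
  Lre_c IH (LK LD1_c2 LD2_c43 LD3_c23) (LK LD1_c5 LD2_c34 LD3_c60) Lrfl Lrfl
theorem f310355 : Led Lsl_gt (LP (LK LD1_c8 LD2_c27 LD3_c14)) = (LP (LK LD1_c5 LD2_c34 LD3_c60)) :=
  Lgr Lrot65 (Lpe (f27436 IH) (Lpr_bt (K11.f27432 IH) (Lpe (K19.f27468 IH) (Lpe (K19.f309886 IH) (Lpr_ct (K19.f309875 IH) (Lpr_gf (f310348 IH) (Lpe (K0.f8596 IH) (Lpr_gf (K19.f309784 IH) (Lpe (f309789 IH) (Lpr_ct (f309793 IH) (Lpn (LP (LK LD1_c5 LD2_c34 LD3_c60)))))))))))))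
theorem f183775 : Led Lsl_et (LP (LK LD1_c11 LD2_c55 LD3_c55)) = (LP (LK LD1_c6 LD2_c6 LD3_c17)) :=
  Lre_e IH (LK LD1_c11 LD2_c55 LD3_c55) (LK LD1_c6 LD2_c6 LD3_c17) Lrfl Lrfl
theorem f183777 : Led Lsl_et (LP (LK LD1_c4 LD2_c14 LD3_c17)) = (LP (LK LD1_c8 LD2_c27 LD3_c14)) :=
  Lre_e IH (LK LD1_c4 LD2_c14 LD3_c17) (LK LD1_c8 LD2_c27 LD3_c14) Lrfl Lrfl
theorem f183778 : Led Lsl_ff (LP (LK LD1_c11 LD2_c55 LD3_c55)) = (LP (LK LD1_c8 LD2_c27 LD3_c14)) :=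
  Lgr Lrot72 (Lpr_et (f183775 IH) (Lpr_ft (K11.f183769 IH) (Lpr_et (K16.f183737 IH) (Lpr_ft (K12.f183776 IH) (Lpr_et (f183777 IH) (Lpn (LP (LK LD1_c8 LD2_c27 LD3_c14))))))))
theorem f195817 : Led Lsl_et (LP (LK LD1_c5 LD2_c26 LD3_c23)) = (LP (LK LD1_c10 LD2_c43 LD3_c58)) :=
  Lre_e IH (LK LD1_c5 LD2_c26 LD3_c23) (LK LD1_c10 LD2_c43 LD3_c58) Lrfl Lrfl
theorem f196075 : Led Lsl_ct (LP (LK LD1_c10 LD2_c43 LD3_c58)) = (LP (LK LD1_c10 LD2_c19 LD3_c56)) :=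
  Lgr Lrot15 (Lpe (f195817 IH) (Lpr_cf (K11.f195825 IH) (Lpe (K11.f189617 IH) (Lpn (LP (LK LD1_c10 LD2_c19 LD3_c56))))))
theorem f196077 : Led Lsl_af (LP (LK LD1_c10 LD2_c43 LD3_c58)) = (LP (LK LD1_c11 LD2_c55 LD3_c55)) :=
  Lgr Lrot68 (Lpr_ct (f196075 IH) (Lpe (K17.f189692 IH) (Lpe (f183792 IH) (Lpn (LP (LK LD1_c11 LD2_c55 LD3_c55))))))
theorem f310358 : Led Lsl_gf (LP (LK LD1_c10 LD2_c43 LD3_c58)) = (LP (LK LD1_c5 LD2_c34 LD3_c60)) :=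
  Lgr Lrot76 (Lpr_af (f196077 IH) (Lpr_ff (f183778 IH) (Lpr_gt (f310355 IH) (Lpn (LP (LK LD1_c5 LD2_c34 LD3_c60))))))
theorem f196080 : Led Lsl_cf (LP (LK LD1_c10 LD2_c43 LD3_c58)) = (LP (LK LD1_c10 LD2_c19 LD3_c56)) :=
  Lgr Lrot11 (Lpr_ct (f196075 IH) (Lpn (LP (LK LD1_c10 LD2_c19 LD3_c56))))
theorem f310391 : Led Lsl_gt (LP (LK LD1_c10 LD2_c9 LD3_c36)) = (LP (LK LD1_c10 LD2_c42 LD3_c35)) :=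
  Lgr Lrot82 (Lpr_bf (K14.f195942 IH) (Lpe (f196080 IH) (Lpr_gf (f310358 IH) (Lpe (f309793 IH) (Lpr_bt (f309789 IH) (Lpe (K19.f7612 IH) (Lpe (K17.f7594 IH) (Lpr_ct (K19.f42359 IH) (Lpe (K19.f221770 IH) (Lpe (K19.f309833 IH) (Lpn (LP (LK LD1_c10 LD2_c42 LD3_c35)))))))))))))
theorem f310393 : Led Lsl_gf (LP (LK LD1_c5 LD2_c38 LD3_c51)) = (LP (LK LD1_c10 LD2_c42 LD3_c35)) :=
  Lgr Lrot76 (Lpr_af (K12.f224224 IH) (Lpe (K12.f224222 IH) (Lpr_gt (f310391 IH) (Lpn (LP (LK LD1_c10 LD2_c42 LD3_c35))))))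
theorem f309846 : Led Lsl_bt (LP (LK LD1_c8 LD2_c14 LD3_c4)) = (LP (LK LD1_c10 LD2_c42 LD3_c35)) :=
  Lgr Lrot127 (Lpr_bf (K19.f309834 IH) (Lpn (LP (LK LD1_c10 LD2_c42 LD3_c35))))
theorem f47896 : Led Lsl_ct (LP (LK LD1_c8 LD2_c14 LD3_c4)) = (LP (LK LD1_c15 LD2_c29 LD3_c33)) :=
  Lre_c IH (LK LD1_c8 LD2_c14 LD3_c4) (LK LD1_c15 LD2_c29 LD3_c33) Lrfl Lrfl
theorem f31245 : Led Lsl_ct (LP (LK LD1_c8 LD2_c39 LD3_c29)) = (LP (LK LD1_c16 LD2_c12 LD3_c58)) :=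
  Lre_c IH (LK LD1_c8 LD2_c39 LD3_c29) (LK LD1_c16 LD2_c12 LD3_c58) Lrfl Lrfl
theorem f324298 : Led Lsl_gf (LP (LK LD1_c15 LD2_c29 LD3_c33)) = (LP (LK LD1_c16 LD2_c12 LD3_c58)) :=
  Lgr Lrot129 (Lpe (f47896 IH) (Lpr_bt (f309846 IH) (Lpe (f310393 IH) (Lpe (K14.f194667 IH) (Lpe (K19.f224234 IH) (Lpr_gt (K19.f52899 IH) (Lpr_cf (f299071 IH) (Lpr_bt (f299070 IH) (Lpr_gt (f324294 IH) (Lpr_ct (f31245 IH) (Lpn (LP (LK LD1_c16 LD2_c12 LD3_c58)))))))))))))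
theorem f48140 : Led Lsl_et (LP (LK LD1_c8 LD2_c39 LD3_c28)) = (LP (LK LD1_c16 LD2_c12 LD3_c58)) :=
  Lre_e IH (LK LD1_c8 LD2_c39 LD3_c28) (LK LD1_c16 LD2_c12 LD3_c58) Lrfl Lrfl
theorem f218125 : Led Lsl_et (LP (LK LD1_c15 LD2_c41 LD3_c49)) = (LP (LK LD1_c8 LD2_c20 LD3_c21)) :=
  Lre_e IH (LK LD1_c15 LD2_c41 LD3_c49) (LK LD1_c8 LD2_c20 LD3_c21) Lrfl Lrfl
theorem f275467 : Led Lsl_ft (LP (LK LD1_c16 LD2_c12 LD3_c58)) = (LP (LK LD1_c15 LD2_c41 LD3_c49)) :=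
  Lgr Lrot86 (Lpe (f48140 IH) (Lpe (K11.f48139 IH) (Lpe (K12.f48130 IH) (Lpr_ff (K16.f275455 IH) (Lpe (f218125 IH) (Lpn (LP (LK LD1_c15 LD2_c41 LD3_c49))))))))
theorem f324300 : Led Lsl_gt (LP (LK LD1_c15 LD2_c29 LD3_c33)) = (LP (LK LD1_c15 LD2_c2 LD3_c3)) :=
  Lgr Lrot46 (Lpr_gf (f324298 IH) (Lpr_ft (f275467 IH) (Lpe (K16.f275598 IH) (Lpn (LP (LK LD1_c15 LD2_c2 LD3_c3))))))
theorem f309832 : Led Lsl_bt (LP (LK LD1_c1 LD2_c18 LD3_c7)) = (LP (LK LD1_c2 LD2_c43 LD3_c23)) :=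
  Lre_b IH (LK LD1_c1 LD2_c18 LD3_c7) (LK LD1_c2 LD2_c43 LD3_c23) Lrfl Lrfl
theorem f201123 : Led Lsl_bf (LP (LK LD1_c4 LD2_c29 LD3_c3)) = (LP (LK LD1_c8 LD2_c7 LD3_c45)) :=
  Lgr Lrot96 (Lpr_et (K12.f188748 IH) (Lpr_bt (K12.f201118 IH) (Lpr_et (K15.f201122 IH) (Lpn (LP (LK LD1_c8 LD2_c7 LD3_c45))))))
theorem f324303 : Led Lsl_gf (LP (LK LD1_c2 LD2_c43 LD3_c23)) = (LP (LK LD1_c4 LD2_c29 LD3_c3)) :=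
  Lgr Lrot124 (Lpe (f309832 IH) (Lpr_ct (K19.f7618 IH) (Lpe (K19.f309787 IH) (Lpe (K19.f47903 IH) (Lpr_bt (K9.f47874 IH) (Lpr_gt (K19.f47889 IH) (Lpr_ct (f47896 IH) (Lpr_gt (f324300 IH) (Lpr_cf (K15.f217995 IH) (Lpe (f201123 IH) (Lpn (LP (LK LD1_c4 LD2_c29 LD3_c3)))))))))))))
theorem f309823 : Led Lsl_et (LP (LK LD1_c5 LD2_c35 LD3_c0)) = (LP (LK LD1_c2 LD2_c43 LD3_c23)) :=
  Lre_e IH (LK LD1_c5 LD2_c35 LD3_c0) (LK LD1_c2 LD2_c43 LD3_c23) Lrfl Lrfl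
theorem f180951 : Led Lsl_gt (LP (LK LD1_c5 LD2_c15 LD3_c50)) = (LP (LK LD1_c2 LD2_c34 LD3_c45)) :=
  Lre_g IH (LK LD1_c5 LD2_c15 LD3_c50) (LK LD1_c2 LD2_c34 LD3_c45) Lrfl Lrfl
theorem f324313 : Led Lsl_dt (LP (LK LD1_c5 LD2_c35 LD3_c0)) = (LP (LK LD1_c5 LD2_c15 LD3_c50)) :=
  Lgr Lrot136 (Lpr_et (f309823 IH) (Lpr_gf (f324303 IH) (Lpe (K12.f188749 IH) (Lpr_dt (K12.f187241 IH) (Lpe (K15.f245028 IH) (Lpe (K15.f244842 IH) (Lpe (K16.f247325 IH) (Lpe (f167760 IH) (Lpe (K19.f271599 IH) (Lpe (f180951 IH) (Lpn (LP (LK LD1_c5 LD2_c15 LD3_c50)))))))))))))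
theorem f188991 : Led Lsl_ft (LP (LK LD1_c4 LD2_c29 LD3_c3)) = (LP (LK LD1_c4 LD2_c15 LD3_c18)) :=
  Lgr Lrot142 (Lpe (K12.f188750 IH) (Lpr_ct (K12.f188752 IH) (Lpr_dt (K12.f188626 IH) (Lpr_ct (K12.f188753 IH) (Lpr_dt (K12.f188985 IH) (Lpr_ct (K12.f45170 IH) (Lpr_dt (K12.f45169 IH) (Lpr_ct (K10.f45168 IH) (Lpr_af (K10.f45184 IH) (Lpn (LP (LK LD1_c4 LD2_c15 LD3_c18))))))))))))
theorem f324305 : Led Lsl_gt (LP (LK LD1_c2 LD2_c43 LD3_c23)) = (LP (LK LD1_c4 LD2_c15 LD3_c2)) :=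
  Lgr Lrot46 (Lpr_gf (f324303 IH) (Lpr_ft (f188991 IH) (Lpe (K10.f45184 IH) (Lpn (LP (LK LD1_c4 LD2_c15 LD3_c2))))))
theorem f323157 : Led Lsl_ct (LP (LK LD1_c15 LD2_c37 LD3_c33)) = (LP (LK LD1_c8 LD2_c18 LD3_c29)) :=
  Lre_c IH (LK LD1_c15 LD2_c37 LD3_c33) (LK LD1_c8 LD2_c18 LD3_c29) Lrfl Lrfl
theorem f235898 : Led Lsl_ct (LP (LK LD1_c5 LD2_c27 LD3_c42)) = (LP (LK LD1_c10 LD2_c46 LD3_c26)) :=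
  Lre_c IH (LK LD1_c5 LD2_c27 LD3_c42) (LK LD1_c10 LD2_c46 LD3_c26) Lrfl Lrfl
theorem f323172 : Led Lsl_at (LP (LK LD1_c8 LD2_c18 LD3_c29)) = (LP (LK LD1_c5 LD2_c27 LD3_c42)) :=
  Lgr Lrot107 (Lpe (f323157 IH) (Lpr_af (K20.f323152 IH) (Lpe (f235898 IH) (Lpn (LP (LK LD1_c5 LD2_c27 LD3_c42))))))
theorem f317788 : Led Lsl_af (LP (LK LD1_c5 LD2_c27 LD3_c49)) = (LP (LK LD1_c6 LD2_c5 LD3_c51)) :=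
  Lgr Lrot0 (Lpr_at (K20.f317773 IH) (Lpn (LP (LK LD1_c6 LD2_c5 LD3_c51))))
theorem f324237 : Led Lsl_ef (LP (LK LD1_c8 LD2_c18 LD3_c29)) = (LP (LK LD1_c5 LD2_c27 LD3_c49)) :=
  Lgr Lrot20 (Lpr_at (f323172 IH) (Lpr_et (f324235 IH) (Lpe (f317788 IH) (Lpn (LP (LK LD1_c5 LD2_c27 LD3_c49))))))
theorem f324322 : Led Lsl_gt (LP (LK LD1_c10 LD2_c19 LD3_c39)) = (LP (LK LD1_c5 LD2_c15 LD3_c50)) :=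
  Lgr Lrot112 (Lpe (K20.f317733 IH) (Lpe (f324237 IH) (Lpr_gf (K20.f323217 IH) (Lpe (K20.f236002 IH) (Lpr_dt (K20.f323224 IH) (Lpe (K20.f45172 IH) (Lpr_df (K10.f45162 IH) (Lpe (f324305 IH) (Lpe (f309823 IH) (Lpr_dt (f324313 IH) (Lpn (LP (LK LD1_c5 LD2_c15 LD3_c50)))))))))))))
theorem f324324 : Led Lsl_gt (LP (LK LD1_c4 LD2_c15 LD3_c8)) = (LP (LK LD1_c5 LD2_c27 LD3_c49)) :=
  Lgr Lrot137 (Lpe (K10.f45149 IH) (Lpr_dt (K10.f45148 IH) (Lpe (K10.f45137 IH) (Lpe (K1.f45143 IH) (Lpr_et (K10.f45150 IH) (Lpe (f324305 IH) (Lpe (f309823 IH) (Lpr_dt (f324313 IH) (Lpe (f324322 IH) (Lpe (K20.f317733 IH) (Lpn (LP (LK LD1_c5 LD2_c27 LD3_c49)))))))))))))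
theorem f324330 : Led Lsl_et (LP (LK LD1_c8 LD2_c18 LD3_c29)) = (LP (LK LD1_c5 LD2_c27 LD3_c49)) :=
  Lgr Lrot122 (Lpr_dt (K20.f323216 IH) (Lpr_gt (K20.f323212 IH) (Lpr_df (K19.f298852 IH) (Lpr_et (K19.f243600 IH) (Lpr_gt (K17.f194213 IH) (Lpr_dt (K1.f45143 IH) (Lpr_gt (K10.f45137 IH) (Lpe (K10.f45148 IH) (Lpr_et (K10.f45149 IH) (Lpr_gt (f324324 IH) (Lpn (LP (LK LD1_c5 LD2_c27 LD3_c49)))))))))))))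
theorem f324332 : Led Lsl_ef (LP (LK LD1_c15 LD2_c37 LD3_c33)) = (LP (LK LD1_c10 LD2_c46 LD3_c44)) :=
  Lgr Lrot28 (Lpr_ct (f323157 IH) (Lpr_et (f324330 IH) (Lpr_ct (K20.f317731 IH) (Lpn (LP (LK LD1_c10 LD2_c46 LD3_c44))))))
theorem f236323 : Led Lsl_et (LP (LK LD1_c8 LD2_c18 LD3_c28)) = (LP (LK LD1_c4 LD2_c9 LD3_c14)) :=
  Lre_e IH (LK LD1_c8 LD2_c18 LD3_c28) (LK LD1_c4 LD2_c9 LD3_c14) Lrfl Lrfl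
theorem f317853 : Led Lsl_ft (LP (LK LD1_c5 LD2_c27 LD3_c47)) = (LP (LK LD1_c10 LD2_c46 LD3_c44)) :=
  Lre_f IH (LK LD1_c5 LD2_c27 LD3_c47) (LK LD1_c10 LD2_c46 LD3_c44) Lrfl Lrfl
theorem f262926 : Led Lsl_et (LP (LK LD1_c2 LD2_c40 LD3_c14)) = (LP (LK LD1_c5 LD2_c27 LD3_c47)) :=
  Lre_e IH (LK LD1_c2 LD2_c40 LD3_c14) (LK LD1_c5 LD2_c27 LD3_c47) Lrfl Lrfl
theorem f324340 : Led Lsl_ft (LP (LK LD1_c4 LD2_c9 LD3_c14)) = (LP (LK LD1_c2 LD2_c40 LD3_c14)) :=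
  Lgr Lrot86 (Lpe (f236323 IH) (Lpe (K20.f323151 IH) (Lpr_ef (f324332 IH) (Lpe (f317853 IH) (Lpe (f262926 IH) (Lpn (LP (LK LD1_c2 LD2_c40 LD3_c14))))))))
theorem f324346 : Led Lsl_ff (LP (LK LD1_c4 LD2_c9 LD3_c14)) = (LP (LK LD1_c2 LD2_c40 LD3_c14)) :=
  Lgr Lrot3 (Lpr_ft (f324340 IH) (Lpn (LP (LK LD1_c2 LD2_c40 LD3_c14))))
theorem f236263 : Led Lsl_bt (LP (LK LD1_c4 LD2_c9 LD3_c14)) = (LP (LK LD1_c8 LD2_c18 LD3_c30)) :=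
  Lre_b IH (LK LD1_c4 LD2_c9 LD3_c14) (LK LD1_c8 LD2_c18 LD3_c30) Lrfl Lrfl
theorem f282835 : Led Lsl_bt (LP (LK LD1_c5 LD2_c27 LD3_c45)) = (LP (LK LD1_c2 LD2_c40 LD3_c14)) :=
  Lre_b IH (LK LD1_c5 LD2_c27 LD3_c45) (LK LD1_c2 LD2_c40 LD3_c14) Lrfl Lrfl
theorem f324350 : Led Lsl_ft (LP (LK LD1_c8 LD2_c18 LD3_c30)) = (LP (LK LD1_c5 LD2_c27 LD3_c45)) :=
  Lgr Lrot75 (Lpe (f236263 IH) (Lpr_ff (f324346 IH) (Lpe (f282835 IH) (Lpn (LP (LK LD1_c5 LD2_c27 LD3_c45))))))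
theorem f324359 : Led Lsl_et (LP (LK LD1_c15 LD2_c37 LD3_c31)) = (LP (LK LD1_c8 LD2_c18 LD3_c30)) :=
  Lre_e IH (LK LD1_c15 LD2_c37 LD3_c31) (LK LD1_c8 LD2_c18 LD3_c30) Lrfl Lrfl
theorem f324360 : Led Lsl_ft (LP (LK LD1_c25 LD2_c32 LD3_c28)) = (LP (LK LD1_c15 LD2_c37 LD3_c31)) :=
  Lre_f IH (LK LD1_c25 LD2_c32 LD3_c28) (LK LD1_c15 LD2_c37 LD3_c31) Lrfl Lrfl
theorem f324361 : Led Lsl_et (LP (LK LD1_c5 LD2_c27 LD3_c45)) = (LP (LK LD1_c10 LD2_c46 LD3_c40)) :=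
  Lre_e IH (LK LD1_c5 LD2_c27 LD3_c45) (LK LD1_c10 LD2_c46 LD3_c40) Lrfl Lrfl
theorem f324362 : Led Lsl_ft (LP (LK LD1_c10 LD2_c46 LD3_c40)) = (LP (LK LD1_c19 LD2_c29 LD3_c34)) :=
  Lre_f IH (LK LD1_c10 LD2_c46 LD3_c40) (LK LD1_c19 LD2_c29 LD3_c34) Lrfl Lrfl
theorem f324363 : Led Lsl_ef (LP (LK LD1_c25 LD2_c32 LD3_c28)) = (LP (LK LD1_c19 LD2_c29 LD3_c34)) :=
  Lgr Lrot21 (Lpr_ft (f324360 IH) (Lpr_et (f324359 IH) (Lpr_ft (f324350 IH) (Lpr_et (f324361 IH) (Lpr_ft (f324362 IH) (Lpn (LP (LK LD1_c19 LD2_c29 LD3_c34))))))))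
theorem f323169 : Led Lsl_at (LP (LK LD1_c25 LD2_c32 LD3_c28)) = (LP (LK LD1_c31 LD2_c55 LD3_c36)) :=
  Lre_a IH (LK LD1_c25 LD2_c32 LD3_c28) (LK LD1_c31 LD2_c55 LD3_c36) Lrfl Lrfl
theorem f317842 : Led Lsl_at (LP (LK LD1_c28 LD2_c51 LD3_c42)) = (LP (LK LD1_c19 LD2_c29 LD3_c34)) :=
  Lre_a IH (LK LD1_c28 LD2_c51 LD3_c42) (LK LD1_c19 LD2_c29 LD3_c34) Lrfl Lrfl
theorem f324374 : Led Lsl_et (LP (LK LD1_c31 LD2_c55 LD3_c36)) = (LP (LK LD1_c28 LD2_c51 LD3_c42)) :=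
  Lgr Lrot123 (Lpe (f323169 IH) (Lpr_ef (f324363 IH) (Lpe (f317842 IH) (Lpn (LP (LK LD1_c28 LD2_c51 LD3_c42))))))
theorem f324381 : Led Lsl_ef (LP (LK LD1_c31 LD2_c55 LD3_c36)) = (LP (LK LD1_c28 LD2_c51 LD3_c42)) :=
  Lgr Lrot88 (Lpr_et (f324374 IH) (Lpn (LP (LK LD1_c28 LD2_c51 LD3_c42))))
theorem f323168 : Led Lsl_bt (LP (LK LD1_c15 LD2_c37 LD3_c33)) = (LP (LK LD1_c25 LD2_c32 LD3_c28)) :=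
  Lre_b IH (LK LD1_c15 LD2_c37 LD3_c33) (LK LD1_c25 LD2_c32 LD3_c28) Lrfl Lrfl
theorem f235887 : Led Lsl_bt (LP (LK LD1_c19 LD2_c28 LD3_c58)) = (LP (LK LD1_c10 LD2_c46 LD3_c26)) :=
  Lre_b IH (LK LD1_c19 LD2_c28 LD3_c58) (LK LD1_c10 LD2_c46 LD3_c26) Lrfl Lrfl
theorem f235892 : Led Lsl_at (LP (LK LD1_c28 LD2_c50 LD3_c61)) = (LP (LK LD1_c19 LD2_c28 LD3_c58)) :=
  Lre_a IH (LK LD1_c28 LD2_c50 LD3_c61) (LK LD1_c19 LD2_c28 LD3_c58) Lrfl Lrfl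
theorem f323170 : Led Lsl_bt (LP (LK LD1_c31 LD2_c55 LD3_c36)) = (LP (LK LD1_c28 LD2_c50 LD3_c61)) :=
  Lgr Lrot62 (Lpe (f323169 IH) (Lpe (f323168 IH) (Lpr_af (K20.f323152 IH) (Lpe (f235887 IH) (Lpe (f235892 IH) (Lpn (LP (LK LD1_c28 LD2_c50 LD3_c61))))))))
theorem f317707 : Led Lsl_ft (LP (LK LD1_c10 LD2_c46 LD3_c43)) = (LP (LK LD1_c19 LD2_c29 LD3_c44)) :=
  Lre_f IH (LK LD1_c10 LD2_c46 LD3_c43) (LK LD1_c19 LD2_c29 LD3_c44) Lrfl Lrfl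
theorem f317798 : Led Lsl_at (LP (LK LD1_c19 LD2_c29 LD3_c44)) = (LP (LK LD1_c21 LD2_c0 LD3_c2)) :=
  Lgr Lrot33 (Lpe (f317707 IH) (Lpr_dt (K20.f282864 IH) (Lpr_ct (K20.f282865 IH) (Lpr_dt (K20.f317697 IH) (Lpr_ct (K20.f214813 IH) (Lpr_dt (K20.f214840 IH) (Lpr_ct (K20.f317702 IH) (Lpr_dt (K20.f317792 IH) (Lpr_ct (K20.f261489 IH) (Lpn (LP (LK LD1_c21 LD2_c0 LD3_c2))))))))))))
theorem f317804 : Led Lsl_bt (LP (LK LD1_c28 LD2_c51 LD3_c55)) = (LP (LK LD1_c19 LD2_c29 LD3_c44)) :=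
  Lre_b IH (LK LD1_c28 LD2_c51 LD3_c55) (LK LD1_c19 LD2_c29 LD3_c44) Lrfl Lrfl
theorem f317805 : Led Lsl_at (LP (LK LD1_c32 LD2_c39 LD3_c37)) = (LP (LK LD1_c28 LD2_c51 LD3_c55)) :=
  Lre_a IH (LK LD1_c32 LD2_c39 LD3_c37) (LK LD1_c28 LD2_c51 LD3_c55) Lrfl Lrfl
theorem f317801 : Led Lsl_bt (LP (LK LD1_c21 LD2_c0 LD3_c2)) = (LP (LK LD1_c29 LD2_c48 LD3_c27)) :=
  Lre_b IH (LK LD1_c21 LD2_c0 LD3_c2) (LK LD1_c29 LD2_c48 LD3_c27) Lrfl Lrfl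
theorem f317806 : Led Lsl_at (LP (LK LD1_c29 LD2_c48 LD3_c27)) = (LP (LK LD1_c32 LD2_c48 LD3_c4)) :=
  Lre_a IH (LK LD1_c29 LD2_c48 LD3_c27) (LK LD1_c32 LD2_c48 LD3_c4) Lrfl Lrfl
theorem f317807 : Led Lsl_bf (LP (LK LD1_c32 LD2_c39 LD3_c37)) = (LP (LK LD1_c32 LD2_c48 LD3_c4)) :=
  Lgr Lrot81 (Lpr_at (f317805 IH) (Lpr_bt (f317804 IH) (Lpr_at (f317798 IH) (Lpr_bt (f317801 IH) (Lpr_at (f317806 IH) (Lpn (LP (LK LD1_c32 LD2_c48 LD3_c4))))))))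
theorem f303411 : Led Lsl_dt (LP (LK LD1_c32 LD2_c39 LD3_c37)) = (LP (LK LD1_c28 LD2_c51 LD3_c42)) :=
  Lre_d IH (LK LD1_c32 LD2_c39 LD3_c37) (LK LD1_c28 LD2_c51 LD3_c42) Lrfl Lrfl
theorem f317831 : Led Lsl_dt (LP (LK LD1_c29 LD2_c48 LD3_c26)) = (LP (LK LD1_c32 LD2_c48 LD3_c4)) :=
  Lre_d IH (LK LD1_c29 LD2_c48 LD3_c26) (LK LD1_c32 LD2_c48 LD3_c4) Lrfl Lrfl
theorem f317832 : Led Lsl_bt (LP (LK LD1_c28 LD2_c51 LD3_c42)) = (LP (LK LD1_c29 LD2_c48 LD3_c26)) :=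
  Lgr Lrot95 (Lpe (f303411 IH) (Lpr_bf (f317807 IH) (Lpe (f317831 IH) (Lpn (LP (LK LD1_c29 LD2_c48 LD3_c26))))))
theorem f317839 : Led Lsl_bf (LP (LK LD1_c28 LD2_c51 LD3_c42)) = (LP (LK LD1_c29 LD2_c48 LD3_c26)) :=
  Lgr Lrot24 (Lpr_bt (f317832 IH) (Lpn (LP (LK LD1_c29 LD2_c48 LD3_c26))))
theorem f324386 : Led Lsl_et (LP (LK LD1_c28 LD2_c50 LD3_c61)) = (LP (LK LD1_c29 LD2_c48 LD3_c26)) :=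
  Lgr Lrot74 (Lpe (f323170 IH) (Lpr_ef (f324381 IH) (Lpr_bf (f317839 IH) (Lpn (LP (LK LD1_c29 LD2_c48 LD3_c26))))))
theorem f324419 : Led Lsl_ef (LP (LK LD1_c28 LD2_c50 LD3_c61)) = (LP (LK LD1_c29 LD2_c48 LD3_c26)) :=
  Lgr Lrot88 (Lpr_et (f324386 IH) (Lpn (LP (LK LD1_c29 LD2_c48 LD3_c26))))
theorem f317844 : Led Lsl_at (LP (LK LD1_c21 LD2_c0 LD3_c1)) = (LP (LK LD1_c29 LD2_c48 LD3_c26)) :=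
  Lre_a IH (LK LD1_c21 LD2_c0 LD3_c1) (LK LD1_c29 LD2_c48 LD3_c26) Lrfl Lrfl
theorem f324421 : Led Lsl_et (LP (LK LD1_c19 LD2_c28 LD3_c58)) = (LP (LK LD1_c21 LD2_c0 LD3_c1)) :=
  Lgr Lrot123 (Lpe (f235892 IH) (Lpr_ef (f324419 IH) (Lpe (f317844 IH) (Lpn (LP (LK LD1_c21 LD2_c0 LD3_c1))))))
theorem f235875 : Led Lsl_ft (LP (LK LD1_c19 LD2_c28 LD3_c58)) = (LP (LK LD1_c10 LD2_c46 LD3_c21)) :=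
  Lre_f IH (LK LD1_c19 LD2_c28 LD3_c58) (LK LD1_c10 LD2_c46 LD3_c21) Lrfl Lrfl
theorem f235876 : Led Lsl_ft (LP (LK LD1_c16 LD2_c50 LD3_c27)) = (LP (LK LD1_c26 LD2_c47 LD3_c56)) :=
  Lre_f IH (LK LD1_c16 LD2_c50 LD3_c27) (LK LD1_c26 LD2_c47 LD3_c56) Lrfl Lrfl
theorem f235877 : Led Lsl_cf (LP (LK LD1_c19 LD2_c28 LD3_c58)) = (LP (LK LD1_c26 LD2_c47 LD3_c56)) :=
  Lgr Lrot108 (Lpr_ft (f235875 IH) (Lpr_ct (K14.f235830 IH) (Lpr_ft (f235876 IH) (Lpn (LP (LK LD1_c26 LD2_c47 LD3_c56))))))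
theorem f169528 : Led Lsl_ct (LP (LK LD1_c6 LD2_c5 LD3_c51)) = (LP (LK LD1_c11 LD2_c55 LD3_c11)) :=
  Lre_c IH (LK LD1_c6 LD2_c5 LD3_c51) (LK LD1_c11 LD2_c55 LD3_c11) Lrfl Lrfl
theorem f261494 : Led Lsl_bt (LP (LK LD1_c11 LD2_c55 LD3_c11)) = (LP (LK LD1_c21 LD2_c0 LD3_c1)) :=
  Lre_b IH (LK LD1_c11 LD2_c55 LD3_c11) (LK LD1_c21 LD2_c0 LD3_c1) Lrfl Lrfl
theorem f293331 : Led Lsl_ct (LP (LK LD1_c10 LD2_c15 LD3_c59)) = (LP (LK LD1_c5 LD2_c12 LD3_c47)) :=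
  Lre_c IH (LK LD1_c10 LD2_c15 LD3_c59) (LK LD1_c5 LD2_c12 LD3_c47) Lrfl Lrfl
theorem f322839 : Led Lsl_bt (LP (LK LD1_c18 LD2_c40 LD3_c26)) = (LP (LK LD1_c10 LD2_c15 LD3_c59)) :=
  Lre_b IH (LK LD1_c18 LD2_c40 LD3_c26) (LK LD1_c10 LD2_c15 LD3_c59) Lrfl Lrfl
theorem f322844 : Led Lsl_ct (LP (LK LD1_c21 LD2_c0 LD3_c1)) = (LP (LK LD1_c18 LD2_c40 LD3_c26)) :=
  Lgr Lrot83 (Lpe (f261494 IH) (Lpe (f169528 IH) (Lpr_bf (K20.f322840 IH) (Lpe (f293331 IH) (Lpe (f322839 IH) (Lpn (LP (LK LD1_c18 LD2_c40 LD3_c26))))))))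
theorem f324442 : Led Lsl_ef (LP (LK LD1_c26 LD2_c47 LD3_c56)) = (LP (LK LD1_c18 LD2_c40 LD3_c26)) :=
  Lgr Lrot28 (Lpe (f235877 IH) (Lpr_et (f324421 IH) (Lpr_ct (f322844 IH) (Lpn (LP (LK LD1_c18 LD2_c40 LD3_c26))))))
theorem f324449 : Led Lsl_et (LP (LK LD1_c26 LD2_c47 LD3_c56)) = (LP (LK LD1_c18 LD2_c40 LD3_c26)) :=
  Lgr Lrot87 (Lpr_ef (f324442 IH) (Lpn (LP (LK LD1_c18 LD2_c40 LD3_c26))))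
theorem f235889 : Led Lsl_bt (LP (LK LD1_c16 LD2_c50 LD3_c30)) = (LP (LK LD1_c26 LD2_c47 LD3_c56)) :=
  Lre_b IH (LK LD1_c16 LD2_c50 LD3_c30) (LK LD1_c26 LD2_c47 LD3_c56) Lrfl Lrfl
theorem f324452 : Led Lsl_ef (LP (LK LD1_c16 LD2_c50 LD3_c30)) = (LP (LK LD1_c10 LD2_c15 LD3_c59)) :=
  Lgr Lrot29 (Lpr_bt (f235889 IH) (Lpr_et (f324449 IH) (Lpr_bt (f322839 IH) (Lpn (LP (LK LD1_c10 LD2_c15 LD3_c59))))))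
theorem f235988 : Led Lsl_ft (LP (LK LD1_c16 LD2_c50 LD3_c30)) = (LP (LK LD1_c9 LD2_c0 LD3_c46)) :=
  Lre_f IH (LK LD1_c16 LD2_c50 LD3_c30) (LK LD1_c9 LD2_c0 LD3_c46) Lrfl Lrfl
theorem f320789 : Led Lsl_ff (LP (LK LD1_c10 LD2_c15 LD3_c59)) = (LP (LK LD1_c5 LD2_c35 LD3_c43)) :=
  Lgr Lrot23 (Lpr_ct (f293331 IH) (Lpr_ft (K20.f320787 IH) (Lpr_ct (K19.f293389 IH) (Lpn (LP (LK LD1_c5 LD2_c35 LD3_c43))))))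
theorem f324460 : Led Lsl_ft (LP (LK LD1_c4 LD2_c31 LD3_c24)) = (LP (LK LD1_c2 LD2_c43 LD3_c46)) :=
  Lgr Lrot86 (Lpe (K14.f235916 IH) (Lpe (f235988 IH) (Lpr_ef (f324452 IH) (Lpr_ff (f320789 IH) (Lpe (K19.f177951 IH) (Lpn (LP (LK LD1_c2 LD2_c43 LD3_c46))))))))
theorem f324470 : Led Lsl_af (LP (LK LD1_c4 LD2_c31 LD3_c23)) = (LP (LK LD1_c2 LD2_c43 LD3_c46)) :=
  Lgr Lrot31 (Lpe (K19.f235348 IH) (Lpe (K13.f175041 IH) (Lpr_ft (f324460 IH) (Lpn (LP (LK LD1_c2 LD2_c43 LD3_c46))))))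
theorem f177954 : Led Lsl_dt (LP (LK LD1_c5 LD2_c35 LD3_c42)) = (LP (LK LD1_c2 LD2_c43 LD3_c46)) :=
  Lre_d IH (LK LD1_c5 LD2_c35 LD3_c42) (LK LD1_c2 LD2_c43 LD3_c46) Lrfl Lrfl
theorem f324477 : Led Lsl_at (LP (LK LD1_c9 LD2_c0 LD3_c42)) = (LP (LK LD1_c5 LD2_c35 LD3_c42)) :=
  Lgr Lrot51 (Lpe (K20.f235349 IH) (Lpr_af (f324470 IH) (Lpe (f177954 IH) (Lpn (LP (LK LD1_c5 LD2_c35 LD3_c42))))))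
theorem f324485 : Led Lsl_ff (LP (LK LD1_c9 LD2_c0 LD3_c42)) = (LP (LK LD1_c5 LD2_c35 LD3_c39)) :=
  Lgr Lrot52 (Lpr_at (f324477 IH) (Lpe (K19.f279612 IH) (Lpr_gf (K20.f316708 IH) (Lpn (LP (LK LD1_c5 LD2_c35 LD3_c39))))))
theorem f324491 : Led Lsl_ft (LP (LK LD1_c4 LD2_c31 LD3_c23)) = (LP (LK LD1_c2 LD2_c43 LD3_c45)) :=
  Lgr Lrot54 (Lpe (K20.f293497 IH) (Lpr_ff (f324485 IH) (Lpe (K20.f189440 IH) (Lpn (LP (LK LD1_c2 LD2_c43 LD3_c45))))))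
theorem f324551 : Led Lsl_ff (LP (LK LD1_c4 LD2_c31 LD3_c23)) = (LP (LK LD1_c2 LD2_c43 LD3_c45)) :=
  Lgr Lrot3 (Lpr_ft (f324491 IH) (Lpn (LP (LK LD1_c2 LD2_c43 LD3_c45))))
theorem f324560 : Led Lsl_et (LP (LK LD1_c5 LD2_c35 LD3_c40)) = (LP (LK LD1_c2 LD2_c43 LD3_c45)) :=
  Lre_e IH (LK LD1_c5 LD2_c35 LD3_c40) (LK LD1_c2 LD2_c43 LD3_c45) Lrfl Lrfl
theorem f324561 : Led Lsl_ft (LP (LK LD1_c11 LD2_c3 LD3_c33)) = (LP (LK LD1_c5 LD2_c35 LD3_c40)) :=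
  Lre_f IH (LK LD1_c11 LD2_c3 LD3_c33) (LK LD1_c5 LD2_c35 LD3_c40) Lrfl Lrfl
theorem f324562 : Led Lsl_et (LP (LK LD1_c11 LD2_c57 LD3_c19)) = (LP (LK LD1_c11 LD2_c3 LD3_c33)) :=
  Lgr Lrot69 (Lpe (K20.f322823 IH) (Lpe (K20.f316825 IH) (Lpr_ff (f324551 IH) (Lpe (f324560 IH) (Lpe (f324561 IH) (Lpn (LP (LK LD1_c11 LD2_c3 LD3_c33))))))))
theorem f322819 : Led Lsl_ct (LP (LK LD1_c8 LD2_c38 LD3_c50)) = (LP (LK LD1_c11 LD2_c57 LD3_c19)) :=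
  Lgr Lrot40 (Lpe (K20.f320771 IH) (Lpr_cf (K20.f320894 IH) (Lpr_ff (K20.f322809 IH) (Lpn (LP (LK LD1_c11 LD2_c57 LD3_c19))))))
theorem f192339 : Led Lsl_et (LP (LK LD1_c16 LD2_c11 LD3_c47)) = (LP (LK LD1_c8 LD2_c38 LD3_c50)) :=
  Lre_e IH (LK LD1_c16 LD2_c11 LD3_c47) (LK LD1_c8 LD2_c38 LD3_c50) Lrfl Lrfl
theorem f324569 : Led Lsl_cf (LP (LK LD1_c16 LD2_c11 LD3_c47)) = (LP (LK LD1_c11 LD2_c3 LD3_c33)) :=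
  Lgr Lrot39 (Lpr_et (f192339 IH) (Lpr_ct (f322819 IH) (Lpr_et (f324562 IH) (Lpn (LP (LK LD1_c11 LD2_c3 LD3_c33))))))
theorem f317029 : Led Lsl_df (LP (LK LD1_c4 LD2_c51 LD3_c7)) = (LP (LK LD1_c2 LD2_c36 LD3_c30)) :=
  Lgr Lrot162 (Lpe (K19.f187120 IH) (Lpr_gf (K20.f317025 IH) (Lpr_cf (K14.f190938 IH) (Lpr_gf (K14.f253165 IH) (Lpr_dt (K0.f33297 IH) (Lpr_gt (K0.f3691 IH) (Lpr_ct (K0.f3574 IH) (Lpr_gt (K14.f21840 IH) (Lpe (K14.f190537 IH) (Lpn (LP (LK LD1_c2 LD2_c36 LD3_c30))))))))))))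
theorem f320672 : Led Lsl_df (LP (LK LD1_c2 LD2_c38 LD3_c12)) = (LP (LK LD1_c4 LD2_c21 LD3_c22)) :=
  Lgr Lrot38 (Lpr_dt (K20.f320668 IH) (Lpn (LP (LK LD1_c4 LD2_c21 LD3_c22))))
theorem f320692 : Led Lsl_ef (LP (LK LD1_c5 LD2_c12 LD3_c48)) = (LP (LK LD1_c2 LD2_c38 LD3_c12)) :=
  Lgr Lrot73 (Lpe (K20.f242317 IH) (Lpr_et (K14.f190459 IH) (Lpe (f317029 IH) (Lpr_et (K20.f320688 IH) (Lpe (f320672 IH) (Lpn (LP (LK LD1_c2 LD2_c38 LD3_c12))))))))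
theorem f320674 : Led Lsl_ff (LP (LK LD1_c2 LD2_c38 LD3_c12)) = (LP (LK LD1_c4 LD2_c21 LD3_c21)) :=
  Lgr Lrot19 (Lpr_dt (K20.f320668 IH) (Lpr_ft (K20.f184414 IH) (Lpr_dt (K13.f184416 IH) (Lpn (LP (LK LD1_c4 LD2_c21 LD3_c21))))))
theorem f320775 : Led Lsl_et (LP (LK LD1_c8 LD2_c38 LD3_c50)) = (LP (LK LD1_c16 LD2_c11 LD3_c47)) :=
  Lre_e IH (LK LD1_c8 LD2_c38 LD3_c50) (LK LD1_c16 LD2_c11 LD3_c47) Lrfl Lrfl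
theorem f320776 : Led Lsl_ff (LP (LK LD1_c8 LD2_c40 LD3_c18)) = (LP (LK LD1_c16 LD2_c11 LD3_c47)) :=
  Lgr Lrot72 (Lpr_et (K19.f199336 IH) (Lpe (f320674 IH) (Lpe (f320692 IH) (Lpr_ft (K20.f320771 IH) (Lpr_et (f320775 IH) (Lpn (LP (LK LD1_c16 LD2_c11 LD3_c47))))))))
theorem f324548 : Led Lsl_ft (LP (LK LD1_c5 LD2_c35 LD3_c40)) = (LP (LK LD1_c11 LD2_c3 LD3_c33)) :=
  Lre_f IH (LK LD1_c5 LD2_c35 LD3_c40) (LK LD1_c11 LD2_c3 LD3_c33) Lrfl Lrfl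
theorem f324608 : Led Lsl_ct (LP (LK LD1_c8 LD2_c40 LD3_c18)) = (LP (LK LD1_c5 LD2_c35 LD3_c40)) :=
  Lgr Lrot40 (Lpr_ff (f320776 IH) (Lpr_cf (f324569 IH) (Lpe (f324548 IH) (Lpn (LP (LK LD1_c5 LD2_c35 LD3_c40))))))
theorem f324613 : Led Lsl_cf (LP (LK LD1_c8 LD2_c40 LD3_c18)) = (LP (LK LD1_c5 LD2_c35 LD3_c40)) :=
  Lgr Lrot11 (Lpr_ct (f324608 IH) (Lpn (LP (LK LD1_c5 LD2_c35 LD3_c40))))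
theorem f324605 : Led Lsl_ct (LP (LK LD1_c16 LD2_c11 LD3_c47)) = (LP (LK LD1_c11 LD2_c3 LD3_c33)) :=
  Lgr Lrot59 (Lpr_cf (f324569 IH) (Lpn (LP (LK LD1_c11 LD2_c3 LD3_c33))))
theorem f324624 : Led Lsl_ft (LP (LK LD1_c8 LD2_c40 LD3_c18)) = (LP (LK LD1_c16 LD2_c11 LD3_c47)) :=
  Lgr Lrot4 (Lpr_cf (f324613 IH) (Lpe (f324561 IH) (Lpe (f324605 IH) (Lpn (LP (LK LD1_c16 LD2_c11 LD3_c47))))))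
theorem f324628 : Led Lsl_ft (LP (LK LD1_c8 LD2_c40 LD3_c19)) = (LP (LK LD1_c4 LD2_c21 LD3_c19)) :=
  Lre_f IH (LK LD1_c8 LD2_c40 LD3_c19) (LK LD1_c4 LD2_c21 LD3_c19) Lrfl Lrfl
theorem f324629 : Led Lsl_df (LP (LK LD1_c8 LD2_c40 LD3_c19)) = (LP (LK LD1_c16 LD2_c11 LD3_c47)) :=
  Lgr Lrot78 (Lpr_ft (f324628 IH) (Lpr_dt (K19.f233147 IH) (Lpr_ft (f324624 IH) (Lpn (LP (LK LD1_c16 LD2_c11 LD3_c47))))))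
theorem f324637 : Led Lsl_gf (LP (LK LD1_c8 LD2_c40 LD3_c19)) = (LP (LK LD1_c9 LD2_c34 LD3_c53)) :=
  Lgr Lrot134 (Lpr_df (f324629 IH) (Lpr_et (f192339 IH) (Lpe (K20.f293341 IH) (Lpe (K18.f293164 IH) (Lpe (K11.f211335 IH) (Lpe (K19.f312167 IH) (Lpr_df (K19.f312154 IH) (Lpe (K19.f312158 IH) (Lpr_gt (K19.f312165 IH) (Lpr_dt (K19.f305472 IH) (Lpn (LP (LK LD1_c9 LD2_c34 LD3_c53)))))))))))))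
theorem f275325 : Led Lsl_bf (LP (LK LD1_c9 LD2_c34 LD3_c53)) = (LP (LK LD1_c8 LD2_c20 LD3_c39)) :=
  Lgr Lrot96 (Lpe (K19.f269392 IH) (Lpr_bt (K14.f238645 IH) (Lpr_et (K16.f275323 IH) (Lpn (LP (LK LD1_c8 LD2_c20 LD3_c39))))))
theorem f322355 : Led Lsl_gf (LP (LK LD1_c15 LD2_c42 LD3_c20)) = (LP (LK LD1_c8 LD2_c43 LD3_c12)) :=
  Lgr Lrot47 (Lpr_gt (K20.f322353 IH) (Lpe (K20.f322306 IH) (Lpe (K20.f305388 IH) (Lpn (LP (LK LD1_c8 LD2_c43 LD3_c12))))))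
theorem f178821 : Led Lsl_gt (LP (LK LD1_c15 LD2_c49 LD3_c25)) = (LP (LK LD1_c8 LD2_c25 LD3_c17)) :=
  Lre_g IH (LK LD1_c15 LD2_c49 LD3_c25) (LK LD1_c8 LD2_c25 LD3_c17) Lrfl Lrfl
theorem f292382 : Led Lsl_at (LP (LK LD1_c15 LD2_c36 LD3_c23)) = (LP (LK LD1_c8 LD2_c18 LD3_c1)) :=
  Lre_a IH (LK LD1_c15 LD2_c36 LD3_c23) (LK LD1_c8 LD2_c18 LD3_c1) Lrfl Lrfl
theorem f292383 : Led Lsl_ff (LP (LK LD1_c15 LD2_c36 LD3_c23)) = (LP (LK LD1_c15 LD2_c49 LD3_c25)) :=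
  Lgr Lrot52 (Lpr_at (f292382 IH) (Lpr_gf (K18.f292380 IH) (Lpe (f178821 IH) (Lpn (LP (LK LD1_c15 LD2_c49 LD3_c25))))))
theorem f292401 : Led Lsl_ct (LP (LK LD1_c15 LD2_c36 LD3_c23)) = (LP (LK LD1_c8 LD2_c17 LD3_c56)) :=
  Lre_c IH (LK LD1_c15 LD2_c36 LD3_c23) (LK LD1_c8 LD2_c17 LD3_c56) Lrfl Lrfl
theorem f292402 : Led Lsl_ct (LP (LK LD1_c15 LD2_c36 LD3_c24)) = (LP (LK LD1_c15 LD2_c49 LD3_c25)) :=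
  Lgr Lrot40 (Lpe (K19.f219655 IH) (Lpe (f292401 IH) (Lpr_ff (f292383 IH) (Lpn (LP (LK LD1_c15 LD2_c49 LD3_c25))))))
theorem f324641 : Led Lsl_bf (LP (LK LD1_c8 LD2_c40 LD3_c19)) = (LP (LK LD1_c15 LD2_c36 LD3_c24)) :=
  Lgr Lrot34 (Lpr_gf (f324637 IH) (Lpr_bf (f275325 IH) (Lpr_ct (K19.f275317 IH) (Lpr_gf (f322355 IH) (Lpe (K18.f200521 IH) (Lpe (K20.f321169 IH) (Lpe (K18.f178788 IH) (Lpr_ct (K18.f178778 IH) (Lpe (f178821 IH) (Lpe (f292402 IH) (Lpn (LP (LK LD1_c15 LD2_c36 LD3_c24)))))))))))))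
theorem f324647 : Led Lsl_bt (LP (LK LD1_c4 LD2_c21 LD3_c19)) = (LP (LK LD1_c8 LD2_c17 LD3_c56)) :=
  Lgr Lrot35 (Lpe (f324628 IH) (Lpr_bf (f324641 IH) (Lpe (K19.f219655 IH) (Lpn (LP (LK LD1_c8 LD2_c17 LD3_c56))))))
theorem f191838 : Led Lsl_et (LP (LK LD1_c2 LD2_c8 LD3_c10)) = (LP (LK LD1_c4 LD2_c21 LD3_c19)) :=
  Lre_e IH (LK LD1_c2 LD2_c8 LD3_c10) (LK LD1_c4 LD2_c21 LD3_c19) Lrfl Lrfl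
theorem f219691 : Led Lsl_et (LP (LK LD1_c8 LD2_c17 LD3_c56)) = (LP (LK LD1_c4 LD2_c8 LD3_c53)) :=
  Lre_e IH (LK LD1_c8 LD2_c17 LD3_c56) (LK LD1_c4 LD2_c8 LD3_c53) Lrfl Lrfl
theorem f324654 : Led Lsl_bf (LP (LK LD1_c2 LD2_c8 LD3_c10)) = (LP (LK LD1_c4 LD2_c8 LD3_c53)) :=
  Lgr Lrot96 (Lpr_et (f191838 IH) (Lpr_bt (f324647 IH) (Lpr_et (f219691 IH) (Lpn (LP (LK LD1_c4 LD2_c8 LD3_c53))))))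
theorem f233142 : Led Lsl_gf (LP (LK LD1_c4 LD2_c8 LD3_c28)) = (LP (LK LD1_c2 LD2_c8 LD3_c10)) :=
  Lgr Lrot147 (Lpr_ct (K17.f233082 IH) (Lpr_gt (K13.f186926 IH) (Lpr_ct (K13.f186925 IH) (Lpe (K13.f271 IH) (Lpe (K10.f2086 IH) (Lpr_gf (K10.f186918 IH) (Lpe (K0.f29068 IH) (Lpe (K13.f29028 IH) (Lpe (K13.f29134 IH) (Lpn (LP (LK LD1_c2 LD2_c8 LD3_c10))))))))))))
theorem f324664 : Led Lsl_gt (LP (LK LD1_c4 LD2_c19 LD3_c31)) = (LP (LK LD1_c8 LD2_c17 LD3_c55)) :=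
  Lgr Lrot65 (Lpe (K16.f243444 IH) (Lpr_bt (K20.f243393 IH) (Lpr_gf (K17.f283201 IH) (Lpe (K17.f232923 IH) (Lpr_ct (K13.f272 IH) (Lpe (K13.f186926 IH) (Lpe (K17.f233082 IH) (Lpr_gf (f233142 IH) (Lpr_bf (f324654 IH) (Lpr_ct (K14.f219650 IH) (Lpn (LP (LK LD1_c8 LD2_c17 LD3_c55)))))))))))))
theorem f219708 : Led Lsl_ct (LP (LK LD1_c8 LD2_c17 LD3_c55)) = (LP (LK LD1_c4 LD2_c8 LD3_c53)) :=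
  Lre_c IH (LK LD1_c8 LD2_c17 LD3_c55) (LK LD1_c4 LD2_c8 LD3_c53) Lrfl Lrfl
theorem f219639 : Led Lsl_dt (LP (LK LD1_c2 LD2_c1 LD3_c49)) = (LP (LK LD1_c4 LD2_c8 LD3_c53)) :=
  Lre_d IH (LK LD1_c2 LD2_c1 LD3_c49) (LK LD1_c4 LD2_c8 LD3_c53) Lrfl Lrfl
theorem f324672 : Led Lsl_ct (LP (LK LD1_c2 LD2_c4 LD3_c24)) = (LP (LK LD1_c2 LD2_c1 LD3_c49)) :=
  Lgr Lrot110 (Lpr_gf (K16.f279313 IH) (Lpe (K16.f279263 IH) (Lpe (K16.f279256 IH) (Lpe (K16.f166915 IH) (Lpr_gt (K15.f267192 IH) (Lpr_ct (K16.f243444 IH) (Lpr_gt (f324664 IH) (Lpr_ct (f219708 IH) (Lpe (f219639 IH) (Lpn (LP (LK LD1_c2 LD2_c1 LD3_c49))))))))))))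
theorem f166440 : Led Lsl_bt (LP (LK LD1_c2 LD2_c4 LD3_c24)) = (LP (LK LD1_c0 LD2_c59 LD3_c13)) :=
  Lre_b IH (LK LD1_c2 LD2_c4 LD3_c24) (LK LD1_c0 LD2_c59 LD3_c13) Lrfl Lrfl
theorem f324703 : Led Lsl_gt (LP (LK LD1_c1 LD2_c1 LD3_c13)) = (LP (LK LD1_c2 LD2_c1 LD3_c49)) :=
  Lgr Lrot65 (Lpe (K12.f42885 IH) (Lpr_bt (K12.f168192 IH) (Lpe (K9.f8439 IH) (Lpe (K10.f196949 IH) (Lpe (K10.f196950 IH) (Lpe (K10.f634 IH) (Lpe (K10.f188735 IH) (Lpe (K10.f45730 IH) (Lpe (f166440 IH) (Lpr_ct (f324672 IH) (Lpn (LP (LK LD1_c2 LD2_c1 LD3_c49)))))))))))))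
theorem f324705 : Led Lsl_dt (LP (LK LD1_c15 LD2_c24 LD3_c10)) = (LP (LK LD1_c8 LD2_c17 LD3_c55)) :=
  Lgr Lrot105 (Lpr_gf (K17.f292647 IH) (Lpe (K17.f279301 IH) (Lpe (K17.f292467 IH) (Lpe (K16.f270908 IH) (Lpr_gt (K17.f267162 IH) (Lpr_dt (K12.f43078 IH) (Lpr_gt (f324703 IH) (Lpr_dt (f219639 IH) (Lpe (f219708 IH) (Lpn (LP (LK LD1_c8 LD2_c17 LD3_c55))))))))))))
theorem f324715 : Led Lsl_gf (LP (LK LD1_c4 LD2_c19 LD3_c28)) = (LP (LK LD1_c8 LD2_c17 LD3_c55)) :=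
  Lgr Lrot143 (Lpr_dt (K16.f189112 IH) (Lpe (K16.f278685 IH) (Lpe (K16.f278692 IH) (Lpe (K16.f225915 IH) (Lpe (K15.f254897 IH) (Lpe (K17.f42418 IH) (Lpe (K17.f292437 IH) (Lpe (K17.f292647 IH) (Lpr_dt (f324705 IH) (Lpn (LP (LK LD1_c8 LD2_c17 LD3_c55))))))))))))
theorem f309226 : Led Lsl_cf (LP (LK LD1_c5 LD2_c23 LD3_c58)) = (LP (LK LD1_c3 LD2_c57 LD3_c12)) :=
  Lgr Lrot55 (Lpr_dt (K19.f309217 IH) (Lpr_ct (K19.f309218 IH) (Lpr_dt (K17.f243281 IH) (Lpr_ct (K15.f179690 IH) (Lpr_dt (K16.f220676 IH) (Lpr_ct (K12.f53436 IH) (Lpr_dt (K17.f188778 IH) (Lpr_ct (K19.f309107 IH) (Lpr_dt (K19.f255848 IH) (Lpe (K19.f309122 IH) (Lpr_dt (K17.f229636 IH) (Lpr_ct (K17.f229635 IH) (Lpr_dt (K13.f229643 IH) (Lpr_ct (K12.f229476 IH) (Lpr_dt (K14.f229498 IH) (Lpn (LP (LK LD1_c3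 LD2_c57 LD3_c12))))))))))))))))))
theorem f324725 : Led Lsl_gt (LP (LK LD1_c4 LD2_c19 LD3_c27)) = (LP (LK LD1_c3 LD2_c57 LD3_c12)) :=
  Lgr Lrot82 (Lpe (K17.f189118 IH) (Lpr_ct (K12.f189106 IH) (Lpr_gf (f324715 IH) (Lpe (K14.f219650 IH) (Lpe (f324654 IH) (Lpr_gf (K14.f255616 IH) (Lpe (K19.f235599 IH) (Lpr_ct (K19.f184357 IH) (Lpe (K19.f255622 IH) (Lpr_cf (f309226 IH) (Lpn (LP (LK LD1_c3 LD2_c57 LD3_c12)))))))))))))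
theorem f322196 : Led Lsl_at (LP (LK LD1_c4 LD2_c12 LD3_c18)) = (LP (LK LD1_c7 LD2_c56 LD3_c5)) :=
  Lgr Lrot67 (Lpe (K14.f167096 IH) (Lpr_af (K20.f322192 IH) (Lpe (K15.f179571 IH) (Lpr_af (K20.f317612 IH) (Lpe (K14.f229578 IH) (Lpn (LP (LK LD1_c7 LD2_c56 LD3_c5))))))))
theorem f324729 : Led Lsl_ft (LP (LK LD1_c4 LD2_c19 LD3_c27)) = (LP (LK LD1_c4 LD2_c12 LD3_c18)) :=
  Lgr Lrot2 (Lpr_gt (f324725 IH) (Lpr_gt (K14.f229499 IH) (Lpe (f322196 IH) (Lpn (LP (LK LD1_c4 LD2_c12 LD3_c18))))))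
theorem f324736 : Led Lsl_ff (LP (LK LD1_c4 LD2_c19 LD3_c27)) = (LP (LK LD1_c4 LD2_c12 LD3_c18)) :=
  Lgr Lrot3 (Lpr_ft (f324729 IH) (Lpn (LP (LK LD1_c4 LD2_c12 LD3_c18))))
theorem f324744 : Led Lsl_at (LP (LK LD1_c4 LD2_c19 LD3_c27)) = (LP (LK LD1_c4 LD2_c22 LD3_c39)) :=
  Lgr Lrot26 (Lpr_ff (f324736 IH) (Lpe (K14.f246765 IH) (Lpr_gt (K14.f200554 IH) (Lpn (LP (LK LD1_c4 LD2_c22 LD3_c39))))))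
theorem f290251 : Led Lsl_et (LP (LK LD1_c8 LD2_c37 LD3_c10)) = (LP (LK LD1_c4 LD2_c19 LD3_c27)) :=
  Lre_e IH (LK LD1_c8 LD2_c37 LD3_c10) (LK LD1_c4 LD2_c19 LD3_c27) Lrfl Lrfl
theorem f252053 : Led Lsl_et (LP (LK LD1_c4 LD2_c22 LD3_c39)) = (LP (LK LD1_c8 LD2_c43 LD3_c9)) :=
  Lre_e IH (LK LD1_c4 LD2_c22 LD3_c39) (LK LD1_c8 LD2_c43 LD3_c9) Lrfl Lrfl
theorem f324750 : Led Lsl_af (LP (LK LD1_c8 LD2_c37 LD3_c10)) = (LP (LK LD1_c8 LD2_c43 LD3_c9)) :=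
  Lgr Lrot50 (Lpr_et (f290251 IH) (Lpr_at (f324744 IH) (Lpr_et (f252053 IH) (Lpn (LP (LK LD1_c8 LD2_c43 LD3_c9))))))
theorem f321385 : Led Lsl_df (LP (LK LD1_c8 LD2_c11 LD3_c24)) = (LP (LK LD1_c8 LD2_c37 LD3_c10)) :=
  Lgr Lrot38 (Lpr_dt (K20.f321382 IH) (Lpn (LP (LK LD1_c8 LD2_c37 LD3_c10))))
theorem f263716 : Led Lsl_dt (LP (LK LD1_c5 LD2_c29 LD3_c41)) = (LP (LK LD1_c10 LD2_c50 LD3_c39)) :=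
  Lre_d IH (LK LD1_c5 LD2_c29 LD3_c41) (LK LD1_c10 LD2_c50 LD3_c39) Lrfl Lrfl
theorem f263717 : Led Lsl_ef (LP (LK LD1_c10 LD2_c50 LD3_c39)) = (LP (LK LD1_c8 LD2_c26 LD3_c8)) :=
  Lgr Lrot88 (Lpr_et (K17.f263710 IH) (Lpn (LP (LK LD1_c8 LD2_c26 LD3_c8))))
theorem f54092 : Led Lsl_et (LP (LK LD1_c8 LD2_c38 LD3_c31)) = (LP (LK LD1_c4 LD2_c20 LD3_c19)) :=
  Lre_e IH (LK LD1_c8 LD2_c38 LD3_c31) (LK LD1_c4 LD2_c20 LD3_c19) Lrfl Lrfl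
theorem f263720 : Led Lsl_bt (LP (LK LD1_c10 LD2_c50 LD3_c39)) = (LP (LK LD1_c8 LD2_c38 LD3_c31)) :=
  Lgr Lrot119 (Lpr_ef (f263717 IH) (Lpe (K11.f198860 IH) (Lpe (f54092 IH) (Lpn (LP (LK LD1_c8 LD2_c38 LD3_c31))))))
theorem f322361 : Led Lsl_df (LP (LK LD1_c8 LD2_c43 LD3_c9)) = (LP (LK LD1_c8 LD2_c38 LD3_c31)) :=
  Lgr Lrot12 (Lpr_bt (K20.f322357 IH) (Lpr_dt (f263716 IH) (Lpr_bt (f263720 IH) (Lpn (LP (LK LD1_c8 LD2_c38 LD3_c31))))))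
theorem f324756 : Led Lsl_at (LP (LK LD1_c8 LD2_c11 LD3_c24)) = (LP (LK LD1_c8 LD2_c38 LD3_c31)) :=
  Lgr Lrot51 (Lpr_df (f321385 IH) (Lpr_af (f324750 IH) (Lpr_df (f322361 IH) (Lpn (LP (LK LD1_c8 LD2_c38 LD3_c31))))))
theorem f182960 : Led Lsl_ft (LP (LK LD1_c15 LD2_c25 LD3_c8)) = (LP (LK LD1_c8 LD2_c11 LD3_c24)) :=
  Lre_f IH (LK LD1_c15 LD2_c25 LD3_c8) (LK LD1_c8 LD2_c11 LD3_c24) Lrfl Lrfl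
theorem f257353 : Led Lsl_ft (LP (LK LD1_c8 LD2_c38 LD3_c31)) = (LP (LK LD1_c16 LD2_c11 LD3_c6)) :=
  Lre_f IH (LK LD1_c8 LD2_c38 LD3_c31) (LK LD1_c16 LD2_c11 LD3_c6) Lrfl Lrfl
theorem f324766 : Led Lsl_af (LP (LK LD1_c15 LD2_c25 LD3_c8)) = (LP (LK LD1_c16 LD2_c11 LD3_c6)) :=
  Lgr Lrot45 (Lpr_ft (f182960 IH) (Lpr_at (f324756 IH) (Lpr_ft (f257353 IH) (Lpn (LP (LK LD1_c16 LD2_c11 LD3_c6))))))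
theorem f182564 : Led Lsl_et (LP (LK LD1_c6 LD2_c4 LD3_c28)) = (LP (LK LD1_c11 LD2_c52 LD3_c26)) :=
  Lre_e IH (LK LD1_c6 LD2_c4 LD3_c28) (LK LD1_c11 LD2_c52 LD3_c26) Lrfl Lrfl
theorem f182566 : Led Lsl_ct (LP (LK LD1_c11 LD2_c52 LD3_c26)) = (LP (LK LD1_c8 LD2_c11 LD3_c24)) :=
  Lgr Lrot15 (Lpe (f182564 IH) (Lpr_cf (K9.f182551 IH) (Lpe (K20.f182565 IH) (Lpn (LP (LK LD1_c8 LD2_c11 LD3_c24))))))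
theorem f182934 : Led Lsl_ft (LP (LK LD1_c20 LD2_c55 LD3_c20)) = (LP (LK LD1_c11 LD2_c52 LD3_c26)) :=
  Lre_f IH (LK LD1_c20 LD2_c55 LD3_c20) (LK LD1_c11 LD2_c52 LD3_c26) Lrfl Lrfl
theorem f182935 : Led Lsl_ft (LP (LK LD1_c8 LD2_c11 LD3_c24)) = (LP (LK LD1_c15 LD2_c25 LD3_c8)) :=
  Lre_f IH (LK LD1_c8 LD2_c11 LD3_c24) (LK LD1_c15 LD2_c25 LD3_c8) Lrfl Lrfl
theorem f182936 : Led Lsl_cf (LP (LK LD1_c20 LD2_c55 LD3_c20)) = (LP (LK LD1_c15 LD2_c25 LD3_c8)) :=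
  Lgr Lrot108 (Lpr_ft (f182934 IH) (Lpr_ct (f182566 IH) (Lpr_ft (f182935 IH) (Lpn (LP (LK LD1_c15 LD2_c25 LD3_c8))))))
theorem f257330 : Led Lsl_et (LP (LK LD1_c4 LD2_c20 LD3_c19)) = (LP (LK LD1_c8 LD2_c38 LD3_c31)) :=
  Lre_e IH (LK LD1_c4 LD2_c20 LD3_c19) (LK LD1_c8 LD2_c38 LD3_c31) Lrfl Lrfl
theorem f257331 : Led Lsl_cf (LP (LK LD1_c6 LD2_c5 LD3_c11)) = (LP (LK LD1_c8 LD2_c38 LD3_c31)) :=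
  Lgr Lrot39 (Lpr_et (K20.f41689 IH) (Lpr_ct (K17.f257319 IH) (Lpr_et (f257330 IH) (Lpn (LP (LK LD1_c8 LD2_c38 LD3_c31))))))
theorem f257342 : Led Lsl_ft (LP (LK LD1_c6 LD2_c5 LD3_c11)) = (LP (LK LD1_c11 LD2_c53 LD3_c49)) :=
  Lre_f IH (LK LD1_c6 LD2_c5 LD3_c11) (LK LD1_c11 LD2_c53 LD3_c49) Lrfl Lrfl
theorem f257343 : Led Lsl_ft (LP (LK LD1_c16 LD2_c11 LD3_c6)) = (LP (LK LD1_c8 LD2_c38 LD3_c31)) :=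
  Lre_f IH (LK LD1_c16 LD2_c11 LD3_c6) (LK LD1_c8 LD2_c38 LD3_c31) Lrfl Lrfl
theorem f257344 : Led Lsl_ct (LP (LK LD1_c11 LD2_c53 LD3_c49)) = (LP (LK LD1_c16 LD2_c11 LD3_c6)) :=
  Lgr Lrot40 (Lpe (f257342 IH) (Lpr_cf (f257331 IH) (Lpe (f257343 IH) (Lpn (LP (LK LD1_c16 LD2_c11 LD3_c6))))))
theorem f324770 : Led Lsl_at (LP (LK LD1_c20 LD2_c55 LD3_c20)) = (LP (LK LD1_c11 LD2_c53 LD3_c49)) :=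
  Lgr Lrot107 (Lpr_cf (f182936 IH) (Lpr_af (f324766 IH) (Lpe (f257344 IH) (Lpn (LP (LK LD1_c11 LD2_c53 LD3_c49))))))
theorem f324775 : Led Lsl_af (LP (LK LD1_c20 LD2_c55 LD3_c20)) = (LP (LK LD1_c11 LD2_c53 LD3_c49)) :=
  Lgr Lrot0 (Lpr_at (f324770 IH) (Lpn (LP (LK LD1_c11 LD2_c53 LD3_c49))))
theorem f324777 : Led Lsl_at (LP (LK LD1_c11 LD2_c52 LD3_c26)) = (LP (LK LD1_c6 LD2_c5 LD3_c11)) :=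
  Lgr Lrot66 (Lpe (f182934 IH) (Lpr_af (f324775 IH) (Lpe (f257342 IH) (Lpn (LP (LK LD1_c6 LD2_c5 LD3_c11))))))
theorem f324783 : Led Lsl_af (LP (LK LD1_c6 LD2_c4 LD3_c28)) = (LP (LK LD1_c2 LD2_c58 LD3_c45)) :=
  Lgr Lrot50 (Lpr_et (f182564 IH) (Lpr_at (f324777 IH) (Lpr_et (K20.f41689 IH) (Lpn (LP (LK LD1_c2 LD2_c58 LD3_c45))))))
theorem f324793 : Led Lsl_ft (LP (LK LD1_c6 LD2_c4 LD3_c29)) = (LP (LK LD1_c2 LD2_c58 LD3_c45)) :=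
  Lgr Lrot2 (Lpr_gt (K12.f190973 IH) (Lpr_gt (K9.f42505 IH) (Lpr_af (f324783 IH) (Lpn (LP (LK LD1_c2 LD2_c58 LD3_c45))))))
theorem f324802 : Led Lsl_ff (LP (LK LD1_c6 LD2_c4 LD3_c29)) = (LP (LK LD1_c2 LD2_c58 LD3_c45)) :=
  Lgr Lrot3 (Lpr_ft (f324793 IH) (Lpn (LP (LK LD1_c2 LD2_c58 LD3_c45))))
theorem f324811 : Led Lsl_at (LP (LK LD1_c6 LD2_c4 LD3_c29)) = (LP (LK LD1_c2 LD2_c58 LD3_c46)) :=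
  Lgr Lrot26 (Lpr_ff (f324802 IH) (Lpr_gt (K11.f41688 IH) (Lpr_gt (K10.f42476 IH) (Lpn (LP (LK LD1_c2 LD2_c58 LD3_c46))))))
theorem f324787 : Led Lsl_at (LP (LK LD1_c6 LD2_c4 LD3_c28)) = (LP (LK LD1_c2 LD2_c58 LD3_c45)) :=
  Lgr Lrot100 (Lpr_af (f324783 IH) (Lpn (LP (LK LD1_c2 LD2_c58 LD3_c45))))
theorem f324822 : Led Lsl_ff (LP (LK LD1_c6 LD2_c4 LD3_c28)) = (LP (LK LD1_c2 LD2_c58 LD3_c46)) :=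
  Lgr Lrot30 (Lpr_at (f324787 IH) (Lpe (f324802 IH) (Lpr_at (f324811 IH) (Lpn (LP (LK LD1_c2 LD2_c58 LD3_c46))))))
theorem f324833 : Led Lsl_ft (LP (LK LD1_c6 LD2_c4 LD3_c28)) = (LP (LK LD1_c2 LD2_c58 LD3_c46)) :=
  Lgr Lrot48 (Lpr_ff (f324822 IH) (Lpn (LP (LK LD1_c2 LD2_c58 LD3_c46))))
theorem f324839 : Led Lsl_ff (LP (LK LD1_c11 LD2_c52 LD3_c25)) = (LP (LK LD1_c6 LD2_c5 LD3_c13)) :=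
  Lgr Lrot19 (Lpr_dt (K15.f42531 IH) (Lpr_ft (f324833 IH) (Lpr_dt (K17.f42477 IH) (Lpn (LP (LK LD1_c6 LD2_c5 LD3_c13))))))
theorem f324870 : Led Lsl_ft (LP (LK LD1_c9 LD2_c41 LD3_c41)) = (LP (LK LD1_c8 LD2_c13 LD3_c39)) :=
  Lgr Lrot4 (Lpr_cf (K15.f265112 IH) (Lpr_ff (f324839 IH) (Lpr_cf (K17.f274183 IH) (Lpn (LP (LK LD1_c8 LD2_c13 LD3_c39))))))
theorem f260297 : Led Lsl_gt (LP (LK LD1_c9 LD2_c41 LD3_c41)) = (LP (LK LD1_c15 LD2_c27 LD3_c57)) :=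
  Lgr Lrot49 (Lpe (K15.f214079 IH) (Lpe (K13.f216109 IH) (Lpe (K10.f28694 IH) (Lpe (K9.f182095 IH) (Lpr_dt (K9.f171994 IH) (Lpr_gt (K16.f257038 IH) (Lpr_dt (K15.f184832 IH) (Lpr_cf (K15.f260283 IH) (Lpe (K17.f260290 IH) (Lpn (LP (LK LD1_c15 LD2_c27 LD3_c57))))))))))))
theorem f187985 : Led Lsl_dt (LP (LK LD1_c15 LD2_c27 LD3_c31)) = (LP (LK LD1_c8 LD2_c13 LD3_c4)) :=
  Lre_d IH (LK LD1_c15 LD2_c27 LD3_c31) (LK LD1_c8 LD2_c13 LD3_c4) Lrfl Lrfl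
theorem f251681 : Led Lsl_gf (LP (LK LD1_c15 LD2_c27 LD3_c31)) = (LP (LK LD1_c15 LD2_c27 LD3_c57)) :=
  Lgr Lrot143 (Lpr_dt (f187985 IH) (Lpe (K10.f182537 IH) (Lpe (K14.f222000 IH) (Lpr_gf (K14.f251677 IH) (Lpe (K14.f250435 IH) (Lpe (K14.f187405 IH) (Lpe (K15.f192261 IH) (Lpr_gt (K15.f191961 IH) (Lpr_dt (K17.f191962 IH) (Lpn (LP (LK LD1_c15 LD2_c27 LD3_c57))))))))))))
theorem f324891 : Led Lsl_af (LP (LK LD1_c15 LD2_c27 LD3_c31)) = (LP (LK LD1_c8 LD2_c13 LD3_c39)) :=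
  Lgr Lrot31 (Lpr_gf (f251681 IH) (Lpe (f260297 IH) (Lpr_ft (f324870 IH) (Lpn (LP (LK LD1_c8 LD2_c13 LD3_c39))))))
theorem f187994 : Led Lsl_et (LP (LK LD1_c15 LD2_c27 LD3_c31)) = (LP (LK LD1_c25 LD2_c19 LD3_c16)) :=
  Lre_e IH (LK LD1_c15 LD2_c27 LD3_c31) (LK LD1_c25 LD2_c19 LD3_c16) Lrfl Lrfl
theorem f301398 : Led Lsl_et (LP (LK LD1_c15 LD2_c28 LD3_c37)) = (LP (LK LD1_c8 LD2_c13 LD3_c39)) :=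
  Lre_e IH (LK LD1_c15 LD2_c28 LD3_c37) (LK LD1_c8 LD2_c13 LD3_c39) Lrfl Lrfl
theorem f324898 : Led Lsl_at (LP (LK LD1_c25 LD2_c19 LD3_c16)) = (LP (LK LD1_c15 LD2_c28 LD3_c37)) :=
  Lgr Lrot80 (Lpe (f187994 IH) (Lpr_af (f324891 IH) (Lpe (f301398 IH) (Lpn (LP (LK LD1_c15 LD2_c28 LD3_c37))))))
theorem f324905 : Led Lsl_ft (LP (LK LD1_c31 LD2_c50 LD3_c46)) = (LP (LK LD1_c25 LD2_c19 LD3_c16)) :=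
  Lre_f IH (LK LD1_c31 LD2_c50 LD3_c46) (LK LD1_c25 LD2_c19 LD3_c16) Lrfl Lrfl
theorem f324886 : Led Lsl_ft (LP (LK LD1_c15 LD2_c28 LD3_c37)) = (LP (LK LD1_c25 LD2_c20 LD3_c58)) :=
  Lre_f IH (LK LD1_c15 LD2_c28 LD3_c37) (LK LD1_c25 LD2_c20 LD3_c58) Lrfl Lrfl
theorem f324906 : Led Lsl_af (LP (LK LD1_c31 LD2_c50 LD3_c46)) = (LP (LK LD1_c25 LD2_c20 LD3_c58)) :=
  Lgr Lrot45 (Lpr_ft (f324905 IH) (Lpr_at (f324898 IH) (Lpr_ft (f324886 IH) (Lpn (LP (LK LD1_c25 LD2_c20 LD3_c58))))))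
theorem f324911 : Led Lsl_dt (LP (LK LD1_c31 LD2_c50 LD3_c46)) = (LP (LK LD1_c32 LD2_c58 LD3_c9)) :=
  Lre_d IH (LK LD1_c31 LD2_c50 LD3_c46) (LK LD1_c32 LD2_c58 LD3_c9) Lrfl Lrfl
theorem f324917 : Led Lsl_dt (LP (LK LD1_c31 LD2_c51 LD3_c44)) = (LP (LK LD1_c25 LD2_c20 LD3_c58)) :=
  Lre_d IH (LK LD1_c31 LD2_c51 LD3_c44) (LK LD1_c25 LD2_c20 LD3_c58) Lrfl Lrfl
theorem f324918 : Led Lsl_at (LP (LK LD1_c32 LD2_c58 LD3_c9)) = (LP (LK LD1_c31 LD2_c51 LD3_c44)) :=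
  Lgr Lrot51 (Lpe (f324911 IH) (Lpr_af (f324906 IH) (Lpe (f324917 IH) (Lpn (LP (LK LD1_c31 LD2_c51 LD3_c44))))))
theorem f324924 : Led Lsl_af (LP (LK LD1_c32 LD2_c58 LD3_c9)) = (LP (LK LD1_c31 LD2_c51 LD3_c44)) :=
  Lgr Lrot0 (Lpr_at (f324918 IH) (Lpn (LP (LK LD1_c31 LD2_c51 LD3_c44))))
theorem f324933 : Led Lsl_ft (LP (LK LD1_c32 LD2_c58 LD3_c9)) = (LP (LK LD1_c31 LD2_c50 LD3_c45)) :=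
  Lre_f IH (LK LD1_c32 LD2_c58 LD3_c9) (LK LD1_c31 LD2_c50 LD3_c45) Lrfl Lrfl
theorem f324934 : Led Lsl_ft (LP (LK LD1_c25 LD2_c20 LD3_c57)) = (LP (LK LD1_c31 LD2_c51 LD3_c44)) :=
  Lre_f IH (LK LD1_c25 LD2_c20 LD3_c57) (LK LD1_c31 LD2_c51 LD3_c44) Lrfl Lrfl
theorem f324935 : Led Lsl_at (LP (LK LD1_c31 LD2_c50 LD3_c45)) = (LP (LK LD1_c25 LD2_c20 LD3_c57)) :=
  Lgr Lrot66 (Lpe (f324933 IH) (Lpr_af (f324924 IH) (Lpe (f324934 IH) (Lpn (LP (LK LD1_c25 LD2_c20 LD3_c57))))))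
theorem f324942 : Led Lsl_et (LP (LK LD1_c25 LD2_c19 LD3_c18)) = (LP (LK LD1_c31 LD2_c50 LD3_c45)) :=
  Lre_e IH (LK LD1_c25 LD2_c19 LD3_c18) (LK LD1_c31 LD2_c50 LD3_c45) Lrfl Lrfl
theorem f274219 : Led Lsl_et (LP (LK LD1_c25 LD2_c20 LD3_c57)) = (LP (LK LD1_c15 LD2_c28 LD3_c40)) :=
  Lre_e IH (LK LD1_c25 LD2_c20 LD3_c57) (LK LD1_c15 LD2_c28 LD3_c40) Lrfl Lrfl
theorem f324943 : Led Lsl_af (LP (LK LD1_c25 LD2_c19 LD3_c18)) = (LP (LK LD1_c15 LD2_c28 LD3_c40)) :=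
  Lgr Lrot50 (Lpr_et (f324942 IH) (Lpr_at (f324935 IH) (Lpr_et (f274219 IH) (Lpn (LP (LK LD1_c15 LD2_c28 LD3_c40))))))
theorem f191455 : Led Lsl_dt (LP (LK LD1_c25 LD2_c19 LD3_c18)) = (LP (LK LD1_c15 LD2_c27 LD3_c32)) :=
  Lre_d IH (LK LD1_c25 LD2_c19 LD3_c18) (LK LD1_c15 LD2_c27 LD3_c32) Lrfl Lrfl
theorem f183606 : Led Lsl_dt (LP (LK LD1_c8 LD2_c13 LD3_c40)) = (LP (LK LD1_c15 LD2_c28 LD3_c40)) :=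
  Lre_d IH (LK LD1_c8 LD2_c13 LD3_c40) (LK LD1_c15 LD2_c28 LD3_c40) Lrfl Lrfl
theorem f324955 : Led Lsl_at (LP (LK LD1_c15 LD2_c27 LD3_c32)) = (LP (LK LD1_c8 LD2_c13 LD3_c40)) :=
  Lgr Lrot51 (Lpe (f191455 IH) (Lpr_af (f324943 IH) (Lpe (f183606 IH) (Lpn (LP (LK LD1_c8 LD2_c13 LD3_c40))))))
theorem f324967 : Led Lsl_ft (LP (LK LD1_c25 LD2_c19 LD3_c19)) = (LP (LK LD1_c15 LD2_c27 LD3_c32)) :=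
  Lre_f IH (LK LD1_c25 LD2_c19 LD3_c19) (LK LD1_c15 LD2_c27 LD3_c32) Lrfl Lrfl
theorem f324968 : Led Lsl_ft (LP (LK LD1_c8 LD2_c13 LD3_c40)) = (LP (LK LD1_c15 LD2_c28 LD3_c41)) :=
  Lre_f IH (LK LD1_c8 LD2_c13 LD3_c40) (LK LD1_c15 LD2_c28 LD3_c41) Lrfl Lrfl
theorem f324969 : Led Lsl_af (LP (LK LD1_c25 LD2_c19 LD3_c19)) = (LP (LK LD1_c15 LD2_c28 LD3_c41)) :=
  Lgr Lrot45 (Lpr_ft (f324967 IH) (Lpr_at (f324955 IH) (Lpr_ft (f324968 IH) (Lpn (LP (LK LD1_c15 LD2_c28 LD3_c41))))))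
theorem f191459 : Led Lsl_ct (LP (LK LD1_c25 LD2_c19 LD3_c19)) = (LP (LK LD1_c15 LD2_c27 LD3_c34)) :=
  Lre_c IH (LK LD1_c25 LD2_c19 LD3_c19) (LK LD1_c15 LD2_c27 LD3_c34) Lrfl Lrfl
theorem f182647 : Led Lsl_ct (LP (LK LD1_c8 LD2_c13 LD3_c43)) = (LP (LK LD1_c15 LD2_c28 LD3_c41)) :=
  Lre_c IH (LK LD1_c8 LD2_c13 LD3_c43) (LK LD1_c15 LD2_c28 LD3_c41) Lrfl Lrfl
theorem f324976 : Led Lsl_at (LP (LK LD1_c15 LD2_c27 LD3_c34)) = (LP (LK LD1_c8 LD2_c13 LD3_c43)) :=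
  Lgr Lrot107 (Lpe (f191459 IH) (Lpr_af (f324969 IH) (Lpe (f182647 IH) (Lpn (LP (LK LD1_c8 LD2_c13 LD3_c43))))))
theorem f324980 : Led Lsl_af (LP (LK LD1_c15 LD2_c27 LD3_c34)) = (LP (LK LD1_c8 LD2_c13 LD3_c43)) :=
  Lgr Lrot0 (Lpr_at (f324976 IH) (Lpn (LP (LK LD1_c8 LD2_c13 LD3_c43))))
theorem f191452 : Led Lsl_ft (LP (LK LD1_c15 LD2_c27 LD3_c34)) = (LP (LK LD1_c8 LD2_c13 LD3_c5)) :=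
  Lre_f IH (LK LD1_c15 LD2_c27 LD3_c34) (LK LD1_c8 LD2_c13 LD3_c5) Lrfl Lrfl
theorem f301678 : Led Lsl_ft (LP (LK LD1_c4 LD2_c6 LD3_c34)) = (LP (LK LD1_c8 LD2_c13 LD3_c43)) :=
  Lre_f IH (LK LD1_c4 LD2_c6 LD3_c34) (LK LD1_c8 LD2_c13 LD3_c43) Lrfl Lrfl
theorem f324996 : Led Lsl_at (LP (LK LD1_c8 LD2_c13 LD3_c5)) = (LP (LK LD1_c4 LD2_c6 LD3_c34)) :=
  Lgr Lrot66 (Lpe (f191452 IH) (Lpr_af (f324980 IH) (Lpe (f301678 IH) (Lpn (LP (LK LD1_c4 LD2_c6 LD3_c34))))))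
theorem f325007 : Led Lsl_af (LP (LK LD1_c4 LD2_c6 LD3_c14)) = (LP (LK LD1_c2 LD2_c0 LD3_c37)) :=
  Lgr Lrot50 (Lpr_et (K18.f191451 IH) (Lpr_at (f324996 IH) (Lpr_et (K18.f47872 IH) (Lpn (LP (LK LD1_c2 LD2_c0 LD3_c37))))))
theorem f321340 : Led Lsl_ff (LP (LK LD1_c2 LD2_c0 LD3_c38)) = (LP (LK LD1_c4 LD2_c6 LD3_c14)) :=
  Lgr Lrot19 (Lpe (K10.f187301 IH) (Lpr_ft (K20.f321334 IH) (Lpr_dt (K14.f222000 IH) (Lpn (LP (LK LD1_c4 LD2_c6 LD3_c14))))))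
theorem f321220 : Led Lsl_ft (LP (LK LD1_c2 LD2_c25 LD3_c23)) = (LP (LK LD1_c2 LD2_c0 LD3_c37)) :=
  Lgr Lrot75 (Lpe (K12.f213916 IH) (Lpr_ff (K20.f321218 IH) (Lpe (K11.f182603 IH) (Lpn (LP (LK LD1_c2 LD2_c0 LD3_c37))))))
theorem f325017 : Led Lsl_at (LP (LK LD1_c2 LD2_c0 LD3_c38)) = (LP (LK LD1_c2 LD2_c25 LD3_c23)) :=
  Lgr Lrot66 (Lpr_ff (f321340 IH) (Lpr_af (f325007 IH) (Lpe (f321220 IH) (Lpn (LP (LK LD1_c2 LD2_c25 LD3_c23))))))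
theorem f213987 : Led Lsl_et (LP (LK LD1_c2 LD2_c25 LD3_c23)) = (LP (LK LD1_c4 LD2_c55 LD3_c0)) :=
  Lre_e IH (LK LD1_c2 LD2_c25 LD3_c23) (LK LD1_c4 LD2_c55 LD3_c0) Lrfl Lrfl
theorem f325025 : Led Lsl_af (LP (LK LD1_c4 LD2_c6 LD3_c37)) = (LP (LK LD1_c4 LD2_c55 LD3_c0)) :=
  Lgr Lrot50 (Lpr_et (K10.f47873 IH) (Lpr_at (f325017 IH) (Lpr_et (f213987 IH) (Lpn (LP (LK LD1_c4 LD2_c55 LD3_c0))))))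
theorem f187319 : Led Lsl_ft (LP (LK LD1_c4 LD2_c6 LD3_c37)) = (LP (LK LD1_c8 LD2_c13 LD3_c49)) :=
  Lre_f IH (LK LD1_c4 LD2_c6 LD3_c37) (LK LD1_c8 LD2_c13 LD3_c49) Lrfl Lrfl
theorem f213980 : Led Lsl_ft (LP (LK LD1_c9 LD2_c41 LD3_c39)) = (LP (LK LD1_c4 LD2_c55 LD3_c0)) :=
  Lre_f IH (LK LD1_c9 LD2_c41 LD3_c39) (LK LD1_c4 LD2_c55 LD3_c0) Lrfl Lrfl
theorem f325033 : Led Lsl_at (LP (LK LD1_c8 LD2_c13 LD3_c49)) = (LP (LK LD1_c9 LD2_c41 LD3_c39)) :=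
  Lgr Lrot66 (Lpe (f187319 IH) (Lpr_af (f325025 IH) (Lpe (f213980 IH) (Lpn (LP (LK LD1_c9 LD2_c41 LD3_c39))))))
theorem f188132 : Led Lsl_ct (LP (LK LD1_c15 LD2_c28 LD3_c57)) = (LP (LK LD1_c8 LD2_c13 LD3_c49)) :=
  Lre_c IH (LK LD1_c15 LD2_c28 LD3_c57) (LK LD1_c8 LD2_c13 LD3_c49) Lrfl Lrfl
theorem f213964 : Led Lsl_ct (LP (LK LD1_c9 LD2_c41 LD3_c39)) = (LP (LK LD1_c17 LD2_c49 LD3_c61)) :=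
  Lre_c IH (LK LD1_c9 LD2_c41 LD3_c39) (LK LD1_c17 LD2_c49 LD3_c61) Lrfl Lrfl
theorem f325044 : Led Lsl_af (LP (LK LD1_c15 LD2_c28 LD3_c57)) = (LP (LK LD1_c17 LD2_c49 LD3_c61)) :=
  Lgr Lrot68 (Lpr_ct (f188132 IH) (Lpr_at (f325033 IH) (Lpr_ct (f213964 IH) (Lpn (LP (LK LD1_c17 LD2_c49 LD3_c61))))))
theorem f325048 : Led Lsl_dt (LP (LK LD1_c15 LD2_c28 LD3_c57)) = (LP (LK LD1_c25 LD2_c21 LD3_c24)) :=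
  Lre_d IH (LK LD1_c15 LD2_c28 LD3_c57) (LK LD1_c25 LD2_c21 LD3_c24) Lrfl Lrfl
theorem f213963 : Led Lsl_dt (LP (LK LD1_c27 LD2_c37 LD3_c8)) = (LP (LK LD1_c17 LD2_c49 LD3_c61)) :=
  Lre_d IH (LK LD1_c27 LD2_c37 LD3_c8) (LK LD1_c17 LD2_c49 LD3_c61) Lrfl Lrfl
theorem f325049 : Led Lsl_at (LP (LK LD1_c25 LD2_c21 LD3_c24)) = (LP (LK LD1_c27 LD2_c37 LD3_c8)) :=
  Lgr Lrot51 (Lpe (f325048 IH) (Lpr_af (f325044 IH) (Lpe (f213963 IH) (Lpn (LP (LK LD1_c27 LD2_c37 LD3_c8))))))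
theorem f187332 : Led Lsl_ft (LP (LK LD1_c15 LD2_c28 LD3_c56)) = (LP (LK LD1_c25 LD2_c21 LD3_c24)) :=
  Lre_f IH (LK LD1_c15 LD2_c28 LD3_c56) (LK LD1_c25 LD2_c21 LD3_c24) Lrfl Lrfl
theorem f325066 : Led Lsl_ft (LP (LK LD1_c27 LD2_c37 LD3_c8)) = (LP (LK LD1_c17 LD2_c49 LD3_c60)) :=
  Lre_f IH (LK LD1_c27 LD2_c37 LD3_c8) (LK LD1_c17 LD2_c49 LD3_c60) Lrfl Lrfl
theorem f325067 : Led Lsl_af (LP (LK LD1_c15 LD2_c28 LD3_c56)) = (LP (LK LD1_c17 LD2_c49 LD3_c60)) :=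
  Lgr Lrot45 (Lpr_ft (f187332 IH) (Lpr_at (f325049 IH) (Lpr_ft (f325066 IH) (Lpn (LP (LK LD1_c17 LD2_c49 LD3_c60))))))
theorem f325076 : Led Lsl_et (LP (LK LD1_c15 LD2_c28 LD3_c56)) = (LP (LK LD1_c25 LD2_c21 LD3_c17)) :=
  Lre_e IH (LK LD1_c15 LD2_c28 LD3_c56) (LK LD1_c25 LD2_c21 LD3_c17) Lrfl Lrfl
theorem f325077 : Led Lsl_et (LP (LK LD1_c27 LD2_c37 LD3_c7)) = (LP (LK LD1_c17 LD2_c49 LD3_c60)) :=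
  Lre_e IH (LK LD1_c27 LD2_c37 LD3_c7) (LK LD1_c17 LD2_c49 LD3_c60) Lrfl Lrfl
theorem f325078 : Led Lsl_at (LP (LK LD1_c25 LD2_c21 LD3_c17)) = (LP (LK LD1_c27 LD2_c37 LD3_c7)) :=
  Lgr Lrot80 (Lpe (f325076 IH) (Lpr_af (f325067 IH) (Lpe (f325077 IH) (Lpn (LP (LK LD1_c27 LD2_c37 LD3_c7))))))
theorem f274250 : Led Lsl_dt (LP (LK LD1_c15 LD2_c28 LD3_c53)) = (LP (LK LD1_c25 LD2_c21 LD3_c17)) :=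
  Lre_d IH (LK LD1_c15 LD2_c28 LD3_c53) (LK LD1_c25 LD2_c21 LD3_c17) Lrfl Lrfl
theorem f316650 : Led Lsl_dt (LP (LK LD1_c27 LD2_c37 LD3_c7)) = (LP (LK LD1_c17 LD2_c50 LD3_c3)) :=
  Lre_d IH (LK LD1_c27 LD2_c37 LD3_c7) (LK LD1_c17 LD2_c50 LD3_c3) Lrfl Lrfl
theorem f325087 : Led Lsl_af (LP (LK LD1_c15 LD2_c28 LD3_c53)) = (LP (LK LD1_c17 LD2_c50 LD3_c3)) :=
  Lgr Lrot117 (Lpr_dt (f274250 IH) (Lpr_at (f325078 IH) (Lpr_dt (f316650 IH) (Lpn (LP (LK LD1_c17 LD2_c50 LD3_c3))))))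
theorem f274348 : Led Lsl_ft (LP (LK LD1_c15 LD2_c28 LD3_c53)) = (LP (LK LD1_c25 LD2_c21 LD3_c18)) :=
  Lre_f IH (LK LD1_c15 LD2_c28 LD3_c53) (LK LD1_c25 LD2_c21 LD3_c18) Lrfl Lrfl
theorem f324885 : Led Lsl_ft (LP (LK LD1_c27 LD2_c37 LD3_c13)) = (LP (LK LD1_c17 LD2_c50 LD3_c3)) :=
  Lre_f IH (LK LD1_c27 LD2_c37 LD3_c13) (LK LD1_c17 LD2_c50 LD3_c3) Lrfl Lrfl
theorem f325096 : Led Lsl_at (LP (LK LD1_c25 LD2_c21 LD3_c18)) = (LP (LK LD1_c27 LD2_c37 LD3_c13)) :=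
  Lgr Lrot66 (Lpe (f274348 IH) (Lpr_af (f325087 IH) (Lpe (f324885 IH) (Lpn (LP (LK LD1_c27 LD2_c37 LD3_c13))))))
theorem f325103 : Led Lsl_af (LP (LK LD1_c25 LD2_c21 LD3_c18)) = (LP (LK LD1_c27 LD2_c37 LD3_c13)) :=
  Lgr Lrot0 (Lpr_at (f325096 IH) (Lpn (LP (LK LD1_c27 LD2_c37 LD3_c13))))
theorem f260305 : Led Lsl_et (LP (LK LD1_c17 LD2_c50 LD3_c3)) = (LP (LK LD1_c9 LD2_c41 LD3_c41)) :=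
  Lre_e IH (LK LD1_c17 LD2_c50 LD3_c3) (LK LD1_c9 LD2_c41 LD3_c41) Lrfl Lrfl
theorem f183599 : Led Lsl_et (LP (LK LD1_c8 LD2_c13 LD3_c39)) = (LP (LK LD1_c15 LD2_c28 LD3_c37)) :=
  Lre_e IH (LK LD1_c8 LD2_c13 LD3_c39) (LK LD1_c15 LD2_c28 LD3_c37) Lrfl Lrfl
theorem f324887 : Led Lsl_ef (LP (LK LD1_c27 LD2_c37 LD3_c13)) = (LP (LK LD1_c25 LD2_c20 LD3_c58)) :=
  Lgr Lrot21 (Lpr_ft (f324885 IH) (Lpr_et (f260305 IH) (Lpr_ft (f324870 IH) (Lpr_et (f183599 IH) (Lpr_ft (f324886 IH) (Lpn (LP (LK LD1_c25 LD2_c20 LD3_c58))))))))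
theorem f324915 : Led Lsl_at (LP (LK LD1_c31 LD2_c50 LD3_c46)) = (LP (LK LD1_c25 LD2_c20 LD3_c58)) :=
  Lgr Lrot100 (Lpr_af (f324906 IH) (Lpn (LP (LK LD1_c25 LD2_c20 LD3_c58))))
theorem f325108 : Led Lsl_et (LP (LK LD1_c25 LD2_c21 LD3_c18)) = (LP (LK LD1_c31 LD2_c50 LD3_c46)) :=
  Lgr Lrot123 (Lpr_af (f325103 IH) (Lpr_ef (f324887 IH) (Lpe (f324915 IH) (Lpn (LP (LK LD1_c31 LD2_c50 LD3_c46))))))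
theorem f194340 : Led Lsl_et (LP (LK LD1_c8 LD2_c13 LD3_c46)) = (LP (LK LD1_c15 LD2_c28 LD3_c53)) :=
  Lre_e IH (LK LD1_c8 LD2_c13 LD3_c46) (LK LD1_c15 LD2_c28 LD3_c53) Lrfl Lrfl
theorem f325115 : Led Lsl_et (LP (LK LD1_c25 LD2_c19 LD3_c16)) = (LP (LK LD1_c15 LD2_c27 LD3_c31)) :=
  Lre_e IH (LK LD1_c25 LD2_c19 LD3_c16) (LK LD1_c15 LD2_c27 LD3_c31) Lrfl Lrfl
theorem f325116 : Led Lsl_ff (LP (LK LD1_c8 LD2_c13 LD3_c46)) = (LP (LK LD1_c15 LD2_c27 LD3_c31)) :=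
  Lgr Lrot72 (Lpr_et (f194340 IH) (Lpr_ft (f274348 IH) (Lpr_et (f325108 IH) (Lpr_ft (f324905 IH) (Lpr_et (f325115 IH) (Lpn (LP (LK LD1_c15 LD2_c27 LD3_c31))))))))
theorem f325120 : Led Lsl_ft (LP (LK LD1_c8 LD2_c13 LD3_c46)) = (LP (LK LD1_c15 LD2_c27 LD3_c31)) :=
  Lgr Lrot48 (Lpr_ff (f325116 IH) (Lpn (LP (LK LD1_c15 LD2_c27 LD3_c31))))
theorem f325124 : Led Lsl_ff (LP (LK LD1_c4 LD2_c6 LD3_c36)) = (LP (LK LD1_c8 LD2_c13 LD3_c4)) :=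
  Lgr Lrot19 (Lpr_dt (K17.f187337 IH) (Lpr_ft (f325120 IH) (Lpr_dt (f187985 IH) (Lpn (LP (LK LD1_c8 LD2_c13 LD3_c4))))))
theorem f325134 : Led Lsl_at (LP (LK LD1_c4 LD2_c6 LD3_c36)) = (LP (LK LD1_c4 LD2_c55 LD3_c2)) :=
  Lgr Lrot26 (Lpr_ff (f325124 IH) (Lpe (K10.f187977 IH) (Lpr_gt (K13.f216109 IH) (Lpn (LP (LK LD1_c4 LD2_c55 LD3_c2))))))
theorem f290817 : Led Lsl_et (LP (LK LD1_c8 LD2_c13 LD3_c4)) = (LP (LK LD1_c15 LD2_c27 LD3_c32)) :=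
  Lre_e IH (LK LD1_c8 LD2_c13 LD3_c4) (LK LD1_c15 LD2_c27 LD3_c32) Lrfl Lrfl
theorem f183605 : Led Lsl_et (LP (LK LD1_c8 LD2_c13 LD3_c40)) = (LP (LK LD1_c4 LD2_c6 LD3_c33)) :=
  Lre_e IH (LK LD1_c8 LD2_c13 LD3_c40) (LK LD1_c4 LD2_c6 LD3_c33) Lrfl Lrfl
theorem f324965 : Led Lsl_af (LP (LK LD1_c8 LD2_c13 LD3_c4)) = (LP (LK LD1_c4 LD2_c6 LD3_c33)) :=
  Lgr Lrot50 (Lpr_et (f290817 IH) (Lpr_at (f324955 IH) (Lpr_et (f183605 IH) (Lpn (LP (LK LD1_c4 LD2_c6 LD3_c33))))))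
theorem f325140 : Led Lsl_ff (LP (LK LD1_c4 LD2_c6 LD3_c33)) = (LP (LK LD1_c4 LD2_c55 LD3_c2)) :=
  Lgr Lrot30 (Lpe (f324965 IH) (Lpe (f325124 IH) (Lpr_at (f325134 IH) (Lpn (LP (LK LD1_c4 LD2_c55 LD3_c2))))))
theorem f274294 : Led Lsl_et (LP (LK LD1_c4 LD2_c6 LD3_c33)) = (LP (LK LD1_c8 LD2_c13 LD3_c40)) :=
  Lre_e IH (LK LD1_c4 LD2_c6 LD3_c33) (LK LD1_c8 LD2_c13 LD3_c40) Lrfl Lrfl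
theorem f216113 : Led Lsl_et (LP (LK LD1_c9 LD2_c41 LD3_c38)) = (LP (LK LD1_c4 LD2_c55 LD3_c2)) :=
  Lre_e IH (LK LD1_c9 LD2_c41 LD3_c38) (LK LD1_c4 LD2_c55 LD3_c2) Lrfl Lrfl
theorem f325144 : Led Lsl_ft (LP (LK LD1_c17 LD2_c49 LD3_c61)) = (LP (LK LD1_c9 LD2_c41 LD3_c38)) :=
  Lre_f IH (LK LD1_c17 LD2_c49 LD3_c61) (LK LD1_c9 LD2_c41 LD3_c38) Lrfl Lrfl
theorem f325145 : Led Lsl_et (LP (LK LD1_c15 LD2_c28 LD3_c41)) = (LP (LK LD1_c17 LD2_c49 LD3_c61)) :=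
  Lgr Lrot69 (Lpe (f324968 IH) (Lpe (f274294 IH) (Lpr_ff (f325140 IH) (Lpe (f216113 IH) (Lpe (f325144 IH) (Lpn (LP (LK LD1_c17 LD2_c49 LD3_c61))))))))
theorem f325154 : Led Lsl_ef (LP (LK LD1_c15 LD2_c28 LD3_c41)) = (LP (LK LD1_c17 LD2_c49 LD3_c61)) :=
  Lgr Lrot88 (Lpr_et (f325145 IH) (Lpn (LP (LK LD1_c17 LD2_c49 LD3_c61))))
theorem f182639 : Led Lsl_ct (LP (LK LD1_c15 LD2_c28 LD3_c41)) = (LP (LK LD1_c8 LD2_c13 LD3_c43)) :=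
  Lre_c IH (LK LD1_c15 LD2_c28 LD3_c41) (LK LD1_c8 LD2_c13 LD3_c43) Lrfl Lrfl
theorem f325160 : Led Lsl_et (LP (LK LD1_c8 LD2_c13 LD3_c43)) = (LP (LK LD1_c9 LD2_c41 LD3_c39)) :=
  Lgr Lrot158 (Lpe (f182639 IH) (Lpr_ef (f325154 IH) (Lpe (f213964 IH) (Lpn (LP (LK LD1_c9 LD2_c41 LD3_c39))))))
theorem f325042 : Led Lsl_af (LP (LK LD1_c8 LD2_c13 LD3_c49)) = (LP (LK LD1_c9 LD2_c41 LD3_c39)) :=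
  Lgr Lrot0 (Lpr_at (f325033 IH) (Lpn (LP (LK LD1_c9 LD2_c41 LD3_c39))))
theorem f325178 : Led Lsl_ef (LP (LK LD1_c15 LD2_c27 LD3_c34)) = (LP (LK LD1_c8 LD2_c13 LD3_c49)) :=
  Lgr Lrot20 (Lpr_at (f324976 IH) (Lpr_et (f325160 IH) (Lpe (f325042 IH) (Lpn (LP (LK LD1_c8 LD2_c13 LD3_c49))))))
theorem f325182 : Led Lsl_et (LP (LK LD1_c15 LD2_c27 LD3_c34)) = (LP (LK LD1_c8 LD2_c13 LD3_c49)) :=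
  Lgr Lrot87 (Lpr_ef (f325178 IH) (Lpn (LP (LK LD1_c8 LD2_c13 LD3_c49))))
theorem f191399 : Led Lsl_ft (LP (LK LD1_c5 LD2_c17 LD3_c22)) = (LP (LK LD1_c10 LD2_c24 LD3_c17)) :=
  Lre_f IH (LK LD1_c5 LD2_c17 LD3_c22) (LK LD1_c10 LD2_c24 LD3_c17) Lrfl Lrfl
theorem f191453 : Led Lsl_bt (LP (LK LD1_c10 LD2_c24 LD3_c17)) = (LP (LK LD1_c15 LD2_c27 LD3_c34)) :=
  Lgr Lrot35 (Lpe (f191399 IH) (Lpr_bf (K19.f191427 IH) (Lpe (f191452 IH) (Lpn (LP (LK LD1_c15 LD2_c27 LD3_c34))))))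
theorem f188131 : Led Lsl_bt (LP (LK LD1_c8 LD2_c13 LD3_c49)) = (LP (LK LD1_c15 LD2_c28 LD3_c47)) :=
  Lre_b IH (LK LD1_c8 LD2_c13 LD3_c49) (LK LD1_c15 LD2_c28 LD3_c47) Lrfl Lrfl
theorem f325184 : Led Lsl_ef (LP (LK LD1_c10 LD2_c24 LD3_c17)) = (LP (LK LD1_c15 LD2_c28 LD3_c47)) :=
  Lgr Lrot29 (Lpr_bt (f191453 IH) (Lpr_et (f325182 IH) (Lpr_bt (f188131 IH) (Lpn (LP (LK LD1_c15 LD2_c28 LD3_c47))))))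
theorem f191406 : Led Lsl_ft (LP (LK LD1_c10 LD2_c24 LD3_c17)) = (LP (LK LD1_c5 LD2_c17 LD3_c22)) :=
  Lre_f IH (LK LD1_c10 LD2_c24 LD3_c17) (LK LD1_c5 LD2_c17 LD3_c22) Lrfl Lrfl
theorem f188123 : Led Lsl_ft (LP (LK LD1_c8 LD2_c13 LD3_c44)) = (LP (LK LD1_c15 LD2_c28 LD3_c47)) :=
  Lre_f IH (LK LD1_c8 LD2_c13 LD3_c44) (LK LD1_c15 LD2_c28 LD3_c47) Lrfl Lrfl
theorem f325186 : Led Lsl_ft (LP (LK LD1_c2 LD2_c35 LD3_c27)) = (LP (LK LD1_c4 LD2_c6 LD3_c35)) :=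
  Lgr Lrot86 (Lpe (K19.f32952 IH) (Lpe (f191406 IH) (Lpr_ef (f325184 IH) (Lpe (f188123 IH) (Lpe (K10.f188190 IH) (Lpn (LP (LK LD1_c4 LD2_c6 LD3_c35))))))))
theorem f325190 : Led Lsl_ff (LP (LK LD1_c4 LD2_c7 LD3_c41)) = (LP (LK LD1_c4 LD2_c8 LD3_c3)) :=
  Lgr Lrot23 (Lpr_ct (K10.f191355 IH) (Lpr_ft (f325186 IH) (Lpe (K10.f188047 IH) (Lpn (LP (LK LD1_c4 LD2_c8 LD3_c3))))))
theorem f325196 : Led Lsl_at (LP (LK LD1_c4 LD2_c7 LD3_c41)) = (LP (LK LD1_c4 LD2_c8 LD3_c2)) :=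
  Lgr Lrot26 (Lpr_ff (f325190 IH) (Lpr_gt (K10.f49332 IH) (Lpr_gt (K10.f49326 IH) (Lpn (LP (LK LD1_c4 LD2_c8 LD3_c2))))))
theorem f51393 : Led Lsl_et (LP (LK LD1_c8 LD2_c15 LD3_c24)) = (LP (LK LD1_c4 LD2_c7 LD3_c41)) :=
  Lre_e IH (LK LD1_c8 LD2_c15 LD3_c24) (LK LD1_c4 LD2_c7 LD3_c41) Lrfl Lrfl
theorem f325204 : Led Lsl_af (LP (LK LD1_c8 LD2_c15 LD3_c24)) = (LP (LK LD1_c8 LD2_c16 LD3_c7)) :=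
  Lgr Lrot50 (Lpr_et (f51393 IH) (Lpr_at (f325196 IH) (Lpr_et (K14.f184131 IH) (Lpn (LP (LK LD1_c8 LD2_c16 LD3_c7))))))
theorem f325210 : Led Lsl_at (LP (LK LD1_c5 LD2_c17 LD3_c22)) = (LP (LK LD1_c10 LD2_c23 LD3_c36)) :=
  Lgr Lrot107 (Lpe (K19.f191358 IH) (Lpr_af (f325204 IH) (Lpe (K19.f184136 IH) (Lpn (LP (LK LD1_c10 LD2_c23 LD3_c36))))))
theorem f184139 : Led Lsl_ft (LP (LK LD1_c10 LD2_c23 LD3_c36)) = (LP (LK LD1_c18 LD2_c51 LD3_c27)) :=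
  Lre_f IH (LK LD1_c10 LD2_c23 LD3_c36) (LK LD1_c18 LD2_c51 LD3_c27) Lrfl Lrfl
theorem f325214 : Led Lsl_af (LP (LK LD1_c10 LD2_c24 LD3_c17)) = (LP (LK LD1_c18 LD2_c51 LD3_c27)) :=
  Lgr Lrot45 (Lpr_ft (f191406 IH) (Lpr_at (f325210 IH) (Lpr_ft (f184139 IH) (Lpn (LP (LK LD1_c18 LD2_c51 LD3_c27))))))
theorem f314585 : Led Lsl_bt (LP (LK LD1_c8 LD2_c14 LD3_c22)) = (LP (LK LD1_c15 LD2_c30 LD3_c2)) :=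
  Lre_b IH (LK LD1_c8 LD2_c14 LD3_c22) (LK LD1_c15 LD2_c30 LD3_c2) Lrfl Lrfl
theorem f254409 : Led Lsl_ct (LP (LK LD1_c5 LD2_c21 LD3_c52)) = (LP (LK LD1_c10 LD2_c34 LD3_c0)) :=
  Lre_c IH (LK LD1_c5 LD2_c21 LD3_c52) (LK LD1_c10 LD2_c34 LD3_c0) Lrfl Lrfl
theorem f314690 : Led Lsl_gf (LP (LK LD1_c15 LD2_c30 LD3_c2)) = (LP (LK LD1_c10 LD2_c23 LD3_c36)) :=
  Lgr Lrot124 (Lpe (f314585 IH) (Lpr_ct (K20.f195491 IH) (Lpr_gt (K20.f314683 IH) (Lpe (K19.f308642 IH) (Lpe (K20.f231433 IH) (Lpr_gt (K20.f254407 IH) (Lpr_ct (f254409 IH) (Lpe (K16.f256539 IH) (Lpe (K14.f194882 IH) (Lpe (K14.f194780 IH) (Lpn (LP (LK LD1_c10 LD2_c23 LD3_c36)))))))))))))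
theorem f325220 : Led Lsl_gf (LP (LK LD1_c10 LD2_c24 LD3_c17)) = (LP (LK LD1_c15 LD2_c30 LD3_c2)) :=
  Lgr Lrot76 (Lpr_af (f325214 IH) (Lpe (f184139 IH) (Lpe (f314690 IH) (Lpn (LP (LK LD1_c15 LD2_c30 LD3_c2))))))
theorem f191456 : Led Lsl_bf (LP (LK LD1_c10 LD2_c24 LD3_c17)) = (LP (LK LD1_c15 LD2_c27 LD3_c34)) :=
  Lgr Lrot24 (Lpr_bt (f191453 IH) (Lpn (LP (LK LD1_c15 LD2_c27 LD3_c34))))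
theorem f191458 : Led Lsl_ct (LP (LK LD1_c15 LD2_c27 LD3_c34)) = (LP (LK LD1_c25 LD2_c19 LD3_c19)) :=
  Lre_c IH (LK LD1_c15 LD2_c27 LD3_c34) (LK LD1_c25 LD2_c19 LD3_c19) Lrfl Lrfl
theorem f182752 : Led Lsl_gt (LP (LK LD1_c15 LD2_c28 LD3_c39)) = (LP (LK LD1_c8 LD2_c13 LD3_c40)) :=
  Lre_g IH (LK LD1_c15 LD2_c28 LD3_c39) (LK LD1_c8 LD2_c13 LD3_c40) Lrfl Lrfl
theorem f324971 : Led Lsl_gt (LP (LK LD1_c25 LD2_c19 LD3_c19)) = (LP (LK LD1_c15 LD2_c28 LD3_c39)) :=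
  Lgr Lrot5 (Lpr_ft (f324967 IH) (Lpr_at (f324955 IH) (Lpe (f182752 IH) (Lpn (LP (LK LD1_c15 LD2_c28 LD3_c39))))))
theorem f301343 : Led Lsl_ff (LP (LK LD1_c15 LD2_c1 LD3_c59)) = (LP (LK LD1_c24 LD2_c48 LD3_c40)) :=
  Lgr Lrot3 (Lpr_ft (K18.f301335 IH) (Lpn (LP (LK LD1_c24 LD2_c48 LD3_c40))))
theorem f301333 : Led Lsl_ct (LP (LK LD1_c15 LD2_c18 LD3_c28)) = (LP (LK LD1_c24 LD2_c48 LD3_c40)) :=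
  Lgr Lrot59 (Lpr_cf (K18.f301331 IH) (Lpn (LP (LK LD1_c24 LD2_c48 LD3_c40))))
theorem f301347 : Led Lsl_ct (LP (LK LD1_c15 LD2_c1 LD3_c59)) = (LP (LK LD1_c8 LD2_c7 LD3_c53)) :=
  Lgr Lrot40 (Lpr_ff (f301343 IH) (Lpe (f301333 IH) (Lpe (K18.f275699 IH) (Lpn (LP (LK LD1_c8 LD2_c7 LD3_c53))))))
theorem f301349 : Led Lsl_ef (LP (LK LD1_c15 LD2_c1 LD3_c59)) = (LP (LK LD1_c10 LD2_c35 LD3_c44)) :=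
  Lgr Lrot28 (Lpr_ct (f301347 IH) (Lpr_et (K16.f274503 IH) (Lpr_ct (K15.f257993 IH) (Lpn (LP (LK LD1_c10 LD2_c35 LD3_c44))))))
theorem f301181 : Led Lsl_dt (LP (LK LD1_c7 LD2_c58 LD3_c7)) = (LP (LK LD1_c15 LD2_c1 LD3_c60)) :=
  Lre_d IH (LK LD1_c7 LD2_c58 LD3_c7) (LK LD1_c15 LD2_c1 LD3_c60) Lrfl Lrfl
theorem f301351 : Led Lsl_gt (LP (LK LD1_c15 LD2_c1 LD3_c60)) = (LP (LK LD1_c24 LD2_c50 LD3_c24)) :=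
  Lre_g IH (LK LD1_c15 LD2_c1 LD3_c60) (LK LD1_c24 LD2_c50 LD3_c24) Lrfl Lrfl
theorem f274317 : Led Lsl_et (LP (LK LD1_c25 LD2_c21 LD3_c1)) = (LP (LK LD1_c15 LD2_c28 LD3_c39)) :=
  Lre_e IH (LK LD1_c25 LD2_c21 LD3_c1) (LK LD1_c15 LD2_c28 LD3_c39) Lrfl Lrfl
theorem f301357 : Led Lsl_df (LP (LK LD1_c24 LD2_c50 LD3_c24)) = (LP (LK LD1_c25 LD2_c21 LD3_c1)) :=
  Lgr Lrot132 (Lpe (f301351 IH) (Lpe (f301181 IH) (Lpe (K18.f301088 IH) (Lpr_ef (f301349 IH) (Lpe (K17.f274311 IH) (Lpe (K16.f183594 IH) (Lpe (K16.f183593 IH) (Lpr_et (f274294 IH) (Lpe (f182752 IH) (Lpe (f274317 IH) (Lpn (LP (LK LD1_c25 LD2_c21 LD3_c1)))))))))))))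
theorem f301362 : Led Lsl_dt (LP (LK LD1_c24 LD2_c50 LD3_c24)) = (LP (LK LD1_c25 LD2_c21 LD3_c1)) :=
  Lgr Lrot42 (Lpr_df (f301357 IH) (Lpn (LP (LK LD1_c25 LD2_c21 LD3_c1))))
theorem f236905 : Led Lsl_gt (LP (LK LD1_c8 LD2_c7 LD3_c54)) = (LP (LK LD1_c15 LD2_c18 LD3_c40)) :=
  Lre_g IH (LK LD1_c8 LD2_c7 LD3_c54) (LK LD1_c15 LD2_c18 LD3_c40) Lrfl Lrfl
theorem f274488 : Led Lsl_gt (LP (LK LD1_c11 LD2_c53 LD3_c13)) = (LP (LK LD1_c6 LD2_c4 LD3_c57)) :=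
  Lre_g IH (LK LD1_c11 LD2_c53 LD3_c13) (LK LD1_c6 LD2_c4 LD3_c57) Lrfl Lrfl
theorem f274489 : Led Lsl_et (LP (LK LD1_c20 LD2_c56 LD3_c46)) = (LP (LK LD1_c11 LD2_c53 LD3_c13)) :=
  Lre_e IH (LK LD1_c20 LD2_c56 LD3_c46) (LK LD1_c11 LD2_c53 LD3_c13) Lrfl Lrfl
theorem f274490 : Led Lsl_dt (LP (LK LD1_c20 LD2_c56 LD3_c46)) = (LP (LK LD1_c15 LD2_c18 LD3_c40)) :=
  Lgr Lrot56 (Lpr_et (f274489 IH) (Lpr_gt (f274488 IH) (Lpe (K17.f274487 IH) (Lpe (K16.f274481 IH) (Lpr_gt (K16.f274472 IH) (Lpe (K15.f256095 IH) (Lpe (K16.f274485 IH) (Lpr_gt (K16.f212498 IH) (Lpr_dt (K20.f237144 IH) (Lpr_gt (f236905 IH) (Lpn (LP (LK LD1_c15 LD2_c18 LD3_c40)))))))))))))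
theorem f274492 : Led Lsl_df (LP (LK LD1_c20 LD2_c56 LD3_c46)) = (LP (LK LD1_c15 LD2_c18 LD3_c40)) :=
  Lgr Lrot38 (Lpr_dt (f274490 IH) (Lpn (LP (LK LD1_c15 LD2_c18 LD3_c40))))
theorem f301385 : Led Lsl_cf (LP (LK LD1_c20 LD2_c56 LD3_c46)) = (LP (LK LD1_c25 LD2_c21 LD3_c1)) :=
  Lgr Lrot14 (Lpr_df (f274492 IH) (Lpe (f236905 IH) (Lpe (K20.f237144 IH) (Lpe (K16.f212498 IH) (Lpe (K18.f301340 IH) (Lpr_gt (K18.f301088 IH) (Lpr_dt (f301181 IH) (Lpr_gt (f301351 IH) (Lpr_dt (f301362 IH) (Lpn (LP (LK LD1_c25 LD2_c21 LD3_c1))))))))))))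
theorem f301365 : Led Lsl_et (LP (LK LD1_c15 LD2_c28 LD3_c39)) = (LP (LK LD1_c25 LD2_c21 LD3_c1)) :=
  Lre_e IH (LK LD1_c15 LD2_c28 LD3_c39) (LK LD1_c25 LD2_c21 LD3_c1) Lrfl Lrfl
theorem f301389 : Led Lsl_ct (LP (LK LD1_c11 LD2_c53 LD3_c13)) = (LP (LK LD1_c15 LD2_c28 LD3_c39)) :=
  Lgr Lrot15 (Lpe (f274489 IH) (Lpr_cf (f301385 IH) (Lpe (f301365 IH) (Lpn (LP (LK LD1_c15 LD2_c28 LD3_c39))))))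
theorem f308304 : Led Lsl_ft (LP (LK LD1_c8 LD2_c38 LD3_c40)) = (LP (LK LD1_c16 LD2_c11 LD3_c25)) :=
  Lre_f IH (LK LD1_c8 LD2_c38 LD3_c40) (LK LD1_c16 LD2_c11 LD3_c25) Lrfl Lrfl
theorem f314685 : Led Lsl_gf (LP (LK LD1_c15 LD2_c30 LD3_c3)) = (LP (LK LD1_c8 LD2_c38 LD3_c40)) :=
  Lgr Lrot47 (Lpr_gt (K20.f314683 IH) (Lpr_af (K19.f308300 IH) (Lpe (f308304 IH) (Lpn (LP (LK LD1_c8 LD2_c38 LD3_c40))))))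
theorem f305466 : Led Lsl_af (LP (LK LD1_c4 LD2_c21 LD3_c30)) = (LP (LK LD1_c7 LD2_c55 LD3_c32)) :=
  Lgr Lrot0 (Lpr_at (K19.f305395 IH) (Lpn (LP (LK LD1_c7 LD2_c55 LD3_c32))))
theorem f255564 : Led Lsl_ct (LP (LK LD1_c8 LD2_c40 LD3_c34)) = (LP (LK LD1_c4 LD2_c21 LD3_c30)) :=
  Lre_c IH (LK LD1_c8 LD2_c40 LD3_c34) (LK LD1_c4 LD2_c21 LD3_c30) Lrfl Lrfl
theorem f255576 : Led Lsl_dt (LP (LK LD1_c16 LD2_c14 LD3_c54)) = (LP (LK LD1_c8 LD2_c40 LD3_c34)) :=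
  Lre_d IH (LK LD1_c16 LD2_c14 LD3_c54) (LK LD1_c8 LD2_c40 LD3_c34) Lrfl Lrfl
theorem f269558 : Led Lsl_ct (LP (LK LD1_c26 LD2_c12 LD3_c19)) = (LP (LK LD1_c16 LD2_c14 LD3_c54)) :=
  Lre_c IH (LK LD1_c26 LD2_c12 LD3_c19) (LK LD1_c16 LD2_c14 LD3_c54) Lrfl Lrfl
theorem f234037 : Led Lsl_ct (LP (LK LD1_c19 LD2_c54 LD3_c44)) = (LP (LK LD1_c29 LD2_c10 LD3_c27)) :=
  Lre_c IH (LK LD1_c19 LD2_c54 LD3_c44) (LK LD1_c29 LD2_c10 LD3_c27) Lrfl Lrfl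
theorem f308651 : Led Lsl_df (LP (LK LD1_c26 LD2_c12 LD3_c19)) = (LP (LK LD1_c29 LD2_c10 LD3_c27)) :=
  Lgr Lrot13 (Lpr_ct (f269558 IH) (Lpr_dt (f255576 IH) (Lpr_ct (f255564 IH) (Lpr_af (f305466 IH) (Lpe (K19.f269527 IH) (Lpe (K19.f305488 IH) (Lpr_ct (K19.f308642 IH) (Lpr_dt (K19.f308283 IH) (Lpr_ct (f234037 IH) (Lpn (LP (LK LD1_c29 LD2_c10 LD3_c27))))))))))))
theorem f308265 : Led Lsl_at (LP (LK LD1_c8 LD2_c37 LD3_c54)) = (LP (LK LD1_c8 LD2_c38 LD3_c40)) :=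
  Lgr Lrot51 (Lpe (K19.f201775 IH) (Lpr_af (K19.f308259 IH) (Lpe (K19.f31851 IH) (Lpn (LP (LK LD1_c8 LD2_c38 LD3_c40))))))
theorem f308653 : Led Lsl_ct (LP (LK LD1_c4 LD2_c20 LD3_c57)) = (LP (LK LD1_c8 LD2_c38 LD3_c40)) :=
  Lgr Lrot98 (Lpe (K15.f255568 IH) (Lpe (f255564 IH) (Lpe (f255576 IH) (Lpe (f269558 IH) (Lpr_df (f308651 IH) (Lpe (f234037 IH) (Lpe (K19.f308283 IH) (Lpr_ft (K19.f308273 IH) (Lpr_at (f308265 IH) (Lpn (LP (LK LD1_c8 LD2_c38 LD3_c40))))))))))))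
theorem f325222 : Led Lsl_bt (LP (LK LD1_c11 LD2_c53 LD3_c13)) = (LP (LK LD1_c8 LD2_c39 LD3_c34)) :=
  Lgr Lrot130 (Lpr_ct (f301389 IH) (Lpe (f324971 IH) (Lpe (f191458 IH) (Lpe (f191456 IH) (Lpr_gf (f325220 IH) (Lpe (f314585 IH) (Lpr_ct (K20.f195491 IH) (Lpr_gf (f314685 IH) (Lpe (f308653 IH) (Lpe (K14.f255577 IH) (Lpn (LP (LK LD1_c8 LD2_c39 LD3_c34)))))))))))))
theorem f182618 : Led Lsl_ct (LP (LK LD1_c4 LD2_c6 LD3_c34)) = (LP (LK LD1_c8 LD2_c13 LD3_c40)) :=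
  Lre_c IH (LK LD1_c4 LD2_c6 LD3_c34) (LK LD1_c8 LD2_c13 LD3_c40) Lrfl Lrfl
theorem f182667 : Led Lsl_bt (LP (LK LD1_c4 LD2_c6 LD3_c34)) = (LP (LK LD1_c8 LD2_c13 LD3_c36)) :=
  Lre_b IH (LK LD1_c4 LD2_c6 LD3_c34) (LK LD1_c8 LD2_c13 LD3_c36) Lrfl Lrfl
theorem f182630 : Led Lsl_gt (LP (LK LD1_c8 LD2_c13 LD3_c36)) = (LP (LK LD1_c15 LD2_c28 LD3_c25)) :=
  Lre_g IH (LK LD1_c8 LD2_c13 LD3_c36) (LK LD1_c15 LD2_c28 LD3_c25) Lrfl Lrfl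
theorem f228504 : Led Lsl_gt (LP (LK LD1_c5 LD2_c21 LD3_c50)) = (LP (LK LD1_c10 LD2_c33 LD3_c56)) :=
  Lre_g IH (LK LD1_c5 LD2_c21 LD3_c50) (LK LD1_c10 LD2_c33 LD3_c56) Lrfl Lrfl
theorem f254338 : Led Lsl_gf (LP (LK LD1_c19 LD2_c2 LD3_c45)) = (LP (LK LD1_c10 LD2_c33 LD3_c56)) :=
  Lgr Lrot76 (Lpr_af (K14.f254322 IH) (Lpe (K14.f254321 IH) (Lpr_gt (f228504 IH) (Lpn (LP (LK LD1_c10 LD2_c33 LD3_c56))))))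
theorem f325232 : Led Lsl_ct (LP (LK LD1_c15 LD2_c28 LD3_c25)) = (LP (LK LD1_c10 LD2_c33 LD3_c56)) :=
  Lgr Lrot91 (Lpe (f182630 IH) (Lpe (f182667 IH) (Lpr_ct (f182618 IH) (Lpe (f182752 IH) (Lpe (f301389 IH) (Lpr_bt (f325222 IH) (Lpe (K19.f305496 IH) (Lpe (K15.f231430 IH) (Lpr_ct (K15.f231436 IH) (Lpr_gf (f254338 IH) (Lpn (LP (LK LD1_c10 LD2_c33 LD3_c56)))))))))))))
theorem f190012 : Led Lsl_ct (LP (LK LD1_c4 LD2_c19 LD3_c57)) = (LP (LK LD1_c8 LD2_c37 LD3_c49)) :=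
  Lre_c IH (LK LD1_c4 LD2_c19 LD3_c57) (LK LD1_c8 LD2_c37 LD3_c49) Lrfl Lrfl
theorem f190009 : Led Lsl_gt (LP (LK LD1_c4 LD2_c14 LD3_c22)) = (LP (LK LD1_c8 LD2_c27 LD3_c26)) :=
  Lre_g IH (LK LD1_c4 LD2_c14 LD3_c22) (LK LD1_c8 LD2_c27 LD3_c26) Lrfl Lrfl
theorem f325238 : Led Lsl_bt (LP (LK LD1_c15 LD2_c28 LD3_c25)) = (LP (LK LD1_c8 LD2_c27 LD3_c26)) :=
  Lgr Lrot92 (Lpr_ct (f325232 IH) (Lpe (f254338 IH) (Lpe (K15.f231436 IH) (Lpr_bt (K15.f231430 IH) (Lpr_gt (K19.f305496 IH) (Lpe (K14.f255580 IH) (Lpr_gt (K14.f190013 IH) (Lpe (f190012 IH) (Lpe (K19.f189998 IH) (Lpr_gt (f190009 IH) (Lpn (LP (LK LD1_c8 LD2_c27 LD3_c26)))))))))))))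
theorem f254326 : Led Lsl_ct (LP (LK LD1_c2 LD2_c37 LD3_c29)) = (LP (LK LD1_c5 LD2_c21 LD3_c50)) :=
  Lre_c IH (LK LD1_c2 LD2_c37 LD3_c29) (LK LD1_c5 LD2_c21 LD3_c50) Lrfl Lrfl
theorem f250985 : Led Lsl_bt (LP (LK LD1_c2 LD2_c37 LD3_c29)) = (LP (LK LD1_c5 LD2_c21 LD3_c45)) :=
  Lre_b IH (LK LD1_c2 LD2_c37 LD3_c29) (LK LD1_c5 LD2_c21 LD3_c45) Lrfl Lrfl
theorem f256163 : Led Lsl_ft (LP (LK LD1_c8 LD2_c7 LD3_c0)) = (LP (LK LD1_c15 LD2_c17 LD3_c2)) :=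
  Lre_f IH (LK LD1_c8 LD2_c7 LD3_c0) (LK LD1_c15 LD2_c17 LD3_c2) Lrfl Lrfl
theorem f315474 : Led Lsl_at (LP (LK LD1_c15 LD2_c17 LD3_c2)) = (LP (LK LD1_c15 LD2_c52 LD3_c51)) :=
  Lgr Lrot66 (Lpe (f256163 IH) (Lpr_af (K20.f315459 IH) (Lpe (K20.f315458 IH) (Lpn (LP (LK LD1_c15 LD2_c52 LD3_c51))))))
theorem f237926 : Led Lsl_ft (LP (LK LD1_c4 LD2_c5 LD3_c28)) = (LP (LK LD1_c8 LD2_c11 LD3_c55)) :=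
  Lre_f IH (LK LD1_c4 LD2_c5 LD3_c28) (LK LD1_c8 LD2_c11 LD3_c55) Lrfl Lrfl
theorem f256151 : Led Lsl_ft (LP (LK LD1_c15 LD2_c17 LD3_c2)) = (LP (LK LD1_c8 LD2_c7 LD3_c0)) :=
  Lre_f IH (LK LD1_c15 LD2_c17 LD3_c2) (LK LD1_c8 LD2_c7 LD3_c0) Lrfl Lrfl
theorem f256152 : Led Lsl_ct (LP (LK LD1_c8 LD2_c11 LD3_c55)) = (LP (LK LD1_c15 LD2_c17 LD3_c2)) :=
  Lgr Lrot40 (Lpe (f237926 IH) (Lpr_cf (K18.f256144 IH) (Lpe (f256151 IH) (Lpn (LP (LK LD1_c15 LD2_c17 LD3_c2))))))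
theorem f190018 : Led Lsl_ct (LP (LK LD1_c15 LD2_c52 LD3_c51)) = (LP (LK LD1_c8 LD2_c27 LD3_c28)) :=
  Lre_c IH (LK LD1_c15 LD2_c52 LD3_c51) (LK LD1_c8 LD2_c27 LD3_c28) Lrfl Lrfl
theorem f315478 : Led Lsl_af (LP (LK LD1_c8 LD2_c11 LD3_c55)) = (LP (LK LD1_c8 LD2_c27 LD3_c28)) :=
  Lgr Lrot68 (Lpr_ct (f256152 IH) (Lpr_at (f315474 IH) (Lpr_ct (f190018 IH) (Lpn (LP (LK LD1_c8 LD2_c27 LD3_c28))))))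
theorem f315480 : Led Lsl_gf (LP (LK LD1_c8 LD2_c11 LD3_c55)) = (LP (LK LD1_c8 LD2_c27 LD3_c26)) :=
  Lgr Lrot76 (Lpr_af (f315478 IH) (Lpe (K20.f190005 IH) (Lpr_gt (f190009 IH) (Lpn (LP (LK LD1_c8 LD2_c27 LD3_c26))))))
theorem f325246 : Led Lsl_gf (LP (LK LD1_c15 LD2_c52 LD3_c49)) = (LP (LK LD1_c15 LD2_c17 LD3_c2)) :=
  Lgr Lrot129 (Lpe (K19.f228280 IH) (Lpr_bt (K19.f308722 IH) (Lpr_gt (K17.f250992 IH) (Lpe (f250985 IH) (Lpr_ct (f254326 IH) (Lpr_gt (f228504 IH) (Lpe (f325232 IH) (Lpr_bt (f325238 IH) (Lpe (f315480 IH) (Lpr_ct (f256152 IH) (Lpn (LP (LK LD1_c15 LD2_c17 LD3_c2)))))))))))))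
theorem f228282 : Led Lsl_cf (LP (LK LD1_c15 LD2_c9 LD3_c3)) = (LP (LK LD1_c15 LD2_c52 LD3_c49)) :=
  Lgr Lrot166 (Lpr_gt (K13.f194265 IH) (Lpr_dt (K13.f228066 IH) (Lpr_gt (K13.f197708 IH) (Lpe (K18.f228046 IH) (Lpe (K12.f228143 IH) (Lpe (K15.f228152 IH) (Lpr_gf (K18.f228277 IH) (Lpe (K18.f189989 IH) (Lpe (K19.f190031 IH) (Lpn (LP (LK LD1_c15 LD2_c52 LD3_c49))))))))))))
theorem f216215 : Led Lsl_dt (LP (LK LD1_c17 LD2_c36 LD3_c2)) = (LP (LK LD1_c9 LD2_c33 LD3_c30)) :=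
  Lre_d IH (LK LD1_c17 LD2_c36 LD3_c2) (LK LD1_c9 LD2_c33 LD3_c30) Lrfl Lrfl
theorem f228204 : Led Lsl_gt (LP (LK LD1_c11 LD2_c9 LD3_c6)) = (LP (LK LD1_c20 LD2_c3 LD3_c3)) :=
  Lre_g IH (LK LD1_c11 LD2_c9 LD3_c6) (LK LD1_c20 LD2_c3 LD3_c3) Lrfl Lrfl
theorem f262191 : Led Lsl_gf (LP (LK LD1_c25 LD2_c8 LD3_c31)) = (LP (LK LD1_c20 LD2_c3 LD3_c3)) :=
  Lgr Lrot76 (Lpr_af (K15.f262176 IH) (Lpe (K15.f228196 IH) (Lpr_gt (f228204 IH) (Lpn (LP (LK LD1_c20 LD2_c3 LD3_c3))))))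
theorem f325250 : Led Lsl_df (LP (LK LD1_c20 LD2_c3 LD3_c3)) = (LP (LK LD1_c15 LD2_c17 LD3_c2)) :=
  Lgr Lrot155 (Lpe (f262191 IH) (Lpe (K18.f296340 IH) (Lpr_gt (K18.f299027 IH) (Lpr_ct (K18.f216216 IH) (Lpr_dt (f216215 IH) (Lpe (K20.f216213 IH) (Lpe (K13.f194265 IH) (Lpr_cf (f228282 IH) (Lpr_gf (f325246 IH) (Lpn (LP (LK LD1_c15 LD2_c17 LD3_c2))))))))))))
theorem f216506 : Led Lsl_gt (LP (LK LD1_c8 LD2_c6 LD3_c51)) = (LP (LK LD1_c15 LD2_c16 LD3_c39)) :=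
  Lre_g IH (LK LD1_c8 LD2_c6 LD3_c51) (LK LD1_c15 LD2_c16 LD3_c39) Lrfl Lrfl
theorem f299159 : Led Lsl_gf (LP (LK LD1_c16 LD2_c16 LD3_c1)) = (LP (LK LD1_c15 LD2_c16 LD3_c39)) :=
  Lgr Lrot76 (Lpr_af (K18.f299147 IH) (Lpe (K18.f299146 IH) (Lpr_gt (f216506 IH) (Lpn (LP (LK LD1_c15 LD2_c16 LD3_c39))))))
theorem f299161 : Led Lsl_ct (LP (LK LD1_c8 LD2_c27 LD3_c26)) = (LP (LK LD1_c15 LD2_c16 LD3_c39)) :=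
  Lgr Lrot152 (Lpe (f190009 IH) (Lpr_df (K19.f200479 IH) (Lpr_gt (K13.f200464 IH) (Lpr_ct (K18.f200442 IH) (Lpr_gt (K18.f279774 IH) (Lpr_ct (K18.f238025 IH) (Lpe (K18.f28871 IH) (Lpe (K18.f28865 IH) (Lpr_gf (f299159 IH) (Lpn (LP (LK LD1_c15 LD2_c16 LD3_c39))))))))))))
theorem f299165 : Led Lsl_cf (LP (LK LD1_c8 LD2_c27 LD3_c26)) = (LP (LK LD1_c15 LD2_c16 LD3_c39)) :=
  Lgr Lrot11 (Lpr_ct (f299161 IH) (Lpn (LP (LK LD1_c15 LD2_c16 LD3_c39))))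
theorem f227061 : Led Lsl_gt (LP (LK LD1_c20 LD2_c2 LD3_c40)) = (LP (LK LD1_c29 LD2_c16 LD3_c9)) :=
  Lre_g IH (LK LD1_c20 LD2_c2 LD3_c40) (LK LD1_c29 LD2_c16 LD3_c9) Lrfl Lrfl
theorem f325260 : Led Lsl_cf (LP (LK LD1_c20 LD2_c3 LD3_c3)) = (LP (LK LD1_c29 LD2_c16 LD3_c9)) :=
  Lgr Lrot99 (Lpr_df (f325250 IH) (Lpe (f256152 IH) (Lpr_gf (f315480 IH) (Lpr_cf (f299165 IH) (Lpe (f216506 IH) (Lpe (K18.f227060 IH) (Lpr_gt (K18.f226988 IH) (Lpr_ct (K18.f200542 IH) (Lpr_gt (f227061 IH) (Lpn (LP (LK LD1_c29 LD2_c16 LD3_c9))))))))))))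
theorem f224942 : Led Lsl_ct (LP (LK LD1_c14 LD2_c57 LD3_c21)) = (LP (LK LD1_c24 LD2_c44 LD3_c56)) :=
  Lre_c IH (LK LD1_c14 LD2_c57 LD3_c21) (LK LD1_c24 LD2_c44 LD3_c56) Lrfl Lrfl
theorem f197648 : Led Lsl_gt (LP (LK LD1_c24 LD2_c44 LD3_c55)) = (LP (LK LD1_c14 LD2_c57 LD3_c21)) :=
  Lre_g IH (LK LD1_c24 LD2_c44 LD3_c55) (LK LD1_c14 LD2_c57 LD3_c21) Lrfl Lrfl
theorem f297960 : Led Lsl_df (LP (LK LD1_c20 LD2_c2 LD3_c40)) = (LP (LK LD1_c27 LD2_c39 LD3_c51)) :=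
  Lgr Lrot43 (Lpr_ct (K18.f200441 IH) (Lpr_dt (K18.f200440 IH) (Lpr_ct (K18.f200439 IH) (Lpr_dt (K12.f200423 IH) (Lpr_ct (K18.f200442 IH) (Lpr_dt (K18.f200443 IH) (Lpr_ct (K18.f200444 IH) (Lpr_dt (K18.f200445 IH) (Lpr_ct (K18.f297953 IH) (Lpr_dt (K18.f297909 IH) (Lpr_ct (K18.f247250 IH) (Lpr_dt (K14.f247202 IH) (Lpr_ct (K18.f168405 IH) (Lpr_dt (K18.f247251 IH) (Lpr_ct (K18.f247252 IH) (Lpn (LP (LK LD1_c27 LD2_c39 LD3_c51))))))))))))))))))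
theorem f297942 : Led Lsl_af (LP (LK LD1_c16 LD2_c20 LD3_c11)) = (LP (LK LD1_c17 LD2_c54 LD3_c17)) :=
  Lgr Lrot0 (Lpr_at (K18.f297940 IH) (Lpn (LP (LK LD1_c17 LD2_c54 LD3_c17))))
theorem f297970 : Led Lsl_gt (LP (LK LD1_c26 LD2_c18 LD3_c15)) = (LP (LK LD1_c16 LD2_c20 LD3_c11)) :=
  Lre_g IH (LK LD1_c26 LD2_c18 LD3_c15) (LK LD1_c16 LD2_c20 LD3_c11) Lrfl Lrfl
theorem f298375 : Led Lsl_ft (LP (LK LD1_c27 LD2_c39 LD3_c51)) = (LP (LK LD1_c17 LD2_c54 LD3_c17)) :=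
  Lre_f IH (LK LD1_c27 LD2_c39 LD3_c51) (LK LD1_c17 LD2_c54 LD3_c17) Lrfl Lrfl
theorem f298989 : Led Lsl_gf (LP (LK LD1_c26 LD2_c18 LD3_c15)) = (LP (LK LD1_c27 LD2_c39 LD3_c51)) :=
  Lgr Lrot47 (Lpr_gt (f297970 IH) (Lpr_af (f297942 IH) (Lpe (f298375 IH) (Lpn (LP (LK LD1_c27 LD2_c39 LD3_c51))))))
theorem f325272 : Led Lsl_cf (LP (LK LD1_c24 LD2_c44 LD3_c55)) = (LP (LK LD1_c26 LD2_c18 LD3_c15)) :=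
  Lgr Lrot169 (Lpr_gt (f197648 IH) (Lpr_ct (f224942 IH) (Lpe (K18.f224979 IH) (Lpr_cf (K18.f296340 IH) (Lpr_gf (f262191 IH) (Lpr_cf (f325260 IH) (Lpe (f227061 IH) (Lpr_df (f297960 IH) (Lpe (f298989 IH) (Lpn (LP (LK LD1_c26 LD2_c18 LD3_c15))))))))))))
theorem f325274 : Led Lsl_ct (LP (LK LD1_c24 LD2_c44 LD3_c55)) = (LP (LK LD1_c26 LD2_c18 LD3_c15)) :=
  Lgr Lrot59 (Lpr_cf (f325272 IH) (Lpn (LP (LK LD1_c26 LD2_c18 LD3_c15))))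
theorem f200543 : Led Lsl_ct (LP (LK LD1_c16 LD2_c20 LD3_c11)) = (LP (LK LD1_c8 LD2_c43 LD3_c19)) :=
  Lre_c IH (LK LD1_c16 LD2_c20 LD3_c11) (LK LD1_c8 LD2_c43 LD3_c19) Lrfl Lrfl
theorem f28879 : Led Lsl_dt (LP (LK LD1_c16 LD2_c15 LD3_c59)) = (LP (LK LD1_c8 LD2_c41 LD3_c3)) :=
  Lre_d IH (LK LD1_c16 LD2_c15 LD3_c59) (LK LD1_c8 LD2_c41 LD3_c3) Lrfl Lrfl
theorem f325291 : Led Lsl_gf (LP (LK LD1_c24 LD2_c44 LD3_c55)) = (LP (LK LD1_c16 LD2_c15 LD3_c59)) :=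
  Lgr Lrot147 (Lpr_ct (f325274 IH) (Lpr_gt (f297970 IH) (Lpr_ct (f200543 IH) (Lpe (K18.f200443 IH) (Lpe (K18.f200442 IH) (Lpe (K13.f200464 IH) (Lpe (K20.f200481 IH) (Lpe (K20.f298885 IH) (Lpe (f28879 IH) (Lpn (LP (LK LD1_c16 LD2_c15 LD3_c59))))))))))))
theorem f53114 : Led Lsl_dt (LP (LK LD1_c1 LD2_c59 LD3_c27)) = (LP (LK LD1_c4 LD2_c4 LD3_c49)) :=
  Lre_d IH (LK LD1_c1 LD2_c59 LD3_c27) (LK LD1_c4 LD2_c4 LD3_c49) Lrfl Lrfl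
theorem f225150 : Led Lsl_ct (LP (LK LD1_c8 LD2_c10 LD3_c28)) = (LP (LK LD1_c4 LD2_c4 LD3_c49)) :=
  Lre_c IH (LK LD1_c8 LD2_c10 LD3_c28) (LK LD1_c4 LD2_c4 LD3_c49) Lrfl Lrfl
theorem f269614 : Led Lsl_gf (LP (LK LD1_c8 LD2_c10 LD3_c28)) = (LP (LK LD1_c4 LD2_c21 LD3_c48)) :=
  Lgr Lrot104 (Lpr_ct (f225150 IH) (Lpe (f53114 IH) (Lpe (K11.f30819 IH) (Lpe (K10.f6928 IH) (Lpe (K12.f193669 IH) (Lpe (K16.f255122 IH) (Lpr_df (K16.f269591 IH) (Lpr_gt (K13.f237705 IH) (Lpe (K13.f237707 IH) (Lpn (LP (LK LD1_c4 LD2_c21 LD3_c48))))))))))))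
theorem f269629 : Led Lsl_dt (LP (LK LD1_c8 LD2_c10 LD3_c28)) = (LP (LK LD1_c4 LD2_c12 LD3_c42)) :=
  Lgr Lrot57 (Lpr_gf (f269614 IH) (Lpr_cf (K13.f237707 IH) (Lpr_gt (K13.f237272 IH) (Lpr_dt (K13.f164908 IH) (Lpr_gt (K11.f201326 IH) (Lpe (K11.f193480 IH) (Lpr_cf (K12.f229274 IH) (Lpe (K12.f229463 IH) (Lpr_gf (K14.f232266 IH) (Lpn (LP (LK LD1_c4 LD2_c12 LD3_c42))))))))))))
theorem f269643 : Led Lsl_gt (LP (LK LD1_c8 LD2_c10 LD3_c28)) = (LP (LK LD1_c4 LD2_c21 LD3_c57)) :=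
  Lgr Lrot146 (Lpr_dt (f269629 IH) (Lpe (K14.f232266 IH) (Lpr_ct (K13.f229459 IH) (Lpe (K13.f229890 IH) (Lpr_ct (K13.f229892 IH) (Lpr_dt (K13.f229895 IH) (Lpe (K13.f237694 IH) (Lpe (K13.f39206 IH) (Lpe (K16.f269612 IH) (Lpn (LP (LK LD1_c4 LD2_c21 LD3_c57))))))))))))
theorem f269640 : Led Lsl_df (LP (LK LD1_c8 LD2_c10 LD3_c28)) = (LP (LK LD1_c4 LD2_c12 LD3_c42)) :=
  Lgr Lrot38 (Lpr_dt (f269629 IH) (Lpn (LP (LK LD1_c4 LD2_c12 LD3_c42))))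
theorem f238853 : Led Lsl_et (LP (LK LD1_c2 LD2_c8 LD3_c27)) = (LP (LK LD1_c4 LD2_c21 LD3_c58)) :=
  Lre_e IH (LK LD1_c2 LD2_c8 LD3_c27) (LK LD1_c4 LD2_c21 LD3_c58) Lrfl Lrfl
theorem f269650 : Led Lsl_gt (LP (LK LD1_c4 LD2_c21 LD3_c58)) = (LP (LK LD1_c8 LD2_c41 LD3_c36)) :=
  Lre_g IH (LK LD1_c4 LD2_c21 LD3_c58) (LK LD1_c8 LD2_c41 LD3_c36) Lrfl Lrfl
theorem f269651 : Led Lsl_et (LP (LK LD1_c16 LD2_c16 LD3_c59)) = (LP (LK LD1_c8 LD2_c41 LD3_c36)) :=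
  Lre_e IH (LK LD1_c16 LD2_c16 LD3_c59) (LK LD1_c8 LD2_c41 LD3_c36) Lrfl Lrfl
theorem f269652 : Led Lsl_df (LP (LK LD1_c24 LD2_c44 LD3_c55)) = (LP (LK LD1_c16 LD2_c16 LD3_c59)) :=
  Lgr Lrot170 (Lpr_gt (f197648 IH) (Lpe (K19.f197719 IH) (Lpr_et (K15.f197718 IH) (Lpr_gt (K15.f236230 IH) (Lpe (f269640 IH) (Lpr_gt (f269643 IH) (Lpe (K13.f216715 IH) (Lpr_et (f238853 IH) (Lpr_gt (f269650 IH) (Lpe (f269651 IH) (Lpn (LP (LK LD1_c16 LD2_c16 LD3_c59)))))))))))))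
theorem f269658 : Led Lsl_dt (LP (LK LD1_c24 LD2_c44 LD3_c55)) = (LP (LK LD1_c16 LD2_c16 LD3_c59)) :=
  Lgr Lrot42 (Lpr_df (f269652 IH) (Lpn (LP (LK LD1_c16 LD2_c16 LD3_c59))))
theorem f52326 : Led Lsl_et (LP (LK LD1_c4 LD2_c3 LD3_c17)) = (LP (LK LD1_c8 LD2_c7 LD3_c13)) :=
  Lre_e IH (LK LD1_c4 LD2_c3 LD3_c17) (LK LD1_c8 LD2_c7 LD3_c13) Lrfl Lrfl
theorem f52327 : Led Lsl_af (LP (LK LD1_c8 LD2_c9 LD3_c24)) = (LP (LK LD1_c8 LD2_c7 LD3_c13)) :=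
  Lgr Lrot50 (Lpr_et (K10.f52324 IH) (Lpr_at (K13.f50937 IH) (Lpr_et (f52326 IH) (Lpn (LP (LK LD1_c8 LD2_c7 LD3_c13))))))
theorem f52346 : Led Lsl_ft (LP (LK LD1_c4 LD2_c4 LD3_c17)) = (LP (LK LD1_c8 LD2_c7 LD3_c13)) :=
  Lre_f IH (LK LD1_c4 LD2_c4 LD3_c17) (LK LD1_c8 LD2_c7 LD3_c13) Lrfl Lrfl
theorem f53008 : Led Lsl_gf (LP (LK LD1_c8 LD2_c9 LD3_c24)) = (LP (LK LD1_c8 LD2_c9 LD3_c25)) :=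
  Lgr Lrot76 (Lpr_af (f52327 IH) (Lpe (f52346 IH) (Lpr_gt (f53007 IH) (Lpn (LP (LK LD1_c8 LD2_c9 LD3_c25))))))
theorem f28004 : Led Lsl_gt (LP (LK LD1_c15 LD2_c21 LD3_c57)) = (LP (LK LD1_c8 LD2_c9 LD3_c27)) :=
  Lre_g IH (LK LD1_c15 LD2_c21 LD3_c57) (LK LD1_c8 LD2_c9 LD3_c27) Lrfl Lrfl
theorem f52383 : Led Lsl_gt (LP (LK LD1_c15 LD2_c17 LD3_c30)) = (LP (LK LD1_c15 LD2_c21 LD3_c57)) :=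
  Lgr Lrot5 (Lpr_ft (K10.f52349 IH) (Lpr_at (K10.f52362 IH) (Lpe (f28004 IH) (Lpn (LP (LK LD1_c15 LD2_c21 LD3_c57))))))
theorem f224241 : Led Lsl_ct (LP (LK LD1_c20 LD2_c2 LD3_c9)) = (LP (LK LD1_c11 LD2_c8 LD3_c37)) :=
  Lre_c IH (LK LD1_c20 LD2_c2 LD3_c9) (LK LD1_c11 LD2_c8 LD3_c37) Lrfl Lrfl
theorem f298388 : Led Lsl_et (LP (LK LD1_c15 LD2_c17 LD3_c47)) = (LP (LK LD1_c20 LD2_c2 LD3_c9)) :=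
  Lgr Lrot158 (Lpr_cf (f298002 IH) (Lpr_ef (K14.f238338 IH) (Lpe (f224241 IH) (Lpn (LP (LK LD1_c20 LD2_c2 LD3_c9))))))
theorem f298390 : Led Lsl_ef (LP (LK LD1_c15 LD2_c17 LD3_c47)) = (LP (LK LD1_c20 LD2_c2 LD3_c9)) :=
  Lgr Lrot88 (Lpr_et (f298388 IH) (Lpn (LP (LK LD1_c20 LD2_c2 LD3_c9))))
theorem f298392 : Led Lsl_df (LP (LK LD1_c15 LD2_c21 LD3_c57)) = (LP (LK LD1_c20 LD2_c2 LD3_c9)) :=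
  Lgr Lrot168 (Lpe (f52383 IH) (Lpe (K10.f52335 IH) (Lpr_et (K10.f52324 IH) (Lpe (K15.f30977 IH) (Lpe (K18.f50959 IH) (Lpr_dt (K18.f50960 IH) (Lpe (K18.f296540 IH) (Lpe (K15.f262186 IH) (Lpe (K18.f262199 IH) (Lpr_ef (f298390 IH) (Lpn (LP (LK LD1_c20 LD2_c2 LD3_c9)))))))))))))
theorem f298395 : Led Lsl_dt (LP (LK LD1_c15 LD2_c21 LD3_c57)) = (LP (LK LD1_c20 LD2_c2 LD3_c9)) :=
  Lgr Lrot42 (Lpr_df (f298392 IH) (Lpn (LP (LK LD1_c20 LD2_c2 LD3_c9))))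
theorem f224240 : Led Lsl_dt (LP (LK LD1_c5 LD2_c38 LD3_c52)) = (LP (LK LD1_c11 LD2_c8 LD3_c37)) :=
  Lre_d IH (LK LD1_c5 LD2_c38 LD3_c52) (LK LD1_c11 LD2_c8 LD3_c37) Lrfl Lrfl
theorem f323556 : Led Lsl_gf (LP (LK LD1_c4 LD2_c14 LD3_c26)) = (LP (LK LD1_c4 LD2_c56 LD3_c28)) :=
  Lgr Lrot144 (Lpr_dt (K18.f27421 IH) (Lpr_gt (K14.f224238 IH) (Lpr_dt (f224240 IH) (Lpe (f224241 IH) (Lpe (f298395 IH) (Lpe (f52383 IH) (Lpe (K10.f52335 IH) (Lpr_gf (f53008 IH) (Lpr_cf (f323491 IH) (Lpn (LP (LK LD1_c4 LD2_c56 LD3_c28))))))))))))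
theorem f313212 : Led Lsl_df (LP (LK LD1_c1 LD2_c18 LD3_c13)) = (LP (LK LD1_c2 LD2_c23 LD3_c8)) :=
  Lgr Lrot38 (Lpr_dt (K19.f313090 IH) (Lpn (LP (LK LD1_c2 LD2_c23 LD3_c8))))
theorem f313254 : Led Lsl_et (LP (LK LD1_c2 LD2_c28 LD3_c27)) = (LP (LK LD1_c5 LD2_c1 LD3_c28)) :=
  Lre_e IH (LK LD1_c2 LD2_c28 LD3_c27) (LK LD1_c5 LD2_c1 LD3_c28) Lrfl Lrfl
theorem f252753 : Led Lsl_gt (LP (LK LD1_c5 LD2_c1 LD3_c28)) = (LP (LK LD1_c9 LD2_c53 LD3_c13)) :=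
  Lre_g IH (LK LD1_c5 LD2_c1 LD3_c28) (LK LD1_c9 LD2_c53 LD3_c13) Lrfl Lrfl
theorem f323552 : Led Lsl_dt (LP (LK LD1_c9 LD2_c44 LD3_c29)) = (LP (LK LD1_c4 LD2_c56 LD3_c28)) :=
  Lre_d IH (LK LD1_c9 LD2_c44 LD3_c29) (LK LD1_c4 LD2_c56 LD3_c28) Lrfl Lrfl
theorem f323693 : Led Lsl_ef (LP (LK LD1_c9 LD2_c53 LD3_c13)) = (LP (LK LD1_c9 LD2_c44 LD3_c29)) :=
  Lgr Lrot17 (Lpe (f252753 IH) (Lpe (f313254 IH) (Lpr_dt (K14.f252681 IH) (Lpe (K20.f313228 IH) (Lpr_df (f313212 IH) (Lpr_gf (K15.f231695 IH) (Lpe (K18.f27528 IH) (Lpr_dt (K18.f27421 IH) (Lpr_gf (f323556 IH) (Lpe (f323552 IH) (Lpn (LP (LK LD1_c9 LD2_c44 LD3_c29)))))))))))))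
theorem f323756 : Led Lsl_et (LP (LK LD1_c9 LD2_c53 LD3_c13)) = (LP (LK LD1_c9 LD2_c44 LD3_c29)) :=
  Lgr Lrot87 (Lpr_ef (f323693 IH) (Lpn (LP (LK LD1_c9 LD2_c44 LD3_c29))))
theorem f323699 : Led Lsl_et (LP (LK LD1_c4 LD2_c56 LD3_c28)) = (LP (LK LD1_c9 LD2_c44 LD3_c30)) :=
  Lre_e IH (LK LD1_c4 LD2_c56 LD3_c28) (LK LD1_c9 LD2_c44 LD3_c30) Lrfl Lrfl
theorem f286740 : Led Lsl_ef (LP (LK LD1_c5 LD2_c38 LD3_c61)) = (LP (LK LD1_c8 LD2_c9 LD3_c44)) :=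
  Lgr Lrot28 (Lpr_ct (K18.f200492 IH) (Lpr_et (K18.f286734 IH) (Lpr_ct (K18.f286739 IH) (Lpn (LP (LK LD1_c8 LD2_c9 LD3_c44))))))
theorem f287225 : Led Lsl_gt (LP (LK LD1_c5 LD2_c9 LD3_c0)) = (LP (LK LD1_c2 LD2_c31 LD3_c40)) :=
  Lre_g IH (LK LD1_c5 LD2_c9 LD3_c0) (LK LD1_c2 LD2_c31 LD3_c40) Lrfl Lrfl
theorem f287226 : Led Lsl_gf (LP (LK LD1_c5 LD2_c9 LD3_c0)) = (LP (LK LD1_c8 LD2_c4 LD3_c14)) :=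
  Lgr Lrot47 (Lpr_gt (f287225 IH) (Lpr_af (K17.f287212 IH) (Lpe (K17.f287222 IH) (Lpn (LP (LK LD1_c8 LD2_c4 LD3_c14))))))
theorem f323553 : Led Lsl_et (LP (LK LD1_c9 LD2_c44 LD3_c30)) = (LP (LK LD1_c4 LD2_c56 LD3_c28)) :=
  Lre_e IH (LK LD1_c9 LD2_c44 LD3_c30) (LK LD1_c4 LD2_c56 LD3_c28) Lrfl Lrfl
theorem f323691 : Led Lsl_df (LP (LK LD1_c5 LD2_c9 LD3_c0)) = (LP (LK LD1_c9 LD2_c44 LD3_c30)) :=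
  Lgr Lrot168 (Lpr_gf (f287226 IH) (Lpe (K18.f296891 IH) (Lpe (f286740 IH) (Lpr_gf (K18.f297993 IH) (Lpr_ef (K14.f238338 IH) (Lpr_dt (K14.f194682 IH) (Lpe (K14.f224238 IH) (Lpe (K18.f27421 IH) (Lpr_gf (f323556 IH) (Lpe (f323553 IH) (Lpn (LP (LK LD1_c9 LD2_c44 LD3_c30)))))))))))))
theorem f323763 : Led Lsl_et (LP (LK LD1_c5 LD2_c9 LD3_c0)) = (LP (LK LD1_c10 LD2_c8 LD3_c35)) :=
  Lre_e IH (LK LD1_c5 LD2_c9 LD3_c0) (LK LD1_c10 LD2_c8 LD3_c35) Lrfl Lrfl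
theorem f323764 : Led Lsl_df (LP (LK LD1_c9 LD2_c53 LD3_c13)) = (LP (LK LD1_c10 LD2_c8 LD3_c35)) :=
  Lgr Lrot70 (Lpr_et (f323756 IH) (Lpr_dt (f323552 IH) (Lpr_et (f323699 IH) (Lpe (f323691 IH) (Lpr_et (f323763 IH) (Lpn (LP (LK LD1_c10 LD2_c8 LD3_c35))))))))
theorem f323767 : Led Lsl_dt (LP (LK LD1_c9 LD2_c53 LD3_c13)) = (LP (LK LD1_c10 LD2_c8 LD3_c35)) :=
  Lgr Lrot42 (Lpr_df (f323764 IH) (Lpn (LP (LK LD1_c10 LD2_c8 LD3_c35))))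
theorem f323690 : Led Lsl_dt (LP (LK LD1_c4 LD2_c56 LD3_c28)) = (LP (LK LD1_c9 LD2_c44 LD3_c29)) :=
  Lre_d IH (LK LD1_c4 LD2_c56 LD3_c28) (LK LD1_c9 LD2_c44 LD3_c29) Lrfl Lrfl
theorem f287235 : Led Lsl_et (LP (LK LD1_c10 LD2_c8 LD3_c35)) = (LP (LK LD1_c5 LD2_c9 LD3_c0)) :=
  Lre_e IH (LK LD1_c10 LD2_c8 LD3_c35) (LK LD1_c5 LD2_c9 LD3_c0) Lrfl Lrfl
theorem f323770 : Led Lsl_df (LP (LK LD1_c9 LD2_c44 LD3_c30)) = (LP (LK LD1_c5 LD2_c9 LD3_c0)) :=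
  Lgr Lrot70 (Lpr_et (f323553 IH) (Lpr_dt (f323690 IH) (Lpe (f323693 IH) (Lpr_dt (f323767 IH) (Lpr_et (f287235 IH) (Lpn (LP (LK LD1_c5 LD2_c9 LD3_c0))))))))
theorem f238367 : Led Lsl_et (LP (LK LD1_c8 LD2_c9 LD3_c25)) = (LP (LK LD1_c15 LD2_c21 LD3_c52)) :=
  Lre_e IH (LK LD1_c8 LD2_c9 LD3_c25) (LK LD1_c15 LD2_c21 LD3_c52) Lrfl Lrfl
theorem f323554 : Led Lsl_ct (LP (LK LD1_c15 LD2_c21 LD3_c52)) = (LP (LK LD1_c9 LD2_c44 LD3_c30)) :=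
  Lgr Lrot15 (Lpe (f238367 IH) (Lpr_cf (f323491 IH) (Lpe (f323553 IH) (Lpn (LP (LK LD1_c9 LD2_c44 LD3_c30))))))
theorem f187938 : Led Lsl_df (LP (LK LD1_c4 LD2_c20 LD3_c48)) = (LP (LK LD1_c2 LD2_c24 LD3_c8)) :=
  Lgr Lrot38 (Lpr_dt (K10.f187933 IH) (Lpn (LP (LK LD1_c2 LD2_c24 LD3_c8))))
theorem f310583 : Led Lsl_gf (LP (LK LD1_c8 LD2_c9 LD3_c30)) = (LP (LK LD1_c15 LD2_c16 LD3_c57)) :=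
  Lgr Lrot138 (Lpr_dt (K15.f259115 IH) (Lpr_gt (K15.f259085 IH) (Lpe (K15.f259100 IH) (Lpr_et (K15.f243930 IH) (Lpe (K15.f243933 IH) (Lpe (K10.f170706 IH) (Lpe (f187938 IH) (Lpr_gt (K20.f187945 IH) (Lpr_df (K20.f310573 IH) (Lpr_et (K20.f310575 IH) (Lpn (LP (LK LD1_c15 LD2_c16 LD3_c57)))))))))))))
theorem f243953 : Led Lsl_gt (LP (LK LD1_c20 LD2_c2 LD3_c53)) = (LP (LK LD1_c11 LD2_c9 LD3_c0)) :=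
  Lre_g IH (LK LD1_c20 LD2_c2 LD3_c53) (LK LD1_c11 LD2_c9 LD3_c0) Lrfl Lrfl
theorem f244336 : Led Lsl_dt (LP (LK LD1_c5 LD2_c39 LD3_c1)) = (LP (LK LD1_c11 LD2_c9 LD3_c0)) :=
  Lre_d IH (LK LD1_c5 LD2_c39 LD3_c1) (LK LD1_c11 LD2_c9 LD3_c0) Lrfl Lrfl
theorem f52260 : Led Lsl_et (LP (LK LD1_c1 LD2_c59 LD3_c4)) = (LP (LK LD1_c4 LD2_c4 LD3_c17)) :=
  Lre_e IH (LK LD1_c1 LD2_c59 LD3_c4) (LK LD1_c4 LD2_c4 LD3_c17) Lrfl Lrfl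
theorem f53015 : Led Lsl_et (LP (LK LD1_c15 LD2_c21 LD3_c52)) = (LP (LK LD1_c8 LD2_c9 LD3_c25)) :=
  Lre_e IH (LK LD1_c15 LD2_c21 LD3_c52) (LK LD1_c8 LD2_c9 LD3_c25) Lrfl Lrfl
theorem f244351 : Led Lsl_df (LP (LK LD1_c20 LD2_c2 LD3_c53)) = (LP (LK LD1_c15 LD2_c21 LD3_c52)) :=
  Lgr Lrot170 (Lpr_gt (f243953 IH) (Lpe (f244336 IH) (Lpr_et (K18.f243913 IH) (Lpr_gt (K15.f243918 IH) (Lpe (K15.f228258 IH) (Lpr_gt (K15.f238333 IH) (Lpr_df (K12.f52243 IH) (Lpr_et (f52260 IH) (Lpr_gt (f53007 IH) (Lpe (f53015 IH) (Lpn (LP (LK LD1_c15 LD2_c21 LD3_c52)))))))))))))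
theorem f310579 : Led Lsl_ct (LP (LK LD1_c25 LD2_c6 LD3_c58)) = (LP (LK LD1_c15 LD2_c16 LD3_c57)) :=
  Lre_c IH (LK LD1_c25 LD2_c6 LD3_c58) (LK LD1_c15 LD2_c16 LD3_c57) Lrfl Lrfl
theorem f310585 : Led Lsl_gf (LP (LK LD1_c15 LD2_c21 LD3_c52)) = (LP (LK LD1_c25 LD2_c6 LD3_c58)) :=
  Lgr Lrot144 (Lpe (f244351 IH) (Lpr_gt (f243953 IH) (Lpr_dt (K18.f243914 IH) (Lpr_cf (K18.f244291 IH) (Lpr_df (K15.f259083 IH) (Lpe (K15.f259085 IH) (Lpe (K15.f259115 IH) (Lpr_gf (f310583 IH) (Lpe (f310579 IH) (Lpn (LP (LK LD1_c25 LD2_c6 LD3_c58))))))))))))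
theorem f310578 : Led Lsl_ct (LP (LK LD1_c15 LD2_c16 LD3_c57)) = (LP (LK LD1_c25 LD2_c6 LD3_c58)) :=
  Lre_c IH (LK LD1_c15 LD2_c16 LD3_c57) (LK LD1_c25 LD2_c6 LD3_c58) Lrfl Lrfl
theorem f287233 : Led Lsl_ct (LP (LK LD1_c10 LD2_c8 LD3_c34)) = (LP (LK LD1_c5 LD2_c9 LD3_c0)) :=
  Lre_c IH (LK LD1_c10 LD2_c8 LD3_c34) (LK LD1_c5 LD2_c9 LD3_c0) Lrfl Lrfl
theorem f296906 : Led Lsl_ct (LP (LK LD1_c5 LD2_c9 LD3_c1)) = (LP (LK LD1_c10 LD2_c8 LD3_c31)) :=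
  Lre_c IH (LK LD1_c5 LD2_c9 LD3_c1) (LK LD1_c10 LD2_c8 LD3_c31) Lrfl Lrfl
theorem f287268 : Led Lsl_dt (LP (LK LD1_c10 LD2_c8 LD3_c31)) = (LP (LK LD1_c18 LD2_c28 LD3_c28)) :=
  Lre_d IH (LK LD1_c10 LD2_c8 LD3_c31) (LK LD1_c18 LD2_c28 LD3_c28) Lrfl Lrfl
theorem f296881 : Led Lsl_ct (LP (LK LD1_c18 LD2_c28 LD3_c28)) = (LP (LK LD1_c28 LD2_c3 LD3_c21)) :=
  Lre_c IH (LK LD1_c18 LD2_c28 LD3_c28) (LK LD1_c28 LD2_c3 LD3_c21) Lrfl Lrfl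
theorem f244461 : Led Lsl_ct (LP (LK LD1_c8 LD2_c9 LD3_c42)) = (LP (LK LD1_c4 LD2_c4 LD3_c24)) :=
  Lre_c IH (LK LD1_c8 LD2_c9 LD3_c42) (LK LD1_c4 LD2_c4 LD3_c24) Lrfl Lrfl
theorem f298488 : Led Lsl_dt (LP (LK LD1_c28 LD2_c3 LD3_c21)) = (LP (LK LD1_c25 LD2_c14 LD3_c13)) :=
  Lgr Lrot140 (Lpe (f296881 IH) (Lpe (f287268 IH) (Lpe (f296906 IH) (Lpe (K18.f286341 IH) (Lpr_ft (K18.f286284 IH) (Lpr_at (K18.f298472 IH) (Lpe (f244461 IH) (Lpe (K17.f244440 IH) (Lpe (K18.f244505 IH) (Lpn (LP (LK LD1_c25 LD2_c14 LD3_c13))))))))))))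
theorem f296882 : Led Lsl_ft (LP (LK LD1_c18 LD2_c28 LD3_c27)) = (LP (LK LD1_c28 LD2_c3 LD3_c21)) :=
  Lre_f IH (LK LD1_c18 LD2_c28 LD3_c27) (LK LD1_c28 LD2_c3 LD3_c21) Lrfl Lrfl
theorem f287228 : Led Lsl_dt (LP (LK LD1_c28 LD2_c3 LD3_c20)) = (LP (LK LD1_c18 LD2_c28 LD3_c27)) :=
  Lre_d IH (LK LD1_c28 LD2_c3 LD3_c20) (LK LD1_c18 LD2_c28 LD3_c27) Lrfl Lrfl
theorem f298490 : Led Lsl_ff (LP (LK LD1_c28 LD2_c3 LD3_c20)) = (LP (LK LD1_c25 LD2_c14 LD3_c13)) :=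
  Lgr Lrot19 (Lpr_dt (f287228 IH) (Lpr_ft (f296882 IH) (Lpr_dt (f298488 IH) (Lpn (LP (LK LD1_c25 LD2_c14 LD3_c13))))))
theorem f298493 : Led Lsl_at (LP (LK LD1_c28 LD2_c3 LD3_c20)) = (LP (LK LD1_c29 LD2_c15 LD3_c53)) :=
  Lgr Lrot66 (Lpr_ff (f298490 IH) (Lpr_af (K18.f296870 IH) (Lpe (K18.f244516 IH) (Lpn (LP (LK LD1_c29 LD2_c15 LD3_c53))))))
theorem f298544 : Led Lsl_af (LP (LK LD1_c18 LD2_c28 LD3_c27)) = (LP (LK LD1_c25 LD2_c0 LD3_c43)) :=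
  Lgr Lrot117 (Lpr_dt (K20.f296841 IH) (Lpr_at (f298493 IH) (Lpe (K18.f296857 IH) (Lpn (LP (LK LD1_c25 LD2_c0 LD3_c43))))))
theorem f265914 : Led Lsl_gt (LP (LK LD1_c28 LD2_c3 LD3_c18)) = (LP (LK LD1_c18 LD2_c28 LD3_c27)) :=
  Lre_g IH (LK LD1_c28 LD2_c3 LD3_c18) (LK LD1_c18 LD2_c28 LD3_c27) Lrfl Lrfl
theorem f287240 : Led Lsl_ct (LP (LK LD1_c10 LD2_c8 LD3_c31)) = (LP (LK LD1_c5 LD2_c9 LD3_c1)) :=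
  Lre_c IH (LK LD1_c10 LD2_c8 LD3_c31) (LK LD1_c5 LD2_c9 LD3_c1) Lrfl Lrfl
theorem f296849 : Led Lsl_dt (LP (LK LD1_c18 LD2_c28 LD3_c28)) = (LP (LK LD1_c10 LD2_c8 LD3_c31)) :=
  Lre_d IH (LK LD1_c18 LD2_c28 LD3_c28) (LK LD1_c10 LD2_c8 LD3_c31) Lrfl Lrfl
theorem f287265 : Led Lsl_ct (LP (LK LD1_c28 LD2_c3 LD3_c21)) = (LP (LK LD1_c18 LD2_c28 LD3_c28)) :=
  Lre_c IH (LK LD1_c28 LD2_c3 LD3_c21) (LK LD1_c18 LD2_c28 LD3_c28) Lrfl Lrfl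
theorem f296863 : Led Lsl_dt (LP (LK LD1_c25 LD2_c14 LD3_c13)) = (LP (LK LD1_c28 LD2_c3 LD3_c21)) :=
  Lgr Lrot173 (Lpe (K18.f244482 IH) (Lpe (K18.f244047 IH) (Lpe (K17.f244459 IH) (Lpr_df (K16.f260235 IH) (Lpe (K18.f258973 IH) (Lpe (K18.f296856 IH) (Lpe (K18.f287278 IH) (Lpr_df (K18.f296857 IH) (Lpe (K18.f296852 IH) (Lpe (K18.f296851 IH) (Lpe (K18.f296850 IH) (Lpe (K18.f296842 IH) (Lpe (f287240 IH) (Lpe (f296849 IH) (Lpe (f287265 IH) (Lpn (LP (LK LD1_c28 LD2_c3 LD3_c21))))))))))))))))))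
theorem f296879 : Led Lsl_at (LP (LK LD1_c28 LD2_c3 LD3_c21)) = (LP (LK LD1_c29 LD2_c15 LD3_c52)) :=
  Lgr Lrot51 (Lpe (f296863 IH) (Lpr_af (K18.f296870 IH) (Lpe (K18.f244515 IH) (Lpn (LP (LK LD1_c29 LD2_c15 LD3_c52))))))
theorem f298547 : Led Lsl_ft (LP (LK LD1_c29 LD2_c15 LD3_c52)) = (LP (LK LD1_c25 LD2_c0 LD3_c43)) :=
  Lgr Lrot101 (Lpe (f296879 IH) (Lpe (f296882 IH) (Lpr_af (f298544 IH) (Lpn (LP (LK LD1_c25 LD2_c0 LD3_c43))))))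
theorem f298549 : Led Lsl_gf (LP (LK LD1_c28 LD2_c3 LD3_c18)) = (LP (LK LD1_c29 LD2_c15 LD3_c52)) :=
  Lgr Lrot47 (Lpr_gt (f265914 IH) (Lpr_af (f298544 IH) (Lpe (f298547 IH) (Lpn (LP (LK LD1_c29 LD2_c15 LD3_c52))))))
theorem f201017 : Led Lsl_gt (LP (LK LD1_c20 LD2_c2 LD3_c26)) = (LP (LK LD1_c29 LD2_c15 LD3_c49)) :=
  Lre_g IH (LK LD1_c20 LD2_c2 LD3_c26) (LK LD1_c29 LD2_c15 LD3_c49) Lrfl Lrfl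
theorem f298498 : Led Lsl_ft (LP (LK LD1_c28 LD2_c3 LD3_c20)) = (LP (LK LD1_c25 LD2_c14 LD3_c13)) :=
  Lgr Lrot48 (Lpr_ff (f298490 IH) (Lpn (LP (LK LD1_c25 LD2_c14 LD3_c13))))
theorem f296875 : Led Lsl_at (LP (LK LD1_c25 LD2_c14 LD3_c13)) = (LP (LK LD1_c20 LD2_c2 LD3_c26)) :=
  Lgr Lrot100 (Lpr_af (K18.f296870 IH) (Lpn (LP (LK LD1_c20 LD2_c2 LD3_c26))))
theorem f244647 : Led Lsl_ft (LP (LK LD1_c20 LD2_c2 LD3_c26)) = (LP (LK LD1_c29 LD2_c15 LD3_c53)) :=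
  Lre_f IH (LK LD1_c20 LD2_c2 LD3_c26) (LK LD1_c29 LD2_c15 LD3_c53) Lrfl Lrfl
theorem f298500 : Led Lsl_af (LP (LK LD1_c28 LD2_c3 LD3_c20)) = (LP (LK LD1_c29 LD2_c15 LD3_c53)) :=
  Lgr Lrot45 (Lpr_ft (f298498 IH) (Lpr_at (f296875 IH) (Lpr_ft (f244647 IH) (Lpn (LP (LK LD1_c29 LD2_c15 LD3_c53))))))
theorem f298520 : Led Lsl_gf (LP (LK LD1_c28 LD2_c3 LD3_c20)) = (LP (LK LD1_c29 LD2_c15 LD3_c49)) :=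
  Lgr Lrot76 (Lpr_af (f298500 IH) (Lpe (f244647 IH) (Lpr_gt (f201017 IH) (Lpn (LP (LK LD1_c29 LD2_c15 LD3_c49))))))
theorem f297995 : Led Lsl_gf (LP (LK LD1_c8 LD2_c9 LD3_c44)) = (LP (LK LD1_c4 LD2_c50 LD3_c39)) :=
  Lgr Lrot141 (Lpe (K18.f286728 IH) (Lpr_dt (K12.f200497 IH) (Lpr_gt (K18.f297991 IH) (Lpr_df (K17.f237914 IH) (Lpr_et (K17.f198859 IH) (Lpr_gt (K11.f198853 IH) (Lpr_dt (K0.f27527 IH) (Lpe (K15.f265629 IH) (Lpe (K15.f51043 IH) (Lpr_et (K16.f224861 IH) (Lpn (LP (LK LD1_c4 LD2_c50 LD3_c39)))))))))))))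
theorem f244324 : Led Lsl_gt (LP (LK LD1_c11 LD2_c9 LD3_c0)) = (LP (LK LD1_c20 LD2_c2 LD3_c52)) :=
  Lre_g IH (LK LD1_c11 LD2_c9 LD3_c0) (LK LD1_c20 LD2_c2 LD3_c52) Lrfl Lrfl
theorem f298523 : Led Lsl_ct (LP (LK LD1_c20 LD2_c2 LD3_c52)) = (LP (LK LD1_c29 LD2_c15 LD3_c49)) :=
  Lgr Lrot152 (Lpe (f244324 IH) (Lpe (f244336 IH) (Lpe (K18.f265677 IH) (Lpr_ct (K19.f243744 IH) (Lpe (f297995 IH) (Lpr_ct (K18.f286727 IH) (Lpe (K18.f286731 IH) (Lpr_cf (K20.f296897 IH) (Lpr_gf (f298520 IH) (Lpn (LP (LK LD1_c29 LD2_c15 LD3_c49))))))))))))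
theorem f298525 : Led Lsl_cf (LP (LK LD1_c20 LD2_c2 LD3_c52)) = (LP (LK LD1_c29 LD2_c15 LD3_c49)) :=
  Lgr Lrot11 (Lpr_ct (f298523 IH) (Lpn (LP (LK LD1_c29 LD2_c15 LD3_c49))))
theorem f244297 : Led Lsl_ft (LP (LK LD1_c11 LD2_c9 LD3_c0)) = (LP (LK LD1_c20 LD2_c2 LD3_c55)) :=
  Lre_f IH (LK LD1_c11 LD2_c9 LD3_c0) (LK LD1_c20 LD2_c2 LD3_c55) Lrfl Lrfl
theorem f244325 : Led Lsl_gt (LP (LK LD1_c20 LD2_c2 LD3_c52)) = (LP (LK LD1_c25 LD2_c6 LD3_c34)) :=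
  Lgr Lrot46 (Lpe (f244324 IH) (Lpr_ft (f244297 IH) (Lpr_at (K18.f244315 IH) (Lpn (LP (LK LD1_c25 LD2_c6 LD3_c34))))))
theorem f260090 : Led Lsl_ct (LP (LK LD1_c25 LD2_c6 LD3_c34)) = (LP (LK LD1_c28 LD2_c3 LD3_c39)) :=
  Lgr Lrot59 (Lpr_cf (K19.f260086 IH) (Lpn (LP (LK LD1_c28 LD2_c3 LD3_c39))))
theorem f33830 : Led Lsl_gt (LP (LK LD1_c18 LD2_c29 LD3_c0)) = (LP (LK LD1_c10 LD2_c8 LD3_c55)) :=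
  Lre_g IH (LK LD1_c18 LD2_c29 LD3_c0) (LK LD1_c10 LD2_c8 LD3_c55) Lrfl Lrfl
theorem f298551 : Led Lsl_ct (LP (LK LD1_c28 LD2_c3 LD3_c18)) = (LP (LK LD1_c18 LD2_c29 LD3_c0)) :=
  Lgr Lrot152 (Lpr_gf (f298549 IH) (Lpe (K17.f244518 IH) (Lpr_gt (f201017 IH) (Lpe (f298525 IH) (Lpr_gt (f244325 IH) (Lpr_ct (f260090 IH) (Lpe (K19.f260082 IH) (Lpe (K19.f252729 IH) (Lpe (f33830 IH) (Lpn (LP (LK LD1_c18 LD2_c29 LD3_c0))))))))))))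
theorem f298554 : Led Lsl_cf (LP (LK LD1_c28 LD2_c3 LD3_c18)) = (LP (LK LD1_c18 LD2_c29 LD3_c0)) :=
  Lgr Lrot11 (Lpr_ct (f298551 IH) (Lpn (LP (LK LD1_c18 LD2_c29 LD3_c0))))
theorem f265913 : Led Lsl_ct (LP (LK LD1_c18 LD2_c28 LD3_c27)) = (LP (LK LD1_c10 LD2_c8 LD3_c30)) :=
  Lre_c IH (LK LD1_c18 LD2_c28 LD3_c27) (LK LD1_c10 LD2_c8 LD3_c30) Lrfl Lrfl
theorem f296495 : Led Lsl_at (LP (LK LD1_c15 LD2_c11 LD3_c57)) = (LP (LK LD1_c10 LD2_c8 LD3_c55)) :=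
  Lgr Lrot100 (Lpr_af (K19.f296493 IH) (Lpn (LP (LK LD1_c10 LD2_c8 LD3_c55))))
theorem f296515 : Led Lsl_ft (LP (LK LD1_c25 LD2_c0 LD3_c53)) = (LP (LK LD1_c15 LD2_c11 LD3_c57)) :=
  Lre_f IH (LK LD1_c25 LD2_c0 LD3_c53) (LK LD1_c15 LD2_c11 LD3_c57) Lrfl Lrfl
theorem f296528 : Led Lsl_gt (LP (LK LD1_c25 LD2_c0 LD3_c53)) = (LP (LK LD1_c18 LD2_c29 LD3_c0)) :=
  Lgr Lrot5 (Lpr_ft (f296515 IH) (Lpr_at (f296495 IH) (Lpe (f33830 IH) (Lpn (LP (LK LD1_c18 LD2_c29 LD3_c0))))))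
theorem f296504 : Led Lsl_dt (LP (LK LD1_c15 LD2_c11 LD3_c58)) = (LP (LK LD1_c25 LD2_c0 LD3_c53)) :=
  Lre_d IH (LK LD1_c15 LD2_c11 LD3_c58) (LK LD1_c25 LD2_c0 LD3_c53) Lrfl Lrfl
theorem f298572 : Led Lsl_gf (LP (LK LD1_c10 LD2_c8 LD3_c34)) = (LP (LK LD1_c15 LD2_c11 LD3_c58)) :=
  Lgr Lrot147 (Lpr_ct (f287233 IH) (Lpr_gt (f287225 IH) (Lpr_ct (K20.f197201 IH) (Lpe (K17.f197200 IH) (Lpe (f265913 IH) (Lpe (f265914 IH) (Lpr_cf (f298554 IH) (Lpe (f296528 IH) (Lpe (f296504 IH) (Lpn (LP (LK LD1_c15 LD2_c11 LD3_c58))))))))))))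
theorem f296505 : Led Lsl_af (LP (LK LD1_c15 LD2_c11 LD3_c58)) = (LP (LK LD1_c10 LD2_c8 LD3_c56)) :=
  Lgr Lrot117 (Lpr_dt (f296504 IH) (Lpr_at (K19.f296498 IH) (Lpr_dt (K19.f260105 IH) (Lpn (LP (LK LD1_c10 LD2_c8 LD3_c56))))))
theorem f296510 : Led Lsl_cf (LP (LK LD1_c15 LD2_c11 LD3_c58)) = (LP (LK LD1_c8 LD2_c5 LD3_c50)) :=
  Lgr Lrot102 (Lpr_af (f296505 IH) (Lpe (K19.f260083 IH) (Lpr_dt (K19.f21748 IH) (Lpr_ct (K19.f252729 IH) (Lpr_dt (K19.f260082 IH) (Lpe (K19.f260086 IH) (Lpr_dt (K18.f244006 IH) (Lpr_ct (K18.f244005 IH) (Lpe (K18.f296261 IH) (Lpn (LP (LK LD1_c8 LD2_c5 LD3_c50))))))))))))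
theorem f323776 : Led Lsl_gt (LP (LK LD1_c8 LD2_c5 LD3_c26)) = (LP (LK LD1_c8 LD2_c5 LD3_c50)) :=
  Lgr Lrot9 (Lpe (K20.f259117 IH) (Lpe (K20.f310576 IH) (Lpr_ct (f310578 IH) (Lpe (f310585 IH) (Lpr_ct (f323554 IH) (Lpr_df (f323770 IH) (Lpe (f287233 IH) (Lpr_gf (f298572 IH) (Lpr_cf (f296510 IH) (Lpn (LP (LK LD1_c8 LD2_c5 LD3_c50))))))))))))
theorem f275888 : Led Lsl_gf (LP (LK LD1_c15 LD2_c20 LD3_c26)) = (LP (LK LD1_c16 LD2_c8 LD3_c26)) :=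
  Lgr Lrot134 (Lpr_df (K20.f275884 IH) (Lpe (K20.f275873 IH) (Lpr_gt (K20.f229729 IH) (Lpe (K15.f229433 IH) (Lpr_dt (K13.f229431 IH) (Lpr_gt (K13.f236473 IH) (Lpe (K13.f170307 IH) (Lpr_et (K13.f227961 IH) (Lpr_gt (K13.f228070 IH) (Lpr_dt (K19.f228075 IH) (Lpn (LP (LK LD1_c16 LD2_c8 LD3_c26)))))))))))))
theorem f236465 : Led Lsl_df (LP (LK LD1_c8 LD2_c42 LD3_c32)) = (LP (LK LD1_c15 LD2_c9 LD3_c3)) :=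
  Lgr Lrot38 (Lpr_dt (K13.f236462 IH) (Lpn (LP (LK LD1_c15 LD2_c9 LD3_c3))))
theorem f323782 : Led Lsl_gf (LP (LK LD1_c8 LD2_c42 LD3_c32)) = (LP (LK LD1_c14 LD2_c57 LD3_c31)) :=
  Lgr Lrot134 (Lpr_df (f236465 IH) (Lpe (K13.f228076 IH) (Lpe (f275888 IH) (Lpr_ef (K20.f259118 IH) (Lpr_dt (K20.f259117 IH) (Lpr_gt (f323776 IH) (Lpr_df (K18.f296261 IH) (Lpe (K18.f296263 IH) (Lpe (K18.f275924 IH) (Lpr_dt (K19.f255559 IH) (Lpn (LP (LK LD1_c14 LD2_c57 LD3_c31)))))))))))))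
theorem f308734 : Led Lsl_ct (LP (LK LD1_c8 LD2_c42 LD3_c32)) = (LP (LK LD1_c16 LD2_c18 LD3_c56)) :=
  Lre_c IH (LK LD1_c8 LD2_c42 LD3_c32) (LK LD1_c16 LD2_c18 LD3_c56) Lrfl Lrfl
theorem f247194 : Led Lsl_ct (LP (LK LD1_c25 LD2_c14 LD3_c0)) = (LP (LK LD1_c15 LD2_c22 LD3_c18)) :=
  Lre_c IH (LK LD1_c25 LD2_c14 LD3_c0) (LK LD1_c15 LD2_c22 LD3_c18) Lrfl Lrfl
theorem f323784 : Led Lsl_gt (LP (LK LD1_c16 LD2_c18 LD3_c56)) = (LP (LK LD1_c25 LD2_c14 LD3_c0)) :=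
  Lgr Lrot150 (Lpe (f308734 IH) (Lpr_gf (f323782 IH) (Lpe (K19.f255559 IH) (Lpr_gt (K18.f28860 IH) (Lpr_ct (K15.f28899 IH) (Lpr_gt (K18.f196695 IH) (Lpr_ct (K18.f298000 IH) (Lpe (K14.f238343 IH) (Lpe (f247194 IH) (Lpn (LP (LK LD1_c25 LD2_c14 LD3_c0))))))))))))
theorem f236464 : Led Lsl_ct (LP (LK LD1_c16 LD2_c18 LD3_c56)) = (LP (LK LD1_c8 LD2_c42 LD3_c32)) :=
  Lre_c IH (LK LD1_c16 LD2_c18 LD3_c56) (LK LD1_c8 LD2_c42 LD3_c32) Lrfl Lrfl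
theorem f238340 : Led Lsl_dt (LP (LK LD1_c8 LD2_c9 LD3_c37)) = (LP (LK LD1_c15 LD2_c22 LD3_c18)) :=
  Lre_d IH (LK LD1_c8 LD2_c9 LD3_c37) (LK LD1_c15 LD2_c22 LD3_c18) Lrfl Lrfl
theorem f247189 : Led Lsl_ct (LP (LK LD1_c15 LD2_c22 LD3_c18)) = (LP (LK LD1_c25 LD2_c14 LD3_c0)) :=
  Lre_c IH (LK LD1_c15 LD2_c22 LD3_c18) (LK LD1_c25 LD2_c14 LD3_c0) Lrfl Lrfl
theorem f196982 : Led Lsl_gt (LP (LK LD1_c8 LD2_c41 LD3_c2)) = (LP (LK LD1_c16 LD2_c15 LD3_c56)) :=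
  Lre_g IH (LK LD1_c8 LD2_c41 LD3_c2) (LK LD1_c16 LD2_c15 LD3_c56) Lrfl Lrfl
theorem f247207 : Led Lsl_df (LP (LK LD1_c25 LD2_c14 LD3_c0)) = (LP (LK LD1_c16 LD2_c15 LD3_c56)) :=
  Lgr Lrot84 (Lpe (f247189 IH) (Lpe (f238340 IH) (Lpe (K14.f238337 IH) (Lpr_df (K14.f247197 IH) (Lpe (K14.f237908 IH) (Lpe (K18.f237911 IH) (Lpr_gt (K17.f238013 IH) (Lpr_dt (K20.f28844 IH) (Lpr_gt (f196982 IH) (Lpn (LP (LK LD1_c16 LD2_c15 LD3_c56))))))))))))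
theorem f247219 : Led Lsl_dt (LP (LK LD1_c25 LD2_c14 LD3_c0)) = (LP (LK LD1_c16 LD2_c15 LD3_c56)) :=
  Lgr Lrot42 (Lpr_df (f247207 IH) (Lpn (LP (LK LD1_c16 LD2_c15 LD3_c56))))
theorem f262221 : Led Lsl_gt (LP (LK LD1_c16 LD2_c15 LD3_c56)) = (LP (LK LD1_c24 LD2_c44 LD3_c57)) :=
  Lgr Lrot46 (Lpe (f196982 IH) (Lpr_ft (K15.f28904 IH) (Lpr_at (K15.f262211 IH) (Lpn (LP (LK LD1_c24 LD2_c44 LD3_c57))))))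
theorem f323791 : Led Lsl_gt (LP (LK LD1_c8 LD2_c42 LD3_c32)) = (LP (LK LD1_c15 LD2_c17 LD3_c52)) :=
  Lgr Lrot94 (Lpe (f236464 IH) (Lpr_gt (f323784 IH) (Lpr_dt (f247219 IH) (Lpr_gt (f262221 IH) (Lpr_dt (K15.f197657 IH) (Lpe (K18.f197652 IH) (Lpe (K13.f228054 IH) (Lpr_gf (K18.f299202 IH) (Lpe (K15.f28910 IH) (Lpn (LP (LK LD1_c15 LD2_c17 LD3_c52))))))))))))
theorem f323795 : Led Lsl_gf (LP (LK LD1_c25 LD2_c18 LD3_c1)) = (LP (LK LD1_c17 LD2_c39 LD3_c25)) :=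
  Lgr Lrot104 (Lpr_ct (K19.f237973 IH) (Lpe (K19.f237972 IH) (Lpe (K19.f256157 IH) (Lpr_gf (K19.f308931 IH) (Lpe (K20.f216213 IH) (Lpe (K13.f194265 IH) (Lpe (K13.f236462 IH) (Lpr_gt (f323791 IH) (Lpr_ct (K18.f238787 IH) (Lpn (LP (LK LD1_c17 LD2_c39 LD3_c25))))))))))))
theorem f325276 : Led Lsl_cf (LP (LK LD1_c16 LD2_c16 LD3_c59)) = (LP (LK LD1_c11 LD2_c8 LD3_c57)) :=
  Lgr Lrot99 (Lpe (f269658 IH) (Lpr_cf (f325272 IH) (Lpr_gf (f298989 IH) (Lpe (K18.f247252 IH) (Lpe (K18.f298991 IH) (Lpr_df (K18.f238773 IH) (Lpe (f323795 IH) (Lpr_ct (K19.f237973 IH) (Lpr_gt (K19.f312246 IH) (Lpn (LP (LK LD1_c11 LD2_c8 LD3_c57))))))))))))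
theorem f325278 : Led Lsl_ct (LP (LK LD1_c16 LD2_c16 LD3_c59)) = (LP (LK LD1_c11 LD2_c8 LD3_c57)) :=
  Lgr Lrot59 (Lpr_cf (f325276 IH) (Lpn (LP (LK LD1_c11 LD2_c8 LD3_c57))))
theorem f297983 : Led Lsl_dt (LP (LK LD1_c5 LD2_c38 LD3_c60)) = (LP (LK LD1_c11 LD2_c8 LD3_c57)) :=
  Lre_d IH (LK LD1_c5 LD2_c38 LD3_c60) (LK LD1_c11 LD2_c8 LD3_c57) Lrfl Lrfl
theorem f228826 : Led Lsl_ct (LP (LK LD1_c2 LD2_c3 LD3_c51)) = (LP (LK LD1_c4 LD2_c13 LD3_c10)) :=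
  Lre_c IH (LK LD1_c2 LD2_c3 LD3_c51) (LK LD1_c4 LD2_c13 LD3_c10) Lrfl Lrfl
theorem f179974 : Led Lsl_gt (LP (LK LD1_c0 LD2_c58 LD3_c57)) = (LP (LK LD1_c2 LD2_c3 LD3_c57)) :=
  Lre_g IH (LK LD1_c0 LD2_c58 LD3_c57) (LK LD1_c2 LD2_c3 LD3_c57) Lrfl Lrfl
theorem f309990 : Led Lsl_bt (LP (LK LD1_c4 LD2_c13 LD3_c20)) = (LP (LK LD1_c2 LD2_c3 LD3_c57)) :=
  Lre_b IH (LK LD1_c4 LD2_c13 LD3_c20) (LK LD1_c2 LD2_c3 LD3_c57) Lrfl Lrfl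
theorem f309991 : Led Lsl_ct (LP (LK LD1_c4 LD2_c13 LD3_c20)) = (LP (LK LD1_c8 LD2_c25 LD3_c45)) :=
  Lre_c IH (LK LD1_c4 LD2_c13 LD3_c20) (LK LD1_c8 LD2_c25 LD3_c45) Lrfl Lrfl
theorem f28890 : Led Lsl_bt (LP (LK LD1_c4 LD2_c21 LD3_c46)) = (LP (LK LD1_c8 LD2_c40 LD3_c56)) :=
  Lre_b IH (LK LD1_c4 LD2_c21 LD3_c46) (LK LD1_c8 LD2_c40 LD3_c56) Lrfl Lrfl
theorem f309992 : Led Lsl_gt (LP (LK LD1_c8 LD2_c25 LD3_c45)) = (LP (LK LD1_c8 LD2_c41 LD3_c3)) :=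
  Lgr Lrot65 (Lpe (f309991 IH) (Lpr_bt (f309990 IH) (Lpe (f179974 IH) (Lpe (f228823 IH) (Lpr_ct (f228826 IH) (Lpr_gf (K19.f309984 IH) (Lpe (K17.f276713 IH) (Lpe (K14.f246351 IH) (Lpe (f28890 IH) (Lpr_ct (K15.f28891 IH) (Lpn (LP (LK LD1_c8 LD2_c41 LD3_c3)))))))))))))
theorem f325293 : Led Lsl_gf (LP (LK LD1_c4 LD2_c56 LD3_c50)) = (LP (LK LD1_c4 LD2_c13 LD3_c20)) :=
  Lgr Lrot144 (Lpe (K14.f247253 IH) (Lpe (K18.f297981 IH) (Lpr_dt (f297983 IH) (Lpe (f325278 IH) (Lpe (f269658 IH) (Lpr_gf (f325291 IH) (Lpe (K15.f28892 IH) (Lpe (f309992 IH) (Lpe (f309991 IH) (Lpn (LP (LK LD1_c4 LD2_c13 LD3_c20))))))))))))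
theorem f7743 : Led Lsl_ct (LP (LK LD1_c1 LD2_c0 LD3_c3)) = (LP (LK LD1_c2 LD2_c6 LD3_c7)) :=
  Lre_c IH (LK LD1_c1 LD2_c0 LD3_c3) (LK LD1_c2 LD2_c6 LD3_c7) Lrfl Lrfl
theorem f325306 : Led Lsl_bt (LP (LK LD1_c2 LD2_c3 LD3_c57)) = (LP (LK LD1_c4 LD2_c13 LD3_c20)) :=
  Lre_b IH (LK LD1_c2 LD2_c3 LD3_c57) (LK LD1_c4 LD2_c13 LD3_c20) Lrfl Lrfl
theorem f228880 : Led Lsl_ct (LP (LK LD1_c2 LD2_c3 LD3_c57)) = (LP (LK LD1_c4 LD2_c13 LD3_c21)) :=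
  Lre_c IH (LK LD1_c2 LD2_c3 LD3_c57) (LK LD1_c4 LD2_c13 LD3_c21) Lrfl Lrfl
theorem f325308 : Led Lsl_gt (LP (LK LD1_c2 LD2_c6 LD3_c7)) = (LP (LK LD1_c4 LD2_c13 LD3_c21)) :=
  Lgr Lrot149 (Lpe (f7743 IH) (Lpr_gf (K13.f245894 IH) (Lpe (K18.f243270 IH) (Lpr_ct (K18.f243296 IH) (Lpe (K19.f298846 IH) (Lpe (K17.f168399 IH) (Lpe (K14.f168395 IH) (Lpr_gf (f325293 IH) (Lpe (f325306 IH) (Lpr_ct (f228880 IH) (Lpn (LP (LK LD1_c4 LD2_c13 LD3_c21)))))))))))))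
theorem f325310 : Led Lsl_gf (LP (LK LD1_c2 LD2_c6 LD3_c2)) = (LP (LK LD1_c4 LD2_c16 LD3_c50)) :=
  Lgr Lrot124 (Lpe (K15.f7739 IH) (Lpr_ct (f7743 IH) (Lpr_gt (f325308 IH) (Lpe (f228880 IH) (Lpr_bt (f325306 IH) (Lpe (f325293 IH) (Lpr_ct (K18.f168405 IH) (Lpe (K18.f298399 IH) (Lpe (K18.f28905 IH) (Lpr_bt (K19.f299275 IH) (Lpn (LP (LK LD1_c4 LD2_c16 LD3_c50)))))))))))))
theorem f41778 : Led Lsl_et (LP (LK LD1_c6 LD2_c4 LD3_c27)) = (LP (LK LD1_c2 LD2_c58 LD3_c25)) :=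
  Lre_e IH (LK LD1_c6 LD2_c4 LD3_c27) (LK LD1_c2 LD2_c58 LD3_c25) Lrfl Lrfl
theorem f325320 : Led Lsl_dt (LP (LK LD1_c6 LD2_c4 LD3_c27)) = (LP (LK LD1_c4 LD2_c16 LD3_c50)) :=
  Lgr Lrot136 (Lpr_et (f41778 IH) (Lpe (K10.f41777 IH) (Lpe (K1.f41749 IH) (Lpr_dt (K1.f41743 IH) (Lpe (K14.f41775 IH) (Lpe (K15.f41776 IH) (Lpr_gf (K15.f261069 IH) (Lpe (K16.f7836 IH) (Lpe (K12.f7794 IH) (Lpr_gf (f325310 IH) (Lpn (LP (LK LD1_c4 LD2_c16 LD3_c50)))))))))))))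
theorem f325312 : Led Lsl_gt (LP (LK LD1_c8 LD2_c32 LD3_c61)) = (LP (LK LD1_c4 LD2_c16 LD3_c50)) :=
  Lre_g IH (LK LD1_c8 LD2_c32 LD3_c61) (LK LD1_c4 LD2_c16 LD3_c50) Lrfl Lrfl
theorem f325324 : Led Lsl_dt (LP (LK LD1_c8 LD2_c53 LD3_c26)) = (LP (LK LD1_c8 LD2_c32 LD3_c61)) :=
  Lgr Lrot136 (Lpe (K20.f315995 IH) (Lpe (K20.f261306 IH) (Lpe (K20.f41754 IH) (Lpr_dt (K15.f41753 IH) (Lpe (K9.f22402 IH) (Lpe (K10.f41818 IH) (Lpe (K17.f41823 IH) (Lpe (f41778 IH) (Lpr_dt (f325320 IH) (Lpe (f325312 IH) (Lpn (LP (LK LD1_c8 LD2_c32 LD3_c61)))))))))))))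
theorem f230600 : Led Lsl_dt (LP (LK LD1_c10 LD2_c28 LD3_c43)) = (LP (LK LD1_c5 LD2_c19 LD3_c27)) :=
  Lre_d IH (LK LD1_c10 LD2_c28 LD3_c43) (LK LD1_c5 LD2_c19 LD3_c27) Lrfl Lrfl
theorem f230591 : Led Lsl_bf (LP (LK LD1_c8 LD2_c52 LD3_c14)) = (LP (LK LD1_c5 LD2_c19 LD3_c27)) :=
  Lgr Lrot24 (Lpr_bt (K20.f230578 IH) (Lpn (LP (LK LD1_c5 LD2_c19 LD3_c27))))
theorem f316011 : Led Lsl_df (LP (LK LD1_c11 LD2_c52 LD3_c18)) = (LP (LK LD1_c8 LD2_c52 LD3_c14)) :=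
  Lgr Lrot12 (Lpr_bt (K20.f315997 IH) (Lpr_dt (f230600 IH) (Lpe (f230591 IH) (Lpn (LP (LK LD1_c8 LD2_c52 LD3_c14))))))
theorem f248349 : Led Lsl_df (LP (LK LD1_c8 LD2_c52 LD3_c37)) = (LP (LK LD1_c8 LD2_c20 LD3_c20)) :=
  Lgr Lrot12 (Lpe (K14.f248312 IH) (Lpr_dt (K14.f248338 IH) (Lpr_bt (K12.f230974 IH) (Lpn (LP (LK LD1_c8 LD2_c20 LD3_c20))))))
theorem f325332 : Led Lsl_ef (LP (LK LD1_c8 LD2_c20 LD3_c20)) = (LP (LK LD1_c8 LD2_c32 LD3_c61)) :=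
  Lgr Lrot73 (Lpe (f248349 IH) (Lpr_et (K14.f248430 IH) (Lpe (f316011 IH) (Lpr_et (K20.f315989 IH) (Lpr_dt (f325324 IH) (Lpn (LP (LK LD1_c8 LD2_c32 LD3_c61))))))))
theorem f169387 : Led Lsl_dt (LP (LK LD1_c4 LD2_c16 LD3_c56)) = (LP (LK LD1_c8 LD2_c33 LD3_c17)) :=
  Lre_d IH (LK LD1_c4 LD2_c16 LD3_c56) (LK LD1_c8 LD2_c33 LD3_c17) Lrfl Lrfl
theorem f178729 : Led Lsl_et (LP (LK LD1_c0 LD2_c58 LD3_c4)) = (LP (LK LD1_c2 LD2_c2 LD3_c21)) :=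
  Lre_e IH (LK LD1_c0 LD2_c58 LD3_c4) (LK LD1_c2 LD2_c2 LD3_c21) Lrfl Lrfl
theorem f316096 : Led Lsl_gt (LP (LK LD1_c8 LD2_c33 LD3_c17)) = (LP (LK LD1_c4 LD2_c27 LD3_c13)) :=
  Lgr Lrot112 (Lpe (f169387 IH) (Lpr_et (K20.f316087 IH) (Lpe (K20.f178708 IH) (Lpe (f178729 IH) (Lpr_dt (K9.f170695 IH) (Lpe (K9.f182191 IH) (Lpe (K12.f42645 IH) (Lpr_gf (K18.f300782 IH) (Lpe (K20.f300792 IH) (Lpe (K20.f300796 IH) (Lpn (LP (LK LD1_c4 LD2_c27 LD3_c13)))))))))))))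
theorem f316098 : Led Lsl_gf (LP (LK LD1_c8 LD2_c33 LD3_c17)) = (LP (LK LD1_c5 LD2_c5 LD3_c29)) :=
  Lgr Lrot47 (Lpr_gt (f316096 IH) (Lpr_af (K18.f299472 IH) (Lpe (K18.f167479 IH) (Lpn (LP (LK LD1_c5 LD2_c5 LD3_c29))))))
theorem f167486 : Led Lsl_gt (LP (LK LD1_c8 LD2_c34 LD3_c54)) = (LP (LK LD1_c4 LD2_c18 LD3_c7)) :=
  Lre_g IH (LK LD1_c8 LD2_c34 LD3_c54) (LK LD1_c4 LD2_c18 LD3_c7) Lrfl Lrfl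
theorem f325330 : Led Lsl_df (LP (LK LD1_c8 LD2_c53 LD3_c26)) = (LP (LK LD1_c8 LD2_c32 LD3_c61)) :=
  Lgr Lrot38 (Lpr_dt (f325324 IH) (Lpn (LP (LK LD1_c8 LD2_c32 LD3_c61))))
theorem f7825 : Led Lsl_gt (LP (LK LD1_c5 LD2_c28 LD3_c24)) = (LP (LK LD1_c2 LD2_c40 LD3_c31)) :=
  Lre_g IH (LK LD1_c5 LD2_c28 LD3_c24) (LK LD1_c2 LD2_c40 LD3_c31) Lrfl Lrfl
theorem f278980 : Led Lsl_gt (LP (LK LD1_c8 LD2_c53 LD3_c26)) = (LP (LK LD1_c5 LD2_c28 LD3_c24)) :=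
  Lgr Lrot5 (Lpr_ft (K16.f278959 IH) (Lpr_at (K16.f278968 IH) (Lpe (f7825 IH) (Lpn (LP (LK LD1_c5 LD2_c28 LD3_c24))))))
theorem f7826 : Led Lsl_dt (LP (LK LD1_c10 LD2_c47 LD3_c59)) = (LP (LK LD1_c5 LD2_c28 LD3_c24)) :=
  Lre_d IH (LK LD1_c10 LD2_c47 LD3_c59) (LK LD1_c5 LD2_c28 LD3_c24) Lrfl Lrfl
theorem f325342 : Led Lsl_ef (LP (LK LD1_c8 LD2_c34 LD3_c54)) = (LP (LK LD1_c10 LD2_c47 LD3_c59)) :=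
  Lgr Lrot167 (Lpr_gt (f167486 IH) (Lpr_dt (K18.f167471 IH) (Lpe (f316098 IH) (Lpe (f169387 IH) (Lpr_et (K20.f316087 IH) (Lpr_gt (K20.f230983 IH) (Lpr_ef (f325332 IH) (Lpe (f325330 IH) (Lpr_gt (f278980 IH) (Lpe (f7826 IH) (Lpn (LP (LK LD1_c10 LD2_c47 LD3_c59)))))))))))))
theorem f325348 : Led Lsl_gt (LP (LK LD1_c4 LD2_c17 LD3_c27)) = (LP (LK LD1_c8 LD2_c32 LD3_c61)) :=
  Lgr Lrot137 (Lpr_ef (K20.f315911 IH) (Lpr_dt (K15.f184280 IH) (Lpe (K20.f315894 IH) (Lpe (K19.f307768 IH) (Lpr_et (K19.f299446 IH) (Lpe (f167486 IH) (Lpr_ef (f325342 IH) (Lpr_dt (f7826 IH) (Lpe (f278980 IH) (Lpr_df (f325330 IH) (Lpn (LP (LK LD1_c8 LD2_c32 LD3_c61)))))))))))))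
theorem f325350 : Led Lsl_at (LP (LK LD1_c4 LD2_c10 LD3_c43)) = (LP (LK LD1_c4 LD2_c16 LD3_c50)) :=
  Lgr Lrot26 (Lpe (K20.f315924 IH) (Lpr_gt (f325348 IH) (Lpr_gt (f325312 IH) (Lpn (LP (LK LD1_c4 LD2_c16 LD3_c50))))))
theorem f290175 : Led Lsl_dt (LP (LK LD1_c4 LD2_c16 LD3_c50)) = (LP (LK LD1_c6 LD2_c4 LD3_c27)) :=
  Lgr Lrot77 (Lpe (K19.f290174 IH) (Lpr_df (K17.f290168 IH) (Lpr_ef (K17.f283253 IH) (Lpe (K16.f274442 IH) (Lpe (f41778 IH) (Lpn (LP (LK LD1_c6 LD2_c4 LD3_c27))))))))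
theorem f325352 : Led Lsl_af (LP (LK LD1_c2 LD2_c58 LD3_c41)) = (LP (LK LD1_c6 LD2_c4 LD3_c27)) :=
  Lgr Lrot117 (Lpr_dt (K20.f315936 IH) (Lpr_at (f325350 IH) (Lpr_dt (f290175 IH) (Lpn (LP (LK LD1_c6 LD2_c4 LD3_c27))))))
theorem f315943 : Led Lsl_gt (LP (LK LD1_c6 LD2_c5 LD3_c0)) = (LP (LK LD1_c2 LD2_c58 LD3_c41)) :=
  Lre_g IH (LK LD1_c6 LD2_c5 LD3_c0) (LK LD1_c2 LD2_c58 LD3_c41) Lrfl Lrfl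
theorem f283346 : Led Lsl_ft (LP (LK LD1_c11 LD2_c52 LD3_c23)) = (LP (LK LD1_c6 LD2_c4 LD3_c27)) :=
  Lre_f IH (LK LD1_c11 LD2_c52 LD3_c23) (LK LD1_c6 LD2_c4 LD3_c27) Lrfl Lrfl
theorem f325358 : Led Lsl_gf (LP (LK LD1_c6 LD2_c5 LD3_c0)) = (LP (LK LD1_c11 LD2_c52 LD3_c23)) :=
  Lgr Lrot47 (Lpr_gt (f315943 IH) (Lpr_af (f325352 IH) (Lpe (f283346 IH) (Lpn (LP (LK LD1_c11 LD2_c52 LD3_c23))))))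
theorem f300888 : Led Lsl_dt (LP (LK LD1_c2 LD2_c38 LD3_c30)) = (LP (LK LD1_c5 LD2_c23 LD3_c56)) :=
  Lre_d IH (LK LD1_c2 LD2_c38 LD3_c30) (LK LD1_c5 LD2_c23 LD3_c56) Lrfl Lrfl
theorem f42423 : Led Lsl_ct (LP (LK LD1_c10 LD2_c31 LD3_c8)) = (LP (LK LD1_c5 LD2_c20 LD3_c34)) :=
  Lre_c IH (LK LD1_c10 LD2_c31 LD3_c8) (LK LD1_c5 LD2_c20 LD3_c34) Lrfl Lrfl
theorem f303236 : Led Lsl_ef (LP (LK LD1_c2 LD2_c38 LD3_c30)) = (LP (LK LD1_c5 LD2_c20 LD3_c34)) :=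
  Lgr Lrot28 (Lpr_ct (K18.f300885 IH) (Lpr_et (K18.f303234 IH) (Lpr_ct (f42423 IH) (Lpn (LP (LK LD1_c5 LD2_c20 LD3_c34))))))
theorem f274444 : Led Lsl_et (LP (LK LD1_c2 LD2_c58 LD3_c25)) = (LP (LK LD1_c6 LD2_c4 LD3_c27)) :=
  Lre_e IH (LK LD1_c2 LD2_c58 LD3_c25) (LK LD1_c6 LD2_c4 LD3_c27) Lrfl Lrfl
theorem f283357 : Led Lsl_ft (LP (LK LD1_c6 LD2_c4 LD3_c27)) = (LP (LK LD1_c11 LD2_c52 LD3_c23)) :=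
  Lre_f IH (LK LD1_c6 LD2_c4 LD3_c27) (LK LD1_c11 LD2_c52 LD3_c23) Lrfl Lrfl
theorem f42295 : Led Lsl_et (LP (LK LD1_c2 LD2_c58 LD3_c44)) = (LP (LK LD1_c1 LD2_c25 LD3_c5)) :=
  Lre_e IH (LK LD1_c2 LD2_c58 LD3_c44) (LK LD1_c1 LD2_c25 LD3_c5) Lrfl Lrfl
theorem f283358 : Led Lsl_et (LP (LK LD1_c11 LD2_c52 LD3_c23)) = (LP (LK LD1_c6 LD2_c5 LD3_c8)) :=
  Lgr Lrot69 (Lpe (f283357 IH) (Lpe (f274444 IH) (Lpr_ff (K17.f283349 IH) (Lpe (f42295 IH) (Lpe (K15.f42280 IH) (Lpn (LP (LK LD1_c6 LD2_c5 LD3_c8))))))))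
theorem f309056 : Led Lsl_df (LP (LK LD1_c11 LD2_c52 LD3_c23)) = (LP (LK LD1_c8 LD2_c33 LD3_c0)) :=
  Lgr Lrot70 (Lpr_et (f283358 IH) (Lpe (K15.f42428 IH) (Lpe (f303236 IH) (Lpr_dt (f300888 IH) (Lpr_et (K19.f309049 IH) (Lpn (LP (LK LD1_c8 LD2_c33 LD3_c0))))))))
theorem f179835 : Led Lsl_et (LP (LK LD1_c8 LD2_c35 LD3_c51)) = (LP (LK LD1_c4 LD2_c18 LD3_c31)) :=
  Lre_e IH (LK LD1_c8 LD2_c35 LD3_c51) (LK LD1_c4 LD2_c18 LD3_c31) Lrfl Lrfl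
theorem f325362 : Led Lsl_df (LP (LK LD1_c6 LD2_c5 LD3_c0)) = (LP (LK LD1_c8 LD2_c35 LD3_c51)) :=
  Lgr Lrot168 (Lpr_gf (f325358 IH) (Lpr_df (f309056 IH) (Lpe (K19.f309058 IH) (Lpe (K18.f300895 IH) (Lpr_ef (K16.f258322 IH) (Lpr_dt (K16.f184475 IH) (Lpe (K16.f184461 IH) (Lpe (K13.f219210 IH) (Lpr_gf (K20.f322570 IH) (Lpe (f179835 IH) (Lpn (LP (LK LD1_c8 LD2_c35 LD3_c51)))))))))))))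
theorem f325368 : Led Lsl_et (LP (LK LD1_c6 LD2_c5 LD3_c0)) = (LP (LK LD1_c11 LD2_c53 LD3_c25)) :=
  Lre_e IH (LK LD1_c6 LD2_c5 LD3_c0) (LK LD1_c11 LD2_c53 LD3_c25) Lrfl Lrfl
theorem f179829 : Led Lsl_et (LP (LK LD1_c4 LD2_c18 LD3_c31)) = (LP (LK LD1_c8 LD2_c35 LD3_c51)) :=
  Lre_e IH (LK LD1_c4 LD2_c18 LD3_c31) (LK LD1_c8 LD2_c35 LD3_c51) Lrfl Lrfl
theorem f179780 : Led Lsl_bt (LP (LK LD1_c4 LD2_c17 LD3_c2)) = (LP (LK LD1_c8 LD2_c33 LD3_c27)) :=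
  Lre_b IH (LK LD1_c4 LD2_c17 LD3_c2) (LK LD1_c8 LD2_c33 LD3_c27) Lrfl Lrfl
theorem f179821 : Led Lsl_bt (LP (LK LD1_c8 LD2_c35 LD3_c50)) = (LP (LK LD1_c4 LD2_c18 LD3_c33)) :=
  Lre_b IH (LK LD1_c8 LD2_c35 LD3_c50) (LK LD1_c4 LD2_c18 LD3_c33) Lrfl Lrfl
theorem f179822 : Led Lsl_et (LP (LK LD1_c8 LD2_c33 LD3_c27)) = (LP (LK LD1_c8 LD2_c35 LD3_c50)) :=
  Lgr Lrot74 (Lpe (f179780 IH) (Lpr_ef (K13.f179819 IH) (Lpe (f179821 IH) (Lpn (LP (LK LD1_c8 LD2_c35 LD3_c50))))))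
theorem f325369 : Led Lsl_dt (LP (LK LD1_c11 LD2_c53 LD3_c25)) = (LP (LK LD1_c8 LD2_c33 LD3_c27)) :=
  Lgr Lrot77 (Lpe (f325368 IH) (Lpr_df (f325362 IH) (Lpe (f179829 IH) (Lpe (K20.f179828 IH) (Lpe (f179822 IH) (Lpn (LP (LK LD1_c8 LD2_c33 LD3_c27))))))))
theorem f325374 : Led Lsl_df (LP (LK LD1_c11 LD2_c53 LD3_c25)) = (LP (LK LD1_c8 LD2_c33 LD3_c27)) :=
  Lgr Lrot38 (Lpr_dt (f325369 IH) (Lpn (LP (LK LD1_c8 LD2_c33 LD3_c27))))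
theorem f179785 : Led Lsl_bt (LP (LK LD1_c8 LD2_c33 LD3_c27)) = (LP (LK LD1_c4 LD2_c17 LD3_c2)) :=
  Lre_b IH (LK LD1_c8 LD2_c33 LD3_c27) (LK LD1_c4 LD2_c17 LD3_c2) Lrfl Lrfl
theorem f179816 : Led Lsl_bt (LP (LK LD1_c4 LD2_c18 LD3_c33)) = (LP (LK LD1_c8 LD2_c35 LD3_c50)) :=
  Lre_b IH (LK LD1_c4 LD2_c18 LD3_c33) (LK LD1_c8 LD2_c35 LD3_c50) Lrfl Lrfl
theorem f179817 : Led Lsl_ef (LP (LK LD1_c8 LD2_c33 LD3_c27)) = (LP (LK LD1_c8 LD2_c35 LD3_c50)) :=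
  Lgr Lrot29 (Lpr_bt (f179785 IH) (Lpr_et (K13.f179813 IH) (Lpr_bt (f179816 IH) (Lpn (LP (LK LD1_c8 LD2_c35 LD3_c50))))))
theorem f322576 : Led Lsl_gt (LP (LK LD1_c4 LD2_c17 LD3_c21)) = (LP (LK LD1_c8 LD2_c33 LD3_c27)) :=
  Lgr Lrot131 (Lpe (K14.f238631 IH) (Lpr_dt (K14.f247393 IH) (Lpe (K14.f253465 IH) (Lpr_df (K18.f300766 IH) (Lpe (K18.f300773 IH) (Lpe (K13.f219203 IH) (Lpr_dt (K13.f219210 IH) (Lpr_gf (K20.f322570 IH) (Lpe (K20.f179828 IH) (Lpe (f179817 IH) (Lpn (LP (LK LD1_c8 LD2_c33 LD3_c27)))))))))))))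
theorem f325379 : Led Lsl_gt (LP (LK LD1_c11 LD2_c53 LD3_c25)) = (LP (LK LD1_c8 LD2_c34 LD3_c34)) :=
  Lgr Lrot139 (Lpr_df (f325374 IH) (Lpe (f322576 IH) (Lpe (K14.f238631 IH) (Lpr_dt (K14.f247393 IH) (Lpe (K14.f253465 IH) (Lpr_df (K18.f300766 IH) (Lpr_et (K20.f300795 IH) (Lpe (K19.f307684 IH) (Lpe (K19.f256002 IH) (Lpr_dt (K19.f7965 IH) (Lpn (LP (LK LD1_c8 LD2_c34 LD3_c34)))))))))))))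
theorem f325366 : Led Lsl_dt (LP (LK LD1_c6 LD2_c5 LD3_c0)) = (LP (LK LD1_c8 LD2_c35 LD3_c51)) :=
  Lgr Lrot42 (Lpr_df (f325362 IH) (Lpn (LP (LK LD1_c8 LD2_c35 LD3_c51))))
theorem f167458 : Led Lsl_bt (LP (LK LD1_c2 LD2_c30 LD3_c8)) = (LP (LK LD1_c5 LD2_c5 LD3_c29)) :=
  Lre_b IH (LK LD1_c2 LD2_c30 LD3_c8) (LK LD1_c5 LD2_c5 LD3_c29) Lrfl Lrfl
theorem f167459 : Led Lsl_df (LP (LK LD1_c4 LD2_c18 LD3_c7)) = (LP (LK LD1_c5 LD2_c5 LD3_c29)) :=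
  Lgr Lrot12 (Lpr_bt (K19.f167457 IH) (Lpr_dt (K18.f167444 IH) (Lpr_bt (f167458 IH) (Lpn (LP (LK LD1_c5 LD2_c5 LD3_c29))))))
theorem f182235 : Led Lsl_gt (LP (LK LD1_c8 LD2_c20 LD3_c20)) = (LP (LK LD1_c4 LD2_c10 LD3_c21)) :=
  Lre_g IH (LK LD1_c8 LD2_c20 LD3_c20) (LK LD1_c4 LD2_c10 LD3_c21) Lrfl Lrfl
theorem f307700 : Led Lsl_gf (LP (LK LD1_c8 LD2_c52 LD3_c14)) = (LP (LK LD1_c5 LD2_c16 LD3_c20)) :=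
  Lgr Lrot141 (Lpe (K14.f248430 IH) (Lpr_dt (K14.f248356 IH) (Lpr_gt (f182235 IH) (Lpe (K9.f182217 IH) (Lpe (K20.f184436 IH) (Lpr_gt (K18.f299459 IH) (Lpe (f167459 IH) (Lpe (K19.f307686 IH) (Lpr_df (K19.f256000 IH) (Lpr_et (K19.f307692 IH) (Lpn (LP (LK LD1_c5 LD2_c16 LD3_c20)))))))))))))
theorem f278983 : Led Lsl_dt (LP (LK LD1_c5 LD2_c28 LD3_c24)) = (LP (LK LD1_c10 LD2_c47 LD3_c59)) :=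
  Lre_d IH (LK LD1_c5 LD2_c28 LD3_c24) (LK LD1_c10 LD2_c47 LD3_c59) Lrfl Lrfl
theorem f325383 : Led Lsl_gf (LP (LK LD1_c8 LD2_c35 LD3_c51)) = (LP (LK LD1_c10 LD2_c47 LD3_c59)) :=
  Lgr Lrot134 (Lpe (f325366 IH) (Lpr_et (f325368 IH) (Lpr_gt (f325379 IH) (Lpr_ef (K19.f307696 IH) (Lpr_dt (K19.f307702 IH) (Lpe (f307700 IH) (Lpe (K20.f315987 IH) (Lpr_et (K20.f315989 IH) (Lpr_gt (f278980 IH) (Lpr_dt (f278983 IH) (Lpn (LP (LK LD1_c10 LD2_c47 LD3_c59)))))))))))))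
theorem f283237 : Led Lsl_ef (LP (LK LD1_c2 LD2_c24 LD3_c42)) = (LP (LK LD1_c1 LD2_c16 LD3_c1)) :=
  Lgr Lrot28 (Lpr_ct (K14.f7961 IH) (Lpr_et (K17.f283233 IH) (Lpr_ct (K16.f256113 IH) (Lpn (LP (LK LD1_c1 LD2_c16 LD3_c1))))))
theorem f300854 : Led Lsl_et (LP (LK LD1_c2 LD2_c2 LD3_c37)) = (LP (LK LD1_c4 LD2_c10 LD3_c43)) :=
  Lre_e IH (LK LD1_c2 LD2_c2 LD3_c37) (LK LD1_c4 LD2_c10 LD3_c43) Lrfl Lrfl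
theorem f300855 : Led Lsl_df (LP (LK LD1_c2 LD2_c58 LD3_c41)) = (LP (LK LD1_c4 LD2_c10 LD3_c43)) :=
  Lgr Lrot70 (Lpr_et (K20.f283377 IH) (Lpe (K17.f274470 IH) (Lpe (f283237 IH) (Lpr_dt (K18.f300847 IH) (Lpr_et (f300854 IH) (Lpn (LP (LK LD1_c4 LD2_c10 LD3_c43))))))))
theorem f248340 : Led Lsl_gt (LP (LK LD1_c2 LD2_c36 LD3_c40)) = (LP (LK LD1_c5 LD2_c19 LD3_c59)) :=
  Lre_g IH (LK LD1_c2 LD2_c36 LD3_c40) (LK LD1_c5 LD2_c19 LD3_c59) Lrfl Lrfl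
theorem f325346 : Led Lsl_et (LP (LK LD1_c8 LD2_c34 LD3_c54)) = (LP (LK LD1_c10 LD2_c47 LD3_c59)) :=
  Lgr Lrot87 (Lpr_ef (f325342 IH) (Lpn (LP (LK LD1_c10 LD2_c47 LD3_c59))))
theorem f325387 : Led Lsl_df (LP (LK LD1_c5 LD2_c19 LD3_c59)) = (LP (LK LD1_c8 LD2_c34 LD3_c54)) :=
  Lgr Lrot168 (Lpe (f248340 IH) (Lpr_df (K14.f248308 IH) (Lpr_et (K12.f230959 IH) (Lpr_gf (K18.f300840 IH) (Lpe (K20.f300849 IH) (Lpe (f300855 IH) (Lpe (f315943 IH) (Lpr_df (f325362 IH) (Lpr_gf (f325383 IH) (Lpe (f325346 IH) (Lpn (LP (LK LD1_c8 LD2_c34 LD3_c54)))))))))))))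
theorem f307688 : Led Lsl_gt (LP (LK LD1_c4 LD2_c17 LD3_c61)) = (LP (LK LD1_c8 LD2_c34 LD3_c54)) :=
  Lre_g IH (LK LD1_c4 LD2_c17 LD3_c61) (LK LD1_c8 LD2_c34 LD3_c54) Lrfl Lrfl
theorem f300754 : Led Lsl_df (LP (LK LD1_c2 LD2_c24 LD3_c12)) = (LP (LK LD1_c2 LD2_c5 LD3_c61)) :=
  Lgr Lrot84 (Lpr_cf (K18.f300740 IH) (Lpe (K15.f266820 IH) (Lpr_gf (K18.f278171 IH) (Lpe (K14.f41973 IH) (Lpe (K17.f171913 IH) (Lpr_cf (K11.f199816 IH) (Lpr_gt (K11.f7852 IH) (Lpr_dt (K13.f7867 IH) (Lpr_gt (K13.f7874 IH) (Lpn (LP (LK LD1_c2 LD2_c5 LD3_c61))))))))))))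
theorem f267855 : Led Lsl_et (LP (LK LD1_c5 LD2_c16 LD3_c31)) = (LP (LK LD1_c5 LD2_c18 LD3_c25)) :=
  Lgr Lrot74 (Lpe (K19.f165962 IH) (Lpr_ef (K15.f267853 IH) (Lpe (K15.f185466 IH) (Lpn (LP (LK LD1_c5 LD2_c18 LD3_c25))))))
theorem f276791 : Led Lsl_et (LP (LK LD1_c4 LD2_c10 LD3_c51)) = (LP (LK LD1_c4 LD2_c16 LD3_c58)) :=
  Lgr Lrot71 (Lpe (K16.f276740 IH) (Lpr_ef (K16.f276787 IH) (Lpr_df (K15.f268064 IH) (Lpe (f267855 IH) (Lpe (K10.f169355 IH) (Lpn (LP (LK LD1_c4 LD2_c16 LD3_c58))))))))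
theorem f276795 : Led Lsl_ef (LP (LK LD1_c4 LD2_c10 LD3_c51)) = (LP (LK LD1_c4 LD2_c16 LD3_c58)) :=
  Lgr Lrot88 (Lpr_et (f276791 IH) (Lpn (LP (LK LD1_c4 LD2_c16 LD3_c58))))
theorem f325412 : Led Lsl_gt (LP (LK LD1_c5 LD2_c19 LD3_c59)) = (LP (LK LD1_c5 LD2_c16 LD3_c31)) :=
  Lgr Lrot139 (Lpr_df (f325387 IH) (Lpe (f307688 IH) (Lpe (K20.f300795 IH) (Lpe (K18.f300766 IH) (Lpe (K18.f300727 IH) (Lpr_df (f300754 IH) (Lpr_et (K16.f276719 IH) (Lpe (K16.f276741 IH) (Lpr_ef (f276795 IH) (Lpr_dt (K10.f169355 IH) (Lpn (LP (LK LD1_c5 LD2_c16 LD3_c31)))))))))))))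
theorem f255886 : Led Lsl_et (LP (LK LD1_c10 LD2_c29 LD3_c53)) = (LP (LK LD1_c5 LD2_c19 LD3_c59)) :=
  Lre_e IH (LK LD1_c10 LD2_c29 LD3_c53) (LK LD1_c5 LD2_c19 LD3_c59) Lrfl Lrfl
theorem f255883 : Led Lsl_et (LP (LK LD1_c2 LD2_c30 LD3_c23)) = (LP (LK LD1_c1 LD2_c12 LD3_c11)) :=
  Lre_e IH (LK LD1_c2 LD2_c30 LD3_c23) (LK LD1_c1 LD2_c12 LD3_c11) Lrfl Lrfl
theorem f255884 : Led Lsl_dt (LP (LK LD1_c2 LD2_c30 LD3_c23)) = (LP (LK LD1_c5 LD2_c6 LD3_c14)) :=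
  Lre_d IH (LK LD1_c2 LD2_c30 LD3_c23) (LK LD1_c5 LD2_c6 LD3_c14) Lrfl Lrfl
theorem f255885 : Led Lsl_gt (LP (LK LD1_c10 LD2_c3 LD3_c30)) = (LP (LK LD1_c5 LD2_c6 LD3_c14)) :=
  Lre_g IH (LK LD1_c10 LD2_c3 LD3_c30) (LK LD1_c5 LD2_c6 LD3_c14) Lrfl Lrfl
theorem f255887 : Led Lsl_df (LP (LK LD1_c10 LD2_c3 LD3_c30)) = (LP (LK LD1_c10 LD2_c29 LD3_c53)) :=
  Lgr Lrot170 (Lpr_gt (f255885 IH) (Lpe (f255884 IH) (Lpr_et (f255883 IH) (Lpr_gt (K10.f165298 IH) (Lpe (K14.f251026 IH) (Lpr_gt (K14.f255871 IH) (Lpe (K14.f248295 IH) (Lpr_et (K14.f248297 IH) (Lpr_gt (f248340 IH) (Lpe (f255886 IH) (Lpn (LP (LK LD1_c10 LD2_c29 LD3_c53)))))))))))))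
theorem f249248 : Led Lsl_ft (LP (LK LD1_c10 LD2_c29 LD3_c38)) = (LP (LK LD1_c5 LD2_c19 LD3_c52)) :=
  Lre_f IH (LK LD1_c10 LD2_c29 LD3_c38) (LK LD1_c5 LD2_c19 LD3_c52) Lrfl Lrfl
theorem f302793 : Led Lsl_gt (LP (LK LD1_c10 LD2_c29 LD3_c38)) = (LP (LK LD1_c10 LD2_c3 LD3_c30)) :=
  Lgr Lrot5 (Lpr_ft (f249248 IH) (Lpr_at (K19.f302787 IH) (Lpe (f255885 IH) (Lpn (LP (LK LD1_c10 LD2_c3 LD3_c30))))))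
theorem f249265 : Led Lsl_dt (LP (LK LD1_c5 LD2_c19 LD3_c53)) = (LP (LK LD1_c10 LD2_c29 LD3_c38)) :=
  Lre_d IH (LK LD1_c5 LD2_c19 LD3_c53) (LK LD1_c10 LD2_c29 LD3_c38) Lrfl Lrfl
theorem f325416 : Led Lsl_gf (LP (LK LD1_c5 LD2_c19 LD3_c53)) = (LP (LK LD1_c5 LD2_c6 LD3_c13)) :=
  Lgr Lrot138 (Lpr_dt (f249265 IH) (Lpr_gt (f302793 IH) (Lpr_df (f255887 IH) (Lpr_et (f255886 IH) (Lpr_gt (f325412 IH) (Lpr_ef (K19.f267849 IH) (Lpe (K15.f268064 IH) (Lpr_gt (K18.f276943 IH) (Lpr_df (K18.f293750 IH) (Lpe (K18.f293760 IH) (Lpn (LP (LK LD1_c5 LD2_c6 LD3_c13)))))))))))))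
theorem f325418 : Led Lsl_gt (LP (LK LD1_c5 LD2_c19 LD3_c53)) = (LP (LK LD1_c5 LD2_c5 LD3_c21)) :=
  Lgr Lrot46 (Lpr_gf (f325416 IH) (Lpr_ft (K18.f293783 IH) (Lpe (K18.f293818 IH) (Lpn (LP (LK LD1_c5 LD2_c5 LD3_c21))))))
theorem f249262 : Led Lsl_dt (LP (LK LD1_c10 LD2_c29 LD3_c38)) = (LP (LK LD1_c5 LD2_c19 LD3_c53)) :=
  Lre_d IH (LK LD1_c10 LD2_c29 LD3_c38) (LK LD1_c5 LD2_c19 LD3_c53) Lrfl Lrfl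
theorem f182283 : Led Lsl_gt (LP (LK LD1_c4 LD2_c27 LD3_c33)) = (LP (LK LD1_c8 LD2_c52 LD3_c56)) :=
  Lre_g IH (LK LD1_c4 LD2_c27 LD3_c33) (LK LD1_c8 LD2_c52 LD3_c56) Lrfl Lrfl
theorem f325590 : Led Lsl_et (LP (LK LD1_c10 LD2_c29 LD3_c38)) = (LP (LK LD1_c8 LD2_c52 LD3_c56)) :=
  Lgr Lrot122 (Lpr_dt (f249262 IH) (Lpr_gt (f325418 IH) (Lpr_df (K15.f242926 IH) (Lpr_et (K18.f220806 IH) (Lpr_gt (K12.f220796 IH) (Lpr_dt (K14.f41570 IH) (Lpr_gt (K15.f174936 IH) (Lpe (K15.f41776 IH) (Lpr_et (K15.f41779 IH) (Lpr_gt (f182283 IH) (Lpn (LP (LK LD1_c8 LD2_c52 LD3_c56)))))))))))))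
theorem f249336 : Led Lsl_ft (LP (LK LD1_c5 LD2_c19 LD3_c55)) = (LP (LK LD1_c2 LD2_c36 LD3_c37)) :=
  Lre_f IH (LK LD1_c5 LD2_c19 LD3_c55) (LK LD1_c2 LD2_c36 LD3_c37) Lrfl Lrfl
theorem f325598 : Led Lsl_ff (LP (LK LD1_c4 LD2_c28 LD3_c2)) = (LP (LK LD1_c8 LD2_c52 LD3_c56)) :=
  Lgr Lrot72 (Lpe (K20.f290166 IH) (Lpr_ft (f249336 IH) (Lpr_et (K16.f249235 IH) (Lpr_ft (K19.f249326 IH) (Lpr_et (f325590 IH) (Lpn (LP (LK LD1_c8 LD2_c52 LD3_c56))))))))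
theorem f325607 : Led Lsl_ft (LP (LK LD1_c4 LD2_c28 LD3_c2)) = (LP (LK LD1_c8 LD2_c52 LD3_c56)) :=
  Lgr Lrot48 (Lpr_ff (f325598 IH) (Lpn (LP (LK LD1_c8 LD2_c52 LD3_c56))))
theorem f284123 : Led Lsl_ft (LP (LK LD1_c8 LD2_c34 LD3_c17)) = (LP (LK LD1_c4 LD2_c17 LD3_c38)) :=
  Lre_f IH (LK LD1_c8 LD2_c34 LD3_c17) (LK LD1_c4 LD2_c17 LD3_c38) Lrfl Lrfl
theorem f325611 : Led Lsl_df (LP (LK LD1_c8 LD2_c34 LD3_c17)) = (LP (LK LD1_c8 LD2_c52 LD3_c56)) :=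
  Lgr Lrot78 (Lpr_ft (f284123 IH) (Lpe (K17.f284116 IH) (Lpr_ft (f325607 IH) (Lpn (LP (LK LD1_c8 LD2_c52 LD3_c56))))))
theorem f256006 : Led Lsl_gt (LP (LK LD1_c4 LD2_c17 LD3_c44)) = (LP (LK LD1_c8 LD2_c34 LD3_c17)) :=
  Lre_g IH (LK LD1_c4 LD2_c17 LD3_c44) (LK LD1_c8 LD2_c34 LD3_c17) Lrfl Lrfl
theorem f325596 : Led Lsl_ef (LP (LK LD1_c10 LD2_c29 LD3_c38)) = (LP (LK LD1_c8 LD2_c52 LD3_c56)) :=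
  Lgr Lrot88 (Lpr_et (f325590 IH) (Lpn (LP (LK LD1_c8 LD2_c52 LD3_c56))))
theorem f325620 : Led Lsl_et (LP (LK LD1_c5 LD2_c28 LD3_c24)) = (LP (LK LD1_c10 LD2_c3 LD3_c30)) :=
  Lgr Lrot122 (Lpr_dt (f278983 IH) (Lpe (f325383 IH) (Lpe (f325366 IH) (Lpr_et (f325368 IH) (Lpr_gt (f325379 IH) (Lpr_dt (K19.f256003 IH) (Lpr_gt (f256006 IH) (Lpr_df (f325611 IH) (Lpe (f325596 IH) (Lpr_gt (f302793 IH) (Lpn (LP (LK LD1_c10 LD2_c3 LD3_c30)))))))))))))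
theorem f264912 : Led Lsl_et (LP (LK LD1_c2 LD2_c30 LD3_c24)) = (LP (LK LD1_c5 LD2_c6 LD3_c14)) :=
  Lre_e IH (LK LD1_c2 LD2_c30 LD3_c24) (LK LD1_c5 LD2_c6 LD3_c14) Lrfl Lrfl
theorem f274553 : Led Lsl_et (LP (LK LD1_c1 LD2_c25 LD3_c4)) = (LP (LK LD1_c2 LD2_c58 LD3_c41)) :=
  Lre_e IH (LK LD1_c1 LD2_c25 LD3_c4) (LK LD1_c2 LD2_c58 LD3_c41) Lrfl Lrfl
theorem f274554 : Led Lsl_gt (LP (LK LD1_c2 LD2_c58 LD3_c41)) = (LP (LK LD1_c6 LD2_c4 LD3_c61)) :=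
  Lre_g IH (LK LD1_c2 LD2_c58 LD3_c41) (LK LD1_c6 LD2_c4 LD3_c61) Lrfl Lrfl
theorem f274555 : Led Lsl_dt (LP (LK LD1_c6 LD2_c4 LD3_c61)) = (LP (LK LD1_c11 LD2_c53 LD3_c23)) :=
  Lre_d IH (LK LD1_c6 LD2_c4 LD3_c61) (LK LD1_c11 LD2_c53 LD3_c23) Lrfl Lrfl
theorem f325624 : Led Lsl_gf (LP (LK LD1_c10 LD2_c47 LD3_c59)) = (LP (LK LD1_c11 LD2_c53 LD3_c23)) :=
  Lgr Lrot134 (Lpe (f278983 IH) (Lpr_et (f325620 IH) (Lpr_gt (f255885 IH) (Lpe (f264912 IH) (Lpr_dt (K10.f184635 IH) (Lpe (K16.f274545 IH) (Lpr_df (K17.f274470 IH) (Lpr_et (f274553 IH) (Lpr_gt (f274554 IH) (Lpr_dt (f274555 IH) (Lpn (LP (LK LD1_c11 LD2_c53 LD3_c23)))))))))))))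
theorem f254397 : Led Lsl_gt (LP (LK LD1_c2 LD2_c37 LD3_c29)) = (LP (LK LD1_c5 LD2_c21 LD3_c51)) :=
  Lre_g IH (LK LD1_c2 LD2_c37 LD3_c29) (LK LD1_c5 LD2_c21 LD3_c51) Lrfl Lrfl
theorem f254401 : Led Lsl_dt (LP (LK LD1_c10 LD2_c33 LD3_c61)) = (LP (LK LD1_c5 LD2_c21 LD3_c51)) :=
  Lre_d IH (LK LD1_c10 LD2_c33 LD3_c61) (LK LD1_c5 LD2_c21 LD3_c51) Lrfl Lrfl
theorem f325629 : Led Lsl_et (LP (LK LD1_c10 LD2_c33 LD3_c61)) = (LP (LK LD1_c11 LD2_c53 LD3_c23)) :=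
  Lgr Lrot121 (Lpr_dt (f254401 IH) (Lpe (f254397 IH) (Lpr_df (K18.f276736 IH) (Lpr_et (K17.f7875 IH) (Lpe (K13.f7874 IH) (Lpe (K12.f7814 IH) (Lpr_dt (K20.f7741 IH) (Lpe (f7825 IH) (Lpe (f7826 IH) (Lpr_gf (f325624 IH) (Lpn (LP (LK LD1_c11 LD2_c53 LD3_c23)))))))))))))
theorem f325631 : Led Lsl_ef (LP (LK LD1_c10 LD2_c33 LD3_c61)) = (LP (LK LD1_c11 LD2_c53 LD3_c23)) :=
  Lgr Lrot88 (Lpr_et (f325629 IH) (Lpn (LP (LK LD1_c11 LD2_c53 LD3_c23))))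
theorem f315959 : Led Lsl_dt (LP (LK LD1_c11 LD2_c53 LD3_c23)) = (LP (LK LD1_c6 LD2_c4 LD3_c61)) :=
  Lre_d IH (LK LD1_c11 LD2_c53 LD3_c23) (LK LD1_c6 LD2_c4 LD3_c61) Lrfl Lrfl
theorem f276798 : Led Lsl_et (LP (LK LD1_c2 LD2_c2 LD3_c39)) = (LP (LK LD1_c0 LD2_c58 LD3_c13)) :=
  Lre_e IH (LK LD1_c2 LD2_c2 LD3_c39) (LK LD1_c0 LD2_c58 LD3_c13) Lrfl Lrfl
theorem f325634 : Led Lsl_gt (LP (LK LD1_c10 LD2_c33 LD3_c61)) = (LP (LK LD1_c15 LD2_c44 LD3_c1)) :=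
  Lgr Lrot137 (Lpr_ef (f325631 IH) (Lpr_dt (f315959 IH) (Lpe (f274554 IH) (Lpr_df (f300855 IH) (Lpr_et (K20.f300849 IH) (Lpe (K18.f167210 IH) (Lpe (f276798 IH) (Lpr_dt (K18.f226954 IH) (Lpe (K18.f284172 IH) (Lpe (K20.f297808 IH) (Lpn (LP (LK LD1_c15 LD2_c44 LD3_c1)))))))))))))
theorem f254403 : Led Lsl_dt (LP (LK LD1_c5 LD2_c21 LD3_c51)) = (LP (LK LD1_c10 LD2_c33 LD3_c61)) :=
  Lre_d IH (LK LD1_c5 LD2_c21 LD3_c51) (LK LD1_c10 LD2_c33 LD3_c61) Lrfl Lrfl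
theorem f256306 : Led Lsl_gt (LP (LK LD1_c10 LD2_c16 LD3_c47)) = (LP (LK LD1_c5 LD2_c13 LD3_c13)) :=
  Lre_g IH (LK LD1_c10 LD2_c16 LD3_c47) (LK LD1_c5 LD2_c13 LD3_c13) Lrfl Lrfl
theorem f325638 : Led Lsl_ef (LP (LK LD1_c10 LD2_c16 LD3_c47)) = (LP (LK LD1_c8 LD2_c21 LD3_c37)) :=
  Lgr Lrot114 (Lpr_gt (f256306 IH) (Lpe (K15.f246146 IH) (Lpr_dt (K9.f183918 IH) (Lpe (K14.f256298 IH) (Lpr_df (K14.f253291 IH) (Lpr_et (K16.f253364 IH) (Lpr_gt (f254397 IH) (Lpr_dt (f254403 IH) (Lpr_gt (f325634 IH) (Lpe (K20.f297810 IH) (Lpn (LP (LK LD1_c8 LD2_c21 LD3_c37)))))))))))))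
theorem f325640 : Led Lsl_et (LP (LK LD1_c10 LD2_c16 LD3_c47)) = (LP (LK LD1_c8 LD2_c21 LD3_c37)) :=
  Lgr Lrot87 (Lpr_ef (f325638 IH) (Lpn (LP (LK LD1_c8 LD2_c21 LD3_c37))))
theorem f289016 : Led Lsl_et (LP (LK LD1_c2 LD2_c2 LD3_c40)) = (LP (LK LD1_c4 LD2_c10 LD3_c50)) :=
  Lre_e IH (LK LD1_c2 LD2_c2 LD3_c40) (LK LD1_c4 LD2_c10 LD3_c50) Lrfl Lrfl
theorem f258260 : Led Lsl_et (LP (LK LD1_c0 LD2_c35 LD3_c18)) = (LP (LK LD1_c1 LD2_c16 LD3_c15)) :=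
  Lre_e IH (LK LD1_c0 LD2_c35 LD3_c18) (LK LD1_c1 LD2_c16 LD3_c15) Lrfl Lrfl
theorem f195906 : Led Lsl_gt (LP (LK LD1_c1 LD2_c16 LD3_c15)) = (LP (LK LD1_c2 LD2_c38 LD3_c44)) :=
  Lre_g IH (LK LD1_c1 LD2_c16 LD3_c15) (LK LD1_c2 LD2_c38 LD3_c44) Lrfl Lrfl
theorem f288622 : Led Lsl_dt (LP (LK LD1_c2 LD2_c38 LD3_c44)) = (LP (LK LD1_c5 LD2_c24 LD3_c24)) :=
  Lre_d IH (LK LD1_c2 LD2_c38 LD3_c44) (LK LD1_c5 LD2_c24 LD3_c24) Lrfl Lrfl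
theorem f325719 : Led Lsl_gt (LP (LK LD1_c5 LD2_c24 LD3_c24)) = (LP (LK LD1_c10 LD2_c39 LD3_c34)) :=
  Lre_g IH (LK LD1_c5 LD2_c24 LD3_c24) (LK LD1_c10 LD2_c39 LD3_c34) Lrfl Lrfl
theorem f325720 : Led Lsl_dt (LP (LK LD1_c10 LD2_c16 LD3_c47)) = (LP (LK LD1_c10 LD2_c39 LD3_c34)) :=
  Lgr Lrot56 (Lpr_et (f325640 IH) (Lpr_gt (K18.f284172 IH) (Lpe (f289016 IH) (Lpr_dt (K12.f187026 IH) (Lpe (K15.f246634 IH) (Lpe (K15.f196569 IH) (Lpr_et (f258260 IH) (Lpr_gt (f195906 IH) (Lpr_dt (f288622 IH) (Lpr_gt (f325719 IH) (Lpn (LP (LK LD1_c10 LD2_c39 LD3_c34)))))))))))))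
theorem f248315 : Led Lsl_gt (LP (LK LD1_c4 LD2_c27 LD3_c25)) = (LP (LK LD1_c8 LD2_c52 LD3_c35)) :=
  Lre_g IH (LK LD1_c4 LD2_c27 LD3_c25) (LK LD1_c8 LD2_c52 LD3_c35) Lrfl Lrfl
theorem f302810 : Led Lsl_dt (LP (LK LD1_c8 LD2_c52 LD3_c35)) = (LP (LK LD1_c8 LD2_c22 LD3_c34)) :=
  Lgr Lrot171 (Lpe (f248315 IH) (Lpe (K14.f247429 IH) (Lpe (K14.f247426 IH) (Lpe (K14.f230939 IH) (Lpe (K17.f253458 IH) (Lpr_et (K18.f253461 IH) (Lpr_gf (K19.f302796 IH) (Lpe (K19.f300680 IH) (Lpr_dt (K18.f200166 IH) (Lpe (K20.f200261 IH) (Lpn (LP (LK LD1_c8 LD2_c22 LD3_c34)))))))))))))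
theorem f325724 : Led Lsl_ef (LP (LK LD1_c8 LD2_c52 LD3_c35)) = (LP (LK LD1_c10 LD2_c39 LD3_c34)) :=
  Lgr Lrot73 (Lpr_dt (f302810 IH) (Lpe (K20.f310203 IH) (Lpr_dt (K20.f297808 IH) (Lpe (f325638 IH) (Lpr_dt (f325720 IH) (Lpn (LP (LK LD1_c10 LD2_c39 LD3_c34))))))))
theorem f325726 : Led Lsl_et (LP (LK LD1_c8 LD2_c52 LD3_c35)) = (LP (LK LD1_c10 LD2_c39 LD3_c34)) :=
  Lgr Lrot87 (Lpr_ef (f325724 IH) (Lpn (LP (LK LD1_c10 LD2_c39 LD3_c34))))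
theorem f294188 : Led Lsl_gt (LP (LK LD1_c2 LD2_c11 LD3_c15)) = (LP (LK LD1_c4 LD2_c28 LD3_c11)) :=
  Lre_g IH (LK LD1_c2 LD2_c11 LD3_c15) (LK LD1_c4 LD2_c28 LD3_c11) Lrfl Lrfl
theorem f294189 : Led Lsl_dt (LP (LK LD1_c8 LD2_c54 LD3_c30)) = (LP (LK LD1_c4 LD2_c28 LD3_c11)) :=
  Lre_d IH (LK LD1_c8 LD2_c54 LD3_c30) (LK LD1_c4 LD2_c28 LD3_c11) Lrfl Lrfl
theorem f325728 : Led Lsl_et (LP (LK LD1_c8 LD2_c54 LD3_c30)) = (LP (LK LD1_c5 LD2_c24 LD3_c24)) :=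
  Lgr Lrot185 (Lpr_dt (f294189 IH) (Lpe (f294188 IH) (Lpe (K18.f253460 IH) (Lpr_gf (K19.f302796 IH) (Lpe (K19.f300680 IH) (Lpr_dt (K18.f200166 IH) (Lpe (K20.f200261 IH) (Lpe (f302810 IH) (Lpr_et (f325726 IH) (Lpe (f325719 IH) (Lpn (LP (LK LD1_c5 LD2_c24 LD3_c24)))))))))))))
theorem f325757 : Led Lsl_ef (LP (LK LD1_c8 LD2_c54 LD3_c30)) = (LP (LK LD1_c5 LD2_c24 LD3_c24)) :=
  Lgr Lrot88 (Lpr_et (f325728 IH) (Lpn (LP (LK LD1_c5 LD2_c24 LD3_c24))))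
theorem f288632 : Led Lsl_dt (LP (LK LD1_c5 LD2_c24 LD3_c24)) = (LP (LK LD1_c2 LD2_c38 LD3_c44)) :=
  Lre_d IH (LK LD1_c5 LD2_c24 LD3_c24) (LK LD1_c2 LD2_c38 LD3_c44) Lrfl Lrfl
theorem f195909 : Led Lsl_dt (LP (LK LD1_c2 LD2_c38 LD3_c46)) = (LP (LK LD1_c1 LD2_c16 LD3_c15)) :=
  Lre_d IH (LK LD1_c2 LD2_c38 LD3_c46) (LK LD1_c1 LD2_c16 LD3_c15) Lrfl Lrfl
theorem f306385 : Led Lsl_bt (LP (LK LD1_c18 LD2_c9 LD3_c17)) = (LP (LK LD1_c9 LD2_c55 LD3_c6)) :=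
  Lre_b IH (LK LD1_c18 LD2_c9 LD3_c17) (LK LD1_c9 LD2_c55 LD3_c6) Lrfl Lrfl
theorem f195905 : Led Lsl_ct (LP (LK LD1_c2 LD2_c38 LD3_c46)) = (LP (LK LD1_c5 LD2_c24 LD3_c28)) :=
  Lre_c IH (LK LD1_c2 LD2_c38 LD3_c46) (LK LD1_c5 LD2_c24 LD3_c28) Lrfl Lrfl
theorem f195911 : Led Lsl_bt (LP (LK LD1_c5 LD2_c24 LD3_c28)) = (LP (LK LD1_c10 LD2_c39 LD3_c38)) :=
  Lre_b IH (LK LD1_c5 LD2_c24 LD3_c28) (LK LD1_c10 LD2_c39 LD3_c38) Lrfl Lrfl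
theorem f306476 : Led Lsl_cf (LP (LK LD1_c18 LD2_c9 LD3_c17)) = (LP (LK LD1_c10 LD2_c39 LD3_c38)) :=
  Lgr Lrot97 (Lpr_bt (f306385 IH) (Lpr_ct (K19.f306415 IH) (Lpr_bt (K19.f195910 IH) (Lpr_ct (f195905 IH) (Lpr_bt (f195911 IH) (Lpn (LP (LK LD1_c10 LD2_c39 LD3_c38))))))))
theorem f165335 : Led Lsl_et (LP (LK LD1_c18 LD2_c9 LD3_c17)) = (LP (LK LD1_c9 LD2_c55 LD3_c4)) :=
  Lre_e IH (LK LD1_c18 LD2_c9 LD3_c17) (LK LD1_c9 LD2_c55 LD3_c4) Lrfl Lrfl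
theorem f165312 : Led Lsl_bt (LP (LK LD1_c5 LD2_c2 LD3_c10)) = (LP (LK LD1_c9 LD2_c55 LD3_c4)) :=
  Lre_b IH (LK LD1_c5 LD2_c2 LD3_c10) (LK LD1_c9 LD2_c55 LD3_c4) Lrfl Lrfl
theorem f165315 : Led Lsl_bt (LP (LK LD1_c10 LD2_c3 LD3_c6)) = (LP (LK LD1_c5 LD2_c6 LD3_c4)) :=
  Lre_b IH (LK LD1_c10 LD2_c3 LD3_c6) (LK LD1_c5 LD2_c6 LD3_c4) Lrfl Lrfl
theorem f165316 : Led Lsl_ct (LP (LK LD1_c9 LD2_c55 LD3_c4)) = (LP (LK LD1_c10 LD2_c3 LD3_c6)) :=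
  Lgr Lrot83 (Lpe (f165312 IH) (Lpr_cf (K11.f165300 IH) (Lpe (K15.f165313 IH) (Lpe (K15.f165314 IH) (Lpe (f165315 IH) (Lpn (LP (LK LD1_c10 LD2_c3 LD3_c6))))))))
theorem f306508 : Led Lsl_et (LP (LK LD1_c10 LD2_c3 LD3_c6)) = (LP (LK LD1_c10 LD2_c39 LD3_c38)) :=
  Lgr Lrot158 (Lpe (f165316 IH) (Lpe (f165335 IH) (Lpr_cf (f306476 IH) (Lpn (LP (LK LD1_c10 LD2_c39 LD3_c38))))))
theorem f306513 : Led Lsl_ef (LP (LK LD1_c10 LD2_c3 LD3_c6)) = (LP (LK LD1_c10 LD2_c39 LD3_c38)) :=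
  Lgr Lrot88 (Lpr_et (f306508 IH) (Lpn (LP (LK LD1_c10 LD2_c39 LD3_c38))))
theorem f306515 : Led Lsl_et (LP (LK LD1_c5 LD2_c6 LD3_c4)) = (LP (LK LD1_c5 LD2_c24 LD3_c28)) :=
  Lgr Lrot74 (Lpe (f165315 IH) (Lpr_ef (f306513 IH) (Lpe (f195911 IH) (Lpn (LP (LK LD1_c5 LD2_c24 LD3_c28))))))
theorem f195902 : Led Lsl_ct (LP (LK LD1_c5 LD2_c24 LD3_c28)) = (LP (LK LD1_c2 LD2_c38 LD3_c46)) :=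
  Lre_c IH (LK LD1_c5 LD2_c24 LD3_c28) (LK LD1_c2 LD2_c38 LD3_c46) Lrfl Lrfl
theorem f306517 : Led Lsl_ef (LP (LK LD1_c2 LD2_c30 LD3_c20)) = (LP (LK LD1_c2 LD2_c38 LD3_c46)) :=
  Lgr Lrot28 (Lpr_ct (K10.f165307 IH) (Lpr_et (f306515 IH) (Lpr_ct (f195902 IH) (Lpn (LP (LK LD1_c2 LD2_c38 LD3_c46))))))
theorem f325759 : Led Lsl_gt (LP (LK LD1_c8 LD2_c54 LD3_c30)) = (LP (LK LD1_c10 LD2_c29 LD3_c53)) :=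
  Lgr Lrot137 (Lpr_ef (f325757 IH) (Lpr_dt (f288632 IH) (Lpe (f195906 IH) (Lpe (f195909 IH) (Lpe (f306517 IH) (Lpe (K10.f165298 IH) (Lpe (f255883 IH) (Lpr_dt (f255884 IH) (Lpe (f255885 IH) (Lpr_df (f255887 IH) (Lpn (LP (LK LD1_c10 LD2_c29 LD3_c53)))))))))))))
theorem f302800 : Led Lsl_dt (LP (LK LD1_c4 LD2_c28 LD3_c11)) = (LP (LK LD1_c8 LD2_c54 LD3_c30)) :=
  Lre_d IH (LK LD1_c4 LD2_c28 LD3_c11) (LK LD1_c8 LD2_c54 LD3_c30) Lrfl Lrfl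
theorem f278762 : Led Lsl_gt (LP (LK LD1_c4 LD2_c28 LD3_c10)) = (LP (LK LD1_c8 LD2_c54 LD3_c25)) :=
  Lre_g IH (LK LD1_c4 LD2_c28 LD3_c10) (LK LD1_c8 LD2_c54 LD3_c25) Lrfl Lrfl
theorem f278763 : Led Lsl_dt (LP (LK LD1_c8 LD2_c54 LD3_c25)) = (LP (LK LD1_c16 LD2_c39 LD3_c47)) :=
  Lre_d IH (LK LD1_c8 LD2_c54 LD3_c25) (LK LD1_c16 LD2_c39 LD3_c47) Lrfl Lrfl
theorem f278764 : Led Lsl_gt (LP (LK LD1_c16 LD2_c39 LD3_c47)) = (LP (LK LD1_c26 LD2_c38 LD3_c12)) :=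
  Lre_g IH (LK LD1_c16 LD2_c39 LD3_c47) (LK LD1_c26 LD2_c38 LD3_c12) Lrfl Lrfl
theorem f255895 : Led Lsl_ct (LP (LK LD1_c18 LD2_c22 LD3_c10)) = (LP (LK LD1_c10 LD2_c3 LD3_c30)) :=
  Lre_c IH (LK LD1_c18 LD2_c22 LD3_c10) (LK LD1_c10 LD2_c3 LD3_c30) Lrfl Lrfl
theorem f325763 : Led Lsl_dt (LP (LK LD1_c26 LD2_c38 LD3_c12)) = (LP (LK LD1_c18 LD2_c22 LD3_c10)) :=
  Lgr Lrot105 (Lpe (f278764 IH) (Lpe (f278763 IH) (Lpe (f278762 IH) (Lpe (K18.f292821 IH) (Lpr_gt (f294188 IH) (Lpr_dt (f302800 IH) (Lpr_gt (f325759 IH) (Lpe (f255887 IH) (Lpe (f255895 IH) (Lpn (LP (LK LD1_c18 LD2_c22 LD3_c10))))))))))))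
theorem f325765 : Led Lsl_df (LP (LK LD1_c26 LD2_c38 LD3_c12)) = (LP (LK LD1_c18 LD2_c22 LD3_c10)) :=
  Lgr Lrot38 (Lpr_dt (f325763 IH) (Lpn (LP (LK LD1_c18 LD2_c22 LD3_c10))))
theorem f276509 : Led Lsl_et (LP (LK LD1_c2 LD2_c11 LD3_c14)) = (LP (LK LD1_c4 LD2_c28 LD3_c10)) :=
  Lre_e IH (LK LD1_c2 LD2_c11 LD3_c14) (LK LD1_c4 LD2_c28 LD3_c10) Lrfl Lrfl
theorem f254846 : Led Lsl_et (LP (LK LD1_c8 LD2_c7 LD3_c15)) = (LP (LK LD1_c15 LD2_c17 LD3_c34)) :=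
  Lre_e IH (LK LD1_c8 LD2_c7 LD3_c15) (LK LD1_c15 LD2_c17 LD3_c34) Lrfl Lrfl
theorem f7828 : Led Lsl_ct (LP (LK LD1_c10 LD2_c47 LD3_c58)) = (LP (LK LD1_c5 LD2_c28 LD3_c24)) :=
  Lre_c IH (LK LD1_c10 LD2_c47 LD3_c58) (LK LD1_c5 LD2_c28 LD3_c24) Lrfl Lrfl
theorem f255889 : Led Lsl_ct (LP (LK LD1_c10 LD2_c3 LD3_c30)) = (LP (LK LD1_c18 LD2_c22 LD3_c10)) :=
  Lre_c IH (LK LD1_c10 LD2_c3 LD3_c30) (LK LD1_c18 LD2_c22 LD3_c10) Lrfl Lrfl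
theorem f325622 : Led Lsl_ef (LP (LK LD1_c10 LD2_c47 LD3_c58)) = (LP (LK LD1_c18 LD2_c22 LD3_c10)) :=
  Lgr Lrot28 (Lpr_ct (f7828 IH) (Lpr_et (f325620 IH) (Lpr_ct (f255889 IH) (Lpn (LP (LK LD1_c18 LD2_c22 LD3_c10))))))
theorem f325770 : Led Lsl_gf (LP (LK LD1_c15 LD2_c17 LD3_c34)) = (LP (LK LD1_c10 LD2_c47 LD3_c58)) :=
  Lgr Lrot141 (Lpe (f254846 IH) (Lpe (K17.f278735 IH) (Lpr_gt (K17.f223201 IH) (Lpe (K16.f223376 IH) (Lpr_et (f276509 IH) (Lpr_gt (f278762 IH) (Lpr_dt (f278763 IH) (Lpr_gt (f278764 IH) (Lpr_df (f325765 IH) (Lpe (f325622 IH) (Lpn (LP (LK LD1_c10 LD2_c47 LD3_c58)))))))))))))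
theorem f232190 : Led Lsl_bt (LP (LK LD1_c15 LD2_c34 LD3_c54)) = (LP (LK LD1_c8 LD2_c17 LD3_c10)) :=
  Lre_b IH (LK LD1_c15 LD2_c34 LD3_c54) (LK LD1_c8 LD2_c17 LD3_c10) Lrfl Lrfl
theorem f322714 : Led Lsl_bf (LP (LK LD1_c15 LD2_c34 LD3_c55)) = (LP (LK LD1_c11 LD2_c8 LD3_c47)) :=
  Lgr Lrot24 (Lpr_bt (K20.f322712 IH) (Lpn (LP (LK LD1_c11 LD2_c8 LD3_c47))))
theorem f7830 : Led Lsl_ct (LP (LK LD1_c5 LD2_c28 LD3_c24)) = (LP (LK LD1_c10 LD2_c47 LD3_c58)) :=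
  Lre_c IH (LK LD1_c5 LD2_c28 LD3_c24) (LK LD1_c10 LD2_c47 LD3_c58) Lrfl Lrfl
theorem f325779 : Led Lsl_ct (LP (LK LD1_c11 LD2_c8 LD3_c47)) = (LP (LK LD1_c15 LD2_c44 LD3_c2)) :=
  Lgr Lrot64 (Lpe (f322714 IH) (Lpe (K19.f232197 IH) (Lpe (f232190 IH) (Lpe (K14.f254833 IH) (Lpr_gf (f325770 IH) (Lpe (f7830 IH) (Lpe (f278980 IH) (Lpr_bf (K17.f289002 IH) (Lpr_ct (K17.f276860 IH) (Lpe (K16.f276858 IH) (Lpn (LP (LK LD1_c15 LD2_c44 LD3_c2)))))))))))))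
theorem f325839 : Led Lsl_bt (LP (LK LD1_c8 LD2_c7 LD3_c24)) = (LP (LK LD1_c5 LD2_c28 LD3_c24)) :=
  Lgr Lrot92 (Lpr_ct (K18.f299188 IH) (Lpr_gt (K18.f200461 IH) (Lpe (K18.f200483 IH) (Lpr_bt (K19.f200519 IH) (Lpr_gt (K20.f200536 IH) (Lpr_ct (f325779 IH) (Lpr_gt (K16.f276858 IH) (Lpe (K17.f276860 IH) (Lpe (K17.f289002 IH) (Lpr_gt (f278980 IH) (Lpn (LP (LK LD1_c5 LD2_c28 LD3_c24)))))))))))))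
theorem f245171 : Led Lsl_gt (LP (LK LD1_c8 LD2_c26 LD3_c34)) = (LP (LK LD1_c15 LD2_c51 LD3_c21)) :=
  Lre_g IH (LK LD1_c8 LD2_c26 LD3_c34) (LK LD1_c15 LD2_c51 LD3_c21) Lrfl Lrfl
theorem f286122 : Led Lsl_gf (LP (LK LD1_c10 LD2_c50 LD3_c42)) = (LP (LK LD1_c15 LD2_c51 LD3_c21)) :=
  Lgr Lrot76 (Lpr_af (K17.f286114 IH) (Lpe (K17.f245167 IH) (Lpr_gt (f245171 IH) (Lpn (LP (LK LD1_c15 LD2_c51 LD3_c21))))))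
theorem f323482 : Led Lsl_gt (LP (LK LD1_c4 LD2_c8 LD3_c7)) = (LP (LK LD1_c2 LD2_c43 LD3_c27)) :=
  Lgr Lrot5 (Lpr_ft (K12.f217171 IH) (Lpe (K12.f217160 IH) (Lpr_gf (f323480 IH) (Lpn (LP (LK LD1_c2 LD2_c43 LD3_c27))))))
theorem f191217 : Led Lsl_ff (LP (LK LD1_c8 LD2_c11 LD3_c25)) = (LP (LK LD1_c4 LD2_c7 LD3_c51)) :=
  Lgr Lrot3 (Lpr_ft (K11.f191208 IH) (Lpn (LP (LK LD1_c4 LD2_c7 LD3_c51))))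
theorem f191200 : Led Lsl_bt (LP (LK LD1_c8 LD2_c11 LD3_c25)) = (LP (LK LD1_c15 LD2_c25 LD3_c9)) :=
  Lre_b IH (LK LD1_c8 LD2_c11 LD3_c25) (LK LD1_c15 LD2_c25 LD3_c9) Lrfl Lrfl
theorem f49279 : Led Lsl_bt (LP (LK LD1_c8 LD2_c15 LD3_c44)) = (LP (LK LD1_c4 LD2_c7 LD3_c51)) :=
  Lre_b IH (LK LD1_c8 LD2_c15 LD3_c44) (LK LD1_c4 LD2_c7 LD3_c51) Lrfl Lrfl
theorem f191219 : Led Lsl_ft (LP (LK LD1_c15 LD2_c25 LD3_c9)) = (LP (LK LD1_c8 LD2_c15 LD3_c44)) :=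
  Lgr Lrot75 (Lpe (f191200 IH) (Lpr_ff (f191217 IH) (Lpe (f49279 IH) (Lpn (LP (LK LD1_c8 LD2_c15 LD3_c44))))))
theorem f49408 : Led Lsl_ft (LP (LK LD1_c4 LD2_c8 LD3_c4)) = (LP (LK LD1_c8 LD2_c16 LD3_c15)) :=
  Lre_f IH (LK LD1_c4 LD2_c8 LD3_c4) (LK LD1_c8 LD2_c16 LD3_c15) Lrfl Lrfl
theorem f191224 : Led Lsl_cf (LP (LK LD1_c15 LD2_c25 LD3_c9)) = (LP (LK LD1_c8 LD2_c16 LD3_c15)) :=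
  Lgr Lrot108 (Lpr_ft (f191219 IH) (Lpr_ct (K9.f49281 IH) (Lpr_ft (f49408 IH) (Lpn (LP (LK LD1_c8 LD2_c16 LD3_c15))))))
theorem f191233 : Led Lsl_et (LP (LK LD1_c15 LD2_c25 LD3_c9)) = (LP (LK LD1_c25 LD2_c17 LD3_c25)) :=
  Lre_e IH (LK LD1_c15 LD2_c25 LD3_c9) (LK LD1_c25 LD2_c17 LD3_c25) Lrfl Lrfl
theorem f49303 : Led Lsl_et (LP (LK LD1_c15 LD2_c33 LD3_c3)) = (LP (LK LD1_c8 LD2_c16 LD3_c15)) :=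
  Lre_e IH (LK LD1_c15 LD2_c33 LD3_c3) (LK LD1_c8 LD2_c16 LD3_c15) Lrfl Lrfl
theorem f191234 : Led Lsl_ct (LP (LK LD1_c25 LD2_c17 LD3_c25)) = (LP (LK LD1_c15 LD2_c33 LD3_c3)) :=
  Lgr Lrot15 (Lpe (f191233 IH) (Lpr_cf (f191224 IH) (Lpe (f49303 IH) (Lpn (LP (LK LD1_c15 LD2_c33 LD3_c3))))))
theorem f191238 : Led Lsl_bt (LP (LK LD1_c15 LD2_c25 LD3_c10)) = (LP (LK LD1_c25 LD2_c17 LD3_c25)) :=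
  Lre_b IH (LK LD1_c15 LD2_c25 LD3_c10) (LK LD1_c25 LD2_c17 LD3_c25) Lrfl Lrfl
theorem f49765 : Led Lsl_bt (LP (LK LD1_c15 LD2_c33 LD3_c3)) = (LP (LK LD1_c8 LD2_c16 LD3_c21)) :=
  Lre_b IH (LK LD1_c15 LD2_c33 LD3_c3) (LK LD1_c8 LD2_c16 LD3_c21) Lrfl Lrfl
theorem f191239 : Led Lsl_cf (LP (LK LD1_c15 LD2_c25 LD3_c10)) = (LP (LK LD1_c8 LD2_c15 LD3_c46)) :=
  Lgr Lrot97 (Lpr_bt (f191238 IH) (Lpr_ct (f191234 IH) (Lpr_bt (f49765 IH) (Lpr_ct (K9.f50099 IH) (Lpr_bt (K12.f50094 IH) (Lpn (LP (LK LD1_c8 LD2_c15 LD3_c46))))))))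
theorem f55270 : Led Lsl_ct (LP (LK LD1_c4 LD2_c55 LD3_c51)) = (LP (LK LD1_c9 LD2_c43 LD3_c23)) :=
  Lre_c IH (LK LD1_c4 LD2_c55 LD3_c51) (LK LD1_c9 LD2_c43 LD3_c23) Lrfl Lrfl
theorem f324043 : Led Lsl_gf (LP (LK LD1_c15 LD2_c25 LD3_c10)) = (LP (LK LD1_c9 LD2_c43 LD3_c23)) :=
  Lgr Lrot129 (Lpr_cf (f191239 IH) (Lpr_bt (K12.f50095 IH) (Lpr_gt (f323482 IH) (Lpe (f310235 IH) (Lpr_ct (f7617 IH) (Lpr_gt (f310224 IH) (Lpe (K19.f41110 IH) (Lpr_bt (K1.f41106 IH) (Lpr_gt (K19.f55265 IH) (Lpr_ct (f55270 IH) (Lpn (LP (LK LD1_c9 LD2_c43 LD3_c23)))))))))))))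
theorem f30856 : Led Lsl_ct (LP (LK LD1_c16 LD2_c13 LD3_c31)) = (LP (LK LD1_c8 LD2_c39 LD3_c48)) :=
  Lre_c IH (LK LD1_c16 LD2_c13 LD3_c31) (LK LD1_c8 LD2_c39 LD3_c48) Lrfl Lrfl
theorem f191247 : Led Lsl_at (LP (LK LD1_c15 LD2_c25 LD3_c10)) = (LP (LK LD1_c16 LD2_c13 LD3_c31)) :=
  Lgr Lrot107 (Lpr_cf (f191239 IH) (Lpe (K14.f50363 IH) (Lpe (f30856 IH) (Lpn (LP (LK LD1_c16 LD2_c13 LD3_c31))))))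
theorem f191249 : Led Lsl_af (LP (LK LD1_c15 LD2_c25 LD3_c10)) = (LP (LK LD1_c16 LD2_c13 LD3_c31)) :=
  Lgr Lrot0 (Lpr_at (f191247 IH) (Lpn (LP (LK LD1_c16 LD2_c13 LD3_c31))))
theorem f194655 : Led Lsl_ct (LP (LK LD1_c5 LD2_c22 LD3_c27)) = (LP (LK LD1_c10 LD2_c35 LD3_c17)) :=
  Lre_c IH (LK LD1_c5 LD2_c22 LD3_c27) (LK LD1_c10 LD2_c35 LD3_c17) Lrfl Lrfl
theorem f196548 : Led Lsl_ff (LP (LK LD1_c16 LD2_c13 LD3_c31)) = (LP (LK LD1_c10 LD2_c35 LD3_c17)) :=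
  Lgr Lrot23 (Lpr_ct (f30856 IH) (Lpr_ft (K10.f196546 IH) (Lpr_ct (f194655 IH) (Lpn (LP (LK LD1_c10 LD2_c35 LD3_c17))))))
theorem f324081 : Led Lsl_gt (LP (LK LD1_c10 LD2_c35 LD3_c17)) = (LP (LK LD1_c9 LD2_c43 LD3_c23)) :=
  Lgr Lrot5 (Lpe (f196548 IH) (Lpe (f191249 IH) (Lpr_gf (f324043 IH) (Lpn (LP (LK LD1_c9 LD2_c43 LD3_c23))))))
theorem f310237 : Led Lsl_bt (LP (LK LD1_c4 LD2_c55 LD3_c51)) = (LP (LK LD1_c9 LD2_c43 LD3_c22)) :=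
  Lre_b IH (LK LD1_c4 LD2_c55 LD3_c51) (LK LD1_c9 LD2_c43 LD3_c22) Lrfl Lrfl
theorem f324089 : Led Lsl_gf (LP (LK LD1_c8 LD2_c38 LD3_c35)) = (LP (LK LD1_c9 LD2_c43 LD3_c22)) :=
  Lgr Lrot124 (Lpe (K10.f31084 IH) (Lpr_ct (K20.f31089 IH) (Lpr_gt (K20.f213752 IH) (Lpe (K20.f275759 IH) (Lpr_bt (K20.f322735 IH) (Lpr_gt (K14.f194657 IH) (Lpr_ct (f194655 IH) (Lpr_gt (f324081 IH) (Lpe (f55270 IH) (Lpr_bt (f310237 IH) (Lpn (LP (LK LD1_c9 LD2_c43 LD3_c22)))))))))))))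
theorem f324091 : Led Lsl_gt (LP (LK LD1_c8 LD2_c23 LD3_c60)) = (LP (LK LD1_c9 LD2_c43 LD3_c22)) :=
  Lgr Lrot5 (Lpr_ft (K17.f220851 IH) (Lpr_at (K10.f183652 IH) (Lpr_gf (f324089 IH) (Lpn (LP (LK LD1_c9 LD2_c43 LD3_c22))))))
theorem f219319 : Led Lsl_et (LP (LK LD1_c5 LD2_c35 LD3_c32)) = (LP (LK LD1_c2 LD2_c43 LD3_c42)) :=
  Lre_e IH (LK LD1_c5 LD2_c35 LD3_c32) (LK LD1_c2 LD2_c43 LD3_c42) Lrfl Lrfl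
theorem f247006 : Led Lsl_gt (LP (LK LD1_c17 LD2_c45 LD3_c36)) = (LP (LK LD1_c9 LD2_c39 LD3_c24)) :=
  Lre_g IH (LK LD1_c17 LD2_c45 LD3_c36) (LK LD1_c9 LD2_c39 LD3_c24) Lrfl Lrfl
theorem f247667 : Led Lsl_et (LP (LK LD1_c17 LD2_c52 LD3_c34)) = (LP (LK LD1_c9 LD2_c43 LD3_c22)) :=
  Lre_e IH (LK LD1_c17 LD2_c52 LD3_c34) (LK LD1_c9 LD2_c43 LD3_c22) Lrfl Lrfl
theorem f324100 : Led Lsl_df (LP (LK LD1_c17 LD2_c45 LD3_c36)) = (LP (LK LD1_c17 LD2_c52 LD3_c34)) :=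
  Lgr Lrot170 (Lpr_gt (f247006 IH) (Lpe (K16.f246976 IH) (Lpr_et (f219319 IH) (Lpr_gt (K15.f267283 IH) (Lpr_dt (K14.f187214 IH) (Lpr_gt (K12.f219456 IH) (Lpe (K12.f199179 IH) (Lpr_et (K17.f219343 IH) (Lpr_gt (f324091 IH) (Lpe (f247667 IH) (Lpn (LP (LK LD1_c17 LD2_c52 LD3_c34)))))))))))))
theorem f215084 : Led Lsl_ft (LP (LK LD1_c25 LD2_c23 LD3_c55)) = (LP (LK LD1_c15 LD2_c30 LD3_c57)) :=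
  Lre_f IH (LK LD1_c25 LD2_c23 LD3_c55) (LK LD1_c15 LD2_c30 LD3_c57) Lrfl Lrfl
theorem f317300 : Led Lsl_gf (LP (LK LD1_c17 LD2_c45 LD3_c36)) = (LP (LK LD1_c25 LD2_c23 LD3_c55)) :=
  Lgr Lrot47 (Lpr_gt (f247006 IH) (Lpr_af (K20.f317294 IH) (Lpe (f215084 IH) (Lpn (LP (LK LD1_c25 LD2_c23 LD3_c55))))))
theorem f284820 : Led Lsl_dt (LP (LK LD1_c17 LD2_c48 LD3_c47)) = (LP (LK LD1_c25 LD2_c23 LD3_c55)) :=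
  Lgr Lrot60 (Lpe (K20.f284814 IH) (Lpr_df (K17.f284816 IH) (Lpe (f215084 IH) (Lpn (LP (LK LD1_c25 LD2_c23 LD3_c55))))))
theorem f324106 : Led Lsl_gf (LP (LK LD1_c17 LD2_c48 LD3_c47)) = (LP (LK LD1_c10 LD2_c20 LD3_c23)) :=
  Lgr Lrot138 (Lpr_dt (f284820 IH) (Lpe (f317300 IH) (Lpr_df (f324100 IH) (Lpr_et (f247667 IH) (Lpe (f324089 IH) (Lpe (K10.f31094 IH) (Lpr_dt (K10.f28689 IH) (Lpr_gt (K12.f187908 IH) (Lpe (K14.f190972 IH) (Lpr_et (K14.f237092 IH) (Lpn (LP (LK LD1_c10 LD2_c20 LD3_c23)))))))))))))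
theorem f190803 : Led Lsl_ft (LP (LK LD1_c9 LD2_c39 LD3_c25)) = (LP (LK LD1_c17 LD2_c45 LD3_c39)) :=
  Lre_f IH (LK LD1_c9 LD2_c39 LD3_c25) (LK LD1_c17 LD2_c45 LD3_c39) Lrfl Lrfl
theorem f190804 : Led Lsl_df (LP (LK LD1_c15 LD2_c1 LD3_c20)) = (LP (LK LD1_c17 LD2_c45 LD3_c39)) :=
  Lgr Lrot78 (Lpr_ft (K20.f188654 IH) (Lpr_dt (K12.f190797 IH) (Lpr_ft (f190803 IH) (Lpn (LP (LK LD1_c17 LD2_c45 LD3_c39))))))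
theorem f190807 : Led Lsl_dt (LP (LK LD1_c15 LD2_c1 LD3_c20)) = (LP (LK LD1_c17 LD2_c45 LD3_c39)) :=
  Lgr Lrot42 (Lpr_df (f190804 IH) (Lpn (LP (LK LD1_c17 LD2_c45 LD3_c39))))
theorem f317357 : Led Lsl_ft (LP (LK LD1_c8 LD2_c52 LD3_c20)) = (LP (LK LD1_c16 LD2_c35 LD3_c17)) :=
  Lre_f IH (LK LD1_c8 LD2_c52 LD3_c20) (LK LD1_c16 LD2_c35 LD3_c17) Lrfl Lrfl
theorem f190799 : Led Lsl_ft (LP (LK LD1_c17 LD2_c45 LD3_c39)) = (LP (LK LD1_c9 LD2_c39 LD3_c25)) :=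
  Lre_f IH (LK LD1_c17 LD2_c45 LD3_c39) (LK LD1_c9 LD2_c39 LD3_c25) Lrfl Lrfl
theorem f321953 : Led Lsl_ct (LP (LK LD1_c16 LD2_c35 LD3_c17)) = (LP (LK LD1_c17 LD2_c45 LD3_c39)) :=
  Lgr Lrot40 (Lpe (f317357 IH) (Lpr_cf (K20.f321946 IH) (Lpe (f190799 IH) (Lpn (LP (LK LD1_c17 LD2_c45 LD3_c39))))))
theorem f44129 : Led Lsl_et (LP (LK LD1_c8 LD2_c52 LD3_c20)) = (LP (LK LD1_c4 LD2_c27 LD3_c17)) :=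
  Lre_e IH (LK LD1_c8 LD2_c52 LD3_c20) (LK LD1_c4 LD2_c27 LD3_c17) Lrfl Lrfl
theorem f317348 : Led Lsl_ft (LP (LK LD1_c16 LD2_c35 LD3_c17)) = (LP (LK LD1_c8 LD2_c52 LD3_c20)) :=
  Lre_f IH (LK LD1_c16 LD2_c35 LD3_c17) (LK LD1_c8 LD2_c52 LD3_c20) Lrfl Lrfl
theorem f215083 : Led Lsl_ft (LP (LK LD1_c8 LD2_c52 LD3_c40)) = (LP (LK LD1_c16 LD2_c35 LD3_c49)) :=
  Lre_f IH (LK LD1_c8 LD2_c52 LD3_c40) (LK LD1_c16 LD2_c35 LD3_c49) Lrfl Lrfl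
theorem f317349 : Led Lsl_ef (LP (LK LD1_c16 LD2_c35 LD3_c17)) = (LP (LK LD1_c16 LD2_c35 LD3_c49)) :=
  Lgr Lrot21 (Lpr_ft (f317348 IH) (Lpr_et (f44129 IH) (Lpr_ft (K20.f317342 IH) (Lpr_et (K19.f215044 IH) (Lpr_ft (f215083 IH) (Lpn (LP (LK LD1_c16 LD2_c35 LD3_c49))))))))
theorem f215074 : Led Lsl_ft (LP (LK LD1_c16 LD2_c35 LD3_c49)) = (LP (LK LD1_c8 LD2_c52 LD3_c40)) :=
  Lre_f IH (LK LD1_c16 LD2_c35 LD3_c49) (LK LD1_c8 LD2_c52 LD3_c40) Lrfl Lrfl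
theorem f215075 : Led Lsl_ft (LP (LK LD1_c15 LD2_c30 LD3_c57)) = (LP (LK LD1_c25 LD2_c23 LD3_c55)) :=
  Lre_f IH (LK LD1_c15 LD2_c30 LD3_c57) (LK LD1_c25 LD2_c23 LD3_c55) Lrfl Lrfl
theorem f215076 : Led Lsl_cf (LP (LK LD1_c16 LD2_c35 LD3_c49)) = (LP (LK LD1_c25 LD2_c23 LD3_c55)) :=
  Lgr Lrot108 (Lpr_ft (f215074 IH) (Lpr_ct (K19.f215046 IH) (Lpr_ft (f215075 IH) (Lpn (LP (LK LD1_c25 LD2_c23 LD3_c55))))))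
theorem f321957 : Led Lsl_ef (LP (LK LD1_c25 LD2_c23 LD3_c55)) = (LP (LK LD1_c17 LD2_c45 LD3_c39)) :=
  Lgr Lrot28 (Lpe (f215076 IH) (Lpe (f317349 IH) (Lpr_ct (f321953 IH) (Lpn (LP (LK LD1_c17 LD2_c45 LD3_c39))))))
theorem f284823 : Led Lsl_df (LP (LK LD1_c17 LD2_c48 LD3_c47)) = (LP (LK LD1_c25 LD2_c23 LD3_c55)) :=
  Lgr Lrot38 (Lpr_dt (f284820 IH) (Lpn (LP (LK LD1_c25 LD2_c23 LD3_c55))))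
theorem f284825 : Led Lsl_ft (LP (LK LD1_c17 LD2_c48 LD3_c47)) = (LP (LK LD1_c9 LD2_c41 LD3_c0)) :=
  Lre_f IH (LK LD1_c17 LD2_c48 LD3_c47) (LK LD1_c9 LD2_c41 LD3_c0) Lrfl Lrfl
theorem f322120 : Led Lsl_bf (LP (LK LD1_c17 LD2_c48 LD3_c47)) = (LP (LK LD1_c15 LD2_c28 LD3_c14)) :=
  Lgr Lrot61 (Lpr_ft (f284825 IH) (Lpr_bt (K17.f274919 IH) (Lpr_ft (K20.f322116 IH) (Lpn (LP (LK LD1_c15 LD2_c28 LD3_c14))))))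
theorem f322130 : Led Lsl_ef (LP (LK LD1_c25 LD2_c28 LD3_c61)) = (LP (LK LD1_c17 LD2_c48 LD3_c47)) :=
  Lgr Lrot29 (Lpr_bt (K20.f311816 IH) (Lpr_et (K20.f322128 IH) (Lpe (f322120 IH) (Lpn (LP (LK LD1_c17 LD2_c48 LD3_c47))))))
theorem f322156 : Led Lsl_df (LP (LK LD1_c16 LD2_c8 LD3_c47)) = (LP (LK LD1_c25 LD2_c28 LD3_c61)) :=
  Lgr Lrot70 (Lpr_et (K20.f322154 IH) (Lpr_dt (f190807 IH) (Lpe (f321957 IH) (Lpe (f284823 IH) (Lpe (f322130 IH) (Lpn (LP (LK LD1_c25 LD2_c28 LD3_c61))))))))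
theorem f324109 : Led Lsl_ef (LP (LK LD1_c17 LD2_c48 LD3_c47)) = (LP (LK LD1_c25 LD2_c28 LD3_c61)) :=
  Lgr Lrot17 (Lpr_gf (f324106 IH) (Lpe (K14.f237092 IH) (Lpr_dt (K14.f190972 IH) (Lpe (K12.f187908 IH) (Lpe (K10.f28689 IH) (Lpr_gf (K11.f191175 IH) (Lpe (K20.f182565 IH) (Lpr_dt (K20.f321382 IH) (Lpe (K20.f321369 IH) (Lpr_df (f322156 IH) (Lpn (LP (LK LD1_c25 LD2_c28 LD3_c61)))))))))))))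
theorem f317066 : Led Lsl_ef (LP (LK LD1_c16 LD2_c50 LD3_c3)) = (LP (LK LD1_c11 LD2_c3 LD3_c14)) :=
  Lgr Lrot29 (Lpr_bt (K15.f238163 IH) (Lpr_et (K20.f317064 IH) (Lpr_bt (K20.f246961 IH) (Lpn (LP (LK LD1_c11 LD2_c3 LD3_c14))))))
theorem f324111 : Led Lsl_at (LP (LK LD1_c16 LD2_c50 LD3_c3)) = (LP (LK LD1_c25 LD2_c28 LD3_c61)) :=
  Lgr Lrot80 (Lpr_ef (f317066 IH) (Lpr_af (K20.f317282 IH) (Lpr_ef (f324109 IH) (Lpn (LP (LK LD1_c25 LD2_c28 LD3_c61))))))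
theorem f238184 : Led Lsl_ft (LP (LK LD1_c9 LD2_c0 LD3_c35)) = (LP (LK LD1_c16 LD2_c50 LD3_c3)) :=
  Lre_f IH (LK LD1_c9 LD2_c0 LD3_c35) (LK LD1_c16 LD2_c50 LD3_c3) Lrfl Lrfl
theorem f324113 : Led Lsl_gt (LP (LK LD1_c16 LD2_c50 LD3_c1)) = (LP (LK LD1_c25 LD2_c28 LD3_c61)) :=
  Lgr Lrot46 (Lpe (K20.f238188 IH) (Lpr_ft (f238184 IH) (Lpr_at (f324111 IH) (Lpn (LP (LK LD1_c25 LD2_c28 LD3_c61))))))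
theorem f31093 : Led Lsl_et (LP (LK LD1_c8 LD2_c38 LD3_c35)) = (LP (LK LD1_c4 LD2_c20 LD3_c22)) :=
  Lre_e IH (LK LD1_c8 LD2_c38 LD3_c35) (LK LD1_c4 LD2_c20 LD3_c22) Lrfl Lrfl
theorem f219347 : Led Lsl_gt (LP (LK LD1_c15 LD2_c47 LD3_c35)) = (LP (LK LD1_c8 LD2_c23 LD3_c60)) :=
  Lre_g IH (LK LD1_c15 LD2_c47 LD3_c35) (LK LD1_c8 LD2_c23 LD3_c60) Lrfl Lrfl
theorem f292529 : Led Lsl_gt (LP (LK LD1_c8 LD2_c38 LD3_c35)) = (LP (LK LD1_c15 LD2_c47 LD3_c35)) :=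
  Lgr Lrot5 (Lpr_ft (K17.f292523 IH) (Lpe (K17.f292525 IH) (Lpe (f219347 IH) (Lpn (LP (LK LD1_c15 LD2_c47 LD3_c35))))))
theorem f219348 : Led Lsl_dt (LP (LK LD1_c25 LD2_c44 LD3_c18)) = (LP (LK LD1_c15 LD2_c47 LD3_c35)) :=
  Lre_d IH (LK LD1_c25 LD2_c44 LD3_c18) (LK LD1_c15 LD2_c47 LD3_c35) Lrfl Lrfl
theorem f324115 : Led Lsl_ef (LP (LK LD1_c16 LD2_c50 LD3_c1)) = (LP (LK LD1_c25 LD2_c44 LD3_c18)) :=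
  Lgr Lrot167 (Lpr_gt (f324113 IH) (Lpe (f322156 IH) (Lpr_gt (K20.f321369 IH) (Lpe (K20.f321382 IH) (Lpr_et (K20.f182565 IH) (Lpe (K11.f191175 IH) (Lpe (f31093 IH) (Lpe (K10.f31085 IH) (Lpr_gt (f292529 IH) (Lpe (f219348 IH) (Lpn (LP (LK LD1_c25 LD2_c44 LD3_c18)))))))))))))
theorem f324119 : Led Lsl_et (LP (LK LD1_c16 LD2_c50 LD3_c1)) = (LP (LK LD1_c25 LD2_c44 LD3_c18)) :=
  Lgr Lrot87 (Lpr_ef (f324115 IH) (Lpn (LP (LK LD1_c25 LD2_c44 LD3_c18))))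
theorem f321364 : Led Lsl_ef (LP (LK LD1_c26 LD2_c47 LD3_c17)) = (LP (LK LD1_c17 LD2_c38 LD3_c56)) :=
  Lgr Lrot88 (Lpr_et (K20.f321360 IH) (Lpn (LP (LK LD1_c17 LD2_c38 LD3_c56))))
theorem f292533 : Led Lsl_et (LP (LK LD1_c15 LD2_c47 LD3_c35)) = (LP (LK LD1_c25 LD2_c44 LD3_c19)) :=
  Lre_e IH (LK LD1_c15 LD2_c47 LD3_c35) (LK LD1_c25 LD2_c44 LD3_c19) Lrfl Lrfl
theorem f324121 : Led Lsl_df (LP (LK LD1_c17 LD2_c38 LD3_c56)) = (LP (LK LD1_c25 LD2_c44 LD3_c19)) :=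
  Lgr Lrot70 (Lpe (f321364 IH) (Lpr_dt (K20.f238206 IH) (Lpr_et (f324119 IH) (Lpr_dt (f219348 IH) (Lpr_et (f292533 IH) (Lpn (LP (LK LD1_c25 LD2_c44 LD3_c19))))))))
theorem f171077 : Led Lsl_et (LP (LK LD1_c2 LD2_c23 LD3_c37)) = (LP (LK LD1_c4 LD2_c51 LD3_c31)) :=
  Lre_e IH (LK LD1_c2 LD2_c23 LD3_c37) (LK LD1_c4 LD2_c51 LD3_c31) Lrfl Lrfl
theorem f224915 : Led Lsl_et (LP (LK LD1_c17 LD2_c38 LD3_c57)) = (LP (LK LD1_c9 LD2_c35 LD3_c4)) :=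
  Lre_e IH (LK LD1_c17 LD2_c38 LD3_c57) (LK LD1_c9 LD2_c35 LD3_c4) Lrfl Lrfl
theorem f286159 : Led Lsl_dt (LP (LK LD1_c17 LD2_c38 LD3_c57)) = (LP (LK LD1_c15 LD2_c51 LD3_c21)) :=
  Lgr Lrot56 (Lpr_et (f224915 IH) (Lpr_gt (K20.f171070 IH) (Lpe (f171077 IH) (Lpr_dt (K16.f271033 IH) (Lpe (K16.f259276 IH) (Lpr_df (K16.f259285 IH) (Lpr_et (K16.f259289 IH) (Lpe (K16.f271041 IH) (Lpr_dt (K17.f286133 IH) (Lpr_gt (f245171 IH) (Lpn (LP (LK LD1_c15 LD2_c51 LD3_c21)))))))))))))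
theorem f286163 : Led Lsl_et (LP (LK LD1_c9 LD2_c35 LD3_c4)) = (LP (LK LD1_c17 LD2_c38 LD3_c57)) :=
  Lre_e IH (LK LD1_c9 LD2_c35 LD3_c4) (LK LD1_c17 LD2_c38 LD3_c57) Lrfl Lrfl
theorem f189700 : Led Lsl_dt (LP (LK LD1_c10 LD2_c19 LD3_c56)) = (LP (LK LD1_c10 LD2_c19 LD3_c56)) :=
  Lgr Lrot60 (Lpe (K11.f189618 IH) (Lpr_df (K12.f27429 IH) (Lpr_ff (K11.f189694 IH) (Lpn (LP (LK LD1_c10 LD2_c19 LD3_c56))))))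
theorem f27441 : Led Lsl_gt (LP (LK LD1_c8 LD2_c27 LD3_c16)) = (LP (LK LD1_c4 LD2_c14 LD3_c18)) :=
  Lre_g IH (LK LD1_c8 LD2_c27 LD3_c16) (LK LD1_c4 LD2_c14 LD3_c18) Lrfl Lrfl
theorem f189702 : Led Lsl_gf (LP (LK LD1_c8 LD2_c27 LD3_c16)) = (LP (LK LD1_c10 LD2_c19 LD3_c56)) :=
  Lgr Lrot47 (Lpr_gt (f27441 IH) (Lpe (K11.f27428 IH) (Lpr_ff (K11.f189694 IH) (Lpn (LP (LK LD1_c10 LD2_c19 LD3_c56))))))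
theorem f27445 : Led Lsl_dt (LP (LK LD1_c15 LD2_c52 LD3_c30)) = (LP (LK LD1_c8 LD2_c27 LD3_c16)) :=
  Lre_d IH (LK LD1_c15 LD2_c52 LD3_c30) (LK LD1_c8 LD2_c27 LD3_c16) Lrfl Lrfl
theorem f286124 : Led Lsl_et (LP (LK LD1_c15 LD2_c52 LD3_c30)) = (LP (LK LD1_c15 LD2_c51 LD3_c21)) :=
  Lgr Lrot121 (Lpr_dt (f27445 IH) (Lpr_gf (f189702 IH) (Lpe (f189700 IH) (Lpr_et (K11.f189617 IH) (Lpe (K15.f189716 IH) (Lpe (K16.f189719 IH) (Lpr_dt (K16.f271054 IH) (Lpe (K17.f271043 IH) (Lpe (K14.f168497 IH) (Lpr_gf (f286122 IH) (Lpn (LP (LK LD1_c15 LD2_c51 LD3_c21)))))))))))))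
theorem f286126 : Led Lsl_ef (LP (LK LD1_c15 LD2_c52 LD3_c30)) = (LP (LK LD1_c15 LD2_c51 LD3_c21)) :=
  Lgr Lrot88 (Lpr_et (f286124 IH) (Lpn (LP (LK LD1_c15 LD2_c51 LD3_c21))))
theorem f232180 : Led Lsl_et (LP (LK LD1_c8 LD2_c27 LD3_c16)) = (LP (LK LD1_c15 LD2_c52 LD3_c31)) :=
  Lre_e IH (LK LD1_c8 LD2_c27 LD3_c16) (LK LD1_c15 LD2_c52 LD3_c31) Lrfl Lrfl
theorem f286164 : Led Lsl_df (LP (LK LD1_c9 LD2_c35 LD3_c4)) = (LP (LK LD1_c15 LD2_c52 LD3_c31)) :=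
  Lgr Lrot70 (Lpr_et (f286163 IH) (Lpr_dt (f286159 IH) (Lpe (f286126 IH) (Lpr_dt (f27445 IH) (Lpr_et (f232180 IH) (Lpn (LP (LK LD1_c15 LD2_c52 LD3_c31))))))))
theorem f286167 : Led Lsl_dt (LP (LK LD1_c9 LD2_c35 LD3_c4)) = (LP (LK LD1_c15 LD2_c52 LD3_c31)) :=
  Lgr Lrot42 (Lpr_df (f286164 IH) (Lpn (LP (LK LD1_c15 LD2_c52 LD3_c31))))
theorem f324123 : Led Lsl_bt (LP (LK LD1_c15 LD2_c52 LD3_c31)) = (LP (LK LD1_c25 LD2_c44 LD3_c19)) :=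
  Lgr Lrot95 (Lpe (f286167 IH) (Lpe (K20.f171079 IH) (Lpr_df (f324121 IH) (Lpn (LP (LK LD1_c25 LD2_c44 LD3_c19))))))
theorem f219349 : Led Lsl_et (LP (LK LD1_c25 LD2_c44 LD3_c19)) = (LP (LK LD1_c15 LD2_c47 LD3_c35)) :=
  Lre_e IH (LK LD1_c25 LD2_c44 LD3_c19) (LK LD1_c15 LD2_c47 LD3_c35) Lrfl Lrfl
theorem f324129 : Led Lsl_bf (LP (LK LD1_c8 LD2_c27 LD3_c16)) = (LP (LK LD1_c15 LD2_c47 LD3_c35)) :=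
  Lgr Lrot96 (Lpr_et (f232180 IH) (Lpr_bt (f324123 IH) (Lpr_et (f219349 IH) (Lpn (LP (LK LD1_c15 LD2_c47 LD3_c35))))))
theorem f189704 : Led Lsl_dt (LP (LK LD1_c8 LD2_c27 LD3_c16)) = (LP (LK LD1_c15 LD2_c52 LD3_c30)) :=
  Lre_d IH (LK LD1_c8 LD2_c27 LD3_c16) (LK LD1_c15 LD2_c52 LD3_c30) Lrfl Lrfl
theorem f324133 : Led Lsl_bt (LP (LK LD1_c15 LD2_c52 LD3_c30)) = (LP (LK LD1_c25 LD2_c44 LD3_c18)) :=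
  Lgr Lrot95 (Lpe (f189704 IH) (Lpr_bf (f324129 IH) (Lpe (f219348 IH) (Lpn (LP (LK LD1_c25 LD2_c44 LD3_c18))))))
theorem f324147 : Led Lsl_bf (LP (LK LD1_c15 LD2_c51 LD3_c21)) = (LP (LK LD1_c16 LD2_c50 LD3_c1)) :=
  Lgr Lrot96 (Lpe (f286126 IH) (Lpr_bt (f324133 IH) (Lpe (f324115 IH) (Lpn (LP (LK LD1_c16 LD2_c50 LD3_c1))))))
theorem f7863 : Led Lsl_ct (LP (LK LD1_c2 LD2_c40 LD3_c31)) = (LP (LK LD1_c5 LD2_c28 LD3_c22)) :=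
  Lre_c IH (LK LD1_c2 LD2_c40 LD3_c31) (LK LD1_c5 LD2_c28 LD3_c22) Lrfl Lrfl
theorem f278825 : Led Lsl_gt (LP (LK LD1_c5 LD2_c28 LD3_c22)) = (LP (LK LD1_c10 LD2_c47 LD3_c50)) :=
  Lre_g IH (LK LD1_c5 LD2_c28 LD3_c22) (LK LD1_c10 LD2_c47 LD3_c50) Lrfl Lrfl
theorem f325847 : Led Lsl_ct (LP (LK LD1_c16 LD2_c50 LD3_c1)) = (LP (LK LD1_c10 LD2_c47 LD3_c50)) :=
  Lgr Lrot63 (Lpe (f324147 IH) (Lpe (f286122 IH) (Lpe (K14.f247256 IH) (Lpr_ct (K18.f247258 IH) (Lpr_gt (K19.f299193 IH) (Lpe (K18.f299188 IH) (Lpr_bt (f325839 IH) (Lpr_gt (f7825 IH) (Lpr_ct (f7863 IH) (Lpr_gt (f278825 IH) (Lpn (LP (LK LD1_c10 LD2_c47 LD3_c50)))))))))))))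
theorem f238176 : Led Lsl_bt (LP (LK LD1_c4 LD2_c31 LD3_c22)) = (LP (LK LD1_c9 LD2_c0 LD3_c35)) :=
  Lre_b IH (LK LD1_c4 LD2_c31 LD3_c22) (LK LD1_c9 LD2_c0 LD3_c35) Lrfl Lrfl
theorem f238138 : Led Lsl_ct (LP (LK LD1_c4 LD2_c31 LD3_c22)) = (LP (LK LD1_c9 LD2_c0 LD3_c38)) :=
  Lre_c IH (LK LD1_c4 LD2_c31 LD3_c22) (LK LD1_c9 LD2_c0 LD3_c38) Lrfl Lrfl
theorem f238112 : Led Lsl_gt (LP (LK LD1_c16 LD2_c50 LD3_c11)) = (LP (LK LD1_c9 LD2_c0 LD3_c38)) :=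
  Lre_g IH (LK LD1_c16 LD2_c50 LD3_c11) (LK LD1_c9 LD2_c0 LD3_c38) Lrfl Lrfl
theorem f315982 : Led Lsl_ct (LP (LK LD1_c20 LD2_c55 LD3_c5)) = (LP (LK LD1_c11 LD2_c52 LD3_c18)) :=
  Lre_c IH (LK LD1_c20 LD2_c55 LD3_c5) (LK LD1_c11 LD2_c52 LD3_c18) Lrfl Lrfl
theorem f315993 : Led Lsl_ef (LP (LK LD1_c20 LD2_c55 LD3_c5)) = (LP (LK LD1_c16 LD2_c37 LD3_c22)) :=
  Lgr Lrot28 (Lpr_ct (f315982 IH) (Lpr_et (K20.f315989 IH) (Lpr_ct (K16.f278982 IH) (Lpn (LP (LK LD1_c16 LD2_c37 LD3_c22))))))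
theorem f279001 : Led Lsl_dt (LP (LK LD1_c16 LD2_c37 LD3_c22)) = (LP (LK LD1_c26 LD2_c34 LD3_c41)) :=
  Lre_d IH (LK LD1_c16 LD2_c37 LD3_c22) (LK LD1_c26 LD2_c34 LD3_c41) Lrfl Lrfl
theorem f7870 : Led Lsl_gt (LP (LK LD1_c19 LD2_c31 LD3_c61)) = (LP (LK LD1_c10 LD2_c47 LD3_c52)) :=
  Lre_g IH (LK LD1_c19 LD2_c31 LD3_c61) (LK LD1_c10 LD2_c47 LD3_c52) Lrfl Lrfl
theorem f279042 : Led Lsl_gt (LP (LK LD1_c26 LD2_c34 LD3_c41)) = (LP (LK LD1_c19 LD2_c31 LD3_c61)) :=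
  Lgr Lrot5 (Lpr_ft (K16.f279027 IH) (Lpr_at (K16.f279028 IH) (Lpe (f7870 IH) (Lpn (LP (LK LD1_c19 LD2_c31 LD3_c61))))))
theorem f183010 : Led Lsl_et (LP (LK LD1_c11 LD2_c52 LD3_c26)) = (LP (LK LD1_c6 LD2_c4 LD3_c28)) :=
  Lre_e IH (LK LD1_c11 LD2_c52 LD3_c26) (LK LD1_c6 LD2_c4 LD3_c28) Lrfl Lrfl
theorem f316635 : Led Lsl_df (LP (LK LD1_c19 LD2_c31 LD3_c61)) = (LP (LK LD1_c11 LD2_c52 LD3_c26)) :=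
  Lgr Lrot168 (Lpe (f279042 IH) (Lpe (f279001 IH) (Lpe (f315993 IH) (Lpr_gf (K20.f316629 IH) (Lpr_ef (K19.f264881 IH) (Lpe (K15.f264866 IH) (Lpe (K15.f182569 IH) (Lpe (K15.f182568 IH) (Lpe (K9.f8549 IH) (Lpe (f183010 IH) (Lpn (LP (LK LD1_c11 LD2_c52 LD3_c26)))))))))))))
theorem f316640 : Led Lsl_dt (LP (LK LD1_c19 LD2_c31 LD3_c61)) = (LP (LK LD1_c11 LD2_c52 LD3_c26)) :=
  Lgr Lrot42 (Lpr_df (f316635 IH) (Lpn (LP (LK LD1_c11 LD2_c52 LD3_c26))))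
theorem f325856 : Led Lsl_gf (LP (LK LD1_c16 LD2_c37 LD3_c22)) = (LP (LK LD1_c10 LD2_c47 LD3_c50)) :=
  Lgr Lrot148 (Lpr_dt (f279001 IH) (Lpr_gt (f279042 IH) (Lpr_dt (f316640 IH) (Lpr_ct (f182566 IH) (Lpr_df (f321385 IH) (Lpe (K20.f321369 IH) (Lpr_df (f322156 IH) (Lpe (f324113 IH) (Lpr_ct (f325847 IH) (Lpn (LP (LK LD1_c10 LD2_c47 LD3_c50))))))))))))
theorem f267672 : Led Lsl_af (LP (LK LD1_c2 LD2_c40 LD3_c37)) = (LP (LK LD1_c4 LD2_c10 LD3_c61)) :=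
  Lgr Lrot0 (Lpr_at (K15.f267666 IH) (Lpn (LP (LK LD1_c4 LD2_c10 LD3_c61))))
theorem f267670 : Led Lsl_bt (LP (LK LD1_c8 LD2_c21 LD3_c39)) = (LP (LK LD1_c4 LD2_c10 LD3_c61)) :=
  Lre_b IH (LK LD1_c8 LD2_c21 LD3_c39) (LK LD1_c4 LD2_c10 LD3_c61) Lrfl Lrfl
theorem f276783 : Led Lsl_af (LP (LK LD1_c8 LD2_c21 LD3_c39)) = (LP (LK LD1_c5 LD2_c22 LD3_c50)) :=
  Lgr Lrot31 (Lpr_gf (K16.f276781 IH) (Lpe (K16.f276748 IH) (Lpr_ft (K18.f276756 IH) (Lpn (LP (LK LD1_c5 LD2_c22 LD3_c50))))))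
theorem f278993 : Led Lsl_bt (LP (LK LD1_c8 LD2_c53 LD3_c26)) = (LP (LK LD1_c5 LD2_c22 LD3_c50)) :=
  Lgr Lrot62 (Lpr_af (K16.f278978 IH) (Lpe (K20.f7769 IH) (Lpr_af (f267672 IH) (Lpe (f267670 IH) (Lpr_af (f276783 IH) (Lpn (LP (LK LD1_c5 LD2_c22 LD3_c50))))))))
theorem f309177 : Led Lsl_bt (LP (LK LD1_c15 LD2_c43 LD3_c61)) = (LP (LK LD1_c8 LD2_c21 LD3_c37)) :=
  Lre_b IH (LK LD1_c15 LD2_c43 LD3_c61) (LK LD1_c8 LD2_c21 LD3_c37) Lrfl Lrfl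
theorem f325862 : Led Lsl_cf (LP (LK LD1_c16 LD2_c50 LD3_c11)) = (LP (LK LD1_c15 LD2_c43 LD3_c61)) :=
  Lgr Lrot160 (Lpr_gt (f238112 IH) (Lpe (f238138 IH) (Lpr_bt (f238176 IH) (Lpr_gt (K20.f238188 IH) (Lpr_ct (f325847 IH) (Lpe (f325856 IH) (Lpe (K16.f278982 IH) (Lpr_bt (f278993 IH) (Lpr_gt (K20.f309170 IH) (Lpe (f309177 IH) (Lpn (LP (LK LD1_c15 LD2_c43 LD3_c61)))))))))))))
theorem f238193 : Led Lsl_dt (LP (LK LD1_c9 LD2_c0 LD3_c38)) = (LP (LK LD1_c16 LD2_c50 LD3_c12)) :=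
  Lre_d IH (LK LD1_c9 LD2_c0 LD3_c38) (LK LD1_c16 LD2_c50 LD3_c12) Lrfl Lrfl
theorem f293440 : Led Lsl_et (LP (LK LD1_c9 LD2_c0 LD3_c38)) = (LP (LK LD1_c4 LD2_c31 LD3_c21)) :=
  Lre_e IH (LK LD1_c9 LD2_c0 LD3_c38) (LK LD1_c4 LD2_c31 LD3_c21) Lrfl Lrfl
theorem f310683 : Led Lsl_gt (LP (LK LD1_c16 LD2_c10 LD3_c0)) = (LP (LK LD1_c16 LD2_c50 LD3_c12)) :=
  Lgr Lrot112 (Lpe (K19.f54218 IH) (Lpr_et (K19.f54217 IH) (Lpe (K13.f33021 IH) (Lpr_ef (K16.f54205 IH) (Lpr_dt (K12.f53710 IH) (Lpe (K19.f53690 IH) (Lpr_df (K19.f310667 IH) (Lpe (K19.f310681 IH) (Lpe (f293440 IH) (Lpr_dt (f238193 IH) (Lpn (LP (LK LD1_c16 LD2_c50 LD3_c12)))))))))))))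
theorem f310695 : Led Lsl_gf (LP (LK LD1_c26 LD2_c8 LD3_c8)) = (LP (LK LD1_c16 LD2_c50 LD3_c12)) :=
  Lgr Lrot76 (Lpr_af (K19.f234034 IH) (Lpe (K19.f308267 IH) (Lpr_gt (f310683 IH) (Lpn (LP (LK LD1_c16 LD2_c50 LD3_c12))))))
theorem f325867 : Led Lsl_gf (LP (LK LD1_c8 LD2_c40 LD3_c18)) = (LP (LK LD1_c15 LD2_c43 LD3_c61)) :=
  Lgr Lrot144 (Lpr_dt (K19.f199337 IH) (Lpr_gt (K19.f191839 IH) (Lpr_dt (K19.f305555 IH) (Lpr_cf (K19.f308645 IH) (Lpe (K19.f234041 IH) (Lpr_gf (f310695 IH) (Lpe (f238193 IH) (Lpe (f238112 IH) (Lpr_cf (f325862 IH) (Lpn (LP (LK LD1_c15 LD2_c43 LD3_c61))))))))))))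
theorem f232343 : Led Lsl_dt (LP (LK LD1_c3 LD2_c56 LD3_c53)) = (LP (LK LD1_c2 LD2_c34 LD3_c28)) :=
  Lgr Lrot79 (Lpr_bf (K13.f232339 IH) (Lpe (K10.f47536 IH) (Lpe (K13.f47538 IH) (Lpn (LP (LK LD1_c2 LD2_c34 LD3_c28))))))
theorem f232370 : Led Lsl_gt (LP (LK LD1_c7 LD2_c55 LD3_c26)) = (LP (LK LD1_c14 LD2_c56 LD3_c58)) :=
  Lre_g IH (LK LD1_c7 LD2_c55 LD3_c26) (LK LD1_c14 LD2_c56 LD3_c58) Lrfl Lrfl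
theorem f232703 : Led Lsl_et (LP (LK LD1_c24 LD2_c44 LD3_c27)) = (LP (LK LD1_c14 LD2_c56 LD3_c58)) :=
  Lre_e IH (LK LD1_c24 LD2_c44 LD3_c27) (LK LD1_c14 LD2_c56 LD3_c58) Lrfl Lrfl
theorem f325879 : Led Lsl_dt (LP (LK LD1_c24 LD2_c44 LD3_c27)) = (LP (LK LD1_c15 LD2_c43 LD3_c61)) :=
  Lgr Lrot136 (Lpr_et (f232703 IH) (Lpe (f232370 IH) (Lpe (K13.f232345 IH) (Lpr_dt (f232343 IH) (Lpe (K13.f232391 IH) (Lpr_df (K13.f236443 IH) (Lpr_gf (f233142 IH) (Lpe (K19.f233146 IH) (Lpr_dt (K19.f233147 IH) (Lpr_gf (f325867 IH) (Lpn (LP (LK LD1_c15 LD2_c43 LD3_c61)))))))))))))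
theorem f325883 : Led Lsl_df (LP (LK LD1_c24 LD2_c44 LD3_c27)) = (LP (LK LD1_c15 LD2_c43 LD3_c61)) :=
  Lgr Lrot38 (Lpr_dt (f325879 IH) (Lpn (LP (LK LD1_c15 LD2_c43 LD3_c61))))
theorem f284181 : Led Lsl_bt (LP (LK LD1_c8 LD2_c21 LD3_c37)) = (LP (LK LD1_c15 LD2_c43 LD3_c61)) :=
  Lre_b IH (LK LD1_c8 LD2_c21 LD3_c37) (LK LD1_c15 LD2_c43 LD3_c61) Lrfl Lrfl
theorem f325887 : Led Lsl_bt (LP (LK LD1_c24 LD2_c44 LD3_c27)) = (LP (LK LD1_c15 LD2_c44 LD3_c1)) :=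
  Lgr Lrot95 (Lpr_df (f325883 IH) (Lpe (f284181 IH) (Lpe (K20.f297808 IH) (Lpn (LP (LK LD1_c15 LD2_c44 LD3_c1))))))
theorem f296366 : Led Lsl_et (LP (LK LD1_c14 LD2_c56 LD3_c58)) = (LP (LK LD1_c24 LD2_c44 LD3_c27)) :=
  Lre_e IH (LK LD1_c14 LD2_c56 LD3_c58) (LK LD1_c24 LD2_c44 LD3_c27) Lrfl Lrfl
theorem f325889 : Led Lsl_bf (LP (LK LD1_c14 LD2_c56 LD3_c58)) = (LP (LK LD1_c8 LD2_c22 LD3_c34)) :=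
  Lgr Lrot96 (Lpr_et (f296366 IH) (Lpr_bt (f325887 IH) (Lpr_et (K20.f310199 IH) (Lpn (LP (LK LD1_c8 LD2_c22 LD3_c34))))))
theorem f232348 : Led Lsl_bf (LP (LK LD1_c7 LD2_c55 LD3_c26)) = (LP (LK LD1_c4 LD2_c8 LD3_c21)) :=
  Lgr Lrot24 (Lpr_bt (K13.f232346 IH) (Lpn (LP (LK LD1_c4 LD2_c8 LD3_c21))))
theorem f47715 : Led Lsl_ct (LP (LK LD1_c4 LD2_c8 LD3_c21)) = (LP (LK LD1_c8 LD2_c16 LD3_c45)) :=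
  Lre_c IH (LK LD1_c4 LD2_c8 LD3_c21) (LK LD1_c8 LD2_c16 LD3_c45) Lrfl Lrfl
theorem f47703 : Led Lsl_gt (LP (LK LD1_c15 LD2_c34 LD3_c3)) = (LP (LK LD1_c8 LD2_c16 LD3_c45)) :=
  Lre_g IH (LK LD1_c15 LD2_c34 LD3_c3) (LK LD1_c8 LD2_c16 LD3_c45) Lrfl Lrfl
theorem f200263 : Led Lsl_ct (LP (LK LD1_c8 LD2_c22 LD3_c34)) = (LP (LK LD1_c15 LD2_c45 LD3_c41)) :=
  Lre_c IH (LK LD1_c8 LD2_c22 LD3_c34) (LK LD1_c15 LD2_c45 LD3_c41) Lrfl Lrfl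
theorem f258450 : Led Lsl_ct (LP (LK LD1_c20 LD2_c54 LD3_c52)) = (LP (LK LD1_c24 LD2_c54 LD3_c44)) :=
  Lgr Lrot59 (Lpr_cf (K15.f258448 IH) (Lpn (LP (LK LD1_c24 LD2_c54 LD3_c44))))
theorem f258372 : Led Lsl_et (LP (LK LD1_c6 LD2_c4 LD3_c17)) = (LP (LK LD1_c11 LD2_c52 LD3_c3)) :=
  Lre_e IH (LK LD1_c6 LD2_c4 LD3_c17) (LK LD1_c11 LD2_c52 LD3_c3) Lrfl Lrfl
theorem f270791 : Led Lsl_ft (LP (LK LD1_c11 LD2_c52 LD3_c3)) = (LP (LK LD1_c20 LD2_c54 LD3_c49)) :=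
  Lre_f IH (LK LD1_c11 LD2_c52 LD3_c3) (LK LD1_c20 LD2_c54 LD3_c49) Lrfl Lrfl
theorem f270792 : Led Lsl_ef (LP (LK LD1_c20 LD2_c54 LD3_c52)) = (LP (LK LD1_c20 LD2_c54 LD3_c49)) :=
  Lgr Lrot21 (Lpr_ft (K15.f258446 IH) (Lpr_et (K20.f42664 IH) (Lpr_ft (K16.f270788 IH) (Lpr_et (f258372 IH) (Lpr_ft (f270791 IH) (Lpn (LP (LK LD1_c20 LD2_c54 LD3_c49))))))))
theorem f270868 : Led Lsl_cf (LP (LK LD1_c20 LD2_c54 LD3_c49)) = (LP (LK LD1_c17 LD2_c43 LD3_c31)) :=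
  Lgr Lrot39 (Lpe (f270792 IH) (Lpr_ct (f258450 IH) (Lpr_et (K16.f270863 IH) (Lpn (LP (LK LD1_c17 LD2_c43 LD3_c31))))))
theorem f270866 : Led Lsl_bf (LP (LK LD1_c18 LD2_c52 LD3_c20)) = (LP (LK LD1_c17 LD2_c43 LD3_c31)) :=
  Lgr Lrot96 (Lpr_et (K17.f258511 IH) (Lpe (K15.f258473 IH) (Lpr_et (K16.f270863 IH) (Lpn (LP (LK LD1_c17 LD2_c43 LD3_c31))))))
theorem f33255 : Led Lsl_gt (LP (LK LD1_c15 LD2_c6 LD3_c44)) = (LP (LK LD1_c8 LD2_c1 LD3_c31)) :=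
  Lre_g IH (LK LD1_c15 LD2_c6 LD3_c44) (LK LD1_c8 LD2_c1 LD3_c31) Lrfl Lrfl
theorem f263614 : Led Lsl_gt (LP (LK LD1_c18 LD2_c52 LD3_c20)) = (LP (LK LD1_c15 LD2_c6 LD3_c44)) :=
  Lgr Lrot5 (Lpr_ft (K17.f258508 IH) (Lpr_at (K15.f263607 IH) (Lpe (f33255 IH) (Lpn (LP (LK LD1_c15 LD2_c6 LD3_c44))))))
theorem f325895 : Led Lsl_cf (LP (LK LD1_c15 LD2_c34 LD3_c3)) = (LP (LK LD1_c15 LD2_c6 LD3_c44)) :=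
  Lgr Lrot125 (Lpr_gt (f47703 IH) (Lpe (f47715 IH) (Lpe (f232348 IH) (Lpr_gt (f232370 IH) (Lpr_bf (f325889 IH) (Lpr_ct (f200263 IH) (Lpr_gt (K20.f321109 IH) (Lpr_cf (f270868 IH) (Lpe (f270866 IH) (Lpr_gt (f263614 IH) (Lpn (LP (LK LD1_c15 LD2_c6 LD3_c44)))))))))))))
theorem f47689 : Led Lsl_ct (LP (LK LD1_c8 LD2_c16 LD3_c45)) = (LP (LK LD1_c4 LD2_c8 LD3_c21)) :=
  Lre_c IH (LK LD1_c8 LD2_c16 LD3_c45) (LK LD1_c4 LD2_c8 LD3_c21) Lrfl Lrfl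
theorem f47698 : Led Lsl_ct (LP (LK LD1_c5 LD2_c15 LD3_c27)) = (LP (LK LD1_c2 LD2_c34 LD3_c34)) :=
  Lre_c IH (LK LD1_c5 LD2_c15 LD3_c27) (LK LD1_c2 LD2_c34 LD3_c34) Lrfl Lrfl
theorem f47702 : Led Lsl_gt (LP (LK LD1_c10 LD2_c20 LD3_c14)) = (LP (LK LD1_c5 LD2_c15 LD3_c27)) :=
  Lre_g IH (LK LD1_c10 LD2_c20 LD3_c14) (LK LD1_c5 LD2_c15 LD3_c27) Lrfl Lrfl
theorem f33259 : Led Lsl_gt (LP (LK LD1_c10 LD2_c7 LD3_c25)) = (LP (LK LD1_c5 LD2_c8 LD3_c31)) :=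
  Lre_g IH (LK LD1_c10 LD2_c7 LD3_c25) (LK LD1_c5 LD2_c8 LD3_c31) Lrfl Lrfl
theorem f263632 : Led Lsl_gf (LP (LK LD1_c10 LD2_c7 LD3_c25)) = (LP (LK LD1_c15 LD2_c50 LD3_c43)) :=
  Lgr Lrot47 (Lpr_gt (f33259 IH) (Lpr_af (K15.f263626 IH) (Lpe (K15.f231839 IH) (Lpn (LP (LK LD1_c15 LD2_c50 LD3_c43))))))
theorem f325902 : Led Lsl_cf (LP (LK LD1_c10 LD2_c20 LD3_c14)) = (LP (LK LD1_c10 LD2_c7 LD3_c25)) :=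
  Lgr Lrot169 (Lpr_gt (f47702 IH) (Lpr_ct (f47698 IH) (Lpr_df (K13.f47547 IH) (Lpe (f47689 IH) (Lpe (f47703 IH) (Lpr_cf (f325895 IH) (Lpe (f263614 IH) (Lpr_df (K15.f263622 IH) (Lpe (f263632 IH) (Lpn (LP (LK LD1_c10 LD2_c7 LD3_c25))))))))))))
theorem f47688 : Led Lsl_ct (LP (LK LD1_c2 LD2_c34 LD3_c34)) = (LP (LK LD1_c5 LD2_c15 LD3_c27)) :=
  Lre_c IH (LK LD1_c2 LD2_c34 LD3_c34) (LK LD1_c5 LD2_c15 LD3_c27) Lrfl Lrfl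
theorem f47687 : Led Lsl_bt (LP (LK LD1_c2 LD2_c34 LD3_c34)) = (LP (LK LD1_c5 LD2_c15 LD3_c13)) :=
  Lre_b IH (LK LD1_c2 LD2_c34 LD3_c34) (LK LD1_c5 LD2_c15 LD3_c13) Lrfl Lrfl
theorem f186916 : Led Lsl_gt (LP (LK LD1_c5 LD2_c15 LD3_c13)) = (LP (LK LD1_c10 LD2_c19 LD3_c53)) :=
  Lre_g IH (LK LD1_c5 LD2_c15 LD3_c13) (LK LD1_c10 LD2_c19 LD3_c53) Lrfl Lrfl
theorem f231841 : Led Lsl_bf (LP (LK LD1_c15 LD2_c50 LD3_c43)) = (LP (LK LD1_c17 LD2_c45 LD3_c46)) :=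
  Lgr Lrot61 (Lpr_ft (K15.f231839 IH) (Lpr_bt (K17.f231833 IH) (Lpr_ft (K17.f231840 IH) (Lpn (LP (LK LD1_c17 LD2_c45 LD3_c46))))))
theorem f300357 : Led Lsl_gt (LP (LK LD1_c4 LD2_c11 LD3_c25)) = (LP (LK LD1_c8 LD2_c22 LD3_c34)) :=
  Lre_g IH (LK LD1_c4 LD2_c11 LD3_c25) (LK LD1_c8 LD2_c22 LD3_c34) Lrfl Lrfl
theorem f182250 : Led Lsl_ct (LP (LK LD1_c5 LD2_c19 LD3_c18)) = (LP (LK LD1_c10 LD2_c28 LD3_c24)) :=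
  Lre_c IH (LK LD1_c5 LD2_c19 LD3_c18) (LK LD1_c10 LD2_c28 LD3_c24) Lrfl Lrfl
theorem f184488 : Led Lsl_gt (LP (LK LD1_c10 LD2_c28 LD3_c24)) = (LP (LK LD1_c18 LD2_c58 LD3_c54)) :=
  Lre_g IH (LK LD1_c10 LD2_c28 LD3_c24) (LK LD1_c18 LD2_c58 LD3_c54) Lrfl Lrfl
theorem f273767 : Led Lsl_ct (LP (LK LD1_c18 LD2_c52 LD3_c20)) = (LP (LK LD1_c15 LD2_c34 LD3_c21)) :=
  Lgr Lrot59 (Lpr_cf (K17.f273747 IH) (Lpn (LP (LK LD1_c15 LD2_c34 LD3_c21))))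
theorem f282061 : Led Lsl_bt (LP (LK LD1_c29 LD2_c43 LD3_c52)) = (LP (LK LD1_c20 LD2_c54 LD3_c49)) :=
  Lre_b IH (LK LD1_c29 LD2_c43 LD3_c52) (LK LD1_c20 LD2_c54 LD3_c49) Lrfl Lrfl
theorem f282072 : Led Lsl_cf (LP (LK LD1_c17 LD2_c43 LD3_c31)) = (LP (LK LD1_c20 LD2_c54 LD3_c49)) :=
  Lgr Lrot97 (Lpe (f270866 IH) (Lpr_ct (f273767 IH) (Lpr_bt (K17.f273746 IH) (Lpr_ct (K17.f282067 IH) (Lpr_bt (f282061 IH) (Lpn (LP (LK LD1_c20 LD2_c54 LD3_c49))))))))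
theorem f321113 : Led Lsl_ct (LP (LK LD1_c18 LD2_c58 LD3_c54)) = (LP (LK LD1_c17 LD2_c45 LD3_c46)) :=
  Lgr Lrot110 (Lpe (f184488 IH) (Lpe (f182250 IH) (Lpe (K9.f44077 IH) (Lpe (K18.f300341 IH) (Lpr_gt (f300357 IH) (Lpr_ct (f200263 IH) (Lpr_gt (K20.f321109 IH) (Lpe (f282072 IH) (Lpr_df (K17.f282099 IH) (Lpn (LP (LK LD1_c17 LD2_c45 LD3_c46))))))))))))
theorem f321140 : Led Lsl_cf (LP (LK LD1_c18 LD2_c58 LD3_c54)) = (LP (LK LD1_c17 LD2_c45 LD3_c46)) :=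
  Lgr Lrot11 (Lpr_ct (f321113 IH) (Lpn (LP (LK LD1_c17 LD2_c45 LD3_c46))))
theorem f325910 : Led Lsl_bf (LP (LK LD1_c10 LD2_c19 LD3_c53)) = (LP (LK LD1_c5 LD2_c19 LD3_c18)) :=
  Lgr Lrot34 (Lpe (f186916 IH) (Lpe (f47687 IH) (Lpr_ct (f47688 IH) (Lpe (f47702 IH) (Lpr_cf (f325902 IH) (Lpr_gf (f263632 IH) (Lpr_bf (f231841 IH) (Lpe (f321140 IH) (Lpe (f184488 IH) (Lpe (f182250 IH) (Lpn (LP (LK LD1_c5 LD2_c19 LD3_c18)))))))))))))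
theorem f186862 : Led Lsl_et (LP (LK LD1_c2 LD2_c34 LD3_c27)) = (LP (LK LD1_c5 LD2_c15 LD3_c13)) :=
  Lre_e IH (LK LD1_c2 LD2_c34 LD3_c27) (LK LD1_c5 LD2_c15 LD3_c13) Lrfl Lrfl
theorem f229491 : Led Lsl_gt (LP (LK LD1_c7 LD2_c55 LD3_c36)) = (LP (LK LD1_c3 LD2_c56 LD3_c60)) :=
  Lre_g IH (LK LD1_c7 LD2_c55 LD3_c36) (LK LD1_c3 LD2_c56 LD3_c60) Lrfl Lrfl
theorem f229694 : Led Lsl_dt (LP (LK LD1_c10 LD2_c19 LD3_c53)) = (LP (LK LD1_c7 LD2_c55 LD3_c36)) :=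
  Lgr Lrot171 (Lpe (f186916 IH) (Lpe (f186862 IH) (Lpr_dt (K13.f186845 IH) (Lpr_gf (K10.f186855 IH) (Lpe (K14.f45874 IH) (Lpr_et (K1.f45967 IH) (Lpe (K12.f27849 IH) (Lpe (K19.f229079 IH) (Lpr_dt (K13.f229681 IH) (Lpe (f229491 IH) (Lpn (LP (LK LD1_c7 LD2_c55 LD3_c36)))))))))))))
theorem f229160 : Led Lsl_gt (LP (LK LD1_c4 LD2_c1 LD3_c61)) = (LP (LK LD1_c8 LD2_c4 LD3_c39)) :=
  Lre_g IH (LK LD1_c4 LD2_c1 LD3_c61) (LK LD1_c8 LD2_c4 LD3_c39) Lrfl Lrfl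
theorem f229703 : Led Lsl_et (LP (LK LD1_c10 LD2_c19 LD3_c53)) = (LP (LK LD1_c8 LD2_c4 LD3_c39)) :=
  Lgr Lrot122 (Lpr_dt (f229694 IH) (Lpr_gt (f229491 IH) (Lpe (K13.f229681 IH) (Lpr_et (K19.f229079 IH) (Lpr_gt (K12.f27849 IH) (Lpr_dt (K1.f27839 IH) (Lpe (K10.f193628 IH) (Lpe (K12.f193630 IH) (Lpr_et (K16.f193639 IH) (Lpr_gt (f229160 IH) (Lpn (LP (LK LD1_c8 LD2_c4 LD3_c39)))))))))))))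
theorem f325916 : Led Lsl_bt (LP (LK LD1_c8 LD2_c4 LD3_c39)) = (LP (LK LD1_c8 LD2_c33 LD3_c20)) :=
  Lgr Lrot119 (Lpe (f229703 IH) (Lpr_bf (f325910 IH) (Lpe (K20.f184231 IH) (Lpn (LP (LK LD1_c8 LD2_c33 LD3_c20))))))
theorem f322599 : Led Lsl_bt (LP (LK LD1_c4 LD2_c16 LD3_c57)) = (LP (LK LD1_c8 LD2_c33 LD3_c18)) :=
  Lre_b IH (LK LD1_c4 LD2_c16 LD3_c57) (LK LD1_c8 LD2_c33 LD3_c18) Lrfl Lrfl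
theorem f325920 : Led Lsl_df (LP (LK LD1_c8 LD2_c4 LD3_c39)) = (LP (LK LD1_c8 LD2_c33 LD3_c18)) :=
  Lgr Lrot12 (Lpr_bt (f325916 IH) (Lpr_dt (K18.f169399 IH) (Lpr_bt (f322599 IH) (Lpn (LP (LK LD1_c8 LD2_c33 LD3_c18))))))
theorem f229705 : Led Lsl_ef (LP (LK LD1_c10 LD2_c19 LD3_c53)) = (LP (LK LD1_c8 LD2_c4 LD3_c39)) :=
  Lgr Lrot88 (Lpr_et (f229703 IH) (Lpn (LP (LK LD1_c8 LD2_c4 LD3_c39))))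
theorem f229699 : Led Lsl_et (LP (LK LD1_c7 LD2_c55 LD3_c36)) = (LP (LK LD1_c14 LD2_c57 LD3_c16)) :=
  Lre_e IH (LK LD1_c7 LD2_c55 LD3_c36) (LK LD1_c14 LD2_c57 LD3_c16) Lrfl Lrfl
theorem f325924 : Led Lsl_et (LP (LK LD1_c16 LD2_c3 LD3_c36)) = (LP (LK LD1_c8 LD2_c33 LD3_c18)) :=
  Lre_e IH (LK LD1_c16 LD2_c3 LD3_c36) (LK LD1_c8 LD2_c33 LD3_c18) Lrfl Lrfl
theorem f325925 : Led Lsl_dt (LP (LK LD1_c14 LD2_c57 LD3_c16)) = (LP (LK LD1_c16 LD2_c3 LD3_c36)) :=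
  Lgr Lrot77 (Lpe (f229699 IH) (Lpe (f229694 IH) (Lpr_ef (f229705 IH) (Lpr_df (f325920 IH) (Lpe (f325924 IH) (Lpn (LP (LK LD1_c16 LD2_c3 LD3_c36))))))))
theorem f229492 : Led Lsl_et (LP (LK LD1_c14 LD2_c57 LD3_c16)) = (LP (LK LD1_c7 LD2_c55 LD3_c36)) :=
  Lre_e IH (LK LD1_c14 LD2_c57 LD3_c16) (LK LD1_c7 LD2_c55 LD3_c36) Lrfl Lrfl
theorem f229658 : Led Lsl_df (LP (LK LD1_c4 LD2_c2 LD3_c38)) = (LP (LK LD1_c3 LD2_c56 LD3_c60)) :=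
  Lgr Lrot12 (Lpr_bt (K13.f229065 IH) (Lpr_dt (K13.f229655 IH) (Lpr_bt (K17.f229657 IH) (Lpn (LP (LK LD1_c3 LD2_c56 LD3_c60))))))
theorem f229081 : Led Lsl_gt (LP (LK LD1_c4 LD2_c2 LD3_c38)) = (LP (LK LD1_c8 LD2_c5 LD3_c51)) :=
  Lre_g IH (LK LD1_c4 LD2_c2 LD3_c38) (LK LD1_c8 LD2_c5 LD3_c51) Lrfl Lrfl
theorem f275918 : Led Lsl_gf (LP (LK LD1_c8 LD2_c3 LD3_c13)) = (LP (LK LD1_c8 LD2_c4 LD3_c39)) :=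
  Lgr Lrot76 (Lpr_af (K16.f275909 IH) (Lpe (K15.f229157 IH) (Lpr_gt (f229160 IH) (Lpn (LP (LK LD1_c8 LD2_c4 LD3_c39))))))
theorem f323780 : Led Lsl_gf (LP (LK LD1_c7 LD2_c55 LD3_c36)) = (LP (LK LD1_c4 LD2_c21 LD3_c37)) :=
  Lgr Lrot145 (Lpe (f229694 IH) (Lpr_et (f229703 IH) (Lpe (f275918 IH) (Lpr_dt (K16.f216764 IH) (Lpr_gt (K20.f269820 IH) (Lpr_df (K20.f275869 IH) (Lpe (K20.f275876 IH) (Lpr_gt (f323776 IH) (Lpr_ef (K18.f296408 IH) (Lpr_dt (K18.f243096 IH) (Lpn (LP (LK LD1_c4 LD2_c21 LD3_c37)))))))))))))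
theorem f275905 : Led Lsl_dt (LP (LK LD1_c8 LD2_c4 LD3_c48)) = (LP (LK LD1_c10 LD2_c15 LD3_c48)) :=
  Lgr Lrot42 (Lpr_df (K16.f275865 IH) (Lpn (LP (LK LD1_c10 LD2_c15 LD3_c48))))
theorem f192614 : Led Lsl_gt (LP (LK LD1_c10 LD2_c0 LD3_c53)) = (LP (LK LD1_c5 LD2_c4 LD3_c54)) :=
  Lre_g IH (LK LD1_c10 LD2_c0 LD3_c53) (LK LD1_c5 LD2_c4 LD3_c54) Lrfl Lrfl
theorem f275775 : Led Lsl_gf (LP (LK LD1_c10 LD2_c0 LD3_c53)) = (LP (LK LD1_c10 LD2_c15 LD3_c48)) :=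
  Lgr Lrot47 (Lpr_gt (f192614 IH) (Lpr_af (K18.f275733 IH) (Lpe (K16.f275669 IH) (Lpn (LP (LK LD1_c10 LD2_c15 LD3_c48))))))
theorem f229649 : Led Lsl_dt (LP (LK LD1_c1 LD2_c58 LD3_c20)) = (LP (LK LD1_c1 LD2_c55 LD3_c14)) :=
  Lgr Lrot79 (Lpr_bf (K12.f229060 IH) (Lpr_df (K12.f229646 IH) (Lpe (K14.f229648 IH) (Lpn (LP (LK LD1_c1 LD2_c55 LD3_c14))))))
theorem f229889 : Led Lsl_et (LP (LK LD1_c15 LD2_c14 LD3_c43)) = (LP (LK LD1_c8 LD2_c5 LD3_c51)) :=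
  Lre_e IH (LK LD1_c15 LD2_c14 LD3_c43) (LK LD1_c8 LD2_c5 LD3_c51) Lrfl Lrfl
theorem f237059 : Led Lsl_dt (LP (LK LD1_c15 LD2_c14 LD3_c43)) = (LP (LK LD1_c10 LD2_c0 LD3_c53)) :=
  Lgr Lrot136 (Lpr_et (f229889 IH) (Lpe (f229081 IH) (Lpe (K13.f229064 IH) (Lpr_dt (f229649 IH) (Lpe (K13.f229710 IH) (Lpr_df (K13.f237005 IH) (Lpe (K13.f237057 IH) (Lpe (K15.f171607 IH) (Lpe (K15.f192608 IH) (Lpe (f192614 IH) (Lpn (LP (LK LD1_c10 LD2_c0 LD3_c53)))))))))))))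
theorem f323797 : Led Lsl_gt (LP (LK LD1_c8 LD2_c5 LD3_c51)) = (LP (LK LD1_c8 LD2_c5 LD3_c31)) :=
  Lgr Lrot137 (Lpe (f229889 IH) (Lpr_dt (f237059 IH) (Lpr_gf (f275775 IH) (Lpe (f275905 IH) (Lpr_et (K16.f273249 IH) (Lpr_gf (f275918 IH) (Lpe (f229703 IH) (Lpr_dt (f229694 IH) (Lpr_gf (f323780 IH) (Lpe (K18.f243096 IH) (Lpn (LP (LK LD1_c8 LD2_c5 LD3_c31)))))))))))))
theorem f290065 : Led Lsl_bf (LP (LK LD1_c2 LD2_c3 LD3_c43)) = (LP (LK LD1_c2 LD2_c6 LD3_c57)) :=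
  Lgr Lrot90 (Lpr_ct (K16.f276638 IH) (Lpr_bt (K18.f256480 IH) (Lpe (K18.f288789 IH) (Lpr_bt (K17.f290061 IH) (Lpr_ct (K17.f200605 IH) (Lpn (LP (LK LD1_c2 LD2_c6 LD3_c57))))))))
theorem f190356 : Led Lsl_et (LP (LK LD1_c1 LD2_c15 LD3_c38)) = (LP (LK LD1_c2 LD2_c37 LD3_c15)) :=
  Lre_e IH (LK LD1_c1 LD2_c15 LD3_c38) (LK LD1_c2 LD2_c37 LD3_c15) Lrfl Lrfl
theorem f190357 : Led Lsl_bt (LP (LK LD1_c2 LD2_c37 LD3_c15)) = (LP (LK LD1_c2 LD2_c28 LD3_c16)) :=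
  Lgr Lrot119 (Lpe (f190356 IH) (Lpr_bf (K10.f190346 IH) (Lpe (K13.f184618 IH) (Lpn (LP (LK LD1_c2 LD2_c28 LD3_c16))))))
theorem f311292 : Led Lsl_gf (LP (LK LD1_c2 LD2_c38 LD3_c11)) = (LP (LK LD1_c2 LD2_c28 LD3_c16)) :=
  Lgr Lrot124 (Lpr_bf (K19.f311278 IH) (Lpr_ct (K17.f169147 IH) (Lpr_gt (K17.f290155 IH) (Lpr_cf (K18.f200623 IH) (Lpe (f290065 IH) (Lpr_gt (K19.f276648 IH) (Lpr_ct (K16.f259279 IH) (Lpe (K16.f270923 IH) (Lpe (K15.f190435 IH) (Lpr_bt (f190357 IH) (Lpn (LP (LK LD1_c2 LD2_c28 LD3_c16)))))))))))))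
theorem f311294 : Led Lsl_at (LP (LK LD1_c1 LD2_c16 LD3_c5)) = (LP (LK LD1_c2 LD2_c38 LD3_c11)) :=
  Lre_a IH (LK LD1_c1 LD2_c16 LD3_c5) (LK LD1_c2 LD2_c38 LD3_c11) Lrfl Lrfl
theorem f311295 : Led Lsl_ft (LP (LK LD1_c2 LD2_c38 LD3_c18)) = (LP (LK LD1_c1 LD2_c16 LD3_c5)) :=
  Lre_f IH (LK LD1_c2 LD2_c38 LD3_c18) (LK LD1_c1 LD2_c16 LD3_c5) Lrfl Lrfl
theorem f311296 : Led Lsl_gt (LP (LK LD1_c2 LD2_c38 LD3_c18)) = (LP (LK LD1_c2 LD2_c28 LD3_c16)) :=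
  Lgr Lrot5 (Lpr_ft (f311295 IH) (Lpr_at (f311294 IH) (Lpr_gf (f311292 IH) (Lpn (LP (LK LD1_c2 LD2_c28 LD3_c16))))))
theorem f184776 : Led Lsl_et (LP (LK LD1_c2 LD2_c8 LD3_c12)) = (LP (LK LD1_c4 LD2_c21 LD3_c24)) :=
  Lre_e IH (LK LD1_c2 LD2_c8 LD3_c12) (LK LD1_c4 LD2_c21 LD3_c24) Lrfl Lrfl
theorem f184793 : Led Lsl_gt (LP (LK LD1_c4 LD2_c21 LD3_c24)) = (LP (LK LD1_c8 LD2_c40 LD3_c23)) :=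
  Lre_g IH (LK LD1_c4 LD2_c21 LD3_c24) (LK LD1_c8 LD2_c40 LD3_c23) Lrfl Lrfl
theorem f323799 : Led Lsl_df (LP (LK LD1_c8 LD2_c5 LD3_c51)) = (LP (LK LD1_c8 LD2_c40 LD3_c23)) :=
  Lgr Lrot135 (Lpr_gt (f323797 IH) (Lpr_df (K15.f243058 IH) (Lpe (K18.f296396 IH) (Lpr_gt (K18.f299199 IH) (Lpr_ef (K18.f299273 IH) (Lpr_dt (K18.f290170 IH) (Lpr_gt (f311296 IH) (Lpr_df (K13.f184772 IH) (Lpr_et (f184776 IH) (Lpr_gt (f184793 IH) (Lpn (LP (LK LD1_c8 LD2_c40 LD3_c23)))))))))))))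
theorem f311302 : Led Lsl_et (LP (LK LD1_c8 LD2_c40 LD3_c23)) = (LP (LK LD1_c16 LD2_c14 LD3_c32)) :=
  Lre_e IH (LK LD1_c8 LD2_c40 LD3_c23) (LK LD1_c16 LD2_c14 LD3_c32) Lrfl Lrfl
theorem f229488 : Led Lsl_et (LP (LK LD1_c7 LD2_c55 LD3_c32)) = (LP (LK LD1_c3 LD2_c56 LD3_c58)) :=
  Lre_e IH (LK LD1_c7 LD2_c55 LD3_c32) (LK LD1_c3 LD2_c56 LD3_c58) Lrfl Lrfl
theorem f231447 : Led Lsl_gt (LP (LK LD1_c8 LD2_c39 LD3_c13)) = (LP (LK LD1_c4 LD2_c20 LD3_c47)) :=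
  Lre_g IH (LK LD1_c8 LD2_c39 LD3_c13) (LK LD1_c4 LD2_c20 LD3_c47) Lrfl Lrfl
theorem f39123 : Led Lsl_et (LP (LK LD1_c1 LD2_c1 LD3_c25)) = (LP (LK LD1_c2 LD2_c8 LD3_c34)) :=
  Lre_e IH (LK LD1_c1 LD2_c1 LD3_c25) (LK LD1_c2 LD2_c8 LD3_c34) Lrfl Lrfl
theorem f43066 : Led Lsl_gt (LP (LK LD1_c2 LD2_c8 LD3_c34)) = (LP (LK LD1_c4 LD2_c22 LD3_c15)) :=
  Lre_g IH (LK LD1_c2 LD2_c8 LD3_c34) (LK LD1_c4 LD2_c22 LD3_c15) Lrfl Lrfl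
theorem f229489 : Led Lsl_et (LP (LK LD1_c8 LD2_c42 LD3_c29)) = (LP (LK LD1_c4 LD2_c22 LD3_c15)) :=
  Lre_e IH (LK LD1_c8 LD2_c42 LD3_c29) (LK LD1_c4 LD2_c22 LD3_c15) Lrfl Lrfl
theorem f305477 : Led Lsl_df (LP (LK LD1_c8 LD2_c39 LD3_c13)) = (LP (LK LD1_c8 LD2_c42 LD3_c29)) :=
  Lgr Lrot170 (Lpr_gt (f231447 IH) (Lpr_df (K19.f305468 IH) (Lpr_et (f229488 IH) (Lpr_gt (K13.f229466 IH) (Lpr_dt (K13.f229460 IH) (Lpr_gt (K12.f229481 IH) (Lpe (K12.f42881 IH) (Lpr_et (f39123 IH) (Lpr_gt (f43066 IH) (Lpe (f229489 IH) (Lpn (LP (LK LD1_c8 LD2_c42 LD3_c29)))))))))))))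
theorem f323805 : Led Lsl_gf (LP (LK LD1_c8 LD2_c42 LD3_c29)) = (LP (LK LD1_c16 LD2_c14 LD3_c32)) :=
  Lgr Lrot138 (Lpe (f305477 IH) (Lpr_gt (f231447 IH) (Lpr_df (K19.f305468 IH) (Lpr_et (f229488 IH) (Lpr_gt (K13.f229466 IH) (Lpe (K13.f229686 IH) (Lpe (f229658 IH) (Lpr_gt (f229081 IH) (Lpr_df (f323799 IH) (Lpr_et (f311302 IH) (Lpn (LP (LK LD1_c16 LD2_c14 LD3_c32)))))))))))))
theorem f305483 : Led Lsl_et (LP (LK LD1_c4 LD2_c22 LD3_c15)) = (LP (LK LD1_c8 LD2_c42 LD3_c29)) :=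
  Lre_e IH (LK LD1_c4 LD2_c22 LD3_c15) (LK LD1_c8 LD2_c42 LD3_c29) Lrfl Lrfl
theorem f43067 : Led Lsl_dt (LP (LK LD1_c4 LD2_c22 LD3_c15)) = (LP (LK LD1_c8 LD2_c42 LD3_c28)) :=
  Lre_d IH (LK LD1_c4 LD2_c22 LD3_c15) (LK LD1_c8 LD2_c42 LD3_c28) Lrfl Lrfl
theorem f325934 : Led Lsl_gt (LP (LK LD1_c8 LD2_c42 LD3_c28)) = (LP (LK LD1_c16 LD2_c3 LD3_c36)) :=
  Lgr Lrot112 (Lpe (f43067 IH) (Lpr_et (f305483 IH) (Lpr_gf (f323805 IH) (Lpe (f311302 IH) (Lpe (f323799 IH) (Lpe (f229081 IH) (Lpr_df (f229658 IH) (Lpe (f229491 IH) (Lpe (f229492 IH) (Lpr_dt (f325925 IH) (Lpn (LP (LK LD1_c16 LD2_c3 LD3_c36)))))))))))))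
theorem f43071 : Led Lsl_dt (LP (LK LD1_c8 LD2_c42 LD3_c28)) = (LP (LK LD1_c4 LD2_c22 LD3_c15)) :=
  Lre_d IH (LK LD1_c8 LD2_c42 LD3_c28) (LK LD1_c4 LD2_c22 LD3_c15) Lrfl Lrfl
theorem f308649 : Led Lsl_cf (LP (LK LD1_c4 LD2_c20 LD3_c47)) = (LP (LK LD1_c8 LD2_c37 LD3_c54)) :=
  Lgr Lrot108 (Lpr_ft (K15.f231438 IH) (Lpr_ct (K19.f308642 IH) (Lpr_ft (K19.f308273 IH) (Lpn (LP (LK LD1_c8 LD2_c37 LD3_c54))))))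
theorem f231427 : Led Lsl_bt (LP (LK LD1_c10 LD2_c30 LD3_c34)) = (LP (LK LD1_c19 LD2_c2 LD3_c40)) :=
  Lre_b IH (LK LD1_c10 LD2_c30 LD3_c34) (LK LD1_c19 LD2_c2 LD3_c40) Lrfl Lrfl
theorem f308657 : Led Lsl_bt (LP (LK LD1_c16 LD2_c9 LD3_c61)) = (LP (LK LD1_c8 LD2_c37 LD3_c54)) :=
  Lre_b IH (LK LD1_c16 LD2_c9 LD3_c61) (LK LD1_c8 LD2_c37 LD3_c54) Lrfl Lrfl
theorem f308658 : Led Lsl_ct (LP (LK LD1_c19 LD2_c2 LD3_c40)) = (LP (LK LD1_c16 LD2_c9 LD3_c61)) :=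
  Lgr Lrot83 (Lpe (f231427 IH) (Lpe (K16.f231426 IH) (Lpr_bf (K15.f231422 IH) (Lpr_cf (f308649 IH) (Lpe (f308657 IH) (Lpn (LP (LK LD1_c16 LD2_c9 LD3_c61))))))))
theorem f308662 : Led Lsl_et (LP (LK LD1_c10 LD2_c30 LD3_c32)) = (LP (LK LD1_c19 LD2_c2 LD3_c40)) :=
  Lre_e IH (LK LD1_c10 LD2_c30 LD3_c32) (LK LD1_c19 LD2_c2 LD3_c40) Lrfl Lrfl
theorem f201811 : Led Lsl_et (LP (LK LD1_c16 LD2_c9 LD3_c61)) = (LP (LK LD1_c8 LD2_c37 LD3_c53)) :=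
  Lre_e IH (LK LD1_c16 LD2_c9 LD3_c61) (LK LD1_c8 LD2_c37 LD3_c53) Lrfl Lrfl
theorem f308663 : Led Lsl_cf (LP (LK LD1_c10 LD2_c30 LD3_c32)) = (LP (LK LD1_c8 LD2_c37 LD3_c53)) :=
  Lgr Lrot39 (Lpr_et (f308662 IH) (Lpr_ct (f308658 IH) (Lpr_et (f201811 IH) (Lpn (LP (LK LD1_c8 LD2_c37 LD3_c53))))))
theorem f254302 : Led Lsl_at (LP (LK LD1_c10 LD2_c30 LD3_c32)) = (LP (LK LD1_c19 LD2_c2 LD3_c38)) :=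
  Lre_a IH (LK LD1_c10 LD2_c30 LD3_c32) (LK LD1_c19 LD2_c2 LD3_c38) Lrfl Lrfl
theorem f201820 : Led Lsl_at (LP (LK LD1_c16 LD2_c9 LD3_c60)) = (LP (LK LD1_c8 LD2_c37 LD3_c53)) :=
  Lre_a IH (LK LD1_c16 LD2_c9 LD3_c60) (LK LD1_c8 LD2_c37 LD3_c53) Lrfl Lrfl
theorem f308667 : Led Lsl_ct (LP (LK LD1_c19 LD2_c2 LD3_c38)) = (LP (LK LD1_c16 LD2_c9 LD3_c60)) :=
  Lgr Lrot111 (Lpe (f254302 IH) (Lpr_cf (f308663 IH) (Lpe (f201820 IH) (Lpn (LP (LK LD1_c16 LD2_c9 LD3_c60))))))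
theorem f308675 : Led Lsl_cf (LP (LK LD1_c19 LD2_c2 LD3_c38)) = (LP (LK LD1_c16 LD2_c9 LD3_c60)) :=
  Lgr Lrot11 (Lpr_ct (f308667 IH) (Lpn (LP (LK LD1_c16 LD2_c9 LD3_c60))))
theorem f231449 : Led Lsl_bt (LP (LK LD1_c5 LD2_c20 LD3_c17)) = (LP (LK LD1_c10 LD2_c30 LD3_c32)) :=
  Lre_b IH (LK LD1_c5 LD2_c20 LD3_c17) (LK LD1_c10 LD2_c30 LD3_c32) Lrfl Lrfl
theorem f189365 : Led Lsl_bt (LP (LK LD1_c5 LD2_c21 LD3_c48)) = (LP (LK LD1_c2 LD2_c37 LD3_c28)) :=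
  Lre_b IH (LK LD1_c5 LD2_c21 LD3_c48) (LK LD1_c2 LD2_c37 LD3_c28) Lrfl Lrfl
theorem f253336 : Led Lsl_at (LP (LK LD1_c10 LD2_c33 LD3_c50)) = (LP (LK LD1_c5 LD2_c21 LD3_c48)) :=
  Lre_a IH (LK LD1_c10 LD2_c33 LD3_c50) (LK LD1_c5 LD2_c21 LD3_c48) Lrfl Lrfl
theorem f254303 : Led Lsl_bt (LP (LK LD1_c19 LD2_c2 LD3_c38)) = (LP (LK LD1_c10 LD2_c33 LD3_c50)) :=
  Lgr Lrot62 (Lpe (f254302 IH) (Lpe (f231449 IH) (Lpr_af (K14.f254297 IH) (Lpe (f189365 IH) (Lpe (f253336 IH) (Lpn (LP (LK LD1_c10 LD2_c33 LD3_c50))))))))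
theorem f253337 : Led Lsl_ct (LP (LK LD1_c10 LD2_c33 LD3_c50)) = (LP (LK LD1_c19 LD2_c7 LD3_c38)) :=
  Lre_c IH (LK LD1_c10 LD2_c33 LD3_c50) (LK LD1_c19 LD2_c7 LD3_c38) Lrfl Lrfl
theorem f188114 : Led Lsl_bt (LP (LK LD1_c8 LD2_c11 LD3_c39)) = (LP (LK LD1_c4 LD2_c5 LD3_c23)) :=
  Lre_b IH (LK LD1_c8 LD2_c11 LD3_c39) (LK LD1_c4 LD2_c5 LD3_c23) Lrfl Lrfl
theorem f227391 : Led Lsl_at (LP (LK LD1_c15 LD2_c25 LD3_c38)) = (LP (LK LD1_c8 LD2_c11 LD3_c39)) :=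
  Lre_a IH (LK LD1_c15 LD2_c25 LD3_c38) (LK LD1_c8 LD2_c11 LD3_c39) Lrfl Lrfl
theorem f188029 : Led Lsl_bt (LP (LK LD1_c5 LD2_c21 LD3_c44)) = (LP (LK LD1_c10 LD2_c33 LD3_c40)) :=
  Lre_b IH (LK LD1_c5 LD2_c21 LD3_c44) (LK LD1_c10 LD2_c33 LD3_c40) Lrfl Lrfl
theorem f253330 : Led Lsl_at (LP (LK LD1_c10 LD2_c33 LD3_c40)) = (LP (LK LD1_c19 LD2_c7 LD3_c38)) :=
  Lre_a IH (LK LD1_c10 LD2_c33 LD3_c40) (LK LD1_c19 LD2_c7 LD3_c38) Lrfl Lrfl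
theorem f284651 : Led Lsl_bf (LP (LK LD1_c15 LD2_c25 LD3_c38)) = (LP (LK LD1_c19 LD2_c7 LD3_c38)) :=
  Lgr Lrot81 (Lpr_at (f227391 IH) (Lpr_bt (f188114 IH) (Lpr_at (K17.f284646 IH) (Lpr_bt (f188029 IH) (Lpr_at (f253330 IH) (Lpn (LP (LK LD1_c19 LD2_c7 LD3_c38))))))))
theorem f308305 : Led Lsl_ft (LP (LK LD1_c16 LD2_c11 LD3_c25)) = (LP (LK LD1_c8 LD2_c38 LD3_c40)) :=
  Lre_f IH (LK LD1_c16 LD2_c11 LD3_c25) (LK LD1_c8 LD2_c38 LD3_c40) Lrfl Lrfl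
theorem f308306 : Led Lsl_af (LP (LK LD1_c8 LD2_c37 LD3_c54)) = (LP (LK LD1_c8 LD2_c38 LD3_c40)) :=
  Lgr Lrot45 (Lpr_ft (K19.f308282 IH) (Lpr_at (K19.f308302 IH) (Lpr_ft (f308305 IH) (Lpn (LP (LK LD1_c8 LD2_c38 LD3_c40))))))
theorem f308309 : Led Lsl_at (LP (LK LD1_c4 LD2_c19 LD3_c58)) = (LP (LK LD1_c4 LD2_c20 LD3_c25)) :=
  Lgr Lrot80 (Lpe (K19.f54217 IH) (Lpr_af (f308306 IH) (Lpe (K19.f194347 IH) (Lpn (LP (LK LD1_c4 LD2_c20 LD3_c25))))))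
theorem f33022 : Led Lsl_bt (LP (LK LD1_c8 LD2_c37 LD3_c53)) = (LP (LK LD1_c4 LD2_c19 LD3_c58)) :=
  Lre_b IH (LK LD1_c8 LD2_c37 LD3_c53) (LK LD1_c4 LD2_c19 LD3_c58) Lrfl Lrfl
theorem f194342 : Led Lsl_bt (LP (LK LD1_c4 LD2_c20 LD3_c25)) = (LP (LK LD1_c8 LD2_c38 LD3_c39)) :=
  Lre_b IH (LK LD1_c4 LD2_c20 LD3_c25) (LK LD1_c8 LD2_c38 LD3_c39) Lrfl Lrfl
theorem f227389 : Led Lsl_at (LP (LK LD1_c8 LD2_c38 LD3_c39)) = (LP (LK LD1_c16 LD2_c11 LD3_c22)) :=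
  Lre_a IH (LK LD1_c8 LD2_c38 LD3_c39) (LK LD1_c16 LD2_c11 LD3_c22) Lrfl Lrfl
theorem f308311 : Led Lsl_bf (LP (LK LD1_c16 LD2_c9 LD3_c60)) = (LP (LK LD1_c16 LD2_c11 LD3_c22)) :=
  Lgr Lrot81 (Lpr_at (f201820 IH) (Lpr_bt (f33022 IH) (Lpr_at (f308309 IH) (Lpr_bt (f194342 IH) (Lpr_at (f227389 IH) (Lpn (LP (LK LD1_c16 LD2_c11 LD3_c22))))))))
theorem f308677 : Led Lsl_ct (LP (LK LD1_c15 LD2_c25 LD3_c38)) = (LP (LK LD1_c16 LD2_c11 LD3_c22)) :=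
  Lgr Lrot83 (Lpr_bf (f284651 IH) (Lpe (f253337 IH) (Lpe (f254303 IH) (Lpr_cf (f308675 IH) (Lpr_bf (f308311 IH) (Lpn (LP (LK LD1_c16 LD2_c11 LD3_c22))))))))
theorem f308682 : Led Lsl_cf (LP (LK LD1_c15 LD2_c25 LD3_c38)) = (LP (LK LD1_c16 LD2_c11 LD3_c22)) :=
  Lgr Lrot11 (Lpr_ct (f308677 IH) (Lpn (LP (LK LD1_c16 LD2_c11 LD3_c22))))
theorem f308684 : Led Lsl_ct (LP (LK LD1_c8 LD2_c11 LD3_c39)) = (LP (LK LD1_c8 LD2_c38 LD3_c39)) :=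
  Lgr Lrot111 (Lpe (f227391 IH) (Lpr_cf (f308682 IH) (Lpe (f227389 IH) (Lpn (LP (LK LD1_c8 LD2_c38 LD3_c39))))))
theorem f308686 : Led Lsl_et (LP (LK LD1_c15 LD2_c25 LD3_c39)) = (LP (LK LD1_c8 LD2_c11 LD3_c39)) :=
  Lre_e IH (LK LD1_c15 LD2_c25 LD3_c39) (LK LD1_c8 LD2_c11 LD3_c39) Lrfl Lrfl
theorem f227388 : Led Lsl_et (LP (LK LD1_c8 LD2_c38 LD3_c39)) = (LP (LK LD1_c16 LD2_c11 LD3_c23)) :=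
  Lre_e IH (LK LD1_c8 LD2_c38 LD3_c39) (LK LD1_c16 LD2_c11 LD3_c23) Lrfl Lrfl
theorem f308687 : Led Lsl_cf (LP (LK LD1_c15 LD2_c25 LD3_c39)) = (LP (LK LD1_c16 LD2_c11 LD3_c23)) :=
  Lgr Lrot39 (Lpr_et (f308686 IH) (Lpr_ct (f308684 IH) (Lpr_et (f227388 IH) (Lpn (LP (LK LD1_c16 LD2_c11 LD3_c23))))))
theorem f188100 : Led Lsl_bt (LP (LK LD1_c15 LD2_c25 LD3_c39)) = (LP (LK LD1_c8 LD2_c11 LD3_c41)) :=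
  Lre_b IH (LK LD1_c15 LD2_c25 LD3_c39) (LK LD1_c8 LD2_c11 LD3_c41) Lrfl Lrfl
theorem f308655 : Led Lsl_bt (LP (LK LD1_c8 LD2_c38 LD3_c40)) = (LP (LK LD1_c16 LD2_c11 LD3_c23)) :=
  Lre_b IH (LK LD1_c8 LD2_c38 LD3_c40) (LK LD1_c16 LD2_c11 LD3_c23) Lrfl Lrfl
theorem f308691 : Led Lsl_bt (LP (LK LD1_c8 LD2_c15 LD3_c42)) = (LP (LK LD1_c4 LD2_c20 LD3_c57)) :=
  Lgr Lrot128 (Lpr_cf (K17.f188069 IH) (Lpe (f188100 IH) (Lpr_cf (f308687 IH) (Lpe (f308655 IH) (Lpe (f308653 IH) (Lpn (LP (LK LD1_c4 LD2_c20 LD3_c57))))))))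
theorem f284473 : Led Lsl_af (LP (LK LD1_c8 LD2_c15 LD3_c42)) = (LP (LK LD1_c5 LD2_c21 LD3_c45)) :=
  Lgr Lrot0 (Lpr_at (K17.f284468 IH) (Lpn (LP (LK LD1_c5 LD2_c21 LD3_c45))))
theorem f308696 : Led Lsl_af (LP (LK LD1_c4 LD2_c20 LD3_c47)) = (LP (LK LD1_c4 LD2_c20 LD3_c57)) :=
  Lgr Lrot36 (Lpe (K15.f231422 IH) (Lpr_at (K14.f254395 IH) (Lpr_bt (f250985 IH) (Lpe (f284473 IH) (Lpr_bt (f308691 IH) (Lpn (LP (LK LD1_c4 LD2_c20 LD3_c57))))))))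
theorem f308698 : Led Lsl_gf (LP (LK LD1_c8 LD2_c39 LD3_c13)) = (LP (LK LD1_c8 LD2_c39 LD3_c35)) :=
  Lgr Lrot47 (Lpr_gt (f231447 IH) (Lpr_af (f308696 IH) (Lpe (K19.f255572 IH) (Lpn (LP (LK LD1_c8 LD2_c39 LD3_c35))))))
theorem f305541 : Led Lsl_et (LP (LK LD1_c8 LD2_c40 LD3_c17)) = (LP (LK LD1_c8 LD2_c8 LD3_c7)) :=
  Lgr Lrot123 (Lpr_af (K19.f305533 IH) (Lpe (K19.f269390 IH) (Lpr_af (K16.f269375 IH) (Lpn (LP (LK LD1_c8 LD2_c8 LD3_c7))))))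
theorem f256755 : Led Lsl_dt (LP (LK LD1_c8 LD2_c8 LD3_c7)) = (LP (LK LD1_c4 LD2_c3 LD3_c51)) :=
  Lre_d IH (LK LD1_c8 LD2_c8 LD3_c7) (LK LD1_c4 LD2_c3 LD3_c51) Lrfl Lrfl
theorem f305640 : Led Lsl_gt (LP (LK LD1_c8 LD2_c36 LD3_c56)) = (LP (LK LD1_c8 LD2_c8 LD3_c7)) :=
  Lgr Lrot137 (Lpe (K13.f236471 IH) (Lpr_dt (K13.f39157 IH) (Lpe (K13.f39146 IH) (Lpr_df (K13.f42910 IH) (Lpr_et (K11.f43062 IH) (Lpe (K13.f233258 IH) (Lpe (K15.f233268 IH) (Lpe (K15.f238527 IH) (Lpr_gf (K19.f305636 IH) (Lpe (f256755 IH) (Lpn (LP (LK LD1_c8 LD2_c8 LD3_c7)))))))))))))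
theorem f308700 : Led Lsl_gt (LP (LK LD1_c4 LD2_c22 LD3_c15)) = (LP (LK LD1_c7 LD2_c55 LD3_c29)) :=
  Lgr Lrot137 (Lpe (f229489 IH) (Lpe (f305477 IH) (Lpr_gf (f308698 IH) (Lpe (K19.f305555 IH) (Lpr_et (f305541 IH) (Lpe (f305640 IH) (Lpe (K13.f236471 IH) (Lpr_dt (K13.f39157 IH) (Lpe (K13.f39146 IH) (Lpr_df (K13.f42910 IH) (Lpn (LP (LK LD1_c7 LD2_c55 LD3_c29)))))))))))))
theorem f200082 : Led Lsl_ff (LP (LK LD1_c7 LD2_c56 LD3_c0)) = (LP (LK LD1_c9 LD2_c35 LD3_c7)) :=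
  Lgr Lrot19 (Lpr_dt (K9.f39017 IH) (Lpr_ft (K18.f200072 IH) (Lpr_dt (K13.f200059 IH) (Lpn (LP (LK LD1_c9 LD2_c35 LD3_c7))))))
theorem f38994 : Led Lsl_et (LP (LK LD1_c4 LD2_c22 LD3_c14)) = (LP (LK LD1_c2 LD2_c8 LD3_c33)) :=
  Lre_e IH (LK LD1_c4 LD2_c22 LD3_c14) (LK LD1_c2 LD2_c8 LD3_c33) Lrfl Lrfl
theorem f38995 : Led Lsl_at (LP (LK LD1_c7 LD2_c56 LD3_c0)) = (LP (LK LD1_c4 LD2_c22 LD3_c14)) :=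
  Lgr Lrot80 (Lpe (K9.f38993 IH) (Lpr_af (K1.f38961 IH) (Lpe (f38994 IH) (Lpn (LP (LK LD1_c4 LD2_c22 LD3_c14))))))
theorem f200087 : Led Lsl_gf (LP (LK LD1_c8 LD2_c42 LD3_c25)) = (LP (LK LD1_c9 LD2_c35 LD3_c7)) :=
  Lgr Lrot47 (Lpr_gt (K19.f39562 IH) (Lpe (f38995 IH) (Lpr_ff (f200082 IH) (Lpn (LP (LK LD1_c9 LD2_c35 LD3_c7))))))
theorem f308759 : Led Lsl_ct (LP (LK LD1_c8 LD2_c42 LD3_c25)) = (LP (LK LD1_c4 LD2_c53 LD3_c18)) :=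
  Lgr Lrot59 (Lpr_cf (K19.f308756 IH) (Lpn (LP (LK LD1_c4 LD2_c53 LD3_c18))))
theorem f29797 : Led Lsl_dt (LP (LK LD1_c4 LD2_c53 LD3_c18)) = (LP (LK LD1_c9 LD2_c38 LD3_c40)) :=
  Lre_d IH (LK LD1_c4 LD2_c53 LD3_c18) (LK LD1_c9 LD2_c38 LD3_c40) Lrfl Lrfl
theorem f29799 : Led Lsl_ct (LP (LK LD1_c17 LD2_c44 LD3_c59)) = (LP (LK LD1_c9 LD2_c38 LD3_c40)) :=
  Lre_c IH (LK LD1_c17 LD2_c44 LD3_c59) (LK LD1_c9 LD2_c38 LD3_c40) Lrfl Lrfl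
theorem f184476 : Led Lsl_ct (LP (LK LD1_c16 LD2_c3 LD3_c36)) = (LP (LK LD1_c26 LD2_c0 LD3_c59)) :=
  Lre_c IH (LK LD1_c16 LD2_c3 LD3_c36) (LK LD1_c26 LD2_c0 LD3_c59) Lrfl Lrfl
theorem f325938 : Led Lsl_gf (LP (LK LD1_c17 LD2_c44 LD3_c59)) = (LP (LK LD1_c26 LD2_c0 LD3_c59)) :=
  Lgr Lrot104 (Lpr_ct (f29799 IH) (Lpe (f29797 IH) (Lpe (f308759 IH) (Lpr_gf (f200087 IH) (Lpe (K13.f200056 IH) (Lpe (f308700 IH) (Lpe (f43071 IH) (Lpr_gt (f325934 IH) (Lpr_ct (f184476 IH) (Lpn (LP (LK LD1_c26 LD2_c0 LD3_c59))))))))))))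
theorem f325927 : Led Lsl_et (LP (LK LD1_c8 LD2_c33 LD3_c18)) = (LP (LK LD1_c16 LD2_c3 LD3_c36)) :=
  Lre_e IH (LK LD1_c8 LD2_c33 LD3_c18) (LK LD1_c16 LD2_c3 LD3_c36) Lrfl Lrfl
theorem f325928 : Led Lsl_gf (LP (LK LD1_c8 LD2_c42 LD3_c31)) = (LP (LK LD1_c16 LD2_c3 LD3_c36)) :=
  Lgr Lrot141 (Lpr_ef (K13.f236468 IH) (Lpr_dt (K19.f228075 IH) (Lpe (f275888 IH) (Lpr_df (K20.f275884 IH) (Lpe (K20.f275873 IH) (Lpr_gt (K20.f229729 IH) (Lpe (K15.f229717 IH) (Lpr_gt (f229160 IH) (Lpr_df (f325920 IH) (Lpr_et (f325927 IH) (Lpn (LP (LK LD1_c16 LD2_c3 LD3_c36)))))))))))))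
theorem f39121 : Led Lsl_ct (LP (LK LD1_c4 LD2_c22 LD3_c14)) = (LP (LK LD1_c2 LD2_c8 LD3_c34)) :=
  Lre_c IH (LK LD1_c4 LD2_c22 LD3_c14) (LK LD1_c2 LD2_c8 LD3_c34) Lrfl Lrfl
theorem f39148 : Led Lsl_dt (LP (LK LD1_c8 LD2_c42 LD3_c26)) = (LP (LK LD1_c4 LD2_c22 LD3_c14)) :=
  Lre_d IH (LK LD1_c8 LD2_c42 LD3_c26) (LK LD1_c4 LD2_c22 LD3_c14) Lrfl Lrfl
theorem f39587 : Led Lsl_gt (LP (LK LD1_c16 LD2_c18 LD3_c50)) = (LP (LK LD1_c8 LD2_c42 LD3_c26)) :=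
  Lre_g IH (LK LD1_c16 LD2_c18 LD3_c50) (LK LD1_c8 LD2_c42 LD3_c26) Lrfl Lrfl
theorem f325940 : Led Lsl_dt (LP (LK LD1_c17 LD2_c44 LD3_c59)) = (LP (LK LD1_c16 LD2_c18 LD3_c50)) :=
  Lgr Lrot57 (Lpr_gf (f325938 IH) (Lpe (f184476 IH) (Lpe (f325928 IH) (Lpr_dt (K13.f39157 IH) (Lpr_gt (K13.f39145 IH) (Lpe (K13.f42908 IH) (Lpe (f39121 IH) (Lpe (f39148 IH) (Lpe (f39587 IH) (Lpn (LP (LK LD1_c16 LD2_c18 LD3_c50))))))))))))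
theorem f247230 : Led Lsl_ct (LP (LK LD1_c15 LD2_c23 LD3_c19)) = (LP (LK LD1_c8 LD2_c10 LD3_c17)) :=
  Lre_c IH (LK LD1_c15 LD2_c23 LD3_c19) (LK LD1_c8 LD2_c10 LD3_c17) Lrfl Lrfl
theorem f29798 : Led Lsl_ct (LP (LK LD1_c9 LD2_c38 LD3_c40)) = (LP (LK LD1_c17 LD2_c44 LD3_c59)) :=
  Lre_c IH (LK LD1_c9 LD2_c38 LD3_c40) (LK LD1_c17 LD2_c44 LD3_c59) Lrfl Lrfl
theorem f299326 : Led Lsl_ef (LP (LK LD1_c15 LD2_c23 LD3_c19)) = (LP (LK LD1_c17 LD2_c44 LD3_c59)) :=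
  Lgr Lrot28 (Lpr_ct (f247230 IH) (Lpr_et (K20.f299321 IH) (Lpr_ct (f29798 IH) (Lpn (LP (LK LD1_c17 LD2_c44 LD3_c59))))))
theorem f238891 : Led Lsl_et (LP (LK LD1_c4 LD2_c19 LD3_c18)) = (LP (LK LD1_c8 LD2_c36 LD3_c58)) :=
  Lre_e IH (LK LD1_c4 LD2_c19 LD3_c18) (LK LD1_c8 LD2_c36 LD3_c58) Lrfl Lrfl
theorem f325946 : Led Lsl_gf (LP (LK LD1_c15 LD2_c23 LD3_c19)) = (LP (LK LD1_c8 LD2_c36 LD3_c58)) :=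
  Lgr Lrot141 (Lpr_ef (f299326 IH) (Lpr_dt (f325940 IH) (Lpr_gt (f39587 IH) (Lpe (K13.f39560 IH) (Lpr_et (f38994 IH) (Lpr_gt (K14.f238883 IH) (Lpr_dt (K14.f196371 IH) (Lpe (K13.f238877 IH) (Lpe (K13.f238612 IH) (Lpr_et (f238891 IH) (Lpn (LP (LK LD1_c8 LD2_c36 LD3_c58)))))))))))))
theorem f269377 : Led Lsl_ft (LP (LK LD1_c8 LD2_c36 LD3_c58)) = (LP (LK LD1_c16 LD2_c8 LD3_c29)) :=
  Lre_f IH (LK LD1_c8 LD2_c36 LD3_c58) (LK LD1_c16 LD2_c8 LD3_c29) Lrfl Lrfl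
theorem f325948 : Led Lsl_gt (LP (LK LD1_c15 LD2_c23 LD3_c19)) = (LP (LK LD1_c15 LD2_c19 LD3_c2)) :=
  Lgr Lrot46 (Lpr_gf (f325946 IH) (Lpr_ft (f269377 IH) (Lpr_at (K16.f269373 IH) (Lpn (LP (LK LD1_c15 LD2_c19 LD3_c2))))))
theorem f199264 : Led Lsl_ct (LP (LK LD1_c8 LD2_c10 LD3_c17)) = (LP (LK LD1_c15 LD2_c23 LD3_c19)) :=
  Lre_c IH (LK LD1_c8 LD2_c10 LD3_c17) (LK LD1_c15 LD2_c23 LD3_c19) Lrfl Lrfl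
theorem f193335 : Led Lsl_gt (LP (LK LD1_c1 LD2_c59 LD3_c21)) = (LP (LK LD1_c4 LD2_c4 LD3_c41)) :=
  Lre_g IH (LK LD1_c1 LD2_c59 LD3_c21) (LK LD1_c4 LD2_c4 LD3_c41) Lrfl Lrfl
theorem f291151 : Led Lsl_ct (LP (LK LD1_c4 LD2_c4 LD3_c41)) = (LP (LK LD1_c8 LD2_c10 LD3_c12)) :=
  Lre_c IH (LK LD1_c4 LD2_c4 LD3_c41) (LK LD1_c8 LD2_c10 LD3_c12) Lrfl Lrfl
theorem f256754 : Led Lsl_ct (LP (LK LD1_c8 LD2_c7 LD3_c61)) = (LP (LK LD1_c4 LD2_c3 LD3_c51)) :=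
  Lre_c IH (LK LD1_c8 LD2_c7 LD3_c61) (LK LD1_c4 LD2_c3 LD3_c51) Lrfl Lrfl
theorem f325950 : Led Lsl_gt (LP (LK LD1_c8 LD2_c10 LD3_c12)) = (LP (LK LD1_c8 LD2_c7 LD3_c61)) :=
  Lgr Lrot150 (Lpe (f291151 IH) (Lpe (f193335 IH) (Lpe (K19.f199255 IH) (Lpr_gt (K19.f199260 IH) (Lpr_ct (f199264 IH) (Lpr_gt (f325948 IH) (Lpr_ct (K16.f237149 IH) (Lpe (K19.f256747 IH) (Lpe (f256754 IH) (Lpn (LP (LK LD1_c8 LD2_c7 LD3_c61))))))))))))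
theorem f309932 : Led Lsl_bt (LP (LK LD1_c4 LD2_c4 LD3_c41)) = (LP (LK LD1_c8 LD2_c10 LD3_c11)) :=
  Lre_b IH (LK LD1_c4 LD2_c4 LD3_c41) (LK LD1_c8 LD2_c10 LD3_c11) Lrfl Lrfl
theorem f275793 : Led Lsl_ff (LP (LK LD1_c5 LD2_c25 LD3_c52)) = (LP (LK LD1_c5 LD2_c17 LD3_c48)) :=
  Lgr Lrot23 (Lpr_ct (K15.f216174 IH) (Lpr_ft (K18.f275791 IH) (Lpr_ct (K17.f49083 IH) (Lpn (LP (LK LD1_c5 LD2_c17 LD3_c48))))))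
theorem f275798 : Led Lsl_ft (LP (LK LD1_c5 LD2_c25 LD3_c52)) = (LP (LK LD1_c5 LD2_c17 LD3_c48)) :=
  Lgr Lrot48 (Lpr_ff (f275793 IH) (Lpn (LP (LK LD1_c5 LD2_c17 LD3_c48))))
theorem f216175 : Led Lsl_bt (LP (LK LD1_c10 LD2_c42 LD3_c58)) = (LP (LK LD1_c5 LD2_c25 LD3_c52)) :=
  Lre_b IH (LK LD1_c10 LD2_c42 LD3_c58) (LK LD1_c5 LD2_c25 LD3_c52) Lrfl Lrfl
theorem f49085 : Led Lsl_bt (LP (LK LD1_c5 LD2_c17 LD3_c48)) = (LP (LK LD1_c10 LD2_c25 LD3_c12)) :=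
  Lre_b IH (LK LD1_c5 LD2_c17 LD3_c48) (LK LD1_c10 LD2_c25 LD3_c12) Lrfl Lrfl
theorem f275802 : Led Lsl_ff (LP (LK LD1_c10 LD2_c42 LD3_c58)) = (LP (LK LD1_c10 LD2_c25 LD3_c12)) :=
  Lgr Lrot25 (Lpr_bt (f216175 IH) (Lpr_ft (f275798 IH) (Lpr_bt (f49085 IH) (Lpn (LP (LK LD1_c10 LD2_c25 LD3_c12))))))
theorem f260292 : Led Lsl_et (LP (LK LD1_c15 LD2_c27 LD3_c58)) = (LP (LK LD1_c8 LD2_c13 LD3_c20)) :=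
  Lre_e IH (LK LD1_c15 LD2_c27 LD3_c58) (LK LD1_c8 LD2_c13 LD3_c20) Lrfl Lrfl
theorem f260293 : Led Lsl_ct (LP (LK LD1_c10 LD2_c24 LD3_c58)) = (LP (LK LD1_c15 LD2_c27 LD3_c58)) :=
  Lgr Lrot15 (Lpe (K18.f260291 IH) (Lpr_cf (K15.f260283 IH) (Lpe (f260292 IH) (Lpn (LP (LK LD1_c15 LD2_c27 LD3_c58))))))
theorem f260347 : Led Lsl_cf (LP (LK LD1_c10 LD2_c24 LD3_c58)) = (LP (LK LD1_c15 LD2_c27 LD3_c58)) :=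
  Lgr Lrot11 (Lpr_ct (f260293 IH) (Lpn (LP (LK LD1_c15 LD2_c27 LD3_c58))))
theorem f260352 : Led Lsl_bt (LP (LK LD1_c10 LD2_c24 LD3_c58)) = (LP (LK LD1_c5 LD2_c17 LD3_c46)) :=
  Lre_b IH (LK LD1_c10 LD2_c24 LD3_c58) (LK LD1_c5 LD2_c17 LD3_c46) Lrfl Lrfl
theorem f260353 : Led Lsl_ct (LP (LK LD1_c5 LD2_c17 LD3_c46)) = (LP (LK LD1_c10 LD2_c25 LD3_c10)) :=
  Lre_c IH (LK LD1_c5 LD2_c17 LD3_c46) (LK LD1_c10 LD2_c25 LD3_c10) Lrfl Lrfl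
theorem f260354 : Led Lsl_bt (LP (LK LD1_c10 LD2_c25 LD3_c10)) = (LP (LK LD1_c18 LD2_c54 LD3_c14)) :=
  Lre_b IH (LK LD1_c10 LD2_c25 LD3_c10) (LK LD1_c18 LD2_c54 LD3_c14) Lrfl Lrfl
theorem f260355 : Led Lsl_bt (LP (LK LD1_c25 LD2_c19 LD3_c47)) = (LP (LK LD1_c15 LD2_c27 LD3_c58)) :=
  Lre_b IH (LK LD1_c25 LD2_c19 LD3_c47) (LK LD1_c15 LD2_c27 LD3_c58) Lrfl Lrfl
theorem f260356 : Led Lsl_ct (LP (LK LD1_c18 LD2_c54 LD3_c14)) = (LP (LK LD1_c25 LD2_c19 LD3_c47)) :=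
  Lgr Lrot83 (Lpe (f260354 IH) (Lpe (f260353 IH) (Lpe (f260352 IH) (Lpr_cf (f260347 IH) (Lpe (f260355 IH) (Lpn (LP (LK LD1_c25 LD2_c19 LD3_c47))))))))
theorem f260360 : Led Lsl_et (LP (LK LD1_c10 LD2_c25 LD3_c12)) = (LP (LK LD1_c18 LD2_c54 LD3_c14)) :=
  Lre_e IH (LK LD1_c10 LD2_c25 LD3_c12) (LK LD1_c18 LD2_c54 LD3_c14) Lrfl Lrfl
theorem f260338 : Led Lsl_et (LP (LK LD1_c25 LD2_c19 LD3_c47)) = (LP (LK LD1_c15 LD2_c27 LD3_c56)) :=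
  Lre_e IH (LK LD1_c25 LD2_c19 LD3_c47) (LK LD1_c15 LD2_c27 LD3_c56) Lrfl Lrfl
theorem f260361 : Led Lsl_cf (LP (LK LD1_c10 LD2_c25 LD3_c12)) = (LP (LK LD1_c15 LD2_c27 LD3_c56)) :=
  Lgr Lrot39 (Lpr_et (f260360 IH) (Lpr_ct (f260356 IH) (Lpr_et (f260338 IH) (Lpn (LP (LK LD1_c15 LD2_c27 LD3_c56))))))
theorem f257998 : Led Lsl_bt (LP (LK LD1_c10 LD2_c35 LD3_c44)) = (LP (LK LD1_c19 LD2_c11 LD3_c14)) :=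
  Lre_b IH (LK LD1_c10 LD2_c35 LD3_c44) (LK LD1_c19 LD2_c11 LD3_c14) Lrfl Lrfl
theorem f260285 : Led Lsl_bt (LP (LK LD1_c15 LD2_c27 LD3_c56)) = (LP (LK LD1_c8 LD2_c13 LD3_c20)) :=
  Lre_b IH (LK LD1_c15 LD2_c27 LD3_c56) (LK LD1_c8 LD2_c13 LD3_c20) Lrfl Lrfl
theorem f260314 : Led Lsl_ft (LP (LK LD1_c19 LD2_c11 LD3_c14)) = (LP (LK LD1_c15 LD2_c27 LD3_c56)) :=
  Lgr Lrot75 (Lpe (f257998 IH) (Lpr_ff (K16.f260312 IH) (Lpe (f260285 IH) (Lpn (LP (LK LD1_c15 LD2_c27 LD3_c56))))))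
theorem f275807 : Led Lsl_ct (LP (LK LD1_c10 LD2_c42 LD3_c58)) = (LP (LK LD1_c19 LD2_c11 LD3_c14)) :=
  Lgr Lrot40 (Lpr_ff (f275802 IH) (Lpr_cf (f260361 IH) (Lpe (f260314 IH) (Lpn (LP (LK LD1_c19 LD2_c11 LD3_c14))))))
theorem f275813 : Led Lsl_cf (LP (LK LD1_c10 LD2_c42 LD3_c58)) = (LP (LK LD1_c19 LD2_c11 LD3_c14)) :=
  Lgr Lrot11 (Lpr_ct (f275807 IH) (Lpn (LP (LK LD1_c19 LD2_c11 LD3_c14))))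
theorem f273460 : Led Lsl_at (LP (LK LD1_c10 LD2_c42 LD3_c58)) = (LP (LK LD1_c19 LD2_c23 LD3_c48)) :=
  Lre_a IH (LK LD1_c10 LD2_c42 LD3_c58) (LK LD1_c19 LD2_c23 LD3_c48) Lrfl Lrfl
theorem f260319 : Led Lsl_at (LP (LK LD1_c28 LD2_c37 LD3_c5)) = (LP (LK LD1_c19 LD2_c11 LD3_c14)) :=
  Lre_a IH (LK LD1_c28 LD2_c37 LD3_c5) (LK LD1_c19 LD2_c11 LD3_c14) Lrfl Lrfl
theorem f275816 : Led Lsl_ct (LP (LK LD1_c19 LD2_c23 LD3_c48)) = (LP (LK LD1_c28 LD2_c37 LD3_c5)) :=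
  Lgr Lrot111 (Lpe (f273460 IH) (Lpr_cf (f275813 IH) (Lpe (f260319 IH) (Lpn (LP (LK LD1_c28 LD2_c37 LD3_c5))))))
theorem f167743 : Led Lsl_ct (LP (LK LD1_c4 LD2_c29 LD3_c12)) = (LP (LK LD1_c8 LD2_c56 LD3_c41)) :=
  Lre_c IH (LK LD1_c4 LD2_c29 LD3_c12) (LK LD1_c8 LD2_c56 LD3_c41) Lrfl Lrfl
theorem f260425 : Led Lsl_ct (LP (LK LD1_c8 LD2_c31 LD3_c29)) = (LP (LK LD1_c4 LD2_c16 LD3_c10)) :=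
  Lre_c IH (LK LD1_c8 LD2_c31 LD3_c29) (LK LD1_c4 LD2_c16 LD3_c10) Lrfl Lrfl
theorem f273437 : Led Lsl_ft (LP (LK LD1_c8 LD2_c56 LD3_c41)) = (LP (LK LD1_c8 LD2_c31 LD3_c29)) :=
  Lgr Lrot4 (Lpe (f167743 IH) (Lpr_ff (K16.f273433 IH) (Lpe (f260425 IH) (Lpn (LP (LK LD1_c8 LD2_c31 LD3_c29))))))
theorem f273451 : Led Lsl_ff (LP (LK LD1_c8 LD2_c56 LD3_c41)) = (LP (LK LD1_c8 LD2_c31 LD3_c29)) :=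
  Lgr Lrot3 (Lpr_ft (f273437 IH) (Lpn (LP (LK LD1_c8 LD2_c31 LD3_c29))))
theorem f273453 : Led Lsl_et (LP (LK LD1_c8 LD2_c56 LD3_c41)) = (LP (LK LD1_c16 LD2_c44 LD3_c43)) :=
  Lre_e IH (LK LD1_c8 LD2_c56 LD3_c41) (LK LD1_c16 LD2_c44 LD3_c43) Lrfl Lrfl
theorem f273412 : Led Lsl_ct (LP (LK LD1_c8 LD2_c56 LD3_c42)) = (LP (LK LD1_c16 LD2_c44 LD3_c43)) :=
  Lre_c IH (LK LD1_c8 LD2_c56 LD3_c42) (LK LD1_c16 LD2_c44 LD3_c43) Lrfl Lrfl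
theorem f237853 : Led Lsl_ct (LP (LK LD1_c10 LD2_c42 LD3_c56)) = (LP (LK LD1_c5 LD2_c25 LD3_c51)) :=
  Lre_c IH (LK LD1_c10 LD2_c42 LD3_c56) (LK LD1_c5 LD2_c25 LD3_c51) Lrfl Lrfl
theorem f273413 : Led Lsl_ft (LP (LK LD1_c16 LD2_c44 LD3_c43)) = (LP (LK LD1_c10 LD2_c42 LD3_c56)) :=
  Lgr Lrot4 (Lpe (f273412 IH) (Lpr_ff (K16.f273405 IH) (Lpe (f237853 IH) (Lpn (LP (LK LD1_c10 LD2_c42 LD3_c56))))))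
theorem f257155 : Led Lsl_et (LP (LK LD1_c10 LD2_c42 LD3_c56)) = (LP (LK LD1_c5 LD2_c25 LD3_c50)) :=
  Lre_e IH (LK LD1_c10 LD2_c42 LD3_c56) (LK LD1_c5 LD2_c25 LD3_c50) Lrfl Lrfl
theorem f260426 : Led Lsl_ef (LP (LK LD1_c8 LD2_c31 LD3_c29)) = (LP (LK LD1_c6 LD2_c5 LD3_c45)) :=
  Lgr Lrot28 (Lpr_ct (f260425 IH) (Lpr_et (K18.f260421 IH) (Lpr_ct (K10.f183684 IH) (Lpn (LP (LK LD1_c6 LD2_c5 LD3_c45))))))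
theorem f273454 : Led Lsl_ft (LP (LK LD1_c5 LD2_c25 LD3_c50)) = (LP (LK LD1_c6 LD2_c5 LD3_c45)) :=
  Lgr Lrot86 (Lpe (f257155 IH) (Lpe (f273413 IH) (Lpe (f273453 IH) (Lpr_ff (f273451 IH) (Lpr_ef (f260426 IH) (Lpn (LP (LK LD1_c6 LD2_c5 LD3_c45))))))))
theorem f273458 : Led Lsl_af (LP (LK LD1_c5 LD2_c25 LD3_c52)) = (LP (LK LD1_c6 LD2_c5 LD3_c45)) :=
  Lgr Lrot31 (Lpr_gf (K15.f263650 IH) (Lpr_gf (K15.f192465 IH) (Lpr_ft (f273454 IH) (Lpn (LP (LK LD1_c6 LD2_c5 LD3_c45))))))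
theorem f216178 : Led Lsl_bt (LP (LK LD1_c5 LD2_c25 LD3_c52)) = (LP (LK LD1_c10 LD2_c42 LD3_c58)) :=
  Lre_b IH (LK LD1_c5 LD2_c25 LD3_c52) (LK LD1_c10 LD2_c42 LD3_c58) Lrfl Lrfl
theorem f192164 : Led Lsl_bt (LP (LK LD1_c11 LD2_c54 LD3_c60)) = (LP (LK LD1_c6 LD2_c5 LD3_c45)) :=
  Lre_b IH (LK LD1_c11 LD2_c54 LD3_c60) (LK LD1_c6 LD2_c5 LD3_c45) Lrfl Lrfl
theorem f192173 : Led Lsl_at (LP (LK LD1_c20 LD2_c59 LD3_c38)) = (LP (LK LD1_c11 LD2_c54 LD3_c60)) :=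
  Lre_a IH (LK LD1_c20 LD2_c59 LD3_c38) (LK LD1_c11 LD2_c54 LD3_c60) Lrfl Lrfl
theorem f273461 : Led Lsl_bt (LP (LK LD1_c19 LD2_c23 LD3_c48)) = (LP (LK LD1_c20 LD2_c59 LD3_c38)) :=
  Lgr Lrot62 (Lpe (f273460 IH) (Lpe (f216178 IH) (Lpr_af (f273458 IH) (Lpe (f192164 IH) (Lpe (f192173 IH) (Lpn (LP (LK LD1_c20 LD2_c59 LD3_c38))))))))
theorem f273463 : Led Lsl_bf (LP (LK LD1_c19 LD2_c23 LD3_c48)) = (LP (LK LD1_c20 LD2_c59 LD3_c38)) :=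
  Lgr Lrot24 (Lpr_bt (f273461 IH) (Lpn (LP (LK LD1_c20 LD2_c59 LD3_c38))))
theorem f191127 : Led Lsl_bt (LP (LK LD1_c5 LD2_c12 LD3_c39)) = (LP (LK LD1_c10 LD2_c15 LD3_c41)) :=
  Lre_b IH (LK LD1_c5 LD2_c12 LD3_c39) (LK LD1_c10 LD2_c15 LD3_c41) Lrfl Lrfl
theorem f192163 : Led Lsl_ct (LP (LK LD1_c6 LD2_c5 LD3_c45)) = (LP (LK LD1_c2 LD2_c58 LD3_c61)) :=
  Lre_c IH (LK LD1_c6 LD2_c5 LD3_c45) (LK LD1_c2 LD2_c58 LD3_c61) Lrfl Lrfl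
theorem f192165 : Led Lsl_ct (LP (LK LD1_c10 LD2_c15 LD3_c41)) = (LP (LK LD1_c11 LD2_c54 LD3_c60)) :=
  Lgr Lrot83 (Lpe (f191127 IH) (Lpe (K13.f171663 IH) (Lpr_bf (K13.f192159 IH) (Lpe (f192163 IH) (Lpe (f192164 IH) (Lpn (LP (LK LD1_c11 LD2_c54 LD3_c60))))))))
theorem f192171 : Led Lsl_cf (LP (LK LD1_c10 LD2_c15 LD3_c41)) = (LP (LK LD1_c11 LD2_c54 LD3_c60)) :=
  Lgr Lrot11 (Lpr_ct (f192165 IH) (Lpn (LP (LK LD1_c11 LD2_c54 LD3_c60))))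
theorem f192179 : Led Lsl_at (LP (LK LD1_c10 LD2_c15 LD3_c41)) = (LP (LK LD1_c18 LD2_c39 LD3_c55)) :=
  Lre_a IH (LK LD1_c10 LD2_c15 LD3_c41) (LK LD1_c18 LD2_c39 LD3_c55) Lrfl Lrfl
theorem f192180 : Led Lsl_ct (LP (LK LD1_c18 LD2_c39 LD3_c55)) = (LP (LK LD1_c20 LD2_c59 LD3_c38)) :=
  Lgr Lrot111 (Lpe (f192179 IH) (Lpr_cf (f192171 IH) (Lpe (f192173 IH) (Lpn (LP (LK LD1_c20 LD2_c59 LD3_c38))))))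
theorem f266648 : Led Lsl_bt (LP (LK LD1_c5 LD2_c4 LD3_c56)) = (LP (LK LD1_c10 LD2_c0 LD3_c56)) :=
  Lre_b IH (LK LD1_c5 LD2_c4 LD3_c56) (LK LD1_c10 LD2_c0 LD3_c56) Lrfl Lrfl
theorem f270273 : Led Lsl_at (LP (LK LD1_c10 LD2_c0 LD3_c56)) = (LP (LK LD1_c18 LD2_c18 LD3_c3)) :=
  Lre_a IH (LK LD1_c10 LD2_c0 LD3_c56) (LK LD1_c18 LD2_c18 LD3_c3) Lrfl Lrfl
theorem f192177 : Led Lsl_bt (LP (LK LD1_c10 LD2_c15 LD3_c41)) = (LP (LK LD1_c5 LD2_c12 LD3_c39)) :=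
  Lre_b IH (LK LD1_c10 LD2_c15 LD3_c41) (LK LD1_c5 LD2_c12 LD3_c39) Lrfl Lrfl
theorem f192167 : Led Lsl_at (LP (LK LD1_c18 LD2_c39 LD3_c55)) = (LP (LK LD1_c10 LD2_c15 LD3_c41)) :=
  Lre_a IH (LK LD1_c18 LD2_c39 LD3_c55) (LK LD1_c10 LD2_c15 LD3_c41) Lrfl Lrfl
theorem f270274 : Led Lsl_bt (LP (LK LD1_c18 LD2_c18 LD3_c3)) = (LP (LK LD1_c18 LD2_c39 LD3_c55)) :=
  Lgr Lrot62 (Lpe (f270273 IH) (Lpe (f266648 IH) (Lpr_af (K16.f270269 IH) (Lpe (f192177 IH) (Lpe (f192167 IH) (Lpn (LP (LK LD1_c18 LD2_c39 LD3_c55))))))))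
theorem f274323 : Led Lsl_ff (LP (LK LD1_c15 LD2_c28 LD3_c35)) = (LP (LK LD1_c15 LD2_c27 LD3_c57)) :=
  Lgr Lrot3 (Lpr_ft (K17.f274315 IH) (Lpn (LP (LK LD1_c15 LD2_c27 LD3_c57))))
theorem f258021 : Led Lsl_at (LP (LK LD1_c5 LD2_c12 LD3_c40)) = (LP (LK LD1_c5 LD2_c17 LD3_c41)) :=
  Lgr Lrot51 (Lpr_df (K16.f241900 IH) (Lpr_af (K15.f258017 IH) (Lpe (K15.f192299 IH) (Lpn (LP (LK LD1_c5 LD2_c17 LD3_c41))))))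
theorem f260379 : Led Lsl_af (LP (LK LD1_c10 LD2_c15 LD3_c42)) = (LP (LK LD1_c8 LD2_c13 LD3_c20)) :=
  Lgr Lrot68 (Lpr_ct (K16.f260378 IH) (Lpr_at (f258021 IH) (Lpr_ct (K15.f260288 IH) (Lpn (LP (LK LD1_c8 LD2_c13 LD3_c20))))))
theorem f274290 : Led Lsl_af (LP (LK LD1_c15 LD2_c27 LD3_c57)) = (LP (LK LD1_c15 LD2_c28 LD3_c36)) :=
  Lgr Lrot117 (Lpr_dt (K17.f260290 IH) (Lpe (f260379 IH) (Lpr_dt (K16.f274243 IH) (Lpn (LP (LK LD1_c15 LD2_c28 LD3_c36))))))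
theorem f274295 : Led Lsl_ft (LP (LK LD1_c15 LD2_c27 LD3_c60)) = (LP (LK LD1_c15 LD2_c28 LD3_c36)) :=
  Lgr Lrot48 (Lpr_ff (K16.f274292 IH) (Lpn (LP (LK LD1_c15 LD2_c28 LD3_c36))))
theorem f274359 : Led Lsl_at (LP (LK LD1_c15 LD2_c28 LD3_c35)) = (LP (LK LD1_c15 LD2_c27 LD3_c60)) :=
  Lgr Lrot66 (Lpr_ff (f274323 IH) (Lpr_af (f274290 IH) (Lpe (f274295 IH) (Lpn (LP (LK LD1_c15 LD2_c27 LD3_c60))))))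
theorem f274365 : Led Lsl_af (LP (LK LD1_c10 LD2_c35 LD3_c44)) = (LP (LK LD1_c8 LD2_c13 LD3_c21)) :=
  Lgr Lrot117 (Lpe (K17.f274311 IH) (Lpr_at (f274359 IH) (Lpr_dt (K16.f266670 IH) (Lpn (LP (LK LD1_c8 LD2_c13 LD3_c21))))))
theorem f260333 : Led Lsl_at (LP (LK LD1_c19 LD2_c11 LD3_c14)) = (LP (LK LD1_c28 LD2_c37 LD3_c5)) :=
  Lre_a IH (LK LD1_c19 LD2_c11 LD3_c14) (LK LD1_c28 LD2_c37 LD3_c5) Lrfl Lrfl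
theorem f266679 : Led Lsl_bt (LP (LK LD1_c15 LD2_c27 LD3_c59)) = (LP (LK LD1_c8 LD2_c13 LD3_c21)) :=
  Lre_b IH (LK LD1_c15 LD2_c27 LD3_c59) (LK LD1_c8 LD2_c13 LD3_c21) Lrfl Lrfl
theorem f274372 : Led Lsl_at (LP (LK LD1_c25 LD2_c19 LD3_c48)) = (LP (LK LD1_c15 LD2_c27 LD3_c59)) :=
  Lre_a IH (LK LD1_c25 LD2_c19 LD3_c48) (LK LD1_c15 LD2_c27 LD3_c59) Lrfl Lrfl
theorem f274373 : Led Lsl_bt (LP (LK LD1_c28 LD2_c37 LD3_c5)) = (LP (LK LD1_c25 LD2_c19 LD3_c48)) :=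
  Lgr Lrot62 (Lpe (f260333 IH) (Lpe (f257998 IH) (Lpr_af (f274365 IH) (Lpe (f266679 IH) (Lpe (f274372 IH) (Lpn (LP (LK LD1_c25 LD2_c19 LD3_c48))))))))
theorem f275818 : Led Lsl_cf (LP (LK LD1_c18 LD2_c18 LD3_c3)) = (LP (LK LD1_c25 LD2_c19 LD3_c48)) :=
  Lgr Lrot97 (Lpr_bt (f270274 IH) (Lpr_ct (f192180 IH) (Lpe (f273463 IH) (Lpr_ct (f275816 IH) (Lpr_bt (f274373 IH) (Lpn (LP (LK LD1_c25 LD2_c19 LD3_c48))))))))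
theorem f275829 : Led Lsl_at (LP (LK LD1_c18 LD2_c18 LD3_c3)) = (LP (LK LD1_c10 LD2_c0 LD3_c56)) :=
  Lre_a IH (LK LD1_c18 LD2_c18 LD3_c3) (LK LD1_c10 LD2_c0 LD3_c56) Lrfl Lrfl
theorem f274379 : Led Lsl_at (LP (LK LD1_c15 LD2_c27 LD3_c59)) = (LP (LK LD1_c25 LD2_c19 LD3_c48)) :=
  Lre_a IH (LK LD1_c15 LD2_c27 LD3_c59) (LK LD1_c25 LD2_c19 LD3_c48) Lrfl Lrfl
theorem f275830 : Led Lsl_ct (LP (LK LD1_c10 LD2_c0 LD3_c56)) = (LP (LK LD1_c15 LD2_c27 LD3_c59)) :=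
  Lgr Lrot111 (Lpe (f275829 IH) (Lpr_cf (f275818 IH) (Lpe (f274379 IH) (Lpn (LP (LK LD1_c15 LD2_c27 LD3_c59))))))
theorem f275838 : Led Lsl_et (LP (LK LD1_c18 LD2_c18 LD3_c5)) = (LP (LK LD1_c10 LD2_c0 LD3_c56)) :=
  Lre_e IH (LK LD1_c18 LD2_c18 LD3_c5) (LK LD1_c10 LD2_c0 LD3_c56) Lrfl Lrfl
theorem f275839 : Led Lsl_et (LP (LK LD1_c15 LD2_c27 LD3_c59)) = (LP (LK LD1_c25 LD2_c19 LD3_c49)) :=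
  Lre_e IH (LK LD1_c15 LD2_c27 LD3_c59) (LK LD1_c25 LD2_c19 LD3_c49) Lrfl Lrfl
theorem f275840 : Led Lsl_cf (LP (LK LD1_c18 LD2_c18 LD3_c5)) = (LP (LK LD1_c25 LD2_c19 LD3_c49)) :=
  Lgr Lrot39 (Lpr_et (f275838 IH) (Lpr_ct (f275830 IH) (Lpr_et (f275839 IH) (Lpn (LP (LK LD1_c25 LD2_c19 LD3_c49))))))
theorem f275843 : Led Lsl_bt (LP (LK LD1_c18 LD2_c18 LD3_c5)) = (LP (LK LD1_c10 LD2_c0 LD3_c58)) :=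
  Lre_b IH (LK LD1_c18 LD2_c18 LD3_c5) (LK LD1_c10 LD2_c0 LD3_c58) Lrfl Lrfl
theorem f274536 : Led Lsl_bt (LP (LK LD1_c15 LD2_c27 LD3_c61)) = (LP (LK LD1_c25 LD2_c19 LD3_c49)) :=
  Lre_b IH (LK LD1_c15 LD2_c27 LD3_c61) (LK LD1_c25 LD2_c19 LD3_c49) Lrfl Lrfl
theorem f275844 : Led Lsl_ct (LP (LK LD1_c10 LD2_c0 LD3_c55)) = (LP (LK LD1_c15 LD2_c27 LD3_c61)) :=
  Lgr Lrot83 (Lpe (K16.f274523 IH) (Lpe (K16.f270343 IH) (Lpe (f275843 IH) (Lpr_cf (f275840 IH) (Lpe (f274536 IH) (Lpn (LP (LK LD1_c15 LD2_c27 LD3_c61))))))))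
theorem f325984 : Led Lsl_gf (LP (LK LD1_c8 LD2_c10 LD3_c11)) = (LP (LK LD1_c4 LD2_c55 LD3_c10)) :=
  Lgr Lrot124 (Lpe (f309932 IH) (Lpr_ct (f291151 IH) (Lpr_gt (f325950 IH) (Lpe (K15.f256741 IH) (Lpr_bt (K18.f256744 IH) (Lpe (K19.f274532 IH) (Lpr_ct (f275844 IH) (Lpr_gt (K18.f290806 IH) (Lpe (K18.f171933 IH) (Lpe (K20.f171929 IH) (Lpn (LP (LK LD1_c4 LD2_c55 LD3_c10)))))))))))))
theorem f309910 : Led Lsl_dt (LP (LK LD1_c8 LD2_c10 LD3_c11)) = (LP (LK LD1_c15 LD2_c23 LD3_c10)) :=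
  Lre_d IH (LK LD1_c8 LD2_c10 LD3_c11) (LK LD1_c15 LD2_c23 LD3_c10) Lrfl Lrfl
theorem f171931 : Led Lsl_ct (LP (LK LD1_c9 LD2_c41 LD3_c50)) = (LP (LK LD1_c4 LD2_c55 LD3_c10)) :=
  Lre_c IH (LK LD1_c9 LD2_c41 LD3_c50) (LK LD1_c4 LD2_c55 LD3_c10) Lrfl Lrfl
theorem f167691 : Led Lsl_dt (LP (LK LD1_c15 LD2_c45 LD3_c23)) = (LP (LK LD1_c8 LD2_c22 LD3_c20)) :=
  Lre_d IH (LK LD1_c15 LD2_c45 LD3_c23) (LK LD1_c8 LD2_c22 LD3_c20) Lrfl Lrfl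
theorem f307811 : Led Lsl_ff (LP (LK LD1_c15 LD2_c45 LD3_c23)) = (LP (LK LD1_c10 LD2_c38 LD3_c19)) :=
  Lgr Lrot19 (Lpr_dt (f167691 IH) (Lpr_ft (K19.f307800 IH) (Lpr_dt (K19.f307770 IH) (Lpn (LP (LK LD1_c10 LD2_c38 LD3_c19))))))
theorem f256527 : Led Lsl_dt (LP (LK LD1_c5 LD2_c23 LD3_c52)) = (LP (LK LD1_c10 LD2_c38 LD3_c22)) :=
  Lre_d IH (LK LD1_c5 LD2_c23 LD3_c52) (LK LD1_c10 LD2_c38 LD3_c22) Lrfl Lrfl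
theorem f303001 : Led Lsl_af (LP (LK LD1_c15 LD2_c45 LD3_c23)) = (LP (LK LD1_c10 LD2_c38 LD3_c22)) :=
  Lgr Lrot117 (Lpr_dt (f167691 IH) (Lpr_at (K18.f302995 IH) (Lpr_dt (f256527 IH) (Lpn (LP (LK LD1_c10 LD2_c38 LD3_c22))))))
theorem f303004 : Led Lsl_at (LP (LK LD1_c15 LD2_c45 LD3_c23)) = (LP (LK LD1_c10 LD2_c38 LD3_c22)) :=
  Lgr Lrot100 (Lpr_af (f303001 IH) (Lpn (LP (LK LD1_c10 LD2_c38 LD3_c22))))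
theorem f307848 : Led Lsl_gt (LP (LK LD1_c10 LD2_c38 LD3_c19)) = (LP (LK LD1_c19 LD2_c16 LD3_c25)) :=
  Lre_g IH (LK LD1_c10 LD2_c38 LD3_c19) (LK LD1_c19 LD2_c16 LD3_c25) Lrfl Lrfl
theorem f307849 : Led Lsl_gf (LP (LK LD1_c10 LD2_c38 LD3_c22)) = (LP (LK LD1_c19 LD2_c16 LD3_c25)) :=
  Lgr Lrot76 (Lpe (f303004 IH) (Lpr_ff (f307811 IH) (Lpr_gt (f307848 IH) (Lpn (LP (LK LD1_c19 LD2_c16 LD3_c25))))))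
theorem f191948 : Led Lsl_et (LP (LK LD1_c2 LD2_c37 LD3_c36)) = (LP (LK LD1_c5 LD2_c22 LD3_c14)) :=
  Lre_e IH (LK LD1_c2 LD2_c37 LD3_c36) (LK LD1_c5 LD2_c22 LD3_c14) Lrfl Lrfl
theorem f8636 : Led Lsl_gt (LP (LK LD1_c5 LD2_c22 LD3_c14)) = (LP (LK LD1_c10 LD2_c32 LD3_c24)) :=
  Lre_g IH (LK LD1_c5 LD2_c22 LD3_c14) (LK LD1_c10 LD2_c32 LD3_c24) Lrfl Lrfl
theorem f191949 : Led Lsl_et (LP (LK LD1_c19 LD2_c5 LD3_c31)) = (LP (LK LD1_c10 LD2_c32 LD3_c24)) :=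
  Lre_e IH (LK LD1_c19 LD2_c5 LD3_c31) (LK LD1_c10 LD2_c32 LD3_c24) Lrfl Lrfl
theorem f307853 : Led Lsl_dt (LP (LK LD1_c19 LD2_c5 LD3_c31)) = (LP (LK LD1_c19 LD2_c16 LD3_c25)) :=
  Lgr Lrot136 (Lpr_et (f191949 IH) (Lpe (f8636 IH) (Lpe (f191948 IH) (Lpr_dt (K1.f46409 IH) (Lpe (K14.f46434 IH) (Lpr_df (K14.f191933 IH) (Lpr_gf (K14.f192856 IH) (Lpr_ef (K18.f256505 IH) (Lpr_dt (f256527 IH) (Lpr_gf (f307849 IH) (Lpn (LP (LK LD1_c19 LD2_c16 LD3_c25)))))))))))))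
theorem f41470 : Led Lsl_gt (LP (LK LD1_c10 LD2_c32 LD3_c24)) = (LP (LK LD1_c5 LD2_c21 LD3_c8)) :=
  Lre_g IH (LK LD1_c10 LD2_c32 LD3_c24) (LK LD1_c5 LD2_c21 LD3_c8) Lrfl Lrfl
theorem f224148 : Led Lsl_et (LP (LK LD1_c2 LD2_c37 LD3_c9)) = (LP (LK LD1_c5 LD2_c21 LD3_c8)) :=
  Lre_e IH (LK LD1_c2 LD2_c37 LD3_c9) (LK LD1_c5 LD2_c21 LD3_c8) Lrfl Lrfl
theorem f307858 : Led Lsl_gt (LP (LK LD1_c9 LD2_c41 LD3_c50)) = (LP (LK LD1_c5 LD2_c23 LD3_c50)) :=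
  Lgr Lrot137 (Lpe (K16.f224268 IH) (Lpe (K15.f224264 IH) (Lpe (K14.f196717 IH) (Lpe (K14.f217676 IH) (Lpr_et (f224148 IH) (Lpe (f41470 IH) (Lpe (f191949 IH) (Lpr_dt (f307853 IH) (Lpe (f307848 IH) (Lpe (K19.f307770 IH) (Lpn (LP (LK LD1_c5 LD2_c23 LD3_c50)))))))))))))
theorem f307855 : Led Lsl_df (LP (LK LD1_c19 LD2_c5 LD3_c31)) = (LP (LK LD1_c19 LD2_c16 LD3_c25)) :=
  Lgr Lrot38 (Lpr_dt (f307853 IH) (Lpn (LP (LK LD1_c19 LD2_c16 LD3_c25))))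
theorem f299216 : Led Lsl_gt (LP (LK LD1_c4 LD2_c14 LD3_c52)) = (LP (LK LD1_c8 LD2_c9 LD3_c28)) :=
  Lgr Lrot5 (Lpr_ft (K10.f52632 IH) (Lpr_at (K10.f52619 IH) (Lpr_gf (K18.f299214 IH) (Lpn (LP (LK LD1_c8 LD2_c9 LD3_c28))))))
theorem f310353 : Led Lsl_bt (LP (LK LD1_c4 LD2_c4 LD3_c18)) = (LP (LK LD1_c6 LD2_c5 LD3_c27)) :=
  Lgr Lrot22 (Lpr_ct (K18.f28007 IH) (Lpe (f299216 IH) (Lpe (f27452 IH) (Lpe (K19.f27468 IH) (Lpe (K19.f309886 IH) (Lpr_ct (K19.f309875 IH) (Lpr_gf (f310348 IH) (Lpe (K0.f8596 IH) (Lpr_bt (K1.f8610 IH) (Lpe (K19.f41712 IH) (Lpn (LP (LK LD1_c6 LD2_c5 LD3_c27)))))))))))))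
theorem f310406 : Led Lsl_ct (LP (LK LD1_c17 LD2_c35 LD3_c52)) = (LP (LK LD1_c10 LD2_c32 LD3_c24)) :=
  Lgr Lrot91 (Lpe (K20.f27575 IH) (Lpe (K19.f27568 IH) (Lpr_ct (f52897 IH) (Lpr_gf (K18.f299214 IH) (Lpe (K18.f28007 IH) (Lpr_bt (f310353 IH) (Lpe (K19.f41713 IH) (Lpe (K1.f41444 IH) (Lpr_ct (K20.f41448 IH) (Lpe (f41470 IH) (Lpn (LP (LK LD1_c10 LD2_c32 LD3_c24)))))))))))))
theorem f307857 : Led Lsl_et (LP (LK LD1_c10 LD2_c32 LD3_c24)) = (LP (LK LD1_c19 LD2_c5 LD3_c31)) :=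
  Lre_e IH (LK LD1_c10 LD2_c32 LD3_c24) (LK LD1_c19 LD2_c5 LD3_c31) Lrfl Lrfl
theorem f310411 : Led Lsl_cf (LP (LK LD1_c27 LD2_c23 LD3_c59)) = (LP (LK LD1_c19 LD2_c5 LD3_c31)) :=
  Lgr Lrot39 (Lpr_et (K20.f191013 IH) (Lpr_ct (f310406 IH) (Lpr_et (f307857 IH) (Lpn (LP (LK LD1_c19 LD2_c5 LD3_c31))))))
theorem f310413 : Led Lsl_ct (LP (LK LD1_c27 LD2_c23 LD3_c59)) = (LP (LK LD1_c19 LD2_c5 LD3_c31)) :=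
  Lgr Lrot59 (Lpr_cf (f310411 IH) (Lpn (LP (LK LD1_c19 LD2_c5 LD3_c31))))
theorem f322670 : Led Lsl_dt (LP (LK LD1_c17 LD2_c43 LD3_c20)) = (LP (LK LD1_c27 LD2_c23 LD3_c59)) :=
  Lgr Lrot42 (Lpr_df (K20.f322666 IH) (Lpn (LP (LK LD1_c27 LD2_c23 LD3_c59))))
theorem f325989 : Led Lsl_gt (LP (LK LD1_c15 LD2_c23 LD3_c10)) = (LP (LK LD1_c17 LD2_c43 LD3_c20)) :=
  Lgr Lrot49 (Lpe (f309910 IH) (Lpr_gf (f325984 IH) (Lpe (f171931 IH) (Lpr_gt (f307858 IH) (Lpr_dt (K19.f307770 IH) (Lpr_gt (f307848 IH) (Lpe (f307855 IH) (Lpe (f310413 IH) (Lpe (f322670 IH) (Lpn (LP (LK LD1_c17 LD2_c43 LD3_c20))))))))))))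
theorem f309917 : Led Lsl_dt (LP (LK LD1_c15 LD2_c23 LD3_c10)) = (LP (LK LD1_c8 LD2_c10 LD3_c11)) :=
  Lre_d IH (LK LD1_c15 LD2_c23 LD3_c10) (LK LD1_c8 LD2_c10 LD3_c11) Lrfl Lrfl
theorem f309929 : Led Lsl_gt (LP (LK LD1_c8 LD2_c10 LD3_c11)) = (LP (LK LD1_c15 LD2_c23 LD3_c9)) :=
  Lre_g IH (LK LD1_c8 LD2_c10 LD3_c11) (LK LD1_c15 LD2_c23 LD3_c9) Lrfl Lrfl
theorem f241961 : Led Lsl_gt (LP (LK LD1_c5 LD2_c23 LD3_c50)) = (LP (LK LD1_c10 LD2_c38 LD3_c17)) :=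
  Lre_g IH (LK LD1_c5 LD2_c23 LD3_c50) (LK LD1_c10 LD2_c38 LD3_c17) Lrfl Lrfl
theorem f307802 : Led Lsl_gf (LP (LK LD1_c5 LD2_c23 LD3_c52)) = (LP (LK LD1_c10 LD2_c38 LD3_c17)) :=
  Lgr Lrot76 (Lpe (K18.f302995 IH) (Lpr_ff (K19.f307787 IH) (Lpr_gt (f241961 IH) (Lpn (LP (LK LD1_c10 LD2_c38 LD3_c17))))))
theorem f326349 : Led Lsl_ct (LP (LK LD1_c15 LD2_c23 LD3_c9)) = (LP (LK LD1_c10 LD2_c38 LD3_c17)) :=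
  Lgr Lrot152 (Lpe (f309929 IH) (Lpe (f309917 IH) (Lpr_gt (f325989 IH) (Lpe (K20.f321156 IH) (Lpr_gt (K20.f295949 IH) (Lpr_ct (K19.f303003 IH) (Lpr_df (K20.f288702 IH) (Lpe (K16.f256520 IH) (Lpr_gf (f307802 IH) (Lpn (LP (LK LD1_c10 LD2_c38 LD3_c17))))))))))))
theorem f320297 : Led Lsl_bt (LP (LK LD1_c2 LD2_c38 LD3_c27)) = (LP (LK LD1_c1 LD2_c17 LD3_c28)) :=
  Lgr Lrot127 (Lpr_bf (K20.f320295 IH) (Lpn (LP (LK LD1_c1 LD2_c17 LD3_c28))))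
theorem f236215 : Led Lsl_ct (LP (LK LD1_c1 LD2_c17 LD3_c20)) = (LP (LK LD1_c2 LD2_c41 LD3_c20)) :=
  Lre_c IH (LK LD1_c1 LD2_c17 LD3_c20) (LK LD1_c2 LD2_c41 LD3_c20) Lrfl Lrfl
theorem f326358 : Led Lsl_bt (LP (LK LD1_c15 LD2_c23 LD3_c9)) = (LP (LK LD1_c8 LD2_c18 LD3_c12)) :=
  Lgr Lrot130 (Lpr_ct (f326349 IH) (Lpe (f241961 IH) (Lpe (K19.f241960 IH) (Lpr_bt (f320297 IH) (Lpe (K18.f178520 IH) (Lpe (K20.f273703 IH) (Lpr_ct (f236215 IH) (Lpe (K16.f222522 IH) (Lpr_cf (K16.f273689 IH) (Lpr_gf (K20.f317562 IH) (Lpn (LP (LK LD1_c8 LD2_c18 LD3_c12)))))))))))))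
theorem f317537 : Led Lsl_ft (LP (LK LD1_c8 LD2_c18 LD3_c12)) = (LP (LK LD1_c4 LD2_c9 LD3_c3)) :=
  Lre_f IH (LK LD1_c8 LD2_c18 LD3_c12) (LK LD1_c4 LD2_c9 LD3_c3) Lrfl Lrfl
theorem f229594 : Led Lsl_bt (LP (LK LD1_c4 LD2_c9 LD3_c3)) = (LP (LK LD1_c8 LD2_c18 LD3_c6)) :=
  Lre_b IH (LK LD1_c4 LD2_c9 LD3_c3) (LK LD1_c8 LD2_c18 LD3_c6) Lrfl Lrfl
theorem f326366 : Led Lsl_ff (LP (LK LD1_c15 LD2_c23 LD3_c9)) = (LP (LK LD1_c8 LD2_c18 LD3_c6)) :=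
  Lgr Lrot25 (Lpr_bt (f326358 IH) (Lpr_ft (f317537 IH) (Lpr_bt (f229594 IH) (Lpn (LP (LK LD1_c8 LD2_c18 LD3_c6))))))
theorem f326373 : Led Lsl_ft (LP (LK LD1_c15 LD2_c23 LD3_c9)) = (LP (LK LD1_c8 LD2_c18 LD3_c6)) :=
  Lgr Lrot48 (Lpr_ff (f326366 IH) (Lpn (LP (LK LD1_c8 LD2_c18 LD3_c6))))
theorem f171973 : Led Lsl_ft (LP (LK LD1_c4 LD2_c55 LD3_c10)) = (LP (LK LD1_c9 LD2_c41 LD3_c52)) :=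
  Lre_f IH (LK LD1_c4 LD2_c55 LD3_c10) (LK LD1_c9 LD2_c41 LD3_c52) Lrfl Lrfl
theorem f325987 : Led Lsl_af (LP (LK LD1_c15 LD2_c23 LD3_c9)) = (LP (LK LD1_c9 LD2_c41 LD3_c52)) :=
  Lgr Lrot31 (Lpe (f309929 IH) (Lpr_gf (f325984 IH) (Lpr_ft (f171973 IH) (Lpn (LP (LK LD1_c9 LD2_c41 LD3_c52))))))
theorem f326375 : Led Lsl_af (LP (LK LD1_c4 LD2_c55 LD3_c10)) = (LP (LK LD1_c8 LD2_c18 LD3_c6)) :=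
  Lgr Lrot45 (Lpr_ft (f171973 IH) (Lpe (f325987 IH) (Lpr_ft (f326373 IH) (Lpn (LP (LK LD1_c8 LD2_c18 LD3_c6))))))
theorem f326379 : Led Lsl_gt (LP (LK LD1_c15 LD2_c23 LD3_c9)) = (LP (LK LD1_c9 LD2_c41 LD3_c51)) :=
  Lgr Lrot5 (Lpr_ft (f326373 IH) (Lpe (f326375 IH) (Lpe (K20.f171976 IH) (Lpn (LP (LK LD1_c9 LD2_c41 LD3_c51))))))
theorem f229630 : Led Lsl_et (LP (LK LD1_c2 LD2_c23 LD3_c30)) = (LP (LK LD1_c4 LD2_c51 LD3_c22)) :=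
  Lre_e IH (LK LD1_c2 LD2_c23 LD3_c30) (LK LD1_c4 LD2_c51 LD3_c22) Lrfl Lrfl
theorem f229631 : Led Lsl_gt (LP (LK LD1_c4 LD2_c51 LD3_c22)) = (LP (LK LD1_c9 LD2_c34 LD3_c49)) :=
  Lre_g IH (LK LD1_c4 LD2_c51 LD3_c22) (LK LD1_c9 LD2_c34 LD3_c49) Lrfl Lrfl
theorem f229633 : Led Lsl_et (LP (LK LD1_c17 LD2_c38 LD3_c27)) = (LP (LK LD1_c9 LD2_c34 LD3_c49)) :=
  Lre_e IH (LK LD1_c17 LD2_c38 LD3_c27) (LK LD1_c9 LD2_c34 LD3_c49) Lrfl Lrfl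
theorem f326382 : Led Lsl_df (LP (LK LD1_c15 LD2_c23 LD3_c9)) = (LP (LK LD1_c17 LD2_c38 LD3_c27)) :=
  Lgr Lrot170 (Lpr_gt (f326379 IH) (Lpe (K20.f246774 IH) (Lpr_et (K20.f221840 IH) (Lpe (K12.f221832 IH) (Lpr_dt (K13.f188701 IH) (Lpe (K12.f229610 IH) (Lpe (K15.f229629 IH) (Lpr_et (f229630 IH) (Lpr_gt (f229631 IH) (Lpe (f229633 IH) (Lpn (LP (LK LD1_c17 LD2_c38 LD3_c27)))))))))))))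
theorem f250603 : Led Lsl_dt (LP (LK LD1_c19 LD2_c5 LD3_c60)) = (LP (LK LD1_c10 LD2_c32 LD3_c46)) :=
  Lre_d IH (LK LD1_c19 LD2_c5 LD3_c60) (LK LD1_c10 LD2_c32 LD3_c46) Lrfl Lrfl
theorem f306928 : Led Lsl_bt (LP (LK LD1_c0 LD2_c58 LD3_c21)) = (LP (LK LD1_c2 LD2_c2 LD3_c50)) :=
  Lre_b IH (LK LD1_c0 LD2_c58 LD3_c21) (LK LD1_c2 LD2_c2 LD3_c50) Lrfl Lrfl
theorem f215470 : Led Lsl_gt (LP (LK LD1_c2 LD2_c2 LD3_c50)) = (LP (LK LD1_c4 LD2_c11 LD3_c8)) :=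
  Lre_g IH (LK LD1_c2 LD2_c2 LD3_c50) (LK LD1_c4 LD2_c11 LD3_c8) Lrfl Lrfl
theorem f215535 : Led Lsl_ct (LP (LK LD1_c4 LD2_c11 LD3_c8)) = (LP (LK LD1_c8 LD2_c22 LD3_c15)) :=
  Lre_c IH (LK LD1_c4 LD2_c11 LD3_c8) (LK LD1_c8 LD2_c22 LD3_c15) Lrfl Lrfl
theorem f215533 : Led Lsl_gt (LP (LK LD1_c8 LD2_c22 LD3_c15)) = (LP (LK LD1_c15 LD2_c45 LD3_c13)) :=
  Lre_g IH (LK LD1_c8 LD2_c22 LD3_c15) (LK LD1_c15 LD2_c45 LD3_c13) Lrfl Lrfl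
theorem f193336 : Led Lsl_dt (LP (LK LD1_c4 LD2_c4 LD3_c41)) = (LP (LK LD1_c8 LD2_c10 LD3_c13)) :=
  Lre_d IH (LK LD1_c4 LD2_c4 LD3_c41) (LK LD1_c8 LD2_c10 LD3_c13) Lrfl Lrfl
theorem f291031 : Led Lsl_gf (LP (LK LD1_c4 LD2_c51 LD3_c37)) = (LP (LK LD1_c8 LD2_c10 LD3_c13)) :=
  Lgr Lrot134 (Lpr_df (K19.f291026 IH) (Lpr_et (K19.f27478 IH) (Lpr_gt (K19.f27468 IH) (Lpe (K11.f27460 IH) (Lpr_dt (K10.f27459 IH) (Lpe (K10.f193322 IH) (Lpe (K12.f192822 IH) (Lpr_et (K19.f193325 IH) (Lpr_gt (f193335 IH) (Lpr_dt (f193336 IH) (Lpn (LP (LK LD1_c8 LD2_c10 LD3_c13)))))))))))))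
theorem f291043 : Led Lsl_bt (LP (LK LD1_c15 LD2_c23 LD3_c10)) = (LP (LK LD1_c8 LD2_c10 LD3_c13)) :=
  Lre_b IH (LK LD1_c15 LD2_c23 LD3_c10) (LK LD1_c8 LD2_c10 LD3_c13) Lrfl Lrfl
theorem f309904 : Led Lsl_cf (LP (LK LD1_c15 LD2_c45 LD3_c13)) = (LP (LK LD1_c15 LD2_c23 LD3_c10)) :=
  Lgr Lrot163 (Lpe (f215533 IH) (Lpe (f215535 IH) (Lpe (f215470 IH) (Lpe (f306928 IH) (Lpr_ct (f181827 IH) (Lpe (K20.f170868 IH) (Lpr_cf (K20.f306926 IH) (Lpr_bt (K19.f309898 IH) (Lpr_gf (f291031 IH) (Lpe (f291043 IH) (Lpn (LP (LK LD1_c15 LD2_c23 LD3_c10)))))))))))))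
theorem f309908 : Led Lsl_ct (LP (LK LD1_c15 LD2_c45 LD3_c13)) = (LP (LK LD1_c15 LD2_c23 LD3_c10)) :=
  Lgr Lrot59 (Lpr_cf (f309904 IH) (Lpn (LP (LK LD1_c15 LD2_c23 LD3_c10))))
theorem f309919 : Led Lsl_ct (LP (LK LD1_c10 LD2_c31 LD3_c20)) = (LP (LK LD1_c8 LD2_c10 LD3_c11)) :=
  Lgr Lrot110 (Lpe (K20.f169212 IH) (Lpe (K20.f169177 IH) (Lpe (K16.f258401 IH) (Lpe (K16.f215461 IH) (Lpr_gt (f215470 IH) (Lpr_ct (f215535 IH) (Lpr_gt (f215533 IH) (Lpr_ct (f309908 IH) (Lpe (f309910 IH) (Lpn (LP (LK LD1_c8 LD2_c10 LD3_c11))))))))))))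
theorem f309926 : Led Lsl_cf (LP (LK LD1_c10 LD2_c31 LD3_c20)) = (LP (LK LD1_c8 LD2_c10 LD3_c11)) :=
  Lgr Lrot11 (Lpr_ct (f309919 IH) (Lpn (LP (LK LD1_c8 LD2_c10 LD3_c11))))
theorem f279503 : Led Lsl_bt (LP (LK LD1_c2 LD2_c38 LD3_c30)) = (LP (LK LD1_c5 LD2_c23 LD3_c32)) :=
  Lre_b IH (LK LD1_c2 LD2_c38 LD3_c30) (LK LD1_c5 LD2_c23 LD3_c32) Lrfl Lrfl
theorem f325993 : Led Lsl_gt (LP (LK LD1_c10 LD2_c31 LD3_c20)) = (LP (LK LD1_c5 LD2_c23 LD3_c49)) :=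
  Lgr Lrot149 (Lpr_cf (f309926 IH) (Lpr_gf (f325984 IH) (Lpr_bf (K20.f171929 IH) (Lpr_ct (K18.f171933 IH) (Lpe (K18.f290806 IH) (Lpe (f275844 IH) (Lpr_bt (K20.f270349 IH) (Lpr_gf (K20.f312124 IH) (Lpe (f279503 IH) (Lpr_ct (K18.f300885 IH) (Lpn (LP (LK LD1_c5 LD2_c23 LD3_c49)))))))))))))
theorem f179834 : Led Lsl_dt (LP (LK LD1_c4 LD2_c18 LD3_c31)) = (LP (LK LD1_c8 LD2_c35 LD3_c50)) :=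
  Lre_d IH (LK LD1_c4 LD2_c18 LD3_c31) (LK LD1_c8 LD2_c35 LD3_c50) Lrfl Lrfl
theorem f230977 : Led Lsl_gt (LP (LK LD1_c8 LD2_c32 LD3_c48)) = (LP (LK LD1_c4 LD2_c16 LD3_c45)) :=
  Lre_g IH (LK LD1_c8 LD2_c32 LD3_c48) (LK LD1_c4 LD2_c16 LD3_c45) Lrfl Lrfl
theorem f182223 : Led Lsl_df (LP (LK LD1_c5 LD2_c19 LD3_c18)) = (LP (LK LD1_c4 LD2_c10 LD3_c21)) :=
  Lgr Lrot38 (Lpr_dt (K9.f182217 IH) (Lpn (LP (LK LD1_c4 LD2_c10 LD3_c21))))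
theorem f182225 : Led Lsl_et (LP (LK LD1_c4 LD2_c10 LD3_c21)) = (LP (LK LD1_c8 LD2_c20 LD3_c61)) :=
  Lre_e IH (LK LD1_c4 LD2_c10 LD3_c21) (LK LD1_c8 LD2_c20 LD3_c61) Lrfl Lrfl
theorem f322500 : Led Lsl_gt (LP (LK LD1_c8 LD2_c20 LD3_c61)) = (LP (LK LD1_c8 LD2_c23 LD3_c49)) :=
  Lgr Lrot137 (Lpe (f182225 IH) (Lpe (f182223 IH) (Lpe (K9.f44077 IH) (Lpe (K18.f300341 IH) (Lpr_et (K20.f300358 IH) (Lpe (K18.f304498 IH) (Lpe (K13.f232712 IH) (Lpe (K13.f232713 IH) (Lpr_gf (K20.f322492 IH) (Lpe (K20.f322478 IH) (Lpn (LP (LK LD1_c8 LD2_c23 LD3_c49)))))))))))))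
theorem f178737 : Led Lsl_et (LP (LK LD1_c8 LD2_c20 LD3_c61)) = (LP (LK LD1_c4 LD2_c10 LD3_c21)) :=
  Lre_e IH (LK LD1_c8 LD2_c20 LD3_c61) (LK LD1_c4 LD2_c10 LD3_c21) Lrfl Lrfl
theorem f184440 : Led Lsl_dt (LP (LK LD1_c8 LD2_c33 LD3_c21)) = (LP (LK LD1_c8 LD2_c20 LD3_c61)) :=
  Lgr Lrot77 (Lpe (K20.f184435 IH) (Lpe (K18.f169399 IH) (Lpr_ef (K20.f184436 IH) (Lpr_df (f182223 IH) (Lpe (f178737 IH) (Lpn (LP (LK LD1_c8 LD2_c20 LD3_c61))))))))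
theorem f184447 : Led Lsl_df (LP (LK LD1_c8 LD2_c33 LD3_c21)) = (LP (LK LD1_c8 LD2_c20 LD3_c61)) :=
  Lgr Lrot38 (Lpr_dt (f184440 IH) (Lpn (LP (LK LD1_c8 LD2_c20 LD3_c61))))
theorem f184462 : Led Lsl_dt (LP (LK LD1_c8 LD2_c20 LD3_c14)) = (LP (LK LD1_c15 LD2_c41 LD3_c33)) :=
  Lre_d IH (LK LD1_c8 LD2_c20 LD3_c14) (LK LD1_c15 LD2_c41 LD3_c33) Lrfl Lrfl
theorem f184463 : Led Lsl_gf (LP (LK LD1_c8 LD2_c33 LD3_c21)) = (LP (LK LD1_c15 LD2_c41 LD3_c33)) :=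
  Lgr Lrot134 (Lpr_df (f184447 IH) (Lpr_et (f178737 IH) (Lpr_gt (K9.f178717 IH) (Lpe (f178729 IH) (Lpr_dt (K9.f170695 IH) (Lpr_gt (K12.f170616 IH) (Lpe (K16.f184459 IH) (Lpr_et (K13.f184460 IH) (Lpr_gt (K16.f184461 IH) (Lpr_dt (f184462 IH) (Lpn (LP (LK LD1_c15 LD2_c41 LD3_c33)))))))))))))
theorem f184331 : Led Lsl_dt (LP (LK LD1_c8 LD2_c32 LD3_c54)) = (LP (LK LD1_c16 LD2_c2 LD3_c55)) :=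
  Lre_d IH (LK LD1_c8 LD2_c32 LD3_c54) (LK LD1_c16 LD2_c2 LD3_c55) Lrfl Lrfl
theorem f275292 : Led Lsl_dt (LP (LK LD1_c5 LD2_c20 LD3_c18)) = (LP (LK LD1_c4 LD2_c10 LD3_c14)) :=
  Lgr Lrot42 (Lpr_df (K16.f275287 IH) (Lpn (LP (LK LD1_c4 LD2_c10 LD3_c14))))
theorem f253431 : Led Lsl_et (LP (LK LD1_c2 LD2_c37 LD3_c37)) = (LP (LK LD1_c1 LD2_c15 LD3_c49)) :=
  Lre_e IH (LK LD1_c2 LD2_c37 LD3_c37) (LK LD1_c1 LD2_c15 LD3_c49) Lrfl Lrfl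
theorem f7636 : Led Lsl_bt (LP (LK LD1_c1 LD2_c16 LD3_c46)) = (LP (LK LD1_c2 LD2_c37 LD3_c37)) :=
  Lre_b IH (LK LD1_c1 LD2_c16 LD3_c46) (LK LD1_c2 LD2_c37 LD3_c37) Lrfl Lrfl
theorem f7637 : Led Lsl_df (LP (LK LD1_c2 LD2_c37 LD3_c37)) = (LP (LK LD1_c2 LD2_c37 LD3_c37)) :=
  Lgr Lrot12 (Lpr_bt (K20.f7635 IH) (Lpr_dt (K0.f7605 IH) (Lpr_bt (f7636 IH) (Lpn (LP (LK LD1_c2 LD2_c37 LD3_c37))))))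
theorem f8697 : Led Lsl_gt (LP (LK LD1_c2 LD2_c37 LD3_c37)) = (LP (LK LD1_c5 LD2_c21 LD3_c10)) :=
  Lre_g IH (LK LD1_c2 LD2_c37 LD3_c37) (LK LD1_c5 LD2_c21 LD3_c10) Lrfl Lrfl
theorem f41464 : Led Lsl_dt (LP (LK LD1_c10 LD2_c32 LD3_c30)) = (LP (LK LD1_c5 LD2_c21 LD3_c10)) :=
  Lre_d IH (LK LD1_c10 LD2_c32 LD3_c30) (LK LD1_c5 LD2_c21 LD3_c10) Lrfl Lrfl
theorem f289008 : Led Lsl_ef (LP (LK LD1_c8 LD2_c21 LD3_c36)) = (LP (LK LD1_c10 LD2_c32 LD3_c30)) :=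
  Lgr Lrot167 (Lpr_gt (K18.f289004 IH) (Lpe (K18.f288903 IH) (Lpr_gt (K17.f236952 IH) (Lpe (f275292 IH) (Lpr_et (K15.f226919 IH) (Lpr_gt (K13.f45820 IH) (Lpe (f253431 IH) (Lpe (f7637 IH) (Lpr_gt (f8697 IH) (Lpe (f41464 IH) (Lpn (LP (LK LD1_c10 LD2_c32 LD3_c30)))))))))))))
theorem f288875 : Led Lsl_dt (LP (LK LD1_c8 LD2_c21 LD3_c36)) = (LP (LK LD1_c15 LD2_c43 LD3_c60)) :=
  Lre_d IH (LK LD1_c8 LD2_c21 LD3_c36) (LK LD1_c15 LD2_c43 LD3_c60) Lrfl Lrfl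
theorem f8698 : Led Lsl_dt (LP (LK LD1_c5 LD2_c21 LD3_c10)) = (LP (LK LD1_c10 LD2_c32 LD3_c30)) :=
  Lre_d IH (LK LD1_c5 LD2_c21 LD3_c10) (LK LD1_c10 LD2_c32 LD3_c30) Lrfl Lrfl
theorem f41474 : Led Lsl_et (LP (LK LD1_c10 LD2_c32 LD3_c31)) = (LP (LK LD1_c5 LD2_c21 LD3_c10)) :=
  Lre_e IH (LK LD1_c10 LD2_c32 LD3_c31) (LK LD1_c5 LD2_c21 LD3_c10) Lrfl Lrfl
theorem f289012 : Led Lsl_dt (LP (LK LD1_c8 LD2_c21 LD3_c59)) = (LP (LK LD1_c10 LD2_c32 LD3_c31)) :=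
  Lgr Lrot77 (Lpr_ef (K18.f288885 IH) (Lpe (f288875 IH) (Lpr_ef (f289008 IH) (Lpe (f8698 IH) (Lpe (f41474 IH) (Lpn (LP (LK LD1_c10 LD2_c32 LD3_c31))))))))
theorem f299464 : Led Lsl_gf (LP (LK LD1_c16 LD2_c2 LD3_c55)) = (LP (LK LD1_c10 LD2_c32 LD3_c31)) :=
  Lgr Lrot134 (Lpe (f184331 IH) (Lpr_et (K16.f258326 IH) (Lpe (f184463 IH) (Lpe (K20.f184435 IH) (Lpr_dt (K18.f184434 IH) (Lpr_gt (K18.f299459 IH) (Lpe (K18.f167471 IH) (Lpe (K18.f299451 IH) (Lpr_gt (K18.f288892 IH) (Lpr_dt (f289012 IH) (Lpn (LP (LK LD1_c10 LD2_c32 LD3_c31)))))))))))))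
theorem f288890 : Led Lsl_et (LP (LK LD1_c8 LD2_c21 LD3_c59)) = (LP (LK LD1_c15 LD2_c43 LD3_c60)) :=
  Lgr Lrot87 (Lpr_ef (K18.f288885 IH) (Lpn (LP (LK LD1_c15 LD2_c43 LD3_c60))))
theorem f322495 : Led Lsl_dt (LP (LK LD1_c4 LD2_c12 LD3_c3)) = (LP (LK LD1_c8 LD2_c23 LD3_c49)) :=
  Lre_d IH (LK LD1_c4 LD2_c12 LD3_c3) (LK LD1_c8 LD2_c23 LD3_c49) Lrfl Lrfl
theorem f322504 : Led Lsl_gf (LP (LK LD1_c15 LD2_c43 LD3_c60)) = (LP (LK LD1_c8 LD2_c23 LD3_c50)) :=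
  Lgr Lrot141 (Lpe (f288890 IH) (Lpr_dt (f289012 IH) (Lpe (f299464 IH) (Lpe (f184331 IH) (Lpr_et (K16.f258326 IH) (Lpe (f184463 IH) (Lpr_dt (f184440 IH) (Lpr_gt (f322500 IH) (Lpe (f322495 IH) (Lpr_et (K20.f322479 IH) (Lpn (LP (LK LD1_c8 LD2_c23 LD3_c50)))))))))))))
theorem f289014 : Led Lsl_et (LP (LK LD1_c8 LD2_c21 LD3_c36)) = (LP (LK LD1_c10 LD2_c32 LD3_c30)) :=
  Lgr Lrot87 (Lpr_ef (f289008 IH) (Lpn (LP (LK LD1_c10 LD2_c32 LD3_c30))))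
theorem f42316 : Led Lsl_gt (LP (LK LD1_c8 LD2_c54 LD3_c48)) = (LP (LK LD1_c4 LD2_c28 LD3_c20)) :=
  Lre_g IH (LK LD1_c8 LD2_c54 LD3_c48) (LK LD1_c4 LD2_c28 LD3_c20) Lrfl Lrfl
theorem f42296 : Led Lsl_gt (LP (LK LD1_c5 LD2_c20 LD3_c33)) = (LP (LK LD1_c2 LD2_c36 LD3_c55)) :=
  Lre_g IH (LK LD1_c5 LD2_c20 LD3_c33) (LK LD1_c2 LD2_c36 LD3_c55) Lrfl Lrfl
theorem f41733 : Led Lsl_at (LP (LK LD1_c1 LD2_c2 LD3_c31)) = (LP (LK LD1_c0 LD2_c28 LD3_c33)) :=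
  Lre_a IH (LK LD1_c1 LD2_c2 LD3_c31) (LK LD1_c0 LD2_c28 LD3_c33) Lrfl Lrfl
theorem f41735 : Led Lsl_et (LP (LK LD1_c0 LD2_c28 LD3_c33)) = (LP (LK LD1_c0 LD2_c39 LD3_c11)) :=
  Lgr Lrot123 (Lpe (f41733 IH) (Lpr_ef (K1.f41710 IH) (Lpe (K1.f41734 IH) (Lpn (LP (LK LD1_c0 LD2_c39 LD3_c11))))))
theorem f42299 : Led Lsl_gt (LP (LK LD1_c2 LD2_c11 LD3_c6)) = (LP (LK LD1_c4 LD2_c27 LD3_c55)) :=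
  Lre_g IH (LK LD1_c2 LD2_c11 LD3_c6) (LK LD1_c4 LD2_c27 LD3_c55) Lrfl Lrfl
theorem f42300 : Led Lsl_df (LP (LK LD1_c5 LD2_c20 LD3_c33)) = (LP (LK LD1_c4 LD2_c27 LD3_c55)) :=
  Lgr Lrot135 (Lpr_gt (f42296 IH) (Lpr_df (K15.f42149 IH) (Lpr_et (f42295 IH) (Lpr_gt (K9.f42114 IH) (Lpe (f41735 IH) (Lpr_dt (K12.f42297 IH) (Lpr_gt (K12.f42298 IH) (Lpe (K14.f41726 IH) (Lpr_et (K17.f41727 IH) (Lpr_gt (f42299 IH) (Lpn (LP (LK LD1_c4 LD2_c27 LD3_c55)))))))))))))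
theorem f42195 : Led Lsl_gt (LP (LK LD1_c2 LD2_c58 LD3_c32)) = (LP (LK LD1_c6 LD2_c4 LD3_c42)) :=
  Lre_g IH (LK LD1_c2 LD2_c58 LD3_c32) (LK LD1_c6 LD2_c4 LD3_c42) Lrfl Lrfl
theorem f42302 : Led Lsl_et (LP (LK LD1_c4 LD2_c27 LD3_c55)) = (LP (LK LD1_c6 LD2_c4 LD3_c42)) :=
  Lgr Lrot122 (Lpe (f42300 IH) (Lpr_gt (f42296 IH) (Lpr_df (K15.f42149 IH) (Lpr_et (f42295 IH) (Lpr_gt (K9.f42114 IH) (Lpr_dt (K10.f42118 IH) (Lpr_gt (K9.f42120 IH) (Lpe (K16.f42170 IH) (Lpr_et (K20.f42249 IH) (Lpr_gt (f42195 IH) (Lpn (LP (LK LD1_c6 LD2_c4 LD3_c42)))))))))))))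
theorem f42307 : Led Lsl_ef (LP (LK LD1_c4 LD2_c27 LD3_c55)) = (LP (LK LD1_c6 LD2_c4 LD3_c42)) :=
  Lgr Lrot88 (Lpr_et (f42302 IH) (Lpn (LP (LK LD1_c6 LD2_c4 LD3_c42))))
theorem f42317 : Led Lsl_df (LP (LK LD1_c8 LD2_c54 LD3_c48)) = (LP (LK LD1_c6 LD2_c4 LD3_c42)) :=
  Lgr Lrot170 (Lpr_gt (f42316 IH) (Lpe (K17.f41557 IH) (Lpr_et (K15.f41556 IH) (Lpr_gt (K12.f42315 IH) (Lpr_dt (K12.f42297 IH) (Lpr_gt (K12.f42298 IH) (Lpe (K14.f41726 IH) (Lpr_et (K17.f41727 IH) (Lpr_gt (f42299 IH) (Lpr_ef (f42307 IH) (Lpn (LP (LK LD1_c6 LD2_c4 LD3_c42)))))))))))))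
theorem f42319 : Led Lsl_dt (LP (LK LD1_c8 LD2_c54 LD3_c48)) = (LP (LK LD1_c6 LD2_c4 LD3_c42)) :=
  Lgr Lrot42 (Lpr_df (f42317 IH) (Lpn (LP (LK LD1_c6 LD2_c4 LD3_c42))))
theorem f42313 : Led Lsl_et (LP (LK LD1_c5 LD2_c20 LD3_c33)) = (LP (LK LD1_c10 LD2_c31 LD3_c10)) :=
  Lre_e IH (LK LD1_c5 LD2_c20 LD3_c33) (LK LD1_c10 LD2_c31 LD3_c10) Lrfl Lrfl
theorem f42314 : Led Lsl_dt (LP (LK LD1_c10 LD2_c31 LD3_c10)) = (LP (LK LD1_c10 LD2_c42 LD3_c47)) :=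
  Lre_d IH (LK LD1_c10 LD2_c31 LD3_c10) (LK LD1_c10 LD2_c42 LD3_c47) Lrfl Lrfl
theorem f42347 : Led Lsl_ef (LP (LK LD1_c8 LD2_c54 LD3_c48)) = (LP (LK LD1_c10 LD2_c42 LD3_c47)) :=
  Lgr Lrot73 (Lpr_dt (f42319 IH) (Lpe (f42307 IH) (Lpe (f42300 IH) (Lpr_et (f42313 IH) (Lpr_dt (f42314 IH) (Lpn (LP (LK LD1_c10 LD2_c42 LD3_c47))))))))
theorem f42352 : Led Lsl_dt (LP (LK LD1_c10 LD2_c42 LD3_c47)) = (LP (LK LD1_c10 LD2_c31 LD3_c10)) :=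
  Lre_d IH (LK LD1_c10 LD2_c42 LD3_c47) (LK LD1_c10 LD2_c31 LD3_c10) Lrfl Lrfl
theorem f192862 : Led Lsl_et (LP (LK LD1_c1 LD2_c15 LD3_c49)) = (LP (LK LD1_c2 LD2_c37 LD3_c37)) :=
  Lre_e IH (LK LD1_c1 LD2_c15 LD3_c49) (LK LD1_c2 LD2_c37 LD3_c37) Lrfl Lrfl
theorem f223564 : Led Lsl_gf (LP (LK LD1_c10 LD2_c31 LD3_c10)) = (LP (LK LD1_c10 LD2_c32 LD3_c30)) :=
  Lgr Lrot134 (Lpe (f42352 IH) (Lpe (f42347 IH) (Lpr_gt (f42316 IH) (Lpr_ef (K16.f223562 IH) (Lpr_dt (K14.f165487 IH) (Lpe (K14.f192852 IH) (Lpe (K10.f45819 IH) (Lpr_et (f192862 IH) (Lpr_gt (f8697 IH) (Lpr_dt (f8698 IH) (Lpn (LP (LK LD1_c10 LD2_c32 LD3_c30)))))))))))))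
theorem f42349 : Led Lsl_et (LP (LK LD1_c8 LD2_c54 LD3_c48)) = (LP (LK LD1_c10 LD2_c42 LD3_c47)) :=
  Lgr Lrot87 (Lpr_ef (f42347 IH) (Lpn (LP (LK LD1_c10 LD2_c42 LD3_c47))))
theorem f42208 : Led Lsl_et (LP (LK LD1_c2 LD2_c37 LD3_c4)) = (LP (LK LD1_c1 LD2_c15 LD3_c32)) :=
  Lre_e IH (LK LD1_c2 LD2_c37 LD3_c4) (LK LD1_c1 LD2_c15 LD3_c32) Lrfl Lrfl
theorem f42212 : Led Lsl_et (LP (LK LD1_c1 LD2_c16 LD3_c25)) = (LP (LK LD1_c0 LD2_c35 LD3_c21)) :=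
  Lre_e IH (LK LD1_c1 LD2_c16 LD3_c25) (LK LD1_c0 LD2_c35 LD3_c21) Lrfl Lrfl
theorem f42357 : Led Lsl_gf (LP (LK LD1_c5 LD2_c25 LD3_c48)) = (LP (LK LD1_c10 LD2_c42 LD3_c47)) :=
  Lgr Lrot138 (Lpr_dt (K16.f41514 IH) (Lpr_gt (K17.f42213 IH) (Lpe (K17.f7595 IH) (Lpr_et (f42212 IH) (Lpr_gt (K9.f42159 IH) (Lpe (f42208 IH) (Lpr_dt (K20.f42172 IH) (Lpr_gt (f42195 IH) (Lpe (f42319 IH) (Lpr_et (f42349 IH) (Lpn (LP (LK LD1_c10 LD2_c42 LD3_c47)))))))))))))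
theorem f41500 : Led Lsl_dt (LP (LK LD1_c2 LD2_c39 LD3_c17)) = (LP (LK LD1_c5 LD2_c25 LD3_c48)) :=
  Lre_d IH (LK LD1_c2 LD2_c39 LD3_c17) (LK LD1_c5 LD2_c25 LD3_c48) Lrfl Lrfl
theorem f322398 : Led Lsl_bt (LP (LK LD1_c8 LD2_c23 LD3_c50)) = (LP (LK LD1_c4 LD2_c12 LD3_c6)) :=
  Lre_b IH (LK LD1_c8 LD2_c23 LD3_c50) (LK LD1_c4 LD2_c12 LD3_c6) Lrfl Lrfl
theorem f322399 : Led Lsl_dt (LP (LK LD1_c5 LD2_c21 LD3_c52)) = (LP (LK LD1_c8 LD2_c23 LD3_c50)) :=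
  Lgr Lrot79 (Lpe (K20.f314688 IH) (Lpr_df (K20.f322396 IH) (Lpe (f322398 IH) (Lpn (LP (LK LD1_c8 LD2_c23 LD3_c50))))))
theorem f322511 : Led Lsl_gt (LP (LK LD1_c5 LD2_c25 LD3_c49)) = (LP (LK LD1_c10 LD2_c34 LD3_c1)) :=
  Lgr Lrot131 (Lpe (K16.f42365 IH) (Lpr_dt (f41500 IH) (Lpr_gf (f42357 IH) (Lpe (f42314 IH) (Lpr_gf (f223564 IH) (Lpe (f289014 IH) (Lpr_dt (f288875 IH) (Lpr_gf (f322504 IH) (Lpe (f322399 IH) (Lpr_et (K20.f256516 IH) (Lpn (LP (LK LD1_c10 LD2_c34 LD3_c1)))))))))))))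
theorem f169373 : Led Lsl_ct (LP (LK LD1_c2 LD2_c5 LD3_c44)) = (LP (LK LD1_c4 LD2_c16 LD3_c55)) :=
  Lre_c IH (LK LD1_c2 LD2_c5 LD3_c44) (LK LD1_c4 LD2_c16 LD3_c55) Lrfl Lrfl
theorem f169384 : Led Lsl_dt (LP (LK LD1_c8 LD2_c33 LD3_c14)) = (LP (LK LD1_c4 LD2_c16 LD3_c55)) :=
  Lre_d IH (LK LD1_c8 LD2_c33 LD3_c14) (LK LD1_c4 LD2_c16 LD3_c55) Lrfl Lrfl
theorem f169385 : Led Lsl_gt (LP (LK LD1_c16 LD2_c3 LD3_c28)) = (LP (LK LD1_c8 LD2_c33 LD3_c14)) :=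
  Lre_g IH (LK LD1_c16 LD2_c3 LD3_c28) (LK LD1_c8 LD2_c33 LD3_c14) Lrfl Lrfl
theorem f316431 : Led Lsl_gt (LP (LK LD1_c8 LD2_c34 LD3_c55)) = (LP (LK LD1_c4 LD2_c18 LD3_c6)) :=
  Lre_g IH (LK LD1_c8 LD2_c34 LD3_c55) (LK LD1_c4 LD2_c18 LD3_c6) Lrfl Lrfl
theorem f167604 : Led Lsl_ct (LP (LK LD1_c16 LD2_c6 LD3_c6)) = (LP (LK LD1_c8 LD2_c34 LD3_c55)) :=
  Lre_c IH (LK LD1_c16 LD2_c6 LD3_c6) (LK LD1_c8 LD2_c34 LD3_c55) Lrfl Lrfl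
theorem f302866 : Led Lsl_gt (LP (LK LD1_c16 LD2_c6 LD3_c6)) = (LP (LK LD1_c8 LD2_c35 LD3_c4)) :=
  Lre_g IH (LK LD1_c16 LD2_c6 LD3_c6) (LK LD1_c8 LD2_c35 LD3_c4) Lrfl Lrfl
theorem f316464 : Led Lsl_df (LP (LK LD1_c16 LD2_c3 LD3_c28)) = (LP (LK LD1_c8 LD2_c35 LD3_c4)) :=
  Lgr Lrot153 (Lpr_gt (f169385 IH) (Lpr_dt (f169384 IH) (Lpe (f169373 IH) (Lpr_df (K10.f169360 IH) (Lpe (K20.f166070 IH) (Lpr_df (K20.f316421 IH) (Lpe (f316431 IH) (Lpe (f167604 IH) (Lpr_gt (f302866 IH) (Lpn (LP (LK LD1_c8 LD2_c35 LD3_c4))))))))))))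
theorem f169374 : Led Lsl_dt (LP (LK LD1_c4 LD2_c16 LD3_c55)) = (LP (LK LD1_c8 LD2_c33 LD3_c14)) :=
  Lre_d IH (LK LD1_c4 LD2_c16 LD3_c55) (LK LD1_c8 LD2_c33 LD3_c14) Lrfl Lrfl
theorem f252065 : Led Lsl_et (LP (LK LD1_c4 LD2_c16 LD3_c55)) = (LP (LK LD1_c2 LD2_c5 LD3_c43)) :=
  Lre_e IH (LK LD1_c4 LD2_c16 LD3_c55) (LK LD1_c2 LD2_c5 LD3_c43) Lrfl Lrfl
theorem f287772 : Led Lsl_et (LP (LK LD1_c8 LD2_c33 LD3_c2)) = (LP (LK LD1_c4 LD2_c16 LD3_c51)) :=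
  Lre_e IH (LK LD1_c8 LD2_c33 LD3_c2) (LK LD1_c4 LD2_c16 LD3_c51) Lrfl Lrfl
theorem f287770 : Led Lsl_et (LP (LK LD1_c4 LD2_c11 LD3_c7)) = (LP (LK LD1_c2 LD2_c2 LD3_c49)) :=
  Lre_e IH (LK LD1_c4 LD2_c11 LD3_c7) (LK LD1_c2 LD2_c2 LD3_c49) Lrfl Lrfl
theorem f215504 : Led Lsl_dt (LP (LK LD1_c4 LD2_c11 LD3_c7)) = (LP (LK LD1_c8 LD2_c22 LD3_c12)) :=
  Lre_d IH (LK LD1_c4 LD2_c11 LD3_c7) (LK LD1_c8 LD2_c22 LD3_c12) Lrfl Lrfl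
theorem f287771 : Led Lsl_gt (LP (LK LD1_c8 LD2_c22 LD3_c12)) = (LP (LK LD1_c15 LD2_c45 LD3_c8)) :=
  Lre_g IH (LK LD1_c8 LD2_c22 LD3_c12) (LK LD1_c15 LD2_c45 LD3_c8) Lrfl Lrfl
theorem f287773 : Led Lsl_df (LP (LK LD1_c15 LD2_c45 LD3_c8)) = (LP (LK LD1_c8 LD2_c33 LD3_c2)) :=
  Lgr Lrot168 (Lpe (f287771 IH) (Lpe (f215504 IH) (Lpr_et (f287770 IH) (Lpe (K12.f51529 IH) (Lpe (K19.f270901 IH) (Lpr_dt (K17.f287758 IH) (Lpe (K17.f251997 IH) (Lpe (K19.f251985 IH) (Lpr_gf (K14.f252066 IH) (Lpe (f287772 IH) (Lpn (LP (LK LD1_c8 LD2_c33 LD3_c2)))))))))))))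
theorem f215510 : Led Lsl_gt (LP (LK LD1_c15 LD2_c45 LD3_c8)) = (LP (LK LD1_c25 LD2_c40 LD3_c58)) :=
  Lre_g IH (LK LD1_c15 LD2_c45 LD3_c8) (LK LD1_c25 LD2_c40 LD3_c58) Lrfl Lrfl
theorem f215497 : Led Lsl_dt (LP (LK LD1_c15 LD2_c44 LD3_c35)) = (LP (LK LD1_c25 LD2_c40 LD3_c58)) :=
  Lre_d IH (LK LD1_c15 LD2_c44 LD3_c35) (LK LD1_c25 LD2_c40 LD3_c58) Lrfl Lrfl
theorem f316475 : Led Lsl_et (LP (LK LD1_c15 LD2_c44 LD3_c35)) = (LP (LK LD1_c16 LD2_c6 LD3_c6)) :=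
  Lgr Lrot121 (Lpr_dt (f215497 IH) (Lpe (f215510 IH) (Lpr_df (f287773 IH) (Lpr_et (f287772 IH) (Lpe (K14.f170261 IH) (Lpe (f252065 IH) (Lpr_dt (f169374 IH) (Lpe (f169385 IH) (Lpr_df (f316464 IH) (Lpe (f302866 IH) (Lpn (LP (LK LD1_c16 LD2_c6 LD3_c6)))))))))))))
theorem f316492 : Led Lsl_ef (LP (LK LD1_c8 LD2_c21 LD3_c60)) = (LP (LK LD1_c8 LD2_c34 LD3_c55)) :=
  Lgr Lrot28 (Lpr_ct (K19.f215496 IH) (Lpr_et (f316475 IH) (Lpr_ct (f167604 IH) (Lpn (LP (LK LD1_c8 LD2_c34 LD3_c55))))))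
theorem f167532 : Led Lsl_at (LP (LK LD1_c4 LD2_c18 LD3_c7)) = (LP (LK LD1_c8 LD2_c34 LD3_c55)) :=
  Lre_a IH (LK LD1_c4 LD2_c18 LD3_c7) (LK LD1_c8 LD2_c34 LD3_c55) Lrfl Lrfl
theorem f299470 : Led Lsl_df (LP (LK LD1_c8 LD2_c52 LD3_c8)) = (LP (LK LD1_c8 LD2_c34 LD3_c55)) :=
  Lgr Lrot18 (Lpr_at (K18.f299462 IH) (Lpe (f167459 IH) (Lpr_at (f167532 IH) (Lpn (LP (LK LD1_c8 LD2_c34 LD3_c55))))))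
theorem f276786 : Led Lsl_dt (LP (LK LD1_c4 LD2_c10 LD3_c51)) = (LP (LK LD1_c8 LD2_c21 LD3_c39)) :=
  Lre_d IH (LK LD1_c4 LD2_c10 LD3_c51) (LK LD1_c8 LD2_c21 LD3_c39) Lrfl Lrfl
theorem f169370 : Led Lsl_gt (LP (LK LD1_c4 LD2_c16 LD3_c58)) = (LP (LK LD1_c8 LD2_c32 LD3_c48)) :=
  Lre_g IH (LK LD1_c4 LD2_c16 LD3_c58) (LK LD1_c8 LD2_c32 LD3_c48) Lrfl Lrfl
theorem f249111 : Led Lsl_et (LP (LK LD1_c5 LD2_c19 LD3_c58)) = (LP (LK LD1_c2 LD2_c36 LD3_c39)) :=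
  Lre_e IH (LK LD1_c5 LD2_c19 LD3_c58) (LK LD1_c2 LD2_c36 LD3_c39) Lrfl Lrfl
theorem f248333 : Led Lsl_dt (LP (LK LD1_c5 LD2_c19 LD3_c58)) = (LP (LK LD1_c10 LD2_c29 LD3_c50)) :=
  Lre_d IH (LK LD1_c5 LD2_c19 LD3_c58) (LK LD1_c10 LD2_c29 LD3_c50) Lrfl Lrfl
theorem f247458 : Led Lsl_et (LP (LK LD1_c2 LD2_c29 LD3_c59)) = (LP (LK LD1_c5 LD2_c5 LD3_c26)) :=
  Lre_e IH (LK LD1_c2 LD2_c29 LD3_c59) (LK LD1_c5 LD2_c5 LD3_c26) Lrfl Lrfl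
theorem f247459 : Led Lsl_gt (LP (LK LD1_c5 LD2_c5 LD3_c26)) = (LP (LK LD1_c10 LD2_c1 LD3_c60)) :=
  Lre_g IH (LK LD1_c5 LD2_c5 LD3_c26) (LK LD1_c10 LD2_c1 LD3_c60) Lrfl Lrfl
theorem f247469 : Led Lsl_dt (LP (LK LD1_c10 LD2_c1 LD3_c60)) = (LP (LK LD1_c18 LD2_c20 LD3_c2)) :=
  Lre_d IH (LK LD1_c10 LD2_c1 LD3_c60) (LK LD1_c18 LD2_c20 LD3_c2) Lrfl Lrfl
theorem f249115 : Led Lsl_gf (LP (LK LD1_c10 LD2_c29 LD3_c50)) = (LP (LK LD1_c18 LD2_c20 LD3_c2)) :=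
  Lgr Lrot134 (Lpe (f248333 IH) (Lpr_et (f249111 IH) (Lpr_gt (K14.f249098 IH) (Lpe (K12.f44390 IH) (Lpr_dt (K9.f44398 IH) (Lpr_gt (K14.f247454 IH) (Lpe (K14.f186752 IH) (Lpr_et (f247458 IH) (Lpr_gt (f247459 IH) (Lpr_dt (f247469 IH) (Lpn (LP (LK LD1_c18 LD2_c20 LD3_c2)))))))))))))
theorem f248314 : Led Lsl_dt (LP (LK LD1_c10 LD2_c29 LD3_c50)) = (LP (LK LD1_c5 LD2_c19 LD3_c58)) :=
  Lre_d IH (LK LD1_c10 LD2_c29 LD3_c50) (LK LD1_c5 LD2_c19 LD3_c58) Lrfl Lrfl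
theorem f248302 : Led Lsl_ct (LP (LK LD1_c5 LD2_c19 LD3_c58)) = (LP (LK LD1_c2 LD2_c36 LD3_c40)) :=
  Lre_c IH (LK LD1_c5 LD2_c19 LD3_c58) (LK LD1_c2 LD2_c36 LD3_c40) Lrfl Lrfl
theorem f167600 : Led Lsl_ct (LP (LK LD1_c2 LD2_c29 LD3_c60)) = (LP (LK LD1_c5 LD2_c5 LD3_c26)) :=
  Lre_c IH (LK LD1_c2 LD2_c29 LD3_c60) (LK LD1_c5 LD2_c5 LD3_c26) Lrfl Lrfl
theorem f167518 : Led Lsl_gt (LP (LK LD1_c2 LD2_c29 LD3_c60)) = (LP (LK LD1_c5 LD2_c5 LD3_c27)) :=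
  Lre_g IH (LK LD1_c2 LD2_c29 LD3_c60) (LK LD1_c5 LD2_c5 LD3_c27) Lrfl Lrfl
theorem f249120 : Led Lsl_df (LP (LK LD1_c8 LD2_c32 LD3_c48)) = (LP (LK LD1_c5 LD2_c5 LD3_c27)) :=
  Lgr Lrot153 (Lpr_gt (f230977 IH) (Lpe (K14.f248308 IH) (Lpe (f248302 IH) (Lpe (f248314 IH) (Lpr_gf (f249115 IH) (Lpe (f247469 IH) (Lpe (f247459 IH) (Lpe (f167600 IH) (Lpr_gt (f167518 IH) (Lpn (LP (LK LD1_c5 LD2_c5 LD3_c27))))))))))))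
theorem f249202 : Led Lsl_dt (LP (LK LD1_c8 LD2_c32 LD3_c48)) = (LP (LK LD1_c5 LD2_c5 LD3_c27)) :=
  Lgr Lrot42 (Lpr_df (f249120 IH) (Lpn (LP (LK LD1_c5 LD2_c5 LD3_c27))))
theorem f316498 : Led Lsl_gt (LP (LK LD1_c5 LD2_c5 LD3_c27)) = (LP (LK LD1_c8 LD2_c52 LD3_c8)) :=
  Lgr Lrot139 (Lpe (f249202 IH) (Lpe (f169370 IH) (Lpe (f276791 IH) (Lpr_dt (f276786 IH) (Lpr_gf (K16.f276781 IH) (Lpe (K16.f276759 IH) (Lpr_et (K16.f215540 IH) (Lpe (K17.f215489 IH) (Lpr_ef (f316492 IH) (Lpe (f299470 IH) (Lpn (LP (LK LD1_c8 LD2_c52 LD3_c8)))))))))))))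
theorem f322482 : Led Lsl_gt (LP (LK LD1_c8 LD2_c23 LD3_c49)) = (LP (LK LD1_c15 LD2_c47 LD3_c27)) :=
  Lre_g IH (LK LD1_c8 LD2_c23 LD3_c49) (LK LD1_c15 LD2_c47 LD3_c27) Lrfl Lrfl
theorem f322526 : Led Lsl_et (LP (LK LD1_c8 LD2_c32 LD3_c48)) = (LP (LK LD1_c15 LD2_c47 LD3_c27)) :=
  Lgr Lrot122 (Lpr_dt (f249202 IH) (Lpr_gt (f316498 IH) (Lpr_df (f299470 IH) (Lpe (f316492 IH) (Lpr_gt (K17.f215489 IH) (Lpe (K20.f215478 IH) (Lpr_gt (f322511 IH) (Lpr_df (K16.f256514 IH) (Lpr_et (K20.f322470 IH) (Lpr_gt (f322482 IH) (Lpn (LP (LK LD1_c15 LD2_c47 LD3_c27)))))))))))))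
theorem f322532 : Led Lsl_ef (LP (LK LD1_c8 LD2_c32 LD3_c48)) = (LP (LK LD1_c15 LD2_c47 LD3_c27)) :=
  Lgr Lrot88 (Lpr_et (f322526 IH) (Lpn (LP (LK LD1_c15 LD2_c47 LD3_c27))))
theorem f249114 : Led Lsl_gt (LP (LK LD1_c5 LD2_c12 LD3_c5)) = (LP (LK LD1_c10 LD2_c14 LD3_c59)) :=
  Lre_g IH (LK LD1_c5 LD2_c12 LD3_c5) (LK LD1_c10 LD2_c14 LD3_c59) Lrfl Lrfl
theorem f249127 : Led Lsl_ef (LP (LK LD1_c10 LD2_c14 LD3_c59)) = (LP (LK LD1_c10 LD2_c1 LD3_c60)) :=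
  Lgr Lrot17 (Lpe (f249114 IH) (Lpe (K18.f249113 IH) (Lpr_dt (K14.f249112 IH) (Lpr_gf (K14.f249105 IH) (Lpe (K9.f43431 IH) (Lpe (K14.f249098 IH) (Lpe (f249111 IH) (Lpr_dt (f248333 IH) (Lpr_gf (f249115 IH) (Lpe (f247469 IH) (Lpn (LP (LK LD1_c10 LD2_c1 LD3_c60)))))))))))))
theorem f249137 : Led Lsl_et (LP (LK LD1_c10 LD2_c14 LD3_c59)) = (LP (LK LD1_c10 LD2_c1 LD3_c60)) :=
  Lgr Lrot87 (Lpr_ef (f249127 IH) (Lpn (LP (LK LD1_c10 LD2_c1 LD3_c60))))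
theorem f249136 : Led Lsl_dt (LP (LK LD1_c10 LD2_c14 LD3_c59)) = (LP (LK LD1_c18 LD2_c38 LD3_c57)) :=
  Lre_d IH (LK LD1_c10 LD2_c14 LD3_c59) (LK LD1_c18 LD2_c38 LD3_c57) Lrfl Lrfl
theorem f247461 : Led Lsl_dt (LP (LK LD1_c8 LD2_c52 LD3_c34)) = (LP (LK LD1_c16 LD2_c35 LD3_c41)) :=
  Lre_d IH (LK LD1_c8 LD2_c52 LD3_c34) (LK LD1_c16 LD2_c35 LD3_c41) Lrfl Lrfl
theorem f249144 : Led Lsl_gt (LP (LK LD1_c18 LD2_c38 LD3_c57)) = (LP (LK LD1_c16 LD2_c35 LD3_c41)) :=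
  Lgr Lrot112 (Lpe (f249136 IH) (Lpr_et (f249137 IH) (Lpe (f247459 IH) (Lpe (f247458 IH) (Lpr_dt (K14.f186752 IH) (Lpe (K14.f247454 IH) (Lpe (K9.f44398 IH) (Lpr_gf (K14.f247443 IH) (Lpe (K14.f247460 IH) (Lpr_dt (f247461 IH) (Lpn (LP (LK LD1_c16 LD2_c35 LD3_c41)))))))))))))
theorem f185619 : Led Lsl_ct (LP (LK LD1_c5 LD2_c12 LD3_c5)) = (LP (LK LD1_c2 LD2_c32 LD3_c54)) :=
  Lre_c IH (LK LD1_c5 LD2_c12 LD3_c5) (LK LD1_c2 LD2_c32 LD3_c54) Lrfl Lrfl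
theorem f200176 : Led Lsl_gt (LP (LK LD1_c2 LD2_c32 LD3_c54)) = (LP (LK LD1_c5 LD2_c12 LD3_c6)) :=
  Lre_g IH (LK LD1_c2 LD2_c32 LD3_c54) (LK LD1_c5 LD2_c12 LD3_c6) Lrfl Lrfl
theorem f248370 : Led Lsl_dt (LP (LK LD1_c16 LD2_c35 LD3_c41)) = (LP (LK LD1_c8 LD2_c52 LD3_c34)) :=
  Lre_d IH (LK LD1_c16 LD2_c35 LD3_c41) (LK LD1_c8 LD2_c52 LD3_c34) Lrfl Lrfl
theorem f231234 : Led Lsl_gt (LP (LK LD1_c8 LD2_c20 LD3_c19)) = (LP (LK LD1_c4 LD2_c10 LD3_c1)) :=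
  Lre_g IH (LK LD1_c8 LD2_c20 LD3_c19) (LK LD1_c4 LD2_c10 LD3_c1) Lrfl Lrfl
theorem f249146 : Led Lsl_dt (LP (LK LD1_c5 LD2_c12 LD3_c6)) = (LP (LK LD1_c8 LD2_c20 LD3_c19)) :=
  Lgr Lrot57 (Lpe (f200176 IH) (Lpe (f185619 IH) (Lpr_gt (f249114 IH) (Lpr_dt (f249136 IH) (Lpr_gt (f249144 IH) (Lpr_dt (f248370 IH) (Lpe (K14.f248304 IH) (Lpr_df (K14.f248363 IH) (Lpe (f231234 IH) (Lpn (LP (LK LD1_c8 LD2_c20 LD3_c19))))))))))))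
theorem f249157 : Led Lsl_et (LP (LK LD1_c5 LD2_c12 LD3_c6)) = (LP (LK LD1_c5 LD2_c5 LD3_c27)) :=
  Lgr Lrot122 (Lpr_dt (f249146 IH) (Lpr_gt (f231234 IH) (Lpr_df (K14.f247430 IH) (Lpr_et (K14.f44757 IH) (Lpr_gt (K14.f44756 IH) (Lpr_dt (K1.f44591 IH) (Lpr_gt (K10.f192357 IH) (Lpe (K15.f31636 IH) (Lpr_et (K18.f165199 IH) (Lpr_gt (f167518 IH) (Lpn (LP (LK LD1_c5 LD2_c5 LD3_c27)))))))))))))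
theorem f249153 : Led Lsl_df (LP (LK LD1_c5 LD2_c12 LD3_c6)) = (LP (LK LD1_c8 LD2_c20 LD3_c19)) :=
  Lgr Lrot38 (Lpr_dt (f249146 IH) (Lpn (LP (LK LD1_c8 LD2_c20 LD3_c19))))
theorem f231089 : Led Lsl_et (LP (LK LD1_c15 LD2_c41 LD3_c46)) = (LP (LK LD1_c8 LD2_c20 LD3_c19)) :=
  Lre_e IH (LK LD1_c15 LD2_c41 LD3_c46) (LK LD1_c8 LD2_c20 LD3_c19) Lrfl Lrfl
theorem f322530 : Led Lsl_df (LP (LK LD1_c15 LD2_c41 LD3_c46)) = (LP (LK LD1_c15 LD2_c47 LD3_c27)) :=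
  Lgr Lrot70 (Lpr_et (f231089 IH) (Lpe (f249153 IH) (Lpr_et (f249157 IH) (Lpe (f249120 IH) (Lpr_et (f322526 IH) (Lpn (LP (LK LD1_c15 LD2_c47 LD3_c27))))))))
theorem f325389 : Led Lsl_gt (LP (LK LD1_c8 LD2_c35 LD3_c50)) = (LP (LK LD1_c15 LD2_c41 LD3_c46)) :=
  Lgr Lrot112 (Lpe (f179834 IH) (Lpr_et (f179829 IH) (Lpr_gf (f325383 IH) (Lpe (f325346 IH) (Lpe (f325387 IH) (Lpe (f248340 IH) (Lpr_df (K14.f248308 IH) (Lpe (f230977 IH) (Lpr_ef (f322532 IH) (Lpe (f322530 IH) (Lpn (LP (LK LD1_c15 LD2_c41 LD3_c46)))))))))))))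
theorem f322612 : Led Lsl_cf (LP (LK LD1_c26 LD2_c0 LD3_c60)) = (LP (LK LD1_c26 LD2_c3 LD3_c54)) :=
  Lgr Lrot11 (Lpr_ct (K20.f322610 IH) (Lpn (LP (LK LD1_c26 LD2_c3 LD3_c54))))
theorem f322622 : Led Lsl_cf (LP (LK LD1_c9 LD2_c38 LD3_c39)) = (LP (LK LD1_c15 LD2_c41 LD3_c29)) :=
  Lgr Lrot166 (Lpr_gt (K20.f322614 IH) (Lpr_dt (K20.f188776 IH) (Lpr_gt (K20.f218107 IH) (Lpr_dt (K20.f218109 IH) (Lpe (f322612 IH) (Lpr_df (K20.f322587 IH) (Lpr_gf (K20.f219231 IH) (Lpe (K13.f199941 IH) (Lpe (K20.f232835 IH) (Lpn (LP (LK LD1_c15 LD2_c41 LD3_c29))))))))))))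
theorem f299348 : Led Lsl_dt (LP (LK LD1_c9 LD2_c38 LD3_c39)) = (LP (LK LD1_c17 LD2_c44 LD3_c57)) :=
  Lre_d IH (LK LD1_c9 LD2_c38 LD3_c39) (LK LD1_c17 LD2_c44 LD3_c57) Lrfl Lrfl
theorem f249196 : Led Lsl_ct (LP (LK LD1_c15 LD2_c41 LD3_c46)) = (LP (LK LD1_c25 LD2_c37 LD3_c21)) :=
  Lre_c IH (LK LD1_c15 LD2_c41 LD3_c46) (LK LD1_c25 LD2_c37 LD3_c21) Lrfl Lrfl
theorem f184248 : Led Lsl_dt (LP (LK LD1_c4 LD2_c16 LD3_c46)) = (LP (LK LD1_c8 LD2_c32 LD3_c52)) :=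
  Lre_d IH (LK LD1_c4 LD2_c16 LD3_c46) (LK LD1_c8 LD2_c32 LD3_c52) Lrfl Lrfl
theorem f258371 : Led Lsl_et (LP (LK LD1_c4 LD2_c16 LD3_c46)) = (LP (LK LD1_c8 LD2_c32 LD3_c53)) :=
  Lre_e IH (LK LD1_c4 LD2_c16 LD3_c46) (LK LD1_c8 LD2_c32 LD3_c53) Lrfl Lrfl
theorem f184298 : Led Lsl_gt (LP (LK LD1_c8 LD2_c32 LD3_c53)) = (LP (LK LD1_c16 LD2_c2 LD3_c50)) :=
  Lre_g IH (LK LD1_c8 LD2_c32 LD3_c53) (LK LD1_c16 LD2_c2 LD3_c50) Lrfl Lrfl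
theorem f258373 : Led Lsl_et (LP (LK LD1_c26 LD2_c0 LD3_c22)) = (LP (LK LD1_c16 LD2_c2 LD3_c50)) :=
  Lre_e IH (LK LD1_c26 LD2_c0 LD3_c22) (LK LD1_c16 LD2_c2 LD3_c50) Lrfl Lrfl
theorem f219150 : Led Lsl_gt (LP (LK LD1_c15 LD2_c41 LD3_c31)) = (LP (LK LD1_c25 LD2_c37 LD3_c3)) :=
  Lre_g IH (LK LD1_c15 LD2_c41 LD3_c31) (LK LD1_c25 LD2_c37 LD3_c3) Lrfl Lrfl
theorem f232771 : Led Lsl_gf (LP (LK LD1_c15 LD2_c43 LD3_c25)) = (LP (LK LD1_c25 LD2_c37 LD3_c3)) :=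
  Lgr Lrot76 (Lpe (K13.f232769 IH) (Lpr_ff (K13.f232764 IH) (Lpr_gt (f219150 IH) (Lpn (LP (LK LD1_c25 LD2_c37 LD3_c3))))))
theorem f258374 : Led Lsl_dt (LP (LK LD1_c26 LD2_c0 LD3_c22)) = (LP (LK LD1_c25 LD2_c37 LD3_c3)) :=
  Lgr Lrot136 (Lpr_et (f258373 IH) (Lpe (f184298 IH) (Lpe (f258371 IH) (Lpr_dt (f184248 IH) (Lpr_gf (K16.f258316 IH) (Lpe (K16.f199939 IH) (Lpe (K16.f199937 IH) (Lpe (K20.f199936 IH) (Lpr_dt (K13.f199941 IH) (Lpr_gf (f232771 IH) (Lpn (LP (LK LD1_c25 LD2_c37 LD3_c3)))))))))))))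
theorem f249155 : Led Lsl_et (LP (LK LD1_c8 LD2_c20 LD3_c19)) = (LP (LK LD1_c15 LD2_c41 LD3_c46)) :=
  Lre_e IH (LK LD1_c8 LD2_c20 LD3_c19) (LK LD1_c15 LD2_c41 LD3_c46) Lrfl Lrfl
theorem f249192 : Led Lsl_gf (LP (LK LD1_c15 LD2_c41 LD3_c33)) = (LP (LK LD1_c15 LD2_c41 LD3_c46)) :=
  Lgr Lrot138 (Lpr_dt (K16.f184475 IH) (Lpr_gt (K16.f232830 IH) (Lpe (K13.f199911 IH) (Lpr_et (K11.f199913 IH) (Lpr_gt (K11.f200127 IH) (Lpe (K20.f170633 IH) (Lpe (K18.f200150 IH) (Lpr_gt (f200176 IH) (Lpr_df (f249153 IH) (Lpr_et (f249155 IH) (Lpn (LP (LK LD1_c15 LD2_c41 LD3_c46)))))))))))))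
theorem f249194 : Led Lsl_ct (LP (LK LD1_c25 LD2_c37 LD3_c21)) = (LP (LK LD1_c15 LD2_c41 LD3_c46)) :=
  Lre_c IH (LK LD1_c25 LD2_c37 LD3_c21) (LK LD1_c15 LD2_c41 LD3_c46) Lrfl Lrfl
theorem f258379 : Led Lsl_gf (LP (LK LD1_c26 LD2_c0 LD3_c22)) = (LP (LK LD1_c25 LD2_c37 LD3_c21)) :=
  Lgr Lrot144 (Lpr_dt (f258374 IH) (Lpe (f232771 IH) (Lpr_dt (K13.f199982 IH) (Lpe (K11.f199908 IH) (Lpe (K13.f199911 IH) (Lpe (K16.f232830 IH) (Lpe (K16.f184475 IH) (Lpr_gf (f249192 IH) (Lpe (f249194 IH) (Lpn (LP (LK LD1_c25 LD2_c37 LD3_c21))))))))))))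
theorem f325391 : Led Lsl_cf (LP (LK LD1_c17 LD2_c44 LD3_c57)) = (LP (LK LD1_c26 LD2_c0 LD3_c22)) :=
  Lgr Lrot99 (Lpe (f299348 IH) (Lpr_cf (f322622 IH) (Lpe (K20.f184468 IH) (Lpe (K13.f184472 IH) (Lpr_gf (K20.f322570 IH) (Lpe (K20.f179828 IH) (Lpr_gt (f325389 IH) (Lpr_ct (f249196 IH) (Lpe (f258379 IH) (Lpn (LP (LK LD1_c26 LD2_c0 LD3_c22))))))))))))
theorem f258378 : Led Lsl_et (LP (LK LD1_c16 LD2_c2 LD3_c50)) = (LP (LK LD1_c26 LD2_c0 LD3_c22)) :=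
  Lre_e IH (LK LD1_c16 LD2_c2 LD3_c50) (LK LD1_c26 LD2_c0 LD3_c22) Lrfl Lrfl
theorem f325395 : Led Lsl_ct (LP (LK LD1_c15 LD2_c23 LD3_c18)) = (LP (LK LD1_c16 LD2_c2 LD3_c50)) :=
  Lgr Lrot15 (Lpr_ef (K20.f299324 IH) (Lpr_cf (f325391 IH) (Lpe (f258378 IH) (Lpn (LP (LK LD1_c16 LD2_c2 LD3_c50))))))
theorem f255775 : Led Lsl_ct (LP (LK LD1_c10 LD2_c38 LD3_c29)) = (LP (LK LD1_c5 LD2_c23 LD3_c56)) :=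
  Lre_c IH (LK LD1_c10 LD2_c38 LD3_c29) (LK LD1_c5 LD2_c23 LD3_c56) Lrfl Lrfl
theorem f325995 : Led Lsl_gt (LP (LK LD1_c16 LD2_c2 LD3_c50)) = (LP (LK LD1_c10 LD2_c38 LD3_c29)) :=
  Lgr Lrot150 (Lpe (f325395 IH) (Lpr_gf (K20.f322624 IH) (Lpe (K20.f246742 IH) (Lpe (f325984 IH) (Lpe (f309926 IH) (Lpr_gt (f325993 IH) (Lpr_ct (K18.f300898 IH) (Lpe (K18.f300884 IH) (Lpe (f255775 IH) (Lpn (LP (LK LD1_c10 LD2_c38 LD3_c29))))))))))))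
theorem f219148 : Led Lsl_et (LP (LK LD1_c8 LD2_c20 LD3_c13)) = (LP (LK LD1_c4 LD2_c9 LD3_c60)) :=
  Lre_e IH (LK LD1_c8 LD2_c20 LD3_c13) (LK LD1_c4 LD2_c9 LD3_c60) Lrfl Lrfl
theorem f300900 : Led Lsl_dt (LP (LK LD1_c10 LD2_c38 LD3_c29)) = (LP (LK LD1_c19 LD2_c16 LD3_c44)) :=
  Lre_d IH (LK LD1_c10 LD2_c38 LD3_c29) (LK LD1_c19 LD2_c16 LD3_c44) Lrfl Lrfl
theorem f326002 : Led Lsl_gf (LP (LK LD1_c19 LD2_c5 LD3_c60)) = (LP (LK LD1_c19 LD2_c16 LD3_c44)) :=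
  Lgr Lrot134 (Lpe (K20.f43213 IH) (Lpr_et (K20.f43212 IH) (Lpr_gt (K14.f219144 IH) (Lpe (f219148 IH) (Lpr_dt (K13.f219149 IH) (Lpr_gt (f219150 IH) (Lpe (f258374 IH) (Lpr_et (f258373 IH) (Lpr_gt (f325995 IH) (Lpr_dt (f300900 IH) (Lpn (LP (LK LD1_c19 LD2_c16 LD3_c44)))))))))))))
theorem f325397 : Led Lsl_cf (LP (LK LD1_c15 LD2_c23 LD3_c18)) = (LP (LK LD1_c16 LD2_c2 LD3_c50)) :=
  Lgr Lrot11 (Lpr_ct (f325395 IH) (Lpn (LP (LK LD1_c16 LD2_c2 LD3_c50))))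
theorem f326391 : Led Lsl_gt (LP (LK LD1_c15 LD2_c23 LD3_c18)) = (LP (LK LD1_c17 LD2_c38 LD3_c27)) :=
  Lgr Lrot94 (Lpr_cf (f325397 IH) (Lpr_gt (f325995 IH) (Lpr_dt (f300900 IH) (Lpe (f326002 IH) (Lpr_dt (f250603 IH) (Lpe (K20.f250601 IH) (Lpr_df (K20.f246777 IH) (Lpe (f326379 IH) (Lpr_df (f326382 IH) (Lpn (LP (LK LD1_c17 LD2_c38 LD3_c27))))))))))))
theorem f167125 : Led Lsl_ft (LP (LK LD1_c8 LD2_c24 LD3_c9)) = (LP (LK LD1_c15 LD2_c47 LD3_c55)) :=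
  Lre_f IH (LK LD1_c8 LD2_c24 LD3_c9) (LK LD1_c15 LD2_c47 LD3_c55) Lrfl Lrfl
theorem f326393 : Led Lsl_at (LP (LK LD1_c15 LD2_c47 LD3_c55)) = (LP (LK LD1_c17 LD2_c38 LD3_c27)) :=
  Lgr Lrot26 (Lpe (f167125 IH) (Lpe (K20.f322624 IH) (Lpr_gt (f326391 IH) (Lpn (LP (LK LD1_c17 LD2_c38 LD3_c27))))))
theorem f271125 : Led Lsl_bt (LP (LK LD1_c8 LD2_c25 LD3_c40)) = (LP (LK LD1_c4 LD2_c13 LD3_c11)) :=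
  Lre_b IH (LK LD1_c8 LD2_c25 LD3_c40) (LK LD1_c4 LD2_c13 LD3_c11) Lrfl Lrfl
theorem f322231 : Led Lsl_ft (LP (LK LD1_c8 LD2_c37 LD3_c10)) = (LP (LK LD1_c8 LD2_c25 LD3_c40)) :=
  Lgr Lrot75 (Lpe (K20.f321374 IH) (Lpr_ff (K20.f322229 IH) (Lpe (f271125 IH) (Lpn (LP (LK LD1_c8 LD2_c25 LD3_c40))))))
theorem f167148 : Led Lsl_ft (LP (LK LD1_c15 LD2_c47 LD3_c55)) = (LP (LK LD1_c8 LD2_c24 LD3_c9)) :=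
  Lre_f IH (LK LD1_c15 LD2_c47 LD3_c55) (LK LD1_c8 LD2_c24 LD3_c9) Lrfl Lrfl
theorem f324742 : Led Lsl_et (LP (LK LD1_c8 LD2_c25 LD3_c40)) = (LP (LK LD1_c15 LD2_c47 LD3_c55)) :=
  Lgr Lrot69 (Lpe (f322231 IH) (Lpe (K20.f321366 IH) (Lpr_ff (f324736 IH) (Lpe (K20.f167104 IH) (Lpe (f167148 IH) (Lpn (LP (LK LD1_c15 LD2_c47 LD3_c55))))))))
theorem f326399 : Led Lsl_af (LP (LK LD1_c8 LD2_c25 LD3_c40)) = (LP (LK LD1_c9 LD2_c34 LD3_c49)) :=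
  Lgr Lrot50 (Lpr_et (f324742 IH) (Lpr_at (f326393 IH) (Lpr_et (f229633 IH) (Lpn (LP (LK LD1_c9 LD2_c34 LD3_c49))))))
theorem f321384 : Led Lsl_bt (LP (LK LD1_c8 LD2_c37 LD3_c10)) = (LP (LK LD1_c4 LD2_c19 LD3_c29)) :=
  Lre_b IH (LK LD1_c8 LD2_c37 LD3_c10) (LK LD1_c4 LD2_c19 LD3_c29) Lrfl Lrfl
theorem f271111 : Led Lsl_bt (LP (LK LD1_c4 LD2_c13 LD3_c11)) = (LP (LK LD1_c8 LD2_c25 LD3_c40)) :=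
  Lre_b IH (LK LD1_c4 LD2_c13 LD3_c11) (LK LD1_c8 LD2_c25 LD3_c40) Lrfl Lrfl
theorem f322223 : Led Lsl_ff (LP (LK LD1_c8 LD2_c37 LD3_c10)) = (LP (LK LD1_c8 LD2_c25 LD3_c40)) :=
  Lgr Lrot25 (Lpr_bt (f321384 IH) (Lpr_ft (K20.f322221 IH) (Lpr_bt (f271111 IH) (Lpn (LP (LK LD1_c8 LD2_c25 LD3_c40))))))
theorem f324752 : Led Lsl_at (LP (LK LD1_c8 LD2_c37 LD3_c10)) = (LP (LK LD1_c8 LD2_c43 LD3_c9)) :=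
  Lgr Lrot100 (Lpr_af (f324750 IH) (Lpn (LP (LK LD1_c8 LD2_c43 LD3_c9))))
theorem f326403 : Led Lsl_ft (LP (LK LD1_c8 LD2_c43 LD3_c9)) = (LP (LK LD1_c9 LD2_c34 LD3_c49)) :=
  Lgr Lrot101 (Lpe (f324752 IH) (Lpr_ff (f322223 IH) (Lpr_af (f326399 IH) (Lpn (LP (LK LD1_c9 LD2_c34 LD3_c49))))))
theorem f326409 : Led Lsl_ff (LP (LK LD1_c8 LD2_c43 LD3_c9)) = (LP (LK LD1_c9 LD2_c34 LD3_c49)) :=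
  Lgr Lrot3 (Lpr_ft (f326403 IH) (Lpn (LP (LK LD1_c9 LD2_c34 LD3_c49))))
theorem f326415 : Led Lsl_gf (LP (LK LD1_c16 LD2_c8 LD3_c47)) = (LP (LK LD1_c9 LD2_c34 LD3_c49)) :=
  Lgr Lrot47 (Lpr_gt (K20.f321369 IH) (Lpr_af (f324750 IH) (Lpr_ff (f326409 IH) (Lpn (LP (LK LD1_c9 LD2_c34 LD3_c49))))))
theorem f326417 : Led Lsl_af (LP (LK LD1_c16 LD2_c8 LD3_c47)) = (LP (LK LD1_c9 LD2_c34 LD3_c50)) :=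
  Lgr Lrot31 (Lpr_gf (f326415 IH) (Lpe (f229631 IH) (Lpr_ft (K15.f238171 IH) (Lpn (LP (LK LD1_c9 LD2_c34 LD3_c50))))))
theorem f322150 : Led Lsl_bt (LP (LK LD1_c16 LD2_c8 LD3_c47)) = (LP (LK LD1_c16 LD2_c18 LD3_c58)) :=
  Lgr Lrot127 (Lpr_bf (K20.f322146 IH) (Lpn (LP (LK LD1_c16 LD2_c18 LD3_c58))))
theorem f311814 : Led Lsl_at (LP (LK LD1_c11 LD2_c2 LD3_c58)) = (LP (LK LD1_c15 LD2_c34 LD3_c57)) :=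
  Lgr Lrot100 (Lpr_af (K19.f311812 IH) (Lpn (LP (LK LD1_c15 LD2_c34 LD3_c57))))
theorem f311802 : Led Lsl_ft (LP (LK LD1_c8 LD2_c26 LD3_c43)) = (LP (LK LD1_c10 LD2_c50 LD3_c22)) :=
  Lgr Lrot48 (Lpr_ff (K19.f311798 IH) (Lpn (LP (LK LD1_c10 LD2_c50 LD3_c22))))
theorem f311804 : Led Lsl_df (LP (LK LD1_c11 LD2_c2 LD3_c58)) = (LP (LK LD1_c10 LD2_c50 LD3_c22)) :=
  Lgr Lrot78 (Lpr_ft (K19.f189431 IH) (Lpr_dt (K13.f189418 IH) (Lpr_ft (f311802 IH) (Lpn (LP (LK LD1_c10 LD2_c50 LD3_c22))))))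
theorem f322134 : Led Lsl_af (LP (LK LD1_c10 LD2_c50 LD3_c22)) = (LP (LK LD1_c16 LD2_c18 LD3_c58)) :=
  Lgr Lrot117 (Lpe (f311804 IH) (Lpr_at (f311814 IH) (Lpr_dt (K20.f322132 IH) (Lpn (LP (LK LD1_c16 LD2_c18 LD3_c58))))))
theorem f305056 : Led Lsl_at (LP (LK LD1_c8 LD2_c37 LD3_c38)) = (LP (LK LD1_c4 LD2_c19 LD3_c45)) :=
  Lre_a IH (LK LD1_c8 LD2_c37 LD3_c38) (LK LD1_c4 LD2_c19 LD3_c45) Lrfl Lrfl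
theorem f305059 : Led Lsl_gt (LP (LK LD1_c2 LD2_c23 LD3_c35)) = (LP (LK LD1_c4 LD2_c19 LD3_c45)) :=
  Lgr Lrot46 (Lpe (K19.f2456 IH) (Lpr_ft (K20.f305054 IH) (Lpr_at (f305056 IH) (Lpn (LP (LK LD1_c4 LD2_c19 LD3_c45))))))
theorem f305011 : Led Lsl_gt (LP (LK LD1_c4 LD2_c19 LD3_c45)) = (LP (LK LD1_c8 LD2_c37 LD3_c37)) :=
  Lre_g IH (LK LD1_c4 LD2_c19 LD3_c45) (LK LD1_c8 LD2_c37 LD3_c37) Lrfl Lrfl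
theorem f305061 : Led Lsl_at (LP (LK LD1_c4 LD2_c51 LD3_c30)) = (LP (LK LD1_c8 LD2_c37 LD3_c37)) :=
  Lgr Lrot26 (Lpe (K15.f238102 IH) (Lpr_gt (f305059 IH) (Lpr_gt (f305011 IH) (Lpn (LP (LK LD1_c8 LD2_c37 LD3_c37))))))
theorem f305065 : Led Lsl_af (LP (LK LD1_c4 LD2_c51 LD3_c30)) = (LP (LK LD1_c8 LD2_c37 LD3_c37)) :=
  Lgr Lrot0 (Lpr_at (f305061 IH) (Lpn (LP (LK LD1_c8 LD2_c37 LD3_c37))))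
theorem f326419 : Led Lsl_bt (LP (LK LD1_c10 LD2_c50 LD3_c22)) = (LP (LK LD1_c8 LD2_c37 LD3_c37)) :=
  Lgr Lrot62 (Lpr_af (f322134 IH) (Lpe (f322150 IH) (Lpr_af (f326417 IH) (Lpe (K15.f238164 IH) (Lpr_af (f305065 IH) (Lpn (LP (LK LD1_c8 LD2_c37 LD3_c37))))))))
theorem f326425 : Led Lsl_ff (LP (LK LD1_c4 LD2_c50 LD3_c52)) = (LP (LK LD1_c8 LD2_c37 LD3_c37)) :=
  Lgr Lrot25 (Lpe (K19.f167382 IH) (Lpr_ft (f311802 IH) (Lpr_bt (f326419 IH) (Lpn (LP (LK LD1_c8 LD2_c37 LD3_c37))))))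
theorem f317253 : Led Lsl_af (LP (LK LD1_c2 LD2_c23 LD3_c35)) = (LP (LK LD1_c4 LD2_c50 LD3_c52)) :=
  Lgr Lrot0 (Lpr_at (K20.f317249 IH) (Lpn (LP (LK LD1_c4 LD2_c50 LD3_c52))))
theorem f326429 : Led Lsl_gf (LP (LK LD1_c4 LD2_c51 LD3_c29)) = (LP (LK LD1_c8 LD2_c37 LD3_c37)) :=
  Lgr Lrot47 (Lpr_gt (K19.f2456 IH) (Lpr_af (f317253 IH) (Lpr_ff (f326425 IH) (Lpn (LP (LK LD1_c8 LD2_c37 LD3_c37))))))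
theorem f313442 : Led Lsl_et (LP (LK LD1_c2 LD2_c3 LD3_c33)) = (LP (LK LD1_c4 LD2_c12 LD3_c43)) :=
  Lre_e IH (LK LD1_c2 LD2_c3 LD3_c33) (LK LD1_c4 LD2_c12 LD3_c43) Lrfl Lrfl
theorem f315081 : Led Lsl_af (LP (LK LD1_c4 LD2_c51 LD3_c29)) = (LP (LK LD1_c4 LD2_c12 LD3_c43)) :=
  Lgr Lrot50 (Lpe (K19.f298934 IH) (Lpr_at (K19.f315072 IH) (Lpr_et (f313442 IH) (Lpn (LP (LK LD1_c4 LD2_c12 LD3_c43))))))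
theorem f326431 : Led Lsl_ff (LP (LK LD1_c4 LD2_c12 LD3_c43)) = (LP (LK LD1_c4 LD2_c19 LD3_c45)) :=
  Lgr Lrot52 (Lpe (f315081 IH) (Lpr_gf (f326429 IH) (Lpe (f305011 IH) (Lpn (LP (LK LD1_c4 LD2_c19 LD3_c45))))))
theorem f315089 : Led Lsl_ft (LP (LK LD1_c2 LD2_c45 LD3_c35)) = (LP (LK LD1_c5 LD2_c39 LD3_c20)) :=
  Lre_f IH (LK LD1_c2 LD2_c45 LD3_c35) (LK LD1_c5 LD2_c39 LD3_c20) Lrfl Lrfl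
theorem f326477 : Led Lsl_et (LP (LK LD1_c5 LD2_c39 LD3_c20)) = (LP (LK LD1_c4 LD2_c19 LD3_c45)) :=
  Lgr Lrot69 (Lpe (f315089 IH) (Lpe (K19.f200571 IH) (Lpr_ff (K19.f315083 IH) (Lpe (K19.f232282 IH) (Lpr_ff (f326431 IH) (Lpn (LP (LK LD1_c4 LD2_c19 LD3_c45))))))))
theorem f2455 : Led Lsl_et (LP (LK LD1_c1 LD2_c8 LD3_c53)) = (LP (LK LD1_c2 LD2_c23 LD3_c35)) :=
  Lre_e IH (LK LD1_c1 LD2_c8 LD3_c53) (LK LD1_c2 LD2_c23 LD3_c35) Lrfl Lrfl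
theorem f326485 : Led Lsl_gt (LP (LK LD1_c2 LD2_c45 LD3_c36)) = (LP (LK LD1_c4 LD2_c4 LD3_c42)) :=
  Lgr Lrot112 (Lpe (K19.f314838 IH) (Lpr_et (f326477 IH) (Lpe (f305059 IH) (Lpe (f2455 IH) (Lpr_dt (K15.f2110 IH) (Lpe (K9.f1597 IH) (Lpe (K0.f1580 IH) (Lpe (K13.f1587 IH) (Lpe (K19.f1588 IH) (Lpe (K19.f224885 IH) (Lpn (LP (LK LD1_c4 LD2_c4 LD3_c42)))))))))))))
theorem f314833 : Led Lsl_bt (LP (LK LD1_c1 LD2_c19 LD3_c18)) = (LP (LK LD1_c2 LD2_c45 LD3_c36)) :=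
  Lre_b IH (LK LD1_c1 LD2_c19 LD3_c18) (LK LD1_c2 LD2_c45 LD3_c36) Lrfl Lrfl
theorem f326493 : Led Lsl_ct (LP (LK LD1_c1 LD2_c19 LD3_c18)) = (LP (LK LD1_c2 LD2_c45 LD3_c45)) :=
  Lre_c IH (LK LD1_c1 LD2_c19 LD3_c18) (LK LD1_c2 LD2_c45 LD3_c45) Lrfl Lrfl
theorem f224891 : Led Lsl_ct (LP (LK LD1_c4 LD2_c4 LD3_c42)) = (LP (LK LD1_c8 LD2_c10 LD3_c16)) :=
  Lre_c IH (LK LD1_c4 LD2_c4 LD3_c42) (LK LD1_c8 LD2_c10 LD3_c16) Lrfl Lrfl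
theorem f228322 : Led Lsl_ct (LP (LK LD1_c2 LD2_c7 LD3_c0)) = (LP (LK LD1_c4 LD2_c19 LD3_c12)) :=
  Lre_c IH (LK LD1_c2 LD2_c7 LD3_c0) (LK LD1_c4 LD2_c19 LD3_c12) Lrfl Lrfl
theorem f247346 : Led Lsl_bt (LP (LK LD1_c2 LD2_c7 LD3_c0)) = (LP (LK LD1_c2 LD2_c11 LD3_c11)) :=
  Lgr Lrot127 (Lpr_bf (K14.f247344 IH) (Lpn (LP (LK LD1_c2 LD2_c11 LD3_c11))))
theorem f326494 : Led Lsl_gf (LP (LK LD1_c2 LD2_c45 LD3_c45)) = (LP (LK LD1_c4 LD2_c29 LD3_c22)) :=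
  Lgr Lrot126 (Lpe (f326493 IH) (Lpr_bt (f314833 IH) (Lpr_gt (f326485 IH) (Lpr_ct (f224891 IH) (Lpe (K19.f247243 IH) (Lpe (f228322 IH) (Lpr_bt (f247346 IH) (Lpr_gt (K19.f247399 IH) (Lpr_bf (K20.f304287 IH) (Lpr_ct (K20.f167717 IH) (Lpn (LP (LK LD1_c4 LD2_c29 LD3_c22)))))))))))))
theorem f304295 : Led Lsl_ft (LP (LK LD1_c2 LD2_c12 LD3_c45)) = (LP (LK LD1_c4 LD2_c31 LD3_c36)) :=
  Lre_f IH (LK LD1_c2 LD2_c12 LD3_c45) (LK LD1_c4 LD2_c31 LD3_c36) Lrfl Lrfl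
theorem f326518 : Led Lsl_af (LP (LK LD1_c2 LD2_c45 LD3_c45)) = (LP (LK LD1_c4 LD2_c31 LD3_c36)) :=
  Lgr Lrot31 (Lpr_gf (f326494 IH) (Lpe (K20.f304293 IH) (Lpr_ft (f304295 IH) (Lpn (LP (LK LD1_c4 LD2_c31 LD3_c36))))))
theorem f326541 : Led Lsl_ft (LP (LK LD1_c2 LD2_c45 LD3_c45)) = (LP (LK LD1_c1 LD2_c19 LD3_c14)) :=
  Lre_f IH (LK LD1_c2 LD2_c45 LD3_c45) (LK LD1_c1 LD2_c19 LD3_c14) Lrfl Lrfl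
theorem f326542 : Led Lsl_at (LP (LK LD1_c1 LD2_c19 LD3_c14)) = (LP (LK LD1_c2 LD2_c12 LD3_c45)) :=
  Lgr Lrot66 (Lpe (f326541 IH) (Lpr_af (f326518 IH) (Lpe (f304295 IH) (Lpn (LP (LK LD1_c2 LD2_c12 LD3_c45))))))
theorem f326555 : Led Lsl_gt (LP (LK LD1_c2 LD2_c45 LD3_c45)) = (LP (LK LD1_c4 LD2_c11 LD3_c23)) :=
  Lgr Lrot5 (Lpr_ft (f326541 IH) (Lpr_at (f326542 IH) (Lpe (K18.f226044 IH) (Lpn (LP (LK LD1_c4 LD2_c11 LD3_c23))))))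
theorem f245813 : Led Lsl_ct (LP (LK LD1_c2 LD2_c2 LD3_c52)) = (LP (LK LD1_c0 LD2_c58 LD3_c21)) :=
  Lre_c IH (LK LD1_c2 LD2_c2 LD3_c52) (LK LD1_c0 LD2_c58 LD3_c21) Lrfl Lrfl
theorem f326557 : Led Lsl_gf (LP (LK LD1_c1 LD2_c19 LD3_c18)) = (LP (LK LD1_c2 LD2_c12 LD3_c46)) :=
  Lgr Lrot147 (Lpr_ct (f326493 IH) (Lpr_gt (f326555 IH) (Lpr_ct (K18.f167682 IH) (Lpe (K13.f1390 IH) (Lpe (f245813 IH) (Lpe (K20.f170868 IH) (Lpr_cf (K20.f306926 IH) (Lpe (K19.f306937 IH) (Lpr_df (K19.f306939 IH) (Lpn (LP (LK LD1_c2 LD2_c12 LD3_c46))))))))))))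
theorem f212601 : Led Lsl_ft (LP (LK LD1_c1 LD2_c3 LD3_c24)) = (LP (LK LD1_c2 LD2_c12 LD3_c48)) :=
  Lre_f IH (LK LD1_c1 LD2_c3 LD3_c24) (LK LD1_c2 LD2_c12 LD3_c48) Lrfl Lrfl
theorem f326562 : Led Lsl_af (LP (LK LD1_c1 LD2_c19 LD3_c18)) = (LP (LK LD1_c2 LD2_c12 LD3_c48)) :=
  Lgr Lrot31 (Lpr_gf (f326557 IH) (Lpe (K19.f181963 IH) (Lpr_ft (f212601 IH) (Lpn (LP (LK LD1_c2 LD2_c12 LD3_c48))))))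
theorem f326569 : Led Lsl_ft (LP (LK LD1_c1 LD2_c19 LD3_c18)) = (LP (LK LD1_c0 LD2_c36 LD3_c35)) :=
  Lre_f IH (LK LD1_c1 LD2_c19 LD3_c18) (LK LD1_c0 LD2_c36 LD3_c35) Lrfl Lrfl
theorem f326570 : Led Lsl_at (LP (LK LD1_c0 LD2_c36 LD3_c35)) = (LP (LK LD1_c1 LD2_c3 LD3_c24)) :=
  Lgr Lrot66 (Lpe (f326569 IH) (Lpr_af (f326562 IH) (Lpe (f212601 IH) (Lpn (LP (LK LD1_c1 LD2_c3 LD3_c24))))))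
theorem f326576 : Led Lsl_gt (LP (LK LD1_c1 LD2_c19 LD3_c18)) = (LP (LK LD1_c2 LD2_c12 LD3_c47)) :=
  Lgr Lrot5 (Lpr_ft (f326569 IH) (Lpr_at (f326570 IH) (Lpe (K18.f212624 IH) (Lpn (LP (LK LD1_c2 LD2_c12 LD3_c47))))))
theorem f314842 : Led Lsl_bt (LP (LK LD1_c2 LD2_c45 LD3_c36)) = (LP (LK LD1_c1 LD2_c19 LD3_c18)) :=
  Lre_b IH (LK LD1_c2 LD2_c45 LD3_c36) (LK LD1_c1 LD2_c19 LD3_c18) Lrfl Lrfl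
theorem f237138 : Led Lsl_ct (LP (LK LD1_c4 LD2_c3 LD3_c41)) = (LP (LK LD1_c8 LD2_c7 LD3_c51)) :=
  Lre_c IH (LK LD1_c4 LD2_c3 LD3_c41) (LK LD1_c8 LD2_c7 LD3_c51) Lrfl Lrfl
theorem f261046 : Led Lsl_bt (LP (LK LD1_c4 LD2_c3 LD3_c41)) = (LP (LK LD1_c1 LD2_c58 LD3_c52)) :=
  Lre_b IH (LK LD1_c4 LD2_c3 LD3_c41) (LK LD1_c1 LD2_c58 LD3_c52) Lrfl Lrfl
theorem f227000 : Led Lsl_gt (LP (LK LD1_c1 LD2_c58 LD3_c52)) = (LP (LK LD1_c4 LD2_c3 LD3_c48)) :=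
  Lre_g IH (LK LD1_c1 LD2_c58 LD3_c52) (LK LD1_c4 LD2_c3 LD3_c48) Lrfl Lrfl
theorem f227001 : Led Lsl_ct (LP (LK LD1_c4 LD2_c3 LD3_c48)) = (LP (LK LD1_c8 LD2_c8 LD3_c0)) :=
  Lre_c IH (LK LD1_c4 LD2_c3 LD3_c48) (LK LD1_c8 LD2_c8 LD3_c0) Lrfl Lrfl
theorem f326580 : Led Lsl_gf (LP (LK LD1_c5 LD2_c39 LD3_c11)) = (LP (LK LD1_c8 LD2_c8 LD3_c0)) :=
  Lgr Lrot129 (Lpe (K19.f314844 IH) (Lpr_bt (f314842 IH) (Lpr_gt (f326576 IH) (Lpe (K18.f212626 IH) (Lpr_ct (K18.f301591 IH) (Lpr_gt (K18.f301607 IH) (Lpe (f237138 IH) (Lpr_bt (f261046 IH) (Lpr_gt (f227000 IH) (Lpr_ct (f227001 IH) (Lpn (LP (LK LD1_c8 LD2_c8 LD3_c0)))))))))))))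
theorem f245759 : Led Lsl_bt (LP (LK LD1_c0 LD2_c35 LD3_c48)) = (LP (LK LD1_c1 LD2_c17 LD3_c20)) :=
  Lre_b IH (LK LD1_c0 LD2_c35 LD3_c48) (LK LD1_c1 LD2_c17 LD3_c20) Lrfl Lrfl
theorem f213858 : Led Lsl_gt (LP (LK LD1_c1 LD2_c17 LD3_c20)) = (LP (LK LD1_c2 LD2_c41 LD3_c21)) :=
  Lre_g IH (LK LD1_c1 LD2_c17 LD3_c20) (LK LD1_c2 LD2_c41 LD3_c21) Lrfl Lrfl
theorem f326600 : Led Lsl_bf (LP (LK LD1_c2 LD2_c41 LD3_c21)) = (LP (LK LD1_c4 LD2_c3 LD3_c48)) :=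
  Lgr Lrot34 (Lpe (f213858 IH) (Lpe (f245759 IH) (Lpr_ct (K13.f245753 IH) (Lpe (K19.f175278 IH) (Lpr_cf (K19.f306871 IH) (Lpe (f326576 IH) (Lpe (f314842 IH) (Lpr_ct (K19.f314844 IH) (Lpr_gf (f326580 IH) (Lpe (f227001 IH) (Lpn (LP (LK LD1_c4 LD2_c3 LD3_c48)))))))))))))
theorem f326604 : Led Lsl_bt (LP (LK LD1_c2 LD2_c41 LD3_c21)) = (LP (LK LD1_c4 LD2_c3 LD3_c48)) :=
  Lgr Lrot127 (Lpr_bf (f326600 IH) (Lpn (LP (LK LD1_c4 LD2_c3 LD3_c48))))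
theorem f295745 : Led Lsl_ct (LP (LK LD1_c2 LD2_c41 LD3_c21)) = (LP (LK LD1_c5 LD2_c30 LD3_c10)) :=
  Lre_c IH (LK LD1_c2 LD2_c41 LD3_c21) (LK LD1_c5 LD2_c30 LD3_c10) Lrfl Lrfl
theorem f251803 : Led Lsl_ct (LP (LK LD1_c4 LD2_c9 LD3_c3)) = (LP (LK LD1_c8 LD2_c18 LD3_c8)) :=
  Lre_c IH (LK LD1_c4 LD2_c9 LD3_c3) (LK LD1_c8 LD2_c18 LD3_c8) Lrfl Lrfl
theorem f326684 : Led Lsl_gf (LP (LK LD1_c5 LD2_c30 LD3_c10)) = (LP (LK LD1_c8 LD2_c18 LD3_c8)) :=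
  Lgr Lrot126 (Lpe (f295745 IH) (Lpr_bt (f326604 IH) (Lpr_gt (K19.f310514 IH) (Lpr_ct (K16.f247376 IH) (Lpr_gt (K19.f269450 IH) (Lpe (K20.f216437 IH) (Lpr_bt (K19.f216434 IH) (Lpr_gt (K19.f259262 IH) (Lpe (f229594 IH) (Lpr_ct (f251803 IH) (Lpn (LP (LK LD1_c8 LD2_c18 LD3_c8)))))))))))))
theorem f326637 : Led Lsl_et (LP (LK LD1_c10 LD2_c51 LD3_c49)) = (LP (LK LD1_c5 LD2_c30 LD3_c10)) :=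
  Lre_e IH (LK LD1_c10 LD2_c51 LD3_c49) (LK LD1_c5 LD2_c30 LD3_c10) Lrfl Lrfl
theorem f326624 : Led Lsl_dt (LP (LK LD1_c10 LD2_c51 LD3_c49)) = (LP (LK LD1_c19 LD2_c38 LD3_c31)) :=
  Lre_d IH (LK LD1_c10 LD2_c51 LD3_c49) (LK LD1_c19 LD2_c38 LD3_c31) Lrfl Lrfl
theorem f233920 : Led Lsl_et (LP (LK LD1_c4 LD2_c9 LD3_c2)) = (LP (LK LD1_c8 LD2_c18 LD3_c8)) :=
  Lre_e IH (LK LD1_c4 LD2_c9 LD3_c2) (LK LD1_c8 LD2_c18 LD3_c8) Lrfl Lrfl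
theorem f50203 : Led Lsl_dt (LP (LK LD1_c8 LD2_c6 LD3_c16)) = (LP (LK LD1_c15 LD2_c15 LD3_c31)) :=
  Lre_d IH (LK LD1_c8 LD2_c6 LD3_c16) (LK LD1_c15 LD2_c15 LD3_c31) Lrfl Lrfl
theorem f326702 : Led Lsl_gt (LP (LK LD1_c19 LD2_c38 LD3_c31)) = (LP (LK LD1_c15 LD2_c15 LD3_c31)) :=
  Lgr Lrot112 (Lpe (f326624 IH) (Lpr_et (f326637 IH) (Lpr_gf (f326684 IH) (Lpe (f233920 IH) (Lpr_dt (K14.f233918 IH) (Lpe (K12.f50514 IH) (Lpe (K13.f216835 IH) (Lpr_gf (K13.f216876 IH) (Lpe (K13.f50202 IH) (Lpr_dt (f50203 IH) (Lpn (LP (LK LD1_c15 LD2_c15 LD3_c31)))))))))))))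
theorem f326608 : Led Lsl_et (LP (LK LD1_c2 LD2_c41 LD3_c21)) = (LP (LK LD1_c5 LD2_c30 LD3_c11)) :=
  Lre_e IH (LK LD1_c2 LD2_c41 LD3_c21) (LK LD1_c5 LD2_c30 LD3_c11) Lrfl Lrfl
theorem f326609 : Led Lsl_bt (LP (LK LD1_c5 LD2_c30 LD3_c11)) = (LP (LK LD1_c8 LD2_c8 LD3_c2)) :=
  Lgr Lrot119 (Lpe (f326608 IH) (Lpr_bf (f326600 IH) (Lpe (K19.f269282 IH) (Lpn (LP (LK LD1_c8 LD2_c8 LD3_c2))))))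
theorem f183111 : Led Lsl_ct (LP (LK LD1_c1 LD2_c13 LD3_c7)) = (LP (LK LD1_c2 LD2_c32 LD3_c13)) :=
  Lre_c IH (LK LD1_c1 LD2_c13 LD3_c7) (LK LD1_c2 LD2_c32 LD3_c13) Lrfl Lrfl
theorem f212138 : Led Lsl_et (LP (LK LD1_c2 LD2_c30 LD3_c3)) = (LP (LK LD1_c2 LD2_c42 LD3_c16)) :=
  Lgr Lrot158 (Lpe (K10.f180532 IH) (Lpr_ef (K15.f212134 IH) (Lpe (K16.f185885 IH) (Lpn (LP (LK LD1_c2 LD2_c42 LD3_c16))))))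
theorem f186778 : Led Lsl_et (LP (LK LD1_c1 LD2_c13 LD3_c6)) = (LP (LK LD1_c2 LD2_c32 LD3_c13)) :=
  Lre_e IH (LK LD1_c1 LD2_c13 LD3_c6) (LK LD1_c2 LD2_c32 LD3_c13) Lrfl Lrfl
theorem f249987 : Led Lsl_gt (LP (LK LD1_c2 LD2_c42 LD3_c16)) = (LP (LK LD1_c2 LD2_c32 LD3_c13)) :=
  Lgr Lrot131 (Lpe (f212138 IH) (Lpr_dt (K14.f249952 IH) (Lpe (K14.f165814 IH) (Lpe (K14.f165813 IH) (Lpe (K9.f165778 IH) (Lpe (K10.f48573 IH) (Lpr_dt (K2.f32286 IH) (Lpr_gf (K10.f186723 IH) (Lpe (K10.f185397 IH) (Lpr_et (f186778 IH) (Lpn (LP (LK LD1_c2 LD2_c32 LD3_c13)))))))))))))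
theorem f276015 : Led Lsl_gt (LP (LK LD1_c2 LD2_c32 LD3_c13)) = (LP (LK LD1_c5 LD2_c6 LD3_c23)) :=
  Lgr Lrot46 (Lpe (f249987 IH) (Lpr_ft (K16.f276007 IH) (Lpe (K16.f275985 IH) (Lpn (LP (LK LD1_c5 LD2_c6 LD3_c23))))))
theorem f261796 : Led Lsl_bt (LP (LK LD1_c2 LD2_c30 LD3_c27)) = (LP (LK LD1_c5 LD2_c6 LD3_c22)) :=
  Lre_b IH (LK LD1_c2 LD2_c30 LD3_c27) (LK LD1_c5 LD2_c6 LD3_c22) Lrfl Lrfl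
theorem f261898 : Led Lsl_gt (LP (LK LD1_c5 LD2_c6 LD3_c22)) = (LP (LK LD1_c10 LD2_c3 LD3_c46)) :=
  Lre_g IH (LK LD1_c5 LD2_c6 LD3_c22) (LK LD1_c10 LD2_c3 LD3_c46) Lrfl Lrfl
theorem f293084 : Led Lsl_bf (LP (LK LD1_c10 LD2_c3 LD3_c46)) = (LP (LK LD1_c8 LD2_c8 LD3_c30)) :=
  Lgr Lrot34 (Lpe (f261898 IH) (Lpe (f261796 IH) (Lpr_ct (K16.f198601 IH) (Lpe (f276015 IH) (Lpe (f183111 IH) (Lpr_gf (K18.f185864 IH) (Lpe (K18.f181892 IH) (Lpr_ct (K18.f185872 IH) (Lpr_gf (K18.f293073 IH) (Lpe (K18.f269279 IH) (Lpn (LP (LK LD1_c8 LD2_c8 LD3_c30)))))))))))))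
theorem f326617 : Led Lsl_df (LP (LK LD1_c5 LD2_c30 LD3_c11)) = (LP (LK LD1_c10 LD2_c3 LD3_c46)) :=
  Lgr Lrot12 (Lpr_bt (f326609 IH) (Lpr_dt (K19.f28118 IH) (Lpe (f293084 IH) (Lpn (LP (LK LD1_c10 LD2_c3 LD3_c46))))))
theorem f282471 : Led Lsl_ft (LP (LK LD1_c2 LD2_c34 LD3_c41)) = (LP (LK LD1_c5 LD2_c15 LD3_c42)) :=
  Lre_f IH (LK LD1_c2 LD2_c34 LD3_c41) (LK LD1_c5 LD2_c15 LD3_c42) Lrfl Lrfl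
theorem f282472 : Led Lsl_af (LP (LK LD1_c10 LD2_c3 LD3_c46)) = (LP (LK LD1_c5 LD2_c15 LD3_c42)) :=
  Lgr Lrot31 (Lpe (f261898 IH) (Lpr_gf (K17.f282443 IH) (Lpr_ft (f282471 IH) (Lpn (LP (LK LD1_c5 LD2_c15 LD3_c42))))))
theorem f326621 : Led Lsl_dt (LP (LK LD1_c10 LD2_c20 LD3_c43)) = (LP (LK LD1_c5 LD2_c15 LD3_c42)) :=
  Lre_d IH (LK LD1_c10 LD2_c20 LD3_c43) (LK LD1_c5 LD2_c15 LD3_c42) Lrfl Lrfl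
theorem f326622 : Led Lsl_at (LP (LK LD1_c5 LD2_c30 LD3_c11)) = (LP (LK LD1_c10 LD2_c20 LD3_c43)) :=
  Lgr Lrot51 (Lpr_df (f326617 IH) (Lpr_af (f282472 IH) (Lpe (f326621 IH) (Lpn (LP (LK LD1_c10 LD2_c20 LD3_c43))))))
theorem f326613 : Led Lsl_ct (LP (LK LD1_c10 LD2_c51 LD3_c49)) = (LP (LK LD1_c5 LD2_c30 LD3_c11)) :=
  Lre_c IH (LK LD1_c10 LD2_c51 LD3_c49) (LK LD1_c5 LD2_c30 LD3_c11) Lrfl Lrfl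
theorem f326630 : Led Lsl_ct (LP (LK LD1_c10 LD2_c20 LD3_c43)) = (LP (LK LD1_c18 LD2_c46 LD3_c31)) :=
  Lre_c IH (LK LD1_c10 LD2_c20 LD3_c43) (LK LD1_c18 LD2_c46 LD3_c31) Lrfl Lrfl
theorem f326631 : Led Lsl_af (LP (LK LD1_c10 LD2_c51 LD3_c49)) = (LP (LK LD1_c18 LD2_c46 LD3_c31)) :=
  Lgr Lrot68 (Lpr_ct (f326613 IH) (Lpr_at (f326622 IH) (Lpr_ct (f326630 IH) (Lpn (LP (LK LD1_c18 LD2_c46 LD3_c31))))))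
theorem f326638 : Led Lsl_ft (LP (LK LD1_c10 LD2_c20 LD3_c42)) = (LP (LK LD1_c18 LD2_c46 LD3_c31)) :=
  Lre_f IH (LK LD1_c10 LD2_c20 LD3_c42) (LK LD1_c18 LD2_c46 LD3_c31) Lrfl Lrfl
theorem f260616 : Led Lsl_gt (LP (LK LD1_c10 LD2_c20 LD3_c42)) = (LP (LK LD1_c18 LD2_c46 LD3_c27)) :=
  Lre_g IH (LK LD1_c10 LD2_c20 LD3_c42) (LK LD1_c18 LD2_c46 LD3_c27) Lrfl Lrfl
theorem f326639 : Led Lsl_gf (LP (LK LD1_c10 LD2_c51 LD3_c49)) = (LP (LK LD1_c18 LD2_c46 LD3_c27)) :=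
  Lgr Lrot76 (Lpr_af (f326631 IH) (Lpe (f326638 IH) (Lpr_gt (f260616 IH) (Lpn (LP (LK LD1_c18 LD2_c46 LD3_c27))))))
theorem f233867 : Led Lsl_dt (LP (LK LD1_c15 LD2_c15 LD3_c31)) = (LP (LK LD1_c8 LD2_c6 LD3_c16)) :=
  Lre_d IH (LK LD1_c15 LD2_c15 LD3_c31) (LK LD1_c8 LD2_c6 LD3_c16) Lrfl Lrfl
theorem f246164 : Led Lsl_bt (LP (LK LD1_c5 LD2_c9 LD3_c37)) = (LP (LK LD1_c10 LD2_c9 LD3_c55)) :=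
  Lre_b IH (LK LD1_c5 LD2_c9 LD3_c37) (LK LD1_c10 LD2_c9 LD3_c55) Lrfl Lrfl
theorem f246165 : Led Lsl_df (LP (LK LD1_c9 LD2_c51 LD3_c27)) = (LP (LK LD1_c10 LD2_c9 LD3_c55)) :=
  Lgr Lrot12 (Lpr_bt (K13.f233857 IH) (Lpr_dt (K14.f246161 IH) (Lpr_bt (f246164 IH) (Lpn (LP (LK LD1_c10 LD2_c9 LD3_c55))))))
theorem f326706 : Led Lsl_cf (LP (LK LD1_c18 LD2_c46 LD3_c27)) = (LP (LK LD1_c18 LD2_c52 LD3_c21)) :=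
  Lgr Lrot166 (Lpe (f326639 IH) (Lpr_dt (f326624 IH) (Lpr_gt (f326702 IH) (Lpr_dt (f233867 IH) (Lpe (K13.f233861 IH) (Lpr_df (f246165 IH) (Lpr_gf (K15.f263557 IH) (Lpe (K15.f263559 IH) (Lpe (K15.f263561 IH) (Lpn (LP (LK LD1_c18 LD2_c52 LD3_c21))))))))))))
theorem f326625 : Led Lsl_dt (LP (LK LD1_c5 LD2_c30 LD3_c11)) = (LP (LK LD1_c10 LD2_c3 LD3_c46)) :=
  Lgr Lrot42 (Lpr_df (f326617 IH) (Lpn (LP (LK LD1_c10 LD2_c3 LD3_c46))))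
theorem f293089 : Led Lsl_ct (LP (LK LD1_c18 LD2_c22 LD3_c23)) = (LP (LK LD1_c10 LD2_c3 LD3_c46)) :=
  Lre_c IH (LK LD1_c18 LD2_c22 LD3_c23) (LK LD1_c10 LD2_c3 LD3_c46) Lrfl Lrfl
theorem f326628 : Led Lsl_af (LP (LK LD1_c5 LD2_c30 LD3_c11)) = (LP (LK LD1_c10 LD2_c20 LD3_c43)) :=
  Lgr Lrot0 (Lpr_at (f326622 IH) (Lpn (LP (LK LD1_c10 LD2_c20 LD3_c43))))
theorem f326647 : Led Lsl_dt (LP (LK LD1_c5 LD2_c15 LD3_c42)) = (LP (LK LD1_c10 LD2_c20 LD3_c43)) :=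
  Lre_d IH (LK LD1_c5 LD2_c15 LD3_c42) (LK LD1_c10 LD2_c20 LD3_c43) Lrfl Lrfl
theorem f326649 : Led Lsl_at (LP (LK LD1_c10 LD2_c3 LD3_c46)) = (LP (LK LD1_c5 LD2_c15 LD3_c42)) :=
  Lgr Lrot51 (Lpe (f326625 IH) (Lpr_af (f326628 IH) (Lpe (f326647 IH) (Lpn (LP (LK LD1_c5 LD2_c15 LD3_c42))))))
theorem f326652 : Led Lsl_ct (LP (LK LD1_c5 LD2_c15 LD3_c42)) = (LP (LK LD1_c10 LD2_c20 LD3_c39)) :=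
  Lre_c IH (LK LD1_c5 LD2_c15 LD3_c42) (LK LD1_c10 LD2_c20 LD3_c39) Lrfl Lrfl
theorem f326653 : Led Lsl_af (LP (LK LD1_c18 LD2_c22 LD3_c23)) = (LP (LK LD1_c10 LD2_c20 LD3_c39)) :=
  Lgr Lrot68 (Lpr_ct (f293089 IH) (Lpr_at (f326649 IH) (Lpr_ct (f326652 IH) (Lpn (LP (LK LD1_c10 LD2_c20 LD3_c39))))))
theorem f326659 : Led Lsl_ft (LP (LK LD1_c5 LD2_c15 LD3_c39)) = (LP (LK LD1_c10 LD2_c20 LD3_c39)) :=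
  Lre_f IH (LK LD1_c5 LD2_c15 LD3_c39) (LK LD1_c10 LD2_c20 LD3_c39) Lrfl Lrfl
theorem f259484 : Led Lsl_gt (LP (LK LD1_c5 LD2_c15 LD3_c39)) = (LP (LK LD1_c10 LD2_c20 LD3_c36)) :=
  Lre_g IH (LK LD1_c5 LD2_c15 LD3_c39) (LK LD1_c10 LD2_c20 LD3_c36) Lrfl Lrfl
theorem f326660 : Led Lsl_gf (LP (LK LD1_c18 LD2_c22 LD3_c23)) = (LP (LK LD1_c10 LD2_c20 LD3_c36)) :=
  Lgr Lrot76 (Lpr_af (f326653 IH) (Lpe (f326659 IH) (Lpr_gt (f259484 IH) (Lpn (LP (LK LD1_c10 LD2_c20 LD3_c36))))))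
theorem f49172 : Led Lsl_dt (LP (LK LD1_c8 LD2_c26 LD3_c17)) = (LP (LK LD1_c10 LD2_c24 LD3_c3)) :=
  Lgr Lrot42 (Lpr_df (K14.f49169 IH) (Lpn (LP (LK LD1_c10 LD2_c24 LD3_c3))))
theorem f49179 : Led Lsl_gt (LP (LK LD1_c8 LD2_c26 LD3_c17)) = (LP (LK LD1_c15 LD2_c50 LD3_c53)) :=
  Lre_g IH (LK LD1_c8 LD2_c26 LD3_c17) (LK LD1_c15 LD2_c50 LD3_c53) Lrfl Lrfl
theorem f326711 : Led Lsl_cf (LP (LK LD1_c10 LD2_c20 LD3_c36)) = (LP (LK LD1_c15 LD2_c50 LD3_c53)) :=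
  Lgr Lrot169 (Lpe (f326660 IH) (Lpr_ct (f293089 IH) (Lpe (f326625 IH) (Lpe (f326613 IH) (Lpr_gf (f326639 IH) (Lpr_cf (f326706 IH) (Lpe (K15.f49180 IH) (Lpe (f49172 IH) (Lpr_gt (f49179 IH) (Lpn (LP (LK LD1_c15 LD2_c50 LD3_c53))))))))))))
theorem f261911 : Led Lsl_ct (LP (LK LD1_c10 LD2_c3 LD3_c46)) = (LP (LK LD1_c18 LD2_c22 LD3_c23)) :=
  Lre_c IH (LK LD1_c10 LD2_c3 LD3_c46) (LK LD1_c18 LD2_c22 LD3_c23) Lrfl Lrfl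
theorem f293086 : Led Lsl_bt (LP (LK LD1_c10 LD2_c3 LD3_c46)) = (LP (LK LD1_c8 LD2_c8 LD3_c30)) :=
  Lgr Lrot127 (Lpr_bf (f293084 IH) (Lpn (LP (LK LD1_c8 LD2_c8 LD3_c30))))
theorem f242929 : Led Lsl_ct (LP (LK LD1_c5 LD2_c5 LD3_c21)) = (LP (LK LD1_c10 LD2_c1 LD3_c47)) :=
  Lre_c IH (LK LD1_c5 LD2_c5 LD3_c21) (LK LD1_c10 LD2_c1 LD3_c47) Lrfl Lrfl
theorem f192314 : Led Lsl_bt (LP (LK LD1_c9 LD2_c40 LD3_c2)) = (LP (LK LD1_c8 LD2_c26 LD3_c17)) :=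
  Lgr Lrot35 (Lpe (K16.f192296 IH) (Lpr_bf (K14.f192312 IH) (Lpe (K14.f49174 IH) (Lpn (LP (LK LD1_c8 LD2_c26 LD3_c17))))))
theorem f192279 : Led Lsl_ct (LP (LK LD1_c9 LD2_c40 LD3_c2)) = (LP (LK LD1_c17 LD2_c46 LD3_c53)) :=
  Lre_c IH (LK LD1_c9 LD2_c40 LD3_c2) (LK LD1_c17 LD2_c46 LD3_c53) Lrfl Lrfl
theorem f326715 : Led Lsl_gt (LP (LK LD1_c10 LD2_c1 LD3_c47)) = (LP (LK LD1_c17 LD2_c46 LD3_c53)) :=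
  Lgr Lrot65 (Lpe (f242929 IH) (Lpr_bt (K15.f242917 IH) (Lpe (K18.f28117 IH) (Lpe (f293086 IH) (Lpr_ct (f261911 IH) (Lpr_gf (f326660 IH) (Lpr_cf (f326711 IH) (Lpe (f49179 IH) (Lpe (f192314 IH) (Lpr_ct (f192279 IH) (Lpn (LP (LK LD1_c17 LD2_c46 LD3_c53)))))))))))))
theorem f293984 : Led Lsl_af (LP (LK LD1_c10 LD2_c3 LD3_c28)) = (LP (LK LD1_c10 LD2_c29 LD3_c34)) :=
  Lgr Lrot117 (Lpr_dt (K18.f293970 IH) (Lpr_at (K18.f293980 IH) (Lpr_dt (K18.f265888 IH) (Lpn (LP (LK LD1_c10 LD2_c29 LD3_c34))))))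
theorem f326723 : Led Lsl_gf (LP (LK LD1_c10 LD2_c3 LD3_c28)) = (LP (LK LD1_c17 LD2_c46 LD3_c53)) :=
  Lgr Lrot76 (Lpr_af (f293984 IH) (Lpe (K18.f294019 IH) (Lpr_gt (f326715 IH) (Lpn (LP (LK LD1_c17 LD2_c46 LD3_c53))))))
theorem f246167 : Led Lsl_ct (LP (LK LD1_c5 LD2_c9 LD3_c37)) = (LP (LK LD1_c10 LD2_c9 LD3_c58)) :=
  Lre_c IH (LK LD1_c5 LD2_c9 LD3_c37) (LK LD1_c10 LD2_c9 LD3_c58) Lrfl Lrfl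
theorem f246173 : Led Lsl_gt (LP (LK LD1_c18 LD2_c31 LD3_c5)) = (LP (LK LD1_c10 LD2_c9 LD3_c58)) :=
  Lre_g IH (LK LD1_c18 LD2_c31 LD3_c5) (LK LD1_c10 LD2_c9 LD3_c58) Lrfl Lrfl
theorem f326729 : Led Lsl_ct (LP (LK LD1_c10 LD2_c24 LD3_c59)) = (LP (LK LD1_c18 LD2_c31 LD3_c5)) :=
  Lgr Lrot91 (Lpe (K18.f294224 IH) (Lpe (K18.f293762 IH) (Lpr_ct (K18.f198610 IH) (Lpr_gf (f326723 IH) (Lpe (f192279 IH) (Lpr_bt (f192314 IH) (Lpe (K15.f263554 IH) (Lpe (f246164 IH) (Lpr_ct (f246167 IH) (Lpe (f246173 IH) (Lpn (LP (LK LD1_c18 LD2_c31 LD3_c5)))))))))))))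
theorem f246211 : Led Lsl_ct (LP (LK LD1_c10 LD2_c24 LD3_c56)) = (LP (LK LD1_c5 LD2_c17 LD3_c40)) :=
  Lre_c IH (LK LD1_c10 LD2_c24 LD3_c56) (LK LD1_c5 LD2_c17 LD3_c40) Lrfl Lrfl
theorem f326739 : Led Lsl_ff (LP (LK LD1_c10 LD2_c24 LD3_c56)) = (LP (LK LD1_c18 LD2_c31 LD3_c5)) :=
  Lgr Lrot23 (Lpr_ct (f246211 IH) (Lpr_ft (K18.f260350 IH) (Lpr_ct (f326729 IH) (Lpn (LP (LK LD1_c18 LD2_c31 LD3_c5))))))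
theorem f326750 : Led Lsl_gf (LP (LK LD1_c10 LD2_c27 LD3_c57)) = (LP (LK LD1_c10 LD2_c9 LD3_c58)) :=
  Lgr Lrot76 (Lpr_af (K16.f271291 IH) (Lpr_ff (f326739 IH) (Lpr_gt (f246173 IH) (Lpn (LP (LK LD1_c10 LD2_c9 LD3_c58))))))
theorem f184690 : Led Lsl_ct (LP (LK LD1_c5 LD2_c19 LD3_c2)) = (LP (LK LD1_c10 LD2_c27 LD3_c57)) :=
  Lre_c IH (LK LD1_c5 LD2_c19 LD3_c2) (LK LD1_c10 LD2_c27 LD3_c57) Lrfl Lrfl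
theorem f184688 : Led Lsl_bt (LP (LK LD1_c5 LD2_c19 LD3_c2)) = (LP (LK LD1_c4 LD2_c2 LD3_c5)) :=
  Lgr Lrot127 (Lpr_bf (K19.f184686 IH) (Lpn (LP (LK LD1_c4 LD2_c2 LD3_c5))))
theorem f195640 : Led Lsl_ct (LP (LK LD1_c8 LD2_c4 LD3_c8)) = (LP (LK LD1_c15 LD2_c11 LD3_c20)) :=
  Lre_c IH (LK LD1_c8 LD2_c4 LD3_c8) (LK LD1_c15 LD2_c11 LD3_c20) Lrfl Lrfl
theorem f197185 : Led Lsl_gt (LP (LK LD1_c5 LD2_c8 LD3_c50)) = (LP (LK LD1_c10 LD2_c8 LD3_c2)) :=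
  Lre_g IH (LK LD1_c5 LD2_c8 LD3_c50) (LK LD1_c10 LD2_c8 LD3_c2) Lrfl Lrfl
theorem f239912 : Led Lsl_gf (LP (LK LD1_c15 LD2_c11 LD3_c20)) = (LP (LK LD1_c10 LD2_c8 LD3_c2)) :=
  Lgr Lrot76 (Lpr_af (K13.f239898 IH) (Lpe (K13.f239909 IH) (Lpr_gt (f197185 IH) (Lpn (LP (LK LD1_c10 LD2_c8 LD3_c2))))))
theorem f326753 : Led Lsl_ct (LP (LK LD1_c8 LD2_c4 LD3_c46)) = (LP (LK LD1_c10 LD2_c8 LD3_c2)) :=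
  Lgr Lrot91 (Lpe (K19.f184744 IH) (Lpe (f184688 IH) (Lpr_ct (f184690 IH) (Lpr_gf (f326750 IH) (Lpe (f246167 IH) (Lpr_bt (f246164 IH) (Lpr_gf (K15.f263557 IH) (Lpr_bf (K14.f195632 IH) (Lpr_ct (f195640 IH) (Lpr_gf (f239912 IH) (Lpn (LP (LK LD1_c10 LD2_c8 LD3_c2)))))))))))))
theorem f197198 : Led Lsl_et (LP (LK LD1_c10 LD2_c8 LD3_c2)) = (LP (LK LD1_c18 LD2_c27 LD3_c35)) :=
  Lre_e IH (LK LD1_c10 LD2_c8 LD3_c2) (LK LD1_c18 LD2_c27 LD3_c35) Lrfl Lrfl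
theorem f326761 : Led Lsl_cf (LP (LK LD1_c15 LD2_c12 LD3_c49)) = (LP (LK LD1_c18 LD2_c27 LD3_c35)) :=
  Lgr Lrot39 (Lpr_et (K19.f190882 IH) (Lpr_ct (f326753 IH) (Lpr_et (f197198 IH) (Lpn (LP (LK LD1_c18 LD2_c27 LD3_c35))))))
theorem f197184 : Led Lsl_et (LP (LK LD1_c2 LD2_c31 LD3_c35)) = (LP (LK LD1_c5 LD2_c8 LD3_c50)) :=
  Lre_e IH (LK LD1_c2 LD2_c31 LD3_c35) (LK LD1_c5 LD2_c8 LD3_c50) Lrfl Lrfl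
theorem f197186 : Led Lsl_et (LP (LK LD1_c18 LD2_c27 LD3_c35)) = (LP (LK LD1_c10 LD2_c8 LD3_c2)) :=
  Lre_e IH (LK LD1_c18 LD2_c27 LD3_c35) (LK LD1_c10 LD2_c8 LD3_c2) Lrfl Lrfl
theorem f197189 : Led Lsl_gt (LP (LK LD1_c18 LD2_c28 LD3_c26)) = (LP (LK LD1_c10 LD2_c8 LD3_c30)) :=
  Lre_g IH (LK LD1_c18 LD2_c28 LD3_c26) (LK LD1_c10 LD2_c8 LD3_c30) Lrfl Lrfl
theorem f197190 : Led Lsl_dt (LP (LK LD1_c18 LD2_c27 LD3_c35)) = (LP (LK LD1_c18 LD2_c28 LD3_c26)) :=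
  Lgr Lrot136 (Lpr_et (f197186 IH) (Lpe (f197185 IH) (Lpe (f197184 IH) (Lpr_dt (K13.f190275 IH) (Lpe (K10.f197176 IH) (Lpr_df (K1.f46901 IH) (Lpr_gf (K10.f197170 IH) (Lpe (K20.f197187 IH) (Lpr_dt (K20.f197188 IH) (Lpe (f197189 IH) (Lpn (LP (LK LD1_c18 LD2_c28 LD3_c26)))))))))))))
theorem f197196 : Led Lsl_df (LP (LK LD1_c18 LD2_c27 LD3_c35)) = (LP (LK LD1_c18 LD2_c28 LD3_c26)) :=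
  Lgr Lrot38 (Lpr_dt (f197190 IH) (Lpn (LP (LK LD1_c18 LD2_c28 LD3_c26))))
theorem f287285 : Led Lsl_gf (LP (LK LD1_c18 LD2_c28 LD3_c26)) = (LP (LK LD1_c25 LD2_c0 LD3_c44)) :=
  Lgr Lrot47 (Lpr_gt (f197189 IH) (Lpr_af (K17.f287269 IH) (Lpe (K17.f287253 IH) (Lpn (LP (LK LD1_c25 LD2_c0 LD3_c44))))))
theorem f326774 : Led Lsl_gf (LP (LK LD1_c8 LD2_c5 LD3_c28)) = (LP (LK LD1_c8 LD2_c5 LD3_c48)) :=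
  Lgr Lrot144 (Lpe (K19.f259108 IH) (Lpr_gt (K20.f312285 IH) (Lpe (K20.f312279 IH) (Lpr_cf (f326761 IH) (Lpr_df (f197196 IH) (Lpr_gf (f287285 IH) (Lpe (K18.f287260 IH) (Lpe (K20.f296907 IH) (Lpr_cf (K20.f299059 IH) (Lpn (LP (LK LD1_c8 LD2_c5 LD3_c48))))))))))))
theorem f260072 : Led Lsl_bt (LP (LK LD1_c18 LD2_c28 LD3_c61)) = (LP (LK LD1_c10 LD2_c8 LD3_c56)) :=
  Lre_b IH (LK LD1_c18 LD2_c28 LD3_c61) (LK LD1_c10 LD2_c8 LD3_c56) Lrfl Lrfl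
theorem f260063 : Led Lsl_ft (LP (LK LD1_c17 LD2_c47 LD3_c25)) = (LP (LK LD1_c27 LD2_c34 LD3_c27)) :=
  Lre_f IH (LK LD1_c17 LD2_c47 LD3_c25) (LK LD1_c27 LD2_c34 LD3_c27) Lrfl Lrfl
theorem f260064 : Led Lsl_ft (LP (LK LD1_c18 LD2_c28 LD3_c61)) = (LP (LK LD1_c10 LD2_c8 LD3_c53)) :=
  Lre_f IH (LK LD1_c18 LD2_c28 LD3_c61) (LK LD1_c10 LD2_c8 LD3_c53) Lrfl Lrfl
theorem f260065 : Led Lsl_ct (LP (LK LD1_c27 LD2_c34 LD3_c27)) = (LP (LK LD1_c18 LD2_c28 LD3_c61)) :=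
  Lgr Lrot40 (Lpe (f260063 IH) (Lpr_cf (K19.f260040 IH) (Lpe (f260064 IH) (Lpn (LP (LK LD1_c18 LD2_c28 LD3_c61))))))
theorem f193167 : Led Lsl_bt (LP (LK LD1_c17 LD2_c47 LD3_c28)) = (LP (LK LD1_c27 LD2_c34 LD3_c27)) :=
  Lre_b IH (LK LD1_c17 LD2_c47 LD3_c28) (LK LD1_c27 LD2_c34 LD3_c27) Lrfl Lrfl
theorem f260113 : Led Lsl_bt (LP (LK LD1_c8 LD2_c5 LD3_c28)) = (LP (LK LD1_c10 LD2_c28 LD3_c8)) :=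
  Lgr Lrot128 (Lpr_cf (K19.f260084 IH) (Lpe (f260072 IH) (Lpe (f260065 IH) (Lpe (f193167 IH) (Lpr_cf (K18.f193162 IH) (Lpn (LP (LK LD1_c10 LD2_c28 LD3_c8))))))))
theorem f294238 : Led Lsl_et (LP (LK LD1_c8 LD2_c5 LD3_c53)) = (LP (LK LD1_c8 LD2_c5 LD3_c28)) :=
  Lgr Lrot74 (Lpr_bf (K13.f229071 IH) (Lpr_ef (K18.f294234 IH) (Lpe (f260113 IH) (Lpn (LP (LK LD1_c8 LD2_c5 LD3_c28))))))
theorem f229683 : Led Lsl_ft (LP (LK LD1_c7 LD2_c55 LD3_c37)) = (LP (LK LD1_c3 LD2_c56 LD3_c60)) :=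
  Lre_f IH (LK LD1_c7 LD2_c55 LD3_c37) (LK LD1_c3 LD2_c56 LD3_c60) Lrfl Lrfl
theorem f243067 : Led Lsl_gt (LP (LK LD1_c4 LD2_c21 LD3_c36)) = (LP (LK LD1_c2 LD2_c8 LD3_c17)) :=
  Lre_g IH (LK LD1_c4 LD2_c21 LD3_c36) (LK LD1_c2 LD2_c8 LD3_c17) Lrfl Lrfl
theorem f287637 : Led Lsl_gt (LP (LK LD1_c7 LD2_c55 LD3_c37)) = (LP (LK LD1_c4 LD2_c21 LD3_c36)) :=
  Lgr Lrot5 (Lpr_ft (f229683 IH) (Lpr_at (K17.f287635 IH) (Lpe (f243067 IH) (Lpn (LP (LK LD1_c4 LD2_c21 LD3_c36))))))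
theorem f243068 : Led Lsl_dt (LP (LK LD1_c8 LD2_c40 LD3_c50)) = (LP (LK LD1_c4 LD2_c21 LD3_c36)) :=
  Lre_d IH (LK LD1_c8 LD2_c40 LD3_c50) (LK LD1_c4 LD2_c21 LD3_c36) Lrfl Lrfl
theorem f193023 : Led Lsl_gt (LP (LK LD1_c4 LD2_c1 LD3_c13)) = (LP (LK LD1_c8 LD2_c3 LD3_c11)) :=
  Lre_g IH (LK LD1_c4 LD2_c1 LD3_c13) (LK LD1_c8 LD2_c3 LD3_c11) Lrfl Lrfl
theorem f243069 : Led Lsl_ef (LP (LK LD1_c8 LD2_c3 LD3_c11)) = (LP (LK LD1_c8 LD2_c40 LD3_c50)) :=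
  Lgr Lrot17 (Lpe (f193023 IH) (Lpe (K16.f182011 IH) (Lpr_dt (K13.f34619 IH) (Lpe (K10.f182001 IH) (Lpe (K1.f46575 IH) (Lpe (K10.f28173 IH) (Lpe (K13.f46991 IH) (Lpr_dt (K13.f243048 IH) (Lpe (f243067 IH) (Lpe (f243068 IH) (Lpn (LP (LK LD1_c8 LD2_c40 LD3_c50)))))))))))))
theorem f312134 : Led Lsl_gt (LP (LK LD1_c7 LD2_c55 LD3_c50)) = (LP (LK LD1_c4 LD2_c21 LD3_c60)) :=
  Lgr Lrot137 (Lpe (K16.f269846 IH) (Lpr_dt (K16.f260455 IH) (Lpr_gf (K19.f312126 IH) (Lpe (K19.f308883 IH) (Lpr_et (K19.f186909 IH) (Lpe (K19.f186908 IH) (Lpe (K14.f186907 IH) (Lpr_dt (K14.f186892 IH) (Lpr_gf (K20.f311305 IH) (Lpe (K20.f246134 IH) (Lpn (LP (LK LD1_c4 LD2_c21 LD3_c60)))))))))))))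
theorem f326782 : Led Lsl_gt (LP (LK LD1_c8 LD2_c3 LD3_c11)) = (LP (LK LD1_c8 LD2_c4 LD3_c41)) :=
  Lgr Lrot137 (Lpr_ef (f243069 IH) (Lpr_dt (f243068 IH) (Lpe (f287637 IH) (Lpe (K15.f229671 IH) (Lpr_et (f294238 IH) (Lpr_gf (f326774 IH) (Lpr_ef (K20.f246132 IH) (Lpr_dt (K20.f216784 IH) (Lpe (f312134 IH) (Lpe (K15.f229726 IH) (Lpn (LP (LK LD1_c8 LD2_c4 LD3_c41)))))))))))))
theorem f228995 : Led Lsl_gt (LP (LK LD1_c8 LD2_c17 LD3_c6)) = (LP (LK LD1_c4 LD2_c8 LD3_c30)) :=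
  Lre_g IH (LK LD1_c8 LD2_c17 LD3_c6) (LK LD1_c4 LD2_c8 LD3_c30) Lrfl Lrfl
theorem f184769 : Led Lsl_et (LP (LK LD1_c5 LD2_c19 LD3_c44)) = (LP (LK LD1_c2 LD2_c36 LD3_c31)) :=
  Lre_e IH (LK LD1_c5 LD2_c19 LD3_c44) (LK LD1_c2 LD2_c36 LD3_c31) Lrfl Lrfl
theorem f228996 : Led Lsl_df (LP (LK LD1_c8 LD2_c17 LD3_c6)) = (LP (LK LD1_c8 LD2_c3 LD3_c11)) :=
  Lgr Lrot135 (Lpr_gt (f228995 IH) (Lpr_df (K12.f228975 IH) (Lpr_et (f184769 IH) (Lpr_gt (K12.f45884 IH) (Lpr_ef (K1.f44914 IH) (Lpr_dt (K1.f46575 IH) (Lpr_gt (K10.f182001 IH) (Lpe (K13.f34619 IH) (Lpr_et (K16.f182011 IH) (Lpr_gt (f193023 IH) (Lpn (LP (LK LD1_c8 LD2_c3 LD3_c11)))))))))))))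
theorem f228999 : Led Lsl_dt (LP (LK LD1_c8 LD2_c17 LD3_c6)) = (LP (LK LD1_c8 LD2_c3 LD3_c11)) :=
  Lgr Lrot42 (Lpr_df (f228996 IH) (Lpn (LP (LK LD1_c8 LD2_c3 LD3_c11))))
theorem f229001 : Led Lsl_et (LP (LK LD1_c8 LD2_c17 LD3_c6)) = (LP (LK LD1_c15 LD2_c34 LD3_c53)) :=
  Lre_e IH (LK LD1_c8 LD2_c17 LD3_c6) (LK LD1_c15 LD2_c34 LD3_c53) Lrfl Lrfl
theorem f184619 : Led Lsl_et (LP (LK LD1_c2 LD2_c28 LD3_c15)) = (LP (LK LD1_c5 LD2_c1 LD3_c2)) :=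
  Lre_e IH (LK LD1_c2 LD2_c28 LD3_c15) (LK LD1_c5 LD2_c1 LD3_c2) Lrfl Lrfl
theorem f243071 : Led Lsl_gt (LP (LK LD1_c5 LD2_c1 LD3_c2)) = (LP (LK LD1_c8 LD2_c40 LD3_c50)) :=
  Lgr Lrot137 (Lpe (f184619 IH) (Lpr_dt (K15.f3779 IH) (Lpr_gf (K9.f184614 IH) (Lpe (K1.f44913 IH) (Lpr_et (K1.f46985 IH) (Lpe (K10.f28173 IH) (Lpe (K13.f46991 IH) (Lpr_dt (K13.f243048 IH) (Lpe (f243067 IH) (Lpe (f243068 IH) (Lpn (LP (LK LD1_c8 LD2_c40 LD3_c50)))))))))))))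
theorem f243079 : Led Lsl_et (LP (LK LD1_c8 LD2_c3 LD3_c11)) = (LP (LK LD1_c8 LD2_c40 LD3_c50)) :=
  Lgr Lrot122 (Lpe (f228996 IH) (Lpr_gt (f228995 IH) (Lpr_df (K12.f228975 IH) (Lpr_et (f184769 IH) (Lpr_gt (K12.f45884 IH) (Lpr_dt (K1.f44913 IH) (Lpe (K9.f184614 IH) (Lpe (K15.f3779 IH) (Lpr_et (f184619 IH) (Lpr_gt (f243071 IH) (Lpn (LP (LK LD1_c8 LD2_c40 LD3_c50)))))))))))))
theorem f229003 : Led Lsl_et (LP (LK LD1_c15 LD2_c34 LD3_c53)) = (LP (LK LD1_c8 LD2_c17 LD3_c6)) :=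
  Lre_e IH (LK LD1_c15 LD2_c34 LD3_c53) (LK LD1_c8 LD2_c17 LD3_c6) Lrfl Lrfl
theorem f243078 : Led Lsl_et (LP (LK LD1_c4 LD2_c21 LD3_c36)) = (LP (LK LD1_c8 LD2_c40 LD3_c51)) :=
  Lre_e IH (LK LD1_c4 LD2_c21 LD3_c36) (LK LD1_c8 LD2_c40 LD3_c51) Lrfl Lrfl
theorem f243081 : Led Lsl_df (LP (LK LD1_c15 LD2_c34 LD3_c53)) = (LP (LK LD1_c8 LD2_c40 LD3_c51)) :=
  Lgr Lrot70 (Lpr_et (f229003 IH) (Lpr_dt (f228999 IH) (Lpr_et (f243079 IH) (Lpr_dt (f243068 IH) (Lpr_et (f243078 IH) (Lpn (LP (LK LD1_c8 LD2_c40 LD3_c51))))))))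
theorem f243087 : Led Lsl_et (LP (LK LD1_c8 LD2_c40 LD3_c51)) = (LP (LK LD1_c4 LD2_c21 LD3_c36)) :=
  Lre_e IH (LK LD1_c8 LD2_c40 LD3_c51) (LK LD1_c4 LD2_c21 LD3_c36) Lrfl Lrfl
theorem f243088 : Led Lsl_gf (LP (LK LD1_c15 LD2_c34 LD3_c53)) = (LP (LK LD1_c14 LD2_c58 LD3_c5)) :=
  Lgr Lrot134 (Lpr_df (f243081 IH) (Lpr_et (f243087 IH) (Lpr_gt (f243067 IH) (Lpe (K17.f184797 IH) (Lpr_dt (K13.f182348 IH) (Lpr_gt (K12.f182350 IH) (Lpe (K1.f39005 IH) (Lpr_et (K1.f39139 IH) (Lpr_gt (K19.f39104 IH) (Lpr_dt (K19.f39110 IH) (Lpn (LP (LK LD1_c14 LD2_c58 LD3_c5)))))))))))))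
theorem f326788 : Led Lsl_gf (LP (LK LD1_c16 LD2_c13 LD3_c3)) = (LP (LK LD1_c10 LD2_c42 LD3_c51)) :=
  Lgr Lrot134 (Lpe (K14.f255586 IH) (Lpe (K19.f279520 IH) (Lpe (f243088 IH) (Lpe (f229001 IH) (Lpr_dt (f228999 IH) (Lpr_gt (f326782 IH) (Lpr_df (K15.f229750 IH) (Lpe (K16.f269836 IH) (Lpr_gt (K20.f269910 IH) (Lpr_dt (K20.f321023 IH) (Lpn (LP (LK LD1_c10 LD2_c42 LD3_c51)))))))))))))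
theorem f43136 : Led Lsl_dt (LP (LK LD1_c26 LD2_c14 LD3_c35)) = (LP (LK LD1_c16 LD2_c16 LD3_c36)) :=
  Lre_d IH (LK LD1_c26 LD2_c14 LD3_c35) (LK LD1_c16 LD2_c16 LD3_c36) Lrfl Lrfl
theorem f43127 : Led Lsl_dt (LP (LK LD1_c16 LD2_c16 LD3_c36)) = (LP (LK LD1_c26 LD2_c14 LD3_c35)) :=
  Lre_d IH (LK LD1_c16 LD2_c16 LD3_c36) (LK LD1_c26 LD2_c14 LD3_c35) Lrfl Lrfl
theorem f255789 : Led Lsl_dt (LP (LK LD1_c19 LD2_c14 LD3_c30)) = (LP (LK LD1_c10 LD2_c37 LD3_c21)) :=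
  Lre_d IH (LK LD1_c19 LD2_c14 LD3_c30) (LK LD1_c10 LD2_c37 LD3_c21) Lrfl Lrfl
theorem f279475 : Led Lsl_ft (LP (LK LD1_c26 LD2_c14 LD3_c35)) = (LP (LK LD1_c19 LD2_c14 LD3_c30)) :=
  Lgr Lrot54 (Lpe (f43127 IH) (Lpr_ff (K18.f279467 IH) (Lpe (f255789 IH) (Lpn (LP (LK LD1_c19 LD2_c14 LD3_c30))))))
theorem f279479 : Led Lsl_at (LP (LK LD1_c19 LD2_c14 LD3_c30)) = (LP (LK LD1_c10 LD2_c37 LD3_c30)) :=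
  Lre_a IH (LK LD1_c19 LD2_c14 LD3_c30) (LK LD1_c10 LD2_c37 LD3_c30) Lrfl Lrfl
theorem f255697 : Led Lsl_ft (LP (LK LD1_c10 LD2_c37 LD3_c30)) = (LP (LK LD1_c19 LD2_c14 LD3_c56)) :=
  Lre_f IH (LK LD1_c10 LD2_c37 LD3_c30) (LK LD1_c19 LD2_c14 LD3_c56) Lrfl Lrfl
theorem f279480 : Led Lsl_af (LP (LK LD1_c26 LD2_c14 LD3_c35)) = (LP (LK LD1_c19 LD2_c14 LD3_c56)) :=
  Lgr Lrot45 (Lpr_ft (f279475 IH) (Lpr_at (f279479 IH) (Lpr_ft (f255697 IH) (Lpn (LP (LK LD1_c19 LD2_c14 LD3_c56))))))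
theorem f224194 : Led Lsl_gt (LP (LK LD1_c10 LD2_c37 LD3_c30)) = (LP (LK LD1_c19 LD2_c14 LD3_c53)) :=
  Lre_g IH (LK LD1_c10 LD2_c37 LD3_c30) (LK LD1_c19 LD2_c14 LD3_c53) Lrfl Lrfl
theorem f279488 : Led Lsl_gf (LP (LK LD1_c26 LD2_c14 LD3_c35)) = (LP (LK LD1_c19 LD2_c14 LD3_c53)) :=
  Lgr Lrot76 (Lpr_af (f279480 IH) (Lpe (f255697 IH) (Lpr_gt (f224194 IH) (Lpn (LP (LK LD1_c19 LD2_c14 LD3_c53))))))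
theorem f314662 : Led Lsl_ct (LP (LK LD1_c8 LD2_c14 LD3_c23)) = (LP (LK LD1_c15 LD2_c30 LD3_c6)) :=
  Lre_c IH (LK LD1_c8 LD2_c14 LD3_c23) (LK LD1_c15 LD2_c30 LD3_c6) Lrfl Lrfl
theorem f189400 : Led Lsl_ct (LP (LK LD1_c5 LD2_c35 LD3_c27)) = (LP (LK LD1_c2 LD2_c43 LD3_c41)) :=
  Lre_c IH (LK LD1_c5 LD2_c35 LD3_c27) (LK LD1_c2 LD2_c43 LD3_c41) Lrfl Lrfl
theorem f189401 : Led Lsl_dt (LP (LK LD1_c11 LD2_c3 LD3_c5)) = (LP (LK LD1_c5 LD2_c35 LD3_c27)) :=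
  Lre_d IH (LK LD1_c11 LD2_c3 LD3_c5) (LK LD1_c5 LD2_c35 LD3_c27) Lrfl Lrfl
theorem f314681 : Led Lsl_gt (LP (LK LD1_c15 LD2_c30 LD3_c6)) = (LP (LK LD1_c8 LD2_c38 LD3_c40)) :=
  Lgr Lrot94 (Lpe (f314662 IH) (Lpr_gt (K20.f195493 IH) (Lpr_dt (K19.f314653 IH) (Lpr_gt (K20.f314679 IH) (Lpe (K13.f189404 IH) (Lpe (f189400 IH) (Lpe (f189401 IH) (Lpe (K19.f234018 IH) (Lpe (K19.f31851 IH) (Lpn (LP (LK LD1_c8 LD2_c38 LD3_c40))))))))))))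
theorem f314734 : Led Lsl_et (LP (LK LD1_c25 LD2_c23 LD3_c26)) = (LP (LK LD1_c15 LD2_c30 LD3_c6)) :=
  Lre_e IH (LK LD1_c25 LD2_c23 LD3_c26) (LK LD1_c15 LD2_c30 LD3_c6) Lrfl Lrfl
theorem f224192 : Led Lsl_et (LP (LK LD1_c5 LD2_c23 LD3_c29)) = (LP (LK LD1_c2 LD2_c38 LD3_c14)) :=
  Lre_e IH (LK LD1_c5 LD2_c23 LD3_c29) (LK LD1_c2 LD2_c38 LD3_c14) Lrfl Lrfl
theorem f224193 : Led Lsl_dt (LP (LK LD1_c5 LD2_c23 LD3_c29)) = (LP (LK LD1_c10 LD2_c37 LD3_c30)) :=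
  Lre_d IH (LK LD1_c5 LD2_c23 LD3_c29) (LK LD1_c10 LD2_c37 LD3_c30) Lrfl Lrfl
theorem f314735 : Led Lsl_dt (LP (LK LD1_c25 LD2_c23 LD3_c26)) = (LP (LK LD1_c19 LD2_c14 LD3_c53)) :=
  Lgr Lrot37 (Lpr_et (f314734 IH) (Lpr_gt (f314681 IH) (Lpr_dt (K19.f31851 IH) (Lpr_gt (K19.f234018 IH) (Lpe (K19.f189421 IH) (Lpr_et (K19.f224186 IH) (Lpe (K13.f224173 IH) (Lpe (f224192 IH) (Lpr_dt (f224193 IH) (Lpr_gt (f224194 IH) (Lpn (LP (LK LD1_c19 LD2_c14 LD3_c53)))))))))))))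
theorem f321022 : Led Lsl_ct (LP (LK LD1_c19 LD2_c23 LD3_c34)) = (LP (LK LD1_c10 LD2_c42 LD3_c51)) :=
  Lre_c IH (LK LD1_c19 LD2_c23 LD3_c34) (LK LD1_c10 LD2_c42 LD3_c51) Lrfl Lrfl
theorem f326790 : Led Lsl_gf (LP (LK LD1_c25 LD2_c23 LD3_c26)) = (LP (LK LD1_c19 LD2_c23 LD3_c34)) :=
  Lgr Lrot144 (Lpr_dt (f314735 IH) (Lpe (f279488 IH) (Lpr_dt (f43136 IH) (Lpe (K17.f43126 IH) (Lpe (K17.f43123 IH) (Lpr_gf (K19.f279514 IH) (Lpr_df (K14.f255584 IH) (Lpr_gf (f326788 IH) (Lpe (f321022 IH) (Lpn (LP (LK LD1_c19 LD2_c23 LD3_c34))))))))))))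
theorem f314675 : Led Lsl_ct (LP (LK LD1_c25 LD2_c23 LD3_c26)) = (LP (LK LD1_c15 LD2_c30 LD3_c7)) :=
  Lre_c IH (LK LD1_c25 LD2_c23 LD3_c26) (LK LD1_c15 LD2_c30 LD3_c7) Lrfl Lrfl
theorem f326802 : Led Lsl_gt (LP (LK LD1_c15 LD2_c20 LD3_c25)) = (LP (LK LD1_c10 LD2_c42 LD3_c51)) :=
  Lgr Lrot9 (Lpr_df (K20.f275890 IH) (Lpr_gt (K20.f235731 IH) (Lpe (K16.f255669 IH) (Lpr_gt (K18.f279760 IH) (Lpr_ct (K18.f233951 IH) (Lpe (K20.f314668 IH) (Lpe (f314675 IH) (Lpr_gf (f326790 IH) (Lpe (K20.f321018 IH) (Lpn (LP (LK LD1_c10 LD2_c42 LD3_c51))))))))))))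
theorem f31641 : Led Lsl_gt (LP (LK LD1_c5 LD2_c5 LD3_c2)) = (LP (LK LD1_c2 LD2_c29 LD3_c49)) :=
  Lre_g IH (LK LD1_c5 LD2_c5 LD3_c2) (LK LD1_c2 LD2_c29 LD3_c49) Lrfl Lrfl
theorem f31642 : Led Lsl_et (LP (LK LD1_c10 LD2_c1 LD3_c15)) = (LP (LK LD1_c5 LD2_c5 LD3_c2)) :=
  Lre_e IH (LK LD1_c10 LD2_c1 LD3_c15) (LK LD1_c5 LD2_c5 LD3_c2) Lrfl Lrfl
theorem f259151 : Led Lsl_et (LP (LK LD1_c4 LD2_c2 LD3_c59)) = (LP (LK LD1_c8 LD2_c6 LD3_c36)) :=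
  Lre_e IH (LK LD1_c4 LD2_c2 LD3_c59) (LK LD1_c8 LD2_c6 LD3_c36) Lrfl Lrfl
theorem f194459 : Led Lsl_gt (LP (LK LD1_c8 LD2_c6 LD3_c36)) = (LP (LK LD1_c15 LD2_c16 LD3_c16)) :=
  Lre_g IH (LK LD1_c8 LD2_c6 LD3_c36) (LK LD1_c15 LD2_c16 LD3_c16) Lrfl Lrfl
theorem f200831 : Led Lsl_dt (LP (LK LD1_c4 LD2_c4 LD3_c3)) = (LP (LK LD1_c8 LD2_c8 LD3_c46)) :=
  Lre_d IH (LK LD1_c4 LD2_c4 LD3_c3) (LK LD1_c8 LD2_c8 LD3_c46) Lrfl Lrfl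
theorem f200832 : Led Lsl_gt (LP (LK LD1_c15 LD2_c20 LD3_c19)) = (LP (LK LD1_c8 LD2_c8 LD3_c46)) :=
  Lre_g IH (LK LD1_c15 LD2_c20 LD3_c19) (LK LD1_c8 LD2_c8 LD3_c46) Lrfl Lrfl
theorem f259159 : Led Lsl_dt (LP (LK LD1_c15 LD2_c16 LD3_c16)) = (LP (LK LD1_c15 LD2_c20 LD3_c19)) :=
  Lgr Lrot171 (Lpe (f194459 IH) (Lpe (f259151 IH) (Lpr_dt (K15.f259141 IH) (Lpr_gf (K15.f259146 IH) (Lpe (K10.f27600 IH) (Lpr_et (K0.f27651 IH) (Lpr_gf (K11.f200818 IH) (Lpe (K17.f200830 IH) (Lpr_dt (f200831 IH) (Lpe (f200832 IH) (Lpn (LP (LK LD1_c15 LD2_c20 LD3_c19)))))))))))))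
theorem f194485 : Led Lsl_ct (LP (LK LD1_c8 LD2_c6 LD3_c36)) = (LP (LK LD1_c4 LD2_c2 LD3_c60)) :=
  Lre_c IH (LK LD1_c8 LD2_c6 LD3_c36) (LK LD1_c4 LD2_c2 LD3_c60) Lrfl Lrfl
theorem f194484 : Led Lsl_gt (LP (LK LD1_c4 LD2_c2 LD3_c60)) = (LP (LK LD1_c8 LD2_c6 LD3_c37)) :=
  Lre_g IH (LK LD1_c4 LD2_c2 LD3_c60) (LK LD1_c8 LD2_c6 LD3_c37) Lrfl Lrfl
theorem f259169 : Led Lsl_dt (LP (LK LD1_c8 LD2_c6 LD3_c37)) = (LP (LK LD1_c5 LD2_c5 LD3_c2)) :=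
  Lgr Lrot57 (Lpe (f194484 IH) (Lpe (f194485 IH) (Lpr_gt (f194459 IH) (Lpr_dt (f259159 IH) (Lpr_gt (f200832 IH) (Lpr_dt (K17.f200885 IH) (Lpe (K18.f211302 IH) (Lpr_df (K11.f211297 IH) (Lpe (f31641 IH) (Lpn (LP (LK LD1_c5 LD2_c5 LD3_c2))))))))))))
theorem f199052 : Led Lsl_gt (LP (LK LD1_c4 LD2_c3 LD3_c29)) = (LP (LK LD1_c8 LD2_c7 LD3_c32)) :=
  Lre_g IH (LK LD1_c4 LD2_c3 LD3_c29) (LK LD1_c8 LD2_c7 LD3_c32) Lrfl Lrfl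
theorem f200997 : Led Lsl_dt (LP (LK LD1_c8 LD2_c7 LD3_c32)) = (LP (LK LD1_c15 LD2_c18 LD3_c7)) :=
  Lre_d IH (LK LD1_c8 LD2_c7 LD3_c32) (LK LD1_c15 LD2_c18 LD3_c7) Lrfl Lrfl
theorem f195969 : Led Lsl_et (LP (LK LD1_c8 LD2_c6 LD3_c57)) = (LP (LK LD1_c4 LD2_c3 LD3_c11)) :=
  Lre_e IH (LK LD1_c8 LD2_c6 LD3_c57) (LK LD1_c4 LD2_c3 LD3_c11) Lrfl Lrfl
theorem f194745 : Led Lsl_dt (LP (LK LD1_c8 LD2_c6 LD3_c57)) = (LP (LK LD1_c15 LD2_c16 LD3_c54)) :=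
  Lre_d IH (LK LD1_c8 LD2_c6 LD3_c57) (LK LD1_c15 LD2_c16 LD3_c54) Lrfl Lrfl
theorem f200998 : Led Lsl_gt (LP (LK LD1_c15 LD2_c18 LD3_c7)) = (LP (LK LD1_c15 LD2_c16 LD3_c54)) :=
  Lgr Lrot139 (Lpe (f200997 IH) (Lpe (f199052 IH) (Lpe (K17.f200883 IH) (Lpr_dt (K15.f200881 IH) (Lpe (K11.f200804 IH) (Lpe (K11.f52659 IH) (Lpr_et (K18.f27674 IH) (Lpe (K10.f192199 IH) (Lpe (f195969 IH) (Lpr_dt (f194745 IH) (Lpn (LP (LK LD1_c15 LD2_c16 LD3_c54)))))))))))))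
theorem f201018 : Led Lsl_ct (LP (LK LD1_c4 LD2_c3 LD3_c29)) = (LP (LK LD1_c1 LD2_c58 LD3_c43)) :=
  Lre_c IH (LK LD1_c4 LD2_c3 LD3_c29) (LK LD1_c1 LD2_c58 LD3_c43) Lrfl Lrfl
theorem f31195 : Led Lsl_gt (LP (LK LD1_c1 LD2_c58 LD3_c43)) = (LP (LK LD1_c4 LD2_c3 LD3_c30)) :=
  Lre_g IH (LK LD1_c1 LD2_c58 LD3_c43) (LK LD1_c4 LD2_c3 LD3_c30) Lrfl Lrfl
theorem f201019 : Led Lsl_dt (LP (LK LD1_c4 LD2_c3 LD3_c30)) = (LP (LK LD1_c8 LD2_c7 LD3_c37)) :=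
  Lre_d IH (LK LD1_c4 LD2_c3 LD3_c30) (LK LD1_c8 LD2_c7 LD3_c37) Lrfl Lrfl
theorem f194750 : Led Lsl_dt (LP (LK LD1_c15 LD2_c16 LD3_c54)) = (LP (LK LD1_c8 LD2_c6 LD3_c57)) :=
  Lre_d IH (LK LD1_c15 LD2_c16 LD3_c54) (LK LD1_c8 LD2_c6 LD3_c57) Lrfl Lrfl
theorem f194699 : Led Lsl_ct (LP (LK LD1_c4 LD2_c3 LD3_c12)) = (LP (LK LD1_c8 LD2_c6 LD3_c57)) :=
  Lre_c IH (LK LD1_c4 LD2_c3 LD3_c12) (LK LD1_c8 LD2_c6 LD3_c57) Lrfl Lrfl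
theorem f201020 : Led Lsl_gt (LP (LK LD1_c8 LD2_c7 LD3_c37)) = (LP (LK LD1_c5 LD2_c22 LD3_c29)) :=
  Lgr Lrot49 (Lpe (f201019 IH) (Lpe (f31195 IH) (Lpe (f201018 IH) (Lpr_gt (f199052 IH) (Lpr_dt (f200997 IH) (Lpr_gt (f200998 IH) (Lpr_dt (f194750 IH) (Lpe (f194699 IH) (Lpr_df (K10.f194742 IH) (Lpn (LP (LK LD1_c5 LD2_c22 LD3_c29))))))))))))
theorem f194706 : Led Lsl_bt (LP (LK LD1_c5 LD2_c22 LD3_c29)) = (LP (LK LD1_c2 LD2_c37 LD3_c52)) :=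
  Lre_b IH (LK LD1_c5 LD2_c22 LD3_c29) (LK LD1_c2 LD2_c37 LD3_c52) Lrfl Lrfl
theorem f194707 : Led Lsl_dt (LP (LK LD1_c4 LD2_c3 LD3_c12)) = (LP (LK LD1_c5 LD2_c22 LD3_c29)) :=
  Lgr Lrot79 (Lpr_bf (K10.f194694 IH) (Lpe (K19.f194705 IH) (Lpe (f194706 IH) (Lpn (LP (LK LD1_c5 LD2_c22 LD3_c29))))))
theorem f194590 : Led Lsl_et (LP (LK LD1_c1 LD2_c58 LD3_c29)) = (LP (LK LD1_c4 LD2_c2 LD3_c60)) :=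
  Lre_e IH (LK LD1_c1 LD2_c58 LD3_c29) (LK LD1_c4 LD2_c2 LD3_c60) Lrfl Lrfl
theorem f201029 : Led Lsl_et (LP (LK LD1_c4 LD2_c3 LD3_c30)) = (LP (LK LD1_c8 LD2_c6 LD3_c37)) :=
  Lgr Lrot122 (Lpr_dt (f201019 IH) (Lpr_gt (f201020 IH) (Lpe (f194707 IH) (Lpr_et (K10.f28081 IH) (Lpr_gt (K14.f51042 IH) (Lpr_dt (K15.f51041 IH) (Lpr_gt (K10.f50807 IH) (Lpe (K15.f51250 IH) (Lpr_et (f194590 IH) (Lpr_gt (f194484 IH) (Lpn (LP (LK LD1_c8 LD2_c6 LD3_c37)))))))))))))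
theorem f31196 : Led Lsl_dt (LP (LK LD1_c8 LD2_c7 LD3_c37)) = (LP (LK LD1_c4 LD2_c3 LD3_c30)) :=
  Lre_d IH (LK LD1_c8 LD2_c7 LD3_c37) (LK LD1_c4 LD2_c3 LD3_c30) Lrfl Lrfl
theorem f201027 : Led Lsl_et (LP (LK LD1_c15 LD2_c18 LD3_c16)) = (LP (LK LD1_c8 LD2_c7 LD3_c37)) :=
  Lre_e IH (LK LD1_c15 LD2_c18 LD3_c16) (LK LD1_c8 LD2_c7 LD3_c37) Lrfl Lrfl
theorem f259174 : Led Lsl_et (LP (LK LD1_c5 LD2_c5 LD3_c2)) = (LP (LK LD1_c10 LD2_c1 LD3_c15)) :=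
  Lre_e IH (LK LD1_c5 LD2_c5 LD3_c2) (LK LD1_c10 LD2_c1 LD3_c15) Lrfl Lrfl
theorem f259175 : Led Lsl_df (LP (LK LD1_c15 LD2_c18 LD3_c16)) = (LP (LK LD1_c10 LD2_c1 LD3_c15)) :=
  Lgr Lrot70 (Lpr_et (f201027 IH) (Lpr_dt (f31196 IH) (Lpr_et (f201029 IH) (Lpr_dt (f259169 IH) (Lpr_et (f259174 IH) (Lpn (LP (LK LD1_c10 LD2_c1 LD3_c15))))))))
theorem f321042 : Led Lsl_et (LP (LK LD1_c5 LD2_c25 LD3_c46)) = (LP (LK LD1_c10 LD2_c42 LD3_c51)) :=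
  Lre_e IH (LK LD1_c5 LD2_c25 LD3_c46) (LK LD1_c10 LD2_c42 LD3_c51) Lrfl Lrfl
theorem f326804 : Led Lsl_gf (LP (LK LD1_c15 LD2_c18 LD3_c16)) = (LP (LK LD1_c10 LD2_c42 LD3_c50)) :=
  Lgr Lrot145 (Lpr_df (f259175 IH) (Lpr_et (f31642 IH) (Lpr_gt (f31641 IH) (Lpe (K11.f211297 IH) (Lpr_gt (K20.f211311 IH) (Lpe (K20.f211323 IH) (Lpr_et (K20.f211324 IH) (Lpr_gt (f326802 IH) (Lpe (f321042 IH) (Lpr_dt (K20.f321030 IH) (Lpn (LP (LK LD1_c10 LD2_c42 LD3_c50)))))))))))))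
theorem f31197 : Led Lsl_et (LP (LK LD1_c8 LD2_c7 LD3_c37)) = (LP (LK LD1_c15 LD2_c18 LD3_c16)) :=
  Lre_e IH (LK LD1_c8 LD2_c7 LD3_c37) (LK LD1_c15 LD2_c18 LD3_c16) Lrfl Lrfl
theorem f42363 : Led Lsl_bt (LP (LK LD1_c10 LD2_c42 LD3_c50)) = (LP (LK LD1_c5 LD2_c25 LD3_c48)) :=
  Lre_b IH (LK LD1_c10 LD2_c42 LD3_c50) (LK LD1_c5 LD2_c25 LD3_c48) Lrfl Lrfl
theorem f276761 : Led Lsl_bt (LP (LK LD1_c5 LD2_c22 LD3_c48)) = (LP (LK LD1_c10 LD2_c35 LD3_c55)) :=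
  Lre_b IH (LK LD1_c5 LD2_c22 LD3_c48) (LK LD1_c10 LD2_c35 LD3_c55) Lrfl Lrfl
theorem f276777 : Led Lsl_ef (LP (LK LD1_c10 LD2_c42 LD3_c50)) = (LP (LK LD1_c10 LD2_c35 LD3_c55)) :=
  Lgr Lrot29 (Lpr_bt (f42363 IH) (Lpr_et (K16.f276775 IH) (Lpr_bt (f276761 IH) (Lpn (LP (LK LD1_c10 LD2_c35 LD3_c55))))))
theorem f243085 : Led Lsl_dt (LP (LK LD1_c15 LD2_c34 LD3_c53)) = (LP (LK LD1_c8 LD2_c40 LD3_c51)) :=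
  Lgr Lrot42 (Lpr_df (f243081 IH) (Lpn (LP (LK LD1_c8 LD2_c40 LD3_c51))))
theorem f184795 : Led Lsl_et (LP (LK LD1_c4 LD2_c21 LD3_c24)) = (LP (LK LD1_c2 LD2_c8 LD3_c12)) :=
  Lre_e IH (LK LD1_c4 LD2_c21 LD3_c24) (LK LD1_c2 LD2_c8 LD3_c12) Lrfl Lrfl
theorem f184774 : Led Lsl_et (LP (LK LD1_c1 LD2_c11 LD3_c21)) = (LP (LK LD1_c2 LD2_c28 LD3_c16)) :=
  Lre_e IH (LK LD1_c1 LD2_c11 LD3_c21) (LK LD1_c2 LD2_c28 LD3_c16) Lrfl Lrfl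
theorem f184775 : Led Lsl_et (LP (LK LD1_c5 LD2_c1 LD3_c2)) = (LP (LK LD1_c2 LD2_c28 LD3_c15)) :=
  Lre_e IH (LK LD1_c5 LD2_c1 LD3_c2) (LK LD1_c2 LD2_c28 LD3_c15) Lrfl Lrfl
theorem f184777 : Led Lsl_df (LP (LK LD1_c5 LD2_c1 LD3_c2)) = (LP (LK LD1_c4 LD2_c21 LD3_c24)) :=
  Lgr Lrot70 (Lpr_et (f184775 IH) (Lpr_dt (K15.f3779 IH) (Lpr_et (f184774 IH) (Lpr_dt (K13.f184767 IH) (Lpr_et (f184776 IH) (Lpn (LP (LK LD1_c4 LD2_c21 LD3_c24))))))))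
theorem f243077 : Led Lsl_dt (LP (LK LD1_c4 LD2_c21 LD3_c36)) = (LP (LK LD1_c8 LD2_c40 LD3_c50)) :=
  Lre_d IH (LK LD1_c4 LD2_c21 LD3_c36) (LK LD1_c8 LD2_c40 LD3_c50) Lrfl Lrfl
theorem f308704 : Led Lsl_gf (LP (LK LD1_c8 LD2_c42 LD3_c28)) = (LP (LK LD1_c8 LD2_c40 LD3_c51)) :=
  Lgr Lrot138 (Lpr_dt (f43071 IH) (Lpr_gt (f308700 IH) (Lpr_df (K13.f42910 IH) (Lpr_et (K11.f43062 IH) (Lpe (K14.f233406 IH) (Lpe (f184795 IH) (Lpe (f184777 IH) (Lpr_gt (f243071 IH) (Lpe (f243077 IH) (Lpr_et (f243078 IH) (Lpn (LP (LK LD1_c8 LD2_c40 LD3_c51)))))))))))))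
theorem f321033 : Led Lsl_et (LP (LK LD1_c7 LD2_c55 LD3_c46)) = (LP (LK LD1_c14 LD2_c57 LD3_c29)) :=
  Lre_e IH (LK LD1_c7 LD2_c55 LD3_c46) (LK LD1_c14 LD2_c57 LD3_c29) Lrfl Lrfl
theorem f326794 : Led Lsl_gt (LP (LK LD1_c8 LD2_c42 LD3_c29)) = (LP (LK LD1_c14 LD2_c57 LD3_c29)) :=
  Lgr Lrot131 (Lpe (f305483 IH) (Lpr_dt (f43067 IH) (Lpr_gf (f308704 IH) (Lpe (f243085 IH) (Lpr_gf (f243088 IH) (Lpr_ef (K19.f279520 IH) (Lpr_dt (K14.f255586 IH) (Lpr_gf (f326788 IH) (Lpe (K20.f321023 IH) (Lpr_et (f321033 IH) (Lpn (LP (LK LD1_c14 LD2_c57 LD3_c29)))))))))))))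
theorem f305480 : Led Lsl_dt (LP (LK LD1_c8 LD2_c39 LD3_c13)) = (LP (LK LD1_c8 LD2_c42 LD3_c29)) :=
  Lgr Lrot42 (Lpr_df (f305477 IH) (Lpn (LP (LK LD1_c8 LD2_c42 LD3_c29))))
theorem f305568 : Led Lsl_et (LP (LK LD1_c8 LD2_c39 LD3_c17)) = (LP (LK LD1_c8 LD2_c39 LD3_c35)) :=
  Lgr Lrot87 (Lpr_ef (K19.f305562 IH) (Lpn (LP (LK LD1_c8 LD2_c39 LD3_c35))))
theorem f326809 : Led Lsl_gt (LP (LK LD1_c4 LD2_c3 LD3_c30)) = (LP (LK LD1_c4 LD2_c52 LD3_c50)) :=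
  Lgr Lrot112 (Lpe (f31196 IH) (Lpr_et (f31197 IH) (Lpr_gf (f326804 IH) (Lpr_ef (f276777 IH) (Lpe (K20.f321031 IH) (Lpe (f326794 IH) (Lpe (f305480 IH) (Lpr_gf (f308698 IH) (Lpe (f305568 IH) (Lpr_dt (K10.f187962 IH) (Lpn (LP (LK LD1_c4 LD2_c52 LD3_c50)))))))))))))
theorem f201032 : Led Lsl_ef (LP (LK LD1_c4 LD2_c3 LD3_c30)) = (LP (LK LD1_c8 LD2_c6 LD3_c37)) :=
  Lgr Lrot88 (Lpr_et (f201029 IH) (Lpn (LP (LK LD1_c8 LD2_c6 LD3_c37))))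
theorem f326812 : Led Lsl_gf (LP (LK LD1_c5 LD2_c5 LD3_c2)) = (LP (LK LD1_c8 LD2_c38 LD3_c6)) :=
  Lgr Lrot145 (Lpe (f259169 IH) (Lpe (f201032 IH) (Lpr_gt (f326809 IH) (Lpe (K10.f187941 IH) (Lpr_gt (K19.f256624 IH) (Lpr_df (K19.f305572 IH) (Lpe (K19.f305576 IH) (Lpr_gt (K19.f269300 IH) (Lpr_ef (K17.f292178 IH) (Lpr_dt (K17.f223571 IH) (Lpn (LP (LK LD1_c8 LD2_c38 LD3_c6)))))))))))))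
theorem f320917 : Led Lsl_gf (LP (LK LD1_c8 LD2_c3 LD3_c2)) = (LP (LK LD1_c4 LD2_c4 LD3_c4)) :=
  Lgr Lrot145 (Lpr_df (K17.f223573 IH) (Lpr_et (K17.f293216 IH) (Lpr_gt (K20.f314311 IH) (Lpe (K20.f242317 IH) (Lpr_gt (K20.f190470 IH) (Lpe (K20.f242322 IH) (Lpr_et (K20.f320911 IH) (Lpr_gt (K20.f275896 IH) (Lpe (K20.f211324 IH) (Lpr_dt (K20.f211323 IH) (Lpn (LP (LK LD1_c4 LD2_c4 LD3_c4)))))))))))))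
theorem f326814 : Led Lsl_gf (LP (LK LD1_c8 LD2_c36 LD3_c57)) = (LP (LK LD1_c8 LD2_c8 LD3_c7)) :=
  Lgr Lrot145 (Lpr_df (K20.f243965 IH) (Lpr_et (K20.f243964 IH) (Lpe (f320917 IH) (Lpr_dt (K17.f223571 IH) (Lpe (f326812 IH) (Lpe (f259169 IH) (Lpe (f201032 IH) (Lpr_gt (f326809 IH) (Lpr_ef (K15.f256748 IH) (Lpr_dt (K19.f256747 IH) (Lpn (LP (LK LD1_c8 LD2_c8 LD3_c7)))))))))))))
theorem f228315 : Led Lsl_gt (LP (LK LD1_c11 LD2_c9 LD3_c39)) = (LP (LK LD1_c5 LD2_c39 LD3_c19)) :=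
  Lre_g IH (LK LD1_c11 LD2_c9 LD3_c39) (LK LD1_c5 LD2_c39 LD3_c19) Lrfl Lrfl
theorem f326816 : Led Lsl_ct (LP (LK LD1_c8 LD2_c36 LD3_c57)) = (LP (LK LD1_c11 LD2_c9 LD3_c39)) :=
  Lgr Lrot152 (Lpr_gf (f326814 IH) (Lpe (K19.f256747 IH) (Lpe (K19.f305636 IH) (Lpe (K19.f228305 IH) (Lpr_gt (K19.f228279 IH) (Lpr_ct (K19.f228314 IH) (Lpe (K13.f196971 IH) (Lpe (f216450 IH) (Lpe (f228315 IH) (Lpn (LP (LK LD1_c11 LD2_c9 LD3_c39))))))))))))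
theorem f216619 : Led Lsl_bt (LP (LK LD1_c2 LD2_c45 LD3_c35)) = (LP (LK LD1_c1 LD2_c19 LD3_c17)) :=
  Lre_b IH (LK LD1_c2 LD2_c45 LD3_c35) (LK LD1_c1 LD2_c19 LD3_c17) Lrfl Lrfl
theorem f170081 : Led Lsl_gt (LP (LK LD1_c1 LD2_c19 LD3_c17)) = (LP (LK LD1_c2 LD2_c45 LD3_c51)) :=
  Lre_g IH (LK LD1_c1 LD2_c19 LD3_c17) (LK LD1_c2 LD2_c45 LD3_c51) Lrfl Lrfl
theorem f170094 : Led Lsl_bt (LP (LK LD1_c5 LD2_c39 LD3_c48)) = (LP (LK LD1_c2 LD2_c45 LD3_c51)) :=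
  Lre_b IH (LK LD1_c5 LD2_c39 LD3_c48) (LK LD1_c2 LD2_c45 LD3_c51) Lrfl Lrfl
theorem f170101 : Led Lsl_ct (LP (LK LD1_c5 LD2_c39 LD3_c48)) = (LP (LK LD1_c11 LD2_c10 LD3_c43)) :=
  Lre_c IH (LK LD1_c5 LD2_c39 LD3_c48) (LK LD1_c11 LD2_c10 LD3_c43) Lrfl Lrfl
theorem f237156 : Led Lsl_bt (LP (LK LD1_c15 LD2_c18 LD3_c42)) = (LP (LK LD1_c8 LD2_c8 LD3_c7)) :=
  Lre_b IH (LK LD1_c15 LD2_c18 LD3_c42) (LK LD1_c8 LD2_c8 LD3_c7) Lrfl Lrfl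
theorem f237140 : Led Lsl_ft (LP (LK LD1_c15 LD2_c48 LD3_c21)) = (LP (LK LD1_c8 LD2_c24 LD3_c25)) :=
  Lre_f IH (LK LD1_c15 LD2_c48 LD3_c21) (LK LD1_c8 LD2_c24 LD3_c25) Lrfl Lrfl
theorem f237141 : Led Lsl_ft (LP (LK LD1_c8 LD2_c7 LD3_c54)) = (LP (LK LD1_c15 LD2_c18 LD3_c42)) :=
  Lre_f IH (LK LD1_c8 LD2_c7 LD3_c54) (LK LD1_c15 LD2_c18 LD3_c42) Lrfl Lrfl
theorem f237142 : Led Lsl_cf (LP (LK LD1_c15 LD2_c48 LD3_c21)) = (LP (LK LD1_c15 LD2_c18 LD3_c42)) :=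
  Lgr Lrot108 (Lpr_ft (f237140 IH) (Lpr_ct (K20.f237124 IH) (Lpr_ft (f237141 IH) (Lpn (LP (LK LD1_c15 LD2_c18 LD3_c42))))))
theorem f326820 : Led Lsl_gt (LP (LK LD1_c11 LD2_c10 LD3_c43)) = (LP (LK LD1_c15 LD2_c48 LD3_c21)) :=
  Lgr Lrot65 (Lpe (f170101 IH) (Lpr_bt (f170094 IH) (Lpe (f170081 IH) (Lpe (f216619 IH) (Lpr_ct (K19.f216447 IH) (Lpe (f228315 IH) (Lpe (f326816 IH) (Lpr_gf (f326814 IH) (Lpe (f237156 IH) (Lpe (f237142 IH) (Lpn (LP (LK LD1_c15 LD2_c48 LD3_c21)))))))))))))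
theorem f237150 : Led Lsl_ct (LP (LK LD1_c15 LD2_c48 LD3_c21)) = (LP (LK LD1_c15 LD2_c18 LD3_c42)) :=
  Lgr Lrot59 (Lpr_cf (f237142 IH) (Lpn (LP (LK LD1_c15 LD2_c18 LD3_c42))))
theorem f305644 : Led Lsl_ct (LP (LK LD1_c11 LD2_c10 LD3_c30)) = (LP (LK LD1_c8 LD2_c7 LD3_c55)) :=
  Lgr Lrot59 (Lpr_cf (K19.f305638 IH) (Lpn (LP (LK LD1_c8 LD2_c7 LD3_c55))))
theorem f326826 : Led Lsl_gf (LP (LK LD1_c5 LD2_c39 LD3_c48)) = (LP (LK LD1_c4 LD2_c19 LD3_c32)) :=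
  Lgr Lrot147 (Lpr_ct (f170101 IH) (Lpr_gt (f326820 IH) (Lpr_ct (f237150 IH) (Lpe (K17.f237152 IH) (Lpe (f305644 IH) (Lpe (K19.f228319 IH) (Lpe (K19.f228318 IH) (Lpr_gf (K19.f306693 IH) (Lpr_df (K19.f301162 IH) (Lpn (LP (LK LD1_c4 LD2_c19 LD3_c32))))))))))))
theorem f170080 : Led Lsl_et (LP (LK LD1_c0 LD2_c36 LD3_c36)) = (LP (LK LD1_c1 LD2_c19 LD3_c17)) :=
  Lre_e IH (LK LD1_c0 LD2_c36 LD3_c36) (LK LD1_c1 LD2_c19 LD3_c17) Lrfl Lrfl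
theorem f2457 : Led Lsl_ft (LP (LK LD1_c1 LD2_c9 LD3_c4)) = (LP (LK LD1_c1 LD2_c9 LD3_c27)) :=
  Lgr Lrot75 (Lpe (K0.f1530 IH) (Lpr_ff (K1.f2447 IH) (Lpe (K0.f2391 IH) (Lpn (LP (LK LD1_c1 LD2_c9 LD3_c27))))))
theorem f1536 : Led Lsl_gt (LP (LK LD1_c1 LD2_c9 LD3_c4)) = (LP (LK LD1_c2 LD2_c24 LD3_c6)) :=
  Lre_g IH (LK LD1_c1 LD2_c9 LD3_c4) (LK LD1_c2 LD2_c24 LD3_c6) Lrfl Lrfl
theorem f2784 : Led Lsl_gt (LP (LK LD1_c2 LD2_c24 LD3_c6)) = (LP (LK LD1_c1 LD2_c9 LD3_c4)) :=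
  Lgr Lrot46 (Lpe (f1536 IH) (Lpr_ft (f2457 IH) (Lpe (K0.f2389 IH) (Lpn (LP (LK LD1_c1 LD2_c9 LD3_c4))))))
theorem f1540 : Led Lsl_dt (LP (LK LD1_c4 LD2_c52 LD3_c44)) = (LP (LK LD1_c2 LD2_c24 LD3_c6)) :=
  Lre_d IH (LK LD1_c4 LD2_c52 LD3_c44) (LK LD1_c2 LD2_c24 LD3_c6) Lrfl Lrfl
theorem f170085 : Led Lsl_ef (LP (LK LD1_c2 LD2_c45 LD3_c51)) = (LP (LK LD1_c4 LD2_c52 LD3_c44)) :=
  Lgr Lrot17 (Lpe (f170081 IH) (Lpe (f170080 IH) (Lpr_dt (K9.f170079 IH) (Lpr_gf (K9.f170071 IH) (Lpr_df (K9.f166466 IH) (Lpe (K9.f2214 IH) (Lpe (K0.f1523 IH) (Lpr_dt (K0.f1524 IH) (Lpe (f2784 IH) (Lpe (f1540 IH) (Lpn (LP (LK LD1_c4 LD2_c52 LD3_c44)))))))))))))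
theorem f170092 : Led Lsl_et (LP (LK LD1_c2 LD2_c45 LD3_c51)) = (LP (LK LD1_c4 LD2_c52 LD3_c44)) :=
  Lgr Lrot87 (Lpr_ef (f170085 IH) (Lpn (LP (LK LD1_c4 LD2_c52 LD3_c44))))
theorem f170095 : Led Lsl_bt (LP (LK LD1_c4 LD2_c52 LD3_c44)) = (LP (LK LD1_c9 LD2_c37 LD3_c30)) :=
  Lre_b IH (LK LD1_c4 LD2_c52 LD3_c44) (LK LD1_c9 LD2_c37 LD3_c30) Lrfl Lrfl
theorem f170096 : Led Lsl_ef (LP (LK LD1_c5 LD2_c39 LD3_c48)) = (LP (LK LD1_c9 LD2_c37 LD3_c30)) :=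
  Lgr Lrot29 (Lpr_bt (f170094 IH) (Lpr_et (f170092 IH) (Lpr_bt (f170095 IH) (Lpn (LP (LK LD1_c9 LD2_c37 LD3_c30))))))
theorem f170105 : Led Lsl_dt (LP (LK LD1_c9 LD2_c37 LD3_c30)) = (LP (LK LD1_c4 LD2_c52 LD3_c43)) :=
  Lre_d IH (LK LD1_c9 LD2_c37 LD3_c30) (LK LD1_c4 LD2_c52 LD3_c43) Lrfl Lrfl
theorem f267194 : Led Lsl_et (LP (LK LD1_c2 LD2_c7 LD3_c10)) = (LP (LK LD1_c4 LD2_c19 LD3_c32)) :=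
  Lre_e IH (LK LD1_c2 LD2_c7 LD3_c10) (LK LD1_c4 LD2_c19 LD3_c32) Lrfl Lrfl
theorem f326836 : Led Lsl_gt (LP (LK LD1_c4 LD2_c52 LD3_c43)) = (LP (LK LD1_c4 LD2_c12 LD3_c13)) :=
  Lgr Lrot112 (Lpe (f170105 IH) (Lpe (f170096 IH) (Lpr_gf (f326826 IH) (Lpe (f267194 IH) (Lpe (K15.f267181 IH) (Lpr_gf (K16.f278636 IH) (Lpe (K16.f270915 IH) (Lpe (K17.f276616 IH) (Lpe (K12.f219355 IH) (Lpe (K12.f219357 IH) (Lpn (LP (LK LD1_c4 LD2_c12 LD3_c13)))))))))))))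
theorem f279277 : Led Lsl_af (LP (LK LD1_c4 LD2_c12 LD3_c13)) = (LP (LK LD1_c4 LD2_c19 LD3_c23)) :=
  Lgr Lrot0 (Lpr_at (K16.f279274 IH) (Lpn (LP (LK LD1_c4 LD2_c19 LD3_c23))))
theorem f222088 : Led Lsl_et (LP (LK LD1_c2 LD2_c3 LD3_c45)) = (LP (LK LD1_c4 LD2_c12 LD3_c57)) :=
  Lre_e IH (LK LD1_c2 LD2_c3 LD3_c45) (LK LD1_c4 LD2_c12 LD3_c57) Lrfl Lrfl
theorem f222194 : Led Lsl_dt (LP (LK LD1_c4 LD2_c12 LD3_c57)) = (LP (LK LD1_c4 LD2_c12 LD3_c57)) :=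
  Lgr Lrot77 (Lpe (f222088 IH) (Lpe (K12.f167247 IH) (Lpr_ef (K12.f222153 IH) (Lpe (K12.f167249 IH) (Lpe (K16.f167254 IH) (Lpn (LP (LK LD1_c4 LD2_c12 LD3_c57))))))))
theorem f279287 : Led Lsl_ft (LP (LK LD1_c4 LD2_c12 LD3_c57)) = (LP (LK LD1_c4 LD2_c19 LD3_c23)) :=
  Lgr Lrot54 (Lpe (f222194 IH) (Lpr_ff (K16.f279283 IH) (Lpe (K16.f279268 IH) (Lpn (LP (LK LD1_c4 LD2_c19 LD3_c23))))))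
theorem f326838 : Led Lsl_gf (LP (LK LD1_c4 LD2_c52 LD3_c43)) = (LP (LK LD1_c4 LD2_c12 LD3_c57)) :=
  Lgr Lrot47 (Lpr_gt (f326836 IH) (Lpr_af (f279277 IH) (Lpe (f279287 IH) (Lpn (LP (LK LD1_c4 LD2_c12 LD3_c57))))))
theorem f166931 : Led Lsl_df (LP (LK LD1_c9 LD2_c58 LD3_c17)) = (LP (LK LD1_c8 LD2_c24 LD3_c8)) :=
  Lgr Lrot78 (Lpr_ft (K14.f166929 IH) (Lpr_dt (K19.f166917 IH) (Lpr_ft (K19.f166930 IH) (Lpn (LP (LK LD1_c8 LD2_c24 LD3_c8))))))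
theorem f166953 : Led Lsl_gt (LP (LK LD1_c5 LD2_c3 LD3_c48)) = (LP (LK LD1_c9 LD2_c58 LD3_c17)) :=
  Lre_g IH (LK LD1_c5 LD2_c3 LD3_c48) (LK LD1_c9 LD2_c58 LD3_c17) Lrfl Lrfl
theorem f166625 : Led Lsl_et (LP (LK LD1_c1 LD2_c9 LD3_c24)) = (LP (LK LD1_c2 LD2_c24 LD3_c35)) :=
  Lre_e IH (LK LD1_c1 LD2_c9 LD3_c24) (LK LD1_c2 LD2_c24 LD3_c35) Lrfl Lrfl
theorem f166636 : Led Lsl_gt (LP (LK LD1_c2 LD2_c24 LD3_c35)) = (LP (LK LD1_c4 LD2_c53 LD3_c33)) :=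
  Lre_g IH (LK LD1_c2 LD2_c24 LD3_c35) (LK LD1_c4 LD2_c53 LD3_c33) Lrfl Lrfl
theorem f305884 : Led Lsl_df (LP (LK LD1_c5 LD2_c3 LD3_c48)) = (LP (LK LD1_c4 LD2_c53 LD3_c33)) :=
  Lgr Lrot135 (Lpr_gt (f166953 IH) (Lpr_df (f166931 IH) (Lpr_et (K19.f305878 IH) (Lpr_gt (K19.f250791 IH) (Lpe (K16.f250772 IH) (Lpe (K14.f251687 IH) (Lpr_gt (K14.f166626 IH) (Lpe (K15.f166618 IH) (Lpr_et (f166625 IH) (Lpr_gt (f166636 IH) (Lpn (LP (LK LD1_c4 LD2_c53 LD3_c33)))))))))))))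
theorem f166868 : Led Lsl_gt (LP (LK LD1_c2 LD2_c29 LD3_c22)) = (LP (LK LD1_c5 LD2_c3 LD3_c48)) :=
  Lre_g IH (LK LD1_c2 LD2_c29 LD3_c22) (LK LD1_c5 LD2_c3 LD3_c48) Lrfl Lrfl
theorem f166985 : Led Lsl_et (LP (LK LD1_c4 LD2_c12 LD3_c23)) = (LP (LK LD1_c2 LD2_c3 LD3_c24)) :=
  Lre_e IH (LK LD1_c4 LD2_c12 LD3_c23) (LK LD1_c2 LD2_c3 LD3_c24) Lrfl Lrfl
theorem f271072 : Led Lsl_df (LP (LK LD1_c8 LD2_c10 LD3_c56)) = (LP (LK LD1_c4 LD2_c12 LD3_c23)) :=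
  Lgr Lrot38 (Lpr_dt (K16.f271067 IH) (Lpn (LP (LK LD1_c4 LD2_c12 LD3_c23))))
theorem f261156 : Led Lsl_et (LP (LK LD1_c4 LD2_c53 LD3_c33)) = (LP (LK LD1_c9 LD2_c39 LD3_c1)) :=
  Lre_e IH (LK LD1_c4 LD2_c53 LD3_c33) (LK LD1_c9 LD2_c39 LD3_c1) Lrfl Lrfl
theorem f166983 : Led Lsl_et (LP (LK LD1_c8 LD2_c24 LD3_c44)) = (LP (LK LD1_c4 LD2_c12 LD3_c30)) :=
  Lre_e IH (LK LD1_c8 LD2_c24 LD3_c44) (LK LD1_c4 LD2_c12 LD3_c30) Lrfl Lrfl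
theorem f189467 : Led Lsl_et (LP (LK LD1_c4 LD2_c12 LD3_c30)) = (LP (LK LD1_c8 LD2_c24 LD3_c44)) :=
  Lre_e IH (LK LD1_c4 LD2_c12 LD3_c30) (LK LD1_c8 LD2_c24 LD3_c44) Lrfl Lrfl
theorem f171507 : Led Lsl_et (LP (LK LD1_c8 LD2_c36 LD3_c32)) = (LP (LK LD1_c4 LD2_c18 LD3_c53)) :=
  Lre_e IH (LK LD1_c8 LD2_c36 LD3_c32) (LK LD1_c4 LD2_c18 LD3_c53) Lrfl Lrfl
theorem f305771 : Led Lsl_dt (LP (LK LD1_c8 LD2_c24 LD3_c44)) = (LP (LK LD1_c8 LD2_c36 LD3_c32)) :=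
  Lgr Lrot77 (Lpe (f189467 IH) (Lpe (K14.f166878 IH) (Lpr_ef (K19.f305767 IH) (Lpe (K19.f248590 IH) (Lpe (f171507 IH) (Lpn (LP (LK LD1_c8 LD2_c36 LD3_c32))))))))
theorem f219367 : Led Lsl_gt (LP (LK LD1_c4 LD2_c12 LD3_c13)) = (LP (LK LD1_c8 LD2_c24 LD3_c2)) :=
  Lre_g IH (LK LD1_c4 LD2_c12 LD3_c13) (LK LD1_c8 LD2_c24 LD3_c2) Lrfl Lrfl
theorem f219368 : Led Lsl_dt (LP (LK LD1_c8 LD2_c24 LD3_c2)) = (LP (LK LD1_c15 LD2_c47 LD3_c46)) :=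
  Lre_d IH (LK LD1_c8 LD2_c24 LD3_c2) (LK LD1_c15 LD2_c47 LD3_c46) Lrfl Lrfl
theorem f305813 : Led Lsl_gt (LP (LK LD1_c15 LD2_c47 LD3_c46)) = (LP (LK LD1_c8 LD2_c36 LD3_c32)) :=
  Lgr Lrot139 (Lpe (f219368 IH) (Lpe (f219367 IH) (Lpe (K12.f219356 IH) (Lpr_dt (K12.f219354 IH) (Lpe (K15.f53327 IH) (Lpe (K10.f166515 IH) (Lpr_et (K19.f166974 IH) (Lpe (K14.f166877 IH) (Lpe (f166983 IH) (Lpr_dt (f305771 IH) (Lpn (LP (LK LD1_c8 LD2_c36 LD3_c32)))))))))))))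
theorem f305815 : Led Lsl_et (LP (LK LD1_c8 LD2_c24 LD3_c2)) = (LP (LK LD1_c15 LD2_c47 LD3_c47)) :=
  Lre_e IH (LK LD1_c8 LD2_c24 LD3_c2) (LK LD1_c15 LD2_c47 LD3_c47) Lrfl Lrfl
theorem f305899 : Led Lsl_gf (LP (LK LD1_c15 LD2_c47 LD3_c47)) = (LP (LK LD1_c9 LD2_c39 LD3_c1)) :=
  Lgr Lrot141 (Lpe (f305815 IH) (Lpr_dt (f219368 IH) (Lpr_gt (f305813 IH) (Lpe (f305771 IH) (Lpr_et (f166983 IH) (Lpr_gt (K14.f166877 IH) (Lpe (K14.f166699 IH) (Lpr_gt (f166868 IH) (Lpr_df (f305884 IH) (Lpr_et (f261156 IH) (Lpn (LP (LK LD1_c9 LD2_c39 LD3_c1)))))))))))))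
theorem f305901 : Led Lsl_df (LP (LK LD1_c15 LD2_c24 LD3_c23)) = (LP (LK LD1_c15 LD2_c47 LD3_c47)) :=
  Lgr Lrot135 (Lpr_gt (K16.f271082 IH) (Lpr_df (f271072 IH) (Lpr_et (f166985 IH) (Lpr_gt (K16.f166984 IH) (Lpe (K10.f166852 IH) (Lpe (K14.f166699 IH) (Lpr_gt (f166868 IH) (Lpr_df (f305884 IH) (Lpr_et (f261156 IH) (Lpe (f305899 IH) (Lpn (LP (LK LD1_c15 LD2_c47 LD3_c47)))))))))))))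
theorem f271102 : Led Lsl_ef (LP (LK LD1_c16 LD2_c7 LD3_c31)) = (LP (LK LD1_c15 LD2_c24 LD3_c23)) :=
  Lgr Lrot88 (Lpr_et (K16.f271100 IH) (Lpn (LP (LK LD1_c15 LD2_c24 LD3_c23))))
theorem f219372 : Led Lsl_dt (LP (LK LD1_c15 LD2_c47 LD3_c46)) = (LP (LK LD1_c8 LD2_c24 LD3_c2)) :=
  Lre_d IH (LK LD1_c15 LD2_c47 LD3_c46) (LK LD1_c8 LD2_c24 LD3_c2) Lrfl Lrfl
theorem f305905 : Led Lsl_et (LP (LK LD1_c8 LD2_c36 LD3_c7)) = (LP (LK LD1_c15 LD2_c47 LD3_c46)) :=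
  Lgr Lrot71 (Lpe (K16.f254921 IH) (Lpr_ef (f271102 IH) (Lpr_df (f305901 IH) (Lpe (f305815 IH) (Lpe (f219372 IH) (Lpn (LP (LK LD1_c15 LD2_c47 LD3_c46))))))))
theorem f305908 : Led Lsl_ef (LP (LK LD1_c8 LD2_c36 LD3_c7)) = (LP (LK LD1_c15 LD2_c47 LD3_c46)) :=
  Lgr Lrot88 (Lpr_et (f305905 IH) (Lpn (LP (LK LD1_c15 LD2_c47 LD3_c46))))
theorem f254917 : Led Lsl_et (LP (LK LD1_c2 LD2_c6 LD3_c39)) = (LP (LK LD1_c4 LD2_c18 LD3_c44)) :=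
  Lre_e IH (LK LD1_c2 LD2_c6 LD3_c39) (LK LD1_c4 LD2_c18 LD3_c44) Lrfl Lrfl
theorem f305910 : Led Lsl_gf (LP (LK LD1_c4 LD2_c12 LD3_c57)) = (LP (LK LD1_c8 LD2_c24 LD3_c2)) :=
  Lgr Lrot145 (Lpe (f222194 IH) (Lpr_et (K16.f167254 IH) (Lpr_gt (K12.f167244 IH) (Lpr_dt (K15.f166618 IH) (Lpr_gt (K15.f51584 IH) (Lpe (K17.f257972 IH) (Lpr_et (f254917 IH) (Lpr_gt (K16.f179647 IH) (Lpr_ef (f305908 IH) (Lpr_dt (f219372 IH) (Lpn (LP (LK LD1_c8 LD2_c24 LD3_c2)))))))))))))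
theorem f305907 : Led Lsl_et (LP (LK LD1_c15 LD2_c47 LD3_c47)) = (LP (LK LD1_c8 LD2_c24 LD3_c2)) :=
  Lre_e IH (LK LD1_c15 LD2_c47 LD3_c47) (LK LD1_c8 LD2_c24 LD3_c2) Lrfl Lrfl
theorem f246749 : Led Lsl_ft (LP (LK LD1_c8 LD2_c24 LD3_c15)) = (LP (LK LD1_c4 LD2_c12 LD3_c20)) :=
  Lre_f IH (LK LD1_c8 LD2_c24 LD3_c15) (LK LD1_c4 LD2_c12 LD3_c20) Lrfl Lrfl
theorem f322227 : Led Lsl_ef (LP (LK LD1_c8 LD2_c24 LD3_c15)) = (LP (LK LD1_c4 LD2_c13 LD3_c11)) :=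
  Lgr Lrot21 (Lpr_ft (f246749 IH) (Lpr_et (K18.f166986 IH) (Lpr_ft (K20.f322184 IH) (Lpr_et (K20.f276682 IH) (Lpr_ft (K20.f322221 IH) (Lpn (LP (LK LD1_c4 LD2_c13 LD3_c11))))))))
theorem f326854 : Led Lsl_gt (LP (LK LD1_c5 LD2_c39 LD3_c48)) = (LP (LK LD1_c8 LD2_c24 LD3_c15)) :=
  Lgr Lrot131 (Lpr_ef (f170096 IH) (Lpr_dt (f170105 IH) (Lpr_gf (f326838 IH) (Lpe (f222194 IH) (Lpr_gf (f305910 IH) (Lpe (f305907 IH) (Lpe (f305901 IH) (Lpr_gf (K20.f322240 IH) (Lpr_df (K20.f322242 IH) (Lpe (f322227 IH) (Lpn (LP (LK LD1_c8 LD2_c24 LD3_c15)))))))))))))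
theorem f300721 : Led Lsl_gt (LP (LK LD1_c2 LD2_c23 LD3_c49)) = (LP (LK LD1_c2 LD2_c3 LD3_c45)) :=
  Lgr Lrot49 (Lpr_df (K17.f222106 IH) (Lpr_gf (K18.f300719 IH) (Lpe (K17.f257968 IH) (Lpr_gt (K15.f257962 IH) (Lpe (K15.f257945 IH) (Lpr_gt (K14.f256040 IH) (Lpr_dt (K12.f219375 IH) (Lpe (K12.f222192 IH) (Lpe (K12.f167249 IH) (Lpn (LP (LK LD1_c2 LD2_c3 LD3_c45))))))))))))
theorem f289994 : Led Lsl_af (LP (LK LD1_c4 LD2_c6 LD3_c23)) = (LP (LK LD1_c8 LD2_c13 LD3_c1)) :=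
  Lgr Lrot0 (Lpr_at (K17.f289992 IH) (Lpn (LP (LK LD1_c8 LD2_c13 LD3_c1))))
theorem f301631 : Led Lsl_at (LP (LK LD1_c4 LD2_c31 LD3_c39)) = (LP (LK LD1_c7 LD2_c58 LD3_c8)) :=
  Lgr Lrot80 (Lpr_ef (K18.f301624 IH) (Lpr_af (f289994 IH) (Lpe (K19.f301206 IH) (Lpn (LP (LK LD1_c7 LD2_c58 LD3_c8))))))
theorem f305723 : Led Lsl_gt (LP (LK LD1_c5 LD2_c39 LD3_c39)) = (LP (LK LD1_c7 LD2_c58 LD3_c8)) :=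
  Lgr Lrot46 (Lpe (K19.f305709 IH) (Lpr_ft (K19.f305706 IH) (Lpr_at (f301631 IH) (Lpn (LP (LK LD1_c7 LD2_c58 LD3_c8))))))
theorem f326862 : Led Lsl_df (LP (LK LD1_c5 LD2_c39 LD3_c39)) = (LP (LK LD1_c8 LD2_c24 LD3_c15)) :=
  Lgr Lrot135 (Lpr_gt (f305723 IH) (Lpr_df (K19.f301197 IH) (Lpr_et (K19.f222118 IH) (Lpr_gt (f300721 IH) (Lpe (K16.f167254 IH) (Lpr_dt (f222194 IH) (Lpe (f326838 IH) (Lpe (f170105 IH) (Lpe (f170096 IH) (Lpr_gt (f326854 IH) (Lpn (LP (LK LD1_c8 LD2_c24 LD3_c15)))))))))))))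
theorem f305708 : Led Lsl_gt (LP (LK LD1_c9 LD2_c36 LD3_c36)) = (LP (LK LD1_c4 LD2_c52 LD3_c14)) :=
  Lre_g IH (LK LD1_c9 LD2_c36 LD3_c36) (LK LD1_c4 LD2_c52 LD3_c14) Lrfl Lrfl
theorem f171320 : Led Lsl_bt (LP (LK LD1_c1 LD2_c0 LD3_c22)) = (LP (LK LD1_c2 LD2_c6 LD3_c42)) :=
  Lre_b IH (LK LD1_c1 LD2_c0 LD3_c22) (LK LD1_c2 LD2_c6 LD3_c42) Lrfl Lrfl
theorem f171321 : Led Lsl_bt (LP (LK LD1_c2 LD2_c32 LD3_c28)) = (LP (LK LD1_c1 LD2_c13 LD3_c14)) :=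
  Lre_b IH (LK LD1_c2 LD2_c32 LD3_c28) (LK LD1_c1 LD2_c13 LD3_c14) Lrfl Lrfl
theorem f171322 : Led Lsl_dt (LP (LK LD1_c2 LD2_c6 LD3_c42)) = (LP (LK LD1_c2 LD2_c32 LD3_c28)) :=
  Lgr Lrot79 (Lpe (f171320 IH) (Lpr_df (K12.f171219 IH) (Lpe (f171321 IH) (Lpn (LP (LK LD1_c2 LD2_c32 LD3_c28))))))
theorem f171446 : Led Lsl_gt (LP (LK LD1_c5 LD2_c10 LD3_c57)) = (LP (LK LD1_c2 LD2_c32 LD3_c28)) :=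
  Lre_g IH (LK LD1_c5 LD2_c10 LD3_c57) (LK LD1_c2 LD2_c32 LD3_c28) Lrfl Lrfl
theorem f307059 : Led Lsl_at (LP (LK LD1_c9 LD2_c1 LD3_c14)) = (LP (LK LD1_c4 LD2_c31 LD3_c37)) :=
  Lre_a IH (LK LD1_c9 LD2_c1 LD3_c14) (LK LD1_c4 LD2_c31 LD3_c37) Lrfl Lrfl
theorem f180075 : Led Lsl_at (LP (LK LD1_c4 LD2_c53 LD3_c24)) = (LP (LK LD1_c9 LD2_c38 LD3_c44)) :=
  Lre_a IH (LK LD1_c4 LD2_c53 LD3_c24) (LK LD1_c9 LD2_c38 LD3_c44) Lrfl Lrfl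
theorem f307060 : Led Lsl_df (LP (LK LD1_c9 LD2_c1 LD3_c14)) = (LP (LK LD1_c9 LD2_c38 LD3_c44)) :=
  Lgr Lrot18 (Lpr_at (f307059 IH) (Lpr_dt (K19.f307057 IH) (Lpr_at (f180075 IH) (Lpn (LP (LK LD1_c9 LD2_c38 LD3_c44))))))
theorem f307152 : Led Lsl_gt (LP (LK LD1_c9 LD2_c36 LD3_c60)) = (LP (LK LD1_c4 LD2_c52 LD3_c25)) :=
  Lre_g IH (LK LD1_c9 LD2_c36 LD3_c60) (LK LD1_c4 LD2_c52 LD3_c25) Lrfl Lrfl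
theorem f307173 : Led Lsl_df (LP (LK LD1_c5 LD2_c10 LD3_c57)) = (LP (LK LD1_c4 LD2_c52 LD3_c25)) :=
  Lgr Lrot135 (Lpr_gt (f171446 IH) (Lpe (f171322 IH) (Lpr_et (K12.f171435 IH) (Lpr_gt (K13.f171505 IH) (Lpe (K16.f171506 IH) (Lpe (K16.f254912 IH) (Lpr_gt (K19.f307166 IH) (Lpr_df (f307060 IH) (Lpr_et (K19.f276625 IH) (Lpr_gt (f307152 IH) (Lpn (LP (LK LD1_c4 LD2_c52 LD3_c25)))))))))))))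
theorem f222119 : Led Lsl_gt (LP (LK LD1_c4 LD2_c52 LD3_c7)) = (LP (LK LD1_c9 LD2_c36 LD3_c36)) :=
  Lre_g IH (LK LD1_c4 LD2_c52 LD3_c7) (LK LD1_c9 LD2_c36 LD3_c36) Lrfl Lrfl
theorem f307188 : Led Lsl_ef (LP (LK LD1_c9 LD2_c36 LD3_c36)) = (LP (LK LD1_c4 LD2_c52 LD3_c25)) :=
  Lgr Lrot17 (Lpe (f222119 IH) (Lpe (K19.f222114 IH) (Lpr_dt (K18.f222100 IH) (Lpr_gf (K18.f300719 IH) (Lpe (K17.f257972 IH) (Lpe (K13.f171505 IH) (Lpe (K12.f171435 IH) (Lpr_dt (f171322 IH) (Lpe (f171446 IH) (Lpr_df (f307173 IH) (Lpn (LP (LK LD1_c4 LD2_c52 LD3_c25)))))))))))))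
theorem f222162 : Led Lsl_et (LP (LK LD1_c0 LD2_c58 LD3_c54)) = (LP (LK LD1_c2 LD2_c3 LD3_c51)) :=
  Lre_e IH (LK LD1_c0 LD2_c58 LD3_c54) (LK LD1_c2 LD2_c3 LD3_c51) Lrfl Lrfl
theorem f326869 : Led Lsl_ef (LP (LK LD1_c4 LD2_c13 LD3_c11)) = (LP (LK LD1_c8 LD2_c24 LD3_c15)) :=
  Lgr Lrot17 (Lpe (K20.f228839 IH) (Lpe (f222162 IH) (Lpr_dt (K15.f184317 IH) (Lpe (K12.f167250 IH) (Lpe (K12.f167249 IH) (Lpe (f300721 IH) (Lpe (K19.f222118 IH) (Lpe (K19.f301197 IH) (Lpe (f305723 IH) (Lpr_df (f326862 IH) (Lpn (LP (LK LD1_c8 LD2_c24 LD3_c15)))))))))))))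
theorem f246684 : Led Lsl_et (LP (LK LD1_c2 LD2_c6 LD3_c37)) = (LP (LK LD1_c4 LD2_c18 LD3_c40)) :=
  Lre_e IH (LK LD1_c2 LD2_c6 LD3_c37) (LK LD1_c4 LD2_c18 LD3_c40) Lrfl Lrfl
theorem f271135 : Led Lsl_et (LP (LK LD1_c8 LD2_c36 LD3_c2)) = (LP (LK LD1_c8 LD2_c24 LD3_c21)) :=
  Lgr Lrot69 (Lpe (K19.f271134 IH) (Lpe (f246684 IH) (Lpr_ff (K17.f251949 IH) (Lpe (K15.f252096 IH) (Lpr_ff (K16.f271086 IH) (Lpn (LP (LK LD1_c8 LD2_c24 LD3_c21))))))))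
theorem f307181 : Led Lsl_dt (LP (LK LD1_c5 LD2_c10 LD3_c57)) = (LP (LK LD1_c4 LD2_c52 LD3_c25)) :=
  Lgr Lrot42 (Lpr_df (f307173 IH) (Lpn (LP (LK LD1_c4 LD2_c52 LD3_c25))))
theorem f307140 : Led Lsl_dt (LP (LK LD1_c10 LD2_c9 LD3_c43)) = (LP (LK LD1_c9 LD2_c36 LD3_c60)) :=
  Lgr Lrot42 (Lpr_df (K19.f307134 IH) (Lpn (LP (LK LD1_c9 LD2_c36 LD3_c60))))
theorem f246670 : Led Lsl_df (LP (LK LD1_c4 LD2_c18 LD3_c40)) = (LP (LK LD1_c4 LD2_c54 LD3_c23)) :=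
  Lgr Lrot70 (Lpr_et (K16.f246658 IH) (Lpr_dt (K14.f230313 IH) (Lpr_et (K14.f230306 IH) (Lpr_dt (K14.f246663 IH) (Lpr_et (K14.f246669 IH) (Lpn (LP (LK LD1_c4 LD2_c54 LD3_c23))))))))
theorem f166659 : Led Lsl_gt (LP (LK LD1_c2 LD2_c28 LD3_c43)) = (LP (LK LD1_c5 LD2_c2 LD3_c14)) :=
  Lre_g IH (LK LD1_c2 LD2_c28 LD3_c43) (LK LD1_c5 LD2_c2 LD3_c14) Lrfl Lrfl
theorem f305959 : Led Lsl_et (LP (LK LD1_c5 LD2_c9 LD3_c43)) = (LP (LK LD1_c5 LD2_c2 LD3_c14)) :=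
  Lgr Lrot122 (Lpr_dt (K19.f305933 IH) (Lpr_gt (K19.f246685 IH) (Lpr_df (f246670 IH) (Lpr_et (K14.f43480 IH) (Lpr_gt (K12.f31526 IH) (Lpr_dt (K9.f31525 IH) (Lpr_gt (K10.f184877 IH) (Lpe (K14.f165325 IH) (Lpr_et (K15.f166616 IH) (Lpr_gt (f166659 IH) (Lpn (LP (LK LD1_c5 LD2_c2 LD3_c14)))))))))))))
theorem f305966 : Led Lsl_ef (LP (LK LD1_c5 LD2_c9 LD3_c43)) = (LP (LK LD1_c5 LD2_c2 LD3_c14)) :=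
  Lgr Lrot88 (Lpr_et (f305959 IH) (Lpn (LP (LK LD1_c5 LD2_c2 LD3_c14))))
theorem f214300 : Led Lsl_ft (LP (LK LD1_c2 LD2_c31 LD3_c51)) = (LP (LK LD1_c1 LD2_c55 LD3_c48)) :=
  Lgr Lrot101 (Lpr_af (K12.f214124 IH) (Lpr_ff (K12.f214278 IH) (Lpe (K14.f43847 IH) (Lpn (LP (LK LD1_c1 LD2_c55 LD3_c48))))))
theorem f249620 : Led Lsl_gt (LP (LK LD1_c2 LD2_c29 LD3_c20)) = (LP (LK LD1_c1 LD2_c55 LD3_c49)) :=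
  Lgr Lrot46 (Lpr_gf (K14.f249618 IH) (Lpr_ft (f214300 IH) (Lpr_at (K14.f43847 IH) (Lpn (LP (LK LD1_c1 LD2_c55 LD3_c49))))))
theorem f166902 : Led Lsl_et (LP (LK LD1_c5 LD2_c3 LD3_c43)) = (LP (LK LD1_c2 LD2_c29 LD3_c20)) :=
  Lre_e IH (LK LD1_c5 LD2_c3 LD3_c43) (LK LD1_c2 LD2_c29 LD3_c20) Lrfl Lrfl
theorem f166938 : Led Lsl_gt (LP (LK LD1_c8 LD2_c24 LD3_c7)) = (LP (LK LD1_c4 LD2_c12 LD3_c15)) :=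
  Lre_g IH (LK LD1_c8 LD2_c24 LD3_c7) (LK LD1_c4 LD2_c12 LD3_c15) Lrfl Lrfl
theorem f305976 : Led Lsl_df (LP (LK LD1_c8 LD2_c24 LD3_c7)) = (LP (LK LD1_c5 LD2_c2 LD3_c14)) :=
  Lgr Lrot170 (Lpr_gt (f166938 IH) (Lpe (K19.f166917 IH) (Lpr_et (f166902 IH) (Lpr_gt (f249620 IH) (Lpr_dt (K9.f43257 IH) (Lpr_gt (K10.f192566 IH) (Lpe (K14.f165547 IH) (Lpr_et (K17.f192574 IH) (Lpr_gt (K19.f192575 IH) (Lpr_ef (f305966 IH) (Lpn (LP (LK LD1_c5 LD2_c2 LD3_c14)))))))))))))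
theorem f166838 : Led Lsl_gt (LP (LK LD1_c4 LD2_c12 LD3_c31)) = (LP (LK LD1_c8 LD2_c24 LD3_c7)) :=
  Lre_g IH (LK LD1_c4 LD2_c12 LD3_c31) (LK LD1_c8 LD2_c24 LD3_c7) Lrfl Lrfl
theorem f166806 : Led Lsl_bt (LP (LK LD1_c2 LD2_c29 LD3_c28)) = (LP (LK LD1_c5 LD2_c3 LD3_c50)) :=
  Lre_b IH (LK LD1_c2 LD2_c29 LD3_c28) (LK LD1_c5 LD2_c3 LD3_c50) Lrfl Lrfl
theorem f166808 : Led Lsl_dt (LP (LK LD1_c5 LD2_c3 LD3_c50)) = (LP (LK LD1_c4 LD2_c12 LD3_c31)) :=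
  Lgr Lrot79 (Lpe (f166806 IH) (Lpr_df (K10.f166707 IH) (Lpe (K18.f166807 IH) (Lpn (LP (LK LD1_c4 LD2_c12 LD3_c31))))))
theorem f248892 : Led Lsl_gt (LP (LK LD1_c10 LD2_c11 LD3_c35)) = (LP (LK LD1_c5 LD2_c10 LD3_c36)) :=
  Lre_g IH (LK LD1_c10 LD2_c11 LD3_c35) (LK LD1_c5 LD2_c10 LD3_c36) Lrfl Lrfl
theorem f307214 : Led Lsl_et (LP (LK LD1_c5 LD2_c10 LD3_c57)) = (LP (LK LD1_c10 LD2_c11 LD3_c35)) :=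
  Lgr Lrot185 (Lpr_dt (f307181 IH) (Lpe (f307152 IH) (Lpe (f307140 IH) (Lpe (K19.f300202 IH) (Lpr_ef (f305966 IH) (Lpe (f305976 IH) (Lpe (f166838 IH) (Lpe (f166808 IH) (Lpr_et (K18.f249616 IH) (Lpe (f248892 IH) (Lpn (LP (LK LD1_c10 LD2_c11 LD3_c35)))))))))))))
theorem f307220 : Led Lsl_ef (LP (LK LD1_c5 LD2_c10 LD3_c57)) = (LP (LK LD1_c10 LD2_c11 LD3_c35)) :=
  Lgr Lrot88 (Lpr_et (f307214 IH) (Lpn (LP (LK LD1_c10 LD2_c11 LD3_c35))))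
theorem f256408 : Led Lsl_dt (LP (LK LD1_c10 LD2_c11 LD3_c35)) = (LP (LK LD1_c18 LD2_c34 LD3_c6)) :=
  Lre_d IH (LK LD1_c10 LD2_c11 LD3_c35) (LK LD1_c18 LD2_c34 LD3_c6) Lrfl Lrfl
theorem f307226 : Led Lsl_gt (LP (LK LD1_c18 LD2_c9 LD3_c0)) = (LP (LK LD1_c18 LD2_c34 LD3_c6)) :=
  Lgr Lrot139 (Lpe (K14.f250126 IH) (Lpe (K14.f250125 IH) (Lpe (K14.f250169 IH) (Lpr_dt (K14.f251621 IH) (Lpe (K14.f31684 IH) (Lpr_df (K14.f171212 IH) (Lpr_et (K12.f171438 IH) (Lpe (f171446 IH) (Lpr_ef (f307220 IH) (Lpr_dt (f256408 IH) (Lpn (LP (LK LD1_c18 LD2_c34 LD3_c6)))))))))))))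
theorem f251639 : Led Lsl_et (LP (LK LD1_c9 LD2_c54 LD3_c54)) = (LP (LK LD1_c17 LD2_c48 LD3_c0)) :=
  Lgr Lrot87 (Lpr_ef (K14.f251633 IH) (Lpn (LP (LK LD1_c17 LD2_c48 LD3_c0))))
theorem f246185 : Led Lsl_et (LP (LK LD1_c9 LD2_c40 LD3_c35)) = (LP (LK LD1_c17 LD2_c48 LD3_c1)) :=
  Lre_e IH (LK LD1_c9 LD2_c40 LD3_c35) (LK LD1_c17 LD2_c48 LD3_c1) Lrfl Lrfl
theorem f251645 : Led Lsl_ef (LP (LK LD1_c18 LD2_c9 LD3_c0)) = (LP (LK LD1_c15 LD2_c1 LD3_c1)) :=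
  Lgr Lrot73 (Lpr_dt (K14.f251644 IH) (Lpr_et (f251639 IH) (Lpr_dt (K14.f43311 IH) (Lpr_et (f246185 IH) (Lpe (K14.f246180 IH) (Lpn (LP (LK LD1_c15 LD2_c1 LD3_c1))))))))
theorem f222120 : Led Lsl_dt (LP (LK LD1_c9 LD2_c36 LD3_c36)) = (LP (LK LD1_c17 LD2_c41 LD3_c53)) :=
  Lre_d IH (LK LD1_c9 LD2_c36 LD3_c36) (LK LD1_c17 LD2_c41 LD3_c53) Lrfl Lrfl
theorem f253666 : Led Lsl_dt (LP (LK LD1_c18 LD2_c34 LD3_c6)) = (LP (LK LD1_c10 LD2_c11 LD3_c35)) :=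
  Lre_d IH (LK LD1_c18 LD2_c34 LD3_c6) (LK LD1_c10 LD2_c11 LD3_c35) Lrfl Lrfl
theorem f307224 : Led Lsl_et (LP (LK LD1_c17 LD2_c41 LD3_c53)) = (LP (LK LD1_c18 LD2_c34 LD3_c6)) :=
  Lgr Lrot71 (Lpe (f222120 IH) (Lpr_ef (f307188 IH) (Lpe (f307181 IH) (Lpr_ef (f307220 IH) (Lpe (f253666 IH) (Lpn (LP (LK LD1_c18 LD2_c34 LD3_c6))))))))
theorem f301233 : Led Lsl_dt (LP (LK LD1_c17 LD2_c41 LD3_c53)) = (LP (LK LD1_c9 LD2_c36 LD3_c36)) :=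
  Lre_d IH (LK LD1_c17 LD2_c41 LD3_c53) (LK LD1_c9 LD2_c36 LD3_c36) Lrfl Lrfl
theorem f305702 : Led Lsl_dt (LP (LK LD1_c2 LD2_c45 LD3_c46)) = (LP (LK LD1_c4 LD2_c52 LD3_c14)) :=
  Lgr Lrot42 (Lpr_df (K19.f305693 IH) (Lpn (LP (LK LD1_c4 LD2_c52 LD3_c14))))
theorem f305704 : Led Lsl_et (LP (LK LD1_c2 LD2_c45 LD3_c46)) = (LP (LK LD1_c5 LD2_c39 LD3_c42)) :=
  Lre_e IH (LK LD1_c2 LD2_c45 LD3_c46) (LK LD1_c5 LD2_c39 LD3_c42) Lrfl Lrfl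
theorem f305764 : Led Lsl_dt (LP (LK LD1_c11 LD2_c10 LD3_c34)) = (LP (LK LD1_c10 LD2_c12 LD3_c33)) :=
  Lgr Lrot42 (Lpr_df (K19.f305761 IH) (Lpn (LP (LK LD1_c10 LD2_c12 LD3_c33))))
theorem f307232 : Led Lsl_gf (LP (LK LD1_c17 LD2_c48 LD3_c1)) = (LP (LK LD1_c10 LD2_c12 LD3_c33)) :=
  Lgr Lrot134 (Lpe (K14.f246183 IH) (Lpe (f251645 IH) (Lpr_gt (f307226 IH) (Lpe (f307224 IH) (Lpr_dt (f301233 IH) (Lpr_gt (f305708 IH) (Lpe (f305702 IH) (Lpr_et (f305704 IH) (Lpr_gt (K19.f305758 IH) (Lpr_dt (f305764 IH) (Lpn (LP (LK LD1_c10 LD2_c12 LD3_c33)))))))))))))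
theorem f221750 : Led Lsl_gt (LP (LK LD1_c15 LD2_c1 LD3_c25)) = (LP (LK LD1_c7 LD2_c57 LD3_c55)) :=
  Lre_g IH (LK LD1_c15 LD2_c1 LD3_c25) (LK LD1_c7 LD2_c57 LD3_c55) Lrfl Lrfl
theorem f254071 : Led Lsl_gt (LP (LK LD1_c8 LD2_c37 LD3_c35)) = (LP (LK LD1_c15 LD2_c1 LD3_c25)) :=
  Lgr Lrot5 (Lpr_ft (K14.f254068 IH) (Lpr_at (K14.f254051 IH) (Lpe (f221750 IH) (Lpn (LP (LK LD1_c15 LD2_c1 LD3_c25))))))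
theorem f307242 : Led Lsl_ef (LP (LK LD1_c15 LD2_c1 LD3_c25)) = (LP (LK LD1_c11 LD2_c10 LD3_c34)) :=
  Lgr Lrot17 (Lpe (f254071 IH) (Lpr_ef (K18.f301689 IH) (Lpe (K14.f253625 IH) (Lpe (f248892 IH) (Lpe (f253666 IH) (Lpe (f307226 IH) (Lpr_ef (f251645 IH) (Lpr_dt (K14.f246183 IH) (Lpr_gf (f307232 IH) (Lpe (f305764 IH) (Lpn (LP (LK LD1_c11 LD2_c10 LD3_c34)))))))))))))
theorem f307244 : Led Lsl_et (LP (LK LD1_c15 LD2_c1 LD3_c25)) = (LP (LK LD1_c11 LD2_c10 LD3_c34)) :=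
  Lgr Lrot87 (Lpr_ef (f307242 IH) (Lpn (LP (LK LD1_c11 LD2_c10 LD3_c34))))
theorem f246179 : Led Lsl_et (LP (LK LD1_c2 LD2_c31 LD3_c57)) = (LP (LK LD1_c1 LD2_c12 LD3_c61)) :=
  Lre_e IH (LK LD1_c2 LD2_c31 LD3_c57) (LK LD1_c1 LD2_c12 LD3_c61) Lrfl Lrfl
theorem f306966 : Led Lsl_bt (LP (LK LD1_c2 LD2_c23 LD3_c57)) = (LP (LK LD1_c1 LD2_c9 LD3_c0)) :=
  Lre_b IH (LK LD1_c2 LD2_c23 LD3_c57) (LK LD1_c1 LD2_c9 LD3_c0) Lrfl Lrfl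
theorem f300124 : Led Lsl_bt (LP (LK LD1_c1 LD2_c13 LD3_c3)) = (LP (LK LD1_c2 LD2_c31 LD3_c57)) :=
  Lre_b IH (LK LD1_c1 LD2_c13 LD3_c3) (LK LD1_c2 LD2_c31 LD3_c57) Lrfl Lrfl
theorem f306967 : Led Lsl_df (LP (LK LD1_c2 LD2_c23 LD3_c57)) = (LP (LK LD1_c2 LD2_c31 LD3_c57)) :=
  Lgr Lrot12 (Lpr_bt (f306966 IH) (Lpr_dt (K19.f306960 IH) (Lpr_bt (f300124 IH) (Lpn (LP (LK LD1_c2 LD2_c31 LD3_c57))))))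
theorem f307239 : Led Lsl_gt (LP (LK LD1_c2 LD2_c23 LD3_c57)) = (LP (LK LD1_c4 LD2_c52 LD3_c24)) :=
  Lre_g IH (LK LD1_c2 LD2_c23 LD3_c57) (LK LD1_c4 LD2_c52 LD3_c24) Lrfl Lrfl
theorem f305766 : Led Lsl_et (LP (LK LD1_c5 LD2_c10 LD3_c56)) = (LP (LK LD1_c10 LD2_c12 LD3_c33)) :=
  Lre_e IH (LK LD1_c5 LD2_c10 LD3_c56) (LK LD1_c10 LD2_c12 LD3_c33) Lrfl Lrfl
theorem f307240 : Led Lsl_df (LP (LK LD1_c4 LD2_c52 LD3_c24)) = (LP (LK LD1_c5 LD2_c10 LD3_c56)) :=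
  Lgr Lrot168 (Lpe (f307239 IH) (Lpr_df (f306967 IH) (Lpr_et (f246179 IH) (Lpe (K14.f180607 IH) (Lpe (K14.f214989 IH) (Lpe (K14.f246169 IH) (Lpe (K14.f189495 IH) (Lpr_df (K14.f246180 IH) (Lpr_gf (f307232 IH) (Lpe (f305766 IH) (Lpn (LP (LK LD1_c5 LD2_c10 LD3_c56)))))))))))))
theorem f307246 : Led Lsl_et (LP (LK LD1_c4 LD2_c52 LD3_c24)) = (LP (LK LD1_c9 LD2_c37 LD3_c7)) :=
  Lre_e IH (LK LD1_c4 LD2_c52 LD3_c24) (LK LD1_c9 LD2_c37 LD3_c7) Lrfl Lrfl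
theorem f307247 : Led Lsl_df (LP (LK LD1_c15 LD2_c1 LD3_c25)) = (LP (LK LD1_c9 LD2_c37 LD3_c7)) :=
  Lgr Lrot70 (Lpr_et (f307244 IH) (Lpr_dt (f305764 IH) (Lpr_et (K19.f171716 IH) (Lpe (f307240 IH) (Lpr_et (f307246 IH) (Lpn (LP (LK LD1_c9 LD2_c37 LD3_c7))))))))
theorem f307251 : Led Lsl_dt (LP (LK LD1_c15 LD2_c1 LD3_c25)) = (LP (LK LD1_c9 LD2_c37 LD3_c7)) :=
  Lgr Lrot42 (Lpr_df (f307247 IH) (Lpn (LP (LK LD1_c9 LD2_c37 LD3_c7))))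
theorem f307154 : Led Lsl_et (LP (LK LD1_c9 LD2_c37 LD3_c7)) = (LP (LK LD1_c4 LD2_c52 LD3_c24)) :=
  Lre_e IH (LK LD1_c9 LD2_c37 LD3_c7) (LK LD1_c4 LD2_c52 LD3_c24) Lrfl Lrfl
theorem f307352 : Led Lsl_df (LP (LK LD1_c5 LD2_c10 LD3_c56)) = (LP (LK LD1_c4 LD2_c52 LD3_c24)) :=
  Lgr Lrot70 (Lpr_et (f305766 IH) (Lpe (K19.f305761 IH) (Lpe (f307242 IH) (Lpr_dt (f307251 IH) (Lpr_et (f307154 IH) (Lpn (LP (LK LD1_c4 LD2_c52 LD3_c24))))))))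
theorem f270919 : Led Lsl_et (LP (LK LD1_c1 LD2_c8 LD3_c61)) = (LP (LK LD1_c2 LD2_c23 LD3_c57)) :=
  Lre_e IH (LK LD1_c1 LD2_c8 LD3_c61) (LK LD1_c2 LD2_c23 LD3_c57) Lrfl Lrfl
theorem f307365 : Led Lsl_df (LP (LK LD1_c9 LD2_c40 LD3_c17)) = (LP (LK LD1_c8 LD2_c36 LD3_c2)) :=
  Lgr Lrot132 (Lpe (K19.f248587 IH) (Lpr_df (f307352 IH) (Lpe (f307239 IH) (Lpe (f270919 IH) (Lpr_dt (K16.f270917 IH) (Lpe (K14.f253245 IH) (Lpr_df (K17.f253259 IH) (Lpr_et (K20.f271099 IH) (Lpe (K16.f271083 IH) (Lpe (f271135 IH) (Lpn (LP (LK LD1_c8 LD2_c36 LD3_c2)))))))))))))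
theorem f326871 : Led Lsl_gf (LP (LK LD1_c5 LD2_c10 LD3_c57)) = (LP (LK LD1_c9 LD2_c40 LD3_c17)) :=
  Lgr Lrot145 (Lpr_df (f307173 IH) (Lpe (f307188 IH) (Lpr_gt (f305708 IH) (Lpe (K19.f305693 IH) (Lpr_gt (K19.f305709 IH) (Lpr_df (f326862 IH) (Lpe (f326869 IH) (Lpe (K20.f322238 IH) (Lpe (f271135 IH) (Lpe (f307365 IH) (Lpn (LP (LK LD1_c9 LD2_c40 LD3_c17)))))))))))))
theorem f305955 : Led Lsl_gt (LP (LK LD1_c4 LD2_c52 LD3_c25)) = (LP (LK LD1_c2 LD2_c23 LD3_c57)) :=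
  Lre_g IH (LK LD1_c4 LD2_c52 LD3_c25) (LK LD1_c2 LD2_c23 LD3_c57) Lrfl Lrfl
theorem f307410 : Led Lsl_at (LP (LK LD1_c11 LD2_c57 LD3_c29)) = (LP (LK LD1_c6 LD2_c7 LD3_c22)) :=
  Lre_a IH (LK LD1_c11 LD2_c57 LD3_c29) (LK LD1_c6 LD2_c7 LD3_c22) Lrfl Lrfl
theorem f248597 : Led Lsl_at (LP (LK LD1_c5 LD2_c3 LD3_c23)) = (LP (LK LD1_c9 LD2_c39 LD3_c44)) :=
  Lgr Lrot100 (Lpr_af (K14.f248585 IH) (Lpn (LP (LK LD1_c9 LD2_c39 LD3_c44))))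
theorem f307411 : Led Lsl_df (LP (LK LD1_c11 LD2_c57 LD3_c29)) = (LP (LK LD1_c9 LD2_c39 LD3_c44)) :=
  Lgr Lrot18 (Lpr_at (f307410 IH) (Lpr_dt (K19.f307408 IH) (Lpr_at (f248597 IH) (Lpn (LP (LK LD1_c9 LD2_c39 LD3_c44))))))
theorem f326873 : Led Lsl_gt (LP (LK LD1_c8 LD2_c10 LD3_c54)) = (LP (LK LD1_c11 LD2_c57 LD3_c29)) :=
  Lgr Lrot112 (Lpr_df (K20.f256459 IH) (Lpr_et (K15.f256400 IH) (Lpe (K14.f165572 IH) (Lpe (f246179 IH) (Lpe (f306967 IH) (Lpe (f305955 IH) (Lpe (f307181 IH) (Lpr_gf (f326871 IH) (Lpe (K14.f248517 IH) (Lpe (f307411 IH) (Lpn (LP (LK LD1_c11 LD2_c57 LD3_c29)))))))))))))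
theorem f271132 : Led Lsl_dt (LP (LK LD1_c9 LD2_c41 LD3_c18)) = (LP (LK LD1_c8 LD2_c24 LD3_c21)) :=
  Lgr Lrot60 (Lpe (K19.f221696 IH) (Lpr_df (K15.f261145 IH) (Lpr_ff (K16.f271086 IH) (Lpn (LP (LK LD1_c8 LD2_c24 LD3_c21))))))
theorem f326876 : Led Lsl_et (LP (LK LD1_c9 LD2_c41 LD3_c18)) = (LP (LK LD1_c11 LD2_c57 LD3_c29)) :=
  Lgr Lrot122 (Lpr_dt (f271132 IH) (Lpr_gt (K16.f271083 IH) (Lpe (K16.f271067 IH) (Lpr_et (K16.f55105 IH) (Lpr_gt (K15.f47100 IH) (Lpr_dt (K10.f47099 IH) (Lpr_gt (K14.f47204 IH) (Lpe (K15.f46245 IH) (Lpr_et (K15.f55096 IH) (Lpr_gt (f326873 IH) (Lpn (LP (LK LD1_c11 LD2_c57 LD3_c29)))))))))))))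
theorem f326882 : Led Lsl_ef (LP (LK LD1_c9 LD2_c41 LD3_c18)) = (LP (LK LD1_c11 LD2_c57 LD3_c29)) :=
  Lgr Lrot88 (Lpr_et (f326876 IH) (Lpn (LP (LK LD1_c11 LD2_c57 LD3_c29))))
theorem f261186 : Led Lsl_et (LP (LK LD1_c11 LD2_c4 LD3_c49)) = (LP (LK LD1_c5 LD2_c36 LD3_c15)) :=
  Lre_e IH (LK LD1_c11 LD2_c4 LD3_c49) (LK LD1_c5 LD2_c36 LD3_c15) Lrfl Lrfl
theorem f312560 : Led Lsl_dt (LP (LK LD1_c4 LD2_c55 LD3_c14)) = (LP (LK LD1_c4 LD2_c53 LD3_c19)) :=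
  Lgr Lrot42 (Lpr_df (K19.f312553 IH) (Lpn (LP (LK LD1_c4 LD2_c53 LD3_c19))))
theorem f173585 : Led Lsl_gt (LP (LK LD1_c4 LD2_c5 LD3_c27)) = (LP (LK LD1_c8 LD2_c11 LD3_c51)) :=
  Lre_g IH (LK LD1_c4 LD2_c5 LD3_c27) (LK LD1_c8 LD2_c11 LD3_c51) Lrfl Lrfl
theorem f278197 : Led Lsl_et (LP (LK LD1_c15 LD2_c25 LD3_c59)) = (LP (LK LD1_c8 LD2_c11 LD3_c51)) :=
  Lre_e IH (LK LD1_c15 LD2_c25 LD3_c59) (LK LD1_c8 LD2_c11 LD3_c51) Lrfl Lrfl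
theorem f312576 : Led Lsl_df (LP (LK LD1_c9 LD2_c38 LD3_c43)) = (LP (LK LD1_c15 LD2_c25 LD3_c59)) :=
  Lgr Lrot170 (Lpr_gt (K19.f180089 IH) (Lpe (f312560 IH) (Lpr_et (K19.f312562 IH) (Lpe (K16.f278177 IH) (Lpr_dt (K10.f47970 IH) (Lpr_gt (K10.f47205 IH) (Lpe (K10.f47099 IH) (Lpr_et (K17.f47426 IH) (Lpr_gt (f173585 IH) (Lpe (f278197 IH) (Lpn (LP (LK LD1_c15 LD2_c25 LD3_c59)))))))))))))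
theorem f312551 : Led Lsl_ef (LP (LK LD1_c11 LD2_c4 LD3_c48)) = (LP (LK LD1_c9 LD2_c38 LD3_c43)) :=
  Lgr Lrot88 (Lpr_et (K19.f312548 IH) (Lpn (LP (LK LD1_c9 LD2_c38 LD3_c43))))
theorem f312581 : Led Lsl_et (LP (LK LD1_c5 LD2_c36 LD3_c15)) = (LP (LK LD1_c11 LD2_c4 LD3_c49)) :=
  Lre_e IH (LK LD1_c5 LD2_c36 LD3_c15) (LK LD1_c11 LD2_c4 LD3_c49) Lrfl Lrfl
theorem f312582 : Led Lsl_et (LP (LK LD1_c8 LD2_c11 LD3_c51)) = (LP (LK LD1_c15 LD2_c25 LD3_c59)) :=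
  Lre_e IH (LK LD1_c8 LD2_c11 LD3_c51) (LK LD1_c15 LD2_c25 LD3_c59) Lrfl Lrfl
theorem f312583 : Led Lsl_dt (LP (LK LD1_c11 LD2_c4 LD3_c49)) = (LP (LK LD1_c8 LD2_c11 LD3_c51)) :=
  Lgr Lrot77 (Lpe (f312581 IH) (Lpe (K19.f228877 IH) (Lpr_ef (f312551 IH) (Lpr_df (f312576 IH) (Lpe (f312582 IH) (Lpn (LP (LK LD1_c8 LD2_c11 LD3_c51))))))))
theorem f326880 : Led Lsl_df (LP (LK LD1_c9 LD2_c39 LD3_c44)) = (LP (LK LD1_c11 LD2_c57 LD3_c29)) :=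
  Lgr Lrot70 (Lpr_et (K14.f248517 IH) (Lpe (K19.f248583 IH) (Lpr_et (f271135 IH) (Lpe (K19.f271144 IH) (Lpr_et (f326876 IH) (Lpn (LP (LK LD1_c11 LD2_c57 LD3_c29))))))))
theorem f326888 : Led Lsl_gf (LP (LK LD1_c5 LD2_c3 LD3_c22)) = (LP (LK LD1_c9 LD2_c39 LD3_c44)) :=
  Lgr Lrot145 (Lpe (K17.f250397 IH) (Lpr_et (K17.f250399 IH) (Lpr_gt (K17.f47980 IH) (Lpe (K17.f47427 IH) (Lpr_gt (f173585 IH) (Lpe (f312583 IH) (Lpr_et (f261186 IH) (Lpe (K19.f261181 IH) (Lpr_ef (f326882 IH) (Lpe (f326880 IH) (Lpn (LP (LK LD1_c9 LD2_c39 LD3_c44)))))))))))))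
theorem f283982 : Led Lsl_ct (LP (LK LD1_c5 LD2_c3 LD3_c22)) = (LP (LK LD1_c9 LD2_c57 LD3_c40)) :=
  Lre_c IH (LK LD1_c5 LD2_c3 LD3_c22) (LK LD1_c9 LD2_c57 LD3_c40) Lrfl Lrfl
theorem f256462 : Led Lsl_ct (LP (LK LD1_c10 LD2_c9 LD3_c50)) = (LP (LK LD1_c5 LD2_c9 LD3_c34)) :=
  Lre_c IH (LK LD1_c10 LD2_c9 LD3_c50) (LK LD1_c5 LD2_c9 LD3_c34) Lrfl Lrfl
theorem f256463 : Led Lsl_dt (LP (LK LD1_c18 LD2_c30 LD3_c56)) = (LP (LK LD1_c10 LD2_c9 LD3_c50)) :=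
  Lre_d IH (LK LD1_c18 LD2_c30 LD3_c56) (LK LD1_c10 LD2_c9 LD3_c50) Lrfl Lrfl
theorem f260619 : Led Lsl_et (LP (LK LD1_c10 LD2_c9 LD3_c50)) = (LP (LK LD1_c5 LD2_c9 LD3_c33)) :=
  Lre_e IH (LK LD1_c10 LD2_c9 LD3_c50) (LK LD1_c5 LD2_c9 LD3_c33) Lrfl Lrfl
theorem f256458 : Led Lsl_dt (LP (LK LD1_c10 LD2_c9 LD3_c50)) = (LP (LK LD1_c18 LD2_c30 LD3_c56)) :=
  Lre_d IH (LK LD1_c10 LD2_c9 LD3_c50) (LK LD1_c18 LD2_c30 LD3_c56) Lrfl Lrfl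
theorem f44411 : Led Lsl_et (LP (LK LD1_c4 LD2_c54 LD3_c26)) = (LP (LK LD1_c7 LD2_c57 LD3_c35)) :=
  Lgr Lrot87 (Lpr_ef (K13.f44407 IH) (Lpn (LP (LK LD1_c7 LD2_c57 LD3_c35))))
theorem f43697 : Led Lsl_bt (LP (LK LD1_c2 LD2_c25 LD3_c6)) = (LP (LK LD1_c4 LD2_c54 LD3_c26)) :=
  Lre_b IH (LK LD1_c2 LD2_c25 LD3_c6) (LK LD1_c4 LD2_c54 LD3_c26) Lrfl Lrfl
theorem f44425 : Led Lsl_ef (LP (LK LD1_c2 LD2_c25 LD3_c6)) = (LP (LK LD1_c3 LD2_c58 LD3_c5)) :=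
  Lgr Lrot29 (Lpr_bt (f43697 IH) (Lpr_et (f44411 IH) (Lpr_bt (K14.f43896 IH) (Lpn (LP (LK LD1_c3 LD2_c58 LD3_c5))))))
theorem f43749 : Led Lsl_et (LP (LK LD1_c9 LD2_c40 LD3_c20)) = (LP (LK LD1_c4 LD2_c54 LD3_c24)) :=
  Lre_e IH (LK LD1_c9 LD2_c40 LD3_c20) (LK LD1_c4 LD2_c54 LD3_c24) Lrfl Lrfl
theorem f43750 : Led Lsl_dt (LP (LK LD1_c9 LD2_c40 LD3_c20)) = (LP (LK LD1_c17 LD2_c47 LD3_c27)) :=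
  Lre_d IH (LK LD1_c9 LD2_c40 LD3_c20) (LK LD1_c17 LD2_c47 LD3_c27) Lrfl Lrfl
theorem f260620 : Led Lsl_gf (LP (LK LD1_c18 LD2_c30 LD3_c56)) = (LP (LK LD1_c17 LD2_c47 LD3_c27)) :=
  Lgr Lrot145 (Lpe (f256458 IH) (Lpr_et (f260619 IH) (Lpr_gt (K17.f260601 IH) (Lpr_dt (K14.f195844 IH) (Lpe (K14.f215348 IH) (Lpe (K12.f43857 IH) (Lpe (f44425 IH) (Lpr_gt (K14.f43743 IH) (Lpe (f43749 IH) (Lpr_dt (f43750 IH) (Lpn (LP (LK LD1_c17 LD2_c47 LD3_c27)))))))))))))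
theorem f283983 : Led Lsl_gt (LP (LK LD1_c9 LD2_c57 LD3_c40)) = (LP (LK LD1_c9 LD2_c40 LD3_c20)) :=
  Lgr Lrot94 (Lpe (f283982 IH) (Lpr_gt (K17.f248485 IH) (Lpr_dt (K20.f250386 IH) (Lpr_gt (K20.f283980 IH) (Lpr_dt (K15.f256455 IH) (Lpe (f256462 IH) (Lpe (f256463 IH) (Lpr_gf (f260620 IH) (Lpe (f43750 IH) (Lpn (LP (LK LD1_c9 LD2_c40 LD3_c20))))))))))))
theorem f193157 : Led Lsl_cf (LP (LK LD1_c9 LD2_c40 LD3_c20)) = (LP (LK LD1_c5 LD2_c19 LD3_c11)) :=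
  Lgr Lrot11 (Lpr_ct (K18.f193110 IH) (Lpn (LP (LK LD1_c5 LD2_c19 LD3_c11))))
theorem f275883 : Led Lsl_bt (LP (LK LD1_c15 LD2_c14 LD3_c8)) = (LP (LK LD1_c8 LD2_c5 LD3_c26)) :=
  Lre_b IH (LK LD1_c15 LD2_c14 LD3_c8) (LK LD1_c8 LD2_c5 LD3_c26) Lrfl Lrfl
theorem f249678 : Led Lsl_gt (LP (LK LD1_c10 LD2_c11 LD3_c46)) = (LP (LK LD1_c18 LD2_c34 LD3_c4)) :=
  Lre_g IH (LK LD1_c10 LD2_c11 LD3_c46) (LK LD1_c18 LD2_c34 LD3_c4) Lrfl Lrfl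
theorem f326890 : Led Lsl_ct (LP (LK LD1_c15 LD2_c14 LD3_c8)) = (LP (LK LD1_c10 LD2_c11 LD3_c46)) :=
  Lgr Lrot64 (Lpr_bt (f275883 IH) (Lpe (K20.f259107 IH) (Lpe (K19.f259098 IH) (Lpe (f193157 IH) (Lpe (f283983 IH) (Lpe (f283982 IH) (Lpr_gf (f326888 IH) (Lpr_bf (K14.f248749 IH) (Lpr_ct (K14.f249050 IH) (Lpe (f249678 IH) (Lpn (LP (LK LD1_c10 LD2_c11 LD3_c46)))))))))))))
theorem f287229 : Led Lsl_ct (LP (LK LD1_c5 LD2_c9 LD3_c0)) = (LP (LK LD1_c10 LD2_c8 LD3_c34)) :=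
  Lre_c IH (LK LD1_c5 LD2_c9 LD3_c0) (LK LD1_c10 LD2_c8 LD3_c34) Lrfl Lrfl
theorem f283884 : Led Lsl_gt (LP (LK LD1_c5 LD2_c10 LD3_c33)) = (LP (LK LD1_c10 LD2_c11 LD3_c46)) :=
  Lre_g IH (LK LD1_c5 LD2_c10 LD3_c33) (LK LD1_c10 LD2_c11 LD3_c46) Lrfl Lrfl
theorem f312521 : Led Lsl_ct (LP (LK LD1_c2 LD2_c32 LD3_c20)) = (LP (LK LD1_c5 LD2_c10 LD3_c33)) :=
  Lre_c IH (LK LD1_c2 LD2_c32 LD3_c20) (LK LD1_c5 LD2_c10 LD3_c33) Lrfl Lrfl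
theorem f248711 : Led Lsl_bt (LP (LK LD1_c2 LD2_c32 LD3_c20)) = (LP (LK LD1_c1 LD2_c13 LD3_c11)) :=
  Lre_b IH (LK LD1_c2 LD2_c32 LD3_c20) (LK LD1_c1 LD2_c13 LD3_c11) Lrfl Lrfl
theorem f309843 : Led Lsl_gt (LP (LK LD1_c2 LD2_c32 LD3_c25)) = (LP (LK LD1_c1 LD2_c13 LD3_c11)) :=
  Lre_g IH (LK LD1_c2 LD2_c32 LD3_c25) (LK LD1_c1 LD2_c13 LD3_c11) Lrfl Lrfl
theorem f326895 : Led Lsl_bt (LP (LK LD1_c5 LD2_c9 LD3_c0)) = (LP (LK LD1_c2 LD2_c32 LD3_c25)) :=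
  Lgr Lrot22 (Lpr_ct (f287229 IH) (Lpr_gf (f298572 IH) (Lpr_cf (f296510 IH) (Lpe (f323776 IH) (Lpe (f275883 IH) (Lpr_ct (f326890 IH) (Lpe (f283884 IH) (Lpe (f312521 IH) (Lpr_bt (f248711 IH) (Lpe (f309843 IH) (Lpn (LP (LK LD1_c2 LD2_c32 LD3_c25)))))))))))))
theorem f326905 : Led Lsl_et (LP (LK LD1_c2 LD2_c32 LD3_c25)) = (LP (LK LD1_c5 LD2_c10 LD3_c51)) :=
  Lre_e IH (LK LD1_c2 LD2_c32 LD3_c25) (LK LD1_c5 LD2_c10 LD3_c51) Lrfl Lrfl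
theorem f326906 : Led Lsl_bf (LP (LK LD1_c10 LD2_c8 LD3_c35)) = (LP (LK LD1_c5 LD2_c10 LD3_c51)) :=
  Lgr Lrot96 (Lpr_et (f287235 IH) (Lpr_bt (f326895 IH) (Lpr_et (f326905 IH) (Lpn (LP (LK LD1_c5 LD2_c10 LD3_c51))))))
theorem f307051 : Led Lsl_bt (LP (LK LD1_c4 LD2_c56 LD3_c29)) = (LP (LK LD1_c9 LD2_c44 LD3_c29)) :=
  Lre_b IH (LK LD1_c4 LD2_c56 LD3_c29) (LK LD1_c9 LD2_c44 LD3_c29) Lrfl Lrfl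
theorem f307013 : Led Lsl_at (LP (LK LD1_c4 LD2_c31 LD3_c38)) = (LP (LK LD1_c2 LD2_c45 LD3_c48)) :=
  Lgr Lrot100 (Lpr_af (K19.f307009 IH) (Lpn (LP (LK LD1_c2 LD2_c45 LD3_c48))))
theorem f169643 : Led Lsl_gt (LP (LK LD1_c2 LD2_c29 LD3_c9)) = (LP (LK LD1_c5 LD2_c3 LD3_c14)) :=
  Lre_g IH (LK LD1_c2 LD2_c29 LD3_c9) (LK LD1_c5 LD2_c3 LD3_c14) Lrfl Lrfl
theorem f307043 : Led Lsl_gf (LP (LK LD1_c2 LD2_c45 LD3_c48)) = (LP (LK LD1_c5 LD2_c3 LD3_c14)) :=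
  Lgr Lrot76 (Lpe (f307013 IH) (Lpr_ff (K19.f307032 IH) (Lpr_gt (f169643 IH) (Lpn (LP (LK LD1_c5 LD2_c3 LD3_c14))))))
theorem f55318 : Led Lsl_dt (LP (LK LD1_c4 LD2_c56 LD3_c29)) = (LP (LK LD1_c2 LD2_c26 LD3_c0)) :=
  Lre_d IH (LK LD1_c4 LD2_c56 LD3_c29) (LK LD1_c2 LD2_c26 LD3_c0) Lrfl Lrfl
theorem f307045 : Led Lsl_et (LP (LK LD1_c4 LD2_c56 LD3_c29)) = (LP (LK LD1_c5 LD2_c3 LD3_c14)) :=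
  Lgr Lrot121 (Lpr_dt (f55318 IH) (Lpe (f55315 IH) (Lpe (K9.f41323 IH) (Lpr_et (K1.f41093 IH) (Lpe (K9.f179510 IH) (Lpe (K14.f54863 IH) (Lpr_dt (K14.f171271 IH) (Lpr_gf (K19.f306068 IH) (Lpe (K19.f305821 IH) (Lpr_gf (f307043 IH) (Lpn (LP (LK LD1_c5 LD2_c3 LD3_c14)))))))))))))
theorem f307049 : Led Lsl_ef (LP (LK LD1_c4 LD2_c56 LD3_c29)) = (LP (LK LD1_c5 LD2_c3 LD3_c14)) :=
  Lgr Lrot88 (Lpr_et (f307045 IH) (Lpn (LP (LK LD1_c5 LD2_c3 LD3_c14))))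
theorem f323751 : Led Lsl_bt (LP (LK LD1_c9 LD2_c53 LD3_c13)) = (LP (LK LD1_c5 LD2_c3 LD3_c14)) :=
  Lgr Lrot119 (Lpr_ef (f323693 IH) (Lpe (f307051 IH) (Lpr_ef (f307049 IH) (Lpn (LP (LK LD1_c5 LD2_c3 LD3_c14))))))
theorem f326912 : Led Lsl_dt (LP (LK LD1_c5 LD2_c3 LD3_c14)) = (LP (LK LD1_c5 LD2_c10 LD3_c51)) :=
  Lgr Lrot79 (Lpe (f323751 IH) (Lpr_df (f323764 IH) (Lpr_bf (f326906 IH) (Lpn (LP (LK LD1_c5 LD2_c10 LD3_c51))))))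
theorem f326915 : Led Lsl_df (LP (LK LD1_c5 LD2_c3 LD3_c14)) = (LP (LK LD1_c5 LD2_c10 LD3_c51)) :=
  Lgr Lrot38 (Lpr_dt (f326912 IH) (Lpn (LP (LK LD1_c5 LD2_c10 LD3_c51))))
theorem f169139 : Led Lsl_et (LP (LK LD1_c2 LD2_c26 LD3_c0)) = (LP (LK LD1_c4 LD2_c56 LD3_c30)) :=
  Lre_e IH (LK LD1_c2 LD2_c26 LD3_c0) (LK LD1_c4 LD2_c56 LD3_c30) Lrfl Lrfl
theorem f326919 : Led Lsl_dt (LP (LK LD1_c4 LD2_c56 LD3_c30)) = (LP (LK LD1_c2 LD2_c32 LD3_c25)) :=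
  Lgr Lrot77 (Lpe (f169139 IH) (Lpe (f55318 IH) (Lpr_ef (f307049 IH) (Lpr_df (f326915 IH) (Lpe (f326905 IH) (Lpn (LP (LK LD1_c2 LD2_c32 LD3_c25))))))))
theorem f55322 : Led Lsl_et (LP (LK LD1_c4 LD2_c56 LD3_c30)) = (LP (LK LD1_c2 LD2_c26 LD3_c0)) :=
  Lre_e IH (LK LD1_c4 LD2_c56 LD3_c30) (LK LD1_c2 LD2_c26 LD3_c0) Lrfl Lrfl
theorem f287814 : Led Lsl_gt (LP (LK LD1_c4 LD2_c19 LD3_c46)) = (LP (LK LD1_c2 LD2_c44 LD3_c6)) :=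
  Lgr Lrot137 (Lpr_ef (K13.f180006 IH) (Lpr_dt (K13.f54884 IH) (Lpr_gf (K13.f54869 IH) (Lpr_df (K9.f47876 IH) (Lpr_et (K9.f47909 IH) (Lpe (K15.f198851 IH) (Lpe (K17.f198848 IH) (Lpe (K17.f237969 IH) (Lpr_gf (K17.f287808 IH) (Lpe (K17.f228850 IH) (Lpn (LP (LK LD1_c2 LD2_c44 LD3_c6)))))))))))))
theorem f287820 : Led Lsl_et (LP (LK LD1_c2 LD2_c59 LD3_c50)) = (LP (LK LD1_c2 LD2_c44 LD3_c6)) :=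
  Lgr Lrot87 (Lpr_ef (K17.f287812 IH) (Lpn (LP (LK LD1_c2 LD2_c44 LD3_c6))))
theorem f250355 : Led Lsl_ft (LP (LK LD1_c2 LD2_c29 LD3_c19)) = (LP (LK LD1_c1 LD2_c11 LD3_c46)) :=
  Lre_f IH (LK LD1_c2 LD2_c29 LD3_c19) (LK LD1_c1 LD2_c11 LD3_c46) Lrfl Lrfl
theorem f287844 : Led Lsl_dt (LP (LK LD1_c2 LD2_c59 LD3_c50)) = (LP (LK LD1_c2 LD2_c29 LD3_c19)) :=
  Lgr Lrot60 (Lpr_ff (K17.f287830 IH) (Lpe (K14.f250351 IH) (Lpe (f250355 IH) (Lpn (LP (LK LD1_c2 LD2_c29 LD3_c19))))))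
theorem f326957 : Led Lsl_gt (LP (LK LD1_c2 LD2_c29 LD3_c19)) = (LP (LK LD1_c2 LD2_c32 LD3_c25)) :=
  Lgr Lrot112 (Lpe (f287844 IH) (Lpr_et (f287820 IH) (Lpe (f287814 IH) (Lpr_ef (K13.f180006 IH) (Lpr_dt (K13.f54884 IH) (Lpr_gf (K13.f54869 IH) (Lpr_df (K9.f47876 IH) (Lpr_gf (f55316 IH) (Lpe (f55322 IH) (Lpr_dt (f326919 IH) (Lpn (LP (LK LD1_c2 LD2_c32 LD3_c25)))))))))))))
theorem f178295 : Led Lsl_ft (LP (LK LD1_c0 LD2_c58 LD3_c59)) = (LP (LK LD1_c0 LD2_c26 LD3_c46)) :=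
  Lre_f IH (LK LD1_c0 LD2_c58 LD3_c59) (LK LD1_c0 LD2_c26 LD3_c46) Lrfl Lrfl
theorem f171222 : Led Lsl_ft (LP (LK LD1_c0 LD2_c27 LD3_c25)) = (LP (LK LD1_c1 LD2_c0 LD3_c24)) :=
  Lre_f IH (LK LD1_c0 LD2_c27 LD3_c25) (LK LD1_c1 LD2_c0 LD3_c24) Lrfl Lrfl
theorem f250301 : Led Lsl_ef (LP (LK LD1_c0 LD2_c58 LD3_c59)) = (LP (LK LD1_c1 LD2_c0 LD3_c24)) :=
  Lgr Lrot21 (Lpr_ft (f178295 IH) (Lpr_et (K9.f178284 IH) (Lpr_ft (K14.f250293 IH) (Lpr_et (K12.f171216 IH) (Lpr_ft (f171222 IH) (Lpn (LP (LK LD1_c1 LD2_c0 LD3_c24))))))))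
theorem f250323 : Led Lsl_df (LP (LK LD1_c1 LD2_c11 LD3_c46)) = (LP (LK LD1_c2 LD2_c12 LD3_c22)) :=
  Lgr Lrot70 (Lpr_et (K14.f21333 IH) (Lpr_dt (K19.f248695 IH) (Lpe (f250301 IH) (Lpr_dt (K14.f250317 IH) (Lpr_et (K14.f173976 IH) (Lpn (LP (LK LD1_c2 LD2_c12 LD3_c22))))))))
theorem f287828 : Led Lsl_df (LP (LK LD1_c2 LD2_c59 LD3_c50)) = (LP (LK LD1_c2 LD2_c29 LD3_c19)) :=
  Lgr Lrot78 (Lpr_ft (K17.f287822 IH) (Lpe (f250323 IH) (Lpr_ft (K14.f248689 IH) (Lpn (LP (LK LD1_c2 LD2_c29 LD3_c19))))))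
theorem f253691 : Led Lsl_at (LP (LK LD1_c2 LD2_c12 LD3_c22)) = (LP (LK LD1_c1 LD2_c18 LD3_c27)) :=
  Lgr Lrot100 (Lpr_af (K14.f253689 IH) (Lpn (LP (LK LD1_c1 LD2_c18 LD3_c27))))
theorem f287832 : Led Lsl_gt (LP (LK LD1_c2 LD2_c59 LD3_c50)) = (LP (LK LD1_c2 LD2_c44 LD3_c12)) :=
  Lgr Lrot5 (Lpr_ft (K17.f287822 IH) (Lpr_at (f253691 IH) (Lpe (K18.f183138 IH) (Lpn (LP (LK LD1_c2 LD2_c44 LD3_c12))))))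
theorem f326899 : Led Lsl_ct (LP (LK LD1_c2 LD2_c32 LD3_c25)) = (LP (LK LD1_c5 LD2_c10 LD3_c50)) :=
  Lre_c IH (LK LD1_c2 LD2_c32 LD3_c25) (LK LD1_c5 LD2_c10 LD3_c50) Lrfl Lrfl
theorem f169642 : Led Lsl_dt (LP (LK LD1_c1 LD2_c11 LD3_c42)) = (LP (LK LD1_c2 LD2_c29 LD3_c9)) :=
  Lre_d IH (LK LD1_c1 LD2_c11 LD3_c42) (LK LD1_c2 LD2_c29 LD3_c9) Lrfl Lrfl
theorem f169641 : Led Lsl_et (LP (LK LD1_c1 LD2_c11 LD3_c42)) = (LP (LK LD1_c0 LD2_c33 LD3_c11)) :=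
  Lre_e IH (LK LD1_c1 LD2_c11 LD3_c42) (LK LD1_c0 LD2_c33 LD3_c11) Lrfl Lrfl
theorem f166600 : Led Lsl_et (LP (LK LD1_c2 LD2_c28 LD3_c46)) = (LP (LK LD1_c1 LD2_c11 LD3_c33)) :=
  Lre_e IH (LK LD1_c2 LD2_c28 LD3_c46) (LK LD1_c1 LD2_c11 LD3_c33) Lrfl Lrfl
theorem f326917 : Led Lsl_et (LP (LK LD1_c5 LD2_c10 LD3_c51)) = (LP (LK LD1_c2 LD2_c32 LD3_c25)) :=
  Lre_e IH (LK LD1_c5 LD2_c10 LD3_c51) (LK LD1_c2 LD2_c32 LD3_c25) Lrfl Lrfl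
theorem f253683 : Led Lsl_ft (LP (LK LD1_c1 LD2_c18 LD3_c27)) = (LP (LK LD1_c2 LD2_c44 LD3_c13)) :=
  Lre_f IH (LK LD1_c1 LD2_c18 LD3_c27) (LK LD1_c2 LD2_c44 LD3_c13) Lrfl Lrfl
theorem f253684 : Led Lsl_dt (LP (LK LD1_c1 LD2_c13 LD3_c11)) = (LP (LK LD1_c1 LD2_c18 LD3_c27)) :=
  Lgr Lrot60 (Lpe (K14.f248719 IH) (Lpr_df (K14.f253671 IH) (Lpe (f253683 IH) (Lpn (LP (LK LD1_c1 LD2_c18 LD3_c27))))))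
theorem f326923 : Led Lsl_gf (LP (LK LD1_c1 LD2_c25 LD3_c38)) = (LP (LK LD1_c1 LD2_c18 LD3_c27)) :=
  Lgr Lrot134 (Lpe (K10.f177373 IH) (Lpr_et (f166600 IH) (Lpr_gt (K9.f169610 IH) (Lpe (f169641 IH) (Lpr_dt (f169642 IH) (Lpr_gt (f169643 IH) (Lpr_df (f326915 IH) (Lpr_et (f326917 IH) (Lpr_gt (f309843 IH) (Lpr_dt (f253684 IH) (Lpn (LP (LK LD1_c1 LD2_c18 LD3_c27)))))))))))))
theorem f169618 : Led Lsl_ct (LP (LK LD1_c2 LD2_c28 LD3_c46)) = (LP (LK LD1_c5 LD2_c2 LD3_c21)) :=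
  Lre_c IH (LK LD1_c2 LD2_c28 LD3_c46) (LK LD1_c5 LD2_c2 LD3_c21) Lrfl Lrfl
theorem f169615 : Led Lsl_dt (LP (LK LD1_c9 LD2_c55 LD3_c35)) = (LP (LK LD1_c5 LD2_c2 LD3_c21)) :=
  Lre_d IH (LK LD1_c9 LD2_c55 LD3_c35) (LK LD1_c5 LD2_c2 LD3_c21) Lrfl Lrfl
theorem f165308 : Led Lsl_et (LP (LK LD1_c5 LD2_c2 LD3_c21)) = (LP (LK LD1_c2 LD2_c28 LD3_c45)) :=
  Lre_e IH (LK LD1_c5 LD2_c2 LD3_c21) (LK LD1_c2 LD2_c28 LD3_c45) Lrfl Lrfl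
theorem f165309 : Led Lsl_dt (LP (LK LD1_c5 LD2_c2 LD3_c21)) = (LP (LK LD1_c9 LD2_c55 LD3_c35)) :=
  Lre_d IH (LK LD1_c5 LD2_c2 LD3_c21) (LK LD1_c9 LD2_c55 LD3_c35) Lrfl Lrfl
theorem f21999 : Led Lsl_dt (LP (LK LD1_c2 LD2_c32 LD3_c37)) = (LP (LK LD1_c5 LD2_c11 LD3_c17)) :=
  Lre_d IH (LK LD1_c2 LD2_c32 LD3_c37) (LK LD1_c5 LD2_c11 LD3_c17) Lrfl Lrfl
theorem f169612 : Led Lsl_gf (LP (LK LD1_c9 LD2_c55 LD3_c35)) = (LP (LK LD1_c5 LD2_c11 LD3_c17)) :=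
  Lgr Lrot145 (Lpe (f165309 IH) (Lpr_et (f165308 IH) (Lpr_gt (K9.f165280 IH) (Lpr_dt (K9.f169582 IH) (Lpr_gt (K9.f21419 IH) (Lpe (K0.f21383 IH) (Lpe (K19.f21315 IH) (Lpr_gt (K10.f21996 IH) (Lpe (K15.f21998 IH) (Lpr_dt (f21999 IH) (Lpn (LP (LK LD1_c5 LD2_c11 LD3_c17)))))))))))))
theorem f326925 : Led Lsl_ct (LP (LK LD1_c5 LD2_c10 LD3_c50)) = (LP (LK LD1_c2 LD2_c32 LD3_c25)) :=
  Lre_c IH (LK LD1_c5 LD2_c10 LD3_c50) (LK LD1_c2 LD2_c32 LD3_c25) Lrfl Lrfl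
theorem f326926 : Led Lsl_gf (LP (LK LD1_c2 LD2_c32 LD3_c37)) = (LP (LK LD1_c5 LD2_c10 LD3_c50)) :=
  Lgr Lrot144 (Lpr_dt (f21999 IH) (Lpe (f169612 IH) (Lpr_dt (f169615 IH) (Lpe (f169618 IH) (Lpr_df (K10.f177559 IH) (Lpr_gf (f326923 IH) (Lpe (f253684 IH) (Lpe (f309843 IH) (Lpe (f326925 IH) (Lpn (LP (LK LD1_c5 LD2_c10 LD3_c50))))))))))))
theorem f185436 : Led Lsl_ct (LP (LK LD1_c2 LD2_c32 LD3_c37)) = (LP (LK LD1_c1 LD2_c14 LD3_c58)) :=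
  Lgr Lrot59 (Lpr_cf (K15.f185190 IH) (Lpn (LP (LK LD1_c1 LD2_c14 LD3_c58))))
theorem f180418 : Led Lsl_ct (LP (LK LD1_c2 LD2_c40 LD3_c40)) = (LP (LK LD1_c1 LD2_c17 LD3_c0)) :=
  Lre_c IH (LK LD1_c2 LD2_c40 LD3_c40) (LK LD1_c1 LD2_c17 LD3_c0) Lrfl Lrfl
theorem f180414 : Led Lsl_gt (LP (LK LD1_c5 LD2_c28 LD3_c45)) = (LP (LK LD1_c2 LD2_c40 LD3_c40)) :=
  Lre_g IH (LK LD1_c5 LD2_c28 LD3_c45) (LK LD1_c2 LD2_c40 LD3_c40) Lrfl Lrfl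
theorem f326959 : Led Lsl_ct (LP (LK LD1_c2 LD2_c44 LD3_c12)) = (LP (LK LD1_c5 LD2_c28 LD3_c45)) :=
  Lgr Lrot152 (Lpe (f287832 IH) (Lpr_df (f287828 IH) (Lpr_gt (f326957 IH) (Lpr_ct (f326899 IH) (Lpe (f326926 IH) (Lpr_ct (f185436 IH) (Lpe (f276190 IH) (Lpe (f180418 IH) (Lpe (f180414 IH) (Lpn (LP (LK LD1_c5 LD2_c28 LD3_c45))))))))))))
theorem f279718 : Led Lsl_bt (LP (LK LD1_c6 LD2_c7 LD3_c22)) = (LP (LK LD1_c2 LD2_c59 LD3_c50)) :=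
  Lre_b IH (LK LD1_c6 LD2_c7 LD3_c22) (LK LD1_c2 LD2_c59 LD3_c50) Lrfl Lrfl
theorem f279719 : Led Lsl_ct (LP (LK LD1_c6 LD2_c7 LD3_c22)) = (LP (LK LD1_c11 LD2_c57 LD3_c30)) :=
  Lre_c IH (LK LD1_c6 LD2_c7 LD3_c22) (LK LD1_c11 LD2_c57 LD3_c30) Lrfl Lrfl
theorem f180415 : Led Lsl_ct (LP (LK LD1_c1 LD2_c17 LD3_c0)) = (LP (LK LD1_c2 LD2_c40 LD3_c40)) :=
  Lre_c IH (LK LD1_c1 LD2_c17 LD3_c0) (LK LD1_c2 LD2_c40 LD3_c40) Lrfl Lrfl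
theorem f225400 : Led Lsl_ct (LP (LK LD1_c8 LD2_c21 LD3_c40)) = (LP (LK LD1_c4 LD2_c11 LD3_c0)) :=
  Lre_c IH (LK LD1_c8 LD2_c21 LD3_c40) (LK LD1_c4 LD2_c11 LD3_c0) Lrfl Lrfl
theorem f179310 : Led Lsl_bt (LP (LK LD1_c2 LD2_c40 LD3_c38)) = (LP (LK LD1_c1 LD2_c16 LD3_c61)) :=
  Lre_b IH (LK LD1_c2 LD2_c40 LD3_c38) (LK LD1_c1 LD2_c16 LD3_c61) Lrfl Lrfl
theorem f179768 : Led Lsl_bt (LP (LK LD1_c2 LD2_c2 LD3_c47)) = (LP (LK LD1_c4 LD2_c11 LD3_c0)) :=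
  Lre_b IH (LK LD1_c2 LD2_c2 LD3_c47) (LK LD1_c4 LD2_c11 LD3_c0) Lrfl Lrfl
theorem f276207 : Led Lsl_ff (LP (LK LD1_c2 LD2_c40 LD3_c38)) = (LP (LK LD1_c4 LD2_c11 LD3_c0)) :=
  Lgr Lrot25 (Lpr_bt (f179310 IH) (Lpr_ft (K16.f276205 IH) (Lpr_bt (f179768 IH) (Lpn (LP (LK LD1_c4 LD2_c11 LD3_c0))))))
theorem f277106 : Led Lsl_cf (LP (LK LD1_c5 LD2_c22 LD3_c51)) = (LP (LK LD1_c2 LD2_c40 LD3_c38)) :=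
  Lgr Lrot108 (Lpr_ft (K17.f277016 IH) (Lpr_ct (f225400 IH) (Lpe (f276207 IH) (Lpn (LP (LK LD1_c2 LD2_c40 LD3_c38))))))
theorem f277115 : Led Lsl_et (LP (LK LD1_c5 LD2_c22 LD3_c51)) = (LP (LK LD1_c10 LD2_c36 LD3_c0)) :=
  Lre_e IH (LK LD1_c5 LD2_c22 LD3_c51) (LK LD1_c10 LD2_c36 LD3_c0) Lrfl Lrfl
theorem f277116 : Led Lsl_et (LP (LK LD1_c5 LD2_c28 LD3_c43)) = (LP (LK LD1_c2 LD2_c40 LD3_c38)) :=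
  Lre_e IH (LK LD1_c5 LD2_c28 LD3_c43) (LK LD1_c2 LD2_c40 LD3_c38) Lrfl Lrfl
theorem f277117 : Led Lsl_ct (LP (LK LD1_c10 LD2_c36 LD3_c0)) = (LP (LK LD1_c5 LD2_c28 LD3_c43)) :=
  Lgr Lrot15 (Lpe (f277115 IH) (Lpr_cf (f277106 IH) (Lpe (f277116 IH) (Lpn (LP (LK LD1_c5 LD2_c28 LD3_c43))))))
theorem f276956 : Led Lsl_bt (LP (LK LD1_c5 LD2_c22 LD3_c53)) = (LP (LK LD1_c10 LD2_c36 LD3_c0)) :=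
  Lre_b IH (LK LD1_c5 LD2_c22 LD3_c53) (LK LD1_c10 LD2_c36 LD3_c0) Lrfl Lrfl
theorem f180419 : Led Lsl_bt (LP (LK LD1_c5 LD2_c28 LD3_c43)) = (LP (LK LD1_c2 LD2_c40 LD3_c40)) :=
  Lre_b IH (LK LD1_c5 LD2_c28 LD3_c43) (LK LD1_c2 LD2_c40 LD3_c40) Lrfl Lrfl
theorem f277133 : Led Lsl_bf (LP (LK LD1_c2 LD2_c37 LD3_c59)) = (LP (LK LD1_c1 LD2_c17 LD3_c0)) :=
  Lgr Lrot90 (Lpr_ct (K16.f224161 IH) (Lpr_bt (f276956 IH) (Lpr_ct (f277117 IH) (Lpr_bt (f180419 IH) (Lpr_ct (f180418 IH) (Lpn (LP (LK LD1_c1 LD2_c17 LD3_c0))))))))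
theorem f169906 : Led Lsl_bt (LP (LK LD1_c5 LD2_c5 LD3_c19)) = (LP (LK LD1_c10 LD2_c1 LD3_c38)) :=
  Lre_b IH (LK LD1_c5 LD2_c5 LD3_c19) (LK LD1_c10 LD2_c1 LD3_c38) Lrfl Lrfl
theorem f230864 : Led Lsl_bf (LP (LK LD1_c5 LD2_c20 LD3_c16)) = (LP (LK LD1_c8 LD2_c15 LD3_c40)) :=
  Lgr Lrot93 (Lpe (K20.f230816 IH) (Lpr_bt (f169906 IH) (Lpr_dt (K14.f230861 IH) (Lpn (LP (LK LD1_c8 LD2_c15 LD3_c40))))))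
theorem f230866 : Led Lsl_ct (LP (LK LD1_c8 LD2_c15 LD3_c40)) = (LP (LK LD1_c15 LD2_c32 LD3_c1)) :=
  Lre_c IH (LK LD1_c8 LD2_c15 LD3_c40) (LK LD1_c15 LD2_c32 LD3_c1) Lrfl Lrfl
theorem f326974 : Led Lsl_gf (LP (LK LD1_c11 LD2_c57 LD3_c30)) = (LP (LK LD1_c15 LD2_c32 LD3_c1)) :=
  Lgr Lrot126 (Lpe (f279719 IH) (Lpr_bt (f279718 IH) (Lpr_gt (f287832 IH) (Lpr_ct (f326959 IH) (Lpr_gt (f180414 IH) (Lpe (f180415 IH) (Lpe (f277133 IH) (Lpr_gt (K20.f278534 IH) (Lpr_bf (f230864 IH) (Lpr_ct (f230866 IH) (Lpn (LP (LK LD1_c15 LD2_c32 LD3_c1)))))))))))))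
theorem f326976 : Led Lsl_gt (LP (LK LD1_c11 LD2_c5 LD3_c34)) = (LP (LK LD1_c5 LD2_c39 LD3_c1)) :=
  Lgr Lrot65 (Lpe (K18.f183148 IH) (Lpr_bt (K18.f183147 IH) (Lpe (f287832 IH) (Lpe (f279718 IH) (Lpr_ct (f279719 IH) (Lpr_gf (f326974 IH) (Lpe (f230866 IH) (Lpr_gf (K18.f291703 IH) (Lpr_bf (K19.f243945 IH) (Lpe (K18.f244291 IH) (Lpn (LP (LK LD1_c5 LD2_c39 LD3_c1)))))))))))))
theorem f242550 : Led Lsl_et (LP (LK LD1_c2 LD2_c31 LD3_c44)) = (LP (LK LD1_c5 LD2_c9 LD3_c11)) :=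
  Lre_e IH (LK LD1_c2 LD2_c31 LD3_c44) (LK LD1_c5 LD2_c9 LD3_c11) Lrfl Lrfl
theorem f260025 : Led Lsl_ct (LP (LK LD1_c5 LD2_c9 LD3_c11)) = (LP (LK LD1_c4 LD2_c2 LD3_c27)) :=
  Lgr Lrot15 (Lpe (f242550 IH) (Lpr_cf (K15.f259998 IH) (Lpe (K15.f46993 IH) (Lpn (LP (LK LD1_c4 LD2_c2 LD3_c27))))))
theorem f296509 : Led Lsl_ft (LP (LK LD1_c15 LD2_c11 LD3_c58)) = (LP (LK LD1_c8 LD2_c4 LD3_c23)) :=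
  Lre_f IH (LK LD1_c15 LD2_c11 LD3_c58) (LK LD1_c8 LD2_c4 LD3_c23) Lrfl Lrfl
theorem f296429 : Led Lsl_af (LP (LK LD1_c4 LD2_c2 LD3_c37)) = (LP (LK LD1_c4 LD2_c2 LD3_c27)) :=
  Lgr Lrot31 (Lpe (K19.f246103 IH) (Lpr_gf (K19.f296427 IH) (Lpr_ft (K19.f259103 IH) (Lpn (LP (LK LD1_c4 LD2_c2 LD3_c27))))))
theorem f296442 : Led Lsl_af (LP (LK LD1_c5 LD2_c9 LD3_c11)) = (LP (LK LD1_c8 LD2_c4 LD3_c23)) :=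
  Lgr Lrot68 (Lpr_ct (f260025 IH) (Lpe (f296429 IH) (Lpr_ct (K18.f296440 IH) (Lpn (LP (LK LD1_c8 LD2_c4 LD3_c23))))))
theorem f298574 : Led Lsl_gt (LP (LK LD1_c10 LD2_c8 LD3_c34)) = (LP (LK LD1_c5 LD2_c9 LD3_c11)) :=
  Lgr Lrot46 (Lpr_gf (f298572 IH) (Lpr_ft (f296509 IH) (Lpe (f296442 IH) (Lpn (LP (LK LD1_c5 LD2_c9 LD3_c11))))))
theorem f326978 : Led Lsl_gf (LP (LK LD1_c5 LD2_c36 LD3_c44)) = (LP (LK LD1_c8 LD2_c9 LD3_c44)) :=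
  Lgr Lrot147 (Lpr_ct (K18.f183148 IH) (Lpr_gt (f326976 IH) (Lpr_ct (K18.f243931 IH) (Lpr_df (K15.f259083 IH) (Lpe (f260025 IH) (Lpe (f298574 IH) (Lpe (f287229 IH) (Lpr_gf (f287226 IH) (Lpe (K18.f296891 IH) (Lpn (LP (LK LD1_c8 LD2_c9 LD3_c44))))))))))))
theorem f315435 : Led Lsl_dt (LP (LK LD1_c8 LD2_c27 LD3_c28)) = (LP (LK LD1_c4 LD2_c56 LD3_c49)) :=
  Lgr Lrot6 (Lpr_gt (K20.f315433 IH) (Lpr_ct (K20.f237931 IH) (Lpe (K19.f247205 IH) (Lpe (K17.f216129 IH) (Lpr_df (K13.f228079 IH) (Lpe (K19.f236460 IH) (Lpr_gf (K20.f298210 IH) (Lpe (K18.f200509 IH) (Lpr_gf (K20.f298439 IH) (Lpn (LP (LK LD1_c4 LD2_c56 LD3_c49))))))))))))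
theorem f315463 : Led Lsl_gt (LP (LK LD1_c8 LD2_c11 LD3_c53)) = (LP (LK LD1_c8 LD2_c27 LD3_c28)) :=
  Lgr Lrot150 (Lpe (K19.f256157 IH) (Lpr_gf (K19.f308931 IH) (Lpe (f216215 IH) (Lpe (K18.f223668 IH) (Lpr_ct (K18.f223677 IH) (Lpr_gt (K18.f298008 IH) (Lpr_ct (K18.f298010 IH) (Lpr_df (K20.f315451 IH) (Lpe (K20.f190019 IH) (Lpn (LP (LK LD1_c8 LD2_c27 LD3_c28))))))))))))
theorem f168932 : Led Lsl_gt (LP (LK LD1_c4 LD2_c56 LD3_c7)) = (LP (LK LD1_c9 LD2_c43 LD3_c44)) :=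
  Lre_g IH (LK LD1_c4 LD2_c56 LD3_c7) (LK LD1_c9 LD2_c43 LD3_c44) Lrfl Lrfl
theorem f168907 : Led Lsl_bt (LP (LK LD1_c4 LD2_c56 LD3_c7)) = (LP (LK LD1_c2 LD2_c25 LD3_c54)) :=
  Lre_b IH (LK LD1_c4 LD2_c56 LD3_c7) (LK LD1_c2 LD2_c25 LD3_c54) Lrfl Lrfl
theorem f168908 : Led Lsl_bt (LP (LK LD1_c2 LD2_c59 LD3_c42)) = (LP (LK LD1_c6 LD2_c7 LD3_c2)) :=
  Lre_b IH (LK LD1_c2 LD2_c59 LD3_c42) (LK LD1_c6 LD2_c7 LD3_c2) Lrfl Lrfl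
theorem f168909 : Led Lsl_df (LP (LK LD1_c4 LD2_c56 LD3_c7)) = (LP (LK LD1_c6 LD2_c7 LD3_c2)) :=
  Lgr Lrot12 (Lpr_bt (f168907 IH) (Lpr_dt (K14.f168898 IH) (Lpr_bt (f168908 IH) (Lpn (LP (LK LD1_c6 LD2_c7 LD3_c2))))))
theorem f326983 : Led Lsl_ef (LP (LK LD1_c5 LD2_c36 LD3_c44)) = (LP (LK LD1_c6 LD2_c7 LD3_c2)) :=
  Lgr Lrot17 (Lpr_gf (f326978 IH) (Lpe (K18.f286728 IH) (Lpr_dt (K12.f200497 IH) (Lpr_gf (K20.f298439 IH) (Lpe (f315435 IH) (Lpe (f315463 IH) (Lpr_ef (K19.f312200 IH) (Lpr_dt (K19.f314574 IH) (Lpe (f168932 IH) (Lpr_df (f168909 IH) (Lpn (LP (LK LD1_c6 LD2_c7 LD3_c2)))))))))))))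
theorem f168972 : Led Lsl_at (LP (LK LD1_c4 LD2_c56 LD3_c7)) = (LP (LK LD1_c9 LD2_c43 LD3_c45)) :=
  Lre_a IH (LK LD1_c4 LD2_c56 LD3_c7) (LK LD1_c9 LD2_c43 LD3_c45) Lrfl Lrfl
theorem f314563 : Led Lsl_at (LP (LK LD1_c8 LD2_c27 LD3_c22)) = (LP (LK LD1_c6 LD2_c7 LD3_c2)) :=
  Lgr Lrot51 (Lpr_df (K19.f314560 IH) (Lpe (f168972 IH) (Lpr_df (f168909 IH) (Lpn (LP (LK LD1_c6 LD2_c7 LD3_c2))))))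
theorem f326985 : Led Lsl_at (LP (LK LD1_c5 LD2_c36 LD3_c44)) = (LP (LK LD1_c8 LD2_c9 LD3_c43)) :=
  Lgr Lrot80 (Lpr_ef (f326983 IH) (Lpe (f314563 IH) (Lpr_ef (K19.f314540 IH) (Lpn (LP (LK LD1_c8 LD2_c9 LD3_c43))))))
theorem f327026 : Led Lsl_ff (LP (LK LD1_c5 LD2_c36 LD3_c44)) = (LP (LK LD1_c4 LD2_c6 LD3_c51)) :=
  Lgr Lrot52 (Lpr_at (f326985 IH) (Lpe (K19.f298486 IH) (Lpr_gf (K18.f298590 IH) (Lpn (LP (LK LD1_c4 LD2_c6 LD3_c51))))))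
theorem f327050 : Led Lsl_ft (LP (LK LD1_c5 LD2_c36 LD3_c44)) = (LP (LK LD1_c4 LD2_c6 LD3_c51)) :=
  Lgr Lrot48 (Lpr_ff (f327026 IH) (Lpn (LP (LK LD1_c4 LD2_c6 LD3_c51))))
theorem f286747 : Led Lsl_ft (LP (LK LD1_c8 LD2_c9 LD3_c44)) = (LP (LK LD1_c4 LD2_c4 LD3_c24)) :=
  Lre_f IH (LK LD1_c8 LD2_c9 LD3_c44) (LK LD1_c4 LD2_c4 LD3_c24) Lrfl Lrfl
theorem f277768 : Led Lsl_af (LP (LK LD1_c8 LD2_c9 LD3_c40)) = (LP (LK LD1_c10 LD2_c36 LD3_c18)) :=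
  Lgr Lrot68 (Lpr_ct (K17.f256933 IH) (Lpr_at (K16.f277762 IH) (Lpr_ct (K16.f274969 IH) (Lpn (LP (LK LD1_c10 LD2_c36 LD3_c18))))))
theorem f286431 : Led Lsl_at (LP (LK LD1_c4 LD2_c4 LD3_c24)) = (LP (LK LD1_c2 LD2_c45 LD3_c25)) :=
  Lgr Lrot67 (Lpe (K17.f253136 IH) (Lpr_af (f277768 IH) (Lpe (K16.f274967 IH) (Lpr_af (K17.f286429 IH) (Lpe (K17.f244147 IH) (Lpn (LP (LK LD1_c2 LD2_c45 LD3_c25))))))))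
theorem f326981 : Led Lsl_gt (LP (LK LD1_c5 LD2_c36 LD3_c44)) = (LP (LK LD1_c2 LD2_c45 LD3_c25)) :=
  Lgr Lrot46 (Lpr_gf (f326978 IH) (Lpr_ft (f286747 IH) (Lpr_at (f286431 IH) (Lpn (LP (LK LD1_c2 LD2_c45 LD3_c25))))))
theorem f327058 : Led Lsl_af (LP (LK LD1_c4 LD2_c50 LD3_c39)) = (LP (LK LD1_c4 LD2_c6 LD3_c51)) :=
  Lgr Lrot31 (Lpe (K16.f243717 IH) (Lpe (f326981 IH) (Lpr_ft (f327050 IH) (Lpn (LP (LK LD1_c4 LD2_c6 LD3_c51))))))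
theorem f327022 : Led Lsl_af (LP (LK LD1_c5 LD2_c36 LD3_c44)) = (LP (LK LD1_c8 LD2_c9 LD3_c43)) :=
  Lgr Lrot0 (Lpr_at (f326985 IH) (Lpn (LP (LK LD1_c8 LD2_c9 LD3_c43))))
theorem f327068 : Led Lsl_ft (LP (LK LD1_c4 LD2_c50 LD3_c39)) = (LP (LK LD1_c8 LD2_c9 LD3_c43)) :=
  Lgr Lrot101 (Lpr_af (f327058 IH) (Lpe (f327050 IH) (Lpr_af (f327022 IH) (Lpn (LP (LK LD1_c8 LD2_c9 LD3_c43))))))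
theorem f252734 : Led Lsl_ct (LP (LK LD1_c5 LD2_c1 LD3_c4)) = (LP (LK LD1_c9 LD2_c52 LD3_c32)) :=
  Lre_c IH (LK LD1_c5 LD2_c1 LD3_c4) (LK LD1_c9 LD2_c52 LD3_c32) Lrfl Lrfl
theorem f252739 : Led Lsl_ct (LP (LK LD1_c18 LD2_c4 LD3_c39)) = (LP (LK LD1_c27 LD2_c46 LD3_c7)) :=
  Lre_c IH (LK LD1_c18 LD2_c4 LD3_c39) (LK LD1_c27 LD2_c46 LD3_c7) Lrfl Lrfl
theorem f296243 : Led Lsl_ct (LP (LK LD1_c11 LD2_c5 LD3_c34)) = (LP (LK LD1_c5 LD2_c36 LD3_c44)) :=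
  Lre_c IH (LK LD1_c11 LD2_c5 LD3_c34) (LK LD1_c5 LD2_c36 LD3_c44) Lrfl Lrfl
theorem f296246 : Led Lsl_dt (LP (LK LD1_c19 LD2_c58 LD3_c43)) = (LP (LK LD1_c11 LD2_c5 LD3_c34)) :=
  Lre_d IH (LK LD1_c19 LD2_c58 LD3_c43) (LK LD1_c11 LD2_c5 LD3_c34) Lrfl Lrfl
theorem f296242 : Led Lsl_ct (LP (LK LD1_c29 LD2_c13 LD3_c46)) = (LP (LK LD1_c19 LD2_c58 LD3_c43)) :=
  Lre_c IH (LK LD1_c29 LD2_c13 LD3_c46) (LK LD1_c19 LD2_c58 LD3_c43) Lrfl Lrfl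
theorem f327076 : Led Lsl_dt (LP (LK LD1_c27 LD2_c46 LD3_c7)) = (LP (LK LD1_c29 LD2_c13 LD3_c46)) :=
  Lgr Lrot140 (Lpe (f252739 IH) (Lpe (K19.f3759 IH) (Lpe (f252734 IH) (Lpr_df (K16.f274686 IH) (Lpr_ft (f327068 IH) (Lpe (f327022 IH) (Lpe (f296243 IH) (Lpe (f296246 IH) (Lpe (f296242 IH) (Lpn (LP (LK LD1_c29 LD2_c13 LD3_c46))))))))))))
theorem f327078 : Led Lsl_df (LP (LK LD1_c27 LD2_c46 LD3_c7)) = (LP (LK LD1_c29 LD2_c13 LD3_c46)) :=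
  Lgr Lrot38 (Lpr_dt (f327076 IH) (Lpn (LP (LK LD1_c29 LD2_c13 LD3_c46))))
theorem f252741 : Led Lsl_ct (LP (LK LD1_c27 LD2_c46 LD3_c7)) = (LP (LK LD1_c18 LD2_c4 LD3_c39)) :=
  Lre_c IH (LK LD1_c27 LD2_c46 LD3_c7) (LK LD1_c18 LD2_c4 LD3_c39) Lrfl Lrfl
theorem f252730 : Led Lsl_dt (LP (LK LD1_c18 LD2_c4 LD3_c39)) = (LP (LK LD1_c9 LD2_c52 LD3_c32)) :=
  Lre_d IH (LK LD1_c18 LD2_c4 LD3_c39) (LK LD1_c9 LD2_c52 LD3_c32) Lrfl Lrfl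
theorem f274707 : Led Lsl_dt (LP (LK LD1_c5 LD2_c1 LD3_c4)) = (LP (LK LD1_c4 LD2_c50 LD3_c39)) :=
  Lgr Lrot42 (Lpr_df (K16.f274686 IH) (Lpn (LP (LK LD1_c4 LD2_c50 LD3_c39))))
theorem f296241 : Led Lsl_ct (LP (LK LD1_c19 LD2_c58 LD3_c43)) = (LP (LK LD1_c29 LD2_c13 LD3_c46)) :=
  Lre_c IH (LK LD1_c19 LD2_c58 LD3_c43) (LK LD1_c29 LD2_c13 LD3_c46) Lrfl Lrfl
theorem f296240 : Led Lsl_dt (LP (LK LD1_c11 LD2_c5 LD3_c34)) = (LP (LK LD1_c19 LD2_c58 LD3_c43)) :=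
  Lre_d IH (LK LD1_c11 LD2_c5 LD3_c34) (LK LD1_c19 LD2_c58 LD3_c43) Lrfl Lrfl
theorem f327046 : Led Lsl_ft (LP (LK LD1_c11 LD2_c5 LD3_c34)) = (LP (LK LD1_c8 LD2_c14 LD3_c15)) :=
  Lgr Lrot4 (Lpe (K18.f183148 IH) (Lpr_ff (f327026 IH) (Lpe (K19.f22074 IH) (Lpn (LP (LK LD1_c8 LD2_c14 LD3_c15))))))
theorem f327098 : Led Lsl_af (LP (LK LD1_c9 LD2_c33 LD3_c24)) = (LP (LK LD1_c8 LD2_c14 LD3_c15)) :=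
  Lgr Lrot109 (Lpe (K18.f243730 IH) (Lpe (f274707 IH) (Lpe (K19.f252737 IH) (Lpe (f252730 IH) (Lpe (f252741 IH) (Lpr_df (f327078 IH) (Lpe (f296241 IH) (Lpe (f296240 IH) (Lpr_ft (f327046 IH) (Lpn (LP (LK LD1_c8 LD2_c14 LD3_c15))))))))))))
theorem f327024 : Led Lsl_af (LP (LK LD1_c11 LD2_c5 LD3_c34)) = (LP (LK LD1_c15 LD2_c17 LD3_c57)) :=
  Lgr Lrot68 (Lpr_ct (f296243 IH) (Lpr_at (f326985 IH) (Lpe (K19.f298580 IH) (Lpn (LP (LK LD1_c15 LD2_c17 LD3_c57))))))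
theorem f327104 : Led Lsl_ft (LP (LK LD1_c9 LD2_c33 LD3_c24)) = (LP (LK LD1_c15 LD2_c17 LD3_c57)) :=
  Lgr Lrot101 (Lpr_af (f327098 IH) (Lpe (f327046 IH) (Lpr_af (f327024 IH) (Lpn (LP (LK LD1_c15 LD2_c17 LD3_c57))))))
theorem f314544 : Led Lsl_et (LP (LK LD1_c8 LD2_c27 LD3_c22)) = (LP (LK LD1_c8 LD2_c9 LD3_c43)) :=
  Lgr Lrot87 (Lpr_ef (K19.f314540 IH) (Lpn (LP (LK LD1_c8 LD2_c9 LD3_c43))))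
theorem f314546 : Led Lsl_ef (LP (LK LD1_c15 LD2_c52 LD3_c40)) = (LP (LK LD1_c15 LD2_c17 LD3_c57)) :=
  Lgr Lrot28 (Lpr_ct (K19.f189939 IH) (Lpr_et (f314544 IH) (Lpe (K19.f298580 IH) (Lpn (LP (LK LD1_c15 LD2_c17 LD3_c57))))))
theorem f314553 : Led Lsl_ft (LP (LK LD1_c15 LD2_c52 LD3_c40)) = (LP (LK LD1_c8 LD2_c27 LD3_c19)) :=
  Lre_f IH (LK LD1_c15 LD2_c52 LD3_c40) (LK LD1_c8 LD2_c27 LD3_c19) Lrfl Lrfl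
theorem f259193 : Led Lsl_et (LP (LK LD1_c8 LD2_c27 LD3_c19)) = (LP (LK LD1_c4 LD2_c14 LD3_c19)) :=
  Lre_e IH (LK LD1_c8 LD2_c27 LD3_c19) (LK LD1_c4 LD2_c14 LD3_c19) Lrfl Lrfl
theorem f327110 : Led Lsl_ff (LP (LK LD1_c4 LD2_c50 LD3_c38)) = (LP (LK LD1_c4 LD2_c14 LD3_c19)) :=
  Lgr Lrot72 (Lpr_et (K18.f265639 IH) (Lpr_ft (f327104 IH) (Lpe (f314546 IH) (Lpr_ft (f314553 IH) (Lpr_et (f259193 IH) (Lpn (LP (LK LD1_c4 LD2_c14 LD3_c19))))))))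
theorem f327118 : Led Lsl_ft (LP (LK LD1_c4 LD2_c50 LD3_c38)) = (LP (LK LD1_c4 LD2_c14 LD3_c19)) :=
  Lgr Lrot48 (Lpr_ff (f327110 IH) (Lpn (LP (LK LD1_c4 LD2_c14 LD3_c19))))
theorem f327124 : Led Lsl_af (LP (LK LD1_c2 LD2_c59 LD3_c36)) = (LP (LK LD1_c4 LD2_c14 LD3_c19)) :=
  Lgr Lrot31 (Lpe (K16.f169071 IH) (Lpr_gf (K16.f274564 IH) (Lpr_ft (f327118 IH) (Lpn (LP (LK LD1_c4 LD2_c14 LD3_c19))))))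
theorem f291060 : Led Lsl_et (LP (LK LD1_c2 LD2_c59 LD3_c36)) = (LP (LK LD1_c6 LD2_c6 LD3_c61)) :=
  Lre_e IH (LK LD1_c2 LD2_c59 LD3_c36) (LK LD1_c6 LD2_c6 LD3_c61) Lrfl Lrfl
theorem f327135 : Led Lsl_at (LP (LK LD1_c6 LD2_c6 LD3_c61)) = (LP (LK LD1_c8 LD2_c27 LD3_c19)) :=
  Lgr Lrot80 (Lpe (f291060 IH) (Lpr_af (f327124 IH) (Lpe (f259193 IH) (Lpn (LP (LK LD1_c8 LD2_c27 LD3_c19))))))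
theorem f327021 : Led Lsl_ft (LP (LK LD1_c11 LD2_c56 LD3_c60)) = (LP (LK LD1_c6 LD2_c6 LD3_c61)) :=
  Lre_f IH (LK LD1_c11 LD2_c56 LD3_c60) (LK LD1_c6 LD2_c6 LD3_c61) Lrfl Lrfl
theorem f314557 : Led Lsl_ft (LP (LK LD1_c8 LD2_c27 LD3_c19)) = (LP (LK LD1_c15 LD2_c52 LD3_c40)) :=
  Lre_f IH (LK LD1_c8 LD2_c27 LD3_c19) (LK LD1_c15 LD2_c52 LD3_c40) Lrfl Lrfl
theorem f327144 : Led Lsl_af (LP (LK LD1_c11 LD2_c56 LD3_c60)) = (LP (LK LD1_c15 LD2_c52 LD3_c40)) :=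
  Lgr Lrot45 (Lpr_ft (f327021 IH) (Lpr_at (f327135 IH) (Lpr_ft (f314557 IH) (Lpn (LP (LK LD1_c15 LD2_c52 LD3_c40))))))
theorem f326991 : Led Lsl_et (LP (LK LD1_c5 LD2_c36 LD3_c44)) = (LP (LK LD1_c6 LD2_c7 LD3_c2)) :=
  Lgr Lrot87 (Lpr_ef (f326983 IH) (Lpn (LP (LK LD1_c6 LD2_c7 LD3_c2))))
theorem f168920 : Led Lsl_ct (LP (LK LD1_c6 LD2_c7 LD3_c2)) = (LP (LK LD1_c11 LD2_c56 LD3_c60)) :=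
  Lre_c IH (LK LD1_c6 LD2_c7 LD3_c2) (LK LD1_c11 LD2_c56 LD3_c60) Lrfl Lrfl
theorem f327006 : Led Lsl_ef (LP (LK LD1_c11 LD2_c5 LD3_c34)) = (LP (LK LD1_c11 LD2_c56 LD3_c60)) :=
  Lgr Lrot28 (Lpr_ct (f296243 IH) (Lpr_et (f326991 IH) (Lpr_ct (f168920 IH) (Lpn (LP (LK LD1_c11 LD2_c56 LD3_c60))))))
theorem f327155 : Led Lsl_at (LP (LK LD1_c11 LD2_c5 LD3_c34)) = (LP (LK LD1_c15 LD2_c17 LD3_c57)) :=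
  Lgr Lrot80 (Lpr_ef (f327006 IH) (Lpr_af (f327144 IH) (Lpr_ef (f314546 IH) (Lpn (LP (LK LD1_c15 LD2_c17 LD3_c57))))))
theorem f296378 : Led Lsl_dt (LP (LK LD1_c15 LD2_c17 LD3_c57)) = (LP (LK LD1_c25 LD2_c8 LD3_c41)) :=
  Lre_d IH (LK LD1_c15 LD2_c17 LD3_c57) (LK LD1_c25 LD2_c8 LD3_c41) Lrfl Lrfl
theorem f327159 : Led Lsl_af (LP (LK LD1_c19 LD2_c58 LD3_c43)) = (LP (LK LD1_c25 LD2_c8 LD3_c41)) :=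
  Lgr Lrot117 (Lpr_dt (f296246 IH) (Lpr_at (f327155 IH) (Lpr_dt (f296378 IH) (Lpn (LP (LK LD1_c25 LD2_c8 LD3_c41))))))
theorem f243733 : Led Lsl_dt (LP (LK LD1_c17 LD2_c35 LD3_c57)) = (LP (LK LD1_c9 LD2_c33 LD3_c24)) :=
  Lre_d IH (LK LD1_c17 LD2_c35 LD3_c57) (LK LD1_c9 LD2_c33 LD3_c24) Lrfl Lrfl
theorem f327168 : Led Lsl_ft (LP (LK LD1_c17 LD2_c35 LD3_c57)) = (LP (LK LD1_c25 LD2_c8 LD3_c41)) :=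
  Lgr Lrot142 (Lpr_dt (f243733 IH) (Lpr_ct (K19.f243744 IH) (Lpe (K16.f274686 IH) (Lpr_ct (f252734 IH) (Lpr_dt (K19.f3759 IH) (Lpr_ct (f252739 IH) (Lpr_dt (f327076 IH) (Lpr_ct (f296242 IH) (Lpr_af (f327159 IH) (Lpn (LP (LK LD1_c25 LD2_c8 LD3_c41))))))))))))
theorem f243734 : Led Lsl_ct (LP (LK LD1_c27 LD2_c24 LD3_c3)) = (LP (LK LD1_c17 LD2_c35 LD3_c57)) :=
  Lre_c IH (LK LD1_c27 LD2_c24 LD3_c3) (LK LD1_c17 LD2_c35 LD3_c57) Lrfl Lrfl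
theorem f298585 : Led Lsl_ct (LP (LK LD1_c25 LD2_c8 LD3_c41)) = (LP (LK LD1_c31 LD2_c47 LD3_c25)) :=
  Lre_c IH (LK LD1_c25 LD2_c8 LD3_c41) (LK LD1_c31 LD2_c47 LD3_c25) Lrfl Lrfl
theorem f327172 : Led Lsl_ff (LP (LK LD1_c27 LD2_c24 LD3_c3)) = (LP (LK LD1_c31 LD2_c47 LD3_c25)) :=
  Lgr Lrot23 (Lpr_ct (f243734 IH) (Lpr_ft (f327168 IH) (Lpr_ct (f298585 IH) (Lpn (LP (LK LD1_c31 LD2_c47 LD3_c25))))))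
theorem f22093 : Led Lsl_ct (LP (LK LD1_c18 LD2_c31 LD3_c56)) = (LP (LK LD1_c28 LD2_c6 LD3_c29)) :=
  Lre_c IH (LK LD1_c18 LD2_c31 LD3_c56) (LK LD1_c28 LD2_c6 LD3_c29) Lrfl Lrfl
theorem f244399 : Led Lsl_dt (LP (LK LD1_c25 LD2_c8 LD3_c41)) = (LP (LK LD1_c15 LD2_c17 LD3_c57)) :=
  Lre_d IH (LK LD1_c25 LD2_c8 LD3_c41) (LK LD1_c15 LD2_c17 LD3_c57) Lrfl Lrfl
theorem f298586 : Led Lsl_ct (LP (LK LD1_c31 LD2_c47 LD3_c25)) = (LP (LK LD1_c25 LD2_c8 LD3_c41)) :=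
  Lre_c IH (LK LD1_c31 LD2_c47 LD3_c25) (LK LD1_c25 LD2_c8 LD3_c41) Lrfl Lrfl
theorem f327028 : Led Lsl_dt (LP (LK LD1_c28 LD2_c6 LD3_c29)) = (LP (LK LD1_c31 LD2_c47 LD3_c25)) :=
  Lgr Lrot140 (Lpe (f22093 IH) (Lpe (K19.f22092 IH) (Lpe (K19.f22091 IH) (Lpr_df (K14.f22035 IH) (Lpe (f327026 IH) (Lpr_at (f326985 IH) (Lpe (K19.f298583 IH) (Lpe (f244399 IH) (Lpe (f298586 IH) (Lpn (LP (LK LD1_c31 LD2_c47 LD3_c25))))))))))))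
theorem f327030 : Led Lsl_df (LP (LK LD1_c28 LD2_c6 LD3_c29)) = (LP (LK LD1_c31 LD2_c47 LD3_c25)) :=
  Lgr Lrot38 (Lpr_dt (f327028 IH) (Lpn (LP (LK LD1_c31 LD2_c47 LD3_c25))))
theorem f22062 : Led Lsl_ct (LP (LK LD1_c28 LD2_c6 LD3_c29)) = (LP (LK LD1_c18 LD2_c31 LD3_c56)) :=
  Lre_c IH (LK LD1_c28 LD2_c6 LD3_c29) (LK LD1_c18 LD2_c31 LD3_c56) Lrfl Lrfl
theorem f22064 : Led Lsl_dt (LP (LK LD1_c8 LD2_c14 LD3_c15)) = (LP (LK LD1_c15 LD2_c29 LD3_c54)) :=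
  Lre_d IH (LK LD1_c8 LD2_c14 LD3_c15) (LK LD1_c15 LD2_c29 LD3_c54) Lrfl Lrfl
theorem f22065 : Led Lsl_ct (LP (LK LD1_c15 LD2_c29 LD3_c54)) = (LP (LK LD1_c25 LD2_c23 LD3_c3)) :=
  Lre_c IH (LK LD1_c15 LD2_c29 LD3_c54) (LK LD1_c25 LD2_c23 LD3_c3) Lrfl Lrfl
theorem f327181 : Led Lsl_at (LP (LK LD1_c27 LD2_c24 LD3_c3)) = (LP (LK LD1_c25 LD2_c23 LD3_c3)) :=
  Lgr Lrot33 (Lpr_ff (f327172 IH) (Lpe (f327030 IH) (Lpr_ct (f22062 IH) (Lpr_dt (K19.f22061 IH) (Lpr_ct (K19.f22060 IH) (Lpr_dt (K13.f22052 IH) (Lpr_ct (K17.f22063 IH) (Lpr_dt (f22064 IH) (Lpr_ct (f22065 IH) (Lpn (LP (LK LD1_c25 LD2_c23 LD3_c3))))))))))))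
theorem f327164 : Led Lsl_at (LP (LK LD1_c29 LD2_c13 LD3_c46)) = (LP (LK LD1_c31 LD2_c47 LD3_c25)) :=
  Lgr Lrot107 (Lpe (f296241 IH) (Lpr_af (f327159 IH) (Lpe (f298586 IH) (Lpn (LP (LK LD1_c31 LD2_c47 LD3_c25))))))
theorem f327190 : Led Lsl_ff (LP (LK LD1_c29 LD2_c13 LD3_c46)) = (LP (LK LD1_c25 LD2_c23 LD3_c3)) :=
  Lgr Lrot30 (Lpr_at (f327164 IH) (Lpe (f327172 IH) (Lpr_at (f327181 IH) (Lpn (LP (LK LD1_c25 LD2_c23 LD3_c3))))))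
theorem f327196 : Led Lsl_ft (LP (LK LD1_c29 LD2_c13 LD3_c46)) = (LP (LK LD1_c25 LD2_c23 LD3_c3)) :=
  Lgr Lrot48 (Lpr_ff (f327190 IH) (Lpn (LP (LK LD1_c25 LD2_c23 LD3_c3))))
theorem f327183 : Led Lsl_af (LP (LK LD1_c27 LD2_c24 LD3_c3)) = (LP (LK LD1_c25 LD2_c23 LD3_c3)) :=
  Lgr Lrot0 (Lpr_at (f327181 IH) (Lpn (LP (LK LD1_c25 LD2_c23 LD3_c3))))
theorem f327179 : Led Lsl_ft (LP (LK LD1_c27 LD2_c24 LD3_c3)) = (LP (LK LD1_c31 LD2_c47 LD3_c25)) :=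
  Lgr Lrot48 (Lpr_ff (f327172 IH) (Lpn (LP (LK LD1_c31 LD2_c47 LD3_c25))))
theorem f327200 : Led Lsl_af (LP (LK LD1_c29 LD2_c13 LD3_c46)) = (LP (LK LD1_c31 LD2_c47 LD3_c25)) :=
  Lgr Lrot45 (Lpr_ft (f327196 IH) (Lpe (f327183 IH) (Lpr_ft (f327179 IH) (Lpn (LP (LK LD1_c31 LD2_c47 LD3_c25))))))
theorem f327213 : Led Lsl_at (LP (LK LD1_c27 LD2_c46 LD3_c7)) = (LP (LK LD1_c28 LD2_c6 LD3_c29)) :=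
  Lgr Lrot51 (Lpr_df (f327078 IH) (Lpr_af (f327200 IH) (Lpe (f327028 IH) (Lpn (LP (LK LD1_c28 LD2_c6 LD3_c29))))))
theorem f212986 : Led Lsl_ct (LP (LK LD1_c2 LD2_c33 LD3_c14)) = (LP (LK LD1_c5 LD2_c12 LD3_c46)) :=
  Lre_c IH (LK LD1_c2 LD2_c33 LD3_c14) (LK LD1_c5 LD2_c12 LD3_c46) Lrfl Lrfl
theorem f251007 : Led Lsl_bt (LP (LK LD1_c2 LD2_c33 LD3_c14)) = (LP (LK LD1_c5 LD2_c12 LD3_c37)) :=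
  Lre_b IH (LK LD1_c2 LD2_c33 LD3_c14) (LK LD1_c5 LD2_c12 LD3_c37) Lrfl Lrfl
theorem f277597 : Led Lsl_bt (LP (LK LD1_c8 LD2_c36 LD3_c43)) = (LP (LK LD1_c10 LD2_c15 LD3_c38)) :=
  Lgr Lrot35 (Lpe (K18.f243947 IH) (Lpe (K19.f243943 IH) (Lpr_ff (K16.f277587 IH) (Lpn (LP (LK LD1_c10 LD2_c15 LD3_c38))))))
theorem f314534 : Led Lsl_bf (LP (LK LD1_c5 LD2_c35 LD3_c36)) = (LP (LK LD1_c8 LD2_c9 LD3_c43)) :=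
  Lgr Lrot24 (Lpr_bt (K19.f314531 IH) (Lpn (LP (LK LD1_c8 LD2_c9 LD3_c43))))
theorem f316699 : Led Lsl_gt (LP (LK LD1_c11 LD2_c9 LD3_c1)) = (LP (LK LD1_c15 LD2_c17 LD3_c57)) :=
  Lgr Lrot65 (Lpr_cf (K18.f244295 IH) (Lpr_bt (f277597 IH) (Lpe (K14.f183951 IH) (Lpe (f251007 IH) (Lpr_ct (f212986 IH) (Lpr_gf (K20.f316683 IH) (Lpe (K20.f212981 IH) (Lpe (K19.f246953 IH) (Lpr_bf (f314534 IH) (Lpe (K19.f298580 IH) (Lpn (LP (LK LD1_c15 LD2_c17 LD3_c57)))))))))))))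
theorem f244367 : Led Lsl_gt (LP (LK LD1_c15 LD2_c17 LD3_c58)) = (LP (LK LD1_c25 LD2_c8 LD3_c42)) :=
  Lre_g IH (LK LD1_c15 LD2_c17 LD3_c58) (LK LD1_c25 LD2_c8 LD3_c42) Lrfl Lrfl
theorem f296464 : Led Lsl_gt (LP (LK LD1_c25 LD2_c8 LD3_c42)) = (LP (LK LD1_c20 LD2_c2 LD3_c55)) :=
  Lgr Lrot46 (Lpe (f244367 IH) (Lpr_ft (K18.f296452 IH) (Lpe (K18.f244317 IH) (Lpn (LP (LK LD1_c20 LD2_c2 LD3_c55))))))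
theorem f296466 : Led Lsl_ct (LP (LK LD1_c31 LD2_c47 LD3_c27)) = (LP (LK LD1_c25 LD2_c8 LD3_c42)) :=
  Lre_c IH (LK LD1_c31 LD2_c47 LD3_c27) (LK LD1_c25 LD2_c8 LD3_c42) Lrfl Lrfl
theorem f298448 : Led Lsl_ct (LP (LK LD1_c29 LD2_c15 LD3_c53)) = (LP (LK LD1_c20 LD2_c2 LD3_c27)) :=
  Lre_c IH (LK LD1_c29 LD2_c15 LD3_c53) (LK LD1_c20 LD2_c2 LD3_c27) Lrfl Lrfl
theorem f244434 : Led Lsl_ct (LP (LK LD1_c25 LD2_c8 LD3_c42)) = (LP (LK LD1_c31 LD2_c47 LD3_c27)) :=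
  Lre_c IH (LK LD1_c25 LD2_c8 LD3_c42) (LK LD1_c31 LD2_c47 LD3_c27) Lrfl Lrfl
theorem f298592 : Led Lsl_gf (LP (LK LD1_c29 LD2_c15 LD3_c53)) = (LP (LK LD1_c31 LD2_c47 LD3_c27)) :=
  Lgr Lrot104 (Lpr_ct (f298448 IH) (Lpe (K18.f296851 IH) (Lpe (K18.f296850 IH) (Lpr_gf (K18.f298590 IH) (Lpe (K19.f22074 IH) (Lpr_gf (K17.f244432 IH) (Lpe (K18.f220315 IH) (Lpr_gt (f244367 IH) (Lpr_ct (f244434 IH) (Lpn (LP (LK LD1_c31 LD2_c47 LD3_c27))))))))))))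
theorem f327032 : Led Lsl_gf (LP (LK LD1_c28 LD2_c6 LD3_c29)) = (LP (LK LD1_c25 LD2_c0 LD3_c43)) :=
  Lgr Lrot143 (Lpr_dt (f327028 IH) (Lpe (f298585 IH) (Lpe (f296378 IH) (Lpe (f316699 IH) (Lpe (K18.f244307 IH) (Lpe (f296464 IH) (Lpe (f296466 IH) (Lpe (f298592 IH) (Lpe (K18.f296857 IH) (Lpn (LP (LK LD1_c25 LD2_c0 LD3_c43))))))))))))
theorem f296874 : Led Lsl_gt (LP (LK LD1_c31 LD2_c44 LD3_c31)) = (LP (LK LD1_c25 LD2_c0 LD3_c43)) :=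
  Lre_g IH (LK LD1_c31 LD2_c44 LD3_c31) (LK LD1_c25 LD2_c0 LD3_c43) Lrfl Lrfl
theorem f327228 : Led Lsl_ff (LP (LK LD1_c27 LD2_c46 LD3_c7)) = (LP (LK LD1_c31 LD2_c44 LD3_c31)) :=
  Lgr Lrot52 (Lpr_at (f327213 IH) (Lpr_gf (f327032 IH) (Lpe (f296874 IH) (Lpn (LP (LK LD1_c31 LD2_c44 LD3_c31))))))
theorem f22075 : Led Lsl_dt (LP (LK LD1_c15 LD2_c29 LD3_c54)) = (LP (LK LD1_c8 LD2_c14 LD3_c15)) :=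
  Lre_d IH (LK LD1_c15 LD2_c29 LD3_c54) (LK LD1_c8 LD2_c14 LD3_c15) Lrfl Lrfl
theorem f22094 : Led Lsl_ct (LP (LK LD1_c25 LD2_c23 LD3_c3)) = (LP (LK LD1_c15 LD2_c29 LD3_c54)) :=
  Lre_c IH (LK LD1_c25 LD2_c23 LD3_c3) (LK LD1_c15 LD2_c29 LD3_c54) Lrfl Lrfl
theorem f327230 : Led Lsl_dt (LP (LK LD1_c31 LD2_c44 LD3_c31)) = (LP (LK LD1_c25 LD2_c23 LD3_c3)) :=
  Lgr Lrot159 (Lpe (f327228 IH) (Lpr_at (f327213 IH) (Lpe (f22093 IH) (Lpe (K19.f22092 IH) (Lpe (K19.f22091 IH) (Lpr_df (K14.f22035 IH) (Lpe (K19.f22074 IH) (Lpe (f22075 IH) (Lpe (f22094 IH) (Lpn (LP (LK LD1_c25 LD2_c23 LD3_c3))))))))))))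
theorem f296507 : Led Lsl_at (LP (LK LD1_c15 LD2_c11 LD3_c58)) = (LP (LK LD1_c10 LD2_c8 LD3_c56)) :=
  Lgr Lrot100 (Lpr_af (f296505 IH) (Lpn (LP (LK LD1_c10 LD2_c8 LD3_c56))))
theorem f260121 : Led Lsl_ft (LP (LK LD1_c10 LD2_c8 LD3_c56)) = (LP (LK LD1_c5 LD2_c9 LD3_c11)) :=
  Lre_f IH (LK LD1_c10 LD2_c8 LD3_c56) (LK LD1_c5 LD2_c9 LD3_c11) Lrfl Lrfl
theorem f296513 : Led Lsl_af (LP (LK LD1_c8 LD2_c4 LD3_c23)) = (LP (LK LD1_c5 LD2_c9 LD3_c11)) :=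
  Lgr Lrot45 (Lpr_ft (K18.f296447 IH) (Lpr_at (f296507 IH) (Lpr_ft (f260121 IH) (Lpn (LP (LK LD1_c5 LD2_c9 LD3_c11))))))
theorem f298626 : Led Lsl_gt (LP (LK LD1_c10 LD2_c8 LD3_c56)) = (LP (LK LD1_c15 LD2_c11 LD3_c36)) :=
  Lgr Lrot5 (Lpr_ft (f260121 IH) (Lpe (f296513 IH) (Lpr_gf (K19.f298604 IH) (Lpn (LP (LK LD1_c15 LD2_c11 LD3_c36))))))
theorem f260120 : Led Lsl_dt (LP (LK LD1_c10 LD2_c8 LD3_c56)) = (LP (LK LD1_c18 LD2_c29 LD3_c2)) :=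
  Lre_d IH (LK LD1_c10 LD2_c8 LD3_c56) (LK LD1_c18 LD2_c29 LD3_c2) Lrfl Lrfl
theorem f262408 : Led Lsl_gt (LP (LK LD1_c25 LD2_c0 LD3_c51)) = (LP (LK LD1_c15 LD2_c11 LD3_c57)) :=
  Lre_g IH (LK LD1_c25 LD2_c0 LD3_c51) (LK LD1_c15 LD2_c11 LD3_c57) Lrfl Lrfl
theorem f296500 : Led Lsl_gf (LP (LK LD1_c25 LD2_c0 LD3_c51)) = (LP (LK LD1_c18 LD2_c29 LD3_c2)) :=
  Lgr Lrot47 (Lpr_gt (f262408 IH) (Lpr_af (K19.f296493 IH) (Lpe (K19.f260117 IH) (Lpn (LP (LK LD1_c18 LD2_c29 LD3_c2))))))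
theorem f298611 : Led Lsl_ct (LP (LK LD1_c15 LD2_c11 LD3_c36)) = (LP (LK LD1_c8 LD2_c4 LD3_c13)) :=
  Lre_c IH (LK LD1_c15 LD2_c11 LD3_c36) (LK LD1_c8 LD2_c4 LD3_c13) Lrfl Lrfl
theorem f298642 : Led Lsl_ct (LP (LK LD1_c25 LD2_c0 LD3_c51)) = (LP (LK LD1_c31 LD2_c44 LD3_c31)) :=
  Lgr Lrot152 (Lpr_gf (f296500 IH) (Lpe (f260120 IH) (Lpr_gt (f298626 IH) (Lpr_ct (f298611 IH) (Lpr_gt (K16.f258992 IH) (Lpr_ct (K18.f259005 IH) (Lpe (K18.f296856 IH) (Lpe (K18.f287278 IH) (Lpe (f296874 IH) (Lpn (LP (LK LD1_c31 LD2_c44 LD3_c31))))))))))))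
theorem f263278 : Led Lsl_ft (LP (LK LD1_c5 LD2_c1 LD3_c4)) = (LP (LK LD1_c9 LD2_c52 LD3_c35)) :=
  Lre_f IH (LK LD1_c5 LD2_c1 LD3_c4) (LK LD1_c9 LD2_c52 LD3_c35) Lrfl Lrfl
theorem f33168 : Led Lsl_ft (LP (LK LD1_c10 LD2_c7 LD3_c32)) = (LP (LK LD1_c5 LD2_c8 LD3_c33)) :=
  Lre_f IH (LK LD1_c10 LD2_c7 LD3_c32) (LK LD1_c5 LD2_c8 LD3_c33) Lrfl Lrfl
theorem f263279 : Led Lsl_bt (LP (LK LD1_c9 LD2_c52 LD3_c35)) = (LP (LK LD1_c10 LD2_c7 LD3_c32)) :=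
  Lgr Lrot35 (Lpe (f263278 IH) (Lpr_bf (K20.f263270 IH) (Lpe (f33168 IH) (Lpn (LP (LK LD1_c10 LD2_c7 LD3_c32))))))
theorem f314538 : Led Lsl_df (LP (LK LD1_c9 LD2_c52 LD3_c35)) = (LP (LK LD1_c8 LD2_c9 LD3_c43)) :=
  Lgr Lrot12 (Lpr_bt (f263279 IH) (Lpr_dt (K19.f314195 IH) (Lpr_bt (K19.f314531 IH) (Lpn (LP (LK LD1_c8 LD2_c9 LD3_c43))))))
theorem f263289 : Led Lsl_ct (LP (LK LD1_c9 LD2_c52 LD3_c35)) = (LP (LK LD1_c18 LD2_c4 LD3_c40)) :=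
  Lre_c IH (LK LD1_c9 LD2_c52 LD3_c35) (LK LD1_c18 LD2_c4 LD3_c40) Lrfl Lrfl
theorem f327232 : Led Lsl_df (LP (LK LD1_c25 LD2_c0 LD3_c51)) = (LP (LK LD1_c18 LD2_c4 LD3_c40)) :=
  Lgr Lrot43 (Lpr_ct (f298642 IH) (Lpr_dt (f327230 IH) (Lpr_ct (f22094 IH) (Lpr_dt (f22075 IH) (Lpr_ct (K19.f22074 IH) (Lpe (K14.f22035 IH) (Lpr_ct (K19.f22091 IH) (Lpr_dt (K19.f22092 IH) (Lpr_ct (f22093 IH) (Lpr_dt (f327028 IH) (Lpr_ct (f298586 IH) (Lpr_dt (f244399 IH) (Lpr_ct (K19.f298583 IH) (Lpe (f314538 IH) (Lpr_ct (f263289 IH) (Lpn (LP (LK LD1_c18 LD2_c4 LD3_c40))))))))))))))))))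
theorem f327238 : Led Lsl_ft (LP (LK LD1_c18 LD2_c4 LD3_c40)) = (LP (LK LD1_c9 LD2_c52 LD3_c32)) :=
  Lre_f IH (LK LD1_c18 LD2_c4 LD3_c40) (LK LD1_c9 LD2_c52 LD3_c32) Lrfl Lrfl
theorem f327239 : Led Lsl_at (LP (LK LD1_c9 LD2_c52 LD3_c32)) = (LP (LK LD1_c10 LD2_c10 LD3_c19)) :=
  Lgr Lrot33 (Lpe (f327238 IH) (Lpe (f327232 IH) (Lpr_ct (f298642 IH) (Lpr_dt (f327230 IH) (Lpr_ct (f22094 IH) (Lpr_dt (f22075 IH) (Lpr_ct (K19.f22074 IH) (Lpe (K14.f22035 IH) (Lpr_ct (K19.f22091 IH) (Lpn (LP (LK LD1_c10 LD2_c10 LD3_c19))))))))))))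
theorem f327254 : Led Lsl_gt (LP (LK LD1_c18 LD2_c4 LD3_c40)) = (LP (LK LD1_c18 LD2_c31 LD3_c55)) :=
  Lgr Lrot5 (Lpr_ft (f327238 IH) (Lpr_at (f327239 IH) (Lpe (K19.f22080 IH) (Lpn (LP (LK LD1_c18 LD2_c31 LD3_c55))))))
theorem f260115 : Led Lsl_ct (LP (LK LD1_c8 LD2_c5 LD3_c28)) = (LP (LK LD1_c10 LD2_c8 LD3_c56)) :=
  Lgr Lrot59 (Lpr_cf (K19.f260084 IH) (Lpn (LP (LK LD1_c10 LD2_c8 LD3_c56))))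
theorem f298638 : Led Lsl_cf (LP (LK LD1_c18 LD2_c21 LD3_c38)) = (LP (LK LD1_c18 LD2_c31 LD3_c55)) :=
  Lgr Lrot166 (Lpr_gt (K19.f251486 IH) (Lpr_dt (K19.f265932 IH) (Lpr_gt (K19.f296359 IH) (Lpr_dt (K19.f259104 IH) (Lpr_ct (f260115 IH) (Lpe (K19.f260105 IH) (Lpr_gf (K19.f298632 IH) (Lpe (K19.f22092 IH) (Lpe (K19.f22080 IH) (Lpn (LP (LK LD1_c18 LD2_c31 LD3_c55))))))))))))
theorem f251479 : Led Lsl_cf (LP (LK LD1_c9 LD2_c52 LD3_c41)) = (LP (LK LD1_c10 LD2_c3 LD3_c7)) :=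
  Lgr Lrot11 (Lpr_ct (K20.f251470 IH) (Lpn (LP (LK LD1_c10 LD2_c3 LD3_c7))))
theorem f251482 : Led Lsl_ct (LP (LK LD1_c27 LD2_c46 LD3_c22)) = (LP (LK LD1_c18 LD2_c4 LD3_c54)) :=
  Lre_c IH (LK LD1_c27 LD2_c46 LD3_c22) (LK LD1_c18 LD2_c4 LD3_c54) Lrfl Lrfl
theorem f327256 : Led Lsl_gt (LP (LK LD1_c25 LD2_c0 LD3_c52)) = (LP (LK LD1_c27 LD2_c46 LD3_c22)) :=
  Lgr Lrot150 (Lpe (K18.f296446 IH) (Lpe (f262408 IH) (Lpr_df (f327232 IH) (Lpr_gt (f327254 IH) (Lpe (f298638 IH) (Lpr_gt (K19.f251486 IH) (Lpe (f251479 IH) (Lpe (K20.f251481 IH) (Lpe (f251482 IH) (Lpn (LP (LK LD1_c27 LD2_c46 LD3_c22))))))))))))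
theorem f327258 : Led Lsl_df (LP (LK LD1_c18 LD2_c4 LD3_c40)) = (LP (LK LD1_c25 LD2_c0 LD3_c51)) :=
  Lgr Lrot155 (Lpr_gt (f327254 IH) (Lpe (f298638 IH) (Lpr_gt (K19.f251486 IH) (Lpe (f251479 IH) (Lpr_dt (K20.f251493 IH) (Lpe (f251482 IH) (Lpe (f327256 IH) (Lpe (K18.f296446 IH) (Lpe (f262408 IH) (Lpn (LP (LK LD1_c25 LD2_c0 LD3_c51))))))))))))
theorem f327262 : Led Lsl_ft (LP (LK LD1_c18 LD2_c4 LD3_c39)) = (LP (LK LD1_c25 LD2_c0 LD3_c51)) :=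
  Lgr Lrot54 (Lpe (K19.f3759 IH) (Lpe (f327238 IH) (Lpr_df (f327258 IH) (Lpn (LP (LK LD1_c25 LD2_c0 LD3_c51))))))
theorem f265656 : Led Lsl_ct (LP (LK LD1_c17 LD2_c35 LD3_c57)) = (LP (LK LD1_c27 LD2_c24 LD3_c3)) :=
  Lre_c IH (LK LD1_c17 LD2_c35 LD3_c57) (LK LD1_c27 LD2_c24 LD3_c3) Lrfl Lrfl
theorem f327266 : Led Lsl_af (LP (LK LD1_c18 LD2_c29 LD3_c0)) = (LP (LK LD1_c25 LD2_c0 LD3_c51)) :=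
  Lgr Lrot31 (Lpe (f296528 IH) (Lpr_gf (K19.f296516 IH) (Lpr_ft (f327262 IH) (Lpn (LP (LK LD1_c25 LD2_c0 LD3_c51))))))
theorem f327268 : Led Lsl_dt (LP (LK LD1_c27 LD2_c24 LD3_c3)) = (LP (LK LD1_c28 LD2_c3 LD3_c18)) :=
  Lgr Lrot120 (Lpe (f265656 IH) (Lpe (K18.f243737 IH) (Lpe (K18.f243730 IH) (Lpe (f274707 IH) (Lpe (K19.f252737 IH) (Lpe (f252730 IH) (Lpr_ft (f327262 IH) (Lpe (f327266 IH) (Lpe (f298551 IH) (Lpn (LP (LK LD1_c28 LD2_c3 LD3_c18))))))))))))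
theorem f265668 : Led Lsl_gt (LP (LK LD1_c27 LD2_c24 LD3_c3)) = (LP (LK LD1_c32 LD2_c24 LD3_c38)) :=
  Lre_g IH (LK LD1_c27 LD2_c24 LD3_c3) (LK LD1_c32 LD2_c24 LD3_c38) Lrfl Lrfl
theorem f327215 : Led Lsl_gf (LP (LK LD1_c29 LD2_c13 LD3_c46)) = (LP (LK LD1_c32 LD2_c24 LD3_c38)) :=
  Lgr Lrot76 (Lpr_af (f327200 IH) (Lpe (f327179 IH) (Lpr_gt (f265668 IH) (Lpn (LP (LK LD1_c32 LD2_c24 LD3_c38))))))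
theorem f327217 : Led Lsl_ct (LP (LK LD1_c27 LD2_c38 LD3_c58)) = (LP (LK LD1_c32 LD2_c24 LD3_c38)) :=
  Lgr Lrot152 (Lpe (K16.f274740 IH) (Lpe (K16.f243729 IH) (Lpe (K19.f299053 IH) (Lpr_ct (K18.f286739 IH) (Lpe (f326978 IH) (Lpr_ct (K18.f183148 IH) (Lpe (f296246 IH) (Lpe (f296242 IH) (Lpr_gf (f327215 IH) (Lpn (LP (LK LD1_c32 LD2_c24 LD3_c38))))))))))))
theorem f327220 : Led Lsl_cf (LP (LK LD1_c27 LD2_c38 LD3_c58)) = (LP (LK LD1_c32 LD2_c24 LD3_c38)) :=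
  Lgr Lrot11 (Lpr_ct (f327217 IH) (Lpn (LP (LK LD1_c32 LD2_c24 LD3_c38))))
theorem f327082 : Led Lsl_gf (LP (LK LD1_c27 LD2_c46 LD3_c7)) = (LP (LK LD1_c18 LD2_c28 LD3_c27)) :=
  Lgr Lrot143 (Lpr_dt (f327076 IH) (Lpe (f296241 IH) (Lpe (f296240 IH) (Lpr_gf (K18.f296238 IH) (Lpe (K18.f244006 IH) (Lpe (f244325 IH) (Lpr_cf (f298525 IH) (Lpe (f298520 IH) (Lpr_dt (f287228 IH) (Lpn (LP (LK LD1_c18 LD2_c28 LD3_c27))))))))))))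
theorem f327086 : Led Lsl_gt (LP (LK LD1_c27 LD2_c46 LD3_c7)) = (LP (LK LD1_c29 LD2_c15 LD3_c52)) :=
  Lgr Lrot46 (Lpr_gf (f327082 IH) (Lpr_ft (f296882 IH) (Lpr_at (f296879 IH) (Lpn (LP (LK LD1_c29 LD2_c15 LD3_c52))))))
theorem f243736 : Led Lsl_dt (LP (LK LD1_c20 LD2_c2 LD3_c22)) = (LP (LK LD1_c11 LD2_c8 LD3_c44)) :=
  Lre_d IH (LK LD1_c20 LD2_c2 LD3_c22) (LK LD1_c11 LD2_c8 LD3_c44) Lrfl Lrfl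
theorem f327222 : Led Lsl_gt (LP (LK LD1_c27 LD2_c38 LD3_c58)) = (LP (LK LD1_c20 LD2_c2 LD3_c22)) :=
  Lgr Lrot180 (Lpr_ct (f327217 IH) (Lpe (f327215 IH) (Lpe (f327078 IH) (Lpr_gt (f327086 IH) (Lpr_dt (K18.f244515 IH) (Lpr_ct (K18.f244481 IH) (Lpe (K17.f201001 IH) (Lpe (K20.f243731 IH) (Lpe (f243736 IH) (Lpn (LP (LK LD1_c20 LD2_c2 LD3_c22))))))))))))
theorem f320968 : Led Lsl_ct (LP (LK LD1_c20 LD2_c2 LD3_c22)) = (LP (LK LD1_c29 LD2_c15 LD3_c44)) :=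
  Lre_c IH (LK LD1_c20 LD2_c2 LD3_c22) (LK LD1_c29 LD2_c15 LD3_c44) Lrfl Lrfl
theorem f251494 : Led Lsl_ct (LP (LK LD1_c18 LD2_c4 LD3_c54)) = (LP (LK LD1_c27 LD2_c46 LD3_c22)) :=
  Lre_c IH (LK LD1_c18 LD2_c4 LD3_c54) (LK LD1_c27 LD2_c46 LD3_c22) Lrfl Lrfl
theorem f327276 : Led Lsl_df (LP (LK LD1_c29 LD2_c15 LD3_c44)) = (LP (LK LD1_c27 LD2_c46 LD3_c22)) :=
  Lgr Lrot162 (Lpe (f320968 IH) (Lpe (f327222 IH) (Lpr_cf (f327220 IH) (Lpe (f265668 IH) (Lpr_dt (f327268 IH) (Lpr_gt (f265914 IH) (Lpr_ct (f265913 IH) (Lpe (K20.f265909 IH) (Lpr_ct (f251494 IH) (Lpn (LP (LK LD1_c27 LD2_c46 LD3_c22))))))))))))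
theorem f320976 : Led Lsl_ct (LP (LK LD1_c29 LD2_c15 LD3_c44)) = (LP (LK LD1_c20 LD2_c2 LD3_c22)) :=
  Lre_c IH (LK LD1_c29 LD2_c15 LD3_c44) (LK LD1_c20 LD2_c2 LD3_c22) Lrfl Lrfl
theorem f320966 : Led Lsl_cf (LP (LK LD1_c8 LD2_c6 LD3_c47)) = (LP (LK LD1_c11 LD2_c8 LD3_c44)) :=
  Lgr Lrot11 (Lpr_ct (K20.f320953 IH) (Lpn (LP (LK LD1_c11 LD2_c8 LD3_c44))))
theorem f326770 : Led Lsl_ct (LP (LK LD1_c15 LD2_c12 LD3_c49)) = (LP (LK LD1_c18 LD2_c27 LD3_c35)) :=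
  Lgr Lrot59 (Lpr_cf (f326761 IH) (Lpn (LP (LK LD1_c18 LD2_c27 LD3_c35))))
theorem f251497 : Led Lsl_ft (LP (LK LD1_c9 LD2_c52 LD3_c41)) = (LP (LK LD1_c18 LD2_c4 LD3_c55)) :=
  Lre_f IH (LK LD1_c9 LD2_c52 LD3_c41) (LK LD1_c18 LD2_c4 LD3_c55) Lrfl Lrfl
theorem f327283 : Led Lsl_af (LP (LK LD1_c18 LD2_c27 LD3_c35)) = (LP (LK LD1_c18 LD2_c4 LD3_c55)) :=
  Lgr Lrot109 (Lpe (f326770 IH) (Lpr_df (K20.f312279 IH) (Lpr_cf (f320966 IH) (Lpe (f243736 IH) (Lpe (f320976 IH) (Lpr_df (f327276 IH) (Lpe (f251494 IH) (Lpe (K20.f251493 IH) (Lpr_ft (f251497 IH) (Lpn (LP (LK LD1_c18 LD2_c4 LD3_c55))))))))))))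
theorem f312271 : Led Lsl_af (LP (LK LD1_c8 LD2_c4 LD3_c46)) = (LP (LK LD1_c8 LD2_c3 LD3_c20)) :=
  Lgr Lrot0 (Lpr_at (K19.f312269 IH) (Lpn (LP (LK LD1_c8 LD2_c3 LD3_c20))))
theorem f304193 : Led Lsl_ct (LP (LK LD1_c15 LD2_c10 LD3_c0)) = (LP (LK LD1_c8 LD2_c3 LD3_c20)) :=
  Lre_c IH (LK LD1_c15 LD2_c10 LD3_c0) (LK LD1_c8 LD2_c3 LD3_c20) Lrfl Lrfl
theorem f326756 : Led Lsl_af (LP (LK LD1_c15 LD2_c10 LD3_c0)) = (LP (LK LD1_c10 LD2_c8 LD3_c2)) :=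
  Lgr Lrot68 (Lpr_ct (f304193 IH) (Lpe (f312271 IH) (Lpr_ct (f326753 IH) (Lpn (LP (LK LD1_c10 LD2_c8 LD3_c2))))))
theorem f327293 : Led Lsl_et (LP (LK LD1_c15 LD2_c10 LD3_c0)) = (LP (LK LD1_c18 LD2_c4 LD3_c55)) :=
  Lgr Lrot123 (Lpr_af (f326756 IH) (Lpe (f197186 IH) (Lpr_af (f327283 IH) (Lpn (LP (LK LD1_c18 LD2_c4 LD3_c55))))))
theorem f327308 : Led Lsl_ef (LP (LK LD1_c15 LD2_c10 LD3_c0)) = (LP (LK LD1_c18 LD2_c4 LD3_c55)) :=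
  Lgr Lrot88 (Lpr_et (f327293 IH) (Lpn (LP (LK LD1_c18 LD2_c4 LD3_c55))))
theorem f327289 : Led Lsl_at (LP (LK LD1_c18 LD2_c27 LD3_c35)) = (LP (LK LD1_c18 LD2_c4 LD3_c55)) :=
  Lgr Lrot100 (Lpr_af (f327283 IH) (Lpn (LP (LK LD1_c18 LD2_c4 LD3_c55))))
theorem f327310 : Led Lsl_at (LP (LK LD1_c15 LD2_c10 LD3_c0)) = (LP (LK LD1_c10 LD2_c8 LD3_c2)) :=
  Lgr Lrot80 (Lpr_ef (f327308 IH) (Lpe (f327289 IH) (Lpe (f197198 IH) (Lpn (LP (LK LD1_c10 LD2_c8 LD3_c2))))))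
theorem f239923 : Led Lsl_gt (LP (LK LD1_c10 LD2_c8 LD3_c3)) = (LP (LK LD1_c5 LD2_c8 LD3_c50)) :=
  Lre_g IH (LK LD1_c10 LD2_c8 LD3_c3) (LK LD1_c5 LD2_c8 LD3_c50) Lrfl Lrfl
theorem f327314 : Led Lsl_ff (LP (LK LD1_c15 LD2_c10 LD3_c0)) = (LP (LK LD1_c10 LD2_c8 LD3_c3)) :=
  Lgr Lrot52 (Lpr_at (f327310 IH) (Lpe (f197185 IH) (Lpe (f239923 IH) (Lpn (LP (LK LD1_c10 LD2_c8 LD3_c3))))))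
theorem f327320 : Led Lsl_ft (LP (LK LD1_c15 LD2_c10 LD3_c0)) = (LP (LK LD1_c10 LD2_c8 LD3_c3)) :=
  Lgr Lrot48 (Lpr_ff (f327314 IH) (Lpn (LP (LK LD1_c10 LD2_c8 LD3_c3))))
theorem f266097 : Led Lsl_ef (LP (LK LD1_c10 LD2_c8 LD3_c3)) = (LP (LK LD1_c9 LD2_c51 LD3_c53)) :=
  Lgr Lrot114 (Lpr_gt (f239923 IH) (Lpe (f197184 IH) (Lpr_dt (K13.f190275 IH) (Lpe (K10.f197205 IH) (Lpe (K1.f27873 IH) (Lpr_et (K18.f47003 IH) (Lpe (K13.f184544 IH) (Lpr_dt (K15.f184546 IH) (Lpr_gt (K15.f184547 IH) (Lpr_df (K15.f266088 IH) (Lpn (LP (LK LD1_c9 LD2_c51 LD3_c53)))))))))))))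
theorem f266099 : Led Lsl_et (LP (LK LD1_c10 LD2_c8 LD3_c3)) = (LP (LK LD1_c9 LD2_c51 LD3_c53)) :=
  Lgr Lrot87 (Lpr_ef (f266097 IH) (Lpn (LP (LK LD1_c9 LD2_c51 LD3_c53))))
theorem f327324 : Led Lsl_ff (LP (LK LD1_c5 LD2_c1 LD3_c7)) = (LP (LK LD1_c9 LD2_c51 LD3_c53)) :=
  Lgr Lrot72 (Lpr_et (K20.f251468 IH) (Lpr_ft (f251497 IH) (Lpe (f327308 IH) (Lpr_ft (f327320 IH) (Lpr_et (f266099 IH) (Lpn (LP (LK LD1_c9 LD2_c51 LD3_c53))))))))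
theorem f327332 : Led Lsl_at (LP (LK LD1_c5 LD2_c1 LD3_c7)) = (LP (LK LD1_c8 LD2_c6 LD3_c48)) :=
  Lgr Lrot26 (Lpr_ff (f327324 IH) (Lpr_gt (K15.f186849 IH) (Lpe (K15.f266114 IH) (Lpn (LP (LK LD1_c8 LD2_c6 LD3_c48))))))
theorem f265978 : Led Lsl_et (LP (LK LD1_c8 LD2_c6 LD3_c48)) = (LP (LK LD1_c15 LD2_c16 LD3_c35)) :=
  Lre_e IH (LK LD1_c8 LD2_c6 LD3_c48) (LK LD1_c15 LD2_c16 LD3_c35) Lrfl Lrfl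
theorem f327340 : Led Lsl_af (LP (LK LD1_c9 LD2_c52 LD3_c41)) = (LP (LK LD1_c15 LD2_c16 LD3_c35)) :=
  Lgr Lrot50 (Lpr_et (K20.f251495 IH) (Lpr_at (f327332 IH) (Lpr_et (f265978 IH) (Lpn (LP (LK LD1_c15 LD2_c16 LD3_c35))))))
theorem f327342 : Led Lsl_at (LP (LK LD1_c9 LD2_c52 LD3_c41)) = (LP (LK LD1_c15 LD2_c16 LD3_c35)) :=
  Lgr Lrot100 (Lpr_af (f327340 IH) (Lpn (LP (LK LD1_c15 LD2_c16 LD3_c35))))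
theorem f192254 : Led Lsl_ct (LP (LK LD1_c15 LD2_c16 LD3_c35)) = (LP (LK LD1_c8 LD2_c6 LD3_c46)) :=
  Lre_c IH (LK LD1_c15 LD2_c16 LD3_c35) (LK LD1_c8 LD2_c6 LD3_c46) Lrfl Lrfl
theorem f327346 : Led Lsl_af (LP (LK LD1_c10 LD2_c3 LD3_c7)) = (LP (LK LD1_c8 LD2_c6 LD3_c46)) :=
  Lgr Lrot68 (Lpe (f251479 IH) (Lpr_at (f327342 IH) (Lpr_ct (f192254 IH) (Lpn (LP (LK LD1_c8 LD2_c6 LD3_c46))))))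
theorem f192237 : Led Lsl_bt (LP (LK LD1_c8 LD2_c6 LD3_c46)) = (LP (LK LD1_c10 LD2_c27 LD3_c50)) :=
  Lgr Lrot95 (Lpe (K18.f192236 IH) (Lpe (K18.f192235 IH) (Lpr_df (K15.f192233 IH) (Lpn (LP (LK LD1_c10 LD2_c27 LD3_c50))))))
theorem f312387 : Led Lsl_ft (LP (LK LD1_c15 LD2_c12 LD3_c49)) = (LP (LK LD1_c8 LD2_c6 LD3_c46)) :=
  Lgr Lrot75 (Lpe (K19.f312379 IH) (Lpr_ff (K19.f312385 IH) (Lpe (f192237 IH) (Lpn (LP (LK LD1_c8 LD2_c6 LD3_c46))))))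
theorem f327354 : Led Lsl_ft (LP (LK LD1_c10 LD2_c3 LD3_c7)) = (LP (LK LD1_c15 LD2_c10 LD3_c1)) :=
  Lgr Lrot101 (Lpr_af (f327346 IH) (Lpe (f312387 IH) (Lpr_af (K19.f312273 IH) (Lpn (LP (LK LD1_c15 LD2_c10 LD3_c1))))))
theorem f251484 : Led Lsl_gt (LP (LK LD1_c10 LD2_c3 LD3_c7)) = (LP (LK LD1_c18 LD2_c21 LD3_c37)) :=
  Lre_g IH (LK LD1_c10 LD2_c3 LD3_c7) (LK LD1_c18 LD2_c21 LD3_c37) Lrfl Lrfl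
theorem f327363 : Led Lsl_gt (LP (LK LD1_c18 LD2_c21 LD3_c37)) = (LP (LK LD1_c15 LD2_c12 LD3_c49)) :=
  Lgr Lrot46 (Lpe (f251484 IH) (Lpr_ft (f327354 IH) (Lpe (K19.f312273 IH) (Lpn (LP (LK LD1_c15 LD2_c12 LD3_c49))))))
theorem f218999 : Led Lsl_gt (LP (LK LD1_c8 LD2_c2 LD3_c57)) = (LP (LK LD1_c4 LD2_c1 LD3_c6)) :=
  Lre_g IH (LK LD1_c8 LD2_c2 LD3_c57) (LK LD1_c4 LD2_c1 LD3_c6) Lrfl Lrfl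
theorem f296379 : Led Lsl_et (LP (LK LD1_c15 LD2_c9 LD3_c18)) = (LP (LK LD1_c8 LD2_c2 LD3_c57)) :=
  Lre_e IH (LK LD1_c15 LD2_c9 LD3_c18) (LK LD1_c8 LD2_c2 LD3_c57) Lrfl Lrfl
theorem f320947 : Led Lsl_dt (LP (LK LD1_c15 LD2_c9 LD3_c18)) = (LP (LK LD1_c18 LD2_c21 LD3_c37)) :=
  Lgr Lrot56 (Lpr_et (f296379 IH) (Lpr_gt (f218999 IH) (Lpe (K17.f238508 IH) (Lpr_dt (K15.f226881 IH) (Lpr_gt (K12.f211433 IH) (Lpr_df (K12.f220320 IH) (Lpr_et (K18.f220314 IH) (Lpe (K19.f296371 IH) (Lpr_dt (K20.f320935 IH) (Lpr_gt (f251484 IH) (Lpn (LP (LK LD1_c18 LD2_c21 LD3_c37)))))))))))))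
theorem f318100 : Led Lsl_bf (LP (LK LD1_c8 LD2_c7 LD3_c47)) = (LP (LK LD1_c5 LD2_c12 LD3_c48)) :=
  Lgr Lrot93 (Lpr_dt (K20.f318096 IH) (Lpr_bt (K14.f190460 IH) (Lpr_dt (K20.f242315 IH) (Lpn (LP (LK LD1_c5 LD2_c12 LD3_c48))))))
theorem f320979 : Led Lsl_gt (LP (LK LD1_c15 LD2_c22 LD3_c27)) = (LP (LK LD1_c11 LD2_c8 LD3_c44)) :=
  Lgr Lrot149 (Lpe (K18.f286727 IH) (Lpr_gf (f297995 IH) (Lpe (K20.f274705 IH) (Lpr_ct (K20.f33162 IH) (Lpe (K20.f316843 IH) (Lpe (K20.f320889 IH) (Lpe (f318100 IH) (Lpr_gf (K20.f318116 IH) (Lpe (K19.f296277 IH) (Lpr_ct (K20.f320953 IH) (Lpn (LP (LK LD1_c11 LD2_c8 LD3_c44)))))))))))))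
theorem f263282 : Led Lsl_ct (LP (LK LD1_c9 LD2_c52 LD3_c33)) = (LP (LK LD1_c18 LD2_c4 LD3_c42)) :=
  Lre_c IH (LK LD1_c9 LD2_c52 LD3_c33) (LK LD1_c18 LD2_c4 LD3_c42) Lrfl Lrfl
theorem f326776 : Led Lsl_gt (LP (LK LD1_c18 LD2_c4 LD3_c42)) = (LP (LK LD1_c18 LD2_c27 LD3_c35)) :=
  Lgr Lrot150 (Lpe (f263282 IH) (Lpe (K16.f263281 IH) (Lpr_df (K16.f274686 IH) (Lpe (f297995 IH) (Lpr_ct (K18.f286727 IH) (Lpr_gt (f320979 IH) (Lpe (f320966 IH) (Lpe (K19.f312277 IH) (Lpr_cf (f326761 IH) (Lpn (LP (LK LD1_c18 LD2_c27 LD3_c35))))))))))))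
theorem f327295 : Led Lsl_gf (LP (LK LD1_c18 LD2_c4 LD3_c42)) = (LP (LK LD1_c9 LD2_c52 LD3_c41)) :=
  Lgr Lrot47 (Lpr_gt (f326776 IH) (Lpr_af (f327283 IH) (Lpe (f251497 IH) (Lpn (LP (LK LD1_c9 LD2_c52 LD3_c41))))))
theorem f274697 : Led Lsl_ct (LP (LK LD1_c18 LD2_c4 LD3_c42)) = (LP (LK LD1_c9 LD2_c52 LD3_c33)) :=
  Lre_c IH (LK LD1_c18 LD2_c4 LD3_c42) (LK LD1_c9 LD2_c52 LD3_c33) Lrfl Lrfl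
theorem f299208 : Led Lsl_ct (LP (LK LD1_c8 LD2_c9 LD3_c30)) = (LP (LK LD1_c15 LD2_c21 LD3_c61)) :=
  Lre_c IH (LK LD1_c8 LD2_c9 LD3_c30) (LK LD1_c15 LD2_c21 LD3_c61) Lrfl Lrfl
theorem f327299 : Led Lsl_gf (LP (LK LD1_c17 LD2_c52 LD3_c49)) = (LP (LK LD1_c15 LD2_c21 LD3_c61)) :=
  Lgr Lrot104 (Lpr_ct (K16.f274732 IH) (Lpe (K16.f274734 IH) (Lpe (f274697 IH) (Lpr_gf (f327295 IH) (Lpr_cf (f251479 IH) (Lpe (K19.f251486 IH) (Lpe (K20.f320927 IH) (Lpe (f310583 IH) (Lpr_ct (f299208 IH) (Lpn (LP (LK LD1_c15 LD2_c21 LD3_c61))))))))))))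
theorem f327365 : Led Lsl_gf (LP (LK LD1_c15 LD2_c9 LD3_c18)) = (LP (LK LD1_c8 LD2_c9 LD3_c30)) :=
  Lgr Lrot144 (Lpr_dt (f320947 IH) (Lpr_gt (f327363 IH) (Lpr_dt (K19.f312277 IH) (Lpr_cf (f320966 IH) (Lpe (f243736 IH) (Lpe (f327222 IH) (Lpe (K16.f274739 IH) (Lpr_gf (f327299 IH) (Lpe (f299208 IH) (Lpn (LP (LK LD1_c8 LD2_c9 LD3_c30))))))))))))
theorem f233810 : Led Lsl_et (LP (LK LD1_c8 LD2_c14 LD3_c12)) = (LP (LK LD1_c15 LD2_c29 LD3_c47)) :=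
  Lre_e IH (LK LD1_c8 LD2_c14 LD3_c12) (LK LD1_c15 LD2_c29 LD3_c47) Lrfl Lrfl
theorem f252988 : Led Lsl_et (LP (LK LD1_c9 LD2_c53 LD3_c3)) = (LP (LK LD1_c5 LD2_c1 LD3_c23)) :=
  Lre_e IH (LK LD1_c9 LD2_c53 LD3_c3) (LK LD1_c5 LD2_c1 LD3_c23) Lrfl Lrfl
theorem f252998 : Led Lsl_ct (LP (LK LD1_c15 LD2_c29 LD3_c47)) = (LP (LK LD1_c9 LD2_c53 LD3_c3)) :=
  Lgr Lrot15 (Lpe (f233810 IH) (Lpr_cf (K14.f252989 IH) (Lpe (f252988 IH) (Lpn (LP (LK LD1_c9 LD2_c53 LD3_c3))))))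
theorem f233799 : Led Lsl_et (LP (LK LD1_c15 LD2_c29 LD3_c47)) = (LP (LK LD1_c8 LD2_c14 LD3_c12)) :=
  Lre_e IH (LK LD1_c15 LD2_c29 LD3_c47) (LK LD1_c8 LD2_c14 LD3_c12) Lrfl Lrfl
theorem f216395 : Led Lsl_dt (LP (LK LD1_c4 LD2_c14 LD3_c37)) = (LP (LK LD1_c8 LD2_c28 LD3_c1)) :=
  Lre_d IH (LK LD1_c4 LD2_c14 LD3_c37) (LK LD1_c8 LD2_c28 LD3_c1) Lrfl Lrfl
theorem f233800 : Led Lsl_gt (LP (LK LD1_c8 LD2_c28 LD3_c1)) = (LP (LK LD1_c15 LD2_c53 LD3_c59)) :=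
  Lre_g IH (LK LD1_c8 LD2_c28 LD3_c1) (LK LD1_c15 LD2_c53 LD3_c59) Lrfl Lrfl
theorem f233801 : Led Lsl_dt (LP (LK LD1_c15 LD2_c29 LD3_c47)) = (LP (LK LD1_c15 LD2_c53 LD3_c59)) :=
  Lgr Lrot37 (Lpr_et (f233799 IH) (Lpr_gt (K14.f190944 IH) (Lpr_dt (K15.f190943 IH) (Lpr_gt (K15.f233748 IH) (Lpe (K10.f50909 IH) (Lpr_et (K10.f52261 IH) (Lpe (K17.f211443 IH) (Lpe (K19.f216394 IH) (Lpr_dt (f216395 IH) (Lpr_gt (f233800 IH) (Lpn (LP (LK LD1_c15 LD2_c53 LD3_c59)))))))))))))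
theorem f233808 : Led Lsl_df (LP (LK LD1_c15 LD2_c29 LD3_c47)) = (LP (LK LD1_c15 LD2_c53 LD3_c59)) :=
  Lgr Lrot38 (Lpr_dt (f233801 IH) (Lpn (LP (LK LD1_c15 LD2_c53 LD3_c59))))
theorem f233815 : Led Lsl_gt (LP (LK LD1_c8 LD2_c28 LD3_c0)) = (LP (LK LD1_c4 LD2_c14 LD3_c37)) :=
  Lre_g IH (LK LD1_c8 LD2_c28 LD3_c0) (LK LD1_c4 LD2_c14 LD3_c37) Lrfl Lrfl
theorem f314283 : Led Lsl_ct (LP (LK LD1_c8 LD2_c2 LD3_c57)) = (LP (LK LD1_c8 LD2_c28 LD3_c0)) :=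
  Lgr Lrot8 (Lpr_gt (f218999 IH) (Lpr_dt (K18.f28019 IH) (Lpr_gt (K20.f314279 IH) (Lpr_dt (K15.f252689 IH) (Lpe (f252998 IH) (Lpr_df (f233808 IH) (Lpe (f233800 IH) (Lpe (f216395 IH) (Lpe (f233815 IH) (Lpn (LP (LK LD1_c8 LD2_c28 LD3_c0))))))))))))
theorem f233822 : Led Lsl_et (LP (LK LD1_c8 LD2_c28 LD3_c0)) = (LP (LK LD1_c15 LD2_c53 LD3_c58)) :=
  Lre_e IH (LK LD1_c8 LD2_c28 LD3_c0) (LK LD1_c15 LD2_c53 LD3_c58) Lrfl Lrfl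
theorem f314289 : Led Lsl_cf (LP (LK LD1_c15 LD2_c9 LD3_c18)) = (LP (LK LD1_c15 LD2_c53 LD3_c58)) :=
  Lgr Lrot39 (Lpr_et (f296379 IH) (Lpr_ct (f314283 IH) (Lpr_et (f233822 IH) (Lpn (LP (LK LD1_c15 LD2_c53 LD3_c58))))))
theorem f314292 : Led Lsl_ct (LP (LK LD1_c15 LD2_c9 LD3_c18)) = (LP (LK LD1_c15 LD2_c53 LD3_c58)) :=
  Lgr Lrot59 (Lpr_cf (f314289 IH) (Lpn (LP (LK LD1_c15 LD2_c53 LD3_c58))))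
theorem f296836 : Led Lsl_gf (LP (LK LD1_c10 LD2_c8 LD3_c32)) = (LP (LK LD1_c5 LD2_c9 LD3_c11)) :=
  Lgr Lrot47 (Lpr_gt (K18.f296830 IH) (Lpr_af (f296505 IH) (Lpe (K19.f260083 IH) (Lpn (LP (LK LD1_c5 LD2_c9 LD3_c11))))))
theorem f287261 : Led Lsl_ct (LP (LK LD1_c10 LD2_c8 LD3_c32)) = (LP (LK LD1_c5 LD2_c8 LD3_c61)) :=
  Lre_c IH (LK LD1_c10 LD2_c8 LD3_c32) (LK LD1_c5 LD2_c8 LD3_c61) Lrfl Lrfl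
theorem f296848 : Led Lsl_dt (LP (LK LD1_c10 LD2_c8 LD3_c33)) = (LP (LK LD1_c5 LD2_c8 LD3_c61)) :=
  Lre_d IH (LK LD1_c10 LD2_c8 LD3_c33) (LK LD1_c5 LD2_c8 LD3_c61) Lrfl Lrfl
theorem f296846 : Led Lsl_ct (LP (LK LD1_c18 LD2_c28 LD3_c31)) = (LP (LK LD1_c10 LD2_c8 LD3_c33)) :=
  Lre_c IH (LK LD1_c18 LD2_c28 LD3_c31) (LK LD1_c10 LD2_c8 LD3_c33) Lrfl Lrfl
theorem f327409 : Led Lsl_gt (LP (LK LD1_c15 LD2_c53 LD3_c58)) = (LP (LK LD1_c18 LD2_c28 LD3_c31)) :=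
  Lgr Lrot150 (Lpe (f314292 IH) (Lpr_gf (f327365 IH) (Lpr_df (K18.f259124 IH) (Lpr_gt (K15.f259085 IH) (Lpr_ct (K19.f260058 IH) (Lpe (f296836 IH) (Lpr_ct (f287261 IH) (Lpe (f296848 IH) (Lpe (f296846 IH) (Lpn (LP (LK LD1_c18 LD2_c28 LD3_c31))))))))))))
theorem f233813 : Led Lsl_et (LP (LK LD1_c8 LD2_c14 LD3_c15)) = (LP (LK LD1_c4 LD2_c6 LD3_c50)) :=
  Lre_e IH (LK LD1_c8 LD2_c14 LD3_c15) (LK LD1_c4 LD2_c6 LD3_c50) Lrfl Lrfl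
theorem f233814 : Led Lsl_gt (LP (LK LD1_c15 LD2_c29 LD3_c54)) = (LP (LK LD1_c25 LD2_c23 LD3_c1)) :=
  Lre_g IH (LK LD1_c15 LD2_c29 LD3_c54) (LK LD1_c25 LD2_c23 LD3_c1) Lrfl Lrfl
theorem f233816 : Led Lsl_et (LP (LK LD1_c15 LD2_c53 LD3_c58)) = (LP (LK LD1_c8 LD2_c28 LD3_c0)) :=
  Lre_e IH (LK LD1_c15 LD2_c53 LD3_c58) (LK LD1_c8 LD2_c28 LD3_c0) Lrfl Lrfl
theorem f233817 : Led Lsl_df (LP (LK LD1_c25 LD2_c23 LD3_c1)) = (LP (LK LD1_c15 LD2_c53 LD3_c58)) :=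
  Lgr Lrot168 (Lpe (f233814 IH) (Lpe (f22064 IH) (Lpr_et (f233813 IH) (Lpe (K14.f190944 IH) (Lpe (f233799 IH) (Lpr_dt (f233801 IH) (Lpe (f233800 IH) (Lpe (f216395 IH) (Lpe (f233815 IH) (Lpe (f233816 IH) (Lpn (LP (LK LD1_c15 LD2_c53 LD3_c58)))))))))))))
theorem f233820 : Led Lsl_dt (LP (LK LD1_c25 LD2_c23 LD3_c1)) = (LP (LK LD1_c15 LD2_c53 LD3_c58)) :=
  Lgr Lrot42 (Lpr_df (f233817 IH) (Lpn (LP (LK LD1_c15 LD2_c53 LD3_c58))))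
theorem f286259 : Led Lsl_ct (LP (LK LD1_c11 LD2_c8 LD3_c46)) = (LP (LK LD1_c5 LD2_c38 LD3_c56)) :=
  Lre_c IH (LK LD1_c11 LD2_c8 LD3_c46) (LK LD1_c5 LD2_c38 LD3_c56) Lrfl Lrfl
theorem f243977 : Led Lsl_dt (LP (LK LD1_c15 LD2_c16 LD3_c31)) = (LP (LK LD1_c8 LD2_c6 LD3_c44)) :=
  Lre_d IH (LK LD1_c15 LD2_c16 LD3_c31) (LK LD1_c8 LD2_c6 LD3_c44) Lrfl Lrfl
theorem f244447 : Led Lsl_gt (LP (LK LD1_c15 LD2_c16 LD3_c31)) = (LP (LK LD1_c25 LD2_c6 LD3_c30)) :=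
  Lre_g IH (LK LD1_c15 LD2_c16 LD3_c31) (LK LD1_c25 LD2_c6 LD3_c30) Lrfl Lrfl
theorem f244451 : Led Lsl_ct (LP (LK LD1_c25 LD2_c6 LD3_c30)) = (LP (LK LD1_c31 LD2_c46 LD3_c8)) :=
  Lre_c IH (LK LD1_c25 LD2_c6 LD3_c30) (LK LD1_c31 LD2_c46 LD3_c8) Lrfl Lrfl
theorem f298587 : Led Lsl_gf (LP (LK LD1_c31 LD2_c47 LD3_c25)) = (LP (LK LD1_c31 LD2_c46 LD3_c8)) :=
  Lgr Lrot104 (Lpr_ct (f298586 IH) (Lpe (f296378 IH) (Lpr_cf (K19.f298580 IH) (Lpe (K19.f298486 IH) (Lpe (f286259 IH) (Lpe (K18.f298445 IH) (Lpe (f243977 IH) (Lpr_gt (f244447 IH) (Lpr_ct (f244451 IH) (Lpn (LP (LK LD1_c31 LD2_c46 LD3_c8))))))))))))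
theorem f327198 : Led Lsl_gf (LP (LK LD1_c31 LD2_c46 LD3_c8)) = (LP (LK LD1_c25 LD2_c23 LD3_c3)) :=
  Lgr Lrot47 (Lpe (f298587 IH) (Lpe (f327164 IH) (Lpr_ff (f327190 IH) (Lpn (LP (LK LD1_c25 LD2_c23 LD3_c3))))))
theorem f46043 : Led Lsl_gt (LP (LK LD1_c4 LD2_c2 LD3_c32)) = (LP (LK LD1_c8 LD2_c5 LD3_c39)) :=
  Lre_g IH (LK LD1_c4 LD2_c2 LD3_c32) (LK LD1_c8 LD2_c5 LD3_c39) Lrfl Lrfl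
theorem f46048 : Led Lsl_dt (LP (LK LD1_c15 LD2_c14 LD3_c27)) = (LP (LK LD1_c8 LD2_c5 LD3_c39)) :=
  Lre_d IH (LK LD1_c15 LD2_c14 LD3_c27) (LK LD1_c8 LD2_c5 LD3_c39) Lrfl Lrfl
theorem f327367 : Led Lsl_ef (LP (LK LD1_c18 LD2_c21 LD3_c37)) = (LP (LK LD1_c15 LD2_c14 LD3_c27)) :=
  Lgr Lrot167 (Lpr_gt (f327363 IH) (Lpr_dt (K19.f312277 IH) (Lpe (K19.f312283 IH) (Lpe (K18.f246113 IH) (Lpr_et (K19.f46965 IH) (Lpr_gt (K12.f46962 IH) (Lpe (K1.f46029 IH) (Lpe (K1.f46032 IH) (Lpr_gt (f46043 IH) (Lpe (f46048 IH) (Lpn (LP (LK LD1_c15 LD2_c14 LD3_c27)))))))))))))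
theorem f327371 : Led Lsl_et (LP (LK LD1_c18 LD2_c21 LD3_c37)) = (LP (LK LD1_c15 LD2_c14 LD3_c27)) :=
  Lgr Lrot87 (Lpr_ef (f327367 IH) (Lpn (LP (LK LD1_c15 LD2_c14 LD3_c27))))
theorem f320941 : Led Lsl_df (LP (LK LD1_c15 LD2_c9 LD3_c18)) = (LP (LK LD1_c18 LD2_c21 LD3_c37)) :=
  Lgr Lrot84 (Lpr_cf (f314289 IH) (Lpe (f233820 IH) (Lpe (f233814 IH) (Lpe (f22064 IH) (Lpr_gf (K17.f244432 IH) (Lpe (K17.f220234 IH) (Lpe (K19.f296371 IH) (Lpr_dt (K20.f320935 IH) (Lpr_gt (f251484 IH) (Lpn (LP (LK LD1_c18 LD2_c21 LD3_c37))))))))))))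
theorem f46566 : Led Lsl_at (LP (LK LD1_c5 LD2_c19 LD3_c47)) = (LP (LK LD1_c8 LD2_c5 LD3_c47)) :=
  Lgr Lrot80 (Lpe (K1.f46060 IH) (Lpr_af (K12.f46538 IH) (Lpe (K19.f45980 IH) (Lpn (LP (LK LD1_c8 LD2_c5 LD3_c47))))))
theorem f46987 : Led Lsl_gf (LP (LK LD1_c8 LD2_c5 LD3_c47)) = (LP (LK LD1_c8 LD2_c5 LD3_c39)) :=
  Lgr Lrot76 (Lpe (f46566 IH) (Lpr_ff (K1.f46983 IH) (Lpr_gt (f46043 IH) (Lpn (LP (LK LD1_c8 LD2_c5 LD3_c39))))))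
theorem f228941 : Led Lsl_gt (LP (LK LD1_c4 LD2_c8 LD3_c30)) = (LP (LK LD1_c8 LD2_c17 LD3_c5)) :=
  Lre_g IH (LK LD1_c4 LD2_c8 LD3_c30) (LK LD1_c8 LD2_c17 LD3_c5) Lrfl Lrfl
theorem f228940 : Led Lsl_et (LP (LK LD1_c2 LD2_c1 LD3_c36)) = (LP (LK LD1_c4 LD2_c8 LD3_c30)) :=
  Lre_e IH (LK LD1_c2 LD2_c1 LD3_c36) (LK LD1_c4 LD2_c8 LD3_c30) Lrfl Lrfl
theorem f184798 : Led Lsl_gt (LP (LK LD1_c2 LD2_c8 LD3_c17)) = (LP (LK LD1_c4 LD2_c21 LD3_c35)) :=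
  Lre_g IH (LK LD1_c2 LD2_c8 LD3_c17) (LK LD1_c4 LD2_c21 LD3_c35) Lrfl Lrfl
theorem f184799 : Led Lsl_dt (LP (LK LD1_c4 LD2_c21 LD3_c35)) = (LP (LK LD1_c8 LD2_c40 LD3_c48)) :=
  Lre_d IH (LK LD1_c4 LD2_c21 LD3_c35) (LK LD1_c8 LD2_c40 LD3_c48) Lrfl Lrfl
theorem f184800 : Led Lsl_gf (LP (LK LD1_c5 LD2_c1 LD3_c2)) = (LP (LK LD1_c8 LD2_c40 LD3_c48)) :=
  Lgr Lrot134 (Lpr_df (f184777 IH) (Lpr_et (f184795 IH) (Lpr_gt (K13.f28813 IH) (Lpe (K15.f184796 IH) (Lpr_dt (K1.f39170 IH) (Lpr_gt (K12.f177899 IH) (Lpe (K13.f182348 IH) (Lpr_et (K17.f184797 IH) (Lpr_gt (f184798 IH) (Lpr_dt (f184799 IH) (Lpn (LP (LK LD1_c8 LD2_c40 LD3_c48)))))))))))))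
theorem f228946 : Led Lsl_ef (LP (LK LD1_c8 LD2_c17 LD3_c5)) = (LP (LK LD1_c4 LD2_c21 LD3_c35)) :=
  Lgr Lrot17 (Lpe (f228941 IH) (Lpe (f228940 IH) (Lpr_dt (K12.f167336 IH) (Lpr_gf (K12.f228930 IH) (Lpe (K1.f29074 IH) (Lpe (K13.f28813 IH) (Lpe (f184795 IH) (Lpe (f184777 IH) (Lpr_gf (f184800 IH) (Lpe (f184799 IH) (Lpn (LP (LK LD1_c4 LD2_c21 LD3_c35)))))))))))))
theorem f216769 : Led Lsl_df (LP (LK LD1_c4 LD2_c1 LD3_c13)) = (LP (LK LD1_c2 LD2_c8 LD3_c28)) :=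
  Lgr Lrot78 (Lpr_ft (K16.f193019 IH) (Lpr_dt (K16.f216764 IH) (Lpr_ft (K16.f216768 IH) (Lpn (LP (LK LD1_c2 LD2_c8 LD3_c28))))))
theorem f182012 : Led Lsl_gt (LP (LK LD1_c8 LD2_c3 LD3_c12)) = (LP (LK LD1_c4 LD2_c1 LD3_c13)) :=
  Lre_g IH (LK LD1_c8 LD2_c3 LD3_c12) (LK LD1_c4 LD2_c1 LD3_c13) Lrfl Lrfl
theorem f228942 : Led Lsl_dt (LP (LK LD1_c8 LD2_c17 LD3_c5)) = (LP (LK LD1_c8 LD2_c3 LD3_c12)) :=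
  Lgr Lrot171 (Lpe (f228941 IH) (Lpe (f228940 IH) (Lpr_dt (K12.f167336 IH) (Lpr_gf (K12.f228930 IH) (Lpe (K1.f29074 IH) (Lpr_et (K14.f216791 IH) (Lpe (K12.f216699 IH) (Lpe (K16.f216790 IH) (Lpe (f216769 IH) (Lpe (f182012 IH) (Lpn (LP (LK LD1_c8 LD2_c3 LD3_c12)))))))))))))
theorem f228949 : Led Lsl_et (LP (LK LD1_c8 LD2_c3 LD3_c12)) = (LP (LK LD1_c15 LD2_c9 LD3_c51)) :=
  Lre_e IH (LK LD1_c8 LD2_c3 LD3_c12) (LK LD1_c15 LD2_c9 LD3_c51) Lrfl Lrfl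
theorem f184807 : Led Lsl_dt (LP (LK LD1_c8 LD2_c40 LD3_c48)) = (LP (LK LD1_c4 LD2_c21 LD3_c35)) :=
  Lre_d IH (LK LD1_c8 LD2_c40 LD3_c48) (LK LD1_c4 LD2_c21 LD3_c35) Lrfl Lrfl
theorem f184811 : Led Lsl_et (LP (LK LD1_c16 LD2_c15 LD3_c23)) = (LP (LK LD1_c8 LD2_c40 LD3_c48)) :=
  Lre_e IH (LK LD1_c16 LD2_c15 LD3_c23) (LK LD1_c8 LD2_c40 LD3_c48) Lrfl Lrfl
theorem f228950 : Led Lsl_dt (LP (LK LD1_c15 LD2_c9 LD3_c51)) = (LP (LK LD1_c16 LD2_c15 LD3_c23)) :=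
  Lgr Lrot77 (Lpe (f228949 IH) (Lpe (f228942 IH) (Lpr_ef (f228946 IH) (Lpe (f184807 IH) (Lpe (f184811 IH) (Lpn (LP (LK LD1_c16 LD2_c15 LD3_c23))))))))
theorem f228958 : Led Lsl_df (LP (LK LD1_c15 LD2_c9 LD3_c51)) = (LP (LK LD1_c16 LD2_c15 LD3_c23)) :=
  Lgr Lrot38 (Lpr_dt (f228950 IH) (Lpn (LP (LK LD1_c16 LD2_c15 LD3_c23))))
theorem f182013 : Led Lsl_et (LP (LK LD1_c15 LD2_c9 LD3_c51)) = (LP (LK LD1_c8 LD2_c3 LD3_c12)) :=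
  Lre_e IH (LK LD1_c15 LD2_c9 LD3_c51) (LK LD1_c8 LD2_c3 LD3_c12) Lrfl Lrfl
theorem f228955 : Led Lsl_et (LP (LK LD1_c8 LD2_c40 LD3_c48)) = (LP (LK LD1_c16 LD2_c15 LD3_c23)) :=
  Lre_e IH (LK LD1_c8 LD2_c40 LD3_c48) (LK LD1_c16 LD2_c15 LD3_c23) Lrfl Lrfl
theorem f228952 : Led Lsl_et (LP (LK LD1_c8 LD2_c17 LD3_c5)) = (LP (LK LD1_c4 LD2_c21 LD3_c35)) :=
  Lgr Lrot87 (Lpr_ef (f228946 IH) (Lpn (LP (LK LD1_c4 LD2_c21 LD3_c35))))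
theorem f228966 : Led Lsl_dt (LP (LK LD1_c8 LD2_c3 LD3_c12)) = (LP (LK LD1_c8 LD2_c17 LD3_c5)) :=
  Lgr Lrot77 (Lpe (f182013 IH) (Lpr_df (f228958 IH) (Lpe (f228955 IH) (Lpe (f184799 IH) (Lpe (f228952 IH) (Lpn (LP (LK LD1_c8 LD2_c17 LD3_c5))))))))
theorem f233417 : Led Lsl_gf (LP (LK LD1_c15 LD2_c14 LD3_c27)) = (LP (LK LD1_c15 LD2_c9 LD3_c51)) :=
  Lgr Lrot138 (Lpr_dt (f46048 IH) (Lpe (f46987 IH) (Lpr_df (K19.f46086 IH) (Lpr_et (K19.f45980 IH) (Lpr_gt (K14.f233413 IH) (Lpe (f184769 IH) (Lpe (K12.f228975 IH) (Lpr_gt (f228941 IH) (Lpe (f228966 IH) (Lpr_et (f228949 IH) (Lpn (LP (LK LD1_c15 LD2_c9 LD3_c51)))))))))))))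
theorem f327375 : Led Lsl_gt (LP (LK LD1_c15 LD2_c9 LD3_c18)) = (LP (LK LD1_c15 LD2_c14 LD3_c9)) :=
  Lgr Lrot112 (Lpr_df (f320941 IH) (Lpr_et (f327371 IH) (Lpr_gf (f233417 IH) (Lpe (f228949 IH) (Lpr_dt (f228966 IH) (Lpe (f228941 IH) (Lpr_df (K12.f228975 IH) (Lpe (K20.f228989 IH) (Lpe (K20.f275881 IH) (Lpr_dt (K20.f259112 IH) (Lpn (LP (LK LD1_c15 LD2_c14 LD3_c9)))))))))))))
theorem f327411 : Led Lsl_df (LP (LK LD1_c20 LD2_c2 LD3_c52)) = (LP (LK LD1_c18 LD2_c28 LD3_c31)) :=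
  Lgr Lrot153 (Lpr_gt (f244325 IH) (Lpr_dt (K18.f244006 IH) (Lpe (K18.f244004 IH) (Lpe (K18.f296415 IH) (Lpe (f323776 IH) (Lpe (K20.f259117 IH) (Lpe (f327375 IH) (Lpr_cf (f314289 IH) (Lpr_gt (f327409 IH) (Lpn (LP (LK LD1_c18 LD2_c28 LD3_c31))))))))))))
theorem f287230 : Led Lsl_dt (LP (LK LD1_c10 LD2_c8 LD3_c34)) = (LP (LK LD1_c18 LD2_c28 LD3_c33)) :=
  Lre_d IH (LK LD1_c10 LD2_c8 LD3_c34) (LK LD1_c18 LD2_c28 LD3_c33) Lrfl Lrfl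
theorem f296921 : Led Lsl_ct (LP (LK LD1_c18 LD2_c28 LD3_c33)) = (LP (LK LD1_c28 LD2_c3 LD3_c27)) :=
  Lre_c IH (LK LD1_c18 LD2_c28 LD3_c33) (LK LD1_c28 LD2_c3 LD3_c27) Lrfl Lrfl
theorem f327091 : Led Lsl_df (LP (LK LD1_c28 LD2_c3 LD3_c27)) = (LP (LK LD1_c29 LD2_c15 LD3_c49)) :=
  Lgr Lrot84 (Lpe (f296921 IH) (Lpe (f287230 IH) (Lpr_gf (f298572 IH) (Lpe (K19.f296512 IH) (Lpr_gf (K19.f296516 IH) (Lpe (f252741 IH) (Lpr_gt (f327086 IH) (Lpr_dt (K18.f244515 IH) (Lpr_gt (f201017 IH) (Lpn (LP (LK LD1_c29 LD2_c15 LD3_c49))))))))))))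
theorem f327093 : Led Lsl_dt (LP (LK LD1_c28 LD2_c3 LD3_c27)) = (LP (LK LD1_c29 LD2_c15 LD3_c49)) :=
  Lgr Lrot42 (Lpr_df (f327091 IH) (Lpn (LP (LK LD1_c29 LD2_c15 LD3_c49))))
theorem f296913 : Led Lsl_dt (LP (LK LD1_c10 LD2_c8 LD3_c28)) = (LP (LK LD1_c18 LD2_c28 LD3_c23)) :=
  Lre_d IH (LK LD1_c10 LD2_c8 LD3_c28) (LK LD1_c18 LD2_c28 LD3_c23) Lrfl Lrfl
theorem f296914 : Led Lsl_gt (LP (LK LD1_c18 LD2_c28 LD3_c23)) = (LP (LK LD1_c28 LD2_c3 LD3_c13)) :=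
  Lre_g IH (LK LD1_c18 LD2_c28 LD3_c23) (LK LD1_c28 LD2_c3 LD3_c13) Lrfl Lrfl
theorem f296915 : Led Lsl_ct (LP (LK LD1_c28 LD2_c3 LD3_c13)) = (LP (LK LD1_c32 LD2_c31 LD3_c17)) :=
  Lre_c IH (LK LD1_c28 LD2_c3 LD3_c13) (LK LD1_c32 LD2_c31 LD3_c17) Lrfl Lrfl
theorem f287232 : Led Lsl_dt (LP (LK LD1_c18 LD2_c28 LD3_c33)) = (LP (LK LD1_c10 LD2_c8 LD3_c34)) :=
  Lre_d IH (LK LD1_c18 LD2_c28 LD3_c33) (LK LD1_c10 LD2_c8 LD3_c34) Lrfl Lrfl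
theorem f287231 : Led Lsl_ct (LP (LK LD1_c28 LD2_c3 LD3_c27)) = (LP (LK LD1_c18 LD2_c28 LD3_c33)) :=
  Lre_c IH (LK LD1_c28 LD2_c3 LD3_c27) (LK LD1_c18 LD2_c28 LD3_c33) Lrfl Lrfl
theorem f296916 : Led Lsl_gt (LP (LK LD1_c32 LD2_c31 LD3_c17)) = (LP (LK LD1_c28 LD2_c3 LD3_c27)) :=
  Lgr Lrot150 (Lpe (f296915 IH) (Lpe (f296914 IH) (Lpe (f296913 IH) (Lpr_gt (K20.f296907 IH) (Lpr_ct (K17.f259000 IH) (Lpe (f287226 IH) (Lpr_ct (f287229 IH) (Lpe (f287232 IH) (Lpe (f287231 IH) (Lpn (LP (LK LD1_c28 LD2_c3 LD3_c27))))))))))))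
theorem f327413 : Led Lsl_dt (LP (LK LD1_c31 LD2_c46 LD3_c8)) = (LP (LK LD1_c32 LD2_c31 LD3_c17)) :=
  Lgr Lrot57 (Lpr_gf (f327198 IH) (Lpe (f22065 IH) (Lpr_gt (f233814 IH) (Lpr_dt (f233820 IH) (Lpr_gt (f327409 IH) (Lpe (f327411 IH) (Lpr_cf (f298525 IH) (Lpe (f327093 IH) (Lpe (f296916 IH) (Lpn (LP (LK LD1_c32 LD2_c31 LD3_c17))))))))))))
theorem f327416 : Led Lsl_df (LP (LK LD1_c31 LD2_c46 LD3_c8)) = (LP (LK LD1_c32 LD2_c31 LD3_c17)) :=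
  Lgr Lrot38 (Lpr_dt (f327413 IH) (Lpn (LP (LK LD1_c32 LD2_c31 LD3_c17))))
theorem f227020 : Led Lsl_gt (LP (LK LD1_c8 LD2_c8 LD3_c21)) = (LP (LK LD1_c4 LD2_c3 LD3_c56)) :=
  Lre_g IH (LK LD1_c8 LD2_c8 LD3_c21) (LK LD1_c4 LD2_c3 LD3_c56) Lrfl Lrfl
theorem f243668 : Led Lsl_et (LP (LK LD1_c15 LD2_c19 LD3_c34)) = (LP (LK LD1_c8 LD2_c8 LD3_c21)) :=
  Lre_e IH (LK LD1_c15 LD2_c19 LD3_c34) (LK LD1_c8 LD2_c8 LD3_c21) Lrfl Lrfl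
theorem f243980 : Led Lsl_dt (LP (LK LD1_c8 LD2_c6 LD3_c44)) = (LP (LK LD1_c15 LD2_c16 LD3_c31)) :=
  Lre_d IH (LK LD1_c8 LD2_c6 LD3_c44) (LK LD1_c15 LD2_c16 LD3_c31) Lrfl Lrfl
theorem f244448 : Led Lsl_dt (LP (LK LD1_c15 LD2_c19 LD3_c34)) = (LP (LK LD1_c25 LD2_c6 LD3_c30)) :=
  Lgr Lrot56 (Lpr_et (f243668 IH) (Lpr_gt (f227020 IH) (Lpe (K16.f226980 IH) (Lpe (K11.f200801 IH) (Lpe (K13.f243650 IH) (Lpr_df (K15.f243709 IH) (Lpr_et (K18.f244443 IH) (Lpe (K18.f244445 IH) (Lpr_dt (f243980 IH) (Lpr_gt (f244447 IH) (Lpn (LP (LK LD1_c25 LD2_c6 LD3_c30)))))))))))))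
theorem f296832 : Led Lsl_dt (LP (LK LD1_c10 LD2_c8 LD3_c32)) = (LP (LK LD1_c18 LD2_c28 LD3_c30)) :=
  Lre_d IH (LK LD1_c10 LD2_c8 LD3_c32) (LK LD1_c18 LD2_c28 LD3_c30) Lrfl Lrfl
theorem f296833 : Led Lsl_gt (LP (LK LD1_c18 LD2_c28 LD3_c30)) = (LP (LK LD1_c28 LD2_c3 LD3_c23)) :=
  Lre_g IH (LK LD1_c18 LD2_c28 LD3_c30) (LK LD1_c28 LD2_c3 LD3_c23) Lrfl Lrfl
theorem f320933 : Led Lsl_dt (LP (LK LD1_c28 LD2_c3 LD3_c23)) = (LP (LK LD1_c18 LD2_c31 LD3_c55)) :=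
  Lgr Lrot105 (Lpe (f296833 IH) (Lpe (f296832 IH) (Lpr_gf (f296836 IH) (Lpe (K19.f260058 IH) (Lpr_gt (K20.f259107 IH) (Lpr_dt (K20.f259112 IH) (Lpe (K20.f310576 IH) (Lpr_dt (K20.f320927 IH) (Lpr_cf (f298638 IH) (Lpn (LP (LK LD1_c18 LD2_c31 LD3_c55))))))))))))
theorem f298556 : Led Lsl_ct (LP (LK LD1_c18 LD2_c28 LD3_c30)) = (LP (LK LD1_c28 LD2_c3 LD3_c24)) :=
  Lre_c IH (LK LD1_c18 LD2_c28 LD3_c30) (LK LD1_c28 LD2_c3 LD3_c24) Lrfl Lrfl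
theorem f327418 : Led Lsl_gt (LP (LK LD1_c28 LD2_c3 LD3_c24)) = (LP (LK LD1_c32 LD2_c31 LD3_c17)) :=
  Lgr Lrot94 (Lpe (f298556 IH) (Lpr_gt (f296833 IH) (Lpr_dt (f320933 IH) (Lpr_gt (K19.f22080 IH) (Lpr_dt (K19.f22092 IH) (Lpe (f22062 IH) (Lpr_df (f327030 IH) (Lpr_gf (f298587 IH) (Lpr_df (f327416 IH) (Lpn (LP (LK LD1_c32 LD2_c31 LD3_c17))))))))))))
theorem f244649 : Led Lsl_gt (LP (LK LD1_c29 LD2_c15 LD3_c50)) = (LP (LK LD1_c20 LD2_c2 LD3_c26)) :=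
  Lre_g IH (LK LD1_c29 LD2_c15 LD3_c50) (LK LD1_c20 LD2_c2 LD3_c26) Lrfl Lrfl
theorem f298507 : Led Lsl_gt (LP (LK LD1_c28 LD2_c3 LD3_c20)) = (LP (LK LD1_c29 LD2_c15 LD3_c50)) :=
  Lgr Lrot5 (Lpr_ft (f298498 IH) (Lpr_at (f296875 IH) (Lpe (f244649 IH) (Lpn (LP (LK LD1_c29 LD2_c15 LD3_c50))))))
theorem f252738 : Led Lsl_dt (LP (LK LD1_c10 LD2_c8 LD3_c55)) = (LP (LK LD1_c5 LD2_c9 LD3_c11)) :=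
  Lre_d IH (LK LD1_c10 LD2_c8 LD3_c55) (LK LD1_c5 LD2_c9 LD3_c11) Lrfl Lrfl
theorem f298557 : Led Lsl_dt (LP (LK LD1_c29 LD2_c15 LD3_c50)) = (LP (LK LD1_c28 LD2_c3 LD3_c24)) :=
  Lgr Lrot113 (Lpe (f298507 IH) (Lpe (K20.f296841 IH) (Lpe (f265914 IH) (Lpr_ct (f298551 IH) (Lpr_gt (f33830 IH) (Lpr_dt (f252738 IH) (Lpe (f296836 IH) (Lpr_dt (f296832 IH) (Lpr_ct (f298556 IH) (Lpn (LP (LK LD1_c28 LD2_c3 LD3_c24))))))))))))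
theorem f327420 : Led Lsl_gf (LP (LK LD1_c15 LD2_c19 LD3_c34)) = (LP (LK LD1_c15 LD2_c54 LD3_c55)) :=
  Lgr Lrot154 (Lpr_dt (f244448 IH) (Lpr_ct (f244451 IH) (Lpr_df (f327416 IH) (Lpe (f327418 IH) (Lpe (f298557 IH) (Lpe (f298507 IH) (Lpe (K20.f296897 IH) (Lpr_gt (K19.f296889 IH) (Lpr_dt (K19.f201008 IH) (Lpn (LP (LK LD1_c15 LD2_c54 LD3_c55))))))))))))
theorem f253122 : Led Lsl_dt (LP (LK LD1_c10 LD2_c10 LD3_c20)) = (LP (LK LD1_c8 LD2_c28 LD3_c6)) :=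
  Lgr Lrot42 (Lpr_df (K14.f253119 IH) (Lpn (LP (LK LD1_c8 LD2_c28 LD3_c6))))
theorem f244452 : Led Lsl_df (LP (LK LD1_c15 LD2_c19 LD3_c34)) = (LP (LK LD1_c25 LD2_c6 LD3_c30)) :=
  Lgr Lrot38 (Lpr_dt (f244448 IH) (Lpn (LP (LK LD1_c25 LD2_c6 LD3_c30))))
theorem f253133 : Led Lsl_cf (LP (LK LD1_c8 LD2_c28 LD3_c6)) = (LP (LK LD1_c15 LD2_c19 LD3_c34)) :=
  Lgr Lrot14 (Lpe (f253122 IH) (Lpe (K14.f22078 IH) (Lpr_df (K14.f22035 IH) (Lpr_gf (K16.f253128 IH) (Lpr_ct (K17.f244459 IH) (Lpe (K18.f244445 IH) (Lpr_dt (f243980 IH) (Lpr_gt (f244447 IH) (Lpe (f244452 IH) (Lpn (LP (LK LD1_c15 LD2_c19 LD3_c34))))))))))))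
theorem f253126 : Led Lsl_ct (LP (LK LD1_c18 LD2_c31 LD3_c58)) = (LP (LK LD1_c10 LD2_c10 LD3_c20)) :=
  Lre_c IH (LK LD1_c18 LD2_c31 LD3_c58) (LK LD1_c10 LD2_c10 LD3_c20) Lrfl Lrfl
theorem f192248 : Led Lsl_ct (LP (LK LD1_c8 LD2_c6 LD3_c46)) = (LP (LK LD1_c15 LD2_c16 LD3_c35)) :=
  Lre_c IH (LK LD1_c8 LD2_c6 LD3_c46) (LK LD1_c15 LD2_c16 LD3_c35) Lrfl Lrfl
theorem f327428 : Led Lsl_gf (LP (LK LD1_c18 LD2_c31 LD3_c58)) = (LP (LK LD1_c15 LD2_c16 LD3_c35)) :=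
  Lgr Lrot104 (Lpr_ct (f253126 IH) (Lpr_df (K14.f253119 IH) (Lpr_cf (f253133 IH) (Lpr_gf (f327420 IH) (Lpr_cf (K19.f299057 IH) (Lpe (K19.f305612 IH) (Lpe (K19.f305605 IH) (Lpr_gt (K19.f192252 IH) (Lpr_ct (f192248 IH) (Lpn (LP (LK LD1_c15 LD2_c16 LD3_c35))))))))))))
theorem f186899 : Led Lsl_df (LP (LK LD1_c4 LD2_c51 LD3_c6)) = (LP (LK LD1_c8 LD2_c5 LD3_c43)) :=
  Lgr Lrot38 (Lpr_dt (K14.f186892 IH) (Lpn (LP (LK LD1_c8 LD2_c5 LD3_c43))))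
theorem f229745 : Led Lsl_dt (LP (LK LD1_c8 LD2_c4 LD3_c40)) = (LP (LK LD1_c9 LD2_c34 LD3_c13)) :=
  Lgr Lrot42 (Lpr_df (K18.f229735 IH) (Lpn (LP (LK LD1_c9 LD2_c34 LD3_c13))))
theorem f229744 : Led Lsl_et (LP (LK LD1_c8 LD2_c4 LD3_c40)) = (LP (LK LD1_c15 LD2_c12 LD3_c38)) :=
  Lre_e IH (LK LD1_c8 LD2_c4 LD3_c40) (LK LD1_c15 LD2_c12 LD3_c38) Lrfl Lrfl
theorem f237023 : Led Lsl_dt (LP (LK LD1_c8 LD2_c8 LD3_c28)) = (LP (LK LD1_c4 LD2_c3 LD3_c58)) :=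
  Lre_d IH (LK LD1_c8 LD2_c8 LD3_c28) (LK LD1_c4 LD2_c3 LD3_c58) Lrfl Lrfl
theorem f45983 : Led Lsl_et (LP (LK LD1_c1 LD2_c58 LD3_c22)) = (LP (LK LD1_c4 LD2_c2 LD3_c42)) :=
  Lre_e IH (LK LD1_c1 LD2_c58 LD3_c22) (LK LD1_c4 LD2_c2 LD3_c42) Lrfl Lrfl
theorem f45833 : Led Lsl_gt (LP (LK LD1_c4 LD2_c2 LD3_c42)) = (LP (LK LD1_c8 LD2_c5 LD3_c61)) :=
  Lre_g IH (LK LD1_c4 LD2_c2 LD3_c42) (LK LD1_c8 LD2_c5 LD3_c61) Lrfl Lrfl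
theorem f237024 : Led Lsl_et (LP (LK LD1_c8 LD2_c8 LD3_c28)) = (LP (LK LD1_c8 LD2_c5 LD3_c61)) :=
  Lgr Lrot122 (Lpr_dt (f237023 IH) (Lpr_gt (K18.f211403 IH) (Lpe (K15.f237007 IH) (Lpr_et (K15.f237014 IH) (Lpr_gt (K13.f182003 IH) (Lpr_dt (K13.f34619 IH) (Lpe (K9.f181997 IH) (Lpe (K1.f27861 IH) (Lpr_et (f45983 IH) (Lpr_gt (f45833 IH) (Lpn (LP (LK LD1_c8 LD2_c5 LD3_c61)))))))))))))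
theorem f293077 : Led Lsl_gt (LP (LK LD1_c8 LD2_c5 LD3_c61)) = (LP (LK LD1_c5 LD2_c19 LD3_c47)) :=
  Lgr Lrot131 (Lpe (f237024 IH) (Lpr_dt (f237023 IH) (Lpr_gf (K18.f293071 IH) (Lpe (K16.f269260 IH) (Lpr_gf (K19.f269289 IH) (Lpe (K19.f246100 IH) (Lpr_dt (K17.f45887 IH) (Lpe (K17.f283796 IH) (Lpe (K1.f45891 IH) (Lpr_et (K1.f46060 IH) (Lpn (LP (LK LD1_c5 LD2_c19 LD3_c47)))))))))))))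
theorem f228965 : Led Lsl_dt (LP (LK LD1_c15 LD2_c14 LD3_c60)) = (LP (LK LD1_c8 LD2_c5 LD3_c61)) :=
  Lre_d IH (LK LD1_c15 LD2_c14 LD3_c60) (LK LD1_c8 LD2_c5 LD3_c61) Lrfl Lrfl
theorem f293079 : Led Lsl_gf (LP (LK LD1_c15 LD2_c14 LD3_c60)) = (LP (LK LD1_c15 LD2_c12 LD3_c38)) :=
  Lgr Lrot138 (Lpr_dt (f228965 IH) (Lpr_gt (f293077 IH) (Lpe (K1.f46062 IH) (Lpr_et (K1.f46061 IH) (Lpr_gt (K10.f46540 IH) (Lpe (K14.f46565 IH) (Lpe (f186899 IH) (Lpr_gt (K18.f186906 IH) (Lpe (f229745 IH) (Lpr_et (f229744 IH) (Lpn (LP (LK LD1_c15 LD2_c12 LD3_c38)))))))))))))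
theorem f237031 : Led Lsl_et (LP (LK LD1_c4 LD2_c3 LD3_c58)) = (LP (LK LD1_c8 LD2_c8 LD3_c29)) :=
  Lre_e IH (LK LD1_c4 LD2_c3 LD3_c58) (LK LD1_c8 LD2_c8 LD3_c29) Lrfl Lrfl
theorem f237028 : Led Lsl_ef (LP (LK LD1_c8 LD2_c8 LD3_c28)) = (LP (LK LD1_c8 LD2_c5 LD3_c61)) :=
  Lgr Lrot88 (Lpr_et (f237024 IH) (Lpn (LP (LK LD1_c8 LD2_c5 LD3_c61))))
theorem f243994 : Led Lsl_ef (LP (LK LD1_c15 LD2_c14 LD3_c60)) = (LP (LK LD1_c15 LD2_c16 LD3_c33)) :=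
  Lgr Lrot73 (Lpr_dt (f228965 IH) (Lpe (f237028 IH) (Lpr_dt (f237023 IH) (Lpr_et (f237031 IH) (Lpr_dt (K18.f243988 IH) (Lpn (LP (LK LD1_c15 LD2_c16 LD3_c33))))))))
theorem f311314 : Led Lsl_gt (LP (LK LD1_c8 LD2_c8 LD3_c29)) = (LP (LK LD1_c15 LD2_c14 LD3_c41)) :=
  Lgr Lrot112 (Lpr_df (K18.f243992 IH) (Lpe (f243994 IH) (Lpr_gf (f293079 IH) (Lpe (f229744 IH) (Lpr_dt (f229745 IH) (Lpe (K18.f186906 IH) (Lpr_df (f186899 IH) (Lpr_gf (K20.f311305 IH) (Lpe (K20.f246135 IH) (Lpr_dt (K19.f246130 IH) (Lpn (LP (LK LD1_c15 LD2_c14 LD3_c41)))))))))))))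
theorem f299062 : Led Lsl_ct (LP (LK LD1_c10 LD2_c8 LD3_c28)) = (LP (LK LD1_c8 LD2_c5 LD3_c48)) :=
  Lgr Lrot59 (Lpr_cf (K20.f299059 IH) (Lpn (LP (LK LD1_c8 LD2_c5 LD3_c48))))
theorem f296909 : Led Lsl_dt (LP (LK LD1_c18 LD2_c28 LD3_c23)) = (LP (LK LD1_c10 LD2_c8 LD3_c28)) :=
  Lre_d IH (LK LD1_c18 LD2_c28 LD3_c23) (LK LD1_c10 LD2_c8 LD3_c28) Lrfl Lrfl
theorem f296910 : Led Lsl_gt (LP (LK LD1_c28 LD2_c3 LD3_c14)) = (LP (LK LD1_c18 LD2_c28 LD3_c23)) :=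
  Lre_g IH (LK LD1_c28 LD2_c3 LD3_c14) (LK LD1_c18 LD2_c28 LD3_c23) Lrfl Lrfl
theorem f327444 : Led Lsl_dt (LP (LK LD1_c18 LD2_c31 LD3_c58)) = (LP (LK LD1_c28 LD2_c3 LD3_c14)) :=
  Lgr Lrot57 (Lpr_gf (f327428 IH) (Lpe (f192248 IH) (Lpr_gt (K18.f192251 IH) (Lpe (K18.f243992 IH) (Lpr_gt (f311314 IH) (Lpr_dt (K19.f246137 IH) (Lpe (f299062 IH) (Lpe (f296909 IH) (Lpe (f296910 IH) (Lpn (LP (LK LD1_c28 LD2_c3 LD3_c14))))))))))))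
theorem f265974 : Led Lsl_et (LP (LK LD1_c2 LD2_c28 LD3_c32)) = (LP (LK LD1_c5 LD2_c1 LD3_c43)) :=
  Lre_e IH (LK LD1_c2 LD2_c28 LD3_c32) (LK LD1_c5 LD2_c1 LD3_c43) Lrfl Lrfl
theorem f265975 : Led Lsl_gt (LP (LK LD1_c9 LD2_c53 LD3_c52)) = (LP (LK LD1_c5 LD2_c1 LD3_c43)) :=
  Lre_g IH (LK LD1_c9 LD2_c53 LD3_c52) (LK LD1_c5 LD2_c1 LD3_c43) Lrfl Lrfl
theorem f327446 : Led Lsl_et (LP (LK LD1_c10 LD2_c8 LD3_c28)) = (LP (LK LD1_c9 LD2_c53 LD3_c52)) :=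
  Lgr Lrot185 (Lpr_dt (f296913 IH) (Lpe (f296910 IH) (Lpe (f327444 IH) (Lpr_gf (f327428 IH) (Lpe (f265978 IH) (Lpe (K15.f265976 IH) (Lpr_gf (K15.f265963 IH) (Lpe (K15.f33304 IH) (Lpr_et (f265974 IH) (Lpe (f265975 IH) (Lpn (LP (LK LD1_c9 LD2_c53 LD3_c52)))))))))))))
theorem f327454 : Led Lsl_ef (LP (LK LD1_c10 LD2_c8 LD3_c28)) = (LP (LK LD1_c9 LD2_c53 LD3_c52)) :=
  Lgr Lrot88 (Lpr_et (f327446 IH) (Lpn (LP (LK LD1_c9 LD2_c53 LD3_c52))))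
theorem f327459 : Led Lsl_ct (LP (LK LD1_c8 LD2_c41 LD3_c44)) = (LP (LK LD1_c9 LD2_c53 LD3_c52)) :=
  Lgr Lrot15 (Lpe (K20.f246135 IH) (Lpe (f299062 IH) (Lpr_ef (f327454 IH) (Lpn (LP (LK LD1_c9 LD2_c53 LD3_c52))))))
theorem f321635 : Led Lsl_bf (LP (LK LD1_c5 LD2_c16 LD3_c30)) = (LP (LK LD1_c8 LD2_c41 LD3_c44)) :=
  Lgr Lrot24 (Lpr_bt (K20.f321633 IH) (Lpn (LP (LK LD1_c8 LD2_c41 LD3_c44))))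
theorem f248325 : Led Lsl_ct (LP (LK LD1_c8 LD2_c52 LD3_c37)) = (LP (LK LD1_c16 LD2_c35 LD3_c42)) :=
  Lre_c IH (LK LD1_c8 LD2_c52 LD3_c37) (LK LD1_c16 LD2_c35 LD3_c42) Lrfl Lrfl
theorem f248381 : Led Lsl_at (LP (LK LD1_c16 LD2_c35 LD3_c42)) = (LP (LK LD1_c10 LD2_c26 LD3_c48)) :=
  Lgr Lrot66 (Lpe (K14.f248380 IH) (Lpr_af (K14.f248368 IH) (Lpe (K14.f178636 IH) (Lpn (LP (LK LD1_c10 LD2_c26 LD3_c48))))))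
theorem f248385 : Led Lsl_af (LP (LK LD1_c16 LD2_c35 LD3_c42)) = (LP (LK LD1_c10 LD2_c26 LD3_c48)) :=
  Lgr Lrot0 (Lpr_at (f248381 IH) (Lpn (LP (LK LD1_c10 LD2_c26 LD3_c48))))
theorem f215182 : Led Lsl_ft (LP (LK LD1_c5 LD2_c18 LD3_c32)) = (LP (LK LD1_c10 LD2_c26 LD3_c48)) :=
  Lre_f IH (LK LD1_c5 LD2_c18 LD3_c32) (LK LD1_c10 LD2_c26 LD3_c48) Lrfl Lrfl
theorem f215183 : Led Lsl_gt (LP (LK LD1_c5 LD2_c18 LD3_c32)) = (LP (LK LD1_c10 LD2_c26 LD3_c45)) :=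
  Lre_g IH (LK LD1_c5 LD2_c18 LD3_c32) (LK LD1_c10 LD2_c26 LD3_c45) Lrfl Lrfl
theorem f248393 : Led Lsl_gf (LP (LK LD1_c16 LD2_c35 LD3_c42)) = (LP (LK LD1_c10 LD2_c26 LD3_c45)) :=
  Lgr Lrot76 (Lpr_af (f248385 IH) (Lpe (f215182 IH) (Lpr_gt (f215183 IH) (Lpn (LP (LK LD1_c10 LD2_c26 LD3_c45))))))
theorem f291960 : Led Lsl_ct (LP (LK LD1_c2 LD2_c28 LD3_c33)) = (LP (LK LD1_c5 LD2_c1 LD3_c43)) :=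
  Lre_c IH (LK LD1_c2 LD2_c28 LD3_c33) (LK LD1_c5 LD2_c1 LD3_c43) Lrfl Lrfl
theorem f291948 : Led Lsl_bt (LP (LK LD1_c2 LD2_c28 LD3_c33)) = (LP (LK LD1_c5 LD2_c1 LD3_c40)) :=
  Lre_b IH (LK LD1_c2 LD2_c28 LD3_c33) (LK LD1_c5 LD2_c1 LD3_c40) Lrfl Lrfl
theorem f251579 : Led Lsl_gt (LP (LK LD1_c5 LD2_c1 LD3_c40)) = (LP (LK LD1_c9 LD2_c53 LD3_c42)) :=
  Lre_g IH (LK LD1_c5 LD2_c1 LD3_c40) (LK LD1_c9 LD2_c53 LD3_c42) Lrfl Lrfl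
theorem f327464 : Led Lsl_cf (LP (LK LD1_c10 LD2_c26 LD3_c45)) = (LP (LK LD1_c9 LD2_c53 LD3_c42)) :=
  Lgr Lrot125 (Lpe (f248393 IH) (Lpe (f248325 IH) (Lpe (K14.f248312 IH) (Lpe (K20.f316416 IH) (Lpr_bf (f321635 IH) (Lpr_ct (f327459 IH) (Lpr_gt (f265975 IH) (Lpe (f291960 IH) (Lpr_bt (f291948 IH) (Lpr_gt (f251579 IH) (Lpn (LP (LK LD1_c9 LD2_c53 LD3_c42)))))))))))))
theorem f178731 : Led Lsl_ct (LP (LK LD1_c15 LD2_c41 LD3_c43)) = (LP (LK LD1_c8 LD2_c20 LD3_c20)) :=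
  Lre_c IH (LK LD1_c15 LD2_c41 LD3_c43) (LK LD1_c8 LD2_c20 LD3_c20) Lrfl Lrfl
theorem f230989 : Led Lsl_gt (LP (LK LD1_c8 LD2_c20 LD3_c54)) = (LP (LK LD1_c15 LD2_c41 LD3_c43)) :=
  Lre_g IH (LK LD1_c8 LD2_c20 LD3_c54) (LK LD1_c15 LD2_c41 LD3_c43) Lrfl Lrfl
theorem f230990 : Led Lsl_ct (LP (LK LD1_c15 LD2_c42 LD3_c51)) = (LP (LK LD1_c8 LD2_c20 LD3_c54)) :=
  Lre_c IH (LK LD1_c15 LD2_c42 LD3_c51) (LK LD1_c8 LD2_c20 LD3_c54) Lrfl Lrfl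
theorem f251578 : Led Lsl_et (LP (LK LD1_c2 LD2_c28 LD3_c31)) = (LP (LK LD1_c5 LD2_c1 LD3_c40)) :=
  Lre_e IH (LK LD1_c2 LD2_c28 LD3_c31) (LK LD1_c5 LD2_c1 LD3_c40) Lrfl Lrfl
theorem f199656 : Led Lsl_et (LP (LK LD1_c9 LD2_c33 LD3_c43)) = (LP (LK LD1_c4 LD2_c50 LD3_c47)) :=
  Lre_e IH (LK LD1_c9 LD2_c33 LD3_c43) (LK LD1_c4 LD2_c50 LD3_c47) Lrfl Lrfl
theorem f251580 : Led Lsl_dt (LP (LK LD1_c5 LD2_c1 LD3_c40)) = (LP (LK LD1_c9 LD2_c33 LD3_c43)) :=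
  Lgr Lrot77 (Lpe (f251578 IH) (Lpr_df (K14.f251576 IH) (Lpe (K17.f199621 IH) (Lpe (K13.f199612 IH) (Lpe (f199656 IH) (Lpn (LP (LK LD1_c9 LD2_c33 LD3_c43))))))))
theorem f327469 : Led Lsl_gf (LP (LK LD1_c15 LD2_c42 LD3_c51)) = (LP (LK LD1_c9 LD2_c33 LD3_c43)) :=
  Lgr Lrot179 (Lpr_ct (f230990 IH) (Lpr_gt (f230989 IH) (Lpr_ct (f178731 IH) (Lpe (f248349 IH) (Lpe (K14.f248324 IH) (Lpr_gf (f248393 IH) (Lpr_cf (f327464 IH) (Lpe (f251579 IH) (Lpr_dt (f251580 IH) (Lpn (LP (LK LD1_c9 LD2_c33 LD3_c43))))))))))))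
theorem f182255 : Led Lsl_ct (LP (LK LD1_c8 LD2_c20 LD3_c20)) = (LP (LK LD1_c15 LD2_c41 LD3_c43)) :=
  Lre_c IH (LK LD1_c8 LD2_c20 LD3_c20) (LK LD1_c15 LD2_c41 LD3_c43) Lrfl Lrfl
theorem f169418 : Led Lsl_bt (LP (LK LD1_c8 LD2_c33 LD3_c18)) = (LP (LK LD1_c4 LD2_c16 LD3_c57)) :=
  Lre_b IH (LK LD1_c8 LD2_c33 LD3_c18) (LK LD1_c4 LD2_c16 LD3_c57) Lrfl Lrfl
theorem f230991 : Led Lsl_ct (LP (LK LD1_c8 LD2_c33 LD3_c18)) = (LP (LK LD1_c16 LD2_c3 LD3_c35)) :=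
  Lre_c IH (LK LD1_c8 LD2_c33 LD3_c18) (LK LD1_c16 LD2_c3 LD3_c35) Lrfl Lrfl
theorem f199640 : Led Lsl_bt (LP (LK LD1_c4 LD2_c50 LD3_c50)) = (LP (LK LD1_c9 LD2_c33 LD3_c43)) :=
  Lre_b IH (LK LD1_c4 LD2_c50 LD3_c50) (LK LD1_c9 LD2_c33 LD3_c43) Lrfl Lrfl
theorem f199651 : Led Lsl_ct (LP (LK LD1_c4 LD2_c50 LD3_c50)) = (LP (LK LD1_c9 LD2_c33 LD3_c47)) :=
  Lre_c IH (LK LD1_c4 LD2_c50 LD3_c50) (LK LD1_c9 LD2_c33 LD3_c47) Lrfl Lrfl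
theorem f327475 : Led Lsl_gt (LP (LK LD1_c16 LD2_c3 LD3_c35)) = (LP (LK LD1_c9 LD2_c33 LD3_c47)) :=
  Lgr Lrot65 (Lpe (f230991 IH) (Lpr_bt (f169418 IH) (Lpe (K18.f184455 IH) (Lpr_bf (K12.f230981 IH) (Lpr_ct (f182255 IH) (Lpe (f230989 IH) (Lpe (f230990 IH) (Lpr_gf (f327469 IH) (Lpe (f199640 IH) (Lpr_ct (f199651 IH) (Lpn (LP (LK LD1_c9 LD2_c33 LD3_c47)))))))))))))
theorem f199641 : Led Lsl_ct (LP (LK LD1_c9 LD2_c33 LD3_c47)) = (LP (LK LD1_c4 LD2_c50 LD3_c50)) :=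
  Lre_c IH (LK LD1_c9 LD2_c33 LD3_c47) (LK LD1_c4 LD2_c50 LD3_c50) Lrfl Lrfl
theorem f1733 : Led Lsl_dt (LP (LK LD1_c2 LD2_c23 LD3_c12)) = (LP (LK LD1_c1 LD2_c8 LD3_c43)) :=
  Lre_d IH (LK LD1_c2 LD2_c23 LD3_c12) (LK LD1_c1 LD2_c8 LD3_c43) Lrfl Lrfl
theorem f33308 : Led Lsl_et (LP (LK LD1_c4 LD2_c50 LD3_c50)) = (LP (LK LD1_c2 LD2_c23 LD3_c12)) :=
  Lre_e IH (LK LD1_c4 LD2_c50 LD3_c50) (LK LD1_c2 LD2_c23 LD3_c12) Lrfl Lrfl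
theorem f33309 : Led Lsl_et (LP (LK LD1_c1 LD2_c11 LD3_c29)) = (LP (LK LD1_c2 LD2_c28 LD3_c33)) :=
  Lre_e IH (LK LD1_c1 LD2_c11 LD3_c29) (LK LD1_c2 LD2_c28 LD3_c33) Lrfl Lrfl
theorem f33310 : Led Lsl_df (LP (LK LD1_c4 LD2_c50 LD3_c50)) = (LP (LK LD1_c2 LD2_c28 LD3_c33)) :=
  Lgr Lrot70 (Lpr_et (f33308 IH) (Lpr_dt (f1733 IH) (Lpr_et (K14.f33307 IH) (Lpr_dt (K0.f33297 IH) (Lpr_et (f33309 IH) (Lpn (LP (LK LD1_c2 LD2_c28 LD3_c33))))))))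
theorem f291949 : Led Lsl_ct (LP (LK LD1_c5 LD2_c1 LD3_c43)) = (LP (LK LD1_c2 LD2_c28 LD3_c33)) :=
  Lre_c IH (LK LD1_c5 LD2_c1 LD3_c43) (LK LD1_c2 LD2_c28 LD3_c33) Lrfl Lrfl
theorem f327502 : Led Lsl_gf (LP (LK LD1_c8 LD2_c33 LD3_c18)) = (LP (LK LD1_c8 LD2_c17 LD3_c7)) :=
  Lgr Lrot147 (Lpr_ct (f230991 IH) (Lpr_gt (f327475 IH) (Lpr_ct (f199641 IH) (Lpr_df (f33310 IH) (Lpe (f291949 IH) (Lpe (f265975 IH) (Lpe (f327459 IH) (Lpr_gf (K20.f320813 IH) (Lpe (K12.f228985 IH) (Lpn (LP (LK LD1_c8 LD2_c17 LD3_c7))))))))))))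
theorem f327504 : Led Lsl_df (LP (LK LD1_c2 LD2_c28 LD3_c33)) = (LP (LK LD1_c4 LD2_c50 LD3_c50)) :=
  Lgr Lrot162 (Lpe (f291949 IH) (Lpe (f265975 IH) (Lpe (f327459 IH) (Lpr_gf (K20.f320813 IH) (Lpe (K12.f229014 IH) (Lpe (f327502 IH) (Lpr_ct (f230991 IH) (Lpr_gt (f327475 IH) (Lpr_ct (f199641 IH) (Lpn (LP (LK LD1_c4 LD2_c50 LD3_c50))))))))))))
theorem f253169 : Led Lsl_gt (LP (LK LD1_c5 LD2_c1 LD3_c45)) = (LP (LK LD1_c2 LD2_c28 LD3_c33)) :=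
  Lre_g IH (LK LD1_c5 LD2_c1 LD3_c45) (LK LD1_c2 LD2_c28 LD3_c33) Lrfl Lrfl
theorem f280111 : Led Lsl_et (LP (LK LD1_c8 LD2_c41 LD3_c55)) = (LP (LK LD1_c16 LD2_c17 LD3_c34)) :=
  Lre_e IH (LK LD1_c8 LD2_c41 LD3_c55) (LK LD1_c16 LD2_c17 LD3_c34) Lrfl Lrfl
theorem f236727 : Led Lsl_et (LP (LK LD1_c24 LD2_c45 LD3_c6)) = (LP (LK LD1_c14 LD2_c57 LD3_c42)) :=
  Lre_e IH (LK LD1_c24 LD2_c45 LD3_c6) (LK LD1_c14 LD2_c57 LD3_c42) Lrfl Lrfl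
theorem f280203 : Led Lsl_bt (LP (LK LD1_c16 LD2_c17 LD3_c34)) = (LP (LK LD1_c24 LD2_c45 LD3_c6)) :=
  Lgr Lrot119 (Lpe (f280111 IH) (Lpr_bf (K17.f280201 IH) (Lpe (f236727 IH) (Lpn (LP (LK LD1_c24 LD2_c45 LD3_c6))))))
theorem f280207 : Led Lsl_at (LP (LK LD1_c8 LD2_c41 LD3_c58)) = (LP (LK LD1_c16 LD2_c17 LD3_c34)) :=
  Lre_a IH (LK LD1_c8 LD2_c41 LD3_c58) (LK LD1_c16 LD2_c17 LD3_c34) Lrfl Lrfl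
theorem f237508 : Led Lsl_bt (LP (LK LD1_c4 LD2_c22 LD3_c5)) = (LP (LK LD1_c8 LD2_c41 LD3_c58)) :=
  Lre_b IH (LK LD1_c4 LD2_c22 LD3_c5) (LK LD1_c8 LD2_c41 LD3_c58) Lrfl Lrfl
theorem f236642 : Led Lsl_at (LP (LK LD1_c24 LD2_c45 LD3_c6)) = (LP (LK LD1_c14 LD2_c57 LD3_c44)) :=
  Lre_a IH (LK LD1_c24 LD2_c45 LD3_c6) (LK LD1_c14 LD2_c57 LD3_c44) Lrfl Lrfl
theorem f280208 : Led Lsl_af (LP (LK LD1_c4 LD2_c22 LD3_c5)) = (LP (LK LD1_c7 LD2_c55 LD3_c55)) :=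
  Lgr Lrot36 (Lpr_bt (f237508 IH) (Lpr_at (f280207 IH) (Lpr_bt (f280203 IH) (Lpr_at (f236642 IH) (Lpr_bt (K17.f236638 IH) (Lpn (LP (LK LD1_c7 LD2_c55 LD3_c55))))))))
theorem f280218 : Led Lsl_at (LP (LK LD1_c8 LD2_c41 LD3_c61)) = (LP (LK LD1_c14 LD2_c57 LD3_c47)) :=
  Lgr Lrot66 (Lpe (K16.f237515 IH) (Lpr_af (f280208 IH) (Lpe (K16.f236637 IH) (Lpn (LP (LK LD1_c14 LD2_c57 LD3_c47))))))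
theorem f237528 : Led Lsl_ct (LP (LK LD1_c4 LD2_c53 LD3_c2)) = (LP (LK LD1_c8 LD2_c41 LD3_c61)) :=
  Lgr Lrot59 (Lpr_cf (K16.f237516 IH) (Lpn (LP (LK LD1_c8 LD2_c41 LD3_c61))))
theorem f280220 : Led Lsl_af (LP (LK LD1_c4 LD2_c53 LD3_c2)) = (LP (LK LD1_c8 LD2_c1 LD3_c33)) :=
  Lgr Lrot68 (Lpr_ct (f237528 IH) (Lpr_at (f280218 IH) (Lpe (K16.f236631 IH) (Lpn (LP (LK LD1_c8 LD2_c1 LD3_c33))))))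
theorem f280223 : Led Lsl_et (LP (LK LD1_c4 LD2_c52 LD3_c58)) = (LP (LK LD1_c8 LD2_c1 LD3_c33)) :=
  Lgr Lrot123 (Lpr_af (K17.f247118 IH) (Lpr_ef (K16.f270847 IH) (Lpr_af (f280220 IH) (Lpn (LP (LK LD1_c8 LD2_c1 LD3_c33))))))
theorem f237520 : Led Lsl_gt (LP (LK LD1_c4 LD2_c53 LD3_c1)) = (LP (LK LD1_c2 LD2_c24 LD3_c20)) :=
  Lre_g IH (LK LD1_c4 LD2_c53 LD3_c1) (LK LD1_c2 LD2_c24 LD3_c20) Lrfl Lrfl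
theorem f279403 : Led Lsl_gf (LP (LK LD1_c4 LD2_c53 LD3_c1)) = (LP (LK LD1_c8 LD2_c1 LD3_c33)) :=
  Lgr Lrot47 (Lpr_gt (f237520 IH) (Lpr_af (K16.f279390 IH) (Lpe (K12.f33214 IH) (Lpn (LP (LK LD1_c8 LD2_c1 LD3_c33))))))
theorem f327510 : Led Lsl_df (LP (LK LD1_c5 LD2_c1 LD3_c45)) = (LP (LK LD1_c4 LD2_c53 LD3_c1)) :=
  Lgr Lrot135 (Lpr_gt (f253169 IH) (Lpr_df (f327504 IH) (Lpr_et (f33308 IH) (Lpe (K13.f199671 IH) (Lpe (K14.f199677 IH) (Lpr_dt (K14.f212551 IH) (Lpr_gt (K13.f212570 IH) (Lpr_df (K16.f239871 IH) (Lpr_et (f280223 IH) (Lpe (f279403 IH) (Lpn (LP (LK LD1_c4 LD2_c53 LD3_c1)))))))))))))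
theorem f327538 : Led Lsl_dt (LP (LK LD1_c5 LD2_c1 LD3_c45)) = (LP (LK LD1_c4 LD2_c53 LD3_c1)) :=
  Lgr Lrot42 (Lpr_df (f327510 IH) (Lpn (LP (LK LD1_c4 LD2_c53 LD3_c1))))
theorem f279362 : Led Lsl_df (LP (LK LD1_c8 LD2_c4 LD3_c2)) = (LP (LK LD1_c4 LD2_c53 LD3_c2)) :=
  Lgr Lrot38 (Lpr_dt (K16.f279354 IH) (Lpn (LP (LK LD1_c4 LD2_c53 LD3_c2))))
theorem f237536 : Led Lsl_ft (LP (LK LD1_c2 LD2_c24 LD3_c20)) = (LP (LK LD1_c4 LD2_c53 LD3_c2)) :=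
  Lre_f IH (LK LD1_c2 LD2_c24 LD3_c20) (LK LD1_c4 LD2_c53 LD3_c2) Lrfl Lrfl
theorem f279367 : Led Lsl_dt (LP (LK LD1_c4 LD2_c1 LD3_c42)) = (LP (LK LD1_c2 LD2_c24 LD3_c20)) :=
  Lgr Lrot60 (Lpe (K16.f279365 IH) (Lpr_df (f279362 IH) (Lpe (f237536 IH) (Lpn (LP (LK LD1_c2 LD2_c24 LD3_c20))))))
theorem f285786 : Led Lsl_df (LP (LK LD1_c2 LD2_c8 LD3_c39)) = (LP (LK LD1_c1 LD2_c12 LD3_c54)) :=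
  Lgr Lrot12 (Lpr_bt (K12.f173235 IH) (Lpr_dt (K17.f285782 IH) (Lpr_bt (K10.f33991 IH) (Lpn (LP (LK LD1_c1 LD2_c12 LD3_c54))))))
theorem f287209 : Led Lsl_et (LP (LK LD1_c1 LD2_c12 LD3_c54)) = (LP (LK LD1_c2 LD2_c31 LD3_c40)) :=
  Lre_e IH (LK LD1_c1 LD2_c12 LD3_c54) (LK LD1_c2 LD2_c31 LD3_c40) Lrfl Lrfl
theorem f327543 : Led Lsl_et (LP (LK LD1_c5 LD2_c1 LD3_c45)) = (LP (LK LD1_c5 LD2_c8 LD3_c61)) :=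
  Lgr Lrot122 (Lpr_dt (f327538 IH) (Lpr_gt (f237520 IH) (Lpe (f279367 IH) (Lpr_et (K16.f182054 IH) (Lpe (K10.f182042 IH) (Lpr_dt (K13.f177366 IH) (Lpe (K19.f285819 IH) (Lpr_df (f285786 IH) (Lpr_et (f287209 IH) (Lpr_gt (K18.f287245 IH) (Lpn (LP (LK LD1_c5 LD2_c8 LD3_c61)))))))))))))
theorem f327549 : Led Lsl_ef (LP (LK LD1_c5 LD2_c1 LD3_c45)) = (LP (LK LD1_c5 LD2_c8 LD3_c61)) :=
  Lgr Lrot88 (Lpr_et (f327543 IH) (Lpn (LP (LK LD1_c5 LD2_c8 LD3_c61))))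
theorem f327536 : Led Lsl_ct (LP (LK LD1_c5 LD2_c1 LD3_c45)) = (LP (LK LD1_c9 LD2_c53 LD3_c57)) :=
  Lre_c IH (LK LD1_c5 LD2_c1 LD3_c45) (LK LD1_c9 LD2_c53 LD3_c57) Lrfl Lrfl
theorem f327551 : Led Lsl_et (LP (LK LD1_c9 LD2_c53 LD3_c57)) = (LP (LK LD1_c10 LD2_c8 LD3_c32)) :=
  Lgr Lrot158 (Lpe (f327536 IH) (Lpr_ef (f327549 IH) (Lpe (f287261 IH) (Lpn (LP (LK LD1_c10 LD2_c8 LD3_c32))))))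
theorem f327537 : Led Lsl_dt (LP (LK LD1_c9 LD2_c53 LD3_c57)) = (LP (LK LD1_c18 LD2_c6 LD3_c41)) :=
  Lre_d IH (LK LD1_c9 LD2_c53 LD3_c57) (LK LD1_c18 LD2_c6 LD3_c41) Lrfl Lrfl
theorem f229134 : Led Lsl_et (LP (LK LD1_c8 LD2_c4 LD3_c38)) = (LP (LK LD1_c4 LD2_c1 LD3_c60)) :=
  Lre_e IH (LK LD1_c8 LD2_c4 LD3_c38) (LK LD1_c4 LD2_c1 LD3_c60) Lrfl Lrfl
theorem f229125 : Led Lsl_dt (LP (LK LD1_c8 LD2_c4 LD3_c38)) = (LP (LK LD1_c15 LD2_c12 LD3_c36)) :=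
  Lre_d IH (LK LD1_c8 LD2_c4 LD3_c38) (LK LD1_c15 LD2_c12 LD3_c36) Lrfl Lrfl
theorem f327570 : Led Lsl_gt (LP (LK LD1_c18 LD2_c6 LD3_c41)) = (LP (LK LD1_c15 LD2_c12 LD3_c36)) :=
  Lgr Lrot112 (Lpe (f327537 IH) (Lpr_et (f327551 IH) (Lpr_gf (f296836 IH) (Lpe (f242550 IH) (Lpr_dt (K13.f21745 IH) (Lpr_gf (K15.f242827 IH) (Lpe (K13.f177619 IH) (Lpr_gf (K13.f242847 IH) (Lpe (f229134 IH) (Lpr_dt (f229125 IH) (Lpn (LP (LK LD1_c15 LD2_c12 LD3_c36)))))))))))))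
theorem f184752 : Led Lsl_et (LP (LK LD1_c9 LD2_c55 LD3_c24)) = (LP (LK LD1_c5 LD2_c2 LD3_c17)) :=
  Lre_e IH (LK LD1_c9 LD2_c55 LD3_c24) (LK LD1_c5 LD2_c2 LD3_c17) Lrfl Lrfl
theorem f177623 : Led Lsl_dt (LP (LK LD1_c9 LD2_c55 LD3_c24)) = (LP (LK LD1_c18 LD2_c9 LD3_c61)) :=
  Lre_d IH (LK LD1_c9 LD2_c55 LD3_c24) (LK LD1_c18 LD2_c9 LD3_c61) Lrfl Lrfl
theorem f180933 : Led Lsl_ft (LP (LK LD1_c18 LD2_c3 LD3_c47)) = (LP (LK LD1_c27 LD2_c45 LD3_c26)) :=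
  Lre_f IH (LK LD1_c18 LD2_c3 LD3_c47) (LK LD1_c27 LD2_c45 LD3_c26) Lrfl Lrfl
theorem f322781 : Led Lsl_gt (LP (LK LD1_c18 LD2_c9 LD3_c61)) = (LP (LK LD1_c18 LD2_c7 LD3_c9)) :=
  Lgr Lrot46 (Lpr_gf (K20.f322777 IH) (Lpr_ft (f180933 IH) (Lpr_at (K20.f320874 IH) (Lpn (LP (LK LD1_c18 LD2_c7 LD3_c9))))))
theorem f190526 : Led Lsl_dt (LP (LK LD1_c9 LD2_c54 LD3_c6)) = (LP (LK LD1_c18 LD2_c7 LD3_c9)) :=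
  Lre_d IH (LK LD1_c9 LD2_c54 LD3_c6) (LK LD1_c18 LD2_c7 LD3_c9) Lrfl Lrfl
theorem f229139 : Led Lsl_et (LP (LK LD1_c9 LD2_c52 LD3_c7)) = (LP (LK LD1_c5 LD2_c0 LD3_c52)) :=
  Lre_e IH (LK LD1_c9 LD2_c52 LD3_c7) (LK LD1_c5 LD2_c0 LD3_c52) Lrfl Lrfl
theorem f320845 : Led Lsl_ft (LP (LK LD1_c18 LD2_c3 LD3_c55)) = (LP (LK LD1_c9 LD2_c52 LD3_c7)) :=
  Lre_f IH (LK LD1_c18 LD2_c3 LD3_c55) (LK LD1_c9 LD2_c52 LD3_c7) Lrfl Lrfl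
theorem f320846 : Led Lsl_ef (LP (LK LD1_c18 LD2_c3 LD3_c55)) = (LP (LK LD1_c9 LD2_c54 LD3_c6)) :=
  Lgr Lrot21 (Lpr_ft (f320845 IH) (Lpr_et (f229139 IH) (Lpr_ft (K20.f320839 IH) (Lpr_et (K19.f190589 IH) (Lpr_ft (K14.f190530 IH) (Lpn (LP (LK LD1_c9 LD2_c54 LD3_c6))))))))
theorem f327575 : Led Lsl_gf (LP (LK LD1_c9 LD2_c53 LD3_c57)) = (LP (LK LD1_c18 LD2_c3 LD3_c55)) :=
  Lgr Lrot138 (Lpr_dt (f327537 IH) (Lpr_gt (f327570 IH) (Lpe (f229125 IH) (Lpr_et (f229134 IH) (Lpe (K13.f242847 IH) (Lpe (f184752 IH) (Lpr_dt (f177623 IH) (Lpr_gt (f322781 IH) (Lpe (f190526 IH) (Lpe (f320846 IH) (Lpn (LP (LK LD1_c18 LD2_c3 LD3_c55)))))))))))))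
theorem f320833 : Led Lsl_gt (LP (LK LD1_c15 LD2_c14 LD3_c32)) = (LP (LK LD1_c10 LD2_c29 LD3_c18)) :=
  Lgr Lrot137 (Lpr_ef (K20.f320829 IH) (Lpr_dt (K20.f320769 IH) (Lpe (K20.f192338 IH) (Lpe (K19.f243014 IH) (Lpr_et (K17.f229857 IH) (Lpe (K13.f193633 IH) (Lpe (K15.f229148 IH) (Lpr_dt (K20.f229723 IH) (Lpe (K20.f229729 IH) (Lpr_df (K20.f275869 IH) (Lpn (LP (LK LD1_c10 LD2_c29 LD3_c18)))))))))))))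
theorem f327579 : Led Lsl_cf (LP (LK LD1_c15 LD2_c14 LD3_c32)) = (LP (LK LD1_c18 LD2_c3 LD3_c55)) :=
  Lgr Lrot166 (Lpr_gt (f320833 IH) (Lpe (K20.f275869 IH) (Lpr_gt (K20.f229729 IH) (Lpe (K15.f229717 IH) (Lpr_ct (K16.f229153 IH) (Lpe (K16.f229135 IH) (Lpe (f327570 IH) (Lpe (f327537 IH) (Lpr_gf (f327575 IH) (Lpn (LP (LK LD1_c18 LD2_c3 LD3_c55))))))))))))
theorem f186912 : Led Lsl_ft (LP (LK LD1_c15 LD2_c14 LD3_c32)) = (LP (LK LD1_c8 LD2_c5 LD3_c43)) :=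
  Lre_f IH (LK LD1_c15 LD2_c14 LD3_c32) (LK LD1_c8 LD2_c5 LD3_c43) Lrfl Lrfl
theorem f327586 : Led Lsl_ft (LP (LK LD1_c9 LD2_c52 LD3_c7)) = (LP (LK LD1_c18 LD2_c3 LD3_c55)) :=
  Lre_f IH (LK LD1_c9 LD2_c52 LD3_c7) (LK LD1_c18 LD2_c3 LD3_c55) Lrfl Lrfl
theorem f327587 : Led Lsl_ct (LP (LK LD1_c8 LD2_c5 LD3_c43)) = (LP (LK LD1_c9 LD2_c52 LD3_c7)) :=
  Lgr Lrot40 (Lpe (f186912 IH) (Lpr_cf (f327579 IH) (Lpe (f327586 IH) (Lpn (LP (LK LD1_c9 LD2_c52 LD3_c7))))))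
theorem f216798 : Led Lsl_ct (LP (LK LD1_c2 LD2_c8 LD3_c28)) = (LP (LK LD1_c4 LD2_c21 LD3_c58)) :=
  Lre_c IH (LK LD1_c2 LD2_c8 LD3_c28) (LK LD1_c4 LD2_c21 LD3_c58) Lrfl Lrfl
theorem f33222 : Led Lsl_gt (LP (LK LD1_c4 LD2_c0 LD3_c17)) = (LP (LK LD1_c8 LD2_c1 LD3_c32)) :=
  Lre_g IH (LK LD1_c4 LD2_c0 LD3_c17) (LK LD1_c8 LD2_c1 LD3_c32) Lrfl Lrfl
theorem f313440 : Led Lsl_et (LP (LK LD1_c11 LD2_c8 LD3_c57)) = (LP (LK LD1_c8 LD2_c1 LD3_c32)) :=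
  Lgr Lrot122 (Lpr_dt (K19.f200456 IH) (Lpr_gt (K18.f200454 IH) (Lpr_df (K18.f200446 IH) (Lpr_et (K12.f200422 IH) (Lpe (K14.f232262 IH) (Lpe (K19.f313432 IH) (Lpr_gt (K19.f313424 IH) (Lpe (K12.f33201 IH) (Lpr_et (K12.f33203 IH) (Lpr_gt (f33222 IH) (Lpn (LP (LK LD1_c8 LD2_c1 LD3_c32)))))))))))))
theorem f313443 : Led Lsl_ef (LP (LK LD1_c11 LD2_c8 LD3_c57)) = (LP (LK LD1_c8 LD2_c1 LD3_c32)) :=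
  Lgr Lrot88 (Lpr_et (f313440 IH) (Lpn (LP (LK LD1_c8 LD2_c1 LD3_c32))))
theorem f325280 : Led Lsl_ct (LP (LK LD1_c8 LD2_c41 LD3_c36)) = (LP (LK LD1_c8 LD2_c1 LD3_c32)) :=
  Lgr Lrot15 (Lpe (f269651 IH) (Lpr_cf (f325276 IH) (Lpr_ef (f313443 IH) (Lpn (LP (LK LD1_c8 LD2_c1 LD3_c32))))))
theorem f33218 : Led Lsl_ft (LP (LK LD1_c4 LD2_c0 LD3_c17)) = (LP (LK LD1_c8 LD2_c1 LD3_c33)) :=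
  Lre_f IH (LK LD1_c4 LD2_c0 LD3_c17) (LK LD1_c8 LD2_c1 LD3_c33) Lrfl Lrfl
theorem f280225 : Led Lsl_gf (LP (LK LD1_c4 LD2_c53 LD3_c2)) = (LP (LK LD1_c8 LD2_c1 LD3_c32)) :=
  Lgr Lrot76 (Lpr_af (f280220 IH) (Lpe (f33218 IH) (Lpr_gt (f33222 IH) (Lpn (LP (LK LD1_c8 LD2_c1 LD3_c32))))))
theorem f239897 : Led Lsl_bt (LP (LK LD1_c5 LD2_c8 LD3_c54)) = (LP (LK LD1_c10 LD2_c7 LD3_c58)) :=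
  Lre_b IH (LK LD1_c5 LD2_c8 LD3_c54) (LK LD1_c10 LD2_c7 LD3_c58) Lrfl Lrfl
theorem f279342 : Led Lsl_et (LP (LK LD1_c8 LD2_c4 LD3_c2)) = (LP (LK LD1_c5 LD2_c8 LD3_c54)) :=
  Lgr Lrot74 (Lpe (K16.f279341 IH) (Lpr_ef (K16.f279339 IH) (Lpe (f239897 IH) (Lpn (LP (LK LD1_c5 LD2_c8 LD3_c54))))))
theorem f191966 : Led Lsl_gt (LP (LK LD1_c4 LD2_c51 LD3_c16)) = (LP (LK LD1_c9 LD2_c34 LD3_c39)) :=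
  Lre_g IH (LK LD1_c4 LD2_c51 LD3_c16) (LK LD1_c9 LD2_c34 LD3_c39) Lrfl Lrfl
theorem f280227 : Led Lsl_dt (LP (LK LD1_c9 LD2_c34 LD3_c39)) = (LP (LK LD1_c8 LD2_c1 LD3_c32)) :=
  Lgr Lrot171 (Lpe (f191966 IH) (Lpe (K10.f191677 IH) (Lpr_dt (K10.f33364 IH) (Lpr_gf (K15.f213487 IH) (Lpr_df (K16.f246826 IH) (Lpr_et (K14.f246828 IH) (Lpe (K14.f246889 IH) (Lpe (f279342 IH) (Lpr_dt (K16.f279354 IH) (Lpr_gf (f280225 IH) (Lpn (LP (LK LD1_c8 LD2_c1 LD3_c32)))))))))))))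
theorem f280230 : Led Lsl_df (LP (LK LD1_c9 LD2_c34 LD3_c39)) = (LP (LK LD1_c8 LD2_c1 LD3_c32)) :=
  Lgr Lrot38 (Lpr_dt (f280227 IH) (Lpn (LP (LK LD1_c8 LD2_c1 LD3_c32))))
theorem f280229 : Led Lsl_ct (LP (LK LD1_c17 LD2_c38 LD3_c16)) = (LP (LK LD1_c9 LD2_c34 LD3_c39)) :=
  Lre_c IH (LK LD1_c17 LD2_c38 LD3_c16) (LK LD1_c9 LD2_c34 LD3_c39) Lrfl Lrfl
theorem f327594 : Led Lsl_gf (LP (LK LD1_c17 LD2_c38 LD3_c16)) = (LP (LK LD1_c9 LD2_c52 LD3_c7)) :=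
  Lgr Lrot104 (Lpr_ct (f280229 IH) (Lpr_df (f280230 IH) (Lpe (f325280 IH) (Lpe (f269650 IH) (Lpe (f216798 IH) (Lpe (K20.f216783 IH) (Lpe (K20.f216784 IH) (Lpe (K20.f311305 IH) (Lpr_ct (f327587 IH) (Lpn (LP (LK LD1_c9 LD2_c52 LD3_c7))))))))))))
theorem f192946 : Led Lsl_et (LP (LK LD1_c5 LD2_c0 LD3_c52)) = (LP (LK LD1_c9 LD2_c52 LD3_c7)) :=
  Lre_e IH (LK LD1_c5 LD2_c0 LD3_c52) (LK LD1_c9 LD2_c52 LD3_c7) Lrfl Lrfl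
theorem f229755 : Led Lsl_dt (LP (LK LD1_c15 LD2_c12 LD3_c37)) = (LP (LK LD1_c25 LD2_c1 LD3_c36)) :=
  Lre_d IH (LK LD1_c15 LD2_c12 LD3_c37) (LK LD1_c25 LD2_c1 LD3_c36) Lrfl Lrfl
theorem f216799 : Led Lsl_ft (LP (LK LD1_c15 LD2_c9 LD3_c46)) = (LP (LK LD1_c24 LD2_c58 LD3_c51)) :=
  Lre_f IH (LK LD1_c15 LD2_c9 LD3_c46) (LK LD1_c24 LD2_c58 LD3_c51) Lrfl Lrfl
theorem f240252 : Led Lsl_gt (LP (LK LD1_c15 LD2_c9 LD3_c46)) = (LP (LK LD1_c24 LD2_c58 LD3_c50)) :=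
  Lre_g IH (LK LD1_c15 LD2_c9 LD3_c46) (LK LD1_c24 LD2_c58 LD3_c50) Lrfl Lrfl
theorem f275957 : Led Lsl_gt (LP (LK LD1_c24 LD2_c58 LD3_c50)) = (LP (LK LD1_c25 LD2_c1 LD3_c36)) :=
  Lgr Lrot46 (Lpe (f240252 IH) (Lpr_ft (f216799 IH) (Lpr_at (K16.f275953 IH) (Lpn (LP (LK LD1_c25 LD2_c1 LD3_c36))))))
theorem f327637 : Led Lsl_dt (LP (LK LD1_c17 LD2_c38 LD3_c16)) = (LP (LK LD1_c24 LD2_c58 LD3_c50)) :=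
  Lgr Lrot171 (Lpr_gf (f327594 IH) (Lpe (f192946 IH) (Lpr_dt (K15.f3392 IH) (Lpr_gf (K15.f266008 IH) (Lpe (K15.f246825 IH) (Lpr_et (K16.f246839 IH) (Lpe (K16.f275980 IH) (Lpe (K16.f273299 IH) (Lpr_dt (f229755 IH) (Lpe (f275957 IH) (Lpn (LP (LK LD1_c24 LD2_c58 LD3_c50)))))))))))))
theorem f327639 : Led Lsl_df (LP (LK LD1_c17 LD2_c38 LD3_c16)) = (LP (LK LD1_c24 LD2_c58 LD3_c50)) :=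
  Lgr Lrot38 (Lpr_dt (f327637 IH) (Lpn (LP (LK LD1_c24 LD2_c58 LD3_c50))))
theorem f33226 : Led Lsl_gt (LP (LK LD1_c5 LD2_c8 LD3_c41)) = (LP (LK LD1_c2 LD2_c31 LD3_c32)) :=
  Lre_g IH (LK LD1_c5 LD2_c8 LD3_c41) (LK LD1_c2 LD2_c31 LD3_c32) Lrfl Lrfl
theorem f33263 : Led Lsl_ct (LP (LK LD1_c5 LD2_c8 LD3_c41)) = (LP (LK LD1_c10 LD2_c7 LD3_c52)) :=
  Lre_c IH (LK LD1_c5 LD2_c8 LD3_c41) (LK LD1_c10 LD2_c7 LD3_c52) Lrfl Lrfl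
theorem f327641 : Led Lsl_gt (LP (LK LD1_c10 LD2_c7 LD3_c52)) = (LP (LK LD1_c8 LD2_c3 LD3_c10)) :=
  Lgr Lrot94 (Lpe (f33263 IH) (Lpr_gt (f33226 IH) (Lpe (K16.f33212 IH) (Lpr_gt (f33222 IH) (Lpe (f280230 IH) (Lpe (f280229 IH) (Lpr_df (f327639 IH) (Lpe (f240252 IH) (Lpe (K16.f216775 IH) (Lpn (LP (LK LD1_c8 LD2_c3 LD3_c10))))))))))))
theorem f273301 : Led Lsl_ft (LP (LK LD1_c15 LD2_c12 LD3_c37)) = (LP (LK LD1_c8 LD2_c4 LD3_c38)) :=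
  Lre_f IH (LK LD1_c15 LD2_c12 LD3_c37) (LK LD1_c8 LD2_c4 LD3_c38) Lrfl Lrfl
theorem f327643 : Led Lsl_gf (LP (LK LD1_c10 LD2_c7 LD3_c52)) = (LP (LK LD1_c15 LD2_c12 LD3_c37)) :=
  Lgr Lrot47 (Lpr_gt (f327641 IH) (Lpr_af (K16.f275920 IH) (Lpe (f273301 IH) (Lpn (LP (LK LD1_c15 LD2_c12 LD3_c37))))))
theorem f229168 : Led Lsl_ct (LP (LK LD1_c8 LD2_c4 LD3_c41)) = (LP (LK LD1_c15 LD2_c12 LD3_c37)) :=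
  Lre_c IH (LK LD1_c8 LD2_c4 LD3_c41) (LK LD1_c15 LD2_c12 LD3_c37) Lrfl Lrfl
theorem f193027 : Led Lsl_bt (LP (LK LD1_c15 LD2_c9 LD3_c48)) = (LP (LK LD1_c8 LD2_c3 LD3_c11)) :=
  Lre_b IH (LK LD1_c15 LD2_c9 LD3_c48) (LK LD1_c8 LD2_c3 LD3_c11) Lrfl Lrfl
theorem f254075 : Led Lsl_dt (LP (LK LD1_c4 LD2_c19 LD3_c40)) = (LP (LK LD1_c8 LD2_c37 LD3_c35)) :=
  Lre_d IH (LK LD1_c4 LD2_c19 LD3_c40) (LK LD1_c8 LD2_c37 LD3_c35) Lrfl Lrfl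
theorem f166836 : Led Lsl_gt (LP (LK LD1_c8 LD2_c24 LD3_c6)) = (LP (LK LD1_c4 LD2_c12 LD3_c31)) :=
  Lre_g IH (LK LD1_c8 LD2_c24 LD3_c6) (LK LD1_c4 LD2_c12 LD3_c31) Lrfl Lrfl
theorem f166587 : Led Lsl_bt (LP (LK LD1_c2 LD2_c28 LD3_c43)) = (LP (LK LD1_c1 LD2_c11 LD3_c36)) :=
  Lre_b IH (LK LD1_c2 LD2_c28 LD3_c43) (LK LD1_c1 LD2_c11 LD3_c36) Lrfl Lrfl
theorem f166588 : Led Lsl_bt (LP (LK LD1_c1 LD2_c9 LD3_c25)) = (LP (LK LD1_c2 LD2_c24 LD3_c35)) :=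
  Lre_b IH (LK LD1_c1 LD2_c9 LD3_c25) (LK LD1_c2 LD2_c24 LD3_c35) Lrfl Lrfl
theorem f166589 : Led Lsl_df (LP (LK LD1_c2 LD2_c28 LD3_c43)) = (LP (LK LD1_c2 LD2_c24 LD3_c35)) :=
  Lgr Lrot12 (Lpr_bt (f166587 IH) (Lpr_dt (K11.f166581 IH) (Lpr_bt (f166588 IH) (Lpn (LP (LK LD1_c2 LD2_c24 LD3_c35))))))
theorem f166656 : Led Lsl_gt (LP (LK LD1_c5 LD2_c2 LD3_c15)) = (LP (LK LD1_c2 LD2_c28 LD3_c43)) :=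
  Lre_g IH (LK LD1_c5 LD2_c2 LD3_c15) (LK LD1_c2 LD2_c28 LD3_c43) Lrfl Lrfl
theorem f166936 : Led Lsl_gt (LP (LK LD1_c4 LD2_c12 LD3_c15)) = (LP (LK LD1_c8 LD2_c24 LD3_c6)) :=
  Lre_g IH (LK LD1_c4 LD2_c12 LD3_c15) (LK LD1_c8 LD2_c24 LD3_c6) Lrfl Lrfl
theorem f260920 : Led Lsl_df (LP (LK LD1_c5 LD2_c2 LD3_c15)) = (LP (LK LD1_c8 LD2_c24 LD3_c6)) :=
  Lgr Lrot135 (Lpr_gt (f166656 IH) (Lpr_df (f166589 IH) (Lpr_et (K15.f166617 IH) (Lpr_gt (K12.f221994 IH) (Lpe (K12.f53890 IH) (Lpr_dt (K16.f53650 IH) (Lpr_gt (K15.f260908 IH) (Lpe (K16.f166915 IH) (Lpr_et (K19.f166903 IH) (Lpr_gt (f166936 IH) (Lpn (LP (LK LD1_c8 LD2_c24 LD3_c6)))))))))))))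
theorem f260930 : Led Lsl_gt (LP (LK LD1_c4 LD2_c18 LD3_c40)) = (LP (LK LD1_c8 LD2_c36 LD3_c0)) :=
  Lre_g IH (LK LD1_c4 LD2_c18 LD3_c40) (LK LD1_c8 LD2_c36 LD3_c0) Lrfl Lrfl
theorem f260931 : Led Lsl_ef (LP (LK LD1_c8 LD2_c36 LD3_c0)) = (LP (LK LD1_c8 LD2_c24 LD3_c6)) :=
  Lgr Lrot17 (Lpe (f260930 IH) (Lpe (f246684 IH) (Lpr_dt (K14.f230313 IH) (Lpe (K14.f231230 IH) (Lpe (K12.f53774 IH) (Lpe (K12.f221994 IH) (Lpe (K15.f166617 IH) (Lpe (f166589 IH) (Lpe (f166656 IH) (Lpr_df (f260920 IH) (Lpn (LP (LK LD1_c8 LD2_c24 LD3_c6)))))))))))))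
theorem f260933 : Led Lsl_et (LP (LK LD1_c8 LD2_c36 LD3_c0)) = (LP (LK LD1_c8 LD2_c24 LD3_c6)) :=
  Lgr Lrot87 (Lpr_ef (f260931 IH) (Lpn (LP (LK LD1_c8 LD2_c24 LD3_c6))))
theorem f307149 : Led Lsl_gt (LP (LK LD1_c4 LD2_c52 LD3_c24)) = (LP (LK LD1_c9 LD2_c36 LD3_c60)) :=
  Lre_g IH (LK LD1_c4 LD2_c52 LD3_c24) (LK LD1_c9 LD2_c36 LD3_c60) Lrfl Lrfl
theorem f259792 : Led Lsl_gt (LP (LK LD1_c10 LD2_c9 LD3_c43)) = (LP (LK LD1_c5 LD2_c9 LD3_c44)) :=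
  Lre_g IH (LK LD1_c10 LD2_c9 LD3_c43) (LK LD1_c5 LD2_c9 LD3_c44) Lrfl Lrfl
theorem f307253 : Led Lsl_dt (LP (LK LD1_c8 LD2_c36 LD3_c0)) = (LP (LK LD1_c5 LD2_c9 LD3_c44)) :=
  Lgr Lrot56 (Lpr_et (f260933 IH) (Lpr_gt (f166836 IH) (Lpe (K18.f301695 IH) (Lpr_dt (f254075 IH) (Lpr_gt (f254071 IH) (Lpr_df (f307247 IH) (Lpr_et (f307154 IH) (Lpr_gt (f307149 IH) (Lpe (K19.f307134 IH) (Lpr_gt (f259792 IH) (Lpn (LP (LK LD1_c5 LD2_c9 LD3_c44)))))))))))))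
theorem f260924 : Led Lsl_dt (LP (LK LD1_c5 LD2_c2 LD3_c15)) = (LP (LK LD1_c8 LD2_c24 LD3_c6)) :=
  Lgr Lrot42 (Lpr_df (f260920 IH) (Lpn (LP (LK LD1_c8 LD2_c24 LD3_c6))))
theorem f166666 : Led Lsl_et (LP (LK LD1_c9 LD2_c55 LD3_c21)) = (LP (LK LD1_c5 LD2_c2 LD3_c15)) :=
  Lre_e IH (LK LD1_c9 LD2_c55 LD3_c21) (LK LD1_c5 LD2_c2 LD3_c15) Lrfl Lrfl
theorem f307258 : Led Lsl_et (LP (LK LD1_c5 LD2_c9 LD3_c44)) = (LP (LK LD1_c10 LD2_c10 LD3_c17)) :=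
  Lre_e IH (LK LD1_c5 LD2_c9 LD3_c44) (LK LD1_c10 LD2_c10 LD3_c17) Lrfl Lrfl
theorem f307259 : Led Lsl_df (LP (LK LD1_c9 LD2_c55 LD3_c21)) = (LP (LK LD1_c10 LD2_c10 LD3_c17)) :=
  Lgr Lrot70 (Lpr_et (f166666 IH) (Lpr_dt (f260924 IH) (Lpe (f260931 IH) (Lpr_dt (f307253 IH) (Lpr_et (f307258 IH) (Lpn (LP (LK LD1_c10 LD2_c10 LD3_c17))))))))
theorem f307272 : Led Lsl_dt (LP (LK LD1_c9 LD2_c55 LD3_c21)) = (LP (LK LD1_c10 LD2_c10 LD3_c17)) :=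
  Lgr Lrot42 (Lpr_df (f307259 IH) (Lpn (LP (LK LD1_c10 LD2_c10 LD3_c17))))
theorem f305892 : Led Lsl_dt (LP (LK LD1_c5 LD2_c3 LD3_c48)) = (LP (LK LD1_c4 LD2_c53 LD3_c33)) :=
  Lgr Lrot42 (Lpr_df (f305884 IH) (Lpn (LP (LK LD1_c4 LD2_c53 LD3_c33))))
theorem f284044 : Led Lsl_et (LP (LK LD1_c5 LD2_c3 LD3_c48)) = (LP (LK LD1_c9 LD2_c58 LD3_c34)) :=
  Lre_e IH (LK LD1_c5 LD2_c3 LD3_c48) (LK LD1_c9 LD2_c58 LD3_c34) Lrfl Lrfl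
theorem f305919 : Led Lsl_gt (LP (LK LD1_c9 LD2_c58 LD3_c34)) = (LP (LK LD1_c17 LD2_c46 LD3_c51)) :=
  Lgr Lrot137 (Lpe (f284044 IH) (Lpr_dt (f305892 IH) (Lpe (f166636 IH) (Lpe (K15.f166603 IH) (Lpr_et (K17.f166624 IH) (Lpe (K15.f166628 IH) (Lpe (K15.f166667 IH) (Lpe (K15.f259607 IH) (Lpe (K15.f201161 IH) (Lpr_df (K15.f259602 IH) (Lpn (LP (LK LD1_c17 LD2_c46 LD3_c51)))))))))))))
theorem f43371 : Led Lsl_dt (LP (LK LD1_c9 LD2_c40 LD3_c0)) = (LP (LK LD1_c17 LD2_c46 LD3_c50)) :=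
  Lre_d IH (LK LD1_c9 LD2_c40 LD3_c0) (LK LD1_c17 LD2_c46 LD3_c50) Lrfl Lrfl
theorem f307307 : Led Lsl_gt (LP (LK LD1_c17 LD2_c46 LD3_c50)) = (LP (LK LD1_c10 LD2_c10 LD3_c17)) :=
  Lgr Lrot112 (Lpe (f43371 IH) (Lpr_et (K15.f214563 IH) (Lpe (f305919 IH) (Lpe (f284044 IH) (Lpr_dt (f305892 IH) (Lpe (f166636 IH) (Lpe (K15.f166603 IH) (Lpe (f166656 IH) (Lpe (f166666 IH) (Lpr_dt (f307272 IH) (Lpn (LP (LK LD1_c10 LD2_c10 LD3_c17)))))))))))))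
theorem f43807 : Led Lsl_gt (LP (LK LD1_c9 LD2_c39 LD3_c61)) = (LP (LK LD1_c17 LD2_c46 LD3_c46)) :=
  Lre_g IH (LK LD1_c9 LD2_c39 LD3_c61) (LK LD1_c17 LD2_c46 LD3_c46) Lrfl Lrfl
theorem f43808 : Led Lsl_dt (LP (LK LD1_c17 LD2_c46 LD3_c46)) = (LP (LK LD1_c27 LD2_c33 LD3_c30)) :=
  Lre_d IH (LK LD1_c17 LD2_c46 LD3_c46) (LK LD1_c27 LD2_c33 LD3_c30) Lrfl Lrfl
theorem f307275 : Led Lsl_ct (LP (LK LD1_c18 LD2_c9 LD3_c56)) = (LP (LK LD1_c9 LD2_c55 LD3_c21)) :=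
  Lre_c IH (LK LD1_c18 LD2_c9 LD3_c56) (LK LD1_c9 LD2_c55 LD3_c21) Lrfl Lrfl
theorem f307274 : Led Lsl_dt (LP (LK LD1_c27 LD2_c50 LD3_c27)) = (LP (LK LD1_c18 LD2_c9 LD3_c56)) :=
  Lre_d IH (LK LD1_c27 LD2_c50 LD3_c27) (LK LD1_c18 LD2_c9 LD3_c56) Lrfl Lrfl
theorem f307309 : Led Lsl_gt (LP (LK LD1_c27 LD2_c33 LD3_c30)) = (LP (LK LD1_c27 LD2_c50 LD3_c27)) :=
  Lgr Lrot49 (Lpe (f43808 IH) (Lpe (f43807 IH) (Lpe (K13.f43367 IH) (Lpr_gt (K15.f43370 IH) (Lpr_dt (f43371 IH) (Lpr_gt (f307307 IH) (Lpe (f307259 IH) (Lpe (f307275 IH) (Lpe (f307274 IH) (Lpn (LP (LK LD1_c27 LD2_c50 LD3_c27))))))))))))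
theorem f43672 : Led Lsl_et (LP (LK LD1_c4 LD2_c54 LD3_c13)) = (LP (LK LD1_c9 LD2_c39 LD3_c61)) :=
  Lre_e IH (LK LD1_c4 LD2_c54 LD3_c13) (LK LD1_c9 LD2_c39 LD3_c61) Lrfl Lrfl
theorem f307268 : Led Lsl_dt (LP (LK LD1_c18 LD2_c9 LD3_c56)) = (LP (LK LD1_c27 LD2_c50 LD3_c27)) :=
  Lre_d IH (LK LD1_c18 LD2_c9 LD3_c56) (LK LD1_c27 LD2_c50 LD3_c27) Lrfl Lrfl
theorem f307316 : Led Lsl_et (LP (LK LD1_c18 LD2_c9 LD3_c56)) = (LP (LK LD1_c9 LD2_c55 LD3_c20)) :=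
  Lre_e IH (LK LD1_c18 LD2_c9 LD3_c56) (LK LD1_c9 LD2_c55 LD3_c20) Lrfl Lrfl
theorem f307317 : Led Lsl_gf (LP (LK LD1_c10 LD2_c28 LD3_c4)) = (LP (LK LD1_c9 LD2_c55 LD3_c20)) :=
  Lgr Lrot141 (Lpe (K16.f257076 IH) (Lpr_dt (K15.f257062 IH) (Lpr_gt (K15.f43803 IH) (Lpe (K14.f43449 IH) (Lpr_et (f43672 IH) (Lpr_gt (f43807 IH) (Lpr_dt (f43808 IH) (Lpr_gt (f307309 IH) (Lpe (f307268 IH) (Lpr_et (f307316 IH) (Lpn (LP (LK LD1_c9 LD2_c55 LD3_c20)))))))))))))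
theorem f166657 : Led Lsl_ct (LP (LK LD1_c5 LD2_c2 LD3_c15)) = (LP (LK LD1_c9 LD2_c55 LD3_c20)) :=
  Lre_c IH (LK LD1_c5 LD2_c2 LD3_c15) (LK LD1_c9 LD2_c55 LD3_c20) Lrfl Lrfl
theorem f305728 : Led Lsl_at (LP (LK LD1_c5 LD2_c39 LD3_c42)) = (LP (LK LD1_c11 LD2_c10 LD3_c29)) :=
  Lre_a IH (LK LD1_c5 LD2_c39 LD3_c42) (LK LD1_c11 LD2_c10 LD3_c29) Lrfl Lrfl
theorem f305819 : Led Lsl_dt (LP (LK LD1_c11 LD2_c10 LD3_c29)) = (LP (LK LD1_c9 LD2_c40 LD3_c11)) :=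
  Lgr Lrot44 (Lpe (f305728 IH) (Lpr_df (K19.f305756 IH) (Lpe (K17.f289929 IH) (Lpn (LP (LK LD1_c9 LD2_c40 LD3_c11))))))
theorem f306567 : Led Lsl_df (LP (LK LD1_c11 LD2_c10 LD3_c29)) = (LP (LK LD1_c9 LD2_c40 LD3_c11)) :=
  Lgr Lrot38 (Lpr_dt (f305819 IH) (Lpn (LP (LK LD1_c9 LD2_c40 LD3_c11))))
theorem f305741 : Led Lsl_gf (LP (LK LD1_c11 LD2_c10 LD3_c29)) = (LP (LK LD1_c10 LD2_c11 LD3_c10)) :=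
  Lgr Lrot76 (Lpe (f305728 IH) (Lpr_ff (K19.f305721 IH) (Lpr_gt (K14.f183114 IH) (Lpn (LP (LK LD1_c10 LD2_c11 LD3_c10))))))
theorem f306573 : Led Lsl_gf (LP (LK LD1_c5 LD2_c2 LD3_c15)) = (LP (LK LD1_c9 LD2_c39 LD3_c38)) :=
  Lgr Lrot138 (Lpr_dt (f260924 IH) (Lpr_gt (f166836 IH) (Lpe (f166808 IH) (Lpr_et (K18.f249616 IH) (Lpr_gt (K14.f253662 IH) (Lpe (K14.f254214 IH) (Lpr_dt (K14.f248039 IH) (Lpe (f305741 IH) (Lpr_df (f306567 IH) (Lpr_et (K19.f289931 IH) (Lpn (LP (LK LD1_c9 LD2_c39 LD3_c38)))))))))))))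
theorem f300087 : Led Lsl_ct (LP (LK LD1_c10 LD2_c9 LD3_c43)) = (LP (LK LD1_c18 LD2_c30 LD3_c44)) :=
  Lre_c IH (LK LD1_c10 LD2_c9 LD3_c43) (LK LD1_c18 LD2_c30 LD3_c44) Lrfl Lrfl
theorem f259790 : Led Lsl_gt (LP (LK LD1_c10 LD2_c10 LD3_c9)) = (LP (LK LD1_c18 LD2_c30 LD3_c44)) :=
  Lre_g IH (LK LD1_c10 LD2_c10 LD3_c9) (LK LD1_c18 LD2_c30 LD3_c44) Lrfl Lrfl
theorem f307325 : Led Lsl_ct (LP (LK LD1_c15 LD2_c9 LD3_c48)) = (LP (LK LD1_c10 LD2_c10 LD3_c9)) :=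
  Lgr Lrot64 (Lpr_bt (f193027 IH) (Lpe (f193023 IH) (Lpr_bf (K16.f193008 IH) (Lpr_ct (K16.f193026 IH) (Lpr_gf (f307317 IH) (Lpe (f166657 IH) (Lpr_gf (f306573 IH) (Lpr_bf (K18.f300078 IH) (Lpr_ct (f300087 IH) (Lpe (f259790 IH) (Lpn (LP (LK LD1_c10 LD2_c10 LD3_c9)))))))))))))
theorem f259788 : Led Lsl_ct (LP (LK LD1_c2 LD2_c31 LD3_c57)) = (LP (LK LD1_c5 LD2_c9 LD3_c42)) :=
  Lre_c IH (LK LD1_c2 LD2_c31 LD3_c57) (LK LD1_c5 LD2_c9 LD3_c42) Lrfl Lrfl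
theorem f327647 : Led Lsl_bt (LP (LK LD1_c5 LD2_c8 LD3_c41)) = (LP (LK LD1_c2 LD2_c32 LD3_c4)) :=
  Lgr Lrot22 (Lpr_ct (f33263 IH) (Lpr_gf (f327643 IH) (Lpe (f229168 IH) (Lpe (f326782 IH) (Lpe (f193027 IH) (Lpr_ct (f307325 IH) (Lpe (K19.f259779 IH) (Lpe (f259788 IH) (Lpr_bt (K19.f166735 IH) (Lpe (K19.f165489 IH) (Lpn (LP (LK LD1_c2 LD2_c32 LD3_c4)))))))))))))
theorem f171725 : Led Lsl_bt (LP (LK LD1_c2 LD2_c3 LD3_c38)) = (LP (LK LD1_c4 LD2_c12 LD3_c48)) :=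
  Lre_b IH (LK LD1_c2 LD2_c3 LD3_c38) (LK LD1_c4 LD2_c12 LD3_c48) Lrfl Lrfl
theorem f327653 : Led Lsl_df (LP (LK LD1_c5 LD2_c8 LD3_c41)) = (LP (LK LD1_c4 LD2_c12 LD3_c48)) :=
  Lgr Lrot12 (Lpr_bt (f327647 IH) (Lpe (K19.f306977 IH) (Lpr_bt (f171725 IH) (Lpn (LP (LK LD1_c4 LD2_c12 LD3_c48))))))
theorem f33262 : Led Lsl_ct (LP (LK LD1_c10 LD2_c7 LD3_c52)) = (LP (LK LD1_c5 LD2_c8 LD3_c41)) :=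
  Lre_c IH (LK LD1_c10 LD2_c7 LD3_c52) (LK LD1_c5 LD2_c8 LD3_c41) Lrfl Lrfl
theorem f228980 : Led Lsl_ct (LP (LK LD1_c4 LD2_c8 LD3_c30)) = (LP (LK LD1_c8 LD2_c17 LD3_c4)) :=
  Lre_c IH (LK LD1_c4 LD2_c8 LD3_c30) (LK LD1_c8 LD2_c17 LD3_c4) Lrfl Lrfl
theorem f171742 : Led Lsl_ct (LP (LK LD1_c8 LD2_c25 LD3_c2)) = (LP (LK LD1_c4 LD2_c12 LD3_c48)) :=
  Lre_c IH (LK LD1_c8 LD2_c25 LD3_c2) (LK LD1_c4 LD2_c12 LD3_c48) Lrfl Lrfl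
theorem f327704 : Led Lsl_gt (LP (LK LD1_c8 LD2_c17 LD3_c4)) = (LP (LK LD1_c8 LD2_c25 LD3_c2)) :=
  Lgr Lrot150 (Lpe (f228980 IH) (Lpe (f228995 IH) (Lpr_df (f228996 IH) (Lpr_gt (f326782 IH) (Lpr_ct (f229168 IH) (Lpe (f327643 IH) (Lpr_ct (f33262 IH) (Lpr_df (f327653 IH) (Lpe (f171742 IH) (Lpn (LP (LK LD1_c8 LD2_c25 LD3_c2))))))))))))
theorem f327775 : Led Lsl_ft (LP (LK LD1_c8 LD2_c17 LD3_c4)) = (LP (LK LD1_c15 LD2_c34 LD3_c52)) :=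
  Lre_f IH (LK LD1_c8 LD2_c17 LD3_c4) (LK LD1_c15 LD2_c34 LD3_c52) Lrfl Lrfl
theorem f171743 : Led Lsl_gt (LP (LK LD1_c8 LD2_c25 LD3_c2)) = (LP (LK LD1_c15 LD2_c49 LD3_c9)) :=
  Lre_g IH (LK LD1_c8 LD2_c25 LD3_c2) (LK LD1_c15 LD2_c49 LD3_c9) Lrfl Lrfl
theorem f327776 : Led Lsl_at (LP (LK LD1_c15 LD2_c34 LD3_c52)) = (LP (LK LD1_c15 LD2_c49 LD3_c9)) :=
  Lgr Lrot26 (Lpe (f327775 IH) (Lpr_gt (f327704 IH) (Lpr_gt (f171743 IH) (Lpn (LP (LK LD1_c15 LD2_c49 LD3_c9))))))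
theorem f327784 : Led Lsl_af (LP (LK LD1_c15 LD2_c34 LD3_c52)) = (LP (LK LD1_c15 LD2_c49 LD3_c9)) :=
  Lgr Lrot0 (Lpr_at (f327776 IH) (Lpn (LP (LK LD1_c15 LD2_c49 LD3_c9))))
theorem f229013 : Led Lsl_ct (LP (LK LD1_c15 LD2_c34 LD3_c52)) = (LP (LK LD1_c8 LD2_c17 LD3_c7)) :=
  Lre_c IH (LK LD1_c15 LD2_c34 LD3_c52) (LK LD1_c8 LD2_c17 LD3_c7) Lrfl Lrfl
theorem f320827 : Led Lsl_af (LP (LK LD1_c9 LD2_c34 LD3_c14)) = (LP (LK LD1_c8 LD2_c17 LD3_c7)) :=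
  Lgr Lrot117 (Lpr_dt (K14.f186910 IH) (Lpr_at (K20.f320821 IH) (Lpe (K12.f229014 IH) (Lpn (LP (LK LD1_c8 LD2_c17 LD3_c7))))))
theorem f327786 : Led Lsl_ct (LP (LK LD1_c9 LD2_c34 LD3_c14)) = (LP (LK LD1_c15 LD2_c49 LD3_c9)) :=
  Lgr Lrot111 (Lpr_af (f320827 IH) (Lpe (f229013 IH) (Lpr_af (f327784 IH) (Lpn (LP (LK LD1_c15 LD2_c49 LD3_c9))))))
theorem f186897 : Led Lsl_ct (LP (LK LD1_c9 LD2_c34 LD3_c12)) = (LP (LK LD1_c4 LD2_c51 LD3_c6)) :=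
  Lre_c IH (LK LD1_c9 LD2_c34 LD3_c12) (LK LD1_c4 LD2_c51 LD3_c6) Lrfl Lrfl
theorem f327792 : Led Lsl_ff (LP (LK LD1_c9 LD2_c34 LD3_c12)) = (LP (LK LD1_c15 LD2_c49 LD3_c9)) :=
  Lgr Lrot23 (Lpr_ct (f186897 IH) (Lpr_ft (K14.f186905 IH) (Lpr_ct (f327786 IH) (Lpn (LP (LK LD1_c15 LD2_c49 LD3_c9))))))
theorem f327798 : Led Lsl_ft (LP (LK LD1_c9 LD2_c34 LD3_c12)) = (LP (LK LD1_c15 LD2_c49 LD3_c9)) :=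
  Lgr Lrot48 (Lpr_ff (f327792 IH) (Lpn (LP (LK LD1_c15 LD2_c49 LD3_c9))))
theorem f327789 : Led Lsl_ft (LP (LK LD1_c15 LD2_c34 LD3_c52)) = (LP (LK LD1_c8 LD2_c17 LD3_c4)) :=
  Lre_f IH (LK LD1_c15 LD2_c34 LD3_c52) (LK LD1_c8 LD2_c17 LD3_c4) Lrfl Lrfl
theorem f327802 : Led Lsl_af (LP (LK LD1_c9 LD2_c34 LD3_c12)) = (LP (LK LD1_c8 LD2_c17 LD3_c4)) :=
  Lgr Lrot45 (Lpr_ft (f327798 IH) (Lpe (f327784 IH) (Lpr_ft (f327789 IH) (Lpn (LP (LK LD1_c8 LD2_c17 LD3_c4))))))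
theorem f232539 : Led Lsl_et (LP (LK LD1_c9 LD2_c34 LD3_c12)) = (LP (LK LD1_c4 LD2_c51 LD3_c5)) :=
  Lre_e IH (LK LD1_c9 LD2_c34 LD3_c12) (LK LD1_c4 LD2_c51 LD3_c5) Lrfl Lrfl
theorem f233392 : Led Lsl_et (LP (LK LD1_c4 LD2_c8 LD3_c29)) = (LP (LK LD1_c8 LD2_c17 LD3_c4)) :=
  Lre_e IH (LK LD1_c4 LD2_c8 LD3_c29) (LK LD1_c8 LD2_c17 LD3_c4) Lrfl Lrfl
theorem f327808 : Led Lsl_at (LP (LK LD1_c4 LD2_c51 LD3_c5)) = (LP (LK LD1_c4 LD2_c8 LD3_c29)) :=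
  Lgr Lrot80 (Lpe (f232539 IH) (Lpr_af (f327802 IH) (Lpe (f233392 IH) (Lpn (LP (LK LD1_c4 LD2_c8 LD3_c29))))))
theorem f315328 : Led Lsl_ct (LP (LK LD1_c8 LD2_c17 LD3_c1)) = (LP (LK LD1_c4 LD2_c18 LD3_c59)) :=
  Lgr Lrot7 (Lpe (K20.f308829 IH) (Lpe (K20.f2795 IH) (Lpe (K15.f2794 IH) (Lpe (K12.f2793 IH) (Lpe (K12.f1921 IH) (Lpr_gt (K11.f2792 IH) (Lpe (K13.f238068 IH) (Lpr_gt (K14.f238222 IH) (Lpr_dt (K20.f315318 IH) (Lpn (LP (LK LD1_c4 LD2_c18 LD3_c59))))))))))))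
theorem f315332 : Led Lsl_gt (LP (LK LD1_c4 LD2_c21 LD3_c18)) = (LP (LK LD1_c8 LD2_c17 LD3_c1)) :=
  Lgr Lrot187 (Lpe (K14.f184366 IH) (Lpr_gf (K14.f255616 IH) (Lpr_dt (K20.f235596 IH) (Lpr_gt (K13.f235597 IH) (Lpe (K14.f238209 IH) (Lpr_gt (K14.f238222 IH) (Lpr_ct (K13.f192812 IH) (Lpr_dt (K20.f315318 IH) (Lpe (f315328 IH) (Lpn (LP (LK LD1_c8 LD2_c17 LD3_c1))))))))))))
theorem f327817 : Led Lsl_ff (LP (LK LD1_c4 LD2_c51 LD3_c5)) = (LP (LK LD1_c4 LD2_c21 LD3_c18)) :=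
  Lgr Lrot52 (Lpr_at (f327808 IH) (Lpe (K20.f167361 IH) (Lpe (f315332 IH) (Lpn (LP (LK LD1_c4 LD2_c21 LD3_c18))))))
theorem f327823 : Led Lsl_ft (LP (LK LD1_c4 LD2_c51 LD3_c5)) = (LP (LK LD1_c4 LD2_c21 LD3_c18)) :=
  Lgr Lrot48 (Lpr_ff (f327817 IH) (Lpn (LP (LK LD1_c4 LD2_c21 LD3_c18))))
theorem f327829 : Led Lsl_af (LP (LK LD1_c4 LD2_c51 LD3_c24)) = (LP (LK LD1_c4 LD2_c21 LD3_c18)) :=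
  Lgr Lrot31 (Lpe (K13.f2084 IH) (Lpr_gf (K14.f246781 IH) (Lpr_ft (f327823 IH) (Lpn (LP (LK LD1_c4 LD2_c21 LD3_c18))))))
theorem f327810 : Led Lsl_af (LP (LK LD1_c4 LD2_c51 LD3_c5)) = (LP (LK LD1_c4 LD2_c8 LD3_c29)) :=
  Lgr Lrot0 (Lpr_at (f327808 IH) (Lpn (LP (LK LD1_c4 LD2_c8 LD3_c29))))
theorem f327842 : Led Lsl_ft (LP (LK LD1_c4 LD2_c51 LD3_c24)) = (LP (LK LD1_c4 LD2_c8 LD3_c29)) :=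
  Lgr Lrot101 (Lpr_af (f327829 IH) (Lpe (f327823 IH) (Lpr_af (f327810 IH) (Lpn (LP (LK LD1_c4 LD2_c8 LD3_c29))))))
theorem f327850 : Led Lsl_ff (LP (LK LD1_c4 LD2_c51 LD3_c24)) = (LP (LK LD1_c4 LD2_c8 LD3_c29)) :=
  Lgr Lrot3 (Lpr_ft (f327842 IH) (Lpn (LP (LK LD1_c4 LD2_c8 LD3_c29))))
theorem f327856 : Led Lsl_ft (LP (LK LD1_c4 LD2_c51 LD3_c61)) = (LP (LK LD1_c8 LD2_c17 LD3_c3)) :=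
  Lgr Lrot54 (Lpr_df (K13.f233205 IH) (Lpr_ff (f327850 IH) (Lpe (K13.f167338 IH) (Lpn (LP (LK LD1_c8 LD2_c17 LD3_c3))))))
theorem f327862 : Led Lsl_ff (LP (LK LD1_c4 LD2_c51 LD3_c13)) = (LP (LK LD1_c9 LD2_c33 LD3_c49)) :=
  Lgr Lrot23 (Lpe (K13.f232919 IH) (Lpr_ft (f327856 IH) (Lpr_ct (K13.f233376 IH) (Lpn (LP (LK LD1_c9 LD2_c33 LD3_c49))))))
theorem f327874 : Led Lsl_at (LP (LK LD1_c4 LD2_c51 LD3_c13)) = (LP (LK LD1_c9 LD2_c33 LD3_c46)) :=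
  Lgr Lrot26 (Lpr_ff (f327862 IH) (Lpe (K13.f232998 IH) (Lpe (K13.f184376 IH) (Lpn (LP (LK LD1_c9 LD2_c33 LD3_c46))))))
theorem f327882 : Led Lsl_af (LP (LK LD1_c2 LD2_c23 LD3_c25)) = (LP (LK LD1_c4 LD2_c50 LD3_c49)) :=
  Lgr Lrot117 (Lpr_dt (K13.f232523 IH) (Lpr_at (f327874 IH) (Lpr_dt (K13.f167360 IH) (Lpn (LP (LK LD1_c4 LD2_c50 LD3_c49))))))
theorem f327921 : Led Lsl_ft (LP (LK LD1_c2 LD2_c23 LD3_c34)) = (LP (LK LD1_c4 LD2_c50 LD3_c49)) :=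
  Lgr Lrot2 (Lpe (K13.f233380 IH) (Lpr_gt (K13.f186926 IH) (Lpr_af (f327882 IH) (Lpn (LP (LK LD1_c4 LD2_c50 LD3_c49))))))
theorem f327931 : Led Lsl_ff (LP (LK LD1_c2 LD2_c23 LD3_c34)) = (LP (LK LD1_c4 LD2_c50 LD3_c49)) :=
  Lgr Lrot3 (Lpr_ft (f327921 IH) (Lpn (LP (LK LD1_c4 LD2_c50 LD3_c49))))
theorem f327939 : Led Lsl_at (LP (LK LD1_c2 LD2_c23 LD3_c34)) = (LP (LK LD1_c4 LD2_c50 LD3_c51)) :=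
  Lgr Lrot26 (Lpr_ff (f327931 IH) (Lpr_gt (K13.f184403 IH) (Lpr_gt (K19.f308827 IH) (Lpn (LP (LK LD1_c4 LD2_c50 LD3_c51))))))
theorem f327912 : Led Lsl_at (LP (LK LD1_c2 LD2_c23 LD3_c25)) = (LP (LK LD1_c4 LD2_c50 LD3_c49)) :=
  Lgr Lrot100 (Lpr_af (f327882 IH) (Lpn (LP (LK LD1_c4 LD2_c50 LD3_c49))))
theorem f327946 : Led Lsl_ff (LP (LK LD1_c2 LD2_c23 LD3_c25)) = (LP (LK LD1_c4 LD2_c50 LD3_c51)) :=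
  Lgr Lrot30 (Lpr_at (f327912 IH) (Lpe (f327931 IH) (Lpr_at (f327939 IH) (Lpn (LP (LK LD1_c4 LD2_c50 LD3_c51))))))
theorem f327950 : Led Lsl_ft (LP (LK LD1_c1 LD2_c8 LD3_c49)) = (LP (LK LD1_c2 LD2_c23 LD3_c14)) :=
  Lgr Lrot4 (Lpe (K13.f186925 IH) (Lpr_ff (f327946 IH) (Lpe (K13.f288 IH) (Lpn (LP (LK LD1_c2 LD2_c23 LD3_c14))))))
theorem f327962 : Led Lsl_ff (LP (LK LD1_c1 LD2_c8 LD3_c49)) = (LP (LK LD1_c2 LD2_c23 LD3_c14)) :=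
  Lgr Lrot3 (Lpr_ft (f327950 IH) (Lpn (LP (LK LD1_c2 LD2_c23 LD3_c14))))
theorem f2449 : Led Lsl_et (LP (LK LD1_c1 LD2_c8 LD3_c49)) = (LP (LK LD1_c2 LD2_c23 LD3_c26)) :=
  Lre_e IH (LK LD1_c1 LD2_c8 LD3_c49) (LK LD1_c2 LD2_c23 LD3_c26) Lrfl Lrfl
theorem f327966 : Led Lsl_ft (LP (LK LD1_c2 LD2_c23 LD3_c26)) = (LP (LK LD1_c4 LD2_c51 LD3_c17)) :=
  Lre_f IH (LK LD1_c2 LD2_c23 LD3_c26) (LK LD1_c4 LD2_c51 LD3_c17) Lrfl Lrfl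
theorem f327967 : Led Lsl_et (LP (LK LD1_c4 LD2_c51 LD3_c17)) = (LP (LK LD1_c8 LD2_c37 LD3_c37)) :=
  Lgr Lrot69 (Lpe (f327966 IH) (Lpe (f2449 IH) (Lpr_ff (f327962 IH) (Lpe (K13.f167378 IH) (Lpr_ff (f326425 IH) (Lpn (LP (LK LD1_c8 LD2_c37 LD3_c37))))))))
theorem f327975 : Led Lsl_dt (LP (LK LD1_c9 LD2_c34 LD3_c41)) = (LP (LK LD1_c4 LD2_c51 LD3_c17)) :=
  Lre_d IH (LK LD1_c9 LD2_c34 LD3_c41) (LK LD1_c4 LD2_c51 LD3_c17) Lrfl Lrfl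
theorem f222299 : Led Lsl_bt (LP (LK LD1_c5 LD2_c35 LD3_c30)) = (LP (LK LD1_c11 LD2_c2 LD3_c58)) :=
  Lre_b IH (LK LD1_c5 LD2_c35 LD3_c30) (LK LD1_c11 LD2_c2 LD3_c58) Lrfl Lrfl
theorem f326423 : Led Lsl_df (LP (LK LD1_c5 LD2_c35 LD3_c30)) = (LP (LK LD1_c8 LD2_c37 LD3_c37)) :=
  Lgr Lrot12 (Lpr_bt (f222299 IH) (Lpr_dt (K19.f311800 IH) (Lpr_bt (f326419 IH) (Lpn (LP (LK LD1_c8 LD2_c37 LD3_c37))))))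
theorem f317239 : Led Lsl_ef (LP (LK LD1_c6 LD2_c7 LD3_c15)) = (LP (LK LD1_c5 LD2_c35 LD3_c30)) :=
  Lgr Lrot20 (Lpe (K20.f246993 IH) (Lpe (K20.f317054 IH) (Lpr_at (K20.f317230 IH) (Lpn (LP (LK LD1_c5 LD2_c35 LD3_c30))))))
theorem f327976 : Led Lsl_ef (LP (LK LD1_c9 LD2_c34 LD3_c41)) = (LP (LK LD1_c5 LD2_c1 LD3_c39)) :=
  Lgr Lrot73 (Lpr_dt (f327975 IH) (Lpr_et (f327967 IH) (Lpe (f326423 IH) (Lpe (f317239 IH) (Lpr_dt (K20.f320582 IH) (Lpn (LP (LK LD1_c5 LD2_c1 LD3_c39))))))))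
theorem f327983 : Led Lsl_gt (LP (LK LD1_c9 LD2_c34 LD3_c41)) = (LP (LK LD1_c5 LD2_c1 LD3_c45)) :=
  Lgr Lrot137 (Lpr_ef (f327976 IH) (Lpe (K20.f320594 IH) (Lpe (K20.f177606 IH) (Lpe (K10.f177587 IH) (Lpr_et (K20.f177617 IH) (Lpr_gf (K10.f182042 IH) (Lpe (K16.f182054 IH) (Lpr_dt (f279367 IH) (Lpe (f237520 IH) (Lpe (f327538 IH) (Lpn (LP (LK LD1_c5 LD2_c1 LD3_c45)))))))))))))
theorem f191687 : Led Lsl_ft (LP (LK LD1_c9 LD2_c34 LD3_c41)) = (LP (LK LD1_c4 LD2_c51 LD3_c16)) :=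
  Lre_f IH (LK LD1_c9 LD2_c34 LD3_c41) (LK LD1_c4 LD2_c51 LD3_c16) Lrfl Lrfl
theorem f327985 : Led Lsl_at (LP (LK LD1_c4 LD2_c51 LD3_c16)) = (LP (LK LD1_c2 LD2_c28 LD3_c33)) :=
  Lgr Lrot26 (Lpe (f191687 IH) (Lpr_gt (f327983 IH) (Lpr_gt (f253169 IH) (Lpn (LP (LK LD1_c2 LD2_c28 LD3_c33))))))
theorem f327508 : Led Lsl_ft (LP (LK LD1_c2 LD2_c28 LD3_c33)) = (LP (LK LD1_c5 LD2_c1 LD3_c46)) :=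
  Lre_f IH (LK LD1_c2 LD2_c28 LD3_c33) (LK LD1_c5 LD2_c1 LD3_c46) Lrfl Lrfl
theorem f328065 : Led Lsl_af (LP (LK LD1_c9 LD2_c34 LD3_c41)) = (LP (LK LD1_c5 LD2_c1 LD3_c46)) :=
  Lgr Lrot45 (Lpr_ft (f191687 IH) (Lpr_at (f327985 IH) (Lpr_ft (f327508 IH) (Lpn (LP (LK LD1_c5 LD2_c1 LD3_c46))))))
theorem f291958 : Led Lsl_gt (LP (LK LD1_c2 LD2_c28 LD3_c33)) = (LP (LK LD1_c5 LD2_c1 LD3_c44)) :=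
  Lre_g IH (LK LD1_c2 LD2_c28 LD3_c33) (LK LD1_c5 LD2_c1 LD3_c44) Lrfl Lrfl
theorem f328075 : Led Lsl_gf (LP (LK LD1_c9 LD2_c34 LD3_c41)) = (LP (LK LD1_c5 LD2_c1 LD3_c44)) :=
  Lgr Lrot76 (Lpr_af (f328065 IH) (Lpe (f327508 IH) (Lpr_gt (f291958 IH) (Lpn (LP (LK LD1_c5 LD2_c1 LD3_c44))))))
theorem f327978 : Led Lsl_dt (LP (LK LD1_c4 LD2_c51 LD3_c17)) = (LP (LK LD1_c9 LD2_c34 LD3_c41)) :=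
  Lre_d IH (LK LD1_c4 LD2_c51 LD3_c17) (LK LD1_c9 LD2_c34 LD3_c41) Lrfl Lrfl
theorem f238292 : Led Lsl_df (LP (LK LD1_c1 LD2_c10 LD3_c12)) = (LP (LK LD1_c0 LD2_c56 LD3_c34)) :=
  Lgr Lrot162 (Lpe (K11.f182326 IH) (Lpr_gf (K11.f211153 IH) (Lpe (K11.f56561 IH) (Lpe (K11.f201324 IH) (Lpr_dt (K12.f201307 IH) (Lpr_gt (K12.f201263 IH) (Lpr_ct (K13.f227289 IH) (Lpr_gt (K13.f238224 IH) (Lpr_ct (K13.f192810 IH) (Lpn (LP (LK LD1_c0 LD2_c56 LD3_c34))))))))))))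
theorem f239127 : Led Lsl_dt (LP (LK LD1_c2 LD2_c26 LD3_c13)) = (LP (LK LD1_c1 LD2_c59 LD3_c24)) :=
  Lgr Lrot173 (Lpr_cf (K13.f239118 IH) (Lpe (K13.f229904 IH) (Lpe (K13.f239093 IH) (Lpe (K13.f239107 IH) (Lpe (K12.f172681 IH) (Lpr_df (K11.f182352 IH) (Lpr_cf (K12.f196960 IH) (Lpe (K11.f196957 IH) (Lpe (K16.f179540 IH) (Lpe (K13.f179541 IH) (Lpr_cf (K13.f238919 IH) (Lpr_df (K13.f237247 IH) (Lpe (K11.f182325 IH) (Lpr_df (f238292 IH) (Lpe (K13.f192810 IH) (Lpn (LP (LK LD1_c1 LD2_c59 LD3_c24))))))))))))))))))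
theorem f237518 : Led Lsl_gt (LP (LK LD1_c2 LD2_c24 LD3_c20)) = (LP (LK LD1_c4 LD2_c53 LD3_c0)) :=
  Lre_g IH (LK LD1_c2 LD2_c24 LD3_c20) (LK LD1_c4 LD2_c53 LD3_c0) Lrfl Lrfl
theorem f328083 : Led Lsl_dt (LP (LK LD1_c4 LD2_c53 LD3_c0)) = (LP (LK LD1_c5 LD2_c1 LD3_c44)) :=
  Lgr Lrot171 (Lpe (f237518 IH) (Lpe (K16.f229259 IH) (Lpe (K13.f229257 IH) (Lpe (K14.f239161 IH) (Lpe (f239127 IH) (Lpr_et (K19.f298932 IH) (Lpr_gf (f326429 IH) (Lpe (f327967 IH) (Lpr_dt (f327978 IH) (Lpr_gf (f328075 IH) (Lpn (LP (LK LD1_c5 LD2_c1 LD3_c44)))))))))))))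
theorem f247218 : Led Lsl_et (LP (LK LD1_c4 LD2_c53 LD3_c0)) = (LP (LK LD1_c9 LD2_c37 LD3_c59)) :=
  Lre_e IH (LK LD1_c4 LD2_c53 LD3_c0) (LK LD1_c9 LD2_c37 LD3_c59) Lrfl Lrfl
theorem f315326 : Led Lsl_gf (LP (LK LD1_c2 LD2_c23 LD3_c12)) = (LP (LK LD1_c4 LD2_c18 LD3_c59)) :=
  Lgr Lrot143 (Lpr_dt (f1733 IH) (Lpe (K12.f167329 IH) (Lpe (K12.f167336 IH) (Lpe (K13.f167344 IH) (Lpe (K13.f236441 IH) (Lpr_gf (K13.f236449 IH) (Lpe (K13.f238207 IH) (Lpr_gt (K14.f238222 IH) (Lpr_dt (K20.f315318 IH) (Lpn (LP (LK LD1_c4 LD2_c18 LD3_c59))))))))))))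
theorem f1559 : Led Lsl_gt (LP (LK LD1_c2 LD2_c23 LD3_c48)) = (LP (LK LD1_c4 LD2_c52 LD3_c4)) :=
  Lre_g IH (LK LD1_c2 LD2_c23 LD3_c48) (LK LD1_c4 LD2_c52 LD3_c4) Lrfl Lrfl
theorem f30691 : Led Lsl_et (LP (LK LD1_c9 LD2_c36 LD3_c29)) = (LP (LK LD1_c4 LD2_c52 LD3_c4)) :=
  Lre_e IH (LK LD1_c9 LD2_c36 LD3_c29) (LK LD1_c4 LD2_c52 LD3_c4) Lrfl Lrfl
theorem f315399 : Led Lsl_df (LP (LK LD1_c8 LD2_c27 LD3_c27)) = (LP (LK LD1_c9 LD2_c36 LD3_c29)) :=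
  Lgr Lrot170 (Lpr_gt (K13.f190014 IH) (Lpr_df (K19.f200479 IH) (Lpr_et (K20.f315395 IH) (Lpe (f315326 IH) (Lpr_dt (f1733 IH) (Lpr_gt (K0.f1621 IH) (Lpe (K0.f1552 IH) (Lpr_et (K20.f1554 IH) (Lpr_gt (f1559 IH) (Lpe (f30691 IH) (Lpn (LP (LK LD1_c9 LD2_c36 LD3_c29)))))))))))))
theorem f328090 : Led Lsl_gt (LP (LK LD1_c9 LD2_c37 LD3_c59)) = (LP (LK LD1_c9 LD2_c36 LD3_c29)) :=
  Lgr Lrot137 (Lpe (f247218 IH) (Lpr_dt (f328083 IH) (Lpe (f291958 IH) (Lpr_df (f327504 IH) (Lpr_et (f33308 IH) (Lpr_gf (f315326 IH) (Lpe (K20.f315395 IH) (Lpe (K19.f200479 IH) (Lpe (K13.f190014 IH) (Lpr_df (f315399 IH) (Lpn (LP (LK LD1_c9 LD2_c36 LD3_c29)))))))))))))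
theorem f247212 : Led Lsl_gt (LP (LK LD1_c8 LD2_c9 LD3_c38)) = (LP (LK LD1_c4 LD2_c4 LD3_c21)) :=
  Lre_g IH (LK LD1_c8 LD2_c9 LD3_c38) (LK LD1_c4 LD2_c4 LD3_c21) Lrfl Lrfl
theorem f247213 : Led Lsl_et (LP (LK LD1_c9 LD2_c37 LD3_c59)) = (LP (LK LD1_c4 LD2_c53 LD3_c0)) :=
  Lre_e IH (LK LD1_c9 LD2_c37 LD3_c59) (LK LD1_c4 LD2_c53 LD3_c0) Lrfl Lrfl
theorem f247214 : Led Lsl_df (LP (LK LD1_c8 LD2_c9 LD3_c38)) = (LP (LK LD1_c9 LD2_c37 LD3_c59)) :=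
  Lgr Lrot170 (Lpr_gt (f247212 IH) (Lpr_df (K14.f247197 IH) (Lpr_et (K14.f168365 IH) (Lpr_gt (K13.f168527 IH) (Lpr_dt (f239127 IH) (Lpr_gt (K14.f239161 IH) (Lpr_df (K13.f229257 IH) (Lpr_et (K16.f229259 IH) (Lpr_gt (f237518 IH) (Lpe (f247213 IH) (Lpn (LP (LK LD1_c9 LD2_c37 LD3_c59)))))))))))))
theorem f299009 : Led Lsl_cf (LP (LK LD1_c8 LD2_c36 LD3_c44)) = (LP (LK LD1_c15 LD2_c22 LD3_c14)) :=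
  Lgr Lrot11 (Lpr_ct (K19.f299006 IH) (Lpn (LP (LK LD1_c15 LD2_c22 LD3_c14))))
theorem f310491 : Led Lsl_ct (LP (LK LD1_c26 LD2_c2 LD3_c51)) = (LP (LK LD1_c16 LD2_c5 LD3_c45)) :=
  Lre_c IH (LK LD1_c26 LD2_c2 LD3_c51) (LK LD1_c16 LD2_c5 LD3_c45) Lrfl Lrfl
theorem f279793 : Led Lsl_ct (LP (LK LD1_c9 LD2_c36 LD3_c29)) = (LP (LK LD1_c17 LD2_c41 LD3_c43)) :=
  Lre_c IH (LK LD1_c9 LD2_c36 LD3_c29) (LK LD1_c17 LD2_c41 LD3_c43) Lrfl Lrfl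
theorem f328092 : Led Lsl_gf (LP (LK LD1_c26 LD2_c2 LD3_c51)) = (LP (LK LD1_c17 LD2_c41 LD3_c43)) :=
  Lgr Lrot104 (Lpr_ct (f310491 IH) (Lpe (K19.f310492 IH) (Lpr_cf (f299009 IH) (Lpe (K19.f223671 IH) (Lpe (K14.f223675 IH) (Lpe (f247212 IH) (Lpr_df (f247214 IH) (Lpr_gt (f328090 IH) (Lpr_ct (f279793 IH) (Lpn (LP (LK LD1_c17 LD2_c41 LD3_c43))))))))))))
theorem f279764 : Led Lsl_dt (LP (LK LD1_c24 LD2_c45 LD3_c40)) = (LP (LK LD1_c17 LD2_c41 LD3_c50)) :=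
  Lgr Lrot42 (Lpr_df (K18.f279762 IH) (Lpn (LP (LK LD1_c17 LD2_c41 LD3_c50))))
theorem f30657 : Led Lsl_dt (LP (LK LD1_c4 LD2_c52 LD3_c5)) = (LP (LK LD1_c9 LD2_c36 LD3_c32)) :=
  Lre_d IH (LK LD1_c4 LD2_c52 LD3_c5) (LK LD1_c9 LD2_c36 LD3_c32) Lrfl Lrfl
theorem f29197 : Led Lsl_dt (LP (LK LD1_c4 LD2_c0 LD3_c21)) = (LP (LK LD1_c4 LD2_c0 LD3_c21)) :=
  Lgr Lrot77 (Lpe (K20.f29195 IH) (Lpe (K12.f29194 IH) (Lpr_ef (K1.f29183 IH) (Lpe (K1.f29180 IH) (Lpe (K9.f29196 IH) (Lpn (LP (LK LD1_c4 LD2_c0 LD3_c21))))))))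
theorem f29639 : Led Lsl_at (LP (LK LD1_c2 LD2_c24 LD3_c26)) = (LP (LK LD1_c4 LD2_c0 LD3_c21)) :=
  Lgr Lrot80 (Lpe (K0.f2408 IH) (Lpr_af (K1.f29596 IH) (Lpe (K9.f29196 IH) (Lpn (LP (LK LD1_c4 LD2_c0 LD3_c21))))))
theorem f30686 : Led Lsl_gt (LP (LK LD1_c4 LD2_c52 LD3_c4)) = (LP (LK LD1_c4 LD2_c0 LD3_c21)) :=
  Lgr Lrot46 (Lpe (f1559 IH) (Lpr_ft (K1.f2461 IH) (Lpr_at (f29639 IH) (Lpn (LP (LK LD1_c4 LD2_c0 LD3_c21))))))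
theorem f30688 : Led Lsl_ct (LP (LK LD1_c9 LD2_c36 LD3_c27)) = (LP (LK LD1_c4 LD2_c52 LD3_c4)) :=
  Lre_c IH (LK LD1_c9 LD2_c36 LD3_c27) (LK LD1_c4 LD2_c52 LD3_c4) Lrfl Lrfl
theorem f279781 : Led Lsl_gf (LP (LK LD1_c7 LD2_c56 LD3_c0)) = (LP (LK LD1_c9 LD2_c36 LD3_c27)) :=
  Lgr Lrot144 (Lpr_dt (K9.f39017 IH) (Lpr_gt (K18.f39018 IH) (Lpr_dt (f279764 IH) (Lpe (K18.f30659 IH) (Lpe (f30657 IH) (Lpe (K19.f30655 IH) (Lpe (f29197 IH) (Lpe (f30686 IH) (Lpe (f30688 IH) (Lpn (LP (LK LD1_c9 LD2_c36 LD3_c27))))))))))))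
theorem f279513 : Led Lsl_et (LP (LK LD1_c8 LD2_c41 LD3_c4)) = (LP (LK LD1_c16 LD2_c16 LD3_c0)) :=
  Lre_e IH (LK LD1_c8 LD2_c41 LD3_c4) (LK LD1_c16 LD2_c16 LD3_c0) Lrfl Lrfl
theorem f238032 : Led Lsl_gt (LP (LK LD1_c16 LD2_c15 LD3_c61)) = (LP (LK LD1_c26 LD2_c13 LD3_c46)) :=
  Lre_g IH (LK LD1_c16 LD2_c15 LD3_c61) (LK LD1_c26 LD2_c13 LD3_c46) Lrfl Lrfl
theorem f279789 : Led Lsl_et (LP (LK LD1_c17 LD2_c41 LD3_c43)) = (LP (LK LD1_c9 LD2_c36 LD3_c27)) :=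
  Lre_e IH (LK LD1_c17 LD2_c41 LD3_c43) (LK LD1_c9 LD2_c36 LD3_c27) Lrfl Lrfl
theorem f279790 : Led Lsl_df (LP (LK LD1_c26 LD2_c13 LD3_c46)) = (LP (LK LD1_c17 LD2_c41 LD3_c43)) :=
  Lgr Lrot168 (Lpe (f238032 IH) (Lpe (K18.f238023 IH) (Lpr_et (f279513 IH) (Lpr_gf (K18.f279758 IH) (Lpr_ef (K18.f233952 IH) (Lpe (K18.f279762 IH) (Lpe (K18.f39018 IH) (Lpe (K9.f39017 IH) (Lpr_gf (f279781 IH) (Lpe (f279789 IH) (Lpn (LP (LK LD1_c17 LD2_c41 LD3_c43)))))))))))))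
theorem f309022 : Led Lsl_af (LP (LK LD1_c16 LD2_c16 LD3_c3)) = (LP (LK LD1_c17 LD2_c37 LD3_c45)) :=
  Lgr Lrot45 (Lpr_ft (K20.f308961 IH) (Lpe (K20.f308972 IH) (Lpr_ft (K20.f309020 IH) (Lpn (LP (LK LD1_c17 LD2_c37 LD3_c45))))))
theorem f309026 : Led Lsl_gt (LP (LK LD1_c26 LD2_c13 LD3_c46)) = (LP (LK LD1_c16 LD2_c16 LD3_c3)) :=
  Lgr Lrot46 (Lpe (f238032 IH) (Lpr_ft (K20.f309020 IH) (Lpe (f309022 IH) (Lpn (LP (LK LD1_c16 LD2_c16 LD3_c3))))))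
theorem f308986 : Led Lsl_ff (LP (LK LD1_c29 LD2_c16 LD3_c8)) = (LP (LK LD1_c27 LD2_c24 LD3_c7)) :=
  Lgr Lrot3 (Lpr_ft (K20.f308984 IH) (Lpn (LP (LK LD1_c27 LD2_c24 LD3_c7))))
theorem f309007 : Led Lsl_ft (LP (LK LD1_c26 LD2_c13 LD3_c51)) = (LP (LK LD1_c27 LD2_c39 LD3_c44)) :=
  Lgr Lrot54 (Lpr_df (K20.f299257 IH) (Lpr_ff (f308986 IH) (Lpe (K20.f299032 IH) (Lpn (LP (LK LD1_c27 LD2_c39 LD3_c44))))))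
theorem f308978 : Led Lsl_af (LP (LK LD1_c26 LD2_c13 LD3_c47)) = (LP (LK LD1_c27 LD2_c39 LD3_c44)) :=
  Lgr Lrot0 (Lpr_at (K20.f308976 IH) (Lpn (LP (LK LD1_c27 LD2_c39 LD3_c44))))
theorem f237920 : Led Lsl_dt (LP (LK LD1_c8 LD2_c36 LD3_c35)) = (LP (LK LD1_c16 LD2_c8 LD3_c4)) :=
  Lre_d IH (LK LD1_c8 LD2_c36 LD3_c35) (LK LD1_c16 LD2_c8 LD3_c4) Lrfl Lrfl
theorem f238017 : Led Lsl_gt (LP (LK LD1_c16 LD2_c8 LD3_c4)) = (LP (LK LD1_c26 LD2_c4 LD3_c36)) :=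
  Lre_g IH (LK LD1_c16 LD2_c8 LD3_c4) (LK LD1_c26 LD2_c4 LD3_c36) Lrfl Lrfl
theorem f238018 : Led Lsl_ct (LP (LK LD1_c26 LD2_c4 LD3_c36)) = (LP (LK LD1_c32 LD2_c3 LD3_c56)) :=
  Lre_c IH (LK LD1_c26 LD2_c4 LD3_c36) (LK LD1_c32 LD2_c3 LD3_c56) Lrfl Lrfl
theorem f238021 : Led Lsl_gt (LP (LK LD1_c32 LD2_c3 LD3_c56)) = (LP (LK LD1_c26 LD2_c13 LD3_c47)) :=
  Lgr Lrot150 (Lpe (f238018 IH) (Lpe (f238017 IH) (Lpe (f237920 IH) (Lpr_gt (K17.f238013 IH) (Lpr_ct (K15.f28864 IH) (Lpr_gt (K17.f28861 IH) (Lpr_ct (K18.f28866 IH) (Lpe (K18.f238019 IH) (Lpe (K18.f238020 IH) (Lpn (LP (LK LD1_c26 LD2_c13 LD3_c47))))))))))))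
theorem f309009 : Led Lsl_gt (LP (LK LD1_c26 LD2_c13 LD3_c51)) = (LP (LK LD1_c32 LD2_c3 LD3_c56)) :=
  Lgr Lrot5 (Lpr_ft (f309007 IH) (Lpe (f308978 IH) (Lpe (f238021 IH) (Lpn (LP (LK LD1_c32 LD2_c3 LD3_c56))))))
theorem f238031 : Led Lsl_ct (LP (LK LD1_c32 LD2_c3 LD3_c56)) = (LP (LK LD1_c26 LD2_c4 LD3_c36)) :=
  Lre_c IH (LK LD1_c32 LD2_c3 LD3_c56) (LK LD1_c26 LD2_c4 LD3_c36) Lrfl Lrfl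
theorem f259092 : Led Lsl_gt (LP (LK LD1_c4 LD2_c3 LD3_c10)) = (LP (LK LD1_c8 LD2_c6 LD3_c52)) :=
  Lre_g IH (LK LD1_c4 LD2_c3 LD3_c10) (LK LD1_c8 LD2_c6 LD3_c52) Lrfl Lrfl
theorem f259093 : Led Lsl_dt (LP (LK LD1_c8 LD2_c6 LD3_c52)) = (LP (LK LD1_c15 LD2_c16 LD3_c45)) :=
  Lre_d IH (LK LD1_c8 LD2_c6 LD3_c52) (LK LD1_c15 LD2_c16 LD3_c45) Lrfl Lrfl
theorem f299259 : Led Lsl_ct (LP (LK LD1_c25 LD2_c6 LD3_c48)) = (LP (LK LD1_c15 LD2_c16 LD3_c45)) :=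
  Lre_c IH (LK LD1_c25 LD2_c6 LD3_c48) (LK LD1_c15 LD2_c16 LD3_c45) Lrfl Lrfl
theorem f299260 : Led Lsl_dt (LP (LK LD1_c26 LD2_c4 LD3_c36)) = (LP (LK LD1_c25 LD2_c6 LD3_c48)) :=
  Lgr Lrot105 (Lpe (f238017 IH) (Lpe (f237920 IH) (Lpe (K18.f296549 IH) (Lpe (K18.f197652 IH) (Lpr_gt (K18.f299199 IH) (Lpr_dt (K18.f299252 IH) (Lpr_gt (f259092 IH) (Lpr_dt (f259093 IH) (Lpe (f299259 IH) (Lpn (LP (LK LD1_c25 LD2_c6 LD3_c48))))))))))))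
theorem f299262 : Led Lsl_ct (LP (LK LD1_c15 LD2_c16 LD3_c45)) = (LP (LK LD1_c25 LD2_c6 LD3_c48)) :=
  Lre_c IH (LK LD1_c15 LD2_c16 LD3_c45) (LK LD1_c25 LD2_c6 LD3_c48) Lrfl Lrfl
theorem f328106 : Led Lsl_gt (LP (LK LD1_c16 LD2_c5 LD3_c45)) = (LP (LK LD1_c15 LD2_c16 LD3_c45)) :=
  Lgr Lrot187 (Lpe (f310491 IH) (Lpr_gf (f328092 IH) (Lpe (f279790 IH) (Lpr_gt (f309026 IH) (Lpr_ct (K20.f298401 IH) (Lpr_gt (f309009 IH) (Lpr_ct (f238031 IH) (Lpr_dt (f299260 IH) (Lpe (f299262 IH) (Lpn (LP (LK LD1_c15 LD2_c16 LD3_c45))))))))))))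
theorem f211325 : Led Lsl_gt (LP (LK LD1_c4 LD2_c4 LD3_c5)) = (LP (LK LD1_c1 LD2_c58 LD3_c61)) :=
  Lre_g IH (LK LD1_c4 LD2_c4 LD3_c5) (LK LD1_c1 LD2_c58 LD3_c61) Lrfl Lrfl
theorem f328120 : Led Lsl_ef (LP (LK LD1_c4 LD2_c4 LD3_c5)) = (LP (LK LD1_c8 LD2_c6 LD3_c52)) :=
  Lgr Lrot114 (Lpr_gt (f211325 IH) (Lpe (K18.f211287 IH) (Lpr_dt (K11.f201300 IH) (Lpr_gt (K11.f211393 IH) (Lpr_df (K20.f227978 IH) (Lpr_et (K12.f228041 IH) (Lpr_gt (K19.f228065 IH) (Lpr_dt (K19.f310492 IH) (Lpr_gt (f328106 IH) (Lpe (f259093 IH) (Lpn (LP (LK LD1_c8 LD2_c6 LD3_c52)))))))))))))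
theorem f328131 : Led Lsl_et (LP (LK LD1_c4 LD2_c4 LD3_c5)) = (LP (LK LD1_c8 LD2_c6 LD3_c52)) :=
  Lgr Lrot87 (Lpr_ef (f328120 IH) (Lpn (LP (LK LD1_c8 LD2_c6 LD3_c52))))
theorem f293302 : Led Lsl_ct (LP (LK LD1_c8 LD2_c8 LD3_c52)) = (LP (LK LD1_c4 LD2_c4 LD3_c5)) :=
  Lre_c IH (LK LD1_c8 LD2_c8 LD3_c52) (LK LD1_c4 LD2_c4 LD3_c5) Lrfl Lrfl
theorem f299263 : Led Lsl_ct (LP (LK LD1_c8 LD2_c6 LD3_c52)) = (LP (LK LD1_c15 LD2_c16 LD3_c44)) :=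
  Lre_c IH (LK LD1_c8 LD2_c6 LD3_c52) (LK LD1_c15 LD2_c16 LD3_c44) Lrfl Lrfl
theorem f328136 : Led Lsl_ef (LP (LK LD1_c8 LD2_c8 LD3_c52)) = (LP (LK LD1_c15 LD2_c16 LD3_c44)) :=
  Lgr Lrot28 (Lpr_ct (f293302 IH) (Lpr_et (f328131 IH) (Lpr_ct (f299263 IH) (Lpn (LP (LK LD1_c15 LD2_c16 LD3_c44))))))
theorem f328147 : Led Lsl_dt (LP (LK LD1_c15 LD2_c16 LD3_c44)) = (LP (LK LD1_c25 LD2_c6 LD3_c47)) :=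
  Lre_d IH (LK LD1_c15 LD2_c16 LD3_c44) (LK LD1_c25 LD2_c6 LD3_c47) Lrfl Lrfl
theorem f262195 : Led Lsl_af (LP (LK LD1_c15 LD2_c17 LD3_c50)) = (LP (LK LD1_c11 LD2_c9 LD3_c7)) :=
  Lgr Lrot0 (Lpr_at (K15.f262187 IH) (Lpn (LP (LK LD1_c11 LD2_c9 LD3_c7))))
theorem f309970 : Led Lsl_gf (LP (LK LD1_c11 LD2_c4 LD3_c61)) = (LP (LK LD1_c5 LD2_c39 LD3_c3)) :=
  Lgr Lrot47 (Lpr_gt (K19.f309968 IH) (Lpr_af (f262195 IH) (Lpe (K12.f228142 IH) (Lpn (LP (LK LD1_c5 LD2_c39 LD3_c3))))))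
theorem f309967 : Led Lsl_dt (LP (LK LD1_c11 LD2_c4 LD3_c61)) = (LP (LK LD1_c19 LD2_c57 LD3_c46)) :=
  Lre_d IH (LK LD1_c11 LD2_c4 LD3_c61) (LK LD1_c19 LD2_c57 LD3_c46) Lrfl Lrfl
theorem f299266 : Led Lsl_dt (LP (LK LD1_c15 LD2_c16 LD3_c45)) = (LP (LK LD1_c8 LD2_c6 LD3_c52)) :=
  Lre_d IH (LK LD1_c15 LD2_c16 LD3_c45) (LK LD1_c8 LD2_c6 LD3_c52) Lrfl Lrfl
theorem f328108 : Led Lsl_ct (LP (LK LD1_c15 LD2_c16 LD3_c44)) = (LP (LK LD1_c8 LD2_c6 LD3_c52)) :=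
  Lre_c IH (LK LD1_c15 LD2_c16 LD3_c44) (LK LD1_c8 LD2_c6 LD3_c52) Lrfl Lrfl
theorem f328109 : Led Lsl_dt (LP (LK LD1_c25 LD2_c6 LD3_c47)) = (LP (LK LD1_c15 LD2_c16 LD3_c44)) :=
  Lre_d IH (LK LD1_c25 LD2_c6 LD3_c47) (LK LD1_c15 LD2_c16 LD3_c44) Lrfl Lrfl
theorem f328110 : Led Lsl_gt (LP (LK LD1_c19 LD2_c57 LD3_c46)) = (LP (LK LD1_c25 LD2_c6 LD3_c47)) :=
  Lgr Lrot49 (Lpe (f309967 IH) (Lpr_gf (f309970 IH) (Lpr_cf (K12.f228143 IH) (Lpr_gt (K19.f228065 IH) (Lpr_dt (K19.f310492 IH) (Lpr_gt (f328106 IH) (Lpr_dt (f299266 IH) (Lpe (f328108 IH) (Lpe (f328109 IH) (Lpn (LP (LK LD1_c25 LD2_c6 LD3_c47))))))))))))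
theorem f328148 : Led Lsl_gt (LP (LK LD1_c8 LD2_c8 LD3_c52)) = (LP (LK LD1_c4 LD2_c4 LD3_c10)) :=
  Lgr Lrot131 (Lpr_ef (f328136 IH) (Lpr_dt (f328147 IH) (Lpe (f328110 IH) (Lpe (f309967 IH) (Lpr_gf (f309970 IH) (Lpe (K18.f228177 IH) (Lpr_dt (K13.f228175 IH) (Lpe (K12.f226897 IH) (Lpr_df (K13.f223733 IH) (Lpr_et (K19.f200732 IH) (Lpn (LP (LK LD1_c4 LD2_c4 LD3_c10)))))))))))))
theorem f328150 : Led Lsl_gf (LP (LK LD1_c8 LD2_c8 LD3_c52)) = (LP (LK LD1_c8 LD2_c28 LD3_c13)) :=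
  Lgr Lrot47 (Lpr_gt (f328148 IH) (Lpe (K19.f314468 IH) (Lpe (K19.f221014 IH) (Lpn (LP (LK LD1_c8 LD2_c28 LD3_c13))))))
theorem f293299 : Led Lsl_dt (LP (LK LD1_c8 LD2_c8 LD3_c52)) = (LP (LK LD1_c15 LD2_c20 LD3_c29)) :=
  Lre_d IH (LK LD1_c8 LD2_c8 LD3_c52) (LK LD1_c15 LD2_c20 LD3_c29) Lrfl Lrfl
theorem f220983 : Led Lsl_ct (LP (LK LD1_c4 LD2_c14 LD3_c45)) = (LP (LK LD1_c8 LD2_c28 LD3_c13)) :=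
  Lre_c IH (LK LD1_c4 LD2_c14 LD3_c45) (LK LD1_c8 LD2_c28 LD3_c13) Lrfl Lrfl
theorem f314511 : Led Lsl_ef (LP (LK LD1_c4 LD2_c14 LD3_c45)) = (LP (LK LD1_c4 LD2_c55 LD3_c56)) :=
  Lgr Lrot20 (Lpr_at (K19.f314480 IH) (Lpe (K19.f314424 IH) (Lpr_at (K20.f314146 IH) (Lpn (LP (LK LD1_c4 LD2_c55 LD3_c56))))))
theorem f314576 : Led Lsl_gt (LP (LK LD1_c4 LD2_c14 LD3_c45)) = (LP (LK LD1_c8 LD2_c10 LD3_c24)) :=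
  Lgr Lrot137 (Lpr_ef (f314511 IH) (Lpe (K20.f314154 IH) (Lpe (K19.f21987 IH) (Lpe (K14.f247906 IH) (Lpr_et (K14.f253041 IH) (Lpe (K14.f253031 IH) (Lpe (K19.f189882 IH) (Lpr_dt (K19.f314565 IH) (Lpe (K19.f314419 IH) (Lpe (K19.f314574 IH) (Lpn (LP (LK LD1_c8 LD2_c10 LD3_c24)))))))))))))
theorem f189931 : Led Lsl_bt (LP (LK LD1_c4 LD2_c14 LD3_c20)) = (LP (LK LD1_c4 LD2_c19 LD3_c55)) :=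
  Lgr Lrot127 (Lpr_bf (K19.f189929 IH) (Lpn (LP (LK LD1_c4 LD2_c19 LD3_c55))))
theorem f314414 : Led Lsl_dt (LP (LK LD1_c4 LD2_c56 LD3_c1)) = (LP (LK LD1_c4 LD2_c14 LD3_c20)) :=
  Lgr Lrot79 (Lpr_bf (K19.f314409 IH) (Lpe (K19.f189896 IH) (Lpe (f189931 IH) (Lpn (LP (LK LD1_c4 LD2_c14 LD3_c20))))))
theorem f189943 : Led Lsl_ct (LP (LK LD1_c8 LD2_c27 LD3_c19)) = (LP (LK LD1_c4 LD2_c14 LD3_c20)) :=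
  Lre_c IH (LK LD1_c8 LD2_c27 LD3_c19) (LK LD1_c4 LD2_c14 LD3_c20) Lrfl Lrfl
theorem f189944 : Led Lsl_dt (LP (LK LD1_c15 LD2_c52 LD3_c39)) = (LP (LK LD1_c8 LD2_c27 LD3_c19)) :=
  Lre_d IH (LK LD1_c15 LD2_c52 LD3_c39) (LK LD1_c8 LD2_c27 LD3_c19) Lrfl Lrfl
theorem f328159 : Led Lsl_gt (LP (LK LD1_c15 LD2_c20 LD3_c29)) = (LP (LK LD1_c15 LD2_c52 LD3_c39)) :=
  Lgr Lrot49 (Lpe (f293299 IH) (Lpr_gf (f328150 IH) (Lpe (f220983 IH) (Lpr_gt (f314576 IH) (Lpr_dt (K19.f314574 IH) (Lpr_gt (K19.f314419 IH) (Lpr_dt (f314414 IH) (Lpe (f189943 IH) (Lpe (f189944 IH) (Lpn (LP (LK LD1_c15 LD2_c52 LD3_c39))))))))))))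
theorem f259194 : Led Lsl_dt (LP (LK LD1_c8 LD2_c27 LD3_c19)) = (LP (LK LD1_c15 LD2_c52 LD3_c39)) :=
  Lre_d IH (LK LD1_c8 LD2_c27 LD3_c19) (LK LD1_c15 LD2_c52 LD3_c39) Lrfl Lrfl
theorem f319723 : Led Lsl_et (LP (LK LD1_c8 LD2_c8 LD3_c59)) = (LP (LK LD1_c8 LD2_c28 LD3_c13)) :=
  Lgr Lrot87 (Lpr_ef (K20.f319715 IH) (Lpn (LP (LK LD1_c8 LD2_c28 LD3_c13))))
theorem f319706 : Led Lsl_dt (LP (LK LD1_c8 LD2_c8 LD3_c59)) = (LP (LK LD1_c15 LD2_c20 LD3_c41)) :=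
  Lre_d IH (LK LD1_c8 LD2_c8 LD3_c59) (LK LD1_c15 LD2_c20 LD3_c41) Lrfl Lrfl
theorem f328162 : Led Lsl_gt (LP (LK LD1_c15 LD2_c53 LD3_c59)) = (LP (LK LD1_c15 LD2_c20 LD3_c41)) :=
  Lgr Lrot112 (Lpe (f233801 IH) (Lpr_et (f233799 IH) (Lpr_gf (K15.f259155 IH) (Lpe (f259193 IH) (Lpr_dt (f259194 IH) (Lpe (f328159 IH) (Lpe (f293299 IH) (Lpr_gf (f328150 IH) (Lpe (f319723 IH) (Lpr_dt (f319706 IH) (Lpn (LP (LK LD1_c15 LD2_c20 LD3_c41)))))))))))))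
theorem f319709 : Led Lsl_dt (LP (LK LD1_c15 LD2_c20 LD3_c41)) = (LP (LK LD1_c8 LD2_c8 LD3_c59)) :=
  Lre_d IH (LK LD1_c15 LD2_c20 LD3_c41) (LK LD1_c8 LD2_c8 LD3_c59) Lrfl Lrfl
theorem f252956 : Led Lsl_gt (LP (LK LD1_c9 LD2_c53 LD3_c14)) = (LP (LK LD1_c5 LD2_c1 LD3_c28)) :=
  Lre_g IH (LK LD1_c9 LD2_c53 LD3_c14) (LK LD1_c5 LD2_c1 LD3_c28) Lrfl Lrfl
theorem f253068 : Led Lsl_ct (LP (LK LD1_c18 LD2_c5 LD3_c38)) = (LP (LK LD1_c9 LD2_c53 LD3_c14)) :=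
  Lre_c IH (LK LD1_c18 LD2_c5 LD3_c38) (LK LD1_c9 LD2_c53 LD3_c14) Lrfl Lrfl
theorem f328166 : Led Lsl_gf (LP (LK LD1_c15 LD2_c29 LD3_c47)) = (LP (LK LD1_c18 LD2_c5 LD3_c38)) :=
  Lgr Lrot144 (Lpr_dt (f233801 IH) (Lpr_gt (f328162 IH) (Lpr_dt (f319709 IH) (Lpr_cf (K20.f319697 IH) (Lpe (K19.f314152 IH) (Lpe (K19.f21987 IH) (Lpe (K14.f247906 IH) (Lpe (f252956 IH) (Lpe (f253068 IH) (Lpn (LP (LK LD1_c18 LD2_c5 LD3_c38))))))))))))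
theorem f313255 : Led Lsl_et (LP (LK LD1_c5 LD2_c38 LD3_c60)) = (LP (LK LD1_c9 LD2_c53 LD3_c14)) :=
  Lgr Lrot185 (Lpr_dt (f297983 IH) (Lpe (K19.f312246 IH) (Lpe (K19.f237972 IH) (Lpe (K19.f237932 IH) (Lpe (K19.f237924 IH) (Lpe (K19.f313218 IH) (Lpr_gf (K19.f313246 IH) (Lpe (K14.f252681 IH) (Lpr_et (f313254 IH) (Lpe (f252956 IH) (Lpn (LP (LK LD1_c9 LD2_c53 LD3_c14)))))))))))))
theorem f313260 : Led Lsl_ef (LP (LK LD1_c5 LD2_c38 LD3_c60)) = (LP (LK LD1_c9 LD2_c53 LD3_c14)) :=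
  Lgr Lrot88 (Lpr_et (f313255 IH) (Lpn (LP (LK LD1_c9 LD2_c53 LD3_c14))))
theorem f313262 : Led Lsl_et (LP (LK LD1_c11 LD2_c8 LD3_c56)) = (LP (LK LD1_c18 LD2_c5 LD3_c38)) :=
  Lgr Lrot158 (Lpe (K18.f200455 IH) (Lpr_ef (f313260 IH) (Lpe (f253068 IH) (Lpn (LP (LK LD1_c18 LD2_c5 LD3_c38))))))
theorem f297984 : Led Lsl_dt (LP (LK LD1_c11 LD2_c8 LD3_c56)) = (LP (LK LD1_c20 LD2_c2 LD3_c43)) :=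
  Lre_d IH (LK LD1_c11 LD2_c8 LD3_c56) (LK LD1_c20 LD2_c2 LD3_c43) Lrfl Lrfl
theorem f328169 : Led Lsl_gf (LP (LK LD1_c20 LD2_c2 LD3_c43)) = (LP (LK LD1_c25 LD2_c6 LD3_c47)) :=
  Lgr Lrot145 (Lpe (f297984 IH) (Lpr_et (f313262 IH) (Lpe (f328166 IH) (Lpr_dt (f233801 IH) (Lpr_gt (f328162 IH) (Lpe (f319706 IH) (Lpr_et (f319723 IH) (Lpe (f328150 IH) (Lpr_ef (f328136 IH) (Lpr_dt (f328147 IH) (Lpn (LP (LK LD1_c25 LD2_c6 LD3_c47)))))))))))))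
theorem f297986 : Led Lsl_dt (LP (LK LD1_c20 LD2_c2 LD3_c43)) = (LP (LK LD1_c11 LD2_c8 LD3_c56)) :=
  Lre_d IH (LK LD1_c20 LD2_c2 LD3_c43) (LK LD1_c11 LD2_c8 LD3_c56) Lrfl Lrfl
theorem f328173 : Led Lsl_gt (LP (LK LD1_c8 LD2_c7 LD3_c0)) = (LP (LK LD1_c15 LD2_c16 LD3_c44)) :=
  Lgr Lrot94 (Lpe (K18.f256147 IH) (Lpr_gt (K19.f237932 IH) (Lpr_dt (K19.f237972 IH) (Lpr_gt (K19.f312246 IH) (Lpr_dt (K19.f200456 IH) (Lpe (K18.f200460 IH) (Lpe (f297986 IH) (Lpr_gf (f328169 IH) (Lpe (f328147 IH) (Lpn (LP (LK LD1_c15 LD2_c16 LD3_c44))))))))))))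
theorem f237981 : Led Lsl_gt (LP (LK LD1_c4 LD2_c5 LD3_c30)) = (LP (LK LD1_c1 LD2_c59 LD3_c56)) :=
  Lre_g IH (LK LD1_c4 LD2_c5 LD3_c30) (LK LD1_c1 LD2_c59 LD3_c56) Lrfl Lrfl
theorem f328133 : Led Lsl_bt (LP (LK LD1_c8 LD2_c6 LD3_c52)) = (LP (LK LD1_c15 LD2_c16 LD3_c43)) :=
  Lre_b IH (LK LD1_c8 LD2_c6 LD3_c52) (LK LD1_c15 LD2_c16 LD3_c43) Lrfl Lrfl
theorem f322630 : Led Lsl_ct (LP (LK LD1_c15 LD2_c26 LD3_c3)) = (LP (LK LD1_c19 LD2_c2 LD3_c43)) :=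
  Lgr Lrot8 (Lpr_gt (K20.f322626 IH) (Lpe (K18.f278436 IH) (Lpr_gt (K18.f278434 IH) (Lpe (K17.f220625 IH) (Lpe (K19.f286983 IH) (Lpe (K19.f277885 IH) (Lpr_gf (K18.f277842 IH) (Lpe (K18.f231416 IH) (Lpe (K20.f231448 IH) (Lpn (LP (LK LD1_c19 LD2_c2 LD3_c43))))))))))))
theorem f194897 : Led Lsl_ct (LP (LK LD1_c19 LD2_c9 LD3_c6)) = (LP (LK LD1_c10 LD2_c34 LD3_c22)) :=
  Lre_c IH (LK LD1_c19 LD2_c9 LD3_c6) (LK LD1_c10 LD2_c34 LD3_c22) Lrfl Lrfl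
theorem f322634 : Led Lsl_gf (LP (LK LD1_c19 LD2_c2 LD3_c43)) = (LP (LK LD1_c10 LD2_c33 LD3_c59)) :=
  Lgr Lrot147 (Lpe (K20.f322632 IH) (Lpr_gt (K20.f322626 IH) (Lpr_ct (K14.f194882 IH) (Lpe (K19.f194895 IH) (Lpe (f194897 IH) (Lpe (K19.f194898 IH) (Lpr_cf (K19.f298424 IH) (Lpr_gf (K18.f297785 IH) (Lpe (K16.f228523 IH) (Lpn (LP (LK LD1_c10 LD2_c33 LD3_c59))))))))))))
theorem f328183 : Led Lsl_gf (LP (LK LD1_c10 LD2_c33 LD3_c44)) = (LP (LK LD1_c15 LD2_c16 LD3_c43)) :=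
  Lgr Lrot124 (Lpe (K14.f253348 IH) (Lpr_ct (K14.f253352 IH) (Lpe (f322634 IH) (Lpe (f322630 IH) (Lpr_bt (K20.f237934 IH) (Lpr_gt (K19.f237929 IH) (Lpr_ct (K18.f256147 IH) (Lpr_gt (f328173 IH) (Lpe (f299263 IH) (Lpr_bt (f328133 IH) (Lpn (LP (LK LD1_c15 LD2_c16 LD3_c43)))))))))))))
theorem f284180 : Led Lsl_ct (LP (LK LD1_c10 LD2_c33 LD3_c44)) = (LP (LK LD1_c19 LD2_c7 LD3_c42)) :=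
  Lre_c IH (LK LD1_c10 LD2_c33 LD3_c44) (LK LD1_c19 LD2_c7 LD3_c42) Lrfl Lrfl
theorem f218570 : Led Lsl_ct (LP (LK LD1_c4 LD2_c54 LD3_c55)) = (LP (LK LD1_c9 LD2_c41 LD3_c15)) :=
  Lre_c IH (LK LD1_c4 LD2_c54 LD3_c55) (LK LD1_c9 LD2_c41 LD3_c15) Lrfl Lrfl
theorem f218567 : Led Lsl_dt (LP (LK LD1_c17 LD2_c49 LD3_c9)) = (LP (LK LD1_c9 LD2_c41 LD3_c15)) :=
  Lre_d IH (LK LD1_c17 LD2_c49 LD3_c9) (LK LD1_c9 LD2_c41 LD3_c15) Lrfl Lrfl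
theorem f218562 : Led Lsl_et (LP (LK LD1_c9 LD2_c41 LD3_c15)) = (LP (LK LD1_c4 LD2_c54 LD3_c54)) :=
  Lre_e IH (LK LD1_c9 LD2_c41 LD3_c15) (LK LD1_c4 LD2_c54 LD3_c54) Lrfl Lrfl
theorem f218563 : Led Lsl_dt (LP (LK LD1_c9 LD2_c41 LD3_c15)) = (LP (LK LD1_c17 LD2_c49 LD3_c9)) :=
  Lre_d IH (LK LD1_c9 LD2_c41 LD3_c15) (LK LD1_c17 LD2_c49 LD3_c9) Lrfl Lrfl
theorem f47218 : Led Lsl_at (LP (LK LD1_c1 LD2_c59 LD3_c53)) = (LP (LK LD1_c4 LD2_c5 LD3_c5)) :=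
  Lre_a IH (LK LD1_c1 LD2_c59 LD3_c53) (LK LD1_c4 LD2_c5 LD3_c5) Lrfl Lrfl
theorem f55108 : Led Lsl_at (LP (LK LD1_c2 LD2_c25 LD3_c13)) = (LP (LK LD1_c1 LD2_c10 LD3_c1)) :=
  Lre_a IH (LK LD1_c2 LD2_c25 LD3_c13) (LK LD1_c1 LD2_c10 LD3_c1) Lrfl Lrfl
theorem f55109 : Led Lsl_ef (LP (LK LD1_c1 LD2_c59 LD3_c53)) = (LP (LK LD1_c1 LD2_c10 LD3_c1)) :=
  Lgr Lrot20 (Lpr_at (f47218 IH) (Lpr_et (K1.f55100 IH) (Lpr_at (f55108 IH) (Lpn (LP (LK LD1_c1 LD2_c10 LD3_c1))))))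
theorem f47290 : Led Lsl_dt (LP (LK LD1_c8 LD2_c11 LD3_c41)) = (LP (LK LD1_c15 LD2_c25 LD3_c41)) :=
  Lre_d IH (LK LD1_c8 LD2_c11 LD3_c41) (LK LD1_c15 LD2_c25 LD3_c41) Lrfl Lrfl
theorem f218564 : Led Lsl_gf (LP (LK LD1_c17 LD2_c49 LD3_c9)) = (LP (LK LD1_c15 LD2_c25 LD3_c41)) :=
  Lgr Lrot145 (Lpe (f218563 IH) (Lpr_et (f218562 IH) (Lpr_gt (K12.f169254 IH) (Lpr_dt (K14.f218548 IH) (Lpr_gt (K12.f55192 IH) (Lpe (K13.f55161 IH) (Lpe (f55109 IH) (Lpr_gt (K10.f188073 IH) (Lpe (K17.f47289 IH) (Lpr_dt (f47290 IH) (Lpn (LP (LK LD1_c15 LD2_c25 LD3_c41)))))))))))))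
theorem f183012 : Led Lsl_gt (LP (LK LD1_c8 LD2_c11 LD3_c30)) = (LP (LK LD1_c4 LD2_c5 LD3_c19)) :=
  Lre_g IH (LK LD1_c8 LD2_c11 LD3_c30) (LK LD1_c4 LD2_c5 LD3_c19) Lrfl Lrfl
theorem f322263 : Led Lsl_ct (LP (LK LD1_c15 LD2_c25 LD3_c25)) = (LP (LK LD1_c8 LD2_c11 LD3_c30)) :=
  Lre_c IH (LK LD1_c15 LD2_c25 LD3_c25) (LK LD1_c8 LD2_c11 LD3_c30) Lrfl Lrfl
theorem f322274 : Led Lsl_gf (LP (LK LD1_c8 LD2_c11 LD3_c41)) = (LP (LK LD1_c15 LD2_c25 LD3_c25)) :=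
  Lgr Lrot144 (Lpr_dt (f47290 IH) (Lpe (f218564 IH) (Lpr_dt (f218567 IH) (Lpe (f218570 IH) (Lpr_df (K15.f261145 IH) (Lpr_gf (K20.f322270 IH) (Lpe (K20.f322252 IH) (Lpe (f183012 IH) (Lpe (f322263 IH) (Lpn (LP (LK LD1_c15 LD2_c25 LD3_c25))))))))))))
theorem f284648 : Led Lsl_ft (LP (LK LD1_c19 LD2_c7 LD3_c42)) = (LP (LK LD1_c10 LD2_c33 LD3_c41)) :=
  Lre_f IH (LK LD1_c19 LD2_c7 LD3_c42) (LK LD1_c10 LD2_c33 LD3_c41) Lrfl Lrfl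
theorem f322276 : Led Lsl_gt (LP (LK LD1_c19 LD2_c7 LD3_c42)) = (LP (LK LD1_c15 LD2_c25 LD3_c25)) :=
  Lgr Lrot5 (Lpr_ft (f284648 IH) (Lpe (K17.f284477 IH) (Lpr_gf (f322274 IH) (Lpn (LP (LK LD1_c15 LD2_c25 LD3_c25))))))
theorem f322262 : Led Lsl_ct (LP (LK LD1_c8 LD2_c11 LD3_c30)) = (LP (LK LD1_c15 LD2_c25 LD3_c25)) :=
  Lre_c IH (LK LD1_c8 LD2_c11 LD3_c30) (LK LD1_c15 LD2_c25 LD3_c25) Lrfl Lrfl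
theorem f328185 : Led Lsl_bf (LP (LK LD1_c4 LD2_c5 LD3_c30)) = (LP (LK LD1_c8 LD2_c11 LD3_c30)) :=
  Lgr Lrot156 (Lpr_gt (f237981 IH) (Lpe (K17.f237968 IH) (Lpr_ct (K18.f256147 IH) (Lpr_gt (f328173 IH) (Lpe (f299263 IH) (Lpr_bt (f328133 IH) (Lpe (f328183 IH) (Lpr_ct (f284180 IH) (Lpr_gt (f322276 IH) (Lpe (f322262 IH) (Lpn (LP (LK LD1_c8 LD2_c11 LD3_c30)))))))))))))
theorem f237917 : Led Lsl_bt (LP (LK LD1_c1 LD2_c59 LD3_c56)) = (LP (LK LD1_c4 LD2_c5 LD3_c28)) :=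
  Lre_b IH (LK LD1_c1 LD2_c59 LD3_c56) (LK LD1_c4 LD2_c5 LD3_c28) Lrfl Lrfl
theorem f237918 : Led Lsl_dt (LP (LK LD1_c2 LD2_c6 LD3_c47)) = (LP (LK LD1_c1 LD2_c59 LD3_c56)) :=
  Lgr Lrot79 (Lpe (K17.f237916 IH) (Lpr_df (K17.f237914 IH) (Lpe (f237917 IH) (Lpn (LP (LK LD1_c1 LD2_c59 LD3_c56))))))
theorem f2398 : Led Lsl_gt (LP (LK LD1_c1 LD2_c9 LD3_c27)) = (LP (LK LD1_c2 LD2_c24 LD3_c41)) :=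
  Lre_g IH (LK LD1_c1 LD2_c9 LD3_c27) (LK LD1_c2 LD2_c24 LD3_c41) Lrfl Lrfl
theorem f2782 : Led Lsl_et (LP (LK LD1_c4 LD2_c53 LD3_c46)) = (LP (LK LD1_c2 LD2_c24 LD3_c41)) :=
  Lre_e IH (LK LD1_c4 LD2_c53 LD3_c46) (LK LD1_c2 LD2_c24 LD3_c41) Lrfl Lrfl
theorem f237985 : Led Lsl_dt (LP (LK LD1_c4 LD2_c53 LD3_c46)) = (LP (LK LD1_c4 LD2_c5 LD3_c30)) :=
  Lgr Lrot136 (Lpr_et (f2782 IH) (Lpe (f2398 IH) (Lpe (K0.f2174 IH) (Lpr_dt (K0.f2161 IH) (Lpe (K10.f171187 IH) (Lpe (K9.f171202 IH) (Lpe (K13.f171490 IH) (Lpe (K19.f171491 IH) (Lpr_dt (f237918 IH) (Lpe (f237981 IH) (Lpn (LP (LK LD1_c4 LD2_c5 LD3_c30)))))))))))))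
theorem f237989 : Led Lsl_df (LP (LK LD1_c4 LD2_c53 LD3_c46)) = (LP (LK LD1_c4 LD2_c5 LD3_c30)) :=
  Lgr Lrot38 (Lpr_dt (f237985 IH) (Lpn (LP (LK LD1_c4 LD2_c5 LD3_c30))))
theorem f237992 : Led Lsl_bt (LP (LK LD1_c4 LD2_c53 LD3_c46)) = (LP (LK LD1_c9 LD2_c39 LD3_c17)) :=
  Lre_b IH (LK LD1_c4 LD2_c53 LD3_c46) (LK LD1_c9 LD2_c39 LD3_c17) Lrfl Lrfl
theorem f328190 : Led Lsl_dt (LP (LK LD1_c9 LD2_c39 LD3_c17)) = (LP (LK LD1_c8 LD2_c11 LD3_c30)) :=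
  Lgr Lrot79 (Lpe (f237992 IH) (Lpr_df (f237989 IH) (Lpr_bf (f328185 IH) (Lpn (LP (LK LD1_c8 LD2_c11 LD3_c30))))))
theorem f328201 : Led Lsl_et (LP (LK LD1_c9 LD2_c39 LD3_c17)) = (LP (LK LD1_c4 LD2_c53 LD3_c44)) :=
  Lre_e IH (LK LD1_c9 LD2_c39 LD3_c17) (LK LD1_c4 LD2_c53 LD3_c44) Lrfl Lrfl
theorem f328202 : Led Lsl_gf (LP (LK LD1_c4 LD2_c53 LD3_c44)) = (LP (LK LD1_c4 LD2_c19 LD3_c23)) :=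
  Lgr Lrot141 (Lpe (f328201 IH) (Lpr_dt (f328190 IH) (Lpr_gt (f183012 IH) (Lpe (K20.f278202 IH) (Lpr_et (K20.f322212 IH) (Lpr_gt (K16.f278206 IH) (Lpr_dt (K16.f166915 IH) (Lpr_gt (K16.f279256 IH) (Lpe (K16.f279195 IH) (Lpr_et (K16.f279267 IH) (Lpn (LP (LK LD1_c4 LD2_c19 LD3_c23)))))))))))))
theorem f328204 : Led Lsl_gt (LP (LK LD1_c4 LD2_c53 LD3_c44)) = (LP (LK LD1_c4 LD2_c18 LD3_c38)) :=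
  Lgr Lrot46 (Lpr_gf (f328202 IH) (Lpe (K16.f279283 IH) (Lpr_at (K12.f222839 IH) (Lpn (LP (LK LD1_c4 LD2_c18 LD3_c38))))))
theorem f271077 : Led Lsl_ft (LP (LK LD1_c15 LD2_c24 LD3_c24)) = (LP (LK LD1_c8 LD2_c10 LD3_c56)) :=
  Lre_f IH (LK LD1_c15 LD2_c24 LD3_c24) (LK LD1_c8 LD2_c10 LD3_c56) Lrfl Lrfl
theorem f271079 : Led Lsl_df (LP (LK LD1_c15 LD2_c24 LD3_c24)) = (LP (LK LD1_c8 LD2_c24 LD3_c22)) :=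
  Lgr Lrot78 (Lpr_ft (f271077 IH) (Lpr_dt (K16.f271067 IH) (Lpr_ft (K20.f271078 IH) (Lpn (LP (LK LD1_c8 LD2_c24 LD3_c22))))))
theorem f328213 : Led Lsl_gf (LP (LK LD1_c8 LD2_c11 LD3_c30)) = (LP (LK LD1_c15 LD2_c24 LD3_c24)) :=
  Lgr Lrot134 (Lpe (f328190 IH) (Lpr_et (f328201 IH) (Lpr_gt (f328204 IH) (Lpe (K12.f188783 IH) (Lpr_dt (K12.f188770 IH) (Lpr_gt (K14.f252083 IH) (Lpe (K14.f252068 IH) (Lpr_et (K16.f252088 IH) (Lpr_gt (K20.f322272 IH) (Lpe (f271079 IH) (Lpn (LP (LK LD1_c15 LD2_c24 LD3_c24)))))))))))))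
theorem f267150 : Led Lsl_dt (LP (LK LD1_c8 LD2_c17 LD3_c59)) = (LP (LK LD1_c8 LD2_c15 LD3_c42)) :=
  Lgr Lrot42 (Lpr_df (K15.f267147 IH) (Lpn (LP (LK LD1_c8 LD2_c15 LD3_c42))))
theorem f271139 : Led Lsl_af (LP (LK LD1_c4 LD2_c13 LD3_c12)) = (LP (LK LD1_c8 LD2_c24 LD3_c21)) :=
  Lgr Lrot45 (Lpr_ft (K16.f228856 IH) (Lpr_at (K15.f228822 IH) (Lpr_ft (K16.f271137 IH) (Lpn (LP (LK LD1_c8 LD2_c24 LD3_c21))))))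
theorem f322278 : Led Lsl_gf (LP (LK LD1_c4 LD2_c13 LD3_c12)) = (LP (LK LD1_c8 LD2_c24 LD3_c22)) :=
  Lgr Lrot76 (Lpr_af (f271139 IH) (Lpe (K16.f271137 IH) (Lpr_gt (K20.f322272 IH) (Lpn (LP (LK LD1_c8 LD2_c24 LD3_c22))))))
theorem f328215 : Led Lsl_cf (LP (LK LD1_c8 LD2_c17 LD3_c59)) = (LP (LK LD1_c8 LD2_c37 LD3_c22)) :=
  Lgr Lrot99 (Lpr_df (K15.f267147 IH) (Lpr_cf (K17.f188069 IH) (Lpr_gf (f322274 IH) (Lpe (f322262 IH) (Lpr_gf (f328213 IH) (Lpr_df (f271079 IH) (Lpe (f322278 IH) (Lpr_ct (K17.f228863 IH) (Lpe (K17.f287802 IH) (Lpn (LP (LK LD1_c8 LD2_c37 LD3_c22))))))))))))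
theorem f328217 : Led Lsl_df (LP (LK LD1_c8 LD2_c24 LD3_c22)) = (LP (LK LD1_c15 LD2_c24 LD3_c24)) :=
  Lgr Lrot155 (Lpe (f322278 IH) (Lpr_ct (K17.f228863 IH) (Lpe (K17.f287802 IH) (Lpe (f328215 IH) (Lpr_dt (f267150 IH) (Lpr_cf (K17.f188069 IH) (Lpr_gf (f322274 IH) (Lpe (f322262 IH) (Lpr_gf (f328213 IH) (Lpn (LP (LK LD1_c15 LD2_c24 LD3_c24))))))))))))
theorem f168512 : Led Lsl_dt (LP (LK LD1_c5 LD2_c29 LD3_c40)) = (LP (LK LD1_c10 LD2_c50 LD3_c37)) :=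
  Lre_d IH (LK LD1_c5 LD2_c29 LD3_c40) (LK LD1_c10 LD2_c50 LD3_c37) Lrfl Lrfl
theorem f328221 : Led Lsl_bt (LP (LK LD1_c10 LD2_c50 LD3_c37)) = (LP (LK LD1_c15 LD2_c24 LD3_c24)) :=
  Lgr Lrot95 (Lpe (f168512 IH) (Lpr_bf (K20.f322284 IH) (Lpr_df (f328217 IH) (Lpn (LP (LK LD1_c15 LD2_c24 LD3_c24))))))
theorem f247705 : Led Lsl_bt (LP (LK LD1_c8 LD2_c11 LD3_c38)) = (LP (LK LD1_c15 LD2_c25 LD3_c27)) :=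
  Lre_b IH (LK LD1_c8 LD2_c11 LD3_c38) (LK LD1_c15 LD2_c25 LD3_c27) Lrfl Lrfl
theorem f328225 : Led Lsl_ef (LP (LK LD1_c10 LD2_c50 LD3_c37)) = (LP (LK LD1_c15 LD2_c25 LD3_c27)) :=
  Lgr Lrot29 (Lpr_bt (f328221 IH) (Lpr_et (K20.f317441 IH) (Lpr_bt (f247705 IH) (Lpn (LP (LK LD1_c15 LD2_c25 LD3_c27))))))
theorem f194302 : Led Lsl_et (LP (LK LD1_c4 LD2_c5 LD3_c20)) = (LP (LK LD1_c8 LD2_c11 LD3_c32)) :=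
  Lre_e IH (LK LD1_c4 LD2_c5 LD3_c20) (LK LD1_c8 LD2_c11 LD3_c32) Lrfl Lrfl
theorem f328233 : Led Lsl_ft (LP (LK LD1_c10 LD2_c50 LD3_c37)) = (LP (LK LD1_c8 LD2_c26 LD3_c27)) :=
  Lgr Lrot86 (Lpr_ef (f328225 IH) (Lpe (K20.f194298 IH) (Lpe (f194302 IH) (Lpe (K20.f317449 IH) (Lpe (K16.f189719 IH) (Lpn (LP (LK LD1_c8 LD2_c26 LD3_c27))))))))
theorem f328239 : Led Lsl_ff (LP (LK LD1_c10 LD2_c50 LD3_c37)) = (LP (LK LD1_c8 LD2_c26 LD3_c27)) :=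
  Lgr Lrot3 (Lpr_ft (f328233 IH) (Lpn (LP (LK LD1_c8 LD2_c26 LD3_c27))))
theorem f328243 : Led Lsl_bt (LP (LK LD1_c8 LD2_c10 LD3_c56)) = (LP (LK LD1_c8 LD2_c26 LD3_c27)) :=
  Lgr Lrot35 (Lpe (f271077 IH) (Lpe (f328221 IH) (Lpr_ff (f328239 IH) (Lpn (LP (LK LD1_c8 LD2_c26 LD3_c27))))))
theorem f322219 : Led Lsl_at (LP (LK LD1_c4 LD2_c5 LD3_c19)) = (LP (LK LD1_c8 LD2_c10 LD3_c56)) :=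
  Lgr Lrot51 (Lpe (K20.f278202 IH) (Lpr_af (K20.f322213 IH) (Lpe (K16.f271067 IH) (Lpn (LP (LK LD1_c8 LD2_c10 LD3_c56))))))
theorem f182927 : Led Lsl_bt (LP (LK LD1_c8 LD2_c11 LD3_c24)) = (LP (LK LD1_c4 LD2_c5 LD3_c19)) :=
  Lre_b IH (LK LD1_c8 LD2_c11 LD3_c24) (LK LD1_c4 LD2_c5 LD3_c19) Lrfl Lrfl
theorem f324758 : Led Lsl_af (LP (LK LD1_c8 LD2_c11 LD3_c24)) = (LP (LK LD1_c8 LD2_c38 LD3_c31)) :=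
  Lgr Lrot0 (Lpr_at (f324756 IH) (Lpn (LP (LK LD1_c8 LD2_c38 LD3_c31))))
theorem f328249 : Led Lsl_af (LP (LK LD1_c10 LD2_c50 LD3_c39)) = (LP (LK LD1_c8 LD2_c26 LD3_c27)) :=
  Lgr Lrot36 (Lpr_bt (f263720 IH) (Lpe (f324758 IH) (Lpr_bt (f182927 IH) (Lpr_at (f322219 IH) (Lpr_bt (f328243 IH) (Lpn (LP (LK LD1_c8 LD2_c26 LD3_c27))))))))
theorem f257243 : Led Lsl_et (LP (LK LD1_c4 LD2_c15 LD3_c13)) = (LP (LK LD1_c8 LD2_c29 LD3_c21)) :=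
  Lre_e IH (LK LD1_c4 LD2_c15 LD3_c13) (LK LD1_c8 LD2_c29 LD3_c21) Lrfl Lrfl
theorem f263714 : Led Lsl_cf (LP (LK LD1_c10 LD2_c50 LD3_c39)) = (LP (LK LD1_c8 LD2_c29 LD3_c21)) :=
  Lgr Lrot39 (Lpr_et (K17.f263710 IH) (Lpr_ct (K15.f257211 IH) (Lpr_et (f257243 IH) (Lpn (LP (LK LD1_c8 LD2_c29 LD3_c21))))))
theorem f250944 : Led Lsl_dt (LP (LK LD1_c15 LD2_c56 LD3_c25)) = (LP (LK LD1_c8 LD2_c29 LD3_c21)) :=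
  Lre_d IH (LK LD1_c15 LD2_c56 LD3_c25) (LK LD1_c8 LD2_c29 LD3_c21) Lrfl Lrfl
theorem f250943 : Led Lsl_ct (LP (LK LD1_c25 LD2_c52 LD3_c52)) = (LP (LK LD1_c15 LD2_c56 LD3_c25)) :=
  Lre_c IH (LK LD1_c25 LD2_c52 LD3_c52) (LK LD1_c15 LD2_c56 LD3_c25) Lrfl Lrfl
theorem f213787 : Led Lsl_dt (LP (LK LD1_c10 LD2_c50 LD3_c37)) = (LP (LK LD1_c5 LD2_c29 LD3_c40)) :=
  Lre_d IH (LK LD1_c10 LD2_c50 LD3_c37) (LK LD1_c5 LD2_c29 LD3_c40) Lrfl Lrfl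
theorem f168514 : Led Lsl_ct (LP (LK LD1_c5 LD2_c29 LD3_c40)) = (LP (LK LD1_c10 LD2_c50 LD3_c36)) :=
  Lre_c IH (LK LD1_c5 LD2_c29 LD3_c40) (LK LD1_c10 LD2_c50 LD3_c36) Lrfl Lrfl
theorem f283206 : Led Lsl_dt (LP (LK LD1_c10 LD2_c50 LD3_c36)) = (LP (LK LD1_c19 LD2_c36 LD3_c6)) :=
  Lre_d IH (LK LD1_c10 LD2_c50 LD3_c36) (LK LD1_c19 LD2_c36 LD3_c6) Lrfl Lrfl
theorem f295813 : Led Lsl_ct (LP (LK LD1_c19 LD2_c36 LD3_c6)) = (LP (LK LD1_c28 LD2_c58 LD3_c2)) :=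
  Lre_c IH (LK LD1_c19 LD2_c36 LD3_c6) (LK LD1_c28 LD2_c58 LD3_c2) Lrfl Lrfl
theorem f328259 : Led Lsl_df (LP (LK LD1_c25 LD2_c52 LD3_c52)) = (LP (LK LD1_c28 LD2_c58 LD3_c2)) :=
  Lgr Lrot13 (Lpr_ct (f250943 IH) (Lpr_dt (f250944 IH) (Lpe (f263714 IH) (Lpr_af (f328249 IH) (Lpe (f328233 IH) (Lpr_dt (f213787 IH) (Lpr_ct (f168514 IH) (Lpr_dt (f283206 IH) (Lpr_ct (f295813 IH) (Lpn (LP (LK LD1_c28 LD2_c58 LD3_c2))))))))))))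
theorem f328261 : Led Lsl_dt (LP (LK LD1_c25 LD2_c52 LD3_c52)) = (LP (LK LD1_c28 LD2_c58 LD3_c2)) :=
  Lgr Lrot42 (Lpr_df (f328259 IH) (Lpn (LP (LK LD1_c28 LD2_c58 LD3_c2))))
theorem f250941 : Led Lsl_ct (LP (LK LD1_c15 LD2_c56 LD3_c25)) = (LP (LK LD1_c25 LD2_c52 LD3_c52)) :=
  Lre_c IH (LK LD1_c15 LD2_c56 LD3_c25) (LK LD1_c25 LD2_c52 LD3_c52) Lrfl Lrfl
theorem f54490 : Led Lsl_dt (LP (LK LD1_c8 LD2_c29 LD3_c21)) = (LP (LK LD1_c15 LD2_c56 LD3_c25)) :=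
  Lre_d IH (LK LD1_c8 LD2_c29 LD3_c21) (LK LD1_c15 LD2_c56 LD3_c25) Lrfl Lrfl
theorem f263724 : Led Lsl_ft (LP (LK LD1_c8 LD2_c29 LD3_c21)) = (LP (LK LD1_c15 LD2_c56 LD3_c26)) :=
  Lre_f IH (LK LD1_c8 LD2_c29 LD3_c21) (LK LD1_c15 LD2_c56 LD3_c26) Lrfl Lrfl
theorem f283207 : Led Lsl_ct (LP (LK LD1_c28 LD2_c58 LD3_c2)) = (LP (LK LD1_c19 LD2_c36 LD3_c6)) :=
  Lre_c IH (LK LD1_c28 LD2_c58 LD3_c2) (LK LD1_c19 LD2_c36 LD3_c6) Lrfl Lrfl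
theorem f283208 : Led Lsl_dt (LP (LK LD1_c19 LD2_c36 LD3_c6)) = (LP (LK LD1_c10 LD2_c50 LD3_c36)) :=
  Lre_d IH (LK LD1_c19 LD2_c36 LD3_c6) (LK LD1_c10 LD2_c50 LD3_c36) Lrfl Lrfl
theorem f283209 : Led Lsl_ct (LP (LK LD1_c10 LD2_c50 LD3_c36)) = (LP (LK LD1_c5 LD2_c29 LD3_c40)) :=
  Lre_c IH (LK LD1_c10 LD2_c50 LD3_c36) (LK LD1_c5 LD2_c29 LD3_c40) Lrfl Lrfl
theorem f45525 : Led Lsl_et (LP (LK LD1_c8 LD2_c28 LD3_c54)) = (LP (LK LD1_c4 LD2_c14 LD3_c59)) :=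
  Lre_e IH (LK LD1_c8 LD2_c28 LD3_c54) (LK LD1_c4 LD2_c14 LD3_c59) Lrfl Lrfl
theorem f259432 : Led Lsl_cf (LP (LK LD1_c8 LD2_c28 LD3_c54)) = (LP (LK LD1_c8 LD2_c26 LD3_c27)) :=
  Lgr Lrot39 (Lpr_et (f45525 IH) (Lpr_ct (K15.f259425 IH) (Lpr_et (K16.f259431 IH) (Lpn (LP (LK LD1_c8 LD2_c26 LD3_c27))))))
theorem f259525 : Led Lsl_ct (LP (LK LD1_c8 LD2_c28 LD3_c54)) = (LP (LK LD1_c8 LD2_c26 LD3_c27)) :=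
  Lgr Lrot59 (Lpr_cf (f259432 IH) (Lpn (LP (LK LD1_c8 LD2_c26 LD3_c27))))
theorem f259531 : Led Lsl_ft (LP (LK LD1_c15 LD2_c55 LD3_c34)) = (LP (LK LD1_c8 LD2_c28 LD3_c54)) :=
  Lre_f IH (LK LD1_c15 LD2_c55 LD3_c34) (LK LD1_c8 LD2_c28 LD3_c54) Lrfl Lrfl
theorem f328245 : Led Lsl_ct (LP (LK LD1_c10 LD2_c50 LD3_c37)) = (LP (LK LD1_c15 LD2_c55 LD3_c34)) :=
  Lgr Lrot40 (Lpr_ff (f328239 IH) (Lpe (f259525 IH) (Lpe (f259531 IH) (Lpn (LP (LK LD1_c15 LD2_c55 LD3_c34))))))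
theorem f328275 : Led Lsl_at (LP (LK LD1_c15 LD2_c56 LD3_c26)) = (LP (LK LD1_c15 LD2_c55 LD3_c34)) :=
  Lgr Lrot33 (Lpe (f263724 IH) (Lpr_dt (f54490 IH) (Lpr_ct (f250941 IH) (Lpr_dt (f328261 IH) (Lpr_ct (f283207 IH) (Lpr_dt (f283208 IH) (Lpr_ct (f283209 IH) (Lpr_dt (f168512 IH) (Lpr_ct (f328245 IH) (Lpn (LP (LK LD1_c15 LD2_c55 LD3_c34))))))))))))
theorem f328281 : Led Lsl_af (LP (LK LD1_c8 LD2_c29 LD3_c21)) = (LP (LK LD1_c8 LD2_c28 LD3_c54)) :=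
  Lgr Lrot45 (Lpr_ft (f263724 IH) (Lpr_at (f328275 IH) (Lpr_ft (f259531 IH) (Lpn (LP (LK LD1_c8 LD2_c28 LD3_c54))))))
theorem f54489 : Led Lsl_et (LP (LK LD1_c8 LD2_c29 LD3_c21)) = (LP (LK LD1_c4 LD2_c15 LD3_c13)) :=
  Lre_e IH (LK LD1_c8 LD2_c29 LD3_c21) (LK LD1_c4 LD2_c15 LD3_c13) Lrfl Lrfl
theorem f236351 : Led Lsl_et (LP (LK LD1_c4 LD2_c14 LD3_c59)) = (LP (LK LD1_c8 LD2_c28 LD3_c54)) :=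
  Lre_e IH (LK LD1_c4 LD2_c14 LD3_c59) (LK LD1_c8 LD2_c28 LD3_c54) Lrfl Lrfl
theorem f328285 : Led Lsl_at (LP (LK LD1_c4 LD2_c15 LD3_c13)) = (LP (LK LD1_c4 LD2_c14 LD3_c59)) :=
  Lgr Lrot80 (Lpe (f54489 IH) (Lpr_af (f328281 IH) (Lpe (f236351 IH) (Lpn (LP (LK LD1_c4 LD2_c14 LD3_c59))))))
theorem f328298 : Led Lsl_ff (LP (LK LD1_c4 LD2_c15 LD3_c13)) = (LP (LK LD1_c4 LD2_c14 LD3_c60)) :=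
  Lgr Lrot52 (Lpr_at (f328285 IH) (Lpe (K10.f45516 IH) (Lpe (K13.f45403 IH) (Lpn (LP (LK LD1_c4 LD2_c14 LD3_c60))))))
theorem f189626 : Led Lsl_dt (LP (LK LD1_c4 LD2_c14 LD3_c60)) = (LP (LK LD1_c8 LD2_c28 LD3_c56)) :=
  Lre_d IH (LK LD1_c4 LD2_c14 LD3_c60) (LK LD1_c8 LD2_c28 LD3_c56) Lrfl Lrfl
theorem f259488 : Led Lsl_cf (LP (LK LD1_c5 LD2_c15 LD3_c47)) = (LP (LK LD1_c8 LD2_c28 LD3_c56)) :=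
  Lgr Lrot14 (Lpe (K18.f252315 IH) (Lpr_gf (K14.f248075 IH) (Lpe (K15.f49483 IH) (Lpe (K15.f259434 IH) (Lpe (K15.f259398 IH) (Lpr_gt (K15.f259482 IH) (Lpr_dt (K1.f45196 IH) (Lpr_gt (K15.f216293 IH) (Lpr_dt (f189626 IH) (Lpn (LP (LK LD1_c8 LD2_c28 LD3_c56))))))))))))
theorem f45504 : Led Lsl_ct (LP (LK LD1_c2 LD2_c34 LD3_c44)) = (LP (LK LD1_c1 LD2_c14 LD3_c23)) :=
  Lre_c IH (LK LD1_c2 LD2_c34 LD3_c44) (LK LD1_c1 LD2_c14 LD3_c23) Lrfl Lrfl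
theorem f232141 : Led Lsl_ft (LP (LK LD1_c2 LD2_c1 LD3_c40)) = (LP (LK LD1_c4 LD2_c8 LD3_c37)) :=
  Lre_f IH (LK LD1_c2 LD2_c1 LD3_c40) (LK LD1_c4 LD2_c8 LD3_c37) Lrfl Lrfl
theorem f317453 : Led Lsl_df (LP (LK LD1_c4 LD2_c13 LD3_c54)) = (LP (LK LD1_c4 LD2_c8 LD3_c37)) :=
  Lgr Lrot78 (Lpr_ft (K20.f317449 IH) (Lpr_dt (K15.f232004 IH) (Lpr_ft (f232141 IH) (Lpn (LP (LK LD1_c4 LD2_c8 LD3_c37))))))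
theorem f328300 : Led Lsl_ct (LP (LK LD1_c2 LD2_c1 LD3_c47)) = (LP (LK LD1_c4 LD2_c8 LD3_c37)) :=
  Lre_c IH (LK LD1_c2 LD2_c1 LD3_c47) (LK LD1_c4 LD2_c8 LD3_c37) Lrfl Lrfl
theorem f328301 : Led Lsl_dt (LP (LK LD1_c1 LD2_c14 LD3_c23)) = (LP (LK LD1_c2 LD2_c1 LD3_c47)) :=
  Lgr Lrot140 (Lpe (f45504 IH) (Lpe (K18.f248074 IH) (Lpr_cf (f259488 IH) (Lpe (f189626 IH) (Lpe (f328298 IH) (Lpr_at (f328285 IH) (Lpe (K10.f189726 IH) (Lpr_df (f317453 IH) (Lpe (f328300 IH) (Lpn (LP (LK LD1_c2 LD2_c1 LD3_c47))))))))))))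
theorem f274831 : Led Lsl_cf (LP (LK LD1_c2 LD2_c35 LD3_c26)) = (LP (LK LD1_c2 LD2_c43 LD3_c54)) :=
  Lgr Lrot14 (Lpe (K16.f191768 IH) (Lpr_gf (K16.f274826 IH) (Lpe (K15.f44975 IH) (Lpe (K13.f44973 IH) (Lpr_ct (K9.f49462 IH) (Lpr_gt (K12.f212245 IH) (Lpr_dt (K15.f212249 IH) (Lpe (K16.f274824 IH) (Lpr_dt (K16.f263665 IH) (Lpn (LP (LK LD1_c2 LD2_c43 LD3_c54))))))))))))
theorem f7951 : Led Lsl_bt (LP (LK LD1_c2 LD2_c43 LD3_c54)) = (LP (LK LD1_c1 LD2_c18 LD3_c18)) :=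
  Lre_b IH (LK LD1_c2 LD2_c43 LD3_c54) (LK LD1_c1 LD2_c18 LD3_c18) Lrfl Lrfl
theorem f246269 : Led Lsl_bf (LP (LK LD1_c2 LD2_c40 LD3_c9)) = (LP (LK LD1_c2 LD2_c43 LD3_c58)) :=
  Lgr Lrot96 (Lpr_et (K13.f246267 IH) (Lpr_bt (K15.f190859 IH) (Lpr_et (K13.f233737 IH) (Lpn (LP (LK LD1_c2 LD2_c43 LD3_c58))))))
theorem f246265 : Led Lsl_gt (LP (LK LD1_c2 LD2_c40 LD3_c9)) = (LP (LK LD1_c1 LD2_c16 LD3_c50)) :=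
  Lre_g IH (LK LD1_c2 LD2_c40 LD3_c9) (LK LD1_c1 LD2_c16 LD3_c50) Lrfl Lrfl
theorem f274833 : Led Lsl_gf (LP (LK LD1_c2 LD2_c35 LD3_c26)) = (LP (LK LD1_c4 LD2_c2 LD3_c44)) :=
  Lgr Lrot126 (Lpr_cf (f274831 IH) (Lpr_bt (f7951 IH) (Lpr_gt (K15.f199551 IH) (Lpe (K15.f199549 IH) (Lpr_gt (K13.f189253 IH) (Lpe (K16.f189151 IH) (Lpe (f246269 IH) (Lpr_gt (f246265 IH) (Lpe (K17.f262819 IH) (Lpr_ct (K15.f219935 IH) (Lpn (LP (LK LD1_c4 LD2_c2 LD3_c44)))))))))))))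
theorem f328311 : Led Lsl_ct (LP (LK LD1_c4 LD2_c8 LD3_c37)) = (LP (LK LD1_c2 LD2_c1 LD3_c47)) :=
  Lre_c IH (LK LD1_c4 LD2_c8 LD3_c37) (LK LD1_c2 LD2_c1 LD3_c47) Lrfl Lrfl
theorem f328314 : Led Lsl_gt (LP (LK LD1_c2 LD2_c43 LD3_c54)) = (LP (LK LD1_c4 LD2_c8 LD3_c37)) :=
  Lgr Lrot187 (Lpr_cf (K16.f274818 IH) (Lpr_gf (f274833 IH) (Lpe (K12.f219933 IH) (Lpr_gt (K10.f45731 IH) (Lpr_ct (K12.f49451 IH) (Lpe (K14.f248075 IH) (Lpr_ct (f45504 IH) (Lpr_dt (f328301 IH) (Lpe (f328311 IH) (Lpn (LP (LK LD1_c4 LD2_c8 LD3_c37))))))))))))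
theorem f274820 : Led Lsl_ef (LP (LK LD1_c2 LD2_c43 LD3_c54)) = (LP (LK LD1_c2 LD2_c1 LD3_c7)) :=
  Lgr Lrot88 (Lpr_et (K16.f274815 IH) (Lpn (LP (LK LD1_c2 LD2_c1 LD3_c7))))
theorem f317628 : Led Lsl_gf (LP (LK LD1_c4 LD2_c13 LD3_c58)) = (LP (LK LD1_c4 LD2_c12 LD3_c21)) :=
  Lgr Lrot47 (Lpe (K15.f190830 IH) (Lpe (K20.f317610 IH) (Lpr_ff (K20.f317618 IH) (Lpn (LP (LK LD1_c4 LD2_c12 LD3_c21))))))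
theorem f328322 : Led Lsl_et (LP (LK LD1_c4 LD2_c19 LD3_c50)) = (LP (LK LD1_c4 LD2_c8 LD3_c37)) :=
  Lgr Lrot122 (Lpr_dt (K17.f259283 IH) (Lpe (f317628 IH) (Lpe (K12.f188589 IH) (Lpr_et (K10.f188585 IH) (Lpe (K14.f253949 IH) (Lpr_dt (K14.f49891 IH) (Lpe (K19.f263548 IH) (Lpe (K13.f53597 IH) (Lpe (f274820 IH) (Lpr_gt (f328314 IH) (Lpn (LP (LK LD1_c4 LD2_c8 LD3_c37)))))))))))))
theorem f328326 : Led Lsl_ef (LP (LK LD1_c4 LD2_c19 LD3_c50)) = (LP (LK LD1_c4 LD2_c8 LD3_c37)) :=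
  Lgr Lrot88 (Lpr_et (f328322 IH) (Lpn (LP (LK LD1_c4 LD2_c8 LD3_c37))))
theorem f260388 : Led Lsl_dt (LP (LK LD1_c4 LD2_c8 LD3_c36)) = (LP (LK LD1_c5 LD2_c15 LD3_c17)) :=
  Lgr Lrot6 (Lpr_gt (K15.f232142 IH) (Lpr_ct (K14.f167353 IH) (Lpe (K15.f259318 IH) (Lpr_ct (K15.f49077 IH) (Lpe (K9.f49076 IH) (Lpe (K15.f49084 IH) (Lpr_gf (K15.f260386 IH) (Lpe (K10.f189725 IH) (Lpe (K15.f186861 IH) (Lpn (LP (LK LD1_c5 LD2_c15 LD3_c17))))))))))))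
theorem f260630 : Led Lsl_cf (LP (LK LD1_c4 LD2_c7 LD3_c60)) = (LP (LK LD1_c8 LD2_c15 LD3_c49)) :=
  Lgr Lrot166 (Lpe (K15.f259210 IH) (Lpe (K15.f253172 IH) (Lpr_gt (K15.f260628 IH) (Lpr_dt (K10.f45414 IH) (Lpr_ct (K10.f47682 IH) (Lpe (K10.f183685 IH) (Lpe (K15.f186861 IH) (Lpe (f260388 IH) (Lpe (K15.f259689 IH) (Lpn (LP (LK LD1_c8 LD2_c15 LD3_c49))))))))))))
theorem f317695 : Led Lsl_et (LP (LK LD1_c4 LD2_c9 LD3_c6)) = (LP (LK LD1_c8 LD2_c15 LD3_c49)) :=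
  Lgr Lrot158 (Lpe (K16.f259269 IH) (Lpr_ef (K20.f317689 IH) (Lpr_cf (f260630 IH) (Lpn (LP (LK LD1_c8 LD2_c15 LD3_c49))))))
theorem f328328 : Led Lsl_at (LP (LK LD1_c8 LD2_c15 LD3_c49)) = (LP (LK LD1_c4 LD2_c8 LD3_c37)) :=
  Lgr Lrot80 (Lpe (f317695 IH) (Lpe (K16.f259273 IH) (Lpr_ef (f328326 IH) (Lpn (LP (LK LD1_c4 LD2_c8 LD3_c37))))))
theorem f328330 : Led Lsl_ff (LP (LK LD1_c8 LD2_c15 LD3_c49)) = (LP (LK LD1_c4 LD2_c8 LD3_c11)) :=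
  Lgr Lrot52 (Lpr_at (f328328 IH) (Lpe (f328314 IH) (Lpr_gf (K15.f263661 IH) (Lpn (LP (LK LD1_c4 LD2_c8 LD3_c11))))))
theorem f328338 : Led Lsl_ft (LP (LK LD1_c8 LD2_c15 LD3_c49)) = (LP (LK LD1_c4 LD2_c8 LD3_c11)) :=
  Lgr Lrot48 (Lpr_ff (f328330 IH) (Lpn (LP (LK LD1_c4 LD2_c8 LD3_c11))))
theorem f259687 : Led Lsl_df (LP (LK LD1_c8 LD2_c15 LD3_c49)) = (LP (LK LD1_c8 LD2_c26 LD3_c8)) :=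
  Lgr Lrot38 (Lpr_dt (K15.f259683 IH) (Lpn (LP (LK LD1_c8 LD2_c26 LD3_c8))))
theorem f328342 : Led Lsl_ff (LP (LK LD1_c8 LD2_c26 LD3_c8)) = (LP (LK LD1_c4 LD2_c13 LD3_c55)) :=
  Lgr Lrot19 (Lpe (f259687 IH) (Lpr_ft (f328338 IH) (Lpe (K12.f189655 IH) (Lpn (LP (LK LD1_c4 LD2_c13 LD3_c55))))))
theorem f262845 : Led Lsl_gt (LP (LK LD1_c5 LD2_c29 LD3_c22)) = (LP (LK LD1_c10 LD2_c50 LD3_c5)) :=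
  Lre_g IH (LK LD1_c5 LD2_c29 LD3_c22) (LK LD1_c10 LD2_c50 LD3_c5) Lrfl Lrfl
theorem f317594 : Led Lsl_ef (LP (LK LD1_c10 LD2_c50 LD3_c5)) = (LP (LK LD1_c15 LD2_c36 LD3_c53)) :=
  Lgr Lrot17 (Lpe (f262845 IH) (Lpe (K16.f220504 IH) (Lpr_dt (K16.f220501 IH) (Lpr_gf (K15.f262832 IH) (Lpe (K14.f222208 IH) (Lpr_gf (K14.f251750 IH) (Lpe (K16.f170339 IH) (Lpr_dt (K15.f170349 IH) (Lpr_gf (K20.f317562 IH) (Lpe (K20.f317554 IH) (Lpn (LP (LK LD1_c15 LD2_c36 LD3_c53)))))))))))))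
theorem f317555 : Led Lsl_dt (LP (LK LD1_c8 LD2_c18 LD3_c12)) = (LP (LK LD1_c15 LD2_c36 LD3_c53)) :=
  Lre_d IH (LK LD1_c8 LD2_c18 LD3_c12) (LK LD1_c15 LD2_c36 LD3_c53) Lrfl Lrfl
theorem f189668 : Led Lsl_ft (LP (LK LD1_c8 LD2_c16 LD3_c25)) = (LP (LK LD1_c15 LD2_c33 LD3_c22)) :=
  Lre_f IH (LK LD1_c8 LD2_c16 LD3_c25) (LK LD1_c15 LD2_c33 LD3_c22) Lrfl Lrfl
theorem f234244 : Led Lsl_et (LP (LK LD1_c4 LD2_c9 LD3_c3)) = (LP (LK LD1_c2 LD2_c1 LD3_c54)) :=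
  Lre_e IH (LK LD1_c4 LD2_c9 LD3_c3) (LK LD1_c2 LD2_c1 LD3_c54) Lrfl Lrfl
theorem f317538 : Led Lsl_et (LP (LK LD1_c15 LD2_c33 LD3_c22)) = (LP (LK LD1_c8 LD2_c18 LD3_c12)) :=
  Lgr Lrot69 (Lpe (f189668 IH) (Lpe (K12.f189658 IH) (Lpr_ff (K20.f317529 IH) (Lpe (f234244 IH) (Lpe (f317537 IH) (Lpn (LP (LK LD1_c8 LD2_c18 LD3_c12))))))))
theorem f317596 : Led Lsl_et (LP (LK LD1_c19 LD2_c35 LD3_c9)) = (LP (LK LD1_c15 LD2_c51 LD3_c11)) :=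
  Lgr Lrot71 (Lpe (K19.f262846 IH) (Lpr_ef (f317594 IH) (Lpe (f317555 IH) (Lpe (f317538 IH) (Lpe (K12.f189666 IH) (Lpn (LP (LK LD1_c15 LD2_c51 LD3_c11))))))))
theorem f328346 : Led Lsl_ft (LP (LK LD1_c10 LD2_c50 LD3_c39)) = (LP (LK LD1_c19 LD2_c35 LD3_c9)) :=
  Lgr Lrot86 (Lpr_ef (f263717 IH) (Lpr_ff (f328342 IH) (Lpe (K12.f189629 IH) (Lpe (K12.f189649 IH) (Lpe (f317596 IH) (Lpn (LP (LK LD1_c19 LD2_c35 LD3_c9))))))))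
theorem f328352 : Led Lsl_ff (LP (LK LD1_c5 LD2_c29 LD3_c41)) = (LP (LK LD1_c10 LD2_c50 LD3_c5)) :=
  Lgr Lrot19 (Lpr_dt (f263716 IH) (Lpr_ft (f328346 IH) (Lpr_dt (K19.f213826 IH) (Lpn (LP (LK LD1_c10 LD2_c50 LD3_c5))))))
theorem f328397 : Led Lsl_ft (LP (LK LD1_c5 LD2_c29 LD3_c41)) = (LP (LK LD1_c10 LD2_c50 LD3_c5)) :=
  Lgr Lrot48 (Lpr_ff (f328352 IH) (Lpn (LP (LK LD1_c10 LD2_c50 LD3_c5))))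
theorem f317598 : Led Lsl_et (LP (LK LD1_c10 LD2_c50 LD3_c5)) = (LP (LK LD1_c15 LD2_c36 LD3_c53)) :=
  Lgr Lrot87 (Lpr_ef (f317594 IH) (Lpn (LP (LK LD1_c15 LD2_c36 LD3_c53))))
theorem f317659 : Led Lsl_ff (LP (LK LD1_c4 LD2_c51 LD3_c0)) = (LP (LK LD1_c4 LD2_c9 LD3_c5)) :=
  Lgr Lrot3 (Lpr_ft (K20.f317651 IH) (Lpn (LP (LK LD1_c4 LD2_c9 LD3_c5))))
theorem f328403 : Led Lsl_ef (LP (LK LD1_c5 LD2_c29 LD3_c41)) = (LP (LK LD1_c4 LD2_c51 LD3_c0)) :=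
  Lgr Lrot21 (Lpr_ft (f328397 IH) (Lpr_et (f317598 IH) (Lpr_ft (K20.f229609 IH) (Lpr_et (K16.f190846 IH) (Lpe (f317659 IH) (Lpn (LP (LK LD1_c4 LD2_c51 LD3_c0))))))))
theorem f295108 : Led Lsl_cf (LP (LK LD1_c4 LD2_c51 LD3_c0)) = (LP (LK LD1_c4 LD2_c15 LD3_c42)) :=
  Lgr Lrot11 (Lpr_ct (K18.f295103 IH) (Lpn (LP (LK LD1_c4 LD2_c15 LD3_c42))))
theorem f251119 : Led Lsl_et (LP (LK LD1_c8 LD2_c30 LD3_c25)) = (LP (LK LD1_c4 LD2_c15 LD3_c42)) :=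
  Lre_e IH (LK LD1_c8 LD2_c30 LD3_c25) (LK LD1_c4 LD2_c15 LD3_c42) Lrfl Lrfl
theorem f328405 : Led Lsl_ct (LP (LK LD1_c5 LD2_c29 LD3_c41)) = (LP (LK LD1_c8 LD2_c30 LD3_c25)) :=
  Lgr Lrot15 (Lpr_ef (f328403 IH) (Lpr_cf (f295108 IH) (Lpe (f251119 IH) (Lpn (LP (LK LD1_c8 LD2_c30 LD3_c25))))))
theorem f328410 : Led Lsl_cf (LP (LK LD1_c5 LD2_c29 LD3_c41)) = (LP (LK LD1_c8 LD2_c30 LD3_c25)) :=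
  Lgr Lrot11 (Lpr_ct (f328405 IH) (Lpn (LP (LK LD1_c8 LD2_c30 LD3_c25))))
theorem f285645 : Led Lsl_gt (LP (LK LD1_c5 LD2_c26 LD3_c28)) = (LP (LK LD1_c2 LD2_c39 LD3_c39)) :=
  Lre_g IH (LK LD1_c5 LD2_c26 LD3_c28) (LK LD1_c2 LD2_c39 LD3_c39) Lrfl Lrfl
theorem f298855 : Led Lsl_ct (LP (LK LD1_c5 LD2_c26 LD3_c28)) = (LP (LK LD1_c10 LD2_c44 LD3_c10)) :=
  Lre_c IH (LK LD1_c5 LD2_c26 LD3_c28) (LK LD1_c10 LD2_c44 LD3_c10) Lrfl Lrfl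
theorem f235814 : Led Lsl_dt (LP (LK LD1_c10 LD2_c46 LD3_c25)) = (LP (LK LD1_c5 LD2_c27 LD3_c39)) :=
  Lre_d IH (LK LD1_c10 LD2_c46 LD3_c25) (LK LD1_c5 LD2_c27 LD3_c39) Lrfl Lrfl
theorem f45259 : Led Lsl_af (LP (LK LD1_c2 LD2_c4 LD3_c53)) = (LP (LK LD1_c2 LD2_c4 LD3_c61)) :=
  Lgr Lrot0 (Lpr_at (K1.f45254 IH) (Lpn (LP (LK LD1_c2 LD2_c4 LD3_c61))))
theorem f54360 : Led Lsl_et (LP (LK LD1_c2 LD2_c34 LD3_c20)) = (LP (LK LD1_c2 LD2_c4 LD3_c61)) :=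
  Lgr Lrot123 (Lpr_af (K10.f33457 IH) (Lpr_ef (K11.f54355 IH) (Lpr_af (f45259 IH) (Lpn (LP (LK LD1_c2 LD2_c4 LD3_c61))))))
theorem f250938 : Led Lsl_gt (LP (LK LD1_c15 LD2_c56 LD3_c25)) = (LP (LK LD1_c10 LD2_c46 LD3_c25)) :=
  Lgr Lrot112 (Lpe (f54490 IH) (Lpr_et (f54489 IH) (Lpe (K15.f54488 IH) (Lpe (f54360 IH) (Lpr_dt (K16.f33467 IH) (Lpr_gf (K18.f250932 IH) (Lpe (K18.f219100 IH) (Lpe (K13.f235771 IH) (Lpe (K20.f235788 IH) (Lpr_dt (K20.f235789 IH) (Lpn (LP (LK LD1_c10 LD2_c46 LD3_c25)))))))))))))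
theorem f298864 : Led Lsl_gt (LP (LK LD1_c10 LD2_c44 LD3_c10)) = (LP (LK LD1_c8 LD2_c29 LD3_c21)) :=
  Lgr Lrot94 (Lpe (f298855 IH) (Lpr_gt (f285645 IH) (Lpe (K19.f298852 IH) (Lpr_gt (K19.f298860 IH) (Lpe (K19.f235999 IH) (Lpe (K14.f235810 IH) (Lpe (f235814 IH) (Lpe (f250938 IH) (Lpe (f54490 IH) (Lpn (LP (LK LD1_c8 LD2_c29 LD3_c21))))))))))))
theorem f260597 : Led Lsl_cf (LP (LK LD1_c2 LD2_c1 LD3_c45)) = (LP (LK LD1_c2 LD2_c41 LD3_c25)) :=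
  Lgr Lrot14 (Lpe (K15.f253177 IH) (Lpr_gf (K15.f260593 IH) (Lpe (K15.f32346 IH) (Lpe (K10.f32343 IH) (Lpr_ct (K10.f45229 IH) (Lpe (K9.f183668 IH) (Lpr_dt (K10.f169558 IH) (Lpr_gt (K10.f169561 IH) (Lpe (K15.f260411 IH) (Lpn (LP (LK LD1_c2 LD2_c41 LD3_c25))))))))))))
theorem f285801 : Led Lsl_gt (LP (LK LD1_c2 LD2_c11 LD3_c30)) = (LP (LK LD1_c2 LD2_c41 LD3_c25)) :=
  Lgr Lrot150 (Lpr_cf (K12.f173236 IH) (Lpr_gf (K17.f285799 IH) (Lpe (K16.f191768 IH) (Lpr_gt (K16.f274829 IH) (Lpr_ct (K14.f183680 IH) (Lpe (K16.f260632 IH) (Lpr_ct (K15.f212188 IH) (Lpr_df (K15.f253172 IH) (Lpr_cf (f260597 IH) (Lpn (LP (LK LD1_c2 LD2_c41 LD3_c25))))))))))))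
theorem f298859 : Led Lsl_et (LP (LK LD1_c10 LD2_c44 LD3_c11)) = (LP (LK LD1_c5 LD2_c26 LD3_c28)) :=
  Lre_e IH (LK LD1_c10 LD2_c44 LD3_c11) (LK LD1_c5 LD2_c26 LD3_c28) Lrfl Lrfl
theorem f301432 : Led Lsl_df (LP (LK LD1_c4 LD2_c8 LD3_c39)) = (LP (LK LD1_c4 LD2_c15 LD3_c58)) :=
  Lgr Lrot38 (Lpr_dt (K18.f301425 IH) (Lpn (LP (LK LD1_c4 LD2_c15 LD3_c58))))
theorem f301470 : Led Lsl_dt (LP (LK LD1_c10 LD2_c44 LD3_c11)) = (LP (LK LD1_c8 LD2_c17 LD3_c20)) :=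
  Lgr Lrot56 (Lpr_et (f298859 IH) (Lpr_gt (f285645 IH) (Lpe (K18.f285620 IH) (Lpe (K18.f285734 IH) (Lpr_gt (f285801 IH) (Lpr_df (K15.f260411 IH) (Lpe (K16.f260414 IH) (Lpr_gt (K18.f301434 IH) (Lpe (f301432 IH) (Lpr_gt (K17.f234209 IH) (Lpn (LP (LK LD1_c8 LD2_c17 LD3_c20)))))))))))))
theorem f301477 : Led Lsl_et (LP (LK LD1_c5 LD2_c26 LD3_c28)) = (LP (LK LD1_c10 LD2_c44 LD3_c11)) :=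
  Lre_e IH (LK LD1_c5 LD2_c26 LD3_c28) (LK LD1_c10 LD2_c44 LD3_c11) Lrfl Lrfl
theorem f234220 : Led Lsl_ef (LP (LK LD1_c8 LD2_c20 LD3_c10)) = (LP (LK LD1_c8 LD2_c17 LD3_c20)) :=
  Lgr Lrot88 (Lpr_et (K17.f234210 IH) (Lpn (LP (LK LD1_c8 LD2_c17 LD3_c20))))
theorem f48977 : Led Lsl_et (LP (LK LD1_c4 LD2_c9 LD3_c59)) = (LP (LK LD1_c8 LD2_c20 LD3_c11)) :=
  Lre_e IH (LK LD1_c4 LD2_c9 LD3_c59) (LK LD1_c8 LD2_c20 LD3_c11) Lrfl Lrfl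
theorem f301478 : Led Lsl_df (LP (LK LD1_c5 LD2_c26 LD3_c28)) = (LP (LK LD1_c8 LD2_c20 LD3_c11)) :=
  Lgr Lrot70 (Lpr_et (f301477 IH) (Lpr_dt (f301470 IH) (Lpe (f234220 IH) (Lpr_dt (K17.f837 IH) (Lpr_et (f48977 IH) (Lpn (LP (LK LD1_c8 LD2_c20 LD3_c11))))))))
theorem f838 : Led Lsl_et (LP (LK LD1_c8 LD2_c20 LD3_c11)) = (LP (LK LD1_c4 LD2_c9 LD3_c59)) :=
  Lre_e IH (LK LD1_c8 LD2_c20 LD3_c11) (LK LD1_c4 LD2_c9 LD3_c59) Lrfl Lrfl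
theorem f301489 : Led Lsl_gf (LP (LK LD1_c5 LD2_c26 LD3_c28)) = (LP (LK LD1_c8 LD2_c28 LD3_c51)) :=
  Lgr Lrot134 (Lpr_df (f301478 IH) (Lpr_et (f838 IH) (Lpr_gt (K17.f815 IH) (Lpe (K14.f1366 IH) (Lpr_dt (K12.f50142 IH) (Lpr_gt (K9.f51615 IH) (Lpe (K12.f806 IH) (Lpr_et (K18.f809 IH) (Lpr_gt (K18.f236018 IH) (Lpr_dt (f295767 IH) (Lpn (LP (LK LD1_c8 LD2_c28 LD3_c51)))))))))))))
theorem f231623 : Led Lsl_ft (LP (LK LD1_c4 LD2_c14 LD3_c58)) = (LP (LK LD1_c8 LD2_c28 LD3_c51)) :=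
  Lre_f IH (LK LD1_c4 LD2_c14 LD3_c58) (LK LD1_c8 LD2_c28 LD3_c51) Lrfl Lrfl
theorem f295778 : Led Lsl_df (LP (LK LD1_c8 LD2_c16 LD3_c35)) = (LP (LK LD1_c8 LD2_c28 LD3_c51)) :=
  Lgr Lrot78 (Lpr_ft (K18.f295771 IH) (Lpe (K17.f236287 IH) (Lpr_ft (f231623 IH) (Lpn (LP (LK LD1_c8 LD2_c28 LD3_c51))))))
theorem f323204 : Led Lsl_ct (LP (LK LD1_c4 LD2_c9 LD3_c13)) = (LP (LK LD1_c8 LD2_c18 LD3_c23)) :=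
  Lre_c IH (LK LD1_c4 LD2_c9 LD3_c13) (LK LD1_c8 LD2_c18 LD3_c23) Lrfl Lrfl
theorem f328426 : Led Lsl_gt (LP (LK LD1_c8 LD2_c18 LD3_c23)) = (LP (LK LD1_c8 LD2_c30 LD3_c25)) :=
  Lgr Lrot150 (Lpe (f323204 IH) (Lpr_gf (K20.f323210 IH) (Lpr_df (f295778 IH) (Lpe (f301489 IH) (Lpr_ct (f298855 IH) (Lpr_gt (f298864 IH) (Lpe (f263714 IH) (Lpe (f263716 IH) (Lpr_cf (f328410 IH) (Lpn (LP (LK LD1_c8 LD2_c30 LD3_c25))))))))))))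
theorem f328430 : Led Lsl_ft (LP (LK LD1_c8 LD2_c18 LD3_c23)) = (LP (LK LD1_c4 LD2_c9 LD3_c9)) :=
  Lre_f IH (LK LD1_c8 LD2_c18 LD3_c23) (LK LD1_c4 LD2_c9 LD3_c9) Lrfl Lrfl
theorem f236033 : Led Lsl_bf (LP (LK LD1_c4 LD2_c51 LD3_c25)) = (LP (LK LD1_c4 LD2_c8 LD3_c16)) :=
  Lgr Lrot93 (Lpe (K14.f235733 IH) (Lpe (K14.f235797 IH) (Lpr_dt (K19.f236010 IH) (Lpn (LP (LK LD1_c4 LD2_c8 LD3_c16))))))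
theorem f236036 : Led Lsl_ct (LP (LK LD1_c4 LD2_c8 LD3_c16)) = (LP (LK LD1_c8 LD2_c16 LD3_c34)) :=
  Lre_c IH (LK LD1_c4 LD2_c8 LD3_c16) (LK LD1_c8 LD2_c16 LD3_c34) Lrfl Lrfl
theorem f328417 : Led Lsl_gf (LP (LK LD1_c8 LD2_c16 LD3_c34)) = (LP (LK LD1_c8 LD2_c30 LD3_c25)) :=
  Lgr Lrot129 (Lpe (f236036 IH) (Lpe (f236033 IH) (Lpr_gt (K19.f232210 IH) (Lpr_bf (f275325 IH) (Lpr_ct (K19.f275317 IH) (Lpr_gt (K20.f322353 IH) (Lpe (K20.f322293 IH) (Lpe (K20.f295916 IH) (Lpr_gt (K17.f263719 IH) (Lpr_ct (f328405 IH) (Lpn (LP (LK LD1_c8 LD2_c30 LD3_c25)))))))))))))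
theorem f328431 : Led Lsl_at (LP (LK LD1_c4 LD2_c9 LD3_c9)) = (LP (LK LD1_c8 LD2_c16 LD3_c34)) :=
  Lgr Lrot26 (Lpe (f328430 IH) (Lpr_gt (f328426 IH) (Lpe (f328417 IH) (Lpn (LP (LK LD1_c8 LD2_c16 LD3_c34))))))
theorem f234350 : Led Lsl_et (LP (LK LD1_c2 LD2_c1 LD3_c56)) = (LP (LK LD1_c4 LD2_c9 LD3_c9)) :=
  Lre_e IH (LK LD1_c2 LD2_c1 LD3_c56) (LK LD1_c4 LD2_c9 LD3_c9) Lrfl Lrfl
theorem f223067 : Led Lsl_et (LP (LK LD1_c8 LD2_c16 LD3_c34)) = (LP (LK LD1_c4 LD2_c8 LD3_c15)) :=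
  Lre_e IH (LK LD1_c8 LD2_c16 LD3_c34) (LK LD1_c4 LD2_c8 LD3_c15) Lrfl Lrfl
theorem f328451 : Led Lsl_af (LP (LK LD1_c2 LD2_c1 LD3_c56)) = (LP (LK LD1_c4 LD2_c8 LD3_c15)) :=
  Lgr Lrot50 (Lpr_et (f234350 IH) (Lpr_at (f328431 IH) (Lpr_et (f223067 IH) (Lpn (LP (LK LD1_c4 LD2_c8 LD3_c15))))))
theorem f328477 : Led Lsl_ft (LP (LK LD1_c2 LD2_c1 LD3_c43)) = (LP (LK LD1_c4 LD2_c8 LD3_c15)) :=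
  Lgr Lrot2 (Lpr_gt (K14.f220067 IH) (Lpr_gt (K14.f246697 IH) (Lpr_af (f328451 IH) (Lpn (LP (LK LD1_c4 LD2_c8 LD3_c15))))))
theorem f328488 : Led Lsl_ff (LP (LK LD1_c2 LD2_c1 LD3_c43)) = (LP (LK LD1_c4 LD2_c8 LD3_c15)) :=
  Lgr Lrot3 (Lpr_ft (f328477 IH) (Lpn (LP (LK LD1_c4 LD2_c8 LD3_c15))))
theorem f328500 : Led Lsl_at (LP (LK LD1_c2 LD2_c1 LD3_c43)) = (LP (LK LD1_c4 LD2_c8 LD3_c13)) :=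
  Lgr Lrot26 (Lpr_ff (f328488 IH) (Lpe (K14.f234675 IH) (Lpe (K14.f213769 IH) (Lpn (LP (LK LD1_c4 LD2_c8 LD3_c13))))))
theorem f328468 : Led Lsl_at (LP (LK LD1_c2 LD2_c1 LD3_c56)) = (LP (LK LD1_c4 LD2_c8 LD3_c15)) :=
  Lgr Lrot100 (Lpr_af (f328451 IH) (Lpn (LP (LK LD1_c4 LD2_c8 LD3_c15))))
theorem f328514 : Led Lsl_ff (LP (LK LD1_c2 LD2_c1 LD3_c56)) = (LP (LK LD1_c4 LD2_c8 LD3_c13)) :=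
  Lgr Lrot30 (Lpr_at (f328468 IH) (Lpe (f328488 IH) (Lpr_at (f328500 IH) (Lpn (LP (LK LD1_c4 LD2_c8 LD3_c13))))))
theorem f328526 : Led Lsl_ft (LP (LK LD1_c2 LD2_c1 LD3_c56)) = (LP (LK LD1_c4 LD2_c8 LD3_c13)) :=
  Lgr Lrot48 (Lpr_ff (f328514 IH) (Lpn (LP (LK LD1_c4 LD2_c8 LD3_c13))))
theorem f258627 : Led Lsl_et (LP (LK LD1_c4 LD2_c9 LD3_c9)) = (LP (LK LD1_c2 LD2_c1 LD3_c56)) :=
  Lre_e IH (LK LD1_c4 LD2_c9 LD3_c9) (LK LD1_c2 LD2_c1 LD3_c56) Lrfl Lrfl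
theorem f222128 : Led Lsl_et (LP (LK LD1_c4 LD2_c8 LD3_c13)) = (LP (LK LD1_c8 LD2_c16 LD3_c29)) :=
  Lre_e IH (LK LD1_c4 LD2_c8 LD3_c13) (LK LD1_c8 LD2_c16 LD3_c29) Lrfl Lrfl
theorem f328535 : Led Lsl_ft (LP (LK LD1_c8 LD2_c16 LD3_c29)) = (LP (LK LD1_c15 LD2_c33 LD3_c33)) :=
  Lre_f IH (LK LD1_c8 LD2_c16 LD3_c29) (LK LD1_c15 LD2_c33 LD3_c33) Lrfl Lrfl
theorem f328536 : Led Lsl_ef (LP (LK LD1_c8 LD2_c18 LD3_c23)) = (LP (LK LD1_c15 LD2_c33 LD3_c33)) :=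
  Lgr Lrot21 (Lpr_ft (f328430 IH) (Lpr_et (f258627 IH) (Lpr_ft (f328526 IH) (Lpr_et (f222128 IH) (Lpr_ft (f328535 IH) (Lpn (LP (LK LD1_c15 LD2_c33 LD3_c33))))))))
theorem f47629 : Led Lsl_ct (LP (LK LD1_c8 LD2_c16 LD3_c31)) = (LP (LK LD1_c15 LD2_c33 LD3_c33)) :=
  Lre_c IH (LK LD1_c8 LD2_c16 LD3_c31) (LK LD1_c15 LD2_c33 LD3_c33) Lrfl Lrfl
theorem f328540 : Led Lsl_et (LP (LK LD1_c4 LD2_c9 LD3_c13)) = (LP (LK LD1_c8 LD2_c16 LD3_c31)) :=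
  Lgr Lrot158 (Lpe (K20.f323179 IH) (Lpr_ef (f328536 IH) (Lpe (f47629 IH) (Lpn (LP (LK LD1_c8 LD2_c16 LD3_c31))))))
theorem f328546 : Led Lsl_ef (LP (LK LD1_c4 LD2_c9 LD3_c13)) = (LP (LK LD1_c8 LD2_c16 LD3_c31)) :=
  Lgr Lrot88 (Lpr_et (f328540 IH) (Lpn (LP (LK LD1_c8 LD2_c16 LD3_c31))))
theorem f328551 : Led Lsl_et (LP (LK LD1_c10 LD2_c19 LD3_c39)) = (LP (LK LD1_c5 LD2_c15 LD3_c59)) :=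
  Lgr Lrot71 (Lpe (K20.f317733 IH) (Lpe (f324330 IH) (Lpe (K20.f323178 IH) (Lpr_ef (f328546 IH) (Lpe (K12.f47617 IH) (Lpn (LP (LK LD1_c5 LD2_c15 LD3_c59))))))))
theorem f214820 : Led Lsl_ct (LP (LK LD1_c18 LD2_c44 LD3_c56)) = (LP (LK LD1_c10 LD2_c19 LD3_c39)) :=
  Lre_c IH (LK LD1_c18 LD2_c44 LD3_c56) (LK LD1_c10 LD2_c19 LD3_c39) Lrfl Lrfl
theorem f47612 : Led Lsl_ct (LP (LK LD1_c5 LD2_c15 LD3_c59)) = (LP (LK LD1_c10 LD2_c21 LD3_c18)) :=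
  Lre_c IH (LK LD1_c5 LD2_c15 LD3_c59) (LK LD1_c10 LD2_c21 LD3_c18) Lrfl Lrfl
theorem f328559 : Led Lsl_ef (LP (LK LD1_c18 LD2_c44 LD3_c56)) = (LP (LK LD1_c10 LD2_c21 LD3_c18)) :=
  Lgr Lrot28 (Lpr_ct (f214820 IH) (Lpr_et (f328551 IH) (Lpr_ct (f47612 IH) (Lpn (LP (LK LD1_c10 LD2_c21 LD3_c18))))))
theorem f328566 : Led Lsl_ft (LP (LK LD1_c18 LD2_c44 LD3_c56)) = (LP (LK LD1_c10 LD2_c19 LD3_c37)) :=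
  Lre_f IH (LK LD1_c18 LD2_c44 LD3_c56) (LK LD1_c10 LD2_c19 LD3_c37) Lrfl Lrfl
theorem f214839 : Led Lsl_et (LP (LK LD1_c10 LD2_c19 LD3_c37)) = (LP (LK LD1_c5 LD2_c15 LD3_c4)) :=
  Lre_e IH (LK LD1_c10 LD2_c19 LD3_c37) (LK LD1_c5 LD2_c15 LD3_c4) Lrfl Lrfl
theorem f328567 : Led Lsl_ft (LP (LK LD1_c5 LD2_c15 LD3_c56)) = (LP (LK LD1_c10 LD2_c21 LD3_c18)) :=
  Lre_f IH (LK LD1_c5 LD2_c15 LD3_c56) (LK LD1_c10 LD2_c21 LD3_c18) Lrfl Lrfl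
theorem f257391 : Led Lsl_et (LP (LK LD1_c2 LD2_c34 LD3_c47)) = (LP (LK LD1_c5 LD2_c15 LD3_c56)) :=
  Lre_e IH (LK LD1_c2 LD2_c34 LD3_c47) (LK LD1_c5 LD2_c15 LD3_c56) Lrfl Lrfl
theorem f328568 : Led Lsl_ft (LP (LK LD1_c5 LD2_c15 LD3_c4)) = (LP (LK LD1_c2 LD2_c34 LD3_c47)) :=
  Lgr Lrot86 (Lpe (f214839 IH) (Lpe (f328566 IH) (Lpr_ef (f328559 IH) (Lpe (f328567 IH) (Lpe (f257391 IH) (Lpn (LP (LK LD1_c2 LD2_c34 LD3_c47))))))))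
theorem f328576 : Led Lsl_af (LP (LK LD1_c4 LD2_c8 LD3_c51)) = (LP (LK LD1_c2 LD2_c34 LD3_c47)) :=
  Lgr Lrot31 (Lpe (K12.f229039 IH) (Lpr_gf (K14.f252515 IH) (Lpr_ft (f328568 IH) (Lpn (LP (LK LD1_c2 LD2_c34 LD3_c47))))))
theorem f328587 : Led Lsl_et (LP (LK LD1_c4 LD2_c8 LD3_c51)) = (LP (LK LD1_c8 LD2_c17 LD3_c49)) :=
  Lre_e IH (LK LD1_c4 LD2_c8 LD3_c51) (LK LD1_c8 LD2_c17 LD3_c49) Lrfl Lrfl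
theorem f328588 : Led Lsl_at (LP (LK LD1_c8 LD2_c17 LD3_c49)) = (LP (LK LD1_c5 LD2_c15 LD3_c56)) :=
  Lgr Lrot80 (Lpe (f328587 IH) (Lpr_af (f328576 IH) (Lpe (K10.f48943 IH) (Lpn (LP (LK LD1_c5 LD2_c15 LD3_c56))))))
theorem f328595 : Led Lsl_ft (LP (LK LD1_c15 LD2_c36 LD3_c14)) = (LP (LK LD1_c8 LD2_c17 LD3_c49)) :=
  Lre_f IH (LK LD1_c15 LD2_c36 LD3_c14) (LK LD1_c8 LD2_c17 LD3_c49) Lrfl Lrfl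
theorem f328596 : Led Lsl_af (LP (LK LD1_c15 LD2_c36 LD3_c14)) = (LP (LK LD1_c10 LD2_c21 LD3_c18)) :=
  Lgr Lrot45 (Lpr_ft (f328595 IH) (Lpr_at (f328588 IH) (Lpr_ft (f328567 IH) (Lpn (LP (LK LD1_c10 LD2_c21 LD3_c18))))))
theorem f229026 : Led Lsl_ct (LP (LK LD1_c8 LD2_c17 LD3_c50)) = (LP (LK LD1_c15 LD2_c36 LD3_c14)) :=
  Lre_c IH (LK LD1_c8 LD2_c17 LD3_c50) (LK LD1_c15 LD2_c36 LD3_c14) Lrfl Lrfl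
theorem f328608 : Led Lsl_ct (LP (LK LD1_c8 LD2_c17 LD3_c43)) = (LP (LK LD1_c4 LD2_c8 LD3_c50)) :=
  Lre_c IH (LK LD1_c8 LD2_c17 LD3_c43) (LK LD1_c4 LD2_c8 LD3_c50) Lrfl Lrfl
theorem f328609 : Led Lsl_dt (LP (LK LD1_c15 LD2_c36 LD3_c0)) = (LP (LK LD1_c8 LD2_c17 LD3_c43)) :=
  Lre_d IH (LK LD1_c15 LD2_c36 LD3_c0) (LK LD1_c8 LD2_c17 LD3_c43) Lrfl Lrfl
theorem f328610 : Led Lsl_ct (LP (LK LD1_c25 LD2_c30 LD3_c43)) = (LP (LK LD1_c15 LD2_c36 LD3_c0)) :=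
  Lre_c IH (LK LD1_c25 LD2_c30 LD3_c43) (LK LD1_c15 LD2_c36 LD3_c0) Lrfl Lrfl
theorem f47662 : Led Lsl_ct (LP (LK LD1_c10 LD2_c21 LD3_c17)) = (LP (LK LD1_c18 LD2_c47 LD3_c35)) :=
  Lre_c IH (LK LD1_c10 LD2_c21 LD3_c17) (LK LD1_c18 LD2_c47 LD3_c35) Lrfl Lrfl
theorem f328611 : Led Lsl_df (LP (LK LD1_c25 LD2_c30 LD3_c43)) = (LP (LK LD1_c18 LD2_c47 LD3_c35)) :=
  Lgr Lrot106 (Lpr_ct (f328610 IH) (Lpr_dt (f328609 IH) (Lpr_ct (f328608 IH) (Lpr_dt (K12.f229018 IH) (Lpr_ct (f229026 IH) (Lpr_af (f328596 IH) (Lpe (f328567 IH) (Lpr_dt (K10.f47661 IH) (Lpr_ct (f47662 IH) (Lpn (LP (LK LD1_c18 LD2_c47 LD3_c35))))))))))))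
theorem f328622 : Led Lsl_af (LP (LK LD1_c4 LD2_c8 LD3_c50)) = (LP (LK LD1_c8 LD2_c16 LD3_c31)) :=
  Lgr Lrot109 (Lpe (f328608 IH) (Lpe (f328609 IH) (Lpe (f328610 IH) (Lpr_df (f328611 IH) (Lpe (f47662 IH) (Lpe (K10.f47661 IH) (Lpe (K10.f47660 IH) (Lpr_df (K10.f47587 IH) (Lpr_ft (K12.f47590 IH) (Lpn (LP (LK LD1_c8 LD2_c16 LD3_c31))))))))))))
theorem f328631 : Led Lsl_ft (LP (LK LD1_c4 LD2_c8 LD3_c50)) = (LP (LK LD1_c2 LD2_c1 LD3_c44)) :=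
  Lre_f IH (LK LD1_c4 LD2_c8 LD3_c50) (LK LD1_c2 LD2_c1 LD3_c44) Lrfl Lrfl
theorem f328632 : Led Lsl_at (LP (LK LD1_c2 LD2_c1 LD3_c44)) = (LP (LK LD1_c4 LD2_c8 LD3_c14)) :=
  Lgr Lrot66 (Lpe (f328631 IH) (Lpr_af (f328622 IH) (Lpe (K12.f47590 IH) (Lpn (LP (LK LD1_c4 LD2_c8 LD3_c14))))))
theorem f328636 : Led Lsl_gt (LP (LK LD1_c4 LD2_c8 LD3_c50)) = (LP (LK LD1_c8 LD2_c16 LD3_c30)) :=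
  Lgr Lrot5 (Lpr_ft (f328631 IH) (Lpr_at (f328632 IH) (Lpe (K10.f47607 IH) (Lpn (LP (LK LD1_c8 LD2_c16 LD3_c30))))))
theorem f273564 : Led Lsl_gf (LP (LK LD1_c8 LD2_c31 LD3_c50)) = (LP (LK LD1_c5 LD2_c17 LD3_c36)) :=
  Lgr Lrot76 (Lpr_af (K16.f273533 IH) (Lpe (K15.f49047 IH) (Lpr_gt (K10.f48299 IH) (Lpn (LP (LK LD1_c5 LD2_c17 LD3_c36))))))
theorem f220054 : Led Lsl_et (LP (LK LD1_c2 LD2_c1 LD3_c57)) = (LP (LK LD1_c0 LD2_c57 LD3_c57)) :=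
  Lre_e IH (LK LD1_c2 LD2_c1 LD3_c57) (LK LD1_c0 LD2_c57 LD3_c57) Lrfl Lrfl
theorem f220055 : Led Lsl_dt (LP (LK LD1_c2 LD2_c1 LD3_c57)) = (LP (LK LD1_c4 LD2_c9 LD3_c12)) :=
  Lre_d IH (LK LD1_c2 LD2_c1 LD3_c57) (LK LD1_c4 LD2_c9 LD3_c12) Lrfl Lrfl
theorem f260430 : Led Lsl_gt (LP (LK LD1_c4 LD2_c16 LD3_c9)) = (LP (LK LD1_c2 LD2_c5 LD3_c27)) :=
  Lre_g IH (LK LD1_c4 LD2_c16 LD3_c9) (LK LD1_c2 LD2_c5 LD3_c27) Lrfl Lrfl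
theorem f301436 : Led Lsl_et (LP (LK LD1_c8 LD2_c31 LD3_c28)) = (LP (LK LD1_c4 LD2_c16 LD3_c9)) :=
  Lre_e IH (LK LD1_c8 LD2_c31 LD3_c28) (LK LD1_c4 LD2_c16 LD3_c9) Lrfl Lrfl
theorem f301437 : Led Lsl_df (LP (LK LD1_c8 LD2_c18 LD3_c26)) = (LP (LK LD1_c8 LD2_c31 LD3_c28)) :=
  Lgr Lrot168 (Lpe (f246260 IH) (Lpe (f220055 IH) (Lpr_et (f220054 IH) (Lpr_gf (K15.f260641 IH) (Lpe (K17.f260649 IH) (Lpr_dt (K18.f301425 IH) (Lpe (K18.f301434 IH) (Lpe (K16.f608 IH) (Lpe (f260430 IH) (Lpe (f301436 IH) (Lpn (LP (LK LD1_c8 LD2_c31 LD3_c28)))))))))))))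
theorem f301440 : Led Lsl_dt (LP (LK LD1_c8 LD2_c18 LD3_c26)) = (LP (LK LD1_c8 LD2_c31 LD3_c28)) :=
  Lgr Lrot42 (Lpr_df (f301437 IH) (Lpn (LP (LK LD1_c8 LD2_c31 LD3_c28))))
theorem f301444 : Led Lsl_dt (LP (LK LD1_c4 LD2_c16 LD3_c9)) = (LP (LK LD1_c8 LD2_c31 LD3_c27)) :=
  Lre_d IH (LK LD1_c4 LD2_c16 LD3_c9) (LK LD1_c8 LD2_c31 LD3_c27) Lrfl Lrfl
theorem f323965 : Led Lsl_dt (LP (LK LD1_c4 LD2_c30 LD3_c49)) = (LP (LK LD1_c8 LD2_c59 LD3_c54)) :=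
  Lre_d IH (LK LD1_c4 LD2_c30 LD3_c49) (LK LD1_c8 LD2_c59 LD3_c54) Lrfl Lrfl
theorem f323973 : Led Lsl_et (LP (LK LD1_c8 LD2_c31 LD3_c27)) = (LP (LK LD1_c4 LD2_c30 LD3_c49)) :=
  Lgr Lrot71 (Lpe (f301444 IH) (Lpe (f301436 IH) (Lpe (f301440 IH) (Lpr_ef (f323967 IH) (Lpe (f323965 IH) (Lpn (LP (LK LD1_c4 LD2_c30 LD3_c49))))))))
theorem f260431 : Led Lsl_dt (LP (LK LD1_c8 LD2_c31 LD3_c27)) = (LP (LK LD1_c4 LD2_c16 LD3_c9)) :=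
  Lre_d IH (LK LD1_c8 LD2_c31 LD3_c27) (LK LD1_c4 LD2_c16 LD3_c9) Lrfl Lrfl
theorem f301516 : Led Lsl_df (LP (LK LD1_c8 LD2_c29 LD3_c52)) = (LP (LK LD1_c8 LD2_c30 LD3_c56)) :=
  Lgr Lrot18 (Lpr_at (K16.f270510 IH) (Lpe (K16.f273444 IH) (Lpr_at (K18.f301466 IH) (Lpn (LP (LK LD1_c8 LD2_c30 LD3_c56))))))
theorem f324007 : Led Lsl_gf (LP (LK LD1_c4 LD2_c16 LD3_c9)) = (LP (LK LD1_c8 LD2_c29 LD3_c52)) :=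
  Lgr Lrot134 (Lpe (f260431 IH) (Lpr_et (f323973 IH) (Lpe (f323959 IH) (Lpe (K18.f278103 IH) (Lpr_dt (K18.f278088 IH) (Lpr_gt (K18.f278107 IH) (Lpe (K14.f220729 IH) (Lpr_et (K17.f243599 IH) (Lpr_gt (K18.f300965 IH) (Lpe (f301516 IH) (Lpn (LP (LK LD1_c8 LD2_c29 LD3_c52)))))))))))))
theorem f236025 : Led Lsl_df (LP (LK LD1_c5 LD2_c27 LD3_c42)) = (LP (LK LD1_c8 LD2_c16 LD3_c36)) :=
  Lgr Lrot38 (Lpr_dt (f236013 IH) (Lpn (LP (LK LD1_c8 LD2_c16 LD3_c36))))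
theorem f328640 : Led Lsl_ef (LP (LK LD1_c4 LD2_c8 LD3_c50)) = (LP (LK LD1_c8 LD2_c16 LD3_c36)) :=
  Lgr Lrot167 (Lpr_gt (f328636 IH) (Lpr_dt (f48314 IH) (Lpe (f273564 IH) (Lpe (K16.f254548 IH) (Lpr_et (f271414 IH) (Lpe (f324007 IH) (Lpe (f301436 IH) (Lpe (f301437 IH) (Lpe (f324249 IH) (Lpr_df (f236025 IH) (Lpn (LP (LK LD1_c8 LD2_c16 LD3_c36)))))))))))))
theorem f229009 : Led Lsl_bt (LP (LK LD1_c4 LD2_c8 LD3_c50)) = (LP (LK LD1_c8 LD2_c17 LD3_c7)) :=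
  Lre_b IH (LK LD1_c4 LD2_c8 LD3_c50) (LK LD1_c8 LD2_c17 LD3_c7) Lrfl Lrfl
theorem f235735 : Led Lsl_ft (LP (LK LD1_c4 LD2_c51 LD3_c25)) = (LP (LK LD1_c9 LD2_c34 LD3_c54)) :=
  Lre_f IH (LK LD1_c4 LD2_c51 LD3_c25) (LK LD1_c9 LD2_c34 LD3_c54) Lrfl Lrfl
theorem f236047 : Led Lsl_bt (LP (LK LD1_c9 LD2_c34 LD3_c54)) = (LP (LK LD1_c8 LD2_c16 LD3_c36)) :=
  Lgr Lrot35 (Lpe (f235735 IH) (Lpr_bf (f236033 IH) (Lpe (f236012 IH) (Lpn (LP (LK LD1_c8 LD2_c16 LD3_c36))))))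
theorem f328642 : Led Lsl_et (LP (LK LD1_c8 LD2_c17 LD3_c7)) = (LP (LK LD1_c9 LD2_c34 LD3_c54)) :=
  Lgr Lrot74 (Lpe (f229009 IH) (Lpr_ef (f328640 IH) (Lpe (f236047 IH) (Lpn (LP (LK LD1_c9 LD2_c34 LD3_c54))))))
theorem f328648 : Led Lsl_ef (LP (LK LD1_c8 LD2_c17 LD3_c7)) = (LP (LK LD1_c9 LD2_c34 LD3_c54)) :=
  Lgr Lrot88 (Lpr_et (f328642 IH) (Lpn (LP (LK LD1_c9 LD2_c34 LD3_c54))))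
theorem f171687 : Led Lsl_et (LP (LK LD1_c10 LD2_c15 LD3_c61)) = (LP (LK LD1_c5 LD2_c12 LD3_c47)) :=
  Lre_e IH (LK LD1_c10 LD2_c15 LD3_c61) (LK LD1_c5 LD2_c12 LD3_c47) Lrfl Lrfl
theorem f328646 : Led Lsl_df (LP (LK LD1_c10 LD2_c15 LD3_c61)) = (LP (LK LD1_c9 LD2_c34 LD3_c54)) :=
  Lgr Lrot70 (Lpr_et (f171687 IH) (Lpr_dt (K20.f171688 IH) (Lpr_et (K20.f320807 IH) (Lpe (K12.f229014 IH) (Lpr_et (f328642 IH) (Lpn (LP (LK LD1_c9 LD2_c34 LD3_c54))))))))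
theorem f328654 : Led Lsl_gt (LP (LK LD1_c16 LD2_c14 LD3_c25)) = (LP (LK LD1_c10 LD2_c15 LD3_c61)) :=
  Lgr Lrot112 (Lpr_df (K19.f255634 IH) (Lpr_et (K19.f227240 IH) (Lpr_gf (K17.f275737 IH) (Lpe (K16.f269865 IH) (Lpe (K18.f216759 IH) (Lpr_gf (f275918 IH) (Lpr_df (f325920 IH) (Lpr_gf (f327502 IH) (Lpr_ef (f328648 IH) (Lpe (f328646 IH) (Lpn (LP (LK LD1_c10 LD2_c15 LD3_c61)))))))))))))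
theorem f227241 : Led Lsl_et (LP (LK LD1_c8 LD2_c39 LD3_c43)) = (LP (LK LD1_c8 LD2_c41 LD3_c21)) :=
  Lgr Lrot87 (Lpr_ef (K17.f227236 IH) (Lpn (LP (LK LD1_c8 LD2_c41 LD3_c21))))
theorem f31241 : Led Lsl_dt (LP (LK LD1_c16 LD2_c13 LD3_c23)) = (LP (LK LD1_c8 LD2_c39 LD3_c43)) :=
  Lre_d IH (LK LD1_c16 LD2_c13 LD3_c23) (LK LD1_c8 LD2_c39 LD3_c43) Lrfl Lrfl
theorem f255639 : Led Lsl_et (LP (LK LD1_c16 LD2_c14 LD3_c25)) = (LP (LK LD1_c16 LD2_c13 LD3_c23)) :=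
  Lgr Lrot71 (Lpr_df (K19.f255634 IH) (Lpe (K19.f227244 IH) (Lpe (K17.f227235 IH) (Lpe (f227241 IH) (Lpe (f31241 IH) (Lpn (LP (LK LD1_c16 LD2_c13 LD3_c23))))))))
theorem f255649 : Led Lsl_ef (LP (LK LD1_c16 LD2_c14 LD3_c25)) = (LP (LK LD1_c16 LD2_c13 LD3_c23)) :=
  Lgr Lrot88 (Lpr_et (f255639 IH) (Lpn (LP (LK LD1_c16 LD2_c13 LD3_c23))))
theorem f31417 : Led Lsl_et (LP (LK LD1_c4 LD2_c20 LD3_c47)) = (LP (LK LD1_c2 LD2_c7 LD3_c52)) :=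
  Lre_e IH (LK LD1_c4 LD2_c20 LD3_c47) (LK LD1_c2 LD2_c7 LD3_c52) Lrfl Lrfl
theorem f320784 : Led Lsl_et (LP (LK LD1_c5 LD2_c12 LD3_c47)) = (LP (LK LD1_c10 LD2_c15 LD3_c61)) :=
  Lre_e IH (LK LD1_c5 LD2_c12 LD3_c47) (LK LD1_c10 LD2_c15 LD3_c61) Lrfl Lrfl
theorem f328652 : Led Lsl_dt (LP (LK LD1_c10 LD2_c15 LD3_c61)) = (LP (LK LD1_c9 LD2_c34 LD3_c54)) :=
  Lgr Lrot77 (Lpe (f320784 IH) (Lpe (K20.f196121 IH) (Lpr_ef (K20.f320805 IH) (Lpe (K12.f228985 IH) (Lpr_ef (f328648 IH) (Lpn (LP (LK LD1_c9 LD2_c34 LD3_c54))))))))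
theorem f328658 : Led Lsl_gf (LP (LK LD1_c7 LD2_c55 LD3_c32)) = (LP (LK LD1_c9 LD2_c34 LD3_c54)) :=
  Lgr Lrot134 (Lpe (K19.f275289 IH) (Lpr_et (f31417 IH) (Lpr_gt (K13.f31414 IH) (Lpe (K10.f31209 IH) (Lpe (K17.f31221 IH) (Lpr_gt (K17.f31235 IH) (Lpe (f31241 IH) (Lpe (f255649 IH) (Lpr_gt (f328654 IH) (Lpr_dt (f328652 IH) (Lpn (LP (LK LD1_c9 LD2_c34 LD3_c54)))))))))))))
theorem f253556 : Led Lsl_gf (LP (LK LD1_c1 LD2_c57 LD3_c30)) = (LP (LK LD1_c2 LD2_c7 LD3_c3)) :=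
  Lgr Lrot126 (Lpe (K12.f192849 IH) (Lpr_bt (K13.f193087 IH) (Lpe (K17.f237320 IH) (Lpr_ct (K11.f201065 IH) (Lpr_gt (K12.f201237 IH) (Lpr_cf (K14.f227221 IH) (Lpe (K14.f211565 IH) (Lpr_gt (K14.f253548 IH) (Lpe (K14.f253554 IH) (Lpr_ct (K14.f253555 IH) (Lpn (LP (LK LD1_c2 LD2_c7 LD3_c3)))))))))))))
theorem f216787 : Led Lsl_gt (LP (LK LD1_c2 LD2_c8 LD3_c28)) = (LP (LK LD1_c4 LD2_c21 LD3_c59)) :=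
  Lre_g IH (LK LD1_c2 LD2_c8 LD3_c28) (LK LD1_c4 LD2_c21 LD3_c59) Lrfl Lrfl
theorem f216801 : Led Lsl_dt (LP (LK LD1_c4 LD2_c21 LD3_c59)) = (LP (LK LD1_c8 LD2_c41 LD3_c41)) :=
  Lre_d IH (LK LD1_c4 LD2_c21 LD3_c59) (LK LD1_c8 LD2_c41 LD3_c41) Lrfl Lrfl
theorem f328664 : Led Lsl_gt (LP (LK LD1_c8 LD2_c41 LD3_c41)) = (LP (LK LD1_c10 LD2_c29 LD3_c19)) :=
  Lgr Lrot139 (Lpe (f216801 IH) (Lpe (f216787 IH) (Lpe (K16.f216778 IH) (Lpe (K12.f216737 IH) (Lpr_gf (f253556 IH) (Lpe (K19.f255101 IH) (Lpr_et (K19.f236920 IH) (Lpr_gf (f328658 IH) (Lpe (f328642 IH) (Lpr_dt (K12.f228985 IH) (Lpn (LP (LK LD1_c10 LD2_c29 LD3_c19)))))))))))))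
theorem f328668 : Led Lsl_et (LP (LK LD1_c4 LD2_c21 LD3_c59)) = (LP (LK LD1_c8 LD2_c41 LD3_c42)) :=
  Lre_e IH (LK LD1_c4 LD2_c21 LD3_c59) (LK LD1_c8 LD2_c41 LD3_c42) Lrfl Lrfl
theorem f231443 : Led Lsl_gt (LP (LK LD1_c4 LD2_c20 LD3_c47)) = (LP (LK LD1_c8 LD2_c39 LD3_c12)) :=
  Lre_g IH (LK LD1_c4 LD2_c20 LD3_c47) (LK LD1_c8 LD2_c39 LD3_c12) Lrfl Lrfl
theorem f305476 : Led Lsl_dt (LP (LK LD1_c16 LD2_c12 LD3_c28)) = (LP (LK LD1_c8 LD2_c39 LD3_c12)) :=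
  Lre_d IH (LK LD1_c16 LD2_c12 LD3_c28) (LK LD1_c8 LD2_c39 LD3_c12) Lrfl Lrfl
theorem f237063 : Led Lsl_et (LP (LK LD1_c8 LD2_c5 LD3_c51)) = (LP (LK LD1_c15 LD2_c14 LD3_c43)) :=
  Lre_e IH (LK LD1_c8 LD2_c5 LD3_c51) (LK LD1_c15 LD2_c14 LD3_c43) Lrfl Lrfl
theorem f184822 : Led Lsl_et (LP (LK LD1_c16 LD2_c14 LD3_c32)) = (LP (LK LD1_c8 LD2_c40 LD3_c23)) :=
  Lre_e IH (LK LD1_c16 LD2_c14 LD3_c32) (LK LD1_c8 LD2_c40 LD3_c23) Lrfl Lrfl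
theorem f311298 : Led Lsl_df (LP (LK LD1_c10 LD2_c37 LD3_c22)) = (LP (LK LD1_c16 LD2_c14 LD3_c32)) :=
  Lgr Lrot170 (Lpr_gt (K19.f235736 IH) (Lpr_df (K14.f235733 IH) (Lpr_et (K14.f235678 IH) (Lpe (K14.f251867 IH) (Lpr_dt (K18.f290170 IH) (Lpr_gt (f311296 IH) (Lpr_df (K13.f184772 IH) (Lpr_et (f184776 IH) (Lpr_gt (f184793 IH) (Lpe (f184822 IH) (Lpn (LP (LK LD1_c16 LD2_c14 LD3_c32)))))))))))))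
theorem f311300 : Led Lsl_dt (LP (LK LD1_c10 LD2_c37 LD3_c22)) = (LP (LK LD1_c16 LD2_c14 LD3_c32)) :=
  Lgr Lrot42 (Lpr_df (f311298 IH) (Lpn (LP (LK LD1_c16 LD2_c14 LD3_c32))))
theorem f323803 : Led Lsl_et (LP (LK LD1_c10 LD2_c0 LD3_c53)) = (LP (LK LD1_c10 LD2_c37 LD3_c22)) :=
  Lgr Lrot71 (Lpe (f237059 IH) (Lpe (f237063 IH) (Lpr_df (f323799 IH) (Lpe (f184822 IH) (Lpe (f311300 IH) (Lpn (LP (LK LD1_c10 LD2_c37 LD3_c22))))))))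
theorem f323809 : Led Lsl_ef (LP (LK LD1_c10 LD2_c0 LD3_c53)) = (LP (LK LD1_c10 LD2_c37 LD3_c22)) :=
  Lgr Lrot88 (Lpr_et (f323803 IH) (Lpn (LP (LK LD1_c10 LD2_c37 LD3_c22))))
theorem f231444 : Led Lsl_dt (LP (LK LD1_c8 LD2_c39 LD3_c12)) = (LP (LK LD1_c16 LD2_c12 LD3_c28)) :=
  Lre_d IH (LK LD1_c8 LD2_c39 LD3_c12) (LK LD1_c16 LD2_c12 LD3_c28) Lrfl Lrfl
theorem f323813 : Led Lsl_gt (LP (LK LD1_c16 LD2_c12 LD3_c28)) = (LP (LK LD1_c16 LD2_c14 LD3_c32)) :=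
  Lgr Lrot139 (Lpe (f231444 IH) (Lpe (f231443 IH) (Lpe (K15.f231421 IH) (Lpr_dt (K19.f254291 IH) (Lpr_gf (K16.f255144 IH) (Lpe (K10.f192597 IH) (Lpr_et (K15.f192599 IH) (Lpe (f192614 IH) (Lpr_ef (f323809 IH) (Lpr_dt (f311300 IH) (Lpn (LP (LK LD1_c16 LD2_c14 LD3_c32)))))))))))))
theorem f323820 : Led Lsl_ef (LP (LK LD1_c16 LD2_c12 LD3_c28)) = (LP (LK LD1_c15 LD2_c16 LD3_c45)) :=
  Lgr Lrot167 (Lpr_gt (f323813 IH) (Lpe (f311298 IH) (Lpr_gt (K19.f235736 IH) (Lpr_df (K14.f235733 IH) (Lpr_et (K14.f235678 IH) (Lpe (K14.f251867 IH) (Lpe (K18.f299264 IH) (Lpr_dt (K18.f299252 IH) (Lpr_gt (f259092 IH) (Lpe (f299266 IH) (Lpn (LP (LK LD1_c15 LD2_c16 LD3_c45)))))))))))))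
theorem f323824 : Led Lsl_et (LP (LK LD1_c16 LD2_c12 LD3_c28)) = (LP (LK LD1_c15 LD2_c16 LD3_c45)) :=
  Lgr Lrot87 (Lpr_ef (f323820 IH) (Lpn (LP (LK LD1_c15 LD2_c16 LD3_c45))))
theorem f328669 : Led Lsl_gf (LP (LK LD1_c8 LD2_c41 LD3_c42)) = (LP (LK LD1_c15 LD2_c16 LD3_c45)) :=
  Lgr Lrot141 (Lpe (f328668 IH) (Lpr_dt (f216801 IH) (Lpr_gt (f328664 IH) (Lpe (K12.f228985 IH) (Lpr_et (f328642 IH) (Lpe (f328658 IH) (Lpe (K19.f305468 IH) (Lpr_gt (f231443 IH) (Lpe (f305476 IH) (Lpr_et (f323824 IH) (Lpn (LP (LK LD1_c15 LD2_c16 LD3_c45)))))))))))))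
theorem f328675 : Led Lsl_ct (LP (LK LD1_c8 LD2_c41 LD3_c42)) = (LP (LK LD1_c16 LD2_c17 LD3_c2)) :=
  Lre_c IH (LK LD1_c8 LD2_c41 LD3_c42) (LK LD1_c16 LD2_c17 LD3_c2) Lrfl Lrfl
theorem f308990 : Led Lsl_gf (LP (LK LD1_c29 LD2_c16 LD3_c8)) = (LP (LK LD1_c25 LD2_c8 LD3_c30)) :=
  Lgr Lrot47 (Lpr_gt (K20.f308988 IH) (Lpr_af (K19.f299113 IH) (Lpe (K19.f299121 IH) (Lpn (LP (LK LD1_c25 LD2_c8 LD3_c30))))))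
theorem f328181 : Led Lsl_gf (LP (LK LD1_c8 LD2_c41 LD3_c5)) = (LP (LK LD1_c8 LD2_c6 LD3_c52)) :=
  Lgr Lrot104 (Lpr_ct (K17.f28863 IH) (Lpr_df (K18.f299179 IH) (Lpe (K20.f227070 IH) (Lpr_gf (f308990 IH) (Lpe (K15.f28901 IH) (Lpr_gf (K18.f296542 IH) (Lpe (K18.f50960 IH) (Lpr_gt (f328173 IH) (Lpr_ct (f328108 IH) (Lpn (LP (LK LD1_c8 LD2_c6 LD3_c52))))))))))))
theorem f279798 : Led Lsl_ct (LP (LK LD1_c17 LD2_c41 LD3_c43)) = (LP (LK LD1_c9 LD2_c36 LD3_c29)) :=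
  Lre_c IH (LK LD1_c17 LD2_c41 LD3_c43) (LK LD1_c9 LD2_c36 LD3_c29) Lrfl Lrfl
theorem f328676 : Led Lsl_gt (LP (LK LD1_c16 LD2_c17 LD3_c2)) = (LP (LK LD1_c17 LD2_c41 LD3_c43)) :=
  Lgr Lrot150 (Lpe (f328675 IH) (Lpr_gf (f328669 IH) (Lpe (f259093 IH) (Lpe (f328181 IH) (Lpr_ct (K17.f28863 IH) (Lpr_gt (K18.f299177 IH) (Lpe (K18.f227033 IH) (Lpr_df (f315399 IH) (Lpe (f279798 IH) (Lpn (LP (LK LD1_c17 LD2_c41 LD3_c43))))))))))))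
theorem f328681 : Led Lsl_et (LP (LK LD1_c8 LD2_c41 LD3_c40)) = (LP (LK LD1_c16 LD2_c17 LD3_c2)) :=
  Lre_e IH (LK LD1_c8 LD2_c41 LD3_c40) (LK LD1_c16 LD2_c17 LD3_c2) Lrfl Lrfl
theorem f328682 : Led Lsl_dt (LP (LK LD1_c8 LD2_c41 LD3_c40)) = (LP (LK LD1_c16 LD2_c17 LD3_c1)) :=
  Lre_d IH (LK LD1_c8 LD2_c41 LD3_c40) (LK LD1_c16 LD2_c17 LD3_c1) Lrfl Lrfl
theorem f299277 : Led Lsl_et (LP (LK LD1_c8 LD2_c41 LD3_c7)) = (LP (LK LD1_c8 LD2_c32 LD3_c57)) :=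
  Lgr Lrot158 (Lpe (K18.f28905 IH) (Lpr_ef (K18.f299273 IH) (Lpe (K14.f251815 IH) (Lpn (LP (LK LD1_c8 LD2_c32 LD3_c57))))))
theorem f238065 : Led Lsl_et (LP (LK LD1_c9 LD2_c33 LD3_c47)) = (LP (LK LD1_c4 LD2_c50 LD3_c49)) :=
  Lre_e IH (LK LD1_c9 LD2_c33 LD3_c47) (LK LD1_c4 LD2_c50 LD3_c49) Lrfl Lrfl
theorem f238066 : Led Lsl_dt (LP (LK LD1_c9 LD2_c33 LD3_c47)) = (LP (LK LD1_c17 LD2_c36 LD3_c33)) :=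
  Lre_d IH (LK LD1_c9 LD2_c33 LD3_c47) (LK LD1_c17 LD2_c36 LD3_c33) Lrfl Lrfl
theorem f328683 : Led Lsl_gf (LP (LK LD1_c16 LD2_c17 LD3_c1)) = (LP (LK LD1_c17 LD2_c36 LD3_c33)) :=
  Lgr Lrot145 (Lpe (f328682 IH) (Lpr_et (f328681 IH) (Lpr_gt (f328676 IH) (Lpe (f279790 IH) (Lpr_gt (f309026 IH) (Lpe (K20.f238795 IH) (Lpr_et (f299277 IH) (Lpr_gt (K14.f251826 IH) (Lpe (f238065 IH) (Lpr_dt (f238066 IH) (Lpn (LP (LK LD1_c17 LD2_c36 LD3_c33)))))))))))))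
theorem f328685 : Led Lsl_dt (LP (LK LD1_c16 LD2_c17 LD3_c1)) = (LP (LK LD1_c8 LD2_c41 LD3_c40)) :=
  Lre_d IH (LK LD1_c16 LD2_c17 LD3_c1) (LK LD1_c8 LD2_c41 LD3_c40) Lrfl Lrfl
theorem f328686 : Led Lsl_ct (LP (LK LD1_c8 LD2_c41 LD3_c40)) = (LP (LK LD1_c4 LD2_c21 LD3_c59)) :=
  Lre_c IH (LK LD1_c8 LD2_c41 LD3_c40) (LK LD1_c4 LD2_c21 LD3_c59) Lrfl Lrfl
theorem f216805 : Led Lsl_dt (LP (LK LD1_c8 LD2_c41 LD3_c41)) = (LP (LK LD1_c4 LD2_c21 LD3_c59)) :=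
  Lre_d IH (LK LD1_c8 LD2_c41 LD3_c41) (LK LD1_c4 LD2_c21 LD3_c59) Lrfl Lrfl
theorem f328666 : Led Lsl_gf (LP (LK LD1_c8 LD2_c41 LD3_c41)) = (LP (LK LD1_c8 LD2_c5 LD3_c43)) :=
  Lgr Lrot47 (Lpr_gt (f328664 IH) (Lpe (K20.f320821 IH) (Lpe (K14.f186902 IH) (Lpn (LP (LK LD1_c8 LD2_c5 LD3_c43))))))
theorem f328687 : Led Lsl_gf (LP (LK LD1_c4 LD2_c51 LD3_c6)) = (LP (LK LD1_c8 LD2_c33 LD3_c18)) :=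
  Lgr Lrot144 (Lpr_dt (K14.f186892 IH) (Lpe (f328666 IH) (Lpr_dt (f216805 IH) (Lpe (f328686 IH) (Lpe (f328685 IH) (Lpr_gf (f328683 IH) (Lpe (f238066 IH) (Lpe (f327475 IH) (Lpe (f230991 IH) (Lpn (LP (LK LD1_c8 LD2_c33 LD3_c18))))))))))))
theorem f229016 : Led Lsl_ft (LP (LK LD1_c8 LD2_c17 LD3_c7)) = (LP (LK LD1_c4 LD2_c8 LD3_c30)) :=
  Lre_f IH (LK LD1_c8 LD2_c17 LD3_c7) (LK LD1_c4 LD2_c8 LD3_c30) Lrfl Lrfl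
theorem f328689 : Led Lsl_af (LP (LK LD1_c4 LD2_c51 LD3_c6)) = (LP (LK LD1_c4 LD2_c8 LD3_c30)) :=
  Lgr Lrot31 (Lpr_gf (f328687 IH) (Lpr_gf (f327502 IH) (Lpr_ft (f229016 IH) (Lpn (LP (LK LD1_c4 LD2_c8 LD3_c30))))))
theorem f45762 : Led Lsl_dt (LP (LK LD1_c4 LD2_c21 LD3_c7)) = (LP (LK LD1_c8 LD2_c39 LD3_c57)) :=
  Lre_d IH (LK LD1_c4 LD2_c21 LD3_c7) (LK LD1_c8 LD2_c39 LD3_c57) Lrfl Lrfl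
theorem f187132 : Led Lsl_bf (LP (LK LD1_c4 LD2_c21 LD3_c7)) = (LP (LK LD1_c4 LD2_c51 LD3_c6)) :=
  Lgr Lrot93 (Lpr_dt (f45762 IH) (Lpr_bt (K14.f187128 IH) (Lpe (f186899 IH) (Lpn (LP (LK LD1_c4 LD2_c51 LD3_c6))))))
theorem f229030 : Led Lsl_bt (LP (LK LD1_c2 LD2_c1 LD3_c44)) = (LP (LK LD1_c4 LD2_c8 LD3_c30)) :=
  Lre_b IH (LK LD1_c2 LD2_c1 LD3_c44) (LK LD1_c4 LD2_c8 LD3_c30) Lrfl Lrfl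
theorem f328634 : Led Lsl_af (LP (LK LD1_c2 LD2_c1 LD3_c44)) = (LP (LK LD1_c4 LD2_c8 LD3_c14)) :=
  Lgr Lrot0 (Lpr_at (f328632 IH) (Lpn (LP (LK LD1_c4 LD2_c8 LD3_c14))))
theorem f47639 : Led Lsl_bt (LP (LK LD1_c8 LD2_c16 LD3_c23)) = (LP (LK LD1_c4 LD2_c8 LD3_c14)) :=
  Lre_b IH (LK LD1_c8 LD2_c16 LD3_c23) (LK LD1_c4 LD2_c8 LD3_c14) Lrfl Lrfl
theorem f328813 : Led Lsl_at (LP (LK LD1_c4 LD2_c21 LD3_c7)) = (LP (LK LD1_c8 LD2_c16 LD3_c23)) :=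
  Lgr Lrot67 (Lpr_bf (f187132 IH) (Lpr_af (f328689 IH) (Lpe (f229030 IH) (Lpr_af (f328634 IH) (Lpe (f47639 IH) (Lpn (LP (LK LD1_c8 LD2_c16 LD3_c23))))))))
theorem f328819 : Led Lsl_af (LP (LK LD1_c2 LD2_c8 LD3_c5)) = (LP (LK LD1_c4 LD2_c8 LD3_c8)) :=
  Lgr Lrot50 (Lpr_et (K14.f187150 IH) (Lpr_at (f328813 IH) (Lpr_et (K12.f47644 IH) (Lpn (LP (LK LD1_c4 LD2_c8 LD3_c8))))))
theorem f328850 : Led Lsl_at (LP (LK LD1_c1 LD2_c1 LD3_c11)) = (LP (LK LD1_c2 LD2_c1 LD3_c26)) :=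
  Lgr Lrot51 (Lpe (K15.f187158 IH) (Lpr_af (f328819 IH) (Lpe (K12.f47677 IH) (Lpn (LP (LK LD1_c2 LD2_c1 LD3_c26))))))
theorem f328861 : Led Lsl_af (LP (LK LD1_c2 LD2_c8 LD3_c6)) = (LP (LK LD1_c4 LD2_c8 LD3_c9)) :=
  Lgr Lrot50 (Lpr_et (K10.f45742 IH) (Lpr_at (f328850 IH) (Lpr_et (K12.f47646 IH) (Lpn (LP (LK LD1_c4 LD2_c8 LD3_c9))))))
theorem f328865 : Led Lsl_at (LP (LK LD1_c4 LD2_c21 LD3_c5)) = (LP (LK LD1_c2 LD2_c25 LD3_c16)) :=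
  Lgr Lrot107 (Lpe (K10.f46483 IH) (Lpr_af (f328861 IH) (Lpr_cf (K12.f213994 IH) (Lpn (LP (LK LD1_c2 LD2_c25 LD3_c16))))))
theorem f328867 : Led Lsl_af (LP (LK LD1_c4 LD2_c21 LD3_c5)) = (LP (LK LD1_c2 LD2_c25 LD3_c16)) :=
  Lgr Lrot0 (Lpr_at (f328865 IH) (Lpn (LP (LK LD1_c2 LD2_c25 LD3_c16))))
theorem f328871 : Led Lsl_at (LP (LK LD1_c5 LD2_c17 LD3_c23)) = (LP (LK LD1_c4 LD2_c50 LD3_c35)) :=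
  Lgr Lrot51 (Lpr_df (K13.f191726 IH) (Lpr_af (f328867 IH) (Lpe (K12.f213918 IH) (Lpn (LP (LK LD1_c4 LD2_c50 LD3_c35))))))
theorem f328877 : Led Lsl_ff (LP (LK LD1_c5 LD2_c17 LD3_c23)) = (LP (LK LD1_c4 LD2_c50 LD3_c34)) :=
  Lgr Lrot30 (Lpr_at (f328871 IH) (Lpr_ft (K20.f321208 IH) (Lpe (K20.f321202 IH) (Lpn (LP (LK LD1_c4 LD2_c50 LD3_c34))))))
theorem f328881 : Led Lsl_ft (LP (LK LD1_c5 LD2_c17 LD3_c23)) = (LP (LK LD1_c4 LD2_c50 LD3_c34)) :=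
  Lgr Lrot48 (Lpr_ff (f328877 IH) (Lpn (LP (LK LD1_c4 LD2_c50 LD3_c34))))
theorem f328883 : Led Lsl_ff (LP (LK LD1_c5 LD2_c20 LD3_c20)) = (LP (LK LD1_c2 LD2_c37 LD3_c32)) :=
  Lgr Lrot23 (Lpr_ct (K14.f187672 IH) (Lpr_ft (f328881 IH) (Lpe (K10.f194160 IH) (Lpn (LP (LK LD1_c2 LD2_c37 LD3_c32))))))
theorem f328891 : Led Lsl_at (LP (LK LD1_c5 LD2_c20 LD3_c20)) = (LP (LK LD1_c2 LD2_c37 LD3_c33)) :=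
  Lgr Lrot26 (Lpr_ff (f328883 IH) (Lpr_gt (K10.f46476 IH) (Lpr_gt (K14.f187502 IH) (Lpn (LP (LK LD1_c2 LD2_c37 LD3_c33))))))
theorem f321222 : Led Lsl_ft (LP (LK LD1_c2 LD2_c37 LD3_c33)) = (LP (LK LD1_c5 LD2_c20 LD3_c19)) :=
  Lgr Lrot4 (Lpr_cf (K12.f214081 IH) (Lpr_ff (K20.f321218 IH) (Lpe (K16.f182608 IH) (Lpn (LP (LK LD1_c5 LD2_c20 LD3_c19))))))
theorem f328900 : Led Lsl_af (LP (LK LD1_c2 LD2_c37 LD3_c32)) = (LP (LK LD1_c5 LD2_c20 LD3_c19)) :=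
  Lgr Lrot45 (Lpe (f328883 IH) (Lpr_at (f328891 IH) (Lpr_ft (f321222 IH) (Lpn (LP (LK LD1_c5 LD2_c20 LD3_c19))))))
theorem f328906 : Led Lsl_at (LP (LK LD1_c5 LD2_c22 LD3_c0)) = (LP (LK LD1_c10 LD2_c30 LD3_c39)) :=
  Lgr Lrot80 (Lpe (K16.f194928 IH) (Lpr_af (f328900 IH) (Lpe (K16.f182740 IH) (Lpn (LP (LK LD1_c10 LD2_c30 LD3_c39))))))
theorem f194929 : Led Lsl_ft (LP (LK LD1_c10 LD2_c34 LD3_c23)) = (LP (LK LD1_c5 LD2_c22 LD3_c0)) :=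
  Lre_f IH (LK LD1_c10 LD2_c34 LD3_c23) (LK LD1_c5 LD2_c22 LD3_c0) Lrfl Lrfl
theorem f224379 : Led Lsl_dt (LP (LK LD1_c10 LD2_c34 LD3_c23)) = (LP (LK LD1_c19 LD2_c9 LD3_c7)) :=
  Lre_d IH (LK LD1_c10 LD2_c34 LD3_c23) (LK LD1_c19 LD2_c9 LD3_c7) Lrfl Lrfl
theorem f224395 : Led Lsl_ct (LP (LK LD1_c19 LD2_c9 LD3_c7)) = (LP (LK LD1_c28 LD2_c34 LD3_c43)) :=
  Lre_c IH (LK LD1_c19 LD2_c9 LD3_c7) (LK LD1_c28 LD2_c34 LD3_c43) Lrfl Lrfl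
theorem f182611 : Led Lsl_et (LP (LK LD1_c5 LD2_c20 LD3_c19)) = (LP (LK LD1_c10 LD2_c30 LD3_c39)) :=
  Lre_e IH (LK LD1_c5 LD2_c20 LD3_c19) (LK LD1_c10 LD2_c30 LD3_c39) Lrfl Lrfl
theorem f182613 : Led Lsl_ct (LP (LK LD1_c10 LD2_c30 LD3_c39)) = (LP (LK LD1_c8 LD2_c13 LD3_c36)) :=
  Lgr Lrot15 (Lpe (f182611 IH) (Lpr_cf (K11.f182585 IH) (Lpe (K20.f182612 IH) (Lpn (LP (LK LD1_c8 LD2_c13 LD3_c36))))))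
theorem f182622 : Led Lsl_cf (LP (LK LD1_c10 LD2_c30 LD3_c39)) = (LP (LK LD1_c8 LD2_c13 LD3_c36)) :=
  Lgr Lrot11 (Lpr_ct (f182613 IH) (Lpn (LP (LK LD1_c8 LD2_c13 LD3_c36))))
theorem f182617 : Led Lsl_bt (LP (LK LD1_c8 LD2_c13 LD3_c36)) = (LP (LK LD1_c4 LD2_c6 LD3_c34)) :=
  Lre_b IH (LK LD1_c8 LD2_c13 LD3_c36) (LK LD1_c4 LD2_c6 LD3_c34) Lrfl Lrfl
theorem f301669 : Led Lsl_dt (LP (LK LD1_c8 LD2_c25 LD3_c13)) = (LP (LK LD1_c8 LD2_c13 LD3_c36)) :=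
  Lgr Lrot79 (Lpe (K18.f178788 IH) (Lpr_df (K18.f301667 IH) (Lpe (f182617 IH) (Lpn (LP (LK LD1_c8 LD2_c13 LD3_c36))))))
theorem f178784 : Led Lsl_dt (LP (LK LD1_c15 LD2_c42 LD3_c35)) = (LP (LK LD1_c8 LD2_c20 LD3_c45)) :=
  Lre_d IH (LK LD1_c15 LD2_c42 LD3_c35) (LK LD1_c8 LD2_c20 LD3_c45) Lrfl Lrfl
theorem f178785 : Led Lsl_ct (LP (LK LD1_c25 LD2_c38 LD3_c35)) = (LP (LK LD1_c15 LD2_c42 LD3_c35)) :=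
  Lre_c IH (LK LD1_c25 LD2_c38 LD3_c35) (LK LD1_c15 LD2_c42 LD3_c35) Lrfl Lrfl
theorem f328916 : Led Lsl_dt (LP (LK LD1_c28 LD2_c34 LD3_c43)) = (LP (LK LD1_c25 LD2_c38 LD3_c35)) :=
  Lgr Lrot32 (Lpe (f224395 IH) (Lpe (f224379 IH) (Lpr_ft (f194929 IH) (Lpr_at (f328906 IH) (Lpr_cf (f182622 IH) (Lpe (f301669 IH) (Lpe (K18.f178769 IH) (Lpe (f178784 IH) (Lpe (f178785 IH) (Lpn (LP (LK LD1_c25 LD2_c38 LD3_c35))))))))))))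
theorem f224394 : Led Lsl_ft (LP (LK LD1_c28 LD2_c34 LD3_c43)) = (LP (LK LD1_c19 LD2_c9 LD3_c6)) :=
  Lre_f IH (LK LD1_c28 LD2_c34 LD3_c43) (LK LD1_c19 LD2_c9 LD3_c6) Lrfl Lrfl
theorem f182739 : Led Lsl_ct (LP (LK LD1_c19 LD2_c2 LD3_c53)) = (LP (LK LD1_c28 LD2_c29 LD3_c14)) :=
  Lre_c IH (LK LD1_c19 LD2_c2 LD3_c53) (LK LD1_c28 LD2_c29 LD3_c14) Lrfl Lrfl
theorem f328924 : Led Lsl_at (LP (LK LD1_c19 LD2_c9 LD3_c6)) = (LP (LK LD1_c28 LD2_c29 LD3_c14)) :=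
  Lgr Lrot33 (Lpe (f224394 IH) (Lpr_dt (f328916 IH) (Lpr_ct (f178785 IH) (Lpr_dt (f178784 IH) (Lpr_ct (K18.f178769 IH) (Lpr_dt (f301669 IH) (Lpe (f182622 IH) (Lpr_dt (K16.f182738 IH) (Lpr_ct (f182739 IH) (Lpn (LP (LK LD1_c28 LD2_c29 LD3_c14))))))))))))
theorem f228442 : Led Lsl_gt (LP (LK LD1_c10 LD2_c33 LD3_c57)) = (LP (LK LD1_c5 LD2_c21 LD3_c50)) :=
  Lre_g IH (LK LD1_c10 LD2_c33 LD3_c57) (LK LD1_c5 LD2_c21 LD3_c50) Lrfl Lrfl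
theorem f182635 : Led Lsl_gt (LP (LK LD1_c15 LD2_c28 LD3_c26)) = (LP (LK LD1_c8 LD2_c13 LD3_c36)) :=
  Lre_g IH (LK LD1_c15 LD2_c28 LD3_c26) (LK LD1_c8 LD2_c13 LD3_c36) Lrfl Lrfl
theorem f321179 : Led Lsl_ct (LP (LK LD1_c10 LD2_c33 LD3_c57)) = (LP (LK LD1_c15 LD2_c28 LD3_c26)) :=
  Lgr Lrot8 (Lpr_gt (f228442 IH) (Lpr_dt (K16.f215818 IH) (Lpr_gt (K18.f228439 IH) (Lpr_dt (K18.f228501 IH) (Lpe (K18.f228421 IH) (Lpr_df (K20.f200437 IH) (Lpe (K20.f321169 IH) (Lpr_df (K20.f321175 IH) (Lpe (f182635 IH) (Lpn (LP (LK LD1_c15 LD2_c28 LD3_c26))))))))))))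
theorem f254324 : Led Lsl_gt (LP (LK LD1_c19 LD2_c2 LD3_c45)) = (LP (LK LD1_c10 LD2_c33 LD3_c57)) :=
  Lgr Lrot5 (Lpr_ft (K14.f254320 IH) (Lpr_at (K14.f254310 IH) (Lpe (f228442 IH) (Lpn (LP (LK LD1_c10 LD2_c33 LD3_c57))))))
theorem f182624 : Led Lsl_dt (LP (LK LD1_c19 LD2_c2 LD3_c53)) = (LP (LK LD1_c10 LD2_c30 LD3_c39)) :=
  Lre_d IH (LK LD1_c19 LD2_c2 LD3_c53) (LK LD1_c10 LD2_c30 LD3_c39) Lrfl Lrfl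
theorem f182625 : Led Lsl_ct (LP (LK LD1_c28 LD2_c29 LD3_c14)) = (LP (LK LD1_c19 LD2_c2 LD3_c53)) :=
  Lre_c IH (LK LD1_c28 LD2_c29 LD3_c14) (LK LD1_c19 LD2_c2 LD3_c53) Lrfl Lrfl
theorem f321190 : Led Lsl_gt (LP (LK LD1_c28 LD2_c33 LD3_c58)) = (LP (LK LD1_c28 LD2_c29 LD3_c14)) :=
  Lgr Lrot150 (Lpe (K19.f254362 IH) (Lpr_gf (K18.f254357 IH) (Lpe (K18.f254336 IH) (Lpr_gt (f254324 IH) (Lpr_ct (f321179 IH) (Lpr_gt (f182635 IH) (Lpe (f182622 IH) (Lpe (f182624 IH) (Lpe (f182625 IH) (Lpn (LP (LK LD1_c28 LD2_c29 LD3_c14))))))))))))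
theorem f328932 : Led Lsl_gt (LP (LK LD1_c28 LD2_c34 LD3_c43)) = (LP (LK LD1_c28 LD2_c33 LD3_c58)) :=
  Lgr Lrot5 (Lpr_ft (f224394 IH) (Lpr_at (f328924 IH) (Lpe (f321190 IH) (Lpn (LP (LK LD1_c28 LD2_c33 LD3_c58))))))
theorem f297773 : Led Lsl_df (LP (LK LD1_c19 LD2_c8 LD3_c16)) = (LP (LK LD1_c19 LD2_c3 LD3_c32)) :=
  Lgr Lrot38 (Lpr_dt (K18.f297769 IH) (Lpn (LP (LK LD1_c19 LD2_c3 LD3_c32))))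
theorem f325828 : Led Lsl_cf (LP (LK LD1_c11 LD2_c8 LD3_c47)) = (LP (LK LD1_c15 LD2_c44 LD3_c2)) :=
  Lgr Lrot11 (Lpr_ct (f325779 IH) (Lpn (LP (LK LD1_c15 LD2_c44 LD3_c2))))
theorem f328938 : Led Lsl_gf (LP (LK LD1_c19 LD2_c9 LD3_c7)) = (LP (LK LD1_c15 LD2_c44 LD3_c5)) :=
  Lgr Lrot147 (Lpr_ct (f224395 IH) (Lpr_gt (f328932 IH) (Lpr_ct (K18.f254363 IH) (Lpr_df (f297773 IH) (Lpr_cf (K17.f286989 IH) (Lpe (K20.f297767 IH) (Lpr_cf (f325828 IH) (Lpe (K16.f226952 IH) (Lpe (K16.f178863 IH) (Lpn (LP (LK LD1_c15 LD2_c44 LD3_c5))))))))))))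
theorem f276822 : Led Lsl_ft (LP (LK LD1_c15 LD2_c44 LD3_c5)) = (LP (LK LD1_c19 LD2_c9 LD3_c5)) :=
  Lgr Lrot48 (Lpr_ff (K16.f276815 IH) (Lpn (LP (LK LD1_c19 LD2_c9 LD3_c5))))
theorem f328942 : Led Lsl_gt (LP (LK LD1_c19 LD2_c9 LD3_c7)) = (LP (LK LD1_c19 LD2_c11 LD3_c34)) :=
  Lgr Lrot46 (Lpr_gf (f328938 IH) (Lpr_ft (f276822 IH) (Lpr_at (K20.f276835 IH) (Lpn (LP (LK LD1_c19 LD2_c11 LD3_c34))))))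
theorem f297821 : Led Lsl_af (LP (LK LD1_c19 LD2_c12 LD3_c11)) = (LP (LK LD1_c28 LD2_c29 LD3_c45)) :=
  Lgr Lrot0 (Lpr_at (K19.f297818 IH) (Lpn (LP (LK LD1_c28 LD2_c29 LD3_c45))))
theorem f297781 : Led Lsl_ft (LP (LK LD1_c28 LD2_c33 LD3_c58)) = (LP (LK LD1_c28 LD2_c29 LD3_c45)) :=
  Lgr Lrot4 (Lpe (K19.f254362 IH) (Lpr_ff (K18.f297775 IH) (Lpe (K19.f277887 IH) (Lpn (LP (LK LD1_c28 LD2_c29 LD3_c45))))))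
theorem f298428 : Led Lsl_at (LP (LK LD1_c28 LD2_c34 LD3_c41)) = (LP (LK LD1_c28 LD2_c33 LD3_c58)) :=
  Lgr Lrot66 (Lpr_ff (K19.f298426 IH) (Lpr_af (f297821 IH) (Lpe (f297781 IH) (Lpn (LP (LK LD1_c28 LD2_c33 LD3_c58))))))
theorem f328934 : Led Lsl_gf (LP (LK LD1_c28 LD2_c34 LD3_c43)) = (LP (LK LD1_c19 LD2_c12 LD3_c11)) :=
  Lgr Lrot47 (Lpr_gt (f328932 IH) (Lpe (f298428 IH) (Lpr_ff (K19.f298426 IH) (Lpn (LP (LK LD1_c19 LD2_c12 LD3_c11))))))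
theorem f245988 : Led Lsl_gt (LP (LK LD1_c15 LD2_c43 LD3_c54)) = (LP (LK LD1_c8 LD2_c21 LD3_c33)) :=
  Lre_g IH (LK LD1_c15 LD2_c43 LD3_c54) (LK LD1_c8 LD2_c21 LD3_c33) Lrfl Lrfl
theorem f288996 : Led Lsl_ct (LP (LK LD1_c25 LD2_c40 LD3_c13)) = (LP (LK LD1_c15 LD2_c43 LD3_c54)) :=
  Lre_c IH (LK LD1_c25 LD2_c40 LD3_c13) (LK LD1_c15 LD2_c43 LD3_c54) Lrfl Lrfl
theorem f328946 : Led Lsl_gt (LP (LK LD1_c28 LD2_c38 LD3_c17)) = (LP (LK LD1_c25 LD2_c40 LD3_c13)) :=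
  Lgr Lrot9 (Lpe (K20.f228508 IH) (Lpe (f328934 IH) (Lpr_ct (K19.f224375 IH) (Lpr_gt (f328942 IH) (Lpe (K17.f288987 IH) (Lpe (K17.f288994 IH) (Lpe (K17.f288995 IH) (Lpe (f245988 IH) (Lpe (f288996 IH) (Lpn (LP (LK LD1_c25 LD2_c40 LD3_c13))))))))))))
theorem f322315 : Led Lsl_ft (LP (LK LD1_c19 LD2_c16 LD3_c50)) = (LP (LK LD1_c26 LD2_c1 LD3_c32)) :=
  Lgr Lrot101 (Lpe (K19.f309185 IH) (Lpr_ff (K19.f305382 IH) (Lpr_af (K20.f322308 IH) (Lpn (LP (LK LD1_c26 LD2_c1 LD3_c32))))))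
theorem f322302 : Led Lsl_cf (LP (LK LD1_c28 LD2_c38 LD3_c17)) = (LP (LK LD1_c26 LD2_c1 LD3_c32)) :=
  Lgr Lrot55 (Lpr_dt (K20.f228507 IH) (Lpr_ct (K19.f228510 IH) (Lpr_dt (K18.f228501 IH) (Lpe (K18.f228546 IH) (Lpr_dt (K12.f200516 IH) (Lpr_ct (K18.f200521 IH) (Lpr_dt (K18.f200522 IH) (Lpr_ct (K18.f200523 IH) (Lpe (K18.f254374 IH) (Lpr_ct (K18.f254363 IH) (Lpr_dt (K18.f297769 IH) (Lpr_ct (K17.f286985 IH) (Lpe (K20.f297765 IH) (Lpr_ct (K20.f322293 IH) (Lpr_dt (K20.f276752 IH) (Lpn (LP (LK LD1_c26 LD2_c1 LD3_c32))))))))))))))))))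
theorem f322326 : Led Lsl_ff (LP (LK LD1_c28 LD2_c42 LD3_c50)) = (LP (LK LD1_c28 LD2_c38 LD3_c17)) :=
  Lgr Lrot23 (Lpr_ct (K19.f309159 IH) (Lpr_ft (f322315 IH) (Lpe (f322302 IH) (Lpn (LP (LK LD1_c28 LD2_c38 LD3_c17))))))
theorem f309178 : Led Lsl_af (LP (LK LD1_c26 LD2_c18 LD3_c0)) = (LP (LK LD1_c28 LD2_c42 LD3_c50)) :=
  Lgr Lrot117 (Lpe (K18.f254374 IH) (Lpe (K19.f298432 IH) (Lpr_dt (K19.f309168 IH) (Lpn (LP (LK LD1_c28 LD2_c42 LD3_c50))))))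
theorem f328948 : Led Lsl_gf (LP (LK LD1_c26 LD2_c18 LD3_c0)) = (LP (LK LD1_c25 LD2_c40 LD3_c13)) :=
  Lgr Lrot76 (Lpr_af (f309178 IH) (Lpr_ff (f322326 IH) (Lpr_gt (f328946 IH) (Lpn (LP (LK LD1_c25 LD2_c40 LD3_c13))))))
theorem f328955 : Led Lsl_ct (LP (LK LD1_c15 LD2_c43 LD3_c54)) = (LP (LK LD1_c25 LD2_c40 LD3_c13)) :=
  Lre_c IH (LK LD1_c15 LD2_c43 LD3_c54) (LK LD1_c25 LD2_c40 LD3_c13) Lrfl Lrfl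
theorem f179093 : Led Lsl_gt (LP (LK LD1_c4 LD2_c10 LD3_c48)) = (LP (LK LD1_c8 LD2_c21 LD3_c32)) :=
  Lre_g IH (LK LD1_c4 LD2_c10 LD3_c48) (LK LD1_c8 LD2_c21 LD3_c32) Lrfl Lrfl
theorem f284176 : Led Lsl_dt (LP (LK LD1_c8 LD2_c21 LD3_c32)) = (LP (LK LD1_c15 LD2_c43 LD3_c52)) :=
  Lre_d IH (LK LD1_c8 LD2_c21 LD3_c32) (LK LD1_c15 LD2_c43 LD3_c52) Lrfl Lrfl
theorem f328961 : Led Lsl_ct (LP (LK LD1_c25 LD2_c40 LD3_c6)) = (LP (LK LD1_c15 LD2_c43 LD3_c52)) :=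
  Lre_c IH (LK LD1_c25 LD2_c40 LD3_c6) (LK LD1_c15 LD2_c43 LD3_c52) Lrfl Lrfl
theorem f328962 : Led Lsl_dt (LP (LK LD1_c28 LD2_c29 LD3_c14)) = (LP (LK LD1_c25 LD2_c40 LD3_c6)) :=
  Lgr Lrot105 (Lpe (f321190 IH) (Lpr_df (K18.f254374 IH) (Lpr_gf (f328948 IH) (Lpe (f328955 IH) (Lpr_gt (f245988 IH) (Lpr_dt (K17.f245987 IH) (Lpr_gt (f179093 IH) (Lpr_dt (f284176 IH) (Lpe (f328961 IH) (Lpn (LP (LK LD1_c25 LD2_c40 LD3_c6))))))))))))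
theorem f328973 : Led Lsl_df (LP (LK LD1_c28 LD2_c29 LD3_c14)) = (LP (LK LD1_c25 LD2_c40 LD3_c6)) :=
  Lgr Lrot38 (Lpr_dt (f328962 IH) (Lpn (LP (LK LD1_c25 LD2_c40 LD3_c6))))
theorem f328930 : Led Lsl_ff (LP (LK LD1_c28 LD2_c37 LD3_c26)) = (LP (LK LD1_c28 LD2_c29 LD3_c14)) :=
  Lgr Lrot30 (Lpe (K19.f224377 IH) (Lpr_ft (f224394 IH) (Lpr_at (f328924 IH) (Lpn (LP (LK LD1_c28 LD2_c29 LD3_c14))))))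
theorem f278445 : Led Lsl_df (LP (LK LD1_c26 LD2_c1 LD3_c47)) = (LP (LK LD1_c28 LD2_c37 LD3_c26)) :=
  Lgr Lrot38 (Lpr_dt (K19.f278440 IH) (Lpn (LP (LK LD1_c28 LD2_c37 LD3_c26))))
theorem f328978 : Led Lsl_ft (LP (LK LD1_c26 LD2_c1 LD3_c47)) = (LP (LK LD1_c25 LD2_c40 LD3_c6)) :=
  Lgr Lrot54 (Lpr_df (f278445 IH) (Lpr_ff (f328930 IH) (Lpr_df (f328973 IH) (Lpn (LP (LK LD1_c25 LD2_c40 LD3_c6))))))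
theorem f328988 : Led Lsl_ff (LP (LK LD1_c26 LD2_c1 LD3_c47)) = (LP (LK LD1_c25 LD2_c40 LD3_c6)) :=
  Lgr Lrot3 (Lpr_ft (f328978 IH) (Lpn (LP (LK LD1_c25 LD2_c40 LD3_c6))))
theorem f328966 : Led Lsl_ct (LP (LK LD1_c15 LD2_c43 LD3_c52)) = (LP (LK LD1_c25 LD2_c40 LD3_c6)) :=
  Lre_c IH (LK LD1_c15 LD2_c43 LD3_c52) (LK LD1_c25 LD2_c40 LD3_c6) Lrfl Lrfl
theorem f328992 : Led Lsl_ft (LP (LK LD1_c16 LD2_c4 LD3_c34)) = (LP (LK LD1_c15 LD2_c43 LD3_c52)) :=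
  Lgr Lrot4 (Lpe (K19.f234617 IH) (Lpr_ff (f328988 IH) (Lpe (f328966 IH) (Lpn (LP (LK LD1_c15 LD2_c43 LD3_c52))))))
theorem f328972 : Led Lsl_dt (LP (LK LD1_c15 LD2_c43 LD3_c52)) = (LP (LK LD1_c8 LD2_c21 LD3_c32)) :=
  Lre_d IH (LK LD1_c15 LD2_c43 LD3_c52) (LK LD1_c8 LD2_c21 LD3_c32) Lrfl Lrfl
theorem f329005 : Led Lsl_ff (LP (LK LD1_c8 LD2_c33 LD3_c52)) = (LP (LK LD1_c8 LD2_c21 LD3_c32)) :=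
  Lgr Lrot19 (Lpr_dt (K19.f231114 IH) (Lpr_ft (f328992 IH) (Lpr_dt (f328972 IH) (Lpn (LP (LK LD1_c8 LD2_c21 LD3_c32))))))
theorem f329015 : Led Lsl_at (LP (LK LD1_c8 LD2_c33 LD3_c52)) = (LP (LK LD1_c8 LD2_c20 LD3_c45)) :=
  Lgr Lrot33 (Lpr_ff (f329005 IH) (Lpr_dt (f284176 IH) (Lpr_ct (f328966 IH) (Lpe (f328973 IH) (Lpr_ct (f182625 IH) (Lpr_dt (f182624 IH) (Lpr_ct (f182613 IH) (Lpe (K20.f321175 IH) (Lpe (K18.f178782 IH) (Lpn (LP (LK LD1_c8 LD2_c20 LD3_c45))))))))))))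
theorem f234616 : Led Lsl_dt (LP (LK LD1_c16 LD2_c4 LD3_c34)) = (LP (LK LD1_c8 LD2_c33 LD3_c52)) :=
  Lre_d IH (LK LD1_c16 LD2_c4 LD3_c34) (LK LD1_c8 LD2_c33 LD3_c52) Lrfl Lrfl
theorem f178793 : Led Lsl_dt (LP (LK LD1_c8 LD2_c20 LD3_c45)) = (LP (LK LD1_c15 LD2_c42 LD3_c35)) :=
  Lre_d IH (LK LD1_c8 LD2_c20 LD3_c45) (LK LD1_c15 LD2_c42 LD3_c35) Lrfl Lrfl
theorem f329021 : Led Lsl_af (LP (LK LD1_c16 LD2_c4 LD3_c34)) = (LP (LK LD1_c15 LD2_c42 LD3_c35)) :=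
  Lgr Lrot117 (Lpr_dt (f234616 IH) (Lpr_at (f329015 IH) (Lpr_dt (f178793 IH) (Lpn (LP (LK LD1_c15 LD2_c42 LD3_c35))))))
theorem f278460 : Led Lsl_et (LP (LK LD1_c15 LD2_c44 LD3_c55)) = (LP (LK LD1_c8 LD2_c22 LD3_c7)) :=
  Lre_e IH (LK LD1_c15 LD2_c44 LD3_c55) (LK LD1_c8 LD2_c22 LD3_c7) Lrfl Lrfl
theorem f278461 : Led Lsl_dt (LP (LK LD1_c25 LD2_c41 LD3_c29)) = (LP (LK LD1_c15 LD2_c44 LD3_c55)) :=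
  Lre_d IH (LK LD1_c25 LD2_c41 LD3_c29) (LK LD1_c15 LD2_c44 LD3_c55) Lrfl Lrfl
theorem f278462 : Led Lsl_et (LP (LK LD1_c16 LD2_c4 LD3_c34)) = (LP (LK LD1_c25 LD2_c41 LD3_c29)) :=
  Lgr Lrot71 (Lpe (K19.f231114 IH) (Lpe (K19.f234631 IH) (Lpr_df (K19.f278432 IH) (Lpe (f278460 IH) (Lpe (f278461 IH) (Lpn (LP (LK LD1_c25 LD2_c41 LD3_c29))))))))
theorem f329030 : Led Lsl_et (LP (LK LD1_c25 LD2_c38 LD3_c32)) = (LP (LK LD1_c15 LD2_c42 LD3_c35)) :=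
  Lre_e IH (LK LD1_c25 LD2_c38 LD3_c32) (LK LD1_c15 LD2_c42 LD3_c35) Lrfl Lrfl
theorem f329031 : Led Lsl_at (LP (LK LD1_c25 LD2_c41 LD3_c29)) = (LP (LK LD1_c25 LD2_c38 LD3_c32)) :=
  Lgr Lrot80 (Lpe (f278462 IH) (Lpr_af (f329021 IH) (Lpe (f329030 IH) (Lpn (LP (LK LD1_c25 LD2_c38 LD3_c32))))))
theorem f278487 : Led Lsl_ft (LP (LK LD1_c31 LD2_c58 LD3_c22)) = (LP (LK LD1_c25 LD2_c41 LD3_c29)) :=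
  Lre_f IH (LK LD1_c31 LD2_c58 LD3_c22) (LK LD1_c25 LD2_c41 LD3_c29) Lrfl Lrfl
theorem f329039 : Led Lsl_ft (LP (LK LD1_c25 LD2_c38 LD3_c32)) = (LP (LK LD1_c31 LD2_c57 LD3_c18)) :=
  Lre_f IH (LK LD1_c25 LD2_c38 LD3_c32) (LK LD1_c31 LD2_c57 LD3_c18) Lrfl Lrfl
theorem f329040 : Led Lsl_af (LP (LK LD1_c31 LD2_c58 LD3_c22)) = (LP (LK LD1_c31 LD2_c57 LD3_c18)) :=
  Lgr Lrot45 (Lpr_ft (f278487 IH) (Lpr_at (f329031 IH) (Lpr_ft (f329039 IH) (Lpn (LP (LK LD1_c31 LD2_c57 LD3_c18))))))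
theorem f329042 : Led Lsl_dt (LP (LK LD1_c31 LD2_c58 LD3_c22)) = (LP (LK LD1_c25 LD2_c41 LD3_c30)) :=
  Lre_d IH (LK LD1_c31 LD2_c58 LD3_c22) (LK LD1_c25 LD2_c41 LD3_c30) Lrfl Lrfl
theorem f329045 : Led Lsl_dt (LP (LK LD1_c25 LD2_c38 LD3_c33)) = (LP (LK LD1_c31 LD2_c57 LD3_c18)) :=
  Lre_d IH (LK LD1_c25 LD2_c38 LD3_c33) (LK LD1_c31 LD2_c57 LD3_c18) Lrfl Lrfl
theorem f329046 : Led Lsl_at (LP (LK LD1_c25 LD2_c41 LD3_c30)) = (LP (LK LD1_c25 LD2_c38 LD3_c33)) :=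
  Lgr Lrot51 (Lpe (f329042 IH) (Lpr_af (f329040 IH) (Lpe (f329045 IH) (Lpn (LP (LK LD1_c25 LD2_c38 LD3_c33))))))
theorem f329051 : Led Lsl_af (LP (LK LD1_c25 LD2_c41 LD3_c30)) = (LP (LK LD1_c25 LD2_c38 LD3_c33)) :=
  Lgr Lrot0 (Lpr_at (f329046 IH) (Lpn (LP (LK LD1_c25 LD2_c38 LD3_c33))))
theorem f329058 : Led Lsl_ft (LP (LK LD1_c25 LD2_c41 LD3_c30)) = (LP (LK LD1_c15 LD2_c44 LD3_c55)) :=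
  Lre_f IH (LK LD1_c25 LD2_c41 LD3_c30) (LK LD1_c15 LD2_c44 LD3_c55) Lrfl Lrfl
theorem f329059 : Led Lsl_ft (LP (LK LD1_c15 LD2_c42 LD3_c34)) = (LP (LK LD1_c25 LD2_c38 LD3_c33)) :=
  Lre_f IH (LK LD1_c15 LD2_c42 LD3_c34) (LK LD1_c25 LD2_c38 LD3_c33) Lrfl Lrfl
theorem f329060 : Led Lsl_at (LP (LK LD1_c15 LD2_c44 LD3_c55)) = (LP (LK LD1_c15 LD2_c42 LD3_c34)) :=
  Lgr Lrot66 (Lpe (f329058 IH) (Lpr_af (f329051 IH) (Lpe (f329059 IH) (Lpn (LP (LK LD1_c15 LD2_c42 LD3_c34))))))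
theorem f278468 : Led Lsl_et (LP (LK LD1_c8 LD2_c22 LD3_c7)) = (LP (LK LD1_c15 LD2_c44 LD3_c55)) :=
  Lre_e IH (LK LD1_c8 LD2_c22 LD3_c7) (LK LD1_c15 LD2_c44 LD3_c55) Lrfl Lrfl
theorem f295945 : Led Lsl_et (LP (LK LD1_c15 LD2_c42 LD3_c34)) = (LP (LK LD1_c8 LD2_c20 LD3_c44)) :=
  Lre_e IH (LK LD1_c15 LD2_c42 LD3_c34) (LK LD1_c8 LD2_c20 LD3_c44) Lrfl Lrfl
theorem f329066 : Led Lsl_af (LP (LK LD1_c8 LD2_c22 LD3_c7)) = (LP (LK LD1_c8 LD2_c20 LD3_c44)) :=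
  Lgr Lrot50 (Lpr_et (f278468 IH) (Lpr_at (f329060 IH) (Lpr_et (f295945 IH) (Lpn (LP (LK LD1_c8 LD2_c20 LD3_c44))))))
theorem f329078 : Led Lsl_ft (LP (LK LD1_c8 LD2_c22 LD3_c8)) = (LP (LK LD1_c8 LD2_c20 LD3_c44)) :=
  Lgr Lrot2 (Lpr_gt (K18.f51526 IH) (Lpr_gt (K19.f219825 IH) (Lpr_af (f329066 IH) (Lpn (LP (LK LD1_c8 LD2_c20 LD3_c44))))))
theorem f329087 : Led Lsl_ff (LP (LK LD1_c8 LD2_c22 LD3_c8)) = (LP (LK LD1_c8 LD2_c20 LD3_c44)) :=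
  Lgr Lrot3 (Lpr_ft (f329078 IH) (Lpn (LP (LK LD1_c8 LD2_c20 LD3_c44))))
theorem f329099 : Led Lsl_at (LP (LK LD1_c8 LD2_c22 LD3_c8)) = (LP (LK LD1_c8 LD2_c20 LD3_c41)) :=
  Lgr Lrot26 (Lpr_ff (f329087 IH) (Lpe (K18.f296043 IH) (Lpe (K18.f299287 IH) (Lpn (LP (LK LD1_c8 LD2_c20 LD3_c41))))))
theorem f329071 : Led Lsl_at (LP (LK LD1_c8 LD2_c22 LD3_c7)) = (LP (LK LD1_c8 LD2_c20 LD3_c44)) :=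
  Lgr Lrot100 (Lpr_af (f329066 IH) (Lpn (LP (LK LD1_c8 LD2_c20 LD3_c44))))
theorem f329106 : Led Lsl_ff (LP (LK LD1_c8 LD2_c22 LD3_c7)) = (LP (LK LD1_c8 LD2_c20 LD3_c41)) :=
  Lgr Lrot30 (Lpr_at (f329071 IH) (Lpe (f329087 IH) (Lpr_at (f329099 IH) (Lpn (LP (LK LD1_c8 LD2_c20 LD3_c41))))))
theorem f329113 : Led Lsl_ft (LP (LK LD1_c8 LD2_c22 LD3_c7)) = (LP (LK LD1_c8 LD2_c20 LD3_c41)) :=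
  Lgr Lrot48 (Lpr_ff (f329106 IH) (Lpn (LP (LK LD1_c8 LD2_c20 LD3_c41))))
theorem f278455 : Led Lsl_bt (LP (LK LD1_c15 LD2_c44 LD3_c54)) = (LP (LK LD1_c8 LD2_c22 LD3_c7)) :=
  Lre_b IH (LK LD1_c15 LD2_c44 LD3_c54) (LK LD1_c8 LD2_c22 LD3_c7) Lrfl Lrfl
theorem f329103 : Led Lsl_bt (LP (LK LD1_c8 LD2_c20 LD3_c41)) = (LP (LK LD1_c15 LD2_c42 LD3_c24)) :=
  Lre_b IH (LK LD1_c8 LD2_c20 LD3_c41) (LK LD1_c15 LD2_c42 LD3_c24) Lrfl Lrfl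
theorem f329115 : Led Lsl_ff (LP (LK LD1_c15 LD2_c44 LD3_c54)) = (LP (LK LD1_c15 LD2_c42 LD3_c24)) :=
  Lgr Lrot25 (Lpr_bt (f278455 IH) (Lpr_ft (f329113 IH) (Lpr_bt (f329103 IH) (Lpn (LP (LK LD1_c15 LD2_c42 LD3_c24))))))
theorem f231111 : Led Lsl_bt (LP (LK LD1_c8 LD2_c33 LD3_c51)) = (LP (LK LD1_c4 LD2_c17 LD3_c22)) :=
  Lre_b IH (LK LD1_c8 LD2_c33 LD3_c51) (LK LD1_c4 LD2_c17 LD3_c22) Lrfl Lrfl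
theorem f278489 : Led Lsl_bt (LP (LK LD1_c8 LD2_c22 LD3_c7)) = (LP (LK LD1_c15 LD2_c44 LD3_c54)) :=
  Lre_b IH (LK LD1_c8 LD2_c22 LD3_c7) (LK LD1_c15 LD2_c44 LD3_c54) Lrfl Lrfl
theorem f278490 : Led Lsl_df (LP (LK LD1_c8 LD2_c33 LD3_c51)) = (LP (LK LD1_c15 LD2_c44 LD3_c54)) :=
  Lgr Lrot12 (Lpr_bt (f231111 IH) (Lpr_dt (K19.f278458 IH) (Lpr_bt (f278489 IH) (Lpn (LP (LK LD1_c15 LD2_c44 LD3_c54))))))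
theorem f220408 : Led Lsl_dt (LP (LK LD1_c8 LD2_c20 LD3_c40)) = (LP (LK LD1_c15 LD2_c42 LD3_c24)) :=
  Lre_d IH (LK LD1_c8 LD2_c20 LD3_c40) (LK LD1_c15 LD2_c42 LD3_c24) Lrfl Lrfl
theorem f329130 : Led Lsl_ft (LP (LK LD1_c8 LD2_c33 LD3_c51)) = (LP (LK LD1_c8 LD2_c20 LD3_c40)) :=
  Lgr Lrot54 (Lpr_df (f278490 IH) (Lpr_ff (f329115 IH) (Lpe (f220408 IH) (Lpn (LP (LK LD1_c8 LD2_c20 LD3_c40))))))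
theorem f329137 : Led Lsl_ff (LP (LK LD1_c8 LD2_c33 LD3_c51)) = (LP (LK LD1_c8 LD2_c20 LD3_c40)) :=
  Lgr Lrot3 (Lpr_ft (f329130 IH) (Lpn (LP (LK LD1_c8 LD2_c20 LD3_c40))))
theorem f220356 : Led Lsl_et (LP (LK LD1_c4 LD2_c10 LD3_c15)) = (LP (LK LD1_c8 LD2_c20 LD3_c42)) :=
  Lre_e IH (LK LD1_c4 LD2_c10 LD3_c15) (LK LD1_c8 LD2_c20 LD3_c42) Lrfl Lrfl
theorem f220357 : Led Lsl_et (LP (LK LD1_c10 LD2_c50 LD3_c24)) = (LP (LK LD1_c5 LD2_c29 LD3_c35)) :=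
  Lre_e IH (LK LD1_c10 LD2_c50 LD3_c24) (LK LD1_c5 LD2_c29 LD3_c35) Lrfl Lrfl
theorem f220358 : Led Lsl_ct (LP (LK LD1_c8 LD2_c20 LD3_c42)) = (LP (LK LD1_c10 LD2_c50 LD3_c24)) :=
  Lgr Lrot15 (Lpe (f220356 IH) (Lpr_cf (K14.f220347 IH) (Lpe (f220357 IH) (Lpn (LP (LK LD1_c10 LD2_c50 LD3_c24))))))
theorem f220368 : Led Lsl_cf (LP (LK LD1_c8 LD2_c20 LD3_c42)) = (LP (LK LD1_c10 LD2_c50 LD3_c24)) :=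
  Lgr Lrot11 (Lpr_ct (f220358 IH) (Lpn (LP (LK LD1_c10 LD2_c50 LD3_c24))))
theorem f220377 : Led Lsl_bt (LP (LK LD1_c8 LD2_c20 LD3_c42)) = (LP (LK LD1_c15 LD2_c42 LD3_c25)) :=
  Lre_b IH (LK LD1_c8 LD2_c20 LD3_c42) (LK LD1_c15 LD2_c42 LD3_c25) Lrfl Lrfl
theorem f220379 : Led Lsl_bt (LP (LK LD1_c5 LD2_c29 LD3_c37)) = (LP (LK LD1_c10 LD2_c50 LD3_c24)) :=
  Lre_b IH (LK LD1_c5 LD2_c29 LD3_c37) (LK LD1_c10 LD2_c50 LD3_c24) Lrfl Lrfl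
theorem f220380 : Led Lsl_ct (LP (LK LD1_c10 LD2_c50 LD3_c26)) = (LP (LK LD1_c5 LD2_c29 LD3_c37)) :=
  Lre_c IH (LK LD1_c10 LD2_c50 LD3_c26) (LK LD1_c5 LD2_c29 LD3_c37) Lrfl Lrfl
theorem f220381 : Led Lsl_bt (LP (LK LD1_c19 LD2_c35 LD3_c49)) = (LP (LK LD1_c10 LD2_c50 LD3_c26)) :=
  Lre_b IH (LK LD1_c19 LD2_c35 LD3_c49) (LK LD1_c10 LD2_c50 LD3_c26) Lrfl Lrfl
theorem f220382 : Led Lsl_ct (LP (LK LD1_c15 LD2_c42 LD3_c25)) = (LP (LK LD1_c19 LD2_c35 LD3_c49)) :=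
  Lgr Lrot83 (Lpe (f220377 IH) (Lpr_cf (f220368 IH) (Lpe (f220379 IH) (Lpe (f220380 IH) (Lpe (f220381 IH) (Lpn (LP (LK LD1_c19 LD2_c35 LD3_c49))))))))
theorem f220395 : Led Lsl_et (LP (LK LD1_c8 LD2_c20 LD3_c40)) = (LP (LK LD1_c15 LD2_c42 LD3_c25)) :=
  Lre_e IH (LK LD1_c8 LD2_c20 LD3_c40) (LK LD1_c15 LD2_c42 LD3_c25) Lrfl Lrfl
theorem f220396 : Led Lsl_et (LP (LK LD1_c19 LD2_c35 LD3_c49)) = (LP (LK LD1_c10 LD2_c50 LD3_c25)) :=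
  Lre_e IH (LK LD1_c19 LD2_c35 LD3_c49) (LK LD1_c10 LD2_c50 LD3_c25) Lrfl Lrfl
theorem f220397 : Led Lsl_cf (LP (LK LD1_c8 LD2_c20 LD3_c40)) = (LP (LK LD1_c10 LD2_c50 LD3_c25)) :=
  Lgr Lrot39 (Lpr_et (f220395 IH) (Lpr_ct (f220382 IH) (Lpr_et (f220396 IH) (Lpn (LP (LK LD1_c10 LD2_c50 LD3_c25))))))
theorem f329143 : Led Lsl_ft (LP (LK LD1_c8 LD2_c17 LD3_c29)) = (LP (LK LD1_c10 LD2_c50 LD3_c25)) :=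
  Lgr Lrot4 (Lpe (K16.f234556 IH) (Lpr_ff (f329137 IH) (Lpr_cf (f220397 IH) (Lpn (LP (LK LD1_c10 LD2_c50 LD3_c25))))))
theorem f234588 : Led Lsl_dt (LP (LK LD1_c15 LD2_c35 LD3_c26)) = (LP (LK LD1_c8 LD2_c17 LD3_c29)) :=
  Lre_d IH (LK LD1_c15 LD2_c35 LD3_c26) (LK LD1_c8 LD2_c17 LD3_c29) Lrfl Lrfl
theorem f233263 : Led Lsl_bt (LP (LK LD1_c15 LD2_c38 LD3_c8)) = (LP (LK LD1_c8 LD2_c18 LD3_c46)) :=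
  Lre_b IH (LK LD1_c15 LD2_c38 LD3_c8) (LK LD1_c8 LD2_c18 LD3_c46) Lrfl Lrfl
theorem f220407 : Led Lsl_bt (LP (LK LD1_c5 LD2_c29 LD3_c36)) = (LP (LK LD1_c10 LD2_c50 LD3_c25)) :=
  Lre_b IH (LK LD1_c5 LD2_c29 LD3_c36) (LK LD1_c10 LD2_c50 LD3_c25) Lrfl Lrfl
theorem f250880 : Led Lsl_df (LP (LK LD1_c15 LD2_c38 LD3_c8)) = (LP (LK LD1_c10 LD2_c50 LD3_c25)) :=
  Lgr Lrot12 (Lpr_bt (f233263 IH) (Lpr_dt (K14.f250875 IH) (Lpr_bt (f220407 IH) (Lpn (LP (LK LD1_c10 LD2_c50 LD3_c25))))))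
theorem f329180 : Led Lsl_ff (LP (LK LD1_c15 LD2_c35 LD3_c26)) = (LP (LK LD1_c15 LD2_c38 LD3_c8)) :=
  Lgr Lrot19 (Lpr_dt (f234588 IH) (Lpr_ft (f329143 IH) (Lpe (f250880 IH) (Lpn (LP (LK LD1_c15 LD2_c38 LD3_c8))))))
theorem f329190 : Led Lsl_ft (LP (LK LD1_c15 LD2_c35 LD3_c26)) = (LP (LK LD1_c15 LD2_c38 LD3_c8)) :=
  Lgr Lrot48 (Lpr_ff (f329180 IH) (Lpn (LP (LK LD1_c15 LD2_c38 LD3_c8))))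
theorem f258645 : Led Lsl_bt (LP (LK LD1_c8 LD2_c17 LD3_c30)) = (LP (LK LD1_c15 LD2_c35 LD3_c26)) :=
  Lre_b IH (LK LD1_c8 LD2_c17 LD3_c30) (LK LD1_c15 LD2_c35 LD3_c26) Lrfl Lrfl
theorem f329195 : Led Lsl_ff (LP (LK LD1_c8 LD2_c17 LD3_c30)) = (LP (LK LD1_c8 LD2_c18 LD3_c46)) :=
  Lgr Lrot25 (Lpr_bt (f258645 IH) (Lpr_ft (f329190 IH) (Lpr_bt (f233263 IH) (Lpn (LP (LK LD1_c8 LD2_c18 LD3_c46))))))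
theorem f329201 : Led Lsl_at (LP (LK LD1_c8 LD2_c17 LD3_c30)) = (LP (LK LD1_c8 LD2_c18 LD3_c45)) :=
  Lgr Lrot26 (Lpr_ff (f329195 IH) (Lpr_gt (K14.f233262 IH) (Lpr_gt (K14.f222816 IH) (Lpn (LP (LK LD1_c8 LD2_c18 LD3_c45))))))
theorem f329210 : Led Lsl_af (LP (LK LD1_c4 LD2_c8 LD3_c43)) = (LP (LK LD1_c5 LD2_c29 LD3_c33)) :=
  Lgr Lrot117 (Lpr_dt (K15.f234648 IH) (Lpr_at (f329201 IH) (Lpr_dt (K14.f251721 IH) (Lpn (LP (LK LD1_c5 LD2_c29 LD3_c33))))))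
theorem f329216 : Led Lsl_ft (LP (LK LD1_c4 LD2_c8 LD3_c42)) = (LP (LK LD1_c5 LD2_c29 LD3_c33)) :=
  Lgr Lrot2 (Lpr_gt (K14.f246697 IH) (Lpe (K15.f258620 IH) (Lpr_af (f329210 IH) (Lpn (LP (LK LD1_c5 LD2_c29 LD3_c33))))))
theorem f329226 : Led Lsl_ff (LP (LK LD1_c4 LD2_c8 LD3_c42)) = (LP (LK LD1_c5 LD2_c29 LD3_c33)) :=
  Lgr Lrot3 (Lpr_ft (f329216 IH) (Lpn (LP (LK LD1_c5 LD2_c29 LD3_c33))))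
theorem f329234 : Led Lsl_ft (LP (LK LD1_c8 LD2_c17 LD3_c27)) = (LP (LK LD1_c8 LD2_c18 LD3_c45)) :=
  Lgr Lrot54 (Lpe (K14.f220094 IH) (Lpr_ff (f329226 IH) (Lpe (K14.f251721 IH) (Lpn (LP (LK LD1_c8 LD2_c18 LD3_c45))))))
theorem f329240 : Led Lsl_ff (LP (LK LD1_c5 LD2_c32 LD3_c23)) = (LP (LK LD1_c5 LD2_c29 LD3_c58)) :=
  Lgr Lrot23 (Lpe (K14.f250868 IH) (Lpr_ft (f329234 IH) (Lpr_ct (K15.f254746 IH) (Lpn (LP (LK LD1_c5 LD2_c29 LD3_c58))))))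
theorem f329246 : Led Lsl_at (LP (LK LD1_c5 LD2_c32 LD3_c23)) = (LP (LK LD1_c5 LD2_c29 LD3_c55)) :=
  Lgr Lrot26 (Lpr_ff (f329240 IH) (Lpe (K14.f254757 IH) (Lpr_gt (K14.f254770 IH) (Lpn (LP (LK LD1_c5 LD2_c29 LD3_c55))))))
theorem f329248 : Led Lsl_af (LP (LK LD1_c5 LD2_c32 LD3_c23)) = (LP (LK LD1_c5 LD2_c29 LD3_c55)) :=
  Lgr Lrot0 (Lpr_at (f329246 IH) (Lpn (LP (LK LD1_c5 LD2_c29 LD3_c55))))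
theorem f329289 : Led Lsl_at (LP (LK LD1_c8 LD2_c17 LD3_c27)) = (LP (LK LD1_c8 LD2_c18 LD3_c46)) :=
  Lgr Lrot107 (Lpr_cf (K14.f250868 IH) (Lpr_af (f329248 IH) (Lpe (K20.f258740 IH) (Lpn (LP (LK LD1_c8 LD2_c18 LD3_c46))))))
theorem f250906 : Led Lsl_bt (LP (LK LD1_c15 LD2_c35 LD3_c21)) = (LP (LK LD1_c8 LD2_c17 LD3_c27)) :=
  Lre_b IH (LK LD1_c15 LD2_c35 LD3_c21) (LK LD1_c8 LD2_c17 LD3_c27) Lrfl Lrfl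
theorem f329291 : Led Lsl_at (LP (LK LD1_c25 LD2_c29 LD3_c26)) = (LP (LK LD1_c15 LD2_c35 LD3_c21)) :=
  Lre_a IH (LK LD1_c25 LD2_c29 LD3_c26) (LK LD1_c15 LD2_c35 LD3_c21) Lrfl Lrfl
theorem f250891 : Led Lsl_bt (LP (LK LD1_c8 LD2_c18 LD3_c46)) = (LP (LK LD1_c15 LD2_c38 LD3_c8)) :=
  Lre_b IH (LK LD1_c8 LD2_c18 LD3_c46) (LK LD1_c15 LD2_c38 LD3_c8) Lrfl Lrfl
theorem f250883 : Led Lsl_at (LP (LK LD1_c15 LD2_c38 LD3_c8)) = (LP (LK LD1_c25 LD2_c33 LD3_c19)) :=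
  Lre_a IH (LK LD1_c15 LD2_c38 LD3_c8) (LK LD1_c25 LD2_c33 LD3_c19) Lrfl Lrfl
theorem f329292 : Led Lsl_bf (LP (LK LD1_c25 LD2_c29 LD3_c26)) = (LP (LK LD1_c25 LD2_c33 LD3_c19)) :=
  Lgr Lrot81 (Lpr_at (f329291 IH) (Lpr_bt (f250906 IH) (Lpr_at (f329289 IH) (Lpr_bt (f250891 IH) (Lpr_at (f250883 IH) (Lpn (LP (LK LD1_c25 LD2_c33 LD3_c19))))))))
theorem f220149 : Led Lsl_dt (LP (LK LD1_c25 LD2_c29 LD3_c26)) = (LP (LK LD1_c15 LD2_c35 LD3_c20)) :=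
  Lre_d IH (LK LD1_c25 LD2_c29 LD3_c26) (LK LD1_c15 LD2_c35 LD3_c20) Lrfl Lrfl
theorem f250886 : Led Lsl_dt (LP (LK LD1_c15 LD2_c38 LD3_c8)) = (LP (LK LD1_c10 LD2_c50 LD3_c25)) :=
  Lgr Lrot42 (Lpr_df (f250880 IH) (Lpn (LP (LK LD1_c10 LD2_c50 LD3_c25))))
theorem f250888 : Led Lsl_at (LP (LK LD1_c25 LD2_c33 LD3_c19)) = (LP (LK LD1_c15 LD2_c38 LD3_c8)) :=
  Lre_a IH (LK LD1_c25 LD2_c33 LD3_c19) (LK LD1_c15 LD2_c38 LD3_c8) Lrfl Lrfl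
theorem f220423 : Led Lsl_at (LP (LK LD1_c10 LD2_c50 LD3_c25)) = (LP (LK LD1_c19 LD2_c35 LD3_c48)) :=
  Lre_a IH (LK LD1_c10 LD2_c50 LD3_c25) (LK LD1_c19 LD2_c35 LD3_c48) Lrfl Lrfl
theorem f250889 : Led Lsl_df (LP (LK LD1_c25 LD2_c33 LD3_c19)) = (LP (LK LD1_c19 LD2_c35 LD3_c48)) :=
  Lgr Lrot18 (Lpr_at (f250888 IH) (Lpr_dt (f250886 IH) (Lpr_at (f220423 IH) (Lpn (LP (LK LD1_c19 LD2_c35 LD3_c48))))))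
theorem f329296 : Led Lsl_bt (LP (LK LD1_c15 LD2_c35 LD3_c20)) = (LP (LK LD1_c19 LD2_c35 LD3_c48)) :=
  Lgr Lrot95 (Lpe (f220149 IH) (Lpr_bf (f329292 IH) (Lpr_df (f250889 IH) (Lpn (LP (LK LD1_c19 LD2_c35 LD3_c48))))))
theorem f234585 : Led Lsl_at (LP (LK LD1_c15 LD2_c35 LD3_c25)) = (LP (LK LD1_c8 LD2_c17 LD3_c29)) :=
  Lre_a IH (LK LD1_c15 LD2_c35 LD3_c25) (LK LD1_c8 LD2_c17 LD3_c29) Lrfl Lrfl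
theorem f329176 : Led Lsl_ff (LP (LK LD1_c15 LD2_c35 LD3_c25)) = (LP (LK LD1_c19 LD2_c35 LD3_c48)) :=
  Lgr Lrot30 (Lpr_at (f234585 IH) (Lpr_ft (f329143 IH) (Lpr_at (f220423 IH) (Lpn (LP (LK LD1_c19 LD2_c35 LD3_c48))))))
theorem f234562 : Led Lsl_bt (LP (LK LD1_c4 LD2_c8 LD3_c43)) = (LP (LK LD1_c8 LD2_c17 LD3_c29)) :=
  Lre_b IH (LK LD1_c4 LD2_c8 LD3_c43) (LK LD1_c8 LD2_c17 LD3_c29) Lrfl Lrfl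
theorem f234574 : Led Lsl_at (LP (LK LD1_c8 LD2_c17 LD3_c29)) = (LP (LK LD1_c15 LD2_c35 LD3_c25)) :=
  Lre_a IH (LK LD1_c8 LD2_c17 LD3_c29) (LK LD1_c15 LD2_c35 LD3_c25) Lrfl Lrfl
theorem f222930 : Led Lsl_bt (LP (LK LD1_c10 LD2_c50 LD3_c21)) = (LP (LK LD1_c5 LD2_c29 LD3_c33)) :=
  Lre_b IH (LK LD1_c10 LD2_c50 LD3_c21) (LK LD1_c5 LD2_c29 LD3_c33) Lrfl Lrfl
theorem f250800 : Led Lsl_at (LP (LK LD1_c19 LD2_c35 LD3_c44)) = (LP (LK LD1_c10 LD2_c50 LD3_c21)) :=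
  Lre_a IH (LK LD1_c19 LD2_c35 LD3_c44) (LK LD1_c10 LD2_c50 LD3_c21) Lrfl Lrfl
theorem f329214 : Led Lsl_bt (LP (LK LD1_c15 LD2_c35 LD3_c25)) = (LP (LK LD1_c19 LD2_c35 LD3_c44)) :=
  Lgr Lrot62 (Lpe (f234574 IH) (Lpe (f234562 IH) (Lpr_af (f329210 IH) (Lpe (f222930 IH) (Lpe (f250800 IH) (Lpn (LP (LK LD1_c19 LD2_c35 LD3_c44))))))))
theorem f329312 : Led Lsl_ff (LP (LK LD1_c15 LD2_c35 LD3_c20)) = (LP (LK LD1_c19 LD2_c35 LD3_c44)) :=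
  Lgr Lrot25 (Lpr_bt (f329296 IH) (Lpe (f329176 IH) (Lpr_bt (f329214 IH) (Lpn (LP (LK LD1_c19 LD2_c35 LD3_c44))))))
theorem f329318 : Led Lsl_ft (LP (LK LD1_c15 LD2_c35 LD3_c20)) = (LP (LK LD1_c19 LD2_c35 LD3_c44)) :=
  Lgr Lrot48 (Lpr_ff (f329312 IH) (Lpn (LP (LK LD1_c19 LD2_c35 LD3_c44))))
theorem f220125 : Led Lsl_bt (LP (LK LD1_c8 LD2_c17 LD3_c26)) = (LP (LK LD1_c4 LD2_c8 LD3_c42)) :=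
  Lre_b IH (LK LD1_c8 LD2_c17 LD3_c26) (LK LD1_c4 LD2_c8 LD3_c42) Lrfl Lrfl
theorem f220127 : Led Lsl_bt (LP (LK LD1_c4 LD2_c13 LD3_c4)) = (LP (LK LD1_c8 LD2_c25 LD3_c19)) :=
  Lre_b IH (LK LD1_c4 LD2_c13 LD3_c4) (LK LD1_c8 LD2_c25 LD3_c19) Lrfl Lrfl
theorem f220128 : Led Lsl_cf (LP (LK LD1_c8 LD2_c17 LD3_c26)) = (LP (LK LD1_c8 LD2_c25 LD3_c19)) :=
  Lgr Lrot97 (Lpr_bt (f220125 IH) (Lpr_ct (K14.f220092 IH) (Lpr_bt (K14.f178352 IH) (Lpr_ct (K14.f220126 IH) (Lpr_bt (f220127 IH) (Lpn (LP (LK LD1_c8 LD2_c25 LD3_c19))))))))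
theorem f220138 : Led Lsl_at (LP (LK LD1_c8 LD2_c17 LD3_c26)) = (LP (LK LD1_c15 LD2_c35 LD3_c20)) :=
  Lre_a IH (LK LD1_c8 LD2_c17 LD3_c26) (LK LD1_c15 LD2_c35 LD3_c20) Lrfl Lrfl
theorem f220139 : Led Lsl_at (LP (LK LD1_c15 LD2_c49 LD3_c31)) = (LP (LK LD1_c8 LD2_c25 LD3_c19)) :=
  Lre_a IH (LK LD1_c15 LD2_c49 LD3_c31) (LK LD1_c8 LD2_c25 LD3_c19) Lrfl Lrfl
theorem f220140 : Led Lsl_ct (LP (LK LD1_c15 LD2_c35 LD3_c20)) = (LP (LK LD1_c15 LD2_c49 LD3_c31)) :=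
  Lgr Lrot111 (Lpe (f220138 IH) (Lpr_cf (f220128 IH) (Lpe (f220139 IH) (Lpn (LP (LK LD1_c15 LD2_c49 LD3_c31))))))
theorem f220147 : Led Lsl_cf (LP (LK LD1_c15 LD2_c35 LD3_c20)) = (LP (LK LD1_c15 LD2_c49 LD3_c31)) :=
  Lgr Lrot11 (Lpr_ct (f220140 IH) (Lpn (LP (LK LD1_c15 LD2_c49 LD3_c31))))
theorem f250769 : Led Lsl_bt (LP (LK LD1_c4 LD2_c18 LD3_c45)) = (LP (LK LD1_c8 LD2_c36 LD3_c9)) :=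
  Lre_b IH (LK LD1_c4 LD2_c18 LD3_c45) (LK LD1_c8 LD2_c36 LD3_c9) Lrfl Lrfl
theorem f250770 : Led Lsl_cf (LP (LK LD1_c10 LD2_c50 LD3_c21)) = (LP (LK LD1_c8 LD2_c36 LD3_c9)) :=
  Lgr Lrot97 (Lpr_bt (f222930 IH) (Lpr_ct (K14.f216857 IH) (Lpr_bt (K14.f250727 IH) (Lpr_ct (K15.f250768 IH) (Lpr_bt (f250769 IH) (Lpn (LP (LK LD1_c8 LD2_c36 LD3_c9))))))))
theorem f250792 : Led Lsl_at (LP (LK LD1_c10 LD2_c50 LD3_c21)) = (LP (LK LD1_c19 LD2_c35 LD3_c44)) :=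
  Lre_a IH (LK LD1_c10 LD2_c50 LD3_c21) (LK LD1_c19 LD2_c35 LD3_c44) Lrfl Lrfl
theorem f250793 : Led Lsl_at (LP (LK LD1_c16 LD2_c7 LD3_c34)) = (LP (LK LD1_c8 LD2_c36 LD3_c9)) :=
  Lre_a IH (LK LD1_c16 LD2_c7 LD3_c34) (LK LD1_c8 LD2_c36 LD3_c9) Lrfl Lrfl
theorem f250794 : Led Lsl_ct (LP (LK LD1_c19 LD2_c35 LD3_c44)) = (LP (LK LD1_c16 LD2_c7 LD3_c34)) :=
  Lgr Lrot111 (Lpe (f250792 IH) (Lpr_cf (f250770 IH) (Lpe (f250793 IH) (Lpn (LP (LK LD1_c16 LD2_c7 LD3_c34))))))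
theorem f329325 : Led Lsl_ff (LP (LK LD1_c15 LD2_c49 LD3_c31)) = (LP (LK LD1_c16 LD2_c7 LD3_c34)) :=
  Lgr Lrot23 (Lpe (f220147 IH) (Lpr_ft (f329318 IH) (Lpr_ct (f250794 IH) (Lpn (LP (LK LD1_c16 LD2_c7 LD3_c34))))))
theorem f250804 : Led Lsl_at (LP (LK LD1_c8 LD2_c36 LD3_c9)) = (LP (LK LD1_c16 LD2_c7 LD3_c34)) :=
  Lre_a IH (LK LD1_c8 LD2_c36 LD3_c9) (LK LD1_c16 LD2_c7 LD3_c34) Lrfl Lrfl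
theorem f329332 : Led Lsl_ft (LP (LK LD1_c8 LD2_c25 LD3_c19)) = (LP (LK LD1_c8 LD2_c36 LD3_c9)) :=
  Lgr Lrot101 (Lpe (f220139 IH) (Lpr_ff (f329325 IH) (Lpe (f250804 IH) (Lpn (LP (LK LD1_c8 LD2_c36 LD3_c9))))))
theorem f329338 : Led Lsl_ff (LP (LK LD1_c8 LD2_c25 LD3_c19)) = (LP (LK LD1_c8 LD2_c36 LD3_c9)) :=
  Lgr Lrot3 (Lpr_ft (f329332 IH) (Lpn (LP (LK LD1_c8 LD2_c36 LD3_c9))))
theorem f220089 : Led Lsl_bt (LP (LK LD1_c8 LD2_c25 LD3_c19)) = (LP (LK LD1_c4 LD2_c13 LD3_c4)) :=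
  Lre_b IH (LK LD1_c8 LD2_c25 LD3_c19) (LK LD1_c4 LD2_c13 LD3_c4) Lrfl Lrfl
theorem f329342 : Led Lsl_ft (LP (LK LD1_c4 LD2_c13 LD3_c4)) = (LP (LK LD1_c4 LD2_c18 LD3_c45)) :=
  Lgr Lrot75 (Lpe (f220089 IH) (Lpr_ff (f329338 IH) (Lpe (f250769 IH) (Lpn (LP (LK LD1_c4 LD2_c18 LD3_c45))))))
theorem f329349 : Led Lsl_af (LP (LK LD1_c4 LD2_c13 LD3_c1)) = (LP (LK LD1_c4 LD2_c18 LD3_c45)) :=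
  Lgr Lrot31 (Lpr_gf (K18.f270732 IH) (Lpe (K14.f246682 IH) (Lpr_ft (f329342 IH) (Lpn (LP (LK LD1_c4 LD2_c18 LD3_c45))))))
theorem f250827 : Led Lsl_et (LP (LK LD1_c8 LD2_c36 LD3_c11)) = (LP (LK LD1_c4 LD2_c18 LD3_c45)) :=
  Lre_e IH (LK LD1_c8 LD2_c36 LD3_c11) (LK LD1_c4 LD2_c18 LD3_c45) Lrfl Lrfl
theorem f329357 : Led Lsl_at (LP (LK LD1_c8 LD2_c25 LD3_c17)) = (LP (LK LD1_c8 LD2_c36 LD3_c11)) :=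
  Lgr Lrot80 (Lpe (K18.f270761 IH) (Lpr_af (f329349 IH) (Lpe (f250827 IH) (Lpn (LP (LK LD1_c8 LD2_c36 LD3_c11))))))
theorem f292388 : Led Lsl_dt (LP (LK LD1_c15 LD2_c49 LD3_c26)) = (LP (LK LD1_c8 LD2_c25 LD3_c17)) :=
  Lre_d IH (LK LD1_c15 LD2_c49 LD3_c26) (LK LD1_c8 LD2_c25 LD3_c17) Lrfl Lrfl
theorem f250828 : Led Lsl_dt (LP (LK LD1_c8 LD2_c36 LD3_c11)) = (LP (LK LD1_c16 LD2_c7 LD3_c37)) :=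
  Lre_d IH (LK LD1_c8 LD2_c36 LD3_c11) (LK LD1_c16 LD2_c7 LD3_c37) Lrfl Lrfl
theorem f329363 : Led Lsl_af (LP (LK LD1_c15 LD2_c49 LD3_c26)) = (LP (LK LD1_c16 LD2_c7 LD3_c37)) :=
  Lgr Lrot117 (Lpr_dt (f292388 IH) (Lpr_at (f329357 IH) (Lpr_dt (f250828 IH) (Lpn (LP (LK LD1_c16 LD2_c7 LD3_c37))))))
theorem f255970 : Led Lsl_et (LP (LK LD1_c15 LD2_c49 LD3_c26)) = (LP (LK LD1_c25 LD2_c45 LD3_c41)) :=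
  Lre_e IH (LK LD1_c15 LD2_c49 LD3_c26) (LK LD1_c25 LD2_c45 LD3_c41) Lrfl Lrfl
theorem f329369 : Led Lsl_et (LP (LK LD1_c26 LD2_c4 LD3_c3)) = (LP (LK LD1_c16 LD2_c7 LD3_c37)) :=
  Lre_e IH (LK LD1_c26 LD2_c4 LD3_c3) (LK LD1_c16 LD2_c7 LD3_c37) Lrfl Lrfl
theorem f329370 : Led Lsl_at (LP (LK LD1_c25 LD2_c45 LD3_c41)) = (LP (LK LD1_c26 LD2_c4 LD3_c3)) :=
  Lgr Lrot80 (Lpe (f255970 IH) (Lpr_af (f329363 IH) (Lpe (f329369 IH) (Lpn (LP (LK LD1_c26 LD2_c4 LD3_c3))))))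
theorem f255969 : Led Lsl_dt (LP (LK LD1_c15 LD2_c49 LD3_c24)) = (LP (LK LD1_c25 LD2_c45 LD3_c41)) :=
  Lre_d IH (LK LD1_c15 LD2_c49 LD3_c24) (LK LD1_c25 LD2_c45 LD3_c41) Lrfl Lrfl
theorem f329374 : Led Lsl_dt (LP (LK LD1_c26 LD2_c4 LD3_c3)) = (LP (LK LD1_c16 LD2_c7 LD3_c36)) :=
  Lre_d IH (LK LD1_c26 LD2_c4 LD3_c3) (LK LD1_c16 LD2_c7 LD3_c36) Lrfl Lrfl
theorem f329375 : Led Lsl_af (LP (LK LD1_c15 LD2_c49 LD3_c24)) = (LP (LK LD1_c16 LD2_c7 LD3_c36)) :=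
  Lgr Lrot117 (Lpr_dt (f255969 IH) (Lpr_at (f329370 IH) (Lpr_dt (f329374 IH) (Lpn (LP (LK LD1_c16 LD2_c7 LD3_c36))))))
theorem f329377 : Led Lsl_at (LP (LK LD1_c15 LD2_c49 LD3_c24)) = (LP (LK LD1_c16 LD2_c7 LD3_c36)) :=
  Lgr Lrot100 (Lpr_af (f329375 IH) (Lpn (LP (LK LD1_c16 LD2_c7 LD3_c36))))
theorem f232319 : Led Lsl_et (LP (LK LD1_c8 LD2_c25 LD3_c16)) = (LP (LK LD1_c15 LD2_c49 LD3_c24)) :=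
  Lre_e IH (LK LD1_c8 LD2_c25 LD3_c16) (LK LD1_c15 LD2_c49 LD3_c24) Lrfl Lrfl
theorem f290234 : Led Lsl_et (LP (LK LD1_c16 LD2_c7 LD3_c36)) = (LP (LK LD1_c8 LD2_c36 LD3_c10)) :=
  Lre_e IH (LK LD1_c16 LD2_c7 LD3_c36) (LK LD1_c8 LD2_c36 LD3_c10) Lrfl Lrfl
theorem f329379 : Led Lsl_af (LP (LK LD1_c8 LD2_c25 LD3_c16)) = (LP (LK LD1_c8 LD2_c36 LD3_c10)) :=
  Lgr Lrot50 (Lpr_et (f232319 IH) (Lpr_at (f329377 IH) (Lpr_et (f290234 IH) (Lpn (LP (LK LD1_c8 LD2_c36 LD3_c10))))))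
theorem f329383 : Led Lsl_ft (LP (LK LD1_c8 LD2_c25 LD3_c20)) = (LP (LK LD1_c8 LD2_c36 LD3_c10)) :=
  Lgr Lrot2 (Lpe (K19.f270730 IH) (Lpr_gt (K16.f270759 IH) (Lpr_af (f329379 IH) (Lpn (LP (LK LD1_c8 LD2_c36 LD3_c10))))))
theorem f329385 : Led Lsl_ff (LP (LK LD1_c8 LD2_c21 LD3_c19)) = (LP (LK LD1_c8 LD2_c22 LD3_c43)) :=
  Lgr Lrot23 (Lpe (K19.f310111 IH) (Lpr_ft (f329383 IH) (Lpr_ct (K17.f290212 IH) (Lpn (LP (LK LD1_c8 LD2_c22 LD3_c43))))))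
theorem f329393 : Led Lsl_at (LP (LK LD1_c8 LD2_c21 LD3_c19)) = (LP (LK LD1_c8 LD2_c22 LD3_c44)) :=
  Lgr Lrot26 (Lpr_ff (f329385 IH) (Lpe (K17.f290210 IH) (Lpe (K17.f290088 IH) (Lpn (LP (LK LD1_c8 LD2_c22 LD3_c44))))))
theorem f290214 : Led Lsl_cf (LP (LK LD1_c8 LD2_c36 LD3_c10)) = (LP (LK LD1_c8 LD2_c22 LD3_c43)) :=
  Lgr Lrot14 (Lpe (K17.f250825 IH) (Lpe (K17.f250818 IH) (Lpe (K17.f243281 IH) (Lpe (K17.f270724 IH) (Lpr_ct (K19.f271167 IH) (Lpr_gt (K17.f167769 IH) (Lpr_dt (K14.f167768 IH) (Lpr_gt (K14.f170261 IH) (Lpr_dt (K17.f290201 IH) (Lpn (LP (LK LD1_c8 LD2_c22 LD3_c43))))))))))))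
theorem f329381 : Led Lsl_at (LP (LK LD1_c8 LD2_c21 LD3_c22)) = (LP (LK LD1_c8 LD2_c22 LD3_c43)) :=
  Lgr Lrot107 (Lpe (K18.f300835 IH) (Lpr_af (f329379 IH) (Lpr_cf (f290214 IH) (Lpn (LP (LK LD1_c8 LD2_c22 LD3_c43))))))
theorem f329401 : Led Lsl_ff (LP (LK LD1_c8 LD2_c21 LD3_c22)) = (LP (LK LD1_c8 LD2_c22 LD3_c44)) :=
  Lgr Lrot30 (Lpr_at (f329381 IH) (Lpe (f329385 IH) (Lpr_at (f329393 IH) (Lpn (LP (LK LD1_c8 LD2_c22 LD3_c44))))))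
theorem f329405 : Led Lsl_ft (LP (LK LD1_c8 LD2_c21 LD3_c22)) = (LP (LK LD1_c8 LD2_c22 LD3_c44)) :=
  Lgr Lrot48 (Lpr_ff (f329401 IH) (Lpn (LP (LK LD1_c8 LD2_c22 LD3_c44))))
theorem f329409 : Led Lsl_ff (LP (LK LD1_c8 LD2_c25 LD3_c16)) = (LP (LK LD1_c8 LD2_c36 LD3_c5)) :=
  Lgr Lrot23 (Lpr_ct (K18.f300835 IH) (Lpr_ft (f329405 IH) (Lpe (K17.f267605 IH) (Lpn (LP (LK LD1_c8 LD2_c36 LD3_c5))))))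
theorem f329413 : Led Lsl_ft (LP (LK LD1_c4 LD2_c13 LD3_c1)) = (LP (LK LD1_c4 LD2_c18 LD3_c43)) :=
  Lgr Lrot54 (Lpe (K16.f213893 IH) (Lpr_ff (f329409 IH) (Lpe (K17.f267597 IH) (Lpn (LP (LK LD1_c4 LD2_c18 LD3_c43))))))
theorem f329421 : Led Lsl_ff (LP (LK LD1_c4 LD2_c13 LD3_c1)) = (LP (LK LD1_c4 LD2_c18 LD3_c43)) :=
  Lgr Lrot3 (Lpr_ft (f329413 IH) (Lpn (LP (LK LD1_c4 LD2_c18 LD3_c43))))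
theorem f329427 : Led Lsl_ft (LP (LK LD1_c2 LD2_c3 LD3_c48)) = (LP (LK LD1_c2 LD2_c6 LD3_c39)) :=
  Lgr Lrot4 (Lpe (K16.f178760 IH) (Lpr_ff (f329421 IH) (Lpe (K13.f179602 IH) (Lpn (LP (LK LD1_c2 LD2_c6 LD3_c39))))))
theorem f329431 : Led Lsl_af (LP (LK LD1_c2 LD2_c3 LD3_c49)) = (LP (LK LD1_c2 LD2_c6 LD3_c39)) :=
  Lgr Lrot31 (Lpe (K14.f246650 IH) (Lpr_gf (K14.f246680 IH) (Lpr_ft (f329427 IH) (Lpn (LP (LK LD1_c2 LD2_c6 LD3_c39))))))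
theorem f329433 : Led Lsl_at (LP (LK LD1_c4 LD2_c13 LD3_c5)) = (LP (LK LD1_c4 LD2_c18 LD3_c44)) :=
  Lgr Lrot80 (Lpe (K19.f246645 IH) (Lpr_af (f329431 IH) (Lpe (K16.f171506 IH) (Lpn (LP (LK LD1_c4 LD2_c18 LD3_c44))))))
theorem f310873 : Led Lsl_ft (LP (LK LD1_c8 LD2_c25 LD3_c23)) = (LP (LK LD1_c4 LD2_c13 LD3_c5)) :=
  Lre_f IH (LK LD1_c8 LD2_c25 LD3_c23) (LK LD1_c4 LD2_c13 LD3_c5) Lrfl Lrfl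
theorem f254919 : Led Lsl_ft (LP (LK LD1_c4 LD2_c18 LD3_c44)) = (LP (LK LD1_c8 LD2_c36 LD3_c8)) :=
  Lre_f IH (LK LD1_c4 LD2_c18 LD3_c44) (LK LD1_c8 LD2_c36 LD3_c8) Lrfl Lrfl
theorem f329443 : Led Lsl_af (LP (LK LD1_c8 LD2_c25 LD3_c23)) = (LP (LK LD1_c8 LD2_c36 LD3_c8)) :=
  Lgr Lrot45 (Lpr_ft (f310873 IH) (Lpr_at (f329433 IH) (Lpr_ft (f254919 IH) (Lpn (LP (LK LD1_c8 LD2_c36 LD3_c8))))))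
theorem f329449 : Led Lsl_gf (LP (LK LD1_c8 LD2_c25 LD3_c23)) = (LP (LK LD1_c8 LD2_c36 LD3_c7)) :=
  Lgr Lrot76 (Lpr_af (f329443 IH) (Lpe (f254919 IH) (Lpr_gt (K16.f179647 IH) (Lpn (LP (LK LD1_c8 LD2_c36 LD3_c7))))))
theorem f170104 : Led Lsl_et (LP (LK LD1_c9 LD2_c37 LD3_c31)) = (LP (LK LD1_c4 LD2_c52 LD3_c43)) :=
  Lre_e IH (LK LD1_c9 LD2_c37 LD3_c31) (LK LD1_c4 LD2_c52 LD3_c43) Lrfl Lrfl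
theorem f228878 : Led Lsl_et (LP (LK LD1_c4 LD2_c13 LD3_c2)) = (LP (LK LD1_c2 LD2_c3 LD3_c48)) :=
  Lre_e IH (LK LD1_c4 LD2_c13 LD3_c2) (LK LD1_c2 LD2_c3 LD3_c48) Lrfl Lrfl
theorem f301673 : Led Lsl_dt (LP (LK LD1_c4 LD2_c13 LD3_c2)) = (LP (LK LD1_c4 LD2_c6 LD3_c34)) :=
  Lgr Lrot42 (Lpr_df (K18.f301667 IH) (Lpn (LP (LK LD1_c4 LD2_c6 LD3_c34))))
theorem f182744 : Led Lsl_gt (LP (LK LD1_c8 LD2_c13 LD3_c42)) = (LP (LK LD1_c4 LD2_c6 LD3_c34)) :=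
  Lre_g IH (LK LD1_c8 LD2_c13 LD3_c42) (LK LD1_c4 LD2_c6 LD3_c34) Lrfl Lrfl
theorem f326852 : Led Lsl_dt (LP (LK LD1_c9 LD2_c37 LD3_c31)) = (LP (LK LD1_c8 LD2_c13 LD3_c42)) :=
  Lgr Lrot136 (Lpr_et (f170104 IH) (Lpr_gf (f326838 IH) (Lpe (f222088 IH) (Lpr_dt (K12.f167249 IH) (Lpe (K14.f246674 IH) (Lpe (K14.f230313 IH) (Lpr_gf (K14.f246680 IH) (Lpe (f228878 IH) (Lpr_dt (f301673 IH) (Lpe (f182744 IH) (Lpn (LP (LK LD1_c8 LD2_c13 LD3_c42)))))))))))))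
theorem f325009 : Led Lsl_gt (LP (LK LD1_c15 LD2_c27 LD3_c34)) = (LP (LK LD1_c8 LD2_c13 LD3_c42)) :=
  Lgr Lrot5 (Lpr_ft (f191452 IH) (Lpr_at (f324996 IH) (Lpe (f182744 IH) (Lpn (LP (LK LD1_c8 LD2_c13 LD3_c42))))))
theorem f191460 : Led Lsl_ft (LP (LK LD1_c8 LD2_c13 LD3_c5)) = (LP (LK LD1_c15 LD2_c27 LD3_c34)) :=
  Lre_f IH (LK LD1_c8 LD2_c13 LD3_c5) (LK LD1_c15 LD2_c27 LD3_c34) Lrfl Lrfl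
theorem f250780 : Led Lsl_ft (LP (LK LD1_c8 LD2_c36 LD3_c13)) = (LP (LK LD1_c4 LD2_c18 LD3_c46)) :=
  Lre_f IH (LK LD1_c8 LD2_c36 LD3_c13) (LK LD1_c4 LD2_c18 LD3_c46) Lrfl Lrfl
theorem f251697 : Led Lsl_dt (LP (LK LD1_c15 LD2_c27 LD3_c34)) = (LP (LK LD1_c8 LD2_c36 LD3_c13)) :=
  Lgr Lrot60 (Lpe (f191460 IH) (Lpr_df (K16.f251689 IH) (Lpe (f250780 IH) (Lpn (LP (LK LD1_c8 LD2_c36 LD3_c13))))))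
theorem f251707 : Led Lsl_df (LP (LK LD1_c15 LD2_c27 LD3_c34)) = (LP (LK LD1_c8 LD2_c36 LD3_c13)) :=
  Lgr Lrot38 (Lpr_dt (f251697 IH) (Lpn (LP (LK LD1_c8 LD2_c36 LD3_c13))))
theorem f329453 : Led Lsl_ef (LP (LK LD1_c8 LD2_c25 LD3_c23)) = (LP (LK LD1_c8 LD2_c36 LD3_c13)) :=
  Lgr Lrot17 (Lpr_gf (f329449 IH) (Lpr_ef (f305908 IH) (Lpr_dt (f219372 IH) (Lpe (f219367 IH) (Lpr_df (K12.f219357 IH) (Lpe (f326836 IH) (Lpe (f170104 IH) (Lpr_dt (f326852 IH) (Lpe (f325009 IH) (Lpr_df (f251707 IH) (Lpn (LP (LK LD1_c8 LD2_c36 LD3_c13)))))))))))))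
theorem f329457 : Led Lsl_et (LP (LK LD1_c8 LD2_c25 LD3_c23)) = (LP (LK LD1_c8 LD2_c36 LD3_c13)) :=
  Lgr Lrot87 (Lpr_ef (f329453 IH) (Lpn (LP (LK LD1_c8 LD2_c36 LD3_c13))))
theorem f260418 : Led Lsl_ct (LP (LK LD1_c4 LD2_c16 LD3_c10)) = (LP (LK LD1_c8 LD2_c31 LD3_c29)) :=
  Lre_c IH (LK LD1_c4 LD2_c16 LD3_c10) (LK LD1_c8 LD2_c31 LD3_c29) Lrfl Lrfl
theorem f307109 : Led Lsl_bt (LP (LK LD1_c4 LD2_c55 LD3_c7)) = (LP (LK LD1_c2 LD2_c25 LD3_c31)) :=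
  Lre_b IH (LK LD1_c4 LD2_c55 LD3_c7) (LK LD1_c2 LD2_c25 LD3_c31) Lrfl Lrfl
theorem f307111 : Led Lsl_ct (LP (LK LD1_c4 LD2_c55 LD3_c7)) = (LP (LK LD1_c9 LD2_c41 LD3_c46)) :=
  Lre_c IH (LK LD1_c4 LD2_c55 LD3_c7) (LK LD1_c9 LD2_c41 LD3_c46) Lrfl Lrfl
theorem f310849 : Led Lsl_gt (LP (LK LD1_c8 LD2_c31 LD3_c29)) = (LP (LK LD1_c9 LD2_c41 LD3_c46)) :=
  Lgr Lrot65 (Lpe (f260418 IH) (Lpr_bt (K16.f260416 IH) (Lpe (K17.f42921 IH) (Lpe (K19.f310834 IH) (Lpr_ct (K19.f310839 IH) (Lpe (K19.f241009 IH) (Lpe (K19.f241008 IH) (Lpr_gf (K19.f307097 IH) (Lpe (f307109 IH) (Lpr_ct (f307111 IH) (Lpn (LP (LK LD1_c9 LD2_c41 LD3_c46)))))))))))))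
theorem f283144 : Led Lsl_ct (LP (LK LD1_c8 LD2_c17 LD3_c21)) = (LP (LK LD1_c15 LD2_c35 LD3_c15)) :=
  Lre_c IH (LK LD1_c8 LD2_c17 LD3_c21) (LK LD1_c15 LD2_c35 LD3_c15) Lrfl Lrfl
theorem f307110 : Led Lsl_ct (LP (LK LD1_c9 LD2_c41 LD3_c46)) = (LP (LK LD1_c4 LD2_c55 LD3_c7)) :=
  Lre_c IH (LK LD1_c9 LD2_c41 LD3_c46) (LK LD1_c4 LD2_c55 LD3_c7) Lrfl Lrfl
theorem f220123 : Led Lsl_et (LP (LK LD1_c4 LD2_c13 LD3_c3)) = (LP (LK LD1_c8 LD2_c25 LD3_c18)) :=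
  Lre_e IH (LK LD1_c4 LD2_c13 LD3_c3) (LK LD1_c8 LD2_c25 LD3_c18) Lrfl Lrfl
theorem f246705 : Led Lsl_et (LP (LK LD1_c4 LD2_c55 LD3_c7)) = (LP (LK LD1_c2 LD2_c25 LD3_c26)) :=
  Lre_e IH (LK LD1_c4 LD2_c55 LD3_c7) (LK LD1_c2 LD2_c25 LD3_c26) Lrfl Lrfl
theorem f246706 : Led Lsl_dt (LP (LK LD1_c8 LD2_c25 LD3_c18)) = (LP (LK LD1_c4 LD2_c55 LD3_c7)) :=
  Lgr Lrot77 (Lpe (f220123 IH) (Lpr_df (K14.f246701 IH) (Lpe (K15.f246704 IH) (Lpe (K15.f219092 IH) (Lpe (f246705 IH) (Lpn (LP (LK LD1_c4 LD2_c55 LD3_c7))))))))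
theorem f220095 : Led Lsl_et (LP (LK LD1_c4 LD2_c8 LD3_c42)) = (LP (LK LD1_c8 LD2_c17 LD3_c28)) :=
  Lre_e IH (LK LD1_c4 LD2_c8 LD3_c42) (LK LD1_c8 LD2_c17 LD3_c28) Lrfl Lrfl
theorem f220096 : Led Lsl_et (LP (LK LD1_c8 LD2_c25 LD3_c18)) = (LP (LK LD1_c4 LD2_c13 LD3_c3)) :=
  Lre_e IH (LK LD1_c8 LD2_c25 LD3_c18) (LK LD1_c4 LD2_c13 LD3_c3) Lrfl Lrfl
theorem f220097 : Led Lsl_ct (LP (LK LD1_c8 LD2_c17 LD3_c28)) = (LP (LK LD1_c8 LD2_c25 LD3_c18)) :=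
  Lgr Lrot15 (Lpe (f220095 IH) (Lpr_cf (K14.f220068 IH) (Lpe (f220096 IH) (Lpn (LP (LK LD1_c8 LD2_c25 LD3_c18))))))
theorem f310851 : Led Lsl_gt (LP (LK LD1_c15 LD2_c35 LD3_c15)) = (LP (LK LD1_c8 LD2_c17 LD3_c28)) :=
  Lgr Lrot150 (Lpe (f283144 IH) (Lpe (K20.f283142 IH) (Lpr_df (K20.f283138 IH) (Lpe (K20.f301464 IH) (Lpr_ct (f260418 IH) (Lpr_gt (f310849 IH) (Lpr_ct (f307110 IH) (Lpe (f246706 IH) (Lpe (f220097 IH) (Lpn (LP (LK LD1_c8 LD2_c17 LD3_c28))))))))))))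
theorem f310853 : Led Lsl_df (LP (LK LD1_c8 LD2_c25 LD3_c18)) = (LP (LK LD1_c4 LD2_c55 LD3_c7)) :=
  Lgr Lrot162 (Lpe (f220097 IH) (Lpe (f310851 IH) (Lpe (f283144 IH) (Lpe (K20.f283142 IH) (Lpr_dt (f283151 IH) (Lpe (K20.f301464 IH) (Lpr_ct (f260418 IH) (Lpr_gt (f310849 IH) (Lpr_ct (f307110 IH) (Lpn (LP (LK LD1_c4 LD2_c55 LD3_c7))))))))))))
theorem f220108 : Led Lsl_ft (LP (LK LD1_c8 LD2_c25 LD3_c18)) = (LP (LK LD1_c15 LD2_c49 LD3_c28)) :=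
  Lre_f IH (LK LD1_c8 LD2_c25 LD3_c18) (LK LD1_c15 LD2_c49 LD3_c28) Lrfl Lrfl
theorem f310855 : Led Lsl_ft (LP (LK LD1_c9 LD2_c41 LD3_c48)) = (LP (LK LD1_c4 LD2_c55 LD3_c7)) :=
  Lre_f IH (LK LD1_c9 LD2_c41 LD3_c48) (LK LD1_c4 LD2_c55 LD3_c7) Lrfl Lrfl
theorem f310856 : Led Lsl_dt (LP (LK LD1_c15 LD2_c49 LD3_c28)) = (LP (LK LD1_c9 LD2_c41 LD3_c48)) :=
  Lgr Lrot60 (Lpe (f220108 IH) (Lpr_df (f310853 IH) (Lpe (f310855 IH) (Lpn (LP (LK LD1_c9 LD2_c41 LD3_c48))))))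
theorem f310863 : Led Lsl_df (LP (LK LD1_c15 LD2_c49 LD3_c28)) = (LP (LK LD1_c9 LD2_c41 LD3_c48)) :=
  Lgr Lrot38 (Lpr_dt (f310856 IH) (Lpn (LP (LK LD1_c9 LD2_c41 LD3_c48))))
theorem f220116 : Led Lsl_bt (LP (LK LD1_c15 LD2_c49 LD3_c28)) = (LP (LK LD1_c8 LD2_c25 LD3_c23)) :=
  Lre_b IH (LK LD1_c15 LD2_c49 LD3_c28) (LK LD1_c8 LD2_c25 LD3_c23) Lrfl Lrfl
theorem f310865 : Led Lsl_bt (LP (LK LD1_c4 LD2_c55 LD3_c15)) = (LP (LK LD1_c9 LD2_c41 LD3_c48)) :=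
  Lre_b IH (LK LD1_c4 LD2_c55 LD3_c15) (LK LD1_c9 LD2_c41 LD3_c48) Lrfl Lrfl
theorem f310866 : Led Lsl_dt (LP (LK LD1_c8 LD2_c25 LD3_c23)) = (LP (LK LD1_c4 LD2_c55 LD3_c15)) :=
  Lgr Lrot79 (Lpe (f220116 IH) (Lpr_df (f310863 IH) (Lpe (f310865 IH) (Lpn (LP (LK LD1_c4 LD2_c55 LD3_c15))))))
theorem f329451 : Led Lsl_gt (LP (LK LD1_c4 LD2_c55 LD3_c15)) = (LP (LK LD1_c2 LD2_c45 LD3_c49)) :=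
  Lgr Lrot139 (Lpe (f310866 IH) (Lpr_gf (f329449 IH) (Lpr_ef (f305908 IH) (Lpr_dt (f219372 IH) (Lpe (f219367 IH) (Lpr_df (K12.f219357 IH) (Lpr_et (K12.f219355 IH) (Lpr_gf (K14.f256056 IH) (Lpe (K16.f180049 IH) (Lpe (K14.f180064 IH) (Lpn (LP (LK LD1_c2 LD2_c45 LD3_c49)))))))))))))
theorem f329461 : Led Lsl_gt (LP (LK LD1_c4 LD2_c19 LD3_c25)) = (LP (LK LD1_c8 LD2_c36 LD3_c13)) :=
  Lgr Lrot131 (Lpe (K14.f254021 IH) (Lpr_dt (K15.f254056 IH) (Lpr_gf (K15.f256802 IH) (Lpe (K12.f219354 IH) (Lpr_gf (K14.f256056 IH) (Lpe (K16.f180049 IH) (Lpe (K14.f180064 IH) (Lpe (f329451 IH) (Lpe (f310866 IH) (Lpr_et (f329457 IH) (Lpn (LP (LK LD1_c8 LD2_c36 LD3_c13)))))))))))))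
theorem f254040 : Led Lsl_bf (LP (LK LD1_c4 LD2_c19 LD3_c25)) = (LP (LK LD1_c4 LD2_c12 LD3_c59)) :=
  Lgr Lrot93 (Lpr_dt (K14.f254022 IH) (Lpr_bt (K15.f221686 IH) (Lpr_dt (K19.f252097 IH) (Lpn (LP (LK LD1_c4 LD2_c12 LD3_c59))))))
theorem f261144 : Led Lsl_ct (LP (LK LD1_c4 LD2_c12 LD3_c59)) = (LP (LK LD1_c8 LD2_c25 LD3_c12)) :=
  Lre_c IH (LK LD1_c4 LD2_c12 LD3_c59) (LK LD1_c8 LD2_c25 LD3_c12) Lrfl Lrfl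
theorem f324635 : Led Lsl_gt (LP (LK LD1_c8 LD2_c40 LD3_c19)) = (LP (LK LD1_c4 LD2_c21 LD3_c30)) :=
  Lgr Lrot112 (Lpr_df (f324629 IH) (Lpr_et (f192339 IH) (Lpe (K20.f192338 IH) (Lpe (K19.f192337 IH) (Lpr_dt (K15.f164160 IH) (Lpe (K10.f192264 IH) (Lpe (K0.f31137 IH) (Lpr_gf (K10.f31212 IH) (Lpe (K14.f31214 IH) (Lpe (K14.f255565 IH) (Lpn (LP (LK LD1_c4 LD2_c21 LD3_c30)))))))))))))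
theorem f292398 : Led Lsl_ft (LP (LK LD1_c8 LD2_c18 LD3_c1)) = (LP (LK LD1_c15 LD2_c36 LD3_c38)) :=
  Lre_f IH (LK LD1_c8 LD2_c18 LD3_c1) (LK LD1_c15 LD2_c36 LD3_c38) Lrfl Lrfl
theorem f292399 : Led Lsl_at (LP (LK LD1_c15 LD2_c36 LD3_c38)) = (LP (LK LD1_c15 LD2_c49 LD3_c25)) :=
  Lgr Lrot66 (Lpe (f292398 IH) (Lpe (f292382 IH) (Lpr_ff (f292383 IH) (Lpn (LP (LK LD1_c15 LD2_c49 LD3_c25))))))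
theorem f236310 : Led Lsl_gt (LP (LK LD1_c8 LD2_c18 LD3_c1)) = (LP (LK LD1_c15 LD2_c36 LD3_c36)) :=
  Lre_g IH (LK LD1_c8 LD2_c18 LD3_c1) (LK LD1_c15 LD2_c36 LD3_c36) Lrfl Lrfl
theorem f292425 : Led Lsl_gt (LP (LK LD1_c15 LD2_c36 LD3_c36)) = (LP (LK LD1_c15 LD2_c49 LD3_c25)) :=
  Lgr Lrot46 (Lpe (f236310 IH) (Lpr_ft (f292398 IH) (Lpr_at (f292399 IH) (Lpn (LP (LK LD1_c15 LD2_c49 LD3_c25))))))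
theorem f329465 : Led Lsl_cf (LP (LK LD1_c15 LD2_c36 LD3_c36)) = (LP (LK LD1_c8 LD2_c36 LD3_c13)) :=
  Lgr Lrot125 (Lpr_gt (f292425 IH) (Lpe (f292402 IH) (Lpe (f324641 IH) (Lpr_gt (f324635 IH) (Lpe (K15.f267145 IH) (Lpr_ct (K19.f267175 IH) (Lpr_gt (K17.f287795 IH) (Lpe (f261144 IH) (Lpe (f254040 IH) (Lpr_gt (f329461 IH) (Lpn (LP (LK LD1_c8 LD2_c36 LD3_c13)))))))))))))
theorem f269533 : Led Lsl_af (LP (LK LD1_c17 LD2_c36 LD3_c40)) = (LP (LK LD1_c9 LD2_c34 LD3_c61)) :=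
  Lgr Lrot0 (Lpr_at (K16.f269531 IH) (Lpn (LP (LK LD1_c9 LD2_c34 LD3_c61))))
theorem f269549 : Led Lsl_gt (LP (LK LD1_c8 LD2_c40 LD3_c34)) = (LP (LK LD1_c9 LD2_c33 LD3_c50)) :=
  Lgr Lrot5 (Lpr_ft (K16.f269543 IH) (Lpe (f269533 IH) (Lpe (K16.f167392 IH) (Lpn (LP (LK LD1_c9 LD2_c33 LD3_c50))))))
theorem f250779 : Led Lsl_ft (LP (LK LD1_c5 LD2_c29 LD3_c34)) = (LP (LK LD1_c10 LD2_c50 LD3_c23)) :=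
  Lre_f IH (LK LD1_c5 LD2_c29 LD3_c34) (LK LD1_c10 LD2_c50 LD3_c23) Lrfl Lrfl
theorem f250781 : Led Lsl_bt (LP (LK LD1_c10 LD2_c50 LD3_c23)) = (LP (LK LD1_c8 LD2_c36 LD3_c13)) :=
  Lgr Lrot35 (Lpe (f250779 IH) (Lpr_bf (K19.f250773 IH) (Lpe (f250780 IH) (Lpn (LP (LK LD1_c8 LD2_c36 LD3_c13))))))
theorem f250786 : Led Lsl_bf (LP (LK LD1_c10 LD2_c50 LD3_c23)) = (LP (LK LD1_c8 LD2_c36 LD3_c13)) :=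
  Lgr Lrot24 (Lpr_bt (f250781 IH) (Lpn (LP (LK LD1_c8 LD2_c36 LD3_c13))))
theorem f329473 : Led Lsl_gt (LP (LK LD1_c8 LD2_c26 LD3_c43)) = (LP (LK LD1_c10 LD2_c50 LD3_c23)) :=
  Lgr Lrot164 (Lpr_bf (K19.f167382 IH) (Lpr_ct (K20.f167385 IH) (Lpe (f269549 IH) (Lpe (K19.f255563 IH) (Lpe (f324635 IH) (Lpr_bf (f324641 IH) (Lpr_ct (f292402 IH) (Lpe (f292425 IH) (Lpr_cf (f329465 IH) (Lpe (f250786 IH) (Lpn (LP (LK LD1_c10 LD2_c50 LD3_c23)))))))))))))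
theorem f243329 : Led Lsl_et (LP (LK LD1_c8 LD2_c31 LD3_c58)) = (LP (LK LD1_c4 LD2_c16 LD3_c22)) :=
  Lre_e IH (LK LD1_c8 LD2_c31 LD3_c58) (LK LD1_c4 LD2_c16 LD3_c22) Lrfl Lrfl
theorem f53845 : Led Lsl_ef (LP (LK LD1_c2 LD2_c34 LD3_c16)) = (LP (LK LD1_c2 LD2_c35 LD3_c20)) :=
  Lgr Lrot20 (Lpe (K10.f33433 IH) (Lpr_et (K13.f53843 IH) (Lpe (K10.f53622 IH) (Lpn (LP (LK LD1_c2 LD2_c35 LD3_c20))))))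
theorem f213780 : Led Lsl_et (LP (LK LD1_c5 LD2_c29 LD3_c37)) = (LP (LK LD1_c2 LD2_c41 LD3_c4)) :=
  Lre_e IH (LK LD1_c5 LD2_c29 LD3_c37) (LK LD1_c2 LD2_c41 LD3_c4) Lrfl Lrfl
theorem f220519 : Led Lsl_et (LP (LK LD1_c2 LD2_c41 LD3_c4)) = (LP (LK LD1_c5 LD2_c29 LD3_c37)) :=
  Lre_e IH (LK LD1_c2 LD2_c41 LD3_c4) (LK LD1_c5 LD2_c29 LD3_c37) Lrfl Lrfl
theorem f220521 : Led Lsl_et (LP (LK LD1_c4 LD2_c14 LD3_c7)) = (LP (LK LD1_c2 LD2_c4 LD3_c26)) :=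
  Lre_e IH (LK LD1_c4 LD2_c14 LD3_c7) (LK LD1_c2 LD2_c4 LD3_c26) Lrfl Lrfl
theorem f220522 : Led Lsl_dt (LP (LK LD1_c5 LD2_c29 LD3_c37)) = (LP (LK LD1_c4 LD2_c14 LD3_c7)) :=
  Lgr Lrot77 (Lpe (f220519 IH) (Lpr_df (K12.f220515 IH) (Lpe (K15.f220520 IH) (Lpe (K15.f167328 IH) (Lpe (f220521 IH) (Lpn (LP (LK LD1_c4 LD2_c14 LD3_c7))))))))
theorem f250535 : Led Lsl_gt (LP (LK LD1_c8 LD2_c26 LD3_c47)) = (LP (LK LD1_c4 LD2_c14 LD3_c7)) :=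
  Lre_g IH (LK LD1_c8 LD2_c26 LD3_c47) (LK LD1_c4 LD2_c14 LD3_c7) Lrfl Lrfl
theorem f250536 : Led Lsl_dt (LP (LK LD1_c8 LD2_c31 LD3_c58)) = (LP (LK LD1_c8 LD2_c26 LD3_c47)) :=
  Lgr Lrot136 (Lpr_et (f243329 IH) (Lpr_gf (K14.f250525 IH) (Lpr_ef (f53845 IH) (Lpr_dt (K10.f44922 IH) (Lpr_gf (K12.f213765 IH) (Lpe (K12.f168351 IH) (Lpe (K12.f168373 IH) (Lpe (f213780 IH) (Lpr_dt (f220522 IH) (Lpe (f250535 IH) (Lpn (LP (LK LD1_c8 LD2_c26 LD3_c47)))))))))))))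
theorem f220112 : Led Lsl_bt (LP (LK LD1_c8 LD2_c25 LD3_c23)) = (LP (LK LD1_c15 LD2_c49 LD3_c28)) :=
  Lre_b IH (LK LD1_c8 LD2_c25 LD3_c23) (LK LD1_c15 LD2_c49 LD3_c28) Lrfl Lrfl
theorem f329455 : Led Lsl_et (LP (LK LD1_c15 LD2_c49 LD3_c28)) = (LP (LK LD1_c10 LD2_c50 LD3_c23)) :=
  Lgr Lrot74 (Lpe (f220112 IH) (Lpr_ef (f329453 IH) (Lpe (f250781 IH) (Lpn (LP (LK LD1_c10 LD2_c50 LD3_c23))))))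
theorem f329477 : Led Lsl_gf (LP (LK LD1_c8 LD2_c26 LD3_c47)) = (LP (LK LD1_c9 LD2_c41 LD3_c48)) :=
  Lgr Lrot145 (Lpe (f250536 IH) (Lpr_et (f243329 IH) (Lpe (K15.f243316 IH) (Lpr_dt (K15.f188602 IH) (Lpe (K10.f188736 IH) (Lpe (K13.f167321 IH) (Lpr_et (K13.f167377 IH) (Lpr_gt (f329473 IH) (Lpe (f329455 IH) (Lpr_dt (f310856 IH) (Lpn (LP (LK LD1_c9 LD2_c41 LD3_c48)))))))))))))
theorem f329479 : Led Lsl_af (LP (LK LD1_c4 LD2_c14 LD3_c7)) = (LP (LK LD1_c4 LD2_c55 LD3_c7)) :=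
  Lgr Lrot31 (Lpe (f250535 IH) (Lpr_gf (f329477 IH) (Lpr_ft (f310855 IH) (Lpn (LP (LK LD1_c4 LD2_c55 LD3_c7))))))
theorem f260978 : Led Lsl_ft (LP (LK LD1_c4 LD2_c14 LD3_c7)) = (LP (LK LD1_c8 LD2_c26 LD3_c48)) :=
  Lre_f IH (LK LD1_c4 LD2_c14 LD3_c7) (LK LD1_c8 LD2_c26 LD3_c48) Lrfl Lrfl
theorem f329493 : Led Lsl_at (LP (LK LD1_c8 LD2_c26 LD3_c48)) = (LP (LK LD1_c9 LD2_c41 LD3_c48)) :=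
  Lgr Lrot66 (Lpe (f260978 IH) (Lpr_af (f329479 IH) (Lpe (f310855 IH) (Lpn (LP (LK LD1_c9 LD2_c41 LD3_c48))))))
theorem f250554 : Led Lsl_bt (LP (LK LD1_c8 LD2_c26 LD3_c41)) = (LP (LK LD1_c4 LD2_c14 LD3_c7)) :=
  Lre_b IH (LK LD1_c8 LD2_c26 LD3_c41) (LK LD1_c4 LD2_c14 LD3_c7) Lrfl Lrfl
theorem f260962 : Led Lsl_df (LP (LK LD1_c5 LD2_c29 LD3_c37)) = (LP (LK LD1_c4 LD2_c14 LD3_c7)) :=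
  Lgr Lrot12 (Lpr_bt (f220379 IH) (Lpr_dt (K20.f260960 IH) (Lpr_bt (f250554 IH) (Lpn (LP (LK LD1_c4 LD2_c14 LD3_c7))))))
theorem f260974 : Led Lsl_ft (LP (LK LD1_c5 LD2_c29 LD3_c37)) = (LP (LK LD1_c10 LD2_c50 LD3_c29)) :=
  Lre_f IH (LK LD1_c5 LD2_c29 LD3_c37) (LK LD1_c10 LD2_c50 LD3_c29) Lrfl Lrfl
theorem f260975 : Led Lsl_ft (LP (LK LD1_c8 LD2_c26 LD3_c48)) = (LP (LK LD1_c4 LD2_c14 LD3_c7)) :=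
  Lre_f IH (LK LD1_c8 LD2_c26 LD3_c48) (LK LD1_c4 LD2_c14 LD3_c7) Lrfl Lrfl
theorem f260976 : Led Lsl_dt (LP (LK LD1_c10 LD2_c50 LD3_c29)) = (LP (LK LD1_c8 LD2_c26 LD3_c48)) :=
  Lgr Lrot60 (Lpe (f260974 IH) (Lpr_df (f260962 IH) (Lpe (f260975 IH) (Lpn (LP (LK LD1_c8 LD2_c26 LD3_c48))))))
theorem f329497 : Led Lsl_af (LP (LK LD1_c10 LD2_c50 LD3_c29)) = (LP (LK LD1_c15 LD2_c49 LD3_c28)) :=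
  Lgr Lrot117 (Lpr_dt (f260976 IH) (Lpr_at (f329493 IH) (Lpe (f310863 IH) (Lpn (LP (LK LD1_c15 LD2_c49 LD3_c28))))))
theorem f329499 : Led Lsl_at (LP (LK LD1_c10 LD2_c50 LD3_c29)) = (LP (LK LD1_c15 LD2_c49 LD3_c28)) :=
  Lgr Lrot100 (Lpr_af (f329497 IH) (Lpn (LP (LK LD1_c15 LD2_c49 LD3_c28))))
theorem f220119 : Led Lsl_ft (LP (LK LD1_c15 LD2_c49 LD3_c28)) = (LP (LK LD1_c8 LD2_c25 LD3_c18)) :=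
  Lre_f IH (LK LD1_c15 LD2_c49 LD3_c28) (LK LD1_c8 LD2_c25 LD3_c18) Lrfl Lrfl
theorem f329503 : Led Lsl_af (LP (LK LD1_c5 LD2_c29 LD3_c37)) = (LP (LK LD1_c8 LD2_c25 LD3_c18)) :=
  Lgr Lrot45 (Lpr_ft (f260974 IH) (Lpr_at (f329499 IH) (Lpr_ft (f220119 IH) (Lpn (LP (LK LD1_c8 LD2_c25 LD3_c18))))))
theorem f220120 : Led Lsl_bt (LP (LK LD1_c4 LD2_c13 LD3_c5)) = (LP (LK LD1_c8 LD2_c25 LD3_c18)) :=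
  Lre_b IH (LK LD1_c4 LD2_c13 LD3_c5) (LK LD1_c8 LD2_c25 LD3_c18) Lrfl Lrfl
theorem f329437 : Led Lsl_af (LP (LK LD1_c4 LD2_c13 LD3_c5)) = (LP (LK LD1_c4 LD2_c18 LD3_c44)) :=
  Lgr Lrot0 (Lpr_at (f329433 IH) (Lpn (LP (LK LD1_c4 LD2_c18 LD3_c44))))
theorem f329507 : Led Lsl_at (LP (LK LD1_c10 LD2_c50 LD3_c24)) = (LP (LK LD1_c8 LD2_c36 LD3_c3)) :=
  Lgr Lrot67 (Lpe (f220379 IH) (Lpr_af (f329503 IH) (Lpe (f220120 IH) (Lpr_af (f329437 IH) (Lpe (K16.f179631 IH) (Lpn (LP (LK LD1_c8 LD2_c36 LD3_c3))))))))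
theorem f329525 : Led Lsl_af (LP (LK LD1_c8 LD2_c26 LD3_c41)) = (LP (LK LD1_c8 LD2_c17 LD3_c58)) :=
  Lgr Lrot117 (Lpe (K20.f260964 IH) (Lpr_at (f329507 IH) (Lpr_dt (K16.f219305 IH) (Lpn (LP (LK LD1_c8 LD2_c17 LD3_c58))))))
theorem f219318 : Led Lsl_ft (LP (LK LD1_c15 LD2_c36 LD3_c27)) = (LP (LK LD1_c8 LD2_c17 LD3_c58)) :=
  Lre_f IH (LK LD1_c15 LD2_c36 LD3_c27) (LK LD1_c8 LD2_c17 LD3_c58) Lrfl Lrfl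
theorem f329533 : Led Lsl_gf (LP (LK LD1_c9 LD2_c0 LD3_c59)) = (LP (LK LD1_c15 LD2_c36 LD3_c27)) :=
  Lgr Lrot47 (Lpr_gt (K16.f260941 IH) (Lpr_af (f329525 IH) (Lpe (f219318 IH) (Lpn (LP (LK LD1_c15 LD2_c36 LD3_c27))))))
theorem f329535 : Led Lsl_gt (LP (LK LD1_c15 LD2_c51 LD3_c26)) = (LP (LK LD1_c15 LD2_c36 LD3_c27)) :=
  Lgr Lrot5 (Lpe (K16.f273887 IH) (Lpr_at (K16.f273881 IH) (Lpr_gf (f329533 IH) (Lpn (LP (LK LD1_c15 LD2_c36 LD3_c27))))))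
theorem f300985 : Led Lsl_bf (LP (LK LD1_c15 LD2_c51 LD3_c26)) = (LP (LK LD1_c10 LD2_c51 LD3_c37)) :=
  Lgr Lrot93 (Lpe (K17.f260949 IH) (Lpr_bt (K15.f258477 IH) (Lpr_dt (K18.f300981 IH) (Lpn (LP (LK LD1_c10 LD2_c51 LD3_c37))))))
theorem f245776 : Led Lsl_bt (LP (LK LD1_c2 LD2_c41 LD3_c39)) = (LP (LK LD1_c1 LD2_c17 LD3_c29)) :=
  Lre_b IH (LK LD1_c2 LD2_c41 LD3_c39) (LK LD1_c1 LD2_c17 LD3_c29) Lrfl Lrfl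
theorem f245777 : Led Lsl_ct (LP (LK LD1_c2 LD2_c41 LD3_c39)) = (LP (LK LD1_c5 LD2_c30 LD3_c50)) :=
  Lre_c IH (LK LD1_c2 LD2_c41 LD3_c39) (LK LD1_c5 LD2_c30 LD3_c50) Lrfl Lrfl
theorem f329543 : Led Lsl_gt (LP (LK LD1_c10 LD2_c53 LD3_c12)) = (LP (LK LD1_c5 LD2_c30 LD3_c50)) :=
  Lre_g IH (LK LD1_c10 LD2_c53 LD3_c12) (LK LD1_c5 LD2_c30 LD3_c50) Lrfl Lrfl
theorem f329544 : Led Lsl_cf (LP (LK LD1_c10 LD2_c53 LD3_c12)) = (LP (LK LD1_c15 LD2_c36 LD3_c27)) :=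
  Lgr Lrot125 (Lpr_gt (f329543 IH) (Lpe (f245777 IH) (Lpr_bt (f245776 IH) (Lpr_gt (K13.f178845 IH) (Lpe (K20.f273703 IH) (Lpr_ct (f236215 IH) (Lpr_gt (K18.f216987 IH) (Lpe (K18.f282916 IH) (Lpe (f300985 IH) (Lpr_gt (f329535 IH) (Lpn (LP (LK LD1_c15 LD2_c36 LD3_c27)))))))))))))
theorem f329553 : Led Lsl_ct (LP (LK LD1_c5 LD2_c30 LD3_c50)) = (LP (LK LD1_c2 LD2_c41 LD3_c39)) :=
  Lre_c IH (LK LD1_c5 LD2_c30 LD3_c50) (LK LD1_c2 LD2_c41 LD3_c39) Lrfl Lrfl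
theorem f258452 : Led Lsl_gt (LP (LK LD1_c24 LD2_c54 LD3_c44)) = (LP (LK LD1_c15 LD2_c6 LD3_c41)) :=
  Lre_g IH (LK LD1_c24 LD2_c54 LD3_c44) (LK LD1_c15 LD2_c6 LD3_c41) Lrfl Lrfl
theorem f316184 : Led Lsl_gt (LP (LK LD1_c8 LD2_c34 LD3_c29)) = (LP (LK LD1_c4 LD2_c17 LD3_c43)) :=
  Lre_g IH (LK LD1_c8 LD2_c34 LD3_c29) (LK LD1_c4 LD2_c17 LD3_c43) Lrfl Lrfl
theorem f220370 : Led Lsl_dt (LP (LK LD1_c15 LD2_c42 LD3_c27)) = (LP (LK LD1_c8 LD2_c20 LD3_c42)) :=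
  Lre_d IH (LK LD1_c15 LD2_c42 LD3_c27) (LK LD1_c8 LD2_c20 LD3_c42) Lrfl Lrfl
theorem f247131 : Led Lsl_ft (LP (LK LD1_c15 LD2_c6 LD3_c42)) = (LP (LK LD1_c8 LD2_c1 LD3_c28)) :=
  Lre_f IH (LK LD1_c15 LD2_c6 LD3_c42) (LK LD1_c8 LD2_c1 LD3_c28) Lrfl Lrfl
theorem f247132 : Led Lsl_df (LP (LK LD1_c9 LD2_c0 LD3_c59)) = (LP (LK LD1_c8 LD2_c1 LD3_c28)) :=
  Lgr Lrot78 (Lpr_ft (K16.f247067 IH) (Lpr_dt (K16.f247128 IH) (Lpr_ft (f247131 IH) (Lpn (LP (LK LD1_c8 LD2_c1 LD3_c28))))))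
theorem f247139 : Led Lsl_gt (LP (LK LD1_c15 LD2_c6 LD3_c41)) = (LP (LK LD1_c8 LD2_c1 LD3_c28)) :=
  Lre_g IH (LK LD1_c15 LD2_c6 LD3_c41) (LK LD1_c8 LD2_c1 LD3_c28) Lrfl Lrfl
theorem f316188 : Led Lsl_cf (LP (LK LD1_c8 LD2_c34 LD3_c29)) = (LP (LK LD1_c15 LD2_c6 LD3_c41)) :=
  Lgr Lrot166 (Lpr_gt (f316184 IH) (Lpr_dt (K20.f316175 IH) (Lpr_gt (K20.f316176 IH) (Lpr_dt (f220370 IH) (Lpr_ct (f220358 IH) (Lpr_df (K20.f260964 IH) (Lpe (K16.f260941 IH) (Lpr_df (f247132 IH) (Lpe (f247139 IH) (Lpn (LP (LK LD1_c15 LD2_c6 LD3_c41))))))))))))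
theorem f307763 : Led Lsl_ct (LP (LK LD1_c4 LD2_c17 LD3_c43)) = (LP (LK LD1_c2 LD2_c6 LD3_c12)) :=
  Lre_c IH (LK LD1_c4 LD2_c17 LD3_c43) (LK LD1_c2 LD2_c6 LD3_c12) Lrfl Lrfl
theorem f329556 : Led Lsl_df (LP (LK LD1_c2 LD2_c41 LD3_c39)) = (LP (LK LD1_c2 LD2_c6 LD3_c12)) :=
  Lgr Lrot162 (Lpe (f329553 IH) (Lpe (f329543 IH) (Lpr_cf (f329544 IH) (Lpe (f329535 IH) (Lpe (K17.f260949 IH) (Lpr_gt (f258452 IH) (Lpe (f316188 IH) (Lpr_gt (f316184 IH) (Lpr_ct (f307763 IH) (Lpn (LP (LK LD1_c2 LD2_c6 LD3_c12))))))))))))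
theorem f7967 : Led Lsl_gt (LP (LK LD1_c4 LD2_c17 LD3_c45)) = (LP (LK LD1_c2 LD2_c6 LD3_c12)) :=
  Lre_g IH (LK LD1_c4 LD2_c17 LD3_c45) (LK LD1_c2 LD2_c6 LD3_c12) Lrfl Lrfl
theorem f7968 : Led Lsl_et (LP (LK LD1_c8 LD2_c34 LD3_c39)) = (LP (LK LD1_c4 LD2_c17 LD3_c45)) :=
  Lre_e IH (LK LD1_c8 LD2_c34 LD3_c39) (LK LD1_c4 LD2_c17 LD3_c45) Lrfl Lrfl
theorem f279105 : Led Lsl_bt (LP (LK LD1_c8 LD2_c53 LD3_c23)) = (LP (LK LD1_c16 LD2_c37 LD3_c17)) :=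
  Lre_b IH (LK LD1_c8 LD2_c53 LD3_c23) (LK LD1_c16 LD2_c37 LD3_c17) Lrfl Lrfl
theorem f279129 : Led Lsl_ct (LP (LK LD1_c4 LD2_c27 LD3_c47)) = (LP (LK LD1_c8 LD2_c53 LD3_c23)) :=
  Lre_c IH (LK LD1_c4 LD2_c27 LD3_c47) (LK LD1_c8 LD2_c53 LD3_c23) Lrfl Lrfl
theorem f276917 : Led Lsl_bt (LP (LK LD1_c10 LD2_c35 LD3_c50)) = (LP (LK LD1_c5 LD2_c22 LD3_c47)) :=
  Lre_b IH (LK LD1_c10 LD2_c35 LD3_c50) (LK LD1_c5 LD2_c22 LD3_c47) Lrfl Lrfl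
theorem f289072 : Led Lsl_bf (LP (LK LD1_c4 LD2_c27 LD3_c47)) = (LP (LK LD1_c2 LD2_c37 LD3_c57)) :=
  Lgr Lrot90 (Lpr_ct (f279129 IH) (Lpr_bt (f279105 IH) (Lpr_ct (K17.f289059 IH) (Lpr_bt (f276917 IH) (Lpr_ct (K19.f224363 IH) (Lpn (LP (LK LD1_c2 LD2_c37 LD3_c57))))))))
theorem f298408 : Led Lsl_gt (LP (LK LD1_c4 LD2_c27 LD3_c47)) = (LP (LK LD1_c8 LD2_c53 LD3_c24)) :=
  Lre_g IH (LK LD1_c4 LD2_c27 LD3_c47) (LK LD1_c8 LD2_c53 LD3_c24) Lrfl Lrfl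
theorem f299011 : Led Lsl_bt (LP (LK LD1_c8 LD2_c36 LD3_c44)) = (LP (LK LD1_c8 LD2_c53 LD3_c24)) :=
  Lgr Lrot92 (Lpr_ct (K19.f299006 IH) (Lpe (K19.f298443 IH) (Lpe (K18.f200492 IH) (Lpr_bt (K18.f200488 IH) (Lpr_gt (K19.f298404 IH) (Lpe (K19.f298406 IH) (Lpr_gt (K19.f276758 IH) (Lpe (K16.f224361 IH) (Lpe (f289072 IH) (Lpr_gt (f298408 IH) (Lpn (LP (LK LD1_c8 LD2_c53 LD3_c24)))))))))))))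
theorem f299013 : Led Lsl_bf (LP (LK LD1_c8 LD2_c36 LD3_c44)) = (LP (LK LD1_c8 LD2_c53 LD3_c24)) :=
  Lgr Lrot24 (Lpr_bt (f299011 IH) (Lpn (LP (LK LD1_c8 LD2_c53 LD3_c24))))
theorem f310494 : Led Lsl_bt (LP (LK LD1_c16 LD2_c5 LD3_c45)) = (LP (LK LD1_c8 LD2_c34 LD3_c39)) :=
  Lre_b IH (LK LD1_c16 LD2_c5 LD3_c45) (LK LD1_c8 LD2_c34 LD3_c39) Lrfl Lrfl
theorem f310495 : Led Lsl_df (LP (LK LD1_c8 LD2_c53 LD3_c24)) = (LP (LK LD1_c8 LD2_c34 LD3_c39)) :=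
  Lgr Lrot12 (Lpe (f299013 IH) (Lpr_dt (K19.f310492 IH) (Lpr_bt (f310494 IH) (Lpn (LP (LK LD1_c8 LD2_c34 LD3_c39))))))
theorem f278976 : Led Lsl_df (LP (LK LD1_c4 LD2_c27 LD3_c47)) = (LP (LK LD1_c4 LD2_c17 LD3_c15)) :=
  Lgr Lrot18 (Lpr_at (K16.f278968 IH) (Lpe (K12.f7794 IH) (Lpr_at (K15.f7797 IH) (Lpn (LP (LK LD1_c4 LD2_c17 LD3_c15))))))
theorem f267557 : Led Lsl_et (LP (LK LD1_c4 LD2_c17 LD3_c15)) = (LP (LK LD1_c2 LD2_c5 LD3_c59)) :=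
  Lre_e IH (LK LD1_c4 LD2_c17 LD3_c15) (LK LD1_c2 LD2_c5 LD3_c59) Lrfl Lrfl
theorem f178736 : Led Lsl_et (LP (LK LD1_c4 LD2_c10 LD3_c12)) = (LP (LK LD1_c2 LD2_c2 LD3_c18)) :=
  Lre_e IH (LK LD1_c4 LD2_c10 LD3_c12) (LK LD1_c2 LD2_c2 LD3_c18) Lrfl Lrfl
theorem f329570 : Led Lsl_gt (LP (LK LD1_c2 LD2_c41 LD3_c39)) = (LP (LK LD1_c4 LD2_c27 LD3_c33)) :=
  Lgr Lrot139 (Lpr_df (f329556 IH) (Lpe (f7967 IH) (Lpe (f7968 IH) (Lpe (f310495 IH) (Lpe (f298408 IH) (Lpr_df (f278976 IH) (Lpr_et (f267557 IH) (Lpr_gf (K15.f267551 IH) (Lpe (f178736 IH) (Lpe (K15.f182265 IH) (Lpn (LP (LK LD1_c4 LD2_c27 LD3_c33)))))))))))))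
theorem f182273 : Led Lsl_dt (LP (LK LD1_c4 LD2_c27 LD3_c33)) = (LP (LK LD1_c4 LD2_c10 LD3_c12)) :=
  Lgr Lrot42 (Lpr_df (K15.f182265 IH) (Lpn (LP (LK LD1_c4 LD2_c10 LD3_c12))))
theorem f182286 : Led Lsl_gt (LP (LK LD1_c4 LD2_c10 LD3_c12)) = (LP (LK LD1_c8 LD2_c20 LD3_c33)) :=
  Lre_g IH (LK LD1_c4 LD2_c10 LD3_c12) (LK LD1_c8 LD2_c20 LD3_c33) Lrfl Lrfl
theorem f182312 : Led Lsl_dt (LP (LK LD1_c15 LD2_c42 LD3_c10)) = (LP (LK LD1_c8 LD2_c20 LD3_c33)) :=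
  Lre_d IH (LK LD1_c15 LD2_c42 LD3_c10) (LK LD1_c8 LD2_c20 LD3_c33) Lrfl Lrfl
theorem f169338 : Led Lsl_bt (LP (LK LD1_c0 LD2_c59 LD3_c57)) = (LP (LK LD1_c2 LD2_c5 LD3_c44)) :=
  Lre_b IH (LK LD1_c0 LD2_c59 LD3_c57) (LK LD1_c2 LD2_c5 LD3_c44) Lrfl Lrfl
theorem f165978 : Led Lsl_bt (LP (LK LD1_c2 LD2_c34 LD3_c61)) = (LP (LK LD1_c1 LD2_c14 LD3_c30)) :=
  Lre_b IH (LK LD1_c2 LD2_c34 LD3_c61) (LK LD1_c1 LD2_c14 LD3_c30) Lrfl Lrfl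
theorem f169339 : Led Lsl_dt (LP (LK LD1_c2 LD2_c5 LD3_c44)) = (LP (LK LD1_c2 LD2_c34 LD3_c61)) :=
  Lgr Lrot79 (Lpe (f169338 IH) (Lpr_df (K10.f167622 IH) (Lpe (f165978 IH) (Lpn (LP (LK LD1_c2 LD2_c34 LD3_c61))))))
theorem f274445 : Led Lsl_gt (LP (LK LD1_c11 LD2_c52 LD3_c22)) = (LP (LK LD1_c6 LD2_c4 LD3_c27)) :=
  Lre_g IH (LK LD1_c11 LD2_c52 LD3_c22) (LK LD1_c6 LD2_c4 LD3_c27) Lrfl Lrfl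
theorem f302854 : Led Lsl_et (LP (LK LD1_c4 LD2_c18 LD3_c5)) = (LP (LK LD1_c8 LD2_c35 LD3_c9)) :=
  Lre_e IH (LK LD1_c4 LD2_c18 LD3_c5) (LK LD1_c8 LD2_c35 LD3_c9) Lrfl Lrfl
theorem f169422 : Led Lsl_et (LP (LK LD1_c8 LD2_c33 LD3_c21)) = (LP (LK LD1_c4 LD2_c16 LD3_c57)) :=
  Lre_e IH (LK LD1_c8 LD2_c33 LD3_c21) (LK LD1_c4 LD2_c16 LD3_c57) Lrfl Lrfl
theorem f184454 : Led Lsl_gt (LP (LK LD1_c4 LD2_c16 LD3_c43)) = (LP (LK LD1_c8 LD2_c32 LD3_c44)) :=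
  Lre_g IH (LK LD1_c4 LD2_c16 LD3_c43) (LK LD1_c8 LD2_c32 LD3_c44) Lrfl Lrfl
theorem f232746 : Led Lsl_gt (LP (LK LD1_c8 LD2_c32 LD3_c44)) = (LP (LK LD1_c4 LD2_c17 LD3_c13)) :=
  Lgr Lrot46 (Lpe (f184454 IH) (Lpr_ft (K13.f232740 IH) (Lpe (K13.f219204 IH) (Lpn (LP (LK LD1_c4 LD2_c17 LD3_c13))))))
theorem f182313 : Led Lsl_et (LP (LK LD1_c15 LD2_c42 LD3_c11)) = (LP (LK LD1_c8 LD2_c20 LD3_c33)) :=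
  Lre_e IH (LK LD1_c15 LD2_c42 LD3_c11) (LK LD1_c8 LD2_c20 LD3_c33) Lrfl Lrfl
theorem f253994 : Led Lsl_df (LP (LK LD1_c8 LD2_c32 LD3_c44)) = (LP (LK LD1_c15 LD2_c42 LD3_c11)) :=
  Lgr Lrot170 (Lpr_gt (f232746 IH) (Lpe (K13.f199843 IH) (Lpr_et (K11.f199836 IH) (Lpe (K14.f199832 IH) (Lpr_dt (K18.f167503 IH) (Lpr_gt (K14.f253988 IH) (Lpr_df (K14.f182260 IH) (Lpr_et (K15.f182264 IH) (Lpr_gt (f182286 IH) (Lpe (f182313 IH) (Lpn (LP (LK LD1_c15 LD2_c42 LD3_c11)))))))))))))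
theorem f253997 : Led Lsl_dt (LP (LK LD1_c8 LD2_c32 LD3_c44)) = (LP (LK LD1_c15 LD2_c42 LD3_c11)) :=
  Lgr Lrot42 (Lpr_df (f253994 IH) (Lpn (LP (LK LD1_c15 LD2_c42 LD3_c11))))
theorem f254002 : Led Lsl_gf (LP (LK LD1_c8 LD2_c20 LD3_c61)) = (LP (LK LD1_c15 LD2_c42 LD3_c11)) :=
  Lgr Lrot134 (Lpe (f184440 IH) (Lpr_et (f169422 IH) (Lpr_gt (K18.f169398 IH) (Lpe (K20.f169414 IH) (Lpr_dt (K10.f169377 IH) (Lpr_gt (K13.f167313 IH) (Lpe (K13.f184452 IH) (Lpr_et (K13.f184453 IH) (Lpr_gt (f184454 IH) (Lpr_dt (f253997 IH) (Lpn (LP (LK LD1_c15 LD2_c42 LD3_c11)))))))))))))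
theorem f253999 : Led Lsl_et (LP (LK LD1_c8 LD2_c32 LD3_c44)) = (LP (LK LD1_c16 LD2_c2 LD3_c42)) :=
  Lre_e IH (LK LD1_c8 LD2_c32 LD3_c44) (LK LD1_c16 LD2_c2 LD3_c42) Lrfl Lrfl
theorem f302867 : Led Lsl_gf (LP (LK LD1_c16 LD2_c2 LD3_c42)) = (LP (LK LD1_c8 LD2_c35 LD3_c9)) :=
  Lgr Lrot141 (Lpe (f253999 IH) (Lpr_dt (f253997 IH) (Lpe (f254002 IH) (Lpe (f184440 IH) (Lpr_et (f169422 IH) (Lpr_gt (K18.f169398 IH) (Lpr_dt (f169339 IH) (Lpr_gt (K20.f165947 IH) (Lpr_df (K20.f302852 IH) (Lpr_et (f302854 IH) (Lpn (LP (LK LD1_c8 LD2_c35 LD3_c9)))))))))))))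
theorem f302869 : Led Lsl_df (LP (LK LD1_c11 LD2_c52 LD3_c22)) = (LP (LK LD1_c16 LD2_c2 LD3_c42)) :=
  Lgr Lrot135 (Lpr_gt (f274445 IH) (Lpe (f290175 IH) (Lpr_et (K19.f169424 IH) (Lpr_gt (K14.f169423 IH) (Lpe (K10.f169376 IH) (Lpr_dt (f169339 IH) (Lpr_gt (K20.f165947 IH) (Lpr_df (K20.f302852 IH) (Lpr_et (f302854 IH) (Lpe (f302867 IH) (Lpn (LP (LK LD1_c16 LD2_c2 LD3_c42)))))))))))))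
theorem f254000 : Led Lsl_et (LP (LK LD1_c8 LD2_c20 LD3_c33)) = (LP (LK LD1_c15 LD2_c42 LD3_c11)) :=
  Lre_e IH (LK LD1_c8 LD2_c20 LD3_c33) (LK LD1_c15 LD2_c42 LD3_c11) Lrfl Lrfl
theorem f302875 : Led Lsl_et (LP (LK LD1_c11 LD2_c52 LD3_c22)) = (LP (LK LD1_c15 LD2_c42 LD3_c10)) :=
  Lgr Lrot71 (Lpr_df (f302869 IH) (Lpe (f253999 IH) (Lpr_df (f253994 IH) (Lpe (f254000 IH) (Lpe (f182312 IH) (Lpn (LP (LK LD1_c15 LD2_c42 LD3_c10))))))))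
theorem f302884 : Led Lsl_ef (LP (LK LD1_c11 LD2_c52 LD3_c22)) = (LP (LK LD1_c15 LD2_c42 LD3_c10)) :=
  Lgr Lrot88 (Lpr_et (f302875 IH) (Lpn (LP (LK LD1_c15 LD2_c42 LD3_c10))))
theorem f329658 : Led Lsl_ef (LP (LK LD1_c2 LD2_c41 LD3_c39)) = (LP (LK LD1_c2 LD2_c38 LD3_c7)) :=
  Lgr Lrot167 (Lpr_gt (f329570 IH) (Lpr_dt (f182273 IH) (Lpr_gt (f182286 IH) (Lpe (f182312 IH) (Lpe (f302884 IH) (Lpr_gt (f274445 IH) (Lpe (f274444 IH) (Lpr_dt (K16.f274442 IH) (Lpe (K16.f274440 IH) (Lpe (K14.f184395 IH) (Lpn (LP (LK LD1_c2 LD2_c38 LD3_c7)))))))))))))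
theorem f7960 : Led Lsl_et (LP (LK LD1_c2 LD2_c6 LD3_c12)) = (LP (LK LD1_c1 LD2_c0 LD3_c6)) :=
  Lre_e IH (LK LD1_c2 LD2_c6 LD3_c12) (LK LD1_c1 LD2_c0 LD3_c6) Lrfl Lrfl
theorem f267038 : Led Lsl_gf (LP (LK LD1_c8 LD2_c33 LD3_c50)) = (LP (LK LD1_c8 LD2_c20 LD3_c33)) :=
  Lgr Lrot76 (Lpr_af (K15.f267011 IH) (Lpe (K17.f182280 IH) (Lpr_gt (f182286 IH) (Lpn (LP (LK LD1_c8 LD2_c20 LD3_c33))))))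
theorem f329572 : Led Lsl_gf (LP (LK LD1_c2 LD2_c41 LD3_c39)) = (LP (LK LD1_c4 LD2_c28 LD3_c3)) :=
  Lgr Lrot134 (Lpr_df (f329556 IH) (Lpr_et (f7960 IH) (Lpe (K14.f232845 IH) (Lpe (K13.f232712 IH) (Lpe (K13.f232713 IH) (Lpr_gt (f184454 IH) (Lpr_df (f253994 IH) (Lpr_et (f182313 IH) (Lpe (f267038 IH) (Lpr_dt (K14.f247381 IH) (Lpn (LP (LK LD1_c4 LD2_c28 LD3_c3)))))))))))))
theorem f293754 : Led Lsl_dt (LP (LK LD1_c10 LD2_c28 LD3_c41)) = (LP (LK LD1_c10 LD2_c1 LD3_c44)) :=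
  Lgr Lrot42 (Lpr_df (K18.f293750 IH) (Lpn (LP (LK LD1_c10 LD2_c1 LD3_c44))))
theorem f240445 : Led Lsl_gt (LP (LK LD1_c10 LD2_c16 LD3_c30)) = (LP (LK LD1_c5 LD2_c13 LD3_c6)) :=
  Lre_g IH (LK LD1_c10 LD2_c16 LD3_c30) (LK LD1_c5 LD2_c13 LD3_c6) Lrfl Lrfl
theorem f293742 : Led Lsl_gf (LP (LK LD1_c10 LD2_c16 LD3_c30)) = (LP (LK LD1_c10 LD2_c1 LD3_c44)) :=
  Lgr Lrot47 (Lpr_gt (f240445 IH) (Lpr_af (K18.f293730 IH) (Lpe (K18.f230818 IH) (Lpn (LP (LK LD1_c10 LD2_c1 LD3_c44))))))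
theorem f265359 : Led Lsl_dt (LP (LK LD1_c2 LD2_c37 LD3_c26)) = (LP (LK LD1_c5 LD2_c13 LD3_c6)) :=
  Lgr Lrot60 (Lpe (K18.f265339 IH) (Lpr_df (K20.f265357 IH) (Lpe (K18.f240441 IH) (Lpn (LP (LK LD1_c5 LD2_c13 LD3_c6))))))
theorem f253357 : Led Lsl_et (LP (LK LD1_c2 LD2_c11 LD3_c8)) = (LP (LK LD1_c4 LD2_c27 LD3_c57)) :=
  Lre_e IH (LK LD1_c2 LD2_c11 LD3_c8) (LK LD1_c4 LD2_c27 LD3_c57) Lrfl Lrfl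
theorem f231373 : Led Lsl_gt (LP (LK LD1_c4 LD2_c27 LD3_c57)) = (LP (LK LD1_c8 LD2_c53 LD3_c51)) :=
  Lre_g IH (LK LD1_c4 LD2_c27 LD3_c57) (LK LD1_c8 LD2_c53 LD3_c51) Lrfl Lrfl
theorem f275254 : Led Lsl_et (LP (LK LD1_c16 LD2_c38 LD3_c27)) = (LP (LK LD1_c8 LD2_c53 LD3_c51)) :=
  Lre_e IH (LK LD1_c16 LD2_c38 LD3_c27) (LK LD1_c8 LD2_c53 LD3_c51) Lrfl Lrfl
theorem f275255 : Led Lsl_df (LP (LK LD1_c10 LD2_c16 LD3_c30)) = (LP (LK LD1_c16 LD2_c38 LD3_c27)) :=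
  Lgr Lrot170 (Lpr_gt (f240445 IH) (Lpe (f265359 IH) (Lpr_et (K15.f195901 IH) (Lpe (K15.f215447 IH) (Lpr_dt (K16.f275192 IH) (Lpr_gt (K16.f253423 IH) (Lpe (K14.f231289 IH) (Lpr_et (f253357 IH) (Lpr_gt (f231373 IH) (Lpe (f275254 IH) (Lpn (LP (LK LD1_c16 LD2_c38 LD3_c27)))))))))))))
theorem f275296 : Led Lsl_dt (LP (LK LD1_c10 LD2_c30 LD3_c36)) = (LP (LK LD1_c8 LD2_c20 LD3_c39)) :=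
  Lgr Lrot60 (Lpe (K15.f231428 IH) (Lpr_df (K16.f275287 IH) (Lpe (K16.f236955 IH) (Lpn (LP (LK LD1_c8 LD2_c20 LD3_c39))))))
theorem f305401 : Led Lsl_gt (LP (LK LD1_c8 LD2_c53 LD3_c51)) = (LP (LK LD1_c5 LD2_c21 LD3_c59)) :=
  Lgr Lrot131 (Lpe (f275254 IH) (Lpe (f275255 IH) (Lpr_gf (f293742 IH) (Lpe (f293754 IH) (Lpe (K18.f276943 IH) (Lpr_ef (K16.f268099 IH) (Lpr_dt (K16.f276740 IH) (Lpr_gf (K20.f305397 IH) (Lpe (f275296 IH) (Lpr_et (K16.f256581 IH) (Lpn (LP (LK LD1_c5 LD2_c21 LD3_c59)))))))))))))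
theorem f252613 : Led Lsl_et (LP (LK LD1_c1 LD2_c16 LD3_c0)) = (LP (LK LD1_c2 LD2_c38 LD3_c5)) :=
  Lre_e IH (LK LD1_c1 LD2_c16 LD3_c0) (LK LD1_c2 LD2_c38 LD3_c5) Lrfl Lrfl
theorem f182835 : Led Lsl_gt (LP (LK LD1_c2 LD2_c38 LD3_c5)) = (LP (LK LD1_c5 LD2_c23 LD3_c15)) :=
  Lre_g IH (LK LD1_c2 LD2_c38 LD3_c5) (LK LD1_c5 LD2_c23 LD3_c15) Lrfl Lrfl
theorem f329664 : Led Lsl_df (LP (LK LD1_c8 LD2_c53 LD3_c51)) = (LP (LK LD1_c5 LD2_c23 LD3_c15)) :=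
  Lgr Lrot135 (Lpr_gt (f305401 IH) (Lpe (K12.f198975 IH) (Lpe (K16.f267087 IH) (Lpe (f329572 IH) (Lpr_ef (f329658 IH) (Lpr_dt (K14.f184395 IH) (Lpr_gt (K14.f42501 IH) (Lpe (K14.f42504 IH) (Lpr_et (f252613 IH) (Lpr_gt (f182835 IH) (Lpn (LP (LK LD1_c5 LD2_c23 LD3_c15)))))))))))))
theorem f275260 : Led Lsl_et (LP (LK LD1_c8 LD2_c53 LD3_c51)) = (LP (LK LD1_c16 LD2_c38 LD3_c27)) :=
  Lre_e IH (LK LD1_c8 LD2_c53 LD3_c51) (LK LD1_c16 LD2_c38 LD3_c27) Lrfl Lrfl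
theorem f288670 : Led Lsl_gt (LP (LK LD1_c10 LD2_c31 LD3_c25)) = (LP (LK LD1_c10 LD2_c16 LD3_c47)) :=
  Lgr Lrot5 (Lpr_ft (K17.f288662 IH) (Lpe (K17.f288604 IH) (Lpe (f256306 IH) (Lpn (LP (LK LD1_c10 LD2_c16 LD3_c47))))))
theorem f215515 : Led Lsl_gt (LP (LK LD1_c4 LD2_c11 LD3_c8)) = (LP (LK LD1_c8 LD2_c21 LD3_c60)) :=
  Lre_g IH (LK LD1_c4 LD2_c11 LD3_c8) (LK LD1_c8 LD2_c21 LD3_c60) Lrfl Lrfl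
theorem f215471 : Led Lsl_dt (LP (LK LD1_c8 LD2_c22 LD3_c16)) = (LP (LK LD1_c4 LD2_c11 LD3_c8)) :=
  Lre_d IH (LK LD1_c8 LD2_c22 LD3_c16) (LK LD1_c4 LD2_c11 LD3_c8) Lrfl Lrfl
theorem f302915 : Led Lsl_df (LP (LK LD1_c8 LD2_c52 LD3_c35)) = (LP (LK LD1_c8 LD2_c22 LD3_c34)) :=
  Lgr Lrot38 (Lpr_dt (f302810 IH) (Lpn (LP (LK LD1_c8 LD2_c22 LD3_c34))))
theorem f322487 : Led Lsl_gt (LP (LK LD1_c15 LD2_c44 LD3_c1)) = (LP (LK LD1_c8 LD2_c23 LD3_c50)) :=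
  Lgr Lrot137 (Lpr_ef (K20.f310203 IH) (Lpe (f302915 IH) (Lpe (f248315 IH) (Lpr_df (K14.f248363 IH) (Lpr_et (K14.f247428 IH) (Lpr_gf (K18.f300817 IH) (Lpe (K17.f7875 IH) (Lpe (K18.f276736 IH) (Lpe (K16.f254406 IH) (Lpr_df (K20.f322480 IH) (Lpn (LP (LK LD1_c8 LD2_c23 LD3_c50)))))))))))))
theorem f325642 : Led Lsl_gf (LP (LK LD1_c8 LD2_c22 LD3_c16)) = (LP (LK LD1_c10 LD2_c34 LD3_c1)) :=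
  Lgr Lrot138 (Lpr_dt (f215471 IH) (Lpr_gt (f215515 IH) (Lpe (K17.f215491 IH) (Lpr_et (K17.f215514 IH) (Lpr_gt (f288670 IH) (Lpr_ef (f325638 IH) (Lpr_dt (K20.f297810 IH) (Lpr_gt (f322487 IH) (Lpe (f322399 IH) (Lpr_et (K20.f256516 IH) (Lpn (LP (LK LD1_c10 LD2_c34 LD3_c1)))))))))))))
theorem f185450 : Led Lsl_gt (LP (LK LD1_c2 LD2_c35 LD3_c51)) = (LP (LK LD1_c5 LD2_c18 LD3_c23)) :=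
  Lre_g IH (LK LD1_c2 LD2_c35 LD3_c51) (LK LD1_c5 LD2_c18 LD3_c23) Lrfl Lrfl
theorem f268058 : Led Lsl_gf (LP (LK LD1_c5 LD2_c19 LD3_c27)) = (LP (LK LD1_c5 LD2_c18 LD3_c23)) :=
  Lgr Lrot76 (Lpr_af (K15.f268044 IH) (Lpe (K15.f268043 IH) (Lpr_gt (f185450 IH) (Lpn (LP (LK LD1_c5 LD2_c18 LD3_c23))))))
theorem f268060 : Led Lsl_dt (LP (LK LD1_c10 LD2_c26 LD3_c34)) = (LP (LK LD1_c5 LD2_c18 LD3_c23)) :=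
  Lre_d IH (LK LD1_c10 LD2_c26 LD3_c34) (LK LD1_c5 LD2_c18 LD3_c23) Lrfl Lrfl
theorem f325649 : Led Lsl_ef (LP (LK LD1_c8 LD2_c22 LD3_c16)) = (LP (LK LD1_c10 LD2_c26 LD3_c34)) :=
  Lgr Lrot17 (Lpr_gf (f325642 IH) (Lpe (K20.f256516 IH) (Lpr_dt (f322399 IH) (Lpe (f322487 IH) (Lpe (K20.f297810 IH) (Lpe (K20.f309170 IH) (Lpe (K19.f276869 IH) (Lpr_dt (f230600 IH) (Lpr_gf (f268058 IH) (Lpe (f268060 IH) (Lpn (LP (LK LD1_c10 LD2_c26 LD3_c34)))))))))))))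
theorem f325656 : Led Lsl_et (LP (LK LD1_c8 LD2_c22 LD3_c16)) = (LP (LK LD1_c10 LD2_c26 LD3_c34)) :=
  Lgr Lrot87 (Lpr_ef (f325649 IH) (Lpn (LP (LK LD1_c10 LD2_c26 LD3_c34))))
theorem f325663 : Led Lsl_gf (LP (LK LD1_c16 LD2_c38 LD3_c27)) = (LP (LK LD1_c10 LD2_c26 LD3_c34)) :=
  Lgr Lrot138 (Lpe (f275255 IH) (Lpr_gt (f240445 IH) (Lpe (f265359 IH) (Lpr_et (K15.f195901 IH) (Lpe (K15.f215447 IH) (Lpr_ef (K16.f215456 IH) (Lpr_dt (K16.f215466 IH) (Lpr_gt (f215470 IH) (Lpe (f215471 IH) (Lpr_et (f325656 IH) (Lpn (LP (LK LD1_c10 LD2_c26 LD3_c34)))))))))))))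
theorem f275258 : Led Lsl_dt (LP (LK LD1_c10 LD2_c16 LD3_c30)) = (LP (LK LD1_c16 LD2_c38 LD3_c27)) :=
  Lgr Lrot42 (Lpr_df (f275255 IH) (Lpn (LP (LK LD1_c16 LD2_c38 LD3_c27))))
theorem f185556 : Led Lsl_dt (LP (LK LD1_c5 LD2_c18 LD3_c23)) = (LP (LK LD1_c10 LD2_c26 LD3_c34)) :=
  Lre_d IH (LK LD1_c5 LD2_c18 LD3_c23) (LK LD1_c10 LD2_c26 LD3_c34) Lrfl Lrfl
theorem f248473 : Led Lsl_et (LP (LK LD1_c1 LD2_c14 LD3_c57)) = (LP (LK LD1_c2 LD2_c35 LD3_c51)) :=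
  Lre_e IH (LK LD1_c1 LD2_c14 LD3_c57) (LK LD1_c2 LD2_c35 LD3_c51) Lrfl Lrfl
theorem f256281 : Led Lsl_et (LP (LK LD1_c2 LD2_c30 LD3_c21)) = (LP (LK LD1_c5 LD2_c6 LD3_c7)) :=
  Lre_e IH (LK LD1_c2 LD2_c30 LD3_c21) (LK LD1_c5 LD2_c6 LD3_c7) Lrfl Lrfl
theorem f251498 : Led Lsl_gt (LP (LK LD1_c10 LD2_c3 LD3_c11)) = (LP (LK LD1_c5 LD2_c6 LD3_c7)) :=
  Lre_g IH (LK LD1_c10 LD2_c3 LD3_c11) (LK LD1_c5 LD2_c6 LD3_c7) Lrfl Lrfl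
theorem f325667 : Led Lsl_et (LP (LK LD1_c10 LD2_c16 LD3_c30)) = (LP (LK LD1_c10 LD2_c3 LD3_c11)) :=
  Lgr Lrot185 (Lpr_dt (f275258 IH) (Lpr_gf (f325663 IH) (Lpe (f185556 IH) (Lpe (f185450 IH) (Lpe (f248473 IH) (Lpe (K14.f248461 IH) (Lpr_gf (K14.f256262 IH) (Lpe (K15.f256270 IH) (Lpr_et (f256281 IH) (Lpe (f251498 IH) (Lpn (LP (LK LD1_c10 LD2_c3 LD3_c11)))))))))))))
theorem f252614 : Led Lsl_et (LP (LK LD1_c10 LD2_c37 LD3_c2)) = (LP (LK LD1_c5 LD2_c23 LD3_c15)) :=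
  Lre_e IH (LK LD1_c10 LD2_c37 LD3_c2) (LK LD1_c5 LD2_c23 LD3_c15) Lrfl Lrfl
theorem f329671 : Led Lsl_dt (LP (LK LD1_c10 LD2_c3 LD3_c11)) = (LP (LK LD1_c10 LD2_c37 LD3_c2)) :=
  Lgr Lrot77 (Lpe (f325667 IH) (Lpr_df (f275255 IH) (Lpe (f275260 IH) (Lpr_df (f329664 IH) (Lpe (f252614 IH) (Lpn (LP (LK LD1_c10 LD2_c37 LD3_c2))))))))
theorem f329731 : Led Lsl_df (LP (LK LD1_c10 LD2_c3 LD3_c11)) = (LP (LK LD1_c10 LD2_c37 LD3_c2)) :=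
  Lgr Lrot38 (Lpr_dt (f329671 IH) (Lpn (LP (LK LD1_c10 LD2_c37 LD3_c2))))
theorem f329554 : Led Lsl_dt (LP (LK LD1_c2 LD2_c41 LD3_c39)) = (LP (LK LD1_c2 LD2_c6 LD3_c12)) :=
  Lgr Lrot27 (Lpe (f329553 IH) (Lpe (f329543 IH) (Lpr_cf (f329544 IH) (Lpe (f329535 IH) (Lpe (K17.f260955 IH) (Lpr_gt (f258452 IH) (Lpe (f316188 IH) (Lpr_gt (f316184 IH) (Lpr_ct (f307763 IH) (Lpn (LP (LK LD1_c2 LD2_c6 LD3_c12))))))))))))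
theorem f307698 : Led Lsl_ef (LP (LK LD1_c5 LD2_c19 LD3_c60)) = (LP (LK LD1_c5 LD2_c16 LD3_c20)) :=
  Lgr Lrot88 (Lpr_et (K19.f307692 IH) (Lpn (LP (LK LD1_c5 LD2_c16 LD3_c20))))
theorem f307705 : Led Lsl_et (LP (LK LD1_c8 LD2_c34 LD3_c34)) = (LP (LK LD1_c10 LD2_c22 LD3_c17)) :=
  Lgr Lrot71 (Lpe (K19.f7965 IH) (Lpe (K19.f7966 IH) (Lpr_df (K19.f256000 IH) (Lpr_ef (f307698 IH) (Lpe (K19.f307702 IH) (Lpn (LP (LK LD1_c10 LD2_c22 LD3_c17))))))))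
theorem f329678 : Led Lsl_et (LP (LK LD1_c5 LD2_c23 LD3_c15)) = (LP (LK LD1_c10 LD2_c37 LD3_c2)) :=
  Lre_e IH (LK LD1_c5 LD2_c23 LD3_c15) (LK LD1_c10 LD2_c37 LD3_c2) Lrfl Lrfl
theorem f329679 : Led Lsl_gt (LP (LK LD1_c10 LD2_c22 LD3_c17)) = (LP (LK LD1_c10 LD2_c37 LD3_c2)) :=
  Lgr Lrot131 (Lpe (f307705 IH) (Lpr_dt (K19.f256003 IH) (Lpe (K19.f7964 IH) (Lpe (f329554 IH) (Lpr_gf (f329572 IH) (Lpr_ef (K16.f267087 IH) (Lpr_dt (K12.f198975 IH) (Lpe (f305401 IH) (Lpr_df (f329664 IH) (Lpr_et (f329678 IH) (Lpn (LP (LK LD1_c10 LD2_c37 LD3_c2)))))))))))))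
theorem f329562 : Led Lsl_et (LP (LK LD1_c2 LD2_c41 LD3_c39)) = (LP (LK LD1_c2 LD2_c38 LD3_c7)) :=
  Lgr Lrot71 (Lpr_df (f329556 IH) (Lpe (K19.f7963 IH) (Lpr_df (K14.f7915 IH) (Lpr_ef (K15.f184391 IH) (Lpe (K14.f184395 IH) (Lpn (LP (LK LD1_c2 LD2_c38 LD3_c7))))))))
theorem f252612 : Led Lsl_et (LP (LK LD1_c2 LD2_c58 LD3_c38)) = (LP (LK LD1_c1 LD2_c25 LD3_c2)) :=
  Lre_e IH (LK LD1_c2 LD2_c58 LD3_c38) (LK LD1_c1 LD2_c25 LD3_c2) Lrfl Lrfl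
theorem f329735 : Led Lsl_df (LP (LK LD1_c5 LD2_c6 LD3_c7)) = (LP (LK LD1_c2 LD2_c58 LD3_c38)) :=
  Lgr Lrot132 (Lpe (f251498 IH) (Lpr_df (f329731 IH) (Lpe (f329679 IH) (Lpe (f307705 IH) (Lpr_dt (K19.f256003 IH) (Lpe (K19.f7964 IH) (Lpe (f329554 IH) (Lpr_et (f329562 IH) (Lpe (K14.f252592 IH) (Lpe (f252612 IH) (Lpn (LP (LK LD1_c2 LD2_c58 LD3_c38)))))))))))))
theorem f329739 : Led Lsl_ft (LP (LK LD1_c5 LD2_c6 LD3_c7)) = (LP (LK LD1_c10 LD2_c3 LD3_c12)) :=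
  Lre_f IH (LK LD1_c5 LD2_c6 LD3_c7) (LK LD1_c10 LD2_c3 LD3_c12) Lrfl Lrfl
theorem f318174 : Led Lsl_ft (LP (LK LD1_c6 LD2_c4 LD3_c55)) = (LP (LK LD1_c2 LD2_c58 LD3_c38)) :=
  Lre_f IH (LK LD1_c6 LD2_c4 LD3_c55) (LK LD1_c2 LD2_c58 LD3_c38) Lrfl Lrfl
theorem f329740 : Led Lsl_dt (LP (LK LD1_c10 LD2_c3 LD3_c12)) = (LP (LK LD1_c6 LD2_c4 LD3_c55)) :=
  Lgr Lrot60 (Lpe (f329739 IH) (Lpr_df (f329735 IH) (Lpe (f318174 IH) (Lpn (LP (LK LD1_c6 LD2_c4 LD3_c55))))))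
theorem f251488 : Led Lsl_bt (LP (LK LD1_c5 LD2_c6 LD3_c7)) = (LP (LK LD1_c10 LD2_c3 LD3_c7)) :=
  Lre_b IH (LK LD1_c5 LD2_c6 LD3_c7) (LK LD1_c10 LD2_c3 LD3_c7) Lrfl Lrfl
theorem f327356 : Led Lsl_ft (LP (LK LD1_c10 LD2_c3 LD3_c12)) = (LP (LK LD1_c5 LD2_c6 LD3_c7)) :=
  Lre_f IH (LK LD1_c10 LD2_c3 LD3_c12) (LK LD1_c5 LD2_c6 LD3_c7) Lrfl Lrfl
theorem f327357 : Led Lsl_bf (LP (LK LD1_c10 LD2_c3 LD3_c12)) = (LP (LK LD1_c15 LD2_c10 LD3_c1)) :=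
  Lgr Lrot61 (Lpr_ft (f327356 IH) (Lpr_bt (f251488 IH) (Lpr_ft (f327354 IH) (Lpn (LP (LK LD1_c15 LD2_c10 LD3_c1))))))
theorem f329747 : Led Lsl_bf (LP (LK LD1_c8 LD2_c36 LD3_c42)) = (LP (LK LD1_c6 LD2_c4 LD3_c55)) :=
  Lgr Lrot93 (Lpe (K19.f260011 IH) (Lpe (f327357 IH) (Lpr_dt (f329740 IH) (Lpn (LP (LK LD1_c6 LD2_c4 LD3_c55))))))
theorem f41477 : Led Lsl_et (LP (LK LD1_c1 LD2_c16 LD3_c19)) = (LP (LK LD1_c0 LD2_c35 LD3_c19)) :=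
  Lre_e IH (LK LD1_c1 LD2_c16 LD3_c19) (LK LD1_c0 LD2_c35 LD3_c19) Lrfl Lrfl
theorem f42552 : Led Lsl_dt (LP (LK LD1_c2 LD2_c38 LD3_c57)) = (LP (LK LD1_c1 LD2_c16 LD3_c19)) :=
  Lre_d IH (LK LD1_c2 LD2_c38 LD3_c57) (LK LD1_c1 LD2_c16 LD3_c19) Lrfl Lrfl
theorem f42553 : Led Lsl_ef (LP (LK LD1_c2 LD2_c38 LD3_c57)) = (LP (LK LD1_c2 LD2_c58 LD3_c23)) :=
  Lgr Lrot73 (Lpr_dt (f42552 IH) (Lpr_et (f41477 IH) (Lpr_dt (K10.f41480 IH) (Lpr_et (K1.f42538 IH) (Lpr_dt (K10.f41785 IH) (Lpn (LP (LK LD1_c2 LD2_c58 LD3_c23))))))))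
theorem f318175 : Led Lsl_ef (LP (LK LD1_c6 LD2_c4 LD3_c55)) = (LP (LK LD1_c5 LD2_c24 LD3_c50)) :=
  Lgr Lrot21 (Lpr_ft (f318174 IH) (Lpr_et (f252612 IH) (Lpr_ft (K20.f318168 IH) (Lpe (f42553 IH) (Lpr_ft (K20.f42634 IH) (Lpn (LP (LK LD1_c5 LD2_c24 LD3_c50))))))))
theorem f194477 : Led Lsl_ft (LP (LK LD1_c5 LD2_c24 LD3_c35)) = (LP (LK LD1_c2 LD2_c38 LD3_c50)) :=
  Lre_f IH (LK LD1_c5 LD2_c24 LD3_c35) (LK LD1_c2 LD2_c38 LD3_c50) Lrfl Lrfl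
theorem f194478 : Led Lsl_ft (LP (LK LD1_c4 LD2_c2 LD3_c60)) = (LP (LK LD1_c8 LD2_c6 LD3_c39)) :=
  Lre_f IH (LK LD1_c4 LD2_c2 LD3_c60) (LK LD1_c8 LD2_c6 LD3_c39) Lrfl Lrfl
theorem f194479 : Led Lsl_df (LP (LK LD1_c5 LD2_c24 LD3_c35)) = (LP (LK LD1_c8 LD2_c6 LD3_c39)) :=
  Lgr Lrot78 (Lpr_ft (f194477 IH) (Lpr_dt (K19.f194434 IH) (Lpr_ft (f194478 IH) (Lpn (LP (LK LD1_c8 LD2_c6 LD3_c39))))))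
theorem f194498 : Led Lsl_dt (LP (LK LD1_c5 LD2_c24 LD3_c35)) = (LP (LK LD1_c8 LD2_c6 LD3_c39)) :=
  Lgr Lrot42 (Lpr_df (f194479 IH) (Lpn (LP (LK LD1_c8 LD2_c6 LD3_c39))))
theorem f194504 : Led Lsl_bt (LP (LK LD1_c2 LD2_c38 LD3_c58)) = (LP (LK LD1_c5 LD2_c24 LD3_c35)) :=
  Lre_b IH (LK LD1_c2 LD2_c38 LD3_c58) (LK LD1_c5 LD2_c24 LD3_c35) Lrfl Lrfl
theorem f194505 : Led Lsl_dt (LP (LK LD1_c5 LD2_c24 LD3_c50)) = (LP (LK LD1_c2 LD2_c38 LD3_c58)) :=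
  Lre_d IH (LK LD1_c5 LD2_c24 LD3_c50) (LK LD1_c2 LD2_c38 LD3_c58) Lrfl Lrfl
theorem f194506 : Led Lsl_bf (LP (LK LD1_c5 LD2_c24 LD3_c50)) = (LP (LK LD1_c8 LD2_c6 LD3_c39)) :=
  Lgr Lrot93 (Lpr_dt (f194505 IH) (Lpr_bt (f194504 IH) (Lpr_dt (f194498 IH) (Lpn (LP (LK LD1_c8 LD2_c6 LD3_c39))))))
theorem f329763 : Led Lsl_et (LP (LK LD1_c8 LD2_c36 LD3_c42)) = (LP (LK LD1_c8 LD2_c6 LD3_c39)) :=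
  Lgr Lrot74 (Lpr_bf (f329747 IH) (Lpr_ef (f318175 IH) (Lpr_bf (f194506 IH) (Lpn (LP (LK LD1_c8 LD2_c6 LD3_c39))))))
theorem f329775 : Led Lsl_gt (LP (LK LD1_c9 LD2_c37 LD3_c39)) = (LP (LK LD1_c8 LD2_c6 LD3_c39)) :=
  Lgr Lrot131 (Lpe (K19.f305506 IH) (Lpr_dt (K19.f170727 IH) (Lpr_gf (K19.f305502 IH) (Lpe (K10.f194733 IH) (Lpr_gf (K19.f305599 IH) (Lpe (K19.f42481 IH) (Lpe (K19.f305603 IH) (Lpr_gf (K19.f296524 IH) (Lpr_df (K19.f260011 IH) (Lpr_et (f329763 IH) (Lpn (LP (LK LD1_c8 LD2_c6 LD3_c39)))))))))))))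
theorem f293294 : Led Lsl_dt (LP (LK LD1_c4 LD2_c4 LD3_c5)) = (LP (LK LD1_c8 LD2_c8 LD3_c53)) :=
  Lre_d IH (LK LD1_c4 LD2_c4 LD3_c5) (LK LD1_c8 LD2_c8 LD3_c53) Lrfl Lrfl
theorem f329779 : Led Lsl_gf (LP (LK LD1_c8 LD2_c8 LD3_c53)) = (LP (LK LD1_c5 LD2_c24 LD3_c35)) :=
  Lgr Lrot134 (Lpe (f293294 IH) (Lpr_et (f328131 IH) (Lpe (f328181 IH) (Lpr_ef (K17.f279738 IH) (Lpr_dt (K10.f194733 IH) (Lpe (K19.f305502 IH) (Lpe (K19.f170727 IH) (Lpr_et (K19.f305506 IH) (Lpr_gt (f329775 IH) (Lpe (f194479 IH) (Lpn (LP (LK LD1_c5 LD2_c24 LD3_c35)))))))))))))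
theorem f194510 : Led Lsl_at (LP (LK LD1_c2 LD2_c38 LD3_c50)) = (LP (LK LD1_c5 LD2_c24 LD3_c29)) :=
  Lre_a IH (LK LD1_c2 LD2_c38 LD3_c50) (LK LD1_c5 LD2_c24 LD3_c29) Lrfl Lrfl
theorem f329781 : Led Lsl_gt (LP (LK LD1_c8 LD2_c8 LD3_c53)) = (LP (LK LD1_c5 LD2_c24 LD3_c29)) :=
  Lgr Lrot46 (Lpr_gf (f329779 IH) (Lpr_ft (f194477 IH) (Lpr_at (f194510 IH) (Lpn (LP (LK LD1_c5 LD2_c24 LD3_c29))))))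
theorem f293292 : Led Lsl_gf (LP (LK LD1_c4 LD2_c4 LD3_c5)) = (LP (LK LD1_c8 LD2_c3 LD3_c2)) :=
  Lgr Lrot47 (Lpr_gt (f211325 IH) (Lpr_af (K18.f293262 IH) (Lpe (K17.f223400 IH) (Lpn (LP (LK LD1_c8 LD2_c3 LD3_c2))))))
theorem f252727 : Led Lsl_dt (LP (LK LD1_c9 LD2_c53 LD3_c3)) = (LP (LK LD1_c5 LD2_c1 LD3_c22)) :=
  Lre_d IH (LK LD1_c9 LD2_c53 LD3_c3) (LK LD1_c5 LD2_c1 LD3_c22) Lrfl Lrfl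
theorem f253023 : Led Lsl_et (LP (LK LD1_c8 LD2_c2 LD3_c47)) = (LP (LK LD1_c4 LD2_c0 LD3_c61)) :=
  Lre_e IH (LK LD1_c8 LD2_c2 LD3_c47) (LK LD1_c4 LD2_c0 LD3_c61) Lrfl Lrfl
theorem f329784 : Led Lsl_dt (LP (LK LD1_c8 LD2_c2 LD3_c47)) = (LP (LK LD1_c5 LD2_c24 LD3_c29)) :=
  Lgr Lrot56 (Lpr_et (f253023 IH) (Lpr_gt (K14.f253002 IH) (Lpe (f252988 IH) (Lpr_dt (f252727 IH) (Lpe (K20.f314281 IH) (Lpe (K16.f247922 IH) (Lpr_et (K17.f293228 IH) (Lpe (f293292 IH) (Lpr_dt (f293294 IH) (Lpr_gt (f329781 IH) (Lpn (LP (LK LD1_c5 LD2_c24 LD3_c29)))))))))))))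
theorem f253014 : Led Lsl_ft (LP (LK LD1_c15 LD2_c9 LD3_c2)) = (LP (LK LD1_c8 LD2_c2 LD3_c47)) :=
  Lre_f IH (LK LD1_c15 LD2_c9 LD3_c2) (LK LD1_c8 LD2_c2 LD3_c47) Lrfl Lrfl
theorem f329794 : Led Lsl_df (LP (LK LD1_c15 LD2_c9 LD3_c2)) = (LP (LK LD1_c10 LD2_c39 LD3_c39)) :=
  Lgr Lrot78 (Lpr_ft (f253014 IH) (Lpr_dt (f329784 IH) (Lpr_ft (K19.f312253 IH) (Lpn (LP (LK LD1_c10 LD2_c39 LD3_c39))))))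
theorem f329798 : Led Lsl_dt (LP (LK LD1_c15 LD2_c9 LD3_c2)) = (LP (LK LD1_c10 LD2_c39 LD3_c39)) :=
  Lgr Lrot42 (Lpr_df (f329794 IH) (Lpn (LP (LK LD1_c10 LD2_c39 LD3_c39))))
theorem f253004 : Led Lsl_bt (LP (LK LD1_c2 LD2_c58 LD3_c29)) = (LP (LK LD1_c4 LD2_c0 LD3_c61)) :=
  Lgr Lrot130 (Lpr_ct (K15.f182160 IH) (Lpr_gf (K16.f252594 IH) (Lpe (K15.f252108 IH) (Lpe (K17.f252106 IH) (Lpr_gf (K14.f226065 IH) (Lpe (K14.f226069 IH) (Lpr_ct (K14.f190942 IH) (Lpe (K14.f190944 IH) (Lpr_cf (K14.f252989 IH) (Lpe (K14.f253002 IH) (Lpn (LP (LK LD1_c4 LD2_c0 LD3_c61)))))))))))))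
theorem f253009 : Led Lsl_bf (LP (LK LD1_c6 LD2_c4 LD3_c37)) = (LP (LK LD1_c8 LD2_c2 LD3_c47)) :=
  Lgr Lrot96 (Lpr_et (K19.f196775 IH) (Lpr_bt (f253004 IH) (Lpr_et (K19.f253008 IH) (Lpn (LP (LK LD1_c8 LD2_c2 LD3_c47))))))
theorem f253015 : Led Lsl_bt (LP (LK LD1_c11 LD2_c52 LD3_c47)) = (LP (LK LD1_c15 LD2_c9 LD3_c2)) :=
  Lgr Lrot35 (Lpe (K19.f196782 IH) (Lpr_bf (f253009 IH) (Lpe (f253014 IH) (Lpn (LP (LK LD1_c15 LD2_c9 LD3_c2))))))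
theorem f329800 : Led Lsl_bf (LP (LK LD1_c15 LD2_c8 LD3_c55)) = (LP (LK LD1_c10 LD2_c39 LD3_c39)) :=
  Lgr Lrot93 (Lpe (K19.f196792 IH) (Lpr_bt (f253015 IH) (Lpr_dt (f329798 IH) (Lpn (LP (LK LD1_c10 LD2_c39 LD3_c39))))))
theorem f329804 : Led Lsl_bt (LP (LK LD1_c8 LD2_c2 LD3_c43)) = (LP (LK LD1_c5 LD2_c24 LD3_c29)) :=
  Lgr Lrot35 (Lpe (K19.f196783 IH) (Lpr_bf (f329800 IH) (Lpe (K19.f312253 IH) (Lpn (LP (LK LD1_c5 LD2_c24 LD3_c29))))))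
theorem f312152 : Led Lsl_et (LP (LK LD1_c5 LD2_c24 LD3_c29)) = (LP (LK LD1_c2 LD2_c38 LD3_c48)) :=
  Lre_e IH (LK LD1_c5 LD2_c24 LD3_c29) (LK LD1_c2 LD2_c38 LD3_c48) Lrfl Lrfl
theorem f329808 : Led Lsl_bf (LP (LK LD1_c4 LD2_c0 LD3_c59)) = (LP (LK LD1_c2 LD2_c38 LD3_c48)) :=
  Lgr Lrot96 (Lpr_et (K19.f196776 IH) (Lpr_bt (f329804 IH) (Lpr_et (f312152 IH) (Lpn (LP (LK LD1_c2 LD2_c38 LD3_c48))))))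
theorem f329816 : Led Lsl_cf (LP (LK LD1_c5 LD2_c0 LD3_c38)) = (LP (LK LD1_c2 LD2_c38 LD3_c48)) :=
  Lgr Lrot58 (Lpr_gf (K19.f212659 IH) (Lpe (K12.f212634 IH) (Lpr_bt (K17.f292503 IH) (Lpe (K16.f279316 IH) (Lpe (K14.f168062 IH) (Lpr_ct (K12.f168111 IH) (Lpe (K14.f217339 IH) (Lpe (K12.f30866 IH) (Lpe (K12.f30874 IH) (Lpr_bf (f329808 IH) (Lpn (LP (LK LD1_c2 LD2_c38 LD3_c48)))))))))))))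
theorem f54259 : Led Lsl_dt (LP (LK LD1_c5 LD2_c0 LD3_c42)) = (LP (LK LD1_c9 LD2_c51 LD3_c44)) :=
  Lre_d IH (LK LD1_c5 LD2_c0 LD3_c42) (LK LD1_c9 LD2_c51 LD3_c44) Lrfl Lrfl
theorem f234055 : Led Lsl_ct (LP (LK LD1_c9 LD2_c51 LD3_c33)) = (LP (LK LD1_c9 LD2_c51 LD3_c44)) :=
  Lgr Lrot7 (Lpe (K19.f212661 IH) (Lpr_gf (K19.f212659 IH) (Lpe (K12.f212651 IH) (Lpe (K16.f212952 IH) (Lpr_cf (K16.f234045 IH) (Lpe (K13.f233933 IH) (Lpr_dt (K12.f53711 IH) (Lpr_gt (K12.f54256 IH) (Lpr_dt (f54259 IH) (Lpn (LP (LK LD1_c9 LD2_c51 LD3_c44))))))))))))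
theorem f234062 : Led Lsl_cf (LP (LK LD1_c9 LD2_c51 LD3_c33)) = (LP (LK LD1_c9 LD2_c51 LD3_c44)) :=
  Lgr Lrot11 (Lpr_ct (f234055 IH) (Lpn (LP (LK LD1_c9 LD2_c51 LD3_c44))))
theorem f213441 : Led Lsl_dt (LP (LK LD1_c9 LD2_c51 LD3_c44)) = (LP (LK LD1_c5 LD2_c0 LD3_c42)) :=
  Lre_d IH (LK LD1_c9 LD2_c51 LD3_c44) (LK LD1_c5 LD2_c0 LD3_c42) Lrfl Lrfl
theorem f293422 : Led Lsl_gt (LP (LK LD1_c9 LD2_c0 LD3_c37)) = (LP (LK LD1_c9 LD2_c51 LD3_c44)) :=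
  Lgr Lrot49 (Lpe (K20.f238076 IH) (Lpr_gf (K19.f293420 IH) (Lpe (K12.f172012 IH) (Lpr_gt (K13.f199322 IH) (Lpr_dt (K13.f184413 IH) (Lpr_gt (K19.f184415 IH) (Lpr_dt (K19.f255631 IH) (Lpe (K13.f213447 IH) (Lpe (f213441 IH) (Lpn (LP (LK LD1_c9 LD2_c51 LD3_c44))))))))))))
theorem f329831 : Led Lsl_gt (LP (LK LD1_c2 LD2_c43 LD3_c32)) = (LP (LK LD1_c2 LD2_c38 LD3_c48)) :=
  Lgr Lrot150 (Lpe (K13.f189129 IH) (Lpr_gf (K13.f213480 IH) (Lpe (K19.f171305 IH) (Lpe (K20.f316829 IH) (Lpe (K20.f293426 IH) (Lpr_gt (f293422 IH) (Lpe (f234062 IH) (Lpe (K19.f212661 IH) (Lpr_cf (f329816 IH) (Lpn (LP (LK LD1_c2 LD2_c38 LD3_c48))))))))))))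
theorem f194426 : Led Lsl_at (LP (LK LD1_c1 LD2_c16 LD3_c16)) = (LP (LK LD1_c2 LD2_c38 LD3_c48)) :=
  Lre_a IH (LK LD1_c1 LD2_c16 LD3_c16) (LK LD1_c2 LD2_c38 LD3_c48) Lrfl Lrfl
theorem f329833 : Led Lsl_ft (LP (LK LD1_c2 LD2_c36 LD3_c60)) = (LP (LK LD1_c1 LD2_c16 LD3_c16)) :=
  Lgr Lrot2 (Lpr_gt (K16.f275473 IH) (Lpr_gt (f329831 IH) (Lpe (f194426 IH) (Lpn (LP (LK LD1_c1 LD2_c16 LD3_c16))))))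
theorem f330230 : Led Lsl_ff (LP (LK LD1_c2 LD2_c36 LD3_c60)) = (LP (LK LD1_c1 LD2_c16 LD3_c16)) :=
  Lgr Lrot3 (Lpr_ft (f329833 IH) (Lpn (LP (LK LD1_c1 LD2_c16 LD3_c16))))
theorem f235162 : Led Lsl_et (LP (LK LD1_c2 LD2_c36 LD3_c60)) = (LP (LK LD1_c5 LD2_c20 LD3_c42)) :=
  Lre_e IH (LK LD1_c2 LD2_c36 LD3_c60) (LK LD1_c5 LD2_c20 LD3_c42) Lrfl Lrfl
theorem f235146 : Led Lsl_ft (LP (LK LD1_c5 LD2_c20 LD3_c42)) = (LP (LK LD1_c10 LD2_c31 LD3_c28)) :=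
  Lre_f IH (LK LD1_c5 LD2_c20 LD3_c42) (LK LD1_c10 LD2_c31 LD3_c28) Lrfl Lrfl
theorem f194447 : Led Lsl_et (LP (LK LD1_c2 LD2_c38 LD3_c50)) = (LP (LK LD1_c1 LD2_c16 LD3_c16)) :=
  Lre_e IH (LK LD1_c2 LD2_c38 LD3_c50) (LK LD1_c1 LD2_c16 LD3_c16) Lrfl Lrfl
theorem f330238 : Led Lsl_et (LP (LK LD1_c10 LD2_c31 LD3_c28)) = (LP (LK LD1_c5 LD2_c24 LD3_c35)) :=
  Lgr Lrot69 (Lpe (f235146 IH) (Lpe (f235162 IH) (Lpr_ff (f330230 IH) (Lpe (f194447 IH) (Lpe (f194477 IH) (Lpn (LP (LK LD1_c5 LD2_c24 LD3_c35))))))))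
theorem f235474 : Led Lsl_et (LP (LK LD1_c5 LD2_c35 LD3_c13)) = (LP (LK LD1_c2 LD2_c43 LD3_c32)) :=
  Lre_e IH (LK LD1_c5 LD2_c35 LD3_c13) (LK LD1_c2 LD2_c43 LD3_c32) Lrfl Lrfl
theorem f28056 : Led Lsl_et (LP (LK LD1_c4 LD2_c1 LD3_c0)) = (LP (LK LD1_c1 LD2_c57 LD3_c18)) :=
  Lre_e IH (LK LD1_c4 LD2_c1 LD3_c0) (LK LD1_c1 LD2_c57 LD3_c18) Lrfl Lrfl
theorem f329792 : Led Lsl_df (LP (LK LD1_c4 LD2_c1 LD3_c0)) = (LP (LK LD1_c2 LD2_c38 LD3_c48)) :=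
  Lgr Lrot70 (Lpr_et (f28056 IH) (Lpr_dt (K14.f28176 IH) (Lpr_et (K19.f253008 IH) (Lpr_dt (f329784 IH) (Lpr_et (f312152 IH) (Lpn (LP (LK LD1_c2 LD2_c38 LD3_c48))))))))
theorem f270350 : Led Lsl_df (LP (LK LD1_c5 LD2_c4 LD3_c57)) = (LP (LK LD1_c3 LD2_c57 LD3_c3)) :=
  Lgr Lrot18 (Lpr_at (K16.f270344 IH) (Lpr_dt (K16.f43131 IH) (Lpr_at (K16.f269898 IH) (Lpn (LP (LK LD1_c3 LD2_c57 LD3_c3))))))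
theorem f321044 : Led Lsl_gt (LP (LK LD1_c5 LD2_c23 LD3_c26)) = (LP (LK LD1_c10 LD2_c35 LD3_c55)) :=
  Lgr Lrot112 (Lpr_df (K14.f235733 IH) (Lpr_et (K14.f235678 IH) (Lpe (K19.f308846 IH) (Lpe (K19.f186909 IH) (Lpr_dt (K19.f308883 IH) (Lpe (K19.f312122 IH) (Lpr_df (f270350 IH) (Lpe (K20.f227964 IH) (Lpe (K20.f227965 IH) (Lpr_dt (K20.f321037 IH) (Lpn (LP (LK LD1_c10 LD2_c35 LD3_c55)))))))))))))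
theorem f321043 : Led Lsl_dt (LP (LK LD1_c10 LD2_c42 LD3_c50)) = (LP (LK LD1_c5 LD2_c25 LD3_c46)) :=
  Lre_d IH (LK LD1_c10 LD2_c42 LD3_c50) (LK LD1_c5 LD2_c25 LD3_c46) Lrfl Lrfl
theorem f329837 : Led Lsl_gf (LP (LK LD1_c5 LD2_c35 LD3_c13)) = (LP (LK LD1_c5 LD2_c25 LD3_c46)) :=
  Lgr Lrot145 (Lpe (K19.f235471 IH) (Lpr_et (f235474 IH) (Lpr_gt (f329831 IH) (Lpe (f329792 IH) (Lpr_gt (K15.f265036 IH) (Lpe (K17.f235674 IH) (Lpr_et (K14.f235676 IH) (Lpr_gt (f321044 IH) (Lpe (K20.f276771 IH) (Lpr_dt (f321043 IH) (Lpn (LP (LK LD1_c5 LD2_c25 LD3_c46)))))))))))))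
theorem f329790 : Led Lsl_df (LP (LK LD1_c8 LD2_c2 LD3_c47)) = (LP (LK LD1_c5 LD2_c24 LD3_c29)) :=
  Lgr Lrot38 (Lpr_dt (f329784 IH) (Lpn (LP (LK LD1_c5 LD2_c24 LD3_c29))))
theorem f310550 : Led Lsl_dt (LP (LK LD1_c8 LD2_c38 LD3_c5)) = (LP (LK LD1_c9 LD2_c37 LD3_c39)) :=
  Lgr Lrot42 (Lpr_df (K19.f310518 IH) (Lpn (LP (LK LD1_c9 LD2_c37 LD3_c39))))
theorem f310552 : Led Lsl_et (LP (LK LD1_c8 LD2_c38 LD3_c5)) = (LP (LK LD1_c16 LD2_c10 LD3_c24)) :=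
  Lre_e IH (LK LD1_c8 LD2_c38 LD3_c5) (LK LD1_c16 LD2_c10 LD3_c24) Lrfl Lrfl
theorem f329839 : Led Lsl_gf (LP (LK LD1_c10 LD2_c42 LD3_c50)) = (LP (LK LD1_c16 LD2_c10 LD3_c24)) :=
  Lgr Lrot138 (Lpr_dt (f321043 IH) (Lpe (f329837 IH) (Lpe (K19.f235471 IH) (Lpr_et (f235474 IH) (Lpr_gt (f329831 IH) (Lpe (f312152 IH) (Lpe (f329790 IH) (Lpr_gt (K19.f310555 IH) (Lpe (f310550 IH) (Lpr_et (f310552 IH) (Lpn (LP (LK LD1_c16 LD2_c10 LD3_c24)))))))))))))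
theorem f211326 : Led Lsl_dt (LP (LK LD1_c8 LD2_c8 LD3_c53)) = (LP (LK LD1_c4 LD2_c4 LD3_c5)) :=
  Lre_d IH (LK LD1_c8 LD2_c8 LD3_c53) (LK LD1_c4 LD2_c4 LD3_c5) Lrfl Lrfl
theorem f328138 : Led Lsl_ef (LP (LK LD1_c8 LD2_c8 LD3_c53)) = (LP (LK LD1_c8 LD2_c39 LD3_c12)) :=
  Lgr Lrot73 (Lpr_dt (f211326 IH) (Lpr_et (f328131 IH) (Lpr_dt (f259093 IH) (Lpe (f323820 IH) (Lpr_dt (f305476 IH) (Lpn (LP (LK LD1_c8 LD2_c39 LD3_c12))))))))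
theorem f329843 : Led Lsl_gt (LP (LK LD1_c14 LD2_c57 LD3_c29)) = (LP (LK LD1_c16 LD2_c12 LD3_c28)) :=
  Lgr Lrot112 (Lpr_df (K20.f321031 IH) (Lpe (f276777 IH) (Lpr_gf (f329839 IH) (Lpe (f310552 IH) (Lpr_dt (f310550 IH) (Lpe (K19.f310555 IH) (Lpr_df (f329790 IH) (Lpe (f329781 IH) (Lpr_ef (f328138 IH) (Lpr_dt (f231444 IH) (Lpn (LP (LK LD1_c16 LD2_c12 LD3_c28)))))))))))))
theorem f329845 : Led Lsl_gf (LP (LK LD1_c8 LD2_c39 LD3_c35)) = (LP (LK LD1_c8 LD2_c39 LD3_c12)) :=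
  Lgr Lrot134 (Lpe (K19.f305555 IH) (Lpr_et (f305541 IH) (Lpe (f326814 IH) (Lpr_ef (K20.f275892 IH) (Lpe (K20.f275890 IH) (Lpr_gt (f326802 IH) (Lpe (K20.f321023 IH) (Lpr_et (f321033 IH) (Lpr_gt (f329843 IH) (Lpr_dt (f305476 IH) (Lpn (LP (LK LD1_c8 LD2_c39 LD3_c12)))))))))))))
theorem f310508 : Led Lsl_et (LP (LK LD1_c8 LD2_c34 LD3_c36)) = (LP (LK LD1_c16 LD2_c5 LD3_c45)) :=
  Lre_e IH (LK LD1_c8 LD2_c34 LD3_c36) (LK LD1_c16 LD2_c5 LD3_c45) Lrfl Lrfl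
theorem f329847 : Led Lsl_gt (LP (LK LD1_c8 LD2_c8 LD3_c50)) = (LP (LK LD1_c15 LD2_c9 LD3_c40)) :=
  Lgr Lrot139 (Lpe (K20.f243968 IH) (Lpr_gf (f326814 IH) (Lpe (f305541 IH) (Lpr_dt (K19.f305555 IH) (Lpr_gf (f329845 IH) (Lpe (f305476 IH) (Lpr_et (f323824 IH) (Lpe (f328106 IH) (Lpe (f310508 IH) (Lpe (K19.f310500 IH) (Lpn (LP (LK LD1_c15 LD2_c9 LD3_c40)))))))))))))
theorem f310474 : Led Lsl_gf (LP (LK LD1_c7 LD2_c55 LD3_c25)) = (LP (LK LD1_c8 LD2_c34 LD3_c36)) :=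
  Lgr Lrot144 (Lpr_dt (K17.f237001 IH) (Lpr_gt (K17.f227205 IH) (Lpr_dt (K16.f226860 IH) (Lpe (K16.f227004 IH) (Lpe (K16.f236901 IH) (Lpe (K16.f236899 IH) (Lpe (K16.f216582 IH) (Lpr_gf (K19.f310472 IH) (Lpe (K19.f310471 IH) (Lpn (LP (LK LD1_c8 LD2_c34 LD3_c36))))))))))))
theorem f329851 : Led Lsl_gf (LP (LK LD1_c8 LD2_c8 LD3_c49)) = (LP (LK LD1_c5 LD2_c24 LD3_c29)) :=
  Lgr Lrot145 (Lpe (K20.f211312 IH) (Lpr_et (K20.f243970 IH) (Lpr_gt (f329847 IH) (Lpr_dt (K19.f310506 IH) (Lpe (f310474 IH) (Lpr_df (K17.f237111 IH) (Lpr_et (K20.f265758 IH) (Lpr_gt (K15.f265034 IH) (Lpe (f253023 IH) (Lpr_dt (f329784 IH) (Lpn (LP (LK LD1_c5 LD2_c24 LD3_c29)))))))))))))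
theorem f194503 : Led Lsl_at (LP (LK LD1_c10 LD2_c39 LD3_c39)) = (LP (LK LD1_c5 LD2_c24 LD3_c35)) :=
  Lre_a IH (LK LD1_c10 LD2_c39 LD3_c39) (LK LD1_c5 LD2_c24 LD3_c35) Lrfl Lrfl
theorem f329853 : Led Lsl_gt (LP (LK LD1_c8 LD2_c8 LD3_c49)) = (LP (LK LD1_c5 LD2_c24 LD3_c35)) :=
  Lgr Lrot46 (Lpr_gf (f329851 IH) (Lpr_ft (K19.f312253 IH) (Lpr_at (f194503 IH) (Lpn (LP (LK LD1_c5 LD2_c24 LD3_c35))))))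
theorem f237733 : Led Lsl_et (LP (LK LD1_c4 LD2_c21 LD3_c49)) = (LP (LK LD1_c2 LD2_c8 LD3_c24)) :=
  Lre_e IH (LK LD1_c4 LD2_c21 LD3_c49) (LK LD1_c2 LD2_c8 LD3_c24) Lrfl Lrfl
theorem f29665 : Led Lsl_et (LP (LK LD1_c2 LD2_c23 LD3_c18)) = (LP (LK LD1_c1 LD2_c56 LD3_c56)) :=
  Lgr Lrot123 (Lpe (K13.f1759 IH) (Lpr_ef (K19.f2442 IH) (Lpr_af (K1.f29650 IH) (Lpn (LP (LK LD1_c1 LD2_c56 LD3_c56))))))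
theorem f199679 : Led Lsl_et (LP (LK LD1_c8 LD2_c24 LD3_c48)) = (LP (LK LD1_c4 LD2_c12 LD3_c35)) :=
  Lre_e IH (LK LD1_c8 LD2_c24 LD3_c48) (LK LD1_c4 LD2_c12 LD3_c35) Lrfl Lrfl
theorem f199680 : Led Lsl_dt (LP (LK LD1_c8 LD2_c24 LD3_c48)) = (LP (LK LD1_c15 LD2_c48 LD3_c60)) :=
  Lre_d IH (LK LD1_c8 LD2_c24 LD3_c48) (LK LD1_c15 LD2_c48 LD3_c60) Lrfl Lrfl
theorem f237735 : Led Lsl_gt (LP (LK LD1_c8 LD2_c41 LD3_c16)) = (LP (LK LD1_c15 LD2_c48 LD3_c60)) :=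
  Lgr Lrot112 (Lpe (K16.f237734 IH) (Lpr_et (f237733 IH) (Lpr_gf (K13.f237719 IH) (Lpe (f29665 IH) (Lpr_dt (K0.f1720 IH) (Lpr_gf (K13.f233316 IH) (Lpe (K13.f184367 IH) (Lpe (K13.f199673 IH) (Lpe (f199679 IH) (Lpr_dt (f199680 IH) (Lpn (LP (LK LD1_c15 LD2_c48 LD3_c60)))))))))))))
theorem f269981 : Led Lsl_gt (LP (LK LD1_c15 LD2_c48 LD3_c60)) = (LP (LK LD1_c17 LD2_c43 LD3_c58)) :=
  Lgr Lrot46 (Lpe (f237735 IH) (Lpr_ft (K16.f237748 IH) (Lpr_at (K16.f269961 IH) (Lpn (LP (LK LD1_c17 LD2_c43 LD3_c58))))))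
theorem f212578 : Led Lsl_gt (LP (LK LD1_c15 LD2_c48 LD3_c59)) = (LP (LK LD1_c8 LD2_c24 LD3_c48)) :=
  Lre_g IH (LK LD1_c15 LD2_c48 LD3_c59) (LK LD1_c8 LD2_c24 LD3_c48) Lrfl Lrfl
theorem f270368 : Led Lsl_cf (LP (LK LD1_c10 LD2_c37 LD3_c33)) = (LP (LK LD1_c15 LD2_c48 LD3_c59)) :=
  Lgr Lrot166 (Lpr_gt (K20.f235731 IH) (Lpr_dt (K14.f235603 IH) (Lpr_gt (K16.f234100 IH) (Lpr_dt (K16.f269896 IH) (Lpr_ct (K16.f270359 IH) (Lpe (K16.f269975 IH) (Lpe (f269981 IH) (Lpe (f199680 IH) (Lpe (f212578 IH) (Lpn (LP (LK LD1_c15 LD2_c48 LD3_c59))))))))))))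
theorem f270376 : Led Lsl_ct (LP (LK LD1_c10 LD2_c37 LD3_c33)) = (LP (LK LD1_c15 LD2_c48 LD3_c59)) :=
  Lgr Lrot59 (Lpr_cf (f270368 IH) (Lpn (LP (LK LD1_c15 LD2_c48 LD3_c59))))
theorem f212556 : Led Lsl_ct (LP (LK LD1_c8 LD2_c24 LD3_c48)) = (LP (LK LD1_c4 LD2_c12 LD3_c36)) :=
  Lre_c IH (LK LD1_c8 LD2_c24 LD3_c48) (LK LD1_c4 LD2_c12 LD3_c36) Lrfl Lrfl
theorem f212572 : Led Lsl_ct (LP (LK LD1_c4 LD2_c31 LD3_c27)) = (LP (LK LD1_c2 LD2_c12 LD3_c41)) :=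
  Lre_c IH (LK LD1_c4 LD2_c31 LD3_c27) (LK LD1_c2 LD2_c12 LD3_c41) Lrfl Lrfl
theorem f270379 : Led Lsl_gf (LP (LK LD1_c10 LD2_c37 LD3_c33)) = (LP (LK LD1_c8 LD2_c41 LD3_c6)) :=
  Lgr Lrot147 (Lpr_ct (f270376 IH) (Lpr_gt (f212578 IH) (Lpr_ct (f212556 IH) (Lpr_df (K19.f212561 IH) (Lpe (f212572 IH) (Lpr_gf (K14.f241001 IH) (Lpe (K14.f43138 IH) (Lpe (K17.f42921 IH) (Lpe (K17.f43123 IH) (Lpn (LP (LK LD1_c8 LD2_c41 LD3_c6))))))))))))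
theorem f323778 : Led Lsl_gf (LP (LK LD1_c8 LD2_c4 LD3_c48)) = (LP (LK LD1_c8 LD2_c3 LD3_c20)) :=
  Lgr Lrot141 (Lpr_ef (K16.f273255 IH) (Lpr_dt (K16.f216764 IH) (Lpr_gt (K20.f269820 IH) (Lpr_df (K20.f275869 IH) (Lpe (K20.f275876 IH) (Lpr_gt (f323776 IH) (Lpr_dt (K18.f296415 IH) (Lpe (K19.f296269 IH) (Lpe (K19.f260006 IH) (Lpr_et (K19.f192854 IH) (Lpn (LP (LK LD1_c8 LD2_c3 LD3_c20)))))))))))))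
theorem f330248 : Led Lsl_dt (LP (LK LD1_c10 LD2_c31 LD3_c28)) = (LP (LK LD1_c8 LD2_c3 LD3_c20)) :=
  Lgr Lrot136 (Lpr_et (f330238 IH) (Lpe (f329853 IH) (Lpe (K20.f243971 IH) (Lpr_dt (K20.f275894 IH) (Lpr_gf (f270379 IH) (Lpr_df (K17.f43128 IH) (Lpe (K17.f270357 IH) (Lpe (K16.f275721 IH) (Lpe (K16.f275865 IH) (Lpr_gf (f323778 IH) (Lpn (LP (LK LD1_c8 LD2_c3 LD3_c20)))))))))))))
theorem f235377 : Led Lsl_ct (LP (LK LD1_c8 LD2_c27 LD3_c53)) = (LP (LK LD1_c4 LD2_c14 LD3_c35)) :=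
  Lre_c IH (LK LD1_c8 LD2_c27 LD3_c53) (LK LD1_c4 LD2_c14 LD3_c35) Lrfl Lrfl
theorem f235395 : Led Lsl_gt (LP (LK LD1_c15 LD2_c53 LD3_c36)) = (LP (LK LD1_c8 LD2_c27 LD3_c53)) :=
  Lre_g IH (LK LD1_c15 LD2_c53 LD3_c36) (LK LD1_c8 LD2_c27 LD3_c53) Lrfl Lrfl
theorem f240203 : Led Lsl_dt (LP (LK LD1_c15 LD2_c12 LD3_c29)) = (LP (LK LD1_c25 LD2_c1 LD3_c28)) :=
  Lre_d IH (LK LD1_c15 LD2_c12 LD3_c29) (LK LD1_c25 LD2_c1 LD3_c28) Lrfl Lrfl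
theorem f279697 : Led Lsl_gt (LP (LK LD1_c11 LD2_c57 LD3_c20)) = (LP (LK LD1_c21 LD2_c2 LD3_c26)) :=
  Lre_g IH (LK LD1_c11 LD2_c57 LD3_c20) (LK LD1_c21 LD2_c2 LD3_c26) Lrfl Lrfl
theorem f235311 : Led Lsl_et (LP (LK LD1_c4 LD2_c14 LD3_c34)) = (LP (LK LD1_c8 LD2_c27 LD3_c53)) :=
  Lre_e IH (LK LD1_c4 LD2_c14 LD3_c34) (LK LD1_c8 LD2_c27 LD3_c53) Lrfl Lrfl
theorem f279696 : Led Lsl_et (LP (LK LD1_c25 LD2_c49 LD3_c37)) = (LP (LK LD1_c15 LD2_c53 LD3_c36)) :=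
  Lre_e IH (LK LD1_c25 LD2_c49 LD3_c37) (LK LD1_c15 LD2_c53 LD3_c36) Lrfl Lrfl
theorem f279698 : Led Lsl_dt (LP (LK LD1_c25 LD2_c49 LD3_c37)) = (LP (LK LD1_c21 LD2_c2 LD3_c26)) :=
  Lgr Lrot56 (Lpr_et (f279696 IH) (Lpr_gt (f235395 IH) (Lpe (f235311 IH) (Lpr_dt (K19.f218269 IH) (Lpr_gt (K19.f279612 IH) (Lpe (K19.f177950 IH) (Lpr_et (K19.f177951 IH) (Lpe (K19.f279693 IH) (Lpr_dt (K20.f177594 IH) (Lpr_gt (f279697 IH) (Lpn (LP (LK LD1_c21 LD2_c2 LD3_c26)))))))))))))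
theorem f279701 : Led Lsl_df (LP (LK LD1_c25 LD2_c49 LD3_c37)) = (LP (LK LD1_c21 LD2_c2 LD3_c26)) :=
  Lgr Lrot38 (Lpr_dt (f279698 IH) (Lpn (LP (LK LD1_c21 LD2_c2 LD3_c26))))
theorem f293408 : Led Lsl_cf (LP (LK LD1_c25 LD2_c1 LD3_c28)) = (LP (LK LD1_c25 LD2_c49 LD3_c37)) :=
  Lgr Lrot14 (Lpe (f240203 IH) (Lpe (K19.f240202 IH) (Lpe (K17.f265336 IH) (Lpe (K19.f255654 IH) (Lpr_ct (K19.f293389 IH) (Lpe (K19.f279693 IH) (Lpr_dt (K20.f177594 IH) (Lpr_gt (f279697 IH) (Lpe (f279701 IH) (Lpn (LP (LK LD1_c25 LD2_c49 LD3_c37))))))))))))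
theorem f279703 : Led Lsl_et (LP (LK LD1_c15 LD2_c53 LD3_c36)) = (LP (LK LD1_c25 LD2_c49 LD3_c37)) :=
  Lre_e IH (LK LD1_c15 LD2_c53 LD3_c36) (LK LD1_c25 LD2_c49 LD3_c37) Lrfl Lrfl
theorem f293413 : Led Lsl_ct (LP (LK LD1_c16 LD2_c12 LD3_c59)) = (LP (LK LD1_c15 LD2_c53 LD3_c36)) :=
  Lgr Lrot15 (Lpr_ef (K19.f293395 IH) (Lpr_cf (f293408 IH) (Lpe (f279703 IH) (Lpn (LP (LK LD1_c15 LD2_c53 LD3_c36))))))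
theorem f330250 : Led Lsl_gt (LP (LK LD1_c10 LD2_c31 LD3_c28)) = (LP (LK LD1_c16 LD2_c12 LD3_c59)) :=
  Lgr Lrot146 (Lpr_dt (f330248 IH) (Lpe (f323778 IH) (Lpr_ct (K19.f184704 IH) (Lpe (K19.f304147 IH) (Lpr_ct (K19.f235389 IH) (Lpr_dt (K13.f235380 IH) (Lpe (f235377 IH) (Lpe (f235395 IH) (Lpe (f293413 IH) (Lpn (LP (LK LD1_c16 LD2_c12 LD3_c59))))))))))))
theorem f329773 : Led Lsl_ef (LP (LK LD1_c8 LD2_c36 LD3_c42)) = (LP (LK LD1_c8 LD2_c6 LD3_c39)) :=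
  Lgr Lrot88 (Lpr_et (f329763 IH) (Lpn (LP (LK LD1_c8 LD2_c6 LD3_c39))))
theorem f330246 : Led Lsl_df (LP (LK LD1_c10 LD2_c31 LD3_c28)) = (LP (LK LD1_c8 LD2_c3 LD3_c20)) :=
  Lgr Lrot70 (Lpr_et (f330238 IH) (Lpr_dt (f194498 IH) (Lpe (f329773 IH) (Lpe (K19.f260011 IH) (Lpr_et (K19.f192854 IH) (Lpn (LP (LK LD1_c8 LD2_c3 LD3_c20))))))))
theorem f45836 : Led Lsl_gt (LP (LK LD1_c8 LD2_c6 LD3_c0)) = (LP (LK LD1_c4 LD2_c2 LD3_c42)) :=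
  Lre_g IH (LK LD1_c8 LD2_c6 LD3_c0) (LK LD1_c4 LD2_c2 LD3_c42) Lrfl Lrfl
theorem f46980 : Led Lsl_et (LP (LK LD1_c15 LD2_c15 LD3_c0)) = (LP (LK LD1_c8 LD2_c6 LD3_c0)) :=
  Lre_e IH (LK LD1_c15 LD2_c15 LD3_c0) (LK LD1_c8 LD2_c6 LD3_c0) Lrfl Lrfl
theorem f330254 : Led Lsl_dt (LP (LK LD1_c15 LD2_c15 LD3_c0)) = (LP (LK LD1_c16 LD2_c12 LD3_c59)) :=
  Lgr Lrot56 (Lpr_et (f46980 IH) (Lpr_gt (f45836 IH) (Lpe (f45983 IH) (Lpr_dt (K1.f27861 IH) (Lpr_gt (K10.f192586 IH) (Lpe (K13.f171525 IH) (Lpr_et (K15.f171550 IH) (Lpr_gt (K19.f171609 IH) (Lpe (f330246 IH) (Lpr_gt (f330250 IH) (Lpn (LP (LK LD1_c16 LD2_c12 LD3_c59)))))))))))))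
theorem f243063 : Led Lsl_gt (LP (LK LD1_c4 LD2_c2 LD3_c28)) = (LP (LK LD1_c8 LD2_c5 LD3_c29)) :=
  Lre_g IH (LK LD1_c4 LD2_c2 LD3_c28) (LK LD1_c8 LD2_c5 LD3_c29) Lrfl Lrfl
theorem f262553 : Led Lsl_gt (LP (LK LD1_c8 LD2_c5 LD3_c29)) = (LP (LK LD1_c8 LD2_c5 LD3_c53)) :=
  Lgr Lrot46 (Lpe (f243063 IH) (Lpr_ft (K15.f243060 IH) (Lpr_at (K15.f262543 IH) (Lpn (LP (LK LD1_c8 LD2_c5 LD3_c53))))))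
theorem f296361 : Led Lsl_dt (LP (LK LD1_c14 LD2_c56 LD3_c58)) = (LP (LK LD1_c8 LD2_c5 LD3_c29)) :=
  Lgr Lrot171 (Lpe (f232370 IH) (Lpe (K13.f232345 IH) (Lpr_dt (f232343 IH) (Lpe (K13.f232391 IH) (Lpr_df (K13.f236443 IH) (Lpr_et (K13.f236454 IH) (Lpr_gf (K18.f296352 IH) (Lpr_ef (K15.f262633 IH) (Lpe (K13.f229677 IH) (Lpe (f262553 IH) (Lpn (LP (LK LD1_c8 LD2_c5 LD3_c29)))))))))))))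
theorem f296363 : Led Lsl_df (LP (LK LD1_c14 LD2_c56 LD3_c58)) = (LP (LK LD1_c8 LD2_c5 LD3_c29)) :=
  Lgr Lrot38 (Lpr_dt (f296361 IH) (Lpn (LP (LK LD1_c8 LD2_c5 LD3_c29))))
theorem f232350 : Led Lsl_df (LP (LK LD1_c7 LD2_c55 LD3_c26)) = (LP (LK LD1_c5 LD2_c15 LD3_c13)) :=
  Lgr Lrot12 (Lpr_bt (K13.f232346 IH) (Lpe (K13.f47547 IH) (Lpr_bt (f47687 IH) (Lpn (LP (LK LD1_c5 LD2_c15 LD3_c13))))))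
theorem f186863 : Led Lsl_gt (LP (LK LD1_c10 LD2_c19 LD3_c54)) = (LP (LK LD1_c5 LD2_c15 LD3_c13)) :=
  Lre_g IH (LK LD1_c10 LD2_c19 LD3_c54) (LK LD1_c5 LD2_c15 LD3_c13) Lrfl Lrfl
theorem f186864 : Led Lsl_et (LP (LK LD1_c18 LD2_c45 LD3_c26)) = (LP (LK LD1_c10 LD2_c19 LD3_c54)) :=
  Lre_e IH (LK LD1_c18 LD2_c45 LD3_c26) (LK LD1_c10 LD2_c19 LD3_c54) Lrfl Lrfl
theorem f186930 : Led Lsl_et (LP (LK LD1_c7 LD2_c55 LD3_c26)) = (LP (LK LD1_c3 LD2_c56 LD3_c53)) :=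
  Lre_e IH (LK LD1_c7 LD2_c55 LD3_c26) (LK LD1_c3 LD2_c56 LD3_c53) Lrfl Lrfl
theorem f229740 : Led Lsl_ef (LP (LK LD1_c9 LD2_c34 LD3_c13)) = (LP (LK LD1_c7 LD2_c55 LD3_c35)) :=
  Lgr Lrot88 (Lpr_et (K18.f229737 IH) (Lpn (LP (LK LD1_c7 LD2_c55 LD3_c35))))
theorem f232371 : Led Lsl_dt (LP (LK LD1_c7 LD2_c55 LD3_c35)) = (LP (LK LD1_c10 LD2_c19 LD3_c54)) :=
  Lgr Lrot136 (Lpe (f229740 IH) (Lpe (K18.f186906 IH) (Lpe (K14.f186891 IH) (Lpr_dt (K13.f2108 IH) (Lpr_gf (K10.f186918 IH) (Lpe (K1.f29070 IH) (Lpe (K13.f28795 IH) (Lpe (f186930 IH) (Lpr_dt (K13.f232365 IH) (Lpe (f186863 IH) (Lpn (LP (LK LD1_c10 LD2_c19 LD3_c54)))))))))))))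
theorem f193641 : Led Lsl_et (LP (LK LD1_c15 LD2_c12 LD3_c38)) = (LP (LK LD1_c8 LD2_c4 LD3_c40)) :=
  Lre_e IH (LK LD1_c15 LD2_c12 LD3_c38) (LK LD1_c8 LD2_c4 LD3_c40) Lrfl Lrfl
theorem f232375 : Led Lsl_et (LP (LK LD1_c10 LD2_c19 LD3_c54)) = (LP (LK LD1_c18 LD2_c45 LD3_c26)) :=
  Lre_e IH (LK LD1_c10 LD2_c19 LD3_c54) (LK LD1_c18 LD2_c45 LD3_c26) Lrfl Lrfl
theorem f232376 : Led Lsl_df (LP (LK LD1_c15 LD2_c12 LD3_c38)) = (LP (LK LD1_c18 LD2_c45 LD3_c26)) :=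
  Lgr Lrot70 (Lpr_et (f193641 IH) (Lpr_dt (f229745 IH) (Lpr_et (K18.f229737 IH) (Lpr_dt (f232371 IH) (Lpr_et (f232375 IH) (Lpn (LP (LK LD1_c18 LD2_c45 LD3_c26))))))))
theorem f46974 : Led Lsl_gf (LP (LK LD1_c8 LD2_c6 LD3_c0)) = (LP (LK LD1_c5 LD2_c19 LD3_c47)) :=
  Lgr Lrot47 (Lpr_gt (f45836 IH) (Lpr_af (K1.f46959 IH) (Lpe (K1.f46972 IH) (Lpn (LP (LK LD1_c5 LD2_c19 LD3_c47))))))
theorem f46976 : Led Lsl_dt (LP (LK LD1_c8 LD2_c6 LD3_c0)) = (LP (LK LD1_c15 LD2_c14 LD3_c61)) :=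
  Lre_d IH (LK LD1_c8 LD2_c6 LD3_c0) (LK LD1_c15 LD2_c14 LD3_c61) Lrfl Lrfl
theorem f232380 : Led Lsl_gf (LP (LK LD1_c15 LD2_c12 LD3_c38)) = (LP (LK LD1_c15 LD2_c14 LD3_c61)) :=
  Lgr Lrot134 (Lpr_df (f232376 IH) (Lpr_et (f186864 IH) (Lpr_gt (f186863 IH) (Lpe (f186862 IH) (Lpr_dt (K13.f186845 IH) (Lpr_gt (K10.f186853 IH) (Lpe (K1.f45891 IH) (Lpr_et (K1.f46060 IH) (Lpe (f46974 IH) (Lpr_dt (f46976 IH) (Lpn (LP (LK LD1_c15 LD2_c14 LD3_c61)))))))))))))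
theorem f232382 : Led Lsl_et (LP (LK LD1_c8 LD2_c6 LD3_c0)) = (LP (LK LD1_c15 LD2_c15 LD3_c0)) :=
  Lre_e IH (LK LD1_c8 LD2_c6 LD3_c0) (LK LD1_c15 LD2_c15 LD3_c0) Lrfl Lrfl
theorem f296365 : Led Lsl_et (LP (LK LD1_c8 LD2_c5 LD3_c29)) = (LP (LK LD1_c15 LD2_c14 LD3_c11)) :=
  Lre_e IH (LK LD1_c8 LD2_c5 LD3_c29) (LK LD1_c15 LD2_c14 LD3_c11) Lrfl Lrfl
theorem f296369 : Led Lsl_gf (LP (LK LD1_c15 LD2_c15 LD3_c0)) = (LP (LK LD1_c15 LD2_c14 LD3_c11)) :=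
  Lgr Lrot141 (Lpe (f232382 IH) (Lpr_dt (f46976 IH) (Lpe (f232380 IH) (Lpr_df (f232376 IH) (Lpr_et (f186864 IH) (Lpr_gt (f186863 IH) (Lpe (f232350 IH) (Lpr_gt (f232370 IH) (Lpr_df (f296363 IH) (Lpr_et (f296365 IH) (Lpn (LP (LK LD1_c15 LD2_c14 LD3_c11)))))))))))))
theorem f186848 : Led Lsl_gt (LP (LK LD1_c5 LD2_c15 LD3_c11)) = (LP (LK LD1_c2 LD2_c34 LD3_c27)) :=
  Lre_g IH (LK LD1_c5 LD2_c15 LD3_c11) (LK LD1_c2 LD2_c34 LD3_c27) Lrfl Lrfl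
theorem f293401 : Led Lsl_df (LP (LK LD1_c8 LD2_c39 LD3_c30)) = (LP (LK LD1_c8 LD2_c3 LD3_c21)) :=
  Lgr Lrot38 (Lpr_dt (K19.f293399 IH) (Lpn (LP (LK LD1_c8 LD2_c3 LD3_c21))))
theorem f330281 : Led Lsl_ef (LP (LK LD1_c5 LD2_c15 LD3_c11)) = (LP (LK LD1_c8 LD2_c3 LD3_c21)) :=
  Lgr Lrot114 (Lpr_gt (f186848 IH) (Lpe (K13.f232367 IH) (Lpe (f232350 IH) (Lpr_gt (f232370 IH) (Lpr_df (f296363 IH) (Lpr_et (f296365 IH) (Lpe (f296369 IH) (Lpr_dt (f330254 IH) (Lpr_gt (K19.f213457 IH) (Lpr_df (f293401 IH) (Lpn (LP (LK LD1_c8 LD2_c3 LD3_c21)))))))))))))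
theorem f312261 : Led Lsl_ff (LP (LK LD1_c15 LD2_c12 LD3_c48)) = (LP (LK LD1_c8 LD2_c39 LD3_c30)) :=
  Lgr Lrot3 (Lpr_ft (K19.f312255 IH) (Lpn (LP (LK LD1_c8 LD2_c39 LD3_c30))))
theorem f312265 : Led Lsl_ft (LP (LK LD1_c8 LD2_c4 LD3_c46)) = (LP (LK LD1_c8 LD2_c3 LD3_c21)) :=
  Lgr Lrot54 (Lpe (K19.f275913 IH) (Lpr_ff (f312261 IH) (Lpr_df (f293401 IH) (Lpn (LP (LK LD1_c8 LD2_c3 LD3_c21))))))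
theorem f296278 : Led Lsl_ft (LP (LK LD1_c8 LD2_c6 LD3_c47)) = (LP (LK LD1_c4 LD2_c3 LD3_c4)) :=
  Lre_f IH (LK LD1_c8 LD2_c6 LD3_c47) (LK LD1_c4 LD2_c3 LD3_c4) Lrfl Lrfl
theorem f312281 : Led Lsl_ff (LP (LK LD1_c15 LD2_c12 LD3_c49)) = (LP (LK LD1_c8 LD2_c6 LD3_c46)) :=
  Lgr Lrot19 (Lpr_dt (K19.f312277 IH) (Lpr_ft (f296278 IH) (Lpr_dt (K18.f192236 IH) (Lpn (LP (LK LD1_c8 LD2_c6 LD3_c46))))))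
theorem f192255 : Led Lsl_et (LP (LK LD1_c4 LD2_c3 LD3_c6)) = (LP (LK LD1_c8 LD2_c6 LD3_c46)) :=
  Lre_e IH (LK LD1_c4 LD2_c3 LD3_c6) (LK LD1_c8 LD2_c6 LD3_c46) Lrfl Lrfl
theorem f330289 : Led Lsl_ft (LP (LK LD1_c5 LD2_c15 LD3_c11)) = (LP (LK LD1_c4 LD2_c3 LD3_c6)) :=
  Lgr Lrot86 (Lpr_ef (f330281 IH) (Lpe (f312265 IH) (Lpe (K19.f190882 IH) (Lpr_ff (f312281 IH) (Lpe (f192255 IH) (Lpn (LP (LK LD1_c4 LD2_c3 LD3_c6))))))))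
theorem f330299 : Led Lsl_ff (LP (LK LD1_c5 LD2_c15 LD3_c11)) = (LP (LK LD1_c4 LD2_c3 LD3_c6)) :=
  Lgr Lrot3 (Lpr_ft (f330289 IH) (Lpn (LP (LK LD1_c4 LD2_c3 LD3_c6))))
theorem f266091 : Led Lsl_dt (LP (LK LD1_c9 LD2_c53 LD3_c30)) = (LP (LK LD1_c9 LD2_c51 LD3_c53)) :=
  Lgr Lrot42 (Lpr_df (K15.f266088 IH) (Lpn (LP (LK LD1_c9 LD2_c51 LD3_c53))))
theorem f330308 : Led Lsl_at (LP (LK LD1_c5 LD2_c15 LD3_c11)) = (LP (LK LD1_c5 LD2_c1 LD3_c0)) :=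
  Lgr Lrot33 (Lpr_ff (f330299 IH) (Lpr_dt (K15.f184817 IH) (Lpe (K19.f265926 IH) (Lpe (K15.f265930 IH) (Lpe (K15.f251459 IH) (Lpr_dt (K15.f247741 IH) (Lpe (K15.f266026 IH) (Lpr_dt (f266091 IH) (Lpe (K15.f266102 IH) (Lpn (LP (LK LD1_c5 LD2_c1 LD3_c0))))))))))))
theorem f265959 : Led Lsl_gf (LP (LK LD1_c5 LD2_c1 LD3_c8)) = (LP (LK LD1_c2 LD2_c28 LD3_c25)) :=
  Lgr Lrot144 (Lpr_dt (K15.f252780 IH) (Lpr_gt (K15.f265953 IH) (Lpr_dt (K15.f33386 IH) (Lpe (K14.f33359 IH) (Lpe (K10.f1602 IH) (Lpr_gf (K15.f213487 IH) (Lpr_df (K16.f246826 IH) (Lpe (K15.f252950 IH) (Lpe (K15.f192474 IH) (Lpn (LP (LK LD1_c2 LD2_c28 LD3_c25))))))))))))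
theorem f265985 : Led Lsl_ct (LP (LK LD1_c5 LD2_c1 LD3_c8)) = (LP (LK LD1_c5 LD2_c15 LD3_c11)) :=
  Lgr Lrot152 (Lpr_gf (f265959 IH) (Lpe (K14.f247804 IH) (Lpr_gt (K14.f247888 IH) (Lpr_ct (K9.f45902 IH) (Lpe (K14.f186868 IH) (Lpe (K14.f247954 IH) (Lpe (K15.f239571 IH) (Lpe (K15.f183682 IH) (Lpe (f186848 IH) (Lpn (LP (LK LD1_c5 LD2_c15 LD3_c11))))))))))))
theorem f266104 : Led Lsl_ct (LP (LK LD1_c5 LD2_c1 LD3_c0)) = (LP (LK LD1_c9 LD2_c51 LD3_c53)) :=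
  Lgr Lrot59 (Lpr_cf (K15.f266102 IH) (Lpn (LP (LK LD1_c9 LD2_c51 LD3_c53))))
theorem f330310 : Led Lsl_af (LP (LK LD1_c5 LD2_c1 LD3_c8)) = (LP (LK LD1_c9 LD2_c51 LD3_c53)) :=
  Lgr Lrot68 (Lpr_ct (f265985 IH) (Lpr_at (f330308 IH) (Lpr_ct (f266104 IH) (Lpn (LP (LK LD1_c9 LD2_c51 LD3_c53))))))
theorem f265967 : Led Lsl_et (LP (LK LD1_c5 LD2_c1 LD3_c8)) = (LP (LK LD1_c9 LD2_c52 LD3_c44)) :=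
  Lre_e IH (LK LD1_c5 LD2_c1 LD3_c8) (LK LD1_c9 LD2_c52 LD3_c44) Lrfl Lrfl
theorem f330320 : Led Lsl_at (LP (LK LD1_c9 LD2_c52 LD3_c44)) = (LP (LK LD1_c10 LD2_c8 LD3_c3)) :=
  Lgr Lrot80 (Lpe (f265967 IH) (Lpr_af (f330310 IH) (Lpe (f266099 IH) (Lpn (LP (LK LD1_c10 LD2_c8 LD3_c3))))))
theorem f330324 : Led Lsl_ff (LP (LK LD1_c9 LD2_c52 LD3_c44)) = (LP (LK LD1_c10 LD2_c8 LD3_c2)) :=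
  Lgr Lrot30 (Lpr_at (f330320 IH) (Lpe (f327314 IH) (Lpr_at (f327310 IH) (Lpn (LP (LK LD1_c10 LD2_c8 LD3_c2))))))
theorem f330326 : Led Lsl_ft (LP (LK LD1_c9 LD2_c52 LD3_c44)) = (LP (LK LD1_c10 LD2_c8 LD3_c2)) :=
  Lgr Lrot48 (Lpr_ff (f330324 IH) (Lpn (LP (LK LD1_c10 LD2_c8 LD3_c2))))
theorem f326759 : Led Lsl_cf (LP (LK LD1_c8 LD2_c4 LD3_c46)) = (LP (LK LD1_c10 LD2_c8 LD3_c2)) :=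
  Lgr Lrot11 (Lpr_ct (f326753 IH) (Lpn (LP (LK LD1_c10 LD2_c8 LD3_c2))))
theorem f330328 : Led Lsl_cf (LP (LK LD1_c9 LD2_c52 LD3_c44)) = (LP (LK LD1_c8 LD2_c3 LD3_c21)) :=
  Lgr Lrot108 (Lpr_ft (f330326 IH) (Lpe (f326759 IH) (Lpr_ft (f312265 IH) (Lpn (LP (LK LD1_c8 LD2_c3 LD3_c21))))))
theorem f234099 : Led Lsl_et (LP (LK LD1_c1 LD2_c16 LD3_c4)) = (LP (LK LD1_c2 LD2_c38 LD3_c15)) :=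
  Lre_e IH (LK LD1_c1 LD2_c16 LD3_c4) (LK LD1_c2 LD2_c38 LD3_c15) Lrfl Lrfl
theorem f293403 : Led Lsl_gt (LP (LK LD1_c8 LD2_c4 LD3_c48)) = (LP (LK LD1_c8 LD2_c3 LD3_c21)) :=
  Lgr Lrot112 (Lpr_df (K16.f275865 IH) (Lpr_et (K16.f275721 IH) (Lpe (K16.f234100 IH) (Lpe (f234099 IH) (Lpr_dt (K14.f224180 IH) (Lpe (K13.f196572 IH) (Lpe (K13.f234042 IH) (Lpe (K13.f234043 IH) (Lpe (K19.f213450 IH) (Lpr_dt (K19.f293399 IH) (Lpn (LP (LK LD1_c8 LD2_c3 LD3_c21)))))))))))))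
theorem f192615 : Led Lsl_ct (LP (LK LD1_c10 LD2_c0 LD3_c53)) = (LP (LK LD1_c18 LD2_c18 LD3_c0)) :=
  Lre_c IH (LK LD1_c10 LD2_c0 LD3_c53) (LK LD1_c18 LD2_c18 LD3_c0) Lrfl Lrfl
theorem f231459 : Led Lsl_ct (LP (LK LD1_c4 LD2_c20 LD3_c47)) = (LP (LK LD1_c8 LD2_c37 LD3_c54)) :=
  Lgr Lrot15 (Lpe (K15.f231421 IH) (Lpr_cf (K13.f231454 IH) (Lpe (K19.f54217 IH) (Lpn (LP (LK LD1_c8 LD2_c37 LD3_c54))))))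
theorem f308719 : Led Lsl_gf (LP (LK LD1_c16 LD2_c9 LD3_c55)) = (LP (LK LD1_c8 LD2_c37 LD3_c54)) :=
  Lgr Lrot47 (Lpr_gt (K19.f308714 IH) (Lpe (K19.f308302 IH) (Lpe (K19.f308282 IH) (Lpn (LP (LK LD1_c8 LD2_c37 LD3_c54))))))
theorem f308717 : Led Lsl_dt (LP (LK LD1_c16 LD2_c9 LD3_c55)) = (LP (LK LD1_c26 LD2_c6 LD3_c41)) :=
  Lre_d IH (LK LD1_c16 LD2_c9 LD3_c55) (LK LD1_c26 LD2_c6 LD3_c41) Lrfl Lrfl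
theorem f308640 : Led Lsl_dt (LP (LK LD1_c19 LD2_c54 LD3_c43)) = (LP (LK LD1_c11 LD2_c3 LD3_c4)) :=
  Lre_d IH (LK LD1_c19 LD2_c54 LD3_c43) (LK LD1_c11 LD2_c3 LD3_c4) Lrfl Lrfl
theorem f323818 : Led Lsl_gt (LP (LK LD1_c26 LD2_c6 LD3_c41)) = (LP (LK LD1_c19 LD2_c54 LD3_c43)) :=
  Lgr Lrot49 (Lpe (f308717 IH) (Lpr_gf (f308719 IH) (Lpe (f231459 IH) (Lpr_gt (f231443 IH) (Lpr_dt (f231444 IH) (Lpr_gt (f323813 IH) (Lpe (f311298 IH) (Lpr_cf (K19.f308636 IH) (Lpe (f308640 IH) (Lpn (LP (LK LD1_c19 LD2_c54 LD3_c43))))))))))))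
theorem f201781 : Led Lsl_et (LP (LK LD1_c4 LD2_c19 LD3_c58)) = (LP (LK LD1_c8 LD2_c37 LD3_c54)) :=
  Lre_e IH (LK LD1_c4 LD2_c19 LD3_c58) (LK LD1_c8 LD2_c37 LD3_c54) Lrfl Lrfl
theorem f266498 : Led Lsl_et (LP (LK LD1_c5 LD2_c4 LD3_c58)) = (LP (LK LD1_c10 LD2_c0 LD3_c61)) :=
  Lre_e IH (LK LD1_c5 LD2_c4 LD3_c58) (LK LD1_c10 LD2_c0 LD3_c61) Lrfl Lrfl
theorem f308638 : Led Lsl_dt (LP (LK LD1_c11 LD2_c3 LD3_c4)) = (LP (LK LD1_c19 LD2_c54 LD3_c43)) :=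
  Lre_d IH (LK LD1_c11 LD2_c3 LD3_c4) (LK LD1_c19 LD2_c54 LD3_c43) Lrfl Lrfl
theorem f192616 : Led Lsl_ct (LP (LK LD1_c18 LD2_c18 LD3_c0)) = (LP (LK LD1_c10 LD2_c0 LD3_c53)) :=
  Lre_c IH (LK LD1_c18 LD2_c18 LD3_c0) (LK LD1_c10 LD2_c0 LD3_c53) Lrfl Lrfl
theorem f323807 : Led Lsl_ef (LP (LK LD1_c18 LD2_c18 LD3_c0)) = (LP (LK LD1_c11 LD2_c3 LD3_c4)) :=
  Lgr Lrot28 (Lpr_ct (f192616 IH) (Lpr_et (f323803 IH) (Lpr_ct (K19.f308632 IH) (Lpn (LP (LK LD1_c11 LD2_c3 LD3_c4))))))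
theorem f323830 : Led Lsl_gf (LP (LK LD1_c10 LD2_c0 LD3_c61)) = (LP (LK LD1_c18 LD2_c18 LD3_c0)) :=
  Lgr Lrot141 (Lpe (f266498 IH) (Lpr_dt (K15.f192633 IH) (Lpe (K15.f266517 IH) (Lpe (K15.f201748 IH) (Lpr_et (f201781 IH) (Lpe (f308719 IH) (Lpr_dt (f308717 IH) (Lpr_gt (f323818 IH) (Lpe (f308638 IH) (Lpe (f323807 IH) (Lpn (LP (LK LD1_c18 LD2_c18 LD3_c0)))))))))))))
theorem f266499 : Led Lsl_cf (LP (LK LD1_c8 LD2_c4 LD3_c7)) = (LP (LK LD1_c10 LD2_c0 LD3_c61)) :=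
  Lgr Lrot39 (Lpr_et (K15.f190245 IH) (Lpr_ct (K15.f266485 IH) (Lpr_et (f266498 IH) (Lpn (LP (LK LD1_c10 LD2_c0 LD3_c61))))))
theorem f195679 : Led Lsl_ct (LP (LK LD1_c8 LD2_c4 LD3_c5)) = (LP (LK LD1_c4 LD2_c1 LD3_c44)) :=
  Lre_c IH (LK LD1_c8 LD2_c4 LD3_c5) (LK LD1_c4 LD2_c1 LD3_c44) Lrfl Lrfl
theorem f330330 : Led Lsl_gt (LP (LK LD1_c9 LD2_c52 LD3_c44)) = (LP (LK LD1_c8 LD2_c4 LD3_c5)) :=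
  Lgr Lrot150 (Lpr_cf (f330328 IH) (Lpe (f293403 IH) (Lpr_df (K16.f275865 IH) (Lpe (f275775 IH) (Lpr_ct (f192615 IH) (Lpe (f323830 IH) (Lpe (f266499 IH) (Lpe (K13.f195616 IH) (Lpe (f195679 IH) (Lpn (LP (LK LD1_c8 LD2_c4 LD3_c5))))))))))))
theorem f330335 : Led Lsl_gf (LP (LK LD1_c15 LD2_c10 LD3_c0)) = (LP (LK LD1_c8 LD2_c4 LD3_c5)) :=
  Lgr Lrot76 (Lpr_af (f326756 IH) (Lpe (f330326 IH) (Lpr_gt (f330330 IH) (Lpn (LP (LK LD1_c8 LD2_c4 LD3_c5))))))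
theorem f192967 : Led Lsl_et (LP (LK LD1_c8 LD2_c4 LD3_c12)) = (LP (LK LD1_c4 LD2_c1 LD3_c47)) :=
  Lre_e IH (LK LD1_c8 LD2_c4 LD3_c12) (LK LD1_c4 LD2_c1 LD3_c47) Lrfl Lrfl
theorem f192968 : Led Lsl_dt (LP (LK LD1_c8 LD2_c4 LD3_c12)) = (LP (LK LD1_c15 LD2_c11 LD3_c34)) :=
  Lre_d IH (LK LD1_c8 LD2_c4 LD3_c12) (LK LD1_c15 LD2_c11 LD3_c34) Lrfl Lrfl
theorem f192969 : Led Lsl_gt (LP (LK LD1_c25 LD2_c0 LD3_c42)) = (LP (LK LD1_c15 LD2_c11 LD3_c34)) :=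
  Lre_g IH (LK LD1_c25 LD2_c0 LD3_c42) (LK LD1_c15 LD2_c11 LD3_c34) Lrfl Lrfl
theorem f330345 : Led Lsl_dt (LP (LK LD1_c18 LD2_c4 LD3_c55)) = (LP (LK LD1_c25 LD2_c0 LD3_c42)) :=
  Lgr Lrot136 (Lpe (f327308 IH) (Lpr_gf (f330335 IH) (Lpe (K13.f239919 IH) (Lpr_dt (K13.f196122 IH) (Lpe (K13.f240577 IH) (Lpr_df (K1.f46669 IH) (Lpr_gf (K10.f192953 IH) (Lpe (f192967 IH) (Lpr_dt (f192968 IH) (Lpe (f192969 IH) (Lpn (LP (LK LD1_c25 LD2_c0 LD3_c42)))))))))))))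
theorem f326772 : Led Lsl_ft (LP (LK LD1_c15 LD2_c16 LD3_c35)) = (LP (LK LD1_c18 LD2_c27 LD3_c35)) :=
  Lgr Lrot4 (Lpe (f192248 IH) (Lpe (f312387 IH) (Lpr_cf (f326761 IH) (Lpn (LP (LK LD1_c18 LD2_c27 LD3_c35))))))
theorem f327442 : Led Lsl_gt (LP (LK LD1_c18 LD2_c31 LD3_c58)) = (LP (LK LD1_c18 LD2_c4 LD3_c55)) :=
  Lgr Lrot46 (Lpr_gf (f327428 IH) (Lpr_ft (f326772 IH) (Lpr_at (f327289 IH) (Lpn (LP (LK LD1_c18 LD2_c4 LD3_c55))))))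
theorem f298482 : Led Lsl_df (LP (LK LD1_c4 LD2_c1 LD3_c48)) = (LP (LK LD1_c4 LD2_c4 LD3_c24)) :=
  Lgr Lrot18 (Lpe (K17.f287212 IH) (Lpe (K17.f286318 IH) (Lpr_at (K18.f298472 IH) (Lpn (LP (LK LD1_c4 LD2_c4 LD3_c24))))))
theorem f263287 : Led Lsl_ct (LP (LK LD1_c18 LD2_c4 LD3_c40)) = (LP (LK LD1_c9 LD2_c52 LD3_c35)) :=
  Lre_c IH (LK LD1_c18 LD2_c4 LD3_c40) (LK LD1_c9 LD2_c52 LD3_c35) Lrfl Lrfl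
theorem f298644 : Led Lsl_cf (LP (LK LD1_c25 LD2_c0 LD3_c51)) = (LP (LK LD1_c31 LD2_c44 LD3_c31)) :=
  Lgr Lrot11 (Lpr_ct (f298642 IH) (Lpn (LP (LK LD1_c31 LD2_c44 LD3_c31))))
theorem f327234 : Led Lsl_df (LP (LK LD1_c31 LD2_c44 LD3_c31)) = (LP (LK LD1_c25 LD2_c23 LD3_c3)) :=
  Lgr Lrot38 (Lpr_dt (f327230 IH) (Lpn (LP (LK LD1_c25 LD2_c23 LD3_c3))))
theorem f327260 : Led Lsl_dt (LP (LK LD1_c9 LD2_c52 LD3_c35)) = (LP (LK LD1_c8 LD2_c9 LD3_c43)) :=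
  Lgr Lrot173 (Lpe (f263287 IH) (Lpr_df (f327258 IH) (Lpr_cf (f298644 IH) (Lpr_df (f327234 IH) (Lpe (f22065 IH) (Lpe (f22064 IH) (Lpe (K17.f22063 IH) (Lpe (K13.f22052 IH) (Lpe (K19.f22060 IH) (Lpe (K19.f22061 IH) (Lpe (f22062 IH) (Lpr_df (f327030 IH) (Lpe (f298585 IH) (Lpe (f296378 IH) (Lpr_cf (K19.f298580 IH) (Lpn (LP (LK LD1_c8 LD2_c9 LD3_c43))))))))))))))))))
theorem f330353 : Led Lsl_gt (LP (LK LD1_c10 LD2_c10 LD3_c20)) = (LP (LK LD1_c9 LD2_c52 LD3_c35)) :=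
  Lgr Lrot94 (Lpe (f253126 IH) (Lpr_gt (f327442 IH) (Lpr_dt (f330345 IH) (Lpr_gt (f192969 IH) (Lpr_dt (K18.f296856 IH) (Lpe (K18.f259005 IH) (Lpr_df (f298482 IH) (Lpe (K19.f244469 IH) (Lpe (f327260 IH) (Lpn (LP (LK LD1_c9 LD2_c52 LD3_c35))))))))))))
theorem f296845 : Led Lsl_ct (LP (LK LD1_c10 LD2_c8 LD3_c33)) = (LP (LK LD1_c18 LD2_c28 LD3_c31)) :=
  Lre_c IH (LK LD1_c10 LD2_c8 LD3_c33) (LK LD1_c18 LD2_c28 LD3_c31) Lrfl Lrfl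
theorem f327426 : Led Lsl_gt (LP (LK LD1_c8 LD2_c28 LD3_c6)) = (LP (LK LD1_c10 LD2_c8 LD3_c33)) :=
  Lgr Lrot150 (Lpr_cf (f253133 IH) (Lpr_gf (f327420 IH) (Lpe (K19.f201008 IH) (Lpr_gt (K19.f201002 IH) (Lpr_ct (K17.f201016 IH) (Lpr_gt (f201017 IH) (Lpe (f298525 IH) (Lpr_df (f327411 IH) (Lpe (f296845 IH) (Lpn (LP (LK LD1_c10 LD2_c8 LD3_c33))))))))))))
theorem f330368 : Led Lsl_gt (LP (LK LD1_c18 LD2_c28 LD3_c31)) = (LP (LK LD1_c25 LD2_c6 LD3_c58)) :=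
  Lgr Lrot150 (Lpe (f296845 IH) (Lpe (f327426 IH) (Lpe (f253122 IH) (Lpr_gt (f330353 IH) (Lpr_ct (f263289 IH) (Lpr_gt (f327254 IH) (Lpe (f298638 IH) (Lpe (K20.f320927 IH) (Lpe (f310579 IH) (Lpn (LP (LK LD1_c25 LD2_c6 LD3_c58))))))))))))
theorem f296485 : Led Lsl_at (LP (LK LD1_c25 LD2_c8 LD3_c44)) = (LP (LK LD1_c20 LD2_c2 LD3_c54)) :=
  Lgr Lrot100 (Lpr_af (K19.f296481 IH) (Lpn (LP (LK LD1_c20 LD2_c2 LD3_c54))))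
theorem f296460 : Led Lsl_ff (LP (LK LD1_c25 LD2_c8 LD3_c44)) = (LP (LK LD1_c28 LD2_c3 LD3_c39)) :=
  Lgr Lrot23 (Lpr_ct (K19.f244394 IH) (Lpr_ft (K18.f296452 IH) (Lpr_ct (f260090 IH) (Lpn (LP (LK LD1_c28 LD2_c3 LD3_c39))))))
theorem f244338 : Led Lsl_gt (LP (LK LD1_c29 LD2_c16 LD3_c22)) = (LP (LK LD1_c20 LD2_c2 LD3_c54)) :=
  Lre_g IH (LK LD1_c29 LD2_c16 LD3_c22) (LK LD1_c20 LD2_c2 LD3_c54) Lrfl Lrfl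
theorem f296530 : Led Lsl_gt (LP (LK LD1_c28 LD2_c3 LD3_c39)) = (LP (LK LD1_c29 LD2_c16 LD3_c22)) :=
  Lgr Lrot5 (Lpe (f296460 IH) (Lpr_at (f296485 IH) (Lpe (f244338 IH) (Lpn (LP (LK LD1_c29 LD2_c16 LD3_c22))))))
theorem f330397 : Led Lsl_ct (LP (LK LD1_c29 LD2_c16 LD3_c22)) = (LP (LK LD1_c25 LD2_c13 LD3_c41)) :=
  Lgr Lrot110 (Lpe (f296530 IH) (Lpe (f260090 IH) (Lpe (f244325 IH) (Lpr_df (f327411 IH) (Lpr_gt (f330368 IH) (Lpr_ct (f310579 IH) (Lpe (f310583 IH) (Lpr_ct (f299208 IH) (Lpe (K18.f259123 IH) (Lpn (LP (LK LD1_c25 LD2_c13 LD3_c41))))))))))))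
theorem f330399 : Led Lsl_cf (LP (LK LD1_c29 LD2_c16 LD3_c22)) = (LP (LK LD1_c25 LD2_c13 LD3_c41)) :=
  Lgr Lrot11 (Lpr_ct (f330397 IH) (Lpn (LP (LK LD1_c25 LD2_c13 LD3_c41))))
theorem f244293 : Led Lsl_ct (LP (LK LD1_c20 LD2_c2 LD3_c54)) = (LP (LK LD1_c11 LD2_c9 LD3_c0)) :=
  Lre_c IH (LK LD1_c20 LD2_c2 LD3_c54) (LK LD1_c11 LD2_c9 LD3_c0) Lrfl Lrfl
theorem f287254 : Led Lsl_ct (LP (LK LD1_c15 LD2_c11 LD3_c34)) = (LP (LK LD1_c25 LD2_c0 LD3_c43)) :=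
  Lre_c IH (LK LD1_c15 LD2_c11 LD3_c34) (LK LD1_c25 LD2_c0 LD3_c43) Lrfl Lrfl
theorem f287255 : Led Lsl_ff (LP (LK LD1_c29 LD2_c15 LD3_c52)) = (LP (LK LD1_c25 LD2_c0 LD3_c43)) :=
  Lgr Lrot23 (Lpr_ct (K17.f287249 IH) (Lpr_ft (K17.f287253 IH) (Lpr_ct (f287254 IH) (Lpn (LP (LK LD1_c25 LD2_c0 LD3_c43))))))
theorem f287266 : Led Lsl_af (LP (LK LD1_c28 LD2_c3 LD3_c21)) = (LP (LK LD1_c29 LD2_c15 LD3_c52)) :=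
  Lgr Lrot68 (Lpr_ct (f287265 IH) (Lpr_at (K17.f287257 IH) (Lpe (K18.f287251 IH) (Lpn (LP (LK LD1_c29 LD2_c15 LD3_c52))))))
theorem f327034 : Led Lsl_gt (LP (LK LD1_c28 LD2_c6 LD3_c29)) = (LP (LK LD1_c28 LD2_c3 LD3_c21)) :=
  Lgr Lrot46 (Lpr_gf (f327032 IH) (Lpe (f287255 IH) (Lpe (f287266 IH) (Lpn (LP (LK LD1_c28 LD2_c3 LD3_c21))))))
theorem f244455 : Led Lsl_ct (LP (LK LD1_c31 LD2_c46 LD3_c8)) = (LP (LK LD1_c25 LD2_c6 LD3_c30)) :=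
  Lre_c IH (LK LD1_c31 LD2_c46 LD3_c8) (LK LD1_c25 LD2_c6 LD3_c30) Lrfl Lrfl
theorem f244444 : Led Lsl_gt (LP (LK LD1_c15 LD2_c22 LD3_c25)) = (LP (LK LD1_c8 LD2_c9 LD3_c42)) :=
  Lre_g IH (LK LD1_c15 LD2_c22 LD3_c25) (LK LD1_c8 LD2_c9 LD3_c42) Lrfl Lrfl
theorem f244508 : Led Lsl_dt (LP (LK LD1_c25 LD2_c14 LD3_c11)) = (LP (LK LD1_c15 LD2_c22 LD3_c25)) :=
  Lre_d IH (LK LD1_c25 LD2_c14 LD3_c11) (LK LD1_c15 LD2_c22 LD3_c25) Lrfl Lrfl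
theorem f327039 : Led Lsl_gt (LP (LK LD1_c25 LD2_c6 LD3_c30)) = (LP (LK LD1_c25 LD2_c14 LD3_c11)) :=
  Lgr Lrot94 (Lpe (f244455 IH) (Lpe (f298587 IH) (Lpe (f327030 IH) (Lpr_gt (f327034 IH) (Lpr_dt (f298488 IH) (Lpe (K18.f244482 IH) (Lpe (K18.f244047 IH) (Lpe (f244444 IH) (Lpe (f244508 IH) (Lpn (LP (LK LD1_c25 LD2_c14 LD3_c11))))))))))))
theorem f232378 : Led Lsl_dt (LP (LK LD1_c15 LD2_c12 LD3_c38)) = (LP (LK LD1_c18 LD2_c45 LD3_c26)) :=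
  Lgr Lrot42 (Lpr_df (f232376 IH) (Lpn (LP (LK LD1_c18 LD2_c45 LD3_c26))))
theorem f46044 : Led Lsl_dt (LP (LK LD1_c8 LD2_c5 LD3_c39)) = (LP (LK LD1_c15 LD2_c14 LD3_c27)) :=
  Lre_d IH (LK LD1_c8 LD2_c5 LD3_c39) (LK LD1_c15 LD2_c14 LD3_c27) Lrfl Lrfl
theorem f232383 : Led Lsl_gt (LP (LK LD1_c15 LD2_c14 LD3_c27)) = (LP (LK LD1_c18 LD2_c45 LD3_c26)) :=
  Lgr Lrot139 (Lpe (f46044 IH) (Lpe (f46043 IH) (Lpe (K1.f46031 IH) (Lpr_dt (K1.f46028 IH) (Lpe (K10.f193460 IH) (Lpe (K12.f193630 IH) (Lpr_et (K16.f193639 IH) (Lpe (K18.f193640 IH) (Lpe (f193641 IH) (Lpr_dt (f232378 IH) (Lpn (LP (LK LD1_c18 LD2_c45 LD3_c26)))))))))))))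
theorem f45834 : Led Lsl_dt (LP (LK LD1_c8 LD2_c5 LD3_c61)) = (LP (LK LD1_c15 LD2_c14 LD3_c60)) :=
  Lre_d IH (LK LD1_c8 LD2_c5 LD3_c61) (LK LD1_c15 LD2_c14 LD3_c60) Lrfl Lrfl
theorem f327377 : Led Lsl_gf (LP (LK LD1_c15 LD2_c14 LD3_c10)) = (LP (LK LD1_c8 LD2_c8 LD3_c28)) :=
  Lgr Lrot141 (Lpe (K15.f259128 IH) (Lpe (K18.f259124 IH) (Lpe (f327365 IH) (Lpr_df (f320941 IH) (Lpr_et (f327371 IH) (Lpr_gt (f232383 IH) (Lpe (f232376 IH) (Lpe (f293079 IH) (Lpe (f45834 IH) (Lpe (f237028 IH) (Lpn (LP (LK LD1_c8 LD2_c8 LD3_c28)))))))))))))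
theorem f259131 : Led Lsl_dt (LP (LK LD1_c15 LD2_c22 LD3_c2)) = (LP (LK LD1_c15 LD2_c14 LD3_c10)) :=
  Lgr Lrot42 (Lpr_df (K15.f259129 IH) (Lpn (LP (LK LD1_c15 LD2_c14 LD3_c10))))
theorem f52352 : Led Lsl_gt (LP (LK LD1_c8 LD2_c9 LD3_c29)) = (LP (LK LD1_c15 LD2_c22 LD3_c0)) :=
  Lre_g IH (LK LD1_c8 LD2_c9 LD3_c29) (LK LD1_c15 LD2_c22 LD3_c0) Lrfl Lrfl
theorem f28001 : Led Lsl_dt (LP (LK LD1_c4 LD2_c4 LD3_c18)) = (LP (LK LD1_c8 LD2_c9 LD3_c29)) :=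
  Lre_d IH (LK LD1_c4 LD2_c4 LD3_c18) (LK LD1_c8 LD2_c9 LD3_c29) Lrfl Lrfl
theorem f187956 : Led Lsl_et (LP (LK LD1_c9 LD2_c37 LD3_c41)) = (LP (LK LD1_c4 LD2_c52 LD3_c49)) :=
  Lre_e IH (LK LD1_c9 LD2_c37 LD3_c41) (LK LD1_c4 LD2_c52 LD3_c49) Lrfl Lrfl
theorem f310587 : Led Lsl_df (LP (LK LD1_c15 LD2_c22 LD3_c0)) = (LP (LK LD1_c9 LD2_c37 LD3_c41)) :=
  Lgr Lrot168 (Lpe (f52352 IH) (Lpe (f28001 IH) (Lpr_et (K15.f259126 IH) (Lpr_gf (f310583 IH) (Lpe (K20.f310575 IH) (Lpe (K20.f310573 IH) (Lpe (K20.f187945 IH) (Lpr_df (f187938 IH) (Lpe (K19.f170729 IH) (Lpe (f187956 IH) (Lpn (LP (LK LD1_c9 LD2_c37 LD3_c41)))))))))))))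
theorem f310589 : Led Lsl_dt (LP (LK LD1_c15 LD2_c22 LD3_c0)) = (LP (LK LD1_c9 LD2_c37 LD3_c41)) :=
  Lgr Lrot42 (Lpr_df (f310587 IH) (Lpn (LP (LK LD1_c9 LD2_c37 LD3_c41))))
theorem f187959 : Led Lsl_et (LP (LK LD1_c4 LD2_c52 LD3_c49)) = (LP (LK LD1_c9 LD2_c37 LD3_c41)) :=
  Lre_e IH (LK LD1_c4 LD2_c52 LD3_c49) (LK LD1_c9 LD2_c37 LD3_c41) Lrfl Lrfl
theorem f199330 : Led Lsl_gf (LP (LK LD1_c15 LD2_c9 LD3_c37)) = (LP (LK LD1_c9 LD2_c37 LD3_c41)) :=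
  Lgr Lrot138 (Lpr_dt (K19.f28036 IH) (Lpr_gt (K19.f28035 IH) (Lpr_df (K10.f27994 IH) (Lpr_et (K13.f28028 IH) (Lpr_gt (K10.f194753 IH) (Lpe (K19.f42459 IH) (Lpe (K15.f42445 IH) (Lpr_gt (K19.f199326 IH) (Lpe (K19.f187955 IH) (Lpr_et (f187959 IH) (Lpn (LP (LK LD1_c9 LD2_c37 LD3_c41)))))))))))))
theorem f28110 : Led Lsl_dt (LP (LK LD1_c8 LD2_c3 LD3_c6)) = (LP (LK LD1_c15 LD2_c9 LD3_c37)) :=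
  Lre_d IH (LK LD1_c8 LD2_c3 LD3_c6) (LK LD1_c15 LD2_c9 LD3_c37) Lrfl Lrfl
theorem f237027 : Led Lsl_dt (LP (LK LD1_c4 LD2_c3 LD3_c58)) = (LP (LK LD1_c8 LD2_c8 LD3_c28)) :=
  Lre_d IH (LK LD1_c4 LD2_c3 LD3_c58) (LK LD1_c8 LD2_c8 LD3_c28) Lrfl Lrfl
theorem f327379 : Led Lsl_gt (LP (LK LD1_c15 LD2_c9 LD3_c38)) = (LP (LK LD1_c8 LD2_c8 LD3_c29)) :=
  Lgr Lrot131 (Lpe (K19.f199332 IH) (Lpr_dt (f28110 IH) (Lpr_gf (f199330 IH) (Lpe (f310589 IH) (Lpe (f52352 IH) (Lpe (K15.f259127 IH) (Lpr_dt (f259131 IH) (Lpr_gf (f327377 IH) (Lpe (f237027 IH) (Lpr_et (f237031 IH) (Lpn (LP (LK LD1_c8 LD2_c8 LD3_c29)))))))))))))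
theorem f45998 : Led Lsl_df (LP (LK LD1_c4 LD2_c2 LD3_c42)) = (LP (LK LD1_c4 LD2_c2 LD3_c42)) :=
  Lgr Lrot70 (Lpr_et (K1.f45824 IH) (Lpr_dt (K1.f27861 IH) (Lpr_et (K1.f45994 IH) (Lpr_dt (K1.f27857 IH) (Lpr_et (f45983 IH) (Lpn (LP (LK LD1_c4 LD2_c2 LD3_c42))))))))
theorem f243997 : Led Lsl_et (LP (LK LD1_c15 LD2_c14 LD3_c60)) = (LP (LK LD1_c15 LD2_c16 LD3_c33)) :=
  Lgr Lrot87 (Lpr_ef (f243994 IH) (Lpn (LP (LK LD1_c15 LD2_c16 LD3_c33))))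
theorem f260008 : Led Lsl_gt (LP (LK LD1_c15 LD2_c16 LD3_c33)) = (LP (LK LD1_c15 LD2_c10 LD3_c1)) :=
  Lgr Lrot137 (Lpe (f243997 IH) (Lpr_dt (f228965 IH) (Lpe (f45833 IH) (Lpr_df (f45998 IH) (Lpr_et (K1.f45824 IH) (Lpr_gf (K15.f259994 IH) (Lpe (K15.f46993 IH) (Lpe (K15.f259083 IH) (Lpe (K19.f243948 IH) (Lpe (K19.f260006 IH) (Lpn (LP (LK LD1_c15 LD2_c10 LD3_c1)))))))))))))
theorem f327422 : Led Lsl_ct (LP (LK LD1_c15 LD2_c22 LD3_c25)) = (LP (LK LD1_c8 LD2_c36 LD3_c42)) :=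
  Lgr Lrot7 (Lpe (f244508 IH) (Lpe (f327039 IH) (Lpe (f244448 IH) (Lpr_gf (f327420 IH) (Lpr_cf (K19.f299057 IH) (Lpr_gt (f327379 IH) (Lpr_dt (K18.f243988 IH) (Lpr_gt (f260008 IH) (Lpr_dt (K19.f260006 IH) (Lpn (LP (LK LD1_c8 LD2_c36 LD3_c42))))))))))))
theorem f330401 : Led Lsl_gf (LP (LK LD1_c15 LD2_c22 LD3_c25)) = (LP (LK LD1_c11 LD2_c8 LD3_c46)) :=
  Lgr Lrot147 (Lpr_ct (f327422 IH) (Lpr_gt (K19.f243948 IH) (Lpe (K18.f244291 IH) (Lpe (K18.f243914 IH) (Lpe (f244293 IH) (Lpe (f244338 IH) (Lpr_cf (f330399 IH) (Lpe (K18.f299206 IH) (Lpe (K18.f296851 IH) (Lpn (LP (LK LD1_c11 LD2_c8 LD3_c46))))))))))))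
theorem f299055 : Led Lsl_ct (LP (LK LD1_c15 LD2_c54 LD3_c55)) = (LP (LK LD1_c15 LD2_c9 LD3_c38)) :=
  Lgr Lrot7 (Lpe (K19.f201008 IH) (Lpe (K19.f296889 IH) (Lpe (K19.f286737 IH) (Lpr_gf (K19.f299053 IH) (Lpe (K20.f244125 IH) (Lpr_gt (K19.f296359 IH) (Lpr_dt (K19.f259104 IH) (Lpe (K19.f296427 IH) (Lpr_dt (K19.f296423 IH) (Lpn (LP (LK LD1_c15 LD2_c9 LD3_c38))))))))))))
theorem f327424 : Led Lsl_cf (LP (LK LD1_c15 LD2_c22 LD3_c25)) = (LP (LK LD1_c8 LD2_c36 LD3_c42)) :=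
  Lgr Lrot14 (Lpe (f244508 IH) (Lpe (f327039 IH) (Lpe (f244448 IH) (Lpr_gf (f327420 IH) (Lpr_ct (f299055 IH) (Lpr_gt (f327379 IH) (Lpr_dt (K18.f243988 IH) (Lpr_gt (f260008 IH) (Lpr_dt (K19.f260006 IH) (Lpn (LP (LK LD1_c8 LD2_c36 LD3_c42))))))))))))
theorem f329757 : Led Lsl_bt (LP (LK LD1_c8 LD2_c36 LD3_c42)) = (LP (LK LD1_c6 LD2_c4 LD3_c55)) :=
  Lgr Lrot127 (Lpr_bf (f329747 IH) (Lpn (LP (LK LD1_c6 LD2_c4 LD3_c55))))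
theorem f261588 : Led Lsl_bt (LP (LK LD1_c10 LD2_c46 LD3_c61)) = (LP (LK LD1_c19 LD2_c30 LD3_c19)) :=
  Lre_b IH (LK LD1_c10 LD2_c46 LD3_c61) (LK LD1_c19 LD2_c30 LD3_c19) Lrfl Lrfl
theorem f286257 : Led Lsl_ct (LP (LK LD1_c19 LD2_c30 LD3_c19)) = (LP (LK LD1_c20 LD2_c2 LD3_c18)) :=
  Lre_c IH (LK LD1_c19 LD2_c30 LD3_c19) (LK LD1_c20 LD2_c2 LD3_c18) Lrfl Lrfl
theorem f286260 : Led Lsl_bf (LP (LK LD1_c10 LD2_c20 LD3_c26)) = (LP (LK LD1_c5 LD2_c38 LD3_c56)) :=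
  Lgr Lrot90 (Lpr_ct (K17.f286248 IH) (Lpr_bt (f261588 IH) (Lpr_ct (f286257 IH) (Lpr_bt (K18.f286258 IH) (Lpr_ct (f286259 IH) (Lpn (LP (LK LD1_c5 LD2_c38 LD3_c56))))))))
theorem f330403 : Led Lsl_gt (LP (LK LD1_c6 LD2_c4 LD3_c55)) = (LP (LK LD1_c4 LD2_c27 LD3_c49)) :=
  Lgr Lrot82 (Lpe (f329757 IH) (Lpe (f327424 IH) (Lpr_gf (f330401 IH) (Lpe (K18.f296850 IH) (Lpe (f286260 IH) (Lpe (K17.f49915 IH) (Lpe (K19.f237097 IH) (Lpe (K19.f264888 IH) (Lpe (K19.f225877 IH) (Lpe (K19.f225845 IH) (Lpn (LP (LK LD1_c4 LD2_c27 LD3_c49)))))))))))))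
theorem f44627 : Led Lsl_et (LP (LK LD1_c2 LD2_c10 LD3_c53)) = (LP (LK LD1_c4 LD2_c27 LD3_c23)) :=
  Lre_e IH (LK LD1_c2 LD2_c10 LD3_c53) (LK LD1_c4 LD2_c27 LD3_c23) Lrfl Lrfl
theorem f44621 : Led Lsl_gt (LP (LK LD1_c4 LD2_c27 LD3_c23)) = (LP (LK LD1_c8 LD2_c52 LD3_c30)) :=
  Lre_g IH (LK LD1_c4 LD2_c27 LD3_c23) (LK LD1_c8 LD2_c52 LD3_c30) Lrfl Lrfl
theorem f330412 : Led Lsl_et (LP (LK LD1_c10 LD2_c3 LD3_c12)) = (LP (LK LD1_c8 LD2_c52 LD3_c30)) :=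
  Lgr Lrot122 (Lpr_dt (f329740 IH) (Lpr_gt (f330403 IH) (Lpe (K20.f278563 IH) (Lpr_et (K20.f190746 IH) (Lpe (K10.f190742 IH) (Lpr_dt (K1.f46136 IH) (Lpe (K9.f183838 IH) (Lpe (K15.f44607 IH) (Lpr_et (f44627 IH) (Lpr_gt (f44621 IH) (Lpn (LP (LK LD1_c8 LD2_c52 LD3_c30)))))))))))))
theorem f330414 : Led Lsl_bf (LP (LK LD1_c8 LD2_c3 LD3_c20)) = (LP (LK LD1_c8 LD2_c52 LD3_c30)) :=
  Lgr Lrot96 (Lpr_et (K19.f260010 IH) (Lpe (f327357 IH) (Lpr_et (f330412 IH) (Lpn (LP (LK LD1_c8 LD2_c52 LD3_c30))))))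
theorem f235155 : Led Lsl_bt (LP (LK LD1_c10 LD2_c31 LD3_c28)) = (LP (LK LD1_c5 LD2_c20 LD3_c48)) :=
  Lre_b IH (LK LD1_c10 LD2_c31 LD3_c28) (LK LD1_c5 LD2_c20 LD3_c48) Lrfl Lrfl
theorem f330420 : Led Lsl_dt (LP (LK LD1_c5 LD2_c20 LD3_c48)) = (LP (LK LD1_c8 LD2_c52 LD3_c30)) :=
  Lgr Lrot79 (Lpe (f235155 IH) (Lpr_df (f330246 IH) (Lpr_bf (f330414 IH) (Lpn (LP (LK LD1_c8 LD2_c52 LD3_c30))))))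
theorem f258097 : Led Lsl_ft (LP (LK LD1_c2 LD2_c37 LD3_c1)) = (LP (LK LD1_c5 LD2_c20 LD3_c48)) :=
  Lre_f IH (LK LD1_c2 LD2_c37 LD3_c1) (LK LD1_c5 LD2_c20 LD3_c48) Lrfl Lrfl
theorem f330426 : Led Lsl_ff (LP (LK LD1_c5 LD2_c12 LD3_c0)) = (LP (LK LD1_c8 LD2_c52 LD3_c30)) :=
  Lgr Lrot19 (Lpr_dt (K15.f258069 IH) (Lpr_ft (f258097 IH) (Lpr_dt (f330420 IH) (Lpn (LP (LK LD1_c8 LD2_c52 LD3_c30))))))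
theorem f330430 : Led Lsl_ft (LP (LK LD1_c5 LD2_c12 LD3_c0)) = (LP (LK LD1_c8 LD2_c52 LD3_c30)) :=
  Lgr Lrot48 (Lpr_ff (f330426 IH) (Lpn (LP (LK LD1_c8 LD2_c52 LD3_c30))))
theorem f183903 : Led Lsl_gt (LP (LK LD1_c2 LD2_c33 LD3_c27)) = (LP (LK LD1_c5 LD2_c13 LD3_c12)) :=
  Lre_g IH (LK LD1_c2 LD2_c33 LD3_c27) (LK LD1_c5 LD2_c13 LD3_c12) Lrfl Lrfl
theorem f330434 : Led Lsl_af (LP (LK LD1_c5 LD2_c13 LD3_c12)) = (LP (LK LD1_c8 LD2_c52 LD3_c30)) :=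
  Lgr Lrot31 (Lpe (f183903 IH) (Lpe (K15.f258111 IH) (Lpr_ft (f330430 IH) (Lpn (LP (LK LD1_c8 LD2_c52 LD3_c30))))))
theorem f330436 : Led Lsl_at (LP (LK LD1_c5 LD2_c13 LD3_c12)) = (LP (LK LD1_c8 LD2_c52 LD3_c30)) :=
  Lgr Lrot100 (Lpr_af (f330434 IH) (Lpn (LP (LK LD1_c8 LD2_c52 LD3_c30))))
theorem f330439 : Led Lsl_ff (LP (LK LD1_c5 LD2_c13 LD3_c12)) = (LP (LK LD1_c2 LD2_c38 LD3_c46)) :=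
  Lgr Lrot52 (Lpr_at (f330436 IH) (Lpe (f44621 IH) (Lpr_gf (K17.f195897 IH) (Lpn (LP (LK LD1_c2 LD2_c38 LD3_c46))))))
theorem f330448 : Led Lsl_ft (LP (LK LD1_c5 LD2_c13 LD3_c12)) = (LP (LK LD1_c2 LD2_c38 LD3_c46)) :=
  Lgr Lrot48 (Lpr_ff (f330439 IH) (Lpn (LP (LK LD1_c2 LD2_c38 LD3_c46))))
theorem f318333 : Led Lsl_ft (LP (LK LD1_c1 LD2_c16 LD3_c15)) = (LP (LK LD1_c2 LD2_c38 LD3_c47)) :=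
  Lre_f IH (LK LD1_c1 LD2_c16 LD3_c15) (LK LD1_c2 LD2_c38 LD3_c47) Lrfl Lrfl
theorem f330454 : Led Lsl_df (LP (LK LD1_c5 LD2_c13 LD3_c12)) = (LP (LK LD1_c2 LD2_c38 LD3_c47)) :=
  Lgr Lrot78 (Lpr_ft (f330448 IH) (Lpr_dt (f195909 IH) (Lpr_ft (f318333 IH) (Lpn (LP (LK LD1_c2 LD2_c38 LD3_c47))))))
theorem f330438 : Led Lsl_bt (LP (LK LD1_c5 LD2_c13 LD3_c12)) = (LP (LK LD1_c10 LD2_c16 LD3_c45)) :=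
  Lre_b IH (LK LD1_c5 LD2_c13 LD3_c12) (LK LD1_c10 LD2_c16 LD3_c45) Lrfl Lrfl
theorem f330458 : Led Lsl_dt (LP (LK LD1_c10 LD2_c16 LD3_c45)) = (LP (LK LD1_c5 LD2_c24 LD3_c6)) :=
  Lgr Lrot79 (Lpe (f330438 IH) (Lpr_df (f330454 IH) (Lpe (K20.f318329 IH) (Lpn (LP (LK LD1_c5 LD2_c24 LD3_c6))))))
theorem f330474 : Led Lsl_df (LP (LK LD1_c10 LD2_c16 LD3_c45)) = (LP (LK LD1_c5 LD2_c24 LD3_c6)) :=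
  Lgr Lrot38 (Lpr_dt (f330458 IH) (Lpn (LP (LK LD1_c5 LD2_c24 LD3_c6))))
theorem f224809 : Led Lsl_at (LP (LK LD1_c10 LD2_c38 LD3_c42)) = (LP (LK LD1_c5 LD2_c24 LD3_c6)) :=
  Lre_a IH (LK LD1_c10 LD2_c38 LD3_c42) (LK LD1_c5 LD2_c24 LD3_c6) Lrfl Lrfl
theorem f330480 : Led Lsl_at (LP (LK LD1_c10 LD2_c16 LD3_c45)) = (LP (LK LD1_c10 LD2_c20 LD3_c21)) :=
  Lgr Lrot51 (Lpr_df (f330474 IH) (Lpe (f224809 IH) (Lpe (K19.f306496 IH) (Lpn (LP (LK LD1_c10 LD2_c20 LD3_c21))))))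
theorem f330418 : Led Lsl_bt (LP (LK LD1_c8 LD2_c3 LD3_c20)) = (LP (LK LD1_c8 LD2_c52 LD3_c30)) :=
  Lgr Lrot127 (Lpr_bf (f330414 IH) (Lpn (LP (LK LD1_c8 LD2_c52 LD3_c30))))
theorem f330484 : Led Lsl_bf (LP (LK LD1_c8 LD2_c4 LD3_c46)) = (LP (LK LD1_c10 LD2_c20 LD3_c21)) :=
  Lgr Lrot81 (Lpr_at (K19.f312269 IH) (Lpr_bt (f330418 IH) (Lpe (f330434 IH) (Lpr_bt (f330438 IH) (Lpr_at (f330480 IH) (Lpn (LP (LK LD1_c10 LD2_c20 LD3_c21))))))))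
theorem f249101 : Led Lsl_gt (LP (LK LD1_c5 LD2_c2 LD3_c59)) = (LP (LK LD1_c9 LD2_c56 LD3_c49)) :=
  Lre_g IH (LK LD1_c5 LD2_c2 LD3_c59) (LK LD1_c9 LD2_c56 LD3_c49) Lrfl Lrfl
theorem f330490 : Led Lsl_cf (LP (LK LD1_c9 LD2_c56 LD3_c49)) = (LP (LK LD1_c10 LD2_c20 LD3_c21)) :=
  Lgr Lrot58 (Lpe (f249101 IH) (Lpe (K20.f257615 IH) (Lpr_bt (K20.f275982 IH) (Lpe (K14.f250340 IH) (Lpr_bf (K16.f246883 IH) (Lpr_ct (K16.f246843 IH) (Lpe (K16.f275980 IH) (Lpe (K16.f192627 IH) (Lpe (K19.f275911 IH) (Lpr_bf (f330484 IH) (Lpn (LP (LK LD1_c10 LD2_c20 LD3_c21)))))))))))))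
theorem f257702 : Led Lsl_ft (LP (LK LD1_c5 LD2_c2 LD3_c59)) = (LP (LK LD1_c9 LD2_c56 LD3_c51)) :=
  Lre_f IH (LK LD1_c5 LD2_c2 LD3_c59) (LK LD1_c9 LD2_c56 LD3_c51) Lrfl Lrfl
theorem f257703 : Led Lsl_af (LP (LK LD1_c18 LD2_c9 LD3_c11)) = (LP (LK LD1_c9 LD2_c56 LD3_c51)) :=
  Lgr Lrot45 (Lpr_ft (K19.f257696 IH) (Lpr_at (K19.f257701 IH) (Lpr_ft (f257702 IH) (Lpn (LP (LK LD1_c9 LD2_c56 LD3_c51))))))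
theorem f257764 : Led Lsl_gf (LP (LK LD1_c18 LD2_c9 LD3_c11)) = (LP (LK LD1_c9 LD2_c56 LD3_c49)) :=
  Lgr Lrot76 (Lpr_af (f257703 IH) (Lpe (f257702 IH) (Lpr_gt (f249101 IH) (Lpn (LP (LK LD1_c9 LD2_c56 LD3_c49))))))
theorem f169190 : Led Lsl_bt (LP (LK LD1_c5 LD2_c23 LD3_c38)) = (LP (LK LD1_c5 LD2_c20 LD3_c41)) :=
  Lgr Lrot127 (Lpr_bf (K15.f169184 IH) (Lpn (LP (LK LD1_c5 LD2_c20 LD3_c41))))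
theorem f320306 : Led Lsl_gt (LP (LK LD1_c10 LD2_c37 LD3_c40)) = (LP (LK LD1_c5 LD2_c39 LD3_c46)) :=
  Lgr Lrot65 (Lpe (K19.f169192 IH) (Lpr_bt (f169190 IH) (Lpe (K20.f315894 IH) (Lpr_bf (K20.f320295 IH) (Lpr_ct (K20.f245793 IH) (Lpe (K20.f320304 IH) (Lpe (K20.f179970 IH) (Lpe (K13.f171765 IH) (Lpe (K14.f179996 IH) (Lpr_ct (K19.f180044 IH) (Lpn (LP (LK LD1_c5 LD2_c39 LD3_c46)))))))))))))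
theorem f312607 : Led Lsl_ff (LP (LK LD1_c9 LD2_c42 LD3_c1)) = (LP (LK LD1_c16 LD2_c51 LD3_c13)) :=
  Lgr Lrot3 (Lpr_ft (K19.f312599 IH) (Lpn (LP (LK LD1_c16 LD2_c51 LD3_c13))))
theorem f307080 : Led Lsl_at (LP (LK LD1_c9 LD2_c1 LD3_c15)) = (LP (LK LD1_c16 LD2_c51 LD3_c13)) :=
  Lre_a IH (LK LD1_c9 LD2_c1 LD3_c15) (LK LD1_c16 LD2_c51 LD3_c13) Lrfl Lrfl
theorem f312609 : Led Lsl_at (LP (LK LD1_c9 LD2_c42 LD3_c1)) = (LP (LK LD1_c5 LD2_c39 LD3_c46)) :=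
  Lgr Lrot66 (Lpr_ff (f312607 IH) (Lpe (f307080 IH) (Lpr_ff (K19.f307078 IH) (Lpn (LP (LK LD1_c5 LD2_c39 LD3_c46))))))
theorem f320308 : Led Lsl_gf (LP (LK LD1_c10 LD2_c37 LD3_c40)) = (LP (LK LD1_c16 LD2_c51 LD3_c13)) :=
  Lgr Lrot47 (Lpr_gt (f320306 IH) (Lpe (f312609 IH) (Lpr_ff (f312607 IH) (Lpn (LP (LK LD1_c16 LD2_c51 LD3_c13))))))
theorem f171939 : Led Lsl_ct (LP (LK LD1_c4 LD2_c55 LD3_c10)) = (LP (LK LD1_c9 LD2_c41 LD3_c50)) :=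
  Lre_c IH (LK LD1_c4 LD2_c55 LD3_c10) (LK LD1_c9 LD2_c41 LD3_c50) Lrfl Lrfl
theorem f307086 : Led Lsl_ct (LP (LK LD1_c9 LD2_c1 LD3_c14)) = (LP (LK LD1_c16 LD2_c51 LD3_c13)) :=
  Lre_c IH (LK LD1_c9 LD2_c1 LD3_c14) (LK LD1_c16 LD2_c51 LD3_c13) Lrfl Lrfl
theorem f306570 : Led Lsl_bt (LP (LK LD1_c11 LD2_c10 LD3_c29)) = (LP (LK LD1_c15 LD2_c24 LD3_c44)) :=
  Lgr Lrot95 (Lpr_df (f306567 IH) (Lpr_bf (K19.f300091 IH) (Lpe (K19.f284024 IH) (Lpn (LP (LK LD1_c15 LD2_c24 LD3_c44))))))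
theorem f305748 : Led Lsl_et (LP (LK LD1_c5 LD2_c39 LD3_c40)) = (LP (LK LD1_c11 LD2_c10 LD3_c29)) :=
  Lre_e IH (LK LD1_c5 LD2_c39 LD3_c40) (LK LD1_c11 LD2_c10 LD3_c29) Lrfl Lrfl
theorem f307160 : Led Lsl_bf (LP (LK LD1_c5 LD2_c39 LD3_c40)) = (LP (LK LD1_c9 LD2_c1 LD3_c14)) :=
  Lgr Lrot96 (Lpr_et (f305748 IH) (Lpr_bt (f306570 IH) (Lpr_et (K19.f307142 IH) (Lpn (LP (LK LD1_c9 LD2_c1 LD3_c14))))))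
theorem f320318 : Led Lsl_gt (LP (LK LD1_c7 LD2_c57 LD3_c40)) = (LP (LK LD1_c5 LD2_c39 LD3_c40)) :=
  Lgr Lrot164 (Lpe (K14.f171925 IH) (Lpr_ct (f171939 IH) (Lpr_gf (K16.f256528 IH) (Lpe (K16.f256504 IH) (Lpr_gf (K20.f315898 IH) (Lpe (f169190 IH) (Lpr_ct (K19.f169192 IH) (Lpr_gf (f320308 IH) (Lpe (f307086 IH) (Lpe (f307160 IH) (Lpn (LP (LK LD1_c5 LD2_c39 LD3_c40)))))))))))))
theorem f55008 : Led Lsl_et (LP (LK LD1_c3 LD2_c58 LD3_c7)) = (LP (LK LD1_c7 LD2_c57 LD3_c40)) :=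
  Lre_e IH (LK LD1_c3 LD2_c58 LD3_c7) (LK LD1_c7 LD2_c57 LD3_c40) Lrfl Lrfl
theorem f306569 : Led Lsl_et (LP (LK LD1_c11 LD2_c10 LD3_c29)) = (LP (LK LD1_c5 LD2_c39 LD3_c40)) :=
  Lre_e IH (LK LD1_c11 LD2_c10 LD3_c29) (LK LD1_c5 LD2_c39 LD3_c40) Lrfl Lrfl
theorem f320329 : Led Lsl_gf (LP (LK LD1_c5 LD2_c9 LD3_c37)) = (LP (LK LD1_c9 LD2_c40 LD3_c11)) :=
  Lgr Lrot145 (Lpe (K14.f246161 IH) (Lpr_et (K13.f41352 IH) (Lpr_gt (K16.f41351 IH) (Lpr_dt (K14.f41339 IH) (Lpr_gt (K17.f171913 IH) (Lpe (K14.f41972 IH) (Lpr_et (f55008 IH) (Lpr_gt (f320318 IH) (Lpe (f306569 IH) (Lpr_dt (f305819 IH) (Lpn (LP (LK LD1_c9 LD2_c40 LD3_c11)))))))))))))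
theorem f260614 : Led Lsl_ct (LP (LK LD1_c2 LD2_c34 LD3_c41)) = (LP (LK LD1_c5 LD2_c15 LD3_c39)) :=
  Lre_c IH (LK LD1_c2 LD2_c34 LD3_c41) (LK LD1_c5 LD2_c15 LD3_c39) Lrfl Lrfl
theorem f259461 : Led Lsl_gt (LP (LK LD1_c10 LD2_c20 LD3_c37)) = (LP (LK LD1_c5 LD2_c15 LD3_c39)) :=
  Lre_g IH (LK LD1_c10 LD2_c20 LD3_c37) (LK LD1_c5 LD2_c15 LD3_c39) Lrfl Lrfl
theorem f330503 : Led Lsl_ct (LP (LK LD1_c10 LD2_c9 LD3_c55)) = (LP (LK LD1_c10 LD2_c20 LD3_c37)) :=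
  Lgr Lrot64 (Lpr_bt (K15.f246175 IH) (Lpr_gf (f320329 IH) (Lpr_bf (K19.f300091 IH) (Lpr_ct (K19.f257694 IH) (Lpr_gf (f257764 IH) (Lpr_cf (f330490 IH) (Lpe (K19.f251420 IH) (Lpe (K18.f291682 IH) (Lpr_ct (f260614 IH) (Lpe (f259461 IH) (Lpn (LP (LK LD1_c10 LD2_c20 LD3_c37)))))))))))))
theorem f330513 : Led Lsl_gt (LP (LK LD1_c18 LD2_c22 LD3_c23)) = (LP (LK LD1_c10 LD2_c20 LD3_c37)) :=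
  Lgr Lrot65 (Lpe (f261911 IH) (Lpr_bt (f293086 IH) (Lpe (K18.f269273 IH) (Lpr_bf (K18.f304113 IH) (Lpe (K18.f304202 IH) (Lpe (K18.f185878 IH) (Lpe (K18.f185877 IH) (Lpr_gf (K14.f254218 IH) (Lpe (K15.f246175 IH) (Lpr_ct (f330503 IH) (Lpn (LP (LK LD1_c10 LD2_c20 LD3_c37)))))))))))))
theorem f261912 : Led Lsl_ct (LP (LK LD1_c8 LD2_c6 LD3_c12)) = (LP (LK LD1_c15 LD2_c15 LD3_c23)) :=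
  Lre_c IH (LK LD1_c8 LD2_c6 LD3_c12) (LK LD1_c15 LD2_c15 LD3_c23) Lrfl Lrfl
theorem f330508 : Led Lsl_cf (LP (LK LD1_c10 LD2_c9 LD3_c55)) = (LP (LK LD1_c10 LD2_c20 LD3_c37)) :=
  Lgr Lrot11 (Lpr_ct (f330503 IH) (Lpn (LP (LK LD1_c10 LD2_c20 LD3_c37))))
theorem f330515 : Led Lsl_gt (LP (LK LD1_c15 LD2_c15 LD3_c23)) = (LP (LK LD1_c8 LD2_c6 LD3_c16)) :=
  Lgr Lrot150 (Lpe (f261912 IH) (Lpe (K17.f261909 IH) (Lpe (K17.f282481 IH) (Lpr_gt (f261898 IH) (Lpr_ct (f261911 IH) (Lpr_gt (f330513 IH) (Lpe (f330508 IH) (Lpe (K15.f246176 IH) (Lpr_cf (K13.f233861 IH) (Lpn (LP (LK LD1_c8 LD2_c6 LD3_c16))))))))))))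
theorem f261773 : Led Lsl_ct (LP (LK LD1_c2 LD2_c11 LD3_c56)) = (LP (LK LD1_c4 LD2_c29 LD3_c42)) :=
  Lre_c IH (LK LD1_c2 LD2_c11 LD3_c56) (LK LD1_c4 LD2_c29 LD3_c42) Lrfl Lrfl
theorem f281320 : Led Lsl_et (LP (LK LD1_c2 LD2_c42 LD3_c0)) = (LP (LK LD1_c5 LD2_c31 LD3_c39)) :=
  Lre_e IH (LK LD1_c2 LD2_c42 LD3_c0) (LK LD1_c5 LD2_c31 LD3_c39) Lrfl Lrfl
theorem f281143 : Led Lsl_et (LP (LK LD1_c8 LD2_c57 LD3_c25)) = (LP (LK LD1_c4 LD2_c29 LD3_c35)) :=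
  Lre_e IH (LK LD1_c8 LD2_c57 LD3_c25) (LK LD1_c4 LD2_c29 LD3_c35) Lrfl Lrfl
theorem f281321 : Led Lsl_bt (LP (LK LD1_c5 LD2_c31 LD3_c39)) = (LP (LK LD1_c8 LD2_c57 LD3_c25)) :=
  Lgr Lrot119 (Lpe (f281320 IH) (Lpr_bf (K20.f281153 IH) (Lpe (f281143 IH) (Lpn (LP (LK LD1_c8 LD2_c57 LD3_c25))))))
theorem f281337 : Led Lsl_ft (LP (LK LD1_c10 LD2_c55 LD3_c2)) = (LP (LK LD1_c5 LD2_c31 LD3_c39)) :=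
  Lre_f IH (LK LD1_c10 LD2_c55 LD3_c2) (LK LD1_c5 LD2_c31 LD3_c39) Lrfl Lrfl
theorem f281158 : Led Lsl_ft (LP (LK LD1_c8 LD2_c57 LD3_c25)) = (LP (LK LD1_c16 LD2_c46 LD3_c8)) :=
  Lre_f IH (LK LD1_c8 LD2_c57 LD3_c25) (LK LD1_c16 LD2_c46 LD3_c8) Lrfl Lrfl
theorem f281338 : Led Lsl_bf (LP (LK LD1_c10 LD2_c55 LD3_c2)) = (LP (LK LD1_c16 LD2_c46 LD3_c8)) :=
  Lgr Lrot61 (Lpr_ft (f281337 IH) (Lpr_bt (f281321 IH) (Lpr_ft (f281158 IH) (Lpn (LP (LK LD1_c16 LD2_c46 LD3_c8))))))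
theorem f281343 : Led Lsl_at (LP (LK LD1_c10 LD2_c55 LD3_c2)) = (LP (LK LD1_c5 LD2_c31 LD3_c47)) :=
  Lre_a IH (LK LD1_c10 LD2_c55 LD3_c2) (LK LD1_c5 LD2_c31 LD3_c47) Lrfl Lrfl
theorem f281344 : Led Lsl_bt (LP (LK LD1_c5 LD2_c31 LD3_c47)) = (LP (LK LD1_c2 LD2_c42 LD3_c9)) :=
  Lre_b IH (LK LD1_c5 LD2_c31 LD3_c47) (LK LD1_c2 LD2_c42 LD3_c9) Lrfl Lrfl
theorem f281050 : Led Lsl_at (LP (LK LD1_c8 LD2_c57 LD3_c31)) = (LP (LK LD1_c16 LD2_c46 LD3_c8)) :=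
  Lre_a IH (LK LD1_c8 LD2_c57 LD3_c31) (LK LD1_c16 LD2_c46 LD3_c8) Lrfl Lrfl
theorem f281345 : Led Lsl_at (LP (LK LD1_c2 LD2_c42 LD3_c9)) = (LP (LK LD1_c4 LD2_c29 LD3_c42)) :=
  Lgr Lrot67 (Lpe (f281344 IH) (Lpe (f281343 IH) (Lpr_bf (f281338 IH) (Lpe (f281050 IH) (Lpe (K20.f261782 IH) (Lpn (LP (LK LD1_c4 LD2_c29 LD3_c42))))))))
theorem f281413 : Led Lsl_ft (LP (LK LD1_c1 LD2_c17 LD3_c40)) = (LP (LK LD1_c2 LD2_c42 LD3_c9)) :=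
  Lre_f IH (LK LD1_c1 LD2_c17 LD3_c40) (LK LD1_c2 LD2_c42 LD3_c9) Lrfl Lrfl
theorem f281414 : Led Lsl_gt (LP (LK LD1_c1 LD2_c17 LD3_c40)) = (LP (LK LD1_c2 LD2_c42 LD3_c6)) :=
  Lre_g IH (LK LD1_c1 LD2_c17 LD3_c40) (LK LD1_c2 LD2_c42 LD3_c6) Lrfl Lrfl
theorem f281415 : Led Lsl_gt (LP (LK LD1_c2 LD2_c42 LD3_c6)) = (LP (LK LD1_c4 LD2_c29 LD3_c42)) :=
  Lgr Lrot46 (Lpe (f281414 IH) (Lpr_ft (f281413 IH) (Lpr_at (f281345 IH) (Lpn (LP (LK LD1_c4 LD2_c29 LD3_c42))))))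
theorem f261775 : Led Lsl_ct (LP (LK LD1_c4 LD2_c29 LD3_c42)) = (LP (LK LD1_c2 LD2_c11 LD3_c56)) :=
  Lre_c IH (LK LD1_c4 LD2_c29 LD3_c42) (LK LD1_c2 LD2_c11 LD3_c56) Lrfl Lrfl
theorem f168760 : Led Lsl_gt (LP (LK LD1_c1 LD2_c10 LD3_c4)) = (LP (LK LD1_c2 LD2_c25 LD3_c45)) :=
  Lre_g IH (LK LD1_c1 LD2_c10 LD3_c4) (LK LD1_c2 LD2_c25 LD3_c45) Lrfl Lrfl
theorem f281417 : Led Lsl_cf (LP (LK LD1_c2 LD2_c42 LD3_c6)) = (LP (LK LD1_c2 LD2_c25 LD3_c45)) :=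
  Lgr Lrot169 (Lpr_gt (f281415 IH) (Lpr_ct (f261775 IH) (Lpr_df (K15.f261784 IH) (Lpe (K16.f198604 IH) (Lpe (f276015 IH) (Lpe (f183111 IH) (Lpr_gf (K18.f185864 IH) (Lpe (K18.f41101 IH) (Lpr_gt (f168760 IH) (Lpn (LP (LK LD1_c2 LD2_c25 LD3_c45))))))))))))
theorem f281422 : Led Lsl_bt (LP (LK LD1_c2 LD2_c25 LD3_c45)) = (LP (LK LD1_c4 LD2_c55 LD3_c57)) :=
  Lre_b IH (LK LD1_c2 LD2_c25 LD3_c45) (LK LD1_c4 LD2_c55 LD3_c57) Lrfl Lrfl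
theorem f330519 : Led Lsl_gf (LP (LK LD1_c4 LD2_c55 LD3_c57)) = (LP (LK LD1_c7 LD2_c57 LD3_c42)) :=
  Lgr Lrot124 (Lpe (f281422 IH) (Lpe (f281417 IH) (Lpr_gt (f281415 IH) (Lpe (f261773 IH) (Lpr_bt (K15.f261786 IH) (Lpr_gt (K17.f261909 IH) (Lpr_ct (f261912 IH) (Lpr_gt (f330515 IH) (Lpe (K13.f233872 IH) (Lpr_bt (K13.f233857 IH) (Lpn (LP (LK LD1_c7 LD2_c57 LD3_c42)))))))))))))
theorem f281433 : Led Lsl_ct (LP (LK LD1_c4 LD2_c55 LD3_c57)) = (LP (LK LD1_c9 LD2_c43 LD3_c35)) :=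
  Lre_c IH (LK LD1_c4 LD2_c55 LD3_c57) (LK LD1_c9 LD2_c43 LD3_c35) Lrfl Lrfl
theorem f304207 : Led Lsl_ct (LP (LK LD1_c10 LD2_c11 LD3_c6)) = (LP (LK LD1_c10 LD2_c24 LD3_c57)) :=
  Lgr Lrot59 (Lpr_cf (K18.f304202 IH) (Lpn (LP (LK LD1_c10 LD2_c24 LD3_c57))))
theorem f304123 : Led Lsl_dt (LP (LK LD1_c15 LD2_c9 LD3_c10)) = (LP (LK LD1_c10 LD2_c24 LD3_c57)) :=
  Lgr Lrot60 (Lpe (K17.f218973 IH) (Lpe (K18.f294214 IH) (Lpr_ff (K18.f304119 IH) (Lpn (LP (LK LD1_c10 LD2_c24 LD3_c57))))))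
theorem f330528 : Led Lsl_gt (LP (LK LD1_c9 LD2_c43 LD3_c35)) = (LP (LK LD1_c15 LD2_c2 LD3_c40)) :=
  Lgr Lrot150 (Lpe (f281433 IH) (Lpr_gf (f330519 IH) (Lpr_df (K14.f246169 IH) (Lpe (K14.f254218 IH) (Lpr_ct (K18.f185877 IH) (Lpr_gt (K18.f185878 IH) (Lpr_ct (f304207 IH) (Lpe (f304123 IH) (Lpe (K17.f218987 IH) (Lpn (LP (LK LD1_c15 LD2_c2 LD3_c40))))))))))))
theorem f330532 : Led Lsl_bf (LP (LK LD1_c4 LD2_c3 LD3_c58)) = (LP (LK LD1_c8 LD2_c6 LD3_c12)) :=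
  Lgr Lrot34 (Lpr_gf (K18.f293071 IH) (Lpe (K17.f218989 IH) (Lpe (K17.f218974 IH) (Lpe (f330528 IH) (Lpe (f281433 IH) (Lpr_gf (f330519 IH) (Lpe (K13.f233857 IH) (Lpr_ct (K13.f233872 IH) (Lpe (f330515 IH) (Lpe (f261912 IH) (Lpn (LP (LK LD1_c8 LD2_c6 LD3_c12)))))))))))))
theorem f330543 : Led Lsl_bt (LP (LK LD1_c8 LD2_c8 LD3_c29)) = (LP (LK LD1_c15 LD2_c15 LD3_c24)) :=
  Lgr Lrot119 (Lpe (f237031 IH) (Lpr_bf (f330532 IH) (Lpe (K17.f254509 IH) (Lpn (LP (LK LD1_c15 LD2_c15 LD3_c24))))))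
theorem f330548 : Led Lsl_bf (LP (LK LD1_c15 LD2_c16 LD3_c33)) = (LP (LK LD1_c10 LD2_c15 LD3_c5)) :=
  Lgr Lrot93 (Lpe (K18.f243992 IH) (Lpr_bt (f330543 IH) (Lpr_dt (K17.f254510 IH) (Lpn (LP (LK LD1_c10 LD2_c15 LD3_c5))))))
theorem f330552 : Led Lsl_bt (LP (LK LD1_c15 LD2_c14 LD3_c60)) = (LP (LK LD1_c10 LD2_c26 LD3_c20)) :=
  Lgr Lrot119 (Lpr_ef (f243994 IH) (Lpr_bf (f330548 IH) (Lpr_ef (K17.f263429 IH) (Lpn (LP (LK LD1_c10 LD2_c26 LD3_c20))))))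
theorem f330556 : Led Lsl_bf (LP (LK LD1_c8 LD2_c5 LD3_c61)) = (LP (LK LD1_c5 LD2_c18 LD3_c18)) :=
  Lgr Lrot93 (Lpr_dt (f45834 IH) (Lpr_bt (f330552 IH) (Lpr_dt (K17.f32217 IH) (Lpn (LP (LK LD1_c5 LD2_c18 LD3_c18))))))
theorem f330558 : Led Lsl_bt (LP (LK LD1_c8 LD2_c5 LD3_c61)) = (LP (LK LD1_c5 LD2_c18 LD3_c18)) :=
  Lgr Lrot127 (Lpr_bf (f330556 IH) (Lpn (LP (LK LD1_c5 LD2_c18 LD3_c18))))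
theorem f32531 : Led Lsl_bt (LP (LK LD1_c18 LD2_c45 LD3_c18)) = (LP (LK LD1_c10 LD2_c19 LD3_c50)) :=
  Lre_b IH (LK LD1_c18 LD2_c45 LD3_c18) (LK LD1_c10 LD2_c19 LD3_c50) Lrfl Lrfl
theorem f32189 : Led Lsl_bt (LP (LK LD1_c10 LD2_c23 LD3_c61)) = (LP (LK LD1_c18 LD2_c52 LD3_c7)) :=
  Lre_b IH (LK LD1_c10 LD2_c23 LD3_c61) (LK LD1_c18 LD2_c52 LD3_c7) Lrfl Lrfl
theorem f48678 : Led Lsl_ft (LP (LK LD1_c10 LD2_c19 LD3_c50)) = (LP (LK LD1_c10 LD2_c23 LD3_c61)) :=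
  Lgr Lrot75 (Lpe (f32531 IH) (Lpr_ff (K17.f48674 IH) (Lpe (f32189 IH) (Lpn (LP (LK LD1_c10 LD2_c23 LD3_c61))))))
theorem f32205 : Led Lsl_at (LP (LK LD1_c10 LD2_c23 LD3_c61)) = (LP (LK LD1_c5 LD2_c18 LD3_c17)) :=
  Lre_a IH (LK LD1_c10 LD2_c23 LD3_c61) (LK LD1_c5 LD2_c18 LD3_c17) Lrfl Lrfl
theorem f32214 : Led Lsl_gt (LP (LK LD1_c10 LD2_c26 LD3_c17)) = (LP (LK LD1_c5 LD2_c18 LD3_c17)) :=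
  Lre_g IH (LK LD1_c10 LD2_c26 LD3_c17) (LK LD1_c5 LD2_c18 LD3_c17) Lrfl Lrfl
theorem f48764 : Led Lsl_gt (LP (LK LD1_c10 LD2_c19 LD3_c50)) = (LP (LK LD1_c10 LD2_c26 LD3_c17)) :=
  Lgr Lrot5 (Lpr_ft (f48678 IH) (Lpr_at (f32205 IH) (Lpe (f32214 IH) (Lpn (LP (LK LD1_c10 LD2_c26 LD3_c17))))))
theorem f304328 : Led Lsl_ft (LP (LK LD1_c2 LD2_c30 LD3_c26)) = (LP (LK LD1_c5 LD2_c6 LD3_c21)) :=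
  Lre_f IH (LK LD1_c2 LD2_c30 LD3_c26) (LK LD1_c5 LD2_c6 LD3_c21) Lrfl Lrfl
theorem f306425 : Led Lsl_gf (LP (LK LD1_c5 LD2_c3 LD3_c13)) = (LP (LK LD1_c2 LD2_c30 LD3_c26)) :=
  Lgr Lrot47 (Lpr_gt (K20.f306423 IH) (Lpe (K20.f304324 IH) (Lpe (f304328 IH) (Lpn (LP (LK LD1_c2 LD2_c30 LD3_c26))))))
theorem f212133 : Led Lsl_ct (LP (LK LD1_c5 LD2_c32 LD3_c5)) = (LP (LK LD1_c2 LD2_c42 LD3_c14)) :=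
  Lre_c IH (LK LD1_c5 LD2_c32 LD3_c5) (LK LD1_c2 LD2_c42 LD3_c14) Lrfl Lrfl
theorem f261774 : Led Lsl_dt (LP (LK LD1_c10 LD2_c55 LD3_c47)) = (LP (LK LD1_c5 LD2_c32 LD3_c5)) :=
  Lre_d IH (LK LD1_c10 LD2_c55 LD3_c47) (LK LD1_c5 LD2_c32 LD3_c5) Lrfl Lrfl
theorem f306428 : Led Lsl_gt (LP (LK LD1_c9 LD2_c57 LD3_c20)) = (LP (LK LD1_c10 LD2_c55 LD3_c47)) :=
  Lgr Lrot49 (Lpe (K20.f276108 IH) (Lpr_gf (f306425 IH) (Lpe (K19.f180562 IH) (Lpr_gt (K15.f165878 IH) (Lpe (K15.f261784 IH) (Lpr_gt (K15.f261771 IH) (Lpr_dt (K15.f198763 IH) (Lpe (f212133 IH) (Lpe (f261774 IH) (Lpn (LP (LK LD1_c10 LD2_c55 LD3_c47))))))))))))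
theorem f306431 : Led Lsl_dt (LP (LK LD1_c5 LD2_c32 LD3_c5)) = (LP (LK LD1_c10 LD2_c55 LD3_c47)) :=
  Lre_d IH (LK LD1_c5 LD2_c32 LD3_c5) (LK LD1_c10 LD2_c55 LD3_c47) Lrfl Lrfl
theorem f21966 : Led Lsl_et (LP (LK LD1_c1 LD2_c13 LD3_c19)) = (LP (LK LD1_c2 LD2_c32 LD3_c49)) :=
  Lre_e IH (LK LD1_c1 LD2_c13 LD3_c19) (LK LD1_c2 LD2_c32 LD3_c49) Lrfl Lrfl
theorem f163763 : Led Lsl_at (LP (LK LD1_c2 LD2_c29 LD3_c43)) = (LP (LK LD1_c2 LD2_c32 LD3_c49)) :=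
  Lgr Lrot80 (Lpe (K0.f21369 IH) (Lpr_af (K8.f163738 IH) (Lpe (K0.f21367 IH) (Lpn (LP (LK LD1_c2 LD2_c32 LD3_c49))))))
theorem f21341 : Led Lsl_ft (LP (LK LD1_c2 LD2_c32 LD3_c49)) = (LP (LK LD1_c2 LD2_c29 LD3_c43)) :=
  Lgr Lrot4 (Lpe (K8.f21339 IH) (Lpr_ff (K0.f21323 IH) (Lpe (K8.f21340 IH) (Lpn (LP (LK LD1_c2 LD2_c29 LD3_c43))))))
theorem f21970 : Led Lsl_gt (LP (LK LD1_c2 LD2_c32 LD3_c49)) = (LP (LK LD1_c5 LD2_c11 LD3_c52)) :=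
  Lre_g IH (LK LD1_c2 LD2_c32 LD3_c49) (LK LD1_c5 LD2_c11 LD3_c52) Lrfl Lrfl
theorem f165413 : Led Lsl_gt (LP (LK LD1_c5 LD2_c11 LD3_c52)) = (LP (LK LD1_c2 LD2_c32 LD3_c49)) :=
  Lgr Lrot46 (Lpe (f21970 IH) (Lpr_ft (f21341 IH) (Lpr_at (f163763 IH) (Lpn (LP (LK LD1_c2 LD2_c32 LD3_c49))))))
theorem f306432 : Led Lsl_et (LP (LK LD1_c5 LD2_c32 LD3_c5)) = (LP (LK LD1_c5 LD2_c11 LD3_c52)) :=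
  Lgr Lrot185 (Lpr_dt (f306431 IH) (Lpe (f306428 IH) (Lpe (K20.f276108 IH) (Lpr_gf (f306425 IH) (Lpe (K19.f169584 IH) (Lpr_dt (K9.f169582 IH) (Lpr_gf (K9.f163804 IH) (Lpr_df (K8.f164111 IH) (Lpr_et (f21966 IH) (Lpe (f165413 IH) (Lpn (LP (LK LD1_c5 LD2_c11 LD3_c52)))))))))))))
theorem f306440 : Led Lsl_ef (LP (LK LD1_c5 LD2_c32 LD3_c5)) = (LP (LK LD1_c5 LD2_c11 LD3_c52)) :=
  Lgr Lrot88 (Lpr_et (f306432 IH) (Lpn (LP (LK LD1_c5 LD2_c11 LD3_c52))))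
theorem f306447 : Led Lsl_ct (LP (LK LD1_c2 LD2_c36 LD3_c5)) = (LP (LK LD1_c5 LD2_c11 LD3_c52)) :=
  Lgr Lrot15 (Lpr_ef (K15.f212112 IH) (Lpe (f212133 IH) (Lpr_ef (f306440 IH) (Lpn (LP (LK LD1_c5 LD2_c11 LD3_c52))))))
theorem f32196 : Led Lsl_ct (LP (LK LD1_c2 LD2_c35 LD3_c49)) = (LP (LK LD1_c5 LD2_c18 LD3_c17)) :=
  Lre_c IH (LK LD1_c2 LD2_c35 LD3_c49) (LK LD1_c5 LD2_c18 LD3_c17) Lrfl Lrfl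
theorem f21982 : Led Lsl_bt (LP (LK LD1_c10 LD2_c9 LD3_c29)) = (LP (LK LD1_c5 LD2_c9 LD3_c24)) :=
  Lre_b IH (LK LD1_c10 LD2_c9 LD3_c29) (LK LD1_c5 LD2_c9 LD3_c24) Lrfl Lrfl
theorem f306451 : Led Lsl_cf (LP (LK LD1_c10 LD2_c26 LD3_c17)) = (LP (LK LD1_c10 LD2_c9 LD3_c29)) :=
  Lgr Lrot160 (Lpr_gt (f32214 IH) (Lpe (f32196 IH) (Lpr_bt (K1.f32192 IH) (Lpr_gt (K15.f32227 IH) (Lpr_ct (f306447 IH) (Lpr_gt (f165413 IH) (Lpe (K8.f21339 IH) (Lpr_bt (K10.f21335 IH) (Lpr_gt (K14.f21975 IH) (Lpe (f21982 IH) (Lpn (LP (LK LD1_c10 LD2_c9 LD3_c29)))))))))))))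
theorem f33877 : Led Lsl_gt (LP (LK LD1_c9 LD2_c54 LD3_c44)) = (LP (LK LD1_c5 LD2_c2 LD3_c1)) :=
  Lre_g IH (LK LD1_c9 LD2_c54 LD3_c44) (LK LD1_c5 LD2_c2 LD3_c1) Lrfl Lrfl
theorem f33878 : Led Lsl_gt (LP (LK LD1_c8 LD2_c4 LD3_c35)) = (LP (LK LD1_c9 LD2_c54 LD3_c44)) :=
  Lgr Lrot5 (Lpr_ft (K0.f33859 IH) (Lpr_at (K0.f21777 IH) (Lpe (f33877 IH) (Lpn (LP (LK LD1_c9 LD2_c54 LD3_c44))))))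
theorem f330564 : Led Lsl_ct (LP (LK LD1_c8 LD2_c5 LD3_c61)) = (LP (LK LD1_c9 LD2_c54 LD3_c44)) :=
  Lgr Lrot10 (Lpr_bt (f330558 IH) (Lpe (K17.f48900 IH) (Lpr_ct (K2.f32351 IH) (Lpr_gt (f48764 IH) (Lpr_cf (f306451 IH) (Lpr_bt (f21982 IH) (Lpr_gt (K14.f21976 IH) (Lpr_bf (K10.f163892 IH) (Lpr_ct (K0.f33619 IH) (Lpr_gt (f33878 IH) (Lpn (LP (LK LD1_c9 LD2_c54 LD3_c44)))))))))))))
theorem f163884 : Led Lsl_ct (LP (LK LD1_c2 LD2_c29 LD3_c44)) = (LP (LK LD1_c5 LD2_c4 LD3_c47)) :=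
  Lre_c IH (LK LD1_c2 LD2_c29 LD3_c44) (LK LD1_c5 LD2_c4 LD3_c47) Lrfl Lrfl
theorem f330577 : Led Lsl_gf (LP (LK LD1_c2 LD2_c36 LD3_c4)) = (LP (LK LD1_c5 LD2_c4 LD3_c47)) :=
  Lgr Lrot129 (Lpe (K2.f32220 IH) (Lpr_bt (K1.f32193 IH) (Lpr_gt (K17.f32209 IH) (Lpe (f330558 IH) (Lpr_ct (f330564 IH) (Lpr_gt (f33877 IH) (Lpe (K0.f21781 IH) (Lpr_bt (K10.f21336 IH) (Lpr_gt (K18.f21345 IH) (Lpr_ct (f163884 IH) (Lpn (LP (LK LD1_c5 LD2_c4 LD3_c47)))))))))))))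
theorem f32566 : Led Lsl_af (LP (LK LD1_c2 LD2_c36 LD3_c4)) = (LP (LK LD1_c2 LD2_c35 LD3_c9)) :=
  Lgr Lrot0 (Lpr_at (K2.f32564 IH) (Lpn (LP (LK LD1_c2 LD2_c35 LD3_c9))))
theorem f32570 : Led Lsl_bt (LP (LK LD1_c2 LD2_c35 LD3_c9)) = (LP (LK LD1_c5 LD2_c16 LD3_c50)) :=
  Lre_b IH (LK LD1_c2 LD2_c35 LD3_c9) (LK LD1_c5 LD2_c16 LD3_c50) Lrfl Lrfl
theorem f32568 : Led Lsl_bt (LP (LK LD1_c5 LD2_c18 LD3_c54)) = (LP (LK LD1_c2 LD2_c36 LD3_c4)) :=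
  Lre_b IH (LK LD1_c5 LD2_c18 LD3_c54) (LK LD1_c2 LD2_c36 LD3_c4) Lrfl Lrfl
theorem f48558 : Led Lsl_ff (LP (LK LD1_c2 LD2_c35 LD3_c9)) = (LP (LK LD1_c2 LD2_c36 LD3_c4)) :=
  Lgr Lrot25 (Lpr_bt (f32570 IH) (Lpr_ft (K10.f48550 IH) (Lpr_bt (f32568 IH) (Lpn (LP (LK LD1_c2 LD2_c36 LD3_c4))))))
theorem f330579 : Led Lsl_gt (LP (LK LD1_c2 LD2_c36 LD3_c4)) = (LP (LK LD1_c5 LD2_c4 LD3_c47)) :=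
  Lgr Lrot5 (Lpe (f48558 IH) (Lpe (f32566 IH) (Lpr_gf (f330577 IH) (Lpn (LP (LK LD1_c5 LD2_c4 LD3_c47))))))
theorem f48919 : Led Lsl_bt (LP (LK LD1_c5 LD2_c18 LD3_c58)) = (LP (LK LD1_c2 LD2_c36 LD3_c5)) :=
  Lre_b IH (LK LD1_c5 LD2_c18 LD3_c58) (LK LD1_c2 LD2_c36 LD3_c5) Lrfl Lrfl
theorem f48921 : Led Lsl_ct (LP (LK LD1_c5 LD2_c18 LD3_c58)) = (LP (LK LD1_c10 LD2_c27 LD3_c47)) :=
  Lre_c IH (LK LD1_c5 LD2_c18 LD3_c58) (LK LD1_c10 LD2_c27 LD3_c47) Lrfl Lrfl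
theorem f309545 : Led Lsl_gf (LP (LK LD1_c10 LD2_c22 LD3_c10)) = (LP (LK LD1_c10 LD2_c27 LD3_c47)) :=
  Lgr Lrot126 (Lpr_cf (K14.f191611 IH) (Lpr_bt (K9.f49468 IH) (Lpr_gt (K19.f309536 IH) (Lpe (f306451 IH) (Lpr_gt (f32214 IH) (Lpe (f32196 IH) (Lpr_bt (K1.f32192 IH) (Lpr_gt (K15.f32227 IH) (Lpe (f48919 IH) (Lpr_ct (f48921 IH) (Lpn (LP (LK LD1_c10 LD2_c27 LD3_c47)))))))))))))
theorem f184019 : Led Lsl_et (LP (LK LD1_c10 LD2_c26 LD3_c42)) = (LP (LK LD1_c5 LD2_c18 LD3_c30)) :=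
  Lre_e IH (LK LD1_c10 LD2_c26 LD3_c42) (LK LD1_c5 LD2_c18 LD3_c30) Lrfl Lrfl
theorem f190778 : Led Lsl_at (LP (LK LD1_c10 LD2_c22 LD3_c10)) = (LP (LK LD1_c10 LD2_c26 LD3_c42)) :=
  Lgr Lrot80 (Lpe (K12.f190769 IH) (Lpr_af (K10.f190774 IH) (Lpe (f184019 IH) (Lpn (LP (LK LD1_c10 LD2_c26 LD3_c42))))))
theorem f184097 : Led Lsl_et (LP (LK LD1_c10 LD2_c22 LD3_c25)) = (LP (LK LD1_c5 LD2_c16 LD3_c26)) :=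
  Lre_e IH (LK LD1_c10 LD2_c22 LD3_c25) (LK LD1_c5 LD2_c16 LD3_c26) Lrfl Lrfl
theorem f44383 : Led Lsl_bt (LP (LK LD1_c4 LD2_c53 LD3_c60)) = (LP (LK LD1_c9 LD2_c39 LD3_c26)) :=
  Lre_b IH (LK LD1_c4 LD2_c53 LD3_c60) (LK LD1_c9 LD2_c39 LD3_c26) Lrfl Lrfl
theorem f44384 : Led Lsl_ef (LP (LK LD1_c4 LD2_c53 LD3_c60)) = (LP (LK LD1_c4 LD2_c54 LD3_c18)) :=
  Lgr Lrot29 (Lpr_bt (f44383 IH) (Lpr_et (K12.f44372 IH) (Lpr_bt (K12.f31475 IH) (Lpn (LP (LK LD1_c4 LD2_c54 LD3_c18))))))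
theorem f184027 : Led Lsl_et (LP (LK LD1_c5 LD2_c18 LD3_c30)) = (LP (LK LD1_c10 LD2_c26 LD3_c42)) :=
  Lre_e IH (LK LD1_c5 LD2_c18 LD3_c30) (LK LD1_c10 LD2_c26 LD3_c42) Lrfl Lrfl
theorem f184098 : Led Lsl_ff (LP (LK LD1_c10 LD2_c22 LD3_c25)) = (LP (LK LD1_c10 LD2_c26 LD3_c42)) :=
  Lgr Lrot72 (Lpr_et (f184097 IH) (Lpr_ft (K9.f184091 IH) (Lpe (f44384 IH) (Lpr_ft (K10.f184020 IH) (Lpr_et (f184027 IH) (Lpn (LP (LK LD1_c10 LD2_c26 LD3_c42))))))))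
theorem f191592 : Led Lsl_at (LP (LK LD1_c10 LD2_c22 LD3_c25)) = (LP (LK LD1_c10 LD2_c26 LD3_c26)) :=
  Lgr Lrot66 (Lpr_ff (f184098 IH) (Lpe (f190778 IH) (Lpr_ff (K12.f191590 IH) (Lpn (LP (LK LD1_c10 LD2_c26 LD3_c26))))))
theorem f191654 : Led Lsl_cf (LP (LK LD1_c10 LD2_c22 LD3_c25)) = (LP (LK LD1_c9 LD2_c40 LD3_c6)) :=
  Lgr Lrot1 (Lpr_at (f191592 IH) (Lpe (K14.f191576 IH) (Lpr_at (K14.f43557 IH) (Lpn (LP (LK LD1_c9 LD2_c40 LD3_c6))))))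
theorem f184030 : Led Lsl_ct (LP (LK LD1_c9 LD2_c39 LD3_c28)) = (LP (LK LD1_c10 LD2_c26 LD3_c42)) :=
  Lgr Lrot15 (Lpe (K15.f43384 IH) (Lpr_cf (K12.f184025 IH) (Lpe (f184019 IH) (Lpn (LP (LK LD1_c10 LD2_c26 LD3_c42))))))
theorem f184033 : Led Lsl_cf (LP (LK LD1_c9 LD2_c39 LD3_c28)) = (LP (LK LD1_c10 LD2_c26 LD3_c42)) :=
  Lgr Lrot11 (Lpr_ct (f184030 IH) (Lpn (LP (LK LD1_c10 LD2_c26 LD3_c42))))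
theorem f191656 : Led Lsl_ft (LP (LK LD1_c10 LD2_c22 LD3_c25)) = (LP (LK LD1_c10 LD2_c26 LD3_c42)) :=
  Lgr Lrot4 (Lpr_cf (f191654 IH) (Lpe (K15.f44446 IH) (Lpr_cf (f184033 IH) (Lpn (LP (LK LD1_c10 LD2_c26 LD3_c42))))))
theorem f190770 : Led Lsl_ct (LP (LK LD1_c10 LD2_c22 LD3_c10)) = (LP (LK LD1_c15 LD2_c50 LD3_c51)) :=
  Lgr Lrot15 (Lpe (K12.f190769 IH) (Lpr_cf (K10.f190758 IH) (Lpe (K9.f50044 IH) (Lpn (LP (LK LD1_c15 LD2_c50 LD3_c51))))))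
theorem f191598 : Led Lsl_ct (LP (LK LD1_c9 LD2_c39 LD3_c34)) = (LP (LK LD1_c10 LD2_c26 LD3_c26)) :=
  Lgr Lrot40 (Lpr_ff (K9.f50048 IH) (Lpe (f190770 IH) (Lpr_ff (K12.f191590 IH) (Lpn (LP (LK LD1_c10 LD2_c26 LD3_c26))))))
theorem f184088 : Led Lsl_et (LP (LK LD1_c5 LD2_c16 LD3_c26)) = (LP (LK LD1_c10 LD2_c22 LD3_c25)) :=
  Lre_e IH (LK LD1_c5 LD2_c16 LD3_c26) (LK LD1_c10 LD2_c22 LD3_c25) Lrfl Lrfl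
theorem f184089 : Led Lsl_ct (LP (LK LD1_c10 LD2_c22 LD3_c25)) = (LP (LK LD1_c9 LD2_c40 LD3_c6)) :=
  Lgr Lrot15 (Lpe (f184088 IH) (Lpr_cf (K9.f184081 IH) (Lpe (K14.f43287 IH) (Lpn (LP (LK LD1_c9 LD2_c40 LD3_c6))))))
theorem f191644 : Led Lsl_af (LP (LK LD1_c10 LD2_c22 LD3_c25)) = (LP (LK LD1_c10 LD2_c26 LD3_c26)) :=
  Lgr Lrot68 (Lpr_ct (f184089 IH) (Lpe (K15.f43560 IH) (Lpr_ct (f191598 IH) (Lpn (LP (LK LD1_c10 LD2_c26 LD3_c26))))))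
theorem f191658 : Led Lsl_af (LP (LK LD1_c10 LD2_c22 LD3_c10)) = (LP (LK LD1_c10 LD2_c26 LD3_c42)) :=
  Lgr Lrot45 (Lpr_ft (K12.f191604 IH) (Lpe (f191644 IH) (Lpr_ft (f191656 IH) (Lpn (LP (LK LD1_c10 LD2_c26 LD3_c42))))))
theorem f309686 : Led Lsl_gt (LP (LK LD1_c10 LD2_c22 LD3_c25)) = (LP (LK LD1_c10 LD2_c27 LD3_c47)) :=
  Lgr Lrot5 (Lpr_ft (f191656 IH) (Lpe (f191658 IH) (Lpr_gf (f309545 IH) (Lpn (LP (LK LD1_c10 LD2_c27 LD3_c47))))))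
theorem f214266 : Led Lsl_bf (LP (LK LD1_c5 LD2_c9 LD3_c28)) = (LP (LK LD1_c9 LD2_c40 LD3_c6)) :=
  Lgr Lrot96 (Lpr_et (K13.f214114 IH) (Lpr_bt (K12.f214128 IH) (Lpr_et (K14.f43289 IH) (Lpn (LP (LK LD1_c9 LD2_c40 LD3_c6))))))
theorem f181900 : Led Lsl_bt (LP (LK LD1_c2 LD2_c29 LD3_c44)) = (LP (LK LD1_c5 LD2_c4 LD3_c46)) :=
  Lre_b IH (LK LD1_c2 LD2_c29 LD3_c44) (LK LD1_c5 LD2_c4 LD3_c46) Lrfl Lrfl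
theorem f330583 : Led Lsl_gf (LP (LK LD1_c5 LD2_c9 LD3_c28)) = (LP (LK LD1_c5 LD2_c4 LD3_c46)) :=
  Lgr Lrot124 (Lpr_bf (f214266 IH) (Lpe (f191654 IH) (Lpr_gt (f309686 IH) (Lpe (f48921 IH) (Lpr_bt (f48919 IH) (Lpe (K15.f48917 IH) (Lpr_ct (K2.f32220 IH) (Lpr_gt (f330579 IH) (Lpe (f163884 IH) (Lpr_bt (f181900 IH) (Lpn (LP (LK LD1_c5 LD2_c4 LD3_c46)))))))))))))
theorem f214365 : Led Lsl_ff (LP (LK LD1_c5 LD2_c2 LD3_c47)) = (LP (LK LD1_c4 LD2_c54 LD3_c29)) :=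
  Lgr Lrot23 (Lpr_ct (K12.f214138 IH) (Lpr_ft (K13.f214340 IH) (Lpr_ct (K13.f43303 IH) (Lpn (LP (LK LD1_c4 LD2_c54 LD3_c29))))))
theorem f330640 : Led Lsl_gt (LP (LK LD1_c4 LD2_c54 LD3_c29)) = (LP (LK LD1_c5 LD2_c4 LD3_c46)) :=
  Lgr Lrot5 (Lpe (f214365 IH) (Lpe (K15.f214136 IH) (Lpr_gf (f330583 IH) (Lpn (LP (LK LD1_c5 LD2_c4 LD3_c46))))))
theorem f185939 : Led Lsl_dt (LP (LK LD1_c5 LD2_c4 LD3_c46)) = (LP (LK LD1_c10 LD2_c0 LD3_c38)) :=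
  Lre_d IH (LK LD1_c5 LD2_c4 LD3_c46) (LK LD1_c10 LD2_c0 LD3_c38) Lrfl Lrfl
theorem f330786 : Led Lsl_gf (LP (LK LD1_c16 LD2_c7 LD3_c59)) = (LP (LK LD1_c10 LD2_c0 LD3_c38)) :=
  Lgr Lrot134 (Lpe (K19.f304602 IH) (Lpr_et (K19.f304582 IH) (Lpr_gt (K19.f304576 IH) (Lpe (K14.f43819 IH) (Lpr_dt (K14.f43817 IH) (Lpe (K12.f43815 IH) (Lpe (K9.f43296 IH) (Lpr_et (K13.f43295 IH) (Lpr_gt (f330640 IH) (Lpr_dt (f185939 IH) (Lpn (LP (LK LD1_c10 LD2_c0 LD3_c38)))))))))))))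
theorem f214559 : Led Lsl_ct (LP (LK LD1_c15 LD2_c48 LD3_c47)) = (LP (LK LD1_c25 LD2_c45 LD3_c18)) :=
  Lre_c IH (LK LD1_c15 LD2_c48 LD3_c47) (LK LD1_c25 LD2_c45 LD3_c18) Lrfl Lrfl
theorem f304616 : Led Lsl_dt (LP (LK LD1_c31 LD2_c59 LD3_c12)) = (LP (LK LD1_c25 LD2_c45 LD3_c18)) :=
  Lre_d IH (LK LD1_c31 LD2_c59 LD3_c12) (LK LD1_c25 LD2_c45 LD3_c18) Lrfl Lrfl
theorem f43588 : Led Lsl_gt (LP (LK LD1_c9 LD2_c40 LD3_c34)) = (LP (LK LD1_c17 LD2_c47 LD3_c58)) :=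
  Lre_g IH (LK LD1_c9 LD2_c40 LD3_c34) (LK LD1_c17 LD2_c47 LD3_c58) Lrfl Lrfl
theorem f43589 : Led Lsl_dt (LP (LK LD1_c17 LD2_c47 LD3_c58)) = (LP (LK LD1_c27 LD2_c35 LD3_c13)) :=
  Lre_d IH (LK LD1_c17 LD2_c47 LD3_c58) (LK LD1_c27 LD2_c35 LD3_c13) Lrfl Lrfl
theorem f330788 : Led Lsl_gf (LP (LK LD1_c31 LD2_c59 LD3_c12)) = (LP (LK LD1_c27 LD2_c35 LD3_c13)) :=
  Lgr Lrot143 (Lpr_dt (f304616 IH) (Lpe (f214559 IH) (Lpr_df (K19.f304590 IH) (Lpr_gf (f330786 IH) (Lpe (f185939 IH) (Lpe (f330640 IH) (Lpe (K13.f43303 IH) (Lpr_gt (f43588 IH) (Lpr_dt (f43589 IH) (Lpn (LP (LK LD1_c27 LD2_c35 LD3_c13))))))))))))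
theorem f304638 : Led Lsl_dt (LP (LK LD1_c25 LD2_c45 LD3_c18)) = (LP (LK LD1_c31 LD2_c59 LD3_c12)) :=
  Lre_d IH (LK LD1_c25 LD2_c45 LD3_c18) (LK LD1_c31 LD2_c59 LD3_c12) Lrfl Lrfl
theorem f330806 : Led Lsl_et (LP (LK LD1_c25 LD2_c45 LD3_c18)) = (LP (LK LD1_c15 LD2_c48 LD3_c46)) :=
  Lre_e IH (LK LD1_c25 LD2_c45 LD3_c18) (LK LD1_c15 LD2_c48 LD3_c46) Lrfl Lrfl
theorem f43587 : Led Lsl_et (LP (LK LD1_c4 LD2_c54 LD3_c28)) = (LP (LK LD1_c9 LD2_c40 LD3_c34)) :=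
  Lre_e IH (LK LD1_c4 LD2_c54 LD3_c28) (LK LD1_c9 LD2_c40 LD3_c34) Lrfl Lrfl
theorem f248191 : Led Lsl_et (LP (LK LD1_c5 LD2_c18 LD3_c61)) = (LP (LK LD1_c10 LD2_c27 LD3_c52)) :=
  Lre_e IH (LK LD1_c5 LD2_c18 LD3_c61) (LK LD1_c10 LD2_c27 LD3_c52) Lrfl Lrfl
theorem f330807 : Led Lsl_gt (LP (LK LD1_c15 LD2_c48 LD3_c46)) = (LP (LK LD1_c10 LD2_c27 LD3_c52)) :=
  Lgr Lrot131 (Lpe (f330806 IH) (Lpr_dt (f304638 IH) (Lpr_gf (f330788 IH) (Lpe (f43589 IH) (Lpe (f43588 IH) (Lpe (f43587 IH) (Lpr_dt (K9.f43497 IH) (Lpr_gf (K14.f43578 IH) (Lpr_df (K15.f248178 IH) (Lpr_et (f248191 IH) (Lpn (LP (LK LD1_c10 LD2_c27 LD3_c52)))))))))))))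
theorem f271319 : Led Lsl_ft (LP (LK LD1_c18 LD2_c58 LD3_c22)) = (LP (LK LD1_c10 LD2_c28 LD3_c4)) :=
  Lre_f IH (LK LD1_c18 LD2_c58 LD3_c22) (LK LD1_c10 LD2_c28 LD3_c4) Lrfl Lrfl
theorem f330809 : Led Lsl_gf (LP (LK LD1_c15 LD2_c48 LD3_c46)) = (LP (LK LD1_c18 LD2_c58 LD3_c22)) :=
  Lgr Lrot47 (Lpr_gt (f330807 IH) (Lpr_af (K16.f271386 IH) (Lpe (f271319 IH) (Lpn (LP (LK LD1_c18 LD2_c58 LD3_c22))))))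
theorem f166867 : Led Lsl_ct (LP (LK LD1_c8 LD2_c24 LD3_c40)) = (LP (LK LD1_c15 LD2_c48 LD3_c46)) :=
  Lre_c IH (LK LD1_c8 LD2_c24 LD3_c40) (LK LD1_c15 LD2_c48 LD3_c46) Lrfl Lrfl
theorem f330812 : Led Lsl_bt (LP (LK LD1_c8 LD2_c24 LD3_c40)) = (LP (LK LD1_c15 LD2_c48 LD3_c42)) :=
  Lre_b IH (LK LD1_c8 LD2_c24 LD3_c40) (LK LD1_c15 LD2_c48 LD3_c42) Lrfl Lrfl
theorem f193031 : Led Lsl_ct (LP (LK LD1_c10 LD2_c28 LD3_c6)) = (LP (LK LD1_c18 LD2_c58 LD3_c22)) :=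
  Lre_c IH (LK LD1_c10 LD2_c28 LD3_c6) (LK LD1_c18 LD2_c58 LD3_c22) Lrfl Lrfl
theorem f325918 : Led Lsl_bf (LP (LK LD1_c8 LD2_c4 LD3_c39)) = (LP (LK LD1_c8 LD2_c33 LD3_c20)) :=
  Lgr Lrot24 (Lpr_bt (f325916 IH) (Lpn (LP (LK LD1_c8 LD2_c33 LD3_c20))))
theorem f238269 : Led Lsl_ct (LP (LK LD1_c17 LD2_c39 LD3_c42)) = (LP (LK LD1_c9 LD2_c35 LD3_c30)) :=
  Lre_c IH (LK LD1_c17 LD2_c39 LD3_c42) (LK LD1_c9 LD2_c35 LD3_c30) Lrfl Lrfl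
theorem f238270 : Led Lsl_ef (LP (LK LD1_c17 LD2_c39 LD3_c42)) = (LP (LK LD1_c9 LD2_c39 LD3_c21)) :=
  Lgr Lrot28 (Lpr_ct (f238269 IH) (Lpr_et (K13.f238259 IH) (Lpr_ct (K13.f191779 IH) (Lpn (LP (LK LD1_c9 LD2_c39 LD3_c21))))))
theorem f321940 : Led Lsl_gf (LP (LK LD1_c16 LD2_c3 LD3_c39)) = (LP (LK LD1_c17 LD2_c39 LD3_c42)) :=
  Lgr Lrot138 (Lpr_dt (K20.f321938 IH) (Lpr_gt (K20.f44278 IH) (Lpe (K20.f44277 IH) (Lpr_et (K18.f44276 IH) (Lpr_gt (K14.f44275 IH) (Lpr_ef (K1.f44064 IH) (Lpr_dt (K13.f44122 IH) (Lpr_gt (K13.f44158 IH) (Lpr_df (K14.f230685 IH) (Lpe (f238270 IH) (Lpn (LP (LK LD1_c17 LD2_c39 LD3_c42)))))))))))))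
theorem f193301 : Led Lsl_ct (LP (LK LD1_c9 LD2_c35 LD3_c30)) = (LP (LK LD1_c17 LD2_c39 LD3_c42)) :=
  Lre_c IH (LK LD1_c9 LD2_c35 LD3_c30) (LK LD1_c17 LD2_c39 LD3_c42) Lrfl Lrfl
theorem f330813 : Led Lsl_gt (LP (LK LD1_c15 LD2_c48 LD3_c42)) = (LP (LK LD1_c9 LD2_c35 LD3_c30)) :=
  Lgr Lrot82 (Lpe (f330812 IH) (Lpr_ct (f166867 IH) (Lpr_gf (f330809 IH) (Lpe (f193031 IH) (Lpe (K16.f193028 IH) (Lpr_gf (f275918 IH) (Lpr_bf (f325918 IH) (Lpr_ct (K20.f184428 IH) (Lpr_gf (f321940 IH) (Lpe (f193301 IH) (Lpn (LP (LK LD1_c9 LD2_c35 LD3_c30)))))))))))))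
theorem f304635 : Led Lsl_dt (LP (LK LD1_c8 LD2_c24 LD3_c38)) = (LP (LK LD1_c15 LD2_c48 LD3_c42)) :=
  Lre_d IH (LK LD1_c8 LD2_c24 LD3_c38) (LK LD1_c15 LD2_c48 LD3_c42) Lrfl Lrfl
theorem f304594 : Led Lsl_bt (LP (LK LD1_c4 LD2_c12 LD3_c29)) = (LP (LK LD1_c8 LD2_c24 LD3_c38)) :=
  Lre_b IH (LK LD1_c4 LD2_c12 LD3_c29) (LK LD1_c8 LD2_c24 LD3_c38) Lrfl Lrfl
theorem f304595 : Led Lsl_bt (LP (LK LD1_c8 LD2_c36 LD3_c26)) = (LP (LK LD1_c4 LD2_c18 LD3_c52)) :=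
  Lre_b IH (LK LD1_c8 LD2_c36 LD3_c26) (LK LD1_c4 LD2_c18 LD3_c52) Lrfl Lrfl
theorem f304596 : Led Lsl_et (LP (LK LD1_c8 LD2_c24 LD3_c38)) = (LP (LK LD1_c8 LD2_c36 LD3_c26)) :=
  Lgr Lrot74 (Lpe (f304594 IH) (Lpr_ef (K19.f304592 IH) (Lpe (f304595 IH) (Lpn (LP (LK LD1_c8 LD2_c36 LD3_c26))))))
theorem f330820 : Led Lsl_gf (LP (LK LD1_c8 LD2_c36 LD3_c26)) = (LP (LK LD1_c7 LD2_c57 LD3_c52)) :=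
  Lgr Lrot141 (Lpe (f304596 IH) (Lpr_dt (f304635 IH) (Lpr_gt (f330813 IH) (Lpe (K19.f233273 IH) (Lpr_et (K18.f233272 IH) (Lpe (K15.f233264 IH) (Lpr_dt (K10.f48028 IH) (Lpe (K12.f190813 IH) (Lpe (K12.f42755 IH) (Lpr_et (K12.f188641 IH) (Lpn (LP (LK LD1_c7 LD2_c57 LD3_c52)))))))))))))
theorem f304636 : Led Lsl_gt (LP (LK LD1_c8 LD2_c36 LD3_c26)) = (LP (LK LD1_c16 LD2_c7 LD3_c54)) :=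
  Lre_g IH (LK LD1_c8 LD2_c36 LD3_c26) (LK LD1_c16 LD2_c7 LD3_c54) Lrfl Lrfl
theorem f188663 : Led Lsl_ft (LP (LK LD1_c7 LD2_c57 LD3_c52)) = (LP (LK LD1_c15 LD2_c1 LD3_c20)) :=
  Lre_f IH (LK LD1_c7 LD2_c57 LD3_c52) (LK LD1_c15 LD2_c1 LD3_c20) Lrfl Lrfl
theorem f330822 : Led Lsl_af (LP (LK LD1_c16 LD2_c7 LD3_c54)) = (LP (LK LD1_c15 LD2_c1 LD3_c20)) :=
  Lgr Lrot31 (Lpe (f304636 IH) (Lpr_gf (f330820 IH) (Lpr_ft (f188663 IH) (Lpn (LP (LK LD1_c15 LD2_c1 LD3_c20))))))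
theorem f330845 : Led Lsl_et (LP (LK LD1_c16 LD2_c7 LD3_c54)) = (LP (LK LD1_c9 LD2_c34 LD3_c50)) :=
  Lgr Lrot123 (Lpr_af (f330822 IH) (Lpe (K20.f322154 IH) (Lpr_af (f326417 IH) (Lpn (LP (LK LD1_c9 LD2_c34 LD3_c50))))))
theorem f238174 : Led Lsl_ft (LP (LK LD1_c9 LD2_c34 LD3_c50)) = (LP (LK LD1_c4 LD2_c51 LD3_c22)) :=
  Lre_f IH (LK LD1_c9 LD2_c34 LD3_c50) (LK LD1_c4 LD2_c51 LD3_c22) Lrfl Lrfl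
theorem f311709 : Led Lsl_ft (LP (LK LD1_c2 LD2_c23 LD3_c30)) = (LP (LK LD1_c4 LD2_c50 LD3_c47)) :=
  Lgr Lrot54 (Lpe (K14.f229617 IH) (Lpr_ff (K19.f311701 IH) (Lpe (K13.f199612 IH) (Lpn (LP (LK LD1_c4 LD2_c50 LD3_c47))))))
theorem f199631 : Led Lsl_et (LP (LK LD1_c4 LD2_c50 LD3_c47)) = (LP (LK LD1_c9 LD2_c33 LD3_c43)) :=
  Lre_e IH (LK LD1_c4 LD2_c50 LD3_c47) (LK LD1_c9 LD2_c33 LD3_c43) Lrfl Lrfl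
theorem f330849 : Led Lsl_ff (LP (LK LD1_c16 LD2_c7 LD3_c54)) = (LP (LK LD1_c9 LD2_c33 LD3_c43)) :=
  Lgr Lrot72 (Lpr_et (f330845 IH) (Lpr_ft (f238174 IH) (Lpr_et (K15.f238180 IH) (Lpr_ft (f311709 IH) (Lpr_et (f199631 IH) (Lpn (LP (LK LD1_c9 LD2_c33 LD3_c43))))))))
theorem f330855 : Led Lsl_ft (LP (LK LD1_c16 LD2_c7 LD3_c54)) = (LP (LK LD1_c9 LD2_c33 LD3_c43)) :=
  Lgr Lrot48 (Lpr_ff (f330849 IH) (Lpn (LP (LK LD1_c9 LD2_c33 LD3_c43))))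
theorem f327472 : Led Lsl_df (LP (LK LD1_c5 LD2_c1 LD3_c40)) = (LP (LK LD1_c9 LD2_c33 LD3_c43)) :=
  Lgr Lrot155 (Lpr_gt (f251579 IH) (Lpe (f327464 IH) (Lpe (f248393 IH) (Lpr_ct (K14.f248324 IH) (Lpr_dt (K14.f248356 IH) (Lpe (f178731 IH) (Lpe (f230989 IH) (Lpe (f230990 IH) (Lpr_gf (f327469 IH) (Lpn (LP (LK LD1_c9 LD2_c33 LD3_c43))))))))))))
theorem f291962 : Led Lsl_ft (LP (LK LD1_c5 LD2_c1 LD3_c40)) = (LP (LK LD1_c9 LD2_c53 LD3_c44)) :=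
  Lre_f IH (LK LD1_c5 LD2_c1 LD3_c40) (LK LD1_c9 LD2_c53 LD3_c44) Lrfl Lrfl
theorem f330866 : Led Lsl_df (LP (LK LD1_c16 LD2_c7 LD3_c54)) = (LP (LK LD1_c9 LD2_c53 LD3_c44)) :=
  Lgr Lrot78 (Lpr_ft (f330855 IH) (Lpe (f327472 IH) (Lpr_ft (f291962 IH) (Lpn (LP (LK LD1_c9 LD2_c53 LD3_c44))))))
theorem f330843 : Led Lsl_at (LP (LK LD1_c16 LD2_c7 LD3_c54)) = (LP (LK LD1_c15 LD2_c1 LD3_c20)) :=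
  Lgr Lrot100 (Lpr_af (f330822 IH) (Lpn (LP (LK LD1_c15 LD2_c1 LD3_c20))))
theorem f330870 : Led Lsl_at (LP (LK LD1_c17 LD2_c45 LD3_c39)) = (LP (LK LD1_c9 LD2_c53 LD3_c44)) :=
  Lgr Lrot51 (Lpe (f190807 IH) (Lpe (f330843 IH) (Lpr_df (f330866 IH) (Lpn (LP (LK LD1_c9 LD2_c53 LD3_c44))))))
theorem f321960 : Led Lsl_et (LP (LK LD1_c25 LD2_c23 LD3_c55)) = (LP (LK LD1_c17 LD2_c45 LD3_c39)) :=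
  Lgr Lrot87 (Lpr_ef (f321957 IH) (Lpn (LP (LK LD1_c17 LD2_c45 LD3_c39))))
theorem f246999 : Led Lsl_ft (LP (LK LD1_c9 LD2_c39 LD3_c24)) = (LP (LK LD1_c17 LD2_c45 LD3_c37)) :=
  Lre_f IH (LK LD1_c9 LD2_c39 LD3_c24) (LK LD1_c17 LD2_c45 LD3_c37) Lrfl Lrfl
theorem f247000 : Led Lsl_df (LP (LK LD1_c11 LD2_c3 LD3_c14)) = (LP (LK LD1_c17 LD2_c45 LD3_c37)) :=
  Lgr Lrot78 (Lpr_ft (K20.f246998 IH) (Lpr_dt (K16.f246976 IH) (Lpr_ft (f246999 IH) (Lpn (LP (LK LD1_c17 LD2_c45 LD3_c37))))))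
theorem f247011 : Led Lsl_dt (LP (LK LD1_c11 LD2_c3 LD3_c14)) = (LP (LK LD1_c17 LD2_c45 LD3_c37)) :=
  Lgr Lrot42 (Lpr_df (f247000 IH) (Lpn (LP (LK LD1_c17 LD2_c45 LD3_c37))))
theorem f317286 : Led Lsl_at (LP (LK LD1_c17 LD2_c45 LD3_c37)) = (LP (LK LD1_c25 LD2_c23 LD3_c55)) :=
  Lgr Lrot51 (Lpe (f247011 IH) (Lpr_af (K20.f317282 IH) (Lpr_df (f284823 IH) (Lpn (LP (LK LD1_c25 LD2_c23 LD3_c55))))))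
theorem f330875 : Led Lsl_ef (LP (LK LD1_c17 LD2_c45 LD3_c37)) = (LP (LK LD1_c9 LD2_c53 LD3_c44)) :=
  Lgr Lrot20 (Lpr_at (f317286 IH) (Lpr_et (f321960 IH) (Lpr_at (f330870 IH) (Lpn (LP (LK LD1_c9 LD2_c53 LD3_c44))))))
theorem f330877 : Led Lsl_et (LP (LK LD1_c17 LD2_c45 LD3_c37)) = (LP (LK LD1_c9 LD2_c53 LD3_c44)) :=
  Lgr Lrot87 (Lpr_ef (f330875 IH) (Lpn (LP (LK LD1_c9 LD2_c53 LD3_c44))))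
theorem f330890 : Led Lsl_ef (LP (LK LD1_c11 LD2_c3 LD3_c14)) = (LP (LK LD1_c16 LD2_c50 LD3_c3)) :=
  Lgr Lrot73 (Lpr_dt (f247011 IH) (Lpr_et (f330877 IH) (Lpe (f330866 IH) (Lpr_et (f330845 IH) (Lpe (K15.f238165 IH) (Lpn (LP (LK LD1_c16 LD2_c50 LD3_c3))))))))
theorem f238150 : Led Lsl_bt (LP (LK LD1_c9 LD2_c0 LD3_c40)) = (LP (LK LD1_c16 LD2_c50 LD3_c3)) :=
  Lre_b IH (LK LD1_c9 LD2_c0 LD3_c40) (LK LD1_c16 LD2_c50 LD3_c3) Lrfl Lrfl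
theorem f238151 : Led Lsl_bt (LP (LK LD1_c9 LD2_c34 LD3_c50)) = (LP (LK LD1_c4 LD2_c51 LD3_c30)) :=
  Lre_b IH (LK LD1_c9 LD2_c34 LD3_c50) (LK LD1_c4 LD2_c51 LD3_c30) Lrfl Lrfl
theorem f238152 : Led Lsl_dt (LP (LK LD1_c16 LD2_c50 LD3_c3)) = (LP (LK LD1_c9 LD2_c34 LD3_c50)) :=
  Lgr Lrot79 (Lpe (f238150 IH) (Lpr_df (K15.f238103 IH) (Lpe (f238151 IH) (Lpn (LP (LK LD1_c9 LD2_c34 LD3_c50))))))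
theorem f330892 : Led Lsl_gf (LP (LK LD1_c8 LD2_c43 LD3_c9)) = (LP (LK LD1_c9 LD2_c34 LD3_c50)) :=
  Lgr Lrot145 (Lpr_df (f322361 IH) (Lpr_et (f54092 IH) (Lpe (K17.f183660 IH) (Lpr_dt (K10.f183621 IH) (Lpe (K10.f187490 IH) (Lpe (K15.f187776 IH) (Lpr_et (K17.f187777 IH) (Lpe (K20.f317280 IH) (Lpr_ef (f330890 IH) (Lpr_dt (f238152 IH) (Lpn (LP (LK LD1_c9 LD2_c34 LD3_c50)))))))))))))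
theorem f238175 : Led Lsl_at (LP (LK LD1_c4 LD2_c51 LD3_c22)) = (LP (LK LD1_c9 LD2_c34 LD3_c44)) :=
  Lre_a IH (LK LD1_c4 LD2_c51 LD3_c22) (LK LD1_c9 LD2_c34 LD3_c44) Lrfl Lrfl
theorem f330896 : Led Lsl_gt (LP (LK LD1_c8 LD2_c43 LD3_c9)) = (LP (LK LD1_c9 LD2_c34 LD3_c44)) :=
  Lgr Lrot46 (Lpr_gf (f330892 IH) (Lpr_ft (f238174 IH) (Lpr_at (f238175 IH) (Lpn (LP (LK LD1_c9 LD2_c34 LD3_c44))))))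
theorem f322359 : Led Lsl_bf (LP (LK LD1_c8 LD2_c43 LD3_c9)) = (LP (LK LD1_c5 LD2_c29 LD3_c41)) :=
  Lgr Lrot24 (Lpr_bt (K20.f322357 IH) (Lpn (LP (LK LD1_c5 LD2_c29 LD3_c41))))
theorem f295773 : Led Lsl_bf (LP (LK LD1_c8 LD2_c16 LD3_c35)) = (LP (LK LD1_c8 LD2_c29 LD3_c44)) :=
  Lgr Lrot61 (Lpr_ft (K18.f295771 IH) (Lpe (K20.f236281 IH) (Lpr_ft (K17.f283091 IH) (Lpn (LP (LK LD1_c8 LD2_c29 LD3_c44))))))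
theorem f197608 : Led Lsl_ct (LP (LK LD1_c8 LD2_c29 LD3_c44)) = (LP (LK LD1_c15 LD2_c57 LD3_c3)) :=
  Lre_c IH (LK LD1_c8 LD2_c29 LD3_c44) (LK LD1_c15 LD2_c57 LD3_c3) Lrfl Lrfl
theorem f317255 : Led Lsl_bf (LP (LK LD1_c9 LD2_c34 LD3_c44)) = (LP (LK LD1_c9 LD2_c41 LD3_c42)) :=
  Lgr Lrot81 (Lpr_at (K20.f238203 IH) (Lpr_bt (K20.f238148 IH) (Lpr_at (K20.f317249 IH) (Lpe (K19.f167382 IH) (Lpr_at (K19.f311790 IH) (Lpn (LP (LK LD1_c9 LD2_c41 LD3_c42))))))))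
theorem f219101 : Led Lsl_et (LP (LK LD1_c4 LD2_c55 LD3_c3)) = (LP (LK LD1_c9 LD2_c41 LD3_c42)) :=
  Lre_e IH (LK LD1_c4 LD2_c55 LD3_c3) (LK LD1_c9 LD2_c41 LD3_c42) Lrfl Lrfl
theorem f219102 : Led Lsl_et (LP (LK LD1_c10 LD2_c52 LD3_c1)) = (LP (LK LD1_c5 LD2_c30 LD3_c18)) :=
  Lre_e IH (LK LD1_c10 LD2_c52 LD3_c1) (LK LD1_c5 LD2_c30 LD3_c18) Lrfl Lrfl
theorem f219103 : Led Lsl_ct (LP (LK LD1_c9 LD2_c41 LD3_c42)) = (LP (LK LD1_c10 LD2_c52 LD3_c1)) :=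
  Lgr Lrot15 (Lpe (f219101 IH) (Lpr_cf (K16.f219087 IH) (Lpe (f219102 IH) (Lpn (LP (LK LD1_c10 LD2_c52 LD3_c1))))))
theorem f330903 : Led Lsl_gf (LP (LK LD1_c15 LD2_c57 LD3_c3)) = (LP (LK LD1_c10 LD2_c52 LD3_c1)) :=
  Lgr Lrot126 (Lpe (f197608 IH) (Lpe (f295773 IH) (Lpe (K20.f323210 IH) (Lpr_ct (f323204 IH) (Lpr_gt (f328426 IH) (Lpe (f328405 IH) (Lpe (f322359 IH) (Lpr_gt (f330896 IH) (Lpr_bf (f317255 IH) (Lpr_ct (f219103 IH) (Lpn (LP (LK LD1_c10 LD2_c52 LD3_c1)))))))))))))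
theorem f323215 : Led Lsl_bt (LP (LK LD1_c8 LD2_c18 LD3_c4)) = (LP (LK LD1_c4 LD2_c9 LD3_c13)) :=
  Lre_b IH (LK LD1_c8 LD2_c18 LD3_c4) (LK LD1_c4 LD2_c9 LD3_c13) Lrfl Lrfl
theorem f292416 : Led Lsl_ct (LP (LK LD1_c8 LD2_c18 LD3_c4)) = (LP (LK LD1_c15 LD2_c36 LD3_c38)) :=
  Lre_c IH (LK LD1_c8 LD2_c18 LD3_c4) (LK LD1_c15 LD2_c36 LD3_c38) Lrfl Lrfl
theorem f250784 : Led Lsl_ct (LP (LK LD1_c4 LD2_c18 LD3_c46)) = (LP (LK LD1_c8 LD2_c36 LD3_c11)) :=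
  Lre_c IH (LK LD1_c4 LD2_c18 LD3_c46) (LK LD1_c8 LD2_c36 LD3_c11) Lrfl Lrfl
theorem f330906 : Led Lsl_gt (LP (LK LD1_c15 LD2_c36 LD3_c38)) = (LP (LK LD1_c8 LD2_c36 LD3_c11)) :=
  Lgr Lrot65 (Lpe (f292416 IH) (Lpr_bt (f323215 IH) (Lpr_gf (K20.f323210 IH) (Lpr_bf (f295773 IH) (Lpr_ct (f197608 IH) (Lpr_gf (f330903 IH) (Lpe (f219103 IH) (Lpr_gf (K19.f301104 IH) (Lpr_bf (K19.f250773 IH) (Lpr_ct (f250784 IH) (Lpn (LP (LK LD1_c8 LD2_c36 LD3_c11)))))))))))))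
theorem f179594 : Led Lsl_gt (LP (LK LD1_c2 LD2_c7 LD3_c12)) = (LP (LK LD1_c4 LD2_c19 LD3_c38)) :=
  Lre_g IH (LK LD1_c2 LD2_c7 LD3_c12) (LK LD1_c4 LD2_c19 LD3_c38) Lrfl Lrfl
theorem f179595 : Led Lsl_ct (LP (LK LD1_c4 LD2_c19 LD3_c38)) = (LP (LK LD1_c8 LD2_c37 LD3_c31)) :=
  Lre_c IH (LK LD1_c4 LD2_c19 LD3_c38) (LK LD1_c8 LD2_c37 LD3_c31) Lrfl Lrfl
theorem f323222 : Led Lsl_gf (LP (LK LD1_c15 LD2_c36 LD3_c38)) = (LP (LK LD1_c8 LD2_c37 LD3_c31)) :=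
  Lgr Lrot129 (Lpe (f292416 IH) (Lpr_bt (f323215 IH) (Lpr_gt (K20.f323212 IH) (Lpr_bf (K18.f243478 IH) (Lpr_ct (K19.f179586 IH) (Lpe (f179584 IH) (Lpe (f179592 IH) (Lpr_bt (f179593 IH) (Lpr_gt (f179594 IH) (Lpr_ct (f179595 IH) (Lpn (LP (LK LD1_c8 LD2_c37 LD3_c31)))))))))))))
theorem f330908 : Led Lsl_ft (LP (LK LD1_c8 LD2_c37 LD3_c31)) = (LP (LK LD1_c8 LD2_c25 LD3_c17)) :=
  Lgr Lrot2 (Lpe (f323222 IH) (Lpr_gt (f330906 IH) (Lpe (f329357 IH) (Lpn (LP (LK LD1_c8 LD2_c25 LD3_c17))))))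
theorem f330926 : Led Lsl_dt (LP (LK LD1_c8 LD2_c37 LD3_c31)) = (LP (LK LD1_c16 LD2_c9 LD3_c28)) :=
  Lre_d IH (LK LD1_c8 LD2_c37 LD3_c31) (LK LD1_c16 LD2_c9 LD3_c28) Lrfl Lrfl
theorem f330927 : Led Lsl_ct (LP (LK LD1_c16 LD2_c9 LD3_c28)) = (LP (LK LD1_c26 LD2_c6 LD3_c9)) :=
  Lre_c IH (LK LD1_c16 LD2_c9 LD3_c28) (LK LD1_c26 LD2_c6 LD3_c9) Lrfl Lrfl
theorem f251714 : Led Lsl_ct (LP (LK LD1_c31 LD2_c50 LD3_c49)) = (LP (LK LD1_c25 LD2_c19 LD3_c18)) :=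
  Lre_c IH (LK LD1_c31 LD2_c50 LD3_c49) (LK LD1_c25 LD2_c19 LD3_c18) Lrfl Lrfl
theorem f330928 : Led Lsl_dt (LP (LK LD1_c26 LD2_c6 LD3_c9)) = (LP (LK LD1_c31 LD2_c50 LD3_c49)) :=
  Lgr Lrot32 (Lpe (f330927 IH) (Lpe (f330926 IH) (Lpr_ft (f330908 IH) (Lpr_at (f329357 IH) (Lpe (f250784 IH) (Lpe (K16.f251695 IH) (Lpe (K19.f191426 IH) (Lpe (f191455 IH) (Lpe (f251714 IH) (Lpn (LP (LK LD1_c31 LD2_c50 LD3_c49))))))))))))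
theorem f251715 : Led Lsl_ct (LP (LK LD1_c16 LD2_c7 LD3_c37)) = (LP (LK LD1_c26 LD2_c4 LD3_c5)) :=
  Lre_c IH (LK LD1_c16 LD2_c7 LD3_c37) (LK LD1_c26 LD2_c4 LD3_c5) Lrfl Lrfl
theorem f301671 : Led Lsl_ct (LP (LK LD1_c15 LD2_c49 LD3_c26)) = (LP (LK LD1_c25 LD2_c45 LD3_c44)) :=
  Lre_c IH (LK LD1_c15 LD2_c49 LD3_c26) (LK LD1_c25 LD2_c45 LD3_c44) Lrfl Lrfl
theorem f251694 : Led Lsl_ct (LP (LK LD1_c26 LD2_c4 LD3_c5)) = (LP (LK LD1_c16 LD2_c7 LD3_c37)) :=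
  Lre_c IH (LK LD1_c26 LD2_c4 LD3_c5) (LK LD1_c16 LD2_c7 LD3_c37) Lrfl Lrfl
theorem f329367 : Led Lsl_at (LP (LK LD1_c25 LD2_c45 LD3_c44)) = (LP (LK LD1_c26 LD2_c4 LD3_c5)) :=
  Lgr Lrot107 (Lpe (f301671 IH) (Lpr_af (f329363 IH) (Lpe (f251694 IH) (Lpn (LP (LK LD1_c26 LD2_c4 LD3_c5))))))
theorem f330934 : Led Lsl_ft (LP (LK LD1_c26 LD2_c6 LD3_c9)) = (LP (LK LD1_c25 LD2_c45 LD3_c44)) :=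
  Lgr Lrot142 (Lpr_dt (f330928 IH) (Lpr_ct (f251714 IH) (Lpr_dt (f191455 IH) (Lpr_ct (K19.f191426 IH) (Lpr_dt (K16.f251695 IH) (Lpr_ct (f250784 IH) (Lpr_dt (f250828 IH) (Lpr_ct (f251715 IH) (Lpe (f329367 IH) (Lpn (LP (LK LD1_c25 LD2_c45 LD3_c44))))))))))))
theorem f330936 : Led Lsl_ff (LP (LK LD1_c26 LD2_c6 LD3_c9)) = (LP (LK LD1_c25 LD2_c45 LD3_c44)) :=
  Lgr Lrot3 (Lpr_ft (f330934 IH) (Lpn (LP (LK LD1_c25 LD2_c45 LD3_c44))))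
theorem f330938 : Led Lsl_ct (LP (LK LD1_c26 LD2_c6 LD3_c9)) = (LP (LK LD1_c16 LD2_c9 LD3_c28)) :=
  Lre_c IH (LK LD1_c26 LD2_c6 LD3_c9) (LK LD1_c16 LD2_c9 LD3_c28) Lrfl Lrfl
theorem f330939 : Led Lsl_ft (LP (LK LD1_c16 LD2_c9 LD3_c28)) = (LP (LK LD1_c15 LD2_c49 LD3_c26)) :=
  Lgr Lrot4 (Lpe (f330938 IH) (Lpr_ff (f330936 IH) (Lpe (f301671 IH) (Lpn (LP (LK LD1_c15 LD2_c49 LD3_c26))))))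
theorem f330921 : Led Lsl_dt (LP (LK LD1_c16 LD2_c9 LD3_c28)) = (LP (LK LD1_c8 LD2_c37 LD3_c31)) :=
  Lre_d IH (LK LD1_c16 LD2_c9 LD3_c28) (LK LD1_c8 LD2_c37 LD3_c31) Lrfl Lrfl
theorem f306056 : Led Lsl_ct (LP (LK LD1_c8 LD2_c37 LD3_c31)) = (LP (LK LD1_c4 LD2_c19 LD3_c38)) :=
  Lre_c IH (LK LD1_c8 LD2_c37 LD3_c31) (LK LD1_c4 LD2_c19 LD3_c38) Lrfl Lrfl
theorem f329365 : Led Lsl_at (LP (LK LD1_c15 LD2_c49 LD3_c26)) = (LP (LK LD1_c16 LD2_c7 LD3_c37)) :=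
  Lgr Lrot100 (Lpr_af (f329363 IH) (Lpn (LP (LK LD1_c16 LD2_c7 LD3_c37))))
theorem f324958 : Led Lsl_dt (LP (LK LD1_c25 LD2_c21 LD3_c4)) = (LP (LK LD1_c15 LD2_c28 LD3_c41)) :=
  Lre_d IH (LK LD1_c25 LD2_c21 LD3_c4) (LK LD1_c15 LD2_c28 LD3_c41) Lrfl Lrfl
theorem f324982 : Led Lsl_ct (LP (LK LD1_c31 LD2_c51 LD3_c53)) = (LP (LK LD1_c25 LD2_c21 LD3_c4)) :=
  Lre_c IH (LK LD1_c31 LD2_c51 LD3_c53) (LK LD1_c25 LD2_c21 LD3_c4) Lrfl Lrfl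
theorem f324983 : Led Lsl_dt (LP (LK LD1_c26 LD2_c4 LD3_c5)) = (LP (LK LD1_c31 LD2_c51 LD3_c53)) :=
  Lgr Lrot140 (Lpe (f251715 IH) (Lpe (f250828 IH) (Lpe (f250784 IH) (Lpe (K16.f251695 IH) (Lpr_ft (f191460 IH) (Lpr_at (f324976 IH) (Lpe (f182639 IH) (Lpe (f324958 IH) (Lpe (f324982 IH) (Lpn (LP (LK LD1_c31 LD2_c51 LD3_c53))))))))))))
theorem f324985 : Led Lsl_df (LP (LK LD1_c26 LD2_c4 LD3_c5)) = (LP (LK LD1_c31 LD2_c51 LD3_c53)) :=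
  Lgr Lrot38 (Lpr_dt (f324983 IH) (Lpn (LP (LK LD1_c31 LD2_c51 LD3_c53))))
theorem f324988 : Led Lsl_ct (LP (LK LD1_c25 LD2_c21 LD3_c4)) = (LP (LK LD1_c31 LD2_c51 LD3_c53)) :=
  Lre_c IH (LK LD1_c25 LD2_c21 LD3_c4) (LK LD1_c31 LD2_c51 LD3_c53) Lrfl Lrfl
theorem f324989 : Led Lsl_dt (LP (LK LD1_c15 LD2_c28 LD3_c41)) = (LP (LK LD1_c25 LD2_c21 LD3_c4)) :=
  Lre_d IH (LK LD1_c15 LD2_c28 LD3_c41) (LK LD1_c25 LD2_c21 LD3_c4) Lrfl Lrfl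
theorem f330941 : Led Lsl_dt (LP (LK LD1_c4 LD2_c19 LD3_c38)) = (LP (LK LD1_c8 LD2_c13 LD3_c43)) :=
  Lgr Lrot32 (Lpe (f306056 IH) (Lpe (f330921 IH) (Lpr_ft (f330939 IH) (Lpr_at (f329365 IH) (Lpe (f251694 IH) (Lpr_df (f324985 IH) (Lpe (f324988 IH) (Lpe (f324989 IH) (Lpe (f182647 IH) (Lpn (LP (LK LD1_c8 LD2_c13 LD3_c43))))))))))))
theorem f250783 : Led Lsl_dt (LP (LK LD1_c16 LD2_c7 LD3_c37)) = (LP (LK LD1_c8 LD2_c36 LD3_c11)) :=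
  Lre_d IH (LK LD1_c16 LD2_c7 LD3_c37) (LK LD1_c8 LD2_c36 LD3_c11) Lrfl Lrfl
theorem f250778 : Led Lsl_ct (LP (LK LD1_c8 LD2_c36 LD3_c11)) = (LP (LK LD1_c4 LD2_c18 LD3_c46)) :=
  Lre_c IH (LK LD1_c8 LD2_c36 LD3_c11) (LK LD1_c4 LD2_c18 LD3_c46) Lrfl Lrfl
theorem f325005 : Led Lsl_af (LP (LK LD1_c4 LD2_c18 LD3_c46)) = (LP (LK LD1_c4 LD2_c13 LD3_c2)) :=
  Lgr Lrot117 (Lpe (K16.f251689 IH) (Lpr_at (f324996 IH) (Lpe (K18.f301667 IH) (Lpn (LP (LK LD1_c4 LD2_c13 LD3_c2))))))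
theorem f330947 : Led Lsl_ft (LP (LK LD1_c4 LD2_c19 LD3_c38)) = (LP (LK LD1_c4 LD2_c13 LD3_c2)) :=
  Lgr Lrot142 (Lpr_dt (f330941 IH) (Lpr_ct (f182647 IH) (Lpr_dt (f324989 IH) (Lpr_ct (f324988 IH) (Lpe (f324985 IH) (Lpr_ct (f251694 IH) (Lpr_dt (f250783 IH) (Lpr_ct (f250778 IH) (Lpr_af (f325005 IH) (Lpn (LP (LK LD1_c4 LD2_c13 LD3_c2))))))))))))
theorem f330989 : Led Lsl_ef (LP (LK LD1_c4 LD2_c19 LD3_c38)) = (LP (LK LD1_c8 LD2_c36 LD3_c8)) :=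
  Lgr Lrot21 (Lpr_ft (f330947 IH) (Lpr_et (f228878 IH) (Lpr_ft (f329427 IH) (Lpr_et (f254917 IH) (Lpr_ft (f254919 IH) (Lpn (LP (LK LD1_c8 LD2_c36 LD3_c8))))))))
theorem f279276 : Led Lsl_et (LP (LK LD1_c1 LD2_c0 LD3_c38)) = (LP (LK LD1_c2 LD2_c7 LD3_c12)) :=
  Lre_e IH (LK LD1_c1 LD2_c0 LD3_c38) (LK LD1_c2 LD2_c7 LD3_c12) Lrfl Lrfl
theorem f301700 : Led Lsl_ft (LP (LK LD1_c2 LD2_c7 LD3_c12)) = (LP (LK LD1_c4 LD2_c19 LD3_c40)) :=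
  Lre_f IH (LK LD1_c2 LD2_c7 LD3_c12) (LK LD1_c4 LD2_c19 LD3_c40) Lrfl Lrfl
theorem f305874 : Led Lsl_at (LP (LK LD1_c4 LD2_c19 LD3_c40)) = (LP (LK LD1_c8 LD2_c36 LD3_c12)) :=
  Lgr Lrot66 (Lpe (f301700 IH) (Lpe (K14.f254049 IH) (Lpr_ff (K19.f305872 IH) (Lpn (LP (LK LD1_c8 LD2_c36 LD3_c12))))))
theorem f306054 : Led Lsl_gt (LP (LK LD1_c4 LD2_c19 LD3_c38)) = (LP (LK LD1_c8 LD2_c36 LD3_c12)) :=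
  Lgr Lrot46 (Lpe (f179594 IH) (Lpr_ft (f301700 IH) (Lpr_at (f305874 IH) (Lpn (LP (LK LD1_c8 LD2_c36 LD3_c12))))))
theorem f305868 : Led Lsl_df (LP (LK LD1_c15 LD2_c1 LD3_c26)) = (LP (LK LD1_c8 LD2_c36 LD3_c12)) :=
  Lgr Lrot38 (Lpr_dt (K19.f305862 IH) (Lpn (LP (LK LD1_c8 LD2_c36 LD3_c12))))
theorem f253648 : Led Lsl_dt (LP (LK LD1_c10 LD2_c11 LD3_c37)) = (LP (LK LD1_c11 LD2_c5 LD3_c4)) :=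
  Lgr Lrot44 (Lpe (K14.f248748 IH) (Lpr_df (K14.f253625 IH) (Lpe (K14.f253647 IH) (Lpn (LP (LK LD1_c11 LD2_c5 LD3_c4))))))
theorem f305870 : Led Lsl_ef (LP (LK LD1_c8 LD2_c24 LD3_c8)) = (LP (LK LD1_c8 LD2_c36 LD3_c12)) :=
  Lgr Lrot73 (Lpe (f166931 IH) (Lpr_et (K14.f249662 IH) (Lpr_dt (f253648 IH) (Lpr_et (K19.f254105 IH) (Lpr_dt (K19.f305862 IH) (Lpn (LP (LK LD1_c8 LD2_c36 LD3_c12))))))))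
theorem f276686 : Led Lsl_gt (LP (LK LD1_c9 LD2_c36 LD3_c59)) = (LP (LK LD1_c4 LD2_c52 LD3_c26)) :=
  Lre_g IH (LK LD1_c9 LD2_c36 LD3_c59) (LK LD1_c4 LD2_c52 LD3_c26) Lrfl Lrfl
theorem f266882 : Led Lsl_gt (LP (LK LD1_c8 LD2_c37 LD3_c33)) = (LP (LK LD1_c4 LD2_c19 LD3_c39)) :=
  Lre_g IH (LK LD1_c8 LD2_c37 LD3_c33) (LK LD1_c4 LD2_c19 LD3_c39) Lrfl Lrfl
theorem f276678 : Led Lsl_dt (LP (LK LD1_c16 LD2_c9 LD3_c33)) = (LP (LK LD1_c8 LD2_c37 LD3_c33)) :=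
  Lre_d IH (LK LD1_c16 LD2_c9 LD3_c33) (LK LD1_c8 LD2_c37 LD3_c33) Lrfl Lrfl
theorem f276679 : Led Lsl_gt (LP (LK LD1_c4 LD2_c52 LD3_c20)) = (LP (LK LD1_c9 LD2_c36 LD3_c59)) :=
  Lre_g IH (LK LD1_c4 LD2_c52 LD3_c20) (LK LD1_c9 LD2_c36 LD3_c59) Lrfl Lrfl
theorem f276680 : Led Lsl_et (LP (LK LD1_c16 LD2_c9 LD3_c33)) = (LP (LK LD1_c9 LD2_c36 LD3_c59)) :=
  Lgr Lrot122 (Lpr_dt (f276678 IH) (Lpr_gt (f266882 IH) (Lpe (K14.f254050 IH) (Lpr_et (K19.f276677 IH) (Lpr_gt (K12.f179561 IH) (Lpe (K16.f276672 IH) (Lpr_gt (K16.f276668 IH) (Lpe (K16.f270915 IH) (Lpr_et (K19.f276634 IH) (Lpr_gt (f276679 IH) (Lpn (LP (LK LD1_c9 LD2_c36 LD3_c59)))))))))))))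
theorem f312546 : Led Lsl_gt (LP (LK LD1_c15 LD2_c1 LD3_c26)) = (LP (LK LD1_c8 LD2_c37 LD3_c33)) :=
  Lgr Lrot112 (Lpr_df (f305868 IH) (Lpe (f305870 IH) (Lpe (K19.f166946 IH) (Lpr_ef (K19.f304592 IH) (Lpr_dt (K19.f171448 IH) (Lpe (K19.f304607 IH) (Lpr_df (K19.f312541 IH) (Lpe (f276686 IH) (Lpe (f276680 IH) (Lpr_dt (f276678 IH) (Lpn (LP (LK LD1_c8 LD2_c37 LD3_c33)))))))))))))
theorem f307066 : Led Lsl_gt (LP (LK LD1_c4 LD2_c31 LD3_c37)) = (LP (LK LD1_c9 LD2_c1 LD3_c13)) :=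
  Lre_g IH (LK LD1_c4 LD2_c31 LD3_c37) (LK LD1_c9 LD2_c1 LD3_c13) Lrfl Lrfl
theorem f331000 : Led Lsl_df (LP (LK LD1_c9 LD2_c1 LD3_c13)) = (LP (LK LD1_c8 LD2_c36 LD3_c8)) :=
  Lgr Lrot168 (Lpe (f307066 IH) (Lpr_df (K19.f307063 IH) (Lpr_et (K19.f304946 IH) (Lpe (f276686 IH) (Lpe (f276680 IH) (Lpr_dt (f276678 IH) (Lpe (f312546 IH) (Lpr_df (f305868 IH) (Lpe (f306054 IH) (Lpr_ef (f330989 IH) (Lpn (LP (LK LD1_c8 LD2_c36 LD3_c8)))))))))))))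
theorem f331002 : Led Lsl_gf (LP (LK LD1_c4 LD2_c55 LD3_c14)) = (LP (LK LD1_c9 LD2_c1 LD3_c13)) :=
  Lgr Lrot145 (Lpr_df (K19.f312553 IH) (Lpr_et (K19.f180087 IH) (Lpr_gt (K17.f279251 IH) (Lpr_dt (K16.f279195 IH) (Lpr_gt (K16.f278181 IH) (Lpe (K15.f189113 IH) (Lpr_et (f279276 IH) (Lpr_gt (f179594 IH) (Lpr_ef (f330989 IH) (Lpe (f331000 IH) (Lpn (LP (LK LD1_c9 LD2_c1 LD3_c13)))))))))))))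
theorem f310869 : Led Lsl_ft (LP (LK LD1_c4 LD2_c13 LD3_c5)) = (LP (LK LD1_c8 LD2_c25 LD3_c23)) :=
  Lre_f IH (LK LD1_c4 LD2_c13 LD3_c5) (LK LD1_c8 LD2_c25 LD3_c23) Lrfl Lrfl
theorem f310870 : Led Lsl_ft (LP (LK LD1_c4 LD2_c55 LD3_c15)) = (LP (LK LD1_c2 LD2_c25 LD3_c31)) :=
  Lre_f IH (LK LD1_c4 LD2_c55 LD3_c15) (LK LD1_c2 LD2_c25 LD3_c31) Lrfl Lrfl
theorem f310871 : Led Lsl_df (LP (LK LD1_c4 LD2_c13 LD3_c5)) = (LP (LK LD1_c2 LD2_c25 LD3_c31)) :=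
  Lgr Lrot78 (Lpr_ft (f310869 IH) (Lpr_dt (f310866 IH) (Lpr_ft (f310870 IH) (Lpn (LP (LK LD1_c2 LD2_c25 LD3_c31))))))
theorem f329441 : Led Lsl_af (LP (LK LD1_c2 LD2_c25 LD3_c31)) = (LP (LK LD1_c4 LD2_c54 LD3_c33)) :=
  Lgr Lrot117 (Lpe (f310871 IH) (Lpr_at (f329433 IH) (Lpe (K16.f254912 IH) (Lpn (LP (LK LD1_c4 LD2_c54 LD3_c33))))))
theorem f331004 : Led Lsl_ff (LP (LK LD1_c4 LD2_c54 LD3_c33)) = (LP (LK LD1_c9 LD2_c1 LD3_c13)) :=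
  Lgr Lrot52 (Lpe (f329441 IH) (Lpe (K19.f307099 IH) (Lpr_gf (f331002 IH) (Lpn (LP (LK LD1_c9 LD2_c1 LD3_c13))))))
theorem f331014 : Led Lsl_ft (LP (LK LD1_c4 LD2_c54 LD3_c33)) = (LP (LK LD1_c9 LD2_c1 LD3_c13)) :=
  Lgr Lrot48 (Lpr_ff (f331004 IH) (Lpn (LP (LK LD1_c9 LD2_c1 LD3_c13))))
theorem f329485 : Led Lsl_at (LP (LK LD1_c4 LD2_c14 LD3_c7)) = (LP (LK LD1_c4 LD2_c55 LD3_c7)) :=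
  Lgr Lrot100 (Lpr_af (f329479 IH) (Lpn (LP (LK LD1_c4 LD2_c55 LD3_c7))))
theorem f329527 : Led Lsl_at (LP (LK LD1_c2 LD2_c25 LD3_c31)) = (LP (LK LD1_c4 LD2_c54 LD3_c33)) :=
  Lgr Lrot67 (Lpe (f307109 IH) (Lpe (f329485 IH) (Lpe (f250554 IH) (Lpr_af (f329525 IH) (Lpe (K16.f254906 IH) (Lpn (LP (LK LD1_c4 LD2_c54 LD3_c33))))))))
theorem f331016 : Led Lsl_af (LP (LK LD1_c4 LD2_c55 LD3_c15)) = (LP (LK LD1_c9 LD2_c1 LD3_c13)) :=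
  Lgr Lrot45 (Lpr_ft (f310870 IH) (Lpr_at (f329527 IH) (Lpr_ft (f331014 IH) (Lpn (LP (LK LD1_c9 LD2_c1 LD3_c13))))))
theorem f331025 : Led Lsl_gt (LP (LK LD1_c9 LD2_c1 LD3_c14)) = (LP (LK LD1_c4 LD2_c55 LD3_c15)) :=
  Lgr Lrot46 (Lpe (K19.f307166 IH) (Lpr_ft (f331014 IH) (Lpe (f331016 IH) (Lpn (LP (LK LD1_c4 LD2_c55 LD3_c15))))))
theorem f180068 : Led Lsl_at (LP (LK LD1_c4 LD2_c53 LD3_c19)) = (LP (LK LD1_c2 LD2_c24 LD3_c29)) :=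
  Lre_a IH (LK LD1_c4 LD2_c53 LD3_c19) (LK LD1_c2 LD2_c24 LD3_c29) Lrfl Lrfl
theorem f306898 : Led Lsl_bt (LP (LK LD1_c1 LD2_c8 LD3_c60)) = (LP (LK LD1_c2 LD2_c23 LD3_c51)) :=
  Lre_b IH (LK LD1_c1 LD2_c8 LD3_c60) (LK LD1_c2 LD2_c23 LD3_c51) Lrfl Lrfl
theorem f306931 : Led Lsl_bf (LP (LK LD1_c4 LD2_c53 LD3_c19)) = (LP (LK LD1_c4 LD2_c52 LD3_c7)) :=
  Lgr Lrot81 (Lpr_at (f180068 IH) (Lpr_bt (K16.f167019 IH) (Lpr_at (K19.f306922 IH) (Lpr_bt (f306898 IH) (Lpr_at (K19.f301199 IH) (Lpn (LP (LK LD1_c4 LD2_c52 LD3_c7))))))))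
theorem f312557 : Led Lsl_bt (LP (LK LD1_c4 LD2_c55 LD3_c14)) = (LP (LK LD1_c7 LD2_c58 LD3_c8)) :=
  Lgr Lrot95 (Lpr_df (K19.f312553 IH) (Lpr_bf (f306931 IH) (Lpe (K19.f301204 IH) (Lpn (LP (LK LD1_c7 LD2_c58 LD3_c8))))))
theorem f305714 : Led Lsl_at (LP (LK LD1_c5 LD2_c39 LD3_c40)) = (LP (LK LD1_c2 LD2_c45 LD3_c46)) :=
  Lre_a IH (LK LD1_c5 LD2_c39 LD3_c40) (LK LD1_c2 LD2_c45 LD3_c46) Lrfl Lrfl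
theorem f305715 : Led Lsl_ff (LP (LK LD1_c5 LD2_c39 LD3_c40)) = (LP (LK LD1_c7 LD2_c58 LD3_c8)) :=
  Lgr Lrot30 (Lpr_at (f305714 IH) (Lpr_ft (K19.f305706 IH) (Lpr_at (f301631 IH) (Lpn (LP (LK LD1_c7 LD2_c58 LD3_c8))))))
theorem f312597 : Led Lsl_bt (LP (LK LD1_c5 LD2_c39 LD3_c40)) = (LP (LK LD1_c9 LD2_c1 LD3_c14)) :=
  Lgr Lrot35 (Lpr_ff (f305715 IH) (Lpe (f312557 IH) (Lpr_ff (K19.f312574 IH) (Lpn (LP (LK LD1_c9 LD2_c1 LD3_c14))))))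
theorem f306609 : Led Lsl_ct (LP (LK LD1_c5 LD2_c39 LD3_c40)) = (LP (LK LD1_c11 LD2_c10 LD3_c28)) :=
  Lre_c IH (LK LD1_c5 LD2_c39 LD3_c40) (LK LD1_c11 LD2_c10 LD3_c28) Lrfl Lrfl
theorem f305749 : Led Lsl_at (LP (LK LD1_c11 LD2_c10 LD3_c29)) = (LP (LK LD1_c5 LD2_c39 LD3_c42)) :=
  Lre_a IH (LK LD1_c11 LD2_c10 LD3_c29) (LK LD1_c5 LD2_c39 LD3_c42) Lrfl Lrfl
theorem f305750 : Led Lsl_ff (LP (LK LD1_c11 LD2_c10 LD3_c29)) = (LP (LK LD1_c8 LD2_c13 LD3_c18)) :=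
  Lgr Lrot30 (Lpr_at (f305749 IH) (Lpr_ft (K19.f305739 IH) (Lpe (K19.f289960 IH) (Lpn (LP (LK LD1_c8 LD2_c13 LD3_c18))))))
theorem f306601 : Led Lsl_ft (LP (LK LD1_c5 LD2_c39 LD3_c40)) = (LP (LK LD1_c7 LD2_c58 LD3_c8)) :=
  Lgr Lrot86 (Lpe (f306569 IH) (Lpr_ff (f305750 IH) (Lpe (K17.f230891 IH) (Lpr_ff (K17.f290000 IH) (Lpe (K19.f301206 IH) (Lpn (LP (LK LD1_c7 LD2_c58 LD3_c8))))))))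
theorem f301209 : Led Lsl_ft (LP (LK LD1_c4 LD2_c52 LD3_c7)) = (LP (LK LD1_c9 LD2_c36 LD3_c38)) :=
  Lre_f IH (LK LD1_c4 LD2_c52 LD3_c7) (LK LD1_c9 LD2_c36 LD3_c38) Lrfl Lrfl
theorem f306606 : Led Lsl_df (LP (LK LD1_c5 LD2_c39 LD3_c40)) = (LP (LK LD1_c9 LD2_c36 LD3_c38)) :=
  Lgr Lrot78 (Lpr_ft (f306601 IH) (Lpr_dt (K19.f301204 IH) (Lpr_ft (f301209 IH) (Lpn (LP (LK LD1_c9 LD2_c36 LD3_c38))))))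
theorem f306610 : Led Lsl_dt (LP (LK LD1_c11 LD2_c10 LD3_c28)) = (LP (LK LD1_c20 LD2_c5 LD3_c9)) :=
  Lre_d IH (LK LD1_c11 LD2_c10 LD3_c28) (LK LD1_c20 LD2_c5 LD3_c9) Lrfl Lrfl
theorem f301208 : Led Lsl_ft (LP (LK LD1_c9 LD2_c36 LD3_c38)) = (LP (LK LD1_c4 LD2_c52 LD3_c7)) :=
  Lre_f IH (LK LD1_c9 LD2_c36 LD3_c38) (LK LD1_c4 LD2_c52 LD3_c7) Lrfl Lrfl
theorem f301283 : Led Lsl_at (LP (LK LD1_c4 LD2_c52 LD3_c7)) = (LP (LK LD1_c2 LD2_c23 LD3_c51)) :=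
  Lre_a IH (LK LD1_c4 LD2_c52 LD3_c7) (LK LD1_c2 LD2_c23 LD3_c51) Lrfl Lrfl
theorem f274517 : Led Lsl_ct (LP (LK LD1_c4 LD2_c52 LD3_c11)) = (LP (LK LD1_c2 LD2_c23 LD3_c51)) :=
  Lre_c IH (LK LD1_c4 LD2_c52 LD3_c11) (LK LD1_c2 LD2_c23 LD3_c51) Lrfl Lrfl
theorem f270595 : Led Lsl_dt (LP (LK LD1_c9 LD2_c36 LD3_c45)) = (LP (LK LD1_c4 LD2_c52 LD3_c11)) :=
  Lre_d IH (LK LD1_c9 LD2_c36 LD3_c45) (LK LD1_c4 LD2_c52 LD3_c11) Lrfl Lrfl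
theorem f270590 : Led Lsl_ct (LP (LK LD1_c17 LD2_c42 LD3_c7)) = (LP (LK LD1_c9 LD2_c36 LD3_c45)) :=
  Lre_c IH (LK LD1_c17 LD2_c42 LD3_c7) (LK LD1_c9 LD2_c36 LD3_c45) Lrfl Lrfl
theorem f306612 : Led Lsl_dt (LP (LK LD1_c27 LD2_c29 LD3_c30)) = (LP (LK LD1_c17 LD2_c42 LD3_c7)) :=
  Lre_d IH (LK LD1_c27 LD2_c29 LD3_c30) (LK LD1_c17 LD2_c42 LD3_c7) Lrfl Lrfl
theorem f306613 : Led Lsl_ct (LP (LK LD1_c20 LD2_c5 LD3_c9)) = (LP (LK LD1_c27 LD2_c29 LD3_c30)) :=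
  Lgr Lrot41 (Lpe (f306610 IH) (Lpe (f306609 IH) (Lpr_df (f306606 IH) (Lpr_ft (f301208 IH) (Lpr_at (f301283 IH) (Lpe (f274517 IH) (Lpe (f270595 IH) (Lpe (f270590 IH) (Lpe (f306612 IH) (Lpn (LP (LK LD1_c27 LD2_c29 LD3_c30))))))))))))
theorem f301622 : Led Lsl_af (LP (LK LD1_c9 LD2_c1 LD3_c17)) = (LP (LK LD1_c15 LD2_c2 LD3_c0)) :=
  Lgr Lrot50 (Lpr_et (K18.f301620 IH) (Lpr_at (K17.f291540 IH) (Lpe (K19.f301229 IH) (Lpn (LP (LK LD1_c15 LD2_c2 LD3_c0))))))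
theorem f306626 : Led Lsl_ft (LP (LK LD1_c11 LD2_c10 LD3_c28)) = (LP (LK LD1_c15 LD2_c2 LD3_c0)) :=
  Lgr Lrot142 (Lpr_dt (f306610 IH) (Lpr_ct (f306613 IH) (Lpr_dt (f306612 IH) (Lpr_ct (f270590 IH) (Lpr_dt (f270595 IH) (Lpr_ct (f274517 IH) (Lpe (K18.f301645 IH) (Lpr_ct (K18.f301591 IH) (Lpr_af (f301622 IH) (Lpn (LP (LK LD1_c15 LD2_c2 LD3_c0))))))))))))
theorem f306638 : Led Lsl_gt (LP (LK LD1_c11 LD2_c10 LD3_c28)) = (LP (LK LD1_c16 LD2_c51 LD3_c16)) :=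
  Lgr Lrot5 (Lpr_ft (f306626 IH) (Lpe (f301622 IH) (Lpe (K18.f301592 IH) (Lpn (LP (LK LD1_c16 LD2_c51 LD3_c16))))))
theorem f301595 : Led Lsl_ct (LP (LK LD1_c16 LD2_c51 LD3_c16)) = (LP (LK LD1_c15 LD2_c18 LD3_c29)) :=
  Lgr Lrot59 (Lpr_cf (K18.f301593 IH) (Lpn (LP (LK LD1_c15 LD2_c18 LD3_c29))))
theorem f305642 : Led Lsl_at (LP (LK LD1_c11 LD2_c10 LD3_c30)) = (LP (LK LD1_c16 LD2_c51 LD3_c16)) :=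
  Lgr Lrot107 (Lpr_cf (K19.f305638 IH) (Lpe (K17.f261039 IH) (Lpe (f301595 IH) (Lpn (LP (LK LD1_c16 LD2_c51 LD3_c16))))))
theorem f305661 : Led Lsl_ff (LP (LK LD1_c11 LD2_c10 LD3_c30)) = (LP (LK LD1_c8 LD2_c7 LD3_c51)) :=
  Lgr Lrot3 (Lpr_ft (K19.f305650 IH) (Lpn (LP (LK LD1_c8 LD2_c7 LD3_c51))))
theorem f306640 : Led Lsl_gf (LP (LK LD1_c11 LD2_c10 LD3_c28)) = (LP (LK LD1_c8 LD2_c7 LD3_c51)) :=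
  Lgr Lrot47 (Lpr_gt (f306638 IH) (Lpe (f305642 IH) (Lpr_ff (f305661 IH) (Lpn (LP (LK LD1_c8 LD2_c7 LD3_c51))))))
theorem f265794 : Led Lsl_bf (LP (LK LD1_c4 LD2_c3 LD3_c49)) = (LP (LK LD1_c5 LD2_c23 LD3_c36)) :=
  Lgr Lrot96 (Lpr_et (K20.f265758 IH) (Lpr_bt (K15.f256855 IH) (Lpr_et (K17.f265791 IH) (Lpn (LP (LK LD1_c5 LD2_c23 LD3_c36))))))
theorem f265796 : Led Lsl_ct (LP (LK LD1_c5 LD2_c23 LD3_c36)) = (LP (LK LD1_c10 LD2_c37 LD3_c44)) :=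
  Lre_c IH (LK LD1_c5 LD2_c23 LD3_c36) (LK LD1_c10 LD2_c37 LD3_c44) Lrfl Lrfl
theorem f310868 : Led Lsl_ct (LP (LK LD1_c4 LD2_c55 LD3_c15)) = (LP (LK LD1_c9 LD2_c42 LD3_c0)) :=
  Lre_c IH (LK LD1_c4 LD2_c55 LD3_c15) (LK LD1_c9 LD2_c42 LD3_c0) Lrfl Lrfl
theorem f331027 : Led Lsl_gf (LP (LK LD1_c10 LD2_c37 LD3_c44)) = (LP (LK LD1_c9 LD2_c42 LD3_c0)) :=
  Lgr Lrot129 (Lpe (f265796 IH) (Lpe (f265794 IH) (Lpr_gt (K17.f227205 IH) (Lpe (f261046 IH) (Lpr_ct (f237138 IH) (Lpe (f306640 IH) (Lpe (f306609 IH) (Lpr_bt (f312597 IH) (Lpr_gt (f331025 IH) (Lpr_ct (f310868 IH) (Lpn (LP (LK LD1_c9 LD2_c42 LD3_c0)))))))))))))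
theorem f265779 : Led Lsl_cf (LP (LK LD1_c5 LD2_c12 LD3_c34)) = (LP (LK LD1_c8 LD2_c11 LD3_c10)) :=
  Lgr Lrot166 (Lpr_gt (K15.f265771 IH) (Lpr_dt (K16.f187540 IH) (Lpe (K10.f188006 IH) (Lpr_dt (K9.f50103 IH) (Lpe (K11.f191190 IH) (Lpe (K20.f265775 IH) (Lpe (K20.f265774 IH) (Lpe (K20.f265773 IH) (Lpe (K13.f187883 IH) (Lpn (LP (LK LD1_c8 LD2_c11 LD3_c10))))))))))))
theorem f291847 : Led Lsl_gf (LP (LK LD1_c8 LD2_c11 LD3_c10)) = (LP (LK LD1_c4 LD2_c5 LD3_c15)) :=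
  Lgr Lrot147 (Lpe (f265779 IH) (Lpr_gt (K15.f265771 IH) (Lpr_ct (K15.f187549 IH) (Lpr_df (K15.f230681 IH) (Lpe (K12.f230671 IH) (Lpe (K12.f183896 IH) (Lpe (K20.f230711 IH) (Lpr_gf (K20.f291843 IH) (Lpe (K20.f188091 IH) (Lpn (LP (LK LD1_c4 LD2_c5 LD3_c15))))))))))))
theorem f265807 : Led Lsl_dt (LP (LK LD1_c8 LD2_c11 LD3_c10)) = (LP (LK LD1_c15 LD2_c24 LD3_c49)) :=
  Lre_d IH (LK LD1_c8 LD2_c11 LD3_c10) (LK LD1_c15 LD2_c24 LD3_c49) Lrfl Lrfl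
theorem f47976 : Led Lsl_dt (LP (LK LD1_c15 LD2_c1 LD3_c48)) = (LP (LK LD1_c7 LD2_c58 LD3_c2)) :=
  Lre_d IH (LK LD1_c15 LD2_c1 LD3_c48) (LK LD1_c7 LD2_c58 LD3_c2) Lrfl Lrfl
theorem f291892 : Led Lsl_gt (LP (LK LD1_c15 LD2_c24 LD3_c49)) = (LP (LK LD1_c15 LD2_c1 LD3_c48)) :=
  Lgr Lrot49 (Lpe (f265807 IH) (Lpr_gf (f291847 IH) (Lpe (K20.f188089 IH) (Lpr_gt (K15.f237825 IH) (Lpr_dt (K14.f180036 IH) (Lpr_gt (K14.f253942 IH) (Lpr_dt (K10.f41371 IH) (Lpe (K14.f47964 IH) (Lpe (f47976 IH) (Lpn (LP (LK LD1_c15 LD2_c1 LD3_c48))))))))))))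
theorem f265788 : Led Lsl_dt (LP (LK LD1_c15 LD2_c24 LD3_c49)) = (LP (LK LD1_c8 LD2_c11 LD3_c10)) :=
  Lre_d IH (LK LD1_c15 LD2_c24 LD3_c49) (LK LD1_c8 LD2_c11 LD3_c10) Lrfl Lrfl
theorem f291899 : Led Lsl_cf (LP (LK LD1_c8 LD2_c52 LD3_c16)) = (LP (LK LD1_c15 LD2_c1 LD3_c48)) :=
  Lgr Lrot169 (Lpe (K17.f253984 IH) (Lpe (K17.f284754 IH) (Lpe (K20.f261349 IH) (Lpe (K15.f183840 IH) (Lpe (K15.f47417 IH) (Lpe (K13.f187882 IH) (Lpe (K13.f187883 IH) (Lpe (f265788 IH) (Lpr_gt (f291892 IH) (Lpn (LP (LK LD1_c15 LD2_c1 LD3_c48))))))))))))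
theorem f291726 : Led Lsl_cf (LP (LK LD1_c8 LD2_c11 LD3_c9)) = (LP (LK LD1_c5 LD2_c12 LD3_c35)) :=
  Lgr Lrot11 (Lpr_ct (K20.f291711 IH) (Lpn (LP (LK LD1_c5 LD2_c12 LD3_c35))))
theorem f291845 : Led Lsl_gt (LP (LK LD1_c8 LD2_c11 LD3_c9)) = (LP (LK LD1_c4 LD2_c5 LD3_c15)) :=
  Lgr Lrot94 (Lpr_cf (f291726 IH) (Lpr_gt (K18.f183954 IH) (Lpr_dt (K14.f183898 IH) (Lpe (K9.f183947 IH) (Lpr_dt (K9.f30859 IH) (Lpe (K11.f30867 IH) (Lpe (K14.f30892 IH) (Lpr_gf (K20.f291843 IH) (Lpe (K20.f188091 IH) (Lpn (LP (LK LD1_c4 LD2_c5 LD3_c15))))))))))))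
theorem f291903 : Led Lsl_dt (LP (LK LD1_c8 LD2_c11 LD3_c4)) = (LP (LK LD1_c8 LD2_c52 LD3_c49)) :=
  Lgr Lrot105 (Lpe (K15.f242995 IH) (Lpe (K17.f242994 IH) (Lpr_gf (K17.f253984 IH) (Lpr_cf (f291899 IH) (Lpe (K20.f291732 IH) (Lpr_dt (K20.f291728 IH) (Lpr_gt (f291845 IH) (Lpr_dt (K20.f188091 IH) (Lpe (K20.f291837 IH) (Lpn (LP (LK LD1_c8 LD2_c52 LD3_c49))))))))))))
theorem f188090 : Led Lsl_dt (LP (LK LD1_c8 LD2_c11 LD3_c20)) = (LP (LK LD1_c4 LD2_c5 LD3_c15)) :=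
  Lre_d IH (LK LD1_c8 LD2_c11 LD3_c20) (LK LD1_c4 LD2_c5 LD3_c15) Lrfl Lrfl
theorem f188092 : Led Lsl_ct (LP (LK LD1_c4 LD2_c5 LD3_c15)) = (LP (LK LD1_c1 LD2_c59 LD3_c49)) :=
  Lre_c IH (LK LD1_c4 LD2_c5 LD3_c15) (LK LD1_c1 LD2_c59 LD3_c49) Lrfl Lrfl
theorem f278530 : Led Lsl_df (LP (LK LD1_c8 LD2_c52 LD3_c50)) = (LP (LK LD1_c5 LD2_c1 LD3_c17)) :=
  Lgr Lrot153 (Lpr_gt (K20.f44817 IH) (Lpr_dt (K13.f44838 IH) (Lpe (K15.f44746 IH) (Lpe (K14.f41835 IH) (Lpe (K9.f44597 IH) (Lpe (K15.f44607 IH) (Lpr_gf (K16.f278528 IH) (Lpe (K17.f169842 IH) (Lpr_gt (K18.f252952 IH) (Lpn (LP (LK LD1_c5 LD2_c1 LD3_c17))))))))))))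
theorem f291905 : Led Lsl_cf (LP (LK LD1_c8 LD2_c11 LD3_c12)) = (LP (LK LD1_c8 LD2_c52 LD3_c50)) :=
  Lgr Lrot55 (Lpr_dt (K20.f191110 IH) (Lpr_ct (K13.f187882 IH) (Lpr_dt (K13.f47278 IH) (Lpr_ct (K10.f182522 IH) (Lpr_dt (K14.f187879 IH) (Lpr_ct (K15.f187881 IH) (Lpr_dt (f291903 IH) (Lpr_ct (K20.f291837 IH) (Lpr_dt (f188090 IH) (Lpr_ct (f188092 IH) (Lpr_dt (K15.f47420 IH) (Lpr_ct (K10.f192460 IH) (Lpr_dt (K14.f192488 IH) (Lpr_ct (K14.f192974 IH) (Lpe (f278530 IH) (Lpn (LP (LK LD1_c8 LD2_c52 LD3_c50))))))))))))))))))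
theorem f230803 : Led Lsl_dt (LP (LK LD1_c10 LD2_c1 LD3_c40)) = (LP (LK LD1_c5 LD2_c5 LD3_c18)) :=
  Lre_d IH (LK LD1_c10 LD2_c1 LD3_c40) (LK LD1_c5 LD2_c5 LD3_c18) Lrfl Lrfl
theorem f230804 : Led Lsl_gf (LP (LK LD1_c10 LD2_c1 LD3_c40)) = (LP (LK LD1_c8 LD2_c52 LD3_c19)) :=
  Lgr Lrot143 (Lpr_dt (f230803 IH) (Lpe (K17.f169833 IH) (Lpr_df (K14.f230795 IH) (Lpe (K16.f170657 IH) (Lpr_df (K10.f178533 IH) (Lpe (K9.f182206 IH) (Lpe (K13.f46166 IH) (Lpr_gt (K12.f46256 IH) (Lpr_dt (K20.f46258 IH) (Lpn (LP (LK LD1_c8 LD2_c52 LD3_c19))))))))))))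
theorem f292001 : Led Lsl_gf (LP (LK LD1_c15 LD2_c24 LD3_c49)) = (LP (LK LD1_c15 LD2_c24 LD3_c21)) :=
  Lgr Lrot144 (Lpr_dt (f265788 IH) (Lpr_gt (K13.f187883 IH) (Lpr_dt (K20.f265773 IH) (Lpr_cf (f291905 IH) (Lpr_df (f278530 IH) (Lpe (K18.f252952 IH) (Lpe (f230803 IH) (Lpr_gf (f230804 IH) (Lpr_cf (K20.f259572 IH) (Lpn (LP (LK LD1_c15 LD2_c24 LD3_c21))))))))))))
theorem f265803 : Led Lsl_ct (LP (LK LD1_c10 LD2_c37 LD3_c44)) = (LP (LK LD1_c5 LD2_c23 LD3_c36)) :=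
  Lre_c IH (LK LD1_c10 LD2_c37 LD3_c44) (LK LD1_c5 LD2_c23 LD3_c36) Lrfl Lrfl
theorem f265804 : Led Lsl_et (LP (LK LD1_c8 LD2_c11 LD3_c10)) = (LP (LK LD1_c10 LD2_c37 LD3_c44)) :=
  Lgr Lrot158 (Lpe (K13.f187884 IH) (Lpr_ef (K17.f265799 IH) (Lpe (f265803 IH) (Lpn (LP (LK LD1_c10 LD2_c37 LD3_c44))))))
theorem f201197 : Led Lsl_et (LP (LK LD1_c4 LD2_c54 LD3_c32)) = (LP (LK LD1_c9 LD2_c40 LD3_c41)) :=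
  Lre_e IH (LK LD1_c4 LD2_c54 LD3_c32) (LK LD1_c9 LD2_c40 LD3_c41) Lrfl Lrfl
theorem f292006 : Led Lsl_gt (LP (LK LD1_c10 LD2_c37 LD3_c44)) = (LP (LK LD1_c9 LD2_c40 LD3_c41)) :=
  Lgr Lrot131 (Lpe (f265804 IH) (Lpr_dt (f265807 IH) (Lpr_gf (f292001 IH) (Lpe (K20.f259554 IH) (Lpe (K16.f259548 IH) (Lpr_ef (K9.f49243 IH) (Lpr_dt (K12.f49256 IH) (Lpe (K12.f217356 IH) (Lpe (K12.f201196 IH) (Lpr_et (f201197 IH) (Lpn (LP (LK LD1_c9 LD2_c40 LD3_c41)))))))))))))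
theorem f331029 : Led Lsl_ft (LP (LK LD1_c9 LD2_c42 LD3_c0)) = (LP (LK LD1_c4 LD2_c55 LD3_c13)) :=
  Lre_f IH (LK LD1_c9 LD2_c42 LD3_c0) (LK LD1_c4 LD2_c55 LD3_c13) Lrfl Lrfl
theorem f331030 : Led Lsl_af (LP (LK LD1_c9 LD2_c40 LD3_c41)) = (LP (LK LD1_c4 LD2_c55 LD3_c13)) :=
  Lgr Lrot31 (Lpe (f292006 IH) (Lpr_gf (f331027 IH) (Lpr_ft (f331029 IH) (Lpn (LP (LK LD1_c4 LD2_c55 LD3_c13))))))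
theorem f254914 : Led Lsl_ct (LP (LK LD1_c4 LD2_c54 LD3_c33)) = (LP (LK LD1_c9 LD2_c40 LD3_c41)) :=
  Lre_c IH (LK LD1_c4 LD2_c54 LD3_c33) (LK LD1_c9 LD2_c40 LD3_c41) Lrfl Lrfl
theorem f310876 : Led Lsl_ct (LP (LK LD1_c16 LD2_c51 LD3_c12)) = (LP (LK LD1_c9 LD2_c1 LD3_c13)) :=
  Lre_c IH (LK LD1_c16 LD2_c51 LD3_c12) (LK LD1_c9 LD2_c1 LD3_c13) Lrfl Lrfl
theorem f331009 : Led Lsl_ft (LP (LK LD1_c9 LD2_c40 LD3_c41)) = (LP (LK LD1_c16 LD2_c51 LD3_c12)) :=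
  Lgr Lrot4 (Lpe (f254914 IH) (Lpr_ff (f331004 IH) (Lpe (f310876 IH) (Lpn (LP (LK LD1_c16 LD2_c51 LD3_c12))))))
theorem f331050 : Led Lsl_at (LP (LK LD1_c16 LD2_c51 LD3_c12)) = (LP (LK LD1_c9 LD2_c42 LD3_c0)) :=
  Lgr Lrot66 (Lpe (f331009 IH) (Lpr_af (f331030 IH) (Lpe (f331029 IH) (Lpn (LP (LK LD1_c9 LD2_c42 LD3_c0))))))
theorem f250542 : Led Lsl_df (LP (LK LD1_c8 LD2_c31 LD3_c58)) = (LP (LK LD1_c8 LD2_c26 LD3_c47)) :=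
  Lgr Lrot38 (Lpr_dt (f250536 IH) (Lpn (LP (LK LD1_c8 LD2_c26 LD3_c47))))
theorem f250549 : Led Lsl_bt (LP (LK LD1_c9 LD2_c41 LD3_c51)) = (LP (LK LD1_c8 LD2_c26 LD3_c47)) :=
  Lgr Lrot95 (Lpe (K20.f246774 IH) (Lpe (K20.f246776 IH) (Lpr_df (f250542 IH) (Lpn (LP (LK LD1_c8 LD2_c26 LD3_c47))))))
theorem f322651 : Led Lsl_ct (LP (LK LD1_c9 LD2_c41 LD3_c51)) = (LP (LK LD1_c10 LD2_c31 LD3_c21)) :=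
  Lgr Lrot59 (Lpr_cf (K20.f322649 IH) (Lpn (LP (LK LD1_c10 LD2_c31 LD3_c21))))
theorem f169173 : Led Lsl_bf (LP (LK LD1_c2 LD2_c38 LD3_c20)) = (LP (LK LD1_c2 LD2_c36 LD3_c59)) :=
  Lgr Lrot24 (Lpr_bt (K15.f169169 IH) (Lpn (LP (LK LD1_c2 LD2_c36 LD3_c59))))
theorem f169247 : Led Lsl_gt (LP (LK LD1_c2 LD2_c38 LD3_c20)) = (LP (LK LD1_c5 LD2_c23 LD3_c35)) :=
  Lre_g IH (LK LD1_c2 LD2_c38 LD3_c20) (LK LD1_c5 LD2_c23 LD3_c35) Lrfl Lrfl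
theorem f169251 : Led Lsl_ct (LP (LK LD1_c5 LD2_c23 LD3_c35)) = (LP (LK LD1_c10 LD2_c37 LD3_c41)) :=
  Lre_c IH (LK LD1_c5 LD2_c23 LD3_c35) (LK LD1_c10 LD2_c37 LD3_c41) Lrfl Lrfl
theorem f329481 : Led Lsl_gt (LP (LK LD1_c10 LD2_c37 LD3_c41)) = (LP (LK LD1_c9 LD2_c42 LD3_c0)) :=
  Lgr Lrot149 (Lpe (f169251 IH) (Lpe (f169247 IH) (Lpr_bf (f169173 IH) (Lpr_ct (K20.f169177 IH) (Lpe (K20.f169210 IH) (Lpe (f322651 IH) (Lpr_bt (f250549 IH) (Lpr_gf (f329477 IH) (Lpe (f310865 IH) (Lpr_ct (f310868 IH) (Lpn (LP (LK LD1_c9 LD2_c42 LD3_c0)))))))))))))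
theorem f331054 : Led Lsl_gt (LP (LK LD1_c9 LD2_c40 LD3_c41)) = (LP (LK LD1_c10 LD2_c37 LD3_c41)) :=
  Lgr Lrot5 (Lpr_ft (f331009 IH) (Lpr_at (f331050 IH) (Lpe (f329481 IH) (Lpn (LP (LK LD1_c10 LD2_c37 LD3_c41))))))
theorem f273865 : Led Lsl_cf (LP (LK LD1_c10 LD2_c43 LD3_c33)) = (LP (LK LD1_c8 LD2_c18 LD3_c10)) :=
  Lgr Lrot11 (Lpr_ct (K16.f273692 IH) (Lpn (LP (LK LD1_c8 LD2_c18 LD3_c10))))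
theorem f300937 : Led Lsl_gf (LP (LK LD1_c10 LD2_c43 LD3_c33)) = (LP (LK LD1_c5 LD2_c30 LD3_c9)) :=
  Lgr Lrot76 (Lpe (K16.f273672 IH) (Lpr_ff (K18.f300933 IH) (Lpr_gt (K18.f245820 IH) (Lpn (LP (LK LD1_c5 LD2_c30 LD3_c9))))))
theorem f298837 : Led Lsl_gt (LP (LK LD1_c5 LD2_c29 LD3_c28)) = (LP (LK LD1_c2 LD2_c41 LD3_c24)) :=
  Lre_g IH (LK LD1_c5 LD2_c29 LD3_c28) (LK LD1_c2 LD2_c41 LD3_c24) Lrfl Lrfl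
theorem f331058 : Led Lsl_bf (LP (LK LD1_c5 LD2_c29 LD3_c28)) = (LP (LK LD1_c5 LD2_c23 LD3_c35)) :=
  Lgr Lrot165 (Lpr_gt (f298837 IH) (Lpr_ct (K18.f245819 IH) (Lpe (f300937 IH) (Lpr_cf (f273865 IH) (Lpe (K16.f273879 IH) (Lpe (K20.f321354 IH) (Lpe (K16.f254906 IH) (Lpr_ct (f254914 IH) (Lpr_gt (f331054 IH) (Lpe (f169251 IH) (Lpn (LP (LK LD1_c5 LD2_c23 LD3_c35)))))))))))))
theorem f331060 : Led Lsl_bt (LP (LK LD1_c5 LD2_c29 LD3_c28)) = (LP (LK LD1_c5 LD2_c23 LD3_c35)) :=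
  Lgr Lrot127 (Lpr_bf (f331058 IH) (Lpn (LP (LK LD1_c5 LD2_c23 LD3_c35))))
theorem f282906 : Led Lsl_ct (LP (LK LD1_c5 LD2_c29 LD3_c28)) = (LP (LK LD1_c10 LD2_c50 LD3_c16)) :=
  Lre_c IH (LK LD1_c5 LD2_c29 LD3_c28) (LK LD1_c10 LD2_c50 LD3_c16) Lrfl Lrfl
theorem f326362 : Led Lsl_bf (LP (LK LD1_c15 LD2_c23 LD3_c9)) = (LP (LK LD1_c8 LD2_c18 LD3_c12)) :=
  Lgr Lrot24 (Lpr_bt (f326358 IH) (Lpn (LP (LK LD1_c8 LD2_c18 LD3_c12))))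
theorem f331178 : Led Lsl_gt (LP (LK LD1_c10 LD2_c50 LD3_c16)) = (LP (LK LD1_c15 LD2_c36 LD3_c48)) :=
  Lgr Lrot65 (Lpe (f282906 IH) (Lpr_bt (f331060 IH) (Lpe (f169247 IH) (Lpr_bf (f169173 IH) (Lpr_ct (K20.f169177 IH) (Lpe (K20.f169210 IH) (Lpe (f322651 IH) (Lpe (f326379 IH) (Lpr_bf (f326362 IH) (Lpr_ct (K20.f317558 IH) (Lpn (LP (LK LD1_c15 LD2_c36 LD3_c48)))))))))))))
theorem f263171 : Led Lsl_gt (LP (LK LD1_c2 LD2_c40 LD3_c60)) = (LP (LK LD1_c5 LD2_c29 LD3_c28)) :=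
  Lre_g IH (LK LD1_c2 LD2_c40 LD3_c60) (LK LD1_c5 LD2_c29 LD3_c28) Lrfl Lrfl
theorem f323397 : Led Lsl_gt (LP (LK LD1_c4 LD2_c15 LD3_c38)) = (LP (LK LD1_c8 LD2_c30 LD3_c14)) :=
  Lre_g IH (LK LD1_c4 LD2_c15 LD3_c38) (LK LD1_c8 LD2_c30 LD3_c14) Lrfl Lrfl
theorem f323408 : Led Lsl_ct (LP (LK LD1_c8 LD2_c30 LD3_c14)) = (LP (LK LD1_c15 LD2_c58 LD3_c10)) :=
  Lre_c IH (LK LD1_c8 LD2_c30 LD3_c14) (LK LD1_c15 LD2_c58 LD3_c10) Lrfl Lrfl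
theorem f274560 : Led Lsl_ef (LP (LK LD1_c4 LD2_c9 LD3_c27)) = (LP (LK LD1_c2 LD2_c39 LD3_c30)) :=
  Lgr Lrot29 (Lpe (K20.f238555 IH) (Lpr_et (K15.f238562 IH) (Lpr_bt (K16.f274556 IH) (Lpn (LP (LK LD1_c2 LD2_c39 LD3_c30))))))
theorem f220176 : Led Lsl_et (LP (LK LD1_c11 LD2_c55 LD3_c35)) = (LP (LK LD1_c6 LD2_c6 LD3_c2)) :=
  Lre_e IH (LK LD1_c11 LD2_c55 LD3_c35) (LK LD1_c6 LD2_c6 LD3_c2) Lrfl Lrfl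
theorem f323405 : Led Lsl_dt (LP (LK LD1_c11 LD2_c55 LD3_c35)) = (LP (LK LD1_c8 LD2_c30 LD3_c14)) :=
  Lgr Lrot56 (Lpr_et (f220176 IH) (Lpr_gt (K17.f220169 IH) (Lpe (K17.f220166 IH) (Lpe (K14.f251267 IH) (Lpr_gt (K13.f175065 IH) (Lpr_df (K16.f246263 IH) (Lpe (f274560 IH) (Lpr_gt (f323369 IH) (Lpr_dt (f295755 IH) (Lpr_gt (f323397 IH) (Lpn (LP (LK LD1_c8 LD2_c30 LD3_c14)))))))))))))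
theorem f220193 : Led Lsl_et (LP (LK LD1_c6 LD2_c6 LD3_c2)) = (LP (LK LD1_c11 LD2_c55 LD3_c35)) :=
  Lre_e IH (LK LD1_c6 LD2_c6 LD3_c2) (LK LD1_c11 LD2_c55 LD3_c35) Lrfl Lrfl
theorem f323412 : Led Lsl_ef (LP (LK LD1_c8 LD2_c32 LD3_c38)) = (LP (LK LD1_c8 LD2_c30 LD3_c14)) :=
  Lgr Lrot73 (Lpr_dt (f1362 IH) (Lpr_et (f48958 IH) (Lpr_dt (K17.f220180 IH) (Lpr_et (f220193 IH) (Lpr_dt (f323405 IH) (Lpn (LP (LK LD1_c8 LD2_c30 LD3_c14))))))))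
theorem f323420 : Led Lsl_et (LP (LK LD1_c8 LD2_c32 LD3_c38)) = (LP (LK LD1_c8 LD2_c30 LD3_c14)) :=
  Lgr Lrot87 (Lpr_ef (f323412 IH) (Lpn (LP (LK LD1_c8 LD2_c30 LD3_c14))))
theorem f562 : Led Lsl_gf (LP (LK LD1_c4 LD2_c8 LD3_c27)) = (LP (LK LD1_c4 LD2_c16 LD3_c39)) :=
  Lgr Lrot76 (Lpe (K9.f547 IH) (Lpr_ff (K1.f539 IH) (Lpr_gt (K17.f561 IH) (Lpn (LP (LK LD1_c4 LD2_c16 LD3_c39))))))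
theorem f295013 : Led Lsl_gf (LP (LK LD1_c8 LD2_c28 LD3_c50)) = (LP (LK LD1_c5 LD2_c26 LD3_c29)) :=
  Lgr Lrot47 (Lpr_gt (K17.f231680 IH) (Lpr_af (K18.f295001 IH) (Lpe (K18.f285723 IH) (Lpn (LP (LK LD1_c5 LD2_c26 LD3_c29))))))
theorem f294988 : Led Lsl_df (LP (LK LD1_c5 LD2_c26 LD3_c29)) = (LP (LK LD1_c4 LD2_c9 LD3_c10)) :=
  Lgr Lrot38 (Lpr_dt (K18.f294982 IH) (Lpn (LP (LK LD1_c4 LD2_c9 LD3_c10))))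
theorem f245807 : Led Lsl_ct (LP (LK LD1_c5 LD2_c30 LD3_c17)) = (LP (LK LD1_c10 LD2_c51 LD3_c61)) :=
  Lre_c IH (LK LD1_c5 LD2_c30 LD3_c17) (LK LD1_c10 LD2_c51 LD3_c61) Lrfl Lrfl
theorem f294994 : Led Lsl_ct (LP (LK LD1_c8 LD2_c18 LD3_c24)) = (LP (LK LD1_c4 LD2_c9 LD3_c10)) :=
  Lre_c IH (LK LD1_c8 LD2_c18 LD3_c24) (LK LD1_c4 LD2_c9 LD3_c10) Lrfl Lrfl
theorem f295823 : Led Lsl_ef (LP (LK LD1_c5 LD2_c30 LD3_c17)) = (LP (LK LD1_c4 LD2_c9 LD3_c10)) :=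
  Lgr Lrot28 (Lpr_ct (f245807 IH) (Lpr_et (K18.f295821 IH) (Lpr_ct (f294994 IH) (Lpn (LP (LK LD1_c4 LD2_c9 LD3_c10))))))
theorem f323424 : Led Lsl_gf (LP (LK LD1_c5 LD2_c30 LD3_c17)) = (LP (LK LD1_c8 LD2_c30 LD3_c14)) :=
  Lgr Lrot141 (Lpr_ef (f295823 IH) (Lpe (f294988 IH) (Lpe (f295013 IH) (Lpe (K17.f283167 IH) (Lpr_et (K17.f571 IH) (Lpe (f562 IH) (Lpe (K14.f51456 IH) (Lpr_gt (K17.f1348 IH) (Lpe (f1362 IH) (Lpr_et (f323420 IH) (Lpn (LP (LK LD1_c8 LD2_c30 LD3_c14)))))))))))))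
theorem f295740 : Led Lsl_dt (LP (LK LD1_c5 LD2_c30 LD3_c17)) = (LP (LK LD1_c2 LD2_c41 LD3_c24)) :=
  Lre_d IH (LK LD1_c5 LD2_c30 LD3_c17) (LK LD1_c2 LD2_c41 LD3_c24) Lrfl Lrfl
theorem f245760 : Led Lsl_at (LP (LK LD1_c1 LD2_c17 LD3_c20)) = (LP (LK LD1_c2 LD2_c40 LD3_c60)) :=
  Lre_a IH (LK LD1_c1 LD2_c17 LD3_c20) (LK LD1_c2 LD2_c40 LD3_c60) Lrfl Lrfl
theorem f298823 : Led Lsl_ft (LP (LK LD1_c2 LD2_c41 LD3_c24)) = (LP (LK LD1_c1 LD2_c17 LD3_c20)) :=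
  Lre_f IH (LK LD1_c2 LD2_c41 LD3_c24) (LK LD1_c1 LD2_c17 LD3_c20) Lrfl Lrfl
theorem f323395 : Led Lsl_gf (LP (LK LD1_c4 LD2_c9 LD3_c27)) = (LP (LK LD1_c2 LD2_c41 LD3_c24)) :=
  Lgr Lrot47 (Lpr_gt (f323369 IH) (Lpe (f245760 IH) (Lpe (f298823 IH) (Lpn (LP (LK LD1_c2 LD2_c41 LD3_c24))))))
theorem f234472 : Led Lsl_dt (LP (LK LD1_c4 LD2_c9 LD3_c27)) = (LP (LK LD1_c2 LD2_c2 LD3_c1)) :=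
  Lre_d IH (LK LD1_c4 LD2_c9 LD3_c27) (LK LD1_c2 LD2_c2 LD3_c1) Lrfl Lrfl
theorem f234470 : Led Lsl_dt (LP (LK LD1_c8 LD2_c18 LD3_c50)) = (LP (LK LD1_c4 LD2_c9 LD3_c22)) :=
  Lre_d IH (LK LD1_c8 LD2_c18 LD3_c50) (LK LD1_c4 LD2_c9 LD3_c22) Lrfl Lrfl
theorem f234454 : Led Lsl_gt (LP (LK LD1_c15 LD2_c38 LD3_c19)) = (LP (LK LD1_c8 LD2_c18 LD3_c50)) :=
  Lre_g IH (LK LD1_c15 LD2_c38 LD3_c19) (LK LD1_c8 LD2_c18 LD3_c50) Lrfl Lrfl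
theorem f234448 : Led Lsl_gt (LP (LK LD1_c4 LD2_c9 LD3_c9)) = (LP (LK LD1_c8 LD2_c18 LD3_c20)) :=
  Lre_g IH (LK LD1_c4 LD2_c9 LD3_c9) (LK LD1_c8 LD2_c18 LD3_c20) Lrfl Lrfl
theorem f234451 : Led Lsl_et (LP (LK LD1_c15 LD2_c37 LD3_c16)) = (LP (LK LD1_c8 LD2_c18 LD3_c20)) :=
  Lre_e IH (LK LD1_c15 LD2_c37 LD3_c16) (LK LD1_c8 LD2_c18 LD3_c20) Lrfl Lrfl
theorem f234452 : Led Lsl_et (LP (LK LD1_c4 LD2_c9 LD3_c22)) = (LP (LK LD1_c2 LD2_c1 LD3_c61)) :=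
  Lre_e IH (LK LD1_c4 LD2_c9 LD3_c22) (LK LD1_c2 LD2_c1 LD3_c61) Lrfl Lrfl
theorem f234453 : Led Lsl_dt (LP (LK LD1_c4 LD2_c9 LD3_c22)) = (LP (LK LD1_c8 LD2_c18 LD3_c50)) :=
  Lre_d IH (LK LD1_c4 LD2_c9 LD3_c22) (LK LD1_c8 LD2_c18 LD3_c50) Lrfl Lrfl
theorem f234455 : Led Lsl_dt (LP (LK LD1_c15 LD2_c37 LD3_c16)) = (LP (LK LD1_c15 LD2_c38 LD3_c19)) :=
  Lgr Lrot136 (Lpr_et (f234451 IH) (Lpe (f234448 IH) (Lpe (f234350 IH) (Lpr_dt (K15.f233915 IH) (Lpr_gf (K15.f234441 IH) (Lpe (K15.f234432 IH) (Lpe (K12.f167241 IH) (Lpe (f234452 IH) (Lpr_dt (f234453 IH) (Lpe (f234454 IH) (Lpn (LP (LK LD1_c15 LD2_c38 LD3_c19)))))))))))))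
theorem f323414 : Led Lsl_ct (LP (LK LD1_c15 LD2_c58 LD3_c10)) = (LP (LK LD1_c8 LD2_c30 LD3_c14)) :=
  Lre_c IH (LK LD1_c15 LD2_c58 LD3_c10) (LK LD1_c8 LD2_c30 LD3_c14) Lrfl Lrfl
theorem f323426 : Led Lsl_gf (LP (LK LD1_c15 LD2_c37 LD3_c16)) = (LP (LK LD1_c15 LD2_c58 LD3_c10)) :=
  Lgr Lrot144 (Lpr_dt (f234455 IH) (Lpr_gt (f234454 IH) (Lpr_dt (f234470 IH) (Lpe (K20.f234471 IH) (Lpe (f234472 IH) (Lpr_gf (f323395 IH) (Lpe (f295740 IH) (Lpr_gf (f323424 IH) (Lpe (f323414 IH) (Lpn (LP (LK LD1_c15 LD2_c58 LD3_c10))))))))))))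
theorem f317553 : Led Lsl_ct (LP (LK LD1_c15 LD2_c36 LD3_c48)) = (LP (LK LD1_c8 LD2_c18 LD3_c12)) :=
  Lre_c IH (LK LD1_c15 LD2_c36 LD3_c48) (LK LD1_c8 LD2_c18 LD3_c12) Lrfl Lrfl
theorem f331180 : Led Lsl_ct (LP (LK LD1_c15 LD2_c37 LD3_c16)) = (LP (LK LD1_c15 LD2_c36 LD3_c53)) :=
  Lgr Lrot110 (Lpr_gf (f323426 IH) (Lpe (f323408 IH) (Lpe (f323397 IH) (Lpe (f295755 IH) (Lpr_gt (f263171 IH) (Lpr_ct (f282906 IH) (Lpr_gt (f331178 IH) (Lpr_ct (f317553 IH) (Lpe (K20.f317554 IH) (Lpn (LP (LK LD1_c15 LD2_c36 LD3_c53))))))))))))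
theorem f229597 : Led Lsl_ct (LP (LK LD1_c8 LD2_c18 LD3_c11)) = (LP (LK LD1_c15 LD2_c36 LD3_c52)) :=
  Lre_c IH (LK LD1_c8 LD2_c18 LD3_c11) (LK LD1_c15 LD2_c36 LD3_c52) Lrfl Lrfl
theorem f331186 : Led Lsl_ff (LP (LK LD1_c15 LD2_c37 LD3_c16)) = (LP (LK LD1_c15 LD2_c36 LD3_c52)) :=
  Lgr Lrot23 (Lpr_ct (f331180 IH) (Lpr_ft (K20.f229609 IH) (Lpr_ct (f229597 IH) (Lpn (LP (LK LD1_c15 LD2_c36 LD3_c52))))))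
theorem f331194 : Led Lsl_ft (LP (LK LD1_c15 LD2_c37 LD3_c16)) = (LP (LK LD1_c15 LD2_c36 LD3_c52)) :=
  Lgr Lrot48 (Lpr_ff (f331186 IH) (Lpn (LP (LK LD1_c15 LD2_c36 LD3_c52))))
theorem f234464 : Led Lsl_et (LP (LK LD1_c8 LD2_c18 LD3_c20)) = (LP (LK LD1_c15 LD2_c37 LD3_c16)) :=
  Lre_e IH (LK LD1_c8 LD2_c18 LD3_c20) (LK LD1_c15 LD2_c37 LD3_c16) Lrfl Lrfl
theorem f190851 : Led Lsl_et (LP (LK LD1_c15 LD2_c36 LD3_c52)) = (LP (LK LD1_c8 LD2_c18 LD3_c13)) :=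
  Lre_e IH (LK LD1_c15 LD2_c36 LD3_c52) (LK LD1_c8 LD2_c18 LD3_c13) Lrfl Lrfl
theorem f317655 : Led Lsl_ff (LP (LK LD1_c4 LD2_c15 LD3_c42)) = (LP (LK LD1_c8 LD2_c18 LD3_c13)) :=
  Lgr Lrot23 (Lpe (f295108 IH) (Lpr_ft (K20.f317651 IH) (Lpr_ct (K15.f190839 IH) (Lpn (LP (LK LD1_c8 LD2_c18 LD3_c13))))))
theorem f295110 : Led Lsl_et (LP (LK LD1_c4 LD2_c15 LD3_c42)) = (LP (LK LD1_c8 LD2_c30 LD3_c25)) :=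
  Lre_e IH (LK LD1_c4 LD2_c15 LD3_c42) (LK LD1_c8 LD2_c30 LD3_c25) Lrfl Lrfl
theorem f331200 : Led Lsl_ff (LP (LK LD1_c8 LD2_c18 LD3_c20)) = (LP (LK LD1_c8 LD2_c30 LD3_c25)) :=
  Lgr Lrot72 (Lpr_et (f234464 IH) (Lpr_ft (f331194 IH) (Lpr_et (f190851 IH) (Lpe (f317655 IH) (Lpr_et (f295110 IH) (Lpn (LP (LK LD1_c8 LD2_c30 LD3_c25))))))))
theorem f234449 : Led Lsl_dt (LP (LK LD1_c8 LD2_c18 LD3_c20)) = (LP (LK LD1_c15 LD2_c37 LD3_c15)) :=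
  Lre_d IH (LK LD1_c8 LD2_c18 LD3_c20) (LK LD1_c15 LD2_c37 LD3_c15) Lrfl Lrfl
theorem f328413 : Led Lsl_dt (LP (LK LD1_c15 LD2_c58 LD3_c29)) = (LP (LK LD1_c8 LD2_c30 LD3_c25)) :=
  Lre_d IH (LK LD1_c15 LD2_c58 LD3_c29) (LK LD1_c8 LD2_c30 LD3_c25) Lrfl Lrfl
theorem f331207 : Led Lsl_ft (LP (LK LD1_c15 LD2_c37 LD3_c15)) = (LP (LK LD1_c15 LD2_c58 LD3_c29)) :=
  Lgr Lrot54 (Lpe (f234449 IH) (Lpr_ff (f331200 IH) (Lpe (f328413 IH) (Lpn (LP (LK LD1_c15 LD2_c58 LD3_c29))))))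
theorem f331213 : Led Lsl_ff (LP (LK LD1_c15 LD2_c37 LD3_c15)) = (LP (LK LD1_c15 LD2_c58 LD3_c29)) :=
  Lgr Lrot3 (Lpr_ft (f331207 IH) (Lpn (LP (LK LD1_c15 LD2_c58 LD3_c29))))
theorem f263722 : Led Lsl_ct (LP (LK LD1_c10 LD2_c50 LD3_c39)) = (LP (LK LD1_c8 LD2_c29 LD3_c21)) :=
  Lgr Lrot15 (Lpr_ef (f263717 IH) (Lpr_cf (K15.f257205 IH) (Lpe (f54489 IH) (Lpn (LP (LK LD1_c8 LD2_c29 LD3_c21))))))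
theorem f331220 : Led Lsl_at (LP (LK LD1_c15 LD2_c37 LD3_c15)) = (LP (LK LD1_c19 LD2_c36 LD3_c6)) :=
  Lgr Lrot33 (Lpr_ff (f331213 IH) (Lpr_dt (f328413 IH) (Lpe (f328410 IH) (Lpr_dt (f263716 IH) (Lpr_ct (f263722 IH) (Lpr_dt (f54490 IH) (Lpr_ct (f250941 IH) (Lpr_dt (f328261 IH) (Lpr_ct (f283207 IH) (Lpn (LP (LK LD1_c19 LD2_c36 LD3_c6))))))))))))
theorem f331226 : Led Lsl_af (LP (LK LD1_c8 LD2_c18 LD3_c20)) = (LP (LK LD1_c10 LD2_c50 LD3_c36)) :=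
  Lgr Lrot117 (Lpr_dt (f234449 IH) (Lpr_at (f331220 IH) (Lpr_dt (f283208 IH) (Lpn (LP (LK LD1_c10 LD2_c50 LD3_c36))))))
theorem f234351 : Led Lsl_gt (LP (LK LD1_c8 LD2_c18 LD3_c21)) = (LP (LK LD1_c4 LD2_c9 LD3_c9)) :=
  Lre_g IH (LK LD1_c8 LD2_c18 LD3_c21) (LK LD1_c4 LD2_c9 LD3_c9) Lrfl Lrfl
theorem f331243 : Led Lsl_ft (LP (LK LD1_c8 LD2_c18 LD3_c21)) = (LP (LK LD1_c10 LD2_c50 LD3_c36)) :=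
  Lgr Lrot2 (Lpr_gt (f234351 IH) (Lpr_gt (f234448 IH) (Lpr_af (f331226 IH) (Lpn (LP (LK LD1_c10 LD2_c50 LD3_c36))))))
theorem f331256 : Led Lsl_ff (LP (LK LD1_c8 LD2_c18 LD3_c21)) = (LP (LK LD1_c10 LD2_c50 LD3_c36)) :=
  Lgr Lrot3 (Lpr_ft (f331243 IH) (Lpn (LP (LK LD1_c10 LD2_c50 LD3_c36))))
theorem f331237 : Led Lsl_at (LP (LK LD1_c8 LD2_c18 LD3_c20)) = (LP (LK LD1_c10 LD2_c50 LD3_c36)) :=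
  Lgr Lrot100 (Lpr_af (f331226 IH) (Lpn (LP (LK LD1_c10 LD2_c50 LD3_c36))))
theorem f331258 : Led Lsl_at (LP (LK LD1_c8 LD2_c18 LD3_c21)) = (LP (LK LD1_c8 LD2_c30 LD3_c25)) :=
  Lgr Lrot66 (Lpr_ff (f331256 IH) (Lpe (f331237 IH) (Lpr_ff (f331200 IH) (Lpn (LP (LK LD1_c8 LD2_c30 LD3_c25))))))
theorem f331269 : Led Lsl_gf (LP (LK LD1_c8 LD2_c18 LD3_c23)) = (LP (LK LD1_c10 LD2_c50 LD3_c36)) :=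
  Lgr Lrot47 (Lpr_gt (f328426 IH) (Lpe (f331258 IH) (Lpr_ff (f331256 IH) (Lpn (LP (LK LD1_c10 LD2_c50 LD3_c36))))))
theorem f323203 : Led Lsl_bt (LP (LK LD1_c4 LD2_c9 LD3_c13)) = (LP (LK LD1_c8 LD2_c18 LD3_c4)) :=
  Lre_b IH (LK LD1_c4 LD2_c9 LD3_c13) (LK LD1_c8 LD2_c18 LD3_c4) Lrfl Lrfl
theorem f322286 : Led Lsl_bt (LP (LK LD1_c5 LD2_c29 LD3_c40)) = (LP (LK LD1_c8 LD2_c24 LD3_c22)) :=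
  Lgr Lrot127 (Lpr_bf (K20.f322284 IH) (Lpn (LP (LK LD1_c8 LD2_c24 LD3_c22))))
theorem f331275 : Led Lsl_gt (LP (LK LD1_c8 LD2_c18 LD3_c4)) = (LP (LK LD1_c8 LD2_c30 LD3_c47)) :=
  Lgr Lrot82 (Lpe (f323203 IH) (Lpr_ct (f323204 IH) (Lpr_gf (f331269 IH) (Lpe (f168514 IH) (Lpr_bt (f322286 IH) (Lpe (K20.f322272 IH) (Lpe (K15.f261140 IH) (Lpr_ct (K20.f254053 IH) (Lpe (K20.f310064 IH) (Lpr_cf (K20.f310042 IH) (Lpn (LP (LK LD1_c8 LD2_c30 LD3_c47)))))))))))))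
theorem f328854 : Led Lsl_ft (LP (LK LD1_c8 LD2_c18 LD3_c4)) = (LP (LK LD1_c4 LD2_c8 LD3_c60)) :=
  Lre_f IH (LK LD1_c8 LD2_c18 LD3_c4) (LK LD1_c4 LD2_c8 LD3_c60) Lrfl Lrfl
theorem f331279 : Led Lsl_at (LP (LK LD1_c4 LD2_c8 LD3_c60)) = (LP (LK LD1_c8 LD2_c17 LD3_c56)) :=
  Lre_a IH (LK LD1_c4 LD2_c8 LD3_c60) (LK LD1_c8 LD2_c17 LD3_c56) Lrfl Lrfl
theorem f331280 : Led Lsl_gf (LP (LK LD1_c8 LD2_c17 LD3_c56)) = (LP (LK LD1_c8 LD2_c30 LD3_c47)) :=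
  Lgr Lrot76 (Lpe (f331279 IH) (Lpe (f328854 IH) (Lpr_gt (f331275 IH) (Lpn (LP (LK LD1_c8 LD2_c30 LD3_c47))))))
theorem f283220 : Led Lsl_dt (LP (LK LD1_c4 LD2_c15 LD3_c53)) = (LP (LK LD1_c4 LD2_c53 LD3_c47)) :=
  Lgr Lrot79 (Lpr_bf (K17.f283216 IH) (Lpe (K13.f236441 IH) (Lpr_bf (K18.f236445 IH) (Lpn (LP (LK LD1_c4 LD2_c53 LD3_c47))))))
theorem f194263 : Led Lsl_et (LP (LK LD1_c4 LD2_c15 LD3_c4)) = (LP (LK LD1_c8 LD2_c29 LD3_c7)) :=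
  Lre_e IH (LK LD1_c4 LD2_c15 LD3_c4) (LK LD1_c8 LD2_c29 LD3_c7) Lrfl Lrfl
theorem f283239 : Led Lsl_df (LP (LK LD1_c8 LD2_c30 LD3_c47)) = (LP (LK LD1_c8 LD2_c29 LD3_c7)) :=
  Lgr Lrot70 (Lpr_et (K19.f220666 IH) (Lpr_dt (f283220 IH) (Lpr_et (K17.f283233 IH) (Lpr_dt (K17.f274464 IH) (Lpr_et (f194263 IH) (Lpn (LP (LK LD1_c8 LD2_c29 LD3_c7))))))))
theorem f256775 : Led Lsl_et (LP (LK LD1_c8 LD2_c20 LD3_c24)) = (LP (LK LD1_c4 LD2_c10 LD3_c5)) :=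
  Lre_e IH (LK LD1_c8 LD2_c20 LD3_c24) (LK LD1_c4 LD2_c10 LD3_c5) Lrfl Lrfl
theorem f331288 : Led Lsl_df (LP (LK LD1_c8 LD2_c17 LD3_c56)) = (LP (LK LD1_c8 LD2_c20 LD3_c24)) :=
  Lgr Lrot168 (Lpr_gf (f331280 IH) (Lpr_df (f283239 IH) (Lpr_et (K17.f54292 IH) (Lpe (K13.f54288 IH) (Lpe (K11.f54371 IH) (Lpr_dt (K10.f48044 IH) (Lpe (K15.f260990 IH) (Lpe (K15.f256774 IH) (Lpe (K18.f256772 IH) (Lpe (f256775 IH) (Lpn (LP (LK LD1_c8 LD2_c20 LD3_c24)))))))))))))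
theorem f331293 : Led Lsl_ft (LP (LK LD1_c15 LD2_c41 LD3_c52)) = (LP (LK LD1_c8 LD2_c20 LD3_c24)) :=
  Lre_f IH (LK LD1_c15 LD2_c41 LD3_c52) (LK LD1_c8 LD2_c20 LD3_c24) Lrfl Lrfl
theorem f331294 : Led Lsl_dt (LP (LK LD1_c15 LD2_c36 LD3_c24)) = (LP (LK LD1_c15 LD2_c41 LD3_c52)) :=
  Lgr Lrot60 (Lpe (K19.f219655 IH) (Lpr_df (f331288 IH) (Lpe (f331293 IH) (Lpn (LP (LK LD1_c15 LD2_c41 LD3_c52))))))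
theorem f331310 : Led Lsl_df (LP (LK LD1_c15 LD2_c36 LD3_c24)) = (LP (LK LD1_c15 LD2_c41 LD3_c52)) :=
  Lgr Lrot38 (Lpr_dt (f331294 IH) (Lpn (LP (LK LD1_c15 LD2_c41 LD3_c52))))
theorem f274479 : Led Lsl_ct (LP (LK LD1_c2 LD2_c37 LD3_c45)) = (LP (LK LD1_c2 LD2_c36 LD3_c36)) :=
  Lgr Lrot8 (Lpr_gt (K16.f274472 IH) (Lpr_dt (K15.f256096 IH) (Lpr_gt (K15.f257991 IH) (Lpr_dt (K15.f182097 IH) (Lpe (K9.f42478 IH) (Lpe (K16.f42170 IH) (Lpr_gf (K15.f256823 IH) (Lpe (K15.f184390 IH) (Lpr_gf (K16.f274440 IH) (Lpn (LP (LK LD1_c2 LD2_c36 LD3_c36))))))))))))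
theorem f283259 : Led Lsl_et (LP (LK LD1_c2 LD2_c38 LD3_c23)) = (LP (LK LD1_c2 LD2_c37 LD3_c45)) :=
  Lgr Lrot158 (Lpe (K19.f283258 IH) (Lpr_ef (K17.f283253 IH) (Lpe (f274479 IH) (Lpn (LP (LK LD1_c2 LD2_c37 LD3_c45))))))
theorem f274483 : Led Lsl_dt (LP (LK LD1_c2 LD2_c37 LD3_c45)) = (LP (LK LD1_c2 LD2_c58 LD3_c39)) :=
  Lgr Lrot6 (Lpr_gt (K16.f274472 IH) (Lpr_ct (K15.f257984 IH) (Lpr_gt (K15.f258003 IH) (Lpr_ct (K10.f169265 IH) (Lpr_df (K10.f187301 IH) (Lpe (K16.f187303 IH) (Lpr_gf (K16.f194329 IH) (Lpr_cf (K9.f183502 IH) (Lpr_gf (K15.f194191 IH) (Lpn (LP (LK LD1_c2 LD2_c58 LD3_c39))))))))))))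
theorem f311391 : Led Lsl_df (LP (LK LD1_c8 LD2_c18 LD3_c3)) = (LP (LK LD1_c6 LD2_c4 LD3_c57)) :=
  Lgr Lrot70 (Lpr_et (K19.f311385 IH) (Lpe (K19.f300725 IH) (Lpr_et (f283259 IH) (Lpr_dt (f274483 IH) (Lpr_et (K17.f274487 IH) (Lpn (LP (LK LD1_c6 LD2_c4 LD3_c57))))))))
theorem f192219 : Led Lsl_gt (LP (LK LD1_c8 LD2_c6 LD3_c41)) = (LP (LK LD1_c15 LD2_c16 LD3_c23)) :=
  Lre_g IH (LK LD1_c8 LD2_c6 LD3_c41) (LK LD1_c15 LD2_c16 LD3_c23) Lrfl Lrfl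
theorem f331316 : Led Lsl_ef (LP (LK LD1_c15 LD2_c16 LD3_c23)) = (LP (LK LD1_c15 LD2_c41 LD3_c52)) :=
  Lgr Lrot17 (Lpe (f192219 IH) (Lpe (K18.f192218 IH) (Lpr_dt (K15.f192217 IH) (Lpr_gf (K15.f192207 IH) (Lpe (K10.f45608 IH) (Lpr_gf (K15.f194191 IH) (Lpe (K17.f194196 IH) (Lpe (f311391 IH) (Lpe (K19.f219695 IH) (Lpr_df (f331310 IH) (Lpn (LP (LK LD1_c15 LD2_c41 LD3_c52)))))))))))))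
theorem f331322 : Led Lsl_et (LP (LK LD1_c15 LD2_c16 LD3_c23)) = (LP (LK LD1_c15 LD2_c41 LD3_c52)) :=
  Lgr Lrot87 (Lpr_ef (f331316 IH) (Lpn (LP (LK LD1_c15 LD2_c41 LD3_c52))))
theorem f187176 : Led Lsl_ft (LP (LK LD1_c8 LD2_c39 LD3_c57)) = (LP (LK LD1_c16 LD2_c13 LD3_c43)) :=
  Lre_f IH (LK LD1_c8 LD2_c39 LD3_c57) (LK LD1_c16 LD2_c13 LD3_c43) Lrfl Lrfl
theorem f311469 : Led Lsl_et (LP (LK LD1_c16 LD2_c13 LD3_c43)) = (LP (LK LD1_c10 LD2_c33 LD3_c2)) :=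
  Lgr Lrot69 (Lpe (f187176 IH) (Lpe (K14.f187127 IH) (Lpr_ff (K19.f311461 IH) (Lpe (K20.f43945 IH) (Lpe (K14.f190465 IH) (Lpn (LP (LK LD1_c10 LD2_c33 LD3_c2))))))))
theorem f331326 : Led Lsl_df (LP (LK LD1_c15 LD2_c16 LD3_c23)) = (LP (LK LD1_c10 LD2_c33 LD3_c2)) :=
  Lgr Lrot70 (Lpr_et (f331322 IH) (Lpe (f331310 IH) (Lpe (K19.f219656 IH) (Lpr_dt (K19.f187145 IH) (Lpr_et (f311469 IH) (Lpn (LP (LK LD1_c10 LD2_c33 LD3_c2))))))))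
theorem f189537 : Led Lsl_et (LP (LK LD1_c5 LD2_c19 LD3_c0)) = (LP (LK LD1_c2 LD2_c36 LD3_c6)) :=
  Lre_e IH (LK LD1_c5 LD2_c19 LD3_c0) (LK LD1_c2 LD2_c36 LD3_c6) Lrfl Lrfl
theorem f254523 : Led Lsl_gt (LP (LK LD1_c8 LD2_c31 LD3_c34)) = (LP (LK LD1_c4 LD2_c16 LD3_c13)) :=
  Lre_g IH (LK LD1_c8 LD2_c31 LD3_c34) (LK LD1_c4 LD2_c16 LD3_c13) Lrfl Lrfl
theorem f187137 : Led Lsl_bt (LP (LK LD1_c16 LD2_c13 LD3_c43)) = (LP (LK LD1_c15 LD2_c14 LD3_c32)) :=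
  Lgr Lrot127 (Lpr_bf (K14.f187135 IH) (Lpn (LP (LK LD1_c15 LD2_c14 LD3_c32))))
theorem f320835 : Led Lsl_ef (LP (LK LD1_c16 LD2_c13 LD3_c43)) = (LP (LK LD1_c10 LD2_c33 LD3_c2)) :=
  Lgr Lrot29 (Lpr_bt (f187137 IH) (Lpr_et (K20.f320831 IH) (Lpe (K14.f190467 IH) (Lpn (LP (LK LD1_c10 LD2_c33 LD3_c2))))))
theorem f47650 : Led Lsl_gt (LP (LK LD1_c10 LD2_c21 LD3_c7)) = (LP (LK LD1_c5 LD2_c15 LD3_c53)) :=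
  Lre_g IH (LK LD1_c10 LD2_c21 LD3_c7) (LK LD1_c5 LD2_c15 LD3_c53) Lrfl Lrfl
theorem f311423 : Led Lsl_gt (LP (LK LD1_c16 LD2_c13 LD3_c43)) = (LP (LK LD1_c10 LD2_c21 LD3_c7)) :=
  Lgr Lrot5 (Lpr_ft (K14.f187134 IH) (Lpr_at (K19.f311413 IH) (Lpe (f47650 IH) (Lpn (LP (LK LD1_c10 LD2_c21 LD3_c7))))))
theorem f331334 : Led Lsl_df (LP (LK LD1_c8 LD2_c31 LD3_c34)) = (LP (LK LD1_c10 LD2_c21 LD3_c7)) :=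
  Lgr Lrot135 (Lpr_gt (f254523 IH) (Lpe (K16.f254520 IH) (Lpr_et (f189537 IH) (Lpr_gt (K15.f28266 IH) (Lpe (K19.f192243 IH) (Lpe (K15.f192233 IH) (Lpr_gt (f192219 IH) (Lpr_df (f331326 IH) (Lpe (f320835 IH) (Lpr_gt (f311423 IH) (Lpn (LP (LK LD1_c10 LD2_c21 LD3_c7)))))))))))))
theorem f185447 : Led Lsl_bt (LP (LK LD1_c1 LD2_c14 LD3_c58)) = (LP (LK LD1_c2 LD2_c35 LD3_c51)) :=
  Lre_b IH (LK LD1_c1 LD2_c14 LD3_c58) (LK LD1_c2 LD2_c35 LD3_c51) Lrfl Lrfl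
theorem f185452 : Led Lsl_ct (LP (LK LD1_c5 LD2_c18 LD3_c23)) = (LP (LK LD1_c10 LD2_c26 LD3_c33)) :=
  Lre_c IH (LK LD1_c5 LD2_c18 LD3_c23) (LK LD1_c10 LD2_c26 LD3_c33) Lrfl Lrfl
theorem f326897 : Led Lsl_bf (LP (LK LD1_c5 LD2_c9 LD3_c0)) = (LP (LK LD1_c2 LD2_c32 LD3_c25)) :=
  Lgr Lrot24 (Lpr_bt (f326895 IH) (Lpn (LP (LK LD1_c2 LD2_c32 LD3_c25))))
theorem f258993 : Led Lsl_bt (LP (LK LD1_c15 LD2_c11 LD3_c25)) = (LP (LK LD1_c8 LD2_c4 LD3_c14)) :=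
  Lre_b IH (LK LD1_c15 LD2_c11 LD3_c25) (LK LD1_c8 LD2_c4 LD3_c14) Lrfl Lrfl
theorem f326937 : Led Lsl_gt (LP (LK LD1_c10 LD2_c26 LD3_c33)) = (LP (LK LD1_c10 LD2_c28 LD3_c51)) :=
  Lgr Lrot149 (Lpe (f185452 IH) (Lpe (f185450 IH) (Lpe (f185447 IH) (Lpe (K15.f185190 IH) (Lpr_gf (f326926 IH) (Lpe (f326899 IH) (Lpe (f326897 IH) (Lpr_gf (f287226 IH) (Lpe (f258993 IH) (Lpe (K20.f258995 IH) (Lpn (LP (LK LD1_c10 LD2_c28 LD3_c51)))))))))))))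
theorem f325677 : Led Lsl_bt (LP (LK LD1_c5 LD2_c18 LD3_c23)) = (LP (LK LD1_c10 LD2_c26 LD3_c32)) :=
  Lre_b IH (LK LD1_c5 LD2_c18 LD3_c23) (LK LD1_c10 LD2_c26 LD3_c32) Lrfl Lrfl
theorem f259110 : Led Lsl_bf (LP (LK LD1_c5 LD2_c19 LD3_c11)) = (LP (LK LD1_c4 LD2_c2 LD3_c27)) :=
  Lgr Lrot93 (Lpe (K18.f246384 IH) (Lpr_bt (K19.f243943 IH) (Lpr_dt (K15.f259100 IH) (Lpn (LP (LK LD1_c4 LD2_c2 LD3_c27))))))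
theorem f326944 : Led Lsl_gf (LP (LK LD1_c10 LD2_c26 LD3_c32)) = (LP (LK LD1_c5 LD2_c19 LD3_c11)) :=
  Lgr Lrot124 (Lpe (f325677 IH) (Lpr_ct (f185452 IH) (Lpr_gt (f326937 IH) (Lpr_cf (K20.f258995 IH) (Lpr_bt (f258993 IH) (Lpe (f287226 IH) (Lpr_ct (f287229 IH) (Lpr_gt (f298574 IH) (Lpe (K19.f260058 IH) (Lpe (f259110 IH) (Lpn (LP (LK LD1_c5 LD2_c19 LD3_c11)))))))))))))
theorem f331338 : Led Lsl_ef (LP (LK LD1_c10 LD2_c26 LD3_c32)) = (LP (LK LD1_c10 LD2_c21 LD3_c7)) :=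
  Lgr Lrot17 (Lpr_gf (f326944 IH) (Lpe (K18.f193173 IH) (Lpr_dt (K14.f43966 IH) (Lpe (K15.f266124 IH) (Lpr_df (K15.f192228 IH) (Lpe (K15.f28266 IH) (Lpe (f189537 IH) (Lpr_dt (K16.f254520 IH) (Lpe (f254523 IH) (Lpr_df (f331334 IH) (Lpn (LP (LK LD1_c10 LD2_c21 LD3_c7)))))))))))))
theorem f331346 : Led Lsl_et (LP (LK LD1_c10 LD2_c26 LD3_c32)) = (LP (LK LD1_c10 LD2_c21 LD3_c7)) :=
  Lgr Lrot87 (Lpr_ef (f331338 IH) (Lpn (LP (LK LD1_c10 LD2_c21 LD3_c7))))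
theorem f244138 : Led Lsl_bt (LP (LK LD1_c2 LD2_c58 LD3_c38)) = (LP (LK LD1_c6 LD2_c4 LD3_c47)) :=
  Lre_b IH (LK LD1_c2 LD2_c58 LD3_c38) (LK LD1_c6 LD2_c4 LD3_c47) Lrfl Lrfl
theorem f251474 : Led Lsl_bt (LP (LK LD1_c10 LD2_c3 LD3_c7)) = (LP (LK LD1_c5 LD2_c6 LD3_c7)) :=
  Lre_b IH (LK LD1_c10 LD2_c3 LD3_c7) (LK LD1_c5 LD2_c6 LD3_c7) Lrfl Lrfl
theorem f320939 : Led Lsl_df (LP (LK LD1_c2 LD2_c58 LD3_c38)) = (LP (LK LD1_c5 LD2_c6 LD3_c7)) :=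
  Lgr Lrot12 (Lpr_bt (f244138 IH) (Lpr_dt (K20.f320935 IH) (Lpr_bt (f251474 IH) (Lpn (LP (LK LD1_c5 LD2_c6 LD3_c7))))))
theorem f178596 : Led Lsl_at (LP (LK LD1_c8 LD2_c20 LD3_c20)) = (LP (LK LD1_c4 LD2_c10 LD3_c22)) :=
  Lre_a IH (LK LD1_c8 LD2_c20 LD3_c20) (LK LD1_c4 LD2_c10 LD3_c22) Lrfl Lrfl
theorem f248361 : Led Lsl_af (LP (LK LD1_c8 LD2_c52 LD3_c37)) = (LP (LK LD1_c5 LD2_c18 LD3_c35)) :=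
  Lgr Lrot117 (Lpr_dt (K14.f248356 IH) (Lpr_at (f178596 IH) (Lpr_dt (K9.f178593 IH) (Lpn (LP (LK LD1_c5 LD2_c18 LD3_c35))))))
theorem f248432 : Led Lsl_ef (LP (LK LD1_c5 LD2_c18 LD3_c35)) = (LP (LK LD1_c5 LD2_c16 LD3_c22)) :=
  Lgr Lrot20 (Lpe (f248361 IH) (Lpr_et (K14.f248430 IH) (Lpe (K14.f247578 IH) (Lpn (LP (LK LD1_c5 LD2_c16 LD3_c22))))))
theorem f248390 : Led Lsl_at (LP (LK LD1_c8 LD2_c52 LD3_c37)) = (LP (LK LD1_c5 LD2_c18 LD3_c35)) :=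
  Lgr Lrot107 (Lpe (K14.f248324 IH) (Lpr_af (f248385 IH) (Lpe (K14.f178600 IH) (Lpn (LP (LK LD1_c5 LD2_c18 LD3_c35))))))
theorem f248395 : Led Lsl_af (LP (LK LD1_c4 LD2_c27 LD3_c25)) = (LP (LK LD1_c2 LD2_c35 LD3_c56)) :=
  Lgr Lrot45 (Lpr_ft (K14.f248311 IH) (Lpr_at (f248390 IH) (Lpr_ft (K9.f178604 IH) (Lpn (LP (LK LD1_c2 LD2_c35 LD3_c56))))))
theorem f248318 : Led Lsl_gt (LP (LK LD1_c8 LD2_c52 LD3_c36)) = (LP (LK LD1_c4 LD2_c27 LD3_c25)) :=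
  Lre_g IH (LK LD1_c8 LD2_c52 LD3_c36) (LK LD1_c4 LD2_c27 LD3_c25) Lrfl Lrfl
theorem f248399 : Led Lsl_gf (LP (LK LD1_c8 LD2_c52 LD3_c36)) = (LP (LK LD1_c5 LD2_c18 LD3_c35)) :=
  Lgr Lrot47 (Lpr_gt (f248318 IH) (Lpr_af (f248395 IH) (Lpe (K9.f178604 IH) (Lpn (LP (LK LD1_c5 LD2_c18 LD3_c35))))))
theorem f325671 : Led Lsl_et (LP (LK LD1_c5 LD2_c18 LD3_c23)) = (LP (LK LD1_c8 LD2_c52 LD3_c36)) :=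
  Lgr Lrot122 (Lpr_dt (f185556 IH) (Lpe (f325663 IH) (Lpe (f275258 IH) (Lpr_et (f325667 IH) (Lpr_gt (f251498 IH) (Lpe (f320939 IH) (Lpr_gt (K20.f244144 IH) (Lpe (K20.f315974 IH) (Lpe (f248432 IH) (Lpe (f248399 IH) (Lpn (LP (LK LD1_c8 LD2_c52 LD3_c36)))))))))))))
theorem f325675 : Led Lsl_ef (LP (LK LD1_c5 LD2_c18 LD3_c23)) = (LP (LK LD1_c8 LD2_c52 LD3_c36)) :=
  Lgr Lrot88 (Lpr_et (f325671 IH) (Lpn (LP (LK LD1_c8 LD2_c52 LD3_c36))))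
theorem f331348 : Led Lsl_bf (LP (LK LD1_c8 LD2_c52 LD3_c36)) = (LP (LK LD1_c10 LD2_c21 LD3_c7)) :=
  Lgr Lrot96 (Lpe (f325675 IH) (Lpr_bt (f325677 IH) (Lpr_et (f331346 IH) (Lpn (LP (LK LD1_c10 LD2_c21 LD3_c7))))))

end

end K21

end

end Cfsg.Agent.Helper28.S1692
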