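import Cfsg.Agent.Lib.Helper28.S1692.Seeds21

set_option autoImplicit false
set_option maxRecDepth 100000
set_option linter.all false

namespace Cfsg.Agent.Helper28.S1692

open Cfsg.Agent.Helper28
open Cfsg.Spor.ON (Gen)

noncomputable section

namespace K22
abbrev LD1_c0 := D1.c0
abbrev LD1_c1 := D1.c1
abbrev LD1_c2 := D1.c2
abbrev LD1_c3 := D1.c3
abbrev LD1_c4 := D1.c4
abbrev LD1_c5 := D1.c5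
abbrev LD1_c6 := D1.c6
abbrev LD1_c7 := D1.c7
abbrev LD1_c8 := D1.c8
abbrev LD1_c9 := D1.c9
abbrev LD1_c10 := D1.c10
abbrev LD1_c11 := D1.c11
abbrev LD1_c12 := D1.c12
abbrev LD1_c13 := D1.c13
abbrev LD1_c14 := D1.c14
abbrev LD1_c15 := D1.c15
abbrev LD1_c16 := D1.c16
abbrev LD1_c17 := D1.c17
abbrev LD1_c18 := D1.c18
abbrev LD1_c19 := D1.c19
abbrev LD1_c20 := D1.c20
abbrev LD1_c21 := D1.c21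
abbrev LD1_c22 := D1.c22
abbrev LD1_c23 := D1.c23
abbrev LD1_c24 := D1.c24
abbrev LD1_c25 := D1.c25
abbrev LD1_c26 := D1.c26
abbrev LD1_c27 := D1.c27
abbrev LD1_c28 := D1.c28
abbrev LD1_c29 := D1.c29
abbrev LD1_c30 := D1.c30
abbrev LD1_c31 := D1.c31
abbrev LD1_c32 := D1.c32
abbrev LD2_c0 := D2.c0
abbrev LD2_c1 := D2.c1
abbrev LD2_c2 := D2.c2
abbrev LD2_c3 := D2.c3
abbrev LD2_c4 := D2.c4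
abbrev LD2_c5 := D2.c5
abbrev LD2_c6 := D2.c6
abbrev LD2_c7 := D2.c7
abbrev LD2_c8 := D2.c8
abbrev LD2_c9 := D2.c9
abbrev LD2_c10 := D2.c10
abbrev LD2_c11 := D2.c11
abbrev LD2_c12 := D2.c12
abbrev LD2_c13 := D2.c13
abbrev LD2_c14 := D2.c14
abbrev LD2_c15 := D2.c15
abbrev LD2_c16 := D2.c16
abbrev LD2_c17 := D2.c17
abbrev LD2_c18 := D2.c18
abbrev LD2_c19 := D2.c19
abbrev LD2_c20 := D2.c20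
abbrev LD2_c21 := D2.c21
abbrev LD2_c22 := D2.c22
abbrev LD2_c23 := D2.c23
abbrev LD2_c24 := D2.c24
abbrev LD2_c25 := D2.c25
abbrev LD2_c26 := D2.c26
abbrev LD2_c27 := D2.c27
abbrev LD2_c28 := D2.c28
abbrev LD2_c29 := D2.c29
abbrev LD2_c30 := D2.c30
abbrev LD2_c31 := D2.c31
abbrev LD2_c32 := D2.c32
abbrev LD2_c33 := D2.c33
abbrev LD2_c34 := D2.c34
abbrev LD2_c35 := D2.c35
abbrev LD2_c36 := D2.c36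
abbrev LD2_c37 := D2.c37
abbrev LD2_c38 := D2.c38
abbrev LD2_c39 := D2.c39
abbrev LD2_c40 := D2.c40
abbrev LD2_c41 := D2.c41
abbrev LD2_c42 := D2.c42
abbrev LD2_c43 := D2.c43
abbrev LD2_c44 := D2.c44
abbrev LD2_c45 := D2.c45
abbrev LD2_c46 := D2.c46
abbrev LD2_c47 := D2.c47
abbrev LD2_c48 := D2.c48
abbrev LD2_c49 := D2.c49
abbrev LD2_c50 := D2.c50
abbrev LD2_c51 := D2.c51
abbrev LD2_c52 := D2.c52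
abbrev LD2_c53 := D2.c53
abbrev LD2_c54 := D2.c54
abbrev LD2_c55 := D2.c55
abbrev LD2_c56 := D2.c56
abbrev LD2_c57 := D2.c57
abbrev LD2_c58 := D2.c58
abbrev LD2_c59 := D2.c59
abbrev LD3_c0 := D3.c0
abbrev LD3_c1 := D3.c1
abbrev LD3_c2 := D3.c2
abbrev LD3_c3 := D3.c3
abbrev LD3_c4 := D3.c4
abbrev LD3_c5 := D3.c5
abbrev LD3_c6 := D3.c6
abbrev LD3_c7 := D3.c7
abbrev LD3_c8 := D3.c8
abbrev LD3_c9 := D3.c9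
abbrev LD3_c10 := D3.c10
abbrev LD3_c11 := D3.c11
abbrev LD3_c12 := D3.c12
abbrev LD3_c13 := D3.c13
abbrev LD3_c14 := D3.c14
abbrev LD3_c15 := D3.c15
abbrev LD3_c16 := D3.c16
abbrev LD3_c17 := D3.c17
abbrev LD3_c18 := D3.c18
abbrev LD3_c19 := D3.c19
abbrev LD3_c20 := D3.c20
abbrev LD3_c21 := D3.c21
abbrev LD3_c22 := D3.c22
abbrev LD3_c23 := D3.c23
abbrev LD3_c24 := D3.c24
abbrev LD3_c25 := D3.c25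
abbrev LD3_c26 := D3.c26
abbrev LD3_c27 := D3.c27
abbrev LD3_c28 := D3.c28
abbrev LD3_c29 := D3.c29
abbrev LD3_c30 := D3.c30
abbrev LD3_c31 := D3.c31
abbrev LD3_c32 := D3.c32
abbrev LD3_c33 := D3.c33
abbrev LD3_c34 := D3.c34
abbrev LD3_c35 := D3.c35
abbrev LD3_c36 := D3.c36
abbrev LD3_c37 := D3.c37
abbrev LD3_c38 := D3.c38
abbrev LD3_c39 := D3.c39
abbrev LD3_c40 := D3.c40
abbrev LD3_c41 := D3.c41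
abbrev LD3_c42 := D3.c42
abbrev LD3_c43 := D3.c43
abbrev LD3_c44 := D3.c44
abbrev LD3_c45 := D3.c45
abbrev LD3_c46 := D3.c46
abbrev LD3_c47 := D3.c47
abbrev LD3_c48 := D3.c48
abbrev LD3_c49 := D3.c49
abbrev LD3_c50 := D3.c50
abbrev LD3_c51 := D3.c51
abbrev LD3_c52 := D3.c52
abbrev LD3_c53 := D3.c53
abbrev LD3_c54 := D3.c54
abbrev LD3_c55 := D3.c55
abbrev LD3_c56 := D3.c56
abbrev LD3_c57 := D3.c57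
abbrev LD3_c58 := D3.c58
abbrev LD3_c59 := D3.c59
abbrev LD3_c60 := D3.c60
abbrev LD3_c61 := D3.c61
abbrev LG_g := Gen.g
abbrev Lsl_gt : Gen × Bool := sl_gt
alias Lfl_gt := fl_gt
alias Lpr_gt := pr_gt
abbrev Lsl_gf : Gen × Bool := sl_gf
alias Lfl_gf := fl_gf
alias Lpr_gf := pr_gf
alias Lre_g := re_g
alias Leoe_g := eoe_g
abbrev LG_a := Gen.a
abbrev Lsl_at : Gen × Bool := sl_at
alias Lfl_at := fl_at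
alias Lpr_at := pr_at
abbrev Lsl_af : Gen × Bool := sl_af
alias Lfl_af := fl_af
alias Lpr_af := pr_af
alias Lre_a := re_a
alias Leoe_a := eoe_a
abbrev LG_b := Gen.b
abbrev Lsl_bt : Gen × Bool := sl_bt
alias Lfl_bt := fl_bt
alias Lpr_bt := pr_bt
abbrev Lsl_bf : Gen × Bool := sl_bf
alias Lfl_bf := fl_bf
alias Lpr_bf := pr_bf
alias Lre_b := re_b
alias Leoe_b := eoe_b
abbrev LG_c := Gen.c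
abbrev Lsl_ct : Gen × Bool := sl_ct
alias Lfl_ct := fl_ct
alias Lpr_ct := pr_ct
abbrev Lsl_cf : Gen × Bool := sl_cf
alias Lfl_cf := fl_cf
alias Lpr_cf := pr_cf
alias Lre_c := re_c
alias Leoe_c := eoe_c
abbrev LG_d := Gen.d
abbrev Lsl_dt : Gen × Bool := sl_dt
alias Lfl_dt := fl_dt
alias Lpr_dt := pr_dt
abbrev Lsl_df : Gen × Bool := sl_df
alias Lfl_df := fl_df
alias Lpr_df := pr_df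
alias Lre_d := re_d
alias Leoe_d := eoe_d
abbrev LG_e := Gen.e
abbrev Lsl_et : Gen × Bool := sl_et
alias Lfl_et := fl_et
alias Lpr_et := pr_et
abbrev Lsl_ef : Gen × Bool := sl_ef
alias Lfl_ef := fl_ef
alias Lpr_ef := pr_ef
alias Lre_e := re_e
alias Leoe_e := eoe_e
abbrev LG_f := Gen.f
abbrev Lsl_ft : Gen × Bool := sl_ft
alias Lfl_ft := fl_ft
alias Lpr_ft := pr_ft
abbrev Lsl_ff : Gen × Bool := sl_ff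
alias Lfl_ff := fl_ff
alias Lpr_ff := pr_ff
alias Lre_f := re_f
alias Leoe_f := eoe_f
abbrev LK := Pt.mk
abbrev LQ : Type := Qt rels S
abbrev LP (p : Pt) : LQ := P p
abbrev Led (l : Gen × Bool) (c : LQ) : LQ := ed l c
abbrev LEOK (x : Gen) (p : Pt) : Prop := EntryOK rels S fwd inv o plet idx x p
alias Lpe := pe
alias Lpn := pn
alias Lgr := gr
alias Lpq := pq
alias Lpqs := pqs
alias Llr := lr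
alias Leop := eop
alias Lefun := efun
alias Lecon := econ
theorem Lrfl {α : Sort _} {a : α} : a = a := rfl
alias Lrot0 := rot0
alias Lrot1 := rot1
alias Lrot2 := rot2
alias Lrot3 := rot3
alias Lrot4 := rot4
alias Lrot5 := rot5
alias Lrot6 := rot6
alias Lrot7 := rot7
alias Lrot8 := rot8
alias Lrot9 := rot9
alias Lrot10 := rot10
alias Lrot11 := rot11
alias Lrot12 := rot12
alias Lrot13 := rot13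
alias Lrot14 := rot14
alias Lrot15 := rot15
alias Lrot17 := rot17
alias Lrot18 := rot18
alias Lrot19 := rot19
alias Lrot20 := rot20
alias Lrot21 := rot21
alias Lrot22 := rot22
alias Lrot23 := rot23
alias Lrot24 := rot24
alias Lrot25 := rot25
alias Lrot26 := rot26
alias Lrot27 := rot27
alias Lrot28 := rot28
alias Lrot29 := rot29
alias Lrot30 := rot30
alias Lrot31 := rot31
alias Lrot33 := rot33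
alias Lrot34 := rot34
alias Lrot35 := rot35
alias Lrot36 := rot36
alias Lrot37 := rot37
alias Lrot38 := rot38
alias Lrot39 := rot39
alias Lrot40 := rot40
alias Lrot41 := rot41
alias Lrot42 := rot42
alias Lrot43 := rot43
alias Lrot44 := rot44
alias Lrot45 := rot45
alias Lrot46 := rot46
alias Lrot47 := rot47
alias Lrot48 := rot48
alias Lrot49 := rot49
alias Lrot50 := rot50
alias Lrot51 := rot51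
alias Lrot52 := rot52
alias Lrot53 := rot53
alias Lrot54 := rot54
alias Lrot55 := rot55
alias Lrot56 := rot56
alias Lrot57 := rot57
alias Lrot58 := rot58
alias Lrot59 := rot59
alias Lrot60 := rot60
alias Lrot61 := rot61
alias Lrot62 := rot62
alias Lrot63 := rot63
alias Lrot64 := rot64
alias Lrot65 := rot65
alias Lrot66 := rot66
alias Lrot67 := rot67
alias Lrot68 := rot68
alias Lrot69 := rot69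
alias Lrot70 := rot70
alias Lrot71 := rot71
alias Lrot72 := rot72
alias Lrot73 := rot73
alias Lrot74 := rot74
alias Lrot75 := rot75
alias Lrot76 := rot76
alias Lrot77 := rot77
alias Lrot78 := rot78
alias Lrot79 := rot79
alias Lrot80 := rot80
alias Lrot81 := rot81
alias Lrot82 := rot82
alias Lrot83 := rot83
alias Lrot84 := rot84
alias Lrot86 := rot86
alias Lrot87 := rot87
alias Lrot88 := rot88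
alias Lrot90 := rot90
alias Lrot91 := rot91
alias Lrot92 := rot92
alias Lrot93 := rot93
alias Lrot94 := rot94
alias Lrot95 := rot95
alias Lrot96 := rot96
alias Lrot97 := rot97
alias Lrot99 := rot99
alias Lrot100 := rot100
alias Lrot101 := rot101
alias Lrot103 := rot103
alias Lrot104 := rot104
alias Lrot105 := rot105
alias Lrot107 := rot107
alias Lrot108 := rot108
alias Lrot109 := rot109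
alias Lrot110 := rot110
alias Lrot111 := rot111
alias Lrot112 := rot112
alias Lrot113 := rot113
alias Lrot114 := rot114
alias Lrot116 := rot116
alias Lrot117 := rot117
alias Lrot118 := rot118
alias Lrot119 := rot119
alias Lrot121 := rot121
alias Lrot122 := rot122
alias Lrot123 := rot123
alias Lrot124 := rot124
alias Lrot125 := rot125
alias Lrot126 := rot126
alias Lrot127 := rot127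
alias Lrot129 := rot129
alias Lrot130 := rot130
alias Lrot131 := rot131
alias Lrot132 := rot132
alias Lrot134 := rot134
alias Lrot135 := rot135
alias Lrot136 := rot136
alias Lrot137 := rot137
alias Lrot138 := rot138
alias Lrot139 := rot139
alias Lrot141 := rot141
alias Lrot142 := rot142
alias Lrot143 := rot143
alias Lrot144 := rot144
alias Lrot145 := rot145
alias Lrot146 := rot146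
alias Lrot147 := rot147
alias Lrot148 := rot148
alias Lrot149 := rot149
alias Lrot150 := rot150
alias Lrot151 := rot151
alias Lrot152 := rot152
alias Lrot153 := rot153
alias Lrot155 := rot155
alias Lrot156 := rot156
alias Lrot158 := rot158
alias Lrot159 := rot159
alias Lrot160 := rot160
alias Lrot162 := rot162
alias Lrot163 := rot163
alias Lrot164 := rot164
alias Lrot165 := rot165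
alias Lrot166 := rot166
alias Lrot167 := rot167
alias Lrot168 := rot168
alias Lrot169 := rot169
alias Lrot170 := rot170
alias Lrot171 := rot171
alias Lrot172 := rot172
alias Lrot173 := rot173
alias Lrot176 := rot176
alias Lrot177 := rot177
alias Lrot180 := rot180
alias Lrot181 := rot181
alias Lrot182 := rot182
alias Lrot185 := rot185

section
variable (IH : IHT)
include IH

theorem f178584 : Led Lsl_bt (LP (LK LD1_c2 LD2_c35 LD3_c59)) = (LP (LK LD1_c5 LD2_c18 LD3_c35)) :=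
  Lre_b IH (LK LD1_c2 LD2_c35 LD3_c59) (LK LD1_c5 LD2_c18 LD3_c35) Lrfl Lrfl
theorem f47654 : Led Lsl_gt (LP (LK LD1_c15 LD2_c33 LD3_c17)) = (LP (LK LD1_c8 LD2_c16 LD3_c23)) :=
  Lre_g IH (LK LD1_c15 LD2_c33 LD3_c17) (LK LD1_c8 LD2_c16 LD3_c23) Lrfl Lrfl
theorem f328823 : Led Lsl_gt (LP (LK LD1_c8 LD2_c39 LD3_c58)) = (LP (LK LD1_c15 LD2_c33 LD3_c17)) :=
  Lgr Lrot5 (Lpr_ft (K14.f187146 IH) (Lpr_at (K21.f328813 IH) (Lpe (f47654 IH) (Lpn (LP (LK LD1_c15 LD2_c33 LD3_c17))))))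
theorem f171736 : Led Lsl_ct (LP (LK LD1_c4 LD2_c12 LD3_c48)) = (LP (LK LD1_c8 LD2_c25 LD3_c2)) :=
  Lre_c IH (LK LD1_c4 LD2_c12 LD3_c48) (LK LD1_c8 LD2_c25 LD3_c2) Lrfl Lrfl
theorem f171731 : Led Lsl_bt (LP (LK LD1_c4 LD2_c12 LD3_c48)) = (LP (LK LD1_c2 LD2_c3 LD3_c38)) :=
  Lre_b IH (LK LD1_c4 LD2_c12 LD3_c48) (LK LD1_c2 LD2_c3 LD3_c38) Lrfl Lrfl
theorem f166846 : Led Lsl_bt (LP (LK LD1_c2 LD2_c3 LD3_c26)) = (LP (LK LD1_c0 LD2_c58 LD3_c45)) :=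
  Lre_b IH (LK LD1_c2 LD2_c3 LD3_c26) (LK LD1_c0 LD2_c58 LD3_c45) Lrfl Lrfl
theorem f166850 : Led Lsl_ct (LP (LK LD1_c2 LD2_c3 LD3_c26)) = (LP (LK LD1_c4 LD2_c12 LD3_c28)) :=
  Lre_c IH (LK LD1_c2 LD2_c3 LD3_c26) (LK LD1_c4 LD2_c12 LD3_c28) Lrfl Lrfl
theorem f166874 : Led Lsl_gt (LP (LK LD1_c8 LD2_c24 LD3_c37)) = (LP (LK LD1_c4 LD2_c12 LD3_c28)) :=
  Lre_g IH (LK LD1_c8 LD2_c24 LD3_c37) (LK LD1_c4 LD2_c12 LD3_c28) Lrfl Lrfl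
theorem f328825 : Led Lsl_cf (LP (LK LD1_c8 LD2_c24 LD3_c37)) = (LP (LK LD1_c15 LD2_c33 LD3_c17)) :=
  Lgr Lrot125 (Lpr_gt (f166874 IH) (Lpe (f166850 IH) (Lpr_bt (f166846 IH) (Lpr_gt (K19.f166612 IH) (Lpe (f171731 IH) (Lpr_ct (f171736 IH) (Lpr_gt (K21.f171743 IH) (Lpe (K21.f327786 IH) (Lpe (K14.f187142 IH) (Lpr_gt (f328823 IH) (Lpn (LP (LK LD1_c15 LD2_c33 LD3_c17)))))))))))))
theorem f166865 : Led Lsl_ct (LP (LK LD1_c4 LD2_c12 LD3_c28)) = (LP (LK LD1_c2 LD2_c3 LD3_c26)) :=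
  Lre_c IH (LK LD1_c4 LD2_c12 LD3_c28) (LK LD1_c2 LD2_c3 LD3_c26) Lrfl Lrfl
theorem f166847 : Led Lsl_ct (LP (LK LD1_c5 LD2_c3 LD3_c47)) = (LP (LK LD1_c2 LD2_c29 LD3_c22)) :=
  Lre_c IH (LK LD1_c5 LD2_c3 LD3_c47) (LK LD1_c2 LD2_c29 LD3_c22) Lrfl Lrfl
theorem f166873 : Led Lsl_gt (LP (LK LD1_c9 LD2_c58 LD3_c29)) = (LP (LK LD1_c5 LD2_c3 LD3_c47)) :=
  Lre_g IH (LK LD1_c9 LD2_c58 LD3_c29) (LK LD1_c5 LD2_c3 LD3_c47) Lrfl Lrfl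
theorem f328833 : Led Lsl_cf (LP (LK LD1_c9 LD2_c58 LD3_c29)) = (LP (LK LD1_c10 LD2_c21 LD3_c7)) :=
  Lgr Lrot169 (Lpr_gt (f166873 IH) (Lpr_ct (f166847 IH) (Lpr_df (K14.f166699 IH) (Lpe (f166865 IH) (Lpe (f166874 IH) (Lpr_cf (f328825 IH) (Lpe (f328823 IH) (Lpe (K14.f187139 IH) (Lpr_gt (K21.f311423 IH) (Lpn (LP (LK LD1_c10 LD2_c21 LD3_c7))))))))))))
theorem f166714 : Led Lsl_gt (LP (LK LD1_c1 LD2_c11 LD3_c49)) = (LP (LK LD1_c2 LD2_c29 LD3_c26)) :=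
  Lre_g IH (LK LD1_c1 LD2_c11 LD3_c49) (LK LD1_c2 LD2_c29 LD3_c26) Lrfl Lrfl
theorem f166715 : Led Lsl_ct (LP (LK LD1_c2 LD2_c29 LD3_c26)) = (LP (LK LD1_c5 LD2_c3 LD3_c60)) :=
  Lre_c IH (LK LD1_c2 LD2_c29 LD3_c26) (LK LD1_c5 LD2_c3 LD3_c60) Lrfl Lrfl
theorem f331368 : Led Lsl_gf (LP (LK LD1_c5 LD2_c11 LD3_c27)) = (LP (LK LD1_c5 LD2_c3 LD3_c60)) :=
  Lgr Lrot129 (Lpe (K19.f215168 IH) (Lpr_bt (f178584 IH) (Lpe (K21.f248399 IH) (Lpr_bf (K21.f331348 IH) (Lpe (f328833 IH) (Lpr_gt (f166873 IH) (Lpe (K14.f166973 IH) (Lpr_bt (K14.f166697 IH) (Lpr_gt (f166714 IH) (Lpr_ct (f166715 IH) (Lpn (LP (LK LD1_c5 LD2_c3 LD3_c60)))))))))))))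
theorem f215176 : Led Lsl_cf (LP (LK LD1_c2 LD2_c35 LD3_c59)) = (LP (LK LD1_c5 LD2_c11 LD3_c27)) :=
  Lgr Lrot11 (Lpr_ct (K19.f215168 IH) (Lpn (LP (LK LD1_c5 LD2_c11 LD3_c27))))
theorem f178587 : Led Lsl_ct (LP (LK LD1_c4 LD2_c10 LD3_c33)) = (LP (LK LD1_c2 LD2_c2 LD3_c32)) :=
  Lre_c IH (LK LD1_c4 LD2_c10 LD3_c33) (LK LD1_c2 LD2_c2 LD3_c32) Lrfl Lrfl
theorem f166703 : Led Lsl_df (LP (LK LD1_c1 LD2_c11 LD3_c49)) = (LP (LK LD1_c0 LD2_c58 LD3_c45)) :=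
  Lgr Lrot38 (Lpr_dt (K10.f166688 IH) (Lpn (LP (LK LD1_c0 LD2_c58 LD3_c45))))
theorem f166716 : Led Lsl_ct (LP (LK LD1_c2 LD2_c3 LD3_c38)) = (LP (LK LD1_c4 LD2_c12 LD3_c49)) :=
  Lre_c IH (LK LD1_c2 LD2_c3 LD3_c38) (LK LD1_c4 LD2_c12 LD3_c49) Lrfl Lrfl
theorem f331373 : Led Lsl_gf (LP (LK LD1_c4 LD2_c10 LD3_c33)) = (LP (LK LD1_c4 LD2_c12 LD3_c49)) :=
  Lgr Lrot104 (Lpr_ct (f178587 IH) (Lpr_df (K9.f178588 IH) (Lpr_cf (f215176 IH) (Lpr_gf (f331368 IH) (Lpe (f166715 IH) (Lpe (f166714 IH) (Lpr_df (f166703 IH) (Lpr_gt (K19.f166612 IH) (Lpr_ct (f166716 IH) (Lpn (LP (LK LD1_c4 LD2_c12 LD3_c49))))))))))))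
theorem f178595 : Led Lsl_ct (LP (LK LD1_c2 LD2_c2 LD3_c32)) = (LP (LK LD1_c4 LD2_c10 LD3_c33)) :=
  Lre_c IH (LK LD1_c2 LD2_c2 LD3_c32) (LK LD1_c4 LD2_c10 LD3_c33) Lrfl Lrfl
theorem f178621 : Led Lsl_gt (LP (LK LD1_c4 LD2_c10 LD3_c22)) = (LP (LK LD1_c8 LD2_c20 LD3_c19)) :=
  Lre_g IH (LK LD1_c4 LD2_c10 LD3_c22) (LK LD1_c8 LD2_c20 LD3_c19) Lrfl Lrfl
theorem f331379 : Led Lsl_bf (LP (LK LD1_c8 LD2_c20 LD3_c19)) = (LP (LK LD1_c15 LD2_c33 LD3_c17)) :=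
  Lgr Lrot34 (Lpe (f178621 IH) (Lpe (K9.f178591 IH) (Lpr_ct (f178595 IH) (Lpr_gf (f331373 IH) (Lpe (f166716 IH) (Lpe (K19.f166612 IH) (Lpe (f166846 IH) (Lpr_ct (f166850 IH) (Lpe (f166874 IH) (Lpr_cf (f328825 IH) (Lpn (LP (LK LD1_c15 LD2_c33 LD3_c17)))))))))))))
theorem f249166 : Led Lsl_bt (LP (LK LD1_c5 LD2_c12 LD3_c6)) = (LP (LK LD1_c10 LD2_c15 LD3_c1)) :=
  Lre_b IH (LK LD1_c5 LD2_c12 LD3_c6) (LK LD1_c10 LD2_c15 LD3_c1) Lrfl Lrfl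
theorem f331383 : Led Lsl_dt (LP (LK LD1_c10 LD2_c15 LD3_c1)) = (LP (LK LD1_c15 LD2_c33 LD3_c17)) :=
  Lgr Lrot79 (Lpe (f249166 IH) (Lpr_df (K21.f249153 IH) (Lpr_bf (f331379 IH) (Lpn (LP (LK LD1_c15 LD2_c33 LD3_c17))))))
theorem f331391 : Led Lsl_gf (LP (LK LD1_c10 LD2_c15 LD3_c1)) = (LP (LK LD1_c5 LD2_c19 LD3_c9)) :=
  Lgr Lrot138 (Lpr_dt (f331383 IH) (Lpr_gt (f47654 IH) (Lpe (K12.f47635 IH) (Lpr_et (K19.f47653 IH) (Lpe (K12.f212468 IH) (Lpr_ef (K1.f43925 IH) (Lpr_dt (K1.f43944 IH) (Lpr_gt (K10.f43946 IH) (Lpe (K13.f43947 IH) (Lpr_et (K16.f43948 IH) (Lpn (LP (LK LD1_c5 LD2_c19 LD3_c9)))))))))))))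
theorem f200179 : Led Lsl_ct (LP (LK LD1_c5 LD2_c12 LD3_c6)) = (LP (LK LD1_c10 LD2_c15 LD3_c2)) :=
  Lre_c IH (LK LD1_c5 LD2_c12 LD3_c6) (LK LD1_c10 LD2_c15 LD3_c2) Lrfl Lrfl
theorem f200180 : Led Lsl_gt (LP (LK LD1_c10 LD2_c15 LD3_c2)) = (LP (LK LD1_c18 LD2_c39 LD3_c2)) :=
  Lre_g IH (LK LD1_c10 LD2_c15 LD3_c2) (LK LD1_c18 LD2_c39 LD3_c2) Lrfl Lrfl
theorem f193011 : Led Lsl_bt (LP (LK LD1_c4 LD2_c1 LD3_c13)) = (LP (LK LD1_c5 LD2_c19 LD3_c9)) :=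
  Lgr Lrot127 (Lpr_bf (K16.f193008 IH) (Lpn (LP (LK LD1_c5 LD2_c19 LD3_c9))))
theorem f193013 : Led Lsl_ct (LP (LK LD1_c4 LD2_c1 LD3_c13)) = (LP (LK LD1_c8 LD2_c3 LD3_c10)) :=
  Lre_c IH (LK LD1_c4 LD2_c1 LD3_c13) (LK LD1_c8 LD2_c3 LD3_c10) Lrfl Lrfl
theorem f279392 : Led Lsl_gt (LP (LK LD1_c8 LD2_c4 LD3_c2)) = (LP (LK LD1_c5 LD2_c8 LD3_c41)) :=
  Lgr Lrot5 (Lpr_ft (K16.f279365 IH) (Lpr_at (K16.f279378 IH) (Lpe (K21.f33226 IH) (Lpn (LP (LK LD1_c5 LD2_c8 LD3_c41))))))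
theorem f331408 : Led Lsl_cf (LP (LK LD1_c18 LD2_c39 LD3_c2)) = (LP (LK LD1_c15 LD2_c11 LD3_c4)) :=
  Lgr Lrot58 (Lpe (f200180 IH) (Lpe (f200179 IH) (Lpr_bt (f249166 IH) (Lpr_gf (f331391 IH) (Lpe (f193011 IH) (Lpr_ct (f193013 IH) (Lpe (K21.f327641 IH) (Lpe (K21.f33263 IH) (Lpe (f279392 IH) (Lpe (K16.f279341 IH) (Lpn (LP (LK LD1_c15 LD2_c11 LD3_c4)))))))))))))
theorem f200276 : Led Lsl_bt (LP (LK LD1_c1 LD2_c13 LD3_c25)) = (LP (LK LD1_c2 LD2_c32 LD3_c54)) :=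
  Lre_b IH (LK LD1_c1 LD2_c13 LD3_c25) (LK LD1_c2 LD2_c32 LD3_c54) Lrfl Lrfl
theorem f185616 : Led Lsl_ct (LP (LK LD1_c1 LD2_c13 LD3_c25)) = (LP (LK LD1_c2 LD2_c32 LD3_c59)) :=
  Lre_c IH (LK LD1_c1 LD2_c13 LD3_c25) (LK LD1_c2 LD2_c32 LD3_c59) Lrfl Lrfl
theorem f327649 : Led Lsl_bf (LP (LK LD1_c5 LD2_c8 LD3_c41)) = (LP (LK LD1_c2 LD2_c32 LD3_c4)) :=
  Lgr Lrot24 (Lpr_bt (K21.f327647 IH) (Lpn (LP (LK LD1_c2 LD2_c32 LD3_c4))))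
theorem f300127 : Led Lsl_ct (LP (LK LD1_c2 LD2_c32 LD3_c4)) = (LP (LK LD1_c5 LD2_c10 LD3_c1)) :=
  Lre_c IH (LK LD1_c2 LD2_c32 LD3_c4) (LK LD1_c5 LD2_c10 LD3_c1) Lrfl Lrfl
theorem f331416 : Led Lsl_gf (LP (LK LD1_c2 LD2_c32 LD3_c59)) = (LP (LK LD1_c5 LD2_c10 LD3_c1)) :=
  Lgr Lrot126 (Lpe (f185616 IH) (Lpr_bt (f200276 IH) (Lpr_gt (K21.f200176 IH) (Lpr_ct (f200179 IH) (Lpr_gt (f200180 IH) (Lpr_cf (f331408 IH) (Lpr_bt (K16.f279341 IH) (Lpr_gt (f279392 IH) (Lpr_bf (f327649 IH) (Lpr_ct (f300127 IH) (Lpn (LP (LK LD1_c5 LD2_c10 LD3_c1)))))))))))))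
theorem f331418 : Led Lsl_gt (LP (LK LD1_c5 LD2_c5 LD3_c45)) = (LP (LK LD1_c5 LD2_c10 LD3_c1)) :=
  Lgr Lrot5 (Lpr_ft (K18.f302188 IH) (Lpe (K18.f302302 IH) (Lpr_gf (f331416 IH) (Lpn (LP (LK LD1_c5 LD2_c10 LD3_c1))))))
theorem f33210 : Led Lsl_ct (LP (LK LD1_c2 LD2_c31 LD3_c32)) = (LP (LK LD1_c5 LD2_c8 LD3_c39)) :=
  Lre_c IH (LK LD1_c2 LD2_c31 LD3_c32) (LK LD1_c5 LD2_c8 LD3_c39) Lrfl Lrfl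
theorem f190452 : Led Lsl_gt (LP (LK LD1_c5 LD2_c8 LD3_c39)) = (LP (LK LD1_c10 LD2_c7 LD3_c47)) :=
  Lre_g IH (LK LD1_c5 LD2_c8 LD3_c39) (LK LD1_c10 LD2_c7 LD3_c47) Lrfl Lrfl
theorem f331424 : Led Lsl_ct (LP (LK LD1_c8 LD2_c4 LD3_c39)) = (LP (LK LD1_c10 LD2_c7 LD3_c47)) :=
  Lgr Lrot63 (Lpr_bt (K21.f325916 IH) (Lpr_gt (K18.f299459 IH) (Lpe (K21.f167458 IH) (Lpr_ct (K18.f167462 IH) (Lpr_gt (f331418 IH) (Lpe (f300127 IH) (Lpe (f327649 IH) (Lpr_gt (K21.f33226 IH) (Lpr_ct (f33210 IH) (Lpr_gt (f190452 IH) (Lpn (LP (LK LD1_c10 LD2_c7 LD3_c47)))))))))))))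
theorem f183995 : Led Lsl_gt (LP (LK LD1_c10 LD2_c28 LD3_c21)) = (LP (LK LD1_c5 LD2_c19 LD3_c17)) :=
  Lre_g IH (LK LD1_c10 LD2_c28 LD3_c21) (LK LD1_c5 LD2_c19 LD3_c17) Lrfl Lrfl
theorem f43827 : Led Lsl_gt (LP (LK LD1_c17 LD2_c45 LD3_c45)) = (LP (LK LD1_c9 LD2_c39 LD3_c30)) :=
  Lre_g IH (LK LD1_c17 LD2_c45 LD3_c45) (LK LD1_c9 LD2_c39 LD3_c30) Lrfl Lrfl
theorem f327477 : Led Lsl_dt (LP (LK LD1_c15 LD2_c42 LD3_c51)) = (LP (LK LD1_c17 LD2_c45 LD3_c45)) :=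
  Lgr Lrot171 (Lpr_gf (K21.f327469 IH) (Lpe (K21.f199631 IH) (Lpr_dt (K13.f199612 IH) (Lpe (K12.f211424 IH) (Lpe (K13.f48035 IH) (Lpe (K19.f53837 IH) (Lpr_gf (K16.f270882 IH) (Lpe (K16.f270873 IH) (Lpr_dt (K17.f282097 IH) (Lpe (f43827 IH) (Lpn (LP (LK LD1_c17 LD2_c45 LD3_c45)))))))))))))
theorem f182233 : Led Lsl_ct (LP (LK LD1_c8 LD2_c20 LD3_c54)) = (LP (LK LD1_c15 LD2_c42 LD3_c51)) :=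
  Lre_c IH (LK LD1_c8 LD2_c20 LD3_c54) (LK LD1_c15 LD2_c42 LD3_c51) Lrfl Lrfl
theorem f300339 : Led Lsl_gt (LP (LK LD1_c10 LD2_c15 LD3_c0)) = (LP (LK LD1_c10 LD2_c28 LD3_c21)) :=
  Lgr Lrot5 (Lpr_ft (K18.f200247 IH) (Lpr_at (K18.f300324 IH) (Lpe (f183995 IH) (Lpn (LP (LK LD1_c10 LD2_c28 LD3_c21))))))
theorem f327482 : Led Lsl_ct (LP (LK LD1_c10 LD2_c28 LD3_c21)) = (LP (LK LD1_c17 LD2_c45 LD3_c45)) :=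
  Lgr Lrot151 (Lpe (f300339 IH) (Lpe (K18.f200244 IH) (Lpr_gf (K20.f300444 IH) (Lpr_dt (K9.f182217 IH) (Lpr_gt (K9.f178717 IH) (Lpr_ct (K20.f178670 IH) (Lpr_gt (K20.f182232 IH) (Lpr_ct (f182233 IH) (Lpr_dt (f327477 IH) (Lpn (LP (LK LD1_c17 LD2_c45 LD3_c45))))))))))))
theorem f327493 : Led Lsl_cf (LP (LK LD1_c10 LD2_c28 LD3_c21)) = (LP (LK LD1_c17 LD2_c45 LD3_c45)) :=
  Lgr Lrot11 (Lpr_ct (f327482 IH) (Lpn (LP (LK LD1_c17 LD2_c45 LD3_c45))))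
theorem f229733 : Led Lsl_ct (LP (LK LD1_c7 LD2_c55 LD3_c48)) = (LP (LK LD1_c14 LD2_c57 LD3_c30)) :=
  Lre_c IH (LK LD1_c7 LD2_c55 LD3_c48) (LK LD1_c14 LD2_c57 LD3_c30) Lrfl Lrfl
theorem f236639 : Led Lsl_et (LP (LK LD1_c3 LD2_c57 LD3_c6)) = (LP (LK LD1_c7 LD2_c55 LD3_c55)) :=
  Lre_e IH (LK LD1_c3 LD2_c57 LD3_c6) (LK LD1_c7 LD2_c55 LD3_c55) Lrfl Lrfl
theorem f298982 : Led Lsl_et (LP (LK LD1_c24 LD2_c45 LD3_c2)) = (LP (LK LD1_c14 LD2_c57 LD3_c30)) :=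
  Lre_e IH (LK LD1_c24 LD2_c45 LD3_c2) (LK LD1_c14 LD2_c57 LD3_c30) Lrfl Lrfl
theorem f298984 : Led Lsl_gt (LP (LK LD1_c7 LD2_c55 LD3_c55)) = (LP (LK LD1_c14 LD2_c57 LD3_c30)) :=
  Lgr Lrot131 (Lpe (f236639 IH) (Lpr_dt (K14.f196371 IH) (Lpe (K13.f238896 IH) (Lpe (K19.f238898 IH) (Lpe (K14.f238754 IH) (Lpe (K18.f238748 IH) (Lpr_dt (K18.f200443 IH) (Lpe (K18.f200459 IH) (Lpr_df (K19.f298980 IH) (Lpr_et (f298982 IH) (Lpn (LP (LK LD1_c14 LD2_c57 LD3_c30)))))))))))))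
theorem f241677 : Led Lsl_at (LP (LK LD1_c14 LD2_c57 LD3_c39)) = (LP (LK LD1_c8 LD2_c41 LD3_c52)) :=
  Lgr Lrot66 (Lpe (K16.f241654 IH) (Lpr_af (K13.f241667 IH) (Lpe (K16.f241676 IH) (Lpn (LP (LK LD1_c8 LD2_c41 LD3_c52))))))
theorem f270845 : Led Lsl_cf (LP (LK LD1_c8 LD2_c1 LD3_c30)) = (LP (LK LD1_c14 LD2_c57 LD3_c39)) :=
  Lgr Lrot11 (Lpr_ct (K16.f270841 IH) (Lpn (LP (LK LD1_c14 LD2_c57 LD3_c39))))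
theorem f270855 : Led Lsl_ef (LP (LK LD1_c14 LD2_c57 LD3_c39)) = (LP (LK LD1_c8 LD2_c41 LD3_c61)) :=
  Lgr Lrot28 (Lpe (f270845 IH) (Lpr_et (K16.f270849 IH) (Lpr_ct (K21.f237528 IH) (Lpn (LP (LK LD1_c8 LD2_c41 LD3_c61))))))
theorem f279427 : Led Lsl_af (LP (LK LD1_c8 LD2_c41 LD3_c61)) = (LP (LK LD1_c14 LD2_c57 LD3_c47)) :=
  Lgr Lrot50 (Lpe (f270855 IH) (Lpr_at (f241677 IH) (Lpr_et (K16.f279425 IH) (Lpn (LP (LK LD1_c14 LD2_c57 LD3_c47))))))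
theorem f298986 : Led Lsl_gf (LP (LK LD1_c8 LD2_c41 LD3_c61)) = (LP (LK LD1_c14 LD2_c57 LD3_c30)) :=
  Lgr Lrot76 (Lpr_af (f279427 IH) (Lpe (K16.f236630 IH) (Lpr_gt (f298984 IH) (Lpn (LP (LK LD1_c14 LD2_c57 LD3_c30))))))
theorem f279361 : Led Lsl_ct (LP (LK LD1_c15 LD2_c11 LD3_c10)) = (LP (LK LD1_c8 LD2_c4 LD3_c2)) :=
  Lre_c IH (LK LD1_c15 LD2_c11 LD3_c10) (LK LD1_c8 LD2_c4 LD3_c2) Lrfl Lrfl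
theorem f331431 : Led Lsl_gf (LP (LK LD1_c15 LD2_c11 LD3_c10)) = (LP (LK LD1_c10 LD2_c7 LD3_c47)) :=
  Lgr Lrot104 (Lpr_ct (f279361 IH) (Lpr_df (K21.f279362 IH) (Lpr_cf (K16.f237516 IH) (Lpr_gf (f298986 IH) (Lpe (f229733 IH) (Lpe (K18.f229732 IH) (Lpe (K20.f229723 IH) (Lpr_gt (K21.f229160 IH) (Lpr_ct (f331424 IH) (Lpn (LP (LK LD1_c10 LD2_c7 LD3_c47))))))))))))
theorem f279366 : Led Lsl_ct (LP (LK LD1_c8 LD2_c4 LD3_c2)) = (LP (LK LD1_c15 LD2_c11 LD3_c10)) :=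
  Lre_c IH (LK LD1_c8 LD2_c4 LD3_c2) (LK LD1_c15 LD2_c11 LD3_c10) Lrfl Lrfl
theorem f279348 : Led Lsl_bt (LP (LK LD1_c8 LD2_c4 LD3_c2)) = (LP (LK LD1_c15 LD2_c11 LD3_c4)) :=
  Lre_b IH (LK LD1_c8 LD2_c4 LD3_c2) (LK LD1_c15 LD2_c11 LD3_c4) Lrfl Lrfl
theorem f331433 : Led Lsl_gf (LP (LK LD1_c17 LD2_c45 LD3_c45)) = (LP (LK LD1_c15 LD2_c11 LD3_c4)) :=
  Lgr Lrot181 (Lpe (f327493 IH) (Lpr_gt (f183995 IH) (Lpe (K9.f182226 IH) (Lpe (K18.f230450 IH) (Lpe (K18.f184235 IH) (Lpe (K21.f325916 IH) (Lpr_ct (f331424 IH) (Lpe (f331431 IH) (Lpe (f279366 IH) (Lpr_bt (f279348 IH) (Lpn (LP (LK LD1_c15 LD2_c11 LD3_c4)))))))))))))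
theorem f331435 : Led Lsl_af (LP (LK LD1_c9 LD2_c39 LD3_c30)) = (LP (LK LD1_c8 LD2_c3 LD3_c58)) :=
  Lgr Lrot31 (Lpe (f43827 IH) (Lpr_gf (f331433 IH) (Lpr_ft (K16.f279338 IH) (Lpn (LP (LK LD1_c8 LD2_c3 LD3_c58))))))
theorem f231837 : Led Lsl_ct (LP (LK LD1_c9 LD2_c39 LD3_c30)) = (LP (LK LD1_c17 LD2_c45 LD3_c44)) :=
  Lre_c IH (LK LD1_c9 LD2_c39 LD3_c30) (LK LD1_c17 LD2_c45 LD3_c44) Lrfl Lrfl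
theorem f331463 : Led Lsl_at (LP (LK LD1_c17 LD2_c45 LD3_c44)) = (LP (LK LD1_c15 LD2_c11 LD3_c1)) :=
  Lgr Lrot107 (Lpe (f231837 IH) (Lpr_af (f331435 IH) (Lpe (K20.f193182 IH) (Lpn (LP (LK LD1_c15 LD2_c11 LD3_c1))))))
theorem f321142 : Led Lsl_ff (LP (LK LD1_c18 LD2_c58 LD3_c54)) = (LP (LK LD1_c17 LD2_c45 LD3_c44)) :=
  Lgr Lrot23 (Lpr_ct (K21.f321113 IH) (Lpr_ft (K17.f231846 IH) (Lpr_ct (f231837 IH) (Lpn (LP (LK LD1_c17 LD2_c45 LD3_c44))))))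
theorem f321145 : Led Lsl_ft (LP (LK LD1_c18 LD2_c58 LD3_c54)) = (LP (LK LD1_c17 LD2_c45 LD3_c44)) :=
  Lgr Lrot48 (Lpr_ff (f321142 IH) (Lpn (LP (LK LD1_c17 LD2_c45 LD3_c44))))
theorem f252169 : Led Lsl_at (LP (LK LD1_c10 LD2_c7 LD3_c58)) = (LP (LK LD1_c17 LD2_c46 LD3_c54)) :=
  Lgr Lrot100 (Lpr_af (K14.f252165 IH) (Lpn (LP (LK LD1_c17 LD2_c46 LD3_c54))))
theorem f282105 : Led Lsl_af (LP (LK LD1_c15 LD2_c11 LD3_c4)) = (LP (LK LD1_c17 LD2_c45 LD3_c46)) :=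
  Lgr Lrot50 (Lpr_et (K16.f279346 IH) (Lpr_at (f252169 IH) (Lpr_et (K17.f282103 IH) (Lpn (LP (LK LD1_c17 LD2_c45 LD3_c46))))))
theorem f331410 : Led Lsl_at (LP (LK LD1_c18 LD2_c39 LD3_c2)) = (LP (LK LD1_c18 LD2_c58 LD3_c54)) :=
  Lgr Lrot107 (Lpr_cf (f331408 IH) (Lpr_af (f282105 IH) (Lpe (K21.f321113 IH) (Lpn (LP (LK LD1_c18 LD2_c58 LD3_c54))))))
theorem f331467 : Led Lsl_ff (LP (LK LD1_c18 LD2_c39 LD3_c2)) = (LP (LK LD1_c15 LD2_c11 LD3_c1)) :=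
  Lgr Lrot30 (Lpr_at (f331410 IH) (Lpr_ft (f321145 IH) (Lpr_at (f331463 IH) (Lpn (LP (LK LD1_c15 LD2_c11 LD3_c1))))))
theorem f279336 : Led Lsl_ff (LP (LK LD1_c8 LD2_c3 LD3_c57)) = (LP (LK LD1_c5 LD2_c8 LD3_c45)) :=
  Lgr Lrot23 (Lpr_ct (K10.f182049 IH) (Lpr_ft (K16.f279332 IH) (Lpr_ct (K13.f190307 IH) (Lpn (LP (LK LD1_c5 LD2_c8 LD3_c45))))))
theorem f190327 : Led Lsl_et (LP (LK LD1_c10 LD2_c7 LD3_c55)) = (LP (LK LD1_c5 LD2_c8 LD3_c45)) :=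
  Lre_e IH (LK LD1_c10 LD2_c7 LD3_c55) (LK LD1_c5 LD2_c8 LD3_c45) Lrfl Lrfl
theorem f242930 : Led Lsl_gt (LP (LK LD1_c18 LD2_c19 LD3_c45)) = (LP (LK LD1_c10 LD2_c1 LD3_c47)) :=
  Lre_g IH (LK LD1_c18 LD2_c19 LD3_c45) (LK LD1_c10 LD2_c1 LD3_c47) Lrfl Lrfl
theorem f192289 : Led Lsl_ct (LP (LK LD1_c17 LD2_c46 LD3_c53)) = (LP (LK LD1_c9 LD2_c40 LD3_c2)) :=
  Lre_c IH (LK LD1_c17 LD2_c46 LD3_c53) (LK LD1_c9 LD2_c40 LD3_c2) Lrfl Lrfl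
theorem f235428 : Led Lsl_ct (LP (LK LD1_c5 LD2_c8 LD3_c46)) = (LP (LK LD1_c10 LD2_c7 LD3_c55)) :=
  Lre_c IH (LK LD1_c5 LD2_c8 LD3_c46) (LK LD1_c10 LD2_c7 LD3_c55) Lrfl Lrfl
theorem f279326 : Led Lsl_af (LP (LK LD1_c17 LD2_c46 LD3_c53)) = (LP (LK LD1_c10 LD2_c7 LD3_c55)) :=
  Lgr Lrot68 (Lpr_ct (f192289 IH) (Lpr_at (K16.f279323 IH) (Lpr_ct (f235428 IH) (Lpn (LP (LK LD1_c10 LD2_c7 LD3_c55))))))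
theorem f326721 : Led Lsl_ft (LP (LK LD1_c18 LD2_c19 LD3_c45)) = (LP (LK LD1_c10 LD2_c7 LD3_c55)) :=
  Lgr Lrot2 (Lpr_gt (f242930 IH) (Lpr_gt (K21.f326715 IH) (Lpr_af (f279326 IH) (Lpn (LP (LK LD1_c10 LD2_c7 LD3_c55))))))
theorem f331469 : Led Lsl_et (LP (LK LD1_c18 LD2_c39 LD3_c2)) = (LP (LK LD1_c18 LD2_c19 LD3_c45)) :=
  Lgr Lrot69 (Lpr_ff (f331467 IH) (Lpe (K20.f230068 IH) (Lpr_ff (f279336 IH) (Lpe (f190327 IH) (Lpe (f326721 IH) (Lpn (LP (LK LD1_c18 LD2_c19 LD3_c45))))))))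
theorem f331474 : Led Lsl_ef (LP (LK LD1_c18 LD2_c39 LD3_c2)) = (LP (LK LD1_c18 LD2_c19 LD3_c45)) :=
  Lgr Lrot88 (Lpr_et (f331469 IH) (Lpn (LP (LK LD1_c18 LD2_c19 LD3_c45))))
theorem f331412 : Led Lsl_ct (LP (LK LD1_c18 LD2_c39 LD3_c2)) = (LP (LK LD1_c15 LD2_c11 LD3_c4)) :=
  Lgr Lrot59 (Lpr_cf (f331408 IH) (Lpn (LP (LK LD1_c15 LD2_c11 LD3_c4))))
theorem f331476 : Led Lsl_ct (LP (LK LD1_c10 LD2_c7 LD3_c58)) = (LP (LK LD1_c18 LD2_c19 LD3_c45)) :=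
  Lgr Lrot15 (Lpe (K16.f279346 IH) (Lpe (f331412 IH) (Lpr_ef (f331474 IH) (Lpn (LP (LK LD1_c18 LD2_c19 LD3_c45))))))
theorem f257610 : Led Lsl_ct (LP (LK LD1_c5 LD2_c2 LD3_c8)) = (LP (LK LD1_c9 LD2_c54 LD3_c60)) :=
  Lre_c IH (LK LD1_c5 LD2_c2 LD3_c8) (LK LD1_c9 LD2_c54 LD3_c60) Lrfl Lrfl
theorem f266167 : Led Lsl_et (LP (LK LD1_c5 LD2_c2 LD3_c7)) = (LP (LK LD1_c9 LD2_c54 LD3_c60)) :=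
  Lre_e IH (LK LD1_c5 LD2_c2 LD3_c7) (LK LD1_c9 LD2_c54 LD3_c60) Lrfl Lrfl
theorem f43784 : Led Lsl_dt (LP (LK LD1_c4 LD2_c54 LD3_c9)) = (LP (LK LD1_c9 LD2_c39 LD3_c46)) :=
  Lre_d IH (LK LD1_c4 LD2_c54 LD3_c9) (LK LD1_c9 LD2_c39 LD3_c46) Lrfl Lrfl
theorem f214939 : Led Lsl_et (LP (LK LD1_c8 LD2_c51 LD3_c61)) = (LP (LK LD1_c16 LD2_c34 LD3_c42)) :=
  Lre_e IH (LK LD1_c8 LD2_c51 LD3_c61) (LK LD1_c16 LD2_c34 LD3_c42) Lrfl Lrfl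
theorem f266169 : Led Lsl_gt (LP (LK LD1_c9 LD2_c54 LD3_c60)) = (LP (LK LD1_c16 LD2_c34 LD3_c42)) :=
  Lgr Lrot131 (Lpe (f266167 IH) (Lpr_dt (K15.f249475 IH) (Lpr_gf (K15.f266159 IH) (Lpe (f43784 IH) (Lpe (K14.f43780 IH) (Lpr_ef (K12.f44337 IH) (Lpr_dt (K14.f43899 IH) (Lpe (K14.f31519 IH) (Lpe (K16.f214937 IH) (Lpr_et (f214939 IH) (Lpn (LP (LK LD1_c16 LD2_c34 LD3_c42)))))))))))))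
theorem f266174 : Led Lsl_ct (LP (LK LD1_c8 LD2_c52 LD3_c0)) = (LP (LK LD1_c16 LD2_c34 LD3_c42)) :=
  Lre_c IH (LK LD1_c8 LD2_c52 LD3_c0) (LK LD1_c16 LD2_c34 LD3_c42) Lrfl Lrfl
theorem f304216 : Led Lsl_bt (LP (LK LD1_c8 LD2_c52 LD3_c0)) = (LP (LK LD1_c8 LD2_c5 LD3_c42)) :=
  Lgr Lrot22 (Lpr_ct (f266174 IH) (Lpe (f266169 IH) (Lpe (f257610 IH) (Lpe (K18.f257603 IH) (Lpe (K18.f300085 IH) (Lpr_ct (K17.f289926 IH) (Lpe (K18.f304214 IH) (Lpr_cf (K18.f304202 IH) (Lpe (K18.f304113 IH) (Lpr_gf (K19.f269289 IH) (Lpn (LP (LK LD1_c8 LD2_c5 LD3_c42)))))))))))))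
theorem f257677 : Led Lsl_ft (LP (LK LD1_c9 LD2_c54 LD3_c60)) = (LP (LK LD1_c18 LD2_c9 LD3_c10)) :=
  Lre_f IH (LK LD1_c9 LD2_c54 LD3_c60) (LK LD1_c18 LD2_c9 LD3_c10) Lrfl Lrfl
theorem f257607 : Led Lsl_ft (LP (LK LD1_c5 LD2_c2 LD3_c8)) = (LP (LK LD1_c9 LD2_c55 LD3_c0)) :=
  Lre_f IH (LK LD1_c5 LD2_c2 LD3_c8) (LK LD1_c9 LD2_c55 LD3_c0) Lrfl Lrfl
theorem f257608 : Led Lsl_at (LP (LK LD1_c9 LD2_c55 LD3_c0)) = (LP (LK LD1_c5 LD2_c2 LD3_c60)) :=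
  Lgr Lrot26 (Lpe (f257607 IH) (Lpr_gt (K15.f257601 IH) (Lpr_gt (K18.f192152 IH) (Lpn (LP (LK LD1_c5 LD2_c2 LD3_c60))))))
theorem f257650 : Led Lsl_ct (LP (LK LD1_c18 LD2_c9 LD3_c10)) = (LP (LK LD1_c9 LD2_c55 LD3_c0)) :=
  Lre_c IH (LK LD1_c18 LD2_c9 LD3_c10) (LK LD1_c9 LD2_c55 LD3_c0) Lrfl Lrfl
theorem f257651 : Led Lsl_ct (LP (LK LD1_c5 LD2_c2 LD3_c60)) = (LP (LK LD1_c9 LD2_c56 LD3_c53)) :=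
  Lre_c IH (LK LD1_c5 LD2_c2 LD3_c60) (LK LD1_c9 LD2_c56 LD3_c53) Lrfl Lrfl
theorem f257652 : Led Lsl_af (LP (LK LD1_c18 LD2_c9 LD3_c10)) = (LP (LK LD1_c9 LD2_c56 LD3_c53)) :=
  Lgr Lrot68 (Lpr_ct (f257650 IH) (Lpr_at (f257608 IH) (Lpr_ct (f257651 IH) (Lpn (LP (LK LD1_c9 LD2_c56 LD3_c53))))))
theorem f257656 : Led Lsl_at (LP (LK LD1_c18 LD2_c9 LD3_c10)) = (LP (LK LD1_c9 LD2_c56 LD3_c53)) :=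
  Lgr Lrot100 (Lpr_af (f257652 IH) (Lpn (LP (LK LD1_c9 LD2_c56 LD3_c53))))
theorem f266171 : Led Lsl_gf (LP (LK LD1_c9 LD2_c56 LD3_c53)) = (LP (LK LD1_c16 LD2_c34 LD3_c42)) :=
  Lgr Lrot76 (Lpe (f257656 IH) (Lpe (f257677 IH) (Lpr_gt (f266169 IH) (Lpn (LP (LK LD1_c16 LD2_c34 LD3_c42))))))
theorem f257649 : Led Lsl_bt (LP (LK LD1_c5 LD2_c2 LD3_c60)) = (LP (LK LD1_c9 LD2_c56 LD3_c52)) :=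
  Lre_b IH (LK LD1_c5 LD2_c2 LD3_c60) (LK LD1_c9 LD2_c56 LD3_c52) Lrfl Lrfl
theorem f331480 : Led Lsl_gf (LP (LK LD1_c10 LD2_c7 LD3_c58)) = (LP (LK LD1_c9 LD2_c56 LD3_c52)) :=
  Lgr Lrot181 (Lpr_ct (f331476 IH) (Lpr_gt (f242930 IH) (Lpe (K21.f242929 IH) (Lpr_bt (K15.f242917 IH) (Lpe (K19.f246101 IH) (Lpe (f304216 IH) (Lpr_ct (f266174 IH) (Lpe (f266171 IH) (Lpe (f257651 IH) (Lpr_bt (f257649 IH) (Lpn (LP (LK LD1_c9 LD2_c56 LD3_c52)))))))))))))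
theorem f235392 : Led Lsl_ct (LP (LK LD1_c2 LD2_c31 LD3_c36)) = (LP (LK LD1_c5 LD2_c8 LD3_c50)) :=
  Lre_c IH (LK LD1_c2 LD2_c31 LD3_c36) (LK LD1_c5 LD2_c8 LD3_c50) Lrfl Lrfl
theorem f239813 : Led Lsl_at (LP (LK LD1_c5 LD2_c8 LD3_c50)) = (LP (LK LD1_c8 LD2_c4 LD3_c5)) :=
  Lgr Lrot107 (Lpe (f235392 IH) (Lpr_af (K13.f239808 IH) (Lpe (K21.f195679 IH) (Lpn (LP (LK LD1_c8 LD2_c4 LD3_c5))))))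
theorem f330332 : Led Lsl_ft (LP (LK LD1_c10 LD2_c8 LD3_c5)) = (LP (LK LD1_c5 LD2_c8 LD3_c50)) :=
  Lre_f IH (LK LD1_c10 LD2_c8 LD3_c5) (LK LD1_c5 LD2_c8 LD3_c50) Lrfl Lrfl
theorem f330333 : Led Lsl_gf (LP (LK LD1_c9 LD2_c52 LD3_c44)) = (LP (LK LD1_c10 LD2_c8 LD3_c5)) :=
  Lgr Lrot47 (Lpr_gt (K21.f330330 IH) (Lpe (f239813 IH) (Lpe (f330332 IH) (Lpn (LP (LK LD1_c10 LD2_c8 LD3_c5))))))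
theorem f290865 : Led Lsl_et (LP (LK LD1_c5 LD2_c4 LD3_c49)) = (LP (LK LD1_c10 LD2_c0 LD3_c42)) :=
  Lre_e IH (LK LD1_c5 LD2_c4 LD3_c49) (LK LD1_c10 LD2_c0 LD3_c42) Lrfl Lrfl
theorem f274856 : Led Lsl_et (LP (LK LD1_c2 LD2_c10 LD3_c45)) = (LP (LK LD1_c4 LD2_c10 LD3_c8)) :=
  Lgr Lrot158 (Lpr_cf (K10.f182070 IH) (Lpe (K16.f182076 IH) (Lpr_cf (K16.f274846 IH) (Lpn (LP (LK LD1_c4 LD2_c10 LD3_c8))))))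
theorem f254473 : Led Lsl_et (LP (LK LD1_c8 LD2_c52 LD3_c0)) = (LP (LK LD1_c4 LD2_c27 LD3_c8)) :=
  Lre_e IH (LK LD1_c8 LD2_c52 LD3_c0) (LK LD1_c4 LD2_c27 LD3_c8) Lrfl Lrfl
theorem f290866 : Led Lsl_dt (LP (LK LD1_c10 LD2_c0 LD3_c42)) = (LP (LK LD1_c8 LD2_c52 LD3_c0)) :=
  Lgr Lrot77 (Lpe (f290865 IH) (Lpr_df (K19.f290861 IH) (Lpe (f274856 IH) (Lpe (K14.f44281 IH) (Lpe (f254473 IH) (Lpn (LP (LK LD1_c8 LD2_c52 LD3_c0))))))))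
theorem f291264 : Led Lsl_df (LP (LK LD1_c10 LD2_c0 LD3_c42)) = (LP (LK LD1_c8 LD2_c52 LD3_c0)) :=
  Lgr Lrot38 (Lpr_dt (f290866 IH) (Lpn (LP (LK LD1_c8 LD2_c52 LD3_c0))))
theorem f291267 : Led Lsl_gt (LP (LK LD1_c10 LD2_c0 LD3_c42)) = (LP (LK LD1_c18 LD2_c17 LD3_c40)) :=
  Lre_g IH (LK LD1_c10 LD2_c0 LD3_c42) (LK LD1_c18 LD2_c17 LD3_c40) Lrfl Lrfl
theorem f229970 : Led Lsl_gt (LP (LK LD1_c10 LD2_c27 LD3_c60)) = (LP (LK LD1_c5 LD2_c19 LD3_c4)) :=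
  Lre_g IH (LK LD1_c10 LD2_c27 LD3_c60) (LK LD1_c5 LD2_c19 LD3_c4) Lrfl Lrfl
theorem f254472 : Led Lsl_et (LP (LK LD1_c18 LD2_c58 LD3_c17)) = (LP (LK LD1_c10 LD2_c27 LD3_c60)) :=
  Lre_e IH (LK LD1_c18 LD2_c58 LD3_c17) (LK LD1_c10 LD2_c27 LD3_c60) Lrfl Lrfl
theorem f291269 : Led Lsl_df (LP (LK LD1_c18 LD2_c17 LD3_c40)) = (LP (LK LD1_c18 LD2_c58 LD3_c17)) :=
  Lgr Lrot168 (Lpe (f291267 IH) (Lpr_df (f291264 IH) (Lpr_et (f254473 IH) (Lpe (K14.f254461 IH) (Lpe (K14.f183949 IH) (Lpr_dt (K14.f183950 IH) (Lpr_gf (K14.f251004 IH) (Lpr_df (K14.f254470 IH) (Lpe (f229970 IH) (Lpe (f254472 IH) (Lpn (LP (LK LD1_c18 LD2_c58 LD3_c17)))))))))))))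
theorem f257032 : Led Lsl_df (LP (LK LD1_c5 LD2_c24 LD3_c22)) = (LP (LK LD1_c5 LD2_c17 LD3_c38)) :=
  Lgr Lrot38 (Lpr_dt (K15.f257030 IH) (Lpn (LP (LK LD1_c5 LD2_c17 LD3_c38))))
theorem f257034 : Led Lsl_et (LP (LK LD1_c5 LD2_c17 LD3_c38)) = (LP (LK LD1_c10 LD2_c24 LD3_c54)) :=
  Lre_e IH (LK LD1_c5 LD2_c17 LD3_c38) (LK LD1_c10 LD2_c24 LD3_c54) Lrfl Lrfl
theorem f291278 : Led Lsl_gf (LP (LK LD1_c8 LD2_c52 LD3_c0)) = (LP (LK LD1_c10 LD2_c24 LD3_c54)) :=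
  Lgr Lrot138 (Lpe (f291264 IH) (Lpr_gt (f291267 IH) (Lpr_df (f291269 IH) (Lpr_et (f254472 IH) (Lpr_gt (f229970 IH) (Lpe (K14.f229951 IH) (Lpr_dt (K14.f44280 IH) (Lpe (K15.f255881 IH) (Lpr_df (f257032 IH) (Lpr_et (f257034 IH) (Lpn (LP (LK LD1_c10 LD2_c24 LD3_c54)))))))))))))
theorem f331484 : Led Lsl_bt (LP (LK LD1_c8 LD2_c3 LD3_c21)) = (LP (LK LD1_c10 LD2_c24 LD3_c54)) :=
  Lgr Lrot130 (Lpe (K21.f330328 IH) (Lpr_gf (f330333 IH) (Lpe (K13.f239843 IH) (Lpr_bt (K21.f239897 IH) (Lpr_gf (f331480 IH) (Lpe (f257649 IH) (Lpr_ct (f257651 IH) (Lpr_gf (f266171 IH) (Lpe (f266174 IH) (Lpr_gf (f291278 IH) (Lpn (LP (LK LD1_c10 LD2_c24 LD3_c54)))))))))))))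
theorem f331486 : Led Lsl_ff (LP (LK LD1_c10 LD2_c20 LD3_c21)) = (LP (LK LD1_c10 LD2_c24 LD3_c54)) :=
  Lgr Lrot25 (Lpe (K21.f330484 IH) (Lpr_ft (K21.f312265 IH) (Lpr_bt (f331484 IH) (Lpn (LP (LK LD1_c10 LD2_c24 LD3_c54))))))
theorem f331494 : Led Lsl_ft (LP (LK LD1_c10 LD2_c20 LD3_c21)) = (LP (LK LD1_c10 LD2_c24 LD3_c54)) :=
  Lgr Lrot48 (Lpr_ff (f331486 IH) (Lpn (LP (LK LD1_c10 LD2_c24 LD3_c54))))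
theorem f331502 : Led Lsl_df (LP (LK LD1_c5 LD2_c23 LD3_c61)) = (LP (LK LD1_c10 LD2_c24 LD3_c54)) :=
  Lgr Lrot78 (Lpr_ft (K19.f224799 IH) (Lpe (K20.f306498 IH) (Lpr_ft (f331494 IH) (Lpn (LP (LK LD1_c10 LD2_c24 LD3_c54))))))
theorem f55170 : Led Lsl_et (LP (LK LD1_c4 LD2_c55 LD3_c36)) = (LP (LK LD1_c2 LD2_c25 LD3_c38)) :=
  Lre_e IH (LK LD1_c4 LD2_c55 LD3_c36) (LK LD1_c2 LD2_c25 LD3_c38) Lrfl Lrfl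
theorem f318366 : Led Lsl_cf (LP (LK LD1_c4 LD2_c55 LD3_c36)) = (LP (LK LD1_c5 LD2_c23 LD3_c61)) :=
  Lgr Lrot39 (Lpr_et (f55170 IH) (Lpr_ct (K20.f318358 IH) (Lpr_et (K19.f224798 IH) (Lpn (LP (LK LD1_c5 LD2_c23 LD3_c61))))))
theorem f55171 : Led Lsl_dt (LP (LK LD1_c4 LD2_c55 LD3_c36)) = (LP (LK LD1_c9 LD2_c42 LD3_c54)) :=
  Lre_d IH (LK LD1_c4 LD2_c55 LD3_c36) (LK LD1_c9 LD2_c42 LD3_c54) Lrfl Lrfl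
theorem f330761 : Led Lsl_ct (LP (LK LD1_c9 LD2_c42 LD3_c54)) = (LP (LK LD1_c17 LD2_c52 LD3_c0)) :=
  Lre_c IH (LK LD1_c9 LD2_c42 LD3_c54) (LK LD1_c17 LD2_c52 LD3_c0) Lrfl Lrfl
theorem f331527 : Led Lsl_dt (LP (LK LD1_c17 LD2_c52 LD3_c0)) = (LP (LK LD1_c27 LD2_c38 LD3_c39)) :=
  Lre_d IH (LK LD1_c17 LD2_c52 LD3_c0) (LK LD1_c27 LD2_c38 LD3_c39) Lrfl Lrfl
theorem f224815 : Led Lsl_at (LP (LK LD1_c5 LD2_c24 LD3_c6)) = (LP (LK LD1_c10 LD2_c38 LD3_c42)) :=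
  Lre_a IH (LK LD1_c5 LD2_c24 LD3_c6) (LK LD1_c10 LD2_c38 LD3_c42) Lrfl Lrfl
theorem f330471 : Led Lsl_af (LP (LK LD1_c10 LD2_c16 LD3_c45)) = (LP (LK LD1_c10 LD2_c20 LD3_c21)) :=
  Lgr Lrot117 (Lpr_dt (K21.f330458 IH) (Lpr_at (f224815 IH) (Lpe (K20.f306498 IH) (Lpn (LP (LK LD1_c10 LD2_c20 LD3_c21))))))
theorem f306381 : Led Lsl_ft (LP (LK LD1_c9 LD2_c55 LD3_c6)) = (LP (LK LD1_c18 LD2_c9 LD3_c20)) :=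
  Lre_f IH (LK LD1_c9 LD2_c55 LD3_c6) (LK LD1_c18 LD2_c9 LD3_c20) Lrfl Lrfl
theorem f306382 : Led Lsl_at (LP (LK LD1_c18 LD2_c9 LD3_c20)) = (LP (LK LD1_c9 LD2_c56 LD3_c49)) :=
  Lgr Lrot26 (Lpe (f306381 IH) (Lpr_gt (K19.f306377 IH) (Lpr_gt (K21.f249101 IH) (Lpn (LP (LK LD1_c9 LD2_c56 LD3_c49))))))
theorem f306392 : Led Lsl_af (LP (LK LD1_c18 LD2_c9 LD3_c20)) = (LP (LK LD1_c9 LD2_c56 LD3_c49)) :=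
  Lgr Lrot0 (Lpr_at (f306382 IH) (Lpn (LP (LK LD1_c9 LD2_c56 LD3_c49))))
theorem f330492 : Led Lsl_ct (LP (LK LD1_c18 LD2_c9 LD3_c20)) = (LP (LK LD1_c10 LD2_c16 LD3_c45)) :=
  Lgr Lrot111 (Lpr_af (f306392 IH) (Lpr_cf (K21.f330490 IH) (Lpe (K21.f330480 IH) (Lpn (LP (LK LD1_c10 LD2_c16 LD3_c45))))))
theorem f306396 : Led Lsl_dt (LP (LK LD1_c27 LD2_c49 LD3_c45)) = (LP (LK LD1_c18 LD2_c9 LD3_c20)) :=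
  Lre_d IH (LK LD1_c27 LD2_c49 LD3_c45) (LK LD1_c18 LD2_c9 LD3_c20) Lrfl Lrfl
theorem f331528 : Led Lsl_ct (LP (LK LD1_c27 LD2_c38 LD3_c39)) = (LP (LK LD1_c27 LD2_c49 LD3_c45)) :=
  Lgr Lrot53 (Lpe (f331527 IH) (Lpe (f330761 IH) (Lpe (f55171 IH) (Lpr_cf (f318366 IH) (Lpr_df (f331502 IH) (Lpe (f331486 IH) (Lpe (f330471 IH) (Lpe (f330492 IH) (Lpe (f306396 IH) (Lpn (LP (LK LD1_c27 LD2_c49 LD3_c45))))))))))))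
theorem f331538 : Led Lsl_ft (LP (LK LD1_c4 LD2_c55 LD3_c36)) = (LP (LK LD1_c9 LD2_c42 LD3_c55)) :=
  Lre_f IH (LK LD1_c4 LD2_c55 LD3_c36) (LK LD1_c9 LD2_c42 LD3_c55) Lrfl Lrfl
theorem f318336 : Led Lsl_ct (LP (LK LD1_c5 LD2_c24 LD3_c6)) = (LP (LK LD1_c10 LD2_c38 LD3_c52)) :=
  Lre_c IH (LK LD1_c5 LD2_c24 LD3_c6) (LK LD1_c10 LD2_c38 LD3_c52) Lrfl Lrfl
theorem f331539 : Led Lsl_at (LP (LK LD1_c9 LD2_c42 LD3_c55)) = (LP (LK LD1_c10 LD2_c38 LD3_c52)) :=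
  Lgr Lrot33 (Lpe (f331538 IH) (Lpr_dt (f55171 IH) (Lpr_ct (f330761 IH) (Lpr_dt (f331527 IH) (Lpr_ct (f331528 IH) (Lpr_dt (f306396 IH) (Lpr_ct (f330492 IH) (Lpr_dt (K21.f330458 IH) (Lpr_ct (f318336 IH) (Lpn (LP (LK LD1_c10 LD2_c38 LD3_c52))))))))))))
theorem f331550 : Led Lsl_ft (LP (LK LD1_c10 LD2_c38 LD3_c52)) = (LP (LK LD1_c5 LD2_c24 LD3_c2)) :=
  Lre_f IH (LK LD1_c10 LD2_c38 LD3_c52) (LK LD1_c5 LD2_c24 LD3_c2) Lrfl Lrfl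
theorem f331551 : Led Lsl_af (LP (LK LD1_c4 LD2_c55 LD3_c36)) = (LP (LK LD1_c5 LD2_c24 LD3_c2)) :=
  Lgr Lrot45 (Lpr_ft (f331538 IH) (Lpr_at (f331539 IH) (Lpr_ft (f331550 IH) (Lpn (LP (LK LD1_c5 LD2_c24 LD3_c2))))))
theorem f261268 : Led Lsl_et (LP (LK LD1_c2 LD2_c38 LD3_c33)) = (LP (LK LD1_c5 LD2_c24 LD3_c2)) :=
  Lre_e IH (LK LD1_c2 LD2_c38 LD3_c33) (LK LD1_c5 LD2_c24 LD3_c2) Lrfl Lrfl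
theorem f331564 : Led Lsl_at (LP (LK LD1_c2 LD2_c25 LD3_c38)) = (LP (LK LD1_c2 LD2_c38 LD3_c33)) :=
  Lgr Lrot80 (Lpe (f55170 IH) (Lpr_af (f331551 IH) (Lpe (f261268 IH) (Lpn (LP (LK LD1_c2 LD2_c38 LD3_c33))))))
theorem f318368 : Led Lsl_ff (LP (LK LD1_c2 LD2_c25 LD3_c38)) = (LP (LK LD1_c4 LD2_c54 LD3_c38)) :=
  Lgr Lrot23 (Lpr_ct (K20.f318358 IH) (Lpe (K20.f224802 IH) (Lpe (K12.f223870 IH) (Lpn (LP (LK LD1_c4 LD2_c54 LD3_c38))))))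
theorem f318352 : Led Lsl_ff (LP (LK LD1_c2 LD2_c25 LD3_c39)) = (LP (LK LD1_c2 LD2_c38 LD3_c33)) :=
  Lgr Lrot23 (Lpr_ct (K12.f167932 IH) (Lpr_ft (K20.f318348 IH) (Lpr_ct (K9.f173111 IH) (Lpn (LP (LK LD1_c2 LD2_c38 LD3_c33))))))
theorem f331578 : Led Lsl_af (LP (LK LD1_c4 LD2_c54 LD3_c38)) = (LP (LK LD1_c2 LD2_c25 LD3_c39)) :=
  Lgr Lrot45 (Lpe (f318368 IH) (Lpr_at (f331564 IH) (Lpe (f318352 IH) (Lpn (LP (LK LD1_c2 LD2_c25 LD3_c39))))))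
theorem f224780 : Led Lsl_et (LP (LK LD1_c4 LD2_c54 LD3_c38)) = (LP (LK LD1_c9 LD2_c40 LD3_c53)) :=
  Lre_e IH (LK LD1_c4 LD2_c54 LD3_c38) (LK LD1_c9 LD2_c40 LD3_c53) Lrfl Lrfl
theorem f55166 : Led Lsl_et (LP (LK LD1_c4 LD2_c55 LD3_c39)) = (LP (LK LD1_c2 LD2_c25 LD3_c39)) :=
  Lre_e IH (LK LD1_c4 LD2_c55 LD3_c39) (LK LD1_c2 LD2_c25 LD3_c39) Lrfl Lrfl
theorem f331587 : Led Lsl_at (LP (LK LD1_c9 LD2_c40 LD3_c53)) = (LP (LK LD1_c4 LD2_c55 LD3_c39)) :=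
  Lgr Lrot80 (Lpe (f224780 IH) (Lpr_af (f331578 IH) (Lpe (f55166 IH) (Lpn (LP (LK LD1_c4 LD2_c55 LD3_c39))))))
theorem f224778 : Led Lsl_ft (LP (LK LD1_c17 LD2_c48 LD3_c31)) = (LP (LK LD1_c9 LD2_c40 LD3_c53)) :=
  Lre_f IH (LK LD1_c17 LD2_c48 LD3_c31) (LK LD1_c9 LD2_c40 LD3_c53) Lrfl Lrfl
theorem f168690 : Led Lsl_ft (LP (LK LD1_c4 LD2_c55 LD3_c39)) = (LP (LK LD1_c9 LD2_c43 LD3_c1)) :=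
  Lre_f IH (LK LD1_c4 LD2_c55 LD3_c39) (LK LD1_c9 LD2_c43 LD3_c1) Lrfl Lrfl
theorem f331591 : Led Lsl_af (LP (LK LD1_c17 LD2_c48 LD3_c31)) = (LP (LK LD1_c9 LD2_c43 LD3_c1)) :=
  Lgr Lrot45 (Lpr_ft (f224778 IH) (Lpr_at (f331587 IH) (Lpr_ft (f168690 IH) (Lpn (LP (LK LD1_c9 LD2_c43 LD3_c1))))))
theorem f168681 : Led Lsl_ft (LP (LK LD1_c9 LD2_c43 LD3_c1)) = (LP (LK LD1_c4 LD2_c55 LD3_c39)) :=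
  Lre_f IH (LK LD1_c9 LD2_c43 LD3_c1) (LK LD1_c4 LD2_c55 LD3_c39) Lrfl Lrfl
theorem f168682 : Led Lsl_cf (LP (LK LD1_c9 LD2_c43 LD3_c1)) = (LP (LK LD1_c10 LD2_c31 LD3_c43)) :=
  Lgr Lrot108 (Lpr_ft (f168681 IH) (Lpr_ct (K18.f167935 IH) (Lpr_ft (K20.f42242 IH) (Lpn (LP (LK LD1_c10 LD2_c31 LD3_c43))))))
theorem f168686 : Led Lsl_ct (LP (LK LD1_c9 LD2_c43 LD3_c1)) = (LP (LK LD1_c10 LD2_c31 LD3_c43)) :=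
  Lgr Lrot59 (Lpr_cf (f168682 IH) (Lpn (LP (LK LD1_c10 LD2_c31 LD3_c43))))
theorem f318337 : Led Lsl_ef (LP (LK LD1_c9 LD2_c43 LD3_c1)) = (LP (LK LD1_c10 LD2_c38 LD3_c52)) :=
  Lgr Lrot28 (Lpr_ct (f168686 IH) (Lpr_et (K20.f318330 IH) (Lpr_ct (f318336 IH) (Lpn (LP (LK LD1_c10 LD2_c38 LD3_c52))))))
theorem f331595 : Led Lsl_et (LP (LK LD1_c17 LD2_c48 LD3_c31)) = (LP (LK LD1_c9 LD2_c42 LD3_c55)) :=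
  Lgr Lrot123 (Lpr_af (f331591 IH) (Lpr_ef (f318337 IH) (Lpe (f331539 IH) (Lpn (LP (LK LD1_c9 LD2_c42 LD3_c55))))))
theorem f224773 : Led Lsl_ft (LP (LK LD1_c9 LD2_c40 LD3_c53)) = (LP (LK LD1_c17 LD2_c48 LD3_c31)) :=
  Lre_f IH (LK LD1_c9 LD2_c40 LD3_c53) (LK LD1_c17 LD2_c48 LD3_c31) Lrfl Lrfl
theorem f331603 : Led Lsl_ft (LP (LK LD1_c9 LD2_c42 LD3_c55)) = (LP (LK LD1_c4 LD2_c55 LD3_c36)) :=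
  Lre_f IH (LK LD1_c9 LD2_c42 LD3_c55) (LK LD1_c4 LD2_c55 LD3_c36) Lrfl Lrfl
theorem f331604 : Led Lsl_ff (LP (LK LD1_c4 LD2_c54 LD3_c38)) = (LP (LK LD1_c2 LD2_c25 LD3_c38)) :=
  Lgr Lrot72 (Lpr_et (f224780 IH) (Lpr_ft (f224773 IH) (Lpr_et (f331595 IH) (Lpr_ft (f331603 IH) (Lpr_et (f55170 IH) (Lpn (LP (LK LD1_c2 LD2_c25 LD3_c38))))))))
theorem f331608 : Led Lsl_ft (LP (LK LD1_c9 LD2_c40 LD3_c52)) = (LP (LK LD1_c4 LD2_c55 LD3_c35)) :=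
  Lgr Lrot54 (Lpe (K12.f41037 IH) (Lpr_ff (f331604 IH) (Lpe (K14.f218517 IH) (Lpn (LP (LK LD1_c4 LD2_c55 LD3_c35))))))
theorem f331612 : Led Lsl_ff (LP (LK LD1_c9 LD2_c40 LD3_c52)) = (LP (LK LD1_c4 LD2_c55 LD3_c35)) :=
  Lgr Lrot3 (Lpr_ft (f331608 IH) (Lpn (LP (LK LD1_c4 LD2_c55 LD3_c35))))
theorem f224701 : Led Lsl_bt (LP (LK LD1_c9 LD2_c40 LD3_c52)) = (LP (LK LD1_c17 LD2_c48 LD3_c29)) :=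
  Lre_b IH (LK LD1_c9 LD2_c40 LD3_c52) (LK LD1_c17 LD2_c48 LD3_c29) Lrfl Lrfl
theorem f218678 : Led Lsl_bt (LP (LK LD1_c9 LD2_c42 LD3_c50)) = (LP (LK LD1_c4 LD2_c55 LD3_c35)) :=
  Lre_b IH (LK LD1_c9 LD2_c42 LD3_c50) (LK LD1_c4 LD2_c55 LD3_c35) Lrfl Lrfl
theorem f331666 : Led Lsl_ft (LP (LK LD1_c17 LD2_c48 LD3_c29)) = (LP (LK LD1_c9 LD2_c42 LD3_c50)) :=
  Lgr Lrot75 (Lpe (f224701 IH) (Lpr_ff (f331612 IH) (Lpe (f218678 IH) (Lpn (LP (LK LD1_c9 LD2_c42 LD3_c50))))))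
theorem f224789 : Led Lsl_dt (LP (LK LD1_c9 LD2_c40 LD3_c51)) = (LP (LK LD1_c17 LD2_c48 LD3_c29)) :=
  Lre_d IH (LK LD1_c9 LD2_c40 LD3_c51) (LK LD1_c17 LD2_c48 LD3_c29) Lrfl Lrfl
theorem f331674 : Led Lsl_dt (LP (LK LD1_c9 LD2_c42 LD3_c50)) = (LP (LK LD1_c4 LD2_c55 LD3_c34)) :=
  Lre_d IH (LK LD1_c9 LD2_c42 LD3_c50) (LK LD1_c4 LD2_c55 LD3_c34) Lrfl Lrfl
theorem f331675 : Led Lsl_ff (LP (LK LD1_c9 LD2_c40 LD3_c51)) = (LP (LK LD1_c4 LD2_c55 LD3_c34)) :=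
  Lgr Lrot19 (Lpr_dt (f224789 IH) (Lpr_ft (f331666 IH) (Lpr_dt (f331674 IH) (Lpn (LP (LK LD1_c4 LD2_c55 LD3_c34))))))
theorem f331582 : Led Lsl_at (LP (LK LD1_c9 LD2_c40 LD3_c51)) = (LP (LK LD1_c17 LD2_c48 LD3_c28)) :=
  Lre_a IH (LK LD1_c9 LD2_c40 LD3_c51) (LK LD1_c17 LD2_c48 LD3_c28) Lrfl Lrfl
theorem f331572 : Led Lsl_at (LP (LK LD1_c9 LD2_c42 LD3_c48)) = (LP (LK LD1_c4 LD2_c55 LD3_c34)) :=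
  Lre_a IH (LK LD1_c9 LD2_c42 LD3_c48) (LK LD1_c4 LD2_c55 LD3_c34) Lrfl Lrfl
theorem f331681 : Led Lsl_ft (LP (LK LD1_c17 LD2_c48 LD3_c28)) = (LP (LK LD1_c9 LD2_c42 LD3_c48)) :=
  Lgr Lrot101 (Lpe (f331582 IH) (Lpr_ff (f331675 IH) (Lpe (f331572 IH) (Lpn (LP (LK LD1_c9 LD2_c42 LD3_c48))))))
theorem f331698 : Led Lsl_ff (LP (LK LD1_c17 LD2_c48 LD3_c28)) = (LP (LK LD1_c9 LD2_c42 LD3_c48)) :=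
  Lgr Lrot3 (Lpr_ft (f331681 IH) (Lpn (LP (LK LD1_c9 LD2_c42 LD3_c48))))
theorem f224767 : Led Lsl_bt (LP (LK LD1_c4 LD2_c54 LD3_c38)) = (LP (LK LD1_c9 LD2_c40 LD3_c51)) :=
  Lre_b IH (LK LD1_c4 LD2_c54 LD3_c38) (LK LD1_c9 LD2_c40 LD3_c51) Lrfl Lrfl
theorem f41158 : Led Lsl_bt (LP (LK LD1_c4 LD2_c55 LD3_c37)) = (LP (LK LD1_c2 LD2_c25 LD3_c39)) :=
  Lre_b IH (LK LD1_c4 LD2_c55 LD3_c37) (LK LD1_c2 LD2_c25 LD3_c39) Lrfl Lrfl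
theorem f168707 : Led Lsl_at (LP (LK LD1_c9 LD2_c42 LD3_c58)) = (LP (LK LD1_c4 LD2_c55 LD3_c37)) :=
  Lre_a IH (LK LD1_c9 LD2_c42 LD3_c58) (LK LD1_c4 LD2_c55 LD3_c37) Lrfl Lrfl
theorem f331583 : Led Lsl_bt (LP (LK LD1_c17 LD2_c48 LD3_c28)) = (LP (LK LD1_c9 LD2_c42 LD3_c58)) :=
  Lgr Lrot62 (Lpe (f331582 IH) (Lpe (f224767 IH) (Lpr_af (f331578 IH) (Lpe (f41158 IH) (Lpe (f168707 IH) (Lpn (LP (LK LD1_c9 LD2_c42 LD3_c58))))))))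
theorem f41153 : Led Lsl_bt (LP (LK LD1_c4 LD2_c55 LD3_c34)) = (LP (LK LD1_c2 LD2_c25 LD3_c38)) :=
  Lre_b IH (LK LD1_c4 LD2_c55 LD3_c34) (LK LD1_c2 LD2_c25 LD3_c38) Lrfl Lrfl
theorem f331573 : Led Lsl_at (LP (LK LD1_c5 LD2_c24 LD3_c0)) = (LP (LK LD1_c10 LD2_c38 LD3_c45)) :=
  Lre_a IH (LK LD1_c5 LD2_c24 LD3_c0) (LK LD1_c10 LD2_c38 LD3_c45) Lrfl Lrfl
theorem f331574 : Led Lsl_bf (LP (LK LD1_c9 LD2_c42 LD3_c48)) = (LP (LK LD1_c10 LD2_c38 LD3_c45)) :=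
  Lgr Lrot81 (Lpr_at (f331572 IH) (Lpr_bt (f41153 IH) (Lpr_at (f331564 IH) (Lpr_bt (K18.f196826 IH) (Lpr_at (f331573 IH) (Lpn (LP (LK LD1_c10 LD2_c38 LD3_c45))))))))
theorem f331708 : Led Lsl_ft (LP (LK LD1_c9 LD2_c42 LD3_c58)) = (LP (LK LD1_c10 LD2_c38 LD3_c45)) :=
  Lgr Lrot75 (Lpe (f331583 IH) (Lpr_ff (f331698 IH) (Lpr_bf (f331574 IH) (Lpn (LP (LK LD1_c10 LD2_c38 LD3_c45))))))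
theorem f331734 : Led Lsl_ff (LP (LK LD1_c9 LD2_c42 LD3_c58)) = (LP (LK LD1_c10 LD2_c38 LD3_c45)) :=
  Lgr Lrot3 (Lpr_ft (f331708 IH) (Lpn (LP (LK LD1_c10 LD2_c38 LD3_c45))))
theorem f168701 : Led Lsl_at (LP (LK LD1_c4 LD2_c55 LD3_c37)) = (LP (LK LD1_c9 LD2_c42 LD3_c58)) :=
  Lre_a IH (LK LD1_c4 LD2_c55 LD3_c37) (LK LD1_c9 LD2_c42 LD3_c58) Lrfl Lrfl
theorem f168702 : Led Lsl_at (LP (LK LD1_c10 LD2_c31 LD3_c46)) = (LP (LK LD1_c5 LD2_c20 LD3_c50)) :=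
  Lre_a IH (LK LD1_c10 LD2_c31 LD3_c46) (LK LD1_c5 LD2_c20 LD3_c50) Lrfl Lrfl
theorem f168703 : Led Lsl_ct (LP (LK LD1_c9 LD2_c42 LD3_c58)) = (LP (LK LD1_c10 LD2_c31 LD3_c46)) :=
  Lgr Lrot111 (Lpe (f168701 IH) (Lpr_cf (K18.f168698 IH) (Lpe (f168702 IH) (Lpn (LP (LK LD1_c10 LD2_c31 LD3_c46))))))
theorem f331719 : Led Lsl_ct (LP (LK LD1_c5 LD2_c24 LD3_c12)) = (LP (LK LD1_c10 LD2_c38 LD3_c45)) :=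
  Lre_c IH (LK LD1_c5 LD2_c24 LD3_c12) (LK LD1_c10 LD2_c38 LD3_c45) Lrfl Lrfl
theorem f331740 : Led Lsl_ft (LP (LK LD1_c10 LD2_c31 LD3_c46)) = (LP (LK LD1_c5 LD2_c24 LD3_c12)) :=
  Lgr Lrot4 (Lpe (f168703 IH) (Lpr_ff (f331734 IH) (Lpe (f331719 IH) (Lpn (LP (LK LD1_c5 LD2_c24 LD3_c12))))))
theorem f218554 : Led Lsl_dt (LP (LK LD1_c9 LD2_c41 LD3_c14)) = (LP (LK LD1_c4 LD2_c54 LD3_c54)) :=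
  Lre_d IH (LK LD1_c9 LD2_c41 LD3_c14) (LK LD1_c4 LD2_c54 LD3_c54) Lrfl Lrfl
theorem f187347 : Led Lsl_dt (LP (LK LD1_c2 LD2_c25 LD3_c12)) = (LP (LK LD1_c2 LD2_c0 LD3_c32)) :=
  Lgr Lrot42 (Lpr_df (K12.f187340 IH) (Lpn (LP (LK LD1_c2 LD2_c0 LD3_c32))))
theorem f252099 : Led Lsl_gf (LP (LK LD1_c9 LD2_c41 LD3_c14)) = (LP (LK LD1_c9 LD2_c40 LD3_c52)) :=
  Lgr Lrot143 (Lpr_dt (f218554 IH) (Lpe (K12.f169258 IH) (Lpr_df (K14.f252089 IH) (Lpe (K14.f250474 IH) (Lpe (f187347 IH) (Lpe (K9.f55290 IH) (Lpe (K12.f169315 IH) (Lpr_gt (K12.f41036 IH) (Lpr_dt (K12.f41037 IH) (Lpn (LP (LK LD1_c9 LD2_c40 LD3_c52))))))))))))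
theorem f221587 : Led Lsl_dt (LP (LK LD1_c4 LD2_c54 LD3_c54)) = (LP (LK LD1_c9 LD2_c41 LD3_c14)) :=
  Lre_d IH (LK LD1_c4 LD2_c54 LD3_c54) (LK LD1_c9 LD2_c41 LD3_c14) Lrfl Lrfl
theorem f261256 : Led Lsl_gf (LP (LK LD1_c5 LD2_c24 LD3_c1)) = (LP (LK LD1_c9 LD2_c41 LD3_c14)) :=
  Lgr Lrot143 (Lpr_dt (K19.f173135 IH) (Lpe (K9.f173111 IH) (Lpe (K12.f173120 IH) (Lpe (K14.f246591 IH) (Lpe (K12.f196616 IH) (Lpe (K12.f196596 IH) (Lpe (K13.f196600 IH) (Lpr_gt (K15.f261254 IH) (Lpr_dt (f221587 IH) (Lpn (LP (LK LD1_c9 LD2_c41 LD3_c14))))))))))))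
theorem f331614 : Led Lsl_af (LP (LK LD1_c5 LD2_c24 LD3_c1)) = (LP (LK LD1_c4 LD2_c55 LD3_c35)) :=
  Lgr Lrot31 (Lpr_gf (f261256 IH) (Lpr_gf (f252099 IH) (Lpr_ft (f331608 IH) (Lpn (LP (LK LD1_c4 LD2_c55 LD3_c35))))))
theorem f173136 : Led Lsl_et (LP (LK LD1_c5 LD2_c24 LD3_c1)) = (LP (LK LD1_c10 LD2_c38 LD3_c48)) :=
  Lre_e IH (LK LD1_c5 LD2_c24 LD3_c1) (LK LD1_c10 LD2_c38 LD3_c48) Lrfl Lrfl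
theorem f218648 : Led Lsl_et (LP (LK LD1_c9 LD2_c42 LD3_c53)) = (LP (LK LD1_c4 LD2_c55 LD3_c35)) :=
  Lre_e IH (LK LD1_c9 LD2_c42 LD3_c53) (LK LD1_c4 LD2_c55 LD3_c35) Lrfl Lrfl
theorem f331617 : Led Lsl_at (LP (LK LD1_c10 LD2_c38 LD3_c48)) = (LP (LK LD1_c9 LD2_c42 LD3_c53)) :=
  Lgr Lrot80 (Lpe (f173136 IH) (Lpr_af (f331614 IH) (Lpe (f218648 IH) (Lpn (LP (LK LD1_c9 LD2_c42 LD3_c53))))))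
theorem f223762 : Led Lsl_et (LP (LK LD1_c5 LD2_c20 LD3_c51)) = (LP (LK LD1_c10 LD2_c31 LD3_c49)) :=
  Lre_e IH (LK LD1_c5 LD2_c20 LD3_c51) (LK LD1_c10 LD2_c31 LD3_c49) Lrfl Lrfl
theorem f224678 : Led Lsl_et (LP (LK LD1_c10 LD2_c38 LD3_c48)) = (LP (LK LD1_c5 LD2_c24 LD3_c1)) :=
  Lre_e IH (LK LD1_c10 LD2_c38 LD3_c48) (LK LD1_c5 LD2_c24 LD3_c1) Lrfl Lrfl
theorem f224679 : Led Lsl_ct (LP (LK LD1_c10 LD2_c31 LD3_c49)) = (LP (LK LD1_c10 LD2_c38 LD3_c48)) :=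
  Lgr Lrot15 (Lpe (f223762 IH) (Lpr_cf (K12.f224656 IH) (Lpe (f224678 IH) (Lpn (LP (LK LD1_c10 LD2_c38 LD3_c48))))))
theorem f218620 : Led Lsl_et (LP (LK LD1_c4 LD2_c55 LD3_c35)) = (LP (LK LD1_c9 LD2_c42 LD3_c53)) :=
  Lre_e IH (LK LD1_c4 LD2_c55 LD3_c35) (LK LD1_c9 LD2_c42 LD3_c53) Lrfl Lrfl
theorem f218621 : Led Lsl_et (LP (LK LD1_c5 LD2_c24 LD3_c40)) = (LP (LK LD1_c2 LD2_c38 LD3_c52)) :=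
  Lre_e IH (LK LD1_c5 LD2_c24 LD3_c40) (LK LD1_c2 LD2_c38 LD3_c52) Lrfl Lrfl
theorem f218622 : Led Lsl_ct (LP (LK LD1_c9 LD2_c42 LD3_c53)) = (LP (LK LD1_c5 LD2_c24 LD3_c40)) :=
  Lgr Lrot15 (Lpe (f218620 IH) (Lpr_cf (K20.f218229 IH) (Lpe (f218621 IH) (Lpn (LP (LK LD1_c5 LD2_c24 LD3_c40))))))
theorem f331622 : Led Lsl_af (LP (LK LD1_c10 LD2_c31 LD3_c49)) = (LP (LK LD1_c5 LD2_c24 LD3_c40)) :=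
  Lgr Lrot68 (Lpr_ct (f224679 IH) (Lpr_at (f331617 IH) (Lpr_ct (f218622 IH) (Lpn (LP (LK LD1_c5 LD2_c24 LD3_c40))))))
theorem f331624 : Led Lsl_at (LP (LK LD1_c10 LD2_c31 LD3_c49)) = (LP (LK LD1_c5 LD2_c24 LD3_c40)) :=
  Lgr Lrot100 (Lpr_af (f331622 IH) (Lpn (LP (LK LD1_c5 LD2_c24 LD3_c40))))
theorem f331633 : Led Lsl_af (LP (LK LD1_c5 LD2_c20 LD3_c51)) = (LP (LK LD1_c2 LD2_c38 LD3_c52)) :=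
  Lgr Lrot50 (Lpr_et (f223762 IH) (Lpr_at (f331624 IH) (Lpr_et (f218621 IH) (Lpn (LP (LK LD1_c2 LD2_c38 LD3_c52))))))
theorem f224672 : Led Lsl_bt (LP (LK LD1_c5 LD2_c20 LD3_c51)) = (LP (LK LD1_c10 LD2_c31 LD3_c47)) :=
  Lre_b IH (LK LD1_c5 LD2_c20 LD3_c51) (LK LD1_c10 LD2_c31 LD3_c47) Lrfl Lrfl
theorem f331638 : Led Lsl_at (LP (LK LD1_c10 LD2_c31 LD3_c47)) = (LP (LK LD1_c19 LD2_c4 LD3_c39)) :=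
  Lre_a IH (LK LD1_c10 LD2_c31 LD3_c47) (LK LD1_c19 LD2_c4 LD3_c39) Lrfl Lrfl
theorem f218617 : Led Lsl_bt (LP (LK LD1_c5 LD2_c24 LD3_c39)) = (LP (LK LD1_c2 LD2_c38 LD3_c52)) :=
  Lre_b IH (LK LD1_c5 LD2_c24 LD3_c39) (LK LD1_c2 LD2_c38 LD3_c52) Lrfl Lrfl
theorem f331639 : Led Lsl_at (LP (LK LD1_c10 LD2_c39 LD3_c55)) = (LP (LK LD1_c5 LD2_c24 LD3_c39)) :=
  Lre_a IH (LK LD1_c10 LD2_c39 LD3_c55) (LK LD1_c5 LD2_c24 LD3_c39) Lrfl Lrfl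
theorem f331640 : Led Lsl_bt (LP (LK LD1_c19 LD2_c4 LD3_c39)) = (LP (LK LD1_c10 LD2_c39 LD3_c55)) :=
  Lgr Lrot62 (Lpe (f331638 IH) (Lpe (f224672 IH) (Lpr_af (f331633 IH) (Lpe (f218617 IH) (Lpe (f331639 IH) (Lpn (LP (LK LD1_c10 LD2_c39 LD3_c55))))))))
theorem f168718 : Led Lsl_dt (LP (LK LD1_c10 LD2_c31 LD3_c46)) = (LP (LK LD1_c19 LD2_c4 LD3_c39)) :=
  Lre_d IH (LK LD1_c10 LD2_c31 LD3_c46) (LK LD1_c19 LD2_c4 LD3_c39) Lrfl Lrfl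
theorem f331651 : Led Lsl_dt (LP (LK LD1_c10 LD2_c39 LD3_c55)) = (LP (LK LD1_c5 LD2_c24 LD3_c38)) :=
  Lre_d IH (LK LD1_c10 LD2_c39 LD3_c55) (LK LD1_c5 LD2_c24 LD3_c38) Lrfl Lrfl
theorem f331652 : Led Lsl_bf (LP (LK LD1_c10 LD2_c31 LD3_c46)) = (LP (LK LD1_c5 LD2_c24 LD3_c38)) :=
  Lgr Lrot93 (Lpr_dt (f168718 IH) (Lpr_bt (f331640 IH) (Lpr_dt (f331651 IH) (Lpn (LP (LK LD1_c5 LD2_c24 LD3_c38))))))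
theorem f224458 : Led Lsl_bt (LP (LK LD1_c5 LD2_c20 LD3_c44)) = (LP (LK LD1_c2 LD2_c36 LD3_c61)) :=
  Lre_b IH (LK LD1_c5 LD2_c20 LD3_c44) (LK LD1_c2 LD2_c36 LD3_c61) Lrfl Lrfl
theorem f235168 : Led Lsl_at (LP (LK LD1_c10 LD2_c31 LD3_c33)) = (LP (LK LD1_c5 LD2_c20 LD3_c44)) :=
  Lre_a IH (LK LD1_c10 LD2_c31 LD3_c33) (LK LD1_c5 LD2_c20 LD3_c44) Lrfl Lrfl
theorem f318282 : Led Lsl_bt (LP (LK LD1_c1 LD2_c16 LD3_c13)) = (LP (LK LD1_c2 LD2_c38 LD3_c38)) :=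
  Lre_b IH (LK LD1_c1 LD2_c16 LD3_c13) (LK LD1_c2 LD2_c38 LD3_c38) Lrfl Lrfl
theorem f318283 : Led Lsl_at (LP (LK LD1_c2 LD2_c38 LD3_c38)) = (LP (LK LD1_c5 LD2_c24 LD3_c12)) :=
  Lre_a IH (LK LD1_c2 LD2_c38 LD3_c38) (LK LD1_c5 LD2_c24 LD3_c12) Lrfl Lrfl
theorem f318284 : Led Lsl_bf (LP (LK LD1_c10 LD2_c31 LD3_c33)) = (LP (LK LD1_c5 LD2_c24 LD3_c12)) :=
  Lgr Lrot81 (Lpr_at (f235168 IH) (Lpr_bt (f224458 IH) (Lpr_at (K20.f318278 IH) (Lpr_bt (f318282 IH) (Lpr_at (f318283 IH) (Lpn (LP (LK LD1_c5 LD2_c24 LD3_c12))))))))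
theorem f331749 : Led Lsl_ff (LP (LK LD1_c5 LD2_c24 LD3_c38)) = (LP (LK LD1_c10 LD2_c31 LD3_c33)) :=
  Lgr Lrot25 (Lpe (f331652 IH) (Lpr_ft (f331740 IH) (Lpe (f318284 IH) (Lpn (LP (LK LD1_c10 LD2_c31 LD3_c33))))))
theorem f318247 : Led Lsl_at (LP (LK LD1_c5 LD2_c24 LD3_c38)) = (LP (LK LD1_c2 LD2_c38 LD3_c51)) :=
  Lre_a IH (LK LD1_c5 LD2_c24 LD3_c38) (LK LD1_c2 LD2_c38 LD3_c51) Lrfl Lrfl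
theorem f331783 : Led Lsl_gf (LP (LK LD1_c5 LD2_c24 LD3_c37)) = (LP (LK LD1_c10 LD2_c31 LD3_c33)) :=
  Lgr Lrot47 (Lpr_gt (K20.f213004 IH) (Lpe (f318247 IH) (Lpr_ff (f331749 IH) (Lpn (LP (LK LD1_c10 LD2_c31 LD3_c33))))))
theorem f218446 : Led Lsl_bt (LP (LK LD1_c10 LD2_c39 LD3_c52)) = (LP (LK LD1_c5 LD2_c24 LD3_c37)) :=
  Lre_b IH (LK LD1_c10 LD2_c39 LD3_c52) (LK LD1_c5 LD2_c24 LD3_c37) Lrfl Lrfl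
theorem f218455 : Led Lsl_ct (LP (LK LD1_c10 LD2_c39 LD3_c52)) = (LP (LK LD1_c10 LD2_c41 LD3_c19)) :=
  Lre_c IH (LK LD1_c10 LD2_c39 LD3_c52) (LK LD1_c10 LD2_c41 LD3_c19) Lrfl Lrfl
theorem f331785 : Led Lsl_gt (LP (LK LD1_c10 LD2_c41 LD3_c19)) = (LP (LK LD1_c5 LD2_c25 LD3_c19)) :=
  Lre_g IH (LK LD1_c10 LD2_c41 LD3_c19) (LK LD1_c5 LD2_c25 LD3_c19) Lrfl Lrfl
theorem f226243 : Led Lsl_ct (LP (LK LD1_c2 LD2_c39 LD3_c6)) = (LP (LK LD1_c5 LD2_c25 LD3_c19)) :=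
  Lre_c IH (LK LD1_c2 LD2_c39 LD3_c6) (LK LD1_c5 LD2_c25 LD3_c19) Lrfl Lrfl
theorem f331786 : Led Lsl_bt (LP (LK LD1_c2 LD2_c39 LD3_c6)) = (LP (LK LD1_c5 LD2_c25 LD3_c18)) :=
  Lre_b IH (LK LD1_c2 LD2_c39 LD3_c6) (LK LD1_c5 LD2_c25 LD3_c18) Lrfl Lrfl
theorem f331787 : Led Lsl_gt (LP (LK LD1_c5 LD2_c25 LD3_c18)) = (LP (LK LD1_c10 LD2_c41 LD3_c32)) :=
  Lre_g IH (LK LD1_c5 LD2_c25 LD3_c18) (LK LD1_c10 LD2_c41 LD3_c32) Lrfl Lrfl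
theorem f331743 : Led Lsl_gf (LP (LK LD1_c9 LD2_c42 LD3_c57)) = (LP (LK LD1_c10 LD2_c38 LD3_c45)) :=
  Lgr Lrot47 (Lpr_gt (K18.f168714 IH) (Lpe (f168707 IH) (Lpr_ff (f331734 IH) (Lpn (LP (LK LD1_c10 LD2_c38 LD3_c45))))))
theorem f331745 : Led Lsl_gt (LP (LK LD1_c9 LD2_c42 LD3_c56)) = (LP (LK LD1_c10 LD2_c38 LD3_c45)) :=
  Lgr Lrot5 (Lpr_ft (K18.f297431 IH) (Lpr_at (K18.f297420 IH) (Lpr_gf (f331743 IH) (Lpn (LP (LK LD1_c10 LD2_c38 LD3_c45))))))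
theorem f331788 : Led Lsl_ct (LP (LK LD1_c10 LD2_c41 LD3_c32)) = (LP (LK LD1_c9 LD2_c42 LD3_c56)) :=
  Lgr Lrot91 (Lpe (f331787 IH) (Lpe (f331786 IH) (Lpr_ct (f226243 IH) (Lpe (f331785 IH) (Lpe (f218455 IH) (Lpr_bt (f218446 IH) (Lpr_gf (f331783 IH) (Lpr_bf (f318284 IH) (Lpr_ct (f331719 IH) (Lpe (f331745 IH) (Lpn (LP (LK LD1_c9 LD2_c42 LD3_c56)))))))))))))
theorem f201536 : Led Lsl_df (LP (LK LD1_c8 LD2_c44 LD3_c59)) = (LP (LK LD1_c8 LD2_c1 LD3_c43)) :=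
  Lgr Lrot38 (Lpr_dt (K18.f201530 IH) (Lpn (LP (LK LD1_c8 LD2_c1 LD3_c43))))
theorem f331792 : Led Lsl_df (LP (LK LD1_c10 LD2_c41 LD3_c32)) = (LP (LK LD1_c16 LD2_c22 LD3_c39)) :=
  Lgr Lrot43 (Lpr_ct (f331788 IH) (Lpe (K18.f246376 IH) (Lpr_ct (K18.f211125 IH) (Lpr_dt (K18.f297424 IH) (Lpr_ct (K18.f297425 IH) (Lpr_dt (K18.f210759 IH) (Lpr_ct (K18.f197789 IH) (Lpr_dt (K18.f246619 IH) (Lpe (K18.f223757 IH) (Lpe (K18.f297418 IH) (Lpr_ct (K18.f237450 IH) (Lpr_dt (K18.f225123 IH) (Lpr_ct (K18.f237448 IH) (Lpe (f201536 IH) (Lpr_ct (K18.f201541 IH) (Lpn (LP (LK LD1_c16 LD2_c22 LD3_c39))))))))))))))))))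
theorem f331796 : Led Lsl_at (LP (LK LD1_c14 LD2_c58 LD3_c21)) = (LP (LK LD1_c7 LD2_c56 LD3_c15)) :=
  Lre_a IH (LK LD1_c14 LD2_c58 LD3_c21) (LK LD1_c7 LD2_c56 LD3_c15) Lrfl Lrfl
theorem f331797 : Led Lsl_ft (LP (LK LD1_c8 LD2_c43 LD3_c26)) = (LP (LK LD1_c14 LD2_c58 LD3_c21)) :=
  Lgr Lrot142 (Lpr_dt (K18.f225123 IH) (Lpr_ct (K18.f237448 IH) (Lpe (f201536 IH) (Lpr_ct (K18.f201541 IH) (Lpe (f331792 IH) (Lpr_ct (f331788 IH) (Lpe (K18.f246376 IH) (Lpr_ct (K18.f211125 IH) (Lpe (f331796 IH) (Lpn (LP (LK LD1_c14 LD2_c58 LD3_c21))))))))))))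
theorem f331805 : Led Lsl_ff (LP (LK LD1_c8 LD2_c43 LD3_c26)) = (LP (LK LD1_c14 LD2_c58 LD3_c21)) :=
  Lgr Lrot3 (Lpr_ft (f331797 IH) (Lpn (LP (LK LD1_c14 LD2_c58 LD3_c21))))
theorem f297451 : Led Lsl_dt (LP (LK LD1_c7 LD2_c56 LD3_c14)) = (LP (LK LD1_c14 LD2_c58 LD3_c21)) :=
  Lre_d IH (LK LD1_c7 LD2_c56 LD3_c14) (LK LD1_c14 LD2_c58 LD3_c21) Lrfl Lrfl
theorem f331808 : Led Lsl_ft (LP (LK LD1_c4 LD2_c22 LD3_c48)) = (LP (LK LD1_c7 LD2_c56 LD3_c14)) :=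
  Lgr Lrot54 (Lpe (K18.f225123 IH) (Lpr_ff (f331805 IH) (Lpe (f297451 IH) (Lpn (LP (LK LD1_c7 LD2_c56 LD3_c14))))))
theorem f246625 : Led Lsl_at (LP (LK LD1_c7 LD2_c56 LD3_c14)) = (LP (LK LD1_c3 LD2_c57 LD3_c17)) :=
  Lre_a IH (LK LD1_c7 LD2_c56 LD3_c14) (LK LD1_c3 LD2_c57 LD3_c17) Lrfl Lrfl
theorem f331816 : Led Lsl_ff (LP (LK LD1_c2 LD2_c8 LD3_c50)) = (LP (LK LD1_c3 LD2_c57 LD3_c17)) :=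
  Lgr Lrot30 (Lpr_at (K18.f225114 IH) (Lpr_ft (f331808 IH) (Lpr_at (f246625 IH) (Lpn (LP (LK LD1_c3 LD2_c57 LD3_c17))))))
theorem f225129 : Led Lsl_at (LP (LK LD1_c4 LD2_c22 LD3_c48)) = (LP (LK LD1_c2 LD2_c8 LD3_c50)) :=
  Lre_a IH (LK LD1_c4 LD2_c22 LD3_c48) (LK LD1_c2 LD2_c8 LD3_c50) Lrfl Lrfl
theorem f237428 : Led Lsl_cf (LP (LK LD1_c4 LD2_c22 LD3_c48)) = (LP (LK LD1_c8 LD2_c1 LD3_c43)) :=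
  Lgr Lrot1 (Lpr_at (f225129 IH) (Lpr_ct (K18.f237426 IH) (Lpr_at (K18.f69729 IH) (Lpn (LP (LK LD1_c8 LD2_c1 LD3_c43))))))
theorem f201535 : Led Lsl_ct (LP (LK LD1_c16 LD2_c22 LD3_c39)) = (LP (LK LD1_c8 LD2_c44 LD3_c59)) :=
  Lre_c IH (LK LD1_c16 LD2_c22 LD3_c39) (LK LD1_c8 LD2_c44 LD3_c59) Lrfl Lrfl
theorem f236832 : Led Lsl_dt (LP (LK LD1_c3 LD2_c57 LD3_c17)) = (LP (LK LD1_c7 LD2_c56 LD3_c15)) :=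
  Lre_d IH (LK LD1_c3 LD2_c57 LD3_c17) (LK LD1_c7 LD2_c56 LD3_c15) Lrfl Lrfl
theorem f331790 : Led Lsl_cf (LP (LK LD1_c10 LD2_c41 LD3_c32)) = (LP (LK LD1_c9 LD2_c42 LD3_c56)) :=
  Lgr Lrot11 (Lpr_ct (f331788 IH) (Lpn (LP (LK LD1_c9 LD2_c42 LD3_c56))))
theorem f331822 : Led Lsl_df (LP (LK LD1_c16 LD2_c22 LD3_c39)) = (LP (LK LD1_c10 LD2_c41 LD3_c32)) :=
  Lgr Lrot13 (Lpr_ct (f201535 IH) (Lpr_dt (K18.f201530 IH) (Lpe (f237428 IH) (Lpe (K18.f225114 IH) (Lpr_ff (f331816 IH) (Lpr_dt (f236832 IH) (Lpr_ct (K18.f211120 IH) (Lpr_dt (K18.f297449 IH) (Lpe (f331790 IH) (Lpn (LP (LK LD1_c10 LD2_c41 LD3_c32))))))))))))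
theorem f225127 : Led Lsl_dt (LP (LK LD1_c4 LD2_c22 LD3_c48)) = (LP (LK LD1_c8 LD2_c43 LD3_c26)) :=
  Lre_d IH (LK LD1_c4 LD2_c22 LD3_c48) (LK LD1_c8 LD2_c43 LD3_c26) Lrfl Lrfl
theorem f237459 : Led Lsl_ct (LP (LK LD1_c8 LD2_c43 LD3_c26)) = (LP (LK LD1_c16 LD2_c20 LD3_c16)) :=
  Lre_c IH (LK LD1_c8 LD2_c43 LD3_c26) (LK LD1_c16 LD2_c20 LD3_c16) Lrfl Lrfl
theorem f297422 : Led Lsl_dt (LP (LK LD1_c16 LD2_c20 LD3_c16)) = (LP (LK LD1_c9 LD2_c42 LD3_c57)) :=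
  Lgr Lrot42 (Lpr_df (K18.f297418 IH) (Lpn (LP (LK LD1_c9 LD2_c42 LD3_c57))))
theorem f223769 : Led Lsl_ct (LP (LK LD1_c9 LD2_c42 LD3_c57)) = (LP (LK LD1_c10 LD2_c40 LD3_c19)) :=
  Lgr Lrot59 (Lpr_cf (K18.f223757 IH) (Lpn (LP (LK LD1_c10 LD2_c40 LD3_c19))))
theorem f210774 : Led Lsl_at (LP (LK LD1_c14 LD2_c58 LD3_c60)) = (LP (LK LD1_c24 LD2_c46 LD3_c27)) :=
  Lre_a IH (LK LD1_c14 LD2_c58 LD3_c60) (LK LD1_c24 LD2_c46 LD3_c27) Lrfl Lrfl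
theorem f246621 : Led Lsl_df (LP (LK LD1_c14 LD2_c58 LD3_c60)) = (LP (LK LD1_c10 LD2_c40 LD3_c19)) :=
  Lgr Lrot38 (Lpr_dt (K18.f246619 IH) (Lpn (LP (LK LD1_c10 LD2_c40 LD3_c19))))
theorem f297388 : Led Lsl_at (LP (LK LD1_c19 LD2_c17 LD3_c5)) = (LP (LK LD1_c10 LD2_c40 LD3_c19)) :=
  Lgr Lrot51 (Lpr_df (K18.f297384 IH) (Lpe (f210774 IH) (Lpr_df (f246621 IH) (Lpn (LP (LK LD1_c10 LD2_c40 LD3_c19))))))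
theorem f331826 : Led Lsl_ff (LP (LK LD1_c19 LD2_c17 LD3_c5)) = (LP (LK LD1_c10 LD2_c41 LD3_c32)) :=
  Lgr Lrot103 (Lpr_at (f297388 IH) (Lpe (f223769 IH) (Lpe (f297422 IH) (Lpe (f237459 IH) (Lpe (f225127 IH) (Lpr_cf (f237428 IH) (Lpe (K18.f201530 IH) (Lpe (f201535 IH) (Lpr_df (f331822 IH) (Lpn (LP (LK LD1_c10 LD2_c41 LD3_c32))))))))))))
theorem f223759 : Led Lsl_gt (LP (LK LD1_c19 LD2_c19 LD3_c29)) = (LP (LK LD1_c10 LD2_c40 LD3_c19)) :=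
  Lre_g IH (LK LD1_c19 LD2_c19 LD3_c29) (LK LD1_c10 LD2_c40 LD3_c19) Lrfl Lrfl
theorem f331831 : Led Lsl_gf (LP (LK LD1_c19 LD2_c19 LD3_c29)) = (LP (LK LD1_c10 LD2_c41 LD3_c32)) :=
  Lgr Lrot47 (Lpr_gt (f223759 IH) (Lpe (f297388 IH) (Lpr_ff (f331826 IH) (Lpn (LP (LK LD1_c10 LD2_c41 LD3_c32))))))
theorem f331833 : Led Lsl_ft (LP (LK LD1_c5 LD2_c25 LD3_c18)) = (LP (LK LD1_c10 LD2_c41 LD3_c11)) :=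
  Lre_f IH (LK LD1_c5 LD2_c25 LD3_c18) (LK LD1_c10 LD2_c41 LD3_c11) Lrfl Lrfl
theorem f331834 : Led Lsl_af (LP (LK LD1_c19 LD2_c19 LD3_c29)) = (LP (LK LD1_c10 LD2_c41 LD3_c11)) :=
  Lgr Lrot31 (Lpr_gf (f331831 IH) (Lpe (f331787 IH) (Lpr_ft (f331833 IH) (Lpn (LP (LK LD1_c10 LD2_c41 LD3_c11))))))
theorem f331843 : Led Lsl_et (LP (LK LD1_c19 LD2_c19 LD3_c29)) = (LP (LK LD1_c28 LD2_c44 LD3_c40)) :=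
  Lre_e IH (LK LD1_c19 LD2_c19 LD3_c29) (LK LD1_c28 LD2_c44 LD3_c40) Lrfl Lrfl
theorem f331844 : Led Lsl_et (LP (LK LD1_c19 LD2_c20 LD3_c44)) = (LP (LK LD1_c10 LD2_c41 LD3_c11)) :=
  Lre_e IH (LK LD1_c19 LD2_c20 LD3_c44) (LK LD1_c10 LD2_c41 LD3_c11) Lrfl Lrfl
theorem f331845 : Led Lsl_at (LP (LK LD1_c28 LD2_c44 LD3_c40)) = (LP (LK LD1_c19 LD2_c20 LD3_c44)) :=
  Lgr Lrot80 (Lpe (f331843 IH) (Lpr_af (f331834 IH) (Lpe (f331844 IH) (Lpn (LP (LK LD1_c19 LD2_c20 LD3_c44))))))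
theorem f331863 : Led Lsl_bt (LP (LK LD1_c19 LD2_c20 LD3_c44)) = (LP (LK LD1_c10 LD2_c41 LD3_c13)) :=
  Lre_b IH (LK LD1_c19 LD2_c20 LD3_c44) (LK LD1_c10 LD2_c41 LD3_c13) Lrfl Lrfl
theorem f331864 : Led Lsl_at (LP (LK LD1_c10 LD2_c41 LD3_c13)) = (LP (LK LD1_c5 LD2_c25 LD3_c16)) :=
  Lre_a IH (LK LD1_c10 LD2_c41 LD3_c13) (LK LD1_c5 LD2_c25 LD3_c16) Lrfl Lrfl
theorem f218355 : Led Lsl_bt (LP (LK LD1_c5 LD2_c25 LD3_c16)) = (LP (LK LD1_c10 LD2_c41 LD3_c17)) :=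
  Lre_b IH (LK LD1_c5 LD2_c25 LD3_c16) (LK LD1_c10 LD2_c41 LD3_c17) Lrfl Lrfl
theorem f218325 : Led Lsl_at (LP (LK LD1_c10 LD2_c41 LD3_c17)) = (LP (LK LD1_c19 LD2_c20 LD3_c49)) :=
  Lre_a IH (LK LD1_c10 LD2_c41 LD3_c17) (LK LD1_c19 LD2_c20 LD3_c49) Lrfl Lrfl
theorem f331865 : Led Lsl_bf (LP (LK LD1_c28 LD2_c44 LD3_c40)) = (LP (LK LD1_c19 LD2_c20 LD3_c49)) :=
  Lgr Lrot81 (Lpr_at (f331845 IH) (Lpr_bt (f331863 IH) (Lpr_at (f331864 IH) (Lpr_bt (f218355 IH) (Lpr_at (f218325 IH) (Lpn (LP (LK LD1_c19 LD2_c20 LD3_c49))))))))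
theorem f331868 : Led Lsl_bt (LP (LK LD1_c28 LD2_c44 LD3_c40)) = (LP (LK LD1_c19 LD2_c20 LD3_c49)) :=
  Lgr Lrot127 (Lpr_bf (f331865 IH) (Lpn (LP (LK LD1_c19 LD2_c20 LD3_c49))))
theorem f331875 : Led Lsl_et (LP (LK LD1_c19 LD2_c20 LD3_c49)) = (LP (LK LD1_c10 LD2_c41 LD3_c15)) :=
  Lre_e IH (LK LD1_c19 LD2_c20 LD3_c49) (LK LD1_c10 LD2_c41 LD3_c15) Lrfl Lrfl
theorem f331876 : Led Lsl_bf (LP (LK LD1_c19 LD2_c19 LD3_c29)) = (LP (LK LD1_c10 LD2_c41 LD3_c15)) :=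
  Lgr Lrot96 (Lpr_et (f331843 IH) (Lpr_bt (f331868 IH) (Lpr_et (f331875 IH) (Lpn (LP (LK LD1_c10 LD2_c41 LD3_c15))))))
theorem f51167 : Led Lsl_bt (LP (LK LD1_c8 LD2_c25 LD3_c46)) = (LP (LK LD1_c4 LD2_c13 LD3_c25)) :=
  Lre_b IH (LK LD1_c8 LD2_c25 LD3_c46) (LK LD1_c4 LD2_c13 LD3_c25) Lrfl Lrfl
theorem f331882 : Led Lsl_cf (LP (LK LD1_c8 LD2_c25 LD3_c48)) = (LP (LK LD1_c10 LD2_c41 LD3_c15)) :=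
  Lgr Lrot58 (Lpe (K11.f52849 IH) (Lpe (K10.f51169 IH) (Lpr_bt (f51167 IH) (Lpe (K12.f223748 IH) (Lpe (K18.f167929 IH) (Lpe (K18.f168698 IH) (Lpe (K18.f168714 IH) (Lpr_cf (K18.f223757 IH) (Lpe (f223759 IH) (Lpr_bf (f331876 IH) (Lpn (LP (LK LD1_c10 LD2_c41 LD3_c15)))))))))))))
theorem f297480 : Led Lsl_et (LP (LK LD1_c8 LD2_c25 LD3_c48)) = (LP (LK LD1_c15 LD2_c50 LD3_c3)) :=
  Lre_e IH (LK LD1_c8 LD2_c25 LD3_c48) (LK LD1_c15 LD2_c50 LD3_c3) Lrfl Lrfl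
theorem f331886 : Led Lsl_ct (LP (LK LD1_c15 LD2_c50 LD3_c3)) = (LP (LK LD1_c19 LD2_c20 LD3_c49)) :=
  Lgr Lrot15 (Lpe (f297480 IH) (Lpr_cf (f331882 IH) (Lpe (f331875 IH) (Lpn (LP (LK LD1_c19 LD2_c20 LD3_c49))))))
theorem f331891 : Led Lsl_cf (LP (LK LD1_c15 LD2_c50 LD3_c3)) = (LP (LK LD1_c19 LD2_c20 LD3_c49)) :=
  Lgr Lrot11 (Lpr_ct (f331886 IH) (Lpn (LP (LK LD1_c19 LD2_c20 LD3_c49))))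
theorem f218288 : Led Lsl_et (LP (LK LD1_c8 LD2_c28 LD3_c29)) = (LP (LK LD1_c15 LD2_c54 LD3_c48)) :=
  Lre_e IH (LK LD1_c8 LD2_c28 LD3_c29) (LK LD1_c15 LD2_c54 LD3_c48) Lrfl Lrfl
theorem f218289 : Led Lsl_et (LP (LK LD1_c10 LD2_c41 LD3_c17)) = (LP (LK LD1_c5 LD2_c25 LD3_c13)) :=
  Lre_e IH (LK LD1_c10 LD2_c41 LD3_c17) (LK LD1_c5 LD2_c25 LD3_c13) Lrfl Lrfl
theorem f218290 : Led Lsl_ct (LP (LK LD1_c15 LD2_c54 LD3_c48)) = (LP (LK LD1_c10 LD2_c41 LD3_c17)) :=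
  Lgr Lrot15 (Lpe (f218288 IH) (Lpr_cf (K12.f218241 IH) (Lpe (f218289 IH) (Lpn (LP (LK LD1_c10 LD2_c41 LD3_c17))))))
theorem f331894 : Led Lsl_at (LP (LK LD1_c15 LD2_c50 LD3_c3)) = (LP (LK LD1_c15 LD2_c54 LD3_c48)) :=
  Lgr Lrot107 (Lpr_cf (f331891 IH) (Lpe (f218325 IH) (Lpe (f218290 IH) (Lpn (LP (LK LD1_c15 LD2_c54 LD3_c48))))))
theorem f52873 : Led Lsl_et (LP (LK LD1_c15 LD2_c54 LD3_c48)) = (LP (LK LD1_c8 LD2_c28 LD3_c29)) :=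
  Lre_e IH (LK LD1_c15 LD2_c54 LD3_c48) (LK LD1_c8 LD2_c28 LD3_c29) Lrfl Lrfl
theorem f331898 : Led Lsl_af (LP (LK LD1_c8 LD2_c25 LD3_c48)) = (LP (LK LD1_c8 LD2_c28 LD3_c29)) :=
  Lgr Lrot50 (Lpr_et (f297480 IH) (Lpr_at (f331894 IH) (Lpr_et (f52873 IH) (Lpn (LP (LK LD1_c8 LD2_c28 LD3_c29))))))
theorem f52766 : Led Lsl_gt (LP (LK LD1_c8 LD2_c25 LD3_c49)) = (LP (LK LD1_c4 LD2_c13 LD3_c26)) :=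
  Lre_g IH (LK LD1_c8 LD2_c25 LD3_c49) (LK LD1_c4 LD2_c13 LD3_c26) Lrfl Lrfl
theorem f331900 : Led Lsl_ft (LP (LK LD1_c8 LD2_c25 LD3_c49)) = (LP (LK LD1_c8 LD2_c28 LD3_c29)) :=
  Lgr Lrot2 (Lpr_gt (f52766 IH) (Lpr_gt (K11.f52849 IH) (Lpr_af (f331898 IH) (Lpn (LP (LK LD1_c8 LD2_c28 LD3_c29))))))
theorem f331904 : Led Lsl_ff (LP (LK LD1_c8 LD2_c25 LD3_c49)) = (LP (LK LD1_c8 LD2_c28 LD3_c29)) :=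
  Lgr Lrot3 (Lpr_ft (f331900 IH) (Lpn (LP (LK LD1_c8 LD2_c28 LD3_c29))))
theorem f331909 : Led Lsl_at (LP (LK LD1_c8 LD2_c25 LD3_c49)) = (LP (LK LD1_c8 LD2_c28 LD3_c28)) :=
  Lgr Lrot26 (Lpr_ff (f331904 IH) (Lpr_gt (K12.f52869 IH) (Lpr_gt (K18.f52704 IH) (Lpn (LP (LK LD1_c8 LD2_c28 LD3_c28))))))
theorem f218359 : Led Lsl_at (LP (LK LD1_c5 LD2_c25 LD3_c13)) = (LP (LK LD1_c10 LD2_c41 LD3_c15)) :=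
  Lre_a IH (LK LD1_c5 LD2_c25 LD3_c13) (LK LD1_c10 LD2_c41 LD3_c15) Lrfl Lrfl
theorem f218284 : Led Lsl_ct (LP (LK LD1_c8 LD2_c28 LD3_c29)) = (LP (LK LD1_c5 LD2_c25 LD3_c13)) :=
  Lgr Lrot59 (Lpr_cf (K12.f218241 IH) (Lpn (LP (LK LD1_c5 LD2_c25 LD3_c13))))
theorem f331884 : Led Lsl_at (LP (LK LD1_c8 LD2_c25 LD3_c48)) = (LP (LK LD1_c8 LD2_c28 LD3_c29)) :=
  Lgr Lrot107 (Lpr_cf (f331882 IH) (Lpe (f218359 IH) (Lpe (f218284 IH) (Lpn (LP (LK LD1_c8 LD2_c28 LD3_c29))))))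
theorem f331917 : Led Lsl_ff (LP (LK LD1_c8 LD2_c25 LD3_c48)) = (LP (LK LD1_c8 LD2_c28 LD3_c28)) :=
  Lgr Lrot30 (Lpr_at (f331884 IH) (Lpe (f331904 IH) (Lpr_at (f331909 IH) (Lpn (LP (LK LD1_c8 LD2_c28 LD3_c28))))))
theorem f331925 : Led Lsl_ft (LP (LK LD1_c8 LD2_c25 LD3_c48)) = (LP (LK LD1_c8 LD2_c28 LD3_c28)) :=
  Lgr Lrot48 (Lpr_ff (f331917 IH) (Lpn (LP (LK LD1_c8 LD2_c28 LD3_c28))))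
theorem f278515 : Led Lsl_df (LP (LK LD1_c1 LD2_c9 LD3_c10)) = (LP (LK LD1_c0 LD2_c58 LD3_c19)) :=
  Lgr Lrot38 (Lpr_dt (K16.f278510 IH) (Lpn (LP (LK LD1_c0 LD2_c58 LD3_c19))))
theorem f211437 : Led Lsl_bt (LP (LK LD1_c2 LD2_c24 LD3_c11)) = (LP (LK LD1_c1 LD2_c9 LD3_c7)) :=
  Lre_b IH (LK LD1_c2 LD2_c24 LD3_c11) (LK LD1_c1 LD2_c9 LD3_c7) Lrfl Lrfl
theorem f211438 : Led Lsl_bt (LP (LK LD1_c4 LD2_c3 LD3_c26)) = (LP (LK LD1_c8 LD2_c7 LD3_c26)) :=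
  Lre_b IH (LK LD1_c4 LD2_c3 LD3_c26) (LK LD1_c8 LD2_c7 LD3_c26) Lrfl Lrfl
theorem f211439 : Led Lsl_gt (LP (LK LD1_c8 LD2_c7 LD3_c26)) = (LP (LK LD1_c15 LD2_c17 LD3_c53)) :=
  Lre_g IH (LK LD1_c8 LD2_c7 LD3_c26) (LK LD1_c15 LD2_c17 LD3_c53) Lrfl Lrfl
theorem f217354 : Led Lsl_ff (LP (LK LD1_c10 LD2_c35 LD3_c16)) = (LP (LK LD1_c8 LD2_c2 LD3_c45)) :=
  Lgr Lrot3 (Lpr_ft (K12.f217350 IH) (Lpn (LP (LK LD1_c8 LD2_c2 LD3_c45))))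
theorem f50649 : Led Lsl_bt (LP (LK LD1_c15 LD2_c8 LD3_c59)) = (LP (LK LD1_c8 LD2_c2 LD3_c45)) :=
  Lre_b IH (LK LD1_c15 LD2_c8 LD3_c59) (LK LD1_c8 LD2_c2 LD3_c45) Lrfl Lrfl
theorem f30920 : Led Lsl_at (LP (LK LD1_c8 LD2_c2 LD3_c44)) = (LP (LK LD1_c15 LD2_c8 LD3_c58)) :=
  Lre_a IH (LK LD1_c8 LD2_c2 LD3_c44) (LK LD1_c15 LD2_c8 LD3_c58) Lrfl Lrfl
theorem f52930 : Led Lsl_ft (LP (LK LD1_c8 LD2_c9 LD3_c19)) = (LP (LK LD1_c8 LD2_c2 LD3_c44)) :=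
  Lgr Lrot101 (Lpe (K11.f52929 IH) (Lpr_ff (K11.f52483 IH) (Lpe (f30920 IH) (Lpn (LP (LK LD1_c8 LD2_c2 LD3_c44))))))
theorem f52941 : Led Lsl_ff (LP (LK LD1_c8 LD2_c9 LD3_c19)) = (LP (LK LD1_c8 LD2_c2 LD3_c44)) :=
  Lgr Lrot3 (Lpr_ft (f52930 IH) (Lpn (LP (LK LD1_c8 LD2_c2 LD3_c44))))
theorem f52943 : Led Lsl_dt (LP (LK LD1_c8 LD2_c9 LD3_c19)) = (LP (LK LD1_c15 LD2_c21 LD3_c37)) :=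
  Lre_d IH (LK LD1_c8 LD2_c9 LD3_c19) (LK LD1_c15 LD2_c21 LD3_c37) Lrfl Lrfl
theorem f30914 : Led Lsl_dt (LP (LK LD1_c15 LD2_c8 LD3_c59)) = (LP (LK LD1_c8 LD2_c2 LD3_c44)) :=
  Lre_d IH (LK LD1_c15 LD2_c8 LD3_c59) (LK LD1_c8 LD2_c2 LD3_c44) Lrfl Lrfl
theorem f52945 : Led Lsl_ft (LP (LK LD1_c15 LD2_c21 LD3_c37)) = (LP (LK LD1_c15 LD2_c8 LD3_c59)) :=
  Lgr Lrot54 (Lpe (f52943 IH) (Lpr_ff (f52941 IH) (Lpe (f30914 IH) (Lpn (LP (LK LD1_c15 LD2_c8 LD3_c59))))))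
theorem f217359 : Led Lsl_bt (LP (LK LD1_c10 LD2_c35 LD3_c16)) = (LP (LK LD1_c15 LD2_c21 LD3_c37)) :=
  Lgr Lrot35 (Lpr_ff (f217354 IH) (Lpe (f50649 IH) (Lpe (f52945 IH) (Lpn (LP (LK LD1_c15 LD2_c21 LD3_c37))))))
theorem f52297 : Led Lsl_dt (LP (LK LD1_c15 LD2_c21 LD3_c37)) = (LP (LK LD1_c8 LD2_c9 LD3_c19)) :=
  Lre_d IH (LK LD1_c15 LD2_c21 LD3_c37) (LK LD1_c8 LD2_c9 LD3_c19) Lrfl Lrfl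
theorem f217361 : Led Lsl_bf (LP (LK LD1_c5 LD2_c22 LD3_c26)) = (LP (LK LD1_c8 LD2_c9 LD3_c19)) :=
  Lgr Lrot93 (Lpr_dt (K12.f196568 IH) (Lpr_bt (f217359 IH) (Lpr_dt (f52297 IH) (Lpn (LP (LK LD1_c8 LD2_c9 LD3_c19))))))
theorem f201177 : Led Lsl_bt (LP (LK LD1_c9 LD2_c40 LD3_c42)) = (LP (LK LD1_c4 LD2_c54 LD3_c34)) :=
  Lre_b IH (LK LD1_c9 LD2_c40 LD3_c42) (LK LD1_c4 LD2_c54 LD3_c34) Lrfl Lrfl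
theorem f188614 : Led Lsl_bt (LP (LK LD1_c8 LD2_c26 LD3_c49)) = (LP (LK LD1_c4 LD2_c14 LD3_c9)) :=
  Lre_b IH (LK LD1_c8 LD2_c26 LD3_c49) (LK LD1_c4 LD2_c14 LD3_c9) Lrfl Lrfl
theorem f201131 : Led Lsl_bt (LP (LK LD1_c4 LD2_c54 LD3_c34)) = (LP (LK LD1_c9 LD2_c40 LD3_c42)) :=
  Lre_b IH (LK LD1_c4 LD2_c54 LD3_c34) (LK LD1_c9 LD2_c40 LD3_c42) Lrfl Lrfl
theorem f201132 : Led Lsl_cf (LP (LK LD1_c8 LD2_c26 LD3_c49)) = (LP (LK LD1_c9 LD2_c40 LD3_c42)) :=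
  Lgr Lrot97 (Lpr_bt (f188614 IH) (Lpr_ct (K12.f188612 IH) (Lpr_bt (K12.f201127 IH) (Lpr_ct (K12.f41229 IH) (Lpr_bt (f201131 IH) (Lpn (LP (LK LD1_c9 LD2_c40 LD3_c42))))))))
theorem f201178 : Led Lsl_gt (LP (LK LD1_c15 LD2_c51 LD3_c35)) = (LP (LK LD1_c8 LD2_c26 LD3_c49)) :=
  Lre_g IH (LK LD1_c15 LD2_c51 LD3_c35) (LK LD1_c8 LD2_c26 LD3_c49) Lrfl Lrfl
theorem f168726 : Led Lsl_bt (LP (LK LD1_c17 LD2_c52 LD3_c2)) = (LP (LK LD1_c9 LD2_c42 LD3_c56)) :=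
  Lre_b IH (LK LD1_c17 LD2_c52 LD3_c2) (LK LD1_c9 LD2_c42 LD3_c56) Lrfl Lrfl
theorem f201194 : Led Lsl_ct (LP (LK LD1_c17 LD2_c52 LD3_c2)) = (LP (LK LD1_c15 LD2_c51 LD3_c35)) :=
  Lgr Lrot64 (Lpr_bt (f168726 IH) (Lpe (K18.f167939 IH) (Lpe (K18.f167928 IH) (Lpr_ct (K12.f167932 IH) (Lpr_gf (K10.f194616 IH) (Lpe (K12.f194618 IH) (Lpr_gf (K12.f201187 IH) (Lpe (f201177 IH) (Lpe (f201132 IH) (Lpe (f201178 IH) (Lpn (LP (LK LD1_c15 LD2_c51 LD3_c35)))))))))))))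
theorem f53050 : Led Lsl_ct (LP (LK LD1_c15 LD2_c21 LD3_c31)) = (LP (LK LD1_c8 LD2_c9 LD3_c17)) :=
  Lre_c IH (LK LD1_c15 LD2_c21 LD3_c31) (LK LD1_c8 LD2_c9 LD3_c17) Lrfl Lrfl
theorem f53052 : Led Lsl_bt (LP (LK LD1_c15 LD2_c21 LD3_c31)) = (LP (LK LD1_c25 LD2_c12 LD3_c54)) :=
  Lre_b IH (LK LD1_c15 LD2_c21 LD3_c31) (LK LD1_c25 LD2_c12 LD3_c54) Lrfl Lrfl
theorem f217369 : Led Lsl_gf (LP (LK LD1_c17 LD2_c52 LD3_c2)) = (LP (LK LD1_c25 LD2_c12 LD3_c54)) :=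
  Lgr Lrot181 (Lpr_ct (f201194 IH) (Lpr_gt (f201178 IH) (Lpr_cf (f201132 IH) (Lpr_bt (f201177 IH) (Lpe (K12.f201187 IH) (Lpr_bf (f217361 IH) (Lpr_ct (K20.f52296 IH) (Lpr_gt (K11.f53025 IH) (Lpe (f53050 IH) (Lpr_bt (f53052 IH) (Lpn (LP (LK LD1_c25 LD2_c12 LD3_c54)))))))))))))
theorem f53026 : Led Lsl_ct (LP (LK LD1_c8 LD2_c9 LD3_c17)) = (LP (LK LD1_c15 LD2_c21 LD3_c31)) :=
  Lre_c IH (LK LD1_c8 LD2_c9 LD3_c17) (LK LD1_c15 LD2_c21 LD3_c31) Lrfl Lrfl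
theorem f297459 : Led Lsl_dt (LP (LK LD1_c15 LD2_c17 LD3_c53)) = (LP (LK LD1_c8 LD2_c9 LD3_c17)) :=
  Lgr Lrot182 (Lpe (f211439 IH) (Lpe (f211438 IH) (Lpe (K12.f53021 IH) (Lpr_df (K12.f211435 IH) (Lpe (K12.f211433 IH) (Lpe (f211437 IH) (Lpe (K16.f179756 IH) (Lpr_df (f278515 IH) (Lpr_gf (K12.f219783 IH) (Lpr_bf (K12.f42638 IH) (Lpe (K12.f43103 IH) (Lpe (K12.f39031 IH) (Lpr_gf (K13.f236855 IH) (Lpe (K18.f236765 IH) (Lpe (K18.f168459 IH) (Lpr_df (K18.f297452 IH) (Lpr_gf (f217369 IH) (Lpe (f53052 IH) (Lpe (f53026 IH) (Lpn (LP (LK LD1_c8 LD2_c9 LD3_c17))))))))))))))))))))))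
theorem f228215 : Led Lsl_at (LP (LK LD1_c5 LD2_c39 LD3_c2)) = (LP (LK LD1_c11 LD2_c9 LD3_c4)) :=
  Lre_a IH (LK LD1_c5 LD2_c39 LD3_c2) (LK LD1_c11 LD2_c9 LD3_c4) Lrfl Lrfl
theorem f296578 : Led Lsl_gf (LP (LK LD1_c11 LD2_c9 LD3_c4)) = (LP (LK LD1_c15 LD2_c17 LD3_c53)) :=
  Lgr Lrot76 (Lpe (f228215 IH) (Lpr_ff (K18.f296570 IH) (Lpr_gt (f211439 IH) (Lpn (LP (LK LD1_c15 LD2_c17 LD3_c53))))))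
theorem f296611 : Led Lsl_ft (LP (LK LD1_c16 LD2_c42 LD3_c47)) = (LP (LK LD1_c10 LD2_c50 LD3_c45)) :=
  Lgr Lrot48 (Lpr_ff (K18.f296606 IH) (Lpn (LP (LK LD1_c10 LD2_c50 LD3_c45))))
theorem f228083 : Led Lsl_at (LP (LK LD1_c11 LD2_c9 LD3_c4)) = (LP (LK LD1_c5 LD2_c39 LD3_c2)) :=
  Lre_a IH (LK LD1_c11 LD2_c9 LD3_c4) (LK LD1_c5 LD2_c39 LD3_c2) Lrfl Lrfl
theorem f296581 : Led Lsl_ff (LP (LK LD1_c11 LD2_c9 LD3_c4)) = (LP (LK LD1_c15 LD2_c17 LD3_c55)) :=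
  Lgr Lrot30 (Lpr_at (f228083 IH) (Lpr_ft (K18.f296576 IH) (Lpr_at (K18.f220305 IH) (Lpn (LP (LK LD1_c15 LD2_c17 LD3_c55))))))
theorem f296704 : Led Lsl_cf (LP (LK LD1_c16 LD2_c42 LD3_c47)) = (LP (LK LD1_c11 LD2_c9 LD3_c4)) :=
  Lgr Lrot108 (Lpr_ft (f296611 IH) (Lpr_ct (K18.f220284 IH) (Lpe (f296581 IH) (Lpn (LP (LK LD1_c11 LD2_c9 LD3_c4))))))
theorem f220289 : Led Lsl_at (LP (LK LD1_c10 LD2_c50 LD3_c45)) = (LP (LK LD1_c5 LD2_c29 LD3_c45)) :=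
  Lre_a IH (LK LD1_c10 LD2_c50 LD3_c45) (LK LD1_c5 LD2_c29 LD3_c45) Lrfl Lrfl
theorem f220297 : Led Lsl_gt (LP (LK LD1_c10 LD2_c50 LD3_c44)) = (LP (LK LD1_c5 LD2_c29 LD3_c45)) :=
  Lre_g IH (LK LD1_c10 LD2_c50 LD3_c44) (LK LD1_c5 LD2_c29 LD3_c45) Lrfl Lrfl
theorem f296706 : Led Lsl_gt (LP (LK LD1_c16 LD2_c42 LD3_c47)) = (LP (LK LD1_c10 LD2_c50 LD3_c44)) :=
  Lgr Lrot5 (Lpr_ft (f296611 IH) (Lpr_at (f220289 IH) (Lpe (f220297 IH) (Lpn (LP (LK LD1_c10 LD2_c50 LD3_c44))))))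
theorem f226850 : Led Lsl_ct (LP (LK LD1_c10 LD2_c50 LD3_c44)) = (LP (LK LD1_c19 LD2_c36 LD3_c15)) :=
  Lre_c IH (LK LD1_c10 LD2_c50 LD3_c44) (LK LD1_c19 LD2_c36 LD3_c15) Lrfl Lrfl
theorem f200768 : Led Lsl_cf (LP (LK LD1_c15 LD2_c50 LD3_c2)) = (LP (LK LD1_c15 LD2_c21 LD3_c36)) :=
  Lgr Lrot11 (Lpr_ct (K11.f200760 IH) (Lpn (LP (LK LD1_c15 LD2_c21 LD3_c36))))
theorem f297466 : Led Lsl_df (LP (LK LD1_c19 LD2_c36 LD3_c15)) = (LP (LK LD1_c15 LD2_c50 LD3_c2)) :=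
  Lgr Lrot162 (Lpe (f226850 IH) (Lpe (f296706 IH) (Lpr_cf (f296704 IH) (Lpr_gf (f296578 IH) (Lpr_dt (f297459 IH) (Lpr_gt (K11.f53048 IH) (Lpr_ct (K11.f31005 IH) (Lpe (K11.f52933 IH) (Lpe (f200768 IH) (Lpn (LP (LK LD1_c15 LD2_c50 LD3_c2))))))))))))
theorem f223702 : Led Lsl_gt (LP (LK LD1_c8 LD2_c9 LD3_c35)) = (LP (LK LD1_c15 LD2_c22 LD3_c10)) :=
  Lre_g IH (LK LD1_c8 LD2_c9 LD3_c35) (LK LD1_c15 LD2_c22 LD3_c10) Lrfl Lrfl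
theorem f220223 : Led Lsl_bt (LP (LK LD1_c8 LD2_c7 LD3_c26)) = (LP (LK LD1_c4 LD2_c3 LD3_c26)) :=
  Lre_b IH (LK LD1_c8 LD2_c7 LD3_c26) (LK LD1_c4 LD2_c3 LD3_c26) Lrfl Lrfl
theorem f220298 : Led Lsl_ct (LP (LK LD1_c19 LD2_c36 LD3_c15)) = (LP (LK LD1_c10 LD2_c50 LD3_c44)) :=
  Lre_c IH (LK LD1_c19 LD2_c36 LD3_c15) (LK LD1_c10 LD2_c50 LD3_c44) Lrfl Lrfl
theorem f226782 : Led Lsl_bf (LP (LK LD1_c15 LD2_c22 LD3_c10)) = (LP (LK LD1_c19 LD2_c36 LD3_c15)) :=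
  Lgr Lrot34 (Lpe (f223702 IH) (Lpe (K14.f223683 IH) (Lpr_ct (K12.f200711 IH) (Lpe (K12.f200702 IH) (Lpe (K12.f211474 IH) (Lpr_gf (K12.f226776 IH) (Lpe (f220223 IH) (Lpe (K18.f220275 IH) (Lpe (f220297 IH) (Lpe (f220298 IH) (Lpn (LP (LK LD1_c19 LD2_c36 LD3_c15)))))))))))))
theorem f200767 : Led Lsl_bt (LP (LK LD1_c8 LD2_c25 LD3_c48)) = (LP (LK LD1_c15 LD2_c50 LD3_c2)) :=
  Lre_b IH (LK LD1_c8 LD2_c25 LD3_c48) (LK LD1_c15 LD2_c50 LD3_c2) Lrfl Lrfl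
theorem f297472 : Led Lsl_dt (LP (LK LD1_c15 LD2_c22 LD3_c10)) = (LP (LK LD1_c8 LD2_c25 LD3_c48)) :=
  Lgr Lrot79 (Lpr_bf (f226782 IH) (Lpr_df (f297466 IH) (Lpe (f200767 IH) (Lpn (LP (LK LD1_c8 LD2_c25 LD3_c48))))))
theorem f200841 : Led Lsl_dt (LP (LK LD1_c15 LD2_c21 LD3_c0)) = (LP (LK LD1_c8 LD2_c9 LD3_c7)) :=
  Lre_d IH (LK LD1_c15 LD2_c21 LD3_c0) (LK LD1_c8 LD2_c9 LD3_c7) Lrfl Lrfl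
theorem f286679 : Led Lsl_dt (LP (LK LD1_c8 LD2_c28 LD3_c28)) = (LP (LK LD1_c11 LD2_c8 LD3_c39)) :=
  Lgr Lrot6 (Lpe (K18.f52705 IH) (Lpr_ct (K10.f51156 IH) (Lpr_gt (K18.f196917 IH) (Lpr_ct (K18.f200839 IH) (Lpe (f200841 IH) (Lpe (K18.f280055 IH) (Lpe (K18.f286600 IH) (Lpe (K17.f247296 IH) (Lpr_gf (K18.f286676 IH) (Lpn (LP (LK LD1_c11 LD2_c8 LD3_c39))))))))))))
theorem f331931 : Led Lsl_ff (LP (LK LD1_c15 LD2_c22 LD3_c10)) = (LP (LK LD1_c11 LD2_c8 LD3_c39)) :=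
  Lgr Lrot19 (Lpr_dt (f297472 IH) (Lpr_ft (f331925 IH) (Lpr_dt (f286679 IH) (Lpn (LP (LK LD1_c11 LD2_c8 LD3_c39))))))
theorem f226847 : Led Lsl_bt (LP (LK LD1_c15 LD2_c22 LD3_c10)) = (LP (LK LD1_c19 LD2_c36 LD3_c15)) :=
  Lgr Lrot127 (Lpr_bf (f226782 IH) (Lpn (LP (LK LD1_c19 LD2_c36 LD3_c15))))
theorem f331934 : Led Lsl_ft (LP (LK LD1_c19 LD2_c36 LD3_c15)) = (LP (LK LD1_c20 LD2_c2 LD3_c10)) :=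
  Lgr Lrot75 (Lpe (f226847 IH) (Lpr_ff (f331931 IH) (Lpe (K18.f179424 IH) (Lpn (LP (LK LD1_c20 LD2_c2 LD3_c10))))))
theorem f332152 : Led Lsl_ff (LP (LK LD1_c19 LD2_c36 LD3_c15)) = (LP (LK LD1_c20 LD2_c2 LD3_c10)) :=
  Lgr Lrot3 (Lpr_ft (f331934 IH) (Lpn (LP (LK LD1_c20 LD2_c2 LD3_c10))))
theorem f332154 : Led Lsl_ft (LP (LK LD1_c10 LD2_c50 LD3_c44)) = (LP (LK LD1_c16 LD2_c42 LD3_c46)) :=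
  Lgr Lrot4 (Lpe (f220298 IH) (Lpr_ff (f332152 IH) (Lpr_cf (K18.f228100 IH) (Lpn (LP (LK LD1_c16 LD2_c42 LD3_c46))))))
theorem f220291 : Led Lsl_gt (LP (LK LD1_c5 LD2_c29 LD3_c45)) = (LP (LK LD1_c10 LD2_c50 LD3_c43)) :=
  Lre_g IH (LK LD1_c5 LD2_c29 LD3_c45) (LK LD1_c10 LD2_c50 LD3_c43) Lrfl Lrfl
theorem f332156 : Led Lsl_af (LP (LK LD1_c10 LD2_c50 LD3_c43)) = (LP (LK LD1_c16 LD2_c42 LD3_c46)) :=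
  Lgr Lrot31 (Lpe (f220291 IH) (Lpe (f220297 IH) (Lpr_ft (f332154 IH) (Lpn (LP (LK LD1_c16 LD2_c42 LD3_c46))))))
theorem f220295 : Led Lsl_ct (LP (LK LD1_c10 LD2_c50 LD3_c43)) = (LP (LK LD1_c19 LD2_c36 LD3_c12)) :=
  Lre_c IH (LK LD1_c10 LD2_c50 LD3_c43) (LK LD1_c19 LD2_c36 LD3_c12) Lrfl Lrfl
theorem f332160 : Led Lsl_at (LP (LK LD1_c19 LD2_c36 LD3_c12)) = (LP (LK LD1_c20 LD2_c2 LD3_c10)) :=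
  Lgr Lrot107 (Lpe (f220295 IH) (Lpr_af (f332156 IH) (Lpe (K18.f228097 IH) (Lpn (LP (LK LD1_c20 LD2_c2 LD3_c10))))))
theorem f318379 : Led Lsl_ct (LP (LK LD1_c9 LD2_c44 LD3_c18)) = (LP (LK LD1_c17 LD2_c53 LD3_c32)) :=
  Lre_c IH (LK LD1_c9 LD2_c44 LD3_c18) (LK LD1_c17 LD2_c53 LD3_c32) Lrfl Lrfl
theorem f199507 : Led Lsl_gt (LP (LK LD1_c4 LD2_c3 LD3_c28)) = (LP (LK LD1_c8 LD2_c7 LD3_c28)) :=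
  Lre_g IH (LK LD1_c4 LD2_c3 LD3_c28) (LK LD1_c8 LD2_c7 LD3_c28) Lrfl Lrfl
theorem f199605 : Led Lsl_ct (LP (LK LD1_c8 LD2_c7 LD3_c28)) = (LP (LK LD1_c15 LD2_c17 LD3_c59)) :=
  Lre_c IH (LK LD1_c8 LD2_c7 LD3_c28) (LK LD1_c15 LD2_c17 LD3_c59) Lrfl Lrfl
theorem f200949 : Led Lsl_gt (LP (LK LD1_c15 LD2_c17 LD3_c59)) = (LP (LK LD1_c25 LD2_c8 LD3_c45)) :=
  Lre_g IH (LK LD1_c15 LD2_c17 LD3_c59) (LK LD1_c25 LD2_c8 LD3_c45) Lrfl Lrfl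
theorem f200950 : Led Lsl_ct (LP (LK LD1_c25 LD2_c8 LD3_c45)) = (LP (LK LD1_c25 LD2_c8 LD3_c34)) :=
  Lre_c IH (LK LD1_c25 LD2_c8 LD3_c45) (LK LD1_c25 LD2_c8 LD3_c34) Lrfl Lrfl
theorem f53041 : Led Lsl_cf (LP (LK LD1_c15 LD2_c21 LD3_c33)) = (LP (LK LD1_c25 LD2_c11 LD3_c18)) :=
  Lgr Lrot11 (Lpr_ct (K20.f53037 IH) (Lpn (LP (LK LD1_c25 LD2_c11 LD3_c18))))
theorem f200951 : Led Lsl_dt (LP (LK LD1_c25 LD2_c8 LD3_c34)) = (LP (LK LD1_c15 LD2_c21 LD3_c33)) :=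
  Lgr Lrot27 (Lpe (f200950 IH) (Lpe (f200949 IH) (Lpe (f199605 IH) (Lpe (f199507 IH) (Lpr_df (K17.f200932 IH) (Lpr_gt (K20.f53034 IH) (Lpr_ct (K20.f53035 IH) (Lpr_gt (K20.f53036 IH) (Lpe (f53041 IH) (Lpn (LP (LK LD1_c15 LD2_c21 LD3_c33))))))))))))
theorem f200962 : Led Lsl_df (LP (LK LD1_c25 LD2_c8 LD3_c34)) = (LP (LK LD1_c15 LD2_c21 LD3_c33)) :=
  Lgr Lrot38 (Lpr_dt (f200951 IH) (Lpn (LP (LK LD1_c15 LD2_c21 LD3_c33))))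
theorem f200964 : Led Lsl_bt (LP (LK LD1_c25 LD2_c8 LD3_c34)) = (LP (LK LD1_c15 LD2_c17 LD3_c54)) :=
  Lre_b IH (LK LD1_c25 LD2_c8 LD3_c34) (LK LD1_c15 LD2_c17 LD3_c54) Lrfl Lrfl
theorem f53040 : Led Lsl_bt (LP (LK LD1_c8 LD2_c9 LD3_c18)) = (LP (LK LD1_c15 LD2_c21 LD3_c33)) :=
  Lre_b IH (LK LD1_c8 LD2_c9 LD3_c18) (LK LD1_c15 LD2_c21 LD3_c33) Lrfl Lrfl
theorem f200965 : Led Lsl_dt (LP (LK LD1_c15 LD2_c17 LD3_c54)) = (LP (LK LD1_c8 LD2_c9 LD3_c18)) :=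
  Lgr Lrot79 (Lpe (f200964 IH) (Lpr_df (f200962 IH) (Lpe (f53040 IH) (Lpn (LP (LK LD1_c8 LD2_c9 LD3_c18))))))
theorem f200970 : Led Lsl_gt (LP (LK LD1_c15 LD2_c17 LD3_c54)) = (LP (LK LD1_c8 LD2_c7 LD3_c26)) :=
  Lre_g IH (LK LD1_c15 LD2_c17 LD3_c54) (LK LD1_c8 LD2_c7 LD3_c26) Lrfl Lrfl
theorem f318380 : Led Lsl_dt (LP (LK LD1_c17 LD2_c53 LD3_c32)) = (LP (LK LD1_c19 LD2_c36 LD3_c12)) :=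
  Lgr Lrot27 (Lpe (f318379 IH) (Lpr_gf (K20.f318377 IH) (Lpe (K11.f52298 IH) (Lpe (K20.f52463 IH) (Lpe (f200965 IH) (Lpr_gt (f200970 IH) (Lpe (K18.f220275 IH) (Lpr_gt (f220291 IH) (Lpr_ct (f220295 IH) (Lpn (LP (LK LD1_c19 LD2_c36 LD3_c12))))))))))))
theorem f286694 : Led Lsl_df (LP (LK LD1_c15 LD2_c54 LD3_c44)) = (LP (LK LD1_c20 LD2_c2 LD3_c10)) :=
  Lgr Lrot38 (Lpr_dt (K18.f286685 IH) (Lpn (LP (LK LD1_c20 LD2_c2 LD3_c10))))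
theorem f332165 : Led Lsl_af (LP (LK LD1_c17 LD2_c53 LD3_c32)) = (LP (LK LD1_c15 LD2_c54 LD3_c44)) :=
  Lgr Lrot117 (Lpr_dt (f318380 IH) (Lpr_at (f332160 IH) (Lpe (f286694 IH) (Lpn (LP (LK LD1_c15 LD2_c54 LD3_c44))))))
theorem f332188 : Led Lsl_at (LP (LK LD1_c9 LD2_c44 LD3_c18)) = (LP (LK LD1_c15 LD2_c8 LD3_c57)) :=
  Lgr Lrot107 (Lpe (K20.f168819 IH) (Lpr_af (f332165 IH) (Lpr_cf (K18.f200850 IH) (Lpn (LP (LK LD1_c15 LD2_c8 LD3_c57))))))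
theorem f52944 : Led Lsl_at (LP (LK LD1_c8 LD2_c9 LD3_c19)) = (LP (LK LD1_c15 LD2_c21 LD3_c28)) :=
  Lre_a IH (LK LD1_c8 LD2_c9 LD3_c19) (LK LD1_c15 LD2_c21 LD3_c28) Lrfl Lrfl
theorem f30931 : Led Lsl_gt (LP (LK LD1_c8 LD2_c2 LD3_c44)) = (LP (LK LD1_c15 LD2_c8 LD3_c56)) :=
  Lre_g IH (LK LD1_c8 LD2_c2 LD3_c44) (LK LD1_c15 LD2_c8 LD3_c56) Lrfl Lrfl
theorem f52951 : Led Lsl_gf (LP (LK LD1_c15 LD2_c21 LD3_c28)) = (LP (LK LD1_c15 LD2_c8 LD3_c56)) :=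
  Lgr Lrot76 (Lpe (f52944 IH) (Lpr_ff (f52941 IH) (Lpr_gt (f30931 IH) (Lpn (LP (LK LD1_c15 LD2_c8 LD3_c56))))))
theorem f332204 : Led Lsl_ff (LP (LK LD1_c9 LD2_c44 LD3_c18)) = (LP (LK LD1_c15 LD2_c8 LD3_c56)) :=
  Lgr Lrot52 (Lpr_at (f332188 IH) (Lpe (K18.f52966 IH) (Lpr_gf (f52951 IH) (Lpn (LP (LK LD1_c15 LD2_c8 LD3_c56))))))
theorem f332211 : Led Lsl_ft (LP (LK LD1_c9 LD2_c44 LD3_c18)) = (LP (LK LD1_c15 LD2_c8 LD3_c56)) :=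
  Lgr Lrot48 (Lpr_ff (f332204 IH) (Lpn (LP (LK LD1_c15 LD2_c8 LD3_c56))))
theorem f173789 : Led Lsl_ct (LP (LK LD1_c9 LD2_c43 LD3_c2)) = (LP (LK LD1_c4 LD2_c56 LD3_c10)) :=
  Lre_c IH (LK LD1_c9 LD2_c43 LD3_c2) (LK LD1_c4 LD2_c56 LD3_c10) Lrfl Lrfl
theorem f173902 : Led Lsl_gt (LP (LK LD1_c4 LD2_c56 LD3_c10)) = (LP (LK LD1_c2 LD2_c25 LD3_c56)) :=
  Lre_g IH (LK LD1_c4 LD2_c56 LD3_c10) (LK LD1_c2 LD2_c25 LD3_c56) Lrfl Lrfl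
theorem f49276 : Led Lsl_at (LP (LK LD1_c18 LD2_c50 LD3_c59)) = (LP (LK LD1_c10 LD2_c23 LD3_c22)) :=
  Lre_a IH (LK LD1_c18 LD2_c50 LD3_c59) (LK LD1_c10 LD2_c23 LD3_c22) Lrfl Lrfl
theorem f50643 : Led Lsl_bt (LP (LK LD1_c15 LD2_c8 LD3_c58)) = (LP (LK LD1_c18 LD2_c50 LD3_c59)) :=
  Lgr Lrot62 (Lpe (f30920 IH) (Lpe (K9.f30886 IH) (Lpr_af (K12.f50641 IH) (Lpe (K9.f49250 IH) (Lpe (f49276 IH) (Lpn (LP (LK LD1_c18 LD2_c50 LD3_c59))))))))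
theorem f50655 : Led Lsl_bf (LP (LK LD1_c15 LD2_c8 LD3_c58)) = (LP (LK LD1_c18 LD2_c50 LD3_c59)) :=
  Lgr Lrot24 (Lpr_bt (f50643 IH) (Lpn (LP (LK LD1_c18 LD2_c50 LD3_c59))))
theorem f217441 : Led Lsl_gt (LP (LK LD1_c9 LD2_c44 LD3_c18)) = (LP (LK LD1_c15 LD2_c8 LD3_c58)) :=
  Lgr Lrot164 (Lpe (K20.f217440 IH) (Lpr_ct (K20.f217439 IH) (Lpe (f173902 IH) (Lpe (f173789 IH) (Lpe (K12.f173806 IH) (Lpe (K12.f173807 IH) (Lpr_ct (K12.f217428 IH) (Lpe (K12.f217248 IH) (Lpe (K12.f49390 IH) (Lpe (f50655 IH) (Lpn (LP (LK LD1_c15 LD2_c8 LD3_c58)))))))))))))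
theorem f332216 : Led Lsl_af (LP (LK LD1_c15 LD2_c21 LD3_c36)) = (LP (LK LD1_c15 LD2_c8 LD3_c56)) :=
  Lgr Lrot31 (Lpr_gf (K11.f52933 IH) (Lpe (f217441 IH) (Lpr_ft (f332211 IH) (Lpn (LP (LK LD1_c15 LD2_c8 LD3_c56))))))
theorem f332206 : Led Lsl_bt (LP (LK LD1_c9 LD2_c44 LD3_c18)) = (LP (LK LD1_c4 LD2_c56 LD3_c18)) :=
  Lre_b IH (LK LD1_c9 LD2_c44 LD3_c18) (LK LD1_c4 LD2_c56 LD3_c18) Lrfl Lrfl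
theorem f332207 : Led Lsl_ft (LP (LK LD1_c4 LD2_c56 LD3_c18)) = (LP (LK LD1_c9 LD2_c43 LD3_c61)) :=
  Lre_f IH (LK LD1_c4 LD2_c56 LD3_c18) (LK LD1_c9 LD2_c43 LD3_c61) Lrfl Lrfl
theorem f332208 : Led Lsl_bt (LP (LK LD1_c9 LD2_c43 LD3_c61)) = (LP (LK LD1_c15 LD2_c8 LD3_c56)) :=
  Lgr Lrot35 (Lpe (f332207 IH) (Lpe (f332206 IH) (Lpr_ff (f332204 IH) (Lpn (LP (LK LD1_c15 LD2_c8 LD3_c56))))))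
theorem f332220 : Led Lsl_at (LP (LK LD1_c4 LD2_c56 LD3_c13)) = (LP (LK LD1_c9 LD2_c43 LD3_c61)) :=
  Lre_a IH (LK LD1_c4 LD2_c56 LD3_c13) (LK LD1_c9 LD2_c43 LD3_c61) Lrfl Lrfl
theorem f332221 : Led Lsl_bt (LP (LK LD1_c9 LD2_c44 LD3_c6)) = (LP (LK LD1_c4 LD2_c56 LD3_c13)) :=
  Lre_b IH (LK LD1_c9 LD2_c44 LD3_c6) (LK LD1_c4 LD2_c56 LD3_c13) Lrfl Lrfl
theorem f332222 : Led Lsl_at (LP (LK LD1_c17 LD2_c53 LD3_c28)) = (LP (LK LD1_c9 LD2_c44 LD3_c6)) :=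
  Lre_a IH (LK LD1_c17 LD2_c53 LD3_c28) (LK LD1_c9 LD2_c44 LD3_c6) Lrfl Lrfl
theorem f332223 : Led Lsl_bt (LP (LK LD1_c15 LD2_c21 LD3_c36)) = (LP (LK LD1_c17 LD2_c53 LD3_c28)) :=
  Lgr Lrot62 (Lpr_af (f332216 IH) (Lpe (f332208 IH) (Lpe (f332220 IH) (Lpe (f332221 IH) (Lpe (f332222 IH) (Lpn (LP (LK LD1_c17 LD2_c53 LD3_c28))))))))
theorem f331838 : Led Lsl_bt (LP (LK LD1_c5 LD2_c25 LD3_c12)) = (LP (LK LD1_c10 LD2_c41 LD3_c11)) :=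
  Lre_b IH (LK LD1_c5 LD2_c25 LD3_c12) (LK LD1_c10 LD2_c41 LD3_c11) Lrfl Lrfl
theorem f331839 : Led Lsl_at (LP (LK LD1_c2 LD2_c39 LD3_c5)) = (LP (LK LD1_c5 LD2_c25 LD3_c12)) :=
  Lre_a IH (LK LD1_c2 LD2_c39 LD3_c5) (LK LD1_c5 LD2_c25 LD3_c12) Lrfl Lrfl
theorem f218277 : Led Lsl_at (LP (LK LD1_c10 LD2_c41 LD3_c15)) = (LP (LK LD1_c5 LD2_c25 LD3_c13)) :=
  Lre_a IH (LK LD1_c10 LD2_c41 LD3_c15) (LK LD1_c5 LD2_c25 LD3_c13) Lrfl Lrfl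
theorem f331840 : Led Lsl_bt (LP (LK LD1_c19 LD2_c19 LD3_c29)) = (LP (LK LD1_c10 LD2_c41 LD3_c15)) :=
  Lgr Lrot62 (Lpr_af (f331834 IH) (Lpe (f331838 IH) (Lpe (f331839 IH) (Lpe (K12.f218240 IH) (Lpe (f218277 IH) (Lpn (LP (LK LD1_c10 LD2_c41 LD3_c15))))))))
theorem f332231 : Led Lsl_cf (LP (LK LD1_c19 LD2_c19 LD3_c29)) = (LP (LK LD1_c17 LD2_c53 LD3_c28)) :=
  Lgr Lrot97 (Lpr_bt (f331840 IH) (Lpe (f331882 IH) (Lpr_bt (f200767 IH) (Lpr_ct (K11.f200760 IH) (Lpr_bt (f332223 IH) (Lpn (LP (LK LD1_c17 LD2_c53 LD3_c28))))))))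
theorem f332236 : Led Lsl_ct (LP (LK LD1_c19 LD2_c19 LD3_c29)) = (LP (LK LD1_c17 LD2_c53 LD3_c28)) :=
  Lgr Lrot59 (Lpr_cf (f332231 IH) (Lpn (LP (LK LD1_c17 LD2_c53 LD3_c28))))
theorem f332238 : Led Lsl_cf (LP (LK LD1_c10 LD2_c41 LD3_c11)) = (LP (LK LD1_c9 LD2_c44 LD3_c6)) :=
  Lgr Lrot1 (Lpe (f331834 IH) (Lpr_ct (f332236 IH) (Lpr_at (f332222 IH) (Lpn (LP (LK LD1_c9 LD2_c44 LD3_c6))))))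
theorem f332243 : Led Lsl_et (LP (LK LD1_c10 LD2_c41 LD3_c11)) = (LP (LK LD1_c19 LD2_c20 LD3_c44)) :=
  Lre_e IH (LK LD1_c10 LD2_c41 LD3_c11) (LK LD1_c19 LD2_c20 LD3_c44) Lrfl Lrfl
theorem f168742 : Led Lsl_et (LP (LK LD1_c17 LD2_c53 LD3_c29)) = (LP (LK LD1_c9 LD2_c44 LD3_c6)) :=
  Lre_e IH (LK LD1_c17 LD2_c53 LD3_c29) (LK LD1_c9 LD2_c44 LD3_c6) Lrfl Lrfl
theorem f332244 : Led Lsl_ct (LP (LK LD1_c19 LD2_c20 LD3_c44)) = (LP (LK LD1_c17 LD2_c53 LD3_c29)) :=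
  Lgr Lrot15 (Lpe (f332243 IH) (Lpr_cf (f332238 IH) (Lpe (f168742 IH) (Lpn (LP (LK LD1_c17 LD2_c53 LD3_c29))))))
theorem f332252 : Led Lsl_cf (LP (LK LD1_c19 LD2_c20 LD3_c44)) = (LP (LK LD1_c17 LD2_c53 LD3_c29)) :=
  Lgr Lrot11 (Lpr_ct (f332244 IH) (Lpn (LP (LK LD1_c17 LD2_c53 LD3_c29))))
theorem f332255 : Led Lsl_bt (LP (LK LD1_c9 LD2_c44 LD3_c7)) = (LP (LK LD1_c17 LD2_c53 LD3_c29)) :=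
  Lre_b IH (LK LD1_c9 LD2_c44 LD3_c7) (LK LD1_c17 LD2_c53 LD3_c29) Lrfl Lrfl
theorem f332256 : Led Lsl_ct (LP (LK LD1_c4 LD2_c56 LD3_c15)) = (LP (LK LD1_c9 LD2_c44 LD3_c7)) :=
  Lre_c IH (LK LD1_c4 LD2_c56 LD3_c15) (LK LD1_c9 LD2_c44 LD3_c7) Lrfl Lrfl
theorem f332257 : Led Lsl_bt (LP (LK LD1_c9 LD2_c44 LD3_c4)) = (LP (LK LD1_c4 LD2_c56 LD3_c15)) :=
  Lre_b IH (LK LD1_c9 LD2_c44 LD3_c4) (LK LD1_c4 LD2_c56 LD3_c15) Lrfl Lrfl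
theorem f332258 : Led Lsl_ct (LP (LK LD1_c10 LD2_c41 LD3_c13)) = (LP (LK LD1_c9 LD2_c44 LD3_c4)) :=
  Lgr Lrot83 (Lpe (f331863 IH) (Lpr_cf (f332252 IH) (Lpe (f332255 IH) (Lpe (f332256 IH) (Lpe (f332257 IH) (Lpn (LP (LK LD1_c9 LD2_c44 LD3_c4))))))))
theorem f332265 : Led Lsl_et (LP (LK LD1_c5 LD2_c25 LD3_c12)) = (LP (LK LD1_c10 LD2_c41 LD3_c13)) :=
  Lre_e IH (LK LD1_c5 LD2_c25 LD3_c12) (LK LD1_c10 LD2_c41 LD3_c13) Lrfl Lrfl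
theorem f332266 : Led Lsl_et (LP (LK LD1_c9 LD2_c44 LD3_c4)) = (LP (LK LD1_c4 LD2_c56 LD3_c12)) :=
  Lre_e IH (LK LD1_c9 LD2_c44 LD3_c4) (LK LD1_c4 LD2_c56 LD3_c12) Lrfl Lrfl
theorem f332267 : Led Lsl_cf (LP (LK LD1_c5 LD2_c25 LD3_c12)) = (LP (LK LD1_c4 LD2_c56 LD3_c12)) :=
  Lgr Lrot39 (Lpr_et (f332265 IH) (Lpr_ct (f332258 IH) (Lpr_et (f332266 IH) (Lpn (LP (LK LD1_c4 LD2_c56 LD3_c12))))))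
theorem f332280 : Led Lsl_ft (LP (LK LD1_c5 LD2_c25 LD3_c12)) = (LP (LK LD1_c2 LD2_c39 LD3_c6)) :=
  Lre_f IH (LK LD1_c5 LD2_c25 LD3_c12) (LK LD1_c2 LD2_c39 LD3_c6) Lrfl Lrfl
theorem f332281 : Led Lsl_ft (LP (LK LD1_c5 LD2_c25 LD3_c19)) = (LP (LK LD1_c4 LD2_c56 LD3_c12)) :=
  Lgr Lrot4 (Lpe (f226243 IH) (Lpe (f332280 IH) (Lpr_cf (f332267 IH) (Lpn (LP (LK LD1_c4 LD2_c56 LD3_c12))))))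
theorem f332357 : Led Lsl_ff (LP (LK LD1_c5 LD2_c25 LD3_c19)) = (LP (LK LD1_c4 LD2_c56 LD3_c12)) :=
  Lgr Lrot3 (Lpr_ft (f332281 IH) (Lpn (LP (LK LD1_c4 LD2_c56 LD3_c12))))
theorem f226242 : Led Lsl_dt (LP (LK LD1_c5 LD2_c25 LD3_c19)) = (LP (LK LD1_c10 LD2_c41 LD3_c36)) :=
  Lre_d IH (LK LD1_c5 LD2_c25 LD3_c19) (LK LD1_c10 LD2_c41 LD3_c36) Lrfl Lrfl
theorem f332278 : Led Lsl_dt (LP (LK LD1_c9 LD2_c44 LD3_c3)) = (LP (LK LD1_c4 LD2_c56 LD3_c12)) :=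
  Lre_d IH (LK LD1_c9 LD2_c44 LD3_c3) (LK LD1_c4 LD2_c56 LD3_c12) Lrfl Lrfl
theorem f332364 : Led Lsl_ft (LP (LK LD1_c10 LD2_c41 LD3_c36)) = (LP (LK LD1_c9 LD2_c44 LD3_c3)) :=
  Lgr Lrot54 (Lpe (f226242 IH) (Lpr_ff (f332357 IH) (Lpe (f332278 IH) (Lpn (LP (LK LD1_c9 LD2_c44 LD3_c3))))))
theorem f226274 : Led Lsl_ct (LP (LK LD1_c19 LD2_c21 LD3_c21)) = (LP (LK LD1_c10 LD2_c41 LD3_c36)) :=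
  Lre_c IH (LK LD1_c19 LD2_c21 LD3_c21) (LK LD1_c10 LD2_c41 LD3_c36) Lrfl Lrfl
theorem f332368 : Led Lsl_ct (LP (LK LD1_c9 LD2_c44 LD3_c3)) = (LP (LK LD1_c17 LD2_c53 LD3_c20)) :=
  Lre_c IH (LK LD1_c9 LD2_c44 LD3_c3) (LK LD1_c17 LD2_c53 LD3_c20) Lrfl Lrfl
theorem f332377 : Led Lsl_ff (LP (LK LD1_c19 LD2_c21 LD3_c21)) = (LP (LK LD1_c17 LD2_c53 LD3_c20)) :=
  Lgr Lrot23 (Lpr_ct (f226274 IH) (Lpr_ft (f332364 IH) (Lpr_ct (f332368 IH) (Lpn (LP (LK LD1_c17 LD2_c53 LD3_c20))))))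
theorem f332380 : Led Lsl_ft (LP (LK LD1_c19 LD2_c21 LD3_c21)) = (LP (LK LD1_c17 LD2_c53 LD3_c20)) :=
  Lgr Lrot48 (Lpr_ff (f332377 IH) (Lpn (LP (LK LD1_c17 LD2_c53 LD3_c20))))
theorem f218316 : Led Lsl_gt (LP (LK LD1_c5 LD2_c34 LD3_c0)) = (LP (LK LD1_c2 LD2_c43 LD3_c6)) :=
  Lre_g IH (LK LD1_c5 LD2_c34 LD3_c0) (LK LD1_c2 LD2_c43 LD3_c6) Lrfl Lrfl
theorem f225393 : Led Lsl_at (LP (LK LD1_c10 LD2_c58 LD3_c30)) = (LP (LK LD1_c5 LD2_c33 LD3_c16)) :=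
  Lre_a IH (LK LD1_c10 LD2_c58 LD3_c30) (LK LD1_c5 LD2_c33 LD3_c16) Lrfl Lrfl
theorem f226140 : Led Lsl_ft (LP (LK LD1_c5 LD2_c34 LD3_c0)) = (LP (LK LD1_c10 LD2_c58 LD3_c30)) :=
  Lgr Lrot2 (Lpr_gt (f218316 IH) (Lpr_gt (K14.f226029 IH) (Lpe (f225393 IH) (Lpn (LP (LK LD1_c10 LD2_c58 LD3_c30))))))
theorem f226362 : Led Lsl_ff (LP (LK LD1_c5 LD2_c34 LD3_c0)) = (LP (LK LD1_c10 LD2_c58 LD3_c30)) :=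
  Lgr Lrot3 (Lpr_ft (f226140 IH) (Lpn (LP (LK LD1_c10 LD2_c58 LD3_c30))))
theorem f226336 : Led Lsl_ct (LP (LK LD1_c5 LD2_c34 LD3_c0)) = (LP (LK LD1_c11 LD2_c0 LD3_c11)) :=
  Lre_c IH (LK LD1_c5 LD2_c34 LD3_c0) (LK LD1_c11 LD2_c0 LD3_c11) Lrfl Lrfl
theorem f225412 : Led Lsl_ct (LP (LK LD1_c19 LD2_c48 LD3_c58)) = (LP (LK LD1_c10 LD2_c58 LD3_c30)) :=
  Lre_c IH (LK LD1_c19 LD2_c48 LD3_c58) (LK LD1_c10 LD2_c58 LD3_c30) Lrfl Lrfl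
theorem f226364 : Led Lsl_ft (LP (LK LD1_c11 LD2_c0 LD3_c11)) = (LP (LK LD1_c19 LD2_c48 LD3_c58)) :=
  Lgr Lrot4 (Lpe (f226336 IH) (Lpr_ff (f226362 IH) (Lpe (f225412 IH) (Lpn (LP (LK LD1_c19 LD2_c48 LD3_c58))))))
theorem f226334 : Led Lsl_gt (LP (LK LD1_c11 LD2_c0 LD3_c11)) = (LP (LK LD1_c19 LD2_c21 LD3_c21)) :=
  Lre_g IH (LK LD1_c11 LD2_c0 LD3_c11) (LK LD1_c19 LD2_c21 LD3_c21) Lrfl Lrfl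
theorem f225422 : Led Lsl_at (LP (LK LD1_c19 LD2_c48 LD3_c58)) = (LP (LK LD1_c10 LD2_c58 LD3_c31)) :=
  Lre_a IH (LK LD1_c19 LD2_c48 LD3_c58) (LK LD1_c10 LD2_c58 LD3_c31) Lrfl Lrfl
theorem f226368 : Led Lsl_gt (LP (LK LD1_c19 LD2_c21 LD3_c21)) = (LP (LK LD1_c10 LD2_c58 LD3_c31)) :=
  Lgr Lrot46 (Lpe (f226334 IH) (Lpr_ft (f226364 IH) (Lpr_at (f225422 IH) (Lpn (LP (LK LD1_c10 LD2_c58 LD3_c31))))))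
theorem f226032 : Led Lsl_bt (LP (LK LD1_c10 LD2_c55 LD3_c3)) = (LP (LK LD1_c5 LD2_c31 LD3_c40)) :=
  Lre_b IH (LK LD1_c10 LD2_c55 LD3_c3) (LK LD1_c5 LD2_c31 LD3_c40) Lrfl Lrfl
theorem f174225 : Led Lsl_ct (LP (LK LD1_c2 LD2_c42 LD3_c55)) = (LP (LK LD1_c5 LD2_c33 LD3_c40)) :=
  Lre_c IH (LK LD1_c2 LD2_c42 LD3_c55) (LK LD1_c5 LD2_c33 LD3_c40) Lrfl Lrfl
theorem f225365 : Led Lsl_gt (LP (LK LD1_c10 LD2_c59 LD3_c19)) = (LP (LK LD1_c5 LD2_c33 LD3_c40)) :=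
  Lre_g IH (LK LD1_c10 LD2_c59 LD3_c19) (LK LD1_c5 LD2_c33 LD3_c40) Lrfl Lrfl
theorem f226033 : Led Lsl_ct (LP (LK LD1_c10 LD2_c55 LD3_c3)) = (LP (LK LD1_c10 LD2_c59 LD3_c19)) :=
  Lgr Lrot64 (Lpr_bt (f226032 IH) (Lpe (K14.f224535 IH) (Lpe (K14.f226024 IH) (Lpr_ct (K12.f175271 IH) (Lpr_gf (K12.f226018 IH) (Lpr_cf (K14.f226006 IH) (Lpe (K17.f225356 IH) (Lpe (K20.f174224 IH) (Lpr_ct (f174225 IH) (Lpe (f225365 IH) (Lpn (LP (LK LD1_c10 LD2_c59 LD3_c19)))))))))))))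
theorem f225358 : Led Lsl_ct (LP (LK LD1_c5 LD2_c33 LD3_c40)) = (LP (LK LD1_c2 LD2_c42 LD3_c55)) :=
  Lre_c IH (LK LD1_c5 LD2_c33 LD3_c40) (LK LD1_c2 LD2_c42 LD3_c55) Lrfl Lrfl
theorem f220924 : Led Lsl_ct (LP (LK LD1_c2 LD2_c42 LD3_c54)) = (LP (LK LD1_c1 LD2_c17 LD3_c57)) :=
  Lre_c IH (LK LD1_c2 LD2_c42 LD3_c54) (LK LD1_c1 LD2_c17 LD3_c57) Lrfl Lrfl
theorem f218378 : Led Lsl_ct (LP (LK LD1_c5 LD2_c31 LD3_c33)) = (LP (LK LD1_c5 LD2_c33 LD3_c36)) :=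
  Lre_c IH (LK LD1_c5 LD2_c31 LD3_c33) (LK LD1_c5 LD2_c33 LD3_c36) Lrfl Lrfl
theorem f218371 : Led Lsl_gt (LP (LK LD1_c10 LD2_c41 LD3_c20)) = (LP (LK LD1_c5 LD2_c31 LD3_c33)) :=
  Lre_g IH (LK LD1_c10 LD2_c41 LD3_c20) (LK LD1_c5 LD2_c31 LD3_c33) Lrfl Lrfl
theorem f218370 : Led Lsl_dt (LP (LK LD1_c19 LD2_c20 LD3_c58)) = (LP (LK LD1_c10 LD2_c41 LD3_c20)) :=
  Lre_d IH (LK LD1_c19 LD2_c20 LD3_c58) (LK LD1_c10 LD2_c41 LD3_c20) Lrfl Lrfl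
theorem f226126 : Led Lsl_gf (LP (LK LD1_c10 LD2_c55 LD3_c3)) = (LP (LK LD1_c19 LD2_c20 LD3_c58)) :=
  Lgr Lrot147 (Lpr_ct (f226033 IH) (Lpr_gt (f225365 IH) (Lpr_ct (f225358 IH) (Lpe (K20.f226125 IH) (Lpe (f220924 IH) (Lpe (K20.f220920 IH) (Lpe (f218378 IH) (Lpe (f218371 IH) (Lpe (f218370 IH) (Lpn (LP (LK LD1_c19 LD2_c20 LD3_c58))))))))))))
theorem f226128 : Led Lsl_bt (LP (LK LD1_c10 LD2_c41 LD3_c21)) = (LP (LK LD1_c19 LD2_c20 LD3_c58)) :=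
  Lre_b IH (LK LD1_c10 LD2_c41 LD3_c21) (LK LD1_c19 LD2_c20 LD3_c58) Lrfl Lrfl
theorem f226129 : Led Lsl_ct (LP (LK LD1_c10 LD2_c41 LD3_c21)) = (LP (LK LD1_c19 LD2_c20 LD3_c60)) :=
  Lre_c IH (LK LD1_c10 LD2_c41 LD3_c21) (LK LD1_c19 LD2_c20 LD3_c60) Lrfl Lrfl
theorem f213414 : Led Lsl_bt (LP (LK LD1_c5 LD2_c33 LD3_c16)) = (LP (LK LD1_c2 LD2_c42 LD3_c47)) :=
  Lre_b IH (LK LD1_c5 LD2_c33 LD3_c16) (LK LD1_c2 LD2_c42 LD3_c47) Lrfl Lrfl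
theorem f225366 : Led Lsl_ct (LP (LK LD1_c5 LD2_c33 LD3_c16)) = (LP (LK LD1_c10 LD2_c58 LD3_c31)) :=
  Lre_c IH (LK LD1_c5 LD2_c33 LD3_c16) (LK LD1_c10 LD2_c58 LD3_c31) Lrfl Lrfl
theorem f226130 : Led Lsl_gf (LP (LK LD1_c19 LD2_c20 LD3_c60)) = (LP (LK LD1_c10 LD2_c58 LD3_c31)) :=
  Lgr Lrot126 (Lpe (f226129 IH) (Lpr_bt (f226128 IH) (Lpe (f226126 IH) (Lpr_ct (f226033 IH) (Lpr_gt (f225365 IH) (Lpe (f174225 IH) (Lpr_bt (K20.f174224 IH) (Lpr_gt (K17.f225356 IH) (Lpe (f213414 IH) (Lpr_ct (f225366 IH) (Lpn (LP (LK LD1_c10 LD2_c58 LD3_c31)))))))))))))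
theorem f332382 : Led Lsl_af (LP (LK LD1_c19 LD2_c20 LD3_c60)) = (LP (LK LD1_c17 LD2_c53 LD3_c20)) :=
  Lgr Lrot31 (Lpr_gf (f226130 IH) (Lpe (f226368 IH) (Lpr_ft (f332380 IH) (Lpn (LP (LK LD1_c17 LD2_c53 LD3_c20))))))
theorem f226132 : Led Lsl_ct (LP (LK LD1_c19 LD2_c20 LD3_c60)) = (LP (LK LD1_c10 LD2_c41 LD3_c21)) :=
  Lre_c IH (LK LD1_c19 LD2_c20 LD3_c60) (LK LD1_c10 LD2_c41 LD3_c21) Lrfl Lrfl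
theorem f332386 : Led Lsl_at (LP (LK LD1_c10 LD2_c41 LD3_c21)) = (LP (LK LD1_c9 LD2_c44 LD3_c3)) :=
  Lgr Lrot107 (Lpe (f226132 IH) (Lpr_af (f332382 IH) (Lpe (f332368 IH) (Lpn (LP (LK LD1_c9 LD2_c44 LD3_c3))))))
theorem f332388 : Led Lsl_bt (LP (LK LD1_c19 LD2_c20 LD3_c58)) = (LP (LK LD1_c10 LD2_c41 LD3_c21)) :=
  Lre_b IH (LK LD1_c19 LD2_c20 LD3_c58) (LK LD1_c10 LD2_c41 LD3_c21) Lrfl Lrfl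
theorem f332373 : Led Lsl_bt (LP (LK LD1_c9 LD2_c44 LD3_c3)) = (LP (LK LD1_c4 LD2_c56 LD3_c14)) :=
  Lre_b IH (LK LD1_c9 LD2_c44 LD3_c3) (LK LD1_c4 LD2_c56 LD3_c14) Lrfl Lrfl
theorem f332389 : Led Lsl_at (LP (LK LD1_c4 LD2_c56 LD3_c14)) = (LP (LK LD1_c9 LD2_c44 LD3_c0)) :=
  Lre_a IH (LK LD1_c4 LD2_c56 LD3_c14) (LK LD1_c9 LD2_c44 LD3_c0) Lrfl Lrfl
theorem f332390 : Led Lsl_bt (LP (LK LD1_c9 LD2_c44 LD3_c0)) = (LP (LK LD1_c17 LD2_c53 LD3_c17)) :=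
  Lre_b IH (LK LD1_c9 LD2_c44 LD3_c0) (LK LD1_c17 LD2_c53 LD3_c17) Lrfl Lrfl
theorem f332391 : Led Lsl_af (LP (LK LD1_c19 LD2_c20 LD3_c58)) = (LP (LK LD1_c17 LD2_c53 LD3_c17)) :=
  Lgr Lrot36 (Lpr_bt (f332388 IH) (Lpr_at (f332386 IH) (Lpr_bt (f332373 IH) (Lpr_at (f332389 IH) (Lpr_bt (f332390 IH) (Lpn (LP (LK LD1_c17 LD2_c53 LD3_c17))))))))
theorem f332413 : Led Lsl_ft (LP (LK LD1_c9 LD2_c44 LD3_c16)) = (LP (LK LD1_c17 LD2_c53 LD3_c17)) :=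
  Lre_f IH (LK LD1_c9 LD2_c44 LD3_c16) (LK LD1_c17 LD2_c53 LD3_c17) Lrfl Lrfl
theorem f332414 : Led Lsl_at (LP (LK LD1_c17 LD2_c53 LD3_c30)) = (LP (LK LD1_c9 LD2_c44 LD3_c16)) :=
  Lre_a IH (LK LD1_c17 LD2_c53 LD3_c30) (LK LD1_c9 LD2_c44 LD3_c16) Lrfl Lrfl
theorem f332415 : Led Lsl_ft (LP (LK LD1_c19 LD2_c20 LD3_c58)) = (LP (LK LD1_c17 LD2_c53 LD3_c30)) :=
  Lgr Lrot101 (Lpr_af (f332391 IH) (Lpe (f332413 IH) (Lpe (f332414 IH) (Lpn (LP (LK LD1_c17 LD2_c53 LD3_c30))))))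
theorem f332396 : Led Lsl_ft (LP (LK LD1_c19 LD2_c21 LD3_c0)) = (LP (LK LD1_c10 LD2_c41 LD3_c21)) :=
  Lre_f IH (LK LD1_c19 LD2_c21 LD3_c0) (LK LD1_c10 LD2_c41 LD3_c21) Lrfl Lrfl
theorem f332424 : Led Lsl_bf (LP (LK LD1_c19 LD2_c21 LD3_c0)) = (LP (LK LD1_c17 LD2_c53 LD3_c30)) :=
  Lgr Lrot61 (Lpr_ft (f332396 IH) (Lpr_bt (f226128 IH) (Lpr_ft (f332415 IH) (Lpn (LP (LK LD1_c17 LD2_c53 LD3_c30))))))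
theorem f332369 : Led Lsl_at (LP (LK LD1_c19 LD2_c21 LD3_c0)) = (LP (LK LD1_c10 LD2_c41 LD3_c36)) :=
  Lre_a IH (LK LD1_c19 LD2_c21 LD3_c0) (LK LD1_c10 LD2_c41 LD3_c36) Lrfl Lrfl
theorem f332440 : Led Lsl_at (LP (LK LD1_c9 LD2_c44 LD3_c16)) = (LP (LK LD1_c17 LD2_c53 LD3_c30)) :=
  Lre_a IH (LK LD1_c9 LD2_c44 LD3_c16) (LK LD1_c17 LD2_c53 LD3_c30) Lrfl Lrfl
theorem f332436 : Led Lsl_bt (LP (LK LD1_c4 LD2_c56 LD3_c19)) = (LP (LK LD1_c9 LD2_c44 LD3_c16)) :=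
  Lre_b IH (LK LD1_c4 LD2_c56 LD3_c19) (LK LD1_c9 LD2_c44 LD3_c16) Lrfl Lrfl
theorem f332492 : Led Lsl_at (LP (LK LD1_c9 LD2_c44 LD3_c10)) = (LP (LK LD1_c4 LD2_c56 LD3_c19)) :=
  Lre_a IH (LK LD1_c9 LD2_c44 LD3_c10) (LK LD1_c4 LD2_c56 LD3_c19) Lrfl Lrfl
theorem f332493 : Led Lsl_bt (LP (LK LD1_c10 LD2_c41 LD3_c36)) = (LP (LK LD1_c9 LD2_c44 LD3_c10)) :=
  Lgr Lrot62 (Lpe (f332369 IH) (Lpr_bf (f332424 IH) (Lpe (f332440 IH) (Lpe (f332436 IH) (Lpe (f332492 IH) (Lpn (LP (LK LD1_c9 LD2_c44 LD3_c10))))))))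
theorem f226241 : Led Lsl_ct (LP (LK LD1_c10 LD2_c41 LD3_c36)) = (LP (LK LD1_c19 LD2_c21 LD3_c21)) :=
  Lre_c IH (LK LD1_c10 LD2_c41 LD3_c36) (LK LD1_c19 LD2_c21 LD3_c21) Lrfl Lrfl
theorem f225333 : Led Lsl_bt (LP (LK LD1_c2 LD2_c40 LD3_c45)) = (LP (LK LD1_c5 LD2_c28 LD3_c60)) :=
  Lre_b IH (LK LD1_c2 LD2_c40 LD3_c45) (LK LD1_c5 LD2_c28 LD3_c60) Lrfl Lrfl
theorem f332498 : Led Lsl_gt (LP (LK LD1_c5 LD2_c28 LD3_c60)) = (LP (LK LD1_c9 LD2_c44 LD3_c10)) :=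
  Lgr Lrot164 (Lpe (f225333 IH) (Lpr_ct (K12.f225250 IH) (Lpe (K12.f225340 IH) (Lpr_cf (K12.f172328 IH) (Lpe (K14.f179853 IH) (Lpe (f213414 IH) (Lpr_ct (f225366 IH) (Lpe (f226368 IH) (Lpe (f226241 IH) (Lpr_bt (f332493 IH) (Lpn (LP (LK LD1_c9 LD2_c44 LD3_c10)))))))))))))
theorem f332489 : Led Lsl_at (LP (LK LD1_c4 LD2_c56 LD3_c19)) = (LP (LK LD1_c9 LD2_c44 LD3_c10)) :=
  Lre_a IH (LK LD1_c4 LD2_c56 LD3_c19) (LK LD1_c9 LD2_c44 LD3_c10) Lrfl Lrfl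
theorem f332500 : Led Lsl_ft (LP (LK LD1_c9 LD2_c44 LD3_c0)) = (LP (LK LD1_c4 LD2_c56 LD3_c19)) :=
  Lre_f IH (LK LD1_c9 LD2_c44 LD3_c0) (LK LD1_c4 LD2_c56 LD3_c19) Lrfl Lrfl
theorem f332501 : Led Lsl_gf (LP (LK LD1_c5 LD2_c28 LD3_c60)) = (LP (LK LD1_c9 LD2_c44 LD3_c0)) :=
  Lgr Lrot47 (Lpr_gt (f332498 IH) (Lpe (f332489 IH) (Lpe (f332500 IH) (Lpn (LP (LK LD1_c9 LD2_c44 LD3_c0))))))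
theorem f225694 : Led Lsl_bt (LP (LK LD1_c1 LD2_c17 LD3_c58)) = (LP (LK LD1_c2 LD2_c42 LD3_c55)) :=
  Lre_b IH (LK LD1_c1 LD2_c17 LD3_c58) (LK LD1_c2 LD2_c42 LD3_c55) Lrfl Lrfl
theorem f225695 : Led Lsl_gt (LP (LK LD1_c2 LD2_c42 LD3_c55)) = (LP (LK LD1_c5 LD2_c33 LD3_c38)) :=
  Lre_g IH (LK LD1_c2 LD2_c42 LD3_c55) (LK LD1_c5 LD2_c33 LD3_c38) Lrfl Lrfl
theorem f225697 : Led Lsl_ct (LP (LK LD1_c5 LD2_c33 LD3_c38)) = (LP (LK LD1_c10 LD2_c59 LD3_c13)) :=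
  Lre_c IH (LK LD1_c5 LD2_c33 LD3_c38) (LK LD1_c10 LD2_c59 LD3_c13) Lrfl Lrfl
theorem f225698 : Led Lsl_gt (LP (LK LD1_c10 LD2_c59 LD3_c13)) = (LP (LK LD1_c19 LD2_c49 LD3_c53)) :=
  Lre_g IH (LK LD1_c10 LD2_c59 LD3_c13) (LK LD1_c19 LD2_c49 LD3_c53) Lrfl Lrfl
theorem f332507 : Led Lsl_bt (LP (LK LD1_c17 LD2_c53 LD3_c17)) = (LP (LK LD1_c9 LD2_c44 LD3_c0)) :=
  Lre_b IH (LK LD1_c17 LD2_c53 LD3_c17) (LK LD1_c9 LD2_c44 LD3_c0) Lrfl Lrfl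
theorem f332508 : Led Lsl_cf (LP (LK LD1_c19 LD2_c49 LD3_c53)) = (LP (LK LD1_c17 LD2_c53 LD3_c17)) :=
  Lgr Lrot163 (Lpe (f225698 IH) (Lpe (f225697 IH) (Lpe (f225695 IH) (Lpe (f225694 IH) (Lpr_ct (K9.f172296 IH) (Lpe (K12.f174941 IH) (Lpe (K12.f225250 IH) (Lpr_bt (f225333 IH) (Lpr_gf (f332501 IH) (Lpe (f332507 IH) (Lpn (LP (LK LD1_c17 LD2_c53 LD3_c17)))))))))))))
theorem f332511 : Led Lsl_ct (LP (LK LD1_c19 LD2_c49 LD3_c53)) = (LP (LK LD1_c17 LD2_c53 LD3_c17)) :=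
  Lgr Lrot59 (Lpr_cf (f332508 IH) (Lpn (LP (LK LD1_c17 LD2_c53 LD3_c17))))
theorem f221037 : Led Lsl_dt (LP (LK LD1_c2 LD2_c42 LD3_c55)) = (LP (LK LD1_c1 LD2_c17 LD3_c57)) :=
  Lre_d IH (LK LD1_c2 LD2_c42 LD3_c55) (LK LD1_c1 LD2_c17 LD3_c57) Lrfl Lrfl
theorem f220925 : Led Lsl_gt (LP (LK LD1_c1 LD2_c17 LD3_c57)) = (LP (LK LD1_c2 LD2_c42 LD3_c51)) :=
  Lre_g IH (LK LD1_c1 LD2_c17 LD3_c57) (LK LD1_c2 LD2_c42 LD3_c51) Lrfl Lrfl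
theorem f220937 : Led Lsl_ct (LP (LK LD1_c2 LD2_c42 LD3_c51)) = (LP (LK LD1_c5 LD2_c33 LD3_c26)) :=
  Lre_c IH (LK LD1_c2 LD2_c42 LD3_c51) (LK LD1_c5 LD2_c33 LD3_c26) Lrfl Lrfl
theorem f332517 : Led Lsl_gt (LP (LK LD1_c5 LD2_c33 LD3_c26)) = (LP (LK LD1_c10 LD2_c58 LD3_c47)) :=
  Lre_g IH (LK LD1_c5 LD2_c33 LD3_c26) (LK LD1_c10 LD2_c58 LD3_c47) Lrfl Lrfl
theorem f332410 : Led Lsl_dt (LP (LK LD1_c9 LD2_c43 LD3_c60)) = (LP (LK LD1_c17 LD2_c53 LD3_c17)) :=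
  Lre_d IH (LK LD1_c9 LD2_c43 LD3_c60) (LK LD1_c17 LD2_c53 LD3_c17) Lrfl Lrfl
theorem f332518 : Led Lsl_ct (LP (LK LD1_c10 LD2_c58 LD3_c47)) = (LP (LK LD1_c9 LD2_c43 LD3_c60)) :=
  Lgr Lrot110 (Lpe (f332517 IH) (Lpe (f220937 IH) (Lpe (f220925 IH) (Lpe (f221037 IH) (Lpr_gt (f225695 IH) (Lpr_ct (f225697 IH) (Lpr_gt (f225698 IH) (Lpr_ct (f332511 IH) (Lpe (f332410 IH) (Lpn (LP (LK LD1_c9 LD2_c43 LD3_c60))))))))))))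
theorem f332491 : Led Lsl_ft (LP (LK LD1_c9 LD2_c43 LD3_c60)) = (LP (LK LD1_c4 LD2_c56 LD3_c17)) :=
  Lre_f IH (LK LD1_c9 LD2_c43 LD3_c60) (LK LD1_c4 LD2_c56 LD3_c17) Lrfl Lrfl
theorem f168807 : Led Lsl_ct (LP (LK LD1_c4 LD2_c56 LD3_c17)) = (LP (LK LD1_c9 LD2_c44 LD3_c15)) :=
  Lre_c IH (LK LD1_c4 LD2_c56 LD3_c17) (LK LD1_c9 LD2_c44 LD3_c15) Lrfl Lrfl
theorem f332533 : Led Lsl_ff (LP (LK LD1_c10 LD2_c58 LD3_c47)) = (LP (LK LD1_c9 LD2_c44 LD3_c15)) :=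
  Lgr Lrot23 (Lpr_ct (f332518 IH) (Lpr_ft (f332491 IH) (Lpr_ct (f168807 IH) (Lpn (LP (LK LD1_c9 LD2_c44 LD3_c15))))))
theorem f332545 : Led Lsl_ft (LP (LK LD1_c10 LD2_c58 LD3_c47)) = (LP (LK LD1_c9 LD2_c44 LD3_c15)) :=
  Lgr Lrot48 (Lpr_ff (f332533 IH) (Lpn (LP (LK LD1_c9 LD2_c44 LD3_c15))))
theorem f332522 : Led Lsl_bt (LP (LK LD1_c19 LD2_c49 LD3_c8)) = (LP (LK LD1_c10 LD2_c58 LD3_c47)) :=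
  Lre_b IH (LK LD1_c19 LD2_c49 LD3_c8) (LK LD1_c10 LD2_c58 LD3_c47) Lrfl Lrfl
theorem f332435 : Led Lsl_bt (LP (LK LD1_c9 LD2_c44 LD3_c15)) = (LP (LK LD1_c17 LD2_c53 LD3_c32)) :=
  Lre_b IH (LK LD1_c9 LD2_c44 LD3_c15) (LK LD1_c17 LD2_c53 LD3_c32) Lrfl Lrfl
theorem f332547 : Led Lsl_ff (LP (LK LD1_c19 LD2_c49 LD3_c8)) = (LP (LK LD1_c17 LD2_c53 LD3_c32)) :=
  Lgr Lrot25 (Lpr_bt (f332522 IH) (Lpr_ft (f332545 IH) (Lpr_bt (f332435 IH) (Lpn (LP (LK LD1_c17 LD2_c53 LD3_c32))))))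
theorem f200959 : Led Lsl_bt (LP (LK LD1_c15 LD2_c17 LD3_c54)) = (LP (LK LD1_c25 LD2_c8 LD3_c34)) :=
  Lre_b IH (LK LD1_c15 LD2_c17 LD3_c54) (LK LD1_c25 LD2_c8 LD3_c34) Lrfl Lrfl
theorem f200960 : Led Lsl_df (LP (LK LD1_c15 LD2_c17 LD3_c54)) = (LP (LK LD1_c8 LD2_c9 LD3_c18)) :=
  Lgr Lrot12 (Lpr_bt (f200959 IH) (Lpr_dt (f200951 IH) (Lpr_bt (K20.f52475 IH) (Lpn (LP (LK LD1_c8 LD2_c9 LD3_c18))))))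
theorem f318382 : Led Lsl_df (LP (LK LD1_c17 LD2_c53 LD3_c32)) = (LP (LK LD1_c19 LD2_c36 LD3_c12)) :=
  Lgr Lrot162 (Lpe (f318379 IH) (Lpr_gf (K20.f318377 IH) (Lpe (K11.f52298 IH) (Lpe (K20.f52463 IH) (Lpe (f200960 IH) (Lpr_gt (f200970 IH) (Lpe (K18.f220275 IH) (Lpr_gt (f220291 IH) (Lpr_ct (f220295 IH) (Lpn (LP (LK LD1_c19 LD2_c36 LD3_c12))))))))))))
theorem f179301 : Led Lsl_bt (LP (LK LD1_c0 LD2_c35 LD3_c38)) = (LP (LK LD1_c1 LD2_c17 LD3_c3)) :=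
  Lre_b IH (LK LD1_c0 LD2_c35 LD3_c38) (LK LD1_c1 LD2_c17 LD3_c3) Lrfl Lrfl
theorem f172945 : Led Lsl_gt (LP (LK LD1_c1 LD2_c17 LD3_c3)) = (LP (LK LD1_c2 LD2_c40 LD3_c47)) :=
  Lre_g IH (LK LD1_c1 LD2_c17 LD3_c3) (LK LD1_c2 LD2_c40 LD3_c47) Lrfl Lrfl
theorem f179302 : Led Lsl_bt (LP (LK LD1_c5 LD2_c29 LD3_c2)) = (LP (LK LD1_c2 LD2_c40 LD3_c47)) :=
  Lre_b IH (LK LD1_c5 LD2_c29 LD3_c2) (LK LD1_c2 LD2_c40 LD3_c47) Lrfl Lrfl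
theorem f178140 : Led Lsl_ct (LP (LK LD1_c1 LD2_c19 LD3_c13)) = (LP (LK LD1_c2 LD2_c45 LD3_c31)) :=
  Lre_c IH (LK LD1_c1 LD2_c19 LD3_c13) (LK LD1_c2 LD2_c45 LD3_c31) Lrfl Lrfl
theorem f179303 : Led Lsl_gt (LP (LK LD1_c5 LD2_c39 LD3_c5)) = (LP (LK LD1_c2 LD2_c45 LD3_c31)) :=
  Lre_g IH (LK LD1_c5 LD2_c39 LD3_c5) (LK LD1_c2 LD2_c45 LD3_c31) Lrfl Lrfl
theorem f179304 : Led Lsl_ct (LP (LK LD1_c5 LD2_c29 LD3_c2)) = (LP (LK LD1_c5 LD2_c39 LD3_c5)) :=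
  Lgr Lrot64 (Lpr_bt (f179302 IH) (Lpe (f172945 IH) (Lpe (f179301 IH) (Lpr_ct (K9.f7884 IH) (Lpe (K12.f172407 IH) (Lpe (K12.f172408 IH) (Lpr_gf (K12.f179189 IH) (Lpe (K20.f178158 IH) (Lpr_ct (f178140 IH) (Lpe (f179303 IH) (Lpn (LP (LK LD1_c5 LD2_c39 LD3_c5)))))))))))))
theorem f179322 : Led Lsl_bt (LP (LK LD1_c2 LD2_c40 LD3_c47)) = (LP (LK LD1_c5 LD2_c29 LD3_c2)) :=
  Lre_b IH (LK LD1_c2 LD2_c40 LD3_c47) (LK LD1_c5 LD2_c29 LD3_c2) Lrfl Lrfl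
theorem f179323 : Led Lsl_ct (LP (LK LD1_c5 LD2_c29 LD3_c3)) = (LP (LK LD1_c2 LD2_c40 LD3_c47)) :=
  Lre_c IH (LK LD1_c5 LD2_c29 LD3_c3) (LK LD1_c2 LD2_c40 LD3_c47) Lrfl Lrfl
theorem f179324 : Led Lsl_bt (LP (LK LD1_c10 LD2_c49 LD3_c18)) = (LP (LK LD1_c5 LD2_c29 LD3_c3)) :=
  Lre_b IH (LK LD1_c10 LD2_c49 LD3_c18) (LK LD1_c5 LD2_c29 LD3_c3) Lrfl Lrfl
theorem f179325 : Led Lsl_bt (LP (LK LD1_c5 LD2_c39 LD3_c5)) = (LP (LK LD1_c11 LD2_c9 LD3_c11)) :=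
  Lre_b IH (LK LD1_c5 LD2_c39 LD3_c5) (LK LD1_c11 LD2_c9 LD3_c11) Lrfl Lrfl
theorem f179326 : Led Lsl_cf (LP (LK LD1_c10 LD2_c49 LD3_c18)) = (LP (LK LD1_c11 LD2_c9 LD3_c11)) :=
  Lgr Lrot97 (Lpr_bt (f179324 IH) (Lpr_ct (f179323 IH) (Lpr_bt (f179322 IH) (Lpr_ct (f179304 IH) (Lpr_bt (f179325 IH) (Lpn (LP (LK LD1_c11 LD2_c9 LD3_c11))))))))
theorem f179387 : Led Lsl_gt (LP (LK LD1_c19 LD2_c33 LD3_c29)) = (LP (LK LD1_c10 LD2_c49 LD3_c18)) :=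
  Lre_g IH (LK LD1_c19 LD2_c33 LD3_c29) (LK LD1_c10 LD2_c49 LD3_c18) Lrfl Lrfl
theorem f179382 : Led Lsl_bt (LP (LK LD1_c11 LD2_c9 LD3_c11)) = (LP (LK LD1_c5 LD2_c39 LD3_c5)) :=
  Lre_b IH (LK LD1_c11 LD2_c9 LD3_c11) (LK LD1_c5 LD2_c39 LD3_c5) Lrfl Lrfl
theorem f179410 : Led Lsl_bt (LP (LK LD1_c1 LD2_c19 LD3_c7)) = (LP (LK LD1_c2 LD2_c45 LD3_c31)) :=
  Lre_b IH (LK LD1_c1 LD2_c19 LD3_c7) (LK LD1_c2 LD2_c45 LD3_c31) Lrfl Lrfl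
theorem f179415 : Led Lsl_cf (LP (LK LD1_c19 LD2_c33 LD3_c29)) = (LP (LK LD1_c11 LD2_c8 LD3_c39)) :=
  Lgr Lrot125 (Lpr_gt (f179387 IH) (Lpr_cf (f179326 IH) (Lpr_bt (f179382 IH) (Lpr_gt (f179303 IH) (Lpe (f179410 IH) (Lpr_ct (K12.f178112 IH) (Lpr_gt (K13.f179411 IH) (Lpe (K13.f179412 IH) (Lpr_bt (K18.f179413 IH) (Lpr_gt (K18.f179414 IH) (Lpn (LP (LK LD1_c11 LD2_c8 LD3_c39)))))))))))))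
theorem f179417 : Led Lsl_bt (LP (LK LD1_c11 LD2_c8 LD3_c39)) = (LP (LK LD1_c20 LD2_c2 LD3_c10)) :=
  Lre_b IH (LK LD1_c11 LD2_c8 LD3_c39) (LK LD1_c20 LD2_c2 LD3_c10) Lrfl Lrfl
theorem f171867 : Led Lsl_gt (LP (LK LD1_c1 LD2_c19 LD3_c13)) = (LP (LK LD1_c2 LD2_c45 LD3_c40)) :=
  Lre_g IH (LK LD1_c1 LD2_c19 LD3_c13) (LK LD1_c2 LD2_c45 LD3_c40) Lrfl Lrfl
theorem f179227 : Led Lsl_ct (LP (LK LD1_c5 LD2_c39 LD3_c24)) = (LP (LK LD1_c2 LD2_c45 LD3_c40)) :=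
  Lre_c IH (LK LD1_c5 LD2_c39 LD3_c24) (LK LD1_c2 LD2_c45 LD3_c40) Lrfl Lrfl
theorem f179273 : Led Lsl_bt (LP (LK LD1_c5 LD2_c39 LD3_c24)) = (LP (LK LD1_c11 LD2_c9 LD3_c52)) :=
  Lre_b IH (LK LD1_c5 LD2_c39 LD3_c24) (LK LD1_c11 LD2_c9 LD3_c52) Lrfl Lrfl
theorem f179418 : Led Lsl_gf (LP (LK LD1_c20 LD2_c2 LD3_c10)) = (LP (LK LD1_c11 LD2_c9 LD3_c52)) :=
  Lgr Lrot124 (Lpe (f179417 IH) (Lpe (f179415 IH) (Lpr_gt (f179387 IH) (Lpr_cf (f179326 IH) (Lpr_bt (f179382 IH) (Lpr_gt (f179303 IH) (Lpr_ct (K20.f179300 IH) (Lpr_gt (f171867 IH) (Lpe (f179227 IH) (Lpr_bt (f179273 IH) (Lpn (LP (LK LD1_c11 LD2_c9 LD3_c52)))))))))))))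
theorem f179276 : Led Lsl_gt (LP (LK LD1_c20 LD2_c4 LD3_c21)) = (LP (LK LD1_c11 LD2_c9 LD3_c52)) :=
  Lre_g IH (LK LD1_c20 LD2_c4 LD3_c21) (LK LD1_c11 LD2_c9 LD3_c52) Lrfl Lrfl
theorem f332167 : Led Lsl_ff (LP (LK LD1_c19 LD2_c36 LD3_c12)) = (LP (LK LD1_c20 LD2_c4 LD3_c21)) :=
  Lgr Lrot52 (Lpr_at (f332160 IH) (Lpr_gf (f179418 IH) (Lpe (f179276 IH) (Lpn (LP (LK LD1_c20 LD2_c4 LD3_c21))))))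
theorem f332555 : Led Lsl_dt (LP (LK LD1_c19 LD2_c49 LD3_c8)) = (LP (LK LD1_c20 LD2_c4 LD3_c21)) :=
  Lgr Lrot60 (Lpr_ff (f332547 IH) (Lpr_df (f318382 IH) (Lpr_ff (f332167 IH) (Lpn (LP (LK LD1_c20 LD2_c4 LD3_c21))))))
theorem f332562 : Led Lsl_df (LP (LK LD1_c19 LD2_c49 LD3_c8)) = (LP (LK LD1_c20 LD2_c4 LD3_c21)) :=
  Lgr Lrot38 (Lpr_dt (f332555 IH) (Lpn (LP (LK LD1_c20 LD2_c4 LD3_c21))))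
theorem f332541 : Led Lsl_dt (LP (LK LD1_c10 LD2_c58 LD3_c47)) = (LP (LK LD1_c19 LD2_c49 LD3_c9)) :=
  Lre_d IH (LK LD1_c10 LD2_c58 LD3_c47) (LK LD1_c19 LD2_c49 LD3_c9) Lrfl Lrfl
theorem f332565 : Led Lsl_bt (LP (LK LD1_c19 LD2_c49 LD3_c9)) = (LP (LK LD1_c20 LD2_c4 LD3_c21)) :=
  Lgr Lrot95 (Lpe (f332541 IH) (Lpe (f332522 IH) (Lpr_df (f332562 IH) (Lpn (LP (LK LD1_c20 LD2_c4 LD3_c21))))))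
theorem f332528 : Led Lsl_dt (LP (LK LD1_c19 LD2_c49 LD3_c9)) = (LP (LK LD1_c10 LD2_c58 LD3_c47)) :=
  Lre_d IH (LK LD1_c19 LD2_c49 LD3_c9) (LK LD1_c10 LD2_c58 LD3_c47) Lrfl Lrfl
theorem f168810 : Led Lsl_dt (LP (LK LD1_c9 LD2_c44 LD3_c15)) = (LP (LK LD1_c17 LD2_c53 LD3_c33)) :=
  Lre_d IH (LK LD1_c9 LD2_c44 LD3_c15) (LK LD1_c17 LD2_c53 LD3_c33) Lrfl Lrfl
theorem f332549 : Led Lsl_ff (LP (LK LD1_c19 LD2_c49 LD3_c9)) = (LP (LK LD1_c17 LD2_c53 LD3_c33)) :=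
  Lgr Lrot19 (Lpr_dt (f332528 IH) (Lpr_ft (f332545 IH) (Lpr_dt (f168810 IH) (Lpn (LP (LK LD1_c17 LD2_c53 LD3_c33))))))
theorem f332569 : Led Lsl_bf (LP (LK LD1_c17 LD2_c53 LD3_c33)) = (LP (LK LD1_c19 LD2_c36 LD3_c12)) :=
  Lgr Lrot61 (Lpe (f332549 IH) (Lpr_bt (f332565 IH) (Lpe (f332167 IH) (Lpn (LP (LK LD1_c19 LD2_c36 LD3_c12))))))
theorem f319773 : Led Lsl_at (LP (LK LD1_c4 LD2_c30 LD3_c7)) = (LP (LK LD1_c8 LD2_c58 LD3_c21)) :=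
  Lre_a IH (LK LD1_c4 LD2_c30 LD3_c7) (LK LD1_c8 LD2_c58 LD3_c21) Lrfl Lrfl
theorem f319786 : Led Lsl_gf (LP (LK LD1_c8 LD2_c58 LD3_c21)) = (LP (LK LD1_c5 LD2_c33 LD3_c38)) :=
  Lgr Lrot76 (Lpe (f319773 IH) (Lpr_ff (K20.f319763 IH) (Lpr_gt (f225695 IH) (Lpn (LP (LK LD1_c5 LD2_c33 LD3_c38))))))
theorem f319790 : Led Lsl_ct (LP (LK LD1_c8 LD2_c58 LD3_c21)) = (LP (LK LD1_c16 LD2_c47 LD3_c20)) :=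
  Lre_c IH (LK LD1_c8 LD2_c58 LD3_c21) (LK LD1_c16 LD2_c47 LD3_c20) Lrfl Lrfl
theorem f225696 : Led Lsl_bt (LP (LK LD1_c10 LD2_c59 LD3_c12)) = (LP (LK LD1_c5 LD2_c33 LD3_c38)) :=
  Lre_b IH (LK LD1_c10 LD2_c59 LD3_c12) (LK LD1_c5 LD2_c33 LD3_c38) Lrfl Lrfl
theorem f165026 : Led Lsl_bt (LP (LK LD1_c4 LD2_c29 LD3_c36)) = (LP (LK LD1_c2 LD2_c11 LD3_c51)) :=
  Lre_b IH (LK LD1_c4 LD2_c29 LD3_c36) (LK LD1_c2 LD2_c11 LD3_c51) Lrfl Lrfl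
theorem f165027 : Led Lsl_ct (LP (LK LD1_c4 LD2_c29 LD3_c36)) = (LP (LK LD1_c8 LD2_c57 LD3_c26)) :=
  Lre_c IH (LK LD1_c4 LD2_c29 LD3_c36) (LK LD1_c8 LD2_c57 LD3_c26) Lrfl Lrfl
theorem f226709 : Led Lsl_gt (LP (LK LD1_c16 LD2_c46 LD3_c10)) = (LP (LK LD1_c8 LD2_c57 LD3_c26)) :=
  Lre_g IH (LK LD1_c16 LD2_c46 LD3_c10) (LK LD1_c8 LD2_c57 LD3_c26) Lrfl Lrfl
theorem f226710 : Led Lsl_ct (LP (LK LD1_c10 LD2_c59 LD3_c12)) = (LP (LK LD1_c16 LD2_c46 LD3_c10)) :=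
  Lgr Lrot64 (Lpr_bt (f225696 IH) (Lpe (f225695 IH) (Lpe (f225694 IH) (Lpr_ct (K9.f172296 IH) (Lpe (K12.f174941 IH) (Lpe (K12.f225250 IH) (Lpr_gf (K12.f226699 IH) (Lpe (f165026 IH) (Lpr_ct (f165027 IH) (Lpe (f226709 IH) (Lpn (LP (LK LD1_c16 LD2_c46 LD3_c10)))))))))))))
theorem f281177 : Led Lsl_at (LP (LK LD1_c16 LD2_c46 LD3_c4)) = (LP (LK LD1_c8 LD2_c57 LD3_c26)) :=
  Lre_a IH (LK LD1_c16 LD2_c46 LD3_c4) (LK LD1_c8 LD2_c57 LD3_c26) Lrfl Lrfl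
theorem f281183 : Led Lsl_gt (LP (LK LD1_c10 LD2_c57 LD3_c2)) = (LP (LK LD1_c16 LD2_c46 LD3_c10)) :=
  Lgr Lrot5 (Lpr_ft (K20.f281171 IH) (Lpr_at (f281177 IH) (Lpe (f226709 IH) (Lpn (LP (LK LD1_c16 LD2_c46 LD3_c10))))))
theorem f280803 : Led Lsl_at (LP (LK LD1_c4 LD2_c29 LD3_c59)) = (LP (LK LD1_c8 LD2_c58 LD3_c4)) :=
  Lre_a IH (LK LD1_c4 LD2_c29 LD3_c59) (LK LD1_c8 LD2_c58 LD3_c4) Lrfl Lrfl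
theorem f280810 : Led Lsl_gt (LP (LK LD1_c5 LD2_c31 LD3_c40)) = (LP (LK LD1_c8 LD2_c58 LD3_c4)) :=
  Lgr Lrot46 (Lpe (K14.f224535 IH) (Lpr_ft (K20.f280801 IH) (Lpr_at (f280803 IH) (Lpn (LP (LK LD1_c8 LD2_c58 LD3_c4))))))
theorem f319791 : Led Lsl_gt (LP (LK LD1_c16 LD2_c47 LD3_c20)) = (LP (LK LD1_c10 LD2_c59 LD3_c19)) :=
  Lgr Lrot149 (Lpe (f319790 IH) (Lpr_gf (f319786 IH) (Lpe (f225696 IH) (Lpr_ct (f226710 IH) (Lpe (f281183 IH) (Lpe (K20.f280653 IH) (Lpr_bt (K20.f280640 IH) (Lpe (f280810 IH) (Lpe (f226032 IH) (Lpr_ct (f226033 IH) (Lpn (LP (LK LD1_c10 LD2_c59 LD3_c19)))))))))))))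
theorem f238461 : Led Lsl_at (LP (LK LD1_c10 LD2_c59 LD3_c3)) = (LP (LK LD1_c5 LD2_c33 LD3_c40)) :=
  Lre_a IH (LK LD1_c10 LD2_c59 LD3_c3) (LK LD1_c5 LD2_c33 LD3_c40) Lrfl Lrfl
theorem f319797 : Led Lsl_ft (LP (LK LD1_c16 LD2_c47 LD3_c20)) = (LP (LK LD1_c10 LD2_c59 LD3_c3)) :=
  Lgr Lrot2 (Lpr_gt (f319791 IH) (Lpr_gt (f225365 IH) (Lpe (f238461 IH) (Lpn (LP (LK LD1_c10 LD2_c59 LD3_c3))))))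
theorem f238490 : Led Lsl_ct (LP (LK LD1_c10 LD2_c59 LD3_c3)) = (LP (LK LD1_c5 LD2_c33 LD3_c33)) :=
  Lre_c IH (LK LD1_c10 LD2_c59 LD3_c3) (LK LD1_c5 LD2_c33 LD3_c33) Lrfl Lrfl
theorem f319803 : Led Lsl_ff (LP (LK LD1_c8 LD2_c58 LD3_c21)) = (LP (LK LD1_c5 LD2_c33 LD3_c33)) :=
  Lgr Lrot23 (Lpr_ct (f319790 IH) (Lpr_ft (f319797 IH) (Lpr_ct (f238490 IH) (Lpn (LP (LK LD1_c5 LD2_c33 LD3_c33))))))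
theorem f289600 : Led Lsl_at (LP (LK LD1_c8 LD2_c58 LD3_c21)) = (LP (LK LD1_c4 LD2_c30 LD3_c7)) :=
  Lre_a IH (LK LD1_c8 LD2_c58 LD3_c21) (LK LD1_c4 LD2_c30 LD3_c7) Lrfl Lrfl
theorem f319816 : Led Lsl_gf (LP (LK LD1_c5 LD2_c39 LD3_c29)) = (LP (LK LD1_c5 LD2_c33 LD3_c33)) :=
  Lgr Lrot47 (Lpe (K20.f289598 IH) (Lpe (f289600 IH) (Lpr_ff (f319803 IH) (Lpn (LP (LK LD1_c5 LD2_c33 LD3_c33))))))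
theorem f179469 : Led Lsl_dt (LP (LK LD1_c5 LD2_c39 LD3_c29)) = (LP (LK LD1_c2 LD2_c45 LD3_c41)) :=
  Lre_d IH (LK LD1_c5 LD2_c39 LD3_c29) (LK LD1_c2 LD2_c45 LD3_c41) Lrfl Lrfl
theorem f179471 : Led Lsl_ct (LP (LK LD1_c2 LD2_c45 LD3_c41)) = (LP (LK LD1_c5 LD2_c39 LD3_c28)) :=
  Lre_c IH (LK LD1_c2 LD2_c45 LD3_c41) (LK LD1_c5 LD2_c39 LD3_c28) Lrfl Lrfl
theorem f244203 : Led Lsl_dt (LP (LK LD1_c11 LD2_c10 LD3_c3)) = (LP (LK LD1_c5 LD2_c39 LD3_c28)) :=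
  Lre_d IH (LK LD1_c11 LD2_c10 LD3_c3) (LK LD1_c5 LD2_c39 LD3_c28) Lrfl Lrfl
theorem f238481 : Led Lsl_dt (LP (LK LD1_c2 LD2_c42 LD3_c53)) = (LP (LK LD1_c5 LD2_c33 LD3_c33)) :=
  Lre_d IH (LK LD1_c2 LD2_c42 LD3_c53) (LK LD1_c5 LD2_c33 LD3_c33) Lrfl Lrfl
theorem f167919 : Led Lsl_gt (LP (LK LD1_c2 LD2_c12 LD3_c4)) = (LP (LK LD1_c4 LD2_c30 LD3_c4)) :=
  Lre_g IH (LK LD1_c2 LD2_c12 LD3_c4) (LK LD1_c4 LD2_c30 LD3_c4) Lrfl Lrfl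
theorem f238487 : Led Lsl_at (LP (LK LD1_c1 LD2_c17 LD3_c57)) = (LP (LK LD1_c2 LD2_c42 LD3_c53)) :=
  Lre_a IH (LK LD1_c1 LD2_c17 LD3_c57) (LK LD1_c2 LD2_c42 LD3_c53) Lrfl Lrfl
theorem f319765 : Led Lsl_gt (LP (LK LD1_c4 LD2_c30 LD3_c4)) = (LP (LK LD1_c2 LD2_c42 LD3_c53)) :=
  Lgr Lrot46 (Lpe (f167919 IH) (Lpr_ft (K20.f319759 IH) (Lpr_at (f238487 IH) (Lpn (LP (LK LD1_c2 LD2_c42 LD3_c53))))))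
theorem f168120 : Led Lsl_ct (LP (LK LD1_c8 LD2_c58 LD3_c15)) = (LP (LK LD1_c4 LD2_c30 LD3_c4)) :=
  Lre_c IH (LK LD1_c8 LD2_c58 LD3_c15) (LK LD1_c4 LD2_c30 LD3_c4) Lrfl Lrfl
theorem f55346 : Led Lsl_bt (LP (LK LD1_c0 LD2_c32 LD3_c26)) = (LP (LK LD1_c1 LD2_c10 LD3_c7)) :=
  Lre_b IH (LK LD1_c0 LD2_c32 LD3_c26) (LK LD1_c1 LD2_c10 LD3_c7) Lrfl Lrfl
theorem f168806 : Led Lsl_bt (LP (LK LD1_c4 LD2_c56 LD3_c17)) = (LP (LK LD1_c2 LD2_c25 LD3_c56)) :=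
  Lre_b IH (LK LD1_c4 LD2_c56 LD3_c17) (LK LD1_c2 LD2_c25 LD3_c56) Lrfl Lrfl
theorem f167910 : Led Lsl_bt (LP (LK LD1_c1 LD2_c2 LD3_c60)) = (LP (LK LD1_c2 LD2_c12 LD3_c4)) :=
  Lre_b IH (LK LD1_c1 LD2_c2 LD3_c60) (LK LD1_c2 LD2_c12 LD3_c4) Lrfl Lrfl
theorem f168162 : Led Lsl_ct (LP (LK LD1_c4 LD2_c30 LD3_c4)) = (LP (LK LD1_c8 LD2_c58 LD3_c15)) :=
  Lre_c IH (LK LD1_c4 LD2_c30 LD3_c4) (LK LD1_c8 LD2_c58 LD3_c15) Lrfl Lrfl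
theorem f168808 : Led Lsl_gf (LP (LK LD1_c9 LD2_c44 LD3_c15)) = (LP (LK LD1_c8 LD2_c58 LD3_c15)) :=
  Lgr Lrot129 (Lpe (f168807 IH) (Lpr_bt (f168806 IH) (Lpr_gt (K20.f168805 IH) (Lpe (f55346 IH) (Lpr_ct (K1.f40994 IH) (Lpr_gt (K9.f3105 IH) (Lpr_cf (K9.f167911 IH) (Lpr_bt (f167910 IH) (Lpr_gt (f167919 IH) (Lpr_ct (f168162 IH) (Lpn (LP (LK LD1_c8 LD2_c58 LD3_c15)))))))))))))
theorem f319820 : Led Lsl_gf (LP (LK LD1_c11 LD2_c10 LD3_c3)) = (LP (LK LD1_c17 LD2_c53 LD3_c33)) :=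
  Lgr Lrot143 (Lpr_dt (f244203 IH) (Lpe (f179471 IH) (Lpe (f179469 IH) (Lpr_gf (f319816 IH) (Lpe (f238481 IH) (Lpe (f319765 IH) (Lpe (f168120 IH) (Lpe (f168808 IH) (Lpr_dt (f168810 IH) (Lpn (LP (LK LD1_c17 LD2_c53 LD3_c33))))))))))))
theorem f220296 : Led Lsl_ct (LP (LK LD1_c19 LD2_c36 LD3_c12)) = (LP (LK LD1_c10 LD2_c50 LD3_c43)) :=
  Lre_c IH (LK LD1_c19 LD2_c36 LD3_c12) (LK LD1_c10 LD2_c50 LD3_c43) Lrfl Lrfl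
theorem f196685 : Led Lsl_bt (LP (LK LD1_c4 LD2_c4 LD3_c39)) = (LP (LK LD1_c1 LD2_c59 LD3_c20)) :=
  Lre_b IH (LK LD1_c4 LD2_c4 LD3_c39) (LK LD1_c1 LD2_c59 LD3_c20) Lrfl Lrfl
theorem f196686 : Led Lsl_ct (LP (LK LD1_c4 LD2_c4 LD3_c39)) = (LP (LK LD1_c8 LD2_c10 LD3_c1)) :=
  Lre_c IH (LK LD1_c4 LD2_c4 LD3_c39) (LK LD1_c8 LD2_c10 LD3_c1) Lrfl Lrfl
theorem f199459 : Led Lsl_gt (LP (LK LD1_c15 LD2_c22 LD3_c50)) = (LP (LK LD1_c8 LD2_c10 LD3_c1)) :=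
  Lre_g IH (LK LD1_c15 LD2_c22 LD3_c50) (LK LD1_c8 LD2_c10 LD3_c1) Lrfl Lrfl
theorem f332573 : Led Lsl_ct (LP (LK LD1_c11 LD2_c10 LD3_c3)) = (LP (LK LD1_c15 LD2_c22 LD3_c50)) :=
  Lgr Lrot91 (Lpr_gf (f319820 IH) (Lpr_bf (f332569 IH) (Lpr_ct (f220296 IH) (Lpe (f220291 IH) (Lpr_cf (K18.f220275 IH) (Lpr_bt (f220223 IH) (Lpe (K13.f223700 IH) (Lpe (f196685 IH) (Lpr_ct (f196686 IH) (Lpe (f199459 IH) (Lpn (LP (LK LD1_c15 LD2_c22 LD3_c50)))))))))))))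
theorem f199395 : Led Lsl_ct (LP (LK LD1_c8 LD2_c10 LD3_c1)) = (LP (LK LD1_c4 LD2_c4 LD3_c39)) :=
  Lre_c IH (LK LD1_c8 LD2_c10 LD3_c1) (LK LD1_c4 LD2_c4 LD3_c39) Lrfl Lrfl
theorem f332676 : Led Lsl_df (LP (LK LD1_c4 LD2_c4 LD3_c7)) = (LP (LK LD1_c4 LD2_c4 LD3_c39)) :=
  Lgr Lrot162 (Lpr_cf (K20.f319633 IH) (Lpe (K20.f168802 IH) (Lpe (K20.f318384 IH) (Lpe (K20.f318385 IH) (Lpr_dt (f168810 IH) (Lpe (f319820 IH) (Lpr_ct (f332573 IH) (Lpr_gt (f199459 IH) (Lpr_ct (f199395 IH) (Lpn (LP (LK LD1_c4 LD2_c4 LD3_c39))))))))))))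
theorem f319637 : Led Lsl_at (LP (LK LD1_c4 LD2_c30 LD3_c6)) = (LP (LK LD1_c2 LD2_c12 LD3_c4)) :=
  Lre_a IH (LK LD1_c4 LD2_c30 LD3_c6) (LK LD1_c2 LD2_c12 LD3_c4) Lrfl Lrfl
theorem f319761 : Led Lsl_ff (LP (LK LD1_c4 LD2_c30 LD3_c6)) = (LP (LK LD1_c2 LD2_c42 LD3_c53)) :=
  Lgr Lrot30 (Lpr_at (f319637 IH) (Lpr_ft (K20.f319759 IH) (Lpr_at (f238487 IH) (Lpn (LP (LK LD1_c2 LD2_c42 LD3_c53))))))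
theorem f238482 : Led Lsl_ct (LP (LK LD1_c5 LD2_c33 LD3_c33)) = (LP (LK LD1_c10 LD2_c59 LD3_c3)) :=
  Lre_c IH (LK LD1_c5 LD2_c33 LD3_c33) (LK LD1_c10 LD2_c59 LD3_c3) Lrfl Lrfl
theorem f238483 : Led Lsl_dt (LP (LK LD1_c10 LD2_c59 LD3_c3)) = (LP (LK LD1_c19 LD2_c49 LD3_c38)) :=
  Lre_d IH (LK LD1_c10 LD2_c59 LD3_c3) (LK LD1_c19 LD2_c49 LD3_c38) Lrfl Lrfl
theorem f199350 : Led Lsl_bt (LP (LK LD1_c8 LD2_c10 LD3_c1)) = (LP (LK LD1_c4 LD2_c4 LD3_c36)) :=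
  Lre_b IH (LK LD1_c8 LD2_c10 LD3_c1) (LK LD1_c4 LD2_c4 LD3_c36) Lrfl Lrfl
theorem f177988 : Led Lsl_bt (LP (LK LD1_c5 LD2_c35 LD3_c51)) = (LP (LK LD1_c11 LD2_c3 LD3_c57)) :=
  Lre_b IH (LK LD1_c5 LD2_c35 LD3_c51) (LK LD1_c11 LD2_c3 LD3_c57) Lrfl Lrfl
theorem f199351 : Led Lsl_df (LP (LK LD1_c8 LD2_c10 LD3_c1)) = (LP (LK LD1_c11 LD2_c3 LD3_c57)) :=
  Lgr Lrot12 (Lpr_bt (f199350 IH) (Lpr_dt (K12.f199348 IH) (Lpr_bt (f177988 IH) (Lpn (LP (LK LD1_c11 LD2_c3 LD3_c57))))))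
theorem f332687 : Led Lsl_ct (LP (LK LD1_c19 LD2_c49 LD3_c38)) = (LP (LK LD1_c11 LD2_c3 LD3_c57)) :=
  Lgr Lrot41 (Lpe (f238483 IH) (Lpe (f238482 IH) (Lpe (f238481 IH) (Lpe (f319761 IH) (Lpr_at (f319637 IH) (Lpe (K20.f196405 IH) (Lpr_df (f332676 IH) (Lpe (f199395 IH) (Lpr_df (f199351 IH) (Lpn (LP (LK LD1_c11 LD2_c3 LD3_c57))))))))))))
theorem f238480 : Led Lsl_ct (LP (LK LD1_c5 LD2_c33 LD3_c32)) = (LP (LK LD1_c2 LD2_c42 LD3_c53)) :=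
  Lre_c IH (LK LD1_c5 LD2_c33 LD3_c32) (LK LD1_c2 LD2_c42 LD3_c53) Lrfl Lrfl
theorem f200430 : Led Lsl_bt (LP (LK LD1_c2 LD2_c4 LD3_c36)) = (LP (LK LD1_c4 LD2_c14 LD3_c27)) :=
  Lre_b IH (LK LD1_c2 LD2_c4 LD3_c36) (LK LD1_c4 LD2_c14 LD3_c27) Lrfl Lrfl
theorem f238429 : Led Lsl_dt (LP (LK LD1_c4 LD2_c14 LD3_c27)) = (LP (LK LD1_c2 LD2_c42 LD3_c54)) :=
  Lgr Lrot79 (Lpe (f200430 IH) (Lpr_df (K19.f238350 IH) (Lpr_bf (K20.f220946 IH) (Lpn (LP (LK LD1_c2 LD2_c42 LD3_c54))))))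
theorem f238459 : Led Lsl_df (LP (LK LD1_c4 LD2_c14 LD3_c27)) = (LP (LK LD1_c2 LD2_c42 LD3_c54)) :=
  Lgr Lrot38 (Lpr_dt (f238429 IH) (Lpn (LP (LK LD1_c2 LD2_c42 LD3_c54))))
theorem f238471 : Led Lsl_at (LP (LK LD1_c4 LD2_c14 LD3_c27)) = (LP (LK LD1_c8 LD2_c27 LD3_c38)) :=
  Lre_a IH (LK LD1_c4 LD2_c14 LD3_c27) (LK LD1_c8 LD2_c27 LD3_c38) Lrfl Lrfl
theorem f221034 : Led Lsl_at (LP (LK LD1_c5 LD2_c33 LD3_c32)) = (LP (LK LD1_c2 LD2_c42 LD3_c54)) :=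
  Lre_a IH (LK LD1_c5 LD2_c33 LD3_c32) (LK LD1_c2 LD2_c42 LD3_c54) Lrfl Lrfl
theorem f238472 : Led Lsl_dt (LP (LK LD1_c8 LD2_c27 LD3_c38)) = (LP (LK LD1_c5 LD2_c33 LD3_c32)) :=
  Lgr Lrot44 (Lpe (f238471 IH) (Lpr_df (f238459 IH) (Lpe (f221034 IH) (Lpn (LP (LK LD1_c5 LD2_c33 LD3_c32))))))
theorem f199540 : Led Lsl_at (LP (LK LD1_c8 LD2_c10 LD3_c7)) = (LP (LK LD1_c4 LD2_c4 LD3_c39)) :=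
  Lre_a IH (LK LD1_c8 LD2_c10 LD3_c7) (LK LD1_c4 LD2_c4 LD3_c39) Lrfl Lrfl
theorem f332701 : Led Lsl_ft (LP (LK LD1_c8 LD2_c27 LD3_c38)) = (LP (LK LD1_c8 LD2_c10 LD3_c7)) :=
  Lgr Lrot142 (Lpr_dt (f238472 IH) (Lpr_ct (f238480 IH) (Lpr_dt (f238481 IH) (Lpr_ct (f238482 IH) (Lpr_dt (f238483 IH) (Lpr_ct (f332687 IH) (Lpe (f199351 IH) (Lpr_ct (f199395 IH) (Lpe (f199540 IH) (Lpn (LP (LK LD1_c8 LD2_c10 LD3_c7))))))))))))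
theorem f332708 : Led Lsl_ff (LP (LK LD1_c8 LD2_c27 LD3_c38)) = (LP (LK LD1_c8 LD2_c10 LD3_c7)) :=
  Lgr Lrot3 (Lpr_ft (f332701 IH) (Lpn (LP (LK LD1_c8 LD2_c10 LD3_c7))))
theorem f199455 : Led Lsl_ct (LP (LK LD1_c15 LD2_c22 LD3_c51)) = (LP (LK LD1_c8 LD2_c10 LD3_c7)) :=
  Lre_c IH (LK LD1_c15 LD2_c22 LD3_c51) (LK LD1_c8 LD2_c10 LD3_c7) Lrfl Lrfl
theorem f199427 : Led Lsl_at (LP (LK LD1_c15 LD2_c22 LD3_c51)) = (LP (LK LD1_c8 LD2_c10 LD3_c1)) :=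
  Lre_a IH (LK LD1_c15 LD2_c22 LD3_c51) (LK LD1_c8 LD2_c10 LD3_c1) Lrfl Lrfl
theorem f199429 : Led Lsl_ff (LP (LK LD1_c15 LD2_c22 LD3_c51)) = (LP (LK LD1_c11 LD2_c2 LD3_c47)) :=
  Lgr Lrot30 (Lpr_at (f199427 IH) (Lpr_ft (K19.f199399 IH) (Lpr_at (K19.f199428 IH) (Lpn (LP (LK LD1_c11 LD2_c2 LD3_c47))))))
theorem f332713 : Led Lsl_ct (LP (LK LD1_c8 LD2_c27 LD3_c38)) = (LP (LK LD1_c11 LD2_c2 LD3_c47)) :=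
  Lgr Lrot40 (Lpr_ff (f332708 IH) (Lpe (f199455 IH) (Lpr_ff (f199429 IH) (Lpn (LP (LK LD1_c11 LD2_c2 LD3_c47))))))
theorem f199443 : Led Lsl_at (LP (LK LD1_c11 LD2_c2 LD3_c47)) = (LP (LK LD1_c5 LD2_c35 LD3_c18)) :=
  Lre_a IH (LK LD1_c11 LD2_c2 LD3_c47) (LK LD1_c5 LD2_c35 LD3_c18) Lrfl Lrfl
theorem f332722 : Led Lsl_cf (LP (LK LD1_c4 LD2_c14 LD3_c27)) = (LP (LK LD1_c5 LD2_c35 LD3_c18)) :=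
  Lgr Lrot1 (Lpr_at (f238471 IH) (Lpr_ct (f332713 IH) (Lpr_at (f199443 IH) (Lpn (LP (LK LD1_c5 LD2_c35 LD3_c18))))))
theorem f200431 : Led Lsl_gt (LP (LK LD1_c8 LD2_c27 LD3_c37)) = (LP (LK LD1_c4 LD2_c14 LD3_c27)) :=
  Lre_g IH (LK LD1_c8 LD2_c27 LD3_c37) (LK LD1_c4 LD2_c14 LD3_c27) Lrfl Lrfl
theorem f238464 : Led Lsl_ct (LP (LK LD1_c15 LD2_c53 LD3_c14)) = (LP (LK LD1_c8 LD2_c27 LD3_c37)) :=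
  Lre_c IH (LK LD1_c15 LD2_c53 LD3_c14) (LK LD1_c8 LD2_c27 LD3_c37) Lrfl Lrfl
theorem f235925 : Led Lsl_bt (LP (LK LD1_c2 LD2_c38 LD3_c14)) = (LP (LK LD1_c5 LD2_c23 LD3_c27)) :=
  Lre_b IH (LK LD1_c2 LD2_c38 LD3_c14) (LK LD1_c5 LD2_c23 LD3_c27) Lrfl Lrfl
theorem f228434 : Led Lsl_gt (LP (LK LD1_c5 LD2_c23 LD3_c27)) = (LP (LK LD1_c10 LD2_c37 LD3_c23)) :=
  Lre_g IH (LK LD1_c5 LD2_c23 LD3_c27) (LK LD1_c10 LD2_c37 LD3_c23) Lrfl Lrfl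
theorem f332732 : Led Lsl_bt (LP (LK LD1_c15 LD2_c53 LD3_c14)) = (LP (LK LD1_c10 LD2_c37 LD3_c23)) :=
  Lgr Lrot92 (Lpr_ct (f238464 IH) (Lpr_gt (f200431 IH) (Lpr_cf (f332722 IH) (Lpr_bt (K19.f199398 IH) (Lpe (K20.f316883 IH) (Lpe (K14.f235917 IH) (Lpr_gt (K13.f221609 IH) (Lpe (K16.f224179 IH) (Lpr_bt (f235925 IH) (Lpr_gt (f228434 IH) (Lpn (LP (LK LD1_c10 LD2_c37 LD3_c23)))))))))))))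
theorem f238456 : Led Lsl_at (LP (LK LD1_c8 LD2_c27 LD3_c38)) = (LP (LK LD1_c4 LD2_c14 LD3_c27)) :=
  Lre_a IH (LK LD1_c8 LD2_c27 LD3_c38) (LK LD1_c4 LD2_c14 LD3_c27) Lrfl Lrfl
theorem f332716 : Led Lsl_gf (LP (LK LD1_c8 LD2_c27 LD3_c37)) = (LP (LK LD1_c8 LD2_c10 LD3_c7)) :=
  Lgr Lrot47 (Lpr_gt (f200431 IH) (Lpe (f238456 IH) (Lpr_ff (f332708 IH) (Lpn (LP (LK LD1_c8 LD2_c10 LD3_c7))))))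
theorem f218427 : Led Lsl_ct (LP (LK LD1_c2 LD2_c38 LD3_c24)) = (LP (LK LD1_c5 LD2_c23 LD3_c27)) :=
  Lre_c IH (LK LD1_c2 LD2_c38 LD3_c24) (LK LD1_c5 LD2_c23 LD3_c27) Lrfl Lrfl
theorem f312748 : Led Lsl_ft (LP (LK LD1_c5 LD2_c23 LD3_c27)) = (LP (LK LD1_c10 LD2_c30 LD3_c53)) :=
  Lgr Lrot4 (Lpe (f218427 IH) (Lpr_ff (K19.f312742 IH) (Lpe (K19.f187047 IH) (Lpn (LP (LK LD1_c10 LD2_c30 LD3_c53))))))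
theorem f235661 : Led Lsl_at (LP (LK LD1_c10 LD2_c30 LD3_c53)) = (LP (LK LD1_c19 LD2_c3 LD3_c23)) :=
  Lre_a IH (LK LD1_c10 LD2_c30 LD3_c53) (LK LD1_c19 LD2_c3 LD3_c23) Lrfl Lrfl
theorem f312767 : Led Lsl_gt (LP (LK LD1_c10 LD2_c37 LD3_c23)) = (LP (LK LD1_c19 LD2_c3 LD3_c23)) :=
  Lgr Lrot46 (Lpe (f228434 IH) (Lpr_ft (f312748 IH) (Lpr_at (f235661 IH) (Lpn (LP (LK LD1_c19 LD2_c3 LD3_c23))))))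
theorem f312784 : Led Lsl_ct (LP (LK LD1_c19 LD2_c3 LD3_c23)) = (LP (LK LD1_c10 LD2_c31 LD3_c1)) :=
  Lre_c IH (LK LD1_c19 LD2_c3 LD3_c23) (LK LD1_c10 LD2_c31 LD3_c1) Lrfl Lrfl
theorem f234088 : Led Lsl_dt (LP (LK LD1_c5 LD2_c23 LD3_c27)) = (LP (LK LD1_c10 LD2_c37 LD3_c26)) :=
  Lre_d IH (LK LD1_c5 LD2_c23 LD3_c27) (LK LD1_c10 LD2_c37 LD3_c26) Lrfl Lrfl
theorem f234012 : Led Lsl_ct (LP (LK LD1_c10 LD2_c37 LD3_c26)) = (LP (LK LD1_c19 LD2_c14 LD3_c41)) :=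
  Lre_c IH (LK LD1_c10 LD2_c37 LD3_c26) (LK LD1_c19 LD2_c14 LD3_c41) Lrfl Lrfl
theorem f234094 : Led Lsl_dt (LP (LK LD1_c19 LD2_c14 LD3_c41)) = (LP (LK LD1_c28 LD2_c41 LD3_c7)) :=
  Lre_d IH (LK LD1_c19 LD2_c14 LD3_c41) (LK LD1_c28 LD2_c41 LD3_c7) Lrfl Lrfl
theorem f312769 : Led Lsl_ct (LP (LK LD1_c10 LD2_c31 LD3_c1)) = (LP (LK LD1_c19 LD2_c3 LD3_c23)) :=
  Lre_c IH (LK LD1_c10 LD2_c31 LD3_c1) (LK LD1_c19 LD2_c3 LD3_c23) Lrfl Lrfl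
theorem f312770 : Led Lsl_dt (LP (LK LD1_c19 LD2_c3 LD3_c41)) = (LP (LK LD1_c10 LD2_c31 LD3_c1)) :=
  Lre_d IH (LK LD1_c19 LD2_c3 LD3_c41) (LK LD1_c10 LD2_c31 LD3_c1) Lrfl Lrfl
theorem f312771 : Led Lsl_ct (LP (LK LD1_c28 LD2_c29 LD3_c53)) = (LP (LK LD1_c19 LD2_c3 LD3_c41)) :=
  Lre_c IH (LK LD1_c28 LD2_c29 LD3_c53) (LK LD1_c19 LD2_c3 LD3_c41) Lrfl Lrfl
theorem f312772 : Led Lsl_dt (LP (LK LD1_c32 LD2_c35 LD3_c23)) = (LP (LK LD1_c28 LD2_c29 LD3_c53)) :=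
  Lre_d IH (LK LD1_c32 LD2_c35 LD3_c23) (LK LD1_c28 LD2_c29 LD3_c53) Lrfl Lrfl
theorem f312773 : Led Lsl_ct (LP (LK LD1_c28 LD2_c41 LD3_c7)) = (LP (LK LD1_c32 LD2_c35 LD3_c23)) :=
  Lgr Lrot41 (Lpe (f234094 IH) (Lpe (f234012 IH) (Lpe (f234088 IH) (Lpr_ft (f312748 IH) (Lpr_at (f235661 IH) (Lpe (f312769 IH) (Lpe (f312770 IH) (Lpe (f312771 IH) (Lpe (f312772 IH) (Lpn (LP (LK LD1_c32 LD2_c35 LD3_c23))))))))))))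
theorem f312778 : Led Lsl_cf (LP (LK LD1_c28 LD2_c41 LD3_c7)) = (LP (LK LD1_c32 LD2_c35 LD3_c23)) :=
  Lgr Lrot11 (Lpr_ct (f312773 IH) (Lpn (LP (LK LD1_c32 LD2_c35 LD3_c23))))
theorem f234011 : Led Lsl_dt (LP (LK LD1_c28 LD2_c41 LD3_c7)) = (LP (LK LD1_c19 LD2_c14 LD3_c41)) :=
  Lre_d IH (LK LD1_c28 LD2_c41 LD3_c7) (LK LD1_c19 LD2_c14 LD3_c41) Lrfl Lrfl
theorem f234010 : Led Lsl_ct (LP (LK LD1_c19 LD2_c14 LD3_c41)) = (LP (LK LD1_c10 LD2_c37 LD3_c26)) :=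
  Lre_c IH (LK LD1_c19 LD2_c14 LD3_c41) (LK LD1_c10 LD2_c37 LD3_c26) Lrfl Lrfl
theorem f218448 : Led Lsl_dt (LP (LK LD1_c10 LD2_c37 LD3_c26)) = (LP (LK LD1_c5 LD2_c23 LD3_c27)) :=
  Lre_d IH (LK LD1_c10 LD2_c37 LD3_c26) (LK LD1_c5 LD2_c23 LD3_c27) Lrfl Lrfl
theorem f218450 : Led Lsl_ct (LP (LK LD1_c5 LD2_c23 LD3_c27)) = (LP (LK LD1_c2 LD2_c38 LD3_c24)) :=
  Lre_c IH (LK LD1_c5 LD2_c23 LD3_c27) (LK LD1_c2 LD2_c38 LD3_c24) Lrfl Lrfl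
theorem f312786 : Led Lsl_at (LP (LK LD1_c5 LD2_c23 LD3_c42)) = (LP (LK LD1_c2 LD2_c38 LD3_c24)) :=
  Lre_a IH (LK LD1_c5 LD2_c23 LD3_c42) (LK LD1_c2 LD2_c38 LD3_c24) Lrfl Lrfl
theorem f312781 : Led Lsl_dt (LP (LK LD1_c28 LD2_c29 LD3_c53)) = (LP (LK LD1_c32 LD2_c35 LD3_c23)) :=
  Lre_d IH (LK LD1_c28 LD2_c29 LD3_c53) (LK LD1_c32 LD2_c35 LD3_c23) Lrfl Lrfl
theorem f312782 : Led Lsl_ct (LP (LK LD1_c19 LD2_c3 LD3_c41)) = (LP (LK LD1_c28 LD2_c29 LD3_c53)) :=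
  Lre_c IH (LK LD1_c19 LD2_c3 LD3_c41) (LK LD1_c28 LD2_c29 LD3_c53) Lrfl Lrfl
theorem f312783 : Led Lsl_dt (LP (LK LD1_c10 LD2_c31 LD3_c1)) = (LP (LK LD1_c19 LD2_c3 LD3_c41)) :=
  Lre_d IH (LK LD1_c10 LD2_c31 LD3_c1) (LK LD1_c19 LD2_c3 LD3_c41) Lrfl Lrfl
theorem f312787 : Led Lsl_ff (LP (LK LD1_c5 LD2_c23 LD3_c42)) = (LP (LK LD1_c10 LD2_c31 LD3_c1)) :=
  Lgr Lrot103 (Lpr_at (f312786 IH) (Lpe (f218450 IH) (Lpe (f218448 IH) (Lpe (f234010 IH) (Lpe (f234011 IH) (Lpr_cf (f312778 IH) (Lpe (f312781 IH) (Lpe (f312782 IH) (Lpe (f312783 IH) (Lpn (LP (LK LD1_c10 LD2_c31 LD3_c1))))))))))))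
theorem f218598 : Led Lsl_gt (LP (LK LD1_c5 LD2_c23 LD3_c41)) = (LP (LK LD1_c2 LD2_c38 LD3_c24)) :=
  Lre_g IH (LK LD1_c5 LD2_c23 LD3_c41) (LK LD1_c2 LD2_c38 LD3_c24) Lrfl Lrfl
theorem f312848 : Led Lsl_gf (LP (LK LD1_c5 LD2_c23 LD3_c41)) = (LP (LK LD1_c10 LD2_c31 LD3_c1)) :=
  Lgr Lrot47 (Lpr_gt (f218598 IH) (Lpe (f312786 IH) (Lpr_ff (f312787 IH) (Lpn (LP (LK LD1_c10 LD2_c31 LD3_c1))))))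
theorem f278010 : Led Lsl_ct (LP (LK LD1_c10 LD2_c37 LD3_c52)) = (LP (LK LD1_c5 LD2_c23 LD3_c41)) :=
  Lre_c IH (LK LD1_c10 LD2_c37 LD3_c52) (LK LD1_c5 LD2_c23 LD3_c41) Lrfl Lrfl
theorem f189131 : Led Lsl_bt (LP (LK LD1_c1 LD2_c18 LD3_c16)) = (LP (LK LD1_c2 LD2_c43 LD3_c47)) :=
  Lre_b IH (LK LD1_c1 LD2_c18 LD3_c16) (LK LD1_c2 LD2_c43 LD3_c47) Lrfl Lrfl
theorem f189132 : Led Lsl_gt (LP (LK LD1_c2 LD2_c43 LD3_c47)) = (LP (LK LD1_c5 LD2_c35 LD3_c44)) :=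
  Lre_g IH (LK LD1_c2 LD2_c43 LD3_c47) (LK LD1_c5 LD2_c35 LD3_c44) Lrfl Lrfl
theorem f218428 : Led Lsl_bt (LP (LK LD1_c5 LD2_c23 LD3_c27)) = (LP (LK LD1_c2 LD2_c38 LD3_c14)) :=
  Lre_b IH (LK LD1_c5 LD2_c23 LD3_c27) (LK LD1_c2 LD2_c38 LD3_c14) Lrfl Lrfl
theorem f278011 : Led Lsl_bf (LP (LK LD1_c5 LD2_c35 LD3_c44)) = (LP (LK LD1_c10 LD2_c37 LD3_c52)) :=
  Lgr Lrot34 (Lpe (f189132 IH) (Lpe (f189131 IH) (Lpr_ct (K12.f177955 IH) (Lpe (K12.f177871 IH) (Lpe (K12.f199487 IH) (Lpr_gf (K16.f277987 IH) (Lpe (f218428 IH) (Lpr_ct (f218450 IH) (Lpe (f218598 IH) (Lpe (f278010 IH) (Lpn (LP (LK LD1_c10 LD2_c37 LD3_c52)))))))))))))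
theorem f313021 : Led Lsl_at (LP (LK LD1_c4 LD2_c31 LD3_c25)) = (LP (LK LD1_c9 LD2_c0 LD3_c49)) :=
  Lre_a IH (LK LD1_c4 LD2_c31 LD3_c25) (LK LD1_c9 LD2_c0 LD3_c49) Lrfl Lrfl
theorem f313032 : Led Lsl_gt (LP (LK LD1_c5 LD2_c35 LD3_c44)) = (LP (LK LD1_c9 LD2_c0 LD3_c49)) :=
  Lgr Lrot46 (Lpe (f189132 IH) (Lpr_ft (K19.f313017 IH) (Lpr_at (f313021 IH) (Lpn (LP (LK LD1_c9 LD2_c0 LD3_c49))))))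
theorem f332740 : Led Lsl_bt (LP (LK LD1_c15 LD2_c22 LD3_c51)) = (LP (LK LD1_c9 LD2_c0 LD3_c49)) :=
  Lgr Lrot92 (Lpr_ct (f199455 IH) (Lpe (f332716 IH) (Lpe (f238464 IH) (Lpr_bt (f332732 IH) (Lpr_gt (f312767 IH) (Lpr_ct (f312784 IH) (Lpe (f312848 IH) (Lpe (f278010 IH) (Lpe (f278011 IH) (Lpr_gt (f313032 IH) (Lpn (LP (LK LD1_c9 LD2_c0 LD3_c49)))))))))))))
theorem f199442 : Led Lsl_at (LP (LK LD1_c8 LD2_c10 LD3_c1)) = (LP (LK LD1_c15 LD2_c22 LD3_c51)) :=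
  Lre_a IH (LK LD1_c8 LD2_c10 LD3_c1) (LK LD1_c15 LD2_c22 LD3_c51) Lrfl Lrfl
theorem f313006 : Led Lsl_at (LP (LK LD1_c9 LD2_c0 LD3_c49)) = (LP (LK LD1_c4 LD2_c31 LD3_c25)) :=
  Lre_a IH (LK LD1_c9 LD2_c0 LD3_c49) (LK LD1_c4 LD2_c31 LD3_c25) Lrfl Lrfl
theorem f332742 : Led Lsl_af (LP (LK LD1_c4 LD2_c4 LD3_c36)) = (LP (LK LD1_c2 LD2_c12 LD3_c40)) :=
  Lgr Lrot36 (Lpr_bt (K19.f199397 IH) (Lpr_at (f199442 IH) (Lpr_bt (f332740 IH) (Lpr_at (f313006 IH) (Lpr_bt (K19.f235844 IH) (Lpn (LP (LK LD1_c2 LD2_c12 LD3_c40))))))))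
theorem f332748 : Led Lsl_at (LP (LK LD1_c8 LD2_c10 LD3_c2)) = (LP (LK LD1_c4 LD2_c31 LD3_c27)) :=
  Lgr Lrot80 (Lpe (K20.f199367 IH) (Lpr_af (f332742 IH) (Lpe (K14.f235949 IH) (Lpn (LP (LK LD1_c4 LD2_c31 LD3_c27))))))
theorem f199418 : Led Lsl_ft (LP (LK LD1_c15 LD2_c22 LD3_c55)) = (LP (LK LD1_c8 LD2_c10 LD3_c2)) :=
  Lre_f IH (LK LD1_c15 LD2_c22 LD3_c55) (LK LD1_c8 LD2_c10 LD3_c2) Lrfl Lrfl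
theorem f332757 : Led Lsl_gt (LP (LK LD1_c15 LD2_c22 LD3_c55)) = (LP (LK LD1_c8 LD2_c41 LD3_c24)) :=
  Lgr Lrot5 (Lpr_ft (f199418 IH) (Lpr_at (f332748 IH) (Lpr_gf (K14.f241001 IH) (Lpn (LP (LK LD1_c8 LD2_c41 LD3_c24))))))
theorem f237751 : Led Lsl_gt (LP (LK LD1_c8 LD2_c41 LD3_c15)) = (LP (LK LD1_c4 LD2_c21 LD3_c49)) :=
  Lre_g IH (LK LD1_c8 LD2_c41 LD3_c15) (LK LD1_c4 LD2_c21 LD3_c49) Lrfl Lrfl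
theorem f212557 : Led Lsl_dt (LP (LK LD1_c15 LD2_c48 LD3_c60)) = (LP (LK LD1_c8 LD2_c24 LD3_c48)) :=
  Lre_d IH (LK LD1_c15 LD2_c48 LD3_c60) (LK LD1_c8 LD2_c24 LD3_c48) Lrfl Lrfl
theorem f247093 : Led Lsl_cf (LP (LK LD1_c8 LD2_c41 LD3_c15)) = (LP (LK LD1_c8 LD2_c1 LD3_c29)) :=
  Lgr Lrot166 (Lpr_gt (f237751 IH) (Lpr_dt (K16.f237734 IH) (Lpr_gt (K21.f237735 IH) (Lpr_dt (f212557 IH) (Lpr_ct (K21.f212556 IH) (Lpr_df (K19.f212561 IH) (Lpe (K14.f212545 IH) (Lpr_df (K14.f247075 IH) (Lpe (K14.f211489 IH) (Lpn (LP (LK LD1_c8 LD2_c1 LD3_c29))))))))))))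
theorem f332759 : Led Lsl_gf (LP (LK LD1_c8 LD2_c10 LD3_c4)) = (LP (LK LD1_c4 LD2_c31 LD3_c28)) :=
  Lgr Lrot147 (Lpr_ct (K20.f199242 IH) (Lpr_gt (f332757 IH) (Lpr_ct (K14.f227245 IH) (Lpe (K14.f42920 IH) (Lpe (K16.f43132 IH) (Lpe (f237751 IH) (Lpr_cf (f247093 IH) (Lpe (K21.f247169 IH) (Lpe (K15.f239861 IH) (Lpn (LP (LK LD1_c4 LD2_c31 LD3_c28))))))))))))
theorem f247054 : Led Lsl_af (LP (LK LD1_c4 LD2_c31 LD3_c29)) = (LP (LK LD1_c4 LD2_c52 LD3_c57)) :=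
  Lgr Lrot45 (Lpr_ft (K14.f247052 IH) (Lpe (K14.f247026 IH) (Lpr_ft (K16.f239863 IH) (Lpn (LP (LK LD1_c4 LD2_c52 LD3_c57))))))
theorem f332771 : Led Lsl_gt (LP (LK LD1_c8 LD2_c10 LD3_c4)) = (LP (LK LD1_c4 LD2_c31 LD3_c29)) :=
  Lgr Lrot46 (Lpr_gf (f332759 IH) (Lpr_ft (K16.f239863 IH) (Lpe (f247054 IH) (Lpn (LP (LK LD1_c4 LD2_c31 LD3_c29))))))
theorem f315605 : Led Lsl_df (LP (LK LD1_c9 LD2_c33 LD3_c27)) = (LP (LK LD1_c5 LD2_c35 LD3_c23)) :=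
  Lgr Lrot38 (Lpr_dt (K20.f315593 IH) (Lpn (LP (LK LD1_c5 LD2_c35 LD3_c23))))
theorem f212971 : Led Lsl_gt (LP (LK LD1_c2 LD2_c43 LD3_c52)) = (LP (LK LD1_c5 LD2_c36 LD3_c1)) :=
  Lre_g IH (LK LD1_c2 LD2_c43 LD3_c52) (LK LD1_c5 LD2_c36 LD3_c1) Lrfl Lrfl
theorem f315595 : Led Lsl_gf (LP (LK LD1_c9 LD2_c33 LD3_c27)) = (LP (LK LD1_c5 LD2_c36 LD3_c1)) :=
  Lgr Lrot76 (Lpr_af (K20.f315584 IH) (Lpe (K20.f315583 IH) (Lpr_gt (f212971 IH) (Lpn (LP (LK LD1_c5 LD2_c36 LD3_c1))))))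
theorem f247060 : Led Lsl_ef (LP (LK LD1_c4 LD2_c31 LD3_c29)) = (LP (LK LD1_c4 LD2_c4 LD3_c32)) :=
  Lgr Lrot21 (Lpr_ft (K14.f247052 IH) (Lpe (K16.f247033 IH) (Lpr_ft (K14.f239465 IH) (Lpr_et (K13.f191143 IH) (Lpr_ft (K13.f239458 IH) (Lpn (LP (LK LD1_c4 LD2_c4 LD3_c32))))))))
theorem f298659 : Led Lsl_gt (LP (LK LD1_c4 LD2_c4 LD3_c29)) = (LP (LK LD1_c8 LD2_c9 LD3_c56)) :=
  Lre_g IH (LK LD1_c4 LD2_c4 LD3_c29) (LK LD1_c8 LD2_c9 LD3_c56) Lrfl Lrfl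
theorem f332780 : Led Lsl_df (LP (LK LD1_c5 LD2_c36 LD3_c1)) = (LP (LK LD1_c8 LD2_c9 LD3_c56)) :=
  Lgr Lrot135 (Lpe (f315595 IH) (Lpr_df (f315605 IH) (Lpe (K20.f199408 IH) (Lpr_gt (f332771 IH) (Lpr_ef (f247060 IH) (Lpr_dt (K13.f223719 IH) (Lpr_gt (K13.f194096 IH) (Lpe (K10.f28997 IH) (Lpr_et (K20.f225645 IH) (Lpr_gt (f298659 IH) (Lpn (LP (LK LD1_c8 LD2_c9 LD3_c56)))))))))))))
theorem f315600 : Led Lsl_ct (LP (LK LD1_c5 LD2_c36 LD3_c1)) = (LP (LK LD1_c11 LD2_c4 LD3_c22)) :=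
  Lre_c IH (LK LD1_c5 LD2_c36 LD3_c1) (LK LD1_c11 LD2_c4 LD3_c22) Lrfl Lrfl
theorem f298658 : Led Lsl_dt (LP (LK LD1_c1 LD2_c59 LD3_c9)) = (LP (LK LD1_c4 LD2_c4 LD3_c29)) :=
  Lre_d IH (LK LD1_c1 LD2_c59 LD3_c9) (LK LD1_c4 LD2_c4 LD3_c29) Lrfl Lrfl
theorem f313172 : Led Lsl_ct (LP (LK LD1_c8 LD2_c9 LD3_c54)) = (LP (LK LD1_c4 LD2_c4 LD3_c28)) :=
  Lre_c IH (LK LD1_c8 LD2_c9 LD3_c54) (LK LD1_c4 LD2_c4 LD3_c28) Lrfl Lrfl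
theorem f299222 : Led Lsl_dt (LP (LK LD1_c8 LD2_c9 LD3_c28)) = (LP (LK LD1_c15 LD2_c21 LD3_c60)) :=
  Lre_d IH (LK LD1_c8 LD2_c9 LD3_c28) (LK LD1_c15 LD2_c21 LD3_c60) Lrfl Lrfl
theorem f299221 : Led Lsl_gt (LP (LK LD1_c15 LD2_c21 LD3_c60)) = (LP (LK LD1_c25 LD2_c13 LD3_c40)) :=
  Lre_g IH (LK LD1_c15 LD2_c21 LD3_c60) (LK LD1_c25 LD2_c13 LD3_c40) Lrfl Lrfl
theorem f313119 : Led Lsl_df (LP (LK LD1_c8 LD2_c9 LD3_c55)) = (LP (LK LD1_c11 LD2_c57 LD3_c3)) :=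
  Lgr Lrot38 (Lpr_dt (K21.f313098 IH) (Lpn (LP (LK LD1_c11 LD2_c57 LD3_c3))))
theorem f313118 : Led Lsl_ct (LP (LK LD1_c15 LD2_c22 LD3_c42)) = (LP (LK LD1_c8 LD2_c9 LD3_c55)) :=
  Lre_c IH (LK LD1_c15 LD2_c22 LD3_c42) (LK LD1_c8 LD2_c9 LD3_c55) Lrfl Lrfl
theorem f313123 : Led Lsl_dt (LP (LK LD1_c25 LD2_c13 LD3_c40)) = (LP (LK LD1_c15 LD2_c22 LD3_c42)) :=
  Lgr Lrot105 (Lpe (f299221 IH) (Lpe (f299222 IH) (Lpe (K21.f299216 IH) (Lpe (K21.f27452 IH) (Lpr_gt (K19.f27470 IH) (Lpr_dt (K21.f27471 IH) (Lpr_gt (K21.f313121 IH) (Lpe (f313119 IH) (Lpe (f313118 IH) (Lpn (LP (LK LD1_c15 LD2_c22 LD3_c42))))))))))))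
theorem f313156 : Led Lsl_df (LP (LK LD1_c25 LD2_c13 LD3_c40)) = (LP (LK LD1_c15 LD2_c22 LD3_c42)) :=
  Lgr Lrot38 (Lpr_dt (f313123 IH) (Lpn (LP (LK LD1_c15 LD2_c22 LD3_c42))))
theorem f313158 : Led Lsl_et (LP (LK LD1_c15 LD2_c22 LD3_c42)) = (LP (LK LD1_c8 LD2_c9 LD3_c54)) :=
  Lre_e IH (LK LD1_c15 LD2_c22 LD3_c42) (LK LD1_c8 LD2_c9 LD3_c54) Lrfl Lrfl
theorem f313166 : Led Lsl_gf (LP (LK LD1_c4 LD2_c52 LD3_c47)) = (LP (LK LD1_c8 LD2_c9 LD3_c54)) :=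
  Lgr Lrot141 (Lpe (K15.f244045 IH) (Lpr_dt (K15.f244007 IH) (Lpe (K12.f216323 IH) (Lpe (K10.f52588 IH) (Lpr_et (K10.f52575 IH) (Lpr_gt (K21.f299216 IH) (Lpr_dt (f299222 IH) (Lpr_gt (f299221 IH) (Lpr_df (f313156 IH) (Lpr_et (f313158 IH) (Lpn (LP (LK LD1_c8 LD2_c9 LD3_c54)))))))))))))
theorem f187937 : Led Lsl_dt (LP (LK LD1_c4 LD2_c52 LD3_c47)) = (LP (LK LD1_c9 LD2_c37 LD3_c36)) :=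
  Lre_d IH (LK LD1_c4 LD2_c52 LD3_c47) (LK LD1_c9 LD2_c37 LD3_c36) Lrfl Lrfl
theorem f244052 : Led Lsl_gt (LP (LK LD1_c9 LD2_c37 LD3_c36)) = (LP (LK LD1_c17 LD2_c43 LD3_c15)) :=
  Lre_g IH (LK LD1_c9 LD2_c37 LD3_c36) (LK LD1_c17 LD2_c43 LD3_c15) Lrfl Lrfl
theorem f332785 : Led Lsl_df (LP (LK LD1_c11 LD2_c4 LD3_c22)) = (LP (LK LD1_c17 LD2_c43 LD3_c15)) :=
  Lgr Lrot84 (Lpe (f315600 IH) (Lpr_df (f332780 IH) (Lpe (f298659 IH) (Lpe (f298658 IH) (Lpe (K21.f200709 IH) (Lpe (f313172 IH) (Lpe (f313166 IH) (Lpr_dt (f187937 IH) (Lpr_gt (f244052 IH) (Lpn (LP (LK LD1_c17 LD2_c43 LD3_c15))))))))))))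
theorem f332793 : Led Lsl_dt (LP (LK LD1_c11 LD2_c4 LD3_c22)) = (LP (LK LD1_c17 LD2_c43 LD3_c15)) :=
  Lgr Lrot42 (Lpr_df (f332785 IH) (Lpn (LP (LK LD1_c17 LD2_c43 LD3_c15))))
theorem f327391 : Led Lsl_et (LP (LK LD1_c11 LD2_c4 LD3_c22)) = (LP (LK LD1_c19 LD2_c56 LD3_c59)) :=
  Lre_e IH (LK LD1_c11 LD2_c4 LD3_c22) (LK LD1_c19 LD2_c56 LD3_c59) Lrfl Lrfl
theorem f244487 : Led Lsl_ft (LP (LK LD1_c20 LD2_c2 LD3_c27)) = (LP (LK LD1_c11 LD2_c8 LD3_c45)) :=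
  Lre_f IH (LK LD1_c20 LD2_c2 LD3_c27) (LK LD1_c11 LD2_c8 LD3_c45) Lrfl Lrfl
theorem f296883 : Led Lsl_af (LP (LK LD1_c15 LD2_c22 LD3_c26)) = (LP (LK LD1_c11 LD2_c8 LD3_c45)) :=
  Lgr Lrot0 (Lpr_at (K18.f296877 IH) (Lpn (LP (LK LD1_c11 LD2_c8 LD3_c45))))
theorem f299210 : Led Lsl_gf (LP (LK LD1_c15 LD2_c22 LD3_c26)) = (LP (LK LD1_c25 LD2_c13 LD3_c41)) :=
  Lgr Lrot76 (Lpr_af (f296883 IH) (Lpe (f244487 IH) (Lpr_gt (K18.f299206 IH) (Lpn (LP (LK LD1_c25 LD2_c13 LD3_c41))))))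
theorem f332800 : Led Lsl_gt (LP (LK LD1_c19 LD2_c56 LD3_c59)) = (LP (LK LD1_c15 LD2_c21 LD3_c61)) :=
  Lgr Lrot137 (Lpe (f327391 IH) (Lpr_dt (f332793 IH) (Lpe (f244052 IH) (Lpe (f187937 IH) (Lpr_et (K15.f244012 IH) (Lpr_gf (K15.f244042 IH) (Lpe (K17.f244046 IH) (Lpr_dt (K18.f244047 IH) (Lpr_gf (f299210 IH) (Lpe (K18.f299212 IH) (Lpn (LP (LK LD1_c15 LD2_c21 LD3_c61)))))))))))))
theorem f274718 : Led Lsl_ct (LP (LK LD1_c19 LD2_c56 LD3_c59)) = (LP (LK LD1_c11 LD2_c4 LD3_c23)) :=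
  Lre_c IH (LK LD1_c19 LD2_c56 LD3_c59) (LK LD1_c11 LD2_c4 LD3_c23) Lrfl Lrfl
theorem f332802 : Led Lsl_gt (LP (LK LD1_c11 LD2_c4 LD3_c23)) = (LP (LK LD1_c8 LD2_c28 LD3_c37)) :=
  Lgr Lrot94 (Lpe (f274718 IH) (Lpr_gt (f332800 IH) (Lpr_dt (K18.f299212 IH) (Lpe (f299210 IH) (Lpr_dt (K17.f244440 IH) (Lpe (K17.f244459 IH) (Lpr_df (K16.f260235 IH) (Lpe (K16.f258992 IH) (Lpe (K19.f274774 IH) (Lpn (LP (LK LD1_c8 LD2_c28 LD3_c37))))))))))))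
theorem f263284 : Led Lsl_gt (LP (LK LD1_c9 LD2_c52 LD3_c34)) = (LP (LK LD1_c5 LD2_c1 LD3_c4)) :=
  Lre_g IH (LK LD1_c9 LD2_c52 LD3_c34) (LK LD1_c5 LD2_c1 LD3_c4) Lrfl Lrfl
theorem f274724 : Led Lsl_ct (LP (LK LD1_c18 LD2_c4 LD3_c43)) = (LP (LK LD1_c9 LD2_c52 LD3_c34)) :=
  Lre_c IH (LK LD1_c18 LD2_c4 LD3_c43) (LK LD1_c9 LD2_c52 LD3_c34) Lrfl Lrfl
theorem f327088 : Led Lsl_gf (LP (LK LD1_c18 LD2_c4 LD3_c43)) = (LP (LK LD1_c18 LD2_c27 LD3_c35)) :=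
  Lgr Lrot147 (Lpr_ct (f274724 IH) (Lpr_gt (f263284 IH) (Lpr_ct (K21.f252734 IH) (Lpe (K21.f252730 IH) (Lpe (K21.f252741 IH) (Lpr_gf (K21.f327082 IH) (Lpe (K20.f197203 IH) (Lpe (K21.f197189 IH) (Lpe (K21.f197190 IH) (Lpn (LP (LK LD1_c18 LD2_c27 LD3_c35))))))))))))
theorem f265623 : Led Lsl_et (LP (LK LD1_c4 LD2_c50 LD3_c39)) = (LP (LK LD1_c2 LD2_c23 LD3_c6)) :=
  Lre_e IH (LK LD1_c4 LD2_c50 LD3_c39) (LK LD1_c2 LD2_c23 LD3_c6) Lrfl Lrfl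
theorem f216471 : Led Lsl_et (LP (LK LD1_c1 LD2_c18 LD3_c20)) = (LP (LK LD1_c2 LD2_c43 LD3_c52)) :=
  Lre_e IH (LK LD1_c1 LD2_c18 LD3_c20) (LK LD1_c2 LD2_c43 LD3_c52) Lrfl Lrfl
theorem f274711 : Led Lsl_et (LP (LK LD1_c11 LD2_c4 LD3_c23)) = (LP (LK LD1_c5 LD2_c36 LD3_c1)) :=
  Lre_e IH (LK LD1_c11 LD2_c4 LD3_c23) (LK LD1_c5 LD2_c36 LD3_c1) Lrfl Lrfl
theorem f274712 : Led Lsl_df (LP (LK LD1_c9 LD2_c52 LD3_c34)) = (LP (LK LD1_c11 LD2_c4 LD3_c23)) :=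
  Lgr Lrot170 (Lpr_gt (f263284 IH) (Lpr_df (K16.f274686 IH) (Lpr_et (f265623 IH) (Lpe (K15.f265596 IH) (Lpr_dt (K13.f189247 IH) (Lpr_gt (K13.f185063 IH) (Lpe (K15.f188039 IH) (Lpr_et (f216471 IH) (Lpr_gt (f212971 IH) (Lpe (f274711 IH) (Lpn (LP (LK LD1_c11 LD2_c4 LD3_c23)))))))))))))
theorem f274720 : Led Lsl_dt (LP (LK LD1_c9 LD2_c52 LD3_c34)) = (LP (LK LD1_c11 LD2_c4 LD3_c23)) :=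
  Lgr Lrot42 (Lpr_df (f274712 IH) (Lpn (LP (LK LD1_c11 LD2_c4 LD3_c23))))
theorem f259114 : Led Lsl_ct (LP (LK LD1_c15 LD2_c14 LD3_c9)) = (LP (LK LD1_c25 LD2_c3 LD3_c14)) :=
  Lre_c IH (LK LD1_c15 LD2_c14 LD3_c9) (LK LD1_c25 LD2_c3 LD3_c14) Lrfl Lrfl
theorem f327386 : Led Lsl_gf (LP (LK LD1_c19 LD2_c56 LD3_c59)) = (LP (LK LD1_c25 LD2_c3 LD3_c14)) :=
  Lgr Lrot104 (Lpr_ct (f274718 IH) (Lpe (f274720 IH) (Lpe (f274724 IH) (Lpr_gf (f327088 IH) (Lpe (K21.f326770 IH) (Lpe (K21.f327363 IH) (Lpe (K21.f320947 IH) (Lpr_gt (K21.f327375 IH) (Lpr_ct (f259114 IH) (Lpn (LP (LK LD1_c25 LD2_c3 LD3_c14))))))))))))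
theorem f226799 : Led Lsl_et (LP (LK LD1_c8 LD2_c9 LD3_c22)) = (LP (LK LD1_c15 LD2_c21 LD3_c47)) :=
  Lre_e IH (LK LD1_c8 LD2_c9 LD3_c22) (LK LD1_c15 LD2_c21 LD3_c47) Lrfl Lrfl
theorem f312228 : Led Lsl_ct (LP (LK LD1_c15 LD2_c21 LD3_c47)) = (LP (LK LD1_c8 LD2_c28 LD3_c37)) :=
  Lgr Lrot15 (Lpe (f226799 IH) (Lpr_cf (K20.f312224 IH) (Lpe (K19.f27625 IH) (Lpn (LP (LK LD1_c8 LD2_c28 LD3_c37))))))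
theorem f312232 : Led Lsl_cf (LP (LK LD1_c15 LD2_c21 LD3_c47)) = (LP (LK LD1_c8 LD2_c28 LD3_c37)) :=
  Lgr Lrot11 (Lpr_ct (f312228 IH) (Lpn (LP (LK LD1_c8 LD2_c28 LD3_c37))))
theorem f53003 : Led Lsl_et (LP (LK LD1_c15 LD2_c21 LD3_c47)) = (LP (LK LD1_c8 LD2_c9 LD3_c22)) :=
  Lre_e IH (LK LD1_c15 LD2_c21 LD3_c47) (LK LD1_c8 LD2_c9 LD3_c22) Lrfl Lrfl
theorem f226788 : Led Lsl_et (LP (LK LD1_c8 LD2_c7 LD3_c27)) = (LP (LK LD1_c4 LD2_c3 LD3_c26)) :=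
  Lre_e IH (LK LD1_c8 LD2_c7 LD3_c27) (LK LD1_c4 LD2_c3 LD3_c26) Lrfl Lrfl
theorem f220316 : Led Lsl_gt (LP (LK LD1_c25 LD2_c8 LD3_c43)) = (LP (LK LD1_c15 LD2_c17 LD3_c58)) :=
  Lre_g IH (LK LD1_c25 LD2_c8 LD3_c43) (LK LD1_c15 LD2_c17 LD3_c58) Lrfl Lrfl
theorem f226790 : Led Lsl_dt (LP (LK LD1_c15 LD2_c21 LD3_c47)) = (LP (LK LD1_c25 LD2_c8 LD3_c43)) :=
  Lgr Lrot136 (Lpr_et (f53003 IH) (Lpe (K20.f52607 IH) (Lpe (K10.f52322 IH) (Lpr_dt (K10.f52252 IH) (Lpe (K11.f52288 IH) (Lpe (K12.f226778 IH) (Lpr_gf (K12.f226776 IH) (Lpe (f226788 IH) (Lpr_dt (K18.f226789 IH) (Lpe (f220316 IH) (Lpn (LP (LK LD1_c25 LD2_c8 LD3_c43)))))))))))))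
theorem f226804 : Led Lsl_ct (LP (LK LD1_c31 LD2_c47 LD3_c28)) = (LP (LK LD1_c25 LD2_c8 LD3_c43)) :=
  Lre_c IH (LK LD1_c31 LD2_c47 LD3_c28) (LK LD1_c25 LD2_c8 LD3_c43) Lrfl Lrfl
theorem f298651 : Led Lsl_gt (LP (LK LD1_c25 LD2_c14 LD3_c13)) = (LP (LK LD1_c31 LD2_c47 LD3_c27)) :=
  Lgr Lrot5 (Lpe (K21.f298490 IH) (Lpr_at (K21.f298493 IH) (Lpr_gf (K21.f298592 IH) (Lpn (LP (LK LD1_c31 LD2_c47 LD3_c27))))))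
theorem f298653 : Led Lsl_gt (LP (LK LD1_c28 LD2_c3 LD3_c21)) = (LP (LK LD1_c31 LD2_c44 LD3_c31)) :=
  Lgr Lrot9 (Lpe (K21.f296863 IH) (Lpr_gt (f298651 IH) (Lpr_ct (K21.f296466 IH) (Lpr_gt (K21.f296464 IH) (Lpr_ct (K19.f244306 IH) (Lpr_df (K18.f296450 IH) (Lpe (K18.f296446 IH) (Lpe (K21.f262408 IH) (Lpr_cf (K21.f298644 IH) (Lpn (LP (LK LD1_c31 LD2_c44 LD3_c31))))))))))))
theorem f327241 : Led Lsl_gf (LP (LK LD1_c25 LD2_c14 LD3_c13)) = (LP (LK LD1_c31 LD2_c47 LD3_c28)) :=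
  Lgr Lrot144 (Lpr_dt (K21.f296863 IH) (Lpr_gt (f298653 IH) (Lpr_dt (K21.f327230 IH) (Lpe (K21.f22065 IH) (Lpe (K21.f22064 IH) (Lpr_gf (K17.f244432 IH) (Lpe (K18.f220315 IH) (Lpe (f220316 IH) (Lpe (f226804 IH) (Lpn (LP (LK LD1_c31 LD2_c47 LD3_c28))))))))))))
theorem f327243 : Led Lsl_gt (LP (LK LD1_c29 LD2_c15 LD3_c53)) = (LP (LK LD1_c31 LD2_c47 LD3_c28)) :=
  Lgr Lrot5 (Lpr_ft (K18.f244516 IH) (Lpe (K18.f296870 IH) (Lpr_gf (f327241 IH) (Lpn (LP (LK LD1_c31 LD2_c47 LD3_c28))))))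
theorem f298516 : Led Lsl_at (LP (LK LD1_c25 LD2_c14 LD3_c14)) = (LP (LK LD1_c20 LD2_c2 LD3_c27)) :=
  Lgr Lrot107 (Lpr_cf (K20.f296897 IH) (Lpr_af (K21.f298500 IH) (Lpe (K18.f296852 IH) (Lpn (LP (LK LD1_c20 LD2_c2 LD3_c27))))))
theorem f244489 : Led Lsl_ft (LP (LK LD1_c15 LD2_c22 LD3_c26)) = (LP (LK LD1_c25 LD2_c14 LD3_c14)) :=
  Lre_f IH (LK LD1_c15 LD2_c22 LD3_c26) (LK LD1_c25 LD2_c14 LD3_c14) Lrfl Lrfl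
theorem f244111 : Led Lsl_gt (LP (LK LD1_c15 LD2_c22 LD3_c26)) = (LP (LK LD1_c25 LD2_c14 LD3_c12)) :=
  Lre_g IH (LK LD1_c15 LD2_c22 LD3_c26) (LK LD1_c25 LD2_c14 LD3_c12) Lrfl Lrfl
theorem f298541 : Led Lsl_gt (LP (LK LD1_c25 LD2_c14 LD3_c12)) = (LP (LK LD1_c20 LD2_c2 LD3_c27)) :=
  Lgr Lrot46 (Lpe (f244111 IH) (Lpr_ft (f244489 IH) (Lpr_at (f298516 IH) (Lpn (LP (LK LD1_c20 LD2_c2 LD3_c27))))))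
theorem f332808 : Led Lsl_df (LP (LK LD1_c25 LD2_c3 LD3_c14)) = (LP (LK LD1_c25 LD2_c14 LD3_c12)) :=
  Lgr Lrot155 (Lpe (f327386 IH) (Lpr_ct (f274718 IH) (Lpr_gt (f332802 IH) (Lpe (f312232 IH) (Lpr_dt (f226790 IH) (Lpe (f226804 IH) (Lpe (f327243 IH) (Lpe (K18.f296852 IH) (Lpe (f298541 IH) (Lpn (LP (LK LD1_c25 LD2_c14 LD3_c12))))))))))))
theorem f260088 : Led Lsl_at (LP (LK LD1_c29 LD2_c16 LD3_c23)) = (LP (LK LD1_c28 LD2_c3 LD3_c39)) :=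
  Lgr Lrot107 (Lpe (K19.f244306 IH) (Lpr_af (K18.f244317 IH) (Lpr_cf (K19.f260086 IH) (Lpn (LP (LK LD1_c28 LD2_c3 LD3_c39))))))
theorem f244407 : Led Lsl_ft (LP (LK LD1_c20 LD2_c2 LD3_c54)) = (LP (LK LD1_c29 LD2_c16 LD3_c23)) :=
  Lre_f IH (LK LD1_c20 LD2_c2 LD3_c54) (LK LD1_c29 LD2_c16 LD3_c23) Lrfl Lrfl
theorem f244383 : Led Lsl_gt (LP (LK LD1_c20 LD2_c2 LD3_c54)) = (LP (LK LD1_c29 LD2_c16 LD3_c21)) :=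
  Lre_g IH (LK LD1_c20 LD2_c2 LD3_c54) (LK LD1_c29 LD2_c16 LD3_c21) Lrfl Lrfl
theorem f260107 : Led Lsl_gt (LP (LK LD1_c29 LD2_c16 LD3_c21)) = (LP (LK LD1_c28 LD2_c3 LD3_c39)) :=
  Lgr Lrot46 (Lpe (f244383 IH) (Lpr_ft (f244407 IH) (Lpr_at (f260088 IH) (Lpn (LP (LK LD1_c28 LD2_c3 LD3_c39))))))
theorem f243981 : Led Lsl_ct (LP (LK LD1_c8 LD2_c6 LD3_c44)) = (LP (LK LD1_c4 LD2_c3 LD3_c4)) :=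
  Lre_c IH (LK LD1_c8 LD2_c6 LD3_c44) (LK LD1_c4 LD2_c3 LD3_c4) Lrfl Lrfl
theorem f260109 : Led Lsl_cf (LP (LK LD1_c29 LD2_c16 LD3_c21)) = (LP (LK LD1_c25 LD2_c14 LD3_c12)) :=
  Lgr Lrot169 (Lpr_gt (f260107 IH) (Lpe (K19.f260086 IH) (Lpe (K18.f244328 IH) (Lpe (K18.f244004 IH) (Lpe (K18.f184821 IH) (Lpe (f243981 IH) (Lpr_gf (K18.f244445 IH) (Lpe (K17.f244440 IH) (Lpr_gt (f244111 IH) (Lpn (LP (LK LD1_c25 LD2_c14 LD3_c12))))))))))))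
theorem f260111 : Led Lsl_ct (LP (LK LD1_c29 LD2_c16 LD3_c21)) = (LP (LK LD1_c25 LD2_c14 LD3_c12)) :=
  Lgr Lrot59 (Lpr_cf (f260109 IH) (Lpn (LP (LK LD1_c25 LD2_c14 LD3_c12))))
theorem f332812 : Led Lsl_gf (LP (LK LD1_c15 LD2_c53 LD3_c58)) = (LP (LK LD1_c15 LD2_c21 LD3_c52)) :=
  Lgr Lrot147 (Lpe (K21.f314289 IH) (Lpr_gt (K21.f327375 IH) (Lpr_ct (f259114 IH) (Lpr_df (f332808 IH) (Lpe (f260111 IH) (Lpe (f244383 IH) (Lpe (K19.f244337 IH) (Lpe (K21.f243953 IH) (Lpr_df (K21.f244351 IH) (Lpn (LP (LK LD1_c15 LD2_c21 LD3_c52))))))))))))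
theorem f327202 : Led Lsl_ff (LP (LK LD1_c19 LD2_c58 LD3_c43)) = (LP (LK LD1_c15 LD2_c29 LD3_c54)) :=
  Lgr Lrot23 (Lpr_ct (K21.f296241 IH) (Lpr_ft (K21.f327196 IH) (Lpr_ct (K21.f22094 IH) (Lpn (LP (LK LD1_c15 LD2_c29 LD3_c54))))))
theorem f327161 : Led Lsl_at (LP (LK LD1_c19 LD2_c58 LD3_c43)) = (LP (LK LD1_c25 LD2_c8 LD3_c41)) :=
  Lgr Lrot100 (Lpr_af (K21.f327159 IH) (Lpn (LP (LK LD1_c25 LD2_c8 LD3_c41))))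
theorem f327209 : Led Lsl_gf (LP (LK LD1_c25 LD2_c8 LD3_c41)) = (LP (LK LD1_c25 LD2_c23 LD3_c1)) :=
  Lgr Lrot76 (Lpe (f327161 IH) (Lpr_ff (f327202 IH) (Lpr_gt (K21.f233814 IH) (Lpn (LP (LK LD1_c25 LD2_c23 LD3_c1))))))
theorem f52282 : Led Lsl_et (LP (LK LD1_c4 LD2_c4 LD3_c16)) = (LP (LK LD1_c1 LD2_c59 LD3_c3)) :=
  Lre_e IH (LK LD1_c4 LD2_c4 LD3_c16) (LK LD1_c1 LD2_c59 LD3_c3) Lrfl Lrfl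
theorem f52284 : Led Lsl_ef (LP (LK LD1_c8 LD2_c9 LD3_c24)) = (LP (LK LD1_c8 LD2_c2 LD3_c51)) :=
  Lgr Lrot21 (Lpr_ft (K20.f52283 IH) (Lpr_et (f52282 IH) (Lpr_ft (K10.f52266 IH) (Lpr_et (K18.f52273 IH) (Lpr_ft (K10.f50938 IH) (Lpn (LP (LK LD1_c8 LD2_c2 LD3_c51))))))))
theorem f265699 : Led Lsl_gf (LP (LK LD1_c20 LD2_c2 LD3_c53)) = (LP (LK LD1_c25 LD2_c6 LD3_c34)) :=
  Lgr Lrot134 (Lpr_df (K21.f244351 IH) (Lpr_et (K21.f53015 IH) (Lpe (K21.f53008 IH) (Lpr_ef (f52284 IH) (Lpe (K10.f50949 IH) (Lpr_gt (K15.f50953 IH) (Lpe (K15.f265637 IH) (Lpr_et (K18.f265639 IH) (Lpr_gt (K18.f265679 IH) (Lpr_dt (K18.f244328 IH) (Lpn (LP (LK LD1_c25 LD2_c6 LD3_c34)))))))))))))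
theorem f244378 : Led Lsl_dt (LP (LK LD1_c20 LD2_c2 LD3_c53)) = (LP (LK LD1_c15 LD2_c21 LD3_c52)) :=
  Lgr Lrot42 (Lpr_df (K21.f244351 IH) (Lpn (LP (LK LD1_c15 LD2_c21 LD3_c52))))
theorem f323774 : Led Lsl_ct (LP (LK LD1_c9 LD2_c44 LD3_c30)) = (LP (LK LD1_c15 LD2_c21 LD3_c52)) :=
  Lgr Lrot7 (Lpr_df (K21.f323770 IH) (Lpr_gf (K21.f287226 IH) (Lpe (K18.f296891 IH) (Lpr_gf (K21.f297995 IH) (Lpe (K19.f243744 IH) (Lpr_gt (K18.f265679 IH) (Lpr_dt (K18.f244328 IH) (Lpe (f265699 IH) (Lpr_dt (f244378 IH) (Lpn (LP (LK LD1_c15 LD2_c21 LD3_c52))))))))))))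
theorem f332814 : Led Lsl_gf (LP (LK LD1_c8 LD2_c28 LD3_c6)) = (LP (LK LD1_c9 LD2_c44 LD3_c30)) :=
  Lgr Lrot144 (Lpe (K14.f253119 IH) (Lpr_gt (K21.f330353 IH) (Lpr_dt (K21.f327260 IH) (Lpe (K19.f298583 IH) (Lpe (K21.f244399 IH) (Lpr_gf (f327209 IH) (Lpr_df (K21.f233817 IH) (Lpr_gf (f332812 IH) (Lpe (f323774 IH) (Lpn (LP (LK LD1_c9 LD2_c44 LD3_c30))))))))))))
theorem f321732 : Led Lsl_et (LP (LK LD1_c5 LD2_c9 LD3_c8)) = (LP (LK LD1_c8 LD2_c4 LD3_c14)) :=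
  Lgr Lrot74 (Lpe (K18.f229541 IH) (Lpr_ef (K20.f321730 IH) (Lpe (K18.f258999 IH) (Lpn (LP (LK LD1_c8 LD2_c4 LD3_c14))))))
theorem f193210 : Led Lsl_gt (LP (LK LD1_c2 LD2_c8 LD3_c38)) = (LP (LK LD1_c4 LD2_c22 LD3_c24)) :=
  Lre_g IH (LK LD1_c2 LD2_c8 LD3_c38) (LK LD1_c4 LD2_c22 LD3_c24) Lrfl Lrfl
theorem f287110 : Led Lsl_gt (LP (LK LD1_c4 LD2_c22 LD3_c24)) = (LP (LK LD1_c7 LD2_c56 LD3_c11)) :=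
  Lgr Lrot46 (Lpe (f193210 IH) (Lpr_ft (K17.f193209 IH) (Lpr_at (K17.f287100 IH) (Lpn (LP (LK LD1_c7 LD2_c56 LD3_c11))))))
theorem f193249 : Led Lsl_dt (LP (LK LD1_c8 LD2_c42 LD3_c46)) = (LP (LK LD1_c4 LD2_c22 LD3_c24)) :=
  Lre_d IH (LK LD1_c8 LD2_c42 LD3_c46) (LK LD1_c4 LD2_c22 LD3_c24) Lrfl Lrfl
theorem f193250 : Led Lsl_et (LP (LK LD1_c8 LD2_c42 LD3_c46)) = (LP (LK LD1_c16 LD2_c19 LD3_c18)) :=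
  Lre_e IH (LK LD1_c8 LD2_c42 LD3_c46) (LK LD1_c16 LD2_c19 LD3_c18) Lrfl Lrfl
theorem f332826 : Led Lsl_gt (LP (LK LD1_c10 LD2_c9 LD3_c31)) = (LP (LK LD1_c16 LD2_c19 LD3_c18)) :=
  Lgr Lrot131 (Lpe (K14.f253124 IH) (Lpr_dt (K21.f253122 IH) (Lpr_gf (f332814 IH) (Lpr_df (K21.f323770 IH) (Lpr_gf (K21.f287226 IH) (Lpe (f321732 IH) (Lpe (K18.f229542 IH) (Lpe (f287110 IH) (Lpe (f193249 IH) (Lpr_et (f193250 IH) (Lpn (LP (LK LD1_c16 LD2_c19 LD3_c18)))))))))))))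
theorem f21981 : Led Lsl_dt (LP (LK LD1_c5 LD2_c9 LD3_c24)) = (LP (LK LD1_c10 LD2_c9 LD3_c31)) :=
  Lre_d IH (LK LD1_c5 LD2_c9 LD3_c24) (LK LD1_c10 LD2_c9 LD3_c31) Lrfl Lrfl
theorem f184660 : Led Lsl_et (LP (LK LD1_c1 LD2_c57 LD3_c48)) = (LP (LK LD1_c4 LD2_c1 LD3_c42)) :=
  Lre_e IH (LK LD1_c1 LD2_c57 LD3_c48) (LK LD1_c4 LD2_c1 LD3_c42) Lrfl Lrfl
theorem f184661 : Led Lsl_gt (LP (LK LD1_c8 LD2_c4 LD3_c1)) = (LP (LK LD1_c4 LD2_c1 LD3_c42)) :=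
  Lre_g IH (LK LD1_c8 LD2_c4 LD3_c1) (LK LD1_c4 LD2_c1 LD3_c42) Lrfl Lrfl
theorem f184662 : Led Lsl_et (LP (LK LD1_c15 LD2_c11 LD3_c12)) = (LP (LK LD1_c8 LD2_c4 LD3_c1)) :=
  Lre_e IH (LK LD1_c15 LD2_c11 LD3_c12) (LK LD1_c8 LD2_c4 LD3_c1) Lrfl Lrfl
theorem f332828 : Led Lsl_dt (LP (LK LD1_c15 LD2_c11 LD3_c12)) = (LP (LK LD1_c16 LD2_c19 LD3_c18)) :=
  Lgr Lrot56 (Lpr_et (f184662 IH) (Lpr_gt (f184661 IH) (Lpe (f184660 IH) (Lpr_dt (K12.f182047 IH) (Lpr_gt (K10.f184649 IH) (Lpe (K14.f34069 IH) (Lpr_et (K14.f21972 IH) (Lpr_gt (K14.f21975 IH) (Lpr_dt (f21981 IH) (Lpr_gt (f332826 IH) (Lpn (LP (LK LD1_c16 LD2_c19 LD3_c18)))))))))))))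
theorem f328086 : Led Lsl_df (LP (LK LD1_c4 LD2_c53 LD3_c0)) = (LP (LK LD1_c5 LD2_c1 LD3_c44)) :=
  Lgr Lrot38 (Lpr_dt (K21.f328083 IH) (Lpn (LP (LK LD1_c5 LD2_c1 LD3_c44))))
theorem f328088 : Led Lsl_et (LP (LK LD1_c5 LD2_c1 LD3_c44)) = (LP (LK LD1_c9 LD2_c53 LD3_c56)) :=
  Lre_e IH (LK LD1_c5 LD2_c1 LD3_c44) (LK LD1_c9 LD2_c53 LD3_c56) Lrfl Lrfl
theorem f332830 : Led Lsl_gf (LP (LK LD1_c8 LD2_c28 LD3_c5)) = (LP (LK LD1_c9 LD2_c53 LD3_c56)) :=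
  Lgr Lrot141 (Lpe (K14.f239630 IH) (Lpr_dt (f21981 IH) (Lpr_gt (f332826 IH) (Lpe (f332828 IH) (Lpr_et (f184662 IH) (Lpr_gt (f184661 IH) (Lpr_dt (K21.f279367 IH) (Lpr_gt (K21.f237518 IH) (Lpr_df (f328086 IH) (Lpr_et (f328088 IH) (Lpn (LP (LK LD1_c9 LD2_c53 LD3_c56)))))))))))))
theorem f235425 : Led Lsl_ct (LP (LK LD1_c4 LD2_c14 LD3_c40)) = (LP (LK LD1_c8 LD2_c28 LD3_c8)) :=
  Lre_c IH (LK LD1_c4 LD2_c14 LD3_c40) (LK LD1_c8 LD2_c28 LD3_c8) Lrfl Lrfl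
theorem f235423 : Led Lsl_dt (LP (LK LD1_c15 LD2_c54 LD3_c3)) = (LP (LK LD1_c8 LD2_c28 LD3_c8)) :=
  Lre_d IH (LK LD1_c15 LD2_c54 LD3_c3) (LK LD1_c8 LD2_c28 LD3_c8) Lrfl Lrfl
theorem f235424 : Led Lsl_gt (LP (LK LD1_c25 LD2_c49 LD3_c60)) = (LP (LK LD1_c15 LD2_c54 LD3_c3)) :=
  Lre_g IH (LK LD1_c25 LD2_c49 LD3_c60) (LK LD1_c15 LD2_c54 LD3_c3) Lrfl Lrfl
theorem f21764 : Led Lsl_gt (LP (LK LD1_c5 LD2_c9 LD3_c23)) = (LP (LK LD1_c10 LD2_c9 LD3_c26)) :=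
  Lre_g IH (LK LD1_c5 LD2_c9 LD3_c23) (LK LD1_c10 LD2_c9 LD3_c26) Lrfl Lrfl
theorem f21776 : Led Lsl_et (LP (LK LD1_c18 LD2_c30 LD3_c13)) = (LP (LK LD1_c10 LD2_c9 LD3_c26)) :=
  Lre_e IH (LK LD1_c18 LD2_c30 LD3_c13) (LK LD1_c10 LD2_c9 LD3_c26) Lrfl Lrfl
theorem f239613 : Led Lsl_dt (LP (LK LD1_c8 LD2_c28 LD3_c8)) = (LP (LK LD1_c15 LD2_c54 LD3_c3)) :=
  Lre_d IH (LK LD1_c8 LD2_c28 LD3_c8) (LK LD1_c15 LD2_c54 LD3_c3) Lrfl Lrfl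
theorem f239614 : Led Lsl_dt (LP (LK LD1_c18 LD2_c30 LD3_c13)) = (LP (LK LD1_c25 LD2_c49 LD3_c60)) :=
  Lgr Lrot136 (Lpr_et (f21776 IH) (Lpe (f21764 IH) (Lpe (K10.f21740 IH) (Lpe (K0.f34022 IH) (Lpe (K12.f34582 IH) (Lpe (K12.f229122 IH) (Lpr_gf (K12.f229136 IH) (Lpr_ef (K19.f239610 IH) (Lpr_dt (f239613 IH) (Lpe (f235424 IH) (Lpn (LP (LK LD1_c25 LD2_c49 LD3_c60)))))))))))))
theorem f332832 : Led Lsl_ct (LP (LK LD1_c18 LD2_c6 LD3_c39)) = (LP (LK LD1_c9 LD2_c53 LD3_c56)) :=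
  Lre_c IH (LK LD1_c18 LD2_c6 LD3_c39) (LK LD1_c9 LD2_c53 LD3_c56) Lrfl Lrfl
theorem f332833 : Led Lsl_gf (LP (LK LD1_c18 LD2_c30 LD3_c13)) = (LP (LK LD1_c18 LD2_c6 LD3_c39)) :=
  Lgr Lrot144 (Lpr_dt (f239614 IH) (Lpr_gt (f235424 IH) (Lpr_dt (f235423 IH) (Lpe (f235425 IH) (Lpe (K13.f190956 IH) (Lpe (K14.f226889 IH) (Lpe (K14.f239620 IH) (Lpr_gf (f332830 IH) (Lpe (f332832 IH) (Lpn (LP (LK LD1_c18 LD2_c6 LD3_c39))))))))))))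
theorem f332836 : Led Lsl_et (LP (LK LD1_c9 LD2_c53 LD3_c55)) = (LP (LK LD1_c18 LD2_c6 LD3_c39)) :=
  Lre_e IH (LK LD1_c9 LD2_c53 LD3_c55) (LK LD1_c18 LD2_c6 LD3_c39) Lrfl Lrfl
theorem f328085 : Led Lsl_dt (LP (LK LD1_c9 LD2_c53 LD3_c55)) = (LP (LK LD1_c18 LD2_c6 LD3_c38)) :=
  Lre_d IH (LK LD1_c9 LD2_c53 LD3_c55) (LK LD1_c18 LD2_c6 LD3_c38) Lrfl Lrfl
theorem f332837 : Led Lsl_gt (LP (LK LD1_c15 LD2_c12 LD3_c36)) = (LP (LK LD1_c18 LD2_c6 LD3_c38)) :=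
  Lgr Lrot112 (Lpe (K21.f229125 IH) (Lpr_et (K21.f229134 IH) (Lpr_gf (K12.f229136 IH) (Lpr_ef (K19.f239610 IH) (Lpr_dt (f239613 IH) (Lpe (f235424 IH) (Lpe (f239614 IH) (Lpr_gf (f332833 IH) (Lpe (f332836 IH) (Lpr_dt (f328085 IH) (Lpn (LP (LK LD1_c18 LD2_c6 LD3_c38)))))))))))))
theorem f328089 : Led Lsl_dt (LP (LK LD1_c18 LD2_c6 LD3_c38)) = (LP (LK LD1_c9 LD2_c53 LD3_c55)) :=
  Lre_d IH (LK LD1_c18 LD2_c6 LD3_c38) (LK LD1_c9 LD2_c53 LD3_c55) Lrfl Lrfl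
theorem f291959 : Led Lsl_ct (LP (LK LD1_c5 LD2_c1 LD3_c44)) = (LP (LK LD1_c9 LD2_c53 LD3_c55)) :=
  Lre_c IH (LK LD1_c5 LD2_c1 LD3_c44) (LK LD1_c9 LD2_c53 LD3_c55) Lrfl Lrfl
theorem f279371 : Led Lsl_ct (LP (LK LD1_c15 LD2_c11 LD3_c11)) = (LP (LK LD1_c8 LD2_c4 LD3_c1)) :=
  Lre_c IH (LK LD1_c15 LD2_c11 LD3_c11) (LK LD1_c8 LD2_c4 LD3_c1) Lrfl Lrfl
theorem f332841 : Led Lsl_gf (LP (LK LD1_c8 LD2_c4 LD3_c38)) = (LP (LK LD1_c15 LD2_c11 LD3_c11)) :=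
  Lgr Lrot144 (Lpr_dt (K21.f229125 IH) (Lpr_gt (f332837 IH) (Lpr_dt (f328089 IH) (Lpe (f291959 IH) (Lpe (K21.f328083 IH) (Lpe (K21.f237518 IH) (Lpe (K21.f279367 IH) (Lpe (f184661 IH) (Lpe (f279371 IH) (Lpn (LP (LK LD1_c15 LD2_c11 LD3_c11))))))))))))
theorem f275928 : Led Lsl_at (LP (LK LD1_c8 LD2_c3 LD3_c10)) = (LP (LK LD1_c8 LD2_c4 LD3_c38)) :=
  Lgr Lrot100 (Lpr_af (K16.f275920 IH) (Lpn (LP (LK LD1_c8 LD2_c4 LD3_c38))))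
theorem f275959 : Led Lsl_ft (LP (LK LD1_c15 LD2_c9 LD3_c47)) = (LP (LK LD1_c8 LD2_c3 LD3_c10)) :=
  Lre_f IH (LK LD1_c15 LD2_c9 LD3_c47) (LK LD1_c8 LD2_c3 LD3_c10) Lrfl Lrfl
theorem f332929 : Led Lsl_gt (LP (LK LD1_c15 LD2_c9 LD3_c47)) = (LP (LK LD1_c15 LD2_c11 LD3_c11)) :=
  Lgr Lrot5 (Lpr_ft (f275959 IH) (Lpr_at (f275928 IH) (Lpr_gf (f332841 IH) (Lpn (LP (LK LD1_c15 LD2_c11 LD3_c11))))))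
theorem f325922 : Led Lsl_dt (LP (LK LD1_c8 LD2_c4 LD3_c39)) = (LP (LK LD1_c8 LD2_c33 LD3_c18)) :=
  Lgr Lrot42 (Lpr_df (K21.f325920 IH) (Lpn (LP (LK LD1_c8 LD2_c33 LD3_c18))))
theorem f186913 : Led Lsl_ct (LP (LK LD1_c4 LD2_c51 LD3_c6)) = (LP (LK LD1_c9 LD2_c34 LD3_c12)) :=
  Lre_c IH (LK LD1_c4 LD2_c51 LD3_c6) (LK LD1_c9 LD2_c34 LD3_c12) Lrfl Lrfl
theorem f332844 : Led Lsl_et (LP (LK LD1_c25 LD2_c0 LD3_c17)) = (LP (LK LD1_c15 LD2_c11 LD3_c11)) :=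
  Lre_e IH (LK LD1_c25 LD2_c0 LD3_c17) (LK LD1_c15 LD2_c11 LD3_c11) Lrfl Lrfl
theorem f239619 : Led Lsl_et (LP (LK LD1_c10 LD2_c9 LD3_c26)) = (LP (LK LD1_c18 LD2_c30 LD3_c13)) :=
  Lre_e IH (LK LD1_c10 LD2_c9 LD3_c26) (LK LD1_c18 LD2_c30 LD3_c13) Lrfl Lrfl
theorem f21771 : Led Lsl_dt (LP (LK LD1_c10 LD2_c9 LD3_c26)) = (LP (LK LD1_c18 LD2_c30 LD3_c12)) :=
  Lre_d IH (LK LD1_c10 LD2_c9 LD3_c26) (LK LD1_c18 LD2_c30 LD3_c12) Lrfl Lrfl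
theorem f21772 : Led Lsl_gt (LP (LK LD1_c18 LD2_c30 LD3_c12)) = (LP (LK LD1_c28 LD2_c4 LD3_c20)) :=
  Lre_g IH (LK LD1_c18 LD2_c30 LD3_c12) (LK LD1_c28 LD2_c4 LD3_c20) Lrfl Lrfl
theorem f332845 : Led Lsl_dt (LP (LK LD1_c25 LD2_c0 LD3_c17)) = (LP (LK LD1_c28 LD2_c4 LD3_c20)) :=
  Lgr Lrot37 (Lpr_et (f332844 IH) (Lpe (f332841 IH) (Lpr_dt (K21.f229125 IH) (Lpr_gt (f332837 IH) (Lpe (f328085 IH) (Lpr_et (f332836 IH) (Lpe (f332833 IH) (Lpe (f239619 IH) (Lpr_dt (f21771 IH) (Lpr_gt (f21772 IH) (Lpn (LP (LK LD1_c28 LD2_c4 LD3_c20)))))))))))))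
theorem f332849 : Led Lsl_df (LP (LK LD1_c25 LD2_c0 LD3_c17)) = (LP (LK LD1_c28 LD2_c4 LD3_c20)) :=
  Lgr Lrot38 (Lpr_dt (f332845 IH) (Lpn (LP (LK LD1_c28 LD2_c4 LD3_c20))))
theorem f332853 : Led Lsl_ct (LP (LK LD1_c25 LD2_c0 LD3_c17)) = (LP (LK LD1_c15 LD2_c11 LD3_c12)) :=
  Lre_c IH (LK LD1_c25 LD2_c0 LD3_c17) (LK LD1_c15 LD2_c11 LD3_c12) Lrfl Lrfl
theorem f21756 : Led Lsl_ct (LP (LK LD1_c2 LD2_c31 LD3_c49)) = (LP (LK LD1_c5 LD2_c9 LD3_c23)) :=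
  Lre_c IH (LK LD1_c2 LD2_c31 LD3_c49) (LK LD1_c5 LD2_c9 LD3_c23) Lrfl Lrfl
theorem f332854 : Led Lsl_df (LP (LK LD1_c15 LD2_c11 LD3_c12)) = (LP (LK LD1_c16 LD2_c19 LD3_c18)) :=
  Lgr Lrot84 (Lpe (f332853 IH) (Lpr_df (f332849 IH) (Lpe (f21772 IH) (Lpe (f21771 IH) (Lpe (f21764 IH) (Lpe (f21756 IH) (Lpr_gt (K14.f21975 IH) (Lpr_dt (f21981 IH) (Lpr_gt (f332826 IH) (Lpn (LP (LK LD1_c16 LD2_c19 LD3_c18))))))))))))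
theorem f193246 : Led Lsl_dt (LP (LK LD1_c4 LD2_c22 LD3_c24)) = (LP (LK LD1_c8 LD2_c42 LD3_c46)) :=
  Lre_d IH (LK LD1_c4 LD2_c22 LD3_c24) (LK LD1_c8 LD2_c42 LD3_c46) Lrfl Lrfl
theorem f1585 : Led Lsl_et (LP (LK LD1_c2 LD2_c23 LD3_c42)) = (LP (LK LD1_c1 LD2_c8 LD3_c56)) :=
  Lre_e IH (LK LD1_c2 LD2_c23 LD3_c42) (LK LD1_c1 LD2_c8 LD3_c56) Lrfl Lrfl
theorem f193289 : Led Lsl_gt (LP (LK LD1_c8 LD2_c42 LD3_c46)) = (LP (LK LD1_c4 LD2_c51 LD3_c47)) :=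
  Lgr Lrot139 (Lpe (f193246 IH) (Lpe (f193210 IH) (Lpe (K14.f193192 IH) (Lpr_dt (K12.f173348 IH) (Lpr_gf (K10.f193264 IH) (Lpe (K1.f2434 IH) (Lpe (K19.f2444 IH) (Lpe (K12.f2042 IH) (Lpe (f1585 IH) (Lpr_dt (K13.f1586 IH) (Lpn (LP (LK LD1_c4 LD2_c51 LD3_c47)))))))))))))
theorem f2450 : Led Lsl_gt (LP (LK LD1_c2 LD2_c23 LD3_c26)) = (LP (LK LD1_c4 LD2_c51 LD3_c15)) :=
  Lre_g IH (LK LD1_c2 LD2_c23 LD3_c26) (LK LD1_c4 LD2_c51 LD3_c15) Lrfl Lrfl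
theorem f193303 : Led Lsl_et (LP (LK LD1_c4 LD2_c22 LD3_c24)) = (LP (LK LD1_c4 LD2_c51 LD3_c15)) :=
  Lgr Lrot122 (Lpr_dt (f193246 IH) (Lpr_gt (f193289 IH) (Lpe (K13.f1586 IH) (Lpr_et (f1585 IH) (Lpr_gt (K12.f2042 IH) (Lpr_dt (K13.f1919 IH) (Lpr_gt (K9.f270 IH) (Lpe (K18.f2041 IH) (Lpr_et (K21.f2449 IH) (Lpr_gt (f2450 IH) (Lpn (LP (LK LD1_c4 LD2_c51 LD3_c15)))))))))))))
theorem f193309 : Led Lsl_ef (LP (LK LD1_c4 LD2_c22 LD3_c24)) = (LP (LK LD1_c4 LD2_c51 LD3_c15)) :=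
  Lgr Lrot88 (Lpr_et (f193303 IH) (Lpn (LP (LK LD1_c4 LD2_c51 LD3_c15))))
theorem f332858 : Led Lsl_dt (LP (LK LD1_c8 LD2_c4 LD3_c1)) = (LP (LK LD1_c4 LD2_c51 LD3_c15)) :=
  Lgr Lrot77 (Lpe (f184662 IH) (Lpr_df (f332854 IH) (Lpe (f193250 IH) (Lpe (f193246 IH) (Lpr_ef (f193309 IH) (Lpn (LP (LK LD1_c4 LD2_c51 LD3_c15))))))))
theorem f332865 : Led Lsl_df (LP (LK LD1_c8 LD2_c4 LD3_c1)) = (LP (LK LD1_c4 LD2_c51 LD3_c15)) :=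
  Lgr Lrot38 (Lpr_dt (f332858 IH) (Lpn (LP (LK LD1_c4 LD2_c51 LD3_c15))))
theorem f193311 : Led Lsl_ct (LP (LK LD1_c9 LD2_c34 LD3_c38)) = (LP (LK LD1_c4 LD2_c51 LD3_c15)) :=
  Lre_c IH (LK LD1_c9 LD2_c34 LD3_c38) (LK LD1_c4 LD2_c51 LD3_c15) Lrfl Lrfl
theorem f332932 : Led Lsl_gt (LP (LK LD1_c9 LD2_c34 LD3_c12)) = (LP (LK LD1_c9 LD2_c34 LD3_c38)) :=
  Lgr Lrot150 (Lpe (f186913 IH) (Lpr_gf (K21.f328687 IH) (Lpe (f325922 IH) (Lpe (K21.f275918 IH) (Lpr_ct (K16.f193034 IH) (Lpr_gt (f332929 IH) (Lpr_ct (f279371 IH) (Lpr_df (f332865 IH) (Lpe (f193311 IH) (Lpn (LP (LK LD1_c9 LD2_c34 LD3_c38))))))))))))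
theorem f333054 : Led Lsl_gf (LP (LK LD1_c15 LD2_c34 LD3_c52)) = (LP (LK LD1_c9 LD2_c34 LD3_c38)) :=
  Lgr Lrot76 (Lpr_af (K21.f327784 IH) (Lpe (K21.f327798 IH) (Lpr_gt (f332932 IH) (Lpn (LP (LK LD1_c9 LD2_c34 LD3_c38))))))
theorem f252771 : Led Lsl_cf (LP (LK LD1_c2 LD2_c36 LD3_c31)) = (LP (LK LD1_c2 LD2_c28 LD3_c35)) :=
  Lgr Lrot166 (Lpr_gt (K12.f45884 IH) (Lpr_dt (K1.f44913 IH) (Lpe (K9.f184614 IH) (Lpr_dt (K15.f3782 IH) (Lpr_ct (K15.f184755 IH) (Lpr_df (K15.f252763 IH) (Lpe (K14.f3428 IH) (Lpe (K15.f3575 IH) (Lpe (K14.f3581 IH) (Lpn (LP (LK LD1_c2 LD2_c28 LD3_c35))))))))))))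
theorem f21800 : Led Lsl_et (LP (LK LD1_c5 LD2_c1 LD3_c52)) = (LP (LK LD1_c2 LD2_c28 LD3_c35)) :=
  Lre_e IH (LK LD1_c5 LD2_c1 LD3_c52) (LK LD1_c2 LD2_c28 LD3_c35) Lrfl Lrfl
theorem f252787 : Led Lsl_ct (LP (LK LD1_c5 LD2_c19 LD3_c44)) = (LP (LK LD1_c5 LD2_c1 LD3_c52)) :=
  Lgr Lrot15 (Lpe (K12.f228974 IH) (Lpr_cf (f252771 IH) (Lpe (f21800 IH) (Lpn (LP (LK LD1_c5 LD2_c1 LD3_c52))))))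
theorem f252810 : Led Lsl_ft (LP (LK LD1_c5 LD2_c1 LD3_c52)) = (LP (LK LD1_c9 LD2_c54 LD3_c14)) :=
  Lre_f IH (LK LD1_c5 LD2_c1 LD3_c52) (LK LD1_c9 LD2_c54 LD3_c14) Lrfl Lrfl
theorem f252811 : Led Lsl_cf (LP (LK LD1_c10 LD2_c29 LD3_c19)) = (LP (LK LD1_c9 LD2_c54 LD3_c14)) :=
  Lgr Lrot108 (Lpr_ft (K12.f228984 IH) (Lpr_ct (f252787 IH) (Lpr_ft (f252810 IH) (Lpn (LP (LK LD1_c9 LD2_c54 LD3_c14))))))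
theorem f193306 : Led Lsl_ct (LP (LK LD1_c4 LD2_c51 LD3_c15)) = (LP (LK LD1_c9 LD2_c34 LD3_c38)) :=
  Lre_c IH (LK LD1_c4 LD2_c51 LD3_c15) (LK LD1_c9 LD2_c34 LD3_c38) Lrfl Lrfl
theorem f33374 : Led Lsl_dt (LP (LK LD1_c4 LD2_c51 LD3_c16)) = (LP (LK LD1_c2 LD2_c23 LD3_c26)) :=
  Lre_d IH (LK LD1_c4 LD2_c51 LD3_c16) (LK LD1_c2 LD2_c23 LD3_c26) Lrfl Lrfl
theorem f191967 : Led Lsl_ct (LP (LK LD1_c9 LD2_c34 LD3_c39)) = (LP (LK LD1_c17 LD2_c38 LD3_c16)) :=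
  Lre_c IH (LK LD1_c9 LD2_c34 LD3_c39) (LK LD1_c17 LD2_c38 LD3_c16) Lrfl Lrfl
theorem f333056 : Led Lsl_gf (LP (LK LD1_c9 LD2_c54 LD3_c14)) = (LP (LK LD1_c17 LD2_c38 LD3_c16)) :=
  Lgr Lrot104 (Lpe (f252811 IH) (Lpe (K12.f228985 IH) (Lpe (K21.f229013 IH) (Lpr_gf (f333054 IH) (Lpe (f193306 IH) (Lpe (f2450 IH) (Lpe (f33374 IH) (Lpr_gt (K21.f191966 IH) (Lpr_ct (f191967 IH) (Lpn (LP (LK LD1_c17 LD2_c38 LD3_c16))))))))))))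
theorem f333087 : Led Lsl_af (LP (LK LD1_c9 LD2_c54 LD3_c14)) = (LP (LK LD1_c18 LD2_c3 LD3_c55)) :=
  Lgr Lrot31 (Lpr_gf (f333056 IH) (Lpr_gf (K21.f327594 IH) (Lpr_ft (K21.f327586 IH) (Lpn (LP (LK LD1_c18 LD2_c3 LD3_c55))))))
theorem f252818 : Led Lsl_ft (LP (LK LD1_c9 LD2_c54 LD3_c14)) = (LP (LK LD1_c5 LD2_c1 LD3_c52)) :=
  Lre_f IH (LK LD1_c9 LD2_c54 LD3_c14) (LK LD1_c5 LD2_c1 LD3_c52) Lrfl Lrfl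
theorem f333089 : Led Lsl_at (LP (LK LD1_c5 LD2_c1 LD3_c52)) = (LP (LK LD1_c9 LD2_c52 LD3_c7)) :=
  Lgr Lrot66 (Lpe (f252818 IH) (Lpr_af (f333087 IH) (Lpe (K21.f327586 IH) (Lpn (LP (LK LD1_c9 LD2_c52 LD3_c7))))))
theorem f252819 : Led Lsl_bt (LP (LK LD1_c9 LD2_c54 LD3_c11)) = (LP (LK LD1_c5 LD2_c1 LD3_c52)) :=
  Lre_b IH (LK LD1_c9 LD2_c54 LD3_c11) (LK LD1_c5 LD2_c1 LD3_c52) Lrfl Lrfl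
theorem f252832 : Led Lsl_at (LP (LK LD1_c18 LD2_c7 LD3_c18)) = (LP (LK LD1_c9 LD2_c54 LD3_c11)) :=
  Lre_a IH (LK LD1_c18 LD2_c7 LD3_c18) (LK LD1_c9 LD2_c54 LD3_c11) Lrfl Lrfl
theorem f311313 : Led Lsl_bt (LP (LK LD1_c9 LD2_c52 LD3_c7)) = (LP (LK LD1_c18 LD2_c3 LD3_c53)) :=
  Lre_b IH (LK LD1_c9 LD2_c52 LD3_c7) (LK LD1_c18 LD2_c3 LD3_c53) Lrfl Lrfl
theorem f333091 : Led Lsl_at (LP (LK LD1_c18 LD2_c3 LD3_c53)) = (LP (LK LD1_c27 LD2_c45 LD3_c32)) :=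
  Lre_a IH (LK LD1_c18 LD2_c3 LD3_c53) (LK LD1_c27 LD2_c45 LD3_c32) Lrfl Lrfl
theorem f333092 : Led Lsl_bf (LP (LK LD1_c18 LD2_c7 LD3_c18)) = (LP (LK LD1_c27 LD2_c45 LD3_c32)) :=
  Lgr Lrot81 (Lpr_at (f252832 IH) (Lpr_bt (f252819 IH) (Lpr_at (f333089 IH) (Lpr_bt (f311313 IH) (Lpr_at (f333091 IH) (Lpn (LP (LK LD1_c27 LD2_c45 LD3_c32))))))))
theorem f252898 : Led Lsl_et (LP (LK LD1_c18 LD2_c7 LD3_c18)) = (LP (LK LD1_c9 LD2_c54 LD3_c9)) :=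
  Lre_e IH (LK LD1_c18 LD2_c7 LD3_c18) (LK LD1_c9 LD2_c54 LD3_c9) Lrfl Lrfl
theorem f333096 : Led Lsl_et (LP (LK LD1_c18 LD2_c3 LD3_c51)) = (LP (LK LD1_c27 LD2_c45 LD3_c32)) :=
  Lre_e IH (LK LD1_c18 LD2_c3 LD3_c51) (LK LD1_c27 LD2_c45 LD3_c32) Lrfl Lrfl
theorem f333097 : Led Lsl_bt (LP (LK LD1_c9 LD2_c54 LD3_c9)) = (LP (LK LD1_c18 LD2_c3 LD3_c51)) :=
  Lgr Lrot119 (Lpe (f252898 IH) (Lpr_bf (f333092 IH) (Lpe (f333096 IH) (Lpn (LP (LK LD1_c18 LD2_c3 LD3_c51))))))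
theorem f333100 : Led Lsl_bf (LP (LK LD1_c9 LD2_c54 LD3_c9)) = (LP (LK LD1_c18 LD2_c3 LD3_c51)) :=
  Lgr Lrot24 (Lpr_bt (f333097 IH) (Lpn (LP (LK LD1_c18 LD2_c3 LD3_c51))))
theorem f252841 : Led Lsl_at (LP (LK LD1_c9 LD2_c54 LD3_c9)) = (LP (LK LD1_c5 LD2_c1 LD3_c50)) :=
  Lre_a IH (LK LD1_c9 LD2_c54 LD3_c9) (LK LD1_c5 LD2_c1 LD3_c50) Lrfl Lrfl
theorem f165384 : Led Lsl_bt (LP (LK LD1_c5 LD2_c1 LD3_c50)) = (LP (LK LD1_c2 LD2_c28 LD3_c35)) :=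
  Lre_b IH (LK LD1_c5 LD2_c1 LD3_c50) (LK LD1_c2 LD2_c28 LD3_c35) Lrfl Lrfl
theorem f333102 : Led Lsl_at (LP (LK LD1_c9 LD2_c52 LD3_c5)) = (LP (LK LD1_c18 LD2_c3 LD3_c51)) :=
  Lre_a IH (LK LD1_c9 LD2_c52 LD3_c5) (LK LD1_c18 LD2_c3 LD3_c51) Lrfl Lrfl
theorem f192941 : Led Lsl_bt (LP (LK LD1_c5 LD2_c0 LD3_c52)) = (LP (LK LD1_c9 LD2_c52 LD3_c5)) :=
  Lre_b IH (LK LD1_c5 LD2_c0 LD3_c52) (LK LD1_c9 LD2_c52 LD3_c5) Lrfl Lrfl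
theorem f333103 : Led Lsl_at (LP (LK LD1_c2 LD2_c28 LD3_c35)) = (LP (LK LD1_c5 LD2_c0 LD3_c52)) :=
  Lgr Lrot67 (Lpe (f165384 IH) (Lpe (f252841 IH) (Lpr_bf (f333100 IH) (Lpe (f333102 IH) (Lpe (f192941 IH) (Lpn (LP (LK LD1_c5 LD2_c0 LD3_c52))))))))
theorem f333109 : Led Lsl_ff (LP (LK LD1_c2 LD2_c28 LD3_c35)) = (LP (LK LD1_c5 LD2_c0 LD3_c51)) :=
  Lgr Lrot30 (Lpr_at (f333103 IH) (Lpr_ft (K20.f320839 IH) (Lpe (K20.f320850 IH) (Lpn (LP (LK LD1_c5 LD2_c0 LD3_c51))))))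
theorem f333113 : Led Lsl_ft (LP (LK LD1_c5 LD2_c1 LD3_c51)) = (LP (LK LD1_c9 LD2_c52 LD3_c3)) :=
  Lgr Lrot54 (Lpe (K15.f3685 IH) (Lpr_ff (f333109 IH) (Lpe (K17.f3364 IH) (Lpn (LP (LK LD1_c9 LD2_c52 LD3_c3))))))
theorem f333123 : Led Lsl_ff (LP (LK LD1_c5 LD2_c1 LD3_c51)) = (LP (LK LD1_c9 LD2_c52 LD3_c3)) :=
  Lgr Lrot3 (Lpr_ft (f333113 IH) (Lpn (LP (LK LD1_c9 LD2_c52 LD3_c3))))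
theorem f333133 : Led Lsl_at (LP (LK LD1_c5 LD2_c1 LD3_c51)) = (LP (LK LD1_c9 LD2_c52 LD3_c6)) :=
  Lgr Lrot26 (Lpr_ff (f333123 IH) (Lpr_gt (K15.f246832 IH) (Lpe (K15.f266008 IH) (Lpn (LP (LK LD1_c9 LD2_c52 LD3_c6))))))
theorem f333136 : Led Lsl_af (LP (LK LD1_c5 LD2_c1 LD3_c35)) = (LP (LK LD1_c9 LD2_c51 LD3_c60)) :=
  Lgr Lrot68 (Lpe (K15.f247893 IH) (Lpr_at (f333133 IH) (Lpr_ct (K15.f248052 IH) (Lpn (LP (LK LD1_c9 LD2_c51 LD3_c60))))))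
theorem f333152 : Led Lsl_ft (LP (LK LD1_c5 LD2_c1 LD3_c42)) = (LP (LK LD1_c9 LD2_c51 LD3_c60)) :=
  Lgr Lrot2 (Lpe (K15.f265963 IH) (Lpr_gt (K15.f184214 IH) (Lpr_af (f333136 IH) (Lpn (LP (LK LD1_c9 LD2_c51 LD3_c60))))))
theorem f333165 : Led Lsl_ff (LP (LK LD1_c5 LD2_c1 LD3_c42)) = (LP (LK LD1_c9 LD2_c51 LD3_c60)) :=
  Lgr Lrot3 (Lpr_ft (f333152 IH) (Lpn (LP (LK LD1_c9 LD2_c51 LD3_c60))))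
theorem f333171 : Led Lsl_ft (LP (LK LD1_c2 LD2_c28 LD3_c32)) = (LP (LK LD1_c5 LD2_c0 LD3_c49)) :=
  Lgr Lrot54 (Lpe (K15.f33312 IH) (Lpr_ff (f333165 IH) (Lpe (K15.f186872 IH) (Lpn (LP (LK LD1_c5 LD2_c0 LD3_c49))))))
theorem f333178 : Led Lsl_ff (LP (LK LD1_c1 LD2_c11 LD3_c29)) = (LP (LK LD1_c2 LD2_c28 LD3_c9)) :=
  Lgr Lrot23 (Lpr_ct (K14.f33303 IH) (Lpr_ft (f333171 IH) (Lpr_ct (K14.f3727 IH) (Lpn (LP (LK LD1_c2 LD2_c28 LD3_c9))))))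
theorem f333202 : Led Lsl_ft (LP (LK LD1_c1 LD2_c11 LD3_c29)) = (LP (LK LD1_c2 LD2_c28 LD3_c9)) :=
  Lgr Lrot48 (Lpr_ff (f333178 IH) (Lpn (LP (LK LD1_c2 LD2_c28 LD3_c9))))
theorem f322098 : Led Lsl_at (LP (LK LD1_c2 LD2_c28 LD3_c9)) = (LP (LK LD1_c1 LD2_c11 LD3_c28)) :=
  Lgr Lrot67 (Lpe (K15.f229044 IH) (Lpr_af (K20.f317304 IH) (Lpe (K20.f214629 IH) (Lpr_af (K20.f322096 IH) (Lpe (K9.f184115 IH) (Lpn (LP (LK LD1_c1 LD2_c11 LD3_c28))))))))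
theorem f322092 : Led Lsl_ff (LP (LK LD1_c2 LD2_c23 LD3_c27)) = (LP (LK LD1_c1 LD2_c11 LD3_c28)) :=
  Lgr Lrot25 (Lpe (K14.f191671 IH) (Lpr_ft (K20.f322090 IH) (Lpr_bt (K9.f3743 IH) (Lpn (LP (LK LD1_c1 LD2_c11 LD3_c28))))))
theorem f333204 : Led Lsl_af (LP (LK LD1_c1 LD2_c11 LD3_c29)) = (LP (LK LD1_c2 LD2_c23 LD3_c27)) :=
  Lgr Lrot45 (Lpr_ft (f333202 IH) (Lpr_at (f322098 IH) (Lpe (f322092 IH) (Lpn (LP (LK LD1_c2 LD2_c23 LD3_c27))))))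
theorem f333209 : Led Lsl_at (LP (LK LD1_c2 LD2_c28 LD3_c32)) = (LP (LK LD1_c4 LD2_c51 LD3_c18)) :=
  Lgr Lrot107 (Lpe (K14.f33303 IH) (Lpr_af (f333204 IH) (Lpe (K14.f33362 IH) (Lpn (LP (LK LD1_c4 LD2_c51 LD3_c18))))))
theorem f333160 : Led Lsl_ff (LP (LK LD1_c2 LD2_c28 LD3_c32)) = (LP (LK LD1_c5 LD2_c0 LD3_c49)) :=
  Lgr Lrot19 (Lpr_dt (K15.f33304 IH) (Lpr_ft (f333152 IH) (Lpr_dt (K15.f186870 IH) (Lpn (LP (LK LD1_c5 LD2_c0 LD3_c49))))))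
theorem f333148 : Led Lsl_at (LP (LK LD1_c2 LD2_c28 LD3_c29)) = (LP (LK LD1_c5 LD2_c0 LD3_c49)) :=
  Lgr Lrot51 (Lpe (K15.f184213 IH) (Lpr_af (f333136 IH) (Lpe (K15.f186872 IH) (Lpn (LP (LK LD1_c5 LD2_c0 LD3_c49))))))
theorem f333215 : Led Lsl_ff (LP (LK LD1_c2 LD2_c28 LD3_c29)) = (LP (LK LD1_c4 LD2_c51 LD3_c18)) :=
  Lgr Lrot30 (Lpr_at (f333148 IH) (Lpe (f333160 IH) (Lpr_at (f333209 IH) (Lpn (LP (LK LD1_c4 LD2_c51 LD3_c18))))))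
theorem f333220 : Led Lsl_ft (LP (LK LD1_c2 LD2_c28 LD3_c29)) = (LP (LK LD1_c4 LD2_c51 LD3_c18)) :=
  Lgr Lrot48 (Lpr_ff (f333215 IH) (Lpn (LP (LK LD1_c4 LD2_c51 LD3_c18))))
theorem f184548 : Led Lsl_bt (LP (LK LD1_c5 LD2_c1 LD3_c34)) = (LP (LK LD1_c2 LD2_c28 LD3_c29)) :=
  Lre_b IH (LK LD1_c5 LD2_c1 LD3_c34) (LK LD1_c2 LD2_c28 LD3_c29) Lrfl Lrfl
theorem f333222 : Led Lsl_ff (LP (LK LD1_c5 LD2_c1 LD3_c34)) = (LP (LK LD1_c9 LD2_c34 LD3_c42)) :=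
  Lgr Lrot25 (Lpr_bt (f184548 IH) (Lpr_ft (f333220 IH) (Lpr_bt (K15.f33368 IH) (Lpn (LP (LK LD1_c9 LD2_c34 LD3_c42))))))
theorem f165907 : Led Lsl_ct (LP (LK LD1_c5 LD2_c1 LD3_c34)) = (LP (LK LD1_c9 LD2_c53 LD3_c18)) :=
  Lre_c IH (LK LD1_c5 LD2_c1 LD3_c34) (LK LD1_c9 LD2_c53 LD3_c18) Lrfl Lrfl
theorem f333224 : Led Lsl_ft (LP (LK LD1_c9 LD2_c53 LD3_c18)) = (LP (LK LD1_c5 LD2_c18 LD3_c4)) :=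
  Lgr Lrot4 (Lpe (f165907 IH) (Lpr_ff (f333222 IH) (Lpe (K15.f192023 IH) (Lpn (LP (LK LD1_c5 LD2_c18 LD3_c4))))))
theorem f322036 : Led Lsl_at (LP (LK LD1_c18 LD2_c5 LD3_c49)) = (LP (LK LD1_c9 LD2_c53 LD3_c18)) :=
  Lre_a IH (LK LD1_c18 LD2_c5 LD3_c49) (LK LD1_c9 LD2_c53 LD3_c18) Lrfl Lrfl
theorem f192022 : Led Lsl_at (LP (LK LD1_c5 LD2_c18 LD3_c4)) = (LP (LK LD1_c10 LD2_c25 LD3_c52)) :=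
  Lre_a IH (LK LD1_c5 LD2_c18 LD3_c4) (LK LD1_c10 LD2_c25 LD3_c52) Lrfl Lrfl
theorem f333234 : Led Lsl_ff (LP (LK LD1_c18 LD2_c5 LD3_c49)) = (LP (LK LD1_c10 LD2_c25 LD3_c52)) :=
  Lgr Lrot30 (Lpr_at (f322036 IH) (Lpr_ft (f333224 IH) (Lpr_at (f192022 IH) (Lpn (LP (LK LD1_c10 LD2_c25 LD3_c52))))))
theorem f333238 : Led Lsl_ft (LP (LK LD1_c18 LD2_c5 LD3_c49)) = (LP (LK LD1_c10 LD2_c25 LD3_c52)) :=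
  Lgr Lrot48 (Lpr_ff (f333234 IH) (Lpn (LP (LK LD1_c10 LD2_c25 LD3_c52))))
theorem f214637 : Led Lsl_bt (LP (LK LD1_c2 LD2_c35 LD3_c44)) = (LP (LK LD1_c5 LD2_c18 LD3_c1)) :=
  Lre_b IH (LK LD1_c2 LD2_c35 LD3_c44) (LK LD1_c5 LD2_c18 LD3_c1) Lrfl Lrfl
theorem f215211 : Led Lsl_at (LP (LK LD1_c5 LD2_c18 LD3_c1)) = (LP (LK LD1_c10 LD2_c25 LD3_c46)) :=
  Lre_a IH (LK LD1_c5 LD2_c18 LD3_c1) (LK LD1_c10 LD2_c25 LD3_c46) Lrfl Lrfl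
theorem f165906 : Led Lsl_bt (LP (LK LD1_c9 LD2_c53 LD3_c18)) = (LP (LK LD1_c5 LD2_c1 LD3_c31)) :=
  Lre_b IH (LK LD1_c9 LD2_c53 LD3_c18) (LK LD1_c5 LD2_c1 LD3_c31) Lrfl Lrfl
theorem f322037 : Led Lsl_bt (LP (LK LD1_c10 LD2_c25 LD3_c46)) = (LP (LK LD1_c18 LD2_c5 LD3_c49)) :=
  Lgr Lrot62 (Lpe (f215211 IH) (Lpe (f214637 IH) (Lpr_af (K20.f322032 IH) (Lpe (f165906 IH) (Lpe (f322036 IH) (Lpn (LP (LK LD1_c18 LD2_c5 LD3_c49))))))))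
theorem f215095 : Led Lsl_at (LP (LK LD1_c10 LD2_c25 LD3_c46)) = (LP (LK LD1_c5 LD2_c18 LD3_c1)) :=
  Lre_a IH (LK LD1_c10 LD2_c25 LD3_c46) (LK LD1_c5 LD2_c18 LD3_c1) Lrfl Lrfl
theorem f321992 : Led Lsl_at (LP (LK LD1_c10 LD2_c23 LD3_c49)) = (LP (LK LD1_c18 LD2_c51 LD3_c49)) :=
  Lre_a IH (LK LD1_c10 LD2_c23 LD3_c49) (LK LD1_c18 LD2_c51 LD3_c49) Lrfl Lrfl
theorem f321993 : Led Lsl_ff (LP (LK LD1_c10 LD2_c25 LD3_c46)) = (LP (LK LD1_c18 LD2_c51 LD3_c49)) :=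
  Lgr Lrot30 (Lpr_at (f215095 IH) (Lpr_ft (K20.f321973 IH) (Lpr_at (f321992 IH) (Lpn (LP (LK LD1_c18 LD2_c51 LD3_c49))))))
theorem f333243 : Led Lsl_bf (LP (LK LD1_c18 LD2_c51 LD3_c49)) = (LP (LK LD1_c10 LD2_c25 LD3_c52)) :=
  Lgr Lrot61 (Lpe (f321993 IH) (Lpr_bt (f322037 IH) (Lpr_ft (f333238 IH) (Lpn (LP (LK LD1_c10 LD2_c25 LD3_c52))))))
theorem f321968 : Led Lsl_at (LP (LK LD1_c18 LD2_c51 LD3_c49)) = (LP (LK LD1_c10 LD2_c23 LD3_c49)) :=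
  Lre_a IH (LK LD1_c18 LD2_c51 LD3_c49) (LK LD1_c10 LD2_c23 LD3_c49) Lrfl Lrfl
theorem f32501 : Led Lsl_bt (LP (LK LD1_c10 LD2_c23 LD3_c49)) = (LP (LK LD1_c5 LD2_c17 LD3_c6)) :=
  Lre_b IH (LK LD1_c10 LD2_c23 LD3_c49) (LK LD1_c5 LD2_c17 LD3_c6) Lrfl Lrfl
theorem f191526 : Led Lsl_bt (LP (LK LD1_c2 LD2_c35 LD3_c45)) = (LP (LK LD1_c5 LD2_c18 LD3_c4)) :=
  Lre_b IH (LK LD1_c2 LD2_c35 LD3_c45) (LK LD1_c5 LD2_c18 LD3_c4) Lrfl Lrfl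
theorem f333249 : Led Lsl_at (LP (LK LD1_c5 LD2_c17 LD3_c6)) = (LP (LK LD1_c2 LD2_c35 LD3_c45)) :=
  Lgr Lrot67 (Lpe (f32501 IH) (Lpe (f321968 IH) (Lpr_bf (f333243 IH) (Lpe (f192022 IH) (Lpe (f191526 IH) (Lpn (LP (LK LD1_c2 LD2_c35 LD3_c45))))))))
theorem f191558 : Led Lsl_et (LP (LK LD1_c2 LD2_c35 LD3_c45)) = (LP (LK LD1_c5 LD2_c18 LD3_c6)) :=
  Lre_e IH (LK LD1_c2 LD2_c35 LD3_c45) (LK LD1_c5 LD2_c18 LD3_c6) Lrfl Lrfl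
theorem f333297 : Led Lsl_af (LP (LK LD1_c10 LD2_c23 LD3_c51)) = (LP (LK LD1_c5 LD2_c18 LD3_c6)) :=
  Lgr Lrot50 (Lpr_et (K20.f48864 IH) (Lpr_at (f333249 IH) (Lpr_et (f191558 IH) (Lpn (LP (LK LD1_c5 LD2_c18 LD3_c6))))))
theorem f333299 : Led Lsl_at (LP (LK LD1_c10 LD2_c23 LD3_c51)) = (LP (LK LD1_c5 LD2_c18 LD3_c6)) :=
  Lgr Lrot100 (Lpr_af (f333297 IH) (Lpn (LP (LK LD1_c5 LD2_c18 LD3_c6))))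
theorem f191521 : Led Lsl_et (LP (LK LD1_c4 LD2_c7 LD3_c34)) = (LP (LK LD1_c8 LD2_c15 LD3_c7)) :=
  Lre_e IH (LK LD1_c4 LD2_c7 LD3_c34) (LK LD1_c8 LD2_c15 LD3_c7) Lrfl Lrfl
theorem f48890 : Led Lsl_et (LP (LK LD1_c5 LD2_c18 LD3_c6)) = (LP (LK LD1_c2 LD2_c35 LD3_c45)) :=
  Lre_e IH (LK LD1_c5 LD2_c18 LD3_c6) (LK LD1_c2 LD2_c35 LD3_c45) Lrfl Lrfl
theorem f191522 : Led Lsl_ct (LP (LK LD1_c8 LD2_c15 LD3_c7)) = (LP (LK LD1_c5 LD2_c18 LD3_c6)) :=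
  Lgr Lrot15 (Lpe (f191521 IH) (Lpr_cf (K10.f191516 IH) (Lpe (f48890 IH) (Lpn (LP (LK LD1_c5 LD2_c18 LD3_c6))))))
theorem f191554 : Led Lsl_cf (LP (LK LD1_c8 LD2_c15 LD3_c7)) = (LP (LK LD1_c5 LD2_c18 LD3_c6)) :=
  Lgr Lrot11 (Lpr_ct (f191522 IH) (Lpn (LP (LK LD1_c5 LD2_c18 LD3_c6))))
theorem f333301 : Led Lsl_af (LP (LK LD1_c8 LD2_c15 LD3_c51)) = (LP (LK LD1_c8 LD2_c15 LD3_c7)) :=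
  Lgr Lrot68 (Lpe (K20.f184187 IH) (Lpr_at (f333299 IH) (Lpe (f191554 IH) (Lpn (LP (LK LD1_c8 LD2_c15 LD3_c7))))))
theorem f333305 : Led Lsl_at (LP (LK LD1_c8 LD2_c26 LD3_c33)) = (LP (LK LD1_c4 LD2_c51 LD3_c2)) :=
  Lgr Lrot51 (Lpe (K12.f188727 IH) (Lpr_af (f333301 IH) (Lpr_df (K10.f191692 IH) (Lpn (LP (LK LD1_c4 LD2_c51 LD3_c2))))))
theorem f188664 : Led Lsl_ft (LP (LK LD1_c15 LD2_c51 LD3_c20)) = (LP (LK LD1_c8 LD2_c26 LD3_c33)) :=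
  Lre_f IH (LK LD1_c15 LD2_c51 LD3_c20) (LK LD1_c8 LD2_c26 LD3_c33) Lrfl Lrfl
theorem f191695 : Led Lsl_ft (LP (LK LD1_c4 LD2_c51 LD3_c2)) = (LP (LK LD1_c9 LD2_c34 LD3_c9)) :=
  Lre_f IH (LK LD1_c4 LD2_c51 LD3_c2) (LK LD1_c9 LD2_c34 LD3_c9) Lrfl Lrfl
theorem f333315 : Led Lsl_af (LP (LK LD1_c15 LD2_c51 LD3_c20)) = (LP (LK LD1_c9 LD2_c34 LD3_c9)) :=
  Lgr Lrot45 (Lpr_ft (f188664 IH) (Lpr_at (f333305 IH) (Lpr_ft (f191695 IH) (Lpn (LP (LK LD1_c9 LD2_c34 LD3_c9))))))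
theorem f333319 : Led Lsl_at (LP (LK LD1_c15 LD2_c51 LD3_c20)) = (LP (LK LD1_c9 LD2_c34 LD3_c9)) :=
  Lgr Lrot100 (Lpr_af (f333315 IH) (Lpn (LP (LK LD1_c9 LD2_c34 LD3_c9))))
theorem f188659 : Led Lsl_gt (LP (LK LD1_c8 LD2_c26 LD3_c33)) = (LP (LK LD1_c15 LD2_c51 LD3_c19)) :=
  Lre_g IH (LK LD1_c8 LD2_c26 LD3_c33) (LK LD1_c15 LD2_c51 LD3_c19) Lrfl Lrfl
theorem f333326 : Led Lsl_gt (LP (LK LD1_c15 LD2_c51 LD3_c19)) = (LP (LK LD1_c9 LD2_c34 LD3_c9)) :=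
  Lgr Lrot46 (Lpe (f188659 IH) (Lpr_ft (K20.f188655 IH) (Lpr_at (f333319 IH) (Lpn (LP (LK LD1_c9 LD2_c34 LD3_c9))))))
theorem f169391 : Led Lsl_ct (LP (LK LD1_c5 LD2_c16 LD3_c30)) = (LP (LK LD1_c10 LD2_c22 LD3_c34)) :=
  Lre_c IH (LK LD1_c5 LD2_c16 LD3_c30) (LK LD1_c10 LD2_c22 LD3_c34) Lrfl Lrfl
theorem f305082 : Led Lsl_ft (LP (LK LD1_c4 LD2_c51 LD3_c28)) = (LP (LK LD1_c9 LD2_c35 LD3_c2)) :=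
  Lre_f IH (LK LD1_c4 LD2_c51 LD3_c28) (LK LD1_c9 LD2_c35 LD3_c2) Lrfl Lrfl
theorem f238155 : Led Lsl_ct (LP (LK LD1_c9 LD2_c35 LD3_c2)) = (LP (LK LD1_c4 LD2_c51 LD3_c30)) :=
  Lre_c IH (LK LD1_c9 LD2_c35 LD3_c2) (LK LD1_c4 LD2_c51 LD3_c30) Lrfl Lrfl
theorem f305012 : Led Lsl_ct (LP (LK LD1_c8 LD2_c37 LD3_c37)) = (LP (LK LD1_c16 LD2_c9 LD3_c39)) :=
  Lre_c IH (LK LD1_c8 LD2_c37 LD3_c37) (LK LD1_c16 LD2_c9 LD3_c39) Lrfl Lrfl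
theorem f305067 : Led Lsl_af (LP (LK LD1_c9 LD2_c35 LD3_c2)) = (LP (LK LD1_c16 LD2_c9 LD3_c39)) :=
  Lgr Lrot68 (Lpr_ct (f238155 IH) (Lpr_at (K21.f305061 IH) (Lpr_ct (f305012 IH) (Lpn (LP (LK LD1_c16 LD2_c9 LD3_c39))))))
theorem f305069 : Led Lsl_at (LP (LK LD1_c9 LD2_c35 LD3_c2)) = (LP (LK LD1_c16 LD2_c9 LD3_c39)) :=
  Lgr Lrot100 (Lpr_af (f305067 IH) (Lpn (LP (LK LD1_c16 LD2_c9 LD3_c39))))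
theorem f317228 : Led Lsl_df (LP (LK LD1_c8 LD2_c37 LD3_c37)) = (LP (LK LD1_c5 LD2_c35 LD3_c30)) :=
  Lgr Lrot177 (Lpr_ct (f305012 IH) (Lpe (f305069 IH) (Lpe (f305082 IH) (Lpr_dt (K16.f238046 IH) (Lpr_ct (K20.f238097 IH) (Lpr_dt (K20.f238098 IH) (Lpr_ct (K20.f317222 IH) (Lpr_dt (K20.f308297 IH) (Lpr_ct (K20.f222300 IH) (Lpn (LP (LK LD1_c5 LD2_c35 LD3_c30))))))))))))
theorem f238106 : Led Lsl_gt (LP (LK LD1_c9 LD2_c0 LD3_c39)) = (LP (LK LD1_c4 LD2_c31 LD3_c22)) :=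
  Lre_g IH (LK LD1_c9 LD2_c0 LD3_c39) (LK LD1_c4 LD2_c31 LD3_c22) Lrfl Lrfl
theorem f317251 : Led Lsl_gf (LP (LK LD1_c9 LD2_c0 LD3_c39)) = (LP (LK LD1_c5 LD2_c35 LD3_c30)) :=
  Lgr Lrot47 (Lpr_gt (f238106 IH) (Lpr_af (K20.f317241 IH) (Lpe (K20.f189406 IH) (Lpn (LP (LK LD1_c5 LD2_c35 LD3_c30))))))
theorem f238107 : Led Lsl_ct (LP (LK LD1_c9 LD2_c0 LD3_c39)) = (LP (LK LD1_c16 LD2_c50 LD3_c14)) :=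
  Lre_c IH (LK LD1_c9 LD2_c0 LD3_c39) (LK LD1_c16 LD2_c50 LD3_c14) Lrfl Lrfl
theorem f326433 : Led Lsl_gf (LP (LK LD1_c9 LD2_c0 LD3_c46)) = (LP (LK LD1_c16 LD2_c50 LD3_c14)) :=
  Lgr Lrot104 (Lpe (K14.f235868 IH) (Lpr_df (K14.f235733 IH) (Lpe (K19.f235737 IH) (Lpr_gf (K19.f239121 IH) (Lpr_cf (K19.f298881 IH) (Lpr_gf (K21.f326429 IH) (Lpr_df (f317228 IH) (Lpe (f317251 IH) (Lpr_ct (f238107 IH) (Lpn (LP (LK LD1_c16 LD2_c50 LD3_c14))))))))))))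
theorem f298894 : Led Lsl_bt (LP (LK LD1_c8 LD2_c55 LD3_c45)) = (LP (LK LD1_c5 LD2_c27 LD3_c40)) :=
  Lgr Lrot127 (Lpr_bf (K20.f298892 IH) (Lpn (LP (LK LD1_c5 LD2_c27 LD3_c40))))
theorem f197610 : Led Lsl_ct (LP (LK LD1_c8 LD2_c55 LD3_c45)) = (LP (LK LD1_c16 LD2_c42 LD3_c53)) :=
  Lre_c IH (LK LD1_c8 LD2_c55 LD3_c45) (LK LD1_c16 LD2_c42 LD3_c53) Lrfl Lrfl
theorem f222306 : Led Lsl_bt (LP (LK LD1_c11 LD2_c2 LD3_c58)) = (LP (LK LD1_c5 LD2_c35 LD3_c30)) :=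
  Lre_b IH (LK LD1_c11 LD2_c2 LD3_c58) (LK LD1_c5 LD2_c35 LD3_c30) Lrfl Lrfl
theorem f222289 : Led Lsl_ft (LP (LK LD1_c10 LD2_c51 LD3_c10)) = (LP (LK LD1_c5 LD2_c29 LD3_c59)) :=
  Lre_f IH (LK LD1_c10 LD2_c51 LD3_c10) (LK LD1_c5 LD2_c29 LD3_c59) Lrfl Lrfl
theorem f222290 : Led Lsl_cf (LP (LK LD1_c10 LD2_c51 LD3_c10)) = (LP (LK LD1_c11 LD2_c2 LD3_c58)) :=
  Lgr Lrot108 (Lpr_ft (f222289 IH) (Lpr_ct (K21.f222281 IH) (Lpr_ft (K19.f189432 IH) (Lpn (LP (LK LD1_c11 LD2_c2 LD3_c58))))))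
theorem f326437 : Led Lsl_gt (LP (LK LD1_c16 LD2_c42 LD3_c53)) = (LP (LK LD1_c10 LD2_c51 LD3_c10)) :=
  Lgr Lrot65 (Lpe (f197610 IH) (Lpr_bt (f298894 IH) (Lpe (K20.f235804 IH) (Lpr_bf (K14.f235797 IH) (Lpr_ct (K14.f235905 IH) (Lpr_gf (f326433 IH) (Lpe (f238107 IH) (Lpr_gf (f317251 IH) (Lpe (f222306 IH) (Lpe (f222290 IH) (Lpn (LP (LK LD1_c10 LD2_c51 LD3_c10)))))))))))))
theorem f326440 : Led Lsl_bt (LP (LK LD1_c5 LD2_c38 LD3_c60)) = (LP (LK LD1_c9 LD2_c0 LD3_c39)) :=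
  Lgr Lrot92 (Lpr_ct (K18.f200455 IH) (Lpe (K18.f298887 IH) (Lpr_cf (K12.f228143 IH) (Lpr_bt (K12.f228042 IH) (Lpr_gt (K15.f197609 IH) (Lpr_ct (f197610 IH) (Lpr_gt (f326437 IH) (Lpr_cf (f222290 IH) (Lpr_bt (f222306 IH) (Lpe (f317251 IH) (Lpn (LP (LK LD1_c9 LD2_c0 LD3_c39)))))))))))))
theorem f238200 : Led Lsl_dt (LP (LK LD1_c9 LD2_c0 LD3_c39)) = (LP (LK LD1_c16 LD2_c50 LD3_c15)) :=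
  Lre_d IH (LK LD1_c9 LD2_c0 LD3_c39) (LK LD1_c16 LD2_c50 LD3_c15) Lrfl Lrfl
theorem f326444 : Led Lsl_bf (LP (LK LD1_c11 LD2_c8 LD3_c57)) = (LP (LK LD1_c16 LD2_c50 LD3_c15)) :=
  Lgr Lrot93 (Lpr_dt (K19.f200456 IH) (Lpr_bt (f326440 IH) (Lpr_dt (f238200 IH) (Lpn (LP (LK LD1_c16 LD2_c50 LD3_c15))))))
theorem f238099 : Led Lsl_df (LP (LK LD1_c4 LD2_c31 LD3_c22)) = (LP (LK LD1_c2 LD2_c23 LD3_c35)) :=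
  Lgr Lrot38 (Lpr_dt (K15.f238082 IH) (Lpn (LP (LK LD1_c2 LD2_c23 LD3_c35))))
theorem f238108 : Led Lsl_dt (LP (LK LD1_c16 LD2_c50 LD3_c15)) = (LP (LK LD1_c9 LD2_c0 LD3_c39)) :=
  Lre_d IH (LK LD1_c16 LD2_c50 LD3_c15) (LK LD1_c9 LD2_c0 LD3_c39) Lrfl Lrfl
theorem f170469 : Led Lsl_gt (LP (LK LD1_c4 LD2_c50 LD3_c57)) = (LP (LK LD1_c9 LD2_c33 LD3_c58)) :=
  Lre_g IH (LK LD1_c4 LD2_c50 LD3_c57) (LK LD1_c9 LD2_c33 LD3_c58) Lrfl Lrfl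
theorem f238198 : Led Lsl_et (LP (LK LD1_c16 LD2_c50 LD3_c15)) = (LP (LK LD1_c9 LD2_c33 LD3_c58)) :=
  Lgr Lrot122 (Lpr_dt (f238108 IH) (Lpr_gt (f238106 IH) (Lpr_df (f238099 IH) (Lpr_et (K15.f238081 IH) (Lpr_gt (K15.f238037 IH) (Lpr_dt (K13.f237806 IH) (Lpr_gt (K13.f236354 IH) (Lpe (K10.f33323 IH) (Lpr_et (K16.f33325 IH) (Lpr_gt (f170469 IH) (Lpn (LP (LK LD1_c9 LD2_c33 LD3_c58)))))))))))))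
theorem f238201 : Led Lsl_ef (LP (LK LD1_c16 LD2_c50 LD3_c15)) = (LP (LK LD1_c9 LD2_c33 LD3_c58)) :=
  Lgr Lrot88 (Lpr_et (f238198 IH) (Lpn (LP (LK LD1_c9 LD2_c33 LD3_c58))))
theorem f326459 : Led Lsl_bt (LP (LK LD1_c8 LD2_c1 LD3_c32)) = (LP (LK LD1_c9 LD2_c33 LD3_c58)) :=
  Lgr Lrot119 (Lpe (K21.f313440 IH) (Lpr_bf (f326444 IH) (Lpr_ef (f238201 IH) (Lpn (LP (LK LD1_c9 LD2_c33 LD3_c58))))))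
theorem f314588 : Led Lsl_et (LP (LK LD1_c8 LD2_c14 LD3_c22)) = (LP (LK LD1_c9 LD2_c43 LD3_c44)) :=
  Lgr Lrot87 (Lpr_ef (K19.f314583 IH) (Lpn (LP (LK LD1_c9 LD2_c43 LD3_c44))))
theorem f314591 : Led Lsl_ef (LP (LK LD1_c15 LD2_c30 LD3_c4)) = (LP (LK LD1_c15 LD2_c26 LD3_c2)) :=
  Lgr Lrot73 (Lpr_dt (K19.f314590 IH) (Lpr_et (f314588 IH) (Lpe (K19.f314581 IH) (Lpe (K19.f312200 IH) (Lpr_dt (K19.f237972 IH) (Lpn (LP (LK LD1_c15 LD2_c26 LD3_c2))))))))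
theorem f314598 : Led Lsl_gt (LP (LK LD1_c15 LD2_c30 LD3_c4)) = (LP (LK LD1_c16 LD2_c50 LD3_c15)) :=
  Lgr Lrot137 (Lpr_ef (f314591 IH) (Lpr_dt (K19.f237975 IH) (Lpe (K19.f237932 IH) (Lpe (K17.f237922 IH) (Lpr_et (K20.f237903 IH) (Lpe (K15.f238037 IH) (Lpe (K15.f238081 IH) (Lpe (f238099 IH) (Lpe (f238106 IH) (Lpe (f238108 IH) (Lpn (LP (LK LD1_c16 LD2_c50 LD3_c15)))))))))))))
theorem f239853 : Led Lsl_gt (LP (LK LD1_c10 LD2_c8 LD3_c10)) = (LP (LK LD1_c5 LD2_c8 LD3_c53)) :=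
  Lre_g IH (LK LD1_c10 LD2_c8 LD3_c10) (LK LD1_c5 LD2_c8 LD3_c53) Lrfl Lrfl
theorem f314606 : Led Lsl_ef (LP (LK LD1_c10 LD2_c8 LD3_c10)) = (LP (LK LD1_c9 LD2_c0 LD3_c39)) :=
  Lgr Lrot114 (Lpr_gt (f239853 IH) (Lpe (K14.f216376 IH) (Lpr_dt (K13.f191139 IH) (Lpe (K19.f313463 IH) (Lpr_df (K19.f313458 IH) (Lpr_et (K19.f313460 IH) (Lpr_gt (K19.f195474 IH) (Lpr_dt (K19.f195475 IH) (Lpr_gt (f314598 IH) (Lpe (f238200 IH) (Lpn (LP (LK LD1_c9 LD2_c0 LD3_c39)))))))))))))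
theorem f314612 : Led Lsl_et (LP (LK LD1_c10 LD2_c8 LD3_c10)) = (LP (LK LD1_c9 LD2_c0 LD3_c39)) :=
  Lgr Lrot87 (Lpr_ef (f314606 IH) (Lpn (LP (LK LD1_c9 LD2_c0 LD3_c39))))
theorem f193196 : Led Lsl_et (LP (LK LD1_c1 LD2_c57 LD3_c52)) = (LP (LK LD1_c4 LD2_c1 LD3_c51)) :=
  Lre_e IH (LK LD1_c1 LD2_c57 LD3_c52) (LK LD1_c4 LD2_c1 LD3_c51) Lrfl Lrfl
theorem f180807 : Led Lsl_gt (LP (LK LD1_c4 LD2_c1 LD3_c51)) = (LP (LK LD1_c8 LD2_c4 LD3_c19)) :=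
  Lre_g IH (LK LD1_c4 LD2_c1 LD3_c51) (LK LD1_c8 LD2_c4 LD3_c19) Lrfl Lrfl
theorem f193197 : Led Lsl_et (LP (LK LD1_c15 LD2_c11 LD3_c50)) = (LP (LK LD1_c8 LD2_c4 LD3_c19)) :=
  Lre_e IH (LK LD1_c15 LD2_c11 LD3_c50) (LK LD1_c8 LD2_c4 LD3_c19) Lrfl Lrfl
theorem f240355 : Led Lsl_dt (LP (LK LD1_c15 LD2_c11 LD3_c50)) = (LP (LK LD1_c10 LD2_c8 LD3_c10)) :=
  Lgr Lrot136 (Lpr_et (f193197 IH) (Lpe (f180807 IH) (Lpe (f193196 IH) (Lpe (K10.f192979 IH) (Lpr_gf (K12.f193261 IH) (Lpr_df (K13.f240292 IH) (Lpr_gf (K13.f240248 IH) (Lpe (K13.f239807 IH) (Lpr_dt (K14.f235386 IH) (Lpe (f239853 IH) (Lpn (LP (LK LD1_c10 LD2_c8 LD3_c10)))))))))))))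
theorem f240359 : Led Lsl_et (LP (LK LD1_c8 LD2_c4 LD3_c19)) = (LP (LK LD1_c15 LD2_c11 LD3_c50)) :=
  Lre_e IH (LK LD1_c8 LD2_c4 LD3_c19) (LK LD1_c15 LD2_c11 LD3_c50) Lrfl Lrfl
theorem f314616 : Led Lsl_df (LP (LK LD1_c8 LD2_c4 LD3_c19)) = (LP (LK LD1_c9 LD2_c33 LD3_c58)) :=
  Lgr Lrot70 (Lpr_et (f240359 IH) (Lpr_dt (f240355 IH) (Lpr_et (f314612 IH) (Lpr_dt (f238200 IH) (Lpr_et (f238198 IH) (Lpn (LP (LK LD1_c9 LD2_c33 LD3_c58))))))))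
theorem f326463 : Led Lsl_bf (LP (LK LD1_c9 LD2_c34 LD3_c39)) = (LP (LK LD1_c8 LD2_c4 LD3_c19)) :=
  Lgr Lrot93 (Lpr_dt (K21.f280227 IH) (Lpr_bt (f326459 IH) (Lpe (f314616 IH) (Lpn (LP (LK LD1_c8 LD2_c4 LD3_c19))))))
theorem f326465 : Led Lsl_bt (LP (LK LD1_c9 LD2_c34 LD3_c39)) = (LP (LK LD1_c8 LD2_c4 LD3_c19)) :=
  Lgr Lrot127 (Lpr_bf (f326463 IH) (Lpn (LP (LK LD1_c8 LD2_c4 LD3_c19))))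
theorem f314626 : Led Lsl_gt (LP (LK LD1_c8 LD2_c4 LD3_c19)) = (LP (LK LD1_c5 LD2_c9 LD3_c8)) :=
  Lgr Lrot139 (Lpr_df (f314616 IH) (Lpe (f170469 IH) (Lpe (K16.f33325 IH) (Lpr_dt (K10.f33323 IH) (Lpe (K13.f236354 IH) (Lpe (K13.f237806 IH) (Lpr_et (K14.f237907 IH) (Lpe (K18.f297991 IH) (Lpr_ef (K18.f296901 IH) (Lpr_dt (K17.f229550 IH) (Lpn (LP (LK LD1_c5 LD2_c9 LD3_c8)))))))))))))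
theorem f321767 : Led Lsl_cf (LP (LK LD1_c10 LD2_c30 LD3_c7)) = (LP (LK LD1_c10 LD2_c8 LD3_c38)) :=
  Lgr Lrot11 (Lpr_ct (K20.f321762 IH) (Lpn (LP (LK LD1_c10 LD2_c8 LD3_c38))))
theorem f327596 : Led Lsl_gf (LP (LK LD1_c10 LD2_c22 LD3_c34)) = (LP (LK LD1_c10 LD2_c30 LD3_c7)) :=
  Lgr Lrot126 (Lpe (f169391 IH) (Lpr_bt (K20.f321633 IH) (Lpe (K20.f311305 IH) (Lpr_ct (K21.f327587 IH) (Lpe (K21.f327594 IH) (Lpe (f191967 IH) (Lpr_bt (f326465 IH) (Lpr_gt (f314626 IH) (Lpe (K18.f229541 IH) (Lpe (f321767 IH) (Lpn (LP (LK LD1_c10 LD2_c30 LD3_c7)))))))))))))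
theorem f327598 : Led Lsl_gt (LP (LK LD1_c10 LD2_c22 LD3_c34)) = (LP (LK LD1_c5 LD2_c19 LD3_c33)) :=
  Lgr Lrot46 (Lpr_gf (f327596 IH) (Lpr_ft (K20.f321757 IH) (Lpr_at (K20.f321786 IH) (Lpn (LP (LK LD1_c5 LD2_c19 LD3_c33))))))
theorem f169416 : Led Lsl_ct (LP (LK LD1_c4 LD2_c16 LD3_c57)) = (LP (LK LD1_c8 LD2_c33 LD3_c19)) :=
  Lre_c IH (LK LD1_c4 LD2_c16 LD3_c57) (LK LD1_c8 LD2_c33 LD3_c19) Lrfl Lrfl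
theorem f266217 : Led Lsl_dt (LP (LK LD1_c14 LD2_c58 LD3_c9)) = (LP (LK LD1_c9 LD2_c40 LD3_c3)) :=
  Lgr Lrot44 (Lpe (K19.f229522 IH) (Lpr_df (K15.f229512 IH) (Lpr_af (K15.f266213 IH) (Lpn (LP (LK LD1_c9 LD2_c40 LD3_c3))))))
theorem f327602 : Led Lsl_gt (LP (LK LD1_c8 LD2_c33 LD3_c19)) = (LP (LK LD1_c16 LD2_c2 LD3_c48)) :=
  Lgr Lrot150 (Lpe (f169416 IH) (Lpe (K18.f184455 IH) (Lpe (K14.f248338 IH) (Lpe (K20.f316416 IH) (Lpr_ct (f169391 IH) (Lpr_gt (f327598 IH) (Lpr_ct (K17.f229990 IH) (Lpe (f266217 IH) (Lpe (K19.f309316 IH) (Lpn (LP (LK LD1_c16 LD2_c2 LD3_c48))))))))))))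
theorem f219955 : Led Lsl_gt (LP (LK LD1_c8 LD2_c6 LD3_c2)) = (LP (LK LD1_c15 LD2_c15 LD3_c3)) :=
  Lre_g IH (LK LD1_c8 LD2_c6 LD3_c2) (LK LD1_c15 LD2_c15 LD3_c3) Lrfl Lrfl
theorem f327614 : Led Lsl_bt (LP (LK LD1_c15 LD2_c42 LD3_c51)) = (LP (LK LD1_c15 LD2_c15 LD3_c3)) :=
  Lgr Lrot92 (Lpr_ct (K21.f230990 IH) (Lpr_gt (K21.f230989 IH) (Lpe (K21.f182255 IH) (Lpe (K12.f230981 IH) (Lpr_gt (K18.f184455 IH) (Lpr_ct (f169416 IH) (Lpr_gt (f327602 IH) (Lpr_cf (K19.f309318 IH) (Lpe (K17.f287006 IH) (Lpr_gt (f219955 IH) (Lpn (LP (LK LD1_c15 LD2_c15 LD3_c3)))))))))))))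
theorem f229504 : Led Lsl_gt (LP (LK LD1_c7 LD2_c56 LD3_c6)) = (LP (LK LD1_c14 LD2_c58 LD3_c11)) :=
  Lre_g IH (LK LD1_c7 LD2_c56 LD3_c6) (LK LD1_c14 LD2_c58 LD3_c11) Lrfl Lrfl
theorem f327484 : Led Lsl_et (LP (LK LD1_c15 LD2_c42 LD3_c51)) = (LP (LK LD1_c14 LD2_c58 LD3_c11)) :=
  Lgr Lrot122 (Lpr_dt (f327477 IH) (Lpr_gt (f43827 IH) (Lpe (K17.f282097 IH) (Lpr_et (K16.f270873 IH) (Lpe (K16.f270882 IH) (Lpr_dt (K12.f44497 IH) (Lpe (K12.f229485 IH) (Lpe (K14.f229502 IH) (Lpr_et (K19.f229503 IH) (Lpr_gt (f229504 IH) (Lpn (LP (LK LD1_c14 LD2_c58 LD3_c11)))))))))))))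
theorem f327488 : Led Lsl_ef (LP (LK LD1_c15 LD2_c42 LD3_c51)) = (LP (LK LD1_c14 LD2_c58 LD3_c11)) :=
  Lgr Lrot88 (Lpr_et (f327484 IH) (Lpn (LP (LK LD1_c14 LD2_c58 LD3_c11))))
theorem f170501 : Led Lsl_dt (LP (LK LD1_c8 LD2_c32 LD3_c7)) = (LP (LK LD1_c5 LD2_c0 LD3_c61)) :=
  Lgr Lrot42 (Lpr_df (K16.f170495 IH) (Lpn (LP (LK LD1_c5 LD2_c0 LD3_c61))))
theorem f170511 : Led Lsl_gt (LP (LK LD1_c9 LD2_c52 LD3_c25)) = (LP (LK LD1_c5 LD2_c0 LD3_c61)) :=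
  Lre_g IH (LK LD1_c9 LD2_c52 LD3_c25) (LK LD1_c5 LD2_c0 LD3_c61) Lrfl Lrfl
theorem f219958 : Led Lsl_df (LP (LK LD1_c9 LD2_c52 LD3_c25)) = (LP (LK LD1_c15 LD2_c15 LD3_c3)) :=
  Lgr Lrot135 (Lpr_gt (f170511 IH) (Lpe (f170501 IH) (Lpr_et (K16.f167287 IH) (Lpr_gt (K10.f184123 IH) (Lpr_ef (K21.f53845 IH) (Lpr_dt (K10.f44922 IH) (Lpr_gt (K12.f219945 IH) (Lpe (K12.f219939 IH) (Lpr_et (K18.f219954 IH) (Lpr_gt (f219955 IH) (Lpn (LP (LK LD1_c15 LD2_c15 LD3_c3)))))))))))))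
theorem f219967 : Led Lsl_ef (LP (LK LD1_c15 LD2_c51 LD3_c19)) = (LP (LK LD1_c15 LD2_c15 LD3_c3)) :=
  Lgr Lrot17 (Lpe (f188659 IH) (Lpe (K12.f188604 IH) (Lpr_dt (K13.f188595 IH) (Lpe (K12.f188729 IH) (Lpe (K12.f33446 IH) (Lpe (K10.f184123 IH) (Lpe (K16.f167287 IH) (Lpr_dt (f170501 IH) (Lpe (f170511 IH) (Lpr_df (f219958 IH) (Lpn (LP (LK LD1_c15 LD2_c15 LD3_c3)))))))))))))
theorem f327621 : Led Lsl_bf (LP (LK LD1_c14 LD2_c58 LD3_c11)) = (LP (LK LD1_c15 LD2_c51 LD3_c19)) :=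
  Lgr Lrot96 (Lpe (f327488 IH) (Lpr_bt (f327614 IH) (Lpe (f219967 IH) (Lpn (LP (LK LD1_c15 LD2_c51 LD3_c19))))))
theorem f327623 : Led Lsl_bt (LP (LK LD1_c14 LD2_c58 LD3_c11)) = (LP (LK LD1_c15 LD2_c51 LD3_c19)) :=
  Lgr Lrot127 (Lpr_bf (f327621 IH) (Lpn (LP (LK LD1_c15 LD2_c51 LD3_c19))))
theorem f287775 : Led Lsl_gt (LP (LK LD1_c4 LD2_c16 LD3_c55)) = (LP (LK LD1_c8 LD2_c33 LD3_c12)) :=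
  Lre_g IH (LK LD1_c4 LD2_c16 LD3_c55) (LK LD1_c8 LD2_c33 LD3_c12) Lrfl Lrfl
theorem f287776 : Led Lsl_dt (LP (LK LD1_c8 LD2_c33 LD3_c12)) = (LP (LK LD1_c16 LD2_c3 LD3_c23)) :=
  Lre_d IH (LK LD1_c8 LD2_c33 LD3_c12) (LK LD1_c16 LD2_c3 LD3_c23) Lrfl Lrfl
theorem f167484 : Led Lsl_ct (LP (LK LD1_c8 LD2_c34 LD3_c53)) = (LP (LK LD1_c4 LD2_c17 LD3_c61)) :=
  Lre_c IH (LK LD1_c8 LD2_c34 LD3_c53) (LK LD1_c4 LD2_c17 LD3_c61) Lrfl Lrfl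
theorem f167485 : Led Lsl_dt (LP (LK LD1_c16 LD2_c6 LD3_c5)) = (LP (LK LD1_c8 LD2_c34 LD3_c53)) :=
  Lre_d IH (LK LD1_c16 LD2_c6 LD3_c5) (LK LD1_c8 LD2_c34 LD3_c53) Lrfl Lrfl
theorem f316100 : Led Lsl_gt (LP (LK LD1_c16 LD2_c3 LD3_c23)) = (LP (LK LD1_c16 LD2_c6 LD3_c5)) :=
  Lgr Lrot49 (Lpe (f287776 IH) (Lpe (f287775 IH) (Lpe (K21.f169373 IH) (Lpr_gt (K20.f169386 IH) (Lpr_dt (K21.f169387 IH) (Lpr_gt (K21.f316096 IH) (Lpr_dt (K19.f299478 IH) (Lpe (f167484 IH) (Lpe (f167485 IH) (Lpn (LP (LK LD1_c16 LD2_c6 LD3_c5))))))))))))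
theorem f167536 : Led Lsl_dt (LP (LK LD1_c8 LD2_c34 LD3_c53)) = (LP (LK LD1_c16 LD2_c6 LD3_c5)) :=
  Lre_d IH (LK LD1_c8 LD2_c34 LD3_c53) (LK LD1_c16 LD2_c6 LD3_c5) Lrfl Lrfl
theorem f316108 : Led Lsl_et (LP (LK LD1_c8 LD2_c34 LD3_c53)) = (LP (LK LD1_c4 LD2_c17 LD3_c60)) :=
  Lre_e IH (LK LD1_c8 LD2_c34 LD3_c53) (LK LD1_c4 LD2_c17 LD3_c60) Lrfl Lrfl
theorem f316111 : Led Lsl_et (LP (LK LD1_c8 LD2_c33 LD3_c12)) = (LP (LK LD1_c8 LD2_c20 LD3_c54)) :=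
  Lgr Lrot122 (Lpr_dt (f287776 IH) (Lpr_gt (f316100 IH) (Lpe (f167536 IH) (Lpr_et (f316108 IH) (Lpe (K18.f300785 IH) (Lpr_dt (K17.f275445 IH) (Lpr_gt (K16.f178503 IH) (Lpe (K16.f178771 IH) (Lpr_et (K12.f231093 IH) (Lpr_gt (K20.f182232 IH) (Lpn (LP (LK LD1_c8 LD2_c20 LD3_c54)))))))))))))
theorem f327486 : Led Lsl_cf (LP (LK LD1_c8 LD2_c33 LD3_c12)) = (LP (LK LD1_c14 LD2_c58 LD3_c11)) :=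
  Lgr Lrot39 (Lpr_et (f316111 IH) (Lpr_ct (f182233 IH) (Lpr_et (f327484 IH) (Lpn (LP (LK LD1_c14 LD2_c58 LD3_c11))))))
theorem f333321 : Led Lsl_bt (LP (LK LD1_c4 LD2_c51 LD3_c17)) = (LP (LK LD1_c9 LD2_c34 LD3_c9)) :=
  Lre_b IH (LK LD1_c4 LD2_c51 LD3_c17) (LK LD1_c9 LD2_c34 LD3_c9) Lrfl Lrfl
theorem f328067 : Led Lsl_ct (LP (LK LD1_c4 LD2_c51 LD3_c17)) = (LP (LK LD1_c9 LD2_c34 LD3_c37)) :=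
  Lre_c IH (LK LD1_c4 LD2_c51 LD3_c17) (LK LD1_c9 LD2_c34 LD3_c37) Lrfl Lrfl
theorem f333328 : Led Lsl_gf (LP (LK LD1_c16 LD2_c3 LD3_c35)) = (LP (LK LD1_c9 LD2_c34 LD3_c37)) :=
  Lgr Lrot126 (Lpe (K21.f230991 IH) (Lpr_bt (K21.f169418 IH) (Lpr_gt (K18.f169398 IH) (Lpr_ct (K21.f169373 IH) (Lpr_gt (f287775 IH) (Lpr_cf (f327486 IH) (Lpr_bt (f327623 IH) (Lpr_gt (f333326 IH) (Lpe (f333321 IH) (Lpr_ct (f328067 IH) (Lpn (LP (LK LD1_c9 LD2_c34 LD3_c37)))))))))))))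
theorem f169341 : Led Lsl_ct (LP (LK LD1_c0 LD2_c59 LD3_c57)) = (LP (LK LD1_c2 LD2_c5 LD3_c54)) :=
  Lre_c IH (LK LD1_c0 LD2_c59 LD3_c57) (LK LD1_c2 LD2_c5 LD3_c54) Lrfl Lrfl
theorem f169419 : Led Lsl_ct (LP (LK LD1_c16 LD2_c3 LD3_c35)) = (LP (LK LD1_c8 LD2_c33 LD3_c18)) :=
  Lre_c IH (LK LD1_c16 LD2_c3 LD3_c35) (LK LD1_c8 LD2_c33 LD3_c18) Lrfl Lrfl
theorem f331429 : Led Lsl_cf (LP (LK LD1_c8 LD2_c4 LD3_c39)) = (LP (LK LD1_c10 LD2_c7 LD3_c47)) :=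
  Lgr Lrot11 (Lpr_ct (f331424 IH) (Lpn (LP (LK LD1_c10 LD2_c7 LD3_c47))))
theorem f327702 : Led Lsl_dt (LP (LK LD1_c5 LD2_c8 LD3_c41)) = (LP (LK LD1_c4 LD2_c12 LD3_c48)) :=
  Lgr Lrot42 (Lpr_df (K21.f327653 IH) (Lpn (LP (LK LD1_c4 LD2_c12 LD3_c48))))
theorem f333331 : Led Lsl_gt (LP (LK LD1_c4 LD2_c12 LD3_c48)) = (LP (LK LD1_c4 LD2_c51 LD3_c17)) :=
  Lgr Lrot9 (Lpe (f327702 IH) (Lpr_gt (K21.f33226 IH) (Lpr_ct (f33210 IH) (Lpr_gt (f190452 IH) (Lpe (f331429 IH) (Lpr_df (K21.f325920 IH) (Lpe (f169419 IH) (Lpr_gf (f333328 IH) (Lpe (f328067 IH) (Lpn (LP (LK LD1_c4 LD2_c51 LD3_c17))))))))))))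
theorem f333334 : Led Lsl_gt (LP (LK LD1_c2 LD2_c5 LD3_c54)) = (LP (LK LD1_c4 LD2_c12 LD3_c49)) :=
  Lgr Lrot65 (Lpe (f169341 IH) (Lpr_bt (K21.f169338 IH) (Lpe (K18.f169398 IH) (Lpe (K21.f169418 IH) (Lpr_ct (K21.f230991 IH) (Lpr_gf (f333328 IH) (Lpe (f328067 IH) (Lpe (f333331 IH) (Lpe (K21.f171725 IH) (Lpr_ct (f166716 IH) (Lpn (LP (LK LD1_c4 LD2_c12 LD3_c49)))))))))))))
theorem f185605 : Led Lsl_df (LP (LK LD1_c4 LD2_c17 LD3_c11)) = (LP (LK LD1_c4 LD2_c10 LD3_c35)) :=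
  Lgr Lrot38 (Lpr_dt (K20.f185597 IH) (Lpn (LP (LK LD1_c4 LD2_c10 LD3_c35))))
theorem f178566 : Led Lsl_et (LP (LK LD1_c2 LD2_c2 LD3_c31)) = (LP (LK LD1_c4 LD2_c10 LD3_c35)) :=
  Lre_e IH (LK LD1_c2 LD2_c2 LD3_c31) (LK LD1_c4 LD2_c10 LD3_c35) Lrfl Lrfl
theorem f185599 : Led Lsl_et (LP (LK LD1_c2 LD2_c32 LD3_c60)) = (LP (LK LD1_c2 LD2_c30 LD3_c6)) :=
  Lgr Lrot87 (Lpr_ef (K20.f185591 IH) (Lpn (LP (LK LD1_c2 LD2_c30 LD3_c6))))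
theorem f185611 : Led Lsl_dt (LP (LK LD1_c2 LD2_c5 LD3_c56)) = (LP (LK LD1_c2 LD2_c32 LD3_c60)) :=
  Lgr Lrot77 (Lpe (K20.f53391 IH) (Lpr_df (f185605 IH) (Lpe (f178566 IH) (Lpr_df (K20.f178560 IH) (Lpe (f185599 IH) (Lpn (LP (LK LD1_c2 LD2_c32 LD3_c60))))))))
theorem f171734 : Led Lsl_ct (LP (LK LD1_c4 LD2_c12 LD3_c49)) = (LP (LK LD1_c2 LD2_c3 LD3_c38)) :=
  Lre_c IH (LK LD1_c4 LD2_c12 LD3_c49) (LK LD1_c2 LD2_c3 LD3_c38) Lrfl Lrfl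
theorem f300128 : Led Lsl_ct (LP (LK LD1_c5 LD2_c10 LD3_c1)) = (LP (LK LD1_c2 LD2_c32 LD3_c4)) :=
  Lre_c IH (LK LD1_c5 LD2_c10 LD3_c1) (LK LD1_c2 LD2_c32 LD3_c4) Lrfl Lrfl
theorem f333336 : Led Lsl_gt (LP (LK LD1_c2 LD2_c32 LD3_c60)) = (LP (LK LD1_c2 LD2_c30 LD3_c8)) :=
  Lgr Lrot9 (Lpe (f185611 IH) (Lpr_gt (K20.f53390 IH) (Lpr_ct (f169341 IH) (Lpr_gt (f333334 IH) (Lpr_ct (f171734 IH) (Lpr_df (K19.f306977 IH) (Lpe (f300128 IH) (Lpe (f331418 IH) (Lpe (K18.f167462 IH) (Lpn (LP (LK LD1_c2 LD2_c30 LD3_c8))))))))))))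
theorem f27342 : Led Lsl_dt (LP (LK LD1_c2 LD2_c6 LD3_c33)) = (LP (LK LD1_c4 LD2_c18 LD3_c33)) :=
  Lre_d IH (LK LD1_c2 LD2_c6 LD3_c33) (LK LD1_c4 LD2_c18 LD3_c33) Lrfl Lrfl
theorem f185613 : Led Lsl_gf (LP (LK LD1_c4 LD2_c17 LD3_c11)) = (LP (LK LD1_c4 LD2_c18 LD3_c33)) :=
  Lgr Lrot134 (Lpr_df (f185605 IH) (Lpr_et (K20.f53449 IH) (Lpr_gt (K20.f53448 IH) (Lpe (K12.f520 IH) (Lpr_dt (K9.f519 IH) (Lpr_gt (K9.f53438 IH) (Lpe (K0.f27339 IH) (Lpr_et (K0.f514 IH) (Lpr_gt (K13.f536 IH) (Lpr_dt (f27342 IH) (Lpn (LP (LK LD1_c4 LD2_c18 LD3_c33)))))))))))))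
theorem f179781 : Led Lsl_dt (LP (LK LD1_c4 LD2_c17 LD3_c2)) = (LP (LK LD1_c6 LD2_c6 LD3_c15)) :=
  Lgr Lrot42 (Lpr_df (K13.f179778 IH) (Lpn (LP (LK LD1_c6 LD2_c6 LD3_c15))))
theorem f333341 : Led Lsl_gf (LP (LK LD1_c6 LD2_c6 LD3_c15)) = (LP (LK LD1_c4 LD2_c17 LD3_c58)) :=
  Lgr Lrot134 (Lpe (f179781 IH) (Lpr_et (K13.f179813 IH) (Lpe (f185613 IH) (Lpe (K20.f185596 IH) (Lpr_dt (f185611 IH) (Lpr_gt (f333336 IH) (Lpe (K18.f167444 IH) (Lpe (K18.f299444 IH) (Lpr_gt (K20.f320490 IH) (Lpr_dt (K20.f178857 IH) (Lpn (LP (LK LD1_c4 LD2_c17 LD3_c58)))))))))))))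
theorem f179810 : Led Lsl_dt (LP (LK LD1_c2 LD2_c59 LD3_c13)) = (LP (LK LD1_c4 LD2_c18 LD3_c34)) :=
  Lgr Lrot42 (Lpr_df (K13.f179806 IH) (Lpn (LP (LK LD1_c4 LD2_c18 LD3_c34))))
theorem f264671 : Led Lsl_dt (LP (LK LD1_c2 LD2_c40 LD3_c53)) = (LP (LK LD1_c5 LD2_c26 LD3_c5)) :=
  Lgr Lrot42 (Lpr_df (K21.f264669 IH) (Lpn (LP (LK LD1_c5 LD2_c26 LD3_c5))))
theorem f264662 : Led Lsl_et (LP (LK LD1_c1 LD2_c17 LD3_c7)) = (LP (LK LD1_c2 LD2_c40 LD3_c53)) :=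
  Lre_e IH (LK LD1_c1 LD2_c17 LD3_c7) (LK LD1_c2 LD2_c40 LD3_c53) Lrfl Lrfl
theorem f264676 : Led Lsl_df (LP (LK LD1_c2 LD2_c39 LD3_c27)) = (LP (LK LD1_c2 LD2_c39 LD3_c28)) :=
  Lgr Lrot70 (Lpr_et (K21.f264650 IH) (Lpe (K21.f264658 IH) (Lpr_et (f264662 IH) (Lpr_dt (f264671 IH) (Lpr_et (K21.f264673 IH) (Lpn (LP (LK LD1_c2 LD2_c39 LD3_c28))))))))
theorem f264680 : Led Lsl_gf (LP (LK LD1_c4 LD2_c30 LD3_c51)) = (LP (LK LD1_c5 LD2_c26 LD3_c5)) :=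
  Lgr Lrot138 (Lpr_dt (K20.f7659 IH) (Lpr_gt (K20.f183263 IH) (Lpe (K0.f7591 IH) (Lpr_et (K0.f8569 IH) (Lpr_gt (K9.f8441 IH) (Lpe (K15.f183253 IH) (Lpe (K15.f264627 IH) (Lpr_gt (K21.f264635 IH) (Lpr_df (f264676 IH) (Lpr_et (K21.f264656 IH) (Lpn (LP (LK LD1_c5 LD2_c26 LD3_c5)))))))))))))
theorem f333347 : Led Lsl_gt (LP (LK LD1_c4 LD2_c18 LD3_c34)) = (LP (LK LD1_c4 LD2_c11 LD3_c22)) :=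
  Lgr Lrot112 (Lpe (f179810 IH) (Lpr_et (K13.f179783 IH) (Lpr_gf (f333341 IH) (Lpr_ef (K20.f183276 IH) (Lpr_dt (K20.f7653 IH) (Lpr_gf (f264680 IH) (Lpe (f264671 IH) (Lpr_gf (K21.f264674 IH) (Lpe (K19.f181813 IH) (Lpe (K21.f167670 IH) (Lpn (LP (LK LD1_c4 LD2_c11 LD3_c22)))))))))))))
theorem f200256 : Led Lsl_bt (LP (LK LD1_c5 LD2_c12 LD3_c8)) = (LP (LK LD1_c2 LD2_c33 LD3_c0)) :=
  Lre_b IH (LK LD1_c5 LD2_c12 LD3_c8) (LK LD1_c2 LD2_c33 LD3_c0) Lrfl Lrfl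
theorem f200257 : Led Lsl_bt (LP (LK LD1_c2 LD2_c3 LD3_c2)) = (LP (LK LD1_c4 LD2_c11 LD3_c33)) :=
  Lre_b IH (LK LD1_c2 LD2_c3 LD3_c2) (LK LD1_c4 LD2_c11 LD3_c33) Lrfl Lrfl
theorem f200258 : Led Lsl_dt (LP (LK LD1_c2 LD2_c33 LD3_c0)) = (LP (LK LD1_c2 LD2_c3 LD3_c2)) :=
  Lgr Lrot79 (Lpe (f200256 IH) (Lpr_df (K19.f200249 IH) (Lpe (f200257 IH) (Lpn (LP (LK LD1_c2 LD2_c3 LD3_c2))))))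
theorem f200270 : Led Lsl_ft (LP (LK LD1_c1 LD2_c13 LD3_c25)) = (LP (LK LD1_c2 LD2_c33 LD3_c0)) :=
  Lre_f IH (LK LD1_c1 LD2_c13 LD3_c25) (LK LD1_c2 LD2_c33 LD3_c0) Lrfl Lrfl
theorem f200271 : Led Lsl_ft (LP (LK LD1_c2 LD2_c3 LD3_c2)) = (LP (LK LD1_c0 LD2_c58 LD3_c24)) :=
  Lre_f IH (LK LD1_c2 LD2_c3 LD3_c2) (LK LD1_c0 LD2_c58 LD3_c24) Lrfl Lrfl
theorem f200272 : Led Lsl_df (LP (LK LD1_c1 LD2_c13 LD3_c25)) = (LP (LK LD1_c0 LD2_c58 LD3_c24)) :=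
  Lgr Lrot78 (Lpr_ft (f200270 IH) (Lpr_dt (f200258 IH) (Lpr_ft (f200271 IH) (Lpn (LP (LK LD1_c0 LD2_c58 LD3_c24))))))
theorem f200286 : Led Lsl_gt (LP (LK LD1_c4 LD2_c17 LD3_c11)) = (LP (LK LD1_c4 LD2_c18 LD3_c33)) :=
  Lgr Lrot137 (Lpe (K20.f185596 IH) (Lpr_dt (f185611 IH) (Lpe (K20.f185588 IH) (Lpr_df (f200272 IH) (Lpr_et (K18.f1392 IH) (Lpr_gf (K9.f51540 IH) (Lpe (K0.f545 IH) (Lpr_dt (K0.f27326 IH) (Lpe (K13.f53393 IH) (Lpe (K13.f27344 IH) (Lpn (LP (LK LD1_c4 LD2_c18 LD3_c33)))))))))))))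
theorem f245907 : Led Lsl_dt (LP (LK LD1_c2 LD2_c41 LD3_c41)) = (LP (LK LD1_c5 LD2_c26 LD3_c42)) :=
  Lgr Lrot42 (Lpr_df (K20.f245903 IH) (Lpn (LP (LK LD1_c5 LD2_c26 LD3_c42))))
theorem f333351 : Led Lsl_gf (LP (LK LD1_c5 LD2_c26 LD3_c42)) = (LP (LK LD1_c2 LD2_c43 LD3_c30)) :=
  Lgr Lrot145 (Lpe (f245907 IH) (Lpr_et (K20.f322404 IH) (Lpr_gt (K20.f185607 IH) (Lpe (f185605 IH) (Lpr_gt (f200286 IH) (Lpe (f27342 IH) (Lpr_et (K13.f179812 IH) (Lpr_gt (f333347 IH) (Lpe (K19.f167672 IH) (Lpr_dt (K21.f181811 IH) (Lpn (LP (LK LD1_c2 LD2_c43 LD3_c30)))))))))))))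
theorem f200341 : Led Lsl_bt (LP (LK LD1_c4 LD2_c11 LD3_c33)) = (LP (LK LD1_c2 LD2_c3 LD3_c2)) :=
  Lre_b IH (LK LD1_c4 LD2_c11 LD3_c33) (LK LD1_c2 LD2_c3 LD3_c2) Lrfl Lrfl
theorem f310179 : Led Lsl_et (LP (LK LD1_c2 LD2_c3 LD3_c2)) = (LP (LK LD1_c2 LD2_c6 LD3_c17)) :=
  Lgr Lrot74 (Lpe (f200341 IH) (Lpr_ef (K19.f310169 IH) (Lpe (K19.f310178 IH) (Lpn (LP (LK LD1_c2 LD2_c6 LD3_c17))))))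
theorem f200268 : Led Lsl_df (LP (LK LD1_c2 LD2_c33 LD3_c0)) = (LP (LK LD1_c2 LD2_c3 LD3_c2)) :=
  Lgr Lrot38 (Lpr_dt (f200258 IH) (Lpn (LP (LK LD1_c2 LD2_c3 LD3_c2))))
theorem f333355 : Led Lsl_gt (LP (LK LD1_c2 LD2_c30 LD3_c6)) = (LP (LK LD1_c2 LD2_c33 LD3_c0)) :=
  Lgr Lrot112 (Lpe (K20.f178564 IH) (Lpr_et (f178566 IH) (Lpe (K20.f185607 IH) (Lpe (K20.f322404 IH) (Lpr_dt (f245907 IH) (Lpr_gf (f333351 IH) (Lpe (K21.f181811 IH) (Lpr_gf (K19.f310214 IH) (Lpe (f310179 IH) (Lpe (f200268 IH) (Lpn (LP (LK LD1_c2 LD2_c33 LD3_c0)))))))))))))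
theorem f231007 : Led Lsl_gf (LP (LK LD1_c2 LD2_c5 LD3_c56)) = (LP (LK LD1_c2 LD2_c2 LD3_c32)) :=
  Lgr Lrot47 (Lpr_gt (K20.f53390 IH) (Lpr_af (K12.f230996 IH) (Lpe (K12.f178590 IH) (Lpn (LP (LK LD1_c2 LD2_c2 LD3_c32))))))
theorem f169427 : Led Lsl_et (LP (LK LD1_c5 LD2_c16 LD3_c32)) = (LP (LK LD1_c2 LD2_c35 LD3_c0)) :=
  Lre_e IH (LK LD1_c5 LD2_c16 LD3_c32) (LK LD1_c2 LD2_c35 LD3_c0) Lrfl Lrfl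
theorem f185004 : Led Lsl_et (LP (LK LD1_c1 LD2_c13 LD3_c25)) = (LP (LK LD1_c0 LD2_c33 LD3_c61)) :=
  Lre_e IH (LK LD1_c1 LD2_c13 LD3_c25) (LK LD1_c0 LD2_c33 LD3_c61) Lrfl Lrfl
theorem f200274 : Led Lsl_ft (LP (LK LD1_c2 LD2_c33 LD3_c0)) = (LP (LK LD1_c1 LD2_c13 LD3_c25)) :=
  Lre_f IH (LK LD1_c2 LD2_c33 LD3_c0) (LK LD1_c1 LD2_c13 LD3_c25) Lrfl Lrfl
theorem f302149 : Led Lsl_ef (LP (LK LD1_c2 LD2_c33 LD3_c0)) = (LP (LK LD1_c2 LD2_c30 LD3_c29)) :=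
  Lgr Lrot21 (Lpr_ft (f200274 IH) (Lpr_et (f185004 IH) (Lpr_ft (K18.f302146 IH) (Lpr_et (K15.f165877 IH) (Lpr_ft (K18.f302148 IH) (Lpn (LP (LK LD1_c2 LD2_c30 LD3_c29))))))))
theorem f304253 : Led Lsl_dt (LP (LK LD1_c2 LD2_c30 LD3_c29)) = (LP (LK LD1_c4 LD2_c29 LD3_c23)) :=
  Lgr Lrot42 (Lpr_df (K18.f304248 IH) (Lpn (LP (LK LD1_c4 LD2_c29 LD3_c23))))
theorem f184947 : Led Lsl_gt (LP (LK LD1_c5 LD2_c13 LD3_c24)) = (LP (LK LD1_c2 LD2_c33 LD3_c32)) :=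
  Lre_g IH (LK LD1_c5 LD2_c13 LD3_c24) (LK LD1_c2 LD2_c33 LD3_c32) Lrfl Lrfl
theorem f304267 : Led Lsl_gf (LP (LK LD1_c5 LD2_c13 LD3_c24)) = (LP (LK LD1_c4 LD2_c29 LD3_c23)) :=
  Lgr Lrot47 (Lpr_gt (f184947 IH) (Lpr_af (K19.f302784 IH) (Lpr_ff (K20.f304263 IH) (Lpn (LP (LK LD1_c4 LD2_c29 LD3_c23))))))
theorem f333361 : Led Lsl_dt (LP (LK LD1_c5 LD2_c16 LD3_c32)) = (LP (LK LD1_c5 LD2_c13 LD3_c24)) :=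
  Lgr Lrot37 (Lpr_et (f169427 IH) (Lpe (K20.f307923 IH) (Lpe (K9.f178588 IH) (Lpe (f231007 IH) (Lpe (K20.f185589 IH) (Lpr_et (f185599 IH) (Lpr_gt (f333355 IH) (Lpr_ef (f302149 IH) (Lpr_dt (f304253 IH) (Lpe (f304267 IH) (Lpn (LP (LK LD1_c5 LD2_c13 LD3_c24)))))))))))))
theorem f170010 : Led Lsl_ft (LP (LK LD1_c1 LD2_c14 LD3_c28)) = (LP (LK LD1_c2 LD2_c34 LD3_c59)) :=
  Lre_f IH (LK LD1_c1 LD2_c14 LD3_c28) (LK LD1_c2 LD2_c34 LD3_c59) Lrfl Lrfl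
theorem f267831 : Led Lsl_et (LP (LK LD1_c2 LD2_c34 LD3_c59)) = (LP (LK LD1_c2 LD2_c35 LD3_c59)) :=
  Lgr Lrot69 (Lpe (f170010 IH) (Lpe (K14.f170042 IH) (Lpr_ff (K15.f267827 IH) (Lpe (K20.f32915 IH) (Lpe (K9.f178549 IH) (Lpn (LP (LK LD1_c2 LD2_c35 LD3_c59))))))))
theorem f304239 : Led Lsl_gf (LP (LK LD1_c2 LD2_c30 LD3_c29)) = (LP (LK LD1_c2 LD2_c33 LD3_c31)) :=
  Lgr Lrot47 (Lpr_gt (K18.f304237 IH) (Lpr_af (K15.f261763 IH) (Lpe (K15.f261816 IH) (Lpn (LP (LK LD1_c2 LD2_c33 LD3_c31))))))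
theorem f276140 : Led Lsl_ef (LP (LK LD1_c2 LD2_c33 LD3_c31)) = (LP (LK LD1_c5 LD2_c12 LD3_c13)) :=
  Lgr Lrot20 (Lpr_at (K18.f261807 IH) (Lpr_et (K16.f276115 IH) (Lpe (K15.f264311 IH) (Lpn (LP (LK LD1_c5 LD2_c12 LD3_c13))))))
theorem f333366 : Led Lsl_dt (LP (LK LD1_c2 LD2_c34 LD3_c59)) = (LP (LK LD1_c2 LD2_c59 LD3_c5)) :=
  Lgr Lrot136 (Lpr_et (f267831 IH) (Lpr_gf (K20.f307923 IH) (Lpe (f169427 IH) (Lpr_dt (f333361 IH) (Lpr_gf (f304267 IH) (Lpe (f304253 IH) (Lpr_gf (f304239 IH) (Lpr_ef (f276140 IH) (Lpr_dt (K12.f185650 IH) (Lpr_gf (K20.f264358 IH) (Lpn (LP (LK LD1_c2 LD2_c59 LD3_c5)))))))))))))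
theorem f165951 : Led Lsl_gt (LP (LK LD1_c2 LD2_c35 LD3_c1)) = (LP (LK LD1_c1 LD2_c14 LD3_c30)) :=
  Lre_g IH (LK LD1_c2 LD2_c35 LD3_c1) (LK LD1_c1 LD2_c14 LD3_c30) Lrfl Lrfl
theorem f307919 : Led Lsl_gt (LP (LK LD1_c2 LD2_c35 LD3_c59)) = (LP (LK LD1_c2 LD2_c35 LD3_c1)) :=
  Lgr Lrot5 (Lpr_ft (K9.f178549 IH) (Lpr_at (K19.f307678 IH) (Lpe (f165951 IH) (Lpn (LP (LK LD1_c2 LD2_c35 LD3_c1))))))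
theorem f333370 : Led Lsl_ef (LP (LK LD1_c2 LD2_c35 LD3_c1)) = (LP (LK LD1_c2 LD2_c35 LD3_c52)) :=
  Lgr Lrot17 (Lpe (f307919 IH) (Lpe (f267831 IH) (Lpr_dt (f333366 IH) (Lpe (K20.f169476 IH) (Lpr_df (K9.f169455 IH) (Lpe (K20.f169475 IH) (Lpr_ef (K21.f309707 IH) (Lpe (K21.f195709 IH) (Lpe (K21.f309714 IH) (Lpe (K21.f185443 IH) (Lpn (LP (LK LD1_c2 LD2_c35 LD3_c52)))))))))))))
theorem f167456 : Led Lsl_et (LP (LK LD1_c2 LD2_c30 LD3_c1)) = (LP (LK LD1_c1 LD2_c12 LD3_c0)) :=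
  Lre_e IH (LK LD1_c2 LD2_c30 LD3_c1) (LK LD1_c1 LD2_c12 LD3_c0) Lrfl Lrfl
theorem f167432 : Led Lsl_gt (LP (LK LD1_c2 LD2_c6 LD3_c24)) = (LP (LK LD1_c1 LD2_c0 LD3_c11)) :=
  Lre_g IH (LK LD1_c2 LD2_c6 LD3_c24) (LK LD1_c1 LD2_c0 LD3_c11) Lrfl Lrfl
theorem f333368 : Led Lsl_dt (LP (LK LD1_c2 LD2_c35 LD3_c1)) = (LP (LK LD1_c2 LD2_c6 LD3_c24)) :=
  Lgr Lrot171 (Lpe (f307919 IH) (Lpe (f267831 IH) (Lpr_dt (f333366 IH) (Lpe (K20.f169476 IH) (Lpr_df (K9.f169455 IH) (Lpr_et (f167456 IH) (Lpe (K9.f165227 IH) (Lpe (K18.f165226 IH) (Lpe (K18.f167427 IH) (Lpe (f167432 IH) (Lpn (LP (LK LD1_c2 LD2_c6 LD3_c24)))))))))))))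
theorem f179760 : Led Lsl_dt (LP (LK LD1_c2 LD2_c2 LD3_c53)) = (LP (LK LD1_c4 LD2_c11 LD3_c21)) :=
  Lre_d IH (LK LD1_c2 LD2_c2 LD3_c53) (LK LD1_c4 LD2_c11 LD3_c21) Lrfl Lrfl
theorem f333376 : Led Lsl_et (LP (LK LD1_c2 LD2_c6 LD3_c24)) = (LP (LK LD1_c2 LD2_c2 LD3_c53)) :=
  Lgr Lrot71 (Lpe (f333368 IH) (Lpr_ef (f333370 IH) (Lpe (K21.f309718 IH) (Lpr_ef (K21.f309723 IH) (Lpe (f179760 IH) (Lpn (LP (LK LD1_c2 LD2_c2 LD3_c53))))))))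
theorem f333393 : Led Lsl_dt (LP (LK LD1_c2 LD2_c6 LD3_c24)) = (LP (LK LD1_c2 LD2_c35 LD3_c1)) :=
  Lgr Lrot136 (Lpr_et (f333376 IH) (Lpe (K20.f167685 IH) (Lpe (K16.f167676 IH) (Lpr_dt (K13.f171159 IH) (Lpe (K9.f179728 IH) (Lpe (K9.f167641 IH) (Lpe (K9.f500 IH) (Lpe (K10.f167621 IH) (Lpr_dt (K20.f169342 IH) (Lpe (f165951 IH) (Lpn (LP (LK LD1_c2 LD2_c35 LD3_c1)))))))))))))
theorem f310186 : Led Lsl_df (LP (LK LD1_c2 LD2_c11 LD3_c46)) = (LP (LK LD1_c2 LD2_c6 LD3_c17)) :=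
  Lgr Lrot12 (Lpe (K20.f304287 IH) (Lpr_dt (K19.f310181 IH) (Lpr_bt (K20.f310185 IH) (Lpn (LP (LK LD1_c2 LD2_c6 LD3_c17))))))
theorem f300678 : Led Lsl_et (LP (LK LD1_c2 LD2_c33 LD3_c0)) = (LP (LK LD1_c2 LD2_c30 LD3_c29)) :=
  Lgr Lrot74 (Lpe (f200256 IH) (Lpr_ef (K18.f300673 IH) (Lpe (K20.f300677 IH) (Lpn (LP (LK LD1_c2 LD2_c30 LD3_c29))))))
theorem f310208 : Led Lsl_ef (LP (LK LD1_c2 LD2_c3 LD3_c2)) = (LP (LK LD1_c2 LD2_c6 LD3_c17)) :=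
  Lgr Lrot73 (Lpe (f200268 IH) (Lpr_et (f300678 IH) (Lpr_dt (f304253 IH) (Lpr_et (K18.f304247 IH) (Lpr_dt (K19.f310194 IH) (Lpn (LP (LK LD1_c2 LD2_c6 LD3_c17))))))))
theorem f333429 : Led Lsl_gf (LP (LK LD1_c2 LD2_c6 LD3_c24)) = (LP (LK LD1_c2 LD2_c3 LD3_c2)) :=
  Lgr Lrot138 (Lpr_dt (f333393 IH) (Lpr_gt (f165951 IH) (Lpe (K20.f169342 IH) (Lpr_et (K10.f167621 IH) (Lpr_gt (K9.f500 IH) (Lpe (K19.f167661 IH) (Lpr_dt (K12.f167646 IH) (Lpr_gt (K18.f167681 IH) (Lpr_df (f310186 IH) (Lpe (f310208 IH) (Lpn (LP (LK LD1_c2 LD2_c3 LD3_c2)))))))))))))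
theorem f333378 : Led Lsl_et (LP (LK LD1_c2 LD2_c35 LD3_c1)) = (LP (LK LD1_c2 LD2_c35 LD3_c52)) :=
  Lgr Lrot87 (Lpr_ef (f333370 IH) (Lpn (LP (LK LD1_c2 LD2_c35 LD3_c52))))
theorem f333432 : Led Lsl_gt (LP (LK LD1_c2 LD2_c35 LD3_c52)) = (LP (LK LD1_c2 LD2_c34 LD3_c59)) :=
  Lgr Lrot137 (Lpe (f333378 IH) (Lpr_dt (f333368 IH) (Lpr_gf (f333429 IH) (Lpe (f200258 IH) (Lpr_et (f300678 IH) (Lpr_gf (f304239 IH) (Lpr_ef (f276140 IH) (Lpr_dt (K12.f185650 IH) (Lpr_gf (K20.f264358 IH) (Lpe (f333366 IH) (Lpn (LP (LK LD1_c2 LD2_c34 LD3_c59)))))))))))))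
theorem f333373 : Led Lsl_bt (LP (LK LD1_c5 LD2_c18 LD3_c26)) = (LP (LK LD1_c2 LD2_c35 LD3_c52)) :=
  Lre_b IH (LK LD1_c5 LD2_c18 LD3_c26) (LK LD1_c2 LD2_c35 LD3_c52) Lrfl Lrfl
theorem f333435 : Led Lsl_ct (LP (LK LD1_c5 LD2_c18 LD3_c26)) = (LP (LK LD1_c10 LD2_c26 LD3_c37)) :=
  Lre_c IH (LK LD1_c5 LD2_c18 LD3_c26) (LK LD1_c10 LD2_c26 LD3_c37) Lrfl Lrfl
theorem f169572 : Led Lsl_et (LP (LK LD1_c1 LD2_c11 LD3_c50)) = (LP (LK LD1_c2 LD2_c29 LD3_c31)) :=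
  Lre_e IH (LK LD1_c1 LD2_c11 LD3_c50) (LK LD1_c2 LD2_c29 LD3_c31) Lrfl Lrfl
theorem f169573 : Led Lsl_cf (LP (LK LD1_c1 LD2_c14 LD3_c28)) = (LP (LK LD1_c2 LD2_c29 LD3_c31)) :=
  Lgr Lrot39 (Lpr_et (K14.f32815 IH) (Lpr_ct (K9.f169438 IH) (Lpr_et (f169572 IH) (Lpn (LP (LK LD1_c2 LD2_c29 LD3_c31))))))
theorem f170012 : Led Lsl_ct (LP (LK LD1_c2 LD2_c34 LD3_c59)) = (LP (LK LD1_c5 LD2_c4 LD3_c11)) :=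
  Lgr Lrot40 (Lpe (f170010 IH) (Lpr_cf (f169573 IH) (Lpe (K15.f170011 IH) (Lpn (LP (LK LD1_c5 LD2_c4 LD3_c11))))))
theorem f326931 : Led Lsl_gt (LP (LK LD1_c5 LD2_c4 LD3_c11)) = (LP (LK LD1_c5 LD2_c10 LD3_c50)) :=
  Lgr Lrot5 (Lpr_ft (K15.f170011 IH) (Lpr_at (K15.f267961 IH) (Lpr_gf (K21.f326926 IH) (Lpn (LP (LK LD1_c5 LD2_c10 LD3_c50))))))
theorem f333436 : Led Lsl_gf (LP (LK LD1_c10 LD2_c26 LD3_c37)) = (LP (LK LD1_c10 LD2_c8 LD3_c16)) :=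
  Lgr Lrot126 (Lpe (f333435 IH) (Lpr_bt (f333373 IH) (Lpr_gt (f333432 IH) (Lpr_ct (f170012 IH) (Lpr_gt (f326931 IH) (Lpe (K21.f326899 IH) (Lpe (K21.f326897 IH) (Lpr_gt (K21.f287225 IH) (Lpe (K17.f286317 IH) (Lpr_ct (K17.f286321 IH) (Lpn (LP (LK LD1_c10 LD2_c8 LD3_c16)))))))))))))
theorem f333438 : Led Lsl_gt (LP (LK LD1_c10 LD2_c26 LD3_c37)) = (LP (LK LD1_c10 LD2_c21 LD3_c30)) :=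
  Lgr Lrot46 (Lpr_gf (f333436 IH) (Lpr_ft (K17.f286333 IH) (Lpr_at (K17.f286382 IH) (Lpn (LP (LK LD1_c10 LD2_c21 LD3_c30))))))
theorem f185432 : Led Lsl_bt (LP (LK LD1_c2 LD2_c35 LD3_c51)) = (LP (LK LD1_c1 LD2_c14 LD3_c58)) :=
  Lre_b IH (LK LD1_c2 LD2_c35 LD3_c51) (LK LD1_c1 LD2_c14 LD3_c58) Lrfl Lrfl
theorem f185486 : Led Lsl_ct (LP (LK LD1_c2 LD2_c35 LD3_c51)) = (LP (LK LD1_c5 LD2_c18 LD3_c22)) :=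
  Lre_c IH (LK LD1_c2 LD2_c35 LD3_c51) (LK LD1_c5 LD2_c18 LD3_c22) Lrfl Lrfl
theorem f185571 : Led Lsl_gt (LP (LK LD1_c10 LD2_c26 LD3_c29)) = (LP (LK LD1_c5 LD2_c18 LD3_c22)) :=
  Lre_g IH (LK LD1_c10 LD2_c26 LD3_c29) (LK LD1_c5 LD2_c18 LD3_c22) Lrfl Lrfl
theorem f235477 : Led Lsl_bt (LP (LK LD1_c11 LD2_c2 LD3_c34)) = (LP (LK LD1_c19 LD2_c53 LD3_c53)) :=
  Lre_b IH (LK LD1_c11 LD2_c2 LD3_c34) (LK LD1_c19 LD2_c53 LD3_c53) Lrfl Lrfl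
theorem f212820 : Led Lsl_ct (LP (LK LD1_c15 LD2_c41 LD3_c49)) = (LP (LK LD1_c8 LD2_c20 LD3_c22)) :=
  Lre_c IH (LK LD1_c15 LD2_c41 LD3_c49) (LK LD1_c8 LD2_c20 LD3_c22) Lrfl Lrfl
theorem f275571 : Led Lsl_bf (LP (LK LD1_c5 LD2_c35 LD3_c13)) = (LP (LK LD1_c8 LD2_c20 LD3_c22)) :=
  Lgr Lrot90 (Lpr_ct (K17.f235450 IH) (Lpr_bt (f235477 IH) (Lpr_ct (K16.f275568 IH) (Lpr_bt (K16.f275560 IH) (Lpr_ct (f212820 IH) (Lpn (LP (LK LD1_c8 LD2_c20 LD3_c22))))))))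
theorem f183506 : Led Lsl_bt (LP (LK LD1_c8 LD2_c13 LD3_c37)) = (LP (LK LD1_c15 LD2_c28 LD3_c28)) :=
  Lre_b IH (LK LD1_c8 LD2_c13 LD3_c37) (LK LD1_c15 LD2_c28 LD3_c28) Lrfl Lrfl
theorem f54468 : Led Lsl_bt (LP (LK LD1_c8 LD2_c29 LD3_c8)) = (LP (LK LD1_c4 LD2_c15 LD3_c5)) :=
  Lre_b IH (LK LD1_c8 LD2_c29 LD3_c8) (LK LD1_c4 LD2_c15 LD3_c5) Lrfl Lrfl
theorem f183524 : Led Lsl_ft (LP (LK LD1_c15 LD2_c28 LD3_c28)) = (LP (LK LD1_c8 LD2_c29 LD3_c8)) :=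
  Lgr Lrot75 (Lpe (f183506 IH) (Lpr_ff (K10.f183522 IH) (Lpe (f54468 IH) (Lpn (LP (LK LD1_c8 LD2_c29 LD3_c8))))))
theorem f45664 : Led Lsl_ct (LP (LK LD1_c8 LD2_c29 LD3_c8)) = (LP (LK LD1_c4 LD2_c15 LD3_c15)) :=
  Lre_c IH (LK LD1_c8 LD2_c29 LD3_c8) (LK LD1_c4 LD2_c15 LD3_c15) Lrfl Lrfl
theorem f45329 : Led Lsl_ft (LP (LK LD1_c4 LD2_c15 LD3_c15)) = (LP (LK LD1_c8 LD2_c29 LD3_c29)) :=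
  Lre_f IH (LK LD1_c4 LD2_c15 LD3_c15) (LK LD1_c8 LD2_c29 LD3_c29) Lrfl Lrfl
theorem f183529 : Led Lsl_cf (LP (LK LD1_c15 LD2_c28 LD3_c28)) = (LP (LK LD1_c8 LD2_c29 LD3_c29)) :=
  Lgr Lrot108 (Lpr_ft (f183524 IH) (Lpr_ct (f45664 IH) (Lpr_ft (f45329 IH) (Lpn (LP (LK LD1_c8 LD2_c29 LD3_c29))))))
theorem f183537 : Led Lsl_et (LP (LK LD1_c15 LD2_c28 LD3_c28)) = (LP (LK LD1_c25 LD2_c20 LD3_c41)) :=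
  Lre_e IH (LK LD1_c15 LD2_c28 LD3_c28) (LK LD1_c25 LD2_c20 LD3_c41) Lrfl Lrfl
theorem f45594 : Led Lsl_et (LP (LK LD1_c15 LD2_c56 LD3_c39)) = (LP (LK LD1_c8 LD2_c29 LD3_c29)) :=
  Lre_e IH (LK LD1_c15 LD2_c56 LD3_c39) (LK LD1_c8 LD2_c29 LD3_c29) Lrfl Lrfl
theorem f183538 : Led Lsl_ct (LP (LK LD1_c25 LD2_c20 LD3_c41)) = (LP (LK LD1_c15 LD2_c56 LD3_c39)) :=
  Lgr Lrot15 (Lpe (f183537 IH) (Lpr_cf (f183529 IH) (Lpe (f45594 IH) (Lpn (LP (LK LD1_c15 LD2_c56 LD3_c39))))))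
theorem f183544 : Led Lsl_bt (LP (LK LD1_c15 LD2_c28 LD3_c29)) = (LP (LK LD1_c25 LD2_c20 LD3_c41)) :=
  Lre_b IH (LK LD1_c15 LD2_c28 LD3_c29) (LK LD1_c25 LD2_c20 LD3_c41) Lrfl Lrfl
theorem f45531 : Led Lsl_bt (LP (LK LD1_c15 LD2_c56 LD3_c39)) = (LP (LK LD1_c8 LD2_c29 LD3_c33)) :=
  Lre_b IH (LK LD1_c15 LD2_c56 LD3_c39) (LK LD1_c8 LD2_c29 LD3_c33) Lrfl Lrfl
theorem f183545 : Led Lsl_cf (LP (LK LD1_c15 LD2_c28 LD3_c29)) = (LP (LK LD1_c8 LD2_c29 LD3_c10)) :=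
  Lgr Lrot97 (Lpr_bt (f183544 IH) (Lpr_ct (f183538 IH) (Lpr_bt (f45531 IH) (Lpr_ct (K15.f45601 IH) (Lpr_bt (K10.f45597 IH) (Lpn (LP (LK LD1_c8 LD2_c29 LD3_c10))))))))
theorem f41347 : Led Lsl_ct (LP (LK LD1_c7 LD2_c58 LD3_c42)) = (LP (LK LD1_c15 LD2_c3 LD3_c11)) :=
  Lre_c IH (LK LD1_c7 LD2_c58 LD3_c42) (LK LD1_c15 LD2_c3 LD3_c11) Lrfl Lrfl
theorem f324013 : Led Lsl_gf (LP (LK LD1_c15 LD2_c28 LD3_c29)) = (LP (LK LD1_c15 LD2_c3 LD3_c11)) :=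
  Lgr Lrot129 (Lpr_cf (f183545 IH) (Lpr_bt (K10.f45602 IH) (Lpr_gt (K21.f323961 IH) (Lpe (K21.f183299 IH) (Lpr_ct (K20.f7656 IH) (Lpe (K20.f320502 IH) (Lpe (K9.f173551 IH) (Lpr_bt (K1.f41325 IH) (Lpr_gt (K14.f41344 IH) (Lpr_ct (f41347 IH) (Lpn (LP (LK LD1_c15 LD2_c3 LD3_c11)))))))))))))
theorem f31243 : Led Lsl_ct (LP (LK LD1_c16 LD2_c12 LD3_c58)) = (LP (LK LD1_c8 LD2_c39 LD3_c29)) :=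
  Lre_c IH (LK LD1_c16 LD2_c12 LD3_c58) (LK LD1_c8 LD2_c39 LD3_c29) Lrfl Lrfl
theorem f183568 : Led Lsl_at (LP (LK LD1_c15 LD2_c28 LD3_c29)) = (LP (LK LD1_c16 LD2_c12 LD3_c58)) :=
  Lgr Lrot107 (Lpr_cf (f183545 IH) (Lpe (K11.f54285 IH) (Lpe (f31243 IH) (Lpn (LP (LK LD1_c16 LD2_c12 LD3_c58))))))
theorem f183572 : Led Lsl_af (LP (LK LD1_c15 LD2_c28 LD3_c29)) = (LP (LK LD1_c16 LD2_c12 LD3_c58)) :=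
  Lgr Lrot0 (Lpr_at (f183568 IH) (Lpn (LP (LK LD1_c16 LD2_c12 LD3_c58))))
theorem f31249 : Led Lsl_bt (LP (LK LD1_c16 LD2_c12 LD3_c58)) = (LP (LK LD1_c26 LD2_c9 LD3_c47)) :=
  Lre_b IH (LK LD1_c16 LD2_c12 LD3_c58) (LK LD1_c26 LD2_c9 LD3_c47) Lrfl Lrfl
theorem f275561 : Led Lsl_ff (LP (LK LD1_c16 LD2_c12 LD3_c58)) = (LP (LK LD1_c15 LD2_c41 LD3_c49)) :=
  Lgr Lrot25 (Lpr_bt (f31249 IH) (Lpr_ft (K16.f275557 IH) (Lpr_bt (K16.f275560 IH) (Lpn (LP (LK LD1_c15 LD2_c41 LD3_c49))))))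
theorem f324015 : Led Lsl_gt (LP (LK LD1_c15 LD2_c41 LD3_c49)) = (LP (LK LD1_c15 LD2_c3 LD3_c11)) :=
  Lgr Lrot5 (Lpe (f275561 IH) (Lpe (f183572 IH) (Lpr_gf (f324013 IH) (Lpn (LP (LK LD1_c15 LD2_c3 LD3_c11))))))
theorem f320510 : Led Lsl_bt (LP (LK LD1_c7 LD2_c58 LD3_c42)) = (LP (LK LD1_c15 LD2_c3 LD3_c10)) :=
  Lre_b IH (LK LD1_c7 LD2_c58 LD3_c42) (LK LD1_c15 LD2_c3 LD3_c10) Lrfl Lrfl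
theorem f224546 : Led Lsl_af (LP (LK LD1_c2 LD2_c38 LD3_c36)) = (LP (LK LD1_c5 LD2_c20 LD3_c43)) :=
  Lgr Lrot117 (Lpr_dt (K12.f217725 IH) (Lpe (K12.f223797 IH) (Lpr_dt (K12.f224542 IH) (Lpn (LP (LK LD1_c5 LD2_c20 LD3_c43))))))
theorem f196857 : Led Lsl_et (LP (LK LD1_c2 LD2_c38 LD3_c36)) = (LP (LK LD1_c5 LD2_c24 LD3_c8)) :=
  Lre_e IH (LK LD1_c2 LD2_c38 LD3_c36) (LK LD1_c5 LD2_c24 LD3_c8) Lrfl Lrfl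
theorem f224580 : Led Lsl_at (LP (LK LD1_c5 LD2_c24 LD3_c8)) = (LP (LK LD1_c10 LD2_c31 LD3_c30)) :=
  Lgr Lrot80 (Lpe (f196857 IH) (Lpr_af (f224546 IH) (Lpe (K20.f224444 IH) (Lpn (LP (LK LD1_c10 LD2_c31 LD3_c30))))))
theorem f224592 : Led Lsl_gt (LP (LK LD1_c10 LD2_c33 LD3_c46)) = (LP (LK LD1_c5 LD2_c25 LD3_c47)) :=
  Lgr Lrot5 (Lpr_ft (K10.f196858 IH) (Lpr_at (f224580 IH) (Lpe (K20.f224557 IH) (Lpn (LP (LK LD1_c5 LD2_c25 LD3_c47))))))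
theorem f329866 : Led Lsl_gt (LP (LK LD1_c15 LD2_c3 LD3_c10)) = (LP (LK LD1_c9 LD2_c33 LD3_c22)) :=
  Lgr Lrot82 (Lpe (f320510 IH) (Lpr_ct (f41347 IH) (Lpe (f324015 IH) (Lpe (K16.f212822 IH) (Lpe (f275571 IH) (Lpr_gf (K21.f329837 IH) (Lpe (K20.f224567 IH) (Lpr_ct (K20.f41506 IH) (Lpe (f224592 IH) (Lpr_cf (K19.f189331 IH) (Lpn (LP (LK LD1_c9 LD2_c33 LD3_c22)))))))))))))
theorem f329870 : Led Lsl_gf (LP (LK LD1_c15 LD2_c3 LD3_c10)) = (LP (LK LD1_c9 LD2_c41 LD3_c6)) :=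
  Lgr Lrot47 (Lpr_gt (f329866 IH) (Lpe (K12.f195938 IH) (Lpr_ff (K12.f224216 IH) (Lpn (LP (LK LD1_c9 LD2_c41 LD3_c6))))))
theorem f320517 : Led Lsl_et (LP (LK LD1_c24 LD2_c52 LD3_c18)) = (LP (LK LD1_c15 LD2_c3 LD3_c10)) :=
  Lre_e IH (LK LD1_c24 LD2_c52 LD3_c18) (LK LD1_c15 LD2_c3 LD3_c10) Lrfl Lrfl
theorem f258990 : Led Lsl_gt (LP (LK LD1_c15 LD2_c11 LD3_c24)) = (LP (LK LD1_c8 LD2_c4 LD3_c9)) :=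
  Lre_g IH (LK LD1_c15 LD2_c11 LD3_c24) (LK LD1_c8 LD2_c4 LD3_c9) Lrfl Lrfl
theorem f329911 : Led Lsl_dt (LP (LK LD1_c24 LD2_c52 LD3_c18)) = (LP (LK LD1_c15 LD2_c11 LD3_c24)) :=
  Lgr Lrot136 (Lpr_et (f320517 IH) (Lpr_gf (f329870 IH) (Lpe (K12.f223899 IH) (Lpr_dt (K12.f223822 IH) (Lpe (K12.f168194 IH) (Lpe (K15.f216311 IH) (Lpe (K15.f256820 IH) (Lpe (K18.f256928 IH) (Lpr_dt (K20.f321717 IH) (Lpe (f258990 IH) (Lpn (LP (LK LD1_c15 LD2_c11 LD3_c24)))))))))))))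
theorem f297737 : Led Lsl_et (LP (LK LD1_c18 LD2_c52 LD3_c30)) = (LP (LK LD1_c17 LD2_c48 LD3_c55)) :=
  Lgr Lrot69 (Lpr_ff (K18.f297729 IH) (Lpe (K16.f274963 IH) (Lpe (K16.f277810 IH) (Lpe (K17.f220630 IH) (Lpe (K17.f220627 IH) (Lpn (LP (LK LD1_c17 LD2_c48 LD3_c55))))))))
theorem f329919 : Led Lsl_gt (LP (LK LD1_c17 LD2_c45 LD3_c47)) = (LP (LK LD1_c15 LD2_c11 LD3_c24)) :=
  Lgr Lrot112 (Lpe (K20.f297735 IH) (Lpr_et (f297737 IH) (Lpe (K20.f297767 IH) (Lpe (K20.f200556 IH) (Lpr_dt (K20.f264048 IH) (Lpe (K20.f27575 IH) (Lpr_df (K20.f27569 IH) (Lpe (f329866 IH) (Lpe (f320517 IH) (Lpr_dt (f329911 IH) (Lpn (LP (LK LD1_c15 LD2_c11 LD3_c24)))))))))))))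
theorem f333444 : Led Lsl_cf (LP (LK LD1_c10 LD2_c26 LD3_c29)) = (LP (LK LD1_c15 LD2_c11 LD3_c24)) :=
  Lgr Lrot125 (Lpr_gt (f185571 IH) (Lpe (f185486 IH) (Lpr_bt (f185432 IH) (Lpr_gt (K21.f185442 IH) (Lpe (f333373 IH) (Lpr_ct (f333435 IH) (Lpr_gt (f333438 IH) (Lpe (K17.f286396 IH) (Lpe (K18.f275002 IH) (Lpr_gt (f329919 IH) (Lpn (LP (LK LD1_c15 LD2_c11 LD3_c24)))))))))))))
theorem f224163 : Led Lsl_ct (LP (LK LD1_c5 LD2_c22 LD3_c53)) = (LP (LK LD1_c2 LD2_c37 LD3_c59)) :=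
  Lre_c IH (LK LD1_c5 LD2_c22 LD3_c53) (LK LD1_c2 LD2_c37 LD3_c59) Lrfl Lrfl
theorem f276955 : Led Lsl_gt (LP (LK LD1_c10 LD2_c36 LD3_c3)) = (LP (LK LD1_c5 LD2_c22 LD3_c53)) :=
  Lre_g IH (LK LD1_c10 LD2_c36 LD3_c3) (LK LD1_c5 LD2_c22 LD3_c53) Lrfl Lrfl
theorem f244474 : Led Lsl_gt (LP (LK LD1_c15 LD2_c22 LD3_c19)) = (LP (LK LD1_c8 LD2_c9 LD3_c40)) :=
  Lre_g IH (LK LD1_c15 LD2_c22 LD3_c19) (LK LD1_c8 LD2_c9 LD3_c40) Lrfl Lrfl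
theorem f297747 : Led Lsl_gt (LP (LK LD1_c18 LD2_c52 LD3_c30)) = (LP (LK LD1_c15 LD2_c22 LD3_c19)) :=
  Lgr Lrot5 (Lpr_ft (K18.f297739 IH) (Lpe (K21.f277768 IH) (Lpe (f244474 IH) (Lpn (LP (LK LD1_c15 LD2_c22 LD3_c19))))))
theorem f333452 : Led Lsl_cf (LP (LK LD1_c10 LD2_c36 LD3_c3)) = (LP (LK LD1_c15 LD2_c22 LD3_c19)) :=
  Lgr Lrot169 (Lpr_gt (f276955 IH) (Lpr_ct (f224163 IH) (Lpr_df (K16.f276941 IH) (Lpe (K15.f185433 IH) (Lpe (f185571 IH) (Lpr_cf (f333444 IH) (Lpe (f329919 IH) (Lpe (K20.f297735 IH) (Lpr_gt (f297747 IH) (Lpn (LP (LK LD1_c15 LD2_c22 LD3_c19))))))))))))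
theorem f297741 : Led Lsl_bf (LP (LK LD1_c18 LD2_c52 LD3_c30)) = (LP (LK LD1_c15 LD2_c24 LD3_c60)) :=
  Lgr Lrot61 (Lpr_ft (K18.f297739 IH) (Lpe (K16.f274964 IH) (Lpe (K17.f286145 IH) (Lpn (LP (LK LD1_c15 LD2_c24 LD3_c60))))))
theorem f169508 : Led Lsl_bt (LP (LK LD1_c2 LD2_c59 LD3_c1)) = (LP (LK LD1_c1 LD2_c25 LD3_c16)) :=
  Lre_b IH (LK LD1_c2 LD2_c59 LD3_c1) (LK LD1_c1 LD2_c25 LD3_c16) Lrfl Lrfl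
theorem f333600 : Led Lsl_gt (LP (LK LD1_c1 LD2_c17 LD3_c0)) = (LP (LK LD1_c1 LD2_c25 LD3_c16)) :=
  Lgr Lrot164 (Lpr_bf (K18.f228679 IH) (Lpr_ct (K16.f224161 IH) (Lpe (f276955 IH) (Lpr_cf (f333452 IH) (Lpe (f297747 IH) (Lpr_bf (f297741 IH) (Lpr_ct (K17.f286417 IH) (Lpe (K17.f231699 IH) (Lpe (K20.f169510 IH) (Lpr_bt (f169508 IH) (Lpn (LP (LK LD1_c1 LD2_c25 LD3_c16)))))))))))))
theorem f276199 : Led Lsl_df (LP (LK LD1_c1 LD2_c17 LD3_c0)) = (LP (LK LD1_c1 LD2_c14 LD3_c58)) :=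
  Lgr Lrot78 (Lpr_ft (K16.f276193 IH) (Lpr_dt (K15.f267859 IH) (Lpr_ft (K15.f185439 IH) (Lpn (LP (LK LD1_c1 LD2_c14 LD3_c58))))))
theorem f185444 : Led Lsl_gt (LP (LK LD1_c2 LD2_c35 LD3_c53)) = (LP (LK LD1_c1 LD2_c14 LD3_c58)) :=
  Lre_g IH (LK LD1_c2 LD2_c35 LD3_c53) (LK LD1_c1 LD2_c14 LD3_c58) Lrfl Lrfl
theorem f333631 : Led Lsl_et (LP (LK LD1_c5 LD2_c18 LD3_c28)) = (LP (LK LD1_c2 LD2_c35 LD3_c53)) :=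
  Lre_e IH (LK LD1_c5 LD2_c18 LD3_c28) (LK LD1_c2 LD2_c35 LD3_c53) Lrfl Lrfl
theorem f333632 : Led Lsl_dt (LP (LK LD1_c5 LD2_c18 LD3_c28)) = (LP (LK LD1_c5 LD2_c6 LD3_c24)) :=
  Lgr Lrot37 (Lpr_et (f333631 IH) (Lpr_gt (f185444 IH) (Lpe (f276199 IH) (Lpr_gt (f333600 IH) (Lpr_df (K9.f169455 IH) (Lpr_et (f167456 IH) (Lpr_gt (K10.f178981 IH) (Lpe (K18.f180552 IH) (Lpr_dt (K18.f180553 IH) (Lpr_gt (K18.f198677 IH) (Lpn (LP (LK LD1_c5 LD2_c6 LD3_c24)))))))))))))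
theorem f333636 : Led Lsl_et (LP (LK LD1_c2 LD2_c35 LD3_c53)) = (LP (LK LD1_c5 LD2_c18 LD3_c28)) :=
  Lre_e IH (LK LD1_c2 LD2_c35 LD3_c53) (LK LD1_c5 LD2_c18 LD3_c28) Lrfl Lrfl
theorem f198685 : Led Lsl_et (LP (LK LD1_c5 LD2_c6 LD3_c24)) = (LP (LK LD1_c4 LD2_c30 LD3_c47)) :=
  Lgr Lrot87 (Lpr_ef (K18.f198678 IH) (Lpn (LP (LK LD1_c4 LD2_c30 LD3_c47))))
theorem f198692 : Led Lsl_et (LP (LK LD1_c2 LD2_c12 LD3_c19)) = (LP (LK LD1_c4 LD2_c30 LD3_c48)) :=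
  Lre_e IH (LK LD1_c2 LD2_c12 LD3_c19) (LK LD1_c4 LD2_c30 LD3_c48) Lrfl Lrfl
theorem f333637 : Led Lsl_df (LP (LK LD1_c2 LD2_c35 LD3_c53)) = (LP (LK LD1_c4 LD2_c30 LD3_c48)) :=
  Lgr Lrot70 (Lpr_et (f333636 IH) (Lpr_dt (f333632 IH) (Lpr_et (f198685 IH) (Lpr_dt (K18.f8624 IH) (Lpr_et (f198692 IH) (Lpn (LP (LK LD1_c4 LD2_c30 LD3_c48))))))))
theorem f8638 : Led Lsl_et (LP (LK LD1_c4 LD2_c30 LD3_c48)) = (LP (LK LD1_c2 LD2_c12 LD3_c19)) :=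
  Lre_e IH (LK LD1_c4 LD2_c30 LD3_c48) (LK LD1_c2 LD2_c12 LD3_c19) Lrfl Lrfl
theorem f322377 : Led Lsl_df (LP (LK LD1_c2 LD2_c34 LD3_c59)) = (LP (LK LD1_c2 LD2_c59 LD3_c5)) :=
  Lgr Lrot70 (Lpr_et (f267831 IH) (Lpe (K9.f178588 IH) (Lpe (K20.f231059 IH) (Lpr_dt (K12.f7751 IH) (Lpr_et (K20.f322369 IH) (Lpn (LP (LK LD1_c2 LD2_c59 LD3_c5))))))))
theorem f333641 : Led Lsl_gf (LP (LK LD1_c2 LD2_c35 LD3_c53)) = (LP (LK LD1_c2 LD2_c34 LD3_c59)) :=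
  Lgr Lrot134 (Lpr_df (f333637 IH) (Lpr_et (f8638 IH) (Lpe (K18.f8621 IH) (Lpe (K0.f7642 IH) (Lpr_dt (K0.f7645 IH) (Lpr_gt (K9.f179036 IH) (Lpe (K9.f165046 IH) (Lpr_et (K15.f165047 IH) (Lpr_gt (K20.f169476 IH) (Lpe (f322377 IH) (Lpn (LP (LK LD1_c2 LD2_c34 LD3_c59)))))))))))))
theorem f170036 : Led Lsl_ft (LP (LK LD1_c2 LD2_c34 LD3_c59)) = (LP (LK LD1_c1 LD2_c14 LD3_c28)) :=
  Lre_f IH (LK LD1_c2 LD2_c34 LD3_c59) (LK LD1_c1 LD2_c14 LD3_c28) Lrfl Lrfl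
theorem f267825 : Led Lsl_ef (LP (LK LD1_c2 LD2_c34 LD3_c59)) = (LP (LK LD1_c2 LD2_c35 LD3_c59)) :=
  Lgr Lrot21 (Lpr_ft (f170036 IH) (Lpr_et (K14.f32815 IH) (Lpr_ft (K15.f267819 IH) (Lpr_et (K9.f178537 IH) (Lpr_ft (K19.f178552 IH) (Lpn (LP (LK LD1_c2 LD2_c35 LD3_c59))))))))
theorem f1395 : Led Lsl_gt (LP (LK LD1_c0 LD2_c59 LD3_c57)) = (LP (LK LD1_c2 LD2_c5 LD3_c55)) :=
  Lre_g IH (LK LD1_c0 LD2_c59 LD3_c57) (LK LD1_c2 LD2_c5 LD3_c55) Lrfl Lrfl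
theorem f230998 : Led Lsl_gt (LP (LK LD1_c2 LD2_c5 LD3_c55)) = (LP (LK LD1_c2 LD2_c2 LD3_c32)) :=
  Lgr Lrot46 (Lpe (f1395 IH) (Lpr_ft (K10.f169344 IH) (Lpr_at (K12.f230985 IH) (Lpn (LP (LK LD1_c2 LD2_c2 LD3_c32))))))
theorem f200288 : Led Lsl_gt (LP (LK LD1_c2 LD2_c32 LD3_c61)) = (LP (LK LD1_c1 LD2_c13 LD3_c25)) :=
  Lre_g IH (LK LD1_c2 LD2_c32 LD3_c61) (LK LD1_c1 LD2_c13 LD3_c25) Lrfl Lrfl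
theorem f200289 : Led Lsl_df (LP (LK LD1_c2 LD2_c32 LD3_c61)) = (LP (LK LD1_c2 LD2_c5 LD3_c55)) :=
  Lgr Lrot135 (Lpr_gt (f200288 IH) (Lpr_df (f200272 IH) (Lpr_et (K18.f1392 IH) (Lpr_gt (K9.f1391 IH) (Lpr_ef (K13.f509 IH) (Lpr_dt (K0.f485 IH) (Lpr_gt (K9.f497 IH) (Lpe (K9.f1393 IH) (Lpr_et (K15.f1394 IH) (Lpr_gt (f1395 IH) (Lpn (LP (LK LD1_c2 LD2_c5 LD3_c55)))))))))))))
theorem f200294 : Led Lsl_dt (LP (LK LD1_c2 LD2_c32 LD3_c61)) = (LP (LK LD1_c2 LD2_c5 LD3_c55)) :=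
  Lgr Lrot42 (Lpr_df (f200289 IH) (Lpn (LP (LK LD1_c2 LD2_c5 LD3_c55))))
theorem f333650 : Led Lsl_gt (LP (LK LD1_c2 LD2_c30 LD3_c8)) = (LP (LK LD1_c2 LD2_c32 LD3_c61)) :=
  Lgr Lrot137 (Lpe (K18.f302170 IH) (Lpr_dt (K18.f304441 IH) (Lpe (K18.f304419 IH) (Lpe (f333632 IH) (Lpr_et (f333631 IH) (Lpr_gf (f333641 IH) (Lpr_ef (f267825 IH) (Lpe (K9.f178588 IH) (Lpe (f230998 IH) (Lpe (f200294 IH) (Lpn (LP (LK LD1_c2 LD2_c32 LD3_c61)))))))))))))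
theorem f170623 : Led Lsl_et (LP (LK LD1_c4 LD2_c11 LD3_c40)) = (LP (LK LD1_c2 LD2_c3 LD3_c0)) :=
  Lre_e IH (LK LD1_c4 LD2_c11 LD3_c40) (LK LD1_c2 LD2_c3 LD3_c0) Lrfl Lrfl
theorem f167440 : Led Lsl_dt (LP (LK LD1_c1 LD2_c0 LD3_c11)) = (LP (LK LD1_c1 LD2_c12 LD3_c3)) :=
  Lgr Lrot42 (Lpr_df (K18.f167427 IH) (Lpn (LP (LK LD1_c1 LD2_c12 LD3_c3))))
theorem f521 : Led Lsl_gt (LP (LK LD1_c0 LD2_c58 LD3_c8)) = (LP (LK LD1_c2 LD2_c2 LD3_c30)) :=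
  Lre_g IH (LK LD1_c0 LD2_c58 LD3_c8) (LK LD1_c2 LD2_c2 LD3_c30) Lrfl Lrfl
theorem f167447 : Led Lsl_gt (LP (LK LD1_c2 LD2_c30 LD3_c7)) = (LP (LK LD1_c1 LD2_c12 LD3_c3)) :=
  Lre_g IH (LK LD1_c2 LD2_c30 LD3_c7) (LK LD1_c1 LD2_c12 LD3_c3) Lrfl Lrfl
theorem f167545 : Led Lsl_dt (LP (LK LD1_c2 LD2_c2 LD3_c30)) = (LP (LK LD1_c2 LD2_c30 LD3_c7)) :=
  Lgr Lrot171 (Lpe (f521 IH) (Lpe (K12.f520 IH) (Lpr_dt (K9.f519 IH) (Lpe (K9.f518 IH) (Lpe (K9.f517 IH) (Lpr_et (K0.f486 IH) (Lpe (K9.f522 IH) (Lpe (K18.f523 IH) (Lpr_dt (f167440 IH) (Lpe (f167447 IH) (Lpn (LP (LK LD1_c2 LD2_c30 LD3_c7)))))))))))))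
theorem f167564 : Led Lsl_et (LP (LK LD1_c2 LD2_c2 LD3_c30)) = (LP (LK LD1_c2 LD2_c5 LD3_c55)) :=
  Lgr Lrot122 (Lpr_dt (f167545 IH) (Lpr_gt (f167447 IH) (Lpe (f167440 IH) (Lpr_et (K18.f523 IH) (Lpr_gt (K9.f522 IH) (Lpr_dt (K0.f485 IH) (Lpr_gt (K9.f497 IH) (Lpe (K9.f1393 IH) (Lpr_et (K15.f1394 IH) (Lpr_gt (f1395 IH) (Lpn (LP (LK LD1_c2 LD2_c5 LD3_c55)))))))))))))
theorem f167569 : Led Lsl_ef (LP (LK LD1_c2 LD2_c2 LD3_c30)) = (LP (LK LD1_c2 LD2_c5 LD3_c55)) :=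
  Lgr Lrot88 (Lpr_et (f167564 IH) (Lpn (LP (LK LD1_c2 LD2_c5 LD3_c55))))
theorem f333395 : Led Lsl_gf (LP (LK LD1_c2 LD2_c30 LD3_c7)) = (LP (LK LD1_c2 LD2_c33 LD3_c0)) :=
  Lgr Lrot145 (Lpe (f167545 IH) (Lpr_et (f167564 IH) (Lpr_gt (f230998 IH) (Lpr_dt (K9.f178550 IH) (Lpr_gt (f307919 IH) (Lpe (f333393 IH) (Lpr_et (f333376 IH) (Lpr_gt (K20.f310285 IH) (Lpe (f310179 IH) (Lpe (f200268 IH) (Lpn (LP (LK LD1_c2 LD2_c33 LD3_c0)))))))))))))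
theorem f167551 : Led Lsl_df (LP (LK LD1_c2 LD2_c2 LD3_c30)) = (LP (LK LD1_c2 LD2_c30 LD3_c7)) :=
  Lgr Lrot38 (Lpr_dt (f167545 IH) (Lpn (LP (LK LD1_c2 LD2_c30 LD3_c7))))
theorem f7628 : Led Lsl_dt (LP (LK LD1_c2 LD2_c43 LD3_c25)) = (LP (LK LD1_c1 LD2_c18 LD3_c7)) :=
  Lre_d IH (LK LD1_c2 LD2_c43 LD3_c25) (LK LD1_c1 LD2_c18 LD3_c7) Lrfl Lrfl
theorem f309796 : Led Lsl_ef (LP (LK LD1_c5 LD2_c13 LD3_c23)) = (LP (LK LD1_c2 LD2_c43 LD3_c25)) :=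
  Lgr Lrot17 (Lpe (K14.f185012 IH) (Lpe (K18.f193952 IH) (Lpr_dt (K10.f184897 IH) (Lpr_gf (K10.f193948 IH) (Lpr_df (K10.f8423 IH) (Lpe (K9.f8545 IH) (Lpe (K15.f8527 IH) (Lpr_dt (K0.f8616 IH) (Lpr_gf (K19.f309784 IH) (Lpe (f7628 IH) (Lpn (LP (LK LD1_c2 LD2_c43 LD3_c25)))))))))))))
theorem f309806 : Led Lsl_gt (LP (LK LD1_c5 LD2_c13 LD3_c23)) = (LP (LK LD1_c4 LD2_c29 LD3_c23)) :=
  Lgr Lrot137 (Lpr_ef (f309796 IH) (Lpr_dt (f7628 IH) (Lpe (K19.f7612 IH) (Lpr_df (K0.f7587 IH) (Lpr_et (K9.f7597 IH) (Lpe (K9.f7630 IH) (Lpe (K10.f7631 IH) (Lpr_dt (K10.f7632 IH) (Lpe (K18.f304237 IH) (Lpr_df (K18.f304248 IH) (Lpn (LP (LK LD1_c4 LD2_c29 LD3_c23)))))))))))))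
theorem f333407 : Led Lsl_gt (LP (LK LD1_c2 LD2_c2 LD3_c30)) = (LP (LK LD1_c2 LD2_c5 LD3_c57)) :=
  Lgr Lrot139 (Lpr_df (f167551 IH) (Lpr_gf (f333395 IH) (Lpr_ef (f302149 IH) (Lpr_dt (f304253 IH) (Lpe (f309806 IH) (Lpr_df (K14.f255007 IH) (Lpr_et (K14.f255006 IH) (Lpr_gf (K19.f268113 IH) (Lpe (K15.f267845 IH) (Lpe (K10.f169351 IH) (Lpn (LP (LK LD1_c2 LD2_c5 LD3_c57)))))))))))))
theorem f7756 : Led Lsl_gt (LP (LK LD1_c2 LD2_c40 LD3_c36)) = (LP (LK LD1_c1 LD2_c16 LD3_c60)) :=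
  Lre_g IH (LK LD1_c2 LD2_c40 LD3_c36) (LK LD1_c1 LD2_c16 LD3_c60) Lrfl Lrfl
theorem f267684 : Led Lsl_gf (LP (LK LD1_c2 LD2_c40 LD3_c36)) = (LP (LK LD1_c4 LD2_c10 LD3_c61)) :=
  Lgr Lrot47 (Lpr_gt (f7756 IH) (Lpr_af (K15.f267678 IH) (Lpe (K15.f267677 IH) (Lpn (LP (LK LD1_c4 LD2_c10 LD3_c61))))))
theorem f333653 : Led Lsl_dt (LP (LK LD1_c4 LD2_c11 LD3_c40)) = (LP (LK LD1_c2 LD2_c40 LD3_c36)) :=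
  Lgr Lrot37 (Lpr_et (f170623 IH) (Lpe (K18.f304462 IH) (Lpr_dt (K18.f167444 IH) (Lpr_gt (f333650 IH) (Lpr_df (f200289 IH) (Lpe (f167569 IH) (Lpr_gt (f333407 IH) (Lpr_ef (K16.f231035 IH) (Lpr_dt (K15.f267650 IH) (Lpe (f267684 IH) (Lpn (LP (LK LD1_c2 LD2_c40 LD3_c36)))))))))))))
theorem f304454 : Led Lsl_et (LP (LK LD1_c2 LD2_c3 LD3_c0)) = (LP (LK LD1_c4 LD2_c11 LD3_c40)) :=
  Lre_e IH (LK LD1_c2 LD2_c3 LD3_c0) (LK LD1_c4 LD2_c11 LD3_c40) Lrfl Lrfl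
theorem f180558 : Led Lsl_df (LP (LK LD1_c5 LD2_c18 LD3_c36)) = (LP (LK LD1_c5 LD2_c6 LD3_c25)) :=
  Lgr Lrot38 (Lpr_dt (K18.f180555 IH) (Lpn (LP (LK LD1_c5 LD2_c6 LD3_c25))))
theorem f333659 : Led Lsl_ef (LP (LK LD1_c5 LD2_c6 LD3_c25)) = (LP (LK LD1_c2 LD2_c40 LD3_c36)) :=
  Lgr Lrot73 (Lpe (f180558 IH) (Lpr_et (K18.f178741 IH) (Lpr_dt (K18.f304455 IH) (Lpr_et (f304454 IH) (Lpr_dt (f333653 IH) (Lpn (LP (LK LD1_c2 LD2_c40 LD3_c36))))))))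
theorem f304426 : Led Lsl_et (LP (LK LD1_c1 LD2_c17 LD3_c28)) = (LP (LK LD1_c2 LD2_c41 LD3_c38)) :=
  Lre_e IH (LK LD1_c1 LD2_c17 LD3_c28) (LK LD1_c2 LD2_c41 LD3_c38) Lrfl Lrfl
theorem f289030 : Led Lsl_gt (LP (LK LD1_c8 LD2_c22 LD3_c13)) = (LP (LK LD1_c15 LD2_c44 LD3_c33)) :=
  Lre_g IH (LK LD1_c8 LD2_c22 LD3_c13) (LK LD1_c15 LD2_c44 LD3_c33) Lrfl Lrfl
theorem f289029 : Led Lsl_ct (LP (LK LD1_c4 LD2_c11 LD3_c11)) = (LP (LK LD1_c8 LD2_c22 LD3_c13)) :=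
  Lre_c IH (LK LD1_c4 LD2_c11 LD3_c11) (LK LD1_c8 LD2_c22 LD3_c13) Lrfl Lrfl
theorem f307759 : Led Lsl_ct (LP (LK LD1_c2 LD2_c6 LD3_c12)) = (LP (LK LD1_c4 LD2_c17 LD3_c43)) :=
  Lre_c IH (LK LD1_c2 LD2_c6 LD3_c12) (LK LD1_c4 LD2_c17 LD3_c43) Lrfl Lrfl
theorem f310276 : Led Lsl_bt (LP (LK LD1_c2 LD2_c6 LD3_c12)) = (LP (LK LD1_c1 LD2_c0 LD3_c8)) :=
  Lre_b IH (LK LD1_c2 LD2_c6 LD3_c12) (LK LD1_c1 LD2_c0 LD3_c8) Lrfl Lrfl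
theorem f7922 : Led Lsl_gt (LP (LK LD1_c1 LD2_c0 LD3_c8)) = (LP (LK LD1_c2 LD2_c6 LD3_c15)) :=
  Lre_g IH (LK LD1_c1 LD2_c0 LD3_c8) (LK LD1_c2 LD2_c6 LD3_c15) Lrfl Lrfl
theorem f316212 : Led Lsl_bt (LP (LK LD1_c4 LD2_c17 LD3_c55)) = (LP (LK LD1_c2 LD2_c6 LD3_c15)) :=
  Lre_b IH (LK LD1_c4 LD2_c17 LD3_c55) (LK LD1_c2 LD2_c6 LD3_c15) Lrfl Lrfl
theorem f316213 : Led Lsl_ct (LP (LK LD1_c4 LD2_c17 LD3_c55)) = (LP (LK LD1_c8 LD2_c34 LD3_c46)) :=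
  Lre_c IH (LK LD1_c4 LD2_c17 LD3_c55) (LK LD1_c8 LD2_c34 LD3_c46) Lrfl Lrfl
theorem f316214 : Led Lsl_gt (LP (LK LD1_c8 LD2_c34 LD3_c46)) = (LP (LK LD1_c8 LD2_c19 LD3_c31)) :=
  Lgr Lrot65 (Lpe (f316213 IH) (Lpr_bt (f316212 IH) (Lpe (f7922 IH) (Lpe (f310276 IH) (Lpr_ct (f307759 IH) (Lpe (K21.f316184 IH) (Lpr_cf (K21.f316188 IH) (Lpe (K21.f258452 IH) (Lpr_bf (K15.f258473 IH) (Lpr_ct (K17.f258480 IH) (Lpn (LP (LK LD1_c8 LD2_c19 LD3_c31)))))))))))))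
theorem f273738 : Led Lsl_at (LP (LK LD1_c15 LD2_c34 LD3_c15)) = (LP (LK LD1_c8 LD2_c19 LD3_c31)) :=
  Lgr Lrot100 (Lpr_af (K17.f273734 IH) (Lpn (LP (LK LD1_c8 LD2_c19 LD3_c31))))
theorem f316216 : Led Lsl_gf (LP (LK LD1_c8 LD2_c34 LD3_c46)) = (LP (LK LD1_c8 LD2_c16 LD3_c50)) :=
  Lgr Lrot47 (Lpr_gt (f316214 IH) (Lpe (f273738 IH) (Lpe (K17.f170370 IH) (Lpn (LP (LK LD1_c8 LD2_c16 LD3_c50))))))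
theorem f321163 : Led Lsl_gf (LP (LK LD1_c2 LD2_c2 LD3_c56)) = (LP (LK LD1_c2 LD2_c6 LD3_c15)) :=
  Lgr Lrot124 (Lpe (K18.f295971 IH) (Lpr_ct (f289029 IH) (Lpr_gt (f289030 IH) (Lpr_cf (K20.f321156 IH) (Lpr_bt (K20.f170377 IH) (Lpr_gt (K19.f170364 IH) (Lpe (K16.f170345 IH) (Lpe (f316216 IH) (Lpe (f316213 IH) (Lpr_bt (f316212 IH) (Lpn (LP (LK LD1_c2 LD2_c6 LD3_c15)))))))))))))
theorem f321166 : Led Lsl_dt (LP (LK LD1_c4 LD2_c17 LD3_c56)) = (LP (LK LD1_c2 LD2_c6 LD3_c15)) :=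
  Lre_d IH (LK LD1_c4 LD2_c17 LD3_c56) (LK LD1_c2 LD2_c6 LD3_c15) Lrfl Lrfl
theorem f333657 : Led Lsl_df (LP (LK LD1_c4 LD2_c11 LD3_c40)) = (LP (LK LD1_c2 LD2_c40 LD3_c36)) :=
  Lgr Lrot38 (Lpr_dt (f333653 IH) (Lpn (LP (LK LD1_c2 LD2_c40 LD3_c36))))
theorem f178546 : Led Lsl_dt (LP (LK LD1_c0 LD2_c58 LD3_c8)) = (LP (LK LD1_c1 LD2_c14 LD3_c60)) :=
  Lgr Lrot42 (Lpr_df (K9.f178538 IH) (Lpn (LP (LK LD1_c1 LD2_c14 LD3_c60))))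
theorem f304457 : Led Lsl_gf (LP (LK LD1_c4 LD2_c18 LD3_c34)) = (LP (LK LD1_c4 LD2_c11 LD3_c40)) :=
  Lgr Lrot141 (Lpe (K13.f179812 IH) (Lpr_dt (f27342 IH) (Lpe (f185613 IH) (Lpr_df (f185605 IH) (Lpr_et (K20.f53449 IH) (Lpr_gt (K20.f53448 IH) (Lpr_dt (f178546 IH) (Lpr_gt (K18.f178554 IH) (Lpr_df (K18.f304452 IH) (Lpr_et (f304454 IH) (Lpn (LP (LK LD1_c4 LD2_c11 LD3_c40)))))))))))))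
theorem f333667 : Led Lsl_gf (LP (LK LD1_c4 LD2_c17 LD3_c56)) = (LP (LK LD1_c6 LD2_c6 LD3_c15)) :=
  Lgr Lrot138 (Lpr_dt (f321166 IH) (Lpe (f321163 IH) (Lpr_df (K20.f320393 IH) (Lpr_et (f304426 IH) (Lpe (K18.f304447 IH) (Lpr_ef (f333659 IH) (Lpe (f333657 IH) (Lpe (f304457 IH) (Lpe (f179810 IH) (Lpr_et (K13.f179783 IH) (Lpn (LP (LK LD1_c6 LD2_c6 LD3_c15)))))))))))))
theorem f7923 : Led Lsl_dt (LP (LK LD1_c2 LD2_c6 LD3_c15)) = (LP (LK LD1_c4 LD2_c17 LD3_c56)) :=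
  Lre_d IH (LK LD1_c2 LD2_c6 LD3_c15) (LK LD1_c4 LD2_c17 LD3_c56) Lrfl Lrfl
theorem f170624 : Led Lsl_gt (LP (LK LD1_c2 LD2_c3 LD3_c1)) = (LP (LK LD1_c0 LD2_c58 LD3_c24)) :=
  Lre_g IH (LK LD1_c2 LD2_c3 LD3_c1) (LK LD1_c0 LD2_c58 LD3_c24) Lrfl Lrfl
theorem f333673 : Led Lsl_et (LP (LK LD1_c2 LD2_c6 LD3_c15)) = (LP (LK LD1_c2 LD2_c3 LD3_c1)) :=
  Lgr Lrot121 (Lpr_dt (f7923 IH) (Lpr_gf (f333667 IH) (Lpe (f179781 IH) (Lpr_et (K13.f179813 IH) (Lpe (f200286 IH) (Lpe (K20.f185596 IH) (Lpr_dt (f185611 IH) (Lpe (K20.f185588 IH) (Lpr_df (f200272 IH) (Lpe (f170624 IH) (Lpn (LP (LK LD1_c2 LD2_c3 LD3_c1)))))))))))))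
theorem f333678 : Led Lsl_ef (LP (LK LD1_c2 LD2_c6 LD3_c15)) = (LP (LK LD1_c2 LD2_c3 LD3_c1)) :=
  Lgr Lrot88 (Lpr_et (f333673 IH) (Lpn (LP (LK LD1_c2 LD2_c3 LD3_c1))))
theorem f178553 : Led Lsl_gt (LP (LK LD1_c2 LD2_c35 LD3_c58)) = (LP (LK LD1_c1 LD2_c14 LD3_c60)) :=
  Lre_g IH (LK LD1_c2 LD2_c35 LD3_c58) (LK LD1_c1 LD2_c14 LD3_c60) Lrfl Lrfl
theorem f333682 : Led Lsl_df (LP (LK LD1_c2 LD2_c35 LD3_c58)) = (LP (LK LD1_c2 LD2_c3 LD3_c1)) :=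
  Lgr Lrot170 (Lpr_gt (f178553 IH) (Lpe (f178546 IH) (Lpr_et (K9.f178517 IH) (Lpr_gt (K9.f178496 IH) (Lpr_dt (K9.f168325 IH) (Lpr_gt (K9.f179106 IH) (Lpe (K0.f7911 IH) (Lpr_et (K13.f7921 IH) (Lpr_gt (f7922 IH) (Lpr_ef (f333678 IH) (Lpn (LP (LK LD1_c2 LD2_c3 LD3_c1)))))))))))))
theorem f333689 : Led Lsl_gf (LP (LK LD1_c2 LD2_c35 LD3_c58)) = (LP (LK LD1_c2 LD2_c35 LD3_c2)) :=
  Lgr Lrot134 (Lpr_df (f333682 IH) (Lpe (f333678 IH) (Lpe (f321163 IH) (Lpr_ef (K18.f299444 IH) (Lpr_dt (K18.f167444 IH) (Lpr_gt (f333650 IH) (Lpr_df (f200289 IH) (Lpe (f167569 IH) (Lpr_gt (f333407 IH) (Lpr_dt (K10.f169345 IH) (Lpn (LP (LK LD1_c2 LD2_c35 LD3_c2)))))))))))))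
theorem f179055 : Led Lsl_df (LP (LK LD1_c5 LD2_c26 LD3_c53)) = (LP (LK LD1_c5 LD2_c5 LD3_c35)) :=
  Lgr Lrot38 (Lpr_dt (K20.f179053 IH) (Lpn (LP (LK LD1_c5 LD2_c5 LD3_c35))))
theorem f170015 : Led Lsl_gt (LP (LK LD1_c1 LD2_c14 LD3_c28)) = (LP (LK LD1_c2 LD2_c34 LD3_c57)) :=
  Lre_g IH (LK LD1_c1 LD2_c14 LD3_c28) (LK LD1_c2 LD2_c34 LD3_c57) Lrfl Lrfl
theorem f170016 : Led Lsl_dt (LP (LK LD1_c2 LD2_c34 LD3_c57)) = (LP (LK LD1_c5 LD2_c16 LD3_c24)) :=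
  Lre_d IH (LK LD1_c2 LD2_c34 LD3_c57) (LK LD1_c5 LD2_c16 LD3_c24) Lrfl Lrfl
theorem f309709 : Led Lsl_gf (LP (LK LD1_c5 LD2_c26 LD3_c53)) = (LP (LK LD1_c5 LD2_c16 LD3_c24)) :=
  Lgr Lrot134 (Lpr_df (f179055 IH) (Lpr_et (K21.f309705 IH) (Lpr_gt (K19.f185639 IH) (Lpe (K12.f185625 IH) (Lpr_dt (K15.f185579 IH) (Lpr_gt (K14.f255033 IH) (Lpe (K14.f247621 IH) (Lpr_et (K14.f170042 IH) (Lpr_gt (f170015 IH) (Lpr_dt (f170016 IH) (Lpn (LP (LK LD1_c5 LD2_c16 LD3_c24)))))))))))))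
theorem f333691 : Led Lsl_ef (LP (LK LD1_c2 LD2_c35 LD3_c58)) = (LP (LK LD1_c2 LD2_c34 LD3_c57)) :=
  Lgr Lrot17 (Lpr_gf (f333689 IH) (Lpr_ef (K15.f267853 IH) (Lpe (K16.f267861 IH) (Lpe (K15.f183135 IH) (Lpe (K12.f185627 IH) (Lpe (K19.f185639 IH) (Lpe (K21.f309705 IH) (Lpe (f179055 IH) (Lpr_gf (f309709 IH) (Lpe (f170016 IH) (Lpn (LP (LK LD1_c2 LD2_c34 LD3_c57)))))))))))))
theorem f167553 : Led Lsl_et (LP (LK LD1_c2 LD2_c30 LD3_c7)) = (LP (LK LD1_c5 LD2_c5 LD3_c50)) :=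
  Lre_e IH (LK LD1_c2 LD2_c30 LD3_c7) (LK LD1_c5 LD2_c5 LD3_c50) Lrfl Lrfl
theorem f178558 : Led Lsl_gt (LP (LK LD1_c5 LD2_c5 LD3_c50)) = (LP (LK LD1_c5 LD2_c16 LD3_c54)) :=
  Lgr Lrot137 (Lpe (f167553 IH) (Lpe (f167551 IH) (Lpe (f521 IH) (Lpr_df (K9.f178538 IH) (Lpr_et (K20.f32915 IH) (Lpr_gf (K10.f32909 IH) (Lpe (K10.f32292 IH) (Lpe (K10.f32295 IH) (Lpe (K10.f48638 IH) (Lpe (K10.f32872 IH) (Lpn (LP (LK LD1_c5 LD2_c16 LD3_c54)))))))))))))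
theorem f184978 : Led Lsl_df (LP (LK LD1_c4 LD2_c29 LD3_c47)) = (LP (LK LD1_c5 LD2_c5 LD3_c34)) :=
  Lgr Lrot38 (Lpr_dt (K10.f184975 IH) (Lpn (LP (LK LD1_c5 LD2_c5 LD3_c34))))
theorem f333700 : Led Lsl_gt (LP (LK LD1_c4 LD2_c29 LD3_c47)) = (LP (LK LD1_c5 LD2_c16 LD3_c24)) :=
  Lgr Lrot112 (Lpr_df (f184978 IH) (Lpr_et (K10.f178745 IH) (Lpe (f178558 IH) (Lpe (f167553 IH) (Lpe (f167551 IH) (Lpe (f521 IH) (Lpr_df (K9.f178538 IH) (Lpe (f178553 IH) (Lpr_ef (f333691 IH) (Lpr_dt (f170016 IH) (Lpn (LP (LK LD1_c5 LD2_c16 LD3_c24)))))))))))))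
theorem f184989 : Led Lsl_dt (LP (LK LD1_c2 LD2_c11 LD3_c54)) = (LP (LK LD1_c4 LD2_c29 LD3_c46)) :=
  Lre_d IH (LK LD1_c2 LD2_c11 LD3_c54) (LK LD1_c4 LD2_c29 LD3_c46) Lrfl Lrfl
theorem f180560 : Led Lsl_et (LP (LK LD1_c2 LD2_c35 LD3_c57)) = (LP (LK LD1_c5 LD2_c18 LD3_c36)) :=
  Lre_e IH (LK LD1_c2 LD2_c35 LD3_c57) (LK LD1_c5 LD2_c18 LD3_c36) Lrfl Lrfl
theorem f185618 : Led Lsl_bt (LP (LK LD1_c2 LD2_c32 LD3_c54)) = (LP (LK LD1_c1 LD2_c13 LD3_c25)) :=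
  Lre_b IH (LK LD1_c2 LD2_c32 LD3_c54) (LK LD1_c1 LD2_c13 LD3_c25) Lrfl Lrfl
theorem f200153 : Led Lsl_bt (LP (LK LD1_c0 LD2_c58 LD3_c24)) = (LP (LK LD1_c2 LD2_c2 LD3_c59)) :=
  Lre_b IH (LK LD1_c0 LD2_c58 LD3_c24) (LK LD1_c2 LD2_c2 LD3_c59) Lrfl Lrfl
theorem f200154 : Led Lsl_dt (LP (LK LD1_c1 LD2_c13 LD3_c25)) = (LP (LK LD1_c0 LD2_c58 LD3_c24)) :=
  Lgr Lrot79 (Lpe (f185618 IH) (Lpr_df (K18.f200150 IH) (Lpe (f200153 IH) (Lpn (LP (LK LD1_c0 LD2_c58 LD3_c24))))))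
theorem f304460 : Led Lsl_gt (LP (LK LD1_c5 LD2_c18 LD3_c36)) = (LP (LK LD1_c4 LD2_c29 LD3_c46)) :=
  Lgr Lrot137 (Lpe (f180560 IH) (Lpr_dt (K18.f304455 IH) (Lpe (K18.f170622 IH) (Lpe (f200154 IH) (Lpr_et (f185004 IH) (Lpe (K10.f184991 IH) (Lpe (K10.f184992 IH) (Lpr_dt (K10.f165036 IH) (Lpe (K10.f165048 IH) (Lpe (K10.f184981 IH) (Lpn (LP (LK LD1_c4 LD2_c29 LD3_c46)))))))))))))
theorem f333663 : Led Lsl_et (LP (LK LD1_c5 LD2_c6 LD3_c25)) = (LP (LK LD1_c2 LD2_c40 LD3_c36)) :=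
  Lgr Lrot87 (Lpr_ef (f333659 IH) (Lpn (LP (LK LD1_c2 LD2_c40 LD3_c36))))
theorem f276154 : Led Lsl_dt (LP (LK LD1_c5 LD2_c16 LD3_c24)) = (LP (LK LD1_c2 LD2_c34 LD3_c57)) :=
  Lre_d IH (LK LD1_c5 LD2_c16 LD3_c24) (LK LD1_c2 LD2_c34 LD3_c57) Lrfl Lrfl
theorem f333702 : Led Lsl_gf (LP (LK LD1_c2 LD2_c35 LD3_c54)) = (LP (LK LD1_c2 LD2_c34 LD3_c57)) :=
  Lgr Lrot134 (Lpe (K15.f267859 IH) (Lpr_et (K16.f267863 IH) (Lpe (f267684 IH) (Lpe (f333663 IH) (Lpe (f180558 IH) (Lpr_gt (f304460 IH) (Lpe (f184989 IH) (Lpr_et (K10.f184980 IH) (Lpr_gt (f333700 IH) (Lpr_dt (f276154 IH) (Lpn (LP (LK LD1_c2 LD2_c34 LD3_c57)))))))))))))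
theorem f333714 : Led Lsl_ef (LP (LK LD1_c4 LD2_c17 LD3_c56)) = (LP (LK LD1_c5 LD2_c16 LD3_c24)) :=
  Lgr Lrot17 (Lpr_gf (f333667 IH) (Lpe (K13.f179783 IH) (Lpr_dt (f179810 IH) (Lpr_gf (f304457 IH) (Lpr_df (f333657 IH) (Lpr_gf (f267684 IH) (Lpe (K16.f267863 IH) (Lpr_dt (K15.f267859 IH) (Lpr_gf (f333702 IH) (Lpe (f276154 IH) (Lpn (LP (LK LD1_c5 LD2_c16 LD3_c24)))))))))))))
theorem f276163 : Led Lsl_et (LP (LK LD1_c1 LD2_c17 LD3_c51)) = (LP (LK LD1_c2 LD2_c42 LD3_c37)) :=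
  Lre_e IH (LK LD1_c1 LD2_c17 LD3_c51) (LK LD1_c2 LD2_c42 LD3_c37) Lrfl Lrfl
theorem f333721 : Led Lsl_gt (LP (LK LD1_c4 LD2_c17 LD3_c56)) = (LP (LK LD1_c2 LD2_c42 LD3_c37)) :=
  Lgr Lrot131 (Lpr_ef (f333714 IH) (Lpr_dt (f276154 IH) (Lpe (f170015 IH) (Lpe (K19.f255002 IH) (Lpr_gf (K16.f276146 IH) (Lpe (K21.f264388 IH) (Lpr_dt (K15.f264621 IH) (Lpe (K21.f264611 IH) (Lpe (K21.f276155 IH) (Lpr_et (f276163 IH) (Lpn (LP (LK LD1_c2 LD2_c42 LD3_c37)))))))))))))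
theorem f167715 : Led Lsl_gt (LP (LK LD1_c4 LD2_c17 LD3_c3)) = (LP (LK LD1_c2 LD2_c5 LD3_c50)) :=
  Lre_g IH (LK LD1_c4 LD2_c17 LD3_c3) (LK LD1_c2 LD2_c5 LD3_c50) Lrfl Lrfl
theorem f333723 : Led Lsl_df (LP (LK LD1_c4 LD2_c17 LD3_c3)) = (LP (LK LD1_c2 LD2_c42 LD3_c37)) :=
  Lgr Lrot135 (Lpr_gt (f167715 IH) (Lpr_df (K12.f167708 IH) (Lpr_et (K12.f167645 IH) (Lpe (K12.f225821 IH) (Lpe (K16.f197589 IH) (Lpr_dt (K19.f255002 IH) (Lpr_gt (f170015 IH) (Lpe (f276154 IH) (Lpe (f333714 IH) (Lpr_gt (f333721 IH) (Lpn (LP (LK LD1_c2 LD2_c42 LD3_c37)))))))))))))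
theorem f333725 : Led Lsl_dt (LP (LK LD1_c4 LD2_c17 LD3_c3)) = (LP (LK LD1_c2 LD2_c42 LD3_c37)) :=
  Lgr Lrot42 (Lpr_df (f333723 IH) (Lpn (LP (LK LD1_c2 LD2_c42 LD3_c37))))
theorem f304482 : Led Lsl_gt (LP (LK LD1_c2 LD2_c6 LD3_c25)) = (LP (LK LD1_c2 LD2_c3 LD3_c1)) :=
  Lgr Lrot5 (Lpr_ft (K18.f167465 IH) (Lpr_at (K18.f304472 IH) (Lpe (f170624 IH) (Lpn (LP (LK LD1_c2 LD2_c3 LD3_c1))))))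
theorem f333729 : Led Lsl_et (LP (LK LD1_c4 LD2_c17 LD3_c3)) = (LP (LK LD1_c2 LD2_c41 LD3_c42)) :=
  Lgr Lrot121 (Lpr_dt (f333725 IH) (Lpe (f333721 IH) (Lpe (f7923 IH) (Lpr_et (f333673 IH) (Lpe (f304482 IH) (Lpe (K18.f299448 IH) (Lpr_dt (K20.f320299 IH) (Lpe (K18.f178520 IH) (Lpe (K13.f178519 IH) (Lpe (K21.f179119 IH) (Lpn (LP (LK LD1_c2 LD2_c41 LD3_c42)))))))))))))
theorem f333732 : Led Lsl_df (LP (LK LD1_c4 LD2_c30 LD3_c1)) = (LP (LK LD1_c2 LD2_c41 LD3_c42)) :=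
  Lgr Lrot70 (Lpr_et (K21.f181805 IH) (Lpe (K21.f276158 IH) (Lpr_et (f276163 IH) (Lpe (f333723 IH) (Lpr_et (f333729 IH) (Lpn (LP (LK LD1_c2 LD2_c41 LD3_c42))))))))
theorem f264598 : Led Lsl_ct (LP (LK LD1_c1 LD2_c17 LD3_c53)) = (LP (LK LD1_c2 LD2_c42 LD3_c35)) :=
  Lre_c IH (LK LD1_c1 LD2_c17 LD3_c53) (LK LD1_c2 LD2_c42 LD3_c35) Lrfl Lrfl
theorem f280996 : Led Lsl_ef (LP (LK LD1_c1 LD2_c17 LD3_c53)) = (LP (LK LD1_c2 LD2_c11 LD3_c56)) :=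
  Lgr Lrot28 (Lpr_ct (f264598 IH) (Lpr_et (K20.f280991 IH) (Lpr_ct (K21.f261775 IH) (Lpn (LP (LK LD1_c2 LD2_c11 LD3_c56))))))
theorem f181803 : Led Lsl_gt (LP (LK LD1_c2 LD2_c12 LD3_c2)) = (LP (LK LD1_c1 LD2_c2 LD3_c59)) :=
  Lre_g IH (LK LD1_c2 LD2_c12 LD3_c2) (LK LD1_c1 LD2_c2 LD3_c59) Lrfl Lrfl
theorem f264596 : Led Lsl_gf (LP (LK LD1_c2 LD2_c12 LD3_c2)) = (LP (LK LD1_c1 LD2_c17 LD3_c53)) :=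
  Lgr Lrot47 (Lpr_gt (f181803 IH) (Lpr_af (K15.f264516 IH) (Lpe (K15.f264593 IH) (Lpn (LP (LK LD1_c1 LD2_c17 LD3_c53))))))
theorem f261791 : Led Lsl_dt (LP (LK LD1_c2 LD2_c11 LD3_c56)) = (LP (LK LD1_c2 LD2_c30 LD3_c27)) :=
  Lgr Lrot42 (Lpr_df (K15.f261784 IH) (Lpn (LP (LK LD1_c2 LD2_c30 LD3_c27))))
theorem f183267 : Led Lsl_gt (LP (LK LD1_c1 LD2_c17 LD3_c52)) = (LP (LK LD1_c0 LD2_c35 LD3_c57)) :=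
  Lre_g IH (LK LD1_c1 LD2_c17 LD3_c52) (LK LD1_c0 LD2_c35 LD3_c57) Lrfl Lrfl
theorem f280999 : Led Lsl_dt (LP (LK LD1_c2 LD2_c12 LD3_c2)) = (LP (LK LD1_c1 LD2_c17 LD3_c52)) :=
  Lgr Lrot171 (Lpr_gf (f264596 IH) (Lpr_ef (f280996 IH) (Lpr_dt (f261791 IH) (Lpe (K15.f165878 IH) (Lpe (K14.f166151 IH) (Lpr_et (K14.f166150 IH) (Lpe (K9.f166120 IH) (Lpe (K15.f166149 IH) (Lpr_dt (K15.f183254 IH) (Lpe (f183267 IH) (Lpn (LP (LK LD1_c1 LD2_c17 LD3_c52)))))))))))))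
theorem f179794 : Led Lsl_gt (LP (LK LD1_c1 LD2_c25 LD3_c19)) = (LP (LK LD1_c2 LD2_c59 LD3_c12)) :=
  Lre_g IH (LK LD1_c1 LD2_c25 LD3_c19) (LK LD1_c2 LD2_c59 LD3_c12) Lrfl Lrfl
theorem f281007 : Led Lsl_et (LP (LK LD1_c2 LD2_c12 LD3_c2)) = (LP (LK LD1_c2 LD2_c59 LD3_c12)) :=
  Lgr Lrot122 (Lpr_dt (f280999 IH) (Lpr_gt (f183267 IH) (Lpe (K15.f183254 IH) (Lpr_et (K15.f166149 IH) (Lpr_gt (K9.f166120 IH) (Lpr_dt (K9.f166124 IH) (Lpr_gt (K14.f246059 IH) (Lpr_df (K13.f246025 IH) (Lpr_et (K19.f179784 IH) (Lpr_gt (f179794 IH) (Lpn (LP (LK LD1_c2 LD2_c59 LD3_c12)))))))))))))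
theorem f281012 : Led Lsl_ef (LP (LK LD1_c2 LD2_c12 LD3_c2)) = (LP (LK LD1_c2 LD2_c59 LD3_c12)) :=
  Lgr Lrot88 (Lpr_et (f281007 IH) (Lpn (LP (LK LD1_c2 LD2_c59 LD3_c12))))
theorem f264522 : Led Lsl_gt (LP (LK LD1_c1 LD2_c25 LD3_c11)) = (LP (LK LD1_c2 LD2_c58 LD3_c56)) :=
  Lre_g IH (LK LD1_c1 LD2_c25 LD3_c11) (LK LD1_c2 LD2_c58 LD3_c56) Lrfl Lrfl
theorem f181198 : Led Lsl_gt (LP (LK LD1_c2 LD2_c58 LD3_c57)) = (LP (LK LD1_c1 LD2_c25 LD3_c11)) :=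
  Lre_g IH (LK LD1_c2 LD2_c58 LD3_c57) (LK LD1_c1 LD2_c25 LD3_c11) Lrfl Lrfl
theorem f264528 : Led Lsl_dt (LP (LK LD1_c2 LD2_c58 LD3_c56)) = (LP (LK LD1_c2 LD2_c58 LD3_c57)) :=
  Lgr Lrot171 (Lpe (f264522 IH) (Lpe (K15.f181197 IH) (Lpr_dt (K9.f181175 IH) (Lpe (K9.f55923 IH) (Lpe (K9.f8562 IH) (Lpr_et (K10.f8565 IH) (Lpe (K9.f20642 IH) (Lpe (K16.f7634 IH) (Lpr_dt (K15.f264451 IH) (Lpe (f181198 IH) (Lpn (LP (LK LD1_c2 LD2_c58 LD3_c57)))))))))))))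
theorem f264531 : Led Lsl_df (LP (LK LD1_c2 LD2_c58 LD3_c56)) = (LP (LK LD1_c2 LD2_c58 LD3_c57)) :=
  Lgr Lrot38 (Lpr_dt (f264528 IH) (Lpn (LP (LK LD1_c2 LD2_c58 LD3_c57))))
theorem f8581 : Led Lsl_et (LP (LK LD1_c0 LD2_c28 LD3_c36)) = (LP (LK LD1_c1 LD2_c2 LD3_c46)) :=
  Lre_e IH (LK LD1_c0 LD2_c28 LD3_c36) (LK LD1_c1 LD2_c2 LD3_c46) Lrfl Lrfl
theorem f8582 : Led Lsl_gt (LP (LK LD1_c1 LD2_c2 LD3_c46)) = (LP (LK LD1_c2 LD2_c11 LD3_c35)) :=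
  Lre_g IH (LK LD1_c1 LD2_c2 LD3_c46) (LK LD1_c2 LD2_c11 LD3_c35) Lrfl Lrfl
theorem f264534 : Led Lsl_et (LP (LK LD1_c2 LD2_c58 LD3_c56)) = (LP (LK LD1_c2 LD2_c11 LD3_c35)) :=
  Lgr Lrot122 (Lpr_dt (f264528 IH) (Lpr_gt (f181198 IH) (Lpe (K15.f264451 IH) (Lpr_et (K16.f7634 IH) (Lpr_gt (K9.f20642 IH) (Lpr_dt (K9.f8573 IH) (Lpr_gt (K9.f8579 IH) (Lpe (K9.f8580 IH) (Lpr_et (f8581 IH) (Lpr_gt (f8582 IH) (Lpn (LP (LK LD1_c2 LD2_c11 LD3_c35)))))))))))))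
theorem f264539 : Led Lsl_ef (LP (LK LD1_c2 LD2_c58 LD3_c56)) = (LP (LK LD1_c2 LD2_c11 LD3_c35)) :=
  Lgr Lrot88 (Lpr_et (f264534 IH) (Lpn (LP (LK LD1_c2 LD2_c11 LD3_c35))))
theorem f8578 : Led Lsl_et (LP (LK LD1_c1 LD2_c25 LD3_c22)) = (LP (LK LD1_c0 LD2_c39 LD3_c20)) :=
  Lre_e IH (LK LD1_c1 LD2_c25 LD3_c22) (LK LD1_c0 LD2_c39 LD3_c20) Lrfl Lrfl
theorem f183344 : Led Lsl_dt (LP (LK LD1_c1 LD2_c25 LD3_c22)) = (LP (LK LD1_c1 LD2_c2 LD3_c46)) :=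
  Lgr Lrot77 (Lpe (K19.f183343 IH) (Lpr_df (K9.f183334 IH) (Lpe (K9.f173204 IH) (Lpe (K9.f8580 IH) (Lpe (K19.f183327 IH) (Lpn (LP (LK LD1_c1 LD2_c2 LD3_c46))))))))
theorem f264545 : Led Lsl_df (LP (LK LD1_c2 LD2_c11 LD3_c36)) = (LP (LK LD1_c2 LD2_c11 LD3_c35)) :=
  Lgr Lrot170 (Lpr_gt (K19.f197584 IH) (Lpe (f183344 IH) (Lpr_et (f8578 IH) (Lpr_gt (K9.f6967 IH) (Lpr_dt (K9.f8562 IH) (Lpr_gt (K9.f55923 IH) (Lpe (K9.f181175 IH) (Lpr_et (K15.f181197 IH) (Lpr_gt (f264522 IH) (Lpr_ef (f264539 IH) (Lpn (LP (LK LD1_c2 LD2_c11 LD3_c35)))))))))))))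
theorem f264549 : Led Lsl_et (LP (LK LD1_c2 LD2_c11 LD3_c36)) = (LP (LK LD1_c4 LD2_c29 LD3_c0)) :=
  Lre_e IH (LK LD1_c2 LD2_c11 LD3_c36) (LK LD1_c4 LD2_c29 LD3_c0) Lrfl Lrfl
theorem f264550 : Led Lsl_et (LP (LK LD1_c5 LD2_c35 LD3_c3)) = (LP (LK LD1_c2 LD2_c58 LD3_c57)) :=
  Lgr Lrot71 (Lpe (K19.f197586 IH) (Lpe (f264549 IH) (Lpr_df (f264545 IH) (Lpe (f264534 IH) (Lpr_df (f264531 IH) (Lpn (LP (LK LD1_c2 LD2_c58 LD3_c57))))))))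
theorem f264554 : Led Lsl_ef (LP (LK LD1_c5 LD2_c35 LD3_c3)) = (LP (LK LD1_c2 LD2_c58 LD3_c57)) :=
  Lgr Lrot88 (Lpr_et (f264550 IH) (Lpn (LP (LK LD1_c2 LD2_c58 LD3_c57))))
theorem f264563 : Led Lsl_gt (LP (LK LD1_c5 LD2_c35 LD3_c3)) = (LP (LK LD1_c2 LD2_c43 LD3_c29)) :=
  Lgr Lrot137 (Lpr_ef (f264554 IH) (Lpe (f264531 IH) (Lpe (f264522 IH) (Lpe (K15.f264451 IH) (Lpr_et (K16.f7634 IH) (Lpe (K9.f7633 IH) (Lpe (K9.f7597 IH) (Lpe (K0.f7587 IH) (Lpe (K15.f7610 IH) (Lpe (K15.f7611 IH) (Lpn (LP (LK LD1_c2 LD2_c43 LD3_c29)))))))))))))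
theorem f179800 : Led Lsl_dt (LP (LK LD1_c2 LD2_c59 LD3_c12)) = (LP (LK LD1_c6 LD2_c6 LD3_c14)) :=
  Lre_d IH (LK LD1_c2 LD2_c59 LD3_c12) (LK LD1_c6 LD2_c6 LD3_c14) Lrfl Lrfl
theorem f281017 : Led Lsl_gt (LP (LK LD1_c4 LD2_c11 LD3_c22)) = (LP (LK LD1_c6 LD2_c6 LD3_c14)) :=
  Lgr Lrot112 (Lpr_df (K21.f167670 IH) (Lpr_et (K19.f181813 IH) (Lpe (f264563 IH) (Lpr_ef (f264554 IH) (Lpe (f264531 IH) (Lpe (f264522 IH) (Lpe (K15.f264451 IH) (Lpe (f181803 IH) (Lpr_ef (f281012 IH) (Lpr_dt (f179800 IH) (Lpn (LP (LK LD1_c6 LD2_c6 LD3_c14)))))))))))))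
theorem f179805 : Led Lsl_dt (LP (LK LD1_c6 LD2_c6 LD3_c14)) = (LP (LK LD1_c2 LD2_c59 LD3_c12)) :=
  Lre_d IH (LK LD1_c6 LD2_c6 LD3_c14) (LK LD1_c2 LD2_c59 LD3_c12) Lrfl Lrfl
theorem f246008 : Led Lsl_gf (LP (LK LD1_c2 LD2_c39 LD3_c45)) = (LP (LK LD1_c2 LD2_c59 LD3_c12)) :=
  Lgr Lrot76 (Lpr_af (K19.f246005 IH) (Lpe (K19.f179793 IH) (Lpr_gt (f179794 IH) (Lpn (LP (LK LD1_c2 LD2_c59 LD3_c12))))))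
theorem f183269 : Led Lsl_et (LP (LK LD1_c2 LD2_c42 LD3_c37)) = (LP (LK LD1_c1 LD2_c17 LD3_c51)) :=
  Lre_e IH (LK LD1_c2 LD2_c42 LD3_c37) (LK LD1_c1 LD2_c17 LD3_c51) Lrfl Lrfl
theorem f333727 : Led Lsl_ef (LP (LK LD1_c4 LD2_c17 LD3_c3)) = (LP (LK LD1_c2 LD2_c41 LD3_c42)) :=
  Lgr Lrot73 (Lpr_dt (f333725 IH) (Lpr_et (f183269 IH) (Lpr_dt (K21.f276155 IH) (Lpr_et (K21.f276160 IH) (Lpr_dt (K21.f267743 IH) (Lpn (LP (LK LD1_c2 LD2_c41 LD3_c42))))))))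
theorem f333734 : Led Lsl_gt (LP (LK LD1_c2 LD2_c41 LD3_c44)) = (LP (LK LD1_c4 LD2_c17 LD3_c3)) :=
  Lgr Lrot131 (Lpr_ef (K13.f245827 IH) (Lpe (K13.f245928 IH) (Lpr_gf (f246008 IH) (Lpe (f179805 IH) (Lpe (f281017 IH) (Lpe (K19.f167672 IH) (Lpr_dt (K21.f181811 IH) (Lpr_gf (K21.f276175 IH) (Lpr_df (f333732 IH) (Lpe (f333727 IH) (Lpn (LP (LK LD1_c4 LD2_c17 LD3_c3)))))))))))))
theorem f212620 : Led Lsl_ct (LP (LK LD1_c2 LD2_c12 LD3_c45)) = (LP (LK LD1_c1 LD2_c3 LD3_c24)) :=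
  Lre_c IH (LK LD1_c2 LD2_c12 LD3_c45) (LK LD1_c1 LD2_c3 LD3_c24) Lrfl Lrfl
theorem f170930 : Led Lsl_gt (LP (LK LD1_c8 LD2_c24 LD3_c55)) = (LP (LK LD1_c4 LD2_c12 LD3_c38)) :=
  Lre_g IH (LK LD1_c8 LD2_c24 LD3_c55) (LK LD1_c4 LD2_c12 LD3_c38) Lrfl Lrfl
theorem f333736 : Led Lsl_cf (LP (LK LD1_c8 LD2_c24 LD3_c55)) = (LP (LK LD1_c4 LD2_c17 LD3_c3)) :=
  Lgr Lrot169 (Lpr_gt (f170930 IH) (Lpr_ct (K20.f170934 IH) (Lpr_df (K20.f212554 IH) (Lpe (f212620 IH) (Lpe (K18.f226044 IH) (Lpe (K18.f167683 IH) (Lpe (K13.f245808 IH) (Lpe (K13.f245787 IH) (Lpr_gt (f333734 IH) (Lpn (LP (LK LD1_c4 LD2_c17 LD3_c3))))))))))))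
theorem f300882 : Led Lsl_gf (LP (LK LD1_c8 LD2_c32 LD3_c55)) = (LP (LK LD1_c5 LD2_c23 LD3_c56)) :=
  Lgr Lrot47 (Lpr_gt (K20.f184270 IH) (Lpr_af (K18.f300871 IH) (Lpe (K18.f300879 IH) (Lpn (LP (LK LD1_c5 LD2_c23 LD3_c56))))))
theorem f333748 : Led Lsl_bf (LP (LK LD1_c8 LD2_c32 LD3_c55)) = (LP (LK LD1_c4 LD2_c17 LD3_c3)) :=
  Lgr Lrot34 (Lpr_gf (f300882 IH) (Lpe (K19.f255793 IH) (Lpr_ct (K18.f255769 IH) (Lpe (K19.f300919 IH) (Lpe (K19.f212576 IH) (Lpe (K19.f170936 IH) (Lpe (K20.f170935 IH) (Lpr_ct (K21.f170924 IH) (Lpe (f170930 IH) (Lpr_cf (f333736 IH) (Lpn (LP (LK LD1_c4 LD2_c17 LD3_c3)))))))))))))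
theorem f171073 : Led Lsl_ct (LP (LK LD1_c4 LD2_c51 LD3_c35)) = (LP (LK LD1_c2 LD2_c23 LD3_c39)) :=
  Lre_c IH (LK LD1_c4 LD2_c51 LD3_c35) (LK LD1_c2 LD2_c23 LD3_c39) Lrfl Lrfl
theorem f224894 : Led Lsl_dt (LP (LK LD1_c9 LD2_c35 LD3_c18)) = (LP (LK LD1_c4 LD2_c51 LD3_c35)) :=
  Lre_d IH (LK LD1_c9 LD2_c35 LD3_c18) (LK LD1_c4 LD2_c51 LD3_c35) Lrfl Lrfl
theorem f200079 : Led Lsl_gt (LP (LK LD1_c17 LD2_c39 LD3_c26)) = (LP (LK LD1_c9 LD2_c35 LD3_c18)) :=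
  Lre_g IH (LK LD1_c17 LD2_c39 LD3_c26) (LK LD1_c9 LD2_c35 LD3_c18) Lrfl Lrfl
theorem f200074 : Led Lsl_gf (LP (LK LD1_c16 LD2_c18 LD3_c50)) = (LP (LK LD1_c17 LD2_c39 LD3_c0)) :=
  Lgr Lrot47 (Lpr_gt (K21.f39587 IH) (Lpe (K13.f39590 IH) (Lpr_ff (K13.f200068 IH) (Lpn (LP (LK LD1_c17 LD2_c39 LD3_c0))))))
theorem f325952 : Led Lsl_df (LP (LK LD1_c17 LD2_c39 LD3_c26)) = (LP (LK LD1_c15 LD2_c19 LD3_c2)) :=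
  Lgr Lrot135 (Lpr_gt (f200079 IH) (Lpe (K18.f200078 IH) (Lpr_et (K18.f200077 IH) (Lpr_gt (K11.f171039 IH) (Lpe (K19.f200076 IH) (Lpr_dt (K13.f200058 IH) (Lpe (f200074 IH) (Lpe (K21.f325940 IH) (Lpe (K21.f299326 IH) (Lpr_gt (K21.f325948 IH) (Lpn (LP (LK LD1_c15 LD2_c19 LD3_c2)))))))))))))
theorem f326487 : Led Lsl_gf (LP (LK LD1_c5 LD2_c39 LD3_c20)) = (LP (LK LD1_c8 LD2_c10 LD3_c17)) :=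
  Lgr Lrot144 (Lpr_dt (K19.f314838 IH) (Lpr_gt (K21.f326485 IH) (Lpr_dt (K19.f224896 IH) (Lpe (f171073 IH) (Lpe (f224894 IH) (Lpe (f200079 IH) (Lpr_df (f325952 IH) (Lpe (K21.f325948 IH) (Lpe (K21.f199264 IH) (Lpn (LP (LK LD1_c8 LD2_c10 LD3_c17))))))))))))
theorem f315048 : Led Lsl_bt (LP (LK LD1_c2 LD2_c45 LD3_c54)) = (LP (LK LD1_c5 LD2_c39 LD3_c20)) :=
  Lre_b IH (LK LD1_c2 LD2_c45 LD3_c54) (LK LD1_c5 LD2_c39 LD3_c20) Lrfl Lrfl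
theorem f315050 : Led Lsl_ct (LP (LK LD1_c2 LD2_c45 LD3_c54)) = (LP (LK LD1_c5 LD2_c39 LD3_c55)) :=
  Lre_c IH (LK LD1_c2 LD2_c45 LD3_c54) (LK LD1_c5 LD2_c39 LD3_c55) Lrfl Lrfl
theorem f333750 : Led Lsl_gf (LP (LK LD1_c8 LD2_c24 LD3_c55)) = (LP (LK LD1_c5 LD2_c39 LD3_c55)) :=
  Lgr Lrot126 (Lpr_cf (f333736 IH) (Lpe (f333748 IH) (Lpr_gt (K20.f184270 IH) (Lpr_ct (K20.f184297 IH) (Lpr_gt (K21.f184298 IH) (Lpe (K21.f325395 IH) (Lpr_bt (K20.f199266 IH) (Lpe (f326487 IH) (Lpe (f315048 IH) (Lpr_ct (f315050 IH) (Lpn (LP (LK LD1_c5 LD2_c39 LD3_c55)))))))))))))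
theorem f326592 : Led Lsl_ft (LP (LK LD1_c5 LD2_c39 LD3_c55)) = (LP (LK LD1_c2 LD2_c45 LD3_c53)) :=
  Lre_f IH (LK LD1_c5 LD2_c39 LD3_c55) (LK LD1_c2 LD2_c45 LD3_c53) Lrfl Lrfl
theorem f333752 : Led Lsl_af (LP (LK LD1_c4 LD2_c12 LD3_c38)) = (LP (LK LD1_c2 LD2_c45 LD3_c53)) :=
  Lgr Lrot31 (Lpe (f170930 IH) (Lpr_gf (f333750 IH) (Lpr_ft (f326592 IH) (Lpn (LP (LK LD1_c2 LD2_c45 LD3_c53))))))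
theorem f170929 : Led Lsl_ft (LP (LK LD1_c4 LD2_c12 LD3_c38)) = (LP (LK LD1_c8 LD2_c24 LD3_c56)) :=
  Lre_f IH (LK LD1_c4 LD2_c12 LD3_c38) (LK LD1_c8 LD2_c24 LD3_c56) Lrfl Lrfl
theorem f333761 : Led Lsl_at (LP (LK LD1_c8 LD2_c24 LD3_c56)) = (LP (LK LD1_c5 LD2_c39 LD3_c55)) :=
  Lgr Lrot66 (Lpe (f170929 IH) (Lpr_af (f333752 IH) (Lpe (f326592 IH) (Lpn (LP (LK LD1_c5 LD2_c39 LD3_c55))))))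
theorem f170931 : Led Lsl_gt (LP (LK LD1_c4 LD2_c12 LD3_c38)) = (LP (LK LD1_c8 LD2_c24 LD3_c54)) :=
  Lre_g IH (LK LD1_c4 LD2_c12 LD3_c38) (LK LD1_c8 LD2_c24 LD3_c54) Lrfl Lrfl
theorem f333765 : Led Lsl_gt (LP (LK LD1_c8 LD2_c24 LD3_c54)) = (LP (LK LD1_c5 LD2_c39 LD3_c55)) :=
  Lgr Lrot46 (Lpe (f170931 IH) (Lpr_ft (f170929 IH) (Lpr_at (f333761 IH) (Lpn (LP (LK LD1_c5 LD2_c39 LD3_c55))))))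
theorem f315049 : Led Lsl_ct (LP (LK LD1_c5 LD2_c39 LD3_c55)) = (LP (LK LD1_c2 LD2_c45 LD3_c54)) :=
  Lre_c IH (LK LD1_c5 LD2_c39 LD3_c55) (LK LD1_c2 LD2_c45 LD3_c54) Lrfl Lrfl
theorem f326523 : Led Lsl_dt (LP (LK LD1_c1 LD2_c19 LD3_c18)) = (LP (LK LD1_c2 LD2_c45 LD3_c54)) :=
  Lre_d IH (LK LD1_c1 LD2_c19 LD3_c18) (LK LD1_c2 LD2_c45 LD3_c54) Lrfl Lrfl
theorem f326491 : Led Lsl_ct (LP (LK LD1_c2 LD2_c45 LD3_c45)) = (LP (LK LD1_c1 LD2_c19 LD3_c18)) :=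
  Lre_c IH (LK LD1_c2 LD2_c45 LD3_c45) (LK LD1_c1 LD2_c19 LD3_c18) Lrfl Lrfl
theorem f333767 : Led Lsl_cf (LP (LK LD1_c8 LD2_c24 LD3_c54)) = (LP (LK LD1_c4 LD2_c17 LD3_c2)) :=
  Lgr Lrot169 (Lpr_gt (f333765 IH) (Lpr_ct (f315049 IH) (Lpe (f326523 IH) (Lpe (f326491 IH) (Lpr_gf (K21.f326494 IH) (Lpe (K20.f167717 IH) (Lpe (K18.f167681 IH) (Lpe (K12.f167646 IH) (Lpr_gt (K13.f167716 IH) (Lpn (LP (LK LD1_c4 LD2_c17 LD3_c2))))))))))))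
theorem f167744 : Led Lsl_gt (LP (LK LD1_c16 LD2_c3 LD3_c43)) = (LP (LK LD1_c8 LD2_c33 LD3_c23)) :=
  Lre_g IH (LK LD1_c16 LD2_c3 LD3_c43) (LK LD1_c8 LD2_c33 LD3_c23) Lrfl Lrfl
theorem f199267 : Led Lsl_gt (LP (LK LD1_c8 LD2_c10 LD3_c18)) = (LP (LK LD1_c4 LD2_c4 LD3_c43)) :=
  Lre_g IH (LK LD1_c8 LD2_c10 LD3_c18) (LK LD1_c4 LD2_c4 LD3_c43) Lrfl Lrfl
theorem f315045 : Led Lsl_gt (LP (LK LD1_c5 LD2_c39 LD3_c20)) = (LP (LK LD1_c8 LD2_c10 LD3_c18)) :=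
  Lgr Lrot5 (Lpr_ft (K19.f315036 IH) (Lpr_at (K19.f315037 IH) (Lpe (f199267 IH) (Lpn (LP (LK LD1_c8 LD2_c10 LD3_c18))))))
theorem f199268 : Led Lsl_bt (LP (LK LD1_c15 LD2_c23 LD3_c21)) = (LP (LK LD1_c8 LD2_c10 LD3_c18)) :=
  Lre_b IH (LK LD1_c15 LD2_c23 LD3_c21) (LK LD1_c8 LD2_c10 LD3_c18) Lrfl Lrfl
theorem f333769 : Led Lsl_cf (LP (LK LD1_c16 LD2_c3 LD3_c43)) = (LP (LK LD1_c15 LD2_c23 LD3_c21)) :=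
  Lgr Lrot160 (Lpr_gt (f167744 IH) (Lpe (K17.f167755 IH) (Lpr_bt (K17.f167704 IH) (Lpr_gt (K13.f167716 IH) (Lpe (f333767 IH) (Lpr_gt (f333765 IH) (Lpe (f315050 IH) (Lpr_bt (f315048 IH) (Lpr_gt (f315045 IH) (Lpe (f199268 IH) (Lpn (LP (LK LD1_c15 LD2_c23 LD3_c21)))))))))))))
theorem f260673 : Led Lsl_af (LP (LK LD1_c8 LD2_c33 LD3_c23)) = (LP (LK LD1_c8 LD2_c17 LD3_c19)) :=
  Lgr Lrot0 (Lpr_at (K17.f260671 IH) (Lpn (LP (LK LD1_c8 LD2_c17 LD3_c19))))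
theorem f260688 : Led Lsl_ft (LP (LK LD1_c15 LD2_c35 LD3_c12)) = (LP (LK LD1_c8 LD2_c17 LD3_c19)) :=
  Lre_f IH (LK LD1_c15 LD2_c35 LD3_c12) (LK LD1_c8 LD2_c17 LD3_c19) Lrfl Lrfl
theorem f260689 : Led Lsl_gf (LP (LK LD1_c16 LD2_c3 LD3_c43)) = (LP (LK LD1_c15 LD2_c35 LD3_c12)) :=
  Lgr Lrot47 (Lpr_gt (f167744 IH) (Lpr_af (f260673 IH) (Lpe (f260688 IH) (Lpn (LP (LK LD1_c15 LD2_c35 LD3_c12))))))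
theorem f260685 : Led Lsl_ct (LP (LK LD1_c8 LD2_c17 LD3_c22)) = (LP (LK LD1_c15 LD2_c35 LD3_c12)) :=
  Lre_c IH (LK LD1_c8 LD2_c17 LD3_c22) (LK LD1_c15 LD2_c35 LD3_c12) Lrfl Lrfl
theorem f236279 : Led Lsl_bt (LP (LK LD1_c16 LD2_c3 LD3_c44)) = (LP (LK LD1_c8 LD2_c33 LD3_c24)) :=
  Lre_b IH (LK LD1_c16 LD2_c3 LD3_c44) (LK LD1_c8 LD2_c33 LD3_c24) Lrfl Lrfl
theorem f199265 : Led Lsl_ct (LP (LK LD1_c4 LD2_c51 LD3_c9)) = (LP (LK LD1_c9 LD2_c34 LD3_c17)) :=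
  Lre_c IH (LK LD1_c4 LD2_c51 LD3_c9) (LK LD1_c9 LD2_c34 LD3_c17) Lrfl Lrfl
theorem f199269 : Led Lsl_gt (LP (LK LD1_c9 LD2_c34 LD3_c17)) = (LP (LK LD1_c17 LD2_c37 LD3_c27)) :=
  Lre_g IH (LK LD1_c9 LD2_c34 LD3_c17) (LK LD1_c17 LD2_c37 LD3_c27) Lrfl Lrfl
theorem f333777 : Led Lsl_ct (LP (LK LD1_c16 LD2_c3 LD3_c44)) = (LP (LK LD1_c17 LD2_c37 LD3_c27)) :=
  Lgr Lrot10 (Lpr_bt (f236279 IH) (Lpe (K17.f283155 IH) (Lpr_ct (f260685 IH) (Lpe (f260689 IH) (Lpr_cf (f333769 IH) (Lpr_bt (f199268 IH) (Lpr_gt (f199267 IH) (Lpr_bf (K15.f199246 IH) (Lpr_ct (f199265 IH) (Lpr_gt (f199269 IH) (Lpn (LP (LK LD1_c17 LD2_c37 LD3_c27)))))))))))))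
theorem f295769 : Led Lsl_et (LP (LK LD1_c8 LD2_c16 LD3_c35)) = (LP (LK LD1_c8 LD2_c30 LD3_c16)) :=
  Lgr Lrot87 (Lpr_ef (K18.f295763 IH) (Lpn (LP (LK LD1_c8 LD2_c30 LD3_c16))))
theorem f301415 : Led Lsl_bf (LP (LK LD1_c8 LD2_c17 LD3_c22)) = (LP (LK LD1_c8 LD2_c30 LD3_c16)) :=
  Lgr Lrot96 (Lpr_et (K18.f301413 IH) (Lpe (K21.f295773 IH) (Lpr_et (f295769 IH) (Lpn (LP (LK LD1_c8 LD2_c30 LD3_c16))))))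
theorem f295718 : Led Lsl_gf (LP (LK LD1_c10 LD2_c51 LD3_c58)) = (LP (LK LD1_c15 LD2_c58 LD3_c9)) :=
  Lgr Lrot47 (Lpr_gt (K20.f273702 IH) (Lpr_af (K18.f295706 IH) (Lpe (K18.f243365 IH) (Lpn (LP (LK LD1_c15 LD2_c58 LD3_c9))))))
theorem f199219 : Led Lsl_gt (LP (LK LD1_c9 LD2_c34 LD3_c19)) = (LP (LK LD1_c4 LD2_c51 LD3_c9)) :=
  Lre_g IH (LK LD1_c9 LD2_c34 LD3_c19) (LK LD1_c4 LD2_c51 LD3_c9) Lrfl Lrfl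
theorem f333785 : Led Lsl_bt (LP (LK LD1_c16 LD2_c8 LD3_c57)) = (LP (LK LD1_c9 LD2_c34 LD3_c19)) :=
  Lgr Lrot130 (Lpe (K20.f301131 IH) (Lpr_gf (f295718 IH) (Lpe (K18.f295724 IH) (Lpe (f301415 IH) (Lpr_gf (K17.f283155 IH) (Lpe (f236279 IH) (Lpr_ct (f333777 IH) (Lpe (f199269 IH) (Lpe (f199265 IH) (Lpe (f199219 IH) (Lpn (LP (LK LD1_c9 LD2_c34 LD3_c19)))))))))))))
theorem f168971 : Led Lsl_et (LP (LK LD1_c9 LD2_c43 LD3_c55)) = (LP (LK LD1_c4 LD2_c56 LD3_c5)) :=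
  Lre_e IH (LK LD1_c9 LD2_c43 LD3_c55) (LK LD1_c4 LD2_c56 LD3_c5) Lrfl Lrfl
theorem f311623 : Led Lsl_dt (LP (LK LD1_c9 LD2_c43 LD3_c55)) = (LP (LK LD1_c9 LD2_c34 LD3_c19)) :=
  Lgr Lrot136 (Lpr_et (f168971 IH) (Lpe (K19.f168951 IH) (Lpe (K19.f168970 IH) (Lpr_dt (K14.f168944 IH) (Lpr_gf (K19.f311610 IH) (Lpe (K19.f311616 IH) (Lpe (K12.f199480 IH) (Lpe (K15.f199195 IH) (Lpr_dt (K20.f199211 IH) (Lpe (f199219 IH) (Lpn (LP (LK LD1_c9 LD2_c34 LD3_c19)))))))))))))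
theorem f311627 : Led Lsl_df (LP (LK LD1_c9 LD2_c43 LD3_c55)) = (LP (LK LD1_c9 LD2_c34 LD3_c19)) :=
  Lgr Lrot38 (Lpr_dt (f311623 IH) (Lpn (LP (LK LD1_c9 LD2_c34 LD3_c19))))
theorem f311630 : Led Lsl_bt (LP (LK LD1_c9 LD2_c43 LD3_c55)) = (LP (LK LD1_c17 LD2_c53 LD3_c10)) :=
  Lre_b IH (LK LD1_c9 LD2_c43 LD3_c55) (LK LD1_c17 LD2_c53 LD3_c10) Lrfl Lrfl
theorem f333789 : Led Lsl_df (LP (LK LD1_c16 LD2_c8 LD3_c57)) = (LP (LK LD1_c17 LD2_c53 LD3_c10)) :=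
  Lgr Lrot12 (Lpr_bt (f333785 IH) (Lpe (f311627 IH) (Lpr_bt (f311630 IH) (Lpn (LP (LK LD1_c17 LD2_c53 LD3_c10))))))
theorem f333791 : Led Lsl_dt (LP (LK LD1_c16 LD2_c8 LD3_c57)) = (LP (LK LD1_c17 LD2_c53 LD3_c10)) :=
  Lgr Lrot42 (Lpr_df (f333789 IH) (Lpn (LP (LK LD1_c17 LD2_c53 LD3_c10))))
theorem f236216 : Led Lsl_ct (LP (LK LD1_c5 LD2_c30 LD3_c6)) = (LP (LK LD1_c10 LD2_c51 LD3_c37)) :=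
  Lre_c IH (LK LD1_c5 LD2_c30 LD3_c6) (LK LD1_c10 LD2_c51 LD3_c37) Lrfl Lrfl
theorem f258762 : Led Lsl_gt (LP (LK LD1_c19 LD2_c35 LD3_c33)) = (LP (LK LD1_c10 LD2_c51 LD3_c43)) :=
  Lre_g IH (LK LD1_c19 LD2_c35 LD3_c33) (LK LD1_c10 LD2_c51 LD3_c43) Lrfl Lrfl
theorem f258752 : Led Lsl_dt (LP (LK LD1_c10 LD2_c51 LD3_c43)) = (LP (LK LD1_c19 LD2_c38 LD3_c13)) :=
  Lre_d IH (LK LD1_c10 LD2_c51 LD3_c43) (LK LD1_c19 LD2_c38 LD3_c13) Lrfl Lrfl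
theorem f333800 : Led Lsl_cf (LP (LK LD1_c19 LD2_c38 LD3_c13)) = (LP (LK LD1_c17 LD2_c53 LD3_c10)) :=
  Lgr Lrot14 (Lpe (f258752 IH) (Lpe (f258762 IH) (Lpe (K20.f258763 IH) (Lpe (K18.f258764 IH) (Lpr_ct (f236216 IH) (Lpr_gt (K20.f317559 IH) (Lpr_dt (K21.f317555 IH) (Lpe (K20.f317591 IH) (Lpr_dt (f333791 IH) (Lpn (LP (LK LD1_c17 LD2_c53 LD3_c10))))))))))))
theorem f213165 : Led Lsl_et (LP (LK LD1_c2 LD2_c42 LD3_c17)) = (LP (LK LD1_c5 LD2_c32 LD3_c10)) :=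
  Lre_e IH (LK LD1_c2 LD2_c42 LD3_c17) (LK LD1_c5 LD2_c32 LD3_c10) Lrfl Lrfl
theorem f258743 : Led Lsl_gt (LP (LK LD1_c5 LD2_c32 LD3_c10)) = (LP (LK LD1_c10 LD2_c55 LD3_c61)) :=
  Lre_g IH (LK LD1_c5 LD2_c32 LD3_c10) (LK LD1_c10 LD2_c55 LD3_c61) Lrfl Lrfl
theorem f258746 : Led Lsl_dt (LP (LK LD1_c2 LD2_c41 LD3_c20)) = (LP (LK LD1_c5 LD2_c30 LD3_c8)) :=
  Lre_d IH (LK LD1_c2 LD2_c41 LD3_c20) (LK LD1_c5 LD2_c30 LD3_c8) Lrfl Lrfl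
theorem f258747 : Led Lsl_gt (LP (LK LD1_c10 LD2_c51 LD3_c43)) = (LP (LK LD1_c5 LD2_c30 LD3_c8)) :=
  Lre_g IH (LK LD1_c10 LD2_c51 LD3_c43) (LK LD1_c5 LD2_c30 LD3_c8) Lrfl Lrfl
theorem f258748 : Led Lsl_dt (LP (LK LD1_c19 LD2_c38 LD3_c13)) = (LP (LK LD1_c10 LD2_c51 LD3_c43)) :=
  Lre_d IH (LK LD1_c19 LD2_c38 LD3_c13) (LK LD1_c10 LD2_c51 LD3_c43) Lrfl Lrfl
theorem f258749 : Led Lsl_ef (LP (LK LD1_c10 LD2_c55 LD3_c61)) = (LP (LK LD1_c19 LD2_c38 LD3_c13)) :=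
  Lgr Lrot17 (Lpe (f258743 IH) (Lpe (f213165 IH) (Lpr_dt (K15.f213161 IH) (Lpr_gf (K20.f258691 IH) (Lpe (K14.f175176 IH) (Lpe (K14.f175175 IH) (Lpe (K19.f258745 IH) (Lpr_dt (f258746 IH) (Lpe (f258747 IH) (Lpe (f258748 IH) (Lpn (LP (LK LD1_c19 LD2_c38 LD3_c13)))))))))))))
theorem f333793 : Led Lsl_et (LP (LK LD1_c9 LD2_c43 LD3_c53)) = (LP (LK LD1_c17 LD2_c53 LD3_c10)) :=
  Lre_e IH (LK LD1_c9 LD2_c43 LD3_c53) (LK LD1_c17 LD2_c53 LD3_c10) Lrfl Lrfl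
theorem f333803 : Led Lsl_ct (LP (LK LD1_c10 LD2_c55 LD3_c61)) = (LP (LK LD1_c9 LD2_c43 LD3_c53)) :=
  Lgr Lrot15 (Lpr_ef (f258749 IH) (Lpr_cf (f333800 IH) (Lpe (f333793 IH) (Lpn (LP (LK LD1_c9 LD2_c43 LD3_c53))))))
theorem f333808 : Led Lsl_cf (LP (LK LD1_c10 LD2_c55 LD3_c61)) = (LP (LK LD1_c9 LD2_c43 LD3_c53)) :=
  Lgr Lrot11 (Lpr_ct (f333803 IH) (Lpn (LP (LK LD1_c9 LD2_c43 LD3_c53))))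
theorem f258759 : Led Lsl_gt (LP (LK LD1_c10 LD2_c55 LD3_c61)) = (LP (LK LD1_c5 LD2_c32 LD3_c28)) :=
  Lre_g IH (LK LD1_c10 LD2_c55 LD3_c61) (LK LD1_c5 LD2_c32 LD3_c28) Lrfl Lrfl
theorem f258854 : Led Lsl_ct (LP (LK LD1_c2 LD2_c42 LD3_c26)) = (LP (LK LD1_c5 LD2_c32 LD3_c28)) :=
  Lre_c IH (LK LD1_c2 LD2_c42 LD3_c26) (LK LD1_c5 LD2_c32 LD3_c28) Lrfl Lrfl
theorem f264526 : Led Lsl_bt (LP (LK LD1_c4 LD2_c30 LD3_c2)) = (LP (LK LD1_c2 LD2_c12 LD3_c2)) :=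
  Lre_b IH (LK LD1_c4 LD2_c30 LD3_c2) (LK LD1_c2 LD2_c12 LD3_c2) Lrfl Lrfl
theorem f264603 : Led Lsl_ct (LP (LK LD1_c4 LD2_c30 LD3_c2)) = (LP (LK LD1_c8 LD2_c58 LD3_c12)) :=
  Lre_c IH (LK LD1_c4 LD2_c30 LD3_c2) (LK LD1_c8 LD2_c58 LD3_c12) Lrfl Lrfl
theorem f232105 : Led Lsl_et (LP (LK LD1_c5 LD2_c0 LD3_c36)) = (LP (LK LD1_c9 LD2_c51 LD3_c28)) :=
  Lre_e IH (LK LD1_c5 LD2_c0 LD3_c36) (LK LD1_c9 LD2_c51 LD3_c28) Lrfl Lrfl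
theorem f333794 : Led Lsl_et (LP (LK LD1_c17 LD2_c53 LD3_c10)) = (LP (LK LD1_c9 LD2_c43 LD3_c53)) :=
  Lre_e IH (LK LD1_c17 LD2_c53 LD3_c10) (LK LD1_c9 LD2_c43 LD3_c53) Lrfl Lrfl
theorem f333795 : Led Lsl_gt (LP (LK LD1_c9 LD2_c51 LD3_c28)) = (LP (LK LD1_c9 LD2_c43 LD3_c53)) :=
  Lgr Lrot131 (Lpe (f232105 IH) (Lpr_dt (K13.f232103 IH) (Lpr_gf (K14.f251746 IH) (Lpe (K14.f251727 IH) (Lpe (K14.f234799 IH) (Lpe (K20.f234815 IH) (Lpr_dt (K19.f301127 IH) (Lpe (K20.f243419 IH) (Lpr_df (f333789 IH) (Lpr_et (f333794 IH) (Lpn (LP (LK LD1_c9 LD2_c43 LD3_c53)))))))))))))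
theorem f232106 : Led Lsl_et (LP (LK LD1_c10 LD2_c19 LD3_c29)) = (LP (LK LD1_c5 LD2_c15 LD3_c0)) :=
  Lre_e IH (LK LD1_c10 LD2_c19 LD3_c29) (LK LD1_c5 LD2_c15 LD3_c0) Lrfl Lrfl
theorem f192268 : Led Lsl_et (LP (LK LD1_c4 LD2_c6 LD3_c20)) = (LP (LK LD1_c8 LD2_c13 LD3_c16)) :=
  Lre_e IH (LK LD1_c4 LD2_c6 LD3_c20) (LK LD1_c8 LD2_c13 LD3_c16) Lrfl Lrfl
theorem f263522 : Led Lsl_bf (LP (LK LD1_c10 LD2_c19 LD3_c29)) = (LP (LK LD1_c8 LD2_c13 LD3_c16)) :=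
  Lgr Lrot96 (Lpr_et (f232106 IH) (Lpr_bt (K15.f263480 IH) (Lpr_et (f192268 IH) (Lpn (LP (LK LD1_c8 LD2_c13 LD3_c16))))))
theorem f232018 : Led Lsl_et (LP (LK LD1_c2 LD2_c34 LD3_c21)) = (LP (LK LD1_c4 LD2_c9 LD3_c35)) :=
  Lgr Lrot158 (Lpe (K12.f32435 IH) (Lpr_ef (K13.f232012 IH) (Lpe (K14.f222908 IH) (Lpn (LP (LK LD1_c4 LD2_c9 LD3_c35))))))
theorem f232107 : Led Lsl_dt (LP (LK LD1_c9 LD2_c51 LD3_c28)) = (LP (LK LD1_c10 LD2_c19 LD3_c29)) :=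
  Lgr Lrot77 (Lpe (f232105 IH) (Lpr_df (K13.f232099 IH) (Lpe (f232018 IH) (Lpe (K15.f212244 IH) (Lpe (f232106 IH) (Lpn (LP (LK LD1_c10 LD2_c19 LD3_c29))))))))
theorem f232110 : Led Lsl_df (LP (LK LD1_c9 LD2_c51 LD3_c28)) = (LP (LK LD1_c10 LD2_c19 LD3_c29)) :=
  Lgr Lrot38 (Lpr_dt (f232107 IH) (Lpn (LP (LK LD1_c10 LD2_c19 LD3_c29))))
theorem f192293 : Led Lsl_et (LP (LK LD1_c8 LD2_c13 LD3_c16)) = (LP (LK LD1_c4 LD2_c6 LD3_c20)) :=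
  Lre_e IH (LK LD1_c8 LD2_c13 LD3_c16) (LK LD1_c4 LD2_c6 LD3_c20) Lrfl Lrfl
theorem f220777 : Led Lsl_et (LP (LK LD1_c5 LD2_c20 LD3_c59)) = (LP (LK LD1_c10 LD2_c32 LD3_c2)) :=
  Lre_e IH (LK LD1_c5 LD2_c20 LD3_c59) (LK LD1_c10 LD2_c32 LD3_c2) Lrfl Lrfl
theorem f220778 : Led Lsl_df (LP (LK LD1_c8 LD2_c13 LD3_c16)) = (LP (LK LD1_c10 LD2_c32 LD3_c2)) :=
  Lgr Lrot70 (Lpr_et (f192293 IH) (Lpr_dt (K14.f183628 IH) (Lpr_et (K14.f192278 IH) (Lpr_dt (K15.f220774 IH) (Lpr_et (f220777 IH) (Lpn (LP (LK LD1_c10 LD2_c32 LD3_c2))))))))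
theorem f263529 : Led Lsl_bt (LP (LK LD1_c9 LD2_c51 LD3_c28)) = (LP (LK LD1_c10 LD2_c32 LD3_c2)) :=
  Lgr Lrot95 (Lpr_df (f232110 IH) (Lpr_bf (f263522 IH) (Lpr_df (f220778 IH) (Lpn (LP (LK LD1_c10 LD2_c32 LD3_c2))))))
theorem f263535 : Led Lsl_bf (LP (LK LD1_c9 LD2_c51 LD3_c28)) = (LP (LK LD1_c10 LD2_c32 LD3_c2)) :=
  Lgr Lrot24 (Lpr_bt (f263529 IH) (Lpn (LP (LK LD1_c10 LD2_c32 LD3_c2))))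
theorem f220788 : Led Lsl_ct (LP (LK LD1_c10 LD2_c32 LD3_c2)) = (LP (LK LD1_c5 LD2_c20 LD3_c61)) :=
  Lre_c IH (LK LD1_c10 LD2_c32 LD3_c2) (LK LD1_c5 LD2_c20 LD3_c61) Lrfl Lrfl
theorem f333814 : Led Lsl_gt (LP (LK LD1_c8 LD2_c58 LD3_c12)) = (LP (LK LD1_c5 LD2_c20 LD3_c61)) :=
  Lgr Lrot65 (Lpe (f264603 IH) (Lpr_bt (f264526 IH) (Lpr_gf (f264596 IH) (Lpe (K21.f264599 IH) (Lpr_ct (f258854 IH) (Lpe (f258759 IH) (Lpr_cf (f333808 IH) (Lpe (f333795 IH) (Lpr_bf (f263535 IH) (Lpr_ct (f220788 IH) (Lpn (LP (LK LD1_c5 LD2_c20 LD3_c61)))))))))))))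
theorem f281014 : Led Lsl_bt (LP (LK LD1_c2 LD2_c12 LD3_c2)) = (LP (LK LD1_c4 LD2_c30 LD3_c2)) :=
  Lre_b IH (LK LD1_c2 LD2_c12 LD3_c2) (LK LD1_c4 LD2_c30 LD3_c2) Lrfl Lrfl
theorem f246011 : Led Lsl_bt (LP (LK LD1_c6 LD2_c6 LD3_c13)) = (LP (LK LD1_c2 LD2_c59 LD3_c12)) :=
  Lre_b IH (LK LD1_c6 LD2_c6 LD3_c13) (LK LD1_c2 LD2_c59 LD3_c12) Lrfl Lrfl
theorem f281015 : Led Lsl_et (LP (LK LD1_c4 LD2_c30 LD3_c2)) = (LP (LK LD1_c6 LD2_c6 LD3_c13)) :=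
  Lgr Lrot74 (Lpe (f281014 IH) (Lpr_ef (f281012 IH) (Lpe (f246011 IH) (Lpn (LP (LK LD1_c6 LD2_c6 LD3_c13))))))
theorem f264527 : Led Lsl_ct (LP (LK LD1_c8 LD2_c58 LD3_c12)) = (LP (LK LD1_c4 LD2_c30 LD3_c2)) :=
  Lre_c IH (LK LD1_c8 LD2_c58 LD3_c12) (LK LD1_c4 LD2_c30 LD3_c2) Lrfl Lrfl
theorem f246014 : Led Lsl_ct (LP (LK LD1_c6 LD2_c6 LD3_c13)) = (LP (LK LD1_c11 LD2_c55 LD3_c50)) :=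
  Lre_c IH (LK LD1_c6 LD2_c6 LD3_c13) (LK LD1_c11 LD2_c55 LD3_c50) Lrfl Lrfl
theorem f281021 : Led Lsl_ef (LP (LK LD1_c8 LD2_c58 LD3_c12)) = (LP (LK LD1_c11 LD2_c55 LD3_c50)) :=
  Lgr Lrot28 (Lpr_ct (f264527 IH) (Lpr_et (f281015 IH) (Lpr_ct (f246014 IH) (Lpn (LP (LK LD1_c11 LD2_c55 LD3_c50))))))
theorem f281027 : Led Lsl_dt (LP (LK LD1_c11 LD2_c55 LD3_c50)) = (LP (LK LD1_c21 LD2_c0 LD3_c42)) :=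
  Lre_d IH (LK LD1_c11 LD2_c55 LD3_c50) (LK LD1_c21 LD2_c0 LD3_c42) Lrfl Lrfl
theorem f277036 : Led Lsl_et (LP (LK LD1_c2 LD2_c37 LD3_c6)) = (LP (LK LD1_c5 LD2_c20 LD3_c61)) :=
  Lre_e IH (LK LD1_c2 LD2_c37 LD3_c6) (LK LD1_c5 LD2_c20 LD3_c61) Lrfl Lrfl
theorem f42258 : Led Lsl_dt (LP (LK LD1_c2 LD2_c37 LD3_c6)) = (LP (LK LD1_c5 LD2_c20 LD3_c60)) :=
  Lre_d IH (LK LD1_c2 LD2_c37 LD3_c6) (LK LD1_c5 LD2_c20 LD3_c60) Lrfl Lrfl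
theorem f256818 : Led Lsl_gt (LP (LK LD1_c5 LD2_c20 LD3_c60)) = (LP (LK LD1_c5 LD2_c22 LD3_c46)) :=
  Lgr Lrot49 (Lpe (f42258 IH) (Lpe (K13.f42257 IH) (Lpe (K12.f42256 IH) (Lpr_gt (K9.f42159 IH) (Lpr_dt (K10.f42166 IH) (Lpe (K15.f256816 IH) (Lpr_dt (K15.f256805 IH) (Lpe (K15.f224349 IH) (Lpe (K16.f224275 IH) (Lpn (LP (LK LD1_c5 LD2_c22 LD3_c46))))))))))))
theorem f224358 : Led Lsl_gt (LP (LK LD1_c5 LD2_c22 LD3_c47)) = (LP (LK LD1_c10 LD2_c35 LD3_c51)) :=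
  Lre_g IH (LK LD1_c5 LD2_c22 LD3_c47) (LK LD1_c10 LD2_c35 LD3_c51) Lrfl Lrfl
theorem f224359 : Led Lsl_dt (LP (LK LD1_c10 LD2_c35 LD3_c51)) = (LP (LK LD1_c19 LD2_c11 LD3_c29)) :=
  Lre_d IH (LK LD1_c10 LD2_c35 LD3_c51) (LK LD1_c19 LD2_c11 LD3_c29) Lrfl Lrfl
theorem f333825 : Led Lsl_gf (LP (LK LD1_c21 LD2_c0 LD3_c42)) = (LP (LK LD1_c19 LD2_c11 LD3_c29)) :=
  Lgr Lrot134 (Lpe (f281027 IH) (Lpe (f281021 IH) (Lpr_gt (f333814 IH) (Lpe (f277036 IH) (Lpr_dt (f42258 IH) (Lpr_gt (f256818 IH) (Lpe (K16.f224429 IH) (Lpr_et (K16.f276874 IH) (Lpr_gt (f224358 IH) (Lpr_dt (f224359 IH) (Lpn (LP (LK LD1_c19 LD2_c11 LD3_c29)))))))))))))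
theorem f246013 : Led Lsl_dt (LP (LK LD1_c21 LD2_c0 LD3_c42)) = (LP (LK LD1_c11 LD2_c55 LD3_c50)) :=
  Lre_d IH (LK LD1_c21 LD2_c0 LD3_c42) (LK LD1_c11 LD2_c55 LD3_c50) Lrfl Lrfl
theorem f246012 : Led Lsl_ct (LP (LK LD1_c11 LD2_c55 LD3_c50)) = (LP (LK LD1_c6 LD2_c6 LD3_c13)) :=
  Lre_c IH (LK LD1_c11 LD2_c55 LD3_c50) (LK LD1_c6 LD2_c6 LD3_c13) Lrfl Lrfl
theorem f281029 : Led Lsl_dt (LP (LK LD1_c11 LD2_c55 LD3_c51)) = (LP (LK LD1_c6 LD2_c6 LD3_c13)) :=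
  Lre_d IH (LK LD1_c11 LD2_c55 LD3_c51) (LK LD1_c6 LD2_c6 LD3_c13) Lrfl Lrfl
theorem f333827 : Led Lsl_gf (LP (LK LD1_c11 LD2_c55 LD3_c51)) = (LP (LK LD1_c8 LD2_c22 LD3_c19)) :=
  Lgr Lrot143 (Lpr_dt (f281029 IH) (Lpe (f246012 IH) (Lpe (f246013 IH) (Lpr_gf (f333825 IH) (Lpe (f224359 IH) (Lpe (f224358 IH) (Lpe (K16.f224361 IH) (Lpr_gt (K16.f276748 IH) (Lpe (K20.f276763 IH) (Lpn (LP (LK LD1_c8 LD2_c22 LD3_c19))))))))))))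
theorem f281023 : Led Lsl_dt (LP (LK LD1_c6 LD2_c6 LD3_c13)) = (LP (LK LD1_c11 LD2_c55 LD3_c51)) :=
  Lre_d IH (LK LD1_c6 LD2_c6 LD3_c13) (LK LD1_c11 LD2_c55 LD3_c51) Lrfl Lrfl
theorem f281009 : Led Lsl_bt (LP (LK LD1_c2 LD2_c59 LD3_c12)) = (LP (LK LD1_c6 LD2_c6 LD3_c13)) :=
  Lre_b IH (LK LD1_c2 LD2_c59 LD3_c12) (LK LD1_c6 LD2_c6 LD3_c13) Lrfl Lrfl
theorem f281010 : Led Lsl_ef (LP (LK LD1_c4 LD2_c30 LD3_c2)) = (LP (LK LD1_c6 LD2_c6 LD3_c13)) :=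
  Lgr Lrot29 (Lpr_bt (f264526 IH) (Lpr_et (f281007 IH) (Lpr_bt (f281009 IH) (Lpn (LP (LK LD1_c6 LD2_c6 LD3_c13))))))
theorem f333834 : Led Lsl_gt (LP (LK LD1_c4 LD2_c30 LD3_c2)) = (LP (LK LD1_c2 LD2_c37 LD3_c4)) :=
  Lgr Lrot137 (Lpr_ef (f281010 IH) (Lpr_dt (f281023 IH) (Lpr_gf (f333827 IH) (Lpr_df (K20.f276763 IH) (Lpe (K16.f276765 IH) (Lpr_gf (K21.f42357 IH) (Lpe (K21.f42349 IH) (Lpr_dt (K21.f42319 IH) (Lpe (K21.f42195 IH) (Lpe (K20.f42172 IH) (Lpn (LP (LK LD1_c2 LD2_c37 LD3_c4)))))))))))))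
theorem f281001 : Led Lsl_bt (LP (LK LD1_c1 LD2_c17 LD3_c52)) = (LP (LK LD1_c2 LD2_c42 LD3_c38)) :=
  Lre_b IH (LK LD1_c1 LD2_c17 LD3_c52) (LK LD1_c2 LD2_c42 LD3_c38) Lrfl Lrfl
theorem f281002 : Led Lsl_df (LP (LK LD1_c4 LD2_c30 LD3_c2)) = (LP (LK LD1_c2 LD2_c42 LD3_c38)) :=
  Lgr Lrot12 (Lpr_bt (f264526 IH) (Lpr_dt (f280999 IH) (Lpr_bt (f281001 IH) (Lpn (LP (LK LD1_c2 LD2_c42 LD3_c38))))))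
theorem f42188 : Led Lsl_df (LP (LK LD1_c2 LD2_c37 LD3_c4)) = (LP (LK LD1_c2 LD2_c58 LD3_c32)) :=
  Lgr Lrot38 (Lpr_dt (K20.f42172 IH) (Lpn (LP (LK LD1_c2 LD2_c58 LD3_c32))))
theorem f333838 : Led Lsl_gf (LP (LK LD1_c2 LD2_c42 LD3_c38)) = (LP (LK LD1_c4 LD2_c28 LD3_c21)) :=
  Lgr Lrot138 (Lpe (f281002 IH) (Lpr_gt (f333834 IH) (Lpr_df (f42188 IH) (Lpr_et (K20.f42171 IH) (Lpr_gt (K14.f250432 IH) (Lpe (K18.f249325 IH) (Lpr_dt (K18.f249269 IH) (Lpr_gt (K18.f249213 IH) (Lpr_df (K20.f293798 IH) (Lpr_et (K17.f292174 IH) (Lpn (LP (LK LD1_c4 LD2_c28 LD3_c21)))))))))))))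
theorem f42186 : Led Lsl_ct (LP (LK LD1_c2 LD2_c58 LD3_c32)) = (LP (LK LD1_c6 LD2_c4 LD3_c41)) :=
  Lre_c IH (LK LD1_c2 LD2_c58 LD3_c32) (LK LD1_c6 LD2_c4 LD3_c41) Lrfl Lrfl
theorem f42197 : Led Lsl_dt (LP (LK LD1_c11 LD2_c52 LD3_c57)) = (LP (LK LD1_c6 LD2_c4 LD3_c41)) :=
  Lre_d IH (LK LD1_c11 LD2_c52 LD3_c57) (LK LD1_c6 LD2_c4 LD3_c41) Lrfl Lrfl
theorem f42198 : Led Lsl_gt (LP (LK LD1_c20 LD2_c56 LD3_c13)) = (LP (LK LD1_c11 LD2_c52 LD3_c57)) :=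
  Lre_g IH (LK LD1_c20 LD2_c56 LD3_c13) (LK LD1_c11 LD2_c52 LD3_c57) Lrfl Lrfl
theorem f44674 : Led Lsl_gt (LP (LK LD1_c16 LD2_c36 LD3_c28)) = (LP (LK LD1_c8 LD2_c52 LD3_c60)) :=
  Lre_g IH (LK LD1_c16 LD2_c36 LD3_c28) (LK LD1_c8 LD2_c52 LD3_c60) Lrfl Lrfl
theorem f265460 : Led Lsl_gt (LP (LK LD1_c8 LD2_c54 LD3_c44)) = (LP (LK LD1_c16 LD2_c36 LD3_c28)) :=
  Lgr Lrot5 (Lpr_ft (K16.f265445 IH) (Lpr_at (K16.f265447 IH) (Lpe (f44674 IH) (Lpn (LP (LK LD1_c16 LD2_c36 LD3_c28))))))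
theorem f333842 : Led Lsl_df (LP (LK LD1_c20 LD2_c56 LD3_c13)) = (LP (LK LD1_c16 LD2_c36 LD3_c28)) :=
  Lgr Lrot153 (Lpr_gt (f42198 IH) (Lpr_dt (f42197 IH) (Lpe (f42186 IH) (Lpe (K20.f42172 IH) (Lpe (f333834 IH) (Lpr_df (f281002 IH) (Lpr_gf (f333838 IH) (Lpe (K17.f223411 IH) (Lpr_gt (f265460 IH) (Lpn (LP (LK LD1_c16 LD2_c36 LD3_c28))))))))))))
theorem f42187 : Led Lsl_dt (LP (LK LD1_c6 LD2_c4 LD3_c41)) = (LP (LK LD1_c11 LD2_c52 LD3_c57)) :=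
  Lre_d IH (LK LD1_c6 LD2_c4 LD3_c41) (LK LD1_c11 LD2_c52 LD3_c57) Lrfl Lrfl
theorem f256897 : Led Lsl_et (LP (LK LD1_c6 LD2_c4 LD3_c41)) = (LP (LK LD1_c2 LD2_c58 LD3_c31)) :=
  Lre_e IH (LK LD1_c6 LD2_c4 LD3_c41) (LK LD1_c2 LD2_c58 LD3_c31) Lrfl Lrfl
theorem f256859 : Led Lsl_et (LP (LK LD1_c11 LD2_c52 LD3_c49)) = (LP (LK LD1_c6 LD2_c4 LD3_c38)) :=
  Lre_e IH (LK LD1_c11 LD2_c52 LD3_c49) (LK LD1_c6 LD2_c4 LD3_c38) Lrfl Lrfl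
theorem f292188 : Led Lsl_dt (LP (LK LD1_c15 LD2_c19 LD3_c18)) = (LP (LK LD1_c25 LD2_c10 LD3_c21)) :=
  Lre_d IH (LK LD1_c15 LD2_c19 LD3_c18) (LK LD1_c25 LD2_c10 LD3_c21) Lrfl Lrfl
theorem f218824 : Led Lsl_dt (LP (LK LD1_c8 LD2_c8 LD3_c13)) = (LP (LK LD1_c15 LD2_c19 LD3_c17)) :=
  Lre_d IH (LK LD1_c8 LD2_c8 LD3_c13) (LK LD1_c15 LD2_c19 LD3_c17) Lrfl Lrfl
theorem f293846 : Led Lsl_at (LP (LK LD1_c15 LD2_c19 LD3_c17)) = (LP (LK LD1_c8 LD2_c54 LD3_c27)) :=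
  Lgr Lrot51 (Lpe (f218824 IH) (Lpr_af (K18.f293834 IH) (Lpe (K20.f292819 IH) (Lpn (LP (LK LD1_c8 LD2_c54 LD3_c27))))))
theorem f293861 : Led Lsl_ft (LP (LK LD1_c25 LD2_c10 LD3_c21)) = (LP (LK LD1_c15 LD2_c19 LD3_c17)) :=
  Lre_f IH (LK LD1_c25 LD2_c10 LD3_c21) (LK LD1_c15 LD2_c19 LD3_c17) Lrfl Lrfl
theorem f293862 : Led Lsl_ft (LP (LK LD1_c8 LD2_c54 LD3_c27)) = (LP (LK LD1_c16 LD2_c39 LD3_c54)) :=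
  Lre_f IH (LK LD1_c8 LD2_c54 LD3_c27) (LK LD1_c16 LD2_c39 LD3_c54) Lrfl Lrfl
theorem f293863 : Led Lsl_af (LP (LK LD1_c25 LD2_c10 LD3_c21)) = (LP (LK LD1_c16 LD2_c39 LD3_c54)) :=
  Lgr Lrot45 (Lpr_ft (f293861 IH) (Lpr_at (f293846 IH) (Lpr_ft (f293862 IH) (Lpn (LP (LK LD1_c16 LD2_c39 LD3_c54))))))
theorem f293871 : Led Lsl_gt (LP (LK LD1_c8 LD2_c54 LD3_c27)) = (LP (LK LD1_c16 LD2_c39 LD3_c51)) :=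
  Lre_g IH (LK LD1_c8 LD2_c54 LD3_c27) (LK LD1_c16 LD2_c39 LD3_c51) Lrfl Lrfl
theorem f293872 : Led Lsl_gf (LP (LK LD1_c25 LD2_c10 LD3_c21)) = (LP (LK LD1_c16 LD2_c39 LD3_c51)) :=
  Lgr Lrot76 (Lpr_af (f293863 IH) (Lpe (f293862 IH) (Lpr_gt (f293871 IH) (Lpn (LP (LK LD1_c16 LD2_c39 LD3_c51))))))
theorem f333850 : Led Lsl_dt (LP (LK LD1_c11 LD2_c52 LD3_c49)) = (LP (LK LD1_c16 LD2_c39 LD3_c51)) :=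
  Lgr Lrot136 (Lpr_et (f256859 IH) (Lpe (K15.f250434 IH) (Lpe (f256897 IH) (Lpr_dt (f42187 IH) (Lpe (f42198 IH) (Lpr_df (f333842 IH) (Lpe (f265460 IH) (Lpe (K17.f292189 IH) (Lpr_dt (f292188 IH) (Lpr_gf (f293872 IH) (Lpn (LP (LK LD1_c16 LD2_c39 LD3_c51)))))))))))))
theorem f256868 : Led Lsl_et (LP (LK LD1_c6 LD2_c4 LD3_c52)) = (LP (LK LD1_c2 LD2_c58 LD3_c37)) :=
  Lre_e IH (LK LD1_c6 LD2_c4 LD3_c52) (LK LD1_c2 LD2_c58 LD3_c37) Lrfl Lrfl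
theorem f256869 : Led Lsl_dt (LP (LK LD1_c6 LD2_c4 LD3_c52)) = (LP (LK LD1_c11 LD2_c53 LD3_c7)) :=
  Lre_d IH (LK LD1_c6 LD2_c4 LD3_c52) (LK LD1_c11 LD2_c53 LD3_c7) Lrfl Lrfl
theorem f256870 : Led Lsl_gt (LP (LK LD1_c11 LD2_c53 LD3_c7)) = (LP (LK LD1_c20 LD2_c56 LD3_c33)) :=
  Lre_g IH (LK LD1_c11 LD2_c53 LD3_c7) (LK LD1_c20 LD2_c56 LD3_c33) Lrfl Lrfl
theorem f276568 : Led Lsl_gt (LP (LK LD1_c8 LD2_c54 LD3_c26)) = (LP (LK LD1_c4 LD2_c28 LD3_c10)) :=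
  Lre_g IH (LK LD1_c8 LD2_c54 LD3_c26) (LK LD1_c4 LD2_c28 LD3_c10) Lrfl Lrfl
theorem f276569 : Led Lsl_et (LP (LK LD1_c16 LD2_c39 LD3_c50)) = (LP (LK LD1_c8 LD2_c54 LD3_c26)) :=
  Lre_e IH (LK LD1_c16 LD2_c39 LD3_c50) (LK LD1_c8 LD2_c54 LD3_c26) Lrfl Lrfl
theorem f333859 : Led Lsl_df (LP (LK LD1_c20 LD2_c56 LD3_c33)) = (LP (LK LD1_c16 LD2_c39 LD3_c50)) :=
  Lgr Lrot168 (Lpe (f256870 IH) (Lpe (f256869 IH) (Lpr_et (f256868 IH) (Lpe (K15.f256849 IH) (Lpe (f256859 IH) (Lpr_dt (f333850 IH) (Lpe (f293871 IH) (Lpe (K18.f292809 IH) (Lpe (f276568 IH) (Lpe (f276569 IH) (Lpn (LP (LK LD1_c16 LD2_c39 LD3_c50)))))))))))))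
theorem f276552 : Led Lsl_dt (LP (LK LD1_c5 LD2_c35 LD3_c31)) = (LP (LK LD1_c8 LD2_c54 LD3_c22)) :=
  Lgr Lrot57 (Lpe (K15.f261078 IH) (Lpe (K15.f174938 IH) (Lpr_gt (K14.f223292 IH) (Lpr_dt (K14.f246156 IH) (Lpr_gt (K14.f246158 IH) (Lpr_dt (K14.f253282 IH) (Lpe (K17.f223385 IH) (Lpe (K17.f223391 IH) (Lpr_gf (K17.f276550 IH) (Lpn (LP (LK LD1_c8 LD2_c54 LD3_c22))))))))))))
theorem f276556 : Led Lsl_et (LP (LK LD1_c5 LD2_c35 LD3_c31)) = (LP (LK LD1_c11 LD2_c3 LD3_c12)) :=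
  Lre_e IH (LK LD1_c5 LD2_c35 LD3_c31) (LK LD1_c11 LD2_c3 LD3_c12) Lrfl Lrfl
theorem f333868 : Led Lsl_gf (LP (LK LD1_c6 LD2_c4 LD3_c52)) = (LP (LK LD1_c11 LD2_c3 LD3_c12)) :=
  Lgr Lrot138 (Lpr_dt (f256869 IH) (Lpr_gt (f256870 IH) (Lpr_df (f333859 IH) (Lpr_et (f276569 IH) (Lpr_gt (f276568 IH) (Lpe (K21.f276509 IH) (Lpr_dt (K16.f223376 IH) (Lpr_gt (K16.f223377 IH) (Lpe (f276552 IH) (Lpr_et (f276556 IH) (Lpn (LP (LK LD1_c11 LD2_c3 LD3_c12)))))))))))))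
theorem f244162 : Led Lsl_gt (LP (LK LD1_c6 LD2_c4 LD3_c52)) = (LP (LK LD1_c11 LD2_c53 LD3_c6)) :=
  Lre_g IH (LK LD1_c6 LD2_c4 LD3_c52) (LK LD1_c11 LD2_c53 LD3_c6) Lrfl Lrfl
theorem f333870 : Led Lsl_ft (LP (LK LD1_c11 LD2_c3 LD3_c12)) = (LP (LK LD1_c19 LD2_c54 LD3_c57)) :=
  Lre_f IH (LK LD1_c11 LD2_c3 LD3_c12) (LK LD1_c19 LD2_c54 LD3_c57) Lrfl Lrfl
theorem f333871 : Led Lsl_af (LP (LK LD1_c11 LD2_c53 LD3_c6)) = (LP (LK LD1_c19 LD2_c54 LD3_c57)) :=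
  Lgr Lrot31 (Lpe (f244162 IH) (Lpr_gf (f333868 IH) (Lpr_ft (f333870 IH) (Lpn (LP (LK LD1_c19 LD2_c54 LD3_c57))))))
theorem f247010 : Led Lsl_ct (LP (LK LD1_c11 LD2_c3 LD3_c14)) = (LP (LK LD1_c19 LD2_c54 LD3_c57)) :=
  Lre_c IH (LK LD1_c11 LD2_c3 LD3_c14) (LK LD1_c19 LD2_c54 LD3_c57) Lrfl Lrfl
theorem f333898 : Led Lsl_ct (LP (LK LD1_c11 LD2_c53 LD3_c6)) = (LP (LK LD1_c17 LD2_c48 LD3_c47)) :=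
  Lgr Lrot111 (Lpr_af (f333871 IH) (Lpe (f247010 IH) (Lpr_af (K20.f317282 IH) (Lpn (LP (LK LD1_c17 LD2_c48 LD3_c47))))))
theorem f333901 : Led Lsl_cf (LP (LK LD1_c11 LD2_c53 LD3_c6)) = (LP (LK LD1_c17 LD2_c48 LD3_c47)) :=
  Lgr Lrot11 (Lpr_ct (f333898 IH) (Lpn (LP (LK LD1_c17 LD2_c48 LD3_c47))))
theorem f213984 : Led Lsl_et (LP (LK LD1_c9 LD2_c41 LD3_c0)) = (LP (LK LD1_c4 LD2_c54 LD3_c43)) :=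
  Lre_e IH (LK LD1_c9 LD2_c41 LD3_c0) (LK LD1_c4 LD2_c54 LD3_c43) Lrfl Lrfl
theorem f278900 : Led Lsl_et (LP (LK LD1_c4 LD2_c27 LD3_c51)) = (LP (LK LD1_c8 LD2_c53 LD3_c35)) :=
  Lre_e IH (LK LD1_c4 LD2_c27 LD3_c51) (LK LD1_c8 LD2_c53 LD3_c35) Lrfl Lrfl
theorem f278931 : Led Lsl_cf (LP (LK LD1_c9 LD2_c41 LD3_c0)) = (LP (LK LD1_c8 LD2_c53 LD3_c35)) :=
  Lgr Lrot39 (Lpr_et (f213984 IH) (Lpr_ct (K16.f278909 IH) (Lpr_et (f278900 IH) (Lpn (LP (LK LD1_c8 LD2_c53 LD3_c35))))))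
theorem f333921 : Led Lsl_ft (LP (LK LD1_c11 LD2_c53 LD3_c6)) = (LP (LK LD1_c8 LD2_c53 LD3_c35)) :=
  Lgr Lrot4 (Lpr_cf (f333901 IH) (Lpe (K20.f284814 IH) (Lpr_cf (f278931 IH) (Lpn (LP (LK LD1_c8 LD2_c53 LD3_c35))))))
theorem f333931 : Led Lsl_ff (LP (LK LD1_c11 LD2_c53 LD3_c6)) = (LP (LK LD1_c8 LD2_c53 LD3_c35)) :=
  Lgr Lrot3 (Lpr_ft (f333921 IH) (Lpn (LP (LK LD1_c8 LD2_c53 LD3_c35))))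
theorem f333900 : Led Lsl_et (LP (LK LD1_c11 LD2_c53 LD3_c6)) = (LP (LK LD1_c20 LD2_c56 LD3_c32)) :=
  Lre_e IH (LK LD1_c11 LD2_c53 LD3_c6) (LK LD1_c20 LD2_c56 LD3_c32) Lrfl Lrfl
theorem f333903 : Led Lsl_et (LP (LK LD1_c20 LD2_c56 LD3_c32)) = (LP (LK LD1_c11 LD2_c53 LD3_c6)) :=
  Lre_e IH (LK LD1_c20 LD2_c56 LD3_c32) (LK LD1_c11 LD2_c53 LD3_c6) Lrfl Lrfl
theorem f333904 : Led Lsl_cf (LP (LK LD1_c20 LD2_c56 LD3_c32)) = (LP (LK LD1_c25 LD2_c28 LD3_c61)) :=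
  Lgr Lrot39 (Lpr_et (f333903 IH) (Lpr_ct (f333898 IH) (Lpe (K21.f322130 IH) (Lpn (LP (LK LD1_c25 LD2_c28 LD3_c61))))))
theorem f254848 : Led Lsl_ft (LP (LK LD1_c15 LD2_c34 LD3_c54)) = (LP (LK LD1_c25 LD2_c28 LD3_c61)) :=
  Lre_f IH (LK LD1_c15 LD2_c34 LD3_c54) (LK LD1_c25 LD2_c28 LD3_c61) Lrfl Lrfl
theorem f254840 : Led Lsl_ct (LP (LK LD1_c15 LD2_c17 LD3_c34)) = (LP (LK LD1_c15 LD2_c34 LD3_c54)) :=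
  Lgr Lrot59 (Lpr_cf (K14.f254833 IH) (Lpn (LP (LK LD1_c15 LD2_c34 LD3_c54))))
theorem f333914 : Led Lsl_ft (LP (LK LD1_c20 LD2_c56 LD3_c32)) = (LP (LK LD1_c15 LD2_c17 LD3_c34)) :=
  Lgr Lrot4 (Lpr_cf (f333904 IH) (Lpe (f254848 IH) (Lpe (f254840 IH) (Lpn (LP (LK LD1_c15 LD2_c17 LD3_c34))))))
theorem f333963 : Led Lsl_ft (LP (LK LD1_c8 LD2_c7 LD3_c15)) = (LP (LK LD1_c4 LD2_c27 LD3_c51)) :=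
  Lgr Lrot86 (Lpe (K14.f254832 IH) (Lpe (f333914 IH) (Lpe (f333900 IH) (Lpr_ff (f333931 IH) (Lpe (f278900 IH) (Lpn (LP (LK LD1_c4 LD2_c27 LD3_c51))))))))
theorem f333969 : Led Lsl_af (LP (LK LD1_c5 LD2_c35 LD3_c31)) = (LP (LK LD1_c4 LD2_c27 LD3_c51)) :=
  Lgr Lrot31 (Lpe (K15.f261078 IH) (Lpr_gf (K17.f267281 IH) (Lpr_ft (f333963 IH) (Lpn (LP (LK LD1_c4 LD2_c27 LD3_c51))))))
theorem f333980 : Led Lsl_at (LP (LK LD1_c8 LD2_c54 LD3_c22)) = (LP (LK LD1_c8 LD2_c53 LD3_c34)) :=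
  Lgr Lrot51 (Lpe (f276552 IH) (Lpr_af (f333969 IH) (Lpe (K16.f267111 IH) (Lpn (LP (LK LD1_c8 LD2_c53 LD3_c34))))))
theorem f333989 : Led Lsl_ff (LP (LK LD1_c8 LD2_c54 LD3_c22)) = (LP (LK LD1_c8 LD2_c53 LD3_c31)) :=
  Lgr Lrot52 (Lpr_at (f333980 IH) (Lpe (K16.f278886 IH) (Lpe (K16.f278681 IH) (Lpn (LP (LK LD1_c8 LD2_c53 LD3_c31))))))
theorem f333998 : Led Lsl_ft (LP (LK LD1_c8 LD2_c54 LD3_c22)) = (LP (LK LD1_c8 LD2_c53 LD3_c31)) :=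
  Lgr Lrot48 (Lpr_ff (f333989 IH) (Lpn (LP (LK LD1_c8 LD2_c53 LD3_c31))))
theorem f334006 : Led Lsl_af (LP (LK LD1_c8 LD2_c54 LD3_c23)) = (LP (LK LD1_c8 LD2_c53 LD3_c31)) :=
  Lgr Lrot31 (Lpr_gf (K17.f292350 IH) (Lpr_gf (K17.f276550 IH) (Lpr_ft (f333998 IH) (Lpn (LP (LK LD1_c8 LD2_c53 LD3_c31))))))
theorem f333982 : Led Lsl_af (LP (LK LD1_c8 LD2_c54 LD3_c22)) = (LP (LK LD1_c8 LD2_c53 LD3_c34)) :=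
  Lgr Lrot0 (Lpr_at (f333980 IH) (Lpn (LP (LK LD1_c8 LD2_c53 LD3_c34))))
theorem f334014 : Led Lsl_ft (LP (LK LD1_c8 LD2_c54 LD3_c23)) = (LP (LK LD1_c8 LD2_c53 LD3_c34)) :=
  Lgr Lrot101 (Lpr_af (f334006 IH) (Lpe (f333998 IH) (Lpr_af (f333982 IH) (Lpn (LP (LK LD1_c8 LD2_c53 LD3_c34))))))
theorem f334018 : Led Lsl_ff (LP (LK LD1_c8 LD2_c24 LD3_c19)) = (LP (LK LD1_c8 LD2_c37 LD3_c16)) :=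
  Lgr Lrot23 (Lpe (K17.f278759 IH) (Lpr_ft (f334014 IH) (Lpe (K16.f278893 IH) (Lpn (LP (LK LD1_c8 LD2_c37 LD3_c16))))))
theorem f334026 : Led Lsl_ft (LP (LK LD1_c8 LD2_c24 LD3_c19)) = (LP (LK LD1_c8 LD2_c37 LD3_c16)) :=
  Lgr Lrot48 (Lpr_ff (f334018 IH) (Lpn (LP (LK LD1_c8 LD2_c37 LD3_c16))))
theorem f333985 : Led Lsl_af (LP (LK LD1_c8 LD2_c24 LD3_c11)) = (LP (LK LD1_c8 LD2_c37 LD3_c16)) :=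
  Lgr Lrot68 (Lpr_ct (K17.f278767 IH) (Lpr_at (f333980 IH) (Lpe (K16.f278893 IH) (Lpn (LP (LK LD1_c8 LD2_c37 LD3_c16))))))
theorem f278698 : Led Lsl_cf (LP (LK LD1_c8 LD2_c53 LD3_c31)) = (LP (LK LD1_c8 LD2_c37 LD3_c12)) :=
  Lgr Lrot11 (Lpr_ct (K16.f278685 IH) (Lpn (LP (LK LD1_c8 LD2_c37 LD3_c12))))
theorem f333993 : Led Lsl_ft (LP (LK LD1_c8 LD2_c24 LD3_c11)) = (LP (LK LD1_c8 LD2_c37 LD3_c12)) :=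
  Lgr Lrot4 (Lpr_cf (K17.f278798 IH) (Lpr_ff (f333989 IH) (Lpr_cf (f278698 IH) (Lpn (LP (LK LD1_c8 LD2_c37 LD3_c12))))))
theorem f334028 : Led Lsl_af (LP (LK LD1_c8 LD2_c24 LD3_c19)) = (LP (LK LD1_c8 LD2_c37 LD3_c12)) :=
  Lgr Lrot45 (Lpr_ft (f334026 IH) (Lpe (f333985 IH) (Lpr_ft (f333993 IH) (Lpn (LP (LK LD1_c8 LD2_c37 LD3_c12))))))
theorem f278797 : Led Lsl_et (LP (LK LD1_c8 LD2_c24 LD3_c19)) = (LP (LK LD1_c15 LD2_c48 LD3_c10)) :=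
  Lre_e IH (LK LD1_c8 LD2_c24 LD3_c19) (LK LD1_c15 LD2_c48 LD3_c10) Lrfl Lrfl
theorem f334052 : Led Lsl_et (LP (LK LD1_c16 LD2_c8 LD3_c53)) = (LP (LK LD1_c8 LD2_c37 LD3_c12)) :=
  Lre_e IH (LK LD1_c16 LD2_c8 LD3_c53) (LK LD1_c8 LD2_c37 LD3_c12) Lrfl Lrfl
theorem f334053 : Led Lsl_at (LP (LK LD1_c15 LD2_c48 LD3_c10)) = (LP (LK LD1_c16 LD2_c8 LD3_c53)) :=
  Lgr Lrot80 (Lpe (f278797 IH) (Lpr_af (f334028 IH) (Lpe (f334052 IH) (Lpn (LP (LK LD1_c16 LD2_c8 LD3_c53))))))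
theorem f278741 : Led Lsl_et (LP (LK LD1_c8 LD2_c54 LD3_c23)) = (LP (LK LD1_c16 LD2_c39 LD3_c42)) :=
  Lre_e IH (LK LD1_c8 LD2_c54 LD3_c23) (LK LD1_c16 LD2_c39 LD3_c42) Lrfl Lrfl
theorem f278769 : Led Lsl_et (LP (LK LD1_c15 LD2_c48 LD3_c10)) = (LP (LK LD1_c8 LD2_c24 LD3_c19)) :=
  Lre_e IH (LK LD1_c15 LD2_c48 LD3_c10) (LK LD1_c8 LD2_c24 LD3_c19) Lrfl Lrfl
theorem f278770 : Led Lsl_ct (LP (LK LD1_c16 LD2_c39 LD3_c42)) = (LP (LK LD1_c15 LD2_c48 LD3_c10)) :=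
  Lgr Lrot15 (Lpe (f278741 IH) (Lpr_cf (K17.f278759 IH) (Lpe (f278769 IH) (Lpn (LP (LK LD1_c15 LD2_c48 LD3_c10))))))
theorem f278694 : Led Lsl_et (LP (LK LD1_c16 LD2_c37 LD3_c39)) = (LP (LK LD1_c8 LD2_c53 LD3_c31)) :=
  Lre_e IH (LK LD1_c16 LD2_c37 LD3_c39) (LK LD1_c8 LD2_c53 LD3_c31) Lrfl Lrfl
theorem f189122 : Led Lsl_et (LP (LK LD1_c8 LD2_c37 LD3_c12)) = (LP (LK LD1_c16 LD2_c8 LD3_c53)) :=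
  Lre_e IH (LK LD1_c8 LD2_c37 LD3_c12) (LK LD1_c16 LD2_c8 LD3_c53) Lrfl Lrfl
theorem f278700 : Led Lsl_cf (LP (LK LD1_c16 LD2_c37 LD3_c39)) = (LP (LK LD1_c16 LD2_c8 LD3_c53)) :=
  Lgr Lrot39 (Lpr_et (f278694 IH) (Lpr_ct (K16.f278685 IH) (Lpr_et (f189122 IH) (Lpn (LP (LK LD1_c16 LD2_c8 LD3_c53))))))
theorem f334058 : Led Lsl_af (LP (LK LD1_c16 LD2_c39 LD3_c42)) = (LP (LK LD1_c16 LD2_c37 LD3_c39)) :=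
  Lgr Lrot68 (Lpr_ct (f278770 IH) (Lpr_at (f334053 IH) (Lpe (f278700 IH) (Lpn (LP (LK LD1_c16 LD2_c37 LD3_c39))))))
theorem f278750 : Led Lsl_dt (LP (LK LD1_c16 LD2_c39 LD3_c42)) = (LP (LK LD1_c26 LD2_c38 LD3_c6)) :=
  Lre_d IH (LK LD1_c16 LD2_c39 LD3_c42) (LK LD1_c26 LD2_c38 LD3_c6) Lrfl Lrfl
theorem f292681 : Led Lsl_dt (LP (LK LD1_c26 LD2_c35 LD3_c4)) = (LP (LK LD1_c16 LD2_c37 LD3_c39)) :=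
  Lre_d IH (LK LD1_c26 LD2_c35 LD3_c4) (LK LD1_c16 LD2_c37 LD3_c39) Lrfl Lrfl
theorem f334073 : Led Lsl_at (LP (LK LD1_c26 LD2_c38 LD3_c6)) = (LP (LK LD1_c26 LD2_c35 LD3_c4)) :=
  Lgr Lrot51 (Lpe (f278750 IH) (Lpr_af (f334058 IH) (Lpe (f292681 IH) (Lpn (LP (LK LD1_c26 LD2_c35 LD3_c4))))))
theorem f278737 : Led Lsl_et (LP (LK LD1_c16 LD2_c39 LD3_c42)) = (LP (LK LD1_c8 LD2_c54 LD3_c23)) :=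
  Lre_e IH (LK LD1_c16 LD2_c39 LD3_c42) (LK LD1_c8 LD2_c54 LD3_c23) Lrfl Lrfl
theorem f278738 : Led Lsl_dt (LP (LK LD1_c26 LD2_c38 LD3_c6)) = (LP (LK LD1_c16 LD2_c39 LD3_c42)) :=
  Lre_d IH (LK LD1_c26 LD2_c38 LD3_c6) (LK LD1_c16 LD2_c39 LD3_c42) Lrfl Lrfl
theorem f254842 : Led Lsl_dt (LP (LK LD1_c15 LD2_c17 LD3_c34)) = (LP (LK LD1_c25 LD2_c7 LD3_c60)) :=
  Lre_d IH (LK LD1_c15 LD2_c17 LD3_c34) (LK LD1_c25 LD2_c7 LD3_c60) Lrfl Lrfl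
theorem f278739 : Led Lsl_ef (LP (LK LD1_c26 LD2_c38 LD3_c6)) = (LP (LK LD1_c25 LD2_c7 LD3_c60)) :=
  Lgr Lrot73 (Lpr_dt (f278738 IH) (Lpr_et (f278737 IH) (Lpr_dt (K17.f278730 IH) (Lpr_et (K21.f254846 IH) (Lpr_dt (f254842 IH) (Lpn (LP (LK LD1_c25 LD2_c7 LD3_c60))))))))
theorem f292680 : Led Lsl_et (LP (LK LD1_c26 LD2_c35 LD3_c4)) = (LP (LK LD1_c16 LD2_c37 LD3_c40)) :=
  Lre_e IH (LK LD1_c26 LD2_c35 LD3_c4) (LK LD1_c16 LD2_c37 LD3_c40) Lrfl Lrfl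
theorem f334096 : Led Lsl_af (LP (LK LD1_c25 LD2_c7 LD3_c60)) = (LP (LK LD1_c16 LD2_c37 LD3_c40)) :=
  Lgr Lrot50 (Lpe (f278739 IH) (Lpr_at (f334073 IH) (Lpr_et (f292680 IH) (Lpn (LP (LK LD1_c16 LD2_c37 LD3_c40))))))
theorem f190119 : Led Lsl_et (LP (LK LD1_c11 LD2_c52 LD3_c21)) = (LP (LK LD1_c6 LD2_c4 LD3_c26)) :=
  Lre_e IH (LK LD1_c11 LD2_c52 LD3_c21) (LK LD1_c6 LD2_c4 LD3_c26) Lrfl Lrfl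
theorem f190120 : Led Lsl_dt (LP (LK LD1_c11 LD2_c52 LD3_c21)) = (LP (LK LD1_c20 LD2_c55 LD3_c11)) :=
  Lre_d IH (LK LD1_c11 LD2_c52 LD3_c21) (LK LD1_c20 LD2_c55 LD3_c11) Lrfl Lrfl
theorem f267287 : Led Lsl_gf (LP (LK LD1_c25 LD2_c7 LD3_c60)) = (LP (LK LD1_c20 LD2_c55 LD3_c11)) :=
  Lgr Lrot145 (Lpe (f254842 IH) (Lpr_et (K14.f254832 IH) (Lpe (K17.f267281 IH) (Lpe (K15.f267216 IH) (Lpr_gt (K15.f267278 IH) (Lpe (K15.f54099 IH) (Lpe (K20.f54081 IH) (Lpe (K10.f190148 IH) (Lpe (f190119 IH) (Lpr_dt (f190120 IH) (Lpn (LP (LK LD1_c20 LD2_c55 LD3_c11)))))))))))))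
theorem f334104 : Led Lsl_ft (LP (LK LD1_c26 LD2_c35 LD3_c6)) = (LP (LK LD1_c16 LD2_c37 LD3_c40)) :=
  Lre_f IH (LK LD1_c26 LD2_c35 LD3_c6) (LK LD1_c16 LD2_c37 LD3_c40) Lrfl Lrfl
theorem f334105 : Led Lsl_gf (LP (LK LD1_c20 LD2_c55 LD3_c11)) = (LP (LK LD1_c26 LD2_c35 LD3_c6)) :=
  Lgr Lrot47 (Lpe (f267287 IH) (Lpr_af (f334096 IH) (Lpe (f334104 IH) (Lpn (LP (LK LD1_c26 LD2_c35 LD3_c6))))))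
theorem f190122 : Led Lsl_et (LP (LK LD1_c10 LD2_c37 LD3_c12)) = (LP (LK LD1_c5 LD2_c23 LD3_c20)) :=
  Lre_e IH (LK LD1_c10 LD2_c37 LD3_c12) (LK LD1_c5 LD2_c23 LD3_c20) Lrfl Lrfl
theorem f190123 : Led Lsl_dt (LP (LK LD1_c10 LD2_c37 LD3_c12)) = (LP (LK LD1_c19 LD2_c14 LD3_c17)) :=
  Lre_d IH (LK LD1_c10 LD2_c37 LD3_c12) (LK LD1_c19 LD2_c14 LD3_c17) Lrfl Lrfl
theorem f292565 : Led Lsl_af (LP (LK LD1_c15 LD2_c19 LD3_c8)) = (LP (LK LD1_c8 LD2_c54 LD3_c15)) :=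
  Lgr Lrot45 (Lpr_ft (K17.f220838 IH) (Lpr_at (K10.f190141 IH) (Lpr_ft (K20.f292563 IH) (Lpn (LP (LK LD1_c8 LD2_c54 LD3_c15))))))
theorem f220836 : Led Lsl_dt (LP (LK LD1_c15 LD2_c19 LD3_c8)) = (LP (LK LD1_c25 LD2_c10 LD3_c7)) :=
  Lre_d IH (LK LD1_c15 LD2_c19 LD3_c8) (LK LD1_c25 LD2_c10 LD3_c7) Lrfl Lrfl
theorem f292575 : Led Lsl_dt (LP (LK LD1_c16 LD2_c39 LD3_c24)) = (LP (LK LD1_c8 LD2_c54 LD3_c15)) :=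
  Lre_d IH (LK LD1_c16 LD2_c39 LD3_c24) (LK LD1_c8 LD2_c54 LD3_c15) Lrfl Lrfl
theorem f292608 : Led Lsl_at (LP (LK LD1_c25 LD2_c10 LD3_c7)) = (LP (LK LD1_c16 LD2_c39 LD3_c24)) :=
  Lgr Lrot51 (Lpe (f220836 IH) (Lpr_af (f292565 IH) (Lpe (f292575 IH) (Lpn (LP (LK LD1_c16 LD2_c39 LD3_c24))))))
theorem f220837 : Led Lsl_dt (LP (LK LD1_c25 LD2_c10 LD3_c7)) = (LP (LK LD1_c15 LD2_c19 LD3_c8)) :=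
  Lre_d IH (LK LD1_c25 LD2_c10 LD3_c7) (LK LD1_c15 LD2_c19 LD3_c8) Lrfl Lrfl
theorem f220844 : Led Lsl_ff (LP (LK LD1_c25 LD2_c10 LD3_c7)) = (LP (LK LD1_c19 LD2_c14 LD3_c17)) :=
  Lgr Lrot19 (Lpr_dt (f220837 IH) (Lpr_ft (K17.f220838 IH) (Lpr_dt (f190123 IH) (Lpn (LP (LK LD1_c19 LD2_c14 LD3_c17))))))
theorem f276488 : Led Lsl_gt (LP (LK LD1_c26 LD2_c37 LD3_c50)) = (LP (LK LD1_c16 LD2_c39 LD3_c24)) :=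
  Lre_g IH (LK LD1_c26 LD2_c37 LD3_c50) (LK LD1_c16 LD2_c39 LD3_c24) Lrfl Lrfl
theorem f292612 : Led Lsl_gt (LP (LK LD1_c19 LD2_c14 LD3_c17)) = (LP (LK LD1_c26 LD2_c37 LD3_c50)) :=
  Lgr Lrot5 (Lpe (f220844 IH) (Lpr_at (f292608 IH) (Lpe (f276488 IH) (Lpn (LP (LK LD1_c26 LD2_c37 LD3_c50))))))
theorem f334108 : Led Lsl_dt (LP (LK LD1_c16 LD2_c37 LD3_c41)) = (LP (LK LD1_c26 LD2_c35 LD3_c6)) :=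
  Lre_d IH (LK LD1_c16 LD2_c37 LD3_c41) (LK LD1_c26 LD2_c35 LD3_c6) Lrfl Lrfl
theorem f267291 : Led Lsl_dt (LP (LK LD1_c20 LD2_c55 LD3_c11)) = (LP (LK LD1_c11 LD2_c52 LD3_c21)) :=
  Lre_d IH (LK LD1_c20 LD2_c55 LD3_c11) (LK LD1_c11 LD2_c52 LD3_c21) Lrfl Lrfl
theorem f310625 : Led Lsl_ct (LP (LK LD1_c11 LD2_c52 LD3_c21)) = (LP (LK LD1_c6 LD2_c4 LD3_c27)) :=
  Lre_c IH (LK LD1_c11 LD2_c52 LD3_c21) (LK LD1_c6 LD2_c4 LD3_c27) Lrfl Lrfl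
theorem f7833 : Led Lsl_ct (LP (LK LD1_c5 LD2_c28 LD3_c23)) = (LP (LK LD1_c10 LD2_c47 LD3_c55)) :=
  Lre_c IH (LK LD1_c5 LD2_c28 LD3_c23) (LK LD1_c10 LD2_c47 LD3_c55) Lrfl Lrfl
theorem f334109 : Led Lsl_gt (LP (LK LD1_c10 LD2_c47 LD3_c55)) = (LP (LK LD1_c16 LD2_c37 LD3_c41)) :=
  Lgr Lrot94 (Lpe (f7833 IH) (Lpe (K20.f278997 IH) (Lpr_dt (K21.f325324 IH) (Lpr_gt (K21.f325312 IH) (Lpr_dt (K21.f290175 IH) (Lpe (f310625 IH) (Lpe (f267291 IH) (Lpr_gf (f334105 IH) (Lpe (f334108 IH) (Lpn (LP (LK LD1_c16 LD2_c37 LD3_c41))))))))))))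
theorem f334115 : Led Lsl_et (LP (LK LD1_c19 LD2_c32 LD3_c6)) = (LP (LK LD1_c10 LD2_c47 LD3_c55)) :=
  Lre_e IH (LK LD1_c19 LD2_c32 LD3_c6) (LK LD1_c10 LD2_c47 LD3_c55) Lrfl Lrfl
theorem f334116 : Led Lsl_df (LP (LK LD1_c26 LD2_c37 LD3_c50)) = (LP (LK LD1_c19 LD2_c32 LD3_c6)) :=
  Lgr Lrot168 (Lpe (f292612 IH) (Lpe (f190123 IH) (Lpr_et (f190122 IH) (Lpr_gf (K10.f190113 IH) (Lpe (f190119 IH) (Lpr_dt (f190120 IH) (Lpr_gf (f334105 IH) (Lpe (f334108 IH) (Lpe (f334109 IH) (Lpe (f334115 IH) (Lpn (LP (LK LD1_c19 LD2_c32 LD3_c6)))))))))))))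
theorem f334126 : Led Lsl_gt (LP (LK LD1_c15 LD2_c17 LD3_c34)) = (LP (LK LD1_c10 LD2_c47 LD3_c55)) :=
  Lgr Lrot131 (Lpe (K21.f254846 IH) (Lpe (K17.f278735 IH) (Lpr_gf (K17.f292350 IH) (Lpe (K17.f265467 IH) (Lpr_gf (K17.f276482 IH) (Lpe (K20.f276486 IH) (Lpr_dt (K20.f276487 IH) (Lpe (f276488 IH) (Lpr_df (f334116 IH) (Lpr_et (f334115 IH) (Lpn (LP (LK LD1_c10 LD2_c47 LD3_c55)))))))))))))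
theorem f333916 : Led Lsl_ff (LP (LK LD1_c20 LD2_c56 LD3_c32)) = (LP (LK LD1_c15 LD2_c17 LD3_c34)) :=
  Lgr Lrot3 (Lpr_ft (f333914 IH) (Lpn (LP (LK LD1_c15 LD2_c17 LD3_c34))))
theorem f334128 : Led Lsl_at (LP (LK LD1_c20 LD2_c56 LD3_c32)) = (LP (LK LD1_c16 LD2_c37 LD3_c41)) :=
  Lgr Lrot26 (Lpr_ff (f333916 IH) (Lpr_gt (f334126 IH) (Lpr_gt (f334109 IH) (Lpn (LP (LK LD1_c16 LD2_c37 LD3_c41))))))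
theorem f334135 : Led Lsl_af (LP (LK LD1_c20 LD2_c56 LD3_c32)) = (LP (LK LD1_c16 LD2_c37 LD3_c41)) :=
  Lgr Lrot0 (Lpr_at (f334128 IH) (Lpn (LP (LK LD1_c16 LD2_c37 LD3_c41))))
theorem f326450 : Led Lsl_ft (LP (LK LD1_c8 LD2_c53 LD3_c32)) = (LP (LK LD1_c16 LD2_c37 LD3_c41)) :=
  Lre_f IH (LK LD1_c8 LD2_c53 LD3_c32) (LK LD1_c16 LD2_c37 LD3_c41) Lrfl Lrfl
theorem f299049 : Led Lsl_gt (LP (LK LD1_c8 LD2_c36 LD3_c44)) = (LP (LK LD1_c8 LD2_c7 LD3_c25)) :=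
  Lgr Lrot94 (Lpr_cf (K21.f299009 IH) (Lpe (K19.f298443 IH) (Lpr_dt (K18.f200493 IH) (Lpr_gt (K18.f299047 IH) (Lpr_dt (K21.f216215 IH) (Lpe (K20.f216213 IH) (Lpr_df (K13.f228079 IH) (Lpr_gf (K18.f296352 IH) (Lpr_df (K15.f28883 IH) (Lpn (LP (LK LD1_c8 LD2_c7 LD3_c25))))))))))))
theorem f298412 : Led Lsl_ct (LP (LK LD1_c8 LD2_c53 LD3_c24)) = (LP (LK LD1_c16 LD2_c37 LD3_c23)) :=
  Lre_c IH (LK LD1_c8 LD2_c53 LD3_c24) (LK LD1_c16 LD2_c37 LD3_c23) Lrfl Lrfl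
theorem f326448 : Led Lsl_gf (LP (LK LD1_c16 LD2_c37 LD3_c23)) = (LP (LK LD1_c8 LD2_c53 LD3_c32)) :=
  Lgr Lrot126 (Lpe (f298412 IH) (Lpe (K21.f299013 IH) (Lpr_gt (f299049 IH) (Lpr_ct (K18.f28881 IH) (Lpr_gt (K18.f298889 IH) (Lpe (K18.f200455 IH) (Lpr_bt (f326440 IH) (Lpr_gt (f238106 IH) (Lpe (K20.f238089 IH) (Lpe (K20.f278660 IH) (Lpn (LP (LK LD1_c8 LD2_c53 LD3_c32)))))))))))))
theorem f334282 : Led Lsl_gf (LP (LK LD1_c20 LD2_c56 LD3_c32)) = (LP (LK LD1_c16 LD2_c37 LD3_c23)) :=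
  Lgr Lrot76 (Lpr_af (f334135 IH) (Lpe (f326450 IH) (Lpe (f326448 IH) (Lpn (LP (LK LD1_c16 LD2_c37 LD3_c23))))))
theorem f183278 : Led Lsl_bt (LP (LK LD1_c4 LD2_c30 LD3_c49)) = (LP (LK LD1_c2 LD2_c12 LD3_c20)) :=
  Lre_b IH (LK LD1_c4 LD2_c30 LD3_c49) (LK LD1_c2 LD2_c12 LD3_c20) Lrfl Lrfl
theorem f320522 : Led Lsl_ct (LP (LK LD1_c4 LD2_c30 LD3_c49)) = (LP (LK LD1_c8 LD2_c59 LD3_c53)) :=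
  Lre_c IH (LK LD1_c4 LD2_c30 LD3_c49) (LK LD1_c8 LD2_c59 LD3_c53) Lrfl Lrfl
theorem f195946 : Led Lsl_bt (LP (LK LD1_c10 LD2_c9 LD3_c36)) = (LP (LK LD1_c10 LD2_c19 LD3_c56)) :=
  Lgr Lrot95 (Lpr_df (K20.f195944 IH) (Lpr_bf (K14.f195942 IH) (Lpe (K21.f189700 IH) (Lpn (LP (LK LD1_c10 LD2_c19 LD3_c56))))))
theorem f224220 : Led Lsl_bt (LP (LK LD1_c8 LD2_c26 LD3_c26)) = (LP (LK LD1_c9 LD2_c41 LD3_c6)) :=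
  Lgr Lrot35 (Lpr_ff (K11.f189694 IH) (Lpe (f195946 IH) (Lpr_ff (K12.f224216 IH) (Lpn (LP (LK LD1_c9 LD2_c41 LD3_c6))))))
theorem f221136 : Led Lsl_et (LP (LK LD1_c10 LD2_c53 LD3_c42)) = (LP (LK LD1_c5 LD2_c31 LD3_c4)) :=
  Lre_e IH (LK LD1_c10 LD2_c53 LD3_c42) (LK LD1_c5 LD2_c31 LD3_c4) Lrfl Lrfl
theorem f183730 : Led Lsl_bt (LP (LK LD1_c11 LD2_c55 LD3_c53)) = (LP (LK LD1_c6 LD2_c6 LD3_c16)) :=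
  Lre_b IH (LK LD1_c11 LD2_c55 LD3_c53) (LK LD1_c6 LD2_c6 LD3_c16) Lrfl Lrfl
theorem f183732 : Led Lsl_ef (LP (LK LD1_c11 LD2_c55 LD3_c53)) = (LP (LK LD1_c8 LD2_c26 LD3_c24)) :=
  Lgr Lrot29 (Lpr_bt (f183730 IH) (Lpr_et (K11.f183724 IH) (Lpr_bt (K21.f183731 IH) (Lpn (LP (LK LD1_c8 LD2_c26 LD3_c24))))))
theorem f195822 : Led Lsl_bt (LP (LK LD1_c10 LD2_c43 LD3_c57)) = (LP (LK LD1_c5 LD2_c26 LD3_c23)) :=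
  Lre_b IH (LK LD1_c10 LD2_c43 LD3_c57) (LK LD1_c5 LD2_c26 LD3_c23) Lrfl Lrfl
theorem f195823 : Led Lsl_ff (LP (LK LD1_c10 LD2_c43 LD3_c57)) = (LP (LK LD1_c11 LD2_c55 LD3_c53)) :=
  Lgr Lrot25 (Lpr_bt (f195822 IH) (Lpr_ft (K11.f195820 IH) (Lpr_bt (K12.f183723 IH) (Lpn (LP (LK LD1_c11 LD2_c55 LD3_c53))))))
theorem f196084 : Led Lsl_et (LP (LK LD1_c10 LD2_c43 LD3_c57)) = (LP (LK LD1_c19 LD2_c25 LD3_c15)) :=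
  Lre_e IH (LK LD1_c10 LD2_c43 LD3_c57) (LK LD1_c19 LD2_c25 LD3_c15) Lrfl Lrfl
theorem f221163 : Led Lsl_ff (LP (LK LD1_c10 LD2_c53 LD3_c42)) = (LP (LK LD1_c19 LD2_c25 LD3_c15)) :=
  Lgr Lrot72 (Lpr_et (f221136 IH) (Lpr_ft (K12.f221154 IH) (Lpe (f183732 IH) (Lpe (f195823 IH) (Lpr_et (f196084 IH) (Lpn (LP (LK LD1_c19 LD2_c25 LD3_c15))))))))
theorem f221171 : Led Lsl_bt (LP (LK LD1_c10 LD2_c53 LD3_c42)) = (LP (LK LD1_c5 LD2_c31 LD3_c5)) :=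
  Lre_b IH (LK LD1_c10 LD2_c53 LD3_c42) (LK LD1_c5 LD2_c31 LD3_c5) Lrfl Lrfl
theorem f196083 : Led Lsl_bt (LP (LK LD1_c10 LD2_c43 LD3_c58)) = (LP (LK LD1_c19 LD2_c25 LD3_c15)) :=
  Lre_b IH (LK LD1_c10 LD2_c43 LD3_c58) (LK LD1_c19 LD2_c25 LD3_c15) Lrfl Lrfl
theorem f221172 : Led Lsl_ft (LP (LK LD1_c5 LD2_c31 LD3_c5)) = (LP (LK LD1_c10 LD2_c43 LD3_c58)) :=
  Lgr Lrot75 (Lpe (f221171 IH) (Lpr_ff (f221163 IH) (Lpe (f196083 IH) (Lpn (LP (LK LD1_c10 LD2_c43 LD3_c58))))))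
theorem f221177 : Led Lsl_cf (LP (LK LD1_c5 LD2_c31 LD3_c5)) = (LP (LK LD1_c8 LD2_c26 LD3_c26)) :=
  Lgr Lrot108 (Lpr_ft (f221172 IH) (Lpr_ct (K21.f196075 IH) (Lpe (K11.f189694 IH) (Lpn (LP (LK LD1_c8 LD2_c26 LD3_c26))))))
theorem f329909 : Led Lsl_gt (LP (LK LD1_c8 LD2_c59 LD3_c53)) = (LP (LK LD1_c5 LD2_c31 LD3_c5)) :=
  Lgr Lrot65 (Lpe (f320522 IH) (Lpr_bt (f183278 IH) (Lpe (K20.f7652 IH) (Lpe (K20.f7635 IH) (Lpr_ct (K20.f8635 IH) (Lpe (K20.f196050 IH) (Lpe (K20.f320508 IH) (Lpr_gf (f329870 IH) (Lpe (f224220 IH) (Lpe (f221177 IH) (Lpn (LP (LK LD1_c5 LD2_c31 LD3_c5)))))))))))))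
theorem f195818 : Led Lsl_at (LP (LK LD1_c10 LD2_c43 LD3_c58)) = (LP (LK LD1_c11 LD2_c55 LD3_c55)) :=
  Lgr Lrot80 (Lpe (K21.f195817 IH) (Lpr_af (K11.f195798 IH) (Lpe (K21.f183775 IH) (Lpn (LP (LK LD1_c11 LD2_c55 LD3_c55))))))
theorem f221175 : Led Lsl_af (LP (LK LD1_c5 LD2_c31 LD3_c5)) = (LP (LK LD1_c8 LD2_c27 LD3_c14)) :=
  Lgr Lrot45 (Lpr_ft (f221172 IH) (Lpr_at (f195818 IH) (Lpr_ft (K21.f183790 IH) (Lpn (LP (LK LD1_c8 LD2_c27 LD3_c14))))))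
theorem f329925 : Led Lsl_gf (LP (LK LD1_c8 LD2_c59 LD3_c53)) = (LP (LK LD1_c11 LD2_c55 LD3_c55)) :=
  Lgr Lrot47 (Lpr_gt (f329909 IH) (Lpr_af (f221175 IH) (Lpe (K21.f183790 IH) (Lpn (LP (LK LD1_c11 LD2_c55 LD3_c55))))))
theorem f8611 : Led Lsl_bt (LP (LK LD1_c2 LD2_c11 LD3_c23)) = (LP (LK LD1_c1 LD2_c3 LD3_c3)) :=
  Lre_b IH (LK LD1_c2 LD2_c11 LD3_c23) (LK LD1_c1 LD2_c3 LD3_c3) Lrfl Lrfl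
theorem f320547 : Led Lsl_bt (LP (LK LD1_c5 LD2_c25 LD3_c46)) = (LP (LK LD1_c2 LD2_c39 LD3_c17)) :=
  Lre_b IH (LK LD1_c5 LD2_c25 LD3_c46) (LK LD1_c2 LD2_c39 LD3_c17) Lrfl Lrfl
theorem f41703 : Led Lsl_bf (LP (LK LD1_c5 LD2_c20 LD3_c24)) = (LP (LK LD1_c6 LD2_c4 LD3_c33)) :=
  Lgr Lrot61 (Lpr_ft (K1.f41453 IH) (Lpr_bt (K1.f41444 IH) (Lpr_ft (K1.f41700 IH) (Lpn (LP (LK LD1_c6 LD2_c4 LD3_c33))))))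
theorem f321013 : Led Lsl_ct (LP (LK LD1_c16 LD2_c8 LD3_c39)) = (LP (LK LD1_c8 LD2_c55 LD3_c33)) :=
  Lgr Lrot91 (Lpe (K20.f292497 IH) (Lpe (K20.f292519 IH) (Lpr_ct (K14.f212680 IH) (Lpr_gf (K20.f321006 IH) (Lpe (K20.f320548 IH) (Lpr_bt (f320547 IH) (Lpe (K16.f41499 IH) (Lpr_bf (f41703 IH) (Lpr_ct (K1.f41607 IH) (Lpe (K20.f41637 IH) (Lpn (LP (LK LD1_c8 LD2_c55 LD3_c33)))))))))))))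
theorem f329938 : Led Lsl_bt (LP (LK LD1_c16 LD2_c8 LD3_c39)) = (LP (LK LD1_c15 LD2_c51 LD3_c7)) :=
  Lgr Lrot130 (Lpr_ct (f321013 IH) (Lpe (K20.f41636 IH) (Lpe (K1.f41561 IH) (Lpr_bt (f8611 IH) (Lpe (K20.f183263 IH) (Lpe (f183278 IH) (Lpr_ct (f320522 IH) (Lpr_gf (f329925 IH) (Lpr_cf (K21.f183792 IH) (Lpe (K17.f189696 IH) (Lpn (LP (LK LD1_c15 LD2_c51 LD3_c7)))))))))))))
theorem f41585 : Led Lsl_gt (LP (LK LD1_c4 LD2_c28 LD3_c42)) = (LP (LK LD1_c2 LD2_c11 LD3_c23)) :=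
  Lre_g IH (LK LD1_c4 LD2_c28 LD3_c42) (LK LD1_c2 LD2_c11 LD3_c23) Lrfl Lrfl
theorem f52636 : Led Lsl_at (LP (LK LD1_c4 LD2_c14 LD3_c52)) = (LP (LK LD1_c4 LD2_c14 LD3_c51)) :=
  Lgr Lrot100 (Lpr_af (K10.f52634 IH) (Lpn (LP (LK LD1_c4 LD2_c14 LD3_c51))))
theorem f52886 : Led Lsl_ft (LP (LK LD1_c8 LD2_c27 LD3_c35)) = (LP (LK LD1_c4 LD2_c14 LD3_c52)) :=
  Lre_f IH (LK LD1_c8 LD2_c27 LD3_c35) (LK LD1_c4 LD2_c14 LD3_c52) Lrfl Lrfl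
theorem f52887 : Led Lsl_gt (LP (LK LD1_c8 LD2_c28 LD3_c33)) = (LP (LK LD1_c4 LD2_c14 LD3_c51)) :=
  Lre_g IH (LK LD1_c8 LD2_c28 LD3_c33) (LK LD1_c4 LD2_c14 LD3_c51) Lrfl Lrfl
theorem f52888 : Led Lsl_gt (LP (LK LD1_c8 LD2_c27 LD3_c35)) = (LP (LK LD1_c8 LD2_c28 LD3_c33)) :=
  Lgr Lrot5 (Lpr_ft (f52886 IH) (Lpr_at (f52636 IH) (Lpe (f52887 IH) (Lpn (LP (LK LD1_c8 LD2_c28 LD3_c33))))))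
theorem f27695 : Led Lsl_et (LP (LK LD1_c4 LD2_c50 LD3_c40)) = (LP (LK LD1_c2 LD2_c23 LD3_c8)) :=
  Lre_e IH (LK LD1_c4 LD2_c50 LD3_c40) (LK LD1_c2 LD2_c23 LD3_c8) Lrfl Lrfl
theorem f199422 : Led Lsl_et (LP (LK LD1_c2 LD2_c43 LD3_c36)) = (LP (LK LD1_c1 LD2_c18 LD3_c12)) :=
  Lre_e IH (LK LD1_c2 LD2_c43 LD3_c36) (LK LD1_c1 LD2_c18 LD3_c12) Lrfl Lrfl
theorem f313214 : Led Lsl_df (LP (LK LD1_c2 LD2_c43 LD3_c36)) = (LP (LK LD1_c4 LD2_c50 LD3_c40)) :=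
  Lgr Lrot70 (Lpr_et (f199422 IH) (Lpr_dt (K20.f199392 IH) (Lpr_et (K13.f199341 IH) (Lpr_dt (K19.f313090 IH) (Lpr_et (K20.f231552 IH) (Lpn (LP (LK LD1_c4 LD2_c50 LD3_c40))))))))
theorem f256659 : Led Lsl_af (LP (LK LD1_c4 LD2_c52 LD3_c47)) = (LP (LK LD1_c4 LD2_c3 LD3_c29)) :=
  Lgr Lrot0 (Lpr_at (K15.f256654 IH) (Lpn (LP (LK LD1_c4 LD2_c3 LD3_c29))))
theorem f256701 : Led Lsl_ft (LP (LK LD1_c8 LD2_c7 LD3_c35)) = (LP (LK LD1_c4 LD2_c3 LD3_c29)) :=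
  Lre_f IH (LK LD1_c8 LD2_c7 LD3_c35) (LK LD1_c4 LD2_c3 LD3_c29) Lrfl Lrfl
theorem f313169 : Led Lsl_gt (LP (LK LD1_c8 LD2_c7 LD3_c35)) = (LP (LK LD1_c8 LD2_c9 LD3_c54)) :=
  Lgr Lrot5 (Lpr_ft (f256701 IH) (Lpe (f256659 IH) (Lpr_gf (f313166 IH) (Lpn (LP (LK LD1_c8 LD2_c9 LD3_c54))))))
theorem f313104 : Led Lsl_ct (LP (LK LD1_c11 LD2_c2 LD3_c53)) = (LP (LK LD1_c5 LD2_c35 LD3_c21)) :=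
  Lre_c IH (LK LD1_c11 LD2_c2 LD3_c53) (LK LD1_c5 LD2_c35 LD3_c21) Lrfl Lrfl
theorem f313177 : Led Lsl_gt (LP (LK LD1_c10 LD2_c30 LD3_c54)) = (LP (LK LD1_c11 LD2_c2 LD3_c53)) :=
  Lgr Lrot150 (Lpe (K19.f42449 IH) (Lpr_gf (K19.f310557 IH) (Lpe (K19.f170727 IH) (Lpr_gt (K19.f256640 IH) (Lpr_ct (K15.f256636 IH) (Lpr_gt (f313169 IH) (Lpr_ct (f313172 IH) (Lpe (K21.f313088 IH) (Lpe (f313104 IH) (Lpn (LP (LK LD1_c11 LD2_c2 LD3_c53))))))))))))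
theorem f313179 : Led Lsl_df (LP (LK LD1_c5 LD2_c35 LD3_c21)) = (LP (LK LD1_c4 LD2_c4 LD3_c28)) :=
  Lgr Lrot162 (Lpe (f313104 IH) (Lpe (f313177 IH) (Lpe (K19.f42449 IH) (Lpr_gf (K19.f310557 IH) (Lpr_dt (K19.f187949 IH) (Lpr_gt (K19.f256640 IH) (Lpr_ct (K15.f256636 IH) (Lpr_gt (f313169 IH) (Lpr_ct (f313172 IH) (Lpn (LP (LK LD1_c4 LD2_c4 LD3_c28))))))))))))
theorem f323695 : Led Lsl_gt (LP (LK LD1_c8 LD2_c9 LD3_c55)) = (LP (LK LD1_c9 LD2_c44 LD3_c29)) :=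
  Lgr Lrot137 (Lpe (K21.f313097 IH) (Lpe (f313179 IH) (Lpe (K21.f313087 IH) (Lpr_df (f313214 IH) (Lpr_et (f27695 IH) (Lpr_gf (K15.f231695 IH) (Lpe (K18.f27528 IH) (Lpr_dt (K18.f27421 IH) (Lpr_gf (K21.f323556 IH) (Lpe (K21.f323552 IH) (Lpn (LP (LK LD1_c9 LD2_c44 LD3_c29)))))))))))))
theorem f313125 : Led Lsl_ct (LP (LK LD1_c8 LD2_c9 LD3_c55)) = (LP (LK LD1_c15 LD2_c22 LD3_c42)) :=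
  Lre_c IH (LK LD1_c8 LD2_c9 LD3_c55) (LK LD1_c15 LD2_c22 LD3_c42) Lrfl Lrfl
theorem f313200 : Led Lsl_gf (LP (LK LD1_c8 LD2_c9 LD3_c55)) = (LP (LK LD1_c11 LD2_c8 LD3_c37)) :=
  Lgr Lrot134 (Lpr_df (f313119 IH) (Lpr_et (K21.f168961 IH) (Lpr_gt (K20.f168950 IH) (Lpe (K14.f168941 IH) (Lpr_dt (K14.f168988 IH) (Lpr_gt (K9.f183819 IH) (Lpe (K0.f27527 IH) (Lpr_et (K14.f27525 IH) (Lpr_gt (K14.f224238 IH) (Lpr_dt (K21.f224240 IH) (Lpn (LP (LK LD1_c11 LD2_c8 LD3_c37)))))))))))))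
theorem f28112 : Led Lsl_ct (LP (LK LD1_c24 LD2_c58 LD3_c45)) = (LP (LK LD1_c15 LD2_c9 LD3_c37)) :=
  Lre_c IH (LK LD1_c24 LD2_c58 LD3_c45) (LK LD1_c15 LD2_c9 LD3_c37) Lrfl Lrfl
theorem f313202 : Led Lsl_gt (LP (LK LD1_c15 LD2_c22 LD3_c42)) = (LP (LK LD1_c24 LD2_c58 LD3_c45)) :=
  Lgr Lrot150 (Lpe (f313125 IH) (Lpr_gf (f313200 IH) (Lpe (K21.f224240 IH) (Lpr_gt (K14.f194681 IH) (Lpe (K19.f224234 IH) (Lpr_gt (K19.f52899 IH) (Lpr_ct (K19.f299068 IH) (Lpe (K19.f28036 IH) (Lpe (f28112 IH) (Lpn (LP (LK LD1_c24 LD2_c58 LD3_c45))))))))))))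
theorem f27521 : Led Lsl_ct (LP (LK LD1_c8 LD2_c27 LD3_c35)) = (LP (LK LD1_c4 LD2_c14 LD3_c26)) :=
  Lre_c IH (LK LD1_c8 LD2_c27 LD3_c35) (LK LD1_c4 LD2_c14 LD3_c26) Lrfl Lrfl
theorem f52621 : Led Lsl_gt (LP (LK LD1_c8 LD2_c27 LD3_c34)) = (LP (LK LD1_c15 LD2_c53 LD3_c6)) :=
  Lre_g IH (LK LD1_c8 LD2_c27 LD3_c34) (LK LD1_c15 LD2_c53 LD3_c6) Lrfl Lrfl
theorem f52622 : Led Lsl_gf (LP (LK LD1_c15 LD2_c53 LD3_c9)) = (LP (LK LD1_c15 LD2_c53 LD3_c6)) :=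
  Lgr Lrot76 (Lpr_af (K10.f52613 IH) (Lpe (K18.f50997 IH) (Lpr_gt (f52621 IH) (Lpn (LP (LK LD1_c15 LD2_c53 LD3_c6))))))
theorem f323697 : Led Lsl_dt (LP (LK LD1_c24 LD2_c58 LD3_c45)) = (LP (LK LD1_c15 LD2_c53 LD3_c6)) :=
  Lgr Lrot57 (Lpe (f313202 IH) (Lpe (f313125 IH) (Lpr_gt (f323695 IH) (Lpr_dt (K21.f323552 IH) (Lpe (K21.f323556 IH) (Lpr_dt (K18.f27421 IH) (Lpe (f27521 IH) (Lpe (K10.f27522 IH) (Lpr_gf (f52622 IH) (Lpn (LP (LK LD1_c15 LD2_c53 LD3_c6))))))))))))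
theorem f323700 : Led Lsl_df (LP (LK LD1_c24 LD2_c58 LD3_c45)) = (LP (LK LD1_c15 LD2_c53 LD3_c6)) :=
  Lgr Lrot38 (Lpr_dt (f323697 IH) (Lpn (LP (LK LD1_c15 LD2_c53 LD3_c6))))
theorem f323725 : Led Lsl_ct (LP (LK LD1_c8 LD2_c3 LD3_c7)) = (LP (LK LD1_c8 LD2_c28 LD3_c33)) :=
  Lgr Lrot8 (Lpr_gt (K19.f28108 IH) (Lpe (K19.f27980 IH) (Lpr_gt (K19.f28109 IH) (Lpr_dt (K21.f28110 IH) (Lpe (f28112 IH) (Lpr_df (f323700 IH) (Lpe (f52621 IH) (Lpe (K19.f52885 IH) (Lpe (f52887 IH) (Lpn (LP (LK LD1_c8 LD2_c28 LD3_c33))))))))))))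
theorem f329942 : Led Lsl_bf (LP (LK LD1_c4 LD2_c28 LD3_c42)) = (LP (LK LD1_c8 LD2_c3 LD3_c7)) :=
  Lgr Lrot165 (Lpr_gt (f41585 IH) (Lpr_ct (K1.f41561 IH) (Lpr_gt (K20.f41636 IH) (Lpe (f321013 IH) (Lpr_bt (f329938 IH) (Lpr_gt (K17.f189696 IH) (Lpe (K14.f27420 IH) (Lpr_ct (K19.f27523 IH) (Lpr_gt (f52888 IH) (Lpe (f323725 IH) (Lpn (LP (LK LD1_c8 LD2_c3 LD3_c7)))))))))))))
theorem f310466 : Led Lsl_dt (LP (LK LD1_c4 LD2_c17 LD3_c45)) = (LP (LK LD1_c8 LD2_c34 LD3_c38)) :=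
  Lre_d IH (LK LD1_c4 LD2_c17 LD3_c45) (LK LD1_c8 LD2_c34 LD3_c38) Lrfl Lrfl
theorem f310509 : Led Lsl_bf (LP (LK LD1_c15 LD2_c9 LD3_c40)) = (LP (LK LD1_c8 LD2_c34 LD3_c38)) :=
  Lgr Lrot93 (Lpr_dt (K19.f310506 IH) (Lpr_bt (K19.f310470 IH) (Lpr_dt (f310466 IH) (Lpn (LP (LK LD1_c8 LD2_c34 LD3_c38))))))
theorem f329950 : Led Lsl_et (LP (LK LD1_c4 LD2_c28 LD3_c42)) = (LP (LK LD1_c8 LD2_c34 LD3_c38)) :=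
  Lgr Lrot74 (Lpr_bf (f329942 IH) (Lpe (K19.f28113 IH) (Lpr_bf (f310509 IH) (Lpn (LP (LK LD1_c8 LD2_c34 LD3_c38))))))
theorem f44717 : Led Lsl_dt (LP (LK LD1_c4 LD2_c28 LD3_c42)) = (LP (LK LD1_c8 LD2_c55 LD3_c41)) :=
  Lre_d IH (LK LD1_c4 LD2_c28 LD3_c42) (LK LD1_c8 LD2_c55 LD3_c41) Lrfl Lrfl
theorem f44664 : Led Lsl_gt (LP (LK LD1_c2 LD2_c37 LD3_c24)) = (LP (LK LD1_c5 LD2_c21 LD3_c36)) :=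
  Lre_g IH (LK LD1_c2 LD2_c37 LD3_c24) (LK LD1_c5 LD2_c21 LD3_c36) Lrfl Lrfl
theorem f44675 : Led Lsl_dt (LP (LK LD1_c5 LD2_c24 LD3_c48)) = (LP (LK LD1_c5 LD2_c21 LD3_c36)) :=
  Lre_d IH (LK LD1_c5 LD2_c24 LD3_c48) (LK LD1_c5 LD2_c21 LD3_c36) Lrfl Lrfl
theorem f44676 : Led Lsl_et (LP (LK LD1_c5 LD2_c24 LD3_c48)) = (LP (LK LD1_c10 LD2_c40 LD3_c13)) :=
  Lre_e IH (LK LD1_c5 LD2_c24 LD3_c48) (LK LD1_c10 LD2_c40 LD3_c13) Lrfl Lrfl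
theorem f41569 : Led Lsl_et (LP (LK LD1_c2 LD2_c11 LD3_c23)) = (LP (LK LD1_c1 LD2_c2 LD3_c41)) :=
  Lre_e IH (LK LD1_c2 LD2_c11 LD3_c23) (LK LD1_c1 LD2_c2 LD3_c41) Lrfl Lrfl
theorem f41586 : Led Lsl_dt (LP (LK LD1_c8 LD2_c55 LD3_c41)) = (LP (LK LD1_c4 LD2_c28 LD3_c42)) :=
  Lre_d IH (LK LD1_c8 LD2_c55 LD3_c41) (LK LD1_c4 LD2_c28 LD3_c42) Lrfl Lrfl
theorem f44677 : Led Lsl_gt (LP (LK LD1_c10 LD2_c40 LD3_c13)) = (LP (LK LD1_c8 LD2_c55 LD3_c41)) :=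
  Lgr Lrot137 (Lpe (f44676 IH) (Lpr_dt (f44675 IH) (Lpe (f44664 IH) (Lpr_df (K15.f44643 IH) (Lpr_et (K15.f41599 IH) (Lpe (K11.f41598 IH) (Lpe (f41569 IH) (Lpe (K1.f41540 IH) (Lpe (f41585 IH) (Lpe (f41586 IH) (Lpn (LP (LK LD1_c8 LD2_c55 LD3_c41)))))))))))))
theorem f42548 : Led Lsl_dt (LP (LK LD1_c10 LD2_c36 LD3_c60)) = (LP (LK LD1_c10 LD2_c40 LD3_c13)) :=
  Lre_d IH (LK LD1_c10 LD2_c36 LD3_c60) (LK LD1_c10 LD2_c40 LD3_c13) Lrfl Lrfl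
theorem f316021 : Led Lsl_df (LP (LK LD1_c10 LD2_c47 LD3_c57)) = (LP (LK LD1_c6 LD2_c5 LD3_c26)) :=
  Lgr Lrot38 (Lpr_dt (K20.f316015 IH) (Lpn (LP (LK LD1_c6 LD2_c5 LD3_c26))))
theorem f42635 : Led Lsl_gt (LP (LK LD1_c5 LD2_c24 LD3_c48)) = (LP (LK LD1_c2 LD2_c38 LD3_c57)) :=
  Lre_g IH (LK LD1_c5 LD2_c24 LD3_c48) (LK LD1_c2 LD2_c38 LD3_c57) Lrfl Lrfl
theorem f42550 : Led Lsl_et (LP (LK LD1_c10 LD2_c40 LD3_c13)) = (LP (LK LD1_c5 LD2_c24 LD3_c48)) :=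
  Lre_e IH (LK LD1_c10 LD2_c40 LD3_c13) (LK LD1_c5 LD2_c24 LD3_c48) Lrfl Lrfl
theorem f42546 : Led Lsl_dt (LP (LK LD1_c10 LD2_c40 LD3_c13)) = (LP (LK LD1_c10 LD2_c36 LD3_c60)) :=
  Lre_d IH (LK LD1_c10 LD2_c40 LD3_c13) (LK LD1_c10 LD2_c36 LD3_c60) Lrfl Lrfl
theorem f316060 : Led Lsl_gt (LP (LK LD1_c10 LD2_c47 LD3_c57)) = (LP (LK LD1_c10 LD2_c36 LD3_c60)) :=
  Lgr Lrot139 (Lpr_df (f316021 IH) (Lpe (K20.f8675 IH) (Lpe (K20.f41816 IH) (Lpr_dt (K10.f41818 IH) (Lpe (K1.f41824 IH) (Lpe (K16.f41757 IH) (Lpe (K21.f42553 IH) (Lpe (f42635 IH) (Lpe (f42550 IH) (Lpr_dt (f42546 IH) (Lpn (LP (LK LD1_c10 LD2_c36 LD3_c60)))))))))))))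
theorem f7869 : Led Lsl_dt (LP (LK LD1_c5 LD2_c28 LD3_c23)) = (LP (LK LD1_c10 LD2_c47 LD3_c56)) :=
  Lre_d IH (LK LD1_c5 LD2_c28 LD3_c23) (LK LD1_c10 LD2_c47 LD3_c56) Lrfl Lrfl
theorem f182308 : Led Lsl_dt (LP (LK LD1_c8 LD2_c20 LD3_c33)) = (LP (LK LD1_c15 LD2_c42 LD3_c10)) :=
  Lre_d IH (LK LD1_c8 LD2_c20 LD3_c33) (LK LD1_c15 LD2_c42 LD3_c10) Lrfl Lrfl
theorem f200251 : Led Lsl_ct (LP (LK LD1_c8 LD2_c22 LD3_c50)) = (LP (LK LD1_c4 LD2_c11 LD3_c33)) :=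
  Lre_c IH (LK LD1_c8 LD2_c22 LD3_c50) (LK LD1_c4 LD2_c11 LD3_c33) Lrfl Lrfl
theorem f310161 : Led Lsl_et (LP (LK LD1_c4 LD2_c11 LD3_c33)) = (LP (LK LD1_c4 LD2_c17 LD3_c46)) :=
  Lgr Lrot158 (Lpe (f200251 IH) (Lpr_ef (K19.f310154 IH) (Lpe (K20.f310160 IH) (Lpn (LP (LK LD1_c4 LD2_c17 LD3_c46))))))
theorem f316048 : Led Lsl_gf (LP (LK LD1_c15 LD2_c42 LD3_c10)) = (LP (LK LD1_c11 LD2_c54 LD3_c28)) :=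
  Lgr Lrot134 (Lpe (f182308 IH) (Lpr_et (K21.f254000 IH) (Lpe (K21.f254002 IH) (Lpe (K21.f182225 IH) (Lpe (K21.f182223 IH) (Lpe (K20.f300444 IH) (Lpr_df (K19.f200249 IH) (Lpr_et (f310161 IH) (Lpr_gt (K20.f310192 IH) (Lpr_dt (K20.f316041 IH) (Lpn (LP (LK LD1_c11 LD2_c54 LD3_c28)))))))))))))
theorem f322583 : Led Lsl_gf (LP (LK LD1_c10 LD2_c47 LD3_c56)) = (LP (LK LD1_c8 LD2_c35 LD3_c51)) :=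
  Lgr Lrot141 (Lpe (K20.f310317 IH) (Lpr_dt (K20.f316041 IH) (Lpe (f316048 IH) (Lpe (f182308 IH) (Lpr_et (K21.f254000 IH) (Lpe (K21.f254002 IH) (Lpe (K21.f184447 IH) (Lpr_gt (K20.f322578 IH) (Lpe (K21.f179834 IH) (Lpr_et (K21.f179829 IH) (Lpn (LP (LK LD1_c8 LD2_c35 LD3_c51)))))))))))))
theorem f329957 : Led Lsl_gf (LP (LK LD1_c11 LD2_c53 LD3_c25)) = (LP (LK LD1_c8 LD2_c34 LD3_c38)) :=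
  Lgr Lrot141 (Lpe (K21.f325368 IH) (Lpr_dt (K21.f325366 IH) (Lpe (f322583 IH) (Lpe (f7869 IH) (Lpr_et (K20.f310323 IH) (Lpr_gt (f316060 IH) (Lpr_dt (f42548 IH) (Lpr_gt (f44677 IH) (Lpe (f44717 IH) (Lpr_et (f329950 IH) (Lpn (LP (LK LD1_c8 LD2_c34 LD3_c38)))))))))))))
theorem f249164 : Led Lsl_ef (LP (LK LD1_c5 LD2_c12 LD3_c6)) = (LP (LK LD1_c5 LD2_c5 LD3_c27)) :=
  Lgr Lrot88 (Lpr_et (K21.f249157 IH) (Lpn (LP (LK LD1_c5 LD2_c5 LD3_c27))))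
theorem f322539 : Led Lsl_dt (LP (LK LD1_c15 LD2_c41 LD3_c46)) = (LP (LK LD1_c15 LD2_c47 LD3_c27)) :=
  Lgr Lrot77 (Lpe (K21.f249155 IH) (Lpe (K21.f249146 IH) (Lpr_ef (f249164 IH) (Lpe (K21.f249202 IH) (Lpr_ef (K21.f322532 IH) (Lpn (LP (LK LD1_c15 LD2_c47 LD3_c27))))))))
theorem f316455 : Led Lsl_et (LP (LK LD1_c8 LD2_c34 LD3_c15)) = (LP (LK LD1_c4 LD2_c18 LD3_c6)) :=
  Lgr Lrot87 (Lpr_ef (K20.f316423 IH) (Lpn (LP (LK LD1_c4 LD2_c18 LD3_c6))))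
theorem f316459 : Led Lsl_gf (LP (LK LD1_c16 LD2_c5 LD3_c10)) = (LP (LK LD1_c15 LD2_c42 LD3_c10)) :=
  Lgr Lrot134 (Lpe (K20.f7983 IH) (Lpr_et (f316455 IH) (Lpr_gt (K20.f167524 IH) (Lpe (K20.f167530 IH) (Lpr_dt (K18.f167503 IH) (Lpr_gt (K14.f253988 IH) (Lpr_df (K14.f182260 IH) (Lpr_et (K15.f182264 IH) (Lpr_gt (K21.f182286 IH) (Lpr_dt (f182308 IH) (Lpn (LP (LK LD1_c15 LD2_c42 LD3_c10)))))))))))))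
theorem f322534 : Led Lsl_gf (LP (LK LD1_c15 LD2_c42 LD3_c11)) = (LP (LK LD1_c15 LD2_c47 LD3_c27)) :=
  Lgr Lrot141 (Lpe (K21.f254000 IH) (Lpr_dt (f182308 IH) (Lpe (f316459 IH) (Lpe (K20.f7983 IH) (Lpr_et (f316455 IH) (Lpr_gt (K20.f167524 IH) (Lpr_dt (K19.f167435 IH) (Lpr_gt (K21.f167518 IH) (Lpe (K21.f249202 IH) (Lpr_et (K21.f322526 IH) (Lpn (LP (LK LD1_c15 LD2_c47 LD3_c27)))))))))))))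
theorem f329954 : Led Lsl_et (LP (LK LD1_c4 LD2_c17 LD3_c45)) = (LP (LK LD1_c8 LD2_c34 LD3_c39)) :=
  Lre_e IH (LK LD1_c4 LD2_c17 LD3_c45) (LK LD1_c8 LD2_c34 LD3_c39) Lrfl Lrfl
theorem f329959 : Led Lsl_gt (LP (LK LD1_c16 LD2_c2 LD3_c42)) = (LP (LK LD1_c8 LD2_c34 LD3_c39)) :=
  Lgr Lrot131 (Lpe (K21.f253999 IH) (Lpr_dt (K21.f253997 IH) (Lpr_gf (f322534 IH) (Lpe (f322539 IH) (Lpe (K21.f325389 IH) (Lpe (K21.f179822 IH) (Lpe (K21.f325374 IH) (Lpr_gf (f329957 IH) (Lpe (f310466 IH) (Lpr_et (f329954 IH) (Lpn (LP (LK LD1_c8 LD2_c34 LD3_c39)))))))))))))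
theorem f329962 : Led Lsl_gf (LP (LK LD1_c5 LD2_c28 LD3_c25)) = (LP (LK LD1_c8 LD2_c53 LD3_c24)) :=
  Lgr Lrot134 (Lpe (K12.f7784 IH) (Lpr_et (K12.f231085 IH) (Lpr_gt (f178621 IH) (Lpe (K21.f231089 IH) (Lpr_dt (f322539 IH) (Lpe (f322534 IH) (Lpe (K21.f253997 IH) (Lpr_et (K21.f253999 IH) (Lpr_gt (f329959 IH) (Lpe (K21.f310495 IH) (Lpn (LP (LK LD1_c8 LD2_c53 LD3_c24)))))))))))))
theorem f315958 : Led Lsl_ct (LP (LK LD1_c6 LD2_c4 LD3_c60)) = (LP (LK LD1_c2 LD2_c58 LD3_c41)) :=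
  Lre_c IH (LK LD1_c6 LD2_c4 LD3_c60) (LK LD1_c2 LD2_c58 LD3_c41) Lrfl Lrfl
theorem f292678 : Led Lsl_dt (LP (LK LD1_c11 LD2_c53 LD3_c20)) = (LP (LK LD1_c6 LD2_c4 LD3_c60)) :=
  Lre_d IH (LK LD1_c11 LD2_c53 LD3_c20) (LK LD1_c6 LD2_c4 LD3_c60) Lrfl Lrfl
theorem f292671 : Led Lsl_gt (LP (LK LD1_c20 LD2_c56 LD3_c57)) = (LP (LK LD1_c11 LD2_c53 LD3_c20)) :=
  Lre_g IH (LK LD1_c20 LD2_c56 LD3_c57) (LK LD1_c11 LD2_c53 LD3_c20) Lrfl Lrfl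
theorem f334284 : Led Lsl_dt (LP (LK LD1_c20 LD2_c56 LD3_c32)) = (LP (LK LD1_c20 LD2_c56 LD3_c57)) :=
  Lgr Lrot57 (Lpr_gf (f334282 IH) (Lpe (f298412 IH) (Lpe (f329962 IH) (Lpe (K20.f7770 IH) (Lpr_gt (K20.f315941 IH) (Lpe (K21.f300855 IH) (Lpe (f315958 IH) (Lpe (f292678 IH) (Lpe (f292671 IH) (Lpn (LP (LK LD1_c20 LD2_c56 LD3_c57))))))))))))
theorem f254844 : Led Lsl_dt (LP (LK LD1_c25 LD2_c7 LD3_c60)) = (LP (LK LD1_c15 LD2_c17 LD3_c34)) :=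
  Lre_d IH (LK LD1_c25 LD2_c7 LD3_c60) (LK LD1_c15 LD2_c17 LD3_c34) Lrfl Lrfl
theorem f334296 : Led Lsl_ff (LP (LK LD1_c25 LD2_c7 LD3_c60)) = (LP (LK LD1_c20 LD2_c56 LD3_c57)) :=
  Lgr Lrot19 (Lpr_dt (f254844 IH) (Lpe (f333916 IH) (Lpr_dt (f334284 IH) (Lpn (LP (LK LD1_c20 LD2_c56 LD3_c57))))))
theorem f334309 : Led Lsl_ft (LP (LK LD1_c25 LD2_c7 LD3_c60)) = (LP (LK LD1_c20 LD2_c56 LD3_c57)) :=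
  Lgr Lrot48 (Lpr_ff (f334296 IH) (Lpn (LP (LK LD1_c20 LD2_c56 LD3_c57))))
theorem f283458 : Led Lsl_dt (LP (LK LD1_c20 LD2_c56 LD3_c59)) = (LP (LK LD1_c11 LD2_c53 LD3_c21)) :=
  Lre_d IH (LK LD1_c20 LD2_c56 LD3_c59) (LK LD1_c11 LD2_c53 LD3_c21) Lrfl Lrfl
theorem f325772 : Led Lsl_gt (LP (LK LD1_c25 LD2_c7 LD3_c60)) = (LP (LK LD1_c20 LD2_c56 LD3_c59)) :=
  Lgr Lrot49 (Lpe (f254842 IH) (Lpr_gf (K21.f325770 IH) (Lpe (K21.f7830 IH) (Lpr_gt (K21.f7825 IH) (Lpe (K12.f7794 IH) (Lpr_gt (K20.f7827 IH) (Lpr_dt (K20.f315920 IH) (Lpe (K17.f283444 IH) (Lpe (f283458 IH) (Lpn (LP (LK LD1_c20 LD2_c56 LD3_c59))))))))))))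
theorem f334107 : Led Lsl_dt (LP (LK LD1_c26 LD2_c35 LD3_c6)) = (LP (LK LD1_c16 LD2_c37 LD3_c41)) :=
  Lre_d IH (LK LD1_c26 LD2_c35 LD3_c6) (LK LD1_c16 LD2_c37 LD3_c41) Lrfl Lrfl
theorem f334288 : Led Lsl_af (LP (LK LD1_c26 LD2_c35 LD3_c6)) = (LP (LK LD1_c20 LD2_c56 LD3_c57)) :=
  Lgr Lrot117 (Lpr_dt (f334107 IH) (Lpe (f334135 IH) (Lpr_dt (f334284 IH) (Lpn (LP (LK LD1_c20 LD2_c56 LD3_c57))))))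
theorem f334311 : Led Lsl_gt (LP (LK LD1_c20 LD2_c56 LD3_c59)) = (LP (LK LD1_c26 LD2_c35 LD3_c6)) :=
  Lgr Lrot46 (Lpe (f325772 IH) (Lpr_ft (f334309 IH) (Lpe (f334288 IH) (Lpn (LP (LK LD1_c26 LD2_c35 LD3_c6))))))
theorem f334313 : Led Lsl_ft (LP (LK LD1_c20 LD2_c56 LD3_c59)) = (LP (LK LD1_c11 LD2_c53 LD3_c20)) :=
  Lre_f IH (LK LD1_c20 LD2_c56 LD3_c59) (LK LD1_c11 LD2_c53 LD3_c20) Lrfl Lrfl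
theorem f334314 : Led Lsl_at (LP (LK LD1_c11 LD2_c53 LD3_c20)) = (LP (LK LD1_c20 LD2_c55 LD3_c11)) :=
  Lgr Lrot26 (Lpe (f334313 IH) (Lpr_gt (f334311 IH) (Lpe (f334105 IH) (Lpn (LP (LK LD1_c20 LD2_c55 LD3_c11))))))
theorem f334318 : Led Lsl_af (LP (LK LD1_c6 LD2_c4 LD3_c60)) = (LP (LK LD1_c11 LD2_c52 LD3_c21)) :=
  Lgr Lrot117 (Lpr_dt (K20.f292469 IH) (Lpr_at (f334314 IH) (Lpr_dt (f267291 IH) (Lpn (LP (LK LD1_c11 LD2_c52 LD3_c21))))))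
theorem f283463 : Led Lsl_ft (LP (LK LD1_c6 LD2_c4 LD3_c60)) = (LP (LK LD1_c11 LD2_c53 LD3_c21)) :=
  Lre_f IH (LK LD1_c6 LD2_c4 LD3_c60) (LK LD1_c11 LD2_c53 LD3_c21) Lrfl Lrfl
theorem f334320 : Led Lsl_ft (LP (LK LD1_c20 LD2_c55 LD3_c12)) = (LP (LK LD1_c11 LD2_c52 LD3_c21)) :=
  Lre_f IH (LK LD1_c20 LD2_c55 LD3_c12) (LK LD1_c11 LD2_c52 LD3_c21) Lrfl Lrfl
theorem f334321 : Led Lsl_at (LP (LK LD1_c11 LD2_c53 LD3_c21)) = (LP (LK LD1_c20 LD2_c55 LD3_c12)) :=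
  Lgr Lrot66 (Lpe (f283463 IH) (Lpr_af (f334318 IH) (Lpe (f334320 IH) (Lpn (LP (LK LD1_c20 LD2_c55 LD3_c12))))))
theorem f292677 : Led Lsl_gt (LP (LK LD1_c6 LD2_c4 LD3_c60)) = (LP (LK LD1_c11 LD2_c53 LD3_c18)) :=
  Lre_g IH (LK LD1_c6 LD2_c4 LD3_c60) (LK LD1_c11 LD2_c53 LD3_c18) Lrfl Lrfl
theorem f334336 : Led Lsl_gt (LP (LK LD1_c11 LD2_c53 LD3_c18)) = (LP (LK LD1_c20 LD2_c55 LD3_c12)) :=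
  Lgr Lrot46 (Lpe (f292677 IH) (Lpr_ft (f283463 IH) (Lpr_at (f334321 IH) (Lpn (LP (LK LD1_c20 LD2_c55 LD3_c12))))))
theorem f309063 : Led Lsl_ct (LP (LK LD1_c20 LD2_c55 LD3_c12)) = (LP (LK LD1_c11 LD2_c52 LD3_c23)) :=
  Lre_c IH (LK LD1_c20 LD2_c55 LD3_c12) (LK LD1_c11 LD2_c52 LD3_c23) Lrfl Lrfl
theorem f309048 : Led Lsl_ct (LP (LK LD1_c16 LD2_c3 LD3_c0)) = (LP (LK LD1_c8 LD2_c33 LD3_c0)) :=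
  Lre_c IH (LK LD1_c16 LD2_c3 LD3_c0) (LK LD1_c8 LD2_c33 LD3_c0) Lrfl Lrfl
theorem f182938 : Led Lsl_gt (LP (LK LD1_c8 LD2_c11 LD3_c24)) = (LP (LK LD1_c15 LD2_c25 LD3_c6)) :=
  Lre_g IH (LK LD1_c8 LD2_c11 LD3_c24) (LK LD1_c15 LD2_c25 LD3_c6) Lrfl Lrfl
theorem f334339 : Led Lsl_cf (LP (LK LD1_c11 LD2_c53 LD3_c18)) = (LP (LK LD1_c15 LD2_c25 LD3_c6)) :=
  Lgr Lrot169 (Lpr_gt (f334336 IH) (Lpr_ct (f309063 IH) (Lpr_df (K21.f309056 IH) (Lpe (f309048 IH) (Lpe (K20.f309052 IH) (Lpe (K20.f238149 IH) (Lpr_gf (K20.f321367 IH) (Lpe (K20.f321382 IH) (Lpr_gt (f182938 IH) (Lpn (LP (LK LD1_c15 LD2_c25 LD3_c6))))))))))))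
theorem f309064 : Led Lsl_ct (LP (LK LD1_c11 LD2_c52 LD3_c23)) = (LP (LK LD1_c20 LD2_c55 LD3_c12)) :=
  Lre_c IH (LK LD1_c11 LD2_c52 LD3_c23) (LK LD1_c20 LD2_c55 LD3_c12) Lrfl Lrfl
theorem f310565 : Led Lsl_ef (LP (LK LD1_c10 LD2_c30 LD3_c55)) = (LP (LK LD1_c5 LD2_c23 LD3_c32)) :=
  Lgr Lrot20 (Lpr_at (K19.f310563 IH) (Lpe (K17.f279529 IH) (Lpr_at (K19.f279501 IH) (Lpn (LP (LK LD1_c5 LD2_c23 LD3_c32))))))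
theorem f310614 : Led Lsl_et (LP (LK LD1_c11 LD2_c53 LD3_c28)) = (LP (LK LD1_c8 LD2_c6 LD3_c54)) :=
  Lgr Lrot71 (Lpe (K15.f42437 IH) (Lpr_ef (f310565 IH) (Lpe (K18.f255799 IH) (Lpe (K19.f308901 IH) (Lpr_df (K19.f308924 IH) (Lpn (LP (LK LD1_c8 LD2_c6 LD3_c54))))))))
theorem f42420 : Led Lsl_bt (LP (LK LD1_c6 LD2_c5 LD3_c8)) = (LP (LK LD1_c11 LD2_c53 LD3_c28)) :=
  Lre_b IH (LK LD1_c6 LD2_c5 LD3_c8) (LK LD1_c11 LD2_c53 LD3_c28) Lrfl Lrfl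
theorem f310616 : Led Lsl_bf (LP (LK LD1_c11 LD2_c52 LD3_c23)) = (LP (LK LD1_c8 LD2_c6 LD3_c54)) :=
  Lgr Lrot96 (Lpr_et (K21.f283358 IH) (Lpr_bt (f42420 IH) (Lpr_et (f310614 IH) (Lpn (LP (LK LD1_c8 LD2_c6 LD3_c54))))))
theorem f310618 : Led Lsl_bt (LP (LK LD1_c11 LD2_c52 LD3_c23)) = (LP (LK LD1_c8 LD2_c6 LD3_c54)) :=
  Lgr Lrot127 (Lpr_bf (f310616 IH) (Lpn (LP (LK LD1_c8 LD2_c6 LD3_c54))))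
theorem f308927 : Led Lsl_gf (LP (LK LD1_c15 LD2_c9 LD3_c3)) = (LP (LK LD1_c8 LD2_c6 LD3_c54)) :=
  Lgr Lrot147 (Lpr_ct (K19.f228280 IH) (Lpr_gt (K19.f190031 IH) (Lpr_ct (K19.f190022 IH) (Lpr_df (K19.f200479 IH) (Lpe (K20.f200481 IH) (Lpe (K20.f298885 IH) (Lpe (K15.f28891 IH) (Lpe (K18.f296398 IH) (Lpr_df (K19.f308924 IH) (Lpn (LP (LK LD1_c8 LD2_c6 LD3_c54))))))))))))
theorem f334342 : Led Lsl_bt (LP (LK LD1_c15 LD2_c25 LD3_c6)) = (LP (LK LD1_c8 LD2_c37 LD3_c50)) :=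
  Lgr Lrot92 (Lpe (f334339 IH) (Lpr_gt (f334336 IH) (Lpe (f309064 IH) (Lpr_bt (f310618 IH) (Lpe (f308927 IH) (Lpr_ct (K19.f228280 IH) (Lpr_gt (K19.f190031 IH) (Lpe (K18.f190002 IH) (Lpr_bt (K19.f190000 IH) (Lpr_gt (K19.f190026 IH) (Lpn (LP (LK LD1_c8 LD2_c37 LD3_c50)))))))))))))
theorem f315940 : Led Lsl_ct (LP (LK LD1_c2 LD2_c58 LD3_c41)) = (LP (LK LD1_c6 LD2_c4 LD3_c60)) :=
  Lre_c IH (LK LD1_c2 LD2_c58 LD3_c41) (LK LD1_c6 LD2_c4 LD3_c60) Lrfl Lrfl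
theorem f283505 : Led Lsl_bt (LP (LK LD1_c2 LD2_c58 LD3_c41)) = (LP (LK LD1_c6 LD2_c4 LD3_c57)) :=
  Lre_b IH (LK LD1_c2 LD2_c58 LD3_c41) (LK LD1_c6 LD2_c4 LD3_c57) Lrfl Lrfl
theorem f325224 : Led Lsl_bf (LP (LK LD1_c11 LD2_c53 LD3_c13)) = (LP (LK LD1_c8 LD2_c39 LD3_c34)) :=
  Lgr Lrot24 (Lpr_bt (K21.f325222 IH) (Lpn (LP (LK LD1_c8 LD2_c39 LD3_c34))))
theorem f195560 : Led Lsl_ft (LP (LK LD1_c15 LD2_c30 LD3_c1)) = (LP (LK LD1_c8 LD2_c14 LD3_c21)) :=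
  Lre_f IH (LK LD1_c15 LD2_c30 LD3_c1) (LK LD1_c8 LD2_c14 LD3_c21) Lrfl Lrfl
theorem f315797 : Led Lsl_gt (LP (LK LD1_c15 LD2_c30 LD3_c1)) = (LP (LK LD1_c16 LD2_c9 LD3_c53)) :=
  Lgr Lrot5 (Lpr_ft (f195560 IH) (Lpr_at (K20.f315791 IH) (Lpe (K14.f190013 IH) (Lpn (LP (LK LD1_c16 LD2_c9 LD3_c53))))))
theorem f315802 : Led Lsl_ct (LP (LK LD1_c8 LD2_c14 LD3_c24)) = (LP (LK LD1_c15 LD2_c30 LD3_c1)) :=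
  Lre_c IH (LK LD1_c8 LD2_c14 LD3_c24) (LK LD1_c15 LD2_c30 LD3_c1) Lrfl Lrfl
theorem f334349 : Led Lsl_gf (LP (LK LD1_c8 LD2_c14 LD3_c24)) = (LP (LK LD1_c8 LD2_c37 LD3_c50)) :=
  Lgr Lrot181 (Lpr_ct (f315802 IH) (Lpr_gt (f315797 IH) (Lpr_cf (K14.f255580 IH) (Lpe (f325224 IH) (Lpr_gt (K21.f274488 IH) (Lpe (f283505 IH) (Lpr_ct (f315940 IH) (Lpr_gt (f292677 IH) (Lpr_cf (f334339 IH) (Lpr_bt (f334342 IH) (Lpn (LP (LK LD1_c8 LD2_c37 LD3_c50)))))))))))))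
theorem f334351 : Led Lsl_af (LP (LK LD1_c8 LD2_c14 LD3_c24)) = (LP (LK LD1_c8 LD2_c37 LD3_c52)) :=
  Lgr Lrot31 (Lpr_gf (f334349 IH) (Lpe (K19.f190026 IH) (Lpr_ft (K20.f190021 IH) (Lpn (LP (LK LD1_c8 LD2_c37 LD3_c52))))))
theorem f315804 : Led Lsl_bt (LP (LK LD1_c8 LD2_c14 LD3_c24)) = (LP (LK LD1_c4 LD2_c6 LD3_c58)) :=
  Lre_b IH (LK LD1_c8 LD2_c14 LD3_c24) (LK LD1_c4 LD2_c6 LD3_c58) Lrfl Lrfl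
theorem f315431 : Led Lsl_af (LP (LK LD1_c8 LD2_c27 LD3_c28)) = (LP (LK LD1_c8 LD2_c11 LD3_c55)) :=
  Lgr Lrot45 (Lpr_ft (K20.f190020 IH) (Lpr_at (K20.f315423 IH) (Lpr_ft (K21.f237926 IH) (Lpn (LP (LK LD1_c8 LD2_c11 LD3_c55))))))
theorem f256159 : Led Lsl_bt (LP (LK LD1_c4 LD2_c5 LD3_c31)) = (LP (LK LD1_c8 LD2_c11 LD3_c55)) :=
  Lre_b IH (LK LD1_c4 LD2_c5 LD3_c31) (LK LD1_c8 LD2_c11 LD3_c55) Lrfl Lrfl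
theorem f334354 : Led Lsl_at (LP (LK LD1_c4 LD2_c6 LD3_c58)) = (LP (LK LD1_c4 LD2_c5 LD3_c31)) :=
  Lgr Lrot67 (Lpe (f315804 IH) (Lpr_af (f334351 IH) (Lpe (K20.f190007 IH) (Lpr_af (f315431 IH) (Lpe (f256159 IH) (Lpn (LP (LK LD1_c4 LD2_c5 LD3_c31))))))))
theorem f195471 : Led Lsl_ft (LP (LK LD1_c2 LD2_c0 LD3_c50)) = (LP (LK LD1_c4 LD2_c6 LD3_c58)) :=
  Lre_f IH (LK LD1_c2 LD2_c0 LD3_c50) (LK LD1_c4 LD2_c6 LD3_c58) Lrfl Lrfl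
theorem f237979 : Led Lsl_ft (LP (LK LD1_c4 LD2_c5 LD3_c31)) = (LP (LK LD1_c1 LD2_c59 LD3_c56)) :=
  Lre_f IH (LK LD1_c4 LD2_c5 LD3_c31) (LK LD1_c1 LD2_c59 LD3_c56) Lrfl Lrfl
theorem f334358 : Led Lsl_af (LP (LK LD1_c2 LD2_c0 LD3_c50)) = (LP (LK LD1_c1 LD2_c59 LD3_c56)) :=
  Lgr Lrot45 (Lpr_ft (f195471 IH) (Lpr_at (f334354 IH) (Lpr_ft (f237979 IH) (Lpn (LP (LK LD1_c1 LD2_c59 LD3_c56))))))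
theorem f334379 : Led Lsl_at (LP (LK LD1_c0 LD2_c57 LD3_c23)) = (LP (LK LD1_c0 LD2_c56 LD3_c52)) :=
  Lgr Lrot80 (Lpe (K20.f171763 IH) (Lpr_af (f334358 IH) (Lpe (K19.f237978 IH) (Lpn (LP (LK LD1_c0 LD2_c56 LD3_c52))))))
theorem f334387 : Led Lsl_ff (LP (LK LD1_c0 LD2_c57 LD3_c23)) = (LP (LK LD1_c0 LD2_c56 LD3_c53)) :=
  Lgr Lrot52 (Lpr_at (f334379 IH) (Lpe (K11.f166681 IH) (Lpe (K9.f28226 IH) (Lpn (LP (LK LD1_c0 LD2_c56 LD3_c53))))))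
theorem f334393 : Led Lsl_ft (LP (LK LD1_c0 LD2_c57 LD3_c23)) = (LP (LK LD1_c0 LD2_c56 LD3_c53)) :=
  Lgr Lrot48 (Lpr_ff (f334387 IH) (Lpn (LP (LK LD1_c0 LD2_c56 LD3_c53))))
theorem f334399 : Led Lsl_ff (LP (LK LD1_c1 LD2_c16 LD3_c41)) = (LP (LK LD1_c1 LD2_c25 LD3_c24)) :=
  Lgr Lrot23 (Lpe (K10.f195455 IH) (Lpr_ft (f334393 IH) (Lpr_ct (K9.f177456 IH) (Lpn (LP (LK LD1_c1 LD2_c25 LD3_c24))))))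
theorem f334405 : Led Lsl_at (LP (LK LD1_c1 LD2_c16 LD3_c41)) = (LP (LK LD1_c1 LD2_c25 LD3_c23)) :=
  Lgr Lrot26 (Lpr_ff (f334399 IH) (Lpr_gt (K9.f177455 IH) (Lpr_gt (K11.f177409 IH) (Lpn (LP (LK LD1_c1 LD2_c25 LD3_c23))))))
theorem f195424 : Led Lsl_dt (LP (LK LD1_c2 LD2_c39 LD3_c54)) = (LP (LK LD1_c1 LD2_c16 LD3_c41)) :=
  Lre_d IH (LK LD1_c2 LD2_c39 LD3_c54) (LK LD1_c1 LD2_c16 LD3_c41) Lrfl Lrfl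
theorem f334411 : Led Lsl_af (LP (LK LD1_c2 LD2_c39 LD3_c54)) = (LP (LK LD1_c2 LD2_c59 LD3_c23)) :=
  Lgr Lrot117 (Lpr_dt (f195424 IH) (Lpr_at (f334405 IH) (Lpr_dt (K11.f177410 IH) (Lpn (LP (LK LD1_c2 LD2_c59 LD3_c23))))))
theorem f179884 : Led Lsl_dt (LP (LK LD1_c2 LD2_c0 LD3_c11)) = (LP (LK LD1_c0 LD2_c57 LD3_c4)) :=
  Lre_d IH (LK LD1_c2 LD2_c0 LD3_c11) (LK LD1_c0 LD2_c57 LD3_c4) Lrfl Lrfl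
theorem f193797 : Led Lsl_gf (LP (LK LD1_c2 LD2_c0 LD3_c11)) = (LP (LK LD1_c2 LD2_c30 LD3_c51)) :=
  Lgr Lrot143 (Lpr_dt (f179884 IH) (Lpe (K9.f179885 IH) (Lpr_df (K9.f179881 IH) (Lpe (K9.f179879 IH) (Lpe (K10.f193791 IH) (Lpr_gf (K10.f193795 IH) (Lpe (K9.f59122 IH) (Lpr_gt (K10.f177438 IH) (Lpr_dt (K9.f21269 IH) (Lpn (LP (LK LD1_c2 LD2_c30 LD3_c51))))))))))))
theorem f21270 : Led Lsl_ct (LP (LK LD1_c2 LD2_c30 LD3_c51)) = (LP (LK LD1_c5 LD2_c7 LD3_c2)) :=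
  Lre_c IH (LK LD1_c2 LD2_c30 LD3_c51) (LK LD1_c5 LD2_c7 LD3_c2) Lrfl Lrfl
theorem f195425 : Led Lsl_gt (LP (LK LD1_c5 LD2_c7 LD3_c2)) = (LP (LK LD1_c2 LD2_c39 LD3_c54)) :=
  Lgr Lrot94 (Lpe (f21270 IH) (Lpe (f193797 IH) (Lpr_dt (f179884 IH) (Lpe (K9.f182468 IH) (Lpr_dt (K0.f8395 IH) (Lpe (K10.f8394 IH) (Lpe (K9.f8511 IH) (Lpr_gf (K10.f195422 IH) (Lpe (f195424 IH) (Lpn (LP (LK LD1_c2 LD2_c39 LD3_c54))))))))))))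
theorem f334429 : Led Lsl_ft (LP (LK LD1_c2 LD2_c39 LD3_c57)) = (LP (LK LD1_c2 LD2_c59 LD3_c23)) :=
  Lgr Lrot2 (Lpe (K10.f195788 IH) (Lpr_gt (f195425 IH) (Lpr_af (f334411 IH) (Lpn (LP (LK LD1_c2 LD2_c59 LD3_c23))))))
theorem f334439 : Led Lsl_ff (LP (LK LD1_c2 LD2_c39 LD3_c57)) = (LP (LK LD1_c2 LD2_c59 LD3_c23)) :=
  Lgr Lrot3 (Lpr_ft (f334429 IH) (Lpn (LP (LK LD1_c2 LD2_c59 LD3_c23))))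
theorem f334447 : Led Lsl_at (LP (LK LD1_c2 LD2_c39 LD3_c57)) = (LP (LK LD1_c2 LD2_c59 LD3_c26)) :=
  Lgr Lrot26 (Lpr_ff (f334439 IH) (Lpe (K18.f226040 IH) (Lpr_gt (K14.f226038 IH) (Lpn (LP (LK LD1_c2 LD2_c59 LD3_c26))))))
theorem f334423 : Led Lsl_at (LP (LK LD1_c2 LD2_c39 LD3_c54)) = (LP (LK LD1_c2 LD2_c59 LD3_c23)) :=
  Lgr Lrot100 (Lpr_af (f334411 IH) (Lpn (LP (LK LD1_c2 LD2_c59 LD3_c23))))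
theorem f334453 : Led Lsl_ff (LP (LK LD1_c2 LD2_c39 LD3_c54)) = (LP (LK LD1_c2 LD2_c59 LD3_c26)) :=
  Lgr Lrot30 (Lpr_at (f334423 IH) (Lpe (f334439 IH) (Lpr_at (f334447 IH) (Lpn (LP (LK LD1_c2 LD2_c59 LD3_c26))))))
theorem f168217 : Led Lsl_dt (LP (LK LD1_c0 LD2_c36 LD3_c24)) = (LP (LK LD1_c1 LD2_c18 LD3_c60)) :=
  Lre_d IH (LK LD1_c0 LD2_c36 LD3_c24) (LK LD1_c1 LD2_c18 LD3_c60) Lrfl Lrfl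
theorem f195756 : Led Lsl_cf (LP (LK LD1_c1 LD2_c18 LD3_c60)) = (LP (LK LD1_c2 LD2_c39 LD3_c54)) :=
  Lgr Lrot99 (Lpe (f168217 IH) (Lpe (K9.f8382 IH) (Lpr_gf (K0.f8380 IH) (Lpe (K1.f22407 IH) (Lpe (K9.f168212 IH) (Lpe (K17.f56560 IH) (Lpr_gt (K9.f168201 IH) (Lpr_ct (f21270 IH) (Lpr_gt (f195425 IH) (Lpn (LP (LK LD1_c2 LD2_c39 LD3_c54))))))))))))
theorem f177547 : Led Lsl_ct (LP (LK LD1_c1 LD2_c25 LD3_c41)) = (LP (LK LD1_c2 LD2_c59 LD3_c26)) :=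
  Lgr Lrot7 (Lpe (K14.f169094 IH) (Lpe (K9.f169087 IH) (Lpe (K1.f55381 IH) (Lpr_gf (K14.f169097 IH) (Lpr_cf (K9.f177450 IH) (Lpr_gt (K9.f9046 IH) (Lpe (K9.f8959 IH) (Lpr_gt (K11.f177544 IH) (Lpr_dt (K11.f177467 IH) (Lpn (LP (LK LD1_c2 LD2_c59 LD3_c26))))))))))))
theorem f334455 : Led Lsl_ft (LP (LK LD1_c1 LD2_c18 LD3_c60)) = (LP (LK LD1_c1 LD2_c25 LD3_c41)) :=
  Lgr Lrot4 (Lpr_cf (f195756 IH) (Lpr_ff (f334453 IH) (Lpe (f177547 IH) (Lpn (LP (LK LD1_c1 LD2_c25 LD3_c41))))))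
theorem f334463 : Led Lsl_ff (LP (LK LD1_c1 LD2_c18 LD3_c60)) = (LP (LK LD1_c1 LD2_c25 LD3_c41)) :=
  Lgr Lrot3 (Lpr_ft (f334455 IH) (Lpn (LP (LK LD1_c1 LD2_c25 LD3_c41))))
theorem f21264 : Led Lsl_dt (LP (LK LD1_c1 LD2_c18 LD3_c60)) = (LP (LK LD1_c0 LD2_c36 LD3_c24)) :=
  Lre_d IH (LK LD1_c1 LD2_c18 LD3_c60) (LK LD1_c0 LD2_c36 LD3_c24) Lrfl Lrfl
theorem f334469 : Led Lsl_ft (LP (LK LD1_c0 LD2_c36 LD3_c24)) = (LP (LK LD1_c0 LD2_c39 LD3_c34)) :=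
  Lgr Lrot54 (Lpe (f21264 IH) (Lpr_ff (f334463 IH) (Lpe (K14.f169094 IH) (Lpn (LP (LK LD1_c0 LD2_c39 LD3_c34))))))
theorem f334477 : Led Lsl_af (LP (LK LD1_c0 LD2_c36 LD3_c40)) = (LP (LK LD1_c0 LD2_c39 LD3_c34)) :=
  Lgr Lrot31 (Lpr_gf (K9.f172051 IH) (Lpr_gf (K9.f177817 IH) (Lpr_ft (f334469 IH) (Lpn (LP (LK LD1_c0 LD2_c39 LD3_c34))))))
theorem f334479 : Led Lsl_at (LP (LK LD1_c0 LD2_c16 LD3_c21)) = (LP (LK LD1_c0 LD2_c17 LD3_c45)) :=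
  Lgr Lrot107 (Lpe (K9.f22398 IH) (Lpr_af (f334477 IH) (Lpe (K9.f20589 IH) (Lpn (LP (LK LD1_c0 LD2_c17 LD3_c45))))))
theorem f313505 : Led Lsl_ft (LP (LK LD1_c0 LD2_c17 LD3_c46)) = (LP (LK LD1_c0 LD2_c16 LD3_c21)) :=
  Lgr Lrot54 (Lpe (K9.f20653 IH) (Lpe (K19.f20670 IH) (Lpr_df (K19.f313501 IH) (Lpn (LP (LK LD1_c0 LD2_c16 LD3_c21))))))
theorem f334473 : Led Lsl_ff (LP (LK LD1_c0 LD2_c16 LD3_c12)) = (LP (LK LD1_c0 LD2_c17 LD3_c45)) :=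
  Lgr Lrot23 (Lpr_ct (K9.f8382 IH) (Lpr_ft (f334469 IH) (Lpr_ct (K10.f169093 IH) (Lpn (LP (LK LD1_c0 LD2_c17 LD3_c45))))))
theorem f334485 : Led Lsl_af (LP (LK LD1_c0 LD2_c17 LD3_c46)) = (LP (LK LD1_c0 LD2_c16 LD3_c12)) :=
  Lgr Lrot45 (Lpr_ft (f313505 IH) (Lpr_at (f334479 IH) (Lpe (f334473 IH) (Lpn (LP (LK LD1_c0 LD2_c16 LD3_c12))))))
theorem f334493 : Led Lsl_at (LP (LK LD1_c0 LD2_c39 LD3_c37)) = (LP (LK LD1_c0 LD2_c36 LD3_c23)) :=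
  Lgr Lrot80 (Lpe (K9.f20667 IH) (Lpr_af (f334485 IH) (Lpe (K9.f8410 IH) (Lpn (LP (LK LD1_c0 LD2_c36 LD3_c23))))))
theorem f334503 : Led Lsl_ff (LP (LK LD1_c0 LD2_c39 LD3_c37)) = (LP (LK LD1_c0 LD2_c28 LD3_c52)) :=
  Lgr Lrot52 (Lpr_at (f334493 IH) (Lpr_gf (K9.f164674 IH) (Lpe (K9.f20724 IH) (Lpn (LP (LK LD1_c0 LD2_c28 LD3_c52))))))
theorem f334511 : Led Lsl_ft (LP (LK LD1_c0 LD2_c39 LD3_c37)) = (LP (LK LD1_c0 LD2_c28 LD3_c52)) :=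
  Lgr Lrot48 (Lpr_ff (f334503 IH) (Lpn (LP (LK LD1_c0 LD2_c28 LD3_c52))))
theorem f334519 : Led Lsl_af (LP (LK LD1_c0 LD2_c16 LD3_c10)) = (LP (LK LD1_c0 LD2_c28 LD3_c52)) :=
  Lgr Lrot31 (Lpe (K9.f8412 IH) (Lpe (K10.f178991 IH) (Lpr_ft (f334511 IH) (Lpn (LP (LK LD1_c0 LD2_c28 LD3_c52))))))
theorem f334525 : Led Lsl_at (LP (LK LD1_c0 LD2_c7 LD3_c15)) = (LP (LK LD1_c0 LD2_c12 LD3_c44)) :=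
  Lgr Lrot80 (Lpe (K9.f164306 IH) (Lpr_af (f334519 IH) (Lpe (K9.f20737 IH) (Lpn (LP (LK LD1_c0 LD2_c12 LD3_c44))))))
theorem f334535 : Led Lsl_af (LP (LK LD1_c0 LD2_c3 LD3_c16)) = (LP (LK LD1_c0 LD2_c5 LD3_c48)) :=
  Lgr Lrot117 (Lpr_dt (K0.f3071 IH) (Lpr_at (f334525 IH) (Lpr_dt (K9.f20665 IH) (Lpn (LP (LK LD1_c0 LD2_c5 LD3_c48))))))
theorem f334537 : Led Lsl_at (LP (LK LD1_c0 LD2_c3 LD3_c16)) = (LP (LK LD1_c0 LD2_c5 LD3_c48)) :=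
  Lgr Lrot100 (Lpr_af (f334535 IH) (Lpn (LP (LK LD1_c0 LD2_c5 LD3_c48))))
theorem f334539 : Led Lsl_at (LP (LK LD1_c0 LD2_c12 LD3_c42)) = (LP (LK LD1_c0 LD2_c12 LD3_c42)) :=
  Lgr Lrot67 (Lpe (K10.f167853 IH) (Lpe (f334537 IH) (Lpr_bf (K9.f177845 IH) (Lpr_af (f334535 IH) (Lpe (K13.f28955 IH) (Lpn (LP (LK LD1_c0 LD2_c12 LD3_c42))))))))
theorem f313519 : Led Lsl_ff (LP (LK LD1_c0 LD2_c12 LD3_c42)) = (LP (LK LD1_c0 LD2_c7 LD3_c17)) :=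
  Lgr Lrot25 (Lpr_bt (K13.f28955 IH) (Lpr_ft (K19.f313517 IH) (Lpr_bt (K13.f171761 IH) (Lpn (LP (LK LD1_c0 LD2_c7 LD3_c17))))))
theorem f313325 : Led Lsl_af (LP (LK LD1_c0 LD2_c3 LD3_c17)) = (LP (LK LD1_c0 LD2_c5 LD3_c49)) :=
  Lgr Lrot68 (Lpr_ct (K9.f165208 IH) (Lpr_at (K19.f313321 IH) (Lpr_ct (K9.f172031 IH) (Lpn (LP (LK LD1_c0 LD2_c5 LD3_c49))))))
theorem f313525 : Led Lsl_at (LP (LK LD1_c0 LD2_c7 LD3_c17)) = (LP (LK LD1_c0 LD2_c7 LD3_c17)) :=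
  Lgr Lrot67 (Lpe (K13.f171761 IH) (Lpr_af (f313325 IH) (Lpr_bf (K9.f177874 IH) (Lpr_af (K19.f313523 IH) (Lpe (K10.f167854 IH) (Lpn (LP (LK LD1_c0 LD2_c7 LD3_c17))))))))
theorem f334551 : Led Lsl_ff (LP (LK LD1_c0 LD2_c7 LD3_c17)) = (LP (LK LD1_c0 LD2_c12 LD3_c42)) :=
  Lgr Lrot30 (Lpr_at (f313525 IH) (Lpe (f313519 IH) (Lpr_at (f334539 IH) (Lpn (LP (LK LD1_c0 LD2_c12 LD3_c42))))))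
theorem f197382 : Led Lsl_dt (LP (LK LD1_c0 LD2_c7 LD3_c17)) = (LP (LK LD1_c0 LD2_c16 LD3_c15)) :=
  Lre_d IH (LK LD1_c0 LD2_c7 LD3_c17) (LK LD1_c0 LD2_c16 LD3_c15) Lrfl Lrfl
theorem f334553 : Led Lsl_ft (LP (LK LD1_c0 LD2_c16 LD3_c15)) = (LP (LK LD1_c0 LD2_c28 LD3_c45)) :=
  Lgr Lrot54 (Lpe (f197382 IH) (Lpr_ff (f334551 IH) (Lpe (K10.f20742 IH) (Lpn (LP (LK LD1_c0 LD2_c28 LD3_c45))))))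
theorem f334562 : Led Lsl_ff (LP (LK LD1_c0 LD2_c16 LD3_c15)) = (LP (LK LD1_c0 LD2_c28 LD3_c45)) :=
  Lgr Lrot3 (Lpr_ft (f334553 IH) (Lpn (LP (LK LD1_c0 LD2_c28 LD3_c45))))
theorem f334566 : Led Lsl_ft (LP (LK LD1_c0 LD2_c36 LD3_c28)) = (LP (LK LD1_c1 LD2_c3 LD3_c4)) :=
  Lgr Lrot4 (Lpe (K13.f165216 IH) (Lpr_ff (f334562 IH) (Lpe (K13.f20698 IH) (Lpn (LP (LK LD1_c1 LD2_c3 LD3_c4))))))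
theorem f237401 : Led Lsl_df (LP (LK LD1_c1 LD2_c3 LD3_c27)) = (LP (LK LD1_c0 LD2_c36 LD3_c28)) :=
  Lgr Lrot38 (Lpr_dt (K13.f237399 IH) (Lpn (LP (LK LD1_c0 LD2_c36 LD3_c28))))
theorem f197404 : Led Lsl_cf (LP (LK LD1_c0 LD2_c7 LD3_c17)) = (LP (LK LD1_c0 LD2_c14 LD3_c9)) :=
  Lgr Lrot11 (Lpr_ct (K10.f197400 IH) (Lpn (LP (LK LD1_c0 LD2_c14 LD3_c9))))
theorem f237380 : Led Lsl_ct (LP (LK LD1_c1 LD2_c3 LD3_c28)) = (LP (LK LD1_c0 LD2_c31 LD3_c47)) :=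
  Lgr Lrot7 (Lpe (K13.f193678 IH) (Lpr_gf (K13.f237322 IH) (Lpe (K1.f2988 IH) (Lpe (K13.f193281 IH) (Lpr_cf (f197404 IH) (Lpr_gt (K10.f2913 IH) (Lpe (K0.f2909 IH) (Lpr_gt (K11.f2915 IH) (Lpr_dt (K13.f2916 IH) (Lpn (LP (LK LD1_c0 LD2_c31 LD3_c47))))))))))))
theorem f334572 : Led Lsl_af (LP (LK LD1_c1 LD2_c3 LD3_c4)) = (LP (LK LD1_c1 LD2_c3 LD3_c4)) :=
  Lgr Lrot109 (Lpe (K13.f169332 IH) (Lpe (K13.f20755 IH) (Lpe (K11.f200375 IH) (Lpe (K19.f2917 IH) (Lpe (f237380 IH) (Lpe (K13.f193678 IH) (Lpe (K19.f193676 IH) (Lpr_df (f237401 IH) (Lpr_ft (f334566 IH) (Lpn (LP (LK LD1_c1 LD2_c3 LD3_c4))))))))))))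
theorem f334558 : Led Lsl_ff (LP (LK LD1_c0 LD2_c36 LD3_c28)) = (LP (LK LD1_c1 LD2_c3 LD3_c4)) :=
  Lgr Lrot23 (Lpr_ct (K13.f197406 IH) (Lpr_ft (f334553 IH) (Lpr_ct (K13.f169332 IH) (Lpn (LP (LK LD1_c1 LD2_c3 LD3_c4))))))
theorem f334576 : Led Lsl_at (LP (LK LD1_c0 LD2_c36 LD3_c28)) = (LP (LK LD1_c0 LD2_c36 LD3_c28)) :=
  Lgr Lrot66 (Lpr_ff (f334558 IH) (Lpr_af (f334572 IH) (Lpe (f334566 IH) (Lpn (LP (LK LD1_c0 LD2_c36 LD3_c28))))))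
theorem f334578 : Led Lsl_af (LP (LK LD1_c1 LD2_c3 LD3_c27)) = (LP (LK LD1_c1 LD2_c3 LD3_c27)) :=
  Lgr Lrot117 (Lpr_dt (K13.f237399 IH) (Lpr_at (f334576 IH) (Lpe (f237401 IH) (Lpn (LP (LK LD1_c1 LD2_c3 LD3_c27))))))
theorem f334580 : Led Lsl_at (LP (LK LD1_c0 LD2_c28 LD3_c60)) = (LP (LK LD1_c0 LD2_c28 LD3_c60)) :=
  Lgr Lrot107 (Lpe (K19.f193676 IH) (Lpr_af (f334578 IH) (Lpe (K10.f29624 IH) (Lpn (LP (LK LD1_c0 LD2_c28 LD3_c60))))))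
theorem f313683 : Led Lsl_at (LP (LK LD1_c0 LD2_c12 LD3_c49)) = (LP (LK LD1_c0 LD2_c7 LD3_c21)) :=
  Lgr Lrot80 (Lpe (K9.f20213 IH) (Lpr_af (K19.f313680 IH) (Lpe (K9.f60172 IH) (Lpn (LP (LK LD1_c0 LD2_c7 LD3_c21))))))
theorem f334584 : Led Lsl_af (LP (LK LD1_c0 LD2_c12 LD3_c49)) = (LP (LK LD1_c0 LD2_c7 LD3_c21)) :=
  Lgr Lrot36 (Lpr_bt (K13.f164993 IH) (Lpr_at (f334580 IH) (Lpr_bt (K10.f29623 IH) (Lpr_at (f313683 IH) (Lpe (K9.f174922 IH) (Lpn (LP (LK LD1_c0 LD2_c7 LD3_c21))))))))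
theorem f334588 : Led Lsl_ft (LP (LK LD1_c0 LD2_c12 LD3_c50)) = (LP (LK LD1_c0 LD2_c7 LD3_c21)) :=
  Lgr Lrot2 (Lpr_gt (K9.f20624 IH) (Lpr_gt (K9.f20212 IH) (Lpr_af (f334584 IH) (Lpn (LP (LK LD1_c0 LD2_c7 LD3_c21))))))
theorem f20763 : Led Lsl_ft (LP (LK LD1_c1 LD2_c3 LD3_c38)) = (LP (LK LD1_c0 LD2_c29 LD3_c3)) :=
  Lre_f IH (LK LD1_c1 LD2_c3 LD3_c38) (LK LD1_c0 LD2_c29 LD3_c3) Lrfl Lrfl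
theorem f334592 : Led Lsl_ef (LP (LK LD1_c1 LD2_c3 LD3_c38)) = (LP (LK LD1_c0 LD2_c36 LD3_c48)) :=
  Lgr Lrot21 (Lpr_ft (f20763 IH) (Lpr_et (K9.f20767 IH) (Lpr_ft (f334588 IH) (Lpr_et (K9.f60172 IH) (Lpr_ft (K19.f313667 IH) (Lpn (LP (LK LD1_c0 LD2_c36 LD3_c48))))))))
theorem f176937 : Led Lsl_et (LP (LK LD1_c0 LD2_c33 LD3_c28)) = (LP (LK LD1_c0 LD2_c36 LD3_c56)) :=
  Lgr Lrot87 (Lpr_ef (K9.f176909 IH) (Lpn (LP (LK LD1_c0 LD2_c36 LD3_c56))))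
theorem f334602 : Led Lsl_gf (LP (LK LD1_c1 LD2_c3 LD3_c38)) = (LP (LK LD1_c0 LD2_c36 LD3_c56)) :=
  Lgr Lrot141 (Lpr_ef (f334592 IH) (Lpe (K19.f313668 IH) (Lpr_gt (K9.f60197 IH) (Lpe (K9.f60101 IH) (Lpe (K1.f60195 IH) (Lpr_gt (K9.f20652 IH) (Lpe (K9.f20662 IH) (Lpe (K14.f226056 IH) (Lpe (K9.f22128 IH) (Lpr_et (f176937 IH) (Lpn (LP (LK LD1_c0 LD2_c36 LD3_c56)))))))))))))
theorem f24226 : Led Lsl_et (LP (LK LD1_c1 LD2_c5 LD3_c19)) = (LP (LK LD1_c0 LD2_c29 LD3_c49)) :=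
  Lre_e IH (LK LD1_c1 LD2_c5 LD3_c19) (LK LD1_c0 LD2_c29 LD3_c49) Lrfl Lrfl
theorem f334611 : Led Lsl_df (LP (LK LD1_c1 LD2_c3 LD3_c38)) = (LP (LK LD1_c1 LD2_c5 LD3_c19)) :=
  Lgr Lrot168 (Lpr_gf (f334602 IH) (Lpe (K9.f176905 IH) (Lpr_et (K9.f22129 IH) (Lpe (K9.f177175 IH) (Lpr_ef (K9.f177165 IH) (Lpr_dt (K9.f20773 IH) (Lpe (K0.f20569 IH) (Lpe (K9.f9357 IH) (Lpe (K9.f23948 IH) (Lpe (f24226 IH) (Lpn (LP (LK LD1_c1 LD2_c5 LD3_c19)))))))))))))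
theorem f334613 : Led Lsl_ft (LP (LK LD1_c0 LD2_c39 LD3_c27)) = (LP (LK LD1_c1 LD2_c5 LD3_c19)) :=
  Lgr Lrot54 (Lpe (K9.f20638 IH) (Lpe (f20763 IH) (Lpr_df (f334611 IH) (Lpn (LP (LK LD1_c1 LD2_c5 LD3_c19))))))
theorem f313727 : Led Lsl_ft (LP (LK LD1_c0 LD2_c29 LD3_c49)) = (LP (LK LD1_c0 LD2_c17 LD3_c20)) :=
  Lgr Lrot75 (Lpe (K9.f176777 IH) (Lpr_ff (K19.f313723 IH) (Lpe (K9.f175825 IH) (Lpn (LP (LK LD1_c0 LD2_c17 LD3_c20))))))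
theorem f334617 : Led Lsl_ff (LP (LK LD1_c0 LD2_c17 LD3_c39)) = (LP (LK LD1_c0 LD2_c29 LD3_c53)) :=
  Lgr Lrot72 (Lpr_et (K9.f20730 IH) (Lpr_ft (f334613 IH) (Lpr_et (f24226 IH) (Lpr_ft (f313727 IH) (Lpe (K9.f22389 IH) (Lpn (LP (LK LD1_c0 LD2_c29 LD3_c53))))))))
theorem f22386 : Led Lsl_ct (LP (LK LD1_c1 LD2_c5 LD3_c22)) = (LP (LK LD1_c0 LD2_c29 LD3_c53)) :=
  Lre_c IH (LK LD1_c1 LD2_c5 LD3_c22) (LK LD1_c0 LD2_c29 LD3_c53) Lrfl Lrfl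
theorem f334621 : Led Lsl_ft (LP (LK LD1_c0 LD2_c39 LD3_c26)) = (LP (LK LD1_c1 LD2_c5 LD3_c22)) :=
  Lgr Lrot4 (Lpe (K10.f177156 IH) (Lpr_ff (f334617 IH) (Lpe (f22386 IH) (Lpn (LP (LK LD1_c1 LD2_c5 LD3_c22))))))
theorem f334625 : Led Lsl_ff (LP (LK LD1_c0 LD2_c39 LD3_c26)) = (LP (LK LD1_c1 LD2_c5 LD3_c22)) :=
  Lgr Lrot3 (Lpr_ft (f334621 IH) (Lpn (LP (LK LD1_c1 LD2_c5 LD3_c22))))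
theorem f334627 : Led Lsl_ft (LP (LK LD1_c1 LD2_c25 LD3_c34)) = (LP (LK LD1_c2 LD2_c1 LD3_c1)) :=
  Lgr Lrot54 (Lpe (K10.f177159 IH) (Lpr_ff (f334625 IH) (Lpr_df (K9.f172060 IH) (Lpn (LP (LK LD1_c2 LD2_c1 LD3_c1))))))
theorem f334631 : Led Lsl_af (LP (LK LD1_c1 LD2_c25 LD3_c39)) = (LP (LK LD1_c2 LD2_c1 LD3_c1)) :=
  Lgr Lrot31 (Lpe (K9.f169090 IH) (Lpr_gf (K11.f177391 IH) (Lpr_ft (f334627 IH) (Lpn (LP (LK LD1_c2 LD2_c1 LD3_c1))))))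
theorem f334635 : Led Lsl_at (LP (LK LD1_c2 LD2_c59 LD3_c32)) = (LP (LK LD1_c2 LD2_c40 LD3_c1)) :=
  Lgr Lrot107 (Lpe (K9.f177448 IH) (Lpr_af (f334631 IH) (Lpr_cf (K10.f195569 IH) (Lpn (LP (LK LD1_c2 LD2_c40 LD3_c1))))))
theorem f334927 : Led Lsl_af (LP (LK LD1_c1 LD2_c25 LD3_c31)) = (LP (LK LD1_c2 LD2_c0 LD3_c43)) :=
  Lgr Lrot117 (Lpr_dt (K9.f177494 IH) (Lpr_at (f334635 IH) (Lpr_dt (K12.f187522 IH) (Lpn (LP (LK LD1_c2 LD2_c0 LD3_c43))))))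
theorem f334934 : Led Lsl_ft (LP (LK LD1_c1 LD2_c25 LD3_c37)) = (LP (LK LD1_c2 LD2_c0 LD3_c43)) :=
  Lgr Lrot2 (Lpe (K15.f183383 IH) (Lpr_gt (K9.f179038 IH) (Lpr_af (f334927 IH) (Lpn (LP (LK LD1_c2 LD2_c0 LD3_c43))))))
theorem f334941 : Led Lsl_ff (LP (LK LD1_c1 LD2_c25 LD3_c37)) = (LP (LK LD1_c2 LD2_c0 LD3_c43)) :=
  Lgr Lrot3 (Lpr_ft (f334934 IH) (Lpn (LP (LK LD1_c2 LD2_c0 LD3_c43))))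
theorem f42567 : Led Lsl_ft (LP (LK LD1_c5 LD2_c24 LD3_c50)) = (LP (LK LD1_c2 LD2_c38 LD3_c57)) :=
  Lre_f IH (LK LD1_c5 LD2_c24 LD3_c50) (LK LD1_c2 LD2_c38 LD3_c57) Lrfl Lrfl
theorem f194517 : Led Lsl_bt (LP (LK LD1_c2 LD2_c38 LD3_c57)) = (LP (LK LD1_c4 LD2_c2 LD3_c60)) :=
  Lgr Lrot35 (Lpe (f42567 IH) (Lpr_bf (K21.f194506 IH) (Lpe (K21.f194478 IH) (Lpn (LP (LK LD1_c4 LD2_c2 LD3_c60))))))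
theorem f194522 : Led Lsl_bf (LP (LK LD1_c2 LD2_c58 LD3_c23)) = (LP (LK LD1_c1 LD2_c58 LD3_c29)) :=
  Lgr Lrot96 (Lpe (K21.f42553 IH) (Lpr_bt (f194517 IH) (Lpr_et (K19.f194433 IH) (Lpn (LP (LK LD1_c1 LD2_c58 LD3_c29))))))
theorem f290993 : Led Lsl_gf (LP (LK LD1_c2 LD2_c0 LD3_c47)) = (LP (LK LD1_c2 LD2_c30 LD3_c30)) :=
  Lgr Lrot126 (Lpe (K14.f187531 IH) (Lpr_bt (K14.f226083 IH) (Lpr_gt (K19.f22099 IH) (Lpr_ct (K19.f290982 IH) (Lpr_gt (K19.f194527 IH) (Lpe (K15.f50809 IH) (Lpe (f194522 IH) (Lpe (K10.f184633 IH) (Lpe (K17.f184641 IH) (Lpr_ct (K11.f166131 IH) (Lpn (LP (LK LD1_c2 LD2_c30 LD3_c30)))))))))))))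
theorem f334950 : Led Lsl_at (LP (LK LD1_c1 LD2_c25 LD3_c37)) = (LP (LK LD1_c2 LD2_c0 LD3_c47)) :=
  Lgr Lrot26 (Lpr_ff (f334941 IH) (Lpe (K14.f198716 IH) (Lpe (f290993 IH) (Lpn (LP (LK LD1_c2 LD2_c0 LD3_c47))))))
theorem f334929 : Led Lsl_at (LP (LK LD1_c1 LD2_c25 LD3_c31)) = (LP (LK LD1_c2 LD2_c0 LD3_c43)) :=
  Lgr Lrot100 (Lpr_af (f334927 IH) (Lpn (LP (LK LD1_c2 LD2_c0 LD3_c43))))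
theorem f334961 : Led Lsl_ff (LP (LK LD1_c1 LD2_c25 LD3_c31)) = (LP (LK LD1_c2 LD2_c0 LD3_c47)) :=
  Lgr Lrot30 (Lpr_at (f334929 IH) (Lpe (f334941 IH) (Lpr_at (f334950 IH) (Lpn (LP (LK LD1_c2 LD2_c0 LD3_c47))))))
theorem f334967 : Led Lsl_ft (LP (LK LD1_c1 LD2_c25 LD3_c31)) = (LP (LK LD1_c2 LD2_c0 LD3_c47)) :=
  Lgr Lrot48 (Lpr_ff (f334961 IH) (Lpn (LP (LK LD1_c2 LD2_c0 LD3_c47))))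
theorem f334971 : Led Lsl_ff (LP (LK LD1_c0 LD2_c39 LD3_c24)) = (LP (LK LD1_c0 LD2_c57 LD3_c21)) :=
  Lgr Lrot23 (Lpr_ct (K10.f169001 IH) (Lpr_ft (f334967 IH) (Lpr_ct (K14.f187532 IH) (Lpn (LP (LK LD1_c0 LD2_c57 LD3_c21))))))
theorem f334932 : Led Lsl_at (LP (LK LD1_c0 LD2_c39 LD3_c24)) = (LP (LK LD1_c0 LD2_c57 LD3_c19)) :=
  Lgr Lrot107 (Lpe (K9.f169000 IH) (Lpr_af (f334927 IH) (Lpe (K12.f21290 IH) (Lpn (LP (LK LD1_c0 LD2_c57 LD3_c19))))))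
theorem f334938 : Led Lsl_ff (LP (LK LD1_c0 LD2_c39 LD3_c31)) = (LP (LK LD1_c0 LD2_c57 LD3_c19)) :=
  Lgr Lrot23 (Lpr_ct (K10.f177452 IH) (Lpr_ft (f334934 IH) (Lpr_ct (K12.f21293 IH) (Lpn (LP (LK LD1_c0 LD2_c57 LD3_c19))))))
theorem f334973 : Led Lsl_at (LP (LK LD1_c0 LD2_c39 LD3_c31)) = (LP (LK LD1_c0 LD2_c57 LD3_c21)) :=
  Lgr Lrot66 (Lpr_ff (f334938 IH) (Lpe (f334932 IH) (Lpr_ff (f334971 IH) (Lpn (LP (LK LD1_c0 LD2_c57 LD3_c21))))))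
theorem f22056 : Led Lsl_et (LP (LK LD1_c0 LD2_c57 LD3_c21)) = (LP (LK LD1_c2 LD2_c0 LD3_c48)) :=
  Lre_e IH (LK LD1_c0 LD2_c57 LD3_c21) (LK LD1_c2 LD2_c0 LD3_c48) Lrfl Lrfl
theorem f334977 : Led Lsl_af (LP (LK LD1_c1 LD2_c25 LD3_c38)) = (LP (LK LD1_c2 LD2_c0 LD3_c48)) :=
  Lgr Lrot50 (Lpr_et (K10.f177372 IH) (Lpr_at (f334973 IH) (Lpr_et (f22056 IH) (Lpn (LP (LK LD1_c2 LD2_c0 LD3_c48))))))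
theorem f334985 : Led Lsl_at (LP (LK LD1_c2 LD2_c28 LD3_c46)) = (LP (LK LD1_c2 LD2_c31 LD3_c60)) :=
  Lgr Lrot51 (Lpr_df (K10.f177559 IH) (Lpr_af (f334977 IH) (Lpe (K13.f22027 IH) (Lpn (LP (LK LD1_c2 LD2_c31 LD3_c60))))))
theorem f177561 : Led Lsl_ft (LP (LK LD1_c5 LD2_c2 LD3_c24)) = (LP (LK LD1_c2 LD2_c28 LD3_c46)) :=
  Lre_f IH (LK LD1_c5 LD2_c2 LD3_c24) (LK LD1_c2 LD2_c28 LD3_c46) Lrfl Lrfl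
theorem f22042 : Led Lsl_ft (LP (LK LD1_c2 LD2_c31 LD3_c60)) = (LP (LK LD1_c5 LD2_c9 LD3_c52)) :=
  Lre_f IH (LK LD1_c2 LD2_c31 LD3_c60) (LK LD1_c5 LD2_c9 LD3_c52) Lrfl Lrfl
theorem f334993 : Led Lsl_af (LP (LK LD1_c5 LD2_c2 LD3_c24)) = (LP (LK LD1_c5 LD2_c9 LD3_c52)) :=
  Lgr Lrot45 (Lpr_ft (f177561 IH) (Lpr_at (f334985 IH) (Lpr_ft (f22042 IH) (Lpn (LP (LK LD1_c5 LD2_c9 LD3_c52))))))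
theorem f177562 : Led Lsl_ft (LP (LK LD1_c1 LD2_c25 LD3_c38)) = (LP (LK LD1_c2 LD2_c59 LD3_c51)) :=
  Lre_f IH (LK LD1_c1 LD2_c25 LD3_c38) (LK LD1_c2 LD2_c59 LD3_c51) Lrfl Lrfl
theorem f177563 : Led Lsl_df (LP (LK LD1_c5 LD2_c2 LD3_c24)) = (LP (LK LD1_c2 LD2_c59 LD3_c51)) :=
  Lgr Lrot78 (Lpr_ft (f177561 IH) (Lpr_dt (K10.f177373 IH) (Lpr_ft (f177562 IH) (Lpn (LP (LK LD1_c2 LD2_c59 LD3_c51))))))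
theorem f177577 : Led Lsl_dt (LP (LK LD1_c5 LD2_c2 LD3_c24)) = (LP (LK LD1_c2 LD2_c59 LD3_c51)) :=
  Lgr Lrot42 (Lpr_df (f177563 IH) (Lpn (LP (LK LD1_c2 LD2_c59 LD3_c51))))
theorem f287834 : Led Lsl_at (LP (LK LD1_c2 LD2_c59 LD3_c51)) = (LP (LK LD1_c2 LD2_c44 LD3_c12)) :=
  Lgr Lrot26 (Lpe (f177562 IH) (Lpr_gt (K17.f177462 IH) (Lpr_gt (K21.f287832 IH) (Lpn (LP (LK LD1_c2 LD2_c44 LD3_c12))))))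
theorem f335002 : Led Lsl_dt (LP (LK LD1_c2 LD2_c44 LD3_c12)) = (LP (LK LD1_c5 LD2_c9 LD3_c52)) :=
  Lgr Lrot44 (Lpe (f287834 IH) (Lpe (f177577 IH) (Lpr_af (f334993 IH) (Lpn (LP (LK LD1_c5 LD2_c9 LD3_c52))))))
theorem f335007 : Led Lsl_df (LP (LK LD1_c2 LD2_c44 LD3_c12)) = (LP (LK LD1_c5 LD2_c9 LD3_c52)) :=
  Lgr Lrot38 (Lpr_dt (f335002 IH) (Lpn (LP (LK LD1_c5 LD2_c9 LD3_c52))))
theorem f21334 : Led Lsl_et (LP (LK LD1_c0 LD2_c33 LD3_c54)) = (LP (LK LD1_c1 LD2_c13 LD3_c7)) :=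
  Lre_e IH (LK LD1_c0 LD2_c33 LD3_c54) (LK LD1_c1 LD2_c13 LD3_c7) Lrfl Lrfl
theorem f169081 : Led Lsl_gt (LP (LK LD1_c1 LD2_c13 LD3_c7)) = (LP (LK LD1_c2 LD2_c32 LD3_c14)) :=
  Lre_g IH (LK LD1_c1 LD2_c13 LD3_c7) (LK LD1_c2 LD2_c32 LD3_c14) Lrfl Lrfl
theorem f335015 : Led Lsl_ef (LP (LK LD1_c2 LD2_c32 LD3_c14)) = (LP (LK LD1_c5 LD2_c9 LD3_c52)) :=
  Lgr Lrot17 (Lpe (f169081 IH) (Lpe (f21334 IH) (Lpr_dt (K10.f21332 IH) (Lpr_gf (K10.f186835 IH) (Lpe (K8.f3156 IH) (Lpr_gf (K10.f163914 IH) (Lpe (K19.f21991 IH) (Lpr_dt (K21.f253684 IH) (Lpe (K18.f183138 IH) (Lpr_df (f335007 IH) (Lpn (LP (LK LD1_c5 LD2_c9 LD3_c52)))))))))))))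
theorem f313893 : Led Lsl_ft (LP (LK LD1_c1 LD2_c11 LD3_c34)) = (LP (LK LD1_c1 LD2_c13 LD3_c0)) :=
  Lgr Lrot4 (Lpe (K9.f165278 IH) (Lpr_ff (K19.f313889 IH) (Lpe (K10.f22020 IH) (Lpn (LP (LK LD1_c1 LD2_c13 LD3_c0))))))
theorem f335023 : Led Lsl_ft (LP (LK LD1_c2 LD2_c32 LD3_c14)) = (LP (LK LD1_c2 LD2_c28 LD3_c48)) :=
  Lgr Lrot86 (Lpr_ef (f335015 IH) (Lpe (f22042 IH) (Lpe (K13.f22023 IH) (Lpe (f313893 IH) (Lpe (K14.f165283 IH) (Lpn (LP (LK LD1_c2 LD2_c28 LD3_c48))))))))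
theorem f335029 : Led Lsl_ff (LP (LK LD1_c2 LD2_c32 LD3_c14)) = (LP (LK LD1_c2 LD2_c28 LD3_c48)) :=
  Lgr Lrot3 (Lpr_ft (f335023 IH) (Lpn (LP (LK LD1_c2 LD2_c28 LD3_c48))))
theorem f249992 : Led Lsl_ct (LP (LK LD1_c2 LD2_c32 LD3_c14)) = (LP (LK LD1_c5 LD2_c10 LD3_c23)) :=
  Lre_c IH (LK LD1_c2 LD2_c32 LD3_c14) (LK LD1_c5 LD2_c10 LD3_c23) Lrfl Lrfl
theorem f335051 : Led Lsl_ft (LP (LK LD1_c5 LD2_c10 LD3_c23)) = (LP (LK LD1_c5 LD2_c2 LD3_c27)) :=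
  Lgr Lrot4 (Lpe (f249992 IH) (Lpr_ff (f335029 IH) (Lpe (K20.f171280 IH) (Lpn (LP (LK LD1_c5 LD2_c2 LD3_c27))))))
theorem f185364 : Led Lsl_et (LP (LK LD1_c2 LD2_c31 LD3_c59)) = (LP (LK LD1_c5 LD2_c9 LD3_c49)) :=
  Lre_e IH (LK LD1_c2 LD2_c31 LD3_c59) (LK LD1_c5 LD2_c9 LD3_c49) Lrfl Lrfl
theorem f185366 : Led Lsl_ft (LP (LK LD1_c5 LD2_c9 LD3_c49)) = (LP (LK LD1_c10 LD2_c10 LD3_c28)) :=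
  Lre_f IH (LK LD1_c5 LD2_c9 LD3_c49) (LK LD1_c10 LD2_c10 LD3_c28) Lrfl Lrfl
theorem f335059 : Led Lsl_ef (LP (LK LD1_c5 LD2_c10 LD3_c23)) = (LP (LK LD1_c10 LD2_c10 LD3_c28)) :=
  Lgr Lrot21 (Lpr_ft (f335051 IH) (Lpr_et (K20.f169599 IH) (Lpr_ft (K19.f313881 IH) (Lpr_et (f185364 IH) (Lpr_ft (f185366 IH) (Lpn (LP (LK LD1_c10 LD2_c10 LD3_c28))))))))
theorem f165544 : Led Lsl_et (LP (LK LD1_c5 LD2_c9 LD3_c39)) = (LP (LK LD1_c10 LD2_c10 LD3_c0)) :=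
  Lre_e IH (LK LD1_c5 LD2_c9 LD3_c39) (LK LD1_c10 LD2_c10 LD3_c0) Lrfl Lrfl
theorem f249705 : Led Lsl_at (LP (LK LD1_c9 LD2_c58 LD3_c14)) = (LP (LK LD1_c5 LD2_c3 LD3_c46)) :=
  Lre_a IH (LK LD1_c9 LD2_c58 LD3_c14) (LK LD1_c5 LD2_c3 LD3_c46) Lrfl Lrfl
theorem f249714 : Led Lsl_gf (LP (LK LD1_c9 LD2_c58 LD3_c26)) = (LP (LK LD1_c10 LD2_c11 LD3_c33)) :=
  Lgr Lrot47 (Lpr_gt (K17.f3138 IH) (Lpe (f249705 IH) (Lpr_ff (K14.f249703 IH) (Lpn (LP (LK LD1_c10 LD2_c11 LD3_c33))))))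
theorem f257775 : Led Lsl_gf (LP (LK LD1_c5 LD2_c19 LD3_c13)) = (LP (LK LD1_c5 LD2_c10 LD3_c10)) :=
  Lgr Lrot143 (Lpr_dt (K14.f43973 IH) (Lpe (K1.f43957 IH) (Lpe (K1.f43924 IH) (Lpe (K9.f184763 IH) (Lpe (K15.f184828 IH) (Lpr_gf (K15.f257598 IH) (Lpr_cf (K16.f240486 IH) (Lpr_gt (K13.f193083 IH) (Lpr_dt (K14.f240491 IH) (Lpn (LP (LK LD1_c5 LD2_c10 LD3_c10))))))))))))
theorem f288436 : Led Lsl_gt (LP (LK LD1_c10 LD2_c10 LD3_c0)) = (LP (LK LD1_c5 LD2_c10 LD3_c11)) :=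
  Lgr Lrot131 (Lpe (f165544 IH) (Lpr_dt (K17.f288406 IH) (Lpr_gf (f249714 IH) (Lpe (K14.f249083 IH) (Lpe (K14.f249074 IH) (Lpr_ef (K1.f43958 IH) (Lpr_dt (K14.f43977 IH) (Lpr_gf (f257775 IH) (Lpe (K14.f240491 IH) (Lpr_et (K18.f248284 IH) (Lpn (LP (LK LD1_c5 LD2_c10 LD3_c11)))))))))))))
theorem f302806 : Led Lsl_gt (LP (LK LD1_c5 LD2_c10 LD3_c23)) = (LP (LK LD1_c5 LD2_c6 LD3_c21)) :=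
  Lgr Lrot149 (Lpe (f249992 IH) (Lpe (f169081 IH) (Lpe (K18.f185876 IH) (Lpr_ct (K18.f185877 IH) (Lpe (f288436 IH) (Lpr_cf (K18.f294151 IH) (Lpr_bt (K18.f293776 IH) (Lpr_gf (K19.f302796 IH) (Lpe (K20.f300677 IH) (Lpr_ct (K20.f302805 IH) (Lpn (LP (LK LD1_c5 LD2_c6 LD3_c21)))))))))))))
theorem f304334 : Led Lsl_gf (LP (LK LD1_c5 LD2_c10 LD3_c23)) = (LP (LK LD1_c2 LD2_c33 LD3_c30)) :=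
  Lgr Lrot47 (Lpr_gt (f302806 IH) (Lpr_af (K20.f304326 IH) (Lpe (K20.f302187 IH) (Lpn (LP (LK LD1_c2 LD2_c33 LD3_c30))))))
theorem f163780 : Led Lsl_gt (LP (LK LD1_c10 LD2_c13 LD3_c8)) = (LP (LK LD1_c5 LD2_c11 LD3_c17)) :=
  Lre_g IH (LK LD1_c10 LD2_c13 LD3_c8) (LK LD1_c5 LD2_c11 LD3_c17) Lrfl Lrfl
theorem f335064 : Led Lsl_df (LP (LK LD1_c10 LD2_c13 LD3_c8)) = (LP (LK LD1_c10 LD2_c10 LD3_c28)) :=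
  Lgr Lrot170 (Lpr_gt (f163780 IH) (Lpe (K21.f21999 IH) (Lpr_et (K15.f21998 IH) (Lpe (K10.f163767 IH) (Lpr_dt (K9.f163727 IH) (Lpe (K10.f163936 IH) (Lpr_df (K10.f185264 IH) (Lpr_et (K20.f185267 IH) (Lpe (f304334 IH) (Lpr_ef (f335059 IH) (Lpn (LP (LK LD1_c10 LD2_c10 LD3_c28)))))))))))))
theorem f21394 : Led Lsl_et (LP (LK LD1_c2 LD2_c29 LD3_c31)) = (LP (LK LD1_c1 LD2_c11 LD3_c50)) :=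
  Lre_e IH (LK LD1_c2 LD2_c29 LD3_c31) (LK LD1_c1 LD2_c11 LD3_c50) Lrfl Lrfl
theorem f21395 : Led Lsl_dt (LP (LK LD1_c2 LD2_c29 LD3_c31)) = (LP (LK LD1_c5 LD2_c4 LD3_c10)) :=
  Lre_d IH (LK LD1_c2 LD2_c29 LD3_c31) (LK LD1_c5 LD2_c4 LD3_c10) Lrfl Lrfl
theorem f21396 : Led Lsl_gt (LP (LK LD1_c5 LD2_c4 LD3_c10)) = (LP (LK LD1_c9 LD2_c59 LD3_c11)) :=
  Lre_g IH (LK LD1_c5 LD2_c4 LD3_c10) (LK LD1_c9 LD2_c59 LD3_c11) Lrfl Lrfl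
theorem f165533 : Led Lsl_et (LP (LK LD1_c5 LD2_c9 LD3_c49)) = (LP (LK LD1_c2 LD2_c31 LD3_c59)) :=
  Lre_e IH (LK LD1_c5 LD2_c9 LD3_c49) (LK LD1_c2 LD2_c31 LD3_c59) Lrfl Lrfl
theorem f185356 : Led Lsl_df (LP (LK LD1_c9 LD2_c59 LD3_c11)) = (LP (LK LD1_c5 LD2_c9 LD3_c49)) :=
  Lgr Lrot168 (Lpe (f21396 IH) (Lpe (f21395 IH) (Lpr_et (f21394 IH) (Lpe (K9.f21393 IH) (Lpe (K0.f21371 IH) (Lpr_dt (K8.f21387 IH) (Lpe (K10.f21392 IH) (Lpr_df (K10.f185264 IH) (Lpe (K10.f165511 IH) (Lpe (f165533 IH) (Lpn (LP (LK LD1_c5 LD2_c9 LD3_c49)))))))))))))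
theorem f185362 : Led Lsl_dt (LP (LK LD1_c9 LD2_c59 LD3_c11)) = (LP (LK LD1_c5 LD2_c9 LD3_c49)) :=
  Lgr Lrot42 (Lpr_df (f185356 IH) (Lpn (LP (LK LD1_c5 LD2_c9 LD3_c49))))
theorem f335072 : Led Lsl_ft (LP (LK LD1_c10 LD2_c13 LD3_c8)) = (LP (LK LD1_c9 LD2_c59 LD3_c11)) :=
  Lgr Lrot54 (Lpr_df (f335064 IH) (Lpe (f185366 IH) (Lpe (f185362 IH) (Lpn (LP (LK LD1_c9 LD2_c59 LD3_c11))))))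
theorem f335078 : Led Lsl_af (LP (LK LD1_c9 LD2_c55 LD3_c35)) = (LP (LK LD1_c9 LD2_c59 LD3_c11)) :=
  Lgr Lrot31 (Lpr_gf (K21.f169612 IH) (Lpe (f163780 IH) (Lpr_ft (f335072 IH) (Lpn (LP (LK LD1_c9 LD2_c59 LD3_c11))))))
theorem f335080 : Led Lsl_at (LP (LK LD1_c9 LD2_c55 LD3_c35)) = (LP (LK LD1_c9 LD2_c59 LD3_c11)) :=
  Lgr Lrot100 (Lpr_af (f335078 IH) (Lpn (LP (LK LD1_c9 LD2_c59 LD3_c11))))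
theorem f165450 : Led Lsl_gt (LP (LK LD1_c9 LD2_c59 LD3_c12)) = (LP (LK LD1_c5 LD2_c4 LD3_c10)) :=
  Lre_g IH (LK LD1_c9 LD2_c59 LD3_c12) (LK LD1_c5 LD2_c4 LD3_c10) Lrfl Lrfl
theorem f335082 : Led Lsl_ff (LP (LK LD1_c9 LD2_c55 LD3_c35)) = (LP (LK LD1_c9 LD2_c59 LD3_c12)) :=
  Lgr Lrot52 (Lpr_at (f335080 IH) (Lpe (f21396 IH) (Lpe (f165450 IH) (Lpn (LP (LK LD1_c9 LD2_c59 LD3_c12))))))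
theorem f335089 : Led Lsl_ft (LP (LK LD1_c9 LD2_c55 LD3_c35)) = (LP (LK LD1_c9 LD2_c59 LD3_c12)) :=
  Lgr Lrot48 (Lpr_ff (f335082 IH) (Lpn (LP (LK LD1_c9 LD2_c59 LD3_c12))))
theorem f335091 : Led Lsl_af (LP (LK LD1_c10 LD2_c13 LD3_c8)) = (LP (LK LD1_c9 LD2_c59 LD3_c12)) :=
  Lgr Lrot45 (Lpr_ft (f335072 IH) (Lpe (f335078 IH) (Lpr_ft (f335089 IH) (Lpn (LP (LK LD1_c9 LD2_c59 LD3_c12))))))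
theorem f335069 : Led Lsl_dt (LP (LK LD1_c10 LD2_c13 LD3_c8)) = (LP (LK LD1_c10 LD2_c10 LD3_c28)) :=
  Lgr Lrot42 (Lpr_df (f335064 IH) (Lpn (LP (LK LD1_c10 LD2_c10 LD3_c28))))
theorem f313915 : Led Lsl_ft (LP (LK LD1_c5 LD2_c2 LD3_c21)) = (LP (LK LD1_c9 LD2_c55 LD3_c36)) :=
  Lre_f IH (LK LD1_c5 LD2_c2 LD3_c21) (LK LD1_c9 LD2_c55 LD3_c36) Lrfl Lrfl
theorem f335086 : Led Lsl_dt (LP (LK LD1_c9 LD2_c55 LD3_c36)) = (LP (LK LD1_c9 LD2_c59 LD3_c12)) :=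
  Lgr Lrot60 (Lpe (f313915 IH) (Lpe (K21.f169615 IH) (Lpr_ff (f335082 IH) (Lpn (LP (LK LD1_c9 LD2_c59 LD3_c12))))))
theorem f335096 : Led Lsl_at (LP (LK LD1_c10 LD2_c10 LD3_c28)) = (LP (LK LD1_c9 LD2_c55 LD3_c36)) :=
  Lgr Lrot51 (Lpe (f335069 IH) (Lpr_af (f335091 IH) (Lpe (f335086 IH) (Lpn (LP (LK LD1_c9 LD2_c55 LD3_c36))))))
theorem f185367 : Led Lsl_gt (LP (LK LD1_c5 LD2_c9 LD3_c49)) = (LP (LK LD1_c10 LD2_c10 LD3_c26)) :=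
  Lre_g IH (LK LD1_c5 LD2_c9 LD3_c49) (LK LD1_c10 LD2_c10 LD3_c26) Lrfl Lrfl
theorem f335103 : Led Lsl_gt (LP (LK LD1_c10 LD2_c10 LD3_c26)) = (LP (LK LD1_c9 LD2_c55 LD3_c36)) :=
  Lgr Lrot46 (Lpe (f185367 IH) (Lpr_ft (f185366 IH) (Lpr_at (f335096 IH) (Lpn (LP (LK LD1_c9 LD2_c55 LD3_c36))))))
theorem f170008 : Led Lsl_dt (LP (LK LD1_c5 LD2_c4 LD3_c10)) = (LP (LK LD1_c2 LD2_c29 LD3_c31)) :=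
  Lre_d IH (LK LD1_c5 LD2_c4 LD3_c10) (LK LD1_c2 LD2_c29 LD3_c31) Lrfl Lrfl
theorem f335107 : Led Lsl_cf (LP (LK LD1_c10 LD2_c10 LD3_c26)) = (LP (LK LD1_c5 LD2_c12 LD3_c11)) :=
  Lgr Lrot166 (Lpr_gt (f335103 IH) (Lpr_dt (f335086 IH) (Lpr_gt (f165450 IH) (Lpr_dt (f170008 IH) (Lpe (f169573 IH) (Lpe (K19.f255002 IH) (Lpr_gf (K16.f276146 IH) (Lpr_df (K9.f169489 IH) (Lpe (K16.f276144 IH) (Lpn (LP (LK LD1_c5 LD2_c12 LD3_c11))))))))))))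
theorem f183136 : Led Lsl_ct (LP (LK LD1_c2 LD2_c39 LD3_c36)) = (LP (LK LD1_c5 LD2_c26 LD3_c22)) :=
  Lre_c IH (LK LD1_c2 LD2_c39 LD3_c36) (LK LD1_c5 LD2_c26 LD3_c22) Lrfl Lrfl
theorem f177580 : Led Lsl_ct (LP (LK LD1_c9 LD2_c55 LD3_c36)) = (LP (LK LD1_c5 LD2_c2 LD3_c24)) :=
  Lre_c IH (LK LD1_c9 LD2_c55 LD3_c36) (LK LD1_c5 LD2_c2 LD3_c24) Lrfl Lrfl
theorem f177576 : Led Lsl_ct (LP (LK LD1_c6 LD2_c7 LD3_c21)) = (LP (LK LD1_c2 LD2_c59 LD3_c51)) :=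
  Lre_c IH (LK LD1_c6 LD2_c7 LD3_c21) (LK LD1_c2 LD2_c59 LD3_c51) Lrfl Lrfl
theorem f335109 : Led Lsl_gt (LP (LK LD1_c5 LD2_c26 LD3_c22)) = (LP (LK LD1_c6 LD2_c7 LD3_c21)) :=
  Lgr Lrot150 (Lpe (f183136 IH) (Lpe (K15.f183135 IH) (Lpe (K12.f185627 IH) (Lpr_gt (K14.f185640 IH) (Lpe (f335107 IH) (Lpr_gt (f335103 IH) (Lpr_ct (f177580 IH) (Lpr_df (f177563 IH) (Lpe (f177576 IH) (Lpn (LP (LK LD1_c6 LD2_c7 LD3_c21))))))))))))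
theorem f265333 : Led Lsl_bt (LP (LK LD1_c4 LD2_c20 LD3_c31)) = (LP (LK LD1_c2 LD2_c37 LD3_c26)) :=
  Lgr Lrot127 (Lpr_bf (K17.f265330 IH) (Lpn (LP (LK LD1_c2 LD2_c37 LD3_c26))))
theorem f316885 : Led Lsl_cf (LP (LK LD1_c9 LD2_c0 LD3_c45)) = (LP (LK LD1_c9 LD2_c0 LD3_c33)) :=
  Lgr Lrot166 (Lpr_gt (K20.f316874 IH) (Lpr_dt (K19.f171305 IH) (Lpe (K13.f213480 IH) (Lpr_dt (K16.f277975 IH) (Lpe (K19.f277968 IH) (Lpe (K12.f53677 IH) (Lpr_gf (K12.f212994 IH) (Lpe (K19.f167848 IH) (Lpr_gf (K20.f316710 IH) (Lpn (LP (LK LD1_c9 LD2_c0 LD3_c33))))))))))))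
theorem f27606 : Led Lsl_et (LP (LK LD1_c2 LD2_c4 LD3_c32)) = (LP (LK LD1_c4 LD2_c14 LD3_c20)) :=
  Lre_e IH (LK LD1_c2 LD2_c4 LD3_c32) (LK LD1_c4 LD2_c14 LD3_c20) Lrfl Lrfl
theorem f314569 : Led Lsl_df (LP (LK LD1_c1 LD2_c59 LD3_c25)) = (LP (LK LD1_c2 LD2_c25 LD3_c49)) :=
  Lgr Lrot70 (Lpe (K19.f189883 IH) (Lpr_dt (K14.f27604 IH) (Lpr_et (f27606 IH) (Lpr_dt (K19.f314565 IH) (Lpr_et (K19.f235442 IH) (Lpn (LP (LK LD1_c2 LD2_c25 LD3_c49))))))))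
theorem f316810 : Led Lsl_gt (LP (LK LD1_c1 LD2_c18 LD3_c11)) = (LP (LK LD1_c2 LD2_c25 LD3_c49)) :=
  Lgr Lrot94 (Lpe (K12.f199516 IH) (Lpr_gt (K12.f212996 IH) (Lpr_dt (K19.f194428 IH) (Lpr_gt (K20.f316706 IH) (Lpr_dt (K20.f238086 IH) (Lpe (K19.f212541 IH) (Lpr_df (K15.f238070 IH) (Lpr_gf (K20.f261286 IH) (Lpr_df (f314569 IH) (Lpn (LP (LK LD1_c2 LD2_c25 LD3_c49))))))))))))
theorem f316887 : Led Lsl_gf (LP (LK LD1_c9 LD2_c0 LD3_c33)) = (LP (LK LD1_c9 LD2_c51 LD3_c44)) :=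
  Lgr Lrot147 (Lpe (f316885 IH) (Lpr_gt (K20.f316874 IH) (Lpe (K20.f314391 IH) (Lpe (K19.f235270 IH) (Lpe (K13.f235304 IH) (Lpe (f316810 IH) (Lpe (K12.f199516 IH) (Lpe (K12.f213439 IH) (Lpe (K21.f213441 IH) (Lpn (LP (LK LD1_c9 LD2_c51 LD3_c44))))))))))))
theorem f187044 : Led Lsl_dt (LP (LK LD1_c4 LD2_c31 LD3_c18)) = (LP (LK LD1_c9 LD2_c0 LD3_c33)) :=
  Lre_d IH (LK LD1_c4 LD2_c31 LD3_c18) (LK LD1_c9 LD2_c0 LD3_c33) Lrfl Lrfl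
theorem f304046 : Led Lsl_et (LP (LK LD1_c4 LD2_c20 LD3_c30)) = (LP (LK LD1_c8 LD2_c38 LD3_c49)) :=
  Lre_e IH (LK LD1_c4 LD2_c20 LD3_c30) (LK LD1_c8 LD2_c38 LD3_c49) Lrfl Lrfl
theorem f316901 : Led Lsl_gt (LP (LK LD1_c9 LD2_c0 LD3_c34)) = (LP (LK LD1_c8 LD2_c38 LD3_c49)) :=
  Lgr Lrot131 (Lpe (K20.f316728 IH) (Lpr_dt (f187044 IH) (Lpr_gf (f316887 IH) (Lpe (K21.f54259 IH) (Lpe (K12.f54256 IH) (Lpe (K14.f54155 IH) (Lpr_dt (K0.f27893 IH) (Lpr_gf (K13.f204983 IH) (Lpe (K15.f265314 IH) (Lpr_et (f304046 IH) (Lpn (LP (LK LD1_c8 LD2_c38 LD3_c49)))))))))))))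
theorem f234260 : Led Lsl_ct (LP (LK LD1_c4 LD2_c31 LD3_c19)) = (LP (LK LD1_c9 LD2_c0 LD3_c34)) :=
  Lre_c IH (LK LD1_c4 LD2_c31 LD3_c19) (LK LD1_c9 LD2_c0 LD3_c34) Lrfl Lrfl
theorem f177584 : Led Lsl_ct (LP (LK LD1_c2 LD2_c59 LD3_c51)) = (LP (LK LD1_c6 LD2_c7 LD3_c21)) :=
  Lre_c IH (LK LD1_c2 LD2_c59 LD3_c51) (LK LD1_c6 LD2_c7 LD3_c21) Lrfl Lrfl
theorem f177583 : Led Lsl_bt (LP (LK LD1_c2 LD2_c59 LD3_c51)) = (LP (LK LD1_c6 LD2_c7 LD3_c16)) :=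
  Lre_b IH (LK LD1_c2 LD2_c59 LD3_c51) (LK LD1_c6 LD2_c7 LD3_c16) Lrfl Lrfl
theorem f335115 : Led Lsl_gf (LP (LK LD1_c4 LD2_c31 LD3_c19)) = (LP (LK LD1_c6 LD2_c7 LD3_c16)) :=
  Lgr Lrot181 (Lpr_ct (f234260 IH) (Lpr_gt (f316901 IH) (Lpe (K20.f265335 IH) (Lpr_bt (f265333 IH) (Lpr_gt (K15.f258151 IH) (Lpr_bf (K18.f268062 IH) (Lpr_ct (f183136 IH) (Lpr_gt (f335109 IH) (Lpe (f177584 IH) (Lpr_bt (f177583 IH) (Lpn (LP (LK LD1_c6 LD2_c7 LD3_c16)))))))))))))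
theorem f177628 : Led Lsl_ft (LP (LK LD1_c6 LD2_c7 LD3_c16)) = (LP (LK LD1_c2 LD2_c59 LD3_c47)) :=
  Lre_f IH (LK LD1_c6 LD2_c7 LD3_c16) (LK LD1_c2 LD2_c59 LD3_c47) Lrfl Lrfl
theorem f314189 : Led Lsl_dt (LP (LK LD1_c9 LD2_c53 LD3_c12)) = (LP (LK LD1_c6 LD2_c7 LD3_c16)) :=
  Lgr Lrot60 (Lpr_ff (K19.f314177 IH) (Lpr_df (K13.f177556 IH) (Lpe (f177628 IH) (Lpn (LP (LK LD1_c6 LD2_c7 LD3_c16))))))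
theorem f33171 : Led Lsl_gt (LP (LK LD1_c10 LD2_c7 LD3_c31)) = (LP (LK LD1_c5 LD2_c8 LD3_c33)) :=
  Lre_g IH (LK LD1_c10 LD2_c7 LD3_c31) (LK LD1_c5 LD2_c8 LD3_c33) Lrfl Lrfl
theorem f314179 : Led Lsl_gt (LP (LK LD1_c9 LD2_c53 LD3_c12)) = (LP (LK LD1_c10 LD2_c7 LD3_c31)) :=
  Lgr Lrot5 (Lpr_ft (K19.f314169 IH) (Lpe (K19.f314119 IH) (Lpe (f33171 IH) (Lpn (LP (LK LD1_c10 LD2_c7 LD3_c31))))))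
theorem f33174 : Led Lsl_ct (LP (LK LD1_c10 LD2_c7 LD3_c31)) = (LP (LK LD1_c18 LD2_c26 LD3_c39)) :=
  Lre_c IH (LK LD1_c10 LD2_c7 LD3_c31) (LK LD1_c18 LD2_c26 LD3_c39) Lrfl Lrfl
theorem f335121 : Led Lsl_gf (LP (LK LD1_c10 LD2_c7 LD3_c37)) = (LP (LK LD1_c18 LD2_c26 LD3_c39)) :=
  Lgr Lrot104 (Lpe (K18.f240168 IH) (Lpe (K17.f265336 IH) (Lpe (K20.f265348 IH) (Lpe (f316901 IH) (Lpe (f234260 IH) (Lpr_gf (f335115 IH) (Lpe (f314189 IH) (Lpr_gt (f314179 IH) (Lpr_ct (f33174 IH) (Lpn (LP (LK LD1_c18 LD2_c26 LD3_c39))))))))))))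
theorem f177565 : Led Lsl_ft (LP (LK LD1_c2 LD2_c28 LD3_c46)) = (LP (LK LD1_c5 LD2_c2 LD3_c24)) :=
  Lre_f IH (LK LD1_c2 LD2_c28 LD3_c46) (LK LD1_c5 LD2_c2 LD3_c24) Lrfl Lrfl
theorem f314171 : Led Lsl_bf (LP (LK LD1_c9 LD2_c53 LD3_c12)) = (LP (LK LD1_c5 LD2_c2 LD3_c24)) :=
  Lgr Lrot61 (Lpr_ft (K19.f314169 IH) (Lpr_bt (K13.f177554 IH) (Lpr_ft (f177565 IH) (Lpn (LP (LK LD1_c5 LD2_c2 LD3_c24))))))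
theorem f177575 : Led Lsl_ct (LP (LK LD1_c5 LD2_c2 LD3_c24)) = (LP (LK LD1_c9 LD2_c55 LD3_c36)) :=
  Lre_c IH (LK LD1_c5 LD2_c2 LD3_c24) (LK LD1_c9 LD2_c55 LD3_c36) Lrfl Lrfl
theorem f198755 : Led Lsl_bt (LP (LK LD1_c5 LD2_c12 LD3_c11)) = (LP (LK LD1_c10 LD2_c15 LD3_c8)) :=
  Lre_b IH (LK LD1_c5 LD2_c12 LD3_c11) (LK LD1_c10 LD2_c15 LD3_c8) Lrfl Lrfl
theorem f335133 : Led Lsl_gt (LP (LK LD1_c5 LD2_c13 LD3_c6)) = (LP (LK LD1_c10 LD2_c15 LD3_c8)) :=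
  Lgr Lrot164 (Lpr_bf (K17.f240375 IH) (Lpr_ct (K18.f240197 IH) (Lpr_gf (f335121 IH) (Lpe (f33174 IH) (Lpe (f314179 IH) (Lpr_bf (f314171 IH) (Lpr_ct (f177575 IH) (Lpe (f335103 IH) (Lpr_cf (f335107 IH) (Lpr_bt (f198755 IH) (Lpn (LP (LK LD1_c10 LD2_c15 LD3_c8)))))))))))))
theorem f44101 : Led Lsl_et (LP (LK LD1_c4 LD2_c27 LD3_c21)) = (LP (LK LD1_c2 LD2_c10 LD3_c52)) :=
  Lre_e IH (LK LD1_c4 LD2_c27 LD3_c21) (LK LD1_c2 LD2_c10 LD3_c52) Lrfl Lrfl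
theorem f46123 : Led Lsl_dt (LP (LK LD1_c4 LD2_c27 LD3_c21)) = (LP (LK LD1_c4 LD2_c27 LD3_c21)) :=
  Lgr Lrot79 (Lpe (K1.f44081 IH) (Lpr_df (K1.f46119 IH) (Lpe (K1.f44091 IH) (Lpn (LP (LK LD1_c4 LD2_c27 LD3_c21))))))
theorem f212114 : Led Lsl_ef (LP (LK LD1_c5 LD2_c18 LD3_c59)) = (LP (LK LD1_c5 LD2_c12 LD3_c11)) :=
  Lgr Lrot88 (Lpr_et (K15.f212108 IH) (Lpn (LP (LK LD1_c5 LD2_c12 LD3_c11))))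
theorem f212116 : Led Lsl_bt (LP (LK LD1_c5 LD2_c18 LD3_c59)) = (LP (LK LD1_c10 LD2_c27 LD3_c48)) :=
  Lre_b IH (LK LD1_c5 LD2_c18 LD3_c59) (LK LD1_c10 LD2_c27 LD3_c48) Lrfl Lrfl
theorem f198761 : Led Lsl_bt (LP (LK LD1_c10 LD2_c15 LD3_c8)) = (LP (LK LD1_c5 LD2_c12 LD3_c11)) :=
  Lre_b IH (LK LD1_c10 LD2_c15 LD3_c8) (LK LD1_c5 LD2_c12 LD3_c11) Lrfl Lrfl
theorem f212117 : Led Lsl_et (LP (LK LD1_c10 LD2_c27 LD3_c48)) = (LP (LK LD1_c10 LD2_c15 LD3_c8)) :=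
  Lgr Lrot74 (Lpe (f212116 IH) (Lpr_ef (f212114 IH) (Lpe (f198761 IH) (Lpn (LP (LK LD1_c10 LD2_c15 LD3_c8))))))
theorem f212126 : Led Lsl_dt (LP (LK LD1_c10 LD2_c27 LD3_c48)) = (LP (LK LD1_c5 LD2_c18 LD3_c58)) :=
  Lre_d IH (LK LD1_c10 LD2_c27 LD3_c48) (LK LD1_c5 LD2_c18 LD3_c58) Lrfl Lrfl
theorem f335141 : Led Lsl_gf (LP (LK LD1_c4 LD2_c27 LD3_c21)) = (LP (LK LD1_c5 LD2_c18 LD3_c58)) :=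
  Lgr Lrot145 (Lpe (f46123 IH) (Lpr_et (f44101 IH) (Lpr_gt (K14.f247437 IH) (Lpe (K14.f247426 IH) (Lpe (K15.f247629 IH) (Lpe (K18.f251562 IH) (Lpr_et (K15.f240372 IH) (Lpr_gt (f335133 IH) (Lpe (f212117 IH) (Lpr_dt (f212126 IH) (Lpn (LP (LK LD1_c5 LD2_c18 LD3_c58)))))))))))))
theorem f46313 : Led Lsl_at (LP (LK LD1_c4 LD2_c27 LD3_c31)) = (LP (LK LD1_c4 LD2_c27 LD3_c21)) :=
  Lgr Lrot66 (Lpe (K1.f44761 IH) (Lpr_af (K1.f46309 IH) (Lpr_ff (K1.f44072 IH) (Lpn (LP (LK LD1_c4 LD2_c27 LD3_c21))))))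
theorem f335143 : Led Lsl_gt (LP (LK LD1_c2 LD2_c36 LD3_c46)) = (LP (LK LD1_c5 LD2_c18 LD3_c58)) :=
  Lgr Lrot5 (Lpr_ft (K1.f44761 IH) (Lpr_at (f46313 IH) (Lpr_gf (f335141 IH) (Lpn (LP (LK LD1_c5 LD2_c18 LD3_c58))))))
theorem f44765 : Led Lsl_et (LP (LK LD1_c1 LD2_c15 LD3_c21)) = (LP (LK LD1_c2 LD2_c36 LD3_c46)) :=
  Lre_e IH (LK LD1_c1 LD2_c15 LD3_c21) (LK LD1_c2 LD2_c36 LD3_c46) Lrfl Lrfl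
theorem f195899 : Led Lsl_gt (LP (LK LD1_c2 LD2_c38 LD3_c45)) = (LP (LK LD1_c1 LD2_c16 LD3_c15)) :=
  Lre_g IH (LK LD1_c2 LD2_c38 LD3_c45) (LK LD1_c1 LD2_c16 LD3_c15) Lrfl Lrfl
theorem f306520 : Led Lsl_dt (LP (LK LD1_c5 LD2_c24 LD3_c26)) = (LP (LK LD1_c2 LD2_c38 LD3_c45)) :=
  Lre_d IH (LK LD1_c5 LD2_c24 LD3_c26) (LK LD1_c2 LD2_c38 LD3_c45) Lrfl Lrfl
theorem f335272 : Led Lsl_et (LP (LK LD1_c5 LD2_c24 LD3_c26)) = (LP (LK LD1_c5 LD2_c18 LD3_c58)) :=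
  Lgr Lrot122 (Lpr_dt (f306520 IH) (Lpr_gt (f195899 IH) (Lpe (K21.f195909 IH) (Lpe (K21.f306517 IH) (Lpe (K20.f264918 IH) (Lpr_dt (K9.f44075 IH) (Lpe (K15.f230431 IH) (Lpe (K14.f28290 IH) (Lpr_et (f44765 IH) (Lpr_gt (f335143 IH) (Lpn (LP (LK LD1_c5 LD2_c18 LD3_c58)))))))))))))
theorem f330422 : Led Lsl_df (LP (LK LD1_c5 LD2_c20 LD3_c48)) = (LP (LK LD1_c8 LD2_c52 LD3_c30)) :=
  Lgr Lrot38 (Lpr_dt (K21.f330420 IH) (Lpn (LP (LK LD1_c8 LD2_c52 LD3_c30))))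
theorem f335278 : Led Lsl_gf (LP (LK LD1_c2 LD2_c38 LD3_c45)) = (LP (LK LD1_c5 LD2_c20 LD3_c48)) :=
  Lgr Lrot134 (Lpe (f306520 IH) (Lpr_et (f335272 IH) (Lpe (f335141 IH) (Lpe (K1.f44071 IH) (Lpr_dt (K1.f46136 IH) (Lpe (K9.f183838 IH) (Lpe (K15.f44607 IH) (Lpr_et (K21.f44627 IH) (Lpr_gt (K21.f44621 IH) (Lpe (f330422 IH) (Lpn (LP (LK LD1_c5 LD2_c20 LD3_c48)))))))))))))
theorem f195900 : Led Lsl_et (LP (LK LD1_c5 LD2_c24 LD3_c27)) = (LP (LK LD1_c2 LD2_c38 LD3_c45)) :=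
  Lre_e IH (LK LD1_c5 LD2_c24 LD3_c27) (LK LD1_c2 LD2_c38 LD3_c45) Lrfl Lrfl
theorem f335139 : Led Lsl_dt (LP (LK LD1_c5 LD2_c24 LD3_c27)) = (LP (LK LD1_c10 LD2_c15 LD3_c8)) :=
  Lgr Lrot56 (Lpr_et (f195900 IH) (Lpr_gt (f195899 IH) (Lpe (K21.f258260 IH) (Lpr_dt (K15.f196569 IH) (Lpr_gt (K15.f223850 IH) (Lpr_df (K15.f258247 IH) (Lpe (K15.f258240 IH) (Lpr_gt (K15.f258148 IH) (Lpr_dt (K21.f265359 IH) (Lpr_gt (f335133 IH) (Lpn (LP (LK LD1_c10 LD2_c15 LD3_c8)))))))))))))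
theorem f335135 : Led Lsl_gf (LP (LK LD1_c10 LD2_c1 LD3_c44)) = (LP (LK LD1_c10 LD2_c15 LD3_c8)) :=
  Lgr Lrot76 (Lpe (K18.f293740 IH) (Lpe (K18.f240441 IH) (Lpr_gt (f335133 IH) (Lpn (LP (LK LD1_c10 LD2_c15 LD3_c8))))))
theorem f265411 : Led Lsl_ef (LP (LK LD1_c4 LD2_c28 LD3_c14)) = (LP (LK LD1_c8 LD2_c53 LD3_c0)) :=
  Lgr Lrot21 (Lpr_ft (K18.f265410 IH) (Lpr_et (K17.f41559 IH) (Lpr_ft (K15.f265406 IH) (Lpr_et (K15.f44642 IH) (Lpr_ft (K16.f44662 IH) (Lpn (LP (LK LD1_c8 LD2_c53 LD3_c0))))))))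
theorem f293972 : Led Lsl_et (LP (LK LD1_c10 LD2_c28 LD3_c41)) = (LP (LK LD1_c5 LD2_c21 LD3_c38)) :=
  Lgr Lrot71 (Lpr_df (K18.f293750 IH) (Lpe (K18.f293767 IH) (Lpr_df (K18.f293966 IH) (Lpr_ef (f265411 IH) (Lpe (K18.f44660 IH) (Lpn (LP (LK LD1_c5 LD2_c21 LD3_c38))))))))
theorem f44723 : Led Lsl_ft (LP (LK LD1_c5 LD2_c21 LD3_c38)) = (LP (LK LD1_c2 LD2_c37 LD3_c24)) :=
  Lre_f IH (LK LD1_c5 LD2_c21 LD3_c38) (LK LD1_c2 LD2_c37 LD3_c24) Lrfl Lrfl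
theorem f265540 : Led Lsl_gf (LP (LK LD1_c8 LD2_c54 LD3_c48)) = (LP (LK LD1_c5 LD2_c21 LD3_c38)) :=
  Lgr Lrot47 (Lpr_gt (K21.f42316 IH) (Lpr_af (K15.f265423 IH) (Lpe (f44723 IH) (Lpn (LP (LK LD1_c5 LD2_c21 LD3_c38))))))
theorem f235151 : Led Lsl_bt (LP (LK LD1_c5 LD2_c20 LD3_c48)) = (LP (LK LD1_c10 LD2_c31 LD3_c28)) :=
  Lre_b IH (LK LD1_c5 LD2_c20 LD3_c48) (LK LD1_c10 LD2_c31 LD3_c28) Lrfl Lrfl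
theorem f194491 : Led Lsl_bt (LP (LK LD1_c5 LD2_c24 LD3_c35)) = (LP (LK LD1_c2 LD2_c38 LD3_c58)) :=
  Lre_b IH (LK LD1_c5 LD2_c24 LD3_c35) (LK LD1_c2 LD2_c38 LD3_c58) Lrfl Lrfl
theorem f330242 : Led Lsl_ef (LP (LK LD1_c5 LD2_c20 LD3_c48)) = (LP (LK LD1_c2 LD2_c38 LD3_c58)) :=
  Lgr Lrot29 (Lpr_bt (f235151 IH) (Lpr_et (K21.f330238 IH) (Lpr_bt (f194491 IH) (Lpn (LP (LK LD1_c2 LD2_c38 LD3_c58))))))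
theorem f335286 : Led Lsl_gt (LP (LK LD1_c6 LD2_c4 LD3_c42)) = (LP (LK LD1_c5 LD2_c24 LD3_c50)) :=
  Lgr Lrot139 (Lpe (K21.f42319 IH) (Lpr_gf (f265540 IH) (Lpe (f293972 IH) (Lpr_dt (K21.f293754 IH) (Lpr_gf (f335135 IH) (Lpe (f335139 IH) (Lpr_et (f195900 IH) (Lpr_gf (f335278 IH) (Lpr_ef (f330242 IH) (Lpr_dt (K20.f194492 IH) (Lpn (LP (LK LD1_c5 LD2_c24 LD3_c50)))))))))))))
theorem f311252 : Led Lsl_ft (LP (LK LD1_c2 LD2_c38 LD3_c6)) = (LP (LK LD1_c1 LD2_c15 LD3_c60)) :=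
  Lre_f IH (LK LD1_c2 LD2_c38 LD3_c6) (LK LD1_c1 LD2_c15 LD3_c60) Lrfl Lrfl
theorem f311253 : Led Lsl_gt (LP (LK LD1_c2 LD2_c38 LD3_c6)) = (LP (LK LD1_c5 LD2_c20 LD3_c33)) :=
  Lgr Lrot5 (Lpr_ft (f311252 IH) (Lpr_at (K19.f311241 IH) (Lpe (K21.f42296 IH) (Lpn (LP (LK LD1_c5 LD2_c20 LD3_c33))))))
theorem f290050 : Led Lsl_et (LP (LK LD1_c6 LD2_c5 LD3_c6)) = (LP (LK LD1_c11 LD2_c53 LD3_c40)) :=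
  Lre_e IH (LK LD1_c6 LD2_c5 LD3_c6) (LK LD1_c11 LD2_c53 LD3_c40) Lrfl Lrfl
theorem f316395 : Led Lsl_df (LP (LK LD1_c6 LD2_c5 LD3_c6)) = (LP (LK LD1_c5 LD2_c21 LD3_c57)) :=
  Lgr Lrot70 (Lpr_et (f290050 IH) (Lpe (K20.f290044 IH) (Lpr_et (K20.f316393 IH) (Lpr_dt (K20.f256499 IH) (Lpr_et (K20.f199020 IH) (Lpn (LP (LK LD1_c5 LD2_c21 LD3_c57))))))))
theorem f199054 : Led Lsl_gt (LP (LK LD1_c5 LD2_c21 LD3_c56)) = (LP (LK LD1_c10 LD2_c34 LD3_c8)) :=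
  Lre_g IH (LK LD1_c5 LD2_c21 LD3_c56) (LK LD1_c10 LD2_c34 LD3_c8) Lrfl Lrfl
theorem f216456 : Led Lsl_ef (LP (LK LD1_c5 LD2_c39 LD3_c15)) = (LP (LK LD1_c5 LD2_c36 LD3_c8)) :=
  Lgr Lrot29 (Lpr_bt (K20.f216454 IH) (Lpr_et (K13.f216444 IH) (Lpr_bt (K15.f216455 IH) (Lpn (LP (LK LD1_c5 LD2_c36 LD3_c8))))))
theorem f259761 : Led Lsl_dt (LP (LK LD1_c5 LD2_c20 LD3_c15)) = (LP (LK LD1_c10 LD2_c10 LD3_c7)) :=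
  Lgr Lrot42 (Lpr_df (K15.f259752 IH) (Lpn (LP (LK LD1_c10 LD2_c10 LD3_c7))))
theorem f265576 : Led Lsl_cf (LP (LK LD1_c5 LD2_c36 LD3_c8)) = (LP (LK LD1_c10 LD2_c9 LD3_c46)) :=
  Lgr Lrot169 (Lpr_gt (K15.f261321 IH) (Lpr_ct (K14.f187873 IH) (Lpe (K14.f214092 IH) (Lpr_cf (K14.f215262 IH) (Lpe (K14.f215342 IH) (Lpr_cf (K12.f214306 IH) (Lpr_gf (K15.f259750 IH) (Lpe (f259761 IH) (Lpr_gt (K15.f265574 IH) (Lpn (LP (LK LD1_c10 LD2_c9 LD3_c46))))))))))))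
theorem f315840 : Led Lsl_ef (LP (LK LD1_c10 LD2_c9 LD3_c46)) = (LP (LK LD1_c5 LD2_c23 LD3_c47)) :=
  Lgr Lrot28 (Lpe (f265576 IH) (Lpe (f216456 IH) (Lpr_ct (K20.f315833 IH) (Lpn (LP (LK LD1_c5 LD2_c23 LD3_c47))))))
theorem f315849 : Led Lsl_et (LP (LK LD1_c10 LD2_c9 LD3_c46)) = (LP (LK LD1_c5 LD2_c23 LD3_c47)) :=
  Lgr Lrot87 (Lpr_ef (f315840 IH) (Lpn (LP (LK LD1_c5 LD2_c23 LD3_c47))))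
theorem f288473 : Led Lsl_ct (LP (LK LD1_c10 LD2_c9 LD3_c49)) = (LP (LK LD1_c10 LD2_c33 LD3_c53)) :=
  Lgr Lrot59 (Lpr_cf (K17.f288431 IH) (Lpn (LP (LK LD1_c10 LD2_c33 LD3_c53))))
theorem f198872 : Led Lsl_dt (LP (LK LD1_c5 LD2_c21 LD3_c55)) = (LP (LK LD1_c2 LD2_c37 LD3_c30)) :=
  Lre_d IH (LK LD1_c5 LD2_c21 LD3_c55) (LK LD1_c2 LD2_c37 LD3_c30) Lrfl Lrfl
theorem f288491 : Led Lsl_gt (LP (LK LD1_c10 LD2_c33 LD3_c53)) = (LP (LK LD1_c5 LD2_c21 LD3_c55)) :=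
  Lgr Lrot94 (Lpe (f288473 IH) (Lpr_gt (K17.f288482 IH) (Lpr_dt (K17.f214789 IH) (Lpe (K14.f214787 IH) (Lpr_dt (K13.f198889 IH) (Lpr_cf (K12.f215615 IH) (Lpr_df (K12.f198870 IH) (Lpe (K11.f198866 IH) (Lpe (f198872 IH) (Lpn (LP (LK LD1_c5 LD2_c21 LD3_c55))))))))))))
theorem f311068 : Led Lsl_gt (LP (LK LD1_c10 LD2_c31 LD3_c7)) = (LP (LK LD1_c19 LD2_c3 LD3_c54)) :=
  Lre_g IH (LK LD1_c10 LD2_c31 LD3_c7) (LK LD1_c19 LD2_c3 LD3_c54) Lrfl Lrfl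
theorem f311069 : Led Lsl_gf (LP (LK LD1_c10 LD2_c36 LD3_c55)) = (LP (LK LD1_c19 LD2_c3 LD3_c54)) :=
  Lgr Lrot76 (Lpr_af (K19.f311057 IH) (Lpe (K19.f42465 IH) (Lpr_gt (f311068 IH) (Lpn (LP (LK LD1_c19 LD2_c3 LD3_c54))))))
theorem f315855 : Led Lsl_dt (LP (LK LD1_c10 LD2_c34 LD3_c8)) = (LP (LK LD1_c19 LD2_c3 LD3_c54)) :=
  Lgr Lrot171 (Lpe (f199054 IH) (Lpe (K15.f256562 IH) (Lpr_dt (K14.f198873 IH) (Lpe (f288491 IH) (Lpe (K17.f288475 IH) (Lpr_et (f315849 IH) (Lpr_gf (K20.f303049 IH) (Lpe (K19.f310951 IH) (Lpr_dt (K19.f310947 IH) (Lpr_gf (f311069 IH) (Lpn (LP (LK LD1_c19 LD2_c3 LD3_c54)))))))))))))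
theorem f316521 : Led Lsl_gt (LP (LK LD1_c6 LD2_c5 LD3_c6)) = (LP (LK LD1_c5 LD2_c23 LD3_c18)) :=
  Lgr Lrot49 (Lpr_df (f316395 IH) (Lpe (K20.f198962 IH) (Lpe (K17.f199010 IH) (Lpr_gt (f199054 IH) (Lpr_dt (f315855 IH) (Lpe (f311069 IH) (Lpr_dt (K19.f310959 IH) (Lpe (K19.f310958 IH) (Lpe (K19.f283472 IH) (Lpn (LP (LK LD1_c5 LD2_c23 LD3_c18))))))))))))
theorem f330416 : Led Lsl_ef (LP (LK LD1_c10 LD2_c3 LD3_c12)) = (LP (LK LD1_c8 LD2_c52 LD3_c30)) :=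
  Lgr Lrot88 (Lpr_et (K21.f330412 IH) (Lpn (LP (LK LD1_c8 LD2_c52 LD3_c30))))
theorem f330424 : Led Lsl_ef (LP (LK LD1_c5 LD2_c24 LD3_c50)) = (LP (LK LD1_c6 LD2_c4 LD3_c55)) :=
  Lgr Lrot73 (Lpr_dt (K21.f194505 IH) (Lpe (f330242 IH) (Lpr_dt (K21.f330420 IH) (Lpe (f330416 IH) (Lpr_dt (K21.f329740 IH) (Lpn (LP (LK LD1_c6 LD2_c4 LD3_c55))))))))
theorem f329751 : Led Lsl_df (LP (LK LD1_c10 LD2_c3 LD3_c12)) = (LP (LK LD1_c6 LD2_c4 LD3_c55)) :=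
  Lgr Lrot38 (Lpr_dt (K21.f329740 IH) (Lpn (LP (LK LD1_c6 LD2_c4 LD3_c55))))
theorem f335289 : Led Lsl_gf (LP (LK LD1_c10 LD2_c14 LD3_c46)) = (LP (LK LD1_c10 LD2_c3 LD3_c12)) :=
  Lgr Lrot145 (Lpr_df (K20.f290044 IH) (Lpr_et (K20.f42480 IH) (Lpr_gt (f316521 IH) (Lpr_dt (K19.f283472 IH) (Lpr_gt (f311253 IH) (Lpr_df (K21.f42300 IH) (Lpr_et (K21.f42302 IH) (Lpr_gt (f335286 IH) (Lpr_ef (f330424 IH) (Lpe (f329751 IH) (Lpn (LP (LK LD1_c10 LD2_c3 LD3_c12)))))))))))))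
theorem f283474 : Led Lsl_ft (LP (LK LD1_c2 LD2_c58 LD3_c41)) = (LP (LK LD1_c6 LD2_c5 LD3_c1)) :=
  Lre_f IH (LK LD1_c2 LD2_c58 LD3_c41) (LK LD1_c6 LD2_c5 LD3_c1) Lrfl Lrfl
theorem f315928 : Led Lsl_df (LP (LK LD1_c4 LD2_c17 LD3_c27)) = (LP (LK LD1_c6 LD2_c5 LD3_c1)) :=
  Lgr Lrot78 (Lpr_ft (K20.f315924 IH) (Lpe (K21.f300855 IH) (Lpr_ft (f283474 IH) (Lpn (LP (LK LD1_c6 LD2_c5 LD3_c1))))))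
theorem f335345 : Led Lsl_gt (LP (LK LD1_c11 LD2_c52 LD3_c18)) = (LP (LK LD1_c6 LD2_c4 LD3_c55)) :=
  Lgr Lrot137 (Lpr_ef (K20.f315995 IH) (Lpr_dt (K21.f325324 IH) (Lpe (K21.f325348 IH) (Lpr_df (f315928 IH) (Lpe (K17.f283445 IH) (Lpe (f316521 IH) (Lpe (K20.f42480 IH) (Lpe (K20.f290044 IH) (Lpr_gf (f335289 IH) (Lpr_df (f329751 IH) (Lpn (LP (LK LD1_c6 LD2_c4 LD3_c55)))))))))))))
theorem f274419 : Led Lsl_ft (LP (LK LD1_c6 LD2_c4 LD3_c25)) = (LP (LK LD1_c11 LD2_c52 LD3_c19)) :=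
  Lre_f IH (LK LD1_c6 LD2_c4 LD3_c25) (LK LD1_c11 LD2_c52 LD3_c19) Lrfl Lrfl
theorem f335347 : Led Lsl_at (LP (LK LD1_c11 LD2_c52 LD3_c19)) = (LP (LK LD1_c6 LD2_c4 LD3_c55)) :=
  Lgr Lrot26 (Lpe (f274419 IH) (Lpr_gt (K20.f261306 IH) (Lpr_gt (f335345 IH) (Lpn (LP (LK LD1_c6 LD2_c4 LD3_c55))))))
theorem f335374 : Led Lsl_ef (LP (LK LD1_c11 LD2_c52 LD3_c19)) = (LP (LK LD1_c6 LD2_c4 LD3_c44)) :=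
  Lgr Lrot20 (Lpr_at (f335347 IH) (Lpe (f330424 IH) (Lpe (K20.f318195 IH) (Lpn (LP (LK LD1_c6 LD2_c4 LD3_c44))))))
theorem f274417 : Led Lsl_ft (LP (LK LD1_c11 LD2_c52 LD3_c19)) = (LP (LK LD1_c6 LD2_c4 LD3_c25)) :=
  Lre_f IH (LK LD1_c11 LD2_c52 LD3_c19) (LK LD1_c6 LD2_c4 LD3_c25) Lrfl Lrfl
theorem f335380 : Led Lsl_ft (LP (LK LD1_c2 LD2_c58 LD3_c24)) = (LP (LK LD1_c1 LD2_c24 LD3_c60)) :=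
  Lgr Lrot86 (Lpe (K20.f264901 IH) (Lpe (f274417 IH) (Lpr_ef (f335374 IH) (Lpe (K20.f42191 IH) (Lpe (K20.f42249 IH) (Lpn (LP (LK LD1_c1 LD2_c24 LD3_c60))))))))
theorem f335386 : Led Lsl_ff (LP (LK LD1_c2 LD2_c58 LD3_c24)) = (LP (LK LD1_c1 LD2_c24 LD3_c60)) :=
  Lgr Lrot3 (Lpr_ft (f335380 IH) (Lpn (LP (LK LD1_c1 LD2_c24 LD3_c60))))
theorem f22404 : Led Lsl_ct (LP (LK LD1_c2 LD2_c58 LD3_c24)) = (LP (LK LD1_c6 LD2_c4 LD3_c24)) :=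
  Lre_c IH (LK LD1_c2 LD2_c58 LD3_c24) (LK LD1_c6 LD2_c4 LD3_c24) Lrfl Lrfl
theorem f335390 : Led Lsl_ft (LP (LK LD1_c6 LD2_c4 LD3_c24)) = (LP (LK LD1_c2 LD2_c58 LD3_c31)) :=
  Lgr Lrot4 (Lpe (f22404 IH) (Lpr_ff (f335386 IH) (Lpe (K15.f182799 IH) (Lpn (LP (LK LD1_c2 LD2_c58 LD3_c31))))))
theorem f318185 : Led Lsl_at (LP (LK LD1_c2 LD2_c58 LD3_c31)) = (LP (LK LD1_c6 LD2_c4 LD3_c23)) :=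
  Lgr Lrot107 (Lpe (K15.f182766 IH) (Lpr_af (K20.f318179 IH) (Lpe (K16.f42499 IH) (Lpn (LP (LK LD1_c6 LD2_c4 LD3_c23))))))
theorem f318172 : Led Lsl_ff (LP (LK LD1_c2 LD2_c58 LD3_c37)) = (LP (LK LD1_c6 LD2_c4 LD3_c23)) :=
  Lgr Lrot23 (Lpr_ct (K15.f187844 IH) (Lpr_ft (K20.f318168 IH) (Lpr_ct (K17.f42503 IH) (Lpn (LP (LK LD1_c6 LD2_c4 LD3_c23))))))
theorem f335392 : Led Lsl_af (LP (LK LD1_c6 LD2_c4 LD3_c24)) = (LP (LK LD1_c2 LD2_c58 LD3_c37)) :=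
  Lgr Lrot45 (Lpr_ft (f335390 IH) (Lpr_at (f318185 IH) (Lpe (f318172 IH) (Lpn (LP (LK LD1_c2 LD2_c58 LD3_c37))))))
theorem f335407 : Led Lsl_et (LP (LK LD1_c6 LD2_c4 LD3_c24)) = (LP (LK LD1_c11 LD2_c52 LD3_c17)) :=
  Lre_e IH (LK LD1_c6 LD2_c4 LD3_c24) (LK LD1_c11 LD2_c52 LD3_c17) Lrfl Lrfl
theorem f335408 : Led Lsl_at (LP (LK LD1_c11 LD2_c52 LD3_c17)) = (LP (LK LD1_c6 LD2_c4 LD3_c52)) :=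
  Lgr Lrot80 (Lpe (f335407 IH) (Lpr_af (f335392 IH) (Lpe (f256868 IH) (Lpn (LP (LK LD1_c6 LD2_c4 LD3_c52))))))
theorem f333935 : Led Lsl_ft (LP (LK LD1_c6 LD2_c4 LD3_c52)) = (LP (LK LD1_c11 LD2_c53 LD3_c8)) :=
  Lre_f IH (LK LD1_c6 LD2_c4 LD3_c52) (LK LD1_c11 LD2_c53 LD3_c8) Lrfl Lrfl
theorem f333923 : Led Lsl_af (LP (LK LD1_c11 LD2_c3 LD3_c12)) = (LP (LK LD1_c8 LD2_c53 LD3_c35)) :=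
  Lgr Lrot45 (Lpr_ft (f333870 IH) (Lpe (f333871 IH) (Lpr_ft (f333921 IH) (Lpn (LP (LK LD1_c8 LD2_c53 LD3_c35))))))
theorem f246991 : Led Lsl_gt (LP (LK LD1_c19 LD2_c54 LD3_c55)) = (LP (LK LD1_c11 LD2_c3 LD3_c12)) :=
  Lre_g IH (LK LD1_c19 LD2_c54 LD3_c55) (LK LD1_c11 LD2_c3 LD3_c12) Lrfl Lrfl
theorem f333933 : Led Lsl_gt (LP (LK LD1_c11 LD2_c53 LD3_c6)) = (LP (LK LD1_c19 LD2_c54 LD3_c55)) :=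
  Lgr Lrot5 (Lpr_ft (f333921 IH) (Lpe (f333923 IH) (Lpe (f246991 IH) (Lpn (LP (LK LD1_c19 LD2_c54 LD3_c55))))))
theorem f333936 : Led Lsl_at (LP (LK LD1_c11 LD2_c53 LD3_c8)) = (LP (LK LD1_c19 LD2_c54 LD3_c55)) :=
  Lgr Lrot26 (Lpe (f333935 IH) (Lpr_gt (f244162 IH) (Lpr_gt (f333933 IH) (Lpn (LP (LK LD1_c19 LD2_c54 LD3_c55))))))
theorem f335414 : Led Lsl_ff (LP (LK LD1_c11 LD2_c52 LD3_c17)) = (LP (LK LD1_c19 LD2_c54 LD3_c55)) :=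
  Lgr Lrot30 (Lpr_at (f335408 IH) (Lpr_ft (f333935 IH) (Lpr_at (f333936 IH) (Lpn (LP (LK LD1_c19 LD2_c54 LD3_c55))))))
theorem f335424 : Led Lsl_ft (LP (LK LD1_c11 LD2_c52 LD3_c17)) = (LP (LK LD1_c19 LD2_c54 LD3_c55)) :=
  Lgr Lrot48 (Lpr_ff (f335414 IH) (Lpn (LP (LK LD1_c19 LD2_c54 LD3_c55))))
theorem f333938 : Led Lsl_af (LP (LK LD1_c11 LD2_c53 LD3_c8)) = (LP (LK LD1_c19 LD2_c54 LD3_c55)) :=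
  Lgr Lrot0 (Lpr_at (f333936 IH) (Lpn (LP (LK LD1_c19 LD2_c54 LD3_c55))))
theorem f246972 : Led Lsl_bt (LP (LK LD1_c11 LD2_c3 LD3_c14)) = (LP (LK LD1_c5 LD2_c35 LD3_c37)) :=
  Lre_b IH (LK LD1_c11 LD2_c3 LD3_c14) (LK LD1_c5 LD2_c35 LD3_c37) Lrfl Lrfl
theorem f329749 : Led Lsl_ct (LP (LK LD1_c6 LD2_c4 LD3_c55)) = (LP (LK LD1_c11 LD2_c53 LD3_c8)) :=
  Lre_c IH (LK LD1_c6 LD2_c4 LD3_c55) (LK LD1_c11 LD2_c53 LD3_c8) Lrfl Lrfl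
theorem f329765 : Led Lsl_gt (LP (LK LD1_c19 LD2_c54 LD3_c57)) = (LP (LK LD1_c11 LD2_c53 LD3_c8)) :=
  Lgr Lrot65 (Lpe (f247010 IH) (Lpr_bt (f246972 IH) (Lpr_gf (K20.f317267 IH) (Lpe (K20.f265608 IH) (Lpr_ct (K18.f243730 IH) (Lpr_gf (K18.f265677 IH) (Lpr_cf (K18.f244291 IH) (Lpe (K19.f243948 IH) (Lpr_bf (K21.f329747 IH) (Lpr_ct (f329749 IH) (Lpn (LP (LK LD1_c11 LD2_c53 LD3_c8)))))))))))))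
theorem f335433 : Led Lsl_gt (LP (LK LD1_c11 LD2_c52 LD3_c17)) = (LP (LK LD1_c19 LD2_c54 LD3_c57)) :=
  Lgr Lrot5 (Lpr_ft (f335424 IH) (Lpe (f333938 IH) (Lpe (f329765 IH) (Lpn (LP (LK LD1_c19 LD2_c54 LD3_c57))))))
theorem f261307 : Led Lsl_ct (LP (LK LD1_c6 LD2_c4 LD3_c25)) = (LP (LK LD1_c11 LD2_c52 LD3_c17)) :=
  Lre_c IH (LK LD1_c6 LD2_c4 LD3_c25) (LK LD1_c11 LD2_c52 LD3_c17) Lrfl Lrfl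
theorem f320656 : Led Lsl_at (LP (LK LD1_c2 LD2_c43 LD3_c44)) = (LP (LK LD1_c4 LD2_c31 LD3_c19)) :=
  Lgr Lrot107 (Lpe (K20.f212980 IH) (Lpr_af (K20.f320650 IH) (Lpe (f234260 IH) (Lpn (LP (LK LD1_c4 LD2_c31 LD3_c19))))))
theorem f335117 : Led Lsl_gt (LP (LK LD1_c5 LD2_c35 LD3_c37)) = (LP (LK LD1_c6 LD2_c7 LD3_c16)) :=
  Lgr Lrot5 (Lpr_ft (K20.f246947 IH) (Lpr_at (f320656 IH) (Lpr_gf (f335115 IH) (Lpn (LP (LK LD1_c6 LD2_c7 LD3_c16))))))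
theorem f314271 : Led Lsl_ct (LP (LK LD1_c6 LD2_c7 LD3_c16)) = (LP (LK LD1_c11 LD2_c57 LD3_c21)) :=
  Lre_c IH (LK LD1_c6 LD2_c7 LD3_c16) (LK LD1_c11 LD2_c57 LD3_c21) Lrfl Lrfl
theorem f335439 : Led Lsl_gf (LP (LK LD1_c9 LD2_c0 LD3_c43)) = (LP (LK LD1_c11 LD2_c57 LD3_c21)) :=
  Lgr Lrot129 (Lpe (K20.f320889 IH) (Lpe (K21.f318100 IH) (Lpr_gt (K20.f318114 IH) (Lpr_bf (K20.f274409 IH) (Lpr_ct (f261307 IH) (Lpr_gt (f335433 IH) (Lpe (f247010 IH) (Lpr_bt (f246972 IH) (Lpr_gt (f335117 IH) (Lpr_ct (f314271 IH) (Lpn (LP (LK LD1_c11 LD2_c57 LD3_c21)))))))))))))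
theorem f240271 : Led Lsl_ct (LP (LK LD1_c6 LD2_c4 LD3_c49)) = (LP (LK LD1_c11 LD2_c53 LD3_c0)) :=
  Lre_c IH (LK LD1_c6 LD2_c4 LD3_c49) (LK LD1_c11 LD2_c53 LD3_c0) Lrfl Lrfl
theorem f253678 : Led Lsl_ft (LP (LK LD1_c11 LD2_c5 LD3_c2)) = (LP (LK LD1_c19 LD2_c57 LD3_c54)) :=
  Lre_f IH (LK LD1_c11 LD2_c5 LD3_c2) (LK LD1_c19 LD2_c57 LD3_c54) Lrfl Lrfl
theorem f274394 : Led Lsl_gt (LP (LK LD1_c11 LD2_c53 LD3_c0)) = (LP (LK LD1_c11 LD2_c5 LD3_c16)) :=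
  Lgr Lrot46 (Lpr_gf (K19.f274392 IH) (Lpr_ft (f253678 IH) (Lpr_at (K14.f253677 IH) (Lpn (LP (LK LD1_c11 LD2_c5 LD3_c16))))))
theorem f177574 : Led Lsl_bt (LP (LK LD1_c6 LD2_c7 LD3_c16)) = (LP (LK LD1_c2 LD2_c59 LD3_c51)) :=
  Lre_b IH (LK LD1_c6 LD2_c7 LD3_c16) (LK LD1_c2 LD2_c59 LD3_c51) Lrfl Lrfl
theorem f335449 : Led Lsl_gt (LP (LK LD1_c2 LD2_c44 LD3_c13)) = (LP (LK LD1_c2 LD2_c59 LD3_c51)) :=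
  Lgr Lrot164 (Lpe (K14.f253670 IH) (Lpr_ct (K19.f253673 IH) (Lpe (f274394 IH) (Lpe (f240271 IH) (Lpe (K20.f318114 IH) (Lpr_bf (K21.f318100 IH) (Lpr_ct (K20.f320889 IH) (Lpr_gf (f335439 IH) (Lpe (f314271 IH) (Lpr_bt (f177574 IH) (Lpn (LP (LK LD1_c2 LD2_c59 LD3_c51)))))))))))))
theorem f335452 : Led Lsl_gf (LP (LK LD1_c2 LD2_c12 LD3_c22)) = (LP (LK LD1_c2 LD2_c59 LD3_c51)) :=
  Lgr Lrot76 (Lpr_af (K14.f253689 IH) (Lpe (K14.f253688 IH) (Lpr_gt (f335449 IH) (Lpn (LP (LK LD1_c2 LD2_c59 LD3_c51))))))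
theorem f248725 : Led Lsl_ct (LP (LK LD1_c2 LD2_c29 LD3_c16)) = (LP (LK LD1_c1 LD2_c11 LD3_c46)) :=
  Lre_c IH (LK LD1_c2 LD2_c29 LD3_c16) (LK LD1_c1 LD2_c11 LD3_c46) Lrfl Lrfl
theorem f248726 : Led Lsl_dt (LP (LK LD1_c5 LD2_c3 LD3_c34)) = (LP (LK LD1_c2 LD2_c29 LD3_c16)) :=
  Lre_d IH (LK LD1_c5 LD2_c3 LD3_c34) (LK LD1_c2 LD2_c29 LD3_c16) Lrfl Lrfl
theorem f165837 : Led Lsl_gt (LP (LK LD1_c9 LD2_c58 LD3_c2)) = (LP (LK LD1_c5 LD2_c3 LD3_c34)) :=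
  Lre_g IH (LK LD1_c9 LD2_c58 LD3_c2) (LK LD1_c5 LD2_c3 LD3_c34) Lrfl Lrfl
theorem f165825 : Led Lsl_dt (LP (LK LD1_c2 LD2_c29 LD3_c16)) = (LP (LK LD1_c5 LD2_c3 LD3_c34)) :=
  Lre_d IH (LK LD1_c2 LD2_c29 LD3_c16) (LK LD1_c5 LD2_c3 LD3_c34) Lrfl Lrfl
theorem f276078 : Led Lsl_df (LP (LK LD1_c9 LD2_c58 LD3_c2)) = (LP (LK LD1_c9 LD2_c55 LD3_c54)) :=
  Lgr Lrot170 (Lpr_gt (f165837 IH) (Lpe (f165825 IH) (Lpr_et (K14.f165824 IH) (Lpe (K9.f165811 IH) (Lpe (K9.f35020 IH) (Lpr_gt (K10.f165826 IH) (Lpe (K10.f28375 IH) (Lpr_et (K17.f165835 IH) (Lpr_gt (K16.f165836 IH) (Lpr_ef (K16.f276072 IH) (Lpn (LP (LK LD1_c9 LD2_c55 LD3_c54)))))))))))))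
theorem f179058 : Led Lsl_gt (LP (LK LD1_c5 LD2_c5 LD3_c33)) = (LP (LK LD1_c10 LD2_c2 LD3_c16)) :=
  Lre_g IH (LK LD1_c5 LD2_c5 LD3_c33) (LK LD1_c10 LD2_c2 LD3_c16) Lrfl Lrfl
theorem f264279 : Led Lsl_gf (LP (LK LD1_c9 LD2_c55 LD3_c54)) = (LP (LK LD1_c10 LD2_c2 LD3_c16)) :=
  Lgr Lrot76 (Lpr_af (K16.f264269 IH) (Lpe (K16.f264247 IH) (Lpr_gt (f179058 IH) (Lpn (LP (LK LD1_c10 LD2_c2 LD3_c16))))))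
theorem f335004 : Led Lsl_gf (LP (LK LD1_c5 LD2_c2 LD3_c24)) = (LP (LK LD1_c5 LD2_c9 LD3_c50)) :=
  Lgr Lrot76 (Lpr_af (f334993 IH) (Lpe (f22042 IH) (Lpr_gt (K14.f22045 IH) (Lpn (LP (LK LD1_c5 LD2_c9 LD3_c50))))))
theorem f335457 : Led Lsl_cf (LP (LK LD1_c10 LD2_c2 LD3_c16)) = (LP (LK LD1_c5 LD2_c9 LD3_c50)) :=
  Lgr Lrot166 (Lpe (f264279 IH) (Lpe (f276078 IH) (Lpr_gt (f165837 IH) (Lpr_dt (f248726 IH) (Lpr_ct (f248725 IH) (Lpr_df (K21.f250323 IH) (Lpr_gf (f335452 IH) (Lpe (f177577 IH) (Lpr_gf (f335004 IH) (Lpn (LP (LK LD1_c5 LD2_c9 LD3_c50))))))))))))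
theorem f264276 : Led Lsl_at (LP (LK LD1_c9 LD2_c55 LD3_c54)) = (LP (LK LD1_c10 LD2_c2 LD3_c18)) :=
  Lgr Lrot100 (Lpr_af (K16.f264269 IH) (Lpn (LP (LK LD1_c10 LD2_c2 LD3_c18))))
theorem f264319 : Led Lsl_ct (LP (LK LD1_c5 LD2_c12 LD3_c13)) = (LP (LK LD1_c9 LD2_c55 LD3_c54)) :=
  Lgr Lrot111 (Lpr_af (K15.f264311 IH) (Lpe (K18.f169492 IH) (Lpe (f264276 IH) (Lpn (LP (LK LD1_c9 LD2_c55 LD3_c54))))))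
theorem f48233 : Led Lsl_ct (LP (LK LD1_c5 LD2_c17 LD3_c30)) = (LP (LK LD1_c10 LD2_c24 LD3_c33)) :=
  Lre_c IH (LK LD1_c5 LD2_c17 LD3_c30) (LK LD1_c10 LD2_c24 LD3_c33) Lrfl Lrfl
theorem f189799 : Led Lsl_bt (LP (LK LD1_c5 LD2_c17 LD3_c30)) = (LP (LK LD1_c5 LD2_c15 LD3_c22)) :=
  Lgr Lrot127 (Lpr_bf (K10.f189797 IH) (Lpn (LP (LK LD1_c5 LD2_c15 LD3_c22))))
theorem f47771 : Led Lsl_gt (LP (LK LD1_c10 LD2_c20 LD3_c3)) = (LP (LK LD1_c5 LD2_c15 LD3_c22)) :=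
  Lre_g IH (LK LD1_c10 LD2_c20 LD3_c3) (LK LD1_c5 LD2_c15 LD3_c22) Lrfl Lrfl
theorem f330370 : Led Lsl_bf (LP (LK LD1_c10 LD2_c20 LD3_c3)) = (LP (LK LD1_c18 LD2_c21 LD3_c38)) :=
  Lgr Lrot156 (Lpr_gt (f47771 IH) (Lpe (f189799 IH) (Lpr_ct (f48233 IH) (Lpr_gt (K19.f257180 IH) (Lpr_cf (K19.f309525 IH) (Lpr_bt (K19.f253150 IH) (Lpr_gt (K21.f330353 IH) (Lpr_ct (K21.f263289 IH) (Lpr_gt (K21.f327254 IH) (Lpe (K19.f298636 IH) (Lpn (LP (LK LD1_c18 LD2_c21 LD3_c38)))))))))))))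
theorem f335482 : Led Lsl_gt (LP (LK LD1_c10 LD2_c15 LD3_c7)) = (LP (LK LD1_c10 LD2_c20 LD3_c3)) :=
  Lgr Lrot164 (Lpe (K15.f185645 IH) (Lpr_ct (f264319 IH) (Lpr_gf (f264279 IH) (Lpr_cf (f335457 IH) (Lpe (K14.f22045 IH) (Lpe (K14.f22033 IH) (Lpr_ct (K19.f22091 IH) (Lpe (K19.f22080 IH) (Lpe (K19.f298636 IH) (Lpe (f330370 IH) (Lpn (LP (LK LD1_c10 LD2_c20 LD3_c3)))))))))))))
theorem f236190 : Led Lsl_gt (LP (LK LD1_c2 LD2_c39 LD3_c47)) = (LP (LK LD1_c5 LD2_c26 LD3_c46)) :=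
  Lre_g IH (LK LD1_c2 LD2_c39 LD3_c47) (LK LD1_c5 LD2_c26 LD3_c46) Lrfl Lrfl
theorem f259340 : Led Lsl_et (LP (LK LD1_c10 LD2_c44 LD3_c44)) = (LP (LK LD1_c5 LD2_c26 LD3_c46)) :=
  Lre_e IH (LK LD1_c10 LD2_c44 LD3_c44) (LK LD1_c5 LD2_c26 LD3_c46) Lrfl Lrfl
theorem f259341 : Led Lsl_df (LP (LK LD1_c10 LD2_c20 LD3_c3)) = (LP (LK LD1_c10 LD2_c44 LD3_c44)) :=
  Lgr Lrot170 (Lpr_gt (f47771 IH) (Lpe (K10.f47764 IH) (Lpr_et (K10.f47753 IH) (Lpr_gt (K15.f259323 IH) (Lpr_dt (K13.f236115 IH) (Lpr_gt (K13.f175055 IH) (Lpr_df (K10.f8419 IH) (Lpr_et (K17.f236122 IH) (Lpr_gt (f236190 IH) (Lpe (f259340 IH) (Lpn (LP (LK LD1_c10 LD2_c44 LD3_c44)))))))))))))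
theorem f335484 : Led Lsl_gf (LP (LK LD1_c8 LD2_c16 LD3_c4)) = (LP (LK LD1_c5 LD2_c26 LD3_c46)) :=
  Lgr Lrot141 (Lpe (K17.f283008 IH) (Lpr_dt (K17.f283068 IH) (Lpr_gt (K17.f262066 IH) (Lpr_df (K15.f220696 IH) (Lpe (K15.f262082 IH) (Lpe (K17.f263406 IH) (Lpe (K12.f185655 IH) (Lpr_gt (f335482 IH) (Lpr_df (f259341 IH) (Lpr_et (f259340 IH) (Lpn (LP (LK LD1_c5 LD2_c26 LD3_c46)))))))))))))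
theorem f273407 : Led Lsl_ft (LP (LK LD1_c10 LD2_c25 LD3_c11)) = (LP (LK LD1_c5 LD2_c17 LD3_c46)) :=
  Lre_f IH (LK LD1_c10 LD2_c25 LD3_c11) (LK LD1_c5 LD2_c17 LD3_c46) Lrfl Lrfl
theorem f263246 : Led Lsl_ff (LP (LK LD1_c2 LD2_c39 LD3_c19)) = (LP (LK LD1_c2 LD2_c35 LD3_c38)) :=
  Lgr Lrot19 (Lpr_dt (K15.f263238 IH) (Lpr_ft (K15.f263196 IH) (Lpr_dt (K9.f32176 IH) (Lpn (LP (LK LD1_c2 LD2_c35 LD3_c38))))))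
theorem f301545 : Led Lsl_ef (LP (LK LD1_c4 LD2_c29 LD3_c13)) = (LP (LK LD1_c2 LD2_c39 LD3_c19)) :=
  Lgr Lrot21 (Lpr_ft (K18.f301532 IH) (Lpe (K18.f301518 IH) (Lpr_ft (f273407 IH) (Lpr_et (K15.f49093 IH) (Lpe (f263246 IH) (Lpn (LP (LK LD1_c2 LD2_c39 LD3_c19))))))))
theorem f197547 : Led Lsl_gt (LP (LK LD1_c2 LD2_c59 LD3_c16)) = (LP (LK LD1_c6 LD2_c6 LD3_c21)) :=
  Lre_g IH (LK LD1_c2 LD2_c59 LD3_c16) (LK LD1_c6 LD2_c6 LD3_c21) Lrfl Lrfl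
theorem f335486 : Led Lsl_dt (LP (LK LD1_c6 LD2_c6 LD3_c21)) = (LP (LK LD1_c5 LD2_c26 LD3_c46)) :=
  Lgr Lrot171 (Lpe (f197547 IH) (Lpe (K19.f197521 IH) (Lpr_dt (K14.f183337 IH) (Lpe (K15.f173205 IH) (Lpe (K15.f263238 IH) (Lpe (f301545 IH) (Lpe (K18.f301407 IH) (Lpe (K17.f244847 IH) (Lpr_dt (K18.f282959 IH) (Lpr_gf (f335484 IH) (Lpn (LP (LK LD1_c5 LD2_c26 LD3_c46)))))))))))))
theorem f263250 : Led Lsl_et (LP (LK LD1_c11 LD2_c56 LD3_c1)) = (LP (LK LD1_c6 LD2_c6 LD3_c21)) :=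
  Lre_e IH (LK LD1_c11 LD2_c56 LD3_c1) (LK LD1_c6 LD2_c6 LD3_c21) Lrfl Lrfl
theorem f48216 : Led Lsl_dt (LP (LK LD1_c4 LD2_c15 LD3_c8)) = (LP (LK LD1_c5 LD2_c17 LD3_c30)) :=
  Lgr Lrot42 (Lpr_df (K10.f48202 IH) (Lpn (LP (LK LD1_c5 LD2_c17 LD3_c30))))
theorem f48221 : Led Lsl_gt (LP (LK LD1_c10 LD2_c24 LD3_c35)) = (LP (LK LD1_c5 LD2_c17 LD3_c30)) :=
  Lre_g IH (LK LD1_c10 LD2_c24 LD3_c35) (LK LD1_c5 LD2_c17 LD3_c30) Lrfl Lrfl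
theorem f263251 : Led Lsl_df (LP (LK LD1_c10 LD2_c24 LD3_c35)) = (LP (LK LD1_c11 LD2_c56 LD3_c1)) :=
  Lgr Lrot170 (Lpr_gt (f48221 IH) (Lpe (f48216 IH) (Lpr_et (K10.f48200 IH) (Lpe (K15.f216176 IH) (Lpr_dt (K15.f263238 IH) (Lpr_gt (K15.f173205 IH) (Lpe (K14.f183337 IH) (Lpr_et (K19.f197521 IH) (Lpr_gt (f197547 IH) (Lpe (f263250 IH) (Lpn (LP (LK LD1_c11 LD2_c56 LD3_c1)))))))))))))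
theorem f263255 : Led Lsl_dt (LP (LK LD1_c10 LD2_c24 LD3_c35)) = (LP (LK LD1_c11 LD2_c56 LD3_c1)) :=
  Lgr Lrot42 (Lpr_df (f263251 IH) (Lpn (LP (LK LD1_c11 LD2_c56 LD3_c1))))
theorem f259346 : Led Lsl_et (LP (LK LD1_c5 LD2_c26 LD3_c46)) = (LP (LK LD1_c10 LD2_c44 LD3_c44)) :=
  Lre_e IH (LK LD1_c5 LD2_c26 LD3_c46) (LK LD1_c10 LD2_c44 LD3_c44) Lrfl Lrfl
theorem f335494 : Led Lsl_ef (LP (LK LD1_c10 LD2_c24 LD3_c35)) = (LP (LK LD1_c10 LD2_c20 LD3_c3)) :=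
  Lgr Lrot73 (Lpr_dt (f263255 IH) (Lpr_et (f263250 IH) (Lpr_dt (f335486 IH) (Lpr_et (f259346 IH) (Lpe (f259341 IH) (Lpn (LP (LK LD1_c10 LD2_c20 LD3_c3))))))))
theorem f335508 : Led Lsl_et (LP (LK LD1_c10 LD2_c24 LD3_c35)) = (LP (LK LD1_c10 LD2_c20 LD3_c3)) :=
  Lgr Lrot87 (Lpr_ef (f335494 IH) (Lpn (LP (LK LD1_c10 LD2_c20 LD3_c3))))
theorem f333442 : Led Lsl_gf (LP (LK LD1_c5 LD2_c18 LD3_c26)) = (LP (LK LD1_c5 LD2_c15 LD3_c5)) :=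
  Lgr Lrot147 (Lpr_ct (f333435 IH) (Lpr_gt (f333438 IH) (Lpe (K17.f286393 IH) (Lpe (K17.f286147 IH) (Lpr_cf (K17.f286255 IH) (Lpe (K17.f231699 IH) (Lpe (K20.f169510 IH) (Lpe (K20.f317765 IH) (Lpr_df (K20.f317687 IH) (Lpn (LP (LK LD1_c5 LD2_c15 LD3_c5))))))))))))
theorem f309765 : Led Lsl_dt (LP (LK LD1_c5 LD2_c18 LD3_c26)) = (LP (LK LD1_c10 LD2_c26 LD3_c38)) :=
  Lre_d IH (LK LD1_c5 LD2_c18 LD3_c26) (LK LD1_c10 LD2_c26 LD3_c38) Lrfl Lrfl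
theorem f335514 : Led Lsl_gf (LP (LK LD1_c11 LD2_c56 LD3_c1)) = (LP (LK LD1_c10 LD2_c26 LD3_c38)) :=
  Lgr Lrot134 (Lpe (f263255 IH) (Lpr_et (f335508 IH) (Lpr_gt (f47771 IH) (Lpe (K10.f47754 IH) (Lpe (K9.f47749 IH) (Lpr_gt (K15.f47760 IH) (Lpe (K15.f259208 IH) (Lpr_et (K14.f214800 IH) (Lpe (f333442 IH) (Lpr_dt (f309765 IH) (Lpn (LP (LK LD1_c10 LD2_c26 LD3_c38)))))))))))))
theorem f166069 : Led Lsl_bt (LP (LK LD1_c5 LD2_c16 LD3_c33)) = (LP (LK LD1_c2 LD2_c35 LD3_c1)) :=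
  Lre_b IH (LK LD1_c5 LD2_c16 LD3_c33) (LK LD1_c2 LD2_c35 LD3_c1) Lrfl Lrfl
theorem f333384 : Led Lsl_bt (LP (LK LD1_c2 LD2_c35 LD3_c52)) = (LP (LK LD1_c5 LD2_c18 LD3_c26)) :=
  Lre_b IH (LK LD1_c2 LD2_c35 LD3_c52) (LK LD1_c5 LD2_c18 LD3_c26) Lrfl Lrfl
theorem f333385 : Led Lsl_ef (LP (LK LD1_c5 LD2_c16 LD3_c33)) = (LP (LK LD1_c5 LD2_c18 LD3_c26)) :=
  Lgr Lrot29 (Lpr_bt (f166069 IH) (Lpr_et (f333378 IH) (Lpr_bt (f333384 IH) (Lpn (LP (LK LD1_c5 LD2_c18 LD3_c26))))))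
theorem f230011 : Led Lsl_et (LP (LK LD1_c2 LD2_c35 LD3_c17)) = (LP (LK LD1_c5 LD2_c17 LD3_c5)) :=
  Lre_e IH (LK LD1_c2 LD2_c35 LD3_c17) (LK LD1_c5 LD2_c17 LD3_c5) Lrfl Lrfl
theorem f251179 : Led Lsl_et (LP (LK LD1_c10 LD2_c23 LD3_c48)) = (LP (LK LD1_c5 LD2_c18 LD3_c0)) :=
  Lgr Lrot69 (Lpe (K15.f230004 IH) (Lpe (f230011 IH) (Lpr_ff (K14.f251173 IH) (Lpe (K10.f32190 IH) (Lpe (K14.f48283 IH) (Lpn (LP (LK LD1_c5 LD2_c18 LD3_c0))))))))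
theorem f335516 : Led Lsl_gf (LP (LK LD1_c5 LD2_c16 LD3_c33)) = (LP (LK LD1_c5 LD2_c18 LD3_c0)) :=
  Lgr Lrot141 (Lpr_ef (f333385 IH) (Lpr_dt (f309765 IH) (Lpe (f335514 IH) (Lpe (f263255 IH) (Lpr_et (f335508 IH) (Lpr_gt (f47771 IH) (Lpe (K10.f47755 IH) (Lpr_gt (K15.f47772 IH) (Lpr_df (K15.f262094 IH) (Lpr_et (f251179 IH) (Lpn (LP (LK LD1_c5 LD2_c18 LD3_c0)))))))))))))
theorem f167540 : Led Lsl_bt (LP (LK LD1_c4 LD2_c18 LD3_c14)) = (LP (LK LD1_c2 LD2_c6 LD3_c24)) :=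
  Lre_b IH (LK LD1_c4 LD2_c18 LD3_c14) (LK LD1_c2 LD2_c6 LD3_c24) Lrfl Lrfl
theorem f333372 : Led Lsl_bt (LP (LK LD1_c2 LD2_c35 LD3_c1)) = (LP (LK LD1_c5 LD2_c16 LD3_c33)) :=
  Lre_b IH (LK LD1_c2 LD2_c35 LD3_c1) (LK LD1_c5 LD2_c16 LD3_c33) Lrfl Lrfl
theorem f333427 : Led Lsl_df (LP (LK LD1_c4 LD2_c18 LD3_c14)) = (LP (LK LD1_c5 LD2_c16 LD3_c33)) :=
  Lgr Lrot12 (Lpr_bt (f167540 IH) (Lpr_dt (f333393 IH) (Lpr_bt (f333372 IH) (Lpn (LP (LK LD1_c5 LD2_c16 LD3_c33))))))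
theorem f47691 : Led Lsl_dt (LP (LK LD1_c2 LD2_c34 LD3_c34)) = (LP (LK LD1_c4 LD2_c8 LD3_c21)) :=
  Lgr Lrot42 (Lpr_df (K13.f47547 IH) (Lpn (LP (LK LD1_c4 LD2_c8 LD3_c21))))
theorem f335520 : Led Lsl_gt (LP (LK LD1_c4 LD2_c18 LD3_c14)) = (LP (LK LD1_c4 LD2_c8 LD3_c21)) :=
  Lgr Lrot139 (Lpr_df (f333427 IH) (Lpr_gf (f335516 IH) (Lpe (f251179 IH) (Lpe (K15.f262094 IH) (Lpe (K15.f47772 IH) (Lpr_df (K10.f47755 IH) (Lpr_et (K17.f47719 IH) (Lpe (K9.f45398 IH) (Lpe (K13.f47545 IH) (Lpr_dt (f47691 IH) (Lpn (LP (LK LD1_c4 LD2_c8 LD3_c21)))))))))))))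
theorem f333388 : Led Lsl_bt (LP (LK LD1_c2 LD2_c2 LD3_c53)) = (LP (LK LD1_c4 LD2_c11 LD3_c20)) :=
  Lre_b IH (LK LD1_c2 LD2_c2 LD3_c53) (LK LD1_c4 LD2_c11 LD3_c20) Lrfl Lrfl
theorem f333389 : Led Lsl_ef (LP (LK LD1_c4 LD2_c18 LD3_c14)) = (LP (LK LD1_c4 LD2_c11 LD3_c20)) :=
  Lgr Lrot29 (Lpr_bt (f167540 IH) (Lpr_et (f333376 IH) (Lpr_bt (f333388 IH) (Lpn (LP (LK LD1_c4 LD2_c11 LD3_c20))))))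
theorem f309759 : Led Lsl_dt (LP (LK LD1_c4 LD2_c11 LD3_c20)) = (LP (LK LD1_c8 LD2_c22 LD3_c27)) :=
  Lre_d IH (LK LD1_c4 LD2_c11 LD3_c20) (LK LD1_c8 LD2_c22 LD3_c27) Lrfl Lrfl
theorem f47672 : Led Lsl_dt (LP (LK LD1_c15 LD2_c33 LD3_c35)) = (LP (LK LD1_c15 LD2_c41 LD3_c17)) :=
  Lre_d IH (LK LD1_c15 LD2_c33 LD3_c35) (LK LD1_c15 LD2_c41 LD3_c17) Lrfl Lrfl
theorem f48963 : Led Lsl_df (LP (LK LD1_c5 LD2_c15 LD3_c28)) = (LP (LK LD1_c8 LD2_c29 LD3_c39)) :=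
  Lgr Lrot70 (Lpr_et (K10.f48300 IH) (Lpe (K10.f48311 IH) (Lpr_et (K21.f48316 IH) (Lpr_dt (f47672 IH) (Lpr_et (K21.f48960 IH) (Lpn (LP (LK LD1_c8 LD2_c29 LD3_c39))))))))
theorem f48972 : Led Lsl_gf (LP (LK LD1_c8 LD2_c20 LD3_c10)) = (LP (LK LD1_c15 LD2_c41 LD3_c17)) :=
  Lgr Lrot138 (Lpr_dt (K17.f837 IH) (Lpr_gt (K17.f815 IH) (Lpe (K17.f27324 IH) (Lpr_et (K1.f555 IH) (Lpr_gt (K10.f47554 IH) (Lpe (K13.f1330 IH) (Lpe (K13.f47547 IH) (Lpr_gt (K10.f47606 IH) (Lpr_df (f48963 IH) (Lpe (K21.f48948 IH) (Lpn (LP (LK LD1_c15 LD2_c41 LD3_c17)))))))))))))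
theorem f301475 : Led Lsl_df (LP (LK LD1_c10 LD2_c44 LD3_c11)) = (LP (LK LD1_c8 LD2_c17 LD3_c20)) :=
  Lgr Lrot38 (Lpr_dt (K21.f301470 IH) (Lpn (LP (LK LD1_c8 LD2_c17 LD3_c20))))
theorem f335523 : Led Lsl_gf (LP (LK LD1_c8 LD2_c22 LD3_c27)) = (LP (LK LD1_c10 LD2_c44 LD3_c11)) :=
  Lgr Lrot145 (Lpe (f309759 IH) (Lpe (f333389 IH) (Lpr_gt (f335520 IH) (Lpe (K13.f47547 IH) (Lpr_gt (K10.f47606 IH) (Lpr_df (f48963 IH) (Lpe (K21.f48948 IH) (Lpe (f48972 IH) (Lpr_ef (K21.f234220 IH) (Lpe (f301475 IH) (Lpn (LP (LK LD1_c10 LD2_c44 LD3_c11)))))))))))))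
theorem f309760 : Led Lsl_dt (LP (LK LD1_c8 LD2_c22 LD3_c27)) = (LP (LK LD1_c4 LD2_c11 LD3_c20)) :=
  Lre_d IH (LK LD1_c8 LD2_c22 LD3_c27) (LK LD1_c4 LD2_c11 LD3_c20) Lrfl Lrfl
theorem f301484 : Led Lsl_dt (LP (LK LD1_c5 LD2_c26 LD3_c28)) = (LP (LK LD1_c8 LD2_c20 LD3_c11)) :=
  Lgr Lrot42 (Lpr_df (K21.f301478 IH) (Lpn (LP (LK LD1_c8 LD2_c20 LD3_c11))))
theorem f243136 : Led Lsl_gt (LP (LK LD1_c4 LD2_c15 LD3_c48)) = (LP (LK LD1_c8 LD2_c30 LD3_c41)) :=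
  Lre_g IH (LK LD1_c4 LD2_c15 LD3_c48) (LK LD1_c8 LD2_c30 LD3_c41) Lrfl Lrfl
theorem f285606 : Led Lsl_ef (LP (LK LD1_c10 LD2_c44 LD3_c8)) = (LP (LK LD1_c11 LD2_c55 LD3_c32)) :=
  Lgr Lrot88 (Lpr_et (K21.f285599 IH) (Lpn (LP (LK LD1_c11 LD2_c55 LD3_c32))))
theorem f220056 : Led Lsl_gt (LP (LK LD1_c8 LD2_c18 LD3_c27)) = (LP (LK LD1_c4 LD2_c9 LD3_c12)) :=
  Lre_g IH (LK LD1_c8 LD2_c18 LD3_c27) (LK LD1_c4 LD2_c9 LD3_c12) Lrfl Lrfl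
theorem f47700 : Led Lsl_gt (LP (LK LD1_c4 LD2_c8 LD3_c21)) = (LP (LK LD1_c8 LD2_c16 LD3_c46)) :=
  Lre_g IH (LK LD1_c4 LD2_c8 LD3_c21) (LK LD1_c8 LD2_c16 LD3_c46) Lrfl Lrfl
theorem f47730 : Led Lsl_et (LP (LK LD1_c15 LD2_c34 LD3_c7)) = (LP (LK LD1_c8 LD2_c16 LD3_c46)) :=
  Lre_e IH (LK LD1_c15 LD2_c34 LD3_c7) (LK LD1_c8 LD2_c16 LD3_c46) Lrfl Lrfl
theorem f236420 : Led Lsl_dt (LP (LK LD1_c15 LD2_c34 LD3_c7)) = (LP (LK LD1_c8 LD2_c18 LD3_c27)) :=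
  Lgr Lrot136 (Lpr_et (f47730 IH) (Lpe (f47700 IH) (Lpe (K13.f47546 IH) (Lpe (K13.f47542 IH) (Lpr_gf (K13.f236412 IH) (Lpe (K12.f220062 IH) (Lpr_gf (K12.f220046 IH) (Lpe (K21.f220054 IH) (Lpr_dt (K21.f220055 IH) (Lpe (f220056 IH) (Lpn (LP (LK LD1_c8 LD2_c18 LD3_c27)))))))))))))
theorem f285611 : Led Lsl_gt (LP (LK LD1_c10 LD2_c44 LD3_c8)) = (LP (LK LD1_c15 LD2_c34 LD3_c7)) :=
  Lgr Lrot137 (Lpr_ef (f285606 IH) (Lpr_dt (K21.f220185 IH) (Lpe (K17.f220172 IH) (Lpe (K17.f220164 IH) (Lpr_et (K17.f1364 IH) (Lpr_gf (K12.f220046 IH) (Lpe (K21.f220054 IH) (Lpr_dt (K21.f220055 IH) (Lpe (f220056 IH) (Lpe (f236420 IH) (Lpn (LP (LK LD1_c15 LD2_c34 LD3_c7)))))))))))))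
theorem f285609 : Led Lsl_et (LP (LK LD1_c5 LD2_c26 LD3_c27)) = (LP (LK LD1_c8 LD2_c57 LD3_c46)) :=
  Lgr Lrot71 (Lpe (K21.f285598 IH) (Lpr_ef (f285606 IH) (Lpe (K21.f220178 IH) (Lpe (K17.f282445 IH) (Lpr_df (K17.f263033 IH) (Lpn (LP (LK LD1_c8 LD2_c57 LD3_c46))))))))
theorem f250175 : Led Lsl_gt (LP (LK LD1_c10 LD2_c25 LD3_c9)) = (LP (LK LD1_c5 LD2_c17 LD3_c46)) :=
  Lre_g IH (LK LD1_c10 LD2_c25 LD3_c9) (LK LD1_c5 LD2_c17 LD3_c46) Lrfl Lrfl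
theorem f236425 : Led Lsl_df (LP (LK LD1_c15 LD2_c34 LD3_c7)) = (LP (LK LD1_c8 LD2_c18 LD3_c27)) :=
  Lgr Lrot38 (Lpr_dt (f236420 IH) (Lpn (LP (LK LD1_c8 LD2_c18 LD3_c27))))
theorem f285621 : Led Lsl_ef (LP (LK LD1_c10 LD2_c25 LD3_c9)) = (LP (LK LD1_c8 LD2_c18 LD3_c27)) :=
  Lgr Lrot167 (Lpr_gt (f250175 IH) (Lpr_dt (K15.f49094 IH) (Lpr_gt (K15.f263019 IH) (Lpr_df (K15.f261837 IH) (Lpe (K15.f262974 IH) (Lpr_gt (K17.f263032 IH) (Lpe (f285609 IH) (Lpr_dt (K21.f285603 IH) (Lpr_gt (f285611 IH) (Lpr_df (f236425 IH) (Lpn (LP (LK LD1_c8 LD2_c18 LD3_c27)))))))))))))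
theorem f285625 : Led Lsl_et (LP (LK LD1_c10 LD2_c25 LD3_c9)) = (LP (LK LD1_c8 LD2_c18 LD3_c27)) :=
  Lgr Lrot87 (Lpr_ef (f285621 IH) (Lpn (LP (LK LD1_c8 LD2_c18 LD3_c27))))
theorem f259256 : Led Lsl_gt (LP (LK LD1_c5 LD2_c31 LD3_c20)) = (LP (LK LD1_c10 LD2_c54 LD3_c18)) :=
  Lre_g IH (LK LD1_c5 LD2_c31 LD3_c20) (LK LD1_c10 LD2_c54 LD3_c18) Lrfl Lrfl
theorem f285629 : Led Lsl_dt (LP (LK LD1_c10 LD2_c25 LD3_c9)) = (LP (LK LD1_c10 LD2_c54 LD3_c18)) :=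
  Lgr Lrot56 (Lpr_et (f285625 IH) (Lpr_gt (f220056 IH) (Lpe (K21.f246259 IH) (Lpr_dt (K16.f190837 IH) (Lpe (K15.f259248 IH) (Lpe (K14.f212217 IH) (Lpr_et (K15.f212208 IH) (Lpr_gt (K18.f185887 IH) (Lpr_dt (K21.f259255 IH) (Lpr_gt (f259256 IH) (Lpn (LP (LK LD1_c10 LD2_c54 LD3_c18)))))))))))))
theorem f285631 : Led Lsl_df (LP (LK LD1_c10 LD2_c25 LD3_c9)) = (LP (LK LD1_c10 LD2_c54 LD3_c18)) :=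
  Lgr Lrot38 (Lpr_dt (f285629 IH) (Lpn (LP (LK LD1_c10 LD2_c54 LD3_c18))))
theorem f275786 : Led Lsl_gt (LP (LK LD1_c8 LD2_c56 LD3_c42)) = (LP (LK LD1_c10 LD2_c25 LD3_c9)) :=
  Lgr Lrot5 (Lpr_ft (K16.f273417 IH) (Lpr_at (K18.f275771 IH) (Lpe (f250175 IH) (Lpn (LP (LK LD1_c10 LD2_c25 LD3_c9))))))
theorem f250174 : Led Lsl_dt (LP (LK LD1_c2 LD2_c35 LD3_c37)) = (LP (LK LD1_c5 LD2_c17 LD3_c46)) :=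
  Lre_d IH (LK LD1_c2 LD2_c35 LD3_c37) (LK LD1_c5 LD2_c17 LD3_c46) Lrfl Lrfl
theorem f250173 : Led Lsl_et (LP (LK LD1_c2 LD2_c35 LD3_c37)) = (LP (LK LD1_c1 LD2_c14 LD3_c51)) :=
  Lre_e IH (LK LD1_c2 LD2_c35 LD3_c37) (LK LD1_c1 LD2_c14 LD3_c51) Lrfl Lrfl
theorem f285634 : Led Lsl_ef (LP (LK LD1_c8 LD2_c30 LD3_c41)) = (LP (LK LD1_c10 LD2_c54 LD3_c18)) :=
  Lgr Lrot17 (Lpe (f243136 IH) (Lpe (K13.f197058 IH) (Lpr_dt (K10.f197013 IH) (Lpe (K15.f197024 IH) (Lpe (K15.f259654 IH) (Lpe (K14.f250062 IH) (Lpe (f250173 IH) (Lpr_dt (f250174 IH) (Lpe (f250175 IH) (Lpr_df (f285631 IH) (Lpn (LP (LK LD1_c10 LD2_c54 LD3_c18)))))))))))))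
theorem f285636 : Led Lsl_gf (LP (LK LD1_c5 LD2_c18 LD3_c0)) = (LP (LK LD1_c8 LD2_c30 LD3_c41)) :=
  Lgr Lrot141 (Lpe (f251179 IH) (Lpe (K15.f262094 IH) (Lpe (K17.f263406 IH) (Lpe (K15.f185647 IH) (Lpr_et (K15.f263398 IH) (Lpr_gt (K16.f261839 IH) (Lpe (K16.f273402 IH) (Lpr_gt (f275786 IH) (Lpr_df (f285631 IH) (Lpe (f285634 IH) (Lpn (LP (LK LD1_c8 LD2_c30 LD3_c41)))))))))))))
theorem f236427 : Led Lsl_et (LP (LK LD1_c8 LD2_c16 LD3_c46)) = (LP (LK LD1_c15 LD2_c34 LD3_c7)) :=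
  Lre_e IH (LK LD1_c8 LD2_c16 LD3_c46) (LK LD1_c15 LD2_c34 LD3_c7) Lrfl Lrfl
theorem f285638 : Led Lsl_dt (LP (LK LD1_c8 LD2_c16 LD3_c46)) = (LP (LK LD1_c8 LD2_c30 LD3_c41)) :=
  Lgr Lrot136 (Lpr_et (f236427 IH) (Lpe (f285611 IH) (Lpr_ef (f285606 IH) (Lpr_dt (K21.f220185 IH) (Lpe (K17.f220172 IH) (Lpe (K17.f220164 IH) (Lpr_gf (K15.f262078 IH) (Lpr_ef (K14.f251074 IH) (Lpr_dt (K14.f48284 IH) (Lpr_gf (f285636 IH) (Lpn (LP (LK LD1_c8 LD2_c30 LD3_c41)))))))))))))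
theorem f301487 : Led Lsl_gt (LP (LK LD1_c15 LD2_c34 LD3_c7)) = (LP (LK LD1_c8 LD2_c20 LD3_c11)) :=
  Lgr Lrot137 (Lpe (f236427 IH) (Lpr_dt (f285638 IH) (Lpe (f243136 IH) (Lpe (K13.f243051 IH) (Lpr_et (K17.f243111 IH) (Lpe (K13.f839 IH) (Lpe (K18.f840 IH) (Lpe (K18.f245919 IH) (Lpe (K21.f285645 IH) (Lpr_df (K21.f301478 IH) (Lpn (LP (LK LD1_c8 LD2_c20 LD3_c11)))))))))))))
theorem f335525 : Led Lsl_gt (LP (LK LD1_c4 LD2_c11 LD3_c20)) = (LP (LK LD1_c4 LD2_c16 LD3_c11)) :=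
  Lgr Lrot139 (Lpe (f309760 IH) (Lpr_gf (f335523 IH) (Lpe (K21.f301477 IH) (Lpr_dt (f301484 IH) (Lpe (f301487 IH) (Lpr_df (f236425 IH) (Lpe (f285621 IH) (Lpe (f275786 IH) (Lpe (K16.f273404 IH) (Lpr_dt (K16.f273439 IH) (Lpn (LP (LK LD1_c4 LD2_c16 LD3_c11)))))))))))))
theorem f309719 : Led Lsl_bt (LP (LK LD1_c10 LD2_c26 LD3_c38)) = (LP (LK LD1_c5 LD2_c18 LD3_c27)) :=
  Lre_b IH (LK LD1_c10 LD2_c26 LD3_c38) (LK LD1_c5 LD2_c18 LD3_c27) Lrfl Lrfl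
theorem f309733 : Led Lsl_bt (LP (LK LD1_c4 LD2_c11 LD3_c21)) = (LP (LK LD1_c8 LD2_c22 LD3_c27)) :=
  Lre_b IH (LK LD1_c4 LD2_c11 LD3_c21) (LK LD1_c8 LD2_c22 LD3_c27) Lrfl Lrfl
theorem f309734 : Led Lsl_ef (LP (LK LD1_c10 LD2_c26 LD3_c38)) = (LP (LK LD1_c8 LD2_c22 LD3_c27)) :=
  Lgr Lrot29 (Lpr_bt (f309719 IH) (Lpr_et (K21.f309731 IH) (Lpr_bt (f309733 IH) (Lpn (LP (LK LD1_c8 LD2_c22 LD3_c27))))))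
theorem f285643 : Led Lsl_ef (LP (LK LD1_c10 LD2_c54 LD3_c18)) = (LP (LK LD1_c8 LD2_c30 LD3_c41)) :=
  Lgr Lrot73 (Lpe (f285631 IH) (Lpr_et (f285625 IH) (Lpe (f236425 IH) (Lpr_et (f47730 IH) (Lpr_dt (f285638 IH) (Lpn (LP (LK LD1_c8 LD2_c30 LD3_c41))))))))
theorem f285641 : Led Lsl_df (LP (LK LD1_c8 LD2_c16 LD3_c46)) = (LP (LK LD1_c8 LD2_c30 LD3_c41)) :=
  Lgr Lrot38 (Lpr_dt (f285638 IH) (Lpn (LP (LK LD1_c8 LD2_c30 LD3_c41))))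
theorem f285646 : Led Lsl_gt (LP (LK LD1_c10 LD2_c54 LD3_c18)) = (LP (LK LD1_c5 LD2_c31 LD3_c24)) :=
  Lgr Lrot137 (Lpr_ef (f285643 IH) (Lpe (f285641 IH) (Lpe (f47700 IH) (Lpe (f47691 IH) (Lpr_et (K13.f47545 IH) (Lpe (K15.f260628 IH) (Lpr_ef (K15.f212144 IH) (Lpr_dt (K15.f212210 IH) (Lpe (K17.f212211 IH) (Lpe (K17.f212212 IH) (Lpn (LP (LK LD1_c5 LD2_c31 LD3_c24)))))))))))))
theorem f257179 : Led Lsl_dt (LP (LK LD1_c2 LD2_c41 LD3_c55)) = (LP (LK LD1_c5 LD2_c31 LD3_c24)) :=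
  Lre_d IH (LK LD1_c2 LD2_c41 LD3_c55) (LK LD1_c5 LD2_c31 LD3_c24) Lrfl Lrfl
theorem f257169 : Led Lsl_et (LP (LK LD1_c2 LD2_c41 LD3_c55)) = (LP (LK LD1_c5 LD2_c31 LD3_c25)) :=
  Lre_e IH (LK LD1_c2 LD2_c41 LD3_c55) (LK LD1_c5 LD2_c31 LD3_c25) Lrfl Lrfl
theorem f335529 : Led Lsl_gf (LP (LK LD1_c10 LD2_c26 LD3_c38)) = (LP (LK LD1_c5 LD2_c31 LD3_c25)) :=
  Lgr Lrot141 (Lpr_ef (f309734 IH) (Lpr_dt (f309760 IH) (Lpr_gt (f335525 IH) (Lpe (K16.f273439 IH) (Lpr_et (K16.f273404 IH) (Lpr_gt (f275786 IH) (Lpr_dt (f285629 IH) (Lpr_gt (f285646 IH) (Lpe (f257179 IH) (Lpr_et (f257169 IH) (Lpn (LP (LK LD1_c5 LD2_c31 LD3_c25)))))))))))))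
theorem f251149 : Led Lsl_af (LP (LK LD1_c4 LD2_c15 LD3_c48)) = (LP (LK LD1_c2 LD2_c35 LD3_c43)) :=
  Lgr Lrot0 (Lpr_at (K14.f251144 IH) (Lpn (LP (LK LD1_c2 LD2_c35 LD3_c43))))
theorem f335518 : Led Lsl_gt (LP (LK LD1_c5 LD2_c16 LD3_c33)) = (LP (LK LD1_c4 LD2_c15 LD3_c48)) :=
  Lgr Lrot46 (Lpr_gf (f335516 IH) (Lpr_ft (K14.f48283 IH) (Lpe (f251149 IH) (Lpn (LP (LK LD1_c4 LD2_c15 LD3_c48))))))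
theorem f662 : Led Lsl_dt (LP (LK LD1_c4 LD2_c15 LD3_c48)) = (LP (LK LD1_c2 LD2_c5 LD3_c13)) :=
  Lre_d IH (LK LD1_c4 LD2_c15 LD3_c48) (LK LD1_c2 LD2_c5 LD3_c13) Lrfl Lrfl
theorem f657 : Led Lsl_dt (LP (LK LD1_c8 LD2_c19 LD3_c17)) = (LP (LK LD1_c4 LD2_c15 LD3_c46)) :=
  Lgr Lrot42 (Lpr_df (K13.f655 IH) (Lpn (LP (LK LD1_c4 LD2_c15 LD3_c46))))
theorem f659 : Led Lsl_et (LP (LK LD1_c8 LD2_c19 LD3_c17)) = (LP (LK LD1_c15 LD2_c39 LD3_c8)) :=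
  Lre_e IH (LK LD1_c8 LD2_c19 LD3_c17) (LK LD1_c15 LD2_c39 LD3_c8) Lrfl Lrfl
theorem f32208 : Led Lsl_dt (LP (LK LD1_c10 LD2_c26 LD3_c24)) = (LP (LK LD1_c5 LD2_c18 LD3_c19)) :=
  Lre_d IH (LK LD1_c10 LD2_c26 LD3_c24) (LK LD1_c5 LD2_c18 LD3_c19) Lrfl Lrfl
theorem f197044 : Led Lsl_gt (LP (LK LD1_c15 LD2_c39 LD3_c8)) = (LP (LK LD1_c10 LD2_c26 LD3_c24)) :=
  Lgr Lrot137 (Lpe (f659 IH) (Lpr_dt (f657 IH) (Lpe (K13.f637 IH) (Lpe (f662 IH) (Lpr_et (K15.f690 IH) (Lpr_gf (K10.f197022 IH) (Lpe (K10.f32202 IH) (Lpe (K1.f32182 IH) (Lpe (K17.f32207 IH) (Lpe (f32208 IH) (Lpn (LP (LK LD1_c10 LD2_c26 LD3_c24)))))))))))))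
theorem f212216 : Led Lsl_et (LP (LK LD1_c1 LD2_c17 LD3_c36)) = (LP (LK LD1_c0 LD2_c35 LD3_c51)) :=
  Lre_e IH (LK LD1_c1 LD2_c17 LD3_c36) (LK LD1_c0 LD2_c35 LD3_c51) Lrfl Lrfl
theorem f257158 : Led Lsl_gf (LP (LK LD1_c5 LD2_c17 LD3_c3)) = (LP (LK LD1_c2 LD2_c41 LD3_c56)) :=
  Lgr Lrot145 (Lpr_df (K15.f237849 IH) (Lpr_et (K15.f237838 IH) (Lpr_gt (K15.f257153 IH) (Lpr_dt (K10.f45148 IH) (Lpr_gt (K10.f45107 IH) (Lpe (K14.f45101 IH) (Lpe (K11.f54364 IH) (Lpe (K14.f253182 IH) (Lpe (f212216 IH) (Lpr_dt (K15.f212207 IH) (Lpn (LP (LK LD1_c2 LD2_c41 LD3_c56)))))))))))))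
theorem f257160 : Led Lsl_et (LP (LK LD1_c5 LD2_c31 LD3_c25)) = (LP (LK LD1_c2 LD2_c41 LD3_c55)) :=
  Lre_e IH (LK LD1_c5 LD2_c31 LD3_c25) (LK LD1_c2 LD2_c41 LD3_c55) Lrfl Lrfl
theorem f48225 : Led Lsl_gt (LP (LK LD1_c5 LD2_c17 LD3_c30)) = (LP (LK LD1_c10 LD2_c24 LD3_c34)) :=
  Lre_g IH (LK LD1_c5 LD2_c17 LD3_c30) (LK LD1_c10 LD2_c24 LD3_c34) Lrfl Lrfl
theorem f257161 : Led Lsl_dt (LP (LK LD1_c5 LD2_c31 LD3_c25)) = (LP (LK LD1_c10 LD2_c24 LD3_c34)) :=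
  Lgr Lrot37 (Lpr_et (f257160 IH) (Lpr_gt (K17.f212211 IH) (Lpr_dt (K15.f212207 IH) (Lpe (f257158 IH) (Lpr_df (K15.f237849 IH) (Lpr_et (K15.f237838 IH) (Lpr_gt (K15.f257153 IH) (Lpe (K10.f48200 IH) (Lpr_dt (f48216 IH) (Lpr_gt (f48225 IH) (Lpn (LP (LK LD1_c10 LD2_c24 LD3_c34)))))))))))))
theorem f257167 : Led Lsl_df (LP (LK LD1_c5 LD2_c31 LD3_c25)) = (LP (LK LD1_c10 LD2_c24 LD3_c34)) :=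
  Lgr Lrot38 (Lpr_dt (f257161 IH) (Lpn (LP (LK LD1_c10 LD2_c24 LD3_c34))))
theorem f335537 : Led Lsl_ef (LP (LK LD1_c10 LD2_c26 LD3_c24)) = (LP (LK LD1_c10 LD2_c24 LD3_c34)) :=
  Lgr Lrot17 (Lpe (f197044 IH) (Lpe (f659 IH) (Lpr_dt (f657 IH) (Lpe (K13.f637 IH) (Lpe (f662 IH) (Lpe (f335518 IH) (Lpr_ef (f333385 IH) (Lpr_dt (f309765 IH) (Lpr_gf (f335529 IH) (Lpr_df (f257167 IH) (Lpn (LP (LK LD1_c10 LD2_c24 LD3_c34)))))))))))))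
theorem f335544 : Led Lsl_et (LP (LK LD1_c10 LD2_c26 LD3_c24)) = (LP (LK LD1_c10 LD2_c24 LD3_c34)) :=
  Lgr Lrot87 (Lpr_ef (f335537 IH) (Lpn (LP (LK LD1_c10 LD2_c24 LD3_c34))))
theorem f335548 : Led Lsl_gf (LP (LK LD1_c10 LD2_c2 LD3_c11)) = (LP (LK LD1_c10 LD2_c24 LD3_c34)) :=
  Lgr Lrot141 (Lpe (K17.f282489 IH) (Lpr_dt (K17.f282481 IH) (Lpr_gt (K17.f261909 IH) (Lpr_df (K17.f263444 IH) (Lpr_et (K17.f48904 IH) (Lpe (K17.f48900 IH) (Lpe (K10.f32337 IH) (Lpr_gt (K17.f48709 IH) (Lpe (f32208 IH) (Lpr_et (f335544 IH) (Lpn (LP (LK LD1_c10 LD2_c24 LD3_c34)))))))))))))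
theorem f258588 : Led Lsl_ft (LP (LK LD1_c1 LD2_c17 LD3_c47)) = (LP (LK LD1_c2 LD2_c42 LD3_c26)) :=
  Lre_f IH (LK LD1_c1 LD2_c17 LD3_c47) (LK LD1_c2 LD2_c42 LD3_c26) Lrfl Lrfl
theorem f258589 : Led Lsl_ef (LP (LK LD1_c4 LD2_c29 LD3_c32)) = (LP (LK LD1_c2 LD2_c42 LD3_c26)) :=
  Lgr Lrot21 (Lpr_ft (K15.f258587 IH) (Lpr_et (K15.f185036 IH) (Lpr_ft (K15.f258579 IH) (Lpr_et (K21.f246294 IH) (Lpr_ft (f258588 IH) (Lpn (LP (LK LD1_c2 LD2_c42 LD3_c26))))))))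
theorem f282637 : Led Lsl_ef (LP (LK LD1_c5 LD2_c25 LD3_c60)) = (LP (LK LD1_c6 LD2_c5 LD3_c52)) :=
  Lgr Lrot73 (Lpr_dt (K21.f264619 IH) (Lpe (f258589 IH) (Lpr_dt (K15.f261788 IH) (Lpr_et (K17.f282489 IH) (Lpe (K19.f169486 IH) (Lpn (LP (LK LD1_c6 LD2_c5 LD3_c52))))))))
theorem f231790 : Led Lsl_gt (LP (LK LD1_c8 LD2_c28 LD3_c44)) = (LP (LK LD1_c4 LD2_c14 LD3_c56)) :=
  Lre_g IH (LK LD1_c8 LD2_c28 LD3_c44) (LK LD1_c4 LD2_c14 LD3_c56) Lrfl Lrfl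
theorem f264820 : Led Lsl_gt (LP (LK LD1_c5 LD2_c25 LD3_c60)) = (LP (LK LD1_c8 LD2_c28 LD3_c44)) :=
  Lgr Lrot5 (Lpr_ft (K15.f264694 IH) (Lpr_at (K15.f264806 IH) (Lpe (f231790 IH) (Lpn (LP (LK LD1_c8 LD2_c28 LD3_c44))))))
theorem f258693 : Led Lsl_gt (LP (LK LD1_c1 LD2_c17 LD3_c45)) = (LP (LK LD1_c1 LD2_c14 LD3_c36)) :=
  Lgr Lrot49 (Lpr_df (K15.f258682 IH) (Lpe (K13.f246241 IH) (Lpr_cf (K12.f220209 IH) (Lpe (K13.f236412 IH) (Lpr_dt (K10.f47536 IH) (Lpr_gt (K10.f1329 IH) (Lpr_dt (K9.f766 IH) (Lpr_cf (K9.f50130 IH) (Lpe (K13.f49420 IH) (Lpn (LP (LK LD1_c1 LD2_c14 LD3_c36))))))))))))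
theorem f192540 : Led Lsl_et (LP (LK LD1_c1 LD2_c25 LD3_c8)) = (LP (LK LD1_c2 LD2_c58 LD3_c52)) :=
  Lre_e IH (LK LD1_c1 LD2_c25 LD3_c8) (LK LD1_c2 LD2_c58 LD3_c52) Lrfl Lrfl
theorem f258698 : Led Lsl_gt (LP (LK LD1_c2 LD2_c58 LD3_c52)) = (LP (LK LD1_c6 LD2_c5 LD3_c33)) :=
  Lre_g IH (LK LD1_c2 LD2_c58 LD3_c52) (LK LD1_c6 LD2_c5 LD3_c33) Lrfl Lrfl
theorem f258699 : Led Lsl_df (LP (LK LD1_c8 LD2_c28 LD3_c44)) = (LP (LK LD1_c6 LD2_c5 LD3_c33)) :=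
  Lgr Lrot135 (Lpr_gt (f231790 IH) (Lpe (K15.f258689 IH) (Lpr_et (K21.f213268 IH) (Lpr_gt (f258693 IH) (Lpe (K15.f49225 IH) (Lpr_dt (K9.f47733 IH) (Lpr_gt (K14.f192535 IH) (Lpe (K20.f182064 IH) (Lpr_et (f192540 IH) (Lpr_gt (f258698 IH) (Lpn (LP (LK LD1_c6 LD2_c5 LD3_c33)))))))))))))
theorem f258704 : Led Lsl_dt (LP (LK LD1_c8 LD2_c28 LD3_c44)) = (LP (LK LD1_c6 LD2_c5 LD3_c33)) :=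
  Lgr Lrot42 (Lpr_df (f258699 IH) (Lpn (LP (LK LD1_c6 LD2_c5 LD3_c33))))
theorem f263423 : Led Lsl_at (LP (LK LD1_c5 LD2_c26 LD3_c13)) = (LP (LK LD1_c8 LD2_c15 LD3_c60)) :=
  Lgr Lrot100 (Lpr_af (K17.f263421 IH) (Lpn (LP (LK LD1_c8 LD2_c15 LD3_c60))))
theorem f282423 : Led Lsl_et (LP (LK LD1_c8 LD2_c15 LD3_c60)) = (LP (LK LD1_c8 LD2_c15 LD3_c16)) :=
  Lgr Lrot123 (Lpe (f263423 IH) (Lpr_ef (K15.f264428 IH) (Lpr_af (K17.f282414 IH) (Lpn (LP (LK LD1_c8 LD2_c15 LD3_c16))))))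
theorem f317941 : Led Lsl_ef (LP (LK LD1_c5 LD2_c31 LD3_c3)) = (LP (LK LD1_c8 LD2_c57 LD3_c47)) :=
  Lgr Lrot73 (Lpe (K15.f261859 IH) (Lpr_et (K17.f263079 IH) (Lpe (K17.f47777 IH) (Lpr_et (f282423 IH) (Lpr_dt (K21.f317937 IH) (Lpn (LP (LK LD1_c8 LD2_c57 LD3_c47))))))))
theorem f264512 : Led Lsl_at (LP (LK LD1_c4 LD2_c29 LD3_c55)) = (LP (LK LD1_c8 LD2_c57 LD3_c47)) :=
  Lre_a IH (LK LD1_c4 LD2_c29 LD3_c55) (LK LD1_c8 LD2_c57 LD3_c47) Lrfl Lrfl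
theorem f282421 : Led Lsl_dt (LP (LK LD1_c8 LD2_c57 LD3_c47)) = (LP (LK LD1_c8 LD2_c15 LD3_c16)) :=
  Lgr Lrot44 (Lpe (f264512 IH) (Lpr_df (K17.f264440 IH) (Lpr_af (K17.f282414 IH) (Lpn (LP (LK LD1_c8 LD2_c15 LD3_c16))))))
theorem f335552 : Led Lsl_gt (LP (LK LD1_c6 LD2_c5 LD3_c33)) = (LP (LK LD1_c8 LD2_c15 LD3_c16)) :=
  Lgr Lrot139 (Lpe (f258704 IH) (Lpe (f264820 IH) (Lpr_ef (f282637 IH) (Lpr_dt (K9.f169495 IH) (Lpr_gf (f335548 IH) (Lpe (f257161 IH) (Lpr_et (f257160 IH) (Lpe (K17.f257174 IH) (Lpr_ef (f317941 IH) (Lpr_dt (f282421 IH) (Lpn (LP (LK LD1_c8 LD2_c15 LD3_c16)))))))))))))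
theorem f197517 : Led Lsl_et (LP (LK LD1_c1 LD2_c2 LD3_c42)) = (LP (LK LD1_c2 LD2_c11 LD3_c27)) :=
  Lre_e IH (LK LD1_c1 LD2_c2 LD3_c42) (LK LD1_c2 LD2_c11 LD3_c27) Lrfl Lrfl
theorem f197518 : Led Lsl_gt (LP (LK LD1_c2 LD2_c11 LD3_c27)) = (LP (LK LD1_c4 LD2_c28 LD3_c52)) :=
  Lre_g IH (LK LD1_c2 LD2_c11 LD3_c27) (LK LD1_c4 LD2_c28 LD3_c52) Lrfl Lrfl
theorem f258710 : Led Lsl_ef (LP (LK LD1_c4 LD2_c28 LD3_c52)) = (LP (LK LD1_c6 LD2_c5 LD3_c33)) :=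
  Lgr Lrot17 (Lpe (f197518 IH) (Lpe (f197517 IH) (Lpr_dt (K14.f173256 IH) (Lpe (K13.f197449 IH) (Lpe (K13.f49420 IH) (Lpe (f258693 IH) (Lpe (K21.f213268 IH) (Lpr_dt (K15.f258689 IH) (Lpe (f231790 IH) (Lpr_df (f258699 IH) (Lpn (LP (LK LD1_c6 LD2_c5 LD3_c33)))))))))))))
theorem f258714 : Led Lsl_et (LP (LK LD1_c4 LD2_c28 LD3_c52)) = (LP (LK LD1_c6 LD2_c5 LD3_c33)) :=
  Lgr Lrot87 (Lpr_ef (f258710 IH) (Lpn (LP (LK LD1_c6 LD2_c5 LD3_c33))))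
theorem f244883 : Led Lsl_at (LP (LK LD1_c2 LD2_c40 LD3_c23)) = (LP (LK LD1_c5 LD2_c27 LD3_c35)) :=
  Lre_a IH (LK LD1_c2 LD2_c40 LD3_c23) (LK LD1_c5 LD2_c27 LD3_c35) Lrfl Lrfl
theorem f285540 : Led Lsl_dt (LP (LK LD1_c5 LD2_c26 LD3_c48)) = (LP (LK LD1_c2 LD2_c40 LD3_c23)) :=
  Lgr Lrot44 (Lpr_af (K17.f285533 IH) (Lpe (K18.f282959 IH) (Lpe (f244883 IH) (Lpn (LP (LK LD1_c2 LD2_c40 LD3_c23))))))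
theorem f285546 : Led Lsl_gt (LP (LK LD1_c2 LD2_c40 LD3_c23)) = (LP (LK LD1_c5 LD2_c27 LD3_c34)) :=
  Lre_g IH (LK LD1_c2 LD2_c40 LD3_c23) (LK LD1_c5 LD2_c27 LD3_c34) Lrfl Lrfl
theorem f335554 : Led Lsl_dt (LP (LK LD1_c4 LD2_c28 LD3_c52)) = (LP (LK LD1_c5 LD2_c27 LD3_c34)) :=
  Lgr Lrot37 (Lpr_et (f258714 IH) (Lpr_gt (f335552 IH) (Lpr_dt (K21.f317937 IH) (Lpr_gt (K21.f271759 IH) (Lpe (K20.f282495 IH) (Lpr_et (K20.f282508 IH) (Lpe (K21.f323248 IH) (Lpe (K17.f285530 IH) (Lpr_dt (f285540 IH) (Lpr_gt (f285546 IH) (Lpn (LP (LK LD1_c5 LD2_c27 LD3_c34)))))))))))))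
theorem f335559 : Led Lsl_et (LP (LK LD1_c5 LD2_c27 LD3_c34)) = (LP (LK LD1_c10 LD2_c46 LD3_c14)) :=
  Lre_e IH (LK LD1_c5 LD2_c27 LD3_c34) (LK LD1_c10 LD2_c46 LD3_c14) Lrfl Lrfl
theorem f309822 : Led Lsl_dt (LP (LK LD1_c2 LD2_c43 LD3_c23)) = (LP (LK LD1_c5 LD2_c34 LD3_c61)) :=
  Lre_d IH (LK LD1_c2 LD2_c43 LD3_c23) (LK LD1_c5 LD2_c34 LD3_c61) Lrfl Lrfl
theorem f309817 : Led Lsl_gt (LP (LK LD1_c5 LD2_c34 LD3_c61)) = (LP (LK LD1_c11 LD2_c2 LD3_c17)) :=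
  Lre_g IH (LK LD1_c5 LD2_c34 LD3_c61) (LK LD1_c11 LD2_c2 LD3_c17) Lrfl Lrfl
theorem f282930 : Led Lsl_gt (LP (LK LD1_c5 LD2_c27 LD3_c34)) = (LP (LK LD1_c2 LD2_c40 LD3_c8)) :=
  Lre_g IH (LK LD1_c5 LD2_c27 LD3_c34) (LK LD1_c2 LD2_c40 LD3_c8) Lrfl Lrfl
theorem f282946 : Led Lsl_et (LP (LK LD1_c10 LD2_c46 LD3_c14)) = (LP (LK LD1_c5 LD2_c27 LD3_c34)) :=
  Lre_e IH (LK LD1_c10 LD2_c46 LD3_c14) (LK LD1_c5 LD2_c27 LD3_c34) Lrfl Lrfl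
theorem f324309 : Led Lsl_df (LP (LK LD1_c11 LD2_c2 LD3_c17)) = (LP (LK LD1_c10 LD2_c46 LD3_c14)) :=
  Lgr Lrot132 (Lpe (f309817 IH) (Lpe (f309822 IH) (Lpr_gf (K21.f324303 IH) (Lpe (K12.f188749 IH) (Lpr_dt (K12.f187241 IH) (Lpe (K15.f245028 IH) (Lpe (K15.f244842 IH) (Lpr_et (K17.f244843 IH) (Lpe (f282930 IH) (Lpe (f282946 IH) (Lpn (LP (LK LD1_c10 LD2_c46 LD3_c14)))))))))))))
theorem f335560 : Led Lsl_ef (LP (LK LD1_c8 LD2_c28 LD3_c44)) = (LP (LK LD1_c11 LD2_c2 LD3_c17)) :=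
  Lgr Lrot73 (Lpr_dt (f258704 IH) (Lpe (f258710 IH) (Lpr_dt (f335554 IH) (Lpr_et (f335559 IH) (Lpe (f324309 IH) (Lpn (LP (LK LD1_c11 LD2_c2 LD3_c17))))))))
theorem f335566 : Led Lsl_et (LP (LK LD1_c8 LD2_c28 LD3_c44)) = (LP (LK LD1_c11 LD2_c2 LD3_c17)) :=
  Lgr Lrot87 (Lpr_ef (f335560 IH) (Lpn (LP (LK LD1_c11 LD2_c2 LD3_c17))))
theorem f335557 : Led Lsl_df (LP (LK LD1_c4 LD2_c28 LD3_c52)) = (LP (LK LD1_c5 LD2_c27 LD3_c34)) :=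
  Lgr Lrot38 (Lpr_dt (f335554 IH) (Lpn (LP (LK LD1_c5 LD2_c27 LD3_c34))))
theorem f335571 : Led Lsl_df (LP (LK LD1_c10 LD2_c46 LD3_c14)) = (LP (LK LD1_c11 LD2_c2 LD3_c17)) :=
  Lgr Lrot70 (Lpr_et (f282946 IH) (Lpe (f335557 IH) (Lpr_et (f258714 IH) (Lpe (f258699 IH) (Lpr_et (f335566 IH) (Lpn (LP (LK LD1_c11 LD2_c2 LD3_c17))))))))
theorem f335581 : Led Lsl_gf (LP (LK LD1_c10 LD2_c46 LD3_c14)) = (LP (LK LD1_c8 LD2_c59 LD3_c54)) :=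
  Lgr Lrot134 (Lpr_df (f335571 IH) (Lpe (f335560 IH) (Lpr_gt (f231790 IH) (Lpe (K17.f54368 IH) (Lpr_dt (K15.f49082 IH) (Lpr_gt (K14.f231706 IH) (Lpe (K1.f45154 IH) (Lpr_et (K10.f45183 IH) (Lpr_gt (K21.f323961 IH) (Lpr_dt (K21.f323965 IH) (Lpn (LP (LK LD1_c8 LD2_c59 LD3_c54)))))))))))))
theorem f323975 : Led Lsl_et (LP (LK LD1_c8 LD2_c18 LD3_c26)) = (LP (LK LD1_c8 LD2_c59 LD3_c54)) :=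
  Lgr Lrot87 (Lpr_ef (K21.f323967 IH) (Lpn (LP (LK LD1_c8 LD2_c59 LD3_c54))))
theorem f1332 : Led Lsl_et (LP (LK LD1_c2 LD2_c5 LD3_c2)) = (LP (LK LD1_c4 LD2_c15 LD3_c23)) :=
  Lre_e IH (LK LD1_c2 LD2_c5 LD3_c2) (LK LD1_c4 LD2_c15 LD3_c23) Lrfl Lrfl
theorem f569 : Led Lsl_dt (LP (LK LD1_c4 LD2_c16 LD3_c39)) = (LP (LK LD1_c8 LD2_c32 LD3_c34)) :=
  Lre_d IH (LK LD1_c4 LD2_c16 LD3_c39) (LK LD1_c8 LD2_c32 LD3_c34) Lrfl Lrfl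
theorem f48965 : Led Lsl_gf (LP (LK LD1_c15 LD2_c33 LD3_c35)) = (LP (LK LD1_c8 LD2_c32 LD3_c34)) :=
  Lgr Lrot134 (Lpe (K21.f48947 IH) (Lpr_et (K21.f48960 IH) (Lpr_gt (K10.f48295 IH) (Lpe (f1332 IH) (Lpr_dt (K10.f1331 IH) (Lpr_gt (K10.f27368 IH) (Lpe (K11.f27361 IH) (Lpr_et (K1.f557 IH) (Lpr_gt (K17.f561 IH) (Lpr_dt (f569 IH) (Lpn (LP (LK LD1_c8 LD2_c32 LD3_c34)))))))))))))
theorem f236274 : Led Lsl_dt (LP (LK LD1_c8 LD2_c33 LD3_c24)) = (LP (LK LD1_c15 LD2_c55 LD3_c26)) :=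
  Lgr Lrot42 (Lpr_df (K17.f236271 IH) (Lpn (LP (LK LD1_c15 LD2_c55 LD3_c26))))
theorem f324009 : Led Lsl_gt (LP (LK LD1_c8 LD2_c31 LD3_c27)) = (LP (LK LD1_c15 LD2_c55 LD3_c26)) :=
  Lgr Lrot139 (Lpe (K21.f301444 IH) (Lpr_gf (K21.f324007 IH) (Lpe (K21.f271414 IH) (Lpr_dt (K16.f254548 IH) (Lpr_gf (K21.f273564 IH) (Lpe (K21.f48314 IH) (Lpr_et (K21.f48316 IH) (Lpr_gf (f48965 IH) (Lpr_ef (K17.f283163 IH) (Lpr_dt (f236274 IH) (Lpn (LP (LK LD1_c15 LD2_c55 LD3_c26)))))))))))))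
theorem f301442 : Led Lsl_et (LP (LK LD1_c4 LD2_c16 LD3_c9)) = (LP (LK LD1_c8 LD2_c31 LD3_c28)) :=
  Lre_e IH (LK LD1_c4 LD2_c16 LD3_c9) (LK LD1_c8 LD2_c31 LD3_c28) Lrfl Lrfl
theorem f820 : Led Lsl_dt (LP (LK LD1_c4 LD2_c9 LD3_c59)) = (LP (LK LD1_c8 LD2_c20 LD3_c10)) :=
  Lre_d IH (LK LD1_c4 LD2_c9 LD3_c59) (LK LD1_c8 LD2_c20 LD3_c10) Lrfl Lrfl
theorem f324011 : Led Lsl_gf (LP (LK LD1_c8 LD2_c31 LD3_c28)) = (LP (LK LD1_c8 LD2_c20 LD3_c11)) :=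
  Lgr Lrot141 (Lpe (f301442 IH) (Lpr_dt (K21.f301444 IH) (Lpr_gt (f324009 IH) (Lpe (f236274 IH) (Lpe (K17.f283163 IH) (Lpe (f48965 IH) (Lpr_dt (f47672 IH) (Lpe (f48972 IH) (Lpe (f820 IH) (Lpr_et (K21.f48977 IH) (Lpn (LP (LK LD1_c8 LD2_c20 LD3_c11)))))))))))))
theorem f335587 : Led Lsl_gt (LP (LK LD1_c4 LD2_c28 LD3_c52)) = (LP (LK LD1_c8 LD2_c6 LD3_c7)) :=
  Lgr Lrot112 (Lpr_df (f335557 IH) (Lpr_et (f335559 IH) (Lpr_gf (f335581 IH) (Lpe (f323975 IH) (Lpr_dt (K21.f301440 IH) (Lpr_gf (f324011 IH) (Lpe (f301484 IH) (Lpr_gf (K21.f301489 IH) (Lpr_ef (K21.f283010 IH) (Lpe (K18.f282969 IH) (Lpn (LP (LK LD1_c8 LD2_c6 LD3_c7)))))))))))))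
theorem f335592 : Led Lsl_ef (LP (LK LD1_c2 LD2_c40 LD3_c23)) = (LP (LK LD1_c4 LD2_c29 LD3_c14)) :=
  Lgr Lrot167 (Lpr_gt (f285546 IH) (Lpe (f335557 IH) (Lpr_gt (f335587 IH) (Lpr_df (K18.f282969 IH) (Lpe (K21.f283010 IH) (Lpe (K21.f301489 IH) (Lpe (K21.f298859 IH) (Lpr_dt (K21.f301470 IH) (Lpe (K17.f283122 IH) (Lpr_df (K20.f283138 IH) (Lpn (LP (LK LD1_c4 LD2_c29 LD3_c14)))))))))))))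
theorem f335599 : Led Lsl_et (LP (LK LD1_c2 LD2_c40 LD3_c23)) = (LP (LK LD1_c4 LD2_c29 LD3_c14)) :=
  Lgr Lrot87 (Lpr_ef (f335592 IH) (Lpn (LP (LK LD1_c4 LD2_c29 LD3_c14))))
theorem f282917 : Led Lsl_bt (LP (LK LD1_c1 LD2_c17 LD3_c8)) = (LP (LK LD1_c2 LD2_c40 LD3_c23)) :=
  Lre_b IH (LK LD1_c1 LD2_c17 LD3_c8) (LK LD1_c2 LD2_c40 LD3_c23) Lrfl Lrfl
theorem f167720 : Led Lsl_bt (LP (LK LD1_c4 LD2_c29 LD3_c14)) = (LP (LK LD1_c2 LD2_c11 LD3_c47)) :=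
  Lre_b IH (LK LD1_c4 LD2_c29 LD3_c14) (LK LD1_c2 LD2_c11 LD3_c47) Lrfl Lrfl
theorem f335626 : Led Lsl_ef (LP (LK LD1_c1 LD2_c17 LD3_c8)) = (LP (LK LD1_c2 LD2_c11 LD3_c47)) :=
  Lgr Lrot29 (Lpr_bt (f282917 IH) (Lpr_et (f335599 IH) (Lpr_bt (f167720 IH) (Lpn (LP (LK LD1_c2 LD2_c11 LD3_c47))))))
theorem f322474 : Led Lsl_gt (LP (LK LD1_c2 LD2_c41 LD3_c41)) = (LP (LK LD1_c4 LD2_c17 LD3_c4)) :=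
  Lgr Lrot137 (Lpr_ef (K20.f322468 IH) (Lpr_dt (K20.f27335 IH) (Lpe (K20.f546 IH) (Lpr_df (K0.f27322 IH) (Lpr_et (K0.f512 IH) (Lpr_gf (K9.f53424 IH) (Lpe (K13.f527 IH) (Lpr_dt (K13.f178846 IH) (Lpr_gf (K13.f245768 IH) (Lpe (K13.f167721 IH) (Lpn (LP (LK LD1_c4 LD2_c17 LD3_c4)))))))))))))
theorem f335649 : Led Lsl_gt (LP (LK LD1_c1 LD2_c17 LD3_c8)) = (LP (LK LD1_c2 LD2_c11 LD3_c36)) :=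
  Lgr Lrot131 (Lpr_ef (f335626 IH) (Lpe (K13.f167712 IH) (Lpe (f322474 IH) (Lpr_df (K20.f245903 IH) (Lpr_gf (f333351 IH) (Lpe (K19.f181820 IH) (Lpr_dt (K19.f8597 IH) (Lpe (f264563 IH) (Lpe (K19.f197586 IH) (Lpr_et (K19.f197585 IH) (Lpn (LP (LK LD1_c2 LD2_c11 LD3_c36)))))))))))))
theorem f167455 : Led Lsl_et (LP (LK LD1_c5 LD2_c5 LD3_c50)) = (LP (LK LD1_c2 LD2_c30 LD3_c7)) :=
  Lre_e IH (LK LD1_c5 LD2_c5 LD3_c50) (LK LD1_c2 LD2_c30 LD3_c7) Lrfl Lrfl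
theorem f200296 : Led Lsl_et (LP (LK LD1_c2 LD2_c32 LD3_c61)) = (LP (LK LD1_c5 LD2_c12 LD3_c24)) :=
  Lre_e IH (LK LD1_c2 LD2_c32 LD3_c61) (LK LD1_c5 LD2_c12 LD3_c24) Lrfl Lrfl
theorem f200297 : Led Lsl_dt (LP (LK LD1_c5 LD2_c12 LD3_c24)) = (LP (LK LD1_c5 LD2_c5 LD3_c50)) :=
  Lgr Lrot77 (Lpe (f200296 IH) (Lpr_df (f200289 IH) (Lpe (f167564 IH) (Lpr_df (f167551 IH) (Lpe (f167455 IH) (Lpn (LP (LK LD1_c5 LD2_c5 LD3_c50))))))))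
theorem f200305 : Led Lsl_df (LP (LK LD1_c5 LD2_c12 LD3_c24)) = (LP (LK LD1_c5 LD2_c5 LD3_c50)) :=
  Lgr Lrot38 (Lpr_dt (f200297 IH) (Lpn (LP (LK LD1_c5 LD2_c5 LD3_c50))))
theorem f200336 : Led Lsl_gt (LP (LK LD1_c5 LD2_c12 LD3_c24)) = (LP (LK LD1_c5 LD2_c18 LD3_c59)) :=
  Lgr Lrot137 (Lpe (f200296 IH) (Lpr_dt (f200294 IH) (Lpe (f1395 IH) (Lpr_df (K10.f167622 IH) (Lpr_et (K15.f32859 IH) (Lpe (K9.f32853 IH) (Lpe (K1.f32223 IH) (Lpr_dt (K1.f32194 IH) (Lpr_gf (K15.f48917 IH) (Lpe (K15.f32233 IH) (Lpn (LP (LK LD1_c5 LD2_c18 LD3_c59)))))))))))))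
theorem f198759 : Led Lsl_et (LP (LK LD1_c1 LD2_c17 LD3_c42)) = (LP (LK LD1_c2 LD2_c42 LD3_c15)) :=
  Lre_e IH (LK LD1_c1 LD2_c17 LD3_c42) (LK LD1_c2 LD2_c42 LD3_c15) Lrfl Lrfl
theorem f212119 : Led Lsl_et (LP (LK LD1_c2 LD2_c36 LD3_c5)) = (LP (LK LD1_c2 LD2_c42 LD3_c14)) :=
  Lgr Lrot71 (Lpe (K15.f32233 IH) (Lpr_ef (f212114 IH) (Lpe (K14.f198753 IH) (Lpe (f198759 IH) (Lpe (K15.f198760 IH) (Lpn (LP (LK LD1_c2 LD2_c42 LD3_c14))))))))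
theorem f333409 : Led Lsl_gt (LP (LK LD1_c2 LD2_c42 LD3_c14)) = (LP (LK LD1_c5 LD2_c16 LD3_c25)) :=
  Lgr Lrot137 (Lpe (f212119 IH) (Lpr_dt (K15.f32228 IH) (Lpe (f200336 IH) (Lpr_df (f200305 IH) (Lpr_et (f167455 IH) (Lpr_gf (f333395 IH) (Lpr_ef (f302149 IH) (Lpr_dt (f304253 IH) (Lpe (f309806 IH) (Lpr_df (K14.f255007 IH) (Lpn (LP (LK LD1_c5 LD2_c16 LD3_c25)))))))))))))
theorem f261776 : Led Lsl_bt (LP (LK LD1_c4 LD2_c29 LD3_c32)) = (LP (LK LD1_c2 LD2_c11 LD3_c56)) :=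
  Lre_b IH (LK LD1_c4 LD2_c29 LD3_c32) (LK LD1_c2 LD2_c11 LD3_c56) Lrfl Lrfl
theorem f261624 : Led Lsl_bt (LP (LK LD1_c1 LD2_c17 LD3_c44)) = (LP (LK LD1_c2 LD2_c41 LD3_c57)) :=
  Lre_b IH (LK LD1_c1 LD2_c17 LD3_c44) (LK LD1_c2 LD2_c41 LD3_c57) Lrfl Lrfl
theorem f261890 : Led Lsl_at (LP (LK LD1_c2 LD2_c11 LD3_c56)) = (LP (LK LD1_c1 LD2_c17 LD3_c44)) :=
  Lgr Lrot67 (Lpe (f261776 IH) (Lpr_af (K15.f261876 IH) (Lpr_bf (K15.f261615 IH) (Lpe (K15.f261623 IH) (Lpe (f261624 IH) (Lpn (LP (LK LD1_c1 LD2_c17 LD3_c44))))))))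
theorem f271778 : Led Lsl_et (LP (LK LD1_c1 LD2_c17 LD3_c53)) = (LP (LK LD1_c2 LD2_c11 LD3_c56)) :=
  Lgr Lrot123 (Lpe (K15.f264594 IH) (Lpr_ef (K16.f271776 IH) (Lpe (f261890 IH) (Lpn (LP (LK LD1_c2 LD2_c11 LD3_c56))))))
theorem f255010 : Led Lsl_dt (LP (LK LD1_c5 LD2_c13 LD3_c23)) = (LP (LK LD1_c5 LD2_c16 LD3_c25)) :=
  Lgr Lrot42 (Lpr_df (K14.f255007 IH) (Lpn (LP (LK LD1_c5 LD2_c16 LD3_c25))))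
theorem f255012 : Led Lsl_et (LP (LK LD1_c2 LD2_c34 LD3_c58)) = (LP (LK LD1_c5 LD2_c16 LD3_c25)) :=
  Lre_e IH (LK LD1_c2 LD2_c34 LD3_c58) (LK LD1_c5 LD2_c16 LD3_c25) Lrfl Lrfl
theorem f309780 : Led Lsl_et (LP (LK LD1_c5 LD2_c13 LD3_c23)) = (LP (LK LD1_c2 LD2_c43 LD3_c25)) :=
  Lgr Lrot71 (Lpr_df (K14.f255007 IH) (Lpe (f255012 IH) (Lpr_df (K19.f309776 IH) (Lpe (K19.f197588 IH) (Lpe (f7628 IH) (Lpn (LP (LK LD1_c2 LD2_c43 LD3_c25))))))))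
theorem f333411 : Led Lsl_gf (LP (LK LD1_c2 LD2_c39 LD3_c29)) = (LP (LK LD1_c2 LD2_c58 LD3_c56)) :=
  Lgr Lrot145 (Lpr_df (K15.f264609 IH) (Lpr_et (f271778 IH) (Lpr_gt (K15.f261771 IH) (Lpr_dt (K15.f198763 IH) (Lpr_gt (f333409 IH) (Lpe (f255010 IH) (Lpr_et (f309780 IH) (Lpr_gt (K19.f197587 IH) (Lpr_ef (f264554 IH) (Lpe (f264531 IH) (Lpn (LP (LK LD1_c2 LD2_c58 LD3_c56)))))))))))))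
theorem f335653 : Led Lsl_df (LP (LK LD1_c1 LD2_c17 LD3_c8)) = (LP (LK LD1_c2 LD2_c39 LD3_c52)) :=
  Lgr Lrot135 (Lpr_gt (f335649 IH) (Lpr_df (f264545 IH) (Lpe (f264539 IH) (Lpe (f333411 IH) (Lpr_ef (K15.f264377 IH) (Lpr_dt (K9.f169471 IH) (Lpr_gt (K19.f309521 IH) (Lpe (K19.f195707 IH) (Lpr_et (K19.f195706 IH) (Lpe (K19.f309519 IH) (Lpn (LP (LK LD1_c2 LD2_c39 LD3_c52)))))))))))))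
theorem f51511 : Led Lsl_et (LP (LK LD1_c4 LD2_c12 LD3_c6)) = (LP (LK LD1_c2 LD2_c3 LD3_c12)) :=
  Lre_e IH (LK LD1_c4 LD2_c12 LD3_c6) (LK LD1_c2 LD2_c3 LD3_c12) Lrfl Lrfl
theorem f245839 : Led Lsl_dt (LP (LK LD1_c2 LD2_c6 LD3_c8)) = (LP (LK LD1_c2 LD2_c59 LD3_c14)) :=
  Lgr Lrot60 (Lpr_ff (K13.f245835 IH) (Lpe (K13.f179774 IH) (Lpe (K19.f179792 IH) (Lpn (LP (LK LD1_c2 LD2_c59 LD3_c14))))))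
theorem f322406 : Led Lsl_gf (LP (LK LD1_c2 LD2_c39 LD3_c44)) = (LP (LK LD1_c2 LD2_c59 LD3_c14)) :=
  Lgr Lrot134 (Lpr_df (K20.f322396 IH) (Lpr_et (f51511 IH) (Lpe (K20.f51500 IH) (Lpe (K0.f542 IH) (Lpr_dt (K0.f27320 IH) (Lpe (K9.f170279 IH) (Lpe (K9.f1387 IH) (Lpr_et (K12.f1388 IH) (Lpr_gt (K13.f7757 IH) (Lpr_dt (f245839 IH) (Lpn (LP (LK LD1_c2 LD2_c59 LD3_c14)))))))))))))
theorem f264547 : Led Lsl_dt (LP (LK LD1_c2 LD2_c11 LD3_c36)) = (LP (LK LD1_c2 LD2_c11 LD3_c35)) :=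
  Lgr Lrot42 (Lpr_df (f264545 IH) (Lpn (LP (LK LD1_c2 LD2_c11 LD3_c35))))
theorem f335657 : Led Lsl_gf (LP (LK LD1_c1 LD2_c17 LD3_c8)) = (LP (LK LD1_c2 LD2_c11 LD3_c35)) :=
  Lgr Lrot134 (Lpr_df (f335653 IH) (Lpr_et (K19.f246039 IH) (Lpe (f322406 IH) (Lpe (K20.f245902 IH) (Lpe (K20.f245903 IH) (Lpr_gt (f322474 IH) (Lpr_df (K13.f167712 IH) (Lpe (f335626 IH) (Lpr_gt (f335649 IH) (Lpr_dt (f264547 IH) (Lpn (LP (LK LD1_c2 LD2_c11 LD3_c35)))))))))))))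
theorem f264556 : Led Lsl_dt (LP (LK LD1_c5 LD2_c35 LD3_c3)) = (LP (LK LD1_c4 LD2_c29 LD3_c0)) :=
  Lre_d IH (LK LD1_c5 LD2_c35 LD3_c3) (LK LD1_c4 LD2_c29 LD3_c0) Lrfl Lrfl
theorem f264567 : Led Lsl_gt (LP (LK LD1_c4 LD2_c29 LD3_c0)) = (LP (LK LD1_c4 LD2_c30 LD3_c47)) :=
  Lgr Lrot137 (Lpe (f264549 IH) (Lpr_dt (f264547 IH) (Lpe (f8582 IH) (Lpe (f183344 IH) (Lpr_et (f8578 IH) (Lpr_gf (K9.f183352 IH) (Lpe (K0.f7644 IH) (Lpr_dt (K0.f7605 IH) (Lpr_gf (K18.f8621 IH) (Lpe (K18.f8624 IH) (Lpn (LP (LK LD1_c4 LD2_c30 LD3_c47)))))))))))))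
theorem f8627 : Led Lsl_dt (LP (LK LD1_c2 LD2_c12 LD3_c19)) = (LP (LK LD1_c4 LD2_c30 LD3_c47)) :=
  Lre_d IH (LK LD1_c2 LD2_c12 LD3_c19) (LK LD1_c4 LD2_c30 LD3_c47) Lrfl Lrfl
theorem f333415 : Led Lsl_gf (LP (LK LD1_c2 LD2_c42 LD3_c15)) = (LP (LK LD1_c4 LD2_c30 LD3_c48)) :=
  Lgr Lrot141 (Lpe (f198759 IH) (Lpr_dt (K15.f198763 IH) (Lpr_gt (f333409 IH) (Lpe (f255010 IH) (Lpr_et (f309780 IH) (Lpr_gt (K19.f197587 IH) (Lpr_dt (f264556 IH) (Lpr_gt (f264567 IH) (Lpe (f8627 IH) (Lpr_et (f198692 IH) (Lpn (LP (LK LD1_c4 LD2_c30 LD3_c48)))))))))))))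
theorem f333423 : Led Lsl_gt (LP (LK LD1_c2 LD2_c39 LD3_c29)) = (LP (LK LD1_c2 LD2_c58 LD3_c57)) :=
  Lgr Lrot131 (Lpr_ef (K15.f264377 IH) (Lpr_dt (K9.f169471 IH) (Lpe (K16.f276144 IH) (Lpe (K14.f198753 IH) (Lpr_gf (f333415 IH) (Lpe (f198692 IH) (Lpr_dt (f8627 IH) (Lpe (f264567 IH) (Lpe (f264556 IH) (Lpr_et (f264550 IH) (Lpn (LP (LK LD1_c2 LD2_c58 LD3_c57)))))))))))))
theorem f335661 : Led Lsl_gt (LP (LK LD1_c4 LD2_c17 LD3_c4)) = (LP (LK LD1_c2 LD2_c41 LD3_c42)) :=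
  Lgr Lrot112 (Lpr_df (K13.f167712 IH) (Lpe (f335626 IH) (Lpr_gf (f335657 IH) (Lpe (f264534 IH) (Lpr_dt (f264528 IH) (Lpe (f333423 IH) (Lpr_df (K15.f264609 IH) (Lpe (K21.f264611 IH) (Lpe (K21.f181805 IH) (Lpr_dt (K21.f267743 IH) (Lpn (LP (LK LD1_c2 LD2_c41 LD3_c42)))))))))))))
theorem f245771 : Led Lsl_ct (LP (LK LD1_c1 LD2_c17 LD3_c29)) = (LP (LK LD1_c2 LD2_c41 LD3_c40)) :=
  Lre_c IH (LK LD1_c1 LD2_c17 LD3_c29) (LK LD1_c2 LD2_c41 LD3_c40) Lrfl Lrfl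
theorem f245942 : Led Lsl_et (LP (LK LD1_c10 LD2_c44 LD3_c31)) = (LP (LK LD1_c5 LD2_c26 LD3_c41)) :=
  Lre_e IH (LK LD1_c10 LD2_c44 LD3_c31) (LK LD1_c5 LD2_c26 LD3_c41) Lrfl Lrfl
theorem f179185 : Led Lsl_et (LP (LK LD1_c1 LD2_c19 LD3_c14)) = (LP (LK LD1_c0 LD2_c36 LD3_c34)) :=
  Lre_e IH (LK LD1_c1 LD2_c19 LD3_c14) (LK LD1_c0 LD2_c36 LD3_c34) Lrfl Lrfl
theorem f179215 : Led Lsl_dt (LP (LK LD1_c1 LD2_c19 LD3_c14)) = (LP (LK LD1_c2 LD2_c45 LD3_c44)) :=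
  Lre_d IH (LK LD1_c1 LD2_c19 LD3_c14) (LK LD1_c2 LD2_c45 LD3_c44) Lrfl Lrfl
theorem f179216 : Led Lsl_gt (LP (LK LD1_c2 LD2_c45 LD3_c44)) = (LP (LK LD1_c5 LD2_c39 LD3_c36)) :=
  Lre_g IH (LK LD1_c2 LD2_c45 LD3_c44) (LK LD1_c5 LD2_c39 LD3_c36) Lrfl Lrfl
theorem f245943 : Led Lsl_dt (LP (LK LD1_c10 LD2_c44 LD3_c31)) = (LP (LK LD1_c5 LD2_c39 LD3_c36)) :=
  Lgr Lrot37 (Lpr_et (f245942 IH) (Lpr_gt (K20.f245932 IH) (Lpr_dt (K20.f179196 IH) (Lpr_gt (K20.f179198 IH) (Lpe (K17.f7857 IH) (Lpr_et (K20.f179197 IH) (Lpr_gt (K9.f178111 IH) (Lpe (f179185 IH) (Lpr_dt (f179215 IH) (Lpr_gt (f179216 IH) (Lpn (LP (LK LD1_c5 LD2_c39 LD3_c36)))))))))))))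
theorem f245950 : Led Lsl_df (LP (LK LD1_c10 LD2_c44 LD3_c31)) = (LP (LK LD1_c5 LD2_c39 LD3_c36)) :=
  Lgr Lrot38 (Lpr_dt (f245943 IH) (Lpn (LP (LK LD1_c5 LD2_c39 LD3_c36))))
theorem f245906 : Led Lsl_ct (LP (LK LD1_c10 LD2_c44 LD3_c31)) = (LP (LK LD1_c5 LD2_c26 LD3_c42)) :=
  Lre_c IH (LK LD1_c10 LD2_c44 LD3_c31) (LK LD1_c5 LD2_c26 LD3_c42) Lrfl Lrfl
theorem f245956 : Led Lsl_gt (LP (LK LD1_c2 LD2_c41 LD3_c40)) = (LP (LK LD1_c1 LD2_c19 LD3_c14)) :=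
  Lgr Lrot94 (Lpe (f245771 IH) (Lpr_gt (K13.f178845 IH) (Lpr_dt (K20.f179133 IH) (Lpr_gt (K20.f179134 IH) (Lpr_dt (f245907 IH) (Lpe (f245906 IH) (Lpr_df (f245950 IH) (Lpe (f179216 IH) (Lpe (f179215 IH) (Lpn (LP (LK LD1_c1 LD2_c19 LD3_c14))))))))))))
theorem f245959 : Led Lsl_ct (LP (LK LD1_c1 LD2_c19 LD3_c14)) = (LP (LK LD1_c0 LD2_c36 LD3_c35)) :=
  Lre_c IH (LK LD1_c1 LD2_c19 LD3_c14) (LK LD1_c0 LD2_c36 LD3_c35) Lrfl Lrfl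
theorem f178086 : Led Lsl_dt (LP (LK LD1_c0 LD2_c36 LD3_c35)) = (LP (LK LD1_c1 LD2_c19 LD3_c17)) :=
  Lre_d IH (LK LD1_c0 LD2_c36 LD3_c35) (LK LD1_c1 LD2_c19 LD3_c17) Lrfl Lrfl
theorem f179739 : Led Lsl_ct (LP (LK LD1_c2 LD2_c45 LD3_c53)) = (LP (LK LD1_c1 LD2_c19 LD3_c17)) :=
  Lre_c IH (LK LD1_c2 LD2_c45 LD3_c53) (LK LD1_c1 LD2_c19 LD3_c17) Lrfl Lrfl
theorem f309740 : Led Lsl_ct (LP (LK LD1_c2 LD2_c41 LD3_c42)) = (LP (LK LD1_c5 LD2_c30 LD3_c55)) :=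
  Lre_c IH (LK LD1_c2 LD2_c41 LD3_c42) (LK LD1_c5 LD2_c30 LD3_c55) Lrfl Lrfl
theorem f335665 : Led Lsl_gf (LP (LK LD1_c2 LD2_c45 LD3_c53)) = (LP (LK LD1_c5 LD2_c30 LD3_c55)) :=
  Lgr Lrot104 (Lpr_ct (f179739 IH) (Lpe (f178086 IH) (Lpe (f245959 IH) (Lpe (f245956 IH) (Lpe (f245771 IH) (Lpr_gf (K13.f245768 IH) (Lpe (K13.f167721 IH) (Lpr_gt (f335661 IH) (Lpr_ct (f309740 IH) (Lpn (LP (LK LD1_c5 LD2_c30 LD3_c55))))))))))))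
theorem f179740 : Led Lsl_ct (LP (LK LD1_c1 LD2_c19 LD3_c17)) = (LP (LK LD1_c2 LD2_c45 LD3_c53)) :=
  Lre_c IH (LK LD1_c1 LD2_c19 LD3_c17) (LK LD1_c2 LD2_c45 LD3_c53) Lrfl Lrfl
theorem f179741 : Led Lsl_bt (LP (LK LD1_c1 LD2_c19 LD3_c17)) = (LP (LK LD1_c2 LD2_c45 LD3_c35)) :=
  Lre_b IH (LK LD1_c1 LD2_c19 LD3_c17) (LK LD1_c2 LD2_c45 LD3_c35) Lrfl Lrfl
theorem f227015 : Led Lsl_ct (LP (LK LD1_c5 LD2_c39 LD3_c17)) = (LP (LK LD1_c11 LD2_c9 LD3_c33)) :=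
  Lre_c IH (LK LD1_c5 LD2_c39 LD3_c17) (LK LD1_c11 LD2_c9 LD3_c33) Lrfl Lrfl
theorem f216440 : Led Lsl_dt (LP (LK LD1_c17 LD2_c36 LD3_c49)) = (LP (LK LD1_c9 LD2_c33 LD3_c54)) :=
  Lre_d IH (LK LD1_c17 LD2_c36 LD3_c49) (LK LD1_c9 LD2_c33 LD3_c54) Lrfl Lrfl
theorem f1569 : Led Lsl_dt (LP (LK LD1_c9 LD2_c36 LD3_c28)) = (LP (LK LD1_c4 LD2_c52 LD3_c4)) :=
  Lre_d IH (LK LD1_c9 LD2_c36 LD3_c28) (LK LD1_c4 LD2_c52 LD3_c4) Lrfl Lrfl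
theorem f315404 : Led Lsl_et (LP (LK LD1_c4 LD2_c52 LD3_c4)) = (LP (LK LD1_c9 LD2_c36 LD3_c29)) :=
  Lre_e IH (LK LD1_c4 LD2_c52 LD3_c4) (LK LD1_c9 LD2_c36 LD3_c29) Lrfl Lrfl
theorem f315405 : Led Lsl_et (LP (LK LD1_c5 LD2_c39 LD3_c17)) = (LP (LK LD1_c9 LD2_c36 LD3_c28)) :=
  Lgr Lrot71 (Lpe (K13.f200469 IH) (Lpr_ef (K18.f200473 IH) (Lpr_df (K21.f315399 IH) (Lpe (f315404 IH) (Lpe (f1569 IH) (Lpn (LP (LK LD1_c9 LD2_c36 LD3_c28))))))))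
theorem f315410 : Led Lsl_ef (LP (LK LD1_c5 LD2_c39 LD3_c17)) = (LP (LK LD1_c9 LD2_c36 LD3_c28)) :=
  Lgr Lrot88 (Lpr_et (f315405 IH) (Lpn (LP (LK LD1_c9 LD2_c36 LD3_c28))))
theorem f199316 : Led Lsl_ft (LP (LK LD1_c8 LD2_c10 LD3_c20)) = (LP (LK LD1_c4 LD2_c4 LD3_c43)) :=
  Lre_f IH (LK LD1_c8 LD2_c10 LD3_c20) (LK LD1_c4 LD2_c4 LD3_c43) Lrfl Lrfl
theorem f315070 : Led Lsl_et (LP (LK LD1_c8 LD2_c37 LD3_c38)) = (LP (LK LD1_c8 LD2_c10 LD3_c20)) :=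
  Lgr Lrot69 (Lpe (K20.f305054 IH) (Lpe (K19.f298932 IH) (Lpr_ff (K19.f315066 IH) (Lpe (K15.f199257 IH) (Lpe (f199316 IH) (Lpn (LP (LK LD1_c8 LD2_c10 LD3_c20))))))))
theorem f315815 : Led Lsl_gt (LP (LK LD1_c5 LD2_c39 LD3_c17)) = (LP (LK LD1_c8 LD2_c10 LD3_c20)) :=
  Lgr Lrot131 (Lpr_ef (f315410 IH) (Lpr_dt (f1569 IH) (Lpe (K21.f1559 IH) (Lpr_df (K0.f1532 IH) (Lpe (K18.f1557 IH) (Lpe (K20.f1570 IH) (Lpe (K20.f314656 IH) (Lpr_gf (K20.f315813 IH) (Lpr_df (K20.f305057 IH) (Lpr_et (f315070 IH) (Lpn (LP (LK LD1_c8 LD2_c10 LD3_c20)))))))))))))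
theorem f227026 : Led Lsl_ct (LP (LK LD1_c11 LD2_c9 LD3_c33)) = (LP (LK LD1_c5 LD2_c39 LD3_c17)) :=
  Lre_c IH (LK LD1_c11 LD2_c9 LD3_c33) (LK LD1_c5 LD2_c39 LD3_c17) Lrfl Lrfl
theorem f315828 : Led Lsl_gf (LP (LK LD1_c16 LD2_c8 LD3_c29)) = (LP (LK LD1_c11 LD2_c9 LD3_c33)) :=
  Lgr Lrot144 (Lpr_dt (K16.f269345 IH) (Lpr_gt (K16.f269417 IH) (Lpr_dt (f216440 IH) (Lpe (K19.f192397 IH) (Lpe (K14.f216442 IH) (Lpr_gf (K20.f315823 IH) (Lpe (K20.f199231 IH) (Lpe (f315815 IH) (Lpe (f227026 IH) (Lpn (LP (LK LD1_c11 LD2_c9 LD3_c33))))))))))))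
theorem f333731 : Led Lsl_bt (LP (LK LD1_c2 LD2_c41 LD3_c42)) = (LP (LK LD1_c5 LD2_c30 LD3_c54)) :=
  Lre_b IH (LK LD1_c2 LD2_c41 LD3_c42) (LK LD1_c5 LD2_c30 LD3_c54) Lrfl Lrfl
theorem f335670 : Led Lsl_gt (LP (LK LD1_c8 LD2_c33 LD3_c50)) = (LP (LK LD1_c5 LD2_c30 LD3_c54)) :=
  Lgr Lrot164 (Lpe (K14.f238645 IH) (Lpr_ct (K16.f238661 IH) (Lpr_gf (f315828 IH) (Lpe (f227015 IH) (Lpe (K13.f179742 IH) (Lpe (f179741 IH) (Lpr_ct (f179740 IH) (Lpr_gf (f335665 IH) (Lpe (f309740 IH) (Lpr_bt (f333731 IH) (Lpn (LP (LK LD1_c5 LD2_c30 LD3_c54)))))))))))))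
theorem f199014 : Led Lsl_et (LP (LK LD1_c4 LD2_c3 LD3_c21)) = (LP (LK LD1_c1 LD2_c58 LD3_c38)) :=
  Lre_e IH (LK LD1_c4 LD2_c3 LD3_c21) (LK LD1_c1 LD2_c58 LD3_c38) Lrfl Lrfl
theorem f267079 : Led Lsl_et (LP (LK LD1_c4 LD2_c28 LD3_c3)) = (LP (LK LD1_c8 LD2_c7 LD3_c19)) :=
  Lgr Lrot69 (Lpe (K15.f247383 IH) (Lpe (K14.f247343 IH) (Lpr_ff (K15.f267073 IH) (Lpe (f199014 IH) (Lpe (K12.f198987 IH) (Lpn (LP (LK LD1_c8 LD2_c7 LD3_c19))))))))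
theorem f42353 : Led Lsl_et (LP (LK LD1_c10 LD2_c31 LD3_c10)) = (LP (LK LD1_c5 LD2_c20 LD3_c33)) :=
  Lre_e IH (LK LD1_c10 LD2_c31 LD3_c10) (LK LD1_c5 LD2_c20 LD3_c33) Lrfl Lrfl
theorem f42354 : Led Lsl_df (LP (LK LD1_c4 LD2_c27 LD3_c55)) = (LP (LK LD1_c5 LD2_c20 LD3_c33)) :=
  Lgr Lrot70 (Lpr_et (K21.f42302 IH) (Lpe (K21.f42317 IH) (Lpr_et (K21.f42349 IH) (Lpr_dt (K21.f42352 IH) (Lpr_et (f42353 IH) (Lpn (LP (LK LD1_c5 LD2_c20 LD3_c33))))))))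
theorem f322513 : Led Lsl_gt (LP (LK LD1_c4 LD2_c27 LD3_c55)) = (LP (LK LD1_c8 LD2_c7 LD3_c19)) :=
  Lgr Lrot112 (Lpr_df (f42354 IH) (Lpr_et (K21.f42313 IH) (Lpr_gf (K21.f223564 IH) (Lpe (K21.f289014 IH) (Lpr_dt (K21.f288875 IH) (Lpr_gf (K21.f322504 IH) (Lpe (K21.f322399 IH) (Lpe (K20.f254407 IH) (Lpr_ef (K15.f256590 IH) (Lpe (K12.f198983 IH) (Lpn (LP (LK LD1_c8 LD2_c7 LD3_c19)))))))))))))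
theorem f265427 : Led Lsl_at (LP (LK LD1_c4 LD2_c28 LD3_c21)) = (LP (LK LD1_c8 LD2_c53 LD3_c0)) :=
  Lgr Lrot100 (Lpr_af (K16.f265425 IH) (Lpn (LP (LK LD1_c8 LD2_c53 LD3_c0))))
theorem f42351 : Led Lsl_gt (LP (LK LD1_c2 LD2_c11 LD3_c17)) = (LP (LK LD1_c4 LD2_c28 LD3_c18)) :=
  Lre_g IH (LK LD1_c2 LD2_c11 LD3_c17) (LK LD1_c4 LD2_c28 LD3_c18) Lrfl Lrfl
theorem f265531 : Led Lsl_gt (LP (LK LD1_c4 LD2_c28 LD3_c18)) = (LP (LK LD1_c8 LD2_c53 LD3_c0)) :=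
  Lgr Lrot46 (Lpe (f42351 IH) (Lpr_ft (K17.f223399 IH) (Lpr_at (f265427 IH) (Lpn (LP (LK LD1_c8 LD2_c53 LD3_c0))))))
theorem f265535 : Led Lsl_et (LP (LK LD1_c8 LD2_c54 LD3_c46)) = (LP (LK LD1_c4 LD2_c28 LD3_c18)) :=
  Lre_e IH (LK LD1_c8 LD2_c54 LD3_c46) (LK LD1_c4 LD2_c28 LD3_c18) Lrfl Lrfl
theorem f335676 : Led Lsl_dt (LP (LK LD1_c8 LD2_c54 LD3_c46)) = (LP (LK LD1_c5 LD2_c30 LD3_c54)) :=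
  Lgr Lrot37 (Lpr_et (f265535 IH) (Lpr_gt (f265531 IH) (Lpe (K18.f44721 IH) (Lpe (f265540 IH) (Lpr_df (K21.f42317 IH) (Lpe (K21.f42307 IH) (Lpr_gt (f322513 IH) (Lpe (f267079 IH) (Lpe (K14.f247373 IH) (Lpr_gt (f335670 IH) (Lpn (LP (LK LD1_c5 LD2_c30 LD3_c54)))))))))))))
theorem f44720 : Led Lsl_ct (LP (LK LD1_c8 LD2_c53 LD3_c0)) = (LP (LK LD1_c16 LD2_c36 LD3_c30)) :=
  Lre_c IH (LK LD1_c8 LD2_c53 LD3_c0) (LK LD1_c16 LD2_c36 LD3_c30) Lrfl Lrfl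
theorem f276497 : Led Lsl_ef (LP (LK LD1_c8 LD2_c53 LD3_c0)) = (LP (LK LD1_c4 LD2_c28 LD3_c14)) :=
  Lgr Lrot28 (Lpr_ct (f44720 IH) (Lpr_et (K16.f276480 IH) (Lpr_ct (K18.f276496 IH) (Lpn (LP (LK LD1_c4 LD2_c28 LD3_c14))))))
theorem f335684 : Led Lsl_gt (LP (LK LD1_c8 LD2_c52 LD3_c56)) = (LP (LK LD1_c4 LD2_c28 LD3_c3)) :=
  Lgr Lrot137 (Lpe (K21.f325590 IH) (Lpr_dt (K21.f249262 IH) (Lpr_gf (K21.f325416 IH) (Lpr_df (K18.f293966 IH) (Lpe (f276497 IH) (Lpe (f265531 IH) (Lpe (f265535 IH) (Lpr_dt (f335676 IH) (Lpe (f335670 IH) (Lpr_df (K14.f247373 IH) (Lpn (LP (LK LD1_c4 LD2_c28 LD3_c3)))))))))))))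
theorem f284124 : Led Lsl_ft (LP (LK LD1_c4 LD2_c17 LD3_c38)) = (LP (LK LD1_c8 LD2_c34 LD3_c17)) :=
  Lre_f IH (LK LD1_c4 LD2_c17 LD3_c38) (LK LD1_c8 LD2_c34 LD3_c17) Lrfl Lrfl
theorem f325605 : Led Lsl_dt (LP (LK LD1_c8 LD2_c34 LD3_c17)) = (LP (LK LD1_c8 LD2_c52 LD3_c56)) :=
  Lgr Lrot60 (Lpe (f284124 IH) (Lpe (K20.f284121 IH) (Lpr_ff (K21.f325598 IH) (Lpn (LP (LK LD1_c8 LD2_c52 LD3_c56))))))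
theorem f179992 : Led Lsl_ct (LP (LK LD1_c4 LD2_c17 LD3_c44)) = (LP (LK LD1_c8 LD2_c34 LD3_c33)) :=
  Lre_c IH (LK LD1_c4 LD2_c17 LD3_c44) (LK LD1_c8 LD2_c34 LD3_c33) Lrfl Lrfl
theorem f179993 : Led Lsl_gt (LP (LK LD1_c8 LD2_c34 LD3_c33)) = (LP (LK LD1_c16 LD2_c5 LD3_c39)) :=
  Lre_g IH (LK LD1_c8 LD2_c34 LD3_c33) (LK LD1_c16 LD2_c5 LD3_c39) Lrfl Lrfl
theorem f335688 : Led Lsl_dt (LP (LK LD1_c16 LD2_c5 LD3_c39)) = (LP (LK LD1_c25 LD2_c37 LD3_c50)) :=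
  Lgr Lrot57 (Lpe (f179993 IH) (Lpe (f179992 IH) (Lpr_gt (K21.f256006 IH) (Lpr_dt (f325605 IH) (Lpr_gt (f335684 IH) (Lpe (K14.f247373 IH) (Lpe (K19.f238668 IH) (Lpe (K20.f238715 IH) (Lpr_gf (K20.f267020 IH) (Lpn (LP (LK LD1_c25 LD2_c37 LD3_c50))))))))))))
theorem f270823 : Led Lsl_dt (LP (LK LD1_c20 LD2_c54 LD3_c42)) = (LP (LK LD1_c11 LD2_c52 LD3_c0)) :=
  Lre_d IH (LK LD1_c20 LD2_c54 LD3_c42) (LK LD1_c11 LD2_c52 LD3_c0) Lrfl Lrfl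
theorem f335694 : Led Lsl_ff (LP (LK LD1_c16 LD2_c5 LD3_c39)) = (LP (LK LD1_c11 LD2_c52 LD3_c0)) :=
  Lgr Lrot19 (Lpr_dt (f335688 IH) (Lpe (K20.f270821 IH) (Lpr_dt (f270823 IH) (Lpn (LP (LK LD1_c11 LD2_c52 LD3_c0))))))
theorem f335702 : Led Lsl_ft (LP (LK LD1_c16 LD2_c5 LD3_c39)) = (LP (LK LD1_c11 LD2_c52 LD3_c0)) :=
  Lgr Lrot48 (Lpr_ff (f335694 IH) (Lpn (LP (LK LD1_c11 LD2_c52 LD3_c0))))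
theorem f335704 : Led Lsl_cf (LP (LK LD1_c16 LD2_c5 LD3_c39)) = (LP (LK LD1_c15 LD2_c6 LD3_c42)) :=
  Lgr Lrot108 (Lpr_ft (f335702 IH) (Lpr_ct (K16.f270815 IH) (Lpr_ft (K16.f247138 IH) (Lpn (LP (LK LD1_c15 LD2_c6 LD3_c42))))))
theorem f335714 : Led Lsl_bt (LP (LK LD1_c4 LD2_c17 LD3_c44)) = (LP (LK LD1_c8 LD2_c34 LD3_c32)) :=
  Lre_b IH (LK LD1_c4 LD2_c17 LD3_c44) (LK LD1_c8 LD2_c34 LD3_c32) Lrfl Lrfl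
theorem f170378 : Led Lsl_gt (LP (LK LD1_c4 LD2_c52 LD3_c56)) = (LP (LK LD1_c2 LD2_c24 LD3_c18)) :=
  Lre_g IH (LK LD1_c4 LD2_c52 LD3_c56) (LK LD1_c2 LD2_c24 LD3_c18) Lrfl Lrfl
theorem f247149 : Led Lsl_gf (LP (LK LD1_c4 LD2_c52 LD3_c56)) = (LP (LK LD1_c8 LD2_c1 LD3_c30)) :=
  Lgr Lrot47 (Lpr_gt (f170378 IH) (Lpr_af (K15.f247143 IH) (Lpe (K15.f247085 IH) (Lpn (LP (LK LD1_c8 LD2_c1 LD3_c30))))))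
theorem f247154 : Led Lsl_ct (LP (LK LD1_c4 LD2_c52 LD3_c56)) = (LP (LK LD1_c9 LD2_c37 LD3_c48)) :=
  Lre_c IH (LK LD1_c4 LD2_c52 LD3_c56) (LK LD1_c9 LD2_c37 LD3_c48) Lrfl Lrfl
theorem f199226 : Led Lsl_gt (LP (LK LD1_c17 LD2_c37 LD3_c28)) = (LP (LK LD1_c9 LD2_c34 LD3_c17)) :=
  Lre_g IH (LK LD1_c17 LD2_c37 LD3_c28) (LK LD1_c9 LD2_c34 LD3_c17) Lrfl Lrfl
theorem f255794 : Led Lsl_ct (LP (LK LD1_c5 LD2_c23 LD3_c56)) = (LP (LK LD1_c10 LD2_c38 LD3_c29)) :=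
  Lre_c IH (LK LD1_c5 LD2_c23 LD3_c56) (LK LD1_c10 LD2_c38 LD3_c29) Lrfl Lrfl
theorem f255774 : Led Lsl_bt (LP (LK LD1_c5 LD2_c23 LD3_c56)) = (LP (LK LD1_c10 LD2_c37 LD3_c34)) :=
  Lre_b IH (LK LD1_c5 LD2_c23 LD3_c56) (LK LD1_c10 LD2_c37 LD3_c34) Lrfl Lrfl
theorem f326000 : Led Lsl_cf (LP (LK LD1_c17 LD2_c37 LD3_c28)) = (LP (LK LD1_c15 LD2_c18 LD3_c61)) :=
  Lgr Lrot125 (Lpr_gt (f199226 IH) (Lpe (f199265 IH) (Lpe (K15.f199246 IH) (Lpr_gt (K19.f199260 IH) (Lpe (K20.f199266 IH) (Lpr_ct (K21.f325395 IH) (Lpr_gt (K21.f325995 IH) (Lpe (f255794 IH) (Lpr_bt (f255774 IH) (Lpr_gt (K19.f311309 IH) (Lpn (LP (LK LD1_c15 LD2_c18 LD3_c61)))))))))))))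
theorem f2100 : Led Lsl_dt (LP (LK LD1_c9 LD2_c34 LD3_c17)) = (LP (LK LD1_c17 LD2_c37 LD3_c29)) :=
  Lre_d IH (LK LD1_c9 LD2_c34 LD3_c17) (LK LD1_c17 LD2_c37 LD3_c29) Lrfl Lrfl
theorem f260480 : Led Lsl_ct (LP (LK LD1_c8 LD2_c41 LD3_c17)) = (LP (LK LD1_c4 LD2_c21 LD3_c53)) :=
  Lre_c IH (LK LD1_c8 LD2_c41 LD3_c17) (LK LD1_c4 LD2_c21 LD3_c53) Lrfl Lrfl
theorem f260584 : Led Lsl_dt (LP (LK LD1_c16 LD2_c16 LD3_c27)) = (LP (LK LD1_c8 LD2_c41 LD3_c17)) :=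
  Lre_d IH (LK LD1_c16 LD2_c16 LD3_c27) (LK LD1_c8 LD2_c41 LD3_c17) Lrfl Lrfl
theorem f326305 : Led Lsl_gt (LP (LK LD1_c17 LD2_c37 LD3_c29)) = (LP (LK LD1_c16 LD2_c16 LD3_c27)) :=
  Lgr Lrot49 (Lpe (f2100 IH) (Lpe (f199226 IH) (Lpr_cf (f326000 IH) (Lpe (K19.f311307 IH) (Lpr_dt (K19.f308883 IH) (Lpe (K19.f312126 IH) (Lpr_dt (K16.f260581 IH) (Lpe (f260480 IH) (Lpe (f260584 IH) (Lpn (LP (LK LD1_c16 LD2_c16 LD3_c27))))))))))))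
theorem f269969 : Led Lsl_ft (LP (LK LD1_c9 LD2_c38 LD3_c6)) = (LP (LK LD1_c17 LD2_c43 LD3_c58)) :=
  Lre_f IH (LK LD1_c9 LD2_c38 LD3_c6) (LK LD1_c17 LD2_c43 LD3_c58) Lrfl Lrfl
theorem f326311 : Led Lsl_gf (LP (LK LD1_c17 LD2_c37 LD3_c29)) = (LP (LK LD1_c9 LD2_c38 LD3_c6)) :=
  Lgr Lrot47 (Lpr_gt (f326305 IH) (Lpr_af (K16.f269959 IH) (Lpe (f269969 IH) (Lpn (LP (LK LD1_c9 LD2_c38 LD3_c6))))))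
theorem f199210 : Led Lsl_dt (LP (LK LD1_c17 LD2_c37 LD3_c29)) = (LP (LK LD1_c9 LD2_c34 LD3_c17)) :=
  Lre_d IH (LK LD1_c17 LD2_c37 LD3_c29) (LK LD1_c9 LD2_c34 LD3_c17) Lrfl Lrfl
theorem f199209 : Led Lsl_ct (LP (LK LD1_c9 LD2_c34 LD3_c17)) = (LP (LK LD1_c4 LD2_c51 LD3_c9)) :=
  Lre_c IH (LK LD1_c9 LD2_c34 LD3_c17) (LK LD1_c4 LD2_c51 LD3_c9) Lrfl Lrfl
theorem f2502 : Led Lsl_dt (LP (LK LD1_c4 LD2_c53 LD3_c5)) = (LP (LK LD1_c9 LD2_c38 LD3_c6)) :=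
  Lre_d IH (LK LD1_c4 LD2_c53 LD3_c5) (LK LD1_c9 LD2_c38 LD3_c6) Lrfl Lrfl
theorem f326313 : Led Lsl_gt (LP (LK LD1_c9 LD2_c37 LD3_c48)) = (LP (LK LD1_c4 LD2_c53 LD3_c5)) :=
  Lgr Lrot94 (Lpe (f247154 IH) (Lpr_gt (f170378 IH) (Lpr_dt (K15.f2454 IH) (Lpe (K18.f246815 IH) (Lpr_dt (K20.f199211 IH) (Lpe (f199209 IH) (Lpe (f199210 IH) (Lpr_gf (f326311 IH) (Lpe (f2502 IH) (Lpn (LP (LK LD1_c4 LD2_c53 LD3_c5))))))))))))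
theorem f335715 : Led Lsl_gf (LP (LK LD1_c8 LD2_c34 LD3_c32)) = (LP (LK LD1_c7 LD2_c55 LD3_c44)) :=
  Lgr Lrot124 (Lpe (f335714 IH) (Lpr_ct (f179992 IH) (Lpr_gt (f179993 IH) (Lpr_cf (f335704 IH) (Lpr_bt (K16.f247127 IH) (Lpe (f247149 IH) (Lpr_ct (f247154 IH) (Lpr_gt (f326313 IH) (Lpe (K16.f229272 IH) (Lpr_bt (K20.f269907 IH) (Lpn (LP (LK LD1_c7 LD2_c55 LD3_c44)))))))))))))
theorem f232886 : Led Lsl_et (LP (LK LD1_c3 LD2_c57 LD3_c2)) = (LP (LK LD1_c7 LD2_c55 LD3_c44)) :=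
  Lre_e IH (LK LD1_c3 LD2_c57 LD3_c2) (LK LD1_c7 LD2_c55 LD3_c44) Lrfl Lrfl
theorem f48274 : Led Lsl_bt (LP (LK LD1_c5 LD2_c17 LD3_c56)) = (LP (LK LD1_c2 LD2_c35 LD3_c43)) :=
  Lre_b IH (LK LD1_c5 LD2_c17 LD3_c56) (LK LD1_c2 LD2_c35 LD3_c43) Lrfl Lrfl
theorem f48275 : Led Lsl_dt (LP (LK LD1_c8 LD2_c29 LD3_c34)) = (LP (LK LD1_c5 LD2_c17 LD3_c56)) :=
  Lgr Lrot79 (Lpe (K17.f48273 IH) (Lpr_df (K10.f48265 IH) (Lpe (f48274 IH) (Lpn (LP (LK LD1_c5 LD2_c17 LD3_c56))))))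
theorem f49025 : Led Lsl_gt (LP (LK LD1_c10 LD2_c25 LD3_c29)) = (LP (LK LD1_c5 LD2_c17 LD3_c56)) :=
  Lre_g IH (LK LD1_c10 LD2_c25 LD3_c29) (LK LD1_c5 LD2_c17 LD3_c56) Lrfl Lrfl
theorem f287672 : Led Lsl_gf (LP (LK LD1_c10 LD2_c25 LD3_c29)) = (LP (LK LD1_c10 LD2_c28 LD3_c1)) :=
  Lgr Lrot47 (Lpr_gt (f49025 IH) (Lpr_af (K17.f287650 IH) (Lpe (K13.f229077 IH) (Lpn (LP (LK LD1_c10 LD2_c28 LD3_c1))))))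
theorem f232090 : Led Lsl_gt (LP (LK LD1_c8 LD2_c19 LD3_c1)) = (LP (LK LD1_c4 LD2_c9 LD3_c31)) :=
  Lre_g IH (LK LD1_c8 LD2_c19 LD3_c1) (LK LD1_c4 LD2_c9 LD3_c31) Lrfl Lrfl
theorem f294242 : Led Lsl_dt (LP (LK LD1_c10 LD2_c25 LD3_c29)) = (LP (LK LD1_c8 LD2_c19 LD3_c1)) :=
  Lgr Lrot171 (Lpr_gf (f287672 IH) (Lpr_ef (K18.f294234 IH) (Lpr_dt (K18.f277599 IH) (Lpe (K14.f183951 IH) (Lpe (K14.f183950 IH) (Lpr_et (K14.f183949 IH) (Lpe (K9.f183921 IH) (Lpr_ef (K14.f232075 IH) (Lpr_dt (K14.f232089 IH) (Lpe (f232090 IH) (Lpn (LP (LK LD1_c8 LD2_c19 LD3_c1)))))))))))))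
theorem f294244 : Led Lsl_df (LP (LK LD1_c10 LD2_c25 LD3_c29)) = (LP (LK LD1_c8 LD2_c19 LD3_c1)) :=
  Lgr Lrot38 (Lpr_dt (f294242 IH) (Lpn (LP (LK LD1_c8 LD2_c19 LD3_c1))))
theorem f335721 : Led Lsl_ef (LP (LK LD1_c8 LD2_c34 LD3_c32)) = (LP (LK LD1_c8 LD2_c19 LD3_c1)) :=
  Lgr Lrot17 (Lpr_gf (f335715 IH) (Lpe (f232886 IH) (Lpr_dt (K13.f227967 IH) (Lpr_gf (K16.f270726 IH) (Lpe (K18.f251040 IH) (Lpr_gf (K14.f251047 IH) (Lpe (K14.f49018 IH) (Lpr_dt (f48275 IH) (Lpe (f49025 IH) (Lpr_df (f294244 IH) (Lpn (LP (LK LD1_c8 LD2_c19 LD3_c1)))))))))))))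
theorem f307750 : Led Lsl_dt (LP (LK LD1_c8 LD2_c34 LD3_c32)) = (LP (LK LD1_c16 LD2_c5 LD3_c38)) :=
  Lre_d IH (LK LD1_c8 LD2_c34 LD3_c32) (LK LD1_c16 LD2_c5 LD3_c38) Lrfl Lrfl
theorem f307711 : Led Lsl_ct (LP (LK LD1_c16 LD2_c5 LD3_c43)) = (LP (LK LD1_c8 LD2_c34 LD3_c34)) :=
  Lre_c IH (LK LD1_c16 LD2_c5 LD3_c43) (LK LD1_c8 LD2_c34 LD3_c34) Lrfl Lrfl
theorem f170019 : Led Lsl_ct (LP (LK LD1_c10 LD2_c22 LD3_c17)) = (LP (LK LD1_c18 LD2_c49 LD3_c24)) :=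
  Lre_c IH (LK LD1_c10 LD2_c22 LD3_c17) (LK LD1_c18 LD2_c49 LD3_c24) Lrfl Lrfl
theorem f307712 : Led Lsl_ef (LP (LK LD1_c16 LD2_c5 LD3_c43)) = (LP (LK LD1_c18 LD2_c49 LD3_c24)) :=
  Lgr Lrot28 (Lpr_ct (f307711 IH) (Lpr_et (K21.f307705 IH) (Lpr_ct (f170019 IH) (Lpn (LP (LK LD1_c18 LD2_c49 LD3_c24))))))
theorem f307718 : Led Lsl_et (LP (LK LD1_c16 LD2_c5 LD3_c43)) = (LP (LK LD1_c18 LD2_c49 LD3_c24)) :=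
  Lgr Lrot87 (Lpr_ef (f307712 IH) (Lpn (LP (LK LD1_c18 LD2_c49 LD3_c24))))
theorem f307721 : Led Lsl_bt (LP (LK LD1_c26 LD2_c2 LD3_c48)) = (LP (LK LD1_c16 LD2_c5 LD3_c43)) :=
  Lre_b IH (LK LD1_c26 LD2_c2 LD3_c48) (LK LD1_c16 LD2_c5 LD3_c43) Lrfl Lrfl
theorem f170020 : Led Lsl_bt (LP (LK LD1_c18 LD2_c49 LD3_c24)) = (LP (LK LD1_c28 LD2_c18 LD3_c47)) :=
  Lre_b IH (LK LD1_c18 LD2_c49 LD3_c24) (LK LD1_c28 LD2_c18 LD3_c47) Lrfl Lrfl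
theorem f307722 : Led Lsl_ef (LP (LK LD1_c26 LD2_c2 LD3_c48)) = (LP (LK LD1_c28 LD2_c18 LD3_c47)) :=
  Lgr Lrot29 (Lpr_bt (f307721 IH) (Lpr_et (f307718 IH) (Lpr_bt (f170020 IH) (Lpn (LP (LK LD1_c28 LD2_c18 LD3_c47))))))
theorem f307727 : Led Lsl_ct (LP (LK LD1_c26 LD2_c2 LD3_c48)) = (LP (LK LD1_c32 LD2_c3 LD3_c33)) :=
  Lre_c IH (LK LD1_c26 LD2_c2 LD3_c48) (LK LD1_c32 LD2_c3 LD3_c33) Lrfl Lrfl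
theorem f307728 : Led Lsl_ct (LP (LK LD1_c32 LD2_c33 LD3_c37)) = (LP (LK LD1_c28 LD2_c18 LD3_c47)) :=
  Lre_c IH (LK LD1_c32 LD2_c33 LD3_c37) (LK LD1_c28 LD2_c18 LD3_c47) Lrfl Lrfl
theorem f307729 : Led Lsl_et (LP (LK LD1_c32 LD2_c3 LD3_c33)) = (LP (LK LD1_c32 LD2_c33 LD3_c37)) :=
  Lgr Lrot158 (Lpe (f307727 IH) (Lpr_ef (f307722 IH) (Lpe (f307728 IH) (Lpn (LP (LK LD1_c32 LD2_c33 LD3_c37))))))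
theorem f307732 : Led Lsl_bt (LP (LK LD1_c26 LD2_c2 LD3_c45)) = (LP (LK LD1_c32 LD2_c3 LD3_c33)) :=
  Lre_b IH (LK LD1_c26 LD2_c2 LD3_c45) (LK LD1_c32 LD2_c3 LD3_c33) Lrfl Lrfl
theorem f307733 : Led Lsl_bt (LP (LK LD1_c32 LD2_c33 LD3_c37)) = (LP (LK LD1_c28 LD2_c18 LD3_c45)) :=
  Lre_b IH (LK LD1_c32 LD2_c33 LD3_c37) (LK LD1_c28 LD2_c18 LD3_c45) Lrfl Lrfl
theorem f307734 : Led Lsl_ef (LP (LK LD1_c26 LD2_c2 LD3_c45)) = (LP (LK LD1_c28 LD2_c18 LD3_c45)) :=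
  Lgr Lrot29 (Lpr_bt (f307732 IH) (Lpr_et (f307729 IH) (Lpr_bt (f307733 IH) (Lpn (LP (LK LD1_c28 LD2_c18 LD3_c45))))))
theorem f307745 : Led Lsl_ct (LP (LK LD1_c26 LD2_c2 LD3_c45)) = (LP (LK LD1_c16 LD2_c5 LD3_c38)) :=
  Lre_c IH (LK LD1_c26 LD2_c2 LD3_c45) (LK LD1_c16 LD2_c5 LD3_c38) Lrfl Lrfl
theorem f250377 : Led Lsl_ct (LP (LK LD1_c18 LD2_c49 LD3_c21)) = (LP (LK LD1_c28 LD2_c18 LD3_c45)) :=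
  Lre_c IH (LK LD1_c18 LD2_c49 LD3_c21) (LK LD1_c28 LD2_c18 LD3_c45) Lrfl Lrfl
theorem f307746 : Led Lsl_et (LP (LK LD1_c16 LD2_c5 LD3_c38)) = (LP (LK LD1_c18 LD2_c49 LD3_c21)) :=
  Lgr Lrot158 (Lpe (f307745 IH) (Lpr_ef (f307734 IH) (Lpe (f250377 IH) (Lpn (LP (LK LD1_c18 LD2_c49 LD3_c21))))))
theorem f250371 : Led Lsl_dt (LP (LK LD1_c18 LD2_c49 LD3_c21)) = (LP (LK LD1_c10 LD2_c22 LD3_c15)) :=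
  Lre_d IH (LK LD1_c18 LD2_c49 LD3_c21) (LK LD1_c10 LD2_c22 LD3_c15) Lrfl Lrfl
theorem f335727 : Led Lsl_et (LP (LK LD1_c10 LD2_c22 LD3_c15)) = (LP (LK LD1_c10 LD2_c25 LD3_c29)) :=
  Lgr Lrot71 (Lpe (f250371 IH) (Lpe (f307746 IH) (Lpe (f307750 IH) (Lpr_ef (f335721 IH) (Lpe (f294242 IH) (Lpn (LP (LK LD1_c10 LD2_c25 LD3_c29))))))))
theorem f250376 : Led Lsl_dt (LP (LK LD1_c10 LD2_c22 LD3_c15)) = (LP (LK LD1_c18 LD2_c49 LD3_c21)) :=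
  Lre_d IH (LK LD1_c10 LD2_c22 LD3_c15) (LK LD1_c18 LD2_c49 LD3_c21) Lrfl Lrfl
theorem f192242 : Led Lsl_gt (LP (LK LD1_c10 LD2_c27 LD3_c50)) = (LP (LK LD1_c18 LD2_c58 LD3_c7)) :=
  Lre_g IH (LK LD1_c10 LD2_c27 LD3_c50) (LK LD1_c18 LD2_c58 LD3_c7) Lrfl Lrfl
theorem f275634 : Led Lsl_gt (LP (LK LD1_c8 LD2_c54 LD3_c11)) = (LP (LK LD1_c4 LD2_c28 LD3_c5)) :=
  Lre_g IH (LK LD1_c8 LD2_c54 LD3_c11) (LK LD1_c4 LD2_c28 LD3_c5) Lrfl Lrfl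
theorem f275643 : Led Lsl_et (LP (LK LD1_c16 LD2_c39 LD3_c19)) = (LP (LK LD1_c8 LD2_c54 LD3_c11)) :=
  Lre_e IH (LK LD1_c16 LD2_c39 LD3_c19) (LK LD1_c8 LD2_c54 LD3_c11) Lrfl Lrfl
theorem f275644 : Led Lsl_dt (LP (LK LD1_c16 LD2_c39 LD3_c19)) = (LP (LK LD1_c18 LD2_c58 LD3_c7)) :=
  Lgr Lrot37 (Lpr_et (f275643 IH) (Lpr_gt (f275634 IH) (Lpr_dt (K16.f223212 IH) (Lpr_gt (K16.f275630 IH) (Lpe (K16.f246213 IH) (Lpr_et (K16.f260358 IH) (Lpr_gt (K16.f264904 IH) (Lpe (K15.f192231 IH) (Lpr_dt (K15.f192239 IH) (Lpr_gt (f192242 IH) (Lpn (LP (LK LD1_c18 LD2_c58 LD3_c7)))))))))))))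
theorem f275646 : Led Lsl_df (LP (LK LD1_c16 LD2_c39 LD3_c19)) = (LP (LK LD1_c18 LD2_c58 LD3_c7)) :=
  Lgr Lrot38 (Lpr_dt (f275644 IH) (Lpn (LP (LK LD1_c18 LD2_c58 LD3_c7))))
theorem f335818 : Led Lsl_gf (LP (LK LD1_c18 LD2_c49 LD3_c21)) = (LP (LK LD1_c16 LD2_c39 LD3_c19)) :=
  Lgr Lrot134 (Lpe (f250376 IH) (Lpr_et (f335727 IH) (Lpr_gt (f49025 IH) (Lpe (K14.f49021 IH) (Lpe (K17.f48257 IH) (Lpe (K15.f266275 IH) (Lpr_df (K15.f192228 IH) (Lpr_et (K15.f192232 IH) (Lpr_gt (f192242 IH) (Lpe (f275646 IH) (Lpn (LP (LK LD1_c16 LD2_c39 LD3_c19)))))))))))))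
theorem f248731 : Led Lsl_ct (LP (LK LD1_c2 LD2_c29 LD3_c18)) = (LP (LK LD1_c5 LD2_c3 LD3_c39)) :=
  Lre_c IH (LK LD1_c2 LD2_c29 LD3_c18) (LK LD1_c5 LD2_c3 LD3_c39) Lrfl Lrfl
theorem f250358 : Led Lsl_gt (LP (LK LD1_c5 LD2_c3 LD3_c39)) = (LP (LK LD1_c2 LD2_c29 LD3_c31)) :=
  Lgr Lrot94 (Lpe (f248731 IH) (Lpr_gt (K19.f248722 IH) (Lpr_dt (K14.f250351 IH) (Lpe (K14.f250349 IH) (Lpe (K13.f22039 IH) (Lpe (K19.f22037 IH) (Lpe (f185362 IH) (Lpe (f21396 IH) (Lpe (f21395 IH) (Lpn (LP (LK LD1_c2 LD2_c29 LD3_c31))))))))))))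
theorem f248737 : Led Lsl_ct (LP (LK LD1_c5 LD2_c10 LD3_c36)) = (LP (LK LD1_c10 LD2_c11 LD3_c49)) :=
  Lre_c IH (LK LD1_c5 LD2_c10 LD3_c36) (LK LD1_c10 LD2_c11 LD3_c49) Lrfl Lrfl
theorem f248738 : Led Lsl_gt (LP (LK LD1_c18 LD2_c34 LD3_c1)) = (LP (LK LD1_c10 LD2_c11 LD3_c49)) :=
  Lre_g IH (LK LD1_c18 LD2_c34 LD3_c1) (LK LD1_c10 LD2_c11 LD3_c49) Lrfl Lrfl
theorem f170006 : Led Lsl_ct (LP (LK LD1_c1 LD2_c14 LD3_c28)) = (LP (LK LD1_c2 LD2_c29 LD3_c31)) :=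
  Lgr Lrot59 (Lpr_cf (f169573 IH) (Lpn (LP (LK LD1_c2 LD2_c29 LD3_c31))))
theorem f170003 : Led Lsl_bt (LP (LK LD1_c1 LD2_c14 LD3_c28)) = (LP (LK LD1_c2 LD2_c34 LD3_c56)) :=
  Lre_b IH (LK LD1_c1 LD2_c14 LD3_c28) (LK LD1_c2 LD2_c34 LD3_c56) Lrfl Lrfl
theorem f170045 : Led Lsl_bt (LP (LK LD1_c10 LD2_c22 LD3_c15)) = (LP (LK LD1_c5 LD2_c16 LD3_c20)) :=
  Lre_b IH (LK LD1_c10 LD2_c22 LD3_c15) (LK LD1_c5 LD2_c16 LD3_c20) Lrfl Lrfl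
theorem f250362 : Led Lsl_cf (LP (LK LD1_c18 LD2_c34 LD3_c1)) = (LP (LK LD1_c10 LD2_c22 LD3_c15)) :=
  Lgr Lrot160 (Lpr_gt (f248738 IH) (Lpe (f248737 IH) (Lpr_bt (K18.f248734 IH) (Lpe (K19.f248723 IH) (Lpr_ct (f248731 IH) (Lpr_gt (f250358 IH) (Lpe (f170006 IH) (Lpr_bt (f170003 IH) (Lpr_gt (K19.f170017 IH) (Lpe (f170045 IH) (Lpn (LP (LK LD1_c10 LD2_c22 LD3_c15)))))))))))))
theorem f250369 : Led Lsl_ct (LP (LK LD1_c18 LD2_c34 LD3_c1)) = (LP (LK LD1_c10 LD2_c22 LD3_c15)) :=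
  Lgr Lrot59 (Lpr_cf (f250362 IH) (Lpn (LP (LK LD1_c10 LD2_c22 LD3_c15))))
theorem f250373 : Led Lsl_dt (LP (LK LD1_c28 LD2_c8 LD3_c13)) = (LP (LK LD1_c18 LD2_c34 LD3_c1)) :=
  Lre_d IH (LK LD1_c28 LD2_c8 LD3_c13) (LK LD1_c18 LD2_c34 LD3_c1) Lrfl Lrfl
theorem f214982 : Led Lsl_ct (LP (LK LD1_c17 LD2_c48 LD3_c0)) = (LP (LK LD1_c27 LD2_c35 LD3_c22)) :=
  Lre_c IH (LK LD1_c17 LD2_c48 LD3_c0) (LK LD1_c27 LD2_c35 LD3_c22) Lrfl Lrfl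
theorem f165393 : Led Lsl_ct (LP (LK LD1_c10 LD2_c0 LD3_c37)) = (LP (LK LD1_c5 LD2_c4 LD3_c46)) :=
  Lre_c IH (LK LD1_c10 LD2_c0 LD3_c37) (LK LD1_c5 LD2_c4 LD3_c46) Lrfl Lrfl
theorem f165392 : Led Lsl_bt (LP (LK LD1_c5 LD2_c4 LD3_c46)) = (LP (LK LD1_c2 LD2_c29 LD3_c44)) :=
  Lre_b IH (LK LD1_c5 LD2_c4 LD3_c46) (LK LD1_c2 LD2_c29 LD3_c44) Lrfl Lrfl
theorem f165396 : Led Lsl_ct (LP (LK LD1_c5 LD2_c4 LD3_c46)) = (LP (LK LD1_c10 LD2_c0 LD3_c37)) :=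
  Lre_c IH (LK LD1_c5 LD2_c4 LD3_c46) (LK LD1_c10 LD2_c0 LD3_c37) Lrfl Lrfl
theorem f330575 : Led Lsl_gf (LP (LK LD1_c10 LD2_c11 LD3_c39)) = (LP (LK LD1_c10 LD2_c0 LD3_c37)) :=
  Lgr Lrot126 (Lpr_cf (K19.f233484 IH) (Lpe (K1.f45825 IH) (Lpr_gt (K21.f45833 IH) (Lpr_ct (K21.f330564 IH) (Lpr_gt (K21.f33877 IH) (Lpe (K0.f21781 IH) (Lpr_bt (K10.f21336 IH) (Lpr_gt (K18.f21345 IH) (Lpe (f165392 IH) (Lpr_ct (f165396 IH) (Lpn (LP (LK LD1_c10 LD2_c0 LD3_c37)))))))))))))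
theorem f233635 : Led Lsl_gt (LP (LK LD1_c18 LD2_c34 LD3_c11)) = (LP (LK LD1_c28 LD2_c8 LD3_c21)) :=
  Lre_g IH (LK LD1_c18 LD2_c34 LD3_c11) (LK LD1_c28 LD2_c8 LD3_c21) Lrfl Lrfl
theorem f330642 : Led Lsl_df (LP (LK LD1_c27 LD2_c35 LD3_c22)) = (LP (LK LD1_c28 LD2_c8 LD3_c21)) :=
  Lgr Lrot84 (Lpe (f214982 IH) (Lpe (K14.f214980 IH) (Lpe (K14.f214978 IH) (Lpe (K13.f214115 IH) (Lpr_gf (K21.f330583 IH) (Lpe (f165393 IH) (Lpe (f330575 IH) (Lpr_dt (K19.f233470 IH) (Lpr_gt (f233635 IH) (Lpn (LP (LK LD1_c28 LD2_c8 LD3_c21))))))))))))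
theorem f330768 : Led Lsl_dt (LP (LK LD1_c27 LD2_c35 LD3_c22)) = (LP (LK LD1_c28 LD2_c8 LD3_c21)) :=
  Lgr Lrot42 (Lpr_df (f330642 IH) (Lpn (LP (LK LD1_c28 LD2_c8 LD3_c21))))
theorem f251641 : Led Lsl_ct (LP (LK LD1_c18 LD2_c8 LD3_c61)) = (LP (LK LD1_c9 LD2_c54 LD3_c54)) :=
  Lre_c IH (LK LD1_c18 LD2_c8 LD3_c61) (LK LD1_c9 LD2_c54 LD3_c54) Lrfl Lrfl
theorem f251642 : Led Lsl_ef (LP (LK LD1_c18 LD2_c8 LD3_c61)) = (LP (LK LD1_c27 LD2_c35 LD3_c22)) :=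
  Lgr Lrot28 (Lpr_ct (f251641 IH) (Lpr_et (K21.f251639 IH) (Lpr_ct (f214982 IH) (Lpn (LP (LK LD1_c27 LD2_c35 LD3_c22))))))
theorem f233636 : Led Lsl_gt (LP (LK LD1_c28 LD2_c8 LD3_c21)) = (LP (LK LD1_c18 LD2_c35 LD3_c15)) :=
  Lgr Lrot46 (Lpe (f233635 IH) (Lpr_ft (K19.f233471 IH) (Lpr_at (K19.f233629 IH) (Lpn (LP (LK LD1_c18 LD2_c35 LD3_c15))))))
theorem f249362 : Led Lsl_dt (LP (LK LD1_c10 LD2_c14 LD3_c51)) = (LP (LK LD1_c5 LD2_c12 LD3_c1)) :=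
  Lre_d IH (LK LD1_c10 LD2_c14 LD3_c51) (LK LD1_c5 LD2_c12 LD3_c1) Lrfl Lrfl
theorem f258067 : Led Lsl_dt (LP (LK LD1_c5 LD2_c11 LD3_c61)) = (LP (LK LD1_c10 LD2_c14 LD3_c49)) :=
  Lre_d IH (LK LD1_c5 LD2_c11 LD3_c61) (LK LD1_c10 LD2_c14 LD3_c49) Lrfl Lrfl
theorem f259063 : Led Lsl_cf (LP (LK LD1_c10 LD2_c14 LD3_c49)) = (LP (LK LD1_c9 LD2_c55 LD3_c2)) :=
  Lgr Lrot11 (Lpr_ct (K15.f259055 IH) (Lpn (LP (LK LD1_c9 LD2_c55 LD3_c2))))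
theorem f266157 : Led Lsl_gf (LP (LK LD1_c9 LD2_c55 LD3_c2)) = (LP (LK LD1_c5 LD2_c10 LD3_c54)) :=
  Lgr Lrot104 (Lpe (f259063 IH) (Lpe (f258067 IH) (Lpe (K15.f258066 IH) (Lpr_gf (K18.f258075 IH) (Lpe (K14.f230553 IH) (Lpe (K18.f258055 IH) (Lpe (f249362 IH) (Lpr_gt (K15.f266141 IH) (Lpe (K15.f230320 IH) (Lpn (LP (LK LD1_c5 LD2_c10 LD3_c54))))))))))))
theorem f330774 : Led Lsl_gf (LP (LK LD1_c18 LD2_c8 LD3_c61)) = (LP (LK LD1_c9 LD2_c55 LD3_c3)) :=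
  Lgr Lrot141 (Lpr_ef (f251642 IH) (Lpr_dt (f330768 IH) (Lpr_gt (f233636 IH) (Lpe (K19.f212354 IH) (Lpr_et (K19.f212368 IH) (Lpr_gt (K12.f171477 IH) (Lpr_dt (K15.f171468 IH) (Lpe (f266157 IH) (Lpe (K15.f251628 IH) (Lpr_et (K19.f251663 IH) (Lpn (LP (LK LD1_c9 LD2_c55 LD3_c3)))))))))))))
theorem f251651 : Led Lsl_dt (LP (LK LD1_c18 LD2_c8 LD3_c61)) = (LP (LK LD1_c27 LD2_c49 LD3_c23)) :=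
  Lre_d IH (LK LD1_c18 LD2_c8 LD3_c61) (LK LD1_c27 LD2_c49 LD3_c23) Lrfl Lrfl
theorem f335820 : Led Lsl_gf (LP (LK LD1_c28 LD2_c8 LD3_c13)) = (LP (LK LD1_c27 LD2_c49 LD3_c23)) :=
  Lgr Lrot143 (Lpr_dt (f250373 IH) (Lpr_cf (f250362 IH) (Lpe (f250371 IH) (Lpr_gf (f335818 IH) (Lpr_df (f275646 IH) (Lpe (f192242 IH) (Lpr_cf (K19.f259072 IH) (Lpe (f330774 IH) (Lpr_dt (f251651 IH) (Lpn (LP (LK LD1_c27 LD2_c49 LD3_c23))))))))))))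
theorem f335822 : Led Lsl_cf (LP (LK LD1_c9 LD2_c55 LD3_c3)) = (LP (LK LD1_c10 LD2_c27 LD3_c50)) :=
  Lgr Lrot166 (Lpe (f330774 IH) (Lpr_dt (f251651 IH) (Lpe (f335820 IH) (Lpr_dt (f250373 IH) (Lpr_ct (f250369 IH) (Lpe (f250371 IH) (Lpr_gf (f335818 IH) (Lpr_df (f275646 IH) (Lpe (f192242 IH) (Lpn (LP (LK LD1_c10 LD2_c27 LD3_c50))))))))))))
theorem f318122 : Led Lsl_at (LP (LK LD1_c10 LD2_c14 LD3_c42)) = (LP (LK LD1_c10 LD2_c27 LD3_c50)) :=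
  Lgr Lrot51 (Lpr_df (K20.f240273 IH) (Lpr_af (K20.f318120 IH) (Lpr_df (K15.f192233 IH) (Lpn (LP (LK LD1_c10 LD2_c27 LD3_c50))))))
theorem f240488 : Led Lsl_et (LP (LK LD1_c5 LD2_c10 LD3_c8)) = (LP (LK LD1_c10 LD2_c10 LD3_c61)) :=
  Lre_e IH (LK LD1_c5 LD2_c10 LD3_c8) (LK LD1_c10 LD2_c10 LD3_c61) Lrfl Lrfl
theorem f240489 : Led Lsl_cf (LP (LK LD1_c10 LD2_c14 LD3_c42)) = (LP (LK LD1_c10 LD2_c10 LD3_c61)) :=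
  Lgr Lrot39 (Lpr_et (K20.f240258 IH) (Lpr_ct (K13.f240254 IH) (Lpr_et (f240488 IH) (Lpn (LP (LK LD1_c10 LD2_c10 LD3_c61))))))
theorem f335824 : Led Lsl_at (LP (LK LD1_c9 LD2_c55 LD3_c3)) = (LP (LK LD1_c10 LD2_c10 LD3_c61)) :=
  Lgr Lrot107 (Lpr_cf (f335822 IH) (Lpe (f318122 IH) (Lpr_cf (f240489 IH) (Lpn (LP (LK LD1_c10 LD2_c10 LD3_c61))))))
theorem f240506 : Led Lsl_ft (LP (LK LD1_c10 LD2_c10 LD3_c61)) = (LP (LK LD1_c18 LD2_c33 LD3_c0)) :=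
  Lre_f IH (LK LD1_c10 LD2_c10 LD3_c61) (LK LD1_c18 LD2_c33 LD3_c0) Lrfl Lrfl
theorem f335833 : Led Lsl_af (LP (LK LD1_c18 LD2_c9 LD3_c16)) = (LP (LK LD1_c18 LD2_c33 LD3_c0)) :=
  Lgr Lrot45 (Lpr_ft (K19.f312389 IH) (Lpr_at (f335824 IH) (Lpr_ft (f240506 IH) (Lpn (LP (LK LD1_c18 LD2_c33 LD3_c0))))))
theorem f335839 : Led Lsl_gf (LP (LK LD1_c18 LD2_c32 LD3_c9)) = (LP (LK LD1_c10 LD2_c10 LD3_c61)) :=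
  Lgr Lrot47 (Lpr_gt (K19.f312394 IH) (Lpr_af (f335833 IH) (Lpe (f240506 IH) (Lpn (LP (LK LD1_c10 LD2_c10 LD3_c61))))))
theorem f314185 : Led Lsl_bt (LP (LK LD1_c9 LD2_c53 LD3_c12)) = (LP (LK LD1_c5 LD2_c2 LD3_c24)) :=
  Lgr Lrot35 (Lpr_ff (K19.f314177 IH) (Lpe (K10.f169620 IH) (Lpe (f177561 IH) (Lpn (LP (LK LD1_c5 LD2_c2 LD3_c24))))))
theorem f314163 : Led Lsl_ct (LP (LK LD1_c9 LD2_c53 LD3_c12)) = (LP (LK LD1_c18 LD2_c5 LD3_c36)) :=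
  Lre_c IH (LK LD1_c9 LD2_c53 LD3_c12) (LK LD1_c18 LD2_c5 LD3_c36) Lrfl Lrfl
theorem f314187 : Led Lsl_ft (LP (LK LD1_c18 LD2_c5 LD3_c36)) = (LP (LK LD1_c9 LD2_c55 LD3_c24)) :=
  Lgr Lrot4 (Lpe (f314163 IH) (Lpr_ff (K19.f314177 IH) (Lpe (K19.f177591 IH) (Lpn (LP (LK LD1_c9 LD2_c55 LD3_c24))))))
theorem f314250 : Led Lsl_gt (LP (LK LD1_c18 LD2_c5 LD3_c36)) = (LP (LK LD1_c18 LD2_c26 LD3_c35)) :=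
  Lgr Lrot5 (Lpr_ft (f314187 IH) (Lpr_at (K19.f314242 IH) (Lpe (K20.f33177 IH) (Lpn (LP (LK LD1_c18 LD2_c26 LD3_c35))))))
theorem f240494 : Led Lsl_ct (LP (LK LD1_c10 LD2_c14 LD3_c42)) = (LP (LK LD1_c10 LD2_c10 LD3_c61)) :=
  Lgr Lrot59 (Lpr_cf (f240489 IH) (Lpn (LP (LK LD1_c10 LD2_c10 LD3_c61))))
theorem f240277 : Led Lsl_gt (LP (LK LD1_c18 LD2_c38 LD3_c38)) = (LP (LK LD1_c10 LD2_c14 LD3_c42)) :=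
  Lre_g IH (LK LD1_c18 LD2_c38 LD3_c38) (LK LD1_c10 LD2_c14 LD3_c42) Lrfl Lrfl
theorem f335843 : Led Lsl_bt (LP (LK LD1_c10 LD2_c16 LD3_c1)) = (LP (LK LD1_c18 LD2_c38 LD3_c38)) :=
  Lgr Lrot130 (Lpr_ct (K20.f320883 IH) (Lpe (f314250 IH) (Lpe (f314163 IH) (Lpr_bt (f314185 IH) (Lpr_gf (f335004 IH) (Lpe (K19.f298640 IH) (Lpr_ct (K19.f298641 IH) (Lpr_gf (f335839 IH) (Lpe (f240494 IH) (Lpe (f240277 IH) (Lpn (LP (LK LD1_c18 LD2_c38 LD3_c38)))))))))))))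
theorem f33182 : Led Lsl_ct (LP (LK LD1_c5 LD2_c8 LD3_c33)) = (LP (LK LD1_c10 LD2_c7 LD3_c29)) :=
  Lre_c IH (LK LD1_c5 LD2_c8 LD3_c33) (LK LD1_c10 LD2_c7 LD3_c29) Lrfl Lrfl
theorem f312383 : Led Lsl_bf (LP (LK LD1_c18 LD2_c45 LD3_c61)) = (LP (LK LD1_c15 LD2_c12 LD3_c49)) :=
  Lgr Lrot61 (Lpr_ft (K19.f312381 IH) (Lpe (K15.f192245 IH) (Lpe (K21.f312281 IH) (Lpn (LP (LK LD1_c15 LD2_c12 LD3_c49))))))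
theorem f335849 : Led Lsl_gt (LP (LK LD1_c18 LD2_c45 LD3_c61)) = (LP (LK LD1_c18 LD2_c38 LD3_c38)) :=
  Lgr Lrot164 (Lpr_bf (f312383 IH) (Lpr_ct (K21.f326770 IH) (Lpe (K21.f326776 IH) (Lpe (K21.f263282 IH) (Lpe (K16.f263281 IH) (Lpr_bf (K20.f263270 IH) (Lpr_ct (f33182 IH) (Lpe (K20.f33177 IH) (Lpe (K20.f320883 IH) (Lpr_bt (f335843 IH) (Lpn (LP (LK LD1_c18 LD2_c38 LD3_c38)))))))))))))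
theorem f335855 : Led Lsl_at (LP (LK LD1_c10 LD2_c27 LD3_c50)) = (LP (LK LD1_c10 LD2_c14 LD3_c42)) :=
  Lgr Lrot26 (Lpe (K19.f312381 IH) (Lpr_gt (f335849 IH) (Lpr_gt (f240277 IH) (Lpn (LP (LK LD1_c10 LD2_c14 LD3_c42))))))
theorem f240276 : Led Lsl_ft (LP (LK LD1_c10 LD2_c14 LD3_c42)) = (LP (LK LD1_c18 LD2_c38 LD3_c39)) :=
  Lre_f IH (LK LD1_c10 LD2_c14 LD3_c42) (LK LD1_c18 LD2_c38 LD3_c39) Lrfl Lrfl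
theorem f335861 : Led Lsl_af (LP (LK LD1_c18 LD2_c45 LD3_c61)) = (LP (LK LD1_c18 LD2_c38 LD3_c39)) :=
  Lgr Lrot45 (Lpr_ft (K19.f312381 IH) (Lpr_at (f335855 IH) (Lpr_ft (f240276 IH) (Lpn (LP (LK LD1_c18 LD2_c38 LD3_c39))))))
theorem f335863 : Led Lsl_et (LP (LK LD1_c10 LD2_c16 LD3_c45)) = (LP (LK LD1_c18 LD2_c38 LD3_c39)) :=
  Lgr Lrot123 (Lpr_af (f330471 IH) (Lpe (K19.f306500 IH) (Lpr_af (f335861 IH) (Lpn (LP (LK LD1_c18 LD2_c38 LD3_c39))))))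
theorem f240473 : Led Lsl_bt (LP (LK LD1_c10 LD2_c16 LD3_c45)) = (LP (LK LD1_c5 LD2_c13 LD3_c12)) :=
  Lre_b IH (LK LD1_c10 LD2_c16 LD3_c45) (LK LD1_c5 LD2_c13 LD3_c12) Lrfl Lrfl
theorem f291698 : Led Lsl_bt (LP (LK LD1_c2 LD2_c38 LD3_c46)) = (LP (LK LD1_c5 LD2_c24 LD3_c5)) :=
  Lre_b IH (LK LD1_c2 LD2_c38 LD3_c46) (LK LD1_c5 LD2_c24 LD3_c5) Lrfl Lrfl
theorem f330452 : Led Lsl_ff (LP (LK LD1_c10 LD2_c16 LD3_c45)) = (LP (LK LD1_c5 LD2_c24 LD3_c5)) :=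
  Lgr Lrot25 (Lpr_bt (f240473 IH) (Lpr_ft (K21.f330448 IH) (Lpr_bt (f291698 IH) (Lpn (LP (LK LD1_c5 LD2_c24 LD3_c5))))))
theorem f240275 : Led Lsl_ft (LP (LK LD1_c18 LD2_c38 LD3_c39)) = (LP (LK LD1_c10 LD2_c14 LD3_c42)) :=
  Lre_f IH (LK LD1_c18 LD2_c38 LD3_c39) (LK LD1_c10 LD2_c14 LD3_c42) Lrfl Lrfl
theorem f335871 : Led Lsl_ff (LP (LK LD1_c5 LD2_c6 LD3_c3)) = (LP (LK LD1_c5 LD2_c11 LD3_c58)) :=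
  Lgr Lrot72 (Lpe (K18.f251030 IH) (Lpe (f330452 IH) (Lpr_et (f335863 IH) (Lpr_ft (f240275 IH) (Lpr_et (K20.f240258 IH) (Lpn (LP (LK LD1_c5 LD2_c11 LD3_c58))))))))
theorem f335881 : Led Lsl_at (LP (LK LD1_c5 LD2_c6 LD3_c3)) = (LP (LK LD1_c5 LD2_c17 LD3_c38)) :=
  Lgr Lrot26 (Lpr_ff (f335871 IH) (Lpe (K15.f257598 IH) (Lpr_gt (K15.f184830 IH) (Lpn (LP (LK LD1_c5 LD2_c17 LD3_c38))))))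
theorem f265987 : Led Lsl_cf (LP (LK LD1_c5 LD2_c1 LD3_c8)) = (LP (LK LD1_c5 LD2_c15 LD3_c11)) :=
  Lgr Lrot11 (Lpr_ct (K21.f265985 IH) (Lpn (LP (LK LD1_c5 LD2_c15 LD3_c11))))
theorem f240163 : Led Lsl_bt (LP (LK LD1_c1 LD2_c11 LD3_c22)) = (LP (LK LD1_c2 LD2_c28 LD3_c13)) :=
  Lre_b IH (LK LD1_c1 LD2_c11 LD3_c22) (LK LD1_c2 LD2_c28 LD3_c13) Lrfl Lrfl
theorem f265993 : Led Lsl_bf (LP (LK LD1_c5 LD2_c17 LD3_c38)) = (LP (LK LD1_c5 LD2_c15 LD3_c11)) :=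
  Lgr Lrot34 (Lpe (K15.f184830 IH) (Lpe (K15.f257425 IH) (Lpr_ct (K15.f32414 IH) (Lpr_gf (K16.f259680 IH) (Lpr_cf (K16.f259668 IH) (Lpe (K15.f170518 IH) (Lpe (f240163 IH) (Lpr_ct (K15.f194116 IH) (Lpe (K15.f184760 IH) (Lpr_cf (f265987 IH) (Lpn (LP (LK LD1_c5 LD2_c15 LD3_c11)))))))))))))
theorem f330301 : Led Lsl_ft (LP (LK LD1_c5 LD2_c17 LD3_c38)) = (LP (LK LD1_c5 LD2_c18 LD3_c60)) :=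
  Lgr Lrot75 (Lpr_bf (f265993 IH) (Lpr_ff (K21.f330299 IH) (Lpr_bf (K15.f192226 IH) (Lpn (LP (LK LD1_c5 LD2_c18 LD3_c60))))))
theorem f335891 : Led Lsl_af (LP (LK LD1_c5 LD2_c11 LD3_c58)) = (LP (LK LD1_c5 LD2_c18 LD3_c60)) :=
  Lgr Lrot45 (Lpe (f335871 IH) (Lpr_at (f335881 IH) (Lpr_ft (f330301 IH) (Lpn (LP (LK LD1_c5 LD2_c18 LD3_c60))))))
theorem f327352 : Led Lsl_at (LP (LK LD1_c5 LD2_c6 LD3_c5)) = (LP (LK LD1_c4 LD2_c3 LD3_c6)) :=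
  Lgr Lrot80 (Lpe (K19.f251469 IH) (Lpr_af (K21.f327346 IH) (Lpe (K21.f192255 IH) (Lpn (LP (LK LD1_c4 LD2_c3 LD3_c6))))))
theorem f251462 : Led Lsl_bt (LP (LK LD1_c2 LD2_c30 LD3_c21)) = (LP (LK LD1_c5 LD2_c6 LD3_c5)) :=
  Lre_b IH (LK LD1_c2 LD2_c30 LD3_c21) (LK LD1_c5 LD2_c6 LD3_c5) Lrfl Lrfl
theorem f335893 : Led Lsl_at (LP (LK LD1_c2 LD2_c32 LD3_c51)) = (LP (LK LD1_c2 LD2_c30 LD3_c21)) :=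
  Lgr Lrot67 (Lpe (K16.f240261 IH) (Lpr_af (f335891 IH) (Lpe (K15.f192249 IH) (Lpe (f327352 IH) (Lpe (f251462 IH) (Lpn (LP (LK LD1_c2 LD2_c30 LD3_c21))))))))
theorem f335899 : Led Lsl_af (LP (LK LD1_c2 LD2_c5 LD3_c45)) = (LP (LK LD1_c1 LD2_c25 LD3_c3)) :=
  Lgr Lrot117 (Lpr_dt (K16.f256284 IH) (Lpr_at (f335893 IH) (Lpr_dt (K15.f256270 IH) (Lpn (LP (LK LD1_c1 LD2_c25 LD3_c3))))))
theorem f335909 : Led Lsl_ft (LP (LK LD1_c2 LD2_c5 LD3_c46)) = (LP (LK LD1_c1 LD2_c25 LD3_c3)) :=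
  Lgr Lrot2 (Lpr_gt (K14.f169404 IH) (Lpr_gt (K14.f169407 IH) (Lpr_af (f335899 IH) (Lpn (LP (LK LD1_c1 LD2_c25 LD3_c3))))))
theorem f335917 : Led Lsl_ff (LP (LK LD1_c2 LD2_c5 LD3_c46)) = (LP (LK LD1_c1 LD2_c25 LD3_c3)) :=
  Lgr Lrot3 (Lpr_ft (f335909 IH) (Lpn (LP (LK LD1_c1 LD2_c25 LD3_c3))))
theorem f335923 : Led Lsl_at (LP (LK LD1_c2 LD2_c5 LD3_c46)) = (LP (LK LD1_c2 LD2_c38 LD3_c43)) :=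
  Lgr Lrot26 (Lpr_ff (f335917 IH) (Lpe (K14.f256262 IH) (Lpe (K15.f255875 IH) (Lpn (LP (LK LD1_c2 LD2_c38 LD3_c43))))))
theorem f335901 : Led Lsl_at (LP (LK LD1_c2 LD2_c5 LD3_c45)) = (LP (LK LD1_c1 LD2_c25 LD3_c3)) :=
  Lgr Lrot100 (Lpr_af (f335899 IH) (Lpn (LP (LK LD1_c1 LD2_c25 LD3_c3))))
theorem f335931 : Led Lsl_ff (LP (LK LD1_c2 LD2_c5 LD3_c45)) = (LP (LK LD1_c2 LD2_c38 LD3_c43)) :=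
  Lgr Lrot30 (Lpr_at (f335901 IH) (Lpe (f335917 IH) (Lpr_at (f335923 IH) (Lpn (LP (LK LD1_c2 LD2_c38 LD3_c43))))))
theorem f335939 : Led Lsl_ft (LP (LK LD1_c2 LD2_c5 LD3_c45)) = (LP (LK LD1_c2 LD2_c38 LD3_c43)) :=
  Lgr Lrot48 (Lpr_ff (f335931 IH) (Lpn (LP (LK LD1_c2 LD2_c38 LD3_c43))))
theorem f30996 : Led Lsl_bt (LP (LK LD1_c1 LD2_c58 LD3_c31)) = (LP (LK LD1_c0 LD2_c56 LD3_c7)) :=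
  Lre_b IH (LK LD1_c1 LD2_c58 LD3_c31) (LK LD1_c0 LD2_c56 LD3_c7) Lrfl Lrfl
theorem f192193 : Led Lsl_cf (LP (LK LD1_c1 LD2_c58 LD3_c31)) = (LP (LK LD1_c1 LD2_c24 LD3_c55)) :=
  Lgr Lrot97 (Lpr_bt (f30996 IH) (Lpr_ct (K10.f192191 IH) (Lpr_bt (K10.f183823 IH) (Lpr_ct (K10.f183864 IH) (Lpe (K9.f183860 IH) (Lpn (LP (LK LD1_c1 LD2_c24 LD3_c55))))))))
theorem f318144 : Led Lsl_ft (LP (LK LD1_c0 LD2_c39 LD3_c9)) = (LP (LK LD1_c1 LD2_c24 LD3_c55)) :=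
  Lgr Lrot4 (Lpe (K9.f42474 IH) (Lpr_ff (K20.f318140 IH) (Lpr_cf (f192193 IH) (Lpn (LP (LK LD1_c1 LD2_c24 LD3_c55))))))
theorem f335943 : Led Lsl_ff (LP (LK LD1_c1 LD2_c24 LD3_c61)) = (LP (LK LD1_c1 LD2_c16 LD3_c14)) :=
  Lgr Lrot72 (Lpr_et (K10.f41809 IH) (Lpr_ft (f318144 IH) (Lpr_et (K15.f264899 IH) (Lpr_ft (f335939 IH) (Lpr_et (K15.f223856 IH) (Lpn (LP (LK LD1_c1 LD2_c16 LD3_c14))))))))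
theorem f335947 : Led Lsl_at (LP (LK LD1_c1 LD2_c24 LD3_c61)) = (LP (LK LD1_c1 LD2_c16 LD3_c18)) :=
  Lgr Lrot26 (Lpr_ff (f335943 IH) (Lpr_gt (K15.f223850 IH) (Lpr_gt (K15.f258253 IH) (Lpn (LP (LK LD1_c1 LD2_c16 LD3_c18))))))
theorem f335951 : Led Lsl_af (LP (LK LD1_c1 LD2_c15 LD3_c32)) = (LP (LK LD1_c0 LD2_c35 LD3_c19)) :=
  Lgr Lrot117 (Lpr_dt (K10.f42166 IH) (Lpr_at (f335947 IH) (Lpr_dt (K1.f41431 IH) (Lpn (LP (LK LD1_c0 LD2_c35 LD3_c19))))))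
theorem f335965 : Led Lsl_at (LP (LK LD1_c2 LD2_c37 LD3_c4)) = (LP (LK LD1_c1 LD2_c16 LD3_c19)) :=
  Lgr Lrot80 (Lpe (K20.f42168 IH) (Lpr_af (f335951 IH) (Lpe (K21.f41477 IH) (Lpn (LP (LK LD1_c1 LD2_c16 LD3_c19))))))
theorem f42569 : Led Lsl_gt (LP (LK LD1_c2 LD2_c38 LD3_c56)) = (LP (LK LD1_c1 LD2_c16 LD3_c19)) :=
  Lre_g IH (LK LD1_c2 LD2_c38 LD3_c56) (LK LD1_c1 LD2_c16 LD3_c19) Lrfl Lrfl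
theorem f335969 : Led Lsl_gt (LP (LK LD1_c5 LD2_c20 LD3_c54)) = (LP (LK LD1_c2 LD2_c38 LD3_c56)) :=
  Lgr Lrot5 (Lpr_ft (K20.f42190 IH) (Lpr_at (f335965 IH) (Lpe (f42569 IH) (Lpn (LP (LK LD1_c2 LD2_c38 LD3_c56))))))
theorem f335976 : Led Lsl_et (LP (LK LD1_c5 LD2_c21 LD3_c51)) = (LP (LK LD1_c2 LD2_c38 LD3_c56)) :=
  Lgr Lrot122 (Lpr_dt (K21.f254403 IH) (Lpr_gt (K21.f325634 IH) (Lpe (K20.f297810 IH) (Lpe (K21.f325638 IH) (Lpr_gt (K21.f256306 IH) (Lpr_dt (K15.f183939 IH) (Lpr_gt (K21.f183903 IH) (Lpr_df (K21.f330454 IH) (Lpe (K20.f318326 IH) (Lpr_gt (f335969 IH) (Lpn (LP (LK LD1_c2 LD2_c38 LD3_c56)))))))))))))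
theorem f335984 : Led Lsl_gf (LP (LK LD1_c10 LD2_c33 LD3_c61)) = (LP (LK LD1_c15 LD2_c43 LD3_c60)) :=
  Lgr Lrot134 (Lpe (K21.f254403 IH) (Lpr_et (f335976 IH) (Lpr_gt (f42569 IH) (Lpe (K20.f42561 IH) (Lpr_dt (K10.f41480 IH) (Lpe (K16.f246374 IH) (Lpe (K12.f187026 IH) (Lpr_et (K21.f289016 IH) (Lpr_gt (K18.f288874 IH) (Lpr_dt (K21.f288875 IH) (Lpn (LP (LK LD1_c15 LD2_c43 LD3_c60)))))))))))))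
theorem f321159 : Led Lsl_ct (LP (LK LD1_c15 LD2_c44 LD3_c33)) = (LP (LK LD1_c17 LD2_c43 LD3_c20)) :=
  Lgr Lrot59 (Lpr_cf (K20.f321156 IH) (Lpn (LP (LK LD1_c17 LD2_c43 LD3_c20))))
theorem f299461 : Led Lsl_gt (LP (LK LD1_c8 LD2_c21 LD3_c58)) = (LP (LK LD1_c4 LD2_c11 LD3_c11)) :=
  Lre_g IH (LK LD1_c8 LD2_c21 LD3_c58) (LK LD1_c4 LD2_c11 LD3_c11) Lrfl Lrfl
theorem f316353 : Led Lsl_et (LP (LK LD1_c5 LD2_c19 LD3_c24)) = (LP (LK LD1_c5 LD2_c18 LD3_c34)) :=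
  Lgr Lrot87 (Lpr_ef (K20.f316347 IH) (Lpn (LP (LK LD1_c5 LD2_c18 LD3_c34))))
theorem f316358 : Led Lsl_df (LP (LK LD1_c10 LD2_c40 LD3_c9)) = (LP (LK LD1_c8 LD2_c21 LD3_c58)) :=
  Lgr Lrot70 (Lpr_et (K20.f258271 IH) (Lpr_dt (K20.f258242 IH) (Lpr_et (f316353 IH) (Lpe (K20.f316314 IH) (Lpr_et (K20.f316317 IH) (Lpn (LP (LK LD1_c8 LD2_c21 LD3_c58))))))))
theorem f258273 : Led Lsl_ct (LP (LK LD1_c5 LD2_c24 LD3_c45)) = (LP (LK LD1_c10 LD2_c40 LD3_c8)) :=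
  Lre_c IH (LK LD1_c5 LD2_c24 LD3_c45) (LK LD1_c10 LD2_c40 LD3_c8) Lrfl Lrfl
theorem f322674 : Led Lsl_gt (LP (LK LD1_c10 LD2_c40 LD3_c8)) = (LP (LK LD1_c19 LD2_c5 LD3_c31)) :=
  Lgr Lrot150 (Lpe (f258273 IH) (Lpe (K20.f258266 IH) (Lpr_df (f316358 IH) (Lpr_gt (f299461 IH) (Lpr_ct (f289029 IH) (Lpr_gt (f289030 IH) (Lpr_ct (f321159 IH) (Lpr_df (K20.f322666 IH) (Lpr_cf (K21.f310411 IH) (Lpn (LP (LK LD1_c19 LD2_c5 LD3_c31))))))))))))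
theorem f258261 : Led Lsl_ct (LP (LK LD1_c10 LD2_c40 LD3_c8)) = (LP (LK LD1_c5 LD2_c24 LD3_c45)) :=
  Lre_c IH (LK LD1_c10 LD2_c40 LD3_c8) (LK LD1_c5 LD2_c24 LD3_c45) Lrfl Lrfl
theorem f256532 : Led Lsl_dt (LP (LK LD1_c10 LD2_c38 LD3_c22)) = (LP (LK LD1_c5 LD2_c23 LD3_c52)) :=
  Lre_d IH (LK LD1_c10 LD2_c38 LD3_c22) (LK LD1_c5 LD2_c23 LD3_c52) Lrfl Lrfl
theorem f44711 : Led Lsl_et (LP (LK LD1_c5 LD2_c21 LD3_c10)) = (LP (LK LD1_c10 LD2_c32 LD3_c31)) :=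
  Lre_e IH (LK LD1_c5 LD2_c21 LD3_c10) (LK LD1_c10 LD2_c32 LD3_c31) Lrfl Lrfl
theorem f289020 : Led Lsl_df (LP (LK LD1_c8 LD2_c21 LD3_c59)) = (LP (LK LD1_c10 LD2_c32 LD3_c31)) :=
  Lgr Lrot70 (Lpr_et (K21.f288890 IH) (Lpr_dt (K18.f288884 IH) (Lpr_et (K21.f289014 IH) (Lpr_dt (K21.f41464 IH) (Lpr_et (f44711 IH) (Lpn (LP (LK LD1_c10 LD2_c32 LD3_c31))))))))
theorem f322676 : Led Lsl_gt (LP (LK LD1_c5 LD2_c24 LD3_c45)) = (LP (LK LD1_c10 LD2_c32 LD3_c31)) :=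
  Lgr Lrot94 (Lpe (f258261 IH) (Lpr_gt (f322674 IH) (Lpr_dt (K21.f307853 IH) (Lpe (K21.f307849 IH) (Lpr_dt (f256532 IH) (Lpe (K16.f256504 IH) (Lpe (K17.f288694 IH) (Lpe (K18.f288801 IH) (Lpr_df (f289020 IH) (Lpn (LP (LK LD1_c10 LD2_c32 LD3_c31))))))))))))
theorem f258263 : Led Lsl_df (LP (LK LD1_c5 LD2_c24 LD3_c45)) = (LP (LK LD1_c8 LD2_c32 LD3_c55)) :=
  Lgr Lrot38 (Lpr_dt (K20.f258258 IH) (Lpn (LP (LK LD1_c8 LD2_c32 LD3_c55))))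
theorem f335990 : Led Lsl_gt (LP (LK LD1_c6 LD2_c4 LD3_c61)) = (LP (LK LD1_c11 LD2_c52 LD3_c23)) :=
  Lgr Lrot112 (Lpe (K21.f315959 IH) (Lpe (K21.f325631 IH) (Lpr_gf (f335984 IH) (Lpe (K21.f288890 IH) (Lpr_dt (K21.f289012 IH) (Lpe (f322676 IH) (Lpr_df (f258263 IH) (Lpr_gf (f300882 IH) (Lpr_ef (K19.f309058 IH) (Lpe (K21.f309056 IH) (Lpn (LP (LK LD1_c11 LD2_c52 LD3_c23)))))))))))))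
theorem f322697 : Led Lsl_et (LP (LK LD1_c4 LD2_c28 LD3_c18)) = (LP (LK LD1_c8 LD2_c54 LD3_c46)) :=
  Lre_e IH (LK LD1_c4 LD2_c28 LD3_c18) (LK LD1_c8 LD2_c54 LD3_c46) Lrfl Lrfl
theorem f258265 : Led Lsl_et (LP (LK LD1_c2 LD2_c38 LD3_c55)) = (LP (LK LD1_c5 LD2_c24 LD3_c45)) :=
  Lre_e IH (LK LD1_c2 LD2_c38 LD3_c55) (LK LD1_c5 LD2_c24 LD3_c45) Lrfl Lrfl
theorem f322691 : Led Lsl_dt (LP (LK LD1_c2 LD2_c38 LD3_c55)) = (LP (LK LD1_c4 LD2_c28 LD3_c18)) :=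
  Lgr Lrot37 (Lpr_et (f258265 IH) (Lpr_gt (f322676 IH) (Lpe (f289020 IH) (Lpr_gt (K18.f288801 IH) (Lpr_df (K20.f288702 IH) (Lpe (K16.f256507 IH) (Lpr_gt (K14.f165488 IH) (Lpe (K15.f223558 IH) (Lpr_dt (K15.f42321 IH) (Lpr_gt (f42351 IH) (Lpn (LP (LK LD1_c4 LD2_c28 LD3_c18)))))))))))))
theorem f335682 : Led Lsl_ef (LP (LK LD1_c8 LD2_c32 LD3_c55)) = (LP (LK LD1_c5 LD2_c30 LD3_c54)) :=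
  Lgr Lrot73 (Lpe (f258263 IH) (Lpr_et (K20.f258257 IH) (Lpr_dt (f322691 IH) (Lpr_et (f322697 IH) (Lpr_dt (f335676 IH) (Lpn (LP (LK LD1_c5 LD2_c30 LD3_c54))))))))
theorem f335680 : Led Lsl_df (LP (LK LD1_c8 LD2_c54 LD3_c46)) = (LP (LK LD1_c5 LD2_c30 LD3_c54)) :=
  Lgr Lrot38 (Lpr_dt (f335676 IH) (Lpn (LP (LK LD1_c5 LD2_c30 LD3_c54))))
theorem f322695 : Led Lsl_df (LP (LK LD1_c2 LD2_c38 LD3_c55)) = (LP (LK LD1_c4 LD2_c28 LD3_c18)) :=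
  Lgr Lrot38 (Lpr_dt (f322691 IH) (Lpn (LP (LK LD1_c4 LD2_c28 LD3_c18))))
theorem f322702 : Led Lsl_gf (LP (LK LD1_c11 LD2_c54 LD3_c28)) = (LP (LK LD1_c8 LD2_c54 LD3_c46)) :=
  Lgr Lrot141 (Lpe (K20.f316023 IH) (Lpe (f316021 IH) (Lpr_gt (f316060 IH) (Lpe (f42546 IH) (Lpr_et (f42550 IH) (Lpr_gt (f42635 IH) (Lpr_dt (K21.f42552 IH) (Lpr_gt (K20.f42568 IH) (Lpr_df (f322695 IH) (Lpr_et (f322697 IH) (Lpn (LP (LK LD1_c8 LD2_c54 LD3_c46)))))))))))))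
theorem f335994 : Led Lsl_gf (LP (LK LD1_c11 LD2_c53 LD3_c23)) = (LP (LK LD1_c10 LD2_c47 LD3_c56)) :=
  Lgr Lrot138 (Lpr_dt (K21.f315959 IH) (Lpr_gt (f335990 IH) (Lpr_df (K21.f309056 IH) (Lpe (K19.f309058 IH) (Lpe (f300882 IH) (Lpr_ef (f335682 IH) (Lpe (f335680 IH) (Lpe (f322702 IH) (Lpe (K20.f316041 IH) (Lpr_et (K20.f310317 IH) (Lpn (LP (LK LD1_c10 LD2_c47 LD3_c56)))))))))))))
theorem f223407 : Led Lsl_gt (LP (LK LD1_c4 LD2_c28 LD3_c19)) = (LP (LK LD1_c2 LD2_c11 LD3_c17)) :=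
  Lre_g IH (LK LD1_c4 LD2_c28 LD3_c19) (LK LD1_c2 LD2_c11 LD3_c17) Lrfl Lrfl
theorem f335998 : Led Lsl_et (LP (LK LD1_c6 LD2_c4 LD3_c61)) = (LP (LK LD1_c4 LD2_c28 LD3_c19)) :=
  Lgr Lrot185 (Lpr_dt (K21.f274555 IH) (Lpr_gf (f335994 IH) (Lpe (f7869 IH) (Lpe (K20.f7832 IH) (Lpe (K12.f7817 IH) (Lpe (K12.f7719 IH) (Lpe (K14.f7845 IH) (Lpe (K16.f253443 IH) (Lpr_et (K15.f223554 IH) (Lpe (f223407 IH) (Lpn (LP (LK LD1_c4 LD2_c28 LD3_c19)))))))))))))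
theorem f335982 : Led Lsl_ef (LP (LK LD1_c5 LD2_c21 LD3_c51)) = (LP (LK LD1_c2 LD2_c38 LD3_c56)) :=
  Lgr Lrot88 (Lpr_et (f335976 IH) (Lpn (LP (LK LD1_c2 LD2_c38 LD3_c56))))
theorem f336003 : Led Lsl_df (LP (LK LD1_c2 LD2_c38 LD3_c56)) = (LP (LK LD1_c4 LD2_c28 LD3_c19)) :=
  Lgr Lrot70 (Lpe (f335982 IH) (Lpr_dt (K21.f254403 IH) (Lpr_et (K21.f325629 IH) (Lpr_dt (K21.f315959 IH) (Lpr_et (f335998 IH) (Lpn (LP (LK LD1_c4 LD2_c28 LD3_c19))))))))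
theorem f335974 : Led Lsl_df (LP (LK LD1_c4 LD2_c28 LD3_c19)) = (LP (LK LD1_c2 LD2_c38 LD3_c56)) :=
  Lgr Lrot135 (Lpr_gt (f223407 IH) (Lpe (K15.f42321 IH) (Lpr_et (K15.f223558 IH) (Lpr_gt (K9.f183913 IH) (Lpe (K15.f183938 IH) (Lpr_dt (K15.f183939 IH) (Lpr_gt (K21.f183903 IH) (Lpr_df (K21.f330454 IH) (Lpe (K20.f318326 IH) (Lpr_gt (f335969 IH) (Lpn (LP (LK LD1_c2 LD2_c38 LD3_c56)))))))))))))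
theorem f335980 : Led Lsl_ef (LP (LK LD1_c6 LD2_c4 LD3_c61)) = (LP (LK LD1_c4 LD2_c28 LD3_c19)) :=
  Lgr Lrot73 (Lpr_dt (K21.f274555 IH) (Lpe (K21.f325631 IH) (Lpr_dt (K21.f254401 IH) (Lpr_et (f335976 IH) (Lpe (f335974 IH) (Lpn (LP (LK LD1_c4 LD2_c28 LD3_c19))))))))
theorem f42284 : Led Lsl_ft (LP (LK LD1_c2 LD2_c58 LD3_c44)) = (LP (LK LD1_c6 LD2_c5 LD3_c8)) :=
  Lre_f IH (LK LD1_c2 LD2_c58 LD3_c44) (LK LD1_c6 LD2_c5 LD3_c8) Lrfl Lrfl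
theorem f283347 : Led Lsl_ef (LP (LK LD1_c11 LD2_c52 LD3_c23)) = (LP (LK LD1_c6 LD2_c5 LD3_c8)) :=
  Lgr Lrot21 (Lpr_ft (K21.f283346 IH) (Lpr_et (K21.f41778 IH) (Lpr_ft (K17.f283340 IH) (Lpr_et (K15.f42148 IH) (Lpr_ft (f42284 IH) (Lpn (LP (LK LD1_c6 LD2_c5 LD3_c8))))))))
theorem f309068 : Led Lsl_dt (LP (LK LD1_c11 LD2_c52 LD3_c23)) = (LP (LK LD1_c8 LD2_c33 LD3_c0)) :=
  Lgr Lrot77 (Lpr_ef (f283347 IH) (Lpe (K15.f42281 IH) (Lpe (K18.f303243 IH) (Lpe (K18.f300884 IH) (Lpr_ef (K19.f309058 IH) (Lpn (LP (LK LD1_c8 LD2_c33 LD3_c0))))))))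
theorem f336011 : Led Lsl_gf (LP (LK LD1_c11 LD2_c52 LD3_c19)) = (LP (LK LD1_c6 LD2_c4 LD3_c53)) :=
  Lgr Lrot141 (Lpr_ef (f335374 IH) (Lpe (K20.f42192 IH) (Lpr_gt (f335969 IH) (Lpr_df (f336003 IH) (Lpe (f335980 IH) (Lpr_gt (f335990 IH) (Lpr_dt (f309068 IH) (Lpe (K20.f315956 IH) (Lpr_df (K20.f7770 IH) (Lpr_et (K20.f315961 IH) (Lpn (LP (LK LD1_c6 LD2_c4 LD3_c53)))))))))))))
theorem f261310 : Led Lsl_ct (LP (LK LD1_c11 LD2_c52 LD3_c17)) = (LP (LK LD1_c6 LD2_c4 LD3_c25)) :=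
  Lre_c IH (LK LD1_c11 LD2_c52 LD3_c17) (LK LD1_c6 LD2_c4 LD3_c25) Lrfl Lrfl
theorem f335418 : Led Lsl_ct (LP (LK LD1_c11 LD2_c52 LD3_c19)) = (LP (LK LD1_c19 LD2_c54 LD3_c55)) :=
  Lgr Lrot40 (Lpe (f274419 IH) (Lpe (f261310 IH) (Lpr_ff (f335414 IH) (Lpn (LP (LK LD1_c19 LD2_c54 LD3_c55))))))
theorem f246990 : Led Lsl_ct (LP (LK LD1_c5 LD2_c35 LD3_c32)) = (LP (LK LD1_c11 LD2_c3 LD3_c12)) :=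
  Lre_c IH (LK LD1_c5 LD2_c35 LD3_c32) (LK LD1_c11 LD2_c3 LD3_c12) Lrfl Lrfl
theorem f246942 : Led Lsl_bt (LP (LK LD1_c5 LD2_c35 LD3_c32)) = (LP (LK LD1_c2 LD2_c43 LD3_c44)) :=
  Lre_b IH (LK LD1_c5 LD2_c35 LD3_c32) (LK LD1_c2 LD2_c43 LD3_c44) Lrfl Lrfl
theorem f177558 : Led Lsl_ct (LP (LK LD1_c1 LD2_c25 LD3_c38)) = (LP (LK LD1_c2 LD2_c59 LD3_c49)) :=
  Lre_c IH (LK LD1_c1 LD2_c25 LD3_c38) (LK LD1_c2 LD2_c59 LD3_c49) Lrfl Lrfl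
theorem f315967 : Led Lsl_ef (LP (LK LD1_c5 LD2_c28 LD3_c25)) = (LP (LK LD1_c6 LD2_c4 LD3_c53)) :=
  Lgr Lrot88 (Lpr_et (K20.f315961 IH) (Lpn (LP (LK LD1_c6 LD2_c4 LD3_c53))))
theorem f322373 : Led Lsl_bf (LP (LK LD1_c6 LD2_c4 LD3_c53)) = (LP (LK LD1_c2 LD2_c59 LD3_c5)) :=
  Lgr Lrot96 (Lpe (f315967 IH) (Lpr_bt (K12.f7783 IH) (Lpr_et (K20.f322369 IH) (Lpn (LP (LK LD1_c2 LD2_c59 LD3_c5))))))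
theorem f169478 : Led Lsl_ct (LP (LK LD1_c2 LD2_c59 LD3_c5)) = (LP (LK LD1_c6 LD2_c5 LD3_c58)) :=
  Lre_c IH (LK LD1_c2 LD2_c59 LD3_c5) (LK LD1_c6 LD2_c5 LD3_c58) Lrfl Lrfl
theorem f336015 : Led Lsl_gt (LP (LK LD1_c2 LD2_c59 LD3_c49)) = (LP (LK LD1_c6 LD2_c5 LD3_c58)) :=
  Lgr Lrot65 (Lpe (f177558 IH) (Lpr_bt (K13.f177555 IH) (Lpe (K20.f246981 IH) (Lpe (f246942 IH) (Lpr_ct (f246990 IH) (Lpe (f246991 IH) (Lpe (f335418 IH) (Lpr_gf (f336011 IH) (Lpr_bf (f322373 IH) (Lpr_ct (f169478 IH) (Lpn (LP (LK LD1_c6 LD2_c5 LD3_c58)))))))))))))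
theorem f177514 : Led Lsl_et (LP (LK LD1_c1 LD2_c25 LD3_c37)) = (LP (LK LD1_c2 LD2_c59 LD3_c49)) :=
  Lre_e IH (LK LD1_c1 LD2_c25 LD3_c37) (LK LD1_c2 LD2_c59 LD3_c49) Lrfl Lrfl
theorem f180410 : Led Lsl_et (LP (LK LD1_c1 LD2_c16 LD3_c61)) = (LP (LK LD1_c2 LD2_c40 LD3_c40)) :=
  Lre_e IH (LK LD1_c1 LD2_c16 LD3_c61) (LK LD1_c2 LD2_c40 LD3_c40) Lrfl Lrfl
theorem f180411 : Led Lsl_gf (LP (LK LD1_c2 LD2_c59 LD3_c49)) = (LP (LK LD1_c2 LD2_c40 LD3_c40)) :=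
  Lgr Lrot141 (Lpe (f177514 IH) (Lpe (K10.f177501 IH) (Lpr_gt (K10.f9061 IH) (Lpe (K9.f9025 IH) (Lpr_et (K20.f8560 IH) (Lpr_gt (K9.f165037 IH) (Lpr_dt (K15.f165038 IH) (Lpr_gt (K20.f180403 IH) (Lpe (K15.f179299 IH) (Lpr_et (f180410 IH) (Lpn (LP (LK LD1_c2 LD2_c40 LD3_c40)))))))))))))
theorem f183145 : Led Lsl_ct (LP (LK LD1_c5 LD2_c26 LD3_c22)) = (LP (LK LD1_c2 LD2_c39 LD3_c36)) :=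
  Lre_c IH (LK LD1_c5 LD2_c26 LD3_c22) (LK LD1_c2 LD2_c39 LD3_c36) Lrfl Lrfl
theorem f276188 : Led Lsl_ft (LP (LK LD1_c2 LD2_c40 LD3_c40)) = (LP (LK LD1_c5 LD2_c26 LD3_c22)) :=
  Lgr Lrot4 (Lpe (K21.f180415 IH) (Lpr_ff (K16.f276148 IH) (Lpe (f183145 IH) (Lpn (LP (LK LD1_c5 LD2_c26 LD3_c22))))))
theorem f336017 : Led Lsl_at (LP (LK LD1_c5 LD2_c26 LD3_c22)) = (LP (LK LD1_c6 LD2_c5 LD3_c58)) :=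
  Lgr Lrot26 (Lpe (f276188 IH) (Lpe (f180411 IH) (Lpr_gt (f336015 IH) (Lpn (LP (LK LD1_c6 LD2_c5 LD3_c58))))))
theorem f336059 : Led Lsl_af (LP (LK LD1_c5 LD2_c26 LD3_c22)) = (LP (LK LD1_c6 LD2_c5 LD3_c58)) :=
  Lgr Lrot0 (Lpr_at (f336017 IH) (Lpn (LP (LK LD1_c6 LD2_c5 LD3_c58))))
theorem f267651 : Led Lsl_ct (LP (LK LD1_c4 LD2_c10 LD3_c61)) = (LP (LK LD1_c8 LD2_c21 LD3_c51)) :=
  Lre_c IH (LK LD1_c4 LD2_c10 LD3_c61) (LK LD1_c8 LD2_c21 LD3_c51) Lrfl Lrfl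
theorem f267865 : Led Lsl_ef (LP (LK LD1_c5 LD2_c26 LD3_c22)) = (LP (LK LD1_c8 LD2_c21 LD3_c51)) :=
  Lgr Lrot28 (Lpr_ct (f183145 IH) (Lpr_et (K16.f267863 IH) (Lpr_ct (f267651 IH) (Lpn (LP (LK LD1_c8 LD2_c21 LD3_c51))))))
theorem f267870 : Led Lsl_et (LP (LK LD1_c5 LD2_c26 LD3_c22)) = (LP (LK LD1_c8 LD2_c21 LD3_c51)) :=
  Lgr Lrot87 (Lpr_ef (f267865 IH) (Lpn (LP (LK LD1_c8 LD2_c21 LD3_c51))))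
theorem f7778 : Led Lsl_ct (LP (LK LD1_c5 LD2_c28 LD3_c35)) = (LP (LK LD1_c2 LD2_c40 LD3_c37)) :=
  Lre_c IH (LK LD1_c5 LD2_c28 LD3_c35) (LK LD1_c2 LD2_c40 LD3_c37) Lrfl Lrfl
theorem f267675 : Led Lsl_af (LP (LK LD1_c5 LD2_c28 LD3_c35)) = (LP (LK LD1_c8 LD2_c21 LD3_c51)) :=
  Lgr Lrot68 (Lpr_ct (f7778 IH) (Lpr_at (K15.f267666 IH) (Lpr_ct (f267651 IH) (Lpn (LP (LK LD1_c8 LD2_c21 LD3_c51))))))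
theorem f336084 : Led Lsl_et (LP (LK LD1_c5 LD2_c28 LD3_c35)) = (LP (LK LD1_c6 LD2_c5 LD3_c58)) :=
  Lgr Lrot123 (Lpr_af (f267675 IH) (Lpe (f267870 IH) (Lpr_af (f336059 IH) (Lpn (LP (LK LD1_c6 LD2_c5 LD3_c58))))))
theorem f289153 : Led Lsl_ft (LP (LK LD1_c2 LD2_c40 LD3_c34)) = (LP (LK LD1_c5 LD2_c28 LD3_c35)) :=
  Lre_f IH (LK LD1_c2 LD2_c40 LD3_c34) (LK LD1_c5 LD2_c28 LD3_c35) Lrfl Lrfl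
theorem f333824 : Led Lsl_et (LP (LK LD1_c1 LD2_c16 LD3_c59)) = (LP (LK LD1_c2 LD2_c40 LD3_c34)) :=
  Lre_e IH (LK LD1_c1 LD2_c16 LD3_c59) (LK LD1_c2 LD2_c40 LD3_c34) Lrfl Lrfl
theorem f267709 : Led Lsl_ff (LP (LK LD1_c1 LD2_c16 LD3_c59)) = (LP (LK LD1_c2 LD2_c11 LD3_c31)) :=
  Lgr Lrot23 (Lpr_ct (K9.f7732 IH) (Lpr_ft (K15.f267707 IH) (Lpr_ct (K12.f225707 IH) (Lpn (LP (LK LD1_c2 LD2_c11 LD3_c31))))))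
theorem f225711 : Led Lsl_et (LP (LK LD1_c4 LD2_c28 LD3_c56)) = (LP (LK LD1_c2 LD2_c11 LD3_c31)) :=
  Lre_e IH (LK LD1_c4 LD2_c28 LD3_c56) (LK LD1_c2 LD2_c11 LD3_c31) Lrfl Lrfl
theorem f336088 : Led Lsl_ff (LP (LK LD1_c4 LD2_c28 LD3_c56)) = (LP (LK LD1_c6 LD2_c5 LD3_c58)) :=
  Lgr Lrot72 (Lpr_et (f225711 IH) (Lpe (f267709 IH) (Lpr_et (f333824 IH) (Lpr_ft (f289153 IH) (Lpr_et (f336084 IH) (Lpn (LP (LK LD1_c6 LD2_c5 LD3_c58))))))))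
theorem f336097 : Led Lsl_at (LP (LK LD1_c4 LD2_c28 LD3_c56)) = (LP (LK LD1_c2 LD2_c40 LD3_c40)) :=
  Lgr Lrot66 (Lpr_ff (f336088 IH) (Lpe (f336017 IH) (Lpe (f276188 IH) (Lpn (LP (LK LD1_c2 LD2_c40 LD3_c40))))))
theorem f336107 : Led Lsl_gf (LP (LK LD1_c5 LD2_c28 LD3_c45)) = (LP (LK LD1_c6 LD2_c5 LD3_c58)) :=
  Lgr Lrot47 (Lpr_gt (K21.f180414 IH) (Lpe (f336097 IH) (Lpr_ff (f336088 IH) (Lpn (LP (LK LD1_c6 LD2_c5 LD3_c58))))))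
theorem f334949 : Led Lsl_ft (LP (LK LD1_c2 LD2_c59 LD3_c49)) = (LP (LK LD1_c6 LD2_c7 LD3_c21)) :=
  Lre_f IH (LK LD1_c2 LD2_c59 LD3_c49) (LK LD1_c6 LD2_c7 LD3_c21) Lrfl Lrfl
theorem f336109 : Led Lsl_af (LP (LK LD1_c5 LD2_c28 LD3_c45)) = (LP (LK LD1_c6 LD2_c7 LD3_c21)) :=
  Lgr Lrot31 (Lpr_gf (f336107 IH) (Lpe (f336015 IH) (Lpr_ft (f334949 IH) (Lpn (LP (LK LD1_c6 LD2_c7 LD3_c21))))))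
theorem f177509 : Led Lsl_et (LP (LK LD1_c2 LD2_c59 LD3_c49)) = (LP (LK LD1_c1 LD2_c25 LD3_c37)) :=
  Lre_e IH (LK LD1_c2 LD2_c59 LD3_c49) (LK LD1_c1 LD2_c25 LD3_c37) Lrfl Lrfl
theorem f298650 : Led Lsl_et (LP (LK LD1_c2 LD2_c0 LD3_c47)) = (LP (LK LD1_c4 LD2_c6 LD3_c53)) :=
  Lre_e IH (LK LD1_c2 LD2_c0 LD3_c47) (LK LD1_c4 LD2_c6 LD3_c53) Lrfl Lrfl
theorem f334959 : Led Lsl_af (LP (LK LD1_c2 LD2_c59 LD3_c49)) = (LP (LK LD1_c4 LD2_c6 LD3_c53)) :=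
  Lgr Lrot50 (Lpr_et (f177509 IH) (Lpr_at (f334950 IH) (Lpr_et (f298650 IH) (Lpn (LP (LK LD1_c4 LD2_c6 LD3_c53))))))
theorem f336112 : Led Lsl_ft (LP (LK LD1_c5 LD2_c28 LD3_c45)) = (LP (LK LD1_c4 LD2_c6 LD3_c53)) :=
  Lgr Lrot101 (Lpr_af (f336109 IH) (Lpe (f334949 IH) (Lpr_af (f334959 IH) (Lpn (LP (LK LD1_c4 LD2_c6 LD3_c53))))))
theorem f336116 : Led Lsl_ff (LP (LK LD1_c5 LD2_c28 LD3_c45)) = (LP (LK LD1_c4 LD2_c6 LD3_c53)) :=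
  Lgr Lrot3 (Lpr_ft (f336112 IH) (Lpn (LP (LK LD1_c4 LD2_c6 LD3_c53))))
theorem f326964 : Led Lsl_af (LP (LK LD1_c6 LD2_c7 LD3_c21)) = (LP (LK LD1_c5 LD2_c28 LD3_c45)) :=
  Lgr Lrot68 (Lpr_ct (f177576 IH) (Lpr_at (f287834 IH) (Lpr_ct (K21.f326959 IH) (Lpn (LP (LK LD1_c5 LD2_c28 LD3_c45))))))
theorem f336120 : Led Lsl_gf (LP (LK LD1_c5 LD2_c26 LD3_c22)) = (LP (LK LD1_c4 LD2_c6 LD3_c53)) :=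
  Lgr Lrot47 (Lpr_gt (f335109 IH) (Lpr_af (f326964 IH) (Lpr_ff (f336116 IH) (Lpn (LP (LK LD1_c4 LD2_c6 LD3_c53))))))
theorem f248753 : Led Lsl_gt (LP (LK LD1_c1 LD2_c11 LD3_c46)) = (LP (LK LD1_c2 LD2_c29 LD3_c17)) :=
  Lre_g IH (LK LD1_c1 LD2_c11 LD3_c46) (LK LD1_c2 LD2_c29 LD3_c17) Lrfl Lrfl
theorem f248758 : Led Lsl_ct (LP (LK LD1_c2 LD2_c29 LD3_c17)) = (LP (LK LD1_c5 LD2_c3 LD3_c37)) :=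
  Lre_c IH (LK LD1_c2 LD2_c29 LD3_c17) (LK LD1_c5 LD2_c3 LD3_c37) Lrfl Lrfl
theorem f336124 : Led Lsl_gf (LP (LK LD1_c5 LD2_c11 LD3_c18)) = (LP (LK LD1_c5 LD2_c3 LD3_c37)) :=
  Lgr Lrot104 (Lpr_ct (K15.f185440 IH) (Lpe (K15.f267859 IH) (Lpe (f183145 IH) (Lpr_gf (f336120 IH) (Lpe (K19.f22038 IH) (Lpr_gf (K14.f250349 IH) (Lpe (K14.f250351 IH) (Lpr_gt (f248753 IH) (Lpr_ct (f248758 IH) (Lpn (LP (LK LD1_c5 LD2_c3 LD3_c37))))))))))))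
theorem f248653 : Led Lsl_ct (LP (LK LD1_c2 LD2_c29 LD3_c13)) = (LP (LK LD1_c5 LD2_c3 LD3_c20)) :=
  Lre_c IH (LK LD1_c2 LD2_c29 LD3_c13) (LK LD1_c5 LD2_c3 LD3_c20) Lrfl Lrfl
theorem f248650 : Led Lsl_gt (LP (LK LD1_c9 LD2_c57 LD3_c32)) = (LP (LK LD1_c5 LD2_c3 LD3_c20)) :=
  Lre_g IH (LK LD1_c9 LD2_c57 LD3_c32) (LK LD1_c5 LD2_c3 LD3_c20) Lrfl Lrfl
theorem f288387 : Led Lsl_ct (LP (LK LD1_c10 LD2_c27 LD3_c60)) = (LP (LK LD1_c9 LD2_c57 LD3_c32)) :=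
  Lgr Lrot8 (Lpr_gt (f229970 IH) (Lpe (K14.f254470 IH) (Lpe (K14.f251004 IH) (Lpr_dt (K18.f242391 IH) (Lpr_cf (K19.f242372 IH) (Lpr_df (K19.f288375 IH) (Lpe (K19.f184519 IH) (Lpe (K19.f184518 IH) (Lpe (f248650 IH) (Lpn (LP (LK LD1_c9 LD2_c57 LD3_c32))))))))))))
theorem f336138 : Led Lsl_bf (LP (LK LD1_c5 LD2_c19 LD3_c25)) = (LP (LK LD1_c10 LD2_c27 LD3_c60)) :=
  Lgr Lrot34 (Lpr_gf (K16.f268069 IH) (Lpe (K15.f185455 IH) (Lpe (K15.f185459 IH) (Lpr_gf (f336124 IH) (Lpe (f248758 IH) (Lpe (f248753 IH) (Lpe (K14.f249039 IH) (Lpr_ct (f248653 IH) (Lpe (f248650 IH) (Lpe (f288387 IH) (Lpn (LP (LK LD1_c10 LD2_c27 LD3_c60)))))))))))))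
theorem f230590 : Led Lsl_gt (LP (LK LD1_c5 LD2_c19 LD3_c23)) = (LP (LK LD1_c10 LD2_c28 LD3_c33)) :=
  Lre_g IH (LK LD1_c5 LD2_c19 LD3_c23) (LK LD1_c10 LD2_c28 LD3_c33) Lrfl Lrfl
theorem f248651 : Led Lsl_gf (LP (LK LD1_c9 LD2_c57 LD3_c32)) = (LP (LK LD1_c17 LD2_c46 LD3_c8)) :=
  Lgr Lrot47 (Lpr_gt (f248650 IH) (Lpr_af (K14.f248622 IH) (Lpe (K14.f248527 IH) (Lpn (LP (LK LD1_c17 LD2_c46 LD3_c8))))))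
theorem f248513 : Led Lsl_ct (LP (LK LD1_c9 LD2_c39 LD3_c44)) = (LP (LK LD1_c17 LD2_c46 LD3_c8)) :=
  Lre_c IH (LK LD1_c9 LD2_c39 LD3_c44) (LK LD1_c17 LD2_c46 LD3_c8) Lrfl Lrfl
theorem f249045 : Led Lsl_ft (LP (LK LD1_c10 LD2_c11 LD3_c37)) = (LP (LK LD1_c5 LD2_c10 LD3_c29)) :=
  Lre_f IH (LK LD1_c10 LD2_c11 LD3_c37) (LK LD1_c5 LD2_c10 LD3_c29) Lrfl Lrfl
theorem f249046 : Led Lsl_bt (LP (LK LD1_c9 LD2_c39 LD3_c44)) = (LP (LK LD1_c10 LD2_c11 LD3_c37)) :=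
  Lgr Lrot35 (Lpe (K14.f248523 IH) (Lpr_bf (K14.f249007 IH) (Lpe (f249045 IH) (Lpn (LP (LK LD1_c10 LD2_c11 LD3_c37))))))
theorem f249055 : Led Lsl_bt (LP (LK LD1_c10 LD2_c11 LD3_c50)) = (LP (LK LD1_c5 LD2_c10 LD3_c34)) :=
  Lre_b IH (LK LD1_c10 LD2_c11 LD3_c50) (LK LD1_c5 LD2_c10 LD3_c34) Lrfl Lrfl
theorem f336146 : Led Lsl_cf (LP (LK LD1_c10 LD2_c28 LD3_c33)) = (LP (LK LD1_c10 LD2_c11 LD3_c50)) :=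
  Lgr Lrot163 (Lpe (f230590 IH) (Lpe (K15.f230587 IH) (Lpe (K15.f230301 IH) (Lpr_bf (f336138 IH) (Lpr_ct (f288387 IH) (Lpr_gf (f248651 IH) (Lpe (f248513 IH) (Lpr_bt (f249046 IH) (Lpe (K19.f249054 IH) (Lpe (f249055 IH) (Lpn (LP (LK LD1_c10 LD2_c11 LD3_c50)))))))))))))
theorem f249040 : Led Lsl_bt (LP (LK LD1_c1 LD2_c13 LD3_c11)) = (LP (LK LD1_c2 LD2_c32 LD3_c20)) :=
  Lre_b IH (LK LD1_c1 LD2_c13 LD3_c11) (LK LD1_c2 LD2_c32 LD3_c20) Lrfl Lrfl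
theorem f248882 : Led Lsl_ct (LP (LK LD1_c1 LD2_c13 LD3_c11)) = (LP (LK LD1_c2 LD2_c32 LD3_c23)) :=
  Lre_c IH (LK LD1_c1 LD2_c13 LD3_c11) (LK LD1_c2 LD2_c32 LD3_c23) Lrfl Lrfl
theorem f336161 : Led Lsl_gt (LP (LK LD1_c10 LD2_c28 LD3_c33)) = (LP (LK LD1_c10 LD2_c26 LD3_c31)) :=
  Lgr Lrot65 (Lpr_cf (f336146 IH) (Lpr_bt (f249055 IH) (Lpe (K19.f253634 IH) (Lpe (f249040 IH) (Lpr_ct (f248882 IH) (Lpe (K19.f249946 IH) (Lpr_cf (K19.f255004 IH) (Lpr_gf (K19.f268113 IH) (Lpe (K15.f185466 IH) (Lpr_ct (K19.f185456 IH) (Lpn (LP (LK LD1_c10 LD2_c26 LD3_c31)))))))))))))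
theorem f336163 : Led Lsl_gf (LP (LK LD1_c10 LD2_c11 LD3_c50)) = (LP (LK LD1_c9 LD2_c39 LD3_c31)) :=
  Lgr Lrot147 (Lpe (f336146 IH) (Lpr_gt (f336161 IH) (Lpr_ct (K15.f185467 IH) (Lpe (K15.f268056 IH) (Lpe (K15.f258174 IH) (Lpe (K15.f264005 IH) (Lpe (K15.f254245 IH) (Lpr_gf (K16.f274995 IH) (Lpe (K16.f274981 IH) (Lpn (LP (LK LD1_c9 LD2_c39 LD3_c31))))))))))))
theorem f307120 : Led Lsl_bt (LP (LK LD1_c5 LD2_c10 LD3_c34)) = (LP (LK LD1_c10 LD2_c11 LD3_c50)) :=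
  Lre_b IH (LK LD1_c5 LD2_c10 LD3_c34) (LK LD1_c10 LD2_c11 LD3_c50) Lrfl Lrfl
theorem f253635 : Led Lsl_ct (LP (LK LD1_c5 LD2_c10 LD3_c34)) = (LP (LK LD1_c10 LD2_c11 LD3_c51)) :=
  Lre_c IH (LK LD1_c5 LD2_c10 LD3_c34) (LK LD1_c10 LD2_c11 LD3_c51) Lrfl Lrfl
theorem f253636 : Led Lsl_gt (LP (LK LD1_c10 LD2_c11 LD3_c51)) = (LP (LK LD1_c18 LD2_c34 LD3_c37)) :=
  Lre_g IH (LK LD1_c10 LD2_c11 LD3_c51) (LK LD1_c18 LD2_c34 LD3_c37) Lrfl Lrfl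
theorem f286350 : Led Lsl_cf (LP (LK LD1_c19 LD2_c30 LD3_c26)) = (LP (LK LD1_c28 LD2_c17 LD3_c34)) :=
  Lgr Lrot11 (Lpr_ct (K17.f286346 IH) (Lpn (LP (LK LD1_c28 LD2_c17 LD3_c34))))
theorem f286361 : Led Lsl_dt (LP (LK LD1_c18 LD2_c47 LD3_c58)) = (LP (LK LD1_c28 LD2_c17 LD3_c34)) :=
  Lre_d IH (LK LD1_c18 LD2_c47 LD3_c58) (LK LD1_c28 LD2_c17 LD3_c34) Lrfl Lrfl
theorem f286363 : Led Lsl_ct (LP (LK LD1_c10 LD2_c21 LD3_c29)) = (LP (LK LD1_c18 LD2_c47 LD3_c58)) :=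
  Lre_c IH (LK LD1_c10 LD2_c21 LD3_c29) (LK LD1_c18 LD2_c47 LD3_c58) Lrfl Lrfl
theorem f45440 : Led Lsl_dt (LP (LK LD1_c5 LD2_c16 LD3_c0)) = (LP (LK LD1_c10 LD2_c21 LD3_c29)) :=
  Lre_d IH (LK LD1_c5 LD2_c16 LD3_c0) (LK LD1_c10 LD2_c21 LD3_c29) Lrfl Lrfl
theorem f286439 : Led Lsl_ct (LP (LK LD1_c8 LD2_c26 LD3_c11)) = (LP (LK LD1_c5 LD2_c16 LD3_c0)) :=
  Lgr Lrot176 (Lpr_df (K16.f266780 IH) (Lpr_cf (K16.f274950 IH) (Lpe (K17.f274979 IH) (Lpe (K17.f275044 IH) (Lpe (K17.f275048 IH) (Lpr_cf (K17.f286435 IH) (Lpe (K17.f286376 IH) (Lpe (K17.f286386 IH) (Lpe (K17.f286288 IH) (Lpr_cf (K17.f286262 IH) (Lpe (K17.f261546 IH) (Lpr_cf (f286350 IH) (Lpe (f286361 IH) (Lpe (f286363 IH) (Lpe (f45440 IH) (Lpn (LP (LK LD1_c5 LD2_c16 LD3_c0))))))))))))))))))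
theorem f261900 : Led Lsl_ct (LP (LK LD1_c5 LD2_c6 LD3_c22)) = (LP (LK LD1_c10 LD2_c3 LD3_c48)) :=
  Lre_c IH (LK LD1_c5 LD2_c6 LD3_c22) (LK LD1_c10 LD2_c3 LD3_c48) Lrfl Lrfl
theorem f171273 : Led Lsl_bt (LP (LK LD1_c3 LD2_c58 LD3_c37)) = (LP (LK LD1_c1 LD2_c56 LD3_c4)) :=
  Lre_b IH (LK LD1_c3 LD2_c58 LD3_c37) (LK LD1_c1 LD2_c56 LD3_c4) Lrfl Lrfl
theorem f246853 : Led Lsl_bt (LP (LK LD1_c2 LD2_c28 LD3_c48)) = (LP (LK LD1_c5 LD2_c1 LD3_c6)) :=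
  Lgr Lrot95 (Lpe (K14.f171271 IH) (Lpe (f171273 IH) (Lpr_df (K14.f246829 IH) (Lpn (LP (LK LD1_c5 LD2_c1 LD3_c6))))))
theorem f195634 : Led Lsl_ct (LP (LK LD1_c6 LD2_c5 LD3_c43)) = (LP (LK LD1_c11 LD2_c54 LD3_c56)) :=
  Lre_c IH (LK LD1_c6 LD2_c5 LD3_c43) (LK LD1_c11 LD2_c54 LD3_c56) Lrfl Lrfl
theorem f319990 : Led Lsl_gf (LP (LK LD1_c10 LD2_c3 LD3_c48)) = (LP (LK LD1_c11 LD2_c54 LD3_c56)) :=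
  Lgr Lrot126 (Lpe (f261900 IH) (Lpr_bt (K15.f261787 IH) (Lpr_gt (K18.f304407 IH) (Lpr_ct (K20.f288631 IH) (Lpr_gt (K20.f319984 IH) (Lpe (K19.f171274 IH) (Lpr_bt (f246853 IH) (Lpe (K16.f246891 IH) (Lpe (K14.f195617 IH) (Lpr_ct (f195634 IH) (Lpn (LP (LK LD1_c11 LD2_c54 LD3_c56)))))))))))))
theorem f231945 : Led Lsl_et (LP (LK LD1_c6 LD2_c5 LD3_c42)) = (LP (LK LD1_c11 LD2_c54 LD3_c56)) :=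
  Lre_e IH (LK LD1_c6 LD2_c5 LD3_c42) (LK LD1_c11 LD2_c54 LD3_c56) Lrfl Lrfl
theorem f45439 : Led Lsl_et (LP (LK LD1_c5 LD2_c16 LD3_c0)) = (LP (LK LD1_c2 LD2_c34 LD3_c49)) :=
  Lre_e IH (LK LD1_c5 LD2_c16 LD3_c0) (LK LD1_c2 LD2_c34 LD3_c49) Lrfl Lrfl
theorem f45441 : Led Lsl_gt (LP (LK LD1_c18 LD2_c47 LD3_c57)) = (LP (LK LD1_c10 LD2_c21 LD3_c29)) :=
  Lre_g IH (LK LD1_c18 LD2_c47 LD3_c57) (LK LD1_c10 LD2_c21 LD3_c29) Lrfl Lrfl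
theorem f319993 : Led Lsl_dt (LP (LK LD1_c18 LD2_c20 LD3_c22)) = (LP (LK LD1_c18 LD2_c47 LD3_c57)) :=
  Lgr Lrot136 (Lpe (K17.f282635 IH) (Lpr_gf (f319990 IH) (Lpe (f231945 IH) (Lpe (K15.f231911 IH) (Lpr_gf (K15.f45432 IH) (Lpe (K15.f45231 IH) (Lpe (K9.f32526 IH) (Lpe (f45439 IH) (Lpr_dt (f45440 IH) (Lpe (f45441 IH) (Lpn (LP (LK LD1_c18 LD2_c47 LD3_c57)))))))))))))
theorem f264181 : Led Lsl_ft (LP (LK LD1_c10 LD2_c2 LD3_c8)) = (LP (LK LD1_c18 LD2_c20 LD3_c22)) :=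
  Lre_f IH (LK LD1_c10 LD2_c2 LD3_c8) (LK LD1_c18 LD2_c20 LD3_c22) Lrfl Lrfl
theorem f169514 : Led Lsl_dt (LP (LK LD1_c18 LD2_c20 LD3_c21)) = (LP (LK LD1_c10 LD2_c2 LD3_c8)) :=
  Lre_d IH (LK LD1_c18 LD2_c20 LD3_c21) (LK LD1_c10 LD2_c2 LD3_c8) Lrfl Lrfl
theorem f319997 : Led Lsl_ff (LP (LK LD1_c18 LD2_c20 LD3_c21)) = (LP (LK LD1_c18 LD2_c47 LD3_c57)) :=
  Lgr Lrot19 (Lpr_dt (f169514 IH) (Lpr_ft (f264181 IH) (Lpr_dt (f319993 IH) (Lpn (LP (LK LD1_c18 LD2_c47 LD3_c57))))))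
theorem f48409 : Led Lsl_gt (LP (LK LD1_c10 LD2_c21 LD3_c29)) = (LP (LK LD1_c18 LD2_c47 LD3_c56)) :=
  Lre_g IH (LK LD1_c10 LD2_c21 LD3_c29) (LK LD1_c18 LD2_c47 LD3_c56) Lrfl Lrfl
theorem f320003 : Led Lsl_at (LP (LK LD1_c18 LD2_c20 LD3_c21)) = (LP (LK LD1_c18 LD2_c47 LD3_c56)) :=
  Lgr Lrot26 (Lpr_ff (f319997 IH) (Lpr_gt (f45441 IH) (Lpr_gt (f48409 IH) (Lpn (LP (LK LD1_c18 LD2_c47 LD3_c56))))))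
theorem f169555 : Led Lsl_dt (LP (LK LD1_c10 LD2_c2 LD3_c8)) = (LP (LK LD1_c18 LD2_c20 LD3_c21)) :=
  Lre_d IH (LK LD1_c10 LD2_c2 LD3_c8) (LK LD1_c18 LD2_c20 LD3_c21) Lrfl Lrfl
theorem f263093 : Led Lsl_et (LP (LK LD1_c5 LD2_c17 LD3_c29)) = (LP (LK LD1_c10 LD2_c24 LD3_c33)) :=
  Lre_e IH (LK LD1_c5 LD2_c17 LD3_c29) (LK LD1_c10 LD2_c24 LD3_c33) Lrfl Lrfl
theorem f197074 : Led Lsl_et (LP (LK LD1_c10 LD2_c2 LD3_c8)) = (LP (LK LD1_c5 LD2_c5 LD3_c30)) :=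
  Lre_e IH (LK LD1_c10 LD2_c2 LD3_c8) (LK LD1_c5 LD2_c5 LD3_c30) Lrfl Lrfl
theorem f264172 : Led Lsl_at (LP (LK LD1_c10 LD2_c24 LD3_c33)) = (LP (LK LD1_c10 LD2_c2 LD3_c8)) :=
  Lgr Lrot80 (Lpe (f263093 IH) (Lpr_af (K15.f264150 IH) (Lpe (f197074 IH) (Lpn (LP (LK LD1_c10 LD2_c2 LD3_c8))))))
theorem f320008 : Led Lsl_df (LP (LK LD1_c10 LD2_c24 LD3_c33)) = (LP (LK LD1_c18 LD2_c47 LD3_c56)) :=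
  Lgr Lrot18 (Lpr_at (f264172 IH) (Lpr_dt (f169555 IH) (Lpr_at (f320003 IH) (Lpn (LP (LK LD1_c18 LD2_c47 LD3_c56))))))
theorem f271605 : Led Lsl_ct (LP (LK LD1_c5 LD2_c15 LD3_c50)) = (LP (LK LD1_c10 LD2_c21 LD3_c1)) :=
  Lre_c IH (LK LD1_c5 LD2_c15 LD3_c50) (LK LD1_c10 LD2_c21 LD3_c1) Lrfl Lrfl
theorem f320036 : Led Lsl_gt (LP (LK LD1_c10 LD2_c21 LD3_c1)) = (LP (LK LD1_c5 LD2_c16 LD3_c0)) :=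
  Lgr Lrot94 (Lpe (f271605 IH) (Lpr_gt (K21.f180951 IH) (Lpr_dt (K19.f271592 IH) (Lpe (K19.f271584 IH) (Lpr_dt (f48216 IH) (Lpe (K17.f48215 IH) (Lpr_df (f320008 IH) (Lpe (f48409 IH) (Lpe (f45440 IH) (Lpn (LP (LK LD1_c5 LD2_c16 LD3_c0))))))))))))
theorem f336168 : Led Lsl_cf (LP (LK LD1_c18 LD2_c34 LD3_c37)) = (LP (LK LD1_c16 LD2_c34 LD3_c44)) :=
  Lgr Lrot58 (Lpe (f253636 IH) (Lpe (f253635 IH) (Lpr_bt (f307120 IH) (Lpr_gf (f336163 IH) (Lpr_bf (K18.f274985 IH) (Lpr_ct (f286439 IH) (Lpe (f320036 IH) (Lpe (f271605 IH) (Lpe (K21.f324322 IH) (Lpr_bf (K20.f214809 IH) (Lpn (LP (LK LD1_c16 LD2_c34 LD3_c44)))))))))))))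
theorem f336173 : Led Lsl_ct (LP (LK LD1_c18 LD2_c34 LD3_c37)) = (LP (LK LD1_c16 LD2_c34 LD3_c44)) :=
  Lgr Lrot59 (Lpr_cf (f336168 IH) (Lpn (LP (LK LD1_c16 LD2_c34 LD3_c44))))
theorem f253602 : Led Lsl_ct (LP (LK LD1_c5 LD2_c36 LD3_c34)) = (LP (LK LD1_c11 LD2_c5 LD3_c17)) :=
  Lre_c IH (LK LD1_c5 LD2_c36 LD3_c34) (LK LD1_c11 LD2_c5 LD3_c17) Lrfl Lrfl
theorem f317729 : Led Lsl_dt (LP (LK LD1_c10 LD2_c46 LD3_c35)) = (LP (LK LD1_c16 LD2_c34 LD3_c44)) :=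
  Lgr Lrot79 (Lpe (K20.f317728 IH) (Lpr_df (K20.f317704 IH) (Lpr_bf (K20.f214809 IH) (Lpn (LP (LK LD1_c16 LD2_c34 LD3_c44))))))
theorem f303416 : Led Lsl_ct (LP (LK LD1_c19 LD2_c29 LD3_c19)) = (LP (LK LD1_c10 LD2_c46 LD3_c35)) :=
  Lre_c IH (LK LD1_c19 LD2_c29 LD3_c19) (LK LD1_c10 LD2_c46 LD3_c35) Lrfl Lrfl
theorem f336222 : Led Lsl_gt (LP (LK LD1_c11 LD2_c5 LD3_c17)) = (LP (LK LD1_c19 LD2_c29 LD3_c19)) :=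
  Lgr Lrot150 (Lpe (f253602 IH) (Lpe (K14.f253588 IH) (Lpe (K14.f253610 IH) (Lpr_gt (K19.f253634 IH) (Lpr_ct (f253635 IH) (Lpr_gt (f253636 IH) (Lpr_ct (f336173 IH) (Lpe (f317729 IH) (Lpe (f303416 IH) (Lpn (LP (LK LD1_c19 LD2_c29 LD3_c19))))))))))))
theorem f253593 : Led Lsl_ct (LP (LK LD1_c11 LD2_c5 LD3_c17)) = (LP (LK LD1_c5 LD2_c36 LD3_c34)) :=
  Lre_c IH (LK LD1_c11 LD2_c5 LD3_c17) (LK LD1_c5 LD2_c36 LD3_c34) Lrfl Lrfl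
theorem f253599 : Led Lsl_gt (LP (LK LD1_c5 LD2_c36 LD3_c34)) = (LP (LK LD1_c11 LD2_c5 LD3_c4)) :=
  Lre_g IH (LK LD1_c5 LD2_c36 LD3_c34) (LK LD1_c11 LD2_c5 LD3_c4) Lrfl Lrfl
theorem f249053 : Led Lsl_ct (LP (LK LD1_c10 LD2_c11 LD3_c55)) = (LP (LK LD1_c18 LD2_c34 LD3_c46)) :=
  Lre_c IH (LK LD1_c10 LD2_c11 LD3_c55) (LK LD1_c18 LD2_c34 LD3_c46) Lrfl Lrfl
theorem f305854 : Led Lsl_dt (LP (LK LD1_c28 LD2_c9 LD3_c7)) = (LP (LK LD1_c18 LD2_c34 LD3_c46)) :=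
  Lre_d IH (LK LD1_c28 LD2_c9 LD3_c7) (LK LD1_c18 LD2_c34 LD3_c46) Lrfl Lrfl
theorem f303396 : Led Lsl_dt (LP (LK LD1_c19 LD2_c29 LD3_c19)) = (LP (LK LD1_c28 LD2_c51 LD3_c35)) :=
  Lre_d IH (LK LD1_c19 LD2_c29 LD3_c19) (LK LD1_c28 LD2_c51 LD3_c35) Lrfl Lrfl
theorem f336224 : Led Lsl_gf (LP (LK LD1_c28 LD2_c9 LD3_c7)) = (LP (LK LD1_c28 LD2_c51 LD3_c35)) :=
  Lgr Lrot143 (Lpr_dt (f305854 IH) (Lpe (f249053 IH) (Lpe (K19.f249052 IH) (Lpe (K19.f249051 IH) (Lpr_df (K19.f253668 IH) (Lpe (f253599 IH) (Lpe (f253593 IH) (Lpr_gt (f336222 IH) (Lpr_dt (f303396 IH) (Lpn (LP (LK LD1_c28 LD2_c51 LD3_c35))))))))))))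
theorem f47888 : Led Lsl_ct (LP (LK LD1_c8 LD2_c14 LD3_c5)) = (LP (LK LD1_c15 LD2_c29 LD3_c36)) :=
  Lre_c IH (LK LD1_c8 LD2_c14 LD3_c5) (LK LD1_c15 LD2_c29 LD3_c36) Lrfl Lrfl
theorem f323937 : Led Lsl_gf (LP (LK LD1_c16 LD2_c12 LD3_c58)) = (LP (LK LD1_c15 LD2_c29 LD3_c36)) :=
  Lgr Lrot129 (Lpe (K21.f31245 IH) (Lpr_bt (K20.f31227 IH) (Lpr_gt (K17.f31235 IH) (Lpr_bf (K21.f322737 IH) (Lpr_ct (K21.f323928 IH) (Lpr_gt (K21.f55138 IH) (Lpe (K19.f41124 IH) (Lpe (K1.f41108 IH) (Lpr_gt (K21.f54537 IH) (Lpr_ct (f47888 IH) (Lpn (LP (LK LD1_c15 LD2_c29 LD3_c36)))))))))))))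
theorem f323939 : Led Lsl_gt (LP (LK LD1_c15 LD2_c2 LD3_c3)) = (LP (LK LD1_c15 LD2_c29 LD3_c36)) :=
  Lgr Lrot5 (Lpr_ft (K15.f217990 IH) (Lpr_at (f183568 IH) (Lpr_gf (f323937 IH) (Lpn (LP (LK LD1_c15 LD2_c29 LD3_c36))))))
theorem f303298 : Led Lsl_et (LP (LK LD1_c15 LD2_c1 LD3_c32)) = (LP (LK LD1_c7 LD2_c57 LD3_c57)) :=
  Lre_e IH (LK LD1_c15 LD2_c1 LD3_c32) (LK LD1_c7 LD2_c57 LD3_c57) Lrfl Lrfl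
theorem f303299 : Led Lsl_dt (LP (LK LD1_c15 LD2_c1 LD3_c32)) = (LP (LK LD1_c24 LD2_c49 LD3_c38)) :=
  Lre_d IH (LK LD1_c15 LD2_c1 LD3_c32) (LK LD1_c24 LD2_c49 LD3_c38) Lrfl Lrfl
theorem f305847 : Led Lsl_et (LP (LK LD1_c11 LD2_c10 LD3_c35)) = (LP (LK LD1_c15 LD2_c29 LD3_c37)) :=
  Lgr Lrot87 (Lpr_ef (K19.f305843 IH) (Lpn (LP (LK LD1_c15 LD2_c29 LD3_c37))))
theorem f305838 : Led Lsl_et (LP (LK LD1_c5 LD2_c10 LD3_c35)) = (LP (LK LD1_c10 LD2_c11 LD3_c56)) :=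
  Lre_e IH (LK LD1_c5 LD2_c10 LD3_c35) (LK LD1_c10 LD2_c11 LD3_c56) Lrfl Lrfl
theorem f305849 : Led Lsl_ef (LP (LK LD1_c10 LD2_c11 LD3_c55)) = (LP (LK LD1_c8 LD2_c14 LD3_c5)) :=
  Lgr Lrot73 (Lpr_dt (K19.f253632 IH) (Lpr_et (f305838 IH) (Lpe (K19.f305829 IH) (Lpr_et (f305847 IH) (Lpr_dt (K19.f47892 IH) (Lpn (LP (LK LD1_c8 LD2_c14 LD3_c5))))))))
theorem f47894 : Led Lsl_ct (LP (LK LD1_c15 LD2_c29 LD3_c36)) = (LP (LK LD1_c8 LD2_c14 LD3_c5)) :=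
  Lre_c IH (LK LD1_c15 LD2_c29 LD3_c36) (LK LD1_c8 LD2_c14 LD3_c5) Lrfl Lrfl
theorem f305852 : Led Lsl_et (LP (LK LD1_c18 LD2_c34 LD3_c46)) = (LP (LK LD1_c15 LD2_c29 LD3_c36)) :=
  Lgr Lrot158 (Lpe (f249053 IH) (Lpr_ef (f305849 IH) (Lpe (f47894 IH) (Lpn (LP (LK LD1_c15 LD2_c29 LD3_c36))))))
theorem f305857 : Led Lsl_dt (LP (LK LD1_c18 LD2_c34 LD3_c46)) = (LP (LK LD1_c28 LD2_c9 LD3_c7)) :=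
  Lre_d IH (LK LD1_c18 LD2_c34 LD3_c46) (LK LD1_c28 LD2_c9 LD3_c7) Lrfl Lrfl
theorem f323945 : Led Lsl_gf (LP (LK LD1_c24 LD2_c49 LD3_c38)) = (LP (LK LD1_c28 LD2_c9 LD3_c7)) :=
  Lgr Lrot145 (Lpe (f303299 IH) (Lpr_et (f303298 IH) (Lpr_gt (K18.f190816 IH) (Lpr_dt (K15.f223135 IH) (Lpr_gt (K18.f223167 IH) (Lpr_df (K18.f296012 IH) (Lpr_et (K15.f217975 IH) (Lpr_gt (f323939 IH) (Lpe (f305852 IH) (Lpr_dt (f305857 IH) (Lpn (LP (LK LD1_c28 LD2_c9 LD3_c7)))))))))))))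
theorem f303395 : Led Lsl_ft (LP (LK LD1_c28 LD2_c51 LD3_c35)) = (LP (LK LD1_c19 LD2_c29 LD3_c18)) :=
  Lre_f IH (LK LD1_c28 LD2_c51 LD3_c35) (LK LD1_c19 LD2_c29 LD3_c18) Lrfl Lrfl
theorem f336236 : Led Lsl_af (LP (LK LD1_c24 LD2_c49 LD3_c38)) = (LP (LK LD1_c19 LD2_c29 LD3_c18)) :=
  Lgr Lrot31 (Lpr_gf (f323945 IH) (Lpr_gf (f336224 IH) (Lpr_ft (f303395 IH) (Lpn (LP (LK LD1_c19 LD2_c29 LD3_c18))))))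
theorem f303345 : Led Lsl_et (LP (LK LD1_c5 LD2_c27 LD3_c43)) = (LP (LK LD1_c10 LD2_c46 LD3_c33)) :=
  Lre_e IH (LK LD1_c5 LD2_c27 LD3_c43) (LK LD1_c10 LD2_c46 LD3_c33) Lrfl Lrfl
theorem f274145 : Led Lsl_et (LP (LK LD1_c4 LD2_c6 LD3_c30)) = (LP (LK LD1_c8 LD2_c13 LD3_c35)) :=
  Lre_e IH (LK LD1_c4 LD2_c6 LD3_c30) (LK LD1_c8 LD2_c13 LD3_c35) Lrfl Lrfl
theorem f303349 : Led Lsl_gt (LP (LK LD1_c10 LD2_c46 LD3_c33)) = (LP (LK LD1_c8 LD2_c13 LD3_c35)) :=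
  Lgr Lrot131 (Lpe (f303345 IH) (Lpr_dt (K18.f282874 IH) (Lpr_gf (K18.f303333 IH) (Lpe (K18.f218076 IH) (Lpr_gf (K15.f218877 IH) (Lpr_ef (K11.f48105 IH) (Lpr_dt (K12.f28665 IH) (Lpe (K17.f274134 IH) (Lpe (K16.f265087 IH) (Lpr_et (f274145 IH) (Lpn (LP (LK LD1_c8 LD2_c13 LD3_c35)))))))))))))
theorem f303352 : Led Lsl_ft (LP (LK LD1_c10 LD2_c46 LD3_c33)) = (LP (LK LD1_c19 LD2_c29 LD3_c19)) :=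
  Lre_f IH (LK LD1_c10 LD2_c46 LD3_c33) (LK LD1_c19 LD2_c29 LD3_c19) Lrfl Lrfl
theorem f254195 : Led Lsl_gt (LP (LK LD1_c8 LD2_c13 LD3_c35)) = (LP (LK LD1_c15 LD2_c28 LD3_c23)) :=
  Lre_g IH (LK LD1_c8 LD2_c13 LD3_c35) (LK LD1_c15 LD2_c28 LD3_c23) Lrfl Lrfl
theorem f303353 : Led Lsl_at (LP (LK LD1_c19 LD2_c29 LD3_c19)) = (LP (LK LD1_c15 LD2_c28 LD3_c23)) :=
  Lgr Lrot26 (Lpe (f303352 IH) (Lpr_gt (f303349 IH) (Lpr_gt (f254195 IH) (Lpn (LP (LK LD1_c15 LD2_c28 LD3_c23))))))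
theorem f303388 : Led Lsl_dt (LP (LK LD1_c28 LD2_c51 LD3_c35)) = (LP (LK LD1_c19 LD2_c29 LD3_c19)) :=
  Lre_d IH (LK LD1_c28 LD2_c51 LD3_c35) (LK LD1_c19 LD2_c29 LD3_c19) Lrfl Lrfl
theorem f254196 : Led Lsl_dt (LP (LK LD1_c15 LD2_c28 LD3_c23)) = (LP (LK LD1_c25 LD2_c20 LD3_c30)) :=
  Lre_d IH (LK LD1_c15 LD2_c28 LD3_c23) (LK LD1_c25 LD2_c20 LD3_c30) Lrfl Lrfl
theorem f303389 : Led Lsl_af (LP (LK LD1_c28 LD2_c51 LD3_c35)) = (LP (LK LD1_c25 LD2_c20 LD3_c30)) :=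
  Lgr Lrot117 (Lpr_dt (f303388 IH) (Lpr_at (f303353 IH) (Lpr_dt (f254196 IH) (Lpn (LP (LK LD1_c25 LD2_c20 LD3_c30))))))
theorem f336243 : Led Lsl_ft (LP (LK LD1_c24 LD2_c49 LD3_c38)) = (LP (LK LD1_c25 LD2_c20 LD3_c30)) :=
  Lgr Lrot101 (Lpr_af (f336236 IH) (Lpe (f303395 IH) (Lpr_af (f303389 IH) (Lpn (LP (LK LD1_c25 LD2_c20 LD3_c30))))))
theorem f336247 : Led Lsl_ff (LP (LK LD1_c24 LD2_c49 LD3_c38)) = (LP (LK LD1_c25 LD2_c20 LD3_c30)) :=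
  Lgr Lrot3 (Lpr_ft (f336243 IH) (Lpn (LP (LK LD1_c25 LD2_c20 LD3_c30))))
theorem f323947 : Led Lsl_dt (LP (LK LD1_c24 LD2_c49 LD3_c38)) = (LP (LK LD1_c15 LD2_c1 LD3_c32)) :=
  Lre_d IH (LK LD1_c24 LD2_c49 LD3_c38) (LK LD1_c15 LD2_c1 LD3_c32) Lrfl Lrfl
theorem f336249 : Led Lsl_ft (LP (LK LD1_c15 LD2_c1 LD3_c32)) = (LP (LK LD1_c15 LD2_c28 LD3_c23)) :=
  Lgr Lrot54 (Lpe (f323947 IH) (Lpr_ff (f336247 IH) (Lpe (f254196 IH) (Lpn (LP (LK LD1_c15 LD2_c28 LD3_c23))))))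
theorem f303379 : Led Lsl_af (LP (LK LD1_c19 LD2_c29 LD3_c19)) = (LP (LK LD1_c15 LD2_c28 LD3_c23)) :=
  Lgr Lrot0 (Lpr_at (f303353 IH) (Lpn (LP (LK LD1_c15 LD2_c28 LD3_c23))))
theorem f336256 : Led Lsl_gt (LP (LK LD1_c15 LD2_c1 LD3_c32)) = (LP (LK LD1_c11 LD2_c5 LD3_c17)) :=
  Lgr Lrot5 (Lpr_ft (f336249 IH) (Lpe (f303379 IH) (Lpe (f336222 IH) (Lpn (LP (LK LD1_c11 LD2_c5 LD3_c17))))))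
theorem f303311 : Led Lsl_et (LP (LK LD1_c7 LD2_c57 LD3_c57)) = (LP (LK LD1_c15 LD2_c1 LD3_c32)) :=
  Lre_e IH (LK LD1_c7 LD2_c57 LD3_c57) (LK LD1_c15 LD2_c1 LD3_c32) Lrfl Lrfl
theorem f336226 : Led Lsl_ef (LP (LK LD1_c11 LD2_c5 LD3_c17)) = (LP (LK LD1_c8 LD2_c13 LD3_c3)) :=
  Lgr Lrot167 (Lpr_gt (f336222 IH) (Lpr_dt (f303396 IH) (Lpe (f336224 IH) (Lpe (f305857 IH) (Lpr_et (f305852 IH) (Lpe (f323937 IH) (Lpe (K21.f48140 IH) (Lpr_dt (K15.f28695 IH) (Lpr_gt (K15.f187983 IH) (Lpe (K15.f187990 IH) (Lpn (LP (LK LD1_c8 LD2_c13 LD3_c3)))))))))))))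
theorem f189485 : Led Lsl_dt (LP (LK LD1_c7 LD2_c57 LD3_c41)) = (LP (LK LD1_c15 LD2_c0 LD3_c61)) :=
  Lre_d IH (LK LD1_c7 LD2_c57 LD3_c41) (LK LD1_c15 LD2_c0 LD3_c61) Lrfl Lrfl
theorem f336260 : Led Lsl_gf (LP (LK LD1_c15 LD2_c1 LD3_c31)) = (LP (LK LD1_c15 LD2_c0 LD3_c61)) :=
  Lgr Lrot134 (Lpe (K18.f226818 IH) (Lpr_et (f303311 IH) (Lpr_gt (f336256 IH) (Lpr_ef (f336226 IH) (Lpr_dt (K15.f187990 IH) (Lpe (K15.f187995 IH) (Lpe (K12.f54388 IH) (Lpe (K15.f54376 IH) (Lpr_gt (K16.f278129 IH) (Lpr_dt (f189485 IH) (Lpn (LP (LK LD1_c15 LD2_c0 LD3_c61)))))))))))))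
theorem f336262 : Led Lsl_ct (LP (LK LD1_c10 LD2_c32 LD3_c36)) = (LP (LK LD1_c15 LD2_c0 LD3_c61)) :=
  Lgr Lrot8 (Lpr_gt (K18.f253990 IH) (Lpr_dt (K15.f182267 IH) (Lpr_gt (K15.f260886 IH) (Lpr_dt (K15.f260888 IH) (Lpe (K15.f267560 IH) (Lpe (K15.f223135 IH) (Lpe (K18.f190816 IH) (Lpe (K18.f226815 IH) (Lpr_gf (f336260 IH) (Lpn (LP (LK LD1_c15 LD2_c0 LD3_c61))))))))))))
theorem f42756 : Led Lsl_ct (LP (LK LD1_c7 LD2_c57 LD3_c51)) = (LP (LK LD1_c3 LD2_c58 LD3_c14)) :=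
  Lre_c IH (LK LD1_c7 LD2_c57 LD3_c51) (LK LD1_c3 LD2_c58 LD3_c14) Lrfl Lrfl
theorem f336266 : Led Lsl_gt (LP (LK LD1_c8 LD2_c20 LD3_c36)) = (LP (LK LD1_c10 LD2_c32 LD3_c36)) :=
  Lgr Lrot9 (Lpe (K16.f233312 IH) (Lpe (K15.f233291 IH) (Lpr_ct (f42756 IH) (Lpr_gt (K15.f218082 IH) (Lpr_ct (K15.f179611 IH) (Lpe (K20.f303312 IH) (Lpe (K20.f303300 IH) (Lpr_gf (f336260 IH) (Lpe (f336262 IH) (Lpn (LP (LK LD1_c10 LD2_c32 LD3_c36))))))))))))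
theorem f336268 : Led Lsl_df (LP (LK LD1_c8 LD2_c22 LD3_c8)) = (LP (LK LD1_c4 LD2_c17 LD3_c23)) :=
  Lgr Lrot162 (Lpe (K20.f303300 IH) (Lpr_gf (f336260 IH) (Lpe (f336262 IH) (Lpe (f336266 IH) (Lpr_dt (K19.f233293 IH) (Lpe (K15.f233291 IH) (Lpr_ct (f42756 IH) (Lpr_gt (K15.f218082 IH) (Lpr_ct (K15.f179611 IH) (Lpn (LP (LK LD1_c4 LD2_c17 LD3_c23))))))))))))
theorem f278492 : Led Lsl_et (LP (LK LD1_c2 LD2_c2 LD3_c49)) = (LP (LK LD1_c4 LD2_c11 LD3_c7)) :=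
  Lre_e IH (LK LD1_c2 LD2_c2 LD3_c49) (LK LD1_c4 LD2_c11 LD3_c7) Lrfl Lrfl
theorem f215484 : Led Lsl_gt (LP (LK LD1_c4 LD2_c11 LD3_c7)) = (LP (LK LD1_c8 LD2_c22 LD3_c10)) :=
  Lre_g IH (LK LD1_c4 LD2_c11 LD3_c7) (LK LD1_c8 LD2_c22 LD3_c10) Lrfl Lrfl
theorem f307845 : Led Lsl_dt (LP (LK LD1_c8 LD2_c22 LD3_c10)) = (LP (LK LD1_c15 LD2_c45 LD3_c2)) :=
  Lre_d IH (LK LD1_c8 LD2_c22 LD3_c10) (LK LD1_c15 LD2_c45 LD3_c2) Lrfl Lrfl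
theorem f295967 : Led Lsl_ct (LP (LK LD1_c5 LD2_c23 LD3_c54)) = (LP (LK LD1_c10 LD2_c38 LD3_c24)) :=
  Lre_c IH (LK LD1_c5 LD2_c23 LD3_c54) (LK LD1_c10 LD2_c38 LD3_c24) Lrfl Lrfl
theorem f307879 : Led Lsl_et (LP (LK LD1_c10 LD2_c38 LD3_c24)) = (LP (LK LD1_c16 LD2_c4 LD3_c28)) :=
  Lgr Lrot158 (Lpe (f295967 IH) (Lpr_ef (K19.f307766 IH) (Lpe (K20.f302923 IH) (Lpn (LP (LK LD1_c16 LD2_c4 LD3_c28))))))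
theorem f295974 : Led Lsl_dt (LP (LK LD1_c10 LD2_c38 LD3_c24)) = (LP (LK LD1_c19 LD2_c16 LD3_c31)) :=
  Lre_d IH (LK LD1_c10 LD2_c38 LD3_c24) (LK LD1_c19 LD2_c16 LD3_c31) Lrfl Lrfl
theorem f336281 : Led Lsl_gt (LP (LK LD1_c15 LD2_c45 LD3_c2)) = (LP (LK LD1_c19 LD2_c16 LD3_c31)) :=
  Lgr Lrot139 (Lpe (f307845 IH) (Lpe (f215484 IH) (Lpe (f278492 IH) (Lpr_dt (K17.f219791 IH) (Lpe (K18.f51526 IH) (Lpr_df (f336268 IH) (Lpr_et (K20.f179623 IH) (Lpr_gf (K20.f316263 IH) (Lpe (f307879 IH) (Lpr_dt (f295974 IH) (Lpn (LP (LK LD1_c19 LD2_c16 LD3_c31)))))))))))))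
theorem f336284 : Led Lsl_et (LP (LK LD1_c8 LD2_c22 LD3_c10)) = (LP (LK LD1_c15 LD2_c45 LD3_c3)) :=
  Lre_e IH (LK LD1_c8 LD2_c22 LD3_c10) (LK LD1_c15 LD2_c45 LD3_c3) Lrfl Lrfl
theorem f310165 : Led Lsl_dt (LP (LK LD1_c8 LD2_c34 LD3_c31)) = (LP (LK LD1_c16 LD2_c5 LD3_c37)) :=
  Lre_d IH (LK LD1_c8 LD2_c34 LD3_c31) (LK LD1_c16 LD2_c5 LD3_c37) Lrfl Lrfl
theorem f336285 : Led Lsl_gf (LP (LK LD1_c15 LD2_c45 LD3_c3)) = (LP (LK LD1_c8 LD2_c22 LD3_c50)) :=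
  Lgr Lrot141 (Lpe (f336284 IH) (Lpr_dt (f307845 IH) (Lpr_gt (f336281 IH) (Lpe (f295974 IH) (Lpr_et (f307879 IH) (Lpe (K20.f316263 IH) (Lpr_dt (K20.f179666 IH) (Lpr_gt (K20.f316261 IH) (Lpe (f310165 IH) (Lpe (K19.f310154 IH) (Lpn (LP (LK LD1_c8 LD2_c22 LD3_c50)))))))))))))
theorem f336287 : Led Lsl_at (LP (LK LD1_c4 LD2_c11 LD3_c30)) = (LP (LK LD1_c8 LD2_c22 LD3_c33)) :=
  Lre_a IH (LK LD1_c4 LD2_c11 LD3_c30) (LK LD1_c8 LD2_c22 LD3_c33) Lrfl Lrfl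
theorem f336288 : Led Lsl_gt (LP (LK LD1_c15 LD2_c45 LD3_c3)) = (LP (LK LD1_c8 LD2_c22 LD3_c33)) :=
  Lgr Lrot46 (Lpr_gf (f336285 IH) (Lpr_ft (K19.f310152 IH) (Lpr_at (f336287 IH) (Lpn (LP (LK LD1_c8 LD2_c22 LD3_c33))))))
theorem f237532 : Led Lsl_gt (LP (LK LD1_c9 LD2_c37 LD3_c57)) = (LP (LK LD1_c17 LD2_c43 LD3_c30)) :=
  Lre_g IH (LK LD1_c9 LD2_c37 LD3_c57) (LK LD1_c17 LD2_c43 LD3_c30) Lrfl Lrfl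
theorem f336291 : Led Lsl_cf (LP (LK LD1_c15 LD2_c45 LD3_c3)) = (LP (LK LD1_c17 LD2_c43 LD3_c30)) :=
  Lgr Lrot169 (Lpr_gt (f336288 IH) (Lpr_ct (K18.f200246 IH) (Lpr_df (K20.f300346 IH) (Lpe (K18.f182231 IH) (Lpe (f183995 IH) (Lpr_cf (f327493 IH) (Lpr_gf (f331433 IH) (Lpr_df (K16.f279351 IH) (Lpr_gt (f237532 IH) (Lpn (LP (LK LD1_c17 LD2_c43 LD3_c30))))))))))))
theorem f336278 : Led Lsl_et (LP (LK LD1_c15 LD2_c45 LD3_c3)) = (LP (LK LD1_c8 LD2_c22 LD3_c10)) :=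
  Lre_e IH (LK LD1_c15 LD2_c45 LD3_c3) (LK LD1_c8 LD2_c22 LD3_c10) Lrfl Lrfl
theorem f215485 : Led Lsl_ct (LP (LK LD1_c8 LD2_c22 LD3_c10)) = (LP (LK LD1_c15 LD2_c45 LD3_c1)) :=
  Lre_c IH (LK LD1_c8 LD2_c22 LD3_c10) (LK LD1_c15 LD2_c45 LD3_c1) Lrfl Lrfl
theorem f336308 : Led Lsl_et (LP (LK LD1_c15 LD2_c45 LD3_c1)) = (LP (LK LD1_c17 LD2_c43 LD3_c30)) :=
  Lgr Lrot158 (Lpe (f215485 IH) (Lpe (f336278 IH) (Lpr_cf (f336291 IH) (Lpn (LP (LK LD1_c17 LD2_c43 LD3_c30))))))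
theorem f336310 : Led Lsl_ef (LP (LK LD1_c15 LD2_c45 LD3_c1)) = (LP (LK LD1_c17 LD2_c43 LD3_c30)) :=
  Lgr Lrot88 (Lpr_et (f336308 IH) (Lpn (LP (LK LD1_c17 LD2_c43 LD3_c30))))
theorem f190806 : Led Lsl_gt (LP (LK LD1_c17 LD2_c45 LD3_c38)) = (LP (LK LD1_c9 LD2_c39 LD3_c25)) :=
  Lre_g IH (LK LD1_c17 LD2_c45 LD3_c38) (LK LD1_c9 LD2_c39 LD3_c25) Lrfl Lrfl
theorem f336314 : Led Lsl_df (LP (LK LD1_c17 LD2_c45 LD3_c38)) = (LP (LK LD1_c17 LD2_c43 LD3_c30)) :=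
  Lgr Lrot170 (Lpr_gt (f190806 IH) (Lpe (K12.f190797 IH) (Lpr_et (K12.f188693 IH) (Lpr_gt (K15.f218082 IH) (Lpr_dt (K16.f219301 IH) (Lpe (K15.f257935 IH) (Lpr_df (K14.f189241 IH) (Lpr_et (K19.f189261 IH) (Lpr_gt (K19.f307816 IH) (Lpr_ef (f336310 IH) (Lpn (LP (LK LD1_c17 LD2_c43 LD3_c30)))))))))))))
theorem f336306 : Led Lsl_ct (LP (LK LD1_c15 LD2_c45 LD3_c3)) = (LP (LK LD1_c17 LD2_c43 LD3_c30)) :=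
  Lgr Lrot59 (Lpr_cf (f336291 IH) (Lpn (LP (LK LD1_c17 LD2_c43 LD3_c30))))
theorem f248397 : Led Lsl_gt (LP (LK LD1_c8 LD2_c52 LD3_c35)) = (LP (LK LD1_c5 LD2_c18 LD3_c35)) :=
  Lgr Lrot46 (Lpe (K21.f248315 IH) (Lpr_ft (K14.f248311 IH) (Lpr_at (K21.f248390 IH) (Lpn (LP (LK LD1_c5 LD2_c18 LD3_c35))))))
theorem f248373 : Led Lsl_gt (LP (LK LD1_c16 LD2_c35 LD3_c40)) = (LP (LK LD1_c8 LD2_c52 LD3_c34)) :=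
  Lre_g IH (LK LD1_c16 LD2_c35 LD3_c40) (LK LD1_c8 LD2_c52 LD3_c34) Lrfl Lrfl
theorem f248383 : Led Lsl_gf (LP (LK LD1_c16 LD2_c35 LD3_c40)) = (LP (LK LD1_c10 LD2_c26 LD3_c48)) :=
  Lgr Lrot47 (Lpr_gt (f248373 IH) (Lpr_af (K14.f248368 IH) (Lpe (K14.f178636 IH) (Lpn (LP (LK LD1_c10 LD2_c26 LD3_c48))))))
theorem f336318 : Led Lsl_cf (LP (LK LD1_c17 LD2_c45 LD3_c38)) = (LP (LK LD1_c16 LD2_c35 LD3_c40)) :=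
  Lgr Lrot99 (Lpr_df (f336314 IH) (Lpe (f336306 IH) (Lpr_gf (f336285 IH) (Lpe (K19.f200232 IH) (Lpe (K20.f200261 IH) (Lpe (K21.f302810 IH) (Lpr_gt (f248397 IH) (Lpr_ct (K14.f178600 IH) (Lpe (f248383 IH) (Lpn (LP (LK LD1_c16 LD2_c35 LD3_c40))))))))))))
theorem f300907 : Led Lsl_dt (LP (LK LD1_c4 LD2_c11 LD3_c8)) = (LP (LK LD1_c8 LD2_c22 LD3_c16)) :=
  Lre_d IH (LK LD1_c4 LD2_c11 LD3_c8) (LK LD1_c8 LD2_c22 LD3_c16) Lrfl Lrfl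
theorem f215538 : Led Lsl_et (LP (LK LD1_c8 LD2_c22 LD3_c17)) = (LP (LK LD1_c4 LD2_c11 LD3_c8)) :=
  Lre_e IH (LK LD1_c8 LD2_c22 LD3_c17) (LK LD1_c4 LD2_c11 LD3_c8) Lrfl Lrfl
theorem f325673 : Led Lsl_df (LP (LK LD1_c8 LD2_c22 LD3_c17)) = (LP (LK LD1_c8 LD2_c52 LD3_c36)) :=
  Lgr Lrot70 (Lpr_et (f215538 IH) (Lpr_dt (f300907 IH) (Lpr_et (K21.f325656 IH) (Lpr_dt (K21.f268060 IH) (Lpr_et (K21.f325671 IH) (Lpn (LP (LK LD1_c8 LD2_c52 LD3_c36))))))))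
theorem f325646 : Led Lsl_et (LP (LK LD1_c4 LD2_c11 LD3_c8)) = (LP (LK LD1_c8 LD2_c22 LD3_c17)) :=
  Lre_e IH (LK LD1_c4 LD2_c11 LD3_c8) (LK LD1_c8 LD2_c22 LD3_c17) Lrfl Lrfl
theorem f325647 : Led Lsl_gt (LP (LK LD1_c8 LD2_c22 LD3_c17)) = (LP (LK LD1_c4 LD2_c11 LD3_c25)) :=
  Lgr Lrot137 (Lpe (f325646 IH) (Lpr_dt (f300907 IH) (Lpr_gf (K21.f325642 IH) (Lpr_df (K16.f256514 IH) (Lpr_et (K20.f322470 IH) (Lpe (K21.f322500 IH) (Lpe (K21.f182225 IH) (Lpe (K21.f182223 IH) (Lpe (K9.f44077 IH) (Lpe (K18.f300341 IH) (Lpn (LP (LK LD1_c4 LD2_c11 LD3_c25)))))))))))))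
theorem f182239 : Led Lsl_dt (LP (LK LD1_c10 LD2_c28 LD3_c22)) = (LP (LK LD1_c5 LD2_c19 LD3_c17)) :=
  Lre_d IH (LK LD1_c10 LD2_c28 LD3_c22) (LK LD1_c5 LD2_c19 LD3_c17) Lrfl Lrfl
theorem f182240 : Led Lsl_gt (LP (LK LD1_c18 LD2_c58 LD3_c51)) = (LP (LK LD1_c10 LD2_c28 LD3_c22)) :=
  Lre_g IH (LK LD1_c18 LD2_c58 LD3_c51) (LK LD1_c10 LD2_c28 LD3_c22) Lrfl Lrfl
theorem f178618 : Led Lsl_ct (LP (LK LD1_c10 LD2_c26 LD3_c48)) = (LP (LK LD1_c5 LD2_c18 LD3_c35)) :=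
  Lre_c IH (LK LD1_c10 LD2_c26 LD3_c48) (LK LD1_c5 LD2_c18 LD3_c35) Lrfl Lrfl
theorem f325700 : Led Lsl_df (LP (LK LD1_c18 LD2_c58 LD3_c51)) = (LP (LK LD1_c16 LD2_c35 LD3_c40)) :=
  Lgr Lrot153 (Lpr_gt (f182240 IH) (Lpr_dt (f182239 IH) (Lpe (K9.f182226 IH) (Lpe (K18.f300341 IH) (Lpe (f325647 IH) (Lpr_df (f325673 IH) (Lpr_gf (K21.f248399 IH) (Lpe (f178618 IH) (Lpe (f248383 IH) (Lpn (LP (LK LD1_c16 LD2_c35 LD3_c40))))))))))))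
theorem f185567 : Led Lsl_gt (LP (LK LD1_c5 LD2_c18 LD3_c22)) = (LP (LK LD1_c10 LD2_c26 LD3_c28)) :=
  Lre_g IH (LK LD1_c5 LD2_c18 LD3_c22) (LK LD1_c10 LD2_c26 LD3_c28) Lrfl Lrfl
theorem f325705 : Led Lsl_ef (LP (LK LD1_c10 LD2_c26 LD3_c28)) = (LP (LK LD1_c16 LD2_c35 LD3_c40)) :=
  Lgr Lrot17 (Lpe (f185567 IH) (Lpe (K19.f185492 IH) (Lpr_dt (K14.f185501 IH) (Lpr_gf (K15.f257529 IH) (Lpe (K15.f257531 IH) (Lpe (K15.f257540 IH) (Lpe (K18.f257544 IH) (Lpr_dt (K18.f257545 IH) (Lpe (f182240 IH) (Lpr_df (f325700 IH) (Lpn (LP (LK LD1_c16 LD2_c35 LD3_c40)))))))))))))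
theorem f325709 : Led Lsl_et (LP (LK LD1_c10 LD2_c26 LD3_c28)) = (LP (LK LD1_c16 LD2_c35 LD3_c40)) :=
  Lgr Lrot87 (Lpr_ef (f325705 IH) (Lpn (LP (LK LD1_c16 LD2_c35 LD3_c40))))
theorem f42356 : Led Lsl_gt (LP (LK LD1_c5 LD2_c25 LD3_c44)) = (LP (LK LD1_c10 LD2_c42 LD3_c47)) :=
  Lre_g IH (LK LD1_c5 LD2_c25 LD3_c44) (LK LD1_c10 LD2_c42 LD3_c47) Lrfl Lrfl
theorem f258142 : Led Lsl_df (LP (LK LD1_c10 LD2_c28 LD3_c40)) = (LP (LK LD1_c10 LD2_c16 LD3_c46)) :=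
  Lgr Lrot38 (Lpr_dt (K15.f258118 IH) (Lpn (LP (LK LD1_c10 LD2_c16 LD3_c46))))
theorem f325733 : Led Lsl_dt (LP (LK LD1_c2 LD2_c38 LD3_c45)) = (LP (LK LD1_c5 LD2_c24 LD3_c26)) :=
  Lre_d IH (LK LD1_c2 LD2_c38 LD3_c45) (LK LD1_c5 LD2_c24 LD3_c26) Lrfl Lrfl
theorem f335291 : Led Lsl_gf (LP (LK LD1_c10 LD2_c28 LD3_c40)) = (LP (LK LD1_c5 LD2_c24 LD3_c26)) :=
  Lgr Lrot134 (Lpr_df (f258142 IH) (Lpe (K15.f246152 IH) (Lpr_gt (f42356 IH) (Lpe (K21.f42349 IH) (Lpr_dt (K21.f42319 IH) (Lpr_gt (f335286 IH) (Lpe (K20.f194492 IH) (Lpe (f330242 IH) (Lpe (f335278 IH) (Lpr_dt (f325733 IH) (Lpn (LP (LK LD1_c5 LD2_c24 LD3_c26)))))))))))))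
theorem f253432 : Led Lsl_gt (LP (LK LD1_c5 LD2_c21 LD3_c9)) = (LP (LK LD1_c2 LD2_c37 LD3_c37)) :=
  Lre_g IH (LK LD1_c5 LD2_c21 LD3_c9) (LK LD1_c2 LD2_c37 LD3_c37) Lrfl Lrfl
theorem f41473 : Led Lsl_dt (LP (LK LD1_c10 LD2_c32 LD3_c27)) = (LP (LK LD1_c5 LD2_c21 LD3_c9)) :=
  Lre_d IH (LK LD1_c10 LD2_c32 LD3_c27) (LK LD1_c5 LD2_c21 LD3_c9) Lrfl Lrfl
theorem f42376 : Led Lsl_dt (LP (LK LD1_c4 LD2_c27 LD3_c57)) = (LP (LK LD1_c2 LD2_c11 LD3_c6)) :=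
  Lre_d IH (LK LD1_c4 LD2_c27 LD3_c57) (LK LD1_c2 LD2_c11 LD3_c6) Lrfl Lrfl
theorem f253436 : Led Lsl_gf (LP (LK LD1_c10 LD2_c32 LD3_c27)) = (LP (LK LD1_c10 LD2_c31 LD3_c10)) :=
  Lgr Lrot138 (Lpr_dt (f41473 IH) (Lpr_gt (f253432 IH) (Lpr_df (K21.f7637 IH) (Lpr_et (K21.f253431 IH) (Lpr_gt (K14.f253421 IH) (Lpe (K13.f42377 IH) (Lpr_dt (f42376 IH) (Lpr_gt (K21.f42299 IH) (Lpr_df (f42354 IH) (Lpr_et (K21.f42313 IH) (Lpn (LP (LK LD1_c10 LD2_c31 LD3_c10)))))))))))))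
theorem f41466 : Led Lsl_dt (LP (LK LD1_c5 LD2_c21 LD3_c9)) = (LP (LK LD1_c10 LD2_c32 LD3_c27)) :=
  Lre_d IH (LK LD1_c5 LD2_c21 LD3_c9) (LK LD1_c10 LD2_c32 LD3_c27) Lrfl Lrfl
theorem f185448 : Led Lsl_gt (LP (LK LD1_c5 LD2_c18 LD3_c24)) = (LP (LK LD1_c2 LD2_c35 LD3_c51)) :=
  Lre_g IH (LK LD1_c5 LD2_c18 LD3_c24) (LK LD1_c2 LD2_c35 LD3_c51) Lrfl Lrfl
theorem f268046 : Led Lsl_gt (LP (LK LD1_c5 LD2_c19 LD3_c27)) = (LP (LK LD1_c5 LD2_c18 LD3_c24)) :=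
  Lgr Lrot5 (Lpr_ft (K15.f230577 IH) (Lpr_at (K15.f268037 IH) (Lpe (f185448 IH) (Lpn (LP (LK LD1_c5 LD2_c18 LD3_c24))))))
theorem f268051 : Led Lsl_dt (LP (LK LD1_c10 LD2_c26 LD3_c36)) = (LP (LK LD1_c5 LD2_c18 LD3_c24)) :=
  Lre_d IH (LK LD1_c10 LD2_c26 LD3_c36) (LK LD1_c5 LD2_c18 LD3_c24) Lrfl Lrfl
theorem f278546 : Led Lsl_et (LP (LK LD1_c10 LD2_c26 LD3_c36)) = (LP (LK LD1_c5 LD2_c21 LD3_c9)) :=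
  Lgr Lrot185 (Lpr_dt (f268051 IH) (Lpe (f268046 IH) (Lpe (K21.f230600 IH) (Lpr_gf (K20.f278536 IH) (Lpe (K14.f230794 IH) (Lpr_dt (K14.f179078 IH) (Lpe (K9.f9092 IH) (Lpe (K10.f45819 IH) (Lpr_et (K21.f192862 IH) (Lpe (f253432 IH) (Lpn (LP (LK LD1_c5 LD2_c21 LD3_c9)))))))))))))
theorem f278550 : Led Lsl_ef (LP (LK LD1_c10 LD2_c26 LD3_c36)) = (LP (LK LD1_c5 LD2_c21 LD3_c9)) :=
  Lgr Lrot88 (Lpr_et (f278546 IH) (Lpn (LP (LK LD1_c5 LD2_c21 LD3_c9))))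
theorem f325734 : Led Lsl_et (LP (LK LD1_c2 LD2_c38 LD3_c45)) = (LP (LK LD1_c5 LD2_c24 LD3_c27)) :=
  Lre_e IH (LK LD1_c2 LD2_c38 LD3_c45) (LK LD1_c5 LD2_c24 LD3_c27) Lrfl Lrfl
theorem f335293 : Led Lsl_gt (LP (LK LD1_c10 LD2_c26 LD3_c36)) = (LP (LK LD1_c5 LD2_c24 LD3_c27)) :=
  Lgr Lrot131 (Lpr_ef (f278550 IH) (Lpr_dt (f41466 IH) (Lpr_gf (f253436 IH) (Lpe (K21.f42352 IH) (Lpe (f42356 IH) (Lpr_ef (K15.f246152 IH) (Lpe (f258142 IH) (Lpr_gf (f335291 IH) (Lpe (f325733 IH) (Lpr_et (f325734 IH) (Lpn (LP (LK LD1_c5 LD2_c24 LD3_c27)))))))))))))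
theorem f325737 : Led Lsl_ct (LP (LK LD1_c5 LD2_c24 LD3_c27)) = (LP (LK LD1_c10 LD2_c39 LD3_c36)) :=
  Lre_c IH (LK LD1_c5 LD2_c24 LD3_c27) (LK LD1_c10 LD2_c39 LD3_c36) Lrfl Lrfl
theorem f325738 : Led Lsl_gt (LP (LK LD1_c10 LD2_c39 LD3_c36)) = (LP (LK LD1_c19 LD2_c18 LD3_c18)) :=
  Lre_g IH (LK LD1_c10 LD2_c39 LD3_c36) (LK LD1_c19 LD2_c18 LD3_c18) Lrfl Lrfl
theorem f224285 : Led Lsl_gt (LP (LK LD1_c10 LD2_c36 LD3_c4)) = (LP (LK LD1_c19 LD2_c11 LD3_c53)) :=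
  Lre_g IH (LK LD1_c10 LD2_c36 LD3_c4) (LK LD1_c19 LD2_c11 LD3_c53) Lrfl Lrfl
theorem f325730 : Led Lsl_gf (LP (LK LD1_c5 LD2_c24 LD3_c26)) = (LP (LK LD1_c10 LD2_c39 LD3_c34)) :=
  Lgr Lrot138 (Lpr_dt (f306520 IH) (Lpr_gt (f195899 IH) (Lpe (K21.f195909 IH) (Lpe (K21.f306517 IH) (Lpe (K20.f264918 IH) (Lpe (K18.f230535 IH) (Lpe (K20.f300346 IH) (Lpr_gt (K21.f300357 IH) (Lpe (K21.f302810 IH) (Lpr_et (K21.f325726 IH) (Lpn (LP (LK LD1_c10 LD2_c39 LD3_c34)))))))))))))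
theorem f325735 : Led Lsl_gt (LP (LK LD1_c5 LD2_c24 LD3_c27)) = (LP (LK LD1_c10 LD2_c26 LD3_c34)) :=
  Lgr Lrot137 (Lpe (f325734 IH) (Lpr_dt (f325733 IH) (Lpr_gf (f325730 IH) (Lpe (K21.f325720 IH) (Lpr_et (K21.f325640 IH) (Lpe (K20.f309170 IH) (Lpe (K19.f276869 IH) (Lpr_dt (K21.f230600 IH) (Lpr_gf (K21.f268058 IH) (Lpe (K21.f268060 IH) (Lpn (LP (LK LD1_c10 LD2_c26 LD3_c34)))))))))))))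
theorem f276995 : Led Lsl_gt (LP (LK LD1_c19 LD2_c11 LD3_c53)) = (LP (LK LD1_c28 LD2_c26 LD3_c47)) :=
  Lgr Lrot46 (Lpe (f224285 IH) (Lpr_ft (K16.f276987 IH) (Lpe (K15.f258196 IH) (Lpn (LP (LK LD1_c28 LD2_c26 LD3_c47))))))
theorem f325739 : Led Lsl_dt (LP (LK LD1_c19 LD2_c18 LD3_c18)) = (LP (LK LD1_c19 LD2_c11 LD3_c53)) :=
  Lgr Lrot57 (Lpe (f325738 IH) (Lpe (f325737 IH) (Lpr_gt (f325735 IH) (Lpr_dt (K21.f268060 IH) (Lpe (K21.f268058 IH) (Lpr_dt (K15.f230596 IH) (Lpe (K16.f258168 IH) (Lpe (K15.f258206 IH) (Lpe (f276995 IH) (Lpn (LP (LK LD1_c19 LD2_c11 LD3_c53))))))))))))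
theorem f325748 : Led Lsl_df (LP (LK LD1_c19 LD2_c18 LD3_c18)) = (LP (LK LD1_c19 LD2_c11 LD3_c53)) :=
  Lgr Lrot38 (Lpr_dt (f325739 IH) (Lpn (LP (LK LD1_c19 LD2_c11 LD3_c53))))
theorem f258985 : Led Lsl_gt (LP (LK LD1_c8 LD2_c4 LD3_c9)) = (LP (LK LD1_c15 LD2_c11 LD3_c23)) :=
  Lre_g IH (LK LD1_c8 LD2_c4 LD3_c9) (LK LD1_c15 LD2_c11 LD3_c23) Lrfl Lrfl
theorem f258986 : Led Lsl_dt (LP (LK LD1_c15 LD2_c11 LD3_c23)) = (LP (LK LD1_c25 LD2_c0 LD3_c31)) :=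
  Lre_d IH (LK LD1_c15 LD2_c11 LD3_c23) (LK LD1_c25 LD2_c0 LD3_c31) Lrfl Lrfl
theorem f333595 : Led Lsl_ct (LP (LK LD1_c19 LD2_c18 LD3_c18)) = (LP (LK LD1_c25 LD2_c0 LD3_c31)) :=
  Lgr Lrot7 (Lpr_df (f325748 IH) (Lpe (f224285 IH) (Lpe (K16.f224150 IH) (Lpe (f276955 IH) (Lpr_cf (f333452 IH) (Lpr_gt (f244474 IH) (Lpr_dt (K20.f321717 IH) (Lpr_gt (f258985 IH) (Lpr_dt (f258986 IH) (Lpn (LP (LK LD1_c25 LD2_c0 LD3_c31))))))))))))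
theorem f335297 : Led Lsl_ct (LP (LK LD1_c10 LD2_c26 LD3_c28)) = (LP (LK LD1_c15 LD2_c11 LD3_c23)) :=
  Lgr Lrot110 (Lpe (f185567 IH) (Lpe (f185486 IH) (Lpe (f185448 IH) (Lpe (f268051 IH) (Lpr_gt (f335293 IH) (Lpr_ct (f325737 IH) (Lpr_gt (f325738 IH) (Lpr_ct (f333595 IH) (Lpe (f258986 IH) (Lpn (LP (LK LD1_c15 LD2_c11 LD3_c23))))))))))))
theorem f335301 : Led Lsl_cf (LP (LK LD1_c10 LD2_c26 LD3_c28)) = (LP (LK LD1_c15 LD2_c11 LD3_c23)) :=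
  Lgr Lrot11 (Lpr_ct (f335297 IH) (Lpn (LP (LK LD1_c15 LD2_c11 LD3_c23))))
theorem f336322 : Led Lsl_et (LP (LK LD1_c17 LD2_c45 LD3_c38)) = (LP (LK LD1_c15 LD2_c11 LD3_c23)) :=
  Lgr Lrot158 (Lpr_cf (f336318 IH) (Lpe (f325709 IH) (Lpr_cf (f335301 IH) (Lpn (LP (LK LD1_c15 LD2_c11 LD3_c23))))))
theorem f336326 : Led Lsl_ef (LP (LK LD1_c17 LD2_c45 LD3_c38)) = (LP (LK LD1_c15 LD2_c11 LD3_c23)) :=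
  Lgr Lrot88 (Lpr_et (f336322 IH) (Lpn (LP (LK LD1_c15 LD2_c11 LD3_c23))))
theorem f336316 : Led Lsl_dt (LP (LK LD1_c17 LD2_c45 LD3_c38)) = (LP (LK LD1_c17 LD2_c43 LD3_c30)) :=
  Lgr Lrot42 (Lpr_df (f336314 IH) (Lpn (LP (LK LD1_c17 LD2_c43 LD3_c30))))
theorem f215486 : Led Lsl_dt (LP (LK LD1_c15 LD2_c45 LD3_c1)) = (LP (LK LD1_c25 LD2_c41 LD3_c45)) :=
  Lre_d IH (LK LD1_c15 LD2_c45 LD3_c1) (LK LD1_c25 LD2_c41 LD3_c45) Lrfl Lrfl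
theorem f321723 : Led Lsl_dt (LP (LK LD1_c25 LD2_c0 LD3_c31)) = (LP (LK LD1_c15 LD2_c11 LD3_c23)) :=
  Lre_d IH (LK LD1_c25 LD2_c0 LD3_c31) (LK LD1_c15 LD2_c11 LD3_c23) Lrfl Lrfl
theorem f336328 : Led Lsl_et (LP (LK LD1_c25 LD2_c41 LD3_c45)) = (LP (LK LD1_c25 LD2_c0 LD3_c31)) :=
  Lgr Lrot71 (Lpe (f215486 IH) (Lpr_ef (f336310 IH) (Lpe (f336316 IH) (Lpr_ef (f336326 IH) (Lpe (f321723 IH) (Lpn (LP (LK LD1_c25 LD2_c0 LD3_c31))))))))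
theorem f215543 : Led Lsl_dt (LP (LK LD1_c25 LD2_c41 LD3_c45)) = (LP (LK LD1_c15 LD2_c45 LD3_c1)) :=
  Lre_d IH (LK LD1_c25 LD2_c41 LD3_c45) (LK LD1_c15 LD2_c45 LD3_c1) Lrfl Lrfl
theorem f230764 : Led Lsl_gt (LP (LK LD1_c18 LD2_c5 LD3_c15)) = (LP (LK LD1_c9 LD2_c52 LD3_c58)) :=
  Lre_g IH (LK LD1_c18 LD2_c5 LD3_c15) (LK LD1_c9 LD2_c52 LD3_c58) Lrfl Lrfl
theorem f230767 : Led Lsl_dt (LP (LK LD1_c27 LD2_c46 LD3_c35)) = (LP (LK LD1_c18 LD2_c5 LD3_c15)) :=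
  Lre_d IH (LK LD1_c27 LD2_c46 LD3_c35) (LK LD1_c18 LD2_c5 LD3_c15) Lrfl Lrfl
theorem f336330 : Led Lsl_gf (LP (LK LD1_c27 LD2_c46 LD3_c35)) = (LP (LK LD1_c25 LD2_c0 LD3_c31)) :=
  Lgr Lrot138 (Lpr_dt (f230767 IH) (Lpr_gt (f230764 IH) (Lpe (K14.f254250 IH) (Lpr_et (K14.f254240 IH) (Lpe (K15.f265583 IH) (Lpe (K19.f216464 IH) (Lpr_dt (K19.f216435 IH) (Lpr_gt (K19.f307816 IH) (Lpe (f215543 IH) (Lpr_et (f336328 IH) (Lpn (LP (LK LD1_c25 LD2_c0 LD3_c31)))))))))))))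
theorem f230765 : Led Lsl_dt (LP (LK LD1_c18 LD2_c5 LD3_c15)) = (LP (LK LD1_c27 LD2_c46 LD3_c35)) :=
  Lre_d IH (LK LD1_c18 LD2_c5 LD3_c15) (LK LD1_c27 LD2_c46 LD3_c35) Lrfl Lrfl
theorem f43818 : Led Lsl_dt (LP (LK LD1_c1 LD2_c9 LD3_c42)) = (LP (LK LD1_c2 LD2_c24 LD3_c58)) :=
  Lre_d IH (LK LD1_c1 LD2_c9 LD3_c42) (LK LD1_c2 LD2_c24 LD3_c58) Lrfl Lrfl
theorem f282119 : Led Lsl_dt (LP (LK LD1_c5 LD2_c8 LD3_c44)) = (LP (LK LD1_c4 LD2_c6 LD3_c29)) :=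
  Lgr Lrot105 (Lpr_gf (K17.f282117 IH) (Lpe (K14.f43824 IH) (Lpe (K9.f43820 IH) (Lpe (K10.f43405 IH) (Lpr_gt (K12.f43814 IH) (Lpr_dt (f43818 IH) (Lpe (K15.f247993 IH) (Lpr_dt (K15.f248042 IH) (Lpe (K15.f231819 IH) (Lpn (LP (LK LD1_c4 LD2_c6 LD3_c29))))))))))))
theorem f282145 : Led Lsl_gt (LP (LK LD1_c18 LD2_c27 LD3_c17)) = (LP (LK LD1_c10 LD2_c7 LD3_c54)) :=
  Lre_g IH (LK LD1_c18 LD2_c27 LD3_c17) (LK LD1_c10 LD2_c7 LD3_c54) Lrfl Lrfl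
theorem f336332 : Led Lsl_et (LP (LK LD1_c18 LD2_c5 LD3_c15)) = (LP (LK LD1_c18 LD2_c27 LD3_c17)) :=
  Lgr Lrot185 (Lpr_dt (f230765 IH) (Lpr_gf (f336330 IH) (Lpe (f258986 IH) (Lpe (f258985 IH) (Lpe (K18.f258956 IH) (Lpr_dt (K15.f260257 IH) (Lpe (K15.f260269 IH) (Lpe (f282119 IH) (Lpr_et (K17.f282129 IH) (Lpe (f282145 IH) (Lpn (LP (LK LD1_c18 LD2_c27 LD3_c17)))))))))))))
theorem f336336 : Led Lsl_gf (LP (LK LD1_c17 LD2_c45 LD3_c38)) = (LP (LK LD1_c9 LD2_c53 LD3_c44)) :=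
  Lgr Lrot141 (Lpr_ef (f336326 IH) (Lpr_dt (f258986 IH) (Lpe (f336330 IH) (Lpe (f230765 IH) (Lpr_et (f336332 IH) (Lpr_gt (f282145 IH) (Lpr_dt (K17.f282130 IH) (Lpe (K20.f317280 IH) (Lpr_df (K21.f247000 IH) (Lpr_et (K21.f330877 IH) (Lpn (LP (LK LD1_c9 LD2_c53 LD3_c44)))))))))))))
theorem f336320 : Led Lsl_ct (LP (LK LD1_c17 LD2_c45 LD3_c38)) = (LP (LK LD1_c16 LD2_c35 LD3_c40)) :=
  Lgr Lrot59 (Lpr_cf (f336318 IH) (Lpn (LP (LK LD1_c16 LD2_c35 LD3_c40))))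
theorem f248372 : Led Lsl_ct (LP (LK LD1_c8 LD2_c52 LD3_c34)) = (LP (LK LD1_c4 LD2_c27 LD3_c25)) :=
  Lre_c IH (LK LD1_c8 LD2_c52 LD3_c34) (LK LD1_c4 LD2_c27 LD3_c25) Lrfl Lrfl
theorem f178639 : Led Lsl_gt (LP (LK LD1_c15 LD2_c41 LD3_c41)) = (LP (LK LD1_c8 LD2_c20 LD3_c17)) :=
  Lre_g IH (LK LD1_c15 LD2_c41 LD3_c41) (LK LD1_c8 LD2_c20 LD3_c17) Lrfl Lrfl
theorem f291954 : Led Lsl_ft (LP (LK LD1_c9 LD2_c53 LD3_c44)) = (LP (LK LD1_c5 LD2_c1 LD3_c40)) :=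
  Lre_f IH (LK LD1_c9 LD2_c53 LD3_c44) (LK LD1_c5 LD2_c1 LD3_c40) Lrfl Lrfl
theorem f330853 : Led Lsl_dt (LP (LK LD1_c16 LD2_c7 LD3_c54)) = (LP (LK LD1_c9 LD2_c53 LD3_c44)) :=
  Lgr Lrot60 (Lpr_ff (K21.f330849 IH) (Lpe (K21.f251580 IH) (Lpe (f291954 IH) (Lpn (LP (LK LD1_c9 LD2_c53 LD3_c44))))))
theorem f330864 : Led Lsl_af (LP (LK LD1_c7 LD2_c57 LD3_c52)) = (LP (LK LD1_c9 LD2_c33 LD3_c43)) :=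
  Lgr Lrot45 (Lpr_ft (K21.f188663 IH) (Lpe (K21.f330822 IH) (Lpr_ft (K21.f330855 IH) (Lpn (LP (LK LD1_c9 LD2_c33 LD3_c43))))))
theorem f330868 : Led Lsl_gt (LP (LK LD1_c16 LD2_c7 LD3_c54)) = (LP (LK LD1_c15 LD2_c1 LD3_c19)) :=
  Lgr Lrot5 (Lpr_ft (K21.f330855 IH) (Lpe (f330864 IH) (Lpe (K20.f188694 IH) (Lpn (LP (LK LD1_c15 LD2_c1 LD3_c19))))))
theorem f336338 : Led Lsl_cf (LP (LK LD1_c15 LD2_c41 LD3_c41)) = (LP (LK LD1_c15 LD2_c1 LD3_c19)) :=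
  Lgr Lrot169 (Lpr_gt (f178639 IH) (Lpr_ct (K14.f178609 IH) (Lpr_df (K14.f247430 IH) (Lpe (f248372 IH) (Lpe (f248373 IH) (Lpe (f336320 IH) (Lpr_gf (f336336 IH) (Lpe (f330853 IH) (Lpr_gt (f330868 IH) (Lpn (LP (LK LD1_c15 LD2_c1 LD3_c19))))))))))))
theorem f336340 : Led Lsl_ct (LP (LK LD1_c15 LD2_c41 LD3_c41)) = (LP (LK LD1_c15 LD2_c1 LD3_c19)) :=
  Lgr Lrot59 (Lpr_cf (f336338 IH) (Lpn (LP (LK LD1_c15 LD2_c1 LD3_c19))))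
theorem f231000 : Led Lsl_gt (LP (LK LD1_c8 LD2_c20 LD3_c57)) = (LP (LK LD1_c15 LD2_c41 LD3_c41)) :=
  Lre_g IH (LK LD1_c8 LD2_c20 LD3_c57) (LK LD1_c15 LD2_c41 LD3_c41) Lrfl Lrfl
theorem f178616 : Led Lsl_gt (LP (LK LD1_c8 LD2_c20 LD3_c18)) = (LP (LK LD1_c4 LD2_c10 LD3_c22)) :=
  Lre_g IH (LK LD1_c8 LD2_c20 LD3_c18) (LK LD1_c4 LD2_c10 LD3_c22) Lrfl Lrfl
theorem f200225 : Led Lsl_dt (LP (LK LD1_c4 LD2_c11 LD3_c30)) = (LP (LK LD1_c8 LD2_c22 LD3_c49)) :=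
  Lre_d IH (LK LD1_c4 LD2_c11 LD3_c30) (LK LD1_c8 LD2_c22 LD3_c49) Lrfl Lrfl
theorem f200362 : Led Lsl_gt (LP (LK LD1_c15 LD2_c46 LD3_c5)) = (LP (LK LD1_c8 LD2_c22 LD3_c49)) :=
  Lre_g IH (LK LD1_c15 LD2_c46 LD3_c5) (LK LD1_c8 LD2_c22 LD3_c49) Lrfl Lrfl
theorem f231163 : Led Lsl_gt (LP (LK LD1_c8 LD2_c33 LD3_c60)) = (LP (LK LD1_c8 LD2_c20 LD3_c16)) :=
  Lgr Lrot46 (Lpe (K18.f179627 IH) (Lpr_ft (K12.f231128 IH) (Lpr_at (K12.f231149 IH) (Lpn (LP (LK LD1_c8 LD2_c20 LD3_c16))))))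
theorem f296051 : Led Lsl_et (LP (LK LD1_c4 LD2_c10 LD3_c0)) = (LP (LK LD1_c8 LD2_c20 LD3_c17)) :=
  Lre_e IH (LK LD1_c4 LD2_c10 LD3_c0) (LK LD1_c8 LD2_c20 LD3_c17) Lrfl Lrfl
theorem f230978 : Led Lsl_gt (LP (LK LD1_c8 LD2_c20 LD3_c17)) = (LP (LK LD1_c15 LD2_c41 LD3_c40)) :=
  Lre_g IH (LK LD1_c8 LD2_c20 LD3_c17) (LK LD1_c15 LD2_c41 LD3_c40) Lrfl Lrfl
theorem f296052 : Led Lsl_df (LP (LK LD1_c15 LD2_c46 LD3_c5)) = (LP (LK LD1_c15 LD2_c41 LD3_c40)) :=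
  Lgr Lrot135 (Lpr_gt (f200362 IH) (Lpe (f200225 IH) (Lpr_et (K19.f221941 IH) (Lpr_gt (K11.f53366 IH) (Lpr_ef (K20.f221937 IH) (Lpr_dt (K18.f296031 IH) (Lpr_gt (f231163 IH) (Lpe (K12.f231109 IH) (Lpr_et (f296051 IH) (Lpr_gt (f230978 IH) (Lpn (LP (LK LD1_c15 LD2_c41 LD3_c40)))))))))))))
theorem f200189 : Led Lsl_gt (LP (LK LD1_c5 LD2_c12 LD3_c7)) = (LP (LK LD1_c2 LD2_c32 LD3_c54)) :=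
  Lre_g IH (LK LD1_c5 LD2_c12 LD3_c7) (LK LD1_c2 LD2_c32 LD3_c54) Lrfl Lrfl
theorem f178687 : Led Lsl_ct (LP (LK LD1_c4 LD2_c10 LD3_c1)) = (LP (LK LD1_c8 LD2_c20 LD3_c17)) :=
  Lre_c IH (LK LD1_c4 LD2_c10 LD3_c1) (LK LD1_c8 LD2_c20 LD3_c17) Lrfl Lrfl
theorem f247447 : Led Lsl_gt (LP (LK LD1_c4 LD2_c10 LD3_c1)) = (LP (LK LD1_c8 LD2_c20 LD3_c18)) :=
  Lre_g IH (LK LD1_c4 LD2_c10 LD3_c1) (LK LD1_c8 LD2_c20 LD3_c18) Lrfl Lrfl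
theorem f296060 : Led Lsl_df (LP (LK LD1_c5 LD2_c12 LD3_c7)) = (LP (LK LD1_c8 LD2_c20 LD3_c18)) :=
  Lgr Lrot153 (Lpr_gt (f200189 IH) (Lpr_dt (K20.f200143 IH) (Lpe (K18.f200160 IH) (Lpe (K18.f200161 IH) (Lpe (f200362 IH) (Lpr_df (f296052 IH) (Lpe (f230978 IH) (Lpe (f178687 IH) (Lpr_gt (f247447 IH) (Lpn (LP (LK LD1_c8 LD2_c20 LD3_c18))))))))))))
theorem f336350 : Led Lsl_ct (LP (LK LD1_c10 LD2_c14 LD3_c59)) = (LP (LK LD1_c15 LD2_c11 LD3_c2)) :=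
  Lgr Lrot110 (Lpe (K21.f249114 IH) (Lpe (K18.f200156 IH) (Lpe (f200189 IH) (Lpr_df (f296060 IH) (Lpr_gt (f178616 IH) (Lpr_ct (K12.f178655 IH) (Lpr_gt (f231000 IH) (Lpr_ct (f336340 IH) (Lpr_df (K20.f193177 IH) (Lpn (LP (LK LD1_c15 LD2_c11 LD3_c2))))))))))))
theorem f336352 : Led Lsl_cf (LP (LK LD1_c10 LD2_c14 LD3_c59)) = (LP (LK LD1_c15 LD2_c11 LD3_c2)) :=
  Lgr Lrot11 (Lpr_ct (f336350 IH) (Lpn (LP (LK LD1_c15 LD2_c11 LD3_c2))))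
theorem f300393 : Led Lsl_gt (LP (LK LD1_c10 LD2_c14 LD3_c59)) = (LP (LK LD1_c10 LD2_c28 LD3_c23)) :=
  Lgr Lrot46 (Lpe (K21.f249114 IH) (Lpr_ft (K18.f200199 IH) (Lpr_at (K18.f300385 IH) (Lpn (LP (LK LD1_c10 LD2_c28 LD3_c23))))))
theorem f230466 : Led Lsl_ct (LP (LK LD1_c10 LD2_c28 LD3_c23)) = (LP (LK LD1_c5 LD2_c19 LD3_c20)) :=
  Lre_c IH (LK LD1_c10 LD2_c28 LD3_c23) (LK LD1_c5 LD2_c19 LD3_c20) Lrfl Lrfl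
theorem f300351 : Led Lsl_ft (LP (LK LD1_c8 LD2_c22 LD3_c35)) = (LP (LK LD1_c4 LD2_c11 LD3_c25)) :=
  Lre_f IH (LK LD1_c8 LD2_c22 LD3_c35) (LK LD1_c4 LD2_c11 LD3_c25) Lrfl Lrfl
theorem f300352 : Led Lsl_df (LP (LK LD1_c8 LD2_c22 LD3_c35)) = (LP (LK LD1_c5 LD2_c19 LD3_c20)) :=
  Lgr Lrot78 (Lpr_ft (f300351 IH) (Lpr_dt (K18.f300341 IH) (Lpr_ft (K18.f230469 IH) (Lpn (LP (LK LD1_c5 LD2_c19 LD3_c20))))))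
theorem f200202 : Led Lsl_gt (LP (LK LD1_c8 LD2_c22 LD3_c47)) = (LP (LK LD1_c15 LD2_c45 LD3_c40)) :=
  Lre_g IH (LK LD1_c8 LD2_c22 LD3_c47) (LK LD1_c15 LD2_c45 LD3_c40) Lrfl Lrfl
theorem f256020 : Led Lsl_et (LP (LK LD1_c2 LD2_c24 LD3_c19)) = (LP (LK LD1_c4 LD2_c52 LD3_c61)) :=
  Lre_e IH (LK LD1_c2 LD2_c24 LD3_c19) (LK LD1_c4 LD2_c52 LD3_c61) Lrfl Lrfl
theorem f256021 : Led Lsl_df (LP (LK LD1_c8 LD2_c3 LD3_c58)) = (LP (LK LD1_c4 LD2_c52 LD3_c61)) :=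
  Lgr Lrot70 (Lpr_et (K16.f237099 IH) (Lpr_dt (K10.f182059 IH) (Lpe (K14.f229249 IH) (Lpr_dt (K14.f256017 IH) (Lpr_et (f256020 IH) (Lpn (LP (LK LD1_c4 LD2_c52 LD3_c61))))))))
theorem f237524 : Led Lsl_gt (LP (LK LD1_c4 LD2_c52 LD3_c61)) = (LP (LK LD1_c9 LD2_c37 LD3_c55)) :=
  Lre_g IH (LK LD1_c4 LD2_c52 LD3_c61) (LK LD1_c9 LD2_c37 LD3_c55) Lrfl Lrfl
theorem f336367 : Led Lsl_cf (LP (LK LD1_c8 LD2_c22 LD3_c47)) = (LP (LK LD1_c9 LD2_c37 LD3_c55)) :=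
  Lgr Lrot169 (Lpr_gt (f200202 IH) (Lpr_ct (K18.f200173 IH) (Lpr_df (f300352 IH) (Lpe (f230466 IH) (Lpe (f300393 IH) (Lpr_cf (f336352 IH) (Lpe (K20.f193176 IH) (Lpr_df (f256021 IH) (Lpr_gt (f237524 IH) (Lpn (LP (LK LD1_c9 LD2_c37 LD3_c55))))))))))))
theorem f200201 : Led Lsl_dt (LP (LK LD1_c15 LD2_c45 LD3_c40)) = (LP (LK LD1_c25 LD2_c42 LD3_c18)) :=
  Lre_d IH (LK LD1_c15 LD2_c45 LD3_c40) (LK LD1_c25 LD2_c42 LD3_c18) Lrfl Lrfl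
theorem f200200 : Led Lsl_gt (LP (LK LD1_c25 LD2_c42 LD3_c18)) = (LP (LK LD1_c15 LD2_c46 LD3_c5)) :=
  Lre_g IH (LK LD1_c25 LD2_c42 LD3_c18) (LK LD1_c15 LD2_c46 LD3_c5) Lrfl Lrfl
theorem f296058 : Led Lsl_dt (LP (LK LD1_c15 LD2_c46 LD3_c5)) = (LP (LK LD1_c15 LD2_c41 LD3_c40)) :=
  Lgr Lrot42 (Lpr_df (f296052 IH) (Lpn (LP (LK LD1_c15 LD2_c41 LD3_c40))))
theorem f270876 : Led Lsl_gt (LP (LK LD1_c9 LD2_c37 LD3_c55)) = (LP (LK LD1_c17 LD2_c43 LD3_c31)) :=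
  Lre_g IH (LK LD1_c9 LD2_c37 LD3_c55) (LK LD1_c17 LD2_c43 LD3_c31) Lrfl Lrfl
theorem f282101 : Led Lsl_dt (LP (LK LD1_c17 LD2_c43 LD3_c31)) = (LP (LK LD1_c17 LD2_c45 LD3_c46)) :=
  Lgr Lrot42 (Lpr_df (K17.f282099 IH) (Lpn (LP (LK LD1_c17 LD2_c45 LD3_c46))))
theorem f292498 : Led Lsl_et (LP (LK LD1_c26 LD2_c5 LD3_c26)) = (LP (LK LD1_c16 LD2_c8 LD3_c39)) :=
  Lre_e IH (LK LD1_c26 LD2_c5 LD3_c26) (LK LD1_c16 LD2_c8 LD3_c39) Lrfl Lrfl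
theorem f329940 : Led Lsl_bf (LP (LK LD1_c26 LD2_c5 LD3_c26)) = (LP (LK LD1_c18 LD2_c27 LD3_c60)) :=
  Lgr Lrot96 (Lpr_et (f292498 IH) (Lpr_bt (f329938 IH) (Lpr_et (K17.f286306 IH) (Lpn (LP (LK LD1_c18 LD2_c27 LD3_c60))))))
theorem f329998 : Led Lsl_dt (LP (LK LD1_c26 LD2_c5 LD3_c26)) = (LP (LK LD1_c18 LD2_c27 LD3_c59)) :=
  Lgr Lrot79 (Lpr_bf (f329940 IH) (Lpe (K20.f286310 IH) (Lpe (K20.f299066 IH) (Lpn (LP (LK LD1_c18 LD2_c27 LD3_c59))))))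
theorem f330003 : Led Lsl_gt (LP (LK LD1_c17 LD2_c45 LD3_c37)) = (LP (LK LD1_c18 LD2_c27 LD3_c59)) :=
  Lgr Lrot139 (Lpe (K21.f247011 IH) (Lpr_gf (K20.f317280 IH) (Lpe (K17.f187777 IH) (Lpr_dt (K15.f187776 IH) (Lpr_gf (K10.f187490 IH) (Lpe (K10.f183621 IH) (Lpr_et (K17.f183644 IH) (Lpr_gf (K20.f292534 IH) (Lpe (f292498 IH) (Lpr_dt (f329998 IH) (Lpn (LP (LK LD1_c18 LD2_c27 LD3_c59)))))))))))))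
theorem f300171 : Led Lsl_et (LP (LK LD1_c16 LD2_c35 LD3_c0)) = (LP (LK LD1_c26 LD2_c32 LD3_c26)) :=
  Lre_e IH (LK LD1_c16 LD2_c35 LD3_c0) (LK LD1_c26 LD2_c32 LD3_c26) Lrfl Lrfl
theorem f289868 : Led Lsl_ct (LP (LK LD1_c9 LD2_c55 LD3_c16)) = (LP (LK LD1_c5 LD2_c2 LD3_c16)) :=
  Lre_c IH (LK LD1_c9 LD2_c55 LD3_c16) (LK LD1_c5 LD2_c2 LD3_c16) Lrfl Lrfl
theorem f299750 : Led Lsl_ef (LP (LK LD1_c5 LD2_c10 LD3_c14)) = (LP (LK LD1_c5 LD2_c2 LD3_c16)) :=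
  Lgr Lrot28 (Lpr_ct (K19.f289938 IH) (Lpr_et (K18.f299745 IH) (Lpr_ct (f289868 IH) (Lpn (LP (LK LD1_c5 LD2_c2 LD3_c16))))))
theorem f289871 : Led Lsl_bt (LP (LK LD1_c2 LD2_c28 LD3_c56)) = (LP (LK LD1_c5 LD2_c2 LD3_c16)) :=
  Lre_b IH (LK LD1_c2 LD2_c28 LD3_c56) (LK LD1_c5 LD2_c2 LD3_c16) Lrfl Lrfl
theorem f299755 : Led Lsl_et (LP (LK LD1_c2 LD2_c32 LD3_c16)) = (LP (LK LD1_c2 LD2_c28 LD3_c56)) :=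
  Lgr Lrot74 (Lpe (K19.f289937 IH) (Lpr_ef (f299750 IH) (Lpe (f289871 IH) (Lpn (LP (LK LD1_c2 LD2_c28 LD3_c56))))))
theorem f299758 : Led Lsl_ef (LP (LK LD1_c2 LD2_c32 LD3_c16)) = (LP (LK LD1_c2 LD2_c28 LD3_c56)) :=
  Lgr Lrot88 (Lpr_et (f299755 IH) (Lpn (LP (LK LD1_c2 LD2_c28 LD3_c56))))
theorem f300112 : Led Lsl_af (LP (LK LD1_c2 LD2_c28 LD3_c56)) = (LP (LK LD1_c2 LD2_c32 LD3_c5)) :=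
  Lgr Lrot50 (Lpe (f299758 IH) (Lpr_at (K19.f300093 IH) (Lpe (K17.f288306 IH) (Lpn (LP (LK LD1_c2 LD2_c32 LD3_c5))))))
theorem f289872 : Led Lsl_ct (LP (LK LD1_c2 LD2_c28 LD3_c56)) = (LP (LK LD1_c5 LD2_c2 LD3_c41)) :=
  Lre_c IH (LK LD1_c2 LD2_c28 LD3_c56) (LK LD1_c5 LD2_c2 LD3_c41) Lrfl Lrfl
theorem f300117 : Led Lsl_at (LP (LK LD1_c5 LD2_c2 LD3_c41)) = (LP (LK LD1_c5 LD2_c9 LD3_c60)) :=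
  Lgr Lrot107 (Lpe (f289872 IH) (Lpr_af (f300112 IH) (Lpe (K17.f288299 IH) (Lpn (LP (LK LD1_c5 LD2_c9 LD3_c60))))))
theorem f300130 : Led Lsl_af (LP (LK LD1_c5 LD2_c2 LD3_c41)) = (LP (LK LD1_c5 LD2_c9 LD3_c60)) :=
  Lgr Lrot0 (Lpr_at (f300117 IH) (Lpn (LP (LK LD1_c5 LD2_c9 LD3_c60))))
theorem f186741 : Led Lsl_et (LP (LK LD1_c2 LD2_c32 LD3_c13)) = (LP (LK LD1_c1 LD2_c13 LD3_c6)) :=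
  Lre_e IH (LK LD1_c2 LD2_c32 LD3_c13) (LK LD1_c1 LD2_c13 LD3_c6) Lrfl Lrfl
theorem f288247 : Led Lsl_ft (LP (LK LD1_c5 LD2_c10 LD3_c22)) = (LP (LK LD1_c2 LD2_c32 LD3_c13)) :=
  Lre_f IH (LK LD1_c5 LD2_c10 LD3_c22) (LK LD1_c2 LD2_c32 LD3_c13) Lrfl Lrfl
theorem f165619 : Led Lsl_et (LP (LK LD1_c1 LD2_c11 LD3_c35)) = (LP (LK LD1_c2 LD2_c28 LD3_c53)) :=
  Lre_e IH (LK LD1_c1 LD2_c11 LD3_c35) (LK LD1_c2 LD2_c28 LD3_c53) Lrfl Lrfl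
theorem f288248 : Led Lsl_ft (LP (LK LD1_c2 LD2_c28 LD3_c53)) = (LP (LK LD1_c5 LD2_c2 LD3_c41)) :=
  Lre_f IH (LK LD1_c2 LD2_c28 LD3_c53) (LK LD1_c5 LD2_c2 LD3_c41) Lrfl Lrfl
theorem f288249 : Led Lsl_ef (LP (LK LD1_c5 LD2_c10 LD3_c22)) = (LP (LK LD1_c5 LD2_c2 LD3_c41)) :=
  Lgr Lrot21 (Lpr_ft (f288247 IH) (Lpr_et (f186741 IH) (Lpr_ft (K17.f288241 IH) (Lpr_et (f165619 IH) (Lpr_ft (f288248 IH) (Lpn (LP (LK LD1_c5 LD2_c2 LD3_c41))))))))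
theorem f300136 : Led Lsl_at (LP (LK LD1_c5 LD2_c10 LD3_c22)) = (LP (LK LD1_c5 LD2_c3 LD3_c12)) :=
  Lgr Lrot80 (Lpr_ef (f288249 IH) (Lpr_af (f300130 IH) (Lpr_ef (K17.f288293 IH) (Lpn (LP (LK LD1_c5 LD2_c3 LD3_c12))))))
theorem f276017 : Led Lsl_ft (LP (LK LD1_c2 LD2_c32 LD3_c13)) = (LP (LK LD1_c5 LD2_c10 LD3_c22)) :=
  Lre_f IH (LK LD1_c2 LD2_c32 LD3_c13) (LK LD1_c5 LD2_c10 LD3_c22) Lrfl Lrfl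
theorem f300154 : Led Lsl_gt (LP (LK LD1_c5 LD2_c6 LD3_c23)) = (LP (LK LD1_c5 LD2_c3 LD3_c12)) :=
  Lgr Lrot46 (Lpe (K21.f276015 IH) (Lpr_ft (f276017 IH) (Lpr_at (f300136 IH) (Lpn (LP (LK LD1_c5 LD2_c3 LD3_c12))))))
theorem f198780 : Led Lsl_bt (LP (LK LD1_c2 LD2_c30 LD3_c23)) = (LP (LK LD1_c1 LD2_c12 LD3_c14)) :=
  Lre_b IH (LK LD1_c2 LD2_c30 LD3_c23) (LK LD1_c1 LD2_c12 LD3_c14) Lrfl Lrfl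
theorem f198781 : Led Lsl_ct (LP (LK LD1_c2 LD2_c30 LD3_c23)) = (LP (LK LD1_c5 LD2_c6 LD3_c12)) :=
  Lre_c IH (LK LD1_c2 LD2_c30 LD3_c23) (LK LD1_c5 LD2_c6 LD3_c12) Lrfl Lrfl
theorem f251349 : Led Lsl_ct (LP (LK LD1_c4 LD2_c55 LD3_c23)) = (LP (LK LD1_c9 LD2_c42 LD3_c23)) :=
  Lre_c IH (LK LD1_c4 LD2_c55 LD3_c23) (LK LD1_c9 LD2_c42 LD3_c23) Lrfl Lrfl
theorem f251350 : Led Lsl_ef (LP (LK LD1_c5 LD2_c10 LD3_c4)) = (LP (LK LD1_c9 LD2_c42 LD3_c23)) :=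
  Lgr Lrot28 (Lpr_ct (K15.f186744 IH) (Lpr_et (K14.f251343 IH) (Lpr_ct (f251349 IH) (Lpn (LP (LK LD1_c9 LD2_c42 LD3_c23))))))
theorem f186756 : Led Lsl_bt (LP (LK LD1_c5 LD2_c10 LD3_c4)) = (LP (LK LD1_c10 LD2_c10 LD3_c52)) :=
  Lre_b IH (LK LD1_c5 LD2_c10 LD3_c4) (LK LD1_c10 LD2_c10 LD3_c52) Lrfl Lrfl
theorem f251352 : Led Lsl_bt (LP (LK LD1_c17 LD2_c51 LD3_c5)) = (LP (LK LD1_c9 LD2_c42 LD3_c23)) :=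
  Lre_b IH (LK LD1_c17 LD2_c51 LD3_c5) (LK LD1_c9 LD2_c42 LD3_c23) Lrfl Lrfl
theorem f251353 : Led Lsl_et (LP (LK LD1_c10 LD2_c10 LD3_c52)) = (LP (LK LD1_c17 LD2_c51 LD3_c5)) :=
  Lgr Lrot74 (Lpe (f186756 IH) (Lpr_ef (f251350 IH) (Lpe (f251352 IH) (Lpn (LP (LK LD1_c17 LD2_c51 LD3_c5))))))
theorem f251370 : Led Lsl_ef (LP (LK LD1_c10 LD2_c10 LD3_c52)) = (LP (LK LD1_c17 LD2_c51 LD3_c5)) :=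
  Lgr Lrot88 (Lpr_et (f251353 IH) (Lpn (LP (LK LD1_c17 LD2_c51 LD3_c5))))
theorem f186755 : Led Lsl_bt (LP (LK LD1_c10 LD2_c1 LD3_c51)) = (LP (LK LD1_c5 LD2_c5 LD3_c23)) :=
  Lre_b IH (LK LD1_c10 LD2_c1 LD3_c51) (LK LD1_c5 LD2_c5 LD3_c23) Lrfl Lrfl
theorem f186757 : Led Lsl_cf (LP (LK LD1_c10 LD2_c1 LD3_c51)) = (LP (LK LD1_c10 LD2_c10 LD3_c52)) :=
  Lgr Lrot97 (Lpr_bt (f186755 IH) (Lpr_ct (K16.f186748 IH) (Lpr_bt (K14.f186732 IH) (Lpr_ct (K10.f186739 IH) (Lpr_bt (f186756 IH) (Lpn (LP (LK LD1_c10 LD2_c10 LD3_c52))))))))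
theorem f186762 : Led Lsl_et (LP (LK LD1_c10 LD2_c1 LD3_c51)) = (LP (LK LD1_c18 LD2_c19 LD3_c52)) :=
  Lre_e IH (LK LD1_c10 LD2_c1 LD3_c51) (LK LD1_c18 LD2_c19 LD3_c52) Lrfl Lrfl
theorem f251377 : Led Lsl_ct (LP (LK LD1_c18 LD2_c19 LD3_c52)) = (LP (LK LD1_c17 LD2_c51 LD3_c5)) :=
  Lgr Lrot15 (Lpe (f186762 IH) (Lpr_cf (f186757 IH) (Lpr_ef (f251370 IH) (Lpn (LP (LK LD1_c17 LD2_c51 LD3_c5))))))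
theorem f251380 : Led Lsl_bt (LP (LK LD1_c10 LD2_c1 LD3_c53)) = (LP (LK LD1_c18 LD2_c19 LD3_c52)) :=
  Lre_b IH (LK LD1_c10 LD2_c1 LD3_c53) (LK LD1_c18 LD2_c19 LD3_c52) Lrfl Lrfl
theorem f251340 : Led Lsl_ct (LP (LK LD1_c9 LD2_c42 LD3_c23)) = (LP (LK LD1_c4 LD2_c55 LD3_c23)) :=
  Lre_c IH (LK LD1_c9 LD2_c42 LD3_c23) (LK LD1_c4 LD2_c55 LD3_c23) Lrfl Lrfl
theorem f251381 : Led Lsl_cf (LP (LK LD1_c10 LD2_c1 LD3_c53)) = (LP (LK LD1_c9 LD2_c42 LD3_c4)) :=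
  Lgr Lrot97 (Lpr_bt (f251380 IH) (Lpr_ct (f251377 IH) (Lpr_bt (f251352 IH) (Lpr_ct (f251340 IH) (Lpr_bt (K14.f251346 IH) (Lpn (LP (LK LD1_c9 LD2_c42 LD3_c4))))))))
theorem f300158 : Led Lsl_gf (LP (LK LD1_c5 LD2_c6 LD3_c12)) = (LP (LK LD1_c10 LD2_c1 LD3_c53)) :=
  Lgr Lrot126 (Lpe (f198781 IH) (Lpr_bt (f198780 IH) (Lpr_gt (K15.f165878 IH) (Lpr_ct (K16.f198601 IH) (Lpr_gt (f300154 IH) (Lpe (K17.f288300 IH) (Lpr_bt (K19.f257772 IH) (Lpe (K19.f284007 IH) (Lpe (K14.f251337 IH) (Lpe (f251381 IH) (Lpn (LP (LK LD1_c10 LD2_c1 LD3_c53)))))))))))))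
theorem f255908 : Led Lsl_dt (LP (LK LD1_c5 LD2_c6 LD3_c12)) = (LP (LK LD1_c10 LD2_c3 LD3_c25)) :=
  Lre_d IH (LK LD1_c5 LD2_c6 LD3_c12) (LK LD1_c10 LD2_c3 LD3_c25) Lrfl Lrfl
theorem f300160 : Led Lsl_gt (LP (LK LD1_c10 LD2_c3 LD3_c25)) = (LP (LK LD1_c18 LD2_c22 LD3_c2)) :=
  Lre_g IH (LK LD1_c10 LD2_c3 LD3_c25) (LK LD1_c18 LD2_c22 LD3_c2) Lrfl Lrfl
theorem f186751 : Led Lsl_et (LP (LK LD1_c5 LD2_c5 LD3_c23)) = (LP (LK LD1_c10 LD2_c1 LD3_c53)) :=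
  Lre_e IH (LK LD1_c5 LD2_c5 LD3_c23) (LK LD1_c10 LD2_c1 LD3_c53) Lrfl Lrfl
theorem f230843 : Led Lsl_et (LP (LK LD1_c4 LD2_c27 LD3_c14)) = (LP (LK LD1_c8 LD2_c52 LD3_c11)) :=
  Lre_e IH (LK LD1_c4 LD2_c27 LD3_c14) (LK LD1_c8 LD2_c52 LD3_c11) Lrfl Lrfl
theorem f247612 : Led Lsl_et (LP (LK LD1_c26 LD2_c32 LD3_c26)) = (LP (LK LD1_c16 LD2_c35 LD3_c0)) :=
  Lre_e IH (LK LD1_c26 LD2_c32 LD3_c26) (LK LD1_c16 LD2_c35 LD3_c0) Lrfl Lrfl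
theorem f300166 : Led Lsl_df (LP (LK LD1_c18 LD2_c22 LD3_c2)) = (LP (LK LD1_c26 LD2_c32 LD3_c26)) :=
  Lgr Lrot132 (Lpe (f300160 IH) (Lpe (f255908 IH) (Lpr_gf (f300158 IH) (Lpe (f186751 IH) (Lpr_dt (K17.f186750 IH) (Lpe (K17.f251592 IH) (Lpe (K12.f188017 IH) (Lpr_et (f230843 IH) (Lpe (K20.f230619 IH) (Lpe (f247612 IH) (Lpn (LP (LK LD1_c26 LD2_c32 LD3_c26)))))))))))))
theorem f300169 : Led Lsl_dt (LP (LK LD1_c18 LD2_c22 LD3_c2)) = (LP (LK LD1_c26 LD2_c32 LD3_c26)) :=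
  Lgr Lrot42 (Lpr_df (f300166 IH) (Lpn (LP (LK LD1_c26 LD2_c32 LD3_c26))))
theorem f251310 : Led Lsl_dt (LP (LK LD1_c5 LD2_c8 LD3_c46)) = (LP (LK LD1_c10 LD2_c7 LD3_c57)) :=
  Lre_d IH (LK LD1_c5 LD2_c8 LD3_c46) (LK LD1_c10 LD2_c7 LD3_c57) Lrfl Lrfl
theorem f251598 : Led Lsl_gt (LP (LK LD1_c10 LD2_c7 LD3_c57)) = (LP (LK LD1_c18 LD2_c27 LD3_c20)) :=
  Lre_g IH (LK LD1_c10 LD2_c7 LD3_c57) (LK LD1_c18 LD2_c27 LD3_c20) Lrfl Lrfl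
theorem f251600 : Led Lsl_dt (LP (LK LD1_c18 LD2_c27 LD3_c20)) = (LP (LK LD1_c28 LD2_c2 LD3_c29)) :=
  Lre_d IH (LK LD1_c18 LD2_c27 LD3_c20) (LK LD1_c28 LD2_c2 LD3_c29) Lrfl Lrfl
theorem f300174 : Led Lsl_cf (LP (LK LD1_c28 LD2_c2 LD3_c29)) = (LP (LK LD1_c26 LD2_c32 LD3_c26)) :=
  Lgr Lrot14 (Lpe (f251600 IH) (Lpe (f251598 IH) (Lpe (f251310 IH) (Lpr_gf (K14.f251596 IH) (Lpe (f251381 IH) (Lpe (f300158 IH) (Lpr_dt (f255908 IH) (Lpr_gt (f300160 IH) (Lpr_dt (f300169 IH) (Lpn (LP (LK LD1_c26 LD2_c32 LD3_c26))))))))))))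
theorem f321648 : Led Lsl_et (LP (LK LD1_c28 LD2_c2 LD3_c29)) = (LP (LK LD1_c18 LD2_c27 LD3_c59)) :=
  Lgr Lrot158 (Lpr_cf (f300174 IH) (Lpe (f300171 IH) (Lpr_cf (K20.f321643 IH) (Lpn (LP (LK LD1_c18 LD2_c27 LD3_c59))))))
theorem f251599 : Led Lsl_dt (LP (LK LD1_c28 LD2_c2 LD3_c29)) = (LP (LK LD1_c18 LD2_c27 LD3_c20)) :=
  Lre_d IH (LK LD1_c28 LD2_c2 LD3_c29) (LK LD1_c18 LD2_c27 LD3_c20) Lrfl Lrfl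
theorem f252167 : Led Lsl_gt (LP (LK LD1_c18 LD2_c27 LD3_c20)) = (LP (LK LD1_c25 LD2_c19 LD3_c39)) :=
  Lgr Lrot46 (Lpe (f251598 IH) (Lpr_ft (K14.f247047 IH) (Lpr_at (K14.f252161 IH) (Lpn (LP (LK LD1_c25 LD2_c19 LD3_c39))))))
theorem f192991 : Led Lsl_gt (LP (LK LD1_c15 LD2_c11 LD3_c3)) = (LP (LK LD1_c8 LD2_c3 LD3_c58)) :=
  Lre_g IH (LK LD1_c15 LD2_c11 LD3_c3) (LK LD1_c8 LD2_c3 LD3_c58) Lrfl Lrfl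
theorem f330824 : Led Lsl_dt (LP (LK LD1_c8 LD2_c36 LD3_c26)) = (LP (LK LD1_c15 LD2_c11 LD3_c3)) :=
  Lgr Lrot171 (Lpr_gf (K21.f330820 IH) (Lpe (K12.f188641 IH) (Lpr_dt (K12.f42755 IH) (Lpr_gf (K12.f190813 IH) (Lpe (K10.f48028 IH) (Lpe (K12.f53839 IH) (Lpe (K14.f219534 IH) (Lpe (K16.f219536 IH) (Lpe (f256021 IH) (Lpe (f192991 IH) (Lpn (LP (LK LD1_c15 LD2_c11 LD3_c3)))))))))))))
theorem f330828 : Led Lsl_df (LP (LK LD1_c8 LD2_c36 LD3_c26)) = (LP (LK LD1_c15 LD2_c11 LD3_c3)) :=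
  Lgr Lrot38 (Lpr_dt (f330824 IH) (Lpn (LP (LK LD1_c15 LD2_c11 LD3_c3))))
theorem f330881 : Led Lsl_gt (LP (LK LD1_c17 LD2_c45 LD3_c46)) = (LP (LK LD1_c15 LD2_c11 LD3_c3)) :=
  Lgr Lrot137 (Lpe (K17.f282103 IH) (Lpe (K14.f192285 IH) (Lpe (f252167 IH) (Lpe (f251599 IH) (Lpr_et (f321648 IH) (Lpe (f330003 IH) (Lpr_ef (K21.f330875 IH) (Lpe (K21.f330866 IH) (Lpe (K21.f304636 IH) (Lpr_df (f330828 IH) (Lpn (LP (LK LD1_c15 LD2_c11 LD3_c3)))))))))))))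
theorem f336419 : Led Lsl_ct (LP (LK LD1_c15 LD2_c41 LD3_c40)) = (LP (LK LD1_c8 LD2_c36 LD3_c26)) :=
  Lgr Lrot7 (Lpe (f296058 IH) (Lpe (f200200 IH) (Lpe (f200201 IH) (Lpe (f200202 IH) (Lpr_cf (f336367 IH) (Lpr_gt (f270876 IH) (Lpr_dt (f282101 IH) (Lpr_gt (f330881 IH) (Lpe (f330828 IH) (Lpn (LP (LK LD1_c8 LD2_c36 LD3_c26))))))))))))
theorem f336425 : Led Lsl_cf (LP (LK LD1_c15 LD2_c41 LD3_c40)) = (LP (LK LD1_c8 LD2_c36 LD3_c26)) :=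
  Lgr Lrot11 (Lpr_ct (f336419 IH) (Lpn (LP (LK LD1_c8 LD2_c36 LD3_c26))))
theorem f178623 : Led Lsl_gt (LP (LK LD1_c15 LD2_c41 LD3_c40)) = (LP (LK LD1_c8 LD2_c20 LD3_c57)) :=
  Lre_g IH (LK LD1_c15 LD2_c41 LD3_c40) (LK LD1_c8 LD2_c20 LD3_c57) Lrfl Lrfl
theorem f178597 : Led Lsl_ct (LP (LK LD1_c8 LD2_c20 LD3_c57)) = (LP (LK LD1_c4 LD2_c10 LD3_c22)) :=
  Lre_c IH (LK LD1_c8 LD2_c20 LD3_c57) (LK LD1_c4 LD2_c10 LD3_c22) Lrfl Lrfl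
theorem f248387 : Led Lsl_gt (LP (LK LD1_c8 LD2_c52 LD3_c34)) = (LP (LK LD1_c16 LD2_c35 LD3_c39)) :=
  Lre_g IH (LK LD1_c8 LD2_c52 LD3_c34) (LK LD1_c16 LD2_c35 LD3_c39) Lrfl Lrfl
theorem f248388 : Led Lsl_gt (LP (LK LD1_c16 LD2_c35 LD3_c39)) = (LP (LK LD1_c10 LD2_c26 LD3_c48)) :=
  Lgr Lrot46 (Lpe (f248387 IH) (Lpr_ft (K14.f248380 IH) (Lpr_at (K21.f248381 IH) (Lpn (LP (LK LD1_c10 LD2_c26 LD3_c48))))))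
theorem f249698 : Led Lsl_gt (LP (LK LD1_c18 LD2_c14 LD3_c26)) = (LP (LK LD1_c9 LD2_c58 LD3_c29)) :=
  Lre_g IH (LK LD1_c18 LD2_c14 LD3_c26) (LK LD1_c9 LD2_c58 LD3_c29) Lrfl Lrfl
theorem f166940 : Led Lsl_ct (LP (LK LD1_c9 LD2_c58 LD3_c17)) = (LP (LK LD1_c18 LD2_c14 LD3_c26)) :=
  Lre_c IH (LK LD1_c9 LD2_c58 LD3_c17) (LK LD1_c18 LD2_c14 LD3_c26) Lrfl Lrfl
theorem f249660 : Led Lsl_bt (LP (LK LD1_c9 LD2_c58 LD3_c17)) = (LP (LK LD1_c9 LD2_c40 LD3_c17)) :=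
  Lgr Lrot127 (Lpr_bf (K14.f249652 IH) (Lpn (LP (LK LD1_c9 LD2_c40 LD3_c17))))
theorem f248595 : Led Lsl_bt (LP (LK LD1_c10 LD2_c12 LD3_c31)) = (LP (LK LD1_c5 LD2_c10 LD3_c56)) :=
  Lre_b IH (LK LD1_c10 LD2_c12 LD3_c31) (LK LD1_c5 LD2_c10 LD3_c56) Lrfl Lrfl
theorem f331364 : Led Lsl_cf (LP (LK LD1_c16 LD2_c35 LD3_c39)) = (LP (LK LD1_c10 LD2_c12 LD3_c31)) :=
  Lgr Lrot163 (Lpe (f248387 IH) (Lpe (K14.f248304 IH) (Lpe (K21.f248318 IH) (Lpr_bf (K21.f331348 IH) (Lpe (f328833 IH) (Lpe (f249698 IH) (Lpe (f166940 IH) (Lpr_bt (f249660 IH) (Lpe (K19.f248587 IH) (Lpe (f248595 IH) (Lpn (LP (LK LD1_c10 LD2_c12 LD3_c31)))))))))))))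
theorem f336433 : Led Lsl_gf (LP (LK LD1_c10 LD2_c12 LD3_c31)) = (LP (LK LD1_c9 LD2_c39 LD3_c25)) :=
  Lgr Lrot147 (Lpe (f331364 IH) (Lpr_gt (f248388 IH) (Lpr_ct (f178618 IH) (Lpe (K9.f178593 IH) (Lpe (f178597 IH) (Lpe (f178623 IH) (Lpr_cf (f336425 IH) (Lpr_gf (K21.f330820 IH) (Lpr_df (K12.f190801 IH) (Lpn (LP (LK LD1_c9 LD2_c39 LD3_c25))))))))))))
theorem f307356 : Led Lsl_bt (LP (LK LD1_c5 LD2_c10 LD3_c56)) = (LP (LK LD1_c10 LD2_c12 LD3_c31)) :=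
  Lre_b IH (LK LD1_c5 LD2_c10 LD3_c56) (LK LD1_c10 LD2_c12 LD3_c31) Lrfl Lrfl
theorem f307153 : Led Lsl_bt (LP (LK LD1_c9 LD2_c37 LD3_c5)) = (LP (LK LD1_c4 LD2_c52 LD3_c24)) :=
  Lre_b IH (LK LD1_c9 LD2_c37 LD3_c5) (LK LD1_c4 LD2_c52 LD3_c24) Lrfl Lrfl
theorem f307357 : Led Lsl_dt (LP (LK LD1_c10 LD2_c12 LD3_c31)) = (LP (LK LD1_c9 LD2_c37 LD3_c5)) :=
  Lgr Lrot79 (Lpe (f307356 IH) (Lpr_df (K21.f307352 IH) (Lpe (f307153 IH) (Lpn (LP (LK LD1_c9 LD2_c37 LD3_c5))))))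
theorem f265837 : Led Lsl_et (LP (LK LD1_c5 LD2_c1 LD3_c15)) = (LP (LK LD1_c9 LD2_c52 LD3_c57)) :=
  Lre_e IH (LK LD1_c5 LD2_c1 LD3_c15) (LK LD1_c9 LD2_c52 LD3_c57) Lrfl Lrfl
theorem f265838 : Led Lsl_gt (LP (LK LD1_c9 LD2_c52 LD3_c57)) = (LP (LK LD1_c9 LD2_c40 LD3_c2)) :=
  Lgr Lrot131 (Lpe (f265837 IH) (Lpr_dt (K15.f265789 IH) (Lpe (K15.f265022 IH) (Lpr_df (K15.f265017 IH) (Lpe (K12.f44448 IH) (Lpr_ef (K1.f44335 IH) (Lpr_dt (K15.f31515 IH) (Lpe (K10.f31471 IH) (Lpe (K14.f43422 IH) (Lpr_et (K16.f43423 IH) (Lpn (LP (LK LD1_c9 LD2_c40 LD3_c2)))))))))))))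
theorem f252159 : Led Lsl_at (LP (LK LD1_c5 LD2_c8 LD3_c46)) = (LP (LK LD1_c9 LD2_c40 LD3_c2)) :=
  Lgr Lrot51 (Lpe (K14.f191119 IH) (Lpr_af (K14.f252152 IH) (Lpr_df (K15.f192281 IH) (Lpn (LP (LK LD1_c9 LD2_c40 LD3_c2))))))
theorem f252173 : Led Lsl_ft (LP (LK LD1_c10 LD2_c7 LD3_c58)) = (LP (LK LD1_c5 LD2_c8 LD3_c46)) :=
  Lre_f IH (LK LD1_c10 LD2_c7 LD3_c58) (LK LD1_c5 LD2_c8 LD3_c46) Lrfl Lrfl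
theorem f265841 : Led Lsl_gf (LP (LK LD1_c9 LD2_c52 LD3_c57)) = (LP (LK LD1_c10 LD2_c7 LD3_c58)) :=
  Lgr Lrot47 (Lpr_gt (f265838 IH) (Lpe (f252159 IH) (Lpe (f252173 IH) (Lpn (LP (LK LD1_c10 LD2_c7 LD3_c58))))))
theorem f247049 : Led Lsl_dt (LP (LK LD1_c18 LD2_c27 LD3_c21)) = (LP (LK LD1_c10 LD2_c7 LD3_c58)) :=
  Lre_d IH (LK LD1_c18 LD2_c27 LD3_c21) (LK LD1_c10 LD2_c7 LD3_c58) Lrfl Lrfl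
theorem f239847 : Led Lsl_bt (LP (LK LD1_c18 LD2_c27 LD3_c21)) = (LP (LK LD1_c10 LD2_c8 LD3_c12)) :=
  Lre_b IH (LK LD1_c18 LD2_c27 LD3_c21) (LK LD1_c10 LD2_c8 LD3_c12) Lrfl Lrfl
theorem f247029 : Led Lsl_ef (LP (LK LD1_c18 LD2_c27 LD3_c21)) = (LP (LK LD1_c15 LD2_c22 LD3_c56)) :=
  Lgr Lrot29 (Lpr_bt (f239847 IH) (Lpr_et (K14.f247024 IH) (Lpr_bt (K16.f247028 IH) (Lpn (LP (LK LD1_c15 LD2_c22 LD3_c56))))))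
theorem f279344 : Led Lsl_dt (LP (LK LD1_c15 LD2_c11 LD3_c4)) = (LP (LK LD1_c9 LD2_c37 LD3_c57)) :=
  Lgr Lrot77 (Lpr_ef (K16.f279339 IH) (Lpe (f247049 IH) (Lpr_ef (f247029 IH) (Lpr_df (K17.f247121 IH) (Lpr_ef (K16.f270853 IH) (Lpn (LP (LK LD1_c9 LD2_c37 LD3_c57))))))))
theorem f336437 : Led Lsl_gt (LP (LK LD1_c9 LD2_c37 LD3_c5)) = (LP (LK LD1_c9 LD2_c37 LD3_c57)) :=
  Lgr Lrot139 (Lpe (f307357 IH) (Lpr_gf (f336433 IH) (Lpe (K12.f190792 IH) (Lpe (K10.f190790 IH) (Lpe (K14.f188588 IH) (Lpe (K15.f265789 IH) (Lpr_et (f265837 IH) (Lpr_gf (f265841 IH) (Lpe (K16.f279346 IH) (Lpr_dt (f279344 IH) (Lpn (LP (LK LD1_c9 LD2_c37 LD3_c57)))))))))))))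
theorem f282092 : Led Lsl_ft (LP (LK LD1_c9 LD2_c37 LD3_c52)) = (LP (LK LD1_c17 LD2_c43 LD3_c31)) :=
  Lre_f IH (LK LD1_c9 LD2_c37 LD3_c52) (LK LD1_c17 LD2_c43 LD3_c31) Lrfl Lrfl
theorem f336441 : Led Lsl_gf (LP (LK LD1_c9 LD2_c37 LD3_c5)) = (LP (LK LD1_c9 LD2_c37 LD3_c52)) :=
  Lgr Lrot47 (Lpr_gt (f336437 IH) (Lpe (K16.f270862 IH) (Lpe (f282092 IH) (Lpn (LP (LK LD1_c9 LD2_c37 LD3_c52))))))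
theorem f307377 : Led Lsl_et (LP (LK LD1_c17 LD2_c42 LD3_c36)) = (LP (LK LD1_c9 LD2_c37 LD3_c5)) :=
  Lre_e IH (LK LD1_c17 LD2_c42 LD3_c36) (LK LD1_c9 LD2_c37 LD3_c5) Lrfl Lrfl
theorem f270892 : Led Lsl_et (LP (LK LD1_c4 LD2_c52 LD3_c59)) = (LP (LK LD1_c9 LD2_c37 LD3_c52)) :=
  Lre_e IH (LK LD1_c4 LD2_c52 LD3_c59) (LK LD1_c9 LD2_c37 LD3_c52) Lrfl Lrfl
theorem f200531 : Led Lsl_gt (LP (LK LD1_c11 LD2_c8 LD3_c48)) = (LP (LK LD1_c5 LD2_c38 LD3_c57)) :=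
  Lre_g IH (LK LD1_c11 LD2_c8 LD3_c48) (LK LD1_c5 LD2_c38 LD3_c57) Lrfl Lrfl
theorem f336519 : Led Lsl_dt (LP (LK LD1_c17 LD2_c42 LD3_c36)) = (LP (LK LD1_c11 LD2_c8 LD3_c48)) :=
  Lgr Lrot136 (Lpr_et (f307377 IH) (Lpr_gf (f336441 IH) (Lpe (f270892 IH) (Lpe (K16.f270884 IH) (Lpr_gf (K17.f254517 IH) (Lpr_df (K14.f255982 IH) (Lpe (K14.f200554 IH) (Lpe (K12.f200525 IH) (Lpe (K20.f200437 IH) (Lpe (f200531 IH) (Lpn (LP (LK LD1_c11 LD2_c8 LD3_c48)))))))))))))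
theorem f266232 : Led Lsl_gt (LP (LK LD1_c14 LD2_c58 LD3_c11)) = (LP (LK LD1_c24 LD2_c45 LD3_c46)) :=
  Lre_g IH (LK LD1_c14 LD2_c58 LD3_c11) (LK LD1_c24 LD2_c45 LD3_c46) Lrfl Lrfl
theorem f336525 : Led Lsl_gt (LP (LK LD1_c17 LD2_c48 LD3_c55)) = (LP (LK LD1_c11 LD2_c8 LD3_c48)) :=
  Lgr Lrot112 (Lpr_df (K20.f295918 IH) (Lpe (K18.f297697 IH) (Lpe (f266232 IH) (Lpe (f327484 IH) (Lpr_dt (f327477 IH) (Lpr_gf (f331433 IH) (Lpr_df (K16.f279351 IH) (Lpe (f336437 IH) (Lpe (f307377 IH) (Lpr_dt (f336519 IH) (Lpn (LP (LK LD1_c11 LD2_c8 LD3_c48)))))))))))))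
theorem f178862 : Led Lsl_ct (LP (LK LD1_c8 LD2_c21 LD3_c38)) = (LP (LK LD1_c4 LD2_c10 LD3_c50)) :=
  Lre_c IH (LK LD1_c8 LD2_c21 LD3_c38) (LK LD1_c4 LD2_c10 LD3_c50) Lrfl Lrfl
theorem f246585 : Led Lsl_gt (LP (LK LD1_c15 LD2_c44 LD3_c3)) = (LP (LK LD1_c8 LD2_c21 LD3_c38)) :=
  Lre_g IH (LK LD1_c15 LD2_c44 LD3_c3) (LK LD1_c8 LD2_c21 LD3_c38) Lrfl Lrfl
theorem f336527 : Led Lsl_cf (LP (LK LD1_c15 LD2_c44 LD3_c3)) = (LP (LK LD1_c11 LD2_c8 LD3_c48)) :=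
  Lgr Lrot169 (Lpr_gt (f246585 IH) (Lpr_ct (f178862 IH) (Lpe (K18.f226954 IH) (Lpe (K17.f245986 IH) (Lpr_gf (K18.f295922 IH) (Lpr_cf (K18.f178782 IH) (Lpe (K18.f178787 IH) (Lpr_df (K20.f297765 IH) (Lpr_gt (f336525 IH) (Lpn (LP (LK LD1_c11 LD2_c8 LD3_c48))))))))))))
theorem f224401 : Led Lsl_dt (LP (LK LD1_c19 LD2_c9 LD3_c7)) = (LP (LK LD1_c10 LD2_c34 LD3_c23)) :=
  Lre_d IH (LK LD1_c19 LD2_c9 LD3_c7) (LK LD1_c10 LD2_c34 LD3_c23) Lrfl Lrfl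
theorem f200532 : Led Lsl_gt (LP (LK LD1_c4 LD2_c22 LD3_c41)) = (LP (LK LD1_c8 LD2_c43 LD3_c13)) :=
  Lre_g IH (LK LD1_c4 LD2_c22 LD3_c41) (LK LD1_c8 LD2_c43 LD3_c13) Lrfl Lrfl
theorem f200533 : Led Lsl_dt (LP (LK LD1_c8 LD2_c43 LD3_c13)) = (LP (LK LD1_c16 LD2_c19 LD3_c60)) :=
  Lre_d IH (LK LD1_c8 LD2_c43 LD3_c13) (LK LD1_c16 LD2_c19 LD3_c60) Lrfl Lrfl
theorem f336546 : Led Lsl_ct (LP (LK LD1_c10 LD2_c34 LD3_c23)) = (LP (LK LD1_c16 LD2_c19 LD3_c60)) :=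
  Lgr Lrot7 (Lpe (f224401 IH) (Lpr_gf (K21.f328938 IH) (Lpe (K18.f226939 IH) (Lpe (f246585 IH) (Lpr_cf (f336527 IH) (Lpr_gt (f200531 IH) (Lpr_dt (K12.f200516 IH) (Lpr_gt (f200532 IH) (Lpr_dt (f200533 IH) (Lpn (LP (LK LD1_c16 LD2_c19 LD3_c60))))))))))))
theorem f328920 : Led Lsl_df (LP (LK LD1_c28 LD2_c34 LD3_c43)) = (LP (LK LD1_c25 LD2_c38 LD3_c35)) :=
  Lgr Lrot38 (Lpr_dt (K21.f328916 IH) (Lpn (LP (LK LD1_c25 LD2_c38 LD3_c35))))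
theorem f178794 : Led Lsl_ct (LP (LK LD1_c15 LD2_c42 LD3_c35)) = (LP (LK LD1_c25 LD2_c38 LD3_c35)) :=
  Lre_c IH (LK LD1_c15 LD2_c42 LD3_c35) (LK LD1_c25 LD2_c38 LD3_c35) Lrfl Lrfl
theorem f182627 : Led Lsl_ft (LP (LK LD1_c8 LD2_c13 LD3_c36)) = (LP (LK LD1_c15 LD2_c28 LD3_c27)) :=
  Lre_f IH (LK LD1_c8 LD2_c13 LD3_c36) (LK LD1_c15 LD2_c28 LD3_c27) Lrfl Lrfl
theorem f336581 : Led Lsl_at (LP (LK LD1_c15 LD2_c28 LD3_c27)) = (LP (LK LD1_c16 LD2_c19 LD3_c60)) :=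
  Lgr Lrot33 (Lpe (f182627 IH) (Lpe (K20.f321175 IH) (Lpe (K18.f178782 IH) (Lpr_dt (K21.f178793 IH) (Lpr_ct (f178794 IH) (Lpe (f328920 IH) (Lpr_ct (K19.f224375 IH) (Lpr_dt (f224401 IH) (Lpr_ct (f336546 IH) (Lpn (LP (LK LD1_c16 LD2_c19 LD3_c60))))))))))))
theorem f336585 : Led Lsl_gt (LP (LK LD1_c15 LD2_c28 LD3_c25)) = (LP (LK LD1_c16 LD2_c19 LD3_c60)) :=
  Lgr Lrot46 (Lpe (K21.f182630 IH) (Lpr_ft (f182627 IH) (Lpr_at (f336581 IH) (Lpn (LP (LK LD1_c16 LD2_c19 LD3_c60))))))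
theorem f325240 : Led Lsl_bf (LP (LK LD1_c15 LD2_c28 LD3_c25)) = (LP (LK LD1_c8 LD2_c27 LD3_c26)) :=
  Lgr Lrot24 (Lpr_bt (K21.f325238 IH) (Lpn (LP (LK LD1_c8 LD2_c27 LD3_c26))))
theorem f194365 : Led Lsl_et (LP (LK LD1_c1 LD2_c58 LD3_c34)) = (LP (LK LD1_c4 LD2_c3 LD3_c10)) :=
  Lre_e IH (LK LD1_c1 LD2_c58 LD3_c34) (LK LD1_c4 LD2_c3 LD3_c10) Lrfl Lrfl
theorem f194366 : Led Lsl_bf (LP (LK LD1_c6 LD2_c4 LD3_c27)) = (LP (LK LD1_c4 LD2_c3 LD3_c10)) :=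
  Lgr Lrot96 (Lpr_et (K21.f41778 IH) (Lpr_bt (K10.f194355 IH) (Lpr_et (f194365 IH) (Lpn (LP (LK LD1_c4 LD2_c3 LD3_c10))))))
theorem f336573 : Led Lsl_cf (LP (LK LD1_c10 LD2_c34 LD3_c23)) = (LP (LK LD1_c16 LD2_c19 LD3_c60)) :=
  Lgr Lrot11 (Lpr_ct (f336546 IH) (Lpn (LP (LK LD1_c16 LD2_c19 LD3_c60))))
theorem f275273 : Led Lsl_ct (LP (LK LD1_c10 LD2_c30 LD3_c35)) = (LP (LK LD1_c19 LD2_c2 LD3_c46)) :=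
  Lre_c IH (LK LD1_c10 LD2_c30 LD3_c35) (LK LD1_c19 LD2_c2 LD3_c46) Lrfl Lrfl
theorem f226938 : Led Lsl_et (LP (LK LD1_c8 LD2_c21 LD3_c38)) = (LP (LK LD1_c4 LD2_c10 LD3_c52)) :=
  Lre_e IH (LK LD1_c8 LD2_c21 LD3_c38) (LK LD1_c4 LD2_c10 LD3_c52) Lrfl Lrfl
theorem f221672 : Led Lsl_et (LP (LK LD1_c1 LD2_c15 LD3_c33)) = (LP (LK LD1_c2 LD2_c36 LD3_c49)) :=
  Lre_e IH (LK LD1_c1 LD2_c15 LD3_c33) (LK LD1_c2 LD2_c36 LD3_c49) Lrfl Lrfl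
theorem f226950 : Led Lsl_gf (LP (LK LD1_c15 LD2_c44 LD3_c5)) = (LP (LK LD1_c19 LD2_c2 LD3_c53)) :=
  Lgr Lrot145 (Lpe (K18.f226939 IH) (Lpr_et (f226938 IH) (Lpr_gt (K13.f226911 IH) (Lpe (K12.f221665 IH) (Lpr_gt (K12.f217326 IH) (Lpe (K12.f168043 IH) (Lpr_et (f221672 IH) (Lpr_gt (K11.f42517 IH) (Lpe (K16.f182740 IH) (Lpr_dt (K16.f182738 IH) (Lpn (LP (LK LD1_c19 LD2_c2 LD3_c53)))))))))))))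
theorem f288877 : Led Lsl_gt (LP (LK LD1_c19 LD2_c2 LD3_c46)) = (LP (LK LD1_c10 LD2_c30 LD3_c39)) :=
  Lgr Lrot94 (Lpe (f275273 IH) (Lpr_gt (K16.f231432 IH) (Lpr_dt (K21.f275292 IH) (Lpr_gt (K17.f288869 IH) (Lpr_dt (K18.f226954 IH) (Lpe (f178862 IH) (Lpe (K16.f178863 IH) (Lpr_gf (f226950 IH) (Lpe (K16.f182738 IH) (Lpn (LP (LK LD1_c10 LD2_c30 LD3_c39))))))))))))
theorem f328914 : Led Lsl_gt (LP (LK LD1_c10 LD2_c34 LD3_c23)) = (LP (LK LD1_c19 LD2_c2 LD3_c46)) :=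
  Lgr Lrot5 (Lpr_ft (K21.f194929 IH) (Lpr_at (K21.f328906 IH) (Lpe (f288877 IH) (Lpn (LP (LK LD1_c19 LD2_c2 LD3_c46))))))
theorem f336589 : Led Lsl_bf (LP (LK LD1_c11 LD2_c52 LD3_c22)) = (LP (LK LD1_c10 LD2_c30 LD3_c35)) :=
  Lgr Lrot156 (Lpr_gt (K21.f274445 IH) (Lpr_bf (f194366 IH) (Lpr_ct (K20.f227045 IH) (Lpr_gt (K21.f216506 IH) (Lpe (K21.f299161 IH) (Lpe (f325240 IH) (Lpr_gt (f336585 IH) (Lpe (f336573 IH) (Lpr_gt (f328914 IH) (Lpe (f275273 IH) (Lpn (LP (LK LD1_c10 LD2_c30 LD3_c35)))))))))))))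
theorem f310929 : Led Lsl_bt (LP (LK LD1_c2 LD2_c38 LD3_c6)) = (LP (LK LD1_c5 LD2_c22 LD3_c25)) :=
  Lre_b IH (LK LD1_c2 LD2_c38 LD3_c6) (LK LD1_c5 LD2_c22 LD3_c25) Lrfl Lrfl
theorem f310930 : Led Lsl_ef (LP (LK LD1_c2 LD2_c38 LD3_c6)) = (LP (LK LD1_c5 LD2_c20 LD3_c41)) :=
  Lgr Lrot29 (Lpr_bt (f310929 IH) (Lpr_et (K19.f310925 IH) (Lpr_bt (K21.f169190 IH) (Lpn (LP (LK LD1_c5 LD2_c20 LD3_c41))))))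
theorem f322515 : Led Lsl_gf (LP (LK LD1_c8 LD2_c32 LD3_c56)) = (LP (LK LD1_c5 LD2_c23 LD3_c53)) :=
  Lgr Lrot145 (Lpr_df (K15.f184267 IH) (Lpe (f310930 IH) (Lpr_gt (f311253 IH) (Lpe (f42354 IH) (Lpr_gt (f322513 IH) (Lpr_df (K12.f198983 IH) (Lpe (K15.f256590 IH) (Lpr_gt (K20.f254407 IH) (Lpe (K16.f254415 IH) (Lpr_dt (K16.f256509 IH) (Lpn (LP (LK LD1_c5 LD2_c23 LD3_c53)))))))))))))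
theorem f315922 : Led Lsl_et (LP (LK LD1_c4 LD2_c17 LD3_c27)) = (LP (LK LD1_c8 LD2_c32 LD3_c56)) :=
  Lgr Lrot87 (Lpr_ef (K20.f315911 IH) (Lpn (LP (LK LD1_c8 LD2_c32 LD3_c56))))
theorem f314707 : Led Lsl_bf (LP (LK LD1_c2 LD2_c41 LD3_c41)) = (LP (LK LD1_c5 LD2_c23 LD3_c53)) :=
  Lgr Lrot24 (Lpr_bt (K20.f314705 IH) (Lpn (LP (LK LD1_c5 LD2_c23 LD3_c53))))
theorem f322463 : Led Lsl_bt (LP (LK LD1_c4 LD2_c12 LD3_c5)) = (LP (LK LD1_c8 LD2_c23 LD3_c49)) :=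
  Lre_b IH (LK LD1_c4 LD2_c12 LD3_c5) (LK LD1_c8 LD2_c23 LD3_c49) Lrfl Lrfl
theorem f322464 : Led Lsl_ef (LP (LK LD1_c5 LD2_c23 LD3_c53)) = (LP (LK LD1_c8 LD2_c23 LD3_c49)) :=
  Lgr Lrot29 (Lpe (f314707 IH) (Lpr_et (K20.f322404 IH) (Lpr_bt (f322463 IH) (Lpn (LP (LK LD1_c8 LD2_c23 LD3_c49))))))
theorem f322490 : Led Lsl_gt (LP (LK LD1_c4 LD2_c17 LD3_c13)) = (LP (LK LD1_c4 LD2_c12 LD3_c3)) :=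
  Lgr Lrot131 (Lpe (K11.f199828 IH) (Lpr_dt (K11.f199764 IH) (Lpr_gf (K12.f231224 IH) (Lpe (K12.f230945 IH) (Lpr_gf (K18.f300817 IH) (Lpe (K17.f7875 IH) (Lpe (K18.f276736 IH) (Lpe (K16.f254406 IH) (Lpr_df (K20.f322480 IH) (Lpr_et (K20.f322489 IH) (Lpn (LP (LK LD1_c4 LD2_c12 LD3_c3)))))))))))))
theorem f232842 : Led Lsl_et (LP (LK LD1_c16 LD2_c2 LD3_c42)) = (LP (LK LD1_c8 LD2_c32 LD3_c44)) :=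
  Lre_e IH (LK LD1_c16 LD2_c2 LD3_c42) (LK LD1_c8 LD2_c32 LD3_c44) Lrfl Lrfl
theorem f322519 : Led Lsl_gt (LP (LK LD1_c6 LD2_c5 LD3_c1)) = (LP (LK LD1_c11 LD2_c52 LD3_c22)) :=
  Lgr Lrot112 (Lpe (K20.f315920 IH) (Lpr_et (f315922 IH) (Lpr_gf (f322515 IH) (Lpr_ef (f322464 IH) (Lpr_dt (K20.f322478 IH) (Lpe (f322490 IH) (Lpe (K13.f199843 IH) (Lpe (K21.f232746 IH) (Lpe (f232842 IH) (Lpe (K21.f302869 IH) (Lpn (LP (LK LD1_c11 LD2_c52 LD3_c22)))))))))))))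
theorem f283475 : Led Lsl_ct (LP (LK LD1_c11 LD2_c53 LD3_c14)) = (LP (LK LD1_c20 LD2_c56 LD3_c43)) :=
  Lre_c IH (LK LD1_c11 LD2_c53 LD3_c14) (LK LD1_c20 LD2_c56 LD3_c43) Lrfl Lrfl
theorem f182632 : Led Lsl_gt (LP (LK LD1_c4 LD2_c6 LD3_c34)) = (LP (LK LD1_c8 LD2_c13 LD3_c41)) :=
  Lre_g IH (LK LD1_c4 LD2_c6 LD3_c34) (LK LD1_c8 LD2_c13 LD3_c41) Lrfl Lrfl
theorem f182745 : Led Lsl_ct (LP (LK LD1_c8 LD2_c13 LD3_c41)) = (LP (LK LD1_c15 LD2_c28 LD3_c42)) :=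
  Lre_c IH (LK LD1_c8 LD2_c13 LD3_c41) (LK LD1_c15 LD2_c28 LD3_c42) Lrfl Lrfl
theorem f336599 : Led Lsl_gf (LP (LK LD1_c20 LD2_c56 LD3_c43)) = (LP (LK LD1_c15 LD2_c28 LD3_c42)) :=
  Lgr Lrot129 (Lpe (f283475 IH) (Lpr_bt (K17.f283469 IH) (Lpr_gt (f322519 IH) (Lpr_bf (f336589 IH) (Lpr_ct (f275273 IH) (Lpr_gt (f288877 IH) (Lpr_cf (K21.f182622 IH) (Lpr_bt (K21.f182617 IH) (Lpr_gt (f182632 IH) (Lpr_ct (f182745 IH) (Lpn (LP (LK LD1_c15 LD2_c28 LD3_c42)))))))))))))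
theorem f302871 : Led Lsl_ct (LP (LK LD1_c11 LD2_c52 LD3_c22)) = (LP (LK LD1_c20 LD2_c55 LD3_c13)) :=
  Lre_c IH (LK LD1_c11 LD2_c52 LD3_c22) (LK LD1_c20 LD2_c55 LD3_c13) Lrfl Lrfl
theorem f7811 : Led Lsl_ct (LP (LK LD1_c5 LD2_c28 LD3_c22)) = (LP (LK LD1_c2 LD2_c40 LD3_c31)) :=
  Lre_c IH (LK LD1_c5 LD2_c28 LD3_c22) (LK LD1_c2 LD2_c40 LD3_c31) Lrfl Lrfl
theorem f7812 : Led Lsl_dt (LP (LK LD1_c10 LD2_c47 LD3_c52)) = (LP (LK LD1_c5 LD2_c28 LD3_c22)) :=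
  Lre_d IH (LK LD1_c10 LD2_c47 LD3_c52) (LK LD1_c5 LD2_c28 LD3_c22) Lrfl Lrfl
theorem f325322 : Led Lsl_gt (LP (LK LD1_c20 LD2_c55 LD3_c13)) = (LP (LK LD1_c11 LD2_c52 LD3_c26)) :=
  Lgr Lrot94 (Lpe (f302871 IH) (Lpr_gt (K21.f274445 IH) (Lpr_dt (K21.f325320 IH) (Lpe (K21.f325310 IH) (Lpr_dt (K20.f7741 IH) (Lpe (f7811 IH) (Lpe (f7812 IH) (Lpe (K21.f7870 IH) (Lpr_df (K21.f316635 IH) (Lpn (LP (LK LD1_c11 LD2_c52 LD3_c26))))))))))))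
theorem f182932 : Led Lsl_cf (LP (LK LD1_c11 LD2_c52 LD3_c26)) = (LP (LK LD1_c8 LD2_c11 LD3_c24)) :=
  Lgr Lrot11 (Lpr_ct (K21.f182566 IH) (Lpn (LP (LK LD1_c8 LD2_c11 LD3_c24))))
theorem f182939 : Led Lsl_gt (LP (LK LD1_c4 LD2_c5 LD3_c19)) = (LP (LK LD1_c8 LD2_c11 LD3_c29)) :=
  Lre_g IH (LK LD1_c4 LD2_c5 LD3_c19) (LK LD1_c8 LD2_c11 LD3_c29) Lrfl Lrfl
theorem f336606 : Led Lsl_bf (LP (LK LD1_c8 LD2_c11 LD3_c29)) = (LP (LK LD1_c8 LD2_c13 LD3_c41)) :=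
  Lgr Lrot34 (Lpe (f182939 IH) (Lpe (K21.f182927 IH) (Lpe (f182932 IH) (Lpe (f325322 IH) (Lpe (f302871 IH) (Lpe (f322519 IH) (Lpe (K17.f283469 IH) (Lpr_ct (f283475 IH) (Lpr_gf (f336599 IH) (Lpe (f182745 IH) (Lpn (LP (LK LD1_c8 LD2_c13 LD3_c41)))))))))))))
theorem f336608 : Led Lsl_bt (LP (LK LD1_c8 LD2_c11 LD3_c29)) = (LP (LK LD1_c8 LD2_c13 LD3_c41)) :=
  Lgr Lrot127 (Lpr_bf (f336606 IH) (Lpn (LP (LK LD1_c8 LD2_c13 LD3_c41))))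
theorem f183013 : Led Lsl_ct (LP (LK LD1_c8 LD2_c11 LD3_c29)) = (LP (LK LD1_c15 LD2_c25 LD3_c23)) :=
  Lre_c IH (LK LD1_c8 LD2_c11 LD3_c29) (LK LD1_c15 LD2_c25 LD3_c23) Lrfl Lrfl
theorem f284178 : Led Lsl_gt (LP (LK LD1_c5 LD2_c21 LD3_c53)) = (LP (LK LD1_c10 LD2_c30 LD3_c35)) :=
  Lgr Lrot139 (Lpr_df (K17.f284162 IH) (Lpe (K17.f187041 IH) (Lpe (K17.f187025 IH) (Lpr_dt (K14.f167111 IH) (Lpe (K10.f171164 IH) (Lpe (K11.f187010 IH) (Lpr_et (K11.f199896 IH) (Lpe (K16.f232830 IH) (Lpe (K16.f232833 IH) (Lpe (K16.f275283 IH) (Lpn (LP (LK LD1_c10 LD2_c30 LD3_c35)))))))))))))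
theorem f253359 : Led Lsl_bt (LP (LK LD1_c10 LD2_c33 LD3_c44)) = (LP (LK LD1_c5 LD2_c21 LD3_c53)) :=
  Lre_b IH (LK LD1_c10 LD2_c33 LD3_c44) (LK LD1_c5 LD2_c21 LD3_c53) Lrfl Lrfl
theorem f336624 : Led Lsl_gt (LP (LK LD1_c15 LD2_c25 LD3_c23)) = (LP (LK LD1_c19 LD2_c7 LD3_c42)) :=
  Lgr Lrot65 (Lpe (f183013 IH) (Lpr_bt (f336608 IH) (Lpe (f182632 IH) (Lpe (K21.f182617 IH) (Lpe (K21.f182622 IH) (Lpe (f288877 IH) (Lpe (f275273 IH) (Lpe (f284178 IH) (Lpe (f253359 IH) (Lpr_ct (K21.f284180 IH) (Lpn (LP (LK LD1_c19 LD2_c7 LD3_c42)))))))))))))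
theorem f253351 : Led Lsl_ct (LP (LK LD1_c19 LD2_c7 LD3_c42)) = (LP (LK LD1_c10 LD2_c33 LD3_c44)) :=
  Lre_c IH (LK LD1_c19 LD2_c7 LD3_c42) (LK LD1_c10 LD2_c33 LD3_c44) Lrfl Lrfl
theorem f336628 : Led Lsl_gt (LP (LK LD1_c8 LD2_c25 LD3_c12)) = (LP (LK LD1_c15 LD2_c43 LD3_c56)) :=
  Lgr Lrot150 (Lpe (K21.f261144 IH) (Lpr_gf (K20.f322270 IH) (Lpe (K20.f322252 IH) (Lpr_gt (f182939 IH) (Lpr_ct (f183013 IH) (Lpr_gt (f336624 IH) (Lpr_ct (f253351 IH) (Lpr_df (K18.f284525 IH) (Lpe (K17.f284524 IH) (Lpn (LP (LK LD1_c15 LD2_c43 LD3_c56))))))))))))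
theorem f271129 : Led Lsl_ct (LP (LK LD1_c15 LD2_c48 LD3_c14)) = (LP (LK LD1_c8 LD2_c24 LD3_c21)) :=
  Lre_c IH (LK LD1_c15 LD2_c48 LD3_c14) (LK LD1_c8 LD2_c24 LD3_c21) Lrfl Lrfl
theorem f271130 : Led Lsl_ft (LP (LK LD1_c8 LD2_c25 LD3_c12)) = (LP (LK LD1_c15 LD2_c48 LD3_c14)) :=
  Lgr Lrot4 (Lpe (K21.f261144 IH) (Lpr_ff (K16.f271086 IH) (Lpe (f271129 IH) (Lpn (LP (LK LD1_c15 LD2_c48 LD3_c14))))))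
theorem f336630 : Led Lsl_at (LP (LK LD1_c15 LD2_c48 LD3_c14)) = (LP (LK LD1_c8 LD2_c25 LD3_c39)) :=
  Lgr Lrot26 (Lpe (f271130 IH) (Lpr_gt (f336628 IH) (Lpr_gt (K17.f287804 IH) (Lpn (LP (LK LD1_c8 LD2_c25 LD3_c39))))))
theorem f336672 : Led Lsl_af (LP (LK LD1_c15 LD2_c48 LD3_c14)) = (LP (LK LD1_c8 LD2_c25 LD3_c39)) :=
  Lgr Lrot0 (Lpr_at (f336630 IH) (Lpn (LP (LK LD1_c8 LD2_c25 LD3_c39))))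
theorem f336674 : Led Lsl_ft (LP (LK LD1_c4 LD2_c13 LD3_c10)) = (LP (LK LD1_c8 LD2_c25 LD3_c39)) :=
  Lre_f IH (LK LD1_c4 LD2_c13 LD3_c10) (LK LD1_c8 LD2_c25 LD3_c39) Lrfl Lrfl
theorem f271094 : Led Lsl_gt (LP (LK LD1_c4 LD2_c13 LD3_c10)) = (LP (LK LD1_c8 LD2_c25 LD3_c37)) :=
  Lre_g IH (LK LD1_c4 LD2_c13 LD3_c10) (LK LD1_c8 LD2_c25 LD3_c37) Lrfl Lrfl
theorem f336675 : Led Lsl_gf (LP (LK LD1_c15 LD2_c48 LD3_c14)) = (LP (LK LD1_c8 LD2_c25 LD3_c37)) :=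
  Lgr Lrot76 (Lpr_af (f336672 IH) (Lpe (f336674 IH) (Lpr_gt (f271094 IH) (Lpn (LP (LK LD1_c8 LD2_c25 LD3_c37))))))
theorem f305876 : Led Lsl_bt (LP (LK LD1_c8 LD2_c24 LD3_c21)) = (LP (LK LD1_c8 LD2_c36 LD3_c12)) :=
  Lgr Lrot35 (Lpe (K16.f271137 IH) (Lpe (K15.f261140 IH) (Lpr_ff (K19.f305872 IH) (Lpn (LP (LK LD1_c8 LD2_c36 LD3_c12))))))
theorem f292408 : Led Lsl_ft (LP (LK LD1_c15 LD2_c36 LD3_c38)) = (LP (LK LD1_c8 LD2_c18 LD3_c1)) :=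
  Lre_f IH (LK LD1_c15 LD2_c36 LD3_c38) (LK LD1_c8 LD2_c18 LD3_c1) Lrfl Lrfl
theorem f292407 : Led Lsl_at (LP (LK LD1_c8 LD2_c18 LD3_c1)) = (LP (LK LD1_c15 LD2_c36 LD3_c23)) :=
  Lre_a IH (LK LD1_c8 LD2_c18 LD3_c1) (LK LD1_c15 LD2_c36 LD3_c23) Lrfl Lrfl
theorem f330910 : Led Lsl_gf (LP (LK LD1_c15 LD2_c36 LD3_c23)) = (LP (LK LD1_c8 LD2_c36 LD3_c11)) :=
  Lgr Lrot76 (Lpe (f292407 IH) (Lpe (f292408 IH) (Lpr_gt (K21.f330906 IH) (Lpn (LP (LK LD1_c8 LD2_c36 LD3_c11))))))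
theorem f292411 : Led Lsl_ct (LP (LK LD1_c8 LD2_c17 LD3_c56)) = (LP (LK LD1_c15 LD2_c36 LD3_c23)) :=
  Lre_c IH (LK LD1_c8 LD2_c17 LD3_c56) (LK LD1_c15 LD2_c36 LD3_c23) Lrfl Lrfl
theorem f324652 : Led Lsl_bf (LP (LK LD1_c4 LD2_c21 LD3_c19)) = (LP (LK LD1_c8 LD2_c17 LD3_c56)) :=
  Lgr Lrot24 (Lpr_bt (K21.f324647 IH) (Lpn (LP (LK LD1_c8 LD2_c17 LD3_c56))))
theorem f336679 : Led Lsl_ct (LP (LK LD1_c8 LD2_c30 LD3_c51)) = (LP (LK LD1_c8 LD2_c25 LD3_c37)) :=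
  Lgr Lrot64 (Lpe (K19.f305545 IH) (Lpe (K19.f191839 IH) (Lpr_bf (f324652 IH) (Lpr_ct (f292411 IH) (Lpr_gf (f330910 IH) (Lpe (K21.f250784 IH) (Lpe (K19.f250791 IH) (Lpe (f305876 IH) (Lpr_ct (K20.f271141 IH) (Lpr_gf (f336675 IH) (Lpn (LP (LK LD1_c8 LD2_c25 LD3_c37)))))))))))))
theorem f236171 : Led Lsl_ct (LP (LK LD1_c2 LD2_c5 LD3_c23)) = (LP (LK LD1_c4 LD2_c15 LD3_c61)) :=
  Lre_c IH (LK LD1_c2 LD2_c5 LD3_c23) (LK LD1_c4 LD2_c15 LD3_c61) Lrfl Lrfl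
theorem f220713 : Led Lsl_gt (LP (LK LD1_c8 LD2_c31 LD3_c3)) = (LP (LK LD1_c4 LD2_c15 LD3_c61)) :=
  Lre_g IH (LK LD1_c8 LD2_c31 LD3_c3) (LK LD1_c4 LD2_c15 LD3_c61) Lrfl Lrfl
theorem f336681 : Led Lsl_ct (LP (LK LD1_c5 LD2_c29 LD3_c34)) = (LP (LK LD1_c8 LD2_c31 LD3_c3)) :=
  Lgr Lrot64 (Lpr_bt (K19.f250776 IH) (Lpe (K19.f250791 IH) (Lpe (f305876 IH) (Lpr_ct (K20.f271141 IH) (Lpr_gf (f336675 IH) (Lpe (f336679 IH) (Lpe (K17.f220664 IH) (Lpe (K15.f220651 IH) (Lpr_ct (f236171 IH) (Lpe (f220713 IH) (Lpn (LP (LK LD1_c8 LD2_c31 LD3_c3)))))))))))))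
theorem f336687 : Led Lsl_ef (LP (LK LD1_c5 LD2_c29 LD3_c33)) = (LP (LK LD1_c8 LD2_c31 LD3_c3)) :=
  Lgr Lrot28 (Lpr_ct (K14.f216857 IH) (Lpr_et (K19.f250790 IH) (Lpr_ct (f336681 IH) (Lpn (LP (LK LD1_c8 LD2_c31 LD3_c3))))))
theorem f234571 : Led Lsl_et (LP (LK LD1_c4 LD2_c8 LD3_c43)) = (LP (LK LD1_c8 LD2_c17 LD3_c31)) :=
  Lre_e IH (LK LD1_c4 LD2_c8 LD3_c43) (LK LD1_c8 LD2_c17 LD3_c31) Lrfl Lrfl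
theorem f336695 : Led Lsl_at (LP (LK LD1_c8 LD2_c17 LD3_c31)) = (LP (LK LD1_c8 LD2_c31 LD3_c3)) :=
  Lgr Lrot80 (Lpe (f234571 IH) (Lpr_af (K21.f329210 IH) (Lpr_ef (f336687 IH) (Lpn (LP (LK LD1_c8 LD2_c31 LD3_c3))))))
theorem f336685 : Led Lsl_cf (LP (LK LD1_c5 LD2_c29 LD3_c34)) = (LP (LK LD1_c8 LD2_c31 LD3_c3)) :=
  Lgr Lrot11 (Lpr_ct (f336681 IH) (Lpn (LP (LK LD1_c8 LD2_c31 LD3_c3))))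
theorem f336699 : Led Lsl_af (LP (LK LD1_c8 LD2_c42 LD3_c33)) = (LP (LK LD1_c5 LD2_c29 LD3_c34)) :=
  Lgr Lrot68 (Lpr_ct (K16.f234559 IH) (Lpr_at (f336695 IH) (Lpe (f336685 IH) (Lpn (LP (LK LD1_c5 LD2_c29 LD3_c34))))))
theorem f178777 : Led Lsl_bt (LP (LK LD1_c8 LD2_c25 LD3_c13)) = (LP (LK LD1_c4 LD2_c13 LD3_c2)) :=
  Lre_b IH (LK LD1_c8 LD2_c25 LD3_c13) (LK LD1_c4 LD2_c13 LD3_c2) Lrfl Lrfl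
theorem f336701 : Led Lsl_at (LP (LK LD1_c9 LD2_c34 LD3_c45)) = (LP (LK LD1_c8 LD2_c25 LD3_c13)) :=
  Lgr Lrot67 (Lpe (K16.f232298 IH) (Lpr_af (f336699 IH) (Lpr_bf (K19.f250773 IH) (Lpr_af (K21.f325005 IH) (Lpe (f178777 IH) (Lpn (LP (LK LD1_c8 LD2_c25 LD3_c13))))))))
theorem f200539 : Led Lsl_dt (LP (LK LD1_c16 LD2_c19 LD3_c60)) = (LP (LK LD1_c8 LD2_c43 LD3_c13)) :=
  Lre_d IH (LK LD1_c16 LD2_c19 LD3_c60) (LK LD1_c8 LD2_c43 LD3_c13) Lrfl Lrfl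
theorem f336587 : Led Lsl_gf (LP (LK LD1_c15 LD2_c49 LD3_c18)) = (LP (LK LD1_c8 LD2_c43 LD3_c13)) :=
  Lgr Lrot143 (Lpe (K20.f295918 IH) (Lpe (K17.f286985 IH) (Lpe (K18.f297769 IH) (Lpr_gf (K18.f254357 IH) (Lpe (K18.f254336 IH) (Lpr_gf (K21.f254338 IH) (Lpe (K21.f325232 IH) (Lpr_gt (f336585 IH) (Lpr_dt (f200539 IH) (Lpn (LP (LK LD1_c8 LD2_c43 LD3_c13))))))))))))
theorem f336703 : Led Lsl_ff (LP (LK LD1_c9 LD2_c34 LD3_c45)) = (LP (LK LD1_c8 LD2_c43 LD3_c13)) :=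
  Lgr Lrot52 (Lpr_at (f336701 IH) (Lpe (K18.f178787 IH) (Lpr_gf (f336587 IH) (Lpn (LP (LK LD1_c8 LD2_c43 LD3_c13))))))
theorem f336713 : Led Lsl_ft (LP (LK LD1_c9 LD2_c34 LD3_c45)) = (LP (LK LD1_c8 LD2_c43 LD3_c13)) :=
  Lgr Lrot48 (Lpr_ff (f336703 IH) (Lpn (LP (LK LD1_c8 LD2_c43 LD3_c13))))
theorem f336592 : Led Lsl_et (LP (LK LD1_c8 LD2_c43 LD3_c13)) = (LP (LK LD1_c16 LD2_c19 LD3_c61)) :=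
  Lre_e IH (LK LD1_c8 LD2_c43 LD3_c13) (LK LD1_c16 LD2_c19 LD3_c61) Lrfl Lrfl
theorem f336715 : Led Lsl_ff (LP (LK LD1_c10 LD2_c50 LD3_c24)) = (LP (LK LD1_c16 LD2_c19 LD3_c61)) :=
  Lgr Lrot72 (Lpr_et (K21.f220357 IH) (Lpr_ft (K20.f318056 IH) (Lpr_et (K16.f232303 IH) (Lpr_ft (f336713 IH) (Lpr_et (f336592 IH) (Lpn (LP (LK LD1_c16 LD2_c19 LD3_c61))))))))
theorem f260966 : Led Lsl_ft (LP (LK LD1_c8 LD2_c26 LD3_c41)) = (LP (LK LD1_c15 LD2_c51 LD3_c27)) :=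
  Lre_f IH (LK LD1_c8 LD2_c26 LD3_c41) (LK LD1_c15 LD2_c51 LD3_c27) Lrfl Lrfl
theorem f336723 : Led Lsl_dt (LP (LK LD1_c15 LD2_c51 LD3_c27)) = (LP (LK LD1_c16 LD2_c19 LD3_c61)) :=
  Lgr Lrot60 (Lpe (f260966 IH) (Lpe (K20.f260960 IH) (Lpr_ff (f336715 IH) (Lpn (LP (LK LD1_c16 LD2_c19 LD3_c61))))))
theorem f219458 : Led Lsl_et (LP (LK LD1_c16 LD2_c19 LD3_c61)) = (LP (LK LD1_c8 LD2_c43 LD3_c13)) :=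
  Lre_e IH (LK LD1_c16 LD2_c19 LD3_c61) (LK LD1_c8 LD2_c43 LD3_c13) Lrfl Lrfl
theorem f187674 : Led Lsl_et (LP (LK LD1_c5 LD2_c20 LD3_c20)) = (LP (LK LD1_c10 LD2_c30 LD3_c42)) :=
  Lre_e IH (LK LD1_c5 LD2_c20 LD3_c20) (LK LD1_c10 LD2_c30 LD3_c42) Lrfl Lrfl
theorem f187701 : Led Lsl_ft (LP (LK LD1_c10 LD2_c30 LD3_c42)) = (LP (LK LD1_c19 LD2_c3 LD3_c0)) :=
  Lre_f IH (LK LD1_c10 LD2_c30 LD3_c42) (LK LD1_c19 LD2_c3 LD3_c0) Lrfl Lrfl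
theorem f328889 : Led Lsl_et (LP (LK LD1_c19 LD2_c3 LD3_c0)) = (LP (LK LD1_c10 LD2_c34 LD3_c23)) :=
  Lgr Lrot69 (Lpe (f187701 IH) (Lpe (f187674 IH) (Lpr_ff (K21.f328883 IH) (Lpe (K14.f194891 IH) (Lpe (K21.f194929 IH) (Lpn (LP (LK LD1_c10 LD2_c34 LD3_c23))))))))
theorem f187676 : Led Lsl_ct (LP (LK LD1_c10 LD2_c30 LD3_c42)) = (LP (LK LD1_c10 LD2_c24 LD3_c18)) :=
  Lgr Lrot15 (Lpe (f187674 IH) (Lpr_cf (K10.f187665 IH) (Lpe (K10.f187675 IH) (Lpn (LP (LK LD1_c10 LD2_c24 LD3_c18))))))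
theorem f187687 : Led Lsl_ft (LP (LK LD1_c19 LD2_c3 LD3_c0)) = (LP (LK LD1_c10 LD2_c30 LD3_c42)) :=
  Lre_f IH (LK LD1_c19 LD2_c3 LD3_c0) (LK LD1_c10 LD2_c30 LD3_c42) Lrfl Lrfl
theorem f187689 : Led Lsl_cf (LP (LK LD1_c19 LD2_c3 LD3_c0)) = (LP (LK LD1_c18 LD2_c52 LD3_c39)) :=
  Lgr Lrot108 (Lpr_ft (f187687 IH) (Lpr_ct (f187676 IH) (Lpr_ft (K10.f187688 IH) (Lpn (LP (LK LD1_c18 LD2_c52 LD3_c39))))))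
theorem f336577 : Led Lsl_ef (LP (LK LD1_c18 LD2_c52 LD3_c39)) = (LP (LK LD1_c16 LD2_c19 LD3_c60)) :=
  Lgr Lrot28 (Lpe (f187689 IH) (Lpr_et (f328889 IH) (Lpr_ct (f336546 IH) (Lpn (LP (LK LD1_c16 LD2_c19 LD3_c60))))))
theorem f336732 : Led Lsl_ef (LP (LK LD1_c15 LD2_c51 LD3_c27)) = (LP (LK LD1_c16 LD2_c13 LD3_c38)) :=
  Lgr Lrot73 (Lpr_dt (f336723 IH) (Lpr_et (f219458 IH) (Lpr_dt (f200533 IH) (Lpe (f336577 IH) (Lpr_dt (K10.f191746 IH) (Lpn (LP (LK LD1_c16 LD2_c13 LD3_c38))))))))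
theorem f336734 : Led Lsl_et (LP (LK LD1_c15 LD2_c51 LD3_c27)) = (LP (LK LD1_c16 LD2_c13 LD3_c38)) :=
  Lgr Lrot87 (Lpr_ef (f336732 IH) (Lpn (LP (LK LD1_c16 LD2_c13 LD3_c38))))
theorem f336730 : Led Lsl_df (LP (LK LD1_c15 LD2_c51 LD3_c27)) = (LP (LK LD1_c16 LD2_c19 LD3_c61)) :=
  Lgr Lrot38 (Lpr_dt (f336723 IH) (Lpn (LP (LK LD1_c16 LD2_c19 LD3_c61))))
theorem f187699 : Led Lsl_bt (LP (LK LD1_c18 LD2_c52 LD3_c39)) = (LP (LK LD1_c10 LD2_c24 LD3_c21)) :=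
  Lre_b IH (LK LD1_c18 LD2_c52 LD3_c39) (LK LD1_c10 LD2_c24 LD3_c21) Lrfl Lrfl
theorem f187205 : Led Lsl_bf (LP (LK LD1_c16 LD2_c13 LD3_c38)) = (LP (LK LD1_c15 LD2_c50 LD3_c61)) :=
  Lgr Lrot24 (Lpr_bt (K10.f187203 IH) (Lpn (LP (LK LD1_c15 LD2_c50 LD3_c61))))
theorem f191741 : Led Lsl_df (LP (LK LD1_c18 LD2_c52 LD3_c39)) = (LP (LK LD1_c16 LD2_c13 LD3_c38)) :=
  Lgr Lrot12 (Lpr_bt (f187699 IH) (Lpr_dt (K10.f191739 IH) (Lpe (f187205 IH) (Lpn (LP (LK LD1_c16 LD2_c13 LD3_c38))))))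
theorem f336736 : Led Lsl_ef (LP (LK LD1_c16 LD2_c19 LD3_c60)) = (LP (LK LD1_c18 LD2_c52 LD3_c39)) :=
  Lgr Lrot73 (Lpr_dt (f200539 IH) (Lpr_et (f336592 IH) (Lpe (f336730 IH) (Lpr_et (f336734 IH) (Lpe (f191741 IH) (Lpn (LP (LK LD1_c18 LD2_c52 LD3_c39))))))))
theorem f187697 : Led Lsl_ct (LP (LK LD1_c19 LD2_c3 LD3_c0)) = (LP (LK LD1_c18 LD2_c52 LD3_c39)) :=
  Lgr Lrot59 (Lpr_cf (f187689 IH) (Lpn (LP (LK LD1_c18 LD2_c52 LD3_c39))))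
theorem f336742 : Led Lsl_et (LP (LK LD1_c10 LD2_c34 LD3_c23)) = (LP (LK LD1_c19 LD2_c3 LD3_c0)) :=
  Lgr Lrot158 (Lpr_cf (f336573 IH) (Lpr_ef (f336736 IH) (Lpe (f187697 IH) (Lpn (LP (LK LD1_c19 LD2_c3 LD3_c0))))))
theorem f194874 : Led Lsl_bt (LP (LK LD1_c19 LD2_c9 LD3_c0)) = (LP (LK LD1_c10 LD2_c34 LD3_c23)) :=
  Lre_b IH (LK LD1_c19 LD2_c9 LD3_c0) (LK LD1_c10 LD2_c34 LD3_c23) Lrfl Lrfl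
theorem f187695 : Led Lsl_bt (LP (LK LD1_c19 LD2_c3 LD3_c0)) = (LP (LK LD1_c28 LD2_c29 LD3_c19)) :=
  Lre_b IH (LK LD1_c19 LD2_c3 LD3_c0) (LK LD1_c28 LD2_c29 LD3_c19) Lrfl Lrfl
theorem f336744 : Led Lsl_ef (LP (LK LD1_c19 LD2_c9 LD3_c0)) = (LP (LK LD1_c28 LD2_c29 LD3_c19)) :=
  Lgr Lrot29 (Lpr_bt (f194874 IH) (Lpr_et (f336742 IH) (Lpr_bt (f187695 IH) (Lpn (LP (LK LD1_c28 LD2_c29 LD3_c19))))))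
theorem f194877 : Led Lsl_ft (LP (LK LD1_c19 LD2_c9 LD3_c0)) = (LP (LK LD1_c10 LD2_c34 LD3_c19)) :=
  Lre_f IH (LK LD1_c19 LD2_c9 LD3_c0) (LK LD1_c10 LD2_c34 LD3_c19) Lrfl Lrfl
theorem f336750 : Led Lsl_ft (LP (LK LD1_c19 LD2_c2 LD3_c59)) = (LP (LK LD1_c28 LD2_c29 LD3_c19)) :=
  Lre_f IH (LK LD1_c19 LD2_c2 LD3_c59) (LK LD1_c28 LD2_c29 LD3_c19) Lrfl Lrfl
theorem f336751 : Led Lsl_et (LP (LK LD1_c10 LD2_c30 LD3_c40)) = (LP (LK LD1_c19 LD2_c2 LD3_c59)) :=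
  Lre_e IH (LK LD1_c10 LD2_c30 LD3_c40) (LK LD1_c19 LD2_c2 LD3_c59) Lrfl Lrfl
theorem f336752 : Led Lsl_ft (LP (LK LD1_c5 LD2_c21 LD3_c60)) = (LP (LK LD1_c10 LD2_c30 LD3_c40)) :=
  Lgr Lrot86 (Lpe (K14.f194796 IH) (Lpe (f194877 IH) (Lpr_ef (f336744 IH) (Lpe (f336750 IH) (Lpe (f336751 IH) (Lpn (LP (LK LD1_c10 LD2_c30 LD3_c40))))))))
theorem f194793 : Led Lsl_dt (LP (LK LD1_c10 LD2_c34 LD3_c18)) = (LP (LK LD1_c5 LD2_c21 LD3_c60)) :=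
  Lre_d IH (LK LD1_c10 LD2_c34 LD3_c18) (LK LD1_c5 LD2_c21 LD3_c60) Lrfl Lrfl
theorem f336757 : Led Lsl_dt (LP (LK LD1_c10 LD2_c30 LD3_c40)) = (LP (LK LD1_c19 LD2_c2 LD3_c58)) :=
  Lre_d IH (LK LD1_c10 LD2_c30 LD3_c40) (LK LD1_c19 LD2_c2 LD3_c58) Lrfl Lrfl
theorem f336758 : Led Lsl_ff (LP (LK LD1_c10 LD2_c34 LD3_c18)) = (LP (LK LD1_c19 LD2_c2 LD3_c58)) :=
  Lgr Lrot19 (Lpr_dt (f194793 IH) (Lpr_ft (f336752 IH) (Lpr_dt (f336757 IH) (Lpn (LP (LK LD1_c19 LD2_c2 LD3_c58))))))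
theorem f215272 : Led Lsl_bt (LP (LK LD1_c10 LD2_c34 LD3_c18)) = (LP (LK LD1_c5 LD2_c21 LD3_c61)) :=
  Lre_b IH (LK LD1_c10 LD2_c34 LD3_c18) (LK LD1_c5 LD2_c21 LD3_c61) Lrfl Lrfl
theorem f215700 : Led Lsl_bt (LP (LK LD1_c10 LD2_c30 LD3_c41)) = (LP (LK LD1_c19 LD2_c2 LD3_c58)) :=
  Lre_b IH (LK LD1_c10 LD2_c30 LD3_c41) (LK LD1_c19 LD2_c2 LD3_c58) Lrfl Lrfl
theorem f336771 : Led Lsl_ft (LP (LK LD1_c5 LD2_c21 LD3_c61)) = (LP (LK LD1_c10 LD2_c30 LD3_c41)) :=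
  Lgr Lrot75 (Lpe (f215272 IH) (Lpr_ff (f336758 IH) (Lpe (f215700 IH) (Lpn (LP (LK LD1_c10 LD2_c30 LD3_c41))))))
theorem f336797 : Led Lsl_af (LP (LK LD1_c5 LD2_c22 LD3_c2)) = (LP (LK LD1_c10 LD2_c30 LD3_c41)) :=
  Lgr Lrot31 (Lpe (K14.f256327 IH) (Lpe (K14.f215280 IH) (Lpr_ft (f336771 IH) (Lpn (LP (LK LD1_c10 LD2_c30 LD3_c41))))))
theorem f215403 : Led Lsl_et (LP (LK LD1_c5 LD2_c22 LD3_c2)) = (LP (LK LD1_c10 LD2_c34 LD3_c29)) :=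
  Lre_e IH (LK LD1_c5 LD2_c22 LD3_c2) (LK LD1_c10 LD2_c34 LD3_c29) Lrfl Lrfl
theorem f215720 : Led Lsl_et (LP (LK LD1_c19 LD2_c2 LD3_c60)) = (LP (LK LD1_c10 LD2_c30 LD3_c41)) :=
  Lre_e IH (LK LD1_c19 LD2_c2 LD3_c60) (LK LD1_c10 LD2_c30 LD3_c41) Lrfl Lrfl
theorem f336804 : Led Lsl_at (LP (LK LD1_c10 LD2_c34 LD3_c29)) = (LP (LK LD1_c19 LD2_c2 LD3_c60)) :=
  Lgr Lrot80 (Lpe (f215403 IH) (Lpr_af (f336797 IH) (Lpe (f215720 IH) (Lpn (LP (LK LD1_c19 LD2_c2 LD3_c60))))))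
theorem f215401 : Led Lsl_ft (LP (LK LD1_c19 LD2_c9 LD3_c27)) = (LP (LK LD1_c10 LD2_c34 LD3_c29)) :=
  Lre_f IH (LK LD1_c19 LD2_c9 LD3_c27) (LK LD1_c10 LD2_c34 LD3_c29) Lrfl Lrfl
theorem f215721 : Led Lsl_ft (LP (LK LD1_c19 LD2_c2 LD3_c60)) = (LP (LK LD1_c28 LD2_c29 LD3_c21)) :=
  Lre_f IH (LK LD1_c19 LD2_c2 LD3_c60) (LK LD1_c28 LD2_c29 LD3_c21) Lrfl Lrfl
theorem f336812 : Led Lsl_af (LP (LK LD1_c19 LD2_c9 LD3_c27)) = (LP (LK LD1_c28 LD2_c29 LD3_c21)) :=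
  Lgr Lrot45 (Lpr_ft (f215401 IH) (Lpr_at (f336804 IH) (Lpr_ft (f215721 IH) (Lpn (LP (LK LD1_c28 LD2_c29 LD3_c21))))))
theorem f215399 : Led Lsl_dt (LP (LK LD1_c19 LD2_c9 LD3_c27)) = (LP (LK LD1_c28 LD2_c35 LD3_c16)) :=
  Lre_d IH (LK LD1_c19 LD2_c9 LD3_c27) (LK LD1_c28 LD2_c35 LD3_c16) Lrfl Lrfl
theorem f336816 : Led Lsl_dt (LP (LK LD1_c32 LD2_c35 LD3_c16)) = (LP (LK LD1_c28 LD2_c29 LD3_c21)) :=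
  Lre_d IH (LK LD1_c32 LD2_c35 LD3_c16) (LK LD1_c28 LD2_c29 LD3_c21) Lrfl Lrfl
theorem f336817 : Led Lsl_at (LP (LK LD1_c28 LD2_c35 LD3_c16)) = (LP (LK LD1_c32 LD2_c35 LD3_c16)) :=
  Lgr Lrot51 (Lpe (f215399 IH) (Lpr_af (f336812 IH) (Lpe (f336816 IH) (Lpn (LP (LK LD1_c32 LD2_c35 LD3_c16))))))
theorem f336819 : Led Lsl_af (LP (LK LD1_c28 LD2_c35 LD3_c16)) = (LP (LK LD1_c32 LD2_c35 LD3_c16)) :=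
  Lgr Lrot0 (Lpr_at (f336817 IH) (Lpn (LP (LK LD1_c32 LD2_c35 LD3_c16))))
theorem f215397 : Led Lsl_ft (LP (LK LD1_c28 LD2_c35 LD3_c16)) = (LP (LK LD1_c19 LD2_c9 LD3_c26)) :=
  Lre_f IH (LK LD1_c28 LD2_c35 LD3_c16) (LK LD1_c19 LD2_c9 LD3_c26) Lrfl Lrfl
theorem f215715 : Led Lsl_ft (LP (LK LD1_c28 LD2_c29 LD3_c20)) = (LP (LK LD1_c32 LD2_c35 LD3_c16)) :=
  Lre_f IH (LK LD1_c28 LD2_c29 LD3_c20) (LK LD1_c32 LD2_c35 LD3_c16) Lrfl Lrfl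
theorem f336827 : Led Lsl_at (LP (LK LD1_c19 LD2_c9 LD3_c26)) = (LP (LK LD1_c28 LD2_c29 LD3_c20)) :=
  Lgr Lrot66 (Lpe (f215397 IH) (Lpr_af (f336819 IH) (Lpe (f215715 IH) (Lpn (LP (LK LD1_c28 LD2_c29 LD3_c20))))))
theorem f336832 : Led Lsl_et (LP (LK LD1_c10 LD2_c34 LD3_c30)) = (LP (LK LD1_c19 LD2_c9 LD3_c26)) :=
  Lre_e IH (LK LD1_c10 LD2_c34 LD3_c30) (LK LD1_c19 LD2_c9 LD3_c26) Lrfl Lrfl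
theorem f336833 : Led Lsl_et (LP (LK LD1_c28 LD2_c29 LD3_c20)) = (LP (LK LD1_c19 LD2_c2 LD3_c61)) :=
  Lre_e IH (LK LD1_c28 LD2_c29 LD3_c20) (LK LD1_c19 LD2_c2 LD3_c61) Lrfl Lrfl
theorem f336834 : Led Lsl_af (LP (LK LD1_c10 LD2_c34 LD3_c30)) = (LP (LK LD1_c19 LD2_c2 LD3_c61)) :=
  Lgr Lrot50 (Lpr_et (f336832 IH) (Lpr_at (f336827 IH) (Lpr_et (f336833 IH) (Lpn (LP (LK LD1_c19 LD2_c2 LD3_c61))))))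
theorem f216081 : Led Lsl_ct (LP (LK LD1_c10 LD2_c34 LD3_c30)) = (LP (LK LD1_c19 LD2_c9 LD3_c28)) :=
  Lre_c IH (LK LD1_c10 LD2_c34 LD3_c30) (LK LD1_c19 LD2_c9 LD3_c28) Lrfl Lrfl
theorem f187686 : Led Lsl_ct (LP (LK LD1_c28 LD2_c29 LD3_c22)) = (LP (LK LD1_c19 LD2_c2 LD3_c61)) :=
  Lre_c IH (LK LD1_c28 LD2_c29 LD3_c22) (LK LD1_c19 LD2_c2 LD3_c61) Lrfl Lrfl
theorem f336841 : Led Lsl_at (LP (LK LD1_c19 LD2_c9 LD3_c28)) = (LP (LK LD1_c28 LD2_c29 LD3_c22)) :=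
  Lgr Lrot107 (Lpe (f216081 IH) (Lpr_af (f336834 IH) (Lpe (f187686 IH) (Lpn (LP (LK LD1_c28 LD2_c29 LD3_c22))))))
theorem f336848 : Led Lsl_ft (LP (LK LD1_c28 LD2_c35 LD3_c19)) = (LP (LK LD1_c19 LD2_c9 LD3_c28)) :=
  Lre_f IH (LK LD1_c28 LD2_c35 LD3_c19) (LK LD1_c19 LD2_c9 LD3_c28) Lrfl Lrfl
theorem f187705 : Led Lsl_ct (LP (LK LD1_c19 LD2_c2 LD3_c61)) = (LP (LK LD1_c28 LD2_c29 LD3_c22)) :=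
  Lre_c IH (LK LD1_c19 LD2_c2 LD3_c61) (LK LD1_c28 LD2_c29 LD3_c22) Lrfl Lrfl
theorem f187704 : Led Lsl_dt (LP (LK LD1_c10 LD2_c30 LD3_c42)) = (LP (LK LD1_c19 LD2_c2 LD3_c61)) :=
  Lre_d IH (LK LD1_c10 LD2_c30 LD3_c42) (LK LD1_c19 LD2_c2 LD3_c61) Lrfl Lrfl
theorem f187683 : Led Lsl_cf (LP (LK LD1_c10 LD2_c30 LD3_c42)) = (LP (LK LD1_c10 LD2_c24 LD3_c18)) :=
  Lgr Lrot11 (Lpr_ct (f187676 IH) (Lpn (LP (LK LD1_c10 LD2_c24 LD3_c18))))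
theorem f187209 : Led Lsl_ct (LP (LK LD1_c16 LD2_c13 LD3_c37)) = (LP (LK LD1_c8 LD2_c39 LD3_c52)) :=
  Lre_c IH (LK LD1_c16 LD2_c13 LD3_c37) (LK LD1_c8 LD2_c39 LD3_c52) Lrfl Lrfl
theorem f187212 : Led Lsl_dt (LP (LK LD1_c26 LD2_c10 LD3_c31)) = (LP (LK LD1_c16 LD2_c13 LD3_c37)) :=
  Lre_d IH (LK LD1_c26 LD2_c10 LD3_c31) (LK LD1_c16 LD2_c13 LD3_c37) Lrfl Lrfl
theorem f191750 : Led Lsl_ct (LP (LK LD1_c32 LD2_c5 LD3_c25)) = (LP (LK LD1_c26 LD2_c10 LD3_c31)) :=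
  Lre_c IH (LK LD1_c32 LD2_c5 LD3_c25) (LK LD1_c26 LD2_c10 LD3_c31) Lrfl Lrfl
theorem f336849 : Led Lsl_dt (LP (LK LD1_c28 LD2_c35 LD3_c19)) = (LP (LK LD1_c32 LD2_c5 LD3_c25)) :=
  Lgr Lrot159 (Lpr_ft (f336848 IH) (Lpr_at (f336841 IH) (Lpe (f187705 IH) (Lpe (f187704 IH) (Lpr_cf (f187683 IH) (Lpr_df (K10.f191748 IH) (Lpe (f187209 IH) (Lpe (f187212 IH) (Lpe (f191750 IH) (Lpn (LP (LK LD1_c32 LD2_c5 LD3_c25))))))))))))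
theorem f215957 : Led Lsl_ct (LP (LK LD1_c19 LD2_c9 LD3_c29)) = (LP (LK LD1_c28 LD2_c35 LD3_c19)) :=
  Lre_c IH (LK LD1_c19 LD2_c9 LD3_c29) (LK LD1_c28 LD2_c35 LD3_c19) Lrfl Lrfl
theorem f215956 : Led Lsl_dt (LP (LK LD1_c10 LD2_c34 LD3_c31)) = (LP (LK LD1_c19 LD2_c9 LD3_c29)) :=
  Lre_d IH (LK LD1_c10 LD2_c34 LD3_c31) (LK LD1_c19 LD2_c9 LD3_c29) Lrfl Lrfl
theorem f214089 : Led Lsl_et (LP (LK LD1_c2 LD2_c37 LD3_c33)) = (LP (LK LD1_c5 LD2_c22 LD3_c3)) :=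
  Lre_e IH (LK LD1_c2 LD2_c37 LD3_c33) (LK LD1_c5 LD2_c22 LD3_c3) Lrfl Lrfl
theorem f27732 : Led Lsl_et (LP (LK LD1_c9 LD2_c33 LD3_c19)) = (LP (LK LD1_c4 LD2_c50 LD3_c35)) :=
  Lre_e IH (LK LD1_c9 LD2_c33 LD3_c19) (LK LD1_c4 LD2_c50 LD3_c35) Lrfl Lrfl
theorem f214090 : Led Lsl_ct (LP (LK LD1_c5 LD2_c22 LD3_c3)) = (LP (LK LD1_c9 LD2_c33 LD3_c19)) :=
  Lgr Lrot15 (Lpe (f214089 IH) (Lpr_cf (K12.f214081 IH) (Lpe (f27732 IH) (Lpn (LP (LK LD1_c9 LD2_c33 LD3_c19))))))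
theorem f215942 : Led Lsl_ft (LP (LK LD1_c10 LD2_c34 LD3_c31)) = (LP (LK LD1_c5 LD2_c22 LD3_c3)) :=
  Lre_f IH (LK LD1_c10 LD2_c34 LD3_c31) (LK LD1_c5 LD2_c22 LD3_c3) Lrfl Lrfl
theorem f213941 : Led Lsl_ft (LP (LK LD1_c9 LD2_c33 LD3_c19)) = (LP (LK LD1_c17 LD2_c35 LD3_c46)) :=
  Lre_f IH (LK LD1_c9 LD2_c33 LD3_c19) (LK LD1_c17 LD2_c35 LD3_c46) Lrfl Lrfl
theorem f215943 : Led Lsl_cf (LP (LK LD1_c10 LD2_c34 LD3_c31)) = (LP (LK LD1_c17 LD2_c35 LD3_c46)) :=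
  Lgr Lrot108 (Lpr_ft (f215942 IH) (Lpr_ct (f214090 IH) (Lpr_ft (f213941 IH) (Lpn (LP (LK LD1_c17 LD2_c35 LD3_c46))))))
theorem f213953 : Led Lsl_ft (LP (LK LD1_c9 LD2_c41 LD3_c5)) = (LP (LK LD1_c4 LD2_c54 LD3_c45)) :=
  Lre_f IH (LK LD1_c9 LD2_c41 LD3_c5) (LK LD1_c4 LD2_c54 LD3_c45) Lrfl Lrfl
theorem f336858 : Led Lsl_at (LP (LK LD1_c4 LD2_c54 LD3_c45)) = (LP (LK LD1_c8 LD2_c39 LD3_c52)) :=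
  Lgr Lrot33 (Lpe (f213953 IH) (Lpe (K13.f213939 IH) (Lpe (f215943 IH) (Lpr_dt (f215956 IH) (Lpr_ct (f215957 IH) (Lpr_dt (f336849 IH) (Lpr_ct (f191750 IH) (Lpr_dt (f187212 IH) (Lpr_ct (f187209 IH) (Lpn (LP (LK LD1_c8 LD2_c39 LD3_c52))))))))))))
theorem f336869 : Led Lsl_af (LP (LK LD1_c9 LD2_c41 LD3_c5)) = (LP (LK LD1_c16 LD2_c13 LD3_c38)) :=
  Lgr Lrot45 (Lpr_ft (f213953 IH) (Lpr_at (f336858 IH) (Lpr_ft (K10.f187201 IH) (Lpn (LP (LK LD1_c16 LD2_c13 LD3_c38))))))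
theorem f336871 : Led Lsl_at (LP (LK LD1_c9 LD2_c41 LD3_c5)) = (LP (LK LD1_c16 LD2_c13 LD3_c38)) :=
  Lgr Lrot100 (Lpr_af (f336869 IH) (Lpn (LP (LK LD1_c16 LD2_c13 LD3_c38))))
theorem f329531 : Led Lsl_at (LP (LK LD1_c15 LD2_c51 LD3_c27)) = (LP (LK LD1_c15 LD2_c36 LD3_c27)) :=
  Lgr Lrot66 (Lpe (f260966 IH) (Lpr_af (K21.f329525 IH) (Lpe (K21.f219318 IH) (Lpn (LP (LK LD1_c15 LD2_c36 LD3_c27))))))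
theorem f336873 : Led Lsl_ef (LP (LK LD1_c9 LD2_c41 LD3_c5)) = (LP (LK LD1_c15 LD2_c36 LD3_c27)) :=
  Lgr Lrot20 (Lpr_at (f336871 IH) (Lpe (f336732 IH) (Lpr_at (f329531 IH) (Lpn (LP (LK LD1_c15 LD2_c36 LD3_c27))))))
theorem f219311 : Led Lsl_ft (LP (LK LD1_c8 LD2_c17 LD3_c58)) = (LP (LK LD1_c15 LD2_c36 LD3_c27)) :=
  Lre_f IH (LK LD1_c8 LD2_c17 LD3_c58) (LK LD1_c15 LD2_c36 LD3_c27) Lrfl Lrfl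
theorem f336879 : Led Lsl_ft (LP (LK LD1_c2 LD2_c25 LD3_c15)) = (LP (LK LD1_c4 LD2_c8 LD3_c55)) :=
  Lgr Lrot86 (Lpe (K13.f213922 IH) (Lpe (f213953 IH) (Lpr_ef (f336873 IH) (Lpe (f219311 IH) (Lpe (K20.f219297 IH) (Lpn (LP (LK LD1_c4 LD2_c8 LD3_c55))))))))
theorem f336887 : Led Lsl_ff (LP (LK LD1_c2 LD2_c25 LD3_c15)) = (LP (LK LD1_c4 LD2_c8 LD3_c55)) :=
  Lgr Lrot3 (Lpr_ft (f336879 IH) (Lpn (LP (LK LD1_c4 LD2_c8 LD3_c55))))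
theorem f336891 : Led Lsl_ft (LP (LK LD1_c4 LD2_c54 LD3_c44)) = (LP (LK LD1_c8 LD2_c17 LD3_c57)) :=
  Lgr Lrot4 (Lpe (K12.f169261 IH) (Lpr_ff (f336887 IH) (Lpe (K16.f219323 IH) (Lpn (LP (LK LD1_c8 LD2_c17 LD3_c57))))))
theorem f336897 : Led Lsl_af (LP (LK LD1_c5 LD2_c28 LD3_c19)) = (LP (LK LD1_c8 LD2_c17 LD3_c57)) :=
  Lgr Lrot31 (Lpe (K16.f199590 IH) (Lpe (K16.f274879 IH) (Lpr_ft (f336891 IH) (Lpn (LP (LK LD1_c8 LD2_c17 LD3_c57))))))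
theorem f266700 : Led Lsl_et (LP (LK LD1_c5 LD2_c28 LD3_c19)) = (LP (LK LD1_c10 LD2_c47 LD3_c43)) :=
  Lre_e IH (LK LD1_c5 LD2_c28 LD3_c19) (LK LD1_c10 LD2_c47 LD3_c43) Lrfl Lrfl
theorem f219730 : Led Lsl_et (LP (LK LD1_c15 LD2_c36 LD3_c26)) = (LP (LK LD1_c8 LD2_c17 LD3_c57)) :=
  Lre_e IH (LK LD1_c15 LD2_c36 LD3_c26) (LK LD1_c8 LD2_c17 LD3_c57) Lrfl Lrfl
theorem f336903 : Led Lsl_at (LP (LK LD1_c10 LD2_c47 LD3_c43)) = (LP (LK LD1_c15 LD2_c36 LD3_c26)) :=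
  Lgr Lrot80 (Lpe (f266700 IH) (Lpr_af (f336897 IH) (Lpe (f219730 IH) (Lpn (LP (LK LD1_c15 LD2_c36 LD3_c26))))))
theorem f336908 : Led Lsl_cf (LP (LK LD1_c10 LD2_c47 LD3_c43)) = (LP (LK LD1_c8 LD2_c26 LD3_c41)) :=
  Lgr Lrot1 (Lpr_at (f336903 IH) (Lpr_ct (K20.f219314 IH) (Lpe (K21.f329525 IH) (Lpn (LP (LK LD1_c8 LD2_c26 LD3_c41))))))
theorem f245976 : Led Lsl_bt (LP (LK LD1_c1 LD2_c17 LD3_c29)) = (LP (LK LD1_c2 LD2_c41 LD3_c39)) :=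
  Lre_b IH (LK LD1_c1 LD2_c17 LD3_c29) (LK LD1_c2 LD2_c41 LD3_c39) Lrfl Lrfl
theorem f196972 : Led Lsl_gt (LP (LK LD1_c1 LD2_c19 LD3_c8)) = (LP (LK LD1_c2 LD2_c45 LD3_c33)) :=
  Lre_g IH (LK LD1_c1 LD2_c19 LD3_c8) (LK LD1_c2 LD2_c45 LD3_c33) Lrfl Lrfl
theorem f245977 : Led Lsl_ct (LP (LK LD1_c2 LD2_c45 LD3_c33)) = (LP (LK LD1_c5 LD2_c39 LD3_c13)) :=
  Lre_c IH (LK LD1_c2 LD2_c45 LD3_c33) (LK LD1_c5 LD2_c39 LD3_c13) Lrfl Lrfl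
theorem f329575 : Led Lsl_gt (LP (LK LD1_c5 LD2_c39 LD3_c13)) = (LP (LK LD1_c8 LD2_c36 LD3_c52)) :=
  Lgr Lrot149 (Lpe (f245977 IH) (Lpe (f196972 IH) (Lpe (K20.f245970 IH) (Lpr_ct (K20.f179970 IH) (Lpe (f245956 IH) (Lpe (f245771 IH) (Lpr_bt (f245976 IH) (Lpr_gf (K21.f329572 IH) (Lpe (K14.f247356 IH) (Lpr_ct (K16.f247376 IH) (Lpn (LP (LK LD1_c8 LD2_c36 LD3_c52)))))))))))))
theorem f269448 : Led Lsl_af (LP (LK LD1_c8 LD2_c36 LD3_c52)) = (LP (LK LD1_c8 LD2_c7 LD3_c61)) :=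
  Lgr Lrot45 (Lpr_ft (K19.f256689 IH) (Lpr_at (K19.f269410 IH) (Lpr_ft (K15.f256736 IH) (Lpn (LP (LK LD1_c8 LD2_c7 LD3_c61))))))
theorem f329577 : Led Lsl_gf (LP (LK LD1_c5 LD2_c39 LD3_c13)) = (LP (LK LD1_c4 LD2_c3 LD3_c47)) :=
  Lgr Lrot47 (Lpr_gt (f329575 IH) (Lpr_af (f269448 IH) (Lpe (K15.f256736 IH) (Lpn (LP (LK LD1_c4 LD2_c3 LD3_c47))))))
theorem f329589 : Led Lsl_bt (LP (LK LD1_c2 LD2_c45 LD3_c33)) = (LP (LK LD1_c5 LD2_c39 LD3_c12)) :=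
  Lre_b IH (LK LD1_c2 LD2_c45 LD3_c33) (LK LD1_c5 LD2_c39 LD3_c12) Lrfl Lrfl
theorem f331034 : Led Lsl_gt (LP (LK LD1_c5 LD2_c39 LD3_c12)) = (LP (LK LD1_c9 LD2_c41 LD3_c48)) :=
  Lgr Lrot164 (Lpe (f329589 IH) (Lpr_ct (f245977 IH) (Lpr_gf (f329577 IH) (Lpe (K19.f226870 IH) (Lpe (K17.f227205 IH) (Lpr_bf (K21.f265794 IH) (Lpr_ct (K21.f265796 IH) (Lpr_gf (K21.f331027 IH) (Lpe (K21.f310868 IH) (Lpr_bt (K21.f310865 IH) (Lpn (LP (LK LD1_c9 LD2_c41 LD3_c48)))))))))))))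
theorem f331036 : Led Lsl_gf (LP (LK LD1_c5 LD2_c39 LD3_c12)) = (LP (LK LD1_c4 LD2_c14 LD3_c7)) :=
  Lgr Lrot47 (Lpr_gt (f331034 IH) (Lpe (K21.f329493 IH) (Lpe (K21.f260978 IH) (Lpn (LP (LK LD1_c4 LD2_c14 LD3_c7))))))
theorem f336933 : Led Lsl_gf (LP (LK LD1_c10 LD2_c47 LD3_c43)) = (LP (LK LD1_c5 LD2_c30 LD3_c50)) :=
  Lgr Lrot129 (Lpr_cf (f336908 IH) (Lpr_bt (K21.f250554 IH) (Lpe (f331036 IH) (Lpe (f329589 IH) (Lpr_ct (f245977 IH) (Lpr_gt (f329575 IH) (Lpe (K16.f247376 IH) (Lpr_bt (K14.f247356 IH) (Lpe (K21.f329572 IH) (Lpr_ct (K21.f245777 IH) (Lpn (LP (LK LD1_c5 LD2_c30 LD3_c50)))))))))))))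
theorem f41741 : Led Lsl_et (LP (LK LD1_c2 LD2_c10 LD3_c61)) = (LP (LK LD1_c2 LD2_c58 LD3_c26)) :=
  Lgr Lrot158 (Lpe (K9.f41739 IH) (Lpr_ef (K1.f41710 IH) (Lpe (K12.f41740 IH) (Lpn (LP (LK LD1_c2 LD2_c58 LD3_c26))))))
theorem f336947 : Led Lsl_et (LP (LK LD1_c5 LD2_c23 LD3_c19)) = (LP (LK LD1_c5 LD2_c30 LD3_c50)) :=
  Lgr Lrot185 (Lpr_dt (K15.f200620 IH) (Lpe (K15.f266694 IH) (Lpe (K15.f42533 IH) (Lpe (K9.f42505 IH) (Lpe (f41741 IH) (Lpr_dt (K12.f168602 IH) (Lpe (K16.f195083 IH) (Lpr_df (K16.f261073 IH) (Lpr_et (f266700 IH) (Lpr_gf (f336933 IH) (Lpn (LP (LK LD1_c5 LD2_c30 LD3_c50)))))))))))))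
theorem f250446 : Led Lsl_ft (LP (LK LD1_c5 LD2_c19 LD3_c54)) = (LP (LK LD1_c10 LD2_c29 LD3_c41)) :=
  Lre_f IH (LK LD1_c5 LD2_c19 LD3_c54) (LK LD1_c10 LD2_c29 LD3_c41) Lrfl Lrfl
theorem f274433 : Led Lsl_af (LP (LK LD1_c5 LD2_c23 LD3_c19)) = (LP (LK LD1_c10 LD2_c29 LD3_c41)) :=
  Lgr Lrot109 (Lpe (K15.f184402 IH) (Lpe (K15.f184390 IH) (Lpr_cf (K15.f200615 IH) (Lpr_df (K14.f252110 IH) (Lpe (K16.f252112 IH) (Lpe (K16.f252113 IH) (Lpr_cf (K16.f274427 IH) (Lpe (K15.f250439 IH) (Lpr_ft (f250446 IH) (Lpn (LP (LK LD1_c10 LD2_c29 LD3_c41))))))))))))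
theorem f336949 : Led Lsl_af (LP (LK LD1_c8 LD2_c54 LD3_c7)) = (LP (LK LD1_c5 LD2_c30 LD3_c50)) :=
  Lgr Lrot50 (Lpe (K20.f316552 IH) (Lpe (f274433 IH) (Lpr_et (f336947 IH) (Lpn (LP (LK LD1_c5 LD2_c30 LD3_c50))))))
theorem f325602 : Led Lsl_ct (LP (LK LD1_c16 LD2_c36 LD3_c20)) = (LP (LK LD1_c8 LD2_c52 LD3_c56)) :=
  Lre_c IH (LK LD1_c16 LD2_c36 LD3_c20) (LK LD1_c8 LD2_c52 LD3_c56) Lrfl Lrfl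
theorem f325603 : Led Lsl_ft (LP (LK LD1_c8 LD2_c54 LD3_c7)) = (LP (LK LD1_c16 LD2_c36 LD3_c20)) :=
  Lgr Lrot4 (Lpe (K20.f247398 IH) (Lpr_ff (K21.f325598 IH) (Lpe (f325602 IH) (Lpn (LP (LK LD1_c16 LD2_c36 LD3_c20))))))
theorem f333397 : Led Lsl_gf (LP (LK LD1_c1 LD2_c17 LD3_c31)) = (LP (LK LD1_c2 LD2_c11 LD3_c46)) :=
  Lgr Lrot134 (Lpe (K13.f245787 IH) (Lpr_et (K13.f245822 IH) (Lpe (K20.f322367 IH) (Lpr_ef (K20.f231059 IH) (Lpr_dt (K9.f178550 IH) (Lpr_gt (f307919 IH) (Lpe (f333393 IH) (Lpr_et (f333376 IH) (Lpr_gt (K20.f310285 IH) (Lpe (f310186 IH) (Lpn (LP (LK LD1_c2 LD2_c11 LD3_c46)))))))))))))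
theorem f245803 : Led Lsl_ct (LP (LK LD1_c1 LD2_c17 LD3_c31)) = (LP (LK LD1_c2 LD2_c41 LD3_c36)) :=
  Lre_c IH (LK LD1_c1 LD2_c17 LD3_c31) (LK LD1_c2 LD2_c41 LD3_c36) Lrfl Lrfl
theorem f282907 : Led Lsl_bt (LP (LK LD1_c1 LD2_c17 LD3_c31)) = (LP (LK LD1_c2 LD2_c41 LD3_c24)) :=
  Lre_b IH (LK LD1_c1 LD2_c17 LD3_c31) (LK LD1_c2 LD2_c41 LD3_c24) Lrfl Lrfl
theorem f179958 : Led Lsl_ct (LP (LK LD1_c1 LD2_c19 LD3_c16)) = (LP (LK LD1_c2 LD2_c45 LD3_c50)) :=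
  Lre_c IH (LK LD1_c1 LD2_c19 LD3_c16) (LK LD1_c2 LD2_c45 LD3_c50) Lrfl Lrfl
theorem f331065 : Led Lsl_gt (LP (LK LD1_c2 LD2_c41 LD3_c36)) = (LP (LK LD1_c2 LD2_c45 LD3_c50)) :=
  Lgr Lrot65 (Lpe (f245803 IH) (Lpr_bt (f282907 IH) (Lpe (K21.f298837 IH) (Lpr_bf (K21.f331058 IH) (Lpr_ct (K21.f169251 IH) (Lpe (K21.f331054 IH) (Lpe (K21.f254914 IH) (Lpr_gf (K16.f271171 IH) (Lpe (K14.f179955 IH) (Lpr_ct (f179958 IH) (Lpn (LP (LK LD1_c2 LD2_c45 LD3_c50)))))))))))))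
theorem f254908 : Led Lsl_bf (LP (LK LD1_c4 LD2_c54 LD3_c33)) = (LP (LK LD1_c8 LD2_c17 LD3_c58)) :=
  Lgr Lrot24 (Lpr_bt (K16.f254906 IH) (Lpn (LP (LK LD1_c8 LD2_c17 LD3_c58))))
theorem f219307 : Led Lsl_ct (LP (LK LD1_c8 LD2_c17 LD3_c58)) = (LP (LK LD1_c15 LD2_c36 LD3_c26)) :=
  Lre_c IH (LK LD1_c8 LD2_c17 LD3_c58) (LK LD1_c15 LD2_c36 LD3_c26) Lrfl Lrfl
theorem f247400 : Led Lsl_ct (LP (LK LD1_c4 LD2_c28 LD3_c1)) = (LP (LK LD1_c8 LD2_c54 LD3_c5)) :=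
  Lre_c IH (LK LD1_c4 LD2_c28 LD3_c1) (LK LD1_c8 LD2_c54 LD3_c5) Lrfl Lrfl
theorem f333399 : Led Lsl_gt (LP (LK LD1_c15 LD2_c36 LD3_c26)) = (LP (LK LD1_c8 LD2_c54 LD3_c5)) :=
  Lgr Lrot65 (Lpe (f219307 IH) (Lpe (f254908 IH) (Lpr_gf (K16.f271171 IH) (Lpe (K14.f179955 IH) (Lpr_ct (f179958 IH) (Lpe (f331065 IH) (Lpe (f245803 IH) (Lpr_gf (f333397 IH) (Lpe (K19.f304285 IH) (Lpr_ct (f247400 IH) (Lpn (LP (LK LD1_c8 LD2_c54 LD3_c5)))))))))))))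
theorem f333401 : Led Lsl_at (LP (LK LD1_c16 LD2_c36 LD3_c20)) = (LP (LK LD1_c8 LD2_c54 LD3_c5)) :=
  Lgr Lrot26 (Lpe (f325603 IH) (Lpe (K20.f316265 IH) (Lpr_gt (f333399 IH) (Lpn (LP (LK LD1_c8 LD2_c54 LD3_c5))))))
theorem f336961 : Led Lsl_ft (LP (LK LD1_c8 LD2_c54 LD3_c5)) = (LP (LK LD1_c5 LD2_c30 LD3_c50)) :=
  Lgr Lrot101 (Lpe (f333401 IH) (Lpe (f325603 IH) (Lpr_af (f336949 IH) (Lpn (LP (LK LD1_c5 LD2_c30 LD3_c50))))))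
theorem f247401 : Led Lsl_gt (LP (LK LD1_c8 LD2_c54 LD3_c5)) = (LP (LK LD1_c16 LD2_c39 LD3_c7)) :=
  Lre_g IH (LK LD1_c8 LD2_c54 LD3_c5) (LK LD1_c16 LD2_c39 LD3_c7) Lrfl Lrfl
theorem f336963 : Led Lsl_gf (LP (LK LD1_c8 LD2_c54 LD3_c7)) = (LP (LK LD1_c16 LD2_c39 LD3_c7)) :=
  Lgr Lrot76 (Lpr_af (f336949 IH) (Lpe (f336961 IH) (Lpr_gt (f247401 IH) (Lpn (LP (LK LD1_c16 LD2_c39 LD3_c7))))))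
theorem f336965 : Led Lsl_ff (LP (LK LD1_c10 LD2_c47 LD3_c43)) = (LP (LK LD1_c16 LD2_c39 LD3_c7)) :=
  Lgr Lrot52 (Lpr_at (f336903 IH) (Lpr_gf (K20.f316265 IH) (Lpr_gf (f336963 IH) (Lpn (LP (LK LD1_c16 LD2_c39 LD3_c7))))))
theorem f179640 : Led Lsl_ct (LP (LK LD1_c26 LD2_c1 LD3_c54)) = (LP (LK LD1_c16 LD2_c4 LD3_c39)) :=
  Lre_c IH (LK LD1_c26 LD2_c1 LD3_c54) (LK LD1_c16 LD2_c4 LD3_c39) Lrfl Lrfl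
theorem f179641 : Led Lsl_dt (LP (LK LD1_c32 LD2_c3 LD3_c22)) = (LP (LK LD1_c26 LD2_c1 LD3_c54)) :=
  Lre_d IH (LK LD1_c32 LD2_c3 LD3_c22) (LK LD1_c26 LD2_c1 LD3_c54) Lrfl Lrfl
theorem f267051 : Led Lsl_dt (LP (LK LD1_c16 LD2_c39 LD3_c7)) = (LP (LK LD1_c26 LD2_c37 LD3_c35)) :=
  Lre_d IH (LK LD1_c16 LD2_c39 LD3_c7) (LK LD1_c26 LD2_c37 LD3_c35) Lrfl Lrfl
theorem f336974 : Led Lsl_cf (LP (LK LD1_c32 LD2_c3 LD3_c22)) = (LP (LK LD1_c26 LD2_c37 LD3_c35)) :=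
  Lgr Lrot118 (Lpr_dt (f179641 IH) (Lpr_ct (f179640 IH) (Lpr_dt (K20.f179639 IH) (Lpe (K20.f179624 IH) (Lpr_dt (K16.f219305 IH) (Lpr_ct (f219307 IH) (Lpe (f336903 IH) (Lpr_ff (f336965 IH) (Lpr_dt (f267051 IH) (Lpn (LP (LK LD1_c26 LD2_c37 LD3_c35))))))))))))
theorem f336923 : Led Lsl_ct (LP (LK LD1_c10 LD2_c47 LD3_c43)) = (LP (LK LD1_c8 LD2_c26 LD3_c41)) :=
  Lgr Lrot59 (Lpr_cf (f336908 IH) (Lpn (LP (LK LD1_c8 LD2_c26 LD3_c41))))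
theorem f336968 : Led Lsl_ct (LP (LK LD1_c15 LD2_c51 LD3_c27)) = (LP (LK LD1_c16 LD2_c39 LD3_c7)) :=
  Lgr Lrot40 (Lpe (f260966 IH) (Lpe (f336923 IH) (Lpr_ff (f336965 IH) (Lpn (LP (LK LD1_c16 LD2_c39 LD3_c7))))))
theorem f220388 : Led Lsl_ft (LP (LK LD1_c8 LD2_c20 LD3_c42)) = (LP (LK LD1_c15 LD2_c42 LD3_c28)) :=
  Lre_f IH (LK LD1_c8 LD2_c20 LD3_c42) (LK LD1_c15 LD2_c42 LD3_c28) Lrfl Lrfl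
theorem f336721 : Led Lsl_ct (LP (LK LD1_c15 LD2_c42 LD3_c28)) = (LP (LK LD1_c16 LD2_c19 LD3_c61)) :=
  Lgr Lrot40 (Lpe (f220388 IH) (Lpr_cf (K21.f220368 IH) (Lpr_ff (f336715 IH) (Lpn (LP (LK LD1_c16 LD2_c19 LD3_c61))))))
theorem f316258 : Led Lsl_dt (LP (LK LD1_c25 LD2_c38 LD3_c18)) = (LP (LK LD1_c15 LD2_c42 LD3_c28)) :=
  Lre_d IH (LK LD1_c25 LD2_c38 LD3_c18) (LK LD1_c15 LD2_c42 LD3_c28) Lrfl Lrfl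
theorem f316259 : Led Lsl_ft (LP (LK LD1_c25 LD2_c38 LD3_c18)) = (LP (LK LD1_c15 LD2_c42 LD3_c27)) :=
  Lre_f IH (LK LD1_c25 LD2_c38 LD3_c18) (LK LD1_c15 LD2_c42 LD3_c27) Lrfl Lrfl
theorem f336980 : Led Lsl_af (LP (LK LD1_c16 LD2_c4 LD3_c39)) = (LP (LK LD1_c15 LD2_c42 LD3_c27)) :=
  Lgr Lrot109 (Lpe (f179640 IH) (Lpe (f179641 IH) (Lpr_cf (f336974 IH) (Lpe (f267051 IH) (Lpe (f336968 IH) (Lpr_df (f336730 IH) (Lpe (f336721 IH) (Lpe (f316258 IH) (Lpr_ft (f316259 IH) (Lpn (LP (LK LD1_c15 LD2_c42 LD3_c27))))))))))))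
theorem f316178 : Led Lsl_gt (LP (LK LD1_c16 LD2_c5 LD3_c35)) = (LP (LK LD1_c8 LD2_c34 LD3_c30)) :=
  Lre_g IH (LK LD1_c16 LD2_c5 LD3_c35) (LK LD1_c8 LD2_c34 LD3_c30) Lrfl Lrfl
theorem f316245 : Led Lsl_gf (LP (LK LD1_c16 LD2_c5 LD3_c35)) = (LP (LK LD1_c25 LD2_c38 LD3_c16)) :=
  Lgr Lrot47 (Lpr_gt (f316178 IH) (Lpe (K20.f316238 IH) (Lpr_ff (K20.f316239 IH) (Lpn (LP (LK LD1_c25 LD2_c38 LD3_c16))))))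
theorem f220373 : Led Lsl_ft (LP (LK LD1_c15 LD2_c42 LD3_c27)) = (LP (LK LD1_c25 LD2_c38 LD3_c18)) :=
  Lre_f IH (LK LD1_c15 LD2_c42 LD3_c27) (LK LD1_c25 LD2_c38 LD3_c18) Lrfl Lrfl
theorem f316247 : Led Lsl_af (LP (LK LD1_c16 LD2_c5 LD3_c35)) = (LP (LK LD1_c25 LD2_c38 LD3_c18)) :=
  Lgr Lrot31 (Lpr_gf (f316245 IH) (Lpe (K20.f316180 IH) (Lpr_ft (f220373 IH) (Lpn (LP (LK LD1_c25 LD2_c38 LD3_c18))))))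
theorem f316253 : Led Lsl_at (LP (LK LD1_c16 LD2_c5 LD3_c35)) = (LP (LK LD1_c25 LD2_c38 LD3_c18)) :=
  Lgr Lrot100 (Lpr_af (f316247 IH) (Lpn (LP (LK LD1_c25 LD2_c38 LD3_c18))))
theorem f336991 : Led Lsl_ft (LP (LK LD1_c16 LD2_c4 LD3_c39)) = (LP (LK LD1_c16 LD2_c5 LD3_c35)) :=
  Lgr Lrot101 (Lpr_af (f336980 IH) (Lpe (f316259 IH) (Lpe (f316253 IH) (Lpn (LP (LK LD1_c16 LD2_c5 LD3_c35))))))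
theorem f337001 : Led Lsl_ff (LP (LK LD1_c16 LD2_c4 LD3_c39)) = (LP (LK LD1_c16 LD2_c5 LD3_c35)) :=
  Lgr Lrot3 (Lpr_ft (f336991 IH) (Lpn (LP (LK LD1_c16 LD2_c5 LD3_c35))))
theorem f179660 : Led Lsl_ft (LP (LK LD1_c8 LD2_c33 LD3_c54)) = (LP (LK LD1_c16 LD2_c4 LD3_c40)) :=
  Lre_f IH (LK LD1_c8 LD2_c33 LD3_c54) (LK LD1_c16 LD2_c4 LD3_c40) Lrfl Lrfl
theorem f337007 : Led Lsl_dt (LP (LK LD1_c16 LD2_c4 LD3_c40)) = (LP (LK LD1_c16 LD2_c5 LD3_c35)) :=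
  Lgr Lrot60 (Lpe (f179660 IH) (Lpe (K20.f179639 IH) (Lpr_ff (f337001 IH) (Lpn (LP (LK LD1_c16 LD2_c5 LD3_c35))))))
theorem f316190 : Led Lsl_dt (LP (LK LD1_c8 LD2_c34 LD3_c30)) = (LP (LK LD1_c4 LD2_c17 LD3_c43)) :=
  Lre_d IH (LK LD1_c8 LD2_c34 LD3_c30) (LK LD1_c4 LD2_c17 LD3_c43) Lrfl Lrfl
theorem f267040 : Led Lsl_ct (LP (LK LD1_c15 LD2_c42 LD3_c9)) = (LP (LK LD1_c8 LD2_c20 LD3_c33)) :=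
  Lre_c IH (LK LD1_c15 LD2_c42 LD3_c9) (LK LD1_c8 LD2_c20 LD3_c33) Lrfl Lrfl
theorem f337017 : Led Lsl_gf (LP (LK LD1_c16 LD2_c4 LD3_c40)) = (LP (LK LD1_c15 LD2_c42 LD3_c9)) :=
  Lgr Lrot144 (Lpr_dt (f337007 IH) (Lpr_gt (f316178 IH) (Lpr_dt (f316190 IH) (Lpe (f307759 IH) (Lpe (K21.f329554 IH) (Lpr_gf (K21.f329572 IH) (Lpe (K14.f247381 IH) (Lpr_gf (K21.f267038 IH) (Lpe (f267040 IH) (Lpn (LP (LK LD1_c15 LD2_c42 LD3_c9))))))))))))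
theorem f337019 : Led Lsl_et (LP (LK LD1_c25 LD2_c37 LD3_c53)) = (LP (LK LD1_c15 LD2_c42 LD3_c9)) :=
  Lre_e IH (LK LD1_c25 LD2_c37 LD3_c53) (LK LD1_c15 LD2_c42 LD3_c9) Lrfl Lrfl
theorem f188821 : Led Lsl_dt (LP (LK LD1_c8 LD2_c34 LD3_c19)) = (LP (LK LD1_c16 LD2_c5 LD3_c16)) :=
  Lre_d IH (LK LD1_c8 LD2_c34 LD3_c19) (LK LD1_c16 LD2_c5 LD3_c16) Lrfl Lrfl
theorem f219893 : Led Lsl_gt (LP (LK LD1_c16 LD2_c5 LD3_c16)) = (LP (LK LD1_c26 LD2_c2 LD3_c18)) :=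
  Lre_g IH (LK LD1_c16 LD2_c5 LD3_c16) (LK LD1_c26 LD2_c2 LD3_c18) Lrfl Lrfl
theorem f337020 : Led Lsl_dt (LP (LK LD1_c25 LD2_c37 LD3_c53)) = (LP (LK LD1_c26 LD2_c2 LD3_c18)) :=
  Lgr Lrot37 (Lpr_et (f337019 IH) (Lpe (f337017 IH) (Lpr_dt (f337007 IH) (Lpr_gt (f316178 IH) (Lpe (K20.f316175 IH) (Lpr_et (K20.f310172 IH) (Lpr_gt (K17.f170231 IH) (Lpe (K18.f188825 IH) (Lpr_dt (f188821 IH) (Lpr_gt (f219893 IH) (Lpn (LP (LK LD1_c26 LD2_c2 LD3_c18)))))))))))))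
theorem f337022 : Led Lsl_df (LP (LK LD1_c25 LD2_c37 LD3_c53)) = (LP (LK LD1_c26 LD2_c2 LD3_c18)) :=
  Lgr Lrot38 (Lpr_dt (f337020 IH) (Lpn (LP (LK LD1_c26 LD2_c2 LD3_c18))))
theorem f253996 : Led Lsl_ct (LP (LK LD1_c25 LD2_c37 LD3_c53)) = (LP (LK LD1_c15 LD2_c42 LD3_c11)) :=
  Lre_c IH (LK LD1_c25 LD2_c37 LD3_c53) (LK LD1_c15 LD2_c42 LD3_c11) Lrfl Lrfl
theorem f51508 : Led Lsl_ct (LP (LK LD1_c4 LD2_c12 LD3_c3)) = (LP (LK LD1_c8 LD2_c23 LD3_c48)) :=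
  Lre_c IH (LK LD1_c4 LD2_c12 LD3_c3) (LK LD1_c8 LD2_c23 LD3_c48) Lrfl Lrfl
theorem f337028 : Led Lsl_gt (LP (LK LD1_c8 LD2_c23 LD3_c48)) = (LP (LK LD1_c8 LD2_c34 LD3_c19)) :=
  Lgr Lrot94 (Lpe (f51508 IH) (Lpe (K20.f322492 IH) (Lpe (K13.f232713 IH) (Lpr_gt (K21.f184454 IH) (Lpr_dt (K21.f253997 IH) (Lpe (f253996 IH) (Lpr_df (f337022 IH) (Lpe (f219893 IH) (Lpe (f188821 IH) (Lpn (LP (LK LD1_c8 LD2_c34 LD3_c19))))))))))))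
theorem f51504 : Led Lsl_bt (LP (LK LD1_c4 LD2_c12 LD3_c3)) = (LP (LK LD1_c2 LD2_c3 LD3_c12)) :=
  Lre_b IH (LK LD1_c4 LD2_c12 LD3_c3) (LK LD1_c2 LD2_c3 LD3_c12) Lrfl Lrfl
theorem f551 : Led Lsl_ct (LP (LK LD1_c2 LD2_c2 LD3_c11)) = (LP (LK LD1_c4 LD2_c9 LD3_c57)) :=
  Lre_c IH (LK LD1_c2 LD2_c2 LD3_c11) (LK LD1_c4 LD2_c9 LD3_c57) Lrfl Lrfl
theorem f188741 : Led Lsl_et (LP (LK LD1_c8 LD2_c56 LD3_c22)) = (LP (LK LD1_c4 LD2_c29 LD3_c1)) :=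
  Lre_e IH (LK LD1_c8 LD2_c56 LD3_c22) (LK LD1_c4 LD2_c29 LD3_c1) Lrfl Lrfl
theorem f188801 : Led Lsl_bt (LP (LK LD1_c8 LD2_c35 LD3_c55)) = (LP (LK LD1_c8 LD2_c56 LD3_c22)) :=
  Lgr Lrot119 (Lpe (K18.f188774 IH) (Lpr_bf (K10.f188766 IH) (Lpe (f188741 IH) (Lpn (LP (LK LD1_c8 LD2_c56 LD3_c22))))))
theorem f1565 : Led Lsl_ct (LP (LK LD1_c4 LD2_c52 LD3_c4)) = (LP (LK LD1_c9 LD2_c36 LD3_c27)) :=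
  Lre_c IH (LK LD1_c4 LD2_c52 LD3_c4) (LK LD1_c9 LD2_c36 LD3_c27) Lrfl Lrfl
theorem f279788 : Led Lsl_bt (LP (LK LD1_c4 LD2_c52 LD3_c4)) = (LP (LK LD1_c9 LD2_c36 LD3_c26)) :=
  Lre_b IH (LK LD1_c4 LD2_c52 LD3_c4) (LK LD1_c9 LD2_c36 LD3_c26) Lrfl Lrfl
theorem f337038 : Led Lsl_gf (LP (LK LD1_c9 LD2_c36 LD3_c26)) = (LP (LK LD1_c8 LD2_c56 LD3_c22)) :=
  Lgr Lrot124 (Lpe (f279788 IH) (Lpr_ct (f1565 IH) (Lpe (K21.f279781 IH) (Lpe (K9.f39120 IH) (Lpr_bt (K13.f199837 IH) (Lpr_gt (f322490 IH) (Lpr_ct (f51508 IH) (Lpr_gt (f337028 IH) (Lpe (K20.f188819 IH) (Lpr_bt (f188801 IH) (Lpn (LP (LK LD1_c8 LD2_c56 LD3_c22)))))))))))))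
theorem f337040 : Led Lsl_cf (LP (LK LD1_c8 LD2_c20 LD3_c3)) = (LP (LK LD1_c9 LD2_c36 LD3_c26)) :=
  Lgr Lrot125 (Lpr_gt (K19.f867 IH) (Lpe (f551 IH) (Lpr_bt (K1.f537 IH) (Lpr_gt (K20.f546 IH) (Lpe (f51504 IH) (Lpr_ct (f51508 IH) (Lpr_gt (f337028 IH) (Lpe (K20.f188819 IH) (Lpr_bt (f188801 IH) (Lpe (f337038 IH) (Lpn (LP (LK LD1_c9 LD2_c36 LD3_c26)))))))))))))
theorem f301498 : Led Lsl_et (LP (LK LD1_c8 LD2_c20 LD3_c3)) = (LP (LK LD1_c15 LD2_c41 LD3_c13)) :=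
  Lre_e IH (LK LD1_c8 LD2_c20 LD3_c3) (LK LD1_c15 LD2_c41 LD3_c13) Lrfl Lrfl
theorem f337049 : Led Lsl_et (LP (LK LD1_c17 LD2_c41 LD3_c40)) = (LP (LK LD1_c9 LD2_c36 LD3_c26)) :=
  Lre_e IH (LK LD1_c17 LD2_c41 LD3_c40) (LK LD1_c9 LD2_c36 LD3_c26) Lrfl Lrfl
theorem f337050 : Led Lsl_ct (LP (LK LD1_c15 LD2_c41 LD3_c13)) = (LP (LK LD1_c17 LD2_c41 LD3_c40)) :=
  Lgr Lrot15 (Lpe (f301498 IH) (Lpr_cf (f337040 IH) (Lpe (f337049 IH) (Lpn (LP (LK LD1_c17 LD2_c41 LD3_c40))))))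
theorem f236434 : Led Lsl_ct (LP (LK LD1_c15 LD2_c34 LD3_c7)) = (LP (LK LD1_c25 LD2_c27 LD3_c50)) :=
  Lre_c IH (LK LD1_c15 LD2_c34 LD3_c7) (LK LD1_c25 LD2_c27 LD3_c50) Lrfl Lrfl
theorem f243294 : Led Lsl_dt (LP (LK LD1_c15 LD2_c58 LD3_c16)) = (LP (LK LD1_c8 LD2_c30 LD3_c19)) :=
  Lre_d IH (LK LD1_c15 LD2_c58 LD3_c16) (LK LD1_c8 LD2_c30 LD3_c19) Lrfl Lrfl
theorem f301493 : Led Lsl_gt (LP (LK LD1_c25 LD2_c27 LD3_c50)) = (LP (LK LD1_c15 LD2_c41 LD3_c13)) :=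
  Lgr Lrot94 (Lpe (f236434 IH) (Lpr_gt (f301487 IH) (Lpe (K21.f301478 IH) (Lpr_gt (K21.f285645 IH) (Lpe (K19.f298852 IH) (Lpe (K19.f243295 IH) (Lpe (f243294 IH) (Lpr_gf (K19.f243289 IH) (Lpe (K19.f879 IH) (Lpn (LP (LK LD1_c15 LD2_c41 LD3_c13))))))))))))
theorem f243299 : Led Lsl_dt (LP (LK LD1_c25 LD2_c36 LD3_c48)) = (LP (LK LD1_c15 LD2_c41 LD3_c13)) :=
  Lre_d IH (LK LD1_c25 LD2_c36 LD3_c48) (LK LD1_c15 LD2_c41 LD3_c13) Lrfl Lrfl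
theorem f337056 : Led Lsl_dt (LP (LK LD1_c15 LD2_c51 LD3_c9)) = (LP (LK LD1_c17 LD2_c41 LD3_c40)) :=
  Lgr Lrot113 (Lpe (K19.f298848 IH) (Lpe (K19.f262846 IH) (Lpe (K21.f262845 IH) (Lpr_ct (K17.f271045 IH) (Lpe (K18.f298724 IH) (Lpr_dt (K18.f295797 IH) (Lpr_gt (K19.f298732 IH) (Lpr_dt (f243299 IH) (Lpr_ct (f337050 IH) (Lpn (LP (LK LD1_c17 LD2_c41 LD3_c40))))))))))))
theorem f286157 : Led Lsl_cf (LP (LK LD1_c15 LD2_c51 LD3_c9)) = (LP (LK LD1_c10 LD2_c44 LD3_c4)) :=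
  Lgr Lrot166 (Lpr_gt (K19.f259530 IH) (Lpr_dt (K16.f271054 IH) (Lpe (K16.f271041 IH) (Lpr_dt (K17.f286133 IH) (Lpe (K17.f245164 IH) (Lpe (K17.f245104 IH) (Lpr_gf (K17.f245096 IH) (Lpe (K17.f195810 IH) (Lpe (K19.f245098 IH) (Lpn (LP (LK LD1_c10 LD2_c44 LD3_c4))))))))))))
theorem f337058 : Led Lsl_gt (LP (LK LD1_c15 LD2_c55 LD3_c23)) = (LP (LK LD1_c10 LD2_c44 LD3_c4)) :=
  Lgr Lrot150 (Lpe (K21.f231619 IH) (Lpr_gf (K21.f324187 IH) (Lpe (K21.f285598 IH) (Lpr_gt (f285611 IH) (Lpr_ct (f236434 IH) (Lpr_gt (f301493 IH) (Lpr_ct (f337050 IH) (Lpe (f337056 IH) (Lpr_cf (f286157 IH) (Lpn (LP (LK LD1_c10 LD2_c44 LD3_c4))))))))))))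
theorem f337060 : Led Lsl_df (LP (LK LD1_c15 LD2_c51 LD3_c9)) = (LP (LK LD1_c17 LD2_c41 LD3_c40)) :=
  Lgr Lrot162 (Lpr_cf (f286157 IH) (Lpe (f337058 IH) (Lpe (K21.f231619 IH) (Lpr_gf (K21.f324187 IH) (Lpr_dt (K21.f285603 IH) (Lpr_gt (f285611 IH) (Lpr_ct (f236434 IH) (Lpr_gt (f301493 IH) (Lpr_ct (f337050 IH) (Lpn (LP (LK LD1_c17 LD2_c41 LD3_c40))))))))))))
theorem f279799 : Led Lsl_bt (LP (LK LD1_c9 LD2_c36 LD3_c29)) = (LP (LK LD1_c17 LD2_c41 LD3_c40)) :=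
  Lre_b IH (LK LD1_c9 LD2_c36 LD3_c29) (LK LD1_c17 LD2_c41 LD3_c40) Lrfl Lrfl
theorem f315402 : Led Lsl_dt (LP (LK LD1_c8 LD2_c27 LD3_c27)) = (LP (LK LD1_c9 LD2_c36 LD3_c29)) :=
  Lgr Lrot42 (Lpr_df (K21.f315399 IH) (Lpn (LP (LK LD1_c9 LD2_c36 LD3_c29))))
theorem f337063 : Led Lsl_bt (LP (LK LD1_c15 LD2_c51 LD3_c9)) = (LP (LK LD1_c8 LD2_c27 LD3_c27)) :=
  Lgr Lrot95 (Lpr_df (f337060 IH) (Lpe (f279799 IH) (Lpe (f315402 IH) (Lpn (LP (LK LD1_c8 LD2_c27 LD3_c27))))))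
theorem f282452 : Led Lsl_bt (LP (LK LD1_c11 LD2_c55 LD3_c30)) = (LP (LK LD1_c6 LD2_c6 LD3_c1)) :=
  Lre_b IH (LK LD1_c11 LD2_c55 LD3_c30) (LK LD1_c6 LD2_c6 LD3_c1) Lrfl Lrfl
theorem f190029 : Led Lsl_gt (LP (LK LD1_c8 LD2_c27 LD3_c25)) = (LP (LK LD1_c15 LD2_c52 LD3_c48)) :=
  Lre_g IH (LK LD1_c8 LD2_c27 LD3_c25) (LK LD1_c15 LD2_c52 LD3_c48) Lrfl Lrfl
theorem f337103 : Led Lsl_ct (LP (LK LD1_c11 LD2_c55 LD3_c30)) = (LP (LK LD1_c15 LD2_c52 LD3_c48)) :=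
  Lgr Lrot63 (Lpr_bt (f282452 IH) (Lpe (K17.f283066 IH) (Lpe (K21.f231617 IH) (Lpr_ct (K21.f231619 IH) (Lpr_gt (f337058 IH) (Lpe (K19.f286155 IH) (Lpr_bt (f337063 IH) (Lpr_gt (K13.f190014 IH) (Lpr_ct (K18.f190002 IH) (Lpr_gt (f190029 IH) (Lpn (LP (LK LD1_c15 LD2_c52 LD3_c48)))))))))))))
theorem f179797 : Led Lsl_ct (LP (LK LD1_c1 LD2_c25 LD3_c19)) = (LP (LK LD1_c2 LD2_c59 LD3_c11)) :=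
  Lre_c IH (LK LD1_c1 LD2_c25 LD3_c19) (LK LD1_c2 LD2_c59 LD3_c11) Lrfl Lrfl
theorem f179795 : Led Lsl_gt (LP (LK LD1_c6 LD2_c6 LD3_c11)) = (LP (LK LD1_c2 LD2_c59 LD3_c11)) :=
  Lre_g IH (LK LD1_c6 LD2_c6 LD3_c11) (LK LD1_c2 LD2_c59 LD3_c11) Lrfl Lrfl
theorem f315476 : Led Lsl_af (LP (LK LD1_c15 LD2_c17 LD3_c2)) = (LP (LK LD1_c15 LD2_c52 LD3_c51)) :=
  Lgr Lrot0 (Lpr_at (K21.f315474 IH) (Lpn (LP (LK LD1_c15 LD2_c52 LD3_c51))))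
theorem f315455 : Led Lsl_ft (LP (LK LD1_c8 LD2_c27 LD3_c25)) = (LP (LK LD1_c15 LD2_c52 LD3_c51)) :=
  Lre_f IH (LK LD1_c8 LD2_c27 LD3_c25) (LK LD1_c15 LD2_c52 LD3_c51) Lrfl Lrfl
theorem f315482 : Led Lsl_gf (LP (LK LD1_c15 LD2_c17 LD3_c2)) = (LP (LK LD1_c15 LD2_c52 LD3_c48)) :=
  Lgr Lrot76 (Lpr_af (f315476 IH) (Lpe (f315455 IH) (Lpr_gt (f190029 IH) (Lpn (LP (LK LD1_c15 LD2_c52 LD3_c48))))))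
theorem f256162 : Led Lsl_bt (LP (LK LD1_c8 LD2_c11 LD3_c55)) = (LP (LK LD1_c4 LD2_c5 LD3_c31)) :=
  Lre_b IH (LK LD1_c8 LD2_c11 LD3_c55) (LK LD1_c4 LD2_c5 LD3_c31) Lrfl Lrfl
theorem f195480 : Led Lsl_gt (LP (LK LD1_c4 LD2_c6 LD3_c57)) = (LP (LK LD1_c2 LD2_c0 LD3_c50)) :=
  Lre_g IH (LK LD1_c4 LD2_c6 LD3_c57) (LK LD1_c2 LD2_c0 LD3_c50) Lrfl Lrfl
theorem f334381 : Led Lsl_gf (LP (LK LD1_c4 LD2_c6 LD3_c57)) = (LP (LK LD1_c4 LD2_c5 LD3_c31)) :=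
  Lgr Lrot47 (Lpr_gt (f195480 IH) (Lpr_af (f334358 IH) (Lpe (f237979 IH) (Lpn (LP (LK LD1_c4 LD2_c5 LD3_c31))))))
theorem f337113 : Led Lsl_cf (LP (LK LD1_c6 LD2_c6 LD3_c11)) = (LP (LK LD1_c4 LD2_c6 LD3_c57)) :=
  Lgr Lrot125 (Lpr_gt (f179795 IH) (Lpe (f179797 IH) (Lpr_bt (K15.f179796 IH) (Lpr_gt (K17.f220172 IH) (Lpe (f282452 IH) (Lpr_ct (f337103 IH) (Lpe (f315482 IH) (Lpe (K21.f256152 IH) (Lpr_bt (f256162 IH) (Lpe (f334381 IH) (Lpn (LP (LK LD1_c4 LD2_c6 LD3_c57)))))))))))))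
theorem f179798 : Led Lsl_dt (LP (LK LD1_c2 LD2_c59 LD3_c11)) = (LP (LK LD1_c6 LD2_c6 LD3_c12)) :=
  Lre_d IH (LK LD1_c2 LD2_c59 LD3_c11) (LK LD1_c6 LD2_c6 LD3_c12) Lrfl Lrfl
theorem f177939 : Led Lsl_et (LP (LK LD1_c2 LD2_c44 LD3_c3)) = (LP (LK LD1_c1 LD2_c18 LD3_c23)) :=
  Lre_e IH (LK LD1_c2 LD2_c44 LD3_c3) (LK LD1_c1 LD2_c18 LD3_c23) Lrfl Lrfl
theorem f181248 : Led Lsl_gt (LP (LK LD1_c6 LD2_c6 LD3_c12)) = (LP (LK LD1_c5 LD2_c36 LD3_c24)) :=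
  Lgr Lrot112 (Lpe (f179798 IH) (Lpr_et (K17.f181244 IH) (Lpr_gf (K10.f181233 IH) (Lpe (K1.f54786 IH) (Lpr_dt (K9.f40769 IH) (Lpe (K9.f174642 IH) (Lpe (K9.f167777 IH) (Lpr_gf (K9.f177867 IH) (Lpe (f177939 IH) (Lpr_dt (K17.f177940 IH) (Lpn (LP (LK LD1_c5 LD2_c36 LD3_c24)))))))))))))
theorem f181254 : Led Lsl_ct (LP (LK LD1_c2 LD2_c44 LD3_c3)) = (LP (LK LD1_c1 LD2_c18 LD3_c24)) :=
  Lre_c IH (LK LD1_c2 LD2_c44 LD3_c3) (LK LD1_c1 LD2_c18 LD3_c24) Lrfl Lrfl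
theorem f181256 : Led Lsl_bt (LP (LK LD1_c1 LD2_c18 LD3_c24)) = (LP (LK LD1_c2 LD2_c44 LD3_c1)) :=
  Lre_b IH (LK LD1_c1 LD2_c18 LD3_c24) (LK LD1_c2 LD2_c44 LD3_c1) Lrfl Lrfl
theorem f228824 : Led Lsl_df (LP (LK LD1_c1 LD2_c18 LD3_c24)) = (LP (LK LD1_c0 LD2_c58 LD3_c57)) :=
  Lgr Lrot12 (Lpr_bt (f181256 IH) (Lpr_dt (K15.f228816 IH) (Lpr_bt (K21.f228823 IH) (Lpn (LP (LK LD1_c0 LD2_c58 LD3_c57))))))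
theorem f195484 : Led Lsl_bt (LP (LK LD1_c4 LD2_c6 LD3_c55)) = (LP (LK LD1_c2 LD2_c0 LD3_c50)) :=
  Lre_b IH (LK LD1_c4 LD2_c6 LD3_c55) (LK LD1_c2 LD2_c0 LD3_c50) Lrfl Lrfl
theorem f299377 : Led Lsl_bt (LP (LK LD1_c2 LD2_c3 LD3_c35)) = (LP (LK LD1_c4 LD2_c12 LD3_c43)) :=
  Lre_b IH (LK LD1_c2 LD2_c3 LD3_c35) (LK LD1_c4 LD2_c12 LD3_c43) Lrfl Lrfl
theorem f314651 : Led Lsl_dt (LP (LK LD1_c2 LD2_c0 LD3_c50)) = (LP (LK LD1_c2 LD2_c3 LD3_c35)) :=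
  Lgr Lrot79 (Lpe (f195484 IH) (Lpr_df (K19.f314649 IH) (Lpe (f299377 IH) (Lpn (LP (LK LD1_c2 LD2_c3 LD3_c35))))))
theorem f337120 : Led Lsl_gf (LP (LK LD1_c0 LD2_c58 LD3_c57)) = (LP (LK LD1_c2 LD2_c3 LD3_c35)) :=
  Lgr Lrot143 (Lpe (f228824 IH) (Lpe (f181254 IH) (Lpe (K17.f181250 IH) (Lpe (f181248 IH) (Lpe (f179798 IH) (Lpe (f179795 IH) (Lpr_cf (f337113 IH) (Lpr_gt (f195480 IH) (Lpr_dt (f314651 IH) (Lpn (LP (LK LD1_c2 LD2_c3 LD3_c35))))))))))))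
theorem f178292 : Led Lsl_et (LP (LK LD1_c0 LD2_c58 LD3_c57)) = (LP (LK LD1_c0 LD2_c26 LD3_c45)) :=
  Lre_e IH (LK LD1_c0 LD2_c58 LD3_c57) (LK LD1_c0 LD2_c26 LD3_c45) Lrfl Lrfl
theorem f178293 : Led Lsl_dt (LP (LK LD1_c1 LD2_c18 LD3_c24)) = (LP (LK LD1_c0 LD2_c58 LD3_c57)) :=
  Lgr Lrot77 (Lpe (K17.f178290 IH) (Lpr_df (K9.f178285 IH) (Lpe (K9.f178291 IH) (Lpe (K9.f51582 IH) (Lpe (f178292 IH) (Lpn (LP (LK LD1_c0 LD2_c58 LD3_c57))))))))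
theorem f178084 : Led Lsl_et (LP (LK LD1_c1 LD2_c18 LD3_c24)) = (LP (LK LD1_c0 LD2_c36 LD3_c6)) :=
  Lre_e IH (LK LD1_c1 LD2_c18 LD3_c24) (LK LD1_c0 LD2_c36 LD3_c6) Lrfl Lrfl
theorem f178085 : Led Lsl_et (LP (LK LD1_c0 LD2_c36 LD3_c35)) = (LP (LK LD1_c0 LD2_c16 LD3_c18)) :=
  Lre_e IH (LK LD1_c0 LD2_c36 LD3_c35) (LK LD1_c0 LD2_c16 LD3_c18) Lrfl Lrfl
theorem f170099 : Led Lsl_dt (LP (LK LD1_c5 LD2_c39 LD3_c50)) = (LP (LK LD1_c2 LD2_c45 LD3_c51)) :=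
  Lre_d IH (LK LD1_c5 LD2_c39 LD3_c50) (LK LD1_c2 LD2_c45 LD3_c51) Lrfl Lrfl
theorem f337129 : Led Lsl_et (LP (LK LD1_c5 LD2_c39 LD3_c50)) = (LP (LK LD1_c4 LD2_c6 LD3_c57)) :=
  Lgr Lrot121 (Lpr_dt (f170099 IH) (Lpe (K21.f170081 IH) (Lpe (f178086 IH) (Lpr_et (f178085 IH) (Lpr_gf (K9.f177920 IH) (Lpe (f178084 IH) (Lpr_dt (f178293 IH) (Lpr_gf (f337120 IH) (Lpe (f314651 IH) (Lpe (f195480 IH) (Lpn (LP (LK LD1_c4 LD2_c6 LD3_c57)))))))))))))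
theorem f337135 : Led Lsl_ef (LP (LK LD1_c5 LD2_c39 LD3_c50)) = (LP (LK LD1_c4 LD2_c6 LD3_c57)) :=
  Lgr Lrot88 (Lpr_et (f337129 IH) (Lpn (LP (LK LD1_c4 LD2_c6 LD3_c57))))
theorem f170100 : Led Lsl_et (LP (LK LD1_c2 LD2_c24 LD3_c6)) = (LP (LK LD1_c4 LD2_c52 LD3_c45)) :=
  Lre_e IH (LK LD1_c2 LD2_c24 LD3_c6) (LK LD1_c4 LD2_c52 LD3_c45) Lrfl Lrfl
theorem f337142 : Led Lsl_dt (LP (LK LD1_c4 LD2_c52 LD3_c45)) = (LP (LK LD1_c4 LD2_c6 LD3_c57)) :=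
  Lgr Lrot77 (Lpe (f170100 IH) (Lpe (K21.f1540 IH) (Lpe (K21.f170092 IH) (Lpe (f170099 IH) (Lpr_ef (f337135 IH) (Lpn (LP (LK LD1_c4 LD2_c6 LD3_c57))))))))
theorem f2789 : Led Lsl_et (LP (LK LD1_c4 LD2_c52 LD3_c45)) = (LP (LK LD1_c2 LD2_c24 LD3_c6)) :=
  Lre_e IH (LK LD1_c4 LD2_c52 LD3_c45) (LK LD1_c2 LD2_c24 LD3_c6) Lrfl Lrfl
theorem f178310 : Led Lsl_et (LP (LK LD1_c0 LD2_c26 LD3_c45)) = (LP (LK LD1_c0 LD2_c58 LD3_c57)) :=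
  Lre_e IH (LK LD1_c0 LD2_c26 LD3_c45) (LK LD1_c0 LD2_c58 LD3_c57) Lrfl Lrfl
theorem f337149 : Led Lsl_dt (LP (LK LD1_c2 LD2_c3 LD3_c57)) = (LP (LK LD1_c4 LD2_c5 LD3_c31)) :=
  Lgr Lrot171 (Lpe (K21.f179974 IH) (Lpe (f178310 IH) (Lpr_dt (K9.f51582 IH) (Lpr_gf (K9.f167236 IH) (Lpe (K0.f282 IH) (Lpr_et (K0.f1522 IH) (Lpe (K21.f2784 IH) (Lpe (f2789 IH) (Lpr_dt (f337142 IH) (Lpr_gf (f334381 IH) (Lpn (LP (LK LD1_c4 LD2_c5 LD3_c31)))))))))))))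
theorem f337155 : Led Lsl_ff (LP (LK LD1_c2 LD2_c3 LD3_c57)) = (LP (LK LD1_c2 LD2_c6 LD3_c47)) :=
  Lgr Lrot19 (Lpr_dt (f337149 IH) (Lpr_ft (f237979 IH) (Lpe (K17.f237969 IH) (Lpn (LP (LK LD1_c2 LD2_c6 LD3_c47))))))
theorem f337161 : Led Lsl_at (LP (LK LD1_c2 LD2_c3 LD3_c57)) = (LP (LK LD1_c2 LD2_c7 LD3_c19)) :=
  Lgr Lrot26 (Lpr_ff (f337155 IH) (Lpr_gt (K21.f287810 IH) (Lpr_gt (K19.f179589 IH) (Lpn (LP (LK LD1_c2 LD2_c7 LD3_c19))))))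
theorem f334377 : Led Lsl_at (LP (LK LD1_c2 LD2_c3 LD3_c35)) = (LP (LK LD1_c2 LD2_c6 LD3_c47)) :=
  Lgr Lrot51 (Lpe (f314651 IH) (Lpr_af (f334358 IH) (Lpe (K21.f237918 IH) (Lpn (LP (LK LD1_c2 LD2_c6 LD3_c47))))))
theorem f337171 : Led Lsl_ff (LP (LK LD1_c2 LD2_c3 LD3_c35)) = (LP (LK LD1_c2 LD2_c7 LD3_c19)) :=
  Lgr Lrot30 (Lpr_at (f334377 IH) (Lpe (f337155 IH) (Lpr_at (f337161 IH) (Lpn (LP (LK LD1_c2 LD2_c7 LD3_c19))))))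
theorem f166477 : Led Lsl_et (LP (LK LD1_c2 LD2_c3 LD3_c35)) = (LP (LK LD1_c0 LD2_c58 LD3_c43)) :=
  Lre_e IH (LK LD1_c2 LD2_c3 LD3_c35) (LK LD1_c0 LD2_c58 LD3_c43) Lrfl Lrfl
theorem f326524 : Led Lsl_dt (LP (LK LD1_c2 LD2_c45 LD3_c54)) = (LP (LK LD1_c1 LD2_c19 LD3_c18)) :=
  Lre_d IH (LK LD1_c2 LD2_c45 LD3_c54) (LK LD1_c1 LD2_c19 LD3_c18) Lrfl Lrfl
theorem f179851 : Led Lsl_et (LP (LK LD1_c0 LD2_c27 LD3_c36)) = (LP (LK LD1_c1 LD2_c0 LD3_c41)) :=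
  Lre_e IH (LK LD1_c0 LD2_c27 LD3_c36) (LK LD1_c1 LD2_c0 LD3_c41) Lrfl Lrfl
theorem f326584 : Led Lsl_et (LP (LK LD1_c2 LD2_c45 LD3_c54)) = (LP (LK LD1_c2 LD2_c7 LD3_c19)) :=
  Lgr Lrot122 (Lpr_dt (f326524 IH) (Lpr_gt (K21.f326576 IH) (Lpr_df (K19.f306899 IH) (Lpr_et (K19.f2799 IH) (Lpr_gt (K9.f2872 IH) (Lpr_dt (K0.f2161 IH) (Lpe (K12.f179554 IH) (Lpe (K9.f170286 IH) (Lpr_et (f179851 IH) (Lpr_gt (K19.f179589 IH) (Lpn (LP (LK LD1_c2 LD2_c7 LD3_c19)))))))))))))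
theorem f326589 : Led Lsl_ft (LP (LK LD1_c1 LD2_c19 LD3_c17)) = (LP (LK LD1_c2 LD2_c45 LD3_c54)) :=
  Lre_f IH (LK LD1_c1 LD2_c19 LD3_c17) (LK LD1_c2 LD2_c45 LD3_c54) Lrfl Lrfl
theorem f337175 : Led Lsl_ft (LP (LK LD1_c0 LD2_c58 LD3_c43)) = (LP (LK LD1_c0 LD2_c36 LD3_c36)) :=
  Lgr Lrot86 (Lpe (f166477 IH) (Lpr_ff (f337171 IH) (Lpe (f326584 IH) (Lpe (f326589 IH) (Lpe (K21.f170080 IH) (Lpn (LP (LK LD1_c0 LD2_c36 LD3_c36))))))))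
theorem f337177 : Led Lsl_ff (LP (LK LD1_c2 LD2_c3 LD3_c34)) = (LP (LK LD1_c1 LD2_c19 LD3_c19)) :=
  Lgr Lrot23 (Lpr_ct (K14.f166469 IH) (Lpr_ft (f337175 IH) (Lpr_ct (K9.f170074 IH) (Lpn (LP (LK LD1_c1 LD2_c19 LD3_c19))))))
theorem f337185 : Led Lsl_at (LP (LK LD1_c2 LD2_c3 LD3_c34)) = (LP (LK LD1_c2 LD2_c2 LD3_c27)) :=
  Lgr Lrot26 (Lpr_ff (f337177 IH) (Lpr_gt (K9.f179719 IH) (Lpe (K18.f299306 IH) (Lpn (LP (LK LD1_c2 LD2_c2 LD3_c27))))))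
theorem f170167 : Led Lsl_et (LP (LK LD1_c4 LD2_c12 LD3_c45)) = (LP (LK LD1_c2 LD2_c3 LD3_c34)) :=
  Lre_e IH (LK LD1_c4 LD2_c12 LD3_c45) (LK LD1_c2 LD2_c3 LD3_c34) Lrfl Lrfl
theorem f260758 : Led Lsl_et (LP (LK LD1_c2 LD2_c2 LD3_c27)) = (LP (LK LD1_c4 LD2_c10 LD3_c26)) :=
  Lre_e IH (LK LD1_c2 LD2_c2 LD3_c27) (LK LD1_c4 LD2_c10 LD3_c26) Lrfl Lrfl
theorem f337190 : Led Lsl_af (LP (LK LD1_c4 LD2_c12 LD3_c45)) = (LP (LK LD1_c4 LD2_c10 LD3_c26)) :=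
  Lgr Lrot50 (Lpr_et (f170167 IH) (Lpr_at (f337185 IH) (Lpr_et (f260758 IH) (Lpn (LP (LK LD1_c4 LD2_c10 LD3_c26))))))
theorem f299371 : Led Lsl_ct (LP (LK LD1_c2 LD2_c3 LD3_c35)) = (LP (LK LD1_c4 LD2_c12 LD3_c45)) :=
  Lre_c IH (LK LD1_c2 LD2_c3 LD3_c35) (LK LD1_c4 LD2_c12 LD3_c45) Lrfl Lrfl
theorem f305083 : Led Lsl_gt (LP (LK LD1_c9 LD2_c34 LD3_c61)) = (LP (LK LD1_c16 LD2_c9 LD3_c39)) :=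
  Lgr Lrot46 (Lpe (K16.f233161 IH) (Lpr_ft (f305082 IH) (Lpr_at (f305069 IH) (Lpn (LP (LK LD1_c16 LD2_c9 LD3_c39))))))
theorem f269552 : Led Lsl_at (LP (LK LD1_c8 LD2_c40 LD3_c34)) = (LP (LK LD1_c9 LD2_c35 LD3_c0)) :=
  Lgr Lrot66 (Lpr_ff (K16.f269547 IH) (Lpe (K16.f269531 IH) (Lpr_ff (K16.f269523 IH) (Lpn (LP (LK LD1_c9 LD2_c35 LD3_c0))))))
theorem f305085 : Led Lsl_gf (LP (LK LD1_c9 LD2_c35 LD3_c0)) = (LP (LK LD1_c16 LD2_c9 LD3_c39)) :=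
  Lgr Lrot76 (Lpe (f269552 IH) (Lpr_ff (K16.f269547 IH) (Lpr_gt (f305083 IH) (Lpn (LP (LK LD1_c16 LD2_c9 LD3_c39))))))
theorem f267638 : Led Lsl_bt (LP (LK LD1_c0 LD2_c58 LD3_c16)) = (LP (LK LD1_c2 LD2_c2 LD3_c39)) :=
  Lre_b IH (LK LD1_c0 LD2_c58 LD3_c16) (LK LD1_c2 LD2_c2 LD3_c39) Lrfl Lrfl
theorem f179087 : Led Lsl_ct (LP (LK LD1_c0 LD2_c58 LD3_c16)) = (LP (LK LD1_c2 LD2_c2 LD3_c43)) :=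
  Lre_c IH (LK LD1_c0 LD2_c58 LD3_c16) (LK LD1_c2 LD2_c2 LD3_c43) Lrfl Lrfl
theorem f170874 : Led Lsl_gt (LP (LK LD1_c2 LD2_c2 LD3_c43)) = (LP (LK LD1_c4 LD2_c10 LD3_c56)) :=
  Lre_g IH (LK LD1_c2 LD2_c2 LD3_c43) (LK LD1_c4 LD2_c10 LD3_c56) Lrfl Lrfl
theorem f305063 : Led Lsl_bt (LP (LK LD1_c2 LD2_c7 LD3_c19)) = (LP (LK LD1_c4 LD2_c19 LD3_c45)) :=
  Lre_b IH (LK LD1_c2 LD2_c7 LD3_c19) (LK LD1_c4 LD2_c19 LD3_c45) Lrfl Lrfl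
theorem f305087 : Led Lsl_cf (LP (LK LD1_c4 LD2_c10 LD3_c56)) = (LP (LK LD1_c2 LD2_c7 LD3_c19)) :=
  Lgr Lrot58 (Lpe (f170874 IH) (Lpe (f179087 IH) (Lpr_bt (f267638 IH) (Lpe (K17.f288869 IH) (Lpr_bf (K19.f236946 IH) (Lpe (K19.f255730 IH) (Lpr_gf (f305085 IH) (Lpe (f305012 IH) (Lpe (K21.f305011 IH) (Lpe (f305063 IH) (Lpn (LP (LK LD1_c2 LD2_c7 LD3_c19)))))))))))))
theorem f305089 : Led Lsl_ct (LP (LK LD1_c4 LD2_c10 LD3_c56)) = (LP (LK LD1_c2 LD2_c7 LD3_c19)) :=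
  Lgr Lrot59 (Lpr_cf (f305087 IH) (Lpn (LP (LK LD1_c2 LD2_c7 LD3_c19))))
theorem f337173 : Led Lsl_ft (LP (LK LD1_c4 LD2_c12 LD3_c45)) = (LP (LK LD1_c4 LD2_c10 LD3_c56)) :=
  Lgr Lrot4 (Lpe (f299371 IH) (Lpr_ff (f337171 IH) (Lpe (f305089 IH) (Lpn (LP (LK LD1_c4 LD2_c10 LD3_c56))))))
theorem f325307 : Led Lsl_ct (LP (LK LD1_c4 LD2_c13 LD3_c21)) = (LP (LK LD1_c2 LD2_c3 LD3_c57)) :=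
  Lre_c IH (LK LD1_c4 LD2_c13 LD3_c21) (LK LD1_c2 LD2_c3 LD3_c57) Lrfl Lrfl
theorem f337165 : Led Lsl_af (LP (LK LD1_c4 LD2_c13 LD3_c21)) = (LP (LK LD1_c4 LD2_c10 LD3_c56)) :=
  Lgr Lrot68 (Lpr_ct (f325307 IH) (Lpr_at (f337161 IH) (Lpe (f305087 IH) (Lpn (LP (LK LD1_c4 LD2_c10 LD3_c56))))))
theorem f337199 : Led Lsl_ft (LP (LK LD1_c4 LD2_c13 LD3_c21)) = (LP (LK LD1_c4 LD2_c10 LD3_c26)) :=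
  Lgr Lrot101 (Lpr_af (f337165 IH) (Lpe (f337173 IH) (Lpr_af (f337190 IH) (Lpn (LP (LK LD1_c4 LD2_c10 LD3_c26))))))
theorem f170984 : Led Lsl_et (LP (LK LD1_c4 LD2_c10 LD3_c26)) = (LP (LK LD1_c2 LD2_c2 LD3_c27)) :=
  Lre_e IH (LK LD1_c4 LD2_c10 LD3_c26) (LK LD1_c2 LD2_c2 LD3_c27) Lrfl Lrfl
theorem f337181 : Led Lsl_ft (LP (LK LD1_c2 LD2_c2 LD3_c27)) = (LP (LK LD1_c2 LD2_c3 LD3_c31)) :=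
  Lgr Lrot54 (Lpe (K15.f260748 IH) (Lpr_ff (f337177 IH) (Lpe (K9.f178387 IH) (Lpn (LP (LK LD1_c2 LD2_c3 LD3_c31))))))
theorem f170927 : Led Lsl_et (LP (LK LD1_c2 LD2_c3 LD3_c31)) = (LP (LK LD1_c4 LD2_c12 LD3_c38)) :=
  Lre_e IH (LK LD1_c2 LD2_c3 LD3_c31) (LK LD1_c4 LD2_c12 LD3_c38) Lrfl Lrfl
theorem f337203 : Led Lsl_ef (LP (LK LD1_c4 LD2_c13 LD3_c21)) = (LP (LK LD1_c8 LD2_c24 LD3_c56)) :=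
  Lgr Lrot21 (Lpr_ft (f337199 IH) (Lpr_et (f170984 IH) (Lpr_ft (f337181 IH) (Lpr_et (f170927 IH) (Lpr_ft (f170929 IH) (Lpn (LP (LK LD1_c8 LD2_c24 LD3_c56))))))))
theorem f337210 : Led Lsl_et (LP (LK LD1_c4 LD2_c13 LD3_c21)) = (LP (LK LD1_c8 LD2_c24 LD3_c56)) :=
  Lgr Lrot87 (Lpr_ef (f337203 IH) (Lpn (LP (LK LD1_c8 LD2_c24 LD3_c56))))
theorem f337205 : Led Lsl_ff (LP (LK LD1_c4 LD2_c13 LD3_c21)) = (LP (LK LD1_c4 LD2_c10 LD3_c26)) :=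
  Lgr Lrot3 (Lpr_ft (f337199 IH) (Lpn (LP (LK LD1_c4 LD2_c10 LD3_c26))))
theorem f170928 : Led Lsl_ft (LP (LK LD1_c8 LD2_c24 LD3_c56)) = (LP (LK LD1_c4 LD2_c12 LD3_c38)) :=
  Lre_f IH (LK LD1_c8 LD2_c24 LD3_c56) (LK LD1_c4 LD2_c12 LD3_c38) Lrfl Lrfl
theorem f337212 : Led Lsl_ff (LP (LK LD1_c2 LD2_c2 LD3_c27)) = (LP (LK LD1_c2 LD2_c3 LD3_c31)) :=
  Lgr Lrot72 (Lpr_et (f260758 IH) (Lpe (f337205 IH) (Lpr_et (f337210 IH) (Lpr_ft (f170928 IH) (Lpr_et (K20.f166499 IH) (Lpn (LP (LK LD1_c2 LD2_c3 LD3_c31))))))))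
theorem f260752 : Led Lsl_bt (LP (LK LD1_c2 LD2_c2 LD3_c27)) = (LP (LK LD1_c4 LD2_c10 LD3_c25)) :=
  Lre_b IH (LK LD1_c2 LD2_c2 LD3_c27) (LK LD1_c4 LD2_c10 LD3_c25) Lrfl Lrfl
theorem f166482 : Led Lsl_bt (LP (LK LD1_c4 LD2_c12 LD3_c37)) = (LP (LK LD1_c2 LD2_c3 LD3_c31)) :=
  Lre_b IH (LK LD1_c4 LD2_c12 LD3_c37) (LK LD1_c2 LD2_c3 LD3_c31) Lrfl Lrfl
theorem f337216 : Led Lsl_ft (LP (LK LD1_c4 LD2_c10 LD3_c25)) = (LP (LK LD1_c4 LD2_c12 LD3_c37)) :=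
  Lgr Lrot75 (Lpe (f260752 IH) (Lpr_ff (f337212 IH) (Lpe (f166482 IH) (Lpn (LP (LK LD1_c4 LD2_c12 LD3_c37))))))
theorem f170165 : Led Lsl_bt (LP (LK LD1_c4 LD2_c12 LD3_c44)) = (LP (LK LD1_c2 LD2_c3 LD3_c34)) :=
  Lre_b IH (LK LD1_c4 LD2_c12 LD3_c44) (LK LD1_c2 LD2_c3 LD3_c34) Lrfl Lrfl
theorem f260753 : Led Lsl_df (LP (LK LD1_c4 LD2_c12 LD3_c44)) = (LP (LK LD1_c4 LD2_c10 LD3_c25)) :=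
  Lgr Lrot12 (Lpr_bt (f170165 IH) (Lpr_dt (K15.f260748 IH) (Lpr_bt (f260752 IH) (Lpn (LP (LK LD1_c4 LD2_c10 LD3_c25))))))
theorem f170169 : Led Lsl_ct (LP (LK LD1_c4 LD2_c12 LD3_c44)) = (LP (LK LD1_c8 LD2_c24 LD3_c58)) :=
  Lre_c IH (LK LD1_c4 LD2_c12 LD3_c44) (LK LD1_c8 LD2_c24 LD3_c58) Lrfl Lrfl
theorem f269633 : Led Lsl_bt (LP (LK LD1_c15 LD2_c23 LD3_c34)) = (LP (LK LD1_c8 LD2_c10 LD3_c28)) :=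
  Lre_b IH (LK LD1_c15 LD2_c23 LD3_c34) (LK LD1_c8 LD2_c10 LD3_c28) Lrfl Lrfl
theorem f232277 : Led Lsl_bt (LP (LK LD1_c4 LD2_c12 LD3_c42)) = (LP (LK LD1_c8 LD2_c24 LD3_c58)) :=
  Lre_b IH (LK LD1_c4 LD2_c12 LD3_c42) (LK LD1_c8 LD2_c24 LD3_c58) Lrfl Lrfl
theorem f269638 : Led Lsl_df (LP (LK LD1_c15 LD2_c23 LD3_c34)) = (LP (LK LD1_c8 LD2_c24 LD3_c58)) :=
  Lgr Lrot12 (Lpr_bt (f269633 IH) (Lpr_dt (K21.f269629 IH) (Lpr_bt (f232277 IH) (Lpn (LP (LK LD1_c8 LD2_c24 LD3_c58))))))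
theorem f269634 : Led Lsl_ct (LP (LK LD1_c15 LD2_c23 LD3_c34)) = (LP (LK LD1_c25 LD2_c15 LD3_c50)) :=
  Lre_c IH (LK LD1_c15 LD2_c23 LD3_c34) (LK LD1_c25 LD2_c15 LD3_c50) Lrfl Lrfl
theorem f269693 : Led Lsl_dt (LP (LK LD1_c25 LD2_c15 LD3_c50)) = (LP (LK LD1_c31 LD2_c49 LD3_c61)) :=
  Lre_d IH (LK LD1_c25 LD2_c15 LD3_c50) (LK LD1_c31 LD2_c49 LD3_c61) Lrfl Lrfl
theorem f178435 : Led Lsl_at (LP (LK LD1_c4 LD2_c12 LD3_c37)) = (LP (LK LD1_c8 LD2_c24 LD3_c52)) :=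
  Lre_a IH (LK LD1_c4 LD2_c12 LD3_c37) (LK LD1_c8 LD2_c24 LD3_c52) Lrfl Lrfl
theorem f178434 : Led Lsl_ct (LP (LK LD1_c15 LD2_c48 LD3_c54)) = (LP (LK LD1_c8 LD2_c24 LD3_c52)) :=
  Lre_c IH (LK LD1_c15 LD2_c48 LD3_c54) (LK LD1_c8 LD2_c24 LD3_c52) Lrfl Lrfl
theorem f178433 : Led Lsl_dt (LP (LK LD1_c25 LD2_c45 LD3_c20)) = (LP (LK LD1_c15 LD2_c48 LD3_c54)) :=
  Lre_d IH (LK LD1_c25 LD2_c45 LD3_c20) (LK LD1_c15 LD2_c48 LD3_c54) Lrfl Lrfl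
theorem f337225 : Led Lsl_ct (LP (LK LD1_c31 LD2_c49 LD3_c61)) = (LP (LK LD1_c25 LD2_c45 LD3_c20)) :=
  Lgr Lrot53 (Lpe (f269693 IH) (Lpe (f269634 IH) (Lpr_df (f269638 IH) (Lpe (f170169 IH) (Lpr_df (f260753 IH) (Lpr_ft (f337216 IH) (Lpr_at (f178435 IH) (Lpe (f178434 IH) (Lpe (f178433 IH) (Lpn (LP (LK LD1_c25 LD2_c45 LD3_c20))))))))))))
theorem f167082 : Led Lsl_bt (LP (LK LD1_c2 LD2_c3 LD3_c31)) = (LP (LK LD1_c4 LD2_c12 LD3_c37)) :=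
  Lre_b IH (LK LD1_c2 LD2_c3 LD3_c31) (LK LD1_c4 LD2_c12 LD3_c37) Lrfl Lrfl
theorem f178404 : Led Lsl_bt (LP (LK LD1_c2 LD2_c45 LD3_c55)) = (LP (LK LD1_c1 LD2_c19 LD3_c19)) :=
  Lre_b IH (LK LD1_c2 LD2_c45 LD3_c55) (LK LD1_c1 LD2_c19 LD3_c19) Lrfl Lrfl
theorem f178405 : Led Lsl_dt (LP (LK LD1_c4 LD2_c12 LD3_c37)) = (LP (LK LD1_c2 LD2_c45 LD3_c55)) :=
  Lgr Lrot79 (Lpe (f167082 IH) (Lpr_df (K9.f178394 IH) (Lpe (f178404 IH) (Lpn (LP (LK LD1_c2 LD2_c45 LD3_c55))))))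
theorem f178408 : Led Lsl_at (LP (LK LD1_c8 LD2_c24 LD3_c52)) = (LP (LK LD1_c4 LD2_c12 LD3_c37)) :=
  Lre_a IH (LK LD1_c8 LD2_c24 LD3_c52) (LK LD1_c4 LD2_c12 LD3_c37) Lrfl Lrfl
theorem f178409 : Led Lsl_at (LP (LK LD1_c2 LD2_c45 LD3_c55)) = (LP (LK LD1_c5 LD2_c39 LD3_c56)) :=
  Lre_a IH (LK LD1_c2 LD2_c45 LD3_c55) (LK LD1_c5 LD2_c39 LD3_c56) Lrfl Lrfl
theorem f178410 : Led Lsl_df (LP (LK LD1_c8 LD2_c24 LD3_c52)) = (LP (LK LD1_c5 LD2_c39 LD3_c56)) :=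
  Lgr Lrot18 (Lpr_at (f178408 IH) (Lpr_dt (f178405 IH) (Lpr_at (f178409 IH) (Lpn (LP (LK LD1_c5 LD2_c39 LD3_c56))))))
theorem f178430 : Led Lsl_dt (LP (LK LD1_c8 LD2_c24 LD3_c52)) = (LP (LK LD1_c5 LD2_c39 LD3_c56)) :=
  Lgr Lrot42 (Lpr_df (f178410 IH) (Lpn (LP (LK LD1_c5 LD2_c39 LD3_c56))))
theorem f178437 : Led Lsl_ct (LP (LK LD1_c5 LD2_c39 LD3_c56)) = (LP (LK LD1_c11 LD2_c9 LD3_c45)) :=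
  Lre_c IH (LK LD1_c5 LD2_c39 LD3_c56) (LK LD1_c11 LD2_c9 LD3_c45) Lrfl Lrfl
theorem f178441 : Led Lsl_at (LP (LK LD1_c5 LD2_c39 LD3_c21)) = (LP (LK LD1_c11 LD2_c9 LD3_c45)) :=
  Lre_a IH (LK LD1_c5 LD2_c39 LD3_c21) (LK LD1_c11 LD2_c9 LD3_c45) Lrfl Lrfl
theorem f337240 : Led Lsl_ft (LP (LK LD1_c8 LD2_c24 LD3_c58)) = (LP (LK LD1_c5 LD2_c39 LD3_c21)) :=
  Lgr Lrot142 (Lpe (f269638 IH) (Lpr_ct (f269634 IH) (Lpr_dt (f269693 IH) (Lpr_ct (f337225 IH) (Lpr_dt (f178433 IH) (Lpr_ct (f178434 IH) (Lpr_dt (f178430 IH) (Lpr_ct (f178437 IH) (Lpe (f178441 IH) (Lpn (LP (LK LD1_c5 LD2_c39 LD3_c21))))))))))))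
theorem f337248 : Led Lsl_ff (LP (LK LD1_c8 LD2_c24 LD3_c58)) = (LP (LK LD1_c5 LD2_c39 LD3_c21)) :=
  Lgr Lrot3 (Lpr_ft (f337240 IH) (Lpn (LP (LK LD1_c5 LD2_c39 LD3_c21))))
theorem f178421 : Led Lsl_dt (LP (LK LD1_c11 LD2_c9 LD3_c46)) = (LP (LK LD1_c5 LD2_c39 LD3_c21)) :=
  Lre_d IH (LK LD1_c11 LD2_c9 LD3_c46) (LK LD1_c5 LD2_c39 LD3_c21) Lrfl Lrfl
theorem f337252 : Led Lsl_ft (LP (LK LD1_c15 LD2_c23 LD3_c34)) = (LP (LK LD1_c11 LD2_c9 LD3_c46)) :=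
  Lgr Lrot54 (Lpr_df (f269638 IH) (Lpr_ff (f337248 IH) (Lpe (f178421 IH) (Lpn (LP (LK LD1_c11 LD2_c9 LD3_c46))))))
theorem f225152 : Led Lsl_bt (LP (LK LD1_c8 LD2_c10 LD3_c28)) = (LP (LK LD1_c15 LD2_c23 LD3_c34)) :=
  Lre_b IH (LK LD1_c8 LD2_c10 LD3_c28) (LK LD1_c15 LD2_c23 LD3_c34) Lrfl Lrfl
theorem f238921 : Led Lsl_bt (LP (LK LD1_c11 LD2_c9 LD3_c46)) = (LP (LK LD1_c5 LD2_c39 LD3_c22)) :=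
  Lre_b IH (LK LD1_c11 LD2_c9 LD3_c46) (LK LD1_c5 LD2_c39 LD3_c22) Lrfl Lrfl
theorem f337256 : Led Lsl_ff (LP (LK LD1_c8 LD2_c10 LD3_c28)) = (LP (LK LD1_c5 LD2_c39 LD3_c22)) :=
  Lgr Lrot25 (Lpr_bt (f225152 IH) (Lpr_ft (f337252 IH) (Lpr_bt (f238921 IH) (Lpn (LP (LK LD1_c5 LD2_c39 LD3_c22))))))
theorem f337269 : Led Lsl_at (LP (LK LD1_c8 LD2_c10 LD3_c28)) = (LP (LK LD1_c8 LD2_c40 LD3_c36)) :=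
  Lgr Lrot26 (Lpr_ff (f337256 IH) (Lpr_gt (K13.f238913 IH) (Lpr_gt (K13.f239114 IH) (Lpn (LP (LK LD1_c8 LD2_c40 LD3_c36))))))
theorem f337275 : Led Lsl_af (LP (LK LD1_c4 LD2_c12 LD3_c42)) = (LP (LK LD1_c4 LD2_c21 LD3_c31)) :=
  Lgr Lrot117 (Lpe (K21.f269640 IH) (Lpr_at (f337269 IH) (Lpr_dt (K13.f229904 IH) (Lpn (LP (LK LD1_c4 LD2_c21 LD3_c31))))))
theorem f269642 : Led Lsl_et (LP (LK LD1_c4 LD2_c12 LD3_c42)) = (LP (LK LD1_c8 LD2_c24 LD3_c59)) :=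
  Lre_e IH (LK LD1_c4 LD2_c12 LD3_c42) (LK LD1_c8 LD2_c24 LD3_c59) Lrfl Lrfl
theorem f337295 : Led Lsl_at (LP (LK LD1_c8 LD2_c24 LD3_c59)) = (LP (LK LD1_c8 LD2_c40 LD3_c37)) :=
  Lgr Lrot80 (Lpe (f269642 IH) (Lpr_af (f337275 IH) (Lpe (K19.f239129 IH) (Lpn (LP (LK LD1_c8 LD2_c40 LD3_c37))))))
theorem f337303 : Led Lsl_ff (LP (LK LD1_c8 LD2_c24 LD3_c59)) = (LP (LK LD1_c8 LD2_c37 LD3_c39)) :=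
  Lgr Lrot30 (Lpr_at (f337295 IH) (Lpr_ft (K20.f305006 IH) (Lpr_at (K20.f305005 IH) (Lpn (LP (LK LD1_c8 LD2_c37 LD3_c39))))))
theorem f305008 : Led Lsl_gt (LP (LK LD1_c8 LD2_c37 LD3_c39)) = (LP (LK LD1_c16 LD2_c9 LD3_c41)) :=
  Lre_g IH (LK LD1_c8 LD2_c37 LD3_c39) (LK LD1_c16 LD2_c9 LD3_c41) Lrfl Lrfl
theorem f337305 : Led Lsl_gt (LP (LK LD1_c16 LD2_c9 LD3_c41)) = (LP (LK LD1_c8 LD2_c40 LD3_c37)) :=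
  Lgr Lrot46 (Lpe (f305008 IH) (Lpe (f337303 IH) (Lpr_at (f337295 IH) (Lpn (LP (LK LD1_c8 LD2_c40 LD3_c37))))))
theorem f337309 : Led Lsl_cf (LP (LK LD1_c16 LD2_c9 LD3_c41)) = (LP (LK LD1_c8 LD2_c40 LD3_c19)) :=
  Lgr Lrot169 (Lpr_gt (f337305 IH) (Lpr_ct (K20.f298930 IH) (Lpe (K19.f238116 IH) (Lpe (K20.f190004 IH) (Lpe (K14.f190013 IH) (Lpr_cf (K14.f255580 IH) (Lpe (K19.f305496 IH) (Lpr_df (K19.f305488 IH) (Lpe (K21.f324637 IH) (Lpn (LP (LK LD1_c8 LD2_c40 LD3_c19))))))))))))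
theorem f337311 : Led Lsl_ct (LP (LK LD1_c16 LD2_c9 LD3_c41)) = (LP (LK LD1_c8 LD2_c40 LD3_c19)) :=
  Lgr Lrot59 (Lpr_cf (f337309 IH) (Lpn (LP (LK LD1_c8 LD2_c40 LD3_c19))))
theorem f219687 : Led Lsl_at (LP (LK LD1_c8 LD2_c18 LD3_c4)) = (LP (LK LD1_c15 LD2_c36 LD3_c24)) :=
  Lre_a IH (LK LD1_c8 LD2_c18 LD3_c4) (LK LD1_c15 LD2_c36 LD3_c24) Lrfl Lrfl
theorem f324643 : Led Lsl_at (LP (LK LD1_c8 LD2_c40 LD3_c19)) = (LP (LK LD1_c9 LD2_c34 LD3_c54)) :=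
  Lgr Lrot67 (Lpr_bf (K21.f324641 IH) (Lpe (f219687 IH) (Lpe (K21.f323203 IH) (Lpr_af (K20.f323194 IH) (Lpe (K21.f236047 IH) (Lpn (LP (LK LD1_c9 LD2_c34 LD3_c54))))))))
theorem f328660 : Led Lsl_gt (LP (LK LD1_c8 LD2_c40 LD3_c17)) = (LP (LK LD1_c9 LD2_c34 LD3_c54)) :=
  Lgr Lrot5 (Lpr_ft (K19.f305543 IH) (Lpr_at (K19.f305395 IH) (Lpr_gf (K21.f328658 IH) (Lpn (LP (LK LD1_c9 LD2_c34 LD3_c54))))))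
theorem f269689 : Led Lsl_bt (LP (LK LD1_c4 LD2_c12 LD3_c43)) = (LP (LK LD1_c2 LD2_c3 LD3_c35)) :=
  Lre_b IH (LK LD1_c4 LD2_c12 LD3_c43) (LK LD1_c2 LD2_c3 LD3_c35) Lrfl Lrfl
theorem f269687 : Led Lsl_ct (LP (LK LD1_c4 LD2_c12 LD3_c43)) = (LP (LK LD1_c8 LD2_c24 LD3_c59)) :=
  Lre_c IH (LK LD1_c4 LD2_c12 LD3_c43) (LK LD1_c8 LD2_c24 LD3_c59) Lrfl Lrfl
theorem f269655 : Led Lsl_gt (LP (LK LD1_c15 LD2_c49 LD3_c6)) = (LP (LK LD1_c8 LD2_c24 LD3_c59)) :=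
  Lre_g IH (LK LD1_c15 LD2_c49 LD3_c6) (LK LD1_c8 LD2_c24 LD3_c59) Lrfl Lrfl
theorem f337126 : Led Lsl_ct (LP (LK LD1_c9 LD2_c34 LD3_c54)) = (LP (LK LD1_c15 LD2_c49 LD3_c6)) :=
  Lgr Lrot91 (Lpe (f328660 IH) (Lpr_bf (K19.f305545 IH) (Lpr_ct (f336679 IH) (Lpe (f271094 IH) (Lpe (K21.f228826 IH) (Lpr_bt (K21.f228823 IH) (Lpr_gf (f337120 IH) (Lpe (f269689 IH) (Lpr_ct (f269687 IH) (Lpe (f269655 IH) (Lpn (LP (LK LD1_c15 LD2_c49 LD3_c6)))))))))))))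
theorem f337342 : Led Lsl_af (LP (LK LD1_c16 LD2_c9 LD3_c41)) = (LP (LK LD1_c15 LD2_c49 LD3_c6)) :=
  Lgr Lrot68 (Lpr_ct (f337311 IH) (Lpr_at (f324643 IH) (Lpr_ct (f337126 IH) (Lpn (LP (LK LD1_c15 LD2_c49 LD3_c6))))))
theorem f337344 : Led Lsl_at (LP (LK LD1_c16 LD2_c9 LD3_c41)) = (LP (LK LD1_c15 LD2_c49 LD3_c6)) :=
  Lgr Lrot100 (Lpr_af (f337342 IH) (Lpn (LP (LK LD1_c15 LD2_c49 LD3_c6))))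
theorem f324617 : Led Lsl_ft (LP (LK LD1_c4 LD2_c21 LD3_c19)) = (LP (LK LD1_c8 LD2_c40 LD3_c19)) :=
  Lre_f IH (LK LD1_c4 LD2_c21 LD3_c19) (LK LD1_c8 LD2_c40 LD3_c19) Lrfl Lrfl
theorem f255646 : Led Lsl_ct (LP (LK LD1_c8 LD2_c40 LD3_c16)) = (LP (LK LD1_c4 LD2_c21 LD3_c19)) :=
  Lre_c IH (LK LD1_c8 LD2_c40 LD3_c16) (LK LD1_c4 LD2_c21 LD3_c19) Lrfl Lrfl
theorem f337315 : Led Lsl_ft (LP (LK LD1_c16 LD2_c9 LD3_c41)) = (LP (LK LD1_c8 LD2_c40 LD3_c16)) :=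
  Lgr Lrot4 (Lpr_cf (f337309 IH) (Lpe (f324617 IH) (Lpe (f255646 IH) (Lpn (LP (LK LD1_c8 LD2_c40 LD3_c16))))))
theorem f337329 : Led Lsl_ff (LP (LK LD1_c16 LD2_c9 LD3_c41)) = (LP (LK LD1_c8 LD2_c40 LD3_c16)) :=
  Lgr Lrot3 (Lpr_ft (f337315 IH) (Lpn (LP (LK LD1_c8 LD2_c40 LD3_c16))))
theorem f255644 : Led Lsl_ct (LP (LK LD1_c4 LD2_c21 LD3_c19)) = (LP (LK LD1_c8 LD2_c40 LD3_c16)) :=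
  Lre_c IH (LK LD1_c4 LD2_c21 LD3_c19) (LK LD1_c8 LD2_c40 LD3_c16) Lrfl Lrfl
theorem f283247 : Led Lsl_dt (LP (LK LD1_c8 LD2_c30 LD3_c47)) = (LP (LK LD1_c8 LD2_c29 LD3_c7)) :=
  Lgr Lrot77 (Lpe (K19.f283222 IH) (Lpr_df (K17.f283229 IH) (Lpr_ef (K17.f283241 IH) (Lpr_df (K16.f274537 IH) (Lpe (K17.f54292 IH) (Lpn (LP (LK LD1_c8 LD2_c29 LD3_c7))))))))
theorem f194258 : Led Lsl_bf (LP (LK LD1_c8 LD2_c2 LD3_c48)) = (LP (LK LD1_c8 LD2_c29 LD3_c7)) :=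
  Lgr Lrot24 (Lpr_bt (K17.f194256 IH) (Lpn (LP (LK LD1_c8 LD2_c29 LD3_c7))))
theorem f283250 : Led Lsl_bf (LP (LK LD1_c8 LD2_c30 LD3_c47)) = (LP (LK LD1_c7 LD2_c55 LD3_c41)) :=
  Lgr Lrot93 (Lpr_dt (f283247 IH) (Lpe (f194258 IH) (Lpr_dt (K13.f228066 IH) (Lpn (LP (LK LD1_c7 LD2_c55 LD3_c41))))))
theorem f305093 : Led Lsl_dt (LP (LK LD1_c8 LD2_c37 LD3_c52)) = (LP (LK LD1_c8 LD2_c37 LD3_c38)) :=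
  Lgr Lrot42 (Lpr_df (K20.f305057 IH) (Lpn (LP (LK LD1_c8 LD2_c37 LD3_c38))))
theorem f315439 : Led Lsl_bt (LP (LK LD1_c8 LD2_c37 LD3_c38)) = (LP (LK LD1_c4 LD2_c56 LD3_c49)) :=
  Lgr Lrot95 (Lpe (f305093 IH) (Lpe (K20.f190007 IH) (Lpr_df (K20.f315437 IH) (Lpn (LP (LK LD1_c4 LD2_c56 LD3_c49))))))
theorem f331284 : Led Lsl_gt (LP (LK LD1_c8 LD2_c40 LD3_c16)) = (LP (LK LD1_c16 LD2_c9 LD3_c40)) :=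
  Lgr Lrot65 (Lpe (f255644 IH) (Lpr_bt (K21.f324647 IH) (Lpr_gf (K21.f331280 IH) (Lpr_bf (f283250 IH) (Lpe (K18.f236456 IH) (Lpr_gf (K20.f298210 IH) (Lpe (K18.f200509 IH) (Lpr_gf (K20.f298439 IH) (Lpe (f315439 IH) (Lpr_ct (K20.f305053 IH) (Lpn (LP (LK LD1_c16 LD2_c9 LD3_c40)))))))))))))
theorem f337360 : Led Lsl_gt (LP (LK LD1_c16 LD2_c9 LD3_c40)) = (LP (LK LD1_c15 LD2_c49 LD3_c6)) :=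
  Lgr Lrot46 (Lpe (f331284 IH) (Lpe (f337329 IH) (Lpr_at (f337344 IH) (Lpn (LP (LK LD1_c15 LD2_c49 LD3_c6))))))
theorem f189413 : Led Lsl_ct (LP (LK LD1_c5 LD2_c35 LD3_c28)) = (LP (LK LD1_c11 LD2_c3 LD3_c7)) :=
  Lre_c IH (LK LD1_c5 LD2_c35 LD3_c28) (LK LD1_c11 LD2_c3 LD3_c7) Lrfl Lrfl
theorem f337331 : Led Lsl_af (LP (LK LD1_c9 LD2_c34 LD3_c52)) = (LP (LK LD1_c8 LD2_c40 LD3_c16)) :=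
  Lgr Lrot31 (Lpr_gf (K19.f239121 IH) (Lpe (f337305 IH) (Lpr_ft (f337315 IH) (Lpn (LP (LK LD1_c8 LD2_c40 LD3_c16))))))
theorem f337348 : Led Lsl_ft (LP (LK LD1_c9 LD2_c34 LD3_c52)) = (LP (LK LD1_c15 LD2_c49 LD3_c6)) :=
  Lgr Lrot101 (Lpr_af (f337331 IH) (Lpe (f337315 IH) (Lpr_af (f337342 IH) (Lpn (LP (LK LD1_c15 LD2_c49 LD3_c6))))))
theorem f235743 : Led Lsl_ft (LP (LK LD1_c9 LD2_c34 LD3_c54)) = (LP (LK LD1_c4 LD2_c51 LD3_c25)) :=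
  Lre_f IH (LK LD1_c9 LD2_c34 LD3_c54) (LK LD1_c4 LD2_c51 LD3_c25) Lrfl Lrfl
theorem f337350 : Led Lsl_cf (LP (LK LD1_c9 LD2_c34 LD3_c54)) = (LP (LK LD1_c15 LD2_c49 LD3_c6)) :=
  Lgr Lrot108 (Lpr_ft (f235743 IH) (Lpr_ct (K19.f235732 IH) (Lpr_ft (f337348 IH) (Lpn (LP (LK LD1_c15 LD2_c49 LD3_c6))))))
theorem f324458 : Led Lsl_ct (LP (LK LD1_c16 LD2_c50 LD3_c30)) = (LP (LK LD1_c10 LD2_c15 LD3_c61)) :=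
  Lgr Lrot15 (Lpr_ef (K21.f324452 IH) (Lpe (K20.f293330 IH) (Lpe (K21.f171687 IH) (Lpn (LP (LK LD1_c10 LD2_c15 LD3_c61))))))
theorem f337362 : Led Lsl_gt (LP (LK LD1_c11 LD2_c3 LD3_c7)) = (LP (LK LD1_c16 LD2_c50 LD3_c30)) :=
  Lgr Lrot150 (Lpe (f189413 IH) (Lpe (K14.f189412 IH) (Lpr_df (K13.f189404 IH) (Lpr_gt (K20.f315817 IH) (Lpr_ct (K20.f305053 IH) (Lpr_gt (f337360 IH) (Lpe (f337350 IH) (Lpe (K21.f328652 IH) (Lpe (f324458 IH) (Lpn (LP (LK LD1_c16 LD2_c50 LD3_c30))))))))))))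
theorem f247107 : Led Lsl_ct (LP (LK LD1_c11 LD2_c3 LD3_c7)) = (LP (LK LD1_c5 LD2_c35 LD3_c28)) :=
  Lre_c IH (LK LD1_c11 LD2_c3 LD3_c7) (LK LD1_c5 LD2_c35 LD3_c28) Lrfl Lrfl
theorem f182599 : Led Lsl_gt (LP (LK LD1_c25 LD2_c23 LD3_c17)) = (LP (LK LD1_c15 LD2_c30 LD3_c0)) :=
  Lre_g IH (LK LD1_c25 LD2_c23 LD3_c17) (LK LD1_c15 LD2_c30 LD3_c0) Lrfl Lrfl
theorem f337364 : Led Lsl_df (LP (LK LD1_c25 LD2_c23 LD3_c17)) = (LP (LK LD1_c16 LD2_c50 LD3_c30)) :=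
  Lgr Lrot153 (Lpr_gt (f182599 IH) (Lpr_dt (K20.f195545 IH) (Lpe (K20.f195464 IH) (Lpr_df (K19.f314649 IH) (Lpe (K20.f317261 IH) (Lpe (K15.f238157 IH) (Lpr_gf (K20.f317265 IH) (Lpe (f247107 IH) (Lpr_gt (f337362 IH) (Lpn (LP (LK LD1_c16 LD2_c50 LD3_c30))))))))))))
theorem f235919 : Led Lsl_ft (LP (LK LD1_c9 LD2_c0 LD3_c46)) = (LP (LK LD1_c16 LD2_c50 LD3_c30)) :=
  Lre_f IH (LK LD1_c9 LD2_c0 LD3_c46) (LK LD1_c16 LD2_c50 LD3_c30) Lrfl Lrfl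
theorem f337380 : Led Lsl_ft (LP (LK LD1_c25 LD2_c23 LD3_c17)) = (LP (LK LD1_c16 LD2_c50 LD3_c29)) :=
  Lgr Lrot54 (Lpr_df (f337364 IH) (Lpe (f235919 IH) (Lpe (K14.f235920 IH) (Lpn (LP (LK LD1_c16 LD2_c50 LD3_c29))))))
theorem f337383 : Led Lsl_ff (LP (LK LD1_c25 LD2_c23 LD3_c17)) = (LP (LK LD1_c16 LD2_c50 LD3_c29)) :=
  Lgr Lrot3 (Lpr_ft (f337380 IH) (Lpn (LP (LK LD1_c16 LD2_c50 LD3_c29))))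
theorem f322815 : Led Lsl_at (LP (LK LD1_c10 LD2_c15 LD3_c59)) = (LP (LK LD1_c11 LD2_c57 LD3_c19)) :=
  Lgr Lrot66 (Lpr_ff (K21.f320789 IH) (Lpr_af (K20.f320891 IH) (Lpr_ff (K20.f322809 IH) (Lpn (LP (LK LD1_c11 LD2_c57 LD3_c19))))))
theorem f235895 : Led Lsl_bt (LP (LK LD1_c26 LD2_c47 LD3_c56)) = (LP (LK LD1_c16 LD2_c50 LD3_c30)) :=
  Lre_b IH (LK LD1_c26 LD2_c47 LD3_c56) (LK LD1_c16 LD2_c50 LD3_c30) Lrfl Lrfl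
theorem f293332 : Led Lsl_bt (LP (LK LD1_c10 LD2_c15 LD3_c59)) = (LP (LK LD1_c18 LD2_c40 LD3_c26)) :=
  Lre_b IH (LK LD1_c10 LD2_c15 LD3_c59) (LK LD1_c18 LD2_c40 LD3_c26) Lrfl Lrfl
theorem f324446 : Led Lsl_et (LP (LK LD1_c16 LD2_c50 LD3_c30)) = (LP (LK LD1_c10 LD2_c15 LD3_c59)) :=
  Lgr Lrot74 (Lpe (f235895 IH) (Lpr_ef (K21.f324442 IH) (Lpe (f293332 IH) (Lpn (LP (LK LD1_c10 LD2_c15 LD3_c59))))))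
theorem f324564 : Led Lsl_af (LP (LK LD1_c16 LD2_c50 LD3_c30)) = (LP (LK LD1_c11 LD2_c3 LD3_c33)) :=
  Lgr Lrot50 (Lpr_et (f324446 IH) (Lpr_at (f322815 IH) (Lpr_et (K21.f324562 IH) (Lpn (LP (LK LD1_c11 LD2_c3 LD3_c33))))))
theorem f324587 : Led Lsl_dt (LP (LK LD1_c19 LD2_c55 LD3_c46)) = (LP (LK LD1_c11 LD2_c3 LD3_c33)) :=
  Lre_d IH (LK LD1_c19 LD2_c55 LD3_c46) (LK LD1_c11 LD2_c3 LD3_c33) Lrfl Lrfl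
theorem f337376 : Led Lsl_at (LP (LK LD1_c25 LD2_c23 LD3_c17)) = (LP (LK LD1_c19 LD2_c55 LD3_c46)) :=
  Lgr Lrot51 (Lpr_df (f337364 IH) (Lpr_af (f324564 IH) (Lpe (f324587 IH) (Lpn (LP (LK LD1_c19 LD2_c55 LD3_c46))))))
theorem f324610 : Led Lsl_ft (LP (LK LD1_c19 LD2_c55 LD3_c46)) = (LP (LK LD1_c11 LD2_c3 LD3_c32)) :=
  Lre_f IH (LK LD1_c19 LD2_c55 LD3_c46) (LK LD1_c11 LD2_c3 LD3_c32) Lrfl Lrfl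
theorem f337385 : Led Lsl_at (LP (LK LD1_c11 LD2_c3 LD3_c32)) = (LP (LK LD1_c16 LD2_c50 LD3_c29)) :=
  Lgr Lrot66 (Lpe (f324610 IH) (Lpe (f337376 IH) (Lpr_ff (f337383 IH) (Lpn (LP (LK LD1_c16 LD2_c50 LD3_c29))))))
theorem f337395 : Led Lsl_et (LP (LK LD1_c19 LD2_c55 LD3_c42)) = (LP (LK LD1_c11 LD2_c3 LD3_c32)) :=
  Lre_e IH (LK LD1_c19 LD2_c55 LD3_c42) (LK LD1_c11 LD2_c3 LD3_c32) Lrfl Lrfl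
theorem f326439 : Led Lsl_et (LP (LK LD1_c16 LD2_c50 LD3_c29)) = (LP (LK LD1_c26 LD2_c47 LD3_c59)) :=
  Lre_e IH (LK LD1_c16 LD2_c50 LD3_c29) (LK LD1_c26 LD2_c47 LD3_c59) Lrfl Lrfl
theorem f337396 : Led Lsl_af (LP (LK LD1_c19 LD2_c55 LD3_c42)) = (LP (LK LD1_c26 LD2_c47 LD3_c59)) :=
  Lgr Lrot50 (Lpr_et (f337395 IH) (Lpr_at (f337385 IH) (Lpr_et (f326439 IH) (Lpn (LP (LK LD1_c26 LD2_c47 LD3_c59))))))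
theorem f324523 : Led Lsl_ft (LP (LK LD1_c19 LD2_c55 LD3_c42)) = (LP (LK LD1_c29 LD2_c11 LD3_c35)) :=
  Lre_f IH (LK LD1_c19 LD2_c55 LD3_c42) (LK LD1_c29 LD2_c11 LD3_c35) Lrfl Lrfl
theorem f317010 : Led Lsl_ft (LP (LK LD1_c32 LD2_c16 LD3_c19)) = (LP (LK LD1_c26 LD2_c47 LD3_c59)) :=
  Lre_f IH (LK LD1_c32 LD2_c16 LD3_c19) (LK LD1_c26 LD2_c47 LD3_c59) Lrfl Lrfl
theorem f337423 : Led Lsl_at (LP (LK LD1_c29 LD2_c11 LD3_c35)) = (LP (LK LD1_c32 LD2_c16 LD3_c19)) :=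
  Lgr Lrot66 (Lpe (f324523 IH) (Lpr_af (f337396 IH) (Lpe (f317010 IH) (Lpn (LP (LK LD1_c32 LD2_c16 LD3_c19))))))
theorem f324497 : Led Lsl_dt (LP (LK LD1_c19 LD2_c55 LD3_c43)) = (LP (LK LD1_c29 LD2_c11 LD3_c35)) :=
  Lre_d IH (LK LD1_c19 LD2_c55 LD3_c43) (LK LD1_c29 LD2_c11 LD3_c35) Lrfl Lrfl
theorem f317007 : Led Lsl_dt (LP (LK LD1_c32 LD2_c16 LD3_c19)) = (LP (LK LD1_c26 LD2_c47 LD3_c60)) :=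
  Lre_d IH (LK LD1_c32 LD2_c16 LD3_c19) (LK LD1_c26 LD2_c47 LD3_c60) Lrfl Lrfl
theorem f337429 : Led Lsl_af (LP (LK LD1_c19 LD2_c55 LD3_c43)) = (LP (LK LD1_c26 LD2_c47 LD3_c60)) :=
  Lgr Lrot117 (Lpr_dt (f324497 IH) (Lpr_at (f337423 IH) (Lpr_dt (f317007 IH) (Lpn (LP (LK LD1_c26 LD2_c47 LD3_c60))))))
theorem f293492 : Led Lsl_et (LP (LK LD1_c9 LD2_c0 LD3_c42)) = (LP (LK LD1_c16 LD2_c50 LD3_c21)) :=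
  Lre_e IH (LK LD1_c9 LD2_c0 LD3_c42) (LK LD1_c16 LD2_c50 LD3_c21) Lrfl Lrfl
theorem f293471 : Led Lsl_ft (LP (LK LD1_c16 LD2_c50 LD3_c21)) = (LP (LK LD1_c26 LD2_c47 LD3_c47)) :=
  Lre_f IH (LK LD1_c16 LD2_c50 LD3_c21) (LK LD1_c26 LD2_c47 LD3_c47) Lrfl Lrfl
theorem f316768 : Led Lsl_et (LP (LK LD1_c11 LD2_c3 LD3_c31)) = (LP (LK LD1_c5 LD2_c35 LD3_c39)) :=
  Lre_e IH (LK LD1_c11 LD2_c3 LD3_c31) (LK LD1_c5 LD2_c35 LD3_c39) Lrfl Lrfl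
theorem f324493 : Led Lsl_ft (LP (LK LD1_c19 LD2_c55 LD3_c43)) = (LP (LK LD1_c11 LD2_c3 LD3_c31)) :=
  Lre_f IH (LK LD1_c19 LD2_c55 LD3_c43) (LK LD1_c11 LD2_c3 LD3_c31) Lrfl Lrfl
theorem f324494 : Led Lsl_et (LP (LK LD1_c26 LD2_c47 LD3_c47)) = (LP (LK LD1_c19 LD2_c55 LD3_c43)) :=
  Lgr Lrot69 (Lpe (f293471 IH) (Lpe (f293492 IH) (Lpr_ff (K21.f324485 IH) (Lpe (f316768 IH) (Lpe (f324493 IH) (Lpn (LP (LK LD1_c19 LD2_c55 LD3_c43))))))))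
theorem f324498 : Led Lsl_ef (LP (LK LD1_c26 LD2_c47 LD3_c47)) = (LP (LK LD1_c19 LD2_c55 LD3_c43)) :=
  Lgr Lrot88 (Lpr_et (f324494 IH) (Lpn (LP (LK LD1_c19 LD2_c55 LD3_c43))))
theorem f293438 : Led Lsl_et (LP (LK LD1_c9 LD2_c0 LD3_c37)) = (LP (LK LD1_c16 LD2_c50 LD3_c9)) :=
  Lre_e IH (LK LD1_c9 LD2_c0 LD3_c37) (LK LD1_c16 LD2_c50 LD3_c9) Lrfl Lrfl
theorem f293462 : Led Lsl_et (LP (LK LD1_c16 LD2_c50 LD3_c21)) = (LP (LK LD1_c9 LD2_c0 LD3_c42)) :=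
  Lre_e IH (LK LD1_c16 LD2_c50 LD3_c21) (LK LD1_c9 LD2_c0 LD3_c42) Lrfl Lrfl
theorem f293463 : Led Lsl_ct (LP (LK LD1_c16 LD2_c50 LD3_c9)) = (LP (LK LD1_c16 LD2_c50 LD3_c21)) :=
  Lgr Lrot15 (Lpe (f293438 IH) (Lpr_cf (K20.f293426 IH) (Lpe (f293462 IH) (Lpn (LP (LK LD1_c16 LD2_c50 LD3_c21))))))
theorem f293470 : Led Lsl_ft (LP (LK LD1_c26 LD2_c47 LD3_c31)) = (LP (LK LD1_c16 LD2_c50 LD3_c9)) :=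
  Lre_f IH (LK LD1_c26 LD2_c47 LD3_c31) (LK LD1_c16 LD2_c50 LD3_c9) Lrfl Lrfl
theorem f293472 : Led Lsl_cf (LP (LK LD1_c26 LD2_c47 LD3_c31)) = (LP (LK LD1_c26 LD2_c47 LD3_c47)) :=
  Lgr Lrot108 (Lpr_ft (f293470 IH) (Lpr_ct (f293463 IH) (Lpr_ft (f293471 IH) (Lpn (LP (LK LD1_c26 LD2_c47 LD3_c47))))))
theorem f316718 : Led Lsl_et (LP (LK LD1_c11 LD2_c3 LD3_c20)) = (LP (LK LD1_c5 LD2_c35 LD3_c34)) :=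
  Lre_e IH (LK LD1_c11 LD2_c3 LD3_c20) (LK LD1_c5 LD2_c35 LD3_c34) Lrfl Lrfl
theorem f317149 : Led Lsl_ft (LP (LK LD1_c19 LD2_c55 LD3_c13)) = (LP (LK LD1_c11 LD2_c3 LD3_c20)) :=
  Lre_f IH (LK LD1_c19 LD2_c55 LD3_c13) (LK LD1_c11 LD2_c3 LD3_c20) Lrfl Lrfl
theorem f317150 : Led Lsl_et (LP (LK LD1_c26 LD2_c47 LD3_c31)) = (LP (LK LD1_c19 LD2_c55 LD3_c13)) :=
  Lgr Lrot69 (Lpe (K20.f293487 IH) (Lpe (f293438 IH) (Lpr_ff (K20.f317135 IH) (Lpe (f316718 IH) (Lpe (f317149 IH) (Lpn (LP (LK LD1_c19 LD2_c55 LD3_c13))))))))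
theorem f324501 : Led Lsl_ct (LP (LK LD1_c19 LD2_c55 LD3_c13)) = (LP (LK LD1_c19 LD2_c55 LD3_c43)) :=
  Lgr Lrot15 (Lpe (f317150 IH) (Lpr_cf (f293472 IH) (Lpr_ef (f324498 IH) (Lpn (LP (LK LD1_c19 LD2_c55 LD3_c43))))))
theorem f324506 : Led Lsl_cf (LP (LK LD1_c19 LD2_c55 LD3_c13)) = (LP (LK LD1_c19 LD2_c55 LD3_c43)) :=
  Lgr Lrot11 (Lpr_ct (f324501 IH) (Lpn (LP (LK LD1_c19 LD2_c55 LD3_c43))))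
theorem f316992 : Led Lsl_et (LP (LK LD1_c9 LD2_c0 LD3_c45)) = (LP (LK LD1_c16 LD2_c50 LD3_c28)) :=
  Lre_e IH (LK LD1_c9 LD2_c0 LD3_c45) (LK LD1_c16 LD2_c50 LD3_c28) Lrfl Lrfl
theorem f316723 : Led Lsl_et (LP (LK LD1_c16 LD2_c49 LD3_c61)) = (LP (LK LD1_c9 LD2_c0 LD3_c33)) :=
  Lre_e IH (LK LD1_c16 LD2_c49 LD3_c61) (LK LD1_c9 LD2_c0 LD3_c33) Lrfl Lrfl
theorem f316993 : Led Lsl_ct (LP (LK LD1_c16 LD2_c50 LD3_c28)) = (LP (LK LD1_c16 LD2_c49 LD3_c61)) :=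
  Lgr Lrot15 (Lpe (f316992 IH) (Lpr_cf (f316885 IH) (Lpe (f316723 IH) (Lpn (LP (LK LD1_c16 LD2_c49 LD3_c61))))))
theorem f316998 : Led Lsl_ft (LP (LK LD1_c26 LD2_c47 LD3_c60)) = (LP (LK LD1_c16 LD2_c50 LD3_c28)) :=
  Lre_f IH (LK LD1_c26 LD2_c47 LD3_c60) (LK LD1_c16 LD2_c50 LD3_c28) Lrfl Lrfl
theorem f316999 : Led Lsl_ft (LP (LK LD1_c16 LD2_c49 LD3_c61)) = (LP (LK LD1_c26 LD2_c47 LD3_c13)) :=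
  Lre_f IH (LK LD1_c16 LD2_c49 LD3_c61) (LK LD1_c26 LD2_c47 LD3_c13) Lrfl Lrfl
theorem f317000 : Led Lsl_cf (LP (LK LD1_c26 LD2_c47 LD3_c60)) = (LP (LK LD1_c26 LD2_c47 LD3_c13)) :=
  Lgr Lrot108 (Lpr_ft (f316998 IH) (Lpr_ct (f316993 IH) (Lpr_ft (f316999 IH) (Lpn (LP (LK LD1_c26 LD2_c47 LD3_c13))))))
theorem f337435 : Led Lsl_at (LP (LK LD1_c19 LD2_c55 LD3_c13)) = (LP (LK LD1_c26 LD2_c47 LD3_c13)) :=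
  Lgr Lrot107 (Lpr_cf (f324506 IH) (Lpr_af (f337429 IH) (Lpr_cf (f317000 IH) (Lpn (LP (LK LD1_c26 LD2_c47 LD3_c13))))))
theorem f324510 : Led Lsl_ft (LP (LK LD1_c11 LD2_c3 LD3_c20)) = (LP (LK LD1_c19 LD2_c55 LD3_c13)) :=
  Lre_f IH (LK LD1_c11 LD2_c3 LD3_c20) (LK LD1_c19 LD2_c55 LD3_c13) Lrfl Lrfl
theorem f317009 : Led Lsl_ft (LP (LK LD1_c26 LD2_c47 LD3_c13)) = (LP (LK LD1_c16 LD2_c49 LD3_c61)) :=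
  Lre_f IH (LK LD1_c26 LD2_c47 LD3_c13) (LK LD1_c16 LD2_c49 LD3_c61) Lrfl Lrfl
theorem f337443 : Led Lsl_af (LP (LK LD1_c11 LD2_c3 LD3_c20)) = (LP (LK LD1_c16 LD2_c49 LD3_c61)) :=
  Lgr Lrot45 (Lpr_ft (f324510 IH) (Lpr_at (f337435 IH) (Lpr_ft (f317009 IH) (Lpn (LP (LK LD1_c16 LD2_c49 LD3_c61))))))
theorem f187054 : Led Lsl_et (LP (LK LD1_c9 LD2_c0 LD3_c33)) = (LP (LK LD1_c16 LD2_c49 LD3_c61)) :=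
  Lre_e IH (LK LD1_c9 LD2_c0 LD3_c33) (LK LD1_c16 LD2_c49 LD3_c61) Lrfl Lrfl
theorem f337453 : Led Lsl_at (LP (LK LD1_c5 LD2_c35 LD3_c34)) = (LP (LK LD1_c9 LD2_c0 LD3_c33)) :=
  Lgr Lrot80 (Lpe (f316718 IH) (Lpr_af (f337443 IH) (Lpe (f187054 IH) (Lpn (LP (LK LD1_c9 LD2_c0 LD3_c33))))))
theorem f317152 : Led Lsl_ft (LP (LK LD1_c9 LD2_c0 LD3_c37)) = (LP (LK LD1_c5 LD2_c35 LD3_c34)) :=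
  Lgr Lrot48 (Lpr_ff (K20.f317135 IH) (Lpn (LP (LK LD1_c5 LD2_c35 LD3_c34))))
theorem f317156 : Led Lsl_af (LP (LK LD1_c9 LD2_c0 LD3_c37)) = (LP (LK LD1_c5 LD2_c35 LD3_c26)) :=
  Lgr Lrot0 (Lpr_at (K20.f317154 IH) (Lpn (LP (LK LD1_c5 LD2_c35 LD3_c26))))
theorem f337458 : Led Lsl_ff (LP (LK LD1_c5 LD2_c35 LD3_c26)) = (LP (LK LD1_c9 LD2_c0 LD3_c33)) :=
  Lgr Lrot30 (Lpe (f317156 IH) (Lpr_ft (f317152 IH) (Lpr_at (f337453 IH) (Lpn (LP (LK LD1_c9 LD2_c0 LD3_c33))))))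
theorem f337466 : Led Lsl_ft (LP (LK LD1_c5 LD2_c35 LD3_c26)) = (LP (LK LD1_c9 LD2_c0 LD3_c33)) :=
  Lgr Lrot48 (Lpr_ff (f337458 IH) (Lpn (LP (LK LD1_c9 LD2_c0 LD3_c33))))
theorem f337470 : Led Lsl_ff (LP (LK LD1_c5 LD2_c35 LD3_c42)) = (LP (LK LD1_c9 LD2_c0 LD3_c45)) :=
  Lgr Lrot23 (Lpe (K19.f279542 IH) (Lpr_ft (f337466 IH) (Lpe (f316885 IH) (Lpn (LP (LK LD1_c9 LD2_c0 LD3_c45))))))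
theorem f279544 : Led Lsl_bt (LP (LK LD1_c5 LD2_c35 LD3_c42)) = (LP (LK LD1_c11 LD2_c3 LD3_c37)) :=
  Lre_b IH (LK LD1_c5 LD2_c35 LD3_c42) (LK LD1_c11 LD2_c3 LD3_c37) Lrfl Lrfl
theorem f316876 : Led Lsl_bt (LP (LK LD1_c16 LD2_c50 LD3_c26)) = (LP (LK LD1_c9 LD2_c0 LD3_c45)) :=
  Lre_b IH (LK LD1_c16 LD2_c50 LD3_c26) (LK LD1_c9 LD2_c0 LD3_c45) Lrfl Lrfl
theorem f337472 : Led Lsl_ft (LP (LK LD1_c11 LD2_c3 LD3_c37)) = (LP (LK LD1_c16 LD2_c50 LD3_c26)) :=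
  Lgr Lrot75 (Lpe (f279544 IH) (Lpr_ff (f337470 IH) (Lpe (f316876 IH) (Lpn (LP (LK LD1_c16 LD2_c50 LD3_c26))))))
theorem f337493 : Led Lsl_ff (LP (LK LD1_c11 LD2_c3 LD3_c37)) = (LP (LK LD1_c16 LD2_c50 LD3_c26)) :=
  Lgr Lrot3 (Lpr_ft (f337472 IH) (Lpn (LP (LK LD1_c16 LD2_c50 LD3_c26))))
theorem f324480 : Led Lsl_at (LP (LK LD1_c11 LD2_c3 LD3_c37)) = (LP (LK LD1_c19 LD2_c55 LD3_c51)) :=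
  Lre_a IH (LK LD1_c11 LD2_c3 LD3_c37) (LK LD1_c19 LD2_c55 LD3_c51) Lrfl Lrfl
theorem f337499 : Led Lsl_at (LP (LK LD1_c26 LD2_c47 LD3_c51)) = (LP (LK LD1_c16 LD2_c50 LD3_c26)) :=
  Lre_a IH (LK LD1_c26 LD2_c47 LD3_c51) (LK LD1_c16 LD2_c50 LD3_c26) Lrfl Lrfl
theorem f337500 : Led Lsl_ft (LP (LK LD1_c19 LD2_c55 LD3_c51)) = (LP (LK LD1_c26 LD2_c47 LD3_c51)) :=
  Lgr Lrot101 (Lpe (f324480 IH) (Lpr_ff (f337493 IH) (Lpe (f337499 IH) (Lpn (LP (LK LD1_c26 LD2_c47 LD3_c51))))))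
theorem f178034 : Led Lsl_dt (LP (LK LD1_c11 LD2_c3 LD3_c36)) = (LP (LK LD1_c19 LD2_c55 LD3_c51)) :=
  Lre_d IH (LK LD1_c11 LD2_c3 LD3_c36) (LK LD1_c19 LD2_c55 LD3_c51) Lrfl Lrfl
theorem f235983 : Led Lsl_dt (LP (LK LD1_c26 LD2_c47 LD3_c51)) = (LP (LK LD1_c16 LD2_c50 LD3_c25)) :=
  Lre_d IH (LK LD1_c26 LD2_c47 LD3_c51) (LK LD1_c16 LD2_c50 LD3_c25) Lrfl Lrfl
theorem f337506 : Led Lsl_ff (LP (LK LD1_c11 LD2_c3 LD3_c36)) = (LP (LK LD1_c16 LD2_c50 LD3_c25)) :=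
  Lgr Lrot19 (Lpr_dt (f178034 IH) (Lpr_ft (f337500 IH) (Lpr_dt (f235983 IH) (Lpn (LP (LK LD1_c16 LD2_c50 LD3_c25))))))
theorem f337511 : Led Lsl_ft (LP (LK LD1_c11 LD2_c3 LD3_c36)) = (LP (LK LD1_c16 LD2_c50 LD3_c25)) :=
  Lgr Lrot48 (Lpr_ff (f337506 IH) (Lpn (LP (LK LD1_c16 LD2_c50 LD3_c25))))
theorem f177961 : Led Lsl_bt (LP (LK LD1_c4 LD2_c29 LD3_c5)) = (LP (LK LD1_c8 LD2_c56 LD3_c26)) :=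
  Lre_b IH (LK LD1_c4 LD2_c29 LD3_c5) (LK LD1_c8 LD2_c56 LD3_c26) Lrfl Lrfl
theorem f177962 : Led Lsl_bt (LP (LK LD1_c5 LD2_c35 LD3_c41)) = (LP (LK LD1_c2 LD2_c43 LD3_c46)) :=
  Lre_b IH (LK LD1_c5 LD2_c35 LD3_c41) (LK LD1_c2 LD2_c43 LD3_c46) Lrfl Lrfl
theorem f177963 : Led Lsl_ct (LP (LK LD1_c8 LD2_c56 LD3_c26)) = (LP (LK LD1_c5 LD2_c35 LD3_c41)) :=
  Lgr Lrot83 (Lpe (f177961 IH) (Lpe (K16.f177927 IH) (Lpe (K16.f177933 IH) (Lpr_cf (K16.f177948 IH) (Lpe (f177962 IH) (Lpn (LP (LK LD1_c5 LD2_c35 LD3_c41))))))))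
theorem f177976 : Led Lsl_et (LP (LK LD1_c16 LD2_c44 LD3_c11)) = (LP (LK LD1_c8 LD2_c56 LD3_c26)) :=
  Lre_e IH (LK LD1_c16 LD2_c44 LD3_c11) (LK LD1_c8 LD2_c56 LD3_c26) Lrfl Lrfl
theorem f177977 : Led Lsl_et (LP (LK LD1_c5 LD2_c35 LD3_c41)) = (LP (LK LD1_c11 LD2_c3 LD3_c38)) :=
  Lre_e IH (LK LD1_c5 LD2_c35 LD3_c41) (LK LD1_c11 LD2_c3 LD3_c38) Lrfl Lrfl
theorem f177978 : Led Lsl_cf (LP (LK LD1_c16 LD2_c44 LD3_c11)) = (LP (LK LD1_c11 LD2_c3 LD3_c38)) :=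
  Lgr Lrot39 (Lpr_et (f177976 IH) (Lpr_ct (f177963 IH) (Lpr_et (f177977 IH) (Lpn (LP (LK LD1_c11 LD2_c3 LD3_c38))))))
theorem f177996 : Led Lsl_ct (LP (LK LD1_c16 LD2_c44 LD3_c11)) = (LP (LK LD1_c11 LD2_c3 LD3_c38)) :=
  Lgr Lrot59 (Lpr_cf (f177978 IH) (Lpn (LP (LK LD1_c11 LD2_c3 LD3_c38))))
theorem f178002 : Led Lsl_at (LP (LK LD1_c26 LD2_c42 LD3_c51)) = (LP (LK LD1_c16 LD2_c44 LD3_c11)) :=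
  Lre_a IH (LK LD1_c26 LD2_c42 LD3_c51) (LK LD1_c16 LD2_c44 LD3_c11) Lrfl Lrfl
theorem f178014 : Led Lsl_at (LP (LK LD1_c11 LD2_c3 LD3_c38)) = (LP (LK LD1_c19 LD2_c55 LD3_c52)) :=
  Lre_a IH (LK LD1_c11 LD2_c3 LD3_c38) (LK LD1_c19 LD2_c55 LD3_c52) Lrfl Lrfl
theorem f178015 : Led Lsl_cf (LP (LK LD1_c26 LD2_c42 LD3_c51)) = (LP (LK LD1_c19 LD2_c55 LD3_c52)) :=
  Lgr Lrot1 (Lpr_at (f178002 IH) (Lpr_ct (f177996 IH) (Lpr_at (f178014 IH) (Lpn (LP (LK LD1_c19 LD2_c55 LD3_c52))))))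
theorem f178027 : Led Lsl_et (LP (LK LD1_c26 LD2_c42 LD3_c51)) = (LP (LK LD1_c16 LD2_c44 LD3_c9)) :=
  Lre_e IH (LK LD1_c26 LD2_c42 LD3_c51) (LK LD1_c16 LD2_c44 LD3_c9) Lrfl Lrfl
theorem f178028 : Led Lsl_et (LP (LK LD1_c11 LD2_c3 LD3_c36)) = (LP (LK LD1_c19 LD2_c55 LD3_c52)) :=
  Lre_e IH (LK LD1_c11 LD2_c3 LD3_c36) (LK LD1_c19 LD2_c55 LD3_c52) Lrfl Lrfl
theorem f178029 : Led Lsl_ct (LP (LK LD1_c16 LD2_c44 LD3_c9)) = (LP (LK LD1_c11 LD2_c3 LD3_c36)) :=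
  Lgr Lrot15 (Lpe (f178027 IH) (Lpr_cf (f178015 IH) (Lpe (f178028 IH) (Lpn (LP (LK LD1_c11 LD2_c3 LD3_c36))))))
theorem f235901 : Led Lsl_at (LP (LK LD1_c10 LD2_c46 LD3_c21)) = (LP (LK LD1_c19 LD2_c28 LD3_c52)) :=
  Lre_a IH (LK LD1_c10 LD2_c46 LD3_c21) (LK LD1_c19 LD2_c28 LD3_c52) Lrfl Lrfl
theorem f235879 : Led Lsl_at (LP (LK LD1_c26 LD2_c47 LD3_c52)) = (LP (LK LD1_c16 LD2_c50 LD3_c27)) :=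
  Lre_a IH (LK LD1_c26 LD2_c47 LD3_c52) (LK LD1_c16 LD2_c50 LD3_c27) Lrfl Lrfl
theorem f235902 : Led Lsl_ct (LP (LK LD1_c19 LD2_c28 LD3_c52)) = (LP (LK LD1_c26 LD2_c47 LD3_c52)) :=
  Lgr Lrot111 (Lpe (f235901 IH) (Lpr_cf (K14.f235870 IH) (Lpe (f235879 IH) (Lpn (LP (LK LD1_c26 LD2_c47 LD3_c52))))))
theorem f235974 : Led Lsl_et (LP (LK LD1_c10 LD2_c46 LD3_c19)) = (LP (LK LD1_c19 LD2_c28 LD3_c52)) :=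
  Lre_e IH (LK LD1_c10 LD2_c46 LD3_c19) (LK LD1_c19 LD2_c28 LD3_c52) Lrfl Lrfl
theorem f235975 : Led Lsl_et (LP (LK LD1_c26 LD2_c47 LD3_c52)) = (LP (LK LD1_c16 LD2_c50 LD3_c25)) :=
  Lre_e IH (LK LD1_c26 LD2_c47 LD3_c52) (LK LD1_c16 LD2_c50 LD3_c25) Lrfl Lrfl
theorem f235976 : Led Lsl_cf (LP (LK LD1_c10 LD2_c46 LD3_c19)) = (LP (LK LD1_c16 LD2_c50 LD3_c25)) :=
  Lgr Lrot39 (Lpr_et (f235974 IH) (Lpr_ct (f235902 IH) (Lpr_et (f235975 IH) (Lpn (LP (LK LD1_c16 LD2_c50 LD3_c25))))))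
theorem f337515 : Led Lsl_ff (LP (LK LD1_c16 LD2_c44 LD3_c9)) = (LP (LK LD1_c10 LD2_c46 LD3_c19)) :=
  Lgr Lrot23 (Lpr_ct (f178029 IH) (Lpr_ft (f337511 IH) (Lpe (f235976 IH) (Lpn (LP (LK LD1_c10 LD2_c46 LD3_c19))))))
theorem f178040 : Led Lsl_et (LP (LK LD1_c16 LD2_c44 LD3_c9)) = (LP (LK LD1_c26 LD2_c42 LD3_c51)) :=
  Lre_e IH (LK LD1_c16 LD2_c44 LD3_c9) (LK LD1_c26 LD2_c42 LD3_c51) Lrfl Lrfl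
theorem f235989 : Led Lsl_et (LP (LK LD1_c19 LD2_c28 LD3_c52)) = (LP (LK LD1_c10 LD2_c46 LD3_c19)) :=
  Lre_e IH (LK LD1_c19 LD2_c28 LD3_c52) (LK LD1_c10 LD2_c46 LD3_c19) Lrfl Lrfl
theorem f235911 : Led Lsl_ft (LP (LK LD1_c28 LD2_c50 LD3_c61)) = (LP (LK LD1_c19 LD2_c28 LD3_c52)) :=
  Lre_f IH (LK LD1_c28 LD2_c50 LD3_c61) (LK LD1_c19 LD2_c28 LD3_c52) Lrfl Lrfl
theorem f337526 : Led Lsl_ft (LP (LK LD1_c26 LD2_c42 LD3_c51)) = (LP (LK LD1_c29 LD2_c48 LD3_c26)) :=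
  Lgr Lrot86 (Lpe (f178040 IH) (Lpr_ff (f337515 IH) (Lpe (f235989 IH) (Lpe (f235911 IH) (Lpr_ef (K21.f324419 IH) (Lpn (LP (LK LD1_c29 LD2_c48 LD3_c26))))))))
theorem f337540 : Led Lsl_ff (LP (LK LD1_c26 LD2_c42 LD3_c51)) = (LP (LK LD1_c29 LD2_c48 LD3_c26)) :=
  Lgr Lrot3 (Lpr_ft (f337526 IH) (Lpn (LP (LK LD1_c29 LD2_c48 LD3_c26))))
theorem f178025 : Led Lsl_dt (LP (LK LD1_c26 LD2_c42 LD3_c51)) = (LP (LK LD1_c32 LD2_c14 LD3_c47)) :=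
  Lre_d IH (LK LD1_c26 LD2_c42 LD3_c51) (LK LD1_c32 LD2_c14 LD3_c47) Lrfl Lrfl
theorem f317848 : Led Lsl_dt (LP (LK LD1_c32 LD2_c48 LD3_c4)) = (LP (LK LD1_c29 LD2_c48 LD3_c26)) :=
  Lre_d IH (LK LD1_c32 LD2_c48 LD3_c4) (LK LD1_c29 LD2_c48 LD3_c26) Lrfl Lrfl
theorem f337546 : Led Lsl_ft (LP (LK LD1_c32 LD2_c14 LD3_c47)) = (LP (LK LD1_c32 LD2_c48 LD3_c4)) :=
  Lgr Lrot54 (Lpe (f178025 IH) (Lpr_ff (f337540 IH) (Lpe (f317848 IH) (Lpn (LP (LK LD1_c32 LD2_c48 LD3_c4))))))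
theorem f317834 : Led Lsl_ft (LP (LK LD1_c32 LD2_c39 LD3_c37)) = (LP (LK LD1_c28 LD2_c51 LD3_c41)) :=
  Lre_f IH (LK LD1_c32 LD2_c39 LD3_c37) (LK LD1_c28 LD2_c51 LD3_c41) Lrfl Lrfl
theorem f337553 : Led Lsl_bf (LP (LK LD1_c32 LD2_c14 LD3_c47)) = (LP (LK LD1_c28 LD2_c51 LD3_c41)) :=
  Lgr Lrot61 (Lpr_ft (f337546 IH) (Lpe (K21.f317807 IH) (Lpr_ft (f317834 IH) (Lpn (LP (LK LD1_c28 LD2_c51 LD3_c41))))))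
theorem f337555 : Led Lsl_at (LP (LK LD1_c32 LD2_c14 LD3_c47)) = (LP (LK LD1_c26 LD2_c42 LD3_c56)) :=
  Lre_a IH (LK LD1_c32 LD2_c14 LD3_c47) (LK LD1_c26 LD2_c42 LD3_c56) Lrfl Lrfl
theorem f337556 : Led Lsl_bt (LP (LK LD1_c26 LD2_c42 LD3_c56)) = (LP (LK LD1_c16 LD2_c44 LD3_c14)) :=
  Lre_b IH (LK LD1_c26 LD2_c42 LD3_c56) (LK LD1_c16 LD2_c44 LD3_c14) Lrfl Lrfl
theorem f337557 : Led Lsl_at (LP (LK LD1_c19 LD2_c29 LD3_c33)) = (LP (LK LD1_c28 LD2_c51 LD3_c41)) :=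
  Lre_a IH (LK LD1_c19 LD2_c29 LD3_c33) (LK LD1_c28 LD2_c51 LD3_c41) Lrfl Lrfl
theorem f322871 : Led Lsl_bt (LP (LK LD1_c10 LD2_c46 LD3_c43)) = (LP (LK LD1_c19 LD2_c29 LD3_c33)) :=
  Lre_b IH (LK LD1_c10 LD2_c46 LD3_c43) (LK LD1_c19 LD2_c29 LD3_c33) Lrfl Lrfl
theorem f337558 : Led Lsl_at (LP (LK LD1_c16 LD2_c44 LD3_c14)) = (LP (LK LD1_c10 LD2_c46 LD3_c43)) :=
  Lgr Lrot67 (Lpe (f337556 IH) (Lpe (f337555 IH) (Lpr_bf (f337553 IH) (Lpe (f337557 IH) (Lpe (f322871 IH) (Lpn (LP (LK LD1_c10 LD2_c46 LD3_c43))))))))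
theorem f337569 : Led Lsl_ff (LP (LK LD1_c16 LD2_c44 LD3_c14)) = (LP (LK LD1_c21 LD2_c0 LD3_c2)) :=
  Lgr Lrot30 (Lpr_at (f337558 IH) (Lpr_ft (K21.f317707 IH) (Lpr_at (K21.f317798 IH) (Lpn (LP (LK LD1_c21 LD2_c0 LD3_c2))))))
theorem f282850 : Led Lsl_gt (LP (LK LD1_c19 LD2_c29 LD3_c42)) = (LP (LK LD1_c10 LD2_c46 LD3_c43)) :=
  Lre_g IH (LK LD1_c19 LD2_c29 LD3_c42) (LK LD1_c10 LD2_c46 LD3_c43) Lrfl Lrfl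
theorem f337571 : Led Lsl_gt (LP (LK LD1_c21 LD2_c0 LD3_c2)) = (LP (LK LD1_c19 LD2_c29 LD3_c42)) :=
  Lgr Lrot5 (Lpe (f337569 IH) (Lpr_at (f337558 IH) (Lpe (f282850 IH) (Lpn (LP (LK LD1_c19 LD2_c29 LD3_c42))))))
theorem f261488 : Led Lsl_dt (LP (LK LD1_c11 LD2_c55 LD3_c11)) = (LP (LK LD1_c21 LD2_c0 LD3_c2)) :=
  Lre_d IH (LK LD1_c11 LD2_c55 LD3_c11) (LK LD1_c21 LD2_c0 LD3_c2) Lrfl Lrfl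
theorem f282848 : Led Lsl_et (LP (LK LD1_c5 LD2_c27 LD3_c47)) = (LP (LK LD1_c2 LD2_c40 LD3_c14)) :=
  Lre_e IH (LK LD1_c5 LD2_c27 LD3_c47) (LK LD1_c2 LD2_c40 LD3_c14) Lrfl Lrfl
theorem f282852 : Led Lsl_et (LP (LK LD1_c2 LD2_c40 LD3_c5)) = (LP (LK LD1_c5 LD2_c27 LD3_c28)) :=
  Lre_e IH (LK LD1_c2 LD2_c40 LD3_c5) (LK LD1_c5 LD2_c27 LD3_c28) Lrfl Lrfl
theorem f282854 : Led Lsl_et (LP (LK LD1_c19 LD2_c28 LD3_c17)) = (LP (LK LD1_c10 LD2_c45 LD3_c61)) :=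
  Lre_e IH (LK LD1_c19 LD2_c28 LD3_c17) (LK LD1_c10 LD2_c45 LD3_c61) Lrfl Lrfl
theorem f282855 : Led Lsl_df (LP (LK LD1_c19 LD2_c29 LD3_c42)) = (LP (LK LD1_c19 LD2_c28 LD3_c17)) :=
  Lgr Lrot170 (Lpr_gt (f282850 IH) (Lpe (K20.f282849 IH) (Lpr_et (f282848 IH) (Lpr_gt (K17.f282826 IH) (Lpe (K17.f278032 IH) (Lpe (K18.f282831 IH) (Lpe (K18.f282851 IH) (Lpr_et (f282852 IH) (Lpr_gt (K21.f282853 IH) (Lpe (f282854 IH) (Lpn (LP (LK LD1_c19 LD2_c28 LD3_c17)))))))))))))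
theorem f282859 : Led Lsl_dt (LP (LK LD1_c19 LD2_c29 LD3_c42)) = (LP (LK LD1_c19 LD2_c28 LD3_c17)) :=
  Lgr Lrot42 (Lpr_df (f282855 IH) (Lpn (LP (LK LD1_c19 LD2_c28 LD3_c17))))
theorem f282862 : Led Lsl_et (LP (LK LD1_c10 LD2_c45 LD3_c61)) = (LP (LK LD1_c19 LD2_c28 LD3_c17)) :=
  Lre_e IH (LK LD1_c10 LD2_c45 LD3_c61) (LK LD1_c19 LD2_c28 LD3_c17) Lrfl Lrfl
theorem f189713 : Led Lsl_et (LP (LK LD1_c15 LD2_c52 LD3_c29)) = (LP (LK LD1_c8 LD2_c27 LD3_c15)) :=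
  Lre_e IH (LK LD1_c15 LD2_c52 LD3_c29) (LK LD1_c8 LD2_c27 LD3_c15) Lrfl Lrfl
theorem f323956 : Led Lsl_ct (LP (LK LD1_c19 LD2_c28 LD3_c17)) = (LP (LK LD1_c15 LD2_c52 LD3_c29)) :=
  Lgr Lrot15 (Lpe (f282862 IH) (Lpr_cf (K21.f323935 IH) (Lpe (f189713 IH) (Lpn (LP (LK LD1_c15 LD2_c52 LD3_c29))))))
theorem f324018 : Led Lsl_cf (LP (LK LD1_c19 LD2_c28 LD3_c17)) = (LP (LK LD1_c15 LD2_c52 LD3_c29)) :=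
  Lgr Lrot11 (Lpr_ct (f323956 IH) (Lpn (LP (LK LD1_c15 LD2_c52 LD3_c29))))
theorem f232175 : Led Lsl_et (LP (LK LD1_c8 LD2_c27 LD3_c15)) = (LP (LK LD1_c15 LD2_c52 LD3_c29)) :=
  Lre_e IH (LK LD1_c8 LD2_c27 LD3_c15) (LK LD1_c15 LD2_c52 LD3_c29) Lrfl Lrfl
theorem f323597 : Led Lsl_bt (LP (LK LD1_c15 LD2_c52 LD3_c29)) = (LP (LK LD1_c9 LD2_c57 LD3_c41)) :=
  Lgr Lrot119 (Lpe (f232175 IH) (Lpr_bf (K21.f323591 IH) (Lpe (K17.f250399 IH) (Lpn (LP (LK LD1_c9 LD2_c57 LD3_c41))))))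
theorem f284005 : Led Lsl_bt (LP (LK LD1_c5 LD2_c3 LD3_c22)) = (LP (LK LD1_c9 LD2_c57 LD3_c39)) :=
  Lre_b IH (LK LD1_c5 LD2_c3 LD3_c22) (LK LD1_c9 LD2_c57 LD3_c39) Lrfl Lrfl
theorem f323601 : Led Lsl_df (LP (LK LD1_c15 LD2_c52 LD3_c29)) = (LP (LK LD1_c9 LD2_c57 LD3_c39)) :=
  Lgr Lrot12 (Lpr_bt (f323597 IH) (Lpr_dt (K17.f250397 IH) (Lpr_bt (f284005 IH) (Lpn (LP (LK LD1_c9 LD2_c57 LD3_c39))))))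
theorem f323604 : Led Lsl_dt (LP (LK LD1_c15 LD2_c52 LD3_c29)) = (LP (LK LD1_c9 LD2_c57 LD3_c39)) :=
  Lgr Lrot42 (Lpr_df (f323601 IH) (Lpn (LP (LK LD1_c9 LD2_c57 LD3_c39))))
theorem f189710 : Led Lsl_gt (LP (LK LD1_c8 LD2_c27 LD3_c15)) = (LP (LK LD1_c10 LD2_c19 LD3_c56)) :=
  Lgr Lrot46 (Lpe (K21.f27442 IH) (Lpr_ft (K11.f27424 IH) (Lpr_at (K11.f189698 IH) (Lpn (LP (LK LD1_c10 LD2_c19 LD3_c56))))))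
theorem f323611 : Led Lsl_gt (LP (LK LD1_c10 LD2_c8 LD3_c19)) = (LP (LK LD1_c9 LD2_c57 LD3_c39)) :=
  Lgr Lrot112 (Lpe (K17.f286288 IH) (Lpr_et (K17.f271065 IH) (Lpr_gf (K21.f286122 IH) (Lpe (K21.f286124 IH) (Lpr_dt (K21.f27445 IH) (Lpr_gf (K21.f189702 IH) (Lpe (K21.f189700 IH) (Lpe (f189710 IH) (Lpe (f189713 IH) (Lpr_dt (f323604 IH) (Lpn (LP (LK LD1_c9 LD2_c57 LD3_c39)))))))))))))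
theorem f264890 : Led Lsl_ct (LP (LK LD1_c10 LD2_c20 LD3_c25)) = (LP (LK LD1_c5 LD2_c15 LD3_c35)) :=
  Lre_c IH (LK LD1_c10 LD2_c20 LD3_c25) (LK LD1_c5 LD2_c15 LD3_c35) Lrfl Lrfl
theorem f337573 : Led Lsl_gf (LP (LK LD1_c11 LD2_c55 LD3_c11)) = (LP (LK LD1_c10 LD2_c20 LD3_c25)) :=
  Lgr Lrot144 (Lpr_dt (f261488 IH) (Lpr_gt (f337571 IH) (Lpr_dt (f282859 IH) (Lpr_cf (f324018 IH) (Lpr_df (f323601 IH) (Lpe (f323611 IH) (Lpe (K17.f286288 IH) (Lpe (K17.f49915 IH) (Lpe (f264890 IH) (Lpn (LP (LK LD1_c10 LD2_c20 LD3_c25))))))))))))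
theorem f317843 : Led Lsl_bt (LP (LK LD1_c19 LD2_c29 LD3_c34)) = (LP (LK LD1_c10 LD2_c46 LD3_c44)) :=
  Lre_b IH (LK LD1_c19 LD2_c29 LD3_c34) (LK LD1_c10 LD2_c46 LD3_c44) Lrfl Lrfl
theorem f317845 : Led Lsl_at (LP (LK LD1_c10 LD2_c46 LD3_c44)) = (LP (LK LD1_c11 LD2_c55 LD3_c11)) :=
  Lgr Lrot67 (Lpe (f317843 IH) (Lpe (K21.f317842 IH) (Lpr_bf (K21.f317839 IH) (Lpe (K21.f317844 IH) (Lpe (K21.f261494 IH) (Lpn (LP (LK LD1_c11 LD2_c55 LD3_c11))))))))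
theorem f337575 : Led Lsl_gt (LP (LK LD1_c5 LD2_c27 LD3_c47)) = (LP (LK LD1_c10 LD2_c20 LD3_c25)) :=
  Lgr Lrot5 (Lpr_ft (K21.f317853 IH) (Lpr_at (f317845 IH) (Lpr_gf (f337573 IH) (Lpn (LP (LK LD1_c10 LD2_c20 LD3_c25))))))
theorem f303360 : Led Lsl_gt (LP (LK LD1_c10 LD2_c46 LD3_c34)) = (LP (LK LD1_c5 LD2_c27 LD3_c44)) :=
  Lre_g IH (LK LD1_c10 LD2_c46 LD3_c34) (LK LD1_c5 LD2_c27 LD3_c44) Lrfl Lrfl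
theorem f264892 : Led Lsl_ct (LP (LK LD1_c5 LD2_c15 LD3_c35)) = (LP (LK LD1_c10 LD2_c20 LD3_c25)) :=
  Lre_c IH (LK LD1_c5 LD2_c15 LD3_c35) (LK LD1_c10 LD2_c20 LD3_c25) Lrfl Lrfl
theorem f337596 : Led Lsl_bf (LP (LK LD1_c10 LD2_c46 LD3_c34)) = (LP (LK LD1_c11 LD2_c52 LD3_c19)) :=
  Lgr Lrot156 (Lpr_gt (f303360 IH) (Lpe (K20.f317749 IH) (Lpr_ct (K20.f282867 IH) (Lpr_gt (f337575 IH) (Lpe (f264892 IH) (Lpr_bt (K14.f237085 IH) (Lpe (K21.f324106 IH) (Lpe (f333901 IH) (Lpr_gt (f333933 IH) (Lpe (f335418 IH) (Lpn (LP (LK LD1_c11 LD2_c52 LD3_c19)))))))))))))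
theorem f324645 : Led Lsl_bt (LP (LK LD1_c8 LD2_c40 LD3_c19)) = (LP (LK LD1_c15 LD2_c36 LD3_c24)) :=
  Lgr Lrot127 (Lpr_bf (K21.f324641 IH) (Lpn (LP (LK LD1_c15 LD2_c36 LD3_c24))))
theorem f331308 : Led Lsl_bf (LP (LK LD1_c16 LD2_c11 LD3_c47)) = (LP (LK LD1_c15 LD2_c41 LD3_c52)) :=
  Lgr Lrot93 (Lpe (K21.f324629 IH) (Lpr_bt (f324645 IH) (Lpr_dt (K21.f331294 IH) (Lpn (LP (LK LD1_c15 LD2_c41 LD3_c52))))))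
theorem f331324 : Led Lsl_bf (LP (LK LD1_c15 LD2_c16 LD3_c23)) = (LP (LK LD1_c8 LD2_c38 LD3_c50)) :=
  Lgr Lrot96 (Lpr_et (K21.f331322 IH) (Lpe (f331308 IH) (Lpr_et (K21.f192339 IH) (Lpn (LP (LK LD1_c8 LD2_c38 LD3_c50))))))
theorem f337609 : Led Lsl_gf (LP (LK LD1_c10 LD2_c46 LD3_c34)) = (LP (LK LD1_c15 LD2_c16 LD3_c23)) :=
  Lgr Lrot124 (Lpr_bf (f337596 IH) (Lpr_ct (f335418 IH) (Lpr_gt (f246991 IH) (Lpe (f246990 IH) (Lpr_bt (f246942 IH) (Lpr_gt (K20.f246981 IH) (Lpr_ct (K20.f177593 IH) (Lpr_gt (K20.f191294 IH) (Lpe (K21.f322819 IH) (Lpe (f331324 IH) (Lpn (LP (LK LD1_c15 LD2_c16 LD3_c23)))))))))))))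
theorem f253638 : Led Lsl_gt (LP (LK LD1_c11 LD2_c5 LD3_c14)) = (LP (LK LD1_c5 LD2_c36 LD3_c33)) :=
  Lre_g IH (LK LD1_c11 LD2_c5 LD3_c14) (LK LD1_c5 LD2_c36 LD3_c33) Lrfl Lrfl
theorem f337615 : Led Lsl_ct (LP (LK LD1_c10 LD2_c46 LD3_c34)) = (LP (LK LD1_c11 LD2_c5 LD3_c14)) :=
  Lgr Lrot91 (Lpr_gf (f337609 IH) (Lpr_bf (f331324 IH) (Lpr_ct (K21.f322819 IH) (Lpe (K20.f191294 IH) (Lpe (K20.f177593 IH) (Lpr_bt (K10.f177586 IH) (Lpr_gf (K21.f326923 IH) (Lpe (K18.f253616 IH) (Lpr_ct (K18.f228010 IH) (Lpe (f253638 IH) (Lpn (LP (LK LD1_c11 LD2_c5 LD3_c14)))))))))))))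
theorem f331320 : Led Lsl_dt (LP (LK LD1_c15 LD2_c16 LD3_c23)) = (LP (LK LD1_c10 LD2_c33 LD3_c2)) :=
  Lgr Lrot77 (Lpr_ef (K21.f331316 IH) (Lpe (K21.f331294 IH) (Lpe (K19.f219688 IH) (Lpe (K14.f187139 IH) (Lpr_ef (K21.f320835 IH) (Lpn (LP (LK LD1_c10 LD2_c33 LD3_c2))))))))
theorem f311383 : Led Lsl_dt (LP (LK LD1_c8 LD2_c18 LD3_c3)) = (LP (LK LD1_c6 LD2_c4 LD3_c57)) :=
  Lgr Lrot44 (Lpr_af (K19.f311379 IH) (Lpr_df (K21.f283239 IH) (Lpe (K17.f283501 IH) (Lpn (LP (LK LD1_c6 LD2_c4 LD3_c57))))))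
theorem f283518 : Led Lsl_ct (LP (LK LD1_c6 LD2_c4 LD3_c57)) = (LP (LK LD1_c11 LD2_c53 LD3_c11)) :=
  Lre_c IH (LK LD1_c6 LD2_c4 LD3_c57) (LK LD1_c11 LD2_c53 LD3_c11) Lrfl Lrfl
theorem f278166 : Led Lsl_dt (LP (LK LD1_c20 LD2_c56 LD3_c42)) = (LP (LK LD1_c11 LD2_c53 LD3_c11)) :=
  Lre_d IH (LK LD1_c20 LD2_c56 LD3_c42) (LK LD1_c11 LD2_c53 LD3_c11) Lrfl Lrfl
theorem f177489 : Led Lsl_gt (LP (LK LD1_c29 LD2_c45 LD3_c43)) = (LP (LK LD1_c20 LD2_c56 LD3_c42)) :=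
  Lre_g IH (LK LD1_c29 LD2_c45 LD3_c43) (LK LD1_c20 LD2_c56 LD3_c42) Lrfl Lrfl
theorem f254115 : Led Lsl_gt (LP (LK LD1_c11 LD2_c5 LD3_c13)) = (LP (LK LD1_c19 LD2_c57 LD3_c54)) :=
  Lre_g IH (LK LD1_c11 LD2_c5 LD3_c13) (LK LD1_c19 LD2_c57 LD3_c54) Lrfl Lrfl
theorem f184636 : Led Lsl_dt (LP (LK LD1_c5 LD2_c6 LD3_c16)) = (LP (LK LD1_c10 LD2_c3 LD3_c34)) :=
  Lre_d IH (LK LD1_c5 LD2_c6 LD3_c16) (LK LD1_c10 LD2_c3 LD3_c34) Lrfl Lrfl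
theorem f291373 : Led Lsl_gt (LP (LK LD1_c8 LD2_c14 LD3_c2)) = (LP (LK LD1_c15 LD2_c16 LD3_c22)) :=
  Lgr Lrot94 (Lpr_cf (K15.f265136 IH) (Lpr_gt (K15.f183018 IH) (Lpe (K15.f216290 IH) (Lpe (K15.f264061 IH) (Lpr_dt (f184636 IH) (Lpe (K17.f274255 IH) (Lpr_df (K17.f274277 IH) (Lpr_gf (K17.f291371 IH) (Lpe (K17.f192211 IH) (Lpn (LP (LK LD1_c15 LD2_c16 LD3_c22))))))))))))
theorem f177487 : Led Lsl_et (LP (LK LD1_c11 LD2_c53 LD3_c11)) = (LP (LK LD1_c6 LD2_c4 LD3_c56)) :=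
  Lre_e IH (LK LD1_c11 LD2_c53 LD3_c11) (LK LD1_c6 LD2_c4 LD3_c56) Lrfl Lrfl
theorem f296162 : Led Lsl_dt (LP (LK LD1_c24 LD2_c49 LD3_c22)) = (LP (LK LD1_c29 LD2_c45 LD3_c43)) :=
  Lgr Lrot136 (Lpe (K14.f254092 IH) (Lpe (f254115 IH) (Lpr_ef (K18.f296151 IH) (Lpr_dt (K17.f291377 IH) (Lpe (f291373 IH) (Lpe (K15.f177483 IH) (Lpr_gf (K10.f177476 IH) (Lpe (f177487 IH) (Lpr_dt (K17.f177488 IH) (Lpe (f177489 IH) (Lpn (LP (LK LD1_c29 LD2_c45 LD3_c43)))))))))))))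
theorem f254094 : Led Lsl_ft (LP (LK LD1_c8 LD2_c37 LD3_c34)) = (LP (LK LD1_c16 LD2_c9 LD3_c37)) :=
  Lre_f IH (LK LD1_c8 LD2_c37 LD3_c34) (LK LD1_c16 LD2_c9 LD3_c37) Lrfl Lrfl
theorem f254096 : Led Lsl_gt (LP (LK LD1_c8 LD2_c37 LD3_c34)) = (LP (LK LD1_c16 LD2_c9 LD3_c34)) :=
  Lre_g IH (LK LD1_c8 LD2_c37 LD3_c34) (LK LD1_c16 LD2_c9 LD3_c34) Lrfl Lrfl
theorem f254097 : Led Lsl_gt (LP (LK LD1_c16 LD2_c9 LD3_c34)) = (LP (LK LD1_c24 LD2_c49 LD3_c22)) :=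
  Lgr Lrot46 (Lpe (f254096 IH) (Lpr_ft (f254094 IH) (Lpr_at (K14.f254084 IH) (Lpn (LP (LK LD1_c24 LD2_c49 LD3_c22))))))
theorem f196633 : Led Lsl_df (LP (LK LD1_c5 LD2_c22 LD3_c33)) = (LP (LK LD1_c4 LD2_c21 LD3_c40)) :=
  Lgr Lrot38 (Lpr_dt (K13.f196621 IH) (Lpn (LP (LK LD1_c4 LD2_c21 LD3_c40))))
theorem f196629 : Led Lsl_ct (LP (LK LD1_c10 LD2_c35 LD3_c23)) = (LP (LK LD1_c5 LD2_c22 LD3_c33)) :=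
  Lre_c IH (LK LD1_c10 LD2_c35 LD3_c23) (LK LD1_c5 LD2_c22 LD3_c33) Lrfl Lrfl
theorem f228837 : Led Lsl_gt (LP (LK LD1_c5 LD2_c36 LD3_c16)) = (LP (LK LD1_c2 LD2_c44 LD3_c1)) :=
  Lre_g IH (LK LD1_c5 LD2_c36 LD3_c16) (LK LD1_c2 LD2_c44 LD3_c1) Lrfl Lrfl
theorem f261170 : Led Lsl_gt (LP (LK LD1_c9 LD2_c41 LD3_c18)) = (LP (LK LD1_c5 LD2_c36 LD3_c16)) :=
  Lgr Lrot5 (Lpr_ft (K15.f221713 IH) (Lpr_at (K15.f261147 IH) (Lpe (f228837 IH) (Lpn (LP (LK LD1_c5 LD2_c36 LD3_c16))))))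
theorem f228838 : Led Lsl_ct (LP (LK LD1_c5 LD2_c36 LD3_c16)) = (LP (LK LD1_c11 LD2_c4 LD3_c51)) :=
  Lre_c IH (LK LD1_c5 LD2_c36 LD3_c16) (LK LD1_c11 LD2_c4 LD3_c51) Lrfl Lrfl
theorem f298673 : Led Lsl_gf (LP (LK LD1_c10 LD2_c35 LD3_c23)) = (LP (LK LD1_c11 LD2_c4 LD3_c51)) :=
  Lgr Lrot104 (Lpr_ct (f196629 IH) (Lpr_df (f196633 IH) (Lpe (K18.f196641 IH) (Lpr_gf (K18.f298667 IH) (Lpe (K18.f271050 IH) (Lpe (K16.f271083 IH) (Lpe (K21.f271132 IH) (Lpr_gt (f261170 IH) (Lpr_ct (f228838 IH) (Lpn (LP (LK LD1_c11 LD2_c4 LD3_c51))))))))))))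
theorem f196665 : Led Lsl_ct (LP (LK LD1_c5 LD2_c22 LD3_c33)) = (LP (LK LD1_c10 LD2_c35 LD3_c23)) :=
  Lre_c IH (LK LD1_c5 LD2_c22 LD3_c33) (LK LD1_c10 LD2_c35 LD3_c23) Lrfl Lrfl
theorem f196666 : Led Lsl_bt (LP (LK LD1_c15 LD2_c17 LD3_c51)) = (LP (LK LD1_c8 LD2_c7 LD3_c23)) :=
  Lre_b IH (LK LD1_c15 LD2_c17 LD3_c51) (LK LD1_c8 LD2_c7 LD3_c23) Lrfl Lrfl
theorem f221704 : Led Lsl_bt (LP (LK LD1_c15 LD2_c1 LD3_c26)) = (LP (LK LD1_c9 LD2_c41 LD3_c18)) :=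
  Lgr Lrot127 (Lpr_bf (K19.f221697 IH) (Lpn (LP (LK LD1_c9 LD2_c41 LD3_c18))))
theorem f298679 : Led Lsl_ct (LP (LK LD1_c15 LD2_c17 LD3_c51)) = (LP (LK LD1_c16 LD2_c9 LD3_c34)) :=
  Lgr Lrot64 (Lpr_bt (f196666 IH) (Lpe (K15.f28867 IH) (Lpe (K13.f196658 IH) (Lpr_ct (f196665 IH) (Lpr_gf (f298673 IH) (Lpe (f228838 IH) (Lpe (f261170 IH) (Lpe (f221704 IH) (Lpr_ct (K19.f221706 IH) (Lpe (f254097 IH) (Lpn (LP (LK LD1_c16 LD2_c9 LD3_c34)))))))))))))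
theorem f298684 : Led Lsl_cf (LP (LK LD1_c15 LD2_c17 LD3_c51)) = (LP (LK LD1_c16 LD2_c9 LD3_c34)) :=
  Lgr Lrot11 (Lpr_ct (f298679 IH) (Lpn (LP (LK LD1_c16 LD2_c9 LD3_c34))))
theorem f331314 : Led Lsl_gt (LP (LK LD1_c15 LD2_c17 LD3_c51)) = (LP (LK LD1_c15 LD2_c41 LD3_c52)) :=
  Lgr Lrot94 (Lpr_cf (f298684 IH) (Lpr_gt (f254097 IH) (Lpr_dt (f296162 IH) (Lpr_gt (f177489 IH) (Lpr_dt (f278166 IH) (Lpe (f283518 IH) (Lpe (f311383 IH) (Lpe (K19.f219695 IH) (Lpr_df (K21.f331310 IH) (Lpn (LP (LK LD1_c15 LD2_c41 LD3_c52))))))))))))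
theorem f211456 : Led Lsl_bt (LP (LK LD1_c8 LD2_c9 LD3_c33)) = (LP (LK LD1_c15 LD2_c22 LD3_c4)) :=
  Lre_b IH (LK LD1_c8 LD2_c9 LD3_c33) (LK LD1_c15 LD2_c22 LD3_c4) Lrfl Lrfl
theorem f211457 : Led Lsl_ef (LP (LK LD1_c15 LD2_c17 LD3_c51)) = (LP (LK LD1_c15 LD2_c22 LD3_c4)) :=
  Lgr Lrot29 (Lpr_bt (f196666 IH) (Lpr_et (K15.f211454 IH) (Lpr_bt (f211456 IH) (Lpn (LP (LK LD1_c15 LD2_c22 LD3_c4))))))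
theorem f211463 : Led Lsl_dt (LP (LK LD1_c15 LD2_c22 LD3_c4)) = (LP (LK LD1_c8 LD2_c9 LD3_c31)) :=
  Lre_d IH (LK LD1_c15 LD2_c22 LD3_c4) (LK LD1_c8 LD2_c9 LD3_c31) Lrfl Lrfl
theorem f313131 : Led Lsl_bt (LP (LK LD1_c4 LD2_c4 LD3_c19)) = (LP (LK LD1_c8 LD2_c9 LD3_c31)) :=
  Lre_b IH (LK LD1_c4 LD2_c4 LD3_c19) (LK LD1_c8 LD2_c9 LD3_c31) Lrfl Lrfl
theorem f329875 : Led Lsl_gf (LP (LK LD1_c8 LD2_c20 LD3_c22)) = (LP (LK LD1_c8 LD2_c9 LD3_c31)) :=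
  Lgr Lrot181 (Lpr_ct (K16.f212822 IH) (Lpr_gt (f324015 IH) (Lpe (f41347 IH) (Lpr_bt (f320510 IH) (Lpr_gt (f329866 IH) (Lpe (K19.f27568 IH) (Lpr_ct (K21.f52897 IH) (Lpr_gt (K21.f313126 IH) (Lpe (K21.f27999 IH) (Lpr_bt (f313131 IH) (Lpn (LP (LK LD1_c8 LD2_c9 LD3_c31)))))))))))))
theorem f329877 : Led Lsl_gt (LP (LK LD1_c8 LD2_c29 LD3_c10)) = (LP (LK LD1_c8 LD2_c9 LD3_c31)) :=
  Lgr Lrot5 (Lpr_ft (K15.f201212 IH) (Lpr_at (K16.f275600 IH) (Lpr_gf (f329875 IH) (Lpn (LP (LK LD1_c8 LD2_c9 LD3_c31))))))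
theorem f211461 : Led Lsl_dt (LP (LK LD1_c8 LD2_c9 LD3_c31)) = (LP (LK LD1_c15 LD2_c22 LD3_c4)) :=
  Lre_d IH (LK LD1_c8 LD2_c9 LD3_c31) (LK LD1_c15 LD2_c22 LD3_c4) Lrfl Lrfl
theorem f211460 : Led Lsl_ct (LP (LK LD1_c25 LD2_c13 LD3_c45)) = (LP (LK LD1_c15 LD2_c22 LD3_c4)) :=
  Lre_c IH (LK LD1_c25 LD2_c13 LD3_c45) (LK LD1_c15 LD2_c22 LD3_c4) Lrfl Lrfl
theorem f298686 : Led Lsl_ef (LP (LK LD1_c25 LD2_c13 LD3_c45)) = (LP (LK LD1_c16 LD2_c9 LD3_c34)) :=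
  Lgr Lrot28 (Lpr_ct (f211460 IH) (Lpe (f211457 IH) (Lpr_ct (f298679 IH) (Lpn (LP (LK LD1_c16 LD2_c9 LD3_c34))))))
theorem f298689 : Led Lsl_et (LP (LK LD1_c25 LD2_c13 LD3_c45)) = (LP (LK LD1_c16 LD2_c9 LD3_c34)) :=
  Lgr Lrot87 (Lpr_ef (f298686 IH) (Lpn (LP (LK LD1_c16 LD2_c9 LD3_c34))))
theorem f290602 : Led Lsl_et (LP (LK LD1_c4 LD2_c19 LD3_c44)) = (LP (LK LD1_c8 LD2_c37 LD3_c34)) :=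
  Lre_e IH (LK LD1_c4 LD2_c19 LD3_c44) (LK LD1_c8 LD2_c37 LD3_c34) Lrfl Lrfl
theorem f290588 : Led Lsl_gf (LP (LK LD1_c8 LD2_c37 LD3_c36)) = (LP (LK LD1_c7 LD2_c58 LD3_c30)) :=
  Lgr Lrot144 (Lpr_dt (K18.f226813 IH) (Lpr_gt (K13.f226786 IH) (Lpr_dt (K12.f226812 IH) (Lpr_cf (K12.f231173 IH) (Lpe (K12.f231109 IH) (Lpe (K14.f231106 IH) (Lpr_df (K19.f278432 IH) (Lpe (K19.f219825 IH) (Lpr_cf (K17.f290573 IH) (Lpn (LP (LK LD1_c7 LD2_c58 LD3_c30))))))))))))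
theorem f42764 : Led Lsl_et (LP (LK LD1_c15 LD2_c1 LD3_c13)) = (LP (LK LD1_c7 LD2_c57 LD3_c47)) :=
  Lre_e IH (LK LD1_c15 LD2_c1 LD3_c13) (LK LD1_c7 LD2_c57 LD3_c47) Lrfl Lrfl
theorem f41355 : Led Lsl_dt (LP (LK LD1_c15 LD2_c1 LD3_c13)) = (LP (LK LD1_c24 LD2_c49 LD3_c6)) :=
  Lre_d IH (LK LD1_c15 LD2_c1 LD3_c13) (LK LD1_c24 LD2_c49 LD3_c6) Lrfl Lrfl
theorem f54694 : Led Lsl_gt (LP (LK LD1_c15 LD2_c29 LD3_c32)) = (LP (LK LD1_c25 LD2_c22 LD3_c42)) :=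
  Lre_g IH (LK LD1_c15 LD2_c29 LD3_c32) (LK LD1_c25 LD2_c22 LD3_c42) Lrfl Lrfl
theorem f54695 : Led Lsl_gf (LP (LK LD1_c24 LD2_c49 LD3_c6)) = (LP (LK LD1_c25 LD2_c22 LD3_c42)) :=
  Lgr Lrot76 (Lpe (K1.f42784 IH) (Lpr_ff (K1.f54676 IH) (Lpr_gt (f54694 IH) (Lpn (LP (LK LD1_c25 LD2_c22 LD3_c42))))))
theorem f298691 : Led Lsl_dt (LP (LK LD1_c25 LD2_c13 LD3_c45)) = (LP (LK LD1_c25 LD2_c22 LD3_c42)) :=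
  Lgr Lrot136 (Lpr_et (f298689 IH) (Lpe (f254096 IH) (Lpe (f290602 IH) (Lpr_dt (K18.f226814 IH) (Lpr_gf (f290588 IH) (Lpe (K17.f41150 IH) (Lpe (K17.f41149 IH) (Lpe (f42764 IH) (Lpr_dt (f41355 IH) (Lpr_gf (f54695 IH) (Lpn (LP (LK LD1_c25 LD2_c22 LD3_c42)))))))))))))
theorem f298693 : Led Lsl_df (LP (LK LD1_c25 LD2_c13 LD3_c45)) = (LP (LK LD1_c25 LD2_c22 LD3_c42)) :=
  Lgr Lrot38 (Lpr_dt (f298691 IH) (Lpn (LP (LK LD1_c25 LD2_c22 LD3_c42))))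
theorem f47897 : Led Lsl_gt (LP (LK LD1_c15 LD2_c29 LD3_c31)) = (LP (LK LD1_c8 LD2_c14 LD3_c3)) :=
  Lre_g IH (LK LD1_c15 LD2_c29 LD3_c31) (LK LD1_c8 LD2_c14 LD3_c3) Lrfl Lrfl
theorem f179201 : Led Lsl_et (LP (LK LD1_c0 LD2_c36 LD3_c34)) = (LP (LK LD1_c1 LD2_c19 LD3_c14)) :=
  Lre_e IH (LK LD1_c0 LD2_c36 LD3_c34) (LK LD1_c1 LD2_c19 LD3_c14) Lrfl Lrfl
theorem f179205 : Led Lsl_et (LP (LK LD1_c1 LD2_c3 LD3_c2)) = (LP (LK LD1_c2 LD2_c12 LD3_c18)) :=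
  Lre_e IH (LK LD1_c1 LD2_c3 LD3_c2) (LK LD1_c2 LD2_c12 LD3_c18) Lrfl Lrfl
theorem f179206 : Led Lsl_gt (LP (LK LD1_c4 LD2_c30 LD3_c43)) = (LP (LK LD1_c2 LD2_c12 LD3_c18)) :=
  Lre_g IH (LK LD1_c4 LD2_c30 LD3_c43) (LK LD1_c2 LD2_c12 LD3_c18) Lrfl Lrfl
theorem f9047 : Led Lsl_et (LP (LK LD1_c8 LD2_c59 LD3_c43)) = (LP (LK LD1_c4 LD2_c30 LD3_c43)) :=
  Lre_e IH (LK LD1_c8 LD2_c59 LD3_c43) (LK LD1_c4 LD2_c30 LD3_c43) Lrfl Lrfl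
theorem f320211 : Led Lsl_dt (LP (LK LD1_c2 LD2_c41 LD3_c37)) = (LP (LK LD1_c5 LD2_c30 LD3_c48)) :=
  Lre_d IH (LK LD1_c2 LD2_c41 LD3_c37) (LK LD1_c5 LD2_c30 LD3_c48) Lrfl Lrfl
theorem f320389 : Led Lsl_gt (LP (LK LD1_c5 LD2_c30 LD3_c48)) = (LP (LK LD1_c10 LD2_c53 LD3_c9)) :=
  Lre_g IH (LK LD1_c5 LD2_c30 LD3_c48) (LK LD1_c10 LD2_c53 LD3_c9) Lrfl Lrfl
theorem f320397 : Led Lsl_dt (LP (LK LD1_c8 LD2_c59 LD3_c43)) = (LP (LK LD1_c10 LD2_c53 LD3_c9)) :=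
  Lgr Lrot56 (Lpr_et (f9047 IH) (Lpr_gt (f179206 IH) (Lpe (f179205 IH) (Lpr_dt (K9.f172857 IH) (Lpr_gt (K9.f168230 IH) (Lpr_df (K9.f179120 IH) (Lpr_et (f179201 IH) (Lpr_gt (K20.f320304 IH) (Lpr_dt (f320211 IH) (Lpr_gt (f320389 IH) (Lpn (LP (LK LD1_c10 LD2_c53 LD3_c9)))))))))))))
theorem f320403 : Led Lsl_df (LP (LK LD1_c8 LD2_c59 LD3_c43)) = (LP (LK LD1_c10 LD2_c53 LD3_c9)) :=
  Lgr Lrot38 (Lpr_dt (f320397 IH) (Lpn (LP (LK LD1_c10 LD2_c53 LD3_c9))))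
theorem f301267 : Led Lsl_bt (LP (LK LD1_c2 LD2_c23 LD3_c54)) = (LP (LK LD1_c4 LD2_c52 LD3_c14)) :=
  Lre_b IH (LK LD1_c2 LD2_c23 LD3_c54) (LK LD1_c4 LD2_c52 LD3_c14) Lrfl Lrfl
theorem f305700 : Led Lsl_dt (LP (LK LD1_c1 LD2_c19 LD3_c15)) = (LP (LK LD1_c2 LD2_c23 LD3_c54)) :=
  Lgr Lrot79 (Lpe (K19.f228317 IH) (Lpr_df (K19.f305693 IH) (Lpe (f301267 IH) (Lpn (LP (LK LD1_c2 LD2_c23 LD3_c54))))))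
theorem f306067 : Led Lsl_et (LP (LK LD1_c1 LD2_c19 LD3_c15)) = (LP (LK LD1_c2 LD2_c45 LD3_c48)) :=
  Lre_e IH (LK LD1_c1 LD2_c19 LD3_c15) (LK LD1_c2 LD2_c45 LD3_c48) Lrfl Lrfl
theorem f307047 : Led Lsl_gt (LP (LK LD1_c2 LD2_c23 LD3_c54)) = (LP (LK LD1_c2 LD2_c24 LD3_c31)) :=
  Lgr Lrot112 (Lpe (f305700 IH) (Lpr_et (f306067 IH) (Lpr_gf (K21.f307043 IH) (Lpe (K21.f307045 IH) (Lpr_dt (K21.f55318 IH) (Lpe (K21.f55315 IH) (Lpe (K9.f41323 IH) (Lpe (K13.f41111 IH) (Lpe (K13.f180003 IH) (Lpr_dt (K13.f167023 IH) (Lpn (LP (LK LD1_c2 LD2_c24 LD3_c31)))))))))))))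
theorem f320412 : Led Lsl_cf (LP (LK LD1_c8 LD2_c59 LD3_c43)) = (LP (LK LD1_c4 LD2_c53 LD3_c27)) :=
  Lgr Lrot14 (Lpr_df (f320403 IH) (Lpe (f320389 IH) (Lpe (f320211 IH) (Lpe (K20.f320304 IH) (Lpr_ct (f245959 IH) (Lpr_gt (K19.f171489 IH) (Lpr_dt (f305700 IH) (Lpr_gt (f307047 IH) (Lpr_dt (K13.f167024 IH) (Lpn (LP (LK LD1_c4 LD2_c53 LD3_c27))))))))))))
theorem f180008 : Led Lsl_ef (LP (LK LD1_c4 LD2_c53 LD3_c27)) = (LP (LK LD1_c2 LD2_c26 LD3_c1)) :=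
  Lgr Lrot88 (Lpr_et (K13.f180003 IH) (Lpn (LP (LK LD1_c2 LD2_c26 LD3_c1))))
theorem f320414 : Led Lsl_ct (LP (LK LD1_c4 LD2_c30 LD3_c43)) = (LP (LK LD1_c2 LD2_c26 LD3_c1)) :=
  Lgr Lrot15 (Lpe (f9047 IH) (Lpr_cf (f320412 IH) (Lpr_ef (f180008 IH) (Lpn (LP (LK LD1_c2 LD2_c26 LD3_c1))))))
theorem f320420 : Led Lsl_cf (LP (LK LD1_c4 LD2_c30 LD3_c43)) = (LP (LK LD1_c2 LD2_c26 LD3_c1)) :=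
  Lgr Lrot11 (Lpr_ct (f320414 IH) (Lpn (LP (LK LD1_c2 LD2_c26 LD3_c1))))
theorem f7565 : Led Lsl_ct (LP (LK LD1_c1 LD2_c3 LD3_c3)) = (LP (LK LD1_c2 LD2_c12 LD3_c18)) :=
  Lre_c IH (LK LD1_c1 LD2_c3 LD3_c3) (LK LD1_c2 LD2_c12 LD3_c18) Lrfl Lrfl
theorem f41587 : Led Lsl_gt (LP (LK LD1_c2 LD2_c11 LD3_c23)) = (LP (LK LD1_c4 LD2_c28 LD3_c41)) :=
  Lre_g IH (LK LD1_c2 LD2_c11 LD3_c23) (LK LD1_c4 LD2_c28 LD3_c41) Lrfl Lrfl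
theorem f320440 : Led Lsl_bt (LP (LK LD1_c8 LD2_c55 LD3_c36)) = (LP (LK LD1_c4 LD2_c28 LD3_c41)) :=
  Lre_b IH (LK LD1_c8 LD2_c55 LD3_c36) (LK LD1_c4 LD2_c28 LD3_c41) Lrfl Lrfl
theorem f320441 : Led Lsl_ct (LP (LK LD1_c8 LD2_c55 LD3_c36)) = (LP (LK LD1_c15 LD2_c29 LD3_c31)) :=
  Lgr Lrot64 (Lpr_bt (f320440 IH) (Lpe (f41587 IH) (Lpe (K1.f8586 IH) (Lpr_ct (f7565 IH) (Lpe (f179206 IH) (Lpr_cf (f320420 IH) (Lpr_gf (K13.f54869 IH) (Lpe (K9.f47875 IH) (Lpr_ct (K21.f47880 IH) (Lpe (f47897 IH) (Lpn (LP (LK LD1_c15 LD2_c29 LD3_c31)))))))))))))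
theorem f329880 : Led Lsl_gf (LP (LK LD1_c8 LD2_c29 LD3_c10)) = (LP (LK LD1_c8 LD2_c55 LD3_c36)) :=
  Lgr Lrot144 (Lpe (K10.f45603 IH) (Lpr_gt (f329877 IH) (Lpr_dt (f211461 IH) (Lpe (f211460 IH) (Lpr_df (f298693 IH) (Lpe (f54694 IH) (Lpe (K1.f47881 IH) (Lpe (f47897 IH) (Lpe (f320441 IH) (Lpn (LP (LK LD1_c8 LD2_c55 LD3_c36))))))))))))
theorem f320452 : Led Lsl_et (LP (LK LD1_c16 LD2_c42 LD3_c37)) = (LP (LK LD1_c8 LD2_c55 LD3_c36)) :=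
  Lre_e IH (LK LD1_c16 LD2_c42 LD3_c37) (LK LD1_c8 LD2_c55 LD3_c36) Lrfl Lrfl
theorem f329884 : Led Lsl_gt (LP (LK LD1_c8 LD2_c20 LD3_c22)) = (LP (LK LD1_c8 LD2_c55 LD3_c36)) :=
  Lgr Lrot5 (Lpe (K20.f275614 IH) (Lpr_at (K11.f54285 IH) (Lpr_gf (f329880 IH) (Lpn (LP (LK LD1_c8 LD2_c55 LD3_c36))))))
theorem f282879 : Led Lsl_et (LP (LK LD1_c5 LD2_c27 LD3_c44)) = (LP (LK LD1_c2 LD2_c40 LD3_c13)) :=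
  Lre_e IH (LK LD1_c5 LD2_c27 LD3_c44) (LK LD1_c2 LD2_c40 LD3_c13) Lrfl Lrfl
theorem f214815 : Led Lsl_gt (LP (LK LD1_c16 LD2_c34 LD3_c43)) = (LP (LK LD1_c8 LD2_c52 LD3_c1)) :=
  Lre_g IH (LK LD1_c16 LD2_c34 LD3_c43) (LK LD1_c8 LD2_c52 LD3_c1) Lrfl Lrfl
theorem f329895 : Led Lsl_df (LP (LK LD1_c16 LD2_c34 LD3_c43)) = (LP (LK LD1_c16 LD2_c42 LD3_c37)) :=
  Lgr Lrot170 (Lpr_gt (f214815 IH) (Lpe (K20.f317747 IH) (Lpr_et (f282879 IH) (Lpr_gt (K18.f284566 IH) (Lpr_dt (K10.f53445 IH) (Lpr_gt (K12.f170855 IH) (Lpe (K16.f212796 IH) (Lpr_et (K20.f212816 IH) (Lpr_gt (f329884 IH) (Lpe (f320452 IH) (Lpn (LP (LK LD1_c16 LD2_c42 LD3_c37)))))))))))))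
theorem f331328 : Led Lsl_gt (LP (LK LD1_c10 LD2_c33 LD3_c2)) = (LP (LK LD1_c16 LD2_c34 LD3_c43)) :=
  Lgr Lrot112 (Lpe (f331320 IH) (Lpr_et (K21.f331322 IH) (Lpe (f331314 IH) (Lpr_ef (f211457 IH) (Lpr_dt (f211463 IH) (Lpe (f329877 IH) (Lpr_df (K10.f45603 IH) (Lpr_gf (f329880 IH) (Lpe (f320452 IH) (Lpe (f329895 IH) (Lpn (LP (LK LD1_c16 LD2_c34 LD3_c43)))))))))))))
theorem f228012 : Led Lsl_ct (LP (LK LD1_c5 LD2_c36 LD3_c33)) = (LP (LK LD1_c2 LD2_c44 LD3_c9)) :=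
  Lre_c IH (LK LD1_c5 LD2_c36 LD3_c33) (LK LD1_c2 LD2_c44 LD3_c9) Lrfl Lrfl
theorem f253617 : Led Lsl_ct (LP (LK LD1_c5 LD2_c10 LD3_c33)) = (LP (LK LD1_c2 LD2_c32 LD3_c20)) :=
  Lre_c IH (LK LD1_c5 LD2_c10 LD3_c33) (LK LD1_c2 LD2_c32 LD3_c20) Lrfl Lrfl
theorem f253637 : Led Lsl_gt (LP (LK LD1_c10 LD2_c11 LD3_c47)) = (LP (LK LD1_c5 LD2_c10 LD3_c33)) :=
  Lre_g IH (LK LD1_c10 LD2_c11 LD3_c47) (LK LD1_c5 LD2_c10 LD3_c33) Lrfl Lrfl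
theorem f337627 : Led Lsl_ct (LP (LK LD1_c16 LD2_c34 LD3_c43)) = (LP (LK LD1_c10 LD2_c11 LD3_c47)) :=
  Lgr Lrot152 (Lpe (f331328 IH) (Lpe (f331320 IH) (Lpe (f337609 IH) (Lpr_ct (f337615 IH) (Lpr_gt (f253638 IH) (Lpr_ct (f228012 IH) (Lpe (K14.f253610 IH) (Lpe (f253617 IH) (Lpe (f253637 IH) (Lpn (LP (LK LD1_c10 LD2_c11 LD3_c47))))))))))))
theorem f253527 : Led Lsl_gt (LP (LK LD1_c1 LD2_c13 LD3_c11)) = (LP (LK LD1_c2 LD2_c32 LD3_c24)) :=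
  Lre_g IH (LK LD1_c1 LD2_c13 LD3_c11) (LK LD1_c2 LD2_c32 LD3_c24) Lrfl Lrfl
theorem f336037 : Led Lsl_bt (LP (LK LD1_c5 LD2_c10 LD3_c47)) = (LP (LK LD1_c2 LD2_c32 LD3_c24)) :=
  Lre_b IH (LK LD1_c5 LD2_c10 LD3_c47) (LK LD1_c2 LD2_c32 LD3_c24) Lrfl Lrfl
theorem f336040 : Led Lsl_ct (LP (LK LD1_c5 LD2_c10 LD3_c47)) = (LP (LK LD1_c10 LD2_c12 LD3_c12)) :=
  Lre_c IH (LK LD1_c5 LD2_c10 LD3_c47) (LK LD1_c10 LD2_c12 LD3_c12) Lrfl Lrfl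
theorem f337638 : Led Lsl_gf (LP (LK LD1_c9 LD2_c54 LD3_c6)) = (LP (LK LD1_c10 LD2_c12 LD3_c12)) :=
  Lgr Lrot126 (Lpe (K14.f190521 IH) (Lpe (K14.f190467 IH) (Lpr_gt (f331328 IH) (Lpr_ct (f337627 IH) (Lpr_gt (f253637 IH) (Lpe (K21.f312521 IH) (Lpr_bt (K21.f248711 IH) (Lpr_gt (f253527 IH) (Lpe (f336037 IH) (Lpr_ct (f336040 IH) (Lpn (LP (LK LD1_c10 LD2_c12 LD3_c12)))))))))))))
theorem f322831 : Led Lsl_cf (LP (LK LD1_c8 LD2_c38 LD3_c50)) = (LP (LK LD1_c11 LD2_c57 LD3_c19)) :=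
  Lgr Lrot108 (Lpe (K20.f320767 IH) (Lpr_ct (K20.f320889 IH) (Lpr_ft (K20.f322823 IH) (Lpn (LP (LK LD1_c11 LD2_c57 LD3_c19))))))
theorem f337642 : Led Lsl_gt (LP (LK LD1_c5 LD2_c0 LD3_c50)) = (LP (LK LD1_c5 LD2_c10 LD3_c47)) :=
  Lgr Lrot9 (Lpe (K16.f246940 IH) (Lpr_gt (K20.f246981 IH) (Lpr_ct (K20.f177593 IH) (Lpr_gt (K20.f191294 IH) (Lpe (f322831 IH) (Lpe (K20.f320769 IH) (Lpr_cf (K14.f190524 IH) (Lpr_gf (f337638 IH) (Lpe (f336040 IH) (Lpn (LP (LK LD1_c5 LD2_c10 LD3_c47))))))))))))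
theorem f336035 : Led Lsl_bt (LP (LK LD1_c2 LD2_c32 LD3_c24)) = (LP (LK LD1_c5 LD2_c10 LD3_c47)) :=
  Lre_b IH (LK LD1_c2 LD2_c32 LD3_c24) (LK LD1_c5 LD2_c10 LD3_c47) Lrfl Lrfl
theorem f326928 : Led Lsl_ct (LP (LK LD1_c2 LD2_c32 LD3_c24)) = (LP (LK LD1_c5 LD2_c10 LD3_c48)) :=
  Lre_c IH (LK LD1_c2 LD2_c32 LD3_c24) (LK LD1_c5 LD2_c10 LD3_c48) Lrfl Lrfl
theorem f226719 : Led Lsl_ct (LP (LK LD1_c6 LD2_c5 LD3_c58)) = (LP (LK LD1_c2 LD2_c59 LD3_c5)) :=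
  Lre_c IH (LK LD1_c6 LD2_c5 LD3_c58) (LK LD1_c2 LD2_c59 LD3_c5) Lrfl Lrfl
theorem f170029 : Led Lsl_cf (LP (LK LD1_c2 LD2_c34 LD3_c59)) = (LP (LK LD1_c5 LD2_c4 LD3_c11)) :=
  Lgr Lrot11 (Lpr_ct (f170012 IH) (Lpn (LP (LK LD1_c5 LD2_c4 LD3_c11))))
theorem f336021 : Led Lsl_gt (LP (LK LD1_c5 LD2_c10 LD3_c48)) = (LP (LK LD1_c5 LD2_c4 LD3_c11)) :=
  Lgr Lrot150 (Lpe (f326928 IH) (Lpe (f253527 IH) (Lpe (K19.f253538 IH) (Lpe (K21.f326923 IH) (Lpr_ct (f177558 IH) (Lpr_gt (f336015 IH) (Lpr_ct (f226719 IH) (Lpe (f333366 IH) (Lpr_cf (f170029 IH) (Lpn (LP (LK LD1_c5 LD2_c4 LD3_c11))))))))))))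
theorem f170033 : Led Lsl_bt (LP (LK LD1_c2 LD2_c34 LD3_c59)) = (LP (LK LD1_c5 LD2_c16 LD3_c22)) :=
  Lre_b IH (LK LD1_c2 LD2_c34 LD3_c59) (LK LD1_c5 LD2_c16 LD3_c22) Lrfl Lrfl
theorem f230589 : Led Lsl_gt (LP (LK LD1_c8 LD2_c52 LD3_c13)) = (LP (LK LD1_c4 LD2_c27 LD3_c15)) :=
  Lre_g IH (LK LD1_c8 LD2_c52 LD3_c13) (LK LD1_c4 LD2_c27 LD3_c15) Lrfl Lrfl
theorem f247580 : Led Lsl_gt (LP (LK LD1_c5 LD2_c16 LD3_c22)) = (LP (LK LD1_c8 LD2_c52 LD3_c13)) :=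
  Lgr Lrot5 (Lpr_ft (K14.f247577 IH) (Lpr_at (K14.f247571 IH) (Lpe (f230589 IH) (Lpn (LP (LK LD1_c8 LD2_c52 LD3_c13))))))
theorem f247582 : Led Lsl_ct (LP (LK LD1_c8 LD2_c52 LD3_c13)) = (LP (LK LD1_c16 LD2_c35 LD3_c4)) :=
  Lre_c IH (LK LD1_c8 LD2_c52 LD3_c13) (LK LD1_c16 LD2_c35 LD3_c4) Lrfl Lrfl
theorem f246988 : Led Lsl_ct (LP (LK LD1_c11 LD2_c3 LD3_c12)) = (LP (LK LD1_c5 LD2_c35 LD3_c32)) :=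
  Lre_c IH (LK LD1_c11 LD2_c3 LD3_c12) (LK LD1_c5 LD2_c35 LD3_c32) Lrfl Lrfl
theorem f284776 : Led Lsl_et (LP (LK LD1_c4 LD2_c27 LD3_c16)) = (LP (LK LD1_c8 LD2_c52 LD3_c17)) :=
  Lre_e IH (LK LD1_c4 LD2_c27 LD3_c16) (LK LD1_c8 LD2_c52 LD3_c17) Lrfl Lrfl
theorem f284777 : Led Lsl_ct (LP (LK LD1_c8 LD2_c52 LD3_c17)) = (LP (LK LD1_c9 LD2_c39 LD3_c24)) :=
  Lgr Lrot15 (Lpe (f284776 IH) (Lpr_cf (K17.f284766 IH) (Lpe (K16.f44449 IH) (Lpn (LP (LK LD1_c9 LD2_c39 LD3_c24))))))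
theorem f336013 : Led Lsl_gf (LP (LK LD1_c8 LD2_c52 LD3_c17)) = (LP (LK LD1_c16 LD2_c35 LD3_c4)) :=
  Lgr Lrot104 (Lpr_ct (f284777 IH) (Lpe (K16.f246976 IH) (Lpe (f246988 IH) (Lpe (f246991 IH) (Lpe (f335418 IH) (Lpr_gf (f336011 IH) (Lpe (K20.f315974 IH) (Lpr_gt (f247580 IH) (Lpr_ct (f247582 IH) (Lpn (LP (LK LD1_c16 LD2_c35 LD3_c4))))))))))))
theorem f337658 : Led Lsl_ct (LP (LK LD1_c9 LD2_c39 LD3_c24)) = (LP (LK LD1_c8 LD2_c52 LD3_c17)) :=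
  Lgr Lrot63 (Lpr_bt (K16.f229047 IH) (Lpr_gt (f337642 IH) (Lpe (f336035 IH) (Lpr_ct (f326928 IH) (Lpr_gt (f336021 IH) (Lpe (f170012 IH) (Lpr_bt (f170033 IH) (Lpr_gt (f247580 IH) (Lpr_ct (f247582 IH) (Lpe (f336013 IH) (Lpn (LP (LK LD1_c8 LD2_c52 LD3_c17)))))))))))))
theorem f337665 : Led Lsl_bf (LP (LK LD1_c16 LD2_c34 LD3_c43)) = (LP (LK LD1_c8 LD2_c52 LD3_c13)) :=
  Lgr Lrot34 (Lpe (f331328 IH) (Lpr_bf (K14.f190467 IH) (Lpr_ct (K14.f190521 IH) (Lpr_gf (f337638 IH) (Lpe (f336040 IH) (Lpe (f337642 IH) (Lpe (K16.f229047 IH) (Lpr_ct (f337658 IH) (Lpr_gf (f336013 IH) (Lpe (f247582 IH) (Lpn (LP (LK LD1_c8 LD2_c52 LD3_c13)))))))))))))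
theorem f329897 : Led Lsl_dt (LP (LK LD1_c16 LD2_c34 LD3_c43)) = (LP (LK LD1_c16 LD2_c42 LD3_c37)) :=
  Lgr Lrot42 (Lpr_df (f329895 IH) (Lpn (LP (LK LD1_c16 LD2_c42 LD3_c37))))
theorem f320455 : Led Lsl_bt (LP (LK LD1_c16 LD2_c42 LD3_c37)) = (LP (LK LD1_c8 LD2_c55 LD3_c39)) :=
  Lre_b IH (LK LD1_c16 LD2_c42 LD3_c37) (LK LD1_c8 LD2_c55 LD3_c39) Lrfl Lrfl
theorem f337672 : Led Lsl_dt (LP (LK LD1_c8 LD2_c55 LD3_c39)) = (LP (LK LD1_c8 LD2_c52 LD3_c13)) :=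
  Lgr Lrot79 (Lpe (f320455 IH) (Lpe (f329897 IH) (Lpr_bf (f337665 IH) (Lpn (LP (LK LD1_c8 LD2_c52 LD3_c13))))))
theorem f199134 : Led Lsl_et (LP (LK LD1_c8 LD2_c55 LD3_c39)) = (LP (LK LD1_c4 LD2_c28 LD3_c41)) :=
  Lre_e IH (LK LD1_c8 LD2_c55 LD3_c39) (LK LD1_c4 LD2_c28 LD3_c41) Lrfl Lrfl
theorem f178583 : Led Lsl_bt (LP (LK LD1_c4 LD2_c10 LD3_c22)) = (LP (LK LD1_c2 LD2_c2 LD3_c32)) :=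
  Lre_b IH (LK LD1_c4 LD2_c10 LD3_c22) (LK LD1_c2 LD2_c2 LD3_c32) Lrfl Lrfl
theorem f178585 : Led Lsl_df (LP (LK LD1_c4 LD2_c10 LD3_c22)) = (LP (LK LD1_c5 LD2_c18 LD3_c35)) :=
  Lgr Lrot12 (Lpr_bt (f178583 IH) (Lpr_dt (K9.f178550 IH) (Lpr_bt (f178584 IH) (Lpn (LP (LK LD1_c5 LD2_c18 LD3_c35))))))
theorem f315965 : Led Lsl_df (LP (LK LD1_c5 LD2_c16 LD3_c22)) = (LP (LK LD1_c6 LD2_c4 LD3_c53)) :=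
  Lgr Lrot70 (Lpe (K21.f248432 IH) (Lpe (f178585 IH) (Lpe (K12.f231073 IH) (Lpr_dt (K12.f7784 IH) (Lpr_et (K20.f315961 IH) (Lpn (LP (LK LD1_c6 LD2_c4 LD3_c53))))))))
theorem f310503 : Led Lsl_dt (LP (LK LD1_c8 LD2_c34 LD3_c38)) = (LP (LK LD1_c4 LD2_c17 LD3_c45)) :=
  Lre_d IH (LK LD1_c8 LD2_c34 LD3_c38) (LK LD1_c4 LD2_c17 LD3_c45) Lrfl Lrfl
theorem f329955 : Led Lsl_ef (LP (LK LD1_c8 LD2_c55 LD3_c41)) = (LP (LK LD1_c8 LD2_c53 LD3_c24)) :=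
  Lgr Lrot73 (Lpr_dt (f41586 IH) (Lpr_et (f329950 IH) (Lpr_dt (f310503 IH) (Lpr_et (f329954 IH) (Lpe (K21.f310495 IH) (Lpn (LP (LK LD1_c8 LD2_c53 LD3_c24))))))))
theorem f329966 : Led Lsl_et (LP (LK LD1_c8 LD2_c55 LD3_c41)) = (LP (LK LD1_c8 LD2_c53 LD3_c24)) :=
  Lgr Lrot87 (Lpr_ef (f329955 IH) (Lpn (LP (LK LD1_c8 LD2_c53 LD3_c24))))
theorem f329974 : Led Lsl_gf (LP (LK LD1_c4 LD2_c28 LD3_c42)) = (LP (LK LD1_c6 LD2_c4 LD3_c33)) :=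
  Lgr Lrot145 (Lpe (f41586 IH) (Lpr_et (f329966 IH) (Lpe (f329962 IH) (Lpe (K20.f7770 IH) (Lpr_gt (K20.f315941 IH) (Lpe (K20.f315936 IH) (Lpr_et (K20.f283377 IH) (Lpr_gt (K10.f41810 IH) (Lpe (K1.f41708 IH) (Lpe (K1.f41608 IH) (Lpn (LP (LK LD1_c6 LD2_c4 LD3_c33)))))))))))))
theorem f337684 : Led Lsl_gt (LP (LK LD1_c4 LD2_c28 LD3_c41)) = (LP (LK LD1_c6 LD2_c4 LD3_c33)) :=
  Lgr Lrot137 (Lpe (f199134 IH) (Lpr_dt (f337672 IH) (Lpe (f247580 IH) (Lpr_df (f315965 IH) (Lpe (f315967 IH) (Lpr_gf (f329962 IH) (Lpe (f329966 IH) (Lpr_dt (f41586 IH) (Lpr_gf (f329974 IH) (Lpr_df (K1.f41608 IH) (Lpn (LP (LK LD1_c6 LD2_c4 LD3_c33)))))))))))))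
theorem f54564 : Led Lsl_gt (LP (LK LD1_c15 LD2_c1 LD3_c13)) = (LP (LK LD1_c15 LD2_c29 LD3_c31)) :=
  Lgr Lrot5 (Lpr_ft (K1.f54545 IH) (Lpr_at (K21.f47886 IH) (Lpe (f47897 IH) (Lpn (LP (LK LD1_c15 LD2_c29 LD3_c31))))))
theorem f337686 : Led Lsl_bt (LP (LK LD1_c5 LD2_c20 LD3_c24)) = (LP (LK LD1_c6 LD2_c4 LD3_c33)) :=
  Lgr Lrot92 (Lpr_ct (K19.f41483 IH) (Lpr_gt (K19.f215437 IH) (Lpe (K19.f309833 IH) (Lpe (K19.f309834 IH) (Lpe (K19.f55000 IH) (Lpr_ct (K1.f41116 IH) (Lpr_gt (f54564 IH) (Lpe (f320441 IH) (Lpr_bt (f320440 IH) (Lpr_gt (f337684 IH) (Lpn (LP (LK LD1_c6 LD2_c4 LD3_c33)))))))))))))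
theorem f41507 : Led Lsl_gt (LP (LK LD1_c5 LD2_c25 LD3_c39)) = (LP (LK LD1_c10 LD2_c30 LD3_c52)) :=
  Lre_g IH (LK LD1_c5 LD2_c25 LD3_c39) (LK LD1_c10 LD2_c30 LD3_c52) Lrfl Lrfl
theorem f41508 : Led Lsl_ct (LP (LK LD1_c10 LD2_c42 LD3_c31)) = (LP (LK LD1_c5 LD2_c25 LD3_c39)) :=
  Lre_c IH (LK LD1_c10 LD2_c42 LD3_c31) (LK LD1_c5 LD2_c25 LD3_c39) Lrfl Lrfl
theorem f337688 : Led Lsl_gf (LP (LK LD1_c10 LD2_c42 LD3_c31)) = (LP (LK LD1_c5 LD2_c38 LD3_c51)) :=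
  Lgr Lrot181 (Lpr_ct (f41508 IH) (Lpr_gt (f41507 IH) (Lpe (K19.f41483 IH) (Lpr_bt (f337686 IH) (Lpe (f329974 IH) (Lpr_bf (f329942 IH) (Lpr_ct (f323725 IH) (Lpr_gt (f52887 IH) (Lpr_cf (K19.f224234 IH) (Lpr_bt (K14.f194667 IH) (Lpn (LP (LK LD1_c5 LD2_c38 LD3_c51)))))))))))))
theorem f337775 : Led Lsl_gt (LP (LK LD1_c10 LD2_c42 LD3_c31)) = (LP (LK LD1_c10 LD2_c9 LD3_c36)) :=
  Lgr Lrot46 (Lpr_gf (f337688 IH) (Lpe (K12.f196839 IH) (Lpe (K12.f195940 IH) (Lpn (LP (LK LD1_c10 LD2_c9 LD3_c36))))))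
theorem f337694 : Led Lsl_ct (LP (LK LD1_c5 LD2_c25 LD3_c39)) = (LP (LK LD1_c10 LD2_c42 LD3_c31)) :=
  Lre_c IH (LK LD1_c5 LD2_c25 LD3_c39) (LK LD1_c10 LD2_c42 LD3_c31) Lrfl Lrfl
theorem f221674 : Led Lsl_gt (LP (LK LD1_c2 LD2_c39 LD3_c15)) = (LP (LK LD1_c5 LD2_c25 LD3_c39)) :=
  Lre_g IH (LK LD1_c2 LD2_c39 LD3_c15) (LK LD1_c5 LD2_c25 LD3_c39) Lrfl Lrfl
theorem f337777 : Led Lsl_bt (LP (LK LD1_c5 LD2_c25 LD3_c28)) = (LP (LK LD1_c2 LD2_c39 LD3_c15)) :=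
  Lre_b IH (LK LD1_c5 LD2_c25 LD3_c28) (LK LD1_c2 LD2_c39 LD3_c15) Lrfl Lrfl
theorem f337778 : Led Lsl_ct (LP (LK LD1_c5 LD2_c25 LD3_c28)) = (LP (LK LD1_c2 LD2_c43 LD3_c13)) :=
  Lre_c IH (LK LD1_c5 LD2_c25 LD3_c28) (LK LD1_c2 LD2_c43 LD3_c13) Lrfl Lrfl
theorem f337779 : Led Lsl_gt (LP (LK LD1_c5 LD2_c34 LD3_c35)) = (LP (LK LD1_c2 LD2_c43 LD3_c13)) :=
  Lre_g IH (LK LD1_c5 LD2_c34 LD3_c35) (LK LD1_c2 LD2_c43 LD3_c13) Lrfl Lrfl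
theorem f224606 : Led Lsl_ct (LP (LK LD1_c11 LD2_c1 LD3_c28)) = (LP (LK LD1_c5 LD2_c34 LD3_c35)) :=
  Lre_c IH (LK LD1_c11 LD2_c1 LD3_c28) (LK LD1_c5 LD2_c34 LD3_c35) Lrfl Lrfl
theorem f224607 : Led Lsl_bt (LP (LK LD1_c11 LD2_c1 LD3_c28)) = (LP (LK LD1_c19 LD2_c52 LD3_c47)) :=
  Lre_b IH (LK LD1_c11 LD2_c1 LD3_c28) (LK LD1_c19 LD2_c52 LD3_c47) Lrfl Lrfl
theorem f231395 : Led Lsl_et (LP (LK LD1_c8 LD2_c53 LD3_c54)) = (LP (LK LD1_c16 LD2_c38 LD3_c33)) :=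
  Lre_e IH (LK LD1_c8 LD2_c53 LD3_c54) (LK LD1_c16 LD2_c38 LD3_c33) Lrfl Lrfl
theorem f231396 : Led Lsl_cf (LP (LK LD1_c10 LD2_c9 LD3_c36)) = (LP (LK LD1_c16 LD2_c38 LD3_c33)) :=
  Lgr Lrot39 (Lpr_et (K12.f195839 IH) (Lpr_ct (K13.f231384 IH) (Lpr_et (f231395 IH) (Lpn (LP (LK LD1_c16 LD2_c38 LD3_c33))))))
theorem f310397 : Led Lsl_bt (LP (LK LD1_c16 LD2_c38 LD3_c33)) = (LP (LK LD1_c26 LD2_c36 LD3_c47)) :=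
  Lre_b IH (LK LD1_c16 LD2_c38 LD3_c33) (LK LD1_c26 LD2_c36 LD3_c47) Lrfl Lrfl
theorem f337780 : Led Lsl_gf (LP (LK LD1_c19 LD2_c52 LD3_c47)) = (LP (LK LD1_c26 LD2_c36 LD3_c47)) :=
  Lgr Lrot124 (Lpe (f224607 IH) (Lpr_ct (f224606 IH) (Lpr_gt (f337779 IH) (Lpe (f337778 IH) (Lpr_bt (f337777 IH) (Lpr_gt (f221674 IH) (Lpr_ct (f337694 IH) (Lpr_gt (f337775 IH) (Lpr_cf (f231396 IH) (Lpr_bt (f310397 IH) (Lpn (LP (LK LD1_c26 LD2_c36 LD3_c47)))))))))))))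
theorem f196854 : Led Lsl_bt (LP (LK LD1_c10 LD2_c38 LD3_c61)) = (LP (LK LD1_c5 LD2_c24 LD3_c8)) :=
  Lre_b IH (LK LD1_c10 LD2_c38 LD3_c61) (LK LD1_c5 LD2_c24 LD3_c8) Lrfl Lrfl
theorem f224584 : Led Lsl_bt (LP (LK LD1_c10 LD2_c31 LD3_c30)) = (LP (LK LD1_c19 LD2_c4 LD3_c25)) :=
  Lre_b IH (LK LD1_c10 LD2_c31 LD3_c30) (LK LD1_c19 LD2_c4 LD3_c25) Lrfl Lrfl
theorem f224585 : Led Lsl_at (LP (LK LD1_c19 LD2_c4 LD3_c25)) = (LP (LK LD1_c28 LD2_c30 LD3_c40)) :=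
  Lre_a IH (LK LD1_c19 LD2_c4 LD3_c25) (LK LD1_c28 LD2_c30 LD3_c40) Lrfl Lrfl
theorem f224586 : Led Lsl_bf (LP (LK LD1_c19 LD2_c17 LD3_c24)) = (LP (LK LD1_c28 LD2_c30 LD3_c40)) :=
  Lgr Lrot81 (Lpr_at (K10.f196863 IH) (Lpr_bt (f196854 IH) (Lpr_at (f224580 IH) (Lpr_bt (f224584 IH) (Lpr_at (f224585 IH) (Lpn (LP (LK LD1_c28 LD2_c30 LD3_c40))))))))
theorem f224620 : Led Lsl_bt (LP (LK LD1_c19 LD2_c17 LD3_c24)) = (LP (LK LD1_c28 LD2_c30 LD3_c40)) :=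
  Lgr Lrot127 (Lpr_bf (f224586 IH) (Lpn (LP (LK LD1_c28 LD2_c30 LD3_c40))))
theorem f52883 : Led Lsl_gt (LP (LK LD1_c15 LD2_c54 LD3_c43)) = (LP (LK LD1_c25 LD2_c50 LD3_c54)) :=
  Lre_g IH (LK LD1_c15 LD2_c54 LD3_c43) (LK LD1_c25 LD2_c50 LD3_c54) Lrfl Lrfl
theorem f52858 : Led Lsl_gt (LP (LK LD1_c25 LD2_c50 LD3_c54)) = (LP (LK LD1_c15 LD2_c54 LD3_c51)) :=
  Lre_g IH (LK LD1_c25 LD2_c50 LD3_c54) (LK LD1_c15 LD2_c54 LD3_c51) Lrfl Lrfl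
theorem f42361 : Led Lsl_ct (LP (LK LD1_c5 LD2_c25 LD3_c47)) = (LP (LK LD1_c2 LD2_c39 LD3_c17)) :=
  Lre_c IH (LK LD1_c5 LD2_c25 LD3_c47) (LK LD1_c2 LD2_c39 LD3_c17) Lrfl Lrfl
theorem f41490 : Led Lsl_ct (LP (LK LD1_c2 LD2_c39 LD3_c15)) = (LP (LK LD1_c1 LD2_c16 LD3_c25)) :=
  Lre_c IH (LK LD1_c2 LD2_c39 LD3_c15) (LK LD1_c1 LD2_c16 LD3_c25) Lrfl Lrfl
theorem f224594 : Led Lsl_bt (LP (LK LD1_c2 LD2_c39 LD3_c15)) = (LP (LK LD1_c5 LD2_c25 LD3_c28)) :=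
  Lre_b IH (LK LD1_c2 LD2_c39 LD3_c15) (LK LD1_c5 LD2_c25 LD3_c28) Lrfl Lrfl
theorem f224595 : Led Lsl_gt (LP (LK LD1_c5 LD2_c25 LD3_c28)) = (LP (LK LD1_c10 LD2_c42 LD3_c0)) :=
  Lre_g IH (LK LD1_c5 LD2_c25 LD3_c28) (LK LD1_c10 LD2_c42 LD3_c0) Lrfl Lrfl
theorem f224596 : Led Lsl_bt (LP (LK LD1_c19 LD2_c22 LD3_c15)) = (LP (LK LD1_c10 LD2_c42 LD3_c0)) :=
  Lre_b IH (LK LD1_c19 LD2_c22 LD3_c15) (LK LD1_c10 LD2_c42 LD3_c0) Lrfl Lrfl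
theorem f224597 : Led Lsl_cf (LP (LK LD1_c25 LD2_c50 LD3_c54)) = (LP (LK LD1_c19 LD2_c22 LD3_c15)) :=
  Lgr Lrot160 (Lpr_gt (f52858 IH) (Lpe (K19.f189327 IH) (Lpr_bt (K10.f189335 IH) (Lpr_gt (f224592 IH) (Lpr_ct (f42361 IH) (Lpr_gt (K17.f42213 IH) (Lpe (f41490 IH) (Lpr_bt (f224594 IH) (Lpr_gt (f224595 IH) (Lpe (f224596 IH) (Lpn (LP (LK LD1_c19 LD2_c22 LD3_c15)))))))))))))
theorem f8782 : Led Lsl_gt (LP (LK LD1_c10 LD2_c42 LD3_c0)) = (LP (LK LD1_c19 LD2_c9 LD3_c31)) :=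
  Lre_g IH (LK LD1_c10 LD2_c42 LD3_c0) (LK LD1_c19 LD2_c9 LD3_c31) Lrfl Lrfl
theorem f8781 : Led Lsl_ct (LP (LK LD1_c19 LD2_c9 LD3_c31)) = (LP (LK LD1_c10 LD2_c45 LD3_c10)) :=
  Lre_c IH (LK LD1_c19 LD2_c9 LD3_c31) (LK LD1_c10 LD2_c45 LD3_c10) Lrfl Lrfl
theorem f8726 : Led Lsl_gt (LP (LK LD1_c10 LD2_c45 LD3_c10)) = (LP (LK LD1_c5 LD2_c34 LD3_c35)) :=
  Lre_g IH (LK LD1_c10 LD2_c45 LD3_c10) (LK LD1_c5 LD2_c34 LD3_c35) Lrfl Lrfl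
theorem f224626 : Led Lsl_gt (LP (LK LD1_c19 LD2_c52 LD3_c47)) = (LP (LK LD1_c28 LD2_c30 LD3_c40)) :=
  Lgr Lrot164 (Lpe (f224607 IH) (Lpr_ct (f224606 IH) (Lpe (f8726 IH) (Lpe (f8781 IH) (Lpe (f8782 IH) (Lpe (f224596 IH) (Lpe (f224597 IH) (Lpe (f52883 IH) (Lpr_cf (K10.f196885 IH) (Lpr_bt (f224620 IH) (Lpn (LP (LK LD1_c28 LD2_c30 LD3_c40)))))))))))))
theorem f337841 : Led Lsl_ff (LP (LK LD1_c19 LD2_c4 LD3_c25)) = (LP (LK LD1_c26 LD2_c36 LD3_c47)) :=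
  Lgr Lrot52 (Lpr_at (f224585 IH) (Lpe (f224626 IH) (Lpr_gf (f337780 IH) (Lpn (LP (LK LD1_c26 LD2_c36 LD3_c47))))))
theorem f337850 : Led Lsl_ft (LP (LK LD1_c19 LD2_c4 LD3_c25)) = (LP (LK LD1_c26 LD2_c36 LD3_c47)) :=
  Lgr Lrot48 (Lpr_ff (f337841 IH) (Lpn (LP (LK LD1_c26 LD2_c36 LD3_c47))))
theorem f221144 : Led Lsl_et (LP (LK LD1_c5 LD2_c31 LD3_c4)) = (LP (LK LD1_c10 LD2_c53 LD3_c42)) :=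
  Lre_e IH (LK LD1_c5 LD2_c31 LD3_c4) (LK LD1_c10 LD2_c53 LD3_c42) Lrfl Lrfl
theorem f224452 : Led Lsl_et (LP (LK LD1_c19 LD2_c4 LD3_c25)) = (LP (LK LD1_c10 LD2_c31 LD3_c29)) :=
  Lre_e IH (LK LD1_c19 LD2_c4 LD3_c25) (LK LD1_c10 LD2_c31 LD3_c29) Lrfl Lrfl
theorem f224453 : Led Lsl_ct (LP (LK LD1_c10 LD2_c53 LD3_c42)) = (LP (LK LD1_c19 LD2_c4 LD3_c25)) :=
  Lgr Lrot15 (Lpe (f221144 IH) (Lpr_cf (K12.f224442 IH) (Lpe (f224452 IH) (Lpn (LP (LK LD1_c19 LD2_c4 LD3_c25))))))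
theorem f337855 : Led Lsl_cf (LP (LK LD1_c19 LD2_c25 LD3_c15)) = (LP (LK LD1_c26 LD2_c36 LD3_c47)) :=
  Lgr Lrot108 (Lpe (f221163 IH) (Lpr_ct (f224453 IH) (Lpr_ft (f337850 IH) (Lpn (LP (LK LD1_c26 LD2_c36 LD3_c47))))))
theorem f196079 : Led Lsl_bt (LP (LK LD1_c19 LD2_c25 LD3_c15)) = (LP (LK LD1_c10 LD2_c43 LD3_c58)) :=
  Lre_b IH (LK LD1_c19 LD2_c25 LD3_c15) (LK LD1_c10 LD2_c43 LD3_c58) Lrfl Lrfl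
theorem f337906 : Led Lsl_ct (LP (LK LD1_c10 LD2_c9 LD3_c36)) = (LP (LK LD1_c16 LD2_c38 LD3_c33)) :=
  Lgr Lrot83 (Lpr_bf (K14.f195942 IH) (Lpe (K21.f196075 IH) (Lpe (f196079 IH) (Lpr_cf (f337855 IH) (Lpe (f310397 IH) (Lpn (LP (LK LD1_c16 LD2_c38 LD3_c33))))))))
theorem f337908 : Led Lsl_af (LP (LK LD1_c10 LD2_c33 LD3_c46)) = (LP (LK LD1_c16 LD2_c38 LD3_c33)) :=
  Lgr Lrot68 (Lpr_ct (K10.f189299 IH) (Lpe (K12.f195940 IH) (Lpr_ct (f337906 IH) (Lpn (LP (LK LD1_c16 LD2_c38 LD3_c33))))))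
theorem f337917 : Led Lsl_at (LP (LK LD1_c10 LD2_c33 LD3_c46)) = (LP (LK LD1_c16 LD2_c38 LD3_c33)) :=
  Lgr Lrot100 (Lpr_af (f337908 IH) (Lpn (LP (LK LD1_c16 LD2_c38 LD3_c33))))
theorem f41658 : Led Lsl_gt (LP (LK LD1_c6 LD2_c5 LD3_c25)) = (LP (LK LD1_c11 LD2_c54 LD3_c23)) :=
  Lre_g IH (LK LD1_c6 LD2_c5 LD3_c25) (LK LD1_c11 LD2_c54 LD3_c23) Lrfl Lrfl
theorem f324135 : Led Lsl_cf (LP (LK LD1_c11 LD2_c54 LD3_c23)) = (LP (LK LD1_c15 LD2_c47 LD3_c35)) :=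
  Lgr Lrot58 (Lpe (f41658 IH) (Lpe (K1.f8604 IH) (Lpr_bt (K1.f8585 IH) (Lpr_gf (K19.f309784 IH) (Lpe (K21.f309789 IH) (Lpr_ct (K21.f309793 IH) (Lpe (K21.f310355 IH) (Lpe (K21.f27436 IH) (Lpe (K21.f27441 IH) (Lpr_bf (K21.f324129 IH) (Lpn (LP (LK LD1_c15 LD2_c47 LD3_c35)))))))))))))
theorem f41659 : Led Lsl_gf (LP (LK LD1_c8 LD2_c53 LD3_c15)) = (LP (LK LD1_c11 LD2_c54 LD3_c23)) :=
  Lgr Lrot76 (Lpe (K1.f41553 IH) (Lpr_ff (K1.f41634 IH) (Lpr_gt (f41658 IH) (Lpn (LP (LK LD1_c11 LD2_c54 LD3_c23))))))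
theorem f41465 : Led Lsl_gt (LP (LK LD1_c2 LD2_c37 LD3_c10)) = (LP (LK LD1_c5 LD2_c21 LD3_c9)) :=
  Lre_g IH (LK LD1_c2 LD2_c37 LD3_c10) (LK LD1_c5 LD2_c21 LD3_c9) Lrfl Lrfl
theorem f41469 : Led Lsl_ct (LP (LK LD1_c5 LD2_c21 LD3_c9)) = (LP (LK LD1_c10 LD2_c32 LD3_c26)) :=
  Lre_c IH (LK LD1_c5 LD2_c21 LD3_c9) (LK LD1_c10 LD2_c32 LD3_c26) Lrfl Lrfl
theorem f337910 : Led Lsl_gt (LP (LK LD1_c10 LD2_c32 LD3_c26)) = (LP (LK LD1_c16 LD2_c38 LD3_c33)) :=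
  Lgr Lrot149 (Lpe (f41469 IH) (Lpe (f41465 IH) (Lpe (K1.f41445 IH) (Lpr_ct (K1.f41545 IH) (Lpr_gf (f41659 IH) (Lpr_cf (f324135 IH) (Lpe (K21.f324129 IH) (Lpr_gf (K21.f189702 IH) (Lpe (f195946 IH) (Lpr_ct (f337906 IH) (Lpn (LP (LK LD1_c16 LD2_c38 LD3_c33)))))))))))))
theorem f337919 : Led Lsl_gt (LP (LK LD1_c5 LD2_c24 LD3_c8)) = (LP (LK LD1_c10 LD2_c32 LD3_c26)) :=
  Lgr Lrot5 (Lpe (K10.f196852 IH) (Lpr_at (f337917 IH) (Lpe (f337910 IH) (Lpn (LP (LK LD1_c10 LD2_c32 LD3_c26))))))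
theorem f337924 : Led Lsl_bf (LP (LK LD1_c8 LD2_c39 LD3_c44)) = (LP (LK LD1_c5 LD2_c21 LD3_c9)) :=
  Lgr Lrot156 (Lpr_gt (K17.f31223 IH) (Lpe (K20.f31227 IH) (Lpr_ct (K21.f31245 IH) (Lpe (K21.f324298 IH) (Lpe (K21.f47896 IH) (Lpr_bt (K21.f309846 IH) (Lpe (K21.f310393 IH) (Lpr_ct (K10.f194674 IH) (Lpr_gt (f337919 IH) (Lpe (f41469 IH) (Lpn (LP (LK LD1_c5 LD2_c21 LD3_c9)))))))))))))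
theorem f295236 : Led Lsl_gt (LP (LK LD1_c10 LD2_c46 LD3_c0)) = (LP (LK LD1_c5 LD2_c27 LD3_c28)) :=
  Lre_g IH (LK LD1_c10 LD2_c46 LD3_c0) (LK LD1_c5 LD2_c27 LD3_c28) Lrfl Lrfl
theorem f337937 : Led Lsl_cf (LP (LK LD1_c10 LD2_c46 LD3_c0)) = (LP (LK LD1_c8 LD2_c27 LD3_c16)) :=
  Lgr Lrot125 (Lpr_gt (f295236 IH) (Lpe (K18.f295210 IH) (Lpe (K21.f295407 IH) (Lpr_gt (K17.f235613 IH) (Lpr_bf (f337924 IH) (Lpr_ct (f41469 IH) (Lpr_gt (f337910 IH) (Lpe (f337906 IH) (Lpr_bt (f195946 IH) (Lpe (K21.f189702 IH) (Lpn (LP (LK LD1_c8 LD2_c27 LD3_c16)))))))))))))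
theorem f188625 : Led Lsl_et (LP (LK LD1_c8 LD2_c56 LD3_c25)) = (LP (LK LD1_c4 LD2_c29 LD3_c2)) :=
  Lre_e IH (LK LD1_c8 LD2_c56 LD3_c25) (LK LD1_c4 LD2_c29 LD3_c2) Lrfl Lrfl
theorem f45270 : Led Lsl_ft (LP (LK LD1_c2 LD2_c4 LD3_c61)) = (LP (LK LD1_c4 LD2_c15 LD3_c17)) :=
  Lre_f IH (LK LD1_c2 LD2_c4 LD3_c61) (LK LD1_c4 LD2_c15 LD3_c17) Lrfl Lrfl
theorem f188935 : Led Lsl_ff (LP (LK LD1_c8 LD2_c56 LD3_c25)) = (LP (LK LD1_c8 LD2_c29 LD3_c33)) :=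
  Lgr Lrot72 (Lpr_et (f188625 IH) (Lpr_ft (K12.f188928 IH) (Lpr_et (K21.f54360 IH) (Lpr_ft (f45270 IH) (Lpr_et (K10.f45211 IH) (Lpn (LP (LK LD1_c8 LD2_c29 LD3_c33))))))))
theorem f295261 : Led Lsl_gt (LP (LK LD1_c8 LD2_c29 LD3_c33)) = (LP (LK LD1_c10 LD2_c46 LD3_c0)) :=
  Lgr Lrot5 (Lpe (f188935 IH) (Lpr_at (K18.f295248 IH) (Lpe (f295236 IH) (Lpn (LP (LK LD1_c10 LD2_c46 LD3_c0))))))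
theorem f320443 : Led Lsl_bt (LP (LK LD1_c4 LD2_c28 LD3_c41)) = (LP (LK LD1_c8 LD2_c55 LD3_c36)) :=
  Lre_b IH (LK LD1_c4 LD2_c28 LD3_c41) (LK LD1_c8 LD2_c55 LD3_c36) Lrfl Lrfl
theorem f41593 : Led Lsl_ct (LP (LK LD1_c4 LD2_c28 LD3_c41)) = (LP (LK LD1_c8 LD2_c55 LD3_c37)) :=
  Lre_c IH (LK LD1_c4 LD2_c28 LD3_c41) (LK LD1_c8 LD2_c55 LD3_c37) Lrfl Lrfl
theorem f324131 : Led Lsl_bt (LP (LK LD1_c8 LD2_c27 LD3_c16)) = (LP (LK LD1_c15 LD2_c47 LD3_c35)) :=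
  Lgr Lrot127 (Lpr_bf (K21.f324129 IH) (Lpn (LP (LK LD1_c15 LD2_c47 LD3_c35))))
theorem f337950 : Led Lsl_gf (LP (LK LD1_c8 LD2_c55 LD3_c37)) = (LP (LK LD1_c15 LD2_c19 LD3_c8)) :=
  Lgr Lrot129 (Lpe (f41593 IH) (Lpr_bt (f320443 IH) (Lpe (f329880 IH) (Lpe (K10.f45597 IH) (Lpr_ct (K10.f45536 IH) (Lpr_gt (f295261 IH) (Lpr_cf (f337937 IH) (Lpr_bt (f324131 IH) (Lpr_gt (K21.f219347 IH) (Lpe (K17.f220811 IH) (Lpn (LP (LK LD1_c15 LD2_c19 LD3_c8)))))))))))))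
theorem f337952 : Led Lsl_gt (LP (LK LD1_c8 LD2_c55 LD3_c37)) = (LP (LK LD1_c11 LD2_c53 LD3_c16)) :=
  Lgr Lrot46 (Lpr_gf (f337950 IH) (Lpr_ft (K17.f220838 IH) (Lpr_at (K10.f190141 IH) (Lpn (LP (LK LD1_c11 LD2_c53 LD3_c16))))))
theorem f180005 : Led Lsl_bt (LP (LK LD1_c2 LD2_c26 LD3_c1)) = (LP (LK LD1_c4 LD2_c56 LD3_c31)) :=
  Lre_b IH (LK LD1_c2 LD2_c26 LD3_c1) (LK LD1_c4 LD2_c56 LD3_c31) Lrfl Lrfl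
theorem f337964 : Led Lsl_gf (LP (LK LD1_c4 LD2_c56 LD3_c31)) = (LP (LK LD1_c4 LD2_c20 LD3_c29)) :=
  Lgr Lrot124 (Lpe (f180005 IH) (Lpe (f320420 IH) (Lpr_gt (f179206 IH) (Lpe (f7565 IH) (Lpr_bt (K1.f8586 IH) (Lpr_gt (f41587 IH) (Lpr_ct (f41593 IH) (Lpr_gt (f337952 IH) (Lpr_cf (K10.f182110 IH) (Lpr_bt (K10.f31083 IH) (Lpn (LP (LK LD1_c4 LD2_c20 LD3_c29)))))))))))))
theorem f180021 : Led Lsl_dt (LP (LK LD1_c9 LD2_c44 LD3_c32)) = (LP (LK LD1_c4 LD2_c56 LD3_c31)) :=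
  Lre_d IH (LK LD1_c9 LD2_c44 LD3_c32) (LK LD1_c4 LD2_c56 LD3_c31) Lrfl Lrfl
theorem f179978 : Led Lsl_et (LP (LK LD1_c2 LD2_c24 LD3_c31)) = (LP (LK LD1_c4 LD2_c53 LD3_c28)) :=
  Lre_e IH (LK LD1_c2 LD2_c24 LD3_c31) (LK LD1_c4 LD2_c53 LD3_c28) Lrfl Lrfl
theorem f180010 : Led Lsl_et (LP (LK LD1_c4 LD2_c19 LD3_c46)) = (LP (LK LD1_c4 LD2_c56 LD3_c32)) :=
  Lgr Lrot71 (Lpr_df (K13.f179972 IH) (Lpe (f179978 IH) (Lpe (K13.f167023 IH) (Lpr_ef (f180008 IH) (Lpe (K13.f54884 IH) (Lpn (LP (LK LD1_c4 LD2_c56 LD3_c32))))))))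
theorem f179979 : Led Lsl_bt (LP (LK LD1_c8 LD2_c37 LD3_c40)) = (LP (LK LD1_c4 LD2_c19 LD3_c46)) :=
  Lre_b IH (LK LD1_c8 LD2_c37 LD3_c40) (LK LD1_c4 LD2_c19 LD3_c46) Lrfl Lrfl
theorem f180012 : Led Lsl_bt (LP (LK LD1_c4 LD2_c56 LD3_c32)) = (LP (LK LD1_c9 LD2_c44 LD3_c32)) :=
  Lre_b IH (LK LD1_c4 LD2_c56 LD3_c32) (LK LD1_c9 LD2_c44 LD3_c32) Lrfl Lrfl
theorem f180013 : Led Lsl_ef (LP (LK LD1_c8 LD2_c37 LD3_c40)) = (LP (LK LD1_c9 LD2_c44 LD3_c32)) :=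
  Lgr Lrot29 (Lpr_bt (f179979 IH) (Lpr_et (f180010 IH) (Lpr_bt (f180012 IH) (Lpn (LP (LK LD1_c9 LD2_c44 LD3_c32))))))
theorem f337970 : Led Lsl_gt (LP (LK LD1_c8 LD2_c37 LD3_c40)) = (LP (LK LD1_c5 LD2_c35 LD3_c30)) :=
  Lgr Lrot137 (Lpr_ef (f180013 IH) (Lpr_dt (f180021 IH) (Lpr_gf (f337964 IH) (Lpe (K10.f31078 IH) (Lpr_et (K10.f31077 IH) (Lpr_gf (K13.f191285 IH) (Lpe (K19.f54511 IH) (Lpr_dt (K19.f238116 IH) (Lpr_gf (K21.f326429 IH) (Lpr_df (f317228 IH) (Lpn (LP (LK LD1_c5 LD2_c35 LD3_c30)))))))))))))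
theorem f177627 : Led Lsl_et (LP (LK LD1_c1 LD2_c25 LD3_c35)) = (LP (LK LD1_c2 LD2_c59 LD3_c47)) :=
  Lre_e IH (LK LD1_c1 LD2_c25 LD3_c35) (LK LD1_c2 LD2_c59 LD3_c47) Lrfl Lrfl
theorem f320598 : Led Lsl_gf (LP (LK LD1_c9 LD2_c52 LD3_c0)) = (LP (LK LD1_c5 LD2_c1 LD3_c39)) :=
  Lgr Lrot134 (Lpe (K16.f246930 IH) (Lpr_et (K16.f212892 IH) (Lpe (K14.f212884 IH) (Lpe (K10.f31076 IH) (Lpr_dt (K10.f28628 IH) (Lpe (K9.f182036 IH) (Lpe (K10.f177599 IH) (Lpr_et (f177627 IH) (Lpr_gt (K20.f177606 IH) (Lpr_dt (K20.f320582 IH) (Lpn (LP (LK LD1_c5 LD2_c1 LD3_c39)))))))))))))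
theorem f337974 : Led Lsl_ef (LP (LK LD1_c5 LD2_c35 LD3_c30)) = (LP (LK LD1_c6 LD2_c7 LD3_c15)) :=
  Lgr Lrot17 (Lpe (f337970 IH) (Lpr_ef (f180013 IH) (Lpr_dt (f180021 IH) (Lpr_gf (f337964 IH) (Lpe (K10.f31078 IH) (Lpr_gf (K14.f212884 IH) (Lpe (K16.f212892 IH) (Lpr_dt (K16.f246930 IH) (Lpr_gf (f320598 IH) (Lpe (K20.f320582 IH) (Lpn (LP (LK LD1_c6 LD2_c7 LD3_c15)))))))))))))
theorem f240357 : Led Lsl_df (LP (LK LD1_c15 LD2_c11 LD3_c50)) = (LP (LK LD1_c10 LD2_c8 LD3_c10)) :=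
  Lgr Lrot38 (Lpr_dt (f240355 IH) (Lpn (LP (LK LD1_c10 LD2_c8 LD3_c10))))
theorem f314610 : Led Lsl_dt (LP (LK LD1_c8 LD2_c4 LD3_c19)) = (LP (LK LD1_c9 LD2_c33 LD3_c58)) :=
  Lgr Lrot77 (Lpe (f193197 IH) (Lpr_df (f240357 IH) (Lpr_ef (f314606 IH) (Lpe (f238108 IH) (Lpr_ef (f238201 IH) (Lpn (LP (LK LD1_c9 LD2_c33 LD3_c58))))))))
theorem f170426 : Led Lsl_ft (LP (LK LD1_c8 LD2_c32 LD3_c7)) = (LP (LK LD1_c16 LD2_c1 LD3_c35)) :=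
  Lre_f IH (LK LD1_c8 LD2_c32 LD3_c7) (LK LD1_c16 LD2_c1 LD3_c35) Lrfl Lrfl
theorem f170507 : Led Lsl_ft (LP (LK LD1_c9 LD2_c52 LD3_c26)) = (LP (LK LD1_c5 LD2_c0 LD3_c61)) :=
  Lre_f IH (LK LD1_c9 LD2_c52 LD3_c26) (LK LD1_c5 LD2_c0 LD3_c61) Lrfl Lrfl
theorem f170508 : Led Lsl_dt (LP (LK LD1_c16 LD2_c1 LD3_c35)) = (LP (LK LD1_c9 LD2_c52 LD3_c26)) :=
  Lgr Lrot60 (Lpe (f170426 IH) (Lpr_df (K16.f170495 IH) (Lpe (f170507 IH) (Lpn (LP (LK LD1_c9 LD2_c52 LD3_c26))))))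
theorem f170524 : Led Lsl_df (LP (LK LD1_c16 LD2_c1 LD3_c35)) = (LP (LK LD1_c9 LD2_c52 LD3_c26)) :=
  Lgr Lrot38 (Lpr_dt (f170508 IH) (Lpn (LP (LK LD1_c9 LD2_c52 LD3_c26))))
theorem f170427 : Led Lsl_ft (LP (LK LD1_c9 LD2_c33 LD3_c59)) = (LP (LK LD1_c4 LD2_c50 LD3_c57)) :=
  Lre_f IH (LK LD1_c9 LD2_c33 LD3_c59) (LK LD1_c4 LD2_c50 LD3_c57) Lrfl Lrfl
theorem f170428 : Led Lsl_bt (LP (LK LD1_c16 LD2_c1 LD3_c35)) = (LP (LK LD1_c9 LD2_c33 LD3_c59)) :=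
  Lgr Lrot35 (Lpe (f170426 IH) (Lpr_bf (K16.f167288 IH) (Lpe (f170427 IH) (Lpn (LP (LK LD1_c9 LD2_c33 LD3_c59))))))
theorem f170528 : Led Lsl_bt (LP (LK LD1_c5 LD2_c1 LD3_c14)) = (LP (LK LD1_c9 LD2_c52 LD3_c26)) :=
  Lre_b IH (LK LD1_c5 LD2_c1 LD3_c14) (LK LD1_c9 LD2_c52 LD3_c26) Lrfl Lrfl
theorem f170529 : Led Lsl_dt (LP (LK LD1_c9 LD2_c33 LD3_c59)) = (LP (LK LD1_c5 LD2_c1 LD3_c14)) :=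
  Lgr Lrot79 (Lpe (f170428 IH) (Lpr_df (f170524 IH) (Lpe (f170528 IH) (Lpn (LP (LK LD1_c5 LD2_c1 LD3_c14))))))
theorem f170487 : Led Lsl_ft (LP (LK LD1_c4 LD2_c50 LD3_c57)) = (LP (LK LD1_c9 LD2_c33 LD3_c59)) :=
  Lre_f IH (LK LD1_c4 LD2_c50 LD3_c57) (LK LD1_c9 LD2_c33 LD3_c59) Lrfl Lrfl
theorem f170533 : Led Lsl_ft (LP (LK LD1_c5 LD2_c1 LD3_c14)) = (LP (LK LD1_c2 LD2_c28 LD3_c20)) :=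
  Lre_f IH (LK LD1_c5 LD2_c1 LD3_c14) (LK LD1_c2 LD2_c28 LD3_c20) Lrfl Lrfl
theorem f170534 : Led Lsl_df (LP (LK LD1_c4 LD2_c50 LD3_c57)) = (LP (LK LD1_c2 LD2_c28 LD3_c20)) :=
  Lgr Lrot78 (Lpr_ft (f170487 IH) (Lpr_dt (f170529 IH) (Lpr_ft (f170533 IH) (Lpn (LP (LK LD1_c2 LD2_c28 LD3_c20))))))
theorem f314630 : Led Lsl_gt (LP (LK LD1_c15 LD2_c11 LD3_c50)) = (LP (LK LD1_c10 LD2_c9 LD3_c35)) :=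
  Lgr Lrot137 (Lpe (f240359 IH) (Lpr_dt (f314610 IH) (Lpe (f170469 IH) (Lpr_df (f170534 IH) (Lpr_et (K16.f33327 IH) (Lpe (K14.f3688 IH) (Lpe (K19.f33976 IH) (Lpe (K14.f246829 IH) (Lpe (K19.f171312 IH) (Lpr_df (K19.f246860 IH) (Lpn (LP (LK LD1_c10 LD2_c9 LD3_c35)))))))))))))
theorem f246869 : Led Lsl_dt (LP (LK LD1_c7 LD2_c58 LD3_c47)) = (LP (LK LD1_c10 LD2_c9 LD3_c35)) :=
  Lgr Lrot42 (Lpr_df (K19.f246860 IH) (Lpn (LP (LK LD1_c10 LD2_c9 LD3_c35))))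
theorem f320575 : Led Lsl_at (LP (LK LD1_c9 LD2_c52 LD3_c1)) = (LP (LK LD1_c5 LD2_c1 LD3_c39)) :=
  Lgr Lrot100 (Lpr_af (K20.f320573 IH) (Lpn (LP (LK LD1_c5 LD2_c1 LD3_c39))))
theorem f337647 : Led Lsl_gf (LP (LK LD1_c5 LD2_c1 LD3_c39)) = (LP (LK LD1_c5 LD2_c10 LD3_c47)) :=
  Lgr Lrot76 (Lpe (f320575 IH) (Lpe (K20.f246948 IH) (Lpr_gt (f337642 IH) (Lpn (LP (LK LD1_c5 LD2_c10 LD3_c47))))))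
theorem f337660 : Led Lsl_dt (LP (LK LD1_c10 LD2_c12 LD3_c13)) = (LP (LK LD1_c5 LD2_c10 LD3_c47)) :=
  Lre_d IH (LK LD1_c10 LD2_c12 LD3_c13) (LK LD1_c5 LD2_c10 LD3_c47) Lrfl Lrfl
theorem f337980 : Led Lsl_gt (LP (LK LD1_c15 LD2_c3 LD3_c24)) = (LP (LK LD1_c10 LD2_c12 LD3_c13)) :=
  Lgr Lrot137 (Lpe (K19.f246871 IH) (Lpr_dt (f246869 IH) (Lpe (f314630 IH) (Lpr_df (f240357 IH) (Lpr_et (f314612 IH) (Lpr_gf (f317251 IH) (Lpr_ef (f337974 IH) (Lpr_dt (K20.f320582 IH) (Lpr_gf (f337647 IH) (Lpe (f337660 IH) (Lpn (LP (LK LD1_c10 LD2_c12 LD3_c13)))))))))))))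
theorem f239854 : Led Lsl_gt (LP (LK LD1_c9 LD2_c0 LD3_c58)) = (LP (LK LD1_c10 LD2_c8 LD3_c10)) :=
  Lgr Lrot5 (Lpr_ft (K13.f239836 IH) (Lpe (K13.f239479 IH) (Lpe (f239853 IH) (Lpn (LP (LK LD1_c10 LD2_c8 LD3_c10))))))
theorem f321083 : Led Lsl_dt (LP (LK LD1_c9 LD2_c36 LD3_c54)) = (LP (LK LD1_c4 LD2_c52 LD3_c15)) :=
  Lre_d IH (LK LD1_c9 LD2_c36 LD3_c54) (LK LD1_c4 LD2_c52 LD3_c15) Lrfl Lrfl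
theorem f337982 : Led Lsl_et (LP (LK LD1_c9 LD2_c36 LD3_c54)) = (LP (LK LD1_c10 LD2_c12 LD3_c13)) :=
  Lgr Lrot122 (Lpr_dt (f321083 IH) (Lpr_gt (K21.f321078 IH) (Lpe (K15.f239861 IH) (Lpr_et (K14.f239830 IH) (Lpr_gt (f239854 IH) (Lpe (f240357 IH) (Lpr_gt (f314630 IH) (Lpe (f246869 IH) (Lpr_et (K19.f246871 IH) (Lpr_gt (f337980 IH) (Lpn (LP (LK LD1_c10 LD2_c12 LD3_c13)))))))))))))
theorem f332787 : Led Lsl_et (LP (LK LD1_c8 LD2_c9 LD3_c56)) = (LP (LK LD1_c15 LD2_c22 LD3_c43)) :=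
  Lre_e IH (LK LD1_c8 LD2_c9 LD3_c56) (LK LD1_c15 LD2_c22 LD3_c43) Lrfl Lrfl
theorem f337989 : Led Lsl_gf (LP (LK LD1_c15 LD2_c22 LD3_c43)) = (LP (LK LD1_c10 LD2_c12 LD3_c13)) :=
  Lgr Lrot141 (Lpe (f332787 IH) (Lpe (f332780 IH) (Lpe (f315595 IH) (Lpr_df (f315605 IH) (Lpe (K20.f199408 IH) (Lpr_gt (f332771 IH) (Lpr_dt (K14.f247083 IH) (Lpe (K21.f321075 IH) (Lpe (f321083 IH) (Lpr_et (f337982 IH) (Lpn (LP (LK LD1_c10 LD2_c12 LD3_c13)))))))))))))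
theorem f337991 : Led Lsl_df (LP (LK LD1_c10 LD2_c7 LD3_c31)) = (LP (LK LD1_c15 LD2_c22 LD3_c43)) :=
  Lgr Lrot135 (Lpr_gt (f33171 IH) (Lpe (K19.f33166 IH) (Lpr_et (K19.f33153 IH) (Lpe (K15.f240760 IH) (Lpe (K14.f247071 IH) (Lpr_dt (K14.f247083 IH) (Lpe (K21.f321075 IH) (Lpe (f321083 IH) (Lpr_et (f337982 IH) (Lpe (f337989 IH) (Lpn (LP (LK LD1_c15 LD2_c22 LD3_c43)))))))))))))
theorem f332782 : Led Lsl_dt (LP (LK LD1_c5 LD2_c36 LD3_c1)) = (LP (LK LD1_c8 LD2_c9 LD3_c56)) :=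
  Lgr Lrot42 (Lpr_df (f332780 IH) (Lpn (LP (LK LD1_c8 LD2_c9 LD3_c56))))
theorem f337995 : Led Lsl_et (LP (LK LD1_c10 LD2_c7 LD3_c31)) = (LP (LK LD1_c9 LD2_c52 LD3_c34)) :=
  Lgr Lrot71 (Lpr_df (f337991 IH) (Lpe (f332787 IH) (Lpe (f332782 IH) (Lpe (f274711 IH) (Lpe (f274720 IH) (Lpn (LP (LK LD1_c9 LD2_c52 LD3_c34))))))))
theorem f337999 : Led Lsl_ef (LP (LK LD1_c10 LD2_c7 LD3_c31)) = (LP (LK LD1_c9 LD2_c52 LD3_c34)) :=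
  Lgr Lrot88 (Lpr_et (f337995 IH) (Lpn (LP (LK LD1_c9 LD2_c52 LD3_c34))))
theorem f226797 : Led Lsl_df (LP (LK LD1_c15 LD2_c21 LD3_c47)) = (LP (LK LD1_c25 LD2_c8 LD3_c43)) :=
  Lgr Lrot38 (Lpr_dt (f226790 IH) (Lpn (LP (LK LD1_c25 LD2_c8 LD3_c43))))
theorem f296294 : Led Lsl_gf (LP (LK LD1_c25 LD2_c8 LD3_c43)) = (LP (LK LD1_c20 LD2_c2 LD3_c55)) :=
  Lgr Lrot134 (Lpe (f226790 IH) (Lpr_et (f53003 IH) (Lpr_gt (K20.f52998 IH) (Lpe (K21.f52326 IH) (Lpr_dt (K10.f50912 IH) (Lpe (K15.f233744 IH) (Lpe (K15.f190943 IH) (Lpr_et (K17.f233754 IH) (Lpr_gt (K18.f296287 IH) (Lpr_dt (K18.f244305 IH) (Lpn (LP (LK LD1_c20 LD2_c2 LD3_c55)))))))))))))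
theorem f312234 : Led Lsl_dt (LP (LK LD1_c8 LD2_c4 LD3_c13)) = (LP (LK LD1_c8 LD2_c28 LD3_c37)) :=
  Lgr Lrot113 (Lpe (K19.f298599 IH) (Lpe (K18.f286341 IH) (Lpr_gf (K18.f298590 IH) (Lpr_ct (K17.f22063 IH) (Lpr_gt (K18.f296287 IH) (Lpr_dt (K18.f244305 IH) (Lpe (f296294 IH) (Lpe (f226797 IH) (Lpr_ct (f312228 IH) (Lpn (LP (LK LD1_c8 LD2_c28 LD3_c37))))))))))))
theorem f189373 : Led Lsl_gt (LP (LK LD1_c5 LD2_c36 LD3_c2)) = (LP (LK LD1_c2 LD2_c43 LD3_c52)) :=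
  Lre_g IH (LK LD1_c5 LD2_c36 LD3_c2) (LK LD1_c2 LD2_c43 LD3_c52) Lrfl Lrfl
theorem f315586 : Led Lsl_gt (LP (LK LD1_c9 LD2_c33 LD3_c27)) = (LP (LK LD1_c5 LD2_c36 LD3_c2)) :=
  Lgr Lrot5 (Lpr_ft (K20.f231558 IH) (Lpr_at (K20.f315573 IH) (Lpe (f189373 IH) (Lpn (LP (LK LD1_c5 LD2_c36 LD3_c2))))))
theorem f225646 : Led Lsl_gt (LP (LK LD1_c8 LD2_c9 LD3_c57)) = (LP (LK LD1_c4 LD2_c4 LD3_c29)) :=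
  Lre_g IH (LK LD1_c8 LD2_c9 LD3_c57) (LK LD1_c4 LD2_c4 LD3_c29) Lrfl Lrfl
theorem f315620 : Led Lsl_dt (LP (LK LD1_c5 LD2_c36 LD3_c2)) = (LP (LK LD1_c8 LD2_c9 LD3_c57)) :=
  Lgr Lrot171 (Lpe (f315586 IH) (Lpr_ef (K20.f315607 IH) (Lpr_dt (K21.f315435 IH) (Lpe (K20.f168390 IH) (Lpe (K17.f223696 IH) (Lpr_et (K17.f223686 IH) (Lpe (K12.f200702 IH) (Lpe (K19.f298657 IH) (Lpr_dt (f298658 IH) (Lpe (f225646 IH) (Lpn (LP (LK LD1_c8 LD2_c9 LD3_c57)))))))))))))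
theorem f216422 : Led Lsl_gt (LP (LK LD1_c2 LD2_c4 LD3_c42)) = (LP (LK LD1_c4 LD2_c14 LD3_c38)) :=
  Lre_g IH (LK LD1_c2 LD2_c4 LD3_c42) (LK LD1_c4 LD2_c14 LD3_c38) Lrfl Lrfl
theorem f315630 : Led Lsl_et (LP (LK LD1_c5 LD2_c36 LD3_c2)) = (LP (LK LD1_c4 LD2_c14 LD3_c38)) :=
  Lgr Lrot122 (Lpr_dt (f315620 IH) (Lpr_gt (f225646 IH) (Lpe (f298658 IH) (Lpr_et (K19.f298657 IH) (Lpr_gt (K12.f200702 IH) (Lpr_dt (K14.f223693 IH) (Lpe (K12.f216413 IH) (Lpe (K13.f196934 IH) (Lpr_et (K16.f216421 IH) (Lpr_gt (f216422 IH) (Lpn (LP (LK LD1_c4 LD2_c14 LD3_c38)))))))))))))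
theorem f315636 : Led Lsl_ef (LP (LK LD1_c5 LD2_c36 LD3_c2)) = (LP (LK LD1_c4 LD2_c14 LD3_c38)) :=
  Lgr Lrot88 (Lpr_et (f315630 IH) (Lpn (LP (LK LD1_c4 LD2_c14 LD3_c38))))
theorem f189153 : Led Lsl_dt (LP (LK LD1_c2 LD2_c43 LD3_c52)) = (LP (LK LD1_c1 LD2_c18 LD3_c17)) :=
  Lre_d IH (LK LD1_c2 LD2_c43 LD3_c52) (LK LD1_c1 LD2_c18 LD3_c17) Lrfl Lrfl
theorem f189137 : Led Lsl_gt (LP (LK LD1_c1 LD2_c18 LD3_c17)) = (LP (LK LD1_c2 LD2_c43 LD3_c50)) :=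
  Lre_g IH (LK LD1_c1 LD2_c18 LD3_c17) (LK LD1_c2 LD2_c43 LD3_c50) Lrfl Lrfl
theorem f189136 : Led Lsl_et (LP (LK LD1_c0 LD2_c36 LD3_c4)) = (LP (LK LD1_c1 LD2_c18 LD3_c17)) :=
  Lre_e IH (LK LD1_c0 LD2_c36 LD3_c4) (LK LD1_c1 LD2_c18 LD3_c17) Lrfl Lrfl
theorem f33132 : Led Lsl_ef (LP (LK LD1_c1 LD2_c0 LD3_c56)) = (LP (LK LD1_c1 LD2_c11 LD3_c15)) :=
  Lgr Lrot73 (Lpr_dt (K13.f27885 IH) (Lpr_et (K12.f27881 IH) (Lpr_dt (K0.f33124 IH) (Lpr_et (K10.f33131 IH) (Lpr_dt (K9.f21866 IH) (Lpn (LP (LK LD1_c1 LD2_c11 LD3_c15))))))))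
theorem f27906 : Led Lsl_dt (LP (LK LD1_c4 LD2_c14 LD3_c31)) = (LP (LK LD1_c2 LD2_c4 LD3_c37)) :=
  Lre_d IH (LK LD1_c4 LD2_c14 LD3_c31) (LK LD1_c2 LD2_c4 LD3_c37) Lrfl Lrfl
theorem f27907 : Led Lsl_gt (LP (LK LD1_c4 LD2_c14 LD3_c30)) = (LP (LK LD1_c2 LD2_c4 LD3_c37)) :=
  Lre_g IH (LK LD1_c4 LD2_c14 LD3_c30) (LK LD1_c2 LD2_c4 LD3_c37) Lrfl Lrfl
theorem f189138 : Led Lsl_dt (LP (LK LD1_c2 LD2_c43 LD3_c50)) = (LP (LK LD1_c4 LD2_c14 LD3_c30)) :=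
  Lgr Lrot171 (Lpe (f189137 IH) (Lpe (f189136 IH) (Lpr_dt (K12.f177870 IH) (Lpr_gf (K10.f189097 IH) (Lpe (K13.f53958 IH) (Lpe (f33132 IH) (Lpr_gf (K12.f27883 IH) (Lpe (K20.f27905 IH) (Lpr_dt (f27906 IH) (Lpe (f27907 IH) (Lpn (LP (LK LD1_c4 LD2_c14 LD3_c30)))))))))))))
theorem f189368 : Led Lsl_df (LP (LK LD1_c2 LD2_c43 LD3_c50)) = (LP (LK LD1_c4 LD2_c14 LD3_c30)) :=
  Lgr Lrot38 (Lpr_dt (f189138 IH) (Lpn (LP (LK LD1_c4 LD2_c14 LD3_c30))))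
theorem f189370 : Led Lsl_et (LP (LK LD1_c4 LD2_c14 LD3_c30)) = (LP (LK LD1_c8 LD2_c27 LD3_c44)) :=
  Lre_e IH (LK LD1_c4 LD2_c14 LD3_c30) (LK LD1_c8 LD2_c27 LD3_c44) Lrfl Lrfl
theorem f189152 : Led Lsl_et (LP (LK LD1_c2 LD2_c43 LD3_c52)) = (LP (LK LD1_c1 LD2_c18 LD3_c20)) :=
  Lre_e IH (LK LD1_c2 LD2_c43 LD3_c52) (LK LD1_c1 LD2_c18 LD3_c20) Lrfl Lrfl
theorem f189384 : Led Lsl_gf (LP (LK LD1_c8 LD2_c28 LD3_c36)) = (LP (LK LD1_c8 LD2_c27 LD3_c44)) :=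
  Lgr Lrot138 (Lpr_dt (K19.f27477 IH) (Lpe (K19.f27623 IH) (Lpe (K19.f27565 IH) (Lpr_et (K14.f27564 IH) (Lpe (K10.f189144 IH) (Lpe (f189152 IH) (Lpr_dt (f189153 IH) (Lpr_gt (f189137 IH) (Lpr_df (f189368 IH) (Lpr_et (f189370 IH) (Lpn (LP (LK LD1_c8 LD2_c27 LD3_c44)))))))))))))
theorem f274771 : Led Lsl_dt (LP (LK LD1_c11 LD2_c4 LD3_c34)) = (LP (LK LD1_c15 LD2_c11 LD3_c37)) :=
  Lgr Lrot42 (Lpr_df (K16.f274766 IH) (Lpn (LP (LK LD1_c15 LD2_c11 LD3_c37))))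
theorem f216423 : Led Lsl_dt (LP (LK LD1_c4 LD2_c14 LD3_c38)) = (LP (LK LD1_c8 LD2_c28 LD3_c4)) :=
  Lre_d IH (LK LD1_c4 LD2_c14 LD3_c38) (LK LD1_c8 LD2_c28 LD3_c4) Lrfl Lrfl
theorem f315642 : Led Lsl_gt (LP (LK LD1_c15 LD2_c11 LD3_c37)) = (LP (LK LD1_c8 LD2_c28 LD3_c4)) :=
  Lgr Lrot112 (Lpe (f274771 IH) (Lpr_et (K19.f189284 IH) (Lpr_gf (f189384 IH) (Lpe (f189370 IH) (Lpe (f189368 IH) (Lpe (f189137 IH) (Lpe (f189153 IH) (Lpe (f189373 IH) (Lpr_ef (f315636 IH) (Lpr_dt (f216423 IH) (Lpn (LP (LK LD1_c8 LD2_c28 LD3_c4)))))))))))))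
theorem f239627 : Led Lsl_dt (LP (LK LD1_c8 LD2_c28 LD3_c4)) = (LP (LK LD1_c4 LD2_c14 LD3_c38)) :=
  Lre_d IH (LK LD1_c8 LD2_c28 LD3_c4) (LK LD1_c4 LD2_c14 LD3_c38) Lrfl Lrfl
theorem f338006 : Led Lsl_gf (LP (LK LD1_c4 LD2_c55 LD3_c56)) = (LP (LK LD1_c4 LD2_c14 LD3_c38)) :=
  Lgr Lrot134 (Lpe (K19.f314152 IH) (Lpr_et (K19.f314158 IH) (Lpr_gt (f314179 IH) (Lpr_ef (f337999 IH) (Lpr_dt (f274720 IH) (Lpr_gt (f332802 IH) (Lpe (f312234 IH) (Lpr_et (K19.f274773 IH) (Lpr_gt (f315642 IH) (Lpr_dt (f239627 IH) (Lpn (LP (LK LD1_c4 LD2_c14 LD3_c38)))))))))))))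
theorem f168749 : Led Lsl_ct (LP (LK LD1_c1 LD2_c10 LD3_c4)) = (LP (LK LD1_c2 LD2_c12 LD3_c6)) :=
  Lgr Lrot59 (Lpr_cf (K20.f167914 IH) (Lpn (LP (LK LD1_c2 LD2_c12 LD3_c6))))
theorem f314345 : Led Lsl_at (LP (LK LD1_c2 LD2_c12 LD3_c6)) = (LP (LK LD1_c1 LD2_c17 LD3_c56)) :=
  Lgr Lrot107 (Lpe (f168749 IH) (Lpr_af (K19.f314339 IH) (Lpe (K20.f213628 IH) (Lpn (LP (LK LD1_c1 LD2_c17 LD3_c56))))))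
theorem f320110 : Led Lsl_gf (LP (LK LD1_c2 LD2_c42 LD3_c13)) = (LP (LK LD1_c4 LD2_c30 LD3_c11)) :=
  Lgr Lrot47 (Lpr_gt (K20.f319988 IH) (Lpe (f314345 IH) (Lpe (K20.f168756 IH) (Lpn (LP (LK LD1_c4 LD2_c30 LD3_c11))))))
theorem f235137 : Led Lsl_et (LP (LK LD1_c5 LD2_c0 LD3_c37)) = (LP (LK LD1_c9 LD2_c51 LD3_c31)) :=
  Lre_e IH (LK LD1_c5 LD2_c0 LD3_c37) (LK LD1_c9 LD2_c51 LD3_c31) Lrfl Lrfl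
theorem f224848 : Led Lsl_et (LP (LK LD1_c5 LD2_c20 LD3_c42)) = (LP (LK LD1_c2 LD2_c36 LD3_c60)) :=
  Lre_e IH (LK LD1_c5 LD2_c20 LD3_c42) (LK LD1_c2 LD2_c36 LD3_c60) Lrfl Lrfl
theorem f235138 : Led Lsl_ct (LP (LK LD1_c9 LD2_c51 LD3_c31)) = (LP (LK LD1_c5 LD2_c20 LD3_c42)) :=
  Lgr Lrot15 (Lpe (f235137 IH) (Lpr_cf (K16.f235109 IH) (Lpe (f224848 IH) (Lpn (LP (LK LD1_c5 LD2_c20 LD3_c42))))))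
theorem f235145 : Led Lsl_ft (LP (LK LD1_c18 LD2_c2 LD3_c44)) = (LP (LK LD1_c9 LD2_c51 LD3_c31)) :=
  Lre_f IH (LK LD1_c18 LD2_c2 LD3_c44) (LK LD1_c9 LD2_c51 LD3_c31) Lrfl Lrfl
theorem f235147 : Led Lsl_cf (LP (LK LD1_c18 LD2_c2 LD3_c44)) = (LP (LK LD1_c10 LD2_c31 LD3_c28)) :=
  Lgr Lrot108 (Lpr_ft (f235145 IH) (Lpr_ct (f235138 IH) (Lpr_ft (K21.f235146 IH) (Lpn (LP (LK LD1_c10 LD2_c31 LD3_c28))))))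
theorem f235153 : Led Lsl_ct (LP (LK LD1_c18 LD2_c2 LD3_c44)) = (LP (LK LD1_c10 LD2_c31 LD3_c28)) :=
  Lgr Lrot59 (Lpr_cf (f235147 IH) (Lpn (LP (LK LD1_c10 LD2_c31 LD3_c28))))
theorem f195623 : Led Lsl_ct (LP (LK LD1_c4 LD2_c1 LD3_c44)) = (LP (LK LD1_c8 LD2_c4 LD3_c5)) :=
  Lre_c IH (LK LD1_c4 LD2_c1 LD3_c44) (LK LD1_c8 LD2_c4 LD3_c5) Lrfl Lrfl
theorem f171310 : Led Lsl_gt (LP (LK LD1_c3 LD2_c58 LD3_c37)) = (LP (LK LD1_c7 LD2_c58 LD3_c46)) :=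
  Lre_g IH (LK LD1_c3 LD2_c58 LD3_c37) (LK LD1_c7 LD2_c58 LD3_c46) Lrfl Lrfl
theorem f213721 : Led Lsl_ct (LP (LK LD1_c7 LD2_c58 LD3_c46)) = (LP (LK LD1_c15 LD2_c3 LD3_c20)) :=
  Lre_c IH (LK LD1_c7 LD2_c58 LD3_c46) (LK LD1_c15 LD2_c3 LD3_c20) Lrfl Lrfl
theorem f330343 : Led Lsl_gf (LP (LK LD1_c18 LD2_c2 LD3_c44)) = (LP (LK LD1_c15 LD2_c3 LD3_c20)) :=
  Lgr Lrot104 (Lpr_ct (f235153 IH) (Lpr_df (K21.f330246 IH) (Lpe (K21.f304193 IH) (Lpr_gf (K21.f330335 IH) (Lpe (f195623 IH) (Lpr_gf (K16.f246891 IH) (Lpe (K14.f246856 IH) (Lpr_gt (f171310 IH) (Lpr_ct (f213721 IH) (Lpn (LP (LK LD1_c15 LD2_c3 LD3_c20))))))))))))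
theorem f213575 : Led Lsl_ct (LP (LK LD1_c2 LD2_c42 LD3_c45)) = (LP (LK LD1_c5 LD2_c33 LD3_c5)) :=
  Lre_c IH (LK LD1_c2 LD2_c42 LD3_c45) (LK LD1_c5 LD2_c33 LD3_c5) Lrfl Lrfl
theorem f213576 : Led Lsl_bt (LP (LK LD1_c1 LD2_c17 LD3_c56)) = (LP (LK LD1_c2 LD2_c42 LD3_c45)) :=
  Lre_b IH (LK LD1_c1 LD2_c17 LD3_c56) (LK LD1_c2 LD2_c42 LD3_c45) Lrfl Lrfl
theorem f213577 : Led Lsl_ct (LP (LK LD1_c7 LD2_c58 LD3_c45)) = (LP (LK LD1_c3 LD2_c58 LD3_c37)) :=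
  Lre_c IH (LK LD1_c7 LD2_c58 LD3_c45) (LK LD1_c3 LD2_c58 LD3_c37) Lrfl Lrfl
theorem f213578 : Led Lsl_cf (LP (LK LD1_c1 LD2_c17 LD3_c56)) = (LP (LK LD1_c1 LD2_c56 LD3_c4)) :=
  Lgr Lrot97 (Lpr_bt (f213576 IH) (Lpr_ct (f213575 IH) (Lpr_bt (K20.f213552 IH) (Lpr_ct (f213577 IH) (Lpr_bt (f171273 IH) (Lpn (LP (LK LD1_c1 LD2_c56 LD3_c4))))))))
theorem f335284 : Led Lsl_bf (LP (LK LD1_c2 LD2_c38 LD3_c45)) = (LP (LK LD1_c1 LD2_c17 LD3_c42)) :=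
  Lgr Lrot34 (Lpr_gf (f335278 IH) (Lpe (K21.f235155 IH) (Lpe (f235147 IH) (Lpr_gf (f330343 IH) (Lpe (f213721 IH) (Lpe (f171310 IH) (Lpe (K16.f171285 IH) (Lpe (f213578 IH) (Lpe (K20.f319988 IH) (Lpe (K20.f198767 IH) (Lpn (LP (LK LD1_c1 LD2_c17 LD3_c42)))))))))))))
theorem f288625 : Led Lsl_ct (LP (LK LD1_c1 LD2_c16 LD3_c15)) = (LP (LK LD1_c2 LD2_c38 LD3_c40)) :=
  Lre_c IH (LK LD1_c1 LD2_c16 LD3_c15) (LK LD1_c2 LD2_c38 LD3_c40) Lrfl Lrfl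
theorem f284184 : Led Lsl_gt (LP (LK LD1_c2 LD2_c38 LD3_c40)) = (LP (LK LD1_c5 LD2_c24 LD3_c18)) :=
  Lre_g IH (LK LD1_c2 LD2_c38 LD3_c40) (LK LD1_c5 LD2_c24 LD3_c18) Lrfl Lrfl
theorem f293417 : Led Lsl_bt (LP (LK LD1_c8 LD2_c28 LD3_c3)) = (LP (LK LD1_c4 LD2_c14 LD3_c38)) :=
  Lre_b IH (LK LD1_c8 LD2_c28 LD3_c3) (LK LD1_c4 LD2_c14 LD3_c38) Lrfl Lrfl
theorem f338008 : Led Lsl_cf (LP (LK LD1_c5 LD2_c24 LD3_c18)) = (LP (LK LD1_c8 LD2_c28 LD3_c3)) :=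
  Lgr Lrot163 (Lpe (f284184 IH) (Lpe (f288625 IH) (Lpe (f195899 IH) (Lpr_bf (f335284 IH) (Lpr_ct (K20.f198767 IH) (Lpr_gf (f320110 IH) (Lpe (K20.f168757 IH) (Lpr_bt (K20.f168780 IH) (Lpr_gf (f338006 IH) (Lpe (f293417 IH) (Lpn (LP (LK LD1_c8 LD2_c28 LD3_c3)))))))))))))
theorem f235156 : Led Lsl_ct (LP (LK LD1_c5 LD2_c20 LD3_c48)) = (LP (LK LD1_c10 LD2_c31 LD3_c39)) :=
  Lre_c IH (LK LD1_c5 LD2_c20 LD3_c48) (LK LD1_c10 LD2_c31 LD3_c39) Lrfl Lrfl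
theorem f338016 : Led Lsl_gt (LP (LK LD1_c5 LD2_c24 LD3_c18)) = (LP (LK LD1_c10 LD2_c31 LD3_c39)) :=
  Lgr Lrot65 (Lpr_cf (f338008 IH) (Lpr_bt (f293417 IH) (Lpe (f216422 IH) (Lpe (K13.f235409 IH) (Lpr_ct (K19.f235412 IH) (Lpe (K21.f235395 IH) (Lpe (K21.f293413 IH) (Lpe (K21.f330250 IH) (Lpe (f235151 IH) (Lpr_ct (f235156 IH) (Lpn (LP (LK LD1_c10 LD2_c31 LD3_c39)))))))))))))
theorem f338019 : Led Lsl_at (LP (LK LD1_c5 LD2_c24 LD3_c21)) = (LP (LK LD1_c10 LD2_c31 LD3_c39)) :=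
  Lgr Lrot26 (Lpe (K20.f318312 IH) (Lpr_gt (f284184 IH) (Lpr_gt (f338016 IH) (Lpn (LP (LK LD1_c10 LD2_c31 LD3_c39))))))
theorem f318263 : Led Lsl_ft (LP (LK LD1_c10 LD2_c31 LD3_c39)) = (LP (LK LD1_c5 LD2_c20 LD3_c46)) :=
  Lre_f IH (LK LD1_c10 LD2_c31 LD3_c39) (LK LD1_c5 LD2_c20 LD3_c46) Lrfl Lrfl
theorem f338022 : Led Lsl_af (LP (LK LD1_c2 LD2_c38 LD3_c40)) = (LP (LK LD1_c5 LD2_c20 LD3_c46)) :=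
  Lgr Lrot45 (Lpr_ft (K20.f318312 IH) (Lpr_at (f338019 IH) (Lpr_ft (f318263 IH) (Lpn (LP (LK LD1_c5 LD2_c20 LD3_c46))))))
theorem f217753 : Led Lsl_dt (LP (LK LD1_c2 LD2_c38 LD3_c40)) = (LP (LK LD1_c5 LD2_c24 LD3_c20)) :=
  Lre_d IH (LK LD1_c2 LD2_c38 LD3_c40) (LK LD1_c5 LD2_c24 LD3_c20) Lrfl Lrfl
theorem f258098 : Led Lsl_dt (LP (LK LD1_c10 LD2_c31 LD3_c38)) = (LP (LK LD1_c5 LD2_c20 LD3_c46)) :=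
  Lre_d IH (LK LD1_c10 LD2_c31 LD3_c38) (LK LD1_c5 LD2_c20 LD3_c46) Lrfl Lrfl
theorem f338027 : Led Lsl_at (LP (LK LD1_c5 LD2_c24 LD3_c20)) = (LP (LK LD1_c10 LD2_c31 LD3_c38)) :=
  Lgr Lrot51 (Lpe (f217753 IH) (Lpr_af (f338022 IH) (Lpe (f258098 IH) (Lpn (LP (LK LD1_c10 LD2_c31 LD3_c38))))))
theorem f338040 : Led Lsl_et (LP (LK LD1_c10 LD2_c39 LD3_c25)) = (LP (LK LD1_c5 LD2_c24 LD3_c20)) :=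
  Lre_e IH (LK LD1_c10 LD2_c39 LD3_c25) (LK LD1_c5 LD2_c24 LD3_c20) Lrfl Lrfl
theorem f338041 : Led Lsl_et (LP (LK LD1_c10 LD2_c31 LD3_c38)) = (LP (LK LD1_c19 LD2_c4 LD3_c32)) :=
  Lre_e IH (LK LD1_c10 LD2_c31 LD3_c38) (LK LD1_c19 LD2_c4 LD3_c32) Lrfl Lrfl
theorem f338042 : Led Lsl_af (LP (LK LD1_c10 LD2_c39 LD3_c25)) = (LP (LK LD1_c19 LD2_c4 LD3_c32)) :=
  Lgr Lrot50 (Lpr_et (f338040 IH) (Lpr_at (f338027 IH) (Lpr_et (f338041 IH) (Lpn (LP (LK LD1_c19 LD2_c4 LD3_c32))))))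
theorem f218503 : Led Lsl_dt (LP (LK LD1_c10 LD2_c39 LD3_c25)) = (LP (LK LD1_c5 LD2_c24 LD3_c17)) :=
  Lre_d IH (LK LD1_c10 LD2_c39 LD3_c25) (LK LD1_c5 LD2_c24 LD3_c17) Lrfl Lrfl
theorem f331644 : Led Lsl_dt (LP (LK LD1_c10 LD2_c31 LD3_c36)) = (LP (LK LD1_c19 LD2_c4 LD3_c32)) :=
  Lre_d IH (LK LD1_c10 LD2_c31 LD3_c36) (LK LD1_c19 LD2_c4 LD3_c32) Lrfl Lrfl
theorem f338047 : Led Lsl_at (LP (LK LD1_c5 LD2_c24 LD3_c17)) = (LP (LK LD1_c10 LD2_c31 LD3_c36)) :=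
  Lgr Lrot51 (Lpe (f218503 IH) (Lpr_af (f338042 IH) (Lpe (f331644 IH) (Lpn (LP (LK LD1_c10 LD2_c31 LD3_c36))))))
theorem f217828 : Led Lsl_et (LP (LK LD1_c2 LD2_c38 LD3_c39)) = (LP (LK LD1_c5 LD2_c24 LD3_c17)) :=
  Lre_e IH (LK LD1_c2 LD2_c38 LD3_c39) (LK LD1_c5 LD2_c24 LD3_c17) Lrfl Lrfl
theorem f224786 : Led Lsl_et (LP (LK LD1_c10 LD2_c31 LD3_c36)) = (LP (LK LD1_c5 LD2_c20 LD3_c45)) :=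
  Lre_e IH (LK LD1_c10 LD2_c31 LD3_c36) (LK LD1_c5 LD2_c20 LD3_c45) Lrfl Lrfl
theorem f338052 : Led Lsl_af (LP (LK LD1_c2 LD2_c38 LD3_c39)) = (LP (LK LD1_c5 LD2_c20 LD3_c45)) :=
  Lgr Lrot50 (Lpr_et (f217828 IH) (Lpr_at (f338047 IH) (Lpr_et (f224786 IH) (Lpn (LP (LK LD1_c5 LD2_c20 LD3_c45))))))
theorem f331762 : Led Lsl_at (LP (LK LD1_c5 LD2_c24 LD3_c13)) = (LP (LK LD1_c10 LD2_c39 LD3_c9)) :=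
  Lre_a IH (LK LD1_c5 LD2_c24 LD3_c13) (LK LD1_c10 LD2_c39 LD3_c9) Lrfl Lrfl
theorem f224782 : Led Lsl_bt (LP (LK LD1_c10 LD2_c31 LD3_c34)) = (LP (LK LD1_c5 LD2_c20 LD3_c45)) :=
  Lre_b IH (LK LD1_c10 LD2_c31 LD3_c34) (LK LD1_c5 LD2_c20 LD3_c45) Lrfl Lrfl
theorem f338055 : Led Lsl_at (LP (LK LD1_c19 LD2_c4 LD3_c29)) = (LP (LK LD1_c10 LD2_c31 LD3_c34)) :=
  Lre_a IH (LK LD1_c19 LD2_c4 LD3_c29) (LK LD1_c10 LD2_c31 LD3_c34) Lrfl Lrfl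
theorem f338056 : Led Lsl_bt (LP (LK LD1_c10 LD2_c39 LD3_c9)) = (LP (LK LD1_c19 LD2_c4 LD3_c29)) :=
  Lgr Lrot62 (Lpe (f331762 IH) (Lpe (K14.f218488 IH) (Lpr_af (f338052 IH) (Lpe (f224782 IH) (Lpe (f338055 IH) (Lpn (LP (LK LD1_c19 LD2_c4 LD3_c29))))))))
theorem f168720 : Led Lsl_dt (LP (LK LD1_c19 LD2_c4 LD3_c39)) = (LP (LK LD1_c10 LD2_c31 LD3_c46)) :=
  Lre_d IH (LK LD1_c19 LD2_c4 LD3_c39) (LK LD1_c10 LD2_c31 LD3_c46) Lrfl Lrfl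
theorem f331747 : Led Lsl_dt (LP (LK LD1_c5 LD2_c24 LD3_c12)) = (LP (LK LD1_c10 LD2_c39 LD3_c9)) :=
  Lre_d IH (LK LD1_c5 LD2_c24 LD3_c12) (LK LD1_c10 LD2_c39 LD3_c9) Lrfl Lrfl
theorem f331751 : Led Lsl_ff (LP (LK LD1_c19 LD2_c4 LD3_c39)) = (LP (LK LD1_c10 LD2_c39 LD3_c9)) :=
  Lgr Lrot19 (Lpr_dt (f168720 IH) (Lpr_ft (f331740 IH) (Lpr_dt (f331747 IH) (Lpn (LP (LK LD1_c10 LD2_c39 LD3_c9))))))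
theorem f331765 : Led Lsl_ft (LP (LK LD1_c19 LD2_c4 LD3_c39)) = (LP (LK LD1_c10 LD2_c39 LD3_c9)) :=
  Lgr Lrot48 (Lpr_ff (f331751 IH) (Lpn (LP (LK LD1_c10 LD2_c39 LD3_c9))))
theorem f331648 : Led Lsl_bf (LP (LK LD1_c19 LD2_c4 LD3_c39)) = (LP (LK LD1_c10 LD2_c39 LD3_c55)) :=
  Lgr Lrot24 (Lpr_bt (f331640 IH) (Lpn (LP (LK LD1_c10 LD2_c39 LD3_c55))))
theorem f338107 : Led Lsl_ff (LP (LK LD1_c10 LD2_c39 LD3_c55)) = (LP (LK LD1_c19 LD2_c4 LD3_c29)) :=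
  Lgr Lrot25 (Lpe (f331648 IH) (Lpr_ft (f331765 IH) (Lpr_bt (f338056 IH) (Lpn (LP (LK LD1_c19 LD2_c4 LD3_c29))))))
theorem f218442 : Led Lsl_ct (LP (LK LD1_c10 LD2_c39 LD3_c58)) = (LP (LK LD1_c5 LD2_c24 LD3_c39)) :=
  Lre_c IH (LK LD1_c10 LD2_c39 LD3_c58) (LK LD1_c5 LD2_c24 LD3_c39) Lrfl Lrfl
theorem f218443 : Led Lsl_dt (LP (LK LD1_c19 LD2_c18 LD3_c52)) = (LP (LK LD1_c10 LD2_c39 LD3_c58)) :=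
  Lre_d IH (LK LD1_c19 LD2_c18 LD3_c52) (LK LD1_c10 LD2_c39 LD3_c58) Lrfl Lrfl
theorem f218671 : Led Lsl_ct (LP (LK LD1_c28 LD2_c44 LD3_c6)) = (LP (LK LD1_c19 LD2_c18 LD3_c52)) :=
  Lre_c IH (LK LD1_c28 LD2_c44 LD3_c6) (LK LD1_c19 LD2_c18 LD3_c52) Lrfl Lrfl
theorem f235189 : Led Lsl_dt (LP (LK LD1_c19 LD2_c4 LD3_c29)) = (LP (LK LD1_c10 LD2_c31 LD3_c33)) :=
  Lre_d IH (LK LD1_c19 LD2_c4 LD3_c29) (LK LD1_c10 LD2_c31 LD3_c33) Lrfl Lrfl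
theorem f212940 : Led Lsl_bt (LP (LK LD1_c9 LD2_c51 LD3_c29)) = (LP (LK LD1_c5 LD2_c0 LD3_c37)) :=
  Lre_b IH (LK LD1_c9 LD2_c51 LD3_c29) (LK LD1_c5 LD2_c0 LD3_c37) Lrfl Lrfl
theorem f235164 : Led Lsl_bt (LP (LK LD1_c2 LD2_c36 LD3_c61)) = (LP (LK LD1_c5 LD2_c20 LD3_c44)) :=
  Lre_b IH (LK LD1_c2 LD2_c36 LD3_c61) (LK LD1_c5 LD2_c20 LD3_c44) Lrfl Lrfl
theorem f235165 : Led Lsl_cf (LP (LK LD1_c9 LD2_c51 LD3_c29)) = (LP (LK LD1_c5 LD2_c20 LD3_c44)) :=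
  Lgr Lrot97 (Lpr_bt (f212940 IH) (Lpr_ct (K16.f235135 IH) (Lpr_bt (K16.f171871 IH) (Lpr_ct (K12.f172023 IH) (Lpr_bt (f235164 IH) (Lpn (LP (LK LD1_c5 LD2_c20 LD3_c44))))))))
theorem f235167 : Led Lsl_at (LP (LK LD1_c9 LD2_c51 LD3_c29)) = (LP (LK LD1_c18 LD2_c2 LD3_c41)) :=
  Lre_a IH (LK LD1_c9 LD2_c51 LD3_c29) (LK LD1_c18 LD2_c2 LD3_c41) Lrfl Lrfl
theorem f235169 : Led Lsl_ct (LP (LK LD1_c18 LD2_c2 LD3_c41)) = (LP (LK LD1_c10 LD2_c31 LD3_c33)) :=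
  Lgr Lrot111 (Lpe (f235167 IH) (Lpr_cf (f235165 IH) (Lpe (f235168 IH) (Lpn (LP (LK LD1_c10 LD2_c31 LD3_c33))))))
theorem f235182 : Led Lsl_cf (LP (LK LD1_c18 LD2_c2 LD3_c41)) = (LP (LK LD1_c10 LD2_c31 LD3_c33)) :=
  Lgr Lrot11 (Lpr_ct (f235169 IH) (Lpn (LP (LK LD1_c10 LD2_c31 LD3_c33))))
theorem f235191 : Led Lsl_dt (LP (LK LD1_c18 LD2_c2 LD3_c41)) = (LP (LK LD1_c27 LD2_c44 LD3_c27)) :=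
  Lre_d IH (LK LD1_c18 LD2_c2 LD3_c41) (LK LD1_c27 LD2_c44 LD3_c27) Lrfl Lrfl
theorem f235192 : Led Lsl_ct (LP (LK LD1_c27 LD2_c44 LD3_c27)) = (LP (LK LD1_c32 LD2_c28 LD3_c9)) :=
  Lre_c IH (LK LD1_c27 LD2_c44 LD3_c27) (LK LD1_c32 LD2_c28 LD3_c9) Lrfl Lrfl
theorem f338116 : Led Lsl_df (LP (LK LD1_c28 LD2_c44 LD3_c6)) = (LP (LK LD1_c32 LD2_c28 LD3_c9)) :=
  Lgr Lrot13 (Lpr_ct (f218671 IH) (Lpr_dt (f218443 IH) (Lpr_ct (f218442 IH) (Lpe (f331639 IH) (Lpr_ff (f338107 IH) (Lpr_dt (f235189 IH) (Lpe (f235182 IH) (Lpr_dt (f235191 IH) (Lpr_ct (f235192 IH) (Lpn (LP (LK LD1_c32 LD2_c28 LD3_c9))))))))))))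
theorem f213000 : Led Lsl_dt (LP (LK LD1_c5 LD2_c24 LD3_c39)) = (LP (LK LD1_c2 LD2_c38 LD3_c51)) :=
  Lre_d IH (LK LD1_c5 LD2_c24 LD3_c39) (LK LD1_c2 LD2_c38 LD3_c51) Lrfl Lrfl
theorem f212999 : Led Lsl_ct (LP (LK LD1_c2 LD2_c38 LD3_c51)) = (LP (LK LD1_c5 LD2_c24 LD3_c30)) :=
  Lre_c IH (LK LD1_c2 LD2_c38 LD3_c51) (LK LD1_c5 LD2_c24 LD3_c30) Lrfl Lrfl
theorem f279686 : Led Lsl_dt (LP (LK LD1_c5 LD2_c24 LD3_c30)) = (LP (LK LD1_c10 LD2_c39 LD3_c43)) :=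
  Lre_d IH (LK LD1_c5 LD2_c24 LD3_c30) (LK LD1_c10 LD2_c39 LD3_c43) Lrfl Lrfl
theorem f279629 : Led Lsl_ct (LP (LK LD1_c10 LD2_c39 LD3_c43)) = (LP (LK LD1_c19 LD2_c18 LD3_c26)) :=
  Lre_c IH (LK LD1_c10 LD2_c39 LD3_c43) (LK LD1_c19 LD2_c18 LD3_c26) Lrfl Lrfl
theorem f279683 : Led Lsl_at (LP (LK LD1_c28 LD2_c43 LD3_c41)) = (LP (LK LD1_c19 LD2_c18 LD3_c26)) :=
  Lre_a IH (LK LD1_c28 LD2_c43 LD3_c41) (LK LD1_c19 LD2_c18 LD3_c26) Lrfl Lrfl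
theorem f338125 : Led Lsl_ff (LP (LK LD1_c28 LD2_c43 LD3_c41)) = (LP (LK LD1_c32 LD2_c28 LD3_c9)) :=
  Lgr Lrot103 (Lpr_at (f279683 IH) (Lpe (f279629 IH) (Lpe (f279686 IH) (Lpe (f212999 IH) (Lpe (f213000 IH) (Lpe (f218442 IH) (Lpe (f218443 IH) (Lpe (f218671 IH) (Lpr_df (f338116 IH) (Lpn (LP (LK LD1_c32 LD2_c28 LD3_c9))))))))))))
theorem f338134 : Led Lsl_ft (LP (LK LD1_c28 LD2_c43 LD3_c41)) = (LP (LK LD1_c32 LD2_c28 LD3_c9)) :=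
  Lgr Lrot48 (Lpr_ff (f338125 IH) (Lpn (LP (LK LD1_c32 LD2_c28 LD3_c9))))
theorem f235178 : Led Lsl_at (LP (LK LD1_c32 LD2_c28 LD3_c9)) = (LP (LK LD1_c27 LD2_c44 LD3_c28)) :=
  Lre_a IH (LK LD1_c32 LD2_c28 LD3_c9) (LK LD1_c27 LD2_c44 LD3_c28) Lrfl Lrfl
theorem f235172 : Led Lsl_ct (LP (LK LD1_c18 LD2_c2 LD3_c42)) = (LP (LK LD1_c27 LD2_c44 LD3_c28)) :=
  Lre_c IH (LK LD1_c18 LD2_c2 LD3_c42) (LK LD1_c27 LD2_c44 LD3_c28) Lrfl Lrfl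
theorem f235171 : Led Lsl_dt (LP (LK LD1_c9 LD2_c51 LD3_c29)) = (LP (LK LD1_c18 LD2_c2 LD3_c42)) :=
  Lre_d IH (LK LD1_c9 LD2_c51 LD3_c29) (LK LD1_c18 LD2_c2 LD3_c42) Lrfl Lrfl
theorem f235174 : Led Lsl_dt (LP (LK LD1_c10 LD2_c31 LD3_c34)) = (LP (LK LD1_c5 LD2_c20 LD3_c44)) :=
  Lre_d IH (LK LD1_c10 LD2_c31 LD3_c34) (LK LD1_c5 LD2_c20 LD3_c44) Lrfl Lrfl
theorem f224783 : Led Lsl_ct (LP (LK LD1_c19 LD2_c4 LD3_c30)) = (LP (LK LD1_c10 LD2_c31 LD3_c34)) :=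
  Lre_c IH (LK LD1_c19 LD2_c4 LD3_c30) (LK LD1_c10 LD2_c31 LD3_c34) Lrfl Lrfl
theorem f224791 : Led Lsl_dt (LP (LK LD1_c28 LD2_c30 LD3_c44)) = (LP (LK LD1_c19 LD2_c4 LD3_c30)) :=
  Lre_d IH (LK LD1_c28 LD2_c30 LD3_c44) (LK LD1_c19 LD2_c4 LD3_c30) Lrfl Lrfl
theorem f235175 : Led Lsl_ct (LP (LK LD1_c32 LD2_c35 LD3_c37)) = (LP (LK LD1_c28 LD2_c30 LD3_c44)) :=
  Lre_c IH (LK LD1_c32 LD2_c35 LD3_c37) (LK LD1_c28 LD2_c30 LD3_c44) Lrfl Lrfl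
theorem f338144 : Led Lsl_dt (LP (LK LD1_c28 LD2_c43 LD3_c41)) = (LP (LK LD1_c32 LD2_c35 LD3_c37)) :=
  Lgr Lrot159 (Lpr_ft (f338134 IH) (Lpr_at (f235178 IH) (Lpe (f235172 IH) (Lpe (f235171 IH) (Lpr_cf (f235165 IH) (Lpe (f235174 IH) (Lpe (f224783 IH) (Lpe (f224791 IH) (Lpe (f235175 IH) (Lpn (LP (LK LD1_c32 LD2_c35 LD3_c37))))))))))))
theorem f338151 : Led Lsl_df (LP (LK LD1_c28 LD2_c43 LD3_c41)) = (LP (LK LD1_c32 LD2_c35 LD3_c37)) :=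
  Lgr Lrot38 (Lpr_dt (f338144 IH) (Lpn (LP (LK LD1_c32 LD2_c35 LD3_c37))))
theorem f338130 : Led Lsl_ct (LP (LK LD1_c28 LD2_c43 LD3_c41)) = (LP (LK LD1_c19 LD2_c18 LD3_c23)) :=
  Lre_c IH (LK LD1_c28 LD2_c43 LD3_c41) (LK LD1_c19 LD2_c18 LD3_c23) Lrfl Lrfl
theorem f338208 : Led Lsl_at (LP (LK LD1_c10 LD2_c39 LD3_c43)) = (LP (LK LD1_c19 LD2_c18 LD3_c23)) :=
  Lre_a IH (LK LD1_c10 LD2_c39 LD3_c43) (LK LD1_c19 LD2_c18 LD3_c23) Lrfl Lrfl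
theorem f235195 : Led Lsl_ct (LP (LK LD1_c28 LD2_c30 LD3_c44)) = (LP (LK LD1_c32 LD2_c35 LD3_c37)) :=
  Lre_c IH (LK LD1_c28 LD2_c30 LD3_c44) (LK LD1_c32 LD2_c35 LD3_c37) Lrfl Lrfl
theorem f224788 : Led Lsl_dt (LP (LK LD1_c19 LD2_c4 LD3_c30)) = (LP (LK LD1_c28 LD2_c30 LD3_c44)) :=
  Lre_d IH (LK LD1_c19 LD2_c4 LD3_c30) (LK LD1_c28 LD2_c30 LD3_c44) Lrfl Lrfl
theorem f224694 : Led Lsl_ct (LP (LK LD1_c10 LD2_c31 LD3_c34)) = (LP (LK LD1_c19 LD2_c4 LD3_c30)) :=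
  Lre_c IH (LK LD1_c10 LD2_c31 LD3_c34) (LK LD1_c19 LD2_c4 LD3_c30) Lrfl Lrfl
theorem f224792 : Led Lsl_dt (LP (LK LD1_c5 LD2_c20 LD3_c44)) = (LP (LK LD1_c10 LD2_c31 LD3_c34)) :=
  Lre_d IH (LK LD1_c5 LD2_c20 LD3_c44) (LK LD1_c10 LD2_c31 LD3_c34) Lrfl Lrfl
theorem f235132 : Led Lsl_bt (LP (LK LD1_c5 LD2_c0 LD3_c37)) = (LP (LK LD1_c9 LD2_c51 LD3_c29)) :=
  Lre_b IH (LK LD1_c5 LD2_c0 LD3_c37) (LK LD1_c9 LD2_c51 LD3_c29) Lrfl Lrfl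
theorem f235133 : Led Lsl_ct (LP (LK LD1_c9 LD2_c51 LD3_c29)) = (LP (LK LD1_c5 LD2_c20 LD3_c44)) :=
  Lgr Lrot83 (Lpe (f235132 IH) (Lpr_cf (K16.f235109 IH) (Lpe (K16.f224648 IH) (Lpe (K12.f223848 IH) (Lpe (f224458 IH) (Lpn (LP (LK LD1_c5 LD2_c20 LD3_c44))))))))
theorem f235180 : Led Lsl_dt (LP (LK LD1_c18 LD2_c2 LD3_c42)) = (LP (LK LD1_c9 LD2_c51 LD3_c29)) :=
  Lre_d IH (LK LD1_c18 LD2_c2 LD3_c42) (LK LD1_c9 LD2_c51 LD3_c29) Lrfl Lrfl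
theorem f338209 : Led Lsl_ff (LP (LK LD1_c10 LD2_c39 LD3_c43)) = (LP (LK LD1_c18 LD2_c2 LD3_c42)) :=
  Lgr Lrot103 (Lpr_at (f338208 IH) (Lpe (f338130 IH) (Lpr_df (f338151 IH) (Lpe (f235195 IH) (Lpe (f224788 IH) (Lpe (f224694 IH) (Lpe (f224792 IH) (Lpe (f235133 IH) (Lpe (f235180 IH) (Lpn (LP (LK LD1_c18 LD2_c2 LD3_c42))))))))))))
theorem f338217 : Led Lsl_ft (LP (LK LD1_c10 LD2_c39 LD3_c43)) = (LP (LK LD1_c18 LD2_c2 LD3_c42)) :=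
  Lgr Lrot48 (Lpr_ff (f338209 IH) (Lpn (LP (LK LD1_c18 LD2_c2 LD3_c42))))
theorem f279628 : Led Lsl_bt (LP (LK LD1_c5 LD2_c24 LD3_c31)) = (LP (LK LD1_c10 LD2_c39 LD3_c43)) :=
  Lre_b IH (LK LD1_c5 LD2_c24 LD3_c31) (LK LD1_c10 LD2_c39 LD3_c43) Lrfl Lrfl
theorem f279625 : Led Lsl_bt (LP (LK LD1_c18 LD2_c2 LD3_c42)) = (LP (LK LD1_c9 LD2_c51 LD3_c30)) :=
  Lre_b IH (LK LD1_c18 LD2_c2 LD3_c42) (LK LD1_c9 LD2_c51 LD3_c30) Lrfl Lrfl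
theorem f338220 : Led Lsl_ff (LP (LK LD1_c5 LD2_c24 LD3_c31)) = (LP (LK LD1_c9 LD2_c51 LD3_c30)) :=
  Lgr Lrot25 (Lpr_bt (f279628 IH) (Lpr_ft (f338217 IH) (Lpr_bt (f279625 IH) (Lpn (LP (LK LD1_c9 LD2_c51 LD3_c30))))))
theorem f338232 : Led Lsl_at (LP (LK LD1_c5 LD2_c24 LD3_c31)) = (LP (LK LD1_c9 LD2_c51 LD3_c33)) :=
  Lgr Lrot26 (Lpr_ff (f338220 IH) (Lpr_gt (K20.f316704 IH) (Lpe (K20.f316758 IH) (Lpn (LP (LK LD1_c9 LD2_c51 LD3_c33))))))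
theorem f194436 : Led Lsl_ft (LP (LK LD1_c4 LD2_c3 LD3_c0)) = (LP (LK LD1_c1 LD2_c58 LD3_c30)) :=
  Lre_f IH (LK LD1_c4 LD2_c3 LD3_c0) (LK LD1_c1 LD2_c58 LD3_c30) Lrfl Lrfl
theorem f330236 : Led Lsl_dt (LP (LK LD1_c2 LD2_c36 LD3_c60)) = (LP (LK LD1_c4 LD2_c3 LD3_c0)) :=
  Lgr Lrot60 (Lpr_ff (K21.f330230 IH) (Lpr_df (K12.f194422 IH) (Lpe (f194436 IH) (Lpn (LP (LK LD1_c4 LD2_c3 LD3_c0))))))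
theorem f338234 : Led Lsl_cf (LP (LK LD1_c4 LD2_c21 LD3_c20)) = (LP (LK LD1_c4 LD2_c3 LD3_c0)) :=
  Lgr Lrot116 (Lpr_dt (K19.f255631 IH) (Lpe (K12.f213442 IH) (Lpr_dt (K21.f54259 IH) (Lpe (K21.f234062 IH) (Lpe (f338232 IH) (Lpr_ff (f338220 IH) (Lpr_dt (K19.f212939 IH) (Lpr_ct (K16.f235135 IH) (Lpr_dt (f330236 IH) (Lpn (LP (LK LD1_c4 LD2_c3 LD3_c0))))))))))))
theorem f311633 : Led Lsl_bf (LP (LK LD1_c4 LD2_c19 LD3_c51)) = (LP (LK LD1_c2 LD2_c23 LD3_c36)) :=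
  Lgr Lrot24 (Lpr_bt (K19.f311621 IH) (Lpn (LP (LK LD1_c2 LD2_c23 LD3_c36))))
theorem f261313 : Led Lsl_gf (LP (LK LD1_c4 LD2_c3 LD3_c37)) = (LP (LK LD1_c2 LD2_c37 LD3_c15)) :=
  Lgr Lrot76 (Lpe (K15.f201224 IH) (Lpe (K15.f201245 IH) (Lpr_gt (K15.f261300 IH) (Lpn (LP (LK LD1_c2 LD2_c37 LD3_c15))))))
theorem f338250 : Led Lsl_bf (LP (LK LD1_c2 LD2_c37 LD3_c0)) = (LP (LK LD1_c4 LD2_c3 LD3_c0)) :=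
  Lgr Lrot34 (Lpe (K15.f258300 IH) (Lpr_bf (K15.f258288 IH) (Lpr_ct (K14.f201247 IH) (Lpr_gf (f261313 IH) (Lpr_cf (K15.f190432 IH) (Lpr_gf (K16.f270923 IH) (Lpr_bf (f311633 IH) (Lpe (K20.f311604 IH) (Lpe (K19.f293391 IH) (Lpr_cf (f338234 IH) (Lpn (LP (LK LD1_c4 LD2_c3 LD3_c0)))))))))))))
theorem f184503 : Led Lsl_bt (LP (LK LD1_c2 LD2_c5 LD3_c46)) = (LP (LK LD1_c4 LD2_c16 LD3_c59)) :=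
  Lre_b IH (LK LD1_c2 LD2_c5 LD3_c46) (LK LD1_c4 LD2_c16 LD3_c59) Lrfl Lrfl
theorem f338254 : Led Lsl_et (LP (LK LD1_c4 LD2_c16 LD3_c59)) = (LP (LK LD1_c4 LD2_c3 LD3_c0)) :=
  Lgr Lrot74 (Lpe (f184503 IH) (Lpr_ef (K14.f184233 IH) (Lpr_bf (f338250 IH) (Lpn (LP (LK LD1_c4 LD2_c3 LD3_c0))))))
theorem f235267 : Led Lsl_ct (LP (LK LD1_c4 LD2_c56 LD3_c0)) = (LP (LK LD1_c2 LD2_c25 LD3_c49)) :=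
  Lre_c IH (LK LD1_c4 LD2_c56 LD3_c0) (LK LD1_c2 LD2_c25 LD3_c49) Lrfl Lrfl
theorem f314399 : Led Lsl_gt (LP (LK LD1_c2 LD2_c25 LD3_c49)) = (LP (LK LD1_c1 LD2_c11 LD3_c15)) :=
  Lgr Lrot150 (Lpe (f235267 IH) (Lpr_gf (K19.f314397 IH) (Lpr_df (K16.f277902 IH) (Lpe (K16.f277982 IH) (Lpr_ct (K12.f199347 IH) (Lpr_gt (K16.f177953 IH) (Lpe (K19.f277968 IH) (Lpe (K12.f53677 IH) (Lpe (K13.f53680 IH) (Lpn (LP (LK LD1_c1 LD2_c11 LD3_c15))))))))))))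
theorem f338248 : Led Lsl_gt (LP (LK LD1_c2 LD2_c23 LD3_c33)) = (LP (LK LD1_c4 LD2_c3 LD3_c0)) :=
  Lgr Lrot150 (Lpe (K20.f235673 IH) (Lpr_gf (K20.f261286 IH) (Lpr_df (f314569 IH) (Lpr_gt (f314399 IH) (Lpr_ct (K13.f53680 IH) (Lpr_gt (K12.f54256 IH) (Lpr_ct (K13.f213447 IH) (Lpe (K19.f255631 IH) (Lpr_cf (f338234 IH) (Lpn (LP (LK LD1_c4 LD2_c3 LD3_c0))))))))))))
theorem f311286 : Led Lsl_dt (LP (LK LD1_c2 LD2_c38 LD3_c11)) = (LP (LK LD1_c4 LD2_c51 LD3_c4)) :=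
  Lgr Lrot79 (Lpr_bf (K19.f311278 IH) (Lpe (K18.f251040 IH) (Lpe (K19.f308835 IH) (Lpn (LP (LK LD1_c4 LD2_c51 LD3_c4))))))
theorem f338261 : Led Lsl_dt (LP (LK LD1_c4 LD2_c16 LD3_c59)) = (LP (LK LD1_c5 LD2_c1 LD3_c0)) :=
  Lgr Lrot136 (Lpr_et (f338254 IH) (Lpe (f338248 IH) (Lpe (K14.f235677 IH) (Lpr_dt (K13.f2087 IH) (Lpe (K19.f308846 IH) (Lpe (f311286 IH) (Lpr_gf (K21.f311292 IH) (Lpe (K21.f184774 IH) (Lpr_dt (K15.f3782 IH) (Lpe (K15.f184127 IH) (Lpn (LP (LK LD1_c5 LD2_c1 LD3_c0)))))))))))))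
theorem f247757 : Led Lsl_dt (LP (LK LD1_c9 LD2_c52 LD3_c43)) = (LP (LK LD1_c5 LD2_c1 LD3_c8)) :=
  Lre_d IH (LK LD1_c9 LD2_c52 LD3_c43) (LK LD1_c5 LD2_c1 LD3_c8) Lrfl Lrfl
theorem f330305 : Led Lsl_ft (LP (LK LD1_c4 LD2_c3 LD3_c7)) = (LP (LK LD1_c1 LD2_c58 LD3_c33)) :=
  Lre_f IH (LK LD1_c4 LD2_c3 LD3_c7) (LK LD1_c1 LD2_c58 LD3_c33) Lrfl Lrfl
theorem f330306 : Led Lsl_dt (LP (LK LD1_c5 LD2_c15 LD3_c11)) = (LP (LK LD1_c4 LD2_c3 LD3_c7)) :=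
  Lgr Lrot60 (Lpr_ff (K21.f330299 IH) (Lpe (K15.f28069 IH) (Lpe (f330305 IH) (Lpn (LP (LK LD1_c4 LD2_c3 LD3_c7))))))
theorem f338265 : Led Lsl_cf (LP (LK LD1_c4 LD2_c16 LD3_c59)) = (LP (LK LD1_c4 LD2_c3 LD3_c7)) :=
  Lgr Lrot55 (Lpr_dt (f338261 IH) (Lpr_ct (K21.f266104 IH) (Lpe (K15.f266088 IH) (Lpr_ct (K15.f266020 IH) (Lpr_dt (K15.f247746 IH) (Lpr_ct (K17.f251466 IH) (Lpr_dt (K19.f265924 IH) (Lpe (K15.f192197 IH) (Lpr_dt (K15.f28069 IH) (Lpr_ct (K15.f184823 IH) (Lpe (K15.f265976 IH) (Lpe (K15.f265961 IH) (Lpr_dt (f247757 IH) (Lpr_ct (K21.f265985 IH) (Lpr_dt (f330306 IH) (Lpn (LP (LK LD1_c4 LD2_c3 LD3_c7))))))))))))))))))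
theorem f338275 : Led Lsl_gf (LP (LK LD1_c4 LD2_c3 LD3_c7)) = (LP (LK LD1_c4 LD2_c51 LD3_c7)) :=
  Lgr Lrot172 (Lpe (f338265 IH) (Lpr_dt (f338261 IH) (Lpr_cf (K15.f266102 IH) (Lpe (K15.f266093 IH) (Lpe (K14.f165465 IH) (Lpr_gf (K16.f274776 IH) (Lpr_dt (K14.f22018 IH) (Lpe (K20.f317025 IH) (Lpr_ct (K19.f187120 IH) (Lpn (LP (LK LD1_c4 LD2_c51 LD3_c7))))))))))))
theorem f320694 : Led Lsl_ef (LP (LK LD1_c4 LD2_c51 LD3_c7)) = (LP (LK LD1_c4 LD2_c21 LD3_c22)) :=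
  Lgr Lrot88 (Lpr_et (K20.f320688 IH) (Lpn (LP (LK LD1_c4 LD2_c21 LD3_c22))))
theorem f338285 : Led Lsl_ef (LP (LK LD1_c4 LD2_c3 LD3_c7)) = (LP (LK LD1_c4 LD2_c21 LD3_c20)) :=
  Lgr Lrot17 (Lpr_gf (f338275 IH) (Lpr_ef (f320694 IH) (Lpe (K21.f320672 IH) (Lpe (K18.f217761 IH) (Lpe (K13.f224181 IH) (Lpe (K13.f196572 IH) (Lpe (K14.f235579 IH) (Lpr_dt (K13.f234101 IH) (Lpe (K13.f234043 IH) (Lpe (K19.f255631 IH) (Lpn (LP (LK LD1_c4 LD2_c21 LD3_c20)))))))))))))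
theorem f192508 : Led Lsl_bt (LP (LK LD1_c1 LD2_c57 LD3_c18)) = (LP (LK LD1_c1 LD2_c24 LD3_c59)) :=
  Lgr Lrot127 (Lpr_bf (K10.f192489 IH) (Lpn (LP (LK LD1_c1 LD2_c24 LD3_c59))))
theorem f318136 : Led Lsl_ff (LP (LK LD1_c1 LD2_c57 LD3_c18)) = (LP (LK LD1_c0 LD2_c56 LD3_c7)) :=
  Lgr Lrot25 (Lpr_bt (f192508 IH) (Lpr_ft (K20.f318134 IH) (Lpr_bt (f30996 IH) (Lpn (LP (LK LD1_c0 LD2_c56 LD3_c7))))))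
theorem f338291 : Led Lsl_ft (LP (LK LD1_c4 LD2_c1 LD3_c0)) = (LP (LK LD1_c4 LD2_c21 LD3_c20)) :=
  Lgr Lrot86 (Lpe (K10.f192512 IH) (Lpr_ff (f318136 IH) (Lpe (K15.f28068 IH) (Lpe (f330305 IH) (Lpr_ef (f338285 IH) (Lpn (LP (LK LD1_c4 LD2_c21 LD3_c20))))))))
theorem f41812 : Led Lsl_et (LP (LK LD1_c1 LD2_c25 LD3_c3)) = (LP (LK LD1_c0 LD2_c39 LD3_c10)) :=
  Lre_e IH (LK LD1_c1 LD2_c25 LD3_c3) (LK LD1_c0 LD2_c39 LD3_c10) Lrfl Lrfl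
theorem f318158 : Led Lsl_ft (LP (LK LD1_c0 LD2_c39 LD3_c10)) = (LP (LK LD1_c1 LD2_c24 LD3_c54)) :=
  Lgr Lrot4 (Lpe (K9.f183859 IH) (Lpr_ff (K20.f318156 IH) (Lpe (K17.f194174 IH) (Lpn (LP (LK LD1_c1 LD2_c24 LD3_c54))))))
theorem f335915 : Led Lsl_ff (LP (LK LD1_c2 LD2_c37 LD3_c0)) = (LP (LK LD1_c1 LD2_c16 LD3_c18)) :=
  Lgr Lrot72 (Lpe (K14.f184233 IH) (Lpr_ft (f335909 IH) (Lpr_et (f41812 IH) (Lpr_ft (f318158 IH) (Lpe (K10.f42555 IH) (Lpn (LP (LK LD1_c1 LD2_c16 LD3_c18))))))))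
theorem f335953 : Led Lsl_af (LP (LK LD1_c1 LD2_c16 LD3_c14)) = (LP (LK LD1_c2 LD2_c37 LD3_c0)) :=
  Lgr Lrot45 (Lpe (f335943 IH) (Lpr_at (f335947 IH) (Lpe (f335915 IH) (Lpn (LP (LK LD1_c2 LD2_c37 LD3_c0))))))
theorem f223844 : Led Lsl_bt (LP (LK LD1_c1 LD2_c16 LD3_c14)) = (LP (LK LD1_c2 LD2_c38 LD3_c34)) :=
  Lre_b IH (LK LD1_c1 LD2_c16 LD3_c14) (LK LD1_c2 LD2_c38 LD3_c34) Lrfl Lrfl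
theorem f335955 : Led Lsl_at (LP (LK LD1_c2 LD2_c38 LD3_c42)) = (LP (LK LD1_c2 LD2_c38 LD3_c34)) :=
  Lgr Lrot107 (Lpe (K15.f196571 IH) (Lpr_af (f335953 IH) (Lpr_cf (K14.f223745 IH) (Lpn (LP (LK LD1_c2 LD2_c38 LD3_c34))))))
theorem f335957 : Led Lsl_af (LP (LK LD1_c2 LD2_c38 LD3_c42)) = (LP (LK LD1_c2 LD2_c38 LD3_c34)) :=
  Lgr Lrot0 (Lpr_at (f335955 IH) (Lpn (LP (LK LD1_c2 LD2_c38 LD3_c34))))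
theorem f293418 : Led Lsl_bt (LP (LK LD1_c4 LD2_c2 LD3_c61)) = (LP (LK LD1_c2 LD2_c41 LD3_c53)) :=
  Lgr Lrot95 (Lpr_df (K19.f293385 IH) (Lpe (K16.f177942 IH) (Lpe (K17.f271573 IH) (Lpn (LP (LK LD1_c2 LD2_c41 LD3_c53))))))
theorem f293499 : Led Lsl_bf (LP (LK LD1_c4 LD2_c2 LD3_c61)) = (LP (LK LD1_c2 LD2_c41 LD3_c53)) :=
  Lgr Lrot24 (Lpr_bt (f293418 IH) (Lpn (LP (LK LD1_c2 LD2_c41 LD3_c53))))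
theorem f228806 : Led Lsl_ct (LP (LK LD1_c0 LD2_c58 LD3_c55)) = (LP (LK LD1_c0 LD2_c58 LD3_c14)) :=
  Lgr Lrot7 (Lpe (K12.f178288 IH) (Lpr_gf (K12.f228792 IH) (Lpe (K10.f41908 IH) (Lpe (K9.f41907 IH) (Lpe (K9.f41256 IH) (Lpr_gt (K9.f41277 IH) (Lpr_dt (K12.f42132 IH) (Lpe (K12.f187023 IH) (Lpr_dt (K12.f187026 IH) (Lpn (LP (LK LD1_c0 LD2_c58 LD3_c14))))))))))))
theorem f300742 : Led Lsl_bf (LP (LK LD1_c4 LD2_c21 LD3_c20)) = (LP (LK LD1_c2 LD2_c38 LD3_c42)) :=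
  Lgr Lrot156 (Lpr_gt (K19.f293391 IH) (Lpr_bf (f293499 IH) (Lpe (K16.f259280 IH) (Lpe (K16.f271019 IH) (Lpr_cf (K18.f191043 IH) (Lpr_bt (K18.f300735 IH) (Lpr_gt (K18.f228821 IH) (Lpr_ct (f228806 IH) (Lpe (K15.f246634 IH) (Lpe (K15.f196570 IH) (Lpn (LP (LK LD1_c2 LD2_c38 LD3_c42)))))))))))))
theorem f338252 : Led Lsl_at (LP (LK LD1_c4 LD2_c21 LD3_c20)) = (LP (LK LD1_c4 LD2_c3 LD3_c0)) :=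
  Lgr Lrot67 (Lpr_bf (f300742 IH) (Lpr_af (f335957 IH) (Lpe (f223844 IH) (Lpr_af (f335953 IH) (Lpr_bf (f338250 IH) (Lpn (LP (LK LD1_c4 LD2_c3 LD3_c0))))))))
theorem f338293 : Led Lsl_af (LP (LK LD1_c4 LD2_c1 LD3_c0)) = (LP (LK LD1_c1 LD2_c58 LD3_c30)) :=
  Lgr Lrot45 (Lpr_ft (f338291 IH) (Lpr_at (f338252 IH) (Lpr_ft (f194436 IH) (Lpn (LP (LK LD1_c1 LD2_c58 LD3_c30))))))
theorem f338301 : Led Lsl_at (LP (LK LD1_c1 LD2_c57 LD3_c18)) = (LP (LK LD1_c0 LD2_c56 LD3_c6)) :=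
  Lgr Lrot80 (Lpe (K21.f28056 IH) (Lpr_af (f338293 IH) (Lpe (K17.f194432 IH) (Lpn (LP (LK LD1_c0 LD2_c56 LD3_c6))))))
theorem f169408 : Led Lsl_bt (LP (LK LD1_c4 LD2_c16 LD3_c59)) = (LP (LK LD1_c2 LD2_c5 LD3_c46)) :=
  Lre_b IH (LK LD1_c4 LD2_c16 LD3_c59) (LK LD1_c2 LD2_c5 LD3_c46) Lrfl Lrfl
theorem f335911 : Led Lsl_ff (LP (LK LD1_c4 LD2_c16 LD3_c59)) = (LP (LK LD1_c2 LD2_c58 LD3_c34)) :=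
  Lgr Lrot25 (Lpr_bt (f169408 IH) (Lpr_ft (f335909 IH) (Lpr_bt (K19.f240283 IH) (Lpn (LP (LK LD1_c2 LD2_c58 LD3_c34))))))
theorem f338259 : Led Lsl_ff (LP (LK LD1_c1 LD2_c25 LD3_c0)) = (LP (LK LD1_c0 LD2_c56 LD3_c6)) :=
  Lgr Lrot72 (Lpr_et (K15.f192196 IH) (Lpe (f335911 IH) (Lpr_et (f338254 IH) (Lpr_ft (f194436 IH) (Lpr_et (K10.f28071 IH) (Lpn (LP (LK LD1_c0 LD2_c56 LD3_c6))))))))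
theorem f338307 : Led Lsl_af (LP (LK LD1_c0 LD2_c56 LD3_c7)) = (LP (LK LD1_c1 LD2_c25 LD3_c0)) :=
  Lgr Lrot45 (Lpe (f318136 IH) (Lpr_at (f338301 IH) (Lpe (f338259 IH) (Lpn (LP (LK LD1_c1 LD2_c25 LD3_c0))))))
theorem f338311 : Led Lsl_at (LP (LK LD1_c1 LD2_c58 LD3_c32)) = (LP (LK LD1_c2 LD2_c58 LD3_c33)) :=
  Lgr Lrot51 (Lpe (K14.f28065 IH) (Lpr_af (f338307 IH) (Lpe (K15.f187860 IH) (Lpn (LP (LK LD1_c2 LD2_c58 LD3_c33))))))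
theorem f338317 : Led Lsl_ff (LP (LK LD1_c1 LD2_c58 LD3_c32)) = (LP (LK LD1_c4 LD2_c0 LD3_c61)) :=
  Lgr Lrot52 (Lpr_at (f338311 IH) (Lpr_gf (K15.f253000 IH) (Lpe (K14.f253002 IH) (Lpn (LP (LK LD1_c4 LD2_c0 LD3_c61))))))
theorem f338323 : Led Lsl_ft (LP (LK LD1_c1 LD2_c58 LD3_c32)) = (LP (LK LD1_c4 LD2_c0 LD3_c61)) :=
  Lgr Lrot48 (Lpr_ff (f338317 IH) (Lpn (LP (LK LD1_c4 LD2_c0 LD3_c61))))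
theorem f338325 : Led Lsl_ff (LP (LK LD1_c4 LD2_c3 LD3_c3)) = (LP (LK LD1_c8 LD2_c2 LD3_c46)) :=
  Lgr Lrot23 (Lpr_ct (K14.f187856 IH) (Lpr_ft (f338323 IH) (Lpr_ct (K15.f31025 IH) (Lpn (LP (LK LD1_c8 LD2_c2 LD3_c46))))))
theorem f338331 : Led Lsl_at (LP (LK LD1_c4 LD2_c3 LD3_c3)) = (LP (LK LD1_c6 LD2_c4 LD3_c46)) :=
  Lgr Lrot26 (Lpr_ff (f338325 IH) (Lpe (K15.f259089 IH) (Lpe (K16.f265613 IH) (Lpn (LP (LK LD1_c6 LD2_c4 LD3_c46))))))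
theorem f244456 : Led Lsl_et (LP (LK LD1_c8 LD2_c6 LD3_c44)) = (LP (LK LD1_c4 LD2_c3 LD3_c3)) :=
  Lre_e IH (LK LD1_c8 LD2_c6 LD3_c44) (LK LD1_c4 LD2_c3 LD3_c3) Lrfl Lrfl
theorem f338338 : Led Lsl_af (LP (LK LD1_c8 LD2_c6 LD3_c44)) = (LP (LK LD1_c11 LD2_c8 LD3_c43)) :=
  Lgr Lrot50 (Lpr_et (f244456 IH) (Lpr_at (f338331 IH) (Lpr_et (K16.f244109 IH) (Lpn (LP (LK LD1_c11 LD2_c8 LD3_c43))))))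
theorem f338345 : Led Lsl_ft (LP (LK LD1_c15 LD2_c22 LD3_c25)) = (LP (LK LD1_c11 LD2_c8 LD3_c43)) :=
  Lgr Lrot2 (Lpr_gt (K21.f244444 IH) (Lpe (K18.f244445 IH) (Lpr_af (f338338 IH) (Lpn (LP (LK LD1_c11 LD2_c8 LD3_c43))))))
theorem f338354 : Led Lsl_ff (LP (LK LD1_c15 LD2_c22 LD3_c25)) = (LP (LK LD1_c11 LD2_c8 LD3_c43)) :=
  Lgr Lrot3 (Lpr_ft (f338345 IH) (Lpn (LP (LK LD1_c11 LD2_c8 LD3_c43))))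
theorem f338340 : Led Lsl_at (LP (LK LD1_c8 LD2_c6 LD3_c44)) = (LP (LK LD1_c11 LD2_c8 LD3_c43)) :=
  Lgr Lrot100 (Lpr_af (f338338 IH) (Lpn (LP (LK LD1_c11 LD2_c8 LD3_c43))))
theorem f320972 : Led Lsl_ff (LP (LK LD1_c8 LD2_c6 LD3_c44)) = (LP (LK LD1_c11 LD2_c8 LD3_c44)) :=
  Lgr Lrot23 (Lpr_ct (f243981 IH) (Lpr_ft (K19.f296271 IH) (Lpr_ct (K20.f320953 IH) (Lpn (LP (LK LD1_c11 LD2_c8 LD3_c44))))))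
theorem f338356 : Led Lsl_at (LP (LK LD1_c15 LD2_c22 LD3_c25)) = (LP (LK LD1_c11 LD2_c8 LD3_c44)) :=
  Lgr Lrot66 (Lpr_ff (f338354 IH) (Lpe (f338340 IH) (Lpr_ff (f320972 IH) (Lpn (LP (LK LD1_c11 LD2_c8 LD3_c44))))))
theorem f194508 : Led Lsl_ct (LP (LK LD1_c8 LD2_c6 LD3_c39)) = (LP (LK LD1_c15 LD2_c16 LD3_c19)) :=
  Lre_c IH (LK LD1_c8 LD2_c6 LD3_c39) (LK LD1_c15 LD2_c16 LD3_c19) Lrfl Lrfl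
theorem f329771 : Led Lsl_ef (LP (LK LD1_c15 LD2_c22 LD3_c25)) = (LP (LK LD1_c15 LD2_c16 LD3_c19)) :=
  Lgr Lrot28 (Lpr_ct (K21.f327422 IH) (Lpr_et (K21.f329763 IH) (Lpr_ct (f194508 IH) (Lpn (LP (LK LD1_c15 LD2_c16 LD3_c19))))))
theorem f320969 : Led Lsl_et (LP (LK LD1_c11 LD2_c8 LD3_c44)) = (LP (LK LD1_c20 LD2_c2 LD3_c23)) :=
  Lre_e IH (LK LD1_c11 LD2_c8 LD3_c44) (LK LD1_c20 LD2_c2 LD3_c23) Lrfl Lrfl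
theorem f338373 : Led Lsl_af (LP (LK LD1_c15 LD2_c16 LD3_c19)) = (LP (LK LD1_c20 LD2_c2 LD3_c23)) :=
  Lgr Lrot50 (Lpe (f329771 IH) (Lpr_at (f338356 IH) (Lpr_et (f320969 IH) (Lpn (LP (LK LD1_c20 LD2_c2 LD3_c23))))))
theorem f194496 : Led Lsl_ct (LP (LK LD1_c15 LD2_c16 LD3_c19)) = (LP (LK LD1_c8 LD2_c6 LD3_c39)) :=
  Lre_c IH (LK LD1_c15 LD2_c16 LD3_c19) (LK LD1_c8 LD2_c6 LD3_c39) Lrfl Lrfl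
theorem f312369 : Led Lsl_et (LP (LK LD1_c15 LD2_c9 LD3_c2)) = (LP (LK LD1_c8 LD2_c6 LD3_c47)) :=
  Lgr Lrot74 (Lpe (K21.f253015 IH) (Lpr_ef (K19.f312367 IH) (Lpe (K19.f296277 IH) (Lpn (LP (LK LD1_c8 LD2_c6 LD3_c47))))))
theorem f329769 : Led Lsl_af (LP (LK LD1_c15 LD2_c9 LD3_c2)) = (LP (LK LD1_c8 LD2_c6 LD3_c39)) :=
  Lgr Lrot50 (Lpr_et (f312369 IH) (Lpe (K19.f296272 IH) (Lpr_et (K21.f329763 IH) (Lpn (LP (LK LD1_c8 LD2_c6 LD3_c39))))))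
theorem f338377 : Led Lsl_ct (LP (LK LD1_c15 LD2_c9 LD3_c2)) = (LP (LK LD1_c20 LD2_c2 LD3_c23)) :=
  Lgr Lrot111 (Lpr_af (f329769 IH) (Lpe (f194496 IH) (Lpr_af (f338373 IH) (Lpn (LP (LK LD1_c20 LD2_c2 LD3_c23))))))
theorem f253021 : Led Lsl_ft (LP (LK LD1_c8 LD2_c2 LD3_c47)) = (LP (LK LD1_c15 LD2_c9 LD3_c2)) :=
  Lre_f IH (LK LD1_c8 LD2_c2 LD3_c47) (LK LD1_c15 LD2_c9 LD3_c2) Lrfl Lrfl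
theorem f253013 : Led Lsl_ct (LP (LK LD1_c15 LD2_c9 LD3_c0)) = (LP (LK LD1_c8 LD2_c2 LD3_c47)) :=
  Lre_c IH (LK LD1_c15 LD2_c9 LD3_c0) (LK LD1_c8 LD2_c2 LD3_c47) Lrfl Lrfl
theorem f338380 : Led Lsl_ff (LP (LK LD1_c15 LD2_c9 LD3_c0)) = (LP (LK LD1_c20 LD2_c2 LD3_c23)) :=
  Lgr Lrot23 (Lpr_ct (f253013 IH) (Lpr_ft (f253021 IH) (Lpr_ct (f338377 IH) (Lpn (LP (LK LD1_c20 LD2_c2 LD3_c23))))))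
theorem f338386 : Led Lsl_ft (LP (LK LD1_c15 LD2_c9 LD3_c0)) = (LP (LK LD1_c20 LD2_c2 LD3_c23)) :=
  Lgr Lrot48 (Lpr_ff (f338380 IH) (Lpn (LP (LK LD1_c20 LD2_c2 LD3_c23))))
theorem f338379 : Led Lsl_ft (LP (LK LD1_c15 LD2_c16 LD3_c19)) = (LP (LK LD1_c8 LD2_c6 LD3_c36)) :=
  Lre_f IH (LK LD1_c15 LD2_c16 LD3_c19) (LK LD1_c8 LD2_c6 LD3_c36) Lrfl Lrfl
theorem f338390 : Led Lsl_af (LP (LK LD1_c15 LD2_c9 LD3_c0)) = (LP (LK LD1_c8 LD2_c6 LD3_c36)) :=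
  Lgr Lrot45 (Lpr_ft (f338386 IH) (Lpe (f338373 IH) (Lpr_ft (f338379 IH) (Lpn (LP (LK LD1_c8 LD2_c6 LD3_c36))))))
theorem f338392 : Led Lsl_at (LP (LK LD1_c8 LD2_c2 LD3_c47)) = (LP (LK LD1_c4 LD2_c2 LD3_c60)) :=
  Lgr Lrot107 (Lpe (f253013 IH) (Lpr_af (f338390 IH) (Lpe (K19.f194458 IH) (Lpn (LP (LK LD1_c4 LD2_c2 LD3_c60))))))
theorem f194448 : Led Lsl_gt (LP (LK LD1_c8 LD2_c6 LD3_c38)) = (LP (LK LD1_c4 LD2_c2 LD3_c60)) :=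
  Lre_g IH (LK LD1_c8 LD2_c6 LD3_c38) (LK LD1_c4 LD2_c2 LD3_c60) Lrfl Lrfl
theorem f338573 : Led Lsl_gt (LP (LK LD1_c15 LD2_c9 LD3_c2)) = (LP (LK LD1_c8 LD2_c6 LD3_c38)) :=
  Lgr Lrot5 (Lpr_ft (K21.f253014 IH) (Lpr_at (f338392 IH) (Lpe (f194448 IH) (Lpn (LP (LK LD1_c8 LD2_c6 LD3_c38))))))
theorem f253018 : Led Lsl_bf (LP (LK LD1_c11 LD2_c52 LD3_c47)) = (LP (LK LD1_c15 LD2_c9 LD3_c2)) :=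
  Lgr Lrot24 (Lpr_bt (K21.f253015 IH) (Lpn (LP (LK LD1_c15 LD2_c9 LD3_c2))))
theorem f312375 : Led Lsl_ef (LP (LK LD1_c15 LD2_c9 LD3_c2)) = (LP (LK LD1_c8 LD2_c6 LD3_c47)) :=
  Lgr Lrot29 (Lpe (f253018 IH) (Lpr_et (K19.f312373 IH) (Lpr_bt (K19.f296276 IH) (Lpn (LP (LK LD1_c8 LD2_c6 LD3_c47))))))
theorem f304369 : Led Lsl_dt (LP (LK LD1_c8 LD2_c2 LD3_c57)) = (LP (LK LD1_c15 LD2_c9 LD3_c17)) :=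
  Lre_d IH (LK LD1_c8 LD2_c2 LD3_c57) (LK LD1_c15 LD2_c9 LD3_c17) Lrfl Lrfl
theorem f327369 : Led Lsl_et (LP (LK LD1_c15 LD2_c9 LD3_c17)) = (LP (LK LD1_c8 LD2_c5 LD3_c39)) :=
  Lgr Lrot71 (Lpe (f304369 IH) (Lpe (K21.f296379 IH) (Lpr_df (K21.f320941 IH) (Lpr_ef (K21.f327367 IH) (Lpe (K21.f46044 IH) (Lpn (LP (LK LD1_c8 LD2_c5 LD3_c39))))))))
theorem f293580 : Led Lsl_dt (LP (LK LD1_c15 LD2_c9 LD3_c17)) = (LP (LK LD1_c8 LD2_c2 LD3_c57)) :=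
  Lre_d IH (LK LD1_c15 LD2_c9 LD3_c17) (LK LD1_c8 LD2_c2 LD3_c57) Lrfl Lrfl
theorem f327407 : Led Lsl_gf (LP (LK LD1_c8 LD2_c2 LD3_c57)) = (LP (LK LD1_c4 LD2_c3 LD3_c60)) :=
  Lgr Lrot134 (Lpe (f293580 IH) (Lpr_et (f327369 IH) (Lpe (K21.f46987 IH) (Lpe (K1.f45840 IH) (Lpr_dt (K1.f45849 IH) (Lpr_gt (K10.f192470 IH) (Lpe (K15.f3737 IH) (Lpr_et (K20.f192479 IH) (Lpe (K20.f314281 IH) (Lpr_dt (K17.f269307 IH) (Lpn (LP (LK LD1_c4 LD2_c3 LD3_c60)))))))))))))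
theorem f31653 : Led Lsl_gt (LP (LK LD1_c2 LD2_c29 LD3_c49)) = (LP (LK LD1_c5 LD2_c5 LD3_c1)) :=
  Lre_g IH (LK LD1_c2 LD2_c29 LD3_c49) (LK LD1_c5 LD2_c5 LD3_c1) Lrfl Lrfl
theorem f194449 : Led Lsl_df (LP (LK LD1_c8 LD2_c6 LD3_c38)) = (LP (LK LD1_c5 LD2_c5 LD3_c1)) :=
  Lgr Lrot135 (Lpr_gt (f194448 IH) (Lpe (K19.f194434 IH) (Lpr_et (K21.f194447 IH) (Lpr_gt (K12.f194439 IH) (Lpe (K0.f31173 IH) (Lpr_dt (K0.f28618 IH) (Lpe (K10.f31624 IH) (Lpe (K13.f31627 IH) (Lpr_et (K11.f31640 IH) (Lpr_gt (f31653 IH) (Lpn (LP (LK LD1_c5 LD2_c5 LD3_c1)))))))))))))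
theorem f194452 : Led Lsl_dt (LP (LK LD1_c8 LD2_c6 LD3_c38)) = (LP (LK LD1_c5 LD2_c5 LD3_c1)) :=
  Lgr Lrot42 (Lpr_df (f194449 IH) (Lpn (LP (LK LD1_c5 LD2_c5 LD3_c1))))
theorem f338575 : Led Lsl_gf (LP (LK LD1_c8 LD2_c38 LD3_c6)) = (LP (LK LD1_c5 LD2_c5 LD3_c1)) :=
  Lgr Lrot134 (Lpe (K17.f223571 IH) (Lpe (K17.f292178 IH) (Lpe (f327407 IH) (Lpe (K21.f296379 IH) (Lpr_dt (K21.f320947 IH) (Lpr_gt (K21.f327363 IH) (Lpr_df (K20.f312279 IH) (Lpe (f312375 IH) (Lpr_gt (f338573 IH) (Lpr_dt (f194452 IH) (Lpn (LP (LK LD1_c5 LD2_c5 LD3_c1)))))))))))))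
theorem f228961 : Led Lsl_gt (LP (LK LD1_c15 LD2_c14 LD3_c60)) = (LP (LK LD1_c16 LD2_c15 LD3_c23)) :=
  Lgr Lrot139 (Lpe (K21.f45834 IH) (Lpe (K21.f45833 IH) (Lpe (K21.f45983 IH) (Lpr_dt (K1.f27861 IH) (Lpr_gf (K9.f181997 IH) (Lpe (K13.f34619 IH) (Lpr_et (K16.f182011 IH) (Lpe (K21.f182012 IH) (Lpe (K21.f182013 IH) (Lpr_dt (K21.f228950 IH) (Lpn (LP (LK LD1_c16 LD2_c15 LD3_c23)))))))))))))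
theorem f314294 : Led Lsl_et (LP (LK LD1_c8 LD2_c2 LD3_c57)) = (LP (LK LD1_c15 LD2_c9 LD3_c18)) :=
  Lre_e IH (LK LD1_c8 LD2_c2 LD3_c57) (LK LD1_c15 LD2_c9 LD3_c18) Lrfl Lrfl
theorem f327373 : Led Lsl_ef (LP (LK LD1_c15 LD2_c9 LD3_c17)) = (LP (LK LD1_c8 LD2_c5 LD3_c39)) :=
  Lgr Lrot73 (Lpr_dt (f293580 IH) (Lpr_et (f314294 IH) (Lpr_dt (K21.f320947 IH) (Lpr_et (K21.f327371 IH) (Lpr_dt (K21.f46048 IH) (Lpn (LP (LK LD1_c8 LD2_c5 LD3_c39))))))))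
theorem f327383 : Led Lsl_gf (LP (LK LD1_c15 LD2_c14 LD3_c42)) = (LP (LK LD1_c15 LD2_c9 LD3_c17)) :=
  Lgr Lrot141 (Lpe (K19.f296384 IH) (Lpr_dt (K19.f296423 IH) (Lpr_gt (K21.f327379 IH) (Lpr_df (K18.f243992 IH) (Lpe (K21.f243994 IH) (Lpr_gt (f228961 IH) (Lpe (K21.f228958 IH) (Lpe (K21.f233417 IH) (Lpe (K21.f46044 IH) (Lpe (f327373 IH) (Lpn (LP (LK LD1_c15 LD2_c9 LD3_c17)))))))))))))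
theorem f194454 : Led Lsl_et (LP (LK LD1_c8 LD2_c6 LD3_c38)) = (LP (LK LD1_c15 LD2_c16 LD3_c20)) :=
  Lre_e IH (LK LD1_c8 LD2_c6 LD3_c38) (LK LD1_c15 LD2_c16 LD3_c20) Lrfl Lrfl
theorem f338577 : Led Lsl_gt (LP (LK LD1_c15 LD2_c9 LD3_c37)) = (LP (LK LD1_c15 LD2_c16 LD3_c20)) :=
  Lgr Lrot131 (Lpe (K19.f296425 IH) (Lpr_dt (K19.f296382 IH) (Lpr_gf (f327383 IH) (Lpe (f304369 IH) (Lpr_gf (f327407 IH) (Lpr_ef (K17.f292178 IH) (Lpr_dt (K17.f223571 IH) (Lpr_gf (f338575 IH) (Lpe (f194452 IH) (Lpr_et (f194454 IH) (Lpn (LP (LK LD1_c15 LD2_c16 LD3_c20)))))))))))))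
theorem f201028 : Led Lsl_et (LP (LK LD1_c0 LD2_c56 LD3_c11)) = (LP (LK LD1_c1 LD2_c58 LD3_c43)) :=
  Lre_e IH (LK LD1_c0 LD2_c56 LD3_c11) (LK LD1_c1 LD2_c58 LD3_c43) Lrfl Lrfl
theorem f28980 : Led Lsl_gt (LP (LK LD1_c4 LD2_c3 LD3_c31)) = (LP (LK LD1_c1 LD2_c58 LD3_c43)) :=
  Lre_g IH (LK LD1_c4 LD2_c3 LD3_c31) (LK LD1_c1 LD2_c58 LD3_c43) Lrfl Lrfl
theorem f284242 : Led Lsl_et (LP (LK LD1_c8 LD2_c7 LD3_c39)) = (LP (LK LD1_c4 LD2_c3 LD3_c31)) :=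
  Lre_e IH (LK LD1_c8 LD2_c7 LD3_c39) (LK LD1_c4 LD2_c3 LD3_c31) Lrfl Lrfl
theorem f338579 : Led Lsl_dt (LP (LK LD1_c8 LD2_c7 LD3_c39)) = (LP (LK LD1_c15 LD2_c16 LD3_c20)) :=
  Lgr Lrot56 (Lpr_et (f284242 IH) (Lpr_gt (f28980 IH) (Lpe (f201028 IH) (Lpr_dt (K11.f53019 IH) (Lpr_gt (K11.f28137 IH) (Lpe (K11.f28105 IH) (Lpr_et (K19.f28107 IH) (Lpr_gt (K19.f28109 IH) (Lpr_dt (K21.f28110 IH) (Lpr_gt (f338577 IH) (Lpn (LP (LK LD1_c15 LD2_c16 LD3_c20)))))))))))))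
theorem f170818 : Led Lsl_ft (LP (LK LD1_c4 LD2_c52 LD3_c50)) = (LP (LK LD1_c2 LD2_c24 LD3_c8)) :=
  Lre_f IH (LK LD1_c4 LD2_c52 LD3_c50) (LK LD1_c2 LD2_c24 LD3_c8) Lrfl Lrfl
theorem f284235 : Led Lsl_gt (LP (LK LD1_c4 LD2_c52 LD3_c50)) = (LP (LK LD1_c4 LD2_c3 LD3_c31)) :=
  Lgr Lrot5 (Lpr_ft (f170818 IH) (Lpr_at (K17.f284230 IH) (Lpe (f28980 IH) (Lpn (LP (LK LD1_c4 LD2_c3 LD3_c31))))))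
theorem f299092 : Led Lsl_et (LP (LK LD1_c8 LD2_c36 LD3_c44)) = (LP (LK LD1_c15 LD2_c9 LD3_c39)) :=
  Lgr Lrot158 (Lpr_cf (K21.f299009 IH) (Lpr_ef (K19.f299090 IH) (Lpe (K19.f28039 IH) (Lpn (LP (LK LD1_c15 LD2_c9 LD3_c39))))))
theorem f328122 : Led Lsl_gf (LP (LK LD1_c15 LD2_c9 LD3_c39)) = (LP (LK LD1_c15 LD2_c16 LD3_c20)) :=
  Lgr Lrot141 (Lpe (f299092 IH) (Lpr_dt (K19.f310492 IH) (Lpr_gt (K21.f328106 IH) (Lpe (K21.f259093 IH) (Lpe (K21.f328120 IH) (Lpr_gt (K21.f211325 IH) (Lpe (K18.f211288 IH) (Lpr_gt (f31653 IH) (Lpe (f194452 IH) (Lpr_et (f194454 IH) (Lpn (LP (LK LD1_c15 LD2_c16 LD3_c20)))))))))))))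
theorem f299098 : Led Lsl_et (LP (LK LD1_c8 LD2_c3 LD3_c7)) = (LP (LK LD1_c15 LD2_c9 LD3_c40)) :=
  Lre_e IH (LK LD1_c8 LD2_c3 LD3_c7) (LK LD1_c15 LD2_c9 LD3_c40) Lrfl Lrfl
theorem f338586 : Led Lsl_gf (LP (LK LD1_c16 LD2_c8 LD3_c26)) = (LP (LK LD1_c15 LD2_c9 LD3_c40)) :=
  Lgr Lrot138 (Lpr_dt (K13.f228071 IH) (Lpr_gt (K21.f305640 IH) (Lpe (K19.f256747 IH) (Lpe (K15.f256748 IH) (Lpr_gt (f284235 IH) (Lpe (f284242 IH) (Lpr_dt (f338579 IH) (Lpe (f328122 IH) (Lpe (K19.f28038 IH) (Lpr_et (f299098 IH) (Lpn (LP (LK LD1_c15 LD2_c9 LD3_c40)))))))))))))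
theorem f39151 : Led Lsl_dt (LP (LK LD1_c4 LD2_c22 LD3_c16)) = (LP (LK LD1_c8 LD2_c42 LD3_c31)) :=
  Lre_d IH (LK LD1_c4 LD2_c22 LD3_c16) (LK LD1_c8 LD2_c42 LD3_c31) Lrfl Lrfl
theorem f243092 : Led Lsl_gt (LP (LK LD1_c8 LD2_c42 LD3_c31)) = (LP (LK LD1_c8 LD2_c40 LD3_c51)) :=
  Lgr Lrot139 (Lpe (f39151 IH) (Lpe (K13.f39146 IH) (Lpe (K1.f39093 IH) (Lpr_dt (K1.f29139 IH) (Lpe (K13.f228932 IH) (Lpe (K12.f167336 IH) (Lpr_et (K21.f228940 IH) (Lpe (K21.f228995 IH) (Lpe (K21.f229003 IH) (Lpr_dt (K21.f243085 IH) (Lpn (LP (LK LD1_c8 LD2_c40 LD3_c51)))))))))))))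
theorem f229006 : Led Lsl_gt (LP (LK LD1_c15 LD2_c34 LD3_c53)) = (LP (LK LD1_c14 LD2_c58 LD3_c7)) :=
  Lgr Lrot137 (Lpe (K21.f229001 IH) (Lpr_dt (K21.f228999 IH) (Lpe (K21.f193023 IH) (Lpr_df (K21.f216769 IH) (Lpr_et (K16.f216790 IH) (Lpe (K12.f216806 IH) (Lpe (K9.f39122 IH) (Lpr_dt (K9.f42906 IH) (Lpe (K18.f39124 IH) (Lpe (K18.f39133 IH) (Lpn (LP (LK LD1_c14 LD2_c58 LD3_c7)))))))))))))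
theorem f39130 : Led Lsl_dt (LP (LK LD1_c7 LD2_c56 LD3_c2)) = (LP (LK LD1_c14 LD2_c58 LD3_c7)) :=
  Lre_d IH (LK LD1_c7 LD2_c56 LD3_c2) (LK LD1_c14 LD2_c58 LD3_c7) Lrfl Lrfl
theorem f338588 : Led Lsl_gt (LP (LK LD1_c14 LD2_c58 LD3_c8)) = (LP (LK LD1_c16 LD2_c5 LD3_c45)) :=
  Lgr Lrot131 (Lpe (K18.f229008 IH) (Lpr_dt (f39130 IH) (Lpe (f229006 IH) (Lpr_df (K21.f243081 IH) (Lpe (f243092 IH) (Lpr_ef (K13.f236468 IH) (Lpr_dt (K19.f228075 IH) (Lpr_gf (f338586 IH) (Lpr_df (K19.f310500 IH) (Lpr_et (K21.f310508 IH) (Lpn (LP (LK LD1_c16 LD2_c5 LD3_c45)))))))))))))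
theorem f227200 : Led Lsl_dt (LP (LK LD1_c8 LD2_c8 LD3_c4)) = (LP (LK LD1_c15 LD2_c16 LD3_c47)) :=
  Lgr Lrot42 (Lpr_df (K18.f227197 IH) (Lpn (LP (LK LD1_c15 LD2_c16 LD3_c47))))
theorem f237222 : Led Lsl_df (LP (LK LD1_c14 LD2_c58 LD3_c8)) = (LP (LK LD1_c8 LD2_c6 LD3_c53)) :=
  Lgr Lrot70 (Lpr_et (K18.f39134 IH) (Lpr_dt (f39130 IH) (Lpr_et (K18.f237218 IH) (Lpr_dt (f227200 IH) (Lpr_et (K18.f227196 IH) (Lpn (LP (LK LD1_c8 LD2_c6 LD3_c53))))))))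
theorem f338607 : Led Lsl_gf (LP (LK LD1_c9 LD2_c37 LD3_c41)) = (LP (LK LD1_c15 LD2_c9 LD3_c39)) :=
  Lgr Lrot141 (Lpe (K21.f187959 IH) (Lpr_dt (K19.f187955 IH) (Lpr_gt (K19.f310567 IH) (Lpe (K10.f194733 IH) (Lpe (K17.f279738 IH) (Lpr_gt (K18.f237233 IH) (Lpe (f237222 IH) (Lpr_gt (f338588 IH) (Lpe (K19.f310492 IH) (Lpr_et (f299092 IH) (Lpn (LP (LK LD1_c15 LD2_c9 LD3_c39)))))))))))))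
theorem f53013 : Led Lsl_dt (LP (LK LD1_c8 LD2_c9 LD3_c25)) = (LP (LK LD1_c15 LD2_c21 LD3_c51)) :=
  Lre_d IH (LK LD1_c8 LD2_c9 LD3_c25) (LK LD1_c15 LD2_c21 LD3_c51) Lrfl Lrfl
theorem f53012 : Led Lsl_gt (LP (LK LD1_c15 LD2_c21 LD3_c51)) = (LP (LK LD1_c25 LD2_c13 LD3_c25)) :=
  Lre_g IH (LK LD1_c15 LD2_c21 LD3_c51) (LK LD1_c25 LD2_c13 LD3_c25) Lrfl Lrfl
theorem f238356 : Led Lsl_gt (LP (LK LD1_c8 LD2_c27 LD3_c40)) = (LP (LK LD1_c4 LD2_c14 LD3_c28)) :=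
  Lre_g IH (LK LD1_c8 LD2_c27 LD3_c40) (LK LD1_c4 LD2_c14 LD3_c28) Lrfl Lrfl
theorem f238357 : Led Lsl_et (LP (LK LD1_c15 LD2_c53 LD3_c20)) = (LP (LK LD1_c8 LD2_c27 LD3_c40)) :=
  Lre_e IH (LK LD1_c15 LD2_c53 LD3_c20) (LK LD1_c8 LD2_c27 LD3_c40) Lrfl Lrfl
theorem f238358 : Led Lsl_dt (LP (LK LD1_c15 LD2_c53 LD3_c20)) = (LP (LK LD1_c25 LD2_c13 LD3_c25)) :=
  Lgr Lrot56 (Lpr_et (f238357 IH) (Lpr_gt (f238356 IH) (Lpe (K19.f189209 IH) (Lpe (K15.f228258 IH) (Lpr_gt (K15.f238333 IH) (Lpr_df (K12.f52243 IH) (Lpr_et (K21.f52260 IH) (Lpr_gt (K21.f53007 IH) (Lpr_dt (f53013 IH) (Lpr_gt (f53012 IH) (Lpn (LP (LK LD1_c25 LD2_c13 LD3_c25)))))))))))))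
theorem f238361 : Led Lsl_df (LP (LK LD1_c15 LD2_c53 LD3_c20)) = (LP (LK LD1_c25 LD2_c13 LD3_c25)) :=
  Lgr Lrot38 (Lpr_dt (f238358 IH) (Lpn (LP (LK LD1_c25 LD2_c13 LD3_c25))))
theorem f310595 : Led Lsl_cf (LP (LK LD1_c15 LD2_c53 LD3_c20)) = (LP (LK LD1_c9 LD2_c37 LD3_c41)) :=
  Lgr Lrot14 (Lpr_df (f238361 IH) (Lpe (f53012 IH) (Lpe (f53013 IH) (Lpe (K21.f53007 IH) (Lpr_ct (K10.f27986 IH) (Lpr_gt (K15.f28000 IH) (Lpr_dt (K21.f28001 IH) (Lpr_gt (K21.f52352 IH) (Lpr_dt (K21.f310589 IH) (Lpn (LP (LK LD1_c9 LD2_c37 LD3_c41))))))))))))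
theorem f312222 : Led Lsl_ct (LP (LK LD1_c8 LD2_c9 LD3_c22)) = (LP (LK LD1_c4 LD2_c14 LD3_c53)) :=
  Lgr Lrot8 (Lpr_gt (K20.f52998 IH) (Lpr_dt (K20.f28025 IH) (Lpe (K20.f52976 IH) (Lpr_dt (K20.f312211 IH) (Lpe (K20.f224249 IH) (Lpe (K20.f224247 IH) (Lpe (K19.f224245 IH) (Lpe (K19.f27565 IH) (Lpr_gf (K19.f27623 IH) (Lpn (LP (LK LD1_c4 LD2_c14 LD3_c53))))))))))))
theorem f27473 : Led Lsl_ct (LP (LK LD1_c15 LD2_c55 LD3_c0)) = (LP (LK LD1_c8 LD2_c28 LD3_c36)) :=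
  Lre_c IH (LK LD1_c15 LD2_c55 LD3_c0) (LK LD1_c8 LD2_c28 LD3_c36) Lrfl Lrfl
theorem f338611 : Led Lsl_gt (LP (LK LD1_c15 LD2_c53 LD3_c20)) = (LP (LK LD1_c15 LD2_c55 LD3_c0)) :=
  Lgr Lrot150 (Lpr_cf (f310595 IH) (Lpr_gf (f338607 IH) (Lpe (K19.f28038 IH) (Lpr_gt (K19.f28108 IH) (Lpr_ct (K20.f52602 IH) (Lpr_gt (K20.f52607 IH) (Lpr_ct (f312222 IH) (Lpe (K19.f27477 IH) (Lpe (f27473 IH) (Lpn (LP (LK LD1_c15 LD2_c55 LD3_c0))))))))))))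
theorem f310593 : Led Lsl_ct (LP (LK LD1_c15 LD2_c53 LD3_c20)) = (LP (LK LD1_c9 LD2_c37 LD3_c41)) :=
  Lgr Lrot7 (Lpr_df (f238361 IH) (Lpe (f53012 IH) (Lpe (f53013 IH) (Lpe (K21.f53007 IH) (Lpe (K21.f27989 IH) (Lpr_gt (K15.f28000 IH) (Lpr_dt (K21.f28001 IH) (Lpr_gt (K21.f52352 IH) (Lpr_dt (K21.f310589 IH) (Lpn (LP (LK LD1_c9 LD2_c37 LD3_c41))))))))))))
theorem f28027 : Led Lsl_dt (LP (LK LD1_c15 LD2_c17 LD3_c31)) = (LP (LK LD1_c8 LD2_c7 LD3_c13)) :=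
  Lre_d IH (LK LD1_c15 LD2_c17 LD3_c31) (LK LD1_c8 LD2_c7 LD3_c13) Lrfl Lrfl
theorem f52394 : Led Lsl_ft (LP (LK LD1_c8 LD2_c7 LD3_c11)) = (LP (LK LD1_c15 LD2_c17 LD3_c30)) :=
  Lre_f IH (LK LD1_c8 LD2_c7 LD3_c11) (LK LD1_c15 LD2_c17 LD3_c30) Lrfl Lrfl
theorem f52395 : Led Lsl_gt (LP (LK LD1_c8 LD2_c7 LD3_c11)) = (LP (LK LD1_c15 LD2_c17 LD3_c28)) :=
  Lre_g IH (LK LD1_c8 LD2_c7 LD3_c11) (LK LD1_c15 LD2_c17 LD3_c28) Lrfl Lrfl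
theorem f52396 : Led Lsl_gt (LP (LK LD1_c15 LD2_c17 LD3_c28)) = (LP (LK LD1_c15 LD2_c17 LD3_c31)) :=
  Lgr Lrot46 (Lpe (f52395 IH) (Lpr_ft (f52394 IH) (Lpr_at (K10.f52387 IH) (Lpn (LP (LK LD1_c15 LD2_c17 LD3_c31))))))
theorem f338623 : Led Lsl_df (LP (LK LD1_c15 LD2_c17 LD3_c28)) = (LP (LK LD1_c15 LD2_c55 LD3_c0)) :=
  Lgr Lrot153 (Lpr_gt (f52396 IH) (Lpr_dt (f28027 IH) (Lpe (K9.f28024 IH) (Lpr_df (K10.f27994 IH) (Lpe (K19.f28035 IH) (Lpe (K19.f28036 IH) (Lpr_gf (K21.f199330 IH) (Lpe (f310593 IH) (Lpr_gt (f338611 IH) (Lpn (LP (LK LD1_c15 LD2_c55 LD3_c0))))))))))))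
theorem f339020 : Led Lsl_dt (LP (LK LD1_c15 LD2_c17 LD3_c28)) = (LP (LK LD1_c15 LD2_c55 LD3_c0)) :=
  Lgr Lrot42 (Lpr_df (f338623 IH) (Lpn (LP (LK LD1_c15 LD2_c55 LD3_c0))))
theorem f52411 : Led Lsl_gt (LP (LK LD1_c8 LD2_c9 LD3_c23)) = (LP (LK LD1_c4 LD2_c4 LD3_c16)) :=
  Lre_g IH (LK LD1_c8 LD2_c9 LD3_c23) (LK LD1_c4 LD2_c4 LD3_c16) Lrfl Lrfl
theorem f339098 : Led Lsl_cf (LP (LK LD1_c8 LD2_c9 LD3_c23)) = (LP (LK LD1_c4 LD2_c14 LD3_c54)) :=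
  Lgr Lrot166 (Lpr_gt (f52411 IH) (Lpr_dt (K10.f52305 IH) (Lpr_gt (f52395 IH) (Lpr_dt (f339020 IH) (Lpr_ct (f27473 IH) (Lpe (K21.f27471 IH) (Lpe (K19.f27470 IH) (Lpr_df (K11.f27433 IH) (Lpe (K19.f27468 IH) (Lpn (LP (LK LD1_c4 LD2_c14 LD3_c54))))))))))))
theorem f52410 : Led Lsl_ft (LP (LK LD1_c8 LD2_c7 LD3_c13)) = (LP (LK LD1_c4 LD2_c4 LD3_c17)) :=
  Lre_f IH (LK LD1_c8 LD2_c7 LD3_c13) (LK LD1_c4 LD2_c4 LD3_c17) Lrfl Lrfl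
theorem f52412 : Led Lsl_gf (LP (LK LD1_c8 LD2_c9 LD3_c23)) = (LP (LK LD1_c8 LD2_c7 LD3_c13)) :=
  Lgr Lrot47 (Lpr_gt (f52411 IH) (Lpr_af (K10.f52378 IH) (Lpe (f52410 IH) (Lpn (LP (LK LD1_c8 LD2_c7 LD3_c13))))))
theorem f28043 : Led Lsl_bt (LP (LK LD1_c15 LD2_c9 LD3_c36)) = (LP (LK LD1_c8 LD2_c3 LD3_c6)) :=
  Lre_b IH (LK LD1_c15 LD2_c9 LD3_c36) (LK LD1_c8 LD2_c3 LD3_c6) Lrfl Lrfl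
theorem f309888 : Led Lsl_bf (LP (LK LD1_c3 LD2_c58 LD3_c50)) = (LP (LK LD1_c4 LD2_c14 LD3_c54)) :=
  Lgr Lrot24 (Lpr_bt (K19.f309886 IH) (Lpn (LP (LK LD1_c4 LD2_c14 LD3_c54))))
theorem f54678 : Led Lsl_gt (LP (LK LD1_c7 LD2_c58 LD3_c41)) = (LP (LK LD1_c15 LD2_c3 LD3_c7)) :=
  Lre_g IH (LK LD1_c7 LD2_c58 LD3_c41) (LK LD1_c15 LD2_c3 LD3_c7) Lrfl Lrfl
theorem f339107 : Led Lsl_ct (LP (LK LD1_c15 LD2_c9 LD3_c36)) = (LP (LK LD1_c15 LD2_c3 LD3_c7)) :=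
  Lgr Lrot10 (Lpr_bt (f28043 IH) (Lpr_gt (K19.f28035 IH) (Lpr_ct (K9.f28024 IH) (Lpe (f52412 IH) (Lpr_cf (f339098 IH) (Lpe (f309888 IH) (Lpr_gt (K19.f41328 IH) (Lpe (K1.f41104 IH) (Lpr_ct (K20.f41335 IH) (Lpr_gt (f54678 IH) (Lpn (LP (LK LD1_c15 LD2_c3 LD3_c7)))))))))))))
theorem f47870 : Led Lsl_at (LP (LK LD1_c8 LD2_c14 LD3_c3)) = (LP (LK LD1_c15 LD2_c27 LD3_c41)) :=
  Lre_a IH (LK LD1_c8 LD2_c14 LD3_c3) (LK LD1_c15 LD2_c27 LD3_c41) Lrfl Lrfl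
theorem f54679 : Led Lsl_gt (LP (LK LD1_c15 LD2_c3 LD3_c7)) = (LP (LK LD1_c15 LD2_c27 LD3_c41)) :=
  Lgr Lrot46 (Lpe (f54678 IH) (Lpr_ft (K1.f54666 IH) (Lpr_at (f47870 IH) (Lpn (LP (LK LD1_c15 LD2_c27 LD3_c41))))))
theorem f55283 : Led Lsl_ct (LP (LK LD1_c4 LD2_c55 LD3_c52)) = (LP (LK LD1_c9 LD2_c43 LD3_c27)) :=
  Lre_c IH (LK LD1_c4 LD2_c55 LD3_c52) (LK LD1_c9 LD2_c43 LD3_c27) Lrfl Lrfl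
theorem f339113 : Led Lsl_gf (LP (LK LD1_c10 LD2_c35 LD3_c17)) = (LP (LK LD1_c9 LD2_c43 LD3_c27)) :=
  Lgr Lrot129 (Lpe (K21.f194655 IH) (Lpe (K10.f196540 IH) (Lpr_gt (K19.f28109 IH) (Lpe (f28043 IH) (Lpr_ct (f339107 IH) (Lpr_gt (f54679 IH) (Lpe (K20.f47866 IH) (Lpe (K19.f55055 IH) (Lpe (K19.f307401 IH) (Lpr_ct (f55283 IH) (Lpn (LP (LK LD1_c9 LD2_c43 LD3_c27)))))))))))))
theorem f307393 : Led Lsl_bt (LP (LK LD1_c4 LD2_c55 LD3_c52)) = (LP (LK LD1_c9 LD2_c43 LD3_c26)) :=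
  Lre_b IH (LK LD1_c4 LD2_c55 LD3_c52) (LK LD1_c9 LD2_c43 LD3_c26) Lrfl Lrfl
theorem f339119 : Led Lsl_gt (LP (LK LD1_c8 LD2_c26 LD3_c31)) = (LP (LK LD1_c9 LD2_c43 LD3_c26)) :=
  Lgr Lrot164 (Lpe (K14.f27420 IH) (Lpr_ct (K19.f27523 IH) (Lpr_gf (K19.f52900 IH) (Lpr_cf (K21.f299071 IH) (Lpe (K19.f28109 IH) (Lpr_bf (K10.f196540 IH) (Lpr_ct (K21.f194655 IH) (Lpr_gf (f339113 IH) (Lpe (f55283 IH) (Lpr_bt (f307393 IH) (Lpn (LP (LK LD1_c9 LD2_c43 LD3_c26)))))))))))))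
theorem f221252 : Led Lsl_gt (LP (LK LD1_c15 LD2_c56 LD3_c3)) = (LP (LK LD1_c25 LD2_c52 LD3_c22)) :=
  Lre_g IH (LK LD1_c15 LD2_c56 LD3_c3) (LK LD1_c25 LD2_c52 LD3_c22) Lrfl Lrfl
theorem f295240 : Led Lsl_gt (LP (LK LD1_c25 LD2_c52 LD3_c22)) = (LP (LK LD1_c16 LD2_c44 LD3_c6)) :=
  Lgr Lrot46 (Lpe (f221252 IH) (Lpr_ft (K18.f295232 IH) (Lpe (K18.f295238 IH) (Lpn (LP (LK LD1_c16 LD2_c44 LD3_c6))))))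
theorem f282577 : Led Lsl_et (LP (LK LD1_c2 LD2_c40 LD3_c11)) = (LP (LK LD1_c5 LD2_c27 LD3_c39)) :=
  Lre_e IH (LK LD1_c2 LD2_c40 LD3_c11) (LK LD1_c5 LD2_c27 LD3_c39) Lrfl Lrfl
theorem f235815 : Led Lsl_gt (LP (LK LD1_c5 LD2_c27 LD3_c39)) = (LP (LK LD1_c10 LD2_c46 LD3_c23)) :=
  Lre_g IH (LK LD1_c5 LD2_c27 LD3_c39) (LK LD1_c10 LD2_c46 LD3_c23) Lrfl Lrfl
theorem f295123 : Led Lsl_et (LP (LK LD1_c19 LD2_c28 LD3_c61)) = (LP (LK LD1_c10 LD2_c46 LD3_c23)) :=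
  Lre_e IH (LK LD1_c19 LD2_c28 LD3_c61) (LK LD1_c10 LD2_c46 LD3_c23) Lrfl Lrfl
theorem f295242 : Led Lsl_df (LP (LK LD1_c25 LD2_c52 LD3_c22)) = (LP (LK LD1_c19 LD2_c28 LD3_c61)) :=
  Lgr Lrot170 (Lpr_gt (f295240 IH) (Lpe (K12.f188626 IH) (Lpr_et (f188625 IH) (Lpr_gt (K12.f188939 IH) (Lpr_dt (K17.f188903 IH) (Lpr_gt (K18.f295113 IH) (Lpe (K16.f235777 IH) (Lpr_et (f282577 IH) (Lpr_gt (f235815 IH) (Lpe (f295123 IH) (Lpn (LP (LK LD1_c19 LD2_c28 LD3_c61)))))))))))))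
theorem f295244 : Led Lsl_dt (LP (LK LD1_c25 LD2_c52 LD3_c22)) = (LP (LK LD1_c19 LD2_c28 LD3_c61)) :=
  Lgr Lrot42 (Lpr_df (f295242 IH) (Lpn (LP (LK LD1_c19 LD2_c28 LD3_c61))))
theorem f339124 : Led Lsl_dt (LP (LK LD1_c9 LD2_c43 LD3_c26)) = (LP (LK LD1_c17 LD2_c52 LD3_c40)) :=
  Lre_d IH (LK LD1_c9 LD2_c43 LD3_c26) (LK LD1_c17 LD2_c52 LD3_c40) Lrfl Lrfl
theorem f339125 : Led Lsl_ct (LP (LK LD1_c19 LD2_c28 LD3_c61)) = (LP (LK LD1_c17 LD2_c52 LD3_c40)) :=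
  Lgr Lrot7 (Lpe (f295244 IH) (Lpe (f221252 IH) (Lpe (K12.f45166 IH) (Lpe (K20.f45173 IH) (Lpe (K20.f320997 IH) (Lpr_gt (K17.f189696 IH) (Lpe (K11.f27417 IH) (Lpr_gt (f339119 IH) (Lpr_dt (f339124 IH) (Lpn (LP (LK LD1_c17 LD2_c52 LD3_c40))))))))))))
theorem f282576 : Led Lsl_et (LP (LK LD1_c10 LD2_c46 LD3_c23)) = (LP (LK LD1_c19 LD2_c28 LD3_c61)) :=
  Lre_e IH (LK LD1_c10 LD2_c46 LD3_c23) (LK LD1_c19 LD2_c28 LD3_c61) Lrfl Lrfl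
theorem f323176 : Led Lsl_gf (LP (LK LD1_c15 LD2_c37 LD3_c33)) = (LP (LK LD1_c10 LD2_c46 LD3_c23)) :=
  Lgr Lrot76 (Lpr_af (K20.f323152 IH) (Lpe (K20.f323127 IH) (Lpr_gt (f235815 IH) (Lpn (LP (LK LD1_c10 LD2_c46 LD3_c23))))))
theorem f213811 : Led Lsl_gt (LP (LK LD1_c5 LD2_c29 LD3_c42)) = (LP (LK LD1_c10 LD2_c50 LD3_c40)) :=
  Lre_g IH (LK LD1_c5 LD2_c29 LD3_c42) (LK LD1_c10 LD2_c50 LD3_c40) Lrfl Lrfl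
theorem f331273 : Led Lsl_cf (LP (LK LD1_c10 LD2_c46 LD3_c23)) = (LP (LK LD1_c10 LD2_c50 LD3_c40)) :=
  Lgr Lrot169 (Lpe (f323176 IH) (Lpr_ct (K21.f323157 IH) (Lpe (K20.f323178 IH) (Lpe (K20.f323179 IH) (Lpr_gf (K21.f331269 IH) (Lpe (K21.f168514 IH) (Lpe (K20.f168511 IH) (Lpe (K17.f168385 IH) (Lpr_gt (f213811 IH) (Lpn (LP (LK LD1_c10 LD2_c50 LD3_c40))))))))))))
theorem f339134 : Led Lsl_ef (LP (LK LD1_c10 LD2_c50 LD3_c40)) = (LP (LK LD1_c17 LD2_c52 LD3_c40)) :=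
  Lgr Lrot28 (Lpe (f331273 IH) (Lpr_et (f282576 IH) (Lpr_ct (f339125 IH) (Lpn (LP (LK LD1_c17 LD2_c52 LD3_c40))))))
theorem f339131 : Led Lsl_dt (LP (LK LD1_c17 LD2_c52 LD3_c40)) = (LP (LK LD1_c9 LD2_c43 LD3_c26)) :=
  Lre_d IH (LK LD1_c17 LD2_c52 LD3_c40) (LK LD1_c9 LD2_c43 LD3_c26) Lrfl Lrfl
theorem f339148 : Led Lsl_gt (LP (LK LD1_c10 LD2_c50 LD3_c40)) = (LP (LK LD1_c15 LD2_c51 LD3_c22)) :=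
  Lgr Lrot137 (Lpr_ef (f339134 IH) (Lpr_dt (f339131 IH) (Lpe (f339119 IH) (Lpr_df (K11.f27417 IH) (Lpr_et (K11.f27414 IH) (Lpr_gf (K11.f189714 IH) (Lpe (K17.f263710 IH) (Lpr_dt (K17.f213812 IH) (Lpe (K17.f263719 IH) (Lpr_df (K17.f286128 IH) (Lpn (LP (LK LD1_c15 LD2_c51 LD3_c22)))))))))))))
theorem f323156 : Led Lsl_dt (LP (LK LD1_c15 LD2_c37 LD3_c33)) = (LP (LK LD1_c25 LD2_c32 LD3_c32)) :=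
  Lre_d IH (LK LD1_c15 LD2_c37 LD3_c33) (LK LD1_c25 LD2_c32 LD3_c32) Lrfl Lrfl
theorem f339150 : Led Lsl_gt (LP (LK LD1_c25 LD2_c32 LD3_c32)) = (LP (LK LD1_c15 LD2_c56 LD3_c25)) :=
  Lgr Lrot49 (Lpe (f323156 IH) (Lpr_gf (f323176 IH) (Lpr_cf (f331273 IH) (Lpr_gt (f339148 IH) (Lpe (K17.f286128 IH) (Lpr_gt (K17.f263719 IH) (Lpr_dt (K21.f263716 IH) (Lpr_cf (K21.f263714 IH) (Lpe (K21.f250944 IH) (Lpn (LP (LK LD1_c15 LD2_c56 LD3_c25))))))))))))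
theorem f339152 : Led Lsl_cf (LP (LK LD1_c10 LD2_c50 LD3_c40)) = (LP (LK LD1_c10 LD2_c46 LD3_c23)) :=
  Lgr Lrot166 (Lpr_gt (f339148 IH) (Lpe (K17.f286128 IH) (Lpr_gt (K17.f263719 IH) (Lpr_dt (K21.f263716 IH) (Lpr_ct (K21.f263722 IH) (Lpe (K21.f250944 IH) (Lpe (f339150 IH) (Lpe (f323156 IH) (Lpr_gf (f323176 IH) (Lpn (LP (LK LD1_c10 LD2_c46 LD3_c23))))))))))))
theorem f250940 : Led Lsl_gt (LP (LK LD1_c10 LD2_c46 LD3_c25)) = (LP (LK LD1_c19 LD2_c29 LD3_c2)) :=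
  Lre_g IH (LK LD1_c10 LD2_c46 LD3_c25) (LK LD1_c19 LD2_c29 LD3_c2) Lrfl Lrfl
theorem f339154 : Led Lsl_ct (LP (LK LD1_c19 LD2_c29 LD3_c2)) = (LP (LK LD1_c28 LD2_c51 LD3_c12)) :=
  Lre_c IH (LK LD1_c19 LD2_c29 LD3_c2) (LK LD1_c28 LD2_c51 LD3_c12) Lrfl Lrfl
theorem f245183 : Led Lsl_dt (LP (LK LD1_c19 LD2_c30 LD3_c6)) = (LP (LK LD1_c10 LD2_c46 LD3_c53)) :=
  Lre_d IH (LK LD1_c19 LD2_c30 LD3_c6) (LK LD1_c10 LD2_c46 LD3_c53) Lrfl Lrfl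
theorem f245184 : Led Lsl_ct (LP (LK LD1_c28 LD2_c52 LD3_c44)) = (LP (LK LD1_c19 LD2_c30 LD3_c6)) :=
  Lre_c IH (LK LD1_c28 LD2_c52 LD3_c44) (LK LD1_c19 LD2_c30 LD3_c6) Lrfl Lrfl
theorem f339155 : Led Lsl_gt (LP (LK LD1_c28 LD2_c51 LD3_c12)) = (LP (LK LD1_c28 LD2_c52 LD3_c44)) :=
  Lgr Lrot150 (Lpe (f339154 IH) (Lpe (f250940 IH) (Lpe (K20.f235789 IH) (Lpr_gt (f235815 IH) (Lpe (f339152 IH) (Lpr_gt (f339148 IH) (Lpe (K17.f245168 IH) (Lpe (f245183 IH) (Lpe (f245184 IH) (Lpn (LP (LK LD1_c28 LD2_c52 LD3_c44))))))))))))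
theorem f286066 : Led Lsl_at (LP (LK LD1_c28 LD2_c48 LD3_c60)) = (LP (LK LD1_c28 LD2_c52 LD3_c44)) :=
  Lgr Lrot107 (Lpe (K17.f286055 IH) (Lpr_af (K17.f286053 IH) (Lpe (f245184 IH) (Lpn (LP (LK LD1_c28 LD2_c52 LD3_c44))))))
theorem f286072 : Led Lsl_at (LP (LK LD1_c19 LD2_c36 LD3_c3)) = (LP (LK LD1_c28 LD2_c56 LD3_c58)) :=
  Lre_a IH (LK LD1_c19 LD2_c36 LD3_c3) (LK LD1_c28 LD2_c56 LD3_c58) Lrfl Lrfl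
theorem f286073 : Led Lsl_dt (LP (LK LD1_c28 LD2_c52 LD3_c44)) = (LP (LK LD1_c19 LD2_c36 LD3_c3)) :=
  Lgr Lrot44 (Lpe (f286066 IH) (Lpr_df (K17.f286070 IH) (Lpe (f286072 IH) (Lpn (LP (LK LD1_c19 LD2_c36 LD3_c3))))))
theorem f213804 : Led Lsl_ct (LP (LK LD1_c10 LD2_c50 LD3_c34)) = (LP (LK LD1_c19 LD2_c36 LD3_c3)) :=
  Lre_c IH (LK LD1_c10 LD2_c50 LD3_c34) (LK LD1_c19 LD2_c36 LD3_c3) Lrfl Lrfl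
theorem f213803 : Led Lsl_dt (LP (LK LD1_c5 LD2_c29 LD3_c39)) = (LP (LK LD1_c10 LD2_c50 LD3_c34)) :=
  Lre_d IH (LK LD1_c5 LD2_c29 LD3_c39) (LK LD1_c10 LD2_c50 LD3_c34) Lrfl Lrfl
theorem f298794 : Led Lsl_ct (LP (LK LD1_c31 LD2_c55 LD3_c31)) = (LP (LK LD1_c25 LD2_c32 LD3_c11)) :=
  Lre_c IH (LK LD1_c31 LD2_c55 LD3_c31) (LK LD1_c25 LD2_c32 LD3_c11) Lrfl Lrfl
theorem f213833 : Led Lsl_ct (LP (LK LD1_c19 LD2_c36 LD3_c3)) = (LP (LK LD1_c10 LD2_c50 LD3_c34)) :=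
  Lre_c IH (LK LD1_c19 LD2_c36 LD3_c3) (LK LD1_c10 LD2_c50 LD3_c34) Lrfl Lrfl
theorem f245182 : Led Lsl_ct (LP (LK LD1_c19 LD2_c30 LD3_c6)) = (LP (LK LD1_c28 LD2_c52 LD3_c44)) :=
  Lre_c IH (LK LD1_c19 LD2_c30 LD3_c6) (LK LD1_c28 LD2_c52 LD3_c44) Lrfl Lrfl
theorem f245181 : Led Lsl_dt (LP (LK LD1_c10 LD2_c46 LD3_c53)) = (LP (LK LD1_c19 LD2_c30 LD3_c6)) :=
  Lre_d IH (LK LD1_c10 LD2_c46 LD3_c53) (LK LD1_c19 LD2_c30 LD3_c6) Lrfl Lrfl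
theorem f295880 : Led Lsl_cf (LP (LK LD1_c10 LD2_c50 LD3_c6)) = (LP (LK LD1_c15 LD2_c37 LD3_c23)) :=
  Lgr Lrot118 (Lpr_dt (K17.f286120 IH) (Lpe (K17.f245168 IH) (Lpr_dt (f245181 IH) (Lpr_ct (f245182 IH) (Lpr_dt (f286073 IH) (Lpr_ct (f213833 IH) (Lpe (K18.f286131 IH) (Lpr_ff (K18.f295874 IH) (Lpr_dt (K18.f295840 IH) (Lpn (LP (LK LD1_c15 LD2_c37 LD3_c23))))))))))))
theorem f295886 : Led Lsl_ct (LP (LK LD1_c25 LD2_c32 LD3_c11)) = (LP (LK LD1_c31 LD2_c55 LD3_c31)) :=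
  Lre_c IH (LK LD1_c25 LD2_c32 LD3_c11) (LK LD1_c31 LD2_c55 LD3_c31) Lrfl Lrfl
theorem f328414 : Led Lsl_ct (LP (LK LD1_c25 LD2_c55 LD3_c37)) = (LP (LK LD1_c15 LD2_c58 LD3_c29)) :=
  Lre_c IH (LK LD1_c25 LD2_c55 LD3_c37) (LK LD1_c15 LD2_c58 LD3_c29) Lrfl Lrfl
theorem f328415 : Led Lsl_gt (LP (LK LD1_c31 LD2_c55 LD3_c31)) = (LP (LK LD1_c25 LD2_c55 LD3_c37)) :=
  Lgr Lrot150 (Lpe (f295886 IH) (Lpe (K20.f295885 IH) (Lpe (K18.f294986 IH) (Lpr_gt (K18.f292392 IH) (Lpe (f295880 IH) (Lpr_gt (K17.f263719 IH) (Lpr_ct (K21.f328405 IH) (Lpe (K21.f328413 IH) (Lpe (f328414 IH) (Lpn (LP (LK LD1_c25 LD2_c55 LD3_c37))))))))))))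
theorem f339160 : Led Lsl_df (LP (LK LD1_c28 LD2_c51 LD3_c12)) = (LP (LK LD1_c25 LD2_c55 LD3_c37)) :=
  Lgr Lrot153 (Lpr_gt (f339155 IH) (Lpr_dt (f286073 IH) (Lpe (f213804 IH) (Lpe (f213803 IH) (Lpr_gf (K18.f283203 IH) (Lpe (K17.f236293 IH) (Lpe (K20.f298784 IH) (Lpe (f298794 IH) (Lpr_gt (f328415 IH) (Lpn (LP (LK LD1_c25 LD2_c55 LD3_c37))))))))))))
theorem f295891 : Led Lsl_ct (LP (LK LD1_c15 LD2_c37 LD3_c27)) = (LP (LK LD1_c8 LD2_c18 LD3_c26)) :=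
  Lre_c IH (LK LD1_c15 LD2_c37 LD3_c27) (LK LD1_c8 LD2_c18 LD3_c26) Lrfl Lrfl
theorem f295882 : Led Lsl_ct (LP (LK LD1_c8 LD2_c18 LD3_c26)) = (LP (LK LD1_c15 LD2_c37 LD3_c27)) :=
  Lre_c IH (LK LD1_c8 LD2_c18 LD3_c26) (LK LD1_c15 LD2_c37 LD3_c27) Lrfl Lrfl
theorem f295883 : Led Lsl_gf (LP (LK LD1_c10 LD2_c46 LD3_c53)) = (LP (LK LD1_c15 LD2_c37 LD3_c27)) :=
  Lgr Lrot104 (Lpr_ct (K17.f245179 IH) (Lpe (K17.f286120 IH) (Lpr_cf (f295880 IH) (Lpe (K18.f292392 IH) (Lpe (K18.f292391 IH) (Lpe (K18.f577 IH) (Lpe (K17.f236267 IH) (Lpr_gt (K21.f246260 IH) (Lpr_ct (f295882 IH) (Lpn (LP (LK LD1_c15 LD2_c37 LD3_c27))))))))))))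
theorem f324252 : Led Lsl_gf (LP (LK LD1_c15 LD2_c55 LD3_c22)) = (LP (LK LD1_c19 LD2_c30 LD3_c6)) :=
  Lgr Lrot143 (Lpr_dt (K18.f231612 IH) (Lpe (K18.f231613 IH) (Lpr_df (K17.f236287 IH) (Lpe (K21.f324245 IH) (Lpe (K21.f236013 IH) (Lpr_gf (K21.f324249 IH) (Lpe (f295891 IH) (Lpe (f295883 IH) (Lpr_dt (f245181 IH) (Lpn (LP (LK LD1_c19 LD2_c30 LD3_c6))))))))))))
theorem f294996 : Led Lsl_gt (LP (LK LD1_c25 LD2_c32 LD3_c12)) = (LP (LK LD1_c15 LD2_c37 LD3_c24)) :=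
  Lre_g IH (LK LD1_c25 LD2_c32 LD3_c12) (LK LD1_c15 LD2_c37 LD3_c24) Lrfl Lrfl
theorem f295003 : Led Lsl_ct (LP (LK LD1_c31 LD2_c55 LD3_c32)) = (LP (LK LD1_c25 LD2_c32 LD3_c12)) :=
  Lre_c IH (LK LD1_c31 LD2_c55 LD3_c32) (LK LD1_c25 LD2_c32 LD3_c12) Lrfl Lrfl
theorem f339162 : Led Lsl_gt (LP (LK LD1_c25 LD2_c55 LD3_c37)) = (LP (LK LD1_c31 LD2_c55 LD3_c32)) :=
  Lgr Lrot146 (Lpe (f339160 IH) (Lpr_gt (f339155 IH) (Lpr_ct (f245184 IH) (Lpe (f324252 IH) (Lpr_ct (K18.f236300 IH) (Lpr_dt (K18.f294999 IH) (Lpe (K18.f294987 IH) (Lpe (f294996 IH) (Lpe (f295003 IH) (Lpn (LP (LK LD1_c31 LD2_c55 LD3_c32))))))))))))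
theorem f339166 : Led Lsl_df (LP (LK LD1_c25 LD2_c55 LD3_c37)) = (LP (LK LD1_c28 LD2_c51 LD3_c12)) :=
  Lgr Lrot155 (Lpr_gt (f339162 IH) (Lpr_ct (f295003 IH) (Lpr_gt (f294996 IH) (Lpr_ct (K18.f294987 IH) (Lpe (K18.f294992 IH) (Lpe (K18.f236300 IH) (Lpr_gf (f324252 IH) (Lpe (f245184 IH) (Lpe (f339155 IH) (Lpn (LP (LK LD1_c28 LD2_c51 LD3_c12))))))))))))
theorem f339168 : Led Lsl_dt (LP (LK LD1_c15 LD2_c55 LD3_c34)) = (LP (LK LD1_c19 LD2_c29 LD3_c2)) :=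
  Lgr Lrot173 (Lpe (K21.f328245 IH) (Lpe (K21.f168512 IH) (Lpe (K21.f283209 IH) (Lpe (K21.f283208 IH) (Lpe (K21.f283207 IH) (Lpe (K21.f328261 IH) (Lpe (K21.f250941 IH) (Lpe (K21.f54490 IH) (Lpe (K21.f263722 IH) (Lpe (K21.f263716 IH) (Lpr_cf (K21.f328410 IH) (Lpe (K21.f328413 IH) (Lpe (f328414 IH) (Lpr_df (f339166 IH) (Lpe (f339154 IH) (Lpn (LP (LK LD1_c19 LD2_c29 LD3_c2))))))))))))))))))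
theorem f298842 : Led Lsl_dt (LP (LK LD1_c15 LD2_c37 LD3_c18)) = (LP (LK LD1_c8 LD2_c18 LD3_c21)) :=
  Lre_d IH (LK LD1_c15 LD2_c37 LD3_c18) (LK LD1_c8 LD2_c18 LD3_c21) Lrfl Lrfl
theorem f331254 : Led Lsl_ff (LP (LK LD1_c15 LD2_c37 LD3_c18)) = (LP (LK LD1_c19 LD2_c36 LD3_c6)) :=
  Lgr Lrot19 (Lpr_dt (f298842 IH) (Lpr_ft (K21.f331243 IH) (Lpr_dt (K21.f283206 IH) (Lpn (LP (LK LD1_c19 LD2_c36 LD3_c6))))))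
theorem f339170 : Led Lsl_af (LP (LK LD1_c15 LD2_c58 LD3_c29)) = (LP (LK LD1_c15 LD2_c37 LD3_c18)) :=
  Lgr Lrot109 (Lpe (f328414 IH) (Lpr_df (f339166 IH) (Lpe (f339154 IH) (Lpe (f339168 IH) (Lpe (K21.f328245 IH) (Lpe (K21.f168512 IH) (Lpe (K21.f283209 IH) (Lpe (K21.f283208 IH) (Lpe (f331254 IH) (Lpn (LP (LK LD1_c15 LD2_c37 LD3_c18))))))))))))
theorem f328412 : Led Lsl_ct (LP (LK LD1_c15 LD2_c58 LD3_c29)) = (LP (LK LD1_c25 LD2_c55 LD3_c37)) :=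
  Lre_c IH (LK LD1_c15 LD2_c58 LD3_c29) (LK LD1_c25 LD2_c55 LD3_c37) Lrfl Lrfl
theorem f339174 : Led Lsl_ct (LP (LK LD1_c25 LD2_c31 LD3_c60)) = (LP (LK LD1_c15 LD2_c37 LD3_c18)) :=
  Lre_c IH (LK LD1_c25 LD2_c31 LD3_c60) (LK LD1_c15 LD2_c37 LD3_c18) Lrfl Lrfl
theorem f339175 : Led Lsl_at (LP (LK LD1_c25 LD2_c55 LD3_c37)) = (LP (LK LD1_c25 LD2_c31 LD3_c60)) :=
  Lgr Lrot107 (Lpe (f328412 IH) (Lpr_af (f339170 IH) (Lpe (f339174 IH) (Lpn (LP (LK LD1_c25 LD2_c31 LD3_c60))))))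
theorem f295027 : Led Lsl_ct (LP (LK LD1_c15 LD2_c37 LD3_c15)) = (LP (LK LD1_c25 LD2_c31 LD3_c57)) :=
  Lre_c IH (LK LD1_c15 LD2_c37 LD3_c15) (LK LD1_c25 LD2_c31 LD3_c57) Lrfl Lrfl
theorem f331218 : Led Lsl_ft (LP (LK LD1_c25 LD2_c31 LD3_c57)) = (LP (LK LD1_c25 LD2_c55 LD3_c37)) :=
  Lgr Lrot4 (Lpe (f295027 IH) (Lpr_ff (K21.f331213 IH) (Lpe (f328414 IH) (Lpn (LP (LK LD1_c25 LD2_c55 LD3_c37))))))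
theorem f331246 : Led Lsl_ct (LP (LK LD1_c15 LD2_c37 LD3_c18)) = (LP (LK LD1_c25 LD2_c31 LD3_c60)) :=
  Lre_c IH (LK LD1_c15 LD2_c37 LD3_c18) (LK LD1_c25 LD2_c31 LD3_c60) Lrfl Lrfl
theorem f331245 : Led Lsl_dt (LP (LK LD1_c8 LD2_c18 LD3_c21)) = (LP (LK LD1_c15 LD2_c37 LD3_c18)) :=
  Lre_d IH (LK LD1_c8 LD2_c18 LD3_c21) (LK LD1_c15 LD2_c37 LD3_c18) Lrfl Lrfl
theorem f271060 : Led Lsl_bt (LP (LK LD1_c8 LD2_c24 LD3_c17)) = (LP (LK LD1_c4 LD2_c12 LD3_c23)) :=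
  Lre_b IH (LK LD1_c8 LD2_c24 LD3_c17) (LK LD1_c4 LD2_c12 LD3_c23) Lrfl Lrfl
theorem f322289 : Led Lsl_ft (LP (LK LD1_c5 LD2_c29 LD3_c40)) = (LP (LK LD1_c8 LD2_c24 LD3_c17)) :=
  Lgr Lrot75 (Lpr_bf (K20.f322284 IH) (Lpe (K20.f271078 IH) (Lpe (f271060 IH) (Lpn (LP (LK LD1_c8 LD2_c24 LD3_c17))))))
theorem f331252 : Led Lsl_cf (LP (LK LD1_c8 LD2_c18 LD3_c21)) = (LP (LK LD1_c8 LD2_c24 LD3_c17)) :=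
  Lgr Lrot108 (Lpr_ft (K21.f331243 IH) (Lpr_ct (K21.f283209 IH) (Lpr_ft (f322289 IH) (Lpn (LP (LK LD1_c8 LD2_c24 LD3_c17))))))
theorem f236336 : Led Lsl_dt (LP (LK LD1_c15 LD2_c55 LD3_c33)) = (LP (LK LD1_c8 LD2_c28 LD3_c54)) :=
  Lre_d IH (LK LD1_c15 LD2_c55 LD3_c33) (LK LD1_c8 LD2_c28 LD3_c54) Lrfl Lrfl
theorem f236335 : Led Lsl_ct (LP (LK LD1_c25 LD2_c51 LD3_c48)) = (LP (LK LD1_c15 LD2_c55 LD3_c33)) :=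
  Lre_c IH (LK LD1_c25 LD2_c51 LD3_c48) (LK LD1_c15 LD2_c55 LD3_c33) Lrfl Lrfl
theorem f339183 : Led Lsl_dt (LP (LK LD1_c25 LD2_c31 LD3_c57)) = (LP (LK LD1_c25 LD2_c51 LD3_c48)) :=
  Lgr Lrot159 (Lpr_ft (f331218 IH) (Lpr_at (f339175 IH) (Lpe (f331246 IH) (Lpe (f331245 IH) (Lpr_cf (f331252 IH) (Lpe (K16.f271054 IH) (Lpe (K21.f259525 IH) (Lpe (f236336 IH) (Lpe (f236335 IH) (Lpn (LP (LK LD1_c25 LD2_c51 LD3_c48))))))))))))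
theorem f295025 : Led Lsl_ct (LP (LK LD1_c25 LD2_c31 LD3_c57)) = (LP (LK LD1_c15 LD2_c37 LD3_c15)) :=
  Lre_c IH (LK LD1_c25 LD2_c31 LD3_c57) (LK LD1_c15 LD2_c37 LD3_c15) Lrfl Lrfl
theorem f331211 : Led Lsl_ff (LP (LK LD1_c25 LD2_c31 LD3_c57)) = (LP (LK LD1_c25 LD2_c55 LD3_c37)) :=
  Lgr Lrot23 (Lpr_ct (f295025 IH) (Lpr_ft (K21.f331207 IH) (Lpr_ct (f328412 IH) (Lpn (LP (LK LD1_c25 LD2_c55 LD3_c37))))))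
theorem f339189 : Led Lsl_ff (LP (LK LD1_c28 LD2_c51 LD3_c12)) = (LP (LK LD1_c25 LD2_c51 LD3_c48)) :=
  Lgr Lrot19 (Lpe (f339166 IH) (Lpe (f331211 IH) (Lpr_dt (f339183 IH) (Lpn (LP (LK LD1_c25 LD2_c51 LD3_c48))))))
theorem f339195 : Led Lsl_ft (LP (LK LD1_c28 LD2_c51 LD3_c12)) = (LP (LK LD1_c25 LD2_c51 LD3_c48)) :=
  Lgr Lrot48 (Lpr_ff (f339189 IH) (Lpn (LP (LK LD1_c25 LD2_c51 LD3_c48))))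
theorem f339197 : Led Lsl_ff (LP (LK LD1_c19 LD2_c29 LD3_c2)) = (LP (LK LD1_c15 LD2_c55 LD3_c33)) :=
  Lgr Lrot23 (Lpr_ct (f339154 IH) (Lpr_ft (f339195 IH) (Lpr_ct (f236335 IH) (Lpn (LP (LK LD1_c15 LD2_c55 LD3_c33))))))
theorem f45685 : Led Lsl_bt (LP (LK LD1_c2 LD2_c4 LD3_c53)) = (LP (LK LD1_c4 LD2_c14 LD3_c61)) :=
  Lre_b IH (LK LD1_c2 LD2_c4 LD3_c53) (LK LD1_c4 LD2_c14 LD3_c61) Lrfl Lrfl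
theorem f54345 : Led Lsl_et (LP (LK LD1_c2 LD2_c34 LD3_c17)) = (LP (LK LD1_c2 LD2_c4 LD3_c53)) :=
  Lgr Lrot74 (Lpe (K10.f33463 IH) (Lpr_ef (K11.f54324 IH) (Lpe (f45685 IH) (Lpn (LP (LK LD1_c2 LD2_c4 LD3_c53))))))
theorem f45526 : Led Lsl_dt (LP (LK LD1_c8 LD2_c28 LD3_c54)) = (LP (LK LD1_c15 LD2_c55 LD3_c33)) :=
  Lre_d IH (LK LD1_c8 LD2_c28 LD3_c54) (LK LD1_c15 LD2_c55 LD3_c33) Lrfl Lrfl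
theorem f236324 : Led Lsl_dt (LP (LK LD1_c8 LD2_c18 LD3_c28)) = (LP (LK LD1_c15 LD2_c37 LD3_c32)) :=
  Lre_d IH (LK LD1_c8 LD2_c18 LD3_c28) (LK LD1_c15 LD2_c37 LD3_c32) Lrfl Lrfl
theorem f236325 : Led Lsl_gt (LP (LK LD1_c15 LD2_c55 LD3_c33)) = (LP (LK LD1_c15 LD2_c37 LD3_c32)) :=
  Lgr Lrot112 (Lpe (f45526 IH) (Lpr_et (K21.f45525 IH) (Lpe (K10.f45516 IH) (Lpe (f54345 IH) (Lpr_dt (K12.f33501 IH) (Lpe (K16.f189063 IH) (Lpe (K13.f188618 IH) (Lpr_gf (K18.f236259 IH) (Lpe (K21.f236323 IH) (Lpr_dt (f236324 IH) (Lpn (LP (LK LD1_c15 LD2_c37 LD3_c32)))))))))))))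
theorem f236329 : Led Lsl_gt (LP (LK LD1_c15 LD2_c37 LD3_c32)) = (LP (LK LD1_c25 LD2_c32 LD3_c29)) :=
  Lre_g IH (LK LD1_c15 LD2_c37 LD3_c32) (LK LD1_c25 LD2_c32 LD3_c29) Lrfl Lrfl
theorem f339201 : Led Lsl_at (LP (LK LD1_c19 LD2_c29 LD3_c2)) = (LP (LK LD1_c25 LD2_c32 LD3_c29)) :=
  Lgr Lrot26 (Lpr_ff (f339197 IH) (Lpr_gt (f236325 IH) (Lpr_gt (f236329 IH) (Lpn (LP (LK LD1_c25 LD2_c32 LD3_c29))))))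
theorem f328283 : Led Lsl_at (LP (LK LD1_c15 LD2_c56 LD3_c25)) = (LP (LK LD1_c15 LD2_c55 LD3_c33)) :=
  Lgr Lrot51 (Lpe (K21.f54490 IH) (Lpr_af (K21.f328281 IH) (Lpe (f236336 IH) (Lpn (LP (LK LD1_c15 LD2_c55 LD3_c33))))))
theorem f339207 : Led Lsl_ff (LP (LK LD1_c15 LD2_c56 LD3_c25)) = (LP (LK LD1_c25 LD2_c32 LD3_c29)) :=
  Lgr Lrot30 (Lpr_at (f328283 IH) (Lpe (f339197 IH) (Lpr_at (f339201 IH) (Lpn (LP (LK LD1_c25 LD2_c32 LD3_c29))))))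
theorem f339211 : Led Lsl_ft (LP (LK LD1_c15 LD2_c56 LD3_c25)) = (LP (LK LD1_c25 LD2_c32 LD3_c29)) :=
  Lgr Lrot48 (Lpr_ff (f339207 IH) (Lpn (LP (LK LD1_c25 LD2_c32 LD3_c29))))
theorem f339203 : Led Lsl_af (LP (LK LD1_c19 LD2_c29 LD3_c2)) = (LP (LK LD1_c25 LD2_c32 LD3_c29)) :=
  Lgr Lrot0 (Lpr_at (f339201 IH) (Lpn (LP (LK LD1_c25 LD2_c32 LD3_c29))))
theorem f339159 : Led Lsl_ct (LP (LK LD1_c28 LD2_c51 LD3_c12)) = (LP (LK LD1_c19 LD2_c29 LD3_c2)) :=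
  Lre_c IH (LK LD1_c28 LD2_c51 LD3_c12) (LK LD1_c19 LD2_c29 LD3_c2) Lrfl Lrfl
theorem f236330 : Led Lsl_ct (LP (LK LD1_c15 LD2_c55 LD3_c33)) = (LP (LK LD1_c25 LD2_c51 LD3_c48)) :=
  Lre_c IH (LK LD1_c15 LD2_c55 LD3_c33) (LK LD1_c25 LD2_c51 LD3_c48) Lrfl Lrfl
theorem f339193 : Led Lsl_ft (LP (LK LD1_c19 LD2_c29 LD3_c2)) = (LP (LK LD1_c15 LD2_c55 LD3_c33)) :=
  Lgr Lrot4 (Lpe (f339159 IH) (Lpr_ff (f339189 IH) (Lpe (f236330 IH) (Lpn (LP (LK LD1_c15 LD2_c55 LD3_c33))))))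
theorem f339240 : Led Lsl_af (LP (LK LD1_c15 LD2_c56 LD3_c25)) = (LP (LK LD1_c15 LD2_c55 LD3_c33)) :=
  Lgr Lrot45 (Lpr_ft (f339211 IH) (Lpe (f339203 IH) (Lpr_ft (f339193 IH) (Lpn (LP (LK LD1_c15 LD2_c55 LD3_c33))))))
theorem f339244 : Led Lsl_gf (LP (LK LD1_c25 LD2_c32 LD3_c32)) = (LP (LK LD1_c19 LD2_c29 LD3_c2)) :=
  Lgr Lrot47 (Lpr_gt (f339150 IH) (Lpr_af (f339240 IH) (Lpe (f339193 IH) (Lpn (LP (LK LD1_c19 LD2_c29 LD3_c2))))))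
theorem f328287 : Led Lsl_gf (LP (LK LD1_c10 LD2_c44 LD3_c10)) = (LP (LK LD1_c15 LD2_c55 LD3_c34)) :=
  Lgr Lrot47 (Lpr_gt (K21.f298864 IH) (Lpr_af (K21.f328281 IH) (Lpe (K21.f259531 IH) (Lpn (LP (LK LD1_c15 LD2_c55 LD3_c34))))))
theorem f298854 : Led Lsl_ct (LP (LK LD1_c10 LD2_c44 LD3_c10)) = (LP (LK LD1_c5 LD2_c26 LD3_c28)) :=
  Lre_c IH (LK LD1_c10 LD2_c44 LD3_c10) (LK LD1_c5 LD2_c26 LD3_c28) Lrfl Lrfl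
theorem f285615 : Led Lsl_ct (LP (LK LD1_c2 LD2_c39 LD3_c39)) = (LP (LK LD1_c5 LD2_c26 LD3_c26)) :=
  Lre_c IH (LK LD1_c2 LD2_c39 LD3_c39) (LK LD1_c5 LD2_c26 LD3_c26) Lrfl Lrfl
theorem f245105 : Led Lsl_ct (LP (LK LD1_c19 LD2_c25 LD3_c36)) = (LP (LK LD1_c10 LD2_c44 LD3_c5)) :=
  Lre_c IH (LK LD1_c19 LD2_c25 LD3_c36) (LK LD1_c10 LD2_c44 LD3_c5) Lrfl Lrfl
theorem f245111 : Led Lsl_gt (LP (LK LD1_c28 LD2_c49 LD3_c0)) = (LP (LK LD1_c19 LD2_c25 LD3_c36)) :=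
  Lre_g IH (LK LD1_c28 LD2_c49 LD3_c0) (LK LD1_c19 LD2_c25 LD3_c36) Lrfl Lrfl
theorem f339252 : Led Lsl_ct (LP (LK LD1_c25 LD2_c32 LD3_c32)) = (LP (LK LD1_c28 LD2_c49 LD3_c0)) :=
  Lgr Lrot152 (Lpr_gf (f339244 IH) (Lpe (f339168 IH) (Lpe (f328287 IH) (Lpr_ct (f298854 IH) (Lpr_gt (K21.f285645 IH) (Lpr_ct (f285615 IH) (Lpe (K20.f245113 IH) (Lpe (f245105 IH) (Lpe (f245111 IH) (Lpn (LP (LK LD1_c28 LD2_c49 LD3_c0))))))))))))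
theorem f339262 : Led Lsl_ft (LP (LK LD1_c15 LD2_c37 LD3_c22)) = (LP (LK LD1_c8 LD2_c18 LD3_c22)) :=
  Lre_f IH (LK LD1_c15 LD2_c37 LD3_c22) (LK LD1_c8 LD2_c18 LD3_c22) Lrfl Lrfl
theorem f236007 : Led Lsl_ct (LP (LK LD1_c8 LD2_c16 LD3_c34)) = (LP (LK LD1_c4 LD2_c8 LD3_c16)) :=
  Lre_c IH (LK LD1_c8 LD2_c16 LD3_c34) (LK LD1_c4 LD2_c8 LD3_c16) Lrfl Lrfl
theorem f236008 : Led Lsl_dt (LP (LK LD1_c15 LD2_c33 LD3_c42)) = (LP (LK LD1_c8 LD2_c16 LD3_c34)) :=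
  Lre_d IH (LK LD1_c15 LD2_c33 LD3_c42) (LK LD1_c8 LD2_c16 LD3_c34) Lrfl Lrfl
theorem f236009 : Led Lsl_ct (LP (LK LD1_c25 LD2_c27 LD3_c22)) = (LP (LK LD1_c15 LD2_c33 LD3_c42)) :=
  Lre_c IH (LK LD1_c25 LD2_c27 LD3_c22) (LK LD1_c15 LD2_c33 LD3_c42) Lrfl Lrfl
theorem f339257 : Led Lsl_df (LP (LK LD1_c25 LD2_c27 LD3_c22)) = (LP (LK LD1_c28 LD2_c49 LD3_c0)) :=
  Lgr Lrot43 (Lpr_ct (f236009 IH) (Lpr_dt (f236008 IH) (Lpr_ct (f236007 IH) (Lpe (K19.f235999 IH) (Lpr_ct (K14.f235801 IH) (Lpr_dt (K20.f235789 IH) (Lpr_ct (K20.f236006 IH) (Lpe (K20.f323182 IH) (Lpr_ct (K20.f323181 IH) (Lpr_dt (K20.f323180 IH) (Lpr_ct (K20.f323179 IH) (Lpr_dt (K20.f323178 IH) (Lpr_ct (K20.f323161 IH) (Lpr_dt (f323156 IH) (Lpr_ct (f339252 IH) (Lpn (LP (LK LD1_c28 LD2_c49 LD3_c0))))))))))))))))))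
theorem f339263 : Led Lsl_at (LP (LK LD1_c8 LD2_c18 LD3_c22)) = (LP (LK LD1_c15 LD2_c33 LD3_c42)) :=
  Lgr Lrot33 (Lpe (f339262 IH) (Lpr_dt (K20.f323180 IH) (Lpr_ct (K20.f323179 IH) (Lpr_dt (K20.f323178 IH) (Lpr_ct (K20.f323161 IH) (Lpr_dt (f323156 IH) (Lpr_ct (f339252 IH) (Lpe (f339257 IH) (Lpr_ct (f236009 IH) (Lpn (LP (LK LD1_c15 LD2_c33 LD3_c42))))))))))))
theorem f339278 : Led Lsl_et (LP (LK LD1_c15 LD2_c37 LD3_c12)) = (LP (LK LD1_c8 LD2_c18 LD3_c22)) :=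
  Lre_e IH (LK LD1_c15 LD2_c37 LD3_c12) (LK LD1_c8 LD2_c18 LD3_c22) Lrfl Lrfl
theorem f328421 : Led Lsl_et (LP (LK LD1_c15 LD2_c33 LD3_c42)) = (LP (LK LD1_c25 LD2_c27 LD3_c20)) :=
  Lre_e IH (LK LD1_c15 LD2_c33 LD3_c42) (LK LD1_c25 LD2_c27 LD3_c20) Lrfl Lrfl
theorem f339279 : Led Lsl_af (LP (LK LD1_c15 LD2_c37 LD3_c12)) = (LP (LK LD1_c25 LD2_c27 LD3_c20)) :=
  Lgr Lrot50 (Lpr_et (f339278 IH) (Lpr_at (f339263 IH) (Lpr_et (f328421 IH) (Lpn (LP (LK LD1_c25 LD2_c27 LD3_c20))))))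
theorem f234356 : Led Lsl_dt (LP (LK LD1_c15 LD2_c37 LD3_c12)) = (LP (LK LD1_c8 LD2_c18 LD3_c19)) :=
  Lre_d IH (LK LD1_c15 LD2_c37 LD3_c12) (LK LD1_c8 LD2_c18 LD3_c19) Lrfl Lrfl
theorem f222271 : Led Lsl_dt (LP (LK LD1_c15 LD2_c33 LD3_c41)) = (LP (LK LD1_c25 LD2_c27 LD3_c20)) :=
  Lre_d IH (LK LD1_c15 LD2_c33 LD3_c41) (LK LD1_c25 LD2_c27 LD3_c20) Lrfl Lrfl
theorem f339283 : Led Lsl_at (LP (LK LD1_c8 LD2_c18 LD3_c19)) = (LP (LK LD1_c15 LD2_c33 LD3_c41)) :=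
  Lgr Lrot51 (Lpe (f234356 IH) (Lpr_af (f339279 IH) (Lpe (f222271 IH) (Lpn (LP (LK LD1_c15 LD2_c33 LD3_c41))))))
theorem f339289 : Led Lsl_et (LP (LK LD1_c4 LD2_c9 LD3_c8)) = (LP (LK LD1_c8 LD2_c18 LD3_c19)) :=
  Lre_e IH (LK LD1_c4 LD2_c9 LD3_c8) (LK LD1_c8 LD2_c18 LD3_c19) Lrfl Lrfl
theorem f222270 : Led Lsl_et (LP (LK LD1_c15 LD2_c33 LD3_c41)) = (LP (LK LD1_c8 LD2_c16 LD3_c33)) :=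
  Lre_e IH (LK LD1_c15 LD2_c33 LD3_c41) (LK LD1_c8 LD2_c16 LD3_c33) Lrfl Lrfl
theorem f339290 : Led Lsl_af (LP (LK LD1_c4 LD2_c9 LD3_c8)) = (LP (LK LD1_c8 LD2_c16 LD3_c33)) :=
  Lgr Lrot50 (Lpr_et (f339289 IH) (Lpr_at (f339283 IH) (Lpr_et (f222270 IH) (Lpn (LP (LK LD1_c8 LD2_c16 LD3_c33))))))
theorem f339298 : Led Lsl_at (LP (LK LD1_c8 LD2_c6 LD3_c25)) = (LP (LK LD1_c10 LD2_c23 LD3_c33)) :=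
  Lgr Lrot107 (Lpe (K15.f233916 IH) (Lpr_af (f339290 IH) (Lpr_cf (K13.f222974 IH) (Lpn (LP (LK LD1_c10 LD2_c23 LD3_c33))))))
theorem f339304 : Led Lsl_ff (LP (LK LD1_c8 LD2_c6 LD3_c25)) = (LP (LK LD1_c10 LD2_c23 LD3_c34)) :=
  Lgr Lrot52 (Lpr_at (f339298 IH) (Lpe (K13.f49335 IH) (Lpe (K14.f49329 IH) (Lpn (LP (LK LD1_c10 LD2_c23 LD3_c34))))))
theorem f339311 : Led Lsl_ft (LP (LK LD1_c8 LD2_c6 LD3_c25)) = (LP (LK LD1_c10 LD2_c23 LD3_c34)) :=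
  Lgr Lrot48 (Lpr_ff (f339304 IH) (Lpn (LP (LK LD1_c10 LD2_c23 LD3_c34))))
theorem f339318 : Led Lsl_af (LP (LK LD1_c8 LD2_c6 LD3_c26)) = (LP (LK LD1_c10 LD2_c23 LD3_c34)) :=
  Lgr Lrot31 (Lpe (K12.f50514 IH) (Lpe (K13.f50518 IH) (Lpr_ft (f339311 IH) (Lpn (LP (LK LD1_c10 LD2_c23 LD3_c34))))))
theorem f339300 : Led Lsl_af (LP (LK LD1_c8 LD2_c6 LD3_c25)) = (LP (LK LD1_c10 LD2_c23 LD3_c33)) :=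
  Lgr Lrot0 (Lpr_at (f339298 IH) (Lpn (LP (LK LD1_c10 LD2_c23 LD3_c33))))
theorem f339329 : Led Lsl_ft (LP (LK LD1_c8 LD2_c6 LD3_c26)) = (LP (LK LD1_c10 LD2_c23 LD3_c33)) :=
  Lgr Lrot101 (Lpr_af (f339318 IH) (Lpe (f339311 IH) (Lpr_af (f339300 IH) (Lpn (LP (LK LD1_c10 LD2_c23 LD3_c33))))))
theorem f339335 : Led Lsl_ff (LP (LK LD1_c8 LD2_c6 LD3_c26)) = (LP (LK LD1_c10 LD2_c23 LD3_c33)) :=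
  Lgr Lrot3 (Lpr_ft (f339329 IH) (Lpn (LP (LK LD1_c10 LD2_c23 LD3_c33))))
theorem f222697 : Led Lsl_bt (LP (LK LD1_c8 LD2_c6 LD3_c26)) = (LP (LK LD1_c15 LD2_c15 LD3_c55)) :=
  Lre_b IH (LK LD1_c8 LD2_c6 LD3_c26) (LK LD1_c15 LD2_c15 LD3_c55) Lrfl Lrfl
theorem f50501 : Led Lsl_bt (LP (LK LD1_c18 LD2_c51 LD3_c19)) = (LP (LK LD1_c10 LD2_c23 LD3_c33)) :=
  Lre_b IH (LK LD1_c18 LD2_c51 LD3_c19) (LK LD1_c10 LD2_c23 LD3_c33) Lrfl Lrfl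
theorem f339337 : Led Lsl_ft (LP (LK LD1_c15 LD2_c15 LD3_c55)) = (LP (LK LD1_c18 LD2_c51 LD3_c19)) :=
  Lgr Lrot75 (Lpe (f222697 IH) (Lpr_ff (f339335 IH) (Lpe (f50501 IH) (Lpn (LP (LK LD1_c18 LD2_c51 LD3_c19))))))
theorem f233912 : Led Lsl_bt (LP (LK LD1_c4 LD2_c9 LD3_c2)) = (LP (LK LD1_c8 LD2_c18 LD3_c7)) :=
  Lre_b IH (LK LD1_c4 LD2_c9 LD3_c2) (LK LD1_c8 LD2_c18 LD3_c7) Lrfl Lrfl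
theorem f50524 : Led Lsl_bt (LP (LK LD1_c15 LD2_c15 LD3_c55)) = (LP (LK LD1_c8 LD2_c6 LD3_c26)) :=
  Lre_b IH (LK LD1_c15 LD2_c15 LD3_c55) (LK LD1_c8 LD2_c6 LD3_c26) Lrfl Lrfl
theorem f233913 : Led Lsl_dt (LP (LK LD1_c8 LD2_c18 LD3_c7)) = (LP (LK LD1_c15 LD2_c15 LD3_c55)) :=
  Lgr Lrot79 (Lpe (f233912 IH) (Lpr_df (K13.f233893 IH) (Lpe (f50524 IH) (Lpn (LP (LK LD1_c15 LD2_c15 LD3_c55))))))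
theorem f234766 : Led Lsl_bt (LP (LK LD1_c15 LD2_c33 LD3_c19)) = (LP (LK LD1_c8 LD2_c16 LD3_c24)) :=
  Lre_b IH (LK LD1_c15 LD2_c33 LD3_c19) (LK LD1_c8 LD2_c16 LD3_c24) Lrfl Lrfl
theorem f222977 : Led Lsl_bt (LP (LK LD1_c10 LD2_c23 LD3_c33)) = (LP (LK LD1_c18 LD2_c51 LD3_c19)) :=
  Lre_b IH (LK LD1_c10 LD2_c23 LD3_c33) (LK LD1_c18 LD2_c51 LD3_c19) Lrfl Lrfl
theorem f234767 : Led Lsl_df (LP (LK LD1_c15 LD2_c33 LD3_c19)) = (LP (LK LD1_c18 LD2_c51 LD3_c19)) :=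
  Lgr Lrot12 (Lpr_bt (f234766 IH) (Lpr_dt (K14.f234758 IH) (Lpr_bt (f222977 IH) (Lpn (LP (LK LD1_c18 LD2_c51 LD3_c19))))))
theorem f339342 : Led Lsl_ff (LP (LK LD1_c8 LD2_c18 LD3_c7)) = (LP (LK LD1_c15 LD2_c33 LD3_c19)) :=
  Lgr Lrot19 (Lpr_dt (f233913 IH) (Lpr_ft (f339337 IH) (Lpe (f234767 IH) (Lpn (LP (LK LD1_c15 LD2_c33 LD3_c19))))))
theorem f339348 : Led Lsl_ft (LP (LK LD1_c8 LD2_c18 LD3_c7)) = (LP (LK LD1_c15 LD2_c33 LD3_c19)) :=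
  Lgr Lrot48 (Lpr_ff (f339342 IH) (Lpn (LP (LK LD1_c15 LD2_c33 LD3_c19))))
theorem f221780 : Led Lsl_ct (LP (LK LD1_c15 LD2_c36 LD3_c41)) = (LP (LK LD1_c8 LD2_c18 LD3_c7)) :=
  Lre_c IH (LK LD1_c15 LD2_c36 LD3_c41) (LK LD1_c8 LD2_c18 LD3_c7) Lrfl Lrfl
theorem f189688 : Led Lsl_bt (LP (LK LD1_c8 LD2_c16 LD3_c24)) = (LP (LK LD1_c15 LD2_c33 LD3_c19)) :=
  Lre_b IH (LK LD1_c8 LD2_c16 LD3_c24) (LK LD1_c15 LD2_c33 LD3_c19) Lrfl Lrfl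
theorem f214019 : Led Lsl_bt (LP (LK LD1_c9 LD2_c41 LD3_c8)) = (LP (LK LD1_c4 LD2_c54 LD3_c50)) :=
  Lre_b IH (LK LD1_c9 LD2_c41 LD3_c8) (LK LD1_c4 LD2_c54 LD3_c50) Lrfl Lrfl
theorem f214020 : Led Lsl_ct (LP (LK LD1_c15 LD2_c33 LD3_c19)) = (LP (LK LD1_c9 LD2_c41 LD3_c8)) :=
  Lgr Lrot83 (Lpe (f189688 IH) (Lpe (K14.f189687 IH) (Lpr_bf (K12.f214013 IH) (Lpe (K13.f214018 IH) (Lpe (f214019 IH) (Lpn (LP (LK LD1_c9 LD2_c41 LD3_c8))))))))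
theorem f339356 : Led Lsl_ff (LP (LK LD1_c15 LD2_c36 LD3_c41)) = (LP (LK LD1_c9 LD2_c41 LD3_c8)) :=
  Lgr Lrot23 (Lpr_ct (f221780 IH) (Lpr_ft (f339348 IH) (Lpr_ct (f214020 IH) (Lpn (LP (LK LD1_c9 LD2_c41 LD3_c8))))))
theorem f339383 : Led Lsl_ft (LP (LK LD1_c15 LD2_c36 LD3_c41)) = (LP (LK LD1_c9 LD2_c41 LD3_c8)) :=
  Lgr Lrot48 (Lpr_ff (f339356 IH) (Lpn (LP (LK LD1_c9 LD2_c41 LD3_c8))))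
theorem f218768 : Led Lsl_bt (LP (LK LD1_c5 LD2_c21 LD3_c6)) = (LP (LK LD1_c10 LD2_c32 LD3_c19)) :=
  Lre_b IH (LK LD1_c5 LD2_c21 LD3_c6) (LK LD1_c10 LD2_c32 LD3_c19) Lrfl Lrfl
theorem f221762 : Led Lsl_bt (LP (LK LD1_c15 LD2_c36 LD3_c41)) = (LP (LK LD1_c8 LD2_c18 LD3_c5)) :=
  Lre_b IH (LK LD1_c15 LD2_c36 LD3_c41) (LK LD1_c8 LD2_c18 LD3_c5) Lrfl Lrfl
theorem f221763 : Led Lsl_dt (LP (LK LD1_c10 LD2_c32 LD3_c19)) = (LP (LK LD1_c15 LD2_c36 LD3_c41)) :=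
  Lgr Lrot79 (Lpe (f218768 IH) (Lpr_df (K12.f221665 IH) (Lpe (f221762 IH) (Lpn (LP (LK LD1_c15 LD2_c36 LD3_c41))))))
theorem f224062 : Led Lsl_df (LP (LK LD1_c5 LD2_c25 LD3_c29)) = (LP (LK LD1_c9 LD2_c41 LD3_c8)) :=
  Lgr Lrot12 (Lpr_bt (K15.f218398 IH) (Lpr_dt (K13.f224060 IH) (Lpr_bt (K16.f216307 IH) (Lpn (LP (LK LD1_c9 LD2_c41 LD3_c8))))))
theorem f339393 : Led Lsl_ff (LP (LK LD1_c10 LD2_c32 LD3_c19)) = (LP (LK LD1_c5 LD2_c25 LD3_c29)) :=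
  Lgr Lrot19 (Lpr_dt (f221763 IH) (Lpr_ft (f339383 IH) (Lpe (f224062 IH) (Lpn (LP (LK LD1_c5 LD2_c25 LD3_c29))))))
theorem f218806 : Led Lsl_bt (LP (LK LD1_c10 LD2_c32 LD3_c19)) = (LP (LK LD1_c5 LD2_c21 LD3_c6)) :=
  Lre_b IH (LK LD1_c10 LD2_c32 LD3_c19) (LK LD1_c5 LD2_c21 LD3_c6) Lrfl Lrfl
theorem f339397 : Led Lsl_ft (LP (LK LD1_c5 LD2_c21 LD3_c6)) = (LP (LK LD1_c2 LD2_c39 LD3_c10)) :=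
  Lgr Lrot75 (Lpe (f218806 IH) (Lpr_ff (f339393 IH) (Lpe (K15.f224123 IH) (Lpn (LP (LK LD1_c2 LD2_c39 LD3_c10))))))
theorem f339410 : Led Lsl_af (LP (LK LD1_c5 LD2_c21 LD3_c5)) = (LP (LK LD1_c2 LD2_c39 LD3_c10)) :=
  Lgr Lrot31 (Lpe (K12.f168042 IH) (Lpe (K12.f217326 IH) (Lpr_ft (f339397 IH) (Lpn (LP (LK LD1_c2 LD2_c39 LD3_c10))))))
theorem f218833 : Led Lsl_et (LP (LK LD1_c5 LD2_c21 LD3_c5)) = (LP (LK LD1_c10 LD2_c32 LD3_c18)) :=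
  Lre_e IH (LK LD1_c5 LD2_c21 LD3_c5) (LK LD1_c10 LD2_c32 LD3_c18) Lrfl Lrfl
theorem f224066 : Led Lsl_et (LP (LK LD1_c5 LD2_c25 LD3_c30)) = (LP (LK LD1_c2 LD2_c39 LD3_c10)) :=
  Lre_e IH (LK LD1_c5 LD2_c25 LD3_c30) (LK LD1_c2 LD2_c39 LD3_c10) Lrfl Lrfl
theorem f339420 : Led Lsl_at (LP (LK LD1_c10 LD2_c32 LD3_c18)) = (LP (LK LD1_c5 LD2_c25 LD3_c30)) :=
  Lgr Lrot80 (Lpe (f218833 IH) (Lpr_af (f339410 IH) (Lpe (f224066 IH) (Lpn (LP (LK LD1_c5 LD2_c25 LD3_c30))))))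
theorem f218862 : Led Lsl_dt (LP (LK LD1_c19 LD2_c5 LD3_c18)) = (LP (LK LD1_c10 LD2_c32 LD3_c18)) :=
  Lre_d IH (LK LD1_c19 LD2_c5 LD3_c18) (LK LD1_c10 LD2_c32 LD3_c18) Lrfl Lrfl
theorem f224106 : Led Lsl_dt (LP (LK LD1_c5 LD2_c25 LD3_c30)) = (LP (LK LD1_c10 LD2_c42 LD3_c7)) :=
  Lre_d IH (LK LD1_c5 LD2_c25 LD3_c30) (LK LD1_c10 LD2_c42 LD3_c7) Lrfl Lrfl
theorem f339430 : Led Lsl_af (LP (LK LD1_c19 LD2_c5 LD3_c18)) = (LP (LK LD1_c10 LD2_c42 LD3_c7)) :=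
  Lgr Lrot117 (Lpr_dt (f218862 IH) (Lpr_at (f339420 IH) (Lpr_dt (f224106 IH) (Lpn (LP (LK LD1_c10 LD2_c42 LD3_c7))))))
theorem f221596 : Led Lsl_et (LP (LK LD1_c7 LD2_c57 LD3_c49)) = (LP (LK LD1_c15 LD2_c1 LD3_c15)) :=
  Lre_e IH (LK LD1_c7 LD2_c57 LD3_c49) (LK LD1_c15 LD2_c1 LD3_c15) Lrfl Lrfl
theorem f187263 : Led Lsl_dt (LP (LK LD1_c15 LD2_c1 LD3_c15)) = (LP (LK LD1_c24 LD2_c49 LD3_c9)) :=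
  Lre_d IH (LK LD1_c15 LD2_c1 LD3_c15) (LK LD1_c24 LD2_c49 LD3_c9) Lrfl Lrfl
theorem f218868 : Led Lsl_et (LP (LK LD1_c10 LD2_c32 LD3_c18)) = (LP (LK LD1_c5 LD2_c21 LD3_c5)) :=
  Lre_e IH (LK LD1_c10 LD2_c32 LD3_c18) (LK LD1_c5 LD2_c21 LD3_c5) Lrfl Lrfl
theorem f221597 : Led Lsl_et (LP (LK LD1_c24 LD2_c49 LD3_c9)) = (LP (LK LD1_c19 LD2_c5 LD3_c18)) :=
  Lgr Lrot71 (Lpe (f187263 IH) (Lpe (f221596 IH) (Lpr_df (K12.f221543 IH) (Lpe (f218868 IH) (Lpe (f218862 IH) (Lpn (LP (LK LD1_c19 LD2_c5 LD3_c18))))))))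
theorem f221620 : Led Lsl_ef (LP (LK LD1_c24 LD2_c49 LD3_c9)) = (LP (LK LD1_c19 LD2_c5 LD3_c18)) :=
  Lgr Lrot88 (Lpr_et (f221597 IH) (Lpn (LP (LK LD1_c19 LD2_c5 LD3_c18))))
theorem f224067 : Led Lsl_dt (LP (LK LD1_c10 LD2_c42 LD3_c7)) = (LP (LK LD1_c5 LD2_c25 LD3_c30)) :=
  Lre_d IH (LK LD1_c10 LD2_c42 LD3_c7) (LK LD1_c5 LD2_c25 LD3_c30) Lrfl Lrfl
theorem f224068 : Led Lsl_et (LP (LK LD1_c4 LD2_c54 LD3_c50)) = (LP (LK LD1_c9 LD2_c41 LD3_c9)) :=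
  Lre_e IH (LK LD1_c4 LD2_c54 LD3_c50) (LK LD1_c9 LD2_c41 LD3_c9) Lrfl Lrfl
theorem f224069 : Led Lsl_dt (LP (LK LD1_c9 LD2_c41 LD3_c9)) = (LP (LK LD1_c17 LD2_c48 LD3_c60)) :=
  Lre_d IH (LK LD1_c9 LD2_c41 LD3_c9) (LK LD1_c17 LD2_c48 LD3_c60) Lrfl Lrfl
theorem f224070 : Led Lsl_ef (LP (LK LD1_c10 LD2_c42 LD3_c7)) = (LP (LK LD1_c17 LD2_c48 LD3_c60)) :=
  Lgr Lrot73 (Lpr_dt (f224067 IH) (Lpr_et (f224066 IH) (Lpr_dt (K13.f224060 IH) (Lpr_et (f224068 IH) (Lpr_dt (f224069 IH) (Lpn (LP (LK LD1_c17 LD2_c48 LD3_c60))))))))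
theorem f339436 : Led Lsl_at (LP (LK LD1_c24 LD2_c49 LD3_c9)) = (LP (LK LD1_c17 LD2_c48 LD3_c60)) :=
  Lgr Lrot80 (Lpr_ef (f221620 IH) (Lpr_af (f339430 IH) (Lpr_ef (f224070 IH) (Lpn (LP (LK LD1_c17 LD2_c48 LD3_c60))))))
theorem f224096 : Led Lsl_dt (LP (LK LD1_c17 LD2_c48 LD3_c60)) = (LP (LK LD1_c9 LD2_c41 LD3_c9)) :=
  Lre_d IH (LK LD1_c17 LD2_c48 LD3_c60) (LK LD1_c9 LD2_c41 LD3_c9) Lrfl Lrfl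
theorem f339440 : Led Lsl_af (LP (LK LD1_c15 LD2_c1 LD3_c15)) = (LP (LK LD1_c9 LD2_c41 LD3_c9)) :=
  Lgr Lrot117 (Lpr_dt (f187263 IH) (Lpr_at (f339436 IH) (Lpr_dt (f224096 IH) (Lpn (LP (LK LD1_c9 LD2_c41 LD3_c9))))))
theorem f187273 : Led Lsl_ct (LP (LK LD1_c15 LD2_c1 LD3_c15)) = (LP (LK LD1_c7 LD2_c57 LD3_c50)) :=
  Lre_c IH (LK LD1_c15 LD2_c1 LD3_c15) (LK LD1_c7 LD2_c57 LD3_c50) Lrfl Lrfl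
theorem f214028 : Led Lsl_ct (LP (LK LD1_c4 LD2_c54 LD3_c51)) = (LP (LK LD1_c9 LD2_c41 LD3_c9)) :=
  Lre_c IH (LK LD1_c4 LD2_c54 LD3_c51) (LK LD1_c9 LD2_c41 LD3_c9) Lrfl Lrfl
theorem f339448 : Led Lsl_at (LP (LK LD1_c7 LD2_c57 LD3_c50)) = (LP (LK LD1_c4 LD2_c54 LD3_c51)) :=
  Lgr Lrot107 (Lpe (f187273 IH) (Lpr_af (f339440 IH) (Lpe (f214028 IH) (Lpn (LP (LK LD1_c4 LD2_c54 LD3_c51))))))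
theorem f187281 : Led Lsl_ft (LP (LK LD1_c15 LD2_c1 LD3_c16)) = (LP (LK LD1_c7 LD2_c57 LD3_c50)) :=
  Lre_f IH (LK LD1_c15 LD2_c1 LD3_c16) (LK LD1_c7 LD2_c57 LD3_c50) Lrfl Lrfl
theorem f339460 : Led Lsl_af (LP (LK LD1_c15 LD2_c1 LD3_c16)) = (LP (LK LD1_c9 LD2_c41 LD3_c12)) :=
  Lgr Lrot45 (Lpr_ft (f187281 IH) (Lpr_at (f339448 IH) (Lpr_ft (K12.f214033 IH) (Lpn (LP (LK LD1_c9 LD2_c41 LD3_c12))))))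
theorem f220749 : Led Lsl_et (LP (LK LD1_c4 LD2_c9 LD3_c0)) = (LP (LK LD1_c8 LD2_c18 LD3_c6)) :=
  Lre_e IH (LK LD1_c4 LD2_c9 LD3_c0) (LK LD1_c8 LD2_c18 LD3_c6) Lrfl Lrfl
theorem f214016 : Led Lsl_bt (LP (LK LD1_c4 LD2_c8 LD3_c10)) = (LP (LK LD1_c2 LD2_c25 LD3_c18)) :=
  Lgr Lrot127 (Lpr_bf (K12.f214013 IH) (Lpn (LP (LK LD1_c2 LD2_c25 LD3_c18))))
theorem f317531 : Led Lsl_ft (LP (LK LD1_c2 LD2_c25 LD3_c18)) = (LP (LK LD1_c4 LD2_c9 LD3_c0)) :=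
  Lgr Lrot75 (Lpe (f214016 IH) (Lpr_ff (K20.f317529 IH) (Lpe (K13.f221802 IH) (Lpn (LP (LK LD1_c4 LD2_c9 LD3_c0))))))
theorem f326370 : Led Lsl_ft (LP (LK LD1_c9 LD2_c41 LD3_c12)) = (LP (LK LD1_c4 LD2_c54 LD3_c51)) :=
  Lre_f IH (LK LD1_c9 LD2_c41 LD3_c12) (LK LD1_c4 LD2_c54 LD3_c51) Lrfl Lrfl
theorem f326371 : Led Lsl_et (LP (LK LD1_c15 LD2_c23 LD3_c9)) = (LP (LK LD1_c9 LD2_c41 LD3_c12)) :=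
  Lgr Lrot69 (Lpr_ff (K21.f326366 IH) (Lpe (f220749 IH) (Lpe (f317531 IH) (Lpe (K12.f214022 IH) (Lpe (f326370 IH) (Lpn (LP (LK LD1_c9 LD2_c41 LD3_c12))))))))
theorem f339466 : Led Lsl_et (LP (LK LD1_c15 LD2_c1 LD3_c16)) = (LP (LK LD1_c9 LD2_c41 LD3_c52)) :=
  Lgr Lrot123 (Lpr_af (f339460 IH) (Lpe (f326371 IH) (Lpr_af (K21.f325987 IH) (Lpn (LP (LK LD1_c9 LD2_c41 LD3_c52))))))
theorem f187247 : Led Lsl_et (LP (LK LD1_c3 LD2_c58 LD3_c12)) = (LP (LK LD1_c7 LD2_c57 LD3_c50)) :=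
  Lre_e IH (LK LD1_c3 LD2_c58 LD3_c12) (LK LD1_c7 LD2_c57 LD3_c50) Lrfl Lrfl
theorem f171937 : Led Lsl_ft (LP (LK LD1_c9 LD2_c41 LD3_c52)) = (LP (LK LD1_c4 LD2_c55 LD3_c10)) :=
  Lre_f IH (LK LD1_c9 LD2_c41 LD3_c52) (LK LD1_c4 LD2_c55 LD3_c10) Lrfl Lrfl
theorem f339473 : Led Lsl_ff (LP (LK LD1_c3 LD2_c58 LD3_c12)) = (LP (LK LD1_c2 LD2_c25 LD3_c28)) :=
  Lgr Lrot72 (Lpr_et (f187247 IH) (Lpr_ft (K10.f187266 IH) (Lpr_et (f339466 IH) (Lpr_ft (f171937 IH) (Lpr_et (K14.f171972 IH) (Lpn (LP (LK LD1_c2 LD2_c25 LD3_c28))))))))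
theorem f339483 : Led Lsl_at (LP (LK LD1_c3 LD2_c58 LD3_c12)) = (LP (LK LD1_c2 LD2_c25 LD3_c18)) :=
  Lgr Lrot26 (Lpr_ff (f339473 IH) (Lpe (K16.f246389 IH) (Lpr_gt (K15.f256820 IH) (Lpn (LP (LK LD1_c2 LD2_c25 LD3_c18))))))
theorem f339491 : Led Lsl_af (LP (LK LD1_c2 LD2_c25 LD3_c28)) = (LP (LK LD1_c4 LD2_c9 LD3_c0)) :=
  Lgr Lrot45 (Lpe (f339473 IH) (Lpr_at (f339483 IH) (Lpr_ft (f317531 IH) (Lpn (LP (LK LD1_c4 LD2_c9 LD3_c0))))))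
theorem f339501 : Led Lsl_at (LP (LK LD1_c4 LD2_c55 LD3_c10)) = (LP (LK LD1_c8 LD2_c18 LD3_c6)) :=
  Lgr Lrot80 (Lpe (K14.f171923 IH) (Lpr_af (f339491 IH) (Lpe (K19.f220744 IH) (Lpn (LP (LK LD1_c8 LD2_c18 LD3_c6))))))
theorem f229590 : Led Lsl_df (LP (LK LD1_c14 LD2_c58 LD3_c10)) = (LP (LK LD1_c8 LD2_c18 LD3_c6)) :=
  Lgr Lrot38 (Lpr_dt (K19.f229583 IH) (Lpn (LP (LK LD1_c8 LD2_c18 LD3_c6))))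
theorem f339507 : Led Lsl_af (LP (LK LD1_c8 LD2_c24 LD3_c9)) = (LP (LK LD1_c14 LD2_c58 LD3_c10)) :=
  Lgr Lrot117 (Lpe (K14.f246754 IH) (Lpr_at (f339501 IH) (Lpe (f229590 IH) (Lpn (LP (LK LD1_c14 LD2_c58 LD3_c10))))))
theorem f167132 : Led Lsl_gt (LP (LK LD1_c15 LD2_c47 LD3_c54)) = (LP (LK LD1_c8 LD2_c24 LD3_c9)) :=
  Lre_g IH (LK LD1_c15 LD2_c47 LD3_c54) (LK LD1_c8 LD2_c24 LD3_c9) Lrfl Lrfl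
theorem f229595 : Led Lsl_bt (LP (LK LD1_c14 LD2_c58 LD3_c10)) = (LP (LK LD1_c8 LD2_c18 LD3_c11)) :=
  Lgr Lrot95 (Lpr_df (f229590 IH) (Lpe (K21.f229594 IH) (Lpe (K16.f190847 IH) (Lpn (LP (LK LD1_c8 LD2_c18 LD3_c11))))))
theorem f229599 : Led Lsl_bf (LP (LK LD1_c7 LD2_c56 LD3_c5)) = (LP (LK LD1_c4 LD2_c9 LD3_c5)) :=
  Lgr Lrot96 (Lpr_et (K19.f229582 IH) (Lpr_bt (f229595 IH) (Lpr_et (K16.f190846 IH) (Lpn (LP (LK LD1_c4 LD2_c9 LD3_c5))))))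
theorem f317653 : Led Lsl_ff (LP (LK LD1_c4 LD2_c22 LD3_c39)) = (LP (LK LD1_c7 LD2_c56 LD3_c5)) :=
  Lgr Lrot25 (Lpe (K18.f295090 IH) (Lpr_ft (K20.f317651 IH) (Lpe (f229599 IH) (Lpn (LP (LK LD1_c7 LD2_c56 LD3_c5))))))
theorem f326388 : Led Lsl_et (LP (LK LD1_c9 LD2_c34 LD3_c49)) = (LP (LK LD1_c17 LD2_c38 LD3_c27)) :=
  Lre_e IH (LK LD1_c9 LD2_c34 LD3_c49) (LK LD1_c17 LD2_c38 LD3_c27) Lrfl Lrfl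
theorem f326407 : Led Lsl_ff (LP (LK LD1_c14 LD2_c58 LD3_c10)) = (LP (LK LD1_c17 LD2_c38 LD3_c27)) :=
  Lgr Lrot72 (Lpr_et (K19.f229565 IH) (Lpe (f317653 IH) (Lpr_et (K21.f252053 IH) (Lpr_ft (K21.f326403 IH) (Lpr_et (f326388 IH) (Lpn (LP (LK LD1_c17 LD2_c38 LD3_c27))))))))
theorem f339515 : Led Lsl_gf (LP (LK LD1_c15 LD2_c47 LD3_c54)) = (LP (LK LD1_c17 LD2_c38 LD3_c27)) :=
  Lgr Lrot47 (Lpr_gt (f167132 IH) (Lpr_af (f339507 IH) (Lpr_ff (f326407 IH) (Lpn (LP (LK LD1_c17 LD2_c38 LD3_c27))))))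
theorem f326386 : Led Lsl_dt (LP (LK LD1_c15 LD2_c23 LD3_c9)) = (LP (LK LD1_c17 LD2_c38 LD3_c27)) :=
  Lgr Lrot42 (Lpr_df (K21.f326382 IH) (Lpn (LP (LK LD1_c17 LD2_c38 LD3_c27))))
theorem f169215 : Led Lsl_ct (LP (LK LD1_c5 LD2_c20 LD3_c39)) = (LP (LK LD1_c2 LD2_c36 LD3_c59)) :=
  Lre_c IH (LK LD1_c5 LD2_c20 LD3_c39) (LK LD1_c2 LD2_c36 LD3_c59) Lrfl Lrfl
theorem f184260 : Led Lsl_ct (LP (LK LD1_c8 LD2_c32 LD3_c53)) = (LP (LK LD1_c4 LD2_c16 LD3_c47)) :=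
  Lre_c IH (LK LD1_c8 LD2_c32 LD3_c53) (LK LD1_c4 LD2_c16 LD3_c47) Lrfl Lrfl
theorem f184275 : Led Lsl_gt (LP (LK LD1_c16 LD2_c2 LD3_c51)) = (LP (LK LD1_c8 LD2_c32 LD3_c53)) :=
  Lre_g IH (LK LD1_c16 LD2_c2 LD3_c51) (LK LD1_c8 LD2_c32 LD3_c53) Lrfl Lrfl
theorem f339522 : Led Lsl_ct (LP (LK LD1_c15 LD2_c47 LD3_c54)) = (LP (LK LD1_c16 LD2_c2 LD3_c51)) :=
  Lgr Lrot152 (Lpr_gf (f339515 IH) (Lpe (f326386 IH) (Lpr_gt (K21.f326379 IH) (Lpr_ct (K21.f322651 IH) (Lpr_gt (K20.f169210 IH) (Lpr_ct (f169215 IH) (Lpe (K15.f184252 IH) (Lpe (f184260 IH) (Lpe (f184275 IH) (Lpn (LP (LK LD1_c16 LD2_c2 LD3_c51))))))))))))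
theorem f184295 : Led Lsl_gt (LP (LK LD1_c5 LD2_c23 LD3_c37)) = (LP (LK LD1_c10 LD2_c37 LD3_c45)) :=
  Lre_g IH (LK LD1_c5 LD2_c23 LD3_c37) (LK LD1_c10 LD2_c37 LD3_c45) Lrfl Lrfl
theorem f326384 : Led Lsl_bt (LP (LK LD1_c15 LD2_c36 LD3_c53)) = (LP (LK LD1_c17 LD2_c38 LD3_c27)) :=
  Lgr Lrot95 (Lpe (K21.f317555 IH) (Lpe (K21.f326358 IH) (Lpr_df (K21.f326382 IH) (Lpn (LP (LK LD1_c17 LD2_c38 LD3_c27))))))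
theorem f331182 : Led Lsl_cf (LP (LK LD1_c15 LD2_c37 LD3_c16)) = (LP (LK LD1_c15 LD2_c36 LD3_c53)) :=
  Lgr Lrot11 (Lpr_ct (K21.f331180 IH) (Lpn (LP (LK LD1_c15 LD2_c36 LD3_c53))))
theorem f339524 : Led Lsl_bf (LP (LK LD1_c10 LD2_c37 LD3_c45)) = (LP (LK LD1_c8 LD2_c30 LD3_c14)) :=
  Lgr Lrot34 (Lpe (f184295 IH) (Lpe (K15.f184289 IH) (Lpr_ct (K20.f184297 IH) (Lpe (f184275 IH) (Lpe (f339522 IH) (Lpr_gf (f339515 IH) (Lpe (f326384 IH) (Lpe (f331182 IH) (Lpr_gf (K21.f323426 IH) (Lpe (K21.f323408 IH) (Lpn (LP (LK LD1_c8 LD2_c30 LD3_c14)))))))))))))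
theorem f48957 : Led Lsl_bt (LP (LK LD1_c16 LD2_c2 LD3_c29)) = (LP (LK LD1_c8 LD2_c32 LD3_c38)) :=
  Lre_b IH (LK LD1_c16 LD2_c2 LD3_c29) (LK LD1_c8 LD2_c32 LD3_c38) Lrfl Lrfl
theorem f339530 : Led Lsl_et (LP (LK LD1_c10 LD2_c37 LD3_c45)) = (LP (LK LD1_c16 LD2_c2 LD3_c29)) :=
  Lgr Lrot74 (Lpr_bf (f339524 IH) (Lpe (K21.f323420 IH) (Lpe (f48957 IH) (Lpn (LP (LK LD1_c16 LD2_c2 LD3_c29))))))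
theorem f339534 : Led Lsl_ef (LP (LK LD1_c10 LD2_c37 LD3_c45)) = (LP (LK LD1_c16 LD2_c2 LD3_c29)) :=
  Lgr Lrot88 (Lpr_et (f339530 IH) (Lpn (LP (LK LD1_c16 LD2_c2 LD3_c29))))
theorem f184344 : Led Lsl_et (LP (LK LD1_c2 LD2_c38 LD3_c22)) = (LP (LK LD1_c5 LD2_c23 LD3_c37)) :=
  Lre_e IH (LK LD1_c2 LD2_c38 LD3_c22) (LK LD1_c5 LD2_c23 LD3_c37) Lrfl Lrfl
theorem f220201 : Led Lsl_dt (LP (LK LD1_c16 LD2_c2 LD3_c29)) = (LP (LK LD1_c8 LD2_c32 LD3_c36)) :=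
  Lre_d IH (LK LD1_c16 LD2_c2 LD3_c29) (LK LD1_c8 LD2_c32 LD3_c36) Lrfl Lrfl
theorem f339538 : Led Lsl_gf (LP (LK LD1_c8 LD2_c32 LD3_c40)) = (LP (LK LD1_c8 LD2_c32 LD3_c36)) :=
  Lgr Lrot145 (Lpe (K16.f232415 IH) (Lpr_et (K16.f232231 IH) (Lpr_gt (K13.f232257 IH) (Lpe (K14.f216740 IH) (Lpr_gt (K14.f255991 IH) (Lpe (K14.f169155 IH) (Lpr_et (f184344 IH) (Lpr_gt (f184295 IH) (Lpr_ef (f339534 IH) (Lpr_dt (f220201 IH) (Lpn (LP (LK LD1_c8 LD2_c32 LD3_c36)))))))))))))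
theorem f219759 : Led Lsl_df (LP (LK LD1_c8 LD2_c17 LD3_c54)) = (LP (LK LD1_c8 LD2_c17 LD3_c54)) :=
  Lgr Lrot12 (Lpe (K19.f219757 IH) (Lpr_dt (K13.f219210 IH) (Lpr_bt (K17.f219753 IH) (Lpn (LP (LK LD1_c8 LD2_c17 LD3_c54))))))
theorem f219638 : Led Lsl_et (LP (LK LD1_c4 LD2_c8 LD3_c52)) = (LP (LK LD1_c8 LD2_c17 LD3_c54)) :=
  Lre_e IH (LK LD1_c4 LD2_c8 LD3_c52) (LK LD1_c8 LD2_c17 LD3_c54) Lrfl Lrfl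
theorem f270669 : Led Lsl_et (LP (LK LD1_c8 LD2_c21 LD3_c11)) = (LP (LK LD1_c4 LD2_c10 LD3_c36)) :=
  Lre_e IH (LK LD1_c8 LD2_c21 LD3_c11) (LK LD1_c4 LD2_c10 LD3_c36) Lrfl Lrfl
theorem f270670 : Led Lsl_ft (LP (LK LD1_c8 LD2_c17 LD3_c54)) = (LP (LK LD1_c8 LD2_c21 LD3_c11)) :=
  Lgr Lrot86 (Lpe (f219638 IH) (Lpe (K17.f219744 IH) (Lpe (K1.f42075 IH) (Lpr_ff (K16.f270663 IH) (Lpe (f270669 IH) (Lpn (LP (LK LD1_c8 LD2_c21 LD3_c11))))))))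
theorem f270707 : Led Lsl_dt (LP (LK LD1_c8 LD2_c21 LD3_c11)) = (LP (LK LD1_c8 LD2_c21 LD3_c11)) :=
  Lgr Lrot60 (Lpe (f270670 IH) (Lpr_df (f219759 IH) (Lpr_ff (K17.f270682 IH) (Lpn (LP (LK LD1_c8 LD2_c21 LD3_c11))))))
theorem f270709 : Led Lsl_af (LP (LK LD1_c8 LD2_c32 LD3_c40)) = (LP (LK LD1_c8 LD2_c21 LD3_c11)) :=
  Lgr Lrot117 (Lpr_dt (K16.f232415 IH) (Lpr_at (K17.f270703 IH) (Lpr_dt (f270707 IH) (Lpn (LP (LK LD1_c8 LD2_c21 LD3_c11))))))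
theorem f339540 : Led Lsl_gt (LP (LK LD1_c8 LD2_c17 LD3_c54)) = (LP (LK LD1_c8 LD2_c32 LD3_c36)) :=
  Lgr Lrot5 (Lpr_ft (f270670 IH) (Lpe (f270709 IH) (Lpr_gf (f339538 IH) (Lpn (LP (LK LD1_c8 LD2_c32 LD3_c36))))))
theorem f328678 : Led Lsl_ct (LP (LK LD1_c16 LD2_c17 LD3_c2)) = (LP (LK LD1_c8 LD2_c41 LD3_c42)) :=
  Lre_c IH (LK LD1_c16 LD2_c17 LD3_c2) (LK LD1_c8 LD2_c41 LD3_c42) Lrfl Lrfl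
theorem f328679 : Led Lsl_gt (LP (LK LD1_c8 LD2_c41 LD3_c42)) = (LP (LK LD1_c14 LD2_c58 LD3_c8)) :=
  Lgr Lrot94 (Lpe (f328678 IH) (Lpr_gt (K21.f328676 IH) (Lpe (K21.f279790 IH) (Lpr_gt (K21.f309026 IH) (Lpr_dt (K20.f237231 IH) (Lpe (K18.f28905 IH) (Lpe (K18.f227190 IH) (Lpe (K18.f227195 IH) (Lpe (K18.f237228 IH) (Lpn (LP (LK LD1_c14 LD2_c58 LD3_c8))))))))))))
theorem f325932 : Led Lsl_df (LP (LK LD1_c14 LD2_c57 LD3_c16)) = (LP (LK LD1_c16 LD2_c3 LD3_c36)) :=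
  Lgr Lrot38 (Lpr_dt (K21.f325925 IH) (Lpn (LP (LK LD1_c16 LD2_c3 LD3_c36))))
theorem f328691 : Led Lsl_gt (LP (LK LD1_c14 LD2_c58 LD3_c7)) = (LP (LK LD1_c14 LD2_c57 LD3_c16)) :=
  Lgr Lrot112 (Lpe (f39130 IH) (Lpr_et (K18.f229008 IH) (Lpe (f328679 IH) (Lpe (K21.f328668 IH) (Lpr_dt (K21.f216801 IH) (Lpr_gf (K21.f328666 IH) (Lpe (K14.f186892 IH) (Lpr_gf (K21.f328687 IH) (Lpe (K21.f325924 IH) (Lpe (f325932 IH) (Lpn (LP (LK LD1_c14 LD2_c57 LD3_c16)))))))))))))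
theorem f232402 : Led Lsl_ct (LP (LK LD1_c14 LD2_c57 LD3_c16)) = (LP (LK LD1_c24 LD2_c44 LD3_c44)) :=
  Lre_c IH (LK LD1_c14 LD2_c57 LD3_c16) (LK LD1_c24 LD2_c44 LD3_c44) Lrfl Lrfl
theorem f229697 : Led Lsl_df (LP (LK LD1_c10 LD2_c19 LD3_c53)) = (LP (LK LD1_c7 LD2_c55 LD3_c36)) :=
  Lgr Lrot38 (Lpr_dt (K21.f229694 IH) (Lpn (LP (LK LD1_c7 LD2_c55 LD3_c36))))
theorem f232400 : Led Lsl_gt (LP (LK LD1_c14 LD2_c57 LD3_c16)) = (LP (LK LD1_c14 LD2_c58 LD3_c5)) :=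
  Lgr Lrot137 (Lpe (K21.f229699 IH) (Lpe (f229697 IH) (Lpe (K21.f186916 IH) (Lpe (K13.f232365 IH) (Lpr_et (K21.f186930 IH) (Lpr_gf (K13.f232392 IH) (Lpe (K1.f39094 IH) (Lpr_dt (K13.f42924 IH) (Lpe (K19.f39105 IH) (Lpe (K19.f39109 IH) (Lpn (LP (LK LD1_c14 LD2_c58 LD3_c5)))))))))))))
theorem f279766 : Led Lsl_gt (LP (LK LD1_c24 LD2_c44 LD3_c44)) = (LP (LK LD1_c17 LD2_c41 LD3_c50)) :=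
  Lgr Lrot94 (Lpe (f232402 IH) (Lpr_gt (f232400 IH) (Lpr_dt (K19.f39109 IH) (Lpr_gt (K19.f39105 IH) (Lpr_dt (K13.f42924 IH) (Lpe (K13.f39107 IH) (Lpe (K13.f39070 IH) (Lpe (K18.f200084 IH) (Lpr_df (K18.f279762 IH) (Lpn (LP (LK LD1_c17 LD2_c41 LD3_c50))))))))))))
theorem f30658 : Led Lsl_ct (LP (LK LD1_c17 LD2_c41 LD3_c50)) = (LP (LK LD1_c9 LD2_c36 LD3_c32)) :=
  Lre_c IH (LK LD1_c17 LD2_c41 LD3_c50) (LK LD1_c9 LD2_c36 LD3_c32) Lrfl Lrfl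
theorem f1562 : Led Lsl_ct (LP (LK LD1_c9 LD2_c36 LD3_c31)) = (LP (LK LD1_c4 LD2_c52 LD3_c5)) :=
  Lre_c IH (LK LD1_c9 LD2_c36 LD3_c31) (LK LD1_c4 LD2_c52 LD3_c5) Lrfl Lrfl
theorem f328693 : Led Lsl_gt (LP (LK LD1_c7 LD2_c56 LD3_c0)) = (LP (LK LD1_c9 LD2_c36 LD3_c31)) :=
  Lgr Lrot150 (Lpe (K9.f39120 IH) (Lpe (K18.f39124 IH) (Lpe (K18.f39133 IH) (Lpr_gt (f328691 IH) (Lpr_ct (f232402 IH) (Lpr_gt (f279766 IH) (Lpr_ct (f30658 IH) (Lpe (K21.f30657 IH) (Lpe (f1562 IH) (Lpn (LP (LK LD1_c9 LD2_c36 LD3_c31))))))))))))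
theorem f39761 : Led Lsl_bt (LP (LK LD1_c14 LD2_c57 LD3_c61)) = (LP (LK LD1_c7 LD2_c56 LD3_c0)) :=
  Lre_b IH (LK LD1_c14 LD2_c57 LD3_c61) (LK LD1_c7 LD2_c56 LD3_c0) Lrfl Lrfl
theorem f200045 : Led Lsl_bt (LP (LK LD1_c9 LD2_c35 LD3_c7)) = (LP (LK LD1_c17 LD2_c38 LD3_c61)) :=
  Lre_b IH (LK LD1_c9 LD2_c35 LD3_c7) (LK LD1_c17 LD2_c38 LD3_c61) Lrfl Lrfl
theorem f200046 : Led Lsl_ft (LP (LK LD1_c7 LD2_c56 LD3_c0)) = (LP (LK LD1_c9 LD2_c35 LD3_c7)) :=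
  Lgr Lrot75 (Lpe (f39761 IH) (Lpr_ff (K11.f200038 IH) (Lpe (f200045 IH) (Lpn (LP (LK LD1_c9 LD2_c35 LD3_c7))))))
theorem f328726 : Led Lsl_gf (LP (LK LD1_c8 LD2_c40 LD3_c32)) = (LP (LK LD1_c9 LD2_c36 LD3_c31)) :=
  Lgr Lrot76 (Lpr_af (K13.f200092 IH) (Lpe (f200046 IH) (Lpr_gt (f328693 IH) (Lpn (LP (LK LD1_c9 LD2_c36 LD3_c31))))))
theorem f1564 : Led Lsl_ct (LP (LK LD1_c4 LD2_c52 LD3_c5)) = (LP (LK LD1_c9 LD2_c36 LD3_c31)) :=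
  Lre_c IH (LK LD1_c4 LD2_c52 LD3_c5) (LK LD1_c9 LD2_c36 LD3_c31) Lrfl Lrfl
theorem f305510 : Led Lsl_bt (LP (LK LD1_c7 LD2_c56 LD3_c1)) = (LP (LK LD1_c14 LD2_c58 LD3_c4)) :=
  Lre_b IH (LK LD1_c7 LD2_c56 LD3_c1) (LK LD1_c14 LD2_c58 LD3_c4) Lrfl Lrfl
theorem f328778 : Led Lsl_gt (LP (LK LD1_c8 LD2_c32 LD3_c40)) = (LP (LK LD1_c14 LD2_c58 LD3_c4)) :=
  Lgr Lrot164 (Lpr_bf (K16.f232408 IH) (Lpr_ct (K13.f39099 IH) (Lpr_gf (f328726 IH) (Lpe (f1564 IH) (Lpe (K19.f30655 IH) (Lpr_bf (K9.f29801 IH) (Lpr_ct (K19.f1576 IH) (Lpr_gf (K19.f2480 IH) (Lpr_cf (K19.f305511 IH) (Lpr_bt (f305510 IH) (Lpn (LP (LK LD1_c14 LD2_c58 LD3_c4)))))))))))))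
theorem f219741 : Led Lsl_at (LP (LK LD1_c4 LD2_c21 LD3_c17)) = (LP (LK LD1_c8 LD2_c17 LD3_c54)) :=
  Lgr Lrot80 (Lpe (K17.f43076 IH) (Lpr_af (K12.f219733 IH) (Lpe (K17.f219740 IH) (Lpn (LP (LK LD1_c8 LD2_c17 LD3_c54))))))
theorem f328780 : Led Lsl_gf (LP (LK LD1_c8 LD2_c17 LD3_c54)) = (LP (LK LD1_c14 LD2_c58 LD3_c4)) :=
  Lgr Lrot76 (Lpe (f219741 IH) (Lpe (K16.f232417 IH) (Lpr_gt (f328778 IH) (Lpn (LP (LK LD1_c14 LD2_c58 LD3_c4))))))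
theorem f274495 : Led Lsl_dt (LP (LK LD1_c20 LD2_c56 LD3_c45)) = (LP (LK LD1_c11 LD2_c53 LD3_c13)) :=
  Lre_d IH (LK LD1_c20 LD2_c56 LD3_c45) (LK LD1_c11 LD2_c53 LD3_c13) Lrfl Lrfl
theorem f328784 : Led Lsl_et (LP (LK LD1_c20 LD2_c56 LD3_c45)) = (LP (LK LD1_c14 LD2_c58 LD3_c4)) :=
  Lgr Lrot122 (Lpr_dt (f274495 IH) (Lpr_gt (K21.f274488 IH) (Lpe (f311383 IH) (Lpr_et (K19.f311385 IH) (Lpr_gt (K19.f262656 IH) (Lpr_dt (K14.f49019 IH) (Lpe (K14.f232310 IH) (Lpe (K13.f187068 IH) (Lpr_et (K16.f232220 IH) (Lpr_gt (f328778 IH) (Lpn (LP (LK LD1_c14 LD2_c58 LD3_c4)))))))))))))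
theorem f178789 : Led Lsl_ct (LP (LK LD1_c8 LD2_c25 LD3_c17)) = (LP (LK LD1_c4 LD2_c13 LD3_c2)) :=
  Lre_c IH (LK LD1_c8 LD2_c25 LD3_c17) (LK LD1_c4 LD2_c13 LD3_c2) Lrfl Lrfl
theorem f292421 : Led Lsl_dt (LP (LK LD1_c8 LD2_c18 LD3_c2)) = (LP (LK LD1_c15 LD2_c36 LD3_c39)) :=
  Lre_d IH (LK LD1_c8 LD2_c18 LD3_c2) (LK LD1_c15 LD2_c36 LD3_c39) Lrfl Lrfl
theorem f182668 : Led Lsl_ct (LP (LK LD1_c8 LD2_c13 LD3_c40)) = (LP (LK LD1_c4 LD2_c6 LD3_c34)) :=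
  Lre_c IH (LK LD1_c8 LD2_c13 LD3_c40) (LK LD1_c4 LD2_c6 LD3_c34) Lrfl Lrfl
theorem f301681 : Led Lsl_gt (LP (LK LD1_c15 LD2_c36 LD3_c39)) = (LP (LK LD1_c11 LD2_c53 LD3_c13)) :=
  Lgr Lrot9 (Lpe (f292421 IH) (Lpr_gt (K19.f219693 IH) (Lpr_ct (K21.f292402 IH) (Lpr_gt (K21.f178821 IH) (Lpr_ct (f178789 IH) (Lpr_df (K18.f301667 IH) (Lpe (f182668 IH) (Lpe (K21.f182752 IH) (Lpe (K21.f301389 IH) (Lpn (LP (LK LD1_c11 LD2_c53 LD3_c13))))))))))))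
theorem f310806 : Led Lsl_et (LP (LK LD1_c8 LD2_c18 LD3_c2)) = (LP (LK LD1_c15 LD2_c36 LD3_c40)) :=
  Lre_e IH (LK LD1_c8 LD2_c18 LD3_c2) (LK LD1_c15 LD2_c36 LD3_c40) Lrfl Lrfl
theorem f339574 : Led Lsl_gf (LP (LK LD1_c15 LD2_c36 LD3_c40)) = (LP (LK LD1_c10 LD2_c37 LD3_c45)) :=
  Lgr Lrot141 (Lpe (f310806 IH) (Lpr_dt (f292421 IH) (Lpr_gt (f301681 IH) (Lpe (f274495 IH) (Lpr_et (f328784 IH) (Lpe (f328780 IH) (Lpe (f219759 IH) (Lpr_gt (f339540 IH) (Lpe (f220201 IH) (Lpe (f339534 IH) (Lpn (LP (LK LD1_c10 LD2_c37 LD3_c45)))))))))))))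
theorem f339576 : Led Lsl_af (LP (LK LD1_c15 LD2_c36 LD3_c40)) = (LP (LK LD1_c10 LD2_c37 LD3_c47)) :=
  Lgr Lrot31 (Lpr_gf (f339574 IH) (Lpe (f184295 IH) (Lpr_ft (K15.f184288 IH) (Lpn (LP (LK LD1_c10 LD2_c37 LD3_c47))))))
theorem f315915 : Led Lsl_bt (LP (LK LD1_c4 LD2_c17 LD3_c27)) = (LP (LK LD1_c8 LD2_c34 LD3_c5)) :=
  Lre_b IH (LK LD1_c4 LD2_c17 LD3_c27) (LK LD1_c8 LD2_c34 LD3_c5) Lrfl Lrfl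
theorem f315916 : Led Lsl_et (LP (LK LD1_c8 LD2_c34 LD3_c5)) = (LP (LK LD1_c10 LD2_c37 LD3_c47)) :=
  Lgr Lrot74 (Lpe (f315915 IH) (Lpr_ef (K20.f315911 IH) (Lpr_bf (K15.f184284 IH) (Lpn (LP (LK LD1_c10 LD2_c37 LD3_c47))))))
theorem f339581 : Led Lsl_at (LP (LK LD1_c8 LD2_c18 LD3_c2)) = (LP (LK LD1_c8 LD2_c34 LD3_c5)) :=
  Lgr Lrot80 (Lpe (K19.f219694 IH) (Lpr_af (f339576 IH) (Lpe (f315916 IH) (Lpn (LP (LK LD1_c8 LD2_c34 LD3_c5))))))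
theorem f311377 : Led Lsl_ff (LP (LK LD1_c8 LD2_c18 LD3_c2)) = (LP (LK LD1_c8 LD2_c30 LD3_c47)) :=
  Lgr Lrot3 (Lpr_ft (K19.f311371 IH) (Lpn (LP (LK LD1_c8 LD2_c30 LD3_c47))))
theorem f339585 : Led Lsl_gt (LP (LK LD1_c8 LD2_c17 LD3_c56)) = (LP (LK LD1_c8 LD2_c34 LD3_c5)) :=
  Lgr Lrot46 (Lpr_gf (K21.f331280 IH) (Lpe (f311377 IH) (Lpr_at (f339581 IH) (Lpn (LP (LK LD1_c8 LD2_c34 LD3_c5))))))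
theorem f315945 : Led Lsl_ct (LP (LK LD1_c6 LD2_c5 LD3_c0)) = (LP (LK LD1_c11 LD2_c53 LD3_c24)) :=
  Lre_c IH (LK LD1_c6 LD2_c5 LD3_c0) (LK LD1_c11 LD2_c53 LD3_c24) Lrfl Lrfl
theorem f279130 : Led Lsl_dt (LP (LK LD1_c16 LD2_c37 LD3_c21)) = (LP (LK LD1_c8 LD2_c53 LD3_c23)) :=
  Lre_d IH (LK LD1_c16 LD2_c37 LD3_c21) (LK LD1_c8 LD2_c53 LD3_c23) Lrfl Lrfl
theorem f315944 : Led Lsl_ct (LP (LK LD1_c11 LD2_c53 LD3_c24)) = (LP (LK LD1_c6 LD2_c5 LD3_c0)) :=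
  Lre_c IH (LK LD1_c11 LD2_c53 LD3_c24) (LK LD1_c6 LD2_c5 LD3_c0) Lrfl Lrfl
theorem f316573 : Led Lsl_gf (LP (LK LD1_c6 LD2_c5 LD3_c11)) = (LP (LK LD1_c11 LD2_c53 LD3_c24)) :=
  Lgr Lrot144 (Lpr_dt (K20.f41690 IH) (Lpr_gt (K20.f316568 IH) (Lpr_dt (f279130 IH) (Lpe (K21.f279129 IH) (Lpr_df (K21.f278976 IH) (Lpr_gf (K20.f315938 IH) (Lpe (K20.f315936 IH) (Lpe (K21.f315943 IH) (Lpe (f315944 IH) (Lpn (LP (LK LD1_c11 LD2_c53 LD3_c24))))))))))))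
theorem f263712 : Led Lsl_bf (LP (LK LD1_c10 LD2_c50 LD3_c39)) = (LP (LK LD1_c8 LD2_c38 LD3_c31)) :=
  Lgr Lrot96 (Lpr_et (K17.f263710 IH) (Lpe (K17.f198863 IH) (Lpr_et (K21.f257330 IH) (Lpn (LP (LK LD1_c8 LD2_c38 LD3_c31))))))
theorem f308934 : Led Lsl_bt (LP (LK LD1_c8 LD2_c11 LD3_c53)) = (LP (LK LD1_c15 LD2_c26 LD3_c0)) :=
  Lre_b IH (LK LD1_c8 LD2_c11 LD3_c53) (LK LD1_c15 LD2_c26 LD3_c0) Lrfl Lrfl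
theorem f325360 : Led Lsl_gt (LP (LK LD1_c10 LD2_c50 LD3_c39)) = (LP (LK LD1_c15 LD2_c26 LD3_c0)) :=
  Lgr Lrot164 (Lpr_bf (f263712 IH) (Lpe (K21.f257331 IH) (Lpr_gf (f316573 IH) (Lpe (f315945 IH) (Lpr_gf (K21.f325358 IH) (Lpr_bf (f310616 IH) (Lpr_ct (K20.f299152 IH) (Lpe (K19.f308929 IH) (Lpe (K19.f237933 IH) (Lpr_bt (f308934 IH) (Lpn (LP (LK LD1_c15 LD2_c26 LD3_c0)))))))))))))
theorem f328348 : Led Lsl_af (LP (LK LD1_c10 LD2_c50 LD3_c37)) = (LP (LK LD1_c19 LD2_c35 LD3_c9)) :=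
  Lgr Lrot45 (Lpr_ft (K21.f328233 IH) (Lpe (K21.f328249 IH) (Lpr_ft (K21.f328346 IH) (Lpn (LP (LK LD1_c19 LD2_c35 LD3_c9))))))
theorem f328354 : Led Lsl_gt (LP (LK LD1_c15 LD2_c26 LD3_c0)) = (LP (LK LD1_c10 LD2_c50 LD3_c37)) :=
  Lgr Lrot46 (Lpe (f325360 IH) (Lpr_ft (K21.f328346 IH) (Lpe (f328348 IH) (Lpn (LP (LK LD1_c10 LD2_c50 LD3_c37))))))
theorem f298871 : Led Lsl_bt (LP (LK LD1_c5 LD2_c26 LD3_c28)) = (LP (LK LD1_c10 LD2_c44 LD3_c9)) :=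
  Lre_b IH (LK LD1_c5 LD2_c26 LD3_c28) (LK LD1_c10 LD2_c44 LD3_c9) Lrfl Lrfl
theorem f328356 : Led Lsl_gf (LP (LK LD1_c8 LD2_c29 LD3_c7)) = (LP (LK LD1_c10 LD2_c44 LD3_c9)) :=
  Lgr Lrot124 (Lpe (K17.f194256 IH) (Lpr_ct (K20.f216213 IH) (Lpe (K19.f308931 IH) (Lpe (K19.f237933 IH) (Lpr_bt (f308934 IH) (Lpr_gt (f328354 IH) (Lpr_ct (K21.f328245 IH) (Lpe (f328287 IH) (Lpe (K21.f298855 IH) (Lpr_bt (f298871 IH) (Lpn (LP (LK LD1_c10 LD2_c44 LD3_c9)))))))))))))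
theorem f298856 : Led Lsl_bt (LP (LK LD1_c10 LD2_c44 LD3_c9)) = (LP (LK LD1_c5 LD2_c26 LD3_c28)) :=
  Lre_b IH (LK LD1_c10 LD2_c44 LD3_c9) (LK LD1_c5 LD2_c26 LD3_c28) Lrfl Lrfl
theorem f301499 : Led Lsl_bt (LP (LK LD1_c8 LD2_c20 LD3_c11)) = (LP (LK LD1_c15 LD2_c41 LD3_c21)) :=
  Lre_b IH (LK LD1_c8 LD2_c20 LD3_c11) (LK LD1_c15 LD2_c41 LD3_c21) Lrfl Lrfl
theorem f301500 : Led Lsl_df (LP (LK LD1_c10 LD2_c44 LD3_c9)) = (LP (LK LD1_c15 LD2_c41 LD3_c21)) :=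
  Lgr Lrot12 (Lpr_bt (f298856 IH) (Lpr_dt (f301484 IH) (Lpr_bt (f301499 IH) (Lpn (LP (LK LD1_c15 LD2_c41 LD3_c21))))))
theorem f234238 : Led Lsl_et (LP (LK LD1_c15 LD2_c41 LD3_c21)) = (LP (LK LD1_c8 LD2_c20 LD3_c8)) :=
  Lre_e IH (LK LD1_c15 LD2_c41 LD3_c21) (LK LD1_c8 LD2_c20 LD3_c8) Lrfl Lrfl
theorem f328363 : Led Lsl_gt (LP (LK LD1_c8 LD2_c21 LD3_c11)) = (LP (LK LD1_c8 LD2_c20 LD3_c8)) :=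
  Lgr Lrot131 (Lpe (K17.f232860 IH) (Lpr_dt (K17.f191835 IH) (Lpe (K13.f232856 IH) (Lpe (K13.f229643 IH) (Lpe (K17.f283225 IH) (Lpe (K19.f220666 IH) (Lpr_dt (f283247 IH) (Lpr_gf (f328356 IH) (Lpr_df (f301500 IH) (Lpr_et (f234238 IH) (Lpn (LP (LK LD1_c8 LD2_c20 LD3_c8)))))))))))))
theorem f328387 : Led Lsl_gf (LP (LK LD1_c4 LD2_c21 LD3_c17)) = (LP (LK LD1_c8 LD2_c20 LD3_c8)) :=
  Lgr Lrot76 (Lpr_af (K17.f219755 IH) (Lpr_ff (K17.f270682 IH) (Lpr_gt (f328363 IH) (Lpn (LP (LK LD1_c8 LD2_c20 LD3_c8))))))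
theorem f328360 : Led Lsl_gt (LP (LK LD1_c11 LD2_c53 LD3_c14)) = (LP (LK LD1_c10 LD2_c44 LD3_c9)) :=
  Lgr Lrot5 (Lpr_ft (K17.f283480 IH) (Lpr_at (K17.f283501 IH) (Lpr_gf (f328356 IH) (Lpn (LP (LK LD1_c10 LD2_c44 LD3_c9))))))
theorem f339587 : Led Lsl_df (LP (LK LD1_c11 LD2_c53 LD3_c14)) = (LP (LK LD1_c8 LD2_c34 LD3_c5)) :=
  Lgr Lrot135 (Lpr_gt (f328360 IH) (Lpr_df (f301500 IH) (Lpr_et (f234238 IH) (Lpe (f328387 IH) (Lpe (K17.f43076 IH) (Lpr_dt (K12.f43078 IH) (Lpr_gt (K21.f324703 IH) (Lpe (K14.f219646 IH) (Lpr_et (K19.f219654 IH) (Lpr_gt (f339585 IH) (Lpn (LP (LK LD1_c8 LD2_c34 LD3_c5)))))))))))))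
theorem f339591 : Led Lsl_dt (LP (LK LD1_c11 LD2_c53 LD3_c14)) = (LP (LK LD1_c8 LD2_c34 LD3_c5)) :=
  Lgr Lrot42 (Lpr_df (f339587 IH) (Lpn (LP (LK LD1_c8 LD2_c34 LD3_c5))))
theorem f339583 : Led Lsl_af (LP (LK LD1_c8 LD2_c18 LD3_c2)) = (LP (LK LD1_c8 LD2_c34 LD3_c5)) :=
  Lgr Lrot0 (Lpr_at (f339581 IH) (Lpn (LP (LK LD1_c8 LD2_c34 LD3_c5))))
theorem f339625 : Led Lsl_af (LP (LK LD1_c11 LD2_c53 LD3_c14)) = (LP (LK LD1_c15 LD2_c36 LD3_c39)) :=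
  Lgr Lrot117 (Lpr_dt (f339591 IH) (Lpe (f339583 IH) (Lpr_dt (f292421 IH) (Lpn (LP (LK LD1_c15 LD2_c36 LD3_c39))))))
theorem f283478 : Led Lsl_ef (LP (LK LD1_c10 LD2_c35 LD3_c15)) = (LP (LK LD1_c11 LD2_c53 LD3_c14)) :=
  Lgr Lrot88 (Lpr_et (K17.f283470 IH) (Lpn (LP (LK LD1_c11 LD2_c53 LD3_c14))))
theorem f339632 : Led Lsl_et (LP (LK LD1_c10 LD2_c35 LD3_c43)) = (LP (LK LD1_c15 LD2_c36 LD3_c39)) :=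
  Lgr Lrot123 (Lpe (K19.f310775 IH) (Lpr_ef (f283478 IH) (Lpr_af (f339625 IH) (Lpn (LP (LK LD1_c15 LD2_c36 LD3_c39))))))
theorem f339640 : Led Lsl_ft (LP (LK LD1_c5 LD2_c22 LD3_c40)) = (LP (LK LD1_c10 LD2_c35 LD3_c43)) :=
  Lre_f IH (LK LD1_c5 LD2_c22 LD3_c40) (LK LD1_c10 LD2_c35 LD3_c43) Lrfl Lrfl
theorem f283638 : Led Lsl_ff (LP (LK LD1_c2 LD2_c37 LD3_c54)) = (LP (LK LD1_c4 LD2_c15 LD3_c4)) :=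
  Lgr Lrot23 (Lpr_ct (K15.f194632 IH) (Lpr_ft (K17.f283634 IH) (Lpr_ct (K16.f194243 IH) (Lpn (LP (LK LD1_c4 LD2_c15 LD3_c4))))))
theorem f339641 : Led Lsl_ff (LP (LK LD1_c8 LD2_c29 LD3_c7)) = (LP (LK LD1_c15 LD2_c36 LD3_c39)) :=
  Lgr Lrot72 (Lpr_et (K17.f54292 IH) (Lpe (f283638 IH) (Lpr_et (K10.f194693 IH) (Lpr_ft (f339640 IH) (Lpr_et (f339632 IH) (Lpn (LP (LK LD1_c15 LD2_c36 LD3_c39))))))))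
theorem f325356 : Led Lsl_at (LP (LK LD1_c6 LD2_c5 LD3_c1)) = (LP (LK LD1_c11 LD2_c52 LD3_c23)) :=
  Lgr Lrot66 (Lpe (f283474 IH) (Lpr_af (K21.f325352 IH) (Lpe (K21.f283346 IH) (Lpn (LP (LK LD1_c11 LD2_c52 LD3_c23))))))
theorem f299186 : Led Lsl_af (LP (LK LD1_c8 LD2_c41 LD3_c5)) = (LP (LK LD1_c8 LD2_c6 LD3_c54)) :=
  Lgr Lrot109 (Lpe (K18.f28865 IH) (Lpr_df (K18.f299179 IH) (Lpe (K20.f227070 IH) (Lpe (K20.f299181 IH) (Lpe (K20.f298401 IH) (Lpe (K20.f238795 IH) (Lpe (K18.f28905 IH) (Lpe (K18.f227190 IH) (Lpr_ft (K19.f299185 IH) (Lpn (LP (LK LD1_c8 LD2_c6 LD3_c54))))))))))))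
theorem f339628 : Led Lsl_bt (LP (LK LD1_c8 LD2_c41 LD3_c5)) = (LP (LK LD1_c15 LD2_c36 LD3_c39)) :=
  Lgr Lrot62 (Lpr_af (f299186 IH) (Lpe (f310618 IH) (Lpe (f325356 IH) (Lpe (K17.f283469 IH) (Lpr_af (f339625 IH) (Lpn (LP (LK LD1_c15 LD2_c36 LD3_c39))))))))
theorem f339643 : Led Lsl_ft (LP (LK LD1_c8 LD2_c2 LD3_c48)) = (LP (LK LD1_c8 LD2_c41 LD3_c5)) :=
  Lgr Lrot75 (Lpr_bf (f194258 IH) (Lpr_ff (f339641 IH) (Lpe (f339628 IH) (Lpn (LP (LK LD1_c8 LD2_c41 LD3_c5))))))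
theorem f337111 : Led Lsl_gt (LP (LK LD1_c11 LD2_c55 LD3_c30)) = (LP (LK LD1_c8 LD2_c6 LD3_c54)) :=
  Lgr Lrot180 (Lpr_ct (f337103 IH) (Lpe (f315482 IH) (Lpe (K21.f325250 IH) (Lpe (K21.f262191 IH) (Lpr_dt (K15.f28888 IH) (Lpr_ct (K15.f28887 IH) (Lpe (K13.f28854 IH) (Lpe (K18.f296398 IH) (Lpr_df (K19.f308924 IH) (Lpn (LP (LK LD1_c8 LD2_c6 LD3_c54))))))))))))
theorem f339647 : Led Lsl_gt (LP (LK LD1_c8 LD2_c2 LD3_c48)) = (LP (LK LD1_c11 LD2_c55 LD3_c30)) :=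
  Lgr Lrot5 (Lpr_ft (f339643 IH) (Lpr_at (K20.f299153 IH) (Lpe (f337111 IH) (Lpn (LP (LK LD1_c11 LD2_c55 LD3_c30))))))
theorem f194475 : Led Lsl_df (LP (LK LD1_c2 LD2_c38 LD3_c50)) = (LP (LK LD1_c4 LD2_c2 LD3_c60)) :=
  Lgr Lrot38 (Lpr_dt (K19.f194434 IH) (Lpn (LP (LK LD1_c4 LD2_c2 LD3_c60))))
theorem f339656 : Led Lsl_et (LP (LK LD1_c8 LD2_c3 LD3_c1)) = (LP (LK LD1_c11 LD2_c55 LD3_c30)) :=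
  Lgr Lrot122 (Lpr_dt (K19.f312156 IH) (Lpr_gt (K19.f194483 IH) (Lpr_df (f194475 IH) (Lpr_et (K19.f194433 IH) (Lpr_gt (K17.f51040 IH) (Lpr_dt (K19.f274657 IH) (Lpe (K17.f283772 IH) (Lpr_df (K17.f274650 IH) (Lpr_et (K17.f194255 IH) (Lpr_gt (f339647 IH) (Lpn (LP (LK LD1_c11 LD2_c55 LD3_c30)))))))))))))
theorem f339662 : Led Lsl_ef (LP (LK LD1_c8 LD2_c3 LD3_c1)) = (LP (LK LD1_c11 LD2_c55 LD3_c30)) :=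
  Lgr Lrot88 (Lpr_et (f339656 IH) (Lpn (LP (LK LD1_c11 LD2_c55 LD3_c30))))
theorem f253024 : Led Lsl_gt (LP (LK LD1_c15 LD2_c9 LD3_c1)) = (LP (LK LD1_c8 LD2_c2 LD3_c47)) :=
  Lre_g IH (LK LD1_c15 LD2_c9 LD3_c1) (LK LD1_c8 LD2_c2 LD3_c47) Lrfl Lrfl
theorem f338613 : Led Lsl_et (LP (LK LD1_c15 LD2_c22 LD3_c0)) = (LP (LK LD1_c15 LD2_c9 LD3_c1)) :=
  Lgr Lrot121 (Lpr_dt (K21.f310589 IH) (Lpr_gf (f338607 IH) (Lpe (K19.f28038 IH) (Lpr_et (f299098 IH) (Lpe (K21.f329847 IH) (Lpe (K20.f243970 IH) (Lpr_dt (K20.f211312 IH) (Lpr_gf (K21.f329851 IH) (Lpe (K21.f329784 IH) (Lpe (f253024 IH) (Lpn (LP (LK LD1_c15 LD2_c9 LD3_c1)))))))))))))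
theorem f187957 : Led Lsl_et (LP (LK LD1_c8 LD2_c38 LD3_c4)) = (LP (LK LD1_c9 LD2_c37 LD3_c40)) :=
  Lgr Lrot87 (Lpr_ef (K19.f187947 IH) (Lpn (LP (LK LD1_c9 LD2_c37 LD3_c40))))
theorem f338615 : Led Lsl_df (LP (LK LD1_c8 LD2_c38 LD3_c4)) = (LP (LK LD1_c15 LD2_c9 LD3_c1)) :=
  Lgr Lrot70 (Lpr_et (f187957 IH) (Lpr_dt (K19.f187946 IH) (Lpr_et (K21.f187959 IH) (Lpe (K21.f310587 IH) (Lpr_et (f338613 IH) (Lpn (LP (LK LD1_c15 LD2_c9 LD3_c1))))))))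
theorem f338617 : Led Lsl_ef (LP (LK LD1_c15 LD2_c22 LD3_c0)) = (LP (LK LD1_c15 LD2_c9 LD3_c1)) :=
  Lgr Lrot88 (Lpr_et (f338613 IH) (Lpn (LP (LK LD1_c15 LD2_c9 LD3_c1))))
theorem f238532 : Led Lsl_dt (LP (LK LD1_c8 LD2_c18 LD3_c36)) = (LP (LK LD1_c8 LD2_c9 LD3_c34)) :=
  Lgr Lrot77 (Lpr_ef (K15.f238530 IH) (Lpe (K18.f28906 IH) (Lpr_ef (K15.f211448 IH) (Lpe (K18.f28077 IH) (Lpe (K15.f28015 IH) (Lpn (LP (LK LD1_c8 LD2_c9 LD3_c34))))))))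
theorem f328695 : Led Lsl_gf (LP (LK LD1_c15 LD2_c16 LD3_c47)) = (LP (LK LD1_c8 LD2_c9 LD3_c34)) :=
  Lgr Lrot145 (Lpe (f227200 IH) (Lpe (K18.f237224 IH) (Lpr_gt (f328691 IH) (Lpr_dt (K21.f325925 IH) (Lpe (K21.f325928 IH) (Lpe (f39151 IH) (Lpr_et (K13.f236467 IH) (Lpr_gt (K21.f323791 IH) (Lpe (K15.f238534 IH) (Lpr_dt (f238532 IH) (Lpn (LP (LK LD1_c8 LD2_c9 LD3_c34)))))))))))))
theorem f328697 : Led Lsl_gt (LP (LK LD1_c15 LD2_c22 LD3_c0)) = (LP (LK LD1_c8 LD2_c9 LD3_c33)) :=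
  Lgr Lrot112 (Lpr_df (K21.f310587 IH) (Lpr_et (K21.f187956 IH) (Lpr_gf (K19.f310569 IH) (Lpr_ef (K19.f305490 IH) (Lpr_dt (K16.f238659 IH) (Lpr_gf (K19.f269384 IH) (Lpr_df (K18.f227197 IH) (Lpr_gf (f328695 IH) (Lpe (K15.f211459 IH) (Lpr_dt (K18.f28077 IH) (Lpn (LP (LK LD1_c8 LD2_c9 LD3_c33)))))))))))))
theorem f339649 : Led Lsl_dt (LP (LK LD1_c11 LD2_c55 LD3_c30)) = (LP (LK LD1_c21 LD2_c0 LD3_c25)) :=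
  Lre_d IH (LK LD1_c11 LD2_c55 LD3_c30) (LK LD1_c21 LD2_c0 LD3_c25) Lrfl Lrfl
theorem f339668 : Led Lsl_gt (LP (LK LD1_c15 LD2_c17 LD3_c52)) = (LP (LK LD1_c21 LD2_c0 LD3_c25)) :=
  Lgr Lrot112 (Lpe (K18.f28906 IH) (Lpr_et (K15.f211454 IH) (Lpe (f328697 IH) (Lpr_ef (f338617 IH) (Lpe (f338615 IH) (Lpe (K19.f187912 IH) (Lpr_df (K15.f187919 IH) (Lpe (K19.f211447 IH) (Lpr_ef (f339662 IH) (Lpr_dt (f339649 IH) (Lpn (LP (LK LD1_c21 LD2_c0 LD3_c25)))))))))))))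
theorem f196696 : Led Lsl_dt (LP (LK LD1_c15 LD2_c17 LD3_c47)) = (LP (LK LD1_c25 LD2_c8 LD3_c26)) :=
  Lre_d IH (LK LD1_c15 LD2_c17 LD3_c47) (LK LD1_c25 LD2_c8 LD3_c26) Lrfl Lrfl
theorem f337110 : Led Lsl_dt (LP (LK LD1_c21 LD2_c0 LD3_c25)) = (LP (LK LD1_c11 LD2_c55 LD3_c30)) :=
  Lre_d IH (LK LD1_c21 LD2_c0 LD3_c25) (LK LD1_c11 LD2_c55 LD3_c30) Lrfl Lrfl
theorem f337108 : Led Lsl_cf (LP (LK LD1_c11 LD2_c55 LD3_c30)) = (LP (LK LD1_c15 LD2_c52 LD3_c48)) :=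
  Lgr Lrot11 (Lpr_ct (f337103 IH) (Lpn (LP (LK LD1_c15 LD2_c52 LD3_c48))))
theorem f262182 : Led Lsl_dt (LP (LK LD1_c25 LD2_c48 LD3_c50)) = (LP (LK LD1_c15 LD2_c52 LD3_c48)) :=
  Lre_d IH (LK LD1_c25 LD2_c48 LD3_c50) (LK LD1_c15 LD2_c52 LD3_c48) Lrfl Lrfl
theorem f339670 : Led Lsl_gt (LP (LK LD1_c25 LD2_c8 LD3_c26)) = (LP (LK LD1_c25 LD2_c48 LD3_c50)) :=
  Lgr Lrot49 (Lpe (f196696 IH) (Lpe (K18.f196695 IH) (Lpe (K15.f28899 IH) (Lpr_gt (K15.f28867 IH) (Lpr_dt (K18.f28906 IH) (Lpr_gt (f339668 IH) (Lpr_dt (f337110 IH) (Lpr_cf (f337108 IH) (Lpe (f262182 IH) (Lpn (LP (LK LD1_c25 LD2_c48 LD3_c50))))))))))))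
theorem f227186 : Led Lsl_df (LP (LK LD1_c1 LD2_c59 LD3_c0)) = (LP (LK LD1_c1 LD2_c59 LD3_c20)) :=
  Lgr Lrot153 (Lpr_gt (K10.f53069 IH) (Lpr_dt (K10.f52252 IH) (Lpe (K10.f52294 IH) (Lpe (K11.f52293 IH) (Lpe (K11.f53071 IH) (Lpe (K11.f53072 IH) (Lpr_gf (K12.f226899 IH) (Lpe (K12.f28836 IH) (Lpr_gt (K15.f196671 IH) (Lpn (LP (LK LD1_c1 LD2_c59 LD3_c20))))))))))))
theorem f228248 : Led Lsl_gf (LP (LK LD1_c2 LD2_c45 LD3_c30)) = (LP (LK LD1_c2 LD2_c4 LD3_c36)) :=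
  Lgr Lrot144 (Lpr_dt (K13.f228175 IH) (Lpr_gt (K15.f196671 IH) (Lpe (f227186 IH) (Lpr_cf (K10.f196399 IH) (Lpr_df (K12.f224862 IH) (Lpe (K12.f224871 IH) (Lpe (K15.f200418 IH) (Lpr_gf (K15.f200426 IH) (Lpe (K15.f200428 IH) (Lpn (LP (LK LD1_c2 LD2_c4 LD3_c36))))))))))))
theorem f220975 : Led Lsl_gt (LP (LK LD1_c8 LD2_c28 LD3_c11)) = (LP (LK LD1_c4 LD2_c14 LD3_c42)) :=
  Lre_g IH (LK LD1_c8 LD2_c28 LD3_c11) (LK LD1_c4 LD2_c14 LD3_c42) Lrfl Lrfl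
theorem f262180 : Led Lsl_dt (LP (LK LD1_c15 LD2_c52 LD3_c48)) = (LP (LK LD1_c25 LD2_c48 LD3_c50)) :=
  Lre_d IH (LK LD1_c15 LD2_c52 LD3_c48) (LK LD1_c25 LD2_c48 LD3_c50) Lrfl Lrfl
theorem f339672 : Led Lsl_ef (LP (LK LD1_c8 LD2_c28 LD3_c11)) = (LP (LK LD1_c15 LD2_c52 LD3_c48)) :=
  Lgr Lrot114 (Lpr_gt (f220975 IH) (Lpe (K19.f221026 IH) (Lpe (K19.f238350 IH) (Lpe (f228248 IH) (Lpr_df (K13.f228156 IH) (Lpr_et (K18.f228180 IH) (Lpr_gt (K18.f196695 IH) (Lpr_dt (f196696 IH) (Lpr_gt (f339670 IH) (Lpe (f262180 IH) (Lpn (LP (LK LD1_c15 LD2_c52 LD3_c48)))))))))))))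
theorem f339680 : Led Lsl_et (LP (LK LD1_c8 LD2_c28 LD3_c11)) = (LP (LK LD1_c15 LD2_c52 LD3_c48)) :=
  Lgr Lrot87 (Lpr_ef (f339672 IH) (Lpn (LP (LK LD1_c15 LD2_c52 LD3_c48))))
theorem f339684 : Led Lsl_cf (LP (LK LD1_c8 LD2_c28 LD3_c11)) = (LP (LK LD1_c8 LD2_c3 LD3_c1)) :=
  Lgr Lrot39 (Lpr_et (f339680 IH) (Lpe (f337108 IH) (Lpe (f339662 IH) (Lpn (LP (LK LD1_c8 LD2_c3 LD3_c1))))))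
theorem f282447 : Led Lsl_bt (LP (LK LD1_c6 LD2_c6 LD3_c1)) = (LP (LK LD1_c11 LD2_c55 LD3_c30)) :=
  Lre_b IH (LK LD1_c6 LD2_c6 LD3_c1) (LK LD1_c11 LD2_c55 LD3_c30) Lrfl Lrfl
theorem f339664 : Led Lsl_bt (LP (LK LD1_c8 LD2_c3 LD3_c1)) = (LP (LK LD1_c5 LD2_c32 LD3_c12)) :=
  Lgr Lrot119 (Lpr_ef (f339662 IH) (Lpe (f282447 IH) (Lpe (K17.f282445 IH) (Lpn (LP (LK LD1_c5 LD2_c32 LD3_c12))))))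
theorem f258855 : Led Lsl_ct (LP (LK LD1_c2 LD2_c42 LD3_c18)) = (LP (LK LD1_c5 LD2_c32 LD3_c10)) :=
  Lre_c IH (LK LD1_c2 LD2_c42 LD3_c18) (LK LD1_c5 LD2_c32 LD3_c10) Lrfl Lrfl
theorem f314518 : Led Lsl_bt (LP (LK LD1_c9 LD2_c43 LD3_c53)) = (LP (LK LD1_c4 LD2_c56 LD3_c5)) :=
  Lre_b IH (LK LD1_c9 LD2_c43 LD3_c53) (LK LD1_c4 LD2_c56 LD3_c5) Lrfl Lrfl
theorem f314420 : Led Lsl_bf (LP (LK LD1_c9 LD2_c43 LD3_c45)) = (LP (LK LD1_c8 LD2_c10 LD3_c25)) :=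
  Lgr Lrot24 (Lpr_bt (K19.f314416 IH) (Lpn (LP (LK LD1_c8 LD2_c10 LD3_c25))))
theorem f339703 : Led Lsl_gf (LP (LK LD1_c8 LD2_c28 LD3_c11)) = (LP (LK LD1_c8 LD2_c9 LD3_c4)) :=
  Lgr Lrot126 (Lpr_cf (f339684 IH) (Lpr_bt (f339664 IH) (Lpr_gt (K17.f258802 IH) (Lpr_ct (f258855 IH) (Lpr_gt (f258743 IH) (Lpr_cf (f333808 IH) (Lpr_bt (f314518 IH) (Lpr_gt (K19.f235444 IH) (Lpr_bf (f314420 IH) (Lpr_ct (K19.f200744 IH) (Lpn (LP (LK LD1_c8 LD2_c9 LD3_c4)))))))))))))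
theorem f339679 : Led Lsl_dt (LP (LK LD1_c8 LD2_c28 LD3_c11)) = (LP (LK LD1_c15 LD2_c54 LD3_c9)) :=
  Lre_d IH (LK LD1_c8 LD2_c28 LD3_c11) (LK LD1_c15 LD2_c54 LD3_c9) Lrfl Lrfl
theorem f290924 : Led Lsl_gt (LP (LK LD1_c11 LD2_c4 LD3_c36)) = (LP (LK LD1_c8 LD2_c6 LD3_c56)) :=
  Lgr Lrot9 (Lpe (K18.f216483 IH) (Lpr_gt (K15.f265590 IH) (Lpr_ct (K15.f194413 IH) (Lpr_gt (K14.f253002 IH) (Lpe (K14.f252989 IH) (Lpr_df (K19.f290911 IH) (Lpr_cf (K19.f290903 IH) (Lpr_gf (K19.f274598 IH) (Lpe (K16.f274592 IH) (Lpn (LP (LK LD1_c8 LD2_c6 LD3_c56))))))))))))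
theorem f290931 : Led Lsl_gt (LP (LK LD1_c11 LD2_c4 LD3_c37)) = (LP (LK LD1_c8 LD2_c27 LD3_c24)) :=
  Lgr Lrot94 (Lpr_cf (K19.f290885 IH) (Lpr_gt (f290924 IH) (Lpr_dt (K20.f194696 IH) (Lpr_gt (K10.f192199 IH) (Lpr_dt (K10.f27600 IH) (Lpr_cf (K10.f50913 IH) (Lpe (K10.f50912 IH) (Lpe (K10.f189976 IH) (Lpe (K15.f189981 IH) (Lpn (LP (LK LD1_c8 LD2_c27 LD3_c24))))))))))))
theorem f290887 : Led Lsl_df (LP (LK LD1_c11 LD2_c4 LD3_c37)) = (LP (LK LD1_c6 LD2_c6 LD3_c57)) :=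
  Lgr Lrot38 (Lpr_dt (K19.f290880 IH) (Lpn (LP (LK LD1_c6 LD2_c6 LD3_c57))))
theorem f290947 : Led Lsl_et (LP (LK LD1_c6 LD2_c6 LD3_c61)) = (LP (LK LD1_c2 LD2_c59 LD3_c36)) :=
  Lre_e IH (LK LD1_c6 LD2_c6 LD3_c61) (LK LD1_c2 LD2_c59 LD3_c36) Lrfl Lrfl
theorem f168985 : Led Lsl_dt (LP (LK LD1_c6 LD2_c6 LD3_c61)) = (LP (LK LD1_c11 LD2_c56 LD3_c59)) :=
  Lre_d IH (LK LD1_c6 LD2_c6 LD3_c61) (LK LD1_c11 LD2_c56 LD3_c59) Lrfl Lrfl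
theorem f339687 : Led Lsl_gt (LP (LK LD1_c15 LD2_c54 LD3_c9)) = (LP (LK LD1_c11 LD2_c56 LD3_c59)) :=
  Lgr Lrot112 (Lpe (f339679 IH) (Lpr_et (f339680 IH) (Lpe (f190029 IH) (Lpe (K20.f216512 IH) (Lpr_dt (K17.f189982 IH) (Lpe (f290931 IH) (Lpr_df (f290887 IH) (Lpe (K19.f178453 IH) (Lpe (f290947 IH) (Lpr_dt (f168985 IH) (Lpn (LP (LK LD1_c11 LD2_c56 LD3_c59)))))))))))))
theorem f291216 : Led Lsl_et (LP (LK LD1_c11 LD2_c56 LD3_c49)) = (LP (LK LD1_c6 LD2_c6 LD3_c57)) :=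
  Lre_e IH (LK LD1_c11 LD2_c56 LD3_c49) (LK LD1_c6 LD2_c6 LD3_c57) Lrfl Lrfl
theorem f290878 : Led Lsl_gf (LP (LK LD1_c4 LD2_c50 LD3_c38)) = (LP (LK LD1_c6 LD2_c6 LD3_c57)) :=
  Lgr Lrot148 (Lpr_dt (K15.f265637 IH) (Lpr_gt (K15.f50389 IH) (Lpr_dt (K20.f50388 IH) (Lpr_ct (K15.f50381 IH) (Lpe (K9.f28817 IH) (Lpe (K10.f44919 IH) (Lpe (K15.f187855 IH) (Lpe (K17.f283790 IH) (Lpr_ct (K19.f290870 IH) (Lpn (LP (LK LD1_c6 LD2_c6 LD3_c57))))))))))))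
theorem f53075 : Led Lsl_dt (LP (LK LD1_c4 LD2_c4 LD3_c8)) = (LP (LK LD1_c8 LD2_c8 LD3_c58)) :=
  Lre_d IH (LK LD1_c4 LD2_c4 LD3_c8) (LK LD1_c8 LD2_c8 LD3_c58) Lrfl Lrfl
theorem f265676 : Led Lsl_gt (LP (LK LD1_c8 LD2_c8 LD3_c58)) = (LP (LK LD1_c15 LD2_c20 LD3_c38)) :=
  Lre_g IH (LK LD1_c8 LD2_c8 LD3_c58) (LK LD1_c15 LD2_c20 LD3_c38) Lrfl Lrfl
theorem f291235 : Led Lsl_df (LP (LK LD1_c15 LD2_c20 LD3_c38)) = (LP (LK LD1_c11 LD2_c56 LD3_c49)) :=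
  Lgr Lrot168 (Lpe (f265676 IH) (Lpe (f53075 IH) (Lpr_et (K20.f53074 IH) (Lpe (K10.f52295 IH) (Lpe (K18.f243923 IH) (Lpr_dt (K10.f51027 IH) (Lpe (K15.f50389 IH) (Lpe (K15.f265637 IH) (Lpr_gf (f290878 IH) (Lpe (f291216 IH) (Lpn (LP (LK LD1_c11 LD2_c56 LD3_c49)))))))))))))
theorem f314137 : Led Lsl_dt (LP (LK LD1_c8 LD2_c28 LD3_c2)) = (LP (LK LD1_c15 LD2_c54 LD3_c0)) :=
  Lre_d IH (LK LD1_c8 LD2_c28 LD3_c2) (LK LD1_c15 LD2_c54 LD3_c0) Lrfl Lrfl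
theorem f339705 : Led Lsl_gt (LP (LK LD1_c15 LD2_c20 LD3_c38)) = (LP (LK LD1_c15 LD2_c54 LD3_c0)) :=
  Lgr Lrot112 (Lpr_df (f291235 IH) (Lpr_et (f291216 IH) (Lpe (K19.f178453 IH) (Lpe (f290947 IH) (Lpr_dt (f168985 IH) (Lpe (f339687 IH) (Lpe (f339679 IH) (Lpr_gf (f339703 IH) (Lpe (K20.f314426 IH) (Lpr_dt (f314137 IH) (Lpn (LP (LK LD1_c15 LD2_c54 LD3_c0)))))))))))))
theorem f339707 : Led Lsl_ft (LP (LK LD1_c8 LD2_c8 LD3_c58)) = (LP (LK LD1_c15 LD2_c20 LD3_c41)) :=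
  Lre_f IH (LK LD1_c8 LD2_c8 LD3_c58) (LK LD1_c15 LD2_c20 LD3_c41) Lrfl Lrfl
theorem f339708 : Led Lsl_at (LP (LK LD1_c15 LD2_c20 LD3_c41)) = (LP (LK LD1_c15 LD2_c54 LD3_c0)) :=
  Lgr Lrot26 (Lpe (f339707 IH) (Lpr_gt (f265676 IH) (Lpr_gt (f339705 IH) (Lpn (LP (LK LD1_c15 LD2_c54 LD3_c0))))))
theorem f339710 : Led Lsl_ft (LP (LK LD1_c15 LD2_c54 LD3_c0)) = (LP (LK LD1_c8 LD2_c28 LD3_c1)) :=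
  Lre_f IH (LK LD1_c15 LD2_c54 LD3_c0) (LK LD1_c8 LD2_c28 LD3_c1) Lrfl Lrfl
theorem f339711 : Led Lsl_af (LP (LK LD1_c8 LD2_c8 LD3_c58)) = (LP (LK LD1_c8 LD2_c28 LD3_c1)) :=
  Lgr Lrot45 (Lpr_ft (f339707 IH) (Lpr_at (f339708 IH) (Lpr_ft (f339710 IH) (Lpn (LP (LK LD1_c8 LD2_c28 LD3_c1))))))
theorem f265695 : Led Lsl_dt (LP (LK LD1_c8 LD2_c8 LD3_c58)) = (LP (LK LD1_c4 LD2_c4 LD3_c8)) :=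
  Lre_d IH (LK LD1_c8 LD2_c8 LD3_c58) (LK LD1_c4 LD2_c4 LD3_c8) Lrfl Lrfl
theorem f339721 : Led Lsl_at (LP (LK LD1_c4 LD2_c4 LD3_c8)) = (LP (LK LD1_c4 LD2_c14 LD3_c37)) :=
  Lgr Lrot51 (Lpe (f265695 IH) (Lpr_af (f339711 IH) (Lpe (K21.f216395 IH) (Lpn (LP (LK LD1_c4 LD2_c14 LD3_c37))))))
theorem f339731 : Led Lsl_gt (LP (LK LD1_c8 LD2_c8 LD3_c59)) = (LP (LK LD1_c8 LD2_c28 LD3_c0)) :=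
  Lgr Lrot5 (Lpr_ft (K20.f319707 IH) (Lpr_at (f339721 IH) (Lpe (K21.f233815 IH) (Lpn (LP (LK LD1_c8 LD2_c28 LD3_c0))))))
theorem f338018 : Led Lsl_bt (LP (LK LD1_c1 LD2_c16 LD3_c15)) = (LP (LK LD1_c2 LD2_c38 LD3_c35)) :=
  Lre_b IH (LK LD1_c1 LD2_c16 LD3_c15) (LK LD1_c2 LD2_c38 LD3_c35) Lrfl Lrfl
theorem f339733 : Led Lsl_bf (LP (LK LD1_c5 LD2_c24 LD3_c4)) = (LP (LK LD1_c8 LD2_c2 LD3_c57)) :=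
  Lgr Lrot156 (Lpr_gt (K18.f251016 IH) (Lpe (f338018 IH) (Lpr_ct (f288625 IH) (Lpr_gt (f284184 IH) (Lpr_cf (f338008 IH) (Lpr_bt (f293417 IH) (Lpe (f338006 IH) (Lpe (K20.f319697 IH) (Lpr_gt (f339731 IH) (Lpe (K21.f314283 IH) (Lpn (LP (LK LD1_c8 LD2_c2 LD3_c57)))))))))))))
theorem f330488 : Led Lsl_bt (LP (LK LD1_c15 LD2_c12 LD3_c48)) = (LP (LK LD1_c10 LD2_c38 LD3_c42)) :=
  Lgr Lrot95 (Lpe (K19.f184745 IH) (Lpr_bf (K21.f330484 IH) (Lpr_df (K20.f306498 IH) (Lpn (LP (LK LD1_c10 LD2_c38 LD3_c42))))))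
theorem f213449 : Led Lsl_et (LP (LK LD1_c5 LD2_c0 LD3_c42)) = (LP (LK LD1_c9 LD2_c51 LD3_c45)) :=
  Lre_e IH (LK LD1_c5 LD2_c0 LD3_c42) (LK LD1_c9 LD2_c51 LD3_c45) Lrfl Lrfl
theorem f213451 : Led Lsl_ct (LP (LK LD1_c9 LD2_c51 LD3_c45)) = (LP (LK LD1_c8 LD2_c39 LD3_c30)) :=
  Lgr Lrot15 (Lpe (f213449 IH) (Lpr_cf (K12.f213442 IH) (Lpe (K19.f213450 IH) (Lpn (LP (LK LD1_c8 LD2_c39 LD3_c30))))))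
theorem f213456 : Led Lsl_ft (LP (LK LD1_c18 LD2_c3 LD3_c6)) = (LP (LK LD1_c9 LD2_c51 LD3_c45)) :=
  Lre_f IH (LK LD1_c18 LD2_c3 LD3_c6) (LK LD1_c9 LD2_c51 LD3_c45) Lrfl Lrfl
theorem f312263 : Led Lsl_ct (LP (LK LD1_c15 LD2_c12 LD3_c48)) = (LP (LK LD1_c18 LD2_c3 LD3_c6)) :=
  Lgr Lrot40 (Lpr_ff (K21.f312261 IH) (Lpe (f213451 IH) (Lpe (f213456 IH) (Lpn (LP (LK LD1_c18 LD2_c3 LD3_c6))))))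
theorem f228345 : Led Lsl_ct (LP (LK LD1_c2 LD2_c4 LD3_c42)) = (LP (LK LD1_c4 LD2_c14 LD3_c37)) :=
  Lre_c IH (LK LD1_c2 LD2_c4 LD3_c42) (LK LD1_c4 LD2_c14 LD3_c37) Lrfl Lrfl
theorem f235393 : Led Lsl_gt (LP (LK LD1_c4 LD2_c14 LD3_c35)) = (LP (LK LD1_c8 LD2_c27 LD3_c54)) :=
  Lre_g IH (LK LD1_c4 LD2_c14 LD3_c35) (LK LD1_c8 LD2_c27 LD3_c54) Lrfl Lrfl
theorem f235394 : Led Lsl_ct (LP (LK LD1_c8 LD2_c27 LD3_c54)) = (LP (LK LD1_c15 LD2_c53 LD3_c39)) :=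
  Lre_c IH (LK LD1_c8 LD2_c27 LD3_c54) (LK LD1_c15 LD2_c53 LD3_c39) Lrfl Lrfl
theorem f339741 : Led Lsl_gf (LP (LK LD1_c18 LD2_c3 LD3_c6)) = (LP (LK LD1_c15 LD2_c53 LD3_c39)) :=
  Lgr Lrot129 (Lpe (f312263 IH) (Lpr_bt (f330488 IH) (Lpr_gt (K19.f224812 IH) (Lpr_bf (f339733 IH) (Lpr_ct (K21.f314283 IH) (Lpr_gt (K21.f233815 IH) (Lpe (f228345 IH) (Lpr_bt (K19.f235372 IH) (Lpr_gt (f235393 IH) (Lpr_ct (f235394 IH) (Lpn (LP (LK LD1_c15 LD2_c53 LD3_c39)))))))))))))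
theorem f331498 : Led Lsl_af (LP (LK LD1_c5 LD2_c24 LD3_c5)) = (LP (LK LD1_c10 LD2_c24 LD3_c54)) :=
  Lgr Lrot45 (Lpe (f330452 IH) (Lpr_at (K21.f330480 IH) (Lpr_ft (f331494 IH) (Lpn (LP (LK LD1_c10 LD2_c24 LD3_c54))))))
theorem f196827 : Led Lsl_gt (LP (LK LD1_c10 LD2_c38 LD3_c57)) = (LP (LK LD1_c5 LD2_c24 LD3_c5)) :=
  Lre_g IH (LK LD1_c10 LD2_c38 LD3_c57) (LK LD1_c5 LD2_c24 LD3_c5) Lrfl Lrfl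
theorem f331504 : Led Lsl_gt (LP (LK LD1_c10 LD2_c20 LD3_c21)) = (LP (LK LD1_c10 LD2_c38 LD3_c57)) :=
  Lgr Lrot5 (Lpr_ft (f331494 IH) (Lpe (f331498 IH) (Lpe (f196827 IH) (Lpn (LP (LK LD1_c10 LD2_c38 LD3_c57))))))
theorem f330486 : Led Lsl_bt (LP (LK LD1_c8 LD2_c4 LD3_c46)) = (LP (LK LD1_c10 LD2_c20 LD3_c21)) :=
  Lgr Lrot127 (Lpr_bf (K21.f330484 IH) (Lpn (LP (LK LD1_c10 LD2_c20 LD3_c21))))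
theorem f239812 : Led Lsl_bt (LP (LK LD1_c2 LD2_c31 LD3_c36)) = (LP (LK LD1_c5 LD2_c8 LD3_c46)) :=
  Lre_b IH (LK LD1_c2 LD2_c31 LD3_c36) (LK LD1_c5 LD2_c8 LD3_c46) Lrfl Lrfl
theorem f251389 : Led Lsl_gt (LP (LK LD1_c17 LD2_c51 LD3_c4)) = (LP (LK LD1_c9 LD2_c42 LD3_c23)) :=
  Lre_g IH (LK LD1_c17 LD2_c51 LD3_c4) (LK LD1_c9 LD2_c42 LD3_c23) Lrfl Lrfl
theorem f331508 : Led Lsl_cf (LP (LK LD1_c17 LD2_c51 LD3_c4)) = (LP (LK LD1_c10 LD2_c38 LD3_c57)) :=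
  Lgr Lrot125 (Lpr_gt (f251389 IH) (Lpe (f251349 IH) (Lpr_bt (K14.f251346 IH) (Lpe (K14.f251596 IH) (Lpe (f239812 IH) (Lpr_ct (f235392 IH) (Lpr_gt (K21.f197185 IH) (Lpe (K21.f326753 IH) (Lpr_bt (f330486 IH) (Lpr_gt (f331504 IH) (Lpn (LP (LK LD1_c10 LD2_c38 LD3_c57)))))))))))))
theorem f251333 : Led Lsl_dt (LP (LK LD1_c4 LD2_c55 LD3_c23)) = (LP (LK LD1_c2 LD2_c25 LD3_c34)) :=
  Lre_d IH (LK LD1_c4 LD2_c55 LD3_c23) (LK LD1_c2 LD2_c25 LD3_c34) Lrfl Lrfl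
theorem f168588 : Led Lsl_ct (LP (LK LD1_c4 LD2_c55 LD3_c20)) = (LP (LK LD1_c2 LD2_c25 LD3_c34)) :=
  Lre_c IH (LK LD1_c4 LD2_c55 LD3_c20) (LK LD1_c2 LD2_c25 LD3_c34) Lrfl Lrfl
theorem f291859 : Led Lsl_gt (LP (LK LD1_c9 LD2_c42 LD3_c16)) = (LP (LK LD1_c4 LD2_c55 LD3_c20)) :=
  Lre_g IH (LK LD1_c9 LD2_c42 LD3_c16) (LK LD1_c4 LD2_c55 LD3_c20) Lrfl Lrfl
theorem f331514 : Led Lsl_cf (LP (LK LD1_c9 LD2_c42 LD3_c16)) = (LP (LK LD1_c5 LD2_c24 LD3_c4)) :=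
  Lgr Lrot169 (Lpr_gt (f291859 IH) (Lpr_ct (f168588 IH) (Lpe (f251333 IH) (Lpe (f251340 IH) (Lpe (f251389 IH) (Lpr_cf (f331508 IH) (Lpe (f331504 IH) (Lpr_df (K20.f306498 IH) (Lpr_gt (K19.f224812 IH) (Lpn (LP (LK LD1_c5 LD2_c24 LD3_c4))))))))))))
theorem f168564 : Led Lsl_ct (LP (LK LD1_c2 LD2_c25 LD3_c34)) = (LP (LK LD1_c4 LD2_c55 LD3_c20)) :=
  Lre_c IH (LK LD1_c2 LD2_c25 LD3_c34) (LK LD1_c4 LD2_c55 LD3_c20) Lrfl Lrfl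
theorem f168587 : Led Lsl_bt (LP (LK LD1_c2 LD2_c25 LD3_c34)) = (LP (LK LD1_c4 LD2_c55 LD3_c16)) :=
  Lre_b IH (LK LD1_c2 LD2_c25 LD3_c34) (LK LD1_c4 LD2_c55 LD3_c16) Lrfl Lrfl
theorem f168572 : Led Lsl_gt (LP (LK LD1_c4 LD2_c55 LD3_c16)) = (LP (LK LD1_c9 LD2_c42 LD3_c2)) :=
  Lre_g IH (LK LD1_c4 LD2_c55 LD3_c16) (LK LD1_c9 LD2_c42 LD3_c2) Lrfl Lrfl
theorem f339744 : Led Lsl_bf (LP (LK LD1_c9 LD2_c42 LD3_c2)) = (LP (LK LD1_c8 LD2_c27 LD3_c54)) :=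
  Lgr Lrot34 (Lpe (f168572 IH) (Lpe (f168587 IH) (Lpr_ct (f168564 IH) (Lpe (f291859 IH) (Lpr_cf (f331514 IH) (Lpe (K19.f224812 IH) (Lpe (f330488 IH) (Lpr_ct (f312263 IH) (Lpr_gf (f339741 IH) (Lpe (f235394 IH) (Lpn (LP (LK LD1_c8 LD2_c27 LD3_c54)))))))))))))
theorem f339746 : Led Lsl_bt (LP (LK LD1_c9 LD2_c42 LD3_c2)) = (LP (LK LD1_c8 LD2_c27 LD3_c54)) :=
  Lgr Lrot127 (Lpr_bf (f339744 IH) (Lpn (LP (LK LD1_c8 LD2_c27 LD3_c54))))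
theorem f283449 : Led Lsl_dt (LP (LK LD1_c11 LD2_c53 LD3_c21)) = (LP (LK LD1_c20 LD2_c56 LD3_c59)) :=
  Lre_d IH (LK LD1_c11 LD2_c53 LD3_c21) (LK LD1_c20 LD2_c56 LD3_c59) Lrfl Lrfl
theorem f283453 : Led Lsl_ef (LP (LK LD1_c10 LD2_c37 LD3_c8)) = (LP (LK LD1_c11 LD2_c53 LD3_c21)) :=
  Lgr Lrot88 (Lpr_et (K17.f283442 IH) (Lpn (LP (LK LD1_c11 LD2_c53 LD3_c21))))
theorem f42294 : Led Lsl_gt (LP (LK LD1_c11 LD2_c53 LD3_c36)) = (LP (LK LD1_c6 LD2_c5 LD3_c5)) :=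
  Lre_g IH (LK LD1_c11 LD2_c53 LD3_c36) (LK LD1_c6 LD2_c5 LD3_c5) Lrfl Lrfl
theorem f311109 : Led Lsl_gt (LP (LK LD1_c10 LD2_c37 LD3_c8)) = (LP (LK LD1_c11 LD2_c53 LD3_c36)) :=
  Lgr Lrot5 (Lpr_ft (K19.f283462 IH) (Lpr_at (K19.f311093 IH) (Lpe (f42294 IH) (Lpn (LP (LK LD1_c11 LD2_c53 LD3_c36))))))
theorem f325781 : Led Lsl_ef (LP (LK LD1_c11 LD2_c53 LD3_c36)) = (LP (LK LD1_c8 LD2_c54 LD3_c25)) :=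
  Lgr Lrot17 (Lpe (f311109 IH) (Lpr_ef (f283453 IH) (Lpr_dt (f283449 IH) (Lpe (f325772 IH) (Lpe (f254842 IH) (Lpr_gf (K21.f325770 IH) (Lpr_ef (K21.f325622 IH) (Lpe (K21.f325765 IH) (Lpe (K21.f278764 IH) (Lpe (K21.f278763 IH) (Lpn (LP (LK LD1_c8 LD2_c54 LD3_c25)))))))))))))
theorem f325791 : Led Lsl_et (LP (LK LD1_c11 LD2_c53 LD3_c36)) = (LP (LK LD1_c8 LD2_c54 LD3_c25)) :=
  Lgr Lrot87 (Lpr_ef (f325781 IH) (Lpn (LP (LK LD1_c8 LD2_c54 LD3_c25))))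
theorem f311111 : Led Lsl_dt (LP (LK LD1_c11 LD2_c53 LD3_c36)) = (LP (LK LD1_c20 LD2_c57 LD3_c18)) :=
  Lre_d IH (LK LD1_c11 LD2_c53 LD3_c36) (LK LD1_c20 LD2_c57 LD3_c18) Lrfl Lrfl
theorem f199515 : Led Lsl_et (LP (LK LD1_c8 LD2_c7 LD3_c18)) = (LP (LK LD1_c4 LD2_c3 LD3_c20)) :=
  Lre_e IH (LK LD1_c8 LD2_c7 LD3_c18) (LK LD1_c4 LD2_c3 LD3_c20) Lrfl Lrfl
theorem f325801 : Led Lsl_gt (LP (LK LD1_c20 LD2_c57 LD3_c18)) = (LP (LK LD1_c15 LD2_c17 LD3_c43)) :=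
  Lgr Lrot112 (Lpe (f311111 IH) (Lpr_et (f325791 IH) (Lpe (K21.f278762 IH) (Lpe (K21.f276509 IH) (Lpr_dt (K16.f223376 IH) (Lpe (K17.f223201 IH) (Lpr_df (K17.f278735 IH) (Lpe (K14.f199496 IH) (Lpe (f199515 IH) (Lpr_dt (K17.f199024 IH) (Lpn (LP (LK LD1_c15 LD2_c17 LD3_c43)))))))))))))
theorem f325803 : Led Lsl_gf (LP (LK LD1_c20 LD2_c57 LD3_c18)) = (LP (LK LD1_c16 LD2_c38 LD3_c20)) :=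
  Lgr Lrot47 (Lpr_gt (f325801 IH) (Lpe (K17.f284383 IH) (Lpe (K17.f284393 IH) (Lpn (LP (LK LD1_c16 LD2_c38 LD3_c20))))))
theorem f182302 : Led Lsl_dt (LP (LK LD1_c16 LD2_c36 LD3_c19)) = (LP (LK LD1_c26 LD2_c33 LD3_c15)) :=
  Lre_d IH (LK LD1_c16 LD2_c36 LD3_c19) (LK LD1_c26 LD2_c33 LD3_c15) Lrfl Lrfl
theorem f293865 : Led Lsl_gt (LP (LK LD1_c25 LD2_c10 LD3_c21)) = (LP (LK LD1_c16 LD2_c39 LD3_c52)) :=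
  Lgr Lrot5 (Lpr_ft (f293861 IH) (Lpr_at (f293846 IH) (Lpe (K20.f292810 IH) (Lpn (LP (LK LD1_c16 LD2_c39 LD3_c52))))))
theorem f44694 : Led Lsl_gt (LP (LK LD1_c8 LD2_c52 LD3_c60)) = (LP (LK LD1_c16 LD2_c36 LD3_c27)) :=
  Lre_g IH (LK LD1_c8 LD2_c52 LD3_c60) (LK LD1_c16 LD2_c36 LD3_c27) Lrfl Lrfl
theorem f265449 : Led Lsl_gf (LP (LK LD1_c8 LD2_c54 LD3_c44)) = (LP (LK LD1_c16 LD2_c36 LD3_c27)) :=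
  Lgr Lrot76 (Lpr_af (K16.f265435 IH) (Lpe (K16.f265446 IH) (Lpr_gt (f44694 IH) (Lpn (LP (LK LD1_c16 LD2_c36 LD3_c27))))))
theorem f307724 : Led Lsl_ct (LP (LK LD1_c8 LD2_c34 LD3_c34)) = (LP (LK LD1_c16 LD2_c5 LD3_c43)) :=
  Lre_c IH (LK LD1_c8 LD2_c34 LD3_c34) (LK LD1_c16 LD2_c5 LD3_c43) Lrfl Lrfl
theorem f307720 : Led Lsl_gt (LP (LK LD1_c16 LD2_c5 LD3_c43)) = (LP (LK LD1_c26 LD2_c2 LD3_c47)) :=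
  Lre_g IH (LK LD1_c16 LD2_c5 LD3_c43) (LK LD1_c26 LD2_c2 LD3_c47) Lrfl Lrfl
theorem f247348 : Led Lsl_ct (LP (LK LD1_c4 LD2_c28 LD3_c0)) = (LP (LK LD1_c2 LD2_c11 LD3_c11)) :=
  Lre_c IH (LK LD1_c4 LD2_c28 LD3_c0) (LK LD1_c2 LD2_c11 LD3_c11) Lrfl Lrfl
theorem f247358 : Led Lsl_dt (LP (LK LD1_c8 LD2_c54 LD3_c3)) = (LP (LK LD1_c4 LD2_c28 LD3_c0)) :=
  Lre_d IH (LK LD1_c8 LD2_c54 LD3_c3) (LK LD1_c4 LD2_c28 LD3_c0) Lrfl Lrfl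
theorem f247359 : Led Lsl_gt (LP (LK LD1_c16 LD2_c39 LD3_c4)) = (LP (LK LD1_c8 LD2_c54 LD3_c3)) :=
  Lre_g IH (LK LD1_c16 LD2_c39 LD3_c4) (LK LD1_c8 LD2_c54 LD3_c3) Lrfl Lrfl
theorem f307757 : Led Lsl_dt (LP (LK LD1_c26 LD2_c2 LD3_c47)) = (LP (LK LD1_c16 LD2_c39 LD3_c4)) :=
  Lgr Lrot57 (Lpe (f307720 IH) (Lpe (f307724 IH) (Lpr_gt (K19.f307755 IH) (Lpr_dt (K19.f247402 IH) (Lpr_gt (K19.f238718 IH) (Lpr_dt (K17.f247352 IH) (Lpe (f247348 IH) (Lpe (f247358 IH) (Lpe (f247359 IH) (Lpn (LP (LK LD1_c16 LD2_c39 LD3_c4))))))))))))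
theorem f307909 : Led Lsl_et (LP (LK LD1_c26 LD2_c2 LD3_c47)) = (LP (LK LD1_c16 LD2_c36 LD3_c27)) :=
  Lgr Lrot122 (Lpr_dt (f307757 IH) (Lpr_gt (f247359 IH) (Lpe (K20.f267028 IH) (Lpr_et (K20.f292359 IH) (Lpr_gt (K16.f278937 IH) (Lpr_dt (K16.f278899 IH) (Lpr_gt (K17.f292355 IH) (Lpe (K16.f44638 IH) (Lpr_et (K16.f276477 IH) (Lpr_gt (f44694 IH) (Lpn (LP (LK LD1_c16 LD2_c36 LD3_c27)))))))))))))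
theorem f321436 : Led Lsl_gt (LP (LK LD1_c26 LD2_c33 LD3_c15)) = (LP (LK LD1_c16 LD2_c39 LD3_c4)) :=
  Lgr Lrot139 (Lpe (f182302 IH) (Lpr_gf (K20.f321429 IH) (Lpe (K20.f292811 IH) (Lpe (K20.f292812 IH) (Lpe (f293865 IH) (Lpe (f292188 IH) (Lpr_et (K17.f292189 IH) (Lpr_gf (f265449 IH) (Lpe (f307909 IH) (Lpr_dt (f307757 IH) (Lpn (LP (LK LD1_c16 LD2_c39 LD3_c4)))))))))))))
theorem f284190 : Led Lsl_ef (LP (LK LD1_c8 LD2_c53 LD3_c47)) = (LP (LK LD1_c16 LD2_c36 LD3_c19)) :=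
  Lgr Lrot28 (Lpr_ct (K17.f284189 IH) (Lpr_et (K17.f284170 IH) (Lpr_ct (K20.f182301 IH) (Lpn (LP (LK LD1_c16 LD2_c36 LD3_c19))))))
theorem f265434 : Led Lsl_dt (LP (LK LD1_c8 LD2_c54 LD3_c44)) = (LP (LK LD1_c16 LD2_c40 LD3_c25)) :=
  Lre_d IH (LK LD1_c8 LD2_c54 LD3_c44) (LK LD1_c16 LD2_c40 LD3_c25) Lrfl Lrfl
theorem f265475 : Led Lsl_et (LP (LK LD1_c8 LD2_c54 LD3_c40)) = (LP (LK LD1_c4 LD2_c28 LD3_c16)) :=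
  Lre_e IH (LK LD1_c8 LD2_c54 LD3_c40) (LK LD1_c4 LD2_c28 LD3_c16) Lrfl Lrfl
theorem f213504 : Led Lsl_et (LP (LK LD1_c8 LD2_c52 LD3_c59)) = (LP (LK LD1_c16 LD2_c36 LD3_c26)) :=
  Lre_e IH (LK LD1_c8 LD2_c52 LD3_c59) (LK LD1_c16 LD2_c36 LD3_c26) Lrfl Lrfl
theorem f265476 : Led Lsl_af (LP (LK LD1_c8 LD2_c54 LD3_c40)) = (LP (LK LD1_c16 LD2_c36 LD3_c26)) :=
  Lgr Lrot50 (Lpr_et (f265475 IH) (Lpr_at (K17.f265468 IH) (Lpr_et (f213504 IH) (Lpn (LP (LK LD1_c16 LD2_c36 LD3_c26))))))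
theorem f265481 : Led Lsl_dt (LP (LK LD1_c8 LD2_c54 LD3_c40)) = (LP (LK LD1_c16 LD2_c40 LD3_c16)) :=
  Lre_d IH (LK LD1_c8 LD2_c54 LD3_c40) (LK LD1_c16 LD2_c40 LD3_c16) Lrfl Lrfl
theorem f44701 : Led Lsl_dt (LP (LK LD1_c26 LD2_c33 LD3_c24)) = (LP (LK LD1_c16 LD2_c36 LD3_c26)) :=
  Lre_d IH (LK LD1_c26 LD2_c33 LD3_c24) (LK LD1_c16 LD2_c36 LD3_c26) Lrfl Lrfl
theorem f265482 : Led Lsl_at (LP (LK LD1_c16 LD2_c40 LD3_c16)) = (LP (LK LD1_c26 LD2_c33 LD3_c24)) :=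
  Lgr Lrot51 (Lpe (f265481 IH) (Lpr_af (f265476 IH) (Lpe (f44701 IH) (Lpn (LP (LK LD1_c26 LD2_c33 LD3_c24))))))
theorem f265486 : Led Lsl_af (LP (LK LD1_c16 LD2_c40 LD3_c16)) = (LP (LK LD1_c26 LD2_c33 LD3_c24)) :=
  Lgr Lrot0 (Lpr_at (f265482 IH) (Lpn (LP (LK LD1_c26 LD2_c33 LD3_c24))))
theorem f265497 : Led Lsl_et (LP (LK LD1_c16 LD2_c40 LD3_c16)) = (LP (LK LD1_c8 LD2_c54 LD3_c43)) :=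
  Lre_e IH (LK LD1_c16 LD2_c40 LD3_c16) (LK LD1_c8 LD2_c54 LD3_c43) Lrfl Lrfl
theorem f265498 : Led Lsl_et (LP (LK LD1_c16 LD2_c36 LD3_c29)) = (LP (LK LD1_c26 LD2_c33 LD3_c24)) :=
  Lre_e IH (LK LD1_c16 LD2_c36 LD3_c29) (LK LD1_c26 LD2_c33 LD3_c24) Lrfl Lrfl
theorem f265499 : Led Lsl_at (LP (LK LD1_c8 LD2_c54 LD3_c43)) = (LP (LK LD1_c16 LD2_c36 LD3_c29)) :=
  Lgr Lrot80 (Lpe (f265497 IH) (Lpr_af (f265486 IH) (Lpe (f265498 IH) (Lpn (LP (LK LD1_c16 LD2_c36 LD3_c29))))))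
theorem f265507 : Led Lsl_ft (LP (LK LD1_c16 LD2_c40 LD3_c25)) = (LP (LK LD1_c8 LD2_c54 LD3_c43)) :=
  Lre_f IH (LK LD1_c16 LD2_c40 LD3_c25) (LK LD1_c8 LD2_c54 LD3_c43) Lrfl Lrfl
theorem f44679 : Led Lsl_gt (LP (LK LD1_c5 LD2_c21 LD3_c37)) = (LP (LK LD1_c2 LD2_c37 LD3_c24)) :=
  Lre_g IH (LK LD1_c5 LD2_c21 LD3_c37) (LK LD1_c2 LD2_c37 LD3_c24) Lrfl Lrfl
theorem f41479 : Led Lsl_gt (LP (LK LD1_c2 LD2_c38 LD3_c57)) = (LP (LK LD1_c5 LD2_c24 LD3_c47)) :=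
  Lre_g IH (LK LD1_c2 LD2_c38 LD3_c57) (LK LD1_c5 LD2_c24 LD3_c47) Lrfl Lrfl
theorem f44680 : Led Lsl_df (LP (LK LD1_c5 LD2_c21 LD3_c37)) = (LP (LK LD1_c5 LD2_c24 LD3_c47)) :=
  Lgr Lrot135 (Lpr_gt (f44679 IH) (Lpr_df (K15.f44643 IH) (Lpr_et (K15.f41599 IH) (Lpr_gt (K11.f41755 IH) (Lpr_ef (K1.f41710 IH) (Lpr_dt (K1.f41751 IH) (Lpr_gt (K1.f41756 IH) (Lpe (K16.f41757 IH) (Lpe (K21.f42553 IH) (Lpr_gt (f41479 IH) (Lpn (LP (LK LD1_c5 LD2_c24 LD3_c47)))))))))))))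
theorem f44656 : Led Lsl_dt (LP (LK LD1_c2 LD2_c37 LD3_c24)) = (LP (LK LD1_c4 LD2_c27 LD3_c35)) :=
  Lgr Lrot42 (Lpr_df (K15.f44643 IH) (Lpn (LP (LK LD1_c4 LD2_c27 LD3_c35))))
theorem f44689 : Led Lsl_ct (LP (LK LD1_c4 LD2_c27 LD3_c35)) = (LP (LK LD1_c8 LD2_c52 LD3_c60)) :=
  Lre_c IH (LK LD1_c4 LD2_c27 LD3_c35) (LK LD1_c8 LD2_c52 LD3_c60) Lrfl Lrfl
theorem f44655 : Led Lsl_dt (LP (LK LD1_c16 LD2_c36 LD3_c29)) = (LP (LK LD1_c8 LD2_c52 LD3_c60)) :=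
  Lre_d IH (LK LD1_c16 LD2_c36 LD3_c29) (LK LD1_c8 LD2_c52 LD3_c60) Lrfl Lrfl
theorem f42564 : Led Lsl_ct (LP (LK LD1_c5 LD2_c24 LD3_c49)) = (LP (LK LD1_c2 LD2_c38 LD3_c57)) :=
  Lre_c IH (LK LD1_c5 LD2_c24 LD3_c49) (LK LD1_c2 LD2_c38 LD3_c57) Lrfl Lrfl
theorem f42582 : Led Lsl_gt (LP (LK LD1_c5 LD2_c24 LD3_c49)) = (LP (LK LD1_c10 LD2_c40 LD3_c14)) :=
  Lre_g IH (LK LD1_c5 LD2_c24 LD3_c49) (LK LD1_c10 LD2_c40 LD3_c14) Lrfl Lrfl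
theorem f42583 : Led Lsl_dt (LP (LK LD1_c10 LD2_c40 LD3_c14)) = (LP (LK LD1_c19 LD2_c19 LD3_c18)) :=
  Lre_d IH (LK LD1_c10 LD2_c40 LD3_c14) (LK LD1_c19 LD2_c19 LD3_c18) Lrfl Lrfl
theorem f44690 : Led Lsl_gf (LP (LK LD1_c16 LD2_c36 LD3_c29)) = (LP (LK LD1_c19 LD2_c19 LD3_c18)) :=
  Lgr Lrot143 (Lpr_dt (f44655 IH) (Lpe (f44689 IH) (Lpe (f44656 IH) (Lpe (f44679 IH) (Lpr_df (f44680 IH) (Lpe (f41479 IH) (Lpe (f42564 IH) (Lpr_gt (f42582 IH) (Lpr_dt (f42583 IH) (Lpn (LP (LK LD1_c19 LD2_c19 LD3_c18))))))))))))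
theorem f265508 : Led Lsl_gt (LP (LK LD1_c16 LD2_c40 LD3_c25)) = (LP (LK LD1_c19 LD2_c19 LD3_c18)) :=
  Lgr Lrot5 (Lpr_ft (f265507 IH) (Lpr_at (f265499 IH) (Lpr_gf (f44690 IH) (Lpn (LP (LK LD1_c19 LD2_c19 LD3_c18))))))
theorem f213501 : Led Lsl_et (LP (LK LD1_c4 LD2_c3 LD3_c20)) = (LP (LK LD1_c8 LD2_c7 LD3_c18)) :=
  Lre_e IH (LK LD1_c4 LD2_c3 LD3_c20) (LK LD1_c8 LD2_c7 LD3_c18) Lrfl Lrfl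
theorem f199049 : Led Lsl_gt (LP (LK LD1_c8 LD2_c7 LD3_c18)) = (LP (LK LD1_c15 LD2_c17 LD3_c42)) :=
  Lre_g IH (LK LD1_c8 LD2_c7 LD3_c18) (LK LD1_c15 LD2_c17 LD3_c42) Lrfl Lrfl
theorem f44698 : Led Lsl_dt (LP (LK LD1_c8 LD2_c52 LD3_c60)) = (LP (LK LD1_c16 LD2_c36 LD3_c29)) :=
  Lre_d IH (LK LD1_c8 LD2_c52 LD3_c60) (LK LD1_c16 LD2_c36 LD3_c29) Lrfl Lrfl
theorem f213502 : Led Lsl_ef (LP (LK LD1_c15 LD2_c17 LD3_c42)) = (LP (LK LD1_c10 LD2_c40 LD3_c14)) :=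
  Lgr Lrot17 (Lpe (f199049 IH) (Lpe (f213501 IH) (Lpr_dt (K15.f199497 IH) (Lpe (K15.f213498 IH) (Lpe (K15.f54099 IH) (Lpr_gf (K15.f213484 IH) (Lpe (K16.f44699 IH) (Lpr_dt (f44698 IH) (Lpr_gf (f44690 IH) (Lpe (f42583 IH) (Lpn (LP (LK LD1_c10 LD2_c40 LD3_c14)))))))))))))
theorem f321440 : Led Lsl_gf (LP (LK LD1_c8 LD2_c53 LD3_c47)) = (LP (LK LD1_c15 LD2_c17 LD3_c42)) :=
  Lgr Lrot141 (Lpr_ef (f284190 IH) (Lpr_dt (f182302 IH) (Lpr_gt (f321436 IH) (Lpe (f307757 IH) (Lpr_et (f307909 IH) (Lpe (f265449 IH) (Lpr_dt (f265434 IH) (Lpr_gt (f265508 IH) (Lpe (f42583 IH) (Lpe (f213502 IH) (Lpn (LP (LK LD1_c15 LD2_c17 LD3_c42)))))))))))))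
theorem f321442 : Led Lsl_ft (LP (LK LD1_c8 LD2_c7 LD3_c18)) = (LP (LK LD1_c15 LD2_c17 LD3_c44)) :=
  Lre_f IH (LK LD1_c8 LD2_c7 LD3_c18) (LK LD1_c15 LD2_c17 LD3_c44) Lrfl Lrfl
theorem f321443 : Led Lsl_af (LP (LK LD1_c8 LD2_c53 LD3_c47)) = (LP (LK LD1_c15 LD2_c17 LD3_c44)) :=
  Lgr Lrot31 (Lpr_gf (f321440 IH) (Lpe (f199049 IH) (Lpr_ft (f321442 IH) (Lpn (LP (LK LD1_c15 LD2_c17 LD3_c44))))))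
theorem f321449 : Led Lsl_at (LP (LK LD1_c8 LD2_c53 LD3_c47)) = (LP (LK LD1_c15 LD2_c17 LD3_c44)) :=
  Lgr Lrot100 (Lpr_af (f321443 IH) (Lpn (LP (LK LD1_c15 LD2_c17 LD3_c44))))
theorem f321478 : Led Lsl_ef (LP (LK LD1_c8 LD2_c54 LD3_c4)) = (LP (LK LD1_c15 LD2_c17 LD3_c44)) :=
  Lgr Lrot20 (Lpe (K20.f321423 IH) (Lpe (f284190 IH) (Lpr_at (f321449 IH) (Lpn (LP (LK LD1_c15 LD2_c17 LD3_c44))))))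
theorem f321500 : Led Lsl_et (LP (LK LD1_c8 LD2_c54 LD3_c4)) = (LP (LK LD1_c15 LD2_c17 LD3_c44)) :=
  Lgr Lrot87 (Lpr_ef (f321478 IH) (Lpn (LP (LK LD1_c15 LD2_c17 LD3_c44))))
theorem f247378 : Led Lsl_ct (LP (LK LD1_c8 LD2_c54 LD3_c4)) = (LP (LK LD1_c4 LD2_c28 LD3_c3)) :=
  Lre_c IH (LK LD1_c8 LD2_c54 LD3_c4) (LK LD1_c4 LD2_c28 LD3_c3) Lrfl Lrfl
theorem f267045 : Led Lsl_af (LP (LK LD1_c8 LD2_c54 LD3_c4)) = (LP (LK LD1_c16 LD2_c36 LD3_c19)) :=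
  Lgr Lrot68 (Lpr_ct (f247378 IH) (Lpr_at (K15.f267036 IH) (Lpr_ct (K20.f182301 IH) (Lpn (LP (LK LD1_c16 LD2_c36 LD3_c19))))))
theorem f321503 : Led Lsl_ef (LP (LK LD1_c16 LD2_c36 LD3_c19)) = (LP (LK LD1_c8 LD2_c53 LD3_c47)) :=
  Lgr Lrot20 (Lpe (f267045 IH) (Lpr_et (f321500 IH) (Lpe (f321443 IH) (Lpn (LP (LK LD1_c8 LD2_c53 LD3_c47))))))
theorem f325817 : Led Lsl_gt (LP (LK LD1_c8 LD2_c54 LD3_c25)) = (LP (LK LD1_c15 LD2_c19 LD3_c18)) :=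
  Lgr Lrot137 (Lpe (f325791 IH) (Lpr_dt (f311111 IH) (Lpr_gf (f325803 IH) (Lpe (K17.f284318 IH) (Lpe (f321503 IH) (Lpr_gf (K20.f321429 IH) (Lpe (K20.f292811 IH) (Lpe (K20.f292812 IH) (Lpe (f293865 IH) (Lpe (f292188 IH) (Lpn (LP (LK LD1_c15 LD2_c19 LD3_c18)))))))))))))
theorem f339748 : Led Lsl_ct (LP (LK LD1_c9 LD2_c42 LD3_c2)) = (LP (LK LD1_c8 LD2_c54 LD3_c25)) :=
  Lgr Lrot64 (Lpr_bt (f339746 IH) (Lpe (f235393 IH) (Lpe (K19.f235372 IH) (Lpr_ct (f228345 IH) (Lpe (K21.f233815 IH) (Lpe (K21.f314283 IH) (Lpr_gf (f327407 IH) (Lpe (K20.f269305 IH) (Lpr_ct (K18.f269306 IH) (Lpe (f325817 IH) (Lpn (LP (LK LD1_c8 LD2_c54 LD3_c25)))))))))))))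
theorem f339752 : Led Lsl_gt (LP (LK LD1_c10 LD2_c7 LD3_c55)) = (LP (LK LD1_c10 LD2_c29 LD3_c34)) :=
  Lgr Lrot150 (Lpe (f235428 IH) (Lpr_gf (K14.f251596 IH) (Lpe (K14.f168567 IH) (Lpr_gt (f168572 IH) (Lpr_ct (f339748 IH) (Lpr_gt (f325817 IH) (Lpr_ct (K17.f292180 IH) (Lpe (K18.f293793 IH) (Lpe (K18.f265891 IH) (Lpn (LP (LK LD1_c10 LD2_c29 LD3_c34))))))))))))
theorem f293998 : Led Lsl_ff (LP (LK LD1_c10 LD2_c3 LD3_c28)) = (LP (LK LD1_c8 LD2_c54 LD3_c34)) :=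
  Lgr Lrot19 (Lpr_dt (K18.f293970 IH) (Lpr_ft (K18.f293994 IH) (Lpr_dt (K18.f275639 IH) (Lpn (LP (LK LD1_c8 LD2_c54 LD3_c34))))))
theorem f339754 : Led Lsl_gf (LP (LK LD1_c10 LD2_c7 LD3_c55)) = (LP (LK LD1_c8 LD2_c54 LD3_c34)) :=
  Lgr Lrot47 (Lpr_gt (f339752 IH) (Lpr_af (K18.f293814 IH) (Lpr_ff (f293998 IH) (Lpn (LP (LK LD1_c8 LD2_c54 LD3_c34))))))
theorem f235427 : Led Lsl_bt (LP (LK LD1_c5 LD2_c8 LD3_c46)) = (LP (LK LD1_c2 LD2_c31 LD3_c36)) :=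
  Lre_b IH (LK LD1_c5 LD2_c8 LD3_c46) (LK LD1_c2 LD2_c31 LD3_c36) Lrfl Lrfl
theorem f190348 : Led Lsl_gt (LP (LK LD1_c2 LD2_c31 LD3_c36)) = (LP (LK LD1_c5 LD2_c8 LD3_c51)) :=
  Lre_g IH (LK LD1_c2 LD2_c31 LD3_c36) (LK LD1_c5 LD2_c8 LD3_c51) Lrfl Lrfl
theorem f275640 : Led Lsl_ct (LP (LK LD1_c4 LD2_c28 LD3_c13)) = (LP (LK LD1_c8 LD2_c54 LD3_c34)) :=
  Lre_c IH (LK LD1_c4 LD2_c28 LD3_c13) (LK LD1_c8 LD2_c54 LD3_c34) Lrfl Lrfl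
theorem f339761 : Led Lsl_bf (LP (LK LD1_c5 LD2_c8 LD3_c51)) = (LP (LK LD1_c2 LD2_c32 LD3_c14)) :=
  Lgr Lrot34 (Lpe (f190348 IH) (Lpe (f235427 IH) (Lpr_ct (f235428 IH) (Lpr_gf (f339754 IH) (Lpe (f275640 IH) (Lpr_gf (K19.f302796 IH) (Lpe (K20.f300677 IH) (Lpr_ct (K20.f302805 IH) (Lpe (f302806 IH) (Lpe (f249992 IH) (Lpn (LP (LK LD1_c2 LD2_c32 LD3_c14)))))))))))))
theorem f339777 : Led Lsl_ft (LP (LK LD1_c5 LD2_c8 LD3_c51)) = (LP (LK LD1_c5 LD2_c1 LD3_c6)) :=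
  Lgr Lrot75 (Lpr_bf (f339761 IH) (Lpr_ff (f335029 IH) (Lpr_bf (K16.f246883 IH) (Lpn (LP (LK LD1_c5 LD2_c1 LD3_c6))))))
theorem f314335 : Led Lsl_af (LP (LK LD1_c5 LD2_c8 LD3_c52)) = (LP (LK LD1_c5 LD2_c1 LD3_c6)) :=
  Lgr Lrot36 (Lpr_bt (K19.f235373 IH) (Lpr_at (K19.f314127 IH) (Lpr_bt (K18.f181892 IH) (Lpr_at (K19.f314331 IH) (Lpr_bt (f246853 IH) (Lpn (LP (LK LD1_c5 LD2_c1 LD3_c6))))))))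
theorem f339786 : Led Lsl_gt (LP (LK LD1_c5 LD2_c8 LD3_c51)) = (LP (LK LD1_c8 LD2_c4 LD3_c8)) :=
  Lgr Lrot5 (Lpr_ft (f339777 IH) (Lpe (f314335 IH) (Lpr_gf (K13.f239820 IH) (Lpn (LP (LK LD1_c8 LD2_c4 LD3_c8))))))
theorem f190349 : Led Lsl_et (LP (LK LD1_c10 LD2_c8 LD3_c7)) = (LP (LK LD1_c5 LD2_c8 LD3_c51)) :=
  Lre_e IH (LK LD1_c10 LD2_c8 LD3_c7) (LK LD1_c5 LD2_c8 LD3_c51) Lrfl Lrfl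
theorem f239828 : Led Lsl_df (LP (LK LD1_c9 LD2_c0 LD3_c58)) = (LP (LK LD1_c8 LD2_c4 LD3_c8)) :=
  Lgr Lrot38 (Lpr_dt (K13.f239824 IH) (Lpn (LP (LK LD1_c8 LD2_c4 LD3_c8))))
theorem f296899 : Led Lsl_df (LP (LK LD1_c8 LD2_c9 LD3_c44)) = (LP (LK LD1_c8 LD2_c4 LD3_c14)) :=
  Lgr Lrot38 (Lpr_dt (K18.f296891 IH) (Lpn (LP (LK LD1_c8 LD2_c4 LD3_c14))))
theorem f339788 : Led Lsl_dt (LP (LK LD1_c10 LD2_c8 LD3_c7)) = (LP (LK LD1_c5 LD2_c36 LD3_c44)) :=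
  Lgr Lrot37 (Lpr_et (f190349 IH) (Lpr_gt (f339786 IH) (Lpe (f239828 IH) (Lpr_gt (f239854 IH) (Lpe (f240355 IH) (Lpr_et (f193197 IH) (Lpr_gt (f314626 IH) (Lpr_ef (K18.f287243 IH) (Lpe (f296899 IH) (Lpe (K21.f326978 IH) (Lpn (LP (LK LD1_c5 LD2_c36 LD3_c44)))))))))))))
theorem f339807 : Led Lsl_gf (LP (LK LD1_c10 LD2_c8 LD3_c7)) = (LP (LK LD1_c9 LD2_c52 LD3_c33)) :=
  Lgr Lrot144 (Lpr_dt (f339788 IH) (Lpr_gt (K21.f326981 IH) (Lpe (K18.f296839 IH) (Lpe (K17.f197202 IH) (Lpe (K17.f197200 IH) (Lpe (K21.f197189 IH) (Lpe (K21.f197190 IH) (Lpe (K21.f326776 IH) (Lpe (K21.f263282 IH) (Lpn (LP (LK LD1_c9 LD2_c52 LD3_c33))))))))))))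
theorem f263321 : Led Lsl_et (LP (LK LD1_c2 LD2_c28 LD3_c17)) = (LP (LK LD1_c5 LD2_c1 LD3_c4)) :=
  Lre_e IH (LK LD1_c2 LD2_c28 LD3_c17) (LK LD1_c5 LD2_c1 LD3_c4) Lrfl Lrfl
theorem f33929 : Led Lsl_gt (LP (LK LD1_c5 LD2_c2 LD3_c3)) = (LP (LK LD1_c2 LD2_c28 LD3_c39)) :=
  Lre_g IH (LK LD1_c5 LD2_c2 LD3_c3) (LK LD1_c2 LD2_c28 LD3_c39) Lrfl Lrfl
theorem f33930 : Led Lsl_dt (LP (LK LD1_c9 LD2_c54 LD3_c50)) = (LP (LK LD1_c5 LD2_c2 LD3_c3)) :=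
  Lre_d IH (LK LD1_c9 LD2_c54 LD3_c50) (LK LD1_c5 LD2_c2 LD3_c3) Lrfl Lrfl
theorem f274688 : Led Lsl_ef (LP (LK LD1_c9 LD2_c52 LD3_c33)) = (LP (LK LD1_c9 LD2_c54 LD3_c50)) :=
  Lgr Lrot17 (Lpe (K16.f263281 IH) (Lpe (f263321 IH) (Lpr_dt (K16.f274673 IH) (Lpe (K17.f274669 IH) (Lpe (K10.f33364 IH) (Lpr_gf (K10.f33356 IH) (Lpe (K19.f21974 IH) (Lpe (K0.f33918 IH) (Lpe (f33929 IH) (Lpe (f33930 IH) (Lpn (LP (LK LD1_c9 LD2_c54 LD3_c50)))))))))))))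
theorem f339815 : Led Lsl_gf (LP (LK LD1_c5 LD2_c2 LD3_c3)) = (LP (LK LD1_c4 LD2_c1 LD3_c57)) :=
  Lgr Lrot145 (Lpe (f33930 IH) (Lpe (f274688 IH) (Lpe (f339807 IH) (Lpr_dt (f339788 IH) (Lpr_gt (K21.f326981 IH) (Lpr_df (K17.f286318 IH) (Lpr_et (K17.f22005 IH) (Lpe (K10.f33986 IH) (Lpe (K0.f33612 IH) (Lpr_dt (K0.f33613 IH) (Lpn (LP (LK LD1_c4 LD2_c1 LD3_c57)))))))))))))
theorem f339774 : Led Lsl_et (LP (LK LD1_c5 LD2_c8 LD3_c51)) = (LP (LK LD1_c10 LD2_c8 LD3_c7)) :=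
  Lre_e IH (LK LD1_c5 LD2_c8 LD3_c51) (LK LD1_c10 LD2_c8 LD3_c7) Lrfl Lrfl
theorem f175265 : Led Lsl_ct (LP (LK LD1_c1 LD2_c17 LD3_c40)) = (LP (LK LD1_c0 LD2_c35 LD3_c54)) :=
  Lre_c IH (LK LD1_c1 LD2_c17 LD3_c40) (LK LD1_c0 LD2_c35 LD3_c54) Lrfl Lrfl
theorem f300156 : Led Lsl_gf (LP (LK LD1_c2 LD2_c42 LD3_c16)) = (LP (LK LD1_c5 LD2_c3 LD3_c12)) :=
  Lgr Lrot76 (Lpr_af (K16.f276009 IH) (Lpr_ff (K16.f261799 IH) (Lpr_gt (f300154 IH) (Lpn (LP (LK LD1_c5 LD2_c3 LD3_c12))))))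
theorem f183102 : Led Lsl_ft (LP (LK LD1_c1 LD2_c13 LD3_c7)) = (LP (LK LD1_c2 LD2_c32 LD3_c16)) :=
  Lre_f IH (LK LD1_c1 LD2_c13 LD3_c7) (LK LD1_c2 LD2_c32 LD3_c16) Lrfl Lrfl
theorem f300114 : Led Lsl_gt (LP (LK LD1_c2 LD2_c32 LD3_c14)) = (LP (LK LD1_c2 LD2_c29 LD3_c10)) :=
  Lgr Lrot46 (Lpe (f169081 IH) (Lpr_ft (f183102 IH) (Lpr_at (K19.f300093 IH) (Lpn (LP (LK LD1_c2 LD2_c29 LD3_c10))))))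
theorem f314353 : Led Lsl_df (LP (LK LD1_c2 LD2_c32 LD3_c14)) = (LP (LK LD1_c3 LD2_c58 LD3_c40)) :=
  Lgr Lrot155 (Lpr_gt (f300114 IH) (Lpr_ct (K17.f288300 IH) (Lpe (f300156 IH) (Lpr_ct (K16.f185885 IH) (Lpr_dt (K15.f175266 IH) (Lpe (f175265 IH) (Lpe (K19.f178903 IH) (Lpr_cf (K19.f185868 IH) (Lpr_gf (K19.f314349 IH) (Lpn (LP (LK LD1_c3 LD2_c58 LD3_c40))))))))))))
theorem f339772 : Led Lsl_dt (LP (LK LD1_c5 LD2_c8 LD3_c51)) = (LP (LK LD1_c7 LD2_c58 LD3_c48)) :=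
  Lgr Lrot79 (Lpr_bf (f339761 IH) (Lpr_df (f314353 IH) (Lpe (K19.f213624 IH) (Lpn (LP (LK LD1_c7 LD2_c58 LD3_c48))))))
theorem f339821 : Led Lsl_gt (LP (LK LD1_c7 LD2_c58 LD3_c48)) = (LP (LK LD1_c8 LD2_c27 LD3_c55)) :=
  Lgr Lrot112 (Lpe (f339772 IH) (Lpr_et (f339774 IH) (Lpr_gf (f339807 IH) (Lpr_ef (f274688 IH) (Lpr_dt (f33930 IH) (Lpr_gf (f339815 IH) (Lpe (K0.f33613 IH) (Lpr_gf (K13.f33939 IH) (Lpe (K13.f33944 IH) (Lpe (K13.f239539 IH) (Lpn (LP (LK LD1_c8 LD2_c27 LD3_c55)))))))))))))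
theorem f246886 : Led Lsl_ft (LP (LK LD1_c7 LD2_c58 LD3_c48)) = (LP (LK LD1_c3 LD2_c58 LD3_c37)) :=
  Lre_f IH (LK LD1_c7 LD2_c58 LD3_c48) (LK LD1_c3 LD2_c58 LD3_c37) Lrfl Lrfl
theorem f339823 : Led Lsl_at (LP (LK LD1_c3 LD2_c58 LD3_c37)) = (LP (LK LD1_c4 LD2_c14 LD3_c35)) :=
  Lgr Lrot26 (Lpe (f246886 IH) (Lpr_gt (f339821 IH) (Lpr_gt (K13.f235385 IH) (Lpn (LP (LK LD1_c4 LD2_c14 LD3_c35))))))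
theorem f235383 : Led Lsl_ft (LP (LK LD1_c4 LD2_c14 LD3_c35)) = (LP (LK LD1_c8 LD2_c27 LD3_c56)) :=
  Lre_f IH (LK LD1_c4 LD2_c14 LD3_c35) (LK LD1_c8 LD2_c27 LD3_c56) Lrfl Lrfl
theorem f339832 : Led Lsl_af (LP (LK LD1_c7 LD2_c58 LD3_c48)) = (LP (LK LD1_c8 LD2_c27 LD3_c56)) :=
  Lgr Lrot45 (Lpr_ft (f246886 IH) (Lpr_at (f339823 IH) (Lpr_ft (f235383 IH) (Lpn (LP (LK LD1_c8 LD2_c27 LD3_c56))))))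
theorem f339837 : Led Lsl_gf (LP (LK LD1_c7 LD2_c58 LD3_c48)) = (LP (LK LD1_c8 LD2_c27 LD3_c54)) :=
  Lgr Lrot76 (Lpr_af (f339832 IH) (Lpe (f235383 IH) (Lpr_gt (f235393 IH) (Lpn (LP (LK LD1_c8 LD2_c27 LD3_c54))))))
theorem f287271 : Led Lsl_gt (LP (LK LD1_c18 LD2_c4 LD3_c54)) = (LP (LK LD1_c25 LD2_c0 LD3_c44)) :=
  Lgr Lrot46 (Lpr_gf (K20.f265909 IH) (Lpr_ft (K17.f265912 IH) (Lpr_at (K17.f287257 IH) (Lpn (LP (LK LD1_c25 LD2_c0 LD3_c44))))))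
theorem f297997 : Led Lsl_gf (LP (LK LD1_c9 LD2_c52 LD3_c41)) = (LP (LK LD1_c18 LD2_c4 LD3_c43)) :=
  Lgr Lrot144 (Lpr_dt (K20.f251493 IH) (Lpr_gt (f287271 IH) (Lpr_dt (K17.f287248 IH) (Lpe (K18.f258994 IH) (Lpe (K18.f296891 IH) (Lpr_gf (K21.f297995 IH) (Lpe (K21.f274707 IH) (Lpe (f263284 IH) (Lpe (f274724 IH) (Lpn (LP (LK LD1_c18 LD2_c4 LD3_c43))))))))))))
theorem f274715 : Led Lsl_ct (LP (LK LD1_c9 LD2_c52 LD3_c34)) = (LP (LK LD1_c18 LD2_c4 LD3_c43)) :=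
  Lre_c IH (LK LD1_c9 LD2_c52 LD3_c34) (LK LD1_c18 LD2_c4 LD3_c43) Lrfl Lrfl
theorem f339811 : Led Lsl_gt (LP (LK LD1_c10 LD2_c8 LD3_c7)) = (LP (LK LD1_c9 LD2_c52 LD3_c34)) :=
  Lgr Lrot146 (Lpr_dt (f339788 IH) (Lpr_gt (K21.f326981 IH) (Lpr_ct (K16.f201015 IH) (Lpr_gt (K16.f243728 IH) (Lpe (K19.f244116 IH) (Lpr_dt (K20.f320935 IH) (Lpe (K20.f251470 IH) (Lpr_gf (f297997 IH) (Lpe (f274715 IH) (Lpn (LP (LK LD1_c9 LD2_c52 LD3_c34))))))))))))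
theorem f235416 : Led Lsl_dt (LP (LK LD1_c15 LD2_c53 LD3_c40)) = (LP (LK LD1_c8 LD2_c27 LD3_c54)) :=
  Lre_d IH (LK LD1_c15 LD2_c53 LD3_c40) (LK LD1_c8 LD2_c27 LD3_c54) Lrfl Lrfl
theorem f339844 : Led Lsl_ef (LP (LK LD1_c8 LD2_c28 LD3_c4)) = (LP (LK LD1_c15 LD2_c53 LD3_c40)) :=
  Lgr Lrot17 (Lpe (f315642 IH) (Lpe (K19.f274773 IH) (Lpr_dt (f312234 IH) (Lpe (f332802 IH) (Lpe (f274720 IH) (Lpe (f339811 IH) (Lpe (f339774 IH) (Lpr_dt (f339772 IH) (Lpr_gf (f339837 IH) (Lpe (f235416 IH) (Lpn (LP (LK LD1_c15 LD2_c53 LD3_c40)))))))))))))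
theorem f33231 : Led Lsl_ct (LP (LK LD1_c10 LD2_c7 LD3_c50)) = (LP (LK LD1_c5 LD2_c8 LD3_c42)) :=
  Lre_c IH (LK LD1_c10 LD2_c7 LD3_c50) (LK LD1_c5 LD2_c8 LD3_c42) Lrfl Lrfl
theorem f240213 : Led Lsl_ef (LP (LK LD1_c8 LD2_c4 LD3_c8)) = (LP (LK LD1_c5 LD2_c8 LD3_c42)) :=
  Lgr Lrot28 (Lpr_ct (K21.f195640 IH) (Lpr_et (K13.f240129 IH) (Lpr_ct (f33231 IH) (Lpn (LP (LK LD1_c5 LD2_c8 LD3_c42))))))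
theorem f247216 : Led Lsl_dt (LP (LK LD1_c8 LD2_c9 LD3_c38)) = (LP (LK LD1_c9 LD2_c37 LD3_c59)) :=
  Lgr Lrot42 (Lpr_df (K21.f247214 IH) (Lpn (LP (LK LD1_c9 LD2_c37 LD3_c59))))
theorem f224898 : Led Lsl_et (LP (LK LD1_c1 LD2_c8 LD3_c55)) = (LP (LK LD1_c2 LD2_c23 LD3_c39)) :=
  Lre_e IH (LK LD1_c1 LD2_c8 LD3_c55) (LK LD1_c2 LD2_c23 LD3_c39) Lrfl Lrfl
theorem f171064 : Led Lsl_gt (LP (LK LD1_c2 LD2_c23 LD3_c39)) = (LP (LK LD1_c4 LD2_c51 LD3_c36)) :=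
  Lre_g IH (LK LD1_c2 LD2_c23 LD3_c39) (LK LD1_c4 LD2_c51 LD3_c36) Lrfl Lrfl
theorem f327512 : Led Lsl_et (LP (LK LD1_c4 LD2_c53 LD3_c1)) = (LP (LK LD1_c4 LD2_c51 LD3_c36)) :=
  Lgr Lrot122 (Lpe (K21.f327510 IH) (Lpr_gt (K21.f253169 IH) (Lpr_df (K21.f327504 IH) (Lpr_et (K21.f33308 IH) (Lpe (K13.f199671 IH) (Lpr_dt (K13.f181941 IH) (Lpr_gt (K13.f21245 IH) (Lpr_df (K13.f238068 IH) (Lpr_et (f224898 IH) (Lpr_gt (f171064 IH) (Lpn (LP (LK LD1_c4 LD2_c51 LD3_c36)))))))))))))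
theorem f327516 : Led Lsl_ef (LP (LK LD1_c4 LD2_c53 LD3_c1)) = (LP (LK LD1_c4 LD2_c51 LD3_c36)) :=
  Lgr Lrot88 (Lpr_et (f327512 IH) (Lpn (LP (LK LD1_c4 LD2_c51 LD3_c36))))
theorem f171065 : Led Lsl_dt (LP (LK LD1_c4 LD2_c51 LD3_c36)) = (LP (LK LD1_c9 LD2_c35 LD3_c21)) :=
  Lre_d IH (LK LD1_c4 LD2_c51 LD3_c36) (LK LD1_c9 LD2_c35 LD3_c21) Lrfl Lrfl
theorem f327521 : Led Lsl_gt (LP (LK LD1_c11 LD2_c9 LD3_c34)) = (LP (LK LD1_c9 LD2_c35 LD3_c21)) :=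
  Lgr Lrot139 (Lpe (K18.f179743 IH) (Lpe (K13.f179742 IH) (Lpe (K19.f200571 IH) (Lpr_dt (K11.f196957 IH) (Lpe (K12.f165224 IH) (Lpr_df (K13.f229257 IH) (Lpr_et (K16.f229259 IH) (Lpe (K21.f237520 IH) (Lpr_ef (f327516 IH) (Lpr_dt (f171065 IH) (Lpn (LP (LK LD1_c9 LD2_c35 LD3_c21)))))))))))))
theorem f224914 : Led Lsl_dt (LP (LK LD1_c9 LD2_c35 LD3_c21)) = (LP (LK LD1_c4 LD2_c51 LD3_c36)) :=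
  Lre_d IH (LK LD1_c9 LD2_c35 LD3_c21) (LK LD1_c4 LD2_c51 LD3_c36) Lrfl Lrfl
theorem f296844 : Led Lsl_dt (LP (LK LD1_c5 LD2_c8 LD3_c61)) = (LP (LK LD1_c10 LD2_c8 LD3_c33)) :=
  Lre_d IH (LK LD1_c5 LD2_c8 LD3_c61) (LK LD1_c10 LD2_c8 LD3_c33) Lrfl Lrfl
theorem f327547 : Led Lsl_ef (LP (LK LD1_c9 LD2_c35 LD3_c21)) = (LP (LK LD1_c10 LD2_c8 LD3_c33)) :=
  Lgr Lrot73 (Lpr_dt (f224914 IH) (Lpe (f327516 IH) (Lpe (K21.f327510 IH) (Lpr_et (K21.f327543 IH) (Lpr_dt (f296844 IH) (Lpn (LP (LK LD1_c10 LD2_c8 LD3_c33))))))))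
theorem f287246 : Led Lsl_gt (LP (LK LD1_c5 LD2_c8 LD3_c61)) = (LP (LK LD1_c8 LD2_c4 LD3_c14)) :=
  Lgr Lrot46 (Lpe (K18.f287245 IH) (Lpr_ft (K17.f287221 IH) (Lpr_at (K17.f287223 IH) (Lpn (LP (LK LD1_c8 LD2_c4 LD3_c14))))))
theorem f328094 : Led Lsl_gf (LP (LK LD1_c8 LD2_c9 LD3_c38)) = (LP (LK LD1_c5 LD2_c38 LD3_c61)) :=
  Lgr Lrot138 (Lpr_dt (f247216 IH) (Lpr_gt (K21.f328090 IH) (Lpe (f315402 IH) (Lpe (K18.f200473 IH) (Lpr_gt (f327521 IH) (Lpr_ef (f327547 IH) (Lpr_dt (K21.f296848 IH) (Lpr_gt (f287246 IH) (Lpe (K18.f296891 IH) (Lpe (K21.f286740 IH) (Lpn (LP (LK LD1_c5 LD2_c38 LD3_c61)))))))))))))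
theorem f332773 : Led Lsl_gt (LP (LK LD1_c4 LD2_c53 LD3_c0)) = (LP (LK LD1_c8 LD2_c1 LD3_c33)) :=
  Lgr Lrot131 (Lpe (K21.f247213 IH) (Lpe (K21.f247214 IH) (Lpr_gf (f328094 IH) (Lpr_df (K12.f200450 IH) (Lpr_gf (K20.f298439 IH) (Lpe (K20.f315449 IH) (Lpe (K15.f199235 IH) (Lpr_gf (f332759 IH) (Lpr_df (K16.f239871 IH) (Lpr_et (K21.f280223 IH) (Lpn (LP (LK LD1_c8 LD2_c1 LD3_c33)))))))))))))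
theorem f339864 : Led Lsl_gt (LP (LK LD1_c8 LD2_c28 LD3_c4)) = (LP (LK LD1_c9 LD2_c53 LD3_c56)) :=
  Lgr Lrot131 (Lpr_ef (f339844 IH) (Lpr_dt (f235416 IH) (Lpe (f235393 IH) (Lpe (K13.f235380 IH) (Lpr_gf (K13.f239820 IH) (Lpr_ef (f240213 IH) (Lpe (K12.f33216 IH) (Lpe (f332773 IH) (Lpr_df (f328086 IH) (Lpr_et (f328088 IH) (Lpn (LP (LK LD1_c9 LD2_c53 LD3_c56)))))))))))))
theorem f314286 : Led Lsl_cf (LP (LK LD1_c8 LD2_c2 LD3_c57)) = (LP (LK LD1_c8 LD2_c28 LD3_c0)) :=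
  Lgr Lrot11 (Lpr_ct (K21.f314283 IH) (Lpn (LP (LK LD1_c8 LD2_c28 LD3_c0))))
theorem f332835 : Led Lsl_ct (LP (LK LD1_c9 LD2_c53 LD3_c56)) = (LP (LK LD1_c18 LD2_c6 LD3_c39)) :=
  Lre_c IH (LK LD1_c9 LD2_c53 LD3_c56) (LK LD1_c18 LD2_c6 LD3_c39) Lrfl Lrfl
theorem f339868 : Led Lsl_cf (LP (LK LD1_c15 LD2_c9 LD3_c17)) = (LP (LK LD1_c18 LD2_c30 LD3_c13)) :=
  Lgr Lrot99 (Lpe (f304369 IH) (Lpr_cf (f314286 IH) (Lpe (f339731 IH) (Lpr_cf (K20.f319697 IH) (Lpr_gf (f338006 IH) (Lpe (f239627 IH) (Lpr_gt (f339864 IH) (Lpr_ct (f332835 IH) (Lpe (f332833 IH) (Lpn (LP (LK LD1_c18 LD2_c30 LD3_c13))))))))))))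
theorem f339872 : Led Lsl_ct (LP (LK LD1_c8 LD2_c5 LD3_c39)) = (LP (LK LD1_c10 LD2_c9 LD3_c26)) :=
  Lgr Lrot15 (Lpe (f327369 IH) (Lpr_cf (f339868 IH) (Lpe (f239619 IH) (Lpn (LP (LK LD1_c10 LD2_c9 LD3_c26))))))
theorem f163904 : Led Lsl_bt (LP (LK LD1_c5 LD2_c11 LD3_c54)) = (LP (LK LD1_c2 LD2_c32 LD3_c50)) :=
  Lre_b IH (LK LD1_c5 LD2_c11 LD3_c54) (LK LD1_c2 LD2_c32 LD3_c50) Lrfl Lrfl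
theorem f163907 : Led Lsl_ct (LP (LK LD1_c5 LD2_c11 LD3_c54)) = (LP (LK LD1_c10 LD2_c14 LD3_c37)) :=
  Lre_c IH (LK LD1_c5 LD2_c11 LD3_c54) (LK LD1_c10 LD2_c14 LD3_c37) Lrfl Lrfl
theorem f212132 : Led Lsl_bt (LP (LK LD1_c2 LD2_c36 LD3_c5)) = (LP (LK LD1_c5 LD2_c18 LD3_c58)) :=
  Lre_b IH (LK LD1_c2 LD2_c36 LD3_c5) (LK LD1_c5 LD2_c18 LD3_c58) Lrfl Lrfl
theorem f335145 : Led Lsl_gt (LP (LK LD1_c9 LD2_c58 LD3_c19)) = (LP (LK LD1_c10 LD2_c14 LD3_c37)) :=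
  Lgr Lrot65 (Lpe (K19.f190723 IH) (Lpr_bt (K1.f44081 IH) (Lpr_gf (f335141 IH) (Lpe (f212132 IH) (Lpr_ct (K21.f306447 IH) (Lpe (K21.f21970 IH) (Lpe (K8.f21339 IH) (Lpe (K19.f163898 IH) (Lpe (f163904 IH) (Lpr_ct (f163907 IH) (Lpn (LP (LK LD1_c10 LD2_c14 LD3_c37)))))))))))))
theorem f339878 : Led Lsl_bt (LP (LK LD1_c8 LD2_c5 LD3_c39)) = (LP (LK LD1_c10 LD2_c28 LD3_c13)) :=
  Lgr Lrot130 (Lpr_ct (f339872 IH) (Lpe (f21764 IH) (Lpe (f21756 IH) (Lpr_bt (K0.f21346 IH) (Lpe (K19.f163898 IH) (Lpe (f163904 IH) (Lpr_ct (f163907 IH) (Lpe (f335145 IH) (Lpe (K19.f190723 IH) (Lpr_gf (K19.f46389 IH) (Lpn (LP (LK LD1_c10 LD2_c28 LD3_c13)))))))))))))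
theorem f339880 : Led Lsl_bf (LP (LK LD1_c8 LD2_c5 LD3_c39)) = (LP (LK LD1_c10 LD2_c28 LD3_c13)) :=
  Lgr Lrot24 (Lpr_bt (f339878 IH) (Lpn (LP (LK LD1_c10 LD2_c28 LD3_c13))))
theorem f190665 : Led Lsl_et (LP (LK LD1_c5 LD2_c3 LD3_c44)) = (LP (LK LD1_c9 LD2_c58 LD3_c19)) :=
  Lre_e IH (LK LD1_c5 LD2_c3 LD3_c44) (LK LD1_c9 LD2_c58 LD3_c19) Lrfl Lrfl
theorem f212429 : Led Lsl_ft (LP (LK LD1_c9 LD2_c58 LD3_c19)) = (LP (LK LD1_c10 LD2_c12 LD3_c20)) :=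
  Lgr Lrot86 (Lpe (f190665 IH) (Lpe (K10.f190651 IH) (Lpe (K1.f44211 IH) (Lpr_ff (K12.f212335 IH) (Lpe (K19.f212368 IH) (Lpn (LP (LK LD1_c10 LD2_c12 LD3_c20))))))))
theorem f233465 : Led Lsl_at (LP (LK LD1_c10 LD2_c12 LD3_c20)) = (LP (LK LD1_c9 LD2_c57 LD3_c23)) :=
  Lgr Lrot66 (Lpe (f212429 IH) (Lpr_af (K19.f192925 IH) (Lpr_ff (K14.f233463 IH) (Lpn (LP (LK LD1_c9 LD2_c57 LD3_c23))))))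
theorem f335149 : Led Lsl_gf (LP (LK LD1_c9 LD2_c57 LD3_c23)) = (LP (LK LD1_c10 LD2_c14 LD3_c37)) :=
  Lgr Lrot76 (Lpe (f233465 IH) (Lpe (f212429 IH) (Lpr_gt (f335145 IH) (Lpn (LP (LK LD1_c10 LD2_c14 LD3_c37))))))
theorem f233602 : Led Lsl_gt (LP (LK LD1_c18 LD2_c13 LD3_c7)) = (LP (LK LD1_c27 LD2_c53 LD3_c39)) :=
  Lre_g IH (LK LD1_c18 LD2_c13 LD3_c7) (LK LD1_c27 LD2_c53 LD3_c39) Lrfl Lrfl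
theorem f43372 : Led Lsl_ct (LP (LK LD1_c27 LD2_c33 LD3_c39)) = (LP (LK LD1_c17 LD2_c46 LD3_c50)) :=
  Lre_c IH (LK LD1_c27 LD2_c33 LD3_c39) (LK LD1_c17 LD2_c46 LD3_c50) Lrfl Lrfl
theorem f335181 : Led Lsl_dt (LP (LK LD1_c27 LD2_c53 LD3_c39)) = (LP (LK LD1_c27 LD2_c33 LD3_c39)) :=
  Lgr Lrot105 (Lpe (f233602 IH) (Lpe (K19.f233475 IH) (Lpr_gf (f335149 IH) (Lpe (f163907 IH) (Lpr_gt (K19.f312497 IH) (Lpr_dt (K13.f43358 IH) (Lpr_gt (K15.f43370 IH) (Lpr_dt (K21.f43371 IH) (Lpe (f43372 IH) (Lpn (LP (LK LD1_c27 LD2_c33 LD3_c39))))))))))))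
theorem f335185 : Led Lsl_df (LP (LK LD1_c27 LD2_c53 LD3_c39)) = (LP (LK LD1_c27 LD2_c33 LD3_c39)) :=
  Lgr Lrot38 (Lpr_dt (f335181 IH) (Lpn (LP (LK LD1_c27 LD2_c33 LD3_c39))))
theorem f335159 : Led Lsl_et (LP (LK LD1_c18 LD2_c38 LD3_c34)) = (LP (LK LD1_c10 LD2_c14 LD3_c37)) :=
  Lre_e IH (LK LD1_c18 LD2_c38 LD3_c34) (LK LD1_c10 LD2_c14 LD3_c37) Lrfl Lrfl
theorem f249717 : Led Lsl_at (LP (LK LD1_c5 LD2_c3 LD3_c46)) = (LP (LK LD1_c9 LD2_c58 LD3_c14)) :=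
  Lre_a IH (LK LD1_c5 LD2_c3 LD3_c46) (LK LD1_c9 LD2_c58 LD3_c14) Lrfl Lrfl
theorem f249579 : Led Lsl_at (LP (LK LD1_c10 LD2_c11 LD3_c33)) = (LP (LK LD1_c5 LD2_c10 LD3_c32)) :=
  Lre_a IH (LK LD1_c10 LD2_c11 LD3_c33) (LK LD1_c5 LD2_c10 LD3_c32) Lrfl Lrfl
theorem f249718 : Led Lsl_ff (LP (LK LD1_c5 LD2_c3 LD3_c46)) = (LP (LK LD1_c5 LD2_c10 LD3_c32)) :=
  Lgr Lrot30 (Lpr_at (f249717 IH) (Lpr_ft (K14.f249712 IH) (Lpr_at (f249579 IH) (Lpn (LP (LK LD1_c5 LD2_c10 LD3_c32))))))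
theorem f275230 : Led Lsl_gt (LP (LK LD1_c9 LD2_c56 LD3_c38)) = (LP (LK LD1_c9 LD2_c58 LD3_c14)) :=
  Lgr Lrot46 (Lpr_gf (K18.f275194 IH) (Lpe (f249718 IH) (Lpr_at (f249717 IH) (Lpn (LP (LK LD1_c9 LD2_c58 LD3_c14))))))
theorem f278620 : Led Lsl_gf (LP (LK LD1_c5 LD2_c9 LD3_c29)) = (LP (LK LD1_c5 LD2_c2 LD3_c55)) :=
  Lgr Lrot147 (Lpr_ct (K17.f278617 IH) (Lpr_gt (K16.f278609 IH) (Lpr_ct (K17.f192127 IH) (Lpe (K16.f214944 IH) (Lpe (K16.f275178 IH) (Lpr_gf (K16.f275188 IH) (Lpr_cf (K14.f254420 IH) (Lpe (f275230 IH) (Lpe (K17.f249546 IH) (Lpn (LP (LK LD1_c5 LD2_c2 LD3_c55))))))))))))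
theorem f283923 : Led Lsl_et (LP (LK LD1_c9 LD2_c56 LD3_c39)) = (LP (LK LD1_c5 LD2_c2 LD3_c55)) :=
  Lre_e IH (LK LD1_c9 LD2_c56 LD3_c39) (LK LD1_c5 LD2_c2 LD3_c55) Lrfl Lrfl
theorem f283924 : Led Lsl_dt (LP (LK LD1_c9 LD2_c56 LD3_c39)) = (LP (LK LD1_c18 LD2_c11 LD3_c53)) :=
  Lre_d IH (LK LD1_c9 LD2_c56 LD3_c39) (LK LD1_c18 LD2_c11 LD3_c53) Lrfl Lrfl
theorem f283925 : Led Lsl_gt (LP (LK LD1_c27 LD2_c52 LD3_c38)) = (LP (LK LD1_c18 LD2_c11 LD3_c53)) :=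
  Lre_g IH (LK LD1_c27 LD2_c52 LD3_c38) (LK LD1_c18 LD2_c11 LD3_c53) Lrfl Lrfl
theorem f335160 : Led Lsl_df (LP (LK LD1_c27 LD2_c52 LD3_c38)) = (LP (LK LD1_c18 LD2_c38 LD3_c34)) :=
  Lgr Lrot170 (Lpr_gt (f283925 IH) (Lpe (f283924 IH) (Lpr_et (f283923 IH) (Lpe (f278620 IH) (Lpr_dt (K17.f283893 IH) (Lpr_gt (K17.f283894 IH) (Lpr_df (K14.f190653 IH) (Lpr_et (f190665 IH) (Lpr_gt (f335145 IH) (Lpe (f335159 IH) (Lpn (LP (LK LD1_c18 LD2_c38 LD3_c34)))))))))))))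
theorem f306090 : Led Lsl_ft (LP (LK LD1_c10 LD2_c10 LD3_c0)) = (LP (LK LD1_c17 LD2_c47 LD3_c5)) :=
  Lgr Lrot48 (Lpr_ff (K19.f306082 IH) (Lpn (LP (LK LD1_c17 LD2_c47 LD3_c5))))
theorem f233453 : Led Lsl_dt (LP (LK LD1_c17 LD2_c47 LD3_c5)) = (LP (LK LD1_c27 LD2_c33 LD3_c60)) :=
  Lre_d IH (LK LD1_c17 LD2_c47 LD3_c5) (LK LD1_c27 LD2_c33 LD3_c60) Lrfl Lrfl
theorem f306132 : Led Lsl_ff (LP (LK LD1_c18 LD2_c31 LD3_c16)) = (LP (LK LD1_c27 LD2_c33 LD3_c60)) :=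
  Lgr Lrot19 (Lpr_dt (K18.f288425 IH) (Lpr_ft (f306090 IH) (Lpr_dt (f233453 IH) (Lpn (LP (LK LD1_c27 LD2_c33 LD3_c60))))))
theorem f306138 : Led Lsl_gf (LP (LK LD1_c27 LD2_c52 LD3_c38)) = (LP (LK LD1_c27 LD2_c33 LD3_c60)) :=
  Lgr Lrot47 (Lpr_gt (f283925 IH) (Lpe (K18.f294135 IH) (Lpr_ff (f306132 IH) (Lpn (LP (LK LD1_c27 LD2_c33 LD3_c60))))))
theorem f306080 : Led Lsl_ef (LP (LK LD1_c18 LD2_c11 LD3_c61)) = (LP (LK LD1_c17 LD2_c47 LD3_c5)) :=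
  Lgr Lrot28 (Lpe (K18.f169886 IH) (Lpe (K18.f293769 IH) (Lpr_ct (K19.f306070 IH) (Lpn (LP (LK LD1_c17 LD2_c47 LD3_c5))))))
theorem f256414 : Led Lsl_ct (LP (LK LD1_c18 LD2_c30 LD3_c58)) = (LP (LK LD1_c10 LD2_c9 LD3_c51)) :=
  Lre_c IH (LK LD1_c18 LD2_c30 LD3_c58) (LK LD1_c10 LD2_c9 LD3_c51) Lrfl Lrfl
theorem f43374 : Led Lsl_ct (LP (LK LD1_c17 LD2_c46 LD3_c50)) = (LP (LK LD1_c27 LD2_c33 LD3_c39)) :=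
  Lre_c IH (LK LD1_c17 LD2_c46 LD3_c50) (LK LD1_c27 LD2_c33 LD3_c39) Lrfl Lrfl
theorem f256415 : Led Lsl_ef (LP (LK LD1_c18 LD2_c30 LD3_c58)) = (LP (LK LD1_c27 LD2_c33 LD3_c39)) :=
  Lgr Lrot28 (Lpr_ct (f256414 IH) (Lpr_et (K15.f256412 IH) (Lpr_ct (f43374 IH) (Lpn (LP (LK LD1_c27 LD2_c33 LD3_c39))))))
theorem f335194 : Led Lsl_gf (LP (LK LD1_c18 LD2_c11 LD3_c61)) = (LP (LK LD1_c18 LD2_c30 LD3_c58)) :=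
  Lgr Lrot141 (Lpr_ef (f306080 IH) (Lpr_dt (f233453 IH) (Lpe (f306138 IH) (Lpr_df (f335160 IH) (Lpr_et (f335159 IH) (Lpe (f335149 IH) (Lpr_dt (K19.f233475 IH) (Lpr_gt (f233602 IH) (Lpr_df (f335185 IH) (Lpe (f256415 IH) (Lpn (LP (LK LD1_c18 LD2_c30 LD3_c58)))))))))))))
theorem f268067 : Led Lsl_ct (LP (LK LD1_c10 LD2_c16 LD3_c30)) = (LP (LK LD1_c18 LD2_c41 LD3_c19)) :=
  Lre_c IH (LK LD1_c10 LD2_c16 LD3_c30) (LK LD1_c18 LD2_c41 LD3_c19) Lrfl Lrfl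
theorem f254252 : Led Lsl_ct (LP (LK LD1_c17 LD2_c35 LD3_c43)) = (LP (LK LD1_c9 LD2_c33 LD3_c17)) :=
  Lre_c IH (LK LD1_c17 LD2_c35 LD3_c43) (LK LD1_c9 LD2_c33 LD3_c17) Lrfl Lrfl
theorem f230750 : Led Lsl_et (LP (LK LD1_c10 LD2_c16 LD3_c37)) = (LP (LK LD1_c5 LD2_c13 LD3_c8)) :=
  Lre_e IH (LK LD1_c10 LD2_c16 LD3_c37) (LK LD1_c5 LD2_c13 LD3_c8) Lrfl Lrfl
theorem f230751 : Led Lsl_ct (LP (LK LD1_c9 LD2_c52 LD3_c58)) = (LP (LK LD1_c10 LD2_c16 LD3_c37)) :=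
  Lgr Lrot15 (Lpe (K14.f230749 IH) (Lpr_cf (K17.f230742 IH) (Lpe (f230750 IH) (Lpn (LP (LK LD1_c10 LD2_c16 LD3_c37))))))
theorem f230755 : Led Lsl_cf (LP (LK LD1_c9 LD2_c52 LD3_c58)) = (LP (LK LD1_c10 LD2_c16 LD3_c37)) :=
  Lgr Lrot11 (Lpr_ct (f230751 IH) (Lpn (LP (LK LD1_c10 LD2_c16 LD3_c37))))
theorem f293758 : Led Lsl_gf (LP (LK LD1_c10 LD2_c16 LD3_c37)) = (LP (LK LD1_c18 LD2_c41 LD3_c19)) :=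
  Lgr Lrot104 (Lpe (f230755 IH) (Lpe (K14.f254250 IH) (Lpe (f254252 IH) (Lpr_gf (K15.f264003 IH) (Lpe (K16.f258154 IH) (Lpe (K18.f248089 IH) (Lpr_df (K18.f293750 IH) (Lpe (K21.f293742 IH) (Lpr_ct (f268067 IH) (Lpn (LP (LK LD1_c18 LD2_c41 LD3_c19))))))))))))
theorem f256409 : Led Lsl_ct (LP (LK LD1_c10 LD2_c9 LD3_c51)) = (LP (LK LD1_c18 LD2_c30 LD3_c58)) :=
  Lre_c IH (LK LD1_c10 LD2_c9 LD3_c51) (LK LD1_c18 LD2_c30 LD3_c58) Lrfl Lrfl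
theorem f335196 : Led Lsl_bf (LP (LK LD1_c9 LD2_c54 LD3_c54)) = (LP (LK LD1_c10 LD2_c9 LD3_c51)) :=
  Lgr Lrot34 (Lpe (K14.f250125 IH) (Lpe (K14.f250115 IH) (Lpr_ct (f230751 IH) (Lpr_gf (f293758 IH) (Lpe (f268067 IH) (Lpr_gf (K21.f293742 IH) (Lpe (K18.f169888 IH) (Lpr_ct (K18.f169871 IH) (Lpr_gf (f335194 IH) (Lpe (f256409 IH) (Lpn (LP (LK LD1_c10 LD2_c9 LD3_c51)))))))))))))
theorem f335204 : Led Lsl_bt (LP (LK LD1_c17 LD2_c48 LD3_c0)) = (LP (LK LD1_c17 LD2_c46 LD3_c50)) :=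
  Lgr Lrot119 (Lpe (K21.f251639 IH) (Lpr_bf (f335196 IH) (Lpr_ef (K15.f256405 IH) (Lpn (LP (LK LD1_c17 LD2_c46 LD3_c50))))))
theorem f335210 : Led Lsl_bf (LP (LK LD1_c9 LD2_c40 LD3_c35)) = (LP (LK LD1_c9 LD2_c40 LD3_c0)) :=
  Lgr Lrot93 (Lpr_dt (K14.f214980 IH) (Lpr_bt (f335204 IH) (Lpr_dt (K15.f43380 IH) (Lpn (LP (LK LD1_c9 LD2_c40 LD3_c0))))))
theorem f335212 : Led Lsl_bt (LP (LK LD1_c9 LD2_c40 LD3_c35)) = (LP (LK LD1_c9 LD2_c40 LD3_c0)) :=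
  Lgr Lrot127 (Lpr_bf (f335210 IH) (Lpn (LP (LK LD1_c9 LD2_c40 LD3_c0))))
theorem f43310 : Led Lsl_ct (LP (LK LD1_c9 LD2_c40 LD3_c35)) = (LP (LK LD1_c17 LD2_c47 LD3_c61)) :=
  Lre_c IH (LK LD1_c9 LD2_c40 LD3_c35) (LK LD1_c17 LD2_c47 LD3_c61) Lrfl Lrfl
theorem f185932 : Led Lsl_ct (LP (LK LD1_c18 LD2_c17 LD3_c36)) = (LP (LK LD1_c10 LD2_c0 LD3_c38)) :=
  Lre_c IH (LK LD1_c18 LD2_c17 LD3_c36) (LK LD1_c10 LD2_c0 LD3_c38) Lrfl Lrfl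
theorem f185922 : Led Lsl_dt (LP (LK LD1_c27 LD2_c56 LD3_c35)) = (LP (LK LD1_c18 LD2_c17 LD3_c36)) :=
  Lre_d IH (LK LD1_c27 LD2_c56 LD3_c35) (LK LD1_c18 LD2_c17 LD3_c36) Lrfl Lrfl
theorem f330778 : Led Lsl_gt (LP (LK LD1_c17 LD2_c47 LD3_c61)) = (LP (LK LD1_c10 LD2_c12 LD3_c20)) :=
  Lgr Lrot94 (Lpe (f43310 IH) (Lpr_gt (K14.f43309 IH) (Lpr_dt (K13.f43298 IH) (Lpr_gt (K21.f330640 IH) (Lpr_dt (K21.f185939 IH) (Lpe (f185932 IH) (Lpe (f185922 IH) (Lpe (K19.f306191 IH) (Lpe (K19.f212354 IH) (Lpn (LP (LK LD1_c10 LD2_c12 LD3_c20))))))))))))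
theorem f233607 : Led Lsl_ct (LP (LK LD1_c28 LD2_c8 LD3_c22)) = (LP (LK LD1_c18 LD2_c34 LD3_c11)) :=
  Lre_c IH (LK LD1_c28 LD2_c8 LD3_c22) (LK LD1_c18 LD2_c34 LD3_c11) Lrfl Lrfl
theorem f233625 : Led Lsl_df (LP (LK LD1_c28 LD2_c8 LD3_c22)) = (LP (LK LD1_c28 LD2_c9 LD3_c22)) :=
  Lgr Lrot38 (Lpr_dt (K19.f233620 IH) (Lpn (LP (LK LD1_c28 LD2_c9 LD3_c22))))
theorem f212367 : Led Lsl_ct (LP (LK LD1_c18 LD2_c35 LD3_c15)) = (LP (LK LD1_c28 LD2_c9 LD3_c22)) :=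
  Lre_c IH (LK LD1_c18 LD2_c35 LD3_c15) (LK LD1_c28 LD2_c9 LD3_c22) Lrfl Lrfl
theorem f233648 : Led Lsl_cf (LP (LK LD1_c10 LD2_c12 LD3_c20)) = (LP (LK LD1_c5 LD2_c19 LD3_c7)) :=
  Lgr Lrot116 (Lpr_dt (K19.f212354 IH) (Lpr_ct (f212367 IH) (Lpe (f233625 IH) (Lpr_ct (f233607 IH) (Lpr_af (K19.f233605 IH) (Lpr_ff (K19.f233633 IH) (Lpr_dt (K19.f212366 IH) (Lpe (K19.f212333 IH) (Lpr_dt (K1.f46115 IH) (Lpn (LP (LK LD1_c5 LD2_c19 LD3_c7))))))))))))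
theorem f44102 : Led Lsl_gt (LP (LK LD1_c2 LD2_c36 LD3_c29)) = (LP (LK LD1_c5 LD2_c19 LD3_c42)) :=
  Lre_g IH (LK LD1_c2 LD2_c36 LD3_c29) (LK LD1_c5 LD2_c19 LD3_c42) Lrfl Lrfl
theorem f233657 : Led Lsl_ct (LP (LK LD1_c5 LD2_c19 LD3_c42)) = (LP (LK LD1_c10 LD2_c29 LD3_c12)) :=
  Lre_c IH (LK LD1_c5 LD2_c19 LD3_c42) (LK LD1_c10 LD2_c29 LD3_c12) Lrfl Lrfl
theorem f335239 : Led Lsl_gt (LP (LK LD1_c10 LD2_c29 LD3_c12)) = (LP (LK LD1_c10 LD2_c26 LD3_c42)) :=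
  Lgr Lrot149 (Lpe (f233657 IH) (Lpe (f44102 IH) (Lpe (K1.f44090 IH) (Lpe (f233648 IH) (Lpe (f330778 IH) (Lpe (f43310 IH) (Lpr_bt (f335212 IH) (Lpe (K15.f43370 IH) (Lpe (K15.f43360 IH) (Lpr_ct (K21.f184030 IH) (Lpn (LP (LK LD1_c10 LD2_c26 LD3_c42)))))))))))))
theorem f306078 : Led Lsl_cf (LP (LK LD1_c10 LD2_c3 LD3_c27)) = (LP (LK LD1_c17 LD2_c47 LD3_c5)) :=
  Lgr Lrot11 (Lpr_ct (K19.f306070 IH) (Lpn (LP (LK LD1_c17 LD2_c47 LD3_c5))))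
theorem f293099 : Led Lsl_bt (LP (LK LD1_c8 LD2_c54 LD3_c13)) = (LP (LK LD1_c4 LD2_c28 LD3_c14)) :=
  Lre_b IH (LK LD1_c8 LD2_c54 LD3_c13) (LK LD1_c4 LD2_c28 LD3_c14) Lrfl Lrfl
theorem f293968 : Led Lsl_dt (LP (LK LD1_c10 LD2_c3 LD3_c27)) = (LP (LK LD1_c8 LD2_c54 LD3_c13)) :=
  Lgr Lrot79 (Lpe (K18.f293762 IH) (Lpr_df (K18.f293966 IH) (Lpe (f293099 IH) (Lpn (LP (LK LD1_c8 LD2_c54 LD3_c13))))))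
theorem f293105 : Led Lsl_ct (LP (LK LD1_c16 LD2_c39 LD3_c16)) = (LP (LK LD1_c8 LD2_c54 LD3_c13)) :=
  Lre_c IH (LK LD1_c16 LD2_c39 LD3_c16) (LK LD1_c8 LD2_c54 LD3_c13) Lrfl Lrfl
theorem f250465 : Led Lsl_ct (LP (LK LD1_c4 LD2_c54 LD3_c21)) = (LP (LK LD1_c9 LD2_c40 LD3_c9)) :=
  Lre_c IH (LK LD1_c4 LD2_c54 LD3_c21) (LK LD1_c9 LD2_c40 LD3_c9) Lrfl Lrfl
theorem f167972 : Led Lsl_gt (LP (LK LD1_c3 LD2_c58 LD3_c26)) = (LP (LK LD1_c7 LD2_c58 LD3_c15)) :=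
  Lre_g IH (LK LD1_c3 LD2_c58 LD3_c26) (LK LD1_c7 LD2_c58 LD3_c15) Lrfl Lrfl
theorem f167985 : Led Lsl_ct (LP (LK LD1_c7 LD2_c58 LD3_c15)) = (LP (LK LD1_c15 LD2_c2 LD3_c14)) :=
  Lre_c IH (LK LD1_c7 LD2_c58 LD3_c15) (LK LD1_c15 LD2_c2 LD3_c14) Lrfl Lrfl
theorem f306533 : Led Lsl_gf (LP (LK LD1_c16 LD2_c39 LD3_c16)) = (LP (LK LD1_c15 LD2_c2 LD3_c14)) :=
  Lgr Lrot104 (Lpr_ct (f293105 IH) (Lpe (f293968 IH) (Lpr_cf (f306078 IH) (Lpe (K19.f233451 IH) (Lpe (f250465 IH) (Lpr_gf (K19.f300186 IH) (Lpe (K19.f300193 IH) (Lpr_gt (f167972 IH) (Lpr_ct (f167985 IH) (Lpn (LP (LK LD1_c15 LD2_c2 LD3_c14))))))))))))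

end

end K22

end

end Cfsg.Agent.Helper28.S1692
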