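import Cfsg.Agent.Lib.Helper28.S1692.Seeds22

set_option autoImplicit false
set_option maxRecDepth 100000
set_option linter.all false

namespace Cfsg.Agent.Helper28.S1692

open Cfsg.Agent.Helper28
open Cfsg.Spor.ON (Gen)

noncomputable section

namespace K23
abbrev LD1_c0 := D1.c0
abbrev LD1_c1 := D1.c1
abbrev LD1_c2 := D1.c2
abbrev LD1_c3 := D1.c3
abbrev LD1_c4 := D1.c4
abbrev LD1_c5 := D1.c5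
abbrev LD1_c6 := D1.c6
abbrev LD1_c7 := D1.c7
abbrev LD1_c8 := D1.c8
abbrev LD1_c9 := D1.c9
abbrev LD1_c10 := D1.c10
abbrev LD1_c11 := D1.c11
abbrev LD1_c12 := D1.c12
abbrev LD1_c13 := D1.c13
abbrev LD1_c14 := D1.c14
abbrev LD1_c15 := D1.c15
abbrev LD1_c16 := D1.c16
abbrev LD1_c17 := D1.c17
abbrev LD1_c18 := D1.c18
abbrev LD1_c19 := D1.c19
abbrev LD1_c20 := D1.c20
abbrev LD1_c21 := D1.c21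
abbrev LD1_c22 := D1.c22
abbrev LD1_c23 := D1.c23
abbrev LD1_c24 := D1.c24
abbrev LD1_c25 := D1.c25
abbrev LD1_c26 := D1.c26
abbrev LD1_c27 := D1.c27
abbrev LD1_c28 := D1.c28
abbrev LD1_c29 := D1.c29
abbrev LD1_c30 := D1.c30
abbrev LD1_c31 := D1.c31
abbrev LD1_c32 := D1.c32
abbrev LD2_c0 := D2.c0
abbrev LD2_c1 := D2.c1
abbrev LD2_c2 := D2.c2
abbrev LD2_c3 := D2.c3
abbrev LD2_c4 := D2.c4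
abbrev LD2_c5 := D2.c5
abbrev LD2_c6 := D2.c6
abbrev LD2_c7 := D2.c7
abbrev LD2_c8 := D2.c8
abbrev LD2_c9 := D2.c9
abbrev LD2_c10 := D2.c10
abbrev LD2_c11 := D2.c11
abbrev LD2_c12 := D2.c12
abbrev LD2_c13 := D2.c13
abbrev LD2_c14 := D2.c14
abbrev LD2_c15 := D2.c15
abbrev LD2_c16 := D2.c16
abbrev LD2_c17 := D2.c17
abbrev LD2_c18 := D2.c18
abbrev LD2_c19 := D2.c19
abbrev LD2_c20 := D2.c20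
abbrev LD2_c21 := D2.c21
abbrev LD2_c22 := D2.c22
abbrev LD2_c23 := D2.c23
abbrev LD2_c24 := D2.c24
abbrev LD2_c25 := D2.c25
abbrev LD2_c26 := D2.c26
abbrev LD2_c27 := D2.c27
abbrev LD2_c28 := D2.c28
abbrev LD2_c29 := D2.c29
abbrev LD2_c30 := D2.c30
abbrev LD2_c31 := D2.c31
abbrev LD2_c32 := D2.c32
abbrev LD2_c33 := D2.c33
abbrev LD2_c34 := D2.c34
abbrev LD2_c35 := D2.c35
abbrev LD2_c36 := D2.c36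
abbrev LD2_c37 := D2.c37
abbrev LD2_c38 := D2.c38
abbrev LD2_c39 := D2.c39
abbrev LD2_c40 := D2.c40
abbrev LD2_c41 := D2.c41
abbrev LD2_c42 := D2.c42
abbrev LD2_c43 := D2.c43
abbrev LD2_c44 := D2.c44
abbrev LD2_c45 := D2.c45
abbrev LD2_c46 := D2.c46
abbrev LD2_c47 := D2.c47
abbrev LD2_c48 := D2.c48
abbrev LD2_c49 := D2.c49
abbrev LD2_c50 := D2.c50
abbrev LD2_c51 := D2.c51
abbrev LD2_c52 := D2.c52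
abbrev LD2_c53 := D2.c53
abbrev LD2_c54 := D2.c54
abbrev LD2_c55 := D2.c55
abbrev LD2_c56 := D2.c56
abbrev LD2_c57 := D2.c57
abbrev LD2_c58 := D2.c58
abbrev LD2_c59 := D2.c59
abbrev LD3_c0 := D3.c0
abbrev LD3_c1 := D3.c1
abbrev LD3_c2 := D3.c2
abbrev LD3_c3 := D3.c3
abbrev LD3_c4 := D3.c4
abbrev LD3_c5 := D3.c5
abbrev LD3_c6 := D3.c6
abbrev LD3_c7 := D3.c7
abbrev LD3_c8 := D3.c8
abbrev LD3_c9 := D3.c9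
abbrev LD3_c10 := D3.c10
abbrev LD3_c11 := D3.c11
abbrev LD3_c12 := D3.c12
abbrev LD3_c13 := D3.c13
abbrev LD3_c14 := D3.c14
abbrev LD3_c15 := D3.c15
abbrev LD3_c16 := D3.c16
abbrev LD3_c17 := D3.c17
abbrev LD3_c18 := D3.c18
abbrev LD3_c19 := D3.c19
abbrev LD3_c20 := D3.c20
abbrev LD3_c21 := D3.c21
abbrev LD3_c22 := D3.c22
abbrev LD3_c23 := D3.c23
abbrev LD3_c24 := D3.c24
abbrev LD3_c25 := D3.c25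
abbrev LD3_c26 := D3.c26
abbrev LD3_c27 := D3.c27
abbrev LD3_c28 := D3.c28
abbrev LD3_c29 := D3.c29
abbrev LD3_c30 := D3.c30
abbrev LD3_c31 := D3.c31
abbrev LD3_c32 := D3.c32
abbrev LD3_c33 := D3.c33
abbrev LD3_c34 := D3.c34
abbrev LD3_c35 := D3.c35
abbrev LD3_c36 := D3.c36
abbrev LD3_c37 := D3.c37
abbrev LD3_c38 := D3.c38
abbrev LD3_c39 := D3.c39
abbrev LD3_c40 := D3.c40
abbrev LD3_c41 := D3.c41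
abbrev LD3_c42 := D3.c42
abbrev LD3_c43 := D3.c43
abbrev LD3_c44 := D3.c44
abbrev LD3_c45 := D3.c45
abbrev LD3_c46 := D3.c46
abbrev LD3_c47 := D3.c47
abbrev LD3_c48 := D3.c48
abbrev LD3_c49 := D3.c49
abbrev LD3_c50 := D3.c50
abbrev LD3_c51 := D3.c51
abbrev LD3_c52 := D3.c52
abbrev LD3_c53 := D3.c53
abbrev LD3_c54 := D3.c54
abbrev LD3_c55 := D3.c55
abbrev LD3_c56 := D3.c56
abbrev LD3_c57 := D3.c57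
abbrev LD3_c58 := D3.c58
abbrev LD3_c59 := D3.c59
abbrev LD3_c60 := D3.c60
abbrev LD3_c61 := D3.c61
abbrev LG_g := Gen.g
abbrev Lsl_gt : Gen × Bool := sl_gt
alias Lfl_gt := fl_gt
alias Lpr_gt := pr_gt
abbrev Lsl_gf : Gen × Bool := sl_gf
alias Lfl_gf := fl_gf
alias Lpr_gf := pr_gf
alias Lre_g := re_g
alias Leoe_g := eoe_g
abbrev LG_a := Gen.a
abbrev Lsl_at : Gen × Bool := sl_at
alias Lfl_at := fl_at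
alias Lpr_at := pr_at
abbrev Lsl_af : Gen × Bool := sl_af
alias Lfl_af := fl_af
alias Lpr_af := pr_af
alias Lre_a := re_a
alias Leoe_a := eoe_a
abbrev LG_b := Gen.b
abbrev Lsl_bt : Gen × Bool := sl_bt
alias Lfl_bt := fl_bt
alias Lpr_bt := pr_bt
abbrev Lsl_bf : Gen × Bool := sl_bf
alias Lfl_bf := fl_bf
alias Lpr_bf := pr_bf
alias Lre_b := re_b
alias Leoe_b := eoe_b
abbrev LG_c := Gen.c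
abbrev Lsl_ct : Gen × Bool := sl_ct
alias Lfl_ct := fl_ct
alias Lpr_ct := pr_ct
abbrev Lsl_cf : Gen × Bool := sl_cf
alias Lfl_cf := fl_cf
alias Lpr_cf := pr_cf
alias Lre_c := re_c
alias Leoe_c := eoe_c
abbrev LG_d := Gen.d
abbrev Lsl_dt : Gen × Bool := sl_dt
alias Lfl_dt := fl_dt
alias Lpr_dt := pr_dt
abbrev Lsl_df : Gen × Bool := sl_df
alias Lfl_df := fl_df
alias Lpr_df := pr_df
alias Lre_d := re_d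
alias Leoe_d := eoe_d
abbrev LG_e := Gen.e
abbrev Lsl_et : Gen × Bool := sl_et
alias Lfl_et := fl_et
alias Lpr_et := pr_et
abbrev Lsl_ef : Gen × Bool := sl_ef
alias Lfl_ef := fl_ef
alias Lpr_ef := pr_ef
alias Lre_e := re_e
alias Leoe_e := eoe_e
abbrev LG_f := Gen.f
abbrev Lsl_ft : Gen × Bool := sl_ft
alias Lfl_ft := fl_ft
alias Lpr_ft := pr_ft
abbrev Lsl_ff : Gen × Bool := sl_ff
alias Lfl_ff := fl_ff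
alias Lpr_ff := pr_ff
alias Lre_f := re_f
alias Leoe_f := eoe_f
abbrev LK := Pt.mk
abbrev LQ : Type := Qt rels S
abbrev LP (p : Pt) : LQ := P p
abbrev Led (l : Gen × Bool) (c : LQ) : LQ := ed l c
abbrev LEOK (x : Gen) (p : Pt) : Prop := EntryOK rels S fwd inv o plet idx x p
alias Lpe := pe
alias Lpn := pn
alias Lgr := gr
alias Lpq := pq
alias Lpqs := pqs
alias Llr := lr
alias Leop := eop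
alias Lefun := efun
alias Lecon := econ
theorem Lrfl {α : Sort _} {a : α} : a = a := rfl
alias Lrot0 := rot0
alias Lrot1 := rot1
alias Lrot2 := rot2
alias Lrot3 := rot3
alias Lrot4 := rot4
alias Lrot5 := rot5
alias Lrot6 := rot6
alias Lrot7 := rot7
alias Lrot8 := rot8
alias Lrot9 := rot9
alias Lrot10 := rot10
alias Lrot11 := rot11
alias Lrot12 := rot12
alias Lrot13 := rot13
alias Lrot14 := rot14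
alias Lrot15 := rot15
alias Lrot17 := rot17
alias Lrot18 := rot18
alias Lrot19 := rot19
alias Lrot20 := rot20
alias Lrot21 := rot21
alias Lrot22 := rot22
alias Lrot23 := rot23
alias Lrot24 := rot24
alias Lrot25 := rot25
alias Lrot26 := rot26
alias Lrot27 := rot27
alias Lrot28 := rot28
alias Lrot29 := rot29
alias Lrot30 := rot30
alias Lrot31 := rot31
alias Lrot33 := rot33
alias Lrot34 := rot34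
alias Lrot35 := rot35
alias Lrot36 := rot36
alias Lrot37 := rot37
alias Lrot38 := rot38
alias Lrot39 := rot39
alias Lrot40 := rot40
alias Lrot42 := rot42
alias Lrot43 := rot43
alias Lrot44 := rot44
alias Lrot45 := rot45
alias Lrot46 := rot46
alias Lrot47 := rot47
alias Lrot48 := rot48
alias Lrot49 := rot49
alias Lrot50 := rot50
alias Lrot51 := rot51
alias Lrot52 := rot52
alias Lrot54 := rot54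
alias Lrot55 := rot55
alias Lrot56 := rot56
alias Lrot57 := rot57
alias Lrot58 := rot58
alias Lrot59 := rot59
alias Lrot60 := rot60
alias Lrot61 := rot61
alias Lrot62 := rot62
alias Lrot63 := rot63
alias Lrot64 := rot64
alias Lrot65 := rot65
alias Lrot66 := rot66
alias Lrot67 := rot67
alias Lrot68 := rot68
alias Lrot69 := rot69
alias Lrot70 := rot70
alias Lrot71 := rot71
alias Lrot72 := rot72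
alias Lrot73 := rot73
alias Lrot74 := rot74
alias Lrot75 := rot75
alias Lrot76 := rot76
alias Lrot77 := rot77
alias Lrot78 := rot78
alias Lrot79 := rot79
alias Lrot80 := rot80
alias Lrot81 := rot81
alias Lrot82 := rot82
alias Lrot83 := rot83
alias Lrot84 := rot84
alias Lrot86 := rot86
alias Lrot87 := rot87
alias Lrot88 := rot88
alias Lrot90 := rot90
alias Lrot91 := rot91
alias Lrot92 := rot92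
alias Lrot93 := rot93
alias Lrot94 := rot94
alias Lrot95 := rot95
alias Lrot96 := rot96
alias Lrot97 := rot97
alias Lrot98 := rot98
alias Lrot99 := rot99
alias Lrot100 := rot100
alias Lrot101 := rot101
alias Lrot103 := rot103
alias Lrot104 := rot104
alias Lrot105 := rot105
alias Lrot107 := rot107
alias Lrot108 := rot108
alias Lrot109 := rot109
alias Lrot110 := rot110
alias Lrot111 := rot111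
alias Lrot112 := rot112
alias Lrot113 := rot113
alias Lrot114 := rot114
alias Lrot115 := rot115
alias Lrot117 := rot117
alias Lrot118 := rot118
alias Lrot119 := rot119
alias Lrot120 := rot120
alias Lrot121 := rot121
alias Lrot122 := rot122
alias Lrot123 := rot123
alias Lrot124 := rot124
alias Lrot125 := rot125
alias Lrot126 := rot126
alias Lrot127 := rot127
alias Lrot128 := rot128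
alias Lrot129 := rot129
alias Lrot130 := rot130
alias Lrot131 := rot131
alias Lrot132 := rot132
alias Lrot133 := rot133
alias Lrot134 := rot134
alias Lrot135 := rot135
alias Lrot136 := rot136
alias Lrot137 := rot137
alias Lrot138 := rot138
alias Lrot139 := rot139
alias Lrot140 := rot140
alias Lrot141 := rot141
alias Lrot142 := rot142
alias Lrot143 := rot143
alias Lrot144 := rot144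
alias Lrot145 := rot145
alias Lrot146 := rot146
alias Lrot147 := rot147
alias Lrot148 := rot148
alias Lrot149 := rot149
alias Lrot150 := rot150
alias Lrot152 := rot152
alias Lrot153 := rot153
alias Lrot154 := rot154
alias Lrot155 := rot155
alias Lrot156 := rot156
alias Lrot157 := rot157
alias Lrot158 := rot158
alias Lrot159 := rot159
alias Lrot160 := rot160
alias Lrot161 := rot161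
alias Lrot162 := rot162
alias Lrot163 := rot163
alias Lrot164 := rot164
alias Lrot165 := rot165
alias Lrot166 := rot166
alias Lrot167 := rot167
alias Lrot168 := rot168
alias Lrot169 := rot169
alias Lrot170 := rot170
alias Lrot171 := rot171
alias Lrot172 := rot172
alias Lrot173 := rot173
alias Lrot174 := rot174
alias Lrot176 := rot176
alias Lrot177 := rot177
alias Lrot179 := rot179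
alias Lrot180 := rot180
alias Lrot181 := rot181
alias Lrot185 := rot185
alias Lrot189 := rot189

section
variable (IH : IHT)
include IH

theorem f293964 : Led Lsl_gf (LP (LK LD1_c8 LD2_c8 LD3_c14)) = (LP (LK LD1_c4 LD2_c28 LD3_c14)) :=
  Lgr Lrot47 (Lpr_gt (K20.f242941 IH) (Lpr_af (K18.f293951 IH) (Lpe (K18.f265410 IH) (Lpn (LP (LK LD1_c4 LD2_c28 LD3_c14))))))
theorem f167963 : Led Lsl_bt (LP (LK LD1_c7 LD2_c58 LD3_c10)) = (LP (LK LD1_c3 LD2_c58 LD3_c26)) :=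
  Lre_b IH (LK LD1_c7 LD2_c58 LD3_c10) (LK LD1_c3 LD2_c58 LD3_c26) Lrfl Lrfl
theorem f167953 : Led Lsl_et (LP (LK LD1_c7 LD2_c58 LD3_c10)) = (LP (LK LD1_c3 LD2_c58 LD3_c24)) :=
  Lre_e IH (LK LD1_c7 LD2_c58 LD3_c10) (LK LD1_c3 LD2_c58 LD3_c24) Lrfl Lrfl
theorem f167954 : Led Lsl_et (LP (LK LD1_c2 LD2_c37 LD3_c5)) = (LP (LK LD1_c5 LD2_c20 LD3_c57)) :=
  Lre_e IH (LK LD1_c2 LD2_c37 LD3_c5) (LK LD1_c5 LD2_c20 LD3_c57) Lrfl Lrfl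
theorem f167955 : Led Lsl_cf (LP (LK LD1_c7 LD2_c58 LD3_c10)) = (LP (LK LD1_c5 LD2_c20 LD3_c57)) :=
  Lgr Lrot39 (Lpr_et (f167953 IH) (Lpr_ct (K12.f167943 IH) (Lpr_et (f167954 IH) (Lpn (LP (LK LD1_c5 LD2_c20 LD3_c57))))))
theorem f167969 : Led Lsl_ct (LP (LK LD1_c7 LD2_c58 LD3_c10)) = (LP (LK LD1_c5 LD2_c20 LD3_c57)) :=
  Lgr Lrot59 (Lpr_cf (f167955 IH) (Lpn (LP (LK LD1_c5 LD2_c20 LD3_c57))))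
theorem f277166 : Led Lsl_dt (LP (LK LD1_c10 LD2_c36 LD3_c2)) = (LP (LK LD1_c19 LD2_c11 LD3_c50)) :=
  Lre_d IH (LK LD1_c10 LD2_c36 LD3_c2) (LK LD1_c19 LD2_c11 LD3_c50) Lrfl Lrfl
theorem f169874 : Led Lsl_gt (LP (LK LD1_c5 LD2_c5 LD3_c19)) = (LP (LK LD1_c10 LD2_c1 LD3_c42)) :=
  Lre_g IH (LK LD1_c5 LD2_c5 LD3_c19) (LK LD1_c10 LD2_c1 LD3_c42) Lrfl Lrfl
theorem f235163 : Led Lsl_gt (LP (LK LD1_c5 LD2_c20 LD3_c47)) = (LP (LK LD1_c2 LD2_c37 LD3_c1)) :=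
  Lre_g IH (LK LD1_c5 LD2_c20 LD3_c47) (LK LD1_c2 LD2_c37 LD3_c1) Lrfl Lrfl
theorem f258109 : Led Lsl_et (LP (LK LD1_c10 LD2_c31 LD3_c41)) = (LP (LK LD1_c5 LD2_c20 LD3_c47)) :=
  Lre_e IH (LK LD1_c10 LD2_c31 LD3_c41) (LK LD1_c5 LD2_c20 LD3_c47) Lrfl Lrfl
theorem f258120 : Led Lsl_dt (LP (LK LD1_c10 LD2_c31 LD3_c41)) = (LP (LK LD1_c10 LD2_c1 LD3_c42)) :=
  Lgr Lrot37 (Lpr_et (f258109 IH) (Lpr_gt (f235163 IH) (Lpe (K15.f258095 IH) (Lpr_gt (K15.f258111 IH) (Lpe (K15.f183939 IH) (Lpr_et (K15.f183938 IH) (Lpe (K14.f196047 IH) (Lpe (K14.f192891 IH) (Lpe (K20.f230816 IH) (Lpr_gt (f169874 IH) (Lpn (LP (LK LD1_c10 LD2_c1 LD3_c42)))))))))))))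
theorem f258124 : Led Lsl_df (LP (LK LD1_c10 LD2_c31 LD3_c41)) = (LP (LK LD1_c10 LD2_c1 LD3_c42)) :=
  Lgr Lrot38 (Lpr_dt (f258120 IH) (Lpn (LP (LK LD1_c10 LD2_c1 LD3_c42))))
theorem f258122 : Led Lsl_ct (LP (LK LD1_c19 LD2_c4 LD3_c35)) = (LP (LK LD1_c10 LD2_c31 LD3_c41)) :=
  Lre_c IH (LK LD1_c19 LD2_c4 LD3_c35) (LK LD1_c10 LD2_c31 LD3_c41) Lrfl Lrfl
theorem f258123 : Led Lsl_dt (LP (LK LD1_c28 LD2_c30 LD3_c46)) = (LP (LK LD1_c19 LD2_c4 LD3_c35)) :=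
  Lre_d IH (LK LD1_c28 LD2_c30 LD3_c46) (LK LD1_c19 LD2_c4 LD3_c35) Lrfl Lrfl
theorem f278538 : Led Lsl_gt (LP (LK LD1_c19 LD2_c11 LD3_c50)) = (LP (LK LD1_c28 LD2_c30 LD3_c46)) :=
  Lgr Lrot49 (Lpe (f277166 IH) (Lpe (K16.f277151 IH) (Lpe (K16.f224161 IH) (Lpr_gt (K20.f278534 IH) (Lpe (K20.f230816 IH) (Lpr_gt (f169874 IH) (Lpe (f258124 IH) (Lpe (f258122 IH) (Lpe (f258123 IH) (Lpn (LP (LK LD1_c28 LD2_c30 LD3_c46))))))))))))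
theorem f258141 : Led Lsl_dt (LP (LK LD1_c19 LD2_c4 LD3_c35)) = (LP (LK LD1_c28 LD2_c30 LD3_c46)) :=
  Lre_d IH (LK LD1_c19 LD2_c4 LD3_c35) (LK LD1_c28 LD2_c30 LD3_c46) Lrfl Lrfl
theorem f278543 : Led Lsl_et (LP (LK LD1_c19 LD2_c4 LD3_c35)) = (LP (LK LD1_c10 LD2_c31 LD3_c40)) :=
  Lre_e IH (LK LD1_c19 LD2_c4 LD3_c35) (LK LD1_c10 LD2_c31 LD3_c40) Lrfl Lrfl
theorem f278544 : Led Lsl_gf (LP (LK LD1_c5 LD2_c20 LD3_c57)) = (LP (LK LD1_c10 LD2_c31 LD3_c40)) :=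
  Lgr Lrot141 (Lpe (f167954 IH) (Lpr_dt (K16.f167952 IH) (Lpe (K16.f277481 IH) (Lpe (K16.f224168 IH) (Lpr_et (K16.f277020 IH) (Lpr_gt (K16.f277151 IH) (Lpr_dt (f277166 IH) (Lpr_gt (f278538 IH) (Lpe (f258141 IH) (Lpr_et (f278543 IH) (Lpn (LP (LK LD1_c10 LD2_c31 LD3_c40)))))))))))))
theorem f258103 : Led Lsl_ct (LP (LK LD1_c5 LD2_c20 LD3_c47)) = (LP (LK LD1_c10 LD2_c31 LD3_c40)) :=
  Lre_c IH (LK LD1_c5 LD2_c20 LD3_c47) (LK LD1_c10 LD2_c31 LD3_c40) Lrfl Lrfl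
theorem f306537 : Led Lsl_bf (LP (LK LD1_c8 LD2_c8 LD3_c14)) = (LP (LK LD1_c5 LD2_c20 LD3_c47)) :=
  Lgr Lrot34 (Lpr_gf (f293964 IH) (Lpe (K22.f293099 IH) (Lpr_ct (K17.f293100 IH) (Lpr_gf (K22.f306533 IH) (Lpe (K22.f167985 IH) (Lpe (K22.f167972 IH) (Lpe (f167963 IH) (Lpr_ct (f167969 IH) (Lpr_gf (f278544 IH) (Lpe (f258103 IH) (Lpn (LP (LK LD1_c5 LD2_c20 LD3_c47)))))))))))))
theorem f306543 : Led Lsl_bt (LP (LK LD1_c15 LD2_c19 LD3_c20)) = (LP (LK LD1_c10 LD2_c31 LD3_c41)) :=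
  Lgr Lrot119 (Lpe (K20.f242956 IH) (Lpr_bf (f306537 IH) (Lpe (f258109 IH) (Lpn (LP (LK LD1_c10 LD2_c31 LD3_c41))))))
theorem f306547 : Led Lsl_bf (LP (LK LD1_c10 LD2_c14 LD3_c45)) = (LP (LK LD1_c10 LD2_c1 LD3_c42)) :=
  Lgr Lrot93 (Lpr_dt (K20.f266146 IH) (Lpr_bt (f306543 IH) (Lpr_dt (f258120 IH) (Lpn (LP (LK LD1_c10 LD2_c1 LD3_c42))))))
theorem f266148 : Led Lsl_et (LP (LK LD1_c10 LD2_c14 LD3_c45)) = (LP (LK LD1_c10 LD2_c30 LD3_c28)) :=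
  Lgr Lrot87 (Lpr_ef (K20.f266144 IH) (Lpn (LP (LK LD1_c10 LD2_c30 LD3_c28))))
theorem f258107 : Led Lsl_et (LP (LK LD1_c5 LD2_c20 LD3_c47)) = (LP (LK LD1_c10 LD2_c31 LD3_c41)) :=
  Lre_e IH (LK LD1_c5 LD2_c20 LD3_c47) (LK LD1_c10 LD2_c31 LD3_c41) Lrfl Lrfl
theorem f200366 : Led Lsl_et (LP (LK LD1_c5 LD2_c12 LD3_c0)) = (LP (LK LD1_c2 LD2_c32 LD3_c52)) :=
  Lre_e IH (LK LD1_c5 LD2_c12 LD3_c0) (LK LD1_c2 LD2_c32 LD3_c52) Lrfl Lrfl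
theorem f258100 : Led Lsl_et (LP (LK LD1_c10 LD2_c29 LD3_c14)) = (LP (LK LD1_c5 LD2_c19 LD3_c42)) :=
  Lre_e IH (LK LD1_c10 LD2_c29 LD3_c14) (LK LD1_c5 LD2_c19 LD3_c42) Lrfl Lrfl
theorem f258101 : Led Lsl_dt (LP (LK LD1_c10 LD2_c29 LD3_c14)) = (LP (LK LD1_c5 LD2_c20 LD3_c47)) :=
  Lgr Lrot136 (Lpr_et (f258100 IH) (Lpe (K22.f44102 IH) (Lpe (K1.f44098 IH) (Lpr_dt (K9.f45900 IH) (Lpe (K10.f189586 IH) (Lpe (K13.f190314 IH) (Lpe (K15.f186799 IH) (Lpe (f200366 IH) (Lpr_dt (K15.f258069 IH) (Lpe (f235163 IH) (Lpn (LP (LK LD1_c5 LD2_c20 LD3_c47)))))))))))))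
theorem f258106 : Led Lsl_et (LP (LK LD1_c5 LD2_c19 LD3_c42)) = (LP (LK LD1_c10 LD2_c29 LD3_c14)) :=
  Lre_e IH (LK LD1_c5 LD2_c19 LD3_c42) (LK LD1_c10 LD2_c29 LD3_c14) Lrfl Lrfl
theorem f212329 : Led Lsl_dt (LP (LK LD1_c10 LD2_c29 LD3_c13)) = (LP (LK LD1_c5 LD2_c19 LD3_c42)) :=
  Lre_d IH (LK LD1_c10 LD2_c29 LD3_c13) (LK LD1_c5 LD2_c19 LD3_c42) Lrfl Lrfl
theorem f258126 : Led Lsl_ef (LP (LK LD1_c10 LD2_c29 LD3_c13)) = (LP (LK LD1_c10 LD2_c1 LD3_c42)) :=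
  Lgr Lrot73 (Lpr_dt (f212329 IH) (Lpr_et (f258106 IH) (Lpr_dt (f258101 IH) (Lpr_et (f258107 IH) (Lpr_dt (f258120 IH) (Lpn (LP (LK LD1_c10 LD2_c1 LD3_c42))))))))
theorem f258131 : Led Lsl_et (LP (LK LD1_c10 LD2_c29 LD3_c13)) = (LP (LK LD1_c10 LD2_c1 LD3_c42)) :=
  Lgr Lrot87 (Lpr_ef (f258126 IH) (Lpn (LP (LK LD1_c10 LD2_c1 LD3_c42))))
theorem f306551 : Led Lsl_bt (LP (LK LD1_c10 LD2_c30 LD3_c28)) = (LP (LK LD1_c10 LD2_c29 LD3_c13)) :=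
  Lgr Lrot119 (Lpe (f266148 IH) (Lpr_bf (f306547 IH) (Lpe (f258131 IH) (Lpn (LP (LK LD1_c10 LD2_c29 LD3_c13))))))
theorem f306555 : Led Lsl_bf (LP (LK LD1_c5 LD2_c20 LD3_c14)) = (LP (LK LD1_c5 LD2_c19 LD3_c42)) :=
  Lgr Lrot93 (Lpr_dt (K20.f46317 IH) (Lpr_bt (f306551 IH) (Lpr_dt (f212329 IH) (Lpn (LP (LK LD1_c5 LD2_c19 LD3_c42))))))
theorem f43375 : Led Lsl_ct (LP (LK LD1_c9 LD2_c40 LD3_c0)) = (LP (LK LD1_c17 LD2_c46 LD3_c49)) :=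
  Lre_c IH (LK LD1_c9 LD2_c40 LD3_c0) (LK LD1_c17 LD2_c46 LD3_c49) Lrfl Lrfl
theorem f335243 : Led Lsl_gf (LP (LK LD1_c9 LD2_c58 LD3_c19)) = (LP (LK LD1_c17 LD2_c46 LD3_c49)) :=
  Lgr Lrot129 (Lpe (K19.f190723 IH) (Lpr_bt (K1.f44081 IH) (Lpe (K20.f46315 IH) (Lpr_bf (f306555 IH) (Lpr_ct (K22.f233657 IH) (Lpr_gt (K22.f335239 IH) (Lpe (K21.f184030 IH) (Lpr_bt (K15.f43360 IH) (Lpr_gt (K15.f43370 IH) (Lpr_ct (f43375 IH) (Lpn (LP (LK LD1_c17 LD2_c46 LD3_c49)))))))))))))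
theorem f335245 : Led Lsl_gt (LP (LK LD1_c9 LD2_c57 LD3_c23)) = (LP (LK LD1_c17 LD2_c46 LD3_c49)) :=
  Lgr Lrot5 (Lpe (K14.f233463 IH) (Lpe (K19.f192925 IH) (Lpr_gf (f335243 IH) (Lpn (LP (LK LD1_c17 LD2_c46 LD3_c49))))))
theorem f339894 : Led Lsl_cf (LP (LK LD1_c17 LD2_c47 LD3_c58)) = (LP (LK LD1_c10 LD2_c28 LD3_c13)) :=
  Lgr Lrot163 (Lpe (K21.f43588 IH) (Lpe (K13.f43306 IH) (Lpe (K14.f43309 IH) (Lpr_bf (K22.f335210 IH) (Lpr_ct (f43375 IH) (Lpe (f335245 IH) (Lpe (K19.f233468 IH) (Lpe (K1.f45837 IH) (Lpr_gf (K21.f46987 IH) (Lpr_bf (K22.f339880 IH) (Lpn (LP (LK LD1_c10 LD2_c28 LD3_c13)))))))))))))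
theorem f339899 : Led Lsl_ct (LP (LK LD1_c17 LD2_c47 LD3_c58)) = (LP (LK LD1_c10 LD2_c28 LD3_c13)) :=
  Lgr Lrot59 (Lpr_cf (f339894 IH) (Lpn (LP (LK LD1_c10 LD2_c28 LD3_c13))))
theorem f214988 : Led Lsl_et (LP (LK LD1_c10 LD2_c10 LD3_c17)) = (LP (LK LD1_c5 LD2_c9 LD3_c44)) :=
  Lre_e IH (LK LD1_c10 LD2_c10 LD3_c17) (LK LD1_c5 LD2_c9 LD3_c44) Lrfl Lrfl
theorem f214987 : Led Lsl_gt (LP (LK LD1_c5 LD2_c9 LD3_c44)) = (LP (LK LD1_c2 LD2_c31 LD3_c57)) :=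
  Lre_g IH (LK LD1_c5 LD2_c9 LD3_c44) (LK LD1_c2 LD2_c31 LD3_c57) Lrfl Lrfl
theorem f307277 : Led Lsl_gf (LP (LK LD1_c9 LD2_c55 LD3_c21)) = (LP (LK LD1_c17 LD2_c48 LD3_c0)) :=
  Lgr Lrot134 (Lpr_df (K21.f307259 IH) (Lpr_et (f214988 IH) (Lpr_gt (f214987 IH) (Lpe (K17.f192574 IH) (Lpr_dt (K14.f165547 IH) (Lpr_gt (K10.f171520 IH) (Lpe (K12.f190992 IH) (Lpr_et (K12.f214113 IH) (Lpr_gt (K14.f214978 IH) (Lpr_dt (K14.f214980 IH) (Lpn (LP (LK LD1_c17 LD2_c48 LD3_c0)))))))))))))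
theorem f307267 : Led Lsl_ct (LP (LK LD1_c9 LD2_c55 LD3_c21)) = (LP (LK LD1_c18 LD2_c9 LD3_c56)) :=
  Lre_c IH (LK LD1_c9 LD2_c55 LD3_c21) (LK LD1_c18 LD2_c9 LD3_c56) Lrfl Lrfl
theorem f307282 : Led Lsl_gt (LP (LK LD1_c18 LD2_c9 LD3_c56)) = (LP (LK LD1_c27 LD2_c50 LD3_c26)) :=
  Lre_g IH (LK LD1_c18 LD2_c9 LD3_c56) (LK LD1_c27 LD2_c50 LD3_c26) Lrfl Lrfl
theorem f46092 : Led Lsl_dt (LP (LK LD1_c18 LD2_c58 LD3_c30)) = (LP (LK LD1_c10 LD2_c28 LD3_c13)) :=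
  Lre_d IH (LK LD1_c18 LD2_c58 LD3_c30) (LK LD1_c10 LD2_c28 LD3_c13) Lrfl Lrfl
theorem f339917 : Led Lsl_ct (LP (LK LD1_c27 LD2_c50 LD3_c26)) = (LP (LK LD1_c18 LD2_c58 LD3_c30)) :=
  Lgr Lrot110 (Lpe (f307282 IH) (Lpe (f307267 IH) (Lpr_gf (f307277 IH) (Lpe (K14.f214980 IH) (Lpr_gt (K14.f43309 IH) (Lpr_ct (K13.f43306 IH) (Lpr_gt (K21.f43588 IH) (Lpr_ct (f339899 IH) (Lpe (f46092 IH) (Lpn (LP (LK LD1_c18 LD2_c58 LD3_c30))))))))))))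
theorem f260926 : Led Lsl_et (LP (LK LD1_c5 LD2_c2 LD3_c15)) = (LP (LK LD1_c9 LD2_c55 LD3_c21)) :=
  Lre_e IH (LK LD1_c5 LD2_c2 LD3_c15) (LK LD1_c9 LD2_c55 LD3_c21) Lrfl Lrfl
theorem f185940 : Led Lsl_dt (LP (LK LD1_c10 LD2_c0 LD3_c38)) = (LP (LK LD1_c5 LD2_c4 LD3_c46)) :=
  Lre_d IH (LK LD1_c10 LD2_c0 LD3_c38) (LK LD1_c5 LD2_c4 LD3_c46) Lrfl Lrfl
theorem f330647 : Led Lsl_gt (LP (LK LD1_c9 LD2_c55 LD3_c21)) = (LP (LK LD1_c10 LD2_c0 LD3_c38)) :=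
  Lgr Lrot137 (Lpe (f260926 IH) (Lpr_dt (K21.f260924 IH) (Lpe (K21.f166936 IH) (Lpe (K19.f166917 IH) (Lpr_et (K21.f166902 IH) (Lpr_gf (K14.f249618 IH) (Lpe (K13.f214114 IH) (Lpr_dt (K13.f214115 IH) (Lpr_gf (K21.f330583 IH) (Lpe (f185940 IH) (Lpn (LP (LK LD1_c10 LD2_c0 LD3_c38)))))))))))))
theorem f214367 : Led Lsl_ff (LP (LK LD1_c18 LD2_c11 LD3_c20)) = (LP (LK LD1_c17 LD2_c47 LD3_c60)) :=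
  Lgr Lrot19 (Lpr_dt (K12.f214142 IH) (Lpr_ft (K13.f214340 IH) (Lpr_dt (K13.f43307 IH) (Lpn (LP (LK LD1_c17 LD2_c47 LD3_c60))))))
theorem f214152 : Led Lsl_af (LP (LK LD1_c18 LD2_c30 LD3_c35)) = (LP (LK LD1_c18 LD2_c11 LD3_c20)) :=
  Lgr Lrot0 (Lpr_at (K12.f214148 IH) (Lpn (LP (LK LD1_c18 LD2_c11 LD3_c20))))
theorem f43791 : Led Lsl_gt (LP (LK LD1_c17 LD2_c47 LD3_c60)) = (LP (LK LD1_c27 LD2_c35 LD3_c16)) :=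
  Lre_g IH (LK LD1_c17 LD2_c47 LD3_c60) (LK LD1_c27 LD2_c35 LD3_c16) Lrfl Lrfl
theorem f215007 : Led Lsl_gf (LP (LK LD1_c18 LD2_c30 LD3_c35)) = (LP (LK LD1_c27 LD2_c35 LD3_c16)) :=
  Lgr Lrot76 (Lpr_af (f214152 IH) (Lpr_ff (f214367 IH) (Lpr_gt (f43791 IH) (Lpn (LP (LK LD1_c27 LD2_c35 LD3_c16))))))
theorem f330649 : Led Lsl_dt (LP (LK LD1_c27 LD2_c50 LD3_c26)) = (LP (LK LD1_c27 LD2_c35 LD3_c16)) :=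
  Lgr Lrot57 (Lpe (f307282 IH) (Lpe (f307267 IH) (Lpr_gt (f330647 IH) (Lpr_dt (f185940 IH) (Lpe (K21.f330583 IH) (Lpr_dt (K13.f214115 IH) (Lpe (K12.f214117 IH) (Lpe (K13.f214118 IH) (Lpr_gf (f215007 IH) (Lpn (LP (LK LD1_c27 LD2_c35 LD3_c16))))))))))))
theorem f330652 : Led Lsl_df (LP (LK LD1_c27 LD2_c50 LD3_c26)) = (LP (LK LD1_c27 LD2_c35 LD3_c16)) :=
  Lgr Lrot38 (Lpr_dt (f330649 IH) (Lpn (LP (LK LD1_c27 LD2_c35 LD3_c16))))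
theorem f43314 : Led Lsl_gt (LP (LK LD1_c17 LD2_c47 LD3_c59)) = (LP (LK LD1_c9 LD2_c40 LD3_c34)) :=
  Lre_g IH (LK LD1_c17 LD2_c47 LD3_c59) (LK LD1_c9 LD2_c40 LD3_c34) Lrfl Lrfl
theorem f32216 : Led Lsl_bt (LP (LK LD1_c10 LD2_c26 LD3_c22)) = (LP (LK LD1_c5 LD2_c18 LD3_c19)) :=
  Lre_b IH (LK LD1_c10 LD2_c26 LD3_c22) (LK LD1_c5 LD2_c18 LD3_c19) Lrfl Lrfl
theorem f214407 : Led Lsl_ft (LP (LK LD1_c10 LD2_c9 LD3_c39)) = (LP (LK LD1_c9 LD2_c39 LD3_c61)) :=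
  Lgr Lrot142 (Lpr_dt (K12.f214121 IH) (Lpr_ct (K13.f214122 IH) (Lpr_dt (K13.f214405 IH) (Lpr_ct (K13.f43305 IH) (Lpr_dt (K13.f43304 IH) (Lpr_ct (K13.f43303 IH) (Lpr_dt (K13.f43298 IH) (Lpr_ct (K13.f43306 IH) (Lpr_af (K13.f43660 IH) (Lpn (LP (LK LD1_c9 LD2_c39 LD3_c61))))))))))))
theorem f214990 : Led Lsl_gt (LP (LK LD1_c10 LD2_c9 LD3_c39)) = (LP (LK LD1_c17 LD2_c47 LD3_c59)) :=
  Lgr Lrot5 (Lpr_ft (f214407 IH) (Lpe (K13.f43660 IH) (Lpe (f43314 IH) (Lpn (LP (LK LD1_c17 LD2_c47 LD3_c59))))))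
theorem f330585 : Led Lsl_ct (LP (LK LD1_c10 LD2_c26 LD3_c22)) = (LP (LK LD1_c17 LD2_c47 LD3_c59)) :=
  Lgr Lrot63 (Lpr_bt (f32216 IH) (Lpr_gt (K17.f32207 IH) (Lpe (K1.f32193 IH) (Lpr_ct (K2.f32220 IH) (Lpr_gt (K21.f330579 IH) (Lpe (K21.f163884 IH) (Lpr_bt (K21.f181900 IH) (Lpe (K21.f330583 IH) (Lpr_ct (K13.f214120 IH) (Lpr_gt (f214990 IH) (Lpn (LP (LK LD1_c17 LD2_c47 LD3_c59)))))))))))))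
theorem f45843 : Led Lsl_dt (LP (LK LD1_c10 LD2_c28 LD3_c13)) = (LP (LK LD1_c18 LD2_c58 LD3_c30)) :=
  Lre_d IH (LK LD1_c10 LD2_c28 LD3_c13) (LK LD1_c18 LD2_c58 LD3_c30) Lrfl Lrfl
theorem f339923 : Led Lsl_gt (LP (LK LD1_c10 LD2_c26 LD3_c22)) = (LP (LK LD1_c5 LD2_c19 LD3_c14)) :=
  Lgr Lrot180 (Lpr_ct (f330585 IH) (Lpr_gt (f43314 IH) (Lpr_dt (K13.f43307 IH) (Lpr_gt (f43791 IH) (Lpe (f330652 IH) (Lpr_ct (f339917 IH) (Lpe (f45843 IH) (Lpe (K19.f43955 IH) (Lpe (K19.f46088 IH) (Lpn (LP (LK LD1_c5 LD2_c19 LD3_c14))))))))))))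
theorem f330603 : Led Lsl_dt (LP (LK LD1_c18 LD2_c56 LD3_c4)) = (LP (LK LD1_c10 LD2_c26 LD3_c22)) :=
  Lre_d IH (LK LD1_c18 LD2_c56 LD3_c4) (LK LD1_c10 LD2_c26 LD3_c22) Lrfl Lrfl
theorem f240280 : Led Lsl_gt (LP (LK LD1_c10 LD2_c14 LD3_c42)) = (LP (LK LD1_c18 LD2_c38 LD3_c37)) :=
  Lre_g IH (LK LD1_c10 LD2_c14 LD3_c42) (LK LD1_c18 LD2_c38 LD3_c37) Lrfl Lrfl
theorem f339931 : Led Lsl_et (LP (LK LD1_c18 LD2_c56 LD3_c4)) = (LP (LK LD1_c18 LD2_c38 LD3_c37)) :=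
  Lgr Lrot122 (Lpr_dt (f330603 IH) (Lpr_gt (f339923 IH) (Lpe (K19.f46088 IH) (Lpr_et (K1.f43940 IH) (Lpe (K12.f46530 IH) (Lpr_dt (K12.f229651 IH) (Lpr_gt (K15.f256272 IH) (Lpe (K16.f240263 IH) (Lpr_et (K20.f240265 IH) (Lpr_gt (f240280 IH) (Lpn (LP (LK LD1_c18 LD2_c38 LD3_c37)))))))))))))
theorem f339935 : Led Lsl_ef (LP (LK LD1_c18 LD2_c56 LD3_c4)) = (LP (LK LD1_c18 LD2_c38 LD3_c37)) :=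
  Lgr Lrot88 (Lpr_et (f339931 IH) (Lpn (LP (LK LD1_c18 LD2_c38 LD3_c37))))
theorem f197046 : Led Lsl_bt (LP (LK LD1_c18 LD2_c56 LD3_c4)) = (LP (LK LD1_c10 LD2_c26 LD3_c24)) :=
  Lre_b IH (LK LD1_c18 LD2_c56 LD3_c4) (LK LD1_c10 LD2_c26 LD3_c24) Lrfl Lrfl
theorem f339937 : Led Lsl_bt (LP (LK LD1_c10 LD2_c24 LD3_c34)) = (LP (LK LD1_c18 LD2_c38 LD3_c37)) :=
  Lgr Lrot119 (Lpe (K22.f335544 IH) (Lpe (f197046 IH) (Lpr_ef (f339935 IH) (Lpn (LP (LK LD1_c18 LD2_c38 LD3_c37))))))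
theorem f257163 : Led Lsl_bt (LP (LK LD1_c10 LD2_c54 LD3_c22)) = (LP (LK LD1_c5 LD2_c31 LD3_c25)) :=
  Lre_b IH (LK LD1_c10 LD2_c54 LD3_c22) (LK LD1_c5 LD2_c31 LD3_c25) Lrfl Lrfl
theorem f339940 : Led Lsl_df (LP (LK LD1_c10 LD2_c54 LD3_c22)) = (LP (LK LD1_c18 LD2_c38 LD3_c37)) :=
  Lgr Lrot12 (Lpr_bt (f257163 IH) (Lpr_dt (K22.f257161 IH) (Lpr_bt (f339937 IH) (Lpn (LP (LK LD1_c18 LD2_c38 LD3_c37))))))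
theorem f335533 : Led Lsl_ct (LP (LK LD1_c19 LD2_c42 LD3_c18)) = (LP (LK LD1_c10 LD2_c54 LD3_c22)) :=
  Lre_c IH (LK LD1_c19 LD2_c42 LD3_c18) (LK LD1_c10 LD2_c54 LD3_c22) Lrfl Lrfl
theorem f335534 : Led Lsl_dt (LP (LK LD1_c29 LD2_c2 LD3_c21)) = (LP (LK LD1_c19 LD2_c42 LD3_c18)) :=
  Lre_d IH (LK LD1_c29 LD2_c2 LD3_c21) (LK LD1_c19 LD2_c42 LD3_c18) Lrfl Lrfl
theorem f277512 : Led Lsl_bt (LP (LK LD1_c8 LD2_c9 LD3_c44)) = (LP (LK LD1_c15 LD2_c22 LD3_c20)) :=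
  Lre_b IH (LK LD1_c8 LD2_c9 LD3_c44) (LK LD1_c15 LD2_c22 LD3_c20) Lrfl Lrfl
theorem f336258 : Led Lsl_cf (LP (LK LD1_c15 LD2_c1 LD3_c32)) = (LP (LK LD1_c8 LD2_c7 LD3_c47)) :=
  Lgr Lrot125 (Lpr_gt (K22.f336256 IH) (Lpe (K22.f253602 IH) (Lpe (K14.f254241 IH) (Lpe (K18.f297727 IH) (Lpe (f277512 IH) (Lpr_ct (K18.f286727 IH) (Lpr_gt (K21.f320979 IH) (Lpe (K20.f320953 IH) (Lpr_bt (K19.f296277 IH) (Lpe (K20.f318116 IH) (Lpn (LP (LK LD1_c8 LD2_c7 LD3_c47)))))))))))))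
theorem f253603 : Led Lsl_dt (LP (LK LD1_c11 LD2_c5 LD3_c17)) = (LP (LK LD1_c19 LD2_c58 LD3_c23)) :=
  Lre_d IH (LK LD1_c11 LD2_c5 LD3_c17) (LK LD1_c19 LD2_c58 LD3_c23) Lrfl Lrfl
theorem f339950 : Led Lsl_gf (LP (LK LD1_c29 LD2_c2 LD3_c21)) = (LP (LK LD1_c19 LD2_c58 LD3_c23)) :=
  Lgr Lrot154 (Lpr_dt (f335534 IH) (Lpr_ct (f335533 IH) (Lpr_df (f339940 IH) (Lpe (f240280 IH) (Lpr_df (K20.f240273 IH) (Lpe (K20.f318114 IH) (Lpe (f336258 IH) (Lpr_gt (K22.f336256 IH) (Lpr_dt (f253603 IH) (Lpn (LP (LK LD1_c19 LD2_c58 LD3_c23))))))))))))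
theorem f335535 : Led Lsl_ct (LP (LK LD1_c10 LD2_c54 LD3_c22)) = (LP (LK LD1_c19 LD2_c42 LD3_c18)) :=
  Lre_c IH (LK LD1_c10 LD2_c54 LD3_c22) (LK LD1_c19 LD2_c42 LD3_c18) Lrfl Lrfl
theorem f339954 : Led Lsl_cf (LP (LK LD1_c8 LD2_c7 LD3_c47)) = (LP (LK LD1_c15 LD2_c1 LD3_c32)) :=
  Lgr Lrot166 (Lpr_gt (K20.f318114 IH) (Lpe (K20.f240273 IH) (Lpr_gt (f240280 IH) (Lpe (f339940 IH) (Lpr_ct (f335535 IH) (Lpe (f335534 IH) (Lpr_gf (f339950 IH) (Lpe (f253603 IH) (Lpe (K22.f336256 IH) (Lpn (LP (LK LD1_c15 LD2_c1 LD3_c32))))))))))))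
theorem f190464 : Led Lsl_ct (LP (LK LD1_c10 LD2_c33 LD3_c0)) = (LP (LK LD1_c5 LD2_c21 LD3_c22)) :=
  Lre_c IH (LK LD1_c10 LD2_c33 LD3_c0) (LK LD1_c5 LD2_c21 LD3_c22) Lrfl Lrfl
theorem f249057 : Led Lsl_ct (LP (LK LD1_c5 LD2_c10 LD3_c35)) = (LP (LK LD1_c10 LD2_c11 LD3_c54)) :=
  Lre_c IH (LK LD1_c5 LD2_c10 LD3_c35) (LK LD1_c10 LD2_c11 LD3_c54) Lrfl Lrfl
theorem f214354 : Led Lsl_ct (LP (LK LD1_c9 LD2_c54 LD3_c53)) = (LP (LK LD1_c5 LD2_c2 LD3_c5)) :=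
  Lre_c IH (LK LD1_c9 LD2_c54 LD3_c53) (LK LD1_c5 LD2_c2 LD3_c5) Lrfl Lrfl
theorem f214351 : Led Lsl_dt (LP (LK LD1_c18 LD2_c8 LD3_c59)) = (LP (LK LD1_c9 LD2_c54 LD3_c53)) :=
  Lre_d IH (LK LD1_c18 LD2_c8 LD3_c59) (LK LD1_c9 LD2_c54 LD3_c53) Lrfl Lrfl
theorem f190592 : Led Lsl_et (LP (LK LD1_c10 LD2_c33 LD3_c0)) = (LP (LK LD1_c5 LD2_c21 LD3_c21)) :=
  Lre_e IH (LK LD1_c10 LD2_c33 LD3_c0) (LK LD1_c5 LD2_c21 LD3_c21) Lrfl Lrfl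
theorem f190586 : Led Lsl_dt (LP (LK LD1_c10 LD2_c33 LD3_c0)) = (LP (LK LD1_c19 LD2_c6 LD3_c26)) :=
  Lre_d IH (LK LD1_c10 LD2_c33 LD3_c0) (LK LD1_c19 LD2_c6 LD3_c26) Lrfl Lrfl
theorem f193133 : Led Lsl_et (LP (LK LD1_c9 LD2_c54 LD3_c53)) = (LP (LK LD1_c5 LD2_c2 LD3_c4)) :=
  Lre_e IH (LK LD1_c9 LD2_c54 LD3_c53) (LK LD1_c5 LD2_c2 LD3_c4) Lrfl Lrfl
theorem f193134 : Led Lsl_dt (LP (LK LD1_c9 LD2_c54 LD3_c53)) = (LP (LK LD1_c18 LD2_c8 LD3_c59)) :=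
  Lre_d IH (LK LD1_c9 LD2_c54 LD3_c53) (LK LD1_c18 LD2_c8 LD3_c59) Lrfl Lrfl
theorem f214348 : Led Lsl_gt (LP (LK LD1_c19 LD2_c6 LD3_c26)) = (LP (LK LD1_c18 LD2_c8 LD3_c59)) :=
  Lgr Lrot112 (Lpe (f190586 IH) (Lpr_et (f190592 IH) (Lpr_gf (K14.f214342 IH) (Lpe (K13.f44339 IH) (Lpr_dt (K14.f43559 IH) (Lpe (K14.f43763 IH) (Lpr_df (K14.f193117 IH) (Lpr_gf (K14.f184882 IH) (Lpe (f193133 IH) (Lpr_dt (f193134 IH) (Lpn (LP (LK LD1_c18 LD2_c8 LD3_c59)))))))))))))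
theorem f253630 : Led Lsl_gt (LP (LK LD1_c10 LD2_c11 LD3_c54)) = (LP (LK LD1_c10 LD2_c33 LD3_c0)) :=
  Lgr Lrot94 (Lpe (f249057 IH) (Lpr_gt (K19.f253612 IH) (Lpr_dt (K14.f253610 IH) (Lpr_gt (K14.f253588 IH) (Lpe (K14.f253591 IH) (Lpe (f214354 IH) (Lpe (f214351 IH) (Lpe (f214348 IH) (Lpe (f190586 IH) (Lpn (LP (LK LD1_c10 LD2_c33 LD3_c0))))))))))))
theorem f284045 : Led Lsl_gt (LP (LK LD1_c11 LD2_c5 LD3_c4)) = (LP (LK LD1_c5 LD2_c36 LD3_c35)) :=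
  Lre_g IH (LK LD1_c11 LD2_c5 LD3_c4) (LK LD1_c5 LD2_c36 LD3_c35) Lrfl Lrfl
theorem f318105 : Led Lsl_ct (LP (LK LD1_c5 LD2_c36 LD3_c35)) = (LP (LK LD1_c11 LD2_c5 LD3_c19)) :=
  Lre_c IH (LK LD1_c5 LD2_c36 LD3_c35) (LK LD1_c11 LD2_c5 LD3_c19) Lrfl Lrfl
theorem f339991 : Led Lsl_gt (LP (LK LD1_c11 LD2_c5 LD3_c19)) = (LP (LK LD1_c15 LD2_c1 LD3_c32)) :=
  Lgr Lrot150 (Lpe (f318105 IH) (Lpe (f284045 IH) (Lpe (K21.f253648 IH) (Lpr_gt (K19.f249051 IH) (Lpr_ct (f249057 IH) (Lpr_gt (f253630 IH) (Lpr_ct (f190464 IH) (Lpe (K20.f318096 IH) (Lpr_cf (f339954 IH) (Lpn (LP (LK LD1_c15 LD2_c1 LD3_c32))))))))))))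
theorem f340006 : Led Lsl_bt (LP (LK LD1_c5 LD2_c36 LD3_c35)) = (LP (LK LD1_c11 LD2_c5 LD3_c18)) :=
  Lre_b IH (LK LD1_c5 LD2_c36 LD3_c35) (LK LD1_c11 LD2_c5 LD3_c18) Lrfl Lrfl
theorem f311881 : Led Lsl_bt (LP (LK LD1_c9 LD2_c53 LD3_c22)) = (LP (LK LD1_c5 LD2_c1 LD3_c39)) :=
  Lre_b IH (LK LD1_c9 LD2_c53 LD3_c22) (LK LD1_c5 LD2_c1 LD3_c39) Lrfl Lrfl
theorem f213758 : Led Lsl_gt (LP (LK LD1_c5 LD2_c17 LD3_c20)) = (LP (LK LD1_c10 LD2_c24 LD3_c12)) :=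
  Lre_g IH (LK LD1_c5 LD2_c17 LD3_c20) (LK LD1_c10 LD2_c24 LD3_c12) Lrfl Lrfl
theorem f311808 : Led Lsl_et (LP (LK LD1_c11 LD2_c2 LD3_c58)) = (LP (LK LD1_c10 LD2_c24 LD3_c12)) :=
  Lgr Lrot122 (Lpr_dt (K19.f311800 IH) (Lpr_gt (K19.f250785 IH) (Lpe (K19.f251691 IH) (Lpr_et (K19.f32952 IH) (Lpr_gt (K10.f32899 IH) (Lpr_dt (K13.f32898 IH) (Lpr_gt (K13.f32904 IH) (Lpe (K15.f54047 IH) (Lpr_et (K17.f54049 IH) (Lpr_gt (f213758 IH) (Lpn (LP (LK LD1_c10 LD2_c24 LD3_c12)))))))))))))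
theorem f311810 : Led Lsl_ef (LP (LK LD1_c11 LD2_c2 LD3_c58)) = (LP (LK LD1_c10 LD2_c24 LD3_c12)) :=
  Lgr Lrot88 (Lpr_et (f311808 IH) (Lpn (LP (LK LD1_c10 LD2_c24 LD3_c12))))
theorem f311876 : Led Lsl_ff (LP (LK LD1_c10 LD2_c24 LD3_c12)) = (LP (LK LD1_c8 LD2_c17 LD3_c11)) :=
  Lgr Lrot72 (Lpe (f311810 IH) (Lpr_ft (K19.f189431 IH) (Lpr_et (K21.f189436 IH) (Lpr_ft (K19.f311868 IH) (Lpr_et (K13.f234245 IH) (Lpn (LP (LK LD1_c8 LD2_c17 LD3_c11))))))))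
theorem f246271 : Led Lsl_cf (LP (LK LD1_c2 LD2_c40 LD3_c9)) = (LP (LK LD1_c4 LD2_c12 LD3_c33)) :=
  Lgr Lrot39 (Lpr_et (K13.f246267 IH) (Lpr_ct (K13.f53147 IH) (Lpr_et (K15.f233851 IH) (Lpn (LP (LK LD1_c4 LD2_c12 LD3_c33))))))
theorem f48260 : Led Lsl_df (LP (LK LD1_c2 LD2_c5 LD3_c3)) = (LP (LK LD1_c1 LD2_c14 LD3_c54)) :=
  Lgr Lrot38 (Lpr_dt (K10.f48253 IH) (Lpn (LP (LK LD1_c1 LD2_c14 LD3_c54))))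
theorem f311505 : Led Lsl_df (LP (LK LD1_c2 LD2_c28 LD3_c28)) = (LP (LK LD1_c4 LD2_c51 LD3_c3)) :=
  Lgr Lrot155 (Lpr_gt (K10.f184108 IH) (Lpe (K10.f188325 IH) (Lpr_gt (K13.f188335 IH) (Lpr_ct (K13.f48267 IH) (Lpe (f48260 IH) (Lpr_cf (K17.f266279 IH) (Lpe (K21.f246265 IH) (Lpr_cf (f246271 IH) (Lpr_gf (K19.f311493 IH) (Lpn (LP (LK LD1_c4 LD2_c51 LD3_c3))))))))))))
theorem f311511 : Led Lsl_et (LP (LK LD1_c2 LD2_c28 LD3_c28)) = (LP (LK LD1_c5 LD2_c1 LD3_c32)) :=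
  Lre_e IH (LK LD1_c2 LD2_c28 LD3_c28) (LK LD1_c5 LD2_c1 LD3_c32) Lrfl Lrfl
theorem f311513 : Led Lsl_df (LP (LK LD1_c8 LD2_c17 LD3_c11)) = (LP (LK LD1_c5 LD2_c1 LD3_c32)) :=
  Lgr Lrot70 (Lpr_et (K20.f222449 IH) (Lpe (K13.f234203 IH) (Lpr_et (K19.f311509 IH) (Lpe (f311505 IH) (Lpr_et (f311511 IH) (Lpn (LP (LK LD1_c5 LD2_c1 LD3_c32))))))))
theorem f311878 : Led Lsl_ft (LP (LK LD1_c9 LD2_c53 LD3_c22)) = (LP (LK LD1_c5 LD2_c1 LD3_c32)) :=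
  Lre_f IH (LK LD1_c9 LD2_c53 LD3_c22) (LK LD1_c5 LD2_c1 LD3_c32) Lrfl Lrfl
theorem f311879 : Led Lsl_dt (LP (LK LD1_c10 LD2_c24 LD3_c12)) = (LP (LK LD1_c9 LD2_c53 LD3_c22)) :=
  Lgr Lrot60 (Lpr_ff (f311876 IH) (Lpr_df (f311513 IH) (Lpe (f311878 IH) (Lpn (LP (LK LD1_c9 LD2_c53 LD3_c22))))))
theorem f320600 : Led Lsl_bt (LP (LK LD1_c6 LD2_c7 LD3_c15)) = (LP (LK LD1_c10 LD2_c24 LD3_c12)) :=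
  Lgr Lrot95 (Lpr_df (K20.f320594 IH) (Lpe (f311881 IH) (Lpe (f311879 IH) (Lpn (LP (LK LD1_c10 LD2_c24 LD3_c12))))))
theorem f340007 : Led Lsl_gf (LP (LK LD1_c11 LD2_c5 LD3_c18)) = (LP (LK LD1_c10 LD2_c24 LD3_c12)) :=
  Lgr Lrot124 (Lpe (f340006 IH) (Lpr_ct (f318105 IH) (Lpr_gt (f339991 IH) (Lpr_cf (f336258 IH) (Lpr_bt (K20.f318111 IH) (Lpr_gt (K20.f171674 IH) (Lpr_ct (K21.f212986 IH) (Lpr_gt (K20.f201743 IH) (Lpe (K20.f320622 IH) (Lpr_bt (f320600 IH) (Lpn (LP (LK LD1_c10 LD2_c24 LD3_c12)))))))))))))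
theorem f311866 : Led Lsl_ft (LP (LK LD1_c10 LD2_c24 LD3_c12)) = (LP (LK LD1_c8 LD2_c17 LD3_c11)) :=
  Lgr Lrot86 (Lpe (f311808 IH) (Lpe (K19.f189432 IH) (Lpe (K13.f189428 IH) (Lpr_ff (K19.f311858 IH) (Lpe (K20.f222449 IH) (Lpn (LP (LK LD1_c8 LD2_c17 LD3_c11))))))))
theorem f311856 : Led Lsl_af (LP (LK LD1_c10 LD2_c24 LD3_c13)) = (LP (LK LD1_c8 LD2_c17 LD3_c11)) :=
  Lgr Lrot50 (Lpe (K17.f251733 IH) (Lpr_at (K19.f311848 IH) (Lpr_et (K13.f234245 IH) (Lpn (LP (LK LD1_c8 LD2_c17 LD3_c11))))))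
theorem f340012 : Led Lsl_gt (LP (LK LD1_c11 LD2_c5 LD3_c18)) = (LP (LK LD1_c10 LD2_c24 LD3_c13)) :=
  Lgr Lrot46 (Lpr_gf (f340007 IH) (Lpr_ft (f311866 IH) (Lpe (f311856 IH) (Lpn (LP (LK LD1_c10 LD2_c24 LD3_c13))))))
theorem f303417 : Led Lsl_ft (LP (LK LD1_c19 LD2_c29 LD3_c19)) = (LP (LK LD1_c10 LD2_c46 LD3_c33)) :=
  Lre_f IH (LK LD1_c19 LD2_c29 LD3_c19) (LK LD1_c10 LD2_c46 LD3_c33) Lrfl Lrfl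
theorem f336251 : Led Lsl_af (LP (LK LD1_c15 LD2_c1 LD3_c32)) = (LP (LK LD1_c10 LD2_c46 LD3_c33)) :=
  Lgr Lrot45 (Lpr_ft (K22.f336249 IH) (Lpe (K22.f303379 IH) (Lpr_ft (f303417 IH) (Lpn (LP (LK LD1_c10 LD2_c46 LD3_c33))))))
theorem f339999 : Led Lsl_gf (LP (LK LD1_c11 LD2_c5 LD3_c19)) = (LP (LK LD1_c19 LD2_c29 LD3_c19)) :=
  Lgr Lrot47 (Lpr_gt (f339991 IH) (Lpr_af (f336251 IH) (Lpe (f303417 IH) (Lpn (LP (LK LD1_c19 LD2_c29 LD3_c19))))))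
theorem f303387 : Led Lsl_ct (LP (LK LD1_c10 LD2_c46 LD3_c35)) = (LP (LK LD1_c19 LD2_c29 LD3_c19)) :=
  Lre_c IH (LK LD1_c10 LD2_c46 LD3_c35) (LK LD1_c19 LD2_c29 LD3_c19) Lrfl Lrfl
theorem f333959 : Led Lsl_ct (LP (LK LD1_c9 LD2_c41 LD3_c0)) = (LP (LK LD1_c8 LD2_c53 LD3_c35)) :=
  Lgr Lrot40 (Lpe (K21.f284825 IH) (Lpe (K22.f333898 IH) (Lpr_ff (K22.f333931 IH) (Lpn (LP (LK LD1_c8 LD2_c53 LD3_c35))))))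
theorem f333891 : Led Lsl_at (LP (LK LD1_c11 LD2_c53 LD3_c6)) = (LP (LK LD1_c19 LD2_c54 LD3_c57)) :=
  Lgr Lrot100 (Lpr_af (K22.f333871 IH) (Lpn (LP (LK LD1_c19 LD2_c54 LD3_c57))))
theorem f335435 : Led Lsl_gf (LP (LK LD1_c11 LD2_c52 LD3_c17)) = (LP (LK LD1_c8 LD2_c53 LD3_c35)) :=
  Lgr Lrot47 (Lpr_gt (K22.f335433 IH) (Lpe (f333891 IH) (Lpr_ff (K22.f333931 IH) (Lpn (LP (LK LD1_c8 LD2_c53 LD3_c35))))))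
theorem f340036 : Led Lsl_gf (LP (LK LD1_c10 LD2_c46 LD3_c35)) = (LP (LK LD1_c6 LD2_c4 LD3_c49)) :=
  Lgr Lrot181 (Lpr_ct (f303387 IH) (Lpe (f339999 IH) (Lpe (f318105 IH) (Lpr_bt (f340006 IH) (Lpr_gt (f340012 IH) (Lpe (K17.f274919 IH) (Lpr_ct (f333959 IH) (Lpe (f335435 IH) (Lpe (K22.f261307 IH) (Lpe (K20.f274409 IH) (Lpn (LP (LK LD1_c6 LD2_c4 LD3_c49)))))))))))))
theorem f274208 : Led Lsl_dt (LP (LK LD1_c25 LD2_c20 LD3_c30)) = (LP (LK LD1_c15 LD2_c28 LD3_c23)) :=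
  Lre_d IH (LK LD1_c25 LD2_c20 LD3_c30) (LK LD1_c15 LD2_c28 LD3_c23) Lrfl Lrfl
theorem f336245 : Led Lsl_ff (LP (LK LD1_c15 LD2_c1 LD3_c32)) = (LP (LK LD1_c15 LD2_c28 LD3_c23)) :=
  Lgr Lrot19 (Lpr_dt (K22.f303299 IH) (Lpr_ft (K22.f336243 IH) (Lpr_dt (f274208 IH) (Lpn (LP (LK LD1_c15 LD2_c28 LD3_c23))))))
theorem f214916 : Led Lsl_dt (LP (LK LD1_c24 LD2_c48 LD3_c0)) = (LP (LK LD1_c15 LD2_c0 LD3_c37)) :=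
  Lre_d IH (LK LD1_c24 LD2_c48 LD3_c0) (LK LD1_c15 LD2_c0 LD3_c37) Lrfl Lrfl
theorem f214917 : Led Lsl_ct (LP (LK LD1_c31 LD2_c39 LD3_c15)) = (LP (LK LD1_c24 LD2_c48 LD3_c0)) :=
  Lre_c IH (LK LD1_c31 LD2_c39 LD3_c15) (LK LD1_c24 LD2_c48 LD3_c0) Lrfl Lrfl
theorem f303357 : Led Lsl_dt (LP (LK LD1_c19 LD2_c29 LD3_c18)) = (LP (LK LD1_c10 LD2_c46 LD3_c33)) :=
  Lre_d IH (LK LD1_c19 LD2_c29 LD3_c18) (LK LD1_c10 LD2_c46 LD3_c33) Lrfl Lrfl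
theorem f303397 : Led Lsl_ft (LP (LK LD1_c19 LD2_c29 LD3_c18)) = (LP (LK LD1_c28 LD2_c51 LD3_c35)) :=
  Lre_f IH (LK LD1_c19 LD2_c29 LD3_c18) (LK LD1_c28 LD2_c51 LD3_c35) Lrfl Lrfl
theorem f303392 : Led Lsl_at (LP (LK LD1_c28 LD2_c51 LD3_c35)) = (LP (LK LD1_c25 LD2_c20 LD3_c30)) :=
  Lgr Lrot100 (Lpr_af (K22.f303389 IH) (Lpn (LP (LK LD1_c25 LD2_c20 LD3_c30))))
theorem f303394 : Led Lsl_ct (LP (LK LD1_c31 LD2_c51 LD3_c16)) = (LP (LK LD1_c25 LD2_c20 LD3_c30)) :=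
  Lre_c IH (LK LD1_c31 LD2_c51 LD3_c16) (LK LD1_c25 LD2_c20 LD3_c30) Lrfl Lrfl
theorem f214913 : Led Lsl_ct (LP (LK LD1_c24 LD2_c48 LD3_c0)) = (LP (LK LD1_c31 LD2_c39 LD3_c15)) :=
  Lre_c IH (LK LD1_c24 LD2_c48 LD3_c0) (LK LD1_c31 LD2_c39 LD3_c15) Lrfl Lrfl
theorem f317755 : Led Lsl_df (LP (LK LD1_c31 LD2_c51 LD3_c16)) = (LP (LK LD1_c31 LD2_c39 LD3_c15)) :=
  Lgr Lrot177 (Lpr_ct (f303394 IH) (Lpe (f303392 IH) (Lpe (f303397 IH) (Lpr_dt (f303357 IH) (Lpr_ct (K20.f303355 IH) (Lpr_dt (K20.f317747 IH) (Lpr_ct (K14.f214906 IH) (Lpr_dt (K20.f44462 IH) (Lpr_ct (f214913 IH) (Lpn (LP (LK LD1_c31 LD2_c39 LD3_c15))))))))))))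
theorem f318013 : Led Lsl_dt (LP (LK LD1_c31 LD2_c51 LD3_c16)) = (LP (LK LD1_c31 LD2_c39 LD3_c15)) :=
  Lgr Lrot42 (Lpr_df (f317755 IH) (Lpn (LP (LK LD1_c31 LD2_c39 LD3_c15))))
theorem f287897 : Led Lsl_ct (LP (LK LD1_c25 LD2_c20 LD3_c30)) = (LP (LK LD1_c31 LD2_c51 LD3_c16)) :=
  Lre_c IH (LK LD1_c25 LD2_c20 LD3_c30) (LK LD1_c31 LD2_c51 LD3_c16) Lrfl Lrfl
theorem f331332 : Led Lsl_ct (LP (LK LD1_c15 LD2_c16 LD3_c23)) = (LP (LK LD1_c15 LD2_c28 LD3_c23)) :=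
  Lgr Lrot133 (Lpr_df (K21.f331326 IH) (Lpr_ft (K14.f190465 IH) (Lpe (K20.f311459 IH) (Lpr_cf (K20.f214892 IH) (Lpe (f214916 IH) (Lpe (f214917 IH) (Lpe (f318013 IH) (Lpe (f287897 IH) (Lpe (K22.f254196 IH) (Lpn (LP (LK LD1_c15 LD2_c28 LD3_c23))))))))))))
theorem f339987 : Led Lsl_ft (LP (LK LD1_c8 LD2_c7 LD3_c47)) = (LP (LK LD1_c15 LD2_c16 LD3_c23)) :=
  Lgr Lrot4 (Lpr_cf (f339954 IH) (Lpr_ff (f336245 IH) (Lpe (f331332 IH) (Lpn (LP (LK LD1_c15 LD2_c16 LD3_c23))))))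
theorem f340038 : Led Lsl_af (LP (LK LD1_c10 LD2_c46 LD3_c35)) = (LP (LK LD1_c15 LD2_c16 LD3_c23)) :=
  Lgr Lrot31 (Lpr_gf (f340036 IH) (Lpe (K20.f318114 IH) (Lpr_ft (f339987 IH) (Lpn (LP (LK LD1_c15 LD2_c16 LD3_c23))))))
theorem f340154 : Led Lsl_at (LP (LK LD1_c16 LD2_c34 LD3_c44)) = (LP (LK LD1_c10 LD2_c33 LD3_c2)) :=
  Lgr Lrot51 (Lpe (K22.f317729 IH) (Lpr_af (f340038 IH) (Lpr_df (K21.f331326 IH) (Lpn (LP (LK LD1_c10 LD2_c33 LD3_c2))))))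
theorem f190476 : Led Lsl_ct (LP (LK LD1_c10 LD2_c33 LD3_c2)) = (LP (LK LD1_c19 LD2_c6 LD3_c27)) :=
  Lre_c IH (LK LD1_c10 LD2_c33 LD3_c2) (LK LD1_c19 LD2_c6 LD3_c27) Lrfl Lrfl
theorem f340160 : Led Lsl_af (LP (LK LD1_c18 LD2_c34 LD3_c37)) = (LP (LK LD1_c19 LD2_c6 LD3_c27)) :=
  Lgr Lrot68 (Lpr_ct (K22.f336173 IH) (Lpr_at (f340154 IH) (Lpr_ct (f190476 IH) (Lpn (LP (LK LD1_c19 LD2_c6 LD3_c27))))))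
theorem f336175 : Led Lsl_ft (LP (LK LD1_c18 LD2_c34 LD3_c37)) = (LP (LK LD1_c15 LD2_c0 LD3_c37)) :=
  Lgr Lrot4 (Lpr_cf (K22.f336168 IH) (Lpe (K20.f214808 IH) (Lpr_cf (K20.f214892 IH) (Lpn (LP (LK LD1_c15 LD2_c0 LD3_c37))))))
theorem f190580 : Led Lsl_ft (LP (LK LD1_c10 LD2_c33 LD3_c0)) = (LP (LK LD1_c19 LD2_c6 LD3_c27)) :=
  Lre_f IH (LK LD1_c10 LD2_c33 LD3_c0) (LK LD1_c19 LD2_c6 LD3_c27) Lrfl Lrfl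
theorem f340164 : Led Lsl_at (LP (LK LD1_c15 LD2_c0 LD3_c37)) = (LP (LK LD1_c10 LD2_c33 LD3_c0)) :=
  Lgr Lrot66 (Lpe (f336175 IH) (Lpr_af (f340160 IH) (Lpe (f190580 IH) (Lpn (LP (LK LD1_c10 LD2_c33 LD3_c0))))))
theorem f340181 : Led Lsl_af (LP (LK LD1_c24 LD2_c48 LD3_c0)) = (LP (LK LD1_c19 LD2_c6 LD3_c26)) :=
  Lgr Lrot117 (Lpr_dt (f214916 IH) (Lpr_at (f340164 IH) (Lpr_dt (f190586 IH) (Lpn (LP (LK LD1_c19 LD2_c6 LD3_c26))))))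
theorem f190585 : Led Lsl_ct (LP (LK LD1_c28 LD2_c31 LD3_c58)) = (LP (LK LD1_c19 LD2_c6 LD3_c26)) :=
  Lre_c IH (LK LD1_c28 LD2_c31 LD3_c58) (LK LD1_c19 LD2_c6 LD3_c26) Lrfl Lrfl
theorem f340191 : Led Lsl_at (LP (LK LD1_c31 LD2_c39 LD3_c15)) = (LP (LK LD1_c28 LD2_c31 LD3_c58)) :=
  Lgr Lrot107 (Lpe (f214913 IH) (Lpr_af (f340181 IH) (Lpe (f190585 IH) (Lpn (LP (LK LD1_c28 LD2_c31 LD3_c58))))))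
theorem f318102 : Led Lsl_dt (LP (LK LD1_c28 LD2_c31 LD3_c58)) = (LP (LK LD1_c32 LD2_c35 LD3_c46)) :=
  Lre_d IH (LK LD1_c28 LD2_c31 LD3_c58) (LK LD1_c32 LD2_c35 LD3_c46) Lrfl Lrfl
theorem f340195 : Led Lsl_af (LP (LK LD1_c31 LD2_c51 LD3_c16)) = (LP (LK LD1_c32 LD2_c35 LD3_c46)) :=
  Lgr Lrot117 (Lpr_dt (f318013 IH) (Lpr_at (f340191 IH) (Lpr_dt (f318102 IH) (Lpn (LP (LK LD1_c32 LD2_c35 LD3_c46))))))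
theorem f340199 : Led Lsl_ct (LP (LK LD1_c28 LD2_c51 LD3_c35)) = (LP (LK LD1_c32 LD2_c35 LD3_c46)) :=
  Lgr Lrot111 (Lpr_af (K22.f303389 IH) (Lpe (f303394 IH) (Lpr_af (f340195 IH) (Lpn (LP (LK LD1_c32 LD2_c35 LD3_c46))))))
theorem f214823 : Led Lsl_ft (LP (LK LD1_c16 LD2_c34 LD3_c44)) = (LP (LK LD1_c8 LD2_c52 LD3_c1)) :=
  Lre_f IH (LK LD1_c16 LD2_c34 LD3_c44) (LK LD1_c8 LD2_c52 LD3_c1) Lrfl Lrfl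
theorem f190588 : Led Lsl_dt (LP (LK LD1_c32 LD2_c35 LD3_c46)) = (LP (LK LD1_c28 LD2_c31 LD3_c58)) :=
  Lre_d IH (LK LD1_c32 LD2_c35 LD3_c46) (LK LD1_c28 LD2_c31 LD3_c58) Lrfl Lrfl
theorem f190469 : Led Lsl_dt (LP (LK LD1_c19 LD2_c6 LD3_c26)) = (LP (LK LD1_c10 LD2_c33 LD3_c0)) :=
  Lre_d IH (LK LD1_c19 LD2_c6 LD3_c26) (LK LD1_c10 LD2_c33 LD3_c0) Lrfl Lrfl
theorem f340203 : Led Lsl_at (LP (LK LD1_c8 LD2_c52 LD3_c1)) = (LP (LK LD1_c5 LD2_c21 LD3_c22)) :=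
  Lgr Lrot33 (Lpe (f214823 IH) (Lpe (K20.f317742 IH) (Lpr_ct (f303387 IH) (Lpr_dt (K22.f303396 IH) (Lpr_ct (f340199 IH) (Lpr_dt (f190588 IH) (Lpr_ct (f190585 IH) (Lpr_dt (f190469 IH) (Lpr_ct (f190464 IH) (Lpn (LP (LK LD1_c5 LD2_c21 LD3_c22))))))))))))
theorem f190481 : Led Lsl_gt (LP (LK LD1_c10 LD2_c33 LD3_c1)) = (LP (LK LD1_c5 LD2_c21 LD3_c22)) :=
  Lre_g IH (LK LD1_c10 LD2_c33 LD3_c1) (LK LD1_c5 LD2_c21 LD3_c22) Lrfl Lrfl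
theorem f340205 : Led Lsl_gt (LP (LK LD1_c16 LD2_c34 LD3_c44)) = (LP (LK LD1_c10 LD2_c33 LD3_c1)) :=
  Lgr Lrot5 (Lpr_ft (f214823 IH) (Lpr_at (f340203 IH) (Lpe (f190481 IH) (Lpn (LP (LK LD1_c10 LD2_c33 LD3_c1))))))
theorem f187846 : Led Lsl_et (LP (LK LD1_c2 LD2_c58 LD3_c35)) = (LP (LK LD1_c6 LD2_c4 LD3_c49)) :=
  Lre_e IH (LK LD1_c2 LD2_c58 LD3_c35) (LK LD1_c6 LD2_c4 LD3_c49) Lrfl Lrfl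
theorem f318106 : Led Lsl_dt (LP (LK LD1_c19 LD2_c6 LD3_c28)) = (LP (LK LD1_c10 LD2_c33 LD3_c1)) :=
  Lre_d IH (LK LD1_c19 LD2_c6 LD3_c28) (LK LD1_c10 LD2_c33 LD3_c1) Lrfl Lrfl
theorem f340210 : Led Lsl_ef (LP (LK LD1_c15 LD2_c9 LD3_c36)) = (LP (LK LD1_c19 LD2_c6 LD3_c28)) :=
  Lgr Lrot114 (Lpr_gt (K21.f324294 IH) (Lpe (K11.f31247 IH) (Lpr_dt (K10.f28684 IH) (Lpr_gt (K10.f187792 IH) (Lpe (K16.f183865 IH) (Lpr_et (f187846 IH) (Lpe (f340036 IH) (Lpr_dt (K22.f317729 IH) (Lpr_gt (f340205 IH) (Lpe (f318106 IH) (Lpn (LP (LK LD1_c19 LD2_c6 LD3_c28)))))))))))))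
theorem f340216 : Led Lsl_et (LP (LK LD1_c15 LD2_c9 LD3_c36)) = (LP (LK LD1_c19 LD2_c6 LD3_c28)) :=
  Lgr Lrot87 (Lpr_ef (f340210 IH) (Lpn (LP (LK LD1_c19 LD2_c6 LD3_c28))))
theorem f340218 : Led Lsl_bf (LP (LK LD1_c15 LD2_c9 LD3_c38)) = (LP (LK LD1_c19 LD2_c6 LD3_c28)) :=
  Lgr Lrot96 (Lpr_et (K19.f28045 IH) (Lpr_bt (K21.f299070 IH) (Lpr_et (f340216 IH) (Lpn (LP (LK LD1_c19 LD2_c6 LD3_c28))))))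
theorem f318109 : Led Lsl_dt (LP (LK LD1_c10 LD2_c33 LD3_c1)) = (LP (LK LD1_c19 LD2_c6 LD3_c28)) :=
  Lre_d IH (LK LD1_c10 LD2_c33 LD3_c1) (LK LD1_c19 LD2_c6 LD3_c28) Lrfl Lrfl
theorem f340224 : Led Lsl_bt (LP (LK LD1_c8 LD2_c5 LD3_c49)) = (LP (LK LD1_c10 LD2_c33 LD3_c1)) :=
  Lgr Lrot95 (Lpr_df (K19.f296421 IH) (Lpr_bf (f340218 IH) (Lpe (f318109 IH) (Lpn (LP (LK LD1_c10 LD2_c33 LD3_c1))))))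
theorem f340226 : Led Lsl_bf (LP (LK LD1_c8 LD2_c5 LD3_c49)) = (LP (LK LD1_c10 LD2_c33 LD3_c1)) :=
  Lgr Lrot24 (Lpr_bt (f340224 IH) (Lpn (LP (LK LD1_c10 LD2_c33 LD3_c1))))
theorem f253660 : Led Lsl_ct (LP (LK LD1_c11 LD2_c5 LD3_c2)) = (LP (LK LD1_c5 LD2_c36 LD3_c29)) :=
  Lre_c IH (LK LD1_c11 LD2_c5 LD3_c2) (LK LD1_c5 LD2_c36 LD3_c29) Lrfl Lrfl
theorem f249038 : Led Lsl_gt (LP (LK LD1_c18 LD2_c34 LD3_c2)) = (LP (LK LD1_c10 LD2_c11 LD3_c34)) :=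
  Lre_g IH (LK LD1_c18 LD2_c34 LD3_c2) (LK LD1_c10 LD2_c11 LD3_c34) Lrfl Lrfl
theorem f340207 : Led Lsl_cf (LP (LK LD1_c18 LD2_c34 LD3_c2)) = (LP (LK LD1_c10 LD2_c33 LD3_c1)) :=
  Lgr Lrot169 (Lpr_gt (f249038 IH) (Lpr_ct (K14.f249006 IH) (Lpr_df (K14.f253614 IH) (Lpe (f253660 IH) (Lpe (K19.f254201 IH) (Lpr_cf (K19.f312291 IH) (Lpe (K20.f318118 IH) (Lpr_df (K20.f317742 IH) (Lpr_gt (f340205 IH) (Lpn (LP (LK LD1_c10 LD2_c33 LD3_c1))))))))))))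
theorem f248768 : Led Lsl_gt (LP (LK LD1_c10 LD2_c11 LD3_c49)) = (LP (LK LD1_c18 LD2_c34 LD3_c2)) :=
  Lre_g IH (LK LD1_c10 LD2_c11 LD3_c49) (LK LD1_c18 LD2_c34 LD3_c2) Lrfl Lrfl
theorem f248754 : Led Lsl_gt (LP (LK LD1_c2 LD2_c29 LD3_c17)) = (LP (LK LD1_c2 LD2_c32 LD3_c26)) :=
  Lgr Lrot46 (Lpe (K22.f248753 IH) (Lpr_ft (K14.f248689 IH) (Lpr_at (K14.f248720 IH) (Lpn (LP (LK LD1_c2 LD2_c32 LD3_c26))))))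
theorem f248763 : Led Lsl_bt (LP (LK LD1_c5 LD2_c3 LD3_c36)) = (LP (LK LD1_c2 LD2_c29 LD3_c17)) :=
  Lre_b IH (LK LD1_c5 LD2_c3 LD3_c36) (LK LD1_c2 LD2_c29 LD3_c17) Lrfl Lrfl
theorem f248766 : Led Lsl_ct (LP (LK LD1_c5 LD2_c3 LD3_c36)) = (LP (LK LD1_c9 LD2_c58 LD3_c5)) :=
  Lre_c IH (LK LD1_c5 LD2_c3 LD3_c36) (LK LD1_c9 LD2_c58 LD3_c5) Lrfl Lrfl
theorem f340255 : Led Lsl_gt (LP (LK LD1_c8 LD2_c4 LD3_c23)) = (LP (LK LD1_c9 LD2_c58 LD3_c5)) :=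
  Lgr Lrot149 (Lpe (K18.f296440 IH) (Lpe (K19.f246103 IH) (Lpr_bf (f340226 IH) (Lpe (f340207 IH) (Lpe (f248768 IH) (Lpe (K22.f248737 IH) (Lpr_bt (K18.f248734 IH) (Lpe (f248754 IH) (Lpe (f248763 IH) (Lpr_ct (f248766 IH) (Lpn (LP (LK LD1_c9 LD2_c58 LD3_c5)))))))))))))
theorem f212303 : Led Lsl_bf (LP (LK LD1_c2 LD2_c35 LD3_c40)) = (LP (LK LD1_c4 LD2_c2 LD3_c37)) :=
  Lgr Lrot96 (Lpr_et (K14.f32191 IH) (Lpr_bt (K12.f212296 IH) (Lpr_et (K18.f212302 IH) (Lpn (LP (LK LD1_c4 LD2_c2 LD3_c37))))))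
theorem f251257 : Led Lsl_gt (LP (LK LD1_c5 LD2_c17 LD3_c54)) = (LP (LK LD1_c2 LD2_c35 LD3_c40)) :=
  Lre_g IH (LK LD1_c5 LD2_c17 LD3_c54) (LK LD1_c2 LD2_c35 LD3_c40) Lrfl Lrfl
theorem f248885 : Led Lsl_gt (LP (LK LD1_c5 LD2_c3 LD3_c33)) = (LP (LK LD1_c2 LD2_c29 LD3_c16)) :=
  Lre_g IH (LK LD1_c5 LD2_c3 LD3_c33) (LK LD1_c2 LD2_c29 LD3_c16) Lrfl Lrfl
theorem f248884 : Led Lsl_ft (LP (LK LD1_c5 LD2_c10 LD3_c46)) = (LP (LK LD1_c2 LD2_c32 LD3_c23)) :=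
  Lre_f IH (LK LD1_c5 LD2_c10 LD3_c46) (LK LD1_c2 LD2_c32 LD3_c23) Lrfl Lrfl
theorem f248886 : Led Lsl_gf (LP (LK LD1_c5 LD2_c3 LD3_c33)) = (LP (LK LD1_c5 LD2_c10 LD3_c46)) :=
  Lgr Lrot47 (Lpr_gt (f248885 IH) (Lpr_af (K14.f248874 IH) (Lpe (f248884 IH) (Lpn (LP (LK LD1_c5 LD2_c10 LD3_c46))))))
theorem f333645 : Led Lsl_ct (LP (LK LD1_c2 LD2_c35 LD3_c53)) = (LP (LK LD1_c5 LD2_c3 LD3_c33)) :=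
  Lgr Lrot152 (Lpr_gf (K22.f333641 IH) (Lpr_df (K22.f322377 IH) (Lpe (K20.f264358 IH) (Lpr_ct (K17.f185657 IH) (Lpr_gt (K17.f268166 IH) (Lpr_ct (K14.f173952 IH) (Lpe (K14.f250351 IH) (Lpe (K22.f248725 IH) (Lpe (f248885 IH) (Lpn (LP (LK LD1_c5 LD2_c3 LD3_c33))))))))))))
theorem f340274 : Led Lsl_bf (LP (LK LD1_c5 LD2_c17 LD3_c54)) = (LP (LK LD1_c2 LD2_c35 LD3_c53)) :=
  Lgr Lrot156 (Lpr_gt (f251257 IH) (Lpr_bf (f212303 IH) (Lpr_ct (K18.f296440 IH) (Lpr_gt (f340255 IH) (Lpe (f248766 IH) (Lpr_bt (f248763 IH) (Lpr_gt (f248754 IH) (Lpr_ct (K14.f248730 IH) (Lpe (f248886 IH) (Lpe (f333645 IH) (Lpn (LP (LK LD1_c2 LD2_c35 LD3_c53)))))))))))))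
theorem f340282 : Led Lsl_et (LP (LK LD1_c5 LD2_c17 LD3_c54)) = (LP (LK LD1_c10 LD2_c25 LD3_c27)) :=
  Lre_e IH (LK LD1_c5 LD2_c17 LD3_c54) (LK LD1_c10 LD2_c25 LD3_c27) Lrfl Lrfl
theorem f340283 : Led Lsl_bt (LP (LK LD1_c10 LD2_c25 LD3_c27)) = (LP (LK LD1_c5 LD2_c18 LD3_c28)) :=
  Lgr Lrot119 (Lpe (f340282 IH) (Lpr_bf (f340274 IH) (Lpe (K22.f333631 IH) (Lpn (LP (LK LD1_c5 LD2_c18 LD3_c28))))))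
theorem f198680 : Led Lsl_bt (LP (LK LD1_c5 LD2_c6 LD3_c24)) = (LP (LK LD1_c10 LD2_c3 LD3_c49)) :=
  Lre_b IH (LK LD1_c5 LD2_c6 LD3_c24) (LK LD1_c10 LD2_c3 LD3_c49) Lrfl Lrfl
theorem f340287 : Led Lsl_df (LP (LK LD1_c10 LD2_c25 LD3_c27)) = (LP (LK LD1_c10 LD2_c3 LD3_c49)) :=
  Lgr Lrot12 (Lpr_bt (f340283 IH) (Lpr_dt (K22.f333632 IH) (Lpr_bt (f198680 IH) (Lpn (LP (LK LD1_c10 LD2_c3 LD3_c49))))))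
theorem f340289 : Led Lsl_dt (LP (LK LD1_c10 LD2_c25 LD3_c27)) = (LP (LK LD1_c10 LD2_c3 LD3_c49)) :=
  Lgr Lrot42 (Lpr_df (f340287 IH) (Lpn (LP (LK LD1_c10 LD2_c3 LD3_c49))))
theorem f251262 : Led Lsl_et (LP (LK LD1_c10 LD2_c25 LD3_c27)) = (LP (LK LD1_c5 LD2_c17 LD3_c54)) :=
  Lre_e IH (LK LD1_c10 LD2_c25 LD3_c27) (LK LD1_c5 LD2_c17 LD3_c54) Lrfl Lrfl
theorem f271209 : Led Lsl_ct (LP (LK LD1_c4 LD2_c15 LD3_c10)) = (LP (LK LD1_c8 LD2_c23 LD3_c56)) :=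
  Lgr Lrot8 (Lpr_gt (K16.f271205 IH) (Lpr_dt (K10.f48253 IH) (Lpr_gt (K9.f33097 IH) (Lpr_dt (K10.f48183 IH) (Lpe (K0.f32062 IH) (Lpe (K15.f33046 IH) (Lpe (K10.f33049 IH) (Lpr_df (K13.f191728 IH) (Lpr_gf (K15.f257887 IH) (Lpn (LP (LK LD1_c8 LD2_c23 LD3_c56))))))))))))
theorem f284981 : Led Lsl_dt (LP (LK LD1_c5 LD2_c12 LD3_c14)) = (LP (LK LD1_c4 LD2_c15 LD3_c10)) :=
  Lgr Lrot120 (Lpe (K17.f284979 IH) (Lpr_df (K17.f284969 IH) (Lpe (K17.f284954 IH) (Lpe (K17.f259349 IH) (Lpr_cf (K12.f192580 IH) (Lpe (K9.f169566 IH) (Lpr_ft (K15.f252232 IH) (Lpr_at (K15.f200566 IH) (Lpe (f271209 IH) (Lpn (LP (LK LD1_c4 LD2_c15 LD3_c10))))))))))))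
theorem f340293 : Led Lsl_gt (LP (LK LD1_c5 LD2_c15 LD3_c41)) = (LP (LK LD1_c10 LD2_c3 LD3_c49)) :=
  Lgr Lrot112 (Lpe (K21.f231954 IH) (Lpr_et (K21.f231953 IH) (Lpr_gf (K15.f231943 IH) (Lpe (K17.f47719 IH) (Lpe (K10.f47755 IH) (Lpe (K15.f262123 IH) (Lpr_df (K15.f262119 IH) (Lpe (f251257 IH) (Lpe (f251262 IH) (Lpr_dt (f340289 IH) (Lpn (LP (LK LD1_c10 LD2_c3 LD3_c49)))))))))))))
theorem f49138 : Led Lsl_gt (LP (LK LD1_c5 LD2_c15 LD3_c40)) = (LP (LK LD1_c2 LD2_c34 LD3_c41)) :=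
  Lre_g IH (LK LD1_c5 LD2_c15 LD3_c40) (LK LD1_c2 LD2_c34 LD3_c41) Lrfl Lrfl
theorem f340295 : Led Lsl_et (LP (LK LD1_c5 LD2_c12 LD3_c14)) = (LP (LK LD1_c5 LD2_c15 LD3_c40)) :=
  Lgr Lrot121 (Lpr_dt (f284981 IH) (Lpr_gf (K16.f271207 IH) (Lpr_df (K14.f251205 IH) (Lpr_et (K14.f251187 IH) (Lpe (f251257 IH) (Lpe (f251262 IH) (Lpr_dt (f340289 IH) (Lpe (f340293 IH) (Lpe (K21.f231954 IH) (Lpe (f49138 IH) (Lpn (LP (LK LD1_c5 LD2_c15 LD3_c40)))))))))))))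
theorem f340306 : Led Lsl_ef (LP (LK LD1_c5 LD2_c12 LD3_c14)) = (LP (LK LD1_c5 LD2_c15 LD3_c40)) :=
  Lgr Lrot88 (Lpr_et (f340295 IH) (Lpn (LP (LK LD1_c5 LD2_c15 LD3_c40))))
theorem f284991 : Led Lsl_gf (LP (LK LD1_c2 LD2_c35 LD3_c15)) = (LP (LK LD1_c5 LD2_c12 LD3_c14)) :=
  Lgr Lrot144 (Lpr_dt (K10.f48722 IH) (Lpr_gt (K10.f32110 IH) (Lpr_dt (K10.f32203 IH) (Lpe (K9.f32855 IH) (Lpe (K10.f32856 IH) (Lpr_gf (K10.f184196 IH) (Lpe (K15.f184200 IH) (Lpe (K17.f3755 IH) (Lpr_cf (K17.f284985 IH) (Lpn (LP (LK LD1_c5 LD2_c12 LD3_c14))))))))))))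
theorem f611 : Led Lsl_dt (LP (LK LD1_c4 LD2_c16 LD3_c19)) = (LP (LK LD1_c2 LD2_c5 LD3_c30)) :=
  Lre_d IH (LK LD1_c4 LD2_c16 LD3_c19) (LK LD1_c2 LD2_c5 LD3_c30) Lrfl Lrfl
theorem f612 : Led Lsl_gt (LP (LK LD1_c2 LD2_c5 LD3_c30)) = (LP (LK LD1_c4 LD2_c16 LD3_c17)) :=
  Lre_g IH (LK LD1_c2 LD2_c5 LD3_c30) (LK LD1_c4 LD2_c16 LD3_c17) Lrfl Lrfl
theorem f271434 : Led Lsl_ft (LP (LK LD1_c2 LD2_c5 LD3_c30)) = (LP (LK LD1_c4 LD2_c16 LD3_c20)) :=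
  Lre_f IH (LK LD1_c2 LD2_c5 LD3_c30) (LK LD1_c4 LD2_c16 LD3_c20) Lrfl Lrfl
theorem f273535 : Led Lsl_gt (LP (LK LD1_c4 LD2_c16 LD3_c17)) = (LP (LK LD1_c8 LD2_c29 LD3_c57)) :=
  Lgr Lrot46 (Lpe (f612 IH) (Lpr_ft (f271434 IH) (Lpr_at (K16.f273528 IH) (Lpn (LP (LK LD1_c8 LD2_c29 LD3_c57))))))
theorem f273524 : Led Lsl_ef (LP (LK LD1_c10 LD2_c17 LD3_c1)) = (LP (LK LD1_c5 LD2_c17 LD3_c37)) :=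
  Lgr Lrot88 (Lpr_et (K16.f273505 IH) (Lpn (LP (LK LD1_c5 LD2_c17 LD3_c37))))
theorem f47600 : Led Lsl_gt (LP (LK LD1_c2 LD2_c34 LD3_c48)) = (LP (LK LD1_c5 LD2_c15 LD3_c57)) :=
  Lre_g IH (LK LD1_c2 LD2_c34 LD3_c48) (LK LD1_c5 LD2_c15 LD3_c57) Lrfl Lrfl
theorem f273539 : Led Lsl_df (LP (LK LD1_c4 LD2_c16 LD3_c17)) = (LP (LK LD1_c5 LD2_c15 LD3_c57)) :=
  Lgr Lrot135 (Lpr_gt (f273535 IH) (Lpr_df (K15.f49048 IH) (Lpe (f273524 IH) (Lpe (K16.f273396 IH) (Lpr_ef (K17.f263075 IH) (Lpr_dt (K15.f259223 IH) (Lpe (K18.f262984 IH) (Lpe (K12.f47565 IH) (Lpr_et (K10.f47567 IH) (Lpr_gt (f47600 IH) (Lpn (LP (LK LD1_c5 LD2_c15 LD3_c57)))))))))))))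
theorem f273541 : Led Lsl_et (LP (LK LD1_c5 LD2_c15 LD3_c57)) = (LP (LK LD1_c10 LD2_c21 LD3_c20)) :=
  Lre_e IH (LK LD1_c5 LD2_c15 LD3_c57) (LK LD1_c10 LD2_c21 LD3_c20) Lrfl Lrfl
theorem f50397 : Led Lsl_et (LP (LK LD1_c4 LD2_c2 LD3_c50)) = (LP (LK LD1_c1 LD2_c58 LD3_c26)) :=
  Lre_e IH (LK LD1_c4 LD2_c2 LD3_c50) (LK LD1_c1 LD2_c58 LD3_c26) Lrfl Lrfl
theorem f340304 : Led Lsl_df (LP (LK LD1_c4 LD2_c2 LD3_c50)) = (LP (LK LD1_c5 LD2_c15 LD3_c40)) :=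
  Lgr Lrot70 (Lpr_et (f50397 IH) (Lpr_dt (K14.f50396 IH) (Lpe (K15.f258555 IH) (Lpe (K17.f284983 IH) (Lpr_et (f340295 IH) (Lpn (LP (LK LD1_c5 LD2_c15 LD3_c40))))))))
theorem f340319 : Led Lsl_gt (LP (LK LD1_c10 LD2_c21 LD3_c20)) = (LP (LK LD1_c10 LD2_c26 LD3_c21)) :=
  Lgr Lrot137 (Lpe (f273541 IH) (Lpe (f273539 IH) (Lpe (f612 IH) (Lpe (f611 IH) (Lpe (K16.f254561 IH) (Lpr_gf (f284991 IH) (Lpr_ef (f340306 IH) (Lpe (f340304 IH) (Lpe (K17.f254508 IH) (Lpr_df (K17.f263444 IH) (Lpn (LP (LK LD1_c10 LD2_c26 LD3_c21)))))))))))))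
theorem f633 : Led Lsl_et (LP (LK LD1_c15 LD2_c36 LD3_c5)) = (LP (LK LD1_c8 LD2_c17 LD3_c45)) :=
  Lre_e IH (LK LD1_c15 LD2_c36 LD3_c5) (LK LD1_c8 LD2_c17 LD3_c45) Lrfl Lrfl
theorem f623 : Led Lsl_dt (LP (LK LD1_c8 LD2_c17 LD3_c45)) = (LP (LK LD1_c4 LD2_c8 LD3_c47)) :=
  Lre_d IH (LK LD1_c8 LD2_c17 LD3_c45) (LK LD1_c4 LD2_c8 LD3_c47) Lrfl Lrfl
theorem f660 : Led Lsl_dt (LP (LK LD1_c15 LD2_c39 LD3_c8)) = (LP (LK LD1_c15 LD2_c36 LD3_c5)) :=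
  Lgr Lrot77 (Lpe (K22.f659 IH) (Lpr_df (K13.f655 IH) (Lpe (K13.f638 IH) (Lpe (f623 IH) (Lpe (f633 IH) (Lpn (LP (LK LD1_c15 LD2_c36 LD3_c5))))))))
theorem f685 : Led Lsl_df (LP (LK LD1_c15 LD2_c39 LD3_c8)) = (LP (LK LD1_c15 LD2_c36 LD3_c5)) :=
  Lgr Lrot38 (Lpr_dt (f660 IH) (Lpn (LP (LK LD1_c15 LD2_c36 LD3_c5))))
theorem f32210 : Led Lsl_dt (LP (LK LD1_c5 LD2_c18 LD3_c18)) = (LP (LK LD1_c10 LD2_c26 LD3_c20)) :=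
  Lre_d IH (LK LD1_c5 LD2_c18 LD3_c18) (LK LD1_c10 LD2_c26 LD3_c20) Lrfl Lrfl
theorem f340321 : Led Lsl_gf (LP (LK LD1_c15 LD2_c39 LD3_c8)) = (LP (LK LD1_c10 LD2_c26 LD3_c20)) :=
  Lgr Lrot145 (Lpr_df (f685 IH) (Lpr_et (f633 IH) (Lpr_gt (K13.f603 IH) (Lpr_dt (f611 IH) (Lpr_gt (f612 IH) (Lpr_df (f273539 IH) (Lpr_et (f273541 IH) (Lpr_gt (f340319 IH) (Lpe (K17.f263443 IH) (Lpr_dt (f32210 IH) (Lpn (LP (LK LD1_c10 LD2_c26 LD3_c20)))))))))))))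
theorem f251140 : Led Lsl_gt (LP (LK LD1_c4 LD2_c15 LD3_c46)) = (LP (LK LD1_c8 LD2_c29 LD3_c40)) :=
  Lgr Lrot46 (Lpe (K13.f637 IH) (Lpr_ft (K13.f243114 IH) (Lpr_at (K14.f251132 IH) (Lpn (LP (LK LD1_c8 LD2_c29 LD3_c40))))))
theorem f251247 : Led Lsl_at (LP (LK LD1_c5 LD2_c17 LD3_c5)) = (LP (LK LD1_c2 LD2_c35 LD3_c40)) :=
  Lgr Lrot66 (Lpe (K15.f230010 IH) (Lpr_af (K15.f251245 IH) (Lpe (K15.f251207 IH) (Lpn (LP (LK LD1_c2 LD2_c35 LD3_c40))))))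
theorem f251258 : Led Lsl_gt (LP (LK LD1_c10 LD2_c23 LD3_c48)) = (LP (LK LD1_c5 LD2_c17 LD3_c54)) :=
  Lgr Lrot5 (Lpr_ft (K15.f230010 IH) (Lpr_at (f251247 IH) (Lpe (f251257 IH) (Lpn (LP (LK LD1_c5 LD2_c17 LD3_c54))))))
theorem f333419 : Led Lsl_bt (LP (LK LD1_c8 LD2_c59 LD3_c49)) = (LP (LK LD1_c4 LD2_c30 LD3_c48)) :=
  Lre_b IH (LK LD1_c8 LD2_c59 LD3_c49) (LK LD1_c4 LD2_c30 LD3_c48) Lrfl Lrfl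
theorem f340280 : Led Lsl_dt (LP (LK LD1_c5 LD2_c17 LD3_c54)) = (LP (LK LD1_c8 LD2_c59 LD3_c49)) :=
  Lgr Lrot79 (Lpr_bf (f340274 IH) (Lpr_df (K22.f333637 IH) (Lpe (f333419 IH) (Lpn (LP (LK LD1_c8 LD2_c59 LD3_c49))))))
theorem f254512 : Led Lsl_df (LP (LK LD1_c15 LD2_c15 LD3_c24)) = (LP (LK LD1_c10 LD2_c15 LD3_c5)) :=
  Lgr Lrot38 (Lpr_dt (K17.f254510 IH) (Lpn (LP (LK LD1_c10 LD2_c15 LD3_c5))))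
theorem f340323 : Led Lsl_gt (LP (LK LD1_c8 LD2_c59 LD3_c49)) = (LP (LK LD1_c15 LD2_c15 LD3_c24)) :=
  Lgr Lrot139 (Lpe (f340280 IH) (Lpe (f251258 IH) (Lpr_ef (K15.f251171 IH) (Lpe (K14.f49001 IH) (Lpe (f251140 IH) (Lpe (K22.f657 IH) (Lpr_et (K22.f659 IH) (Lpr_gf (f340321 IH) (Lpe (K17.f263433 IH) (Lpe (f254512 IH) (Lpn (LP (LK LD1_c15 LD2_c15 LD3_c24)))))))))))))
theorem f198704 : Led Lsl_et (LP (LK LD1_c4 LD2_c30 LD3_c45)) = (LP (LK LD1_c8 LD2_c59 LD3_c49)) :=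
  Lre_e IH (LK LD1_c4 LD2_c30 LD3_c45) (LK LD1_c8 LD2_c59 LD3_c49) Lrfl Lrfl
theorem f198697 : Led Lsl_dt (LP (LK LD1_c4 LD2_c30 LD3_c45)) = (LP (LK LD1_c8 LD2_c59 LD3_c48)) :=
  Lre_d IH (LK LD1_c4 LD2_c30 LD3_c45) (LK LD1_c8 LD2_c59 LD3_c48) Lrfl Lrfl
theorem f264480 : Led Lsl_gt (LP (LK LD1_c5 LD2_c27 LD3_c33)) = (LP (LK LD1_c2 LD2_c40 LD3_c23)) :=
  Lre_g IH (LK LD1_c5 LD2_c27 LD3_c33) (LK LD1_c2 LD2_c40 LD3_c23) Lrfl Lrfl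
theorem f335602 : Led Lsl_gf (LP (LK LD1_c6 LD2_c5 LD3_c34)) = (LP (LK LD1_c8 LD2_c15 LD3_c16)) :=
  Lgr Lrot134 (Lpe (K21.f264456 IH) (Lpr_et (K21.f264473 IH) (Lpr_gt (f264480 IH) (Lpr_ef (K22.f335592 IH) (Lpe (K20.f283138 IH) (Lpr_gt (K20.f283142 IH) (Lpr_df (K20.f301536 IH) (Lpr_et (K20.f273512 IH) (Lpr_gt (K20.f273511 IH) (Lpr_dt (K22.f282421 IH) (Lpn (LP (LK LD1_c8 LD2_c15 LD3_c16)))))))))))))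
theorem f264487 : Led Lsl_dt (LP (LK LD1_c4 LD2_c28 LD3_c53)) = (LP (LK LD1_c5 LD2_c27 LD3_c33)) :=
  Lgr Lrot42 (Lpr_df (K21.f264484 IH) (Lpn (LP (LK LD1_c5 LD2_c27 LD3_c33))))
theorem f323497 : Led Lsl_df (LP (LK LD1_c8 LD2_c56 LD3_c5)) = (LP (LK LD1_c11 LD2_c2 LD3_c26)) :=
  Lgr Lrot70 (Lpr_et (K21.f197581 IH) (Lpr_dt (f264487 IH) (Lpe (K21.f264478 IH) (Lpr_dt (K21.f264456 IH) (Lpr_et (K21.f323493 IH) (Lpn (LP (LK LD1_c11 LD2_c2 LD3_c26))))))))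
theorem f340328 : Led Lsl_gf (LP (LK LD1_c8 LD2_c59 LD3_c48)) = (LP (LK LD1_c8 LD2_c56 LD3_c5)) :=
  Lgr Lrot145 (Lpe (f198697 IH) (Lpr_et (f198704 IH) (Lpr_gt (f340323 IH) (Lpr_dt (K17.f254510 IH) (Lpr_gt (K17.f263427 IH) (Lpe (K17.f47768 IH) (Lpr_et (K22.f282423 IH) (Lpe (f335602 IH) (Lpr_ef (K21.f323499 IH) (Lpe (f323497 IH) (Lpn (LP (LK LD1_c8 LD2_c56 LD3_c5)))))))))))))
theorem f198699 : Led Lsl_dt (LP (LK LD1_c8 LD2_c59 LD3_c48)) = (LP (LK LD1_c4 LD2_c30 LD3_c45)) :=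
  Lre_d IH (LK LD1_c8 LD2_c59 LD3_c48) (LK LD1_c4 LD2_c30 LD3_c45) Lrfl Lrfl
theorem f323505 : Led Lsl_ct (LP (LK LD1_c16 LD2_c43 LD3_c27)) = (LP (LK LD1_c8 LD2_c56 LD3_c5)) :=
  Lre_c IH (LK LD1_c16 LD2_c43 LD3_c27) (LK LD1_c8 LD2_c56 LD3_c5) Lrfl Lrfl
theorem f323514 : Led Lsl_gt (LP (LK LD1_c16 LD2_c43 LD3_c27)) = (LP (LK LD1_c26 LD2_c42 LD3_c15)) :=
  Lre_g IH (LK LD1_c16 LD2_c43 LD3_c27) (LK LD1_c26 LD2_c42 LD3_c15) Lrfl Lrfl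
theorem f41592 : Led Lsl_ct (LP (LK LD1_c4 LD2_c28 LD3_c42)) = (LP (LK LD1_c8 LD2_c55 LD3_c40)) :=
  Lre_c IH (LK LD1_c4 LD2_c28 LD3_c42) (LK LD1_c8 LD2_c55 LD3_c40) Lrfl Lrfl
theorem f329944 : Led Lsl_bt (LP (LK LD1_c4 LD2_c28 LD3_c42)) = (LP (LK LD1_c8 LD2_c3 LD3_c7)) :=
  Lgr Lrot127 (Lpr_bf (K22.f329942 IH) (Lpn (LP (LK LD1_c8 LD2_c3 LD3_c7))))
theorem f329992 : Led Lsl_gf (LP (LK LD1_c8 LD2_c55 LD3_c40)) = (LP (LK LD1_c11 LD2_c53 LD3_c16)) :=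
  Lgr Lrot129 (Lpe (f41592 IH) (Lpr_bt (f329944 IH) (Lpr_gt (K19.f28108 IH) (Lpr_bf (K10.f196540 IH) (Lpr_ct (K21.f194655 IH) (Lpr_gt (K21.f324081 IH) (Lpe (K21.f55270 IH) (Lpr_bt (K21.f310237 IH) (Lpe (K21.f324089 IH) (Lpe (K10.f182110 IH) (Lpn (LP (LK LD1_c11 LD2_c53 LD3_c16)))))))))))))
theorem f329994 : Led Lsl_gt (LP (LK LD1_c8 LD2_c55 LD3_c40)) = (LP (LK LD1_c15 LD2_c19 LD3_c8)) :=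
  Lgr Lrot46 (Lpr_gf (f329992 IH) (Lpr_ft (K20.f292563 IH) (Lpe (K22.f292565 IH) (Lpn (LP (LK LD1_c15 LD2_c19 LD3_c8))))))
theorem f222442 : Led Lsl_bf (LP (LK LD1_c8 LD2_c17 LD3_c8)) = (LP (LK LD1_c8 LD2_c23 LD3_c60)) :=
  Lgr Lrot61 (Lpr_ft (K12.f222438 IH) (Lpe (K10.f183650 IH) (Lpr_ft (K17.f219379 IH) (Lpn (LP (LK LD1_c8 LD2_c23 LD3_c60))))))
theorem f337690 : Led Lsl_bt (LP (LK LD1_c10 LD2_c42 LD3_c31)) = (LP (LK LD1_c10 LD2_c24 LD3_c30)) :=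
  Lgr Lrot92 (Lpr_ct (K22.f41508 IH) (Lpr_gt (K22.f41507 IH) (Lpe (K19.f41483 IH) (Lpr_bt (K22.f337686 IH) (Lpe (K22.f329974 IH) (Lpr_ct (f41592 IH) (Lpr_gt (f329994 IH) (Lpr_cf (K17.f220811 IH) (Lpe (f222442 IH) (Lpr_gt (K15.f222446 IH) (Lpn (LP (LK LD1_c10 LD2_c24 LD3_c30)))))))))))))
theorem f337692 : Led Lsl_bf (LP (LK LD1_c10 LD2_c42 LD3_c31)) = (LP (LK LD1_c10 LD2_c24 LD3_c30)) :=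
  Lgr Lrot24 (Lpr_bt (f337690 IH) (Lpn (LP (LK LD1_c10 LD2_c24 LD3_c30))))
theorem f221181 : Led Lsl_ff (LP (LK LD1_c5 LD2_c31 LD3_c5)) = (LP (LK LD1_c10 LD2_c43 LD3_c58)) :=
  Lgr Lrot3 (Lpr_ft (K22.f221172 IH) (Lpn (LP (LK LD1_c10 LD2_c43 LD3_c58))))
theorem f221056 : Led Lsl_et (LP (LK LD1_c2 LD2_c41 LD3_c49)) = (LP (LK LD1_c5 LD2_c31 LD3_c5)) :=
  Lre_e IH (LK LD1_c2 LD2_c41 LD3_c49) (LK LD1_c5 LD2_c31 LD3_c5) Lrfl Lrfl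
theorem f221057 : Led Lsl_af (LP (LK LD1_c8 LD2_c27 LD3_c14)) = (LP (LK LD1_c5 LD2_c31 LD3_c5)) :=
  Lgr Lrot50 (Lpr_et (K21.f183789 IH) (Lpr_at (K12.f220878 IH) (Lpr_et (f221056 IH) (Lpn (LP (LK LD1_c5 LD2_c31 LD3_c5))))))
theorem f27447 : Led Lsl_gt (LP (LK LD1_c15 LD2_c52 LD3_c27)) = (LP (LK LD1_c8 LD2_c27 LD3_c14)) :=
  Lre_g IH (LK LD1_c15 LD2_c52 LD3_c27) (LK LD1_c8 LD2_c27 LD3_c14) Lrfl Lrfl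
theorem f221186 : Led Lsl_gf (LP (LK LD1_c15 LD2_c52 LD3_c27)) = (LP (LK LD1_c10 LD2_c43 LD3_c58)) :=
  Lgr Lrot47 (Lpr_gt (f27447 IH) (Lpr_af (f221057 IH) (Lpr_ff (f221181 IH) (Lpn (LP (LK LD1_c10 LD2_c43 LD3_c58))))))
theorem f322745 : Led Lsl_bt (LP (LK LD1_c5 LD2_c35 LD3_c17)) = (LP (LK LD1_c4 LD2_c14 LD3_c53)) :=
  Lgr Lrot127 (Lpr_bf (K20.f322743 IH) (Lpn (LP (LK LD1_c4 LD2_c14 LD3_c53))))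
theorem f212888 : Led Lsl_ct (LP (LK LD1_c5 LD2_c35 LD3_c17)) = (LP (LK LD1_c11 LD2_c2 LD3_c42)) :=
  Lre_c IH (LK LD1_c5 LD2_c35 LD3_c17) (LK LD1_c11 LD2_c2 LD3_c42) Lrfl Lrfl
theorem f329864 : Led Lsl_gt (LP (LK LD1_c11 LD2_c2 LD3_c34)) = (LP (LK LD1_c11 LD2_c2 LD3_c42)) :=
  Lgr Lrot149 (Lpe (K17.f235450 IH) (Lpr_gf (K21.f329837 IH) (Lpe (K20.f224567 IH) (Lpr_ct (K20.f41506 IH) (Lpe (K22.f224592 IH) (Lpr_cf (K19.f189331 IH) (Lpr_bt (K14.f27567 IH) (Lpr_gf (K19.f27623 IH) (Lpe (f322745 IH) (Lpr_ct (f212888 IH) (Lpn (LP (LK LD1_c11 LD2_c2 LD3_c42)))))))))))))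
theorem f330076 : Led Lsl_gf (LP (LK LD1_c8 LD2_c39 LD3_c24)) = (LP (LK LD1_c11 LD2_c2 LD3_c42)) :=
  Lgr Lrot76 (Lpr_af (K10.f31219 IH) (Lpe (K16.f235257 IH) (Lpr_gt (f329864 IH) (Lpn (LP (LK LD1_c11 LD2_c2 LD3_c42))))))
theorem f54297 : Led Lsl_bt (LP (LK LD1_c4 LD2_c20 LD3_c52)) = (LP (LK LD1_c4 LD2_c15 LD3_c2)) :=
  Lgr Lrot127 (Lpr_bf (K11.f54295 IH) (Lpn (LP (LK LD1_c4 LD2_c15 LD3_c2))))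
theorem f330123 : Led Lsl_ct (LP (LK LD1_c8 LD2_c29 LD3_c6)) = (LP (LK LD1_c15 LD2_c52 LD3_c27)) :=
  Lgr Lrot91 (Lpe (K20.f45172 IH) (Lpe (f54297 IH) (Lpr_ct (K11.f31143 IH) (Lpr_gf (f330076 IH) (Lpe (f212888 IH) (Lpr_bt (f322745 IH) (Lpe (K19.f27470 IH) (Lpe (K11.f27432 IH) (Lpr_ct (K21.f27436 IH) (Lpe (f27447 IH) (Lpn (LP (LK LD1_c15 LD2_c52 LD3_c27)))))))))))))
theorem f323589 : Led Lsl_gt (LP (LK LD1_c9 LD2_c42 LD3_c7)) = (LP (LK LD1_c15 LD2_c25 LD3_c60)) :=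
  Lgr Lrot5 (Lpe (K12.f217320 IH) (Lpr_at (K21.f191247 IH) (Lpr_gf (K21.f323587 IH) (Lpn (LP (LK LD1_c15 LD2_c25 LD3_c60))))))
theorem f217164 : Led Lsl_bt (LP (LK LD1_c5 LD2_c22 LD3_c15)) = (LP (LK LD1_c2 LD2_c40 LD3_c56)) :=
  Lgr Lrot62 (Lpr_af (K12.f196804 IH) (Lpe (K20.f196542 IH) (Lpe (K19.f27979 IH) (Lpe (K9.f27982 IH) (Lpr_af (K12.f217160 IH) (Lpn (LP (LK LD1_c2 LD2_c40 LD3_c56))))))))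
theorem f217333 : Led Lsl_gt (LP (LK LD1_c5 LD2_c29 LD3_c20)) = (LP (LK LD1_c2 LD2_c40 LD3_c56)) :=
  Lre_g IH (LK LD1_c5 LD2_c29 LD3_c20) (LK LD1_c2 LD2_c40 LD3_c56) Lrfl Lrfl
theorem f330127 : Led Lsl_bt (LP (LK LD1_c8 LD2_c29 LD3_c6)) = (LP (LK LD1_c5 LD2_c29 LD3_c20)) :=
  Lgr Lrot22 (Lpr_ct (f330123 IH) (Lpr_gf (f221186 IH) (Lpr_cf (K21.f196080 IH) (Lpe (K22.f189710 IH) (Lpr_bf (K21.f323591 IH) (Lpr_ct (K21.f55079 IH) (Lpe (f323589 IH) (Lpe (K12.f217329 IH) (Lpr_bt (f217164 IH) (Lpe (f217333 IH) (Lpn (LP (LK LD1_c5 LD2_c29 LD3_c20)))))))))))))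
theorem f217281 : Led Lsl_gt (LP (LK LD1_c5 LD2_c29 LD3_c19)) = (LP (LK LD1_c10 LD2_c49 LD3_c59)) :=
  Lre_g IH (LK LD1_c5 LD2_c29 LD3_c19) (LK LD1_c10 LD2_c49 LD3_c59) Lrfl Lrfl
theorem f337782 : Led Lsl_ct (LP (LK LD1_c10 LD2_c24 LD3_c30)) = (LP (LK LD1_c10 LD2_c49 LD3_c59)) :=
  Lgr Lrot63 (Lpe (f337692 IH) (Lpr_gt (K22.f337775 IH) (Lpr_bf (K14.f195942 IH) (Lpe (K21.f196080 IH) (Lpe (f221186 IH) (Lpe (f330123 IH) (Lpr_bt (f330127 IH) (Lpr_gt (f217333 IH) (Lpr_ct (K12.f217175 IH) (Lpr_gt (f217281 IH) (Lpn (LP (LK LD1_c10 LD2_c49 LD3_c59)))))))))))))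
theorem f337786 : Led Lsl_cf (LP (LK LD1_c10 LD2_c24 LD3_c30)) = (LP (LK LD1_c10 LD2_c49 LD3_c59)) :=
  Lgr Lrot11 (Lpr_ct (f337782 IH) (Lpn (LP (LK LD1_c10 LD2_c49 LD3_c59))))
theorem f189684 : Led Lsl_dt (LP (LK LD1_c10 LD2_c24 LD3_c30)) = (LP (LK LD1_c18 LD2_c52 LD3_c59)) :=
  Lre_d IH (LK LD1_c10 LD2_c24 LD3_c30) (LK LD1_c18 LD2_c52 LD3_c59) Lrfl Lrfl
theorem f330144 : Led Lsl_dt (LP (LK LD1_c10 LD2_c50 LD3_c1)) = (LP (LK LD1_c5 LD2_c29 LD3_c20)) :=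
  Lre_d IH (LK LD1_c10 LD2_c50 LD3_c1) (LK LD1_c5 LD2_c29 LD3_c20) Lrfl Lrfl
theorem f330129 : Led Lsl_gf (LP (LK LD1_c5 LD2_c29 LD3_c20)) = (LP (LK LD1_c4 LD2_c7 LD3_c46)) :=
  Lgr Lrot124 (Lpe (f330127 IH) (Lpr_ct (f330123 IH) (Lpr_gt (f27447 IH) (Lpe (K21.f27436 IH) (Lpr_bt (K11.f27432 IH) (Lpr_gt (K19.f27470 IH) (Lpe (K20.f312224 IH) (Lpr_gt (K20.f52998 IH) (Lpe (K9.f28024 IH) (Lpr_bt (K9.f50365 IH) (Lpn (LP (LK LD1_c4 LD2_c7 LD3_c46)))))))))))))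
theorem f330131 : Led Lsl_dt (LP (LK LD1_c5 LD2_c29 LD3_c20)) = (LP (LK LD1_c10 LD2_c50 LD3_c1)) :=
  Lre_d IH (LK LD1_c5 LD2_c29 LD3_c20) (LK LD1_c10 LD2_c50 LD3_c1) Lrfl Lrfl
theorem f330142 : Led Lsl_gt (LP (LK LD1_c10 LD2_c50 LD3_c1)) = (LP (LK LD1_c8 LD2_c56 LD3_c5)) :=
  Lgr Lrot139 (Lpe (f330131 IH) (Lpr_gf (f330129 IH) (Lpe (K9.f49608 IH) (Lpr_dt (K9.f49605 IH) (Lpr_gf (K10.f192533 IH) (Lpe (K20.f182064 IH) (Lpr_et (K22.f192540 IH) (Lpe (K21.f192541 IH) (Lpr_ef (K21.f323499 IH) (Lpe (f323497 IH) (Lpn (LP (LK LD1_c8 LD2_c56 LD3_c5)))))))))))))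
theorem f323511 : Led Lsl_ct (LP (LK LD1_c8 LD2_c56 LD3_c5)) = (LP (LK LD1_c16 LD2_c43 LD3_c27)) :=
  Lre_c IH (LK LD1_c8 LD2_c56 LD3_c5) (LK LD1_c16 LD2_c43 LD3_c27) Lrfl Lrfl
theorem f337806 : Led Lsl_cf (LP (LK LD1_c18 LD2_c52 LD3_c59)) = (LP (LK LD1_c26 LD2_c42 LD3_c15)) :=
  Lgr Lrot99 (Lpe (f189684 IH) (Lpr_cf (f337786 IH) (Lpe (f217281 IH) (Lpe (K12.f217175 IH) (Lpe (f217333 IH) (Lpe (f330144 IH) (Lpr_gt (f330142 IH) (Lpr_ct (f323511 IH) (Lpr_gt (f323514 IH) (Lpn (LP (LK LD1_c26 LD2_c42 LD3_c15))))))))))))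
theorem f337810 : Led Lsl_et (LP (LK LD1_c18 LD2_c46 LD3_c27)) = (LP (LK LD1_c26 LD2_c42 LD3_c15)) :=
  Lgr Lrot158 (Lpr_cf (K21.f326706 IH) (Lpr_ef (K15.f259701 IH) (Lpr_cf (f337806 IH) (Lpn (LP (LK LD1_c26 LD2_c42 LD3_c15))))))
theorem f337812 : Led Lsl_ef (LP (LK LD1_c18 LD2_c46 LD3_c27)) = (LP (LK LD1_c26 LD2_c42 LD3_c15)) :=
  Lgr Lrot88 (Lpr_et (f337810 IH) (Lpn (LP (LK LD1_c26 LD2_c42 LD3_c15))))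
theorem f216882 : Led Lsl_et (LP (LK LD1_c5 LD2_c29 LD3_c19)) = (LP (LK LD1_c2 LD2_c40 LD3_c55)) :=
  Lre_e IH (LK LD1_c5 LD2_c29 LD3_c19) (LK LD1_c2 LD2_c40 LD3_c55) Lrfl Lrfl
theorem f216884 : Led Lsl_gt (LP (LK LD1_c10 LD2_c49 LD3_c61)) = (LP (LK LD1_c19 LD2_c34 LD3_c59)) :=
  Lre_g IH (LK LD1_c10 LD2_c49 LD3_c61) (LK LD1_c19 LD2_c34 LD3_c59) Lrfl Lrfl
theorem f337815 : Led Lsl_df (LP (LK LD1_c19 LD2_c34 LD3_c59)) = (LP (LK LD1_c26 LD2_c42 LD3_c15)) :=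
  Lgr Lrot168 (Lpe (f216884 IH) (Lpe (K12.f216883 IH) (Lpr_et (f216882 IH) (Lpr_gf (K13.f216876 IH) (Lpe (K13.f50202 IH) (Lpr_dt (K21.f50203 IH) (Lpe (K21.f326702 IH) (Lpe (K21.f326624 IH) (Lpr_gf (K21.f326639 IH) (Lpr_ef (f337812 IH) (Lpn (LP (LK LD1_c26 LD2_c42 LD3_c15)))))))))))))
theorem f49748 : Led Lsl_af (LP (LK LD1_c15 LD2_c31 LD3_c61)) = (LP (LK LD1_c15 LD2_c33 LD3_c14)) :=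
  Lgr Lrot0 (Lpr_at (K9.f49746 IH) (Lpn (LP (LK LD1_c15 LD2_c33 LD3_c14))))
theorem f217166 : Led Lsl_ct (LP (LK LD1_c5 LD2_c29 LD3_c19)) = (LP (LK LD1_c2 LD2_c40 LD3_c56)) :=
  Lre_c IH (LK LD1_c5 LD2_c29 LD3_c19) (LK LD1_c2 LD2_c40 LD3_c56) Lrfl Lrfl
theorem f217183 : Led Lsl_dt (LP (LK LD1_c10 LD2_c49 LD3_c61)) = (LP (LK LD1_c5 LD2_c29 LD3_c19)) :=
  Lre_d IH (LK LD1_c10 LD2_c49 LD3_c61) (LK LD1_c5 LD2_c29 LD3_c19) Lrfl Lrfl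
theorem f217189 : Led Lsl_ff (LP (LK LD1_c15 LD2_c33 LD3_c14)) = (LP (LK LD1_c10 LD2_c49 LD3_c61)) :=
  Lgr Lrot103 (Lpe (f49748 IH) (Lpe (K12.f49752 IH) (Lpr_df (K12.f217179 IH) (Lpe (K12.f217178 IH) (Lpe (K12.f216883 IH) (Lpe (K12.f217175 IH) (Lpe (K12.f217169 IH) (Lpe (f217166 IH) (Lpe (f217183 IH) (Lpn (LP (LK LD1_c10 LD2_c49 LD3_c61))))))))))))
theorem f217287 : Led Lsl_gf (LP (LK LD1_c15 LD2_c31 LD3_c61)) = (LP (LK LD1_c19 LD2_c34 LD3_c59)) :=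
  Lgr Lrot76 (Lpr_af (f49748 IH) (Lpr_ff (f217189 IH) (Lpr_gt (f216884 IH) (Lpn (LP (LK LD1_c19 LD2_c34 LD3_c59))))))
theorem f340333 : Led Lsl_gt (LP (LK LD1_c4 LD2_c30 LD3_c45)) = (LP (LK LD1_c4 LD2_c7 LD3_c46)) :=
  Lgr Lrot49 (Lpe (f198699 IH) (Lpr_gf (f340328 IH) (Lpe (f323505 IH) (Lpr_gt (f323514 IH) (Lpe (f337815 IH) (Lpe (f217287 IH) (Lpr_dt (K12.f50091 IH) (Lpe (K12.f49776 IH) (Lpe (K9.f50087 IH) (Lpn (LP (LK LD1_c4 LD2_c7 LD3_c46))))))))))))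
theorem f340342 : Led Lsl_bt (LP (LK LD1_c2 LD2_c12 LD3_c19)) = (LP (LK LD1_c4 LD2_c30 LD3_c45)) :=
  Lre_b IH (LK LD1_c2 LD2_c12 LD3_c19) (LK LD1_c4 LD2_c30 LD3_c45) Lrfl Lrfl
theorem f8625 : Led Lsl_ct (LP (LK LD1_c2 LD2_c12 LD3_c19)) = (LP (LK LD1_c4 LD2_c30 LD3_c46)) :=
  Lre_c IH (LK LD1_c2 LD2_c12 LD3_c19) (LK LD1_c4 LD2_c30 LD3_c46) Lrfl Lrfl
theorem f340343 : Led Lsl_gf (LP (LK LD1_c4 LD2_c30 LD3_c46)) = (LP (LK LD1_c2 LD2_c41 LD3_c59)) :=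
  Lgr Lrot129 (Lpe (f8625 IH) (Lpr_bt (f340342 IH) (Lpr_gt (f340333 IH) (Lpe (K9.f50365 IH) (Lpr_ct (K9.f28024 IH) (Lpe (K22.f52412 IH) (Lpr_cf (K22.f339098 IH) (Lpe (K22.f309888 IH) (Lpr_gt (K19.f41328 IH) (Lpr_ct (K9.f173551 IH) (Lpn (LP (LK LD1_c2 LD2_c41 LD3_c59)))))))))))))
theorem f340345 : Led Lsl_gt (LP (LK LD1_c4 LD2_c30 LD3_c46)) = (LP (LK LD1_c4 LD2_c5 LD3_c34)) :=
  Lgr Lrot46 (Lpr_gf (f340343 IH) (Lpe (K9.f173544 IH) (Lpr_at (K9.f55673 IH) (Lpn (LP (LK LD1_c4 LD2_c5 LD3_c34))))))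
theorem f8623 : Led Lsl_ct (LP (LK LD1_c4 LD2_c30 LD3_c46)) = (LP (LK LD1_c2 LD2_c12 LD3_c19)) :=
  Lre_c IH (LK LD1_c4 LD2_c30 LD3_c46) (LK LD1_c2 LD2_c12 LD3_c19) Lrfl Lrfl
theorem f7655 : Led Lsl_ct (LP (LK LD1_c4 LD2_c30 LD3_c51)) = (LP (LK LD1_c8 LD2_c59 LD3_c56)) :=
  Lre_c IH (LK LD1_c4 LD2_c30 LD3_c51) (LK LD1_c8 LD2_c59 LD3_c56) Lrfl Lrfl
theorem f173576 : Led Lsl_gt (LP (LK LD1_c10 LD2_c54 LD3_c45)) = (LP (LK LD1_c5 LD2_c31 LD3_c32)) :=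
  Lre_g IH (LK LD1_c10 LD2_c54 LD3_c45) (LK LD1_c5 LD2_c31 LD3_c32) Lrfl Lrfl
theorem f174044 : Led Lsl_gt (LP (LK LD1_c8 LD2_c12 LD3_c0)) = (LP (LK LD1_c10 LD2_c54 LD3_c45)) :=
  Lgr Lrot5 (Lpe (K19.f55682 IH) (Lpr_at (K19.f173577 IH) (Lpe (f173576 IH) (Lpn (LP (LK LD1_c10 LD2_c54 LD3_c45))))))
theorem f340377 : Led Lsl_df (LP (LK LD1_c8 LD2_c59 LD3_c56)) = (LP (LK LD1_c10 LD2_c54 LD3_c45)) :=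
  Lgr Lrot84 (Lpe (f7655 IH) (Lpe (K20.f7653 IH) (Lpe (K20.f7652 IH) (Lpe (K0.f7605 IH) (Lpr_gf (K18.f8621 IH) (Lpe (f8623 IH) (Lpr_gt (f340345 IH) (Lpr_dt (K2.f55445 IH) (Lpr_gt (f174044 IH) (Lpn (LP (LK LD1_c10 LD2_c54 LD3_c45))))))))))))
theorem f340406 : Led Lsl_dt (LP (LK LD1_c8 LD2_c59 LD3_c56)) = (LP (LK LD1_c10 LD2_c54 LD3_c45)) :=
  Lgr Lrot42 (Lpr_df (f340377 IH) (Lpn (LP (LK LD1_c10 LD2_c54 LD3_c45))))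
theorem f173686 : Led Lsl_et (LP (LK LD1_c2 LD2_c41 LD3_c59)) = (LP (LK LD1_c1 LD2_c17 LD3_c37)) :=
  Lre_e IH (LK LD1_c2 LD2_c41 LD3_c59) (LK LD1_c1 LD2_c17 LD3_c37) Lrfl Lrfl
theorem f181251 : Led Lsl_gt (LP (LK LD1_c2 LD2_c44 LD3_c3)) = (LP (LK LD1_c5 LD2_c36 LD3_c22)) :=
  Lre_g IH (LK LD1_c2 LD2_c44 LD3_c3) (LK LD1_c5 LD2_c36 LD3_c22) Lrfl Lrfl
theorem f340409 : Led Lsl_et (LP (LK LD1_c8 LD2_c59 LD3_c56)) = (LP (LK LD1_c5 LD2_c36 LD3_c22)) :=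
  Lgr Lrot122 (Lpr_dt (f340406 IH) (Lpr_gt (f173576 IH) (Lpe (K9.f173558 IH) (Lpr_et (f173686 IH) (Lpe (K9.f174106 IH) (Lpr_dt (K9.f168099 IH) (Lpe (K12.f225924 IH) (Lpr_df (K12.f183310 IH) (Lpr_et (K17.f225921 IH) (Lpr_gt (f181251 IH) (Lpn (LP (LK LD1_c5 LD2_c36 LD3_c22)))))))))))))
theorem f340351 : Led Lsl_et (LP (LK LD1_c8 LD2_c59 LD3_c51)) = (LP (LK LD1_c4 LD2_c30 LD3_c46)) :=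
  Lre_e IH (LK LD1_c8 LD2_c59 LD3_c51) (LK LD1_c4 LD2_c30 LD3_c46) Lrfl Lrfl
theorem f168562 : Led Lsl_gt (LP (LK LD1_c10 LD2_c49 LD3_c10)) = (LP (LK LD1_c5 LD2_c29 LD3_c1)) :=
  Lre_g IH (LK LD1_c10 LD2_c49 LD3_c10) (LK LD1_c5 LD2_c29 LD3_c1) Lrfl Lrfl
theorem f340352 : Led Lsl_dt (LP (LK LD1_c8 LD2_c59 LD3_c51)) = (LP (LK LD1_c10 LD2_c49 LD3_c10)) :=
  Lgr Lrot136 (Lpr_et (f340351 IH) (Lpr_gf (f340343 IH) (Lpe (K9.f173069 IH) (Lpe (K9.f173067 IH) (Lpr_gf (K9.f168539 IH) (Lpe (K9.f168115 IH) (Lpe (K12.f168549 IH) (Lpe (K17.f168560 IH) (Lpr_dt (K14.f168561 IH) (Lpe (f168562 IH) (Lpn (LP (LK LD1_c10 LD2_c49 LD3_c10)))))))))))))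
theorem f183175 : Led Lsl_dt (LP (LK LD1_c5 LD2_c36 LD3_c43)) = (LP (LK LD1_c11 LD2_c5 LD3_c33)) :=
  Lre_d IH (LK LD1_c5 LD2_c36 LD3_c43) (LK LD1_c11 LD2_c5 LD3_c33) Lrfl Lrfl
theorem f340357 : Led Lsl_gt (LP (LK LD1_c11 LD2_c5 LD3_c33)) = (LP (LK LD1_c10 LD2_c49 LD3_c10)) :=
  Lgr Lrot139 (Lpe (f183175 IH) (Lpr_gf (K20.f287851 IH) (Lpe (K17.f183438 IH) (Lpr_dt (K17.f177788 IH) (Lpe (K10.f183432 IH) (Lpe (K10.f55443 IH) (Lpr_et (K2.f55342 IH) (Lpe (f340345 IH) (Lpe (f340351 IH) (Lpr_dt (f340352 IH) (Lpn (LP (LK LD1_c10 LD2_c49 LD3_c10)))))))))))))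
theorem f340418 : Led Lsl_gf (LP (LK LD1_c5 LD2_c28 LD3_c55)) = (LP (LK LD1_c5 LD2_c36 LD3_c22)) :=
  Lgr Lrot141 (Lpr_ef (K17.f253741 IH) (Lpr_dt (f183175 IH) (Lpr_gt (f340357 IH) (Lpe (f340352 IH) (Lpr_et (f340351 IH) (Lpr_gt (f340345 IH) (Lpr_dt (K2.f55445 IH) (Lpr_gt (f174044 IH) (Lpe (f340406 IH) (Lpr_et (f340409 IH) (Lpn (LP (LK LD1_c5 LD2_c36 LD3_c22)))))))))))))
theorem f253760 : Led Lsl_dt (LP (LK LD1_c5 LD2_c28 LD3_c55)) = (LP (LK LD1_c10 LD2_c48 LD3_c59)) :=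
  Lre_d IH (LK LD1_c5 LD2_c28 LD3_c55) (LK LD1_c10 LD2_c48 LD3_c59) Lrfl Lrfl
theorem f287954 : Led Lsl_ft (LP (LK LD1_c10 LD2_c48 LD3_c59)) = (LP (LK LD1_c5 LD2_c28 LD3_c54)) :=
  Lre_f IH (LK LD1_c10 LD2_c48 LD3_c59) (LK LD1_c5 LD2_c28 LD3_c54) Lrfl Lrfl
theorem f287955 : Led Lsl_gt (LP (LK LD1_c10 LD2_c48 LD3_c59)) = (LP (LK LD1_c6 LD2_c6 LD3_c12)) :=
  Lgr Lrot5 (Lpr_ft (f287954 IH) (Lpr_at (K17.f287944 IH) (Lpe (K22.f181248 IH) (Lpn (LP (LK LD1_c6 LD2_c6 LD3_c12))))))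
theorem f179788 : Led Lsl_dt (LP (LK LD1_c6 LD2_c6 LD3_c12)) = (LP (LK LD1_c2 LD2_c59 LD3_c11)) :=
  Lre_d IH (LK LD1_c6 LD2_c6 LD3_c12) (LK LD1_c2 LD2_c59 LD3_c11) Lrfl Lrfl
theorem f179787 : Led Lsl_ct (LP (LK LD1_c2 LD2_c59 LD3_c11)) = (LP (LK LD1_c1 LD2_c25 LD3_c19)) :=
  Lre_c IH (LK LD1_c2 LD2_c59 LD3_c11) (LK LD1_c1 LD2_c25 LD3_c19) Lrfl Lrfl
theorem f322385 : Led Lsl_gf (LP (LK LD1_c2 LD2_c40 LD3_c37)) = (LP (LK LD1_c4 LD2_c10 LD3_c58)) :=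
  Lgr Lrot138 (Lpe (K12.f7775 IH) (Lpr_gt (K20.f322383 IH) (Lpe (K13.f179774 IH) (Lpr_et (K13.f8577 IH) (Lpr_gt (K10.f183464 IH) (Lpe (K0.f7644 IH) (Lpr_dt (K0.f7605 IH) (Lpr_gt (K20.f7652 IH) (Lpe (K20.f7659 IH) (Lpe (K20.f183264 IH) (Lpn (LP (LK LD1_c4 LD2_c10 LD3_c58)))))))))))))
theorem f340420 : Led Lsl_ct (LP (LK LD1_c4 LD2_c10 LD3_c58)) = (LP (LK LD1_c5 LD2_c36 LD3_c22)) :=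
  Lgr Lrot8 (Lpe (f322385 IH) (Lpe (K12.f7775 IH) (Lpr_gt (K20.f322383 IH) (Lpe (K13.f179790 IH) (Lpe (f179787 IH) (Lpe (f179788 IH) (Lpe (f287955 IH) (Lpe (f253760 IH) (Lpr_gf (f340418 IH) (Lpn (LP (LK LD1_c5 LD2_c36 LD3_c22))))))))))))
theorem f183270 : Led Lsl_bt (LP (LK LD1_c8 LD2_c59 LD3_c54)) = (LP (LK LD1_c4 LD2_c30 LD3_c51)) :=
  Lre_b IH (LK LD1_c8 LD2_c59 LD3_c54) (LK LD1_c4 LD2_c30 LD3_c51) Lrfl Lrfl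
theorem f323977 : Led Lsl_bf (LP (LK LD1_c8 LD2_c18 LD3_c26)) = (LP (LK LD1_c4 LD2_c10 LD3_c58)) :=
  Lgr Lrot96 (Lpr_et (K22.f323975 IH) (Lpr_bt (f183270 IH) (Lpe (K20.f183264 IH) (Lpn (LP (LK LD1_c4 LD2_c10 LD3_c58))))))
theorem f181253 : Led Lsl_ct (LP (LK LD1_c1 LD2_c18 LD3_c24)) = (LP (LK LD1_c2 LD2_c44 LD3_c3)) :=
  Lre_c IH (LK LD1_c1 LD2_c18 LD3_c24) (LK LD1_c2 LD2_c44 LD3_c3) Lrfl Lrfl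
theorem f228847 : Led Lsl_bt (LP (LK LD1_c11 LD2_c4 LD3_c50)) = (LP (LK LD1_c5 LD2_c36 LD3_c16)) :=
  Lre_b IH (LK LD1_c11 LD2_c4 LD3_c50) (LK LD1_c5 LD2_c36 LD3_c16) Lrfl Lrfl
theorem f331184 : Led Lsl_cf (LP (LK LD1_c8 LD2_c18 LD3_c20)) = (LP (LK LD1_c10 LD2_c50 LD3_c5)) :=
  Lgr Lrot39 (Lpr_et (K21.f234464 IH) (Lpr_ct (K21.f331180 IH) (Lpe (K21.f317594 IH) (Lpn (LP (LK LD1_c10 LD2_c50 LD3_c5))))))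
theorem f339205 : Led Lsl_df (LP (LK LD1_c15 LD2_c56 LD3_c26)) = (LP (LK LD1_c25 LD2_c32 LD3_c29)) :=
  Lgr Lrot18 (Lpr_at (K21.f328275 IH) (Lpr_dt (K22.f339168 IH) (Lpr_at (K22.f339201 IH) (Lpn (LP (LK LD1_c25 LD2_c32 LD3_c29))))))
theorem f339215 : Led Lsl_cf (LP (LK LD1_c19 LD2_c35 LD3_c9)) = (LP (LK LD1_c15 LD2_c56 LD3_c26)) :=
  Lgr Lrot118 (Lpr_dt (K19.f213826 IH) (Lpe (f331184 IH) (Lpr_dt (K21.f234449 IH) (Lpr_ct (K22.f295027 IH) (Lpr_dt (K22.f339183 IH) (Lpr_ct (K22.f236335 IH) (Lpe (K22.f328283 IH) (Lpr_ff (K22.f339207 IH) (Lpe (f339205 IH) (Lpn (LP (LK LD1_c15 LD2_c56 LD3_c26))))))))))))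
theorem f298678 : Led Lsl_bt (LP (LK LD1_c5 LD2_c36 LD3_c16)) = (LP (LK LD1_c11 LD2_c4 LD3_c50)) :=
  Lre_b IH (LK LD1_c5 LD2_c36 LD3_c16) (LK LD1_c11 LD2_c4 LD3_c50) Lrfl Lrfl
theorem f299239 : Led Lsl_gt (LP (LK LD1_c10 LD2_c50 LD3_c42)) = (LP (LK LD1_c11 LD2_c4 LD3_c50)) :=
  Lgr Lrot164 (Lpe (K14.f247256 IH) (Lpr_ct (K18.f247258 IH) (Lpr_gf (K18.f299235 IH) (Lpe (K18.f299237 IH) (Lpe (K15.f28867 IH) (Lpe (K13.f196658 IH) (Lpr_ct (K22.f196665 IH) (Lpr_gf (K22.f298673 IH) (Lpe (K22.f228838 IH) (Lpr_bt (f298678 IH) (Lpn (LP (LK LD1_c11 LD2_c4 LD3_c50)))))))))))))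
theorem f299241 : Led Lsl_gf (LP (LK LD1_c8 LD2_c26 LD3_c34)) = (LP (LK LD1_c11 LD2_c4 LD3_c50)) :=
  Lgr Lrot76 (Lpe (K17.f286106 IH) (Lpe (K14.f213830 IH) (Lpr_gt (f299239 IH) (Lpn (LP (LK LD1_c11 LD2_c4 LD3_c50))))))
theorem f339219 : Led Lsl_gt (LP (LK LD1_c15 LD2_c37 LD3_c30)) = (LP (LK LD1_c8 LD2_c18 LD3_c28)) :=
  Lre_g IH (LK LD1_c15 LD2_c37 LD3_c30) (LK LD1_c8 LD2_c18 LD3_c28) Lrfl Lrfl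
theorem f339220 : Led Lsl_ct (LP (LK LD1_c11 LD2_c4 LD3_c50)) = (LP (LK LD1_c15 LD2_c37 LD3_c30)) :=
  Lgr Lrot8 (Lpe (f299241 IH) (Lpe (K16.f262861 IH) (Lpr_gt (K21.f262845 IH) (Lpr_dt (K19.f262846 IH) (Lpr_cf (f339215 IH) (Lpr_df (f339205 IH) (Lpe (K22.f236329 IH) (Lpe (K22.f236324 IH) (Lpe (f339219 IH) (Lpn (LP (LK LD1_c15 LD2_c37 LD3_c30))))))))))))
theorem f340428 : Led Lsl_gt (LP (LK LD1_c10 LD2_c46 LD3_c26)) = (LP (LK LD1_c15 LD2_c37 LD3_c30)) :=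
  Lgr Lrot149 (Lpe (K21.f235898 IH) (Lpr_gf (K21.f324249 IH) (Lpr_bf (f323977 IH) (Lpr_ct (f340420 IH) (Lpe (f181251 IH) (Lpe (f181253 IH) (Lpr_bt (K22.f181256 IH) (Lpe (K22.f228837 IH) (Lpe (f228847 IH) (Lpr_ct (f339220 IH) (Lpn (LP (LK LD1_c15 LD2_c37 LD3_c30)))))))))))))
theorem f236031 : Led Lsl_dt (LP (LK LD1_c10 LD2_c46 LD3_c26)) = (LP (LK LD1_c19 LD2_c29 LD3_c4)) :=
  Lre_d IH (LK LD1_c10 LD2_c46 LD3_c26) (LK LD1_c19 LD2_c29 LD3_c4) Lrfl Lrfl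
theorem f323166 : Led Lsl_at (LP (LK LD1_c15 LD2_c37 LD3_c33)) = (LP (LK LD1_c10 LD2_c46 LD3_c26)) :=
  Lgr Lrot100 (Lpr_af (K20.f323152 IH) (Lpn (LP (LK LD1_c10 LD2_c46 LD3_c26))))
theorem f317737 : Led Lsl_ct (LP (LK LD1_c10 LD2_c46 LD3_c44)) = (LP (LK LD1_c5 LD2_c27 LD3_c49)) :=
  Lre_c IH (LK LD1_c10 LD2_c46 LD3_c44) (LK LD1_c5 LD2_c27 LD3_c49) Lrfl Lrfl
theorem f317790 : Led Lsl_af (LP (LK LD1_c10 LD2_c46 LD3_c44)) = (LP (LK LD1_c11 LD2_c55 LD3_c11)) :=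
  Lgr Lrot68 (Lpr_ct (f317737 IH) (Lpr_at (K20.f317773 IH) (Lpr_ct (K21.f169528 IH) (Lpn (LP (LK LD1_c11 LD2_c55 LD3_c11))))))
theorem f324334 : Led Lsl_et (LP (LK LD1_c10 LD2_c46 LD3_c26)) = (LP (LK LD1_c11 LD2_c55 LD3_c11)) :=
  Lgr Lrot123 (Lpe (f323166 IH) (Lpr_ef (K21.f324332 IH) (Lpr_af (f317790 IH) (Lpn (LP (LK LD1_c11 LD2_c55 LD3_c11))))))
theorem f259424 : Led Lsl_et (LP (LK LD1_c5 LD2_c15 LD3_c34)) = (LP (LK LD1_c10 LD2_c20 LD3_c25)) :=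
  Lre_e IH (LK LD1_c5 LD2_c15 LD3_c34) (LK LD1_c10 LD2_c20 LD3_c25) Lrfl Lrfl
theorem f337581 : Led Lsl_gt (LP (LK LD1_c19 LD2_c29 LD3_c4)) = (LP (LK LD1_c15 LD2_c55 LD3_c33)) :=
  Lgr Lrot112 (Lpe (f236031 IH) (Lpr_et (f324334 IH) (Lpr_gf (K22.f337573 IH) (Lpe (f259424 IH) (Lpe (K15.f259422 IH) (Lpr_gf (K15.f45292 IH) (Lpr_df (K10.f45207 IH) (Lpr_gf (K10.f45517 IH) (Lpe (K21.f45525 IH) (Lpr_dt (K22.f45526 IH) (Lpn (LP (LK LD1_c15 LD2_c55 LD3_c33)))))))))))))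
theorem f339235 : Led Lsl_cf (LP (LK LD1_c11 LD2_c4 LD3_c50)) = (LP (LK LD1_c15 LD2_c37 LD3_c30)) :=
  Lgr Lrot11 (Lpr_ct (f339220 IH) (Lpn (LP (LK LD1_c15 LD2_c37 LD3_c30))))
theorem f340431 : Led Lsl_gt (LP (LK LD1_c25 LD2_c51 LD3_c48)) = (LP (LK LD1_c19 LD2_c30 LD3_c5)) :=
  Lgr Lrot150 (Lpe (K22.f236330 IH) (Lpe (f337581 IH) (Lpe (f236031 IH) (Lpr_gt (f340428 IH) (Lpe (f339235 IH) (Lpe (f299241 IH) (Lpe (K17.f245164 IH) (Lpe (K17.f245104 IH) (Lpe (K17.f245117 IH) (Lpn (LP (LK LD1_c19 LD2_c30 LD3_c5))))))))))))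
theorem f245108 : Led Lsl_gt (LP (LK LD1_c19 LD2_c30 LD3_c5)) = (LP (LK LD1_c28 LD2_c52 LD3_c41)) :=
  Lre_g IH (LK LD1_c19 LD2_c30 LD3_c5) (LK LD1_c28 LD2_c52 LD3_c41) Lrfl Lrfl
theorem f340443 : Led Lsl_at (LP (LK LD1_c28 LD2_c51 LD3_c12)) = (LP (LK LD1_c28 LD2_c52 LD3_c41)) :=
  Lgr Lrot26 (Lpr_ff (K22.f339189 IH) (Lpr_gt (f340431 IH) (Lpr_gt (f245108 IH) (Lpn (LP (LK LD1_c28 LD2_c52 LD3_c41))))))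
theorem f339187 : Led Lsl_df (LP (LK LD1_c25 LD2_c31 LD3_c57)) = (LP (LK LD1_c25 LD2_c51 LD3_c48)) :=
  Lgr Lrot38 (Lpr_dt (K22.f339183 IH) (Lpn (LP (LK LD1_c25 LD2_c51 LD3_c48))))
theorem f234465 : Led Lsl_dt (LP (LK LD1_c15 LD2_c37 LD3_c15)) = (LP (LK LD1_c8 LD2_c18 LD3_c20)) :=
  Lre_d IH (LK LD1_c15 LD2_c37 LD3_c15) (LK LD1_c8 LD2_c18 LD3_c20) Lrfl Lrfl
theorem f331205 : Led Lsl_ct (LP (LK LD1_c8 LD2_c18 LD3_c20)) = (LP (LK LD1_c10 LD2_c50 LD3_c5)) :=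
  Lgr Lrot40 (Lpr_ff (K21.f331200 IH) (Lpe (K21.f328405 IH) (Lpr_ff (K21.f328352 IH) (Lpn (LP (LK LD1_c10 LD2_c50 LD3_c5))))))
theorem f259527 : Led Lsl_ft (LP (LK LD1_c8 LD2_c28 LD3_c54)) = (LP (LK LD1_c15 LD2_c55 LD3_c34)) :=
  Lre_f IH (LK LD1_c8 LD2_c28 LD3_c54) (LK LD1_c15 LD2_c55 LD3_c34) Lrfl Lrfl
theorem f328235 : Led Lsl_cf (LP (LK LD1_c10 LD2_c50 LD3_c37)) = (LP (LK LD1_c15 LD2_c55 LD3_c34)) :=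
  Lgr Lrot108 (Lpr_ft (K21.f328233 IH) (Lpe (K21.f259432 IH) (Lpr_ft (f259527 IH) (Lpn (LP (LK LD1_c15 LD2_c55 LD3_c34))))))
theorem f317477 : Led Lsl_at (LP (LK LD1_c15 LD2_c51 LD3_c11)) = (LP (LK LD1_c15 LD2_c25 LD3_c27)) :=
  Lgr Lrot100 (Lpr_af (K20.f317475 IH) (Lpn (LP (LK LD1_c15 LD2_c25 LD3_c27))))
theorem f328227 : Led Lsl_at (LP (LK LD1_c10 LD2_c50 LD3_c37)) = (LP (LK LD1_c19 LD2_c35 LD3_c9)) :=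
  Lgr Lrot80 (Lpr_ef (K21.f328225 IH) (Lpe (f317477 IH) (Lpe (K21.f317596 IH) (Lpn (LP (LK LD1_c19 LD2_c35 LD3_c9))))))
theorem f328279 : Led Lsl_cf (LP (LK LD1_c15 LD2_c56 LD3_c26)) = (LP (LK LD1_c19 LD2_c35 LD3_c9)) :=
  Lgr Lrot1 (Lpr_at (K21.f328275 IH) (Lpe (f328235 IH) (Lpr_at (f328227 IH) (Lpn (LP (LK LD1_c19 LD2_c35 LD3_c9))))))
theorem f339209 : Led Lsl_dt (LP (LK LD1_c15 LD2_c56 LD3_c26)) = (LP (LK LD1_c25 LD2_c32 LD3_c29)) :=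
  Lgr Lrot60 (Lpe (K21.f263724 IH) (Lpe (K21.f250944 IH) (Lpr_ff (K22.f339207 IH) (Lpn (LP (LK LD1_c25 LD2_c32 LD3_c29))))))
theorem f340455 : Led Lsl_ct (LP (LK LD1_c25 LD2_c32 LD3_c29)) = (LP (LK LD1_c28 LD2_c52 LD3_c41)) :=
  Lgr Lrot98 (Lpe (f339209 IH) (Lpr_cf (f328279 IH) (Lpe (K19.f262846 IH) (Lpe (f331205 IH) (Lpe (f234465 IH) (Lpe (K22.f295025 IH) (Lpr_df (f339187 IH) (Lpe (K22.f339189 IH) (Lpr_at (f340443 IH) (Lpn (LP (LK LD1_c28 LD2_c52 LD3_c41))))))))))))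
theorem f236291 : Led Lsl_dt (LP (LK LD1_c15 LD2_c37 LD3_c32)) = (LP (LK LD1_c8 LD2_c18 LD3_c28)) :=
  Lre_d IH (LK LD1_c15 LD2_c37 LD3_c32) (LK LD1_c8 LD2_c18 LD3_c28) Lrfl Lrfl
theorem f236331 : Led Lsl_gt (LP (LK LD1_c8 LD2_c18 LD3_c28)) = (LP (LK LD1_c15 LD2_c37 LD3_c29)) :=
  Lre_g IH (LK LD1_c8 LD2_c18 LD3_c28) (LK LD1_c15 LD2_c37 LD3_c29) Lrfl Lrfl
theorem f221118 : Led Lsl_ct (LP (LK LD1_c19 LD2_c41 LD3_c60)) = (LP (LK LD1_c29 LD2_c2 LD3_c8)) :=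
  Lre_c IH (LK LD1_c19 LD2_c41 LD3_c60) (LK LD1_c29 LD2_c2 LD3_c8) Lrfl Lrfl
theorem f295486 : Led Lsl_et (LP (LK LD1_c29 LD2_c2 LD3_c8)) = (LP (LK LD1_c26 LD2_c43 LD3_c18)) :=
  Lgr Lrot158 (Lpe (f221118 IH) (Lpr_ef (K18.f295480 IH) (Lpe (K18.f213802 IH) (Lpn (LP (LK LD1_c26 LD2_c43 LD3_c18))))))
theorem f244779 : Led Lsl_ct (LP (LK LD1_c28 LD2_c52 LD3_c39)) = (LP (LK LD1_c19 LD2_c30 LD3_c2)) :=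
  Lre_c IH (LK LD1_c28 LD2_c52 LD3_c39) (LK LD1_c19 LD2_c30 LD3_c2) Lrfl Lrfl
theorem f295459 : Led Lsl_at (LP (LK LD1_c29 LD2_c2 LD3_c8)) = (LP (LK LD1_c28 LD2_c52 LD3_c39)) :=
  Lgr Lrot107 (Lpe (f221118 IH) (Lpr_af (K18.f295449 IH) (Lpe (f244779 IH) (Lpn (LP (LK LD1_c28 LD2_c52 LD3_c39))))))
theorem f295464 : Led Lsl_af (LP (LK LD1_c29 LD2_c2 LD3_c8)) = (LP (LK LD1_c28 LD2_c52 LD3_c39)) :=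
  Lgr Lrot0 (Lpr_at (f295459 IH) (Lpn (LP (LK LD1_c28 LD2_c52 LD3_c39))))
theorem f295474 : Led Lsl_et (LP (LK LD1_c19 LD2_c30 LD3_c5)) = (LP (LK LD1_c28 LD2_c52 LD3_c39)) :=
  Lre_e IH (LK LD1_c19 LD2_c30 LD3_c5) (LK LD1_c28 LD2_c52 LD3_c39) Lrfl Lrfl
theorem f295488 : Led Lsl_af (LP (LK LD1_c19 LD2_c30 LD3_c5)) = (LP (LK LD1_c26 LD2_c43 LD3_c18)) :=
  Lgr Lrot50 (Lpr_et (f295474 IH) (Lpe (f295464 IH) (Lpr_et (f295486 IH) (Lpn (LP (LK LD1_c26 LD2_c43 LD3_c18))))))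
theorem f245107 : Led Lsl_ct (LP (LK LD1_c10 LD2_c46 LD3_c52)) = (LP (LK LD1_c19 LD2_c30 LD3_c5)) :=
  Lre_c IH (LK LD1_c10 LD2_c46 LD3_c52) (LK LD1_c19 LD2_c30 LD3_c5) Lrfl Lrfl
theorem f295505 : Led Lsl_ft (LP (LK LD1_c28 LD2_c48 LD3_c60)) = (LP (LK LD1_c26 LD2_c43 LD3_c18)) :=
  Lgr Lrot142 (Lpr_dt (K17.f286075 IH) (Lpr_ct (K17.f213823 IH) (Lpr_dt (K17.f213825 IH) (Lpr_ct (K17.f213824 IH) (Lpr_dt (K17.f286133 IH) (Lpe (K17.f245164 IH) (Lpr_dt (K17.f245095 IH) (Lpr_ct (f245107 IH) (Lpr_af (f295488 IH) (Lpn (LP (LK LD1_c26 LD2_c43 LD3_c18))))))))))))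
theorem f295504 : Led Lsl_ft (LP (LK LD1_c19 LD2_c30 LD3_c5)) = (LP (LK LD1_c28 LD2_c52 LD3_c44)) :=
  Lre_f IH (LK LD1_c19 LD2_c30 LD3_c5) (LK LD1_c28 LD2_c52 LD3_c44) Lrfl Lrfl
theorem f295507 : Led Lsl_af (LP (LK LD1_c28 LD2_c48 LD3_c60)) = (LP (LK LD1_c28 LD2_c52 LD3_c44)) :=
  Lgr Lrot45 (Lpr_ft (f295505 IH) (Lpe (f295488 IH) (Lpr_ft (f295504 IH) (Lpn (LP (LK LD1_c28 LD2_c52 LD3_c44))))))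
theorem f295515 : Led Lsl_gf (LP (LK LD1_c28 LD2_c48 LD3_c60)) = (LP (LK LD1_c28 LD2_c52 LD3_c41)) :=
  Lgr Lrot76 (Lpr_af (f295507 IH) (Lpe (f295504 IH) (Lpr_gt (f245108 IH) (Lpn (LP (LK LD1_c28 LD2_c52 LD3_c41))))))
theorem f340457 : Led Lsl_ct (LP (LK LD1_c15 LD2_c37 LD3_c29)) = (LP (LK LD1_c15 LD2_c51 LD3_c21)) :=
  Lgr Lrot152 (Lpe (f236331 IH) (Lpe (f236291 IH) (Lpr_gt (K22.f236329 IH) (Lpr_ct (f340455 IH) (Lpe (f295515 IH) (Lpr_ct (K17.f286056 IH) (Lpr_df (K17.f286078 IH) (Lpr_cf (K17.f213807 IH) (Lpr_gf (K21.f286122 IH) (Lpn (LP (LK LD1_c15 LD2_c51 LD3_c21))))))))))))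
theorem f340466 : Led Lsl_gt (LP (LK LD1_c15 LD2_c37 LD3_c29)) = (LP (LK LD1_c10 LD2_c46 LD3_c26)) :=
  Lgr Lrot180 (Lpr_ct (f340457 IH) (Lpe (K21.f286122 IH) (Lpr_dt (K14.f168497 IH) (Lpr_gt (K17.f271043 IH) (Lpe (K16.f271061 IH) (Lpe (K21.f259432 IH) (Lpe (K22.f236336 IH) (Lpe (f337581 IH) (Lpe (f236031 IH) (Lpn (LP (LK LD1_c10 LD2_c46 LD3_c26))))))))))))
theorem f340462 : Led Lsl_cf (LP (LK LD1_c15 LD2_c37 LD3_c29)) = (LP (LK LD1_c15 LD2_c51 LD3_c21)) :=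
  Lgr Lrot11 (Lpr_ct (f340457 IH) (Lpn (LP (LK LD1_c15 LD2_c51 LD3_c21))))
theorem f238109 : Led Lsl_ct (LP (LK LD1_c4 LD2_c51 LD3_c28)) = (LP (LK LD1_c2 LD2_c23 LD3_c35)) :=
  Lre_c IH (LK LD1_c4 LD2_c51 LD3_c28) (LK LD1_c2 LD2_c23 LD3_c35) Lrfl Lrfl
theorem f328662 : Led Lsl_gf (LP (LK LD1_c15 LD2_c43 LD3_c61)) = (LP (LK LD1_c10 LD2_c15 LD3_c61)) :=
  Lgr Lrot147 (Lpe (K21.f325862 IH) (Lpr_gt (K21.f238112 IH) (Lpr_ct (K20.f238093 IH) (Lpr_df (K22.f238099 IH) (Lpe (f238109 IH) (Lpe (K16.f238113 IH) (Lpr_cf (K19.f255730 IH) (Lpr_gf (K21.f328658 IH) (Lpe (K21.f328652 IH) (Lpn (LP (LK LD1_c10 LD2_c15 LD3_c61))))))))))))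
theorem f340471 : Led Lsl_bf (LP (LK LD1_c10 LD2_c15 LD3_c61)) = (LP (LK LD1_c5 LD2_c27 LD3_c42)) :=
  Lgr Lrot156 (Lpe (f328662 IH) (Lpe (K21.f284181 IH) (Lpr_ct (K20.f284177 IH) (Lpe (K18.f284174 IH) (Lpr_cf (K17.f286965 IH) (Lpe (K17.f286993 IH) (Lpr_gt (K21.f245171 IH) (Lpe (f340462 IH) (Lpr_gt (f340466 IH) (Lpe (K21.f235898 IH) (Lpn (LP (LK LD1_c5 LD2_c27 LD3_c42)))))))))))))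
theorem f340479 : Led Lsl_ft (LP (LK LD1_c10 LD2_c15 LD3_c61)) = (LP (LK LD1_c5 LD2_c23 LD3_c26)) :=
  Lgr Lrot75 (Lpr_bf (f340471 IH) (Lpe (K21.f235803 IH) (Lpr_bf (K14.f235797 IH) (Lpn (LP (LK LD1_c5 LD2_c23 LD3_c26))))))
theorem f340483 : Led Lsl_ff (LP (LK LD1_c10 LD2_c15 LD3_c61)) = (LP (LK LD1_c5 LD2_c23 LD3_c26)) :=
  Lgr Lrot3 (Lpr_ft (f340479 IH) (Lpn (LP (LK LD1_c5 LD2_c23 LD3_c26))))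
theorem f320785 : Led Lsl_at (LP (LK LD1_c10 LD2_c15 LD3_c61)) = (LP (LK LD1_c16 LD2_c11 LD3_c47)) :=
  Lgr Lrot80 (Lpe (K21.f320784 IH) (Lpr_af (K20.f320778 IH) (Lpe (K21.f192339 IH) (Lpn (LP (LK LD1_c16 LD2_c11 LD3_c47))))))
theorem f340485 : Led Lsl_at (LP (LK LD1_c8 LD2_c40 LD3_c18)) = (LP (LK LD1_c5 LD2_c23 LD3_c26)) :=
  Lgr Lrot66 (Lpr_ff (K21.f320776 IH) (Lpe (f320785 IH) (Lpr_ff (f340483 IH) (Lpn (LP (LK LD1_c5 LD2_c23 LD3_c26))))))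
theorem f340670 : Led Lsl_gt (LP (LK LD1_c16 LD2_c11 LD3_c47)) = (LP (LK LD1_c10 LD2_c37 LD3_c22)) :=
  Lgr Lrot5 (Lpe (K21.f320776 IH) (Lpr_at (f340485 IH) (Lpe (K19.f235736 IH) (Lpn (LP (LK LD1_c10 LD2_c37 LD3_c22))))))
theorem f320773 : Led Lsl_df (LP (LK LD1_c10 LD2_c29 LD3_c16)) = (LP (LK LD1_c8 LD2_c38 LD3_c50)) :=
  Lgr Lrot78 (Lpr_ft (K14.f190479 IH) (Lpr_dt (K20.f242315 IH) (Lpr_ft (K20.f320771 IH) (Lpn (LP (LK LD1_c8 LD2_c38 LD3_c50))))))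
theorem f305482 : Led Lsl_et (LP (LK LD1_c8 LD2_c39 LD3_c13)) = (LP (LK LD1_c16 LD2_c12 LD3_c29)) :=
  Lre_e IH (LK LD1_c8 LD2_c39 LD3_c13) (LK LD1_c16 LD2_c12 LD3_c29) Lrfl Lrfl
theorem f269890 : Led Lsl_gt (LP (LK LD1_c4 LD2_c21 LD3_c50)) = (LP (LK LD1_c7 LD2_c55 LD3_c47)) :=
  Lgr Lrot46 (Lpe (K19.f227249 IH) (Lpr_ft (K16.f260583 IH) (Lpr_at (K16.f269878 IH) (Lpn (LP (LK LD1_c7 LD2_c55 LD3_c47))))))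
theorem f323815 : Led Lsl_gf (LP (LK LD1_c8 LD2_c41 LD3_c19)) = (LP (LK LD1_c16 LD2_c12 LD3_c29)) :=
  Lgr Lrot138 (Lpr_dt (K19.f227250 IH) (Lpr_gt (f269890 IH) (Lpe (K16.f269896 IH) (Lpe (K16.f275717 IH) (Lpe (K21.f275775 IH) (Lpr_ef (K21.f323809 IH) (Lpr_dt (K21.f311300 IH) (Lpe (K21.f323805 IH) (Lpe (K21.f305480 IH) (Lpr_et (f305482 IH) (Lpn (LP (LK LD1_c16 LD2_c12 LD3_c29)))))))))))))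
theorem f310542 : Led Lsl_et (LP (LK LD1_c16 LD2_c16 LD3_c31)) = (LP (LK LD1_c8 LD2_c41 LD3_c19)) :=
  Lre_e IH (LK LD1_c16 LD2_c16 LD3_c31) (LK LD1_c8 LD2_c41 LD3_c19) Lrfl Lrfl
theorem f269894 : Led Lsl_dt (LP (LK LD1_c4 LD2_c21 LD3_c50)) = (LP (LK LD1_c8 LD2_c41 LD3_c19)) :=
  Lre_d IH (LK LD1_c4 LD2_c21 LD3_c50) (LK LD1_c8 LD2_c41 LD3_c19) Lrfl Lrfl
theorem f310540 : Led Lsl_gf (LP (LK LD1_c10 LD2_c39 LD3_c49)) = (LP (LK LD1_c8 LD2_c41 LD3_c19)) :=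
  Lgr Lrot134 (Lpr_df (K19.f310524 IH) (Lpr_et (K19.f226876 IH) (Lpr_gt (K19.f226861 IH) (Lpe (K18.f227209 IH) (Lpr_dt (K13.f201275 IH) (Lpr_gt (K12.f201237 IH) (Lpr_df (K19.f227211 IH) (Lpr_et (K14.f227213 IH) (Lpr_gt (K19.f227249 IH) (Lpr_dt (f269894 IH) (Lpn (LP (LK LD1_c8 LD2_c41 LD3_c19)))))))))))))
theorem f180934 : Led Lsl_gt (LP (LK LD1_c5 LD2_c15 LD3_c44)) = (LP (LK LD1_c10 LD2_c20 LD3_c46)) :=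
  Lre_g IH (LK LD1_c5 LD2_c15 LD3_c44) (LK LD1_c10 LD2_c20 LD3_c46) Lrfl Lrfl
theorem f310543 : Led Lsl_df (LP (LK LD1_c10 LD2_c20 LD3_c46)) = (LP (LK LD1_c16 LD2_c16 LD3_c31)) :=
  Lgr Lrot132 (Lpe (f180934 IH) (Lpr_df (K19.f293357 IH) (Lpe (K19.f293351 IH) (Lpe (K18.f293164 IH) (Lpe (K11.f211335 IH) (Lpr_gf (K19.f310516 IH) (Lpe (K19.f310520 IH) (Lpr_et (K19.f310532 IH) (Lpr_gf (f310540 IH) (Lpe (f310542 IH) (Lpn (LP (LK LD1_c16 LD2_c16 LD3_c31)))))))))))))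
theorem f340674 : Led Lsl_gf (LP (LK LD1_c10 LD2_c29 LD3_c16)) = (LP (LK LD1_c10 LD2_c20 LD3_c46)) :=
  Lgr Lrot145 (Lpr_df (f320773 IH) (Lpr_et (K21.f320775 IH) (Lpr_gt (f340670 IH) (Lpr_dt (K21.f311300 IH) (Lpe (K21.f323805 IH) (Lpe (K21.f305480 IH) (Lpr_et (f305482 IH) (Lpe (f323815 IH) (Lpe (f310542 IH) (Lpe (f310543 IH) (Lpn (LP (LK LD1_c10 LD2_c20 LD3_c46)))))))))))))
theorem f320759 : Led Lsl_at (LP (LK LD1_c5 LD2_c1 LD3_c49)) = (LP (LK LD1_c9 LD2_c52 LD3_c4)) :=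
  Lgr Lrot107 (Lpe (K14.f190531 IH) (Lpr_af (K20.f320753 IH) (Lpr_cf (K20.f180762 IH) (Lpn (LP (LK LD1_c9 LD2_c52 LD3_c4))))))
theorem f190527 : Led Lsl_ft (LP (LK LD1_c9 LD2_c54 LD3_c6)) = (LP (LK LD1_c5 LD2_c1 LD3_c49)) :=
  Lre_f IH (LK LD1_c9 LD2_c54 LD3_c6) (LK LD1_c5 LD2_c1 LD3_c49) Lrfl Lrfl
theorem f322775 : Led Lsl_gf (LP (LK LD1_c18 LD2_c3 LD3_c39)) = (LP (LK LD1_c9 LD2_c54 LD3_c6)) :=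
  Lgr Lrot47 (Lpr_gt (K20.f322773 IH) (Lpe (f320759 IH) (Lpe (f190527 IH) (Lpn (LP (LK LD1_c9 LD2_c54 LD3_c6))))))
theorem f321728 : Led Lsl_gf (LP (LK LD1_c10 LD2_c28 LD3_c37)) = (LP (LK LD1_c5 LD2_c19 LD3_c30)) :=
  Lgr Lrot47 (Lpr_gt (K20.f321650 IH) (Lpr_af (K20.f321724 IH) (Lpe (K20.f258981 IH) (Lpn (LP (LK LD1_c5 LD2_c19 LD3_c30))))))
theorem f340677 : Led Lsl_bt (LP (LK LD1_c5 LD2_c19 LD3_c24)) = (LP (LK LD1_c10 LD2_c20 LD3_c46)) :=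
  Lgr Lrot130 (Lpr_ct (K20.f230656 IH) (Lpr_gf (f321728 IH) (Lpr_cf (K18.f258957 IH) (Lpr_bt (K18.f258991 IH) (Lpe (K16.f258992 IH) (Lpe (K20.f322757 IH) (Lpr_ct (K20.f246933 IH) (Lpr_gf (f322775 IH) (Lpe (K14.f190521 IH) (Lpr_gf (f340674 IH) (Lpn (LP (LK LD1_c10 LD2_c20 LD3_c46)))))))))))))
theorem f180924 : Led Lsl_ct (LP (LK LD1_c2 LD2_c34 LD3_c45)) = (LP (LK LD1_c5 LD2_c15 LD3_c48)) :=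
  Lre_c IH (LK LD1_c2 LD2_c34 LD3_c45) (LK LD1_c5 LD2_c15 LD3_c48) Lrfl Lrfl
theorem f181029 : Led Lsl_gt (LP (LK LD1_c10 LD2_c20 LD3_c58)) = (LP (LK LD1_c5 LD2_c15 LD3_c48)) :=
  Lre_g IH (LK LD1_c10 LD2_c20 LD3_c58) (LK LD1_c5 LD2_c15 LD3_c48) Lrfl Lrfl
theorem f340685 : Led Lsl_ct (LP (LK LD1_c10 LD2_c8 LD3_c18)) = (LP (LK LD1_c10 LD2_c20 LD3_c58)) :=
  Lgr Lrot91 (Lpe (K20.f286311 IH) (Lpe (K18.f275000 IH) (Lpe (K20.f294717 IH) (Lpe (K20.f321650 IH) (Lpe (K20.f230656 IH) (Lpr_bt (f340677 IH) (Lpe (f180934 IH) (Lpe (K19.f180941 IH) (Lpr_ct (f180924 IH) (Lpe (f181029 IH) (Lpn (LP (LK LD1_c10 LD2_c20 LD3_c58)))))))))))))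
theorem f229231 : Led Lsl_bt (LP (LK LD1_c10 LD2_c24 LD3_c37)) = (LP (LK LD1_c5 LD2_c17 LD3_c31)) :=
  Lre_b IH (LK LD1_c10 LD2_c24 LD3_c37) (LK LD1_c5 LD2_c17 LD3_c31) Lrfl Lrfl
theorem f278219 : Led Lsl_bt (LP (LK LD1_c5 LD2_c2 LD3_c53)) = (LP (LK LD1_c9 LD2_c56 LD3_c32)) :=
  Lre_b IH (LK LD1_c5 LD2_c2 LD3_c53) (LK LD1_c9 LD2_c56 LD3_c32) Lrfl Lrfl
theorem f278329 : Led Lsl_cf (LP (LK LD1_c10 LD2_c24 LD3_c37)) = (LP (LK LD1_c9 LD2_c56 LD3_c32)) :=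
  Lgr Lrot97 (Lpr_bt (f229231 IH) (Lpr_ct (K15.f259666 IH) (Lpr_bt (K16.f278327 IH) (Lpr_ct (K17.f192127 IH) (Lpr_bt (f278219 IH) (Lpn (LP (LK LD1_c9 LD2_c56 LD3_c32))))))))
theorem f278335 : Led Lsl_ct (LP (LK LD1_c10 LD2_c24 LD3_c37)) = (LP (LK LD1_c9 LD2_c56 LD3_c32)) :=
  Lgr Lrot59 (Lpr_cf (f278329 IH) (Lpn (LP (LK LD1_c9 LD2_c56 LD3_c32))))
theorem f278367 : Led Lsl_et (LP (LK LD1_c18 LD2_c53 LD3_c13)) = (LP (LK LD1_c10 LD2_c24 LD3_c37)) :=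
  Lre_e IH (LK LD1_c18 LD2_c53 LD3_c13) (LK LD1_c10 LD2_c24 LD3_c37) Lrfl Lrfl
theorem f278368 : Led Lsl_et (LP (LK LD1_c9 LD2_c56 LD3_c32)) = (LP (LK LD1_c18 LD2_c11 LD3_c39)) :=
  Lre_e IH (LK LD1_c9 LD2_c56 LD3_c32) (LK LD1_c18 LD2_c11 LD3_c39) Lrfl Lrfl
theorem f278369 : Led Lsl_cf (LP (LK LD1_c18 LD2_c53 LD3_c13)) = (LP (LK LD1_c18 LD2_c11 LD3_c39)) :=
  Lgr Lrot39 (Lpr_et (f278367 IH) (Lpr_ct (f278335 IH) (Lpr_et (f278368 IH) (Lpn (LP (LK LD1_c18 LD2_c11 LD3_c39))))))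
theorem f278382 : Led Lsl_bt (LP (LK LD1_c18 LD2_c53 LD3_c13)) = (LP (LK LD1_c10 LD2_c24 LD3_c39)) :=
  Lre_b IH (LK LD1_c18 LD2_c53 LD3_c13) (LK LD1_c10 LD2_c24 LD3_c39) Lrfl Lrfl
theorem f278301 : Led Lsl_bt (LP (LK LD1_c9 LD2_c56 LD3_c34)) = (LP (LK LD1_c18 LD2_c11 LD3_c39)) :=
  Lre_b IH (LK LD1_c9 LD2_c56 LD3_c34) (LK LD1_c18 LD2_c11 LD3_c39) Lrfl Lrfl
theorem f214954 : Led Lsl_ct (LP (LK LD1_c5 LD2_c2 LD3_c54)) = (LP (LK LD1_c9 LD2_c56 LD3_c34)) :=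
  Lre_c IH (LK LD1_c5 LD2_c2 LD3_c54) (LK LD1_c9 LD2_c56 LD3_c34) Lrfl Lrfl
theorem f252636 : Led Lsl_bt (LP (LK LD1_c4 LD2_c5 LD3_c16)) = (LP (LK LD1_c8 LD2_c11 LD3_c18)) :=
  Lre_b IH (LK LD1_c4 LD2_c5 LD3_c16) (LK LD1_c8 LD2_c11 LD3_c18) Lrfl Lrfl
theorem f278221 : Led Lsl_bt (LP (LK LD1_c9 LD2_c52 LD3_c18)) = (LP (LK LD1_c5 LD2_c2 LD3_c54)) :=
  Lgr Lrot95 (Lpe (K16.f252631 IH) (Lpe (f252636 IH) (Lpr_df (K16.f278217 IH) (Lpn (LP (LK LD1_c5 LD2_c2 LD3_c54))))))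
theorem f278383 : Led Lsl_ct (LP (LK LD1_c10 LD2_c24 LD3_c39)) = (LP (LK LD1_c9 LD2_c52 LD3_c18)) :=
  Lgr Lrot83 (Lpe (f278382 IH) (Lpr_cf (f278369 IH) (Lpe (f278301 IH) (Lpe (f214954 IH) (Lpe (f278221 IH) (Lpn (LP (LK LD1_c9 LD2_c52 LD3_c18))))))))
theorem f257805 : Led Lsl_dt (LP (LK LD1_c5 LD2_c15 LD3_c48)) = (LP (LK LD1_c10 LD2_c20 LD3_c59)) :=
  Lre_d IH (LK LD1_c5 LD2_c15 LD3_c48) (LK LD1_c10 LD2_c20 LD3_c59) Lrfl Lrfl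
theorem f257806 : Led Lsl_gt (LP (LK LD1_c10 LD2_c20 LD3_c59)) = (LP (LK LD1_c18 LD2_c46 LD3_c60)) :=
  Lre_g IH (LK LD1_c10 LD2_c20 LD3_c59) (LK LD1_c18 LD2_c46 LD3_c60) Lrfl Lrfl
theorem f340694 : Led Lsl_df (LP (LK LD1_c10 LD2_c24 LD3_c39)) = (LP (LK LD1_c18 LD2_c46 LD3_c60)) :=
  Lgr Lrot174 (Lpr_ct (f278383 IH) (Lpe (K16.f252631 IH) (Lpr_gf (K17.f286292 IH) (Lpr_df (K17.f285793 IH) (Lpe (K17.f286294 IH) (Lpr_ct (f340685 IH) (Lpr_gt (f181029 IH) (Lpr_dt (f257805 IH) (Lpr_gt (f257806 IH) (Lpn (LP (LK LD1_c18 LD2_c46 LD3_c60))))))))))))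
theorem f340700 : Led Lsl_dt (LP (LK LD1_c10 LD2_c24 LD3_c39)) = (LP (LK LD1_c18 LD2_c46 LD3_c60)) :=
  Lgr Lrot42 (Lpr_df (f340694 IH) (Lpn (LP (LK LD1_c18 LD2_c46 LD3_c60))))
theorem f322897 : Led Lsl_gt (LP (LK LD1_c18 LD2_c46 LD3_c60)) = (LP (LK LD1_c28 LD2_c14 LD3_c48)) :=
  Lgr Lrot46 (Lpe (f257806 IH) (Lpr_ft (K20.f271604 IH) (Lpr_at (K20.f322887 IH) (Lpn (LP (LK LD1_c28 LD2_c14 LD3_c48))))))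
theorem f214818 : Led Lsl_ct (LP (LK LD1_c10 LD2_c19 LD3_c39)) = (LP (LK LD1_c18 LD2_c44 LD3_c56)) :=
  Lre_c IH (LK LD1_c10 LD2_c19 LD3_c39) (LK LD1_c18 LD2_c44 LD3_c56) Lrfl Lrfl
theorem f48222 : Led Lsl_ct (LP (LK LD1_c18 LD2_c53 LD3_c8)) = (LP (LK LD1_c10 LD2_c24 LD3_c35)) :=
  Lre_c IH (LK LD1_c18 LD2_c53 LD3_c8) (LK LD1_c10 LD2_c24 LD3_c35) Lrfl Lrfl
theorem f340744 : Led Lsl_gf (LP (LK LD1_c10 LD2_c24 LD3_c39)) = (LP (LK LD1_c18 LD2_c53 LD3_c8)) :=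
  Lgr Lrot144 (Lpr_dt (f340700 IH) (Lpr_gt (f322897 IH) (Lpr_dt (K20.f214824 IH) (Lpe (f214818 IH) (Lpe (K20.f317733 IH) (Lpe (K21.f324324 IH) (Lpr_df (K10.f48202 IH) (Lpe (K22.f48221 IH) (Lpe (f48222 IH) (Lpn (LP (LK LD1_c18 LD2_c53 LD3_c8))))))))))))
theorem f252637 : Led Lsl_ct (LP (LK LD1_c15 LD2_c24 LD3_c59)) = (LP (LK LD1_c8 LD2_c11 LD3_c18)) :=
  Lre_c IH (LK LD1_c15 LD2_c24 LD3_c59) (LK LD1_c8 LD2_c11 LD3_c18) Lrfl Lrfl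
theorem f287919 : Led Lsl_cf (LP (LK LD1_c5 LD2_c26 LD3_c19)) = (LP (LK LD1_c2 LD2_c59 LD3_c50)) :=
  Lgr Lrot108 (Lpr_ft (K17.f287915 IH) (Lpr_ct (K14.f173952 IH) (Lpe (K17.f287830 IH) (Lpn (LP (LK LD1_c2 LD2_c59 LD3_c50))))))
theorem f253694 : Led Lsl_at (LP (LK LD1_c2 LD2_c40 LD3_c46)) = (LP (LK LD1_c2 LD2_c44 LD3_c11)) :=
  Lgr Lrot107 (Lpr_cf (K14.f173963 IH) (Lpr_af (K14.f253689 IH) (Lpe (K19.f183131 IH) (Lpn (LP (LK LD1_c2 LD2_c44 LD3_c11))))))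
theorem f287925 : Led Lsl_gt (LP (LK LD1_c5 LD2_c26 LD3_c19)) = (LP (LK LD1_c5 LD2_c36 LD3_c41)) :=
  Lgr Lrot5 (Lpr_ft (K17.f287915 IH) (Lpr_at (f253694 IH) (Lpe (K15.f178905 IH) (Lpn (LP (LK LD1_c5 LD2_c36 LD3_c41))))))
theorem f185665 : Led Lsl_bt (LP (LK LD1_c2 LD2_c39 LD3_c32)) = (LP (LK LD1_c1 LD2_c16 LD3_c34)) :=
  Lre_b IH (LK LD1_c2 LD2_c39 LD3_c32) (LK LD1_c1 LD2_c16 LD3_c34) Lrfl Lrfl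
theorem f263413 : Led Lsl_af (LP (LK LD1_c2 LD2_c39 LD3_c32)) = (LP (LK LD1_c4 LD2_c7 LD3_c59)) :=
  Lgr Lrot0 (Lpr_at (K15.f263408 IH) (Lpn (LP (LK LD1_c4 LD2_c7 LD3_c59))))
theorem f264360 : Led Lsl_af (LP (LK LD1_c4 LD2_c15 LD3_c8)) = (LP (LK LD1_c2 LD2_c59 LD3_c1)) :=
  Lgr Lrot36 (Lpr_bt (K10.f189801 IH) (Lpe (f263413 IH) (Lpr_bt (f185665 IH) (Lpr_at (K15.f264356 IH) (Lpr_bt (K20.f169460 IH) (Lpn (LP (LK LD1_c2 LD2_c59 LD3_c1))))))))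
theorem f169505 : Led Lsl_ft (LP (LK LD1_c6 LD2_c5 LD3_c52)) = (LP (LK LD1_c2 LD2_c59 LD3_c1)) :=
  Lre_f IH (LK LD1_c6 LD2_c5 LD3_c52) (LK LD1_c2 LD2_c59 LD3_c1) Lrfl Lrfl
theorem f271586 : Led Lsl_gt (LP (LK LD1_c6 LD2_c5 LD3_c52)) = (LP (LK LD1_c4 LD2_c29 LD3_c6)) :=
  Lgr Lrot5 (Lpr_ft (f169505 IH) (Lpe (f264360 IH) (Lpr_gf (K19.f271584 IH) (Lpn (LP (LK LD1_c4 LD2_c29 LD3_c6))))))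
theorem f252653 : Led Lsl_bt (LP (LK LD1_c8 LD2_c11 LD3_c18)) = (LP (LK LD1_c4 LD2_c5 LD3_c16)) :=
  Lre_b IH (LK LD1_c8 LD2_c11 LD3_c18) (LK LD1_c4 LD2_c5 LD3_c16) Lrfl Lrfl
theorem f307428 : Led Lsl_gt (LP (LK LD1_c8 LD2_c56 LD3_c28)) = (LP (LK LD1_c15 LD2_c24 LD3_c59)) :=
  Lgr Lrot149 (Lpe (K20.f178018 IH) (Lpe (f271586 IH) (Lpe (K9.f169493 IH) (Lpe (K15.f268101 IH) (Lpe (f287925 IH) (Lpr_cf (f287919 IH) (Lpr_bt (K19.f287817 IH) (Lpr_gf (K19.f307421 IH) (Lpe (f252653 IH) (Lpr_ct (K20.f252654 IH) (Lpn (LP (LK LD1_c15 LD2_c24 LD3_c59)))))))))))))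
theorem f48224 : Led Lsl_ct (LP (LK LD1_c10 LD2_c24 LD3_c35)) = (LP (LK LD1_c18 LD2_c53 LD3_c8)) :=
  Lre_c IH (LK LD1_c10 LD2_c24 LD3_c35) (LK LD1_c18 LD2_c53 LD3_c8) Lrfl Lrfl
theorem f340746 : Led Lsl_gt (LP (LK LD1_c10 LD2_c2 LD3_c11)) = (LP (LK LD1_c10 LD2_c24 LD3_c35)) :=
  Lgr Lrot9 (Lpe (K9.f169495 IH) (Lpr_gt (f271586 IH) (Lpr_ct (K20.f178018 IH) (Lpr_gt (f307428 IH) (Lpr_ct (f252637 IH) (Lpr_df (K17.f252640 IH) (Lpe (f278383 IH) (Lpr_gf (f340744 IH) (Lpe (f48224 IH) (Lpn (LP (LK LD1_c10 LD2_c24 LD3_c35))))))))))))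
theorem f236243 : Led Lsl_gt (LP (LK LD1_c4 LD2_c2 LD3_c50)) = (LP (LK LD1_c8 LD2_c6 LD3_c11)) :=
  Lre_g IH (LK LD1_c4 LD2_c2 LD3_c50) (LK LD1_c8 LD2_c6 LD3_c11) Lrfl Lrfl
theorem f261896 : Led Lsl_gf (LP (LK LD1_c4 LD2_c29 LD3_c32)) = (LP (LK LD1_c8 LD2_c6 LD3_c11)) :=
  Lgr Lrot76 (Lpr_af (K15.f261876 IH) (Lpe (K15.f213266 IH) (Lpr_gt (f236243 IH) (Lpn (LP (LK LD1_c8 LD2_c6 LD3_c11))))))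
theorem f261901 : Led Lsl_dt (LP (LK LD1_c15 LD2_c15 LD3_c22)) = (LP (LK LD1_c8 LD2_c6 LD3_c11)) :=
  Lre_d IH (LK LD1_c15 LD2_c15 LD3_c22) (LK LD1_c8 LD2_c6 LD3_c11) Lrfl Lrfl
theorem f259344 : Led Lsl_dt (LP (LK LD1_c10 LD2_c20 LD3_c3)) = (LP (LK LD1_c10 LD2_c44 LD3_c44)) :=
  Lgr Lrot42 (Lpr_df (K22.f259341 IH) (Lpn (LP (LK LD1_c10 LD2_c44 LD3_c44))))
theorem f263257 : Led Lsl_et (LP (LK LD1_c6 LD2_c6 LD3_c21)) = (LP (LK LD1_c11 LD2_c56 LD3_c1)) :=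
  Lre_e IH (LK LD1_c6 LD2_c6 LD3_c21) (LK LD1_c11 LD2_c56 LD3_c1) Lrfl Lrfl
theorem f282934 : Led Lsl_df (LP (LK LD1_c2 LD2_c40 LD3_c8)) = (LP (LK LD1_c4 LD2_c8 LD3_c1)) :=
  Lgr Lrot38 (Lpr_dt (K17.f282926 IH) (Lpn (LP (LK LD1_c4 LD2_c8 LD3_c1))))
theorem f282922 : Led Lsl_at (LP (LK LD1_c2 LD2_c40 LD3_c8)) = (LP (LK LD1_c1 LD2_c16 LD3_c54)) :=
  Lre_a IH (LK LD1_c2 LD2_c40 LD3_c8) (LK LD1_c1 LD2_c16 LD3_c54) Lrfl Lrfl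
theorem f285551 : Led Lsl_df (LP (LK LD1_c2 LD2_c39 LD3_c47)) = (LP (LK LD1_c1 LD2_c16 LD3_c54)) :=
  Lgr Lrot18 (Lpr_at (K17.f285542 IH) (Lpe (f282934 IH) (Lpr_at (f282922 IH) (Lpn (LP (LK LD1_c1 LD2_c16 LD3_c54))))))
theorem f236003 : Led Lsl_et (LP (LK LD1_c1 LD2_c16 LD3_c54)) = (LP (LK LD1_c0 LD2_c35 LD3_c34)) :=
  Lre_e IH (LK LD1_c1 LD2_c16 LD3_c54) (LK LD1_c0 LD2_c35 LD3_c34) Lrfl Lrfl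
theorem f335498 : Led Lsl_gt (LP (LK LD1_c11 LD2_c56 LD3_c1)) = (LP (LK LD1_c10 LD2_c46 LD3_c4)) :=
  Lgr Lrot137 (Lpe (f263257 IH) (Lpr_dt (K22.f335486 IH) (Lpe (K22.f236190 IH) (Lpr_df (f285551 IH) (Lpr_et (f236003 IH) (Lpe (K17.f197004 IH) (Lpe (K20.f244864 IH) (Lpr_dt (K20.f317697 IH) (Lpe (K21.f214827 IH) (Lpe (K21.f317711 IH) (Lpn (LP (LK LD1_c10 LD2_c46 LD3_c4)))))))))))))
theorem f309528 : Led Lsl_ct (LP (LK LD1_c18 LD2_c53 LD3_c4)) = (LP (LK LD1_c18 LD2_c31 LD3_c57)) :=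
  Lgr Lrot59 (Lpr_cf (K19.f309525 IH) (Lpn (LP (LK LD1_c18 LD2_c31 LD3_c57))))
theorem f317727 : Led Lsl_ct (LP (LK LD1_c10 LD2_c46 LD3_c4)) = (LP (LK LD1_c19 LD2_c28 LD3_c24)) :=
  Lre_c IH (LK LD1_c10 LD2_c46 LD3_c4) (LK LD1_c19 LD2_c28 LD3_c24) Lrfl Lrfl
theorem f335502 : Led Lsl_gf (LP (LK LD1_c10 LD2_c54 LD3_c9)) = (LP (LK LD1_c19 LD2_c28 LD3_c24)) :=
  Lgr Lrot104 (Lpe (K19.f309573 IH) (Lpr_df (K19.f309554 IH) (Lpe (f309528 IH) (Lpe (K19.f257180 IH) (Lpe (K22.f48233 IH) (Lpe (K22.f48221 IH) (Lpr_df (K22.f263251 IH) (Lpr_gt (f335498 IH) (Lpr_ct (f317727 IH) (Lpn (LP (LK LD1_c19 LD2_c28 LD3_c24))))))))))))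
theorem f309571 : Led Lsl_ct (LP (LK LD1_c15 LD2_c51 LD3_c42)) = (LP (LK LD1_c10 LD2_c54 LD3_c9)) :=
  Lgr Lrot7 (Lpr_df (K19.f309554 IH) (Lpe (K19.f309530 IH) (Lpe (K19.f237098 IH) (Lpr_gf (K19.f266795 IH) (Lpr_cf (K16.f274950 IH) (Lpe (K16.f275108 IH) (Lpr_dt (K19.f48213 IH) (Lpe (K19.f275111 IH) (Lpr_dt (K19.f275113 IH) (Lpn (LP (LK LD1_c10 LD2_c54 LD3_c9))))))))))))
theorem f309562 : Led Lsl_et (LP (LK LD1_c8 LD2_c26 LD3_c53)) = (LP (LK LD1_c15 LD2_c51 LD3_c42)) :=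
  Lre_e IH (LK LD1_c8 LD2_c26 LD3_c53) (LK LD1_c15 LD2_c51 LD3_c42) Lrfl Lrfl
theorem f309567 : Led Lsl_bt (LP (LK LD1_c15 LD2_c51 LD3_c42)) = (LP (LK LD1_c8 LD2_c28 LD3_c6)) :=
  Lgr Lrot119 (Lpe (f309562 IH) (Lpr_bf (K19.f309563 IH) (Lpe (K14.f226890 IH) (Lpn (LP (LK LD1_c8 LD2_c28 LD3_c6))))))
theorem f330374 : Led Lsl_bt (LP (LK LD1_c10 LD2_c44 LD3_c44)) = (LP (LK LD1_c15 LD2_c16 LD3_c57)) :=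
  Lgr Lrot95 (Lpe (f259344 IH) (Lpr_bf (K22.f330370 IH) (Lpe (K20.f320927 IH) (Lpn (LP (LK LD1_c15 LD2_c16 LD3_c57))))))
theorem f330377 : Led Lsl_bf (LP (LK LD1_c10 LD2_c44 LD3_c44)) = (LP (LK LD1_c15 LD2_c16 LD3_c57)) :=
  Lgr Lrot24 (Lpr_bt (f330374 IH) (Lpn (LP (LK LD1_c15 LD2_c16 LD3_c57))))
theorem f324045 : Led Lsl_gf (LP (LK LD1_c10 LD2_c23 LD3_c47)) = (LP (LK LD1_c5 LD2_c17 LD3_c55)) :=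
  Lgr Lrot145 (Lpe (K14.f254489 IH) (Lpr_et (K14.f51382 IH) (Lpr_gt (K14.f51378 IH) (Lpe (K9.f50089 IH) (Lpr_gt (K21.f323482 IH) (Lpe (K21.f181866 IH) (Lpe (K21.f181816 IH) (Lpe (K21.f323473 IH) (Lpr_ef (K15.f262105 IH) (Lpe (K15.f262103 IH) (Lpn (LP (LK LD1_c5 LD2_c17 LD3_c55)))))))))))))
theorem f197084 : Led Lsl_gt (LP (LK LD1_c18 LD2_c27 LD3_c55)) = (LP (LK LD1_c10 LD2_c8 LD3_c16)) :=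
  Lre_g IH (LK LD1_c18 LD2_c27 LD3_c55) (LK LD1_c10 LD2_c8 LD3_c16) Lrfl Lrfl
theorem f169461 : Led Lsl_bt (LP (LK LD1_c5 LD2_c5 LD3_c31)) = (LP (LK LD1_c2 LD2_c30 LD3_c1)) :=
  Lre_b IH (LK LD1_c5 LD2_c5 LD3_c31) (LK LD1_c2 LD2_c30 LD3_c1) Lrfl Lrfl
theorem f169462 : Led Lsl_dt (LP (LK LD1_c2 LD2_c59 LD3_c1)) = (LP (LK LD1_c5 LD2_c5 LD3_c31)) :=
  Lgr Lrot79 (Lpe (K20.f169460 IH) (Lpr_df (K9.f169455 IH) (Lpe (f169461 IH) (Lpn (LP (LK LD1_c5 LD2_c5 LD3_c31))))))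
theorem f169513 : Led Lsl_ct (LP (LK LD1_c10 LD2_c2 LD3_c8)) = (LP (LK LD1_c5 LD2_c5 LD3_c31)) :=
  Lre_c IH (LK LD1_c10 LD2_c2 LD3_c8) (LK LD1_c5 LD2_c5 LD3_c31) Lrfl Lrfl
theorem f32836 : Led Lsl_bt (LP (LK LD1_c2 LD2_c34 LD3_c25)) = (LP (LK LD1_c5 LD2_c15 LD3_c7)) :=
  Lre_b IH (LK LD1_c2 LD2_c34 LD3_c25) (LK LD1_c5 LD2_c15 LD3_c7) Lrfl Lrfl
theorem f32494 : Led Lsl_bt (LP (LK LD1_c5 LD2_c17 LD3_c7)) = (LP (LK LD1_c2 LD2_c35 LD3_c18)) :=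
  Lre_b IH (LK LD1_c5 LD2_c17 LD3_c7) (LK LD1_c2 LD2_c35 LD3_c18) Lrfl Lrfl
theorem f48669 : Led Lsl_ef (LP (LK LD1_c2 LD2_c34 LD3_c25)) = (LP (LK LD1_c2 LD2_c35 LD3_c18)) :=
  Lgr Lrot29 (Lpr_bt (f32836 IH) (Lpr_et (K17.f48666 IH) (Lpr_bt (f32494 IH) (Lpn (LP (LK LD1_c2 LD2_c35 LD3_c18))))))
theorem f197075 : Led Lsl_et (LP (LK LD1_c10 LD2_c8 LD3_c16)) = (LP (LK LD1_c5 LD2_c8 LD3_c56)) :=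
  Lre_e IH (LK LD1_c10 LD2_c8 LD3_c16) (LK LD1_c5 LD2_c8 LD3_c56) Lrfl Lrfl
theorem f197077 : Led Lsl_gf (LP (LK LD1_c18 LD2_c20 LD3_c21)) = (LP (LK LD1_c18 LD2_c27 LD3_c56)) :=
  Lgr Lrot145 (Lpe (K22.f169555 IH) (Lpr_et (K22.f197074 IH) (Lpe (K16.f192528 IH) (Lpe (K15.f184217 IH) (Lpr_gt (K10.f32849 IH) (Lpe (K10.f48792 IH) (Lpe (f48669 IH) (Lpr_gt (K10.f197061 IH) (Lpe (f197075 IH) (Lpr_dt (K17.f197076 IH) (Lpn (LP (LK LD1_c18 LD2_c27 LD3_c56)))))))))))))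
theorem f317775 : Led Lsl_ct (LP (LK LD1_c10 LD2_c19 LD3_c38)) = (LP (LK LD1_c18 LD2_c27 LD3_c55)) :=
  Lgr Lrot8 (Lpr_gt (K21.f214827 IH) (Lpe (K20.f317687 IH) (Lpr_gt (K20.f317765 IH) (Lpr_dt (f169462 IH) (Lpe (f169513 IH) (Lpe (K22.f169514 IH) (Lpr_gf (f197077 IH) (Lpe (K17.f197076 IH) (Lpe (f197084 IH) (Lpn (LP (LK LD1_c18 LD2_c27 LD3_c55))))))))))))
theorem f324047 : Led Lsl_bf (LP (LK LD1_c10 LD2_c23 LD3_c47)) = (LP (LK LD1_c10 LD2_c19 LD3_c38)) :=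
  Lgr Lrot34 (Lpr_gf (f324045 IH) (Lpe (K18.f296413 IH) (Lpe (K21.f296510 IH) (Lpe (K18.f296830 IH) (Lpe (K18.f296829 IH) (Lpe (K18.f287245 IH) (Lpe (K17.f286317 IH) (Lpr_ct (K17.f286321 IH) (Lpe (f197084 IH) (Lpe (f317775 IH) (Lpn (LP (LK LD1_c10 LD2_c19 LD3_c38)))))))))))))
theorem f259214 : Led Lsl_et (LP (LK LD1_c18 LD2_c44 LD3_c57)) = (LP (LK LD1_c10 LD2_c19 LD3_c38)) :=
  Lre_e IH (LK LD1_c18 LD2_c44 LD3_c57) (LK LD1_c10 LD2_c19 LD3_c38) Lrfl Lrfl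
theorem f324053 : Led Lsl_bt (LP (LK LD1_c18 LD2_c51 LD3_c46)) = (LP (LK LD1_c18 LD2_c44 LD3_c57)) :=
  Lgr Lrot119 (Lpe (K14.f254493 IH) (Lpr_bf (f324047 IH) (Lpe (f259214 IH) (Lpn (LP (LK LD1_c18 LD2_c44 LD3_c57))))))
theorem f254496 : Led Lsl_dt (LP (LK LD1_c10 LD2_c47 LD3_c39)) = (LP (LK LD1_c18 LD2_c51 LD3_c46)) :=
  Lgr Lrot42 (Lpr_df (K14.f254494 IH) (Lpn (LP (LK LD1_c18 LD2_c51 LD3_c46))))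
theorem f237851 : Led Lsl_gt (LP (LK LD1_c5 LD2_c25 LD3_c51)) = (LP (LK LD1_c10 LD2_c42 LD3_c57)) :=
  Lre_g IH (LK LD1_c5 LD2_c25 LD3_c51) (LK LD1_c10 LD2_c42 LD3_c57) Lrfl Lrfl
theorem f259215 : Led Lsl_df (LP (LK LD1_c10 LD2_c42 LD3_c57)) = (LP (LK LD1_c18 LD2_c44 LD3_c57)) :=
  Lgr Lrot132 (Lpe (f237851 IH) (Lpe (K16.f237854 IH) (Lpr_gf (K22.f257158 IH) (Lpe (K21.f212136 IH) (Lpr_dt (K15.f253177 IH) (Lpr_gf (K15.f259210 IH) (Lpe (K15.f259208 IH) (Lpr_et (K14.f214800 IH) (Lpe (K21.f214827 IH) (Lpe (f259214 IH) (Lpn (LP (LK LD1_c18 LD2_c44 LD3_c57)))))))))))))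
theorem f324057 : Led Lsl_bf (LP (LK LD1_c10 LD2_c47 LD3_c39)) = (LP (LK LD1_c10 LD2_c42 LD3_c57)) :=
  Lgr Lrot93 (Lpr_dt (f254496 IH) (Lpr_bt (f324053 IH) (Lpe (f259215 IH) (Lpn (LP (LK LD1_c10 LD2_c42 LD3_c57))))))
theorem f317716 : Led Lsl_et (LP (LK LD1_c5 LD2_c27 LD3_c29)) = (LP (LK LD1_c10 LD2_c46 LD3_c4)) :=
  Lre_e IH (LK LD1_c5 LD2_c27 LD3_c29) (LK LD1_c10 LD2_c46 LD3_c4) Lrfl Lrfl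
theorem f295264 : Led Lsl_dt (LP (LK LD1_c10 LD2_c46 LD3_c3)) = (LP (LK LD1_c5 LD2_c27 LD3_c29)) :=
  Lre_d IH (LK LD1_c10 LD2_c46 LD3_c3) (LK LD1_c5 LD2_c27 LD3_c29) Lrfl Lrfl
theorem f259219 : Led Lsl_et (LP (LK LD1_c10 LD2_c19 LD3_c38)) = (LP (LK LD1_c18 LD2_c44 LD3_c57)) :=
  Lre_e IH (LK LD1_c10 LD2_c19 LD3_c38) (LK LD1_c18 LD2_c44 LD3_c57) Lrfl Lrfl
theorem f317717 : Led Lsl_ef (LP (LK LD1_c10 LD2_c46 LD3_c3)) = (LP (LK LD1_c10 LD2_c42 LD3_c57)) :=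
  Lgr Lrot73 (Lpr_dt (f295264 IH) (Lpr_et (f317716 IH) (Lpr_dt (K21.f317711 IH) (Lpr_et (f259219 IH) (Lpe (f259215 IH) (Lpn (LP (LK LD1_c10 LD2_c42 LD3_c57))))))))
theorem f317722 : Led Lsl_et (LP (LK LD1_c10 LD2_c46 LD3_c3)) = (LP (LK LD1_c10 LD2_c42 LD3_c57)) :=
  Lgr Lrot87 (Lpr_ef (f317717 IH) (Lpn (LP (LK LD1_c10 LD2_c42 LD3_c57))))
theorem f324061 : Led Lsl_bt (LP (LK LD1_c15 LD2_c16 LD3_c4)) = (LP (LK LD1_c10 LD2_c46 LD3_c3)) :=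
  Lgr Lrot119 (Lpr_ef (K14.f191327 IH) (Lpr_bf (f324057 IH) (Lpe (f317722 IH) (Lpn (LP (LK LD1_c10 LD2_c46 LD3_c3))))))
theorem f28096 : Led Lsl_dt (LP (LK LD1_c8 LD2_c6 LD3_c31)) = (LP (LK LD1_c15 LD2_c16 LD3_c4)) :=
  Lre_d IH (LK LD1_c8 LD2_c6 LD3_c31) (LK LD1_c15 LD2_c16 LD3_c4) Lrfl Lrfl
theorem f324065 : Led Lsl_bf (LP (LK LD1_c8 LD2_c6 LD3_c31)) = (LP (LK LD1_c5 LD2_c27 LD3_c29)) :=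
  Lgr Lrot93 (Lpr_dt (f28096 IH) (Lpr_bt (f324061 IH) (Lpr_dt (f295264 IH) (Lpn (LP (LK LD1_c5 LD2_c27 LD3_c29))))))
theorem f324067 : Led Lsl_bt (LP (LK LD1_c8 LD2_c6 LD3_c31)) = (LP (LK LD1_c5 LD2_c27 LD3_c29)) :=
  Lgr Lrot127 (Lpr_bf (f324065 IH) (Lpn (LP (LK LD1_c5 LD2_c27 LD3_c29))))
theorem f324077 : Led Lsl_bf (LP (LK LD1_c15 LD2_c16 LD3_c5)) = (LP (LK LD1_c10 LD2_c46 LD3_c4)) :=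
  Lgr Lrot96 (Lpr_et (K14.f51382 IH) (Lpr_bt (f324067 IH) (Lpr_et (f317716 IH) (Lpn (LP (LK LD1_c10 LD2_c46 LD3_c4))))))
theorem f335504 : Led Lsl_gt (LP (LK LD1_c10 LD2_c44 LD3_c44)) = (LP (LK LD1_c15 LD2_c16 LD3_c5)) :=
  Lgr Lrot164 (Lpr_bf (f330377 IH) (Lpr_ct (K21.f310578 IH) (Lpe (K21.f330368 IH) (Lpe (K21.f296845 IH) (Lpe (K21.f327426 IH) (Lpe (f309567 IH) (Lpr_ct (f309571 IH) (Lpr_gf (f335502 IH) (Lpe (f317727 IH) (Lpe (f324077 IH) (Lpn (LP (LK LD1_c15 LD2_c16 LD3_c5)))))))))))))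
theorem f254491 : Led Lsl_df (LP (LK LD1_c15 LD2_c16 LD3_c5)) = (LP (LK LD1_c10 LD2_c23 LD3_c47)) :=
  Lgr Lrot38 (Lpr_dt (K14.f254489 IH) (Lpn (LP (LK LD1_c10 LD2_c23 LD3_c47))))
theorem f340808 : Led Lsl_gf (LP (LK LD1_c15 LD2_c15 LD3_c22)) = (LP (LK LD1_c18 LD2_c51 LD3_c46)) :=
  Lgr Lrot138 (Lpr_dt (f261901 IH) (Lpe (f261896 IH) (Lpe (K17.f282481 IH) (Lpr_et (K17.f282489 IH) (Lpr_gt (f340746 IH) (Lpr_ef (K22.f335494 IH) (Lpr_dt (f259344 IH) (Lpr_gt (f335504 IH) (Lpr_df (f254491 IH) (Lpr_et (K14.f254493 IH) (Lpn (LP (LK LD1_c18 LD2_c51 LD3_c46)))))))))))))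
theorem f236244 : Led Lsl_dt (LP (LK LD1_c8 LD2_c6 LD3_c11)) = (LP (LK LD1_c15 LD2_c15 LD3_c22)) :=
  Lre_d IH (LK LD1_c8 LD2_c6 LD3_c11) (LK LD1_c15 LD2_c15 LD3_c22) Lrfl Lrfl
theorem f254629 : Led Lsl_gt (LP (LK LD1_c5 LD2_c26 LD3_c47)) = (LP (LK LD1_c2 LD2_c39 LD3_c47)) :=
  Lre_g IH (LK LD1_c5 LD2_c26 LD3_c47) (LK LD1_c2 LD2_c39 LD3_c47) Lrfl Lrfl
theorem f340816 : Led Lsl_et (LP (LK LD1_c8 LD2_c6 LD3_c11)) = (LP (LK LD1_c5 LD2_c26 LD3_c47)) :=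
  Lgr Lrot185 (Lpr_dt (f236244 IH) (Lpr_gf (f340808 IH) (Lpe (f254496 IH) (Lpe (K14.f191320 IH) (Lpe (K14.f191319 IH) (Lpr_dt (K14.f191318 IH) (Lpe (K14.f175058 IH) (Lpr_df (K10.f8419 IH) (Lpr_et (K17.f236122 IH) (Lpe (f254629 IH) (Lpn (LP (LK LD1_c5 LD2_c26 LD3_c47)))))))))))))
theorem f236123 : Led Lsl_df (LP (LK LD1_c1 LD2_c16 LD3_c54)) = (LP (LK LD1_c2 LD2_c39 LD3_c47)) :=
  Lgr Lrot70 (Lpr_et (f236003 IH) (Lpr_dt (K14.f196999 IH) (Lpr_et (K13.f236102 IH) (Lpr_dt (K13.f236119 IH) (Lpr_et (K17.f236122 IH) (Lpn (LP (LK LD1_c2 LD2_c39 LD3_c47))))))))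
theorem f340823 : Led Lsl_gt (LP (LK LD1_c1 LD2_c16 LD3_c54)) = (LP (LK LD1_c2 LD2_c40 LD3_c21)) :=
  Lre_g IH (LK LD1_c1 LD2_c16 LD3_c54) (LK LD1_c2 LD2_c40 LD3_c21) Lrfl Lrfl
theorem f282967 : Led Lsl_dt (LP (LK LD1_c5 LD2_c28 LD3_c6)) = (LP (LK LD1_c2 LD2_c40 LD3_c21)) :=
  Lre_d IH (LK LD1_c5 LD2_c28 LD3_c6) (LK LD1_c2 LD2_c40 LD3_c21) Lrfl Lrfl
theorem f282968 : Led Lsl_et (LP (LK LD1_c5 LD2_c28 LD3_c6)) = (LP (LK LD1_c10 LD2_c47 LD3_c29)) :=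
  Lre_e IH (LK LD1_c5 LD2_c28 LD3_c6) (LK LD1_c10 LD2_c47 LD3_c29) Lrfl Lrfl
theorem f340824 : Led Lsl_gf (LP (LK LD1_c15 LD2_c16 LD3_c4)) = (LP (LK LD1_c10 LD2_c47 LD3_c29)) :=
  Lgr Lrot141 (Lpr_ef (K14.f191327 IH) (Lpr_dt (f254496 IH) (Lpe (f340808 IH) (Lpe (f236244 IH) (Lpr_et (f340816 IH) (Lpr_gt (f254629 IH) (Lpe (f236123 IH) (Lpr_gt (f340823 IH) (Lpe (f282967 IH) (Lpr_et (f282968 IH) (Lpn (LP (LK LD1_c10 LD2_c47 LD3_c29)))))))))))))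
theorem f50237 : Led Lsl_gt (LP (LK LD1_c15 LD2_c16 LD3_c2)) = (LP (LK LD1_c25 LD2_c5 LD3_c55)) :=
  Lre_g IH (LK LD1_c15 LD2_c16 LD3_c2) (LK LD1_c25 LD2_c5 LD3_c55) Lrfl Lrfl
theorem f50238 : Led Lsl_gt (LP (LK LD1_c25 LD2_c5 LD3_c55)) = (LP (LK LD1_c15 LD2_c33 LD3_c14)) :=
  Lgr Lrot46 (Lpe (f50237 IH) (Lpr_ft (K9.f50226 IH) (Lpr_at (K9.f49746 IH) (Lpn (LP (LK LD1_c15 LD2_c33 LD3_c14))))))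
theorem f324164 : Led Lsl_ct (LP (LK LD1_c19 LD2_c31 LD3_c7)) = (LP (LK LD1_c10 LD2_c47 LD3_c29)) :=
  Lre_c IH (LK LD1_c19 LD2_c31 LD3_c7) (LK LD1_c10 LD2_c47 LD3_c29) Lrfl Lrfl
theorem f324161 : Led Lsl_gt (LP (LK LD1_c19 LD2_c31 LD3_c7)) = (LP (LK LD1_c28 LD2_c53 LD3_c49)) :=
  Lre_g IH (LK LD1_c19 LD2_c31 LD3_c7) (LK LD1_c28 LD2_c53 LD3_c49) Lrfl Lrfl
theorem f340826 : Led Lsl_df (LP (LK LD1_c25 LD2_c5 LD3_c55)) = (LP (LK LD1_c28 LD2_c53 LD3_c49)) :=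
  Lgr Lrot153 (Lpr_gt (f50238 IH) (Lpr_dt (K9.f49757 IH) (Lpe (K9.f49770 IH) (Lpr_df (K9.f50089 IH) (Lpe (K14.f51378 IH) (Lpe (K14.f28103 IH) (Lpr_gf (f340824 IH) (Lpe (f324164 IH) (Lpr_gt (f324161 IH) (Lpn (LP (LK LD1_c28 LD2_c53 LD3_c49))))))))))))
theorem f340914 : Led Lsl_dt (LP (LK LD1_c25 LD2_c5 LD3_c55)) = (LP (LK LD1_c28 LD2_c53 LD3_c49)) :=
  Lgr Lrot42 (Lpr_df (f340826 IH) (Lpn (LP (LK LD1_c28 LD2_c53 LD3_c49))))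
theorem f28100 : Led Lsl_gt (LP (LK LD1_c15 LD2_c16 LD3_c1)) = (LP (LK LD1_c8 LD2_c6 LD3_c30)) :=
  Lre_g IH (LK LD1_c15 LD2_c16 LD3_c1) (LK LD1_c8 LD2_c6 LD3_c30) Lrfl Lrfl
theorem f220191 : Led Lsl_df (LP (LK LD1_c8 LD2_c32 LD3_c39)) = (LP (LK LD1_c6 LD2_c6 LD3_c2)) :=
  Lgr Lrot38 (Lpr_dt (K17.f220180 IH) (Lpn (LP (LK LD1_c6 LD2_c6 LD3_c2))))
theorem f244893 : Led Lsl_gt (LP (LK LD1_c2 LD2_c40 LD3_c21)) = (LP (LK LD1_c5 LD2_c27 LD3_c35)) :=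
  Lre_g IH (LK LD1_c2 LD2_c40 LD3_c21) (LK LD1_c5 LD2_c27 LD3_c35) Lrfl Lrfl
theorem f167668 : Led Lsl_bt (LP (LK LD1_c2 LD2_c40 LD3_c35)) = (LP (LK LD1_c5 LD2_c28 LD3_c36)) :=
  Lre_b IH (LK LD1_c2 LD2_c40 LD3_c35) (LK LD1_c5 LD2_c28 LD3_c36) Lrfl Lrfl
theorem f181806 : Led Lsl_bt (LP (LK LD1_c5 LD2_c35 LD3_c6)) = (LP (LK LD1_c2 LD2_c43 LD3_c29)) :=
  Lre_b IH (LK LD1_c5 LD2_c35 LD3_c6) (LK LD1_c2 LD2_c43 LD3_c29) Lrfl Lrfl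
theorem f181807 : Led Lsl_et (LP (LK LD1_c5 LD2_c28 LD3_c36)) = (LP (LK LD1_c5 LD2_c35 LD3_c6)) :=
  Lgr Lrot74 (Lpe (f167668 IH) (Lpr_ef (K15.f181800 IH) (Lpe (f181806 IH) (Lpn (LP (LK LD1_c5 LD2_c35 LD3_c6))))))
theorem f324158 : Led Lsl_gf (LP (LK LD1_c10 LD2_c47 LD3_c29)) = (LP (LK LD1_c5 LD2_c35 LD3_c6)) :=
  Lgr Lrot141 (Lpe (f282968 IH) (Lpr_dt (f282967 IH) (Lpr_gt (f244893 IH) (Lpr_df (K18.f282938 IH) (Lpe (K17.f283014 IH) (Lpr_gt (K17.f283094 IH) (Lpe (f220191 IH) (Lpr_gt (K21.f324156 IH) (Lpr_df (K21.f323468 IH) (Lpr_et (f181807 IH) (Lpn (LP (LK LD1_c5 LD2_c35 LD3_c6)))))))))))))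
theorem f324160 : Led Lsl_ct (LP (LK LD1_c10 LD2_c47 LD3_c29)) = (LP (LK LD1_c19 LD2_c31 LD3_c7)) :=
  Lre_c IH (LK LD1_c10 LD2_c47 LD3_c29) (LK LD1_c19 LD2_c31 LD3_c7) Lrfl Lrfl
theorem f322733 : Led Lsl_cf (LP (LK LD1_c11 LD2_c2 LD3_c31)) = (LP (LK LD1_c15 LD2_c16 LD3_c0)) :=
  Lgr Lrot11 (Lpr_ct (K20.f322731 IH) (Lpn (LP (LK LD1_c15 LD2_c16 LD3_c0))))
theorem f213045 : Led Lsl_dt (LP (LK LD1_c19 LD2_c53 LD3_c49)) = (LP (LK LD1_c11 LD2_c2 LD3_c31)) :=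
  Lre_d IH (LK LD1_c19 LD2_c53 LD3_c49) (LK LD1_c11 LD2_c2 LD3_c31) Lrfl Lrfl
theorem f324162 : Led Lsl_ct (LP (LK LD1_c28 LD2_c53 LD3_c49)) = (LP (LK LD1_c19 LD2_c53 LD3_c49)) :=
  Lgr Lrot110 (Lpe (f324161 IH) (Lpe (f324160 IH) (Lpr_gf (f324158 IH) (Lpe (K21.f181864 IH) (Lpe (K21.f323480 IH) (Lpr_ct (K9.f28084 IH) (Lpr_gt (K20.f50217 IH) (Lpe (f322733 IH) (Lpe (f213045 IH) (Lpn (LP (LK LD1_c19 LD2_c53 LD3_c49))))))))))))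
theorem f213070 : Led Lsl_dt (LP (LK LD1_c11 LD2_c2 LD3_c31)) = (LP (LK LD1_c19 LD2_c53 LD3_c49)) :=
  Lre_d IH (LK LD1_c11 LD2_c2 LD3_c31) (LK LD1_c19 LD2_c53 LD3_c49) Lrfl Lrfl
theorem f340930 : Led Lsl_cf (LP (LK LD1_c15 LD2_c16 LD3_c1)) = (LP (LK LD1_c11 LD2_c2 LD3_c32)) :=
  Lgr Lrot166 (Lpr_gt (f28100 IH) (Lpr_dt (K9.f28085 IH) (Lpr_gt (f50237 IH) (Lpr_dt (f340914 IH) (Lpr_ct (f324162 IH) (Lpe (f213070 IH) (Lpe (K20.f213044 IH) (Lpr_df (K19.f212853 IH) (Lpe (K19.f213071 IH) (Lpn (LP (LK LD1_c11 LD2_c2 LD3_c32))))))))))))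
theorem f340939 : Led Lsl_bf (LP (LK LD1_c17 LD2_c35 LD3_c52)) = (LP (LK LD1_c11 LD2_c2 LD3_c32)) :=
  Lgr Lrot34 (Lpe (K20.f27575 IH) (Lpe (K19.f27568 IH) (Lpr_ct (K21.f52897 IH) (Lpr_gf (K18.f299214 IH) (Lpe (K18.f28007 IH) (Lpe (K15.f28000 IH) (Lpe (K9.f27982 IH) (Lpr_ct (K9.f28084 IH) (Lpe (f28100 IH) (Lpr_cf (f340930 IH) (Lpn (LP (LK LD1_c11 LD2_c2 LD3_c32)))))))))))))
theorem f340976 : Led Lsl_bt (LP (LK LD1_c17 LD2_c35 LD3_c52)) = (LP (LK LD1_c11 LD2_c2 LD3_c32)) :=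
  Lgr Lrot127 (Lpr_bf (f340939 IH) (Lpn (LP (LK LD1_c11 LD2_c2 LD3_c32))))
theorem f8628 : Led Lsl_bt (LP (LK LD1_c4 LD2_c30 LD3_c45)) = (LP (LK LD1_c2 LD2_c12 LD3_c19)) :=
  Lre_b IH (LK LD1_c4 LD2_c30 LD3_c45) (LK LD1_c2 LD2_c12 LD3_c19) Lrfl Lrfl
theorem f8632 : Led Lsl_ct (LP (LK LD1_c4 LD2_c30 LD3_c45)) = (LP (LK LD1_c8 LD2_c59 LD3_c47)) :=
  Lre_c IH (LK LD1_c4 LD2_c30 LD3_c45) (LK LD1_c8 LD2_c59 LD3_c47) Lrfl Lrfl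
theorem f213062 : Led Lsl_ct (LP (LK LD1_c5 LD2_c35 LD3_c11)) = (LP (LK LD1_c5 LD2_c32 LD3_c16)) :=
  Lgr Lrot59 (Lpr_cf (K16.f213054 IH) (Lpn (LP (LK LD1_c5 LD2_c32 LD3_c16))))
theorem f340986 : Led Lsl_gf (LP (LK LD1_c8 LD2_c59 LD3_c47)) = (LP (LK LD1_c5 LD2_c32 LD3_c16)) :=
  Lgr Lrot129 (Lpe (f8632 IH) (Lpr_bt (f8628 IH) (Lpe (K18.f8621 IH) (Lpe (K20.f7635 IH) (Lpr_ct (K20.f8635 IH) (Lpr_gt (K21.f8636 IH) (Lpe (K21.f310406 IH) (Lpr_bt (f340976 IH) (Lpr_gt (K19.f213071 IH) (Lpr_ct (f213062 IH) (Lpn (LP (LK LD1_c5 LD2_c32 LD3_c16)))))))))))))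
theorem f213085 : Led Lsl_ff (LP (LK LD1_c10 LD2_c24 LD3_c28)) = (LP (LK LD1_c5 LD2_c32 LD3_c16)) :=
  Lgr Lrot3 (Lpr_ft (K16.f213068 IH) (Lpn (LP (LK LD1_c5 LD2_c32 LD3_c16))))
theorem f187639 : Led Lsl_et (LP (LK LD1_c6 LD2_c5 LD3_c59)) = (LP (LK LD1_c11 LD2_c55 LD3_c21)) :=
  Lre_e IH (LK LD1_c6 LD2_c5 LD3_c59) (LK LD1_c11 LD2_c55 LD3_c21) Lrfl Lrfl
theorem f187653 : Led Lsl_et (LP (LK LD1_c10 LD2_c24 LD3_c28)) = (LP (LK LD1_c5 LD2_c17 LD3_c27)) :=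
  Lre_e IH (LK LD1_c10 LD2_c24 LD3_c28) (LK LD1_c5 LD2_c17 LD3_c27) Lrfl Lrfl
theorem f187654 : Led Lsl_at (LP (LK LD1_c11 LD2_c55 LD3_c21)) = (LP (LK LD1_c10 LD2_c24 LD3_c28)) :=
  Lgr Lrot80 (Lpe (f187639 IH) (Lpr_af (K10.f187645 IH) (Lpe (f187653 IH) (Lpn (LP (LK LD1_c10 LD2_c24 LD3_c28))))))
theorem f187720 : Led Lsl_af (LP (LK LD1_c11 LD2_c55 LD3_c21)) = (LP (LK LD1_c10 LD2_c24 LD3_c28)) :=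
  Lgr Lrot0 (Lpr_at (f187654 IH) (Lpn (LP (LK LD1_c10 LD2_c24 LD3_c28))))
theorem f340988 : Led Lsl_gt (LP (LK LD1_c8 LD2_c59 LD3_c47)) = (LP (LK LD1_c11 LD2_c55 LD3_c21)) :=
  Lgr Lrot46 (Lpr_gf (f340986 IH) (Lpe (f213085 IH) (Lpe (f187720 IH) (Lpn (LP (LK LD1_c11 LD2_c55 LD3_c21))))))
theorem f340340 : Led Lsl_gf (LP (LK LD1_c4 LD2_c30 LD3_c45)) = (LP (LK LD1_c2 LD2_c40 LD3_c56)) :=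
  Lgr Lrot47 (Lpr_gt (f340333 IH) (Lpr_af (K9.f49627 IH) (Lpr_ff (K12.f217176 IH) (Lpn (LP (LK LD1_c2 LD2_c40 LD3_c56))))))
theorem f309870 : Led Lsl_ct (LP (LK LD1_c8 LD2_c11 LD3_c51)) = (LP (LK LD1_c15 LD2_c25 LD3_c58)) :=
  Lre_c IH (LK LD1_c8 LD2_c11 LD3_c51) (LK LD1_c15 LD2_c25 LD3_c58) Lrfl Lrfl
theorem f340382 : Led Lsl_gf (LP (LK LD1_c9 LD2_c42 LD3_c7)) = (LP (LK LD1_c15 LD2_c25 LD3_c58)) :=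
  Lgr Lrot129 (Lpe (K12.f217329 IH) (Lpr_bt (f217164 IH) (Lpe (f340340 IH) (Lpe (f340342 IH) (Lpr_ct (f8625 IH) (Lpr_gt (f340345 IH) (Lpe (K9.f55303 IH) (Lpr_bt (K21.f55052 IH) (Lpr_gt (K21.f173585 IH) (Lpr_ct (f309870 IH) (Lpn (LP (LK LD1_c15 LD2_c25 LD3_c58)))))))))))))
theorem f312588 : Led Lsl_bt (LP (LK LD1_c8 LD2_c11 LD3_c51)) = (LP (LK LD1_c15 LD2_c25 LD3_c57)) :=
  Lre_b IH (LK LD1_c8 LD2_c11 LD3_c51) (LK LD1_c15 LD2_c25 LD3_c57) Lrfl Lrfl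
theorem f32936 : Led Lsl_ct (LP (LK LD1_c10 LD2_c24 LD3_c28)) = (LP (LK LD1_c5 LD2_c17 LD3_c28)) :=
  Lre_c IH (LK LD1_c10 LD2_c24 LD3_c28) (LK LD1_c5 LD2_c17 LD3_c28) Lrfl Lrfl
theorem f187722 : Led Lsl_cf (LP (LK LD1_c11 LD2_c55 LD3_c21)) = (LP (LK LD1_c10 LD2_c23 LD3_c39)) :=
  Lgr Lrot1 (Lpr_at (f187654 IH) (Lpr_ct (f32936 IH) (Lpr_at (K10.f32933 IH) (Lpn (LP (LK LD1_c10 LD2_c23 LD3_c39))))))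
theorem f341000 : Led Lsl_gf (LP (LK LD1_c15 LD2_c25 LD3_c57)) = (LP (LK LD1_c15 LD2_c27 LD3_c45)) :=
  Lgr Lrot124 (Lpe (f312588 IH) (Lpr_ct (f309870 IH) (Lpe (f340382 IH) (Lpe (K12.f217329 IH) (Lpr_bt (f217164 IH) (Lpe (f340340 IH) (Lpr_ct (f8632 IH) (Lpr_gt (f340988 IH) (Lpr_cf (f187722 IH) (Lpe (K10.f183650 IH) (Lpn (LP (LK LD1_c15 LD2_c27 LD3_c45)))))))))))))
theorem f247136 : Led Lsl_et (LP (LK LD1_c9 LD2_c0 LD3_c59)) = (LP (LK LD1_c8 LD2_c9 LD3_c59)) :=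
  Lgr Lrot71 (Lpr_df (K21.f247132 IH) (Lpe (K16.f223729 IH) (Lpe (K13.f211484 IH) (Lpe (K13.f223708 IH) (Lpe (K15.f223728 IH) (Lpn (LP (LK LD1_c8 LD2_c9 LD3_c59))))))))
theorem f247140 : Led Lsl_dt (LP (LK LD1_c24 LD2_c54 LD3_c46)) = (LP (LK LD1_c15 LD2_c6 LD3_c41)) :=
  Lre_d IH (LK LD1_c24 LD2_c54 LD3_c46) (LK LD1_c15 LD2_c6 LD3_c41) Lrfl Lrfl
theorem f341004 : Led Lsl_ef (LP (LK LD1_c15 LD2_c25 LD3_c57)) = (LP (LK LD1_c24 LD2_c54 LD3_c46)) :=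
  Lgr Lrot17 (Lpr_gf (f341000 IH) (Lpe (K17.f183644 IH) (Lpr_dt (K10.f183621 IH) (Lpe (K9.f183612 IH) (Lpe (K14.f183628 IH) (Lpe (K14.f252142 IH) (Lpe (f247136 IH) (Lpr_dt (K20.f247080 IH) (Lpe (K21.f247139 IH) (Lpe (f247140 IH) (Lpn (LP (LK LD1_c24 LD2_c54 LD3_c46)))))))))))))
theorem f341010 : Led Lsl_et (LP (LK LD1_c15 LD2_c25 LD3_c57)) = (LP (LK LD1_c24 LD2_c54 LD3_c46)) :=
  Lgr Lrot87 (Lpr_ef (f341004 IH) (Lpn (LP (LK LD1_c24 LD2_c54 LD3_c46))))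
theorem f341012 : Led Lsl_bf (LP (LK LD1_c15 LD2_c25 LD3_c59)) = (LP (LK LD1_c24 LD2_c54 LD3_c46)) :=
  Lgr Lrot96 (Lpr_et (K21.f278197 IH) (Lpr_bt (f312588 IH) (Lpr_et (f341010 IH) (Lpn (LP (LK LD1_c24 LD2_c54 LD3_c46))))))
theorem f258453 : Led Lsl_dt (LP (LK LD1_c15 LD2_c6 LD3_c41)) = (LP (LK LD1_c24 LD2_c54 LD3_c46)) :=
  Lre_d IH (LK LD1_c15 LD2_c6 LD3_c41) (LK LD1_c24 LD2_c54 LD3_c46) Lrfl Lrfl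
theorem f341016 : Led Lsl_bt (LP (LK LD1_c9 LD2_c38 LD3_c43)) = (LP (LK LD1_c15 LD2_c6 LD3_c41)) :=
  Lgr Lrot95 (Lpr_df (K21.f312576 IH) (Lpr_bf (f341012 IH) (Lpe (f258453 IH) (Lpn (LP (LK LD1_c15 LD2_c6 LD3_c41))))))
theorem f312550 : Led Lsl_bt (LP (LK LD1_c19 LD2_c57 LD3_c34)) = (LP (LK LD1_c11 LD2_c4 LD3_c48)) :=
  Lre_b IH (LK LD1_c19 LD2_c57 LD3_c34) (LK LD1_c11 LD2_c4 LD3_c48) Lrfl Lrfl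
theorem f341020 : Led Lsl_ef (LP (LK LD1_c19 LD2_c57 LD3_c34)) = (LP (LK LD1_c15 LD2_c6 LD3_c41)) :=
  Lgr Lrot29 (Lpr_bt (f312550 IH) (Lpr_et (K19.f312548 IH) (Lpr_bt (f341016 IH) (Lpn (LP (LK LD1_c15 LD2_c6 LD3_c41))))))
theorem f341025 : Led Lsl_et (LP (LK LD1_c19 LD2_c57 LD3_c34)) = (LP (LK LD1_c15 LD2_c6 LD3_c41)) :=
  Lgr Lrot87 (Lpr_ef (f341020 IH) (Lpn (LP (LK LD1_c15 LD2_c6 LD3_c41))))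
theorem f341024 : Led Lsl_dt (LP (LK LD1_c19 LD2_c57 LD3_c34)) = (LP (LK LD1_c11 LD2_c4 LD3_c46)) :=
  Lre_d IH (LK LD1_c19 LD2_c57 LD3_c34) (LK LD1_c11 LD2_c4 LD3_c46) Lrfl Lrfl
theorem f341031 : Led Lsl_gf (LP (LK LD1_c11 LD2_c4 LD3_c46)) = (LP (LK LD1_c15 LD2_c34 LD3_c54)) :=
  Lgr Lrot134 (Lpe (f341024 IH) (Lpr_et (f341025 IH) (Lpr_gt (K21.f247139 IH) (Lpe (K16.f223729 IH) (Lpe (K13.f211491 IH) (Lpr_gt (K18.f258901 IH) (Lpr_df (K14.f255982 IH) (Lpr_et (K21.f252053 IH) (Lpr_gt (K21.f330896 IH) (Lpe (K20.f322166 IH) (Lpn (LP (LK LD1_c15 LD2_c34 LD3_c54)))))))))))))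
theorem f317234 : Led Lsl_bt (LP (LK LD1_c15 LD2_c34 LD3_c57)) = (LP (LK LD1_c25 LD2_c28 LD3_c61)) :=
  Lre_b IH (LK LD1_c15 LD2_c34 LD3_c57) (LK LD1_c25 LD2_c28 LD3_c61) Lrfl Lrfl
theorem f317235 : Led Lsl_af (LP (LK LD1_c16 LD2_c50 LD3_c3)) = (LP (LK LD1_c25 LD2_c28 LD3_c61)) :=
  Lgr Lrot36 (Lpr_bt (K15.f238163 IH) (Lpr_at (K20.f317230 IH) (Lpr_bt (K21.f222299 IH) (Lpr_at (K21.f311814 IH) (Lpr_bt (f317234 IH) (Lpn (LP (LK LD1_c25 LD2_c28 LD3_c61))))))))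
theorem f341033 : Led Lsl_gt (LP (LK LD1_c11 LD2_c4 LD3_c46)) = (LP (LK LD1_c16 LD2_c50 LD3_c3)) :=
  Lgr Lrot46 (Lpr_gf (f341031 IH) (Lpr_ft (K22.f254848 IH) (Lpe (f317235 IH) (Lpn (LP (LK LD1_c16 LD2_c50 LD3_c3))))))
theorem f321255 : Led Lsl_ct (LP (LK LD1_c2 LD2_c25 LD3_c24)) = (LP (LK LD1_c4 LD2_c54 LD3_c53)) :=
  Lre_c IH (LK LD1_c2 LD2_c25 LD3_c24) (LK LD1_c4 LD2_c54 LD3_c53) Lrfl Lrfl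
theorem f321266 : Led Lsl_ef (LP (LK LD1_c4 LD2_c19 LD3_c7)) = (LP (LK LD1_c4 LD2_c54 LD3_c53)) :=
  Lgr Lrot28 (Lpr_ct (K18.f200626 IH) (Lpr_et (K20.f321262 IH) (Lpr_ct (f321255 IH) (Lpn (LP (LK LD1_c4 LD2_c54 LD3_c53))))))
theorem f321348 : Led Lsl_df (LP (LK LD1_c8 LD2_c38 LD3_c31)) = (LP (LK LD1_c8 LD2_c43 LD3_c9)) :=
  Lgr Lrot70 (Lpr_et (K21.f54092 IH) (Lpr_dt (K20.f321342 IH) (Lpe (f321266 IH) (Lpr_dt (K19.f255984 IH) (Lpr_et (K21.f252053 IH) (Lpn (LP (LK LD1_c8 LD2_c43 LD3_c9))))))))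
theorem f257339 : Led Lsl_ct (LP (LK LD1_c6 LD2_c5 LD3_c11)) = (LP (LK LD1_c8 LD2_c38 LD3_c31)) :=
  Lgr Lrot59 (Lpr_cf (K21.f257331 IH) (Lpn (LP (LK LD1_c8 LD2_c38 LD3_c31))))
theorem f257348 : Led Lsl_dt (LP (LK LD1_c11 LD2_c53 LD3_c48)) = (LP (LK LD1_c6 LD2_c5 LD3_c11)) :=
  Lre_d IH (LK LD1_c11 LD2_c53 LD3_c48) (LK LD1_c6 LD2_c5 LD3_c11) Lrfl Lrfl
theorem f341036 : Led Lsl_ct (LP (LK LD1_c11 LD2_c4 LD3_c46)) = (LP (LK LD1_c16 LD2_c37 LD3_c19)) :=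
  Lgr Lrot8 (Lpr_gt (f341033 IH) (Lpr_dt (K21.f238152 IH) (Lpe (K21.f330892 IH) (Lpe (f321348 IH) (Lpe (f257339 IH) (Lpe (f257348 IH) (Lpr_gf (K20.f316570 IH) (Lpe (K16.f7791 IH) (Lpe (K20.f279017 IH) (Lpn (LP (LK LD1_c16 LD2_c37 LD3_c19))))))))))))
theorem f261184 : Led Lsl_bt (LP (LK LD1_c11 LD2_c4 LD3_c46)) = (LP (LK LD1_c5 LD2_c36 LD3_c15)) :=
  Lre_b IH (LK LD1_c11 LD2_c4 LD3_c46) (LK LD1_c5 LD2_c36 LD3_c15) Lrfl Lrfl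
theorem f261206 : Led Lsl_gt (LP (LK LD1_c17 LD2_c49 LD3_c10)) = (LP (LK LD1_c11 LD2_c4 LD3_c43)) :=
  Lgr Lrot5 (Lpr_ft (K15.f261193 IH) (Lpr_at (K15.f261195 IH) (Lpe (K19.f228846 IH) (Lpn (LP (LK LD1_c11 LD2_c4 LD3_c43))))))
theorem f278952 : Led Lsl_bf (LP (LK LD1_c2 LD2_c37 LD3_c57)) = (LP (LK LD1_c4 LD2_c27 LD3_c47)) :=
  Lgr Lrot96 (Lpr_et (K16.f224413 IH) (Lpr_bt (K16.f278939 IH) (Lpr_et (K16.f278951 IH) (Lpn (LP (LK LD1_c4 LD2_c27 LD3_c47))))))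
theorem f341049 : Led Lsl_bt (LP (LK LD1_c10 LD2_c34 LD3_c61)) = (LP (LK LD1_c5 LD2_c22 LD3_c49)) :=
  Lgr Lrot22 (Lpe (K19.f309974 IH) (Lpe (f261206 IH) (Lpe (K15.f221709 IH) (Lpr_gf (K19.f261181 IH) (Lpe (f261184 IH) (Lpr_ct (f341036 IH) (Lpe (K20.f279016 IH) (Lpe (K21.f279129 IH) (Lpe (f278952 IH) (Lpe (K20.f258315 IH) (Lpn (LP (LK LD1_c5 LD2_c22 LD3_c49)))))))))))))
theorem f7807 : Led Lsl_bt (LP (LK LD1_c1 LD2_c16 LD3_c60)) = (LP (LK LD1_c2 LD2_c40 LD3_c31)) :=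
  Lre_b IH (LK LD1_c1 LD2_c16 LD3_c60) (LK LD1_c2 LD2_c40 LD3_c31) Lrfl Lrfl
theorem f7856 : Led Lsl_ct (LP (LK LD1_c1 LD2_c16 LD3_c60)) = (LP (LK LD1_c2 LD2_c40 LD3_c34)) :=
  Lre_c IH (LK LD1_c1 LD2_c16 LD3_c60) (LK LD1_c2 LD2_c40 LD3_c34) Lrfl Lrfl
theorem f167678 : Led Lsl_gt (LP (LK LD1_c2 LD2_c40 LD3_c34)) = (LP (LK LD1_c5 LD2_c28 LD3_c32)) :=
  Lre_g IH (LK LD1_c2 LD2_c40 LD3_c34) (LK LD1_c5 LD2_c28 LD3_c32) Lrfl Lrfl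
theorem f325845 : Led Lsl_ct (LP (LK LD1_c2 LD2_c44 LD3_c4)) = (LP (LK LD1_c5 LD2_c28 LD3_c32)) :=
  Lgr Lrot10 (Lpr_bt (K19.f306920 IH) (Lpr_gt (K19.f309965 IH) (Lpr_ct (K18.f247258 IH) (Lpr_gt (K19.f299193 IH) (Lpe (K18.f299188 IH) (Lpr_bt (K21.f325839 IH) (Lpr_gt (K21.f7825 IH) (Lpe (f7807 IH) (Lpr_ct (f7856 IH) (Lpr_gt (f167678 IH) (Lpn (LP (LK LD1_c5 LD2_c28 LD3_c32)))))))))))))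
theorem f267876 : Led Lsl_ft (LP (LK LD1_c8 LD2_c21 LD3_c51)) = (LP (LK LD1_c4 LD2_c10 LD3_c60)) :=
  Lre_f IH (LK LD1_c8 LD2_c21 LD3_c51) (LK LD1_c4 LD2_c10 LD3_c60) Lrfl Lrfl
theorem f289154 : Led Lsl_at (LP (LK LD1_c5 LD2_c28 LD3_c35)) = (LP (LK LD1_c8 LD2_c21 LD3_c51)) :=
  Lgr Lrot66 (Lpe (K22.f289153 IH) (Lpr_af (K17.f289148 IH) (Lpe (f267876 IH) (Lpn (LP (LK LD1_c8 LD2_c21 LD3_c51))))))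
theorem f289163 : Led Lsl_gt (LP (LK LD1_c5 LD2_c28 LD3_c32)) = (LP (LK LD1_c8 LD2_c21 LD3_c51)) :=
  Lgr Lrot46 (Lpe (f167678 IH) (Lpr_ft (K22.f289153 IH) (Lpr_at (f289154 IH) (Lpn (LP (LK LD1_c8 LD2_c21 LD3_c51))))))
theorem f341054 : Led Lsl_gt (LP (LK LD1_c8 LD2_c21 LD3_c39)) = (LP (LK LD1_c5 LD2_c22 LD3_c49)) :=
  Lgr Lrot164 (Lpe (K16.f267674 IH) (Lpr_ct (K22.f267651 IH) (Lpe (f289163 IH) (Lpe (f325845 IH) (Lpe (K19.f178457 IH) (Lpe (K19.f228804 IH) (Lpr_ct (K19.f228802 IH) (Lpe (K19.f228846 IH) (Lpr_cf (K19.f309974 IH) (Lpr_bt (f341049 IH) (Lpn (LP (LK LD1_c5 LD2_c22 LD3_c49)))))))))))))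
theorem f169366 : Led Lsl_gt (LP (LK LD1_c8 LD2_c32 LD3_c47)) = (LP (LK LD1_c4 LD2_c16 LD3_c58)) :=
  Lre_g IH (LK LD1_c8 LD2_c32 LD3_c47) (LK LD1_c4 LD2_c16 LD3_c58) Lrfl Lrfl
theorem f230976 : Led Lsl_gt (LP (LK LD1_c4 LD2_c16 LD3_c45)) = (LP (LK LD1_c8 LD2_c32 LD3_c47)) :=
  Lre_g IH (LK LD1_c4 LD2_c16 LD3_c45) (LK LD1_c8 LD2_c32 LD3_c47) Lrfl Lrfl
theorem f296079 : Led Lsl_ef (LP (LK LD1_c8 LD2_c32 LD3_c47)) = (LP (LK LD1_c8 LD2_c20 LD3_c18)) :=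
  Lgr Lrot17 (Lpe (f230976 IH) (Lpe (K20.f248337 IH) (Lpr_dt (K14.f230318 IH) (Lpe (K15.f255866 IH) (Lpe (K1.f29015 IH) (Lpr_gf (K11.f200129 IH) (Lpe (K20.f170633 IH) (Lpe (K18.f200150 IH) (Lpe (K22.f200189 IH) (Lpr_df (K22.f296060 IH) (Lpn (LP (LK LD1_c8 LD2_c20 LD3_c18)))))))))))))
theorem f249266 : Led Lsl_ft (LP (LK LD1_c5 LD2_c19 LD3_c53)) = (LP (LK LD1_c2 LD2_c36 LD3_c35)) :=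
  Lre_f IH (LK LD1_c5 LD2_c19 LD3_c53) (LK LD1_c2 LD2_c36 LD3_c35) Lrfl Lrfl
theorem f300484 : Led Lsl_ef (LP (LK LD1_c5 LD2_c19 LD3_c53)) = (LP (LK LD1_c5 LD2_c19 LD3_c20)) :=
  Lgr Lrot21 (Lpr_ft (f249266 IH) (Lpr_et (K20.f249254 IH) (Lpr_ft (K18.f300482 IH) (Lpr_et (K9.f44076 IH) (Lpr_ft (K18.f230469 IH) (Lpn (LP (LK LD1_c5 LD2_c19 LD3_c20))))))))
theorem f325615 : Led Lsl_et (LP (LK LD1_c8 LD2_c34 LD3_c17)) = (LP (LK LD1_c8 LD2_c22 LD3_c35)) :=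
  Lgr Lrot71 (Lpr_df (K21.f325611 IH) (Lpe (K21.f325590 IH) (Lpe (K21.f249265 IH) (Lpr_ef (f300484 IH) (Lpe (K18.f300377 IH) (Lpn (LP (LK LD1_c8 LD2_c22 LD3_c35))))))))
theorem f200205 : Led Lsl_gt (LP (LK LD1_c4 LD2_c11 LD3_c31)) = (LP (LK LD1_c8 LD2_c22 LD3_c35)) :=
  Lre_g IH (LK LD1_c4 LD2_c11 LD3_c31) (LK LD1_c8 LD2_c22 LD3_c35) Lrfl Lrfl
theorem f170636 : Led Lsl_et (LP (LK LD1_c8 LD2_c22 LD3_c52)) = (LP (LK LD1_c4 LD2_c11 LD3_c31)) :=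
  Lre_e IH (LK LD1_c8 LD2_c22 LD3_c52) (LK LD1_c4 LD2_c11 LD3_c31) Lrfl Lrfl
theorem f341095 : Led Lsl_dt (LP (LK LD1_c8 LD2_c22 LD3_c52)) = (LP (LK LD1_c5 LD2_c22 LD3_c49)) :=
  Lgr Lrot56 (Lpr_et (f170636 IH) (Lpr_gt (f200205 IH) (Lpe (f325615 IH) (Lpr_dt (K22.f325605 IH) (Lpr_gt (K22.f335684 IH) (Lpe (K14.f247381 IH) (Lpr_et (K16.f275323 IH) (Lpe (K20.f305397 IH) (Lpr_dt (K21.f276786 IH) (Lpr_gt (f341054 IH) (Lpn (LP (LK LD1_c5 LD2_c22 LD3_c49)))))))))))))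
theorem f341097 : Led Lsl_gf (LP (LK LD1_c5 LD2_c12 LD3_c7)) = (LP (LK LD1_c5 LD2_c19 LD3_c20)) :=
  Lgr Lrot134 (Lpr_df (K22.f296060 IH) (Lpe (f296079 IH) (Lpr_gt (f169366 IH) (Lpe (K21.f276791 IH) (Lpr_dt (K21.f276786 IH) (Lpr_gt (f341054 IH) (Lpe (f341095 IH) (Lpr_et (f170636 IH) (Lpr_gt (f200205 IH) (Lpr_dt (K18.f300377 IH) (Lpn (LP (LK LD1_c5 LD2_c19 LD3_c20)))))))))))))
theorem f296074 : Led Lsl_dt (LP (LK LD1_c5 LD2_c12 LD3_c7)) = (LP (LK LD1_c8 LD2_c20 LD3_c18)) :=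
  Lgr Lrot42 (Lpr_df (K22.f296060 IH) (Lpn (LP (LK LD1_c8 LD2_c20 LD3_c18))))
theorem f325678 : Led Lsl_dt (LP (LK LD1_c8 LD2_c22 LD3_c17)) = (LP (LK LD1_c8 LD2_c52 LD3_c36)) :=
  Lgr Lrot77 (Lpe (K22.f325646 IH) (Lpe (K21.f215471 IH) (Lpr_ef (K21.f325649 IH) (Lpe (K21.f185556 IH) (Lpr_ef (K21.f325675 IH) (Lpn (LP (LK LD1_c8 LD2_c52 LD3_c36))))))))
theorem f296083 : Led Lsl_et (LP (LK LD1_c8 LD2_c32 LD3_c47)) = (LP (LK LD1_c8 LD2_c20 LD3_c18)) :=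
  Lgr Lrot87 (Lpr_ef (f296079 IH) (Lpn (LP (LK LD1_c8 LD2_c20 LD3_c18))))
theorem f167511 : Led Lsl_gt (LP (LK LD1_c5 LD2_c5 LD3_c28)) = (LP (LK LD1_c2 LD2_c29 LD3_c60)) :=
  Lre_g IH (LK LD1_c5 LD2_c5 LD3_c28) (LK LD1_c2 LD2_c29 LD3_c60) Lrfl Lrfl
theorem f296087 : Led Lsl_dt (LP (LK LD1_c8 LD2_c32 LD3_c47)) = (LP (LK LD1_c5 LD2_c5 LD3_c28)) :=
  Lgr Lrot136 (Lpr_et (f296083 IH) (Lpe (K22.f247447 IH) (Lpe (K12.f230960 IH) (Lpr_dt (K12.f230945 IH) (Lpe (K14.f231226 IH) (Lpe (K9.f41895 IH) (Lpr_gf (K13.f192368 IH) (Lpe (K18.f167502 IH) (Lpr_dt (K19.f167435 IH) (Lpe (f167511 IH) (Lpn (LP (LK LD1_c5 LD2_c5 LD3_c28)))))))))))))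
theorem f325684 : Led Lsl_gt (LP (LK LD1_c8 LD2_c52 LD3_c8)) = (LP (LK LD1_c5 LD2_c5 LD3_c28)) :=
  Lgr Lrot112 (Lpr_df (K21.f299470 IH) (Lpe (K21.f316492 IH) (Lpe (K21.f215515 IH) (Lpe (K22.f215538 IH) (Lpr_dt (f325678 IH) (Lpr_gf (K21.f248399 IH) (Lpe (K9.f178593 IH) (Lpe (K22.f178616 IH) (Lpe (f296083 IH) (Lpr_dt (f296087 IH) (Lpn (LP (LK LD1_c5 LD2_c5 LD3_c28)))))))))))))
theorem f296090 : Led Lsl_df (LP (LK LD1_c8 LD2_c32 LD3_c47)) = (LP (LK LD1_c5 LD2_c5 LD3_c28)) :=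
  Lgr Lrot38 (Lpr_dt (f296087 IH) (Lpn (LP (LK LD1_c5 LD2_c5 LD3_c28))))
theorem f169349 : Led Lsl_df (LP (LK LD1_c4 LD2_c16 LD3_c58)) = (LP (LK LD1_c5 LD2_c16 LD3_c31)) :=
  Lgr Lrot12 (Lpr_bt (K12.f169348 IH) (Lpr_dt (K10.f169345 IH) (Lpr_bt (K19.f165962 IH) (Lpn (LP (LK LD1_c5 LD2_c16 LD3_c31))))))
theorem f44619 : Led Lsl_ft (LP (LK LD1_c4 LD2_c27 LD3_c23)) = (LP (LK LD1_c8 LD2_c52 LD3_c31)) :=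
  Lre_f IH (LK LD1_c4 LD2_c27 LD3_c23) (LK LD1_c8 LD2_c52 LD3_c31) Lrfl Lrfl
theorem f288666 : Led Lsl_df (LP (LK LD1_c10 LD2_c31 LD3_c25)) = (LP (LK LD1_c8 LD2_c52 LD3_c31)) :=
  Lgr Lrot78 (Lpr_ft (K17.f288662 IH) (Lpr_dt (K16.f44609 IH) (Lpr_ft (f44619 IH) (Lpn (LP (LK LD1_c8 LD2_c52 LD3_c31))))))
theorem f325689 : Led Lsl_ef (LP (LK LD1_c8 LD2_c52 LD3_c8)) = (LP (LK LD1_c8 LD2_c52 LD3_c31)) :=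
  Lgr Lrot167 (Lpr_gt (f325684 IH) (Lpe (f296090 IH) (Lpr_gt (f169366 IH) (Lpr_df (f169349 IH) (Lpr_et (K21.f267855 IH) (Lpe (K16.f268069 IH) (Lpe (K15.f230302 IH) (Lpr_dt (K15.f258118 IH) (Lpe (K17.f246154 IH) (Lpr_df (f288666 IH) (Lpn (LP (LK LD1_c8 LD2_c52 LD3_c31)))))))))))))
theorem f288638 : Led Lsl_dt (LP (LK LD1_c5 LD2_c13 LD3_c14)) = (LP (LK LD1_c5 LD2_c23 LD3_c51)) :=
  Lgr Lrot42 (Lpr_df (K17.f288634 IH) (Lpn (LP (LK LD1_c5 LD2_c23 LD3_c51))))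
theorem f288618 : Led Lsl_af (LP (LK LD1_c5 LD2_c13 LD3_c14)) = (LP (LK LD1_c8 LD2_c52 LD3_c31)) :=
  Lgr Lrot45 (Lpr_ft (K17.f288617 IH) (Lpr_at (K17.f288611 IH) (Lpr_ft (f44619 IH) (Lpn (LP (LK LD1_c8 LD2_c52 LD3_c31))))))
theorem f288658 : Led Lsl_dt (LP (LK LD1_c10 LD2_c31 LD3_c25)) = (LP (LK LD1_c8 LD2_c52 LD3_c31)) :=
  Lgr Lrot44 (Lpr_af (K17.f288654 IH) (Lpe (f288638 IH) (Lpr_af (f288618 IH) (Lpn (LP (LK LD1_c8 LD2_c52 LD3_c31))))))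
theorem f325691 : Led Lsl_dt (LP (LK LD1_c8 LD2_c52 LD3_c8)) = (LP (LK LD1_c8 LD2_c34 LD3_c55)) :=
  Lgr Lrot77 (Lpr_ef (f325689 IH) (Lpe (f288658 IH) (Lpe (K17.f215514 IH) (Lpr_df (K19.f215498 IH) (Lpr_ef (K21.f316492 IH) (Lpn (LP (LK LD1_c8 LD2_c34 LD3_c55))))))))
theorem f316414 : Led Lsl_et (LP (LK LD1_c5 LD2_c16 LD3_c30)) = (LP (LK LD1_c8 LD2_c52 LD3_c12)) :=
  Lgr Lrot87 (Lpr_ef (K20.f316410 IH) (Lpn (LP (LK LD1_c8 LD2_c52 LD3_c12))))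
theorem f325697 : Led Lsl_et (LP (LK LD1_c5 LD2_c18 LD3_c35)) = (LP (LK LD1_c5 LD2_c16 LD3_c22)) :=
  Lgr Lrot122 (Lpe (K22.f178585 IH) (Lpr_gt (K22.f178621 IH) (Lpe (K21.f249146 IH) (Lpr_et (K21.f249157 IH) (Lpr_gt (K21.f316498 IH) (Lpr_dt (f325691 IH) (Lpr_gt (K21.f316431 IH) (Lpe (K20.f316418 IH) (Lpr_et (f316414 IH) (Lpe (K20.f247591 IH) (Lpn (LP (LK LD1_c5 LD2_c16 LD3_c22)))))))))))))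
theorem f230927 : Led Lsl_et (LP (LK LD1_c16 LD2_c35 LD3_c5)) = (LP (LK LD1_c8 LD2_c52 LD3_c13)) :=
  Lre_e IH (LK LD1_c16 LD2_c35 LD3_c5) (LK LD1_c8 LD2_c52 LD3_c13) Lrfl Lrfl
theorem f302835 : Led Lsl_ft (LP (LK LD1_c5 LD2_c6 LD3_c14)) = (LP (LK LD1_c8 LD2_c54 LD3_c6)) :=
  Lgr Lrot48 (Lpr_ff (K19.f302829 IH) (Lpn (LP (LK LD1_c8 LD2_c54 LD3_c6))))
theorem f264913 : Led Lsl_gt (LP (LK LD1_c5 LD2_c6 LD3_c14)) = (LP (LK LD1_c10 LD2_c3 LD3_c29)) :=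
  Lre_g IH (LK LD1_c5 LD2_c6 LD3_c14) (LK LD1_c10 LD2_c3 LD3_c29) Lrfl Lrfl
theorem f302827 : Led Lsl_af (LP (LK LD1_c10 LD2_c29 LD3_c38)) = (LP (LK LD1_c8 LD2_c54 LD3_c6)) :=
  Lgr Lrot0 (Lpr_at (K19.f302814 IH) (Lpn (LP (LK LD1_c8 LD2_c54 LD3_c6))))
theorem f302904 : Led Lsl_gt (LP (LK LD1_c10 LD2_c3 LD3_c29)) = (LP (LK LD1_c10 LD2_c29 LD3_c38)) :=
  Lgr Lrot46 (Lpe (f264913 IH) (Lpr_ft (f302835 IH) (Lpe (f302827 IH) (Lpn (LP (LK LD1_c10 LD2_c29 LD3_c38))))))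
theorem f341103 : Led Lsl_dt (LP (LK LD1_c16 LD2_c35 LD3_c5)) = (LP (LK LD1_c10 LD2_c3 LD3_c29)) :=
  Lgr Lrot136 (Lpr_et (f230927 IH) (Lpe (K22.f247580 IH) (Lpe (f325697 IH) (Lpe (K22.f178585 IH) (Lpe (K22.f178616 IH) (Lpe (f296074 IH) (Lpr_gf (f341097 IH) (Lpe (K18.f300488 IH) (Lpr_dt (K21.f249265 IH) (Lpe (f302904 IH) (Lpn (LP (LK LD1_c10 LD2_c3 LD3_c29)))))))))))))
theorem f184632 : Led Lsl_et (LP (LK LD1_c5 LD2_c6 LD3_c7)) = (LP (LK LD1_c2 LD2_c30 LD3_c21)) :=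
  Lre_e IH (LK LD1_c5 LD2_c6 LD3_c7) (LK LD1_c2 LD2_c30 LD3_c21) Lrfl Lrfl
theorem f244148 : Led Lsl_gt (LP (LK LD1_c6 LD2_c4 LD3_c54)) = (LP (LK LD1_c2 LD2_c58 LD3_c38)) :=
  Lre_g IH (LK LD1_c6 LD2_c4 LD3_c54) (LK LD1_c2 LD2_c58 LD3_c38) Lrfl Lrfl
theorem f341112 : Led Lsl_dt (LP (LK LD1_c4 LD2_c27 LD3_c15)) = (LP (LK LD1_c6 LD2_c4 LD3_c54)) :=
  Lgr Lrot171 (Lpe (K22.f230589 IH) (Lpe (f230927 IH) (Lpr_dt (f341103 IH) (Lpe (f264913 IH) (Lpe (K21.f255884 IH) (Lpr_et (K21.f255883 IH) (Lpe (K15.f169597 IH) (Lpe (f184632 IH) (Lpe (K21.f320939 IH) (Lpe (f244148 IH) (Lpn (LP (LK LD1_c6 LD2_c4 LD3_c54)))))))))))))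
theorem f183902 : Led Lsl_et (LP (LK LD1_c1 LD2_c13 LD3_c39)) = (LP (LK LD1_c2 LD2_c33 LD3_c27)) :=
  Lre_e IH (LK LD1_c1 LD2_c13 LD3_c39) (LK LD1_c2 LD2_c33 LD3_c27) Lrfl Lrfl
theorem f274418 : Led Lsl_ft (LP (LK LD1_c10 LD2_c14 LD3_c47)) = (LP (LK LD1_c5 LD2_c11 LD3_c60)) :=
  Lre_f IH (LK LD1_c10 LD2_c14 LD3_c47) (LK LD1_c5 LD2_c11 LD3_c60) Lrfl Lrfl
theorem f274420 : Led Lsl_df (LP (LK LD1_c10 LD2_c14 LD3_c47)) = (LP (LK LD1_c11 LD2_c52 LD3_c19)) :=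
  Lgr Lrot78 (Lpr_ft (f274418 IH) (Lpr_dt (K20.f274415 IH) (Lpr_ft (K22.f274419 IH) (Lpn (LP (LK LD1_c11 LD2_c52 LD3_c19))))))
theorem f42220 : Led Lsl_dt (LP (LK LD1_c5 LD2_c20 LD3_c54)) = (LP (LK LD1_c6 LD2_c4 LD3_c44)) :=
  Lgr Lrot42 (Lpr_df (K20.f42192 IH) (Lpn (LP (LK LD1_c6 LD2_c4 LD3_c44))))
theorem f318328 : Led Lsl_ft (LP (LK LD1_c2 LD2_c38 LD3_c47)) = (LP (LK LD1_c1 LD2_c16 LD3_c15)) :=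
  Lre_f IH (LK LD1_c2 LD2_c38 LD3_c47) (LK LD1_c1 LD2_c16 LD3_c15) Lrfl Lrfl
theorem f330446 : Led Lsl_dt (LP (LK LD1_c5 LD2_c13 LD3_c12)) = (LP (LK LD1_c2 LD2_c38 LD3_c47)) :=
  Lgr Lrot60 (Lpr_ff (K21.f330439 IH) (Lpe (K17.f41476 IH) (Lpe (f318328 IH) (Lpn (LP (LK LD1_c2 LD2_c38 LD3_c47))))))
theorem f335376 : Led Lsl_et (LP (LK LD1_c10 LD2_c14 LD3_c47)) = (LP (LK LD1_c5 LD2_c13 LD3_c12)) :=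
  Lgr Lrot71 (Lpr_df (f274420 IH) (Lpr_ef (K22.f335374 IH) (Lpe (f42220 IH) (Lpr_ef (K20.f318326 IH) (Lpe (f330446 IH) (Lpn (LP (LK LD1_c5 LD2_c13 LD3_c12))))))))
theorem f274425 : Led Lsl_dt (LP (LK LD1_c10 LD2_c14 LD3_c47)) = (LP (LK LD1_c11 LD2_c52 LD3_c19)) :=
  Lgr Lrot42 (Lpr_df (f274420 IH) (Lpn (LP (LK LD1_c11 LD2_c52 LD3_c19))))
theorem f341131 : Led Lsl_gt (LP (LK LD1_c11 LD2_c52 LD3_c19)) = (LP (LK LD1_c6 LD2_c4 LD3_c54)) :=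
  Lgr Lrot112 (Lpe (f274425 IH) (Lpr_et (f335376 IH) (Lpe (K21.f183903 IH) (Lpe (f183902 IH) (Lpr_dt (K15.f171668 IH) (Lpe (K9.f183889 IH) (Lpe (K1.f46079 IH) (Lpe (K12.f230660 IH) (Lpe (K14.f44079 IH) (Lpr_dt (f341112 IH) (Lpn (LP (LK LD1_c6 LD2_c4 LD3_c54)))))))))))))
theorem f288656 : Led Lsl_at (LP (LK LD1_c10 LD2_c31 LD3_c25)) = (LP (LK LD1_c5 LD2_c23 LD3_c51)) :=
  Lgr Lrot100 (Lpr_af (K17.f288654 IH) (Lpn (LP (LK LD1_c5 LD2_c23 LD3_c51))))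
theorem f288674 : Led Lsl_at (LP (LK LD1_c5 LD2_c13 LD3_c14)) = (LP (LK LD1_c8 LD2_c52 LD3_c31)) :=
  Lgr Lrot51 (Lpr_df (K17.f288634 IH) (Lpe (f288656 IH) (Lpr_df (f288666 IH) (Lpn (LP (LK LD1_c8 LD2_c52 LD3_c31))))))
theorem f288676 : Led Lsl_ft (LP (LK LD1_c2 LD2_c33 LD3_c27)) = (LP (LK LD1_c5 LD2_c13 LD3_c14)) :=
  Lre_f IH (LK LD1_c2 LD2_c33 LD3_c27) (LK LD1_c5 LD2_c13 LD3_c14) Lrfl Lrfl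
theorem f288677 : Led Lsl_gt (LP (LK LD1_c5 LD2_c13 LD3_c12)) = (LP (LK LD1_c8 LD2_c52 LD3_c31)) :=
  Lgr Lrot46 (Lpe (K21.f183903 IH) (Lpr_ft (f288676 IH) (Lpr_at (f288674 IH) (Lpn (LP (LK LD1_c8 LD2_c52 LD3_c31))))))
theorem f330461 : Led Lsl_gt (LP (LK LD1_c2 LD2_c38 LD3_c55)) = (LP (LK LD1_c5 LD2_c20 LD3_c54)) :=
  Lgr Lrot131 (Lpe (K20.f258257 IH) (Lpr_dt (K20.f258258 IH) (Lpr_gf (K22.f300882 IH) (Lpe (K21.f300888 IH) (Lpr_gf (K18.f303009 IH) (Lpe (K17.f215500 IH) (Lpr_dt (f288658 IH) (Lpe (f288677 IH) (Lpr_df (K21.f330454 IH) (Lpe (K20.f318326 IH) (Lpn (LP (LK LD1_c5 LD2_c20 LD3_c54)))))))))))))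
theorem f341119 : Led Lsl_df (LP (LK LD1_c4 LD2_c27 LD3_c15)) = (LP (LK LD1_c6 LD2_c4 LD3_c54)) :=
  Lgr Lrot38 (Lpr_dt (f341112 IH) (Lpn (LP (LK LD1_c6 LD2_c4 LD3_c54))))
theorem f316405 : Led Lsl_ef (LP (LK LD1_c16 LD2_c5 LD3_c10)) = (LP (LK LD1_c16 LD2_c35 LD3_c3)) :=
  Lgr Lrot88 (Lpr_et (K20.f316400 IH) (Lpn (LP (LK LD1_c16 LD2_c35 LD3_c3))))
theorem f341141 : Led Lsl_gf (LP (LK LD1_c8 LD2_c54 LD3_c46)) = (LP (LK LD1_c16 LD2_c5 LD3_c10)) :=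
  Lgr Lrot141 (Lpe (K22.f322697 IH) (Lpe (K22.f322695 IH) (Lpr_gt (f330461 IH) (Lpr_df (K20.f42192 IH) (Lpe (K22.f335374 IH) (Lpr_gt (f341131 IH) (Lpe (f341119 IH) (Lpr_gt (K20.f230580 IH) (Lpe (K20.f247594 IH) (Lpe (f316405 IH) (Lpn (LP (LK LD1_c16 LD2_c5 LD3_c10)))))))))))))
theorem f301154 : Led Lsl_bt (LP (LK LD1_c5 LD2_c30 LD3_c54)) = (LP (LK LD1_c2 LD2_c41 LD3_c42)) :=
  Lre_b IH (LK LD1_c5 LD2_c30 LD3_c54) (LK LD1_c2 LD2_c41 LD3_c42) Lrfl Lrfl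
theorem f335678 : Led Lsl_bf (LP (LK LD1_c8 LD2_c54 LD3_c46)) = (LP (LK LD1_c4 LD2_c30 LD3_c1)) :=
  Lgr Lrot93 (Lpr_dt (K22.f335676 IH) (Lpr_bt (f301154 IH) (Lpe (K22.f333732 IH) (Lpn (LP (LK LD1_c4 LD2_c30 LD3_c1))))))
theorem f321624 : Led Lsl_bf (LP (LK LD1_c16 LD2_c5 LD3_c10)) = (LP (LK LD1_c15 LD2_c37 LD3_c47)) :=
  Lgr Lrot93 (Lpr_dt (K20.f284197 IH) (Lpr_bt (K20.f321620 IH) (Lpr_dt (K19.f238557 IH) (Lpn (LP (LK LD1_c15 LD2_c37 LD3_c47))))))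
theorem f238559 : Led Lsl_ct (LP (LK LD1_c15 LD2_c37 LD3_c47)) = (LP (LK LD1_c25 LD2_c32 LD3_c49)) :=
  Lre_c IH (LK LD1_c15 LD2_c37 LD3_c47) (LK LD1_c25 LD2_c32 LD3_c49) Lrfl Lrfl
theorem f332864 : Led Lsl_et (LP (LK LD1_c8 LD2_c4 LD3_c1)) = (LP (LK LD1_c15 LD2_c11 LD3_c12)) :=
  Lre_e IH (LK LD1_c8 LD2_c4 LD3_c1) (LK LD1_c15 LD2_c11 LD3_c12) Lrfl Lrfl
theorem f33373 : Led Lsl_et (LP (LK LD1_c4 LD2_c51 LD3_c16)) = (LP (LK LD1_c2 LD2_c23 LD3_c27)) :=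
  Lre_e IH (LK LD1_c4 LD2_c51 LD3_c16) (LK LD1_c2 LD2_c23 LD3_c27) Lrfl Lrfl
theorem f332867 : Led Lsl_gt (LP (LK LD1_c15 LD2_c11 LD3_c12)) = (LP (LK LD1_c9 LD2_c54 LD3_c50)) :=
  Lgr Lrot137 (Lpe (f332864 IH) (Lpr_dt (K22.f332858 IH) (Lpe (K22.f2450 IH) (Lpe (K22.f33374 IH) (Lpr_et (f33373 IH) (Lpr_gf (K10.f33356 IH) (Lpe (K19.f21974 IH) (Lpe (K0.f33918 IH) (Lpe (K22.f33929 IH) (Lpe (K22.f33930 IH) (Lpn (LP (LK LD1_c9 LD2_c54 LD3_c50)))))))))))))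
theorem f332848 : Led Lsl_ct (LP (LK LD1_c15 LD2_c11 LD3_c12)) = (LP (LK LD1_c25 LD2_c0 LD3_c17)) :=
  Lre_c IH (LK LD1_c15 LD2_c11 LD3_c12) (LK LD1_c25 LD2_c0 LD3_c17) Lrfl Lrfl
theorem f193302 : Led Lsl_et (LP (LK LD1_c16 LD2_c19 LD3_c18)) = (LP (LK LD1_c8 LD2_c42 LD3_c46)) :=
  Lre_e IH (LK LD1_c16 LD2_c19 LD3_c18) (LK LD1_c8 LD2_c42 LD3_c46) Lrfl Lrfl
theorem f33931 : Led Lsl_dt (LP (LK LD1_c5 LD2_c2 LD3_c2)) = (LP (LK LD1_c9 LD2_c54 LD3_c48)) :=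
  Lre_d IH (LK LD1_c5 LD2_c2 LD3_c2) (LK LD1_c9 LD2_c54 LD3_c48) Lrfl Lrfl
theorem f332860 : Led Lsl_gf (LP (LK LD1_c15 LD2_c11 LD3_c12)) = (LP (LK LD1_c9 LD2_c54 LD3_c48)) :=
  Lgr Lrot134 (Lpr_df (K22.f332854 IH) (Lpr_et (f193302 IH) (Lpr_gt (K22.f193289 IH) (Lpr_ef (K13.f238235 IH) (Lpr_dt (K13.f3336 IH) (Lpr_gt (K10.f3335 IH) (Lpe (K0.f3310 IH) (Lpr_et (K13.f21852 IH) (Lpr_gt (K13.f21965 IH) (Lpr_dt (f33931 IH) (Lpn (LP (LK LD1_c9 LD2_c54 LD3_c48)))))))))))))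
theorem f330569 : Led Lsl_cf (LP (LK LD1_c8 LD2_c5 LD3_c61)) = (LP (LK LD1_c9 LD2_c54 LD3_c44)) :=
  Lgr Lrot11 (Lpr_ct (K21.f330564 IH) (Lpn (LP (LK LD1_c9 LD2_c54 LD3_c44))))
theorem f228963 : Led Lsl_ct (LP (LK LD1_c25 LD2_c4 LD3_c2)) = (LP (LK LD1_c15 LD2_c14 LD3_c60)) :=
  Lre_c IH (LK LD1_c25 LD2_c4 LD3_c2) (LK LD1_c15 LD2_c14 LD3_c60) Lrfl Lrfl
theorem f332862 : Led Lsl_gt (LP (LK LD1_c25 LD2_c0 LD3_c17)) = (LP (LK LD1_c25 LD2_c4 LD3_c2)) :=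
  Lgr Lrot150 (Lpe (f332848 IH) (Lpr_gf (f332860 IH) (Lpe (f33931 IH) (Lpe (K13.f33939 IH) (Lpr_ct (K0.f33619 IH) (Lpr_gt (K21.f33878 IH) (Lpe (f330569 IH) (Lpe (K21.f228965 IH) (Lpe (f228963 IH) (Lpn (LP (LK LD1_c25 LD2_c4 LD3_c2))))))))))))
theorem f33909 : Led Lsl_gt (LP (LK LD1_c18 LD2_c8 LD3_c44)) = (LP (LK LD1_c9 LD2_c54 LD3_c45)) :=
  Lre_g IH (LK LD1_c18 LD2_c8 LD3_c44) (LK LD1_c9 LD2_c54 LD3_c45) Lrfl Lrfl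
theorem f332869 : Led Lsl_dt (LP (LK LD1_c25 LD2_c4 LD3_c2)) = (LP (LK LD1_c18 LD2_c8 LD3_c44)) :=
  Lgr Lrot57 (Lpe (f332862 IH) (Lpe (f332848 IH) (Lpr_gt (f332867 IH) (Lpr_dt (K22.f33930 IH) (Lpr_gt (K22.f33929 IH) (Lpe (K0.f33918 IH) (Lpe (K0.f21757 IH) (Lpe (K0.f21782 IH) (Lpe (f33909 IH) (Lpn (LP (LK LD1_c18 LD2_c8 LD3_c44))))))))))))
theorem f266019 : Led Lsl_et (LP (LK LD1_c5 LD2_c1 LD3_c3)) = (LP (LK LD1_c9 LD2_c52 LD3_c32)) :=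
  Lre_e IH (LK LD1_c5 LD2_c1 LD3_c3) (LK LD1_c9 LD2_c52 LD3_c32) Lrfl Lrfl
theorem f252731 : Led Lsl_gt (LP (LK LD1_c9 LD2_c52 LD3_c32)) = (LP (LK LD1_c18 LD2_c4 LD3_c37)) :=
  Lre_g IH (LK LD1_c9 LD2_c52 LD3_c32) (LK LD1_c18 LD2_c4 LD3_c37) Lrfl Lrfl
theorem f332874 : Led Lsl_et (LP (LK LD1_c25 LD2_c4 LD3_c2)) = (LP (LK LD1_c18 LD2_c4 LD3_c37)) :=
  Lgr Lrot122 (Lpr_dt (f332869 IH) (Lpr_gt (f33909 IH) (Lpe (K0.f21759 IH) (Lpr_et (K10.f21741 IH) (Lpr_gt (K10.f3391 IH) (Lpr_dt (K15.f3392 IH) (Lpr_gt (K15.f266014 IH) (Lpe (K15.f3751 IH) (Lpr_et (f266019 IH) (Lpr_gt (f252731 IH) (Lpn (LP (LK LD1_c18 LD2_c4 LD3_c37)))))))))))))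
theorem f45835 : Led Lsl_ct (LP (LK LD1_c15 LD2_c14 LD3_c60)) = (LP (LK LD1_c25 LD2_c4 LD3_c2)) :=
  Lre_c IH (LK LD1_c15 LD2_c14 LD3_c60) (LK LD1_c25 LD2_c4 LD3_c2) Lrfl Lrfl
theorem f332876 : Led Lsl_cf (LP (LK LD1_c15 LD2_c16 LD3_c33)) = (LP (LK LD1_c18 LD2_c4 LD3_c37)) :=
  Lgr Lrot39 (Lpe (K21.f243994 IH) (Lpr_ct (f45835 IH) (Lpr_et (f332874 IH) (Lpn (LP (LK LD1_c18 LD2_c4 LD3_c37))))))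
theorem f332893 : Led Lsl_gf (LP (LK LD1_c15 LD2_c19 LD3_c48)) = (LP (LK LD1_c15 LD2_c21 LD3_c47)) :=
  Lgr Lrot104 (Lpr_ct (K18.f243990 IH) (Lpr_df (K18.f243992 IH) (Lpr_cf (f332876 IH) (Lpe (f252731 IH) (Lpe (K21.f252734 IH) (Lpe (K22.f263284 IH) (Lpr_df (K22.f274712 IH) (Lpr_gt (K22.f332802 IH) (Lpe (K22.f312232 IH) (Lpn (LP (LK LD1_c15 LD2_c21 LD3_c47))))))))))))
theorem f296419 : Led Lsl_ct (LP (LK LD1_c15 LD2_c14 LD3_c41)) = (LP (LK LD1_c25 LD2_c3 LD3_c48)) :=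
  Lre_c IH (LK LD1_c15 LD2_c14 LD3_c41) (LK LD1_c25 LD2_c3 LD3_c48) Lrfl Lrfl
theorem f243669 : Led Lsl_gt (LP (LK LD1_c11 LD2_c8 LD3_c45)) = (LP (LK LD1_c20 LD2_c2 LD3_c24)) :=
  Lre_g IH (LK LD1_c11 LD2_c8 LD3_c45) (LK LD1_c20 LD2_c2 LD3_c24) Lrfl Lrfl
theorem f244178 : Led Lsl_ct (LP (LK LD1_c20 LD2_c2 LD3_c24)) = (LP (LK LD1_c29 LD2_c15 LD3_c46)) :=
  Lre_c IH (LK LD1_c20 LD2_c2 LD3_c24) (LK LD1_c29 LD2_c15 LD3_c46) Lrfl Lrfl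
theorem f296373 : Led Lsl_gt (LP (LK LD1_c29 LD2_c15 LD3_c46)) = (LP (LK LD1_c29 LD2_c16 LD3_c23)) :=
  Lgr Lrot150 (Lpe (f244178 IH) (Lpe (f243669 IH) (Lpe (K17.f201001 IH) (Lpr_gt (K16.f243728 IH) (Lpe (K19.f244116 IH) (Lpr_gt (K19.f296359 IH) (Lpe (K18.f244295 IH) (Lpe (K18.f244307 IH) (Lpe (K18.f244308 IH) (Lpn (LP (LK LD1_c29 LD2_c16 LD3_c23))))))))))))
theorem f296483 : Led Lsl_gt (LP (LK LD1_c25 LD2_c8 LD3_c44)) = (LP (LK LD1_c29 LD2_c15 LD3_c46)) :=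
  Lgr Lrot5 (Lpr_ft (K19.f296479 IH) (Lpe (K19.f260103 IH) (Lpe (f296373 IH) (Lpn (LP (LK LD1_c29 LD2_c15 LD3_c46))))))
theorem f296375 : Led Lsl_ct (LP (LK LD1_c29 LD2_c15 LD3_c46)) = (LP (LK LD1_c20 LD2_c2 LD3_c24)) :=
  Lre_c IH (LK LD1_c29 LD2_c15 LD3_c46) (LK LD1_c20 LD2_c2 LD3_c24) Lrfl Lrfl
theorem f332895 : Led Lsl_dt (LP (LK LD1_c25 LD2_c3 LD3_c48)) = (LP (LK LD1_c20 LD2_c2 LD3_c24)) :=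
  Lgr Lrot27 (Lpe (f296419 IH) (Lpe (K21.f311314 IH) (Lpe (K18.f243990 IH) (Lpr_gf (f332893 IH) (Lpr_df (K22.f226797 IH) (Lpr_gt (K22.f220316 IH) (Lpr_ct (K19.f226805 IH) (Lpr_gt (f296483 IH) (Lpr_ct (f296375 IH) (Lpn (LP (LK LD1_c20 LD2_c2 LD3_c24))))))))))))
theorem f238558 : Led Lsl_ct (LP (LK LD1_c25 LD2_c32 LD3_c49)) = (LP (LK LD1_c15 LD2_c37 LD3_c47)) :=
  Lre_c IH (LK LD1_c25 LD2_c32 LD3_c49) (LK LD1_c15 LD2_c37 LD3_c47) Lrfl Lrfl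
theorem f305618 : Led Lsl_ef (LP (LK LD1_c25 LD2_c32 LD3_c49)) = (LP (LK LD1_c25 LD2_c3 LD3_c48)) :=
  Lgr Lrot28 (Lpr_ct (f238558 IH) (Lpr_et (K19.f305616 IH) (Lpr_ct (f296419 IH) (Lpn (LP (LK LD1_c25 LD2_c3 LD3_c48))))))
theorem f243732 : Led Lsl_dt (LP (LK LD1_c11 LD2_c8 LD3_c44)) = (LP (LK LD1_c20 LD2_c2 LD3_c22)) :=
  Lre_d IH (LK LD1_c11 LD2_c8 LD3_c44) (LK LD1_c20 LD2_c2 LD3_c22) Lrfl Lrfl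
theorem f327285 : Led Lsl_gf (LP (LK LD1_c25 LD2_c14 LD3_c14)) = (LP (LK LD1_c20 LD2_c2 LD3_c24)) :=
  Lgr Lrot144 (Lpr_dt (K18.f286731 IH) (Lpr_gt (K21.f320979 IH) (Lpr_dt (f243732 IH) (Lpe (K21.f320976 IH) (Lpr_df (K21.f327276 IH) (Lpe (K21.f327256 IH) (Lpr_df (K19.f296489 IH) (Lpe (f296373 IH) (Lpe (f244178 IH) (Lpn (LP (LK LD1_c20 LD2_c2 LD3_c24))))))))))))
theorem f296388 : Led Lsl_dt (LP (LK LD1_c15 LD2_c22 LD3_c15)) = (LP (LK LD1_c25 LD2_c13 LD3_c60)) :=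
  Lre_d IH (LK LD1_c15 LD2_c22 LD3_c15) (LK LD1_c25 LD2_c13 LD3_c60) Lrfl Lrfl
theorem f227036 : Led Lsl_ef (LP (LK LD1_c20 LD2_c3 LD3_c60)) = (LP (LK LD1_c15 LD2_c16 LD3_c40)) :=
  Lgr Lrot88 (Lpr_et (K18.f227028 IH) (Lpn (LP (LK LD1_c15 LD2_c16 LD3_c40))))
theorem f200472 : Led Lsl_ct (LP (LK LD1_c20 LD2_c3 LD3_c60)) = (LP (LK LD1_c11 LD2_c9 LD3_c34)) :=
  Lre_c IH (LK LD1_c20 LD2_c3 LD3_c60) (LK LD1_c11 LD2_c9 LD3_c34) Lrfl Lrfl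
theorem f227041 : Led Lsl_ct (LP (LK LD1_c8 LD2_c27 LD3_c27)) = (LP (LK LD1_c15 LD2_c16 LD3_c40)) :=
  Lgr Lrot15 (Lpe (K13.f200470 IH) (Lpe (f200472 IH) (Lpr_ef (f227036 IH) (Lpn (LP (LK LD1_c15 LD2_c16 LD3_c40))))))
theorem f227043 : Led Lsl_dt (LP (LK LD1_c25 LD2_c6 LD3_c42)) = (LP (LK LD1_c15 LD2_c16 LD3_c40)) :=
  Lre_d IH (LK LD1_c25 LD2_c6 LD3_c42) (LK LD1_c15 LD2_c16 LD3_c40) Lrfl Lrfl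
theorem f328096 : Led Lsl_gf (LP (LK LD1_c25 LD2_c6 LD3_c42)) = (LP (LK LD1_c25 LD2_c13 LD3_c60)) :=
  Lgr Lrot143 (Lpr_dt (f227043 IH) (Lpe (f227041 IH) (Lpr_df (K21.f315399 IH) (Lpe (K21.f328090 IH) (Lpe (K22.f247216 IH) (Lpr_gf (K22.f328094 IH) (Lpe (K18.f200502 IH) (Lpr_gt (K18.f299045 IH) (Lpr_dt (f296388 IH) (Lpn (LP (LK LD1_c25 LD2_c13 LD3_c60))))))))))))
theorem f227035 : Led Lsl_dt (LP (LK LD1_c15 LD2_c16 LD3_c40)) = (LP (LK LD1_c25 LD2_c6 LD3_c42)) :=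
  Lre_d IH (LK LD1_c15 LD2_c16 LD3_c40) (LK LD1_c25 LD2_c6 LD3_c42) Lrfl Lrfl
theorem f332899 : Led Lsl_gf (LP (LK LD1_c25 LD2_c32 LD3_c49)) = (LP (LK LD1_c20 LD2_c3 LD3_c60)) :=
  Lgr Lrot141 (Lpr_ef (f305618 IH) (Lpr_dt (f332895 IH) (Lpe (f327285 IH) (Lpe (K19.f286737 IH) (Lpe (K18.f286725 IH) (Lpr_gt (K18.f299045 IH) (Lpr_dt (f296388 IH) (Lpe (f328096 IH) (Lpe (f227035 IH) (Lpe (f227036 IH) (Lpn (LP (LK LD1_c20 LD2_c3 LD3_c60)))))))))))))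
theorem f309923 : Led Lsl_bt (LP (LK LD1_c8 LD2_c10 LD3_c11)) = (LP (LK LD1_c4 LD2_c4 LD3_c41)) :=
  Lre_b IH (LK LD1_c8 LD2_c10 LD3_c11) (LK LD1_c4 LD2_c4 LD3_c41) Lrfl Lrfl
theorem f326560 : Led Lsl_gf (LP (LK LD1_c2 LD2_c45 LD3_c36)) = (LP (LK LD1_c4 LD2_c4 LD3_c41)) :=
  Lgr Lrot124 (Lpe (K21.f314833 IH) (Lpr_ct (K21.f326493 IH) (Lpr_gt (K21.f326555 IH) (Lpe (K18.f167683 IH) (Lpr_bt (K16.f195721 IH) (Lpr_gt (K16.f258401 IH) (Lpr_ct (K20.f169177 IH) (Lpr_gt (K20.f169212 IH) (Lpr_cf (K21.f309926 IH) (Lpr_bt (f309923 IH) (Lpn (LP (LK LD1_c4 LD2_c4 LD3_c41)))))))))))))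
theorem f291042 : Led Lsl_dt (LP (LK LD1_c8 LD2_c10 LD3_c13)) = (LP (LK LD1_c4 LD2_c4 LD3_c41)) :=
  Lre_d IH (LK LD1_c8 LD2_c10 LD3_c13) (LK LD1_c4 LD2_c4 LD3_c41) Lrfl Lrfl
theorem f327987 : Led Lsl_gf (LP (LK LD1_c8 LD2_c10 LD3_c13)) = (LP (LK LD1_c4 LD2_c51 LD3_c36)) :=
  Lgr Lrot138 (Lpr_dt (f291042 IH) (Lpe (f326560 IH) (Lpe (K19.f314838 IH) (Lpr_et (K21.f326477 IH) (Lpr_gt (K21.f305011 IH) (Lpe (K21.f327967 IH) (Lpr_dt (K21.f327978 IH) (Lpr_gt (K21.f327983 IH) (Lpr_df (K21.f327510 IH) (Lpr_et (K22.f327512 IH) (Lpn (LP (LK LD1_c4 LD2_c51 LD3_c36)))))))))))))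
theorem f224901 : Led Lsl_ft (LP (LK LD1_c2 LD2_c23 LD3_c39)) = (LP (LK LD1_c4 LD2_c51 LD3_c38)) :=
  Lre_f IH (LK LD1_c2 LD2_c23 LD3_c39) (LK LD1_c4 LD2_c51 LD3_c38) Lrfl Lrfl
theorem f327989 : Led Lsl_af (LP (LK LD1_c8 LD2_c10 LD3_c13)) = (LP (LK LD1_c4 LD2_c51 LD3_c38)) :=
  Lgr Lrot31 (Lpr_gf (f327987 IH) (Lpe (K22.f171064 IH) (Lpr_ft (f224901 IH) (Lpn (LP (LK LD1_c4 LD2_c51 LD3_c38))))))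
theorem f291041 : Led Lsl_ct (LP (LK LD1_c8 LD2_c10 LD3_c13)) = (LP (LK LD1_c15 LD2_c23 LD3_c15)) :=
  Lre_c IH (LK LD1_c8 LD2_c10 LD3_c13) (LK LD1_c15 LD2_c23 LD3_c15) Lrfl Lrfl
theorem f327995 : Led Lsl_ct (LP (LK LD1_c9 LD2_c35 LD3_c19)) = (LP (LK LD1_c4 LD2_c51 LD3_c38)) :=
  Lre_c IH (LK LD1_c9 LD2_c35 LD3_c19) (LK LD1_c4 LD2_c51 LD3_c38) Lrfl Lrfl
theorem f327996 : Led Lsl_at (LP (LK LD1_c15 LD2_c23 LD3_c15)) = (LP (LK LD1_c9 LD2_c35 LD3_c19)) :=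
  Lgr Lrot107 (Lpe (f291041 IH) (Lpr_af (f327989 IH) (Lpe (f327995 IH) (Lpn (LP (LK LD1_c9 LD2_c35 LD3_c19))))))
theorem f327998 : Led Lsl_af (LP (LK LD1_c15 LD2_c23 LD3_c15)) = (LP (LK LD1_c9 LD2_c35 LD3_c19)) :=
  Lgr Lrot0 (Lpr_at (f327996 IH) (Lpn (LP (LK LD1_c9 LD2_c35 LD3_c19))))
theorem f328019 : Led Lsl_ft (LP (LK LD1_c4 LD2_c51 LD3_c35)) = (LP (LK LD1_c9 LD2_c35 LD3_c19)) :=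
  Lre_f IH (LK LD1_c4 LD2_c51 LD3_c35) (LK LD1_c9 LD2_c35 LD3_c19) Lrfl Lrfl
theorem f171095 : Led Lsl_gt (LP (LK LD1_c4 LD2_c51 LD3_c35)) = (LP (LK LD1_c9 LD2_c35 LD3_c16)) :=
  Lre_g IH (LK LD1_c4 LD2_c51 LD3_c35) (LK LD1_c9 LD2_c35 LD3_c16) Lrfl Lrfl
theorem f328020 : Led Lsl_gf (LP (LK LD1_c15 LD2_c23 LD3_c15)) = (LP (LK LD1_c9 LD2_c35 LD3_c16)) :=
  Lgr Lrot76 (Lpr_af (f327998 IH) (Lpe (f328019 IH) (Lpr_gt (f171095 IH) (Lpn (LP (LK LD1_c9 LD2_c35 LD3_c16))))))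
theorem f291040 : Led Lsl_ct (LP (LK LD1_c15 LD2_c23 LD3_c15)) = (LP (LK LD1_c8 LD2_c10 LD3_c13)) :=
  Lre_c IH (LK LD1_c15 LD2_c23 LD3_c15) (LK LD1_c8 LD2_c10 LD3_c13) Lrfl Lrfl
theorem f291157 : Led Lsl_ct (LP (LK LD1_c8 LD2_c10 LD3_c12)) = (LP (LK LD1_c4 LD2_c4 LD3_c41)) :=
  Lre_c IH (LK LD1_c8 LD2_c10 LD3_c12) (LK LD1_c4 LD2_c4 LD3_c41) Lrfl Lrfl
theorem f256647 : Led Lsl_at (LP (LK LD1_c9 LD2_c37 LD3_c37)) = (LP (LK LD1_c8 LD2_c7 LD3_c35)) :=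
  Lgr Lrot100 (Lpr_af (K15.f256637 IH) (Lpn (LP (LK LD1_c8 LD2_c7 LD3_c35))))
theorem f256690 : Led Lsl_ef (LP (LK LD1_c8 LD2_c36 LD3_c52)) = (LP (LK LD1_c8 LD2_c7 LD3_c35)) :=
  Lgr Lrot21 (Lpr_ft (K19.f256689 IH) (Lpr_et (K19.f200718 IH) (Lpr_ft (K15.f256681 IH) (Lpr_et (K17.f200883 IH) (Lpr_ft (K15.f256653 IH) (Lpn (LP (LK LD1_c8 LD2_c7 LD3_c35))))))))
theorem f256739 : Led Lsl_at (LP (LK LD1_c8 LD2_c36 LD3_c52)) = (LP (LK LD1_c8 LD2_c7 LD3_c61)) :=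
  Lgr Lrot80 (Lpr_ef (f256690 IH) (Lpe (f256647 IH) (Lpr_ef (K15.f256737 IH) (Lpn (LP (LK LD1_c8 LD2_c7 LD3_c61))))))
theorem f256700 : Led Lsl_ft (LP (LK LD1_c4 LD2_c19 LD3_c12)) = (LP (LK LD1_c8 LD2_c36 LD3_c52)) :=
  Lre_f IH (LK LD1_c4 LD2_c19 LD3_c12) (LK LD1_c8 LD2_c36 LD3_c52) Lrfl Lrfl
theorem f325979 : Led Lsl_gf (LP (LK LD1_c8 LD2_c10 LD3_c12)) = (LP (LK LD1_c4 LD2_c19 LD3_c12)) :=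
  Lgr Lrot47 (Lpr_gt (K21.f325950 IH) (Lpe (f256739 IH) (Lpe (f256700 IH) (Lpn (LP (LK LD1_c4 LD2_c19 LD3_c12))))))
theorem f328038 : Led Lsl_ct (LP (LK LD1_c8 LD2_c18 LD3_c35)) = (LP (LK LD1_c9 LD2_c35 LD3_c16)) :=
  Lgr Lrot152 (Lpe (K19.f238554 IH) (Lpe (K15.f238549 IH) (Lpr_gt (K15.f228078 IH) (Lpr_ct (K21.f228322 IH) (Lpe (f325979 IH) (Lpr_ct (f291157 IH) (Lpe (f291042 IH) (Lpe (f291040 IH) (Lpr_gf (f328020 IH) (Lpn (LP (LK LD1_c9 LD2_c35 LD3_c16))))))))))))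
theorem f328040 : Led Lsl_cf (LP (LK LD1_c8 LD2_c18 LD3_c35)) = (LP (LK LD1_c9 LD2_c35 LD3_c16)) :=
  Lgr Lrot11 (Lpr_ct (f328038 IH) (Lpn (LP (LK LD1_c9 LD2_c35 LD3_c16))))
theorem f171056 : Led Lsl_ct (LP (LK LD1_c2 LD2_c23 LD3_c39)) = (LP (LK LD1_c4 LD2_c51 LD3_c35)) :=
  Lre_c IH (LK LD1_c2 LD2_c23 LD3_c39) (LK LD1_c4 LD2_c51 LD3_c35) Lrfl Lrfl
theorem f332903 : Led Lsl_gt (LP (LK LD1_c8 LD2_c28 LD3_c39)) = (LP (LK LD1_c11 LD2_c9 LD3_c34)) :=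
  Lgr Lrot9 (Lpe (K19.f291028 IH) (Lpr_gt (K19.f171080 IH) (Lpr_ct (f171056 IH) (Lpr_gt (f171095 IH) (Lpe (f328040 IH) (Lpe (K19.f238564 IH) (Lpe (f238558 IH) (Lpr_gf (f332899 IH) (Lpe (K18.f179744 IH) (Lpn (LP (LK LD1_c11 LD2_c9 LD3_c34))))))))))))
theorem f309896 : Led Lsl_bt (LP (LK LD1_c4 LD2_c52 LD3_c17)) = (LP (LK LD1_c8 LD2_c28 LD3_c39)) :=
  Lgr Lrot127 (Lpr_bf (K19.f309894 IH) (Lpn (LP (LK LD1_c8 LD2_c28 LD3_c39))))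
theorem f341469 : Led Lsl_cf (LP (LK LD1_c5 LD2_c34 LD3_c56)) = (LP (LK LD1_c4 LD2_c52 LD3_c17)) :=
  Lgr Lrot58 (Lpr_gf (K21.f310333 IH) (Lpe (K21.f276178 IH) (Lpe (f335678 IH) (Lpr_gf (f341141 IH) (Lpr_bf (f321624 IH) (Lpr_ct (f238559 IH) (Lpr_gf (f332899 IH) (Lpe (K18.f179744 IH) (Lpe (f332903 IH) (Lpe (f309896 IH) (Lpn (LP (LK LD1_c4 LD2_c52 LD3_c17)))))))))))))
theorem f341471 : Led Lsl_bt (LP (LK LD1_c5 LD2_c34 LD3_c56)) = (LP (LK LD1_c11 LD2_c2 LD3_c8)) :=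
  Lre_b IH (LK LD1_c5 LD2_c34 LD3_c56) (LK LD1_c11 LD2_c2 LD3_c8) Lrfl Lrfl
theorem f310345 : Led Lsl_ct (LP (LK LD1_c11 LD2_c2 LD3_c8)) = (LP (LK LD1_c19 LD2_c53 LD3_c22)) :=
  Lre_c IH (LK LD1_c11 LD2_c2 LD3_c8) (LK LD1_c19 LD2_c53 LD3_c22) Lrfl Lrfl
theorem f339102 : Led Lsl_et (LP (LK LD1_c8 LD2_c9 LD3_c23)) = (LP (LK LD1_c15 LD2_c21 LD3_c49)) :=
  Lre_e IH (LK LD1_c8 LD2_c9 LD3_c23) (LK LD1_c15 LD2_c21 LD3_c49) Lrfl Lrfl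
theorem f339103 : Led Lsl_ct (LP (LK LD1_c15 LD2_c21 LD3_c49)) = (LP (LK LD1_c8 LD2_c28 LD3_c39)) :=
  Lgr Lrot15 (Lpe (f339102 IH) (Lpr_cf (K22.f339098 IH) (Lpe (K19.f27478 IH) (Lpn (LP (LK LD1_c8 LD2_c28 LD3_c39))))))
theorem f341472 : Led Lsl_bt (LP (LK LD1_c19 LD2_c53 LD3_c22)) = (LP (LK LD1_c15 LD2_c21 LD3_c49)) :=
  Lgr Lrot128 (Lpe (f310345 IH) (Lpe (f341471 IH) (Lpr_cf (f341469 IH) (Lpr_bf (K19.f309894 IH) (Lpe (f339103 IH) (Lpn (LP (LK LD1_c15 LD2_c21 LD3_c49))))))))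
theorem f341474 : Led Lsl_bf (LP (LK LD1_c19 LD2_c53 LD3_c22)) = (LP (LK LD1_c15 LD2_c21 LD3_c49)) :=
  Lgr Lrot24 (Lpr_bt (f341472 IH) (Lpn (LP (LK LD1_c15 LD2_c21 LD3_c49))))
theorem f341478 : Led Lsl_ct (LP (LK LD1_c19 LD2_c53 LD3_c22)) = (LP (LK LD1_c11 LD2_c2 LD3_c8)) :=
  Lre_c IH (LK LD1_c19 LD2_c53 LD3_c22) (LK LD1_c11 LD2_c2 LD3_c8) Lrfl Lrfl
theorem f310344 : Led Lsl_bt (LP (LK LD1_c11 LD2_c2 LD3_c8)) = (LP (LK LD1_c5 LD2_c34 LD3_c56)) :=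
  Lre_b IH (LK LD1_c11 LD2_c2 LD3_c8) (LK LD1_c5 LD2_c34 LD3_c56) Lrfl Lrfl
theorem f341479 : Led Lsl_ct (LP (LK LD1_c8 LD2_c28 LD3_c39)) = (LP (LK LD1_c15 LD2_c21 LD3_c49)) :=
  Lgr Lrot83 (Lpe (f309896 IH) (Lpr_cf (K21.f309883 IH) (Lpe (f310344 IH) (Lpe (f341478 IH) (Lpr_bf (f341474 IH) (Lpn (LP (LK LD1_c15 LD2_c21 LD3_c49))))))))
theorem f189908 : Led Lsl_gt (LP (LK LD1_c4 LD2_c4 LD3_c47)) = (LP (LK LD1_c8 LD2_c10 LD3_c23)) :=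
  Lre_g IH (LK LD1_c4 LD2_c4 LD3_c47) (LK LD1_c8 LD2_c10 LD3_c23) Lrfl Lrfl
theorem f168929 : Led Lsl_gt (LP (LK LD1_c9 LD2_c43 LD3_c43)) = (LP (LK LD1_c4 LD2_c56 LD3_c7)) :=
  Lre_g IH (LK LD1_c9 LD2_c43 LD3_c43) (LK LD1_c4 LD2_c56 LD3_c7) Lrfl Lrfl
theorem f326993 : Led Lsl_dt (LP (LK LD1_c8 LD2_c10 LD3_c23)) = (LP (LK LD1_c9 LD2_c43 LD3_c43)) :=
  Lgr Lrot171 (Lpe (f189908 IH) (Lpe (K19.f189890 IH) (Lpr_dt (K11.f53132 IH) (Lpr_gf (K13.f226879 IH) (Lpe (K13.f243658 IH) (Lpr_et (K16.f243708 IH) (Lpe (K21.f326981 IH) (Lpr_ef (K21.f326983 IH) (Lpe (K21.f168909 IH) (Lpe (f168929 IH) (Lpn (LP (LK LD1_c9 LD2_c43 LD3_c43)))))))))))))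
theorem f200572 : Led Lsl_gt (LP (LK LD1_c5 LD2_c39 LD3_c18)) = (LP (LK LD1_c2 LD2_c45 LD3_c35)) :=
  Lre_g IH (LK LD1_c5 LD2_c39 LD3_c18) (LK LD1_c2 LD2_c45 LD3_c35) Lrfl Lrfl
theorem f243719 : Led Lsl_dt (LP (LK LD1_c11 LD2_c9 LD3_c37)) = (LP (LK LD1_c5 LD2_c39 LD3_c18)) :=
  Lre_d IH (LK LD1_c11 LD2_c9 LD3_c37) (LK LD1_c5 LD2_c39 LD3_c18) Lrfl Lrfl
theorem f243720 : Led Lsl_et (LP (LK LD1_c11 LD2_c9 LD3_c37)) = (LP (LK LD1_c8 LD2_c10 LD3_c23)) :=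
  Lgr Lrot122 (Lpr_dt (f243719 IH) (Lpr_gt (f200572 IH) (Lpe (K13.f200468 IH) (Lpr_et (K13.f200467 IH) (Lpr_gt (K13.f179411 IH) (Lpr_dt (K13.f243658 IH) (Lpe (K13.f226879 IH) (Lpe (K11.f53132 IH) (Lpr_et (K19.f189890 IH) (Lpr_gt (f189908 IH) (Lpn (LP (LK LD1_c8 LD2_c10 LD3_c23)))))))))))))
theorem f243724 : Led Lsl_ef (LP (LK LD1_c11 LD2_c9 LD3_c37)) = (LP (LK LD1_c8 LD2_c10 LD3_c23)) :=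
  Lgr Lrot88 (Lpr_et (f243720 IH) (Lpn (LP (LK LD1_c8 LD2_c10 LD3_c23))))
theorem f314418 : Led Lsl_gt (LP (LK LD1_c4 LD2_c56 LD3_c1)) = (LP (LK LD1_c9 LD2_c43 LD3_c43)) :=
  Lre_g IH (LK LD1_c4 LD2_c56 LD3_c1) (LK LD1_c9 LD2_c43 LD3_c43) Lrfl Lrfl
theorem f326997 : Led Lsl_gt (LP (LK LD1_c11 LD2_c9 LD3_c37)) = (LP (LK LD1_c8 LD2_c28 LD3_c39)) :=
  Lgr Lrot137 (Lpr_ef (f243724 IH) (Lpr_dt (f326993 IH) (Lpe (f314418 IH) (Lpe (K19.f314565 IH) (Lpr_et (K19.f189882 IH) (Lpe (K19.f290989 IH) (Lpr_ef (K19.f290987 IH) (Lpr_dt (K19.f224896 IH) (Lpe (K19.f171080 IH) (Lpr_df (K19.f291026 IH) (Lpn (LP (LK LD1_c8 LD2_c28 LD3_c39)))))))))))))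
theorem f216608 : Led Lsl_gt (LP (LK LD1_c5 LD2_c39 LD3_c19)) = (LP (LK LD1_c11 LD2_c9 LD3_c38)) :=
  Lre_g IH (LK LD1_c5 LD2_c39 LD3_c19) (LK LD1_c11 LD2_c9 LD3_c38) Lrfl Lrfl
theorem f314999 : Led Lsl_gt (LP (LK LD1_c11 LD2_c9 LD3_c22)) = (LP (LK LD1_c15 LD2_c23 LD3_c8)) :=
  Lgr Lrot46 (Lpe (K19.f228288 IH) (Lpr_ft (K19.f314983 IH) (Lpr_at (K19.f314984 IH) (Lpn (LP (LK LD1_c15 LD2_c23 LD3_c8))))))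
theorem f341499 : Led Lsl_gf (LP (LK LD1_c20 LD2_c3 LD3_c39)) = (LP (LK LD1_c15 LD2_c21 LD3_c49)) :=
  Lgr Lrot148 (Lpr_dt (K19.f228289 IH) (Lpr_gt (f314999 IH) (Lpr_dt (K19.f314964 IH) (Lpr_ct (K19.f314963 IH) (Lpe (K20.f199231 IH) (Lpe (K22.f315815 IH) (Lpe (K13.f200469 IH) (Lpe (f332903 IH) (Lpr_ct (f341479 IH) (Lpn (LP (LK LD1_c15 LD2_c21 LD3_c49))))))))))))
theorem f341503 : Led Lsl_ct (LP (LK LD1_c11 LD2_c9 LD3_c38)) = (LP (LK LD1_c8 LD2_c36 LD3_c56)) :=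
  Lgr Lrot110 (Lpe (f216608 IH) (Lpe (K19.f216447 IH) (Lpe (f200572 IH) (Lpe (f243719 IH) (Lpr_gt (f326997 IH) (Lpr_ct (f341479 IH) (Lpe (f341499 IH) (Lpr_ct (K19.f228300 IH) (Lpe (K19.f228075 IH) (Lpn (LP (LK LD1_c8 LD2_c36 LD3_c56))))))))))))
theorem f39153 : Led Lsl_ct (LP (LK LD1_c8 LD2_c42 LD3_c31)) = (LP (LK LD1_c16 LD2_c18 LD3_c57)) :=
  Lre_c IH (LK LD1_c8 LD2_c42 LD3_c31) (LK LD1_c16 LD2_c18 LD3_c57) Lrfl Lrfl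
theorem f341508 : Led Lsl_ef (LP (LK LD1_c11 LD2_c9 LD3_c38)) = (LP (LK LD1_c16 LD2_c18 LD3_c57)) :=
  Lgr Lrot28 (Lpr_ct (f341503 IH) (Lpe (K13.f236468 IH) (Lpr_ct (f39153 IH) (Lpn (LP (LK LD1_c16 LD2_c18 LD3_c57))))))
theorem f238933 : Led Lsl_et (LP (LK LD1_c2 LD2_c45 LD3_c39)) = (LP (LK LD1_c5 LD2_c39 LD3_c19)) :=
  Lre_e IH (LK LD1_c2 LD2_c45 LD3_c39) (LK LD1_c5 LD2_c39 LD3_c19) Lrfl Lrfl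
theorem f29915 : Led Lsl_af (LP (LK LD1_c15 LD2_c7 LD3_c3)) = (LP (LK LD1_c9 LD2_c38 LD3_c35)) :=
  Lgr Lrot0 (Lpr_at (K1.f29913 IH) (Lpn (LP (LK LD1_c9 LD2_c38 LD3_c35))))
theorem f1546 : Led Lsl_dt (LP (LK LD1_c4 LD2_c52 LD3_c3)) = (LP (LK LD1_c9 LD2_c36 LD3_c25)) :=
  Lre_d IH (LK LD1_c4 LD2_c52 LD3_c3) (LK LD1_c9 LD2_c36 LD3_c25) Lrfl Lrfl
theorem f2472 : Led Lsl_ft (LP (LK LD1_c9 LD2_c36 LD3_c25)) = (LP (LK LD1_c9 LD2_c38 LD3_c35)) :=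
  Lgr Lrot54 (Lpe (f1546 IH) (Lpr_ff (K1.f2469 IH) (Lpe (K1.f2403 IH) (Lpn (LP (LK LD1_c9 LD2_c38 LD3_c35))))))
theorem f2776 : Led Lsl_gt (LP (LK LD1_c9 LD2_c36 LD3_c25)) = (LP (LK LD1_c17 LD2_c41 LD3_c36)) :=
  Lre_g IH (LK LD1_c9 LD2_c36 LD3_c25) (LK LD1_c17 LD2_c41 LD3_c36) Lrfl Lrfl
theorem f30653 : Led Lsl_gf (LP (LK LD1_c15 LD2_c7 LD3_c3)) = (LP (LK LD1_c17 LD2_c41 LD3_c36)) :=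
  Lgr Lrot76 (Lpr_af (f29915 IH) (Lpe (f2472 IH) (Lpr_gt (f2776 IH) (Lpn (LP (LK LD1_c17 LD2_c41 LD3_c36))))))
theorem f341515 : Led Lsl_df (LP (LK LD1_c17 LD2_c41 LD3_c36)) = (LP (LK LD1_c16 LD2_c18 LD3_c57)) :=
  Lgr Lrot170 (Lpe (f30653 IH) (Lpe (K1.f29203 IH) (Lpr_et (K1.f29685 IH) (Lpe (K12.f29668 IH) (Lpr_dt (K13.f29711 IH) (Lpr_gt (K13.f238969 IH) (Lpe (K13.f196964 IH) (Lpr_et (f238933 IH) (Lpr_gt (f216608 IH) (Lpr_ef (f341508 IH) (Lpn (LP (LK LD1_c16 LD2_c18 LD3_c57)))))))))))))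
theorem f341517 : Led Lsl_dt (LP (LK LD1_c17 LD2_c41 LD3_c36)) = (LP (LK LD1_c16 LD2_c18 LD3_c57)) :=
  Lgr Lrot42 (Lpr_df (f341515 IH) (Lpn (LP (LK LD1_c16 LD2_c18 LD3_c57))))
theorem f308702 : Led Lsl_ct (LP (LK LD1_c8 LD2_c42 LD3_c27)) = (LP (LK LD1_c4 LD2_c22 LD3_c15)) :=
  Lre_c IH (LK LD1_c8 LD2_c42 LD3_c27) (LK LD1_c4 LD2_c22 LD3_c15) Lrfl Lrfl
theorem f341521 : Led Lsl_gf (LP (LK LD1_c4 LD2_c52 LD3_c3)) = (LP (LK LD1_c8 LD2_c42 LD3_c27)) :=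
  Lgr Lrot144 (Lpr_dt (f1546 IH) (Lpr_gt (f2776 IH) (Lpr_dt (f341517 IH) (Lpe (f39153 IH) (Lpe (K22.f39151 IH) (Lpe (K13.f39146 IH) (Lpr_df (K13.f42910 IH) (Lpe (K21.f308700 IH) (Lpe (f308702 IH) (Lpn (LP (LK LD1_c8 LD2_c42 LD3_c27))))))))))))
theorem f2786 : Led Lsl_bt (LP (LK LD1_c4 LD2_c52 LD3_c43)) = (LP (LK LD1_c2 LD2_c24 LD3_c6)) :=
  Lre_b IH (LK LD1_c4 LD2_c52 LD3_c43) (LK LD1_c2 LD2_c24 LD3_c6) Lrfl Lrfl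
theorem f2788 : Led Lsl_ct (LP (LK LD1_c4 LD2_c52 LD3_c43)) = (LP (LK LD1_c9 LD2_c37 LD3_c29)) :=
  Lre_c IH (LK LD1_c4 LD2_c52 LD3_c43) (LK LD1_c9 LD2_c37 LD3_c29) Lrfl Lrfl
theorem f43070 : Led Lsl_ct (LP (LK LD1_c4 LD2_c22 LD3_c15)) = (LP (LK LD1_c8 LD2_c42 LD3_c27)) :=
  Lre_c IH (LK LD1_c4 LD2_c22 LD3_c15) (LK LD1_c8 LD2_c42 LD3_c27) Lrfl Lrfl
theorem f43074 : Led Lsl_ct (LP (LK LD1_c4 LD2_c21 LD3_c17)) = (LP (LK LD1_c8 LD2_c40 LD3_c12)) :=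
  Lre_c IH (LK LD1_c4 LD2_c21 LD3_c17) (LK LD1_c8 LD2_c40 LD3_c12) Lrfl Lrfl
theorem f341528 : Led Lsl_gt (LP (LK LD1_c9 LD2_c37 LD3_c29)) = (LP (LK LD1_c8 LD2_c40 LD3_c12)) :=
  Lgr Lrot65 (Lpe (f2788 IH) (Lpr_bt (f2786 IH) (Lpe (K21.f1536 IH) (Lpe (K0.f1530 IH) (Lpr_ct (K1.f1545 IH) (Lpr_gf (f341521 IH) (Lpe (f43070 IH) (Lpe (K21.f43066 IH) (Lpe (K16.f39119 IH) (Lpr_ct (f43074 IH) (Lpn (LP (LK LD1_c8 LD2_c40 LD3_c12)))))))))))))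
theorem f283161 : Led Lsl_df (LP (LK LD1_c8 LD2_c32 LD3_c35)) = (LP (LK LD1_c8 LD2_c28 LD3_c50)) :=
  Lgr Lrot70 (Lpr_et (K17.f571 IH) (Lpr_dt (K22.f569 IH) (Lpr_et (K17.f283157 IH) (Lpr_dt (K22.f236274 IH) (Lpr_et (K17.f236270 IH) (Lpn (LP (LK LD1_c8 LD2_c28 LD3_c50))))))))
theorem f295015 : Led Lsl_ct (LP (LK LD1_c8 LD2_c32 LD3_c35)) = (LP (LK LD1_c16 LD2_c2 LD3_c27)) :=
  Lre_c IH (LK LD1_c8 LD2_c32 LD3_c35) (LK LD1_c16 LD2_c2 LD3_c27) Lrfl Lrfl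
theorem f236428 : Led Lsl_ct (LP (LK LD1_c4 LD2_c9 LD3_c9)) = (LP (LK LD1_c2 LD2_c1 LD3_c57)) :=
  Lre_c IH (LK LD1_c4 LD2_c9 LD3_c9) (LK LD1_c2 LD2_c1 LD3_c57) Lrfl Lrfl
theorem f234450 : Led Lsl_gt (LP (LK LD1_c15 LD2_c37 LD3_c15)) = (LP (LK LD1_c25 LD2_c31 LD3_c55)) :=
  Lre_g IH (LK LD1_c15 LD2_c37 LD3_c15) (LK LD1_c25 LD2_c31 LD3_c55) Lrfl Lrfl
theorem f295016 : Led Lsl_df (LP (LK LD1_c16 LD2_c2 LD3_c27)) = (LP (LK LD1_c25 LD2_c31 LD3_c55)) :=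
  Lgr Lrot84 (Lpe (f295015 IH) (Lpr_df (f283161 IH) (Lpr_gf (K21.f295013 IH) (Lpr_df (K21.f294988 IH) (Lpe (K18.f577 IH) (Lpe (f236428 IH) (Lpr_gt (K21.f234448 IH) (Lpr_dt (K21.f234449 IH) (Lpr_gt (f234450 IH) (Lpn (LP (LK LD1_c25 LD2_c31 LD3_c55))))))))))))
theorem f295020 : Led Lsl_dt (LP (LK LD1_c16 LD2_c2 LD3_c27)) = (LP (LK LD1_c25 LD2_c31 LD3_c55)) :=
  Lgr Lrot42 (Lpr_df (f295016 IH) (Lpn (LP (LK LD1_c25 LD2_c31 LD3_c55))))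
theorem f295022 : Led Lsl_et (LP (LK LD1_c16 LD2_c2 LD3_c27)) = (LP (LK LD1_c8 LD2_c32 LD3_c33)) :=
  Lre_e IH (LK LD1_c16 LD2_c2 LD3_c27) (LK LD1_c8 LD2_c32 LD3_c33) Lrfl Lrfl
theorem f295034 : Led Lsl_gt (LP (LK LD1_c8 LD2_c32 LD3_c33)) = (LP (LK LD1_c8 LD2_c18 LD3_c38)) :=
  Lgr Lrot131 (Lpe (f295022 IH) (Lpr_dt (f295020 IH) (Lpe (f234450 IH) (Lpe (K21.f234449 IH) (Lpe (K21.f234448 IH) (Lpe (K21.f234350 IH) (Lpr_dt (K15.f233915 IH) (Lpr_gf (K15.f234441 IH) (Lpe (K15.f234432 IH) (Lpr_et (K12.f222830 IH) (Lpn (LP (LK LD1_c8 LD2_c18 LD3_c38)))))))))))))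
theorem f567 : Led Lsl_ct (LP (LK LD1_c4 LD2_c16 LD3_c39)) = (LP (LK LD1_c8 LD2_c32 LD3_c33)) :=
  Lre_c IH (LK LD1_c4 LD2_c16 LD3_c39) (LK LD1_c8 LD2_c32 LD3_c33) Lrfl Lrfl
theorem f341531 : Led Lsl_bt (LP (LK LD1_c4 LD2_c16 LD3_c39)) = (LP (LK LD1_c4 LD2_c22 LD3_c15)) :=
  Lgr Lrot92 (Lpr_ct (f567 IH) (Lpr_gt (f295034 IH) (Lpe (K12.f222205 IH) (Lpr_bt (K12.f222196 IH) (Lpe (K21.f326838 IH) (Lpr_ct (f2788 IH) (Lpr_gt (f341528 IH) (Lpe (f43074 IH) (Lpr_bt (K16.f39119 IH) (Lpr_gt (K21.f43066 IH) (Lpn (LP (LK LD1_c4 LD2_c22 LD3_c15)))))))))))))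
theorem f308766 : Led Lsl_bt (LP (LK LD1_c4 LD2_c53 LD3_c18)) = (LP (LK LD1_c9 LD2_c38 LD3_c39)) :=
  Lre_b IH (LK LD1_c4 LD2_c53 LD3_c18) (LK LD1_c9 LD2_c38 LD3_c39) Lrfl Lrfl
theorem f188803 : Led Lsl_bf (LP (LK LD1_c8 LD2_c35 LD3_c55)) = (LP (LK LD1_c8 LD2_c56 LD3_c22)) :=
  Lgr Lrot24 (Lpr_bt (K22.f188801 IH) (Lpn (LP (LK LD1_c8 LD2_c56 LD3_c22))))
theorem f271486 : Led Lsl_et (LP (LK LD1_c15 LD2_c57 LD3_c8)) = (LP (LK LD1_c8 LD2_c29 LD3_c47)) :=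
  Lre_e IH (LK LD1_c15 LD2_c57 LD3_c8) (LK LD1_c8 LD2_c29 LD3_c47) Lrfl Lrfl
theorem f188603 : Led Lsl_et (LP (LK LD1_c4 LD2_c29 LD3_c1)) = (LP (LK LD1_c8 LD2_c56 LD3_c22)) :=
  Lre_e IH (LK LD1_c4 LD2_c29 LD3_c1) (LK LD1_c8 LD2_c56 LD3_c22) Lrfl Lrfl
theorem f271487 : Led Lsl_cf (LP (LK LD1_c15 LD2_c57 LD3_c8)) = (LP (LK LD1_c8 LD2_c56 LD3_c22)) :=
  Lgr Lrot39 (Lpr_et (f271486 IH) (Lpr_ct (K16.f271475 IH) (Lpr_et (f188603 IH) (Lpn (LP (LK LD1_c8 LD2_c56 LD3_c22))))))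
theorem f341539 : Led Lsl_gf (LP (LK LD1_c8 LD2_c32 LD3_c33)) = (LP (LK LD1_c15 LD2_c57 LD3_c8)) :=
  Lgr Lrot126 (Lpe (f567 IH) (Lpr_bt (f341531 IH) (Lpr_gt (K21.f308700 IH) (Lpr_ct (K13.f200056 IH) (Lpe (K21.f200087 IH) (Lpr_cf (K19.f308756 IH) (Lpr_bt (f308766 IH) (Lpr_gt (K20.f322614 IH) (Lpr_bf (f188803 IH) (Lpe (f271487 IH) (Lpn (LP (LK LD1_c15 LD2_c57 LD3_c8)))))))))))))
theorem f271556 : Led Lsl_et (LP (LK LD1_c8 LD2_c29 LD3_c47)) = (LP (LK LD1_c15 LD2_c57 LD3_c8)) :=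
  Lre_e IH (LK LD1_c8 LD2_c29 LD3_c47) (LK LD1_c15 LD2_c57 LD3_c8) Lrfl Lrfl
theorem f271541 : Led Lsl_df (LP (LK LD1_c10 LD2_c19 LD3_c16)) = (LP (LK LD1_c8 LD2_c29 LD3_c47)) :=
  Lgr Lrot153 (Lpr_gt (K16.f271536 IH) (Lpr_dt (K13.f190852 IH) (Lpe (K15.f51600 IH) (Lpe (K13.f27371 IH) (Lpe (K10.f27370 IH) (Lpe (K11.f27361 IH) (Lpe (K15.f27369 IH) (Lpe (K16.f52030 IH) (Lpr_gt (K16.f53373 IH) (Lpn (LP (LK LD1_c8 LD2_c29 LD3_c47))))))))))))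
theorem f251091 : Led Lsl_dt (LP (LK LD1_c4 LD2_c15 LD3_c22)) = (LP (LK LD1_c8 LD2_c29 LD3_c37)) :=
  Lre_d IH (LK LD1_c4 LD2_c15 LD3_c22) (LK LD1_c8 LD2_c29 LD3_c37) Lrfl Lrfl
theorem f262801 : Led Lsl_ct (LP (LK LD1_c8 LD2_c29 LD3_c37)) = (LP (LK LD1_c4 LD2_c29 LD3_c10)) :=
  Lgr Lrot176 (Lpe (f251091 IH) (Lpe (K15.f51418 IH) (Lpe (K14.f789 IH) (Lpr_cf (K15.f262795 IH) (Lpe (K15.f244842 IH) (Lpe (K15.f243625 IH) (Lpe (K15.f244812 IH) (Lpr_cf (K15.f245035 IH) (Lpe (K15.f187234 IH) (Lpe (K15.f51600 IH) (Lpe (K13.f27371 IH) (Lpe (K10.f187226 IH) (Lpe (K12.f167731 IH) (Lpe (K14.f187232 IH) (Lpe (K17.f187233 IH) (Lpn (LP (LK LD1_c4 LD2_c29 LD3_c10))))))))))))))))))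
theorem f271531 : Led Lsl_gf (LP (LK LD1_c10 LD2_c19 LD3_c16)) = (LP (LK LD1_c8 LD2_c29 LD3_c37)) :=
  Lgr Lrot144 (Lpe (K16.f271484 IH) (Lpr_gt (K16.f271491 IH) (Lpr_dt (K15.f48240 IH) (Lpr_cf (K17.f262893 IH) (Lpe (K16.f221316 IH) (Lpe (K15.f261465 IH) (Lpe (K16.f183743 IH) (Lpe (K16.f263705 IH) (Lpe (f262801 IH) (Lpn (LP (LK LD1_c8 LD2_c29 LD3_c37))))))))))))
theorem f243400 : Led Lsl_et (LP (LK LD1_c4 LD2_c15 LD3_c41)) = (LP (LK LD1_c8 LD2_c30 LD3_c22)) :=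
  Lre_e IH (LK LD1_c4 LD2_c15 LD3_c41) (LK LD1_c8 LD2_c30 LD3_c22) Lrfl Lrfl
theorem f243402 : Led Lsl_ct (LP (LK LD1_c8 LD2_c30 LD3_c22)) = (LP (LK LD1_c8 LD2_c37 LD3_c14)) :=
  Lgr Lrot15 (Lpe (f243400 IH) (Lpr_cf (K15.f243272 IH) (Lpe (K19.f243401 IH) (Lpn (LP (LK LD1_c8 LD2_c37 LD3_c14))))))
theorem f243413 : Led Lsl_cf (LP (LK LD1_c8 LD2_c30 LD3_c22)) = (LP (LK LD1_c8 LD2_c37 LD3_c14)) :=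
  Lgr Lrot11 (Lpr_ct (f243402 IH) (Lpn (LP (LK LD1_c8 LD2_c37 LD3_c14))))
theorem f229606 : Led Lsl_ct (LP (LK LD1_c15 LD2_c36 LD3_c52)) = (LP (LK LD1_c8 LD2_c18 LD3_c11)) :=
  Lre_c IH (LK LD1_c15 LD2_c36 LD3_c52) (LK LD1_c8 LD2_c18 LD3_c11) Lrfl Lrfl
theorem f317606 : Led Lsl_at (LP (LK LD1_c8 LD2_c30 LD3_c22)) = (LP (LK LD1_c15 LD2_c36 LD3_c52)) :=
  Lgr Lrot107 (Lpr_cf (f243413 IH) (Lpr_af (K20.f317602 IH) (Lpe (f229606 IH) (Lpn (LP (LK LD1_c15 LD2_c36 LD3_c52))))))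
theorem f243415 : Led Lsl_ft (LP (LK LD1_c15 LD2_c58 LD3_c23)) = (LP (LK LD1_c8 LD2_c30 LD3_c22)) :=
  Lre_f IH (LK LD1_c15 LD2_c58 LD3_c23) (LK LD1_c8 LD2_c30 LD3_c22) Lrfl Lrfl
theorem f331188 : Led Lsl_at (LP (LK LD1_c15 LD2_c37 LD3_c16)) = (LP (LK LD1_c15 LD2_c58 LD3_c23)) :=
  Lgr Lrot66 (Lpr_ff (K21.f331186 IH) (Lpe (f317606 IH) (Lpe (f243415 IH) (Lpn (LP (LK LD1_c15 LD2_c58 LD3_c23))))))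
theorem f331241 : Led Lsl_et (LP (LK LD1_c15 LD2_c58 LD3_c23)) = (LP (LK LD1_c10 LD2_c50 LD3_c36)) :=
  Lgr Lrot123 (Lpe (f331188 IH) (Lpe (K21.f234464 IH) (Lpr_af (K21.f331226 IH) (Lpn (LP (LK LD1_c10 LD2_c50 LD3_c36))))))
theorem f243428 : Led Lsl_ft (LP (LK LD1_c8 LD2_c30 LD3_c22)) = (LP (LK LD1_c15 LD2_c58 LD3_c23)) :=
  Lre_f IH (LK LD1_c8 LD2_c30 LD3_c22) (LK LD1_c15 LD2_c58 LD3_c23) Lrfl Lrfl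
theorem f317639 : Led Lsl_ff (LP (LK LD1_c4 LD2_c15 LD3_c41)) = (LP (LK LD1_c8 LD2_c24 LD3_c16)) :=
  Lgr Lrot23 (Lpr_ct (K15.f243398 IH) (Lpr_ft (K20.f317626 IH) (Lpr_ct (K16.f236226 IH) (Lpn (LP (LK LD1_c8 LD2_c24 LD3_c16))))))
theorem f331267 : Led Lsl_et (LP (LK LD1_c8 LD2_c18 LD3_c21)) = (LP (LK LD1_c8 LD2_c24 LD3_c16)) :=
  Lgr Lrot69 (Lpr_ff (K21.f331256 IH) (Lpe (f331241 IH) (Lpe (f243428 IH) (Lpe (f243400 IH) (Lpr_ff (f317639 IH) (Lpn (LP (LK LD1_c8 LD2_c24 LD3_c16))))))))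
theorem f341545 : Led Lsl_gt (LP (LK LD1_c25 LD2_c31 LD3_c55)) = (LP (LK LD1_c15 LD2_c37 LD3_c18)) :=
  Lgr Lrot112 (Lpe (f295020 IH) (Lpr_et (f295022 IH) (Lpr_gf (f341539 IH) (Lpe (f271556 IH) (Lpe (f271541 IH) (Lpr_gf (f271531 IH) (Lpe (f251091 IH) (Lpr_gf (K19.f262793 IH) (Lpe (f331267 IH) (Lpr_dt (K22.f331245 IH) (Lpn (LP (LK LD1_c15 LD2_c37 LD3_c18)))))))))))))
theorem f295030 : Led Lsl_ct (LP (LK LD1_c25 LD2_c31 LD3_c55)) = (LP (LK LD1_c31 LD2_c55 LD3_c23)) :=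
  Lre_c IH (LK LD1_c25 LD2_c31 LD3_c55) (LK LD1_c31 LD2_c55 LD3_c23) Lrfl Lrfl
theorem f258628 : Led Lsl_dt (LP (LK LD1_c4 LD2_c9 LD3_c9)) = (LP (LK LD1_c8 LD2_c18 LD3_c22)) :=
  Lre_d IH (LK LD1_c4 LD2_c9 LD3_c9) (LK LD1_c8 LD2_c18 LD3_c22) Lrfl Lrfl
theorem f295841 : Led Lsl_ct (LP (LK LD1_c15 LD2_c37 LD3_c21)) = (LP (LK LD1_c8 LD2_c18 LD3_c22)) :=
  Lre_c IH (LK LD1_c15 LD2_c37 LD3_c21) (LK LD1_c8 LD2_c18 LD3_c22) Lrfl Lrfl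
theorem f298840 : Led Lsl_dt (LP (LK LD1_c25 LD2_c32 LD3_c6)) = (LP (LK LD1_c15 LD2_c37 LD3_c21)) :=
  Lre_d IH (LK LD1_c25 LD2_c32 LD3_c6) (LK LD1_c15 LD2_c37 LD3_c21) Lrfl Lrfl
theorem f168391 : Led Lsl_dt (LP (LK LD1_c10 LD2_c50 LD3_c34)) = (LP (LK LD1_c5 LD2_c29 LD3_c39)) :=
  Lre_d IH (LK LD1_c10 LD2_c50 LD3_c34) (LK LD1_c5 LD2_c29 LD3_c39) Lrfl Lrfl
theorem f168392 : Led Lsl_gt (LP (LK LD1_c19 LD2_c36 LD3_c2)) = (LP (LK LD1_c10 LD2_c50 LD3_c34)) :=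
  Lre_g IH (LK LD1_c19 LD2_c36 LD3_c2) (LK LD1_c10 LD2_c50 LD3_c34) Lrfl Lrfl
theorem f295878 : Led Lsl_gf (LP (LK LD1_c19 LD2_c36 LD3_c2)) = (LP (LK LD1_c25 LD2_c32 LD3_c10)) :=
  Lgr Lrot47 (Lpr_gt (f168392 IH) (Lpe (K18.f286131 IH) (Lpr_ff (K18.f295874 IH) (Lpn (LP (LK LD1_c25 LD2_c32 LD3_c10))))))
theorem f236296 : Led Lsl_ct (LP (LK LD1_c2 LD2_c1 LD3_c57)) = (LP (LK LD1_c4 LD2_c9 LD3_c9)) :=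
  Lre_c IH (LK LD1_c2 LD2_c1 LD3_c57) (LK LD1_c4 LD2_c9 LD3_c9) Lrfl Lrfl
theorem f236429 : Led Lsl_dt (LP (LK LD1_c8 LD2_c18 LD3_c22)) = (LP (LK LD1_c4 LD2_c9 LD3_c9)) :=
  Lre_d IH (LK LD1_c8 LD2_c18 LD3_c22) (LK LD1_c4 LD2_c9 LD3_c9) Lrfl Lrfl
theorem f295842 : Led Lsl_gt (LP (LK LD1_c25 LD2_c32 LD3_c4)) = (LP (LK LD1_c15 LD2_c37 LD3_c21)) :=
  Lre_g IH (LK LD1_c25 LD2_c32 LD3_c4) (LK LD1_c15 LD2_c37 LD3_c21) Lrfl Lrfl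
theorem f295893 : Led Lsl_ct (LP (LK LD1_c19 LD2_c36 LD3_c2)) = (LP (LK LD1_c25 LD2_c32 LD3_c4)) :=
  Lgr Lrot152 (Lpr_gf (f295878 IH) (Lpe (K18.f295816 IH) (Lpe (K18.f295836 IH) (Lpr_ct (K17.f236292 IH) (Lpr_gt (K17.f609 IH) (Lpr_ct (f236296 IH) (Lpe (f236429 IH) (Lpe (f295841 IH) (Lpe (f295842 IH) (Lpn (LP (LK LD1_c25 LD2_c32 LD3_c4))))))))))))
theorem f295898 : Led Lsl_cf (LP (LK LD1_c19 LD2_c36 LD3_c2)) = (LP (LK LD1_c25 LD2_c32 LD3_c4)) :=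
  Lgr Lrot11 (Lpr_ct (f295893 IH) (Lpn (LP (LK LD1_c25 LD2_c32 LD3_c4))))
theorem f295900 : Led Lsl_dt (LP (LK LD1_c15 LD2_c37 LD3_c21)) = (LP (LK LD1_c25 LD2_c32 LD3_c6)) :=
  Lre_d IH (LK LD1_c15 LD2_c37 LD3_c21) (LK LD1_c25 LD2_c32 LD3_c6) Lrfl Lrfl
theorem f298810 : Led Lsl_gf (LP (LK LD1_c25 LD2_c51 LD3_c39)) = (LP (LK LD1_c25 LD2_c32 LD3_c6)) :=
  Lgr Lrot143 (Lpr_dt (K18.f294999 IH) (Lpe (K18.f294987 IH) (Lpe (K18.f294986 IH) (Lpr_gf (K20.f298808 IH) (Lpe (f168391 IH) (Lpe (f168392 IH) (Lpr_cf (f295898 IH) (Lpr_gt (f295842 IH) (Lpr_dt (f295900 IH) (Lpn (LP (LK LD1_c25 LD2_c32 LD3_c6))))))))))))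
theorem f245106 : Led Lsl_ct (LP (LK LD1_c10 LD2_c44 LD3_c5)) = (LP (LK LD1_c19 LD2_c25 LD3_c36)) :=
  Lre_c IH (LK LD1_c10 LD2_c44 LD3_c5) (LK LD1_c19 LD2_c25 LD3_c36) Lrfl Lrfl
theorem f286045 : Led Lsl_at (LP (LK LD1_c19 LD2_c25 LD3_c36)) = (LP (LK LD1_c25 LD2_c51 LD3_c39)) :=
  Lgr Lrot107 (Lpe (f245106 IH) (Lpr_af (K17.f286040 IH) (Lpe (K18.f236283 IH) (Lpn (LP (LK LD1_c25 LD2_c51 LD3_c39))))))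
theorem f298792 : Led Lsl_ft (LP (LK LD1_c28 LD2_c49 LD3_c2)) = (LP (LK LD1_c19 LD2_c25 LD3_c36)) :=
  Lre_f IH (LK LD1_c28 LD2_c49 LD3_c2) (LK LD1_c19 LD2_c25 LD3_c36) Lrfl Lrfl
theorem f298838 : Led Lsl_gt (LP (LK LD1_c28 LD2_c49 LD3_c2)) = (LP (LK LD1_c25 LD2_c32 LD3_c6)) :=
  Lgr Lrot5 (Lpr_ft (f298792 IH) (Lpr_at (f286045 IH) (Lpr_gf (f298810 IH) (Lpn (LP (LK LD1_c25 LD2_c32 LD3_c6))))))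
theorem f245129 : Led Lsl_ct (LP (LK LD1_c28 LD2_c49 LD3_c2)) = (LP (LK LD1_c19 LD2_c25 LD3_c37)) :=
  Lre_c IH (LK LD1_c28 LD2_c49 LD3_c2) (LK LD1_c19 LD2_c25 LD3_c37) Lrfl Lrfl
theorem f294997 : Led Lsl_dt (LP (LK LD1_c25 LD2_c32 LD3_c16)) = (LP (LK LD1_c28 LD2_c49 LD3_c2)) :=
  Lgr Lrot173 (Lpe (K20.f236286 IH) (Lpe (K17.f236285 IH) (Lpe (K20.f236284 IH) (Lpe (K17.f236268 IH) (Lpe (K18.f231602 IH) (Lpe (K18.f231612 IH) (Lpe (K18.f236283 IH) (Lpr_df (K18.f294992 IH) (Lpe (K18.f294987 IH) (Lpe (K18.f294986 IH) (Lpe (K18.f292391 IH) (Lpe (K18.f294982 IH) (Lpe (K18.f245995 IH) (Lpe (K18.f245133 IH) (Lpe (f245129 IH) (Lpn (LP (LK LD1_c28 LD2_c49 LD3_c2))))))))))))))))))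
theorem f341547 : Led Lsl_gt (LP (LK LD1_c31 LD2_c55 LD3_c23)) = (LP (LK LD1_c25 LD2_c32 LD3_c16)) :=
  Lgr Lrot94 (Lpe (f295030 IH) (Lpr_gt (f341545 IH) (Lpr_dt (K22.f298842 IH) (Lpr_gt (K21.f234351 IH) (Lpr_dt (f258628 IH) (Lpe (f295841 IH) (Lpe (f298840 IH) (Lpe (f298838 IH) (Lpe (f294997 IH) (Lpn (LP (LK LD1_c25 LD2_c32 LD3_c16))))))))))))
theorem f341550 : Led Lsl_gf (LP (LK LD1_c31 LD2_c55 LD3_c23)) = (LP (LK LD1_c25 LD2_c32 LD3_c13)) :=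
  Lgr Lrot47 (Lpr_gt (f341547 IH) (Lpr_af (K20.f298774 IH) (Lpe (K20.f298778 IH) (Lpn (LP (LK LD1_c25 LD2_c32 LD3_c13))))))
theorem f295019 : Led Lsl_ct (LP (LK LD1_c31 LD2_c55 LD3_c23)) = (LP (LK LD1_c25 LD2_c31 LD3_c55)) :=
  Lre_c IH (LK LD1_c31 LD2_c55 LD3_c23) (LK LD1_c25 LD2_c31 LD3_c55) Lrfl Lrfl
theorem f339177 : Led Lsl_af (LP (LK LD1_c25 LD2_c55 LD3_c37)) = (LP (LK LD1_c25 LD2_c31 LD3_c60)) :=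
  Lgr Lrot0 (Lpr_at (K22.f339175 IH) (Lpn (LP (LK LD1_c25 LD2_c31 LD3_c60))))
theorem f340451 : Led Lsl_df (LP (LK LD1_c25 LD2_c31 LD3_c60)) = (LP (LK LD1_c28 LD2_c52 LD3_c41)) :=
  Lgr Lrot18 (Lpe (f339177 IH) (Lpe (K22.f339160 IH) (Lpr_at (f340443 IH) (Lpn (LP (LK LD1_c28 LD2_c52 LD3_c41))))))
theorem f236338 : Led Lsl_ct (LP (LK LD1_c25 LD2_c32 LD3_c30)) = (LP (LK LD1_c15 LD2_c37 LD3_c32)) :=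
  Lre_c IH (LK LD1_c25 LD2_c32 LD3_c30) (LK LD1_c15 LD2_c37 LD3_c32) Lrfl Lrfl
theorem f341556 : Led Lsl_gf (LP (LK LD1_c25 LD2_c32 LD3_c30)) = (LP (LK LD1_c25 LD2_c51 LD3_c39)) :=
  Lgr Lrot179 (Lpr_ct (f236338 IH) (Lpr_gt (K22.f236329 IH) (Lpr_ct (f340455 IH) (Lpe (f340451 IH) (Lpe (K22.f331246 IH) (Lpe (f341545 IH) (Lpe (f295019 IH) (Lpr_gf (f341550 IH) (Lpe (K18.f294992 IH) (Lpn (LP (LK LD1_c25 LD2_c51 LD3_c39))))))))))))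
theorem f341562 : Led Lsl_df (LP (LK LD1_c28 LD2_c52 LD3_c41)) = (LP (LK LD1_c25 LD2_c31 LD3_c60)) :=
  Lgr Lrot162 (Lpe (f340455 IH) (Lpe (K22.f236329 IH) (Lpe (f236338 IH) (Lpr_gf (f341556 IH) (Lpr_dt (K18.f294999 IH) (Lpe (f341550 IH) (Lpr_ct (f295019 IH) (Lpr_gt (f341545 IH) (Lpr_ct (K22.f331246 IH) (Lpn (LP (LK LD1_c25 LD2_c31 LD3_c60))))))))))))
theorem f339242 : Led Lsl_at (LP (LK LD1_c25 LD2_c52 LD3_c52)) = (LP (LK LD1_c25 LD2_c51 LD3_c48)) :=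
  Lgr Lrot107 (Lpe (K21.f250941 IH) (Lpr_af (K22.f339240 IH) (Lpe (K22.f236335 IH) (Lpn (LP (LK LD1_c25 LD2_c51 LD3_c48))))))
theorem f340453 : Led Lsl_ff (LP (LK LD1_c25 LD2_c52 LD3_c52)) = (LP (LK LD1_c28 LD2_c52 LD3_c41)) :=
  Lgr Lrot30 (Lpr_at (f339242 IH) (Lpe (K22.f339189 IH) (Lpr_at (f340443 IH) (Lpn (LP (LK LD1_c28 LD2_c52 LD3_c41))))))
theorem f341564 : Led Lsl_ft (LP (LK LD1_c28 LD2_c58 LD3_c2)) = (LP (LK LD1_c25 LD2_c31 LD3_c60)) :=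
  Lgr Lrot54 (Lpe (K21.f328261 IH) (Lpr_ff (f340453 IH) (Lpr_df (f341562 IH) (Lpn (LP (LK LD1_c25 LD2_c31 LD3_c60))))))
theorem f341571 : Led Lsl_gt (LP (LK LD1_c28 LD2_c58 LD3_c2)) = (LP (LK LD1_c31 LD2_c55 LD3_c31)) :=
  Lgr Lrot5 (Lpr_ft (f341564 IH) (Lpe (f339177 IH) (Lpe (K22.f328415 IH) (Lpn (LP (LK LD1_c31 LD2_c55 LD3_c31))))))
theorem f295808 : Led Lsl_gt (LP (LK LD1_c15 LD2_c37 LD3_c26)) = (LP (LK LD1_c25 LD2_c32 LD3_c12)) :=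
  Lgr Lrot5 (Lpe (K18.f295793 IH) (Lpr_at (K18.f295802 IH) (Lpe (K22.f294996 IH) (Lpn (LP (LK LD1_c25 LD2_c32 LD3_c12))))))
theorem f168381 : Led Lsl_ct (LP (LK LD1_c5 LD2_c29 LD3_c39)) = (LP (LK LD1_c2 LD2_c41 LD3_c6)) :=
  Lre_c IH (LK LD1_c5 LD2_c29 LD3_c39) (LK LD1_c2 LD2_c41 LD3_c6) Lrfl Lrfl
theorem f295810 : Led Lsl_ct (LP (LK LD1_c25 LD2_c32 LD3_c12)) = (LP (LK LD1_c31 LD2_c55 LD3_c32)) :=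
  Lre_c IH (LK LD1_c25 LD2_c32 LD3_c12) (LK LD1_c31 LD2_c55 LD3_c32) Lrfl Lrfl
theorem f295811 : Led Lsl_gf (LP (LK LD1_c28 LD2_c58 LD3_c2)) = (LP (LK LD1_c31 LD2_c55 LD3_c32)) :=
  Lgr Lrot104 (Lpr_ct (K21.f283207 IH) (Lpe (K21.f283206 IH) (Lpe (K21.f168514 IH) (Lpe (K20.f168511 IH) (Lpe (f168381 IH) (Lpr_gf (K18.f283203 IH) (Lpe (K17.f236293 IH) (Lpr_gt (f295808 IH) (Lpr_ct (f295810 IH) (Lpn (LP (LK LD1_c31 LD2_c55 LD3_c32))))))))))))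
theorem f295860 : Led Lsl_dt (LP (LK LD1_c26 LD2_c43 LD3_c18)) = (LP (LK LD1_c31 LD2_c55 LD3_c30)) :=
  Lgr Lrot42 (Lpr_df (K18.f295856 IH) (Lpn (LP (LK LD1_c31 LD2_c55 LD3_c30))))
theorem f328264 : Led Lsl_gt (LP (LK LD1_c25 LD2_c52 LD3_c52)) = (LP (LK LD1_c26 LD2_c43 LD3_c18)) :=
  Lgr Lrot49 (Lpr_df (K21.f328259 IH) (Lpr_gf (f295811 IH) (Lpe (f295810 IH) (Lpr_gt (K22.f294996 IH) (Lpr_dt (K18.f294995 IH) (Lpr_gt (K18.f292392 IH) (Lpr_dt (K18.f295816 IH) (Lpe (K18.f295817 IH) (Lpe (f295860 IH) (Lpn (LP (LK LD1_c26 LD2_c43 LD3_c18))))))))))))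
theorem f245996 : Led Lsl_ct (LP (LK LD1_c5 LD2_c26 LD3_c29)) = (LP (LK LD1_c10 LD2_c44 LD3_c6)) :=
  Lre_c IH (LK LD1_c5 LD2_c26 LD3_c29) (LK LD1_c10 LD2_c44 LD3_c6) Lrfl Lrfl
theorem f245132 : Led Lsl_ct (LP (LK LD1_c19 LD2_c25 LD3_c37)) = (LP (LK LD1_c28 LD2_c49 LD3_c2)) :=
  Lre_c IH (LK LD1_c19 LD2_c25 LD3_c37) (LK LD1_c28 LD2_c49 LD3_c2) Lrfl Lrfl
theorem f298786 : Led Lsl_dt (LP (LK LD1_c28 LD2_c49 LD3_c2)) = (LP (LK LD1_c25 LD2_c32 LD3_c16)) :=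
  Lgr Lrot120 (Lpe (f245132 IH) (Lpe (K21.f245130 IH) (Lpe (f245996 IH) (Lpr_df (K21.f294988 IH) (Lpe (K21.f294994 IH) (Lpe (K18.f294995 IH) (Lpr_ft (K20.f298782 IH) (Lpe (K19.f298772 IH) (Lpe (K20.f236301 IH) (Lpn (LP (LK LD1_c25 LD2_c32 LD3_c16))))))))))))
theorem f341575 : Led Lsl_gt (LP (LK LD1_c16 LD2_c44 LD3_c24)) = (LP (LK LD1_c19 LD2_c25 LD3_c37)) :=
  Lgr Lrot150 (Lpe (K18.f213802 IH) (Lpe (f328264 IH) (Lpr_df (K21.f328259 IH) (Lpr_gt (f341571 IH) (Lpr_ct (K22.f298794 IH) (Lpr_gt (K20.f298784 IH) (Lpr_ct (K20.f236286 IH) (Lpe (f298786 IH) (Lpe (f245132 IH) (Lpn (LP (LK LD1_c19 LD2_c25 LD3_c37))))))))))))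
theorem f213831 : Led Lsl_dt (LP (LK LD1_c8 LD2_c56 LD3_c32)) = (LP (LK LD1_c16 LD2_c44 LD3_c24)) :=
  Lre_d IH (LK LD1_c8 LD2_c56 LD3_c32) (LK LD1_c16 LD2_c44 LD3_c24) Lrfl Lrfl
theorem f236431 : Led Lsl_ct (LP (LK LD1_c15 LD2_c37 LD3_c28)) = (LP (LK LD1_c8 LD2_c18 LD3_c27)) :=
  Lre_c IH (LK LD1_c15 LD2_c37 LD3_c28) (LK LD1_c8 LD2_c18 LD3_c27) Lrfl Lrfl
theorem f341581 : Led Lsl_gf (LP (LK LD1_c8 LD2_c56 LD3_c32)) = (LP (LK LD1_c15 LD2_c37 LD3_c28)) :=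
  Lgr Lrot144 (Lpr_dt (f213831 IH) (Lpr_gt (f341575 IH) (Lpr_dt (K18.f245133 IH) (Lpe (f245996 IH) (Lpr_df (K21.f294988 IH) (Lpe (K18.f577 IH) (Lpe (K17.f236267 IH) (Lpe (K22.f220056 IH) (Lpe (f236431 IH) (Lpn (LP (LK LD1_c15 LD2_c37 LD3_c28))))))))))))
theorem f213799 : Led Lsl_cf (LP (LK LD1_c8 LD2_c56 LD3_c32)) = (LP (LK LD1_c5 LD2_c29 LD3_c42)) :=
  Lgr Lrot11 (Lpr_ct (K14.f213792 IH) (Lpn (LP (LK LD1_c5 LD2_c29 LD3_c42))))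
theorem f236423 : Led Lsl_ct (LP (LK LD1_c8 LD2_c18 LD3_c27)) = (LP (LK LD1_c15 LD2_c37 LD3_c28)) :=
  Lre_c IH (LK LD1_c8 LD2_c18 LD3_c27) (LK LD1_c15 LD2_c37 LD3_c28) Lrfl Lrfl
theorem f341696 : Led Lsl_bf (LP (LK LD1_c5 LD2_c29 LD3_c51)) = (LP (LK LD1_c8 LD2_c18 LD3_c27)) :=
  Lgr Lrot34 (Lpr_gf (K21.f323254 IH) (Lpe (K12.f228051 IH) (Lpe (K15.f228127 IH) (Lpe (K18.f262199 IH) (Lpr_cf (K21.f298002 IH) (Lpe (K14.f238337 IH) (Lpr_bf (K14.f247266 IH) (Lpe (f213799 IH) (Lpr_gf (f341581 IH) (Lpe (f236423 IH) (Lpn (LP (LK LD1_c8 LD2_c18 LD3_c27)))))))))))))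
theorem f341704 : Led Lsl_bt (LP (LK LD1_c10 LD2_c20 LD3_c41)) = (LP (LK LD1_c10 LD2_c25 LD3_c9)) :=
  Lgr Lrot119 (Lpe (K21.f285587 IH) (Lpr_bf (f341696 IH) (Lpe (K22.f285625 IH) (Lpn (LP (LK LD1_c10 LD2_c25 LD3_c9))))))
theorem f341711 : Led Lsl_bf (LP (LK LD1_c15 LD2_c36 LD3_c9)) = (LP (LK LD1_c10 LD2_c54 LD3_c18)) :=
  Lgr Lrot93 (Lpr_dt (K21.f260605 IH) (Lpr_bt (f341704 IH) (Lpr_dt (K22.f285629 IH) (Lpn (LP (LK LD1_c10 LD2_c54 LD3_c18))))))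
theorem f341716 : Led Lsl_bt (LP (LK LD1_c8 LD2_c17 LD3_c48)) = (LP (LK LD1_c8 LD2_c30 LD3_c41)) :=
  Lgr Lrot119 (Lpe (K21.f260603 IH) (Lpr_bf (f341711 IH) (Lpr_ef (K22.f285643 IH) (Lpn (LP (LK LD1_c8 LD2_c30 LD3_c41))))))
theorem f260610 : Led Lsl_et (LP (LK LD1_c8 LD2_c17 LD3_c48)) = (LP (LK LD1_c15 LD2_c36 LD3_c9)) :=
  Lre_e IH (LK LD1_c8 LD2_c17 LD3_c48) (LK LD1_c15 LD2_c36 LD3_c9) Lrfl Lrfl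
theorem f285585 : Led Lsl_dt (LP (LK LD1_c8 LD2_c29 LD3_c56)) = (LP (LK LD1_c8 LD2_c17 LD3_c48)) :=
  Lgr Lrot77 (Lpe (K21.f261420 IH) (Lpe (K21.f261425 IH) (Lpr_ef (K21.f285581 IH) (Lpe (K21.f260605 IH) (Lpe (f260610 IH) (Lpn (LP (LK LD1_c8 LD2_c17 LD3_c48))))))))
theorem f341720 : Led Lsl_bf (LP (LK LD1_c8 LD2_c29 LD3_c56)) = (LP (LK LD1_c8 LD2_c16 LD3_c46)) :=
  Lgr Lrot93 (Lpr_dt (f285585 IH) (Lpr_bt (f341716 IH) (Lpe (K22.f285641 IH) (Lpn (LP (LK LD1_c8 LD2_c16 LD3_c46))))))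
theorem f2498 : Led Lsl_et (LP (LK LD1_c4 LD2_c53 LD3_c8)) = (LP (LK LD1_c2 LD2_c24 LD3_c22)) :=
  Lre_e IH (LK LD1_c4 LD2_c53 LD3_c8) (LK LD1_c2 LD2_c24 LD3_c22) Lrfl Lrfl
theorem f229434 : Led Lsl_ct (LP (LK LD1_c3 LD2_c57 LD3_c4)) = (LP (LK LD1_c4 LD2_c53 LD3_c8)) :=
  Lgr Lrot15 (Lpe (K15.f229433 IH) (Lpr_cf (K12.f229414 IH) (Lpe (f2498 IH) (Lpn (LP (LK LD1_c4 LD2_c53 LD3_c8))))))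
theorem f216609 : Led Lsl_dt (LP (LK LD1_c11 LD2_c9 LD3_c38)) = (LP (LK LD1_c20 LD2_c4 LD3_c3)) :=
  Lre_d IH (LK LD1_c11 LD2_c9 LD3_c38) (LK LD1_c20 LD2_c4 LD3_c3) Lrfl Lrfl
theorem f327518 : Led Lsl_ct (LP (LK LD1_c9 LD2_c35 LD3_c20)) = (LP (LK LD1_c4 LD2_c51 LD3_c36)) :=
  Lre_c IH (LK LD1_c9 LD2_c35 LD3_c20) (LK LD1_c4 LD2_c51 LD3_c36) Lrfl Lrfl
theorem f327523 : Led Lsl_dt (LP (LK LD1_c17 LD2_c39 LD3_c30)) = (LP (LK LD1_c9 LD2_c35 LD3_c20)) :=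
  Lre_d IH (LK LD1_c17 LD2_c39 LD3_c30) (LK LD1_c9 LD2_c35 LD3_c20) Lrfl Lrfl
theorem f327524 : Led Lsl_gt (LP (LK LD1_c20 LD2_c4 LD3_c3)) = (LP (LK LD1_c17 LD2_c39 LD3_c30)) :=
  Lgr Lrot49 (Lpe (f216609 IH) (Lpe (f216608 IH) (Lpe (K19.f216447 IH) (Lpr_gt (K13.f179742 IH) (Lpr_dt (K18.f179743 IH) (Lpr_gt (K22.f327521 IH) (Lpr_dt (K22.f224914 IH) (Lpe (f327518 IH) (Lpe (f327523 IH) (Lpn (LP (LK LD1_c17 LD2_c39 LD3_c30))))))))))))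
theorem f229841 : Led Lsl_et (LP (LK LD1_c2 LD2_c24 LD3_c22)) = (LP (LK LD1_c4 LD2_c53 LD3_c8)) :=
  Lre_e IH (LK LD1_c2 LD2_c24 LD3_c22) (LK LD1_c4 LD2_c53 LD3_c8) Lrfl Lrfl
theorem f327527 : Led Lsl_dt (LP (LK LD1_c9 LD2_c35 LD3_c20)) = (LP (LK LD1_c17 LD2_c39 LD3_c30)) :=
  Lre_d IH (LK LD1_c9 LD2_c35 LD3_c20) (LK LD1_c17 LD2_c39 LD3_c30) Lrfl Lrfl
theorem f237521 : Led Lsl_ct (LP (LK LD1_c9 LD2_c37 LD3_c60)) = (LP (LK LD1_c4 LD2_c53 LD3_c1)) :=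
  Lre_c IH (LK LD1_c9 LD2_c37 LD3_c60) (LK LD1_c4 LD2_c53 LD3_c1) Lrfl Lrfl
theorem f171081 : Led Lsl_ct (LP (LK LD1_c4 LD2_c51 LD3_c36)) = (LP (LK LD1_c9 LD2_c35 LD3_c20)) :=
  Lre_c IH (LK LD1_c4 LD2_c51 LD3_c36) (LK LD1_c9 LD2_c35 LD3_c20) Lrfl Lrfl
theorem f327514 : Led Lsl_ef (LP (LK LD1_c9 LD2_c37 LD3_c60)) = (LP (LK LD1_c9 LD2_c35 LD3_c20)) :=
  Lgr Lrot28 (Lpr_ct (f237521 IH) (Lpr_et (K22.f327512 IH) (Lpr_ct (f171081 IH) (Lpn (LP (LK LD1_c9 LD2_c35 LD3_c20))))))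
theorem f327528 : Led Lsl_gf (LP (LK LD1_c4 LD2_c53 LD3_c8)) = (LP (LK LD1_c9 LD2_c37 LD3_c60)) :=
  Lgr Lrot141 (Lpe (f229841 IH) (Lpr_dt (K13.f29711 IH) (Lpr_gt (K13.f238969 IH) (Lpe (K13.f196964 IH) (Lpr_et (f238933 IH) (Lpr_gt (f216608 IH) (Lpr_dt (f216609 IH) (Lpr_gt (f327524 IH) (Lpe (f327527 IH) (Lpe (f327514 IH) (Lpn (LP (LK LD1_c9 LD2_c37 LD3_c60)))))))))))))
theorem f279405 : Led Lsl_ct (LP (LK LD1_c4 LD2_c53 LD3_c1)) = (LP (LK LD1_c9 LD2_c37 LD3_c60)) :=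
  Lre_c IH (LK LD1_c4 LD2_c53 LD3_c1) (LK LD1_c9 LD2_c37 LD3_c60) Lrfl Lrfl
theorem f47701 : Led Lsl_ct (LP (LK LD1_c8 LD2_c16 LD3_c46)) = (LP (LK LD1_c15 LD2_c34 LD3_c6)) :=
  Lre_c IH (LK LD1_c8 LD2_c16 LD3_c46) (LK LD1_c15 LD2_c34 LD3_c6) Lrfl Lrfl
theorem f341724 : Led Lsl_gf (LP (LK LD1_c8 LD2_c19 LD3_c39)) = (LP (LK LD1_c15 LD2_c34 LD3_c6)) :=
  Lgr Lrot126 (Lpr_cf (K17.f236734 IH) (Lpr_bt (K12.f33235 IH) (Lpe (K21.f279403 IH) (Lpr_ct (f279405 IH) (Lpe (f327528 IH) (Lpe (f229434 IH) (Lpe (K15.f229757 IH) (Lpr_gt (K21.f49051 IH) (Lpr_bf (f341720 IH) (Lpr_ct (f47701 IH) (Lpn (LP (LK LD1_c15 LD2_c34 LD3_c6)))))))))))))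
theorem f273743 : Led Lsl_af (LP (LK LD1_c8 LD2_c19 LD3_c39)) = (LP (LK LD1_c15 LD2_c34 LD3_c21)) :=
  Lgr Lrot0 (Lpr_at (K17.f273741 IH) (Lpn (LP (LK LD1_c15 LD2_c34 LD3_c21))))
theorem f341726 : Led Lsl_gt (LP (LK LD1_c8 LD2_c16 LD3_c53)) = (LP (LK LD1_c15 LD2_c34 LD3_c6)) :=
  Lgr Lrot5 (Lpr_ft (K17.f258518 IH) (Lpe (f273743 IH) (Lpr_gf (f341724 IH) (Lpn (LP (LK LD1_c15 LD2_c34 LD3_c6))))))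
theorem f329913 : Led Lsl_bt (LP (LK LD1_c15 LD2_c3 LD3_c12)) = (LP (LK LD1_c24 LD2_c52 LD3_c18)) :=
  Lre_b IH (LK LD1_c15 LD2_c3 LD3_c12) (LK LD1_c24 LD2_c52 LD3_c18) Lrfl Lrfl
theorem f254184 : Led Lsl_dt (LP (LK LD1_c10 LD2_c11 LD3_c36)) = (LP (LK LD1_c15 LD2_c3 LD3_c12)) :=
  Lgr Lrot42 (Lpr_df (K14.f254179 IH) (Lpn (LP (LK LD1_c15 LD2_c3 LD3_c12))))
theorem f329914 : Led Lsl_bf (LP (LK LD1_c10 LD2_c11 LD3_c36)) = (LP (LK LD1_c15 LD2_c11 LD3_c24)) :=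
  Lgr Lrot93 (Lpr_dt (f254184 IH) (Lpr_bt (f329913 IH) (Lpr_dt (K22.f329911 IH) (Lpn (LP (LK LD1_c15 LD2_c11 LD3_c24))))))
theorem f249029 : Led Lsl_ct (LP (LK LD1_c5 LD2_c10 LD3_c29)) = (LP (LK LD1_c10 LD2_c11 LD3_c34)) :=
  Lre_c IH (LK LD1_c5 LD2_c10 LD3_c29) (LK LD1_c10 LD2_c11 LD3_c34) Lrfl Lrfl
theorem f249022 : Led Lsl_gt (LP (LK LD1_c10 LD2_c11 LD3_c34)) = (LP (LK LD1_c18 LD2_c34 LD3_c1)) :=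
  Lre_g IH (LK LD1_c10 LD2_c11 LD3_c34) (LK LD1_c18 LD2_c34 LD3_c1) Lrfl Lrfl
theorem f333454 : Led Lsl_gf (LP (LK LD1_c10 LD2_c26 LD3_c29)) = (LP (LK LD1_c10 LD2_c28 LD3_c36)) :=
  Lgr Lrot126 (Lpr_cf (K22.f333444 IH) (Lpe (f329914 IH) (Lpr_gt (K14.f250374 IH) (Lpr_ct (f249029 IH) (Lpr_gt (f249022 IH) (Lpr_cf (K22.f250362 IH) (Lpr_bt (K22.f170045 IH) (Lpe (K21.f307700 IH) (Lpr_bf (K21.f230591 IH) (Lpr_ct (K19.f230594 IH) (Lpn (LP (LK LD1_c10 LD2_c28 LD3_c36)))))))))))))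
theorem f248619 : Led Lsl_bt (LP (LK LD1_c1 LD2_c11 LD3_c46)) = (LP (LK LD1_c2 LD2_c29 LD3_c13)) :=
  Lre_b IH (LK LD1_c1 LD2_c11 LD3_c46) (LK LD1_c2 LD2_c29 LD3_c13) Lrfl Lrfl
theorem f248713 : Led Lsl_bt (LP (LK LD1_c4 LD2_c54 LD3_c8)) = (LP (LK LD1_c5 LD2_c10 LD3_c29)) :=
  Lgr Lrot62 (Lpe (K14.f248604 IH) (Lpe (f248619 IH) (Lpr_af (K14.f248707 IH) (Lpe (K21.f248711 IH) (Lpe (K14.f248712 IH) (Lpn (LP (LK LD1_c5 LD2_c10 LD3_c29))))))))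
theorem f249024 : Led Lsl_gt (LP (LK LD1_c9 LD2_c39 LD3_c41)) = (LP (LK LD1_c17 LD2_c46 LD3_c5)) :=
  Lre_g IH (LK LD1_c9 LD2_c39 LD3_c41) (LK LD1_c17 LD2_c46 LD3_c5) Lrfl Lrfl
theorem f185451 : Led Lsl_bt (LP (LK LD1_c10 LD2_c26 LD3_c32)) = (LP (LK LD1_c5 LD2_c18 LD3_c23)) :=
  Lre_b IH (LK LD1_c10 LD2_c26 LD3_c32) (LK LD1_c5 LD2_c18 LD3_c23) Lrfl Lrfl
theorem f333461 : Led Lsl_cf (LP (LK LD1_c17 LD2_c46 LD3_c5)) = (LP (LK LD1_c10 LD2_c26 LD3_c32)) :=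
  Lgr Lrot58 (Lpe (f249024 IH) (Lpe (K14.f248621 IH) (Lpr_bt (f248713 IH) (Lpe (K14.f250374 IH) (Lpr_bf (f329914 IH) (Lpe (K22.f333444 IH) (Lpr_gf (f333454 IH) (Lpe (K19.f230594 IH) (Lpr_gf (K21.f268058 IH) (Lpe (f185451 IH) (Lpn (LP (LK LD1_c10 LD2_c26 LD3_c32)))))))))))))
theorem f328836 : Led Lsl_ct (LP (LK LD1_c9 LD2_c58 LD3_c29)) = (LP (LK LD1_c10 LD2_c21 LD3_c7)) :=
  Lgr Lrot59 (Lpr_cf (K22.f328833 IH) (Lpn (LP (LK LD1_c10 LD2_c21 LD3_c7))))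
theorem f333465 : Led Lsl_et (LP (LK LD1_c17 LD2_c46 LD3_c5)) = (LP (LK LD1_c9 LD2_c58 LD3_c29)) :=
  Lgr Lrot158 (Lpr_cf (f333461 IH) (Lpr_ef (K21.f331338 IH) (Lpe (f328836 IH) (Lpn (LP (LK LD1_c9 LD2_c58 LD3_c29))))))
theorem f333471 : Led Lsl_ef (LP (LK LD1_c17 LD2_c46 LD3_c5)) = (LP (LK LD1_c9 LD2_c58 LD3_c29)) :=
  Lgr Lrot88 (Lpr_et (f333465 IH) (Lpn (LP (LK LD1_c9 LD2_c58 LD3_c29))))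
theorem f166670 : Led Lsl_dt (LP (LK LD1_c5 LD2_c2 LD3_c13)) = (LP (LK LD1_c9 LD2_c55 LD3_c15)) :=
  Lre_d IH (LK LD1_c5 LD2_c2 LD3_c13) (LK LD1_c9 LD2_c55 LD3_c15) Lrfl Lrfl
theorem f166672 : Led Lsl_gt (LP (LK LD1_c18 LD2_c9 LD3_c47)) = (LP (LK LD1_c9 LD2_c55 LD3_c15)) :=
  Lre_g IH (LK LD1_c18 LD2_c9 LD3_c47) (LK LD1_c9 LD2_c55 LD3_c15) Lrfl Lrfl
theorem f333473 : Led Lsl_df (LP (LK LD1_c18 LD2_c9 LD3_c47)) = (LP (LK LD1_c9 LD2_c58 LD3_c29)) :=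
  Lgr Lrot170 (Lpr_gt (f166672 IH) (Lpe (f166670 IH) (Lpr_et (K18.f251662 IH) (Lpr_gt (K15.f249431 IH) (Lpr_dt (K15.f251628 IH) (Lpr_gt (K15.f251629 IH) (Lpe (K12.f229923 IH) (Lpr_et (K14.f248646 IH) (Lpr_gt (f249024 IH) (Lpr_ef (f333471 IH) (Lpn (LP (LK LD1_c9 LD2_c58 LD3_c29)))))))))))))
theorem f166651 : Led Lsl_dt (LP (LK LD1_c9 LD2_c55 LD3_c15)) = (LP (LK LD1_c5 LD2_c2 LD3_c13)) :=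
  Lre_d IH (LK LD1_c9 LD2_c55 LD3_c15) (LK LD1_c5 LD2_c2 LD3_c13) Lrfl Lrfl
theorem f166650 : Led Lsl_ct (LP (LK LD1_c5 LD2_c2 LD3_c13)) = (LP (LK LD1_c2 LD2_c28 LD3_c43)) :=
  Lre_c IH (LK LD1_c5 LD2_c2 LD3_c13) (LK LD1_c2 LD2_c28 LD3_c43) Lrfl Lrfl
theorem f166638 : Led Lsl_gt (LP (LK LD1_c4 LD2_c53 LD3_c34)) = (LP (LK LD1_c2 LD2_c24 LD3_c35)) :=
  Lre_g IH (LK LD1_c4 LD2_c53 LD3_c34) (LK LD1_c2 LD2_c24 LD3_c35) Lrfl Lrfl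
theorem f166947 : Led Lsl_gt (LP (LK LD1_c9 LD2_c58 LD3_c17)) = (LP (LK LD1_c5 LD2_c3 LD3_c49)) :=
  Lre_g IH (LK LD1_c9 LD2_c58 LD3_c17) (LK LD1_c5 LD2_c3 LD3_c49) Lrfl Lrfl
theorem f333481 : Led Lsl_df (LP (LK LD1_c4 LD2_c53 LD3_c34)) = (LP (LK LD1_c5 LD2_c3 LD3_c49)) :=
  Lgr Lrot153 (Lpr_gt (f166638 IH) (Lpe (K21.f166589 IH) (Lpe (f166650 IH) (Lpe (f166651 IH) (Lpe (f166672 IH) (Lpr_df (f333473 IH) (Lpe (K22.f249698 IH) (Lpe (K22.f166940 IH) (Lpr_gt (f166947 IH) (Lpn (LP (LK LD1_c5 LD2_c3 LD3_c49))))))))))))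
theorem f333487 : Led Lsl_dt (LP (LK LD1_c4 LD2_c53 LD3_c34)) = (LP (LK LD1_c5 LD2_c3 LD3_c49)) :=
  Lgr Lrot42 (Lpr_df (f333481 IH) (Lpn (LP (LK LD1_c5 LD2_c3 LD3_c49))))
theorem f166678 : Led Lsl_bt (LP (LK LD1_c9 LD2_c39 LD3_c2)) = (LP (LK LD1_c4 LD2_c53 LD3_c34)) :=
  Lre_b IH (LK LD1_c9 LD2_c39 LD3_c2) (LK LD1_c4 LD2_c53 LD3_c34) Lrfl Lrfl
theorem f333497 : Led Lsl_bt (LP (LK LD1_c5 LD2_c3 LD3_c49)) = (LP (LK LD1_c9 LD2_c58 LD3_c35)) :=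
  Lre_b IH (LK LD1_c5 LD2_c3 LD3_c49) (LK LD1_c9 LD2_c58 LD3_c35) Lrfl Lrfl
theorem f333517 : Led Lsl_df (LP (LK LD1_c9 LD2_c39 LD3_c2)) = (LP (LK LD1_c9 LD2_c58 LD3_c35)) :=
  Lgr Lrot12 (Lpr_bt (f166678 IH) (Lpr_dt (f333487 IH) (Lpr_bt (f333497 IH) (Lpn (LP (LK LD1_c9 LD2_c58 LD3_c35))))))
theorem f230274 : Led Lsl_gt (LP (LK LD1_c4 LD2_c54 LD3_c8)) = (LP (LK LD1_c9 LD2_c39 LD3_c42)) :=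
  Lre_g IH (LK LD1_c4 LD2_c54 LD3_c8) (LK LD1_c9 LD2_c39 LD3_c42) Lrfl Lrfl
theorem f333489 : Led Lsl_ef (LP (LK LD1_c9 LD2_c39 LD3_c42)) = (LP (LK LD1_c5 LD2_c3 LD3_c49)) :=
  Lgr Lrot17 (Lpe (f230274 IH) (Lpe (K19.f229926 IH) (Lpr_dt (K12.f229924 IH) (Lpe (K12.f229932 IH) (Lpe (K14.f251621 IH) (Lpe (K14.f165336 IH) (Lpe (K17.f166624 IH) (Lpr_dt (K15.f166603 IH) (Lpe (f166638 IH) (Lpr_df (f333481 IH) (Lpn (LP (LK LD1_c5 LD2_c3 LD3_c49)))))))))))))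
theorem f333495 : Led Lsl_et (LP (LK LD1_c9 LD2_c39 LD3_c42)) = (LP (LK LD1_c5 LD2_c3 LD3_c49)) :=
  Lgr Lrot87 (Lpr_ef (f333489 IH) (Lpn (LP (LK LD1_c5 LD2_c3 LD3_c49))))
theorem f260075 : Led Lsl_bt (LP (LK LD1_c10 LD2_c8 LD3_c56)) = (LP (LK LD1_c18 LD2_c28 LD3_c61)) :=
  Lre_b IH (LK LD1_c10 LD2_c8 LD3_c56) (LK LD1_c18 LD2_c28 LD3_c61) Lrfl Lrfl
theorem f260073 : Led Lsl_cf (LP (LK LD1_c27 LD2_c34 LD3_c27)) = (LP (LK LD1_c18 LD2_c28 LD3_c61)) :=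
  Lgr Lrot11 (Lpr_ct (K21.f260065 IH) (Lpn (LP (LK LD1_c18 LD2_c28 LD3_c61))))
theorem f193170 : Led Lsl_bt (LP (LK LD1_c27 LD2_c34 LD3_c27)) = (LP (LK LD1_c17 LD2_c47 LD3_c28)) :=
  Lre_b IH (LK LD1_c27 LD2_c34 LD3_c27) (LK LD1_c17 LD2_c47 LD3_c28) Lrfl Lrfl
theorem f260118 : Led Lsl_bf (LP (LK LD1_c8 LD2_c5 LD3_c28)) = (LP (LK LD1_c10 LD2_c28 LD3_c8)) :=
  Lgr Lrot90 (Lpr_ct (K21.f260115 IH) (Lpr_bt (f260075 IH) (Lpe (f260073 IH) (Lpr_bt (f193170 IH) (Lpr_ct (K18.f193168 IH) (Lpn (LP (LK LD1_c10 LD2_c28 LD3_c8))))))))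
theorem f193172 : Led Lsl_ft (LP (LK LD1_c10 LD2_c28 LD3_c8)) = (LP (LK LD1_c5 LD2_c19 LD3_c11)) :=
  Lre_f IH (LK LD1_c10 LD2_c28 LD3_c8) (LK LD1_c5 LD2_c19 LD3_c11) Lrfl Lrfl
theorem f277607 : Led Lsl_df (LP (LK LD1_c10 LD2_c28 LD3_c8)) = (LP (LK LD1_c10 LD2_c15 LD3_c38)) :=
  Lgr Lrot78 (Lpr_ft (f193172 IH) (Lpe (K18.f246384 IH) (Lpr_ft (K16.f277603 IH) (Lpn (LP (LK LD1_c10 LD2_c15 LD3_c38))))))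
theorem f278223 : Led Lsl_ct (LP (LK LD1_c4 LD2_c5 LD3_c16)) = (LP (LK LD1_c8 LD2_c11 LD3_c21)) :=
  Lre_c IH (LK LD1_c4 LD2_c5 LD3_c16) (LK LD1_c8 LD2_c11 LD3_c21) Lrfl Lrfl
theorem f278241 : Led Lsl_gt (LP (LK LD1_c8 LD2_c11 LD3_c22)) = (LP (LK LD1_c4 LD2_c5 LD3_c16)) :=
  Lre_g IH (LK LD1_c8 LD2_c11 LD3_c22) (LK LD1_c4 LD2_c5 LD3_c16) Lrfl Lrfl
theorem f278242 : Led Lsl_df (LP (LK LD1_c8 LD2_c11 LD3_c22)) = (LP (LK LD1_c4 LD2_c54 LD3_c8)) :=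
  Lgr Lrot135 (Lpr_gt (f278241 IH) (Lpr_df (K16.f278217 IH) (Lpr_et (K19.f192138 IH) (Lpr_gt (K16.f192125 IH) (Lpe (K17.f257637 IH) (Lpr_dt (K19.f257611 IH) (Lpr_gt (K19.f247644 IH) (Lpe (K19.f257629 IH) (Lpr_et (K19.f230277 IH) (Lpr_gt (K19.f230276 IH) (Lpn (LP (LK LD1_c4 LD2_c54 LD3_c8)))))))))))))
theorem f248613 : Led Lsl_ct (LP (LK LD1_c9 LD2_c39 LD3_c42)) = (LP (LK LD1_c17 LD2_c46 LD3_c9)) :=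
  Lre_c IH (LK LD1_c9 LD2_c39 LD3_c42) (LK LD1_c17 LD2_c46 LD3_c9) Lrfl Lrfl
theorem f291887 : Led Lsl_gf (LP (LK LD1_c17 LD2_c47 LD3_c28)) = (LP (LK LD1_c17 LD2_c46 LD3_c9)) :=
  Lgr Lrot104 (Lpr_ct (K18.f193168 IH) (Lpr_df (f277607 IH) (Lpr_cf (K20.f291862 IH) (Lpe (K20.f278255 IH) (Lpe (f278223 IH) (Lpe (f278241 IH) (Lpr_df (f278242 IH) (Lpr_gt (f230274 IH) (Lpr_ct (f248613 IH) (Lpn (LP (LK LD1_c17 LD2_c46 LD3_c9))))))))))))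
theorem f285807 : Led Lsl_gt (LP (LK LD1_c5 LD2_c8 LD3_c57)) = (LP (LK LD1_c10 LD2_c8 LD3_c17)) :=
  Lre_g IH (LK LD1_c5 LD2_c8 LD3_c57) (LK LD1_c10 LD2_c8 LD3_c17) Lrfl Lrfl
theorem f320955 : Led Lsl_bt (LP (LK LD1_c9 LD2_c39 LD3_c42)) = (LP (LK LD1_c10 LD2_c8 LD3_c17)) :=
  Lgr Lrot92 (Lpr_ct (f248613 IH) (Lpe (f291887 IH) (Lpr_cf (K18.f193162 IH) (Lpe (f260118 IH) (Lpe (K19.f296427 IH) (Lpr_ct (K20.f320943 IH) (Lpr_gt (K20.f242839 IH) (Lpe (K20.f197201 IH) (Lpr_bt (K20.f287216 IH) (Lpr_gt (f285807 IH) (Lpn (LP (LK LD1_c10 LD2_c8 LD3_c17)))))))))))))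
theorem f320957 : Led Lsl_bf (LP (LK LD1_c9 LD2_c39 LD3_c42)) = (LP (LK LD1_c10 LD2_c8 LD3_c17)) :=
  Lgr Lrot24 (Lpr_bt (f320955 IH) (Lpn (LP (LK LD1_c10 LD2_c8 LD3_c17))))
theorem f333498 : Led Lsl_ef (LP (LK LD1_c10 LD2_c8 LD3_c17)) = (LP (LK LD1_c9 LD2_c58 LD3_c35)) :=
  Lgr Lrot29 (Lpe (f320957 IH) (Lpr_et (f333495 IH) (Lpr_bt (f333497 IH) (Lpn (LP (LK LD1_c9 LD2_c58 LD3_c35))))))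
theorem f285790 : Led Lsl_df (LP (LK LD1_c4 LD2_c22 LD3_c21)) = (LP (LK LD1_c2 LD2_c31 LD3_c38)) :=
  Lgr Lrot38 (Lpr_dt (K17.f285782 IH) (Lpn (LP (LK LD1_c2 LD2_c31 LD3_c38))))
theorem f333549 : Led Lsl_gt (LP (LK LD1_c9 LD2_c39 LD3_c2)) = (LP (LK LD1_c10 LD2_c24 LD3_c2)) :=
  Lgr Lrot112 (Lpr_df (f333517 IH) (Lpe (f333498 IH) (Lpe (f285807 IH) (Lpe (K17.f285792 IH) (Lpe (f285790 IH) (Lpr_gf (K17.f285799 IH) (Lpe (K16.f191768 IH) (Lpr_gf (K16.f274826 IH) (Lpe (K15.f231849 IH) (Lpe (K15.f263612 IH) (Lpn (LP (LK LD1_c10 LD2_c24 LD3_c2)))))))))))))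
theorem f333483 : Led Lsl_bt (LP (LK LD1_c4 LD2_c53 LD3_c34)) = (LP (LK LD1_c9 LD2_c39 LD3_c2)) :=
  Lre_b IH (LK LD1_c4 LD2_c53 LD3_c34) (LK LD1_c9 LD2_c39 LD3_c2) Lrfl Lrfl
theorem f166674 : Led Lsl_ct (LP (LK LD1_c4 LD2_c53 LD3_c34)) = (LP (LK LD1_c9 LD2_c39 LD3_c3)) :=
  Lre_c IH (LK LD1_c4 LD2_c53 LD3_c34) (LK LD1_c9 LD2_c39 LD3_c3) Lrfl Lrfl
theorem f254551 : Led Lsl_ct (LP (LK LD1_c8 LD2_c31 LD3_c35)) = (LP (LK LD1_c16 LD2_c0 LD3_c14)) :=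
  Lre_c IH (LK LD1_c8 LD2_c31 LD3_c35) (LK LD1_c16 LD2_c0 LD3_c14) Lrfl Lrfl
theorem f341729 : Led Lsl_gf (LP (LK LD1_c9 LD2_c39 LD3_c3)) = (LP (LK LD1_c16 LD2_c0 LD3_c14)) :=
  Lgr Lrot126 (Lpe (f166674 IH) (Lpr_bt (f333483 IH) (Lpr_gt (f333549 IH) (Lpr_ct (K17.f273753 IH) (Lpr_gt (f341726 IH) (Lpe (f47701 IH) (Lpe (f341720 IH) (Lpr_gt (K21.f285683 IH) (Lpe (K16.f254547 IH) (Lpr_ct (f254551 IH) (Lpn (LP (LK LD1_c16 LD2_c0 LD3_c14)))))))))))))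
theorem f270754 : Led Lsl_ft (LP (LK LD1_c16 LD2_c0 LD3_c14)) = (LP (LK LD1_c8 LD2_c31 LD3_c32)) :=
  Lre_f IH (LK LD1_c16 LD2_c0 LD3_c14) (LK LD1_c8 LD2_c31 LD3_c32) Lrfl Lrfl
theorem f326004 : Led Lsl_ft (LP (LK LD1_c19 LD2_c16 LD3_c44)) = (LP (LK LD1_c10 LD2_c38 LD3_c28)) :=
  Lre_f IH (LK LD1_c19 LD2_c16 LD3_c44) (LK LD1_c10 LD2_c38 LD3_c28) Lrfl Lrfl
theorem f326005 : Led Lsl_af (LP (LK LD1_c16 LD2_c2 LD3_c52)) = (LP (LK LD1_c10 LD2_c38 LD3_c28)) :=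
  Lgr Lrot31 (Lpe (K20.f258415 IH) (Lpr_gf (K21.f326002 IH) (Lpr_ft (f326004 IH) (Lpn (LP (LK LD1_c10 LD2_c38 LD3_c28))))))
theorem f326007 : Led Lsl_at (LP (LK LD1_c16 LD2_c2 LD3_c52)) = (LP (LK LD1_c10 LD2_c38 LD3_c28)) :=
  Lgr Lrot100 (Lpr_af (f326005 IH) (Lpn (LP (LK LD1_c10 LD2_c38 LD3_c28))))
theorem f326009 : Led Lsl_af (LP (LK LD1_c8 LD2_c32 LD3_c53)) = (LP (LK LD1_c5 LD2_c23 LD3_c55)) :=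
  Lgr Lrot117 (Lpr_dt (K20.f184359 IH) (Lpr_at (f326007 IH) (Lpr_dt (K18.f255591 IH) (Lpn (LP (LK LD1_c5 LD2_c23 LD3_c55))))))
theorem f309082 : Led Lsl_et (LP (LK LD1_c2 LD2_c38 LD3_c31)) = (LP (LK LD1_c5 LD2_c23 LD3_c55)) :=
  Lre_e IH (LK LD1_c2 LD2_c38 LD3_c31) (LK LD1_c5 LD2_c23 LD3_c55) Lrfl Lrfl
theorem f326013 : Led Lsl_at (LP (LK LD1_c4 LD2_c16 LD3_c46)) = (LP (LK LD1_c2 LD2_c38 LD3_c31)) :=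
  Lgr Lrot80 (Lpe (K20.f232268 IH) (Lpr_af (f326009 IH) (Lpe (f309082 IH) (Lpn (LP (LK LD1_c2 LD2_c38 LD3_c31))))))
theorem f184358 : Led Lsl_dt (LP (LK LD1_c2 LD2_c38 LD3_c31)) = (LP (LK LD1_c5 LD2_c23 LD3_c60)) :=
  Lre_d IH (LK LD1_c2 LD2_c38 LD3_c31) (LK LD1_c5 LD2_c23 LD3_c60) Lrfl Lrfl
theorem f326017 : Led Lsl_af (LP (LK LD1_c8 LD2_c32 LD3_c52)) = (LP (LK LD1_c5 LD2_c23 LD3_c60)) :=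
  Lgr Lrot117 (Lpr_dt (K16.f184254 IH) (Lpr_at (f326013 IH) (Lpr_dt (f184358 IH) (Lpn (LP (LK LD1_c5 LD2_c23 LD3_c60))))))
theorem f184310 : Led Lsl_dt (LP (LK LD1_c5 LD2_c23 LD3_c60)) = (LP (LK LD1_c2 LD2_c38 LD3_c31)) :=
  Lre_d IH (LK LD1_c5 LD2_c23 LD3_c60) (LK LD1_c2 LD2_c38 LD3_c31) Lrfl Lrfl
theorem f309089 : Led Lsl_ff (LP (LK LD1_c5 LD2_c23 LD3_c60)) = (LP (LK LD1_c8 LD2_c32 LD3_c59)) :=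
  Lgr Lrot19 (Lpr_dt (f184310 IH) (Lpr_ft (K19.f309085 IH) (Lpr_dt (K17.f251834 IH) (Lpn (LP (LK LD1_c8 LD2_c32 LD3_c59))))))
theorem f326023 : Led Lsl_gf (LP (LK LD1_c11 LD2_c52 LD3_c2)) = (LP (LK LD1_c8 LD2_c32 LD3_c59)) :=
  Lgr Lrot47 (Lpe (K16.f258316 IH) (Lpr_af (f326017 IH) (Lpr_ff (f309089 IH) (Lpn (LP (LK LD1_c8 LD2_c32 LD3_c59))))))
theorem f199942 : Led Lsl_dt (LP (LK LD1_c11 LD2_c52 LD3_c2)) = (LP (LK LD1_c6 LD2_c4 LD3_c17)) :=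
  Lre_d IH (LK LD1_c11 LD2_c52 LD3_c2) (LK LD1_c6 LD2_c4 LD3_c17) Lrfl Lrfl
theorem f270800 : Led Lsl_at (LP (LK LD1_c9 LD2_c37 LD3_c53)) = (LP (LK LD1_c11 LD2_c52 LD3_c2)) :=
  Lgr Lrot51 (Lpe (K16.f186943 IH) (Lpr_af (K16.f270794 IH) (Lpe (f199942 IH) (Lpn (LP (LK LD1_c11 LD2_c52 LD3_c2))))))
theorem f290181 : Led Lsl_gf (LP (LK LD1_c8 LD2_c32 LD3_c59)) = (LP (LK LD1_c11 LD2_c51 LD3_c61)) :=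
  Lgr Lrot143 (Lpr_dt (K17.f251829 IH) (Lpe (K17.f232824 IH) (Lpr_df (K17.f290168 IH) (Lpr_gf (K17.f290162 IH) (Lpe (K17.f7971 IH) (Lpe (K17.f284106 IH) (Lpe (K9.f29016 IH) (Lpr_gt (K12.f42091 IH) (Lpr_dt (K16.f42092 IH) (Lpn (LP (LK LD1_c11 LD2_c51 LD3_c61))))))))))))
theorem f326025 : Led Lsl_ff (LP (LK LD1_c9 LD2_c37 LD3_c53)) = (LP (LK LD1_c11 LD2_c51 LD3_c61)) :=
  Lgr Lrot52 (Lpr_at (f270800 IH) (Lpr_gf (f326023 IH) (Lpr_gf (f290181 IH) (Lpn (LP (LK LD1_c11 LD2_c51 LD3_c61))))))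
theorem f326028 : Led Lsl_ft (LP (LK LD1_c9 LD2_c37 LD3_c53)) = (LP (LK LD1_c11 LD2_c51 LD3_c61)) :=
  Lgr Lrot48 (Lpr_ff (f326025 IH) (Lpn (LP (LK LD1_c11 LD2_c51 LD3_c61))))
theorem f216739 : Led Lsl_dt (LP (LK LD1_c4 LD2_c21 LD3_c54)) = (LP (LK LD1_c8 LD2_c41 LD3_c27)) :=
  Lre_d IH (LK LD1_c4 LD2_c21 LD3_c54) (LK LD1_c8 LD2_c41 LD3_c27) Lrfl Lrfl
theorem f304504 : Led Lsl_gt (LP (LK LD1_c9 LD2_c37 LD3_c53)) = (LP (LK LD1_c5 LD2_c23 LD3_c60)) :=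
  Lgr Lrot49 (Lpe (K16.f186943 IH) (Lpe (K14.f232843 IH) (Lpe (K14.f170066 IH) (Lpr_gt (K18.f304498 IH) (Lpe (K18.f304494 IH) (Lpe (K20.f264922 IH) (Lpr_dt (K14.f41439 IH) (Lpe (K19.f184309 IH) (Lpe (f184310 IH) (Lpn (LP (LK LD1_c5 LD2_c23 LD3_c60))))))))))))
theorem f309101 : Led Lsl_gt (LP (LK LD1_c5 LD2_c23 LD3_c60)) = (LP (LK LD1_c10 LD2_c38 LD3_c40)) :=
  Lre_g IH (LK LD1_c5 LD2_c23 LD3_c60) (LK LD1_c10 LD2_c38 LD3_c40) Lrfl Lrfl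
theorem f326033 : Led Lsl_af (LP (LK LD1_c10 LD2_c38 LD3_c40)) = (LP (LK LD1_c11 LD2_c51 LD3_c61)) :=
  Lgr Lrot31 (Lpe (f309101 IH) (Lpe (f304504 IH) (Lpr_ft (f326028 IH) (Lpn (LP (LK LD1_c11 LD2_c51 LD3_c61))))))
theorem f326035 : Led Lsl_ct (LP (LK LD1_c8 LD2_c41 LD3_c27)) = (LP (LK LD1_c10 LD2_c38 LD3_c40)) :=
  Lgr Lrot98 (Lpe (f216739 IH) (Lpe (K13.f216731 IH) (Lpe (K12.f216734 IH) (Lpr_cf (K14.f256009 IH) (Lpr_df (K17.f229255 IH) (Lpe (K14.f6933 IH) (Lpe (K17.f6934 IH) (Lpr_ft (f326028 IH) (Lpe (f326033 IH) (Lpn (LP (LK LD1_c10 LD2_c38 LD3_c40))))))))))))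
theorem f326044 : Led Lsl_dt (LP (LK LD1_c6 LD2_c4 LD3_c20)) = (LP (LK LD1_c10 LD2_c38 LD3_c40)) :=
  Lgr Lrot113 (Lpe (K15.f29085 IH) (Lpe (K15.f29052 IH) (Lpr_gf (K15.f258397 IH) (Lpr_ct (K15.f262658 IH) (Lpe (K14.f222869 IH) (Lpr_dt (K12.f222213 IH) (Lpr_gt (K17.f251758 IH) (Lpr_dt (f216739 IH) (Lpr_ct (f326035 IH) (Lpn (LP (LK LD1_c10 LD2_c38 LD3_c40))))))))))))
theorem f326046 : Led Lsl_gf (LP (LK LD1_c8 LD2_c41 LD3_c27)) = (LP (LK LD1_c8 LD2_c36 LD3_c10)) :=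
  Lgr Lrot104 (Lpr_ct (f326035 IH) (Lpe (f326044 IH) (Lpr_cf (K15.f258431 IH) (Lpr_gf (K14.f256038 IH) (Lpr_cf (K17.f191977 IH) (Lpe (K11.f53366 IH) (Lpe (K17.f170631 IH) (Lpr_gt (K17.f192021 IH) (Lpe (K21.f290214 IH) (Lpn (LP (LK LD1_c8 LD2_c36 LD3_c10))))))))))))
theorem f166634 : Led Lsl_dt (LP (LK LD1_c4 LD2_c53 LD3_c32)) = (LP (LK LD1_c2 LD2_c24 LD3_c34)) :=
  Lre_d IH (LK LD1_c4 LD2_c53 LD3_c32) (LK LD1_c2 LD2_c24 LD3_c34) Lrfl Lrfl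
theorem f290230 : Led Lsl_gt (LP (LK LD1_c15 LD2_c27 LD3_c15)) = (LP (LK LD1_c8 LD2_c36 LD3_c10)) :=
  Lgr Lrot9 (Lpe (K16.f53947 IH) (Lpr_gt (K17.f257918 IH) (Lpr_ct (K14.f167248 IH) (Lpr_gt (K12.f167244 IH) (Lpr_ct (K16.f2860 IH) (Lpe (f166634 IH) (Lpr_cf (K17.f290216 IH) (Lpr_gf (K17.f290210 IH) (Lpe (K17.f290212 IH) (Lpn (LP (LK LD1_c8 LD2_c36 LD3_c10))))))))))))
theorem f270752 : Led Lsl_ft (LP (LK LD1_c15 LD2_c27 LD3_c15)) = (LP (LK LD1_c8 LD2_c31 LD3_c31)) :=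
  Lgr Lrot54 (Lpe (K16.f53947 IH) (Lpr_ff (K16.f270744 IH) (Lpe (K16.f221814 IH) (Lpn (LP (LK LD1_c8 LD2_c31 LD3_c31))))))
theorem f326049 : Led Lsl_af (LP (LK LD1_c8 LD2_c41 LD3_c27)) = (LP (LK LD1_c8 LD2_c31 LD3_c31)) :=
  Lgr Lrot31 (Lpr_gf (f326046 IH) (Lpe (f290230 IH) (Lpr_ft (f270752 IH) (Lpn (LP (LK LD1_c8 LD2_c31 LD3_c31))))))
theorem f216745 : Led Lsl_dt (LP (LK LD1_c8 LD2_c41 LD3_c27)) = (LP (LK LD1_c4 LD2_c21 LD3_c54)) :=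
  Lre_d IH (LK LD1_c8 LD2_c41 LD3_c27) (LK LD1_c4 LD2_c21 LD3_c54) Lrfl Lrfl
theorem f326055 : Led Lsl_at (LP (LK LD1_c4 LD2_c21 LD3_c54)) = (LP (LK LD1_c4 LD2_c16 LD3_c12)) :=
  Lgr Lrot51 (Lpe (f216745 IH) (Lpr_af (f326049 IH) (Lpe (K16.f221816 IH) (Lpn (LP (LK LD1_c4 LD2_c16 LD3_c12))))))
theorem f219179 : Led Lsl_et (LP (LK LD1_c8 LD2_c41 LD3_c28)) = (LP (LK LD1_c4 LD2_c21 LD3_c54)) :=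
  Lre_e IH (LK LD1_c8 LD2_c41 LD3_c28) (LK LD1_c4 LD2_c21 LD3_c54) Lrfl Lrfl
theorem f304573 : Led Lsl_et (LP (LK LD1_c4 LD2_c16 LD3_c12)) = (LP (LK LD1_c8 LD2_c31 LD3_c32)) :=
  Lre_e IH (LK LD1_c4 LD2_c16 LD3_c12) (LK LD1_c8 LD2_c31 LD3_c32) Lrfl Lrfl
theorem f326075 : Led Lsl_af (LP (LK LD1_c8 LD2_c41 LD3_c28)) = (LP (LK LD1_c8 LD2_c31 LD3_c32)) :=
  Lgr Lrot50 (Lpr_et (f219179 IH) (Lpr_at (f326055 IH) (Lpr_et (f304573 IH) (Lpn (LP (LK LD1_c8 LD2_c31 LD3_c32))))))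
theorem f341735 : Led Lsl_gt (LP (LK LD1_c9 LD2_c39 LD3_c3)) = (LP (LK LD1_c8 LD2_c41 LD3_c28)) :=
  Lgr Lrot46 (Lpr_gf (f341729 IH) (Lpr_ft (f270754 IH) (Lpe (f326075 IH) (Lpn (LP (LK LD1_c8 LD2_c41 LD3_c28))))))
theorem f333551 : Led Lsl_gf (LP (LK LD1_c9 LD2_c39 LD3_c2)) = (LP (LK LD1_c15 LD2_c6 LD3_c45)) :=
  Lgr Lrot47 (Lpr_gt (f333549 IH) (Lpr_af (K15.f263605 IH) (Lpe (K12.f33240 IH) (Lpn (LP (LK LD1_c15 LD2_c6 LD3_c45))))))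
theorem f236635 : Led Lsl_ct (LP (LK LD1_c8 LD2_c1 LD3_c33)) = (LP (LK LD1_c14 LD2_c57 LD3_c47)) :=
  Lgr Lrot59 (Lpr_cf (K16.f236631 IH) (Lpn (LP (LK LD1_c14 LD2_c57 LD3_c47))))
theorem f216796 : Led Lsl_ct (LP (LK LD1_c4 LD2_c21 LD3_c55)) = (LP (LK LD1_c8 LD2_c41 LD3_c28)) :=
  Lre_c IH (LK LD1_c4 LD2_c21 LD3_c55) (LK LD1_c8 LD2_c41 LD3_c28) Lrfl Lrfl
theorem f216774 : Led Lsl_bt (LP (LK LD1_c4 LD2_c21 LD3_c55)) = (LP (LK LD1_c2 LD2_c8 LD3_c28)) :=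
  Lre_b IH (LK LD1_c4 LD2_c21 LD3_c55) (LK LD1_c2 LD2_c8 LD3_c28) Lrfl Lrfl
theorem f216788 : Led Lsl_ct (LP (LK LD1_c4 LD2_c21 LD3_c59)) = (LP (LK LD1_c8 LD2_c41 LD3_c40)) :=
  Lre_c IH (LK LD1_c4 LD2_c21 LD3_c59) (LK LD1_c8 LD2_c41 LD3_c40) Lrfl Lrfl
theorem f341737 : Led Lsl_gf (LP (LK LD1_c14 LD2_c57 LD3_c47)) = (LP (LK LD1_c8 LD2_c41 LD3_c40)) :=
  Lgr Lrot129 (Lpe (f236635 IH) (Lpr_bt (K15.f33227 IH) (Lpe (f333551 IH) (Lpe (f333483 IH) (Lpr_ct (f166674 IH) (Lpr_gt (f341735 IH) (Lpe (f216796 IH) (Lpr_bt (f216774 IH) (Lpr_gt (K21.f216787 IH) (Lpr_ct (f216788 IH) (Lpn (LP (LK LD1_c8 LD2_c41 LD3_c40)))))))))))))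
theorem f341739 : Led Lsl_gt (LP (LK LD1_c4 LD2_c22 LD3_c5)) = (LP (LK LD1_c8 LD2_c41 LD3_c40)) :=
  Lgr Lrot5 (Lpr_ft (K16.f237515 IH) (Lpr_at (K21.f280218 IH) (Lpr_gf (f341737 IH) (Lpn (LP (LK LD1_c8 LD2_c41 LD3_c40))))))
theorem f236589 : Led Lsl_et (LP (LK LD1_c2 LD2_c8 LD3_c30)) = (LP (LK LD1_c4 LD2_c22 LD3_c5)) :=
  Lre_e IH (LK LD1_c2 LD2_c8 LD3_c30) (LK LD1_c4 LD2_c22 LD3_c5) Lrfl Lrfl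
theorem f341744 : Led Lsl_et (LP (LK LD1_c16 LD2_c17 LD3_c2)) = (LP (LK LD1_c8 LD2_c41 LD3_c40)) :=
  Lre_e IH (LK LD1_c16 LD2_c17 LD3_c2) (LK LD1_c8 LD2_c41 LD3_c40) Lrfl Lrfl
theorem f341901 : Led Lsl_df (LP (LK LD1_c17 LD2_c54 LD3_c16)) = (LP (LK LD1_c16 LD2_c17 LD3_c2)) :=
  Lgr Lrot170 (Lpr_gt (K20.f168510 IH) (Lpe (K18.f229912 IH) (Lpr_et (K19.f229911 IH) (Lpr_gt (K13.f168372 IH) (Lpr_dt (K16.f238946 IH) (Lpe (K13.f236573 IH) (Lpe (K13.f39040 IH) (Lpr_et (f236589 IH) (Lpr_gt (f341739 IH) (Lpe (f341744 IH) (Lpn (LP (LK LD1_c16 LD2_c17 LD3_c2)))))))))))))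
theorem f341903 : Led Lsl_dt (LP (LK LD1_c17 LD2_c54 LD3_c16)) = (LP (LK LD1_c16 LD2_c17 LD3_c2)) :=
  Lgr Lrot42 (Lpr_df (f341901 IH) (Lpn (LP (LK LD1_c16 LD2_c17 LD3_c2))))
theorem f341905 : Led Lsl_dt (LP (LK LD1_c8 LD2_c36 LD3_c45)) = (LP (LK LD1_c8 LD2_c41 LD3_c42)) :=
  Lgr Lrot105 (Lpe (K18.f262149 IH) (Lpe (K13.f28854 IH) (Lpe (K18.f296398 IH) (Lpr_cf (K18.f299004 IH) (Lpe (K18.f298998 IH) (Lpr_dt (K18.f200510 IH) (Lpr_gt (K20.f298029 IH) (Lpr_dt (f341903 IH) (Lpe (K21.f328675 IH) (Lpn (LP (LK LD1_c8 LD2_c41 LD3_c42))))))))))))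
theorem f296390 : Led Lsl_et (LP (LK LD1_c8 LD2_c36 LD3_c45)) = (LP (LK LD1_c16 LD2_c8 LD3_c9)) :=
  Lre_e IH (LK LD1_c8 LD2_c36 LD3_c45) (LK LD1_c16 LD2_c8 LD3_c9) Lrfl Lrfl
theorem f341907 : Led Lsl_gt (LP (LK LD1_c16 LD2_c8 LD3_c9)) = (LP (LK LD1_c9 LD2_c53 LD3_c3)) :=
  Lgr Lrot137 (Lpe (f296390 IH) (Lpr_dt (f341905 IH) (Lpr_gf (K21.f328669 IH) (Lpe (K21.f259093 IH) (Lpe (K21.f328120 IH) (Lpr_gf (K21.f293292 IH) (Lpe (K17.f293228 IH) (Lpr_dt (K16.f247922 IH) (Lpr_gf (K20.f314281 IH) (Lpe (K21.f252727 IH) (Lpn (LP (LK LD1_c9 LD2_c53 LD3_c3)))))))))))))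
theorem f247924 : Led Lsl_dt (LP (LK LD1_c15 LD2_c19 LD3_c38)) = (LP (LK LD1_c8 LD2_c8 LD3_c23)) :=
  Lre_d IH (LK LD1_c15 LD2_c19 LD3_c38) (LK LD1_c8 LD2_c8 LD3_c23) Lrfl Lrfl
theorem f223618 : Led Lsl_ft (LP (LK LD1_c15 LD2_c9 LD3_c14)) = (LP (LK LD1_c24 LD2_c58 LD3_c16)) :=
  Lre_f IH (LK LD1_c15 LD2_c9 LD3_c14) (LK LD1_c24 LD2_c58 LD3_c16) Lrfl Lrfl
theorem f269275 : Led Lsl_dt (LP (LK LD1_c15 LD2_c9 LD3_c15)) = (LP (LK LD1_c24 LD2_c58 LD3_c16)) :=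
  Lre_d IH (LK LD1_c15 LD2_c9 LD3_c15) (LK LD1_c24 LD2_c58 LD3_c16) Lrfl Lrfl
theorem f269311 : Led Lsl_at (LP (LK LD1_c24 LD2_c58 LD3_c16)) = (LP (LK LD1_c15 LD2_c19 LD3_c38)) :=
  Lgr Lrot51 (Lpe (f269275 IH) (Lpr_af (K16.f269296 IH) (Lpe (f247924 IH) (Lpn (LP (LK LD1_c15 LD2_c19 LD3_c38))))))
theorem f274749 : Led Lsl_gt (LP (LK LD1_c19 LD2_c57 LD3_c13)) = (LP (LK LD1_c15 LD2_c19 LD3_c38)) :=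
  Lgr Lrot46 (Lpr_gf (K16.f274747 IH) (Lpr_ft (f223618 IH) (Lpr_at (f269311 IH) (Lpn (LP (LK LD1_c15 LD2_c19 LD3_c38))))))
theorem f216507 : Led Lsl_gt (LP (LK LD1_c19 LD2_c57 LD3_c12)) = (LP (LK LD1_c11 LD2_c4 LD3_c33)) :=
  Lre_g IH (LK LD1_c19 LD2_c57 LD3_c12) (LK LD1_c11 LD2_c4 LD3_c33) Lrfl Lrfl
theorem f341909 : Led Lsl_ct (LP (LK LD1_c16 LD2_c8 LD3_c9)) = (LP (LK LD1_c19 LD2_c57 LD3_c12)) :=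
  Lgr Lrot8 (Lpr_gt (f341907 IH) (Lpr_dt (K21.f252727 IH) (Lpe (K20.f314281 IH) (Lpr_dt (K17.f269307 IH) (Lpe (K17.f247923 IH) (Lpe (f247924 IH) (Lpe (f274749 IH) (Lpe (K16.f259097 IH) (Lpe (f216507 IH) (Lpn (LP (LK LD1_c19 LD2_c57 LD3_c12))))))))))))
theorem f274763 : Led Lsl_ct (LP (LK LD1_c9 LD2_c51 LD3_c58)) = (LP (LK LD1_c5 LD2_c0 LD3_c48)) :=
  Lre_c IH (LK LD1_c9 LD2_c51 LD3_c58) (LK LD1_c5 LD2_c0 LD3_c48) Lrfl Lrfl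
theorem f304346 : Led Lsl_gt (LP (LK LD1_c10 LD2_c7 LD3_c40)) = (LP (LK LD1_c9 LD2_c51 LD3_c58)) :=
  Lgr Lrot5 (Lpr_ft (K18.f293554 IH) (Lpr_at (K18.f247912 IH) (Lpr_gf (K20.f304344 IH) (Lpn (LP (LK LD1_c9 LD2_c51 LD3_c58))))))
theorem f293561 : Led Lsl_ff (LP (LK LD1_c10 LD2_c7 LD3_c40)) = (LP (LK LD1_c9 LD2_c53 LD3_c9)) :=
  Lgr Lrot3 (Lpr_ft (K18.f293554 IH) (Lpn (LP (LK LD1_c9 LD2_c53 LD3_c9))))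
theorem f293566 : Led Lsl_ct (LP (LK LD1_c10 LD2_c7 LD3_c40)) = (LP (LK LD1_c8 LD2_c2 LD3_c58)) :=
  Lgr Lrot40 (Lpr_ff (f293561 IH) (Lpe (K19.f269285 IH) (Lpe (K18.f269248 IH) (Lpn (LP (LK LD1_c8 LD2_c2 LD3_c58))))))
theorem f293578 : Led Lsl_cf (LP (LK LD1_c10 LD2_c7 LD3_c40)) = (LP (LK LD1_c8 LD2_c2 LD3_c58)) :=
  Lgr Lrot11 (Lpr_ct (f293566 IH) (Lpn (LP (LK LD1_c8 LD2_c2 LD3_c58))))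
theorem f28020 : Led Lsl_gt (LP (LK LD1_c15 LD2_c9 LD3_c19)) = (LP (LK LD1_c8 LD2_c2 LD3_c58)) :=
  Lre_g IH (LK LD1_c15 LD2_c9 LD3_c19) (LK LD1_c8 LD2_c2 LD3_c58) Lrfl Lrfl
theorem f216329 : Led Lsl_et (LP (LK LD1_c1 LD2_c0 LD3_c30)) = (LP (LK LD1_c2 LD2_c7 LD3_c0)) :=
  Lre_e IH (LK LD1_c1 LD2_c0 LD3_c30) (LK LD1_c2 LD2_c7 LD3_c0) Lrfl Lrfl
theorem f216330 : Led Lsl_gt (LP (LK LD1_c2 LD2_c7 LD3_c0)) = (LP (LK LD1_c4 LD2_c19 LD3_c13)) :=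
  Lre_g IH (LK LD1_c2 LD2_c7 LD3_c0) (LK LD1_c4 LD2_c19 LD3_c13) Lrfl Lrfl
theorem f216334 : Led Lsl_et (LP (LK LD1_c8 LD2_c36 LD3_c55)) = (LP (LK LD1_c4 LD2_c19 LD3_c13)) :=
  Lre_e IH (LK LD1_c8 LD2_c36 LD3_c55) (LK LD1_c4 LD2_c19 LD3_c13) Lrfl Lrfl
theorem f216335 : Led Lsl_dt (LP (LK LD1_c8 LD2_c36 LD3_c55)) = (LP (LK LD1_c15 LD2_c9 LD3_c19)) :=
  Lgr Lrot136 (Lpr_et (f216334 IH) (Lpe (f216330 IH) (Lpe (f216329 IH) (Lpr_dt (K12.f8008 IH) (Lpr_gf (K12.f216309 IH) (Lpe (K9.f27968 IH) (Lpe (K12.f27976 IH) (Lpe (K16.f28018 IH) (Lpr_dt (K18.f28019 IH) (Lpe (f28020 IH) (Lpn (LP (LK LD1_c15 LD2_c9 LD3_c19)))))))))))))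
theorem f341986 : Led Lsl_gf (LP (LK LD1_c16 LD2_c8 LD3_c9)) = (LP (LK LD1_c8 LD2_c36 LD3_c55)) :=
  Lgr Lrot147 (Lpr_ct (f341909 IH) (Lpr_gt (f216507 IH) (Lpr_ct (K16.f274752 IH) (Lpe (K16.f274663 IH) (Lpe (f274763 IH) (Lpe (f304346 IH) (Lpr_cf (f293578 IH) (Lpe (f28020 IH) (Lpe (f216335 IH) (Lpn (LP (LK LD1_c8 LD2_c36 LD3_c55))))))))))))
theorem f341911 : Led Lsl_cf (LP (LK LD1_c16 LD2_c8 LD3_c9)) = (LP (LK LD1_c19 LD2_c57 LD3_c12)) :=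
  Lgr Lrot166 (Lpr_gt (f341907 IH) (Lpr_dt (K21.f252727 IH) (Lpe (K20.f314281 IH) (Lpr_dt (K17.f269307 IH) (Lpr_ct (K16.f269295 IH) (Lpe (f247924 IH) (Lpe (f274749 IH) (Lpe (K16.f259097 IH) (Lpe (f216507 IH) (Lpn (LP (LK LD1_c19 LD2_c57 LD3_c12))))))))))))
theorem f228074 : Led Lsl_et (LP (LK LD1_c16 LD2_c8 LD3_c9)) = (LP (LK LD1_c8 LD2_c36 LD3_c45)) :=
  Lre_e IH (LK LD1_c16 LD2_c8 LD3_c9) (LK LD1_c8 LD2_c36 LD3_c45) Lrfl Lrfl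
theorem f341915 : Led Lsl_et (LP (LK LD1_c15 LD2_c22 LD3_c15)) = (LP (LK LD1_c19 LD2_c57 LD3_c12)) :=
  Lgr Lrot158 (Lpr_cf (K18.f296354 IH) (Lpe (f228074 IH) (Lpr_cf (f341911 IH) (Lpn (LP (LK LD1_c19 LD2_c57 LD3_c12))))))
theorem f341919 : Led Lsl_ef (LP (LK LD1_c15 LD2_c22 LD3_c15)) = (LP (LK LD1_c19 LD2_c57 LD3_c12)) :=
  Lgr Lrot88 (Lpr_et (f341915 IH) (Lpn (LP (LK LD1_c19 LD2_c57 LD3_c12))))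
theorem f227075 : Led Lsl_gt (LP (LK LD1_c4 LD2_c3 LD3_c56)) = (LP (LK LD1_c8 LD2_c8 LD3_c20)) :=
  Lre_g IH (LK LD1_c4 LD2_c3 LD3_c56) (LK LD1_c8 LD2_c8 LD3_c20) Lrfl Lrfl
theorem f227076 : Led Lsl_dt (LP (LK LD1_c8 LD2_c8 LD3_c20)) = (LP (LK LD1_c15 LD2_c19 LD3_c31)) :=
  Lre_d IH (LK LD1_c8 LD2_c8 LD3_c20) (LK LD1_c15 LD2_c19 LD3_c31) Lrfl Lrfl
theorem f227077 : Led Lsl_gt (LP (LK LD1_c15 LD2_c19 LD3_c31)) = (LP (LK LD1_c25 LD2_c10 LD3_c32)) :=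
  Lre_g IH (LK LD1_c15 LD2_c19 LD3_c31) (LK LD1_c25 LD2_c10 LD3_c32) Lrfl Lrfl
theorem f341927 : Led Lsl_df (LP (LK LD1_c25 LD2_c10 LD3_c32)) = (LP (LK LD1_c19 LD2_c57 LD3_c12)) :=
  Lgr Lrot132 (Lpe (f227077 IH) (Lpe (f227076 IH) (Lpe (f227075 IH) (Lpe (K16.f226980 IH) (Lpe (K11.f200801 IH) (Lpe (K13.f226984 IH) (Lpe (K15.f238498 IH) (Lpr_et (K18.f238500 IH) (Lpe (K18.f236912 IH) (Lpr_ef (f341919 IH) (Lpn (LP (LK LD1_c19 LD2_c57 LD3_c12)))))))))))))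
theorem f341932 : Led Lsl_dt (LP (LK LD1_c25 LD2_c10 LD3_c32)) = (LP (LK LD1_c19 LD2_c57 LD3_c12)) :=
  Lgr Lrot42 (Lpr_df (f341927 IH) (Lpn (LP (LK LD1_c19 LD2_c57 LD3_c12))))
theorem f253145 : Led Lsl_ct (LP (LK LD1_c4 LD2_c3 LD3_c56)) = (LP (LK LD1_c1 LD2_c58 LD3_c58)) :=
  Lre_c IH (LK LD1_c4 LD2_c3 LD3_c56) (LK LD1_c1 LD2_c58 LD3_c58) Lrfl Lrfl
theorem f227984 : Led Lsl_gt (LP (LK LD1_c1 LD2_c58 LD3_c58)) = (LP (LK LD1_c4 LD2_c3 LD3_c57)) :=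
  Lre_g IH (LK LD1_c1 LD2_c58 LD3_c58) (LK LD1_c4 LD2_c3 LD3_c57) Lrfl Lrfl
theorem f293081 : Led Lsl_dt (LP (LK LD1_c4 LD2_c3 LD3_c57)) = (LP (LK LD1_c8 LD2_c8 LD3_c26)) :=
  Lre_d IH (LK LD1_c4 LD2_c3 LD3_c57) (LK LD1_c8 LD2_c8 LD3_c26) Lrfl Lrfl
theorem f341934 : Led Lsl_gt (LP (LK LD1_c8 LD2_c8 LD3_c26)) = (LP (LK LD1_c15 LD2_c19 LD3_c43)) :=
  Lre_g IH (LK LD1_c8 LD2_c8 LD3_c26) (LK LD1_c15 LD2_c19 LD3_c43) Lrfl Lrfl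
theorem f341935 : Led Lsl_dt (LP (LK LD1_c15 LD2_c19 LD3_c43)) = (LP (LK LD1_c16 LD2_c8 LD3_c9)) :=
  Lgr Lrot105 (Lpe (f341934 IH) (Lpe (f293081 IH) (Lpe (f227984 IH) (Lpe (f253145 IH) (Lpr_gt (f227075 IH) (Lpr_dt (f227076 IH) (Lpr_gt (f227077 IH) (Lpr_dt (f341932 IH) (Lpe (f341909 IH) (Lpn (LP (LK LD1_c16 LD2_c8 LD3_c9))))))))))))
theorem f330314 : Led Lsl_gt (LP (LK LD1_c2 LD2_c28 LD3_c23)) = (LP (LK LD1_c5 LD2_c1 LD3_c0)) :=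
  Lgr Lrot46 (Lpe (K15.f259077 IH) (Lpe (K21.f330299 IH) (Lpr_at (K21.f330308 IH) (Lpn (LP (LK LD1_c5 LD2_c1 LD3_c0))))))
theorem f338267 : Led Lsl_df (LP (LK LD1_c4 LD2_c16 LD3_c59)) = (LP (LK LD1_c5 LD2_c1 LD3_c0)) :=
  Lgr Lrot38 (Lpr_dt (K22.f338261 IH) (Lpn (LP (LK LD1_c5 LD2_c1 LD3_c0))))
theorem f338273 : Led Lsl_gt (LP (LK LD1_c4 LD2_c16 LD3_c59)) = (LP (LK LD1_c2 LD2_c23 LD3_c23)) :=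
  Lgr Lrot146 (Lpr_dt (K22.f338261 IH) (Lpr_gt (K15.f184127 IH) (Lpr_ct (K15.f184755 IH) (Lpr_gt (K15.f252743 IH) (Lpr_ct (K15.f3749 IH) (Lpr_dt (K16.f274673 IH) (Lpr_cf (K17.f265627 IH) (Lpe (K17.f274669 IH) (Lpe (K13.f33384 IH) (Lpn (LP (LK LD1_c2 LD2_c23 LD3_c23))))))))))))
theorem f341945 : Led Lsl_et (LP (LK LD1_c15 LD2_c19 LD3_c43)) = (LP (LK LD1_c8 LD2_c41 LD3_c41)) :=
  Lgr Lrot122 (Lpr_dt (f341935 IH) (Lpr_gt (f341907 IH) (Lpe (K15.f252689 IH) (Lpr_et (K15.f252696 IH) (Lpr_gt (f330314 IH) (Lpe (f338267 IH) (Lpr_gt (f338273 IH) (Lpr_df (K10.f186857 IH) (Lpr_et (K20.f186896 IH) (Lpe (K21.f328666 IH) (Lpn (LP (LK LD1_c8 LD2_c41 LD3_c41)))))))))))))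
theorem f293327 : Led Lsl_ft (LP (LK LD1_c2 LD2_c33 LD3_c14)) = (LP (LK LD1_c5 LD2_c12 LD3_c50)) :=
  Lre_f IH (LK LD1_c2 LD2_c33 LD3_c14) (LK LD1_c5 LD2_c12 LD3_c50) Lrfl Lrfl
theorem f293328 : Led Lsl_gt (LP (LK LD1_c5 LD2_c12 LD3_c47)) = (LP (LK LD1_c8 LD2_c38 LD3_c52)) :=
  Lgr Lrot46 (Lpe (K20.f171686 IH) (Lpr_ft (f293327 IH) (Lpr_at (K18.f293318 IH) (Lpn (LP (LK LD1_c8 LD2_c38 LD3_c52))))))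
theorem f216338 : Led Lsl_df (LP (LK LD1_c8 LD2_c36 LD3_c55)) = (LP (LK LD1_c15 LD2_c9 LD3_c19)) :=
  Lgr Lrot38 (Lpr_dt (f216335 IH) (Lpn (LP (LK LD1_c15 LD2_c9 LD3_c19))))
theorem f341990 : Led Lsl_gt (LP (LK LD1_c8 LD2_c8 LD3_c32)) = (LP (LK LD1_c15 LD2_c9 LD3_c19)) :=
  Lgr Lrot137 (Lpr_ef (K17.f293224 IH) (Lpe (K17.f265350 IH) (Lpe (f293328 IH) (Lpe (K20.f196121 IH) (Lpr_et (K20.f320807 IH) (Lpe (K21.f328664 IH) (Lpe (f341945 IH) (Lpr_dt (f341935 IH) (Lpr_gf (f341986 IH) (Lpr_df (f216338 IH) (Lpn (LP (LK LD1_c15 LD2_c9 LD3_c19)))))))))))))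
theorem f341998 : Led Lsl_gf (LP (LK LD1_c4 LD2_c3 LD3_c51)) = (LP (LK LD1_c4 LD2_c19 LD3_c13)) :=
  Lgr Lrot141 (Lpe (K15.f256742 IH) (Lpe (K10.f187941 IH) (Lpr_gt (K19.f256624 IH) (Lpr_df (K19.f305572 IH) (Lpe (K19.f305576 IH) (Lpr_gt (K19.f269300 IH) (Lpr_dt (K16.f247922 IH) (Lpr_gt (f341990 IH) (Lpe (f216335 IH) (Lpr_et (f216334 IH) (Lpn (LP (LK LD1_c4 LD2_c19 LD3_c13)))))))))))))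
theorem f216341 : Led Lsl_dt (LP (LK LD1_c8 LD2_c36 LD3_c54)) = (LP (LK LD1_c4 LD2_c19 LD3_c13)) :=
  Lre_d IH (LK LD1_c8 LD2_c36 LD3_c54) (LK LD1_c4 LD2_c19 LD3_c13) Lrfl Lrfl
theorem f216331 : Led Lsl_dt (LP (LK LD1_c4 LD2_c19 LD3_c13)) = (LP (LK LD1_c8 LD2_c36 LD3_c54)) :=
  Lre_d IH (LK LD1_c4 LD2_c19 LD3_c13) (LK LD1_c8 LD2_c36 LD3_c54) Lrfl Lrfl
theorem f238541 : Led Lsl_gf (LP (LK LD1_c8 LD2_c18 LD3_c36)) = (LP (LK LD1_c8 LD2_c36 LD3_c54)) :=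
  Lgr Lrot134 (Lpr_df (K15.f238536 IH) (Lpr_et (K15.f28015 IH) (Lpr_gt (K15.f27998 IH) (Lpe (K9.f27967 IH) (Lpr_dt (K9.f27968 IH) (Lpe (K12.f216309 IH) (Lpe (K12.f8008 IH) (Lpr_et (f216329 IH) (Lpr_gt (f216330 IH) (Lpr_dt (f216331 IH) (Lpn (LP (LK LD1_c8 LD2_c36 LD3_c54)))))))))))))
theorem f238553 : Led Lsl_ct (LP (LK LD1_c8 LD2_c36 LD3_c58)) = (LP (LK LD1_c4 LD2_c19 LD3_c15)) :=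
  Lre_c IH (LK LD1_c8 LD2_c36 LD3_c58) (LK LD1_c4 LD2_c19 LD3_c15) Lrfl Lrfl
theorem f238761 : Led Lsl_ct (LP (LK LD1_c8 LD2_c18 LD3_c36)) = (LP (LK LD1_c9 LD2_c35 LD3_c17)) :=
  Lgr Lrot8 (Lpr_gt (K15.f238529 IH) (Lpe (K15.f238527 IH) (Lpr_gt (K15.f228078 IH) (Lpr_dt (K13.f228069 IH) (Lpe (f238553 IH) (Lpe (K18.f238552 IH) (Lpr_gf (K18.f238759 IH) (Lpe (K18.f200078 IH) (Lpe (K18.f171136 IH) (Lpn (LP (LK LD1_c9 LD2_c35 LD3_c17))))))))))))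
theorem f342000 : Led Lsl_gt (LP (LK LD1_c8 LD2_c7 LD3_c61)) = (LP (LK LD1_c8 LD2_c10 LD3_c16)) :=
  Lgr Lrot150 (Lpe (K15.f256741 IH) (Lpr_gf (f341998 IH) (Lpe (f216341 IH) (Lpe (f238541 IH) (Lpr_ct (f238761 IH) (Lpr_gt (K18.f171136 IH) (Lpr_ct (K22.f171073 IH) (Lpe (K19.f224896 IH) (Lpe (K19.f224904 IH) (Lpn (LP (LK LD1_c8 LD2_c10 LD3_c16))))))))))))
theorem f224888 : Led Lsl_bt (LP (LK LD1_c4 LD2_c4 LD3_c42)) = (LP (LK LD1_c8 LD2_c10 LD3_c15)) :=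
  Lre_b IH (LK LD1_c4 LD2_c4 LD3_c42) (LK LD1_c8 LD2_c10 LD3_c15) Lrfl Lrfl
theorem f224908 : Led Lsl_bt (LP (LK LD1_c8 LD2_c10 LD3_c15)) = (LP (LK LD1_c4 LD2_c4 LD3_c42)) :=
  Lre_b IH (LK LD1_c8 LD2_c10 LD3_c15) (LK LD1_c4 LD2_c4 LD3_c42) Lrfl Lrfl
theorem f171072 : Led Lsl_bt (LP (LK LD1_c2 LD2_c23 LD3_c39)) = (LP (LK LD1_c4 LD2_c51 LD3_c31)) :=
  Lre_b IH (LK LD1_c2 LD2_c23 LD3_c39) (LK LD1_c4 LD2_c51 LD3_c31) Lrfl Lrfl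
theorem f224909 : Led Lsl_df (LP (LK LD1_c8 LD2_c10 LD3_c15)) = (LP (LK LD1_c4 LD2_c51 LD3_c31)) :=
  Lgr Lrot12 (Lpr_bt (f224908 IH) (Lpr_dt (K19.f224896 IH) (Lpr_bt (f171072 IH) (Lpn (LP (LK LD1_c4 LD2_c51 LD3_c31))))))
theorem f266447 : Led Lsl_gt (LP (LK LD1_c8 LD2_c10 LD3_c15)) = (LP (LK LD1_c4 LD2_c55 LD3_c7)) :=
  Lgr Lrot112 (Lpr_df (f224909 IH) (Lpr_et (K20.f171048 IH) (Lpe (K11.f191970 IH) (Lpr_ef (K12.f49145 IH) (Lpr_dt (K10.f48164 IH) (Lpe (K16.f262836 IH) (Lpe (K16.f220501 IH) (Lpr_gf (K15.f266437 IH) (Lpe (K21.f220096 IH) (Lpr_dt (K21.f246706 IH) (Lpn (LP (LK LD1_c4 LD2_c55 LD3_c7)))))))))))))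
theorem f291333 : Led Lsl_bt (LP (LK LD1_c2 LD2_c25 LD3_c31)) = (LP (LK LD1_c4 LD2_c55 LD3_c7)) :=
  Lre_b IH (LK LD1_c2 LD2_c25 LD3_c31) (LK LD1_c4 LD2_c55 LD3_c7) Lrfl Lrfl
theorem f291332 : Led Lsl_ct (LP (LK LD1_c2 LD2_c25 LD3_c31)) = (LP (LK LD1_c4 LD2_c55 LD3_c13)) :=
  Lre_c IH (LK LD1_c2 LD2_c25 LD3_c31) (LK LD1_c4 LD2_c55 LD3_c13) Lrfl Lrfl
theorem f307105 : Led Lsl_gt (LP (LK LD1_c4 LD2_c55 LD3_c13)) = (LP (LK LD1_c9 LD2_c41 LD3_c59)) :=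
  Lre_g IH (LK LD1_c4 LD2_c55 LD3_c13) (LK LD1_c9 LD2_c41 LD3_c59) Lrfl Lrfl
theorem f247363 : Led Lsl_bt (LP (LK LD1_c8 LD2_c36 LD3_c53)) = (LP (LK LD1_c4 LD2_c19 LD3_c13)) :=
  Lre_b IH (LK LD1_c8 LD2_c36 LD3_c53) (LK LD1_c4 LD2_c19 LD3_c13) Lrfl Lrfl
theorem f342002 : Led Lsl_cf (LP (LK LD1_c9 LD2_c41 LD3_c59)) = (LP (LK LD1_c8 LD2_c36 LD3_c53)) :=
  Lgr Lrot58 (Lpe (f307105 IH) (Lpe (f291332 IH) (Lpr_bt (f291333 IH) (Lpe (f266447 IH) (Lpe (f224888 IH) (Lpr_ct (K21.f224891 IH) (Lpe (f342000 IH) (Lpe (K15.f256741 IH) (Lpr_gf (f341998 IH) (Lpe (f247363 IH) (Lpn (LP (LK LD1_c8 LD2_c36 LD3_c53)))))))))))))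
theorem f321404 : Led Lsl_ct (LP (LK LD1_c9 LD2_c0 LD3_c59)) = (LP (LK LD1_c8 LD2_c54 LD3_c2)) :=
  Lgr Lrot59 (Lpr_cf (K20.f321397 IH) (Lpn (LP (LK LD1_c8 LD2_c54 LD3_c2))))
theorem f331018 : Led Lsl_bf (LP (LK LD1_c15 LD2_c36 LD3_c27)) = (LP (LK LD1_c9 LD2_c1 LD3_c13)) :=
  Lgr Lrot61 (Lpr_ft (K21.f219318 IH) (Lpe (K22.f254908 IH) (Lpr_ft (K21.f331014 IH) (Lpn (LP (LK LD1_c9 LD2_c1 LD3_c13))))))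
theorem f307067 : Led Lsl_ct (LP (LK LD1_c9 LD2_c1 LD3_c13)) = (LP (LK LD1_c16 LD2_c51 LD3_c12)) :=
  Lre_c IH (LK LD1_c9 LD2_c1 LD3_c13) (LK LD1_c16 LD2_c51 LD3_c12) Lrfl Lrfl
theorem f342013 : Led Lsl_gt (LP (LK LD1_c9 LD2_c41 LD3_c59)) = (LP (LK LD1_c16 LD2_c51 LD3_c12)) :=
  Lgr Lrot65 (Lpr_cf (f342002 IH) (Lpr_bt (f247363 IH) (Lpe (f216330 IH) (Lpr_bf (K14.f247344 IH) (Lpr_ct (K20.f247361 IH) (Lpe (K20.f247362 IH) (Lpe (f321404 IH) (Lpr_gf (K21.f329533 IH) (Lpr_bf (f331018 IH) (Lpr_ct (f307067 IH) (Lpn (LP (LK LD1_c16 LD2_c51 LD3_c12)))))))))))))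
theorem f212615 : Led Lsl_ct (LP (LK LD1_c4 LD2_c31 LD3_c29)) = (LP (LK LD1_c9 LD2_c0 LD3_c60)) :=
  Lre_c IH (LK LD1_c4 LD2_c31 LD3_c29) (LK LD1_c9 LD2_c0 LD3_c60) Lrfl Lrfl
theorem f265299 : Led Lsl_ef (LP (LK LD1_c9 LD2_c0 LD3_c60)) = (LP (LK LD1_c5 LD2_c4 LD3_c59)) :=
  Lgr Lrot28 (Lpr_ct (K20.f212613 IH) (Lpr_et (K14.f247071 IH) (Lpr_ct (K15.f265291 IH) (Lpn (LP (LK LD1_c5 LD2_c4 LD3_c59))))))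
theorem f310685 : Led Lsl_gt (LP (LK LD1_c9 LD2_c0 LD3_c60)) = (LP (LK LD1_c10 LD2_c37 LD3_c21)) :=
  Lgr Lrot131 (Lpr_ef (f265299 IH) (Lpr_dt (K16.f242040 IH) (Lpe (K16.f255270 IH) (Lpe (K15.f201748 IH) (Lpe (K13.f33021 IH) (Lpr_ef (K16.f54205 IH) (Lpr_dt (K12.f53710 IH) (Lpe (K19.f53690 IH) (Lpr_df (K19.f310667 IH) (Lpr_et (K18.f279477 IH) (Lpn (LP (LK LD1_c10 LD2_c37 LD3_c21)))))))))))))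
theorem f279474 : Led Lsl_ct (LP (LK LD1_c5 LD2_c23 LD3_c25)) = (LP (LK LD1_c10 LD2_c37 LD3_c21)) :=
  Lre_c IH (LK LD1_c5 LD2_c23 LD3_c25) (LK LD1_c10 LD2_c37 LD3_c21) Lrfl Lrfl
theorem f342017 : Led Lsl_gf (LP (LK LD1_c8 LD2_c36 LD3_c53)) = (LP (LK LD1_c5 LD2_c20 LD3_c36)) :=
  Lgr Lrot181 (Lpe (f342002 IH) (Lpr_gt (f342013 IH) (Lpe (f307067 IH) (Lpe (f331018 IH) (Lpe (K21.f329533 IH) (Lpe (K16.f247066 IH) (Lpr_ct (f212615 IH) (Lpr_gt (f310685 IH) (Lpe (f279474 IH) (Lpe (K19.f310822 IH) (Lpn (LP (LK LD1_c5 LD2_c20 LD3_c36)))))))))))))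
theorem f342009 : Led Lsl_et (LP (LK LD1_c16 LD2_c8 LD3_c25)) = (LP (LK LD1_c8 LD2_c36 LD3_c53)) :=
  Lre_e IH (LK LD1_c16 LD2_c8 LD3_c25) (LK LD1_c8 LD2_c36 LD3_c53) Lrfl Lrfl
theorem f223751 : Led Lsl_et (LP (LK LD1_c2 LD2_c36 LD3_c56)) = (LP (LK LD1_c5 LD2_c20 LD3_c36)) :=
  Lre_e IH (LK LD1_c2 LD2_c36 LD3_c56) (LK LD1_c5 LD2_c20 LD3_c36) Lrfl Lrfl
theorem f342022 : Led Lsl_dt (LP (LK LD1_c16 LD2_c8 LD3_c25)) = (LP (LK LD1_c10 LD2_c38 LD3_c57)) :=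
  Lgr Lrot136 (Lpr_et (f342009 IH) (Lpr_gf (f342017 IH) (Lpe (f223751 IH) (Lpr_dt (K12.f169263 IH) (Lpr_gf (K12.f223741 IH) (Lpe (K12.f196585 IH) (Lpr_gf (K12.f196814 IH) (Lpe (K18.f183962 IH) (Lpr_dt (K18.f183963 IH) (Lpe (K22.f196827 IH) (Lpn (LP (LK LD1_c10 LD2_c38 LD3_c57)))))))))))))
theorem f342024 : Led Lsl_df (LP (LK LD1_c16 LD2_c8 LD3_c25)) = (LP (LK LD1_c10 LD2_c38 LD3_c57)) :=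
  Lgr Lrot38 (Lpr_dt (f342022 IH) (Lpn (LP (LK LD1_c10 LD2_c38 LD3_c57))))
theorem f216337 : Led Lsl_bt (LP (LK LD1_c16 LD2_c8 LD3_c25)) = (LP (LK LD1_c8 LD2_c36 LD3_c55)) :=
  Lre_b IH (LK LD1_c16 LD2_c8 LD3_c25) (LK LD1_c8 LD2_c36 LD3_c55) Lrfl Lrfl
theorem f342033 : Led Lsl_bt (LP (LK LD1_c15 LD2_c9 LD3_c19)) = (LP (LK LD1_c10 LD2_c38 LD3_c57)) :=
  Lgr Lrot95 (Lpe (f216335 IH) (Lpe (f216337 IH) (Lpr_df (f342024 IH) (Lpn (LP (LK LD1_c10 LD2_c38 LD3_c57))))))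
theorem f228349 : Led Lsl_ct (LP (LK LD1_c4 LD2_c14 LD3_c37)) = (LP (LK LD1_c2 LD2_c4 LD3_c42)) :=
  Lre_c IH (LK LD1_c4 LD2_c14 LD3_c37) (LK LD1_c2 LD2_c4 LD3_c42) Lrfl Lrfl
theorem f235426 : Led Lsl_gt (LP (LK LD1_c15 LD2_c54 LD3_c1)) = (LP (LK LD1_c8 LD2_c28 LD3_c8)) :=
  Lre_g IH (LK LD1_c15 LD2_c54 LD3_c1) (LK LD1_c8 LD2_c28 LD3_c8) Lrfl Lrfl
theorem f341992 : Led Lsl_cf (LP (LK LD1_c15 LD2_c54 LD3_c1)) = (LP (LK LD1_c15 LD2_c9 LD3_c19)) :=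
  Lgr Lrot169 (Lpr_gt (f235426 IH) (Lpr_ct (K14.f235417 IH) (Lpe (K13.f190956 IH) (Lpe (f228349 IH) (Lpe (K21.f233815 IH) (Lpe (K21.f314283 IH) (Lpr_gf (K22.f327407 IH) (Lpe (K17.f269307 IH) (Lpr_gt (f341990 IH) (Lpn (LP (LK LD1_c15 LD2_c9 LD3_c19))))))))))))
theorem f342038 : Led Lsl_gf (LP (LK LD1_c15 LD2_c54 LD3_c1)) = (LP (LK LD1_c9 LD2_c53 LD3_c11)) :=
  Lgr Lrot126 (Lpr_cf (f341992 IH) (Lpr_bt (f342033 IH) (Lpr_gt (K22.f196827 IH) (Lpe (K19.f306408 IH) (Lpr_gt (K19.f306377 IH) (Lpe (K20.f257615 IH) (Lpr_bt (K20.f275982 IH) (Lpr_gt (K19.f21308 IH) (Lpe (K19.f314277 IH) (Lpr_ct (K19.f247902 IH) (Lpn (LP (LK LD1_c9 LD2_c53 LD3_c11)))))))))))))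
theorem f314131 : Led Lsl_af (LP (LK LD1_c8 LD2_c28 LD3_c8)) = (LP (LK LD1_c9 LD2_c43 LD3_c34)) :=
  Lgr Lrot68 (Lpr_ct (K14.f235417 IH) (Lpr_at (K19.f314127 IH) (Lpr_ct (K18.f185872 IH) (Lpn (LP (LK LD1_c9 LD2_c43 LD3_c34))))))
theorem f342040 : Led Lsl_ff (LP (LK LD1_c9 LD2_c43 LD3_c34)) = (LP (LK LD1_c9 LD2_c53 LD3_c11)) :=
  Lgr Lrot52 (Lpe (f314131 IH) (Lpe (f235426 IH) (Lpr_gf (f342038 IH) (Lpn (LP (LK LD1_c9 LD2_c53 LD3_c11))))))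
theorem f342046 : Led Lsl_ft (LP (LK LD1_c9 LD2_c43 LD3_c34)) = (LP (LK LD1_c9 LD2_c53 LD3_c11)) :=
  Lgr Lrot48 (Lpr_ff (f342040 IH) (Lpn (LP (LK LD1_c9 LD2_c53 LD3_c11))))
theorem f314248 : Led Lsl_af (LP (LK LD1_c18 LD2_c5 LD3_c36)) = (LP (LK LD1_c18 LD2_c26 LD3_c36)) :=
  Lgr Lrot45 (Lpr_ft (K22.f314187 IH) (Lpr_at (K19.f314242 IH) (Lpr_ft (K19.f311582 IH) (Lpn (LP (LK LD1_c18 LD2_c26 LD3_c36))))))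
theorem f314227 : Led Lsl_et (LP (LK LD1_c15 LD2_c54 LD3_c4)) = (LP (LK LD1_c18 LD2_c26 LD3_c36)) :=
  Lgr Lrot87 (Lpr_ef (K19.f314224 IH) (Lpn (LP (LK LD1_c18 LD2_c26 LD3_c36))))
theorem f314253 : Led Lsl_at (LP (LK LD1_c9 LD2_c53 LD3_c11)) = (LP (LK LD1_c15 LD2_c54 LD3_c4)) :=
  Lgr Lrot80 (Lpe (K19.f314252 IH) (Lpr_af (f314248 IH) (Lpe (f314227 IH) (Lpn (LP (LK LD1_c15 LD2_c54 LD3_c4))))))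
theorem f342048 : Led Lsl_af (LP (LK LD1_c9 LD2_c43 LD3_c34)) = (LP (LK LD1_c8 LD2_c28 LD3_c8)) :=
  Lgr Lrot45 (Lpr_ft (f342046 IH) (Lpr_at (f314253 IH) (Lpr_ft (K19.f239612 IH) (Lpn (LP (LK LD1_c8 LD2_c28 LD3_c8))))))
theorem f342101 : Led Lsl_gf (LP (LK LD1_c15 LD2_c19 LD3_c50)) = (LP (LK LD1_c15 LD2_c54 LD3_c4)) :=
  Lgr Lrot47 (Lpe (K18.f293073 IH) (Lpr_af (f342048 IH) (Lpe (K19.f239612 IH) (Lpn (LP (LK LD1_c15 LD2_c54 LD3_c4))))))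
theorem f269281 : Led Lsl_ct (LP (LK LD1_c15 LD2_c19 LD3_c50)) = (LP (LK LD1_c8 LD2_c8 LD3_c30)) :=
  Lre_c IH (LK LD1_c15 LD2_c19 LD3_c50) (LK LD1_c8 LD2_c8 LD3_c30) Lrfl Lrfl
theorem f247907 : Led Lsl_dt (LP (LK LD1_c8 LD2_c8 LD3_c30)) = (LP (LK LD1_c8 LD2_c8 LD3_c2)) :=
  Lre_d IH (LK LD1_c8 LD2_c8 LD3_c30) (LK LD1_c8 LD2_c8 LD3_c2) Lrfl Lrfl
theorem f269277 : Led Lsl_ct (LP (LK LD1_c15 LD2_c18 LD3_c55)) = (LP (LK LD1_c8 LD2_c8 LD3_c2)) :=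
  Lre_c IH (LK LD1_c15 LD2_c18 LD3_c55) (LK LD1_c8 LD2_c8 LD3_c2) Lrfl Lrfl
theorem f314214 : Led Lsl_ct (LP (LK LD1_c8 LD2_c28 LD3_c9)) = (LP (LK LD1_c15 LD2_c54 LD3_c4)) :=
  Lre_c IH (LK LD1_c8 LD2_c28 LD3_c9) (LK LD1_c15 LD2_c54 LD3_c4) Lrfl Lrfl
theorem f189281 : Led Lsl_ct (LP (LK LD1_c11 LD2_c4 LD3_c34)) = (LP (LK LD1_c19 LD2_c57 LD3_c14)) :=
  Lre_c IH (LK LD1_c11 LD2_c4 LD3_c34) (LK LD1_c19 LD2_c57 LD3_c14) Lrfl Lrfl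
theorem f342103 : Led Lsl_gf (LP (LK LD1_c15 LD2_c18 LD3_c55)) = (LP (LK LD1_c19 LD2_c57 LD3_c14)) :=
  Lgr Lrot104 (Lpr_ct (f269277 IH) (Lpe (f247907 IH) (Lpe (f269281 IH) (Lpr_gf (f342101 IH) (Lpe (f314214 IH) (Lpr_gf (K19.f314208 IH) (Lpr_df (K16.f274768 IH) (Lpr_gt (K16.f189277 IH) (Lpr_ct (f189281 IH) (Lpn (LP (LK LD1_c19 LD2_c57 LD3_c14))))))))))))
theorem f342114 : Led Lsl_et (LP (LK LD1_c8 LD2_c8 LD3_c0)) = (LP (LK LD1_c15 LD2_c18 LD3_c55)) :=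
  Lre_e IH (LK LD1_c8 LD2_c8 LD3_c0) (LK LD1_c15 LD2_c18 LD3_c55) Lrfl Lrfl
theorem f227005 : Led Lsl_dt (LP (LK LD1_c8 LD2_c8 LD3_c0)) = (LP (LK LD1_c15 LD2_c18 LD3_c54)) :=
  Lre_d IH (LK LD1_c8 LD2_c8 LD3_c0) (LK LD1_c15 LD2_c18 LD3_c54) Lrfl Lrfl
theorem f326596 : Led Lsl_gt (LP (LK LD1_c15 LD2_c18 LD3_c54)) = (LP (LK LD1_c25 LD2_c9 LD3_c51)) :=
  Lre_g IH (LK LD1_c15 LD2_c18 LD3_c54) (LK LD1_c25 LD2_c9 LD3_c51) Lrfl Lrfl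
theorem f189286 : Led Lsl_ct (LP (LK LD1_c19 LD2_c57 LD3_c14)) = (LP (LK LD1_c11 LD2_c4 LD3_c34)) :=
  Lre_c IH (LK LD1_c19 LD2_c57 LD3_c14) (LK LD1_c11 LD2_c4 LD3_c34) Lrfl Lrfl
theorem f27472 : Led Lsl_ct (LP (LK LD1_c8 LD2_c28 LD3_c36)) = (LP (LK LD1_c15 LD2_c55 LD3_c0)) :=
  Lre_c IH (LK LD1_c8 LD2_c28 LD3_c36) (LK LD1_c15 LD2_c55 LD3_c0) Lrfl Lrfl
theorem f189287 : Led Lsl_ef (LP (LK LD1_c19 LD2_c57 LD3_c14)) = (LP (LK LD1_c15 LD2_c55 LD3_c0)) :=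
  Lgr Lrot28 (Lpr_ct (f189286 IH) (Lpr_et (K19.f189284 IH) (Lpr_ct (f27472 IH) (Lpn (LP (LK LD1_c15 LD2_c55 LD3_c0))))))
theorem f52419 : Led Lsl_et (LP (LK LD1_c15 LD2_c21 LD3_c49)) = (LP (LK LD1_c8 LD2_c9 LD3_c23)) :=
  Lre_e IH (LK LD1_c15 LD2_c21 LD3_c49) (LK LD1_c8 LD2_c9 LD3_c23) Lrfl Lrfl
theorem f342115 : Led Lsl_df (LP (LK LD1_c25 LD2_c9 LD3_c51)) = (LP (LK LD1_c15 LD2_c21 LD3_c49)) :=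
  Lgr Lrot168 (Lpe (f326596 IH) (Lpe (f227005 IH) (Lpr_et (f342114 IH) (Lpr_gf (f342103 IH) (Lpr_ef (f189287 IH) (Lpe (K22.f338623 IH) (Lpe (K22.f52395 IH) (Lpe (K10.f52305 IH) (Lpe (K22.f52411 IH) (Lpe (f52419 IH) (Lpn (LP (LK LD1_c15 LD2_c21 LD3_c49)))))))))))))
theorem f265723 : Led Lsl_gf (LP (LK LD1_c4 LD2_c14 LD3_c19)) = (LP (LK LD1_c8 LD2_c14 LD3_c11)) :=
  Lgr Lrot144 (Lpr_dt (K15.f189202 IH) (Lpe (K15.f189265 IH) (Lpr_dt (K10.f50779 IH) (Lpe (K10.f50374 IH) (Lpe (K10.f28031 IH) (Lpe (K10.f28055 IH) (Lpe (K19.f51246 IH) (Lpe (K15.f265034 IH) (Lpr_cf (K15.f265714 IH) (Lpn (LP (LK LD1_c8 LD2_c14 LD3_c11))))))))))))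
theorem f237109 : Led Lsl_dt (LP (LK LD1_c8 LD2_c8 LD3_c3)) = (LP (LK LD1_c15 LD2_c18 LD3_c58)) :=
  Lre_d IH (LK LD1_c8 LD2_c8 LD3_c3) (LK LD1_c15 LD2_c18 LD3_c58) Lrfl Lrfl
theorem f342117 : Led Lsl_gt (LP (LK LD1_c25 LD2_c9 LD3_c51)) = (LP (LK LD1_c15 LD2_c18 LD3_c58)) :=
  Lgr Lrot112 (Lpr_df (f342115 IH) (Lpr_et (f52419 IH) (Lpr_gf (K22.f52412 IH) (Lpe (K21.f52326 IH) (Lpr_dt (K10.f50912 IH) (Lpr_gf (K15.f189265 IH) (Lpe (K15.f189202 IH) (Lpr_gf (f265723 IH) (Lpe (K20.f265721 IH) (Lpr_dt (f237109 IH) (Lpn (LP (LK LD1_c15 LD2_c18 LD3_c58)))))))))))))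
theorem f237113 : Led Lsl_dt (LP (LK LD1_c15 LD2_c18 LD3_c58)) = (LP (LK LD1_c8 LD2_c8 LD3_c3)) :=
  Lre_d IH (LK LD1_c15 LD2_c18 LD3_c58) (LK LD1_c8 LD2_c8 LD3_c3) Lrfl Lrfl
theorem f243967 : Led Lsl_ct (LP (LK LD1_c15 LD2_c20 LD3_c23)) = (LP (LK LD1_c8 LD2_c8 LD3_c50)) :=
  Lre_c IH (LK LD1_c15 LD2_c20 LD3_c23) (LK LD1_c8 LD2_c8 LD3_c50) Lrfl Lrfl
theorem f342119 : Led Lsl_gf (LP (LK LD1_c15 LD2_c21 LD3_c49)) = (LP (LK LD1_c15 LD2_c20 LD3_c23)) :=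
  Lgr Lrot144 (Lpe (f342115 IH) (Lpr_gt (f342117 IH) (Lpr_dt (f237113 IH) (Lpe (K20.f227206 IH) (Lpe (K17.f237001 IH) (Lpr_gf (K21.f310474 IH) (Lpe (K19.f310506 IH) (Lpe (K21.f329847 IH) (Lpe (f243967 IH) (Lpn (LP (LK LD1_c15 LD2_c20 LD3_c23))))))))))))
theorem f342122 : Led Lsl_et (LP (LK LD1_c8 LD2_c8 LD3_c48)) = (LP (LK LD1_c15 LD2_c20 LD3_c23)) :=
  Lre_e IH (LK LD1_c8 LD2_c8 LD3_c48) (LK LD1_c15 LD2_c20 LD3_c23) Lrfl Lrfl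
theorem f342123 : Led Lsl_dt (LP (LK LD1_c8 LD2_c8 LD3_c48)) = (LP (LK LD1_c15 LD2_c20 LD3_c22)) :=
  Lre_d IH (LK LD1_c8 LD2_c8 LD3_c48) (LK LD1_c15 LD2_c20 LD3_c22) Lrfl Lrfl
theorem f342124 : Led Lsl_gf (LP (LK LD1_c15 LD2_c20 LD3_c22)) = (LP (LK LD1_c15 LD2_c52 LD3_c39)) :=
  Lgr Lrot145 (Lpe (f342123 IH) (Lpr_et (f342122 IH) (Lpe (f342119 IH) (Lpe (f342115 IH) (Lpr_gt (f342117 IH) (Lpe (f237109 IH) (Lpr_et (K20.f265721 IH) (Lpe (f265723 IH) (Lpe (K21.f259193 IH) (Lpr_dt (K21.f259194 IH) (Lpn (LP (LK LD1_c15 LD2_c52 LD3_c39)))))))))))))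
theorem f329855 : Led Lsl_dt (LP (LK LD1_c15 LD2_c20 LD3_c22)) = (LP (LK LD1_c8 LD2_c8 LD3_c48)) :=
  Lre_d IH (LK LD1_c15 LD2_c20 LD3_c22) (LK LD1_c8 LD2_c8 LD3_c48) Lrfl Lrfl
theorem f211319 : Led Lsl_ct (LP (LK LD1_c4 LD2_c4 LD3_c4)) = (LP (LK LD1_c8 LD2_c8 LD3_c48)) :=
  Lre_c IH (LK LD1_c4 LD2_c4 LD3_c4) (LK LD1_c8 LD2_c8 LD3_c48) Lrfl Lrfl
theorem f189270 : Led Lsl_gt (LP (LK LD1_c15 LD2_c52 LD3_c38)) = (LP (LK LD1_c8 LD2_c27 LD3_c19)) :=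
  Lre_g IH (LK LD1_c15 LD2_c52 LD3_c38) (LK LD1_c8 LD2_c27 LD3_c19) Lrfl Lrfl
theorem f342130 : Led Lsl_cf (LP (LK LD1_c15 LD2_c9 LD3_c1)) = (LP (LK LD1_c15 LD2_c52 LD3_c38)) :=
  Lgr Lrot166 (Lpr_gt (K22.f253024 IH) (Lpr_dt (K21.f329784 IH) (Lpe (K21.f329851 IH) (Lpr_dt (K20.f211323 IH) (Lpr_ct (f211319 IH) (Lpe (f329855 IH) (Lpr_gf (f342124 IH) (Lpe (K21.f259194 IH) (Lpe (f189270 IH) (Lpn (LP (LK LD1_c15 LD2_c52 LD3_c38))))))))))))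
theorem f338619 : Led Lsl_gt (LP (LK LD1_c8 LD2_c6 LD3_c39)) = (LP (LK LD1_c15 LD2_c9 LD3_c1)) :=
  Lgr Lrot131 (Lpe (K21.f329763 IH) (Lpe (K19.f260011 IH) (Lpe (K21.f260008 IH) (Lpe (K18.f243988 IH) (Lpe (K21.f327379 IH) (Lpe (K19.f199332 IH) (Lpr_dt (K21.f28110 IH) (Lpr_gf (K21.f199330 IH) (Lpe (K21.f310589 IH) (Lpr_et (K22.f338613 IH) (Lpn (LP (LK LD1_c15 LD2_c9 LD3_c1)))))))))))))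
theorem f338621 : Led Lsl_dt (LP (LK LD1_c8 LD2_c38 LD3_c4)) = (LP (LK LD1_c15 LD2_c9 LD3_c1)) :=
  Lgr Lrot56 (Lpr_et (K22.f187957 IH) (Lpr_gt (K19.f310567 IH) (Lpe (K19.f279525 IH) (Lpe (K17.f43128 IH) (Lpe (K21.f270379 IH) (Lpe (K20.f275894 IH) (Lpr_et (K20.f243971 IH) (Lpr_gt (K21.f329853 IH) (Lpr_dt (K21.f194498 IH) (Lpr_gt (f338619 IH) (Lpn (LP (LK LD1_c15 LD2_c9 LD3_c1)))))))))))))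
theorem f220961 : Led Lsl_dt (LP (LK LD1_c4 LD2_c14 LD3_c42)) = (LP (LK LD1_c8 LD2_c28 LD3_c12)) :=
  Lre_d IH (LK LD1_c4 LD2_c14 LD3_c42) (LK LD1_c8 LD2_c28 LD3_c12) Lrfl Lrfl
theorem f221009 : Led Lsl_gt (LP (LK LD1_c8 LD2_c28 LD3_c12)) = (LP (LK LD1_c15 LD2_c54 LD3_c10)) :=
  Lre_g IH (LK LD1_c8 LD2_c28 LD3_c12) (LK LD1_c15 LD2_c54 LD3_c10) Lrfl Lrfl
theorem f342135 : Led Lsl_dt (LP (LK LD1_c15 LD2_c54 LD3_c10)) = (LP (LK LD1_c15 LD2_c52 LD3_c38)) :=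
  Lgr Lrot105 (Lpe (f221009 IH) (Lpe (f220961 IH) (Lpe (K22.f220975 IH) (Lpr_cf (K22.f339684 IH) (Lpr_gt (K19.f211447 IH) (Lpe (K15.f187919 IH) (Lpr_gt (K19.f187912 IH) (Lpr_dt (f338621 IH) (Lpr_cf (f342130 IH) (Lpn (LP (LK LD1_c15 LD2_c52 LD3_c38))))))))))))
theorem f342140 : Led Lsl_df (LP (LK LD1_c15 LD2_c54 LD3_c10)) = (LP (LK LD1_c15 LD2_c52 LD3_c38)) :=
  Lgr Lrot38 (Lpr_dt (f342135 IH) (Lpn (LP (LK LD1_c15 LD2_c52 LD3_c38))))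
theorem f221000 : Led Lsl_ft (LP (LK LD1_c8 LD2_c28 LD3_c12)) = (LP (LK LD1_c15 LD2_c54 LD3_c13)) :=
  Lre_f IH (LK LD1_c8 LD2_c28 LD3_c12) (LK LD1_c15 LD2_c54 LD3_c13) Lrfl Lrfl
theorem f314489 : Led Lsl_gt (LP (LK LD1_c15 LD2_c54 LD3_c10)) = (LP (LK LD1_c15 LD2_c20 LD3_c55)) :=
  Lgr Lrot46 (Lpe (f221009 IH) (Lpr_ft (f221000 IH) (Lpr_at (K19.f314482 IH) (Lpn (LP (LK LD1_c15 LD2_c20 LD3_c55))))))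
theorem f200752 : Led Lsl_dt (LP (LK LD1_c8 LD2_c9 LD3_c4)) = (LP (LK LD1_c15 LD2_c20 LD3_c55)) :=
  Lre_d IH (LK LD1_c8 LD2_c9 LD3_c4) (LK LD1_c15 LD2_c20 LD3_c55) Lrfl Lrfl
theorem f327146 : Led Lsl_gt (LP (LK LD1_c11 LD2_c56 LD3_c60)) = (LP (LK LD1_c15 LD2_c52 LD3_c38)) :=
  Lgr Lrot5 (Lpr_ft (K21.f327021 IH) (Lpr_at (K21.f327135 IH) (Lpe (f189270 IH) (Lpn (LP (LK LD1_c15 LD2_c52 LD3_c38))))))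
theorem f168930 : Led Lsl_ct (LP (LK LD1_c11 LD2_c56 LD3_c60)) = (LP (LK LD1_c6 LD2_c7 LD3_c2)) :=
  Lre_c IH (LK LD1_c11 LD2_c56 LD3_c60) (LK LD1_c6 LD2_c7 LD3_c2) Lrfl Lrfl
theorem f326989 : Led Lsl_et (LP (LK LD1_c11 LD2_c5 LD3_c34)) = (LP (LK LD1_c11 LD2_c56 LD3_c60)) :=
  Lgr Lrot158 (Lpe (K18.f183148 IH) (Lpr_ef (K21.f326983 IH) (Lpe (f168930 IH) (Lpn (LP (LK LD1_c11 LD2_c56 LD3_c60))))))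
theorem f327174 : Led Lsl_gt (LP (LK LD1_c25 LD2_c10 LD3_c55)) = (LP (LK LD1_c19 LD2_c58 LD3_c43)) :=
  Lgr Lrot46 (Lpe (K18.f265681 IH) (Lpr_ft (K21.f327168 IH) (Lpe (K21.f327159 IH) (Lpn (LP (LK LD1_c19 LD2_c58 LD3_c43))))))
theorem f342147 : Led Lsl_gt (LP (LK LD1_c8 LD2_c28 LD3_c2)) = (LP (LK LD1_c8 LD2_c8 LD3_c27)) :=
  Lgr Lrot131 (Lpr_ef (K19.f314433 IH) (Lpr_dt (f200752 IH) (Lpe (f314489 IH) (Lpr_df (f342140 IH) (Lpe (f327146 IH) (Lpe (f326989 IH) (Lpr_dt (K21.f296240 IH) (Lpe (f327174 IH) (Lpe (K18.f244000 IH) (Lpr_et (K18.f265684 IH) (Lpn (LP (LK LD1_c8 LD2_c8 LD3_c27)))))))))))))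
theorem f330537 : Led Lsl_bt (LP (LK LD1_c4 LD2_c3 LD3_c58)) = (LP (LK LD1_c8 LD2_c6 LD3_c12)) :=
  Lgr Lrot127 (Lpr_bf (K21.f330532 IH) (Lpn (LP (LK LD1_c8 LD2_c6 LD3_c12))))
theorem f261646 : Led Lsl_gt (LP (LK LD1_c5 LD2_c31 LD3_c0)) = (LP (LK LD1_c10 LD2_c53 LD3_c31)) :=
  Lre_g IH (LK LD1_c5 LD2_c31 LD3_c0) (LK LD1_c10 LD2_c53 LD3_c31) Lrfl Lrfl
theorem f264323 : Led Lsl_gf (LP (LK LD1_c5 LD2_c12 LD3_c13)) = (LP (LK LD1_c5 LD2_c5 LD3_c34)) :=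
  Lgr Lrot76 (Lpr_af (K15.f264311 IH) (Lpe (K15.f169473 IH) (Lpr_gt (K10.f169479 IH) (Lpn (LP (LK LD1_c5 LD2_c5 LD3_c34))))))
theorem f261818 : Led Lsl_bt (LP (LK LD1_c5 LD2_c13 LD3_c22)) = (LP (LK LD1_c2 LD2_c33 LD3_c31)) :=
  Lre_b IH (LK LD1_c5 LD2_c13 LD3_c22) (LK LD1_c2 LD2_c33 LD3_c31) Lrfl Lrfl
theorem f263402 : Led Lsl_ef (LP (LK LD1_c5 LD2_c12 LD3_c13)) = (LP (LK LD1_c2 LD2_c33 LD3_c31)) :=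
  Lgr Lrot29 (Lpr_bt (K15.f185645 IH) (Lpr_et (K15.f263398 IH) (Lpr_bt (f261818 IH) (Lpn (LP (LK LD1_c2 LD2_c33 LD3_c31))))))
theorem f261769 : Led Lsl_af (LP (LK LD1_c2 LD2_c11 LD3_c56)) = (LP (LK LD1_c1 LD2_c17 LD3_c44)) :=
  Lgr Lrot45 (Lpr_ft (K15.f261767 IH) (Lpr_at (K15.f261753 IH) (Lpr_ft (K16.f261768 IH) (Lpn (LP (LK LD1_c1 LD2_c17 LD3_c44))))))
theorem f261814 : Led Lsl_dt (LP (LK LD1_c2 LD2_c33 LD3_c31)) = (LP (LK LD1_c1 LD2_c17 LD3_c44)) :=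
  Lgr Lrot44 (Lpr_af (K15.f261803 IH) (Lpe (K22.f261791 IH) (Lpr_af (f261769 IH) (Lpn (LP (LK LD1_c1 LD2_c17 LD3_c44))))))
theorem f264325 : Led Lsl_gt (LP (LK LD1_c1 LD2_c17 LD3_c44)) = (LP (LK LD1_c2 LD2_c11 LD3_c54)) :=
  Lgr Lrot112 (Lpe (f261814 IH) (Lpe (f263402 IH) (Lpr_gf (f264323 IH) (Lpr_ef (K10.f178739 IH) (Lpr_dt (K10.f32872 IH) (Lpe (K10.f32869 IH) (Lpr_df (K10.f32295 IH) (Lpe (K10.f48638 IH) (Lpe (K10.f184985 IH) (Lpr_dt (K10.f184981 IH) (Lpn (LP (LK LD1_c2 LD2_c11 LD3_c54)))))))))))))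
theorem f261858 : Led Lsl_gt (LP (LK LD1_c10 LD2_c53 LD3_c31)) = (LP (LK LD1_c5 LD2_c31 LD3_c17)) :=
  Lre_g IH (LK LD1_c10 LD2_c53 LD3_c31) (LK LD1_c5 LD2_c31 LD3_c17) Lrfl Lrfl
theorem f185042 : Led Lsl_ct (LP (LK LD1_c2 LD2_c11 LD3_c54)) = (LP (LK LD1_c4 LD2_c29 LD3_c45)) :=
  Lre_c IH (LK LD1_c2 LD2_c11 LD3_c54) (LK LD1_c4 LD2_c29 LD3_c45) Lrfl Lrfl
theorem f185039 : Led Lsl_ct (LP (LK LD1_c4 LD2_c29 LD3_c45)) = (LP (LK LD1_c2 LD2_c11 LD3_c54)) :=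
  Lre_c IH (LK LD1_c4 LD2_c29 LD3_c45) (LK LD1_c2 LD2_c11 LD3_c54) Lrfl Lrfl
theorem f185040 : Led Lsl_gf (LP (LK LD1_c2 LD2_c12 LD3_c6)) = (LP (LK LD1_c4 LD2_c29 LD3_c45)) :=
  Lgr Lrot144 (Lpr_dt (K20.f168787 IH) (Lpr_gt (K20.f177513 IH) (Lpe (K20.f184943 IH) (Lpe (K19.f184939 IH) (Lpe (K14.f184940 IH) (Lpr_gf (K10.f184973 IH) (Lpe (K10.f7632 IH) (Lpe (K10.f165048 IH) (Lpe (f185039 IH) (Lpn (LP (LK LD1_c4 LD2_c29 LD3_c45))))))))))))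
theorem f168747 : Led Lsl_bt (LP (LK LD1_c1 LD2_c10 LD3_c4)) = (LP (LK LD1_c2 LD2_c25 LD3_c44)) :=
  Lre_b IH (LK LD1_c1 LD2_c10 LD3_c4) (LK LD1_c2 LD2_c25 LD3_c44) Lrfl Lrfl
theorem f168765 : Led Lsl_gt (LP (LK LD1_c2 LD2_c25 LD3_c44)) = (LP (LK LD1_c4 LD2_c55 LD3_c53)) :=
  Lre_g IH (LK LD1_c2 LD2_c25 LD3_c44) (LK LD1_c4 LD2_c55 LD3_c53) Lrfl Lrfl
theorem f168794 : Led Lsl_bt (LP (LK LD1_c9 LD2_c43 LD3_c29)) = (LP (LK LD1_c4 LD2_c55 LD3_c53)) :=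
  Lre_b IH (LK LD1_c9 LD2_c43 LD3_c29) (LK LD1_c4 LD2_c55 LD3_c53) Lrfl Lrfl
theorem f264329 : Led Lsl_cf (LP (LK LD1_c10 LD2_c53 LD3_c31)) = (LP (LK LD1_c9 LD2_c43 LD3_c29)) :=
  Lgr Lrot160 (Lpr_gt (f261858 IH) (Lpe (K16.f261861 IH) (Lpr_bt (K16.f261628 IH) (Lpr_gt (f264325 IH) (Lpr_ct (f185042 IH) (Lpe (f185040 IH) (Lpe (K22.f168749 IH) (Lpr_bt (f168747 IH) (Lpr_gt (f168765 IH) (Lpe (f168794 IH) (Lpn (LP (LK LD1_c9 LD2_c43 LD3_c29)))))))))))))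
theorem f342159 : Led Lsl_gf (LP (LK LD1_c4 LD2_c14 LD3_c41)) = (LP (LK LD1_c4 LD2_c55 LD3_c53)) :=
  Lgr Lrot181 (Lpr_ct (K20.f314136 IH) (Lpr_gt (f342147 IH) (Lpe (K18.f246106 IH) (Lpr_bt (f330537 IH) (Lpr_gt (K17.f254508 IH) (Lpr_bf (K15.f261606 IH) (Lpr_ct (K20.f261610 IH) (Lpr_gt (f261646 IH) (Lpr_cf (f264329 IH) (Lpr_bt (f168794 IH) (Lpn (LP (LK LD1_c4 LD2_c55 LD3_c53)))))))))))))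
theorem f319708 : Led Lsl_ft (LP (LK LD1_c2 LD2_c25 LD3_c44)) = (LP (LK LD1_c4 LD2_c55 LD3_c56)) :=
  Lre_f IH (LK LD1_c2 LD2_c25 LD3_c44) (LK LD1_c4 LD2_c55 LD3_c56) Lrfl Lrfl
theorem f342163 : Led Lsl_af (LP (LK LD1_c4 LD2_c14 LD3_c41)) = (LP (LK LD1_c4 LD2_c55 LD3_c56)) :=
  Lgr Lrot31 (Lpr_gf (f342159 IH) (Lpe (f168765 IH) (Lpr_ft (f319708 IH) (Lpn (LP (LK LD1_c4 LD2_c55 LD3_c56))))))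
theorem f314509 : Led Lsl_af (LP (LK LD1_c4 LD2_c14 LD3_c45)) = (LP (LK LD1_c8 LD2_c10 LD3_c25)) :=
  Lgr Lrot0 (Lpr_at (K19.f314480 IH) (Lpn (LP (LK LD1_c8 LD2_c10 LD3_c25))))
theorem f342167 : Led Lsl_et (LP (LK LD1_c4 LD2_c14 LD3_c45)) = (LP (LK LD1_c4 LD2_c55 LD3_c56)) :=
  Lgr Lrot123 (Lpr_af (f314509 IH) (Lpe (K19.f314430 IH) (Lpr_af (f342163 IH) (Lpn (LP (LK LD1_c4 LD2_c55 LD3_c56))))))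
theorem f168774 : Led Lsl_bt (LP (LK LD1_c4 LD2_c55 LD3_c56)) = (LP (LK LD1_c2 LD2_c25 LD3_c48)) :=
  Lre_b IH (LK LD1_c4 LD2_c55 LD3_c56) (LK LD1_c2 LD2_c25 LD3_c48) Lrfl Lrfl
theorem f54864 : Led Lsl_et (LP (LK LD1_c1 LD2_c56 LD3_c5)) = (LP (LK LD1_c0 LD2_c54 LD3_c46)) :=
  Lre_e IH (LK LD1_c1 LD2_c56 LD3_c5) (LK LD1_c0 LD2_c54 LD3_c46) Lrfl Lrfl
theorem f313971 : Led Lsl_ft (LP (LK LD1_c3 LD2_c58 LD3_c43)) = (LP (LK LD1_c1 LD2_c56 LD3_c5)) :=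
  Lre_f IH (LK LD1_c3 LD2_c58 LD3_c43) (LK LD1_c1 LD2_c56 LD3_c5) Lrfl Lrfl
theorem f168789 : Led Lsl_et (LP (LK LD1_c0 LD2_c32 LD3_c24)) = (LP (LK LD1_c1 LD2_c10 LD3_c4)) :=
  Lre_e IH (LK LD1_c0 LD2_c32 LD3_c24) (LK LD1_c1 LD2_c10 LD3_c4) Lrfl Lrfl
theorem f313972 : Led Lsl_ef (LP (LK LD1_c3 LD2_c58 LD3_c43)) = (LP (LK LD1_c2 LD2_c25 LD3_c48)) :=
  Lgr Lrot21 (Lpr_ft (f313971 IH) (Lpr_et (f54864 IH) (Lpr_ft (K19.f313963 IH) (Lpr_et (f168789 IH) (Lpr_ft (K20.f168755 IH) (Lpn (LP (LK LD1_c2 LD2_c25 LD3_c48))))))))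
theorem f342169 : Led Lsl_bf (LP (LK LD1_c4 LD2_c14 LD3_c45)) = (LP (LK LD1_c3 LD2_c58 LD3_c43)) :=
  Lgr Lrot96 (Lpr_et (f342167 IH) (Lpr_bt (f168774 IH) (Lpe (f313972 IH) (Lpn (LP (LK LD1_c3 LD2_c58 LD3_c43))))))
theorem f314578 : Led Lsl_ft (LP (LK LD1_c4 LD2_c14 LD3_c45)) = (LP (LK LD1_c2 LD2_c4 LD3_c44)) :=
  Lre_f IH (LK LD1_c4 LD2_c14 LD3_c45) (LK LD1_c2 LD2_c4 LD3_c44) Lrfl Lrfl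
theorem f313984 : Led Lsl_ft (LP (LK LD1_c1 LD2_c56 LD3_c5)) = (LP (LK LD1_c3 LD2_c58 LD3_c43)) :=
  Lre_f IH (LK LD1_c1 LD2_c56 LD3_c5) (LK LD1_c3 LD2_c58 LD3_c43) Lrfl Lrfl
theorem f342177 : Led Lsl_bt (LP (LK LD1_c2 LD2_c4 LD3_c44)) = (LP (LK LD1_c1 LD2_c56 LD3_c5)) :=
  Lgr Lrot35 (Lpe (f314578 IH) (Lpr_bf (f342169 IH) (Lpe (f313984 IH) (Lpn (LP (LK LD1_c1 LD2_c56 LD3_c5))))))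
theorem f220958 : Led Lsl_ct (LP (LK LD1_c4 LD2_c14 LD3_c42)) = (LP (LK LD1_c2 LD2_c4 LD3_c44)) :=
  Lre_c IH (LK LD1_c4 LD2_c14 LD3_c42) (LK LD1_c2 LD2_c4 LD3_c44) Lrfl Lrfl
theorem f190244 : Led Lsl_et (LP (LK LD1_c4 LD2_c6 LD3_c45)) = (LP (LK LD1_c2 LD2_c0 LD3_c41)) :=
  Lre_e IH (LK LD1_c4 LD2_c6 LD3_c45) (LK LD1_c2 LD2_c0 LD3_c41) Lrfl Lrfl
theorem f211265 : Led Lsl_et (LP (LK LD1_c0 LD2_c59 LD3_c22)) = (LP (LK LD1_c2 LD2_c4 LD3_c44)) :=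
  Lre_e IH (LK LD1_c0 LD2_c59 LD3_c22) (LK LD1_c2 LD2_c4 LD3_c44) Lrfl Lrfl
theorem f211266 : Led Lsl_df (LP (LK LD1_c4 LD2_c6 LD3_c45)) = (LP (LK LD1_c2 LD2_c4 LD3_c44)) :=
  Lgr Lrot70 (Lpr_et (f190244 IH) (Lpr_dt (K14.f190234 IH) (Lpe (K11.f211246 IH) (Lpr_dt (K11.f211260 IH) (Lpr_et (f211265 IH) (Lpn (LP (LK LD1_c2 LD2_c4 LD3_c44))))))))
theorem f178208 : Led Lsl_ct (LP (LK LD1_c8 LD2_c14 LD3_c8)) = (LP (LK LD1_c4 LD2_c6 LD3_c45)) :=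
  Lre_c IH (LK LD1_c8 LD2_c14 LD3_c8) (LK LD1_c4 LD2_c6 LD3_c45) Lrfl Lrfl
theorem f178211 : Led Lsl_gt (LP (LK LD1_c15 LD2_c29 LD3_c42)) = (LP (LK LD1_c8 LD2_c14 LD3_c8)) :=
  Lre_g IH (LK LD1_c15 LD2_c29 LD3_c42) (LK LD1_c8 LD2_c14 LD3_c8) Lrfl Lrfl
theorem f339699 : Led Lsl_cf (LP (LK LD1_c15 LD2_c29 LD3_c42)) = (LP (LK LD1_c8 LD2_c38 LD3_c5)) :=
  Lgr Lrot169 (Lpr_gt (f178211 IH) (Lpr_ct (f178208 IH) (Lpr_df (f211266 IH) (Lpe (f220958 IH) (Lpe (K22.f220975 IH) (Lpr_cf (K22.f339684 IH) (Lpr_gf (K19.f312167 IH) (Lpr_df (K11.f211335 IH) (Lpr_gt (K19.f293314 IH) (Lpn (LP (LK LD1_c8 LD2_c38 LD3_c5))))))))))))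
theorem f339701 : Led Lsl_df (LP (LK LD1_c2 LD2_c4 LD3_c44)) = (LP (LK LD1_c4 LD2_c6 LD3_c45)) :=
  Lgr Lrot162 (Lpe (f220958 IH) (Lpe (K22.f220975 IH) (Lpr_cf (K22.f339684 IH) (Lpr_gf (K19.f312167 IH) (Lpr_dt (K11.f211307 IH) (Lpr_gt (K19.f293314 IH) (Lpe (f339699 IH) (Lpr_gt (f178211 IH) (Lpr_ct (f178208 IH) (Lpn (LP (LK LD1_c4 LD2_c6 LD3_c45))))))))))))
theorem f190240 : Led Lsl_bt (LP (LK LD1_c2 LD2_c0 LD3_c44)) = (LP (LK LD1_c4 LD2_c6 LD3_c45)) :=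
  Lre_b IH (LK LD1_c2 LD2_c0 LD3_c44) (LK LD1_c4 LD2_c6 LD3_c45) Lrfl Lrfl
theorem f342183 : Led Lsl_df (LP (LK LD1_c2 LD2_c0 LD3_c44)) = (LP (LK LD1_c1 LD2_c56 LD3_c5)) :=
  Lgr Lrot12 (Lpr_bt (f190240 IH) (Lpe (f339701 IH) (Lpr_bt (f342177 IH) (Lpn (LP (LK LD1_c1 LD2_c56 LD3_c5))))))
theorem f178205 : Led Lsl_gt (LP (LK LD1_c4 LD2_c6 LD3_c47)) = (LP (LK LD1_c2 LD2_c0 LD3_c44)) :=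
  Lre_g IH (LK LD1_c4 LD2_c6 LD3_c47) (LK LD1_c2 LD2_c0 LD3_c44) Lrfl Lrfl
theorem f54865 : Led Lsl_et (LP (LK LD1_c0 LD2_c57 LD3_c19)) = (LP (LK LD1_c2 LD2_c0 LD3_c44)) :=
  Lre_e IH (LK LD1_c0 LD2_c57 LD3_c19) (LK LD1_c2 LD2_c0 LD3_c44) Lrfl Lrfl
theorem f8121 : Led Lsl_ef (LP (LK LD1_c0 LD2_c26 LD3_c2)) = (LP (LK LD1_c0 LD2_c24 LD3_c44)) :=
  Lgr Lrot73 (Lpr_dt (K1.f8118 IH) (Lpr_et (K9.f8111 IH) (Lpr_dt (K0.f8107 IH) (Lpr_et (K1.f8119 IH) (Lpr_dt (K1.f8120 IH) (Lpn (LP (LK LD1_c0 LD2_c24 LD3_c44))))))))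
theorem f178183 : Led Lsl_et (LP (LK LD1_c1 LD2_c18 LD3_c32)) = (LP (LK LD1_c0 LD2_c36 LD3_c11)) :=
  Lre_e IH (LK LD1_c1 LD2_c18 LD3_c32) (LK LD1_c0 LD2_c36 LD3_c11) Lrfl Lrfl
theorem f178184 : Led Lsl_dt (LP (LK LD1_c1 LD2_c18 LD3_c32)) = (LP (LK LD1_c0 LD2_c36 LD3_c9)) :=
  Lre_d IH (LK LD1_c1 LD2_c18 LD3_c32) (LK LD1_c0 LD2_c36 LD3_c9) Lrfl Lrfl
theorem f177878 : Led Lsl_gt (LP (LK LD1_c1 LD2_c18 LD3_c31)) = (LP (LK LD1_c0 LD2_c36 LD3_c9)) :=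
  Lre_g IH (LK LD1_c1 LD2_c18 LD3_c31) (LK LD1_c0 LD2_c36 LD3_c9) Lrfl Lrfl
theorem f177877 : Led Lsl_et (LP (LK LD1_c0 LD2_c16 LD3_c5)) = (LP (LK LD1_c0 LD2_c36 LD3_c9)) :=
  Lre_e IH (LK LD1_c0 LD2_c16 LD3_c5) (LK LD1_c0 LD2_c36 LD3_c9) Lrfl Lrfl
theorem f178179 : Led Lsl_gt (LP (LK LD1_c0 LD2_c36 LD3_c9)) = (LP (LK LD1_c1 LD2_c18 LD3_c30)) :=
  Lre_g IH (LK LD1_c0 LD2_c36 LD3_c9) (LK LD1_c1 LD2_c18 LD3_c30) Lrfl Lrfl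
theorem f178185 : Led Lsl_df (LP (LK LD1_c1 LD2_c18 LD3_c31)) = (LP (LK LD1_c1 LD2_c18 LD3_c30)) :=
  Lgr Lrot135 (Lpr_gt (f177878 IH) (Lpe (f178184 IH) (Lpr_et (f178183 IH) (Lpe (K9.f178181 IH) (Lpr_ef (f8121 IH) (Lpr_dt (K1.f28389 IH) (Lpr_gt (K9.f177856 IH) (Lpe (K9.f172320 IH) (Lpr_et (f177877 IH) (Lpr_gt (f178179 IH) (Lpn (LP (LK LD1_c1 LD2_c18 LD3_c30)))))))))))))
theorem f178202 : Led Lsl_et (LP (LK LD1_c1 LD2_c18 LD3_c30)) = (LP (LK LD1_c2 LD2_c44 LD3_c19)) :=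
  Lre_e IH (LK LD1_c1 LD2_c18 LD3_c30) (LK LD1_c2 LD2_c44 LD3_c19) Lrfl Lrfl
theorem f178203 : Led Lsl_gt (LP (LK LD1_c2 LD2_c0 LD3_c44)) = (LP (LK LD1_c2 LD2_c44 LD3_c19)) :=
  Lgr Lrot131 (Lpe (f54865 IH) (Lpr_dt (K10.f21295 IH) (Lpe (K8.f8127 IH) (Lpe (K1.f8118 IH) (Lpr_gf (K9.f178181 IH) (Lpe (f178183 IH) (Lpr_dt (f178184 IH) (Lpe (f177878 IH) (Lpr_df (f178185 IH) (Lpr_et (f178202 IH) (Lpn (LP (LK LD1_c2 LD2_c44 LD3_c19)))))))))))))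
theorem f342192 : Led Lsl_df (LP (LK LD1_c4 LD2_c6 LD3_c47)) = (LP (LK LD1_c2 LD2_c44 LD3_c19)) :=
  Lgr Lrot135 (Lpr_gt (f178205 IH) (Lpr_df (f342183 IH) (Lpr_et (f54864 IH) (Lpr_gt (K13.f21274 IH) (Lpr_ef (K9.f54854 IH) (Lpr_dt (K1.f8118 IH) (Lpr_gt (K8.f8127 IH) (Lpe (K10.f21295 IH) (Lpr_et (f54865 IH) (Lpr_gt (f178203 IH) (Lpn (LP (LK LD1_c2 LD2_c44 LD3_c19)))))))))))))
theorem f178191 : Led Lsl_dt (LP (LK LD1_c1 LD2_c18 LD3_c31)) = (LP (LK LD1_c1 LD2_c18 LD3_c30)) :=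
  Lgr Lrot42 (Lpr_df (f178185 IH) (Lpn (LP (LK LD1_c1 LD2_c18 LD3_c30))))
theorem f177879 : Led Lsl_et (LP (LK LD1_c2 LD2_c44 LD3_c21)) = (LP (LK LD1_c1 LD2_c18 LD3_c31)) :=
  Lre_e IH (LK LD1_c2 LD2_c44 LD3_c21) (LK LD1_c1 LD2_c18 LD3_c31) Lrfl Lrfl
theorem f177884 : Led Lsl_dt (LP (LK LD1_c5 LD2_c36 LD3_c60)) = (LP (LK LD1_c2 LD2_c44 LD3_c21)) :=
  Lre_d IH (LK LD1_c5 LD2_c36 LD3_c60) (LK LD1_c2 LD2_c44 LD3_c21) Lrfl Lrfl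
theorem f342196 : Led Lsl_et (LP (LK LD1_c4 LD2_c6 LD3_c47)) = (LP (LK LD1_c5 LD2_c36 LD3_c60)) :=
  Lgr Lrot71 (Lpr_df (f342192 IH) (Lpe (f178202 IH) (Lpe (f178191 IH) (Lpe (f177879 IH) (Lpe (f177884 IH) (Lpn (LP (LK LD1_c5 LD2_c36 LD3_c60))))))))
theorem f342194 : Led Lsl_dt (LP (LK LD1_c4 LD2_c6 LD3_c47)) = (LP (LK LD1_c2 LD2_c44 LD3_c19)) :=
  Lgr Lrot42 (Lpr_df (f342192 IH) (Lpn (LP (LK LD1_c2 LD2_c44 LD3_c19))))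
theorem f55319 : Led Lsl_dt (LP (LK LD1_c2 LD2_c26 LD3_c0)) = (LP (LK LD1_c4 LD2_c56 LD3_c29)) :=
  Lre_d IH (LK LD1_c2 LD2_c26 LD3_c0) (LK LD1_c4 LD2_c56 LD3_c29) Lrfl Lrfl
theorem f177880 : Led Lsl_dt (LP (LK LD1_c2 LD2_c44 LD3_c21)) = (LP (LK LD1_c5 LD2_c36 LD3_c60)) :=
  Lre_d IH (LK LD1_c2 LD2_c44 LD3_c21) (LK LD1_c5 LD2_c36 LD3_c60) Lrfl Lrfl
theorem f177881 : Led Lsl_gt (LP (LK LD1_c4 LD2_c56 LD3_c29)) = (LP (LK LD1_c5 LD2_c36 LD3_c60)) :=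
  Lgr Lrot139 (Lpe (f55319 IH) (Lpe (K21.f55315 IH) (Lpe (K1.f55312 IH) (Lpr_dt (K9.f40751 IH) (Lpr_gf (K9.f177858 IH) (Lpe (K9.f172320 IH) (Lpr_et (f177877 IH) (Lpe (f177878 IH) (Lpe (f177879 IH) (Lpr_dt (f177880 IH) (Lpn (LP (LK LD1_c5 LD2_c36 LD3_c60)))))))))))))
theorem f306065 : Led Lsl_df (LP (LK LD1_c2 LD2_c45 LD3_c48)) = (LP (LK LD1_c2 LD2_c32 LD3_c16)) :=
  Lgr Lrot38 (Lpr_dt (K19.f305821 IH) (Lpn (LP (LK LD1_c2 LD2_c32 LD3_c16))))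
theorem f166594 : Led Lsl_ft (LP (LK LD1_c2 LD2_c28 LD3_c56)) = (LP (LK LD1_c1 LD2_c11 LD3_c36)) :=
  Lre_f IH (LK LD1_c2 LD2_c28 LD3_c56) (LK LD1_c1 LD2_c11 LD3_c36) Lrfl Lrfl
theorem f288308 : Led Lsl_ft (LP (LK LD1_c1 LD2_c13 LD3_c3)) = (LP (LK LD1_c2 LD2_c32 LD3_c5)) :=
  Lre_f IH (LK LD1_c1 LD2_c13 LD3_c3) (LK LD1_c2 LD2_c32 LD3_c5) Lrfl Lrfl
theorem f300119 : Led Lsl_at (LP (LK LD1_c1 LD2_c11 LD3_c36)) = (LP (LK LD1_c1 LD2_c13 LD3_c3)) :=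
  Lgr Lrot66 (Lpe (f166594 IH) (Lpr_af (K22.f300112 IH) (Lpe (f288308 IH) (Lpn (LP (LK LD1_c1 LD2_c13 LD3_c3))))))
theorem f300125 : Led Lsl_gt (LP (LK LD1_c2 LD2_c28 LD3_c56)) = (LP (LK LD1_c2 LD2_c32 LD3_c4)) :=
  Lgr Lrot5 (Lpr_ft (f166594 IH) (Lpr_at (f300119 IH) (Lpe (K19.f165489 IH) (Lpn (LP (LK LD1_c2 LD2_c32 LD3_c4))))))
theorem f171745 : Led Lsl_gf (LP (LK LD1_c5 LD2_c4 LD3_c48)) = (LP (LK LD1_c5 LD2_c2 LD3_c45)) :=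
  Lgr Lrot138 (Lpr_dt (K18.f165253 IH) (Lpe (K18.f165387 IH) (Lpe (K18.f33921 IH) (Lpr_et (K18.f21357 IH) (Lpr_gt (K9.f165254 IH) (Lpe (K14.f21992 IH) (Lpe (K12.f171219 IH) (Lpr_gt (K19.f171204 IH) (Lpr_df (K19.f171718 IH) (Lpr_et (K19.f171720 IH) (Lpn (LP (LK LD1_c5 LD2_c2 LD3_c45)))))))))))))
theorem f326921 : Led Lsl_gt (LP (LK LD1_c4 LD2_c55 LD3_c59)) = (LP (LK LD1_c5 LD2_c10 LD3_c51)) :=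
  Lgr Lrot137 (Lpr_ef (K18.f181904 IH) (Lpr_dt (K19.f165389 IH) (Lpr_gf (f171745 IH) (Lpr_df (K19.f306980 IH) (Lpr_et (K19.f165490 IH) (Lpe (f300125 IH) (Lpe (K22.f299755 IH) (Lpe (f306065 IH) (Lpr_gf (K21.f307043 IH) (Lpr_df (K21.f326915 IH) (Lpn (LP (LK LD1_c5 LD2_c10 LD3_c51)))))))))))))
theorem f168885 : Led Lsl_et (LP (LK LD1_c0 LD2_c32 LD3_c25)) = (LP (LK LD1_c1 LD2_c10 LD3_c6)) :=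
  Lre_e IH (LK LD1_c0 LD2_c32 LD3_c25) (LK LD1_c1 LD2_c10 LD3_c6) Lrfl Lrfl
theorem f313949 : Led Lsl_ef (LP (LK LD1_c3 LD2_c58 LD3_c40)) = (LP (LK LD1_c2 LD2_c25 LD3_c54)) :=
  Lgr Lrot21 (Lpr_ft (K19.f171277 IH) (Lpr_et (K14.f54863 IH) (Lpr_ft (K19.f313943 IH) (Lpr_et (f168885 IH) (Lpr_ft (K14.f168896 IH) (Lpn (LP (LK LD1_c2 LD2_c25 LD3_c54))))))))
theorem f342201 : Led Lsl_gt (LP (LK LD1_c2 LD2_c44 LD3_c19)) = (LP (LK LD1_c2 LD2_c59 LD3_c42)) :=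
  Lgr Lrot112 (Lpe (f342194 IH) (Lpr_et (f342196 IH) (Lpe (f177881 IH) (Lpr_ef (K21.f307049 IH) (Lpr_dt (K21.f326912 IH) (Lpe (f326921 IH) (Lpe (K19.f168791 IH) (Lpr_gf (K19.f314349 IH) (Lpr_ef (f313949 IH) (Lpr_dt (K14.f168898 IH) (Lpn (LP (LK LD1_c2 LD2_c59 LD3_c42)))))))))))))
theorem f248883 : Led Lsl_dt (LP (LK LD1_c5 LD2_c10 LD3_c45)) = (LP (LK LD1_c2 LD2_c32 LD3_c23)) :=
  Lre_d IH (LK LD1_c5 LD2_c10 LD3_c45) (LK LD1_c2 LD2_c32 LD3_c23) Lrfl Lrfl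
theorem f171632 : Led Lsl_gt (LP (LK LD1_c10 LD2_c12 LD3_c9)) = (LP (LK LD1_c5 LD2_c10 LD3_c45)) :=
  Lre_g IH (LK LD1_c10 LD2_c12 LD3_c9) (LK LD1_c5 LD2_c10 LD3_c45) Lrfl Lrfl
theorem f276119 : Led Lsl_df (LP (LK LD1_c10 LD2_c12 LD3_c9)) = (LP (LK LD1_c10 LD2_c2 LD3_c18)) :=
  Lgr Lrot170 (Lpr_gt (f171632 IH) (Lpe (K19.f171631 IH) (Lpr_et (K19.f171630 IH) (Lpe (K10.f171515 IH) (Lpe (K2.f71526 IH) (Lpr_gt (K14.f186767 IH) (Lpe (K10.f185397 IH) (Lpr_et (K21.f186778 IH) (Lpr_gt (K21.f276015 IH) (Lpr_ef (K16.f276099 IH) (Lpn (LP (LK LD1_c10 LD2_c2 LD3_c18)))))))))))))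
theorem f177571 : Led Lsl_ct (LP (LK LD1_c5 LD2_c2 LD3_c22)) = (LP (LK LD1_c9 LD2_c55 LD3_c38)) :=
  Lre_c IH (LK LD1_c5 LD2_c2 LD3_c22) (LK LD1_c9 LD2_c55 LD3_c38) Lrfl Lrfl
theorem f268109 : Led Lsl_ct (LP (LK LD1_c5 LD2_c36 LD3_c41)) = (LP (LK LD1_c2 LD2_c59 LD3_c6)) :=
  Lgr Lrot59 (Lpr_cf (K15.f268101 IH) (Lpn (LP (LK LD1_c2 LD2_c59 LD3_c6))))
theorem f287927 : Led Lsl_gt (LP (LK LD1_c9 LD2_c55 LD3_c38)) = (LP (LK LD1_c10 LD2_c2 LD3_c18)) :=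
  Lgr Lrot150 (Lpe (f177571 IH) (Lpe (K18.f177570 IH) (Lpr_df (K10.f177559 IH) (Lpr_gt (K17.f177462 IH) (Lpe (f287919 IH) (Lpr_gt (f287925 IH) (Lpr_ct (f268109 IH) (Lpr_df (K9.f169489 IH) (Lpe (K18.f169492 IH) (Lpn (LP (LK LD1_c10 LD2_c2 LD3_c18))))))))))))
theorem f335013 : Led Lsl_gt (LP (LK LD1_c5 LD2_c2 LD3_c22)) = (LP (LK LD1_c5 LD2_c9 LD3_c52)) :=
  Lgr Lrot94 (Lpe (K19.f185858 IH) (Lpr_gt (f287927 IH) (Lpe (f276119 IH) (Lpr_gt (f171632 IH) (Lpr_dt (f248883 IH) (Lpe (K22.f248882 IH) (Lpe (K19.f253538 IH) (Lpe (K18.f183138 IH) (Lpr_df (K22.f335007 IH) (Lpn (LP (LK LD1_c5 LD2_c9 LD3_c52))))))))))))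
theorem f326987 : Led Lsl_et (LP (LK LD1_c2 LD2_c44 LD3_c12)) = (LP (LK LD1_c2 LD2_c59 LD3_c42)) :=
  Lgr Lrot74 (Lpe (K18.f183147 IH) (Lpr_ef (K21.f326983 IH) (Lpe (K21.f168908 IH) (Lpn (LP (LK LD1_c2 LD2_c59 LD3_c42))))))
theorem f342208 : Led Lsl_gf (LP (LK LD1_c4 LD2_c6 LD3_c47)) = (LP (LK LD1_c2 LD2_c59 LD3_c42)) :=
  Lgr Lrot138 (Lpr_dt (f342194 IH) (Lpr_gt (f342201 IH) (Lpe (K14.f168898 IH) (Lpe (f313949 IH) (Lpe (K19.f314349 IH) (Lpe (K18.f181886 IH) (Lpe (K18.f185861 IH) (Lpr_gt (f335013 IH) (Lpe (K22.f335002 IH) (Lpr_et (f326987 IH) (Lpn (LP (LK LD1_c2 LD2_c59 LD3_c42)))))))))))))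
theorem f342210 : Led Lsl_af (LP (LK LD1_c2 LD2_c0 LD3_c44)) = (LP (LK LD1_c1 LD2_c25 LD3_c32)) :=
  Lgr Lrot31 (Lpe (f178205 IH) (Lpr_gf (f342208 IH) (Lpr_ft (K14.f168897 IH) (Lpn (LP (LK LD1_c1 LD2_c25 LD3_c32))))))
theorem f21305 : Led Lsl_et (LP (LK LD1_c2 LD2_c0 LD3_c44)) = (LP (LK LD1_c0 LD2_c57 LD3_c19)) :=
  Lre_e IH (LK LD1_c2 LD2_c0 LD3_c44) (LK LD1_c0 LD2_c57 LD3_c19) Lrfl Lrfl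
theorem f342216 : Led Lsl_at (LP (LK LD1_c0 LD2_c57 LD3_c19)) = (LP (LK LD1_c0 LD2_c39 LD3_c24)) :=
  Lgr Lrot80 (Lpe (f21305 IH) (Lpr_af (f342210 IH) (Lpe (K14.f168882 IH) (Lpn (LP (LK LD1_c0 LD2_c39 LD3_c24))))))
theorem f342220 : Led Lsl_af (LP (LK LD1_c0 LD2_c26 LD3_c0)) = (LP (LK LD1_c0 LD2_c17 LD3_c38)) :=
  Lgr Lrot117 (Lpr_dt (K8.f8128 IH) (Lpr_at (f342216 IH) (Lpr_dt (K9.f168977 IH) (Lpn (LP (LK LD1_c0 LD2_c17 LD3_c38))))))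
theorem f342224 : Led Lsl_ft (LP (LK LD1_c0 LD2_c26 LD3_c1)) = (LP (LK LD1_c0 LD2_c17 LD3_c38)) :=
  Lgr Lrot2 (Lpr_gt (K10.f8129 IH) (Lpr_gt (K8.f8127 IH) (Lpr_af (f342220 IH) (Lpn (LP (LK LD1_c0 LD2_c17 LD3_c38))))))
theorem f342230 : Led Lsl_ff (LP (LK LD1_c0 LD2_c57 LD3_c22)) = (LP (LK LD1_c1 LD2_c0 LD3_c23)) :=
  Lgr Lrot72 (Lpr_et (K10.f8130 IH) (Lpr_ft (f342224 IH) (Lpr_et (K11.f168976 IH) (Lpe (K19.f313939 IH) (Lpe (K9.f171256 IH) (Lpn (LP (LK LD1_c1 LD2_c0 LD3_c23))))))))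
theorem f342234 : Led Lsl_ft (LP (LK LD1_c2 LD2_c0 LD3_c46)) = (LP (LK LD1_c2 LD2_c6 LD3_c53)) :=
  Lgr Lrot75 (Lpe (K14.f22085 IH) (Lpr_ff (f342230 IH) (Lpe (K14.f171228 IH) (Lpn (LP (LK LD1_c2 LD2_c6 LD3_c53))))))
theorem f266083 : Led Lsl_df (LP (LK LD1_c9 LD2_c54 LD3_c3)) = (LP (LK LD1_c5 LD2_c9 LD3_c46)) :=
  Lgr Lrot38 (Lpr_dt (K15.f266078 IH) (Lpn (LP (LK LD1_c5 LD2_c9 LD3_c46))))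
theorem f171319 : Led Lsl_at (LP (LK LD1_c2 LD2_c6 LD3_c53)) = (LP (LK LD1_c4 LD2_c19 LD3_c5)) :=
  Lre_a IH (LK LD1_c2 LD2_c6 LD3_c53) (LK LD1_c4 LD2_c19 LD3_c5) Lrfl Lrfl
theorem f171314 : Led Lsl_at (LP (LK LD1_c4 LD2_c19 LD3_c5)) = (LP (LK LD1_c2 LD2_c6 LD3_c53)) :=
  Lre_a IH (LK LD1_c4 LD2_c19 LD3_c5) (LK LD1_c2 LD2_c6 LD3_c53) Lrfl Lrfl
theorem f205061 : Led Lsl_ct (LP (LK LD1_c4 LD2_c19 LD3_c5)) = (LP (LK LD1_c4 LD2_c19 LD3_c5)) :=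
  Lgr Lrot111 (Lpe (f171319 IH) (Lpr_cf (K15.f205059 IH) (Lpe (f171314 IH) (Lpn (LP (LK LD1_c4 LD2_c19 LD3_c5))))))
theorem f342244 : Led Lsl_dt (LP (LK LD1_c5 LD2_c0 LD3_c45)) = (LP (LK LD1_c4 LD2_c19 LD3_c5)) :=
  Lgr Lrot120 (Lpe (K14.f3395 IH) (Lpe (K15.f266042 IH) (Lpr_cf (K15.f266067 IH) (Lpr_df (f266083 IH) (Lpe (K15.f22086 IH) (Lpr_df (K13.f22070 IH) (Lpr_ft (f342234 IH) (Lpr_at (f171319 IH) (Lpe (f205061 IH) (Lpn (LP (LK LD1_c4 LD2_c19 LD3_c5))))))))))))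
theorem f235382 : Led Lsl_et (LP (LK LD1_c2 LD2_c4 LD3_c40)) = (LP (LK LD1_c4 LD2_c14 LD3_c35)) :=
  Lre_e IH (LK LD1_c2 LD2_c4 LD3_c40) (LK LD1_c4 LD2_c14 LD3_c35) Lrfl Lrfl
theorem f171308 : Led Lsl_at (LP (LK LD1_c1 LD2_c19 LD3_c36)) = (LP (LK LD1_c2 LD2_c46 LD3_c28)) :=
  Lre_a IH (LK LD1_c1 LD2_c19 LD3_c36) (LK LD1_c2 LD2_c46 LD3_c28) Lrfl Lrfl
theorem f171315 : Led Lsl_ef (LP (LK LD1_c4 LD2_c19 LD3_c5)) = (LP (LK LD1_c2 LD2_c46 LD3_c28)) :=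
  Lgr Lrot20 (Lpr_at (f171314 IH) (Lpr_et (K14.f171259 IH) (Lpr_at (f171308 IH) (Lpn (LP (LK LD1_c2 LD2_c46 LD3_c28))))))
theorem f171317 : Led Lsl_et (LP (LK LD1_c4 LD2_c19 LD3_c5)) = (LP (LK LD1_c2 LD2_c46 LD3_c28)) :=
  Lgr Lrot87 (Lpr_ef (f171315 IH) (Lpn (LP (LK LD1_c2 LD2_c46 LD3_c28))))
theorem f342252 : Led Lsl_df (LP (LK LD1_c2 LD2_c4 LD3_c40)) = (LP (LK LD1_c2 LD2_c46 LD3_c28)) :=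
  Lgr Lrot70 (Lpr_et (f235382 IH) (Lpe (K13.f235370 IH) (Lpr_et (K13.f239548 IH) (Lpr_dt (f342244 IH) (Lpr_et (f171317 IH) (Lpn (LP (LK LD1_c2 LD2_c46 LD3_c28))))))))
theorem f342266 : Led Lsl_gt (LP (LK LD1_c2 LD2_c23 LD3_c15)) = (LP (LK LD1_c2 LD2_c46 LD3_c28)) :=
  Lgr Lrot49 (Lpe (K13.f189391 IH) (Lpe (K13.f178050 IH) (Lpe (K12.f177955 IH) (Lpr_gt (K20.f189439 IH) (Lpr_dt (K20.f189440 IH) (Lpe (K20.f316708 IH) (Lpr_dt (K20.f218272 IH) (Lpe (K13.f218245 IH) (Lpr_df (f342252 IH) (Lpn (LP (LK LD1_c2 LD2_c46 LD3_c28))))))))))))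
theorem f342270 : Led Lsl_ft (LP (LK LD1_c1 LD2_c25 LD3_c30)) = (LP (LK LD1_c1 LD2_c19 LD3_c36)) :=
  Lgr Lrot2 (Lpr_gt (K14.f247176 IH) (Lpr_gt (f342266 IH) (Lpe (f171308 IH) (Lpn (LP (LK LD1_c1 LD2_c19 LD3_c36))))))
theorem f342238 : Led Lsl_ff (LP (LK LD1_c2 LD2_c0 LD3_c46)) = (LP (LK LD1_c2 LD2_c6 LD3_c53)) :=
  Lgr Lrot23 (Lpe (K14.f190938 IH) (Lpr_ft (f342234 IH) (Lpe (K15.f205059 IH) (Lpn (LP (LK LD1_c2 LD2_c6 LD3_c53))))))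
theorem f342274 : Led Lsl_ff (LP (LK LD1_c0 LD2_c39 LD3_c23)) = (LP (LK LD1_c0 LD2_c57 LD3_c20)) :=
  Lgr Lrot72 (Lpr_et (K14.f168987 IH) (Lpr_ft (f342270 IH) (Lpe (K14.f171254 IH) (Lpe (f342238 IH) (Lpr_et (K13.f22090 IH) (Lpn (LP (LK LD1_c0 LD2_c57 LD3_c20))))))))
theorem f313793 : Led Lsl_af (LP (LK LD1_c0 LD2_c17 LD3_c38)) = (LP (LK LD1_c0 LD2_c26 LD3_c0)) :=
  Lgr Lrot68 (Lpr_ct (K9.f9091 IH) (Lpr_at (K19.f313789 IH) (Lpr_ct (K10.f183874 IH) (Lpn (LP (LK LD1_c0 LD2_c26 LD3_c0))))))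
theorem f314009 : Led Lsl_at (LP (LK LD1_c0 LD2_c39 LD3_c23)) = (LP (LK LD1_c0 LD2_c59 LD3_c16)) :=
  Lgr Lrot67 (Lpe (K9.f9093 IH) (Lpr_af (f313793 IH) (Lpe (K9.f183873 IH) (Lpr_af (K19.f314005 IH) (Lpe (K10.f189875 IH) (Lpn (LP (LK LD1_c0 LD2_c59 LD3_c16))))))))
theorem f265606 : Led Lsl_bt (LP (LK LD1_c1 LD2_c8 LD3_c40)) = (LP (LK LD1_c1 LD2_c0 LD3_c55)) :=
  Lgr Lrot95 (Lpe (K15.f51043 IH) (Lpr_bf (K15.f265598 IH) (Lpe (K13.f33184 IH) (Lpn (LP (LK LD1_c1 LD2_c0 LD3_c55))))))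
theorem f314017 : Led Lsl_ff (LP (LK LD1_c1 LD2_c8 LD3_c40)) = (LP (LK LD1_c0 LD2_c59 LD3_c16)) :=
  Lgr Lrot25 (Lpr_bt (f265606 IH) (Lpr_ft (K19.f314015 IH) (Lpe (K10.f189873 IH) (Lpn (LP (LK LD1_c0 LD2_c59 LD3_c16))))))
theorem f342276 : Led Lsl_at (LP (LK LD1_c1 LD2_c8 LD3_c40)) = (LP (LK LD1_c0 LD2_c57 LD3_c20)) :=
  Lgr Lrot66 (Lpr_ff (f314017 IH) (Lpe (f314009 IH) (Lpr_ff (f342274 IH) (Lpn (LP (LK LD1_c0 LD2_c57 LD3_c20))))))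
theorem f342282 : Led Lsl_af (LP (LK LD1_c2 LD2_c23 LD3_c7)) = (LP (LK LD1_c2 LD2_c0 LD3_c46)) :=
  Lgr Lrot50 (Lpr_et (K16.f265626 IH) (Lpr_at (f342276 IH) (Lpr_et (K13.f22069 IH) (Lpn (LP (LK LD1_c2 LD2_c0 LD3_c46))))))
theorem f342286 : Led Lsl_at (LP (LK LD1_c2 LD2_c28 LD3_c17)) = (LP (LK LD1_c2 LD2_c31 LD3_c58)) :=
  Lgr Lrot51 (Lpr_df (K19.f274684 IH) (Lpr_af (f342282 IH) (Lpe (K14.f22018 IH) (Lpn (LP (LK LD1_c2 LD2_c31 LD3_c58))))))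
theorem f342288 : Led Lsl_ff (LP (LK LD1_c2 LD2_c28 LD3_c17)) = (LP (LK LD1_c5 LD2_c0 LD3_c45)) :=
  Lgr Lrot52 (Lpr_at (f342286 IH) (Lpe (K13.f190953 IH) (Lpe (K13.f3393 IH) (Lpn (LP (LK LD1_c5 LD2_c0 LD3_c45))))))
theorem f342292 : Led Lsl_ft (LP (LK LD1_c5 LD2_c1 LD3_c3)) = (LP (LK LD1_c9 LD2_c51 LD3_c52)) :=
  Lgr Lrot4 (Lpe (K15.f3735 IH) (Lpr_ff (f342288 IH) (Lpe (K14.f3395 IH) (Lpn (LP (LK LD1_c9 LD2_c51 LD3_c52))))))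
theorem f342300 : Led Lsl_af (LP (LK LD1_c5 LD2_c1 LD3_c5)) = (LP (LK LD1_c9 LD2_c51 LD3_c52)) :=
  Lgr Lrot31 (Lpr_gf (K15.f252702 IH) (Lpe (K15.f3739 IH) (Lpr_ft (f342292 IH) (Lpn (LP (LK LD1_c9 LD2_c51 LD3_c52))))))
theorem f298630 : Led Lsl_et (LP (LK LD1_c10 LD2_c10 LD3_c19)) = (LP (LK LD1_c5 LD2_c9 LD3_c46)) :=
  Lre_e IH (LK LD1_c10 LD2_c10 LD3_c19) (LK LD1_c5 LD2_c9 LD3_c46) Lrfl Lrfl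
theorem f327252 : Led Lsl_af (LP (LK LD1_c5 LD2_c1 LD3_c3)) = (LP (LK LD1_c5 LD2_c9 LD3_c46)) :=
  Lgr Lrot50 (Lpr_et (f266019 IH) (Lpr_at (K21.f327239 IH) (Lpr_et (f298630 IH) (Lpn (LP (LK LD1_c5 LD2_c9 LD3_c46))))))
theorem f342308 : Led Lsl_ft (LP (LK LD1_c5 LD2_c1 LD3_c5)) = (LP (LK LD1_c5 LD2_c9 LD3_c46)) :=
  Lgr Lrot101 (Lpr_af (f342300 IH) (Lpe (f342292 IH) (Lpr_af (f327252 IH) (Lpn (LP (LK LD1_c5 LD2_c9 LD3_c46))))))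
theorem f342314 : Led Lsl_ff (LP (LK LD1_c5 LD2_c1 LD3_c5)) = (LP (LK LD1_c5 LD2_c9 LD3_c46)) :=
  Lgr Lrot3 (Lpr_ft (f342308 IH) (Lpn (LP (LK LD1_c5 LD2_c9 LD3_c46))))
theorem f339779 : Led Lsl_ct (LP (LK LD1_c10 LD2_c8 LD3_c6)) = (LP (LK LD1_c5 LD2_c8 LD3_c51)) :=
  Lre_c IH (LK LD1_c10 LD2_c8 LD3_c6) (LK LD1_c5 LD2_c8 LD3_c51) Lrfl Lrfl
theorem f339780 : Led Lsl_ff (LP (LK LD1_c10 LD2_c8 LD3_c6)) = (LP (LK LD1_c9 LD2_c52 LD3_c38)) :=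
  Lgr Lrot23 (Lpr_ct (f339779 IH) (Lpr_ft (K22.f339777 IH) (Lpr_ct (K16.f246843 IH) (Lpn (LP (LK LD1_c9 LD2_c52 LD3_c38))))))
theorem f342323 : Led Lsl_et (LP (LK LD1_c10 LD2_c8 LD3_c6)) = (LP (LK LD1_c18 LD2_c27 LD3_c39)) :=
  Lre_e IH (LK LD1_c10 LD2_c8 LD3_c6) (LK LD1_c18 LD2_c27 LD3_c39) Lrfl Lrfl
theorem f342324 : Led Lsl_ft (LP (LK LD1_c18 LD2_c27 LD3_c39)) = (LP (LK LD1_c10 LD2_c10 LD3_c19)) :=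
  Lgr Lrot86 (Lpe (f342323 IH) (Lpr_ff (f339780 IH) (Lpe (K16.f246839 IH) (Lpr_ff (f342314 IH) (Lpe (f298630 IH) (Lpn (LP (LK LD1_c10 LD2_c10 LD3_c19))))))))
theorem f327245 : Led Lsl_af (LP (LK LD1_c9 LD2_c52 LD3_c32)) = (LP (LK LD1_c10 LD2_c10 LD3_c19)) :=
  Lgr Lrot0 (Lpr_at (K21.f327239 IH) (Lpn (LP (LK LD1_c10 LD2_c10 LD3_c19))))
theorem f327272 : Led Lsl_df (LP (LK LD1_c27 LD2_c24 LD3_c3)) = (LP (LK LD1_c28 LD2_c3 LD3_c18)) :=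
  Lgr Lrot38 (Lpr_dt (K21.f327268 IH) (Lpn (LP (LK LD1_c28 LD2_c3 LD3_c18))))
theorem f342337 : Led Lsl_dt (LP (LK LD1_c18 LD2_c27 LD3_c39)) = (LP (LK LD1_c18 LD2_c29 LD3_c0)) :=
  Lgr Lrot159 (Lpr_ft (f342324 IH) (Lpe (f327245 IH) (Lpe (K21.f252734 IH) (Lpr_df (K16.f274686 IH) (Lpe (K19.f243744 IH) (Lpe (K21.f243733 IH) (Lpe (K21.f243734 IH) (Lpr_df (f327272 IH) (Lpr_cf (K21.f298554 IH) (Lpn (LP (LK LD1_c18 LD2_c29 LD3_c0))))))))))))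
theorem f342345 : Led Lsl_et (LP (LK LD1_c18 LD2_c27 LD3_c39)) = (LP (LK LD1_c10 LD2_c8 LD3_c6)) :=
  Lre_e IH (LK LD1_c18 LD2_c27 LD3_c39) (LK LD1_c10 LD2_c8 LD3_c6) Lrfl Lrfl
theorem f242325 : Led Lsl_et (LP (LK LD1_c4 LD2_c1 LD3_c19)) = (LP (LK LD1_c8 LD2_c3 LD3_c19)) :=
  Lre_e IH (LK LD1_c4 LD2_c1 LD3_c19) (LK LD1_c8 LD2_c3 LD3_c19) Lrfl Lrfl
theorem f342346 : Led Lsl_gf (LP (LK LD1_c10 LD2_c8 LD3_c6)) = (LP (LK LD1_c8 LD2_c3 LD3_c19)) :=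
  Lgr Lrot141 (Lpe (f342345 IH) (Lpr_dt (f342337 IH) (Lpr_gt (K21.f33830 IH) (Lpe (K19.f21748 IH) (Lpr_et (K19.f21747 IH) (Lpe (K13.f33820 IH) (Lpr_dt (K15.f33778 IH) (Lpe (K13.f34107 IH) (Lpr_df (K13.f240230 IH) (Lpr_et (f242325 IH) (Lpn (LP (LK LD1_c8 LD2_c3 LD3_c19)))))))))))))
theorem f213612 : Led Lsl_ct (LP (LK LD1_c15 LD2_c3 LD3_c18)) = (LP (LK LD1_c7 LD2_c58 LD3_c48)) :=
  Lre_c IH (LK LD1_c15 LD2_c3 LD3_c18) (LK LD1_c7 LD2_c58 LD3_c48) Lrfl Lrfl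
theorem f171564 : Led Lsl_ct (LP (LK LD1_c4 LD2_c1 LD3_c20)) = (LP (LK LD1_c8 LD2_c3 LD3_c19)) :=
  Lre_c IH (LK LD1_c4 LD2_c1 LD3_c20) (LK LD1_c8 LD2_c3 LD3_c19) Lrfl Lrfl
theorem f342348 : Led Lsl_gf (LP (LK LD1_c5 LD2_c31 LD3_c18)) = (LP (LK LD1_c8 LD2_c39 LD3_c30)) :=
  Lgr Lrot147 (Lpr_ct (K19.f185889 IH) (Lpr_gt (K19.f314355 IH) (Lpr_ct (f213612 IH) (Lpe (K22.f339772 IH) (Lpe (f339779 IH) (Lpr_gf (f342346 IH) (Lpe (f171564 IH) (Lpe (K19.f171610 IH) (Lpe (K19.f293399 IH) (Lpn (LP (LK LD1_c8 LD2_c39 LD3_c30))))))))))))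
theorem f342357 : Led Lsl_ef (LP (LK LD1_c5 LD2_c31 LD3_c18)) = (LP (LK LD1_c8 LD2_c7 LD3_c41)) :=
  Lgr Lrot17 (Lpr_gf (f342348 IH) (Lpe (K19.f213458 IH) (Lpe (K19.f255652 IH) (Lpe (K19.f184415 IH) (Lpe (K13.f184413 IH) (Lpe (K13.f199322 IH) (Lpe (K15.f42450 IH) (Lpr_dt (K19.f42268 IH) (Lpe (K19.f42457 IH) (Lpe (K19.f305570 IH) (Lpn (LP (LK LD1_c8 LD2_c7 LD3_c41)))))))))))))
theorem f342363 : Led Lsl_et (LP (LK LD1_c5 LD2_c31 LD3_c18)) = (LP (LK LD1_c8 LD2_c7 LD3_c41)) :=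
  Lgr Lrot87 (Lpr_ef (f342357 IH) (Lpn (LP (LK LD1_c8 LD2_c7 LD3_c41))))
theorem f309595 : Led Lsl_dt (LP (LK LD1_c10 LD2_c54 LD3_c13)) = (LP (LK LD1_c5 LD2_c31 LD3_c18)) :=
  Lre_d IH (LK LD1_c10 LD2_c54 LD3_c13) (LK LD1_c5 LD2_c31 LD3_c18) Lrfl Lrfl
theorem f342367 : Led Lsl_ef (LP (LK LD1_c10 LD2_c54 LD3_c13)) = (LP (LK LD1_c15 LD2_c9 LD3_c16)) :=
  Lgr Lrot73 (Lpr_dt (f309595 IH) (Lpr_et (f342363 IH) (Lpr_dt (K19.f305570 IH) (Lpe (K19.f305576 IH) (Lpr_dt (K19.f218979 IH) (Lpn (LP (LK LD1_c15 LD2_c9 LD3_c16))))))))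
theorem f285574 : Led Lsl_bt (LP (LK LD1_c10 LD2_c54 LD3_c13)) = (LP (LK LD1_c5 LD2_c31 LD3_c20)) :=
  Lre_b IH (LK LD1_c10 LD2_c54 LD3_c13) (LK LD1_c5 LD2_c31 LD3_c20) Lrfl Lrfl
theorem f342371 : Led Lsl_bt (LP (LK LD1_c8 LD2_c57 LD3_c13)) = (LP (LK LD1_c15 LD2_c9 LD3_c16)) :=
  Lgr Lrot119 (Lpr_ef (K21.f285572 IH) (Lpe (f285574 IH) (Lpr_ef (f342367 IH) (Lpn (LP (LK LD1_c15 LD2_c9 LD3_c16))))))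
theorem f342379 : Led Lsl_bf (LP (LK LD1_c4 LD2_c29 LD3_c29)) = (LP (LK LD1_c8 LD2_c2 LD3_c56)) :=
  Lgr Lrot93 (Lpr_dt (K21.f285564 IH) (Lpr_bt (f342371 IH) (Lpr_dt (K19.f269302 IH) (Lpn (LP (LK LD1_c8 LD2_c2 LD3_c56))))))
theorem f342383 : Led Lsl_bt (LP (LK LD1_c8 LD2_c16 LD3_c3)) = (LP (LK LD1_c11 LD2_c53 LD3_c27)) :=
  Lgr Lrot119 (Lpe (K21.f285567 IH) (Lpr_bf (f342379 IH) (Lpr_ef (K19.f305576 IH) (Lpn (LP (LK LD1_c11 LD2_c53 LD3_c27))))))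
theorem f282948 : Led Lsl_ct (LP (LK LD1_c8 LD2_c16 LD3_c3)) = (LP (LK LD1_c15 LD2_c32 LD3_c37)) :=
  Lre_c IH (LK LD1_c8 LD2_c16 LD3_c3) (LK LD1_c15 LD2_c32 LD3_c37) Lrfl Lrfl
theorem f49333 : Led Lsl_et (LP (LK LD1_c8 LD2_c16 LD3_c10)) = (LP (LK LD1_c4 LD2_c8 LD3_c3)) :=
  Lre_e IH (LK LD1_c8 LD2_c16 LD3_c10) (LK LD1_c4 LD2_c8 LD3_c3) Lrfl Lrfl
theorem f49334 : Led Lsl_dt (LP (LK LD1_c8 LD2_c16 LD3_c10)) = (LP (LK LD1_c15 LD2_c32 LD3_c51)) :=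
  Lre_d IH (LK LD1_c8 LD2_c16 LD3_c10) (LK LD1_c15 LD2_c32 LD3_c51) Lrfl Lrfl
theorem f337814 : Led Lsl_et (LP (LK LD1_c8 LD2_c56 LD3_c4)) = (LP (LK LD1_c16 LD2_c43 LD3_c27)) :=
  Lre_e IH (LK LD1_c8 LD2_c56 LD3_c4) (LK LD1_c16 LD2_c43 LD3_c27) Lrfl Lrfl
theorem f264486 : Led Lsl_dt (LP (LK LD1_c8 LD2_c56 LD3_c4)) = (LP (LK LD1_c16 LD2_c43 LD3_c26)) :=
  Lre_d IH (LK LD1_c8 LD2_c56 LD3_c4) (LK LD1_c16 LD2_c43 LD3_c26) Lrfl Lrfl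
theorem f337819 : Led Lsl_gt (LP (LK LD1_c15 LD2_c32 LD3_c51)) = (LP (LK LD1_c16 LD2_c43 LD3_c26)) :=
  Lgr Lrot112 (Lpe (f49334 IH) (Lpr_et (f49333 IH) (Lpe (K10.f53590 IH) (Lpe (K9.f49773 IH) (Lpr_dt (K9.f49756 IH) (Lpr_gf (f217287 IH) (Lpr_df (f337815 IH) (Lpe (f323514 IH) (Lpe (f337814 IH) (Lpr_dt (f264486 IH) (Lpn (LP (LK LD1_c16 LD2_c43 LD3_c26)))))))))))))
theorem f264490 : Led Lsl_dt (LP (LK LD1_c16 LD2_c43 LD3_c26)) = (LP (LK LD1_c8 LD2_c56 LD3_c4)) :=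
  Lre_d IH (LK LD1_c16 LD2_c43 LD3_c26) (LK LD1_c8 LD2_c56 LD3_c4) Lrfl Lrfl
theorem f197580 : Led Lsl_ct (LP (LK LD1_c4 LD2_c28 LD3_c53)) = (LP (LK LD1_c8 LD2_c56 LD3_c4)) :=
  Lre_c IH (LK LD1_c4 LD2_c28 LD3_c53) (LK LD1_c8 LD2_c56 LD3_c4) Lrfl Lrfl
theorem f282953 : Led Lsl_ct (LP (LK LD1_c15 LD2_c32 LD3_c37)) = (LP (LK LD1_c8 LD2_c16 LD3_c3)) :=
  Lre_c IH (LK LD1_c15 LD2_c32 LD3_c37) (LK LD1_c8 LD2_c16 LD3_c3) Lrfl Lrfl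
theorem f337821 : Led Lsl_gf (LP (LK LD1_c8 LD2_c16 LD3_c10)) = (LP (LK LD1_c15 LD2_c32 LD3_c37)) :=
  Lgr Lrot144 (Lpr_dt (f49334 IH) (Lpr_gt (f337819 IH) (Lpr_dt (f264490 IH) (Lpe (f197580 IH) (Lpr_df (K21.f264484 IH) (Lpe (K21.f264472 IH) (Lpr_df (f282934 IH) (Lpe (K18.f190077 IH) (Lpe (f282953 IH) (Lpn (LP (LK LD1_c15 LD2_c32 LD3_c37))))))))))))
theorem f188057 : Led Lsl_et (LP (LK LD1_c4 LD2_c8 LD3_c3)) = (LP (LK LD1_c8 LD2_c16 LD3_c10)) :=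
  Lre_e IH (LK LD1_c4 LD2_c8 LD3_c3) (LK LD1_c8 LD2_c16 LD3_c10) Lrfl Lrfl
theorem f188058 : Led Lsl_et (LP (LK LD1_c8 LD2_c13 LD3_c44)) = (LP (LK LD1_c4 LD2_c6 LD3_c35)) :=
  Lre_e IH (LK LD1_c8 LD2_c13 LD3_c44) (LK LD1_c4 LD2_c6 LD3_c35) Lrfl Lrfl
theorem f188059 : Led Lsl_ct (LP (LK LD1_c8 LD2_c16 LD3_c10)) = (LP (LK LD1_c8 LD2_c13 LD3_c44)) :=
  Lgr Lrot15 (Lpe (f188057 IH) (Lpr_cf (K10.f188047 IH) (Lpe (f188058 IH) (Lpn (LP (LK LD1_c8 LD2_c13 LD3_c44))))))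
theorem f188119 : Led Lsl_cf (LP (LK LD1_c8 LD2_c16 LD3_c10)) = (LP (LK LD1_c8 LD2_c13 LD3_c44)) :=
  Lgr Lrot11 (Lpr_ct (f188059 IH) (Lpn (LP (LK LD1_c8 LD2_c13 LD3_c44))))
theorem f194719 : Led Lsl_bf (LP (LK LD1_c8 LD2_c6 LD3_c60)) = (LP (LK LD1_c10 LD2_c35 LD3_c43)) :=
  Lgr Lrot24 (Lpr_bt (K10.f194711 IH) (Lpn (LP (LK LD1_c10 LD2_c35 LD3_c43))))
theorem f238363 : Led Lsl_et (LP (LK LD1_c8 LD2_c27 LD3_c40)) = (LP (LK LD1_c15 LD2_c53 LD3_c20)) :=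
  Lre_e IH (LK LD1_c8 LD2_c27 LD3_c40) (LK LD1_c15 LD2_c53 LD3_c20) Lrfl Lrfl
theorem f238369 : Led Lsl_dt (LP (LK LD1_c8 LD2_c27 LD3_c40)) = (LP (LK LD1_c15 LD2_c53 LD3_c19)) :=
  Lre_d IH (LK LD1_c8 LD2_c27 LD3_c40) (LK LD1_c15 LD2_c53 LD3_c19) Lrfl Lrfl
theorem f187611 : Led Lsl_et (LP (LK LD1_c5 LD2_c36 LD3_c3)) = (LP (LK LD1_c2 LD2_c43 LD3_c61)) :=
  Lre_e IH (LK LD1_c5 LD2_c36 LD3_c3) (LK LD1_c2 LD2_c43 LD3_c61) Lrfl Lrfl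
theorem f188036 : Led Lsl_dt (LP (LK LD1_c5 LD2_c36 LD3_c3)) = (LP (LK LD1_c11 LD2_c4 LD3_c28)) :=
  Lre_d IH (LK LD1_c5 LD2_c36 LD3_c3) (LK LD1_c11 LD2_c4 LD3_c28) Lrfl Lrfl
theorem f338625 : Led Lsl_gf (LP (LK LD1_c15 LD2_c53 LD3_c19)) = (LP (LK LD1_c11 LD2_c4 LD3_c28)) :=
  Lgr Lrot145 (Lpe (f238369 IH) (Lpr_et (f238363 IH) (Lpr_gt (K22.f338611 IH) (Lpe (K22.f338623 IH) (Lpr_gt (K22.f52396 IH) (Lpe (K20.f28025 IH) (Lpr_et (K20.f52403 IH) (Lpr_gt (K10.f188034 IH) (Lpe (f187611 IH) (Lpr_dt (f188036 IH) (Lpn (LP (LK LD1_c11 LD2_c4 LD3_c28)))))))))))))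
theorem f238364 : Led Lsl_dt (LP (LK LD1_c15 LD2_c53 LD3_c19)) = (LP (LK LD1_c8 LD2_c27 LD3_c40)) :=
  Lre_d IH (LK LD1_c15 LD2_c53 LD3_c19) (LK LD1_c8 LD2_c27 LD3_c40) Lrfl Lrfl
theorem f310597 : Led Lsl_ct (LP (LK LD1_c8 LD2_c27 LD3_c40)) = (LP (LK LD1_c4 LD2_c52 LD3_c49)) :=
  Lgr Lrot15 (Lpe (K22.f238357 IH) (Lpr_cf (K22.f310595 IH) (Lpe (K21.f187959 IH) (Lpn (LP (LK LD1_c4 LD2_c52 LD3_c49))))))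
theorem f291217 : Led Lsl_gt (LP (LK LD1_c11 LD2_c4 LD3_c27)) = (LP (LK LD1_c5 LD2_c36 LD3_c3)) :=
  Lre_g IH (LK LD1_c11 LD2_c4 LD3_c27) (LK LD1_c5 LD2_c36 LD3_c3) Lrfl Lrfl
theorem f338627 : Led Lsl_ct (LP (LK LD1_c11 LD2_c53 LD3_c27)) = (LP (LK LD1_c11 LD2_c4 LD3_c27)) :=
  Lgr Lrot8 (Lpr_gt (K19.f42457 IH) (Lpe (K15.f42445 IH) (Lpr_gt (K19.f199326 IH) (Lpr_dt (K19.f187946 IH) (Lpe (f310597 IH) (Lpe (f238364 IH) (Lpr_gf (f338625 IH) (Lpe (f188036 IH) (Lpe (f291217 IH) (Lpn (LP (LK LD1_c11 LD2_c4 LD3_c27))))))))))))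
theorem f189201 : Led Lsl_bt (LP (LK LD1_c2 LD2_c43 LD3_c52)) = (LP (LK LD1_c1 LD2_c18 LD3_c32)) :=
  Lre_b IH (LK LD1_c2 LD2_c43 LD3_c52) (LK LD1_c1 LD2_c18 LD3_c32) Lrfl Lrfl
theorem f177889 : Led Lsl_gt (LP (LK LD1_c1 LD2_c18 LD3_c32)) = (LP (LK LD1_c2 LD2_c44 LD3_c22)) :=
  Lre_g IH (LK LD1_c1 LD2_c18 LD3_c32) (LK LD1_c2 LD2_c44 LD3_c22) Lrfl Lrfl
theorem f338640 : Led Lsl_bt (LP (LK LD1_c5 LD2_c36 LD3_c61)) = (LP (LK LD1_c2 LD2_c44 LD3_c22)) :=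
  Lre_b IH (LK LD1_c5 LD2_c36 LD3_c61) (LK LD1_c2 LD2_c44 LD3_c22) Lrfl Lrfl
theorem f338641 : Led Lsl_ct (LP (LK LD1_c5 LD2_c36 LD3_c61)) = (LP (LK LD1_c11 LD2_c6 LD3_c6)) :=
  Lre_c IH (LK LD1_c5 LD2_c36 LD3_c61) (LK LD1_c11 LD2_c6 LD3_c6) Lrfl Lrfl
theorem f338642 : Led Lsl_gf (LP (LK LD1_c19 LD2_c11 LD3_c13)) = (LP (LK LD1_c11 LD2_c6 LD3_c6)) :=
  Lgr Lrot126 (Lpe (K17.f194723 IH) (Lpe (f194719 IH) (Lpr_gt (K19.f305574 IH) (Lpr_ct (f338627 IH) (Lpr_gt (f291217 IH) (Lpe (K20.f189177 IH) (Lpr_bt (f189201 IH) (Lpr_gt (f177889 IH) (Lpe (f338640 IH) (Lpr_ct (f338641 IH) (Lpn (LP (LK LD1_c11 LD2_c6 LD3_c6)))))))))))))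
theorem f342389 : Led Lsl_gt (LP (LK LD1_c4 LD2_c6 LD3_c37)) = (LP (LK LD1_c5 LD2_c36 LD3_c61)) :=
  Lgr Lrot82 (Lpe (K10.f187327 IH) (Lpe (f188119 IH) (Lpr_gf (f337821 IH) (Lpe (f282948 IH) (Lpr_bt (f342383 IH) (Lpe (K19.f305574 IH) (Lpr_bf (f194719 IH) (Lpr_ct (K17.f194723 IH) (Lpr_gf (f338642 IH) (Lpe (f338641 IH) (Lpn (LP (LK LD1_c5 LD2_c36 LD3_c61)))))))))))))
theorem f187309 : Led Lsl_et (LP (LK LD1_c2 LD2_c0 LD3_c38)) = (LP (LK LD1_c4 LD2_c6 LD3_c37)) :=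
  Lre_e IH (LK LD1_c2 LD2_c0 LD3_c38) (LK LD1_c4 LD2_c6 LD3_c37) Lrfl Lrfl
theorem f284100 : Led Lsl_gf (LP (LK LD1_c2 LD2_c25 LD3_c9)) = (LP (LK LD1_c4 LD2_c19 LD3_c8)) :=
  Lgr Lrot144 (Lpr_dt (K12.f187305 IH) (Lpr_gt (K10.f47454 IH) (Lpr_dt (K9.f54973 IH) (Lpr_cf (K10.f187773 IH) (Lpe (K10.f42118 IH) (Lpe (K9.f42114 IH) (Lpe (K9.f42135 IH) (Lpr_gf (K17.f284094 IH) (Lpr_cf (K17.f256229 IH) (Lpn (LP (LK LD1_c4 LD2_c19 LD3_c8))))))))))))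
theorem f251675 : Led Lsl_et (LP (LK LD1_c2 LD2_c0 LD3_c26)) = (LP (LK LD1_c2 LD2_c6 LD3_c43)) :=
  Lgr Lrot87 (Lpr_ef (K14.f251669 IH) (Lpn (LP (LK LD1_c2 LD2_c6 LD3_c43))))
theorem f253604 : Led Lsl_ef (LP (LK LD1_c4 LD2_c6 LD3_c13)) = (LP (LK LD1_c5 LD2_c36 LD3_c34)) :=
  Lgr Lrot73 (Lpr_dt (K14.f54528 IH) (Lpr_et (f251675 IH) (Lpe (K14.f251626 IH) (Lpr_et (K14.f250169 IH) (Lpr_dt (K14.f253595 IH) (Lpn (LP (LK LD1_c5 LD2_c36 LD3_c34))))))))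
theorem f250127 : Led Lsl_gt (LP (LK LD1_c9 LD2_c54 LD3_c55)) = (LP (LK LD1_c5 LD2_c2 LD3_c5)) :=
  Lre_g IH (LK LD1_c9 LD2_c54 LD3_c55) (LK LD1_c5 LD2_c2 LD3_c5) Lrfl Lrfl
theorem f342398 : Led Lsl_et (LP (LK LD1_c11 LD2_c6 LD3_c7)) = (LP (LK LD1_c5 LD2_c36 LD3_c61)) :=
  Lre_e IH (LK LD1_c11 LD2_c6 LD3_c7) (LK LD1_c5 LD2_c36 LD3_c61) Lrfl Lrfl
theorem f342399 : Led Lsl_df (LP (LK LD1_c9 LD2_c54 LD3_c55)) = (LP (LK LD1_c11 LD2_c6 LD3_c7)) :=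
  Lgr Lrot170 (Lpr_gt (f250127 IH) (Lpr_df (K14.f253591 IH) (Lpe (f253604 IH) (Lpr_gt (K17.f265242 IH) (Lpe (K17.f289998 IH) (Lpe (f284100 IH) (Lpr_df (K10.f187301 IH) (Lpr_et (f187309 IH) (Lpr_gt (f342389 IH) (Lpe (f342398 IH) (Lpn (LP (LK LD1_c11 LD2_c6 LD3_c7)))))))))))))
theorem f342408 : Led Lsl_gt (LP (LK LD1_c18 LD2_c34 LD3_c6)) = (LP (LK LD1_c11 LD2_c6 LD3_c7)) :=
  Lgr Lrot137 (Lpe (K21.f307224 IH) (Lpr_dt (K21.f301233 IH) (Lpe (K21.f222119 IH) (Lpe (K19.f301204 IH) (Lpr_et (K19.f301206 IH) (Lpe (K17.f265242 IH) (Lpr_ef (f253604 IH) (Lpe (K14.f253591 IH) (Lpe (f250127 IH) (Lpr_df (f342399 IH) (Lpn (LP (LK LD1_c11 LD2_c6 LD3_c7)))))))))))))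
theorem f320945 : Led Lsl_cf (LP (LK LD1_c8 LD2_c5 LD3_c49)) = (LP (LK LD1_c10 LD2_c8 LD3_c29)) :=
  Lgr Lrot166 (Lpr_gt (K19.f246103 IH) (Lpr_dt (K18.f246113 IH) (Lpe (K19.f296371 IH) (Lpr_dt (K20.f320935 IH) (Lpe (K21.f251479 IH) (Lpe (K20.f251481 IH) (Lpr_gf (K20.f265909 IH) (Lpe (K20.f197188 IH) (Lpe (K20.f242839 IH) (Lpn (LP (LK LD1_c10 LD2_c8 LD3_c29))))))))))))
theorem f320949 : Led Lsl_bt (LP (LK LD1_c18 LD2_c28 LD3_c24)) = (LP (LK LD1_c10 LD2_c8 LD3_c29)) :=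
  Lre_b IH (LK LD1_c18 LD2_c28 LD3_c24) (LK LD1_c10 LD2_c8 LD3_c29) Lrfl Lrfl
theorem f320950 : Led Lsl_ct (LP (LK LD1_c28 LD2_c3 LD3_c16)) = (LP (LK LD1_c18 LD2_c28 LD3_c24)) :=
  Lre_c IH (LK LD1_c28 LD2_c3 LD3_c16) (LK LD1_c18 LD2_c28 LD3_c24) Lrfl Lrfl
theorem f340228 : Led Lsl_bf (LP (LK LD1_c28 LD2_c3 LD3_c16)) = (LP (LK LD1_c18 LD2_c34 LD3_c2)) :=
  Lgr Lrot90 (Lpr_ct (f320950 IH) (Lpr_bt (f320949 IH) (Lpe (f320945 IH) (Lpr_bt (f340224 IH) (Lpe (f340207 IH) (Lpn (LP (LK LD1_c18 LD2_c34 LD3_c2))))))))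
theorem f340238 : Led Lsl_bt (LP (LK LD1_c28 LD2_c3 LD3_c16)) = (LP (LK LD1_c18 LD2_c34 LD3_c2)) :=
  Lgr Lrot127 (Lpr_bf (f340228 IH) (Lpn (LP (LK LD1_c18 LD2_c34 LD3_c2))))
theorem f320952 : Led Lsl_ct (LP (LK LD1_c18 LD2_c28 LD3_c24)) = (LP (LK LD1_c28 LD2_c3 LD3_c16)) :=
  Lre_c IH (LK LD1_c18 LD2_c28 LD3_c24) (LK LD1_c28 LD2_c3 LD3_c16) Lrfl Lrfl
theorem f320951 : Led Lsl_bt (LP (LK LD1_c10 LD2_c8 LD3_c29)) = (LP (LK LD1_c18 LD2_c28 LD3_c24)) :=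
  Lre_b IH (LK LD1_c10 LD2_c8 LD3_c29) (LK LD1_c18 LD2_c28 LD3_c24) Lrfl Lrfl
theorem f340240 : Led Lsl_cf (LP (LK LD1_c10 LD2_c33 LD3_c1)) = (LP (LK LD1_c18 LD2_c34 LD3_c2)) :=
  Lgr Lrot97 (Lpe (f340226 IH) (Lpr_ct (K20.f320943 IH) (Lpr_bt (f320951 IH) (Lpr_ct (f320952 IH) (Lpr_bt (f340238 IH) (Lpn (LP (LK LD1_c18 LD2_c34 LD3_c2))))))))
theorem f339112 : Led Lsl_et (LP (LK LD1_c15 LD2_c3 LD3_c7)) = (LP (LK LD1_c24 LD2_c52 LD3_c13)) :=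
  Lre_e IH (LK LD1_c15 LD2_c3 LD3_c7) (LK LD1_c24 LD2_c52 LD3_c13) Lrfl Lrfl
theorem f340214 : Led Lsl_ct (LP (LK LD1_c24 LD2_c52 LD3_c13)) = (LP (LK LD1_c19 LD2_c6 LD3_c28)) :=
  Lgr Lrot15 (Lpe (f339112 IH) (Lpe (K22.f339107 IH) (Lpr_ef (f340210 IH) (Lpn (LP (LK LD1_c19 LD2_c6 LD3_c28))))))
theorem f340139 : Led Lsl_ct (LP (LK LD1_c11 LD2_c6 LD3_c7)) = (LP (LK LD1_c19 LD2_c59 LD3_c35)) :=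
  Lre_c IH (LK LD1_c11 LD2_c6 LD3_c7) (LK LD1_c19 LD2_c59 LD3_c35) Lrfl Lrfl
theorem f342412 : Led Lsl_gf (LP (LK LD1_c24 LD2_c52 LD3_c13)) = (LP (LK LD1_c19 LD2_c59 LD3_c35)) :=
  Lgr Lrot104 (Lpr_ct (f340214 IH) (Lpe (f318109 IH) (Lpr_cf (f340240 IH) (Lpe (f248768 IH) (Lpe (K22.f248737 IH) (Lpe (K21.f248892 IH) (Lpe (K21.f253666 IH) (Lpr_gt (f342408 IH) (Lpr_ct (f340139 IH) (Lpn (LP (LK LD1_c19 LD2_c59 LD3_c35))))))))))))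
theorem f339110 : Led Lsl_cf (LP (LK LD1_c15 LD2_c9 LD3_c36)) = (LP (LK LD1_c15 LD2_c3 LD3_c7)) :=
  Lgr Lrot11 (Lpr_ct (K22.f339107 IH) (Lpn (LP (LK LD1_c15 LD2_c3 LD3_c7))))
theorem f54685 : Led Lsl_et (LP (LK LD1_c24 LD2_c52 LD3_c13)) = (LP (LK LD1_c15 LD2_c3 LD3_c7)) :=
  Lre_e IH (LK LD1_c24 LD2_c52 LD3_c13) (LK LD1_c15 LD2_c3 LD3_c7) Lrfl Lrfl
theorem f340220 : Led Lsl_cf (LP (LK LD1_c24 LD2_c52 LD3_c13)) = (LP (LK LD1_c19 LD2_c6 LD3_c28)) :=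
  Lgr Lrot39 (Lpr_et (f54685 IH) (Lpe (f339110 IH) (Lpr_et (f340216 IH) (Lpn (LP (LK LD1_c19 LD2_c6 LD3_c28))))))
theorem f243999 : Led Lsl_ct (LP (LK LD1_c8 LD2_c8 LD3_c29)) = (LP (LK LD1_c15 LD2_c19 LD3_c48)) :=
  Lre_c IH (LK LD1_c8 LD2_c8 LD3_c29) (LK LD1_c15 LD2_c19 LD3_c48) Lrfl Lrfl
theorem f248764 : Led Lsl_ct (LP (LK LD1_c9 LD2_c58 LD3_c5)) = (LP (LK LD1_c5 LD2_c3 LD3_c36)) :=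
  Lre_c IH (LK LD1_c9 LD2_c58 LD3_c5) (LK LD1_c5 LD2_c3 LD3_c36) Lrfl Lrfl
theorem f340268 : Led Lsl_dt (LP (LK LD1_c9 LD2_c58 LD3_c6)) = (LP (LK LD1_c5 LD2_c3 LD3_c36)) :=
  Lre_d IH (LK LD1_c9 LD2_c58 LD3_c6) (LK LD1_c5 LD2_c3 LD3_c36) Lrfl Lrfl
theorem f340269 : Led Lsl_ct (LP (LK LD1_c18 LD2_c14 LD3_c12)) = (LP (LK LD1_c9 LD2_c58 LD3_c6)) :=
  Lre_c IH (LK LD1_c18 LD2_c14 LD3_c12) (LK LD1_c9 LD2_c58 LD3_c6) Lrfl Lrfl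
theorem f340270 : Led Lsl_gt (LP (LK LD1_c15 LD2_c19 LD3_c48)) = (LP (LK LD1_c18 LD2_c14 LD3_c12)) :=
  Lgr Lrot150 (Lpe (f243999 IH) (Lpe (K21.f327379 IH) (Lpe (K19.f296423 IH) (Lpr_gt (K19.f246103 IH) (Lpr_ct (K18.f296440 IH) (Lpr_gt (f340255 IH) (Lpr_ct (f248764 IH) (Lpe (f340268 IH) (Lpe (f340269 IH) (Lpn (LP (LK LD1_c18 LD2_c14 LD3_c12))))))))))))
theorem f340326 : Led Lsl_ct (LP (LK LD1_c9 LD2_c58 LD3_c6)) = (LP (LK LD1_c18 LD2_c14 LD3_c12)) :=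
  Lre_c IH (LK LD1_c9 LD2_c58 LD3_c6) (LK LD1_c18 LD2_c14 LD3_c12) Lrfl Lrfl
theorem f340327 : Led Lsl_bt (LP (LK LD1_c9 LD2_c58 LD3_c6)) = (LP (LK LD1_c5 LD2_c3 LD3_c38)) :=
  Lre_b IH (LK LD1_c9 LD2_c58 LD3_c6) (LK LD1_c5 LD2_c3 LD3_c38) Lrfl Lrfl
theorem f237819 : Led Lsl_bt (LP (LK LD1_c11 LD2_c6 LD3_c7)) = (LP (LK LD1_c5 LD2_c37 LD3_c0)) :=
  Lre_b IH (LK LD1_c11 LD2_c6 LD3_c7) (LK LD1_c5 LD2_c37 LD3_c0) Lrfl Lrfl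
theorem f342414 : Led Lsl_gt (LP (LK LD1_c5 LD2_c3 LD3_c38)) = (LP (LK LD1_c5 LD2_c37 LD3_c0)) :=
  Lgr Lrot164 (Lpe (f340327 IH) (Lpr_ct (f340326 IH) (Lpe (f340270 IH) (Lpe (f243999 IH) (Lpe (K21.f327379 IH) (Lpr_bf (f340218 IH) (Lpe (f340220 IH) (Lpr_gf (f342412 IH) (Lpe (f340139 IH) (Lpr_bt (f237819 IH) (Lpn (LP (LK LD1_c5 LD2_c37 LD3_c0)))))))))))))
theorem f248761 : Led Lsl_dt (LP (LK LD1_c2 LD2_c29 LD3_c17)) = (LP (LK LD1_c5 LD2_c3 LD3_c38)) :=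
  Lre_d IH (LK LD1_c2 LD2_c29 LD3_c17) (LK LD1_c5 LD2_c3 LD3_c38) Lrfl Lrfl
theorem f22043 : Led Lsl_gt (LP (LK LD1_c5 LD2_c9 LD3_c51)) = (LP (LK LD1_c2 LD2_c31 LD3_c60)) :=
  Lre_g IH (LK LD1_c5 LD2_c9 LD3_c51) (LK LD1_c2 LD2_c31 LD3_c60) Lrfl Lrfl
theorem f177566 : Led Lsl_gt (LP (LK LD1_c5 LD2_c2 LD3_c23)) = (LP (LK LD1_c2 LD2_c28 LD3_c46)) :=
  Lre_g IH (LK LD1_c5 LD2_c2 LD3_c23) (LK LD1_c2 LD2_c28 LD3_c46) Lrfl Lrfl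
theorem f180031 : Led Lsl_et (LP (LK LD1_c0 LD2_c36 LD3_c11)) = (LP (LK LD1_c1 LD2_c18 LD3_c32)) :=
  Lre_e IH (LK LD1_c0 LD2_c36 LD3_c11) (LK LD1_c1 LD2_c18 LD3_c32) Lrfl Lrfl
theorem f237816 : Led Lsl_et (LP (LK LD1_c5 LD2_c37 LD3_c0)) = (LP (LK LD1_c2 LD2_c44 LD3_c22)) :=
  Lre_e IH (LK LD1_c5 LD2_c37 LD3_c0) (LK LD1_c2 LD2_c44 LD3_c22) Lrfl Lrfl
theorem f237817 : Led Lsl_df (LP (LK LD1_c5 LD2_c2 LD3_c23)) = (LP (LK LD1_c5 LD2_c37 LD3_c0)) :=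
  Lgr Lrot170 (Lpr_gt (f177566 IH) (Lpr_df (K10.f177559 IH) (Lpr_et (K10.f177372 IH) (Lpr_gt (K15.f237809 IH) (Lpr_dt (K13.f178258 IH) (Lpr_gt (K9.f178243 IH) (Lpe (K9.f7946 IH) (Lpr_et (f180031 IH) (Lpr_gt (f177889 IH) (Lpe (f237816 IH) (Lpn (LP (LK LD1_c5 LD2_c37 LD3_c0)))))))))))))
theorem f237820 : Led Lsl_dt (LP (LK LD1_c5 LD2_c2 LD3_c23)) = (LP (LK LD1_c5 LD2_c37 LD3_c0)) :=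
  Lgr Lrot42 (Lpr_df (f237817 IH) (Lpn (LP (LK LD1_c5 LD2_c37 LD3_c0))))
theorem f342419 : Led Lsl_ef (LP (LK LD1_c5 LD2_c9 LD3_c51)) = (LP (LK LD1_c5 LD2_c2 LD3_c23)) :=
  Lgr Lrot114 (Lpr_gt (f22043 IH) (Lpe (K13.f22023 IH) (Lpr_dt (K10.f22021 IH) (Lpr_gt (K14.f250222 IH) (Lpe (K19.f248695 IH) (Lpr_et (K14.f248690 IH) (Lpr_gt (K22.f248753 IH) (Lpr_dt (f248761 IH) (Lpr_gt (f342414 IH) (Lpe (f237820 IH) (Lpn (LP (LK LD1_c5 LD2_c2 LD3_c23)))))))))))))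
theorem f342427 : Led Lsl_et (LP (LK LD1_c5 LD2_c9 LD3_c51)) = (LP (LK LD1_c5 LD2_c2 LD3_c23)) :=
  Lgr Lrot87 (Lpr_ef (f342419 IH) (Lpn (LP (LK LD1_c5 LD2_c2 LD3_c23))))
theorem f167864 : Led Lsl_et (LP (LK LD1_c0 LD2_c56 LD3_c53)) = (LP (LK LD1_c1 LD2_c59 LD3_c57)) :=
  Lre_e IH (LK LD1_c0 LD2_c56 LD3_c53) (LK LD1_c1 LD2_c59 LD3_c57) Lrfl Lrfl
theorem f167876 : Led Lsl_gt (LP (LK LD1_c1 LD2_c59 LD3_c57)) = (LP (LK LD1_c4 LD2_c5 LD3_c32)) :=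
  Lre_g IH (LK LD1_c1 LD2_c59 LD3_c57) (LK LD1_c4 LD2_c5 LD3_c32) Lrfl Lrfl
theorem f167909 : Led Lsl_et (LP (LK LD1_c8 LD2_c11 LD3_c59)) = (LP (LK LD1_c4 LD2_c5 LD3_c32)) :=
  Lre_e IH (LK LD1_c8 LD2_c11 LD3_c59) (LK LD1_c4 LD2_c5 LD3_c32) Lrfl Lrfl
theorem f226070 : Led Lsl_df (LP (LK LD1_c5 LD2_c9 LD3_c51)) = (LP (LK LD1_c8 LD2_c11 LD3_c59)) :=
  Lgr Lrot170 (Lpr_gt (f22043 IH) (Lpr_df (K13.f22039 IH) (Lpr_et (K13.f22026 IH) (Lpe (K14.f226065 IH) (Lpr_dt (K14.f226059 IH) (Lpr_gt (K9.f179863 IH) (Lpe (K9.f167862 IH) (Lpr_et (f167864 IH) (Lpr_gt (f167876 IH) (Lpe (f167909 IH) (Lpn (LP (LK LD1_c8 LD2_c11 LD3_c59)))))))))))))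
theorem f226074 : Led Lsl_et (LP (LK LD1_c4 LD2_c5 LD3_c32)) = (LP (LK LD1_c8 LD2_c11 LD3_c59)) :=
  Lre_e IH (LK LD1_c4 LD2_c5 LD3_c32) (LK LD1_c8 LD2_c11 LD3_c59) Lrfl Lrfl
theorem f342431 : Led Lsl_df (LP (LK LD1_c4 LD2_c5 LD3_c32)) = (LP (LK LD1_c2 LD2_c44 LD3_c22)) :=
  Lgr Lrot70 (Lpr_et (f226074 IH) (Lpe (f226070 IH) (Lpr_et (f342427 IH) (Lpr_dt (f237820 IH) (Lpr_et (f237816 IH) (Lpn (LP (LK LD1_c2 LD2_c44 LD3_c22))))))))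
theorem f304958 : Led Lsl_gt (LP (LK LD1_c9 LD2_c38 LD3_c42)) = (LP (LK LD1_c4 LD2_c53 LD3_c24)) :=
  Lre_g IH (LK LD1_c9 LD2_c38 LD3_c42) (LK LD1_c4 LD2_c53 LD3_c24) Lrfl Lrfl
theorem f333519 : Led Lsl_et (LP (LK LD1_c4 LD2_c53 LD3_c34)) = (LP (LK LD1_c9 LD2_c38 LD3_c42)) :=
  Lgr Lrot121 (Lpr_dt (f333487 IH) (Lpe (f166947 IH) (Lpr_df (K21.f166931 IH) (Lpr_et (K19.f305878 IH) (Lpe (K21.f306054 IH) (Lpr_ef (K21.f330989 IH) (Lpe (K21.f331000 IH) (Lpe (K21.f307066 IH) (Lpr_df (K19.f307063 IH) (Lpe (f304958 IH) (Lpn (LP (LK LD1_c9 LD2_c38 LD3_c42)))))))))))))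
theorem f248612 : Led Lsl_dt (LP (LK LD1_c17 LD2_c46 LD3_c10)) = (LP (LK LD1_c9 LD2_c39 LD3_c42)) :=
  Lre_d IH (LK LD1_c17 LD2_c46 LD3_c10) (LK LD1_c9 LD2_c39 LD3_c42) Lrfl Lrfl
theorem f180091 : Led Lsl_dt (LP (LK LD1_c9 LD2_c38 LD3_c42)) = (LP (LK LD1_c17 LD2_c44 LD3_c60)) :=
  Lre_d IH (LK LD1_c9 LD2_c38 LD3_c42) (LK LD1_c17 LD2_c44 LD3_c60) Lrfl Lrfl
theorem f333521 : Led Lsl_ef (LP (LK LD1_c17 LD2_c46 LD3_c10)) = (LP (LK LD1_c17 LD2_c44 LD3_c60)) :=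
  Lgr Lrot73 (Lpr_dt (f248612 IH) (Lpr_et (f333495 IH) (Lpe (f333481 IH) (Lpr_et (f333519 IH) (Lpr_dt (f180091 IH) (Lpn (LP (LK LD1_c17 LD2_c44 LD3_c60))))))))
theorem f307069 : Led Lsl_dt (LP (LK LD1_c17 LD2_c44 LD3_c60)) = (LP (LK LD1_c9 LD2_c38 LD3_c42)) :=
  Lre_d IH (LK LD1_c17 LD2_c44 LD3_c60) (LK LD1_c9 LD2_c38 LD3_c42) Lrfl Lrfl
theorem f180090 : Led Lsl_gt (LP (LK LD1_c4 LD2_c53 LD3_c19)) = (LP (LK LD1_c9 LD2_c38 LD3_c42)) :=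
  Lre_g IH (LK LD1_c4 LD2_c53 LD3_c19) (LK LD1_c9 LD2_c38 LD3_c42) Lrfl Lrfl
theorem f256407 : Led Lsl_gt (LP (LK LD1_c10 LD2_c9 LD3_c52)) = (LP (LK LD1_c5 LD2_c9 LD3_c34)) :=
  Lre_g IH (LK LD1_c10 LD2_c9 LD3_c52) (LK LD1_c5 LD2_c9 LD3_c34) Lrfl Lrfl
theorem f194299 : Led Lsl_gt (LP (LK LD1_c4 LD2_c5 LD3_c22)) = (LP (LK LD1_c8 LD2_c11 LD3_c36)) :=
  Lre_g IH (LK LD1_c4 LD2_c5 LD3_c22) (LK LD1_c8 LD2_c11 LD3_c36) Lrfl Lrfl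
theorem f247648 : Led Lsl_et (LP (LK LD1_c15 LD2_c25 LD3_c36)) = (LP (LK LD1_c8 LD2_c11 LD3_c36)) :=
  Lre_e IH (LK LD1_c15 LD2_c25 LD3_c36) (LK LD1_c8 LD2_c11 LD3_c36) Lrfl Lrfl
theorem f291362 : Led Lsl_df (LP (LK LD1_c10 LD2_c9 LD3_c52)) = (LP (LK LD1_c15 LD2_c25 LD3_c36)) :=
  Lgr Lrot170 (Lpr_gt (f256407 IH) (Lpe (K15.f256455 IH) (Lpr_et (K15.f187807 IH) (Lpr_gt (K17.f291306 IH) (Lpr_dt (K17.f180058 IH) (Lpe (K17.f290854 IH) (Lpr_df (K14.f247637 IH) (Lpr_et (K20.f247647 IH) (Lpr_gt (f194299 IH) (Lpe (f247648 IH) (Lpn (LP (LK LD1_c15 LD2_c25 LD3_c36)))))))))))))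
theorem f333531 : Led Lsl_gt (LP (LK LD1_c17 LD2_c46 LD3_c10)) = (LP (LK LD1_c15 LD2_c25 LD3_c36)) :=
  Lgr Lrot137 (Lpr_ef (f333521 IH) (Lpr_dt (f307069 IH) (Lpe (f180090 IH) (Lpe (K21.f312560 IH) (Lpr_et (K19.f312562 IH) (Lpe (K17.f291306 IH) (Lpe (K15.f187807 IH) (Lpr_dt (K15.f256455 IH) (Lpe (f256407 IH) (Lpr_df (f291362 IH) (Lpn (LP (LK LD1_c15 LD2_c25 LD3_c36)))))))))))))
theorem f230275 : Led Lsl_dt (LP (LK LD1_c9 LD2_c39 LD3_c42)) = (LP (LK LD1_c17 LD2_c46 LD3_c10)) :=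
  Lre_d IH (LK LD1_c9 LD2_c39 LD3_c42) (LK LD1_c17 LD2_c46 LD3_c10) Lrfl Lrfl
theorem f291365 : Led Lsl_dt (LP (LK LD1_c10 LD2_c9 LD3_c52)) = (LP (LK LD1_c15 LD2_c25 LD3_c36)) :=
  Lgr Lrot42 (Lpr_df (f291362 IH) (Lpn (LP (LK LD1_c15 LD2_c25 LD3_c36))))
theorem f333535 : Led Lsl_ef (LP (LK LD1_c9 LD2_c54 LD3_c55)) = (LP (LK LD1_c10 LD2_c9 LD3_c52)) :=
  Lgr Lrot114 (Lpr_gt (f250127 IH) (Lpe (K14.f250169 IH) (Lpr_dt (K14.f251621 IH) (Lpr_gt (K12.f229932 IH) (Lpe (K12.f229924 IH) (Lpr_et (K19.f229926 IH) (Lpr_gt (f230274 IH) (Lpr_dt (f230275 IH) (Lpr_gt (f333531 IH) (Lpe (f291365 IH) (Lpn (LP (LK LD1_c10 LD2_c9 LD3_c52)))))))))))))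
theorem f333539 : Led Lsl_et (LP (LK LD1_c9 LD2_c54 LD3_c55)) = (LP (LK LD1_c10 LD2_c9 LD3_c52)) :=
  Lgr Lrot87 (Lpr_ef (f333535 IH) (Lpn (LP (LK LD1_c10 LD2_c9 LD3_c52))))
theorem f342405 : Led Lsl_et (LP (LK LD1_c5 LD2_c36 LD3_c61)) = (LP (LK LD1_c11 LD2_c6 LD3_c7)) :=
  Lre_e IH (LK LD1_c5 LD2_c36 LD3_c61) (LK LD1_c11 LD2_c6 LD3_c7) Lrfl Lrfl
theorem f342406 : Led Lsl_dt (LP (LK LD1_c8 LD2_c11 LD3_c36)) = (LP (LK LD1_c5 LD2_c36 LD3_c61)) :=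
  Lgr Lrot77 (Lpe (f247648 IH) (Lpe (f291365 IH) (Lpe (f333539 IH) (Lpr_df (f342399 IH) (Lpe (f342405 IH) (Lpn (LP (LK LD1_c5 LD2_c36 LD3_c61))))))))
theorem f342448 : Led Lsl_bt (LP (LK LD1_c4 LD2_c5 LD3_c32)) = (LP (LK LD1_c8 LD2_c11 LD3_c36)) :=
  Lgr Lrot95 (Lpr_df (f342431 IH) (Lpe (f338640 IH) (Lpe (f342406 IH) (Lpn (LP (LK LD1_c8 LD2_c11 LD3_c36))))))
theorem f291367 : Led Lsl_et (LP (LK LD1_c8 LD2_c11 LD3_c36)) = (LP (LK LD1_c15 LD2_c25 LD3_c36)) :=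
  Lre_e IH (LK LD1_c8 LD2_c11 LD3_c36) (LK LD1_c15 LD2_c25 LD3_c36) Lrfl Lrfl
theorem f342454 : Led Lsl_bf (LP (LK LD1_c8 LD2_c11 LD3_c59)) = (LP (LK LD1_c15 LD2_c25 LD3_c36)) :=
  Lgr Lrot96 (Lpr_et (f167909 IH) (Lpr_bt (f342448 IH) (Lpr_et (f291367 IH) (Lpn (LP (LK LD1_c15 LD2_c25 LD3_c36))))))
theorem f342456 : Led Lsl_bt (LP (LK LD1_c8 LD2_c11 LD3_c59)) = (LP (LK LD1_c15 LD2_c25 LD3_c36)) :=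
  Lgr Lrot127 (Lpr_bf (f342454 IH) (Lpn (LP (LK LD1_c15 LD2_c25 LD3_c36))))
theorem f226072 : Led Lsl_dt (LP (LK LD1_c5 LD2_c9 LD3_c51)) = (LP (LK LD1_c8 LD2_c11 LD3_c59)) :=
  Lgr Lrot42 (Lpr_df (f226070 IH) (Lpn (LP (LK LD1_c8 LD2_c11 LD3_c59))))
theorem f342458 : Led Lsl_bf (LP (LK LD1_c5 LD2_c9 LD3_c51)) = (LP (LK LD1_c10 LD2_c9 LD3_c52)) :=
  Lgr Lrot93 (Lpr_dt (f226072 IH) (Lpr_bt (f342456 IH) (Lpe (f291362 IH) (Lpn (LP (LK LD1_c10 LD2_c9 LD3_c52))))))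
theorem f185394 : Led Lsl_gt (LP (LK LD1_c10 LD2_c10 LD3_c19)) = (LP (LK LD1_c18 LD2_c31 LD3_c54)) :=
  Lre_g IH (LK LD1_c10 LD2_c10 LD3_c19) (LK LD1_c18 LD2_c31 LD3_c54) Lrfl Lrfl
theorem f256468 : Led Lsl_ct (LP (LK LD1_c10 LD2_c9 LD3_c52)) = (LP (LK LD1_c18 LD2_c30 LD3_c59)) :=
  Lre_c IH (LK LD1_c10 LD2_c9 LD3_c52) (LK LD1_c18 LD2_c30 LD3_c59) Lrfl Lrfl
theorem f342464 : Led Lsl_gt (LP (LK LD1_c18 LD2_c11 LD3_c61)) = (LP (LK LD1_c18 LD2_c30 LD3_c59)) :=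
  Lgr Lrot65 (Lpe (K18.f169871 IH) (Lpr_bt (K18.f169888 IH) (Lpr_gf (K22.f335135 IH) (Lpe (K22.f198755 IH) (Lpe (K22.f335107 IH) (Lpe (K22.f185367 IH) (Lpe (K19.f22054 IH) (Lpe (f22043 IH) (Lpr_bf (f342458 IH) (Lpr_ct (f256468 IH) (Lpn (LP (LK LD1_c18 LD2_c30 LD3_c59)))))))))))))
theorem f224814 : Led Lsl_dt (LP (LK LD1_c5 LD2_c24 LD3_c4)) = (LP (LK LD1_c10 LD2_c38 LD3_c55)) :=
  Lre_d IH (LK LD1_c5 LD2_c24 LD3_c4) (LK LD1_c10 LD2_c38 LD3_c55) Lrfl Lrfl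
theorem f251019 : Led Lsl_df (LP (LK LD1_c10 LD2_c38 LD3_c56)) = (LP (LK LD1_c18 LD2_c39 LD3_c51)) :=
  Lgr Lrot38 (Lpr_dt (K18.f251017 IH) (Lpn (LP (LK LD1_c18 LD2_c39 LD3_c51))))
theorem f306492 : Led Lsl_et (LP (LK LD1_c18 LD2_c58 LD3_c30)) = (LP (LK LD1_c18 LD2_c39 LD3_c51)) :=
  Lgr Lrot71 (Lpe (f45843 IH) (Lpr_ef (K19.f306485 IH) (Lpe (f224814 IH) (Lpe (K18.f224813 IH) (Lpr_df (f251019 IH) (Lpn (LP (LK LD1_c18 LD2_c39 LD3_c51))))))))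
theorem f306505 : Led Lsl_gf (LP (LK LD1_c18 LD2_c19 LD3_c29)) = (LP (LK LD1_c18 LD2_c39 LD3_c51)) :=
  Lgr Lrot138 (Lpr_dt (K18.f294228 IH) (Lpr_gt (K18.f228756 IH) (Lpr_df (K14.f254470 IH) (Lpr_et (K14.f44283 IH) (Lpr_gt (K14.f247956 IH) (Lpe (K1.f43940 IH) (Lpr_dt (K19.f46088 IH) (Lpr_gt (K19.f43955 IH) (Lpe (f46092 IH) (Lpr_et (f306492 IH) (Lpn (LP (LK LD1_c18 LD2_c39 LD3_c51)))))))))))))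
theorem f339882 : Led Lsl_bf (LP (LK LD1_c15 LD2_c14 LD3_c27)) = (LP (LK LD1_c18 LD2_c58 LD3_c30)) :=
  Lgr Lrot93 (Lpr_dt (K21.f46048 IH) (Lpr_bt (K22.f339878 IH) (Lpr_dt (f45843 IH) (Lpn (LP (LK LD1_c18 LD2_c58 LD3_c30))))))
theorem f306494 : Led Lsl_et (LP (LK LD1_c10 LD2_c28 LD3_c13)) = (LP (LK LD1_c10 LD2_c38 LD3_c55)) :=
  Lgr Lrot87 (Lpr_ef (K19.f306485 IH) (Lpn (LP (LK LD1_c10 LD2_c38 LD3_c55))))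
theorem f251021 : Led Lsl_et (LP (LK LD1_c5 LD2_c24 LD3_c4)) = (LP (LK LD1_c10 LD2_c38 LD3_c56)) :=
  Lre_e IH (LK LD1_c5 LD2_c24 LD3_c4) (LK LD1_c10 LD2_c38 LD3_c56) Lrfl Lrfl
theorem f306503 : Led Lsl_ef (LP (LK LD1_c18 LD2_c58 LD3_c30)) = (LP (LK LD1_c18 LD2_c39 LD3_c51)) :=
  Lgr Lrot73 (Lpr_dt (f46092 IH) (Lpr_et (f306494 IH) (Lpr_dt (K19.f251022 IH) (Lpr_et (f251021 IH) (Lpr_dt (K18.f251017 IH) (Lpn (LP (LK LD1_c18 LD2_c39 LD3_c51))))))))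
theorem f339886 : Led Lsl_bt (LP (LK LD1_c18 LD2_c21 LD3_c37)) = (LP (LK LD1_c18 LD2_c39 LD3_c51)) :=
  Lgr Lrot119 (Lpr_ef (K21.f327367 IH) (Lpr_bf (f339882 IH) (Lpr_ef (f306503 IH) (Lpn (LP (LK LD1_c18 LD2_c39 LD3_c51))))))
theorem f342466 : Led Lsl_cf (LP (LK LD1_c18 LD2_c31 LD3_c54)) = (LP (LK LD1_c18 LD2_c21 LD3_c37)) :=
  Lgr Lrot58 (Lpe (f185394 IH) (Lpe (K19.f22091 IH) (Lpr_bt (K14.f22033 IH) (Lpe (f22043 IH) (Lpr_bf (f342458 IH) (Lpr_ct (f256468 IH) (Lpe (f342464 IH) (Lpe (K18.f169871 IH) (Lpr_gf (f306505 IH) (Lpe (f339886 IH) (Lpn (LP (LK LD1_c18 LD2_c21 LD3_c37)))))))))))))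
theorem f46046 : Led Lsl_ct (LP (LK LD1_c25 LD2_c3 LD3_c35)) = (LP (LK LD1_c15 LD2_c14 LD3_c27)) :=
  Lre_c IH (LK LD1_c25 LD2_c3 LD3_c35) (LK LD1_c15 LD2_c14 LD3_c27) Lrfl Lrfl
theorem f342470 : Led Lsl_et (LP (LK LD1_c18 LD2_c31 LD3_c54)) = (LP (LK LD1_c25 LD2_c3 LD3_c35)) :=
  Lgr Lrot158 (Lpr_cf (f342466 IH) (Lpr_ef (K21.f327367 IH) (Lpe (f46046 IH) (Lpn (LP (LK LD1_c25 LD2_c3 LD3_c35))))))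
theorem f342480 : Led Lsl_ef (LP (LK LD1_c18 LD2_c31 LD3_c54)) = (LP (LK LD1_c25 LD2_c3 LD3_c35)) :=
  Lgr Lrot88 (Lpr_et (f342470 IH) (Lpn (LP (LK LD1_c25 LD2_c3 LD3_c35))))
theorem f342472 : Led Lsl_gt (LP (LK LD1_c18 LD2_c31 LD3_c54)) = (LP (LK LD1_c18 LD2_c4 LD3_c40)) :=
  Lgr Lrot94 (Lpr_cf (f342466 IH) (Lpr_gt (K21.f327363 IH) (Lpr_dt (K19.f312277 IH) (Lpe (K19.f312283 IH) (Lpe (K18.f296417 IH) (Lpr_cf (K19.f296444 IH) (Lpe (K19.f296454 IH) (Lpe (K21.f262408 IH) (Lpr_df (K21.f327232 IH) (Lpn (LP (LK LD1_c18 LD2_c4 LD3_c40))))))))))))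
theorem f33863 : Led Lsl_et (LP (LK LD1_c8 LD2_c4 LD3_c23)) = (LP (LK LD1_c4 LD2_c1 LD3_c52)) :=
  Lre_e IH (LK LD1_c8 LD2_c4 LD3_c23) (LK LD1_c4 LD2_c1 LD3_c52) Lrfl Lrfl
theorem f21785 : Led Lsl_et (LP (LK LD1_c5 LD2_c9 LD3_c23)) = (LP (LK LD1_c2 LD2_c31 LD3_c48)) :=
  Lre_e IH (LK LD1_c5 LD2_c9 LD3_c23) (LK LD1_c2 LD2_c31 LD3_c48) Lrfl Lrfl
theorem f21767 : Led Lsl_dt (LP (LK LD1_c5 LD2_c9 LD3_c23)) = (LP (LK LD1_c10 LD2_c9 LD3_c28)) :=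
  Lre_d IH (LK LD1_c5 LD2_c9 LD3_c23) (LK LD1_c10 LD2_c9 LD3_c28) Lrfl Lrfl
theorem f21795 : Led Lsl_gt (LP (LK LD1_c10 LD2_c9 LD3_c28)) = (LP (LK LD1_c18 LD2_c30 LD3_c17)) :=
  Lre_g IH (LK LD1_c10 LD2_c9 LD3_c28) (LK LD1_c18 LD2_c30 LD3_c17) Lrfl Lrfl
theorem f342482 : Led Lsl_df (LP (LK LD1_c18 LD2_c30 LD3_c17)) = (LP (LK LD1_c25 LD2_c3 LD3_c35)) :=
  Lgr Lrot168 (Lpe (f21795 IH) (Lpe (f21767 IH) (Lpr_et (f21785 IH) (Lpr_gf (K20.f262401 IH) (Lpe (f33863 IH) (Lpr_dt (K18.f33864 IH) (Lpe (K21.f262408 IH) (Lpr_df (K21.f327232 IH) (Lpe (f342472 IH) (Lpr_ef (f342480 IH) (Lpn (LP (LK LD1_c25 LD2_c3 LD3_c35)))))))))))))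
theorem f342484 : Led Lsl_dt (LP (LK LD1_c18 LD2_c30 LD3_c17)) = (LP (LK LD1_c25 LD2_c3 LD3_c35)) :=
  Lgr Lrot42 (Lpr_df (f342482 IH) (Lpn (LP (LK LD1_c25 LD2_c3 LD3_c35))))
theorem f33892 : Led Lsl_gt (LP (LK LD1_c10 LD2_c9 LD3_c27)) = (LP (LK LD1_c5 LD2_c9 LD3_c23)) :=
  Lre_g IH (LK LD1_c10 LD2_c9 LD3_c27) (LK LD1_c5 LD2_c9 LD3_c23) Lrfl Lrfl
theorem f46041 : Led Lsl_gt (LP (LK LD1_c8 LD2_c5 LD3_c40)) = (LP (LK LD1_c4 LD2_c2 LD3_c32)) :=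
  Lre_g IH (LK LD1_c8 LD2_c5 LD3_c40) (LK LD1_c4 LD2_c2 LD3_c32) Lrfl Lrfl
theorem f342491 : Led Lsl_cf (LP (LK LD1_c10 LD2_c9 LD3_c27)) = (LP (LK LD1_c8 LD2_c5 LD3_c40)) :=
  Lgr Lrot166 (Lpr_gt (f33892 IH) (Lpr_dt (f21767 IH) (Lpr_gt (f21795 IH) (Lpr_dt (f342484 IH) (Lpr_ct (f46046 IH) (Lpe (K21.f46044 IH) (Lpe (K21.f46043 IH) (Lpr_df (K1.f46032 IH) (Lpe (f46041 IH) (Lpn (LP (LK LD1_c8 LD2_c5 LD3_c40))))))))))))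
theorem f33815 : Led Lsl_at (LP (LK LD1_c8 LD2_c4 LD3_c35)) = (LP (LK LD1_c5 LD2_c9 LD3_c23)) :=
  Lgr Lrot80 (Lpe (K0.f33814 IH) (Lpr_af (K0.f33788 IH) (Lpe (f21785 IH) (Lpn (LP (LK LD1_c5 LD2_c9 LD3_c23))))))
theorem f33893 : Led Lsl_gf (LP (LK LD1_c10 LD2_c9 LD3_c27)) = (LP (LK LD1_c9 LD2_c52 LD3_c16)) :=
  Lgr Lrot47 (Lpr_gt (f33892 IH) (Lpe (f33815 IH) (Lpr_ff (K0.f33875 IH) (Lpn (LP (LK LD1_c9 LD2_c52 LD3_c16))))))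
theorem f32532 : Led Lsl_bf (LP (LK LD1_c5 LD2_c17 LD3_c10)) = (LP (LK LD1_c5 LD2_c15 LD3_c10)) :=
  Lgr Lrot90 (Lpr_ct (K10.f32186 IH) (Lpr_bt (K21.f32189 IH) (Lpr_ct (K2.f32515 IH) (Lpr_bt (K21.f32531 IH) (Lpr_ct (K17.f32354 IH) (Lpn (LP (LK LD1_c5 LD2_c15 LD3_c10))))))))
theorem f342499 : Led Lsl_bf (LP (LK LD1_c5 LD2_c16 LD3_c15)) = (LP (LK LD1_c8 LD2_c5 LD3_c40)) :=
  Lgr Lrot156 (Lpr_gt (K15.f48348 IH) (Lpr_bf (f32532 IH) (Lpr_ct (K2.f32351 IH) (Lpr_gt (K21.f48764 IH) (Lpr_cf (K21.f306451 IH) (Lpr_bt (K21.f21982 IH) (Lpr_gt (K14.f21976 IH) (Lpr_ct (K10.f21769 IH) (Lpe (f33893 IH) (Lpr_cf (f342491 IH) (Lpn (LP (LK LD1_c8 LD2_c5 LD3_c40)))))))))))))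
theorem f32578 : Led Lsl_ct (LP (LK LD1_c1 LD2_c14 LD3_c34)) = (LP (LK LD1_c2 LD2_c35 LD3_c9)) :=
  Lre_c IH (LK LD1_c1 LD2_c14 LD3_c34) (LK LD1_c2 LD2_c35 LD3_c9) Lrfl Lrfl
theorem f163900 : Led Lsl_ct (LP (LK LD1_c2 LD2_c32 LD3_c50)) = (LP (LK LD1_c5 LD2_c11 LD3_c55)) :=
  Lre_c IH (LK LD1_c2 LD2_c32 LD3_c50) (LK LD1_c5 LD2_c11 LD3_c55) Lrfl Lrfl
theorem f342509 : Led Lsl_gf (LP (LK LD1_c2 LD2_c35 LD3_c9)) = (LP (LK LD1_c5 LD2_c11 LD3_c55)) :=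
  Lgr Lrot129 (Lpe (f32578 IH) (Lpr_bt (K15.f32363 IH) (Lpr_gt (K15.f32383 IH) (Lpr_bf (f342499 IH) (Lpe (f342491 IH) (Lpr_gt (f33892 IH) (Lpe (K22.f21756 IH) (Lpr_bt (K0.f21346 IH) (Lpr_gt (K19.f21358 IH) (Lpr_ct (f163900 IH) (Lpn (LP (LK LD1_c5 LD2_c11 LD3_c55)))))))))))))
theorem f32709 : Led Lsl_bt (LP (LK LD1_c5 LD2_c16 LD3_c50)) = (LP (LK LD1_c2 LD2_c35 LD3_c9)) :=
  Lre_b IH (LK LD1_c5 LD2_c16 LD3_c50) (LK LD1_c2 LD2_c35 LD3_c9) Lrfl Lrfl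
theorem f32231 : Led Lsl_bt (LP (LK LD1_c2 LD2_c36 LD3_c4)) = (LP (LK LD1_c5 LD2_c18 LD3_c54)) :=
  Lre_b IH (LK LD1_c2 LD2_c36 LD3_c4) (LK LD1_c5 LD2_c18 LD3_c54) Lrfl Lrfl
theorem f48546 : Led Lsl_ft (LP (LK LD1_c2 LD2_c35 LD3_c9)) = (LP (LK LD1_c2 LD2_c36 LD3_c4)) :=
  Lgr Lrot75 (Lpe (f32709 IH) (Lpr_ff (K10.f48522 IH) (Lpe (f32231 IH) (Lpn (LP (LK LD1_c2 LD2_c36 LD3_c4))))))
theorem f342511 : Led Lsl_gt (LP (LK LD1_c2 LD2_c35 LD3_c9)) = (LP (LK LD1_c5 LD2_c11 LD3_c55)) :=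
  Lgr Lrot5 (Lpr_ft (f48546 IH) (Lpr_at (K2.f32564 IH) (Lpr_gf (f342509 IH) (Lpn (LP (LK LD1_c5 LD2_c11 LD3_c55))))))
theorem f32381 : Led Lsl_gt (LP (LK LD1_c5 LD2_c16 LD3_c16)) = (LP (LK LD1_c2 LD2_c34 LD3_c54)) :=
  Lre_g IH (LK LD1_c5 LD2_c16 LD3_c16) (LK LD1_c2 LD2_c34 LD3_c54) Lrfl Lrfl
theorem f32393 : Led Lsl_bt (LP (LK LD1_c10 LD2_c22 LD3_c6)) = (LP (LK LD1_c5 LD2_c16 LD3_c16)) :=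
  Lre_b IH (LK LD1_c10 LD2_c22 LD3_c6) (LK LD1_c5 LD2_c16 LD3_c16) Lrfl Lrfl
theorem f312503 : Led Lsl_bt (LP (LK LD1_c2 LD2_c32 LD3_c50)) = (LP (LK LD1_c5 LD2_c11 LD3_c54)) :=
  Lre_b IH (LK LD1_c2 LD2_c32 LD3_c50) (LK LD1_c5 LD2_c11 LD3_c54) Lrfl Lrfl
theorem f342536 : Led Lsl_ct (LP (LK LD1_c10 LD2_c22 LD3_c6)) = (LP (LK LD1_c17 LD2_c46 LD3_c46)) :=
  Lgr Lrot63 (Lpr_bt (f32393 IH) (Lpr_gt (f32381 IH) (Lpe (K15.f32363 IH) (Lpr_ct (f32578 IH) (Lpr_gt (f342511 IH) (Lpe (f163900 IH) (Lpr_bt (f312503 IH) (Lpr_gt (K19.f312497 IH) (Lpr_ct (K13.f43367 IH) (Lpr_gt (K21.f43807 IH) (Lpn (LP (LK LD1_c17 LD2_c46 LD3_c46)))))))))))))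
theorem f48340 : Led Lsl_ff (LP (LK LD1_c5 LD2_c15 LD3_c10)) = (LP (LK LD1_c5 LD2_c17 LD3_c10)) :=
  Lgr Lrot30 (Lpr_at (K2.f32347 IH) (Lpr_ft (K10.f48334 IH) (Lpr_at (K1.f32180 IH) (Lpn (LP (LK LD1_c5 LD2_c17 LD3_c10))))))
theorem f48922 : Led Lsl_gf (LP (LK LD1_c5 LD2_c16 LD3_c16)) = (LP (LK LD1_c5 LD2_c17 LD3_c10)) :=
  Lgr Lrot47 (Lpr_gt (f32381 IH) (Lpe (K2.f32347 IH) (Lpr_ff (f48340 IH) (Lpn (LP (LK LD1_c5 LD2_c17 LD3_c10))))))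
theorem f185022 : Led Lsl_dt (LP (LK LD1_c4 LD2_c29 LD3_c31)) = (LP (LK LD1_c2 LD2_c11 LD3_c49)) :=
  Lre_d IH (LK LD1_c4 LD2_c29 LD3_c31) (LK LD1_c2 LD2_c11 LD3_c49) Lrfl Lrfl
theorem f185025 : Led Lsl_gt (LP (LK LD1_c4 LD2_c29 LD3_c30)) = (LP (LK LD1_c2 LD2_c11 LD3_c49)) :=
  Lre_g IH (LK LD1_c4 LD2_c29 LD3_c30) (LK LD1_c2 LD2_c11 LD3_c49) Lrfl Lrfl
theorem f185026 : Led Lsl_dt (LP (LK LD1_c8 LD2_c57 LD3_c16)) = (LP (LK LD1_c4 LD2_c29 LD3_c30)) :=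
  Lre_d IH (LK LD1_c8 LD2_c57 LD3_c16) (LK LD1_c4 LD2_c29 LD3_c30) Lrfl Lrfl
theorem f250071 : Led Lsl_ef (LP (LK LD1_c5 LD2_c16 LD3_c16)) = (LP (LK LD1_c8 LD2_c57 LD3_c16)) :=
  Lgr Lrot17 (Lpr_gf (f48922 IH) (Lpe (K1.f32167 IH) (Lpr_dt (K1.f32168 IH) (Lpe (K10.f32177 IH) (Lpe (K10.f48244 IH) (Lpr_gf (K14.f250064 IH) (Lpe (K15.f185007 IH) (Lpr_dt (f185022 IH) (Lpe (f185025 IH) (Lpe (f185026 IH) (Lpn (LP (LK LD1_c8 LD2_c57 LD3_c16)))))))))))))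
theorem f250082 : Led Lsl_et (LP (LK LD1_c5 LD2_c16 LD3_c16)) = (LP (LK LD1_c8 LD2_c57 LD3_c16)) :=
  Lgr Lrot87 (Lpr_ef (f250071 IH) (Lpn (LP (LK LD1_c8 LD2_c57 LD3_c16))))
theorem f250084 : Led Lsl_bt (LP (LK LD1_c8 LD2_c57 LD3_c16)) = (LP (LK LD1_c16 LD2_c45 LD3_c54)) :=
  Lre_b IH (LK LD1_c8 LD2_c57 LD3_c16) (LK LD1_c16 LD2_c45 LD3_c54) Lrfl Lrfl
theorem f250085 : Led Lsl_ef (LP (LK LD1_c10 LD2_c22 LD3_c6)) = (LP (LK LD1_c16 LD2_c45 LD3_c54)) :=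
  Lgr Lrot29 (Lpr_bt (f32393 IH) (Lpr_et (f250082 IH) (Lpr_bt (f250084 IH) (Lpn (LP (LK LD1_c16 LD2_c45 LD3_c54))))))
theorem f250092 : Led Lsl_ct (LP (LK LD1_c26 LD2_c44 LD3_c41)) = (LP (LK LD1_c16 LD2_c45 LD3_c54)) :=
  Lre_c IH (LK LD1_c26 LD2_c44 LD3_c41) (LK LD1_c16 LD2_c45 LD3_c54) Lrfl Lrfl
theorem f342543 : Led Lsl_ef (LP (LK LD1_c26 LD2_c44 LD3_c41)) = (LP (LK LD1_c17 LD2_c46 LD3_c46)) :=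
  Lgr Lrot28 (Lpr_ct (f250092 IH) (Lpe (f250085 IH) (Lpr_ct (f342536 IH) (Lpn (LP (LK LD1_c17 LD2_c46 LD3_c46))))))
theorem f166963 : Led Lsl_ct (LP (LK LD1_c9 LD2_c58 LD3_c33)) = (LP (LK LD1_c5 LD2_c3 LD3_c48)) :=
  Lre_c IH (LK LD1_c9 LD2_c58 LD3_c33) (LK LD1_c5 LD2_c3 LD3_c48) Lrfl Lrfl
theorem f305896 : Led Lsl_dt (LP (LK LD1_c18 LD2_c15 LD3_c1)) = (LP (LK LD1_c9 LD2_c58 LD3_c33)) :=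
  Lre_d IH (LK LD1_c18 LD2_c15 LD3_c1) (LK LD1_c9 LD2_c58 LD3_c33) Lrfl Lrfl
theorem f307322 : Led Lsl_gt (LP (LK LD1_c18 LD2_c58 LD3_c21)) = (LP (LK LD1_c18 LD2_c15 LD3_c1)) :=
  Lgr Lrot49 (Lpe (K16.f216749 IH) (Lpr_gf (K21.f307317 IH) (Lpe (K21.f166657 IH) (Lpr_gt (K21.f166656 IH) (Lpr_dt (K15.f166603 IH) (Lpr_gt (K21.f166636 IH) (Lpe (K21.f305884 IH) (Lpe (f166963 IH) (Lpe (f305896 IH) (Lpn (LP (LK LD1_c18 LD2_c15 LD3_c1))))))))))))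
theorem f305890 : Led Lsl_dt (LP (LK LD1_c9 LD2_c58 LD3_c33)) = (LP (LK LD1_c18 LD2_c15 LD3_c1)) :=
  Lre_d IH (LK LD1_c9 LD2_c58 LD3_c33) (LK LD1_c18 LD2_c15 LD3_c1) Lrfl Lrfl
theorem f307327 : Led Lsl_et (LP (LK LD1_c9 LD2_c58 LD3_c33)) = (LP (LK LD1_c18 LD2_c15 LD3_c2)) :=
  Lre_e IH (LK LD1_c9 LD2_c58 LD3_c33) (LK LD1_c18 LD2_c15 LD3_c2) Lrfl Lrfl
theorem f342603 : Led Lsl_gf (LP (LK LD1_c26 LD2_c44 LD3_c41)) = (LP (LK LD1_c18 LD2_c15 LD3_c2)) :=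
  Lgr Lrot141 (Lpr_ef (f342543 IH) (Lpr_dt (K21.f43808 IH) (Lpr_gt (K21.f307309 IH) (Lpe (K21.f307268 IH) (Lpr_et (K21.f307316 IH) (Lpe (K21.f307317 IH) (Lpr_dt (K16.f216749 IH) (Lpr_gt (f307322 IH) (Lpe (f305890 IH) (Lpr_et (f307327 IH) (Lpn (LP (LK LD1_c18 LD2_c15 LD3_c2)))))))))))))
theorem f284047 : Led Lsl_ct (LP (LK LD1_c9 LD2_c58 LD3_c34)) = (LP (LK LD1_c18 LD2_c15 LD3_c2)) :=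
  Lre_c IH (LK LD1_c9 LD2_c58 LD3_c34) (LK LD1_c18 LD2_c15 LD3_c2) Lrfl Lrfl
theorem f257613 : Led Lsl_ct (LP (LK LD1_c9 LD2_c54 LD3_c60)) = (LP (LK LD1_c5 LD2_c2 LD3_c8)) :=
  Lre_c IH (LK LD1_c9 LD2_c54 LD3_c60) (LK LD1_c5 LD2_c2 LD3_c8) Lrfl Lrfl
theorem f257768 : Led Lsl_dt (LP (LK LD1_c18 LD2_c9 LD3_c9)) = (LP (LK LD1_c9 LD2_c54 LD3_c60)) :=
  Lre_d IH (LK LD1_c18 LD2_c9 LD3_c9) (LK LD1_c9 LD2_c54 LD3_c60) Lrfl Lrfl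
theorem f257085 : Led Lsl_gt (LP (LK LD1_c27 LD2_c49 LD3_c36)) = (LP (LK LD1_c18 LD2_c9 LD3_c9)) :=
  Lre_g IH (LK LD1_c27 LD2_c49 LD3_c36) (LK LD1_c18 LD2_c9 LD3_c9) Lrfl Lrfl
theorem f342605 : Led Lsl_dt (LP (LK LD1_c26 LD2_c44 LD3_c41)) = (LP (LK LD1_c27 LD2_c49 LD3_c36)) :=
  Lgr Lrot57 (Lpr_gf (f342603 IH) (Lpe (f284047 IH) (Lpr_gt (K21.f305919 IH) (Lpe (K15.f259602 IH) (Lpr_gt (K15.f201161 IH) (Lpe (K15.f259592 IH) (Lpe (f257613 IH) (Lpe (f257768 IH) (Lpe (f257085 IH) (Lpn (LP (LK LD1_c27 LD2_c49 LD3_c36))))))))))))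
theorem f342601 : Led Lsl_et (LP (LK LD1_c26 LD2_c44 LD3_c41)) = (LP (LK LD1_c17 LD2_c46 LD3_c46)) :=
  Lgr Lrot87 (Lpr_ef (f342543 IH) (Lpn (LP (LK LD1_c17 LD2_c46 LD3_c46))))
theorem f214144 : Led Lsl_at (LP (LK LD1_c10 LD2_c9 LD3_c39)) = (LP (LK LD1_c9 LD2_c56 LD3_c25)) :=
  Lgr Lrot100 (Lpr_af (K12.f214139 IH) (Lpn (LP (LK LD1_c9 LD2_c56 LD3_c25))))
theorem f214361 : Led Lsl_ff (LP (LK LD1_c10 LD2_c9 LD3_c39)) = (LP (LK LD1_c9 LD2_c39 LD3_c61)) :=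
  Lgr Lrot30 (Lpr_at (f214144 IH) (Lpr_ft (K13.f214340 IH) (Lpr_at (K13.f43662 IH) (Lpn (LP (LK LD1_c9 LD2_c39 LD3_c61))))))
theorem f215015 : Led Lsl_gf (LP (LK LD1_c9 LD2_c56 LD3_c25)) = (LP (LK LD1_c17 LD2_c46 LD3_c46)) :=
  Lgr Lrot76 (Lpe (f214144 IH) (Lpr_ff (f214361 IH) (Lpr_gt (K21.f43807 IH) (Lpn (LP (LK LD1_c17 LD2_c46 LD3_c46))))))
theorem f257676 : Led Lsl_dt (LP (LK LD1_c9 LD2_c56 LD3_c53)) = (LP (LK LD1_c18 LD2_c12 LD3_c27)) :=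
  Lre_d IH (LK LD1_c9 LD2_c56 LD3_c53) (LK LD1_c18 LD2_c12 LD3_c27) Lrfl Lrfl
theorem f342611 : Led Lsl_gt (LP (LK LD1_c18 LD2_c12 LD3_c27)) = (LP (LK LD1_c27 LD2_c49 LD3_c36)) :=
  Lgr Lrot139 (Lpe (f257676 IH) (Lpr_gf (K22.f266171 IH) (Lpe (K22.f214939 IH) (Lpr_dt (K16.f214937 IH) (Lpe (K14.f214334 IH) (Lpe (K13.f198889 IH) (Lpr_et (K13.f214151 IH) (Lpr_gf (f215015 IH) (Lpe (f342601 IH) (Lpr_dt (f342605 IH) (Lpn (LP (LK LD1_c27 LD2_c49 LD3_c36)))))))))))))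
theorem f266173 : Led Lsl_ct (LP (LK LD1_c16 LD2_c34 LD3_c42)) = (LP (LK LD1_c8 LD2_c52 LD3_c0)) :=
  Lre_c IH (LK LD1_c16 LD2_c34 LD3_c42) (LK LD1_c8 LD2_c52 LD3_c0) Lrfl Lrfl
theorem f331496 : Led Lsl_gf (LP (LK LD1_c10 LD2_c16 LD3_c45)) = (LP (LK LD1_c8 LD2_c52 LD3_c0)) :=
  Lgr Lrot76 (Lpr_af (K22.f330471 IH) (Lpr_ff (K22.f331486 IH) (Lpe (K22.f291278 IH) (Lpn (LP (LK LD1_c8 LD2_c52 LD3_c0))))))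
theorem f342609 : Led Lsl_df (LP (LK LD1_c26 LD2_c44 LD3_c41)) = (LP (LK LD1_c27 LD2_c49 LD3_c36)) :=
  Lgr Lrot38 (Lpr_dt (f342605 IH) (Lpn (LP (LK LD1_c27 LD2_c49 LD3_c36))))
theorem f250099 : Led Lsl_ct (LP (LK LD1_c16 LD2_c45 LD3_c54)) = (LP (LK LD1_c26 LD2_c44 LD3_c41)) :=
  Lre_c IH (LK LD1_c16 LD2_c45 LD3_c54) (LK LD1_c26 LD2_c44 LD3_c41) Lrfl Lrfl
theorem f250094 : Led Lsl_dt (LP (LK LD1_c8 LD2_c57 LD3_c14)) = (LP (LK LD1_c16 LD2_c45 LD3_c54)) :=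
  Lre_d IH (LK LD1_c8 LD2_c57 LD3_c14) (LK LD1_c16 LD2_c45 LD3_c54) Lrfl Lrfl
theorem f342613 : Led Lsl_gt (LP (LK LD1_c5 LD2_c24 LD3_c6)) = (LP (LK LD1_c8 LD2_c57 LD3_c14)) :=
  Lgr Lrot49 (Lpe (K21.f330458 IH) (Lpr_gf (f331496 IH) (Lpe (f266173 IH) (Lpe (K22.f266171 IH) (Lpr_dt (f257676 IH) (Lpr_gt (f342611 IH) (Lpe (f342609 IH) (Lpe (f250099 IH) (Lpe (f250094 IH) (Lpn (LP (LK LD1_c8 LD2_c57 LD3_c14))))))))))))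
theorem f44282 : Led Lsl_et (LP (LK LD1_c4 LD2_c27 LD3_c8)) = (LP (LK LD1_c8 LD2_c52 LD3_c0)) :=
  Lre_e IH (LK LD1_c4 LD2_c27 LD3_c8) (LK LD1_c8 LD2_c52 LD3_c0) Lrfl Lrfl
theorem f250096 : Led Lsl_dt (LP (LK LD1_c16 LD2_c45 LD3_c54)) = (LP (LK LD1_c8 LD2_c57 LD3_c14)) :=
  Lre_d IH (LK LD1_c16 LD2_c45 LD3_c54) (LK LD1_c8 LD2_c57 LD3_c14) Lrfl Lrfl
theorem f342622 : Led Lsl_gf (LP (LK LD1_c5 LD2_c21 LD3_c25)) = (LP (LK LD1_c10 LD2_c22 LD3_c6)) :=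
  Lgr Lrot141 (Lpe (K1.f43938 IH) (Lpr_dt (K1.f45816 IH) (Lpe (K10.f46484 IH) (Lpe (K14.f44281 IH) (Lpr_et (f44282 IH) (Lpe (f331496 IH) (Lpr_dt (K21.f330458 IH) (Lpr_gt (f342613 IH) (Lpe (f250096 IH) (Lpe (f250085 IH) (Lpn (LP (LK LD1_c10 LD2_c22 LD3_c6)))))))))))))
theorem f169873 : Led Lsl_gt (LP (LK LD1_c10 LD2_c1 LD3_c38)) = (LP (LK LD1_c18 LD2_c19 LD3_c27)) :=
  Lre_g IH (LK LD1_c10 LD2_c1 LD3_c38) (LK LD1_c18 LD2_c19 LD3_c27) Lrfl Lrfl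
theorem f250100 : Led Lsl_dt (LP (LK LD1_c18 LD2_c49 LD3_c10)) = (LP (LK LD1_c10 LD2_c22 LD3_c6)) :=
  Lre_d IH (LK LD1_c18 LD2_c49 LD3_c10) (LK LD1_c10 LD2_c22 LD3_c6) Lrfl Lrfl
theorem f342632 : Led Lsl_ef (LP (LK LD1_c18 LD2_c19 LD3_c27)) = (LP (LK LD1_c18 LD2_c49 LD3_c10)) :=
  Lgr Lrot17 (Lpe (f169873 IH) (Lpe (K14.f169946 IH) (Lpr_dt (K14.f230857 IH) (Lpe (K15.f261333 IH) (Lpe (K10.f45750 IH) (Lpr_gf (K10.f46405 IH) (Lpe (K19.f43951 IH) (Lpe (K19.f46090 IH) (Lpr_gf (f342622 IH) (Lpe (f250100 IH) (Lpn (LP (LK LD1_c18 LD2_c49 LD3_c10)))))))))))))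
theorem f259331 : Led Lsl_bt (LP (LK LD1_c10 LD2_c22 LD3_c8)) = (LP (LK LD1_c18 LD2_c49 LD3_c10)) :=
  Lre_b IH (LK LD1_c10 LD2_c22 LD3_c8) (LK LD1_c18 LD2_c49 LD3_c10) Lrfl Lrfl
theorem f47774 : Led Lsl_gt (LP (LK LD1_c5 LD2_c15 LD3_c22)) = (LP (LK LD1_c10 LD2_c20 LD3_c2)) :=
  Lre_g IH (LK LD1_c5 LD2_c15 LD3_c22) (LK LD1_c10 LD2_c20 LD3_c2) Lrfl Lrfl
theorem f32376 : Led Lsl_et (LP (LK LD1_c2 LD2_c34 LD3_c54)) = (LP (LK LD1_c1 LD2_c14 LD3_c26)) :=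
  Lre_e IH (LK LD1_c2 LD2_c34 LD3_c54) (LK LD1_c1 LD2_c14 LD3_c26) Lrfl Lrfl
theorem f32387 : Led Lsl_dt (LP (LK LD1_c10 LD2_c22 LD3_c8)) = (LP (LK LD1_c5 LD2_c16 LD3_c16)) :=
  Lre_d IH (LK LD1_c10 LD2_c22 LD3_c8) (LK LD1_c5 LD2_c16 LD3_c16) Lrfl Lrfl
theorem f259325 : Led Lsl_ef (LP (LK LD1_c10 LD2_c20 LD3_c2)) = (LP (LK LD1_c10 LD2_c22 LD3_c8)) :=
  Lgr Lrot17 (Lpe (f47774 IH) (Lpe (K10.f47754 IH) (Lpe (K9.f47749 IH) (Lpr_gf (K15.f259318 IH) (Lpe (K14.f228968 IH) (Lpe (K13.f231996 IH) (Lpe (f32376 IH) (Lpr_dt (K10.f32349 IH) (Lpe (f32381 IH) (Lpe (f32387 IH) (Lpn (LP (LK LD1_c10 LD2_c22 LD3_c8)))))))))))))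
theorem f259329 : Led Lsl_et (LP (LK LD1_c10 LD2_c20 LD3_c2)) = (LP (LK LD1_c10 LD2_c22 LD3_c8)) :=
  Lgr Lrot87 (Lpr_ef (f259325 IH) (Lpn (LP (LK LD1_c10 LD2_c22 LD3_c8))))
theorem f342634 : Led Lsl_bt (LP (LK LD1_c18 LD2_c19 LD3_c27)) = (LP (LK LD1_c10 LD2_c20 LD3_c2)) :=
  Lgr Lrot119 (Lpr_ef (f342632 IH) (Lpe (f259331 IH) (Lpe (f259329 IH) (Lpn (LP (LK LD1_c10 LD2_c20 LD3_c2))))))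
theorem f263411 : Led Lsl_gf (LP (LK LD1_c10 LD2_c15 LD3_c7)) = (LP (LK LD1_c10 LD2_c20 LD3_c2)) :=
  Lgr Lrot138 (Lpr_dt (K15.f185647 IH) (Lpr_gt (K15.f263404 IH) (Lpr_df (K15.f262119 IH) (Lpr_et (K14.f32191 IH) (Lpr_gt (K10.f32174 IH) (Lpe (K1.f32169 IH) (Lpr_dt (K1.f32170 IH) (Lpe (f48922 IH) (Lpe (f32387 IH) (Lpe (f259325 IH) (Lpn (LP (LK LD1_c10 LD2_c20 LD3_c2)))))))))))))
theorem f169480 : Led Lsl_gt (LP (LK LD1_c10 LD2_c2 LD3_c17)) = (LP (LK LD1_c5 LD2_c5 LD3_c33)) :=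
  Lre_g IH (LK LD1_c10 LD2_c2 LD3_c17) (LK LD1_c5 LD2_c5 LD3_c33) Lrfl Lrfl
theorem f264271 : Led Lsl_gt (LP (LK LD1_c9 LD2_c55 LD3_c54)) = (LP (LK LD1_c10 LD2_c2 LD3_c17)) :=
  Lgr Lrot5 (Lpr_ft (K16.f264268 IH) (Lpr_at (K15.f264259 IH) (Lpe (f169480 IH) (Lpn (LP (LK LD1_c10 LD2_c2 LD3_c17))))))
theorem f169466 : Led Lsl_ct (LP (LK LD1_c5 LD2_c5 LD3_c33)) = (LP (LK LD1_c2 LD2_c30 LD3_c1)) :=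
  Lre_c IH (LK LD1_c5 LD2_c5 LD3_c33) (LK LD1_c2 LD2_c30 LD3_c1) Lrfl Lrfl
theorem f334995 : Led Lsl_gt (LP (LK LD1_c5 LD2_c2 LD3_c24)) = (LP (LK LD1_c5 LD2_c9 LD3_c51)) :=
  Lgr Lrot5 (Lpr_ft (K22.f177561 IH) (Lpr_at (K22.f334985 IH) (Lpe (f22043 IH) (Lpn (LP (LK LD1_c5 LD2_c9 LD3_c51))))))
theorem f335460 : Led Lsl_cf (LP (LK LD1_c10 LD2_c2 LD3_c17)) = (LP (LK LD1_c5 LD2_c9 LD3_c51)) :=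
  Lgr Lrot169 (Lpr_gt (f169480 IH) (Lpr_ct (f169466 IH) (Lpe (K10.f169467 IH) (Lpe (K15.f169477 IH) (Lpe (K17.f226715 IH) (Lpr_cf (K14.f173963 IH) (Lpr_gf (K22.f335452 IH) (Lpe (K22.f177577 IH) (Lpr_gt (f334995 IH) (Lpn (LP (LK LD1_c5 LD2_c9 LD3_c51))))))))))))
theorem f237824 : Led Lsl_bt (LP (LK LD1_c5 LD2_c37 LD3_c0)) = (LP (LK LD1_c11 LD2_c6 LD3_c7)) :=
  Lre_b IH (LK LD1_c5 LD2_c37 LD3_c0) (LK LD1_c11 LD2_c6 LD3_c7) Lrfl Lrfl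
theorem f342401 : Led Lsl_bt (LP (LK LD1_c9 LD2_c54 LD3_c55)) = (LP (LK LD1_c5 LD2_c2 LD3_c23)) :=
  Lgr Lrot95 (Lpr_df (f342399 IH) (Lpe (f237824 IH) (Lpe (f237820 IH) (Lpn (LP (LK LD1_c5 LD2_c2 LD3_c23))))))
theorem f342421 : Led Lsl_bt (LP (LK LD1_c5 LD2_c9 LD3_c51)) = (LP (LK LD1_c10 LD2_c9 LD3_c52)) :=
  Lgr Lrot119 (Lpr_ef (f342419 IH) (Lpe (f342401 IH) (Lpr_ef (f333535 IH) (Lpn (LP (LK LD1_c10 LD2_c9 LD3_c52))))))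
theorem f256457 : Led Lsl_ct (LP (LK LD1_c5 LD2_c9 LD3_c34)) = (LP (LK LD1_c10 LD2_c9 LD3_c50)) :=
  Lre_c IH (LK LD1_c5 LD2_c9 LD3_c34) (LK LD1_c10 LD2_c9 LD3_c50) Lrfl Lrfl
theorem f260623 : Led Lsl_gt (LP (LK LD1_c10 LD2_c9 LD3_c50)) = (LP (LK LD1_c18 LD2_c30 LD3_c54)) :=
  Lre_g IH (LK LD1_c10 LD2_c9 LD3_c50) (LK LD1_c18 LD2_c30 LD3_c54) Lrfl Lrfl
theorem f342648 : Led Lsl_ct (LP (LK LD1_c18 LD2_c19 LD3_c27)) = (LP (LK LD1_c18 LD2_c30 LD3_c54)) :=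
  Lgr Lrot63 (Lpr_bt (f342634 IH) (Lpe (f263411 IH) (Lpe (K15.f185645 IH) (Lpr_ct (K22.f264319 IH) (Lpr_gt (f264271 IH) (Lpr_cf (f335460 IH) (Lpr_bt (f342421 IH) (Lpr_gt (f256407 IH) (Lpr_ct (f256457 IH) (Lpr_gt (f260623 IH) (Lpn (LP (LK LD1_c18 LD2_c30 LD3_c54)))))))))))))
theorem f342653 : Led Lsl_et (LP (LK LD1_c18 LD2_c30 LD3_c54)) = (LP (LK LD1_c28 LD2_c5 LD3_c2)) :=
  Lre_e IH (LK LD1_c18 LD2_c30 LD3_c54) (LK LD1_c28 LD2_c5 LD3_c2) Lrfl Lrfl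
theorem f342654 : Led Lsl_cf (LP (LK LD1_c18 LD2_c49 LD3_c10)) = (LP (LK LD1_c28 LD2_c5 LD3_c2)) :=
  Lgr Lrot39 (Lpe (f342632 IH) (Lpr_ct (f342648 IH) (Lpr_et (f342653 IH) (Lpn (LP (LK LD1_c28 LD2_c5 LD3_c2))))))
theorem f342541 : Led Lsl_cf (LP (LK LD1_c10 LD2_c22 LD3_c6)) = (LP (LK LD1_c17 LD2_c46 LD3_c46)) :=
  Lgr Lrot11 (Lpr_ct (f342536 IH) (Lpn (LP (LK LD1_c17 LD2_c46 LD3_c46))))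
theorem f342661 : Led Lsl_gt (LP (LK LD1_c25 LD2_c45 LD3_c18)) = (LP (LK LD1_c28 LD2_c5 LD3_c2)) :=
  Lgr Lrot150 (Lpe (K21.f214559 IH) (Lpe (K19.f312513 IH) (Lpe (K19.f312488 IH) (Lpr_gt (K19.f312497 IH) (Lpr_ct (K13.f43367 IH) (Lpr_gt (K21.f43807 IH) (Lpe (f342541 IH) (Lpe (f250100 IH) (Lpr_cf (f342654 IH) (Lpn (LP (LK LD1_c28 LD2_c5 LD3_c2))))))))))))
theorem f214561 : Led Lsl_ct (LP (LK LD1_c25 LD2_c45 LD3_c18)) = (LP (LK LD1_c15 LD2_c48 LD3_c47)) :=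
  Lre_c IH (LK LD1_c25 LD2_c45 LD3_c18) (LK LD1_c15 LD2_c48 LD3_c47) Lrfl Lrfl
theorem f214557 : Led Lsl_gt (LP (LK LD1_c15 LD2_c48 LD3_c47)) = (LP (LK LD1_c17 LD2_c46 LD3_c50)) :=
  Lgr Lrot137 (Lpe (K19.f166880 IH) (Lpr_dt (K19.f166879 IH) (Lpe (K19.f166862 IH) (Lpe (K10.f166827 IH) (Lpr_et (K14.f166876 IH) (Lpr_gf (K12.f194152 IH) (Lpe (K12.f192557 IH) (Lpr_dt (K13.f192558 IH) (Lpr_gf (K15.f214553 IH) (Lpe (K15.f43380 IH) (Lpn (LP (LK LD1_c17 LD2_c46 LD3_c50)))))))))))))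
theorem f214386 : Led Lsl_ff (LP (LK LD1_c18 LD2_c30 LD3_c35)) = (LP (LK LD1_c17 LD2_c46 LD3_c48)) :=
  Lgr Lrot30 (Lpr_at (K12.f214148 IH) (Lpr_ft (K13.f214381 IH) (Lpr_at (K13.f43647 IH) (Lpn (LP (LK LD1_c17 LD2_c46 LD3_c48))))))
theorem f43751 : Led Lsl_gt (LP (LK LD1_c17 LD2_c46 LD3_c48)) = (LP (LK LD1_c27 LD2_c33 LD3_c33)) :=
  Lre_g IH (LK LD1_c17 LD2_c46 LD3_c48) (LK LD1_c27 LD2_c33 LD3_c33) Lrfl Lrfl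
theorem f214994 : Led Lsl_gf (LP (LK LD1_c18 LD2_c11 LD3_c20)) = (LP (LK LD1_c27 LD2_c33 LD3_c33)) :=
  Lgr Lrot76 (Lpe (K12.f214148 IH) (Lpr_ff (f214386 IH) (Lpr_gt (f43751 IH) (Lpn (LP (LK LD1_c27 LD2_c33 LD3_c33))))))
theorem f342664 : Led Lsl_df (LP (LK LD1_c27 LD2_c33 LD3_c33)) = (LP (LK LD1_c28 LD2_c5 LD3_c2)) :=
  Lgr Lrot153 (Lpe (f214994 IH) (Lpr_dt (K12.f214142 IH) (Lpe (K12.f214138 IH) (Lpe (K13.f192558 IH) (Lpr_gf (K15.f214553 IH) (Lpe (K15.f43380 IH) (Lpe (f214557 IH) (Lpe (f214561 IH) (Lpr_gt (f342661 IH) (Lpn (LP (LK LD1_c28 LD2_c5 LD3_c2))))))))))))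
theorem f214235 : Led Lsl_et (LP (LK LD1_c9 LD2_c56 LD3_c25)) = (LP (LK LD1_c5 LD2_c2 LD3_c46)) :=
  Lre_e IH (LK LD1_c9 LD2_c56 LD3_c25) (LK LD1_c5 LD2_c2 LD3_c46) Lrfl Lrfl
theorem f191783 : Led Lsl_dt (LP (LK LD1_c7 LD2_c57 LD3_c32)) = (LP (LK LD1_c15 LD2_c0 LD3_c39)) :=
  Lre_d IH (LK LD1_c7 LD2_c57 LD3_c32) (LK LD1_c15 LD2_c0 LD3_c39) Lrfl Lrfl
theorem f342674 : Led Lsl_et (LP (LK LD1_c28 LD2_c5 LD3_c2)) = (LP (LK LD1_c18 LD2_c30 LD3_c54)) :=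
  Lre_e IH (LK LD1_c28 LD2_c5 LD3_c2) (LK LD1_c18 LD2_c30 LD3_c54) Lrfl Lrfl
theorem f288500 : Led Lsl_et (LP (LK LD1_c5 LD2_c9 LD3_c33)) = (LP (LK LD1_c10 LD2_c9 LD3_c50)) :=
  Lre_e IH (LK LD1_c5 LD2_c9 LD3_c33) (LK LD1_c10 LD2_c9 LD3_c50) Lrfl Lrfl
theorem f342675 : Led Lsl_gt (LP (LK LD1_c15 LD2_c0 LD3_c39)) = (LP (LK LD1_c10 LD2_c9 LD3_c49)) :=
  Lgr Lrot139 (Lpe (f191783 IH) (Lpe (K14.f215724 IH) (Lpe (f214235 IH) (Lpr_dt (K13.f214257 IH) (Lpr_gf (f214994 IH) (Lpr_df (f342664 IH) (Lpr_et (f342674 IH) (Lpe (f260623 IH) (Lpe (f288500 IH) (Lpr_dt (K17.f256549 IH) (Lpn (LP (LK LD1_c10 LD2_c9 LD3_c49)))))))))))))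
theorem f336802 : Led Lsl_at (LP (LK LD1_c10 LD2_c32 LD3_c61)) = (LP (LK LD1_c15 LD2_c0 LD3_c36)) :=
  Lgr Lrot107 (Lpr_cf (K14.f215355 IH) (Lpr_af (K22.f336797 IH) (Lpe (K17.f215697 IH) (Lpn (LP (LK LD1_c15 LD2_c0 LD3_c36))))))
theorem f342677 : Led Lsl_ft (LP (LK LD1_c15 LD2_c0 LD3_c39)) = (LP (LK LD1_c10 LD2_c32 LD3_c61)) :=
  Lgr Lrot2 (Lpr_gt (f342675 IH) (Lpr_gt (K17.f288482 IH) (Lpe (f336802 IH) (Lpn (LP (LK LD1_c10 LD2_c32 LD3_c61))))))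
theorem f342689 : Led Lsl_ff (LP (LK LD1_c15 LD2_c0 LD3_c39)) = (LP (LK LD1_c10 LD2_c32 LD3_c61)) :=
  Lgr Lrot3 (Lpr_ft (f342677 IH) (Lpn (LP (LK LD1_c10 LD2_c32 LD3_c61))))
theorem f215749 : Led Lsl_bt (LP (LK LD1_c15 LD2_c0 LD3_c39)) = (LP (LK LD1_c24 LD2_c48 LD3_c3)) :=
  Lre_b IH (LK LD1_c15 LD2_c0 LD3_c39) (LK LD1_c24 LD2_c48 LD3_c3) Lrfl Lrfl
theorem f3590 : Led Lsl_dt (LP (LK LD1_c18 LD2_c6 LD3_c53)) = (LP (LK LD1_c9 LD2_c53 LD3_c61)) :=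
  Lre_d IH (LK LD1_c18 LD2_c6 LD3_c53) (LK LD1_c9 LD2_c53 LD3_c61) Lrfl Lrfl
theorem f190491 : Led Lsl_bt (LP (LK LD1_c10 LD2_c32 LD3_c61)) = (LP (LK LD1_c18 LD2_c6 LD3_c53)) :=
  Lgr Lrot95 (Lpe (K14.f190490 IH) (Lpr_bf (K10.f190484 IH) (Lpe (f3590 IH) (Lpn (LP (LK LD1_c18 LD2_c6 LD3_c53))))))
theorem f190596 : Led Lsl_bf (LP (LK LD1_c10 LD2_c32 LD3_c61)) = (LP (LK LD1_c18 LD2_c6 LD3_c53)) :=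
  Lgr Lrot24 (Lpr_bt (f190491 IH) (Lpn (LP (LK LD1_c18 LD2_c6 LD3_c53))))
theorem f342691 : Led Lsl_ft (LP (LK LD1_c24 LD2_c48 LD3_c3)) = (LP (LK LD1_c18 LD2_c6 LD3_c53)) :=
  Lgr Lrot75 (Lpe (f215749 IH) (Lpr_ff (f342689 IH) (Lpr_bf (f190596 IH) (Lpn (LP (LK LD1_c18 LD2_c6 LD3_c53))))))
theorem f215773 : Led Lsl_dt (LP (LK LD1_c15 LD2_c0 LD3_c38)) = (LP (LK LD1_c24 LD2_c48 LD3_c3)) :=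
  Lre_d IH (LK LD1_c15 LD2_c0 LD3_c38) (LK LD1_c24 LD2_c48 LD3_c3) Lrfl Lrfl
theorem f342997 : Led Lsl_ff (LP (LK LD1_c15 LD2_c0 LD3_c38)) = (LP (LK LD1_c9 LD2_c53 LD3_c61)) :=
  Lgr Lrot19 (Lpr_dt (f215773 IH) (Lpr_ft (f342691 IH) (Lpr_dt (f3590 IH) (Lpn (LP (LK LD1_c9 LD2_c53 LD3_c61))))))
theorem f343007 : Led Lsl_ft (LP (LK LD1_c15 LD2_c0 LD3_c38)) = (LP (LK LD1_c9 LD2_c53 LD3_c61)) :=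
  Lgr Lrot48 (Lpr_ff (f342997 IH) (Lpn (LP (LK LD1_c9 LD2_c53 LD3_c61))))
theorem f342980 : Led Lsl_et (LP (LK LD1_c24 LD2_c48 LD3_c4)) = (LP (LK LD1_c15 LD2_c0 LD3_c38)) :=
  Lre_e IH (LK LD1_c24 LD2_c48 LD3_c4) (LK LD1_c15 LD2_c0 LD3_c38) Lrfl Lrfl
theorem f342963 : Led Lsl_ft (LP (LK LD1_c31 LD2_c39 LD3_c22)) = (LP (LK LD1_c24 LD2_c48 LD3_c4)) :=
  Lre_f IH (LK LD1_c31 LD2_c39 LD3_c22) (LK LD1_c24 LD2_c48 LD3_c4) Lrfl Lrfl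
theorem f190593 : Led Lsl_et (LP (LK LD1_c9 LD2_c53 LD3_c61)) = (LP (LK LD1_c18 LD2_c6 LD3_c54)) :=
  Lre_e IH (LK LD1_c9 LD2_c53 LD3_c61) (LK LD1_c18 LD2_c6 LD3_c54) Lrfl Lrfl
theorem f343020 : Led Lsl_ef (LP (LK LD1_c31 LD2_c39 LD3_c22)) = (LP (LK LD1_c27 LD2_c47 LD3_c54)) :=
  Lgr Lrot21 (Lpr_ft (f342963 IH) (Lpr_et (f342980 IH) (Lpr_ft (f343007 IH) (Lpr_et (f190593 IH) (Lpr_ft (K14.f190514 IH) (Lpn (LP (LK LD1_c27 LD2_c47 LD3_c54))))))))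
theorem f45752 : Led Lsl_et (LP (LK LD1_c8 LD2_c39 LD3_c57)) = (LP (LK LD1_c4 LD2_c21 LD3_c9)) :=
  Lre_e IH (LK LD1_c8 LD2_c39 LD3_c57) (LK LD1_c4 LD2_c21 LD3_c9) Lrfl Lrfl
theorem f191784 : Led Lsl_et (LP (LK LD1_c7 LD2_c57 LD3_c32)) = (LP (LK LD1_c15 LD2_c0 LD3_c40)) :=
  Lre_e IH (LK LD1_c7 LD2_c57 LD3_c32) (LK LD1_c15 LD2_c0 LD3_c40) Lrfl Lrfl
theorem f191785 : Led Lsl_cf (LP (LK LD1_c8 LD2_c39 LD3_c57)) = (LP (LK LD1_c15 LD2_c0 LD3_c40)) :=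
  Lgr Lrot39 (Lpr_et (f45752 IH) (Lpr_ct (K14.f191763 IH) (Lpr_et (f191784 IH) (Lpn (LP (LK LD1_c15 LD2_c0 LD3_c40))))))
theorem f191815 : Led Lsl_ft (LP (LK LD1_c24 LD2_c48 LD3_c7)) = (LP (LK LD1_c15 LD2_c0 LD3_c40)) :=
  Lre_f IH (LK LD1_c24 LD2_c48 LD3_c7) (LK LD1_c15 LD2_c0 LD3_c40) Lrfl Lrfl
theorem f191816 : Led Lsl_ct (LP (LK LD1_c16 LD2_c13 LD3_c43)) = (LP (LK LD1_c24 LD2_c48 LD3_c7)) :=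
  Lgr Lrot40 (Lpe (K21.f187176 IH) (Lpr_cf (f191785 IH) (Lpe (f191815 IH) (Lpn (LP (LK LD1_c24 LD2_c48 LD3_c7))))))
theorem f191821 : Led Lsl_bt (LP (LK LD1_c24 LD2_c48 LD3_c7)) = (LP (LK LD1_c31 LD2_c39 LD3_c22)) :=
  Lre_b IH (LK LD1_c24 LD2_c48 LD3_c7) (LK LD1_c31 LD2_c39 LD3_c22) Lrfl Lrfl
theorem f327581 : Led Lsl_bt (LP (LK LD1_c27 LD2_c45 LD3_c34)) = (LP (LK LD1_c18 LD2_c3 LD3_c55)) :=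
  Lre_b IH (LK LD1_c27 LD2_c45 LD3_c34) (LK LD1_c18 LD2_c3 LD3_c55) Lrfl Lrfl
theorem f327584 : Led Lsl_ct (LP (LK LD1_c31 LD2_c39 LD3_c22)) = (LP (LK LD1_c27 LD2_c45 LD3_c34)) :=
  Lgr Lrot83 (Lpe (f191821 IH) (Lpe (f191816 IH) (Lpr_bf (K14.f187135 IH) (Lpr_cf (K21.f327579 IH) (Lpe (f327581 IH) (Lpn (LP (LK LD1_c27 LD2_c45 LD3_c34))))))))
theorem f343027 : Led Lsl_et (LP (LK LD1_c27 LD2_c45 LD3_c34)) = (LP (LK LD1_c18 LD2_c6 LD3_c59)) :=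
  Lgr Lrot158 (Lpe (f327584 IH) (Lpr_ef (f343020 IH) (Lpe (K14.f190519 IH) (Lpn (LP (LK LD1_c18 LD2_c6 LD3_c59))))))
theorem f343029 : Led Lsl_ef (LP (LK LD1_c27 LD2_c45 LD3_c34)) = (LP (LK LD1_c18 LD2_c6 LD3_c59)) :=
  Lgr Lrot88 (Lpr_et (f343027 IH) (Lpn (LP (LK LD1_c18 LD2_c6 LD3_c59))))
theorem f343033 : Led Lsl_et (LP (LK LD1_c18 LD2_c3 LD3_c55)) = (LP (LK LD1_c9 LD2_c54 LD3_c6)) :=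
  Lgr Lrot74 (Lpe (f327581 IH) (Lpr_ef (f343029 IH) (Lpe (K14.f190520 IH) (Lpn (LP (LK LD1_c9 LD2_c54 LD3_c6))))))
theorem f252815 : Led Lsl_ct (LP (LK LD1_c10 LD2_c29 LD3_c19)) = (LP (LK LD1_c9 LD2_c54 LD3_c14)) :=
  Lgr Lrot59 (Lpr_cf (K22.f252811 IH) (Lpn (LP (LK LD1_c9 LD2_c54 LD3_c14))))
theorem f327582 : Led Lsl_at (LP (LK LD1_c9 LD2_c54 LD3_c14)) = (LP (LK LD1_c18 LD2_c3 LD3_c55)) :=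
  Lgr Lrot107 (Lpe (f252815 IH) (Lpe (K20.f320821 IH) (Lpr_cf (K21.f327579 IH) (Lpn (LP (LK LD1_c18 LD2_c3 LD3_c55))))))
theorem f343037 : Led Lsl_ef (LP (LK LD1_c9 LD2_c54 LD3_c14)) = (LP (LK LD1_c18 LD2_c3 LD3_c48)) :=
  Lgr Lrot20 (Lpr_at (f327582 IH) (Lpr_et (f343033 IH) (Lpe (K20.f320864 IH) (Lpn (LP (LK LD1_c18 LD2_c3 LD3_c48))))))
theorem f252817 : Led Lsl_bt (LP (LK LD1_c9 LD2_c54 LD3_c14)) = (LP (LK LD1_c18 LD2_c7 LD3_c25)) :=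
  Lre_b IH (LK LD1_c9 LD2_c54 LD3_c14) (LK LD1_c18 LD2_c7 LD3_c25) Lrfl Lrfl
theorem f180977 : Led Lsl_bt (LP (LK LD1_c27 LD2_c45 LD3_c23)) = (LP (LK LD1_c18 LD2_c3 LD3_c48)) :=
  Lre_b IH (LK LD1_c27 LD2_c45 LD3_c23) (LK LD1_c18 LD2_c3 LD3_c48) Lrfl Lrfl
theorem f343039 : Led Lsl_et (LP (LK LD1_c18 LD2_c7 LD3_c25)) = (LP (LK LD1_c27 LD2_c45 LD3_c23)) :=
  Lgr Lrot74 (Lpe (f252817 IH) (Lpr_ef (f343037 IH) (Lpe (f180977 IH) (Lpn (LP (LK LD1_c27 LD2_c45 LD3_c23))))))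
theorem f252831 : Led Lsl_ft (LP (LK LD1_c9 LD2_c54 LD3_c11)) = (LP (LK LD1_c18 LD2_c7 LD3_c25)) :=
  Lre_f IH (LK LD1_c9 LD2_c54 LD3_c11) (LK LD1_c18 LD2_c7 LD3_c25) Lrfl Lrfl
theorem f252900 : Led Lsl_et (LP (LK LD1_c5 LD2_c1 LD3_c50)) = (LP (LK LD1_c9 LD2_c54 LD3_c11)) :=
  Lre_e IH (LK LD1_c5 LD2_c1 LD3_c50) (LK LD1_c9 LD2_c54 LD3_c11) Lrfl Lrfl
theorem f180964 : Led Lsl_ft (LP (LK LD1_c27 LD2_c45 LD3_c23)) = (LP (LK LD1_c18 LD2_c3 LD3_c45)) :=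
  Lre_f IH (LK LD1_c27 LD2_c45 LD3_c23) (LK LD1_c18 LD2_c3 LD3_c45) Lrfl Lrfl
theorem f181024 : Led Lsl_et (LP (LK LD1_c18 LD2_c3 LD3_c45)) = (LP (LK LD1_c9 LD2_c52 LD3_c2)) :=
  Lre_e IH (LK LD1_c18 LD2_c3 LD3_c45) (LK LD1_c9 LD2_c52 LD3_c2) Lrfl Lrfl
theorem f343063 : Led Lsl_ff (LP (LK LD1_c5 LD2_c1 LD3_c50)) = (LP (LK LD1_c9 LD2_c52 LD3_c2)) :=
  Lgr Lrot72 (Lpr_et (f252900 IH) (Lpr_ft (f252831 IH) (Lpr_et (f343039 IH) (Lpr_ft (f180964 IH) (Lpr_et (f181024 IH) (Lpn (LP (LK LD1_c9 LD2_c52 LD3_c2))))))))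
theorem f252808 : Led Lsl_cf (LP (LK LD1_c5 LD2_c19 LD3_c44)) = (LP (LK LD1_c5 LD2_c1 LD3_c52)) :=
  Lgr Lrot11 (Lpr_ct (K22.f252787 IH) (Lpn (LP (LK LD1_c5 LD2_c1 LD3_c52))))
theorem f229027 : Led Lsl_ct (LP (LK LD1_c4 LD2_c8 LD3_c49)) = (LP (LK LD1_c8 LD2_c17 LD3_c49)) :=
  Lre_c IH (LK LD1_c4 LD2_c8 LD3_c49) (LK LD1_c8 LD2_c17 LD3_c49) Lrfl Lrfl
theorem f229028 : Led Lsl_bt (LP (LK LD1_c8 LD2_c17 LD3_c49)) = (LP (LK LD1_c15 LD2_c36 LD3_c12)) :=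
  Lre_b IH (LK LD1_c8 LD2_c17 LD3_c49) (LK LD1_c15 LD2_c36 LD3_c12) Lrfl Lrfl
theorem f252820 : Led Lsl_ct (LP (LK LD1_c15 LD2_c36 LD3_c12)) = (LP (LK LD1_c9 LD2_c54 LD3_c11)) :=
  Lgr Lrot83 (Lpe (f229028 IH) (Lpe (f229027 IH) (Lpr_bf (K12.f229024 IH) (Lpr_cf (f252808 IH) (Lpe (K22.f252819 IH) (Lpn (LP (LK LD1_c9 LD2_c54 LD3_c11))))))))
theorem f252827 : Led Lsl_et (LP (LK LD1_c8 LD2_c17 LD3_c52)) = (LP (LK LD1_c15 LD2_c36 LD3_c12)) :=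
  Lre_e IH (LK LD1_c8 LD2_c17 LD3_c52) (LK LD1_c15 LD2_c36 LD3_c12) Lrfl Lrfl
theorem f252828 : Led Lsl_et (LP (LK LD1_c9 LD2_c54 LD3_c11)) = (LP (LK LD1_c5 LD2_c1 LD3_c50)) :=
  Lre_e IH (LK LD1_c9 LD2_c54 LD3_c11) (LK LD1_c5 LD2_c1 LD3_c50) Lrfl Lrfl
theorem f252829 : Led Lsl_cf (LP (LK LD1_c8 LD2_c17 LD3_c52)) = (LP (LK LD1_c5 LD2_c1 LD3_c50)) :=
  Lgr Lrot39 (Lpr_et (f252827 IH) (Lpr_ct (f252820 IH) (Lpr_et (f252828 IH) (Lpn (LP (LK LD1_c5 LD2_c1 LD3_c50))))))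
theorem f180943 : Led Lsl_bt (LP (LK LD1_c10 LD2_c20 LD3_c54)) = (LP (LK LD1_c5 LD2_c15 LD3_c48)) :=
  Lre_b IH (LK LD1_c10 LD2_c20 LD3_c54) (LK LD1_c5 LD2_c15 LD3_c48) Lrfl Lrfl
theorem f180938 : Led Lsl_bt (LP (LK LD1_c9 LD2_c52 LD3_c4)) = (LP (LK LD1_c18 LD2_c3 LD3_c45)) :=
  Lre_b IH (LK LD1_c9 LD2_c52 LD3_c4) (LK LD1_c18 LD2_c3 LD3_c45) Lrfl Lrfl
theorem f180944 : Led Lsl_cf (LP (LK LD1_c10 LD2_c20 LD3_c54)) = (LP (LK LD1_c18 LD2_c3 LD3_c45)) :=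
  Lgr Lrot97 (Lpr_bt (f180943 IH) (Lpr_ct (K20.f180942 IH) (Lpr_bt (K19.f180941 IH) (Lpr_ct (K20.f180929 IH) (Lpr_bt (f180938 IH) (Lpn (LP (LK LD1_c18 LD2_c3 LD3_c45))))))))
theorem f180959 : Led Lsl_et (LP (LK LD1_c10 LD2_c20 LD3_c54)) = (LP (LK LD1_c5 LD2_c15 LD3_c46)) :=
  Lre_e IH (LK LD1_c10 LD2_c20 LD3_c54) (LK LD1_c5 LD2_c15 LD3_c46) Lrfl Lrfl
theorem f180960 : Led Lsl_et (LP (LK LD1_c9 LD2_c52 LD3_c2)) = (LP (LK LD1_c18 LD2_c3 LD3_c45)) :=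
  Lre_e IH (LK LD1_c9 LD2_c52 LD3_c2) (LK LD1_c18 LD2_c3 LD3_c45) Lrfl Lrfl
theorem f180961 : Led Lsl_ct (LP (LK LD1_c5 LD2_c15 LD3_c46)) = (LP (LK LD1_c9 LD2_c52 LD3_c2)) :=
  Lgr Lrot15 (Lpe (f180959 IH) (Lpr_cf (f180944 IH) (Lpe (f180960 IH) (Lpn (LP (LK LD1_c9 LD2_c52 LD3_c2))))))
theorem f343067 : Led Lsl_ft (LP (LK LD1_c8 LD2_c17 LD3_c52)) = (LP (LK LD1_c5 LD2_c15 LD3_c46)) :=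
  Lgr Lrot4 (Lpr_cf (f252829 IH) (Lpr_ff (f343063 IH) (Lpe (f180961 IH) (Lpn (LP (LK LD1_c5 LD2_c15 LD3_c46))))))
theorem f343076 : Led Lsl_ff (LP (LK LD1_c8 LD2_c17 LD3_c52)) = (LP (LK LD1_c5 LD2_c15 LD3_c46)) :=
  Lgr Lrot3 (Lpr_ft (f343067 IH) (Lpn (LP (LK LD1_c5 LD2_c15 LD3_c46))))
theorem f229036 : Led Lsl_bt (LP (LK LD1_c8 LD2_c17 LD3_c52)) = (LP (LK LD1_c4 LD2_c8 LD3_c51)) :=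
  Lre_b IH (LK LD1_c8 LD2_c17 LD3_c52) (LK LD1_c4 LD2_c8 LD3_c51) Lrfl Lrfl
theorem f180886 : Led Lsl_bt (LP (LK LD1_c2 LD2_c34 LD3_c44)) = (LP (LK LD1_c5 LD2_c15 LD3_c46)) :=
  Lre_b IH (LK LD1_c2 LD2_c34 LD3_c44) (LK LD1_c5 LD2_c15 LD3_c46) Lrfl Lrfl
theorem f343083 : Led Lsl_ft (LP (LK LD1_c4 LD2_c8 LD3_c51)) = (LP (LK LD1_c2 LD2_c34 LD3_c44)) :=
  Lgr Lrot75 (Lpe (f229036 IH) (Lpr_ff (f343076 IH) (Lpe (f180886 IH) (Lpn (LP (LK LD1_c2 LD2_c34 LD3_c44))))))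
theorem f343092 : Led Lsl_ff (LP (LK LD1_c8 LD2_c17 LD3_c53)) = (LP (LK LD1_c5 LD2_c15 LD3_c47)) :=
  Lgr Lrot19 (Lpr_dt (K15.f229037 IH) (Lpr_ft (f343083 IH) (Lpr_dt (K18.f252315 IH) (Lpn (LP (LK LD1_c5 LD2_c15 LD3_c47))))))
theorem f343102 : Led Lsl_ft (LP (LK LD1_c8 LD2_c17 LD3_c53)) = (LP (LK LD1_c5 LD2_c15 LD3_c47)) :=
  Lgr Lrot48 (Lpr_ff (f343092 IH) (Lpn (LP (LK LD1_c5 LD2_c15 LD3_c47))))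
theorem f259486 : Led Lsl_ct (LP (LK LD1_c5 LD2_c15 LD3_c47)) = (LP (LK LD1_c8 LD2_c28 LD3_c56)) :=
  Lgr Lrot7 (Lpe (K18.f252315 IH) (Lpr_gf (K14.f248075 IH) (Lpe (K15.f49483 IH) (Lpe (K15.f259434 IH) (Lpe (K15.f259394 IH) (Lpr_gt (K15.f259482 IH) (Lpr_dt (K1.f45196 IH) (Lpr_gt (K15.f216293 IH) (Lpr_dt (K21.f189626 IH) (Lpn (LP (LK LD1_c8 LD2_c28 LD3_c56))))))))))))
theorem f343104 : Led Lsl_ff (LP (LK LD1_c8 LD2_c29 LD3_c20)) = (LP (LK LD1_c8 LD2_c28 LD3_c56)) :=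
  Lgr Lrot23 (Lpe (K15.f257110 IH) (Lpr_ft (f343102 IH) (Lpr_ct (f259486 IH) (Lpn (LP (LK LD1_c8 LD2_c28 LD3_c56))))))
theorem f257119 : Led Lsl_bt (LP (LK LD1_c8 LD2_c29 LD3_c20)) = (LP (LK LD1_c15 LD2_c56 LD3_c22)) :=
  Lre_b IH (LK LD1_c8 LD2_c29 LD3_c20) (LK LD1_c15 LD2_c56 LD3_c22) Lrfl Lrfl
theorem f259493 : Led Lsl_bt (LP (LK LD1_c15 LD2_c55 LD3_c38)) = (LP (LK LD1_c8 LD2_c28 LD3_c56)) :=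
  Lre_b IH (LK LD1_c15 LD2_c55 LD3_c38) (LK LD1_c8 LD2_c28 LD3_c56) Lrfl Lrfl
theorem f343636 : Led Lsl_ft (LP (LK LD1_c15 LD2_c56 LD3_c22)) = (LP (LK LD1_c15 LD2_c55 LD3_c38)) :=
  Lgr Lrot75 (Lpe (f257119 IH) (Lpr_ff (f343104 IH) (Lpe (f259493 IH) (Lpn (LP (LK LD1_c15 LD2_c55 LD3_c38))))))
theorem f343643 : Led Lsl_ff (LP (LK LD1_c15 LD2_c56 LD3_c22)) = (LP (LK LD1_c15 LD2_c55 LD3_c38)) :=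
  Lgr Lrot3 (Lpr_ft (f343636 IH) (Lpn (LP (LK LD1_c15 LD2_c55 LD3_c38))))
theorem f257257 : Led Lsl_dt (LP (LK LD1_c15 LD2_c56 LD3_c22)) = (LP (LK LD1_c8 LD2_c29 LD3_c19)) :=
  Lre_d IH (LK LD1_c15 LD2_c56 LD3_c22) (LK LD1_c8 LD2_c29 LD3_c19) Lrfl Lrfl
theorem f343645 : Led Lsl_dt (LP (LK LD1_c8 LD2_c28 LD3_c55)) = (LP (LK LD1_c15 LD2_c55 LD3_c38)) :=
  Lre_d IH (LK LD1_c8 LD2_c28 LD3_c55) (LK LD1_c15 LD2_c55 LD3_c38) Lrfl Lrfl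
theorem f343646 : Led Lsl_ft (LP (LK LD1_c8 LD2_c29 LD3_c19)) = (LP (LK LD1_c8 LD2_c28 LD3_c55)) :=
  Lgr Lrot54 (Lpe (f257257 IH) (Lpr_ff (f343643 IH) (Lpe (f343645 IH) (Lpn (LP (LK LD1_c8 LD2_c28 LD3_c55))))))
theorem f214058 : Led Lsl_bt (LP (LK LD1_c6 LD2_c4 LD3_c29)) = (LP (LK LD1_c11 LD2_c52 LD3_c27)) :=
  Lre_b IH (LK LD1_c6 LD2_c4 LD3_c29) (LK LD1_c11 LD2_c52 LD3_c27) Lrfl Lrfl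
theorem f324804 : Led Lsl_ft (LP (LK LD1_c11 LD2_c52 LD3_c27)) = (LP (LK LD1_c6 LD2_c5 LD3_c9)) :=
  Lgr Lrot75 (Lpe (f214058 IH) (Lpr_ff (K21.f324802 IH) (Lpe (K17.f194970 IH) (Lpn (LP (LK LD1_c6 LD2_c5 LD3_c9))))))
theorem f343652 : Led Lsl_cf (LP (LK LD1_c11 LD2_c52 LD3_c27)) = (LP (LK LD1_c8 LD2_c28 LD3_c55)) :=
  Lgr Lrot108 (Lpr_ft (f324804 IH) (Lpr_ct (K17.f257209 IH) (Lpr_ft (f343646 IH) (Lpn (LP (LK LD1_c8 LD2_c28 LD3_c55))))))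
theorem f343658 : Led Lsl_et (LP (LK LD1_c11 LD2_c52 LD3_c27)) = (LP (LK LD1_c20 LD2_c55 LD3_c21)) :=
  Lre_e IH (LK LD1_c11 LD2_c52 LD3_c27) (LK LD1_c20 LD2_c55 LD3_c21) Lrfl Lrfl
theorem f343659 : Led Lsl_et (LP (LK LD1_c15 LD2_c55 LD3_c39)) = (LP (LK LD1_c8 LD2_c28 LD3_c55)) :=
  Lre_e IH (LK LD1_c15 LD2_c55 LD3_c39) (LK LD1_c8 LD2_c28 LD3_c55) Lrfl Lrfl
theorem f343660 : Led Lsl_ct (LP (LK LD1_c20 LD2_c55 LD3_c21)) = (LP (LK LD1_c15 LD2_c55 LD3_c39)) :=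
  Lgr Lrot15 (Lpe (f343658 IH) (Lpr_cf (f343652 IH) (Lpe (f343659 IH) (Lpn (LP (LK LD1_c15 LD2_c55 LD3_c39))))))
theorem f343662 : Led Lsl_bt (LP (LK LD1_c11 LD2_c52 LD3_c29)) = (LP (LK LD1_c20 LD2_c55 LD3_c21)) :=
  Lre_b IH (LK LD1_c11 LD2_c52 LD3_c29) (LK LD1_c20 LD2_c55 LD3_c21) Lrfl Lrfl
theorem f189637 : Led Lsl_bt (LP (LK LD1_c15 LD2_c55 LD3_c39)) = (LP (LK LD1_c8 LD2_c28 LD3_c57)) :=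
  Lre_b IH (LK LD1_c15 LD2_c55 LD3_c39) (LK LD1_c8 LD2_c28 LD3_c57) Lrfl Lrfl
theorem f189633 : Led Lsl_et (LP (LK LD1_c4 LD2_c14 LD3_c60)) = (LP (LK LD1_c8 LD2_c28 LD3_c57)) :=
  Lre_e IH (LK LD1_c4 LD2_c14 LD3_c60) (LK LD1_c8 LD2_c28 LD3_c57) Lrfl Lrfl
theorem f189634 : Led Lsl_cf (LP (LK LD1_c8 LD2_c26 LD3_c28)) = (LP (LK LD1_c8 LD2_c28 LD3_c57)) :=
  Lgr Lrot39 (Lpr_et (K12.f189629 IH) (Lpr_ct (K13.f189624 IH) (Lpr_et (f189633 IH) (Lpn (LP (LK LD1_c8 LD2_c28 LD3_c57))))))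
theorem f343663 : Led Lsl_cf (LP (LK LD1_c11 LD2_c52 LD3_c29)) = (LP (LK LD1_c9 LD2_c41 LD3_c11)) :=
  Lgr Lrot97 (Lpr_bt (f343662 IH) (Lpr_ct (f343660 IH) (Lpr_bt (f189637 IH) (Lpe (f189634 IH) (Lpr_bt (K12.f214047 IH) (Lpn (LP (LK LD1_c9 LD2_c41 LD3_c11))))))))
theorem f324808 : Led Lsl_ft (LP (LK LD1_c11 LD2_c52 LD3_c29)) = (LP (LK LD1_c20 LD2_c55 LD3_c23)) :=
  Lre_f IH (LK LD1_c11 LD2_c52 LD3_c29) (LK LD1_c20 LD2_c55 LD3_c23) Lrfl Lrfl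
theorem f214044 : Led Lsl_ft (LP (LK LD1_c17 LD2_c49 LD3_c0)) = (LP (LK LD1_c9 LD2_c41 LD3_c11)) :=
  Lre_f IH (LK LD1_c17 LD2_c49 LD3_c0) (LK LD1_c9 LD2_c41 LD3_c11) Lrfl Lrfl
theorem f343673 : Led Lsl_ct (LP (LK LD1_c20 LD2_c55 LD3_c23)) = (LP (LK LD1_c17 LD2_c49 LD3_c0)) :=
  Lgr Lrot40 (Lpe (f324808 IH) (Lpr_cf (f343663 IH) (Lpe (f214044 IH) (Lpn (LP (LK LD1_c17 LD2_c49 LD3_c0))))))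
theorem f223291 : Led Lsl_et (LP (LK LD1_c11 LD2_c52 LD3_c29)) = (LP (LK LD1_c6 LD2_c4 LD3_c29)) :=
  Lre_e IH (LK LD1_c11 LD2_c52 LD3_c29) (LK LD1_c6 LD2_c4 LD3_c29) Lrfl Lrfl
theorem f324799 : Led Lsl_ft (LP (LK LD1_c20 LD2_c55 LD3_c23)) = (LP (LK LD1_c11 LD2_c52 LD3_c29)) :=
  Lre_f IH (LK LD1_c20 LD2_c55 LD3_c23) (LK LD1_c11 LD2_c52 LD3_c29) Lrfl Lrfl
theorem f257354 : Led Lsl_et (LP (LK LD1_c2 LD2_c58 LD3_c45)) = (LP (LK LD1_c6 LD2_c5 LD3_c11)) :=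
  Lre_e IH (LK LD1_c2 LD2_c58 LD3_c45) (LK LD1_c6 LD2_c5 LD3_c11) Lrfl Lrfl
theorem f324800 : Led Lsl_ef (LP (LK LD1_c20 LD2_c55 LD3_c23)) = (LP (LK LD1_c11 LD2_c53 LD3_c49)) :=
  Lgr Lrot21 (Lpr_ft (f324799 IH) (Lpr_et (f223291 IH) (Lpr_ft (K21.f324793 IH) (Lpr_et (f257354 IH) (Lpr_ft (K21.f257342 IH) (Lpn (LP (LK LD1_c11 LD2_c53 LD3_c49))))))))
theorem f257350 : Led Lsl_cf (LP (LK LD1_c11 LD2_c53 LD3_c49)) = (LP (LK LD1_c16 LD2_c11 LD3_c6)) :=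
  Lgr Lrot11 (Lpr_ct (K21.f257344 IH) (Lpn (LP (LK LD1_c16 LD2_c11 LD3_c6))))
theorem f343677 : Led Lsl_ef (LP (LK LD1_c16 LD2_c11 LD3_c6)) = (LP (LK LD1_c17 LD2_c49 LD3_c0)) :=
  Lgr Lrot28 (Lpe (f257350 IH) (Lpe (f324800 IH) (Lpr_ct (f343673 IH) (Lpn (LP (LK LD1_c17 LD2_c49 LD3_c0))))))
theorem f343681 : Led Lsl_bt (LP (LK LD1_c16 LD2_c11 LD3_c6)) = (LP (LK LD1_c19 LD2_c35 LD3_c9)) :=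
  Lgr Lrot119 (Lpr_ef (f343677 IH) (Lpe (K12.f214040 IH) (Lpe (K21.f317596 IH) (Lpn (LP (LK LD1_c19 LD2_c35 LD3_c9))))))
theorem f245935 : Led Lsl_gt (LP (LK LD1_c1 LD2_c16 LD3_c37)) = (LP (LK LD1_c2 LD2_c39 LD3_c43)) :=
  Lre_g IH (LK LD1_c1 LD2_c16 LD3_c37) (LK LD1_c2 LD2_c39 LD3_c43) Lrfl Lrfl
theorem f286182 : Led Lsl_bt (LP (LK LD1_c5 LD2_c26 LD3_c38)) = (LP (LK LD1_c2 LD2_c39 LD3_c43)) :=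
  Lre_b IH (LK LD1_c5 LD2_c26 LD3_c38) (LK LD1_c2 LD2_c39 LD3_c43) Lrfl Lrfl
theorem f286183 : Led Lsl_ct (LP (LK LD1_c5 LD2_c26 LD3_c38)) = (LP (LK LD1_c10 LD2_c44 LD3_c26)) :=
  Lre_c IH (LK LD1_c5 LD2_c26 LD3_c38) (LK LD1_c10 LD2_c44 LD3_c26) Lrfl Lrfl
theorem f343687 : Led Lsl_gf (LP (LK LD1_c11 LD2_c53 LD3_c49)) = (LP (LK LD1_c10 LD2_c44 LD3_c26)) :=
  Lgr Lrot126 (Lpr_cf (f257350 IH) (Lpr_bt (f343681 IH) (Lpr_gt (K19.f298848 IH) (Lpr_ct (K19.f286155 IH) (Lpr_gt (K19.f245098 IH) (Lpe (K22.f285615 IH) (Lpr_bt (K18.f245918 IH) (Lpr_gt (f245935 IH) (Lpe (f286182 IH) (Lpr_ct (f286183 IH) (Lpn (LP (LK LD1_c10 LD2_c44 LD3_c26)))))))))))))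
theorem f222210 : Led Lsl_et (LP (LK LD1_c4 LD2_c12 LD3_c55)) = (LP (LK LD1_c8 LD2_c25 LD3_c6)) :=
  Lre_e IH (LK LD1_c4 LD2_c12 LD3_c55) (LK LD1_c8 LD2_c25 LD3_c6) Lrfl Lrfl
theorem f337068 : Led Lsl_gf (LP (LK LD1_c8 LD2_c25 LD3_c6)) = (LP (LK LD1_c9 LD2_c36 LD3_c26)) :=
  Lgr Lrot141 (Lpe (f222210 IH) (Lpr_dt (K14.f222208 IH) (Lpe (K15.f262832 IH) (Lpe (K16.f220501 IH) (Lpr_et (K16.f220504 IH) (Lpr_gt (K21.f262845 IH) (Lpr_dt (K19.f262846 IH) (Lpr_gt (K19.f298848 IH) (Lpr_df (K22.f337060 IH) (Lpr_et (K22.f337049 IH) (Lpn (LP (LK LD1_c9 LD2_c36 LD3_c26)))))))))))))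
theorem f222197 : Led Lsl_bt (LP (LK LD1_c4 LD2_c12 LD3_c57)) = (LP (LK LD1_c8 LD2_c25 LD3_c6)) :=
  Lre_b IH (LK LD1_c4 LD2_c12 LD3_c57) (LK LD1_c8 LD2_c25 LD3_c6) Lrfl Lrfl
theorem f222198 : Led Lsl_df (LP (LK LD1_c8 LD2_c25 LD3_c6)) = (LP (LK LD1_c8 LD2_c25 LD3_c6)) :=
  Lgr Lrot12 (Lpr_bt (K12.f222196 IH) (Lpr_dt (K21.f222194 IH) (Lpr_bt (f222197 IH) (Lpn (LP (LK LD1_c8 LD2_c25 LD3_c6))))))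
theorem f222207 : Led Lsl_et (LP (LK LD1_c8 LD2_c25 LD3_c6)) = (LP (LK LD1_c4 LD2_c12 LD3_c55)) :=
  Lre_e IH (LK LD1_c8 LD2_c25 LD3_c6) (LK LD1_c4 LD2_c12 LD3_c55) Lrfl Lrfl
theorem f220375 : Led Lsl_gt (LP (LK LD1_c5 LD2_c29 LD3_c37)) = (LP (LK LD1_c10 LD2_c50 LD3_c27)) :=
  Lre_g IH (LK LD1_c5 LD2_c29 LD3_c37) (LK LD1_c10 LD2_c50 LD3_c27) Lrfl Lrfl
theorem f337048 : Led Lsl_dt (LP (LK LD1_c17 LD2_c41 LD3_c39)) = (LP (LK LD1_c9 LD2_c36 LD3_c26)) :=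
  Lre_d IH (LK LD1_c17 LD2_c41 LD3_c39) (LK LD1_c9 LD2_c36 LD3_c26) Lrfl Lrfl
theorem f337071 : Led Lsl_ef (LP (LK LD1_c10 LD2_c50 LD3_c27)) = (LP (LK LD1_c17 LD2_c41 LD3_c39)) :=
  Lgr Lrot17 (Lpe (f220375 IH) (Lpe (K21.f220519 IH) (Lpr_dt (K13.f220511 IH) (Lpr_gf (K15.f246243 IH) (Lpe (K15.f251771 IH) (Lpe (K15.f257914 IH) (Lpe (f222207 IH) (Lpe (f222198 IH) (Lpr_gf (f337068 IH) (Lpe (f337048 IH) (Lpn (LP (LK LD1_c17 LD2_c41 LD3_c39)))))))))))))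
theorem f315407 : Led Lsl_bt (LP (LK LD1_c9 LD2_c36 LD3_c28)) = (LP (LK LD1_c17 LD2_c41 LD3_c39)) :=
  Lre_b IH (LK LD1_c9 LD2_c36 LD3_c28) (LK LD1_c17 LD2_c41 LD3_c39) Lrfl Lrfl
theorem f337075 : Led Lsl_bt (LP (LK LD1_c10 LD2_c50 LD3_c27)) = (LP (LK LD1_c5 LD2_c39 LD3_c17)) :=
  Lgr Lrot119 (Lpr_ef (f337071 IH) (Lpe (f315407 IH) (Lpe (K22.f315405 IH) (Lpn (LP (LK LD1_c5 LD2_c39 LD3_c17))))))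
theorem f260979 : Led Lsl_dt (LP (LK LD1_c19 LD2_c35 LD3_c50)) = (LP (LK LD1_c10 LD2_c50 LD3_c27)) :=
  Lre_d IH (LK LD1_c19 LD2_c35 LD3_c50) (LK LD1_c10 LD2_c50 LD3_c27) Lrfl Lrfl
theorem f337079 : Led Lsl_bf (LP (LK LD1_c19 LD2_c35 LD3_c50)) = (LP (LK LD1_c11 LD2_c9 LD3_c34)) :=
  Lgr Lrot93 (Lpr_dt (f260979 IH) (Lpr_bt (f337075 IH) (Lpr_dt (K18.f179743 IH) (Lpn (LP (LK LD1_c11 LD2_c9 LD3_c34))))))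
theorem f337081 : Led Lsl_bt (LP (LK LD1_c19 LD2_c35 LD3_c50)) = (LP (LK LD1_c11 LD2_c9 LD3_c34)) :=
  Lgr Lrot127 (Lpr_bf (f337079 IH) (Lpn (LP (LK LD1_c11 LD2_c9 LD3_c34))))
theorem f271056 : Led Lsl_et (LP (LK LD1_c19 LD2_c35 LD3_c50)) = (LP (LK LD1_c15 LD2_c51 LD3_c9)) :=
  Lgr Lrot121 (Lpr_dt (f260979 IH) (Lpe (f220375 IH) (Lpr_df (K21.f260962 IH) (Lpr_et (K21.f220521 IH) (Lpr_gf (K15.f245141 IH) (Lpe (K16.f188556 IH) (Lpe (K16.f262861 IH) (Lpr_gf (K16.f271041 IH) (Lpe (K16.f271054 IH) (Lpe (K19.f259530 IH) (Lpn (LP (LK LD1_c15 LD2_c51 LD3_c9)))))))))))))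
theorem f271058 : Led Lsl_ef (LP (LK LD1_c19 LD2_c35 LD3_c50)) = (LP (LK LD1_c15 LD2_c51 LD3_c9)) :=
  Lgr Lrot88 (Lpr_et (f271056 IH) (Lpn (LP (LK LD1_c15 LD2_c51 LD3_c9))))
theorem f337083 : Led Lsl_bf (LP (LK LD1_c15 LD2_c51 LD3_c9)) = (LP (LK LD1_c8 LD2_c27 LD3_c27)) :=
  Lgr Lrot96 (Lpe (f271058 IH) (Lpr_bt (f337081 IH) (Lpr_et (K13.f200470 IH) (Lpn (LP (LK LD1_c8 LD2_c27 LD3_c27))))))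
theorem f343695 : Led Lsl_gt (LP (LK LD1_c6 LD2_c4 LD3_c27)) = (LP (LK LD1_c5 LD2_c26 LD3_c38)) :=
  Lgr Lrot82 (Lpr_bf (K22.f194366 IH) (Lpr_ct (K20.f227045 IH) (Lpe (K18.f216486 IH) (Lpe (f227041 IH) (Lpe (f337083 IH) (Lpe (K19.f298848 IH) (Lpe (f343681 IH) (Lpe (f257350 IH) (Lpr_gf (f343687 IH) (Lpe (f286183 IH) (Lpn (LP (LK LD1_c5 LD2_c26 LD3_c38)))))))))))))
theorem f343705 : Led Lsl_et (LP (LK LD1_c2 LD2_c42 LD3_c38)) = (LP (LK LD1_c5 LD2_c26 LD3_c38)) :=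
  Lgr Lrot122 (Lpe (K22.f281002 IH) (Lpr_gt (K22.f333834 IH) (Lpr_df (K22.f42188 IH) (Lpr_et (K20.f42171 IH) (Lpr_gt (K14.f250432 IH) (Lpr_dt (K14.f249225 IH) (Lpr_gt (K16.f249339 IH) (Lpe (K16.f274442 IH) (Lpr_et (K21.f274444 IH) (Lpr_gt (f343695 IH) (Lpn (LP (LK LD1_c5 LD2_c26 LD3_c38)))))))))))))
theorem f343713 : Led Lsl_ef (LP (LK LD1_c2 LD2_c42 LD3_c38)) = (LP (LK LD1_c5 LD2_c26 LD3_c38)) :=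
  Lgr Lrot88 (Lpr_et (f343705 IH) (Lpn (LP (LK LD1_c5 LD2_c26 LD3_c38))))
theorem f333840 : Led Lsl_gt (LP (LK LD1_c2 LD2_c42 LD3_c38)) = (LP (LK LD1_c4 LD2_c27 LD3_c35)) :=
  Lgr Lrot46 (Lpr_gf (K22.f333838 IH) (Lpr_ft (K16.f223539 IH) (Lpr_at (K15.f265417 IH) (Lpn (LP (LK LD1_c4 LD2_c27 LD3_c35))))))
theorem f41571 : Led Lsl_et (LP (LK LD1_c1 LD2_c2 LD3_c41)) = (LP (LK LD1_c2 LD2_c11 LD3_c23)) :=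
  Lre_e IH (LK LD1_c1 LD2_c2 LD3_c41) (LK LD1_c2 LD2_c11 LD3_c23) Lrfl Lrfl
theorem f325618 : Led Lsl_et (LP (LK LD1_c8 LD2_c34 LD3_c38)) = (LP (LK LD1_c4 LD2_c28 LD3_c42)) :=
  Lgr Lrot185 (Lpr_dt (K22.f310503 IH) (Lpe (K19.f307898 IH) (Lpr_df (K21.f325611 IH) (Lpe (K21.f182283 IH) (Lpe (K15.f41779 IH) (Lpr_dt (K15.f41776 IH) (Lpe (K15.f174936 IH) (Lpe (K14.f41570 IH) (Lpr_et (f41571 IH) (Lpe (K22.f41585 IH) (Lpn (LP (LK LD1_c4 LD2_c28 LD3_c42)))))))))))))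
theorem f329972 : Led Lsl_df (LP (LK LD1_c8 LD2_c34 LD3_c39)) = (LP (LK LD1_c8 LD2_c53 LD3_c24)) :=
  Lgr Lrot70 (Lpr_et (K21.f7968 IH) (Lpr_dt (K22.f310466 IH) (Lpr_et (f325618 IH) (Lpr_dt (K22.f44717 IH) (Lpr_et (K22.f329966 IH) (Lpn (LP (LK LD1_c8 LD2_c53 LD3_c24))))))))
theorem f343699 : Led Lsl_dt (LP (LK LD1_c5 LD2_c26 LD3_c38)) = (LP (LK LD1_c10 LD2_c44 LD3_c27)) :=
  Lre_d IH (LK LD1_c5 LD2_c26 LD3_c38) (LK LD1_c10 LD2_c44 LD3_c27) Lrfl Lrfl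
theorem f343721 : Led Lsl_gt (LP (LK LD1_c8 LD2_c34 LD3_c39)) = (LP (LK LD1_c10 LD2_c44 LD3_c27)) :=
  Lgr Lrot112 (Lpr_df (f329972 IH) (Lpe (K22.f329955 IH) (Lpe (K22.f44677 IH) (Lpe (K22.f44676 IH) (Lpr_dt (K22.f44675 IH) (Lpe (K22.f44664 IH) (Lpr_df (K15.f44643 IH) (Lpe (f333840 IH) (Lpr_ef (f343713 IH) (Lpr_dt (f343699 IH) (Lpn (LP (LK LD1_c10 LD2_c44 LD3_c27)))))))))))))
theorem f343704 : Led Lsl_dt (LP (LK LD1_c10 LD2_c44 LD3_c27)) = (LP (LK LD1_c5 LD2_c26 LD3_c38)) :=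
  Lre_d IH (LK LD1_c10 LD2_c44 LD3_c27) (LK LD1_c5 LD2_c26 LD3_c38) Lrfl Lrfl
theorem f283456 : Led Lsl_ct (LP (LK LD1_c6 LD2_c5 LD3_c1)) = (LP (LK LD1_c11 LD2_c53 LD3_c21)) :=
  Lre_c IH (LK LD1_c6 LD2_c5 LD3_c1) (LK LD1_c11 LD2_c53 LD3_c21) Lrfl Lrfl
theorem f334332 : Led Lsl_af (LP (LK LD1_c6 LD2_c5 LD3_c1)) = (LP (LK LD1_c11 LD2_c52 LD3_c23)) :=
  Lgr Lrot68 (Lpr_ct (f283456 IH) (Lpr_at (K22.f334321 IH) (Lpr_ct (K22.f309063 IH) (Lpn (LP (LK LD1_c11 LD2_c52 LD3_c23))))))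
theorem f343697 : Led Lsl_gf (LP (LK LD1_c6 LD2_c5 LD3_c1)) = (LP (LK LD1_c5 LD2_c26 LD3_c38)) :=
  Lgr Lrot76 (Lpr_af (f334332 IH) (Lpe (K21.f283357 IH) (Lpr_gt (f343695 IH) (Lpn (LP (LK LD1_c5 LD2_c26 LD3_c38))))))
theorem f295957 : Led Lsl_ft (LP (LK LD1_c15 LD2_c44 LD3_c34)) = (LP (LK LD1_c25 LD2_c40 LD3_c58)) :=
  Lre_f IH (LK LD1_c15 LD2_c44 LD3_c34) (LK LD1_c25 LD2_c40 LD3_c58) Lrfl Lrfl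
theorem f295958 : Led Lsl_at (LP (LK LD1_c25 LD2_c40 LD3_c58)) = (LP (LK LD1_c15 LD2_c45 LD3_c11)) :=
  Lre_a IH (LK LD1_c25 LD2_c40 LD3_c58) (LK LD1_c15 LD2_c45 LD3_c11) Lrfl Lrfl
theorem f295959 : Led Lsl_gf (LP (LK LD1_c15 LD2_c45 LD3_c11)) = (LP (LK LD1_c15 LD2_c43 LD3_c37)) :=
  Lgr Lrot76 (Lpe (f295958 IH) (Lpe (f295957 IH) (Lpr_gt (K20.f295955 IH) (Lpn (LP (LK LD1_c15 LD2_c43 LD3_c37))))))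
theorem f295966 : Led Lsl_dt (LP (LK LD1_c15 LD2_c45 LD3_c11)) = (LP (LK LD1_c8 LD2_c22 LD3_c13)) :=
  Lre_d IH (LK LD1_c15 LD2_c45 LD3_c11) (LK LD1_c8 LD2_c22 LD3_c13) Lrfl Lrfl
theorem f289033 : Led Lsl_ct (LP (LK LD1_c8 LD2_c22 LD3_c13)) = (LP (LK LD1_c4 LD2_c11 LD3_c11)) :=
  Lre_c IH (LK LD1_c8 LD2_c22 LD3_c13) (LK LD1_c4 LD2_c11 LD3_c11) Lrfl Lrfl
theorem f295968 : Led Lsl_gt (LP (LK LD1_c10 LD2_c38 LD3_c24)) = (LP (LK LD1_c8 LD2_c21 LD3_c23)) :=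
  Lgr Lrot94 (Lpe (K22.f295967 IH) (Lpr_gt (K19.f224205 IH) (Lpr_dt (K18.f255874 IH) (Lpr_gt (K17.f241959 IH) (Lpe (K20.f288683 IH) (Lpe (f289033 IH) (Lpe (f295966 IH) (Lpr_gf (f295959 IH) (Lpe (K20.f167197 IH) (Lpn (LP (LK LD1_c8 LD2_c21 LD3_c23))))))))))))
theorem f315908 : Led Lsl_gf (LP (LK LD1_c5 LD2_c23 LD3_c54)) = (LP (LK LD1_c8 LD2_c32 LD3_c56)) :=
  Lgr Lrot147 (Lpr_ct (K22.f295967 IH) (Lpr_gt (f295968 IH) (Lpr_ct (K20.f167105 IH) (Lpe (K20.f246742 IH) (Lpe (K21.f171931 IH) (Lpr_gf (K16.f256528 IH) (Lpe (K16.f256504 IH) (Lpr_gf (K20.f315898 IH) (Lpe (K15.f184280 IH) (Lpn (LP (LK LD1_c8 LD2_c32 LD3_c56))))))))))))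
theorem f343724 : Led Lsl_gf (LP (LK LD1_c8 LD2_c34 LD3_c38)) = (LP (LK LD1_c16 LD2_c4 LD3_c29)) :=
  Lgr Lrot145 (Lpe (K22.f310466 IH) (Lpr_et (K22.f329954 IH) (Lpr_gt (f343721 IH) (Lpr_dt (f343704 IH) (Lpe (f343697 IH) (Lpe (K20.f315920 IH) (Lpr_et (K22.f315922 IH) (Lpe (f315908 IH) (Lpr_ef (K19.f307766 IH) (Lpr_dt (K19.f278649 IH) (Lpn (LP (LK LD1_c16 LD2_c4 LD3_c29)))))))))))))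
theorem f310467 : Led Lsl_ct (LP (LK LD1_c8 LD2_c34 LD3_c38)) = (LP (LK LD1_c16 LD2_c5 LD3_c49)) :=
  Lre_c IH (LK LD1_c8 LD2_c34 LD3_c38) (LK LD1_c16 LD2_c5 LD3_c49) Lrfl Lrfl
theorem f179659 : Led Lsl_ft (LP (LK LD1_c16 LD2_c7 LD3_c25)) = (LP (LK LD1_c8 LD2_c36 LD3_c3)) :=
  Lre_f IH (LK LD1_c16 LD2_c7 LD3_c25) (LK LD1_c8 LD2_c36 LD3_c3) Lrfl Lrfl
theorem f219312 : Led Lsl_df (LP (LK LD1_c16 LD2_c7 LD3_c25)) = (LP (LK LD1_c15 LD2_c36 LD3_c27)) :=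
  Lgr Lrot78 (Lpr_ft (f179659 IH) (Lpr_dt (K16.f219305 IH) (Lpr_ft (K22.f219311 IH) (Lpn (LP (LK LD1_c15 LD2_c36 LD3_c27))))))
theorem f219316 : Led Lsl_dt (LP (LK LD1_c16 LD2_c7 LD3_c25)) = (LP (LK LD1_c15 LD2_c36 LD3_c27)) :=
  Lgr Lrot42 (Lpr_df (f219312 IH) (Lpn (LP (LK LD1_c15 LD2_c36 LD3_c27))))
theorem f329537 : Led Lsl_gt (LP (LK LD1_c19 LD2_c35 LD3_c45)) = (LP (LK LD1_c16 LD2_c7 LD3_c25)) :=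
  Lgr Lrot180 (Lpr_ct (K20.f321596 IH) (Lpr_gt (K20.f267015 IH) (Lpr_dt (K20.f182293 IH) (Lpr_gt (K20.f321091 IH) (Lpr_dt (K22.f270823 IH) (Lpr_ct (K16.f270815 IH) (Lpe (K20.f247080 IH) (Lpr_gf (K21.f329533 IH) (Lpe (f219316 IH) (Lpn (LP (LK LD1_c16 LD2_c7 LD3_c25))))))))))))
theorem f329539 : Led Lsl_cf (LP (LK LD1_c19 LD2_c35 LD3_c45)) = (LP (LK LD1_c16 LD2_c4 LD3_c24)) :=
  Lgr Lrot166 (Lpr_gt (f329537 IH) (Lpr_dt (f219316 IH) (Lpe (K21.f329533 IH) (Lpr_dt (K20.f247080 IH) (Lpr_ct (K16.f270740 IH) (Lpe (K22.f270823 IH) (Lpe (K20.f321091 IH) (Lpe (K20.f182293 IH) (Lpe (K20.f267015 IH) (Lpn (LP (LK LD1_c16 LD2_c4 LD3_c24))))))))))))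
theorem f321395 : Led Lsl_cf (LP (LK LD1_c25 LD2_c17 LD3_c21)) = (LP (LK LD1_c20 LD2_c56 LD3_c56)) :=
  Lgr Lrot11 (Lpr_ct (K20.f321392 IH) (Lpn (LP (LK LD1_c20 LD2_c56 LD3_c56))))
theorem f343811 : Led Lsl_gt (LP (LK LD1_c16 LD2_c5 LD3_c49)) = (LP (LK LD1_c20 LD2_c56 LD3_c56)) :=
  Lgr Lrot150 (Lpe (f310467 IH) (Lpr_gf (f343724 IH) (Lpe (K19.f278649 IH) (Lpr_gt (K19.f238718 IH) (Lpr_ct (K20.f238648 IH) (Lpr_gt (K20.f238650 IH) (Lpe (f329539 IH) (Lpr_df (K20.f260968 IH) (Lpr_cf (f321395 IH) (Lpn (LP (LK LD1_c20 LD2_c56 LD3_c56))))))))))))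
theorem f323736 : Led Lsl_ct (LP (LK LD1_c16 LD2_c5 LD3_c49)) = (LP (LK LD1_c8 LD2_c34 LD3_c38)) :=
  Lre_c IH (LK LD1_c16 LD2_c5 LD3_c49) (LK LD1_c8 LD2_c34 LD3_c38) Lrfl Lrfl
theorem f182297 : Led Lsl_ft (LP (LK LD1_c26 LD2_c33 LD3_c15)) = (LP (LK LD1_c16 LD2_c36 LD3_c18)) :=
  Lre_f IH (LK LD1_c26 LD2_c33 LD3_c15) (LK LD1_c16 LD2_c36 LD3_c18) Lrfl Lrfl
theorem f321438 : Led Lsl_at (LP (LK LD1_c16 LD2_c36 LD3_c18)) = (LP (LK LD1_c8 LD2_c54 LD3_c3)) :=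
  Lgr Lrot26 (Lpe (f182297 IH) (Lpr_gt (K22.f321436 IH) (Lpr_gt (K22.f247359 IH) (Lpn (LP (LK LD1_c8 LD2_c54 LD3_c3))))))
theorem f247395 : Led Lsl_ft (LP (LK LD1_c8 LD2_c54 LD3_c3)) = (LP (LK LD1_c16 LD2_c39 LD3_c6)) :=
  Lre_f IH (LK LD1_c8 LD2_c54 LD3_c3) (LK LD1_c16 LD2_c39 LD3_c6) Lrfl Lrfl
theorem f321586 : Led Lsl_af (LP (LK LD1_c26 LD2_c33 LD3_c15)) = (LP (LK LD1_c16 LD2_c39 LD3_c6)) :=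
  Lgr Lrot45 (Lpr_ft (f182297 IH) (Lpr_at (f321438 IH) (Lpr_ft (f247395 IH) (Lpn (LP (LK LD1_c16 LD2_c39 LD3_c6))))))
theorem f321589 : Led Lsl_gf (LP (LK LD1_c26 LD2_c33 LD3_c15)) = (LP (LK LD1_c16 LD2_c39 LD3_c3)) :=
  Lgr Lrot76 (Lpr_af (f321586 IH) (Lpe (f247395 IH) (Lpr_gt (K20.f292682 IH) (Lpn (LP (LK LD1_c16 LD2_c39 LD3_c3))))))
theorem f182291 : Led Lsl_dt (LP (LK LD1_c26 LD2_c33 LD3_c15)) = (LP (LK LD1_c16 LD2_c36 LD3_c19)) :=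
  Lre_d IH (LK LD1_c26 LD2_c33 LD3_c15) (LK LD1_c16 LD2_c36 LD3_c19) Lrfl Lrfl
theorem f343814 : Led Lsl_gt (LP (LK LD1_c8 LD2_c33 LD3_c27)) = (LP (LK LD1_c8 LD2_c20 LD3_c34)) :=
  Lgr Lrot49 (Lpe (K21.f325369 IH) (Lpr_gf (K22.f329957 IH) (Lpe (f323736 IH) (Lpr_gt (f343811 IH) (Lpe (K20.f292684 IH) (Lpe (f321589 IH) (Lpr_dt (f182291 IH) (Lpe (K20.f182301 IH) (Lpr_df (K17.f182294 IH) (Lpn (LP (LK LD1_c8 LD2_c20 LD3_c34))))))))))))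
theorem f44718 : Led Lsl_et (LP (LK LD1_c10 LD2_c36 LD3_c60)) = (LP (LK LD1_c5 LD2_c23 LD3_c12)) :=
  Lre_e IH (LK LD1_c10 LD2_c36 LD3_c60) (LK LD1_c5 LD2_c23 LD3_c12) Lrfl Lrfl
theorem f284192 : Led Lsl_ef (LP (LK LD1_c4 LD2_c27 LD3_c58)) = (LP (LK LD1_c8 LD2_c52 LD3_c57)) :=
  Lgr Lrot88 (Lpr_et (K17.f284170 IH) (Lpn (LP (LK LD1_c8 LD2_c52 LD3_c57))))
theorem f343820 : Led Lsl_gf (LP (LK LD1_c5 LD2_c23 LD3_c12)) = (LP (LK LD1_c4 LD2_c27 LD3_c58)) :=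
  Lgr Lrot141 (Lpe (f44718 IH) (Lpr_dt (K22.f42548 IH) (Lpr_gt (K22.f44677 IH) (Lpe (K22.f44717 IH) (Lpr_et (K22.f329950 IH) (Lpe (K22.f329957 IH) (Lpr_dt (K21.f325369 IH) (Lpr_gt (f343814 IH) (Lpe (K15.f182277 IH) (Lpe (f284192 IH) (Lpn (LP (LK LD1_c4 LD2_c27 LD3_c58)))))))))))))
theorem f42541 : Led Lsl_dt (LP (LK LD1_c5 LD2_c23 LD3_c12)) = (LP (LK LD1_c2 LD2_c38 LD3_c3)) :=
  Lre_d IH (LK LD1_c5 LD2_c23 LD3_c12) (LK LD1_c2 LD2_c38 LD3_c3) Lrfl Lrfl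
theorem f330469 : Led Lsl_ct (LP (LK LD1_c2 LD2_c38 LD3_c3)) = (LP (LK LD1_c5 LD2_c23 LD3_c11)) :=
  Lre_c IH (LK LD1_c2 LD2_c38 LD3_c3) (LK LD1_c5 LD2_c23 LD3_c11) Lrfl Lrfl
theorem f343822 : Led Lsl_dt (LP (LK LD1_c10 LD2_c36 LD3_c58)) = (LP (LK LD1_c5 LD2_c23 LD3_c11)) :=
  Lre_d IH (LK LD1_c10 LD2_c36 LD3_c58) (LK LD1_c5 LD2_c23 LD3_c11) Lrfl Lrfl
theorem f343823 : Led Lsl_gt (LP (LK LD1_c19 LD2_c13 LD3_c49)) = (LP (LK LD1_c10 LD2_c36 LD3_c58)) :=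
  Lre_g IH (LK LD1_c19 LD2_c13 LD3_c49) (LK LD1_c10 LD2_c36 LD3_c58) Lrfl Lrfl
theorem f284555 : Led Lsl_ct (LP (LK LD1_c10 LD2_c34 LD3_c12)) = (LP (LK LD1_c5 LD2_c21 LD3_c57)) :=
  Lre_c IH (LK LD1_c10 LD2_c34 LD3_c12) (LK LD1_c5 LD2_c21 LD3_c57) Lrfl Lrfl
theorem f317767 : Led Lsl_bf (LP (LK LD1_c15 LD2_c22 LD3_c19)) = (LP (LK LD1_c11 LD2_c5 LD3_c3)) :=
  Lgr Lrot34 (Lpe (K22.f297747 IH) (Lpr_bf (K22.f297741 IH) (Lpr_ct (K17.f286417 IH) (Lpe (K17.f231699 IH) (Lpe (K20.f169510 IH) (Lpe (K20.f317765 IH) (Lpe (K20.f303368 IH) (Lpr_ct (K20.f303358 IH) (Lpe (K20.f303351 IH) (Lpr_cf (K20.f317757 IH) (Lpn (LP (LK LD1_c11 LD2_c5 LD3_c3)))))))))))))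
theorem f317769 : Led Lsl_bt (LP (LK LD1_c15 LD2_c22 LD3_c19)) = (LP (LK LD1_c11 LD2_c5 LD3_c3)) :=
  Lgr Lrot127 (Lpr_bf (f317767 IH) (Lpn (LP (LK LD1_c11 LD2_c5 LD3_c3))))
theorem f254198 : Led Lsl_gt (LP (LK LD1_c11 LD2_c5 LD3_c3)) = (LP (LK LD1_c5 LD2_c36 LD3_c29)) :=
  Lre_g IH (LK LD1_c11 LD2_c5 LD3_c3) (LK LD1_c5 LD2_c36 LD3_c29) Lrfl Lrfl
theorem f278246 : Led Lsl_bt (LP (LK LD1_c8 LD2_c11 LD3_c22)) = (LP (LK LD1_c5 LD2_c36 LD3_c29)) :=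
  Lgr Lrot95 (Lpr_df (f278242 IH) (Lpr_bf (K14.f249007 IH) (Lpr_df (K14.f253614 IH) (Lpn (LP (LK LD1_c5 LD2_c36 LD3_c29))))))
theorem f254234 : Led Lsl_et (LP (LK LD1_c4 LD2_c12 LD3_c61)) = (LP (LK LD1_c4 LD2_c18 LD3_c41)) :=
  Lgr Lrot122 (Lpr_dt (K14.f253930 IH) (Lpe (K14.f253905 IH) (Lpe (K10.f41908 IH) (Lpr_et (K10.f167801 IH) (Lpe (K14.f253940 IH) (Lpr_dt (K10.f189559 IH) (Lpr_gt (K14.f254228 IH) (Lpe (K15.f47936 IH) (Lpr_et (f251675 IH) (Lpr_gt (K12.f229932 IH) (Lpn (LP (LK LD1_c4 LD2_c18 LD3_c41)))))))))))))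
theorem f278250 : Led Lsl_et (LP (LK LD1_c8 LD2_c11 LD3_c22)) = (LP (LK LD1_c4 LD2_c30 LD3_c52)) :=
  Lgr Lrot71 (Lpr_df (f278242 IH) (Lpe (K19.f229926 IH) (Lpr_df (K12.f229921 IH) (Lpe (f254234 IH) (Lpr_df (K15.f250412 IH) (Lpn (LP (LK LD1_c4 LD2_c30 LD3_c52))))))))
theorem f278265 : Led Lsl_ef (LP (LK LD1_c8 LD2_c11 LD3_c22)) = (LP (LK LD1_c4 LD2_c30 LD3_c52)) :=
  Lgr Lrot88 (Lpr_et (f278250 IH) (Lpn (LP (LK LD1_c4 LD2_c30 LD3_c52))))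
theorem f224718 : Led Lsl_et (LP (LK LD1_c10 LD2_c35 LD3_c2)) = (LP (LK LD1_c5 LD2_c22 LD3_c18)) :=
  Lre_e IH (LK LD1_c10 LD2_c35 LD3_c2) (LK LD1_c5 LD2_c22 LD3_c18) Lrfl Lrfl
theorem f278267 : Led Lsl_ct (LP (LK LD1_c8 LD2_c11 LD3_c22)) = (LP (LK LD1_c10 LD2_c35 LD3_c2)) :=
  Lgr Lrot15 (Lpr_ef (f278265 IH) (Lpe (K14.f253915 IH) (Lpe (f224718 IH) (Lpn (LP (LK LD1_c10 LD2_c35 LD3_c2))))))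
theorem f55135 : Led Lsl_ff (LP (LK LD1_c8 LD2_c11 LD3_c50)) = (LP (LK LD1_c4 LD2_c55 LD3_c50)) :=
  Lgr Lrot3 (Lpr_ft (K1.f55126 IH) (Lpn (LP (LK LD1_c4 LD2_c55 LD3_c50))))
theorem f55146 : Led Lsl_et (LP (LK LD1_c8 LD2_c11 LD3_c50)) = (LP (LK LD1_c4 LD2_c5 LD3_c26)) :=
  Lre_e IH (LK LD1_c8 LD2_c11 LD3_c50) (LK LD1_c4 LD2_c5 LD3_c26) Lrfl Lrfl
theorem f47217 : Led Lsl_ft (LP (LK LD1_c4 LD2_c5 LD3_c26)) = (LP (LK LD1_c1 LD2_c59 LD3_c53)) :=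
  Lre_f IH (LK LD1_c4 LD2_c5 LD3_c26) (LK LD1_c1 LD2_c59 LD3_c53) Lrfl Lrfl
theorem f55147 : Led Lsl_et (LP (LK LD1_c2 LD2_c25 LD3_c42)) = (LP (LK LD1_c4 LD2_c55 LD3_c50)) :=
  Lre_e IH (LK LD1_c2 LD2_c25 LD3_c42) (LK LD1_c4 LD2_c55 LD3_c50) Lrfl Lrfl
theorem f55148 : Led Lsl_ft (LP (LK LD1_c1 LD2_c10 LD3_c1)) = (LP (LK LD1_c2 LD2_c25 LD3_c42)) :=
  Lre_f IH (LK LD1_c1 LD2_c10 LD3_c1) (LK LD1_c2 LD2_c25 LD3_c42) Lrfl Lrfl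
theorem f55149 : Led Lsl_et (LP (LK LD1_c1 LD2_c59 LD3_c53)) = (LP (LK LD1_c1 LD2_c10 LD3_c1)) :=
  Lgr Lrot69 (Lpe (f47217 IH) (Lpe (f55146 IH) (Lpr_ff (f55135 IH) (Lpe (f55147 IH) (Lpe (f55148 IH) (Lpn (LP (LK LD1_c1 LD2_c10 LD3_c1))))))))
theorem f188076 : Led Lsl_et (LP (LK LD1_c8 LD2_c15 LD3_c39)) = (LP (LK LD1_c15 LD2_c32 LD3_c1)) :=
  Lre_e IH (LK LD1_c8 LD2_c15 LD3_c39) (LK LD1_c15 LD2_c32 LD3_c1) Lrfl Lrfl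
theorem f253932 : Led Lsl_et (LP (LK LD1_c5 LD2_c22 LD3_c18)) = (LP (LK LD1_c10 LD2_c35 LD3_c2)) :=
  Lre_e IH (LK LD1_c5 LD2_c22 LD3_c18) (LK LD1_c10 LD2_c35 LD3_c2) Lrfl Lrfl
theorem f253933 : Led Lsl_gf (LP (LK LD1_c15 LD2_c32 LD3_c1)) = (LP (LK LD1_c10 LD2_c35 LD3_c2)) :=
  Lgr Lrot141 (Lpe (f188076 IH) (Lpr_dt (K15.f188074 IH) (Lpr_gt (K14.f46200 IH) (Lpe (K1.f46178 IH) (Lpr_et (f55149 IH) (Lpr_gt (K20.f55169 IH) (Lpr_dt (K20.f55172 IH) (Lpr_gt (K14.f55173 IH) (Lpr_df (K14.f253926 IH) (Lpr_et (f253932 IH) (Lpn (LP (LK LD1_c10 LD2_c35 LD3_c2)))))))))))))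
theorem f333602 : Led Lsl_gf (LP (LK LD1_c10 LD2_c36 LD3_c3)) = (LP (LK LD1_c18 LD2_c59 LD3_c30)) :=
  Lgr Lrot129 (Lpr_cf (K22.f333452 IH) (Lpr_bt (f317769 IH) (Lpr_gt (f254198 IH) (Lpe (f278246 IH) (Lpr_ct (f278267 IH) (Lpe (f253933 IH) (Lpe (K21.f230866 IH) (Lpe (K21.f230864 IH) (Lpe (K20.f278536 IH) (Lpr_ct (K15.f258213 IH) (Lpn (LP (LK LD1_c18 LD2_c59 LD3_c30)))))))))))))
theorem f278540 : Led Lsl_dt (LP (LK LD1_c10 LD2_c36 LD3_c3)) = (LP (LK LD1_c19 LD2_c11 LD3_c52)) :=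
  Lre_d IH (LK LD1_c10 LD2_c36 LD3_c3) (LK LD1_c19 LD2_c11 LD3_c52) Lrfl Lrfl
theorem f288985 : Led Lsl_ef (LP (LK LD1_c10 LD2_c28 LD3_c43)) = (LP (LK LD1_c5 LD2_c22 LD3_c50)) :=
  Lgr Lrot73 (Lpr_dt (K21.f230600 IH) (Lpe (K20.f248434 IH) (Lpr_dt (K14.f248338 IH) (Lpe (K20.f288905 IH) (Lpr_dt (K17.f288913 IH) (Lpn (LP (LK LD1_c5 LD2_c22 LD3_c50))))))))
theorem f284156 : Led Lsl_dt (LP (LK LD1_c5 LD2_c21 LD3_c53)) = (LP (LK LD1_c4 LD2_c10 LD3_c49)) :=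
  Lgr Lrot60 (Lpe (K14.f253365 IH) (Lpr_df (K18.f276736 IH) (Lpr_ff (K17.f284146 IH) (Lpn (LP (LK LD1_c4 LD2_c10 LD3_c49))))))
theorem f302847 : Led Lsl_gf (LP (LK LD1_c10 LD2_c1 LD3_c43)) = (LP (LK LD1_c10 LD2_c16 LD3_c31)) :=
  Lgr Lrot134 (Lpr_df (K20.f256495 IH) (Lpr_et (K20.f199020 IH) (Lpe (K20.f284553 IH) (Lpr_ef (K14.f253355 IH) (Lpr_dt (f284156 IH) (Lpe (K20.f284160 IH) (Lpr_df (K18.f288903 IH) (Lpe (f288985 IH) (Lpr_gt (K20.f302841 IH) (Lpr_dt (K18.f265353 IH) (Lpn (LP (LK LD1_c10 LD2_c16 LD3_c31)))))))))))))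
theorem f256497 : Led Lsl_ct (LP (LK LD1_c19 LD2_c8 LD3_c45)) = (LP (LK LD1_c10 LD2_c34 LD3_c13)) :=
  Lre_c IH (LK LD1_c19 LD2_c8 LD3_c45) (LK LD1_c10 LD2_c34 LD3_c13) Lrfl Lrfl
theorem f256498 : Led Lsl_dt (LP (LK LD1_c28 LD2_c34 LD3_c26)) = (LP (LK LD1_c19 LD2_c8 LD3_c45)) :=
  Lre_d IH (LK LD1_c28 LD2_c34 LD3_c26) (LK LD1_c19 LD2_c8 LD3_c45) Lrfl Lrfl
theorem f333604 : Led Lsl_gt (LP (LK LD1_c19 LD2_c11 LD3_c52)) = (LP (LK LD1_c28 LD2_c34 LD3_c26)) :=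
  Lgr Lrot49 (Lpe (f278540 IH) (Lpr_gf (f333602 IH) (Lpe (K15.f258213 IH) (Lpr_gt (K20.f302841 IH) (Lpr_dt (K18.f265353 IH) (Lpe (f302847 IH) (Lpr_dt (K20.f256499 IH) (Lpe (f256497 IH) (Lpe (f256498 IH) (Lpn (LP (LK LD1_c28 LD2_c34 LD3_c26))))))))))))
theorem f256503 : Led Lsl_dt (LP (LK LD1_c19 LD2_c8 LD3_c45)) = (LP (LK LD1_c28 LD2_c34 LD3_c26)) :=
  Lre_d IH (LK LD1_c19 LD2_c8 LD3_c45) (LK LD1_c28 LD2_c34 LD3_c26) Lrfl Lrfl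
theorem f333608 : Led Lsl_et (LP (LK LD1_c19 LD2_c8 LD3_c45)) = (LP (LK LD1_c10 LD2_c34 LD3_c12)) :=
  Lre_e IH (LK LD1_c19 LD2_c8 LD3_c45) (LK LD1_c10 LD2_c34 LD3_c12) Lrfl Lrfl
theorem f336746 : Led Lsl_gt (LP (LK LD1_c10 LD2_c34 LD3_c12)) = (LP (LK LD1_c19 LD2_c3 LD3_c0)) :=
  Lgr Lrot131 (Lpe (f333608 IH) (Lpr_dt (f256503 IH) (Lpe (f333604 IH) (Lpe (f278540 IH) (Lpr_gf (f333602 IH) (Lpr_ef (K16.f276855 IH) (Lpr_dt (K16.f276837 IH) (Lpe (K21.f328942 IH) (Lpe (K21.f224379 IH) (Lpr_et (K22.f336742 IH) (Lpn (LP (LK LD1_c19 LD2_c3 LD3_c0)))))))))))))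
theorem f343824 : Led Lsl_df (LP (LK LD1_c19 LD2_c13 LD3_c49)) = (LP (LK LD1_c19 LD2_c3 LD3_c0)) :=
  Lgr Lrot153 (Lpr_gt (f343823 IH) (Lpr_dt (f343822 IH) (Lpe (f330469 IH) (Lpe (f42541 IH) (Lpr_gf (f343820 IH) (Lpe (K14.f231353 IH) (Lpr_gf (K20.f284553 IH) (Lpe (f284555 IH) (Lpr_gt (f336746 IH) (Lpn (LP (LK LD1_c19 LD2_c3 LD3_c0))))))))))))
theorem f343830 : Led Lsl_ct (LP (LK LD1_c19 LD2_c13 LD3_c49)) = (LP (LK LD1_c28 LD2_c40 LD3_c7)) :=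
  Lre_c IH (LK LD1_c19 LD2_c13 LD3_c49) (LK LD1_c28 LD2_c40 LD3_c7) Lrfl Lrfl
theorem f336861 : Led Lsl_af (LP (LK LD1_c4 LD2_c54 LD3_c45)) = (LP (LK LD1_c8 LD2_c39 LD3_c52)) :=
  Lgr Lrot0 (Lpr_at (K22.f336858 IH) (Lpn (LP (LK LD1_c8 LD2_c39 LD3_c52))))
theorem f213942 : Led Lsl_ct (LP (LK LD1_c9 LD2_c41 LD3_c2)) = (LP (LK LD1_c4 LD2_c54 LD3_c45)) :=
  Lre_c IH (LK LD1_c9 LD2_c41 LD3_c2) (LK LD1_c4 LD2_c54 LD3_c45) Lrfl Lrfl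
theorem f213943 : Led Lsl_dt (LP (LK LD1_c17 LD2_c48 LD3_c52)) = (LP (LK LD1_c9 LD2_c41 LD3_c2)) :=
  Lre_d IH (LK LD1_c17 LD2_c48 LD3_c52) (LK LD1_c9 LD2_c41 LD3_c2) Lrfl Lrfl
theorem f213981 : Led Lsl_ct (LP (LK LD1_c27 LD2_c35 LD3_c58)) = (LP (LK LD1_c17 LD2_c48 LD3_c52)) :=
  Lre_c IH (LK LD1_c27 LD2_c35 LD3_c58) (LK LD1_c17 LD2_c48 LD3_c52) Lrfl Lrfl
theorem f343838 : Led Lsl_dt (LP (LK LD1_c28 LD2_c40 LD3_c7)) = (LP (LK LD1_c27 LD2_c35 LD3_c58)) :=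
  Lgr Lrot140 (Lpe (f343830 IH) (Lpr_df (f343824 IH) (Lpr_cf (K22.f187689 IH) (Lpr_df (K22.f191741 IH) (Lpr_ft (K10.f187207 IH) (Lpe (f336861 IH) (Lpe (f213942 IH) (Lpe (f213943 IH) (Lpe (f213981 IH) (Lpn (LP (LK LD1_c27 LD2_c35 LD3_c58))))))))))))
theorem f213935 : Led Lsl_df (LP (LK LD1_c9 LD2_c33 LD3_c19)) = (LP (LK LD1_c4 LD2_c54 LD3_c45)) :=
  Lgr Lrot38 (Lpr_dt (K13.f213923 IH) (Lpn (LP (LK LD1_c4 LD2_c54 LD3_c45))))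
theorem f215937 : Led Lsl_cf (LP (LK LD1_c5 LD2_c22 LD3_c3)) = (LP (LK LD1_c9 LD2_c33 LD3_c19)) :=
  Lgr Lrot11 (Lpr_ct (K22.f214090 IH) (Lpn (LP (LK LD1_c9 LD2_c33 LD3_c19))))
theorem f215443 : Led Lsl_dt (LP (LK LD1_c5 LD2_c22 LD3_c3)) = (LP (LK LD1_c10 LD2_c34 LD3_c30)) :=
  Lre_d IH (LK LD1_c5 LD2_c22 LD3_c3) (LK LD1_c10 LD2_c34 LD3_c30) Lrfl Lrfl
theorem f336843 : Led Lsl_af (LP (LK LD1_c19 LD2_c9 LD3_c28)) = (LP (LK LD1_c28 LD2_c29 LD3_c22)) :=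
  Lgr Lrot0 (Lpr_at (K22.f336841 IH) (Lpn (LP (LK LD1_c28 LD2_c29 LD3_c22))))
theorem f343853 : Led Lsl_ft (LP (LK LD1_c28 LD2_c40 LD3_c7)) = (LP (LK LD1_c28 LD2_c29 LD3_c22)) :=
  Lgr Lrot142 (Lpr_dt (f343838 IH) (Lpr_ct (f213981 IH) (Lpr_dt (f213943 IH) (Lpr_ct (f213942 IH) (Lpe (f213935 IH) (Lpe (f215937 IH) (Lpr_dt (f215443 IH) (Lpr_ct (K22.f216081 IH) (Lpr_af (f336843 IH) (Lpn (LP (LK LD1_c28 LD2_c29 LD3_c22))))))))))))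
theorem f343860 : Led Lsl_ff (LP (LK LD1_c28 LD2_c40 LD3_c7)) = (LP (LK LD1_c28 LD2_c29 LD3_c22)) :=
  Lgr Lrot3 (Lpr_ft (f343853 IH) (Lpn (LP (LK LD1_c28 LD2_c29 LD3_c22))))
theorem f343862 : Led Lsl_at (LP (LK LD1_c28 LD2_c40 LD3_c7)) = (LP (LK LD1_c28 LD2_c35 LD3_c19)) :=
  Lgr Lrot66 (Lpr_ff (f343860 IH) (Lpe (K22.f336841 IH) (Lpe (K22.f336848 IH) (Lpn (LP (LK LD1_c28 LD2_c35 LD3_c19))))))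
theorem f343850 : Led Lsl_df (LP (LK LD1_c28 LD2_c40 LD3_c7)) = (LP (LK LD1_c27 LD2_c35 LD3_c58)) :=
  Lgr Lrot38 (Lpr_dt (f343838 IH) (Lpn (LP (LK LD1_c27 LD2_c35 LD3_c58))))
theorem f343868 : Led Lsl_af (LP (LK LD1_c27 LD2_c35 LD3_c58)) = (LP (LK LD1_c32 LD2_c5 LD3_c25)) :=
  Lgr Lrot117 (Lpe (f343850 IH) (Lpr_at (f343862 IH) (Lpr_dt (K22.f336849 IH) (Lpn (LP (LK LD1_c32 LD2_c5 LD3_c25))))))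
theorem f223258 : Led Lsl_et (LP (LK LD1_c4 LD2_c54 LD3_c44)) = (LP (LK LD1_c9 LD2_c41 LD3_c2)) :=
  Lre_e IH (LK LD1_c4 LD2_c54 LD3_c44) (LK LD1_c9 LD2_c41 LD3_c2) Lrfl Lrfl
theorem f213933 : Led Lsl_dt (LP (LK LD1_c9 LD2_c41 LD3_c2)) = (LP (LK LD1_c17 LD2_c48 LD3_c52)) :=
  Lre_d IH (LK LD1_c9 LD2_c41 LD3_c2) (LK LD1_c17 LD2_c48 LD3_c52) Lrfl Lrfl
theorem f195086 : Led Lsl_et (LP (LK LD1_c16 LD2_c37 LD3_c0)) = (LP (LK LD1_c8 LD2_c53 LD3_c12)) :=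
  Lre_e IH (LK LD1_c16 LD2_c37 LD3_c0) (LK LD1_c8 LD2_c53 LD3_c12) Lrfl Lrfl
theorem f223259 : Led Lsl_dt (LP (LK LD1_c26 LD2_c34 LD3_c8)) = (LP (LK LD1_c16 LD2_c37 LD3_c0)) :=
  Lre_d IH (LK LD1_c26 LD2_c34 LD3_c8) (LK LD1_c16 LD2_c37 LD3_c0) Lrfl Lrfl
theorem f223260 : Led Lsl_et (LP (LK LD1_c17 LD2_c48 LD3_c52)) = (LP (LK LD1_c26 LD2_c34 LD3_c8)) :=
  Lgr Lrot71 (Lpe (f213933 IH) (Lpe (f223258 IH) (Lpr_df (K12.f223215 IH) (Lpe (f195086 IH) (Lpe (f223259 IH) (Lpn (LP (LK LD1_c26 LD2_c34 LD3_c8))))))))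
theorem f223272 : Led Lsl_ef (LP (LK LD1_c17 LD2_c48 LD3_c52)) = (LP (LK LD1_c26 LD2_c34 LD3_c8)) :=
  Lgr Lrot88 (Lpr_et (f223260 IH) (Lpn (LP (LK LD1_c26 LD2_c34 LD3_c8))))
theorem f213934 : Led Lsl_ct (LP (LK LD1_c17 LD2_c48 LD3_c52)) = (LP (LK LD1_c27 LD2_c35 LD3_c58)) :=
  Lre_c IH (LK LD1_c17 LD2_c48 LD3_c52) (LK LD1_c27 LD2_c35 LD3_c58) Lrfl Lrfl
theorem f223277 : Led Lsl_ct (LP (LK LD1_c32 LD2_c10 LD3_c54)) = (LP (LK LD1_c26 LD2_c34 LD3_c8)) :=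
  Lre_c IH (LK LD1_c32 LD2_c10 LD3_c54) (LK LD1_c26 LD2_c34 LD3_c8) Lrfl Lrfl
theorem f223278 : Led Lsl_et (LP (LK LD1_c27 LD2_c35 LD3_c58)) = (LP (LK LD1_c32 LD2_c10 LD3_c54)) :=
  Lgr Lrot158 (Lpe (f213934 IH) (Lpr_ef (f223272 IH) (Lpe (f223277 IH) (Lpn (LP (LK LD1_c32 LD2_c10 LD3_c54))))))
theorem f191846 : Led Lsl_et (LP (LK LD1_c8 LD2_c39 LD3_c51)) = (LP (LK LD1_c16 LD2_c13 LD3_c37)) :=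
  Lre_e IH (LK LD1_c8 LD2_c39 LD3_c51) (LK LD1_c16 LD2_c13 LD3_c37) Lrfl Lrfl
theorem f191847 : Led Lsl_dt (LP (LK LD1_c16 LD2_c13 LD3_c37)) = (LP (LK LD1_c26 LD2_c10 LD3_c31)) :=
  Lre_d IH (LK LD1_c16 LD2_c13 LD3_c37) (LK LD1_c26 LD2_c10 LD3_c31) Lrfl Lrfl
theorem f191848 : Led Lsl_et (LP (LK LD1_c8 LD2_c55 LD3_c24)) = (LP (LK LD1_c4 LD2_c28 LD3_c35)) :=
  Lre_e IH (LK LD1_c8 LD2_c55 LD3_c24) (LK LD1_c4 LD2_c28 LD3_c35) Lrfl Lrfl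
theorem f191849 : Led Lsl_dt (LP (LK LD1_c16 LD2_c42 LD3_c3)) = (LP (LK LD1_c8 LD2_c55 LD3_c24)) :=
  Lre_d IH (LK LD1_c16 LD2_c42 LD3_c3) (LK LD1_c8 LD2_c55 LD3_c24) Lrfl Lrfl
theorem f191850 : Led Lsl_et (LP (LK LD1_c26 LD2_c10 LD3_c31)) = (LP (LK LD1_c16 LD2_c42 LD3_c3)) :=
  Lgr Lrot71 (Lpe (f191847 IH) (Lpe (f191846 IH) (Lpr_df (K14.f191831 IH) (Lpe (f191848 IH) (Lpe (f191849 IH) (Lpn (LP (LK LD1_c16 LD2_c42 LD3_c3))))))))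
theorem f191867 : Led Lsl_ct (LP (LK LD1_c16 LD2_c42 LD3_c3)) = (LP (LK LD1_c26 LD2_c40 LD3_c49)) :=
  Lre_c IH (LK LD1_c16 LD2_c42 LD3_c3) (LK LD1_c26 LD2_c40 LD3_c49) Lrfl Lrfl
theorem f191868 : Led Lsl_ef (LP (LK LD1_c32 LD2_c5 LD3_c25)) = (LP (LK LD1_c26 LD2_c40 LD3_c49)) :=
  Lgr Lrot28 (Lpr_ct (K22.f191750 IH) (Lpr_et (f191850 IH) (Lpr_ct (f191867 IH) (Lpn (LP (LK LD1_c26 LD2_c40 LD3_c49))))))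
theorem f343887 : Led Lsl_at (LP (LK LD1_c32 LD2_c10 LD3_c54)) = (LP (LK LD1_c26 LD2_c40 LD3_c49)) :=
  Lgr Lrot80 (Lpe (f223278 IH) (Lpr_af (f343868 IH) (Lpr_ef (f191868 IH) (Lpn (LP (LK LD1_c26 LD2_c40 LD3_c49))))))
theorem f223269 : Led Lsl_ct (LP (LK LD1_c26 LD2_c34 LD3_c8)) = (LP (LK LD1_c32 LD2_c10 LD3_c54)) :=
  Lre_c IH (LK LD1_c26 LD2_c34 LD3_c8) (LK LD1_c32 LD2_c10 LD3_c54) Lrfl Lrfl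
theorem f191876 : Led Lsl_ct (LP (LK LD1_c26 LD2_c40 LD3_c49)) = (LP (LK LD1_c16 LD2_c42 LD3_c3)) :=
  Lre_c IH (LK LD1_c26 LD2_c40 LD3_c49) (LK LD1_c16 LD2_c42 LD3_c3) Lrfl Lrfl
theorem f343894 : Led Lsl_af (LP (LK LD1_c26 LD2_c34 LD3_c8)) = (LP (LK LD1_c16 LD2_c42 LD3_c3)) :=
  Lgr Lrot68 (Lpr_ct (f223269 IH) (Lpr_at (f343887 IH) (Lpr_ct (f191876 IH) (Lpn (LP (LK LD1_c16 LD2_c42 LD3_c3))))))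
theorem f223274 : Led Lsl_ft (LP (LK LD1_c26 LD2_c34 LD3_c8)) = (LP (LK LD1_c32 LD2_c10 LD3_c55)) :=
  Lre_f IH (LK LD1_c26 LD2_c34 LD3_c8) (LK LD1_c32 LD2_c10 LD3_c55) Lrfl Lrfl
theorem f191881 : Led Lsl_ft (LP (LK LD1_c26 LD2_c40 LD3_c50)) = (LP (LK LD1_c16 LD2_c42 LD3_c3)) :=
  Lre_f IH (LK LD1_c26 LD2_c40 LD3_c50) (LK LD1_c16 LD2_c42 LD3_c3) Lrfl Lrfl
theorem f343900 : Led Lsl_at (LP (LK LD1_c32 LD2_c10 LD3_c55)) = (LP (LK LD1_c26 LD2_c40 LD3_c50)) :=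
  Lgr Lrot66 (Lpe (f223274 IH) (Lpr_af (f343894 IH) (Lpe (f191881 IH) (Lpn (LP (LK LD1_c26 LD2_c40 LD3_c50))))))
theorem f343908 : Led Lsl_dt (LP (LK LD1_c26 LD2_c34 LD3_c9)) = (LP (LK LD1_c32 LD2_c10 LD3_c55)) :=
  Lre_d IH (LK LD1_c26 LD2_c34 LD3_c9) (LK LD1_c32 LD2_c10 LD3_c55) Lrfl Lrfl
theorem f343904 : Led Lsl_dt (LP (LK LD1_c26 LD2_c40 LD3_c50)) = (LP (LK LD1_c16 LD2_c42 LD3_c4)) :=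
  Lre_d IH (LK LD1_c26 LD2_c40 LD3_c50) (LK LD1_c16 LD2_c42 LD3_c4) Lrfl Lrfl
theorem f343909 : Led Lsl_af (LP (LK LD1_c26 LD2_c34 LD3_c9)) = (LP (LK LD1_c16 LD2_c42 LD3_c4)) :=
  Lgr Lrot117 (Lpr_dt (f343908 IH) (Lpr_at (f343900 IH) (Lpr_dt (f343904 IH) (Lpn (LP (LK LD1_c16 LD2_c42 LD3_c4))))))
theorem f343913 : Led Lsl_at (LP (LK LD1_c26 LD2_c34 LD3_c9)) = (LP (LK LD1_c16 LD2_c42 LD3_c4)) :=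
  Lgr Lrot100 (Lpr_af (f343909 IH) (Lpn (LP (LK LD1_c16 LD2_c42 LD3_c4))))
theorem f278879 : Led Lsl_ft (LP (LK LD1_c16 LD2_c37 LD3_c0)) = (LP (LK LD1_c26 LD2_c34 LD3_c9)) :=
  Lre_f IH (LK LD1_c16 LD2_c37 LD3_c0) (LK LD1_c26 LD2_c34 LD3_c9) Lrfl Lrfl
theorem f219679 : Led Lsl_ft (LP (LK LD1_c16 LD2_c42 LD3_c4)) = (LP (LK LD1_c8 LD2_c55 LD3_c24)) :=
  Lre_f IH (LK LD1_c16 LD2_c42 LD3_c4) (LK LD1_c8 LD2_c55 LD3_c24) Lrfl Lrfl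
theorem f343918 : Led Lsl_af (LP (LK LD1_c16 LD2_c37 LD3_c0)) = (LP (LK LD1_c8 LD2_c55 LD3_c24)) :=
  Lgr Lrot45 (Lpr_ft (f278879 IH) (Lpr_at (f343913 IH) (Lpr_ft (f219679 IH) (Lpn (LP (LK LD1_c8 LD2_c55 LD3_c24))))))
theorem f191860 : Led Lsl_et (LP (LK LD1_c4 LD2_c28 LD3_c35)) = (LP (LK LD1_c8 LD2_c55 LD3_c24)) :=
  Lre_e IH (LK LD1_c4 LD2_c28 LD3_c35) (LK LD1_c8 LD2_c55 LD3_c24) Lrfl Lrfl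
theorem f343925 : Led Lsl_at (LP (LK LD1_c8 LD2_c53 LD3_c12)) = (LP (LK LD1_c4 LD2_c28 LD3_c35)) :=
  Lgr Lrot80 (Lpe (f195086 IH) (Lpr_af (f343918 IH) (Lpe (f191860 IH) (Lpn (LP (LK LD1_c4 LD2_c28 LD3_c35))))))
theorem f336895 : Led Lsl_ff (LP (LK LD1_c8 LD2_c53 LD3_c12)) = (LP (LK LD1_c4 LD2_c28 LD3_c36)) :=
  Lgr Lrot19 (Lpe (K12.f223215 IH) (Lpr_ft (K22.f336891 IH) (Lpe (K20.f316560 IH) (Lpn (LP (LK LD1_c4 LD2_c28 LD3_c36))))))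
theorem f187453 : Led Lsl_gt (LP (LK LD1_c8 LD2_c40 LD3_c10)) = (LP (LK LD1_c4 LD2_c28 LD3_c36)) :=
  Lre_g IH (LK LD1_c8 LD2_c40 LD3_c10) (LK LD1_c4 LD2_c28 LD3_c36) Lrfl Lrfl
theorem f279178 : Led Lsl_df (LP (LK LD1_c8 LD2_c17 LD3_c57)) = (LP (LK LD1_c4 LD2_c28 LD3_c36)) :=
  Lgr Lrot153 (Lpe (K14.f254891 IH) (Lpr_dt (K15.f191905 IH) (Lpr_cf (K15.f261008 IH) (Lpe (K15.f260784 IH) (Lpe (K15.f267541 IH) (Lpe (K16.f260911 IH) (Lpr_gf (K16.f279153 IH) (Lpe (K15.f191855 IH) (Lpr_gt (f187453 IH) (Lpn (LP (LK LD1_c4 LD2_c28 LD3_c36))))))))))))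
theorem f336901 : Led Lsl_at (LP (LK LD1_c8 LD2_c53 LD3_c13)) = (LP (LK LD1_c4 LD2_c28 LD3_c36)) :=
  Lgr Lrot51 (Lpr_df (K16.f261073 IH) (Lpr_af (K22.f336897 IH) (Lpr_df (f279178 IH) (Lpn (LP (LK LD1_c4 LD2_c28 LD3_c36))))))
theorem f343935 : Led Lsl_ff (LP (LK LD1_c8 LD2_c53 LD3_c13)) = (LP (LK LD1_c4 LD2_c28 LD3_c35)) :=
  Lgr Lrot30 (Lpr_at (f336901 IH) (Lpe (f336895 IH) (Lpr_at (f343925 IH) (Lpn (LP (LK LD1_c4 LD2_c28 LD3_c35))))))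
theorem f343945 : Led Lsl_ft (LP (LK LD1_c8 LD2_c53 LD3_c13)) = (LP (LK LD1_c4 LD2_c28 LD3_c35)) :=
  Lgr Lrot48 (Lpr_ff (f343935 IH) (Lpn (LP (LK LD1_c4 LD2_c28 LD3_c35))))
theorem f343949 : Led Lsl_ff (LP (LK LD1_c15 LD2_c24 LD3_c9)) = (LP (LK LD1_c8 LD2_c18 LD3_c0)) :=
  Lgr Lrot23 (Lpr_ct (K17.f270935 IH) (Lpr_ft (f343945 IH) (Lpr_ct (K15.f219661 IH) (Lpn (LP (LK LD1_c8 LD2_c18 LD3_c0))))))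
theorem f187220 : Led Lsl_dt (LP (LK LD1_c8 LD2_c39 LD3_c54)) = (LP (LK LD1_c4 LD2_c21 LD3_c6)) :=
  Lre_d IH (LK LD1_c8 LD2_c39 LD3_c54) (LK LD1_c4 LD2_c21 LD3_c6) Lrfl Lrfl
theorem f278802 : Led Lsl_gf (LP (LK LD1_c8 LD2_c39 LD3_c54)) = (LP (LK LD1_c8 LD2_c10 LD3_c51)) :=
  Lgr Lrot148 (Lpr_dt (f187220 IH) (Lpr_gt (K14.f219711 IH) (Lpr_dt (K16.f219713 IH) (Lpr_ct (K17.f278767 IH) (Lpe (K22.f276552 IH) (Lpe (K15.f261078 IH) (Lpe (K15.f261103 IH) (Lpe (K15.f267323 IH) (Lpr_ct (K15.f267319 IH) (Lpn (LP (LK LD1_c8 LD2_c10 LD3_c51))))))))))))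
theorem f343961 : Led Lsl_at (LP (LK LD1_c15 LD2_c24 LD3_c9)) = (LP (LK LD1_c8 LD2_c39 LD3_c54)) :=
  Lgr Lrot26 (Lpr_ff (f343949 IH) (Lpr_gt (K18.f292374 IH) (Lpe (f278802 IH) (Lpn (LP (LK LD1_c8 LD2_c39 LD3_c54))))))
theorem f219722 : Led Lsl_dt (LP (LK LD1_c8 LD2_c53 LD3_c22)) = (LP (LK LD1_c4 LD2_c27 LD3_c46)) :=
  Lre_d IH (LK LD1_c8 LD2_c53 LD3_c22) (LK LD1_c4 LD2_c27 LD3_c46) Lrfl Lrfl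
theorem f292486 : Led Lsl_gt (LP (LK LD1_c15 LD2_c24 LD3_c0)) = (LP (LK LD1_c8 LD2_c24 LD3_c19)) :=
  Lgr Lrot9 (Lpe (K17.f53902 IH) (Lpr_gt (K17.f292467 IH) (Lpr_ct (K17.f279255 IH) (Lpe (K16.f279196 IH) (Lpr_ct (K16.f2863 IH) (Lpe (K16.f1708 IH) (Lpr_cf (K16.f276427 IH) (Lpe (K17.f223201 IH) (Lpr_cf (K17.f278759 IH) (Lpn (LP (LK LD1_c8 LD2_c24 LD3_c19))))))))))))
theorem f187106 : Led Lsl_bt (LP (LK LD1_c2 LD2_c8 LD3_c5)) = (LP (LK LD1_c2 LD2_c23 LD3_c22)) :=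
  Lgr Lrot95 (Lpe (K14.f45746 IH) (Lpr_bf (K10.f187097 IH) (Lpe (K13.f2108 IH) (Lpn (LP (LK LD1_c2 LD2_c23 LD3_c22))))))
theorem f259287 : Led Lsl_bt (LP (LK LD1_c2 LD2_c3 LD3_c24)) = (LP (LK LD1_c4 LD2_c12 LD3_c21)) :=
  Lre_b IH (LK LD1_c2 LD2_c3 LD3_c24) (LK LD1_c4 LD2_c12 LD3_c21) Lrfl Lrfl
theorem f308833 : Led Lsl_gf (LP (LK LD1_c4 LD2_c21 LD3_c6)) = (LP (LK LD1_c4 LD2_c12 LD3_c22)) :=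
  Lgr Lrot126 (Lpe (K14.f187153 IH) (Lpr_bt (f187106 IH) (Lpr_gt (K19.f186908 IH) (Lpe (K19.f308831 IH) (Lpr_gt (K19.f308827 IH) (Lpe (K13.f288 IH) (Lpe (K13.f167322 IH) (Lpe (K19.f271579 IH) (Lpe (f259287 IH) (Lpr_ct (K17.f278766 IH) (Lpn (LP (LK LD1_c4 LD2_c12 LD3_c22)))))))))))))
theorem f191843 : Led Lsl_dt (LP (LK LD1_c4 LD2_c21 LD3_c6)) = (LP (LK LD1_c8 LD2_c39 LD3_c54)) :=
  Lre_d IH (LK LD1_c4 LD2_c21 LD3_c6) (LK LD1_c8 LD2_c39 LD3_c54) Lrfl Lrfl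
theorem f316565 : Led Lsl_cf (LP (LK LD1_c4 LD2_c28 LD3_c36)) = (LP (LK LD1_c8 LD2_c39 LD3_c54)) :=
  Lgr Lrot14 (Lpr_df (K20.f316560 IH) (Lpe (K16.f219630 IH) (Lpe (f219722 IH) (Lpe (K16.f278860 IH) (Lpe (K16.f278865 IH) (Lpr_gt (f292486 IH) (Lpr_dt (K17.f276564 IH) (Lpe (f308833 IH) (Lpr_dt (f191843 IH) (Lpn (LP (LK LD1_c8 LD2_c39 LD3_c54))))))))))))
theorem f343965 : Led Lsl_af (LP (LK LD1_c8 LD2_c53 LD3_c13)) = (LP (LK LD1_c4 LD2_c28 LD3_c36)) :=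
  Lgr Lrot68 (Lpe (K17.f270942 IH) (Lpr_at (f343961 IH) (Lpe (f316565 IH) (Lpn (LP (LK LD1_c4 LD2_c28 LD3_c36))))))
theorem f343929 : Led Lsl_af (LP (LK LD1_c8 LD2_c53 LD3_c12)) = (LP (LK LD1_c4 LD2_c28 LD3_c35)) :=
  Lgr Lrot0 (Lpr_at (f343925 IH) (Lpn (LP (LK LD1_c4 LD2_c28 LD3_c35))))
theorem f343980 : Led Lsl_ft (LP (LK LD1_c8 LD2_c53 LD3_c12)) = (LP (LK LD1_c4 LD2_c28 LD3_c36)) :=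
  Lgr Lrot101 (Lpr_af (f343929 IH) (Lpe (f343945 IH) (Lpr_af (f343965 IH) (Lpn (LP (LK LD1_c4 LD2_c28 LD3_c36))))))
theorem f183261 : Led Lsl_bt (LP (LK LD1_c16 LD2_c36 LD3_c61)) = (LP (LK LD1_c8 LD2_c53 LD3_c12)) :=
  Lre_b IH (LK LD1_c16 LD2_c36 LD3_c61) (LK LD1_c8 LD2_c53 LD3_c12) Lrfl Lrfl
theorem f278805 : Led Lsl_bt (LP (LK LD1_c4 LD2_c28 LD3_c36)) = (LP (LK LD1_c8 LD2_c55 LD3_c25)) :=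
  Lre_b IH (LK LD1_c4 LD2_c28 LD3_c36) (LK LD1_c8 LD2_c55 LD3_c25) Lrfl Lrfl
theorem f343982 : Led Lsl_ff (LP (LK LD1_c16 LD2_c36 LD3_c61)) = (LP (LK LD1_c8 LD2_c55 LD3_c25)) :=
  Lgr Lrot25 (Lpr_bt (f183261 IH) (Lpr_ft (f343980 IH) (Lpr_bt (f278805 IH) (Lpn (LP (LK LD1_c8 LD2_c55 LD3_c25))))))
theorem f223351 : Led Lsl_at (LP (LK LD1_c16 LD2_c36 LD3_c61)) = (LP (LK LD1_c26 LD2_c34 LD3_c3)) :=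
  Lre_a IH (LK LD1_c16 LD2_c36 LD3_c61) (LK LD1_c26 LD2_c34 LD3_c3) Lrfl Lrfl
theorem f343977 : Led Lsl_at (LP (LK LD1_c16 LD2_c42 LD3_c5)) = (LP (LK LD1_c8 LD2_c55 LD3_c25)) :=
  Lre_a IH (LK LD1_c16 LD2_c42 LD3_c5) (LK LD1_c8 LD2_c55 LD3_c25) Lrfl Lrfl
theorem f344019 : Led Lsl_ft (LP (LK LD1_c26 LD2_c34 LD3_c3)) = (LP (LK LD1_c16 LD2_c42 LD3_c5)) :=
  Lgr Lrot101 (Lpe (f223351 IH) (Lpr_ff (f343982 IH) (Lpe (f343977 IH) (Lpn (LP (LK LD1_c16 LD2_c42 LD3_c5))))))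
theorem f223284 : Led Lsl_bt (LP (LK LD1_c9 LD2_c41 LD3_c1)) = (LP (LK LD1_c4 LD2_c54 LD3_c44)) :=
  Lre_b IH (LK LD1_c9 LD2_c41 LD3_c1) (LK LD1_c4 LD2_c54 LD3_c44) Lrfl Lrfl
theorem f223285 : Led Lsl_bt (LP (LK LD1_c8 LD2_c53 LD3_c12)) = (LP (LK LD1_c16 LD2_c36 LD3_c61)) :=
  Lre_b IH (LK LD1_c8 LD2_c53 LD3_c12) (LK LD1_c16 LD2_c36 LD3_c61) Lrfl Lrfl
theorem f223286 : Led Lsl_df (LP (LK LD1_c9 LD2_c41 LD3_c1)) = (LP (LK LD1_c16 LD2_c36 LD3_c61)) :=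
  Lgr Lrot12 (Lpr_bt (f223284 IH) (Lpr_dt (K12.f223256 IH) (Lpr_bt (f223285 IH) (Lpn (LP (LK LD1_c16 LD2_c36 LD3_c61))))))
theorem f223321 : Led Lsl_at (LP (LK LD1_c9 LD2_c41 LD3_c1)) = (LP (LK LD1_c17 LD2_c48 LD3_c50)) :=
  Lre_a IH (LK LD1_c9 LD2_c41 LD3_c1) (LK LD1_c17 LD2_c48 LD3_c50) Lrfl Lrfl
theorem f223322 : Led Lsl_at (LP (LK LD1_c26 LD2_c34 LD3_c3)) = (LP (LK LD1_c16 LD2_c36 LD3_c61)) :=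
  Lre_a IH (LK LD1_c26 LD2_c34 LD3_c3) (LK LD1_c16 LD2_c36 LD3_c61) Lrfl Lrfl
theorem f223323 : Led Lsl_dt (LP (LK LD1_c17 LD2_c48 LD3_c50)) = (LP (LK LD1_c26 LD2_c34 LD3_c3)) :=
  Lgr Lrot44 (Lpe (f223321 IH) (Lpr_df (f223286 IH) (Lpe (f223322 IH) (Lpn (LP (LK LD1_c26 LD2_c34 LD3_c3))))))
theorem f223346 : Led Lsl_df (LP (LK LD1_c17 LD2_c48 LD3_c50)) = (LP (LK LD1_c26 LD2_c34 LD3_c3)) :=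
  Lgr Lrot38 (Lpr_dt (f223323 IH) (Lpn (LP (LK LD1_c26 LD2_c34 LD3_c3))))
theorem f223352 : Led Lsl_ct (LP (LK LD1_c17 LD2_c48 LD3_c50)) = (LP (LK LD1_c9 LD2_c41 LD3_c27)) :=
  Lre_c IH (LK LD1_c17 LD2_c48 LD3_c50) (LK LD1_c9 LD2_c41 LD3_c27) Lrfl Lrfl
theorem f223353 : Led Lsl_dt (LP (LK LD1_c9 LD2_c41 LD3_c27)) = (LP (LK LD1_c17 LD2_c49 LD3_c30)) :=
  Lre_d IH (LK LD1_c9 LD2_c41 LD3_c27) (LK LD1_c17 LD2_c49 LD3_c30) Lrfl Lrfl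
theorem f223354 : Led Lsl_ct (LP (LK LD1_c17 LD2_c49 LD3_c30)) = (LP (LK LD1_c27 LD2_c36 LD3_c39)) :=
  Lre_c IH (LK LD1_c17 LD2_c49 LD3_c30) (LK LD1_c27 LD2_c36 LD3_c39) Lrfl Lrfl
theorem f165044 : Led Lsl_ct (LP (LK LD1_c16 LD2_c42 LD3_c6)) = (LP (LK LD1_c8 LD2_c55 LD3_c25)) :=
  Lre_c IH (LK LD1_c16 LD2_c42 LD3_c6) (LK LD1_c8 LD2_c55 LD3_c25) Lrfl Lrfl
theorem f165045 : Led Lsl_dt (LP (LK LD1_c26 LD2_c40 LD3_c55)) = (LP (LK LD1_c16 LD2_c42 LD3_c6)) :=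
  Lre_d IH (LK LD1_c26 LD2_c40 LD3_c55) (LK LD1_c16 LD2_c42 LD3_c6) Lrfl Lrfl
theorem f344045 : Led Lsl_ct (LP (LK LD1_c32 LD2_c14 LD3_c23)) = (LP (LK LD1_c26 LD2_c40 LD3_c55)) :=
  Lre_c IH (LK LD1_c32 LD2_c14 LD3_c23) (LK LD1_c26 LD2_c40 LD3_c55) Lrfl Lrfl
theorem f344046 : Led Lsl_dt (LP (LK LD1_c27 LD2_c36 LD3_c39)) = (LP (LK LD1_c32 LD2_c14 LD3_c23)) :=
  Lgr Lrot140 (Lpe (f223354 IH) (Lpe (f223353 IH) (Lpe (f223352 IH) (Lpr_df (f223346 IH) (Lpr_ft (f344019 IH) (Lpr_at (f343977 IH) (Lpe (f165044 IH) (Lpe (f165045 IH) (Lpe (f344045 IH) (Lpn (LP (LK LD1_c32 LD2_c14 LD3_c23))))))))))))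
theorem f219727 : Led Lsl_bt (LP (LK LD1_c15 LD2_c36 LD3_c25)) = (LP (LK LD1_c8 LD2_c17 LD3_c57)) :=
  Lre_b IH (LK LD1_c15 LD2_c36 LD3_c25) (LK LD1_c8 LD2_c17 LD3_c57) Lrfl Lrfl
theorem f316562 : Led Lsl_dt (LP (LK LD1_c8 LD2_c55 LD3_c25)) = (LP (LK LD1_c15 LD2_c36 LD3_c25)) :=
  Lgr Lrot79 (Lpe (f278805 IH) (Lpr_df (K20.f316560 IH) (Lpe (f219727 IH) (Lpn (LP (LK LD1_c15 LD2_c36 LD3_c25))))))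
theorem f101438 : Led Lsl_bt (LP (LK LD1_c4 LD2_c54 LD3_c32)) = (LP (LK LD1_c9 LD2_c40 LD3_c39)) :=
  Lre_b IH (LK LD1_c4 LD2_c54 LD3_c32) (LK LD1_c9 LD2_c40 LD3_c39) Lrfl Lrfl
theorem f254904 : Led Lsl_ct (LP (LK LD1_c9 LD2_c40 LD3_c39)) = (LP (LK LD1_c15 LD2_c36 LD3_c25)) :=
  Lgr Lrot83 (Lpe (f101438 IH) (Lpe (K12.f101437 IH) (Lpr_bf (K16.f254902 IH) (Lpe (K16.f219323 IH) (Lpe (f219727 IH) (Lpn (LP (LK LD1_c15 LD2_c36 LD3_c25))))))))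
theorem f254923 : Led Lsl_cf (LP (LK LD1_c9 LD2_c40 LD3_c39)) = (LP (LK LD1_c15 LD2_c36 LD3_c25)) :=
  Lgr Lrot11 (Lpr_ct (f254904 IH) (Lpn (LP (LK LD1_c15 LD2_c36 LD3_c25))))
theorem f254922 : Led Lsl_at (LP (LK LD1_c17 LD2_c48 LD3_c10)) = (LP (LK LD1_c9 LD2_c40 LD3_c39)) :=
  Lre_a IH (LK LD1_c17 LD2_c48 LD3_c10) (LK LD1_c9 LD2_c40 LD3_c39) Lrfl Lrfl
theorem f344054 : Led Lsl_ft (LP (LK LD1_c9 LD2_c41 LD3_c27)) = (LP (LK LD1_c17 LD2_c48 LD3_c10)) :=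
  Lgr Lrot142 (Lpr_dt (f223353 IH) (Lpr_ct (f223354 IH) (Lpr_dt (f344046 IH) (Lpr_ct (f344045 IH) (Lpr_dt (f165045 IH) (Lpr_ct (f165044 IH) (Lpr_dt (f316562 IH) (Lpe (f254923 IH) (Lpe (f254922 IH) (Lpn (LP (LK LD1_c17 LD2_c48 LD3_c10))))))))))))
theorem f344062 : Led Lsl_ff (LP (LK LD1_c9 LD2_c41 LD3_c27)) = (LP (LK LD1_c17 LD2_c48 LD3_c10)) :=
  Lgr Lrot3 (Lpr_ft (f344054 IH) (Lpn (LP (LK LD1_c17 LD2_c48 LD3_c10))))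
theorem f344068 : Led Lsl_dt (LP (LK LD1_c27 LD2_c35 LD3_c31)) = (LP (LK LD1_c17 LD2_c48 LD3_c10)) :=
  Lre_d IH (LK LD1_c27 LD2_c35 LD3_c31) (LK LD1_c17 LD2_c48 LD3_c10) Lrfl Lrfl
theorem f344069 : Led Lsl_ft (LP (LK LD1_c17 LD2_c49 LD3_c30)) = (LP (LK LD1_c27 LD2_c35 LD3_c31)) :=
  Lgr Lrot54 (Lpe (f223353 IH) (Lpr_ff (f344062 IH) (Lpe (f344068 IH) (Lpn (LP (LK LD1_c27 LD2_c35 LD3_c31))))))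
theorem f223345 : Led Lsl_ct (LP (LK LD1_c27 LD2_c36 LD3_c39)) = (LP (LK LD1_c17 LD2_c49 LD3_c30)) :=
  Lre_c IH (LK LD1_c27 LD2_c36 LD3_c39) (LK LD1_c17 LD2_c49 LD3_c30) Lrfl Lrfl
theorem f344074 : Led Lsl_ct (LP (LK LD1_c27 LD2_c35 LD3_c31)) = (LP (LK LD1_c32 LD2_c27 LD3_c2)) :=
  Lre_c IH (LK LD1_c27 LD2_c35 LD3_c31) (LK LD1_c32 LD2_c27 LD3_c2) Lrfl Lrfl
theorem f344081 : Led Lsl_ff (LP (LK LD1_c27 LD2_c36 LD3_c39)) = (LP (LK LD1_c32 LD2_c27 LD3_c2)) :=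
  Lgr Lrot23 (Lpr_ct (f223345 IH) (Lpr_ft (f344069 IH) (Lpr_ct (f344074 IH) (Lpn (LP (LK LD1_c32 LD2_c27 LD3_c2))))))
theorem f223332 : Led Lsl_at (LP (LK LD1_c27 LD2_c36 LD3_c39)) = (LP (LK LD1_c17 LD2_c49 LD3_c34)) :=
  Lre_a IH (LK LD1_c27 LD2_c36 LD3_c39) (LK LD1_c17 LD2_c49 LD3_c34) Lrfl Lrfl
theorem f218898 : Led Lsl_at (LP (LK LD1_c27 LD2_c35 LD3_c32)) = (LP (LK LD1_c32 LD2_c27 LD3_c2)) :=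
  Lre_a IH (LK LD1_c27 LD2_c35 LD3_c32) (LK LD1_c32 LD2_c27 LD3_c2) Lrfl Lrfl
theorem f344083 : Led Lsl_ft (LP (LK LD1_c17 LD2_c49 LD3_c34)) = (LP (LK LD1_c27 LD2_c35 LD3_c32)) :=
  Lgr Lrot101 (Lpe (f223332 IH) (Lpr_ff (f344081 IH) (Lpe (f218898 IH) (Lpn (LP (LK LD1_c27 LD2_c35 LD3_c32))))))
theorem f344089 : Led Lsl_ff (LP (LK LD1_c17 LD2_c49 LD3_c34)) = (LP (LK LD1_c27 LD2_c35 LD3_c32)) :=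
  Lgr Lrot3 (Lpr_ft (f344083 IH) (Lpn (LP (LK LD1_c27 LD2_c35 LD3_c32))))
theorem f223357 : Led Lsl_ct (LP (LK LD1_c17 LD2_c49 LD3_c34)) = (LP (LK LD1_c9 LD2_c41 LD3_c28)) :=
  Lre_c IH (LK LD1_c17 LD2_c49 LD3_c34) (LK LD1_c9 LD2_c41 LD3_c28) Lrfl Lrfl
theorem f201206 : Led Lsl_ct (LP (LK LD1_c17 LD2_c48 LD3_c11)) = (LP (LK LD1_c27 LD2_c35 LD3_c32)) :=
  Lre_c IH (LK LD1_c17 LD2_c48 LD3_c11) (LK LD1_c27 LD2_c35 LD3_c32) Lrfl Lrfl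
theorem f344096 : Led Lsl_ft (LP (LK LD1_c9 LD2_c41 LD3_c28)) = (LP (LK LD1_c17 LD2_c48 LD3_c11)) :=
  Lgr Lrot4 (Lpe (f223357 IH) (Lpr_ff (f344089 IH) (Lpe (f201206 IH) (Lpn (LP (LK LD1_c17 LD2_c48 LD3_c11))))))
theorem f246450 : Led Lsl_bt (LP (LK LD1_c4 LD2_c54 LD3_c59)) = (LP (LK LD1_c9 LD2_c41 LD3_c28)) :=
  Lre_b IH (LK LD1_c4 LD2_c54 LD3_c59) (LK LD1_c9 LD2_c41 LD3_c28) Lrfl Lrfl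
theorem f201205 : Led Lsl_bt (LP (LK LD1_c17 LD2_c48 LD3_c11)) = (LP (LK LD1_c9 LD2_c40 LD3_c40)) :=
  Lre_b IH (LK LD1_c17 LD2_c48 LD3_c11) (LK LD1_c9 LD2_c40 LD3_c40) Lrfl Lrfl
theorem f344101 : Led Lsl_ff (LP (LK LD1_c4 LD2_c54 LD3_c59)) = (LP (LK LD1_c9 LD2_c40 LD3_c40)) :=
  Lgr Lrot25 (Lpr_bt (f246450 IH) (Lpr_ft (f344096 IH) (Lpr_bt (f201205 IH) (Lpn (LP (LK LD1_c9 LD2_c40 LD3_c40))))))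
theorem f344113 : Led Lsl_at (LP (LK LD1_c4 LD2_c54 LD3_c59)) = (LP (LK LD1_c9 LD2_c40 LD3_c37)) :=
  Lgr Lrot26 (Lpr_ff (f344101 IH) (Lpr_gt (K12.f217356 IH) (Lpe (K12.f218756 IH) (Lpn (LP (LK LD1_c9 LD2_c40 LD3_c37))))))
theorem f246423 : Led Lsl_et (LP (LK LD1_c9 LD2_c41 LD3_c31)) = (LP (LK LD1_c4 LD2_c54 LD3_c59)) :=
  Lre_e IH (LK LD1_c9 LD2_c41 LD3_c31) (LK LD1_c4 LD2_c54 LD3_c59) Lrfl Lrfl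
theorem f218804 : Led Lsl_et (LP (LK LD1_c9 LD2_c40 LD3_c37)) = (LP (LK LD1_c17 LD2_c48 LD3_c6)) :=
  Lre_e IH (LK LD1_c9 LD2_c40 LD3_c37) (LK LD1_c17 LD2_c48 LD3_c6) Lrfl Lrfl
theorem f344121 : Led Lsl_af (LP (LK LD1_c9 LD2_c41 LD3_c31)) = (LP (LK LD1_c17 LD2_c48 LD3_c6)) :=
  Lgr Lrot50 (Lpr_et (f246423 IH) (Lpr_at (f344113 IH) (Lpr_et (f218804 IH) (Lpn (LP (LK LD1_c17 LD2_c48 LD3_c6))))))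
theorem f224266 : Led Lsl_et (LP (LK LD1_c5 LD2_c25 LD3_c32)) = (LP (LK LD1_c2 LD2_c39 LD3_c11)) :=
  Lre_e IH (LK LD1_c5 LD2_c25 LD3_c32) (LK LD1_c2 LD2_c39 LD3_c11) Lrfl Lrfl
theorem f246457 : Led Lsl_et (LP (LK LD1_c4 LD2_c54 LD3_c59)) = (LP (LK LD1_c9 LD2_c41 LD3_c31)) :=
  Lre_e IH (LK LD1_c4 LD2_c54 LD3_c59) (LK LD1_c9 LD2_c41 LD3_c31) Lrfl Lrfl
theorem f246458 : Led Lsl_cf (LP (LK LD1_c5 LD2_c25 LD3_c32)) = (LP (LK LD1_c9 LD2_c41 LD3_c31)) :=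
  Lgr Lrot39 (Lpr_et (f224266 IH) (Lpr_ct (K14.f246447 IH) (Lpr_et (f246457 IH) (Lpn (LP (LK LD1_c9 LD2_c41 LD3_c31))))))
theorem f218766 : Led Lsl_et (LP (LK LD1_c17 LD2_c48 LD3_c6)) = (LP (LK LD1_c9 LD2_c40 LD3_c37)) :=
  Lre_e IH (LK LD1_c17 LD2_c48 LD3_c6) (LK LD1_c9 LD2_c40 LD3_c37) Lrfl Lrfl
theorem f218772 : Led Lsl_et (LP (LK LD1_c5 LD2_c21 LD3_c6)) = (LP (LK LD1_c10 LD2_c32 LD3_c20)) :=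
  Lre_e IH (LK LD1_c5 LD2_c21 LD3_c6) (LK LD1_c10 LD2_c32 LD3_c20) Lrfl Lrfl
theorem f218773 : Led Lsl_cf (LP (LK LD1_c17 LD2_c48 LD3_c6)) = (LP (LK LD1_c10 LD2_c32 LD3_c20)) :=
  Lgr Lrot39 (Lpr_et (f218766 IH) (Lpr_ct (K12.f218761 IH) (Lpr_et (f218772 IH) (Lpn (LP (LK LD1_c10 LD2_c32 LD3_c20))))))
theorem f344126 : Led Lsl_at (LP (LK LD1_c5 LD2_c25 LD3_c32)) = (LP (LK LD1_c10 LD2_c32 LD3_c20)) :=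
  Lgr Lrot107 (Lpr_cf (f246458 IH) (Lpr_af (f344121 IH) (Lpr_cf (f218773 IH) (Lpn (LP (LK LD1_c10 LD2_c32 LD3_c20))))))
theorem f344199 : Led Lsl_ft (LP (LK LD1_c10 LD2_c42 LD3_c14)) = (LP (LK LD1_c5 LD2_c25 LD3_c32)) :=
  Lre_f IH (LK LD1_c10 LD2_c42 LD3_c14) (LK LD1_c5 LD2_c25 LD3_c32) Lrfl Lrfl
theorem f218799 : Led Lsl_ft (LP (LK LD1_c10 LD2_c32 LD3_c20)) = (LP (LK LD1_c19 LD2_c5 LD3_c24)) :=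
  Lre_f IH (LK LD1_c10 LD2_c32 LD3_c20) (LK LD1_c19 LD2_c5 LD3_c24) Lrfl Lrfl
theorem f344200 : Led Lsl_af (LP (LK LD1_c10 LD2_c42 LD3_c14)) = (LP (LK LD1_c19 LD2_c5 LD3_c24)) :=
  Lgr Lrot45 (Lpr_ft (f344199 IH) (Lpr_at (f344126 IH) (Lpr_ft (f218799 IH) (Lpn (LP (LK LD1_c19 LD2_c5 LD3_c24))))))
theorem f344202 : Led Lsl_dt (LP (LK LD1_c10 LD2_c42 LD3_c14)) = (LP (LK LD1_c19 LD2_c22 LD3_c46)) :=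
  Lre_d IH (LK LD1_c10 LD2_c42 LD3_c14) (LK LD1_c19 LD2_c22 LD3_c46) Lrfl Lrfl
theorem f218797 : Led Lsl_dt (LP (LK LD1_c28 LD2_c31 LD3_c6)) = (LP (LK LD1_c19 LD2_c5 LD3_c24)) :=
  Lre_d IH (LK LD1_c28 LD2_c31 LD3_c6) (LK LD1_c19 LD2_c5 LD3_c24) Lrfl Lrfl
theorem f344209 : Led Lsl_at (LP (LK LD1_c19 LD2_c22 LD3_c46)) = (LP (LK LD1_c28 LD2_c31 LD3_c6)) :=
  Lgr Lrot51 (Lpe (f344202 IH) (Lpr_af (f344200 IH) (Lpe (f218797 IH) (Lpn (LP (LK LD1_c28 LD2_c31 LD3_c6))))))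
theorem f344217 : Led Lsl_af (LP (LK LD1_c19 LD2_c22 LD3_c46)) = (LP (LK LD1_c28 LD2_c31 LD3_c6)) :=
  Lgr Lrot0 (Lpr_at (f344209 IH) (Lpn (LP (LK LD1_c28 LD2_c31 LD3_c6))))
theorem f224311 : Led Lsl_ft (LP (LK LD1_c19 LD2_c22 LD3_c46)) = (LP (LK LD1_c10 LD2_c42 LD3_c13)) :=
  Lre_f IH (LK LD1_c19 LD2_c22 LD3_c46) (LK LD1_c10 LD2_c42 LD3_c13) Lrfl Lrfl
theorem f218789 : Led Lsl_ft (LP (LK LD1_c19 LD2_c5 LD3_c23)) = (LP (LK LD1_c28 LD2_c31 LD3_c6)) :=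
  Lre_f IH (LK LD1_c19 LD2_c5 LD3_c23) (LK LD1_c28 LD2_c31 LD3_c6) Lrfl Lrfl
theorem f344223 : Led Lsl_at (LP (LK LD1_c10 LD2_c42 LD3_c13)) = (LP (LK LD1_c19 LD2_c5 LD3_c23)) :=
  Lgr Lrot66 (Lpe (f224311 IH) (Lpr_af (f344217 IH) (Lpe (f218789 IH) (Lpn (LP (LK LD1_c19 LD2_c5 LD3_c23))))))
theorem f224267 : Led Lsl_dt (LP (LK LD1_c10 LD2_c42 LD3_c13)) = (LP (LK LD1_c5 LD2_c25 LD3_c32)) :=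
  Lre_d IH (LK LD1_c10 LD2_c42 LD3_c13) (LK LD1_c5 LD2_c25 LD3_c32) Lrfl Lrfl
theorem f224270 : Led Lsl_ef (LP (LK LD1_c10 LD2_c42 LD3_c13)) = (LP (LK LD1_c17 LD2_c50 LD3_c13)) :=
  Lgr Lrot73 (Lpr_dt (f224267 IH) (Lpr_et (f224266 IH) (Lpr_dt (K15.f224254 IH) (Lpr_et (K16.f224268 IH) (Lpr_dt (K16.f224269 IH) (Lpn (LP (LK LD1_c17 LD2_c50 LD3_c13))))))))
theorem f218802 : Led Lsl_dt (LP (LK LD1_c10 LD2_c32 LD3_c20)) = (LP (LK LD1_c19 LD2_c5 LD3_c23)) :=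
  Lre_d IH (LK LD1_c10 LD2_c32 LD3_c20) (LK LD1_c19 LD2_c5 LD3_c23) Lrfl Lrfl
theorem f221765 : Led Lsl_et (LP (LK LD1_c15 LD2_c36 LD3_c42)) = (LP (LK LD1_c8 LD2_c18 LD3_c5)) :=
  Lre_e IH (LK LD1_c15 LD2_c36 LD3_c42) (LK LD1_c8 LD2_c18 LD3_c5) Lrfl Lrfl
theorem f221766 : Led Lsl_dt (LP (LK LD1_c25 LD2_c31 LD3_c17)) = (LP (LK LD1_c15 LD2_c36 LD3_c42)) :=
  Lre_d IH (LK LD1_c25 LD2_c31 LD3_c17) (LK LD1_c15 LD2_c36 LD3_c42) Lrfl Lrfl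
theorem f221767 : Led Lsl_et (LP (LK LD1_c19 LD2_c5 LD3_c23)) = (LP (LK LD1_c25 LD2_c31 LD3_c17)) :=
  Lgr Lrot71 (Lpe (f218802 IH) (Lpe (f218772 IH) (Lpr_df (K12.f221665 IH) (Lpe (f221765 IH) (Lpe (f221766 IH) (Lpn (LP (LK LD1_c25 LD2_c31 LD3_c17))))))))
theorem f344227 : Led Lsl_af (LP (LK LD1_c17 LD2_c50 LD3_c13)) = (LP (LK LD1_c25 LD2_c31 LD3_c17)) :=
  Lgr Lrot50 (Lpe (f224270 IH) (Lpr_at (f344223 IH) (Lpr_et (f221767 IH) (Lpn (LP (LK LD1_c25 LD2_c31 LD3_c17))))))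
theorem f171938 : Led Lsl_dt (LP (LK LD1_c17 LD2_c50 LD3_c13)) = (LP (LK LD1_c9 LD2_c41 LD3_c50)) :=
  Lre_d IH (LK LD1_c17 LD2_c50 LD3_c13) (LK LD1_c9 LD2_c41 LD3_c50) Lrfl Lrfl
theorem f221775 : Led Lsl_dt (LP (LK LD1_c15 LD2_c36 LD3_c42)) = (LP (LK LD1_c25 LD2_c31 LD3_c17)) :=
  Lre_d IH (LK LD1_c15 LD2_c36 LD3_c42) (LK LD1_c25 LD2_c31 LD3_c17) Lrfl Lrfl
theorem f344233 : Led Lsl_at (LP (LK LD1_c9 LD2_c41 LD3_c50)) = (LP (LK LD1_c15 LD2_c36 LD3_c42)) :=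
  Lgr Lrot51 (Lpe (f171938 IH) (Lpr_af (f344227 IH) (Lpe (f221775 IH) (Lpn (LP (LK LD1_c15 LD2_c36 LD3_c42))))))
theorem f167693 : Led Lsl_gt (LP (LK LD1_c15 LD2_c45 LD3_c21)) = (LP (LK LD1_c8 LD2_c22 LD3_c20)) :=
  Lre_g IH (LK LD1_c15 LD2_c45 LD3_c21) (LK LD1_c8 LD2_c22 LD3_c20) Lrfl Lrfl
theorem f344237 : Led Lsl_ff (LP (LK LD1_c9 LD2_c41 LD3_c50)) = (LP (LK LD1_c15 LD2_c45 LD3_c21)) :=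
  Lgr Lrot52 (Lpr_at (f344233 IH) (Lpr_gf (K18.f300922 IH) (Lpe (f167693 IH) (Lpn (LP (LK LD1_c15 LD2_c45 LD3_c21))))))
theorem f344243 : Led Lsl_ct (LP (LK LD1_c9 LD2_c41 LD3_c52)) = (LP (LK LD1_c15 LD2_c45 LD3_c21)) :=
  Lgr Lrot40 (Lpe (K21.f171973 IH) (Lpe (K21.f171931 IH) (Lpr_ff (f344237 IH) (Lpn (LP (LK LD1_c15 LD2_c45 LD3_c21))))))
theorem f344295 : Led Lsl_bt (LP (LK LD1_c9 LD2_c41 LD3_c52)) = (LP (LK LD1_c5 LD2_c39 LD3_c39)) :=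
  Lgr Lrot92 (Lpr_ct (f344243 IH) (Lpr_gt (f167693 IH) (Lpe (K18.f167692 IH) (Lpr_bt (K18.f167689 IH) (Lpe (K19.f167662 IH) (Lpr_ct (K19.f167684 IH) (Lpe (K19.f306781 IH) (Lpe (K19.f228320 IH) (Lpr_bt (K19.f305717 IH) (Lpr_gt (K19.f305709 IH) (Lpn (LP (LK LD1_c5 LD2_c39 LD3_c39)))))))))))))
theorem f169188 : Led Lsl_ct (LP (LK LD1_c2 LD2_c38 LD3_c20)) = (LP (LK LD1_c5 LD2_c23 LD3_c34)) :=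
  Lre_c IH (LK LD1_c2 LD2_c38 LD3_c20) (LK LD1_c5 LD2_c23 LD3_c34) Lrfl Lrfl
theorem f169189 : Led Lsl_ct (LP (LK LD1_c5 LD2_c20 LD3_c40)) = (LP (LK LD1_c10 LD2_c31 LD3_c24)) :=
  Lre_c IH (LK LD1_c5 LD2_c20 LD3_c40) (LK LD1_c10 LD2_c31 LD3_c24) Lrfl Lrfl
theorem f344301 : Led Lsl_gf (LP (LK LD1_c15 LD2_c45 LD3_c21)) = (LP (LK LD1_c10 LD2_c31 LD3_c24)) :=
  Lgr Lrot129 (Lpe (f344243 IH) (Lpr_bt (f344295 IH) (Lpr_gt (K21.f305723 IH) (Lpe (K21.f312557 IH) (Lpr_ct (K19.f310878 IH) (Lpr_gt (K19.f312654 IH) (Lpe (f169188 IH) (Lpr_bt (K15.f169169 IH) (Lpr_gt (K17.f169187 IH) (Lpr_ct (f169189 IH) (Lpn (LP (LK LD1_c10 LD2_c31 LD3_c24)))))))))))))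
theorem f344247 : Led Lsl_ft (LP (LK LD1_c9 LD2_c41 LD3_c50)) = (LP (LK LD1_c15 LD2_c45 LD3_c21)) :=
  Lgr Lrot48 (Lpr_ff (f344237 IH) (Lpn (LP (LK LD1_c15 LD2_c45 LD3_c21))))
theorem f344254 : Led Lsl_cf (LP (LK LD1_c9 LD2_c41 LD3_c52)) = (LP (LK LD1_c15 LD2_c45 LD3_c21)) :=
  Lgr Lrot108 (Lpr_ft (K22.f171937 IH) (Lpr_ct (K21.f171939 IH) (Lpr_ft (f344247 IH) (Lpn (LP (LK LD1_c15 LD2_c45 LD3_c21))))))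
theorem f246761 : Led Lsl_dt (LP (LK LD1_c9 LD2_c41 LD3_c52)) = (LP (LK LD1_c15 LD2_c47 LD3_c55)) :=
  Lgr Lrot60 (Lpe (K21.f171973 IH) (Lpr_df (K14.f246754 IH) (Lpe (K21.f167148 IH) (Lpn (LP (LK LD1_c15 LD2_c47 LD3_c55))))))
theorem f167124 : Led Lsl_ft (LP (LK LD1_c15 LD2_c43 LD3_c38)) = (LP (LK LD1_c8 LD2_c21 LD3_c23)) :=
  Lre_f IH (LK LD1_c15 LD2_c43 LD3_c38) (LK LD1_c8 LD2_c21 LD3_c23) Lrfl Lrfl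
theorem f167126 : Led Lsl_cf (LP (LK LD1_c15 LD2_c43 LD3_c38)) = (LP (LK LD1_c15 LD2_c47 LD3_c55)) :=
  Lgr Lrot108 (Lpr_ft (f167124 IH) (Lpr_ct (K20.f167105 IH) (Lpr_ft (K21.f167125 IH) (Lpn (LP (LK LD1_c15 LD2_c47 LD3_c55))))))
theorem f167139 : Led Lsl_ct (LP (LK LD1_c15 LD2_c43 LD3_c38)) = (LP (LK LD1_c15 LD2_c47 LD3_c55)) :=
  Lgr Lrot59 (Lpr_cf (f167126 IH) (Lpn (LP (LK LD1_c15 LD2_c47 LD3_c55))))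
theorem f184274 : Led Lsl_ct (LP (LK LD1_c8 LD2_c32 LD3_c54)) = (LP (LK LD1_c16 LD2_c2 LD3_c54)) :=
  Lre_c IH (LK LD1_c8 LD2_c32 LD3_c54) (LK LD1_c16 LD2_c2 LD3_c54) Lrfl Lrfl
theorem f344305 : Led Lsl_gf (LP (LK LD1_c15 LD2_c43 LD3_c38)) = (LP (LK LD1_c16 LD2_c2 LD3_c54)) :=
  Lgr Lrot104 (Lpr_ct (f167139 IH) (Lpe (f246761 IH) (Lpr_cf (f344254 IH) (Lpr_gf (f344301 IH) (Lpe (f169189 IH) (Lpe (K17.f169187 IH) (Lpe (K15.f184252 IH) (Lpr_gt (K16.f184273 IH) (Lpr_ct (f184274 IH) (Lpn (LP (LK LD1_c16 LD2_c2 LD3_c54))))))))))))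
theorem f215530 : Led Lsl_ct (LP (LK LD1_c4 LD2_c11 LD3_c7)) = (LP (LK LD1_c2 LD2_c2 LD3_c50)) :=
  Lre_c IH (LK LD1_c4 LD2_c11 LD3_c7) (LK LD1_c2 LD2_c2 LD3_c50) Lrfl Lrfl
theorem f215531 : Led Lsl_dt (LP (LK LD1_c8 LD2_c22 LD3_c12)) = (LP (LK LD1_c4 LD2_c11 LD3_c7)) :=
  Lre_d IH (LK LD1_c8 LD2_c22 LD3_c12) (LK LD1_c4 LD2_c11 LD3_c7) Lrfl Lrfl
theorem f300910 : Led Lsl_gt (LP (LK LD1_c15 LD2_c45 LD3_c9)) = (LP (LK LD1_c8 LD2_c22 LD3_c12)) :=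
  Lre_g IH (LK LD1_c15 LD2_c45 LD3_c9) (LK LD1_c8 LD2_c22 LD3_c12) Lrfl Lrfl
theorem f344308 : Led Lsl_dt (LP (LK LD1_c15 LD2_c43 LD3_c38)) = (LP (LK LD1_c15 LD2_c45 LD3_c9)) :=
  Lgr Lrot57 (Lpr_gf (f344305 IH) (Lpe (f184274 IH) (Lpr_gt (K18.f300895 IH) (Lpr_dt (K18.f300884 IH) (Lpe (K18.f300902 IH) (Lpr_dt (K16.f215466 IH) (Lpe (f215530 IH) (Lpe (f215531 IH) (Lpe (f300910 IH) (Lpn (LP (LK LD1_c15 LD2_c45 LD3_c9))))))))))))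
theorem f316494 : Led Lsl_gt (LP (LK LD1_c25 LD2_c40 LD3_c58)) = (LP (LK LD1_c15 LD2_c45 LD3_c9)) :=
  Lre_g IH (LK LD1_c25 LD2_c40 LD3_c58) (LK LD1_c15 LD2_c45 LD3_c9) Lrfl Lrfl
theorem f300823 : Led Lsl_gt (LP (LK LD1_c4 LD2_c10 LD3_c0)) = (LP (LK LD1_c4 LD2_c17 LD3_c23)) :=
  Lgr Lrot150 (Lpe (K12.f230955 IH) (Lpr_gf (K18.f300817 IH) (Lpe (K18.f300807 IH) (Lpr_gt (K18.f300727 IH) (Lpe (K16.f187543 IH) (Lpe (K16.f276675 IH) (Lpr_ct (K15.f219300 IH) (Lpe (K16.f219301 IH) (Lpr_cf (K20.f179620 IH) (Lpn (LP (LK LD1_c4 LD2_c17 LD3_c23))))))))))))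
theorem f231118 : Led Lsl_et (LP (LK LD1_c8 LD2_c20 LD3_c17)) = (LP (LK LD1_c4 LD2_c10 LD3_c0)) :=
  Lre_e IH (LK LD1_c8 LD2_c20 LD3_c17) (LK LD1_c4 LD2_c10 LD3_c0) Lrfl Lrfl
theorem f178638 : Led Lsl_dt (LP (LK LD1_c8 LD2_c20 LD3_c17)) = (LP (LK LD1_c15 LD2_c41 LD3_c42)) :=
  Lre_d IH (LK LD1_c8 LD2_c20 LD3_c17) (LK LD1_c15 LD2_c41 LD3_c42) Lrfl Lrfl
theorem f178641 : Led Lsl_gt (LP (LK LD1_c25 LD2_c37 LD3_c17)) = (LP (LK LD1_c15 LD2_c41 LD3_c42)) :=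
  Lre_g IH (LK LD1_c25 LD2_c37 LD3_c17) (LK LD1_c15 LD2_c41 LD3_c42) Lrfl Lrfl
theorem f336279 : Led Lsl_dt (LP (LK LD1_c15 LD2_c45 LD3_c3)) = (LP (LK LD1_c25 LD2_c37 LD3_c17)) :=
  Lgr Lrot136 (Lpr_et (K22.f336278 IH) (Lpe (K22.f215484 IH) (Lpe (K22.f278492 IH) (Lpr_dt (K17.f219791 IH) (Lpe (K18.f51526 IH) (Lpr_df (K22.f336268 IH) (Lpe (f300823 IH) (Lpe (f231118 IH) (Lpr_dt (f178638 IH) (Lpe (f178641 IH) (Lpn (LP (LK LD1_c25 LD2_c37 LD3_c17)))))))))))))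
theorem f231096 : Led Lsl_gt (LP (LK LD1_c15 LD2_c42 LD3_c60)) = (LP (LK LD1_c25 LD2_c37 LD3_c17)) :=
  Lre_g IH (LK LD1_c15 LD2_c42 LD3_c60) (LK LD1_c25 LD2_c37 LD3_c17) Lrfl Lrfl
theorem f178656 : Led Lsl_dt (LP (LK LD1_c8 LD2_c20 LD3_c57)) = (LP (LK LD1_c15 LD2_c42 LD3_c60)) :=
  Lre_d IH (LK LD1_c8 LD2_c20 LD3_c57) (LK LD1_c15 LD2_c42 LD3_c60) Lrfl Lrfl
theorem f330900 : Led Lsl_gf (LP (LK LD1_c8 LD2_c25 LD3_c40)) = (LP (LK LD1_c9 LD2_c34 LD3_c44)) :=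
  Lgr Lrot76 (Lpr_af (K21.f326399 IH) (Lpe (K21.f326403 IH) (Lpr_gt (K21.f330896 IH) (Lpn (LP (LK LD1_c9 LD2_c34 LD3_c44))))))
theorem f322245 : Led Lsl_ct (LP (LK LD1_c8 LD2_c25 LD3_c40)) = (LP (LK LD1_c15 LD2_c49 LD3_c53)) :=
  Lre_c IH (LK LD1_c8 LD2_c25 LD3_c40) (LK LD1_c15 LD2_c49 LD3_c53) Lrfl Lrfl
theorem f341047 : Led Lsl_gt (LP (LK LD1_c15 LD2_c49 LD3_c53)) = (LP (LK LD1_c8 LD2_c34 LD3_c4)) :=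
  Lgr Lrot150 (Lpe (f322245 IH) (Lpr_gf (f330900 IH) (Lpe (K20.f322164 IH) (Lpe (f341031 IH) (Lpr_ct (f341036 IH) (Lpr_gt (K20.f279017 IH) (Lpr_ct (K16.f7802 IH) (Lpe (K12.f7784 IH) (Lpe (K12.f7788 IH) (Lpn (LP (LK LD1_c8 LD2_c34 LD3_c4))))))))))))
theorem f344350 : Led Lsl_et (LP (LK LD1_c15 LD2_c43 LD3_c38)) = (LP (LK LD1_c15 LD2_c49 LD3_c53)) :=
  Lgr Lrot185 (Lpr_dt (f344308 IH) (Lpe (f316494 IH) (Lpe (K21.f215497 IH) (Lpe (K19.f215512 IH) (Lpe (K22.f336278 IH) (Lpr_dt (f336279 IH) (Lpe (f231096 IH) (Lpe (f178656 IH) (Lpe (K12.f231087 IH) (Lpe (f341047 IH) (Lpn (LP (LK LD1_c15 LD2_c49 LD3_c53)))))))))))))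
theorem f167147 : Led Lsl_ft (LP (LK LD1_c8 LD2_c21 LD3_c23)) = (LP (LK LD1_c15 LD2_c43 LD3_c38)) :=
  Lre_f IH (LK LD1_c8 LD2_c21 LD3_c23) (LK LD1_c15 LD2_c43 LD3_c38) Lrfl Lrfl
theorem f324740 : Led Lsl_ft (LP (LK LD1_c4 LD2_c16 LD3_c52)) = (LP (LK LD1_c4 LD2_c10 LD3_c45)) :=
  Lgr Lrot4 (Lpr_cf (K17.f290244 IH) (Lpr_ff (K21.f324736 IH) (Lpe (K15.f167100 IH) (Lpn (LP (LK LD1_c4 LD2_c10 LD3_c45))))))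
theorem f290266 : Led Lsl_et (LP (LK LD1_c8 LD2_c33 LD3_c4)) = (LP (LK LD1_c4 LD2_c16 LD3_c52)) :=
  Lre_e IH (LK LD1_c8 LD2_c33 LD3_c4) (LK LD1_c4 LD2_c16 LD3_c52) Lrfl Lrfl
theorem f344354 : Led Lsl_ff (LP (LK LD1_c8 LD2_c33 LD3_c4)) = (LP (LK LD1_c15 LD2_c49 LD3_c53)) :=
  Lgr Lrot72 (Lpr_et (f290266 IH) (Lpr_ft (f324740 IH) (Lpr_et (K20.f167103 IH) (Lpr_ft (f167147 IH) (Lpr_et (f344350 IH) (Lpn (LP (LK LD1_c15 LD2_c49 LD3_c53))))))))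
theorem f344356 : Led Lsl_ft (LP (LK LD1_c8 LD2_c33 LD3_c4)) = (LP (LK LD1_c15 LD2_c49 LD3_c53)) :=
  Lgr Lrot48 (Lpr_ff (f344354 IH) (Lpn (LP (LK LD1_c15 LD2_c49 LD3_c53))))
theorem f290241 : Led Lsl_et (LP (LK LD1_c4 LD2_c16 LD3_c52)) = (LP (LK LD1_c8 LD2_c33 LD3_c4)) :=
  Lre_e IH (LK LD1_c4 LD2_c16 LD3_c52) (LK LD1_c8 LD2_c33 LD3_c4) Lrfl Lrfl
theorem f231130 : Led Lsl_et (LP (LK LD1_c2 LD2_c6 LD3_c1)) = (LP (LK LD1_c4 LD2_c17 LD3_c26)) :=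
  Lre_e IH (LK LD1_c2 LD2_c6 LD3_c1) (LK LD1_c4 LD2_c17 LD3_c26) Lrfl Lrfl
theorem f296047 : Led Lsl_gt (LP (LK LD1_c8 LD2_c33 LD3_c4)) = (LP (LK LD1_c4 LD2_c17 LD3_c26)) :=
  Lgr Lrot131 (Lpe (f290241 IH) (Lpr_dt (K17.f290239 IH) (Lpr_gf (K17.f290088 IH) (Lpe (K17.f7970 IH) (Lpe (K17.f290078 IH) (Lpr_ef (K20.f221937 IH) (Lpr_dt (K18.f296031 IH) (Lpe (K18.f179627 IH) (Lpe (K12.f179626 IH) (Lpr_et (f231130 IH) (Lpn (LP (LK LD1_c4 LD2_c17 LD3_c26)))))))))))))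
theorem f245898 : Led Lsl_gt (LP (LK LD1_c4 LD2_c17 LD3_c26)) = (LP (LK LD1_c8 LD2_c34 LD3_c2)) :=
  Lre_g IH (LK LD1_c4 LD2_c17 LD3_c26) (LK LD1_c8 LD2_c34 LD3_c2) Lrfl Lrfl
theorem f344371 : Led Lsl_af (LP (LK LD1_c8 LD2_c34 LD3_c2)) = (LP (LK LD1_c15 LD2_c49 LD3_c53)) :=
  Lgr Lrot31 (Lpe (f245898 IH) (Lpe (f296047 IH) (Lpr_ft (f344356 IH) (Lpn (LP (LK LD1_c15 LD2_c49 LD3_c53))))))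
theorem f344358 : Led Lsl_at (LP (LK LD1_c8 LD2_c33 LD3_c4)) = (LP (LK LD1_c8 LD2_c21 LD3_c20)) :=
  Lgr Lrot26 (Lpr_ff (f344354 IH) (Lpr_gt (f341047 IH) (Lpe (K20.f322365 IH) (Lpn (LP (LK LD1_c8 LD2_c21 LD3_c20))))))
theorem f344360 : Led Lsl_af (LP (LK LD1_c8 LD2_c33 LD3_c4)) = (LP (LK LD1_c8 LD2_c21 LD3_c20)) :=
  Lgr Lrot0 (Lpr_at (f344358 IH) (Lpn (LP (LK LD1_c8 LD2_c21 LD3_c20))))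
theorem f344376 : Led Lsl_ft (LP (LK LD1_c8 LD2_c34 LD3_c2)) = (LP (LK LD1_c8 LD2_c21 LD3_c20)) :=
  Lgr Lrot101 (Lpr_af (f344371 IH) (Lpe (f344356 IH) (Lpr_af (f344360 IH) (Lpn (LP (LK LD1_c8 LD2_c21 LD3_c20))))))
theorem f252038 : Led Lsl_et (LP (LK LD1_c8 LD2_c21 LD3_c20)) = (LP (LK LD1_c4 LD2_c10 LD3_c44)) :=
  Lre_e IH (LK LD1_c8 LD2_c21 LD3_c20) (LK LD1_c4 LD2_c10 LD3_c44) Lrfl Lrfl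
theorem f329389 : Led Lsl_ft (LP (LK LD1_c4 LD2_c10 LD3_c44)) = (LP (LK LD1_c4 LD2_c16 LD3_c51)) :=
  Lgr Lrot54 (Lpe (K19.f252034 IH) (Lpr_ff (K21.f329385 IH) (Lpe (K17.f290201 IH) (Lpn (LP (LK LD1_c4 LD2_c16 LD3_c51))))))
theorem f287779 : Led Lsl_et (LP (LK LD1_c4 LD2_c16 LD3_c51)) = (LP (LK LD1_c8 LD2_c33 LD3_c2)) :=
  Lre_e IH (LK LD1_c4 LD2_c16 LD3_c51) (LK LD1_c8 LD2_c33 LD3_c2) Lrfl Lrfl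
theorem f287781 : Led Lsl_ft (LP (LK LD1_c8 LD2_c33 LD3_c2)) = (LP (LK LD1_c16 LD2_c3 LD3_c4)) :=
  Lre_f IH (LK LD1_c8 LD2_c33 LD3_c2) (LK LD1_c16 LD2_c3 LD3_c4) Lrfl Lrfl
theorem f344383 : Led Lsl_ef (LP (LK LD1_c8 LD2_c34 LD3_c2)) = (LP (LK LD1_c16 LD2_c3 LD3_c4)) :=
  Lgr Lrot21 (Lpr_ft (f344376 IH) (Lpr_et (f252038 IH) (Lpr_ft (f329389 IH) (Lpr_et (f287779 IH) (Lpr_ft (f287781 IH) (Lpn (LP (LK LD1_c16 LD2_c3 LD3_c4))))))))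
theorem f344394 : Led Lsl_et (LP (LK LD1_c8 LD2_c34 LD3_c2)) = (LP (LK LD1_c16 LD2_c3 LD3_c4)) :=
  Lgr Lrot87 (Lpr_ef (f344383 IH) (Lpn (LP (LK LD1_c16 LD2_c3 LD3_c4))))
theorem f344385 : Led Lsl_ff (LP (LK LD1_c8 LD2_c34 LD3_c2)) = (LP (LK LD1_c8 LD2_c21 LD3_c20)) :=
  Lgr Lrot3 (Lpr_ft (f344376 IH) (Lpn (LP (LK LD1_c8 LD2_c21 LD3_c20))))
theorem f287780 : Led Lsl_ft (LP (LK LD1_c16 LD2_c3 LD3_c4)) = (LP (LK LD1_c8 LD2_c33 LD3_c2)) :=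
  Lre_f IH (LK LD1_c16 LD2_c3 LD3_c4) (LK LD1_c8 LD2_c33 LD3_c2) Lrfl Lrfl
theorem f344400 : Led Lsl_ff (LP (LK LD1_c4 LD2_c10 LD3_c44)) = (LP (LK LD1_c4 LD2_c16 LD3_c51)) :=
  Lgr Lrot72 (Lpr_et (K20.f252045 IH) (Lpe (f344385 IH) (Lpr_et (f344394 IH) (Lpr_ft (f287780 IH) (Lpr_et (K21.f287772 IH) (Lpn (LP (LK LD1_c4 LD2_c16 LD3_c51))))))))
theorem f324746 : Led Lsl_af (LP (LK LD1_c4 LD2_c16 LD3_c52)) = (LP (LK LD1_c4 LD2_c10 LD3_c44)) :=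
  Lgr Lrot68 (Lpr_ct (K17.f290237 IH) (Lpr_at (K21.f324744 IH) (Lpe (K14.f252035 IH) (Lpn (LP (LK LD1_c4 LD2_c10 LD3_c44))))))
theorem f344402 : Led Lsl_at (LP (LK LD1_c4 LD2_c10 LD3_c45)) = (LP (LK LD1_c4 LD2_c16 LD3_c51)) :=
  Lgr Lrot66 (Lpe (f324740 IH) (Lpr_af (f324746 IH) (Lpr_ff (f344400 IH) (Lpn (LP (LK LD1_c4 LD2_c16 LD3_c51))))))
theorem f344466 : Led Lsl_af (LP (LK LD1_c8 LD2_c21 LD3_c23)) = (LP (LK LD1_c8 LD2_c33 LD3_c2)) :=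
  Lgr Lrot50 (Lpr_et (K20.f167199 IH) (Lpr_at (f344402 IH) (Lpr_et (f287779 IH) (Lpn (LP (LK LD1_c8 LD2_c33 LD3_c2))))))
theorem f287777 : Led Lsl_dt (LP (LK LD1_c15 LD2_c45 LD3_c8)) = (LP (LK LD1_c8 LD2_c33 LD3_c2)) :=
  Lgr Lrot42 (Lpr_df (K21.f287773 IH) (Lpn (LP (LK LD1_c8 LD2_c33 LD3_c2))))
theorem f344468 : Led Lsl_at (LP (LK LD1_c15 LD2_c43 LD3_c37)) = (LP (LK LD1_c15 LD2_c45 LD3_c8)) :=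
  Lgr Lrot51 (Lpe (K20.f167197 IH) (Lpr_af (f344466 IH) (Lpe (f287777 IH) (Lpn (LP (LK LD1_c15 LD2_c45 LD3_c8))))))
theorem f344472 : Led Lsl_af (LP (LK LD1_c15 LD2_c43 LD3_c37)) = (LP (LK LD1_c15 LD2_c45 LD3_c8)) :=
  Lgr Lrot0 (Lpr_at (f344468 IH) (Lpn (LP (LK LD1_c15 LD2_c45 LD3_c8))))
theorem f167123 : Led Lsl_ct (LP (LK LD1_c25 LD2_c39 LD3_c49)) = (LP (LK LD1_c15 LD2_c43 LD3_c37)) :=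
  Lre_c IH (LK LD1_c25 LD2_c39 LD3_c49) (LK LD1_c15 LD2_c43 LD3_c37) Lrfl Lrfl
theorem f307805 : Led Lsl_dt (LP (LK LD1_c10 LD2_c38 LD3_c17)) = (LP (LK LD1_c19 LD2_c16 LD3_c21)) :=
  Lre_d IH (LK LD1_c10 LD2_c38 LD3_c17) (LK LD1_c19 LD2_c16 LD3_c21) Lrfl Lrfl
theorem f326347 : Led Lsl_ct (LP (LK LD1_c19 LD2_c16 LD3_c21)) = (LP (LK LD1_c28 LD2_c42 LD3_c30)) :=
  Lre_c IH (LK LD1_c19 LD2_c16 LD3_c21) (LK LD1_c28 LD2_c42 LD3_c30) Lrfl Lrfl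
theorem f339517 : Led Lsl_df (LP (LK LD1_c25 LD2_c39 LD3_c49)) = (LP (LK LD1_c28 LD2_c42 LD3_c30)) :=
  Lgr Lrot13 (Lpr_ct (f167123 IH) (Lpr_dt (K20.f167122 IH) (Lpr_ct (K20.f167105 IH) (Lpr_af (K22.f339507 IH) (Lpr_ff (K22.f326407 IH) (Lpe (K21.f326382 IH) (Lpr_ct (K21.f326349 IH) (Lpr_dt (f307805 IH) (Lpr_ct (f326347 IH) (Lpn (LP (LK LD1_c28 LD2_c42 LD3_c30))))))))))))
theorem f344381 : Led Lsl_cf (LP (LK LD1_c8 LD2_c34 LD3_c2)) = (LP (LK LD1_c9 LD2_c34 LD3_c49)) :=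
  Lgr Lrot108 (Lpr_ft (f344376 IH) (Lpr_ct (K20.f252046 IH) (Lpr_ft (K21.f326403 IH) (Lpn (LP (LK LD1_c9 LD2_c34 LD3_c49))))))
theorem f344398 : Led Lsl_cf (LP (LK LD1_c17 LD2_c38 LD3_c27)) = (LP (LK LD1_c16 LD2_c3 LD3_c4)) :=
  Lgr Lrot39 (Lpr_et (K21.f229633 IH) (Lpe (f344381 IH) (Lpr_et (f344394 IH) (Lpn (LP (LK LD1_c16 LD2_c3 LD3_c4))))))
theorem f288855 : Led Lsl_gt (LP (LK LD1_c25 LD2_c40 LD3_c56)) = (LP (LK LD1_c15 LD2_c44 LD3_c34)) :=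
  Lre_g IH (LK LD1_c25 LD2_c40 LD3_c56) (LK LD1_c15 LD2_c44 LD3_c34) Lrfl Lrfl
theorem f344474 : Led Lsl_ft (LP (LK LD1_c25 LD2_c40 LD3_c56)) = (LP (LK LD1_c15 LD2_c45 LD3_c8)) :=
  Lgr Lrot2 (Lpr_gt (f288855 IH) (Lpr_gt (K20.f295955 IH) (Lpr_af (f344472 IH) (Lpn (LP (LK LD1_c15 LD2_c45 LD3_c8))))))
theorem f344476 : Led Lsl_df (LP (LK LD1_c16 LD2_c3 LD3_c4)) = (LP (LK LD1_c25 LD2_c40 LD3_c56)) :=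
  Lgr Lrot157 (Lpe (f344398 IH) (Lpe (K21.f326382 IH) (Lpr_ct (K21.f326349 IH) (Lpr_dt (f307805 IH) (Lpr_ct (f326347 IH) (Lpe (f339517 IH) (Lpr_ct (f167123 IH) (Lpr_af (f344472 IH) (Lpe (f344474 IH) (Lpn (LP (LK LD1_c25 LD2_c40 LD3_c56))))))))))))
theorem f344480 : Led Lsl_dt (LP (LK LD1_c16 LD2_c3 LD3_c4)) = (LP (LK LD1_c25 LD2_c40 LD3_c56)) :=
  Lgr Lrot42 (Lpr_df (f344476 IH) (Lpn (LP (LK LD1_c25 LD2_c40 LD3_c56))))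
theorem f179722 : Led Lsl_gt (LP (LK LD1_c8 LD2_c33 LD3_c61)) = (LP (LK LD1_c4 LD2_c17 LD3_c25)) :=
  Lre_g IH (LK LD1_c8 LD2_c33 LD3_c61) (LK LD1_c4 LD2_c17 LD3_c25) Lrfl Lrfl
theorem f288840 : Led Lsl_et (LP (LK LD1_c8 LD2_c21 LD3_c57)) = (LP (LK LD1_c4 LD2_c11 LD3_c1)) :=
  Lre_e IH (LK LD1_c8 LD2_c21 LD3_c57) (LK LD1_c4 LD2_c11 LD3_c1) Lrfl Lrfl
theorem f344492 : Led Lsl_df (LP (LK LD1_c8 LD2_c33 LD3_c61)) = (LP (LK LD1_c4 LD2_c18 LD3_c1)) :=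
  Lgr Lrot135 (Lpr_gt (f179722 IH) (Lpe (K12.f179626 IH) (Lpr_et (f231130 IH) (Lpr_gt (f245898 IH) (Lpr_ef (f344383 IH) (Lpr_dt (f344480 IH) (Lpr_gt (f288855 IH) (Lpe (K20.f288854 IH) (Lpr_et (f288840 IH) (Lpr_gt (K17.f288847 IH) (Lpn (LP (LK LD1_c4 LD2_c18 LD3_c1)))))))))))))
theorem f250516 : Led Lsl_cf (LP (LK LD1_c8 LD2_c31 LD3_c57)) = (LP (LK LD1_c5 LD2_c21 LD3_c15)) :=
  Lgr Lrot11 (Lpr_ct (K14.f250511 IH) (Lpn (LP (LK LD1_c5 LD2_c21 LD3_c15))))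
theorem f219776 : Led Lsl_dt (LP (LK LD1_c4 LD2_c51 LD3_c40)) = (LP (LK LD1_c9 LD2_c35 LD3_c26)) :=
  Lre_d IH (LK LD1_c4 LD2_c51 LD3_c40) (LK LD1_c9 LD2_c35 LD3_c26) Lrfl Lrfl
theorem f295984 : Led Lsl_gt (LP (LK LD1_c7 LD2_c58 LD3_c6)) = (LP (LK LD1_c10 LD2_c32 LD3_c55)) :=
  Lgr Lrot94 (Lpr_cf (K16.f260901 IH) (Lpe (K15.f219267 IH) (Lpr_dt (K15.f219156 IH) (Lpe (K12.f219771 IH) (Lpr_dt (f219776 IH) (Lpr_cf (K18.f295940 IH) (Lpe (K18.f218076 IH) (Lpr_gf (K15.f218877 IH) (Lpe (K12.f48083 IH) (Lpn (LP (LK LD1_c10 LD2_c32 LD3_c55))))))))))))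
theorem f344510 : Led Lsl_cf (LP (LK LD1_c8 LD2_c33 LD3_c61)) = (LP (LK LD1_c10 LD2_c32 LD3_c55)) :=
  Lgr Lrot99 (Lpr_df (f344492 IH) (Lpe (K12.f221838 IH) (Lpr_gf (K12.f221832 IH) (Lpr_cf (f250516 IH) (Lpe (K14.f43199 IH) (Lpe (K9.f42658 IH) (Lpr_gt (K15.f42663 IH) (Lpe (K16.f260901 IH) (Lpr_gt (f295984 IH) (Lpn (LP (LK LD1_c10 LD2_c32 LD3_c55))))))))))))
theorem f288836 : Led Lsl_dt (LP (LK LD1_c8 LD2_c21 LD3_c56)) = (LP (LK LD1_c4 LD2_c11 LD3_c1)) :=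
  Lre_d IH (LK LD1_c8 LD2_c21 LD3_c56) (LK LD1_c4 LD2_c11 LD3_c1) Lrfl Lrfl
theorem f344499 : Led Lsl_ct (LP (LK LD1_c8 LD2_c33 LD3_c61)) = (LP (LK LD1_c10 LD2_c32 LD3_c55)) :=
  Lgr Lrot176 (Lpr_df (f344492 IH) (Lpe (K12.f221838 IH) (Lpe (K12.f188700 IH) (Lpr_cf (K15.f201080 IH) (Lpe (K12.f201112 IH) (Lpe (K12.f217973 IH) (Lpe (K18.f296005 IH) (Lpr_cf (K18.f296021 IH) (Lpe (K18.f296031 IH) (Lpe (K18.f221931 IH) (Lpe (K10.f43251 IH) (Lpr_cf (K10.f53948 IH) (Lpe (K16.f48132 IH) (Lpe (K10.f48051 IH) (Lpe (K12.f48083 IH) (Lpn (LP (LK LD1_c10 LD2_c32 LD3_c55))))))))))))))))))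
theorem f344508 : Led Lsl_gf (LP (LK LD1_c7 LD2_c58 LD3_c20)) = (LP (LK LD1_c10 LD2_c46 LD3_c32)) :=
  Lgr Lrot144 (Lpr_dt (K18.f223130 IH) (Lpr_gt (K12.f223086 IH) (Lpr_dt (K12.f48065 IH) (Lpe (f344499 IH) (Lpr_df (f344492 IH) (Lpe (K17.f288847 IH) (Lpe (f288836 IH) (Lpe (K18.f303342 IH) (Lpr_cf (K18.f290565 IH) (Lpn (LP (LK LD1_c10 LD2_c46 LD3_c32))))))))))))
theorem f344562 : Led Lsl_ct (LP (LK LD1_c8 LD2_c20 LD3_c41)) = (LP (LK LD1_c10 LD2_c46 LD3_c32)) :=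
  Lgr Lrot8 (Lpr_gt (K18.f303342 IH) (Lpr_dt (f288836 IH) (Lpr_gt (K17.f288847 IH) (Lpe (f344492 IH) (Lpr_cf (f344510 IH) (Lpe (K12.f48065 IH) (Lpe (K12.f223086 IH) (Lpe (K18.f223130 IH) (Lpr_gf (f344508 IH) (Lpn (LP (LK LD1_c10 LD2_c46 LD3_c32))))))))))))
theorem f167528 : Led Lsl_ct (LP (LK LD1_c8 LD2_c35 LD3_c1)) = (LP (LK LD1_c4 LD2_c18 LD3_c3)) :=
  Lre_c IH (LK LD1_c8 LD2_c35 LD3_c1) (LK LD1_c4 LD2_c18 LD3_c3) Lrfl Lrfl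
theorem f344573 : Led Lsl_gf (LP (LK LD1_c8 LD2_c35 LD3_c1)) = (LP (LK LD1_c15 LD2_c1 LD3_c22)) :=
  Lgr Lrot147 (Lpr_ct (f167528 IH) (Lpe (K18.f299287 IH) (Lpr_ct (f344562 IH) (Lpe (K18.f282874 IH) (Lpe (K18.f226775 IH) (Lpr_gf (K18.f282846 IH) (Lpr_cf (K18.f260987 IH) (Lpr_gf (K15.f254139 IH) (Lpe (K16.f221759 IH) (Lpn (LP (LK LD1_c15 LD2_c1 LD3_c22))))))))))))
theorem f219642 : Led Lsl_et (LP (LK LD1_c2 LD2_c1 LD3_c49)) = (LP (LK LD1_c4 LD2_c8 LD3_c54)) :=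
  Lre_e IH (LK LD1_c2 LD2_c1 LD3_c49) (LK LD1_c4 LD2_c8 LD3_c54) Lrfl Lrfl
theorem f324689 : Led Lsl_cf (LP (LK LD1_c4 LD2_c14 LD3_c3)) = (LP (LK LD1_c4 LD2_c8 LD3_c54)) :=
  Lgr Lrot39 (Lpr_et (K18.f260937 IH) (Lpr_ct (K21.f324672 IH) (Lpr_et (f219642 IH) (Lpn (LP (LK LD1_c4 LD2_c8 LD3_c54))))))
theorem f317665 : Led Lsl_df (LP (LK LD1_c4 LD2_c8 LD3_c61)) = (LP (LK LD1_c2 LD2_c40 LD3_c13)) :=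
  Lgr Lrot12 (Lpr_bt (K20.f259266 IH) (Lpr_dt (K20.f317661 IH) (Lpr_bt (K18.f282845 IH) (Lpn (LP (LK LD1_c2 LD2_c40 LD3_c13))))))
theorem f318028 : Led Lsl_cf (LP (LK LD1_c4 LD2_c19 LD3_c6)) = (LP (LK LD1_c4 LD2_c8 LD3_c61)) :=
  Lgr Lrot11 (Lpr_ct (K20.f318024 IH) (Lpn (LP (LK LD1_c4 LD2_c8 LD3_c61))))
theorem f284620 : Led Lsl_dt (LP (LK LD1_c15 LD2_c2 LD3_c9)) = (LP (LK LD1_c8 LD2_c20 LD3_c23)) :=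
  Lgr Lrot42 (Lpr_df (K18.f284610 IH) (Lpn (LP (LK LD1_c8 LD2_c20 LD3_c23))))
theorem f344567 : Led Lsl_df (LP (LK LD1_c4 LD2_c8 LD3_c54)) = (LP (LK LD1_c4 LD2_c10 LD3_c5)) :=
  Lgr Lrot43 (Lpe (f324689 IH) (Lpe (K18.f260938 IH) (Lpe (K14.f220347 IH) (Lpr_dt (K18.f171012 IH) (Lpr_ct (f344562 IH) (Lpr_dt (K19.f197009 IH) (Lpr_ct (K20.f197008 IH) (Lpe (f317665 IH) (Lpe (f318028 IH) (Lpr_dt (K17.f255980 IH) (Lpe (K15.f178509 IH) (Lpr_dt (K18.f178766 IH) (Lpe (K18.f295938 IH) (Lpr_dt (f284620 IH) (Lpr_ct (K18.f227991 IH) (Lpn (LP (LK LD1_c4 LD2_c10 LD3_c5))))))))))))))))))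
theorem f344577 : Led Lsl_gf (LP (LK LD1_c4 LD2_c17 LD3_c29)) = (LP (LK LD1_c4 LD2_c8 LD3_c54)) :=
  Lgr Lrot143 (Lpe (K18.f275628 IH) (Lpe (K12.f219632 IH) (Lpr_df (K18.f288817 IH) (Lpr_gf (f344573 IH) (Lpe (K16.f254122 IH) (Lpe (K16.f261273 IH) (Lpe (K12.f170699 IH) (Lpr_gt (K18.f170709 IH) (Lpe (f344567 IH) (Lpn (LP (LK LD1_c4 LD2_c8 LD3_c54))))))))))))
theorem f253546 : Led Lsl_gf (LP (LK LD1_c0 LD2_c39 LD3_c25)) = (LP (LK LD1_c1 LD2_c0 LD3_c43)) :=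
  Lgr Lrot147 (Lpr_ct (K9.f20631 IH) (Lpe (K9.f177160 IH) (Lpe (K0.f7888 IH) (Lpr_df (K0.f7723 IH) (Lpe (K9.f7732 IH) (Lpe (K12.f226537 IH) (Lpe (K12.f178170 IH) (Lpe (K12.f177852 IH) (Lpr_df (K14.f253528 IH) (Lpn (LP (LK LD1_c1 LD2_c0 LD3_c43))))))))))))
theorem f344581 : Led Lsl_bt (LP (LK LD1_c2 LD2_c8 LD3_c11)) = (LP (LK LD1_c4 LD2_c8 LD3_c54)) :=
  Lgr Lrot130 (Lpe (K13.f184369 IH) (Lpe (K14.f247176 IH) (Lpr_cf (K19.f181439 IH) (Lpr_bt (K19.f168966 IH) (Lpr_gf (f253546 IH) (Lpe (K14.f253531 IH) (Lpe (K15.f266945 IH) (Lpe (K17.f288799 IH) (Lpr_cf (K18.f288789 IH) (Lpr_gf (f344577 IH) (Lpn (LP (LK LD1_c4 LD2_c8 LD3_c54)))))))))))))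
theorem f178773 : Led Lsl_dt (LP (LK LD1_c8 LD2_c20 LD3_c44)) = (LP (LK LD1_c4 LD2_c10 LD3_c16)) :=
  Lre_d IH (LK LD1_c8 LD2_c20 LD3_c44) (LK LD1_c4 LD2_c10 LD3_c16) Lrfl Lrfl
theorem f220354 : Led Lsl_ct (LP (LK LD1_c4 LD2_c10 LD3_c15)) = (LP (LK LD1_c5 LD2_c29 LD3_c35)) :=
  Lgr Lrot59 (Lpr_cf (K14.f220347 IH) (Lpn (LP (LK LD1_c5 LD2_c29 LD3_c35))))
theorem f318017 : Led Lsl_at (LP (LK LD1_c2 LD2_c1 LD3_c52)) = (LP (LK LD1_c4 LD2_c8 LD3_c54)) :=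
  Lre_a IH (LK LD1_c2 LD2_c1 LD3_c52) (LK LD1_c4 LD2_c8 LD3_c54) Lrfl Lrfl
theorem f318018 : Led Lsl_ct (LP (LK LD1_c4 LD2_c14 LD3_c3)) = (LP (LK LD1_c4 LD2_c8 LD3_c54)) :=
  Lgr Lrot98 (Lpe (K20.f220517 IH) (Lpe (f220354 IH) (Lpe (K18.f220360 IH) (Lpr_cf (K18.f290565 IH) (Lpe (K18.f282874 IH) (Lpe (K18.f226775 IH) (Lpr_df (K20.f317752 IH) (Lpr_ft (K20.f318016 IH) (Lpr_at (f318017 IH) (Lpn (LP (LK LD1_c4 LD2_c8 LD3_c54))))))))))))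
theorem f318030 : Led Lsl_df (LP (LK LD1_c4 LD2_c10 LD3_c5)) = (LP (LK LD1_c4 LD2_c8 LD3_c54)) :=
  Lgr Lrot43 (Lpr_ct (K18.f170710 IH) (Lpe (K18.f284610 IH) (Lpe (K18.f296045 IH) (Lpr_dt (f178773 IH) (Lpr_ct (K19.f178764 IH) (Lpe (K19.f255930 IH) (Lpr_ct (K20.f318024 IH) (Lpe (K20.f317752 IH) (Lpr_ct (K18.f226775 IH) (Lpr_dt (K18.f282874 IH) (Lpe (K18.f290565 IH) (Lpr_dt (K18.f220360 IH) (Lpr_ct (f220354 IH) (Lpr_dt (K20.f220517 IH) (Lpr_ct (f318018 IH) (Lpn (LP (LK LD1_c4 LD2_c8 LD3_c54))))))))))))))))))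
theorem f344587 : Led Lsl_bf (LP (LK LD1_c4 LD2_c21 LD3_c21)) = (LP (LK LD1_c4 LD2_c10 LD3_c5)) :=
  Lgr Lrot93 (Lpr_dt (K13.f184413 IH) (Lpr_bt (f344581 IH) (Lpe (f318030 IH) (Lpn (LP (LK LD1_c4 LD2_c10 LD3_c5))))))
theorem f228537 : Led Lsl_bt (LP (LK LD1_c2 LD2_c38 LD3_c12)) = (LP (LK LD1_c4 LD2_c3 LD3_c38)) :=
  Lgr Lrot127 (Lpr_bf (K18.f228436 IH) (Lpn (LP (LK LD1_c4 LD2_c3 LD3_c38))))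
theorem f344595 : Led Lsl_ft (LP (LK LD1_c4 LD2_c3 LD3_c38)) = (LP (LK LD1_c4 LD2_c10 LD3_c5)) :=
  Lgr Lrot75 (Lpe (f228537 IH) (Lpr_ff (K21.f320674 IH) (Lpr_bf (f344587 IH) (Lpn (LP (LK LD1_c4 LD2_c10 LD3_c5))))))
theorem f344604 : Led Lsl_ff (LP (LK LD1_c4 LD2_c3 LD3_c38)) = (LP (LK LD1_c4 LD2_c10 LD3_c5)) :=
  Lgr Lrot3 (Lpr_ft (f344595 IH) (Lpn (LP (LK LD1_c4 LD2_c10 LD3_c5))))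
theorem f344608 : Led Lsl_at (LP (LK LD1_c4 LD2_c3 LD3_c38)) = (LP (LK LD1_c2 LD2_c40 LD3_c13)) :=
  Lgr Lrot26 (Lpr_ff (f344604 IH) (Lpr_gt (K18.f256772 IH) (Lpe (K18.f282846 IH) (Lpn (LP (LK LD1_c2 LD2_c40 LD3_c13))))))
theorem f318082 : Led Lsl_cf (LP (LK LD1_c4 LD2_c3 LD3_c38)) = (LP (LK LD1_c7 LD2_c57 LD3_c57)) :=
  Lgr Lrot99 (Lpr_df (K20.f300821 IH) (Lpr_cf (K20.f318074 IH) (Lpr_gf (K18.f278430 IH) (Lpr_cf (K13.f219197 IH) (Lpr_gf (K14.f253585 IH) (Lpr_df (K14.f254012 IH) (Lpe (K15.f261265 IH) (Lpr_ct (K16.f228016 IH) (Lpe (K18.f303275 IH) (Lpn (LP (LK LD1_c7 LD2_c57 LD3_c57))))))))))))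
theorem f344612 : Led Lsl_af (LP (LK LD1_c7 LD2_c57 LD3_c57)) = (LP (LK LD1_c5 LD2_c27 LD3_c43)) :=
  Lgr Lrot68 (Lpe (f318082 IH) (Lpr_at (f344608 IH) (Lpr_ct (K18.f226775 IH) (Lpn (LP (LK LD1_c5 LD2_c27 LD3_c43))))))
theorem f228540 : Led Lsl_bt (LP (LK LD1_c7 LD2_c57 LD3_c57)) = (LP (LK LD1_c15 LD2_c1 LD3_c30)) :=
  Lre_b IH (LK LD1_c7 LD2_c57 LD3_c57) (LK LD1_c15 LD2_c1 LD3_c30) Lrfl Lrfl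
theorem f344618 : Led Lsl_at (LP (LK LD1_c15 LD2_c1 LD3_c30)) = (LP (LK LD1_c24 LD2_c49 LD3_c34)) :=
  Lre_a IH (LK LD1_c15 LD2_c1 LD3_c30) (LK LD1_c24 LD2_c49 LD3_c34) Lrfl Lrfl
theorem f282882 : Led Lsl_bt (LP (LK LD1_c10 LD2_c46 LD3_c31)) = (LP (LK LD1_c5 LD2_c27 LD3_c43)) :=
  Lre_b IH (LK LD1_c10 LD2_c46 LD3_c31) (LK LD1_c5 LD2_c27 LD3_c43) Lrfl Lrfl
theorem f344619 : Led Lsl_at (LP (LK LD1_c19 LD2_c29 LD3_c13)) = (LP (LK LD1_c10 LD2_c46 LD3_c31)) :=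
  Lre_a IH (LK LD1_c19 LD2_c29 LD3_c13) (LK LD1_c10 LD2_c46 LD3_c31) Lrfl Lrfl
theorem f344620 : Led Lsl_bt (LP (LK LD1_c24 LD2_c49 LD3_c34)) = (LP (LK LD1_c19 LD2_c29 LD3_c13)) :=
  Lgr Lrot62 (Lpe (f344618 IH) (Lpe (f228540 IH) (Lpr_af (f344612 IH) (Lpe (f282882 IH) (Lpe (f344619 IH) (Lpn (LP (LK LD1_c19 LD2_c29 LD3_c13))))))))
theorem f344624 : Led Lsl_et (LP (LK LD1_c31 LD2_c40 LD3_c19)) = (LP (LK LD1_c24 LD2_c49 LD3_c34)) :=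
  Lre_e IH (LK LD1_c31 LD2_c40 LD3_c19) (LK LD1_c24 LD2_c49 LD3_c34) Lrfl Lrfl
theorem f344625 : Led Lsl_et (LP (LK LD1_c19 LD2_c29 LD3_c13)) = (LP (LK LD1_c28 LD2_c51 LD3_c21)) :=
  Lre_e IH (LK LD1_c19 LD2_c29 LD3_c13) (LK LD1_c28 LD2_c51 LD3_c21) Lrfl Lrfl
theorem f344626 : Led Lsl_bf (LP (LK LD1_c31 LD2_c40 LD3_c19)) = (LP (LK LD1_c28 LD2_c51 LD3_c21)) :=
  Lgr Lrot96 (Lpr_et (f344624 IH) (Lpr_bt (f344620 IH) (Lpr_et (f344625 IH) (Lpn (LP (LK LD1_c28 LD2_c51 LD3_c21))))))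
theorem f303403 : Led Lsl_ft (LP (LK LD1_c32 LD2_c39 LD3_c32)) = (LP (LK LD1_c28 LD2_c51 LD3_c21)) :=
  Lre_f IH (LK LD1_c32 LD2_c39 LD3_c32) (LK LD1_c28 LD2_c51 LD3_c21) Lrfl Lrfl
theorem f303381 : Led Lsl_bt (LP (LK LD1_c28 LD2_c51 LD3_c27)) = (LP (LK LD1_c19 LD2_c29 LD3_c19)) :=
  Lre_b IH (LK LD1_c28 LD2_c51 LD3_c27) (LK LD1_c19 LD2_c29 LD3_c19) Lrfl Lrfl
theorem f303382 : Led Lsl_at (LP (LK LD1_c32 LD2_c39 LD3_c32)) = (LP (LK LD1_c28 LD2_c51 LD3_c27)) :=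
  Lre_a IH (LK LD1_c32 LD2_c39 LD3_c32) (LK LD1_c28 LD2_c51 LD3_c27) Lrfl Lrfl
theorem f303383 : Led Lsl_bt (LP (LK LD1_c15 LD2_c28 LD3_c23)) = (LP (LK LD1_c25 LD2_c20 LD3_c29)) :=
  Lre_b IH (LK LD1_c15 LD2_c28 LD3_c23) (LK LD1_c25 LD2_c20 LD3_c29) Lrfl Lrfl
theorem f303384 : Led Lsl_at (LP (LK LD1_c25 LD2_c20 LD3_c29)) = (LP (LK LD1_c31 LD2_c51 LD3_c15)) :=
  Lre_a IH (LK LD1_c25 LD2_c20 LD3_c29) (LK LD1_c31 LD2_c51 LD3_c15) Lrfl Lrfl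
theorem f303385 : Led Lsl_bf (LP (LK LD1_c32 LD2_c39 LD3_c32)) = (LP (LK LD1_c31 LD2_c51 LD3_c15)) :=
  Lgr Lrot81 (Lpr_at (f303382 IH) (Lpr_bt (f303381 IH) (Lpr_at (K22.f303353 IH) (Lpr_bt (f303383 IH) (Lpr_at (f303384 IH) (Lpn (LP (LK LD1_c31 LD2_c51 LD3_c15))))))))
theorem f344634 : Led Lsl_ft (LP (LK LD1_c31 LD2_c40 LD3_c19)) = (LP (LK LD1_c31 LD2_c51 LD3_c15)) :=
  Lgr Lrot75 (Lpr_bf (f344626 IH) (Lpe (f303403 IH) (Lpr_bf (f303385 IH) (Lpn (LP (LK LD1_c31 LD2_c51 LD3_c15))))))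
theorem f344639 : Led Lsl_ff (LP (LK LD1_c31 LD2_c40 LD3_c19)) = (LP (LK LD1_c31 LD2_c51 LD3_c15)) :=
  Lgr Lrot3 (Lpr_ft (f344634 IH) (Lpn (LP (LK LD1_c31 LD2_c51 LD3_c15))))
theorem f344628 : Led Lsl_at (LP (LK LD1_c31 LD2_c40 LD3_c19)) = (LP (LK LD1_c24 LD2_c49 LD3_c36)) :=
  Lre_a IH (LK LD1_c31 LD2_c40 LD3_c19) (LK LD1_c24 LD2_c49 LD3_c36) Lrfl Lrfl
theorem f344641 : Led Lsl_ft (LP (LK LD1_c24 LD2_c49 LD3_c36)) = (LP (LK LD1_c25 LD2_c20 LD3_c29)) :=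
  Lgr Lrot101 (Lpe (f344628 IH) (Lpr_ff (f344639 IH) (Lpe (f303384 IH) (Lpn (LP (LK LD1_c25 LD2_c20 LD3_c29))))))
theorem f320893 : Led Lsl_bt (LP (LK LD1_c9 LD2_c0 LD3_c43)) = (LP (LK LD1_c16 LD2_c50 LD3_c20)) :=
  Lre_b IH (LK LD1_c9 LD2_c0 LD3_c43) (LK LD1_c16 LD2_c50 LD3_c20) Lrfl Lrfl
theorem f336253 : Led Lsl_bt (LP (LK LD1_c24 LD2_c49 LD3_c36)) = (LP (LK LD1_c15 LD2_c1 LD3_c32)) :=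
  Lre_b IH (LK LD1_c24 LD2_c49 LD3_c36) (LK LD1_c15 LD2_c1 LD3_c32) Lrfl Lrfl
theorem f339985 : Led Lsl_ct (LP (LK LD1_c16 LD2_c50 LD3_c20)) = (LP (LK LD1_c24 LD2_c49 LD3_c36)) :=
  Lgr Lrot83 (Lpe (f320893 IH) (Lpe (K20.f320889 IH) (Lpe (K20.f318111 IH) (Lpr_cf (f339954 IH) (Lpe (f336253 IH) (Lpn (LP (LK LD1_c24 LD2_c49 LD3_c36))))))))
theorem f316848 : Led Lsl_bt (LP (LK LD1_c16 LD2_c50 LD3_c20)) = (LP (LK LD1_c9 LD2_c0 LD3_c43)) :=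
  Lre_b IH (LK LD1_c16 LD2_c50 LD3_c20) (LK LD1_c9 LD2_c0 LD3_c43) Lrfl Lrfl
theorem f322828 : Led Lsl_bt (LP (LK LD1_c11 LD2_c57 LD3_c19)) = (LP (LK LD1_c21 LD2_c2 LD3_c24)) :=
  Lre_b IH (LK LD1_c11 LD2_c57 LD3_c19) (LK LD1_c21 LD2_c2 LD3_c24) Lrfl Lrfl
theorem f322829 : Led Lsl_ff (LP (LK LD1_c16 LD2_c50 LD3_c20)) = (LP (LK LD1_c21 LD2_c2 LD3_c24)) :=
  Lgr Lrot25 (Lpr_bt (f316848 IH) (Lpr_ft (K20.f322823 IH) (Lpr_bt (f322828 IH) (Lpn (LP (LK LD1_c21 LD2_c2 LD3_c24))))))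
theorem f344646 : Led Lsl_cf (LP (LK LD1_c21 LD2_c2 LD3_c24)) = (LP (LK LD1_c25 LD2_c20 LD3_c29)) :=
  Lgr Lrot108 (Lpe (f322829 IH) (Lpr_ct (f339985 IH) (Lpr_ft (f344641 IH) (Lpn (LP (LK LD1_c25 LD2_c20 LD3_c29))))))
theorem f322811 : Led Lsl_dt (LP (LK LD1_c21 LD2_c2 LD3_c25)) = (LP (LK LD1_c11 LD2_c57 LD3_c19)) :=
  Lre_d IH (LK LD1_c21 LD2_c2 LD3_c25) (LK LD1_c11 LD2_c57 LD3_c19) Lrfl Lrfl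
theorem f324571 : Led Lsl_et (LP (LK LD1_c29 LD2_c49 LD3_c48)) = (LP (LK LD1_c21 LD2_c2 LD3_c25)) :=
  Lre_e IH (LK LD1_c29 LD2_c49 LD3_c48) (LK LD1_c21 LD2_c2 LD3_c25) Lrfl Lrfl
theorem f324572 : Led Lsl_dt (LP (LK LD1_c11 LD2_c3 LD3_c33)) = (LP (LK LD1_c19 LD2_c55 LD3_c46)) :=
  Lre_d IH (LK LD1_c11 LD2_c3 LD3_c33) (LK LD1_c19 LD2_c55 LD3_c46) Lrfl Lrfl
theorem f324573 : Led Lsl_et (LP (LK LD1_c19 LD2_c55 LD3_c46)) = (LP (LK LD1_c29 LD2_c11 LD3_c38)) :=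
  Lre_e IH (LK LD1_c19 LD2_c55 LD3_c46) (LK LD1_c29 LD2_c11 LD3_c38) Lrfl Lrfl
theorem f324574 : Led Lsl_df (LP (LK LD1_c29 LD2_c49 LD3_c48)) = (LP (LK LD1_c29 LD2_c11 LD3_c38)) :=
  Lgr Lrot70 (Lpr_et (f324571 IH) (Lpr_dt (f322811 IH) (Lpr_et (K21.f324562 IH) (Lpr_dt (f324572 IH) (Lpr_et (f324573 IH) (Lpn (LP (LK LD1_c29 LD2_c11 LD3_c38))))))))
theorem f324580 : Led Lsl_dt (LP (LK LD1_c29 LD2_c49 LD3_c48)) = (LP (LK LD1_c29 LD2_c11 LD3_c38)) :=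
  Lgr Lrot42 (Lpr_df (f324574 IH) (Lpn (LP (LK LD1_c29 LD2_c11 LD3_c38))))
theorem f324583 : Led Lsl_bt (LP (LK LD1_c32 LD2_c48 LD3_c14)) = (LP (LK LD1_c29 LD2_c49 LD3_c48)) :=
  Lre_b IH (LK LD1_c32 LD2_c48 LD3_c14) (LK LD1_c29 LD2_c49 LD3_c48) Lrfl Lrfl
theorem f324584 : Led Lsl_bt (LP (LK LD1_c29 LD2_c11 LD3_c38)) = (LP (LK LD1_c32 LD2_c43 LD3_c15)) :=
  Lre_b IH (LK LD1_c29 LD2_c11 LD3_c38) (LK LD1_c32 LD2_c43 LD3_c15) Lrfl Lrfl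
theorem f324585 : Led Lsl_df (LP (LK LD1_c32 LD2_c48 LD3_c14)) = (LP (LK LD1_c32 LD2_c43 LD3_c15)) :=
  Lgr Lrot12 (Lpr_bt (f324583 IH) (Lpr_dt (f324580 IH) (Lpr_bt (f324584 IH) (Lpn (LP (LK LD1_c32 LD2_c43 LD3_c15))))))
theorem f324588 : Led Lsl_et (LP (LK LD1_c32 LD2_c48 LD3_c14)) = (LP (LK LD1_c29 LD2_c49 LD3_c46)) :=
  Lre_e IH (LK LD1_c32 LD2_c48 LD3_c14) (LK LD1_c29 LD2_c49 LD3_c46) Lrfl Lrfl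
theorem f324589 : Led Lsl_dt (LP (LK LD1_c29 LD2_c49 LD3_c46)) = (LP (LK LD1_c21 LD2_c2 LD3_c24)) :=
  Lre_d IH (LK LD1_c29 LD2_c49 LD3_c46) (LK LD1_c21 LD2_c2 LD3_c24) Lrfl Lrfl
theorem f324590 : Led Lsl_et (LP (LK LD1_c29 LD2_c11 LD3_c30)) = (LP (LK LD1_c32 LD2_c43 LD3_c15)) :=
  Lre_e IH (LK LD1_c29 LD2_c11 LD3_c30) (LK LD1_c32 LD2_c43 LD3_c15) Lrfl Lrfl
theorem f324591 : Led Lsl_dt (LP (LK LD1_c19 LD2_c55 LD3_c39)) = (LP (LK LD1_c29 LD2_c11 LD3_c30)) :=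
  Lre_d IH (LK LD1_c19 LD2_c55 LD3_c39) (LK LD1_c29 LD2_c11 LD3_c30) Lrfl Lrfl
theorem f324592 : Led Lsl_et (LP (LK LD1_c21 LD2_c2 LD3_c24)) = (LP (LK LD1_c19 LD2_c55 LD3_c39)) :=
  Lgr Lrot71 (Lpe (f324589 IH) (Lpe (f324588 IH) (Lpr_df (f324585 IH) (Lpe (f324590 IH) (Lpe (f324591 IH) (Lpn (LP (LK LD1_c19 LD2_c55 LD3_c39))))))))
theorem f324597 : Led Lsl_ct (LP (LK LD1_c19 LD2_c55 LD3_c39)) = (LP (LK LD1_c29 LD2_c11 LD3_c20)) :=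
  Lre_c IH (LK LD1_c19 LD2_c55 LD3_c39) (LK LD1_c29 LD2_c11 LD3_c20) Lrfl Lrfl
theorem f344658 : Led Lsl_et (LP (LK LD1_c29 LD2_c11 LD3_c20)) = (LP (LK LD1_c25 LD2_c20 LD3_c29)) :=
  Lgr Lrot158 (Lpe (f324597 IH) (Lpe (f324592 IH) (Lpr_cf (f344646 IH) (Lpn (LP (LK LD1_c25 LD2_c20 LD3_c29))))))
theorem f344664 : Led Lsl_ft (LP (LK LD1_c19 LD2_c55 LD3_c32)) = (LP (LK LD1_c29 LD2_c11 LD3_c20)) :=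
  Lre_f IH (LK LD1_c19 LD2_c55 LD3_c32) (LK LD1_c29 LD2_c11 LD3_c20) Lrfl Lrfl
theorem f344665 : Led Lsl_et (LP (LK LD1_c11 LD2_c3 LD3_c28)) = (LP (LK LD1_c19 LD2_c55 LD3_c32)) :=
  Lre_e IH (LK LD1_c11 LD2_c3 LD3_c28) (LK LD1_c19 LD2_c55 LD3_c32) Lrfl Lrfl
theorem f336254 : Led Lsl_ff (LP (LK LD1_c24 LD2_c49 LD3_c36)) = (LP (LK LD1_c25 LD2_c20 LD3_c29)) :=
  Lgr Lrot25 (Lpr_bt (f336253 IH) (Lpr_ft (K22.f336249 IH) (Lpr_bt (f303383 IH) (Lpn (LP (LK LD1_c25 LD2_c20 LD3_c29))))))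
theorem f344666 : Led Lsl_et (LP (LK LD1_c24 LD2_c49 LD3_c36)) = (LP (LK LD1_c15 LD2_c1 LD3_c30)) :=
  Lre_e IH (LK LD1_c24 LD2_c49 LD3_c36) (LK LD1_c15 LD2_c1 LD3_c30) Lrfl Lrfl
theorem f344667 : Led Lsl_ff (LP (LK LD1_c11 LD2_c3 LD3_c28)) = (LP (LK LD1_c15 LD2_c1 LD3_c30)) :=
  Lgr Lrot72 (Lpr_et (f344665 IH) (Lpr_ft (f344664 IH) (Lpr_et (f344658 IH) (Lpe (f336254 IH) (Lpr_et (f344666 IH) (Lpn (LP (LK LD1_c15 LD2_c1 LD3_c30))))))))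
theorem f344678 : Led Lsl_ft (LP (LK LD1_c11 LD2_c3 LD3_c28)) = (LP (LK LD1_c15 LD2_c1 LD3_c30)) :=
  Lgr Lrot48 (Lpr_ff (f344667 IH) (Lpn (LP (LK LD1_c15 LD2_c1 LD3_c30))))
theorem f316788 : Led Lsl_dt (LP (LK LD1_c19 LD2_c55 LD3_c31)) = (LP (LK LD1_c11 LD2_c3 LD3_c28)) :=
  Lre_d IH (LK LD1_c19 LD2_c55 LD3_c31) (LK LD1_c11 LD2_c3 LD3_c28) Lrfl Lrfl
theorem f344680 : Led Lsl_dt (LP (LK LD1_c15 LD2_c1 LD3_c30)) = (LP (LK LD1_c24 LD2_c49 LD3_c35)) :=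
  Lre_d IH (LK LD1_c15 LD2_c1 LD3_c30) (LK LD1_c24 LD2_c49 LD3_c35) Lrfl Lrfl
theorem f344687 : Led Lsl_ff (LP (LK LD1_c19 LD2_c55 LD3_c31)) = (LP (LK LD1_c24 LD2_c49 LD3_c35)) :=
  Lgr Lrot19 (Lpr_dt (f316788 IH) (Lpr_ft (f344678 IH) (Lpr_dt (f344680 IH) (Lpn (LP (LK LD1_c24 LD2_c49 LD3_c35))))))
theorem f303316 : Led Lsl_bt (LP (LK LD1_c15 LD2_c1 LD3_c31)) = (LP (LK LD1_c24 LD2_c49 LD3_c35)) :=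
  Lre_b IH (LK LD1_c15 LD2_c1 LD3_c31) (LK LD1_c24 LD2_c49 LD3_c35) Lrfl Lrfl
theorem f329082 : Led Lsl_ff (LP (LK LD1_c15 LD2_c1 LD3_c31)) = (LP (LK LD1_c15 LD2_c2 LD3_c9)) :=
  Lgr Lrot23 (Lpr_ct (K20.f303300 IH) (Lpr_ft (K21.f329078 IH) (Lpe (K18.f295938 IH) (Lpn (LP (LK LD1_c15 LD2_c2 LD3_c9))))))
theorem f344694 : Led Lsl_bt (LP (LK LD1_c19 LD2_c55 LD3_c31)) = (LP (LK LD1_c15 LD2_c2 LD3_c9)) :=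
  Lgr Lrot35 (Lpr_ff (f344687 IH) (Lpe (f303316 IH) (Lpr_ff (f329082 IH) (Lpn (LP (LK LD1_c15 LD2_c2 LD3_c9))))))
theorem f344701 : Led Lsl_et (LP (LK LD1_c29 LD2_c11 LD3_c17)) = (LP (LK LD1_c19 LD2_c55 LD3_c31)) :=
  Lre_e IH (LK LD1_c29 LD2_c11 LD3_c17) (LK LD1_c19 LD2_c55 LD3_c31) Lrfl Lrfl
theorem f284622 : Led Lsl_et (LP (LK LD1_c15 LD2_c2 LD3_c9)) = (LP (LK LD1_c24 LD2_c50 LD3_c42)) :=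
  Lre_e IH (LK LD1_c15 LD2_c2 LD3_c9) (LK LD1_c24 LD2_c50 LD3_c42) Lrfl Lrfl
theorem f344702 : Led Lsl_bf (LP (LK LD1_c29 LD2_c11 LD3_c17)) = (LP (LK LD1_c24 LD2_c50 LD3_c42)) :=
  Lgr Lrot96 (Lpr_et (f344701 IH) (Lpr_bt (f344694 IH) (Lpr_et (f284622 IH) (Lpn (LP (LK LD1_c24 LD2_c50 LD3_c42))))))
theorem f344707 : Led Lsl_dt (LP (LK LD1_c29 LD2_c11 LD3_c17)) = (LP (LK LD1_c32 LD2_c43 LD3_c13)) :=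
  Lre_d IH (LK LD1_c29 LD2_c11 LD3_c17) (LK LD1_c32 LD2_c43 LD3_c13) Lrfl Lrfl
theorem f284631 : Led Lsl_dt (LP (LK LD1_c31 LD2_c41 LD3_c13)) = (LP (LK LD1_c24 LD2_c50 LD3_c42)) :=
  Lre_d IH (LK LD1_c31 LD2_c41 LD3_c13) (LK LD1_c24 LD2_c50 LD3_c42) Lrfl Lrfl
theorem f344708 : Led Lsl_bt (LP (LK LD1_c32 LD2_c43 LD3_c13)) = (LP (LK LD1_c31 LD2_c41 LD3_c13)) :=
  Lgr Lrot95 (Lpe (f344707 IH) (Lpr_bf (f344702 IH) (Lpe (f284631 IH) (Lpn (LP (LK LD1_c31 LD2_c41 LD3_c13))))))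
theorem f344713 : Led Lsl_et (LP (LK LD1_c29 LD2_c11 LD3_c19)) = (LP (LK LD1_c32 LD2_c43 LD3_c13)) :=
  Lre_e IH (LK LD1_c29 LD2_c11 LD3_c19) (LK LD1_c32 LD2_c43 LD3_c13) Lrfl Lrfl
theorem f284623 : Led Lsl_dt (LP (LK LD1_c24 LD2_c50 LD3_c42)) = (LP (LK LD1_c31 LD2_c41 LD3_c13)) :=
  Lre_d IH (LK LD1_c24 LD2_c50 LD3_c42) (LK LD1_c31 LD2_c41 LD3_c13) Lrfl Lrfl
theorem f284615 : Led Lsl_et (LP (LK LD1_c15 LD2_c41 LD3_c50)) = (LP (LK LD1_c8 LD2_c20 LD3_c23)) :=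
  Lre_e IH (LK LD1_c15 LD2_c41 LD3_c50) (LK LD1_c8 LD2_c20 LD3_c23) Lrfl Lrfl
theorem f284624 : Led Lsl_dt (LP (LK LD1_c25 LD2_c37 LD3_c27)) = (LP (LK LD1_c15 LD2_c41 LD3_c50)) :=
  Lre_d IH (LK LD1_c25 LD2_c37 LD3_c27) (LK LD1_c15 LD2_c41 LD3_c50) Lrfl Lrfl
theorem f284625 : Led Lsl_et (LP (LK LD1_c31 LD2_c41 LD3_c13)) = (LP (LK LD1_c25 LD2_c37 LD3_c27)) :=
  Lgr Lrot71 (Lpe (f284623 IH) (Lpe (f284622 IH) (Lpr_df (K18.f284610 IH) (Lpe (f284615 IH) (Lpe (f284624 IH) (Lpn (LP (LK LD1_c25 LD2_c37 LD3_c27))))))))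
theorem f344714 : Led Lsl_bf (LP (LK LD1_c29 LD2_c11 LD3_c19)) = (LP (LK LD1_c25 LD2_c37 LD3_c27)) :=
  Lgr Lrot96 (Lpr_et (f344713 IH) (Lpr_bt (f344708 IH) (Lpr_et (f284625 IH) (Lpn (LP (LK LD1_c25 LD2_c37 LD3_c27))))))
theorem f344719 : Led Lsl_dt (LP (LK LD1_c29 LD2_c11 LD3_c19)) = (LP (LK LD1_c19 LD2_c55 LD3_c32)) :=
  Lre_d IH (LK LD1_c29 LD2_c11 LD3_c19) (LK LD1_c19 LD2_c55 LD3_c32) Lrfl Lrfl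
theorem f284616 : Led Lsl_dt (LP (LK LD1_c15 LD2_c41 LD3_c50)) = (LP (LK LD1_c25 LD2_c37 LD3_c27)) :=
  Lre_d IH (LK LD1_c15 LD2_c41 LD3_c50) (LK LD1_c25 LD2_c37 LD3_c27) Lrfl Lrfl
theorem f344720 : Led Lsl_bt (LP (LK LD1_c19 LD2_c55 LD3_c32)) = (LP (LK LD1_c15 LD2_c41 LD3_c50)) :=
  Lgr Lrot95 (Lpe (f344719 IH) (Lpr_bf (f344714 IH) (Lpe (f284616 IH) (Lpn (LP (LK LD1_c15 LD2_c41 LD3_c50))))))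
theorem f344690 : Led Lsl_ft (LP (LK LD1_c29 LD2_c11 LD3_c20)) = (LP (LK LD1_c19 LD2_c55 LD3_c32)) :=
  Lre_f IH (LK LD1_c29 LD2_c11 LD3_c20) (LK LD1_c19 LD2_c55 LD3_c32) Lrfl Lrfl
theorem f287884 : Led Lsl_bt (LP (LK LD1_c25 LD2_c20 LD3_c29)) = (LP (LK LD1_c15 LD2_c28 LD3_c23)) :=
  Lre_b IH (LK LD1_c25 LD2_c20 LD3_c29) (LK LD1_c15 LD2_c28 LD3_c23) Lrfl Lrfl
theorem f274207 : Led Lsl_et (LP (LK LD1_c15 LD2_c28 LD3_c23)) = (LP (LK LD1_c25 LD2_c20 LD3_c31)) :=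
  Lre_e IH (LK LD1_c15 LD2_c28 LD3_c23) (LK LD1_c25 LD2_c20 LD3_c31) Lrfl Lrfl
theorem f344660 : Led Lsl_bf (LP (LK LD1_c29 LD2_c11 LD3_c20)) = (LP (LK LD1_c25 LD2_c20 LD3_c31)) :=
  Lgr Lrot96 (Lpr_et (f344658 IH) (Lpr_bt (f287884 IH) (Lpr_et (f274207 IH) (Lpn (LP (LK LD1_c25 LD2_c20 LD3_c31))))))
theorem f344727 : Led Lsl_ff (LP (LK LD1_c25 LD2_c20 LD3_c31)) = (LP (LK LD1_c15 LD2_c41 LD3_c50)) :=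
  Lgr Lrot25 (Lpe (f344660 IH) (Lpr_ft (f344690 IH) (Lpr_bt (f344720 IH) (Lpn (LP (LK LD1_c15 LD2_c41 LD3_c50))))))
theorem f290810 : Led Lsl_ct (LP (LK LD1_c8 LD2_c20 LD3_c24)) = (LP (LK LD1_c15 LD2_c41 LD3_c50)) :=
  Lre_c IH (LK LD1_c8 LD2_c20 LD3_c24) (LK LD1_c15 LD2_c41 LD3_c50) Lrfl Lrfl
theorem f344732 : Led Lsl_ct (LP (LK LD1_c25 LD2_c20 LD3_c31)) = (LP (LK LD1_c15 LD2_c41 LD3_c52)) :=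
  Lgr Lrot40 (Lpr_ff (f344727 IH) (Lpe (f290810 IH) (Lpe (K21.f331293 IH) (Lpn (LP (LK LD1_c15 LD2_c41 LD3_c52))))))
theorem f292405 : Led Lsl_ft (LP (LK LD1_c15 LD2_c36 LD3_c23)) = (LP (LK LD1_c15 LD2_c49 LD3_c25)) :=
  Lgr Lrot48 (Lpr_ff (K21.f292383 IH) (Lpn (LP (LK LD1_c15 LD2_c49 LD3_c25))))
theorem f219692 : Led Lsl_ft (LP (LK LD1_c15 LD2_c36 LD3_c24)) = (LP (LK LD1_c8 LD2_c17 LD3_c56)) :=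
  Lre_f IH (LK LD1_c15 LD2_c36 LD3_c24) (LK LD1_c8 LD2_c17 LD3_c56) Lrfl Lrfl
theorem f292412 : Led Lsl_cf (LP (LK LD1_c15 LD2_c36 LD3_c24)) = (LP (LK LD1_c15 LD2_c49 LD3_c25)) :=
  Lgr Lrot108 (Lpr_ft (f219692 IH) (Lpr_ct (K22.f292411 IH) (Lpr_ft (f292405 IH) (Lpn (LP (LK LD1_c15 LD2_c49 LD3_c25))))))
theorem f221749 : Led Lsl_ct (LP (LK LD1_c15 LD2_c1 LD3_c24)) = (LP (LK LD1_c24 LD2_c49 LD3_c23)) :=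
  Lre_c IH (LK LD1_c15 LD2_c1 LD3_c24) (LK LD1_c24 LD2_c49 LD3_c23) Lrfl Lrfl
theorem f344770 : Led Lsl_gf (LP (LK LD1_c25 LD2_c20 LD3_c31)) = (LP (LK LD1_c24 LD2_c49 LD3_c23)) :=
  Lgr Lrot104 (Lpr_ct (f344732 IH) (Lpe (K21.f331294 IH) (Lpr_cf (f292412 IH) (Lpe (K21.f292425 IH) (Lpr_cf (K21.f329465 IH) (Lpe (K21.f329461 IH) (Lpr_df (K14.f254046 IH) (Lpr_gt (K18.f221748 IH) (Lpr_ct (f221749 IH) (Lpn (LP (LK LD1_c24 LD2_c49 LD3_c23))))))))))))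
theorem f344736 : Led Lsl_ft (LP (LK LD1_c25 LD2_c20 LD3_c31)) = (LP (LK LD1_c15 LD2_c41 LD3_c50)) :=
  Lgr Lrot48 (Lpr_ff (f344727 IH) (Lpn (LP (LK LD1_c15 LD2_c41 LD3_c50))))
theorem f290811 : Led Lsl_ct (LP (LK LD1_c15 LD2_c41 LD3_c50)) = (LP (LK LD1_c8 LD2_c20 LD3_c24)) :=
  Lre_c IH (LK LD1_c15 LD2_c41 LD3_c50) (LK LD1_c8 LD2_c20 LD3_c24) Lrfl Lrfl
theorem f331297 : Led Lsl_ft (LP (LK LD1_c8 LD2_c20 LD3_c24)) = (LP (LK LD1_c15 LD2_c41 LD3_c52)) :=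
  Lre_f IH (LK LD1_c8 LD2_c20 LD3_c24) (LK LD1_c15 LD2_c41 LD3_c52) Lrfl Lrfl
theorem f344740 : Led Lsl_cf (LP (LK LD1_c25 LD2_c20 LD3_c31)) = (LP (LK LD1_c15 LD2_c41 LD3_c52)) :=
  Lgr Lrot108 (Lpr_ft (f344736 IH) (Lpr_ct (f290811 IH) (Lpr_ft (f331297 IH) (Lpn (LP (LK LD1_c15 LD2_c41 LD3_c52))))))
theorem f189420 : Led Lsl_ct (LP (LK LD1_c2 LD2_c43 LD3_c41)) = (LP (LK LD1_c5 LD2_c35 LD3_c27)) :=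
  Lre_c IH (LK LD1_c2 LD2_c43 LD3_c41) (LK LD1_c5 LD2_c35 LD3_c27) Lrfl Lrfl
theorem f189435 : Led Lsl_gt (LP (LK LD1_c5 LD2_c35 LD3_c24)) = (LP (LK LD1_c11 LD2_c2 LD3_c56)) :=
  Lre_g IH (LK LD1_c5 LD2_c35 LD3_c24) (LK LD1_c11 LD2_c2 LD3_c56) Lrfl Lrfl
theorem f344773 : Led Lsl_bf (LP (LK LD1_c11 LD2_c2 LD3_c56)) = (LP (LK LD1_c15 LD2_c1 LD3_c24)) :=
  Lgr Lrot34 (Lpe (f189435 IH) (Lpe (K13.f189417 IH) (Lpr_ct (f189420 IH) (Lpe (K19.f189414 IH) (Lpe (K19.f308632 IH) (Lpe (f340670 IH) (Lpr_bf (K22.f331308 IH) (Lpe (f344740 IH) (Lpr_gf (f344770 IH) (Lpe (f221749 IH) (Lpn (LP (LK LD1_c15 LD2_c1 LD3_c24)))))))))))))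
theorem f301650 : Led Lsl_bt (LP (LK LD1_c17 LD2_c42 LD3_c14)) = (LP (LK LD1_c9 LD2_c36 LD3_c53)) :=
  Lre_b IH (LK LD1_c17 LD2_c42 LD3_c14) (LK LD1_c9 LD2_c36 LD3_c53) Lrfl Lrfl
theorem f344777 : Led Lsl_dt (LP (LK LD1_c11 LD2_c2 LD3_c56)) = (LP (LK LD1_c17 LD2_c42 LD3_c14)) :=
  Lgr Lrot79 (Lpr_bf (f344773 IH) (Lpe (K18.f301648 IH) (Lpe (f301650 IH) (Lpn (LP (LK LD1_c17 LD2_c42 LD3_c14))))))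
theorem f344779 : Led Lsl_df (LP (LK LD1_c11 LD2_c2 LD3_c56)) = (LP (LK LD1_c17 LD2_c42 LD3_c14)) :=
  Lgr Lrot38 (Lpr_dt (f344777 IH) (Lpn (LP (LK LD1_c17 LD2_c42 LD3_c14))))
theorem f54038 : Led Lsl_ef (LP (LK LD1_c2 LD2_c35 LD3_c13)) = (LP (LK LD1_c4 LD2_c7 LD3_c29)) :=
  Lgr Lrot20 (Lpr_at (K11.f54037 IH) (Lpr_et (K9.f54035 IH) (Lpe (K9.f53616 IH) (Lpn (LP (LK LD1_c4 LD2_c7 LD3_c29))))))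
theorem f278453 : Led Lsl_gt (LP (LK LD1_c8 LD2_c42 LD3_c33)) = (LP (LK LD1_c8 LD2_c26 LD3_c43)) :=
  Lgr Lrot112 (Lpr_df (K20.f278451 IH) (Lpr_et (K14.f32948 IH) (Lpe (K10.f32140 IH) (Lpr_ef (f54038 IH) (Lpr_dt (K10.f44943 IH) (Lpe (K14.f223069 IH) (Lpe (K12.f223026 IH) (Lpr_gf (K14.f234751 IH) (Lpe (K21.f189436 IH) (Lpr_dt (K13.f189418 IH) (Lpn (LP (LK LD1_c8 LD2_c26 LD3_c43)))))))))))))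
theorem f311974 : Led Lsl_df (LP (LK LD1_c4 LD2_c14 LD3_c8)) = (LP (LK LD1_c4 LD2_c22 LD3_c17)) :=
  Lgr Lrot38 (Lpr_dt (K19.f311966 IH) (Lpn (LP (LK LD1_c4 LD2_c22 LD3_c17))))
theorem f311980 : Led Lsl_gf (LP (LK LD1_c4 LD2_c14 LD3_c8)) = (LP (LK LD1_c4 LD2_c55 LD3_c8)) :=
  Lgr Lrot144 (Lpr_dt (K19.f311966 IH) (Lpr_gt (K14.f173263 IH) (Lpr_dt (K14.f173262 IH) (Lpe (K12.f173251 IH) (Lpe (K14.f173256 IH) (Lpe (K14.f173261 IH) (Lpe (K14.f254690 IH) (Lpe (K14.f254504 IH) (Lpr_cf (K15.f246710 IH) (Lpn (LP (LK LD1_c4 LD2_c55 LD3_c8))))))))))))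
theorem f256045 : Led Lsl_bt (LP (LK LD1_c8 LD2_c1 LD3_c27)) = (LP (LK LD1_c4 LD2_c9 LD3_c41)) :=
  Lgr Lrot127 (Lpr_bf (K14.f256042 IH) (Lpn (LP (LK LD1_c4 LD2_c9 LD3_c41))))
theorem f257958 : Led Lsl_df (LP (LK LD1_c4 LD2_c55 LD3_c8)) = (LP (LK LD1_c4 LD2_c9 LD3_c41)) :=
  Lgr Lrot12 (Lpr_bt (K15.f257947 IH) (Lpe (K15.f257945 IH) (Lpr_bt (f256045 IH) (Lpn (LP (LK LD1_c4 LD2_c9 LD3_c41))))))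
theorem f344781 : Led Lsl_et (LP (LK LD1_c17 LD2_c42 LD3_c14)) = (LP (LK LD1_c9 LD2_c36 LD3_c50)) :=
  Lre_e IH (LK LD1_c17 LD2_c42 LD3_c14) (LK LD1_c9 LD2_c36 LD3_c50) Lrfl Lrfl
theorem f344786 : Led Lsl_gf (LP (LK LD1_c8 LD2_c19 LD3_c26)) = (LP (LK LD1_c9 LD2_c36 LD3_c50)) :=
  Lgr Lrot141 (Lpe (K17.f251799 IH) (Lpe (f257958 IH) (Lpe (f311980 IH) (Lpr_df (f311974 IH) (Lpr_et (K16.f232296 IH) (Lpr_gt (f278453 IH) (Lpe (K19.f189398 IH) (Lpr_gt (f189435 IH) (Lpr_df (f344779 IH) (Lpr_et (f344781 IH) (Lpn (LP (LK LD1_c9 LD2_c36 LD3_c50)))))))))))))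
theorem f32943 : Led Lsl_gt (LP (LK LD1_c5 LD2_c17 LD3_c28)) = (LP (LK LD1_c10 LD2_c24 LD3_c29)) :=
  Lre_g IH (LK LD1_c5 LD2_c17 LD3_c28) (LK LD1_c10 LD2_c24 LD3_c29) Lrfl Lrfl
theorem f344785 : Led Lsl_dt (LP (LK LD1_c17 LD2_c42 LD3_c13)) = (LP (LK LD1_c9 LD2_c36 LD3_c50)) :=
  Lre_d IH (LK LD1_c17 LD2_c42 LD3_c13) (LK LD1_c9 LD2_c36 LD3_c50) Lrfl Lrfl
theorem f344794 : Led Lsl_ef (LP (LK LD1_c10 LD2_c24 LD3_c29)) = (LP (LK LD1_c17 LD2_c42 LD3_c13)) :=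
  Lgr Lrot17 (Lpe (f32943 IH) (Lpe (K10.f32117 IH) (Lpr_dt (K10.f32101 IH) (Lpr_gf (K9.f165857 IH) (Lpe (K12.f165866 IH) (Lpr_gf (K15.f266764 IH) (Lpr_ef (K16.f273867 IH) (Lpr_dt (K18.f251797 IH) (Lpr_gf (f344786 IH) (Lpe (f344785 IH) (Lpn (LP (LK LD1_c17 LD2_c42 LD3_c13)))))))))))))
theorem f344802 : Led Lsl_et (LP (LK LD1_c10 LD2_c24 LD3_c29)) = (LP (LK LD1_c17 LD2_c42 LD3_c13)) :=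
  Lgr Lrot87 (Lpr_ef (f344794 IH) (Lpn (LP (LK LD1_c17 LD2_c42 LD3_c13))))
theorem f320331 : Led Lsl_bt (LP (LK LD1_c17 LD2_c42 LD3_c13)) = (LP (LK LD1_c9 LD2_c36 LD3_c52)) :=
  Lre_b IH (LK LD1_c17 LD2_c42 LD3_c13) (LK LD1_c9 LD2_c36 LD3_c52) Lrfl Lrfl
theorem f41342 : Led Lsl_gt (LP (LK LD1_c7 LD2_c58 LD3_c43)) = (LP (LK LD1_c3 LD2_c58 LD3_c35)) :=
  Lre_g IH (LK LD1_c7 LD2_c58 LD3_c43) (LK LD1_c3 LD2_c58 LD3_c35) Lrfl Lrfl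
theorem f305697 : Led Lsl_at (LP (LK LD1_c2 LD2_c45 LD3_c46)) = (LP (LK LD1_c5 LD2_c39 LD3_c40)) :=
  Lre_a IH (LK LD1_c2 LD2_c45 LD3_c46) (LK LD1_c5 LD2_c39 LD3_c40) Lrfl Lrfl
theorem f301210 : Led Lsl_at (LP (LK LD1_c9 LD2_c36 LD3_c38)) = (LP (LK LD1_c4 LD2_c52 LD3_c14)) :=
  Lre_a IH (LK LD1_c9 LD2_c36 LD3_c38) (LK LD1_c4 LD2_c52 LD3_c14) Lrfl Lrfl
theorem f305698 : Led Lsl_dt (LP (LK LD1_c5 LD2_c39 LD3_c40)) = (LP (LK LD1_c9 LD2_c36 LD3_c38)) :=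
  Lgr Lrot44 (Lpe (f305697 IH) (Lpr_df (K19.f305693 IH) (Lpe (f301210 IH) (Lpn (LP (LK LD1_c9 LD2_c36 LD3_c38))))))
theorem f301660 : Led Lsl_gt (LP (LK LD1_c9 LD2_c36 LD3_c38)) = (LP (LK LD1_c4 LD2_c52 LD3_c13)) :=
  Lre_g IH (LK LD1_c9 LD2_c36 LD3_c38) (LK LD1_c4 LD2_c52 LD3_c13) Lrfl Lrfl
theorem f301656 : Led Lsl_dt (LP (LK LD1_c9 LD2_c36 LD3_c52)) = (LP (LK LD1_c4 LD2_c52 LD3_c13)) :=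
  Lre_d IH (LK LD1_c9 LD2_c36 LD3_c52) (LK LD1_c4 LD2_c52 LD3_c13) Lrfl Lrfl
theorem f320327 : Led Lsl_ef (LP (LK LD1_c7 LD2_c58 LD3_c43)) = (LP (LK LD1_c9 LD2_c36 LD3_c52)) :=
  Lgr Lrot114 (Lpr_gt (f41342 IH) (Lpe (K14.f41337 IH) (Lpr_dt (K14.f41339 IH) (Lpr_gt (K17.f171913 IH) (Lpe (K14.f41972 IH) (Lpr_et (K21.f55008 IH) (Lpr_gt (K21.f320318 IH) (Lpr_dt (f305698 IH) (Lpr_gt (f301660 IH) (Lpe (f301656 IH) (Lpn (LP (LK LD1_c9 LD2_c36 LD3_c52)))))))))))))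
theorem f344804 : Led Lsl_bf (LP (LK LD1_c10 LD2_c24 LD3_c29)) = (LP (LK LD1_c7 LD2_c58 LD3_c43)) :=
  Lgr Lrot96 (Lpr_et (f344802 IH) (Lpr_bt (f320331 IH) (Lpe (f320327 IH) (Lpn (LP (LK LD1_c7 LD2_c58 LD3_c43))))))
theorem f222440 : Led Lsl_af (LP (LK LD1_c8 LD2_c17 LD3_c8)) = (LP (LK LD1_c5 LD2_c35 LD3_c11)) :=
  Lgr Lrot45 (Lpr_ft (K12.f222438 IH) (Lpr_at (K10.f32932 IH) (Lpr_ft (K12.f212869 IH) (Lpn (LP (LK LD1_c5 LD2_c35 LD3_c11))))))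
theorem f222466 : Led Lsl_gf (LP (LK LD1_c8 LD2_c17 LD3_c8)) = (LP (LK LD1_c10 LD2_c24 LD3_c29)) :=
  Lgr Lrot76 (Lpr_af (f222440 IH) (Lpe (K12.f212869 IH) (Lpr_gt (f32943 IH) (Lpn (LP (LK LD1_c10 LD2_c24 LD3_c29))))))
theorem f28099 : Led Lsl_ct (LP (LK LD1_c8 LD2_c6 LD3_c31)) = (LP (LK LD1_c15 LD2_c16 LD3_c3)) :=
  Lre_c IH (LK LD1_c8 LD2_c6 LD3_c31) (LK LD1_c15 LD2_c16 LD3_c3) Lrfl Lrfl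
theorem f324280 : Led Lsl_gf (LP (LK LD1_c10 LD2_c24 LD3_c28)) = (LP (LK LD1_c15 LD2_c16 LD3_c3)) :=
  Lgr Lrot126 (Lpe (K16.f32939 IH) (Lpr_bt (K10.f32967 IH) (Lpr_gt (K14.f28498 IH) (Lpr_ct (K21.f28499 IH) (Lpr_gt (K21.f324276 IH) (Lpe (K21.f235553 IH) (Lpr_bt (K21.f295188 IH) (Lpr_gt (K21.f295207 IH) (Lpe (f324067 IH) (Lpr_ct (f28099 IH) (Lpn (LP (LK LD1_c15 LD2_c16 LD3_c3)))))))))))))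
theorem f216938 : Led Lsl_ef (LP (LK LD1_c2 LD2_c42 LD3_c19)) = (LP (LK LD1_c5 LD2_c16 LD3_c61)) :=
  Lgr Lrot28 (Lpr_ct (K12.f216933 IH) (Lpe (f54038 IH) (Lpr_ct (K10.f54061 IH) (Lpn (LP (LK LD1_c5 LD2_c16 LD3_c61))))))
theorem f187724 : Led Lsl_et (LP (LK LD1_c11 LD2_c55 LD3_c21)) = (LP (LK LD1_c6 LD2_c5 LD3_c59)) :=
  Lre_e IH (LK LD1_c11 LD2_c55 LD3_c21) (LK LD1_c6 LD2_c5 LD3_c59) Lrfl Lrfl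
theorem f222477 : Led Lsl_et (LP (LK LD1_c4 LD2_c29 LD3_c24)) = (LP (LK LD1_c8 LD2_c57 LD3_c0)) :=
  Lre_e IH (LK LD1_c4 LD2_c29 LD3_c24) (LK LD1_c8 LD2_c57 LD3_c0) Lrfl Lrfl
theorem f222489 : Led Lsl_ff (LP (LK LD1_c11 LD2_c55 LD3_c21)) = (LP (LK LD1_c8 LD2_c57 LD3_c0)) :=
  Lgr Lrot72 (Lpr_et (f187724 IH) (Lpr_ft (K10.f187642 IH) (Lpe (f216938 IH) (Lpr_ft (K12.f222485 IH) (Lpr_et (f222477 IH) (Lpn (LP (LK LD1_c8 LD2_c57 LD3_c0))))))))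
theorem f324282 : Led Lsl_gt (LP (LK LD1_c8 LD2_c57 LD3_c0)) = (LP (LK LD1_c15 LD2_c16 LD3_c3)) :=
  Lgr Lrot5 (Lpe (f222489 IH) (Lpr_at (f187654 IH) (Lpr_gf (f324280 IH) (Lpn (LP (LK LD1_c15 LD2_c16 LD3_c3))))))
theorem f222452 : Led Lsl_bt (LP (LK LD1_c8 LD2_c17 LD3_c8)) = (LP (LK LD1_c8 LD2_c23 LD3_c60)) :=
  Lgr Lrot35 (Lpr_ff (K12.f222444 IH) (Lpe (K10.f183654 IH) (Lpe (K17.f220851 IH) (Lpn (LP (LK LD1_c8 LD2_c23 LD3_c60))))))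
theorem f337948 : Led Lsl_cf (LP (LK LD1_c8 LD2_c57 LD3_c0)) = (LP (LK LD1_c8 LD2_c17 LD3_c8)) :=
  Lgr Lrot160 (Lpr_gt (f324282 IH) (Lpe (f28099 IH) (Lpr_bt (f324067 IH) (Lpe (K21.f295208 IH) (Lpr_ct (K10.f45536 IH) (Lpr_gt (K22.f295261 IH) (Lpr_cf (K22.f337937 IH) (Lpr_bt (K22.f324131 IH) (Lpr_gt (K21.f219347 IH) (Lpe (f222452 IH) (Lpn (LP (LK LD1_c8 LD2_c17 LD3_c8)))))))))))))
theorem f41343 : Led Lsl_ct (LP (LK LD1_c7 LD2_c58 LD3_c43)) = (LP (LK LD1_c15 LD2_c3 LD3_c13)) :=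
  Lre_c IH (LK LD1_c7 LD2_c58 LD3_c43) (LK LD1_c15 LD2_c3 LD3_c13) Lrfl Lrfl
theorem f344824 : Led Lsl_gt (LP (LK LD1_c15 LD2_c28 LD3_c29)) = (LP (LK LD1_c15 LD2_c3 LD3_c13)) :=
  Lgr Lrot65 (Lpr_cf (K22.f183545 IH) (Lpr_bt (K10.f45602 IH) (Lpr_gf (K21.f295208 IH) (Lpe (f324067 IH) (Lpr_ct (f28099 IH) (Lpe (f324282 IH) (Lpr_cf (f337948 IH) (Lpr_gf (f222466 IH) (Lpr_bf (f344804 IH) (Lpr_ct (f41343 IH) (Lpn (LP (LK LD1_c15 LD2_c3 LD3_c13)))))))))))))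
theorem f217983 : Led Lsl_et (LP (LK LD1_c15 LD2_c2 LD3_c3)) = (LP (LK LD1_c7 LD2_c58 LD3_c11)) :=
  Lre_e IH (LK LD1_c15 LD2_c2 LD3_c3) (LK LD1_c7 LD2_c58 LD3_c11) Lrfl Lrfl
theorem f217984 : Led Lsl_ff (LP (LK LD1_c15 LD2_c2 LD3_c3)) = (LP (LK LD1_c15 LD2_c28 LD3_c29)) :=
  Lgr Lrot72 (Lpr_et (f217983 IH) (Lpr_ft (K12.f217978 IH) (Lpr_et (K11.f54380 IH) (Lpe (K10.f183522 IH) (Lpr_et (K15.f183511 IH) (Lpn (LP (LK LD1_c15 LD2_c28 LD3_c29))))))))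
theorem f218007 : Led Lsl_at (LP (LK LD1_c31 LD2_c41 LD3_c7)) = (LP (LK LD1_c24 LD2_c50 LD3_c33)) :=
  Lre_a IH (LK LD1_c31 LD2_c41 LD3_c7) (LK LD1_c24 LD2_c50 LD3_c33) Lrfl Lrfl
theorem f217992 : Led Lsl_bt (LP (LK LD1_c24 LD2_c50 LD3_c33)) = (LP (LK LD1_c15 LD2_c2 LD3_c3)) :=
  Lre_b IH (LK LD1_c24 LD2_c50 LD3_c33) (LK LD1_c15 LD2_c2 LD3_c3) Lrfl Lrfl
theorem f275559 : Led Lsl_at (LP (LK LD1_c25 LD2_c37 LD3_c24)) = (LP (LK LD1_c31 LD2_c56 LD3_c53)) :=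
  Lre_a IH (LK LD1_c25 LD2_c37 LD3_c24) (LK LD1_c31 LD2_c56 LD3_c53) Lrfl Lrfl
theorem f212824 : Led Lsl_bt (LP (LK LD1_c15 LD2_c41 LD3_c49)) = (LP (LK LD1_c25 LD2_c37 LD3_c24)) :=
  Lre_b IH (LK LD1_c15 LD2_c41 LD3_c49) (LK LD1_c25 LD2_c37 LD3_c24) Lrfl Lrfl
theorem f275594 : Led Lsl_at (LP (LK LD1_c15 LD2_c2 LD3_c3)) = (LP (LK LD1_c15 LD2_c41 LD3_c49)) :=
  Lgr Lrot67 (Lpe (f217992 IH) (Lpe (f218007 IH) (Lpr_bf (K16.f275592 IH) (Lpe (f275559 IH) (Lpe (f212824 IH) (Lpn (LP (LK LD1_c15 LD2_c41 LD3_c49))))))))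
theorem f344826 : Led Lsl_gf (LP (LK LD1_c15 LD2_c41 LD3_c49)) = (LP (LK LD1_c15 LD2_c3 LD3_c13)) :=
  Lgr Lrot76 (Lpe (f275594 IH) (Lpr_ff (f217984 IH) (Lpr_gt (f344824 IH) (Lpn (LP (LK LD1_c15 LD2_c3 LD3_c13))))))
theorem f28496 : Led Lsl_ct (LP (LK LD1_c4 LD2_c20 LD3_c1)) = (LP (LK LD1_c8 LD2_c38 LD3_c0)) :=
  Lre_c IH (LK LD1_c4 LD2_c20 LD3_c1) (LK LD1_c8 LD2_c38 LD3_c0) Lrfl Lrfl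
theorem f28500 : Led Lsl_gt (LP (LK LD1_c16 LD2_c10 LD3_c19)) = (LP (LK LD1_c8 LD2_c38 LD3_c0)) :=
  Lre_g IH (LK LD1_c16 LD2_c10 LD3_c19) (LK LD1_c8 LD2_c38 LD3_c0) Lrfl Lrfl
theorem f344840 : Led Lsl_ct (LP (LK LD1_c8 LD2_c39 LD3_c25)) = (LP (LK LD1_c16 LD2_c10 LD3_c19)) :=
  Lgr Lrot91 (Lpr_gf (K19.f235478 IH) (Lpr_bf (K22.f275571 IH) (Lpr_ct (K16.f212822 IH) (Lpr_gf (f344826 IH) (Lpe (f41343 IH) (Lpe (f344804 IH) (Lpe (f32943 IH) (Lpr_bf (K10.f32971 IH) (Lpr_ct (f28496 IH) (Lpe (f28500 IH) (Lpn (LP (LK LD1_c16 LD2_c10 LD3_c19)))))))))))))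
theorem f32053 : Led Lsl_at (LP (LK LD1_c8 LD2_c38 LD3_c47)) = (LP (LK LD1_c8 LD2_c38 LD3_c0)) :=
  Lgr Lrot107 (Lpe (K20.f31089 IH) (Lpr_af (K10.f32038 IH) (Lpe (K12.f28497 IH) (Lpn (LP (LK LD1_c8 LD2_c38 LD3_c0))))))
theorem f212686 : Led Lsl_gf (LP (LK LD1_c16 LD2_c10 LD3_c19)) = (LP (LK LD1_c9 LD2_c0 LD3_c31)) :=
  Lgr Lrot47 (Lpr_gt (f28500 IH) (Lpe (f32053 IH) (Lpr_ff (K14.f212675 IH) (Lpn (LP (LK LD1_c9 LD2_c0 LD3_c31))))))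
theorem f212876 : Led Lsl_at (LP (LK LD1_c4 LD2_c31 LD3_c17)) = (LP (LK LD1_c2 LD2_c43 LD3_c34)) :=
  Lgr Lrot66 (Lpe (K14.f212681 IH) (Lpr_af (K10.f32038 IH) (Lpr_ff (K12.f212874 IH) (Lpn (LP (LK LD1_c2 LD2_c43 LD3_c34))))))
theorem f292517 : Led Lsl_at (LP (LK LD1_c8 LD2_c23 LD3_c60)) = (LP (LK LD1_c8 LD2_c37 LD3_c3)) :=
  Lgr Lrot67 (Lpe (f222452 IH) (Lpr_af (f222440 IH) (Lpe (K20.f212897 IH) (Lpe (f212876 IH) (Lpr_bf (K17.f292515 IH) (Lpn (LP (LK LD1_c8 LD2_c37 LD3_c3))))))))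
theorem f341002 : Led Lsl_gt (LP (LK LD1_c15 LD2_c25 LD3_c57)) = (LP (LK LD1_c8 LD2_c37 LD3_c3)) :=
  Lgr Lrot46 (Lpr_gf (f341000 IH) (Lpr_ft (K17.f219379 IH) (Lpr_at (f292517 IH) (Lpn (LP (LK LD1_c8 LD2_c37 LD3_c3))))))
theorem f196552 : Led Lsl_ft (LP (LK LD1_c16 LD2_c13 LD3_c31)) = (LP (LK LD1_c10 LD2_c35 LD3_c17)) :=
  Lgr Lrot4 (Lpe (K21.f30854 IH) (Lpr_ff (K10.f196550 IH) (Lpe (K12.f194656 IH) (Lpn (LP (LK LD1_c10 LD2_c35 LD3_c17))))))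
theorem f217327 : Led Lsl_at (LP (LK LD1_c10 LD2_c35 LD3_c17)) = (LP (LK LD1_c9 LD2_c42 LD3_c7)) :=
  Lgr Lrot66 (Lpe (f196552 IH) (Lpe (K21.f191247 IH) (Lpr_ff (K12.f217320 IH) (Lpn (LP (LK LD1_c9 LD2_c42 LD3_c7))))))
theorem f340384 : Led Lsl_gt (LP (LK LD1_c16 LD2_c13 LD3_c31)) = (LP (LK LD1_c15 LD2_c25 LD3_c58)) :=
  Lgr Lrot5 (Lpr_ft (f196552 IH) (Lpr_at (f217327 IH) (Lpr_gf (f340382 IH) (Lpn (LP (LK LD1_c15 LD2_c25 LD3_c58))))))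
theorem f196809 : Led Lsl_gt (LP (LK LD1_c5 LD2_c22 LD3_c15)) = (LP (LK LD1_c10 LD2_c34 LD3_c59)) :=
  Lre_g IH (LK LD1_c5 LD2_c22 LD3_c15) (LK LD1_c10 LD2_c34 LD3_c59) Lrfl Lrfl
theorem f196810 : Led Lsl_gt (LP (LK LD1_c10 LD2_c34 LD3_c59)) = (LP (LK LD1_c8 LD2_c39 LD3_c48)) :=
  Lgr Lrot46 (Lpe (f196809 IH) (Lpr_ft (K12.f196800 IH) (Lpe (K12.f50367 IH) (Lpn (LP (LK LD1_c8 LD2_c39 LD3_c48))))))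
theorem f344846 : Led Lsl_bt (LP (LK LD1_c8 LD2_c39 LD3_c25)) = (LP (LK LD1_c10 LD2_c34 LD3_c59)) :=
  Lgr Lrot130 (Lpr_ct (f344840 IH) (Lpr_gf (f212686 IH) (Lpe (K14.f212680 IH) (Lpr_bt (K20.f292519 IH) (Lpe (f341002 IH) (Lpe (f312588 IH) (Lpr_ct (f309870 IH) (Lpe (f340384 IH) (Lpe (K21.f30854 IH) (Lpe (f196810 IH) (Lpn (LP (LK LD1_c10 LD2_c34 LD3_c59)))))))))))))
theorem f196812 : Led Lsl_dt (LP (LK LD1_c19 LD2_c10 LD3_c29)) = (LP (LK LD1_c10 LD2_c34 LD3_c59)) :=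
  Lre_d IH (LK LD1_c19 LD2_c10 LD3_c29) (LK LD1_c10 LD2_c34 LD3_c59) Lrfl Lrfl
theorem f291713 : Led Lsl_et (LP (LK LD1_c19 LD2_c10 LD3_c29)) = (LP (LK LD1_c18 LD2_c39 LD3_c44)) :=
  Lgr Lrot122 (Lpr_dt (f196812 IH) (Lpr_gt (f196810 IH) (Lpr_df (K10.f30852 IH) (Lpr_et (K10.f30849 IH) (Lpr_gt (K14.f50614 IH) (Lpr_dt (K14.f231292 IH) (Lpr_gt (K16.f271192 IH) (Lpr_df (K20.f291671 IH) (Lpr_et (K18.f291673 IH) (Lpr_gt (K18.f291690 IH) (Lpn (LP (LK LD1_c18 LD2_c39 LD3_c44)))))))))))))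
theorem f291717 : Led Lsl_ef (LP (LK LD1_c19 LD2_c10 LD3_c29)) = (LP (LK LD1_c18 LD2_c39 LD3_c44)) :=
  Lgr Lrot88 (Lpr_et (f291713 IH) (Lpn (LP (LK LD1_c18 LD2_c39 LD3_c44))))
theorem f284552 : Led Lsl_et (LP (LK LD1_c10 LD2_c28 LD3_c7)) = (LP (LK LD1_c18 LD2_c58 LD3_c25)) :=
  Lre_e IH (LK LD1_c10 LD2_c28 LD3_c7) (LK LD1_c18 LD2_c58 LD3_c25) Lrfl Lrfl
theorem f193174 : Led Lsl_dt (LP (LK LD1_c18 LD2_c58 LD3_c24)) = (LP (LK LD1_c10 LD2_c28 LD3_c7)) :=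
  Lre_d IH (LK LD1_c18 LD2_c58 LD3_c24) (LK LD1_c10 LD2_c28 LD3_c7) Lrfl Lrfl
theorem f291719 : Led Lsl_et (LP (LK LD1_c10 LD2_c34 LD3_c59)) = (LP (LK LD1_c18 LD2_c58 LD3_c24)) :=
  Lgr Lrot71 (Lpe (f196812 IH) (Lpr_ef (f291717 IH) (Lpr_df (K18.f291699 IH) (Lpe (f284552 IH) (Lpe (f193174 IH) (Lpn (LP (LK LD1_c18 LD2_c58 LD3_c24))))))))
theorem f344852 : Led Lsl_bf (LP (LK LD1_c16 LD2_c12 LD3_c51)) = (LP (LK LD1_c18 LD2_c58 LD3_c24)) :=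
  Lgr Lrot96 (Lpr_et (K19.f31153 IH) (Lpr_bt (f344846 IH) (Lpr_et (f291719 IH) (Lpn (LP (LK LD1_c18 LD2_c58 LD3_c24))))))
theorem f193175 : Led Lsl_dt (LP (LK LD1_c10 LD2_c28 LD3_c7)) = (LP (LK LD1_c18 LD2_c58 LD3_c24)) :=
  Lre_d IH (LK LD1_c10 LD2_c28 LD3_c7) (LK LD1_c18 LD2_c58 LD3_c24) Lrfl Lrfl
theorem f344856 : Led Lsl_bt (LP (LK LD1_c10 LD2_c20 LD3_c47)) = (LP (LK LD1_c10 LD2_c28 LD3_c7)) :=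
  Lgr Lrot95 (Lpr_df (K19.f293374 IH) (Lpr_bf (f344852 IH) (Lpe (f193175 IH) (Lpn (LP (LK LD1_c10 LD2_c28 LD3_c7))))))
theorem f344862 : Led Lsl_bf (LP (LK LD1_c18 LD2_c39 LD3_c61)) = (LP (LK LD1_c18 LD2_c58 LD3_c25)) :=
  Lgr Lrot96 (Lpe (K19.f293363 IH) (Lpr_bt (f344856 IH) (Lpr_et (f284552 IH) (Lpn (LP (LK LD1_c18 LD2_c58 LD3_c25))))))
theorem f291701 : Led Lsl_dt (LP (LK LD1_c18 LD2_c39 LD3_c44)) = (LP (LK LD1_c18 LD2_c58 LD3_c25)) :=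
  Lgr Lrot42 (Lpr_df (K18.f291699 IH) (Lpn (LP (LK LD1_c18 LD2_c58 LD3_c25))))
theorem f344939 : Led Lsl_bt (LP (LK LD1_c10 LD2_c15 LD3_c46)) = (LP (LK LD1_c18 LD2_c39 LD3_c44)) :=
  Lgr Lrot95 (Lpe (K19.f241916 IH) (Lpr_bf (f344862 IH) (Lpe (f291701 IH) (Lpn (LP (LK LD1_c18 LD2_c39 LD3_c44))))))
theorem f344941 : Led Lsl_bf (LP (LK LD1_c10 LD2_c15 LD3_c46)) = (LP (LK LD1_c18 LD2_c39 LD3_c44)) :=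
  Lgr Lrot24 (Lpr_bt (f344939 IH) (Lpn (LP (LK LD1_c18 LD2_c39 LD3_c44))))
theorem f321027 : Led Lsl_df (LP (LK LD1_c7 LD2_c55 LD3_c46)) = (LP (LK LD1_c10 LD2_c42 LD3_c51)) :=
  Lgr Lrot38 (Lpr_dt (K20.f321023 IH) (Lpn (LP (LK LD1_c10 LD2_c42 LD3_c51))))
theorem f329868 : Led Lsl_gt (LP (LK LD1_c10 LD2_c15 LD3_c46)) = (LP (LK LD1_c10 LD2_c0 LD3_c54)) :=
  Lgr Lrot131 (Lpr_ef (K19.f241911 IH) (Lpr_dt (K19.f31151 IH) (Lpr_gf (K19.f235478 IH) (Lpe (K19.f235471 IH) (Lpr_gf (K21.f329837 IH) (Lpe (K20.f321029 IH) (Lpe (f321027 IH) (Lpe (K20.f269910 IH) (Lpe (K16.f260581 IH) (Lpr_et (K16.f273291 IH) (Lpn (LP (LK LD1_c10 LD2_c0 LD3_c54)))))))))))))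
theorem f192622 : Led Lsl_ct (LP (LK LD1_c10 LD2_c0 LD3_c54)) = (LP (LK LD1_c18 LD2_c17 LD3_c60)) :=
  Lre_c IH (LK LD1_c10 LD2_c0 LD3_c54) (LK LD1_c18 LD2_c17 LD3_c60) Lrfl Lrfl
theorem f257683 : Led Lsl_ct (LP (LK LD1_c18 LD2_c9 LD3_c11)) = (LP (LK LD1_c9 LD2_c54 LD3_c61)) :=
  Lre_c IH (LK LD1_c18 LD2_c9 LD3_c11) (LK LD1_c9 LD2_c54 LD3_c61) Lrfl Lrfl
theorem f284026 : Led Lsl_ct (LP (LK LD1_c25 LD2_c16 LD3_c58)) = (LP (LK LD1_c15 LD2_c24 LD3_c44)) :=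
  Lre_c IH (LK LD1_c25 LD2_c16 LD3_c58) (LK LD1_c15 LD2_c24 LD3_c44) Lrfl Lrfl
theorem f310877 : Led Lsl_ct (LP (LK LD1_c9 LD2_c42 LD3_c1)) = (LP (LK LD1_c4 LD2_c55 LD3_c14)) :=
  Lre_c IH (LK LD1_c9 LD2_c42 LD3_c1) (LK LD1_c4 LD2_c55 LD3_c14) Lrfl Lrfl
theorem f312570 : Led Lsl_ef (LP (LK LD1_c9 LD2_c42 LD3_c1)) = (LP (LK LD1_c10 LD2_c15 LD3_c34)) :=
  Lgr Lrot28 (Lpr_ct (f310877 IH) (Lpr_et (K19.f312562 IH) (Lpr_ct (K17.f291651 IH) (Lpn (LP (LK LD1_c10 LD2_c15 LD3_c34))))))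
theorem f307162 : Led Lsl_ef (LP (LK LD1_c25 LD2_c16 LD3_c58)) = (LP (LK LD1_c16 LD2_c51 LD3_c13)) :=
  Lgr Lrot28 (Lpr_ct (f284026 IH) (Lpr_et (K19.f307142 IH) (Lpr_ct (K21.f307086 IH) (Lpn (LP (LK LD1_c16 LD2_c51 LD3_c13))))))
theorem f312604 : Led Lsl_ft (LP (LK LD1_c25 LD2_c16 LD3_c58)) = (LP (LK LD1_c15 LD2_c24 LD3_c41)) :=
  Lre_f IH (LK LD1_c25 LD2_c16 LD3_c58) (LK LD1_c15 LD2_c24 LD3_c41) Lrfl Lrfl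
theorem f188088 : Led Lsl_et (LP (LK LD1_c15 LD2_c24 LD3_c41)) = (LP (LK LD1_c8 LD2_c11 LD3_c7)) :=
  Lre_e IH (LK LD1_c15 LD2_c24 LD3_c41) (LK LD1_c8 LD2_c11 LD3_c7) Lrfl Lrfl
theorem f312605 : Led Lsl_ff (LP (LK LD1_c10 LD2_c15 LD3_c34)) = (LP (LK LD1_c8 LD2_c11 LD3_c7)) :=
  Lgr Lrot72 (Lpe (f312570 IH) (Lpr_ft (K19.f312599 IH) (Lpe (f307162 IH) (Lpr_ft (f312604 IH) (Lpr_et (f188088 IH) (Lpn (LP (LK LD1_c8 LD2_c11 LD3_c7))))))))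
theorem f180032 : Led Lsl_at (LP (LK LD1_c2 LD2_c44 LD3_c27)) = (LP (LK LD1_c5 LD2_c37 LD3_c3)) :=
  Lre_a IH (LK LD1_c2 LD2_c44 LD3_c27) (LK LD1_c5 LD2_c37 LD3_c3) Lrfl Lrfl
theorem f291653 : Led Lsl_af (LP (LK LD1_c5 LD2_c37 LD3_c4)) = (LP (LK LD1_c10 LD2_c15 LD3_c34)) :=
  Lgr Lrot68 (Lpr_ct (K17.f178450 IH) (Lpr_at (f180032 IH) (Lpr_ct (K17.f291651 IH) (Lpn (LP (LK LD1_c10 LD2_c15 LD3_c34))))))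
theorem f291647 : Led Lsl_ff (LP (LK LD1_c5 LD2_c3 LD3_c3)) = (LP (LK LD1_c5 LD2_c37 LD3_c4)) :=
  Lgr Lrot3 (Lpr_ft (K17.f291642 IH) (Lpn (LP (LK LD1_c5 LD2_c37 LD3_c4))))
theorem f312615 : Led Lsl_at (LP (LK LD1_c5 LD2_c3 LD3_c3)) = (LP (LK LD1_c8 LD2_c11 LD3_c7)) :=
  Lgr Lrot66 (Lpr_ff (f291647 IH) (Lpr_af (f291653 IH) (Lpr_ff (f312605 IH) (Lpn (LP (LK LD1_c8 LD2_c11 LD3_c7))))))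
theorem f291646 : Led Lsl_et (LP (LK LD1_c9 LD2_c56 LD3_c56)) = (LP (LK LD1_c5 LD2_c3 LD3_c3)) :=
  Lre_e IH (LK LD1_c9 LD2_c56 LD3_c56) (LK LD1_c5 LD2_c3 LD3_c3) Lrfl Lrfl
theorem f284761 : Led Lsl_et (LP (LK LD1_c8 LD2_c11 LD3_c7)) = (LP (LK LD1_c15 LD2_c24 LD3_c41)) :=
  Lre_e IH (LK LD1_c8 LD2_c11 LD3_c7) (LK LD1_c15 LD2_c24 LD3_c41) Lrfl Lrfl
theorem f312633 : Led Lsl_af (LP (LK LD1_c9 LD2_c56 LD3_c56)) = (LP (LK LD1_c15 LD2_c24 LD3_c41)) :=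
  Lgr Lrot50 (Lpr_et (f291646 IH) (Lpr_at (f312615 IH) (Lpr_et (f284761 IH) (Lpn (LP (LK LD1_c15 LD2_c24 LD3_c41))))))
theorem f307087 : Led Lsl_et (LP (LK LD1_c16 LD2_c51 LD3_c15)) = (LP (LK LD1_c9 LD2_c1 LD3_c15)) :=
  Lre_e IH (LK LD1_c16 LD2_c51 LD3_c15) (LK LD1_c9 LD2_c1 LD3_c15) Lrfl Lrfl
theorem f180033 : Led Lsl_ct (LP (LK LD1_c5 LD2_c39 LD3_c46)) = (LP (LK LD1_c2 LD2_c45 LD3_c49)) :=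
  Lre_c IH (LK LD1_c5 LD2_c39 LD3_c46) (LK LD1_c2 LD2_c45 LD3_c49) Lrfl Lrfl
theorem f180034 : Led Lsl_ef (LP (LK LD1_c5 LD2_c39 LD3_c46)) = (LP (LK LD1_c5 LD2_c37 LD3_c4)) :=
  Lgr Lrot28 (Lpr_ct (f180033 IH) (Lpr_et (K14.f180029 IH) (Lpr_ct (K15.f178452 IH) (Lpn (LP (LK LD1_c5 LD2_c37 LD3_c4))))))
theorem f180041 : Led Lsl_et (LP (LK LD1_c5 LD2_c39 LD3_c46)) = (LP (LK LD1_c5 LD2_c37 LD3_c4)) :=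
  Lgr Lrot87 (Lpr_ef (f180034 IH) (Lpn (LP (LK LD1_c5 LD2_c37 LD3_c4))))
theorem f247672 : Led Lsl_et (LP (LK LD1_c5 LD2_c3 LD3_c3)) = (LP (LK LD1_c9 LD2_c56 LD3_c56)) :=
  Lre_e IH (LK LD1_c5 LD2_c3 LD3_c3) (LK LD1_c9 LD2_c56 LD3_c56) Lrfl Lrfl
theorem f307088 : Led Lsl_ff (LP (LK LD1_c16 LD2_c51 LD3_c15)) = (LP (LK LD1_c9 LD2_c56 LD3_c56)) :=
  Lgr Lrot72 (Lpr_et (f307087 IH) (Lpr_ft (K19.f307084 IH) (Lpr_et (f180041 IH) (Lpe (f291647 IH) (Lpr_et (f247672 IH) (Lpn (LP (LK LD1_c9 LD2_c56 LD3_c56))))))))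
theorem f312637 : Led Lsl_at (LP (LK LD1_c16 LD2_c51 LD3_c15)) = (LP (LK LD1_c25 LD2_c16 LD3_c58)) :=
  Lgr Lrot66 (Lpr_ff (f307088 IH) (Lpr_af (f312633 IH) (Lpe (f312604 IH) (Lpn (LP (LK LD1_c25 LD2_c16 LD3_c58))))))
theorem f247673 : Led Lsl_gt (LP (LK LD1_c9 LD2_c56 LD3_c56)) = (LP (LK LD1_c18 LD2_c12 LD3_c32)) :=
  Lre_g IH (LK LD1_c9 LD2_c56 LD3_c56) (LK LD1_c18 LD2_c12 LD3_c32) Lrfl Lrfl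
theorem f312645 : Led Lsl_gt (LP (LK LD1_c18 LD2_c12 LD3_c32)) = (LP (LK LD1_c25 LD2_c16 LD3_c58)) :=
  Lgr Lrot46 (Lpe (f247673 IH) (Lpe (f307088 IH) (Lpr_at (f312637 IH) (Lpn (LP (LK LD1_c25 LD2_c16 LD3_c58))))))
theorem f330500 : Led Lsl_cf (LP (LK LD1_c18 LD2_c12 LD3_c32)) = (LP (LK LD1_c18 LD2_c39 LD3_c44)) :=
  Lgr Lrot169 (Lpr_gt (f312645 IH) (Lpr_ct (f284026 IH) (Lpr_df (K19.f284019 IH) (Lpe (f257683 IH) (Lpr_gf (K21.f257764 IH) (Lpr_cf (K21.f330490 IH) (Lpe (K19.f251420 IH) (Lpr_df (K18.f291686 IH) (Lpr_gt (K18.f291690 IH) (Lpn (LP (LK LD1_c18 LD2_c39 LD3_c44))))))))))))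
theorem f257614 : Led Lsl_ct (LP (LK LD1_c5 LD2_c2 LD3_c61)) = (LP (LK LD1_c9 LD2_c56 LD3_c56)) :=
  Lre_c IH (LK LD1_c5 LD2_c2 LD3_c61) (LK LD1_c9 LD2_c56 LD3_c56) Lrfl Lrfl
theorem f291616 : Led Lsl_bt (LP (LK LD1_c5 LD2_c2 LD3_c61)) = (LP (LK LD1_c2 LD2_c29 LD3_c9)) :=
  Lre_b IH (LK LD1_c5 LD2_c2 LD3_c61) (LK LD1_c2 LD2_c29 LD3_c9) Lrfl Lrfl
theorem f169985 : Led Lsl_gt (LP (LK LD1_c5 LD2_c3 LD3_c15)) = (LP (LK LD1_c2 LD2_c29 LD3_c9)) :=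
  Lre_g IH (LK LD1_c5 LD2_c3 LD3_c15) (LK LD1_c2 LD2_c29 LD3_c9) Lrfl Lrfl
theorem f171251 : Led Lsl_bt (LP (LK LD1_c9 LD2_c57 LD3_c21)) = (LP (LK LD1_c5 LD2_c3 LD3_c15)) :=
  Lre_b IH (LK LD1_c9 LD2_c57 LD3_c21) (LK LD1_c5 LD2_c3 LD3_c15) Lrfl Lrfl
theorem f344945 : Led Lsl_ct (LP (LK LD1_c9 LD2_c57 LD3_c21)) = (LP (LK LD1_c18 LD2_c13 LD3_c3)) :=
  Lre_c IH (LK LD1_c9 LD2_c57 LD3_c21) (LK LD1_c18 LD2_c13 LD3_c3) Lrfl Lrfl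
theorem f344946 : Led Lsl_gt (LP (LK LD1_c18 LD2_c17 LD3_c60)) = (LP (LK LD1_c18 LD2_c13 LD3_c3)) :=
  Lgr Lrot149 (Lpe (f192622 IH) (Lpe (f329868 IH) (Lpr_bf (f344941 IH) (Lpe (f330500 IH) (Lpe (f247673 IH) (Lpe (f257614 IH) (Lpr_bt (f291616 IH) (Lpe (f169985 IH) (Lpe (f171251 IH) (Lpr_ct (f344945 IH) (Lpn (LP (LK LD1_c18 LD2_c13 LD3_c3)))))))))))))
theorem f270266 : Led Lsl_ft (LP (LK LD1_c18 LD2_c17 LD3_c60)) = (LP (LK LD1_c10 LD2_c0 LD3_c51)) :=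
  Lre_f IH (LK LD1_c18 LD2_c17 LD3_c60) (LK LD1_c10 LD2_c0 LD3_c51) Lrfl Lrfl
theorem f192629 : Led Lsl_ct (LP (LK LD1_c5 LD2_c4 LD3_c54)) = (LP (LK LD1_c10 LD2_c0 LD3_c51)) :=
  Lre_c IH (LK LD1_c5 LD2_c4 LD3_c54) (LK LD1_c10 LD2_c0 LD3_c51) Lrfl Lrfl
theorem f246849 : Led Lsl_ct (LP (LK LD1_c10 LD2_c15 LD3_c45)) = (LP (LK LD1_c5 LD2_c12 LD3_c42)) :=
  Lre_c IH (LK LD1_c10 LD2_c15 LD3_c45) (LK LD1_c5 LD2_c12 LD3_c42) Lrfl Lrfl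
theorem f275773 : Led Lsl_at (LP (LK LD1_c10 LD2_c0 LD3_c51)) = (LP (LK LD1_c10 LD2_c15 LD3_c45)) :=
  Lgr Lrot107 (Lpe (f192629 IH) (Lpr_af (K18.f275733 IH) (Lpe (f246849 IH) (Lpn (LP (LK LD1_c10 LD2_c15 LD3_c45))))))
theorem f344965 : Led Lsl_gf (LP (LK LD1_c10 LD2_c15 LD3_c45)) = (LP (LK LD1_c18 LD2_c13 LD3_c3)) :=
  Lgr Lrot76 (Lpe (f275773 IH) (Lpe (f270266 IH) (Lpr_gt (f344946 IH) (Lpn (LP (LK LD1_c18 LD2_c13 LD3_c3))))))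
theorem f184692 : Led Lsl_ct (LP (LK LD1_c8 LD2_c4 LD3_c45)) = (LP (LK LD1_c4 LD2_c2 LD3_c5)) :=
  Lre_c IH (LK LD1_c8 LD2_c4 LD3_c45) (LK LD1_c4 LD2_c2 LD3_c5) Lrfl Lrfl
theorem f344968 : Led Lsl_gt (LP (LK LD1_c10 LD2_c8 LD3_c12)) = (LP (LK LD1_c9 LD2_c57 LD3_c21)) :=
  Lgr Lrot9 (Lpe (K13.f239848 IH) (Lpr_gt (K14.f246889 IH) (Lpr_ct (K16.f246843 IH) (Lpe (K16.f246840 IH) (Lpr_ct (f184692 IH) (Lpr_df (K19.f271280 IH) (Lpe (f246849 IH) (Lpr_gf (f344965 IH) (Lpe (f344945 IH) (Lpn (LP (LK LD1_c9 LD2_c57 LD3_c21))))))))))))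
theorem f344970 : Led Lsl_gf (LP (LK LD1_c8 LD2_c4 LD3_c7)) = (LP (LK LD1_c9 LD2_c57 LD3_c21)) :=
  Lgr Lrot76 (Lpe (K14.f239815 IH) (Lpe (K14.f239465 IH) (Lpr_gt (f344968 IH) (Lpn (LP (LK LD1_c9 LD2_c57 LD3_c21))))))
theorem f196338 : Led Lsl_et (LP (LK LD1_c1 LD2_c12 LD3_c55)) = (LP (LK LD1_c2 LD2_c31 LD3_c43)) :=
  Lre_e IH (LK LD1_c1 LD2_c12 LD3_c55) (LK LD1_c2 LD2_c31 LD3_c43) Lrfl Lrfl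
theorem f229570 : Led Lsl_gt (LP (LK LD1_c2 LD2_c31 LD3_c43)) = (LP (LK LD1_c5 LD2_c9 LD3_c6)) :=
  Lre_g IH (LK LD1_c2 LD2_c31 LD3_c43) (LK LD1_c5 LD2_c9 LD3_c6) Lrfl Lrfl
theorem f287121 : Led Lsl_et (LP (LK LD1_c10 LD2_c8 LD3_c48)) = (LP (LK LD1_c5 LD2_c9 LD3_c6)) :=
  Lre_e IH (LK LD1_c10 LD2_c8 LD3_c48) (LK LD1_c5 LD2_c9 LD3_c6) Lrfl Lrfl
theorem f344972 : Led Lsl_dt (LP (LK LD1_c10 LD2_c8 LD3_c48)) = (LP (LK LD1_c9 LD2_c57 LD3_c21)) :=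
  Lgr Lrot136 (Lpr_et (f287121 IH) (Lpe (f229570 IH) (Lpe (f196338 IH) (Lpr_dt (K13.f196336 IH) (Lpe (K11.f196345 IH) (Lpr_df (K13.f229236 IH) (Lpe (K12.f229140 IH) (Lpe (K14.f195627 IH) (Lpr_dt (K13.f195616 IH) (Lpr_gf (f344970 IH) (Lpn (LP (LK LD1_c9 LD2_c57 LD3_c21)))))))))))))
theorem f229561 : Led Lsl_ft (LP (LK LD1_c2 LD2_c31 LD3_c43)) = (LP (LK LD1_c5 LD2_c9 LD3_c8)) :=
  Lre_f IH (LK LD1_c2 LD2_c31 LD3_c43) (LK LD1_c5 LD2_c9 LD3_c8) Lrfl Lrfl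
theorem f287116 : Led Lsl_gf (LP (LK LD1_c8 LD2_c4 LD3_c20)) = (LP (LK LD1_c5 LD2_c9 LD3_c6)) :=
  Lgr Lrot76 (Lpr_af (K17.f287108 IH) (Lpe (f229561 IH) (Lpr_gt (f229570 IH) (Lpn (LP (LK LD1_c5 LD2_c9 LD3_c6))))))
theorem f190247 : Led Lsl_gt (LP (LK LD1_c4 LD2_c1 LD3_c44)) = (LP (LK LD1_c8 LD2_c4 LD3_c6)) :=
  Lre_g IH (LK LD1_c4 LD2_c1 LD3_c44) (LK LD1_c8 LD2_c4 LD3_c6) Lrfl Lrfl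
theorem f239901 : Led Lsl_gt (LP (LK LD1_c8 LD2_c4 LD3_c6)) = (LP (LK LD1_c5 LD2_c8 LD3_c54)) :=
  Lgr Lrot46 (Lpe (f190247 IH) (Lpr_ft (K13.f195631 IH) (Lpr_at (K13.f239892 IH) (Lpn (LP (LK LD1_c5 LD2_c8 LD3_c54))))))
theorem f344985 : Led Lsl_et (LP (LK LD1_c9 LD2_c52 LD3_c35)) = (LP (LK LD1_c8 LD2_c4 LD3_c6)) :=
  Lgr Lrot121 (Lpr_dt (K21.f327260 IH) (Lpe (K19.f298486 IH) (Lpe (K18.f296842 IH) (Lpe (K18.f287064 IH) (Lpr_gf (f287116 IH) (Lpe (f287121 IH) (Lpr_dt (f344972 IH) (Lpe (f344968 IH) (Lpe (K13.f239848 IH) (Lpe (f239901 IH) (Lpn (LP (LK LD1_c8 LD2_c4 LD3_c6)))))))))))))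
theorem f344995 : Led Lsl_ff (LP (LK LD1_c5 LD2_c8 LD3_c52)) = (LP (LK LD1_c8 LD2_c4 LD3_c6)) :=
  Lgr Lrot72 (Lpr_et (K13.f239548 IH) (Lpe (f342288 IH) (Lpr_et (K22.f263321 IH) (Lpr_ft (K21.f263278 IH) (Lpr_et (f344985 IH) (Lpn (LP (LK LD1_c8 LD2_c4 LD3_c6))))))))
theorem f345003 : Led Lsl_dt (LP (LK LD1_c8 LD2_c27 LD3_c56)) = (LP (LK LD1_c8 LD2_c4 LD3_c6)) :=
  Lgr Lrot60 (Lpe (K22.f235383 IH) (Lpe (K13.f235380 IH) (Lpr_ff (f344995 IH) (Lpn (LP (LK LD1_c8 LD2_c4 LD3_c6))))))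
theorem f235443 : Led Lsl_gt (LP (LK LD1_c9 LD2_c43 LD3_c45)) = (LP (LK LD1_c4 LD2_c56 LD3_c6)) :=
  Lre_g IH (LK LD1_c9 LD2_c43 LD3_c45) (LK LD1_c4 LD2_c56 LD3_c6) Lrfl Lrfl
theorem f211274 : Led Lsl_gt (LP (LK LD1_c4 LD2_c14 LD3_c44)) = (LP (LK LD1_c2 LD2_c4 LD3_c44)) :=
  Lre_g IH (LK LD1_c4 LD2_c14 LD3_c44) (LK LD1_c2 LD2_c4 LD3_c44) Lrfl Lrfl
theorem f345187 : Led Lsl_dt (LP (LK LD1_c4 LD2_c56 LD3_c6)) = (LP (LK LD1_c4 LD2_c14 LD3_c44)) :=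
  Lgr Lrot171 (Lpe (f235443 IH) (Lpr_ef (K19.f235437 IH) (Lpr_dt (f345003 IH) (Lpe (f190247 IH) (Lpe (K14.f190246 IH) (Lpr_et (K15.f190245 IH) (Lpe (K12.f190232 IH) (Lpe (f190244 IH) (Lpe (f339701 IH) (Lpe (f211274 IH) (Lpn (LP (LK LD1_c4 LD2_c14 LD3_c44)))))))))))))
theorem f239235 : Led Lsl_cf (LP (LK LD1_c1 LD2_c56 LD3_c39)) = (LP (LK LD1_c2 LD2_c7 LD3_c33)) :=
  Lgr Lrot11 (Lpr_ct (K13.f239232 IH) (Lpn (LP (LK LD1_c2 LD2_c7 LD3_c33))))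
theorem f315268 : Led Lsl_gf (LP (LK LD1_c2 LD2_c4 LD3_c39)) = (LP (LK LD1_c1 LD2_c57 LD3_c50)) :=
  Lgr Lrot172 (Lpr_ct (K20.f216372 IH) (Lpr_dt (K20.f315252 IH) (Lpr_cf (f239235 IH) (Lpe (K13.f31771 IH) (Lpe (K0.f31721 IH) (Lpe (K10.f193353 IH) (Lpr_dt (K12.f170691 IH) (Lpr_gt (K13.f210629 IH) (Lpr_ct (K12.f195693 IH) (Lpn (LP (LK LD1_c1 LD2_c57 LD3_c50))))))))))))
theorem f28996 : Led Lsl_ct (LP (LK LD1_c4 LD2_c4 LD3_c33)) = (LP (LK LD1_c1 LD2_c59 LD3_c11)) :=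
  Lre_c IH (LK LD1_c4 LD2_c4 LD3_c33) (LK LD1_c1 LD2_c59 LD3_c11) Lrfl Lrfl
theorem f315258 : Led Lsl_df (LP (LK LD1_c2 LD2_c4 LD3_c39)) = (LP (LK LD1_c2 LD2_c7 LD3_c27)) :=
  Lgr Lrot43 (Lpr_ct (K20.f216372 IH) (Lpr_dt (K20.f315252 IH) (Lpr_ct (K13.f239232 IH) (Lpr_dt (K13.f31775 IH) (Lpr_ct (K13.f241367 IH) (Lpr_dt (K13.f194199 IH) (Lpr_ct (f28996 IH) (Lpr_dt (K10.f28997 IH) (Lpr_ct (K11.f28998 IH) (Lpr_dt (K10.f28166 IH) (Lpr_ct (K10.f28790 IH) (Lpr_dt (K13.f31582 IH) (Lpr_ct (K13.f194095 IH) (Lpe (K20.f240969 IH) (Lpr_ct (K13.f190045 IH) (Lpn (LP (LK LD1_c2 LD2_c7 LD3_c27))))))))))))))))))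
theorem f345195 : Led Lsl_et (LP (LK LD1_c4 LD2_c56 LD3_c6)) = (LP (LK LD1_c8 LD2_c37 LD3_c50)) :=
  Lgr Lrot122 (Lpr_dt (f345187 IH) (Lpr_gt (f211274 IH) (Lpr_df (f339701 IH) (Lpr_et (f190244 IH) (Lpr_gt (K12.f190232 IH) (Lpr_dt (K12.f190242 IH) (Lpe (f315268 IH) (Lpr_df (f315258 IH) (Lpr_et (K19.f189997 IH) (Lpr_gt (K19.f190026 IH) (Lpn (LP (LK LD1_c8 LD2_c37 LD3_c50)))))))))))))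
theorem f345201 : Led Lsl_ef (LP (LK LD1_c4 LD2_c56 LD3_c6)) = (LP (LK LD1_c8 LD2_c37 LD3_c50)) :=
  Lgr Lrot88 (Lpr_et (f345195 IH) (Lpn (LP (LK LD1_c8 LD2_c37 LD3_c50))))
theorem f168989 : Led Lsl_ct (LP (LK LD1_c4 LD2_c56 LD3_c6)) = (LP (LK LD1_c9 LD2_c43 LD3_c57)) :=
  Lre_c IH (LK LD1_c4 LD2_c56 LD3_c6) (LK LD1_c9 LD2_c43 LD3_c57) Lrfl Lrfl
theorem f308721 : Led Lsl_ct (LP (LK LD1_c16 LD2_c9 LD3_c55)) = (LP (LK LD1_c8 LD2_c37 LD3_c50)) :=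
  Lre_c IH (LK LD1_c16 LD2_c9 LD3_c55) (LK LD1_c8 LD2_c37 LD3_c50) Lrfl Lrfl
theorem f345210 : Led Lsl_et (LP (LK LD1_c9 LD2_c43 LD3_c57)) = (LP (LK LD1_c16 LD2_c9 LD3_c55)) :=
  Lgr Lrot158 (Lpe (f168989 IH) (Lpr_ef (f345201 IH) (Lpe (f308721 IH) (Lpn (LP (LK LD1_c16 LD2_c9 LD3_c55))))))
theorem f345220 : Led Lsl_dt (LP (LK LD1_c9 LD2_c43 LD3_c57)) = (LP (LK LD1_c17 LD2_c53 LD3_c15)) :=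
  Lre_d IH (LK LD1_c9 LD2_c43 LD3_c57) (LK LD1_c17 LD2_c53 LD3_c15) Lrfl Lrfl
theorem f266638 : Led Lsl_et (LP (LK LD1_c5 LD2_c5 LD3_c0)) = (LP (LK LD1_c2 LD2_c29 LD3_c48)) :=
  Lre_e IH (LK LD1_c5 LD2_c5 LD3_c0) (LK LD1_c2 LD2_c29 LD3_c48) Lrfl Lrfl
theorem f266639 : Led Lsl_dt (LP (LK LD1_c5 LD2_c5 LD3_c0)) = (LP (LK LD1_c10 LD2_c1 LD3_c10)) :=
  Lre_d IH (LK LD1_c5 LD2_c5 LD3_c0) (LK LD1_c10 LD2_c1 LD3_c10) Lrfl Lrfl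
theorem f345235 : Led Lsl_gt (LP (LK LD1_c17 LD2_c53 LD3_c15)) = (LP (LK LD1_c10 LD2_c1 LD3_c10)) :=
  Lgr Lrot112 (Lpe (f345220 IH) (Lpr_et (f345210 IH) (Lpr_gf (K21.f308719 IH) (Lpe (K21.f201781 IH) (Lpr_dt (K15.f201748 IH) (Lpr_gf (K15.f266517 IH) (Lpe (K15.f192633 IH) (Lpe (K15.f192632 IH) (Lpe (f266638 IH) (Lpr_dt (f266639 IH) (Lpn (LP (LK LD1_c10 LD2_c1 LD3_c10)))))))))))))
theorem f211303 : Led Lsl_dt (LP (LK LD1_c10 LD2_c1 LD3_c10)) = (LP (LK LD1_c5 LD2_c5 LD3_c0)) :=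
  Lre_d IH (LK LD1_c10 LD2_c1 LD3_c10) (LK LD1_c5 LD2_c5 LD3_c0) Lrfl Lrfl
theorem f194457 : Led Lsl_ct (LP (LK LD1_c2 LD2_c29 LD3_c49)) = (LP (LK LD1_c5 LD2_c5 LD3_c0)) :=
  Lre_c IH (LK LD1_c2 LD2_c29 LD3_c49) (LK LD1_c5 LD2_c5 LD3_c0) Lrfl Lrfl
theorem f194502 : Led Lsl_ct (LP (LK LD1_c10 LD2_c39 LD3_c48)) = (LP (LK LD1_c5 LD2_c24 LD3_c35)) :=
  Lre_c IH (LK LD1_c10 LD2_c39 LD3_c48) (LK LD1_c5 LD2_c24 LD3_c35) Lrfl Lrfl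
theorem f345237 : Led Lsl_gf (LP (LK LD1_c9 LD2_c43 LD3_c57)) = (LP (LK LD1_c10 LD2_c39 LD3_c48)) :=
  Lgr Lrot144 (Lpr_dt (f345220 IH) (Lpr_gt (f345235 IH) (Lpr_dt (f211303 IH) (Lpe (f194457 IH) (Lpr_df (K18.f211288 IH) (Lpe (K21.f211325 IH) (Lpe (K21.f211326 IH) (Lpr_gf (K21.f329779 IH) (Lpe (f194502 IH) (Lpn (LP (LK LD1_c10 LD2_c39 LD3_c48))))))))))))
theorem f168963 : Led Lsl_gt (LP (LK LD1_c4 LD2_c56 LD3_c6)) = (LP (LK LD1_c2 LD2_c25 LD3_c51)) :=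
  Lre_g IH (LK LD1_c4 LD2_c56 LD3_c6) (LK LD1_c2 LD2_c25 LD3_c51) Lrfl Lrfl
theorem f190027 : Led Lsl_dt (LP (LK LD1_c8 LD2_c37 LD3_c50)) = (LP (LK LD1_c16 LD2_c9 LD3_c56)) :=
  Lre_d IH (LK LD1_c8 LD2_c37 LD3_c50) (LK LD1_c16 LD2_c9 LD3_c56) Lrfl Lrfl
theorem f345212 : Led Lsl_gt (LP (LK LD1_c11 LD2_c3 LD3_c8)) = (LP (LK LD1_c16 LD2_c9 LD3_c56)) :=
  Lgr Lrot139 (Lpe (K21.f189423 IH) (Lpe (K14.f189412 IH) (Lpe (K13.f189393 IH) (Lpr_dt (K13.f189391 IH) (Lpe (K14.f247176 IH) (Lpe (K14.f168944 IH) (Lpr_et (K19.f168970 IH) (Lpe (f168963 IH) (Lpr_ef (f345201 IH) (Lpr_dt (f190027 IH) (Lpn (LP (LK LD1_c16 LD2_c9 LD3_c56)))))))))))))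
theorem f222345 : Led Lsl_gt (LP (LK LD1_c5 LD2_c35 LD3_c27)) = (LP (LK LD1_c11 LD2_c3 LD3_c3)) :=
  Lre_g IH (LK LD1_c5 LD2_c35 LD3_c27) (LK LD1_c11 LD2_c3 LD3_c3) Lrfl Lrfl
theorem f222346 : Led Lsl_dt (LP (LK LD1_c11 LD2_c3 LD3_c3)) = (LP (LK LD1_c19 LD2_c54 LD3_c41)) :=
  Lre_d IH (LK LD1_c11 LD2_c3 LD3_c3) (LK LD1_c19 LD2_c54 LD3_c41) Lrfl Lrfl
theorem f238142 : Led Lsl_dt (LP (LK LD1_c16 LD2_c9 LD3_c56)) = (LP (LK LD1_c8 LD2_c37 LD3_c50)) :=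
  Lre_d IH (LK LD1_c16 LD2_c9 LD3_c56) (LK LD1_c8 LD2_c37 LD3_c50) Lrfl Lrfl
theorem f308716 : Led Lsl_dt (LP (LK LD1_c26 LD2_c6 LD3_c41)) = (LP (LK LD1_c16 LD2_c9 LD3_c55)) :=
  Lre_d IH (LK LD1_c26 LD2_c6 LD3_c41) (LK LD1_c16 LD2_c9 LD3_c55) Lrfl Lrfl
theorem f345214 : Led Lsl_gt (LP (LK LD1_c19 LD2_c54 LD3_c41)) = (LP (LK LD1_c26 LD2_c6 LD3_c41)) :=
  Lgr Lrot49 (Lpe (f222346 IH) (Lpe (f222345 IH) (Lpe (f189420 IH) (Lpr_gt (K14.f189412 IH) (Lpr_dt (K21.f189423 IH) (Lpr_gt (f345212 IH) (Lpr_dt (f238142 IH) (Lpe (f308721 IH) (Lpe (f308716 IH) (Lpn (LP (LK LD1_c26 LD2_c6 LD3_c41))))))))))))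
theorem f279626 : Led Lsl_et (LP (LK LD1_c2 LD2_c43 LD3_c40)) = (LP (LK LD1_c5 LD2_c35 LD3_c27)) :=
  Lre_e IH (LK LD1_c2 LD2_c43 LD3_c40) (LK LD1_c5 LD2_c35 LD3_c27) Lrfl Lrfl
theorem f316802 : Led Lsl_et (LP (LK LD1_c5 LD2_c0 LD3_c38)) = (LP (LK LD1_c9 LD2_c51 LD3_c34)) :=
  Lre_e IH (LK LD1_c5 LD2_c0 LD3_c38) (LK LD1_c9 LD2_c51 LD3_c34) Lrfl Lrfl
theorem f168990 : Led Lsl_ct (LP (LK LD1_c9 LD2_c43 LD3_c57)) = (LP (LK LD1_c4 LD2_c56 LD3_c6)) :=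
  Lre_c IH (LK LD1_c9 LD2_c43 LD3_c57) (LK LD1_c4 LD2_c56 LD3_c6) Lrfl Lrfl
theorem f345199 : Led Lsl_ef (LP (LK LD1_c9 LD2_c43 LD3_c57)) = (LP (LK LD1_c16 LD2_c9 LD3_c55)) :=
  Lgr Lrot28 (Lpr_ct (f168990 IH) (Lpr_et (f345195 IH) (Lpr_ct (K19.f190032 IH) (Lpn (LP (LK LD1_c16 LD2_c9 LD3_c55))))))
theorem f345216 : Led Lsl_gf (LP (LK LD1_c9 LD2_c51 LD3_c34)) = (LP (LK LD1_c9 LD2_c43 LD3_c57)) :=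
  Lgr Lrot141 (Lpe (f316802 IH) (Lpr_dt (K19.f212661 IH) (Lpr_gt (K19.f247178 IH) (Lpe (K19.f189390 IH) (Lpr_et (f279626 IH) (Lpr_gt (f222345 IH) (Lpr_dt (f222346 IH) (Lpr_gt (f345214 IH) (Lpe (K21.f308717 IH) (Lpe (f345199 IH) (Lpn (LP (LK LD1_c9 LD2_c43 LD3_c57)))))))))))))
theorem f345240 : Led Lsl_ft (LP (LK LD1_c10 LD2_c39 LD3_c48)) = (LP (LK LD1_c5 LD2_c24 LD3_c32)) :=
  Lre_f IH (LK LD1_c10 LD2_c39 LD3_c48) (LK LD1_c5 LD2_c24 LD3_c32) Lrfl Lrfl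
theorem f345241 : Led Lsl_af (LP (LK LD1_c9 LD2_c51 LD3_c34)) = (LP (LK LD1_c5 LD2_c24 LD3_c32)) :=
  Lgr Lrot31 (Lpr_gf (f345216 IH) (Lpr_gf (f345237 IH) (Lpr_ft (f345240 IH) (Lpn (LP (LK LD1_c5 LD2_c24 LD3_c32))))))
theorem f345247 : Led Lsl_ft (LP (LK LD1_c9 LD2_c51 LD3_c34)) = (LP (LK LD1_c18 LD2_c2 LD3_c51)) :=
  Lre_f IH (LK LD1_c9 LD2_c51 LD3_c34) (LK LD1_c18 LD2_c2 LD3_c51) Lrfl Lrfl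
theorem f345248 : Led Lsl_at (LP (LK LD1_c18 LD2_c2 LD3_c51)) = (LP (LK LD1_c10 LD2_c39 LD3_c48)) :=
  Lgr Lrot66 (Lpe (f345247 IH) (Lpr_af (f345241 IH) (Lpe (f345240 IH) (Lpn (LP (LK LD1_c10 LD2_c39 LD3_c48))))))
theorem f194482 : Led Lsl_at (LP (LK LD1_c5 LD2_c24 LD3_c35)) = (LP (LK LD1_c10 LD2_c39 LD3_c39)) :=
  Lre_a IH (LK LD1_c5 LD2_c24 LD3_c35) (LK LD1_c10 LD2_c39 LD3_c39) Lrfl Lrfl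
theorem f345252 : Led Lsl_cf (LP (LK LD1_c18 LD2_c2 LD3_c51)) = (LP (LK LD1_c10 LD2_c39 LD3_c39)) :=
  Lgr Lrot1 (Lpr_at (f345248 IH) (Lpr_ct (f194502 IH) (Lpr_at (f194482 IH) (Lpn (LP (LK LD1_c10 LD2_c39 LD3_c39))))))
theorem f213453 : Led Lsl_cf (LP (LK LD1_c9 LD2_c51 LD3_c45)) = (LP (LK LD1_c8 LD2_c39 LD3_c30)) :=
  Lgr Lrot11 (Lpr_ct (K22.f213451 IH) (Lpn (LP (LK LD1_c8 LD2_c39 LD3_c30))))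
theorem f213459 : Led Lsl_ft (LP (LK LD1_c9 LD2_c51 LD3_c45)) = (LP (LK LD1_c18 LD2_c3 LD3_c6)) :=
  Lre_f IH (LK LD1_c9 LD2_c51 LD3_c45) (LK LD1_c18 LD2_c3 LD3_c6) Lrfl Lrfl
theorem f312257 : Led Lsl_cf (LP (LK LD1_c15 LD2_c12 LD3_c48)) = (LP (LK LD1_c18 LD2_c3 LD3_c6)) :=
  Lgr Lrot108 (Lpr_ft (K19.f312255 IH) (Lpe (f213453 IH) (Lpr_ft (f213459 IH) (Lpn (LP (LK LD1_c18 LD2_c3 LD3_c6))))))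
theorem f345256 : Led Lsl_et (LP (LK LD1_c18 LD2_c2 LD3_c51)) = (LP (LK LD1_c18 LD2_c3 LD3_c6)) :=
  Lgr Lrot158 (Lpr_cf (f345252 IH) (Lpe (K19.f312147 IH) (Lpr_cf (f312257 IH) (Lpn (LP (LK LD1_c18 LD2_c3 LD3_c6))))))
theorem f54257 : Led Lsl_et (LP (LK LD1_c9 LD2_c51 LD3_c45)) = (LP (LK LD1_c5 LD2_c0 LD3_c42)) :=
  Lre_e IH (LK LD1_c9 LD2_c51 LD3_c45) (LK LD1_c5 LD2_c0 LD3_c42) Lrfl Lrfl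
theorem f345262 : Led Lsl_ff (LP (LK LD1_c5 LD2_c0 LD3_c38)) = (LP (LK LD1_c5 LD2_c0 LD3_c42)) :=
  Lgr Lrot72 (Lpr_et (f316802 IH) (Lpr_ft (f345247 IH) (Lpr_et (f345256 IH) (Lpr_ft (K22.f213456 IH) (Lpr_et (f54257 IH) (Lpn (LP (LK LD1_c5 LD2_c0 LD3_c42))))))))
theorem f345264 : Led Lsl_ft (LP (LK LD1_c9 LD2_c51 LD3_c33)) = (LP (LK LD1_c9 LD2_c51 LD3_c44)) :=
  Lgr Lrot54 (Lpe (K19.f212661 IH) (Lpr_ff (f345262 IH) (Lpe (K21.f213441 IH) (Lpn (LP (LK LD1_c9 LD2_c51 LD3_c44))))))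
theorem f345268 : Led Lsl_ff (LP (LK LD1_c9 LD2_c51 LD3_c33)) = (LP (LK LD1_c9 LD2_c51 LD3_c44)) :=
  Lgr Lrot3 (Lpr_ft (f345264 IH) (Lpn (LP (LK LD1_c9 LD2_c51 LD3_c44))))
theorem f345270 : Led Lsl_at (LP (LK LD1_c9 LD2_c51 LD3_c33)) = (LP (LK LD1_c5 LD2_c24 LD3_c31)) :=
  Lgr Lrot26 (Lpr_ff (f345268 IH) (Lpe (K22.f316887 IH) (Lpe (K20.f316710 IH) (Lpn (LP (LK LD1_c5 LD2_c24 LD3_c31))))))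
theorem f345277 : Led Lsl_af (LP (LK LD1_c5 LD2_c0 LD3_c38)) = (LP (LK LD1_c2 LD2_c38 LD3_c49)) :=
  Lgr Lrot117 (Lpr_dt (K19.f212661 IH) (Lpr_at (f345270 IH) (Lpr_dt (K19.f167848 IH) (Lpn (LP (LK LD1_c2 LD2_c38 LD3_c49))))))
theorem f329827 : Led Lsl_ft (LP (LK LD1_c5 LD2_c0 LD3_c38)) = (LP (LK LD1_c5 LD2_c0 LD3_c42)) :=
  Lgr Lrot4 (Lpr_cf (K21.f329816 IH) (Lpe (K19.f235573 IH) (Lpe (K13.f213447 IH) (Lpn (LP (LK LD1_c5 LD2_c0 LD3_c42))))))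
theorem f330234 : Led Lsl_ft (LP (LK LD1_c5 LD2_c0 LD3_c37)) = (LP (LK LD1_c2 LD2_c38 LD3_c49)) :=
  Lgr Lrot4 (Lpr_cf (K16.f235109 IH) (Lpr_ff (K21.f330230 IH) (Lpe (K12.f167847 IH) (Lpn (LP (LK LD1_c2 LD2_c38 LD3_c49))))))
theorem f345302 : Led Lsl_at (LP (LK LD1_c5 LD2_c0 LD3_c42)) = (LP (LK LD1_c5 LD2_c0 LD3_c37)) :=
  Lgr Lrot66 (Lpe (f329827 IH) (Lpr_af (f345277 IH) (Lpe (f330234 IH) (Lpn (LP (LK LD1_c5 LD2_c0 LD3_c37))))))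
theorem f345306 : Led Lsl_af (LP (LK LD1_c9 LD2_c51 LD3_c45)) = (LP (LK LD1_c9 LD2_c51 LD3_c31)) :=
  Lgr Lrot50 (Lpr_et (f54257 IH) (Lpr_at (f345302 IH) (Lpr_et (K22.f235137 IH) (Lpn (LP (LK LD1_c9 LD2_c51 LD3_c31))))))
theorem f235143 : Led Lsl_cf (LP (LK LD1_c9 LD2_c51 LD3_c31)) = (LP (LK LD1_c5 LD2_c20 LD3_c42)) :=
  Lgr Lrot11 (Lpr_ct (K22.f235138 IH) (Lpn (LP (LK LD1_c5 LD2_c20 LD3_c42))))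
theorem f345310 : Led Lsl_at (LP (LK LD1_c8 LD2_c39 LD3_c30)) = (LP (LK LD1_c5 LD2_c20 LD3_c42)) :=
  Lgr Lrot107 (Lpe (K22.f213451 IH) (Lpr_af (f345306 IH) (Lpr_cf (f235143 IH) (Lpn (LP (LK LD1_c5 LD2_c20 LD3_c42))))))
theorem f235150 : Led Lsl_gt (LP (LK LD1_c10 LD2_c31 LD3_c27)) = (LP (LK LD1_c5 LD2_c20 LD3_c42)) :=
  Lre_g IH (LK LD1_c10 LD2_c31 LD3_c27) (LK LD1_c5 LD2_c20 LD3_c42) Lrfl Lrfl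
theorem f345764 : Led Lsl_gt (LP (LK LD1_c15 LD2_c12 LD3_c48)) = (LP (LK LD1_c10 LD2_c31 LD3_c27)) :=
  Lgr Lrot5 (Lpr_ft (K19.f312255 IH) (Lpr_at (f345310 IH) (Lpe (f235150 IH) (Lpn (LP (LK LD1_c10 LD2_c31 LD3_c27))))))
theorem f46049 : Led Lsl_et (LP (LK LD1_c15 LD2_c14 LD3_c29)) = (LP (LK LD1_c8 LD2_c5 LD3_c40)) :=
  Lre_e IH (LK LD1_c15 LD2_c14 LD3_c29) (LK LD1_c8 LD2_c5 LD3_c40) Lrfl Lrfl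
theorem f345768 : Led Lsl_dt (LP (LK LD1_c15 LD2_c14 LD3_c29)) = (LP (LK LD1_c10 LD2_c31 LD3_c27)) :=
  Lgr Lrot56 (Lpr_et (f46049 IH) (Lpr_gt (f46041 IH) (Lpe (K1.f46031 IH) (Lpr_dt (K1.f46028 IH) (Lpe (K10.f190874 IH) (Lpe (K11.f184653 IH) (Lpr_et (K16.f184685 IH) (Lpr_gt (K19.f184744 IH) (Lpr_dt (K19.f184745 IH) (Lpr_gt (f345764 IH) (Lpn (LP (LK LD1_c10 LD2_c31 LD3_c27)))))))))))))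
theorem f263057 : Led Lsl_et (LP (LK LD1_c5 LD2_c16 LD3_c15)) = (LP (LK LD1_c10 LD2_c22 LD3_c5)) :=
  Lre_e IH (LK LD1_c5 LD2_c16 LD3_c15) (LK LD1_c10 LD2_c22 LD3_c5) Lrfl Lrfl
theorem f342507 : Led Lsl_bt (LP (LK LD1_c10 LD2_c22 LD3_c5)) = (LP (LK LD1_c15 LD2_c14 LD3_c29)) :=
  Lgr Lrot119 (Lpe (f263057 IH) (Lpr_bf (f342499 IH) (Lpe (f46049 IH) (Lpn (LP (LK LD1_c15 LD2_c14 LD3_c29))))))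
theorem f263055 : Led Lsl_df (LP (LK LD1_c10 LD2_c22 LD3_c5)) = (LP (LK LD1_c5 LD2_c31 LD3_c2)) :=
  Lgr Lrot38 (Lpr_dt (K15.f263030 IH) (Lpn (LP (LK LD1_c5 LD2_c31 LD3_c2))))
theorem f345770 : Led Lsl_bf (LP (LK LD1_c5 LD2_c31 LD3_c2)) = (LP (LK LD1_c10 LD2_c31 LD3_c27)) :=
  Lgr Lrot93 (Lpe (f263055 IH) (Lpr_bt (f342507 IH) (Lpr_dt (f345768 IH) (Lpn (LP (LK LD1_c10 LD2_c31 LD3_c27))))))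
theorem f345775 : Led Lsl_bt (LP (LK LD1_c5 LD2_c31 LD3_c2)) = (LP (LK LD1_c10 LD2_c31 LD3_c27)) :=
  Lgr Lrot127 (Lpr_bf (f345770 IH) (Lpn (LP (LK LD1_c10 LD2_c31 LD3_c27))))
theorem f262997 : Led Lsl_ct (LP (LK LD1_c10 LD2_c53 LD3_c37)) = (LP (LK LD1_c5 LD2_c31 LD3_c2)) :=
  Lre_c IH (LK LD1_c10 LD2_c53 LD3_c37) (LK LD1_c5 LD2_c31 LD3_c2) Lrfl Lrfl
theorem f345779 : Led Lsl_bt (LP (LK LD1_c19 LD2_c41 LD3_c9)) = (LP (LK LD1_c10 LD2_c53 LD3_c37)) :=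
  Lre_b IH (LK LD1_c19 LD2_c41 LD3_c9) (LK LD1_c10 LD2_c53 LD3_c37) Lrfl Lrfl
theorem f246847 : Led Lsl_ct (LP (LK LD1_c9 LD2_c52 LD3_c38)) = (LP (LK LD1_c5 LD2_c1 LD3_c6)) :=
  Lre_c IH (LK LD1_c9 LD2_c52 LD3_c38) (LK LD1_c5 LD2_c1 LD3_c6) Lrfl Lrfl
theorem f213596 : Led Lsl_gt (LP (LK LD1_c15 LD2_c3 LD3_c16)) = (LP (LK LD1_c7 LD2_c58 LD3_c45)) :=
  Lre_g IH (LK LD1_c15 LD2_c3 LD3_c16) (LK LD1_c7 LD2_c58 LD3_c45) Lrfl Lrfl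
theorem f345766 : Led Lsl_cf (LP (LK LD1_c15 LD2_c3 LD3_c16)) = (LP (LK LD1_c10 LD2_c31 LD3_c27)) :=
  Lgr Lrot169 (Lpr_gt (f213596 IH) (Lpr_ct (K22.f213577 IH) (Lpr_df (K14.f246829 IH) (Lpe (f246847 IH) (Lpe (K16.f275980 IH) (Lpe (K16.f192627 IH) (Lpe (K19.f275911 IH) (Lpe (K19.f275913 IH) (Lpr_gt (f345764 IH) (Lpn (LP (LK LD1_c10 LD2_c31 LD3_c27))))))))))))
theorem f345774 : Led Lsl_bt (LP (LK LD1_c15 LD2_c3 LD3_c16)) = (LP (LK LD1_c24 LD2_c52 LD3_c25)) :=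
  Lre_b IH (LK LD1_c15 LD2_c3 LD3_c16) (LK LD1_c24 LD2_c52 LD3_c25) Lrfl Lrfl
theorem f345780 : Led Lsl_cf (LP (LK LD1_c19 LD2_c41 LD3_c9)) = (LP (LK LD1_c24 LD2_c52 LD3_c25)) :=
  Lgr Lrot97 (Lpr_bt (f345779 IH) (Lpr_ct (f262997 IH) (Lpr_bt (f345775 IH) (Lpe (f345766 IH) (Lpr_bt (f345774 IH) (Lpn (LP (LK LD1_c24 LD2_c52 LD3_c25))))))))
theorem f345786 : Led Lsl_et (LP (LK LD1_c19 LD2_c41 LD3_c9)) = (LP (LK LD1_c29 LD2_c1 LD3_c8)) :=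
  Lre_e IH (LK LD1_c19 LD2_c41 LD3_c9) (LK LD1_c29 LD2_c1 LD3_c8) Lrfl Lrfl
theorem f316871 : Led Lsl_et (LP (LK LD1_c31 LD2_c41 LD3_c57)) = (LP (LK LD1_c24 LD2_c52 LD3_c25)) :=
  Lre_e IH (LK LD1_c31 LD2_c41 LD3_c57) (LK LD1_c24 LD2_c52 LD3_c25) Lrfl Lrfl
theorem f345787 : Led Lsl_ct (LP (LK LD1_c29 LD2_c1 LD3_c8)) = (LP (LK LD1_c31 LD2_c41 LD3_c57)) :=
  Lgr Lrot15 (Lpe (f345786 IH) (Lpr_cf (f345780 IH) (Lpe (f316871 IH) (Lpn (LP (LK LD1_c31 LD2_c41 LD3_c57))))))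
theorem f345791 : Led Lsl_cf (LP (LK LD1_c29 LD2_c1 LD3_c8)) = (LP (LK LD1_c31 LD2_c41 LD3_c57)) :=
  Lgr Lrot11 (Lpr_ct (f345787 IH) (Lpn (LP (LK LD1_c31 LD2_c41 LD3_c57))))
theorem f345793 : Led Lsl_bt (LP (LK LD1_c29 LD2_c1 LD3_c8)) = (LP (LK LD1_c19 LD2_c41 LD3_c10)) :=
  Lre_b IH (LK LD1_c29 LD2_c1 LD3_c8) (LK LD1_c19 LD2_c41 LD3_c10) Lrfl Lrfl
theorem f263005 : Led Lsl_ct (LP (LK LD1_c19 LD2_c41 LD3_c10)) = (LP (LK LD1_c10 LD2_c53 LD3_c38)) :=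
  Lre_c IH (LK LD1_c19 LD2_c41 LD3_c10) (LK LD1_c10 LD2_c53 LD3_c38) Lrfl Lrfl
theorem f316863 : Led Lsl_bt (LP (LK LD1_c24 LD2_c52 LD3_c27)) = (LP (LK LD1_c31 LD2_c41 LD3_c57)) :=
  Lre_b IH (LK LD1_c24 LD2_c52 LD3_c27) (LK LD1_c31 LD2_c41 LD3_c57) Lrfl Lrfl
theorem f242393 : Led Lsl_gt (LP (LK LD1_c5 LD2_c12 LD3_c49)) = (LP (LK LD1_c10 LD2_c16 LD3_c0)) :=
  Lre_g IH (LK LD1_c5 LD2_c12 LD3_c49) (LK LD1_c10 LD2_c16 LD3_c0) Lrfl Lrfl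
theorem f242394 : Led Lsl_dt (LP (LK LD1_c10 LD2_c16 LD3_c0)) = (LP (LK LD1_c18 LD2_c40 LD3_c28)) :=
  Lre_d IH (LK LD1_c10 LD2_c16 LD3_c0) (LK LD1_c18 LD2_c40 LD3_c28) Lrfl Lrfl
theorem f33163 : Led Lsl_dt (LP (LK LD1_c8 LD2_c38 LD3_c38)) = (LP (LK LD1_c16 LD2_c11 LD3_c19)) :=
  Lre_d IH (LK LD1_c8 LD2_c38 LD3_c38) (LK LD1_c16 LD2_c11 LD3_c19) Lrfl Lrfl
theorem f316845 : Led Lsl_gt (LP (LK LD1_c16 LD2_c11 LD3_c19)) = (LP (LK LD1_c26 LD2_c8 LD3_c3)) :=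
  Lre_g IH (LK LD1_c16 LD2_c11 LD3_c19) (LK LD1_c26 LD2_c8 LD3_c3) Lrfl Lrfl
theorem f316841 : Led Lsl_et (LP (LK LD1_c24 LD2_c52 LD3_c27)) = (LP (LK LD1_c15 LD2_c3 LD3_c16)) :=
  Lre_e IH (LK LD1_c24 LD2_c52 LD3_c27) (LK LD1_c15 LD2_c3 LD3_c16) Lrfl Lrfl
theorem f316850 : Led Lsl_dt (LP (LK LD1_c24 LD2_c52 LD3_c27)) = (LP (LK LD1_c26 LD2_c8 LD3_c3)) :=
  Lgr Lrot56 (Lpr_et (f316841 IH) (Lpr_gt (f213596 IH) (Lpe (K19.f213725 IH) (Lpr_dt (K19.f171303 IH) (Lpe (K20.f316829 IH) (Lpe (K20.f235349 IH) (Lpr_et (K20.f316825 IH) (Lpr_gt (K20.f316843 IH) (Lpr_dt (f33163 IH) (Lpr_gt (f316845 IH) (Lpn (LP (LK LD1_c26 LD2_c8 LD3_c3)))))))))))))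
theorem f316859 : Led Lsl_df (LP (LK LD1_c24 LD2_c52 LD3_c27)) = (LP (LK LD1_c26 LD2_c8 LD3_c3)) :=
  Lgr Lrot38 (Lpr_dt (f316850 IH) (Lpn (LP (LK LD1_c26 LD2_c8 LD3_c3))))
theorem f320896 : Led Lsl_cf (LP (LK LD1_c18 LD2_c40 LD3_c28)) = (LP (LK LD1_c24 LD2_c52 LD3_c27)) :=
  Lgr Lrot14 (Lpe (f242394 IH) (Lpe (f242393 IH) (Lpe (K19.f225597 IH) (Lpe (K20.f171674 IH) (Lpr_ct (K20.f320889 IH) (Lpr_gt (K20.f316843 IH) (Lpr_dt (f33163 IH) (Lpr_gt (f316845 IH) (Lpe (f316859 IH) (Lpn (LP (LK LD1_c24 LD2_c52 LD3_c27))))))))))))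
theorem f320899 : Led Lsl_ct (LP (LK LD1_c18 LD2_c40 LD3_c28)) = (LP (LK LD1_c24 LD2_c52 LD3_c27)) :=
  Lgr Lrot59 (Lpr_cf (f320896 IH) (Lpn (LP (LK LD1_c24 LD2_c52 LD3_c27))))
theorem f345794 : Led Lsl_bt (LP (LK LD1_c10 LD2_c53 LD3_c38)) = (LP (LK LD1_c18 LD2_c40 LD3_c28)) :=
  Lgr Lrot128 (Lpe (f263005 IH) (Lpe (f345793 IH) (Lpr_cf (f345791 IH) (Lpe (f316863 IH) (Lpe (f320899 IH) (Lpn (LP (LK LD1_c18 LD2_c40 LD3_c28))))))))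
theorem f263008 : Led Lsl_et (LP (LK LD1_c5 LD2_c31 LD3_c2)) = (LP (LK LD1_c10 LD2_c53 LD3_c38)) :=
  Lre_e IH (LK LD1_c5 LD2_c31 LD3_c2) (LK LD1_c10 LD2_c53 LD3_c38) Lrfl Lrfl
theorem f345799 : Led Lsl_ef (LP (LK LD1_c10 LD2_c31 LD3_c27)) = (LP (LK LD1_c18 LD2_c40 LD3_c28)) :=
  Lgr Lrot29 (Lpe (f345770 IH) (Lpr_et (f263008 IH) (Lpr_bt (f345794 IH) (Lpn (LP (LK LD1_c18 LD2_c40 LD3_c28))))))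
theorem f320901 : Led Lsl_dt (LP (LK LD1_c18 LD2_c40 LD3_c28)) = (LP (LK LD1_c10 LD2_c16 LD3_c0)) :=
  Lre_d IH (LK LD1_c18 LD2_c40 LD3_c28) (LK LD1_c10 LD2_c16 LD3_c0) Lrfl Lrfl
theorem f184746 : Led Lsl_gt (LP (LK LD1_c8 LD2_c4 LD3_c47)) = (LP (LK LD1_c4 LD2_c2 LD3_c5)) :=
  Lre_g IH (LK LD1_c8 LD2_c4 LD3_c47) (LK LD1_c4 LD2_c2 LD3_c5) Lrfl Lrfl
theorem f345805 : Led Lsl_dt (LP (LK LD1_c5 LD2_c20 LD3_c42)) = (LP (LK LD1_c8 LD2_c4 LD3_c47)) :=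
  Lgr Lrot171 (Lpe (f235150 IH) (Lpr_ef (f345799 IH) (Lpr_dt (f320901 IH) (Lpe (f242393 IH) (Lpe (K19.f225597 IH) (Lpr_et (K19.f225596 IH) (Lpe (K13.f171658 IH) (Lpe (K16.f171675 IH) (Lpe (K19.f271280 IH) (Lpe (f184746 IH) (Lpn (LP (LK LD1_c8 LD2_c4 LD3_c47)))))))))))))
theorem f311270 : Led Lsl_gf (LP (LK LD1_c1 LD2_c16 LD3_c3)) = (LP (LK LD1_c1 LD2_c18 LD3_c10)) :=
  Lgr Lrot104 (Lpr_ct (K19.f311260 IH) (Lpe (K14.f224180 IH) (Lpe (K16.f224179 IH) (Lpr_gf (K13.f224173 IH) (Lpe (K13.f189389 IH) (Lpe (K13.f178050 IH) (Lpe (K13.f177956 IH) (Lpr_gt (K12.f178177 IH) (Lpr_ct (K12.f189127 IH) (Lpn (LP (LK LD1_c1 LD2_c18 LD3_c10))))))))))))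
theorem f345817 : Led Lsl_gt (LP (LK LD1_c8 LD2_c3 LD3_c22)) = (LP (LK LD1_c8 LD2_c4 LD3_c47)) :=
  Lgr Lrot112 (Lpe (K19.f192624 IH) (Lpe (K16.f273289 IH) (Lpr_gf (K19.f312126 IH) (Lpe (K19.f235636 IH) (Lpr_dt (K13.f235629 IH) (Lpr_gf (f311270 IH) (Lpe (K16.f189130 IH) (Lpe (K16.f275473 IH) (Lpe (K22.f224848 IH) (Lpr_dt (f345805 IH) (Lpn (LP (LK LD1_c8 LD2_c4 LD3_c47)))))))))))))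
theorem f235158 : Led Lsl_ft (LP (LK LD1_c10 LD2_c31 LD3_c28)) = (LP (LK LD1_c5 LD2_c20 LD3_c42)) :=
  Lre_f IH (LK LD1_c10 LD2_c31 LD3_c28) (LK LD1_c5 LD2_c20 LD3_c42) Lrfl Lrfl
theorem f194481 : Led Lsl_ft (LP (LK LD1_c2 LD2_c38 LD3_c50)) = (LP (LK LD1_c5 LD2_c24 LD3_c35)) :=
  Lre_f IH (LK LD1_c2 LD2_c38 LD3_c50) (LK LD1_c5 LD2_c24 LD3_c35) Lrfl Lrfl
theorem f330228 : Led Lsl_ef (LP (LK LD1_c10 LD2_c31 LD3_c28)) = (LP (LK LD1_c5 LD2_c24 LD3_c35)) :=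
  Lgr Lrot21 (Lpr_ft (f235158 IH) (Lpr_et (K22.f224848 IH) (Lpr_ft (K21.f329833 IH) (Lpr_et (K19.f194431 IH) (Lpr_ft (f194481 IH) (Lpn (LP (LK LD1_c5 LD2_c24 LD3_c35))))))))
theorem f330256 : Led Lsl_gf (LP (LK LD1_c10 LD2_c16 LD3_c3)) = (LP (LK LD1_c15 LD2_c12 LD3_c29)) :=
  Lgr Lrot145 (Lpe (K18.f269261 IH) (Lpr_et (K20.f293336 IH) (Lpr_gt (K19.f293314 IH) (Lpr_dt (K21.f310550 IH) (Lpr_gt (K21.f329775 IH) (Lpe (K21.f194498 IH) (Lpe (f330228 IH) (Lpr_gt (K21.f330250 IH) (Lpr_ef (K19.f293395 IH) (Lpr_dt (K19.f265352 IH) (Lpn (LP (LK LD1_c15 LD2_c12 LD3_c29)))))))))))))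
theorem f46979 : Led Lsl_dt (LP (LK LD1_c15 LD2_c14 LD3_c61)) = (LP (LK LD1_c8 LD2_c6 LD3_c0)) :=
  Lre_d IH (LK LD1_c15 LD2_c14 LD3_c61) (LK LD1_c8 LD2_c6 LD3_c0) Lrfl Lrfl
theorem f330258 : Led Lsl_et (LP (LK LD1_c15 LD2_c14 LD3_c61)) = (LP (LK LD1_c15 LD2_c12 LD3_c29)) :=
  Lgr Lrot121 (Lpr_dt (f46979 IH) (Lpr_gf (K21.f46974 IH) (Lpe (K1.f46062 IH) (Lpr_et (K1.f46061 IH) (Lpe (K14.f248072 IH) (Lpe (K19.f180760 IH) (Lpr_dt (K19.f293353 IH) (Lpe (K19.f293351 IH) (Lpe (K19.f269262 IH) (Lpr_gf (f330256 IH) (Lpn (LP (LK LD1_c15 LD2_c12 LD3_c29)))))))))))))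
theorem f330262 : Led Lsl_df (LP (LK LD1_c15 LD2_c15 LD3_c0)) = (LP (LK LD1_c16 LD2_c12 LD3_c59)) :=
  Lgr Lrot70 (Lpr_et (K21.f46980 IH) (Lpr_dt (K21.f46976 IH) (Lpr_et (f330258 IH) (Lpr_dt (K21.f240203 IH) (Lpe (K19.f293395 IH) (Lpn (LP (LK LD1_c16 LD2_c12 LD3_c59))))))))
theorem f305507 : Led Lsl_et (LP (LK LD1_c17 LD2_c43 LD3_c18)) = (LP (LK LD1_c9 LD2_c37 LD3_c38)) :=
  Lre_e IH (LK LD1_c17 LD2_c43 LD3_c18) (LK LD1_c9 LD2_c37 LD3_c38) Lrfl Lrfl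
theorem f329841 : Led Lsl_dt (LP (LK LD1_c17 LD2_c43 LD3_c18)) = (LP (LK LD1_c16 LD2_c10 LD3_c24)) :=
  Lgr Lrot136 (Lpr_et (f305507 IH) (Lpr_gf (K19.f305502 IH) (Lpe (K19.f279525 IH) (Lpe (K17.f43128 IH) (Lpr_gf (K19.f279514 IH) (Lpr_df (K14.f255584 IH) (Lpr_gf (K21.f326788 IH) (Lpe (K21.f321042 IH) (Lpr_dt (K20.f321030 IH) (Lpr_gf (K21.f329839 IH) (Lpn (LP (LK LD1_c16 LD2_c10 LD3_c24)))))))))))))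
theorem f31200 : Led Lsl_dt (LP (LK LD1_c8 LD2_c39 LD3_c25)) = (LP (LK LD1_c16 LD2_c12 LD3_c50)) :=
  Lre_d IH (LK LD1_c8 LD2_c39 LD3_c25) (LK LD1_c16 LD2_c12 LD3_c50) Lrfl Lrfl
theorem f329860 : Led Lsl_gt (LP (LK LD1_c16 LD2_c12 LD3_c50)) = (LP (LK LD1_c16 LD2_c10 LD3_c24)) :=
  Lgr Lrot139 (Lpe (f31200 IH) (Lpr_gf (K19.f235478 IH) (Lpe (K19.f235473 IH) (Lpr_dt (K16.f189130 IH) (Lpr_gf (K12.f212776 IH) (Lpe (K15.f42451 IH) (Lpr_et (K19.f42472 IH) (Lpr_gf (K19.f310557 IH) (Lpe (f305507 IH) (Lpr_dt (f329841 IH) (Lpn (LP (LK LD1_c16 LD2_c10 LD3_c24)))))))))))))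
theorem f241910 : Led Lsl_dt (LP (LK LD1_c10 LD2_c15 LD3_c46)) = (LP (LK LD1_c18 LD2_c39 LD3_c61)) :=
  Lre_d IH (LK LD1_c10 LD2_c15 LD3_c46) (LK LD1_c18 LD2_c39 LD3_c61) Lrfl Lrfl
theorem f330266 : Led Lsl_gt (LP (LK LD1_c15 LD2_c15 LD3_c0)) = (LP (LK LD1_c18 LD2_c39 LD3_c61)) :=
  Lgr Lrot139 (Lpr_df (f330262 IH) (Lpe (K21.f330250 IH) (Lpr_ef (f330228 IH) (Lpr_dt (K21.f194498 IH) (Lpe (K21.f329775 IH) (Lpe (K21.f310550 IH) (Lpr_et (K21.f310552 IH) (Lpe (f329860 IH) (Lpe (K19.f241914 IH) (Lpr_dt (f241910 IH) (Lpn (LP (LK LD1_c18 LD2_c39 LD3_c61)))))))))))))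
theorem f243073 : Led Lsl_gf (LP (LK LD1_c15 LD2_c14 LD3_c61)) = (LP (LK LD1_c16 LD2_c15 LD3_c23)) :=
  Lgr Lrot138 (Lpr_dt (f46979 IH) (Lpr_gt (K21.f45836 IH) (Lpr_df (K21.f45998 IH) (Lpr_et (K1.f45824 IH) (Lpe (K10.f46579 IH) (Lpe (K13.f46991 IH) (Lpr_dt (K13.f243048 IH) (Lpr_gt (K21.f184798 IH) (Lpe (K21.f184807 IH) (Lpr_et (K21.f228955 IH) (Lpn (LP (LK LD1_c16 LD2_c15 LD3_c23)))))))))))))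
theorem f330268 : Led Lsl_gf (LP (LK LD1_c8 LD2_c3 LD3_c12)) = (LP (LK LD1_c8 LD2_c4 LD3_c41)) :=
  Lgr Lrot141 (Lpe (K21.f182013 IH) (Lpr_dt (K21.f228950 IH) (Lpe (f243073 IH) (Lpe (K21.f46976 IH) (Lpr_et (K21.f232382 IH) (Lpr_gt (f330266 IH) (Lpr_dt (K19.f241916 IH) (Lpr_gt (f329868 IH) (Lpr_df (K16.f192611 IH) (Lpe (K16.f273275 IH) (Lpn (LP (LK LD1_c8 LD2_c4 LD3_c41)))))))))))))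
theorem f327381 : Led Lsl_gf (LP (LK LD1_c7 LD2_c55 LD3_c37)) = (LP (LK LD1_c4 LD2_c21 LD3_c35)) :=
  Lgr Lrot145 (Lpe (K15.f229671 IH) (Lpr_et (K21.f294238 IH) (Lpe (K19.f296427 IH) (Lpr_dt (K19.f296423 IH) (Lpr_gt (K21.f327379 IH) (Lpr_df (K18.f243992 IH) (Lpe (K21.f243994 IH) (Lpr_gt (K22.f228961 IH) (Lpe (K21.f228955 IH) (Lpr_dt (K21.f184807 IH) (Lpn (LP (LK LD1_c4 LD2_c21 LD3_c35)))))))))))))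
theorem f310497 : Led Lsl_df (LP (LK LD1_c8 LD2_c36 LD3_c44)) = (LP (LK LD1_c16 LD2_c5 LD3_c45)) :=
  Lgr Lrot38 (Lpr_dt (K19.f310492 IH) (Lpn (LP (LK LD1_c16 LD2_c5 LD3_c45))))
theorem f328112 : Led Lsl_gf (LP (LK LD1_c16 LD2_c16 LD3_c59)) = (LP (LK LD1_c25 LD2_c6 LD3_c48)) :=
  Lgr Lrot104 (Lpr_ct (K21.f325278 IH) (Lpe (K21.f297983 IH) (Lpe (K18.f200460 IH) (Lpe (K18.f298889 IH) (Lpe (K18.f28881 IH) (Lpe (K22.f299049 IH) (Lpr_df (f310497 IH) (Lpr_gt (K21.f328106 IH) (Lpr_ct (K21.f299262 IH) (Lpn (LP (LK LD1_c25 LD2_c6 LD3_c48))))))))))))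
theorem f328671 : Led Lsl_dt (LP (LK LD1_c8 LD2_c41 LD3_c42)) = (LP (LK LD1_c8 LD2_c36 LD3_c45)) :=
  Lgr Lrot57 (Lpr_gf (K21.f328669 IH) (Lpe (K21.f299259 IH) (Lpe (f328112 IH) (Lpe (K21.f269652 IH) (Lpr_gt (K21.f197648 IH) (Lpr_dt (K15.f197647 IH) (Lpe (K18.f197649 IH) (Lpe (K13.f228062 IH) (Lpe (K18.f228064 IH) (Lpn (LP (LK LD1_c8 LD2_c36 LD3_c45))))))))))))
theorem f216810 : Led Lsl_et (LP (LK LD1_c8 LD2_c41 LD3_c42)) = (LP (LK LD1_c4 LD2_c21 LD3_c59)) :=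
  Lre_e IH (LK LD1_c8 LD2_c41 LD3_c42) (LK LD1_c4 LD2_c21 LD3_c59) Lrfl Lrfl
theorem f330273 : Led Lsl_gt (LP (LK LD1_c4 LD2_c21 LD3_c59)) = (LP (LK LD1_c7 LD2_c55 LD3_c50)) :=
  Lgr Lrot137 (Lpe (f216810 IH) (Lpr_dt (f328671 IH) (Lpe (K18.f262149 IH) (Lpe (K13.f28854 IH) (Lpr_et (K15.f262641 IH) (Lpr_gf (f327381 IH) (Lpe (K21.f228952 IH) (Lpr_dt (K21.f228942 IH) (Lpr_gf (f330268 IH) (Lpr_df (K15.f229750 IH) (Lpn (LP (LK LD1_c7 LD2_c55 LD3_c50)))))))))))))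
theorem f341940 : Led Lsl_ef (LP (LK LD1_c15 LD2_c19 LD3_c43)) = (LP (LK LD1_c8 LD2_c41 LD3_c41)) :=
  Lgr Lrot73 (Lpr_dt (f341935 IH) (Lpr_et (f228074 IH) (Lpr_dt (f341905 IH) (Lpr_et (f216810 IH) (Lpr_dt (K21.f216801 IH) (Lpn (LP (LK LD1_c8 LD2_c41 LD3_c41))))))))
theorem f341944 : Led Lsl_et (LP (LK LD1_c15 LD2_c19 LD3_c45)) = (LP (LK LD1_c8 LD2_c8 LD3_c26)) :=
  Lre_e IH (LK LD1_c15 LD2_c19 LD3_c45) (LK LD1_c8 LD2_c8 LD3_c26) Lrfl Lrfl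
theorem f345811 : Led Lsl_df (LP (LK LD1_c5 LD2_c20 LD3_c42)) = (LP (LK LD1_c8 LD2_c4 LD3_c47)) :=
  Lgr Lrot38 (Lpr_dt (f345805 IH) (Lpn (LP (LK LD1_c8 LD2_c4 LD3_c47))))
theorem f235149 : Led Lsl_gt (LP (LK LD1_c5 LD2_c20 LD3_c42)) = (LP (LK LD1_c10 LD2_c31 LD3_c26)) :=
  Lre_g IH (LK LD1_c5 LD2_c20 LD3_c42) (LK LD1_c10 LD2_c31 LD3_c26) Lrfl Lrfl
theorem f345823 : Led Lsl_dt (LP (LK LD1_c15 LD2_c19 LD3_c45)) = (LP (LK LD1_c10 LD2_c31 LD3_c26)) :=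
  Lgr Lrot56 (Lpr_et (f341944 IH) (Lpr_gt (f341934 IH) (Lpr_ef (f341940 IH) (Lpr_dt (K21.f216805 IH) (Lpr_gt (f330273 IH) (Lpe (K15.f229726 IH) (Lpr_et (K16.f273283 IH) (Lpr_gt (f345817 IH) (Lpe (f345811 IH) (Lpr_gt (f235149 IH) (Lpn (LP (LK LD1_c10 LD2_c31 LD3_c26)))))))))))))
theorem f346195 : Led Lsl_df (LP (LK LD1_c15 LD2_c19 LD3_c45)) = (LP (LK LD1_c10 LD2_c31 LD3_c26)) :=
  Lgr Lrot38 (Lpr_dt (f345823 IH) (Lpn (LP (LK LD1_c10 LD2_c31 LD3_c26))))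
theorem f237069 : Led Lsl_ct (LP (LK LD1_c15 LD2_c19 LD3_c45)) = (LP (LK LD1_c25 LD2_c10 LD3_c49)) :=
  Lre_c IH (LK LD1_c15 LD2_c19 LD3_c45) (LK LD1_c25 LD2_c10 LD3_c49) Lrfl Lrfl
theorem f192623 : Led Lsl_ct (LP (LK LD1_c15 LD2_c9 LD3_c61)) = (LP (LK LD1_c8 LD2_c3 LD3_c22)) :=
  Lre_c IH (LK LD1_c15 LD2_c9 LD3_c61) (LK LD1_c8 LD2_c3 LD3_c22) Lrfl Lrfl
theorem f246850 : Led Lsl_dt (LP (LK LD1_c9 LD2_c52 LD3_c38)) = (LP (LK LD1_c18 LD2_c4 LD3_c50)) :=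
  Lre_d IH (LK LD1_c9 LD2_c52 LD3_c38) (LK LD1_c18 LD2_c4 LD3_c50) Lrfl Lrfl
theorem f246848 : Led Lsl_gt (LP (LK LD1_c18 LD2_c4 LD3_c50)) = (LP (LK LD1_c27 LD2_c46 LD3_c17)) :=
  Lre_g IH (LK LD1_c18 LD2_c4 LD3_c50) (LK LD1_c27 LD2_c46 LD3_c17) Lrfl Lrfl
theorem f346364 : Led Lsl_df (LP (LK LD1_c25 LD2_c10 LD3_c49)) = (LP (LK LD1_c27 LD2_c46 LD3_c17)) :=
  Lgr Lrot84 (Lpe (f237069 IH) (Lpr_df (f346195 IH) (Lpe (f235149 IH) (Lpr_df (f345811 IH) (Lpe (f345817 IH) (Lpe (f192623 IH) (Lpr_gt (K16.f275980 IH) (Lpr_dt (f246850 IH) (Lpr_gt (f246848 IH) (Lpn (LP (LK LD1_c27 LD2_c46 LD3_c17))))))))))))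
theorem f346366 : Led Lsl_dt (LP (LK LD1_c25 LD2_c10 LD3_c49)) = (LP (LK LD1_c27 LD2_c46 LD3_c17)) :=
  Lgr Lrot42 (Lpr_df (f346364 IH) (Lpn (LP (LK LD1_c27 LD2_c46 LD3_c17))))
theorem f345312 : Led Lsl_at (LP (LK LD1_c18 LD2_c3 LD3_c6)) = (LP (LK LD1_c18 LD2_c2 LD3_c44)) :=
  Lgr Lrot66 (Lpe (f213459 IH) (Lpr_af (f345306 IH) (Lpe (K22.f235145 IH) (Lpn (LP (LK LD1_c18 LD2_c2 LD3_c44))))))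
theorem f345318 : Led Lsl_af (LP (LK LD1_c15 LD2_c12 LD3_c48)) = (LP (LK LD1_c10 LD2_c31 LD3_c28)) :=
  Lgr Lrot68 (Lpr_ct (K22.f312263 IH) (Lpr_at (f345312 IH) (Lpr_ct (K22.f235153 IH) (Lpn (LP (LK LD1_c10 LD2_c31 LD3_c28))))))
theorem f345326 : Led Lsl_gf (LP (LK LD1_c15 LD2_c12 LD3_c48)) = (LP (LK LD1_c10 LD2_c31 LD3_c26)) :=
  Lgr Lrot76 (Lpr_af (f345318 IH) (Lpe (K21.f235146 IH) (Lpr_gt (f235149 IH) (Lpn (LP (LK LD1_c10 LD2_c31 LD3_c26))))))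
theorem f312252 : Led Lsl_et (LP (LK LD1_c8 LD2_c4 LD3_c46)) = (LP (LK LD1_c15 LD2_c12 LD3_c49)) :=
  Lre_e IH (LK LD1_c8 LD2_c4 LD3_c46) (LK LD1_c15 LD2_c12 LD3_c49) Lrfl Lrfl
theorem f320929 : Led Lsl_df (LP (LK LD1_c15 LD2_c16 LD3_c57)) = (LP (LK LD1_c18 LD2_c21 LD3_c38)) :=
  Lgr Lrot38 (Lpr_dt (K20.f320927 IH) (Lpn (LP (LK LD1_c18 LD2_c21 LD3_c38))))
theorem f346197 : Led Lsl_gf (LP (LK LD1_c8 LD2_c8 LD3_c26)) = (LP (LK LD1_c15 LD2_c14 LD3_c10)) :=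
  Lgr Lrot141 (Lpe (f341944 IH) (Lpr_dt (f345823 IH) (Lpe (f345326 IH) (Lpe (K19.f184745 IH) (Lpr_et (f312252 IH) (Lpe (K19.f312289 IH) (Lpe (f320929 IH) (Lpe (K21.f310583 IH) (Lpr_df (K18.f259124 IH) (Lpr_et (K15.f259128 IH) (Lpn (LP (LK LD1_c15 LD2_c14 LD3_c10)))))))))))))
theorem f194717 : Led Lsl_gt (LP (LK LD1_c8 LD2_c6 LD3_c59)) = (LP (LK LD1_c4 LD2_c3 LD3_c12)) :=
  Lre_g IH (LK LD1_c8 LD2_c6 LD3_c59) (LK LD1_c4 LD2_c3 LD3_c12) Lrfl Lrfl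
theorem f346204 : Led Lsl_et (LP (LK LD1_c4 LD2_c3 LD3_c57)) = (LP (LK LD1_c8 LD2_c6 LD3_c59)) :=
  Lgr Lrot185 (Lpr_dt (f293081 IH) (Lpr_gf (f346197 IH) (Lpe (K21.f259131 IH) (Lpr_gf (K15.f259133 IH) (Lpe (K15.f252684 IH) (Lpr_dt (K14.f252678 IH) (Lpe (K15.f259135 IH) (Lpe (K10.f194748 IH) (Lpr_et (K20.f194755 IH) (Lpe (f194717 IH) (Lpn (LP (LK LD1_c8 LD2_c6 LD3_c59)))))))))))))
theorem f345956 : Led Lsl_bt (LP (LK LD1_c8 LD2_c8 LD3_c24)) = (LP (LK LD1_c4 LD2_c3 LD3_c57)) :=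
  Lre_b IH (LK LD1_c8 LD2_c8 LD3_c24) (LK LD1_c4 LD2_c3 LD3_c57) Lrfl Lrfl
theorem f346206 : Led Lsl_bt (LP (LK LD1_c8 LD2_c6 LD3_c59)) = (LP (LK LD1_c15 LD2_c16 LD3_c58)) :=
  Lre_b IH (LK LD1_c8 LD2_c6 LD3_c59) (LK LD1_c15 LD2_c16 LD3_c58) Lrfl Lrfl
theorem f346207 : Led Lsl_ef (LP (LK LD1_c8 LD2_c8 LD3_c24)) = (LP (LK LD1_c15 LD2_c16 LD3_c58)) :=
  Lgr Lrot29 (Lpr_bt (f345956 IH) (Lpr_et (f346204 IH) (Lpr_bt (f346206 IH) (Lpn (LP (LK LD1_c15 LD2_c16 LD3_c58))))))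
theorem f345825 : Led Lsl_et (LP (LK LD1_c5 LD2_c1 LD3_c0)) = (LP (LK LD1_c8 LD2_c4 LD3_c47)) :=
  Lgr Lrot122 (Lpe (f338267 IH) (Lpr_gt (f338273 IH) (Lpr_df (K10.f186857 IH) (Lpr_et (K20.f186896 IH) (Lpe (K21.f328666 IH) (Lpr_dt (K21.f216805 IH) (Lpr_gt (f330273 IH) (Lpe (K15.f229726 IH) (Lpr_et (K16.f273283 IH) (Lpr_gt (f345817 IH) (Lpn (LP (LK LD1_c8 LD2_c4 LD3_c47)))))))))))))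
theorem f235159 : Led Lsl_bt (LP (LK LD1_c2 LD2_c37 LD3_c1)) = (LP (LK LD1_c5 LD2_c20 LD3_c42)) :=
  Lre_b IH (LK LD1_c2 LD2_c37 LD3_c1) (LK LD1_c5 LD2_c20 LD3_c42) Lrfl Lrfl
theorem f345809 : Led Lsl_bf (LP (LK LD1_c5 LD2_c12 LD3_c0)) = (LP (LK LD1_c8 LD2_c4 LD3_c47)) :=
  Lgr Lrot93 (Lpr_dt (K15.f258069 IH) (Lpr_bt (f235159 IH) (Lpr_dt (f345805 IH) (Lpn (LP (LK LD1_c8 LD2_c4 LD3_c47))))))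
theorem f345827 : Led Lsl_bf (LP (LK LD1_c5 LD2_c1 LD3_c0)) = (LP (LK LD1_c2 LD2_c32 LD3_c52)) :=
  Lgr Lrot96 (Lpr_et (f345825 IH) (Lpe (f345809 IH) (Lpr_et (f200366 IH) (Lpn (LP (LK LD1_c2 LD2_c32 LD3_c52))))))
theorem f266101 : Led Lsl_bt (LP (LK LD1_c9 LD2_c51 LD3_c53)) = (LP (LK LD1_c18 LD2_c3 LD3_c19)) :=
  Lre_b IH (LK LD1_c9 LD2_c51 LD3_c53) (LK LD1_c18 LD2_c3 LD3_c19) Lrfl Lrfl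
theorem f249385 : Led Lsl_ct (LP (LK LD1_c5 LD2_c11 LD3_c61)) = (LP (LK LD1_c2 LD2_c32 LD3_c52)) :=
  Lre_c IH (LK LD1_c5 LD2_c11 LD3_c61) (LK LD1_c2 LD2_c32 LD3_c52) Lrfl Lrfl
theorem f258092 : Led Lsl_bt (LP (LK LD1_c10 LD2_c14 LD3_c48)) = (LP (LK LD1_c5 LD2_c11 LD3_c61)) :=
  Lre_b IH (LK LD1_c10 LD2_c14 LD3_c48) (LK LD1_c5 LD2_c11 LD3_c61) Lrfl Lrfl
theorem f345829 : Led Lsl_ct (LP (LK LD1_c18 LD2_c3 LD3_c19)) = (LP (LK LD1_c10 LD2_c14 LD3_c48)) :=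
  Lgr Lrot83 (Lpe (f266101 IH) (Lpe (K21.f266104 IH) (Lpr_bf (f345827 IH) (Lpe (f249385 IH) (Lpe (f258092 IH) (Lpn (LP (LK LD1_c10 LD2_c14 LD3_c48))))))))
theorem f251461 : Led Lsl_bt (LP (LK LD1_c5 LD2_c1 LD3_c7)) = (LP (LK LD1_c9 LD2_c52 LD3_c39)) :=
  Lre_b IH (LK LD1_c5 LD2_c1 LD3_c7) (LK LD1_c9 LD2_c52 LD3_c39) Lrfl Lrfl
theorem f190957 : Led Lsl_bt (LP (LK LD1_c18 LD2_c3 LD3_c19)) = (LP (LK LD1_c9 LD2_c51 LD3_c53)) :=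
  Lre_b IH (LK LD1_c18 LD2_c3 LD3_c19) (LK LD1_c9 LD2_c51 LD3_c53) Lrfl Lrfl
theorem f327326 : Led Lsl_ft (LP (LK LD1_c9 LD2_c52 LD3_c39)) = (LP (LK LD1_c18 LD2_c3 LD3_c19)) :=
  Lgr Lrot75 (Lpe (f251461 IH) (Lpr_ff (K21.f327324 IH) (Lpe (f190957 IH) (Lpn (LP (LK LD1_c18 LD2_c3 LD3_c19))))))
theorem f251485 : Led Lsl_bt (LP (LK LD1_c9 LD2_c52 LD3_c41)) = (LP (LK LD1_c18 LD2_c4 LD3_c53)) :=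
  Lre_b IH (LK LD1_c9 LD2_c52 LD3_c41) (LK LD1_c18 LD2_c4 LD3_c53) Lrfl Lrfl
theorem f251489 : Led Lsl_ct (LP (LK LD1_c10 LD2_c3 LD3_c10)) = (LP (LK LD1_c5 LD2_c6 LD3_c7)) :=
  Lre_c IH (LK LD1_c10 LD2_c3 LD3_c10) (LK LD1_c5 LD2_c6 LD3_c7) Lrfl Lrfl
theorem f251490 : Led Lsl_bt (LP (LK LD1_c18 LD2_c21 LD3_c42)) = (LP (LK LD1_c10 LD2_c3 LD3_c10)) :=
  Lre_b IH (LK LD1_c18 LD2_c21 LD3_c42) (LK LD1_c10 LD2_c3 LD3_c10) Lrfl Lrfl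
theorem f251491 : Led Lsl_ct (LP (LK LD1_c18 LD2_c4 LD3_c53)) = (LP (LK LD1_c18 LD2_c21 LD3_c42)) :=
  Lgr Lrot83 (Lpe (f251485 IH) (Lpr_cf (K21.f251479 IH) (Lpe (K21.f251488 IH) (Lpe (f251489 IH) (Lpe (f251490 IH) (Lpn (LP (LK LD1_c18 LD2_c21 LD3_c42))))))))
theorem f251499 : Led Lsl_et (LP (LK LD1_c9 LD2_c52 LD3_c39)) = (LP (LK LD1_c18 LD2_c4 LD3_c53)) :=
  Lre_e IH (LK LD1_c9 LD2_c52 LD3_c39) (LK LD1_c18 LD2_c4 LD3_c53) Lrfl Lrfl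
theorem f251500 : Led Lsl_et (LP (LK LD1_c18 LD2_c21 LD3_c42)) = (LP (LK LD1_c10 LD2_c3 LD3_c8)) :=
  Lre_e IH (LK LD1_c18 LD2_c21 LD3_c42) (LK LD1_c10 LD2_c3 LD3_c8) Lrfl Lrfl
theorem f251501 : Led Lsl_cf (LP (LK LD1_c9 LD2_c52 LD3_c39)) = (LP (LK LD1_c10 LD2_c3 LD3_c8)) :=
  Lgr Lrot39 (Lpr_et (f251499 IH) (Lpr_ct (f251491 IH) (Lpr_et (f251500 IH) (Lpn (LP (LK LD1_c10 LD2_c3 LD3_c8))))))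
theorem f345834 : Led Lsl_ff (LP (LK LD1_c10 LD2_c3 LD3_c8)) = (LP (LK LD1_c10 LD2_c14 LD3_c48)) :=
  Lgr Lrot23 (Lpe (f251501 IH) (Lpr_ft (f327326 IH) (Lpr_ct (f345829 IH) (Lpn (LP (LK LD1_c10 LD2_c14 LD3_c48))))))
theorem f345841 : Led Lsl_ft (LP (LK LD1_c10 LD2_c3 LD3_c8)) = (LP (LK LD1_c10 LD2_c14 LD3_c48)) :=
  Lgr Lrot48 (Lpr_ff (f345834 IH) (Lpn (LP (LK LD1_c10 LD2_c14 LD3_c48))))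
theorem f251505 : Led Lsl_bt (LP (LK LD1_c5 LD2_c6 LD3_c6)) = (LP (LK LD1_c10 LD2_c3 LD3_c8)) :=
  Lre_b IH (LK LD1_c5 LD2_c6 LD3_c6) (LK LD1_c10 LD2_c3 LD3_c8) Lrfl Lrfl
theorem f345845 : Led Lsl_ff (LP (LK LD1_c5 LD2_c6 LD3_c6)) = (LP (LK LD1_c5 LD2_c11 LD3_c61)) :=
  Lgr Lrot25 (Lpr_bt (f251505 IH) (Lpr_ft (f345841 IH) (Lpr_bt (f258092 IH) (Lpn (LP (LK LD1_c5 LD2_c11 LD3_c61))))))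
theorem f345851 : Led Lsl_ft (LP (LK LD1_c10 LD2_c3 LD3_c9)) = (LP (LK LD1_c10 LD2_c14 LD3_c49)) :=
  Lgr Lrot54 (Lpe (K15.f257552 IH) (Lpr_ff (f345845 IH) (Lpe (K15.f258071 IH) (Lpn (LP (LK LD1_c10 LD2_c14 LD3_c49))))))
theorem f345855 : Led Lsl_ff (LP (LK LD1_c10 LD2_c3 LD3_c9)) = (LP (LK LD1_c10 LD2_c14 LD3_c49)) :=
  Lgr Lrot3 (Lpr_ft (f345851 IH) (Lpn (LP (LK LD1_c10 LD2_c14 LD3_c49))))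
theorem f345857 : Led Lsl_ft (LP (LK LD1_c9 LD2_c57 LD3_c29)) = (LP (LK LD1_c9 LD2_c55 LD3_c2)) :=
  Lgr Lrot4 (Lpr_cf (K15.f257554 IH) (Lpr_ff (f345855 IH) (Lpr_cf (K22.f259063 IH) (Lpn (LP (LK LD1_c9 LD2_c55 LD3_c2))))))
theorem f251661 : Led Lsl_dt (LP (LK LD1_c9 LD2_c55 LD3_c2)) = (LP (LK LD1_c5 LD2_c2 LD3_c9)) :=
  Lre_d IH (LK LD1_c9 LD2_c55 LD3_c2) (LK LD1_c5 LD2_c2 LD3_c9) Lrfl Lrfl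
theorem f345859 : Led Lsl_ff (LP (LK LD1_c5 LD2_c10 LD3_c7)) = (LP (LK LD1_c5 LD2_c2 LD3_c9)) :=
  Lgr Lrot19 (Lpr_dt (K15.f257426 IH) (Lpr_ft (f345857 IH) (Lpr_dt (f251661 IH) (Lpn (LP (LK LD1_c5 LD2_c2 LD3_c9))))))
theorem f345865 : Led Lsl_ft (LP (LK LD1_c5 LD2_c10 LD3_c7)) = (LP (LK LD1_c5 LD2_c2 LD3_c9)) :=
  Lgr Lrot48 (Lpr_ff (f345859 IH) (Lpn (LP (LK LD1_c5 LD2_c2 LD3_c9))))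
theorem f266192 : Led Lsl_et (LP (LK LD1_c10 LD2_c10 LD3_c60)) = (LP (LK LD1_c5 LD2_c10 LD3_c7)) :=
  Lre_e IH (LK LD1_c10 LD2_c10 LD3_c60) (LK LD1_c5 LD2_c10 LD3_c7) Lrfl Lrfl
theorem f257419 : Led Lsl_et (LP (LK LD1_c5 LD2_c10 LD3_c7)) = (LP (LK LD1_c10 LD2_c10 LD3_c60)) :=
  Lre_e IH (LK LD1_c5 LD2_c10 LD3_c7) (LK LD1_c10 LD2_c10 LD3_c60) Lrfl Lrfl
theorem f257059 : Led Lsl_et (LP (LK LD1_c10 LD2_c24 LD3_c54)) = (LP (LK LD1_c5 LD2_c17 LD3_c38)) :=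
  Lre_e IH (LK LD1_c10 LD2_c24 LD3_c54) (LK LD1_c5 LD2_c17 LD3_c38) Lrfl Lrfl
theorem f257420 : Led Lsl_ct (LP (LK LD1_c10 LD2_c10 LD3_c60)) = (LP (LK LD1_c10 LD2_c24 LD3_c54)) :=
  Lgr Lrot15 (Lpe (f257419 IH) (Lpr_cf (K15.f257046 IH) (Lpe (f257059 IH) (Lpn (LP (LK LD1_c10 LD2_c24 LD3_c54))))))
theorem f331490 : Led Lsl_ft (LP (LK LD1_c9 LD2_c56 LD3_c49)) = (LP (LK LD1_c10 LD2_c10 LD3_c60)) :=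
  Lgr Lrot4 (Lpr_cf (K21.f330490 IH) (Lpr_ff (K22.f331486 IH) (Lpe (f257420 IH) (Lpn (LP (LK LD1_c10 LD2_c10 LD3_c60))))))
theorem f330776 : Led Lsl_ft (LP (LK LD1_c9 LD2_c55 LD3_c3)) = (LP (LK LD1_c18 LD2_c9 LD3_c16)) :=
  Lre_f IH (LK LD1_c9 LD2_c55 LD3_c3) (LK LD1_c18 LD2_c9 LD3_c16) Lrfl Lrfl
theorem f345869 : Led Lsl_ef (LP (LK LD1_c9 LD2_c56 LD3_c49)) = (LP (LK LD1_c18 LD2_c9 LD3_c16)) :=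
  Lgr Lrot21 (Lpr_ft (f331490 IH) (Lpr_et (f266192 IH) (Lpr_ft (f345865 IH) (Lpr_et (K19.f251663 IH) (Lpr_ft (f330776 IH) (Lpn (LP (LK LD1_c18 LD2_c9 LD3_c16))))))))
theorem f345873 : Led Lsl_et (LP (LK LD1_c18 LD2_c9 LD3_c20)) = (LP (LK LD1_c18 LD2_c33 LD3_c0)) :=
  Lgr Lrot123 (Lpr_af (K22.f306392 IH) (Lpr_ef (f345869 IH) (Lpr_af (K22.f335833 IH) (Lpn (LP (LK LD1_c18 LD2_c33 LD3_c0))))))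
theorem f240498 : Led Lsl_ft (LP (LK LD1_c18 LD2_c33 LD3_c0)) = (LP (LK LD1_c10 LD2_c10 LD3_c61)) :=
  Lre_f IH (LK LD1_c18 LD2_c33 LD3_c0) (LK LD1_c10 LD2_c10 LD3_c61) Lrfl Lrfl
theorem f240511 : Led Lsl_et (LP (LK LD1_c10 LD2_c10 LD3_c61)) = (LP (LK LD1_c5 LD2_c10 LD3_c8)) :=
  Lre_e IH (LK LD1_c10 LD2_c10 LD3_c61) (LK LD1_c5 LD2_c10 LD3_c8) Lrfl Lrfl
theorem f345877 : Led Lsl_ff (LP (LK LD1_c5 LD2_c2 LD3_c10)) = (LP (LK LD1_c5 LD2_c10 LD3_c8)) :=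
  Lgr Lrot72 (Lpr_et (K19.f165321 IH) (Lpr_ft (K22.f306381 IH) (Lpr_et (f345873 IH) (Lpr_ft (f240498 IH) (Lpr_et (f240511 IH) (Lpn (LP (LK LD1_c5 LD2_c10 LD3_c8))))))))
theorem f345871 : Led Lsl_af (LP (LK LD1_c5 LD2_c10 LD3_c8)) = (LP (LK LD1_c5 LD2_c2 LD3_c9)) :=
  Lgr Lrot31 (Lpe (K16.f258945 IH) (Lpr_gf (K15.f257042 IH) (Lpr_ft (f345865 IH) (Lpn (LP (LK LD1_c5 LD2_c2 LD3_c9))))))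
theorem f345879 : Led Lsl_at (LP (LK LD1_c5 LD2_c2 LD3_c10)) = (LP (LK LD1_c5 LD2_c10 LD3_c7)) :=
  Lgr Lrot66 (Lpr_ff (f345877 IH) (Lpr_af (f345871 IH) (Lpe (f345865 IH) (Lpn (LP (LK LD1_c5 LD2_c10 LD3_c7))))))
theorem f165333 : Led Lsl_et (LP (LK LD1_c9 LD2_c55 LD3_c6)) = (LP (LK LD1_c5 LD2_c2 LD3_c10)) :=
  Lre_e IH (LK LD1_c9 LD2_c55 LD3_c6) (LK LD1_c5 LD2_c2 LD3_c10) Lrfl Lrfl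
theorem f345883 : Led Lsl_af (LP (LK LD1_c9 LD2_c55 LD3_c6)) = (LP (LK LD1_c10 LD2_c10 LD3_c60)) :=
  Lgr Lrot50 (Lpr_et (f165333 IH) (Lpr_at (f345879 IH) (Lpr_et (f257419 IH) (Lpn (LP (LK LD1_c10 LD2_c10 LD3_c60))))))
theorem f345885 : Led Lsl_at (LP (LK LD1_c9 LD2_c55 LD3_c6)) = (LP (LK LD1_c10 LD2_c10 LD3_c60)) :=
  Lgr Lrot100 (Lpr_af (f345883 IH) (Lpn (LP (LK LD1_c10 LD2_c10 LD3_c60))))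
theorem f306406 : Led Lsl_ft (LP (LK LD1_c18 LD2_c9 LD3_c20)) = (LP (LK LD1_c9 LD2_c55 LD3_c6)) :=
  Lre_f IH (LK LD1_c18 LD2_c9 LD3_c20) (LK LD1_c9 LD2_c55 LD3_c6) Lrfl Lrfl
theorem f248658 : Led Lsl_et (LP (LK LD1_c18 LD2_c13 LD3_c29)) = (LP (LK LD1_c9 LD2_c57 LD3_c32)) :=
  Lre_e IH (LK LD1_c18 LD2_c13 LD3_c29) (LK LD1_c9 LD2_c57 LD3_c32) Lrfl Lrfl
theorem f257713 : Led Lsl_et (LP (LK LD1_c9 LD2_c56 LD3_c28)) = (LP (LK LD1_c5 LD2_c2 LD3_c48)) :=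
  Lre_e IH (LK LD1_c9 LD2_c56 LD3_c28) (LK LD1_c5 LD2_c2 LD3_c48) Lrfl Lrfl
theorem f257710 : Led Lsl_dt (LP (LK LD1_c9 LD2_c56 LD3_c28)) = (LP (LK LD1_c18 LD2_c11 LD3_c27)) :=
  Lre_d IH (LK LD1_c9 LD2_c56 LD3_c28) (LK LD1_c18 LD2_c11 LD3_c27) Lrfl Lrfl
theorem f257723 : Led Lsl_gt (LP (LK LD1_c18 LD2_c11 LD3_c27)) = (LP (LK LD1_c27 LD2_c51 LD3_c55)) :=
  Lre_g IH (LK LD1_c18 LD2_c11 LD3_c27) (LK LD1_c27 LD2_c51 LD3_c55) Lrfl Lrfl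
theorem f288353 : Led Lsl_dt (LP (LK LD1_c18 LD2_c13 LD3_c29)) = (LP (LK LD1_c27 LD2_c51 LD3_c55)) :=
  Lgr Lrot37 (Lpr_et (f248658 IH) (Lpr_gt (K22.f248650 IH) (Lpr_dt (K19.f184518 IH) (Lpr_gt (K19.f184519 IH) (Lpe (K19.f288350 IH) (Lpr_et (K19.f242415 IH) (Lpr_gt (K17.f288340 IH) (Lpe (f257713 IH) (Lpr_dt (f257710 IH) (Lpr_gt (f257723 IH) (Lpn (LP (LK LD1_c27 LD2_c51 LD3_c55)))))))))))))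
theorem f288358 : Led Lsl_gt (LP (LK LD1_c10 LD2_c10 LD3_c60)) = (LP (LK LD1_c9 LD2_c56 LD3_c28)) :=
  Lgr Lrot137 (Lpe (f257419 IH) (Lpr_dt (K15.f257426 IH) (Lpe (K15.f184510 IH) (Lpe (K14.f184509 IH) (Lpr_et (K14.f248671 IH) (Lpe (K22.f248650 IH) (Lpe (f248658 IH) (Lpr_dt (f288353 IH) (Lpe (f257723 IH) (Lpe (f257710 IH) (Lpn (LP (LK LD1_c9 LD2_c56 LD3_c28)))))))))))))
theorem f257750 : Led Lsl_at (LP (LK LD1_c5 LD2_c2 LD3_c59)) = (LP (LK LD1_c9 LD2_c56 LD3_c28)) :=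
  Lre_a IH (LK LD1_c5 LD2_c2 LD3_c59) (LK LD1_c9 LD2_c56 LD3_c28) Lrfl Lrfl
theorem f257751 : Led Lsl_ft (LP (LK LD1_c9 LD2_c56 LD3_c51)) = (LP (LK LD1_c5 LD2_c2 LD3_c59)) :=
  Lre_f IH (LK LD1_c9 LD2_c56 LD3_c51) (LK LD1_c5 LD2_c2 LD3_c59) Lrfl Lrfl
theorem f288361 : Led Lsl_gf (LP (LK LD1_c10 LD2_c10 LD3_c60)) = (LP (LK LD1_c9 LD2_c56 LD3_c51)) :=
  Lgr Lrot47 (Lpr_gt (f288358 IH) (Lpe (f257750 IH) (Lpe (f257751 IH) (Lpn (LP (LK LD1_c9 LD2_c56 LD3_c51))))))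
theorem f345927 : Led Lsl_gt (LP (LK LD1_c18 LD2_c9 LD3_c20)) = (LP (LK LD1_c9 LD2_c56 LD3_c51)) :=
  Lgr Lrot5 (Lpr_ft (f306406 IH) (Lpr_at (f345885 IH) (Lpr_gf (f288361 IH) (Lpn (LP (LK LD1_c9 LD2_c56 LD3_c51))))))
theorem f240499 : Led Lsl_ct (LP (LK LD1_c18 LD2_c38 LD3_c39)) = (LP (LK LD1_c18 LD2_c33 LD3_c0)) :=
  Lgr Lrot40 (Lpe (K22.f240276 IH) (Lpr_cf (K22.f240489 IH) (Lpe (f240498 IH) (Lpn (LP (LK LD1_c18 LD2_c33 LD3_c0))))))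
theorem f240503 : Led Lsl_cf (LP (LK LD1_c18 LD2_c38 LD3_c39)) = (LP (LK LD1_c18 LD2_c33 LD3_c0)) :=
  Lgr Lrot11 (Lpr_ct (f240499 IH) (Lpn (LP (LK LD1_c18 LD2_c33 LD3_c0))))
theorem f335869 : Led Lsl_ef (LP (LK LD1_c10 LD2_c16 LD3_c45)) = (LP (LK LD1_c18 LD2_c38 LD3_c39)) :=
  Lgr Lrot88 (Lpr_et (K22.f335863 IH) (Lpn (LP (LK LD1_c18 LD2_c38 LD3_c39))))
theorem f345875 : Led Lsl_cf (LP (LK LD1_c18 LD2_c9 LD3_c20)) = (LP (LK LD1_c10 LD2_c16 LD3_c45)) :=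
  Lgr Lrot39 (Lpr_et (f345873 IH) (Lpe (f240503 IH) (Lpe (f335869 IH) (Lpn (LP (LK LD1_c10 LD2_c16 LD3_c45))))))
theorem f304218 : Led Lsl_bf (LP (LK LD1_c8 LD2_c52 LD3_c0)) = (LP (LK LD1_c8 LD2_c5 LD3_c42)) :=
  Lgr Lrot24 (Lpr_bt (K22.f304216 IH) (Lpn (LP (LK LD1_c8 LD2_c5 LD3_c42))))
theorem f246107 : Led Lsl_ct (LP (LK LD1_c8 LD2_c5 LD3_c42)) = (LP (LK LD1_c15 LD2_c14 LD3_c31)) :=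
  Lre_c IH (LK LD1_c8 LD2_c5 LD3_c42) (LK LD1_c15 LD2_c14 LD3_c31) Lrfl Lrfl
theorem f257728 : Led Lsl_ct (LP (LK LD1_c5 LD2_c3 LD3_c0)) = (LP (LK LD1_c9 LD2_c56 LD3_c51)) :=
  Lre_c IH (LK LD1_c5 LD2_c3 LD3_c0) (LK LD1_c9 LD2_c56 LD3_c51) Lrfl Lrfl
theorem f314333 : Led Lsl_af (LP (LK LD1_c2 LD2_c25 LD3_c47)) = (LP (LK LD1_c2 LD2_c28 LD3_c48)) :=
  Lgr Lrot0 (Lpr_at (K19.f314331 IH) (Lpn (LP (LK LD1_c2 LD2_c28 LD3_c48))))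
theorem f335031 : Led Lsl_gt (LP (LK LD1_c2 LD2_c29 LD3_c10)) = (LP (LK LD1_c2 LD2_c25 LD3_c47)) :=
  Lgr Lrot46 (Lpe (K22.f300114 IH) (Lpr_ft (K22.f335023 IH) (Lpe (f314333 IH) (Lpn (LP (LK LD1_c2 LD2_c25 LD3_c47))))))
theorem f345931 : Led Lsl_gf (LP (LK LD1_c15 LD2_c14 LD3_c31)) = (LP (LK LD1_c9 LD2_c43 LD3_c34)) :=
  Lgr Lrot126 (Lpe (f246107 IH) (Lpe (f304218 IH) (Lpe (f331496 IH) (Lpe (f345875 IH) (Lpr_gt (f345927 IH) (Lpe (f257728 IH) (Lpr_bt (K17.f257729 IH) (Lpr_gt (f335031 IH) (Lpe (K18.f181892 IH) (Lpr_ct (K18.f185872 IH) (Lpn (LP (LK LD1_c9 LD2_c43 LD3_c34)))))))))))))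
theorem f345933 : Led Lsl_gt (LP (LK LD1_c15 LD2_c14 LD3_c31)) = (LP (LK LD1_c15 LD2_c54 LD3_c4)) :=
  Lgr Lrot46 (Lpr_gf (f345931 IH) (Lpr_ft (f342046 IH) (Lpr_at (f314253 IH) (Lpn (LP (LK LD1_c15 LD2_c54 LD3_c4))))))
theorem f246108 : Led Lsl_ct (LP (LK LD1_c4 LD2_c3 LD3_c57)) = (LP (LK LD1_c8 LD2_c8 LD3_c25)) :=
  Lre_c IH (LK LD1_c4 LD2_c3 LD3_c57) (LK LD1_c8 LD2_c8 LD3_c25) Lrfl Lrfl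
theorem f314217 : Led Lsl_dt (LP (LK LD1_c4 LD2_c14 LD3_c41)) = (LP (LK LD1_c8 LD2_c28 LD3_c9)) :=
  Lre_d IH (LK LD1_c4 LD2_c14 LD3_c41) (LK LD1_c8 LD2_c28 LD3_c9) Lrfl Lrfl
theorem f345936 : Led Lsl_gt (LP (LK LD1_c8 LD2_c8 LD3_c25)) = (LP (LK LD1_c8 LD2_c28 LD3_c2)) :=
  Lgr Lrot150 (Lpe (f246108 IH) (Lpe (f227984 IH) (Lpe (K15.f237007 IH) (Lpe (K19.f246101 IH) (Lpr_ct (f246107 IH) (Lpr_gt (f345933 IH) (Lpr_ct (K19.f314216 IH) (Lpe (f314217 IH) (Lpe (K19.f314213 IH) (Lpn (LP (LK LD1_c8 LD2_c28 LD3_c2))))))))))))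
theorem f319717 : Led Lsl_ft (LP (LK LD1_c4 LD2_c4 LD3_c8)) = (LP (LK LD1_c8 LD2_c8 LD3_c59)) :=
  Lre_f IH (LK LD1_c4 LD2_c4 LD3_c8) (LK LD1_c8 LD2_c8 LD3_c59) Lrfl Lrfl
theorem f345938 : Led Lsl_gf (LP (LK LD1_c8 LD2_c8 LD3_c25)) = (LP (LK LD1_c4 LD2_c4 LD3_c8)) :=
  Lgr Lrot47 (Lpr_gt (f345936 IH) (Lpe (K20.f319704 IH) (Lpe (f319717 IH) (Lpn (LP (LK LD1_c4 LD2_c4 LD3_c8))))))
theorem f345947 : Led Lsl_bt (LP (LK LD1_c4 LD2_c3 LD3_c57)) = (LP (LK LD1_c8 LD2_c8 LD3_c24)) :=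
  Lre_b IH (LK LD1_c4 LD2_c3 LD3_c57) (LK LD1_c8 LD2_c8 LD3_c24) Lrfl Lrfl
theorem f319664 : Led Lsl_bt (LP (LK LD1_c4 LD2_c4 LD3_c8)) = (LP (LK LD1_c8 LD2_c8 LD3_c57)) :=
  Lre_b IH (LK LD1_c4 LD2_c4 LD3_c8) (LK LD1_c8 LD2_c8 LD3_c57) Lrfl Lrfl
theorem f168748 : Led Lsl_bt (LP (LK LD1_c4 LD2_c30 LD3_c8)) = (LP (LK LD1_c2 LD2_c12 LD3_c6)) :=
  Lre_b IH (LK LD1_c4 LD2_c30 LD3_c8) (LK LD1_c2 LD2_c12 LD3_c6) Lrfl Lrfl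
theorem f319665 : Led Lsl_cf (LP (LK LD1_c4 LD2_c4 LD3_c8)) = (LP (LK LD1_c2 LD2_c25 LD3_c44)) :=
  Lgr Lrot97 (Lpr_bt (f319664 IH) (Lpr_ct (K20.f319642 IH) (Lpr_bt (f168748 IH) (Lpe (K20.f167914 IH) (Lpr_bt (f168747 IH) (Lpn (LP (LK LD1_c2 LD2_c25 LD3_c44))))))))
theorem f168785 : Led Lsl_bt (LP (LK LD1_c2 LD2_c25 LD3_c44)) = (LP (LK LD1_c1 LD2_c10 LD3_c4)) :=
  Lre_b IH (LK LD1_c2 LD2_c25 LD3_c44) (LK LD1_c1 LD2_c10 LD3_c4) Lrfl Lrfl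
theorem f185855 : Led Lsl_bt (LP (LK LD1_c5 LD2_c4 LD3_c48)) = (LP (LK LD1_c10 LD2_c0 LD3_c38)) :=
  Lre_b IH (LK LD1_c5 LD2_c4 LD3_c48) (LK LD1_c10 LD2_c0 LD3_c38) Lrfl Lrfl
theorem f185856 : Led Lsl_ef (LP (LK LD1_c9 LD2_c55 LD3_c37)) = (LP (LK LD1_c10 LD2_c0 LD3_c38)) :=
  Lgr Lrot29 (Lpr_bt (K19.f185854 IH) (Lpr_et (K18.f185852 IH) (Lpr_bt (f185855 IH) (Lpn (LP (LK LD1_c10 LD2_c0 LD3_c38))))))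
theorem f330645 : Led Lsl_gt (LP (LK LD1_c5 LD2_c2 LD3_c54)) = (LP (LK LD1_c9 LD2_c55 LD3_c37)) :=
  Lgr Lrot131 (Lpe (K16.f278216 IH) (Lpe (K16.f278214 IH) (Lpe (K16.f254272 IH) (Lpe (K14.f166883 IH) (Lpr_gf (K14.f249618 IH) (Lpe (K13.f214114 IH) (Lpr_dt (K13.f214115 IH) (Lpr_gf (K21.f330583 IH) (Lpe (f185940 IH) (Lpe (f185856 IH) (Lpn (LP (LK LD1_c9 LD2_c55 LD3_c37)))))))))))))
theorem f278225 : Led Lsl_dt (LP (LK LD1_c4 LD2_c5 LD3_c16)) = (LP (LK LD1_c5 LD2_c2 LD3_c54)) :=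
  Lgr Lrot42 (Lpr_df (K16.f278217 IH) (Lpn (LP (LK LD1_c5 LD2_c2 LD3_c54))))
theorem f246593 : Led Lsl_dt (LP (LK LD1_c1 LD2_c9 LD3_c61)) = (LP (LK LD1_c2 LD2_c3 LD3_c52)) :=
  Lgr Lrot27 (Lpe (K14.f168063 IH) (Lpe (K14.f217339 IH) (Lpe (K12.f30866 IH) (Lpe (K12.f30874 IH) (Lpe (K12.f196772 IH) (Lpe (K13.f246368 IH) (Lpr_ct (K14.f211413 IH) (Lpr_gt (K14.f246577 IH) (Lpr_ct (K14.f228897 IH) (Lpn (LP (LK LD1_c2 LD2_c3 LD3_c52))))))))))))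
theorem f168595 : Led Lsl_gt (LP (LK LD1_c4 LD2_c55 LD3_c22)) = (LP (LK LD1_c2 LD2_c25 LD3_c34)) :=
  Lre_g IH (LK LD1_c4 LD2_c55 LD3_c22) (LK LD1_c2 LD2_c25 LD3_c34) Lrfl Lrfl
theorem f278269 : Led Lsl_et (LP (LK LD1_c9 LD2_c42 LD3_c22)) = (LP (LK LD1_c4 LD2_c55 LD3_c22)) :=
  Lre_e IH (LK LD1_c9 LD2_c42 LD3_c22) (LK LD1_c4 LD2_c55 LD3_c22) Lrfl Lrfl
theorem f330674 : Led Lsl_dt (LP (LK LD1_c9 LD2_c42 LD3_c22)) = (LP (LK LD1_c9 LD2_c55 LD3_c37)) :=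
  Lgr Lrot56 (Lpr_et (f278269 IH) (Lpr_gt (f168595 IH) (Lpe (K14.f246630 IH) (Lpr_dt (f246593 IH) (Lpr_gt (K14.f246296 IH) (Lpr_df (K15.f250412 IH) (Lpe (f278265 IH) (Lpr_gt (f278241 IH) (Lpr_dt (f278225 IH) (Lpr_gt (f330645 IH) (Lpn (LP (LK LD1_c9 LD2_c55 LD3_c37)))))))))))))
theorem f330682 : Led Lsl_et (LP (LK LD1_c4 LD2_c55 LD3_c22)) = (LP (LK LD1_c9 LD2_c42 LD3_c22)) :=
  Lre_e IH (LK LD1_c4 LD2_c55 LD3_c22) (LK LD1_c9 LD2_c42 LD3_c22) Lrfl Lrfl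
theorem f251345 : Led Lsl_dt (LP (LK LD1_c9 LD2_c42 LD3_c21)) = (LP (LK LD1_c4 LD2_c55 LD3_c22)) :=
  Lre_d IH (LK LD1_c9 LD2_c42 LD3_c21) (LK LD1_c4 LD2_c55 LD3_c22) Lrfl Lrfl
theorem f185845 : Led Lsl_bt (LP (LK LD1_c5 LD2_c2 LD3_c22)) = (LP (LK LD1_c9 LD2_c55 LD3_c37)) :=
  Lre_b IH (LK LD1_c5 LD2_c2 LD3_c22) (LK LD1_c9 LD2_c55 LD3_c37) Lrfl Lrfl
theorem f171752 : Led Lsl_bt (LP (LK LD1_c10 LD2_c0 LD3_c38)) = (LP (LK LD1_c5 LD2_c4 LD3_c48)) :=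
  Lre_b IH (LK LD1_c10 LD2_c0 LD3_c38) (LK LD1_c5 LD2_c4 LD3_c48) Lrfl Lrfl
theorem f185846 : Led Lsl_et (LP (LK LD1_c9 LD2_c55 LD3_c37)) = (LP (LK LD1_c10 LD2_c0 LD3_c38)) :=
  Lgr Lrot74 (Lpe (f185845 IH) (Lpr_ef (K18.f185843 IH) (Lpe (f171752 IH) (Lpn (LP (LK LD1_c10 LD2_c0 LD3_c38))))))
theorem f330683 : Led Lsl_ef (LP (LK LD1_c9 LD2_c42 LD3_c21)) = (LP (LK LD1_c5 LD2_c4 LD3_c46)) :=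
  Lgr Lrot73 (Lpr_dt (f251345 IH) (Lpr_et (f330682 IH) (Lpr_dt (f330674 IH) (Lpr_et (f185846 IH) (Lpr_dt (f185940 IH) (Lpn (LP (LK LD1_c5 LD2_c4 LD3_c46))))))))
theorem f330690 : Led Lsl_et (LP (LK LD1_c9 LD2_c42 LD3_c21)) = (LP (LK LD1_c5 LD2_c4 LD3_c46)) :=
  Lgr Lrot87 (Lpr_ef (f330683 IH) (Lpn (LP (LK LD1_c5 LD2_c4 LD3_c46))))
theorem f330700 : Led Lsl_bf (LP (LK LD1_c9 LD2_c42 LD3_c21)) = (LP (LK LD1_c4 LD2_c55 LD3_c59)) :=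
  Lgr Lrot96 (Lpr_et (f330690 IH) (Lpr_bt (K22.f165392 IH) (Lpe (K18.f181904 IH) (Lpn (LP (LK LD1_c4 LD2_c55 LD3_c59))))))
theorem f330740 : Led Lsl_bt (LP (LK LD1_c4 LD2_c55 LD3_c22)) = (LP (LK LD1_c2 LD2_c25 LD3_c46)) :=
  Lgr Lrot95 (Lpe (f251345 IH) (Lpr_bf (f330700 IH) (Lpe (K19.f168791 IH) (Lpn (LP (LK LD1_c2 LD2_c25 LD3_c46))))))
theorem f284009 : Led Lsl_ct (LP (LK LD1_c4 LD2_c55 LD3_c22)) = (LP (LK LD1_c9 LD2_c42 LD3_c20)) :=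
  Lre_c IH (LK LD1_c4 LD2_c55 LD3_c22) (LK LD1_c9 LD2_c42 LD3_c20) Lrfl Lrfl
theorem f330680 : Led Lsl_df (LP (LK LD1_c9 LD2_c42 LD3_c22)) = (LP (LK LD1_c9 LD2_c55 LD3_c37)) :=
  Lgr Lrot38 (Lpr_dt (f330674 IH) (Lpn (LP (LK LD1_c9 LD2_c55 LD3_c37))))
theorem f330752 : Led Lsl_ct (LP (LK LD1_c9 LD2_c42 LD3_c22)) = (LP (LK LD1_c17 LD2_c51 LD3_c2)) :=
  Lre_c IH (LK LD1_c9 LD2_c42 LD3_c22) (LK LD1_c17 LD2_c51 LD3_c2) Lrfl Lrfl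
theorem f330679 : Led Lsl_dt (LP (LK LD1_c27 LD2_c37 LD3_c57)) = (LP (LK LD1_c17 LD2_c51 LD3_c2)) :=
  Lre_d IH (LK LD1_c27 LD2_c37 LD3_c57) (LK LD1_c17 LD2_c51 LD3_c2) Lrfl Lrfl
theorem f278263 : Led Lsl_cf (LP (LK LD1_c8 LD2_c11 LD3_c22)) = (LP (LK LD1_c10 LD2_c35 LD3_c2)) :=
  Lgr Lrot39 (Lpr_et (f278250 IH) (Lpe (K14.f253917 IH) (Lpr_et (f253932 IH) (Lpn (LP (LK LD1_c10 LD2_c35 LD3_c2))))))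
theorem f188077 : Led Lsl_dt (LP (LK LD1_c15 LD2_c32 LD3_c1)) = (LP (LK LD1_c25 LD2_c25 LD3_c18)) :=
  Lre_d IH (LK LD1_c15 LD2_c32 LD3_c1) (LK LD1_c25 LD2_c25 LD3_c18) Lrfl Lrfl
theorem f330755 : Led Lsl_gf (LP (LK LD1_c27 LD2_c37 LD3_c57)) = (LP (LK LD1_c25 LD2_c25 LD3_c18)) :=
  Lgr Lrot143 (Lpr_dt (f330679 IH) (Lpe (f330752 IH) (Lpr_df (f330680 IH) (Lpe (f330645 IH) (Lpe (f278225 IH) (Lpe (f278241 IH) (Lpr_cf (f278263 IH) (Lpe (f253933 IH) (Lpr_dt (f188077 IH) (Lpn (LP (LK LD1_c25 LD2_c25 LD3_c18))))))))))))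
theorem f330754 : Led Lsl_dt (LP (LK LD1_c17 LD2_c51 LD3_c2)) = (LP (LK LD1_c27 LD2_c37 LD3_c57)) :=
  Lre_d IH (LK LD1_c17 LD2_c51 LD3_c2) (LK LD1_c27 LD2_c37 LD3_c57) Lrfl Lrfl
theorem f330749 : Led Lsl_et (LP (LK LD1_c17 LD2_c51 LD3_c2)) = (LP (LK LD1_c9 LD2_c42 LD3_c20)) :=
  Lre_e IH (LK LD1_c17 LD2_c51 LD3_c2) (LK LD1_c9 LD2_c42 LD3_c20) Lrfl Lrfl
theorem f253935 : Led Lsl_et (LP (LK LD1_c2 LD2_c25 LD3_c38)) = (LP (LK LD1_c4 LD2_c55 LD3_c36)) :=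
  Lre_e IH (LK LD1_c2 LD2_c25 LD3_c38) (LK LD1_c4 LD2_c55 LD3_c36) Lrfl Lrfl
theorem f330757 : Led Lsl_gt (LP (LK LD1_c9 LD2_c42 LD3_c20)) = (LP (LK LD1_c4 LD2_c55 LD3_c36)) :=
  Lgr Lrot131 (Lpe (f330749 IH) (Lpr_dt (f330754 IH) (Lpr_gf (f330755 IH) (Lpe (f188077 IH) (Lpr_gf (f253933 IH) (Lpe (f253932 IH) (Lpe (K14.f253926 IH) (Lpe (K14.f55173 IH) (Lpe (K20.f55172 IH) (Lpr_et (f253935 IH) (Lpn (LP (LK LD1_c4 LD2_c55 LD3_c36)))))))))))))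
theorem f331566 : Led Lsl_gf (LP (LK LD1_c9 LD2_c42 LD3_c20)) = (LP (LK LD1_c10 LD2_c38 LD3_c52)) :=
  Lgr Lrot47 (Lpr_gt (f330757 IH) (Lpr_af (K22.f331551 IH) (Lpe (K22.f331550 IH) (Lpn (LP (LK LD1_c10 LD2_c38 LD3_c52))))))
theorem f346030 : Led Lsl_gt (LP (LK LD1_c8 LD2_c8 LD3_c24)) = (LP (LK LD1_c5 LD2_c24 LD3_c6)) :=
  Lgr Lrot82 (Lpe (f345947 IH) (Lpr_ct (f246108 IH) (Lpr_gf (f345938 IH) (Lpr_cf (f319665 IH) (Lpr_bt (f168785 IH) (Lpe (K18.f168773 IH) (Lpe (f330740 IH) (Lpr_ct (f284009 IH) (Lpr_gf (f331566 IH) (Lpe (K22.f318336 IH) (Lpn (LP (LK LD1_c5 LD2_c24 LD3_c6)))))))))))))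
theorem f346036 : Led Lsl_gf (LP (LK LD1_c8 LD2_c8 LD3_c24)) = (LP (LK LD1_c5 LD2_c23 LD3_c61)) :=
  Lgr Lrot47 (Lpr_gt (f346030 IH) (Lpe (K21.f224809 IH) (Lpe (K19.f224799 IH) (Lpn (LP (LK LD1_c5 LD2_c23 LD3_c61))))))
theorem f318364 : Led Lsl_df (LP (LK LD1_c2 LD2_c38 LD3_c42)) = (LP (LK LD1_c2 LD2_c38 LD3_c32)) :=
  Lgr Lrot43 (Lpr_ct (K15.f196570 IH) (Lpr_dt (K14.f41436 IH) (Lpr_ct (K12.f196824 IH) (Lpr_dt (K14.f217632 IH) (Lpr_ct (K14.f218491 IH) (Lpr_dt (K14.f167937 IH) (Lpr_ct (K12.f167932 IH) (Lpr_dt (K10.f194605 IH) (Lpr_ct (K10.f42551 IH) (Lpr_dt (K1.f41431 IH) (Lpr_ct (K12.f194444 IH) (Lpr_dt (K20.f194615 IH) (Lpe (K20.f218229 IH) (Lpr_dt (K14.f218517 IH) (Lpr_ct (K20.f318358 IH) (Lpn (LP (LK LD1_c2 LD2_c38 LD3_c32))))))))))))))))))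
theorem f318346 : Led Lsl_ft (LP (LK LD1_c2 LD2_c38 LD3_c54)) = (LP (LK LD1_c2 LD2_c38 LD3_c34)) :=
  Lgr Lrot54 (Lpe (K10.f194605 IH) (Lpr_ff (K20.f318340 IH) (Lpe (K12.f173120 IH) (Lpn (LP (LK LD1_c2 LD2_c38 LD3_c34))))))
theorem f335961 : Led Lsl_gf (LP (LK LD1_c2 LD2_c38 LD3_c42)) = (LP (LK LD1_c2 LD2_c5 LD3_c19)) :=
  Lgr Lrot76 (Lpr_af (K22.f335957 IH) (Lpe (f318346 IH) (Lpr_gt (K14.f250970 IH) (Lpn (LP (LK LD1_c2 LD2_c5 LD3_c19))))))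
theorem f220649 : Led Lsl_et (LP (LK LD1_c2 LD2_c37 LD3_c42)) = (LP (LK LD1_c1 LD2_c15 LD3_c51)) :=
  Lre_e IH (LK LD1_c2 LD2_c37 LD3_c42) (LK LD1_c1 LD2_c15 LD3_c51) Lrfl Lrfl
theorem f182832 : Led Lsl_dt (LP (LK LD1_c2 LD2_c37 LD3_c42)) = (LP (LK LD1_c5 LD2_c22 LD3_c24)) :=
  Lre_d IH (LK LD1_c2 LD2_c37 LD3_c42) (LK LD1_c5 LD2_c22 LD3_c24) Lrfl Lrfl
theorem f182838 : Led Lsl_gt (LP (LK LD1_c10 LD2_c35 LD3_c14)) = (LP (LK LD1_c5 LD2_c22 LD3_c24)) :=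
  Lre_g IH (LK LD1_c10 LD2_c35 LD3_c14) (LK LD1_c5 LD2_c22 LD3_c24) Lrfl Lrfl
theorem f346249 : Led Lsl_df (LP (LK LD1_c10 LD2_c35 LD3_c14)) = (LP (LK LD1_c15 LD2_c16 LD3_c58)) :=
  Lgr Lrot170 (Lpr_gt (f182838 IH) (Lpe (f182832 IH) (Lpr_et (f220649 IH) (Lpr_gt (K12.f182169 IH) (Lpr_dt (K12.f220632 IH) (Lpe (f335961 IH) (Lpr_df (f318364 IH) (Lpr_et (K19.f224798 IH) (Lpe (f346036 IH) (Lpr_ef (f346207 IH) (Lpn (LP (LK LD1_c15 LD2_c16 LD3_c58)))))))))))))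
theorem f220656 : Led Lsl_dt (LP (LK LD1_c5 LD2_c22 LD3_c16)) = (LP (LK LD1_c4 LD2_c15 LD3_c55)) :=
  Lgr Lrot42 (Lpr_df (K13.f220642 IH) (Lpn (LP (LK LD1_c4 LD2_c15 LD3_c55))))
theorem f346255 : Led Lsl_gt (LP (LK LD1_c15 LD2_c41 LD3_c61)) = (LP (LK LD1_c15 LD2_c16 LD3_c58)) :=
  Lgr Lrot137 (Lpe (K17.f284459 IH) (Lpr_dt (K18.f284485 IH) (Lpe (K17.f220664 IH) (Lpe (f220656 IH) (Lpr_et (K13.f220638 IH) (Lpe (K12.f182169 IH) (Lpe (f220649 IH) (Lpr_dt (f182832 IH) (Lpe (f182838 IH) (Lpr_df (f346249 IH) (Lpn (LP (LK LD1_c15 LD2_c16 LD3_c58)))))))))))))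
theorem f231246 : Led Lsl_gt (LP (LK LD1_c4 LD2_c27 LD3_c43)) = (LP (LK LD1_c8 LD2_c53 LD3_c18)) :=
  Lre_g IH (LK LD1_c4 LD2_c27 LD3_c43) (LK LD1_c8 LD2_c53 LD3_c18) Lrfl Lrfl
theorem f284560 : Led Lsl_gt (LP (LK LD1_c8 LD2_c53 LD3_c18)) = (LP (LK LD1_c8 LD2_c20 LD3_c29)) :=
  Lgr Lrot46 (Lpe (f231246 IH) (Lpr_ft (K13.f231316 IH) (Lpr_at (K18.f284531 IH) (Lpn (LP (LK LD1_c8 LD2_c20 LD3_c29))))))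
theorem f194647 : Led Lsl_et (LP (LK LD1_c5 LD2_c22 LD3_c40)) = (LP (LK LD1_c2 LD2_c37 LD3_c54)) :=
  Lre_e IH (LK LD1_c5 LD2_c22 LD3_c40) (LK LD1_c2 LD2_c37 LD3_c54) Lrfl Lrfl
theorem f194648 : Led Lsl_dt (LP (LK LD1_c5 LD2_c22 LD3_c40)) = (LP (LK LD1_c2 LD2_c37 LD3_c52)) :=
  Lre_d IH (LK LD1_c5 LD2_c22 LD3_c40) (LK LD1_c2 LD2_c37 LD3_c52) Lrfl Lrfl
theorem f231250 : Led Lsl_gt (LP (LK LD1_c5 LD2_c22 LD3_c39)) = (LP (LK LD1_c2 LD2_c37 LD3_c52)) :=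
  Lre_g IH (LK LD1_c5 LD2_c22 LD3_c39) (LK LD1_c2 LD2_c37 LD3_c52) Lrfl Lrfl
theorem f231245 : Led Lsl_et (LP (LK LD1_c2 LD2_c11 LD3_c1)) = (LP (LK LD1_c4 LD2_c27 LD3_c43)) :=
  Lre_e IH (LK LD1_c2 LD2_c11 LD3_c1) (LK LD1_c4 LD2_c27 LD3_c43) Lrfl Lrfl
theorem f231251 : Led Lsl_df (LP (LK LD1_c5 LD2_c22 LD3_c39)) = (LP (LK LD1_c8 LD2_c53 LD3_c18)) :=
  Lgr Lrot135 (Lpr_gt (f231250 IH) (Lpe (f194648 IH) (Lpr_et (f194647 IH) (Lpe (K13.f194630 IH) (Lpe (K16.f48133 IH) (Lpr_dt (K16.f48132 IH) (Lpr_gt (K12.f231232 IH) (Lpe (K12.f231244 IH) (Lpr_et (f231245 IH) (Lpr_gt (f231246 IH) (Lpn (LP (LK LD1_c8 LD2_c53 LD3_c18)))))))))))))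
theorem f42253 : Led Lsl_et (LP (LK LD1_c2 LD2_c58 LD3_c28)) = (LP (LK LD1_c6 LD2_c4 LD3_c35)) :=
  Lre_e IH (LK LD1_c2 LD2_c58 LD3_c28) (LK LD1_c6 LD2_c4 LD3_c35) Lrfl Lrfl
theorem f42243 : Led Lsl_gt (LP (LK LD1_c6 LD2_c4 LD3_c35)) = (LP (LK LD1_c11 LD2_c52 LD3_c42)) :=
  Lre_g IH (LK LD1_c6 LD2_c4 LD3_c35) (LK LD1_c11 LD2_c52 LD3_c42) Lrfl Lrfl
theorem f231268 : Led Lsl_ef (LP (LK LD1_c11 LD2_c52 LD3_c42)) = (LP (LK LD1_c8 LD2_c53 LD3_c18)) :=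
  Lgr Lrot17 (Lpe (f42243 IH) (Lpe (f42253 IH) (Lpr_dt (K15.f42241 IH) (Lpe (K10.f194180 IH) (Lpe (K16.f28674 IH) (Lpr_gf (K13.f194630 IH) (Lpe (f194647 IH) (Lpr_dt (f194648 IH) (Lpe (f231250 IH) (Lpr_df (f231251 IH) (Lpn (LP (LK LD1_c8 LD2_c53 LD3_c18)))))))))))))
theorem f231271 : Led Lsl_et (LP (LK LD1_c11 LD2_c52 LD3_c42)) = (LP (LK LD1_c8 LD2_c53 LD3_c18)) :=
  Lgr Lrot87 (Lpr_ef (f231268 IH) (Lpn (LP (LK LD1_c8 LD2_c53 LD3_c18))))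
theorem f48047 : Led Lsl_af (LP (LK LD1_c2 LD2_c37 LD3_c13)) = (LP (LK LD1_c2 LD2_c34 LD3_c18)) :=
  Lgr Lrot0 (Lpr_at (K10.f48045 IH) (Lpn (LP (LK LD1_c2 LD2_c34 LD3_c18))))
theorem f201216 : Led Lsl_gf (LP (LK LD1_c2 LD2_c37 LD3_c13)) = (LP (LK LD1_c1 LD2_c58 LD3_c59)) :=
  Lgr Lrot76 (Lpr_af (f48047 IH) (Lpr_ff (K12.f201125 IH) (Lpe (K12.f201113 IH) (Lpn (LP (LK LD1_c1 LD2_c58 LD3_c59))))))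
theorem f211368 : Led Lsl_gt (LP (LK LD1_c10 LD2_c0 LD3_c47)) = (LP (LK LD1_c5 LD2_c4 LD3_c52)) :=
  Lre_g IH (LK LD1_c10 LD2_c0 LD3_c47) (LK LD1_c5 LD2_c4 LD3_c52) Lrfl Lrfl
theorem f231273 : Led Lsl_dt (LP (LK LD1_c11 LD2_c52 LD3_c42)) = (LP (LK LD1_c10 LD2_c0 LD3_c47)) :=
  Lgr Lrot136 (Lpr_et (f231271 IH) (Lpe (f231246 IH) (Lpe (f231245 IH) (Lpr_dt (K12.f231244 IH) (Lpe (K12.f231232 IH) (Lpe (K16.f48132 IH) (Lpr_gf (f201216 IH) (Lpe (K11.f201121 IH) (Lpr_dt (K18.f211300 IH) (Lpe (f211368 IH) (Lpn (LP (LK LD1_c10 LD2_c0 LD3_c47)))))))))))))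
theorem f335368 : Led Lsl_af (LP (LK LD1_c11 LD2_c52 LD3_c19)) = (LP (LK LD1_c6 LD2_c4 LD3_c55)) :=
  Lgr Lrot0 (Lpr_at (K22.f335347 IH) (Lpn (LP (LK LD1_c6 LD2_c4 LD3_c55))))
theorem f337599 : Led Lsl_at (LP (LK LD1_c10 LD2_c46 LD3_c34)) = (LP (LK LD1_c15 LD2_c16 LD3_c24)) :=
  Lgr Lrot67 (Lpr_bf (K22.f337596 IH) (Lpr_af (f335368 IH) (Lpe (K21.f329757 IH) (Lpr_af (K19.f296272 IH) (Lpe (K19.f296276 IH) (Lpn (LP (LK LD1_c15 LD2_c16 LD3_c24))))))))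
theorem f340040 : Led Lsl_ff (LP (LK LD1_c10 LD2_c46 LD3_c34)) = (LP (LK LD1_c6 LD2_c4 LD3_c49)) :=
  Lgr Lrot52 (Lpr_at (f337599 IH) (Lpe (K20.f318118 IH) (Lpr_gf (f340036 IH) (Lpn (LP (LK LD1_c6 LD2_c4 LD3_c49))))))
theorem f240278 : Led Lsl_ct (LP (LK LD1_c11 LD2_c53 LD3_c0)) = (LP (LK LD1_c6 LD2_c4 LD3_c49)) :=
  Lre_c IH (LK LD1_c11 LD2_c53 LD3_c0) (LK LD1_c6 LD2_c4 LD3_c49) Lrfl Lrfl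
theorem f340044 : Led Lsl_ft (LP (LK LD1_c11 LD2_c5 LD3_c14)) = (LP (LK LD1_c11 LD2_c53 LD3_c0)) :=
  Lgr Lrot4 (Lpe (K22.f337615 IH) (Lpr_ff (f340040 IH) (Lpe (f240278 IH) (Lpn (LP (LK LD1_c11 LD2_c53 LD3_c0))))))
theorem f340053 : Led Lsl_ff (LP (LK LD1_c11 LD2_c5 LD3_c14)) = (LP (LK LD1_c11 LD2_c53 LD3_c0)) :=
  Lgr Lrot3 (Lpr_ft (f340044 IH) (Lpn (LP (LK LD1_c11 LD2_c53 LD3_c0))))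
theorem f337624 : Led Lsl_et (LP (LK LD1_c11 LD2_c5 LD3_c14)) = (LP (LK LD1_c19 LD2_c58 LD3_c17)) :=
  Lre_e IH (LK LD1_c11 LD2_c5 LD3_c14) (LK LD1_c19 LD2_c58 LD3_c17) Lrfl Lrfl
theorem f256836 : Led Lsl_et (LP (LK LD1_c11 LD2_c52 LD3_c41)) = (LP (LK LD1_c6 LD2_c4 LD3_c34)) :=
  Lre_e IH (LK LD1_c11 LD2_c52 LD3_c41) (LK LD1_c6 LD2_c4 LD3_c34) Lrfl Lrfl
theorem f340057 : Led Lsl_ft (LP (LK LD1_c19 LD2_c58 LD3_c17)) = (LP (LK LD1_c11 LD2_c52 LD3_c41)) :=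
  Lgr Lrot86 (Lpe (f337624 IH) (Lpr_ff (f340053 IH) (Lpe (K19.f274391 IH) (Lpr_ff (K19.f312321 IH) (Lpe (f256836 IH) (Lpn (LP (LK LD1_c11 LD2_c52 LD3_c41))))))))
theorem f42244 : Led Lsl_ct (LP (LK LD1_c11 LD2_c52 LD3_c41)) = (LP (LK LD1_c6 LD2_c4 LD3_c35)) :=
  Lre_c IH (LK LD1_c11 LD2_c52 LD3_c41) (LK LD1_c6 LD2_c4 LD3_c35) Lrfl Lrfl
theorem f42231 : Led Lsl_ft (LP (LK LD1_c6 LD2_c4 LD3_c35)) = (LP (LK LD1_c11 LD2_c52 LD3_c43)) :=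
  Lre_f IH (LK LD1_c6 LD2_c4 LD3_c35) (LK LD1_c11 LD2_c52 LD3_c43) Lrfl Lrfl
theorem f340059 : Led Lsl_cf (LP (LK LD1_c19 LD2_c58 LD3_c17)) = (LP (LK LD1_c11 LD2_c52 LD3_c43)) :=
  Lgr Lrot108 (Lpr_ft (f340057 IH) (Lpr_ct (f42244 IH) (Lpr_ft (f42231 IH) (Lpn (LP (LK LD1_c11 LD2_c52 LD3_c43))))))
theorem f340061 : Led Lsl_ct (LP (LK LD1_c19 LD2_c58 LD3_c17)) = (LP (LK LD1_c11 LD2_c52 LD3_c43)) :=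
  Lgr Lrot59 (Lpr_cf (f340059 IH) (Lpn (LP (LK LD1_c11 LD2_c52 LD3_c43))))
theorem f340063 : Led Lsl_ef (LP (LK LD1_c10 LD2_c46 LD3_c34)) = (LP (LK LD1_c11 LD2_c52 LD3_c43)) :=
  Lgr Lrot28 (Lpr_ct (K22.f337615 IH) (Lpr_et (f337624 IH) (Lpr_ct (f340061 IH) (Lpn (LP (LK LD1_c11 LD2_c52 LD3_c43))))))
theorem f340065 : Led Lsl_at (LP (LK LD1_c11 LD2_c52 LD3_c47)) = (LP (LK LD1_c11 LD2_c52 LD3_c43)) :=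
  Lgr Lrot80 (Lpr_ef (K19.f312367 IH) (Lpe (f337599 IH) (Lpr_ef (f340063 IH) (Lpn (LP (LK LD1_c11 LD2_c52 LD3_c43))))))
theorem f340067 : Led Lsl_af (LP (LK LD1_c11 LD2_c52 LD3_c47)) = (LP (LK LD1_c11 LD2_c52 LD3_c43)) :=
  Lgr Lrot0 (Lpr_at (f340065 IH) (Lpn (LP (LK LD1_c11 LD2_c52 LD3_c43))))
theorem f340109 : Led Lsl_gf (LP (LK LD1_c11 LD2_c52 LD3_c47)) = (LP (LK LD1_c11 LD2_c52 LD3_c42)) :=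
  Lgr Lrot76 (Lpr_af (f340067 IH) (Lpe (f42231 IH) (Lpr_gt (f42243 IH) (Lpn (LP (LK LD1_c11 LD2_c52 LD3_c42))))))
theorem f277596 : Led Lsl_bt (LP (LK LD1_c10 LD2_c15 LD3_c40)) = (LP (LK LD1_c5 LD2_c12 LD3_c50)) :=
  Lre_b IH (LK LD1_c10 LD2_c15 LD3_c40) (LK LD1_c5 LD2_c12 LD3_c50) Lrfl Lrfl
theorem f293324 : Led Lsl_bf (LP (LK LD1_c10 LD2_c35 LD3_c29)) = (LP (LK LD1_c10 LD2_c28 LD3_c41)) :=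
  Lgr Lrot81 (Lpe (K18.f277593 IH) (Lpr_bt (f277596 IH) (Lpr_at (K18.f293318 IH) (Lpr_bt (K18.f265340 IH) (Lpr_at (K18.f276945 IH) (Lpn (LP (LK LD1_c10 LD2_c28 LD3_c41))))))))
theorem f293752 : Led Lsl_dt (LP (LK LD1_c10 LD2_c35 LD3_c29)) = (LP (LK LD1_c18 LD2_c19 LD3_c29)) :=
  Lgr Lrot79 (Lpr_bf (f293324 IH) (Lpr_df (K18.f293750 IH) (Lpe (K18.f169888 IH) (Lpn (LP (LK LD1_c18 LD2_c19 LD3_c29))))))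
theorem f231275 : Led Lsl_df (LP (LK LD1_c11 LD2_c52 LD3_c42)) = (LP (LK LD1_c10 LD2_c0 LD3_c47)) :=
  Lgr Lrot38 (Lpr_dt (f231273 IH) (Lpn (LP (LK LD1_c10 LD2_c0 LD3_c47))))
theorem f340113 : Led Lsl_gt (LP (LK LD1_c10 LD2_c33 LD3_c12)) = (LP (LK LD1_c10 LD2_c0 LD3_c47)) :=
  Lgr Lrot137 (Lpe (K18.f304093 IH) (Lpr_dt (f293752 IH) (Lpr_gf (f306505 IH) (Lpe (K18.f251017 IH) (Lpr_et (K18.f224813 IH) (Lpe (K19.f224812 IH) (Lpe (K20.f224807 IH) (Lpe (K19.f196792 IH) (Lpr_gf (f340109 IH) (Lpr_df (f231275 IH) (Lpn (LP (LK LD1_c10 LD2_c0 LD3_c47)))))))))))))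
theorem f293097 : Led Lsl_at (LP (LK LD1_c8 LD2_c54 LD3_c13)) = (LP (LK LD1_c15 LD2_c9 LD3_c10)) :=
  Lgr Lrot100 (Lpr_af (K17.f293095 IH) (Lpn (LP (LK LD1_c15 LD2_c9 LD3_c10))))
theorem f293150 : Led Lsl_et (LP (LK LD1_c15 LD2_c19 LD3_c56)) = (LP (LK LD1_c8 LD2_c54 LD3_c13)) :=
  Lgr Lrot123 (Lpe (K17.f290746 IH) (Lpr_ef (K17.f293148 IH) (Lpe (f293097 IH) (Lpn (LP (LK LD1_c8 LD2_c54 LD3_c13))))))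
theorem f218976 : Led Lsl_gt (LP (LK LD1_c8 LD2_c2 LD3_c53)) = (LP (LK LD1_c15 LD2_c9 LD3_c9)) :=
  Lre_g IH (LK LD1_c8 LD2_c2 LD3_c53) (LK LD1_c15 LD2_c9 LD3_c9) Lrfl Lrfl
theorem f293103 : Led Lsl_gf (LP (LK LD1_c8 LD2_c54 LD3_c13)) = (LP (LK LD1_c15 LD2_c9 LD3_c9)) :=
  Lgr Lrot76 (Lpr_af (K17.f293095 IH) (Lpe (K17.f218973 IH) (Lpr_gt (f218976 IH) (Lpn (LP (LK LD1_c15 LD2_c9 LD3_c9))))))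
theorem f346253 : Led Lsl_dt (LP (LK LD1_c10 LD2_c35 LD3_c14)) = (LP (LK LD1_c15 LD2_c16 LD3_c58)) :=
  Lgr Lrot42 (Lpr_df (f346249 IH) (Lpn (LP (LK LD1_c15 LD2_c16 LD3_c58))))
theorem f346259 : Led Lsl_ef (LP (LK LD1_c15 LD2_c9 LD3_c9)) = (LP (LK LD1_c10 LD2_c35 LD3_c14)) :=
  Lgr Lrot114 (Lpe (f293103 IH) (Lpe (f293150 IH) (Lpe (K18.f303572 IH) (Lpr_gt (f340113 IH) (Lpe (f231273 IH) (Lpr_et (f231271 IH) (Lpr_gt (f284560 IH) (Lpr_dt (K10.f170738 IH) (Lpr_gt (f346255 IH) (Lpe (f346253 IH) (Lpn (LP (LK LD1_c10 LD2_c35 LD3_c14)))))))))))))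
theorem f346263 : Led Lsl_et (LP (LK LD1_c15 LD2_c9 LD3_c9)) = (LP (LK LD1_c10 LD2_c35 LD3_c14)) :=
  Lgr Lrot87 (Lpr_ef (f346259 IH) (Lpn (LP (LK LD1_c10 LD2_c35 LD3_c14))))
theorem f341938 : Led Lsl_df (LP (LK LD1_c15 LD2_c19 LD3_c43)) = (LP (LK LD1_c16 LD2_c8 LD3_c9)) :=
  Lgr Lrot38 (Lpr_dt (f341935 IH) (Lpn (LP (LK LD1_c16 LD2_c8 LD3_c9))))
theorem f346214 : Led Lsl_gt (LP (LK LD1_c11 LD2_c53 LD3_c28)) = (LP (LK LD1_c8 LD2_c6 LD3_c59)) :=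
  Lgr Lrot131 (Lpe (K20.f305597 IH) (Lpe (K19.f308924 IH) (Lpe (K18.f42891 IH) (Lpe (K13.f228062 IH) (Lpe (K18.f228064 IH) (Lpe (f228074 IH) (Lpe (f341938 IH) (Lpe (f341934 IH) (Lpe (f293081 IH) (Lpr_et (f346204 IH) (Lpn (LP (LK LD1_c8 LD2_c6 LD3_c59)))))))))))))
theorem f187944 : Led Lsl_gt (LP (LK LD1_c8 LD2_c39 LD3_c16)) = (LP (LK LD1_c4 LD2_c20 LD3_c48)) :=
  Lre_g IH (LK LD1_c8 LD2_c39 LD3_c16) (LK LD1_c4 LD2_c20 LD3_c48) Lrfl Lrfl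
theorem f346217 : Led Lsl_df (LP (LK LD1_c8 LD2_c39 LD3_c16)) = (LP (LK LD1_c8 LD2_c6 LD3_c59)) :=
  Lgr Lrot135 (Lpr_gt (f187944 IH) (Lpr_df (K21.f187938 IH) (Lpr_et (K10.f170706 IH) (Lpr_gt (K12.f227976 IH) (Lpe (K13.f227985 IH) (Lpr_dt (K13.f228062 IH) (Lpr_gt (K18.f42891 IH) (Lpr_df (K19.f308924 IH) (Lpr_et (K20.f305597 IH) (Lpr_gt (f346214 IH) (Lpn (LP (LK LD1_c8 LD2_c6 LD3_c59)))))))))))))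
theorem f346219 : Led Lsl_dt (LP (LK LD1_c8 LD2_c39 LD3_c16)) = (LP (LK LD1_c8 LD2_c6 LD3_c59)) :=
  Lgr Lrot42 (Lpr_df (f346217 IH) (Lpn (LP (LK LD1_c8 LD2_c6 LD3_c59))))
theorem f346251 : Led Lsl_bt (LP (LK LD1_c10 LD2_c35 LD3_c14)) = (LP (LK LD1_c8 LD2_c39 LD3_c16)) :=
  Lgr Lrot95 (Lpr_df (f346249 IH) (Lpe (f346206 IH) (Lpe (f346219 IH) (Lpn (LP (LK LD1_c8 LD2_c39 LD3_c16))))))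
theorem f237021 : Led Lsl_dt (LP (LK LD1_c8 LD2_c8 LD3_c26)) = (LP (LK LD1_c4 LD2_c3 LD3_c57)) :=
  Lre_d IH (LK LD1_c8 LD2_c8 LD3_c26) (LK LD1_c4 LD2_c3 LD3_c57) Lrfl Lrfl
theorem f346221 : Led Lsl_et (LP (LK LD1_c8 LD2_c39 LD3_c16)) = (LP (LK LD1_c10 LD2_c31 LD3_c26)) :=
  Lgr Lrot71 (Lpr_df (f346217 IH) (Lpe (f346204 IH) (Lpe (f237021 IH) (Lpe (f341944 IH) (Lpr_df (f346195 IH) (Lpn (LP (LK LD1_c10 LD2_c31 LD3_c26))))))))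
theorem f346265 : Led Lsl_bf (LP (LK LD1_c15 LD2_c9 LD3_c9)) = (LP (LK LD1_c10 LD2_c31 LD3_c26)) :=
  Lgr Lrot96 (Lpr_et (f346263 IH) (Lpr_bt (f346251 IH) (Lpr_et (f346221 IH) (Lpn (LP (LK LD1_c10 LD2_c31 LD3_c26))))))
theorem f254199 : Led Lsl_ct (LP (LK LD1_c5 LD2_c36 LD3_c29)) = (LP (LK LD1_c11 LD2_c5 LD3_c2)) :=
  Lre_c IH (LK LD1_c5 LD2_c36 LD3_c29) (LK LD1_c11 LD2_c5 LD3_c2) Lrfl Lrfl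
theorem f240272 : Led Lsl_dt (LP (LK LD1_c11 LD2_c53 LD3_c0)) = (LP (LK LD1_c20 LD2_c56 LD3_c16)) :=
  Lre_d IH (LK LD1_c11 LD2_c53 LD3_c0) (LK LD1_c20 LD2_c56 LD3_c16) Lrfl Lrfl
theorem f274383 : Led Lsl_gt (LP (LK LD1_c20 LD2_c56 LD3_c16)) = (LP (LK LD1_c29 LD2_c45 LD3_c7)) :=
  Lre_g IH (LK LD1_c20 LD2_c56 LD3_c16) (LK LD1_c29 LD2_c45 LD3_c7) Lrfl Lrfl
theorem f312409 : Led Lsl_ct (LP (LK LD1_c24 LD2_c50 LD3_c49)) = (LP (LK LD1_c15 LD2_c2 LD3_c17)) :=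
  Lre_c IH (LK LD1_c24 LD2_c50 LD3_c49) (LK LD1_c15 LD2_c2 LD3_c17) Lrfl Lrfl
theorem f312416 : Led Lsl_dt (LP (LK LD1_c29 LD2_c45 LD3_c7)) = (LP (LK LD1_c24 LD2_c50 LD3_c49)) :=
  Lgr Lrot105 (Lpe (f274383 IH) (Lpe (f240272 IH) (Lpr_gf (K19.f274392 IH) (Lpe (f254199 IH) (Lpr_gt (K14.f254192 IH) (Lpe (K15.f248023 IH) (Lpe (K19.f312399 IH) (Lpr_dt (K19.f312410 IH) (Lpe (f312409 IH) (Lpn (LP (LK LD1_c24 LD2_c50 LD3_c49))))))))))))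
theorem f312462 : Led Lsl_df (LP (LK LD1_c29 LD2_c45 LD3_c7)) = (LP (LK LD1_c24 LD2_c50 LD3_c49)) :=
  Lgr Lrot38 (Lpr_dt (f312416 IH) (Lpn (LP (LK LD1_c24 LD2_c50 LD3_c49))))
theorem f312464 : Led Lsl_et (LP (LK LD1_c24 LD2_c50 LD3_c49)) = (LP (LK LD1_c15 LD2_c2 LD3_c16)) :=
  Lre_e IH (LK LD1_c24 LD2_c50 LD3_c49) (LK LD1_c15 LD2_c2 LD3_c16) Lrfl Lrfl
theorem f312471 : Led Lsl_gf (LP (LK LD1_c7 LD2_c58 LD3_c28)) = (LP (LK LD1_c15 LD2_c2 LD3_c16)) :=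
  Lgr Lrot141 (Lpe (K17.f218703 IH) (Lpr_dt (K18.f54669 IH) (Lpr_gt (K18.f266877 IH) (Lpe (K15.f253902 IH) (Lpr_et (K19.f254137 IH) (Lpe (K19.f274392 IH) (Lpr_dt (f240272 IH) (Lpr_gt (f274383 IH) (Lpr_df (f312462 IH) (Lpr_et (f312464 IH) (Lpn (LP (LK LD1_c15 LD2_c2 LD3_c16)))))))))))))
theorem f312473 : Led Lsl_gt (LP (LK LD1_c16 LD2_c39 LD3_c16)) = (LP (LK LD1_c15 LD2_c2 LD3_c16)) :=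
  Lgr Lrot5 (Lpr_ft (K17.f293114 IH) (Lpr_at (K17.f293115 IH) (Lpr_gf (f312471 IH) (Lpn (LP (LK LD1_c15 LD2_c2 LD3_c16))))))
theorem f300197 : Led Lsl_ct (LP (LK LD1_c7 LD2_c58 LD3_c16)) = (LP (LK LD1_c15 LD2_c2 LD3_c16)) :=
  Lre_c IH (LK LD1_c7 LD2_c58 LD3_c16) (LK LD1_c15 LD2_c2 LD3_c16) Lrfl Lrfl
theorem f312479 : Led Lsl_bf (LP (LK LD1_c3 LD2_c58 LD3_c39)) = (LP (LK LD1_c7 LD2_c58 LD3_c16)) :=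
  Lgr Lrot24 (Lpr_bt (K19.f312477 IH) (Lpn (LP (LK LD1_c7 LD2_c58 LD3_c16))))
theorem f213631 : Led Lsl_ct (LP (LK LD1_c3 LD2_c58 LD3_c37)) = (LP (LK LD1_c7 LD2_c58 LD3_c45)) :=
  Lre_c IH (LK LD1_c3 LD2_c58 LD3_c37) (LK LD1_c7 LD2_c58 LD3_c45) Lrfl Lrfl
theorem f213590 : Led Lsl_gt (LP (LK LD1_c7 LD2_c58 LD3_c45)) = (LP (LK LD1_c15 LD2_c3 LD3_c15)) :=
  Lre_g IH (LK LD1_c7 LD2_c58 LD3_c45) (LK LD1_c15 LD2_c3 LD3_c15) Lrfl Lrfl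
theorem f346293 : Led Lsl_cf (LP (LK LD1_c15 LD2_c3 LD3_c15)) = (LP (LK LD1_c10 LD2_c31 LD3_c26)) :=
  Lgr Lrot58 (Lpe (f213590 IH) (Lpe (f213631 IH) (Lpr_bt (K22.f171273 IH) (Lpe (K14.f171279 IH) (Lpr_bf (f312479 IH) (Lpr_ct (f300197 IH) (Lpe (f312473 IH) (Lpe (K17.f293100 IH) (Lpr_gf (f293103 IH) (Lpr_bf (f346265 IH) (Lpn (LP (LK LD1_c10 LD2_c31 LD3_c26)))))))))))))
theorem f346295 : Led Lsl_ct (LP (LK LD1_c15 LD2_c3 LD3_c15)) = (LP (LK LD1_c10 LD2_c31 LD3_c26)) :=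
  Lgr Lrot59 (Lpr_cf (f346293 IH) (Lpn (LP (LK LD1_c10 LD2_c31 LD3_c26))))
theorem f296928 : Led Lsl_et (LP (LK LD1_c4 LD2_c22 LD3_c45)) = (LP (LK LD1_c7 LD2_c56 LD3_c11)) :=
  Lgr Lrot87 (Lpr_ef (K18.f296901 IH) (Lpn (LP (LK LD1_c7 LD2_c56 LD3_c11))))
theorem f332911 : Led Lsl_gf (LP (LK LD1_c8 LD2_c4 LD3_c1)) = (LP (LK LD1_c5 LD2_c8 LD3_c42)) :=
  Lgr Lrot134 (Lpr_df (K22.f332865 IH) (Lpe (K22.f193309 IH) (Lpr_gt (K22.f287110 IH) (Lpe (f296928 IH) (Lpe (K12.f200450 IH) (Lpe (K22.f328094 IH) (Lpr_df (K21.f247214 IH) (Lpr_et (K21.f247213 IH) (Lpr_gt (K22.f332773 IH) (Lpr_dt (K12.f33232 IH) (Lpn (LP (LK LD1_c5 LD2_c8 LD3_c42)))))))))))))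
theorem f193203 : Led Lsl_df (LP (LK LD1_c2 LD2_c8 LD3_c38)) = (LP (LK LD1_c4 LD2_c1 LD3_c51)) :=
  Lgr Lrot38 (Lpr_dt (K14.f193193 IH) (Lpn (LP (LK LD1_c4 LD2_c1 LD3_c51))))
theorem f33923 : Led Lsl_dt (LP (LK LD1_c2 LD2_c31 LD3_c49)) = (LP (LK LD1_c2 LD2_c31 LD3_c49)) :=
  Lgr Lrot60 (Lpr_ff (K0.f21348 IH) (Lpr_df (K0.f33918 IH) (Lpe (K14.f21337 IH) (Lpn (LP (LK LD1_c2 LD2_c31 LD3_c49))))))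
theorem f193251 : Led Lsl_gt (LP (LK LD1_c16 LD2_c19 LD3_c18)) = (LP (LK LD1_c10 LD2_c9 LD3_c34)) :=
  Lgr Lrot137 (Lpe (K22.f193250 IH) (Lpr_dt (K22.f193249 IH) (Lpe (K22.f193210 IH) (Lpr_df (f193203 IH) (Lpr_et (K14.f180788 IH) (Lpe (K10.f180781 IH) (Lpe (K0.f21851 IH) (Lpr_dt (f33923 IH) (Lpe (K19.f33947 IH) (Lpe (K19.f33975 IH) (Lpn (LP (LK LD1_c10 LD2_c9 LD3_c34)))))))))))))
theorem f33964 : Led Lsl_dt (LP (LK LD1_c5 LD2_c9 LD3_c25)) = (LP (LK LD1_c10 LD2_c9 LD3_c34)) :=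
  Lre_d IH (LK LD1_c5 LD2_c9 LD3_c25) (LK LD1_c10 LD2_c9 LD3_c34) Lrfl Lrfl
theorem f239894 : Led Lsl_gf (LP (LK LD1_c9 LD2_c0 LD3_c58)) = (LP (LK LD1_c10 LD2_c8 LD3_c9)) :=
  Lgr Lrot76 (Lpr_af (K13.f239849 IH) (Lpe (K13.f239472 IH) (Lpr_gt (K19.f216377 IH) (Lpn (LP (LK LD1_c10 LD2_c8 LD3_c9))))))
theorem f332913 : Led Lsl_gt (LP (LK LD1_c10 LD2_c9 LD3_c35)) = (LP (LK LD1_c9 LD2_c53 LD3_c41)) :=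
  Lgr Lrot137 (Lpe (K19.f193254 IH) (Lpr_dt (f33964 IH) (Lpe (f193251 IH) (Lpe (K22.f332828 IH) (Lpr_et (K22.f184662 IH) (Lpr_gf (f332911 IH) (Lpe (K13.f240217 IH) (Lpe (K22.f239828 IH) (Lpr_gf (f239894 IH) (Lpe (K19.f311556 IH) (Lpn (LP (LK LD1_c9 LD2_c53 LD3_c41)))))))))))))
theorem f237068 : Led Lsl_ct (LP (LK LD1_c25 LD2_c10 LD3_c49)) = (LP (LK LD1_c15 LD2_c19 LD3_c45)) :=
  Lre_c IH (LK LD1_c25 LD2_c10 LD3_c49) (LK LD1_c15 LD2_c19 LD3_c45) Lrfl Lrfl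
theorem f346316 : Led Lsl_gt (LP (LK LD1_c18 LD2_c6 LD3_c20)) = (LP (LK LD1_c25 LD2_c10 LD3_c49)) :=
  Lgr Lrot150 (Lpe (K19.f311562 IH) (Lpe (f332913 IH) (Lpe (K22.f246869 IH) (Lpr_gt (K19.f171312 IH) (Lpr_ct (f213631 IH) (Lpr_gt (f213590 IH) (Lpr_ct (f346295 IH) (Lpe (f345823 IH) (Lpe (f237068 IH) (Lpn (LP (LK LD1_c25 LD2_c10 LD3_c49))))))))))))
theorem f311558 : Led Lsl_ct (LP (LK LD1_c18 LD2_c6 LD3_c20)) = (LP (LK LD1_c9 LD2_c53 LD3_c41)) :=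
  Lre_c IH (LK LD1_c18 LD2_c6 LD3_c20) (LK LD1_c9 LD2_c53 LD3_c41) Lrfl Lrfl
theorem f345005 : Led Lsl_ft (LP (LK LD1_c5 LD2_c8 LD3_c52)) = (LP (LK LD1_c8 LD2_c4 LD3_c6)) :=
  Lgr Lrot48 (Lpr_ff (f344995 IH) (Lpn (LP (LK LD1_c8 LD2_c4 LD3_c6))))
theorem f195635 : Led Lsl_ct (LP (LK LD1_c8 LD2_c4 LD3_c6)) = (LP (LK LD1_c15 LD2_c11 LD3_c21)) :=
  Lre_c IH (LK LD1_c8 LD2_c4 LD3_c6) (LK LD1_c15 LD2_c11 LD3_c21) Lrfl Lrfl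
theorem f345009 : Led Lsl_ff (LP (LK LD1_c10 LD2_c8 LD3_c8)) = (LP (LK LD1_c15 LD2_c11 LD3_c21)) :=
  Lgr Lrot23 (Lpr_ct (K19.f235389 IH) (Lpr_ft (f345005 IH) (Lpr_ct (f195635 IH) (Lpn (LP (LK LD1_c15 LD2_c11 LD3_c21))))))
theorem f342298 : Led Lsl_ff (LP (LK LD1_c5 LD2_c1 LD3_c3)) = (LP (LK LD1_c9 LD2_c51 LD3_c52)) :=
  Lgr Lrot3 (Lpr_ft (f342292 IH) (Lpn (LP (LK LD1_c9 LD2_c51 LD3_c52))))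
theorem f327081 : Led Lsl_ft (LP (LK LD1_c9 LD2_c52 LD3_c32)) = (LP (LK LD1_c18 LD2_c4 LD3_c40)) :=
  Lre_f IH (LK LD1_c9 LD2_c52 LD3_c32) (LK LD1_c18 LD2_c4 LD3_c40) Lrfl Lrfl
theorem f345013 : Led Lsl_et (LP (LK LD1_c18 LD2_c4 LD3_c40)) = (LP (LK LD1_c15 LD2_c11 LD3_c21)) :=
  Lgr Lrot69 (Lpe (f327081 IH) (Lpe (f266019 IH) (Lpr_ff (f342298 IH) (Lpe (K14.f239556 IH) (Lpr_ff (f345009 IH) (Lpn (LP (LK LD1_c15 LD2_c11 LD3_c21))))))))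
theorem f345017 : Led Lsl_gt (LP (LK LD1_c8 LD2_c4 LD3_c45)) = (LP (LK LD1_c15 LD2_c11 LD3_c21)) :=
  Lgr Lrot131 (Lpe (K16.f242121 IH) (Lpr_dt (K16.f242119 IH) (Lpe (K20.f262404 IH) (Lpr_df (K0.f34022 IH) (Lpr_gf (K20.f262401 IH) (Lpe (f33863 IH) (Lpr_dt (K18.f33864 IH) (Lpe (K21.f262408 IH) (Lpr_df (K21.f327232 IH) (Lpr_et (f345013 IH) (Lpn (LP (LK LD1_c15 LD2_c11 LD3_c21)))))))))))))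
theorem f345019 : Led Lsl_at (LP (LK LD1_c10 LD2_c8 LD3_c6)) = (LP (LK LD1_c15 LD2_c11 LD3_c21)) :=
  Lgr Lrot26 (Lpr_ff (f339780 IH) (Lpe (K16.f246840 IH) (Lpr_gt (f345017 IH) (Lpn (LP (LK LD1_c15 LD2_c11 LD3_c21))))))
theorem f339839 : Led Lsl_dt (LP (LK LD1_c18 LD2_c27 LD3_c38)) = (LP (LK LD1_c10 LD2_c8 LD3_c6)) :=
  Lre_d IH (LK LD1_c18 LD2_c27 LD3_c38) (LK LD1_c10 LD2_c8 LD3_c6) Lrfl Lrfl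
theorem f330338 : Led Lsl_dt (LP (LK LD1_c15 LD2_c11 LD3_c21)) = (LP (LK LD1_c25 LD2_c0 LD3_c30)) :=
  Lre_d IH (LK LD1_c15 LD2_c11 LD3_c21) (LK LD1_c25 LD2_c0 LD3_c30) Lrfl Lrfl
theorem f345046 : Led Lsl_af (LP (LK LD1_c18 LD2_c27 LD3_c38)) = (LP (LK LD1_c25 LD2_c0 LD3_c30)) :=
  Lgr Lrot117 (Lpr_dt (f339839 IH) (Lpr_at (f345019 IH) (Lpr_dt (f330338 IH) (Lpn (LP (LK LD1_c25 LD2_c0 LD3_c30))))))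
theorem f235376 : Led Lsl_dt (LP (LK LD1_c10 LD2_c8 LD3_c8)) = (LP (LK LD1_c18 LD2_c27 LD3_c41)) :=
  Lre_d IH (LK LD1_c10 LD2_c8 LD3_c8) (LK LD1_c18 LD2_c27 LD3_c41) Lrfl Lrfl
theorem f330337 : Led Lsl_dt (LP (LK LD1_c25 LD2_c0 LD3_c30)) = (LP (LK LD1_c15 LD2_c11 LD3_c21)) :=
  Lre_d IH (LK LD1_c25 LD2_c0 LD3_c30) (LK LD1_c15 LD2_c11 LD3_c21) Lrfl Lrfl
theorem f345011 : Led Lsl_ft (LP (LK LD1_c18 LD2_c27 LD3_c41)) = (LP (LK LD1_c25 LD2_c0 LD3_c30)) :=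
  Lgr Lrot54 (Lpe (f235376 IH) (Lpr_ff (f345009 IH) (Lpe (f330337 IH) (Lpn (LP (LK LD1_c25 LD2_c0 LD3_c30))))))
theorem f345021 : Led Lsl_gf (LP (LK LD1_c15 LD2_c9 LD3_c61)) = (LP (LK LD1_c15 LD2_c11 LD3_c21)) :=
  Lgr Lrot76 (Lpr_af (K16.f275966 IH) (Lpe (K16.f275965 IH) (Lpr_gt (f345017 IH) (Lpn (LP (LK LD1_c15 LD2_c11 LD3_c21))))))
theorem f345023 : Led Lsl_af (LP (LK LD1_c9 LD2_c52 LD3_c38)) = (LP (LK LD1_c10 LD2_c8 LD3_c8)) :=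
  Lgr Lrot31 (Lpe (K16.f275980 IH) (Lpr_gf (f345021 IH) (Lpe (f345009 IH) (Lpn (LP (LK LD1_c10 LD2_c8 LD3_c8))))))
theorem f235384 : Led Lsl_dt (LP (LK LD1_c18 LD2_c27 LD3_c41)) = (LP (LK LD1_c10 LD2_c8 LD3_c8)) :=
  Lre_d IH (LK LD1_c18 LD2_c27 LD3_c41) (LK LD1_c10 LD2_c8 LD3_c8) Lrfl Lrfl
theorem f345040 : Led Lsl_at (LP (LK LD1_c18 LD2_c4 LD3_c50)) = (LP (LK LD1_c18 LD2_c27 LD3_c41)) :=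
  Lgr Lrot51 (Lpe (f246850 IH) (Lpr_af (f345023 IH) (Lpe (f235384 IH) (Lpn (LP (LK LD1_c18 LD2_c27 LD3_c41))))))
theorem f345051 : Led Lsl_ft (LP (LK LD1_c18 LD2_c27 LD3_c38)) = (LP (LK LD1_c18 LD2_c4 LD3_c50)) :=
  Lgr Lrot101 (Lpr_af (f345046 IH) (Lpe (f345011 IH) (Lpe (f345040 IH) (Lpn (LP (LK LD1_c18 LD2_c4 LD3_c50))))))
theorem f345056 : Led Lsl_ff (LP (LK LD1_c18 LD2_c27 LD3_c38)) = (LP (LK LD1_c18 LD2_c4 LD3_c50)) :=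
  Lgr Lrot3 (Lpr_ft (f345051 IH) (Lpn (LP (LK LD1_c18 LD2_c4 LD3_c50))))
theorem f345048 : Led Lsl_at (LP (LK LD1_c18 LD2_c27 LD3_c38)) = (LP (LK LD1_c25 LD2_c0 LD3_c30)) :=
  Lgr Lrot100 (Lpr_af (f345046 IH) (Lpn (LP (LK LD1_c25 LD2_c0 LD3_c30))))
theorem f345064 : Led Lsl_gf (LP (LK LD1_c25 LD2_c0 LD3_c30)) = (LP (LK LD1_c27 LD2_c46 LD3_c17)) :=
  Lgr Lrot76 (Lpe (f345048 IH) (Lpr_ff (f345056 IH) (Lpr_gt (f246848 IH) (Lpn (LP (LK LD1_c27 LD2_c46 LD3_c17))))))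
theorem f261620 : Led Lsl_gt (LP (LK LD1_c8 LD2_c6 LD3_c10)) = (LP (LK LD1_c15 LD2_c15 LD3_c17)) :=
  Lre_g IH (LK LD1_c8 LD2_c6 LD3_c10) (LK LD1_c15 LD2_c15 LD3_c17) Lrfl Lrfl
theorem f261780 : Led Lsl_ct (LP (LK LD1_c4 LD2_c29 LD3_c32)) = (LP (LK LD1_c8 LD2_c57 LD3_c11)) :=
  Lre_c IH (LK LD1_c4 LD2_c29 LD3_c32) (LK LD1_c8 LD2_c57 LD3_c11) Lrfl Lrfl
theorem f281059 : Led Lsl_bt (LP (LK LD1_c10 LD2_c56 LD3_c25)) = (LP (LK LD1_c5 LD2_c32 LD3_c28)) :=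
  Lre_b IH (LK LD1_c10 LD2_c56 LD3_c25) (LK LD1_c5 LD2_c32 LD3_c28) Lrfl Lrfl
theorem f261904 : Led Lsl_bt (LP (LK LD1_c8 LD2_c57 LD3_c11)) = (LP (LK LD1_c16 LD2_c45 LD3_c37)) :=
  Lre_b IH (LK LD1_c8 LD2_c57 LD3_c11) (LK LD1_c16 LD2_c45 LD3_c37) Lrfl Lrfl
theorem f281060 : Led Lsl_et (LP (LK LD1_c5 LD2_c32 LD3_c28)) = (LP (LK LD1_c8 LD2_c57 LD3_c11)) :=
  Lgr Lrot74 (Lpe (f281059 IH) (Lpr_ef (K20.f281054 IH) (Lpe (f261904 IH) (Lpn (LP (LK LD1_c8 LD2_c57 LD3_c11))))))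
theorem f281498 : Led Lsl_ef (LP (LK LD1_c5 LD2_c32 LD3_c28)) = (LP (LK LD1_c8 LD2_c57 LD3_c11)) :=
  Lgr Lrot88 (Lpr_et (f281060 IH) (Lpn (LP (LK LD1_c8 LD2_c57 LD3_c11))))
theorem f213368 : Led Lsl_at (LP (LK LD1_c5 LD2_c32 LD3_c28)) = (LP (LK LD1_c10 LD2_c56 LD3_c2)) :=
  Lre_a IH (LK LD1_c5 LD2_c32 LD3_c28) (LK LD1_c10 LD2_c56 LD3_c2) Lrfl Lrfl
theorem f213152 : Led Lsl_et (LP (LK LD1_c8 LD2_c6 LD3_c10)) = (LP (LK LD1_c4 LD2_c2 LD3_c48)) :=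
  Lre_e IH (LK LD1_c8 LD2_c6 LD3_c10) (LK LD1_c4 LD2_c2 LD3_c48) Lrfl Lrfl
theorem f213164 : Led Lsl_ft (LP (LK LD1_c15 LD2_c15 LD3_c20)) = (LP (LK LD1_c8 LD2_c6 LD3_c10)) :=
  Lre_f IH (LK LD1_c15 LD2_c15 LD3_c20) (LK LD1_c8 LD2_c6 LD3_c10) Lrfl Lrfl
theorem f213166 : Led Lsl_ft (LP (LK LD1_c5 LD2_c32 LD3_c10)) = (LP (LK LD1_c10 LD2_c56 LD3_c2)) :=
  Lre_f IH (LK LD1_c5 LD2_c32 LD3_c10) (LK LD1_c10 LD2_c56 LD3_c2) Lrfl Lrfl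
theorem f213167 : Led Lsl_ef (LP (LK LD1_c15 LD2_c15 LD3_c20)) = (LP (LK LD1_c10 LD2_c56 LD3_c2)) :=
  Lgr Lrot21 (Lpr_ft (f213164 IH) (Lpr_et (f213152 IH) (Lpr_ft (K12.f213149 IH) (Lpr_et (K22.f213165 IH) (Lpr_ft (f213166 IH) (Lpn (LP (LK LD1_c10 LD2_c56 LD3_c2))))))))
theorem f281501 : Led Lsl_at (LP (LK LD1_c15 LD2_c15 LD3_c20)) = (LP (LK LD1_c8 LD2_c57 LD3_c11)) :=
  Lgr Lrot80 (Lpr_ef (f213167 IH) (Lpe (f213368 IH) (Lpr_ef (f281498 IH) (Lpn (LP (LK LD1_c8 LD2_c57 LD3_c11))))))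
theorem f281513 : Led Lsl_gt (LP (LK LD1_c15 LD2_c15 LD3_c17)) = (LP (LK LD1_c8 LD2_c57 LD3_c11)) :=
  Lgr Lrot46 (Lpe (f261620 IH) (Lpr_ft (K20.f213239 IH) (Lpr_at (f281501 IH) (Lpn (LP (LK LD1_c8 LD2_c57 LD3_c11))))))
theorem f213720 : Led Lsl_bt (LP (LK LD1_c15 LD2_c3 LD3_c19)) = (LP (LK LD1_c7 LD2_c58 LD3_c46)) :=
  Lre_b IH (LK LD1_c15 LD2_c3 LD3_c19) (LK LD1_c7 LD2_c58 LD3_c46) Lrfl Lrfl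
theorem f320117 : Led Lsl_cf (LP (LK LD1_c15 LD2_c15 LD3_c17)) = (LP (LK LD1_c15 LD2_c3 LD3_c19)) :=
  Lgr Lrot160 (Lpr_gt (f281513 IH) (Lpe (f261780 IH) (Lpr_bt (K22.f261776 IH) (Lpr_gt (K15.f261771 IH) (Lpr_ct (K20.f198767 IH) (Lpr_gt (K20.f319988 IH) (Lpr_cf (K22.f213578 IH) (Lpr_bt (K16.f171285 IH) (Lpr_gt (K22.f171310 IH) (Lpe (f213720 IH) (Lpn (LP (LK LD1_c15 LD2_c3 LD3_c19)))))))))))))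
theorem f342161 : Led Lsl_gf (LP (LK LD1_c8 LD2_c27 LD3_c56)) = (LP (LK LD1_c7 LD2_c58 LD3_c46)) :=
  Lgr Lrot124 (Lpe (K19.f235439 IH) (Lpr_ct (K20.f314136 IH) (Lpr_gt (f342147 IH) (Lpe (K18.f246106 IH) (Lpr_bt (f330537 IH) (Lpr_gt (K17.f254508 IH) (Lpr_ct (K15.f261619 IH) (Lpr_gt (f261620 IH) (Lpr_cf (f320117 IH) (Lpr_bt (f213720 IH) (Lpn (LP (LK LD1_c7 LD2_c58 LD3_c46)))))))))))))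
theorem f246859 : Led Lsl_dt (LP (LK LD1_c15 LD2_c3 LD3_c21)) = (LP (LK LD1_c7 LD2_c58 LD3_c46)) :=
  Lre_d IH (LK LD1_c15 LD2_c3 LD3_c21) (LK LD1_c7 LD2_c58 LD3_c46) Lrfl Lrfl
theorem f346369 : Led Lsl_gt (LP (LK LD1_c9 LD2_c53 LD3_c41)) = (LP (LK LD1_c15 LD2_c3 LD3_c21)) :=
  Lgr Lrot94 (Lpe (f311558 IH) (Lpr_gt (f346316 IH) (Lpr_dt (f346366 IH) (Lpe (f345064 IH) (Lpr_dt (f330337 IH) (Lpe (f195635 IH) (Lpe (f345003 IH) (Lpr_gf (f342161 IH) (Lpe (f246859 IH) (Lpn (LP (LK LD1_c15 LD2_c3 LD3_c21))))))))))))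
theorem f216378 : Led Lsl_et (LP (LK LD1_c2 LD2_c4 LD3_c38)) = (LP (LK LD1_c4 LD2_c14 LD3_c31)) :=
  Lre_e IH (LK LD1_c2 LD2_c4 LD3_c38) (LK LD1_c4 LD2_c14 LD3_c31) Lrfl Lrfl
theorem f189175 : Led Lsl_gt (LP (LK LD1_c8 LD2_c27 LD3_c46)) = (LP (LK LD1_c4 LD2_c14 LD3_c31)) :=
  Lre_g IH (LK LD1_c8 LD2_c27 LD3_c46) (LK LD1_c4 LD2_c14 LD3_c31) Lrfl Lrfl
theorem f171311 : Led Lsl_dt (LP (LK LD1_c7 LD2_c58 LD3_c46)) = (LP (LK LD1_c15 LD2_c3 LD3_c21)) :=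
  Lre_d IH (LK LD1_c7 LD2_c58 LD3_c46) (LK LD1_c15 LD2_c3 LD3_c21) Lrfl Lrfl
theorem f346371 : Led Lsl_ef (LP (LK LD1_c8 LD2_c27 LD3_c46)) = (LP (LK LD1_c7 LD2_c58 LD3_c46)) :=
  Lgr Lrot114 (Lpr_gt (f189175 IH) (Lpe (f216378 IH) (Lpr_dt (K12.f27895 IH) (Lpr_gt (K13.f216374 IH) (Lpe (K13.f191139 IH) (Lpr_et (K14.f216376 IH) (Lpr_gt (K19.f216377 IH) (Lpe (K19.f311559 IH) (Lpr_gt (f346369 IH) (Lpe (f171311 IH) (Lpn (LP (LK LD1_c7 LD2_c58 LD3_c46)))))))))))))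
theorem f346373 : Led Lsl_et (LP (LK LD1_c8 LD2_c27 LD3_c46)) = (LP (LK LD1_c7 LD2_c58 LD3_c46)) :=
  Lgr Lrot87 (Lpr_ef (f346371 IH) (Lpn (LP (LK LD1_c7 LD2_c58 LD3_c46))))
theorem f315578 : Led Lsl_at (LP (LK LD1_c1 LD2_c18 LD3_c17)) = (LP (LK LD1_c2 LD2_c43 LD3_c36)) :=
  Lre_a IH (LK LD1_c1 LD2_c18 LD3_c17) (LK LD1_c2 LD2_c43 LD3_c36) Lrfl Lrfl
theorem f315579 : Led Lsl_df (LP (LK LD1_c4 LD2_c50 LD3_c40)) = (LP (LK LD1_c2 LD2_c43 LD3_c36)) :=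
  Lgr Lrot18 (Lpr_at (K20.f315573 IH) (Lpr_dt (K22.f189153 IH) (Lpr_at (f315578 IH) (Lpn (LP (LK LD1_c2 LD2_c43 LD3_c36))))))
theorem f231571 : Led Lsl_gt (LP (LK LD1_c9 LD2_c33 LD3_c26)) = (LP (LK LD1_c4 LD2_c50 LD3_c40)) :=
  Lre_g IH (LK LD1_c9 LD2_c33 LD3_c26) (LK LD1_c4 LD2_c50 LD3_c40) Lrfl Lrfl
theorem f346375 : Led Lsl_dt (LP (LK LD1_c8 LD2_c27 LD3_c46)) = (LP (LK LD1_c9 LD2_c33 LD3_c26)) :=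
  Lgr Lrot136 (Lpr_et (f346373 IH) (Lpe (K22.f171310 IH) (Lpe (K19.f171304 IH) (Lpr_dt (K14.f171264 IH) (Lpr_gf (K14.f246817 IH) (Lpe (K20.f238077 IH) (Lpe (K20.f313081 IH) (Lpe (K22.f199422 IH) (Lpe (f315579 IH) (Lpe (f231571 IH) (Lpn (LP (LK LD1_c9 LD2_c33 LD3_c26)))))))))))))
theorem f332822 : Led Lsl_gt (LP (LK LD1_c8 LD2_c27 LD3_c22)) = (LP (LK LD1_c6 LD2_c7 LD3_c1)) :=
  Lgr Lrot131 (Lpr_ef (K19.f314540 IH) (Lpe (K21.f314538 IH) (Lpe (K21.f330353 IH) (Lpr_df (K14.f253119 IH) (Lpr_gf (K22.f332814 IH) (Lpe (K21.f323699 IH) (Lpr_dt (K21.f323690 IH) (Lpe (K22.f323695 IH) (Lpr_df (K22.f313119 IH) (Lpr_et (K21.f168961 IH) (Lpn (LP (LK LD1_c6 LD2_c7 LD3_c1)))))))))))))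
theorem f313102 : Led Lsl_gt (LP (LK LD1_c5 LD2_c35 LD3_c21)) = (LP (LK LD1_c2 LD2_c43 LD3_c53)) :=
  Lre_g IH (LK LD1_c5 LD2_c35 LD3_c21) (LK LD1_c2 LD2_c43 LD3_c53) Lrfl Lrfl
theorem f346377 : Led Lsl_gf (LP (LK LD1_c9 LD2_c33 LD3_c26)) = (LP (LK LD1_c5 LD2_c36 LD3_c4)) :=
  Lgr Lrot134 (Lpe (f346375 IH) (Lpr_et (f346373 IH) (Lpe (f342161 IH) (Lpe (K19.f235317 IH) (Lpe (K19.f314560 IH) (Lpr_gt (f332822 IH) (Lpe (K20.f235113 IH) (Lpe (K21.f313092 IH) (Lpr_gt (f313102 IH) (Lpr_dt (K20.f313103 IH) (Lpn (LP (LK LD1_c5 LD2_c36 LD3_c4)))))))))))))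
theorem f313190 : Led Lsl_ct (LP (LK LD1_c11 LD2_c4 LD3_c29)) = (LP (LK LD1_c5 LD2_c36 LD3_c4)) :=
  Lre_c IH (LK LD1_c11 LD2_c4 LD3_c29) (LK LD1_c5 LD2_c36 LD3_c4) Lrfl Lrfl
theorem f346212 : Led Lsl_ef (LP (LK LD1_c4 LD2_c3 LD3_c57)) = (LP (LK LD1_c8 LD2_c6 LD3_c59)) :=
  Lgr Lrot88 (Lpr_et (f346204 IH) (Lpn (LP (LK LD1_c8 LD2_c6 LD3_c59))))
theorem f346216 : Led Lsl_ct (LP (LK LD1_c15 LD2_c16 LD3_c59)) = (LP (LK LD1_c8 LD2_c6 LD3_c59)) :=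
  Lre_c IH (LK LD1_c15 LD2_c16 LD3_c59) (LK LD1_c8 LD2_c6 LD3_c59) Lrfl Lrfl
theorem f346233 : Led Lsl_et (LP (LK LD1_c8 LD2_c8 LD3_c25)) = (LP (LK LD1_c15 LD2_c16 LD3_c59)) :=
  Lgr Lrot158 (Lpe (f246108 IH) (Lpr_ef (f346212 IH) (Lpe (f346216 IH) (Lpn (LP (LK LD1_c15 LD2_c16 LD3_c59))))))
theorem f345942 : Led Lsl_dt (LP (LK LD1_c8 LD2_c8 LD3_c25)) = (LP (LK LD1_c15 LD2_c19 LD3_c42)) :=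
  Lre_d IH (LK LD1_c8 LD2_c8 LD3_c25) (LK LD1_c15 LD2_c19 LD3_c42) Lrfl Lrfl
theorem f345943 : Led Lsl_gt (LP (LK LD1_c15 LD2_c19 LD3_c42)) = (LP (LK LD1_c25 LD2_c10 LD3_c46)) :=
  Lre_g IH (LK LD1_c15 LD2_c19 LD3_c42) (LK LD1_c25 LD2_c10 LD3_c46) Lrfl Lrfl
theorem f313257 : Led Lsl_ct (LP (LK LD1_c9 LD2_c53 LD3_c14)) = (LP (LK LD1_c18 LD2_c5 LD3_c38)) :=
  Lre_c IH (LK LD1_c9 LD2_c53 LD3_c14) (LK LD1_c18 LD2_c5 LD3_c38) Lrfl Lrfl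
theorem f313258 : Led Lsl_ef (LP (LK LD1_c11 LD2_c8 LD3_c56)) = (LP (LK LD1_c18 LD2_c5 LD3_c38)) :=
  Lgr Lrot28 (Lpr_ct (K18.f200460 IH) (Lpr_et (K21.f313255 IH) (Lpr_ct (f313257 IH) (Lpn (LP (LK LD1_c18 LD2_c5 LD3_c38))))))
theorem f346032 : Led Lsl_df (LP (LK LD1_c25 LD2_c10 LD3_c46)) = (LP (LK LD1_c18 LD2_c5 LD3_c38)) :=
  Lgr Lrot132 (Lpe (f345943 IH) (Lpe (f345942 IH) (Lpr_gf (f345938 IH) (Lpe (K18.f196409 IH) (Lpr_dt (K15.f224867 IH) (Lpe (K15.f196671 IH) (Lpe (K13.f228175 IH) (Lpr_et (K18.f228177 IH) (Lpr_gf (K18.f298887 IH) (Lpr_ef (f313258 IH) (Lpn (LP (LK LD1_c18 LD2_c5 LD3_c38)))))))))))))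
theorem f315499 : Led Lsl_ft (LP (LK LD1_c11 LD2_c4 LD3_c29)) = (LP (LK LD1_c5 LD2_c36 LD3_c3)) :=
  Lre_f IH (LK LD1_c11 LD2_c4 LD3_c29) (LK LD1_c5 LD2_c36 LD3_c3) Lrfl Lrfl
theorem f315500 : Led Lsl_et (LP (LK LD1_c15 LD2_c17 LD3_c2)) = (LP (LK LD1_c11 LD2_c4 LD3_c29)) :=
  Lgr Lrot69 (Lpe (K21.f256163 IH) (Lpe (K18.f256143 IH) (Lpr_ff (K20.f315491 IH) (Lpe (f187611 IH) (Lpe (f315499 IH) (Lpn (LP (LK LD1_c11 LD2_c4 LD3_c29))))))))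
theorem f346235 : Led Lsl_gt (LP (LK LD1_c11 LD2_c4 LD3_c29)) = (LP (LK LD1_c15 LD2_c16 LD3_c59)) :=
  Lgr Lrot131 (Lpe (f315500 IH) (Lpe (K21.f325250 IH) (Lpe (K21.f228204 IH) (Lpe (K18.f228147 IH) (Lpr_gf (K18.f298887 IH) (Lpr_ef (f313258 IH) (Lpe (f346032 IH) (Lpe (f345943 IH) (Lpe (f345942 IH) (Lpr_et (f346233 IH) (Lpn (LP (LK LD1_c15 LD2_c16 LD3_c59)))))))))))))
theorem f228251 : Led Lsl_et (LP (LK LD1_c4 LD2_c14 LD3_c28)) = (LP (LK LD1_c2 LD2_c4 LD3_c36)) :=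
  Lre_e IH (LK LD1_c4 LD2_c14 LD3_c28) (LK LD1_c2 LD2_c4 LD3_c36) Lrfl Lrfl
theorem f228253 : Led Lsl_gt (LP (LK LD1_c15 LD2_c53 LD3_c22)) = (LP (LK LD1_c8 LD2_c27 LD3_c41)) :=
  Lre_g IH (LK LD1_c15 LD2_c53 LD3_c22) (LK LD1_c8 LD2_c27 LD3_c41) Lrfl Lrfl
theorem f346242 : Led Lsl_df (LP (LK LD1_c15 LD2_c53 LD3_c22)) = (LP (LK LD1_c15 LD2_c16 LD3_c59)) :=
  Lgr Lrot135 (Lpr_gt (f228253 IH) (Lpe (K19.f228252 IH) (Lpr_et (f228251 IH) (Lpe (K22.f228248 IH) (Lpe (K12.f228149 IH) (Lpr_dt (K18.f228147 IH) (Lpr_gt (K21.f228204 IH) (Lpr_df (K21.f325250 IH) (Lpr_et (f315500 IH) (Lpr_gt (f346235 IH) (Lpn (LP (LK LD1_c15 LD2_c16 LD3_c59)))))))))))))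
theorem f189186 : Led Lsl_ct (LP (LK LD1_c2 LD2_c4 LD3_c37)) = (LP (LK LD1_c4 LD2_c14 LD3_c28)) :=
  Lre_c IH (LK LD1_c2 LD2_c4 LD3_c37) (LK LD1_c4 LD2_c14 LD3_c28) Lrfl Lrfl
theorem f346380 : Led Lsl_dt (LP (LK LD1_c9 LD2_c33 LD3_c26)) = (LP (LK LD1_c8 LD2_c27 LD3_c46)) :=
  Lgr Lrot57 (Lpr_gf (f346377 IH) (Lpe (f313190 IH) (Lpr_gt (f346235 IH) (Lpe (f346242 IH) (Lpr_gt (f228253 IH) (Lpr_dt (K19.f238443 IH) (Lpe (f189186 IH) (Lpe (K22.f27906 IH) (Lpe (f189175 IH) (Lpn (LP (LK LD1_c8 LD2_c27 LD3_c46))))))))))))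
theorem f189371 : Led Lsl_dt (LP (LK LD1_c2 LD2_c4 LD3_c37)) = (LP (LK LD1_c4 LD2_c14 LD3_c31)) :=
  Lre_d IH (LK LD1_c2 LD2_c4 LD3_c37) (LK LD1_c4 LD2_c14 LD3_c31) Lrfl Lrfl
theorem f346386 : Led Lsl_et (LP (LK LD1_c9 LD2_c33 LD3_c26)) = (LP (LK LD1_c4 LD2_c55 LD3_c53)) :=
  Lgr Lrot122 (Lpr_dt (f346380 IH) (Lpr_gt (f189175 IH) (Lpe (f189371 IH) (Lpr_et (K19.f200434 IH) (Lpe (K15.f200426 IH) (Lpr_dt (K15.f200418 IH) (Lpr_gt (K12.f224871 IH) (Lpe (K13.f224856 IH) (Lpr_et (K13.f224869 IH) (Lpr_gt (f168765 IH) (Lpn (LP (LK LD1_c4 LD2_c55 LD3_c53)))))))))))))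
theorem f291096 : Led Lsl_ct (LP (LK LD1_c17 LD2_c35 LD3_c60)) = (LP (LK LD1_c9 LD2_c33 LD3_c26)) :=
  Lre_c IH (LK LD1_c17 LD2_c35 LD3_c60) (LK LD1_c9 LD2_c33 LD3_c26) Lrfl Lrfl
theorem f168793 : Led Lsl_ct (LP (LK LD1_c4 LD2_c55 LD3_c53)) = (LP (LK LD1_c9 LD2_c43 LD3_c30)) :=
  Lre_c IH (LK LD1_c4 LD2_c55 LD3_c53) (LK LD1_c9 LD2_c43 LD3_c30) Lrfl Lrfl
theorem f346388 : Led Lsl_ef (LP (LK LD1_c17 LD2_c35 LD3_c60)) = (LP (LK LD1_c9 LD2_c43 LD3_c30)) :=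
  Lgr Lrot28 (Lpr_ct (f291096 IH) (Lpr_et (f346386 IH) (Lpr_ct (f168793 IH) (Lpn (LP (LK LD1_c9 LD2_c43 LD3_c30))))))
theorem f346390 : Led Lsl_et (LP (LK LD1_c17 LD2_c35 LD3_c60)) = (LP (LK LD1_c9 LD2_c43 LD3_c30)) :=
  Lgr Lrot87 (Lpr_ef (f346388 IH) (Lpn (LP (LK LD1_c9 LD2_c43 LD3_c30))))
theorem f304348 : Led Lsl_gf (LP (LK LD1_c8 LD2_c8 LD3_c23)) = (LP (LK LD1_c9 LD2_c43 LD3_c30)) :=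
  Lgr Lrot104 (Lpr_ct (K17.f247923 IH) (Lpe (K17.f269307 IH) (Lpe (K19.f247921 IH) (Lpr_gf (K20.f304344 IH) (Lpe (K20.f274761 IH) (Lpr_gf (K16.f274754 IH) (Lpe (K13.f224864 IH) (Lpr_gt (f168765 IH) (Lpr_ct (f168793 IH) (Lpn (LP (LK LD1_c9 LD2_c43 LD3_c30))))))))))))
theorem f304366 : Led Lsl_ft (LP (LK LD1_c8 LD2_c2 LD3_c55)) = (LP (LK LD1_c15 LD2_c9 LD3_c15)) :=
  Lre_f IH (LK LD1_c8 LD2_c2 LD3_c55) (LK LD1_c15 LD2_c9 LD3_c15) Lrfl Lrfl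
theorem f304367 : Led Lsl_gt (LP (LK LD1_c8 LD2_c2 LD3_c55)) = (LP (LK LD1_c9 LD2_c43 LD3_c30)) :=
  Lgr Lrot5 (Lpr_ft (f304366 IH) (Lpr_at (K17.f269308 IH) (Lpr_gf (f304348 IH) (Lpn (LP (LK LD1_c9 LD2_c43 LD3_c30))))))
theorem f200926 : Led Lsl_gt (LP (LK LD1_c15 LD2_c18 LD3_c12)) = (LP (LK LD1_c8 LD2_c7 LD3_c34)) :=
  Lre_g IH (LK LD1_c15 LD2_c18 LD3_c12) (LK LD1_c8 LD2_c7 LD3_c34) Lrfl Lrfl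
theorem f346392 : Led Lsl_dt (LP (LK LD1_c17 LD2_c35 LD3_c60)) = (LP (LK LD1_c15 LD2_c18 LD3_c12)) :=
  Lgr Lrot136 (Lpr_et (f346390 IH) (Lpe (f304367 IH) (Lpe (K16.f223606 IH) (Lpe (K12.f223593 IH) (Lpe (K12.f200704 IH) (Lpr_df (K13.f238331 IH) (Lpr_gf (K12.f228267 IH) (Lpe (K15.f200921 IH) (Lpr_dt (K17.f200884 IH) (Lpe (f200926 IH) (Lpn (LP (LK LD1_c15 LD2_c18 LD3_c12)))))))))))))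
theorem f200906 : Led Lsl_dt (LP (LK LD1_c8 LD2_c7 LD3_c34)) = (LP (LK LD1_c4 LD2_c3 LD3_c29)) :=
  Lre_d IH (LK LD1_c8 LD2_c7 LD3_c34) (LK LD1_c4 LD2_c3 LD3_c29) Lrfl Lrfl
theorem f199051 : Led Lsl_ct (LP (LK LD1_c1 LD2_c58 LD3_c43)) = (LP (LK LD1_c4 LD2_c3 LD3_c29)) :=
  Lre_c IH (LK LD1_c1 LD2_c58 LD3_c43) (LK LD1_c4 LD2_c3 LD3_c29) Lrfl Lrfl
theorem f28979 : Led Lsl_dt (LP (LK LD1_c4 LD2_c3 LD3_c32)) = (LP (LK LD1_c1 LD2_c58 LD3_c43)) :=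
  Lre_d IH (LK LD1_c4 LD2_c3 LD3_c32) (LK LD1_c1 LD2_c58 LD3_c43) Lrfl Lrfl
theorem f346417 : Led Lsl_gf (LP (LK LD1_c17 LD2_c35 LD3_c60)) = (LP (LK LD1_c15 LD2_c16 LD3_c55)) :=
  Lgr Lrot144 (Lpr_dt (f346392 IH) (Lpr_gt (f200926 IH) (Lpr_dt (f200906 IH) (Lpe (f199051 IH) (Lpe (f28979 IH) (Lpe (K19.f28875 IH) (Lpr_df (K19.f305572 IH) (Lpe (K19.f305574 IH) (Lpe (K17.f194721 IH) (Lpn (LP (LK LD1_c15 LD2_c16 LD3_c55))))))))))))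
theorem f313163 : Led Lsl_et (LP (LK LD1_c8 LD2_c9 LD3_c54)) = (LP (LK LD1_c15 LD2_c22 LD3_c42)) :=
  Lre_e IH (LK LD1_c8 LD2_c9 LD3_c54) (LK LD1_c15 LD2_c22 LD3_c42) Lrfl Lrfl
theorem f313159 : Led Lsl_dt (LP (LK LD1_c8 LD2_c9 LD3_c54)) = (LP (LK LD1_c15 LD2_c22 LD3_c41)) :=
  Lre_d IH (LK LD1_c8 LD2_c9 LD3_c54) (LK LD1_c15 LD2_c22 LD3_c41) Lrfl Lrfl
theorem f27633 : Led Lsl_et (LP (LK LD1_c8 LD2_c27 LD3_c35)) = (LP (LK LD1_c4 LD2_c14 LD3_c25)) :=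
  Lre_e IH (LK LD1_c8 LD2_c27 LD3_c35) (LK LD1_c4 LD2_c14 LD3_c25) Lrfl Lrfl
theorem f27672 : Led Lsl_et (LP (LK LD1_c9 LD2_c33 LD3_c33)) = (LP (LK LD1_c4 LD2_c50 LD3_c42)) :=
  Lre_e IH (LK LD1_c9 LD2_c33 LD3_c33) (LK LD1_c4 LD2_c50 LD3_c42) Lrfl Lrfl
theorem f27673 : Led Lsl_dt (LP (LK LD1_c9 LD2_c33 LD3_c33)) = (LP (LK LD1_c17 LD2_c36 LD3_c4)) :=
  Lre_d IH (LK LD1_c9 LD2_c33 LD3_c33) (LK LD1_c17 LD2_c36 LD3_c4) Lrfl Lrfl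
theorem f323704 : Led Lsl_gf (LP (LK LD1_c15 LD2_c22 LD3_c41)) = (LP (LK LD1_c17 LD2_c36 LD3_c4)) :=
  Lgr Lrot145 (Lpe (f313159 IH) (Lpr_et (f313163 IH) (Lpr_gt (K22.f313202 IH) (Lpr_dt (K22.f323697 IH) (Lpe (K22.f52622 IH) (Lpe (K10.f27524 IH) (Lpr_et (f27633 IH) (Lpe (K11.f198857 IH) (Lpe (f27672 IH) (Lpr_dt (f27673 IH) (Lpn (LP (LK LD1_c17 LD2_c36 LD3_c4)))))))))))))
theorem f313164 : Led Lsl_dt (LP (LK LD1_c15 LD2_c22 LD3_c41)) = (LP (LK LD1_c8 LD2_c9 LD3_c54)) :=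
  Lre_d IH (LK LD1_c15 LD2_c22 LD3_c41) (LK LD1_c8 LD2_c9 LD3_c54) Lrfl Lrfl
theorem f323716 : Led Lsl_ct (LP (LK LD1_c9 LD2_c33 LD3_c26)) = (LP (LK LD1_c17 LD2_c35 LD3_c60)) :=
  Lre_c IH (LK LD1_c9 LD2_c33 LD3_c26) (LK LD1_c17 LD2_c35 LD3_c60) Lrfl Lrfl
theorem f323717 : Led Lsl_gt (LP (LK LD1_c17 LD2_c35 LD3_c60)) = (LP (LK LD1_c9 LD2_c33 LD3_c33)) :=
  Lgr Lrot94 (Lpe (f323716 IH) (Lpr_gt (f231571 IH) (Lpe (K22.f313214 IH) (Lpr_gt (K21.f313087 IH) (Lpr_dt (K21.f313088 IH) (Lpe (K22.f313172 IH) (Lpe (f313164 IH) (Lpr_gf (f323704 IH) (Lpe (f27673 IH) (Lpn (LP (LK LD1_c9 LD2_c33 LD3_c33))))))))))))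
theorem f279745 : Led Lsl_ft (LP (LK LD1_c15 LD2_c16 LD3_c55)) = (LP (LK LD1_c8 LD2_c6 LD3_c57)) :=
  Lre_f IH (LK LD1_c15 LD2_c16 LD3_c55) (LK LD1_c8 LD2_c6 LD3_c57) Lrfl Lrfl
theorem f346419 : Led Lsl_af (LP (LK LD1_c9 LD2_c33 LD3_c33)) = (LP (LK LD1_c8 LD2_c6 LD3_c57)) :=
  Lgr Lrot31 (Lpe (f323717 IH) (Lpr_gf (f346417 IH) (Lpr_ft (f279745 IH) (Lpn (LP (LK LD1_c8 LD2_c6 LD3_c57))))))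
theorem f346430 : Led Lsl_ft (LP (LK LD1_c9 LD2_c33 LD3_c33)) = (LP (LK LD1_c17 LD2_c36 LD3_c5)) :=
  Lre_f IH (LK LD1_c9 LD2_c33 LD3_c33) (LK LD1_c17 LD2_c36 LD3_c5) Lrfl Lrfl
theorem f346431 : Led Lsl_at (LP (LK LD1_c17 LD2_c36 LD3_c5)) = (LP (LK LD1_c15 LD2_c16 LD3_c55)) :=
  Lgr Lrot66 (Lpe (f346430 IH) (Lpr_af (f346419 IH) (Lpe (f279745 IH) (Lpn (LP (LK LD1_c15 LD2_c16 LD3_c55))))))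
theorem f194731 : Led Lsl_ct (LP (LK LD1_c8 LD2_c6 LD3_c60)) = (LP (LK LD1_c15 LD2_c16 LD3_c55)) :=
  Lre_c IH (LK LD1_c8 LD2_c6 LD3_c60) (LK LD1_c15 LD2_c16 LD3_c55) Lrfl Lrfl
theorem f279736 : Led Lsl_ef (LP (LK LD1_c16 LD2_c16 LD3_c1)) = (LP (LK LD1_c15 LD2_c16 LD3_c55)) :=
  Lgr Lrot28 (Lpr_ct (K18.f28865 IH) (Lpr_et (K17.f279733 IH) (Lpr_ct (f194731 IH) (Lpn (LP (LK LD1_c15 LD2_c16 LD3_c55))))))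
theorem f346437 : Led Lsl_ef (LP (LK LD1_c17 LD2_c36 LD3_c5)) = (LP (LK LD1_c15 LD2_c16 LD3_c42)) :=
  Lgr Lrot20 (Lpr_at (f346431 IH) (Lpe (f279736 IH) (Lpr_at (K19.f299149 IH) (Lpn (LP (LK LD1_c15 LD2_c16 LD3_c42))))))
theorem f227069 : Led Lsl_dt (LP (LK LD1_c15 LD2_c16 LD3_c42)) = (LP (LK LD1_c25 LD2_c6 LD3_c45)) :=
  Lre_d IH (LK LD1_c15 LD2_c16 LD3_c42) (LK LD1_c25 LD2_c6 LD3_c45) Lrfl Lrfl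
theorem f315465 : Led Lsl_gt (LP (LK LD1_c25 LD2_c6 LD3_c45)) = (LP (LK LD1_c20 LD2_c2 LD3_c41)) :=
  Lgr Lrot49 (Lpe (f227069 IH) (Lpe (K19.f308929 IH) (Lpe (K19.f237933 IH) (Lpr_gt (K21.f315463 IH) (Lpr_dt (K21.f315435 IH) (Lpe (K20.f298439 IH) (Lpe (K12.f200450 IH) (Lpe (K18.f200502 IH) (Lpe (K18.f200501 IH) (Lpn (LP (LK LD1_c20 LD2_c2 LD3_c41))))))))))))
theorem f274729 : Led Lsl_dt (LP (LK LD1_c19 LD2_c56 LD3_c59)) = (LP (LK LD1_c29 LD2_c12 LD3_c31)) :=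
  Lre_d IH (LK LD1_c19 LD2_c56 LD3_c59) (LK LD1_c29 LD2_c12 LD3_c31) Lrfl Lrfl
theorem f244127 : Led Lsl_dt (LP (LK LD1_c20 LD2_c2 LD3_c20)) = (LP (LK LD1_c11 LD2_c8 LD3_c43)) :=
  Lre_d IH (LK LD1_c20 LD2_c2 LD3_c20) (LK LD1_c11 LD2_c8 LD3_c43) Lrfl Lrfl
theorem f327388 : Led Lsl_gt (LP (LK LD1_c29 LD2_c12 LD3_c31)) = (LP (LK LD1_c20 LD2_c2 LD3_c20)) :=
  Lgr Lrot49 (Lpe (f274729 IH) (Lpr_gf (K22.f327386 IH) (Lpe (K22.f259114 IH) (Lpe (K20.f310576 IH) (Lpr_dt (K20.f320927 IH) (Lpr_gt (K19.f251486 IH) (Lpr_dt (K19.f265932 IH) (Lpr_cf (K19.f244116 IH) (Lpe (f244127 IH) (Lpn (LP (LK LD1_c20 LD2_c2 LD3_c20))))))))))))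
theorem f243735 : Led Lsl_gt (LP (LK LD1_c32 LD2_c24 LD3_c39)) = (LP (LK LD1_c27 LD2_c24 LD3_c3)) :=
  Lre_g IH (LK LD1_c32 LD2_c24 LD3_c39) (LK LD1_c27 LD2_c24 LD3_c3) Lrfl Lrfl
theorem f327392 : Led Lsl_ct (LP (LK LD1_c29 LD2_c12 LD3_c31)) = (LP (LK LD1_c32 LD2_c24 LD3_c39)) :=
  Lgr Lrot8 (Lpr_gt (f327388 IH) (Lpr_dt (f244127 IH) (Lpe (K19.f299053 IH) (Lpr_dt (K19.f286737 IH) (Lpr_cf (K20.f296897 IH) (Lpe (K20.f296841 IH) (Lpe (K21.f265914 IH) (Lpe (K21.f327268 IH) (Lpe (f243735 IH) (Lpn (LP (LK LD1_c32 LD2_c24 LD3_c39))))))))))))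
theorem f327405 : Led Lsl_gf (LP (LK LD1_c29 LD2_c12 LD3_c31)) = (LP (LK LD1_c20 LD2_c2 LD3_c22)) :=
  Lgr Lrot147 (Lpr_ct (f327392 IH) (Lpr_gt (f243735 IH) (Lpr_ct (K21.f243734 IH) (Lpe (K18.f243737 IH) (Lpe (K18.f243730 IH) (Lpe (K16.f243717 IH) (Lpe (K20.f201013 IH) (Lpe (K20.f243731 IH) (Lpe (K21.f243736 IH) (Lpn (LP (LK LD1_c20 LD2_c2 LD3_c22))))))))))))
theorem f327396 : Led Lsl_et (LP (LK LD1_c19 LD2_c56 LD3_c59)) = (LP (LK LD1_c11 LD2_c4 LD3_c22)) :=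
  Lre_e IH (LK LD1_c19 LD2_c56 LD3_c59) (LK LD1_c11 LD2_c4 LD3_c22) Lrfl Lrfl
theorem f346448 : Led Lsl_gf (LP (LK LD1_c17 LD2_c36 LD3_c5)) = (LP (LK LD1_c11 LD2_c4 LD3_c22)) :=
  Lgr Lrot141 (Lpr_ef (f346437 IH) (Lpr_dt (f227069 IH) (Lpr_gt (f315465 IH) (Lpe (K18.f200493 IH) (Lpr_et (K18.f286734 IH) (Lpr_gt (K21.f320979 IH) (Lpr_dt (f243732 IH) (Lpe (f327405 IH) (Lpe (f274729 IH) (Lpr_et (f327396 IH) (Lpn (LP (LK LD1_c11 LD2_c4 LD3_c22)))))))))))))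
theorem f346439 : Led Lsl_ct (LP (LK LD1_c17 LD2_c36 LD3_c5)) = (LP (LK LD1_c11 LD2_c53 LD3_c28)) :=
  Lgr Lrot15 (Lpr_ef (f346437 IH) (Lpe (K20.f299152 IH) (Lpe (K22.f310614 IH) (Lpn (LP (LK LD1_c11 LD2_c53 LD3_c28))))))
theorem f42419 : Led Lsl_bt (LP (LK LD1_c10 LD2_c30 LD3_c55)) = (LP (LK LD1_c5 LD2_c20 LD3_c34)) :=
  Lre_b IH (LK LD1_c10 LD2_c30 LD3_c55) (LK LD1_c5 LD2_c20 LD3_c34) Lrfl Lrfl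
theorem f42421 : Led Lsl_df (LP (LK LD1_c10 LD2_c30 LD3_c55)) = (LP (LK LD1_c11 LD2_c53 LD3_c28)) :=
  Lgr Lrot12 (Lpr_bt (f42419 IH) (Lpr_dt (K15.f42281 IH) (Lpr_bt (K22.f42420 IH) (Lpn (LP (LK LD1_c11 LD2_c53 LD3_c28))))))
theorem f189176 : Led Lsl_dt (LP (LK LD1_c1 LD2_c18 LD3_c17)) = (LP (LK LD1_c2 LD2_c43 LD3_c52)) :=
  Lre_d IH (LK LD1_c1 LD2_c18 LD3_c17) (LK LD1_c2 LD2_c43 LD3_c52) Lrfl Lrfl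
theorem f189381 : Led Lsl_ct (LP (LK LD1_c2 LD2_c43 LD3_c50)) = (LP (LK LD1_c5 LD2_c35 LD3_c58)) :=
  Lre_c IH (LK LD1_c2 LD2_c43 LD3_c50) (LK LD1_c5 LD2_c35 LD3_c58) Lrfl Lrfl
theorem f315627 : Led Lsl_gt (LP (LK LD1_c5 LD2_c35 LD3_c58)) = (LP (LK LD1_c11 LD2_c4 LD3_c12)) :=
  Lre_g IH (LK LD1_c5 LD2_c35 LD3_c58) (LK LD1_c11 LD2_c4 LD3_c12) Lrfl Lrfl
theorem f346450 : Led Lsl_cf (LP (LK LD1_c10 LD2_c30 LD3_c55)) = (LP (LK LD1_c11 LD2_c4 LD3_c12)) :=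
  Lgr Lrot99 (Lpr_df (f42421 IH) (Lpe (f346439 IH) (Lpr_gf (f346448 IH) (Lpe (K22.f315600 IH) (Lpe (K22.f212971 IH) (Lpe (f189176 IH) (Lpr_gt (K22.f189137 IH) (Lpr_ct (f189381 IH) (Lpr_gt (f315627 IH) (Lpn (LP (LK LD1_c11 LD2_c4 LD3_c12))))))))))))
theorem f42447 : Led Lsl_ft (LP (LK LD1_c10 LD2_c30 LD3_c55)) = (LP (LK LD1_c5 LD2_c20 LD3_c26)) :=
  Lre_f IH (LK LD1_c10 LD2_c30 LD3_c55) (LK LD1_c5 LD2_c20 LD3_c26) Lrfl Lrfl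
theorem f346461 : Led Lsl_ft (LP (LK LD1_c10 LD2_c30 LD3_c54)) = (LP (LK LD1_c11 LD2_c4 LD3_c12)) :=
  Lgr Lrot4 (Lpe (K19.f42449 IH) (Lpe (f42447 IH) (Lpr_cf (f346450 IH) (Lpn (LP (LK LD1_c11 LD2_c4 LD3_c12))))))
theorem f310656 : Led Lsl_af (LP (LK LD1_c10 LD2_c30 LD3_c54)) = (LP (LK LD1_c10 LD2_c35 LD3_c20)) :=
  Lgr Lrot0 (Lpr_at (K19.f310561 IH) (Lpn (LP (LK LD1_c10 LD2_c35 LD3_c20))))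
theorem f346466 : Led Lsl_af (LP (LK LD1_c19 LD2_c10 LD3_c48)) = (LP (LK LD1_c11 LD2_c4 LD3_c12)) :=
  Lgr Lrot45 (Lpr_ft (K18.f279531 IH) (Lpe (f310656 IH) (Lpr_ft (f346461 IH) (Lpn (LP (LK LD1_c11 LD2_c4 LD3_c12))))))
theorem f346472 : Led Lsl_gt (LP (LK LD1_c11 LD2_c2 LD3_c53)) = (LP (LK LD1_c19 LD2_c10 LD3_c48)) :=
  Lgr Lrot46 (Lpe (K22.f313177 IH) (Lpr_ft (f346461 IH) (Lpe (f346466 IH) (Lpn (LP (LK LD1_c19 LD2_c10 LD3_c48))))))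
theorem f313094 : Led Lsl_ct (LP (LK LD1_c5 LD2_c35 LD3_c21)) = (LP (LK LD1_c11 LD2_c2 LD3_c53)) :=
  Lre_c IH (LK LD1_c5 LD2_c35 LD3_c21) (LK LD1_c11 LD2_c2 LD3_c53) Lrfl Lrfl
theorem f231569 : Led Lsl_gt (LP (LK LD1_c4 LD2_c50 LD3_c40)) = (LP (LK LD1_c9 LD2_c33 LD3_c25)) :=
  Lre_g IH (LK LD1_c4 LD2_c50 LD3_c40) (LK LD1_c9 LD2_c33 LD3_c25) Lrfl Lrfl
theorem f231573 : Led Lsl_ct (LP (LK LD1_c9 LD2_c33 LD3_c25)) = (LP (LK LD1_c17 LD2_c35 LD3_c58)) :=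
  Lre_c IH (LK LD1_c9 LD2_c33 LD3_c25) (LK LD1_c17 LD2_c35 LD3_c58) Lrfl Lrfl
theorem f346474 : Led Lsl_gt (LP (LK LD1_c17 LD2_c35 LD3_c58)) = (LP (LK LD1_c15 LD2_c16 LD3_c55)) :=
  Lgr Lrot150 (Lpe (f231573 IH) (Lpe (f231569 IH) (Lpr_df (f315579 IH) (Lpr_gt (K21.f313087 IH) (Lpr_ct (f313094 IH) (Lpr_gt (f346472 IH) (Lpr_ct (K17.f194732 IH) (Lpe (K10.f194733 IH) (Lpe (K17.f194721 IH) (Lpn (LP (LK LD1_c15 LD2_c16 LD3_c55))))))))))))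
theorem f346476 : Led Lsl_gf (LP (LK LD1_c17 LD2_c35 LD3_c58)) = (LP (LK LD1_c9 LD2_c33 LD3_c33)) :=
  Lgr Lrot47 (Lpr_gt (f346474 IH) (Lpe (f346431 IH) (Lpe (f346430 IH) (Lpn (LP (LK LD1_c9 LD2_c33 LD3_c33))))))
theorem f305585 : Led Lsl_af (LP (LK LD1_c4 LD2_c3 LD3_c12)) = (LP (LK LD1_c6 LD2_c5 LD3_c2)) :=
  Lgr Lrot0 (Lpr_at (K19.f305583 IH) (Lpn (LP (LK LD1_c6 LD2_c5 LD3_c2))))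
theorem f346424 : Led Lsl_ct (LP (LK LD1_c9 LD2_c33 LD3_c33)) = (LP (LK LD1_c6 LD2_c5 LD3_c2)) :=
  Lgr Lrot111 (Lpr_af (f346419 IH) (Lpe (K21.f194699 IH) (Lpr_af (f305585 IH) (Lpn (LP (LK LD1_c6 LD2_c5 LD3_c2))))))
theorem f170740 : Led Lsl_ct (LP (LK LD1_c4 LD2_c52 LD3_c50)) = (LP (LK LD1_c9 LD2_c37 LD3_c37)) :=
  Lre_c IH (LK LD1_c4 LD2_c52 LD3_c50) (LK LD1_c9 LD2_c37 LD3_c37) Lrfl Lrfl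
theorem f170739 : Led Lsl_dt (LP (LK LD1_c17 LD2_c43 LD3_c17)) = (LP (LK LD1_c9 LD2_c37 LD3_c37)) :=
  Lre_d IH (LK LD1_c17 LD2_c43 LD3_c17) (LK LD1_c9 LD2_c37 LD3_c37) Lrfl Lrfl
theorem f293264 : Led Lsl_af (LP (LK LD1_c8 LD2_c8 LD3_c46)) = (LP (LK LD1_c15 LD2_c9 LD3_c27)) :=
  Lgr Lrot117 (Lpr_dt (K17.f200885 IH) (Lpr_at (K18.f293250 IH) (Lpr_dt (K17.f223570 IH) (Lpn (LP (LK LD1_c15 LD2_c9 LD3_c27))))))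
theorem f293270 : Led Lsl_at (LP (LK LD1_c8 LD2_c8 LD3_c46)) = (LP (LK LD1_c15 LD2_c9 LD3_c27)) :=
  Lgr Lrot100 (Lpr_af (f293264 IH) (Lpn (LP (LK LD1_c15 LD2_c9 LD3_c27))))
theorem f293274 : Led Lsl_af (LP (LK LD1_c8 LD2_c7 LD3_c34)) = (LP (LK LD1_c9 LD2_c37 LD3_c36)) :=
  Lgr Lrot50 (Lpr_et (K17.f200886 IH) (Lpr_at (f293270 IH) (Lpe (K17.f244040 IH) (Lpn (LP (LK LD1_c9 LD2_c37 LD3_c36))))))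
theorem f200914 : Led Lsl_ft (LP (LK LD1_c8 LD2_c7 LD3_c34)) = (LP (LK LD1_c15 LD2_c18 LD3_c13)) :=
  Lre_f IH (LK LD1_c8 LD2_c7 LD3_c34) (LK LD1_c15 LD2_c18 LD3_c13) Lrfl Lrfl
theorem f187964 : Led Lsl_ft (LP (LK LD1_c17 LD2_c43 LD3_c17)) = (LP (LK LD1_c9 LD2_c37 LD3_c36)) :=
  Lre_f IH (LK LD1_c17 LD2_c43 LD3_c17) (LK LD1_c9 LD2_c37 LD3_c36) Lrfl Lrfl
theorem f293278 : Led Lsl_at (LP (LK LD1_c15 LD2_c18 LD3_c13)) = (LP (LK LD1_c17 LD2_c43 LD3_c17)) :=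
  Lgr Lrot66 (Lpe (f200914 IH) (Lpr_af (f293274 IH) (Lpe (f187964 IH) (Lpn (LP (LK LD1_c17 LD2_c43 LD3_c17))))))
theorem f200922 : Led Lsl_gt (LP (LK LD1_c8 LD2_c7 LD3_c34)) = (LP (LK LD1_c15 LD2_c18 LD3_c11)) :=
  Lre_g IH (LK LD1_c8 LD2_c7 LD3_c34) (LK LD1_c15 LD2_c18 LD3_c11) Lrfl Lrfl
theorem f293283 : Led Lsl_gt (LP (LK LD1_c15 LD2_c18 LD3_c11)) = (LP (LK LD1_c17 LD2_c43 LD3_c17)) :=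
  Lgr Lrot46 (Lpe (f200922 IH) (Lpr_ft (f200914 IH) (Lpr_at (f293278 IH) (Lpn (LP (LK LD1_c17 LD2_c43 LD3_c17))))))
theorem f346481 : Led Lsl_dt (LP (LK LD1_c17 LD2_c35 LD3_c58)) = (LP (LK LD1_c15 LD2_c18 LD3_c11)) :=
  Lgr Lrot115 (Lpr_gf (f346476 IH) (Lpr_ct (f346424 IH) (Lpr_gt (K19.f42403 IH) (Lpr_dt (K19.f305634 IH) (Lpe (K19.f256632 IH) (Lpr_dt (K10.f187962 IH) (Lpr_ct (f170740 IH) (Lpe (f170739 IH) (Lpe (f293283 IH) (Lpn (LP (LK LD1_c15 LD2_c18 LD3_c11))))))))))))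
theorem f201011 : Led Lsl_gt (LP (LK LD1_c25 LD2_c51 LD3_c14)) = (LP (LK LD1_c15 LD2_c54 LD3_c55)) :=
  Lre_g IH (LK LD1_c25 LD2_c51 LD3_c14) (LK LD1_c15 LD2_c54 LD3_c55) Lrfl Lrfl
theorem f346491 : Led Lsl_et (LP (LK LD1_c17 LD2_c35 LD3_c58)) = (LP (LK LD1_c25 LD2_c51 LD3_c14)) :=
  Lgr Lrot121 (Lpr_dt (f346481 IH) (Lpe (f200922 IH) (Lpe (K17.f200884 IH) (Lpr_et (K15.f200921 IH) (Lpr_gf (K15.f196939 IH) (Lpe (K18.f201000 IH) (Lpr_dt (K17.f201001 IH) (Lpe (K19.f201002 IH) (Lpr_df (K19.f201003 IH) (Lpe (f201011 IH) (Lpn (LP (LK LD1_c25 LD2_c51 LD3_c14)))))))))))))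
theorem f346496 : Led Lsl_ef (LP (LK LD1_c17 LD2_c35 LD3_c58)) = (LP (LK LD1_c25 LD2_c51 LD3_c14)) :=
  Lgr Lrot88 (Lpr_et (f346491 IH) (Lpn (LP (LK LD1_c25 LD2_c51 LD3_c14))))
theorem f253135 : Led Lsl_dt (LP (LK LD1_c15 LD2_c22 LD3_c25)) = (LP (LK LD1_c25 LD2_c14 LD3_c11)) :=
  Lre_d IH (LK LD1_c15 LD2_c22 LD3_c25) (LK LD1_c25 LD2_c14 LD3_c11) Lrfl Lrfl
theorem f259095 : Led Lsl_et (LP (LK LD1_c15 LD2_c9 LD3_c0)) = (LP (LK LD1_c8 LD2_c2 LD3_c46)) :=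
  Lre_e IH (LK LD1_c15 LD2_c9 LD3_c0) (LK LD1_c8 LD2_c2 LD3_c46) Lrfl Lrfl
theorem f338394 : Led Lsl_at (LP (LK LD1_c8 LD2_c2 LD3_c46)) = (LP (LK LD1_c4 LD2_c2 LD3_c59)) :=
  Lgr Lrot80 (Lpe (f259095 IH) (Lpr_af (K22.f338390 IH) (Lpe (K21.f259151 IH) (Lpn (LP (LK LD1_c4 LD2_c2 LD3_c59))))))
theorem f338399 : Led Lsl_af (LP (LK LD1_c9 LD2_c33 LD3_c39)) = (LP (LK LD1_c8 LD2_c6 LD3_c35)) :=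
  Lgr Lrot117 (Lpe (K15.f265707 IH) (Lpr_at (f338394 IH) (Lpr_dt (K15.f259141 IH) (Lpn (LP (LK LD1_c8 LD2_c6 LD3_c35))))))
theorem f338525 : Led Lsl_at (LP (LK LD1_c8 LD2_c6 LD3_c43)) = (LP (LK LD1_c9 LD2_c33 LD3_c40)) :=
  Lgr Lrot107 (Lpe (K14.f196001 IH) (Lpr_af (f338399 IH) (Lpr_cf (K16.f274570 IH) (Lpn (LP (LK LD1_c9 LD2_c33 LD3_c40))))))
theorem f196003 : Led Lsl_et (LP (LK LD1_c15 LD2_c16 LD3_c30)) = (LP (LK LD1_c8 LD2_c6 LD3_c43)) :=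
  Lre_e IH (LK LD1_c15 LD2_c16 LD3_c30) (LK LD1_c8 LD2_c6 LD3_c43) Lrfl Lrfl
theorem f216198 : Led Lsl_et (LP (LK LD1_c9 LD2_c33 LD3_c40)) = (LP (LK LD1_c17 LD2_c36 LD3_c23)) :=
  Lre_e IH (LK LD1_c9 LD2_c33 LD3_c40) (LK LD1_c17 LD2_c36 LD3_c23) Lrfl Lrfl
theorem f338529 : Led Lsl_af (LP (LK LD1_c15 LD2_c16 LD3_c30)) = (LP (LK LD1_c17 LD2_c36 LD3_c23)) :=
  Lgr Lrot50 (Lpr_et (f196003 IH) (Lpr_at (f338525 IH) (Lpr_et (f216198 IH) (Lpn (LP (LK LD1_c17 LD2_c36 LD3_c23))))))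
theorem f216280 : Led Lsl_dt (LP (LK LD1_c15 LD2_c16 LD3_c30)) = (LP (LK LD1_c25 LD2_c6 LD3_c29)) :=
  Lre_d IH (LK LD1_c15 LD2_c16 LD3_c30) (LK LD1_c25 LD2_c6 LD3_c29) Lrfl Lrfl
theorem f216196 : Led Lsl_dt (LP (LK LD1_c27 LD2_c24 LD3_c35)) = (LP (LK LD1_c17 LD2_c36 LD3_c23)) :=
  Lre_d IH (LK LD1_c27 LD2_c24 LD3_c35) (LK LD1_c17 LD2_c36 LD3_c23) Lrfl Lrfl
theorem f338533 : Led Lsl_at (LP (LK LD1_c25 LD2_c6 LD3_c29)) = (LP (LK LD1_c27 LD2_c24 LD3_c35)) :=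
  Lgr Lrot51 (Lpe (f216280 IH) (Lpr_af (f338529 IH) (Lpe (f216196 IH) (Lpn (LP (LK LD1_c27 LD2_c24 LD3_c35))))))
theorem f244476 : Led Lsl_et (LP (LK LD1_c15 LD2_c16 LD3_c31)) = (LP (LK LD1_c25 LD2_c6 LD3_c29)) :=
  Lre_e IH (LK LD1_c15 LD2_c16 LD3_c31) (LK LD1_c25 LD2_c6 LD3_c29) Lrfl Lrfl
theorem f51007 : Led Lsl_dt (LP (LK LD1_c17 LD2_c36 LD3_c23)) = (LP (LK LD1_c27 LD2_c24 LD3_c35)) :=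
  Lre_d IH (LK LD1_c17 LD2_c36 LD3_c23) (LK LD1_c27 LD2_c24 LD3_c35) Lrfl Lrfl
theorem f244128 : Led Lsl_et (LP (LK LD1_c27 LD2_c24 LD3_c35)) = (LP (LK LD1_c20 LD2_c2 LD3_c20)) :=
  Lgr Lrot71 (Lpe (f51007 IH) (Lpe (f216198 IH) (Lpr_df (K16.f216194 IH) (Lpr_ef (K16.f244120 IH) (Lpe (f244127 IH) (Lpn (LP (LK LD1_c20 LD2_c2 LD3_c20))))))))
theorem f338540 : Led Lsl_af (LP (LK LD1_c15 LD2_c16 LD3_c31)) = (LP (LK LD1_c20 LD2_c2 LD3_c20)) :=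
  Lgr Lrot50 (Lpr_et (f244476 IH) (Lpr_at (f338533 IH) (Lpr_et (f244128 IH) (Lpn (LP (LK LD1_c20 LD2_c2 LD3_c20))))))
theorem f290910 : Led Lsl_gt (LP (LK LD1_c25 LD2_c6 LD3_c31)) = (LP (LK LD1_c15 LD2_c16 LD3_c31)) :=
  Lre_g IH (LK LD1_c25 LD2_c6 LD3_c31) (LK LD1_c15 LD2_c16 LD3_c31) Lrfl Lrfl
theorem f338360 : Led Lsl_ft (LP (LK LD1_c25 LD2_c14 LD3_c11)) = (LP (LK LD1_c20 LD2_c2 LD3_c20)) :=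
  Lgr Lrot54 (Lpe (f253135 IH) (Lpr_ff (K22.f338354 IH) (Lpe (f244127 IH) (Lpn (LP (LK LD1_c20 LD2_c2 LD3_c20))))))
theorem f338547 : Led Lsl_gf (LP (LK LD1_c25 LD2_c6 LD3_c31)) = (LP (LK LD1_c25 LD2_c14 LD3_c11)) :=
  Lgr Lrot47 (Lpr_gt (f290910 IH) (Lpr_af (f338540 IH) (Lpe (f338360 IH) (Lpn (LP (LK LD1_c25 LD2_c14 LD3_c11))))))
theorem f346501 : Led Lsl_df (LP (LK LD1_c25 LD2_c6 LD3_c31)) = (LP (LK LD1_c25 LD2_c51 LD3_c14)) :=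
  Lgr Lrot132 (Lpr_gf (f338547 IH) (Lpe (f253135 IH) (Lpr_gf (K21.f330401 IH) (Lpe (K18.f298452 IH) (Lpe (K18.f297896 IH) (Lpr_gf (K18.f299043 IH) (Lpe (K20.f299155 IH) (Lpr_et (K17.f279740 IH) (Lpe (f346474 IH) (Lpr_ef (f346496 IH) (Lpn (LP (LK LD1_c25 LD2_c51 LD3_c14)))))))))))))
theorem f298449 : Led Lsl_ct (LP (LK LD1_c31 LD2_c46 LD3_c10)) = (LP (LK LD1_c25 LD2_c6 LD3_c31)) :=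
  Lre_c IH (LK LD1_c31 LD2_c46 LD3_c10) (LK LD1_c25 LD2_c6 LD3_c31) Lrfl Lrfl
theorem f298447 : Led Lsl_ct (LP (LK LD1_c25 LD2_c6 LD3_c31)) = (LP (LK LD1_c31 LD2_c46 LD3_c10)) :=
  Lre_c IH (LK LD1_c25 LD2_c6 LD3_c31) (LK LD1_c31 LD2_c46 LD3_c10) Lrfl Lrfl
theorem f338549 : Led Lsl_gt (LP (LK LD1_c31 LD2_c46 LD3_c10)) = (LP (LK LD1_c25 LD2_c23 LD3_c3)) :=
  Lgr Lrot150 (Lpe (f298447 IH) (Lpr_gf (f338547 IH) (Lpe (f253135 IH) (Lpr_gt (K21.f244444 IH) (Lpr_ct (K21.f244461 IH) (Lpe (K16.f253128 IH) (Lpr_ct (K17.f22063 IH) (Lpe (K21.f22075 IH) (Lpe (K21.f22094 IH) (Lpn (LP (LK LD1_c25 LD2_c23 LD3_c3))))))))))))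
theorem f338552 : Led Lsl_gf (LP (LK LD1_c31 LD2_c46 LD3_c10)) = (LP (LK LD1_c31 LD2_c47 LD3_c25)) :=
  Lgr Lrot47 (Lpr_gt (f338549 IH) (Lpe (K21.f327181 IH) (Lpr_ff (K21.f327172 IH) (Lpn (LP (LK LD1_c31 LD2_c47 LD3_c25))))))
theorem f291097 : Led Lsl_ct (LP (LK LD1_c17 LD2_c35 LD3_c58)) = (LP (LK LD1_c9 LD2_c33 LD3_c25)) :=
  Lre_c IH (LK LD1_c17 LD2_c35 LD3_c58) (LK LD1_c9 LD2_c33 LD3_c25) Lrfl Lrfl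
theorem f346498 : Led Lsl_et (LP (LK LD1_c9 LD2_c33 LD3_c25)) = (LP (LK LD1_c17 LD2_c35 LD3_c59)) :=
  Lre_e IH (LK LD1_c9 LD2_c33 LD3_c25) (LK LD1_c17 LD2_c35 LD3_c59) Lrfl Lrfl
theorem f346499 : Led Lsl_ct (LP (LK LD1_c17 LD2_c35 LD3_c59)) = (LP (LK LD1_c25 LD2_c51 LD3_c14)) :=
  Lgr Lrot15 (Lpe (f346498 IH) (Lpe (f291097 IH) (Lpr_ef (f346496 IH) (Lpn (LP (LK LD1_c25 LD2_c51 LD3_c14))))))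
theorem f346512 : Led Lsl_gt (LP (LK LD1_c10 LD2_c8 LD3_c33)) = (LP (LK LD1_c17 LD2_c35 LD3_c59)) :=
  Lgr Lrot150 (Lpe (K21.f296846 IH) (Lpe (K21.f327409 IH) (Lpe (K21.f233820 IH) (Lpe (K22.f327209 IH) (Lpr_ct (K21.f298585 IH) (Lpe (f338552 IH) (Lpr_ct (f298449 IH) (Lpr_df (f346501 IH) (Lpe (f346499 IH) (Lpn (LP (LK LD1_c17 LD2_c35 LD3_c59))))))))))))
theorem f177604 : Led Lsl_gt (LP (LK LD1_c9 LD2_c55 LD3_c26)) = (LP (LK LD1_c5 LD2_c2 LD3_c18)) :=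
  Lre_g IH (LK LD1_c9 LD2_c55 LD3_c26) (LK LD1_c5 LD2_c2 LD3_c18) Lrfl Lrfl
theorem f240144 : Led Lsl_gt (LP (LK LD1_c9 LD2_c53 LD3_c34)) = (LP (LK LD1_c5 LD2_c1 LD3_c36)) :=
  Lre_g IH (LK LD1_c9 LD2_c53 LD3_c34) (LK LD1_c5 LD2_c1 LD3_c36) Lrfl Lrfl
theorem f293359 : Led Lsl_ct (LP (LK LD1_c10 LD2_c20 LD3_c47)) = (LP (LK LD1_c9 LD2_c53 LD3_c34)) :=
  Lgr Lrot8 (Lpr_gt (K19.f180940 IH) (Lpr_dt (K19.f293353 IH) (Lpr_gt (K19.f255654 IH) (Lpr_dt (K17.f265336 IH) (Lpr_cf (K18.f240168 IH) (Lpe (K18.f240147 IH) (Lpe (K18.f184554 IH) (Lpe (K18.f184553 IH) (Lpe (f240144 IH) (Lpn (LP (LK LD1_c9 LD2_c53 LD3_c34))))))))))))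
theorem f343041 : Led Lsl_ct (LP (LK LD1_c10 LD2_c15 LD3_c60)) = (LP (LK LD1_c18 LD2_c3 LD3_c48)) :=
  Lgr Lrot15 (Lpr_ef (K20.f320805 IH) (Lpr_cf (K22.f252811 IH) (Lpr_ef (f343037 IH) (Lpn (LP (LK LD1_c18 LD2_c3 LD3_c48))))))
theorem f180984 : Led Lsl_ct (LP (LK LD1_c10 LD2_c20 LD3_c60)) = (LP (LK LD1_c5 LD2_c15 LD3_c51)) :=
  Lre_c IH (LK LD1_c10 LD2_c20 LD3_c60) (LK LD1_c5 LD2_c15 LD3_c51) Lrfl Lrfl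
theorem f322885 : Led Lsl_at (LP (LK LD1_c5 LD2_c15 LD3_c51)) = (LP (LK LD1_c10 LD2_c19 LD3_c39)) :=
  Lgr Lrot107 (Lpe (f180984 IH) (Lpr_af (K20.f322881 IH) (Lpe (f214818 IH) (Lpn (LP (LK LD1_c10 LD2_c19 LD3_c39))))))
theorem f320799 : Led Lsl_af (LP (LK LD1_c10 LD2_c15 LD3_c60)) = (LP (LK LD1_c10 LD2_c29 LD3_c16)) :=
  Lgr Lrot45 (Lpr_ft (K20.f320797 IH) (Lpe (K20.f320753 IH) (Lpr_ft (K14.f190466 IH) (Lpn (LP (LK LD1_c10 LD2_c29 LD3_c16))))))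
theorem f340158 : Led Lsl_bf (LP (LK LD1_c5 LD2_c15 LD3_c51)) = (LP (LK LD1_c10 LD2_c15 LD3_c60)) :=
  Lgr Lrot81 (Lpr_at (f322885 IH) (Lpr_bt (K20.f214816 IH) (Lpr_at (f340154 IH) (Lpr_bt (K14.f190474 IH) (Lpe (f320799 IH) (Lpn (LP (LK LD1_c10 LD2_c15 LD3_c60))))))))
theorem f311548 : Led Lsl_gt (LP (LK LD1_c2 LD2_c28 LD3_c30)) = (LP (LK LD1_c5 LD2_c1 LD3_c37)) :=
  Lre_g IH (LK LD1_c2 LD2_c28 LD3_c30) (LK LD1_c5 LD2_c1 LD3_c37) Lrfl Lrfl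
theorem f311549 : Led Lsl_ct (LP (LK LD1_c5 LD2_c1 LD3_c37)) = (LP (LK LD1_c9 LD2_c53 LD3_c37)) :=
  Lre_c IH (LK LD1_c5 LD2_c1 LD3_c37) (LK LD1_c9 LD2_c53 LD3_c37) Lrfl Lrfl
theorem f322837 : Led Lsl_gt (LP (LK LD1_c9 LD2_c53 LD3_c37)) = (LP (LK LD1_c18 LD2_c3 LD3_c48)) :=
  Lgr Lrot150 (Lpe (f311549 IH) (Lpe (f311548 IH) (Lpe (K20.f311538 IH) (Lpr_gt (K19.f311551 IH) (Lpr_ct (K20.f33162 IH) (Lpr_gt (K20.f322835 IH) (Lpr_ct (K21.f293331 IH) (Lpe (K20.f196121 IH) (Lpr_cf (K20.f320803 IH) (Lpn (LP (LK LD1_c18 LD2_c3 LD3_c48))))))))))))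
theorem f343043 : Led Lsl_bf (LP (LK LD1_c5 LD2_c8 LD3_c61)) = (LP (LK LD1_c5 LD2_c1 LD3_c37)) :=
  Lgr Lrot34 (Lpe (K18.f287245 IH) (Lpe (K17.f286317 IH) (Lpr_ct (K17.f286321 IH) (Lpe (f197084 IH) (Lpe (f317775 IH) (Lpe (K21.f324256 IH) (Lpr_bf (f340158 IH) (Lpr_ct (f343041 IH) (Lpe (f322837 IH) (Lpe (f311549 IH) (Lpn (LP (LK LD1_c5 LD2_c1 LD3_c37)))))))))))))
theorem f343045 : Led Lsl_bt (LP (LK LD1_c5 LD2_c8 LD3_c61)) = (LP (LK LD1_c5 LD2_c1 LD3_c37)) :=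
  Lgr Lrot127 (Lpr_bf (f343043 IH) (Lpn (LP (LK LD1_c5 LD2_c1 LD3_c37))))
theorem f320584 : Led Lsl_gf (LP (LK LD1_c9 LD2_c52 LD3_c1)) = (LP (LK LD1_c5 LD2_c1 LD3_c37)) :=
  Lgr Lrot76 (Lpr_af (K20.f320573 IH) (Lpe (K20.f311543 IH) (Lpr_gt (f311548 IH) (Lpn (LP (LK LD1_c5 LD2_c1 LD3_c37))))))
theorem f246973 : Led Lsl_ct (LP (LK LD1_c9 LD2_c52 LD3_c1)) = (LP (LK LD1_c18 LD2_c3 LD3_c38)) :=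
  Lre_c IH (LK LD1_c9 LD2_c52 LD3_c1) (LK LD1_c18 LD2_c3 LD3_c38) Lrfl Lrfl
theorem f344864 : Led Lsl_gf (LP (LK LD1_c9 LD2_c53 LD3_c34)) = (LP (LK LD1_c18 LD2_c3 LD3_c38)) :=
  Lgr Lrot129 (Lpe (f293359 IH) (Lpr_bt (f344856 IH) (Lpr_gt (K18.f193166 IH) (Lpr_bf (K21.f259110 IH) (Lpr_ct (K19.f260058 IH) (Lpe (K21.f296836 IH) (Lpe (K18.f296829 IH) (Lpr_bt (f343045 IH) (Lpe (f320584 IH) (Lpr_ct (f246973 IH) (Lpn (LP (LK LD1_c18 LD2_c3 LD3_c38)))))))))))))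
theorem f333201 : Led Lsl_ft (LP (LK LD1_c18 LD2_c3 LD3_c38)) = (LP (LK LD1_c9 LD2_c51 LD3_c61)) :=
  Lre_f IH (LK LD1_c18 LD2_c3 LD3_c38) (LK LD1_c9 LD2_c51 LD3_c61) Lrfl Lrfl
theorem f344866 : Led Lsl_af (LP (LK LD1_c5 LD2_c1 LD3_c36)) = (LP (LK LD1_c9 LD2_c51 LD3_c61)) :=
  Lgr Lrot31 (Lpe (f240144 IH) (Lpr_gf (f344864 IH) (Lpr_ft (f333201 IH) (Lpn (LP (LK LD1_c9 LD2_c51 LD3_c61))))))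
theorem f344869 : Led Lsl_at (LP (LK LD1_c9 LD2_c53 LD3_c35)) = (LP (LK LD1_c18 LD2_c3 LD3_c37)) :=
  Lgr Lrot51 (Lpe (K18.f184553 IH) (Lpr_af (f344866 IH) (Lpe (K20.f246956 IH) (Lpn (LP (LK LD1_c18 LD2_c3 LD3_c37))))))
theorem f320605 : Led Lsl_ft (LP (LK LD1_c18 LD2_c6 LD3_c17)) = (LP (LK LD1_c9 LD2_c53 LD3_c35)) :=
  Lre_f IH (LK LD1_c18 LD2_c6 LD3_c17) (LK LD1_c9 LD2_c53 LD3_c35) Lrfl Lrfl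
theorem f344900 : Led Lsl_gt (LP (LK LD1_c18 LD2_c6 LD3_c17)) = (LP (LK LD1_c27 LD2_c45 LD3_c12)) :=
  Lgr Lrot5 (Lpr_ft (f320605 IH) (Lpr_at (f344869 IH) (Lpe (K20.f186876 IH) (Lpn (LP (LK LD1_c27 LD2_c45 LD3_c12))))))
theorem f304354 : Led Lsl_ff (LP (LK LD1_c18 LD2_c6 LD3_c14)) = (LP (LK LD1_c27 LD2_c45 LD3_c12)) :=
  Lgr Lrot19 (Lpr_dt (K18.f240147 IH) (Lpr_ft (K20.f240152 IH) (Lpr_dt (K20.f304350 IH) (Lpn (LP (LK LD1_c27 LD2_c45 LD3_c12))))))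
theorem f293531 : Led Lsl_af (LP (LK LD1_c18 LD2_c40 LD3_c30)) = (LP (LK LD1_c18 LD2_c6 LD3_c14)) :=
  Lgr Lrot0 (Lpr_at (K18.f293528 IH) (Lpn (LP (LK LD1_c18 LD2_c6 LD3_c14))))
theorem f304356 : Led Lsl_at (LP (LK LD1_c18 LD2_c6 LD3_c15)) = (LP (LK LD1_c27 LD2_c45 LD3_c12)) :=
  Lgr Lrot66 (Lpe (K18.f293541 IH) (Lpr_af (f293531 IH) (Lpr_ff (f304354 IH) (Lpn (LP (LK LD1_c27 LD2_c45 LD3_c12))))))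
theorem f344902 : Led Lsl_gf (LP (LK LD1_c18 LD2_c6 LD3_c17)) = (LP (LK LD1_c18 LD2_c40 LD3_c30)) :=
  Lgr Lrot47 (Lpr_gt (f344900 IH) (Lpe (f304356 IH) (Lpe (K18.f293541 IH) (Lpn (LP (LK LD1_c18 LD2_c40 LD3_c30))))))
theorem f177605 : Led Lsl_ct (LP (LK LD1_c9 LD2_c55 LD3_c26)) = (LP (LK LD1_c18 LD2_c10 LD3_c2)) :=
  Lre_c IH (LK LD1_c9 LD2_c55 LD3_c26) (LK LD1_c18 LD2_c10 LD3_c2) Lrfl Lrfl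
theorem f344904 : Led Lsl_gt (LP (LK LD1_c18 LD2_c10 LD3_c2)) = (LP (LK LD1_c10 LD2_c16 LD3_c2)) :=
  Lgr Lrot94 (Lpe (f177605 IH) (Lpr_gt (f177604 IH) (Lpr_dt (K10.f177587 IH) (Lpr_gt (K20.f177606 IH) (Lpr_dt (K20.f320582 IH) (Lpe (K20.f320579 IH) (Lpe (K20.f320597 IH) (Lpr_gf (f344902 IH) (Lpe (K18.f196125 IH) (Lpn (LP (LK LD1_c10 LD2_c16 LD3_c2))))))))))))
theorem f242556 : Led Lsl_et (LP (LK LD1_c5 LD2_c12 LD3_c51)) = (LP (LK LD1_c10 LD2_c16 LD3_c2)) :=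
  Lre_e IH (LK LD1_c5 LD2_c12 LD3_c51) (LK LD1_c10 LD2_c16 LD3_c2) Lrfl Lrfl
theorem f242307 : Led Lsl_et (LP (LK LD1_c2 LD2_c31 LD3_c39)) = (LP (LK LD1_c5 LD2_c8 LD3_c60)) :=
  Lre_e IH (LK LD1_c2 LD2_c31 LD3_c39) (LK LD1_c5 LD2_c8 LD3_c60) Lrfl Lrfl
theorem f22072 : Led Lsl_gt (LP (LK LD1_c10 LD2_c10 LD3_c21)) = (LP (LK LD1_c5 LD2_c9 LD3_c47)) :=
  Lre_g IH (LK LD1_c10 LD2_c10 LD3_c21) (LK LD1_c5 LD2_c9 LD3_c47) Lrfl Lrfl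
theorem f22077 : Led Lsl_ct (LP (LK LD1_c18 LD2_c31 LD3_c60)) = (LP (LK LD1_c10 LD2_c10 LD3_c21)) :=
  Lre_c IH (LK LD1_c18 LD2_c31 LD3_c60) (LK LD1_c10 LD2_c10 LD3_c21) Lrfl Lrfl
theorem f330355 : Led Lsl_gt (LP (LK LD1_c18 LD2_c4 LD3_c55)) = (LP (LK LD1_c18 LD2_c31 LD3_c60)) :=
  Lgr Lrot146 (Lpr_dt (K21.f330345 IH) (Lpr_gt (K21.f192969 IH) (Lpr_ct (K21.f287254 IH) (Lpe (K21.f327032 IH) (Lpr_ct (K21.f22062 IH) (Lpr_dt (K19.f22061 IH) (Lpe (K19.f22091 IH) (Lpe (f22072 IH) (Lpe (f22077 IH) (Lpn (LP (LK LD1_c18 LD2_c31 LD3_c60))))))))))))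
theorem f171611 : Led Lsl_ct (LP (LK LD1_c8 LD2_c3 LD3_c20)) = (LP (LK LD1_c15 LD2_c10 LD3_c0)) :=
  Lre_c IH (LK LD1_c8 LD2_c3 LD3_c20) (LK LD1_c15 LD2_c10 LD3_c0) Lrfl Lrfl
theorem f327306 : Led Lsl_cf (LP (LK LD1_c15 LD2_c10 LD3_c1)) = (LP (LK LD1_c18 LD2_c4 LD3_c55)) :=
  Lgr Lrot39 (Lpr_et (K19.f192854 IH) (Lpr_ct (f171611 IH) (Lpr_et (K21.f327293 IH) (Lpn (LP (LK LD1_c18 LD2_c4 LD3_c55))))))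
theorem f298522 : Led Lsl_dt (LP (LK LD1_c18 LD2_c28 LD3_c25)) = (LP (LK LD1_c10 LD2_c8 LD3_c29)) :=
  Lre_d IH (LK LD1_c18 LD2_c28 LD3_c25) (LK LD1_c10 LD2_c8 LD3_c29) Lrfl Lrfl
theorem f296919 : Led Lsl_ct (LP (LK LD1_c32 LD2_c31 LD3_c17)) = (LP (LK LD1_c28 LD2_c3 LD3_c13)) :=
  Lre_c IH (LK LD1_c32 LD2_c31 LD3_c17) (LK LD1_c28 LD2_c3 LD3_c13) Lrfl Lrfl
theorem f327095 : Led Lsl_gt (LP (LK LD1_c28 LD2_c3 LD3_c13)) = (LP (LK LD1_c18 LD2_c28 LD3_c25)) :=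
  Lgr Lrot94 (Lpe (f296919 IH) (Lpr_gt (K21.f296916 IH) (Lpr_dt (K21.f327093 IH) (Lpe (K21.f298520 IH) (Lpr_dt (K21.f287228 IH) (Lpe (K20.f197203 IH) (Lpe (K20.f197188 IH) (Lpe (K20.f242839 IH) (Lpe (f298522 IH) (Lpn (LP (LK LD1_c18 LD2_c28 LD3_c25))))))))))))
theorem f330359 : Led Lsl_df (LP (LK LD1_c28 LD2_c3 LD3_c13)) = (LP (LK LD1_c18 LD2_c31 LD3_c60)) :=
  Lgr Lrot153 (Lpr_gt (f327095 IH) (Lpr_dt (f298522 IH) (Lpe (K20.f320943 IH) (Lpr_df (K19.f296421 IH) (Lpe (K19.f305612 IH) (Lpe (K19.f305605 IH) (Lpr_gf (K19.f296524 IH) (Lpr_cf (f327306 IH) (Lpr_gt (f330355 IH) (Lpn (LP (LK LD1_c18 LD2_c31 LD3_c60))))))))))))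
theorem f344917 : Led Lsl_ef (LP (LK LD1_c18 LD2_c10 LD3_c2)) = (LP (LK LD1_c18 LD2_c31 LD3_c60)) :=
  Lgr Lrot114 (Lpr_gt (f344904 IH) (Lpe (f242556 IH) (Lpe (K16.f242303 IH) (Lpr_gt (K13.f197179 IH) (Lpe (K13.f197181 IH) (Lpr_et (f242307 IH) (Lpr_gt (K20.f242308 IH) (Lpr_dt (K21.f296913 IH) (Lpr_gt (K21.f296914 IH) (Lpr_df (f330359 IH) (Lpn (LP (LK LD1_c18 LD2_c31 LD3_c60)))))))))))))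
theorem f344921 : Led Lsl_et (LP (LK LD1_c18 LD2_c10 LD3_c2)) = (LP (LK LD1_c18 LD2_c31 LD3_c60)) :=
  Lgr Lrot87 (Lpr_ef (f344917 IH) (Lpn (LP (LK LD1_c18 LD2_c31 LD3_c60))))
theorem f344923 : Led Lsl_ef (LP (LK LD1_c9 LD2_c55 LD3_c26)) = (LP (LK LD1_c10 LD2_c10 LD3_c21)) :=
  Lgr Lrot28 (Lpr_ct (f177605 IH) (Lpr_et (f344921 IH) (Lpr_ct (f22077 IH) (Lpn (LP (LK LD1_c10 LD2_c10 LD3_c21))))))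
theorem f346518 : Led Lsl_dt (LP (LK LD1_c10 LD2_c10 LD3_c21)) = (LP (LK LD1_c17 LD2_c35 LD3_c59)) :=
  Lgr Lrot56 (Lpe (f344923 IH) (Lpr_gt (f177604 IH) (Lpe (K10.f177597 IH) (Lpr_dt (K13.f177366 IH) (Lpe (K19.f285819 IH) (Lpr_df (K21.f285786 IH) (Lpr_et (K21.f287209 IH) (Lpr_gt (K18.f287245 IH) (Lpr_dt (K22.f296844 IH) (Lpr_gt (f346512 IH) (Lpn (LP (LK LD1_c17 LD2_c35 LD3_c59)))))))))))))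
theorem f342468 : Led Lsl_ct (LP (LK LD1_c18 LD2_c31 LD3_c54)) = (LP (LK LD1_c18 LD2_c21 LD3_c37)) :=
  Lgr Lrot59 (Lpr_cf (f342466 IH) (Lpn (LP (LK LD1_c18 LD2_c21 LD3_c37))))
theorem f346522 : Led Lsl_gf (LP (LK LD1_c9 LD2_c44 LD3_c30)) = (LP (LK LD1_c17 LD2_c35 LD3_c59)) :=
  Lgr Lrot179 (Lpr_ct (K22.f323774 IH) (Lpe (K22.f332812 IH) (Lpe (K21.f314289 IH) (Lpr_dt (K21.f320947 IH) (Lpe (f342468 IH) (Lpe (f185394 IH) (Lpe (K19.f22091 IH) (Lpe (f22072 IH) (Lpr_dt (f346518 IH) (Lpn (LP (LK LD1_c17 LD2_c35 LD3_c59))))))))))))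
theorem f243711 : Led Lsl_et (LP (LK LD1_c2 LD2_c45 LD3_c25)) = (LP (LK LD1_c1 LD2_c19 LD3_c5)) :=
  Lre_e IH (LK LD1_c2 LD2_c45 LD3_c25) (LK LD1_c1 LD2_c19 LD3_c5) Lrfl Lrfl
theorem f243656 : Led Lsl_gt (LP (LK LD1_c1 LD2_c19 LD3_c5)) = (LP (LK LD1_c0 LD2_c59 LD3_c19)) :=
  Lgr Lrot150 (Lpe (K13.f179412 IH) (Lpr_gf (K13.f243650 IH) (Lpr_df (K11.f200801 IH) (Lpe (K11.f200798 IH) (Lpr_ct (K13.f196923 IH) (Lpe (K13.f238329 IH) (Lpr_ct (K15.f211262 IH) (Lpr_df (K15.f228258 IH) (Lpe (K15.f200429 IH) (Lpn (LP (LK LD1_c0 LD2_c59 LD3_c19))))))))))))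
theorem f231561 : Led Lsl_gt (LP (LK LD1_c4 LD2_c14 LD3_c31)) = (LP (LK LD1_c8 LD2_c27 LD3_c45)) :=
  Lre_g IH (LK LD1_c4 LD2_c14 LD3_c31) (LK LD1_c8 LD2_c27 LD3_c45) Lrfl Lrfl
theorem f346528 : Led Lsl_df (LP (LK LD1_c8 LD2_c27 LD3_c45)) = (LP (LK LD1_c9 LD2_c33 LD3_c25)) :=
  Lgr Lrot168 (Lpe (f231561 IH) (Lpe (f189371 IH) (Lpr_et (K19.f200434 IH) (Lpe (f243656 IH) (Lpe (f243711 IH) (Lpe (K18.f296839 IH) (Lpe (K21.f287225 IH) (Lpr_df (K21.f323691 IH) (Lpr_gf (f346522 IH) (Lpe (f346498 IH) (Lpn (LP (LK LD1_c9 LD2_c33 LD3_c25)))))))))))))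
theorem f346533 : Led Lsl_et (LP (LK LD1_c8 LD2_c27 LD3_c45)) = (LP (LK LD1_c15 LD2_c53 LD3_c26)) :=
  Lre_e IH (LK LD1_c8 LD2_c27 LD3_c45) (LK LD1_c15 LD2_c53 LD3_c26) Lrfl Lrfl
theorem f346493 : Led Lsl_et (LP (LK LD1_c17 LD2_c35 LD3_c59)) = (LP (LK LD1_c9 LD2_c33 LD3_c25)) :=
  Lre_e IH (LK LD1_c17 LD2_c35 LD3_c59) (LK LD1_c9 LD2_c33 LD3_c25) Lrfl Lrfl
theorem f177610 : Led Lsl_ct (LP (LK LD1_c18 LD2_c10 LD3_c2)) = (LP (LK LD1_c9 LD2_c55 LD3_c26)) :=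
  Lre_c IH (LK LD1_c18 LD2_c10 LD3_c2) (LK LD1_c9 LD2_c55 LD3_c26) Lrfl Lrfl
theorem f22073 : Led Lsl_ct (LP (LK LD1_c10 LD2_c10 LD3_c21)) = (LP (LK LD1_c18 LD2_c31 LD3_c60)) :=
  Lre_c IH (LK LD1_c10 LD2_c10 LD3_c21) (LK LD1_c18 LD2_c31 LD3_c60) Lrfl Lrfl
theorem f344919 : Led Lsl_et (LP (LK LD1_c9 LD2_c55 LD3_c26)) = (LP (LK LD1_c10 LD2_c10 LD3_c21)) :=
  Lgr Lrot158 (Lpe (f177610 IH) (Lpr_ef (f344917 IH) (Lpe (f22073 IH) (Lpn (LP (LK LD1_c10 LD2_c10 LD3_c21))))))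
theorem f346534 : Led Lsl_dt (LP (LK LD1_c15 LD2_c53 LD3_c26)) = (LP (LK LD1_c9 LD2_c55 LD3_c26)) :=
  Lgr Lrot77 (Lpe (f346533 IH) (Lpr_df (f346528 IH) (Lpe (f346493 IH) (Lpe (f346518 IH) (Lpe (f344919 IH) (Lpn (LP (LK LD1_c9 LD2_c55 LD3_c26))))))))
theorem f251483 : Led Lsl_ft (LP (LK LD1_c18 LD2_c4 LD3_c55)) = (LP (LK LD1_c9 LD2_c52 LD3_c41)) :=
  Lre_f IH (LK LD1_c18 LD2_c4 LD3_c55) (LK LD1_c9 LD2_c52 LD3_c41) Lrfl Lrfl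
theorem f330357 : Led Lsl_gf (LP (LK LD1_c15 LD2_c16 LD3_c35)) = (LP (LK LD1_c18 LD2_c31 LD3_c60)) :=
  Lgr Lrot76 (Lpe (K21.f327342 IH) (Lpe (f251483 IH) (Lpr_gt (f330355 IH) (Lpn (LP (LK LD1_c18 LD2_c31 LD3_c60))))))
theorem f265981 : Led Lsl_et (LP (LK LD1_c2 LD2_c28 LD3_c29)) = (LP (LK LD1_c5 LD2_c1 LD3_c36)) :=
  Lre_e IH (LK LD1_c2 LD2_c28 LD3_c29) (LK LD1_c5 LD2_c1 LD3_c36) Lrfl Lrfl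
theorem f265982 : Led Lsl_gt (LP (LK LD1_c5 LD2_c1 LD3_c36)) = (LP (LK LD1_c9 LD2_c53 LD3_c33)) :=
  Lre_g IH (LK LD1_c5 LD2_c1 LD3_c36) (LK LD1_c9 LD2_c53 LD3_c33) Lrfl Lrfl
theorem f265983 : Led Lsl_dt (LP (LK LD1_c9 LD2_c53 LD3_c33)) = (LP (LK LD1_c18 LD2_c6 LD3_c10)) :=
  Lre_d IH (LK LD1_c9 LD2_c53 LD3_c33) (LK LD1_c18 LD2_c6 LD3_c10) Lrfl Lrfl
theorem f265984 : Led Lsl_gt (LP (LK LD1_c18 LD2_c6 LD3_c10)) = (LP (LK LD1_c27 LD2_c47 LD3_c16)) :=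
  Lre_g IH (LK LD1_c18 LD2_c6 LD3_c10) (LK LD1_c27 LD2_c47 LD3_c16) Lrfl Lrfl
theorem f344925 : Led Lsl_dt (LP (LK LD1_c18 LD2_c10 LD3_c2)) = (LP (LK LD1_c27 LD2_c47 LD3_c16)) :=
  Lgr Lrot56 (Lpr_et (f344921 IH) (Lpe (f330357 IH) (Lpe (K21.f265978 IH) (Lpe (K15.f265976 IH) (Lpr_gt (K15.f184214 IH) (Lpe (K15.f184546 IH) (Lpr_et (f265981 IH) (Lpr_gt (f265982 IH) (Lpr_dt (f265983 IH) (Lpr_gt (f265984 IH) (Lpn (LP (LK LD1_c27 LD2_c47 LD3_c16)))))))))))))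
theorem f344927 : Led Lsl_df (LP (LK LD1_c18 LD2_c10 LD3_c2)) = (LP (LK LD1_c27 LD2_c47 LD3_c16)) :=
  Lgr Lrot38 (Lpr_dt (f344925 IH) (Lpn (LP (LK LD1_c27 LD2_c47 LD3_c16))))
theorem f247827 : Led Lsl_ct (LP (LK LD1_c2 LD2_c28 LD3_c30)) = (LP (LK LD1_c5 LD2_c1 LD3_c36)) :=
  Lre_c IH (LK LD1_c2 LD2_c28 LD3_c30) (LK LD1_c5 LD2_c1 LD3_c36) Lrfl Lrfl
theorem f317031 : Led Lsl_dt (LP (LK LD1_c5 LD2_c1 LD3_c37)) = (LP (LK LD1_c9 LD2_c53 LD3_c38)) :=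
  Lre_d IH (LK LD1_c5 LD2_c1 LD3_c37) (LK LD1_c9 LD2_c53 LD3_c38) Lrfl Lrfl
theorem f346557 : Led Lsl_gf (LP (LK LD1_c15 LD2_c53 LD3_c26)) = (LP (LK LD1_c9 LD2_c53 LD3_c38)) :=
  Lgr Lrot143 (Lpr_dt (f346534 IH) (Lpe (f177610 IH) (Lpr_df (f344927 IH) (Lpe (f265984 IH) (Lpe (f265983 IH) (Lpe (f265982 IH) (Lpe (f247827 IH) (Lpr_gt (f311548 IH) (Lpr_dt (f317031 IH) (Lpn (LP (LK LD1_c9 LD2_c53 LD3_c38))))))))))))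
theorem f239873 : Led Lsl_ef (LP (LK LD1_c2 LD2_c59 LD3_c45)) = (LP (LK LD1_c4 LD2_c52 LD3_c57)) :=
  Lgr Lrot21 (Lpr_ft (K13.f239485 IH) (Lpr_et (K13.f195611 IH) (Lpe (K13.f239831 IH) (Lpr_et (K13.f235326 IH) (Lpr_ft (K16.f239863 IH) (Lpn (LP (LK LD1_c4 LD2_c52 LD3_c57))))))))
theorem f170358 : Led Lsl_gt (LP (LK LD1_c2 LD2_c24 LD3_c18)) = (LP (LK LD1_c4 LD2_c52 LD3_c55)) :=
  Lre_g IH (LK LD1_c2 LD2_c24 LD3_c18) (LK LD1_c4 LD2_c52 LD3_c55) Lrfl Lrfl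
theorem f239876 : Led Lsl_dt (LP (LK LD1_c9 LD2_c37 LD3_c47)) = (LP (LK LD1_c4 LD2_c52 LD3_c55)) :=
  Lre_d IH (LK LD1_c9 LD2_c37 LD3_c47) (LK LD1_c4 LD2_c52 LD3_c55) Lrfl Lrfl
theorem f346561 : Led Lsl_ef (LP (LK LD1_c9 LD2_c53 LD3_c38)) = (LP (LK LD1_c9 LD2_c37 LD3_c47)) :=
  Lgr Lrot167 (Lpe (f346557 IH) (Lpr_dt (f346534 IH) (Lpr_gt (f177604 IH) (Lpr_df (K13.f177556 IH) (Lpr_et (K10.f177598 IH) (Lpr_gt (K13.f177541 IH) (Lpr_ef (f239873 IH) (Lpr_dt (K15.f200559 IH) (Lpr_gt (f170358 IH) (Lpe (f239876 IH) (Lpn (LP (LK LD1_c9 LD2_c37 LD3_c47)))))))))))))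
theorem f346567 : Led Lsl_et (LP (LK LD1_c9 LD2_c53 LD3_c38)) = (LP (LK LD1_c9 LD2_c37 LD3_c47)) :=
  Lgr Lrot87 (Lpr_ef (f346561 IH) (Lpn (LP (LK LD1_c9 LD2_c37 LD3_c47))))
theorem f320587 : Led Lsl_dt (LP (LK LD1_c9 LD2_c53 LD3_c38)) = (LP (LK LD1_c5 LD2_c1 LD3_c37)) :=
  Lre_d IH (LK LD1_c9 LD2_c53 LD3_c38) (LK LD1_c5 LD2_c1 LD3_c37) Lrfl Lrfl
theorem f212568 : Led Lsl_gt (LP (LK LD1_c8 LD2_c24 LD3_c50)) = (LP (LK LD1_c4 LD2_c12 LD3_c36)) :=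
  Lre_g IH (LK LD1_c8 LD2_c24 LD3_c50) (LK LD1_c4 LD2_c12 LD3_c36) Lrfl Lrfl
theorem f212571 : Led Lsl_dt (LP (LK LD1_c15 LD2_c49 LD3_c4)) = (LP (LK LD1_c8 LD2_c24 LD3_c50)) :=
  Lre_d IH (LK LD1_c15 LD2_c49 LD3_c4) (LK LD1_c8 LD2_c24 LD3_c50) Lrfl Lrfl
theorem f346573 : Led Lsl_gf (LP (LK LD1_c15 LD2_c49 LD3_c4)) = (LP (LK LD1_c9 LD2_c37 LD3_c47)) :=
  Lgr Lrot138 (Lpr_dt (f212571 IH) (Lpr_gt (f212568 IH) (Lpr_df (K19.f212561 IH) (Lpr_et (K14.f212550 IH) (Lpr_gt (K12.f183315 IH) (Lpe (K13.f212619 IH) (Lpr_dt (K20.f311538 IH) (Lpr_gt (f311548 IH) (Lpe (f320587 IH) (Lpr_et (f346567 IH) (Lpn (LP (LK LD1_c9 LD2_c37 LD3_c47)))))))))))))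
theorem f346576 : Led Lsl_dt (LP (LK LD1_c8 LD2_c24 LD3_c50)) = (LP (LK LD1_c15 LD2_c49 LD3_c4)) :=
  Lre_d IH (LK LD1_c8 LD2_c24 LD3_c50) (LK LD1_c15 LD2_c49 LD3_c4) Lrfl Lrfl
theorem f170359 : Led Lsl_dt (LP (LK LD1_c4 LD2_c52 LD3_c55)) = (LP (LK LD1_c9 LD2_c37 LD3_c47)) :=
  Lre_d IH (LK LD1_c4 LD2_c52 LD3_c55) (LK LD1_c9 LD2_c37 LD3_c47) Lrfl Lrfl
theorem f200405 : Led Lsl_et (LP (LK LD1_c1 LD2_c9 LD3_c18)) = (LP (LK LD1_c2 LD2_c24 LD3_c18)) :=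
  Lre_e IH (LK LD1_c1 LD2_c9 LD3_c18) (LK LD1_c2 LD2_c24 LD3_c18) Lrfl Lrfl
theorem f346577 : Led Lsl_et (LP (LK LD1_c8 LD2_c24 LD3_c50)) = (LP (LK LD1_c5 LD2_c39 LD3_c18)) :=
  Lgr Lrot185 (Lpr_dt (f346576 IH) (Lpr_gf (f346573 IH) (Lpe (f170359 IH) (Lpe (f170358 IH) (Lpe (f200405 IH) (Lpe (K13.f200403 IH) (Lpe (K12.f179104 IH) (Lpe (K11.f196957 IH) (Lpr_et (K19.f200571 IH) (Lpe (f200572 IH) (Lpn (LP (LK LD1_c5 LD2_c39 LD3_c18)))))))))))))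
theorem f346587 : Led Lsl_ef (LP (LK LD1_c8 LD2_c24 LD3_c50)) = (LP (LK LD1_c5 LD2_c39 LD3_c18)) :=
  Lgr Lrot88 (Lpr_et (f346577 IH) (Lpn (LP (LK LD1_c5 LD2_c39 LD3_c18))))
theorem f243723 : Led Lsl_dt (LP (LK LD1_c5 LD2_c39 LD3_c18)) = (LP (LK LD1_c11 LD2_c9 LD3_c37)) :=
  Lre_d IH (LK LD1_c5 LD2_c39 LD3_c18) (LK LD1_c11 LD2_c9 LD3_c37) Lrfl Lrfl
theorem f315322 : Led Lsl_ef (LP (LK LD1_c4 LD2_c22 LD3_c44)) = (LP (LK LD1_c4 LD2_c18 LD3_c59)) :=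
  Lgr Lrot73 (Lpe (K19.f200479 IH) (Lpr_et (K13.f189996 IH) (Lpr_dt (K13.f216469 IH) (Lpe (K13.f199343 IH) (Lpr_dt (K20.f315318 IH) (Lpn (LP (LK LD1_c4 LD2_c18 LD3_c59))))))))
theorem f237998 : Led Lsl_ff (LP (LK LD1_c4 LD2_c18 LD3_c59)) = (LP (LK LD1_c2 LD2_c23 LD3_c24)) :=
  Lgr Lrot103 (Lpr_at (K20.f237900 IH) (Lpe (K13.f200382 IH) (Lpe (K13.f200383 IH) (Lpr_cf (K13.f237905 IH) (Lpe (K13.f2093 IH) (Lpe (K13.f2080 IH) (Lpe (K13.f199188 IH) (Lpr_cf (K13.f192799 IH) (Lpr_df (K15.f199193 IH) (Lpn (LP (LK LD1_c2 LD2_c23 LD3_c24))))))))))))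
theorem f315445 : Led Lsl_ef (LP (LK LD1_c9 LD2_c34 LD3_c20)) = (LP (LK LD1_c4 LD2_c56 LD3_c49)) :=
  Lgr Lrot21 (Lpr_ft (K15.f199214 IH) (Lpr_et (K18.f199228 IH) (Lpe (f237998 IH) (Lpe (f315322 IH) (Lpr_ft (K20.f315441 IH) (Lpn (LP (LK LD1_c4 LD2_c56 LD3_c49))))))))
theorem f346600 : Led Lsl_gf (LP (LK LD1_c8 LD2_c24 LD3_c50)) = (LP (LK LD1_c9 LD2_c34 LD3_c20)) :=
  Lgr Lrot141 (Lpr_ef (f346587 IH) (Lpr_dt (f243723 IH) (Lpr_gt (f326997 IH) (Lpe (K19.f291028 IH) (Lpr_et (K19.f291030 IH) (Lpe (K19.f312185 IH) (Lpr_dt (K19.f237975 IH) (Lpr_gt (K21.f315463 IH) (Lpr_df (K20.f315437 IH) (Lpe (f315445 IH) (Lpn (LP (LK LD1_c9 LD2_c34 LD3_c20)))))))))))))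
theorem f212579 : Led Lsl_bt (LP (LK LD1_c15 LD2_c49 LD3_c2)) = (LP (LK LD1_c8 LD2_c24 LD3_c50)) :=
  Lre_b IH (LK LD1_c15 LD2_c49 LD3_c2) (LK LD1_c8 LD2_c24 LD3_c50) Lrfl Lrfl
theorem f182292 : Led Lsl_ct (LP (LK LD1_c8 LD2_c20 LD3_c34)) = (LP (LK LD1_c15 LD2_c42 LD3_c8)) :=
  Lre_c IH (LK LD1_c8 LD2_c20 LD3_c34) (LK LD1_c15 LD2_c42 LD3_c8) Lrfl Lrfl
theorem f238649 : Led Lsl_gt (LP (LK LD1_c16 LD2_c4 LD3_c25)) = (LP (LK LD1_c8 LD2_c33 LD3_c48)) :=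
  Lre_g IH (LK LD1_c16 LD2_c4 LD3_c25) (LK LD1_c8 LD2_c33 LD3_c48) Lrfl Lrfl
theorem f267007 : Led Lsl_gf (LP (LK LD1_c16 LD2_c4 LD3_c25)) = (LP (LK LD1_c15 LD2_c42 LD3_c8)) :=
  Lgr Lrot47 (Lpr_gt (f238649 IH) (Lpr_af (K15.f266993 IH) (Lpe (K15.f267004 IH) (Lpn (LP (LK LD1_c15 LD2_c42 LD3_c8))))))
theorem f343818 : Led Lsl_ct (LP (LK LD1_c15 LD2_c49 LD3_c2)) = (LP (LK LD1_c16 LD2_c4 LD3_c25)) :=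
  Lgr Lrot63 (Lpr_bt (f212579 IH) (Lpr_gt (f212568 IH) (Lpe (K20.f170935 IH) (Lpr_ct (K21.f170924 IH) (Lpr_gt (K22.f170931 IH) (Lpr_cf (K22.f333767 IH) (Lpr_bt (K21.f179780 IH) (Lpr_gt (f343814 IH) (Lpr_ct (f182292 IH) (Lpe (f267007 IH) (Lpn (LP (LK LD1_c16 LD2_c4 LD3_c25)))))))))))))
theorem f341506 : Led Lsl_cf (LP (LK LD1_c11 LD2_c9 LD3_c38)) = (LP (LK LD1_c8 LD2_c36 LD3_c56)) :=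
  Lgr Lrot11 (Lpr_ct (f341503 IH) (Lpn (LP (LK LD1_c8 LD2_c36 LD3_c56))))
theorem f199249 : Led Lsl_ct (LP (LK LD1_c8 LD2_c10 LD3_c20)) = (LP (LK LD1_c15 LD2_c23 LD3_c25)) :=
  Lre_c IH (LK LD1_c8 LD2_c10 LD3_c20) (LK LD1_c15 LD2_c23 LD3_c25) Lrfl Lrfl
theorem f346610 : Led Lsl_gt (LP (LK LD1_c11 LD2_c9 LD3_c38)) = (LP (LK LD1_c15 LD2_c23 LD3_c25)) :=
  Lgr Lrot149 (Lpr_cf (f341506 IH) (Lpe (K13.f228070 IH) (Lpr_bf (K14.f238632 IH) (Lpr_ct (K20.f238648 IH) (Lpe (f238649 IH) (Lpe (f343818 IH) (Lpr_bt (f212579 IH) (Lpr_gf (f346600 IH) (Lpe (K15.f199240 IH) (Lpr_ct (f199249 IH) (Lpn (LP (LK LD1_c15 LD2_c23 LD3_c25)))))))))))))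
theorem f216618 : Led Lsl_dt (LP (LK LD1_c15 LD2_c37 LD3_c46)) = (LP (LK LD1_c8 LD2_c18 LD3_c34)) :=
  Lre_d IH (LK LD1_c15 LD2_c37 LD3_c46) (LK LD1_c8 LD2_c18 LD3_c34) Lrfl Lrfl
theorem f314970 : Led Lsl_dt (LP (LK LD1_c15 LD2_c23 LD3_c25)) = (LP (LK LD1_c25 LD2_c15 LD3_c41)) :=
  Lre_d IH (LK LD1_c15 LD2_c23 LD3_c25) (LK LD1_c25 LD2_c15 LD3_c41) Lrfl Lrfl
theorem f346612 : Led Lsl_gf (LP (LK LD1_c15 LD2_c37 LD3_c46)) = (LP (LK LD1_c25 LD2_c15 LD3_c41)) :=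
  Lgr Lrot143 (Lpr_dt (f216618 IH) (Lpe (K21.f216629 IH) (Lpe (K15.f238549 IH) (Lpr_gf (K19.f305636 IH) (Lpe (K21.f256755 IH) (Lpe (K21.f305640 IH) (Lpe (f341503 IH) (Lpr_gt (f346610 IH) (Lpr_dt (f314970 IH) (Lpn (LP (LK LD1_c25 LD2_c15 LD3_c41))))))))))))
theorem f346614 : Led Lsl_ft (LP (LK LD1_c25 LD2_c15 LD3_c41)) = (LP (LK LD1_c15 LD2_c23 LD3_c24)) :=
  Lre_f IH (LK LD1_c25 LD2_c15 LD3_c41) (LK LD1_c15 LD2_c23 LD3_c24) Lrfl Lrfl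
theorem f346615 : Led Lsl_af (LP (LK LD1_c11 LD2_c9 LD3_c41)) = (LP (LK LD1_c15 LD2_c23 LD3_c24)) :=
  Lgr Lrot31 (Lpr_gf (K21.f216605 IH) (Lpr_gf (f346612 IH) (Lpr_ft (f346614 IH) (Lpn (LP (LK LD1_c15 LD2_c23 LD3_c24))))))
theorem f346630 : Led Lsl_et (LP (LK LD1_c11 LD2_c9 LD3_c41)) = (LP (LK LD1_c20 LD2_c4 LD3_c10)) :=
  Lre_e IH (LK LD1_c11 LD2_c9 LD3_c41) (LK LD1_c20 LD2_c4 LD3_c10) Lrfl Lrfl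
theorem f224929 : Led Lsl_et (LP (LK LD1_c25 LD2_c15 LD3_c40)) = (LP (LK LD1_c15 LD2_c23 LD3_c24)) :=
  Lre_e IH (LK LD1_c25 LD2_c15 LD3_c40) (LK LD1_c15 LD2_c23 LD3_c24) Lrfl Lrfl
theorem f346631 : Led Lsl_at (LP (LK LD1_c20 LD2_c4 LD3_c10)) = (LP (LK LD1_c25 LD2_c15 LD3_c40)) :=
  Lgr Lrot80 (Lpe (f346630 IH) (Lpr_af (f346615 IH) (Lpe (f224929 IH) (Lpn (LP (LK LD1_c25 LD2_c15 LD3_c40))))))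
theorem f238925 : Led Lsl_dt (LP (LK LD1_c11 LD2_c9 LD3_c47)) = (LP (LK LD1_c20 LD2_c4 LD3_c10)) :=
  Lre_d IH (LK LD1_c11 LD2_c9 LD3_c47) (LK LD1_c20 LD2_c4 LD3_c10) Lrfl Lrfl
theorem f224930 : Led Lsl_dt (LP (LK LD1_c25 LD2_c15 LD3_c40)) = (LP (LK LD1_c15 LD2_c23 LD3_c30)) :=
  Lre_d IH (LK LD1_c25 LD2_c15 LD3_c40) (LK LD1_c15 LD2_c23 LD3_c30) Lrfl Lrfl
theorem f346638 : Led Lsl_af (LP (LK LD1_c11 LD2_c9 LD3_c47)) = (LP (LK LD1_c15 LD2_c23 LD3_c30)) :=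
  Lgr Lrot117 (Lpr_dt (f238925 IH) (Lpr_at (f346631 IH) (Lpr_dt (f224930 IH) (Lpn (LP (LK LD1_c15 LD2_c23 LD3_c30))))))
theorem f346646 : Led Lsl_ft (LP (LK LD1_c11 LD2_c9 LD3_c47)) = (LP (LK LD1_c20 LD2_c4 LD3_c18)) :=
  Lre_f IH (LK LD1_c11 LD2_c9 LD3_c47) (LK LD1_c20 LD2_c4 LD3_c18) Lrfl Lrfl
theorem f346647 : Led Lsl_ft (LP (LK LD1_c25 LD2_c15 LD3_c49)) = (LP (LK LD1_c15 LD2_c23 LD3_c30)) :=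
  Lre_f IH (LK LD1_c25 LD2_c15 LD3_c49) (LK LD1_c15 LD2_c23 LD3_c30) Lrfl Lrfl
theorem f346648 : Led Lsl_at (LP (LK LD1_c20 LD2_c4 LD3_c18)) = (LP (LK LD1_c25 LD2_c15 LD3_c49)) :=
  Lgr Lrot66 (Lpe (f346646 IH) (Lpr_af (f346638 IH) (Lpe (f346647 IH) (Lpn (LP (LK LD1_c25 LD2_c15 LD3_c49))))))
theorem f269645 : Led Lsl_et (LP (LK LD1_c8 LD2_c10 LD3_c28)) = (LP (LK LD1_c15 LD2_c23 LD3_c35)) :=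
  Lre_e IH (LK LD1_c8 LD2_c10 LD3_c28) (LK LD1_c15 LD2_c23 LD3_c35) Lrfl Lrfl
theorem f337263 : Led Lsl_ft (LP (LK LD1_c15 LD2_c23 LD3_c35)) = (LP (LK LD1_c25 LD2_c15 LD3_c57)) :=
  Lre_f IH (LK LD1_c15 LD2_c23 LD3_c35) (LK LD1_c25 LD2_c15 LD3_c57) Lrfl Lrfl
theorem f238924 : Led Lsl_et (LP (LK LD1_c11 LD2_c9 LD3_c47)) = (LP (LK LD1_c5 LD2_c39 LD3_c22)) :=
  Lre_e IH (LK LD1_c11 LD2_c9 LD3_c47) (LK LD1_c5 LD2_c39 LD3_c22) Lrfl Lrfl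
theorem f337264 : Led Lsl_ft (LP (LK LD1_c20 LD2_c4 LD3_c18)) = (LP (LK LD1_c11 LD2_c9 LD3_c47)) :=
  Lre_f IH (LK LD1_c20 LD2_c4 LD3_c18) (LK LD1_c11 LD2_c9 LD3_c47) Lrfl Lrfl
theorem f337265 : Led Lsl_et (LP (LK LD1_c25 LD2_c15 LD3_c57)) = (LP (LK LD1_c20 LD2_c4 LD3_c18)) :=
  Lgr Lrot69 (Lpe (f337263 IH) (Lpe (f269645 IH) (Lpr_ff (K22.f337256 IH) (Lpe (f238924 IH) (Lpe (f337264 IH) (Lpn (LP (LK LD1_c20 LD2_c4 LD3_c18))))))))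
theorem f269637 : Led Lsl_et (LP (LK LD1_c15 LD2_c23 LD3_c35)) = (LP (LK LD1_c8 LD2_c10 LD3_c28)) :=
  Lre_e IH (LK LD1_c15 LD2_c23 LD3_c35) (LK LD1_c8 LD2_c10 LD3_c28) Lrfl Lrfl
theorem f337277 : Led Lsl_et (LP (LK LD1_c8 LD2_c40 LD3_c36)) = (LP (LK LD1_c16 LD2_c14 LD3_c60)) :=
  Lre_e IH (LK LD1_c8 LD2_c40 LD3_c36) (LK LD1_c16 LD2_c14 LD3_c60) Lrfl Lrfl
theorem f337278 : Led Lsl_af (LP (LK LD1_c15 LD2_c23 LD3_c35)) = (LP (LK LD1_c16 LD2_c14 LD3_c60)) :=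
  Lgr Lrot50 (Lpr_et (f269637 IH) (Lpr_at (K22.f337269 IH) (Lpr_et (f337277 IH) (Lpn (LP (LK LD1_c16 LD2_c14 LD3_c60))))))
theorem f337284 : Led Lsl_ft (LP (LK LD1_c26 LD2_c12 LD3_c26)) = (LP (LK LD1_c16 LD2_c14 LD3_c60)) :=
  Lre_f IH (LK LD1_c26 LD2_c12 LD3_c26) (LK LD1_c16 LD2_c14 LD3_c60) Lrfl Lrfl
theorem f337285 : Led Lsl_at (LP (LK LD1_c25 LD2_c15 LD3_c57)) = (LP (LK LD1_c26 LD2_c12 LD3_c26)) :=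
  Lgr Lrot66 (Lpe (f337263 IH) (Lpr_af (f337278 IH) (Lpe (f337284 IH) (Lpn (LP (LK LD1_c26 LD2_c12 LD3_c26))))))
theorem f337287 : Led Lsl_af (LP (LK LD1_c25 LD2_c15 LD3_c57)) = (LP (LK LD1_c26 LD2_c12 LD3_c26)) :=
  Lgr Lrot0 (Lpr_at (f337285 IH) (Lpn (LP (LK LD1_c26 LD2_c12 LD3_c26))))
theorem f346654 : Led Lsl_ef (LP (LK LD1_c26 LD2_c12 LD3_c26)) = (LP (LK LD1_c25 LD2_c15 LD3_c49)) :=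
  Lgr Lrot20 (Lpe (f337287 IH) (Lpr_et (f337265 IH) (Lpr_at (f346648 IH) (Lpn (LP (LK LD1_c25 LD2_c15 LD3_c49))))))
theorem f239099 : Led Lsl_et (LP (LK LD1_c16 LD2_c14 LD3_c60)) = (LP (LK LD1_c8 LD2_c40 LD3_c36)) :=
  Lre_e IH (LK LD1_c16 LD2_c14 LD3_c60) (LK LD1_c8 LD2_c40 LD3_c36) Lrfl Lrfl
theorem f346661 : Led Lsl_ft (LP (LK LD1_c15 LD2_c23 LD3_c30)) = (LP (LK LD1_c25 LD2_c15 LD3_c49)) :=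
  Lre_f IH (LK LD1_c15 LD2_c23 LD3_c30) (LK LD1_c25 LD2_c15 LD3_c49) Lrfl Lrfl
theorem f197716 : Led Lsl_et (LP (LK LD1_c8 LD2_c10 LD3_c22)) = (LP (LK LD1_c15 LD2_c23 LD3_c30)) :=
  Lre_e IH (LK LD1_c8 LD2_c10 LD3_c22) (LK LD1_c15 LD2_c23 LD3_c30) Lrfl Lrfl
theorem f346662 : Led Lsl_ft (LP (LK LD1_c8 LD2_c40 LD3_c36)) = (LP (LK LD1_c8 LD2_c10 LD3_c22)) :=
  Lgr Lrot86 (Lpe (f239099 IH) (Lpe (f337284 IH) (Lpr_ef (f346654 IH) (Lpe (f346661 IH) (Lpe (f197716 IH) (Lpn (LP (LK LD1_c8 LD2_c10 LD3_c22))))))))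
theorem f346670 : Led Lsl_ff (LP (LK LD1_c8 LD2_c40 LD3_c36)) = (LP (LK LD1_c8 LD2_c10 LD3_c22)) :=
  Lgr Lrot3 (Lpr_ft (f346662 IH) (Lpn (LP (LK LD1_c8 LD2_c10 LD3_c22))))
theorem f346674 : Led Lsl_ft (LP (LK LD1_c4 LD2_c22 LD3_c57)) = (LP (LK LD1_c4 LD2_c22 LD3_c28)) :=
  Lgr Lrot4 (Lpr_cf (K13.f239095 IH) (Lpr_ff (f346670 IH) (Lpr_cf (K13.f238805 IH) (Lpn (LP (LK LD1_c4 LD2_c22 LD3_c28))))))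
theorem f346682 : Led Lsl_af (LP (LK LD1_c4 LD2_c22 LD3_c56)) = (LP (LK LD1_c4 LD2_c22 LD3_c28)) :=
  Lgr Lrot31 (Lpe (K13.f193691 IH) (Lpe (K13.f181783 IH) (Lpr_ft (f346674 IH) (Lpn (LP (LK LD1_c4 LD2_c22 LD3_c28))))))
theorem f237253 : Led Lsl_et (LP (LK LD1_c4 LD2_c22 LD3_c56)) = (LP (LK LD1_c8 LD2_c43 LD3_c43)) :=
  Lre_e IH (LK LD1_c4 LD2_c22 LD3_c56) (LK LD1_c8 LD2_c43 LD3_c43) Lrfl Lrfl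
theorem f238817 : Led Lsl_et (LP (LK LD1_c8 LD2_c42 LD3_c51)) = (LP (LK LD1_c4 LD2_c22 LD3_c28)) :=
  Lre_e IH (LK LD1_c8 LD2_c42 LD3_c51) (LK LD1_c4 LD2_c22 LD3_c28) Lrfl Lrfl
theorem f346688 : Led Lsl_at (LP (LK LD1_c8 LD2_c43 LD3_c43)) = (LP (LK LD1_c8 LD2_c42 LD3_c51)) :=
  Lgr Lrot80 (Lpe (f237253 IH) (Lpr_af (f346682 IH) (Lpe (f238817 IH) (Lpn (LP (LK LD1_c8 LD2_c42 LD3_c51))))))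
theorem f196979 : Led Lsl_et (LP (LK LD1_c5 LD2_c39 LD3_c22)) = (LP (LK LD1_c11 LD2_c9 LD3_c47)) :=
  Lre_e IH (LK LD1_c5 LD2_c39 LD3_c22) (LK LD1_c11 LD2_c9 LD3_c47) Lrfl Lrfl
theorem f237249 : Led Lsl_et (LP (LK LD1_c8 LD2_c43 LD3_c43)) = (LP (LK LD1_c4 LD2_c22 LD3_c56)) :=
  Lre_e IH (LK LD1_c8 LD2_c43 LD3_c43) (LK LD1_c4 LD2_c22 LD3_c56) Lrfl Lrfl
theorem f238940 : Led Lsl_ct (LP (LK LD1_c11 LD2_c9 LD3_c47)) = (LP (LK LD1_c8 LD2_c43 LD3_c43)) :=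
  Lgr Lrot15 (Lpe (f196979 IH) (Lpr_cf (K13.f238919 IH) (Lpe (f237249 IH) (Lpn (LP (LK LD1_c8 LD2_c43 LD3_c43))))))
theorem f346692 : Led Lsl_cf (LP (LK LD1_c15 LD2_c23 LD3_c30)) = (LP (LK LD1_c8 LD2_c42 LD3_c51)) :=
  Lgr Lrot1 (Lpe (f346638 IH) (Lpr_ct (f238940 IH) (Lpr_at (f346688 IH) (Lpn (LP (LK LD1_c8 LD2_c42 LD3_c51))))))
theorem f346705 : Led Lsl_ft (LP (LK LD1_c16 LD2_c19 LD3_c25)) = (LP (LK LD1_c8 LD2_c42 LD3_c51)) :=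
  Lre_f IH (LK LD1_c16 LD2_c19 LD3_c25) (LK LD1_c8 LD2_c42 LD3_c51) Lrfl Lrfl
theorem f346708 : Led Lsl_ct (LP (LK LD1_c25 LD2_c15 LD3_c49)) = (LP (LK LD1_c16 LD2_c19 LD3_c25)) :=
  Lgr Lrot40 (Lpe (f346661 IH) (Lpr_cf (f346692 IH) (Lpe (f346705 IH) (Lpn (LP (LK LD1_c16 LD2_c19 LD3_c25))))))
theorem f346659 : Led Lsl_et (LP (LK LD1_c26 LD2_c12 LD3_c26)) = (LP (LK LD1_c25 LD2_c15 LD3_c49)) :=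
  Lgr Lrot87 (Lpr_ef (f346654 IH) (Lpn (LP (LK LD1_c25 LD2_c15 LD3_c49))))
theorem f239104 : Led Lsl_et (LP (LK LD1_c8 LD2_c43 LD3_c44)) = (LP (LK LD1_c4 LD2_c22 LD3_c57)) :=
  Lre_e IH (LK LD1_c8 LD2_c43 LD3_c44) (LK LD1_c4 LD2_c22 LD3_c57) Lrfl Lrfl
theorem f346678 : Led Lsl_ft (LP (LK LD1_c16 LD2_c20 LD3_c48)) = (LP (LK LD1_c8 LD2_c43 LD3_c44)) :=
  Lre_f IH (LK LD1_c16 LD2_c20 LD3_c48) (LK LD1_c8 LD2_c43 LD3_c44) Lrfl Lrfl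
theorem f229302 : Led Lsl_et (LP (LK LD1_c4 LD2_c22 LD3_c28)) = (LP (LK LD1_c8 LD2_c42 LD3_c51)) :=
  Lre_e IH (LK LD1_c4 LD2_c22 LD3_c28) (LK LD1_c8 LD2_c42 LD3_c51) Lrfl Lrfl
theorem f346679 : Led Lsl_ft (LP (LK LD1_c8 LD2_c42 LD3_c51)) = (LP (LK LD1_c16 LD2_c19 LD3_c25)) :=
  Lre_f IH (LK LD1_c8 LD2_c42 LD3_c51) (LK LD1_c16 LD2_c19 LD3_c25) Lrfl Lrfl
theorem f346680 : Led Lsl_ef (LP (LK LD1_c16 LD2_c20 LD3_c48)) = (LP (LK LD1_c16 LD2_c19 LD3_c25)) :=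
  Lgr Lrot21 (Lpr_ft (f346678 IH) (Lpr_et (f239104 IH) (Lpr_ft (f346674 IH) (Lpr_et (f229302 IH) (Lpr_ft (f346679 IH) (Lpn (LP (LK LD1_c16 LD2_c19 LD3_c25))))))))
theorem f346714 : Led Lsl_cf (LP (LK LD1_c26 LD2_c12 LD3_c26)) = (LP (LK LD1_c16 LD2_c20 LD3_c48)) :=
  Lgr Lrot39 (Lpr_et (f346659 IH) (Lpr_ct (f346708 IH) (Lpe (f346680 IH) (Lpn (LP (LK LD1_c16 LD2_c20 LD3_c48))))))
theorem f346720 : Led Lsl_ft (LP (LK LD1_c8 LD2_c43 LD3_c44)) = (LP (LK LD1_c16 LD2_c20 LD3_c48)) :=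
  Lre_f IH (LK LD1_c8 LD2_c43 LD3_c44) (LK LD1_c16 LD2_c20 LD3_c48) Lrfl Lrfl
theorem f346721 : Led Lsl_ct (LP (LK LD1_c16 LD2_c14 LD3_c60)) = (LP (LK LD1_c8 LD2_c43 LD3_c44)) :=
  Lgr Lrot40 (Lpe (f337284 IH) (Lpr_cf (f346714 IH) (Lpe (f346720 IH) (Lpn (LP (LK LD1_c8 LD2_c43 LD3_c44))))))
theorem f346725 : Led Lsl_cf (LP (LK LD1_c16 LD2_c14 LD3_c60)) = (LP (LK LD1_c8 LD2_c43 LD3_c44)) :=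
  Lgr Lrot11 (Lpr_ct (f346721 IH) (Lpn (LP (LK LD1_c8 LD2_c43 LD3_c44))))
theorem f272916 : Led Lsl_ct (LP (LK LD1_c15 LD2_c23 LD3_c35)) = (LP (LK LD1_c8 LD2_c10 LD3_c29)) :=
  Lre_c IH (LK LD1_c15 LD2_c23 LD3_c35) (LK LD1_c8 LD2_c10 LD3_c29) Lrfl Lrfl
theorem f346727 : Led Lsl_at (LP (LK LD1_c8 LD2_c10 LD3_c29)) = (LP (LK LD1_c8 LD2_c43 LD3_c44)) :=
  Lgr Lrot107 (Lpe (f272916 IH) (Lpr_af (f337278 IH) (Lpr_cf (f346725 IH) (Lpn (LP (LK LD1_c8 LD2_c43 LD3_c44))))))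
theorem f346730 : Led Lsl_ft (LP (LK LD1_c15 LD2_c23 LD3_c37)) = (LP (LK LD1_c8 LD2_c10 LD3_c29)) :=
  Lre_f IH (LK LD1_c15 LD2_c23 LD3_c37) (LK LD1_c8 LD2_c10 LD3_c29) Lrfl Lrfl
theorem f346731 : Led Lsl_af (LP (LK LD1_c15 LD2_c23 LD3_c37)) = (LP (LK LD1_c16 LD2_c20 LD3_c48)) :=
  Lgr Lrot45 (Lpr_ft (f346730 IH) (Lpr_at (f346727 IH) (Lpr_ft (f346720 IH) (Lpn (LP (LK LD1_c16 LD2_c20 LD3_c48))))))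
theorem f239226 : Led Lsl_ft (LP (LK LD1_c16 LD2_c20 LD3_c46)) = (LP (LK LD1_c8 LD2_c43 LD3_c43)) :=
  Lre_f IH (LK LD1_c16 LD2_c20 LD3_c46) (LK LD1_c8 LD2_c43 LD3_c43) Lrfl Lrfl
theorem f346694 : Led Lsl_af (LP (LK LD1_c16 LD2_c20 LD3_c46)) = (LP (LK LD1_c16 LD2_c19 LD3_c25)) :=
  Lgr Lrot45 (Lpr_ft (f239226 IH) (Lpr_at (f346688 IH) (Lpr_ft (f346679 IH) (Lpn (LP (LK LD1_c16 LD2_c19 LD3_c25))))))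
theorem f346701 : Led Lsl_at (LP (LK LD1_c16 LD2_c20 LD3_c46)) = (LP (LK LD1_c16 LD2_c19 LD3_c25)) :=
  Lgr Lrot100 (Lpr_af (f346694 IH) (Lpn (LP (LK LD1_c16 LD2_c19 LD3_c25))))
theorem f346737 : Led Lsl_et (LP (LK LD1_c15 LD2_c23 LD3_c37)) = (LP (LK LD1_c16 LD2_c20 LD3_c46)) :=
  Lgr Lrot123 (Lpr_af (f346731 IH) (Lpr_ef (f346680 IH) (Lpe (f346701 IH) (Lpn (LP (LK LD1_c16 LD2_c20 LD3_c46))))))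
theorem f346745 : Led Lsl_ft (LP (LK LD1_c8 LD2_c10 LD3_c29)) = (LP (LK LD1_c15 LD2_c23 LD3_c37)) :=
  Lre_f IH (LK LD1_c8 LD2_c10 LD3_c29) (LK LD1_c15 LD2_c23 LD3_c37) Lrfl Lrfl
theorem f53115 : Led Lsl_et (LP (LK LD1_c4 LD2_c4 LD3_c49)) = (LP (LK LD1_c8 LD2_c10 LD3_c29)) :=
  Lre_e IH (LK LD1_c4 LD2_c4 LD3_c49) (LK LD1_c8 LD2_c10 LD3_c29) Lrfl Lrfl
theorem f346746 : Led Lsl_ff (LP (LK LD1_c4 LD2_c4 LD3_c49)) = (LP (LK LD1_c4 LD2_c22 LD3_c56)) :=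
  Lgr Lrot72 (Lpr_et (f53115 IH) (Lpr_ft (f346745 IH) (Lpr_et (f346737 IH) (Lpr_ft (f239226 IH) (Lpr_et (f237249 IH) (Lpn (LP (LK LD1_c4 LD2_c22 LD3_c56))))))))
theorem f53121 : Led Lsl_dt (LP (LK LD1_c4 LD2_c4 LD3_c49)) = (LP (LK LD1_c1 LD2_c59 LD3_c27)) :=
  Lre_d IH (LK LD1_c4 LD2_c4 LD3_c49) (LK LD1_c1 LD2_c59 LD3_c27) Lrfl Lrfl
theorem f346752 : Led Lsl_ft (LP (LK LD1_c1 LD2_c59 LD3_c27)) = (LP (LK LD1_c2 LD2_c26 LD3_c3)) :=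
  Lgr Lrot54 (Lpe (f53121 IH) (Lpr_ff (f346746 IH) (Lpr_df (K13.f237247 IH) (Lpn (LP (LK LD1_c2 LD2_c26 LD3_c3))))))
theorem f346760 : Led Lsl_ff (LP (LK LD1_c1 LD2_c59 LD3_c27)) = (LP (LK LD1_c2 LD2_c26 LD3_c3)) :=
  Lgr Lrot3 (Lpr_ft (f346752 IH) (Lpn (LP (LK LD1_c2 LD2_c26 LD3_c3))))
theorem f346768 : Led Lsl_at (LP (LK LD1_c1 LD2_c59 LD3_c27)) = (LP (LK LD1_c2 LD2_c26 LD3_c2)) :=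
  Lgr Lrot26 (Lpr_ff (f346760 IH) (Lpe (K11.f211123 IH) (Lpe (K20.f255126 IH) (Lpn (LP (LK LD1_c2 LD2_c26 LD3_c2))))))
theorem f346772 : Led Lsl_af (LP (LK LD1_c3 LD2_c59 LD3_c58)) = (LP (LK LD1_c2 LD2_c24 LD3_c44)) :=
  Lgr Lrot50 (Lpe (K12.f53107 IH) (Lpr_at (f346768 IH) (Lpe (K13.f211228 IH) (Lpn (LP (LK LD1_c2 LD2_c24 LD3_c44))))))
theorem f239246 : Led Lsl_dt (LP (LK LD1_c4 LD2_c20 LD3_c41)) = (LP (LK LD1_c2 LD2_c24 LD3_c44)) :=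
  Lgr Lrot105 (Lpe (K13.f31790 IH) (Lpe (K13.f31843 IH) (Lpe (K13.f28657 IH) (Lpr_cf (K13.f239240 IH) (Lpr_gt (K12.f31537 IH) (Lpr_dt (K11.f31045 IH) (Lpr_gt (K9.f31053 IH) (Lpr_dt (K11.f31054 IH) (Lpe (K13.f190229 IH) (Lpn (LP (LK LD1_c2 LD2_c24 LD3_c44))))))))))))
theorem f346778 : Led Lsl_at (LP (LK LD1_c4 LD2_c20 LD3_c15)) = (LP (LK LD1_c4 LD2_c20 LD3_c41)) :=
  Lgr Lrot51 (Lpr_df (K12.f225010 IH) (Lpr_af (f346772 IH) (Lpe (f239246 IH) (Lpn (LP (LK LD1_c4 LD2_c20 LD3_c41))))))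
theorem f346787 : Led Lsl_ff (LP (LK LD1_c4 LD2_c20 LD3_c15)) = (LP (LK LD1_c4 LD2_c20 LD3_c42)) :=
  Lgr Lrot52 (Lpr_at (f346778 IH) (Lpe (K13.f31790 IH) (Lpe (K13.f28654 IH) (Lpn (LP (LK LD1_c4 LD2_c20 LD3_c42))))))
theorem f346794 : Led Lsl_ft (LP (LK LD1_c4 LD2_c20 LD3_c15)) = (LP (LK LD1_c4 LD2_c20 LD3_c42)) :=
  Lgr Lrot48 (Lpr_ff (f346787 IH) (Lpn (LP (LK LD1_c4 LD2_c20 LD3_c42))))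
theorem f346796 : Led Lsl_ff (LP (LK LD1_c6 LD2_c7 LD3_c13)) = (LP (LK LD1_c8 LD2_c14 LD3_c7)) :=
  Lgr Lrot23 (Lpe (K13.f240710 IH) (Lpr_ft (f346794 IH) (Lpe (K15.f231527 IH) (Lpn (LP (LK LD1_c8 LD2_c14 LD3_c7))))))
theorem f346934 : Led Lsl_at (LP (LK LD1_c6 LD2_c7 LD3_c13)) = (LP (LK LD1_c8 LD2_c38 LD3_c37)) :=
  Lgr Lrot26 (Lpr_ff (f346796 IH) (Lpr_gt (K13.f231475 IH) (Lpe (K13.f239297 IH) (Lpn (LP (LK LD1_c8 LD2_c38 LD3_c37))))))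
theorem f191296 : Led Lsl_et (LP (LK LD1_c11 LD2_c57 LD3_c18)) = (LP (LK LD1_c6 LD2_c7 LD3_c13)) :=
  Lre_e IH (LK LD1_c11 LD2_c57 LD3_c18) (LK LD1_c6 LD2_c7 LD3_c13) Lrfl Lrfl
theorem f240677 : Led Lsl_et (LP (LK LD1_c8 LD2_c38 LD3_c37)) = (LP (LK LD1_c16 LD2_c11 LD3_c18)) :=
  Lre_e IH (LK LD1_c8 LD2_c38 LD3_c37) (LK LD1_c16 LD2_c11 LD3_c18) Lrfl Lrfl
theorem f346939 : Led Lsl_af (LP (LK LD1_c11 LD2_c57 LD3_c18)) = (LP (LK LD1_c16 LD2_c11 LD3_c18)) :=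
  Lgr Lrot50 (Lpr_et (f191296 IH) (Lpr_at (f346934 IH) (Lpr_et (f240677 IH) (Lpn (LP (LK LD1_c16 LD2_c11 LD3_c18))))))
theorem f191297 : Led Lsl_dt (LP (LK LD1_c11 LD2_c57 LD3_c18)) = (LP (LK LD1_c21 LD2_c2 LD3_c22)) :=
  Lre_d IH (LK LD1_c11 LD2_c57 LD3_c18) (LK LD1_c21 LD2_c2 LD3_c22) Lrfl Lrfl
theorem f240675 : Led Lsl_dt (LP (LK LD1_c26 LD2_c8 LD3_c2)) = (LP (LK LD1_c16 LD2_c11 LD3_c18)) :=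
  Lre_d IH (LK LD1_c26 LD2_c8 LD3_c2) (LK LD1_c16 LD2_c11 LD3_c18) Lrfl Lrfl
theorem f346946 : Led Lsl_at (LP (LK LD1_c21 LD2_c2 LD3_c22)) = (LP (LK LD1_c26 LD2_c8 LD3_c2)) :=
  Lgr Lrot51 (Lpe (f191297 IH) (Lpr_af (f346939 IH) (Lpe (f240675 IH) (Lpn (LP (LK LD1_c26 LD2_c8 LD3_c2))))))
theorem f279720 : Led Lsl_et (LP (LK LD1_c11 LD2_c57 LD3_c20)) = (LP (LK LD1_c21 LD2_c2 LD3_c22)) :=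
  Lre_e IH (LK LD1_c11 LD2_c57 LD3_c20) (LK LD1_c21 LD2_c2 LD3_c22) Lrfl Lrfl
theorem f316869 : Led Lsl_et (LP (LK LD1_c26 LD2_c8 LD3_c2)) = (LP (LK LD1_c16 LD2_c11 LD3_c19)) :=
  Lre_e IH (LK LD1_c26 LD2_c8 LD3_c2) (LK LD1_c16 LD2_c11 LD3_c19) Lrfl Lrfl
theorem f346952 : Led Lsl_af (LP (LK LD1_c11 LD2_c57 LD3_c20)) = (LP (LK LD1_c16 LD2_c11 LD3_c19)) :=
  Lgr Lrot50 (Lpr_et (f279720 IH) (Lpr_at (f346946 IH) (Lpr_et (f316869 IH) (Lpn (LP (LK LD1_c16 LD2_c11 LD3_c19))))))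
theorem f346956 : Led Lsl_at (LP (LK LD1_c11 LD2_c57 LD3_c20)) = (LP (LK LD1_c16 LD2_c11 LD3_c19)) :=
  Lgr Lrot100 (Lpr_af (f346952 IH) (Lpn (LP (LK LD1_c16 LD2_c11 LD3_c19))))
theorem f314274 : Led Lsl_ft (LP (LK LD1_c21 LD2_c2 LD3_c29)) = (LP (LK LD1_c11 LD2_c57 LD3_c20)) :=
  Lre_f IH (LK LD1_c21 LD2_c2 LD3_c29) (LK LD1_c11 LD2_c57 LD3_c20) Lrfl Lrfl
theorem f314199 : Led Lsl_dt (LP (LK LD1_c11 LD2_c3 LD3_c24)) = (LP (LK LD1_c19 LD2_c55 LD3_c20)) :=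
  Lre_d IH (LK LD1_c11 LD2_c3 LD3_c24) (LK LD1_c19 LD2_c55 LD3_c20) Lrfl Lrfl
theorem f314258 : Led Lsl_dt (LP (LK LD1_c21 LD2_c2 LD3_c29)) = (LP (LK LD1_c11 LD2_c57 LD3_c21)) :=
  Lre_d IH (LK LD1_c21 LD2_c2 LD3_c29) (LK LD1_c11 LD2_c57 LD3_c21) Lrfl Lrfl
theorem f322805 : Led Lsl_at (LP (LK LD1_c19 LD2_c55 LD3_c20)) = (LP (LK LD1_c21 LD2_c2 LD3_c29)) :=
  Lgr Lrot51 (Lpe (f314199 IH) (Lpr_af (K20.f322799 IH) (Lpe (f314258 IH) (Lpn (LP (LK LD1_c21 LD2_c2 LD3_c29))))))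
theorem f346967 : Led Lsl_ff (LP (LK LD1_c19 LD2_c55 LD3_c20)) = (LP (LK LD1_c16 LD2_c11 LD3_c19)) :=
  Lgr Lrot30 (Lpr_at (f322805 IH) (Lpr_ft (f314274 IH) (Lpr_at (f346956 IH) (Lpn (LP (LK LD1_c16 LD2_c11 LD3_c19))))))
theorem f346973 : Led Lsl_gf (LP (LK LD1_c21 LD2_c2 LD3_c29)) = (LP (LK LD1_c26 LD2_c8 LD3_c3)) :=
  Lgr Lrot76 (Lpe (f322805 IH) (Lpr_ff (f346967 IH) (Lpr_gt (f316845 IH) (Lpn (LP (LK LD1_c26 LD2_c8 LD3_c3))))))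
theorem f314257 : Led Lsl_ct (LP (LK LD1_c11 LD2_c57 LD3_c21)) = (LP (LK LD1_c6 LD2_c7 LD3_c16)) :=
  Lre_c IH (LK LD1_c11 LD2_c57 LD3_c21) (LK LD1_c6 LD2_c7 LD3_c16) Lrfl Lrfl
theorem f29656 : Led Lsl_et (LP (LK LD1_c4 LD2_c0 LD3_c17)) = (LP (LK LD1_c1 LD2_c56 LD3_c55)) :=
  Lre_e IH (LK LD1_c4 LD2_c0 LD3_c17) (LK LD1_c1 LD2_c56 LD3_c55) Lrfl Lrfl
theorem f171717 : Led Lsl_bt (LP (LK LD1_c4 LD2_c19 LD3_c1)) = (LP (LK LD1_c2 LD2_c6 LD3_c50)) :=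
  Lre_b IH (LK LD1_c4 LD2_c19 LD3_c1) (LK LD1_c2 LD2_c6 LD3_c50) Lrfl Lrfl
theorem f171726 : Led Lsl_ef (LP (LK LD1_c4 LD2_c19 LD3_c1)) = (LP (LK LD1_c4 LD2_c12 LD3_c48)) :=
  Lgr Lrot29 (Lpr_bt (f171717 IH) (Lpr_et (K19.f171723 IH) (Lpr_bt (K21.f171725 IH) (Lpn (LP (LK LD1_c4 LD2_c12 LD3_c48))))))
theorem f327708 : Led Lsl_gt (LP (LK LD1_c3 LD2_c57 LD3_c15)) = (LP (LK LD1_c4 LD2_c19 LD3_c1)) :=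
  Lgr Lrot131 (Lpe (K17.f196322 IH) (Lpr_dt (K12.f196318 IH) (Lpe (K10.f196316 IH) (Lpe (K1.f28940 IH) (Lpe (K9.f29652 IH) (Lpe (f29656 IH) (Lpr_dt (K12.f33204 IH) (Lpe (K21.f33226 IH) (Lpr_df (K21.f327653 IH) (Lpe (f171726 IH) (Lpn (LP (LK LD1_c4 LD2_c19 LD3_c1)))))))))))))
theorem f1574 : Led Lsl_et (LP (LK LD1_c4 LD2_c50 LD3_c57)) = (LP (LK LD1_c2 LD2_c23 LD3_c17)) :=
  Lre_e IH (LK LD1_c4 LD2_c50 LD3_c57) (LK LD1_c2 LD2_c23 LD3_c17) Lrfl Lrfl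
theorem f33973 : Led Lsl_gt (LP (LK LD1_c5 LD2_c1 LD3_c13)) = (LP (LK LD1_c2 LD2_c28 LD3_c20)) :=
  Lre_g IH (LK LD1_c5 LD2_c1 LD3_c13) (LK LD1_c2 LD2_c28 LD3_c20) Lrfl Lrfl
theorem f327714 : Led Lsl_df (LP (LK LD1_c5 LD2_c1 LD3_c13)) = (LP (LK LD1_c4 LD2_c19 LD3_c1)) :=
  Lgr Lrot135 (Lpr_gt (f33973 IH) (Lpe (K16.f33328 IH) (Lpr_et (f1574 IH) (Lpr_gt (K9.f1612 IH) (Lpr_ef (K13.f28759 IH) (Lpr_dt (K1.f28940 IH) (Lpr_gt (K10.f196316 IH) (Lpe (K12.f196318 IH) (Lpr_et (K17.f196322 IH) (Lpr_gt (f327708 IH) (Lpn (LP (LK LD1_c4 LD2_c19 LD3_c1)))))))))))))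
theorem f327718 : Led Lsl_dt (LP (LK LD1_c5 LD2_c1 LD3_c13)) = (LP (LK LD1_c4 LD2_c19 LD3_c1)) :=
  Lgr Lrot42 (Lpr_df (f327714 IH) (Lpn (LP (LK LD1_c4 LD2_c19 LD3_c1))))
theorem f327720 : Led Lsl_et (LP (LK LD1_c5 LD2_c1 LD3_c13)) = (LP (LK LD1_c9 LD2_c52 LD3_c56)) :=
  Lre_e IH (LK LD1_c5 LD2_c1 LD3_c13) (LK LD1_c9 LD2_c52 LD3_c56) Lrfl Lrfl
theorem f196340 : Led Lsl_et (LP (LK LD1_c3 LD2_c57 LD3_c15)) = (LP (LK LD1_c1 LD2_c55 LD3_c22)) :=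
  Lre_e IH (LK LD1_c3 LD2_c57 LD3_c15) (LK LD1_c1 LD2_c55 LD3_c22) Lrfl Lrfl
theorem f196341 : Led Lsl_dt (LP (LK LD1_c2 LD2_c31 LD3_c43)) = (LP (LK LD1_c3 LD2_c57 LD3_c15)) :=
  Lgr Lrot77 (Lpe (f196338 IH) (Lpr_df (K10.f196331 IH) (Lpe (K11.f196339 IH) (Lpe (K12.f196318 IH) (Lpe (f196340 IH) (Lpn (LP (LK LD1_c3 LD2_c57 LD3_c15))))))))
theorem f22007 : Led Lsl_et (LP (LK LD1_c2 LD2_c31 LD3_c43)) = (LP (LK LD1_c1 LD2_c12 LD3_c55)) :=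
  Lre_e IH (LK LD1_c2 LD2_c31 LD3_c43) (LK LD1_c1 LD2_c12 LD3_c55) Lrfl Lrfl
theorem f327767 : Led Lsl_gt (LP (LK LD1_c9 LD2_c52 LD3_c56)) = (LP (LK LD1_c9 LD2_c54 LD3_c48)) :=
  Lgr Lrot137 (Lpe (f327720 IH) (Lpr_dt (f327718 IH) (Lpe (f327708 IH) (Lpe (f196341 IH) (Lpr_et (f22007 IH) (Lpe (K10.f34000 IH) (Lpe (K0.f33612 IH) (Lpr_dt (K0.f33613 IH) (Lpr_gf (K13.f33939 IH) (Lpe (K13.f33935 IH) (Lpn (LP (LK LD1_c9 LD2_c54 LD3_c48)))))))))))))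
theorem f33264 : Led Lsl_et (LP (LK LD1_c10 LD2_c7 LD3_c53)) = (LP (LK LD1_c5 LD2_c8 LD3_c41)) :=
  Lre_e IH (LK LD1_c10 LD2_c7 LD3_c53) (LK LD1_c5 LD2_c8 LD3_c41) Lrfl Lrfl
theorem f327721 : Led Lsl_dt (LP (LK LD1_c9 LD2_c52 LD3_c56)) = (LP (LK LD1_c10 LD2_c7 LD3_c53)) :=
  Lgr Lrot77 (Lpe (f327720 IH) (Lpr_df (f327714 IH) (Lpr_ef (f171726 IH) (Lpe (K22.f327702 IH) (Lpe (f33264 IH) (Lpn (LP (LK LD1_c10 LD2_c7 LD3_c53))))))))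
theorem f327727 : Led Lsl_df (LP (LK LD1_c9 LD2_c52 LD3_c56)) = (LP (LK LD1_c10 LD2_c7 LD3_c53)) :=
  Lgr Lrot38 (Lpr_dt (f327721 IH) (Lpn (LP (LK LD1_c10 LD2_c7 LD3_c53))))
theorem f279349 : Led Lsl_ef (LP (LK LD1_c8 LD2_c4 LD3_c2)) = (LP (LK LD1_c5 LD2_c8 LD3_c54)) :=
  Lgr Lrot29 (Lpr_bt (K22.f279348 IH) (Lpr_et (K16.f279346 IH) (Lpr_bt (K14.f239904 IH) (Lpn (LP (LK LD1_c5 LD2_c8 LD3_c54))))))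
theorem f327769 : Led Lsl_gf (LP (LK LD1_c18 LD2_c3 LD3_c40)) = (LP (LK LD1_c9 LD2_c54 LD3_c49)) :=
  Lgr Lrot138 (Lpe (K16.f246894 IH) (Lpe (K14.f239838 IH) (Lpe (K13.f239848 IH) (Lpe (f279349 IH) (Lpr_gt (K22.f279392 IH) (Lpe (f33264 IH) (Lpe (f327727 IH) (Lpr_gt (f327767 IH) (Lpe (f33931 IH) (Lpr_et (K13.f239538 IH) (Lpn (LP (LK LD1_c9 LD2_c54 LD3_c49)))))))))))))
theorem f33974 : Led Lsl_et (LP (LK LD1_c9 LD2_c52 LD3_c56)) = (LP (LK LD1_c5 LD2_c1 LD3_c13)) :=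
  Lre_e IH (LK LD1_c9 LD2_c52 LD3_c56) (LK LD1_c5 LD2_c1 LD3_c13) Lrfl Lrfl
theorem f327729 : Led Lsl_gt (LP (LK LD1_c10 LD2_c9 LD3_c34)) = (LP (LK LD1_c10 LD2_c7 LD3_c53)) :=
  Lgr Lrot112 (Lpe (f33964 IH) (Lpr_et (K19.f193254 IH) (Lpe (K22.f314630 IH) (Lpe (K22.f240359 IH) (Lpr_dt (K22.f314610 IH) (Lpe (K22.f170469 IH) (Lpr_df (K22.f170534 IH) (Lpe (f33973 IH) (Lpe (f33974 IH) (Lpr_dt (f327721 IH) (Lpn (LP (LK LD1_c10 LD2_c7 LD3_c53)))))))))))))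
theorem f246904 : Led Lsl_dt (LP (LK LD1_c10 LD2_c7 LD3_c30)) = (LP (LK LD1_c15 LD2_c3 LD3_c24)) :=
  Lgr Lrot42 (Lpr_df (K19.f246896 IH) (Lpn (LP (LK LD1_c15 LD2_c3 LD3_c24))))
theorem f327771 : Led Lsl_gt (LP (LK LD1_c11 LD2_c2 LD3_c44)) = (LP (LK LD1_c15 LD2_c3 LD3_c24)) :=
  Lgr Lrot112 (Lpr_df (K20.f246934 IH) (Lpr_et (K16.f246929 IH) (Lpr_gf (f327769 IH) (Lpe (K13.f239538 IH) (Lpr_dt (f33931 IH) (Lpe (f327767 IH) (Lpr_df (f327727 IH) (Lpe (f327729 IH) (Lpe (K19.f246906 IH) (Lpr_dt (f246904 IH) (Lpn (LP (LK LD1_c15 LD2_c3 LD3_c24)))))))))))))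
theorem f247023 : Led Lsl_ct (LP (LK LD1_c11 LD2_c2 LD3_c44)) = (LP (LK LD1_c19 LD2_c54 LD3_c8)) :=
  Lre_c IH (LK LD1_c11 LD2_c2 LD3_c44) (LK LD1_c19 LD2_c54 LD3_c8) Lrfl Lrfl
theorem f346975 : Led Lsl_gt (LP (LK LD1_c19 LD2_c54 LD3_c8)) = (LP (LK LD1_c24 LD2_c52 LD3_c27)) :=
  Lgr Lrot94 (Lpe (f247023 IH) (Lpr_gt (f327771 IH) (Lpe (K19.f246896 IH) (Lpe (K19.f314159 IH) (Lpr_dt (K22.f314189 IH) (Lpe (f314257 IH) (Lpe (f314258 IH) (Lpr_gf (f346973 IH) (Lpe (f316850 IH) (Lpn (LP (LK LD1_c24 LD2_c52 LD3_c27))))))))))))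
theorem f189154 : Led Lsl_gt (LP (LK LD1_c2 LD2_c43 LD3_c51)) = (LP (LK LD1_c1 LD2_c18 LD3_c17)) :=
  Lre_g IH (LK LD1_c2 LD2_c43 LD3_c51) (LK LD1_c1 LD2_c18 LD3_c17) Lrfl Lrfl
theorem f189193 : Led Lsl_et (LP (LK LD1_c5 LD2_c36 LD3_c0)) = (LP (LK LD1_c2 LD2_c43 LD3_c51)) :=
  Lre_e IH (LK LD1_c5 LD2_c36 LD3_c0) (LK LD1_c2 LD2_c43 LD3_c51) Lrfl Lrfl
theorem f189173 : Led Lsl_dt (LP (LK LD1_c5 LD2_c36 LD3_c0)) = (LP (LK LD1_c11 LD2_c4 LD3_c20)) :=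
  Lre_d IH (LK LD1_c5 LD2_c36 LD3_c0) (LK LD1_c11 LD2_c4 LD3_c20) Lrfl Lrfl
theorem f212889 : Led Lsl_gt (LP (LK LD1_c11 LD2_c2 LD3_c43)) = (LP (LK LD1_c11 LD2_c4 LD3_c20)) :=
  Lre_g IH (LK LD1_c11 LD2_c2 LD3_c43) (LK LD1_c11 LD2_c4 LD3_c20) Lrfl Lrfl
theorem f212890 : Led Lsl_dt (LP (LK LD1_c5 LD2_c35 LD3_c17)) = (LP (LK LD1_c11 LD2_c2 LD3_c43)) :=
  Lre_d IH (LK LD1_c5 LD2_c35 LD3_c17) (LK LD1_c11 LD2_c2 LD3_c43) Lrfl Lrfl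
theorem f332788 : Led Lsl_gf (LP (LK LD1_c11 LD2_c2 LD3_c44)) = (LP (LK LD1_c15 LD2_c22 LD3_c43)) :=
  Lgr Lrot141 (Lpe (K16.f225651 IH) (Lpr_dt (f212890 IH) (Lpr_gt (f212889 IH) (Lpe (f189173 IH) (Lpr_et (f189193 IH) (Lpr_gt (f189154 IH) (Lpr_dt (f189176 IH) (Lpr_gt (K22.f212971 IH) (Lpr_df (K22.f332780 IH) (Lpr_et (K22.f332787 IH) (Lpn (LP (LK LD1_c15 LD2_c22 LD3_c43)))))))))))))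
theorem f242278 : Led Lsl_gt (LP (LK LD1_c10 LD2_c7 LD3_c29)) = (LP (LK LD1_c18 LD2_c26 LD3_c34)) :=
  Lre_g IH (LK LD1_c10 LD2_c7 LD3_c29) (LK LD1_c18 LD2_c26 LD3_c34) Lrfl Lrfl
theorem f346979 : Led Lsl_ct (LP (LK LD1_c18 LD2_c26 LD3_c34)) = (LP (LK LD1_c10 LD2_c16 LD3_c0)) :=
  Lgr Lrot110 (Lpe (f242278 IH) (Lpe (K22.f33182 IH) (Lpe (K22.f33171 IH) (Lpr_df (K22.f337991 IH) (Lpe (f332788 IH) (Lpr_ct (f247023 IH) (Lpr_gt (f346975 IH) (Lpe (f320896 IH) (Lpe (f242394 IH) (Lpn (LP (LK LD1_c10 LD2_c16 LD3_c0))))))))))))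
theorem f314255 : Led Lsl_gf (LP (LK LD1_c18 LD2_c5 LD3_c36)) = (LP (LK LD1_c18 LD2_c26 LD3_c34)) :=
  Lgr Lrot76 (Lpr_af (f314248 IH) (Lpe (K19.f311582 IH) (Lpr_gt (f242278 IH) (Lpn (LP (LK LD1_c18 LD2_c26 LD3_c34))))))
theorem f190539 : Led Lsl_dt (LP (LK LD1_c9 LD2_c54 LD3_c5)) = (LP (LK LD1_c5 LD2_c1 LD3_c49)) :=
  Lre_d IH (LK LD1_c9 LD2_c54 LD3_c5) (LK LD1_c5 LD2_c1 LD3_c49) Lrfl Lrfl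
theorem f346983 : Led Lsl_gf (LP (LK LD1_c15 LD2_c12 LD3_c31)) = (LP (LK LD1_c10 LD2_c16 LD3_c0)) :=
  Lgr Lrot148 (Lpe (K17.f265350 IH) (Lpr_gt (K20.f314311 IH) (Lpe (K20.f242317 IH) (Lpr_ct (K14.f190531 IH) (Lpe (f190539 IH) (Lpe (K19.f3443 IH) (Lpe (K19.f314265 IH) (Lpr_gf (f314255 IH) (Lpr_ct (f346979 IH) (Lpn (LP (LK LD1_c10 LD2_c16 LD3_c0))))))))))))
theorem f259172 : Led Lsl_df (LP (LK LD1_c8 LD2_c6 LD3_c37)) = (LP (LK LD1_c5 LD2_c5 LD3_c2)) :=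
  Lgr Lrot38 (Lpr_dt (K21.f259169 IH) (Lpn (LP (LK LD1_c5 LD2_c5 LD3_c2))))
theorem f346985 : Led Lsl_gt (LP (LK LD1_c8 LD2_c6 LD3_c37)) = (LP (LK LD1_c15 LD2_c9 LD3_c2)) :=
  Lgr Lrot139 (Lpr_df (f259172 IH) (Lpr_gf (K21.f326812 IH) (Lpr_ef (K17.f293218 IH) (Lpr_dt (K17.f265355 IH) (Lpr_gf (f346983 IH) (Lpe (f320901 IH) (Lpe (f345799 IH) (Lpe (f345764 IH) (Lpr_ef (K19.f312149 IH) (Lpe (K21.f329794 IH) (Lpn (LP (LK LD1_c15 LD2_c9 LD3_c2)))))))))))))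
theorem f346991 : Led Lsl_gf (LP (LK LD1_c8 LD2_c7 LD3_c37)) = (LP (LK LD1_c10 LD2_c30 LD3_c55)) :=
  Lgr Lrot145 (Lpe (K21.f201019 IH) (Lpr_et (K21.f201029 IH) (Lpr_gt (f346985 IH) (Lpr_dt (K21.f329798 IH) (Lpr_gt (K19.f312153 IH) (Lpe (K19.f312156 IH) (Lpr_et (K22.f339656 IH) (Lpr_gt (K22.f337111 IH) (Lpe (K22.f310614 IH) (Lpe (f42421 IH) (Lpn (LP (LK LD1_c10 LD2_c30 LD3_c55)))))))))))))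
theorem f346209 : Led Lsl_ct (LP (LK LD1_c8 LD2_c6 LD3_c59)) = (LP (LK LD1_c15 LD2_c16 LD3_c59)) :=
  Lre_c IH (LK LD1_c8 LD2_c6 LD3_c59) (LK LD1_c15 LD2_c16 LD3_c59) Lrfl Lrfl
theorem f345941 : Led Lsl_gt (LP (LK LD1_c25 LD2_c10 LD3_c47)) = (LP (LK LD1_c15 LD2_c19 LD3_c42)) :=
  Lre_g IH (LK LD1_c25 LD2_c10 LD3_c47) (LK LD1_c15 LD2_c19 LD3_c42) Lrfl Lrfl
theorem f345940 : Led Lsl_dt (LP (LK LD1_c15 LD2_c19 LD3_c42)) = (LP (LK LD1_c8 LD2_c8 LD3_c25)) :=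
  Lre_d IH (LK LD1_c15 LD2_c19 LD3_c42) (LK LD1_c8 LD2_c8 LD3_c25) Lrfl Lrfl
theorem f52353 : Led Lsl_ct (LP (LK LD1_c15 LD2_c22 LD3_c0)) = (LP (LK LD1_c25 LD2_c13 LD3_c42)) :=
  Lre_c IH (LK LD1_c15 LD2_c22 LD3_c0) (LK LD1_c25 LD2_c13 LD3_c42) Lrfl Lrfl
theorem f328699 : Led Lsl_gt (LP (LK LD1_c25 LD2_c13 LD3_c42)) = (LP (LK LD1_c20 LD2_c2 LD3_c9)) :=
  Lgr Lrot94 (Lpe (f52353 IH) (Lpr_gt (K22.f328697 IH) (Lpr_dt (K15.f28003 IH) (Lpr_gt (K15.f27998 IH) (Lpr_dt (K9.f27970 IH) (Lpe (K10.f27986 IH) (Lpe (K10.f27987 IH) (Lpe (K21.f28004 IH) (Lpr_df (K21.f298392 IH) (Lpn (LP (LK LD1_c20 LD2_c2 LD3_c9))))))))))))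
theorem f52360 : Led Lsl_at (LP (LK LD1_c4 LD2_c4 LD3_c16)) = (LP (LK LD1_c4 LD2_c4 LD3_c17)) :=
  Lgr Lrot33 (Lpe (K20.f52283 IH) (Lpr_dt (K10.f52335 IH) (Lpr_ct (K10.f51022 IH) (Lpr_dt (K10.f52350 IH) (Lpr_ct (K10.f27988 IH) (Lpr_dt (K10.f27987 IH) (Lpr_ct (K10.f27986 IH) (Lpr_dt (K9.f27970 IH) (Lpr_ct (K21.f27989 IH) (Lpn (LP (LK LD1_c4 LD2_c4 LD3_c17))))))))))))
theorem f28008 : Led Lsl_gt (LP (LK LD1_c8 LD2_c9 LD3_c26)) = (LP (LK LD1_c4 LD2_c4 LD3_c17)) :=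
  Lre_g IH (LK LD1_c8 LD2_c9 LD3_c26) (LK LD1_c4 LD2_c4 LD3_c17) Lrfl Lrfl
theorem f52981 : Led Lsl_gt (LP (LK LD1_c8 LD2_c9 LD3_c24)) = (LP (LK LD1_c8 LD2_c9 LD3_c26)) :=
  Lgr Lrot5 (Lpr_ft (K20.f52283 IH) (Lpr_at (f52360 IH) (Lpe (f28008 IH) (Lpn (LP (LK LD1_c8 LD2_c9 LD3_c26))))))
theorem f328701 : Led Lsl_ct (LP (LK LD1_c8 LD2_c9 LD3_c26)) = (LP (LK LD1_c5 LD2_c38 LD3_c52)) :=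
  Lgr Lrot110 (Lpe (f52981 IH) (Lpr_cf (K10.f52332 IH) (Lpe (K15.f28075 IH) (Lpe (K15.f28016 IH) (Lpr_gt (K21.f52352 IH) (Lpr_ct (f52353 IH) (Lpr_gt (f328699 IH) (Lpr_ct (K21.f224241 IH) (Lpe (K21.f224240 IH) (Lpn (LP (LK LD1_c5 LD2_c38 LD3_c52))))))))))))
theorem f27990 : Led Lsl_dt (LP (LK LD1_c4 LD2_c4 LD3_c17)) = (LP (LK LD1_c8 LD2_c9 LD3_c27)) :=
  Lre_d IH (LK LD1_c4 LD2_c4 LD3_c17) (LK LD1_c8 LD2_c9 LD3_c27) Lrfl Lrfl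
theorem f52389 : Led Lsl_gt (LP (LK LD1_c8 LD2_c9 LD3_c27)) = (LP (LK LD1_c15 LD2_c21 LD3_c56)) :=
  Lre_g IH (LK LD1_c8 LD2_c9 LD3_c27) (LK LD1_c15 LD2_c21 LD3_c56) Lrfl Lrfl
theorem f196850 : Led Lsl_ff (LP (LK LD1_c4 LD2_c50 LD3_c46)) = (LP (LK LD1_c2 LD2_c45 LD3_c22)) :=
  Lgr Lrot25 (Lpr_bt (K19.f27568 IH) (Lpr_ft (K10.f196848 IH) (Lpr_bt (K14.f194668 IH) (Lpn (LP (LK LD1_c2 LD2_c45 LD3_c22))))))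
theorem f323688 : Led Lsl_gt (LP (LK LD1_c2 LD2_c45 LD3_c22)) = (LP (LK LD1_c4 LD2_c56 LD3_c28)) :=
  Lgr Lrot5 (Lpe (f196850 IH) (Lpr_at (K14.f27621 IH) (Lpr_gf (K21.f323556 IH) (Lpn (LP (LK LD1_c4 LD2_c56 LD3_c28))))))
theorem f169138 : Led Lsl_ct (LP (LK LD1_c9 LD2_c44 LD3_c29)) = (LP (LK LD1_c17 LD2_c53 LD3_c49)) :=
  Lre_c IH (LK LD1_c9 LD2_c44 LD3_c29) (LK LD1_c17 LD2_c53 LD3_c49) Lrfl Lrfl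
theorem f328708 : Led Lsl_dt (LP (LK LD1_c15 LD2_c21 LD3_c56)) = (LP (LK LD1_c17 LD2_c53 LD3_c49)) :=
  Lgr Lrot113 (Lpe (f52389 IH) (Lpe (f27990 IH) (Lpe (f28008 IH) (Lpr_ct (f328701 IH) (Lpr_gt (K14.f194681 IH) (Lpe (K14.f194669 IH) (Lpr_gt (f323688 IH) (Lpr_dt (K21.f323690 IH) (Lpr_ct (f169138 IH) (Lpn (LP (LK LD1_c17 LD2_c53 LD3_c49))))))))))))
theorem f328712 : Led Lsl_df (LP (LK LD1_c15 LD2_c21 LD3_c56)) = (LP (LK LD1_c17 LD2_c53 LD3_c49)) :=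
  Lgr Lrot38 (Lpr_dt (f328708 IH) (Lpn (LP (LK LD1_c17 LD2_c53 LD3_c49))))
theorem f52390 : Led Lsl_gf (LP (LK LD1_c15 LD2_c17 LD3_c30)) = (LP (LK LD1_c15 LD2_c21 LD3_c56)) :=
  Lgr Lrot76 (Lpr_af (K10.f52381 IH) (Lpe (K10.f27997 IH) (Lpr_gt (f52389 IH) (Lpn (LP (LK LD1_c15 LD2_c21 LD3_c56))))))
theorem f290920 : Led Lsl_dt (LP (LK LD1_c8 LD2_c14 LD3_c12)) = (LP (LK LD1_c15 LD2_c16 LD3_c61)) :=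
  Lgr Lrot42 (Lpr_df (K19.f290911 IH) (Lpn (LP (LK LD1_c15 LD2_c16 LD3_c61))))
theorem f323760 : Led Lsl_ct (LP (LK LD1_c18 LD2_c5 LD3_c37)) = (LP (LK LD1_c9 LD2_c53 LD3_c13)) :=
  Lre_c IH (LK LD1_c18 LD2_c5 LD3_c37) (LK LD1_c9 LD2_c53 LD3_c13) Lrfl Lrfl
theorem f323761 : Led Lsl_ef (LP (LK LD1_c18 LD2_c5 LD3_c37)) = (LP (LK LD1_c17 LD2_c53 LD3_c49)) :=
  Lgr Lrot28 (Lpr_ct (f323760 IH) (Lpr_et (K21.f323756 IH) (Lpr_ct (f169138 IH) (Lpn (LP (LK LD1_c17 LD2_c53 LD3_c49))))))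
theorem f328718 : Led Lsl_gt (LP (LK LD1_c15 LD2_c29 LD3_c47)) = (LP (LK LD1_c18 LD2_c5 LD3_c37)) :=
  Lgr Lrot131 (Lpe (K21.f233810 IH) (Lpr_dt (f290920 IH) (Lpe (K19.f290905 IH) (Lpe (K19.f30968 IH) (Lpe (K13.f30967 IH) (Lpe (K10.f52324 IH) (Lpr_dt (K10.f52335 IH) (Lpr_gf (f52390 IH) (Lpr_df (f328712 IH) (Lpe (f323761 IH) (Lpn (LP (LK LD1_c18 LD2_c5 LD3_c37)))))))))))))
theorem f346199 : Led Lsl_df (LP (LK LD1_c25 LD2_c10 LD3_c47)) = (LP (LK LD1_c18 LD2_c5 LD3_c37)) :=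
  Lgr Lrot153 (Lpr_gt (f345941 IH) (Lpr_dt (f345940 IH) (Lpe (f246108 IH) (Lpe (f237021 IH) (Lpr_gf (f346197 IH) (Lpe (K21.f259131 IH) (Lpr_gf (K15.f259133 IH) (Lpe (K21.f252998 IH) (Lpr_gt (f328718 IH) (Lpn (LP (LK LD1_c18 LD2_c5 LD3_c37))))))))))))
theorem f290917 : Led Lsl_et (LP (LK LD1_c4 LD2_c3 LD3_c14)) = (LP (LK LD1_c8 LD2_c7 LD3_c3)) :=
  Lre_e IH (LK LD1_c4 LD2_c3 LD3_c14) (LK LD1_c8 LD2_c7 LD3_c3) Lrfl Lrfl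
theorem f346237 : Led Lsl_gf (LP (LK LD1_c8 LD2_c7 LD3_c3)) = (LP (LK LD1_c15 LD2_c16 LD3_c59)) :=
  Lgr Lrot141 (Lpe (f290917 IH) (Lpr_dt (K19.f30968 IH) (Lpr_gt (K19.f290905 IH) (Lpe (f290920 IH) (Lpr_et (K21.f233810 IH) (Lpr_gt (f328718 IH) (Lpe (f346199 IH) (Lpr_gt (f345941 IH) (Lpe (f345942 IH) (Lpr_et (f346233 IH) (Lpn (LP (LK LD1_c15 LD2_c16 LD3_c59)))))))))))))
theorem f346239 : Led Lsl_ct (LP (LK LD1_c5 LD2_c35 LD3_c20)) = (LP (LK LD1_c2 LD2_c43 LD3_c36)) :=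
  Lre_c IH (LK LD1_c5 LD2_c35 LD3_c20) (LK LD1_c2 LD2_c43 LD3_c36) Lrfl Lrfl
theorem f335790 : Led Lsl_gt (LP (LK LD1_c11 LD2_c2 LD3_c50)) = (LP (LK LD1_c5 LD2_c35 LD3_c20)) :=
  Lre_g IH (LK LD1_c11 LD2_c2 LD3_c50) (LK LD1_c5 LD2_c35 LD3_c20) Lrfl Lrfl
theorem f346994 : Led Lsl_ct (LP (LK LD1_c8 LD2_c7 LD3_c37)) = (LP (LK LD1_c11 LD2_c2 LD3_c50)) :=
  Lgr Lrot152 (Lpr_gf (f346991 IH) (Lpr_df (f42421 IH) (Lpr_gt (f346214 IH) (Lpr_ct (f346209 IH) (Lpe (f346237 IH) (Lpr_ct (K20.f291093 IH) (Lpr_df (f315579 IH) (Lpe (f346239 IH) (Lpe (f335790 IH) (Lpn (LP (LK LD1_c11 LD2_c2 LD3_c50))))))))))))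
theorem f346996 : Led Lsl_cf (LP (LK LD1_c8 LD2_c7 LD3_c37)) = (LP (LK LD1_c11 LD2_c2 LD3_c50)) :=
  Lgr Lrot11 (Lpr_ct (f346994 IH) (Lpn (LP (LK LD1_c11 LD2_c2 LD3_c50))))
theorem f201031 : Led Lsl_ct (LP (LK LD1_c8 LD2_c7 LD3_c36)) = (LP (LK LD1_c4 LD2_c3 LD3_c30)) :=
  Lre_c IH (LK LD1_c8 LD2_c7 LD3_c36) (LK LD1_c4 LD2_c3 LD3_c30) Lrfl Lrfl
theorem f313192 : Led Lsl_gt (LP (LK LD1_c5 LD2_c35 LD3_c56)) = (LP (LK LD1_c11 LD2_c2 LD3_c50)) :=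
  Lre_g IH (LK LD1_c5 LD2_c35 LD3_c56) (LK LD1_c11 LD2_c2 LD3_c50) Lrfl Lrfl
theorem f313191 : Led Lsl_ct (LP (LK LD1_c2 LD2_c43 LD3_c53)) = (LP (LK LD1_c5 LD2_c35 LD3_c56)) :=
  Lre_c IH (LK LD1_c2 LD2_c43 LD3_c53) (LK LD1_c5 LD2_c35 LD3_c56) Lrfl Lrfl
theorem f313175 : Led Lsl_ct (LP (LK LD1_c1 LD2_c59 LD3_c9)) = (LP (LK LD1_c4 LD2_c4 LD3_c26)) :=
  Lre_c IH (LK LD1_c1 LD2_c59 LD3_c9) (LK LD1_c4 LD2_c4 LD3_c26) Lrfl Lrfl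
theorem f347007 : Led Lsl_gf (LP (LK LD1_c8 LD2_c7 LD3_c36)) = (LP (LK LD1_c4 LD2_c4 LD3_c26)) :=
  Lgr Lrot104 (Lpr_ct (f201031 IH) (Lpe (K21.f31196 IH) (Lpr_cf (f346996 IH) (Lpe (f313192 IH) (Lpe (f313191 IH) (Lpe (f313102 IH) (Lpr_df (K22.f313179 IH) (Lpr_gt (K21.f200709 IH) (Lpr_ct (f313175 IH) (Lpn (LP (LK LD1_c4 LD2_c4 LD3_c26))))))))))))
theorem f347006 : Led Lsl_dt (LP (LK LD1_c8 LD2_c7 LD3_c36)) = (LP (LK LD1_c15 LD2_c18 LD3_c15)) :=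
  Lre_d IH (LK LD1_c8 LD2_c7 LD3_c36) (LK LD1_c15 LD2_c18 LD3_c15) Lrfl Lrfl
theorem f314856 : Led Lsl_et (LP (LK LD1_c1 LD2_c59 LD3_c8)) = (LP (LK LD1_c4 LD2_c4 LD3_c26)) :=
  Lre_e IH (LK LD1_c1 LD2_c59 LD3_c8) (LK LD1_c4 LD2_c4 LD3_c26) Lrfl Lrfl
theorem f52311 : Led Lsl_et (LP (LK LD1_c0 LD2_c56 LD3_c18)) = (LP (LK LD1_c1 LD2_c58 LD3_c36)) :=
  Lre_e IH (LK LD1_c0 LD2_c56 LD3_c18) (LK LD1_c1 LD2_c58 LD3_c36) Lrfl Lrfl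
theorem f347013 : Led Lsl_gt (LP (LK LD1_c15 LD2_c18 LD3_c15)) = (LP (LK LD1_c15 LD2_c17 LD3_c7)) :=
  Lgr Lrot139 (Lpe (f347006 IH) (Lpr_gf (f347007 IH) (Lpe (f314856 IH) (Lpr_dt (K12.f226778 IH) (Lpe (K11.f52289 IH) (Lpe (K10.f52265 IH) (Lpr_et (f52311 IH) (Lpe (K13.f50332 IH) (Lpe (K20.f52312 IH) (Lpr_dt (K20.f52313 IH) (Lpn (LP (LK LD1_c15 LD2_c17 LD3_c7)))))))))))))
theorem f235122 : Led Lsl_gt (LP (LK LD1_c6 LD2_c6 LD3_c61)) = (LP (LK LD1_c11 LD2_c56 LD3_c57)) :=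
  Lre_g IH (LK LD1_c6 LD2_c6 LD3_c61) (LK LD1_c11 LD2_c56 LD3_c57) Lrfl Lrfl
theorem f347020 : Led Lsl_et (LP (LK LD1_c8 LD2_c7 LD3_c36)) = (LP (LK LD1_c11 LD2_c56 LD3_c57)) :=
  Lgr Lrot122 (Lpr_dt (f347006 IH) (Lpr_gt (f347013 IH) (Lpe (K20.f52313 IH) (Lpr_et (K20.f52312 IH) (Lpr_gt (K13.f50332 IH) (Lpr_dt (K10.f51027 IH) (Lpr_gt (K15.f265705 IH) (Lpe (K15.f181704 IH) (Lpr_et (K21.f291060 IH) (Lpr_gt (f235122 IH) (Lpn (LP (LK LD1_c11 LD2_c56 LD3_c57)))))))))))))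
theorem f347027 : Led Lsl_ef (LP (LK LD1_c8 LD2_c7 LD3_c36)) = (LP (LK LD1_c11 LD2_c56 LD3_c57)) :=
  Lgr Lrot88 (Lpr_et (f347020 IH) (Lpn (LP (LK LD1_c11 LD2_c56 LD3_c57))))
theorem f52308 : Led Lsl_dt (LP (LK LD1_c4 LD2_c4 LD3_c10)) = (LP (LK LD1_c8 LD2_c9 LD3_c3)) :=
  Lre_d IH (LK LD1_c4 LD2_c4 LD3_c10) (LK LD1_c8 LD2_c9 LD3_c3) Lrfl Lrfl
theorem f52309 : Led Lsl_gt (LP (LK LD1_c15 LD2_c20 LD3_c53)) = (LP (LK LD1_c8 LD2_c9 LD3_c3)) :=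
  Lre_g IH (LK LD1_c15 LD2_c20 LD3_c53) (LK LD1_c8 LD2_c9 LD3_c3) Lrfl Lrfl
theorem f347037 : Led Lsl_df (LP (LK LD1_c15 LD2_c20 LD3_c53)) = (LP (LK LD1_c11 LD2_c56 LD3_c57)) :=
  Lgr Lrot170 (Lpr_gt (f52309 IH) (Lpe (f52308 IH) (Lpr_et (K19.f52307 IH) (Lpr_gt (K11.f52288 IH) (Lpr_dt (K10.f52265 IH) (Lpr_gt (K11.f52289 IH) (Lpe (K12.f226778 IH) (Lpr_et (f314856 IH) (Lpe (f347007 IH) (Lpr_ef (f347027 IH) (Lpn (LP (LK LD1_c11 LD2_c56 LD3_c57)))))))))))))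
theorem f200740 : Led Lsl_dt (LP (LK LD1_c8 LD2_c9 LD3_c3)) = (LP (LK LD1_c4 LD2_c4 LD3_c10)) :=
  Lre_d IH (LK LD1_c8 LD2_c9 LD3_c3) (LK LD1_c4 LD2_c4 LD3_c10) Lrfl Lrfl
theorem f32035 : Led Lsl_gt (LP (LK LD1_c8 LD2_c37 LD3_c46)) = (LP (LK LD1_c4 LD2_c19 LD3_c55)) :=
  Lre_g IH (LK LD1_c8 LD2_c37 LD3_c46) (LK LD1_c4 LD2_c19 LD3_c55) Lrfl Lrfl
theorem f168984 : Led Lsl_ct (LP (LK LD1_c2 LD2_c59 LD3_c37)) = (LP (LK LD1_c6 LD2_c6 LD3_c61)) :=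
  Lre_c IH (LK LD1_c2 LD2_c59 LD3_c37) (LK LD1_c6 LD2_c6 LD3_c61) Lrfl Lrfl
theorem f168956 : Led Lsl_gt (LP (LK LD1_c2 LD2_c59 LD3_c37)) = (LP (LK LD1_c6 LD2_c7 LD3_c0)) :=
  Lre_g IH (LK LD1_c2 LD2_c59 LD3_c37) (LK LD1_c6 LD2_c7 LD3_c0) Lrfl Lrfl
theorem f347041 : Led Lsl_df (LP (LK LD1_c8 LD2_c37 LD3_c46)) = (LP (LK LD1_c6 LD2_c7 LD3_c0)) :=
  Lgr Lrot153 (Lpr_gt (f32035 IH) (Lpr_dt (K19.f189896 IH) (Lpr_cf (K19.f200733 IH) (Lpe (f200740 IH) (Lpe (f52309 IH) (Lpr_df (f347037 IH) (Lpe (f235122 IH) (Lpe (f168984 IH) (Lpr_gt (f168956 IH) (Lpn (LP (LK LD1_c6 LD2_c7 LD3_c0))))))))))))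
theorem f212894 : Led Lsl_gt (LP (LK LD1_c1 LD2_c59 LD3_c9)) = (LP (LK LD1_c4 LD2_c4 LD3_c27)) :=
  Lre_g IH (LK LD1_c1 LD2_c59 LD3_c9) (LK LD1_c4 LD2_c4 LD3_c27) Lrfl Lrfl
theorem f347049 : Led Lsl_ef (LP (LK LD1_c4 LD2_c4 LD3_c27)) = (LP (LK LD1_c6 LD2_c7 LD3_c0)) :=
  Lgr Lrot17 (Lpe (f212894 IH) (Lpe (K21.f200708 IH) (Lpr_dt (K12.f200698 IH) (Lpr_gf (K12.f223703 IH) (Lpe (K10.f27694 IH) (Lpe (K11.f200721 IH) (Lpe (K19.f189909 IH) (Lpe (K19.f189891 IH) (Lpe (f32035 IH) (Lpr_df (f347041 IH) (Lpn (LP (LK LD1_c6 LD2_c7 LD3_c0)))))))))))))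
theorem f313183 : Led Lsl_ct (LP (LK LD1_c4 LD2_c4 LD3_c26)) = (LP (LK LD1_c1 LD2_c59 LD3_c9)) :=
  Lre_c IH (LK LD1_c4 LD2_c4 LD3_c26) (LK LD1_c1 LD2_c59 LD3_c9) Lrfl Lrfl
theorem f291095 : Led Lsl_dt (LP (LK LD1_c15 LD2_c17 LD3_c7)) = (LP (LK LD1_c8 LD2_c7 LD3_c3)) :=
  Lre_d IH (LK LD1_c15 LD2_c17 LD3_c7) (LK LD1_c8 LD2_c7 LD3_c3) Lrfl Lrfl
theorem f320553 : Led Lsl_gt (LP (LK LD1_c5 LD2_c35 LD3_c22)) = (LP (LK LD1_c2 LD2_c43 LD3_c36)) :=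
  Lre_g IH (LK LD1_c5 LD2_c35 LD3_c22) (LK LD1_c2 LD2_c43 LD3_c36) Lrfl Lrfl
theorem f347018 : Led Lsl_dt (LP (LK LD1_c4 LD2_c4 LD3_c27)) = (LP (LK LD1_c5 LD2_c35 LD3_c22)) :=
  Lgr Lrot57 (Lpe (f212894 IH) (Lpe (f313183 IH) (Lpe (f347007 IH) (Lpr_dt (f347006 IH) (Lpr_gt (f347013 IH) (Lpr_dt (f291095 IH) (Lpr_cf (K20.f291064 IH) (Lpr_df (f315579 IH) (Lpe (f320553 IH) (Lpn (LP (LK LD1_c5 LD2_c35 LD3_c22))))))))))))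
theorem f347057 : Led Lsl_et (LP (LK LD1_c5 LD2_c35 LD3_c22)) = (LP (LK LD1_c11 LD2_c2 LD3_c55)) :=
  Lre_e IH (LK LD1_c5 LD2_c35 LD3_c22) (LK LD1_c11 LD2_c2 LD3_c55) Lrfl Lrfl
theorem f347046 : Led Lsl_dt (LP (LK LD1_c8 LD2_c37 LD3_c46)) = (LP (LK LD1_c6 LD2_c7 LD3_c0)) :=
  Lgr Lrot42 (Lpr_df (f347041 IH) (Lpn (LP (LK LD1_c6 LD2_c7 LD3_c0))))
theorem f32036 : Led Lsl_et (LP (LK LD1_c16 LD2_c9 LD3_c51)) = (LP (LK LD1_c8 LD2_c37 LD3_c46)) :=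
  Lre_e IH (LK LD1_c16 LD2_c9 LD3_c51) (LK LD1_c8 LD2_c37 LD3_c46) Lrfl Lrfl
theorem f347058 : Led Lsl_dt (LP (LK LD1_c11 LD2_c2 LD3_c55)) = (LP (LK LD1_c16 LD2_c9 LD3_c51)) :=
  Lgr Lrot77 (Lpe (f347057 IH) (Lpe (f347018 IH) (Lpr_ef (f347049 IH) (Lpe (f347046 IH) (Lpe (f32036 IH) (Lpn (LP (LK LD1_c16 LD2_c9 LD3_c51))))))))
theorem f320554 : Led Lsl_et (LP (LK LD1_c11 LD2_c2 LD3_c55)) = (LP (LK LD1_c5 LD2_c35 LD3_c22)) :=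
  Lre_e IH (LK LD1_c11 LD2_c2 LD3_c55) (LK LD1_c5 LD2_c35 LD3_c22) Lrfl Lrfl
theorem f235403 : Led Lsl_dt (LP (LK LD1_c9 LD2_c55 LD3_c25)) = (LP (LK LD1_c15 LD2_c53 LD3_c43)) :=
  Lgr Lrot42 (Lpr_df (K13.f235399 IH) (Lpn (LP (LK LD1_c15 LD2_c53 LD3_c43))))
theorem f311561 : Led Lsl_et (LP (LK LD1_c5 LD2_c1 LD3_c38)) = (LP (LK LD1_c9 LD2_c53 LD3_c41)) :=
  Lre_e IH (LK LD1_c5 LD2_c1 LD3_c38) (LK LD1_c9 LD2_c53 LD3_c41) Lrfl Lrfl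
theorem f311563 : Led Lsl_dt (LP (LK LD1_c5 LD2_c1 LD3_c38)) = (LP (LK LD1_c9 LD2_c53 LD3_c40)) :=
  Lre_d IH (LK LD1_c5 LD2_c1 LD3_c38) (LK LD1_c9 LD2_c53 LD3_c40) Lrfl Lrfl
theorem f332915 : Led Lsl_gf (LP (LK LD1_c15 LD2_c53 LD3_c43)) = (LP (LK LD1_c9 LD2_c53 LD3_c40)) :=
  Lgr Lrot145 (Lpe (f235403 IH) (Lpr_et (K13.f239533 IH) (Lpe (f332860 IH) (Lpr_dt (K22.f332828 IH) (Lpr_gt (f193251 IH) (Lpe (f33964 IH) (Lpr_et (K19.f193254 IH) (Lpr_gt (f332913 IH) (Lpe (f311561 IH) (Lpr_dt (f311563 IH) (Lpn (LP (LK LD1_c9 LD2_c53 LD3_c40)))))))))))))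
theorem f239531 : Led Lsl_dt (LP (LK LD1_c8 LD2_c27 LD3_c55)) = (LP (LK LD1_c9 LD2_c54 LD3_c49)) :=
  Lgr Lrot77 (Lpe (K13.f235398 IH) (Lpe (f235403 IH) (Lpr_ef (K13.f239526 IH) (Lpe (f33931 IH) (Lpe (K13.f33944 IH) (Lpn (LP (LK LD1_c9 LD2_c54 LD3_c49))))))))
theorem f246927 : Led Lsl_dt (LP (LK LD1_c15 LD2_c11 LD3_c22)) = (LP (LK LD1_c18 LD2_c3 LD3_c40)) :=
  Lgr Lrot42 (Lpr_df (K16.f246894 IH) (Lpn (LP (LK LD1_c18 LD2_c3 LD3_c40))))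
theorem f189194 : Led Lsl_dt (LP (LK LD1_c11 LD2_c4 LD3_c20)) = (LP (LK LD1_c5 LD2_c36 LD3_c0)) :=
  Lre_d IH (LK LD1_c11 LD2_c4 LD3_c20) (LK LD1_c5 LD2_c36 LD3_c0) Lrfl Lrfl
theorem f189229 : Led Lsl_gt (LP (LK LD1_c5 LD2_c36 LD3_c0)) = (LP (LK LD1_c11 LD2_c4 LD3_c19)) :=
  Lre_g IH (LK LD1_c5 LD2_c36 LD3_c0) (LK LD1_c11 LD2_c4 LD3_c19) Lrfl Lrfl
theorem f320560 : Led Lsl_et (LP (LK LD1_c7 LD2_c59 LD3_c5)) = (LP (LK LD1_c9 LD2_c53 LD3_c40)) :=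
  Lgr Lrot87 (Lpr_ef (K20.f320555 IH) (Lpn (LP (LK LD1_c9 LD2_c53 LD3_c40))))
theorem f332917 : Led Lsl_df (LP (LK LD1_c11 LD2_c4 LD3_c19)) = (LP (LK LD1_c7 LD2_c59 LD3_c5)) :=
  Lgr Lrot132 (Lpe (f189229 IH) (Lpe (f189194 IH) (Lpe (f212889 IH) (Lpe (K16.f225649 IH) (Lpr_dt (f246927 IH) (Lpr_gf (f327769 IH) (Lpe (f239531 IH) (Lpr_et (K13.f235405 IH) (Lpr_gf (f332915 IH) (Lpe (f320560 IH) (Lpn (LP (LK LD1_c7 LD2_c59 LD3_c5)))))))))))))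
theorem f347086 : Led Lsl_gt (LP (LK LD1_c11 LD2_c4 LD3_c19)) = (LP (LK LD1_c16 LD2_c9 LD3_c51)) :=
  Lgr Lrot139 (Lpr_df (f332917 IH) (Lpr_gf (K20.f320549 IH) (Lpe (K14.f212701 IH) (Lpr_dt (K13.f177917 IH) (Lpe (K20.f313079 IH) (Lpe (K20.f199392 IH) (Lpr_et (K21.f199425 IH) (Lpe (f320553 IH) (Lpe (f320554 IH) (Lpr_dt (f347058 IH) (Lpn (LP (LK LD1_c16 LD2_c9 LD3_c51)))))))))))))
theorem f332921 : Led Lsl_et (LP (LK LD1_c11 LD2_c4 LD3_c19)) = (LP (LK LD1_c10 LD2_c8 LD3_c9)) :=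
  Lgr Lrot71 (Lpr_df (f332917 IH) (Lpr_ef (K20.f320555 IH) (Lpe (f311563 IH) (Lpe (K19.f311550 IH) (Lpr_df (K19.f311559 IH) (Lpn (LP (LK LD1_c10 LD2_c8 LD3_c9))))))))
theorem f332923 : Led Lsl_ef (LP (LK LD1_c11 LD2_c4 LD3_c19)) = (LP (LK LD1_c10 LD2_c8 LD3_c9)) :=
  Lgr Lrot88 (Lpr_et (f332921 IH) (Lpn (LP (LK LD1_c10 LD2_c8 LD3_c9))))
theorem f330285 : Led Lsl_ct (LP (LK LD1_c9 LD2_c52 LD3_c44)) = (LP (LK LD1_c8 LD2_c3 LD3_c21)) :=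
  Lgr Lrot15 (Lpe (K21.f265967 IH) (Lpr_cf (K22.f265987 IH) (Lpr_ef (K21.f330281 IH) (Lpn (LP (LK LD1_c8 LD2_c3 LD3_c21))))))
theorem f246925 : Led Lsl_ct (LP (LK LD1_c15 LD2_c3 LD3_c24)) = (LP (LK LD1_c24 LD2_c52 LD3_c33)) :=
  Lre_c IH (LK LD1_c15 LD2_c3 LD3_c24) (LK LD1_c24 LD2_c52 LD3_c33) Lrfl Lrfl
theorem f265321 : Led Lsl_dt (LP (LK LD1_c8 LD2_c38 LD3_c49)) = (LP (LK LD1_c16 LD2_c11 LD3_c46)) :=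
  Lre_d IH (LK LD1_c8 LD2_c38 LD3_c49) (LK LD1_c16 LD2_c11 LD3_c46) Lrfl Lrfl
theorem f316905 : Led Lsl_gt (LP (LK LD1_c16 LD2_c11 LD3_c46)) = (LP (LK LD1_c26 LD2_c8 LD3_c35)) :=
  Lre_g IH (LK LD1_c16 LD2_c11 LD3_c46) (LK LD1_c26 LD2_c8 LD3_c35) Lrfl Lrfl
theorem f316906 : Led Lsl_df (LP (LK LD1_c24 LD2_c52 LD3_c33)) = (LP (LK LD1_c26 LD2_c8 LD3_c35)) :=
  Lgr Lrot84 (Lpe (f246925 IH) (Lpe (f246904 IH) (Lpe (K19.f33175 IH) (Lpe (K19.f33166 IH) (Lpe (K19.f311551 IH) (Lpe (K13.f234262 IH) (Lpr_gt (K22.f316901 IH) (Lpr_dt (f265321 IH) (Lpr_gt (f316905 IH) (Lpn (LP (LK LD1_c26 LD2_c8 LD3_c35))))))))))))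
theorem f316911 : Led Lsl_dt (LP (LK LD1_c24 LD2_c52 LD3_c33)) = (LP (LK LD1_c26 LD2_c8 LD3_c35)) :=
  Lgr Lrot42 (Lpr_df (f316906 IH) (Lpn (LP (LK LD1_c26 LD2_c8 LD3_c35))))
theorem f316913 : Led Lsl_et (LP (LK LD1_c24 LD2_c52 LD3_c33)) = (LP (LK LD1_c15 LD2_c3 LD3_c23)) :=
  Lre_e IH (LK LD1_c24 LD2_c52 LD3_c33) (LK LD1_c15 LD2_c3 LD3_c23) Lrfl Lrfl
theorem f316921 : Led Lsl_gt (LP (LK LD1_c15 LD2_c3 LD3_c23)) = (LP (LK LD1_c9 LD2_c51 LD3_c45)) :=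
  Lgr Lrot131 (Lpe (f316913 IH) (Lpr_dt (f316911 IH) (Lpe (f316905 IH) (Lpe (f265321 IH) (Lpe (K22.f316901 IH) (Lpe (K20.f316728 IH) (Lpr_dt (K22.f187044 IH) (Lpr_gf (K22.f316887 IH) (Lpe (K21.f54259 IH) (Lpr_et (K22.f213449 IH) (Lpn (LP (LK LD1_c9 LD2_c51 LD3_c45)))))))))))))
theorem f246866 : Led Lsl_ct (LP (LK LD1_c7 LD2_c58 LD3_c47)) = (LP (LK LD1_c15 LD2_c3 LD3_c23)) :=
  Lre_c IH (LK LD1_c7 LD2_c58 LD3_c47) (LK LD1_c15 LD2_c3 LD3_c23) Lrfl Lrfl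
theorem f345185 : Led Lsl_gt (LP (LK LD1_c8 LD2_c27 LD3_c56)) = (LP (LK LD1_c7 LD2_c58 LD3_c47)) :=
  Lgr Lrot146 (Lpr_dt (f345003 IH) (Lpr_gt (f239901 IH) (Lpr_ct (K13.f239843 IH) (Lpe (K22.f330333 IH) (Lpr_ct (f330285 IH) (Lpe (K21.f293401 IH) (Lpe (K22.f213451 IH) (Lpe (f316921 IH) (Lpe (f246866 IH) (Lpn (LP (LK LD1_c7 LD2_c58 LD3_c47))))))))))))
theorem f347048 : Led Lsl_et (LP (LK LD1_c8 LD2_c37 LD3_c46)) = (LP (LK LD1_c16 LD2_c9 LD3_c51)) :=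
  Lre_e IH (LK LD1_c8 LD2_c37 LD3_c46) (LK LD1_c16 LD2_c9 LD3_c51) Lrfl Lrfl
theorem f347093 : Led Lsl_gf (LP (LK LD1_c8 LD2_c27 LD3_c22)) = (LP (LK LD1_c6 LD2_c7 LD3_c0)) :=
  Lgr Lrot145 (Lpr_df (K19.f314560 IH) (Lpr_et (K19.f235317 IH) (Lpr_gt (f345185 IH) (Lpr_dt (K22.f246869 IH) (Lpr_gt (f332913 IH) (Lpr_df (K19.f311559 IH) (Lpe (f332923 IH) (Lpr_gt (f347086 IH) (Lpe (f347048 IH) (Lpr_dt (f347046 IH) (Lpn (LP (LK LD1_c6 LD2_c7 LD3_c0)))))))))))))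
theorem f189937 : Led Lsl_bf (LP (LK LD1_c8 LD2_c27 LD3_c22)) = (LP (LK LD1_c8 LD2_c37 LD3_c47)) :=
  Lgr Lrot24 (Lpr_bt (K19.f189935 IH) (Lpn (LP (LK LD1_c8 LD2_c37 LD3_c47))))
theorem f314422 : Led Lsl_df (LP (LK LD1_c9 LD2_c43 LD3_c45)) = (LP (LK LD1_c8 LD2_c27 LD3_c22)) :=
  Lgr Lrot12 (Lpr_bt (K19.f314416 IH) (Lpe (K19.f189912 IH) (Lpe (f189937 IH) (Lpn (LP (LK LD1_c8 LD2_c27 LD3_c22))))))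
theorem f345193 : Led Lsl_df (LP (LK LD1_c4 LD2_c56 LD3_c6)) = (LP (LK LD1_c4 LD2_c14 LD3_c44)) :=
  Lgr Lrot38 (Lpr_dt (f345187 IH) (Lpn (LP (LK LD1_c4 LD2_c14 LD3_c44))))
theorem f347060 : Led Lsl_et (LP (LK LD1_c4 LD2_c4 LD3_c27)) = (LP (LK LD1_c6 LD2_c7 LD3_c0)) :=
  Lgr Lrot87 (Lpr_ef (f347049 IH) (Lpn (LP (LK LD1_c6 LD2_c7 LD3_c0))))
theorem f346382 : Led Lsl_gt (LP (LK LD1_c2 LD2_c43 LD3_c53)) = (LP (LK LD1_c5 LD2_c35 LD3_c22)) :=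
  Lre_g IH (LK LD1_c2 LD2_c43 LD3_c53) (LK LD1_c5 LD2_c35 LD3_c22) Lrfl Lrfl
theorem f313193 : Led Lsl_dt (LP (LK LD1_c5 LD2_c36 LD3_c4)) = (LP (LK LD1_c2 LD2_c43 LD3_c53)) :=
  Lre_d IH (LK LD1_c5 LD2_c36 LD3_c4) (LK LD1_c2 LD2_c43 LD3_c53) Lrfl Lrfl
theorem f315590 : Led Lsl_at (LP (LK LD1_c9 LD2_c33 LD3_c27)) = (LP (LK LD1_c5 LD2_c36 LD3_c4)) :=
  Lgr Lrot100 (Lpr_af (K20.f315584 IH) (Lpn (LP (LK LD1_c5 LD2_c36 LD3_c4))))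
theorem f315614 : Led Lsl_et (LP (LK LD1_c5 LD2_c36 LD3_c4)) = (LP (LK LD1_c8 LD2_c11 LD3_c55)) :=
  Lgr Lrot123 (Lpe (f315590 IH) (Lpr_ef (K20.f315607 IH) (Lpr_af (K22.f315431 IH) (Lpn (LP (LK LD1_c8 LD2_c11 LD3_c55))))))
theorem f347116 : Led Lsl_et (LP (LK LD1_c4 LD2_c14 LD3_c44)) = (LP (LK LD1_c8 LD2_c27 LD3_c26)) :=
  Lgr Lrot185 (Lpe (f345193 IH) (Lpe (f235443 IH) (Lpr_df (f314422 IH) (Lpr_gf (f347093 IH) (Lpe (f347060 IH) (Lpr_dt (f347018 IH) (Lpe (f346382 IH) (Lpe (f313193 IH) (Lpr_et (f315614 IH) (Lpr_gf (K21.f315480 IH) (Lpn (LP (LK LD1_c8 LD2_c27 LD3_c26)))))))))))))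
theorem f347124 : Led Lsl_ef (LP (LK LD1_c4 LD2_c14 LD3_c44)) = (LP (LK LD1_c8 LD2_c27 LD3_c26)) :=
  Lgr Lrot88 (Lpr_et (f347116 IH) (Lpn (LP (LK LD1_c8 LD2_c27 LD3_c26))))
theorem f190010 : Led Lsl_dt (LP (LK LD1_c8 LD2_c27 LD3_c26)) = (LP (LK LD1_c15 LD2_c52 LD3_c52)) :=
  Lre_d IH (LK LD1_c8 LD2_c27 LD3_c26) (LK LD1_c15 LD2_c52 LD3_c52) Lrfl Lrfl
theorem f347130 : Led Lsl_gt (LP (LK LD1_c15 LD2_c22 LD3_c18)) = (LP (LK LD1_c15 LD2_c52 LD3_c52)) :=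
  Lgr Lrot139 (Lpe (K21.f238340 IH) (Lpe (K14.f238337 IH) (Lpe (K14.f223695 IH) (Lpr_dt (K14.f223693 IH) (Lpe (K11.f211270 IH) (Lpr_df (K11.f211263 IH) (Lpr_et (f211265 IH) (Lpe (f211274 IH) (Lpr_ef (f347124 IH) (Lpr_dt (f190010 IH) (Lpn (LP (LK LD1_c15 LD2_c52 LD3_c52)))))))))))))
theorem f223672 : Led Lsl_dt (LP (LK LD1_c15 LD2_c22 LD3_c14)) = (LP (LK LD1_c25 LD2_c13 LD3_c58)) :=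
  Lre_d IH (LK LD1_c15 LD2_c22 LD3_c14) (LK LD1_c25 LD2_c13 LD3_c58) Lrfl Lrfl
theorem f200487 : Led Lsl_dt (LP (LK LD1_c15 LD2_c52 LD3_c52)) = (LP (LK LD1_c8 LD2_c27 LD3_c26)) :=
  Lre_d IH (LK LD1_c15 LD2_c52 LD3_c52) (LK LD1_c8 LD2_c27 LD3_c26) Lrfl Lrfl
theorem f298539 : Led Lsl_dt (LP (LK LD1_c25 LD2_c6 LD3_c40)) = (LP (LK LD1_c15 LD2_c16 LD3_c39)) :=
  Lre_d IH (LK LD1_c25 LD2_c6 LD3_c40) (LK LD1_c15 LD2_c16 LD3_c39) Lrfl Lrfl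
theorem f347134 : Led Lsl_gt (LP (LK LD1_c25 LD2_c13 LD3_c58)) = (LP (LK LD1_c25 LD2_c6 LD3_c40)) :=
  Lgr Lrot49 (Lpe (f223672 IH) (Lpe (K19.f223671 IH) (Lpe (K14.f223675 IH) (Lpr_gt (K14.f238337 IH) (Lpr_dt (K21.f238340 IH) (Lpr_gt (f347130 IH) (Lpr_dt (f200487 IH) (Lpr_cf (K21.f299165 IH) (Lpe (f298539 IH) (Lpn (LP (LK LD1_c25 LD2_c6 LD3_c40))))))))))))
theorem f200889 : Led Lsl_et (LP (LK LD1_c1 LD2_c58 LD3_c60)) = (LP (LK LD1_c4 LD2_c4 LD3_c3)) :=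
  Lre_e IH (LK LD1_c1 LD2_c58 LD3_c60) (LK LD1_c4 LD2_c4 LD3_c3) Lrfl Lrfl
theorem f200890 : Led Lsl_gt (LP (LK LD1_c8 LD2_c8 LD3_c45)) = (LP (LK LD1_c4 LD2_c4 LD3_c3)) :=
  Lre_g IH (LK LD1_c8 LD2_c8 LD3_c45) (LK LD1_c4 LD2_c4 LD3_c3) Lrfl Lrfl
theorem f216508 : Led Lsl_dt (LP (LK LD1_c15 LD2_c16 LD3_c39)) = (LP (LK LD1_c25 LD2_c6 LD3_c40)) :=
  Lre_d IH (LK LD1_c15 LD2_c16 LD3_c39) (LK LD1_c25 LD2_c6 LD3_c40) Lrfl Lrfl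
theorem f347139 : Led Lsl_ef (LP (LK LD1_c8 LD2_c8 LD3_c45)) = (LP (LK LD1_c15 LD2_c16 LD3_c39)) :=
  Lgr Lrot114 (Lpr_gt (f200890 IH) (Lpe (f200889 IH) (Lpe (K11.f200820 IH) (Lpe (K12.f228267 IH) (Lpe (K15.f238498 IH) (Lpr_et (K18.f238500 IH) (Lpr_gt (K19.f223671 IH) (Lpr_dt (f223672 IH) (Lpr_gt (f347134 IH) (Lpe (f216508 IH) (Lpn (LP (LK LD1_c15 LD2_c16 LD3_c39)))))))))))))
theorem f347147 : Led Lsl_et (LP (LK LD1_c8 LD2_c8 LD3_c45)) = (LP (LK LD1_c15 LD2_c16 LD3_c39)) :=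
  Lgr Lrot87 (Lpr_ef (f347139 IH) (Lpn (LP (LK LD1_c15 LD2_c16 LD3_c39))))
theorem f347146 : Led Lsl_dt (LP (LK LD1_c8 LD2_c8 LD3_c45)) = (LP (LK LD1_c15 LD2_c20 LD3_c17)) :=
  Lre_d IH (LK LD1_c8 LD2_c8 LD3_c45) (LK LD1_c15 LD2_c20 LD3_c17) Lrfl Lrfl
theorem f194509 : Led Lsl_dt (LP (LK LD1_c15 LD2_c16 LD3_c19)) = (LP (LK LD1_c25 LD2_c6 LD3_c18)) :=
  Lre_d IH (LK LD1_c15 LD2_c16 LD3_c19) (LK LD1_c25 LD2_c6 LD3_c18) Lrfl Lrfl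
theorem f347167 : Led Lsl_gf (LP (LK LD1_c15 LD2_c20 LD3_c17)) = (LP (LK LD1_c25 LD2_c6 LD3_c18)) :=
  Lgr Lrot145 (Lpe (f347146 IH) (Lpr_et (f347147 IH) (Lpe (K21.f299159 IH) (Lpr_dt (K20.f299155 IH) (Lpe (K18.f299043 IH) (Lpr_df (K18.f297896 IH) (Lpr_et (K18.f298452 IH) (Lpe (K21.f330401 IH) (Lpr_ef (K22.f329771 IH) (Lpr_dt (f194509 IH) (Lpn (LP (LK LD1_c25 LD2_c6 LD3_c18)))))))))))))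
theorem f200923 : Led Lsl_dt (LP (LK LD1_c15 LD2_c20 LD3_c17)) = (LP (LK LD1_c8 LD2_c8 LD3_c45)) :=
  Lre_d IH (LK LD1_c15 LD2_c20 LD3_c17) (LK LD1_c8 LD2_c8 LD3_c45) Lrfl Lrfl
theorem f347144 : Led Lsl_ct (LP (LK LD1_c8 LD2_c8 LD3_c45)) = (LP (LK LD1_c4 LD2_c14 LD3_c44)) :=
  Lgr Lrot15 (Lpr_ef (f347139 IH) (Lpe (K21.f299161 IH) (Lpe (f347116 IH) (Lpn (LP (LK LD1_c4 LD2_c14 LD3_c44))))))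
theorem f168957 : Led Lsl_ct (LP (LK LD1_c6 LD2_c7 LD3_c0)) = (LP (LK LD1_c11 LD2_c57 LD3_c0)) :=
  Lre_c IH (LK LD1_c6 LD2_c7 LD3_c0) (LK LD1_c11 LD2_c57 LD3_c0) Lrfl Lrfl
theorem f347169 : Led Lsl_gt (LP (LK LD1_c11 LD2_c57 LD3_c0)) = (LP (LK LD1_c15 LD2_c16 LD3_c19)) :=
  Lgr Lrot94 (Lpe (f168957 IH) (Lpe (f347093 IH) (Lpe (f314422 IH) (Lpr_gt (f235443 IH) (Lpr_dt (f345187 IH) (Lpe (f347144 IH) (Lpe (f200923 IH) (Lpr_gf (f347167 IH) (Lpe (f194509 IH) (Lpn (LP (LK LD1_c15 LD2_c16 LD3_c19))))))))))))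
theorem f168955 : Led Lsl_ct (LP (LK LD1_c4 LD2_c56 LD3_c5)) = (LP (LK LD1_c9 LD2_c43 LD3_c54)) :=
  Lre_c IH (LK LD1_c4 LD2_c56 LD3_c5) (LK LD1_c9 LD2_c43 LD3_c54) Lrfl Lrfl
theorem f347180 : Led Lsl_gt (LP (LK LD1_c9 LD2_c43 LD3_c54)) = (LP (LK LD1_c10 LD2_c39 LD3_c48)) :=
  Lgr Lrot150 (Lpe (f168955 IH) (Lpe (K19.f168951 IH) (Lpr_df (K14.f168924 IH) (Lpr_gt (f168956 IH) (Lpr_ct (f168957 IH) (Lpr_gt (f347169 IH) (Lpr_ct (K22.f194496 IH) (Lpe (K21.f194498 IH) (Lpe (f194502 IH) (Lpn (LP (LK LD1_c10 LD2_c39 LD3_c48))))))))))))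
theorem f347182 : Led Lsl_gf (LP (LK LD1_c9 LD2_c43 LD3_c54)) = (LP (LK LD1_c9 LD2_c51 LD3_c34)) :=
  Lgr Lrot47 (Lpr_gt (f347180 IH) (Lpe (f345248 IH) (Lpe (f345247 IH) (Lpn (LP (LK LD1_c9 LD2_c51 LD3_c34))))))
theorem f347186 : Led Lsl_et (LP (LK LD1_c17 LD2_c53 LD3_c13)) = (LP (LK LD1_c9 LD2_c43 LD3_c54)) :=
  Lre_e IH (LK LD1_c17 LD2_c53 LD3_c13) (LK LD1_c9 LD2_c43 LD3_c54) Lrfl Lrfl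
theorem f275899 : Led Lsl_gt (LP (LK LD1_c19 LD2_c14 LD3_c54)) = (LP (LK LD1_c10 LD2_c37 LD3_c30)) :=
  Lre_g IH (LK LD1_c19 LD2_c14 LD3_c54) (LK LD1_c10 LD2_c37 LD3_c30) Lrfl Lrfl
theorem f347189 : Led Lsl_dt (LP (LK LD1_c17 LD2_c53 LD3_c13)) = (LP (LK LD1_c19 LD2_c14 LD3_c54)) :=
  Lgr Lrot136 (Lpr_et (f347186 IH) (Lpr_gf (f347182 IH) (Lpe (f316802 IH) (Lpr_dt (K19.f212661 IH) (Lpr_gf (K20.f316758 IH) (Lpe (K20.f199486 IH) (Lpr_gf (K16.f277987 IH) (Lpe (K21.f224192 IH) (Lpr_dt (K21.f224193 IH) (Lpe (f275899 IH) (Lpn (LP (LK LD1_c19 LD2_c14 LD3_c54)))))))))))))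
theorem f241965 : Led Lsl_dt (LP (LK LD1_c10 LD2_c37 LD3_c30)) = (LP (LK LD1_c5 LD2_c23 LD3_c29)) :=
  Lre_d IH (LK LD1_c10 LD2_c37 LD3_c30) (LK LD1_c5 LD2_c23 LD3_c29) Lrfl Lrfl
theorem f241957 : Led Lsl_ct (LP (LK LD1_c2 LD2_c38 LD3_c15)) = (LP (LK LD1_c5 LD2_c23 LD3_c29)) :=
  Lre_c IH (LK LD1_c2 LD2_c38 LD3_c15) (LK LD1_c5 LD2_c23 LD3_c29) Lrfl Lrfl
theorem f275900 : Led Lsl_ct (LP (LK LD1_c24 LD2_c44 LD3_c60)) = (LP (LK LD1_c14 LD2_c57 LD3_c27)) :=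
  Lre_c IH (LK LD1_c24 LD2_c44 LD3_c60) (LK LD1_c14 LD2_c57 LD3_c27) Lrfl Lrfl
theorem f347197 : Led Lsl_gf (LP (LK LD1_c17 LD2_c53 LD3_c13)) = (LP (LK LD1_c24 LD2_c44 LD3_c60)) :=
  Lgr Lrot144 (Lpr_dt (f347189 IH) (Lpr_gt (f275899 IH) (Lpr_dt (f241965 IH) (Lpe (f241957 IH) (Lpe (K14.f235603 IH) (Lpe (K20.f235731 IH) (Lpe (K20.f275894 IH) (Lpe (K20.f275896 IH) (Lpe (f275900 IH) (Lpn (LP (LK LD1_c24 LD2_c44 LD3_c60))))))))))))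
theorem f311626 : Led Lsl_ct (LP (LK LD1_c17 LD2_c53 LD3_c13)) = (LP (LK LD1_c9 LD2_c43 LD3_c55)) :=
  Lre_c IH (LK LD1_c17 LD2_c53 LD3_c13) (LK LD1_c9 LD2_c43 LD3_c55) Lrfl Lrfl
theorem f199221 : Led Lsl_ct (LP (LK LD1_c17 LD2_c37 LD3_c31)) = (LP (LK LD1_c9 LD2_c34 LD3_c19)) :=
  Lre_c IH (LK LD1_c17 LD2_c37 LD3_c31) (LK LD1_c9 LD2_c34 LD3_c19) Lrfl Lrfl
theorem f275898 : Led Lsl_ct (LP (LK LD1_c14 LD2_c57 LD3_c27)) = (LP (LK LD1_c24 LD2_c44 LD3_c60)) :=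
  Lre_c IH (LK LD1_c14 LD2_c57 LD3_c27) (LK LD1_c24 LD2_c44 LD3_c60) Lrfl Lrfl
theorem f259670 : Led Lsl_et (LP (LK LD1_c10 LD2_c24 LD3_c39)) = (LP (LK LD1_c5 LD2_c17 LD3_c31)) :=
  Lre_e IH (LK LD1_c10 LD2_c24 LD3_c39) (LK LD1_c5 LD2_c17 LD3_c31) Lrfl Lrfl
theorem f252633 : Led Lsl_et (LP (LK LD1_c5 LD2_c0 LD3_c58)) = (LP (LK LD1_c9 LD2_c52 LD3_c18)) :=
  Lre_e IH (LK LD1_c5 LD2_c0 LD3_c58) (LK LD1_c9 LD2_c52 LD3_c18) Lrfl Lrfl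
theorem f259671 : Led Lsl_cf (LP (LK LD1_c10 LD2_c24 LD3_c39)) = (LP (LK LD1_c9 LD2_c52 LD3_c18)) :=
  Lgr Lrot39 (Lpr_et (f259670 IH) (Lpr_ct (K15.f259666 IH) (Lpr_et (f252633 IH) (Lpn (LP (LK LD1_c9 LD2_c52 LD3_c18))))))
theorem f340748 : Led Lsl_bf (LP (LK LD1_c15 LD2_c12 LD3_c30)) = (LP (LK LD1_c10 LD2_c24 LD3_c35)) :=
  Lgr Lrot34 (Lpe (K19.f293515 IH) (Lpe (K19.f242404 IH) (Lpr_ct (K19.f242388 IH) (Lpr_gf (K19.f293520 IH) (Lpe (K19.f185931 IH) (Lpe (f330645 IH) (Lpe (f278221 IH) (Lpe (f259671 IH) (Lpr_gf (f340744 IH) (Lpe (f48224 IH) (Lpn (LP (LK LD1_c10 LD2_c24 LD3_c35)))))))))))))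
theorem f340752 : Led Lsl_et (LP (LK LD1_c15 LD2_c12 LD3_c30)) = (LP (LK LD1_c18 LD2_c21 LD3_c38)) :=
  Lgr Lrot74 (Lpr_bf (f340748 IH) (Lpr_ef (K22.f335494 IH) (Lpr_bf (K22.f330370 IH) (Lpn (LP (LK LD1_c18 LD2_c21 LD3_c38))))))
theorem f266656 : Led Lsl_df (LP (LK LD1_c16 LD2_c12 LD3_c30)) = (LP (LK LD1_c15 LD2_c12 LD3_c30)) :=
  Lgr Lrot38 (Lpr_dt (K20.f266654 IH) (Lpn (LP (LK LD1_c15 LD2_c12 LD3_c30))))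
theorem f190471 : Led Lsl_dt (LP (LK LD1_c10 LD2_c29 LD3_c15)) = (LP (LK LD1_c19 LD2_c0 LD3_c35)) :=
  Lre_d IH (LK LD1_c10 LD2_c29 LD3_c15) (LK LD1_c19 LD2_c0 LD3_c35) Lrfl Lrfl
theorem f243061 : Led Lsl_gt (LP (LK LD1_c8 LD2_c5 LD3_c30)) = (LP (LK LD1_c4 LD2_c2 LD3_c28)) :=
  Lre_g IH (LK LD1_c8 LD2_c5 LD3_c30) (LK LD1_c4 LD2_c2 LD3_c28) Lrfl Lrfl
theorem f262545 : Led Lsl_gf (LP (LK LD1_c8 LD2_c5 LD3_c30)) = (LP (LK LD1_c8 LD2_c5 LD3_c53)) :=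
  Lgr Lrot47 (Lpr_gt (f243061 IH) (Lpr_af (K15.f262535 IH) (Lpe (K13.f229069 IH) (Lpn (LP (LK LD1_c8 LD2_c5 LD3_c53))))))
theorem f340756 : Led Lsl_et (LP (LK LD1_c10 LD2_c29 LD3_c15)) = (LP (LK LD1_c8 LD2_c5 LD3_c30)) :=
  Lgr Lrot122 (Lpr_dt (f190471 IH) (Lpr_gt (K20.f320923 IH) (Lpr_df (f266656 IH) (Lpr_et (f340752 IH) (Lpr_gt (K19.f251486 IH) (Lpr_dt (K19.f265932 IH) (Lpr_gt (K19.f296359 IH) (Lpr_df (K19.f259108 IH) (Lpe (K19.f262519 IH) (Lpe (f262545 IH) (Lpn (LP (LK LD1_c8 LD2_c5 LD3_c30)))))))))))))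
theorem f243016 : Led Lsl_dt (LP (LK LD1_c1 LD2_c58 LD3_c13)) = (LP (LK LD1_c1 LD2_c1 LD3_c18)) :=
  Lgr Lrot57 (Lpr_gf (K10.f46579 IH) (Lpe (K1.f27862 IH) (Lpr_gt (K13.f190751 IH) (Lpr_dt (K13.f180785 IH) (Lpr_gt (K16.f242096 IH) (Lpr_dt (K13.f240133 IH) (Lpe (K13.f240134 IH) (Lpr_df (K13.f243009 IH) (Lpr_gf (K13.f242785 IH) (Lpn (LP (LK LD1_c1 LD2_c1 LD3_c18))))))))))))
theorem f340760 : Led Lsl_gf (LP (LK LD1_c19 LD2_c0 LD3_c35)) = (LP (LK LD1_c25 LD2_c1 LD3_c28)) :=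
  Lgr Lrot134 (Lpe (f190471 IH) (Lpr_et (f340756 IH) (Lpr_gt (f243061 IH) (Lpe (K13.f243047 IH) (Lpr_dt (f243016 IH) (Lpe (K13.f242785 IH) (Lpe (K20.f243007 IH) (Lpr_et (K19.f240212 IH) (Lpr_gt (K19.f240202 IH) (Lpr_dt (K21.f240203 IH) (Lpn (LP (LK LD1_c25 LD2_c1 LD3_c28)))))))))))))
theorem f269900 : Led Lsl_gf (LP (LK LD1_c4 LD2_c21 LD3_c53)) = (LP (LK LD1_c7 LD2_c55 LD3_c45)) :=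
  Lgr Lrot76 (Lpr_af (K16.f269888 IH) (Lpe (K16.f269875 IH) (Lpr_gt (K20.f227959 IH) (Lpn (LP (LK LD1_c7 LD2_c55 LD3_c45))))))
theorem f275769 : Led Lsl_at (LP (LK LD1_c5 LD2_c4 LD3_c54)) = (LP (LK LD1_c5 LD2_c12 LD3_c42)) :=
  Lgr Lrot100 (Lpr_af (K18.f275733 IH) (Lpn (LP (LK LD1_c5 LD2_c12 LD3_c42))))
theorem f241913 : Led Lsl_gt (LP (LK LD1_c10 LD2_c15 LD3_c47)) = (LP (LK LD1_c5 LD2_c12 LD3_c42)) :=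
  Lre_g IH (LK LD1_c10 LD2_c15 LD3_c47) (LK LD1_c5 LD2_c12 LD3_c42) Lrfl Lrfl
theorem f275863 : Led Lsl_gt (LP (LK LD1_c10 LD2_c0 LD3_c54)) = (LP (LK LD1_c10 LD2_c15 LD3_c47)) :=
  Lgr Lrot5 (Lpr_ft (K16.f192610 IH) (Lpr_at (f275769 IH) (Lpe (f241913 IH) (Lpn (LP (LK LD1_c10 LD2_c15 LD3_c47))))))
theorem f293397 : Led Lsl_et (LP (LK LD1_c16 LD2_c12 LD3_c59)) = (LP (LK LD1_c25 LD2_c1 LD3_c28)) :=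
  Lgr Lrot87 (Lpr_ef (K19.f293395 IH) (Lpn (LP (LK LD1_c25 LD2_c1 LD3_c28))))
theorem f340762 : Led Lsl_dt (LP (LK LD1_c10 LD2_c15 LD3_c47)) = (LP (LK LD1_c15 LD2_c14 LD3_c11)) :=
  Lgr Lrot171 (Lpe (f275863 IH) (Lpe (K16.f273291 IH) (Lpr_dt (K16.f260581 IH) (Lpr_gf (f269900 IH) (Lpe (K20.f269904 IH) (Lpe (K20.f320915 IH) (Lpr_gf (f340760 IH) (Lpe (f293397 IH) (Lpe (f330262 IH) (Lpr_gf (K21.f296369 IH) (Lpn (LP (LK LD1_c15 LD2_c14 LD3_c11)))))))))))))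
theorem f262555 : Led Lsl_et (LP (LK LD1_c15 LD2_c14 LD3_c11)) = (LP (LK LD1_c8 LD2_c5 LD3_c29)) :=
  Lre_e IH (LK LD1_c15 LD2_c14 LD3_c11) (LK LD1_c8 LD2_c5 LD3_c29) Lrfl Lrfl
theorem f340764 : Led Lsl_ef (LP (LK LD1_c10 LD2_c15 LD3_c47)) = (LP (LK LD1_c15 LD2_c43 LD3_c61)) :=
  Lgr Lrot73 (Lpr_dt (f340762 IH) (Lpr_et (f262555 IH) (Lpe (K21.f296363 IH) (Lpr_et (K21.f296366 IH) (Lpr_dt (K21.f325879 IH) (Lpn (LP (LK LD1_c15 LD2_c43 LD3_c61))))))))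
theorem f243054 : Led Lsl_df (LP (LK LD1_c4 LD2_c2 LD3_c28)) = (LP (LK LD1_c2 LD2_c8 LD3_c17)) :=
  Lgr Lrot38 (Lpr_dt (K13.f243048 IH) (Lpn (LP (LK LD1_c2 LD2_c8 LD3_c17))))
theorem f296367 : Led Lsl_gt (LP (LK LD1_c24 LD2_c44 LD3_c27)) = (LP (LK LD1_c14 LD2_c58 LD3_c6)) :=
  Lgr Lrot137 (Lpe (K21.f296366 IH) (Lpr_dt (K21.f296361 IH) (Lpe (K21.f243063 IH) (Lpr_df (f243054 IH) (Lpr_et (K13.f227963 IH) (Lpe (K13.f216819 IH) (Lpe (K19.f238742 IH) (Lpr_dt (K15.f255568 IH) (Lpe (K14.f255577 IH) (Lpe (K19.f279523 IH) (Lpn (LP (LK LD1_c14 LD2_c58 LD3_c6)))))))))))))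
theorem f340772 : Led Lsl_gf (LP (LK LD1_c14 LD2_c57 LD3_c27)) = (LP (LK LD1_c16 LD2_c13 LD3_c3)) :=
  Lgr Lrot138 (Lpr_dt (K20.f269904 IH) (Lpe (f269900 IH) (Lpe (K16.f260581 IH) (Lpr_et (K16.f273291 IH) (Lpr_gt (f275863 IH) (Lpr_ef (f340764 IH) (Lpe (K21.f325883 IH) (Lpr_gt (f296367 IH) (Lpr_df (K19.f279518 IH) (Lpr_et (K19.f255588 IH) (Lpn (LP (LK LD1_c16 LD2_c13 LD3_c3)))))))))))))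
theorem f43139 : Led Lsl_ct (LP (LK LD1_c8 LD2_c41 LD3_c6)) = (LP (LK LD1_c16 LD2_c16 LD3_c0)) :=
  Lre_c IH (LK LD1_c8 LD2_c41 LD3_c6) (LK LD1_c16 LD2_c16 LD3_c0) Lrfl Lrfl
theorem f347199 : Led Lsl_gf (LP (LK LD1_c17 LD2_c37 LD3_c31)) = (LP (LK LD1_c16 LD2_c16 LD3_c0)) :=
  Lgr Lrot104 (Lpr_ct (f199221 IH) (Lpe (K22.f311623 IH) (Lpe (f311626 IH) (Lpr_gf (f347197 IH) (Lpe (f275898 IH) (Lpr_gf (f340772 IH) (Lpe (K14.f255586 IH) (Lpe (K19.f279514 IH) (Lpr_ct (f43139 IH) (Lpn (LP (LK LD1_c16 LD2_c16 LD3_c0))))))))))))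
theorem f199223 : Led Lsl_ct (LP (LK LD1_c9 LD2_c34 LD3_c19)) = (LP (LK LD1_c17 LD2_c37 LD3_c31)) :=
  Lre_c IH (LK LD1_c9 LD2_c34 LD3_c19) (LK LD1_c17 LD2_c37 LD3_c31) Lrfl Lrfl
theorem f333787 : Led Lsl_bf (LP (LK LD1_c16 LD2_c8 LD3_c57)) = (LP (LK LD1_c9 LD2_c34 LD3_c19)) :=
  Lgr Lrot24 (Lpr_bt (K22.f333785 IH) (Lpn (LP (LK LD1_c9 LD2_c34 LD3_c19))))
theorem f243421 : Led Lsl_bt (LP (LK LD1_c4 LD2_c19 LD3_c32)) = (LP (LK LD1_c8 LD2_c37 LD3_c14)) :=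
  Lre_b IH (LK LD1_c4 LD2_c19 LD3_c32) (LK LD1_c8 LD2_c37 LD3_c14) Lrfl Lrfl
theorem f243409 : Led Lsl_ct (LP (LK LD1_c4 LD2_c19 LD3_c32)) = (LP (LK LD1_c8 LD2_c37 LD3_c17)) :=
  Lre_c IH (LK LD1_c4 LD2_c19 LD3_c32) (LK LD1_c8 LD2_c37 LD3_c17) Lrfl Lrfl
theorem f243438 : Led Lsl_gt (LP (LK LD1_c8 LD2_c37 LD3_c17)) = (LP (LK LD1_c16 LD2_c9 LD3_c1)) :=
  Lre_g IH (LK LD1_c8 LD2_c37 LD3_c17) (LK LD1_c16 LD2_c9 LD3_c1) Lrfl Lrfl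
theorem f328788 : Led Lsl_ef (LP (LK LD1_c20 LD2_c56 LD3_c45)) = (LP (LK LD1_c14 LD2_c58 LD3_c4)) :=
  Lgr Lrot88 (Lpr_et (K22.f328784 IH) (Lpn (LP (LK LD1_c14 LD2_c58 LD3_c4))))
theorem f274494 : Led Lsl_et (LP (LK LD1_c11 LD2_c53 LD3_c13)) = (LP (LK LD1_c20 LD2_c56 LD3_c46)) :=
  Lre_e IH (LK LD1_c11 LD2_c53 LD3_c13) (LK LD1_c20 LD2_c56 LD3_c46) Lrfl Lrfl
theorem f328783 : Led Lsl_dt (LP (LK LD1_c24 LD2_c45 LD3_c43)) = (LP (LK LD1_c14 LD2_c58 LD3_c4)) :=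
  Lre_d IH (LK LD1_c24 LD2_c45 LD3_c43) (LK LD1_c14 LD2_c58 LD3_c4) Lrfl Lrfl
theorem f328792 : Led Lsl_et (LP (LK LD1_c15 LD2_c18 LD3_c40)) = (LP (LK LD1_c24 LD2_c45 LD3_c43)) :=
  Lgr Lrot71 (Lpe (K21.f274490 IH) (Lpe (f274494 IH) (Lpe (K22.f274495 IH) (Lpr_ef (f328788 IH) (Lpe (f328783 IH) (Lpn (LP (LK LD1_c24 LD2_c45 LD3_c43))))))))
theorem f232404 : Led Lsl_bt (LP (LK LD1_c24 LD2_c45 LD3_c43)) = (LP (LK LD1_c14 LD2_c58 LD3_c5)) :=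
  Lre_b IH (LK LD1_c24 LD2_c45 LD3_c43) (LK LD1_c14 LD2_c58 LD3_c5) Lrfl Lrfl
theorem f328794 : Led Lsl_bf (LP (LK LD1_c15 LD2_c18 LD3_c40)) = (LP (LK LD1_c10 LD2_c37 LD3_c32)) :=
  Lgr Lrot96 (Lpr_et (f328792 IH) (Lpr_bt (f232404 IH) (Lpr_et (K19.f279516 IH) (Lpn (LP (LK LD1_c10 LD2_c37 LD3_c32))))))
theorem f328796 : Led Lsl_bt (LP (LK LD1_c15 LD2_c18 LD3_c40)) = (LP (LK LD1_c10 LD2_c37 LD3_c32)) :=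
  Lgr Lrot127 (Lpr_bf (f328794 IH) (Lpn (LP (LK LD1_c10 LD2_c37 LD3_c32))))
theorem f347205 : Led Lsl_cf (LP (LK LD1_c16 LD2_c9 LD3_c1)) = (LP (LK LD1_c15 LD2_c18 LD3_c40)) :=
  Lgr Lrot58 (Lpe (f243438 IH) (Lpe (f243409 IH) (Lpr_bt (f243421 IH) (Lpe (K20.f243419 IH) (Lpr_bf (f333787 IH) (Lpr_ct (f199223 IH) (Lpr_gf (f347199 IH) (Lpe (f43139 IH) (Lpr_gf (K19.f279514 IH) (Lpe (f328796 IH) (Lpn (LP (LK LD1_c15 LD2_c18 LD3_c40)))))))))))))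
theorem f305725 : Led Lsl_ct (LP (LK LD1_c11 LD2_c10 LD3_c27)) = (LP (LK LD1_c5 LD2_c39 LD3_c39)) :=
  Lre_c IH (LK LD1_c11 LD2_c10 LD3_c27) (LK LD1_c5 LD2_c39 LD3_c39) Lrfl Lrfl
theorem f167135 : Led Lsl_ct (LP (LK LD1_c15 LD2_c48 LD3_c3)) = (LP (LK LD1_c8 LD2_c24 LD3_c15)) :=
  Lre_c IH (LK LD1_c15 LD2_c48 LD3_c3) (LK LD1_c8 LD2_c24 LD3_c15) Lrfl Lrfl
theorem f347209 : Led Lsl_gt (LP (LK LD1_c16 LD2_c9 LD3_c1)) = (LP (LK LD1_c15 LD2_c48 LD3_c3)) :=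
  Lgr Lrot150 (Lpr_cf (f347205 IH) (Lpe (K21.f236905 IH) (Lpe (K20.f237144 IH) (Lpr_gt (K16.f223213 IH) (Lpe (K18.f301093 IH) (Lpe (K19.f306775 IH) (Lpr_ct (f305725 IH) (Lpr_df (K21.f326862 IH) (Lpe (f167135 IH) (Lpn (LP (LK LD1_c15 LD2_c48 LD3_c3))))))))))))
theorem f347207 : Led Lsl_ct (LP (LK LD1_c16 LD2_c9 LD3_c1)) = (LP (LK LD1_c15 LD2_c18 LD3_c40)) :=
  Lgr Lrot59 (Lpr_cf (f347205 IH) (Lpn (LP (LK LD1_c15 LD2_c18 LD3_c40))))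
theorem f274496 : Led Lsl_dt (LP (LK LD1_c11 LD2_c53 LD3_c13)) = (LP (LK LD1_c20 LD2_c56 LD3_c45)) :=
  Lre_d IH (LK LD1_c11 LD2_c53 LD3_c13) (LK LD1_c20 LD2_c56 LD3_c45) Lrfl Lrfl
theorem f328782 : Led Lsl_dt (LP (LK LD1_c14 LD2_c58 LD3_c4)) = (LP (LK LD1_c24 LD2_c45 LD3_c43)) :=
  Lre_d IH (LK LD1_c14 LD2_c58 LD3_c4) (LK LD1_c24 LD2_c45 LD3_c43) Lrfl Lrfl
theorem f328786 : Led Lsl_ef (LP (LK LD1_c15 LD2_c18 LD3_c40)) = (LP (LK LD1_c24 LD2_c45 LD3_c43)) :=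
  Lgr Lrot73 (Lpe (K21.f274492 IH) (Lpr_et (K21.f274489 IH) (Lpr_dt (f274496 IH) (Lpr_et (K22.f328784 IH) (Lpr_dt (f328782 IH) (Lpn (LP (LK LD1_c24 LD2_c45 LD3_c43))))))))
theorem f328811 : Led Lsl_gt (LP (LK LD1_c15 LD2_c18 LD3_c40)) = (LP (LK LD1_c15 LD2_c36 LD3_c29)) :=
  Lgr Lrot137 (Lpr_ef (f328786 IH) (Lpr_dt (f328783 IH) (Lpe (K22.f328778 IH) (Lpe (K16.f232415 IH) (Lpr_et (K16.f232231 IH) (Lpe (K17.f270684 IH) (Lpe (K17.f222011 IH) (Lpe (K16.f274507 IH) (Lpe (K17.f261038 IH) (Lpr_df (K15.f261034 IH) (Lpn (LP (LK LD1_c15 LD2_c36 LD3_c29)))))))))))))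
theorem f222012 : Led Lsl_et (LP (LK LD1_c8 LD2_c12 LD3_c58)) = (LP (LK LD1_c15 LD2_c27 LD3_c16)) :=
  Lre_e IH (LK LD1_c8 LD2_c12 LD3_c58) (LK LD1_c15 LD2_c27 LD3_c16) Lrfl Lrfl
theorem f222013 : Led Lsl_cf (LP (LK LD1_c8 LD2_c29 LD3_c46)) = (LP (LK LD1_c15 LD2_c27 LD3_c16)) :=
  Lgr Lrot39 (Lpr_et (K17.f222011 IH) (Lpr_ct (K15.f221998 IH) (Lpr_et (f222012 IH) (Lpn (LP (LK LD1_c15 LD2_c27 LD3_c16))))))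
theorem f222023 : Led Lsl_ct (LP (LK LD1_c8 LD2_c29 LD3_c46)) = (LP (LK LD1_c15 LD2_c27 LD3_c16)) :=
  Lgr Lrot59 (Lpr_cf (f222013 IH) (Lpn (LP (LK LD1_c15 LD2_c27 LD3_c16))))
theorem f222025 : Led Lsl_dt (LP (LK LD1_c25 LD2_c18 LD3_c59)) = (LP (LK LD1_c15 LD2_c27 LD3_c16)) :=
  Lre_d IH (LK LD1_c25 LD2_c18 LD3_c59) (LK LD1_c15 LD2_c27 LD3_c16) Lrfl Lrfl
theorem f326861 : Led Lsl_dt (LP (LK LD1_c15 LD2_c48 LD3_c3)) = (LP (LK LD1_c25 LD2_c44 LD3_c45)) :=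
  Lre_d IH (LK LD1_c15 LD2_c48 LD3_c3) (LK LD1_c25 LD2_c44 LD3_c45) Lrfl Lrfl
theorem f347214 : Led Lsl_gf (LP (LK LD1_c25 LD2_c18 LD3_c59)) = (LP (LK LD1_c25 LD2_c44 LD3_c45)) :=
  Lgr Lrot143 (Lpr_dt (f222025 IH) (Lpe (f222023 IH) (Lpe (K18.f274501 IH) (Lpe (K17.f261038 IH) (Lpr_df (K15.f261034 IH) (Lpe (f328811 IH) (Lpe (f347207 IH) (Lpr_gt (f347209 IH) (Lpr_dt (f326861 IH) (Lpn (LP (LK LD1_c25 LD2_c44 LD3_c45))))))))))))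
theorem f53946 : Led Lsl_dt (LP (LK LD1_c15 LD2_c27 LD3_c16)) = (LP (LK LD1_c25 LD2_c18 LD3_c59)) :=
  Lre_d IH (LK LD1_c15 LD2_c27 LD3_c16) (LK LD1_c25 LD2_c18 LD3_c59) Lrfl Lrfl
theorem f53945 : Led Lsl_et (LP (LK LD1_c15 LD2_c27 LD3_c16)) = (LP (LK LD1_c8 LD2_c12 LD3_c58)) :=
  Lre_e IH (LK LD1_c15 LD2_c27 LD3_c16) (LK LD1_c8 LD2_c12 LD3_c58) Lrfl Lrfl
theorem f262702 : Led Lsl_et (LP (LK LD1_c4 LD2_c21 LD3_c39)) = (LP (LK LD1_c8 LD2_c40 LD3_c55)) :=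
  Lre_e IH (LK LD1_c4 LD2_c21 LD3_c39) (LK LD1_c8 LD2_c40 LD3_c55) Lrfl Lrfl
theorem f271124 : Led Lsl_ft (LP (LK LD1_c8 LD2_c24 LD3_c20)) = (LP (LK LD1_c15 LD2_c48 LD3_c13)) :=
  Lre_f IH (LK LD1_c8 LD2_c24 LD3_c20) (LK LD1_c15 LD2_c48 LD3_c13) Lrfl Lrfl
theorem f228845 : Led Lsl_ct (LP (LK LD1_c4 LD2_c13 LD3_c11)) = (LP (LK LD1_c8 LD2_c25 LD3_c41)) :=
  Lre_c IH (LK LD1_c4 LD2_c13 LD3_c11) (LK LD1_c8 LD2_c25 LD3_c41) Lrfl Lrfl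
theorem f271112 : Led Lsl_ct (LP (LK LD1_c15 LD2_c48 LD3_c13)) = (LP (LK LD1_c8 LD2_c24 LD3_c22)) :=
  Lre_c IH (LK LD1_c15 LD2_c48 LD3_c13) (LK LD1_c8 LD2_c24 LD3_c22) Lrfl Lrfl
theorem f271113 : Led Lsl_at (LP (LK LD1_c8 LD2_c25 LD3_c41)) = (LP (LK LD1_c15 LD2_c48 LD3_c13)) :=
  Lgr Lrot107 (Lpe (f228845 IH) (Lpr_af (K20.f271088 IH) (Lpe (f271112 IH) (Lpn (LP (LK LD1_c15 LD2_c48 LD3_c13))))))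
theorem f271117 : Led Lsl_af (LP (LK LD1_c8 LD2_c25 LD3_c41)) = (LP (LK LD1_c15 LD2_c48 LD3_c13)) :=
  Lgr Lrot0 (Lpr_at (f271113 IH) (Lpn (LP (LK LD1_c15 LD2_c48 LD3_c13))))
theorem f298671 : Led Lsl_gt (LP (LK LD1_c8 LD2_c40 LD3_c55)) = (LP (LK LD1_c8 LD2_c25 LD3_c41)) :=
  Lgr Lrot46 (Lpr_gf (K18.f298667 IH) (Lpr_ft (f271124 IH) (Lpe (f271117 IH) (Lpn (LP (LK LD1_c8 LD2_c25 LD3_c41))))))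
theorem f347218 : Led Lsl_ef (LP (LK LD1_c8 LD2_c25 LD3_c41)) = (LP (LK LD1_c15 LD2_c48 LD3_c3)) :=
  Lgr Lrot17 (Lpe (f298671 IH) (Lpe (f262702 IH) (Lpr_dt (K16.f246687 IH) (Lpe (K17.f270696 IH) (Lpe (K17.f222157 IH) (Lpe (K17.f257918 IH) (Lpe (f53945 IH) (Lpr_dt (f53946 IH) (Lpr_gf (f347214 IH) (Lpe (f326861 IH) (Lpn (LP (LK LD1_c15 LD2_c48 LD3_c3)))))))))))))
theorem f321375 : Led Lsl_ct (LP (LK LD1_c8 LD2_c37 LD3_c13)) = (LP (LK LD1_c4 LD2_c19 LD3_c29)) :=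
  Lre_c IH (LK LD1_c8 LD2_c37 LD3_c13) (LK LD1_c4 LD2_c19 LD3_c29) Lrfl Lrfl
theorem f322225 : Led Lsl_ff (LP (LK LD1_c8 LD2_c37 LD3_c13)) = (LP (LK LD1_c8 LD2_c25 LD3_c41)) :=
  Lgr Lrot23 (Lpr_ct (f321375 IH) (Lpr_ft (K20.f322221 IH) (Lpr_ct (f228845 IH) (Lpn (LP (LK LD1_c8 LD2_c25 LD3_c41))))))
theorem f189119 : Led Lsl_et (LP (LK LD1_c8 LD2_c37 LD3_c13)) = (LP (LK LD1_c4 LD2_c19 LD3_c28)) :=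
  Lre_e IH (LK LD1_c8 LD2_c37 LD3_c13) (LK LD1_c4 LD2_c19 LD3_c28) Lrfl Lrfl
theorem f347226 : Led Lsl_ft (LP (LK LD1_c8 LD2_c24 LD3_c12)) = (LP (LK LD1_c15 LD2_c48 LD3_c3)) :=
  Lre_f IH (LK LD1_c8 LD2_c24 LD3_c12) (LK LD1_c15 LD2_c48 LD3_c3) Lrfl Lrfl
theorem f270957 : Led Lsl_et (LP (LK LD1_c4 LD2_c12 LD3_c19)) = (LP (LK LD1_c8 LD2_c24 LD3_c12)) :=
  Lre_e IH (LK LD1_c4 LD2_c12 LD3_c19) (LK LD1_c8 LD2_c24 LD3_c12) Lrfl Lrfl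
theorem f347227 : Led Lsl_ft (LP (LK LD1_c4 LD2_c19 LD3_c28)) = (LP (LK LD1_c4 LD2_c12 LD3_c19)) :=
  Lgr Lrot86 (Lpe (f189119 IH) (Lpr_ff (f322225 IH) (Lpr_ef (f347218 IH) (Lpe (f347226 IH) (Lpe (f270957 IH) (Lpn (LP (LK LD1_c4 LD2_c12 LD3_c19))))))))
theorem f347231 : Led Lsl_ff (LP (LK LD1_c4 LD2_c19 LD3_c28)) = (LP (LK LD1_c4 LD2_c12 LD3_c19)) :=
  Lgr Lrot3 (Lpr_ft (f347227 IH) (Lpn (LP (LK LD1_c4 LD2_c12 LD3_c19))))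
theorem f347236 : Led Lsl_at (LP (LK LD1_c4 LD2_c19 LD3_c28)) = (LP (LK LD1_c4 LD2_c12 LD3_c22)) :=
  Lgr Lrot26 (Lpr_ff (f347231 IH) (Lpr_gt (K12.f167092 IH) (Lpr_gt (K17.f271017 IH) (Lpn (LP (LK LD1_c4 LD2_c12 LD3_c22))))))
theorem f334024 : Led Lsl_ft (LP (LK LD1_c4 LD2_c12 LD3_c22)) = (LP (LK LD1_c4 LD2_c19 LD3_c31)) :=
  Lgr Lrot54 (Lpe (K17.f276564 IH) (Lpr_ff (K22.f334018 IH) (Lpe (K16.f267199 IH) (Lpn (LP (LK LD1_c4 LD2_c19 LD3_c31))))))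
theorem f347239 : Led Lsl_af (LP (LK LD1_c4 LD2_c12 LD3_c19)) = (LP (LK LD1_c4 LD2_c19 LD3_c31)) :=
  Lgr Lrot45 (Lpe (f347231 IH) (Lpr_at (f347236 IH) (Lpr_ft (f334024 IH) (Lpn (LP (LK LD1_c4 LD2_c19 LD3_c31))))))
theorem f324676 : Led Lsl_et (LP (LK LD1_c8 LD2_c37 LD3_c17)) = (LP (LK LD1_c4 LD2_c19 LD3_c31)) :=
  Lre_e IH (LK LD1_c8 LD2_c37 LD3_c17) (LK LD1_c4 LD2_c19 LD3_c31) Lrfl Lrfl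
theorem f347243 : Led Lsl_at (LP (LK LD1_c8 LD2_c24 LD3_c12)) = (LP (LK LD1_c8 LD2_c37 LD3_c17)) :=
  Lgr Lrot80 (Lpe (f270957 IH) (Lpr_af (f347239 IH) (Lpe (f324676 IH) (Lpn (LP (LK LD1_c8 LD2_c37 LD3_c17))))))
theorem f246745 : Led Lsl_dt (LP (LK LD1_c15 LD2_c48 LD3_c2)) = (LP (LK LD1_c8 LD2_c24 LD3_c12)) :=
  Lre_d IH (LK LD1_c15 LD2_c48 LD3_c2) (LK LD1_c8 LD2_c24 LD3_c12) Lrfl Lrfl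
theorem f306744 : Led Lsl_dt (LP (LK LD1_c8 LD2_c37 LD3_c17)) = (LP (LK LD1_c16 LD2_c9 LD3_c3)) :=
  Lre_d IH (LK LD1_c8 LD2_c37 LD3_c17) (LK LD1_c16 LD2_c9 LD3_c3) Lrfl Lrfl
theorem f347249 : Led Lsl_af (LP (LK LD1_c15 LD2_c48 LD3_c2)) = (LP (LK LD1_c16 LD2_c9 LD3_c3)) :=
  Lgr Lrot117 (Lpr_dt (f246745 IH) (Lpr_at (f347243 IH) (Lpr_dt (f306744 IH) (Lpn (LP (LK LD1_c16 LD2_c9 LD3_c3))))))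
theorem f219715 : Led Lsl_et (LP (LK LD1_c8 LD2_c24 LD3_c12)) = (LP (LK LD1_c4 LD2_c12 LD3_c19)) :=
  Lre_e IH (LK LD1_c8 LD2_c24 LD3_c12) (LK LD1_c4 LD2_c12 LD3_c19) Lrfl Lrfl
theorem f219716 : Led Lsl_dt (LP (LK LD1_c8 LD2_c24 LD3_c12)) = (LP (LK LD1_c15 LD2_c48 LD3_c2)) :=
  Lre_d IH (LK LD1_c8 LD2_c24 LD3_c12) (LK LD1_c15 LD2_c48 LD3_c2) Lrfl Lrfl
theorem f270763 : Led Lsl_et (LP (LK LD1_c14 LD2_c57 LD3_c24)) = (LP (LK LD1_c7 LD2_c55 LD3_c43)) :=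
  Lre_e IH (LK LD1_c14 LD2_c57 LD3_c24) (LK LD1_c7 LD2_c55 LD3_c43) Lrfl Lrfl
theorem f270764 : Led Lsl_dt (LP (LK LD1_c14 LD2_c57 LD3_c24)) = (LP (LK LD1_c24 LD2_c44 LD3_c59)) :=
  Lre_d IH (LK LD1_c14 LD2_c57 LD3_c24) (LK LD1_c24 LD2_c44 LD3_c59) Lrfl Lrfl
theorem f292377 : Led Lsl_gf (LP (LK LD1_c15 LD2_c48 LD3_c2)) = (LP (LK LD1_c24 LD2_c44 LD3_c59)) :=
  Lgr Lrot145 (Lpe (f219716 IH) (Lpr_et (f219715 IH) (Lpr_gt (K12.f167092 IH) (Lpr_dt (K18.f167209 IH) (Lpr_gt (K18.f292374 IH) (Lpe (K16.f53962 IH) (Lpe (K12.f53981 IH) (Lpe (K16.f270757 IH) (Lpe (f270763 IH) (Lpr_dt (f270764 IH) (Lpn (LP (LK LD1_c24 LD2_c44 LD3_c59)))))))))))))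
theorem f301303 : Led Lsl_ft (LP (LK LD1_c26 LD2_c5 LD3_c51)) = (LP (LK LD1_c16 LD2_c9 LD3_c3)) :=
  Lre_f IH (LK LD1_c26 LD2_c5 LD3_c51) (LK LD1_c16 LD2_c9 LD3_c3) Lrfl Lrfl
theorem f347255 : Led Lsl_gf (LP (LK LD1_c24 LD2_c44 LD3_c59)) = (LP (LK LD1_c26 LD2_c5 LD3_c51)) :=
  Lgr Lrot47 (Lpe (f292377 IH) (Lpr_af (f347249 IH) (Lpe (f301303 IH) (Lpn (LP (LK LD1_c26 LD2_c5 LD3_c51))))))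
theorem f298713 : Led Lsl_et (LP (LK LD1_c4 LD2_c15 LD3_c54)) = (LP (LK LD1_c8 LD2_c30 LD3_c50)) :=
  Lre_e IH (LK LD1_c4 LD2_c15 LD3_c54) (LK LD1_c8 LD2_c30 LD3_c50) Lrfl Lrfl
theorem f301293 : Led Lsl_dt (LP (LK LD1_c16 LD2_c9 LD3_c4)) = (LP (LK LD1_c26 LD2_c5 LD3_c51)) :=
  Lre_d IH (LK LD1_c16 LD2_c9 LD3_c4) (LK LD1_c26 LD2_c5 LD3_c51) Lrfl Lrfl
theorem f347257 : Led Lsl_ef (LP (LK LD1_c15 LD2_c48 LD3_c13)) = (LP (LK LD1_c16 LD2_c9 LD3_c4)) :=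
  Lgr Lrot17 (Lpe (K20.f322291 IH) (Lpe (f298713 IH) (Lpr_dt (K19.f179706 IH) (Lpe (K17.f270724 IH) (Lpe (K12.f188828 IH) (Lpr_gf (K13.f232895 IH) (Lpe (f270763 IH) (Lpr_dt (f270764 IH) (Lpr_gf (f347255 IH) (Lpe (f301293 IH) (Lpn (LP (LK LD1_c16 LD2_c9 LD3_c4)))))))))))))
theorem f301292 : Led Lsl_ct (LP (LK LD1_c8 LD2_c37 LD3_c19)) = (LP (LK LD1_c16 LD2_c9 LD3_c4)) :=
  Lre_c IH (LK LD1_c8 LD2_c37 LD3_c19) (LK LD1_c16 LD2_c9 LD3_c4) Lrfl Lrfl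
theorem f347261 : Led Lsl_et (LP (LK LD1_c8 LD2_c24 LD3_c22)) = (LP (LK LD1_c8 LD2_c37 LD3_c19)) :=
  Lgr Lrot158 (Lpe (f271112 IH) (Lpr_ef (f347257 IH) (Lpe (f301292 IH) (Lpn (LP (LK LD1_c8 LD2_c37 LD3_c19))))))
theorem f347268 : Led Lsl_gt (LP (LK LD1_c8 LD2_c24 LD3_c13)) = (LP (LK LD1_c8 LD2_c37 LD3_c19)) :=
  Lgr Lrot131 (Lpe (K16.f278182 IH) (Lpe (K16.f278188 IH) (Lpe (K16.f188792 IH) (Lpr_df (K12.f188784 IH) (Lpe (K21.f328204 IH) (Lpe (K21.f328201 IH) (Lpr_dt (K21.f328190 IH) (Lpr_gf (K21.f328213 IH) (Lpr_df (K21.f271079 IH) (Lpr_et (f347261 IH) (Lpn (LP (LK LD1_c8 LD2_c37 LD3_c19)))))))))))))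
theorem f167202 : Led Lsl_ct (LP (LK LD1_c8 LD2_c24 LD3_c13)) = (LP (LK LD1_c15 LD2_c48 LD3_c4)) :=
  Lre_c IH (LK LD1_c8 LD2_c24 LD3_c13) (LK LD1_c15 LD2_c48 LD3_c4) Lrfl Lrfl
theorem f260804 : Led Lsl_bf (LP (LK LD1_c4 LD2_c10 LD3_c12)) = (LP (LK LD1_c8 LD2_c17 LD3_c60)) :=
  Lgr Lrot24 (Lpr_bt (K15.f260802 IH) (Lpn (LP (LK LD1_c8 LD2_c17 LD3_c60))))
theorem f182304 : Led Lsl_ct (LP (LK LD1_c4 LD2_c10 LD3_c12)) = (LP (LK LD1_c8 LD2_c20 LD3_c32)) :=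
  Lre_c IH (LK LD1_c4 LD2_c10 LD3_c12) (LK LD1_c8 LD2_c20 LD3_c32) Lrfl Lrfl
theorem f182311 : Led Lsl_bt (LP (LK LD1_c8 LD2_c20 LD3_c32)) = (LP (LK LD1_c15 LD2_c42 LD3_c3)) :=
  Lre_b IH (LK LD1_c8 LD2_c20 LD3_c32) (LK LD1_c15 LD2_c42 LD3_c3) Lrfl Lrfl
theorem f260785 : Led Lsl_et (LP (LK LD1_c4 LD2_c19 LD3_c34)) = (LP (LK LD1_c8 LD2_c37 LD3_c25)) :=
  Lre_e IH (LK LD1_c4 LD2_c19 LD3_c34) (LK LD1_c8 LD2_c37 LD3_c25) Lrfl Lrfl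
theorem f260786 : Led Lsl_ct (LP (LK LD1_c8 LD2_c37 LD3_c25)) = (LP (LK LD1_c8 LD2_c17 LD3_c60)) :=
  Lgr Lrot15 (Lpe (f260785 IH) (Lpr_cf (K15.f260773 IH) (Lpe (K15.f219602 IH) (Lpn (LP (LK LD1_c8 LD2_c17 LD3_c60))))))
theorem f260816 : Led Lsl_bt (LP (LK LD1_c16 LD2_c9 LD3_c15)) = (LP (LK LD1_c8 LD2_c37 LD3_c25)) :=
  Lre_b IH (LK LD1_c16 LD2_c9 LD3_c15) (LK LD1_c8 LD2_c37 LD3_c25) Lrfl Lrfl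
theorem f260817 : Led Lsl_ct (LP (LK LD1_c15 LD2_c42 LD3_c3)) = (LP (LK LD1_c16 LD2_c9 LD3_c15)) :=
  Lgr Lrot83 (Lpe (f182311 IH) (Lpe (f182304 IH) (Lpr_bf (f260804 IH) (Lpe (f260786 IH) (Lpe (f260816 IH) (Lpn (LP (LK LD1_c16 LD2_c9 LD3_c15))))))))
theorem f260831 : Led Lsl_ft (LP (LK LD1_c25 LD2_c37 LD3_c43)) = (LP (LK LD1_c15 LD2_c42 LD3_c3)) :=
  Lre_f IH (LK LD1_c25 LD2_c37 LD3_c43) (LK LD1_c15 LD2_c42 LD3_c3) Lrfl Lrfl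
theorem f260832 : Led Lsl_ft (LP (LK LD1_c16 LD2_c9 LD3_c15)) = (LP (LK LD1_c26 LD2_c5 LD3_c57)) :=
  Lre_f IH (LK LD1_c16 LD2_c9 LD3_c15) (LK LD1_c26 LD2_c5 LD3_c57) Lrfl Lrfl
theorem f260833 : Led Lsl_cf (LP (LK LD1_c25 LD2_c37 LD3_c43)) = (LP (LK LD1_c26 LD2_c5 LD3_c57)) :=
  Lgr Lrot108 (Lpr_ft (f260831 IH) (Lpr_ct (f260817 IH) (Lpr_ft (f260832 IH) (Lpn (LP (LK LD1_c26 LD2_c5 LD3_c57))))))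
theorem f260841 : Led Lsl_ct (LP (LK LD1_c25 LD2_c37 LD3_c43)) = (LP (LK LD1_c26 LD2_c5 LD3_c57)) :=
  Lgr Lrot59 (Lpr_cf (f260833 IH) (Lpn (LP (LK LD1_c26 LD2_c5 LD3_c57))))
theorem f182300 : Led Lsl_bt (LP (LK LD1_c15 LD2_c42 LD3_c8)) = (LP (LK LD1_c25 LD2_c37 LD3_c43)) :=
  Lre_b IH (LK LD1_c15 LD2_c42 LD3_c8) (LK LD1_c25 LD2_c37 LD3_c43) Lrfl Lrfl
theorem f260843 : Led Lsl_bt (LP (LK LD1_c26 LD2_c5 LD3_c57)) = (LP (LK LD1_c16 LD2_c9 LD3_c16)) :=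
  Lre_b IH (LK LD1_c26 LD2_c5 LD3_c57) (LK LD1_c16 LD2_c9 LD3_c16) Lrfl Lrfl
theorem f260844 : Led Lsl_cf (LP (LK LD1_c15 LD2_c36 LD3_c29)) = (LP (LK LD1_c16 LD2_c9 LD3_c16)) :=
  Lgr Lrot97 (Lpe (K15.f260808 IH) (Lpr_ct (f182292 IH) (Lpr_bt (f182300 IH) (Lpr_ct (f260841 IH) (Lpr_bt (f260843 IH) (Lpn (LP (LK LD1_c16 LD2_c9 LD3_c16))))))))
theorem f320323 : Led Lsl_gt (LP (LK LD1_c15 LD2_c48 LD3_c4)) = (LP (LK LD1_c16 LD2_c9 LD3_c16)) :=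
  Lgr Lrot150 (Lpe (f167202 IH) (Lpe (K16.f167128 IH) (Lpe (K14.f246747 IH) (Lpr_gt (K21.f320318 IH) (Lpr_ct (K21.f306609 IH) (Lpr_gt (K21.f306638 IH) (Lpr_ct (K21.f301595 IH) (Lpr_df (K15.f261034 IH) (Lpr_cf (f260844 IH) (Lpn (LP (LK LD1_c16 LD2_c9 LD3_c16))))))))))))
theorem f270589 : Led Lsl_gt (LP (LK LD1_c17 LD2_c42 LD3_c6)) = (LP (LK LD1_c9 LD2_c36 LD3_c45)) :=
  Lre_g IH (LK LD1_c17 LD2_c42 LD3_c6) (LK LD1_c9 LD2_c36 LD3_c45) Lrfl Lrfl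
theorem f267465 : Led Lsl_ff (LP (LK LD1_c4 LD2_c19 LD3_c34)) = (LP (LK LD1_c4 LD2_c12 LD3_c25)) :=
  Lgr Lrot23 (Lpr_ct (K17.f260782 IH) (Lpr_ft (K15.f267461 IH) (Lpe (K15.f166491 IH) (Lpn (LP (LK LD1_c4 LD2_c12 LD3_c25))))))
theorem f260848 : Led Lsl_ft (LP (LK LD1_c8 LD2_c37 LD3_c25)) = (LP (LK LD1_c16 LD2_c9 LD3_c16)) :=
  Lre_f IH (LK LD1_c8 LD2_c37 LD3_c25) (LK LD1_c16 LD2_c9 LD3_c16) Lrfl Lrfl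
theorem f284639 : Led Lsl_et (LP (LK LD1_c16 LD2_c9 LD3_c16)) = (LP (LK LD1_c15 LD2_c43 LD3_c56)) :=
  Lgr Lrot69 (Lpe (f260848 IH) (Lpe (f260785 IH) (Lpr_ff (f267465 IH) (Lpe (K17.f166525 IH) (Lpr_ff (K17.f284637 IH) (Lpn (LP (LK LD1_c15 LD2_c43 LD3_c56))))))))
theorem f336632 : Led Lsl_df (LP (LK LD1_c17 LD2_c42 LD3_c6)) = (LP (LK LD1_c16 LD2_c9 LD3_c16)) :=
  Lgr Lrot170 (Lpr_gt (f270589 IH) (Lpe (K20.f270586 IH) (Lpr_et (K20.f270585 IH) (Lpr_gt (K16.f222092 IH) (Lpe (K16.f270564 IH) (Lpr_gt (K19.f304777 IH) (Lpe (K14.f251908 IH) (Lpr_et (K17.f251952 IH) (Lpr_gt (K22.f336628 IH) (Lpe (f284639 IH) (Lpn (LP (LK LD1_c16 LD2_c9 LD3_c16)))))))))))))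
theorem f301184 : Led Lsl_ft (LP (LK LD1_c8 LD2_c37 LD3_c19)) = (LP (LK LD1_c4 LD2_c19 LD3_c32)) :=
  Lre_f IH (LK LD1_c8 LD2_c37 LD3_c19) (LK LD1_c4 LD2_c19 LD3_c32) Lrfl Lrfl
theorem f301185 : Led Lsl_dt (LP (LK LD1_c7 LD2_c58 LD3_c9)) = (LP (LK LD1_c8 LD2_c37 LD3_c19)) :=
  Lgr Lrot60 (Lpe (K19.f301183 IH) (Lpr_df (K19.f301162 IH) (Lpe (f301184 IH) (Lpn (LP (LK LD1_c8 LD2_c37 LD3_c19))))))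
theorem f301294 : Led Lsl_df (LP (LK LD1_c7 LD2_c58 LD3_c9)) = (LP (LK LD1_c8 LD2_c37 LD3_c19)) :=
  Lgr Lrot38 (Lpr_dt (f301185 IH) (Lpn (LP (LK LD1_c8 LD2_c37 LD3_c19))))
theorem f347272 : Led Lsl_gf (LP (LK LD1_c4 LD2_c31 LD3_c39)) = (LP (LK LD1_c7 LD2_c58 LD3_c9)) :=
  Lgr Lrot143 (Lpr_dt (K18.f301635 IH) (Lpe (K21.f274517 IH) (Lpe (K21.f270595 IH) (Lpe (f270589 IH) (Lpr_df (f336632 IH) (Lpe (f320323 IH) (Lpe (f167202 IH) (Lpr_gt (f347268 IH) (Lpe (f301294 IH) (Lpn (LP (LK LD1_c7 LD2_c58 LD3_c9))))))))))))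
theorem f295746 : Led Lsl_gt (LP (LK LD1_c5 LD2_c30 LD3_c10)) = (LP (LK LD1_c10 LD2_c51 LD3_c46)) :=
  Lre_g IH (LK LD1_c5 LD2_c30 LD3_c10) (LK LD1_c10 LD2_c51 LD3_c46) Lrfl Lrfl
theorem f301289 : Led Lsl_bt (LP (LK LD1_c15 LD2_c1 LD3_c51)) = (LP (LK LD1_c7 LD2_c58 LD3_c9)) :=
  Lre_b IH (LK LD1_c15 LD2_c1 LD3_c51) (LK LD1_c7 LD2_c58 LD3_c9) Lrfl Lrfl
theorem f347278 : Led Lsl_cf (LP (LK LD1_c10 LD2_c51 LD3_c46)) = (LP (LK LD1_c15 LD2_c1 LD3_c51)) :=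
  Lgr Lrot58 (Lpe (f295746 IH) (Lpe (K21.f295745 IH) (Lpr_bt (K21.f326604 IH) (Lpe (K21.f227000 IH) (Lpe (K21.f261046 IH) (Lpr_ct (K21.f237138 IH) (Lpe (K18.f301607 IH) (Lpe (K18.f301591 IH) (Lpr_gf (f347272 IH) (Lpe (f301289 IH) (Lpn (LP (LK LD1_c15 LD2_c1 LD3_c51)))))))))))))
theorem f305671 : Led Lsl_ff (LP (LK LD1_c2 LD2_c45 LD3_c46)) = (LP (LK LD1_c4 LD2_c31 LD3_c39)) :=
  Lgr Lrot23 (Lpr_ct (K19.f228318 IH) (Lpr_ft (K19.f305665 IH) (Lpr_ct (K19.f212627 IH) (Lpn (LP (LK LD1_c4 LD2_c31 LD3_c39))))))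
theorem f306603 : Led Lsl_af (LP (LK LD1_c4 LD2_c31 LD3_c39)) = (LP (LK LD1_c7 LD2_c58 LD3_c8)) :=
  Lgr Lrot45 (Lpe (f305671 IH) (Lpr_at (f305697 IH) (Lpr_ft (K21.f306601 IH) (Lpn (LP (LK LD1_c7 LD2_c58 LD3_c8))))))
theorem f347274 : Led Lsl_gt (LP (LK LD1_c5 LD2_c39 LD3_c40)) = (LP (LK LD1_c7 LD2_c58 LD3_c9)) :=
  Lgr Lrot5 (Lpr_ft (K21.f306601 IH) (Lpe (f306603 IH) (Lpr_gf (f347272 IH) (Lpn (LP (LK LD1_c7 LD2_c58 LD3_c9))))))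
theorem f320310 : Led Lsl_gf (LP (LK LD1_c10 LD2_c31 LD3_c12)) = (LP (LK LD1_c5 LD2_c39 LD3_c46)) :=
  Lgr Lrot76 (Lpr_af (K19.f310890 IH) (Lpe (K19.f310889 IH) (Lpr_gt (K21.f320306 IH) (Lpn (LP (LK LD1_c5 LD2_c39 LD3_c46))))))
theorem f320312 : Led Lsl_gt (LP (LK LD1_c10 LD2_c31 LD3_c12)) = (LP (LK LD1_c16 LD2_c51 LD3_c13)) :=
  Lgr Lrot46 (Lpr_gf (f320310 IH) (Lpe (K19.f307078 IH) (Lpr_at (K21.f307080 IH) (Lpn (LP (LK LD1_c16 LD2_c51 LD3_c13))))))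
theorem f258356 : Led Lsl_ct (LP (LK LD1_c5 LD2_c20 LD3_c36)) = (LP (LK LD1_c10 LD2_c31 LD3_c12)) :=
  Lre_c IH (LK LD1_c5 LD2_c20 LD3_c36) (LK LD1_c10 LD2_c31 LD3_c12) Lrfl Lrfl
theorem f236191 : Led Lsl_bt (LP (LK LD1_c5 LD2_c30 LD3_c12)) = (LP (LK LD1_c2 LD2_c41 LD3_c22)) :=
  Lre_b IH (LK LD1_c5 LD2_c30 LD3_c12) (LK LD1_c2 LD2_c41 LD3_c22) Lrfl Lrfl
theorem f261358 : Led Lsl_et (LP (LK LD1_c5 LD2_c4 LD3_c50)) = (LP (LK LD1_c5 LD2_c30 LD3_c12)) :=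
  Lgr Lrot74 (Lpr_bf (K15.f261352 IH) (Lpr_ef (K13.f236188 IH) (Lpe (f236191 IH) (Lpn (LP (LK LD1_c5 LD2_c30 LD3_c12))))))
theorem f261363 : Led Lsl_gf (LP (LK LD1_c5 LD2_c20 LD3_c36)) = (LP (LK LD1_c5 LD2_c30 LD3_c12)) :=
  Lgr Lrot141 (Lpe (f223751 IH) (Lpr_dt (K12.f169263 IH) (Lpr_gt (K12.f223739 IH) (Lpe (K9.f30858 IH) (Lpr_et (K9.f30870 IH) (Lpr_gt (K10.f188020 IH) (Lpe (K15.f253295 IH) (Lpr_gt (K15.f251585 IH) (Lpr_df (K17.f259584 IH) (Lpr_et (f261358 IH) (Lpn (LP (LK LD1_c5 LD2_c30 LD3_c12)))))))))))))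
theorem f236182 : Led Lsl_bt (LP (LK LD1_c2 LD2_c41 LD3_c22)) = (LP (LK LD1_c5 LD2_c30 LD3_c12)) :=
  Lre_b IH (LK LD1_c2 LD2_c41 LD3_c22) (LK LD1_c5 LD2_c30 LD3_c12) Lrfl Lrfl
theorem f236183 : Led Lsl_ct (LP (LK LD1_c2 LD2_c41 LD3_c22)) = (LP (LK LD1_c5 LD2_c30 LD3_c13)) :=
  Lre_c IH (LK LD1_c2 LD2_c41 LD3_c22) (LK LD1_c5 LD2_c30 LD3_c13) Lrfl Lrfl
theorem f347293 : Led Lsl_gt (LP (LK LD1_c10 LD2_c51 LD3_c46)) = (LP (LK LD1_c5 LD2_c30 LD3_c13)) :=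
  Lgr Lrot65 (Lpr_cf (f347278 IH) (Lpr_bt (f301289 IH) (Lpe (f347274 IH) (Lpr_bf (K21.f307160 IH) (Lpr_ct (K21.f307086 IH) (Lpe (f320312 IH) (Lpe (f258356 IH) (Lpr_gf (f261363 IH) (Lpe (f236182 IH) (Lpr_ct (f236183 IH) (Lpn (LP (LK LD1_c5 LD2_c30 LD3_c13)))))))))))))
theorem f347303 : Led Lsl_gf (LP (LK LD1_c15 LD2_c1 LD3_c51)) = (LP (LK LD1_c8 LD2_c18 LD3_c9)) :=
  Lgr Lrot181 (Lpe (f347278 IH) (Lpr_gt (f347293 IH) (Lpe (f236183 IH) (Lpr_bt (f236182 IH) (Lpe (f261363 IH) (Lpr_bf (K19.f310822 IH) (Lpr_ct (f279474 IH) (Lpe (K20.f300915 IH) (Lpe (K18.f212577 IH) (Lpr_bt (K18.f263580 IH) (Lpn (LP (LK LD1_c8 LD2_c18 LD3_c9)))))))))))))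
theorem f301300 : Led Lsl_bt (LP (LK LD1_c7 LD2_c58 LD3_c9)) = (LP (LK LD1_c15 LD2_c1 LD3_c51)) :=
  Lre_b IH (LK LD1_c7 LD2_c58 LD3_c9) (LK LD1_c15 LD2_c1 LD3_c51) Lrfl Lrfl
theorem f301301 : Led Lsl_ct (LP (LK LD1_c7 LD2_c58 LD3_c9)) = (LP (LK LD1_c15 LD2_c1 LD3_c61)) :=
  Lre_c IH (LK LD1_c7 LD2_c58 LD3_c9) (LK LD1_c15 LD2_c1 LD3_c61) Lrfl Lrfl
theorem f347312 : Led Lsl_gt (LP (LK LD1_c15 LD2_c1 LD3_c61)) = (LP (LK LD1_c15 LD2_c27 LD3_c61)) :=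
  Lgr Lrot65 (Lpe (f301301 IH) (Lpr_bt (f301300 IH) (Lpr_gf (f347303 IH) (Lpe (K18.f263580 IH) (Lpr_ct (K18.f212577 IH) (Lpr_gf (K20.f300915 IH) (Lpe (f279474 IH) (Lpe (K19.f312122 IH) (Lpe (K20.f270349 IH) (Lpr_ct (K21.f275844 IH) (Lpn (LP (LK LD1_c15 LD2_c27 LD3_c61)))))))))))))
theorem f306754 : Led Lsl_ft (LP (LK LD1_c15 LD2_c1 LD3_c61)) = (LP (LK LD1_c7 LD2_c58 LD3_c7)) :=
  Lre_f IH (LK LD1_c15 LD2_c1 LD3_c61) (LK LD1_c7 LD2_c58 LD3_c7) Lrfl Lrfl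
theorem f347316 : Led Lsl_at (LP (LK LD1_c7 LD2_c58 LD3_c7)) = (LP (LK LD1_c15 LD2_c0 LD3_c59)) :=
  Lgr Lrot26 (Lpe (f306754 IH) (Lpr_gt (f347312 IH) (Lpr_gt (K18.f290806 IH) (Lpn (LP (LK LD1_c15 LD2_c0 LD3_c59))))))
theorem f347341 : Led Lsl_ff (LP (LK LD1_c11 LD2_c10 LD3_c27)) = (LP (LK LD1_c15 LD2_c0 LD3_c59)) :=
  Lgr Lrot30 (Lpr_at (K19.f306741 IH) (Lpr_ft (f306754 IH) (Lpr_at (f347316 IH) (Lpn (LP (LK LD1_c15 LD2_c0 LD3_c59))))))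
theorem f347347 : Led Lsl_ft (LP (LK LD1_c11 LD2_c10 LD3_c27)) = (LP (LK LD1_c15 LD2_c0 LD3_c59)) :=
  Lgr Lrot48 (Lpr_ff (f347341 IH) (Lpn (LP (LK LD1_c15 LD2_c0 LD3_c59))))
theorem f306743 : Led Lsl_dt (LP (LK LD1_c20 LD2_c5 LD3_c7)) = (LP (LK LD1_c11 LD2_c10 LD3_c27)) :=
  Lre_d IH (LK LD1_c20 LD2_c5 LD3_c7) (LK LD1_c11 LD2_c10 LD3_c27) Lrfl Lrfl
theorem f246744 : Led Lsl_dt (LP (LK LD1_c15 LD2_c0 LD3_c59)) = (LP (LK LD1_c24 LD2_c48 LD3_c41)) :=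
  Lre_d IH (LK LD1_c15 LD2_c0 LD3_c59) (LK LD1_c24 LD2_c48 LD3_c41) Lrfl Lrfl
theorem f347353 : Led Lsl_ff (LP (LK LD1_c20 LD2_c5 LD3_c7)) = (LP (LK LD1_c24 LD2_c48 LD3_c41)) :=
  Lgr Lrot19 (Lpr_dt (f306743 IH) (Lpr_ft (f347347 IH) (Lpr_dt (f246744 IH) (Lpn (LP (LK LD1_c24 LD2_c48 LD3_c41))))))
theorem f301302 : Led Lsl_dt (LP (LK LD1_c15 LD2_c1 LD3_c61)) = (LP (LK LD1_c24 LD2_c50 LD3_c27)) :=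
  Lre_d IH (LK LD1_c15 LD2_c1 LD3_c61) (LK LD1_c24 LD2_c50 LD3_c27) Lrfl Lrfl
theorem f306752 : Led Lsl_af (LP (LK LD1_c20 LD2_c5 LD3_c7)) = (LP (LK LD1_c24 LD2_c50 LD3_c27)) :=
  Lgr Lrot117 (Lpr_dt (f306743 IH) (Lpr_at (K19.f306741 IH) (Lpr_dt (f301302 IH) (Lpn (LP (LK LD1_c24 LD2_c50 LD3_c27))))))
theorem f306755 : Led Lsl_at (LP (LK LD1_c20 LD2_c5 LD3_c7)) = (LP (LK LD1_c24 LD2_c50 LD3_c27)) :=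
  Lgr Lrot100 (Lpr_af (f306752 IH) (Lpn (LP (LK LD1_c24 LD2_c50 LD3_c27))))
theorem f301297 : Led Lsl_ft (LP (LK LD1_c24 LD2_c50 LD3_c27)) = (LP (LK LD1_c15 LD2_c1 LD3_c60)) :=
  Lre_f IH (LK LD1_c24 LD2_c50 LD3_c27) (LK LD1_c15 LD2_c1 LD3_c60) Lrfl Lrfl
theorem f347355 : Led Lsl_at (LP (LK LD1_c15 LD2_c1 LD3_c60)) = (LP (LK LD1_c24 LD2_c48 LD3_c41)) :=
  Lgr Lrot66 (Lpe (f301297 IH) (Lpe (f306755 IH) (Lpr_ff (f347353 IH) (Lpn (LP (LK LD1_c24 LD2_c48 LD3_c41))))))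
theorem f301375 : Led Lsl_et (LP (LK LD1_c24 LD2_c50 LD3_c20)) = (LP (LK LD1_c15 LD2_c1 LD3_c60)) :=
  Lre_e IH (LK LD1_c24 LD2_c50 LD3_c20) (LK LD1_c15 LD2_c1 LD3_c60) Lrfl Lrfl
theorem f290818 : Led Lsl_et (LP (LK LD1_c24 LD2_c48 LD3_c41)) = (LP (LK LD1_c31 LD2_c39 LD3_c41)) :=
  Lre_e IH (LK LD1_c24 LD2_c48 LD3_c41) (LK LD1_c31 LD2_c39 LD3_c41) Lrfl Lrfl
theorem f347369 : Led Lsl_af (LP (LK LD1_c24 LD2_c50 LD3_c20)) = (LP (LK LD1_c31 LD2_c39 LD3_c41)) :=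
  Lgr Lrot50 (Lpr_et (f301375 IH) (Lpr_at (f347355 IH) (Lpr_et (f290818 IH) (Lpn (LP (LK LD1_c31 LD2_c39 LD3_c41))))))
theorem f301376 : Led Lsl_dt (LP (LK LD1_c24 LD2_c50 LD3_c20)) = (LP (LK LD1_c15 LD2_c1 LD3_c57)) :=
  Lre_d IH (LK LD1_c24 LD2_c50 LD3_c20) (LK LD1_c15 LD2_c1 LD3_c57) Lrfl Lrfl
theorem f218131 : Led Lsl_dt (LP (LK LD1_c24 LD2_c48 LD3_c39)) = (LP (LK LD1_c31 LD2_c39 LD3_c41)) :=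
  Lre_d IH (LK LD1_c24 LD2_c48 LD3_c39) (LK LD1_c31 LD2_c39 LD3_c41) Lrfl Lrfl
theorem f347380 : Led Lsl_at (LP (LK LD1_c15 LD2_c1 LD3_c57)) = (LP (LK LD1_c24 LD2_c48 LD3_c39)) :=
  Lgr Lrot51 (Lpe (f301376 IH) (Lpr_af (f347369 IH) (Lpe (f218131 IH) (Lpn (LP (LK LD1_c24 LD2_c48 LD3_c39))))))
theorem f303296 : Led Lsl_et (LP (LK LD1_c7 LD2_c58 LD3_c6)) = (LP (LK LD1_c15 LD2_c1 LD3_c57)) :=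
  Lre_e IH (LK LD1_c7 LD2_c58 LD3_c6) (LK LD1_c15 LD2_c1 LD3_c57) Lrfl Lrfl
theorem f218130 : Led Lsl_et (LP (LK LD1_c24 LD2_c48 LD3_c39)) = (LP (LK LD1_c15 LD2_c0 LD3_c58)) :=
  Lre_e IH (LK LD1_c24 LD2_c48 LD3_c39) (LK LD1_c15 LD2_c0 LD3_c58) Lrfl Lrfl
theorem f347387 : Led Lsl_af (LP (LK LD1_c7 LD2_c58 LD3_c6)) = (LP (LK LD1_c15 LD2_c0 LD3_c58)) :=
  Lgr Lrot50 (Lpr_et (f303296 IH) (Lpr_at (f347380 IH) (Lpr_et (f218130 IH) (Lpn (LP (LK LD1_c15 LD2_c0 LD3_c58))))))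
theorem f261272 : Led Lsl_dt (LP (LK LD1_c3 LD2_c58 LD3_c22)) = (LP (LK LD1_c7 LD2_c58 LD3_c6)) :=
  Lre_d IH (LK LD1_c3 LD2_c58 LD3_c22) (LK LD1_c7 LD2_c58 LD3_c6) Lrfl Lrfl
theorem f267571 : Led Lsl_cf (LP (LK LD1_c10 LD2_c32 LD3_c51)) = (LP (LK LD1_c7 LD2_c58 LD3_c6)) :=
  Lgr Lrot55 (Lpe (K15.f233269 IH) (Lpr_ct (K22.f42756 IH) (Lpr_dt (K12.f42755 IH) (Lpr_ct (K10.f42760 IH) (Lpr_dt (K14.f42730 IH) (Lpr_ct (K15.f181401 IH) (Lpr_dt (K15.f223135 IH) (Lpr_ct (K15.f267560 IH) (Lpr_dt (K15.f229620 IH) (Lpr_ct (K15.f229621 IH) (Lpr_dt (K15.f229629 IH) (Lpe (K12.f219280 IH) (Lpr_dt (K12.f41374 IH) (Lpr_ct (K16.f228016 IH) (Lpr_dt (f261272 IH) (Lpn (LP (LK LD1_c7 LD2_c58 LD3_c6))))))))))))))))))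
theorem f296019 : Led Lsl_gt (LP (LK LD1_c15 LD2_c1 LD3_c38)) = (LP (LK LD1_c7 LD2_c58 LD3_c6)) :=
  Lgr Lrot146 (Lpr_dt (K18.f296005 IH) (Lpe (K12.f223126 IH) (Lpr_ct (K12.f218712 IH) (Lpr_gt (K12.f42732 IH) (Lpr_ct (K12.f42746 IH) (Lpr_dt (K1.f42747 IH) (Lpe (K15.f41921 IH) (Lpr_gf (K15.f219267 IH) (Lpr_cf (f267571 IH) (Lpn (LP (LK LD1_c7 LD2_c58 LD3_c6))))))))))))
theorem f347398 : Led Lsl_ft (LP (LK LD1_c7 LD2_c57 LD3_c59)) = (LP (LK LD1_c15 LD2_c0 LD3_c58)) :=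
  Lgr Lrot2 (Lpr_gt (K18.f223167 IH) (Lpr_gt (f296019 IH) (Lpr_af (f347387 IH) (Lpn (LP (LK LD1_c15 LD2_c0 LD3_c58))))))
theorem f347404 : Led Lsl_ff (LP (LK LD1_c7 LD2_c57 LD3_c59)) = (LP (LK LD1_c15 LD2_c0 LD3_c58)) :=
  Lgr Lrot3 (Lpr_ft (f347398 IH) (Lpn (LP (LK LD1_c15 LD2_c0 LD3_c58))))
theorem f347410 : Led Lsl_at (LP (LK LD1_c7 LD2_c57 LD3_c59)) = (LP (LK LD1_c15 LD2_c0 LD3_c55)) :=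
  Lgr Lrot26 (Lpr_ff (f347404 IH) (Lpe (K17.f290798 IH) (Lpe (K16.f253203 IH) (Lpn (LP (LK LD1_c15 LD2_c0 LD3_c55))))))
theorem f347391 : Led Lsl_at (LP (LK LD1_c7 LD2_c58 LD3_c6)) = (LP (LK LD1_c15 LD2_c0 LD3_c58)) :=
  Lgr Lrot100 (Lpr_af (f347387 IH) (Lpn (LP (LK LD1_c15 LD2_c0 LD3_c58))))
theorem f347418 : Led Lsl_ff (LP (LK LD1_c7 LD2_c58 LD3_c6)) = (LP (LK LD1_c15 LD2_c0 LD3_c55)) :=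
  Lgr Lrot30 (Lpr_at (f347391 IH) (Lpe (f347404 IH) (Lpr_at (f347410 IH) (Lpn (LP (LK LD1_c15 LD2_c0 LD3_c55))))))
theorem f347427 : Led Lsl_ft (LP (LK LD1_c7 LD2_c58 LD3_c6)) = (LP (LK LD1_c15 LD2_c0 LD3_c55)) :=
  Lgr Lrot48 (Lpr_ff (f347418 IH) (Lpn (LP (LK LD1_c15 LD2_c0 LD3_c55))))
theorem f347433 : Led Lsl_ff (LP (LK LD1_c3 LD2_c58 LD3_c22)) = (LP (LK LD1_c7 LD2_c57 LD3_c37)) :=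
  Lgr Lrot19 (Lpr_dt (f261272 IH) (Lpr_ft (f347427 IH) (Lpr_dt (K16.f199619 IH) (Lpn (LP (LK LD1_c7 LD2_c57 LD3_c37))))))
theorem f228021 : Led Lsl_bt (LP (LK LD1_c3 LD2_c58 LD3_c22)) = (LP (LK LD1_c7 LD2_c58 LD3_c5)) :=
  Lre_b IH (LK LD1_c3 LD2_c58 LD3_c22) (LK LD1_c7 LD2_c58 LD3_c5) Lrfl Lrfl
theorem f199694 : Led Lsl_bt (LP (LK LD1_c15 LD2_c0 LD3_c54)) = (LP (LK LD1_c7 LD2_c57 LD3_c37)) :=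
  Lre_b IH (LK LD1_c15 LD2_c0 LD3_c54) (LK LD1_c7 LD2_c57 LD3_c37) Lrfl Lrfl
theorem f347438 : Led Lsl_ft (LP (LK LD1_c7 LD2_c58 LD3_c5)) = (LP (LK LD1_c15 LD2_c0 LD3_c54)) :=
  Lgr Lrot75 (Lpe (f228021 IH) (Lpr_ff (f347433 IH) (Lpe (f199694 IH) (Lpn (LP (LK LD1_c15 LD2_c0 LD3_c54))))))
theorem f347446 : Led Lsl_ff (LP (LK LD1_c7 LD2_c58 LD3_c5)) = (LP (LK LD1_c15 LD2_c0 LD3_c54)) :=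
  Lgr Lrot3 (Lpr_ft (f347438 IH) (Lpn (LP (LK LD1_c15 LD2_c0 LD3_c54))))
theorem f234866 : Led Lsl_ct (LP (LK LD1_c7 LD2_c58 LD3_c5)) = (LP (LK LD1_c15 LD2_c1 LD3_c49)) :=
  Lre_c IH (LK LD1_c7 LD2_c58 LD3_c5) (LK LD1_c15 LD2_c1 LD3_c49) Lrfl Lrfl
theorem f199696 : Led Lsl_bt (LP (LK LD1_c4 LD2_c8 LD3_c34)) = (LP (LK LD1_c8 LD2_c17 LD3_c12)) :=
  Lre_b IH (LK LD1_c4 LD2_c8 LD3_c34) (LK LD1_c8 LD2_c17 LD3_c12) Lrfl Lrfl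
theorem f199697 : Led Lsl_cf (LP (LK LD1_c15 LD2_c0 LD3_c54)) = (LP (LK LD1_c8 LD2_c17 LD3_c12)) :=
  Lgr Lrot97 (Lpr_bt (f199694 IH) (Lpr_ct (K18.f199614 IH) (Lpr_bt (K13.f199688 IH) (Lpr_ct (K13.f199695 IH) (Lpr_bt (f199696 IH) (Lpn (LP (LK LD1_c8 LD2_c17 LD3_c12))))))))
theorem f347456 : Led Lsl_ft (LP (LK LD1_c15 LD2_c1 LD3_c49)) = (LP (LK LD1_c8 LD2_c17 LD3_c12)) :=
  Lgr Lrot4 (Lpe (f234866 IH) (Lpr_ff (f347446 IH) (Lpr_cf (f199697 IH) (Lpn (LP (LK LD1_c8 LD2_c17 LD3_c12))))))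
theorem f234873 : Led Lsl_at (LP (LK LD1_c24 LD2_c50 LD3_c3)) = (LP (LK LD1_c15 LD2_c1 LD3_c49)) :=
  Lre_a IH (LK LD1_c24 LD2_c50 LD3_c3) (LK LD1_c15 LD2_c1 LD3_c49) Lrfl Lrfl
theorem f199733 : Led Lsl_at (LP (LK LD1_c8 LD2_c17 LD3_c12)) = (LP (LK LD1_c15 LD2_c34 LD3_c60)) :=
  Lre_a IH (LK LD1_c8 LD2_c17 LD3_c12) (LK LD1_c15 LD2_c34 LD3_c60) Lrfl Lrfl
theorem f347465 : Led Lsl_ff (LP (LK LD1_c24 LD2_c50 LD3_c3)) = (LP (LK LD1_c15 LD2_c34 LD3_c60)) :=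
  Lgr Lrot30 (Lpr_at (f234873 IH) (Lpr_ft (f347456 IH) (Lpr_at (f199733 IH) (Lpn (LP (LK LD1_c15 LD2_c34 LD3_c60))))))
theorem f234769 : Led Lsl_df (LP (LK LD1_c8 LD2_c16 LD3_c24)) = (LP (LK LD1_c10 LD2_c23 LD3_c33)) :=
  Lgr Lrot38 (Lpr_dt (K14.f234758 IH) (Lpn (LP (LK LD1_c10 LD2_c23 LD3_c33))))
theorem f234851 : Led Lsl_dt (LP (LK LD1_c15 LD2_c33 LD3_c19)) = (LP (LK LD1_c18 LD2_c51 LD3_c19)) :=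
  Lgr Lrot79 (Lpe (K22.f189688 IH) (Lpr_df (f234769 IH) (Lpe (K22.f50501 IH) (Lpn (LP (LK LD1_c18 LD2_c51 LD3_c19))))))
theorem f339331 : Led Lsl_ff (LP (LK LD1_c15 LD2_c15 LD3_c55)) = (LP (LK LD1_c18 LD2_c51 LD3_c19)) :=
  Lgr Lrot25 (Lpr_bt (K22.f50524 IH) (Lpr_ft (K22.f339329 IH) (Lpr_bt (K22.f222977 IH) (Lpn (LP (LK LD1_c18 LD2_c51 LD3_c19))))))
theorem f339358 : Led Lsl_df (LP (LK LD1_c8 LD2_c18 LD3_c7)) = (LP (LK LD1_c15 LD2_c15 LD3_c55)) :=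
  Lgr Lrot78 (Lpr_ft (K22.f339348 IH) (Lpr_dt (f234851 IH) (Lpe (f339331 IH) (Lpn (LP (LK LD1_c15 LD2_c15 LD3_c55))))))
theorem f221798 : Led Lsl_at (LP (LK LD1_c8 LD2_c18 LD3_c7)) = (LP (LK LD1_c15 LD2_c36 LD3_c45)) :=
  Lre_a IH (LK LD1_c8 LD2_c18 LD3_c7) (LK LD1_c15 LD2_c36 LD3_c45) Lrfl Lrfl
theorem f339341 : Led Lsl_at (LP (LK LD1_c25 LD2_c5 LD3_c38)) = (LP (LK LD1_c15 LD2_c15 LD3_c55)) :=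
  Lre_a IH (LK LD1_c25 LD2_c5 LD3_c38) (LK LD1_c15 LD2_c15 LD3_c55) Lrfl Lrfl
theorem f339364 : Led Lsl_dt (LP (LK LD1_c15 LD2_c36 LD3_c45)) = (LP (LK LD1_c25 LD2_c5 LD3_c38)) :=
  Lgr Lrot44 (Lpe (f221798 IH) (Lpr_df (f339358 IH) (Lpe (f339341 IH) (Lpn (LP (LK LD1_c25 LD2_c5 LD3_c38))))))
theorem f339322 : Led Lsl_at (LP (LK LD1_c15 LD2_c15 LD3_c55)) = (LP (LK LD1_c25 LD2_c5 LD3_c38)) :=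
  Lre_a IH (LK LD1_c15 LD2_c15 LD3_c55) (LK LD1_c25 LD2_c5 LD3_c38) Lrfl Lrfl
theorem f50448 : Led Lsl_bt (LP (LK LD1_c18 LD2_c51 LD3_c21)) = (LP (LK LD1_c10 LD2_c23 LD3_c34)) :=
  Lre_b IH (LK LD1_c18 LD2_c51 LD3_c21) (LK LD1_c10 LD2_c23 LD3_c34) Lrfl Lrfl
theorem f234856 : Led Lsl_at (LP (LK LD1_c28 LD2_c19 LD3_c38)) = (LP (LK LD1_c18 LD2_c51 LD3_c21)) :=
  Lre_a IH (LK LD1_c28 LD2_c19 LD3_c38) (LK LD1_c18 LD2_c51 LD3_c21) Lrfl Lrfl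
theorem f339323 : Led Lsl_bt (LP (LK LD1_c25 LD2_c5 LD3_c38)) = (LP (LK LD1_c28 LD2_c19 LD3_c38)) :=
  Lgr Lrot62 (Lpe (f339322 IH) (Lpe (K22.f222697 IH) (Lpr_af (K22.f339318 IH) (Lpe (f50448 IH) (Lpe (f234856 IH) (Lpn (LP (LK LD1_c28 LD2_c19 LD3_c38))))))))
theorem f222921 : Led Lsl_bt (LP (LK LD1_c10 LD2_c23 LD3_c34)) = (LP (LK LD1_c18 LD2_c51 LD3_c21)) :=
  Lre_b IH (LK LD1_c10 LD2_c23 LD3_c34) (LK LD1_c18 LD2_c51 LD3_c21) Lrfl Lrfl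
theorem f228030 : Led Lsl_bt (LP (LK LD1_c15 LD2_c1 LD3_c49)) = (LP (LK LD1_c7 LD2_c58 LD3_c3)) :=
  Lre_b IH (LK LD1_c15 LD2_c1 LD3_c49) (LK LD1_c7 LD2_c58 LD3_c3) Lrfl Lrfl
theorem f234756 : Led Lsl_dt (LP (LK LD1_c18 LD2_c51 LD3_c21)) = (LP (LK LD1_c15 LD2_c1 LD3_c49)) :=
  Lgr Lrot79 (Lpe (f222921 IH) (Lpr_df (K14.f234753 IH) (Lpe (f228030 IH) (Lpn (LP (LK LD1_c15 LD2_c1 LD3_c49))))))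
theorem f234861 : Led Lsl_df (LP (LK LD1_c18 LD2_c51 LD3_c21)) = (LP (LK LD1_c15 LD2_c1 LD3_c49)) :=
  Lgr Lrot38 (Lpr_dt (f234756 IH) (Lpn (LP (LK LD1_c15 LD2_c1 LD3_c49))))
theorem f234872 : Led Lsl_at (LP (LK LD1_c18 LD2_c51 LD3_c21)) = (LP (LK LD1_c28 LD2_c19 LD3_c38)) :=
  Lre_a IH (LK LD1_c18 LD2_c51 LD3_c21) (LK LD1_c28 LD2_c19 LD3_c38) Lrfl Lrfl
theorem f234874 : Led Lsl_dt (LP (LK LD1_c28 LD2_c19 LD3_c38)) = (LP (LK LD1_c24 LD2_c50 LD3_c3)) :=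
  Lgr Lrot44 (Lpe (f234872 IH) (Lpr_df (f234861 IH) (Lpe (f234873 IH) (Lpn (LP (LK LD1_c24 LD2_c50 LD3_c3))))))
theorem f339367 : Led Lsl_bf (LP (LK LD1_c15 LD2_c36 LD3_c45)) = (LP (LK LD1_c24 LD2_c50 LD3_c3)) :=
  Lgr Lrot93 (Lpr_dt (f339364 IH) (Lpr_bt (f339323 IH) (Lpr_dt (f234874 IH) (Lpn (LP (LK LD1_c24 LD2_c50 LD3_c3))))))
theorem f234853 : Led Lsl_at (LP (LK LD1_c25 LD2_c26 LD3_c53)) = (LP (LK LD1_c15 LD2_c33 LD3_c19)) :=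
  Lre_a IH (LK LD1_c25 LD2_c26 LD3_c53) (LK LD1_c15 LD2_c33 LD3_c19) Lrfl Lrfl
theorem f339345 : Led Lsl_ft (LP (LK LD1_c15 LD2_c36 LD3_c45)) = (LP (LK LD1_c25 LD2_c26 LD3_c53)) :=
  Lgr Lrot101 (Lpe (f221798 IH) (Lpr_ff (K22.f339342 IH) (Lpe (f234853 IH) (Lpn (LP (LK LD1_c25 LD2_c26 LD3_c53))))))
theorem f347470 : Led Lsl_bt (LP (LK LD1_c25 LD2_c26 LD3_c53)) = (LP (LK LD1_c15 LD2_c34 LD3_c60)) :=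
  Lgr Lrot35 (Lpe (f339345 IH) (Lpr_bf (f339367 IH) (Lpr_ff (f347465 IH) (Lpn (LP (LK LD1_c15 LD2_c34 LD3_c60))))))
theorem f234854 : Led Lsl_at (LP (LK LD1_c15 LD2_c33 LD3_c19)) = (LP (LK LD1_c25 LD2_c26 LD3_c53)) :=
  Lre_a IH (LK LD1_c15 LD2_c33 LD3_c19) (LK LD1_c25 LD2_c26 LD3_c53) Lrfl Lrfl
theorem f199739 : Led Lsl_at (LP (LK LD1_c15 LD2_c34 LD3_c60)) = (LP (LK LD1_c8 LD2_c17 LD3_c12)) :=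
  Lre_a IH (LK LD1_c15 LD2_c34 LD3_c60) (LK LD1_c8 LD2_c17 LD3_c12) Lrfl Lrfl
theorem f199737 : Led Lsl_bt (LP (LK LD1_c8 LD2_c17 LD3_c12)) = (LP (LK LD1_c4 LD2_c8 LD3_c34)) :=
  Lre_b IH (LK LD1_c8 LD2_c17 LD3_c12) (LK LD1_c4 LD2_c8 LD3_c34) Lrfl Lrfl
theorem f347501 : Led Lsl_af (LP (LK LD1_c8 LD2_c16 LD3_c24)) = (LP (LK LD1_c4 LD2_c8 LD3_c34)) :=
  Lgr Lrot36 (Lpr_bt (K22.f189688 IH) (Lpr_at (f234854 IH) (Lpr_bt (f347470 IH) (Lpr_at (f199739 IH) (Lpr_bt (f199737 IH) (Lpn (LP (LK LD1_c4 LD2_c8 LD3_c34))))))))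
theorem f234778 : Led Lsl_et (LP (LK LD1_c8 LD2_c16 LD3_c24)) = (LP (LK LD1_c15 LD2_c33 LD3_c20)) :=
  Lre_e IH (LK LD1_c8 LD2_c16 LD3_c24) (LK LD1_c15 LD2_c33 LD3_c20) Lrfl Lrfl
theorem f226840 : Led Lsl_et (LP (LK LD1_c8 LD2_c17 LD3_c13)) = (LP (LK LD1_c4 LD2_c8 LD3_c34)) :=
  Lre_e IH (LK LD1_c8 LD2_c17 LD3_c13) (LK LD1_c4 LD2_c8 LD3_c34) Lrfl Lrfl
theorem f347503 : Led Lsl_at (LP (LK LD1_c15 LD2_c33 LD3_c20)) = (LP (LK LD1_c8 LD2_c17 LD3_c13)) :=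
  Lgr Lrot80 (Lpe (f234778 IH) (Lpr_af (f347501 IH) (Lpe (f226840 IH) (Lpn (LP (LK LD1_c8 LD2_c17 LD3_c13))))))
theorem f189662 : Led Lsl_dt (LP (LK LD1_c25 LD2_c26 LD3_c54)) = (LP (LK LD1_c15 LD2_c33 LD3_c20)) :=
  Lre_d IH (LK LD1_c25 LD2_c26 LD3_c54) (LK LD1_c15 LD2_c33 LD3_c20) Lrfl Lrfl
theorem f226841 : Led Lsl_dt (LP (LK LD1_c8 LD2_c17 LD3_c13)) = (LP (LK LD1_c15 LD2_c35 LD3_c0)) :=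
  Lre_d IH (LK LD1_c8 LD2_c17 LD3_c13) (LK LD1_c15 LD2_c35 LD3_c0) Lrfl Lrfl
theorem f347505 : Led Lsl_af (LP (LK LD1_c25 LD2_c26 LD3_c54)) = (LP (LK LD1_c15 LD2_c35 LD3_c0)) :=
  Lgr Lrot117 (Lpr_dt (f189662 IH) (Lpr_at (f347503 IH) (Lpr_dt (f226841 IH) (Lpn (LP (LK LD1_c15 LD2_c35 LD3_c0))))))
theorem f234771 : Led Lsl_et (LP (LK LD1_c15 LD2_c33 LD3_c20)) = (LP (LK LD1_c8 LD2_c16 LD3_c24)) :=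
  Lre_e IH (LK LD1_c15 LD2_c33 LD3_c20) (LK LD1_c8 LD2_c16 LD3_c24) Lrfl Lrfl
theorem f223024 : Led Lsl_et (LP (LK LD1_c10 LD2_c23 LD3_c33)) = (LP (LK LD1_c18 LD2_c51 LD3_c20)) :=
  Lre_e IH (LK LD1_c10 LD2_c23 LD3_c33) (LK LD1_c18 LD2_c51 LD3_c20) Lrfl Lrfl
theorem f49378 : Led Lsl_dt (LP (LK LD1_c18 LD2_c51 LD3_c20)) = (LP (LK LD1_c28 LD2_c19 LD3_c36)) :=
  Lre_d IH (LK LD1_c18 LD2_c51 LD3_c20) (LK LD1_c28 LD2_c19 LD3_c36) Lrfl Lrfl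
theorem f234772 : Led Lsl_ef (LP (LK LD1_c25 LD2_c26 LD3_c54)) = (LP (LK LD1_c28 LD2_c19 LD3_c36)) :=
  Lgr Lrot73 (Lpr_dt (f189662 IH) (Lpr_et (f234771 IH) (Lpr_dt (K14.f234758 IH) (Lpr_et (f223024 IH) (Lpr_dt (f49378 IH) (Lpn (LP (LK LD1_c28 LD2_c19 LD3_c36))))))))
theorem f234849 : Led Lsl_et (LP (LK LD1_c25 LD2_c26 LD3_c54)) = (LP (LK LD1_c28 LD2_c19 LD3_c36)) :=
  Lgr Lrot87 (Lpr_ef (f234772 IH) (Lpn (LP (LK LD1_c28 LD2_c19 LD3_c36))))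
theorem f199715 : Led Lsl_dt (LP (LK LD1_c15 LD2_c35 LD3_c0)) = (LP (LK LD1_c8 LD2_c17 LD3_c13)) :=
  Lre_d IH (LK LD1_c15 LD2_c35 LD3_c0) (LK LD1_c8 LD2_c17 LD3_c13) Lrfl Lrfl
theorem f234109 : Led Lsl_et (LP (LK LD1_c8 LD2_c6 LD3_c25)) = (LP (LK LD1_c15 LD2_c15 LD3_c54)) :=
  Lre_e IH (LK LD1_c8 LD2_c6 LD3_c25) (LK LD1_c15 LD2_c15 LD3_c54) Lrfl Lrfl
theorem f51398 : Led Lsl_dt (LP (LK LD1_c15 LD2_c15 LD3_c54)) = (LP (LK LD1_c25 LD2_c5 LD3_c36)) :=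
  Lre_d IH (LK LD1_c15 LD2_c15 LD3_c54) (LK LD1_c25 LD2_c5 LD3_c36) Lrfl Lrfl
theorem f234110 : Led Lsl_ef (LP (LK LD1_c15 LD2_c35 LD3_c0)) = (LP (LK LD1_c25 LD2_c5 LD3_c36)) :=
  Lgr Lrot73 (Lpr_dt (f199715 IH) (Lpr_et (f226840 IH) (Lpr_dt (K13.f233929 IH) (Lpr_et (f234109 IH) (Lpr_dt (f51398 IH) (Lpn (LP (LK LD1_c25 LD2_c5 LD3_c36))))))))
theorem f347511 : Led Lsl_at (LP (LK LD1_c28 LD2_c19 LD3_c36)) = (LP (LK LD1_c25 LD2_c5 LD3_c36)) :=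
  Lgr Lrot80 (Lpe (f234849 IH) (Lpr_af (f347505 IH) (Lpr_ef (f234110 IH) (Lpn (LP (LK LD1_c25 LD2_c5 LD3_c36))))))
theorem f347515 : Led Lsl_dt (LP (LK LD1_c25 LD2_c5 LD3_c36)) = (LP (LK LD1_c15 LD2_c15 LD3_c54)) :=
  Lre_d IH (LK LD1_c25 LD2_c5 LD3_c36) (LK LD1_c15 LD2_c15 LD3_c54) Lrfl Lrfl
theorem f347516 : Led Lsl_af (LP (LK LD1_c18 LD2_c51 LD3_c20)) = (LP (LK LD1_c15 LD2_c15 LD3_c54)) :=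
  Lgr Lrot117 (Lpr_dt (f49378 IH) (Lpr_at (f347511 IH) (Lpr_dt (f347515 IH) (Lpn (LP (LK LD1_c15 LD2_c15 LD3_c54))))))
theorem f223019 : Led Lsl_ft (LP (LK LD1_c18 LD2_c51 LD3_c20)) = (LP (LK LD1_c28 LD2_c19 LD3_c37)) :=
  Lre_f IH (LK LD1_c18 LD2_c51 LD3_c20) (LK LD1_c28 LD2_c19 LD3_c37) Lrfl Lrfl
theorem f339315 : Led Lsl_ft (LP (LK LD1_c25 LD2_c5 LD3_c37)) = (LP (LK LD1_c15 LD2_c15 LD3_c54)) :=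
  Lre_f IH (LK LD1_c25 LD2_c5 LD3_c37) (LK LD1_c15 LD2_c15 LD3_c54) Lrfl Lrfl
theorem f347522 : Led Lsl_at (LP (LK LD1_c28 LD2_c19 LD3_c37)) = (LP (LK LD1_c25 LD2_c5 LD3_c37)) :=
  Lgr Lrot66 (Lpe (f223019 IH) (Lpr_af (f347516 IH) (Lpe (f339315 IH) (Lpn (LP (LK LD1_c25 LD2_c5 LD3_c37))))))
theorem f222739 : Led Lsl_et (LP (LK LD1_c8 LD2_c6 LD3_c26)) = (LP (LK LD1_c15 LD2_c15 LD3_c56)) :=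
  Lre_e IH (LK LD1_c8 LD2_c6 LD3_c26) (LK LD1_c15 LD2_c15 LD3_c56) Lrfl Lrfl
theorem f222706 : Led Lsl_ft (LP (LK LD1_c15 LD2_c15 LD3_c56)) = (LP (LK LD1_c25 LD2_c5 LD3_c42)) :=
  Lre_f IH (LK LD1_c15 LD2_c15 LD3_c56) (LK LD1_c25 LD2_c5 LD3_c42) Lrfl Lrfl
theorem f49377 : Led Lsl_et (LP (LK LD1_c18 LD2_c51 LD3_c20)) = (LP (LK LD1_c10 LD2_c23 LD3_c33)) :=
  Lre_e IH (LK LD1_c18 LD2_c51 LD3_c20) (LK LD1_c10 LD2_c23 LD3_c33) Lrfl Lrfl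
theorem f223025 : Led Lsl_ft (LP (LK LD1_c28 LD2_c19 LD3_c37)) = (LP (LK LD1_c18 LD2_c51 LD3_c20)) :=
  Lre_f IH (LK LD1_c28 LD2_c19 LD3_c37) (LK LD1_c18 LD2_c51 LD3_c20) Lrfl Lrfl
theorem f339339 : Led Lsl_et (LP (LK LD1_c25 LD2_c5 LD3_c42)) = (LP (LK LD1_c28 LD2_c19 LD3_c37)) :=
  Lgr Lrot69 (Lpe (f222706 IH) (Lpe (f222739 IH) (Lpr_ff (K22.f339335 IH) (Lpe (f49377 IH) (Lpe (f223025 IH) (Lpn (LP (LK LD1_c28 LD2_c19 LD3_c37))))))))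
theorem f339308 : Led Lsl_ft (LP (LK LD1_c15 LD2_c15 LD3_c54)) = (LP (LK LD1_c25 LD2_c5 LD3_c37)) :=
  Lre_f IH (LK LD1_c15 LD2_c15 LD3_c54) (LK LD1_c25 LD2_c5 LD3_c37) Lrfl Lrfl
theorem f49374 : Led Lsl_et (LP (LK LD1_c18 LD2_c51 LD3_c22)) = (LP (LK LD1_c10 LD2_c23 LD3_c34)) :=
  Lre_e IH (LK LD1_c18 LD2_c51 LD3_c22) (LK LD1_c10 LD2_c23 LD3_c34) Lrfl Lrfl
theorem f222938 : Led Lsl_ft (LP (LK LD1_c28 LD2_c19 LD3_c43)) = (LP (LK LD1_c18 LD2_c51 LD3_c22)) :=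
  Lre_f IH (LK LD1_c28 LD2_c19 LD3_c43) (LK LD1_c18 LD2_c51 LD3_c22) Lrfl Lrfl
theorem f339309 : Led Lsl_et (LP (LK LD1_c25 LD2_c5 LD3_c37)) = (LP (LK LD1_c28 LD2_c19 LD3_c43)) :=
  Lgr Lrot69 (Lpe (f339308 IH) (Lpe (f234109 IH) (Lpr_ff (K22.f339304 IH) (Lpe (f49374 IH) (Lpe (f222938 IH) (Lpn (LP (LK LD1_c28 LD2_c19 LD3_c43))))))))
theorem f347527 : Led Lsl_af (LP (LK LD1_c25 LD2_c5 LD3_c42)) = (LP (LK LD1_c28 LD2_c19 LD3_c43)) :=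
  Lgr Lrot50 (Lpr_et (f339339 IH) (Lpr_at (f347522 IH) (Lpr_et (f339309 IH) (Lpn (LP (LK LD1_c28 LD2_c19 LD3_c43))))))
theorem f50527 : Led Lsl_et (LP (LK LD1_c15 LD2_c15 LD3_c56)) = (LP (LK LD1_c8 LD2_c6 LD3_c26)) :=
  Lre_e IH (LK LD1_c15 LD2_c15 LD3_c56) (LK LD1_c8 LD2_c6 LD3_c26) Lrfl Lrfl
theorem f222691 : Led Lsl_et (LP (LK LD1_c4 LD2_c8 LD3_c45)) = (LP (LK LD1_c8 LD2_c17 LD3_c39)) :=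
  Lre_e IH (LK LD1_c4 LD2_c8 LD3_c45) (LK LD1_c8 LD2_c17 LD3_c39) Lrfl Lrfl
theorem f222692 : Led Lsl_cf (LP (LK LD1_c15 LD2_c15 LD3_c56)) = (LP (LK LD1_c8 LD2_c17 LD3_c39)) :=
  Lgr Lrot39 (Lpr_et (f50527 IH) (Lpr_ct (K12.f222682 IH) (Lpr_et (f222691 IH) (Lpn (LP (LK LD1_c8 LD2_c17 LD3_c39))))))
theorem f222707 : Led Lsl_ft (LP (LK LD1_c15 LD2_c35 LD3_c53)) = (LP (LK LD1_c8 LD2_c17 LD3_c39)) :=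
  Lre_f IH (LK LD1_c15 LD2_c35 LD3_c53) (LK LD1_c8 LD2_c17 LD3_c39) Lrfl Lrfl
theorem f222708 : Led Lsl_ct (LP (LK LD1_c25 LD2_c5 LD3_c42)) = (LP (LK LD1_c15 LD2_c35 LD3_c53)) :=
  Lgr Lrot40 (Lpe (f222706 IH) (Lpr_cf (f222692 IH) (Lpe (f222707 IH) (Lpn (LP (LK LD1_c15 LD2_c35 LD3_c53))))))
theorem f222927 : Led Lsl_et (LP (LK LD1_c10 LD2_c23 LD3_c34)) = (LP (LK LD1_c18 LD2_c51 LD3_c22)) :=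
  Lre_e IH (LK LD1_c10 LD2_c23 LD3_c34) (LK LD1_c18 LD2_c51 LD3_c22) Lrfl Lrfl
theorem f222138 : Led Lsl_et (LP (LK LD1_c15 LD2_c33 LD3_c29)) = (LP (LK LD1_c8 LD2_c16 LD3_c28)) :=
  Lre_e IH (LK LD1_c15 LD2_c33 LD3_c29) (LK LD1_c8 LD2_c16 LD3_c28) Lrfl Lrfl
theorem f222928 : Led Lsl_ct (LP (LK LD1_c18 LD2_c51 LD3_c22)) = (LP (LK LD1_c15 LD2_c33 LD3_c29)) :=
  Lgr Lrot15 (Lpe (f222927 IH) (Lpr_cf (K14.f222917 IH) (Lpe (f222138 IH) (Lpn (LP (LK LD1_c15 LD2_c33 LD3_c29))))))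
theorem f222939 : Led Lsl_ft (LP (LK LD1_c15 LD2_c33 LD3_c29)) = (LP (LK LD1_c25 LD2_c27 LD3_c3)) :=
  Lre_f IH (LK LD1_c15 LD2_c33 LD3_c29) (LK LD1_c25 LD2_c27 LD3_c3) Lrfl Lrfl
theorem f222940 : Led Lsl_cf (LP (LK LD1_c28 LD2_c19 LD3_c43)) = (LP (LK LD1_c25 LD2_c27 LD3_c3)) :=
  Lgr Lrot108 (Lpr_ft (f222938 IH) (Lpr_ct (f222928 IH) (Lpr_ft (f222939 IH) (Lpn (LP (LK LD1_c25 LD2_c27 LD3_c3))))))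
theorem f347534 : Led Lsl_at (LP (LK LD1_c15 LD2_c35 LD3_c53)) = (LP (LK LD1_c25 LD2_c27 LD3_c3)) :=
  Lgr Lrot107 (Lpe (f222708 IH) (Lpr_af (f347527 IH) (Lpr_cf (f222940 IH) (Lpn (LP (LK LD1_c25 LD2_c27 LD3_c3))))))
theorem f222733 : Led Lsl_ft (LP (LK LD1_c8 LD2_c17 LD3_c39)) = (LP (LK LD1_c15 LD2_c35 LD3_c53)) :=
  Lre_f IH (LK LD1_c8 LD2_c17 LD3_c39) (LK LD1_c15 LD2_c35 LD3_c53) Lrfl Lrfl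
theorem f222949 : Led Lsl_ft (LP (LK LD1_c25 LD2_c27 LD3_c3)) = (LP (LK LD1_c15 LD2_c33 LD3_c29)) :=
  Lre_f IH (LK LD1_c25 LD2_c27 LD3_c3) (LK LD1_c15 LD2_c33 LD3_c29) Lrfl Lrfl
theorem f347540 : Led Lsl_af (LP (LK LD1_c8 LD2_c17 LD3_c39)) = (LP (LK LD1_c15 LD2_c33 LD3_c29)) :=
  Lgr Lrot45 (Lpr_ft (f222733 IH) (Lpr_at (f347534 IH) (Lpr_ft (f222949 IH) (Lpn (LP (LK LD1_c15 LD2_c33 LD3_c29))))))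
theorem f222737 : Led Lsl_dt (LP (LK LD1_c8 LD2_c17 LD3_c39)) = (LP (LK LD1_c15 LD2_c35 LD3_c52)) :=
  Lre_d IH (LK LD1_c8 LD2_c17 LD3_c39) (LK LD1_c15 LD2_c35 LD3_c52) Lrfl Lrfl
theorem f222943 : Led Lsl_dt (LP (LK LD1_c25 LD2_c27 LD3_c2)) = (LP (LK LD1_c15 LD2_c33 LD3_c29)) :=
  Lre_d IH (LK LD1_c25 LD2_c27 LD3_c2) (LK LD1_c15 LD2_c33 LD3_c29) Lrfl Lrfl
theorem f347552 : Led Lsl_at (LP (LK LD1_c15 LD2_c35 LD3_c52)) = (LP (LK LD1_c25 LD2_c27 LD3_c2)) :=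
  Lgr Lrot51 (Lpe (f222737 IH) (Lpr_af (f347540 IH) (Lpe (f222943 IH) (Lpn (LP (LK LD1_c25 LD2_c27 LD3_c2))))))
theorem f347560 : Led Lsl_et (LP (LK LD1_c8 LD2_c17 LD3_c42)) = (LP (LK LD1_c15 LD2_c35 LD3_c52)) :=
  Lre_e IH (LK LD1_c8 LD2_c17 LD3_c42) (LK LD1_c15 LD2_c35 LD3_c52) Lrfl Lrfl
theorem f347561 : Led Lsl_et (LP (LK LD1_c25 LD2_c27 LD3_c2)) = (LP (LK LD1_c15 LD2_c33 LD3_c32)) :=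
  Lre_e IH (LK LD1_c25 LD2_c27 LD3_c2) (LK LD1_c15 LD2_c33 LD3_c32) Lrfl Lrfl
theorem f347562 : Led Lsl_af (LP (LK LD1_c8 LD2_c17 LD3_c42)) = (LP (LK LD1_c15 LD2_c33 LD3_c32)) :=
  Lgr Lrot50 (Lpr_et (f347560 IH) (Lpr_at (f347552 IH) (Lpr_et (f347561 IH) (Lpn (LP (LK LD1_c15 LD2_c33 LD3_c32))))))
theorem f347571 : Led Lsl_dt (LP (LK LD1_c8 LD2_c17 LD3_c42)) = (LP (LK LD1_c4 LD2_c8 LD3_c46)) :=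
  Lre_d IH (LK LD1_c8 LD2_c17 LD3_c42) (LK LD1_c4 LD2_c8 LD3_c46) Lrfl Lrfl
theorem f47585 : Led Lsl_dt (LP (LK LD1_c8 LD2_c16 LD3_c29)) = (LP (LK LD1_c15 LD2_c33 LD3_c32)) :=
  Lre_d IH (LK LD1_c8 LD2_c16 LD3_c29) (LK LD1_c15 LD2_c33 LD3_c32) Lrfl Lrfl
theorem f347572 : Led Lsl_at (LP (LK LD1_c4 LD2_c8 LD3_c46)) = (LP (LK LD1_c8 LD2_c16 LD3_c29)) :=
  Lgr Lrot51 (Lpe (f347571 IH) (Lpr_af (f347562 IH) (Lpe (f47585 IH) (Lpn (LP (LK LD1_c8 LD2_c16 LD3_c29))))))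
theorem f328485 : Led Lsl_ft (LP (LK LD1_c8 LD2_c17 LD3_c43)) = (LP (LK LD1_c4 LD2_c8 LD3_c46)) :=
  Lre_f IH (LK LD1_c8 LD2_c17 LD3_c43) (LK LD1_c4 LD2_c8 LD3_c46) Lrfl Lrfl
theorem f47603 : Led Lsl_gt (LP (LK LD1_c15 LD2_c33 LD3_c31)) = (LP (LK LD1_c8 LD2_c16 LD3_c29)) :=
  Lre_g IH (LK LD1_c15 LD2_c33 LD3_c31) (LK LD1_c8 LD2_c16 LD3_c29) Lrfl Lrfl
theorem f347718 : Led Lsl_gt (LP (LK LD1_c8 LD2_c17 LD3_c43)) = (LP (LK LD1_c15 LD2_c33 LD3_c31)) :=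
  Lgr Lrot5 (Lpr_ft (f328485 IH) (Lpr_at (f347572 IH) (Lpe (f47603 IH) (Lpn (LP (LK LD1_c15 LD2_c33 LD3_c31))))))
theorem f250907 : Led Lsl_et (LP (LK LD1_c4 LD2_c8 LD3_c46)) = (LP (LK LD1_c2 LD2_c1 LD3_c43)) :=
  Lre_e IH (LK LD1_c4 LD2_c8 LD3_c46) (LK LD1_c2 LD2_c1 LD3_c43) Lrfl Lrfl
theorem f222259 : Led Lsl_et (LP (LK LD1_c4 LD2_c8 LD3_c15)) = (LP (LK LD1_c8 LD2_c16 LD3_c34)) :=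
  Lre_e IH (LK LD1_c4 LD2_c8 LD3_c15) (LK LD1_c8 LD2_c16 LD3_c34) Lrfl Lrfl
theorem f328453 : Led Lsl_ft (LP (LK LD1_c8 LD2_c16 LD3_c34)) = (LP (LK LD1_c15 LD2_c33 LD3_c43)) :=
  Lre_f IH (LK LD1_c8 LD2_c16 LD3_c34) (LK LD1_c15 LD2_c33 LD3_c43) Lrfl Lrfl
theorem f328486 : Led Lsl_ef (LP (LK LD1_c8 LD2_c17 LD3_c43)) = (LP (LK LD1_c15 LD2_c33 LD3_c43)) :=
  Lgr Lrot21 (Lpr_ft (f328485 IH) (Lpr_et (f250907 IH) (Lpr_ft (K21.f328477 IH) (Lpr_et (f222259 IH) (Lpr_ft (f328453 IH) (Lpn (LP (LK LD1_c15 LD2_c33 LD3_c43))))))))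
theorem f236024 : Led Lsl_dt (LP (LK LD1_c15 LD2_c33 LD3_c43)) = (LP (LK LD1_c25 LD2_c27 LD3_c23)) :=
  Lre_d IH (LK LD1_c15 LD2_c33 LD3_c43) (LK LD1_c25 LD2_c27 LD3_c23) Lrfl Lrfl
theorem f328454 : Led Lsl_af (LP (LK LD1_c8 LD2_c18 LD3_c23)) = (LP (LK LD1_c15 LD2_c33 LD3_c43)) :=
  Lgr Lrot45 (Lpr_ft (K21.f328430 IH) (Lpr_at (K21.f328431 IH) (Lpr_ft (f328453 IH) (Lpn (LP (LK LD1_c15 LD2_c33 LD3_c43))))))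
theorem f323196 : Led Lsl_dt (LP (LK LD1_c8 LD2_c18 LD3_c23)) = (LP (LK LD1_c15 LD2_c37 LD3_c22)) :=
  Lre_d IH (LK LD1_c8 LD2_c18 LD3_c23) (LK LD1_c15 LD2_c37 LD3_c22) Lrfl Lrfl
theorem f236029 : Led Lsl_dt (LP (LK LD1_c25 LD2_c27 LD3_c23)) = (LP (LK LD1_c15 LD2_c33 LD3_c43)) :=
  Lre_d IH (LK LD1_c25 LD2_c27 LD3_c23) (LK LD1_c15 LD2_c33 LD3_c43) Lrfl Lrfl
theorem f328457 : Led Lsl_at (LP (LK LD1_c15 LD2_c37 LD3_c22)) = (LP (LK LD1_c25 LD2_c27 LD3_c23)) :=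
  Lgr Lrot51 (Lpe (f323196 IH) (Lpr_af (f328454 IH) (Lpe (f236029 IH) (Lpn (LP (LK LD1_c25 LD2_c27 LD3_c23))))))
theorem f328461 : Led Lsl_ft (LP (LK LD1_c8 LD2_c18 LD3_c22)) = (LP (LK LD1_c15 LD2_c37 LD3_c22)) :=
  Lre_f IH (LK LD1_c8 LD2_c18 LD3_c22) (LK LD1_c15 LD2_c37 LD3_c22) Lrfl Lrfl
theorem f328462 : Led Lsl_gt (LP (LK LD1_c8 LD2_c18 LD3_c22)) = (LP (LK LD1_c15 LD2_c37 LD3_c19)) :=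
  Lre_g IH (LK LD1_c8 LD2_c18 LD3_c22) (LK LD1_c15 LD2_c37 LD3_c19) Lrfl Lrfl
theorem f328463 : Led Lsl_gt (LP (LK LD1_c15 LD2_c37 LD3_c19)) = (LP (LK LD1_c25 LD2_c27 LD3_c23)) :=
  Lgr Lrot46 (Lpe (f328462 IH) (Lpr_ft (f328461 IH) (Lpr_at (f328457 IH) (Lpn (LP (LK LD1_c25 LD2_c27 LD3_c23))))))
theorem f347720 : Led Lsl_dt (LP (LK LD1_c15 LD2_c33 LD3_c31)) = (LP (LK LD1_c25 LD2_c27 LD3_c6)) :=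
  Lre_d IH (LK LD1_c15 LD2_c33 LD3_c31) (LK LD1_c25 LD2_c27 LD3_c6) Lrfl Lrfl
theorem f271420 : Led Lsl_ct (LP (LK LD1_c4 LD2_c16 LD3_c20)) = (LP (LK LD1_c8 LD2_c31 LD3_c45)) :=
  Lre_c IH (LK LD1_c4 LD2_c16 LD3_c20) (LK LD1_c8 LD2_c31 LD3_c45) Lrfl Lrfl
theorem f273566 : Led Lsl_dt (LP (LK LD1_c16 LD2_c0 LD3_c36)) = (LP (LK LD1_c8 LD2_c31 LD3_c45)) :=
  Lre_d IH (LK LD1_c16 LD2_c0 LD3_c36) (LK LD1_c8 LD2_c31 LD3_c45) Lrfl Lrfl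
theorem f347721 : Led Lsl_gf (LP (LK LD1_c16 LD2_c0 LD3_c36)) = (LP (LK LD1_c25 LD2_c27 LD3_c6)) :=
  Lgr Lrot143 (Lpr_dt (f273566 IH) (Lpe (f271420 IH) (Lpe (K16.f254540 IH) (Lpr_gf (K21.f273564 IH) (Lpe (K21.f48314 IH) (Lpe (K21.f328636 IH) (Lpe (K21.f328608 IH) (Lpr_gt (f347718 IH) (Lpr_dt (f347720 IH) (Lpn (LP (LK LD1_c25 LD2_c27 LD3_c6))))))))))))
theorem f273571 : Led Lsl_dt (LP (LK LD1_c8 LD2_c31 LD3_c45)) = (LP (LK LD1_c16 LD2_c0 LD3_c36)) :=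
  Lre_d IH (LK LD1_c8 LD2_c31 LD3_c45) (LK LD1_c16 LD2_c0 LD3_c36) Lrfl Lrfl
theorem f271421 : Led Lsl_et (LP (LK LD1_c8 LD2_c31 LD3_c45)) = (LP (LK LD1_c15 LD2_c57 LD3_c16)) :=
  Lgr Lrot158 (Lpe (f271420 IH) (Lpr_ef (K16.f271418 IH) (Lpe (K16.f270504 IH) (Lpn (LP (LK LD1_c15 LD2_c57 LD3_c16))))))
theorem f260589 : Led Lsl_gt (LP (LK LD1_c8 LD2_c31 LD3_c21)) = (LP (LK LD1_c4 LD2_c16 LD3_c7)) :=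
  Lre_g IH (LK LD1_c8 LD2_c31 LD3_c21) (LK LD1_c4 LD2_c16 LD3_c7) Lrfl Lrfl
theorem f270502 : Led Lsl_gt (LP (LK LD1_c15 LD2_c57 LD3_c16)) = (LP (LK LD1_c8 LD2_c31 LD3_c21)) :=
  Lgr Lrot5 (Lpr_ft (K16.f270499 IH) (Lpr_at (K16.f270493 IH) (Lpe (f260589 IH) (Lpn (LP (LK LD1_c8 LD2_c31 LD3_c21))))))
theorem f270507 : Led Lsl_et (LP (LK LD1_c16 LD2_c0 LD3_c2)) = (LP (LK LD1_c8 LD2_c31 LD3_c21)) :=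
  Lre_e IH (LK LD1_c16 LD2_c0 LD3_c2) (LK LD1_c8 LD2_c31 LD3_c21) Lrfl Lrfl
theorem f347723 : Led Lsl_df (LP (LK LD1_c15 LD2_c37 LD3_c19)) = (LP (LK LD1_c16 LD2_c0 LD3_c2)) :=
  Lgr Lrot170 (Lpr_gt (f328463 IH) (Lpe (f236024 IH) (Lpe (f328486 IH) (Lpr_gt (f347718 IH) (Lpr_dt (f347720 IH) (Lpe (f347721 IH) (Lpe (f273571 IH) (Lpr_et (f271421 IH) (Lpr_gt (f270502 IH) (Lpe (f270507 IH) (Lpn (LP (LK LD1_c16 LD2_c0 LD3_c2)))))))))))))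
theorem f270478 : Led Lsl_et (LP (LK LD1_c2 LD2_c5 LD3_c26)) = (LP (LK LD1_c4 LD2_c16 LD3_c7)) :=
  Lre_e IH (LK LD1_c2 LD2_c5 LD3_c26) (LK LD1_c4 LD2_c16 LD3_c7) Lrfl Lrfl
theorem f347736 : Led Lsl_ef (LP (LK LD1_c8 LD2_c18 LD3_c21)) = (LP (LK LD1_c8 LD2_c24 LD3_c16)) :=
  Lgr Lrot167 (Lpr_gt (K21.f234351 IH) (Lpr_dt (f258628 IH) (Lpr_gt (f328462 IH) (Lpr_df (f347723 IH) (Lpr_et (f270507 IH) (Lpr_gt (f260589 IH) (Lpe (f270478 IH) (Lpr_dt (K17.f220545 IH) (Lpr_gt (K17.f243574 IH) (Lpe (K20.f282794 IH) (Lpn (LP (LK LD1_c8 LD2_c24 LD3_c16)))))))))))))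
theorem f317622 : Led Lsl_ft (LP (LK LD1_c4 LD2_c15 LD3_c41)) = (LP (LK LD1_c8 LD2_c24 LD3_c16)) :=
  Lgr Lrot4 (Lpr_cf (K15.f243272 IH) (Lpr_ff (K20.f317618 IH) (Lpe (K16.f199579 IH) (Lpn (LP (LK LD1_c8 LD2_c24 LD3_c16))))))
theorem f243426 : Led Lsl_et (LP (LK LD1_c8 LD2_c30 LD3_c22)) = (LP (LK LD1_c4 LD2_c15 LD3_c41)) :=
  Lre_e IH (LK LD1_c8 LD2_c30 LD3_c22) (LK LD1_c4 LD2_c15 LD3_c41) Lrfl Lrfl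
theorem f347740 : Led Lsl_et (LP (LK LD1_c10 LD2_c50 LD3_c36)) = (LP (LK LD1_c15 LD2_c58 LD3_c23)) :=
  Lgr Lrot69 (Lpe (K21.f331243 IH) (Lpr_ef (f347736 IH) (Lpe (f317622 IH) (Lpe (f243426 IH) (Lpe (f243415 IH) (Lpn (LP (LK LD1_c15 LD2_c58 LD3_c23))))))))
theorem f251805 : Led Lsl_et (LP (LK LD1_c10 LD2_c50 LD3_c38)) = (LP (LK LD1_c5 LD2_c29 LD3_c40)) :=
  Lre_e IH (LK LD1_c10 LD2_c50 LD3_c38) (LK LD1_c5 LD2_c29 LD3_c40) Lrfl Lrfl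
theorem f347745 : Led Lsl_cf (LP (LK LD1_c10 LD2_c50 LD3_c38)) = (LP (LK LD1_c15 LD2_c58 LD3_c23)) :=
  Lgr Lrot39 (Lpr_et (f251805 IH) (Lpr_ct (K21.f168514 IH) (Lpr_et (f347740 IH) (Lpn (LP (LK LD1_c15 LD2_c58 LD3_c23))))))
theorem f347752 : Led Lsl_ft (LP (LK LD1_c10 LD2_c50 LD3_c38)) = (LP (LK LD1_c8 LD2_c37 LD3_c14)) :=
  Lgr Lrot4 (Lpr_cf (f347745 IH) (Lpe (f243428 IH) (Lpr_cf (f243413 IH) (Lpn (LP (LK LD1_c8 LD2_c37 LD3_c14))))))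
theorem f317604 : Led Lsl_at (LP (LK LD1_c8 LD2_c37 LD3_c14)) = (LP (LK LD1_c8 LD2_c18 LD3_c11)) :=
  Lgr Lrot100 (Lpr_af (K20.f317602 IH) (Lpn (LP (LK LD1_c8 LD2_c18 LD3_c11))))
theorem f229603 : Led Lsl_gt (LP (LK LD1_c15 LD2_c36 LD3_c51)) = (LP (LK LD1_c8 LD2_c18 LD3_c11)) :=
  Lre_g IH (LK LD1_c15 LD2_c36 LD3_c51) (LK LD1_c8 LD2_c18 LD3_c11) Lrfl Lrfl
theorem f347854 : Led Lsl_gt (LP (LK LD1_c10 LD2_c50 LD3_c38)) = (LP (LK LD1_c15 LD2_c36 LD3_c51)) :=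
  Lgr Lrot5 (Lpr_ft (f347752 IH) (Lpr_at (f317604 IH) (Lpe (f229603 IH) (Lpn (LP (LK LD1_c15 LD2_c36 LD3_c51))))))
theorem f322288 : Led Lsl_et (LP (LK LD1_c5 LD2_c29 LD3_c40)) = (LP (LK LD1_c10 LD2_c50 LD3_c38)) :=
  Lre_e IH (LK LD1_c5 LD2_c29 LD3_c40) (LK LD1_c10 LD2_c50 LD3_c38) Lrfl Lrfl
theorem f314644 : Led Lsl_dt (LP (LK LD1_c25 LD2_c17 LD3_c60)) = (LP (LK LD1_c15 LD2_c26 LD3_c0)) :=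
  Lre_d IH (LK LD1_c25 LD2_c17 LD3_c60) (LK LD1_c15 LD2_c26 LD3_c0) Lrfl Lrfl
theorem f195492 : Led Lsl_bt (LP (LK LD1_c15 LD2_c30 LD3_c2)) = (LP (LK LD1_c8 LD2_c14 LD3_c22)) :=
  Lre_b IH (LK LD1_c15 LD2_c30 LD3_c2) (LK LD1_c8 LD2_c14 LD3_c22) Lrfl Lrfl
theorem f283055 : Led Lsl_ct (LP (LK LD1_c6 LD2_c6 LD3_c3)) = (LP (LK LD1_c11 LD2_c55 LD3_c29)) :=
  Lre_c IH (LK LD1_c6 LD2_c6 LD3_c3) (LK LD1_c11 LD2_c55 LD3_c29) Lrfl Lrfl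
theorem f284889 : Led Lsl_df (LP (LK LD1_c10 LD2_c44 LD3_c36)) = (LP (LK LD1_c6 LD2_c5 LD3_c28)) :=
  Lgr Lrot153 (Lpr_gt (K17.f284882 IH) (Lpr_dt (K20.f191336 IH) (Lpe (K13.f50391 IH) (Lpe (K13.f236130 IH) (Lpe (K14.f236157 IH) (Lpe (K14.f191318 IH) (Lpr_gf (K14.f252580 IH) (Lpe (K17.f182065 IH) (Lpr_gt (K15.f181204 IH) (Lpn (LP (LK LD1_c6 LD2_c5 LD3_c28))))))))))))
theorem f263469 : Led Lsl_et (LP (LK LD1_c6 LD2_c5 LD3_c32)) = (LP (LK LD1_c2 LD2_c58 LD3_c51)) :=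
  Lre_e IH (LK LD1_c6 LD2_c5 LD3_c32) (LK LD1_c2 LD2_c58 LD3_c51) Lrfl Lrfl
theorem f263495 : Led Lsl_dt (LP (LK LD1_c6 LD2_c5 LD3_c32)) = (LP (LK LD1_c11 LD2_c54 LD3_c41)) :=
  Lre_d IH (LK LD1_c6 LD2_c5 LD3_c32) (LK LD1_c11 LD2_c54 LD3_c41) Lrfl Lrfl
theorem f213265 : Led Lsl_ct (LP (LK LD1_c5 LD2_c32 LD3_c13)) = (LP (LK LD1_c10 LD2_c56 LD3_c2)) :=
  Lre_c IH (LK LD1_c5 LD2_c32 LD3_c13) (LK LD1_c10 LD2_c56 LD3_c2) Lrfl Lrfl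
theorem f213254 : Led Lsl_gt (LP (LK LD1_c10 LD2_c56 LD3_c2)) = (LP (LK LD1_c5 LD2_c32 LD3_c26)) :=
  Lre_g IH (LK LD1_c10 LD2_c56 LD3_c2) (LK LD1_c5 LD2_c32 LD3_c26) Lrfl Lrfl
theorem f213256 : Led Lsl_dt (LP (LK LD1_c5 LD2_c32 LD3_c26)) = (LP (LK LD1_c10 LD2_c56 LD3_c39)) :=
  Lre_d IH (LK LD1_c5 LD2_c32 LD3_c26) (LK LD1_c10 LD2_c56 LD3_c39) Lrfl Lrfl
theorem f258706 : Led Lsl_ct (LP (LK LD1_c6 LD2_c5 LD3_c32)) = (LP (LK LD1_c2 LD2_c58 LD3_c52)) :=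
  Lre_c IH (LK LD1_c6 LD2_c5 LD3_c32) (LK LD1_c2 LD2_c58 LD3_c52) Lrfl Lrfl
theorem f258868 : Led Lsl_dt (LP (LK LD1_c11 LD2_c54 LD3_c41)) = (LP (LK LD1_c6 LD2_c5 LD3_c32)) :=
  Lre_d IH (LK LD1_c11 LD2_c54 LD3_c41) (LK LD1_c6 LD2_c5 LD3_c32) Lrfl Lrfl
theorem f282505 : Led Lsl_gt (LP (LK LD1_c10 LD2_c56 LD3_c39)) = (LP (LK LD1_c11 LD2_c54 LD3_c41)) :=
  Lgr Lrot49 (Lpe (f213256 IH) (Lpe (f213254 IH) (Lpe (f213265 IH) (Lpr_gt (K20.f213272 IH) (Lpr_dt (K20.f282495 IH) (Lpr_gt (K20.f264465 IH) (Lpr_dt (K17.f264454 IH) (Lpe (f258706 IH) (Lpe (f258868 IH) (Lpn (LP (LK LD1_c11 LD2_c54 LD3_c41))))))))))))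
theorem f282540 : Led Lsl_et (LP (LK LD1_c5 LD2_c32 LD3_c26)) = (LP (LK LD1_c10 LD2_c56 LD3_c40)) :=
  Lre_e IH (LK LD1_c5 LD2_c32 LD3_c26) (LK LD1_c10 LD2_c56 LD3_c40) Lrfl Lrfl
theorem f284897 : Led Lsl_gf (LP (LK LD1_c10 LD2_c56 LD3_c40)) = (LP (LK LD1_c8 LD2_c15 LD3_c19)) :=
  Lgr Lrot141 (Lpe (f282540 IH) (Lpr_dt (f213256 IH) (Lpr_gt (f282505 IH) (Lpe (f263495 IH) (Lpr_et (f263469 IH) (Lpr_gt (K15.f181204 IH) (Lpe (f284889 IH) (Lpr_gt (K17.f284882 IH) (Lpe (K16.f191335 IH) (Lpr_et (K17.f273663 IH) (Lpn (LP (LK LD1_c8 LD2_c15 LD3_c19)))))))))))))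
theorem f284899 : Led Lsl_gt (LP (LK LD1_c10 LD2_c56 LD3_c40)) = (LP (LK LD1_c11 LD2_c55 LD3_c29)) :=
  Lgr Lrot46 (Lpr_gf (f284897 IH) (Lpr_ft (K17.f283020 IH) (Lpr_at (K17.f283051 IH) (Lpn (LP (LK LD1_c11 LD2_c55 LD3_c29))))))
theorem f322409 : Led Lsl_ct (LP (LK LD1_c15 LD2_c30 LD3_c2)) = (LP (LK LD1_c10 LD2_c56 LD3_c40)) :=
  Lgr Lrot64 (Lpr_bt (f195492 IH) (Lpe (K19.f195474 IH) (Lpe (K20.f195463 IH) (Lpr_ct (K20.f195469 IH) (Lpe (K20.f245932 IH) (Lpe (K20.f245931 IH) (Lpr_gf (K22.f322406 IH) (Lpe (K21.f246007 IH) (Lpr_ct (f283055 IH) (Lpe (f284899 IH) (Lpn (LP (LK LD1_c10 LD2_c56 LD3_c40)))))))))))))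
theorem f213255 : Led Lsl_et (LP (LK LD1_c10 LD2_c56 LD3_c40)) = (LP (LK LD1_c5 LD2_c32 LD3_c26)) :=
  Lre_e IH (LK LD1_c10 LD2_c56 LD3_c40) (LK LD1_c5 LD2_c32 LD3_c26) Lrfl Lrfl
theorem f261712 : Led Lsl_ct (LP (LK LD1_c5 LD2_c32 LD3_c26)) = (LP (LK LD1_c10 LD2_c56 LD3_c38)) :=
  Lre_c IH (LK LD1_c5 LD2_c32 LD3_c26) (LK LD1_c10 LD2_c56 LD3_c38) Lrfl Lrfl
theorem f322416 : Led Lsl_ef (LP (LK LD1_c15 LD2_c30 LD3_c2)) = (LP (LK LD1_c10 LD2_c56 LD3_c38)) :=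
  Lgr Lrot28 (Lpr_ct (f322409 IH) (Lpr_et (f213255 IH) (Lpr_ct (f261712 IH) (Lpn (LP (LK LD1_c10 LD2_c56 LD3_c38))))))
theorem f184152 : Led Lsl_et (LP (LK LD1_c5 LD2_c16 LD3_c60)) = (LP (LK LD1_c10 LD2_c23 LD3_c36)) :=
  Lre_e IH (LK LD1_c5 LD2_c16 LD3_c60) (LK LD1_c10 LD2_c23 LD3_c36) Lrfl Lrfl
theorem f257868 : Led Lsl_df (LP (LK LD1_c4 LD2_c12 LD3_c8)) = (LP (LK LD1_c5 LD2_c17 LD3_c14)) :=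
  Lgr Lrot78 (Lpe (K15.f239649 IH) (Lpr_dt (K9.f169566 IH) (Lpr_ft (K15.f257864 IH) (Lpn (LP (LK LD1_c5 LD2_c17 LD3_c14))))))
theorem f284919 : Led Lsl_gf (LP (LK LD1_c5 LD2_c26 LD3_c6)) = (LP (LK LD1_c5 LD2_c17 LD3_c19)) :=
  Lgr Lrot144 (Lpr_dt (K17.f191169 IH) (Lpr_gt (K17.f284914 IH) (Lpr_dt (K17.f53594 IH) (Lpr_cf (K10.f188047 IH) (Lpr_df (K10.f188524 IH) (Lpe (K15.f255058 IH) (Lpr_df (f257868 IH) (Lpe (K20.f257840 IH) (Lpe (K13.f191360 IH) (Lpn (LP (LK LD1_c5 LD2_c17 LD3_c19))))))))))))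
theorem f311497 : Led Lsl_ct (LP (LK LD1_c8 LD2_c23 LD3_c55)) = (LP (LK LD1_c4 LD2_c51 LD3_c3)) :=
  Lgr Lrot8 (Lpr_gt (K19.f199573 IH) (Lpr_dt (K15.f257860 IH) (Lpr_gt (K15.f187649 IH) (Lpr_dt (K13.f49112 IH) (Lpe (K10.f191037 IH) (Lpe (K13.f44990 IH) (Lpr_gf (K15.f259699 IH) (Lpe (K16.f246159 IH) (Lpr_gf (K19.f311493 IH) (Lpn (LP (LK LD1_c4 LD2_c51 LD3_c3))))))))))))
theorem f311503 : Led Lsl_gt (LP (LK LD1_c4 LD2_c13 LD3_c45)) = (LP (LK LD1_c8 LD2_c23 LD3_c55)) :=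
  Lgr Lrot9 (Lpr_df (K10.f49163 IH) (Lpe (K15.f263477 IH) (Lpr_ct (K13.f183665 IH) (Lpe (f284919 IH) (Lpr_ct (K18.f191167 IH) (Lpe (K13.f246261 IH) (Lpr_cf (f246271 IH) (Lpr_gf (K19.f311493 IH) (Lpe (f311497 IH) (Lpn (LP (LK LD1_c8 LD2_c23 LD3_c55))))))))))))
theorem f217508 : Led Lsl_df (LP (LK LD1_c4 LD2_c55 LD3_c26)) = (LP (LK LD1_c5 LD2_c17 LD3_c16)) :=
  Lgr Lrot38 (Lpr_dt (K15.f217499 IH) (Lpn (LP (LK LD1_c5 LD2_c17 LD3_c16))))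
theorem f217515 : Led Lsl_gt (LP (LK LD1_c9 LD2_c42 LD3_c28)) = (LP (LK LD1_c4 LD2_c55 LD3_c26)) :=
  Lre_g IH (LK LD1_c9 LD2_c42 LD3_c28) (LK LD1_c4 LD2_c55 LD3_c26) Lrfl Lrfl
theorem f322426 : Led Lsl_df (LP (LK LD1_c9 LD2_c42 LD3_c28)) = (LP (LK LD1_c10 LD2_c56 LD3_c38)) :=
  Lgr Lrot170 (Lpr_gt (f217515 IH) (Lpr_df (f217508 IH) (Lpr_et (K15.f49182 IH) (Lpr_gt (K10.f48235 IH) (Lpe (K10.f49163 IH) (Lpr_gt (f311503 IH) (Lpe (K19.f273655 IH) (Lpr_et (f184152 IH) (Lpe (K21.f314690 IH) (Lpr_ef (f322416 IH) (Lpn (LP (LK LD1_c10 LD2_c56 LD3_c38)))))))))))))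
theorem f322424 : Led Lsl_et (LP (LK LD1_c15 LD2_c30 LD3_c2)) = (LP (LK LD1_c10 LD2_c56 LD3_c38)) :=
  Lgr Lrot87 (Lpr_ef (f322416 IH) (Lpn (LP (LK LD1_c10 LD2_c56 LD3_c38))))
theorem f314647 : Led Lsl_dt (LP (LK LD1_c25 LD2_c23 LD3_c19)) = (LP (LK LD1_c15 LD2_c30 LD3_c2)) :=
  Lre_d IH (LK LD1_c25 LD2_c23 LD3_c19) (LK LD1_c15 LD2_c30 LD3_c2) Lrfl Lrfl
theorem f314593 : Led Lsl_bt (LP (LK LD1_c15 LD2_c30 LD3_c4)) = (LP (LK LD1_c25 LD2_c23 LD3_c19)) :=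
  Lre_b IH (LK LD1_c15 LD2_c30 LD3_c4) (LK LD1_c25 LD2_c23 LD3_c19) Lrfl Lrfl
theorem f312195 : Led Lsl_bt (LP (LK LD1_c25 LD2_c17 LD3_c60)) = (LP (LK LD1_c15 LD2_c26 LD3_c2)) :=
  Lre_b IH (LK LD1_c25 LD2_c17 LD3_c60) (LK LD1_c15 LD2_c26 LD3_c2) Lrfl Lrfl
theorem f314594 : Led Lsl_et (LP (LK LD1_c25 LD2_c23 LD3_c19)) = (LP (LK LD1_c25 LD2_c17 LD3_c60)) :=
  Lgr Lrot74 (Lpe (f314593 IH) (Lpr_ef (K22.f314591 IH) (Lpe (f312195 IH) (Lpn (LP (LK LD1_c25 LD2_c17 LD3_c60))))))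
theorem f314645 : Led Lsl_ef (LP (LK LD1_c25 LD2_c23 LD3_c19)) = (LP (LK LD1_c25 LD2_c17 LD3_c60)) :=
  Lgr Lrot88 (Lpr_et (f314594 IH) (Lpn (LP (LK LD1_c25 LD2_c17 LD3_c60))))
theorem f314648 : Led Lsl_dt (LP (LK LD1_c15 LD2_c26 LD3_c0)) = (LP (LK LD1_c25 LD2_c17 LD3_c60)) :=
  Lre_d IH (LK LD1_c15 LD2_c26 LD3_c0) (LK LD1_c25 LD2_c17 LD3_c60) Lrfl Lrfl
theorem f322432 : Led Lsl_et (LP (LK LD1_c9 LD2_c42 LD3_c28)) = (LP (LK LD1_c15 LD2_c26 LD3_c0)) :=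
  Lgr Lrot71 (Lpr_df (f322426 IH) (Lpe (f322424 IH) (Lpe (f314647 IH) (Lpr_ef (f314645 IH) (Lpe (f314648 IH) (Lpn (LP (LK LD1_c15 LD2_c26 LD3_c0))))))))
theorem f322454 : Led Lsl_ef (LP (LK LD1_c9 LD2_c42 LD3_c28)) = (LP (LK LD1_c15 LD2_c26 LD3_c0)) :=
  Lgr Lrot88 (Lpr_et (f322432 IH) (Lpn (LP (LK LD1_c15 LD2_c26 LD3_c0))))
theorem f54045 : Led Lsl_gt (LP (LK LD1_c5 LD2_c17 LD3_c16)) = (LP (LK LD1_c10 LD2_c24 LD3_c6)) :=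
  Lre_g IH (LK LD1_c5 LD2_c17 LD3_c16) (LK LD1_c10 LD2_c24 LD3_c6) Lrfl Lrfl
theorem f54046 : Led Lsl_et (LP (LK LD1_c9 LD2_c51 LD3_c28)) = (LP (LK LD1_c5 LD2_c0 LD3_c36)) :=
  Lre_e IH (LK LD1_c9 LD2_c51 LD3_c28) (LK LD1_c5 LD2_c0 LD3_c36) Lrfl Lrfl
theorem f212256 : Led Lsl_gt (LP (LK LD1_c18 LD2_c44 LD3_c37)) = (LP (LK LD1_c10 LD2_c19 LD3_c29)) :=
  Lre_g IH (LK LD1_c18 LD2_c44 LD3_c37) (LK LD1_c10 LD2_c19 LD3_c29) Lrfl Lrfl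
theorem f232119 : Led Lsl_dt (LP (LK LD1_c10 LD2_c24 LD3_c6)) = (LP (LK LD1_c18 LD2_c44 LD3_c37)) :=
  Lgr Lrot171 (Lpe (f54045 IH) (Lpe (K15.f54044 IH) (Lpr_dt (K13.f49112 IH) (Lpe (K10.f32086 IH) (Lpe (K15.f33046 IH) (Lpr_et (K9.f54035 IH) (Lpe (K13.f48171 IH) (Lpe (f54046 IH) (Lpr_dt (K22.f232107 IH) (Lpe (f212256 IH) (Lpn (LP (LK LD1_c18 LD2_c44 LD3_c37)))))))))))))
theorem f232121 : Led Lsl_df (LP (LK LD1_c10 LD2_c24 LD3_c6)) = (LP (LK LD1_c18 LD2_c44 LD3_c37)) :=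
  Lgr Lrot38 (Lpr_dt (f232119 IH) (Lpn (LP (LK LD1_c18 LD2_c44 LD3_c37))))
theorem f191736 : Led Lsl_dt (LP (LK LD1_c5 LD2_c17 LD3_c24)) = (LP (LK LD1_c8 LD2_c26 LD3_c22)) :=
  Lgr Lrot42 (Lpr_df (K10.f191730 IH) (Lpn (LP (LK LD1_c8 LD2_c26 LD3_c22))))
theorem f199752 : Led Lsl_gt (LP (LK LD1_c4 LD2_c8 LD3_c35)) = (LP (LK LD1_c8 LD2_c17 LD3_c14)) :=
  Lre_g IH (LK LD1_c4 LD2_c8 LD3_c35) (LK LD1_c8 LD2_c17 LD3_c14) Lrfl Lrfl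
theorem f199753 : Led Lsl_dt (LP (LK LD1_c8 LD2_c17 LD3_c14)) = (LP (LK LD1_c15 LD2_c35 LD3_c3)) :=
  Lre_d IH (LK LD1_c8 LD2_c17 LD3_c14) (LK LD1_c15 LD2_c35 LD3_c3) Lrfl Lrfl
theorem f232162 : Led Lsl_gf (LP (LK LD1_c8 LD2_c26 LD3_c22)) = (LP (LK LD1_c15 LD2_c35 LD3_c3)) :=
  Lgr Lrot134 (Lpe (f191736 IH) (Lpr_et (K10.f32954 IH) (Lpr_gt (K10.f33049 IH) (Lpr_ef (K9.f54042 IH) (Lpr_dt (K9.f48170 IH) (Lpr_gt (K13.f232147 IH) (Lpe (K13.f199687 IH) (Lpr_et (K20.f199700 IH) (Lpr_gt (f199752 IH) (Lpr_dt (f199753 IH) (Lpn (LP (LK LD1_c15 LD2_c35 LD3_c3)))))))))))))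
theorem f27439 : Led Lsl_dt (LP (LK LD1_c2 LD2_c4 LD3_c31)) = (LP (LK LD1_c0 LD2_c59 LD3_c15)) :=
  Lre_d IH (LK LD1_c2 LD2_c4 LD3_c31) (LK LD1_c0 LD2_c59 LD3_c15) Lrfl Lrfl
theorem f27437 : Led Lsl_et (LP (LK LD1_c2 LD2_c4 LD3_c31)) = (LP (LK LD1_c4 LD2_c14 LD3_c18)) :=
  Lre_e IH (LK LD1_c2 LD2_c4 LD3_c31) (LK LD1_c4 LD2_c14 LD3_c18) Lrfl Lrfl
theorem f27443 : Led Lsl_dt (LP (LK LD1_c8 LD2_c27 LD3_c15)) = (LP (LK LD1_c15 LD2_c52 LD3_c28)) :=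
  Lre_d IH (LK LD1_c8 LD2_c27 LD3_c15) (LK LD1_c15 LD2_c52 LD3_c28) Lrfl Lrfl
theorem f189712 : Led Lsl_gt (LP (LK LD1_c15 LD2_c52 LD3_c28)) = (LP (LK LD1_c25 LD2_c48 LD3_c27)) :=
  Lre_g IH (LK LD1_c15 LD2_c52 LD3_c28) (LK LD1_c25 LD2_c48 LD3_c27) Lrfl Lrfl
theorem f232165 : Led Lsl_et (LP (LK LD1_c25 LD2_c29 LD3_c10)) = (LP (LK LD1_c15 LD2_c35 LD3_c3)) :=
  Lre_e IH (LK LD1_c25 LD2_c29 LD3_c10) (LK LD1_c15 LD2_c35 LD3_c3) Lrfl Lrfl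
theorem f232168 : Led Lsl_df (LP (LK LD1_c25 LD2_c48 LD3_c27)) = (LP (LK LD1_c25 LD2_c29 LD3_c10)) :=
  Lgr Lrot132 (Lpe (f189712 IH) (Lpe (f27443 IH) (Lpe (K21.f27442 IH) (Lpe (f27437 IH) (Lpr_dt (f27439 IH) (Lpe (K9.f53464 IH) (Lpe (K10.f50876 IH) (Lpr_et (K10.f50877 IH) (Lpr_gf (f232162 IH) (Lpe (f232165 IH) (Lpn (LP (LK LD1_c25 LD2_c29 LD3_c10)))))))))))))
theorem f232172 : Led Lsl_et (LP (LK LD1_c15 LD2_c35 LD3_c3)) = (LP (LK LD1_c25 LD2_c29 LD3_c10)) :=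
  Lre_e IH (LK LD1_c15 LD2_c35 LD3_c3) (LK LD1_c25 LD2_c29 LD3_c10) Lrfl Lrfl
theorem f232160 : Led Lsl_et (LP (LK LD1_c10 LD2_c24 LD3_c6)) = (LP (LK LD1_c8 LD2_c17 LD3_c14)) :=
  Lgr Lrot122 (Lpr_dt (f232119 IH) (Lpr_gt (f212256 IH) (Lpe (K22.f232107 IH) (Lpr_et (f54046 IH) (Lpr_gt (K13.f48171 IH) (Lpr_dt (K9.f48170 IH) (Lpr_gt (K13.f232147 IH) (Lpe (K13.f199687 IH) (Lpr_et (K20.f199700 IH) (Lpr_gt (f199752 IH) (Lpn (LP (LK LD1_c8 LD2_c17 LD3_c14)))))))))))))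
theorem f232173 : Led Lsl_et (LP (LK LD1_c25 LD2_c48 LD3_c27)) = (LP (LK LD1_c18 LD2_c44 LD3_c37)) :=
  Lgr Lrot71 (Lpr_df (f232168 IH) (Lpe (f232172 IH) (Lpe (f199753 IH) (Lpe (f232160 IH) (Lpr_df (f232121 IH) (Lpn (LP (LK LD1_c18 LD2_c44 LD3_c37))))))))
theorem f232176 : Led Lsl_ef (LP (LK LD1_c25 LD2_c48 LD3_c27)) = (LP (LK LD1_c18 LD2_c44 LD3_c37)) :=
  Lgr Lrot88 (Lpr_et (f232173 IH) (Lpn (LP (LK LD1_c18 LD2_c44 LD3_c37))))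
theorem f217495 : Led Lsl_et (LP (LK LD1_c4 LD2_c55 LD3_c26)) = (LP (LK LD1_c2 LD2_c25 LD3_c35)) :=
  Lre_e IH (LK LD1_c4 LD2_c55 LD3_c26) (LK LD1_c2 LD2_c25 LD3_c35) Lrfl Lrfl
theorem f27440 : Led Lsl_et (LP (LK LD1_c4 LD2_c14 LD3_c18)) = (LP (LK LD1_c2 LD2_c4 LD3_c31)) :=
  Lre_e IH (LK LD1_c4 LD2_c14 LD3_c18) (LK LD1_c2 LD2_c4 LD3_c31) Lrfl Lrfl
theorem f232178 : Led Lsl_gt (LP (LK LD1_c25 LD2_c48 LD3_c27)) = (LP (LK LD1_c15 LD2_c52 LD3_c30)) :=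
  Lgr Lrot137 (Lpr_ef (f232176 IH) (Lpe (f232121 IH) (Lpe (f54045 IH) (Lpe (K15.f217499 IH) (Lpr_et (f217495 IH) (Lpr_gf (K12.f217477 IH) (Lpe (f27440 IH) (Lpr_dt (K11.f27425 IH) (Lpe (K21.f27441 IH) (Lpe (K21.f27445 IH) (Lpn (LP (LK LD1_c15 LD2_c52 LD3_c30)))))))))))))
theorem f286161 : Led Lsl_df (LP (LK LD1_c17 LD2_c38 LD3_c57)) = (LP (LK LD1_c15 LD2_c51 LD3_c21)) :=
  Lgr Lrot38 (Lpr_dt (K21.f286159 IH) (Lpn (LP (LK LD1_c15 LD2_c51 LD3_c21))))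
theorem f322456 : Led Lsl_gt (LP (LK LD1_c17 LD2_c38 LD3_c57)) = (LP (LK LD1_c25 LD2_c17 LD3_c60)) :=
  Lgr Lrot112 (Lpr_df (f286161 IH) (Lpe (K21.f286126 IH) (Lpe (f232178 IH) (Lpr_ef (f232176 IH) (Lpe (f232121 IH) (Lpe (f54045 IH) (Lpe (K15.f217499 IH) (Lpe (f217515 IH) (Lpr_ef (f322454 IH) (Lpr_dt (f314648 IH) (Lpn (LP (LK LD1_c25 LD2_c17 LD3_c60)))))))))))))
theorem f220389 : Led Lsl_gt (LP (LK LD1_c10 LD2_c50 LD3_c28)) = (LP (LK LD1_c5 LD2_c29 LD3_c37)) :=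
  Lre_g IH (LK LD1_c10 LD2_c50 LD3_c28) (LK LD1_c5 LD2_c29 LD3_c37) Lrfl Lrfl
theorem f329513 : Led Lsl_gf (LP (LK LD1_c10 LD2_c50 LD3_c28)) = (LP (LK LD1_c15 LD2_c49 LD3_c28)) :=
  Lgr Lrot47 (Lpr_gt (f220389 IH) (Lpr_af (K21.f329503 IH) (Lpe (K21.f220119 IH) (Lpn (LP (LK LD1_c15 LD2_c49 LD3_c28))))))
theorem f217517 : Led Lsl_gt (LP (LK LD1_c4 LD2_c55 LD3_c26)) = (LP (LK LD1_c9 LD2_c42 LD3_c27)) :=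
  Lre_g IH (LK LD1_c4 LD2_c55 LD3_c26) (LK LD1_c9 LD2_c42 LD3_c27) Lrfl Lrfl
theorem f217619 : Led Lsl_et (LP (LK LD1_c17 LD2_c51 LD3_c14)) = (LP (LK LD1_c9 LD2_c42 LD3_c27)) :=
  Lre_e IH (LK LD1_c17 LD2_c51 LD3_c14) (LK LD1_c9 LD2_c42 LD3_c27) Lrfl Lrfl
theorem f312034 : Led Lsl_df (LP (LK LD1_c10 LD2_c50 LD3_c28)) = (LP (LK LD1_c17 LD2_c51 LD3_c14)) :=
  Lgr Lrot170 (Lpr_gt (f220389 IH) (Lpr_df (K21.f260962 IH) (Lpr_et (K21.f220521 IH) (Lpr_gt (K19.f312028 IH) (Lpe (K15.f261437 IH) (Lpr_gt (K18.f261410 IH) (Lpe (K15.f217496 IH) (Lpr_et (K15.f217498 IH) (Lpr_gt (f217517 IH) (Lpe (f217619 IH) (Lpn (LP (LK LD1_c17 LD2_c51 LD3_c14)))))))))))))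
theorem f312040 : Led Lsl_dt (LP (LK LD1_c10 LD2_c50 LD3_c28)) = (LP (LK LD1_c17 LD2_c51 LD3_c14)) :=
  Lgr Lrot42 (Lpr_df (f312034 IH) (Lpn (LP (LK LD1_c17 LD2_c51 LD3_c14))))
theorem f329459 : Led Lsl_ef (LP (LK LD1_c15 LD2_c49 LD3_c28)) = (LP (LK LD1_c10 LD2_c50 LD3_c23)) :=
  Lgr Lrot29 (Lpr_bt (K21.f220116 IH) (Lpr_et (K21.f329457 IH) (Lpe (K21.f250786 IH) (Lpn (LP (LK LD1_c10 LD2_c50 LD3_c23))))))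
theorem f251705 : Led Lsl_df (LP (LK LD1_c10 LD2_c24 LD3_c17)) = (LP (LK LD1_c10 LD2_c50 LD3_c23)) :=
  Lgr Lrot12 (Lpr_bt (K21.f191453 IH) (Lpr_dt (K21.f251697 IH) (Lpe (K21.f250786 IH) (Lpn (LP (LK LD1_c10 LD2_c50 LD3_c23))))))
theorem f329515 : Led Lsl_gt (LP (LK LD1_c17 LD2_c51 LD3_c14)) = (LP (LK LD1_c15 LD2_c52 LD3_c31)) :=
  Lgr Lrot139 (Lpe (f312040 IH) (Lpr_gf (f329513 IH) (Lpr_ef (f329459 IH) (Lpe (f251705 IH) (Lpr_gf (K21.f325220 IH) (Lpe (f314647 IH) (Lpr_et (f314594 IH) (Lpe (f322456 IH) (Lpe (K21.f286163 IH) (Lpr_dt (K21.f286167 IH) (Lpn (LP (LK LD1_c15 LD2_c52 LD3_c31)))))))))))))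
theorem f347862 : Led Lsl_et (LP (LK LD1_c10 LD2_c50 LD3_c28)) = (LP (LK LD1_c15 LD2_c36 LD3_c51)) :=
  Lgr Lrot122 (Lpr_dt (f312040 IH) (Lpr_gt (f329515 IH) (Lpe (K21.f286167 IH) (Lpr_et (K21.f286163 IH) (Lpr_gt (f322456 IH) (Lpr_dt (f314644 IH) (Lpr_gt (K22.f328354 IH) (Lpe (K21.f168512 IH) (Lpr_et (f322288 IH) (Lpr_gt (f347854 IH) (Lpn (LP (LK LD1_c15 LD2_c36 LD3_c51)))))))))))))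
theorem f312042 : Led Lsl_et (LP (LK LD1_c9 LD2_c42 LD3_c27)) = (LP (LK LD1_c17 LD2_c51 LD3_c14)) :=
  Lre_e IH (LK LD1_c9 LD2_c42 LD3_c27) (LK LD1_c17 LD2_c51 LD3_c14) Lrfl Lrfl
theorem f317517 : Led Lsl_et (LP (LK LD1_c15 LD2_c1 LD3_c51)) = (LP (LK LD1_c8 LD2_c17 LD3_c16)) :=
  Lgr Lrot69 (Lpe (K20.f301079 IH) (Lpe (K18.f223080 IH) (Lpr_ff (K20.f317509 IH) (Lpe (K20.f199749 IH) (Lpe (K20.f199714 IH) (Lpn (LP (LK LD1_c8 LD2_c17 LD3_c16))))))))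
theorem f328229 : Led Lsl_dt (LP (LK LD1_c10 LD2_c50 LD3_c38)) = (LP (LK LD1_c15 LD2_c1 LD3_c51)) :=
  Lgr Lrot77 (Lpe (f322288 IH) (Lpe (K21.f213787 IH) (Lpr_ef (K21.f328225 IH) (Lpr_df (K20.f247708 IH) (Lpe (f317517 IH) (Lpn (LP (LK LD1_c15 LD2_c1 LD3_c51))))))))
theorem f347285 : Led Lsl_ct (LP (LK LD1_c10 LD2_c51 LD3_c46)) = (LP (LK LD1_c15 LD2_c1 LD3_c51)) :=
  Lgr Lrot59 (Lpr_cf (f347278 IH) (Lpn (LP (LK LD1_c15 LD2_c1 LD3_c51))))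
theorem f250643 : Led Lsl_ct (LP (LK LD1_c5 LD2_c30 LD3_c14)) = (LP (LK LD1_c10 LD2_c51 LD3_c52)) :=
  Lre_c IH (LK LD1_c5 LD2_c30 LD3_c14) (LK LD1_c10 LD2_c51 LD3_c52) Lrfl Lrfl
theorem f347754 : Led Lsl_gt (LP (LK LD1_c10 LD2_c51 LD3_c52)) = (LP (LK LD1_c15 LD2_c58 LD3_c23)) :=
  Lgr Lrot150 (Lpe (f250643 IH) (Lpe (K14.f236153 IH) (Lpe (K14.f236152 IH) (Lpr_gt (K21.f213858 IH) (Lpr_ct (K21.f295745 IH) (Lpr_gt (f295746 IH) (Lpr_ct (f347285 IH) (Lpe (f328229 IH) (Lpr_cf (f347745 IH) (Lpn (LP (LK LD1_c15 LD2_c58 LD3_c23))))))))))))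
theorem f347756 : Led Lsl_df (LP (LK LD1_c10 LD2_c50 LD3_c38)) = (LP (LK LD1_c15 LD2_c1 LD3_c51)) :=
  Lgr Lrot162 (Lpr_cf (f347745 IH) (Lpe (f347754 IH) (Lpe (f250643 IH) (Lpe (K14.f236153 IH) (Lpr_dt (K13.f213857 IH) (Lpr_gt (K21.f213858 IH) (Lpr_ct (K21.f295745 IH) (Lpr_gt (f295746 IH) (Lpr_ct (f347285 IH) (Lpn (LP (LK LD1_c15 LD2_c1 LD3_c51))))))))))))
theorem f266379 : Led Lsl_dt (LP (LK LD1_c5 LD2_c30 LD3_c9)) = (LP (LK LD1_c10 LD2_c51 LD3_c45)) :=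
  Lre_d IH (LK LD1_c5 LD2_c30 LD3_c9) (LK LD1_c10 LD2_c51 LD3_c45) Lrfl Lrfl
theorem f266378 : Led Lsl_gt (LP (LK LD1_c10 LD2_c51 LD3_c45)) = (LP (LK LD1_c19 LD2_c35 LD3_c31)) :=
  Lre_g IH (LK LD1_c10 LD2_c51 LD3_c45) (LK LD1_c19 LD2_c35 LD3_c31) Lrfl Lrfl
theorem f222563 : Led Lsl_et (LP (LK LD1_c5 LD2_c29 LD3_c27)) = (LP (LK LD1_c2 LD2_c40 LD3_c59)) :=
  Lre_e IH (LK LD1_c5 LD2_c29 LD3_c27) (LK LD1_c2 LD2_c40 LD3_c59) Lrfl Lrfl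
theorem f266350 : Led Lsl_dt (LP (LK LD1_c5 LD2_c29 LD3_c27)) = (LP (LK LD1_c10 LD2_c50 LD3_c14)) :=
  Lre_d IH (LK LD1_c5 LD2_c29 LD3_c27) (LK LD1_c10 LD2_c50 LD3_c14) Lrfl Lrfl
theorem f266351 : Led Lsl_gt (LP (LK LD1_c19 LD2_c35 LD3_c31)) = (LP (LK LD1_c10 LD2_c50 LD3_c14)) :=
  Lre_g IH (LK LD1_c19 LD2_c35 LD3_c31) (LK LD1_c10 LD2_c50 LD3_c14) Lrfl Lrfl
theorem f266352 : Led Lsl_et (LP (LK LD1_c1 LD2_c17 LD3_c46)) = (LP (LK LD1_c2 LD2_c42 LD3_c23)) :=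
  Lre_e IH (LK LD1_c1 LD2_c17 LD3_c46) (LK LD1_c2 LD2_c42 LD3_c23) Lrfl Lrfl
theorem f266353 : Led Lsl_gt (LP (LK LD1_c2 LD2_c42 LD3_c23)) = (LP (LK LD1_c5 LD2_c32 LD3_c25)) :=
  Lre_g IH (LK LD1_c2 LD2_c42 LD3_c23) (LK LD1_c5 LD2_c32 LD3_c25) Lrfl Lrfl
theorem f213253 : Led Lsl_et (LP (LK LD1_c10 LD2_c56 LD3_c36)) = (LP (LK LD1_c5 LD2_c32 LD3_c25)) :=
  Lre_e IH (LK LD1_c10 LD2_c56 LD3_c36) (LK LD1_c5 LD2_c32 LD3_c25) Lrfl Lrfl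
theorem f266354 : Led Lsl_df (LP (LK LD1_c19 LD2_c35 LD3_c31)) = (LP (LK LD1_c10 LD2_c56 LD3_c36)) :=
  Lgr Lrot170 (Lpr_gt (f266351 IH) (Lpe (f266350 IH) (Lpr_et (f222563 IH) (Lpr_gt (K15.f266343 IH) (Lpe (K15.f266348 IH) (Lpr_gt (K14.f213281 IH) (Lpe (K14.f213056 IH) (Lpr_et (f266352 IH) (Lpr_gt (f266353 IH) (Lpe (f213253 IH) (Lpn (LP (LK LD1_c10 LD2_c56 LD3_c36)))))))))))))
theorem f266364 : Led Lsl_dt (LP (LK LD1_c19 LD2_c35 LD3_c31)) = (LP (LK LD1_c10 LD2_c56 LD3_c36)) :=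
  Lgr Lrot42 (Lpr_df (f266354 IH) (Lpn (LP (LK LD1_c10 LD2_c56 LD3_c36))))
theorem f266396 : Led Lsl_ct (LP (LK LD1_c10 LD2_c56 LD3_c36)) = (LP (LK LD1_c19 LD2_c45 LD3_c56)) :=
  Lre_c IH (LK LD1_c10 LD2_c56 LD3_c36) (LK LD1_c19 LD2_c45 LD3_c56) Lrfl Lrfl
theorem f347856 : Led Lsl_df (LP (LK LD1_c19 LD2_c45 LD3_c56)) = (LP (LK LD1_c15 LD2_c36 LD3_c51)) :=
  Lgr Lrot84 (Lpe (f266396 IH) (Lpe (f266364 IH) (Lpe (f266378 IH) (Lpe (f266379 IH) (Lpe (K18.f245820 IH) (Lpe (K18.f300927 IH) (Lpe (f347303 IH) (Lpe (f347756 IH) (Lpr_gt (f347854 IH) (Lpn (LP (LK LD1_c15 LD2_c36 LD3_c51))))))))))))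
theorem f295136 : Led Lsl_et (LP (LK LD1_c19 LD2_c45 LD3_c56)) = (LP (LK LD1_c10 LD2_c56 LD3_c34)) :=
  Lre_e IH (LK LD1_c19 LD2_c45 LD3_c56) (LK LD1_c10 LD2_c56 LD3_c34) Lrfl Lrfl
theorem f347864 : Led Lsl_df (LP (LK LD1_c9 LD2_c42 LD3_c27)) = (LP (LK LD1_c10 LD2_c56 LD3_c34)) :=
  Lgr Lrot70 (Lpr_et (f312042 IH) (Lpe (f312034 IH) (Lpr_et (f347862 IH) (Lpe (f347856 IH) (Lpr_et (f295136 IH) (Lpn (LP (LK LD1_c10 LD2_c56 LD3_c34))))))))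
theorem f347870 : Led Lsl_dt (LP (LK LD1_c9 LD2_c42 LD3_c27)) = (LP (LK LD1_c10 LD2_c56 LD3_c34)) :=
  Lgr Lrot42 (Lpr_df (f347864 IH) (Lpn (LP (LK LD1_c10 LD2_c56 LD3_c34))))
theorem f224889 : Led Lsl_dt (LP (LK LD1_c8 LD2_c10 LD3_c15)) = (LP (LK LD1_c4 LD2_c51 LD3_c31)) :=
  Lgr Lrot79 (Lpe (f224888 IH) (Lpr_df (K19.f224885 IH) (Lpe (K20.f171055 IH) (Lpn (LP (LK LD1_c4 LD2_c51 LD3_c31))))))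
theorem f27448 : Led Lsl_et (LP (LK LD1_c15 LD2_c52 LD3_c31)) = (LP (LK LD1_c8 LD2_c27 LD3_c16)) :=
  Lre_e IH (LK LD1_c15 LD2_c52 LD3_c31) (LK LD1_c8 LD2_c27 LD3_c16) Lrfl Lrfl
theorem f189611 : Led Lsl_et (LP (LK LD1_c5 LD2_c15 LD3_c15)) = (LP (LK LD1_c10 LD2_c19 LD3_c56)) :=
  Lre_e IH (LK LD1_c5 LD2_c15 LD3_c15) (LK LD1_c10 LD2_c19 LD3_c56) Lrfl Lrfl
theorem f286169 : Led Lsl_et (LP (LK LD1_c8 LD2_c10 LD3_c15)) = (LP (LK LD1_c5 LD2_c15 LD3_c17)) :=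
  Lgr Lrot121 (Lpr_dt (f224889 IH) (Lpe (K20.f171070 IH) (Lpr_df (K21.f286164 IH) (Lpr_et (f27448 IH) (Lpr_gf (K21.f189702 IH) (Lpe (f189611 IH) (Lpr_dt (K11.f189598 IH) (Lpe (K10.f47683 IH) (Lpe (K10.f183685 IH) (Lpe (K15.f186861 IH) (Lpn (LP (LK LD1_c5 LD2_c15 LD3_c17)))))))))))))
theorem f189773 : Led Lsl_et (LP (LK LD1_c5 LD2_c15 LD3_c19)) = (LP (LK LD1_c2 LD2_c34 LD3_c30)) :=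
  Lre_e IH (LK LD1_c5 LD2_c15 LD3_c19) (LK LD1_c2 LD2_c34 LD3_c30) Lrfl Lrfl
theorem f218919 : Led Lsl_et (LP (LK LD1_c3 LD2_c58 LD3_c27)) = (LP (LK LD1_c7 LD2_c58 LD3_c18)) :=
  Lre_e IH (LK LD1_c3 LD2_c58 LD3_c27) (LK LD1_c7 LD2_c58 LD3_c18) Lrfl Lrfl
theorem f189768 : Led Lsl_et (LP (LK LD1_c1 LD2_c14 LD3_c16)) = (LP (LK LD1_c2 LD2_c34 LD3_c31)) :=
  Lre_e IH (LK LD1_c1 LD2_c14 LD3_c16) (LK LD1_c2 LD2_c34 LD3_c31) Lrfl Lrfl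
theorem f223090 : Led Lsl_dt (LP (LK LD1_c7 LD2_c58 LD3_c18)) = (LP (LK LD1_c5 LD2_c15 LD3_c19)) :=
  Lgr Lrot77 (Lpe (f218919 IH) (Lpr_df (K13.f223088 IH) (Lpe (f189768 IH) (Lpe (K10.f183685 IH) (Lpe (f189773 IH) (Lpn (LP (LK LD1_c5 LD2_c15 LD3_c19))))))))
theorem f223097 : Led Lsl_df (LP (LK LD1_c7 LD2_c58 LD3_c18)) = (LP (LK LD1_c5 LD2_c15 LD3_c19)) :=
  Lgr Lrot38 (Lpr_dt (f223090 IH) (Lpn (LP (LK LD1_c5 LD2_c15 LD3_c19))))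
theorem f347954 : Led Lsl_gt (LP (LK LD1_c7 LD2_c58 LD3_c18)) = (LP (LK LD1_c10 LD2_c56 LD3_c34)) :=
  Lgr Lrot112 (Lpr_df (f223097 IH) (Lpr_et (f189773 IH) (Lpe (K15.f186861 IH) (Lpe (f286169 IH) (Lpr_dt (f224889 IH) (Lpe (K20.f171070 IH) (Lpr_df (K21.f286164 IH) (Lpe (f329515 IH) (Lpe (f312042 IH) (Lpr_dt (f347870 IH) (Lpn (LP (LK LD1_c10 LD2_c56 LD3_c34)))))))))))))
theorem f189735 : Led Lsl_gt (LP (LK LD1_c5 LD2_c15 LD3_c19)) = (LP (LK LD1_c10 LD2_c19 LD3_c60)) :=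
  Lre_g IH (LK LD1_c5 LD2_c15 LD3_c19) (LK LD1_c10 LD2_c19 LD3_c60) Lrfl Lrfl
theorem f258853 : Led Lsl_ct (LP (LK LD1_c10 LD2_c56 LD3_c34)) = (LP (LK LD1_c5 LD2_c32 LD3_c25)) :=
  Lre_c IH (LK LD1_c10 LD2_c56 LD3_c34) (LK LD1_c5 LD2_c32 LD3_c25) Lrfl Lrfl
theorem f213252 : Led Lsl_gt (LP (LK LD1_c5 LD2_c32 LD3_c25)) = (LP (LK LD1_c10 LD2_c56 LD3_c2)) :=
  Lre_g IH (LK LD1_c5 LD2_c32 LD3_c25) (LK LD1_c10 LD2_c56 LD3_c2) Lrfl Lrfl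
theorem f213269 : Led Lsl_ft (LP (LK LD1_c5 LD2_c32 LD3_c13)) = (LP (LK LD1_c2 LD2_c42 LD3_c18)) :=
  Lre_f IH (LK LD1_c5 LD2_c32 LD3_c13) (LK LD1_c2 LD2_c42 LD3_c18) Lrfl Lrfl
theorem f258794 : Led Lsl_df (LP (LK LD1_c5 LD2_c32 LD3_c13)) = (LP (LK LD1_c8 LD2_c28 LD3_c45)) :=
  Lgr Lrot78 (Lpr_ft (f213269 IH) (Lpr_dt (K15.f258689 IH) (Lpr_ft (K15.f231748 IH) (Lpn (LP (LK LD1_c8 LD2_c28 LD3_c45))))))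
theorem f264787 : Led Lsl_gt (LP (LK LD1_c5 LD2_c25 LD3_c57)) = (LP (LK LD1_c10 LD2_c43 LD3_c5)) :=
  Lre_g IH (LK LD1_c5 LD2_c25 LD3_c57) (LK LD1_c10 LD2_c43 LD3_c5) Lrfl Lrfl
theorem f264788 : Led Lsl_gt (LP (LK LD1_c10 LD2_c43 LD3_c5)) = (LP (LK LD1_c15 LD2_c55 LD3_c11)) :=
  Lgr Lrot46 (Lpe (f264787 IH) (Lpr_ft (K20.f264786 IH) (Lpr_at (K15.f264778 IH) (Lpn (LP (LK LD1_c15 LD2_c55 LD3_c11))))))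
theorem f347960 : Led Lsl_ct (LP (LK LD1_c10 LD2_c19 LD3_c60)) = (LP (LK LD1_c10 LD2_c43 LD3_c5)) :=
  Lgr Lrot152 (Lpe (f189735 IH) (Lpe (f223090 IH) (Lpr_gt (f347954 IH) (Lpr_ct (f258853 IH) (Lpr_gt (f213252 IH) (Lpr_ct (K20.f213247 IH) (Lpr_df (f258794 IH) (Lpe (K15.f231747 IH) (Lpe (f264788 IH) (Lpn (LP (LK LD1_c10 LD2_c43 LD3_c5))))))))))))
theorem f347963 : Led Lsl_cf (LP (LK LD1_c10 LD2_c19 LD3_c60)) = (LP (LK LD1_c10 LD2_c43 LD3_c5)) :=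
  Lgr Lrot11 (Lpr_ct (f347960 IH) (Lpn (LP (LK LD1_c10 LD2_c43 LD3_c5))))
theorem f49892 : Led Lsl_et (LP (LK LD1_c2 LD2_c4 LD3_c19)) = (LP (LK LD1_c0 LD2_c59 LD3_c14)) :=
  Lre_e IH (LK LD1_c2 LD2_c4 LD3_c19) (LK LD1_c0 LD2_c59 LD3_c14) Lrfl Lrfl
theorem f27507 : Led Lsl_et (LP (LK LD1_c4 LD2_c14 LD3_c13)) = (LP (LK LD1_c2 LD2_c4 LD3_c29)) :=
  Lre_e IH (LK LD1_c4 LD2_c14 LD3_c13) (LK LD1_c2 LD2_c4 LD3_c29) Lrfl Lrfl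
theorem f27508 : Led Lsl_dt (LP (LK LD1_c4 LD2_c14 LD3_c13)) = (LP (LK LD1_c8 LD2_c27 LD3_c0)) :=
  Lre_d IH (LK LD1_c4 LD2_c14 LD3_c13) (LK LD1_c8 LD2_c27 LD3_c0) Lrfl Lrfl
theorem f189738 : Led Lsl_gt (LP (LK LD1_c15 LD2_c51 LD3_c56)) = (LP (LK LD1_c8 LD2_c27 LD3_c0)) :=
  Lre_g IH (LK LD1_c15 LD2_c51 LD3_c56) (LK LD1_c8 LD2_c27 LD3_c0) Lrfl Lrfl
theorem f189705 : Led Lsl_et (LP (LK LD1_c2 LD2_c34 LD3_c30)) = (LP (LK LD1_c5 LD2_c15 LD3_c19)) :=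
  Lre_e IH (LK LD1_c2 LD2_c34 LD3_c30) (LK LD1_c5 LD2_c15 LD3_c19) Lrfl Lrfl
theorem f189739 : Led Lsl_df (LP (LK LD1_c15 LD2_c51 LD3_c56)) = (LP (LK LD1_c10 LD2_c19 LD3_c60)) :=
  Lgr Lrot135 (Lpr_gt (f189738 IH) (Lpe (f27508 IH) (Lpr_et (f27507 IH) (Lpr_gt (K12.f44971 IH) (Lpe (f49892 IH) (Lpr_dt (K14.f49440 IH) (Lpr_gt (K10.f189720 IH) (Lpe (K10.f183685 IH) (Lpr_et (f189705 IH) (Lpr_gt (f189735 IH) (Lpn (LP (LK LD1_c10 LD2_c19 LD3_c60)))))))))))))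
theorem f189741 : Led Lsl_dt (LP (LK LD1_c15 LD2_c51 LD3_c56)) = (LP (LK LD1_c10 LD2_c19 LD3_c60)) :=
  Lgr Lrot42 (Lpr_df (f189739 IH) (Lpn (LP (LK LD1_c10 LD2_c19 LD3_c60))))
theorem f7623 : Led Lsl_bt (LP (LK LD1_c2 LD2_c43 LD3_c27)) = (LP (LK LD1_c1 LD2_c18 LD3_c8)) :=
  Lre_b IH (LK LD1_c2 LD2_c43 LD3_c27) (LK LD1_c1 LD2_c18 LD3_c8) Lrfl Lrfl
theorem f8607 : Led Lsl_ct (LP (LK LD1_c2 LD2_c43 LD3_c27)) = (LP (LK LD1_c5 LD2_c35 LD3_c5)) :=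
  Lre_c IH (LK LD1_c2 LD2_c43 LD3_c27) (LK LD1_c5 LD2_c35 LD3_c5) Lrfl Lrfl
theorem f337704 : Led Lsl_gf (LP (LK LD1_c5 LD2_c35 LD3_c5)) = (LP (LK LD1_c10 LD2_c24 LD3_c28)) :=
  Lgr Lrot129 (Lpe (f8607 IH) (Lpr_bt (f7623 IH) (Lpr_gt (K15.f7610 IH) (Lpe (K17.f7594 IH) (Lpr_ct (K19.f42359 IH) (Lpr_gt (K22.f221674 IH) (Lpe (K22.f41508 IH) (Lpr_bt (f337690 IH) (Lpr_gt (K15.f32942 IH) (Lpr_ct (K16.f32939 IH) (Lpn (LP (LK LD1_c10 LD2_c24 LD3_c28)))))))))))))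
theorem f323515 : Led Lsl_dt (LP (LK LD1_c5 LD2_c35 LD3_c5)) = (LP (LK LD1_c11 LD2_c2 LD3_c24)) :=
  Lre_d IH (LK LD1_c5 LD2_c35 LD3_c5) (LK LD1_c11 LD2_c2 LD3_c24) Lrfl Lrfl
theorem f337706 : Led Lsl_gt (LP (LK LD1_c11 LD2_c2 LD3_c24)) = (LP (LK LD1_c19 LD2_c53 LD3_c39)) :=
  Lre_g IH (LK LD1_c11 LD2_c2 LD3_c24) (LK LD1_c19 LD2_c53 LD3_c39) Lrfl Lrfl
theorem f251282 : Led Lsl_cf (LP (LK LD1_c6 LD2_c5 LD3_c44)) = (LP (LK LD1_c5 LD2_c26 LD3_c8)) :=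
  Lgr Lrot14 (Lpe (K9.f169566 IH) (Lpr_gf (K14.f251277 IH) (Lpe (K10.f191723 IH) (Lpe (K10.f32953 IH) (Lpe (K10.f187495 IH) (Lpr_gt (K10.f187734 IH) (Lpr_dt (K17.f50778 IH) (Lpe (K17.f251280 IH) (Lpr_dt (K17.f251279 IH) (Lpn (LP (LK LD1_c5 LD2_c26 LD3_c8))))))))))))
theorem f266483 : Led Lsl_gt (LP (LK LD1_c8 LD2_c15 LD3_c12)) = (LP (LK LD1_c10 LD2_c23 LD3_c58)) :=
  Lgr Lrot9 (Lpe (K19.f189523 IH) (Lpr_gt (K15.f260404 IH) (Lpe (f251282 IH) (Lpr_gt (K15.f266475 IH) (Lpr_ct (K14.f204985 IH) (Lpe (K15.f192521 IH) (Lpr_cf (K10.f188329 IH) (Lpe (K10.f184189 IH) (Lpe (K15.f184168 IH) (Lpn (LP (LK LD1_c10 LD2_c23 LD3_c58))))))))))))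
theorem f282391 : Led Lsl_et (LP (LK LD1_c4 LD2_c7 LD3_c37)) = (LP (LK LD1_c8 LD2_c15 LD3_c13)) :=
  Lre_e IH (LK LD1_c4 LD2_c7 LD3_c37) (LK LD1_c8 LD2_c15 LD3_c13) Lrfl Lrfl
theorem f231757 : Led Lsl_gt (LP (LK LD1_c15 LD2_c31 LD3_c13)) = (LP (LK LD1_c8 LD2_c15 LD3_c13)) :=
  Lre_g IH (LK LD1_c15 LD2_c31 LD3_c13) (LK LD1_c8 LD2_c15 LD3_c13) Lrfl Lrfl
theorem f282408 : Led Lsl_et (LP (LK LD1_c25 LD2_c24 LD3_c17)) = (LP (LK LD1_c15 LD2_c31 LD3_c13)) :=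
  Lre_e IH (LK LD1_c25 LD2_c24 LD3_c17) (LK LD1_c15 LD2_c31 LD3_c13) Lrfl Lrfl
theorem f337709 : Led Lsl_df (LP (LK LD1_c19 LD2_c53 LD3_c39)) = (LP (LK LD1_c25 LD2_c24 LD3_c17)) :=
  Lgr Lrot132 (Lpe (f337706 IH) (Lpe (f323515 IH) (Lpr_gf (f337704 IH) (Lpe (K16.f187725 IH) (Lpr_dt (K10.f184153 IH) (Lpe (f266483 IH) (Lpe (K19.f189523 IH) (Lpr_et (f282391 IH) (Lpe (f231757 IH) (Lpe (f282408 IH) (Lpn (LP (LK LD1_c25 LD2_c24 LD3_c17)))))))))))))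
theorem f337713 : Led Lsl_dt (LP (LK LD1_c19 LD2_c53 LD3_c39)) = (LP (LK LD1_c25 LD2_c24 LD3_c17)) :=
  Lgr Lrot42 (Lpr_df (f337709 IH) (Lpn (LP (LK LD1_c25 LD2_c24 LD3_c17))))
theorem f32944 : Led Lsl_dt (LP (LK LD1_c10 LD2_c24 LD3_c29)) = (LP (LK LD1_c18 LD2_c52 LD3_c58)) :=
  Lre_d IH (LK LD1_c10 LD2_c24 LD3_c29) (LK LD1_c18 LD2_c52 LD3_c58) Lrfl Lrfl
theorem f187872 : Led Lsl_et (LP (LK LD1_c9 LD2_c33 LD3_c15)) = (LP (LK LD1_c4 LD2_c50 LD3_c31)) :=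
  Lre_e IH (LK LD1_c9 LD2_c33 LD3_c15) (LK LD1_c4 LD2_c50 LD3_c31) Lrfl Lrfl
theorem f221528 : Led Lsl_et (LP (LK LD1_c4 LD2_c14 LD3_c11)) = (LP (LK LD1_c8 LD2_c26 LD3_c56)) :=
  Lre_e IH (LK LD1_c4 LD2_c14 LD3_c11) (LK LD1_c8 LD2_c26 LD3_c56) Lrfl Lrfl
theorem f223221 : Led Lsl_df (LP (LK LD1_c9 LD2_c33 LD3_c15)) = (LP (LK LD1_c8 LD2_c26 LD3_c56)) :=
  Lgr Lrot70 (Lpr_et (f187872 IH) (Lpr_dt (K14.f27711 IH) (Lpr_et (K15.f187867 IH) (Lpr_dt (K15.f223217 IH) (Lpr_et (f221528 IH) (Lpn (LP (LK LD1_c8 LD2_c26 LD3_c56))))))))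
theorem f223228 : Led Lsl_ft (LP (LK LD1_c9 LD2_c33 LD3_c15)) = (LP (LK LD1_c17 LD2_c35 LD3_c41)) :=
  Lre_f IH (LK LD1_c9 LD2_c33 LD3_c15) (LK LD1_c17 LD2_c35 LD3_c41) Lrfl Lrfl
theorem f221470 : Led Lsl_ft (LP (LK LD1_c15 LD2_c51 LD3_c44)) = (LP (LK LD1_c8 LD2_c26 LD3_c56)) :=
  Lre_f IH (LK LD1_c15 LD2_c51 LD3_c44) (LK LD1_c8 LD2_c26 LD3_c56) Lrfl Lrfl
theorem f223229 : Led Lsl_dt (LP (LK LD1_c17 LD2_c35 LD3_c41)) = (LP (LK LD1_c15 LD2_c51 LD3_c44)) :=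
  Lgr Lrot60 (Lpe (f223228 IH) (Lpr_df (f223221 IH) (Lpe (f221470 IH) (Lpn (LP (LK LD1_c15 LD2_c51 LD3_c44))))))
theorem f223235 : Led Lsl_df (LP (LK LD1_c17 LD2_c35 LD3_c41)) = (LP (LK LD1_c15 LD2_c51 LD3_c44)) :=
  Lgr Lrot38 (Lpr_dt (f223229 IH) (Lpn (LP (LK LD1_c15 LD2_c51 LD3_c44))))
theorem f221454 : Led Lsl_bt (LP (LK LD1_c8 LD2_c27 LD3_c1)) = (LP (LK LD1_c15 LD2_c51 LD3_c44)) :=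
  Lre_b IH (LK LD1_c8 LD2_c27 LD3_c1) (LK LD1_c15 LD2_c51 LD3_c44) Lrfl Lrfl
theorem f223238 : Led Lsl_dt (LP (LK LD1_c15 LD2_c51 LD3_c57)) = (LP (LK LD1_c8 LD2_c27 LD3_c1)) :=
  Lre_d IH (LK LD1_c15 LD2_c51 LD3_c57) (LK LD1_c8 LD2_c27 LD3_c1) Lrfl Lrfl
theorem f223239 : Led Lsl_bt (LP (LK LD1_c17 LD2_c35 LD3_c41)) = (LP (LK LD1_c15 LD2_c51 LD3_c57)) :=
  Lgr Lrot95 (Lpr_df (f223235 IH) (Lpe (f221454 IH) (Lpe (f223238 IH) (Lpn (LP (LK LD1_c15 LD2_c51 LD3_c57))))))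
theorem f223241 : Led Lsl_ft (LP (LK LD1_c15 LD2_c51 LD3_c57)) = (LP (LK LD1_c8 LD2_c27 LD3_c0)) :=
  Lre_f IH (LK LD1_c15 LD2_c51 LD3_c57) (LK LD1_c8 LD2_c27 LD3_c0) Lrfl Lrfl
theorem f223242 : Led Lsl_bf (LP (LK LD1_c9 LD2_c33 LD3_c15)) = (LP (LK LD1_c8 LD2_c27 LD3_c0)) :=
  Lgr Lrot61 (Lpr_ft (f223228 IH) (Lpr_bt (f223239 IH) (Lpr_ft (f223241 IH) (Lpn (LP (LK LD1_c8 LD2_c27 LD3_c0))))))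
theorem f223244 : Led Lsl_et (LP (LK LD1_c5 LD2_c0 LD3_c57)) = (LP (LK LD1_c8 LD2_c27 LD3_c0)) :=
  Lgr Lrot74 (Lpr_bf (K14.f187865 IH) (Lpe (f187872 IH) (Lpr_bf (f223242 IH) (Lpn (LP (LK LD1_c8 LD2_c27 LD3_c0))))))
theorem f189754 : Led Lsl_et (LP (LK LD1_c25 LD2_c47 LD3_c40)) = (LP (LK LD1_c15 LD2_c51 LD3_c56)) :=
  Lre_e IH (LK LD1_c25 LD2_c47 LD3_c40) (LK LD1_c15 LD2_c51 LD3_c56) Lrfl Lrfl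
theorem f189743 : Led Lsl_et (LP (LK LD1_c15 LD2_c51 LD3_c56)) = (LP (LK LD1_c25 LD2_c47 LD3_c40)) :=
  Lre_e IH (LK LD1_c15 LD2_c51 LD3_c56) (LK LD1_c25 LD2_c47 LD3_c40) Lrfl Lrfl
theorem f189663 : Led Lsl_dt (LP (LK LD1_c8 LD2_c26 LD3_c28)) = (LP (LK LD1_c8 LD2_c16 LD3_c25)) :=
  Lgr Lrot42 (Lpr_df (K12.f189659 IH) (Lpn (LP (LK LD1_c8 LD2_c16 LD3_c25))))
theorem f189669 : Led Lsl_gt (LP (LK LD1_c15 LD2_c33 LD3_c21)) = (LP (LK LD1_c8 LD2_c16 LD3_c25)) :=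
  Lre_g IH (LK LD1_c15 LD2_c33 LD3_c21) (LK LD1_c8 LD2_c16 LD3_c25) Lrfl Lrfl
theorem f188554 : Led Lsl_et (LP (LK LD1_c2 LD2_c4 LD3_c22)) = (LP (LK LD1_c4 LD2_c14 LD3_c0)) :=
  Lre_e IH (LK LD1_c2 LD2_c4 LD3_c22) (LK LD1_c4 LD2_c14 LD3_c0) Lrfl Lrfl
theorem f188546 : Led Lsl_gt (LP (LK LD1_c4 LD2_c14 LD3_c0)) = (LP (LK LD1_c8 LD2_c26 LD3_c38)) :=
  Lre_g IH (LK LD1_c4 LD2_c14 LD3_c0) (LK LD1_c8 LD2_c26 LD3_c38) Lrfl Lrfl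
theorem f189677 : Led Lsl_dt (LP (LK LD1_c8 LD2_c26 LD3_c38)) = (LP (LK LD1_c15 LD2_c33 LD3_c21)) :=
  Lgr Lrot171 (Lpe (f188546 IH) (Lpe (f188554 IH) (Lpr_dt (K10.f188532 IH) (Lpe (K10.f54512 IH) (Lpe (K12.f188597 IH) (Lpr_et (K16.f50878 IH) (Lpe (K12.f45729 IH) (Lpe (K12.f189629 IH) (Lpr_dt (f189663 IH) (Lpe (f189669 IH) (Lpn (LP (LK LD1_c15 LD2_c33 LD3_c21)))))))))))))
theorem f189736 : Led Lsl_et (LP (LK LD1_c8 LD2_c26 LD3_c38)) = (LP (LK LD1_c10 LD2_c19 LD3_c60)) :=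
  Lgr Lrot122 (Lpr_dt (f189677 IH) (Lpr_gt (f189669 IH) (Lpe (f189663 IH) (Lpr_et (K12.f189629 IH) (Lpr_gt (K12.f45729 IH) (Lpr_dt (K14.f49440 IH) (Lpr_gt (K10.f189720 IH) (Lpe (K10.f183685 IH) (Lpr_et (f189705 IH) (Lpr_gt (f189735 IH) (Lpn (LP (LK LD1_c10 LD2_c19 LD3_c60)))))))))))))
theorem f189679 : Led Lsl_df (LP (LK LD1_c8 LD2_c26 LD3_c38)) = (LP (LK LD1_c15 LD2_c33 LD3_c21)) :=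
  Lgr Lrot38 (Lpr_dt (f189677 IH) (Lpn (LP (LK LD1_c15 LD2_c33 LD3_c21))))
theorem f189670 : Led Lsl_et (LP (LK LD1_c25 LD2_c26 LD3_c55)) = (LP (LK LD1_c15 LD2_c33 LD3_c21)) :=
  Lre_e IH (LK LD1_c25 LD2_c26 LD3_c55) (LK LD1_c15 LD2_c33 LD3_c21) Lrfl Lrfl
theorem f189744 : Led Lsl_dt (LP (LK LD1_c25 LD2_c47 LD3_c40)) = (LP (LK LD1_c25 LD2_c26 LD3_c55)) :=
  Lgr Lrot77 (Lpe (f189743 IH) (Lpr_df (f189739 IH) (Lpe (f189736 IH) (Lpr_df (f189679 IH) (Lpe (f189670 IH) (Lpn (LP (LK LD1_c25 LD2_c26 LD3_c55))))))))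
theorem f223249 : Led Lsl_gt (LP (LK LD1_c18 LD2_c52 LD3_c58)) = (LP (LK LD1_c25 LD2_c26 LD3_c55)) :=
  Lgr Lrot139 (Lpe (f32944 IH) (Lpe (f32943 IH) (Lpe (K10.f32117 IH) (Lpr_dt (K10.f32101 IH) (Lpr_gf (K9.f165857 IH) (Lpe (K12.f165866 IH) (Lpr_et (f223244 IH) (Lpe (f189738 IH) (Lpe (f189754 IH) (Lpr_dt (f189744 IH) (Lpn (LP (LK LD1_c25 LD2_c26 LD3_c55)))))))))))))
theorem f189752 : Led Lsl_ef (LP (LK LD1_c8 LD2_c26 LD3_c38)) = (LP (LK LD1_c10 LD2_c19 LD3_c60)) :=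
  Lgr Lrot17 (Lpe (f188546 IH) (Lpe (f188554 IH) (Lpr_dt (K10.f188532 IH) (Lpe (K10.f54512 IH) (Lpe (K12.f188597 IH) (Lpe (K12.f44971 IH) (Lpe (f27507 IH) (Lpr_dt (f27508 IH) (Lpe (f189738 IH) (Lpr_df (f189739 IH) (Lpn (LP (LK LD1_c10 LD2_c19 LD3_c60)))))))))))))
theorem f189681 : Led Lsl_et (LP (LK LD1_c15 LD2_c33 LD3_c21)) = (LP (LK LD1_c25 LD2_c26 LD3_c55)) :=
  Lre_e IH (LK LD1_c15 LD2_c33 LD3_c21) (LK LD1_c25 LD2_c26 LD3_c55) Lrfl Lrfl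
theorem f189755 : Led Lsl_dt (LP (LK LD1_c25 LD2_c26 LD3_c55)) = (LP (LK LD1_c25 LD2_c47 LD3_c40)) :=
  Lgr Lrot77 (Lpe (f189681 IH) (Lpe (f189677 IH) (Lpr_ef (f189752 IH) (Lpe (f189741 IH) (Lpe (f189754 IH) (Lpn (LP (LK LD1_c25 LD2_c47 LD3_c40))))))))
theorem f337720 : Led Lsl_cf (LP (LK LD1_c25 LD2_c47 LD3_c40)) = (LP (LK LD1_c25 LD2_c24 LD3_c17)) :=
  Lgr Lrot14 (Lpe (f189755 IH) (Lpe (f223249 IH) (Lpe (f32944 IH) (Lpe (f32943 IH) (Lpr_ct (K16.f32939 IH) (Lpe (f337704 IH) (Lpr_dt (f323515 IH) (Lpr_gt (f337706 IH) (Lpr_dt (f337713 IH) (Lpn (LP (LK LD1_c25 LD2_c24 LD3_c17))))))))))))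
theorem f337715 : Led Lsl_et (LP (LK LD1_c15 LD2_c31 LD3_c13)) = (LP (LK LD1_c25 LD2_c24 LD3_c17)) :=
  Lre_e IH (LK LD1_c15 LD2_c31 LD3_c13) (LK LD1_c25 LD2_c24 LD3_c17) Lrfl Lrfl
theorem f337723 : Led Lsl_ct (LP (LK LD1_c15 LD2_c51 LD3_c56)) = (LP (LK LD1_c15 LD2_c31 LD3_c13)) :=
  Lgr Lrot15 (Lpe (f189754 IH) (Lpr_cf (f337720 IH) (Lpe (f337715 IH) (Lpn (LP (LK LD1_c15 LD2_c31 LD3_c13))))))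
theorem f337725 : Led Lsl_cf (LP (LK LD1_c15 LD2_c51 LD3_c56)) = (LP (LK LD1_c15 LD2_c31 LD3_c13)) :=
  Lgr Lrot11 (Lpr_ct (f337723 IH) (Lpn (LP (LK LD1_c15 LD2_c31 LD3_c13))))
theorem f282406 : Led Lsl_gt (LP (LK LD1_c11 LD2_c54 LD3_c42)) = (LP (LK LD1_c15 LD2_c31 LD3_c13)) :=
  Lgr Lrot5 (Lpr_ft (K17.f263470 IH) (Lpr_at (K17.f282398 IH) (Lpe (f231757 IH) (Lpn (LP (LK LD1_c15 LD2_c31 LD3_c13))))))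
theorem f50399 : Led Lsl_gt (LP (LK LD1_c4 LD2_c7 LD3_c38)) = (LP (LK LD1_c8 LD2_c15 LD3_c14)) :=
  Lre_g IH (LK LD1_c4 LD2_c7 LD3_c38) (LK LD1_c8 LD2_c15 LD3_c14) Lrfl Lrfl
theorem f282427 : Led Lsl_gf (LP (LK LD1_c6 LD2_c5 LD3_c35)) = (LP (LK LD1_c8 LD2_c15 LD3_c14)) :=
  Lgr Lrot76 (Lpr_af (K17.f282414 IH) (Lpe (K17.f231734 IH) (Lpr_gt (f50399 IH) (Lpn (LP (LK LD1_c8 LD2_c15 LD3_c14))))))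
theorem f264768 : Led Lsl_ct (LP (LK LD1_c2 LD2_c39 LD3_c21)) = (LP (LK LD1_c5 LD2_c25 LD3_c57)) :=
  Lre_c IH (LK LD1_c2 LD2_c39 LD3_c21) (LK LD1_c5 LD2_c25 LD3_c57) Lrfl Lrfl
theorem f264705 : Led Lsl_gt (LP (LK LD1_c5 LD2_c25 LD3_c59)) = (LP (LK LD1_c2 LD2_c39 LD3_c21)) :=
  Lre_g IH (LK LD1_c5 LD2_c25 LD3_c59) (LK LD1_c2 LD2_c39 LD3_c21) Lrfl Lrfl
theorem f347984 : Led Lsl_df (LP (LK LD1_c8 LD2_c15 LD3_c14)) = (LP (LK LD1_c5 LD2_c25 LD3_c59)) :=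
  Lgr Lrot155 (Lpe (f282427 IH) (Lpr_ct (K17.f264425 IH) (Lpr_gt (f282406 IH) (Lpe (f337725 IH) (Lpr_dt (f189741 IH) (Lpr_cf (f347963 IH) (Lpe (f264787 IH) (Lpe (f264768 IH) (Lpe (f264705 IH) (Lpn (LP (LK LD1_c5 LD2_c25 LD3_c59))))))))))))
theorem f263002 : Led Lsl_et (LP (LK LD1_c10 LD2_c53 LD3_c38)) = (LP (LK LD1_c5 LD2_c31 LD3_c2)) :=
  Lre_e IH (LK LD1_c10 LD2_c53 LD3_c38) (LK LD1_c5 LD2_c31 LD3_c2) Lrfl Lrfl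
theorem f169529 : Led Lsl_gt (LP (LK LD1_c5 LD2_c5 LD3_c31)) = (LP (LK LD1_c10 LD2_c2 LD3_c9)) :=
  Lre_g IH (LK LD1_c5 LD2_c5 LD3_c31) (LK LD1_c10 LD2_c2 LD3_c9) Lrfl Lrfl
theorem f263003 : Led Lsl_df (LP (LK LD1_c10 LD2_c2 LD3_c9)) = (LP (LK LD1_c10 LD2_c53 LD3_c38)) :=
  Lgr Lrot168 (Lpe (f169529 IH) (Lpe (f169462 IH) (Lpr_et (K9.f169516 IH) (Lpe (K15.f260383 IH) (Lpe (K15.f49093 IH) (Lpr_dt (K15.f49094 IH) (Lpe (K15.f48339 IH) (Lpr_df (K15.f262986 IH) (Lpe (K15.f261621 IH) (Lpe (f263002 IH) (Lpn (LP (LK LD1_c10 LD2_c53 LD3_c38)))))))))))))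
theorem f32397 : Led Lsl_dt (LP (LK LD1_c10 LD2_c22 LD3_c4)) = (LP (LK LD1_c5 LD2_c16 LD3_c15)) :=
  Lre_d IH (LK LD1_c10 LD2_c22 LD3_c4) (LK LD1_c5 LD2_c16 LD3_c15) Lrfl Lrfl
theorem f282680 : Led Lsl_et (LP (LK LD1_c10 LD2_c22 LD3_c4)) = (LP (LK LD1_c10 LD2_c2 LD3_c9)) :=
  Lgr Lrot122 (Lpr_dt (f32397 IH) (Lpr_gt (K15.f48348 IH) (Lpe (K1.f32170 IH) (Lpr_et (K1.f32169 IH) (Lpr_gt (K9.f32179 IH) (Lpe (f48260 IH) (Lpr_gt (K17.f282670 IH) (Lpr_df (K9.f169447 IH) (Lpr_et (K9.f169519 IH) (Lpr_gt (f169529 IH) (Lpn (LP (LK LD1_c10 LD2_c2 LD3_c9)))))))))))))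
theorem f282493 : Led Lsl_gt (LP (LK LD1_c8 LD2_c6 LD3_c13)) = (LP (LK LD1_c4 LD2_c29 LD3_c30)) :=
  Lgr Lrot139 (Lpe (K15.f261865 IH) (Lpr_gf (K20.f282491 IH) (Lpe (K14.f48937 IH) (Lpr_dt (K15.f45258 IH) (Lpe (K9.f32877 IH) (Lpe (K10.f32375 IH) (Lpr_et (K10.f32373 IH) (Lpe (f32381 IH) (Lpr_ef (f250071 IH) (Lpr_dt (f185026 IH) (Lpn (LP (LK LD1_c4 LD2_c29 LD3_c30)))))))))))))
theorem f282684 : Led Lsl_gf (LP (LK LD1_c10 LD2_c24 LD3_c36)) = (LP (LK LD1_c10 LD2_c2 LD3_c9)) :=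
  Lgr Lrot141 (Lpe (K17.f263085 IH) (Lpr_dt (K15.f261865 IH) (Lpr_gt (f282493 IH) (Lpe (f185026 IH) (Lpe (f250071 IH) (Lpr_gt (f32381 IH) (Lpr_dt (K10.f32349 IH) (Lpr_gt (K15.f32383 IH) (Lpe (f32397 IH) (Lpr_et (f282680 IH) (Lpn (LP (LK LD1_c10 LD2_c2 LD3_c9)))))))))))))
theorem f48218 : Led Lsl_ft (LP (LK LD1_c10 LD2_c24 LD3_c36)) = (LP (LK LD1_c5 LD2_c17 LD3_c30)) :=
  Lre_f IH (LK LD1_c10 LD2_c24 LD3_c36) (LK LD1_c5 LD2_c17 LD3_c30) Lrfl Lrfl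
theorem f317880 : Led Lsl_dt (LP (LK LD1_c5 LD2_c27 LD3_c48)) = (LP (LK LD1_c10 LD2_c24 LD3_c36)) :=
  Lgr Lrot60 (Lpr_ff (K20.f317872 IH) (Lpr_df (K10.f48202 IH) (Lpe (f48218 IH) (Lpn (LP (LK LD1_c10 LD2_c24 LD3_c36))))))
theorem f347992 : Led Lsl_gt (LP (LK LD1_c8 LD2_c28 LD3_c45)) = (LP (LK LD1_c5 LD2_c25 LD3_c59)) :=
  Lgr Lrot137 (Lpe (K20.f317882 IH) (Lpr_dt (f317880 IH) (Lpr_gf (f282684 IH) (Lpr_df (f263003 IH) (Lpr_et (f263002 IH) (Lpe (K15.f261856 IH) (Lpe (K16.f271765 IH) (Lpr_dt (K15.f264433 IH) (Lpr_gf (f282427 IH) (Lpr_df (f347984 IH) (Lpn (LP (LK LD1_c5 LD2_c25 LD3_c59)))))))))))))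
theorem f347982 : Led Lsl_dt (LP (LK LD1_c8 LD2_c15 LD3_c14)) = (LP (LK LD1_c5 LD2_c25 LD3_c59)) :=
  Lgr Lrot6 (Lpe (f282427 IH) (Lpr_ct (K17.f264425 IH) (Lpr_gt (f282406 IH) (Lpe (f337725 IH) (Lpr_df (f189739 IH) (Lpr_cf (f347963 IH) (Lpe (f264787 IH) (Lpe (f264768 IH) (Lpe (f264705 IH) (Lpn (LP (LK LD1_c5 LD2_c25 LD3_c59))))))))))))
theorem f244890 : Led Lsl_gt (LP (LK LD1_c5 LD2_c27 LD3_c35)) = (LP (LK LD1_c2 LD2_c40 LD3_c22)) :=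
  Lre_g IH (LK LD1_c5 LD2_c27 LD3_c35) (LK LD1_c2 LD2_c40 LD3_c22) Lrfl Lrfl
theorem f282966 : Led Lsl_dt (LP (LK LD1_c5 LD2_c28 LD3_c9)) = (LP (LK LD1_c2 LD2_c40 LD3_c22)) :=
  Lre_d IH (LK LD1_c5 LD2_c28 LD3_c9) (LK LD1_c2 LD2_c40 LD3_c22) Lrfl Lrfl
theorem f283070 : Led Lsl_et (LP (LK LD1_c5 LD2_c28 LD3_c9)) = (LP (LK LD1_c8 LD2_c15 LD3_c14)) :=
  Lgr Lrot121 (Lpr_dt (f282966 IH) (Lpe (f244890 IH) (Lpr_df (K18.f282938 IH) (Lpe (K17.f283014 IH) (Lpr_gf (K17.f283066 IH) (Lpe (K17.f282445 IH) (Lpr_dt (K17.f263038 IH) (Lpe (K17.f263032 IH) (Lpr_df (K17.f264440 IH) (Lpr_gf (f282427 IH) (Lpn (LP (LK LD1_c8 LD2_c15 LD3_c14)))))))))))))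
theorem f283074 : Led Lsl_ef (LP (LK LD1_c5 LD2_c28 LD3_c9)) = (LP (LK LD1_c8 LD2_c15 LD3_c14)) :=
  Lgr Lrot88 (Lpr_et (f283070 IH) (Lpn (LP (LK LD1_c8 LD2_c15 LD3_c14))))
theorem f197540 : Led Lsl_ft (LP (LK LD1_c2 LD2_c59 LD3_c16)) = (LP (LK LD1_c6 LD2_c6 LD3_c23)) :=
  Lre_f IH (LK LD1_c2 LD2_c59 LD3_c16) (LK LD1_c6 LD2_c6 LD3_c23) Lrfl Lrfl
theorem f285724 : Led Lsl_et (LP (LK LD1_c6 LD2_c6 LD3_c23)) = (LP (LK LD1_c5 LD2_c26 LD3_c29)) :=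
  Lgr Lrot69 (Lpe (f197540 IH) (Lpe (K19.f197521 IH) (Lpr_ff (K17.f285715 IH) (Lpe (K19.f243600 IH) (Lpe (K18.f285723 IH) (Lpn (LP (LK LD1_c5 LD2_c26 LD3_c29))))))))
theorem f244891 : Led Lsl_dt (LP (LK LD1_c2 LD2_c40 LD3_c22)) = (LP (LK LD1_c5 LD2_c28 LD3_c9)) :=
  Lre_d IH (LK LD1_c2 LD2_c40 LD3_c22) (LK LD1_c5 LD2_c28 LD3_c9) Lrfl Lrfl
theorem f301427 : Led Lsl_gf (LP (LK LD1_c4 LD2_c28 LD3_c54)) = (LP (LK LD1_c5 LD2_c28 LD3_c9)) :=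
  Lgr Lrot134 (Lpe (K19.f197559 IH) (Lpr_et (f285724 IH) (Lpe (K21.f295013 IH) (Lpe (K17.f236270 IH) (Lpe (K17.f236271 IH) (Lpe (K17.f283155 IH) (Lpr_df (K18.f301419 IH) (Lpe (K17.f244884 IH) (Lpr_gt (f244890 IH) (Lpr_dt (f244891 IH) (Lpn (LP (LK LD1_c5 LD2_c28 LD3_c9)))))))))))))
theorem f348015 : Led Lsl_gf (LP (LK LD1_c8 LD2_c6 LD3_c13)) = (LP (LK LD1_c4 LD2_c29 LD3_c29)) :=
  Lgr Lrot141 (Lpr_ef (K20.f213248 IH) (Lpr_dt (K20.f258843 IH) (Lpr_gt (f347992 IH) (Lpe (f347982 IH) (Lpe (f283074 IH) (Lpe (f301427 IH) (Lpe (K19.f197538 IH) (Lpr_gt (K18.f294980 IH) (Lpr_df (K18.f282950 IH) (Lpe (K21.f285559 IH) (Lpn (LP (LK LD1_c4 LD2_c29 LD3_c29)))))))))))))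
theorem f169525 : Led Lsl_gt (LP (LK LD1_c10 LD2_c2 LD3_c10)) = (LP (LK LD1_c5 LD2_c5 LD3_c31)) :=
  Lre_g IH (LK LD1_c10 LD2_c2 LD3_c10) (LK LD1_c5 LD2_c5 LD3_c31) Lrfl Lrfl
theorem f282664 : Led Lsl_gt (LP (LK LD1_c10 LD2_c24 LD3_c36)) = (LP (LK LD1_c10 LD2_c2 LD3_c10)) :=
  Lgr Lrot5 (Lpr_ft (f48218 IH) (Lpr_at (K17.f282656 IH) (Lpe (f169525 IH) (Lpn (LP (LK LD1_c10 LD2_c2 LD3_c10))))))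
theorem f198681 : Led Lsl_bt (LP (LK LD1_c8 LD2_c59 LD3_c48)) = (LP (LK LD1_c4 LD2_c30 LD3_c47)) :=
  Lre_b IH (LK LD1_c8 LD2_c59 LD3_c48) (LK LD1_c4 LD2_c30 LD3_c47) Lrfl Lrfl
theorem f198682 : Led Lsl_et (LP (LK LD1_c10 LD2_c3 LD3_c49)) = (LP (LK LD1_c8 LD2_c59 LD3_c48)) :=
  Lgr Lrot74 (Lpe (f198680 IH) (Lpr_ef (K18.f198678 IH) (Lpe (f198681 IH) (Lpn (LP (LK LD1_c8 LD2_c59 LD3_c48))))))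
theorem f340336 : Led Lsl_gt (LP (LK LD1_c10 LD2_c25 LD3_c27)) = (LP (LK LD1_c8 LD2_c57 LD3_c13)) :=
  Lgr Lrot112 (Lpr_df (f340287 IH) (Lpr_et (f198682 IH) (Lpr_gf (f340328 IH) (Lpe (K21.f264489 IH) (Lpr_dt (f264487 IH) (Lpe (K21.f264472 IH) (Lpr_df (f282934 IH) (Lpe (K18.f190077 IH) (Lpe (K21.f285567 IH) (Lpr_dt (K21.f285564 IH) (Lpn (LP (LK LD1_c8 LD2_c57 LD3_c13)))))))))))))
theorem f190076 : Led Lsl_gt (LP (LK LD1_c4 LD2_c8 LD3_c1)) = (LP (LK LD1_c8 LD2_c16 LD3_c2)) :=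
  Lre_g IH (LK LD1_c4 LD2_c8 LD3_c1) (LK LD1_c8 LD2_c16 LD3_c2) Lrfl Lrfl
theorem f285544 : Led Lsl_gf (LP (LK LD1_c5 LD2_c26 LD3_c48)) = (LP (LK LD1_c8 LD2_c16 LD3_c2)) :=
  Lgr Lrot76 (Lpr_af (K17.f285533 IH) (Lpe (K17.f190073 IH) (Lpr_gt (f190076 IH) (Lpn (LP (LK LD1_c8 LD2_c16 LD3_c2))))))
theorem f282991 : Led Lsl_et (LP (LK LD1_c15 LD2_c32 LD3_c36)) = (LP (LK LD1_c8 LD2_c16 LD3_c2)) :=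
  Lre_e IH (LK LD1_c15 LD2_c32 LD3_c36) (LK LD1_c8 LD2_c16 LD3_c2) Lrfl Lrfl
theorem f185675 : Led Lsl_gt (LP (LK LD1_c10 LD2_c15 LD3_c6)) = (LP (LK LD1_c5 LD2_c12 LD3_c10)) :=
  Lre_g IH (LK LD1_c10 LD2_c15 LD3_c6) (LK LD1_c5 LD2_c12 LD3_c10) Lrfl Lrfl
theorem f282992 : Led Lsl_df (LP (LK LD1_c10 LD2_c15 LD3_c6)) = (LP (LK LD1_c15 LD2_c32 LD3_c36)) :=
  Lgr Lrot170 (Lpr_gt (f185675 IH) (Lpr_df (K17.f185630 IH) (Lpr_et (K12.f185669 IH) (Lpr_gt (K13.f182501 IH) (Lpe (K16.f246263 IH) (Lpr_gt (K21.f246265 IH) (Lpr_df (K17.f282936 IH) (Lpr_et (K17.f190052 IH) (Lpr_gt (f190076 IH) (Lpe (f282991 IH) (Lpn (LP (LK LD1_c15 LD2_c32 LD3_c36)))))))))))))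
theorem f323256 : Led Lsl_gf (LP (LK LD1_c10 LD2_c15 LD3_c6)) = (LP (LK LD1_c10 LD2_c20 LD3_c4)) :=
  Lgr Lrot134 (Lpr_df (f282992 IH) (Lpr_et (f282991 IH) (Lpe (f285544 IH) (Lpr_ef (K17.f285525 IH) (Lpe (K18.f283113 IH) (Lpr_gt (K21.f323250 IH) (Lpr_df (K15.f197615 IH) (Lpr_et (K21.f262113 IH) (Lpe (K21.f263437 IH) (Lpr_dt (K17.f47768 IH) (Lpn (LP (LK LD1_c10 LD2_c20 LD3_c4)))))))))))))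
theorem f282995 : Led Lsl_dt (LP (LK LD1_c10 LD2_c15 LD3_c6)) = (LP (LK LD1_c15 LD2_c32 LD3_c36)) :=
  Lgr Lrot42 (Lpr_df (f282992 IH) (Lpn (LP (LK LD1_c15 LD2_c32 LD3_c36))))
theorem f340338 : Led Lsl_gf (LP (LK LD1_c8 LD2_c59 LD3_c49)) = (LP (LK LD1_c15 LD2_c32 LD3_c36)) :=
  Lgr Lrot134 (Lpe (f340280 IH) (Lpr_et (f340282 IH) (Lpr_gt (f340336 IH) (Lpr_ef (K21.f285572 IH) (Lpr_dt (K21.f212213 IH) (Lpr_gt (K19.f261632 IH) (Lpe (K15.f261840 IH) (Lpr_et (K17.f263079 IH) (Lpe (f323256 IH) (Lpr_dt (f282995 IH) (Lpn (LP (LK LD1_c15 LD2_c32 LD3_c36)))))))))))))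
theorem f348019 : Led Lsl_ef (LP (LK LD1_c10 LD2_c2 LD3_c10)) = (LP (LK LD1_c10 LD2_c15 LD3_c6)) :=
  Lgr Lrot17 (Lpe (f282664 IH) (Lpe (K17.f263085 IH) (Lpr_dt (K15.f261865 IH) (Lpr_gf (f348015 IH) (Lpe (K21.f185024 IH) (Lpe (f340336 IH) (Lpe (f340282 IH) (Lpr_dt (f340280 IH) (Lpr_gf (f340338 IH) (Lpe (f282995 IH) (Lpn (LP (LK LD1_c10 LD2_c15 LD3_c6)))))))))))))
theorem f251249 : Led Lsl_gt (LP (LK LD1_c2 LD2_c35 LD3_c40)) = (LP (LK LD1_c5 LD2_c17 LD3_c53)) :=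
  Lre_g IH (LK LD1_c2 LD2_c35 LD3_c40) (LK LD1_c5 LD2_c17 LD3_c53) Lrfl Lrfl
theorem f251255 : Led Lsl_dt (LP (LK LD1_c5 LD2_c17 LD3_c53)) = (LP (LK LD1_c10 LD2_c25 LD3_c25)) :=
  Lre_d IH (LK LD1_c5 LD2_c17 LD3_c53) (LK LD1_c10 LD2_c25 LD3_c25) Lrfl Lrfl
theorem f348026 : Led Lsl_gt (LP (LK LD1_c10 LD2_c25 LD3_c25)) = (LP (LK LD1_c15 LD2_c32 LD3_c36)) :=
  Lgr Lrot139 (Lpe (f251255 IH) (Lpe (f251249 IH) (Lpe (K14.f251187 IH) (Lpe (K14.f251205 IH) (Lpe (K13.f246077 IH) (Lpr_df (K9.f169447 IH) (Lpr_et (K9.f169519 IH) (Lpe (f169525 IH) (Lpr_ef (f348019 IH) (Lpr_dt (f282995 IH) (Lpn (LP (LK LD1_c15 LD2_c32 LD3_c36)))))))))))))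
theorem f236256 : Led Lsl_et (LP (LK LD1_c0 LD2_c57 LD3_c59)) = (LP (LK LD1_c2 LD2_c2 LD3_c1)) :=
  Lre_e IH (LK LD1_c0 LD2_c57 LD3_c59) (LK LD1_c2 LD2_c2 LD3_c1) Lrfl Lrfl
theorem f246273 : Led Lsl_ef (LP (LK LD1_c2 LD2_c39 LD3_c30)) = (LP (LK LD1_c4 LD2_c9 LD3_c27)) :=
  Lgr Lrot73 (Lpe (K16.f246263 IH) (Lpr_et (K13.f246267 IH) (Lpr_dt (K13.f51461 IH) (Lpr_et (f236256 IH) (Lpr_dt (K20.f1409 IH) (Lpn (LP (LK LD1_c4 LD2_c9 LD3_c27))))))))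
theorem f282998 : Led Lsl_dt (LP (LK LD1_c8 LD2_c18 LD3_c54)) = (LP (LK LD1_c4 LD2_c9 LD3_c25)) :=
  Lre_d IH (LK LD1_c8 LD2_c18 LD3_c54) (LK LD1_c4 LD2_c9 LD3_c25) Lrfl Lrfl
theorem f348028 : Led Lsl_ef (LP (LK LD1_c10 LD2_c25 LD3_c25)) = (LP (LK LD1_c8 LD2_c18 LD3_c54)) :=
  Lgr Lrot167 (Lpr_gt (f348026 IH) (Lpe (f282992 IH) (Lpr_gt (f185675 IH) (Lpr_df (K17.f185630 IH) (Lpr_et (K12.f185669 IH) (Lpr_gt (K13.f182501 IH) (Lpr_ef (f246273 IH) (Lpr_dt (K21.f234472 IH) (Lpr_gt (K21.f216631 IH) (Lpe (f282998 IH) (Lpn (LP (LK LD1_c8 LD2_c18 LD3_c54)))))))))))))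
theorem f348032 : Led Lsl_et (LP (LK LD1_c10 LD2_c25 LD3_c25)) = (LP (LK LD1_c8 LD2_c18 LD3_c54)) :=
  Lgr Lrot87 (Lpr_ef (f348028 IH) (Lpn (LP (LK LD1_c8 LD2_c18 LD3_c54))))
theorem f251253 : Led Lsl_dt (LP (LK LD1_c10 LD2_c25 LD3_c25)) = (LP (LK LD1_c5 LD2_c17 LD3_c53)) :=
  Lre_d IH (LK LD1_c10 LD2_c25 LD3_c25) (LK LD1_c5 LD2_c17 LD3_c53) Lrfl Lrfl
theorem f246247 : Led Lsl_gt (LP (LK LD1_c5 LD2_c30 LD3_c15)) = (LP (LK LD1_c2 LD2_c41 LD3_c23)) :=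
  Lre_g IH (LK LD1_c5 LD2_c30 LD3_c15) (LK LD1_c2 LD2_c41 LD3_c23) Lrfl Lrfl
theorem f246248 : Led Lsl_dt (LP (LK LD1_c10 LD2_c51 LD3_c56)) = (LP (LK LD1_c5 LD2_c30 LD3_c15)) :=
  Lre_d IH (LK LD1_c10 LD2_c51 LD3_c56) (LK LD1_c5 LD2_c30 LD3_c15) Lrfl Lrfl
theorem f348036 : Led Lsl_gf (LP (LK LD1_c10 LD2_c51 LD3_c56)) = (LP (LK LD1_c8 LD2_c18 LD3_c54)) :=
  Lgr Lrot138 (Lpr_dt (f246248 IH) (Lpr_gt (f246247 IH) (Lpe (K14.f236152 IH) (Lpr_et (K14.f236165 IH) (Lpr_gt (K12.f175246 IH) (Lpe (K14.f220313 IH) (Lpr_dt (K14.f251263 IH) (Lpr_gt (f251249 IH) (Lpe (f251253 IH) (Lpr_et (f348032 IH) (Lpn (LP (LK LD1_c8 LD2_c18 LD3_c54)))))))))))))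
theorem f301156 : Led Lsl_dt (LP (LK LD1_c5 LD2_c30 LD3_c15)) = (LP (LK LD1_c10 LD2_c51 LD3_c56)) :=
  Lre_d IH (LK LD1_c5 LD2_c30 LD3_c15) (LK LD1_c10 LD2_c51 LD3_c56) Lrfl Lrfl
theorem f236257 : Led Lsl_dt (LP (LK LD1_c4 LD2_c9 LD3_c25)) = (LP (LK LD1_c8 LD2_c18 LD3_c54)) :=
  Lre_d IH (LK LD1_c4 LD2_c9 LD3_c25) (LK LD1_c8 LD2_c18 LD3_c54) Lrfl Lrfl
theorem f167736 : Led Lsl_gt (LP (LK LD1_c8 LD2_c33 LD3_c25)) = (LP (LK LD1_c4 LD2_c17 LD3_c0)) :=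
  Lre_g IH (LK LD1_c8 LD2_c33 LD3_c25) (LK LD1_c4 LD2_c17 LD3_c0) Lrfl Lrfl
theorem f348050 : Led Lsl_et (LP (LK LD1_c5 LD2_c30 LD3_c15)) = (LP (LK LD1_c8 LD2_c33 LD3_c25)) :=
  Lgr Lrot185 (Lpr_dt (f301156 IH) (Lpr_gf (f348036 IH) (Lpe (f236257 IH) (Lpe (K21.f216631 IH) (Lpe (f236256 IH) (Lpr_dt (K13.f1405 IH) (Lpe (K13.f236241 IH) (Lpe (K14.f167639 IH) (Lpr_et (K12.f167729 IH) (Lpe (f167736 IH) (Lpn (LP (LK LD1_c8 LD2_c33 LD3_c25)))))))))))))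
theorem f260682 : Led Lsl_gf (LP (LK LD1_c8 LD2_c33 LD3_c25)) = (LP (LK LD1_c8 LD2_c17 LD3_c22)) :=
  Lgr Lrot47 (Lpr_gt (f167736 IH) (Lpr_af (K17.f260677 IH) (Lpe (K17.f260654 IH) (Lpn (LP (LK LD1_c8 LD2_c17 LD3_c22))))))
theorem f323478 : Led Lsl_gf (LP (LK LD1_c11 LD2_c55 LD3_c32)) = (LP (LK LD1_c8 LD2_c18 LD3_c56)) :=
  Lgr Lrot134 (Lpe (K21.f220178 IH) (Lpe (K21.f282450 IH) (Lpr_gt (K17.f258802 IH) (Lpe (K15.f213261 IH) (Lpe (K21.f258553 IH) (Lpe (K15.f257932 IH) (Lpe (K13.f220568 IH) (Lpr_et (K14.f220570 IH) (Lpr_gt (K21.f323471 IH) (Lpe (K21.f323468 IH) (Lpn (LP (LK LD1_c8 LD2_c18 LD3_c56)))))))))))))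
theorem f348056 : Led Lsl_gt (LP (LK LD1_c10 LD2_c51 LD3_c56)) = (LP (LK LD1_c5 LD2_c35 LD3_c7)) :=
  Lgr Lrot112 (Lpe (f301156 IH) (Lpr_et (f348050 IH) (Lpr_gf (f260682 IH) (Lpr_ef (K17.f283098 IH) (Lpe (K17.f283089 IH) (Lpr_gf (K17.f283066 IH) (Lpe (K21.f220185 IH) (Lpr_gf (f323478 IH) (Lpe (K21.f323470 IH) (Lpr_dt (K21.f324175 IH) (Lpn (LP (LK LD1_c5 LD2_c35 LD3_c7)))))))))))))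
theorem f348058 : Led Lsl_gf (LP (LK LD1_c5 LD2_c30 LD3_c15)) = (LP (LK LD1_c8 LD2_c30 LD3_c16)) :=
  Lgr Lrot138 (Lpr_dt (f301156 IH) (Lpr_gt (f348056 IH) (Lpe (K21.f324175 IH) (Lpr_et (K21.f323470 IH) (Lpe (f323478 IH) (Lpe (K21.f285599 IH) (Lpr_dt (K21.f285598 IH) (Lpe (K21.f324187 IH) (Lpe (K21.f295767 IH) (Lpr_et (K22.f295769 IH) (Lpn (LP (LK LD1_c8 LD2_c30 LD3_c16)))))))))))))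
theorem f264624 : Led Lsl_bt (LP (LK LD1_c5 LD2_c25 LD3_c60)) = (LP (LK LD1_c2 LD2_c39 LD3_c29)) :=
  Lre_b IH (LK LD1_c5 LD2_c25 LD3_c60) (LK LD1_c2 LD2_c39 LD3_c29) Lrfl Lrfl
theorem f263051 : Led Lsl_bt (LP (LK LD1_c1 LD2_c17 LD3_c53)) = (LP (LK LD1_c2 LD2_c42 LD3_c26)) :=
  Lre_b IH (LK LD1_c1 LD2_c17 LD3_c53) (LK LD1_c2 LD2_c42 LD3_c26) Lrfl Lrfl
theorem f264625 : Led Lsl_df (LP (LK LD1_c5 LD2_c25 LD3_c60)) = (LP (LK LD1_c2 LD2_c42 LD3_c26)) :=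
  Lgr Lrot12 (Lpr_bt (f264624 IH) (Lpr_dt (K15.f264621 IH) (Lpr_bt (f263051 IH) (Lpn (LP (LK LD1_c2 LD2_c42 LD3_c26))))))
theorem f264746 : Led Lsl_gt (LP (LK LD1_c5 LD2_c32 LD3_c11)) = (LP (LK LD1_c2 LD2_c42 LD3_c26)) :=
  Lre_g IH (LK LD1_c5 LD2_c32 LD3_c11) (LK LD1_c2 LD2_c42 LD3_c26) Lrfl Lrfl
theorem f348065 : Led Lsl_et (LP (LK LD1_c10 LD2_c51 LD3_c56)) = (LP (LK LD1_c5 LD2_c32 LD3_c11)) :=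
  Lgr Lrot121 (Lpr_dt (f246248 IH) (Lpr_gf (f348058 IH) (Lpe (K18.f295738 IH) (Lpr_et (K21.f222653 IH) (Lpe (K22.f335587 IH) (Lpr_ef (K22.f258710 IH) (Lpe (K22.f258699 IH) (Lpe (K22.f264820 IH) (Lpr_df (f264625 IH) (Lpe (f264746 IH) (Lpn (LP (LK LD1_c5 LD2_c32 LD3_c11)))))))))))))
theorem f348069 : Led Lsl_ef (LP (LK LD1_c10 LD2_c51 LD3_c56)) = (LP (LK LD1_c5 LD2_c32 LD3_c11)) :=
  Lgr Lrot88 (Lpr_et (f348065 IH) (Lpn (LP (LK LD1_c5 LD2_c32 LD3_c11))))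
theorem f181867 : Led Lsl_bt (LP (LK LD1_c2 LD2_c43 LD3_c30)) = (LP (LK LD1_c5 LD2_c35 LD3_c7)) :=
  Lre_b IH (LK LD1_c2 LD2_c43 LD3_c30) (LK LD1_c5 LD2_c35 LD3_c7) Lrfl Lrfl
theorem f323458 : Led Lsl_df (LP (LK LD1_c4 LD2_c9 LD3_c26)) = (LP (LK LD1_c5 LD2_c35 LD3_c7)) :=
  Lgr Lrot12 (Lpr_bt (K21.f323453 IH) (Lpr_dt (K21.f181811 IH) (Lpr_bt (f181867 IH) (Lpn (LP (LK LD1_c5 LD2_c35 LD3_c7))))))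
theorem f282442 : Led Lsl_gt (LP (LK LD1_c4 LD2_c29 LD3_c49)) = (LP (LK LD1_c8 LD2_c57 LD3_c45)) :=
  Lre_g IH (LK LD1_c4 LD2_c29 LD3_c49) (LK LD1_c8 LD2_c57 LD3_c45) Lrfl Lrfl
theorem f348073 : Led Lsl_df (LP (LK LD1_c8 LD2_c57 LD3_c45)) = (LP (LK LD1_c5 LD2_c32 LD3_c11)) :=
  Lgr Lrot168 (Lpe (f282442 IH) (Lpr_df (K17.f282431 IH) (Lpr_et (K17.f49929 IH) (Lpr_gf (K13.f214718 IH) (Lpr_ef (f246273 IH) (Lpr_dt (K21.f234472 IH) (Lpe (K21.f250669 IH) (Lpr_df (f323458 IH) (Lpe (f348056 IH) (Lpr_ef (f348069 IH) (Lpn (LP (LK LD1_c5 LD2_c32 LD3_c11)))))))))))))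
theorem f264449 : Led Lsl_ct (LP (LK LD1_c16 LD2_c46 LD3_c27)) = (LP (LK LD1_c8 LD2_c57 LD3_c45)) :=
  Lre_c IH (LK LD1_c16 LD2_c46 LD3_c27) (LK LD1_c8 LD2_c57 LD3_c45) Lrfl Lrfl
theorem f264747 : Led Lsl_ct (LP (LK LD1_c10 LD2_c56 LD3_c3)) = (LP (LK LD1_c5 LD2_c32 LD3_c11)) :=
  Lre_c IH (LK LD1_c10 LD2_c56 LD3_c3) (LK LD1_c5 LD2_c32 LD3_c11) Lrfl Lrfl
theorem f264460 : Led Lsl_ct (LP (LK LD1_c6 LD2_c5 LD3_c34)) = (LP (LK LD1_c11 LD2_c54 LD3_c44)) :=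
  Lre_c IH (LK LD1_c6 LD2_c5 LD3_c34) (LK LD1_c11 LD2_c54 LD3_c44) Lrfl Lrfl
theorem f264467 : Led Lsl_dt (LP (LK LD1_c11 LD2_c54 LD3_c44)) = (LP (LK LD1_c20 LD2_c59 LD3_c22)) :=
  Lre_d IH (LK LD1_c11 LD2_c54 LD3_c44) (LK LD1_c20 LD2_c59 LD3_c22) Lrfl Lrfl
theorem f282416 : Led Lsl_ft (LP (LK LD1_c6 LD2_c5 LD3_c32)) = (LP (LK LD1_c11 LD2_c54 LD3_c42)) :=
  Lre_f IH (LK LD1_c6 LD2_c5 LD3_c32) (LK LD1_c11 LD2_c54 LD3_c42) Lrfl Lrfl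
theorem f257813 : Led Lsl_gt (LP (LK LD1_c6 LD2_c5 LD3_c32)) = (LP (LK LD1_c11 LD2_c54 LD3_c39)) :=
  Lre_g IH (LK LD1_c6 LD2_c5 LD3_c32) (LK LD1_c11 LD2_c54 LD3_c39) Lrfl Lrfl
theorem f282417 : Led Lsl_gt (LP (LK LD1_c11 LD2_c54 LD3_c39)) = (LP (LK LD1_c15 LD2_c31 LD3_c15)) :=
  Lgr Lrot46 (Lpe (f257813 IH) (Lpr_ft (f282416 IH) (Lpr_at (K17.f282409 IH) (Lpn (LP (LK LD1_c15 LD2_c31 LD3_c15))))))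
theorem f258779 : Led Lsl_gt (LP (LK LD1_c19 LD2_c44 LD3_c43)) = (LP (LK LD1_c10 LD2_c56 LD3_c1)) :=
  Lre_g IH (LK LD1_c19 LD2_c44 LD3_c43) (LK LD1_c10 LD2_c56 LD3_c1) Lrfl Lrfl
theorem f258861 : Led Lsl_df (LP (LK LD1_c19 LD2_c44 LD3_c43)) = (LP (LK LD1_c11 LD2_c54 LD3_c39)) :=
  Lgr Lrot153 (Lpr_gt (f258779 IH) (Lpr_dt (K15.f258778 IH) (Lpe (K22.f258855 IH) (Lpr_df (K17.f258792 IH) (Lpe (K22.f231790 IH) (Lpr_df (K22.f258699 IH) (Lpe (K22.f258698 IH) (Lpe (f258706 IH) (Lpr_gt (f257813 IH) (Lpn (LP (LK LD1_c11 LD2_c54 LD3_c39))))))))))))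
theorem f258866 : Led Lsl_dt (LP (LK LD1_c19 LD2_c44 LD3_c43)) = (LP (LK LD1_c11 LD2_c54 LD3_c39)) :=
  Lgr Lrot42 (Lpr_df (f258861 IH) (Lpn (LP (LK LD1_c11 LD2_c54 LD3_c39))))
theorem f258856 : Led Lsl_ct (LP (LK LD1_c10 LD2_c56 LD3_c1)) = (LP (LK LD1_c19 LD2_c44 LD3_c44)) :=
  Lre_c IH (LK LD1_c10 LD2_c56 LD3_c1) (LK LD1_c19 LD2_c44 LD3_c44) Lrfl Lrfl
theorem f258869 : Led Lsl_gt (LP (LK LD1_c19 LD2_c44 LD3_c44)) = (LP (LK LD1_c29 LD2_c3 LD3_c46)) :=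
  Lre_g IH (LK LD1_c19 LD2_c44 LD3_c44) (LK LD1_c29 LD2_c3 LD3_c46) Lrfl Lrfl
theorem f335604 : Led Lsl_cf (LP (LK LD1_c20 LD2_c59 LD3_c22)) = (LP (LK LD1_c29 LD2_c3 LD3_c46)) :=
  Lgr Lrot99 (Lpe (f264467 IH) (Lpe (f264460 IH) (Lpr_gf (f335602 IH) (Lpe (K17.f231745 IH) (Lpe (f282417 IH) (Lpe (f258866 IH) (Lpr_gt (f258779 IH) (Lpr_ct (f258856 IH) (Lpr_gt (f258869 IH) (Lpn (LP (LK LD1_c29 LD2_c3 LD3_c46))))))))))))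
theorem f335607 : Led Lsl_ct (LP (LK LD1_c20 LD2_c59 LD3_c22)) = (LP (LK LD1_c29 LD2_c3 LD3_c46)) :=
  Lgr Lrot59 (Lpr_cf (f335604 IH) (Lpn (LP (LK LD1_c29 LD2_c3 LD3_c46))))
theorem f323484 : Led Lsl_ct (LP (LK LD1_c19 LD2_c53 LD3_c43)) = (LP (LK LD1_c11 LD2_c2 LD3_c26)) :=
  Lre_c IH (LK LD1_c19 LD2_c53 LD3_c43) (LK LD1_c11 LD2_c2 LD3_c26) Lrfl Lrfl
theorem f323501 : Led Lsl_et (LP (LK LD1_c11 LD2_c54 LD3_c44)) = (LP (LK LD1_c19 LD2_c53 LD3_c43)) :=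
  Lgr Lrot158 (Lpe (f264460 IH) (Lpr_ef (K21.f323499 IH) (Lpe (f323484 IH) (Lpn (LP (LK LD1_c19 LD2_c53 LD3_c43))))))
theorem f323485 : Led Lsl_gf (LP (LK LD1_c19 LD2_c36 LD3_c39)) = (LP (LK LD1_c19 LD2_c53 LD3_c43)) :=
  Lgr Lrot144 (Lpr_dt (K20.f250920 IH) (Lpr_gt (K20.f28094 IH) (Lpr_dt (K9.f28088 IH) (Lpe (K9.f28084 IH) (Lpr_df (K9.f27984 IH) (Lpr_gf (K21.f323480 IH) (Lpe (K21.f181866 IH) (Lpe (K21.f181872 IH) (Lpe (f323484 IH) (Lpn (LP (LK LD1_c19 LD2_c53 LD3_c43))))))))))))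
theorem f49349 : Led Lsl_et (LP (LK LD1_c10 LD2_c23 LD3_c28)) = (LP (LK LD1_c5 LD2_c16 LD3_c57)) :=
  Lre_e IH (LK LD1_c10 LD2_c23 LD3_c28) (LK LD1_c5 LD2_c16 LD3_c57) Lrfl Lrfl
theorem f49350 : Led Lsl_dt (LP (LK LD1_c10 LD2_c23 LD3_c28)) = (LP (LK LD1_c18 LD2_c51 LD3_c8)) :=
  Lre_d IH (LK LD1_c10 LD2_c23 LD3_c28) (LK LD1_c18 LD2_c51 LD3_c8) Lrfl Lrfl
theorem f323535 : Led Lsl_gf (LP (LK LD1_c20 LD2_c59 LD3_c22)) = (LP (LK LD1_c18 LD2_c51 LD3_c8)) :=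
  Lgr Lrot145 (Lpe (f264467 IH) (Lpr_et (f323501 IH) (Lpe (f323485 IH) (Lpr_dt (K20.f250920 IH) (Lpr_gt (K20.f28094 IH) (Lpe (K9.f28085 IH) (Lpr_et (K20.f50177 IH) (Lpr_gt (K12.f50166 IH) (Lpe (f49349 IH) (Lpr_dt (f49350 IH) (Lpn (LP (LK LD1_c18 LD2_c51 LD3_c8)))))))))))))
theorem f218907 : Led Lsl_dt (LP (LK LD1_c18 LD2_c51 LD3_c8)) = (LP (LK LD1_c10 LD2_c23 LD3_c28)) :=
  Lre_d IH (LK LD1_c18 LD2_c51 LD3_c8) (LK LD1_c10 LD2_c23 LD3_c28) Lrfl Lrfl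
theorem f258858 : Led Lsl_at (LP (LK LD1_c10 LD2_c56 LD3_c43)) = (LP (LK LD1_c19 LD2_c44 LD3_c44)) :=
  Lre_a IH (LK LD1_c10 LD2_c56 LD3_c43) (LK LD1_c19 LD2_c44 LD3_c44) Lrfl Lrfl
theorem f264732 : Led Lsl_at (LP (LK LD1_c28 LD2_c47 LD3_c58)) = (LP (LK LD1_c19 LD2_c46 LD3_c12)) :=
  Lgr Lrot66 (Lpr_ff (K15.f264725 IH) (Lpe (f258858 IH) (Lpe (K20.f258811 IH) (Lpn (LP (LK LD1_c19 LD2_c46 LD3_c12))))))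
theorem f264741 : Led Lsl_gf (LP (LK LD1_c19 LD2_c46 LD3_c12)) = (LP (LK LD1_c29 LD2_c3 LD3_c46)) :=
  Lgr Lrot76 (Lpe (f264732 IH) (Lpr_ff (K15.f264725 IH) (Lpr_gt (f258869 IH) (Lpn (LP (LK LD1_c29 LD2_c3 LD3_c46))))))
theorem f258760 : Led Lsl_dt (LP (LK LD1_c5 LD2_c32 LD3_c28)) = (LP (LK LD1_c10 LD2_c56 LD3_c44)) :=
  Lre_d IH (LK LD1_c5 LD2_c32 LD3_c28) (LK LD1_c10 LD2_c56 LD3_c44) Lrfl Lrfl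
theorem f335610 : Led Lsl_gt (LP (LK LD1_c10 LD2_c23 LD3_c28)) = (LP (LK LD1_c10 LD2_c56 LD3_c3)) :=
  Lgr Lrot9 (Lpe (f218907 IH) (Lpe (f323535 IH) (Lpr_ct (f335607 IH) (Lpe (f264741 IH) (Lpr_ct (K20.f258797 IH) (Lpe (f258760 IH) (Lpe (K22.f258854 IH) (Lpe (f264746 IH) (Lpe (f264747 IH) (Lpn (LP (LK LD1_c10 LD2_c56 LD3_c3))))))))))))
theorem f218719 : Led Lsl_et (LP (LK LD1_c7 LD2_c58 LD3_c18)) = (LP (LK LD1_c3 LD2_c58 LD3_c27)) :=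
  Lre_e IH (LK LD1_c7 LD2_c58 LD3_c18) (LK LD1_c3 LD2_c58 LD3_c27) Lrfl Lrfl
theorem f218720 : Led Lsl_et (LP (LK LD1_c5 LD2_c16 LD3_c57)) = (LP (LK LD1_c10 LD2_c23 LD3_c28)) :=
  Lre_e IH (LK LD1_c5 LD2_c16 LD3_c57) (LK LD1_c10 LD2_c23 LD3_c28) Lrfl Lrfl
theorem f218721 : Led Lsl_cf (LP (LK LD1_c7 LD2_c58 LD3_c18)) = (LP (LK LD1_c10 LD2_c23 LD3_c28)) :=
  Lgr Lrot39 (Lpr_et (f218719 IH) (Lpr_ct (K12.f218709 IH) (Lpr_et (f218720 IH) (Lpn (LP (LK LD1_c10 LD2_c23 LD3_c28))))))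
theorem f218905 : Led Lsl_ct (LP (LK LD1_c7 LD2_c58 LD3_c18)) = (LP (LK LD1_c10 LD2_c23 LD3_c28)) :=
  Lgr Lrot59 (Lpr_cf (f218721 IH) (Lpn (LP (LK LD1_c10 LD2_c23 LD3_c28))))
theorem f337718 : Led Lsl_ct (LP (LK LD1_c25 LD2_c47 LD3_c40)) = (LP (LK LD1_c25 LD2_c24 LD3_c17)) :=
  Lgr Lrot7 (Lpe (f189755 IH) (Lpe (f223249 IH) (Lpe (f32944 IH) (Lpe (f32943 IH) (Lpe (f32936 IH) (Lpe (f337704 IH) (Lpr_dt (f323515 IH) (Lpr_gt (f337706 IH) (Lpr_dt (f337713 IH) (Lpn (LP (LK LD1_c25 LD2_c24 LD3_c17))))))))))))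
theorem f222248 : Led Lsl_gt (LP (LK LD1_c19 LD2_c53 LD3_c49)) = (LP (LK LD1_c25 LD2_c47 LD3_c40)) :=
  Lgr Lrot139 (Lpe (f213070 IH) (Lpe (K20.f213044 IH) (Lpe (K12.f212852 IH) (Lpr_dt (K12.f212849 IH) (Lpr_gf (K12.f222242 IH) (Lpe (K12.f51417 IH) (Lpr_et (K12.f189658 IH) (Lpe (f189669 IH) (Lpe (f189670 IH) (Lpr_dt (f189755 IH) (Lpn (LP (LK LD1_c25 LD2_c47 LD3_c40)))))))))))))
theorem f330145 : Led Lsl_et (LP (LK LD1_c10 LD2_c50 LD3_c2)) = (LP (LK LD1_c5 LD2_c29 LD3_c20)) :=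
  Lre_e IH (LK LD1_c10 LD2_c50 LD3_c2) (LK LD1_c5 LD2_c29 LD3_c20) Lrfl Lrfl
theorem f236186 : Led Lsl_df (LP (LK LD1_c4 LD2_c8 LD3_c19)) = (LP (LK LD1_c2 LD2_c41 LD3_c22)) :=
  Lgr Lrot70 (Lpr_et (K13.f1328 IH) (Lpe (K15.f236112 IH) (Lpr_et (K13.f236103 IH) (Lpr_dt (K15.f236143 IH) (Lpr_et (K13.f236150 IH) (Lpn (LP (LK LD1_c2 LD2_c41 LD3_c22))))))))
theorem f330146 : Led Lsl_dt (LP (LK LD1_c10 LD2_c50 LD3_c2)) = (LP (LK LD1_c8 LD2_c16 LD3_c41)) :=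
  Lgr Lrot136 (Lpr_et (f330145 IH) (Lpr_gf (f330129 IH) (Lpe (K9.f49608 IH) (Lpr_dt (K9.f49605 IH) (Lpr_gf (K10.f192533 IH) (Lpe (K20.f182064 IH) (Lpr_gf (K15.f261382 IH) (Lpr_ef (K13.f236188 IH) (Lpe (f236186 IH) (Lpe (K15.f236197 IH) (Lpn (LP (LK LD1_c8 LD2_c16 LD3_c41)))))))))))))
theorem f330153 : Led Lsl_et (LP (LK LD1_c5 LD2_c29 LD3_c20)) = (LP (LK LD1_c10 LD2_c50 LD3_c2)) :=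
  Lre_e IH (LK LD1_c5 LD2_c29 LD3_c20) (LK LD1_c10 LD2_c50 LD3_c2) Lrfl Lrfl
theorem f330154 : Led Lsl_ef (LP (LK LD1_c10 LD2_c50 LD3_c1)) = (LP (LK LD1_c8 LD2_c55 LD3_c45)) :=
  Lgr Lrot73 (Lpr_dt (f330144 IH) (Lpr_et (f330153 IH) (Lpr_dt (f330146 IH) (Lpr_et (K20.f236238 IH) (Lpe (K15.f236234 IH) (Lpn (LP (LK LD1_c8 LD2_c55 LD3_c45))))))))
theorem f330170 : Led Lsl_et (LP (LK LD1_c10 LD2_c50 LD3_c1)) = (LP (LK LD1_c8 LD2_c55 LD3_c45)) :=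
  Lgr Lrot87 (Lpr_ef (f330154 IH) (Lpn (LP (LK LD1_c8 LD2_c55 LD3_c45))))
theorem f330174 : Led Lsl_bf (LP (LK LD1_c10 LD2_c50 LD3_c1)) = (LP (LK LD1_c10 LD2_c46 LD3_c29)) :=
  Lgr Lrot96 (Lpr_et (f330170 IH) (Lpr_bt (K22.f298894 IH) (Lpr_et (K20.f250744 IH) (Lpn (LP (LK LD1_c10 LD2_c46 LD3_c29))))))
theorem f323227 : Led Lsl_df (LP (LK LD1_c10 LD2_c46 LD3_c29)) = (LP (LK LD1_c8 LD2_c29 LD3_c6)) :=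
  Lgr Lrot38 (Lpr_dt (K20.f323224 IH) (Lpn (LP (LK LD1_c8 LD2_c29 LD3_c6))))
theorem f330180 : Led Lsl_bt (LP (LK LD1_c5 LD2_c29 LD3_c20)) = (LP (LK LD1_c8 LD2_c29 LD3_c6)) :=
  Lgr Lrot95 (Lpe (f330144 IH) (Lpr_bf (f330174 IH) (Lpr_df (f323227 IH) (Lpn (LP (LK LD1_c8 LD2_c29 LD3_c6))))))
theorem f330134 : Led Lsl_ct (LP (LK LD1_c5 LD2_c29 LD3_c20)) = (LP (LK LD1_c10 LD2_c50 LD3_c0)) :=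
  Lre_c IH (LK LD1_c5 LD2_c29 LD3_c20) (LK LD1_c10 LD2_c50 LD3_c0) Lrfl Lrfl
theorem f323232 : Led Lsl_gf (LP (LK LD1_c4 LD2_c29 LD3_c3)) = (LP (LK LD1_c8 LD2_c29 LD3_c6)) :=
  Lgr Lrot145 (Lpr_df (K12.f188750 IH) (Lpr_et (K12.f188748 IH) (Lpr_gt (K12.f217961 IH) (Lpe (K15.f262811 IH) (Lpr_gt (K15.f261395 IH) (Lpe (K13.f235995 IH) (Lpr_et (K21.f235812 IH) (Lpr_gt (K20.f235804 IH) (Lpe (K20.f236002 IH) (Lpr_dt (K20.f323224 IH) (Lpn (LP (LK LD1_c8 LD2_c29 LD3_c6)))))))))))))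
theorem f323922 : Led Lsl_bf (LP (LK LD1_c11 LD2_c2 LD3_c31)) = (LP (LK LD1_c8 LD2_c14 LD3_c5)) :=
  Lgr Lrot24 (Lpr_bt (K21.f323488 IH) (Lpn (LP (LK LD1_c8 LD2_c14 LD3_c5))))
theorem f330184 : Led Lsl_gf (LP (LK LD1_c10 LD2_c50 LD3_c0)) = (LP (LK LD1_c11 LD2_c55 LD3_c21)) :=
  Lgr Lrot129 (Lpe (f330134 IH) (Lpr_bt (f330180 IH) (Lpe (f323232 IH) (Lpr_bf (K21.f201123 IH) (Lpe (K15.f217995 IH) (Lpr_gt (K22.f323939 IH) (Lpe (K22.f47888 IH) (Lpe (f323922 IH) (Lpe (K20.f213756 IH) (Lpe (f187722 IH) (Lpn (LP (LK LD1_c11 LD2_c55 LD3_c21)))))))))))))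
theorem f330140 : Led Lsl_ct (LP (LK LD1_c10 LD2_c50 LD3_c0)) = (LP (LK LD1_c5 LD2_c29 LD3_c20)) :=
  Lre_c IH (LK LD1_c10 LD2_c50 LD3_c0) (LK LD1_c5 LD2_c29 LD3_c20) Lrfl Lrfl
theorem f330133 : Led Lsl_ct (LP (LK LD1_c19 LD2_c35 LD3_c3)) = (LP (LK LD1_c10 LD2_c50 LD3_c1)) :=
  Lre_c IH (LK LD1_c19 LD2_c35 LD3_c3) (LK LD1_c10 LD2_c50 LD3_c1) Lrfl Lrfl
theorem f337727 : Led Lsl_gf (LP (LK LD1_c19 LD2_c35 LD3_c3)) = (LP (LK LD1_c25 LD2_c24 LD3_c17)) :=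
  Lgr Lrot104 (Lpr_ct (f330133 IH) (Lpe (f330131 IH) (Lpe (f330140 IH) (Lpr_gf (f330184 IH) (Lpr_cf (f187722 IH) (Lpr_gf (K20.f213756 IH) (Lpe (f213045 IH) (Lpr_gt (f222248 IH) (Lpr_ct (f337718 IH) (Lpn (LP (LK LD1_c25 LD2_c24 LD3_c17))))))))))))
theorem f223103 : Led Lsl_gf (LP (LK LD1_c19 LD2_c53 LD3_c50)) = (LP (LK LD1_c25 LD2_c47 LD3_c40)) :=
  Lgr Lrot138 (Lpr_dt (K19.f213072 IH) (Lpr_gt (K19.f213071 IH) (Lpr_df (K19.f212853 IH) (Lpr_et (K12.f212850 IH) (Lpe (K12.f223075 IH) (Lpe (f218719 IH) (Lpr_dt (f223090 IH) (Lpr_gt (f189735 IH) (Lpe (f189741 IH) (Lpr_et (f189743 IH) (Lpn (LP (LK LD1_c25 LD2_c47 LD3_c40)))))))))))))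
theorem f213066 : Led Lsl_dt (LP (LK LD1_c10 LD2_c56 LD3_c12)) = (LP (LK LD1_c5 LD2_c32 LD3_c16)) :=
  Lre_d IH (LK LD1_c10 LD2_c56 LD3_c12) (LK LD1_c5 LD2_c32 LD3_c16) Lrfl Lrfl
theorem f213073 : Led Lsl_gt (LP (LK LD1_c19 LD2_c45 LD3_c3)) = (LP (LK LD1_c10 LD2_c56 LD3_c12)) :=
  Lre_g IH (LK LD1_c19 LD2_c45 LD3_c3) (LK LD1_c10 LD2_c56 LD3_c12) Lrfl Lrfl
theorem f337729 : Led Lsl_dt (LP (LK LD1_c19 LD2_c35 LD3_c3)) = (LP (LK LD1_c19 LD2_c45 LD3_c3)) :=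
  Lgr Lrot57 (Lpr_gf (f337727 IH) (Lpe (f337718 IH) (Lpe (f223103 IH) (Lpr_dt (K19.f213072 IH) (Lpr_gt (K19.f213071 IH) (Lpe (K19.f212853 IH) (Lpr_cf (K16.f213054 IH) (Lpe (f213066 IH) (Lpe (f213073 IH) (Lpn (LP (LK LD1_c19 LD2_c45 LD3_c3))))))))))))
theorem f213064 : Led Lsl_dt (LP (LK LD1_c5 LD2_c32 LD3_c16)) = (LP (LK LD1_c10 LD2_c56 LD3_c12)) :=
  Lre_d IH (LK LD1_c5 LD2_c32 LD3_c16) (LK LD1_c10 LD2_c56 LD3_c12) Lrfl Lrfl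
theorem f222523 : Led Lsl_et (LP (LK LD1_c2 LD2_c42 LD3_c23)) = (LP (LK LD1_c1 LD2_c17 LD3_c46)) :=
  Lre_e IH (LK LD1_c2 LD2_c42 LD3_c23) (LK LD1_c1 LD2_c17 LD3_c46) Lrfl Lrfl
theorem f337731 : Led Lsl_gt (LP (LK LD1_c5 LD2_c32 LD3_c27)) = (LP (LK LD1_c10 LD2_c56 LD3_c41)) :=
  Lre_g IH (LK LD1_c5 LD2_c32 LD3_c27) (LK LD1_c10 LD2_c56 LD3_c41) Lrfl Lrfl
theorem f337732 : Led Lsl_df (LP (LK LD1_c10 LD2_c56 LD3_c41)) = (LP (LK LD1_c15 LD2_c31 LD3_c13)) :=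
  Lgr Lrot168 (Lpe (f337731 IH) (Lpe (K15.f222524 IH) (Lpr_et (f222523 IH) (Lpe (K12.f196395 IH) (Lpe (K16.f213084 IH) (Lpr_dt (f213064 IH) (Lpe (f213073 IH) (Lpe (f337729 IH) (Lpr_gf (f337727 IH) (Lpe (f337715 IH) (Lpn (LP (LK LD1_c15 LD2_c31 LD3_c13)))))))))))))
theorem f337736 : Led Lsl_dt (LP (LK LD1_c10 LD2_c56 LD3_c41)) = (LP (LK LD1_c15 LD2_c31 LD3_c13)) :=
  Lgr Lrot42 (Lpr_df (f337732 IH) (Lpn (LP (LK LD1_c15 LD2_c31 LD3_c13))))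
theorem f264709 : Led Lsl_gt (LP (LK LD1_c5 LD2_c32 LD3_c26)) = (LP (LK LD1_c2 LD2_c42 LD3_c23)) :=
  Lre_g IH (LK LD1_c5 LD2_c32 LD3_c26) (LK LD1_c2 LD2_c42 LD3_c23) Lrfl Lrfl
theorem f337738 : Led Lsl_gt (LP (LK LD1_c10 LD2_c56 LD3_c38)) = (LP (LK LD1_c7 LD2_c58 LD3_c18)) :=
  Lgr Lrot94 (Lpe (f261712 IH) (Lpr_gt (f264709 IH) (Lpr_dt (K15.f222524 IH) (Lpr_gt (f337731 IH) (Lpr_dt (f337736 IH) (Lpe (f337723 IH) (Lpr_df (f189739 IH) (Lpe (f189735 IH) (Lpe (f223090 IH) (Lpn (LP (LK LD1_c7 LD2_c58 LD3_c18))))))))))))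
theorem f322430 : Led Lsl_dt (LP (LK LD1_c9 LD2_c42 LD3_c28)) = (LP (LK LD1_c10 LD2_c56 LD3_c38)) :=
  Lgr Lrot42 (Lpr_df (f322426 IH) (Lpn (LP (LK LD1_c10 LD2_c56 LD3_c38))))
theorem f217615 : Led Lsl_ct (LP (LK LD1_c4 LD2_c55 LD3_c26)) = (LP (LK LD1_c9 LD2_c42 LD3_c26)) :=
  Lre_c IH (LK LD1_c4 LD2_c55 LD3_c26) (LK LD1_c9 LD2_c42 LD3_c26) Lrfl Lrfl
theorem f348079 : Led Lsl_gf (LP (LK LD1_c16 LD2_c46 LD3_c27)) = (LP (LK LD1_c9 LD2_c42 LD3_c26)) :=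
  Lgr Lrot104 (Lpr_ct (f264449 IH) (Lpr_df (f348073 IH) (Lpe (f264747 IH) (Lpe (f335610 IH) (Lpe (f218905 IH) (Lpe (f337738 IH) (Lpe (f322430 IH) (Lpr_gt (f217515 IH) (Lpr_ct (f217615 IH) (Lpn (LP (LK LD1_c9 LD2_c42 LD3_c26))))))))))))
theorem f264448 : Led Lsl_ct (LP (LK LD1_c8 LD2_c57 LD3_c45)) = (LP (LK LD1_c16 LD2_c46 LD3_c27)) :=
  Lre_c IH (LK LD1_c8 LD2_c57 LD3_c45) (LK LD1_c16 LD2_c46 LD3_c27) Lrfl Lrfl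
theorem f264692 : Led Lsl_df (LP (LK LD1_c2 LD2_c39 LD3_c21)) = (LP (LK LD1_c1 LD2_c17 LD3_c47)) :=
  Lgr Lrot38 (Lpr_dt (K15.f264632 IH) (Lpn (LP (LK LD1_c1 LD2_c17 LD3_c47))))
theorem f263042 : Led Lsl_ct (LP (LK LD1_c4 LD2_c29 LD3_c55)) = (LP (LK LD1_c8 LD2_c57 LD3_c57)) :=
  Lre_c IH (LK LD1_c4 LD2_c29 LD3_c55) (LK LD1_c8 LD2_c57 LD3_c57) Lrfl Lrfl
theorem f271750 : Led Lsl_cf (LP (LK LD1_c8 LD2_c57 LD3_c47)) = (LP (LK LD1_c15 LD2_c52 LD3_c3)) :=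
  Lgr Lrot1 (Lpr_at (K20.f264436 IH) (Lpr_ct (f263042 IH) (Lpr_at (K16.f271738 IH) (Lpn (LP (LK LD1_c15 LD2_c52 LD3_c3))))))
theorem f262879 : Led Lsl_gt (LP (LK LD1_c8 LD2_c57 LD3_c55)) = (LP (LK LD1_c4 LD2_c29 LD3_c52)) :=
  Lre_g IH (LK LD1_c8 LD2_c57 LD3_c55) (LK LD1_c4 LD2_c29 LD3_c52) Lrfl Lrfl
theorem f271740 : Led Lsl_gf (LP (LK LD1_c8 LD2_c57 LD3_c55)) = (LP (LK LD1_c15 LD2_c52 LD3_c3)) :=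
  Lgr Lrot47 (Lpr_gt (f262879 IH) (Lpr_af (K16.f271725 IH) (Lpe (K16.f221319 IH) (Lpn (LP (LK LD1_c15 LD2_c52 LD3_c3))))))
theorem f271742 : Led Lsl_dt (LP (LK LD1_c8 LD2_c57 LD3_c55)) = (LP (LK LD1_c16 LD2_c46 LD3_c44)) :=
  Lre_d IH (LK LD1_c8 LD2_c57 LD3_c55) (LK LD1_c16 LD2_c46 LD3_c44) Lrfl Lrfl
theorem f282546 : Led Lsl_gf (LP (LK LD1_c10 LD2_c43 LD3_c7)) = (LP (LK LD1_c16 LD2_c46 LD3_c44)) :=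
  Lgr Lrot143 (Lpr_dt (K15.f264685 IH) (Lpe (f264768 IH) (Lpr_df (f264692 IH) (Lpe (K20.f264715 IH) (Lpr_df (K20.f282502 IH) (Lpe (K21.f271759 IH) (Lpr_cf (f271750 IH) (Lpe (f271740 IH) (Lpr_dt (f271742 IH) (Lpn (LP (LK LD1_c16 LD2_c46 LD3_c44))))))))))))
theorem f282548 : Led Lsl_cf (LP (LK LD1_c15 LD2_c52 LD3_c3)) = (LP (LK LD1_c8 LD2_c57 LD3_c47)) :=
  Lgr Lrot166 (Lpe (f271740 IH) (Lpr_dt (f271742 IH) (Lpe (f282546 IH) (Lpr_dt (K15.f264685 IH) (Lpr_ct (K15.f264684 IH) (Lpr_df (f264692 IH) (Lpe (K20.f264715 IH) (Lpr_df (K20.f282502 IH) (Lpe (K21.f271759 IH) (Lpn (LP (LK LD1_c8 LD2_c57 LD3_c47))))))))))))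
theorem f322434 : Led Lsl_cf (LP (LK LD1_c9 LD2_c42 LD3_c28)) = (LP (LK LD1_c8 LD2_c57 LD3_c55)) :=
  Lgr Lrot99 (Lpr_df (f322426 IH) (Lpe (f261712 IH) (Lpe (f213254 IH) (Lpe (f213265 IH) (Lpe (K20.f213270 IH) (Lpr_df (K20.f317919 IH) (Lpr_gt (K20.f273511 IH) (Lpe (f282548 IH) (Lpe (f271740 IH) (Lpn (LP (LK LD1_c8 LD2_c57 LD3_c55))))))))))))
theorem f322422 : Led Lsl_bt (LP (LK LD1_c9 LD2_c43 LD3_c44)) = (LP (LK LD1_c10 LD2_c56 LD3_c38)) :=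
  Lgr Lrot119 (Lpe (K22.f314588 IH) (Lpe (f195492 IH) (Lpr_ef (f322416 IH) (Lpn (LP (LK LD1_c10 LD2_c56 LD3_c38))))))
theorem f322428 : Led Lsl_bt (LP (LK LD1_c9 LD2_c42 LD3_c28)) = (LP (LK LD1_c8 LD2_c10 LD3_c24)) :=
  Lgr Lrot95 (Lpr_df (f322426 IH) (Lpe (f322422 IH) (Lpe (K19.f314574 IH) (Lpn (LP (LK LD1_c8 LD2_c10 LD3_c24))))))
theorem f312198 : Led Lsl_cf (LP (LK LD1_c15 LD2_c9 LD3_c26)) = (LP (LK LD1_c8 LD2_c10 LD3_c24)) :=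
  Lgr Lrot39 (Lpe (K19.f312172 IH) (Lpr_ct (K19.f256157 IH) (Lpr_et (K19.f312196 IH) (Lpn (LP (LK LD1_c8 LD2_c10 LD3_c24))))))
theorem f312180 : Led Lsl_bt (LP (LK LD1_c15 LD2_c9 LD3_c26)) = (LP (LK LD1_c24 LD2_c58 LD3_c28)) :=
  Lre_b IH (LK LD1_c15 LD2_c9 LD3_c26) (LK LD1_c24 LD2_c58 LD3_c28) Lrfl Lrfl
theorem f271745 : Led Lsl_bt (LP (LK LD1_c16 LD2_c46 LD3_c43)) = (LP (LK LD1_c8 LD2_c57 LD3_c55)) :=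
  Lre_b IH (LK LD1_c16 LD2_c46 LD3_c43) (LK LD1_c8 LD2_c57 LD3_c55) Lrfl Lrfl
theorem f322436 : Led Lsl_ct (LP (LK LD1_c24 LD2_c58 LD3_c28)) = (LP (LK LD1_c16 LD2_c46 LD3_c43)) :=
  Lgr Lrot83 (Lpe (f312180 IH) (Lpr_cf (f312198 IH) (Lpe (f322428 IH) (Lpr_cf (f322434 IH) (Lpe (f271745 IH) (Lpn (LP (LK LD1_c16 LD2_c46 LD3_c43))))))))
theorem f322441 : Led Lsl_cf (LP (LK LD1_c24 LD2_c58 LD3_c28)) = (LP (LK LD1_c16 LD2_c46 LD3_c43)) :=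
  Lgr Lrot11 (Lpr_ct (f322436 IH) (Lpn (LP (LK LD1_c16 LD2_c46 LD3_c43))))
theorem f223467 : Led Lsl_bt (LP (LK LD1_c24 LD2_c58 LD3_c28)) = (LP (LK LD1_c15 LD2_c9 LD3_c26)) :=
  Lre_b IH (LK LD1_c24 LD2_c58 LD3_c28) (LK LD1_c15 LD2_c9 LD3_c26) Lrfl Lrfl
theorem f312244 : Led Lsl_ct (LP (LK LD1_c15 LD2_c9 LD3_c26)) = (LP (LK LD1_c8 LD2_c10 LD3_c24)) :=
  Lgr Lrot15 (Lpe (K19.f312178 IH) (Lpe (K19.f237933 IH) (Lpr_ef (K19.f312200 IH) (Lpn (LP (LK LD1_c8 LD2_c10 LD3_c24))))))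
theorem f322440 : Led Lsl_bt (LP (LK LD1_c8 LD2_c57 LD3_c55)) = (LP (LK LD1_c16 LD2_c46 LD3_c43)) :=
  Lre_b IH (LK LD1_c8 LD2_c57 LD3_c55) (LK LD1_c16 LD2_c46 LD3_c43) Lrfl Lrfl
theorem f322438 : Led Lsl_ct (LP (LK LD1_c9 LD2_c42 LD3_c28)) = (LP (LK LD1_c8 LD2_c57 LD3_c55)) :=
  Lgr Lrot59 (Lpr_cf (f322434 IH) (Lpn (LP (LK LD1_c8 LD2_c57 LD3_c55))))
theorem f322446 : Led Lsl_bt (LP (LK LD1_c8 LD2_c10 LD3_c24)) = (LP (LK LD1_c9 LD2_c42 LD3_c28)) :=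
  Lgr Lrot128 (Lpe (f312244 IH) (Lpe (f223467 IH) (Lpr_cf (f322441 IH) (Lpe (f322440 IH) (Lpe (f322438 IH) (Lpn (LP (LK LD1_c9 LD2_c42 LD3_c28))))))))
theorem f211358 : Led Lsl_gt (LP (LK LD1_c15 LD2_c19 LD3_c54)) = (LP (LK LD1_c8 LD2_c8 LD3_c39)) :=
  Lre_g IH (LK LD1_c15 LD2_c19 LD3_c54) (LK LD1_c8 LD2_c8 LD3_c39) Lrfl Lrfl
theorem f348084 : Led Lsl_bt (LP (LK LD1_c8 LD2_c57 LD3_c45)) = (LP (LK LD1_c15 LD2_c19 LD3_c54)) :=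
  Lgr Lrot22 (Lpr_ct (f264448 IH) (Lpr_gf (f348079 IH) (Lpe (f217615 IH) (Lpe (f217515 IH) (Lpe (f322446 IH) (Lpe (f312198 IH) (Lpe (K19.f293266 IH) (Lpe (K17.f211345 IH) (Lpr_bt (K11.f211341 IH) (Lpe (f211358 IH) (Lpn (LP (LK LD1_c15 LD2_c19 LD3_c54)))))))))))))
theorem f42224 : Led Lsl_bt (LP (LK LD1_c10 LD2_c31 LD3_c43)) = (LP (LK LD1_c5 LD2_c20 LD3_c54)) :=
  Lre_b IH (LK LD1_c10 LD2_c31 LD3_c43) (LK LD1_c5 LD2_c20 LD3_c54) Lrfl Lrfl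
theorem f42225 : Led Lsl_bt (LP (LK LD1_c6 LD2_c4 LD3_c44)) = (LP (LK LD1_c11 LD2_c52 LD3_c43)) :=
  Lre_b IH (LK LD1_c6 LD2_c4 LD3_c44) (LK LD1_c11 LD2_c52 LD3_c43) Lrfl Lrfl
theorem f42226 : Led Lsl_df (LP (LK LD1_c10 LD2_c31 LD3_c43)) = (LP (LK LD1_c11 LD2_c52 LD3_c43)) :=
  Lgr Lrot12 (Lpr_bt (f42224 IH) (Lpr_dt (f42220 IH) (Lpr_bt (f42225 IH) (Lpn (LP (LK LD1_c11 LD2_c52 LD3_c43))))))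
theorem f340071 : Led Lsl_af (LP (LK LD1_c15 LD2_c8 LD3_c55)) = (LP (LK LD1_c10 LD2_c31 LD3_c43)) :=
  Lgr Lrot117 (Lpe (K19.f196792 IH) (Lpr_at (f340065 IH) (Lpe (f42226 IH) (Lpn (LP (LK LD1_c10 LD2_c31 LD3_c43))))))
theorem f42246 : Led Lsl_gt (LP (LK LD1_c5 LD2_c20 LD3_c49)) = (LP (LK LD1_c10 LD2_c31 LD3_c42)) :=
  Lre_g IH (LK LD1_c5 LD2_c20 LD3_c49) (LK LD1_c10 LD2_c31 LD3_c42) Lrfl Lrfl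
theorem f340075 : Led Lsl_gf (LP (LK LD1_c15 LD2_c8 LD3_c55)) = (LP (LK LD1_c10 LD2_c31 LD3_c42)) :=
  Lgr Lrot76 (Lpr_af (f340071 IH) (Lpe (K20.f42242 IH) (Lpr_gt (f42246 IH) (Lpn (LP (LK LD1_c10 LD2_c31 LD3_c42))))))
theorem f335729 : Led Lsl_et (LP (LK LD1_c8 LD2_c34 LD3_c32)) = (LP (LK LD1_c8 LD2_c19 LD3_c1)) :=
  Lgr Lrot87 (Lpr_ef (K22.f335721 IH) (Lpn (LP (LK LD1_c8 LD2_c19 LD3_c1))))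
theorem f307751 : Led Lsl_dt (LP (LK LD1_c16 LD2_c5 LD3_c38)) = (LP (LK LD1_c8 LD2_c34 LD3_c32)) :=
  Lre_d IH (LK LD1_c16 LD2_c5 LD3_c38) (LK LD1_c8 LD2_c34 LD3_c32) Lrfl Lrfl
theorem f307707 : Led Lsl_bt (LP (LK LD1_c16 LD2_c5 LD3_c38)) = (LP (LK LD1_c8 LD2_c34 LD3_c34)) :=
  Lre_b IH (LK LD1_c16 LD2_c5 LD3_c38) (LK LD1_c8 LD2_c34 LD3_c34) Lrfl Lrfl
theorem f307708 : Led Lsl_bt (LP (LK LD1_c10 LD2_c22 LD3_c17)) = (LP (LK LD1_c18 LD2_c49 LD3_c21)) :=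
  Lre_b IH (LK LD1_c10 LD2_c22 LD3_c17) (LK LD1_c18 LD2_c49 LD3_c21) Lrfl Lrfl
theorem f307709 : Led Lsl_ef (LP (LK LD1_c16 LD2_c5 LD3_c38)) = (LP (LK LD1_c18 LD2_c49 LD3_c21)) :=
  Lgr Lrot29 (Lpr_bt (f307707 IH) (Lpr_et (K21.f307705 IH) (Lpr_bt (f307708 IH) (Lpn (LP (LK LD1_c18 LD2_c49 LD3_c21))))))
theorem f335733 : Led Lsl_ef (LP (LK LD1_c10 LD2_c22 LD3_c15)) = (LP (LK LD1_c10 LD2_c25 LD3_c29)) :=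
  Lgr Lrot73 (Lpr_dt (K22.f250376 IH) (Lpe (f307709 IH) (Lpr_dt (f307751 IH) (Lpr_et (f335729 IH) (Lpe (K22.f294244 IH) (Lpn (LP (LK LD1_c10 LD2_c25 LD3_c29))))))))
theorem f311481 : Led Lsl_gt (LP (LK LD1_c2 LD2_c33 LD3_c10)) = (LP (LK LD1_c4 LD2_c21 LD3_c10)) :=
  Lgr Lrot150 (Lpe (K14.f183924 IH) (Lpe (K14.f246127 IH) (Lpr_df (K14.f199007 IH) (Lpr_gt (K11.f47949 IH) (Lpr_ct (K12.f46470 IH) (Lpr_gt (K14.f194810 IH) (Lpe (K14.f194892 IH) (Lpr_df (K14.f254260 IH) (Lpr_cf (K19.f311473 IH) (Lpn (LP (LK LD1_c4 LD2_c21 LD3_c10))))))))))))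
theorem f335739 : Led Lsl_gf (LP (LK LD1_c10 LD2_c22 LD3_c15)) = (LP (LK LD1_c5 LD2_c21 LD3_c22)) :=
  Lgr Lrot141 (Lpr_ef (f335733 IH) (Lpr_dt (K22.f294242 IH) (Lpr_gt (K22.f232090 IH) (Lpe (K14.f232089 IH) (Lpe (K14.f232075 IH) (Lpr_gt (K9.f183921 IH) (Lpr_dt (K9.f183920 IH) (Lpr_gt (f311481 IH) (Lpr_df (K19.f311457 IH) (Lpr_et (K14.f190458 IH) (Lpn (LP (LK LD1_c5 LD2_c21 LD3_c22)))))))))))))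
theorem f228539 : Led Lsl_et (LP (LK LD1_c8 LD2_c7 LD3_c47)) = (LP (LK LD1_c4 LD2_c3 LD3_c38)) :=
  Lre_e IH (LK LD1_c8 LD2_c7 LD3_c47) (LK LD1_c4 LD2_c3 LD3_c38) Lrfl Lrfl
theorem f237147 : Led Lsl_gt (LP (LK LD1_c15 LD2_c18 LD3_c41)) = (LP (LK LD1_c8 LD2_c7 LD3_c54)) :=
  Lre_g IH (LK LD1_c15 LD2_c18 LD3_c41) (LK LD1_c8 LD2_c7 LD3_c54) Lrfl Lrfl
theorem f237172 : Led Lsl_dt (LP (LK LD1_c25 LD2_c9 LD3_c30)) = (LP (LK LD1_c15 LD2_c18 LD3_c41)) :=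
  Lre_d IH (LK LD1_c25 LD2_c9 LD3_c30) (LK LD1_c15 LD2_c18 LD3_c41) Lrfl Lrfl
theorem f335745 : Led Lsl_gt (LP (LK LD1_c16 LD2_c5 LD3_c38)) = (LP (LK LD1_c25 LD2_c9 LD3_c30)) :=
  Lgr Lrot137 (Lpr_ef (f307709 IH) (Lpr_dt (K22.f250371 IH) (Lpr_gf (f335739 IH) (Lpe (K20.f318096 IH) (Lpr_et (f228539 IH) (Lpe (K18.f200807 IH) (Lpe (K15.f256758 IH) (Lpr_dt (K20.f237144 IH) (Lpe (f237147 IH) (Lpe (f237172 IH) (Lpn (LP (LK LD1_c25 LD2_c9 LD3_c30)))))))))))))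
theorem f284493 : Led Lsl_ff (LP (LK LD1_c8 LD2_c17 LD3_c59)) = (LP (LK LD1_c8 LD2_c30 LD3_c51)) :=
  Lgr Lrot3 (Lpr_ft (K17.f284489 IH) (Lpn (LP (LK LD1_c8 LD2_c30 LD3_c51))))
theorem f284487 : Led Lsl_et (LP (LK LD1_c15 LD2_c18 LD3_c42)) = (LP (LK LD1_c8 LD2_c30 LD3_c51)) :=
  Lgr Lrot71 (Lpe (K17.f237152 IH) (Lpe (K15.f256752 IH) (Lpe (K17.f170816 IH) (Lpe (K17.f284459 IH) (Lpr_df (K17.f284481 IH) (Lpn (LP (LK LD1_c8 LD2_c30 LD3_c51))))))))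
theorem f237169 : Led Lsl_et (LP (LK LD1_c4 LD2_c3 LD3_c44)) = (LP (LK LD1_c8 LD2_c7 LD3_c54)) :=
  Lre_e IH (LK LD1_c4 LD2_c3 LD3_c44) (LK LD1_c8 LD2_c7 LD3_c54) Lrfl Lrfl
theorem f284495 : Led Lsl_ft (LP (LK LD1_c4 LD2_c8 LD3_c57)) = (LP (LK LD1_c4 LD2_c3 LD3_c44)) :=
  Lgr Lrot86 (Lpe (K15.f246783 IH) (Lpr_ff (f284493 IH) (Lpe (f284487 IH) (Lpe (K21.f237141 IH) (Lpe (f237169 IH) (Lpn (LP (LK LD1_c4 LD2_c3 LD3_c44))))))))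
theorem f284497 : Led Lsl_af (LP (LK LD1_c4 LD2_c8 LD3_c58)) = (LP (LK LD1_c4 LD2_c3 LD3_c44)) :=
  Lgr Lrot45 (Lpr_ft (K15.f267461 IH) (Lpe (K15.f267469 IH) (Lpr_ft (f284495 IH) (Lpn (LP (LK LD1_c4 LD2_c3 LD3_c44))))))
theorem f284499 : Led Lsl_at (LP (LK LD1_c8 LD2_c17 LD3_c60)) = (LP (LK LD1_c8 LD2_c7 LD3_c54)) :=
  Lgr Lrot80 (Lpe (K15.f260819 IH) (Lpr_af (f284497 IH) (Lpe (K17.f237123 IH) (Lpn (LP (LK LD1_c8 LD2_c7 LD3_c54))))))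
theorem f284503 : Led Lsl_gt (LP (LK LD1_c15 LD2_c36 LD3_c29)) = (LP (LK LD1_c15 LD2_c18 LD3_c41)) :=
  Lgr Lrot5 (Lpr_ft (K15.f260815 IH) (Lpr_at (f284499 IH) (Lpe (f237147 IH) (Lpn (LP (LK LD1_c15 LD2_c18 LD3_c41))))))
theorem f304127 : Led Lsl_ef (LP (LK LD1_c15 LD2_c19 LD3_c54)) = (LP (LK LD1_c25 LD2_c9 LD3_c30)) :=
  Lgr Lrot114 (Lpr_gt (f211358 IH) (Lpr_ef (K17.f293148 IH) (Lpr_dt (K21.f304123 IH) (Lpe (K19.f271298 IH) (Lpe (K16.f275658 IH) (Lpr_et (K16.f223214 IH) (Lpr_gt (K18.f261037 IH) (Lpr_dt (K15.f261026 IH) (Lpr_gt (f284503 IH) (Lpe (f237172 IH) (Lpn (LP (LK LD1_c25 LD2_c9 LD3_c30)))))))))))))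
theorem f304129 : Led Lsl_et (LP (LK LD1_c15 LD2_c19 LD3_c54)) = (LP (LK LD1_c25 LD2_c9 LD3_c30)) :=
  Lgr Lrot87 (Lpr_ef (f304127 IH) (Lpn (LP (LK LD1_c25 LD2_c9 LD3_c30))))
theorem f340077 : Led Lsl_dt (LP (LK LD1_c15 LD2_c19 LD3_c54)) = (LP (LK LD1_c10 LD2_c31 LD3_c42)) :=
  Lgr Lrot136 (Lpr_et (f304129 IH) (Lpe (f335745 IH) (Lpr_ef (f307709 IH) (Lpr_dt (K22.f250371 IH) (Lpr_gf (f335739 IH) (Lpe (K20.f318096 IH) (Lpr_gf (K20.f318116 IH) (Lpe (K19.f312373 IH) (Lpr_dt (K19.f196784 IH) (Lpr_gf (f340075 IH) (Lpn (LP (LK LD1_c10 LD2_c31 LD3_c42)))))))))))))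
theorem f348090 : Led Lsl_bf (LP (LK LD1_c5 LD2_c32 LD3_c11)) = (LP (LK LD1_c10 LD2_c31 LD3_c42)) :=
  Lgr Lrot93 (Lpe (f348073 IH) (Lpr_bt (f348084 IH) (Lpr_dt (f340077 IH) (Lpn (LP (LK LD1_c10 LD2_c31 LD3_c42))))))
theorem f194619 : Led Lsl_et (LP (LK LD1_c19 LD2_c4 LD3_c36)) = (LP (LK LD1_c10 LD2_c31 LD3_c42)) :=
  Lre_e IH (LK LD1_c19 LD2_c4 LD3_c36) (LK LD1_c10 LD2_c31 LD3_c42) Lrfl Lrfl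
theorem f348095 : Led Lsl_bt (LP (LK LD1_c10 LD2_c51 LD3_c56)) = (LP (LK LD1_c19 LD2_c4 LD3_c36)) :=
  Lgr Lrot119 (Lpr_ef (f348069 IH) (Lpr_bf (f348090 IH) (Lpe (f194619 IH) (Lpn (LP (LK LD1_c19 LD2_c4 LD3_c36))))))
theorem f301153 : Led Lsl_bt (LP (LK LD1_c10 LD2_c51 LD3_c54)) = (LP (LK LD1_c5 LD2_c30 LD3_c15)) :=
  Lre_b IH (LK LD1_c10 LD2_c51 LD3_c54) (LK LD1_c5 LD2_c30 LD3_c15) Lrfl Lrfl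
theorem f348100 : Led Lsl_df (LP (LK LD1_c10 LD2_c51 LD3_c54)) = (LP (LK LD1_c19 LD2_c4 LD3_c36)) :=
  Lgr Lrot12 (Lpr_bt (f301153 IH) (Lpr_dt (f301156 IH) (Lpr_bt (f348095 IH) (Lpn (LP (LK LD1_c19 LD2_c4 LD3_c36))))))
theorem f325715 : Led Lsl_dt (LP (LK LD1_c18 LD2_c56 LD3_c20)) = (LP (LK LD1_c10 LD2_c26 LD3_c32)) :=
  Lre_d IH (LK LD1_c18 LD2_c56 LD3_c20) (LK LD1_c10 LD2_c26 LD3_c32) Lrfl Lrfl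
theorem f325645 : Led Lsl_bt (LP (LK LD1_c15 LD2_c45 LD3_c12)) = (LP (LK LD1_c8 LD2_c22 LD3_c16)) :=
  Lre_b IH (LK LD1_c15 LD2_c45 LD3_c12) (LK LD1_c8 LD2_c22 LD3_c16) Lrfl Lrfl
theorem f325658 : Led Lsl_bt (LP (LK LD1_c10 LD2_c26 LD3_c34)) = (LP (LK LD1_c18 LD2_c56 LD3_c20)) :=
  Lre_b IH (LK LD1_c10 LD2_c26 LD3_c34) (LK LD1_c18 LD2_c56 LD3_c20) Lrfl Lrfl
theorem f325659 : Led Lsl_ef (LP (LK LD1_c15 LD2_c45 LD3_c12)) = (LP (LK LD1_c18 LD2_c56 LD3_c20)) :=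
  Lgr Lrot29 (Lpr_bt (f325645 IH) (Lpr_et (K21.f325656 IH) (Lpr_bt (f325658 IH) (Lpn (LP (LK LD1_c18 LD2_c56 LD3_c20))))))
theorem f304107 : Led Lsl_df (LP (LK LD1_c15 LD2_c19 LD3_c54)) = (LP (LK LD1_c10 LD2_c31 LD3_c42)) :=
  Lgr Lrot135 (Lpr_gt (f211358 IH) (Lpr_df (K18.f211329 IH) (Lpe (K18.f303623 IH) (Lpr_gt (K18.f304105 IH) (Lpe (K16.f243942 IH) (Lpr_dt (K14.f243940 IH) (Lpr_gt (K13.f246370 IH) (Lpe (K10.f194605 IH) (Lpr_et (K20.f42239 IH) (Lpr_gt (f42246 IH) (Lpn (LP (LK LD1_c10 LD2_c31 LD3_c42)))))))))))))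
theorem f304140 : Led Lsl_et (LP (LK LD1_c10 LD2_c31 LD3_c42)) = (LP (LK LD1_c19 LD2_c4 LD3_c36)) :=
  Lre_e IH (LK LD1_c10 LD2_c31 LD3_c42) (LK LD1_c19 LD2_c4 LD3_c36) Lrfl Lrfl
theorem f326949 : Led Lsl_gt (LP (LK LD1_c15 LD2_c45 LD3_c12)) = (LP (LK LD1_c19 LD2_c4 LD3_c36)) :=
  Lgr Lrot131 (Lpr_ef (f325659 IH) (Lpr_dt (f325715 IH) (Lpr_gf (K21.f326944 IH) (Lpe (K18.f246380 IH) (Lpe (K18.f304105 IH) (Lpr_ef (K18.f303623 IH) (Lpe (K18.f211329 IH) (Lpe (f211358 IH) (Lpr_df (f304107 IH) (Lpr_et (f304140 IH) (Lpn (LP (LK LD1_c19 LD2_c4 LD3_c36)))))))))))))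
theorem f348106 : Led Lsl_gt (LP (LK LD1_c10 LD2_c51 LD3_c54)) = (LP (LK LD1_c8 LD2_c40 LD3_c52)) :=
  Lgr Lrot139 (Lpr_df (f348100 IH) (Lpe (f326949 IH) (Lpr_ef (f325659 IH) (Lpr_dt (f325715 IH) (Lpr_gf (K21.f326944 IH) (Lpe (K18.f246380 IH) (Lpr_et (K16.f243950 IH) (Lpr_gf (K14.f246386 IH) (Lpe (K19.f246395 IH) (Lpr_dt (K19.f310820 IH) (Lpn (LP (LK LD1_c8 LD2_c40 LD3_c52)))))))))))))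
theorem f237173 : Led Lsl_dt (LP (LK LD1_c15 LD2_c18 LD3_c41)) = (LP (LK LD1_c25 LD2_c9 LD3_c30)) :=
  Lre_d IH (LK LD1_c15 LD2_c18 LD3_c41) (LK LD1_c25 LD2_c9 LD3_c30) Lrfl Lrfl
theorem f348136 : Led Lsl_ef (LP (LK LD1_c10 LD2_c51 LD3_c54)) = (LP (LK LD1_c15 LD2_c18 LD3_c41)) :=
  Lgr Lrot114 (Lpr_gt (f348106 IH) (Lpe (K19.f251042 IH) (Lpr_dt (K18.f251040 IH) (Lpe (K16.f270726 IH) (Lpe (K13.f227967 IH) (Lpr_et (K22.f232886 IH) (Lpe (K22.f335715 IH) (Lpr_dt (K22.f307750 IH) (Lpr_gt (f335745 IH) (Lpe (f237173 IH) (Lpn (LP (LK LD1_c15 LD2_c18 LD3_c41)))))))))))))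
theorem f348138 : Led Lsl_bt (LP (LK LD1_c8 LD2_c33 LD3_c25)) = (LP (LK LD1_c15 LD2_c18 LD3_c41)) :=
  Lgr Lrot119 (Lpe (f348050 IH) (Lpe (f301153 IH) (Lpr_ef (f348136 IH) (Lpn (LP (LK LD1_c15 LD2_c18 LD3_c41))))))
theorem f167737 : Led Lsl_ct (LP (LK LD1_c8 LD2_c33 LD3_c25)) = (LP (LK LD1_c16 LD2_c3 LD3_c46)) :=
  Lre_c IH (LK LD1_c8 LD2_c33 LD3_c25) (LK LD1_c16 LD2_c3 LD3_c46) Lrfl Lrfl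
theorem f220364 : Led Lsl_ct (LP (LK LD1_c5 LD2_c29 LD3_c37)) = (LP (LK LD1_c10 LD2_c50 LD3_c26)) :=
  Lre_c IH (LK LD1_c5 LD2_c29 LD3_c37) (LK LD1_c10 LD2_c50 LD3_c26) Lrfl Lrfl
theorem f348152 : Led Lsl_gt (LP (LK LD1_c16 LD2_c3 LD3_c46)) = (LP (LK LD1_c10 LD2_c50 LD3_c26)) :=
  Lgr Lrot65 (Lpe (f167737 IH) (Lpr_bt (f348138 IH) (Lpe (f284503 IH) (Lpe (K15.f260812 IH) (Lpr_ct (f182292 IH) (Lpe (K20.f267015 IH) (Lpe (K20.f321596 IH) (Lpe (K20.f220374 IH) (Lpe (K21.f220379 IH) (Lpr_ct (f220364 IH) (Lpn (LP (LK LD1_c10 LD2_c50 LD3_c26)))))))))))))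
theorem f295732 : Led Lsl_gt (LP (LK LD1_c5 LD2_c30 LD3_c16)) = (LP (LK LD1_c10 LD2_c51 LD3_c57)) :=
  Lre_g IH (LK LD1_c5 LD2_c30 LD3_c16) (LK LD1_c10 LD2_c51 LD3_c57) Lrfl Lrfl
theorem f295733 : Led Lsl_gt (LP (LK LD1_c10 LD2_c51 LD3_c57)) = (LP (LK LD1_c15 LD2_c58 LD3_c9)) :=
  Lgr Lrot46 (Lpe (f295732 IH) (Lpr_ft (K18.f295715 IH) (Lpr_at (K18.f295716 IH) (Lpn (LP (LK LD1_c15 LD2_c58 LD3_c9))))))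
theorem f243416 : Led Lsl_gt (LP (LK LD1_c8 LD2_c37 LD3_c14)) = (LP (LK LD1_c16 LD2_c8 LD3_c56)) :=
  Lre_g IH (LK LD1_c8 LD2_c37 LD3_c14) (LK LD1_c16 LD2_c8 LD3_c56) Lrfl Lrfl
theorem f301133 : Led Lsl_cf (LP (LK LD1_c10 LD2_c51 LD3_c57)) = (LP (LK LD1_c16 LD2_c8 LD3_c56)) :=
  Lgr Lrot169 (Lpr_gt (f295733 IH) (Lpr_ct (K18.f295725 IH) (Lpe (K18.f295738 IH) (Lpe (K18.f222658 IH) (Lpe (K18.f258764 IH) (Lpe (K18.f282916 IH) (Lpe (K18.f301075 IH) (Lpr_df (K19.f301095 IH) (Lpr_gt (f243416 IH) (Lpn (LP (LK LD1_c16 LD2_c8 LD3_c56))))))))))))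
theorem f348156 : Led Lsl_bt (LP (LK LD1_c16 LD2_c8 LD3_c56)) = (LP (LK LD1_c19 LD2_c35 LD3_c45)) :=
  Lgr Lrot92 (Lpe (f301133 IH) (Lpr_gt (f295733 IH) (Lpe (K18.f295724 IH) (Lpe (K22.f301415 IH) (Lpe (f260682 IH) (Lpr_ct (f167737 IH) (Lpr_gt (f348152 IH) (Lpe (f220364 IH) (Lpr_bt (K21.f220379 IH) (Lpr_gt (K20.f220374 IH) (Lpn (LP (LK LD1_c19 LD2_c35 LD3_c45)))))))))))))
theorem f301150 : Led Lsl_dt (LP (LK LD1_c26 LD2_c5 LD3_c44)) = (LP (LK LD1_c16 LD2_c8 LD3_c56)) :=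
  Lre_d IH (LK LD1_c26 LD2_c5 LD3_c44) (LK LD1_c16 LD2_c8 LD3_c56) Lrfl Lrfl
theorem f348164 : Led Lsl_bf (LP (LK LD1_c26 LD2_c5 LD3_c44)) = (LP (LK LD1_c25 LD2_c17 LD3_c21)) :=
  Lgr Lrot93 (Lpr_dt (f301150 IH) (Lpr_bt (f348156 IH) (Lpr_dt (K20.f260970 IH) (Lpn (LP (LK LD1_c25 LD2_c17 LD3_c21))))))
theorem f184145 : Led Lsl_gt (LP (LK LD1_c18 LD2_c51 LD3_c26)) = (LP (LK LD1_c10 LD2_c23 LD3_c36)) :=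
  Lre_g IH (LK LD1_c18 LD2_c51 LD3_c26) (LK LD1_c10 LD2_c23 LD3_c36) Lrfl Lrfl
theorem f301169 : Led Lsl_ef (LP (LK LD1_c18 LD2_c51 LD3_c26)) = (LP (LK LD1_c26 LD2_c5 LD3_c44)) :=
  Lgr Lrot114 (Lpr_gt (f184145 IH) (Lpe (f184152 IH) (Lpr_dt (K19.f273655 IH) (Lpr_gt (K19.f199573 IH) (Lpr_df (f257868 IH) (Lpe (K16.f263590 IH) (Lpe (K18.f301077 IH) (Lpr_dt (K19.f301127 IH) (Lpr_gt (f243416 IH) (Lpe (f301150 IH) (Lpn (LP (LK LD1_c26 LD2_c5 LD3_c44)))))))))))))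
theorem f348174 : Led Lsl_bt (LP (LK LD1_c18 LD2_c51 LD3_c26)) = (LP (LK LD1_c15 LD2_c25 LD3_c7)) :=
  Lgr Lrot119 (Lpr_ef (f301169 IH) (Lpr_bf (f348164 IH) (Lpe (K20.f260972 IH) (Lpn (LP (LK LD1_c15 LD2_c25 LD3_c7))))))
theorem f273664 : Led Lsl_gt (LP (LK LD1_c5 LD2_c30 LD3_c8)) = (LP (LK LD1_c10 LD2_c51 LD3_c42)) :=
  Lre_g IH (LK LD1_c5 LD2_c30 LD3_c8) (LK LD1_c10 LD2_c51 LD3_c42) Lrfl Lrfl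
theorem f273668 : Led Lsl_dt (LP (LK LD1_c10 LD2_c51 LD3_c42)) = (LP (LK LD1_c19 LD2_c38 LD3_c10)) :=
  Lre_d IH (LK LD1_c10 LD2_c51 LD3_c42) (LK LD1_c19 LD2_c38 LD3_c10) Lrfl Lrfl
theorem f243417 : Led Lsl_dt (LP (LK LD1_c16 LD2_c8 LD3_c56)) = (LP (LK LD1_c26 LD2_c5 LD3_c44)) :=
  Lre_d IH (LK LD1_c16 LD2_c8 LD3_c56) (LK LD1_c26 LD2_c5 LD3_c44) Lrfl Lrfl
theorem f301165 : Led Lsl_ct (LP (LK LD1_c19 LD2_c38 LD3_c10)) = (LP (LK LD1_c26 LD2_c5 LD3_c44)) :=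
  Lgr Lrot7 (Lpe (f273668 IH) (Lpe (f273664 IH) (Lpe (K22.f258746 IH) (Lpe (K16.f222522 IH) (Lpr_cf (K16.f273689 IH) (Lpe (K18.f301077 IH) (Lpr_dt (K19.f301127 IH) (Lpr_gt (f243416 IH) (Lpr_dt (f243417 IH) (Lpn (LP (LK LD1_c26 LD2_c5 LD3_c44))))))))))))
theorem f231635 : Led Lsl_gt (LP (LK LD1_c15 LD2_c31 LD3_c25)) = (LP (LK LD1_c8 LD2_c15 LD3_c19)) :=
  Lre_g IH (LK LD1_c15 LD2_c31 LD3_c25) (LK LD1_c8 LD2_c15 LD3_c19) Lrfl Lrfl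
theorem f273665 : Led Lsl_dt (LP (LK LD1_c19 LD2_c38 LD3_c10)) = (LP (LK LD1_c10 LD2_c51 LD3_c42)) :=
  Lre_d IH (LK LD1_c19 LD2_c38 LD3_c10) (LK LD1_c10 LD2_c51 LD3_c42) Lrfl Lrfl
theorem f273666 : Led Lsl_ef (LP (LK LD1_c15 LD2_c31 LD3_c25)) = (LP (LK LD1_c19 LD2_c38 LD3_c10)) :=
  Lgr Lrot114 (Lpr_gt (f231635 IH) (Lpe (K17.f273663 IH) (Lpr_dt (K16.f191335 IH) (Lpr_gt (K16.f273649 IH) (Lpe (K15.f259333 IH) (Lpe (K16.f273661 IH) (Lpr_gt (K16.f222522 IH) (Lpr_dt (K22.f258746 IH) (Lpr_gt (f273664 IH) (Lpe (f273665 IH) (Lpn (LP (LK LD1_c19 LD2_c38 LD3_c10)))))))))))))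
theorem f273669 : Led Lsl_et (LP (LK LD1_c15 LD2_c31 LD3_c25)) = (LP (LK LD1_c19 LD2_c38 LD3_c10)) :=
  Lgr Lrot87 (Lpr_ef (f273666 IH) (Lpn (LP (LK LD1_c19 LD2_c38 LD3_c10))))
theorem f301171 : Led Lsl_ct (LP (LK LD1_c18 LD2_c51 LD3_c26)) = (LP (LK LD1_c15 LD2_c31 LD3_c25)) :=
  Lgr Lrot15 (Lpr_ef (f301169 IH) (Lpe (f301165 IH) (Lpe (f273669 IH) (Lpn (LP (LK LD1_c15 LD2_c31 LD3_c25))))))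
theorem f231604 : Led Lsl_ct (LP (LK LD1_c4 LD2_c7 LD3_c40)) = (LP (LK LD1_c8 LD2_c15 LD3_c19)) :=
  Lre_c IH (LK LD1_c4 LD2_c7 LD3_c40) (LK LD1_c8 LD2_c15 LD3_c19) Lrfl Lrfl
theorem f231679 : Led Lsl_ct (LP (LK LD1_c8 LD2_c28 LD3_c49)) = (LP (LK LD1_c15 LD2_c55 LD3_c24)) :=
  Lre_c IH (LK LD1_c8 LD2_c28 LD3_c49) (LK LD1_c15 LD2_c55 LD3_c24) Lrfl Lrfl
theorem f339222 : Led Lsl_gt (LP (LK LD1_c15 LD2_c55 LD3_c24)) = (LP (LK LD1_c15 LD2_c56 LD3_c26)) :=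
  Lgr Lrot150 (Lpe (f231679 IH) (Lpe (K20.f231677 IH) (Lpr_df (K17.f236287 IH) (Lpr_gt (K17.f609 IH) (Lpr_ct (f236296 IH) (Lpr_gt (K21.f234448 IH) (Lpr_ct (f331205 IH) (Lpe (K19.f213826 IH) (Lpr_cf (f339215 IH) (Lpn (LP (LK LD1_c15 LD2_c56 LD3_c26))))))))))))
theorem f328350 : Led Lsl_bf (LP (LK LD1_c16 LD2_c11 LD3_c6)) = (LP (LK LD1_c19 LD2_c35 LD3_c9)) :=
  Lgr Lrot61 (Lpr_ft (K21.f257343 IH) (Lpe (K22.f263712 IH) (Lpr_ft (K21.f328346 IH) (Lpn (LP (LK LD1_c19 LD2_c35 LD3_c9))))))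
theorem f348178 : Led Lsl_gt (LP (LK LD1_c16 LD2_c11 LD3_c6)) = (LP (LK LD1_c15 LD2_c25 LD3_c7)) :=
  Lgr Lrot164 (Lpr_bf (f328350 IH) (Lpe (f328279 IH) (Lpe (f339222 IH) (Lpe (f231679 IH) (Lpe (K20.f231677 IH) (Lpr_bf (K20.f231600 IH) (Lpr_ct (f231604 IH) (Lpe (f231635 IH) (Lpe (f301171 IH) (Lpr_bt (f348174 IH) (Lpn (LP (LK LD1_c15 LD2_c25 LD3_c7)))))))))))))
theorem f321390 : Led Lsl_ct (LP (LK LD1_c15 LD2_c25 LD3_c7)) = (LP (LK LD1_c11 LD2_c53 LD3_c19)) :=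
  Lgr Lrot59 (Lpr_cf (K20.f321387 IH) (Lpn (LP (LK LD1_c11 LD2_c53 LD3_c19))))
theorem f311395 : Led Lsl_gt (LP (LK LD1_c6 LD2_c4 LD3_c57)) = (LP (LK LD1_c11 LD2_c53 LD3_c12)) :=
  Lre_g IH (LK LD1_c6 LD2_c4 LD3_c57) (LK LD1_c11 LD2_c53 LD3_c12) Lrfl Lrfl
theorem f348505 : Led Lsl_bt (LP (LK LD1_c8 LD2_c28 LD3_c49)) = (LP (LK LD1_c11 LD2_c53 LD3_c12)) :=
  Lgr Lrot92 (Lpr_ct (f231679 IH) (Lpr_gt (f339222 IH) (Lpr_cf (f328279 IH) (Lpe (f328350 IH) (Lpr_gt (f348178 IH) (Lpr_ct (f321390 IH) (Lpr_gt (K20.f292675 IH) (Lpe (K22.f315940 IH) (Lpr_bt (K22.f283505 IH) (Lpr_gt (f311395 IH) (Lpn (LP (LK LD1_c11 LD2_c53 LD3_c12)))))))))))))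
theorem f328277 : Led Lsl_af (LP (LK LD1_c15 LD2_c56 LD3_c26)) = (LP (LK LD1_c15 LD2_c55 LD3_c34)) :=
  Lgr Lrot0 (Lpr_at (K21.f328275 IH) (Lpn (LP (LK LD1_c15 LD2_c55 LD3_c34))))
theorem f339225 : Led Lsl_gf (LP (LK LD1_c15 LD2_c55 LD3_c24)) = (LP (LK LD1_c8 LD2_c28 LD3_c54)) :=
  Lgr Lrot47 (Lpr_gt (f339222 IH) (Lpr_af (f328277 IH) (Lpe (f259527 IH) (Lpn (LP (LK LD1_c8 LD2_c28 LD3_c54))))))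
theorem f260814 : Led Lsl_bt (LP (LK LD1_c25 LD2_c37 LD3_c43)) = (LP (LK LD1_c15 LD2_c42 LD3_c8)) :=
  Lre_b IH (LK LD1_c25 LD2_c37 LD3_c43) (LK LD1_c15 LD2_c42 LD3_c8) Lrfl Lrfl
theorem f260838 : Led Lsl_bt (LP (LK LD1_c16 LD2_c9 LD3_c16)) = (LP (LK LD1_c26 LD2_c5 LD3_c57)) :=
  Lre_b IH (LK LD1_c16 LD2_c9 LD3_c16) (LK LD1_c26 LD2_c5 LD3_c57) Lrfl Lrfl
theorem f260839 : Led Lsl_ct (LP (LK LD1_c15 LD2_c36 LD3_c29)) = (LP (LK LD1_c16 LD2_c9 LD3_c16)) :=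
  Lgr Lrot83 (Lpe (K15.f260812 IH) (Lpe (K15.f182298 IH) (Lpe (f260814 IH) (Lpr_cf (f260833 IH) (Lpe (f260838 IH) (Lpn (LP (LK LD1_c16 LD2_c9 LD3_c16))))))))
theorem f320354 : Led Lsl_bt (LP (LK LD1_c8 LD2_c24 LD3_c13)) = (LP (LK LD1_c8 LD2_c36 LD3_c7)) :=
  Lgr Lrot92 (Lpr_ct (f167202 IH) (Lpr_gt (f320323 IH) (Lpe (f260839 IH) (Lpe (K15.f260808 IH) (Lpr_gt (K20.f302918 IH) (Lpr_ct (K20.f302920 IH) (Lpe (K20.f316263 IH) (Lpe (K20.f179637 IH) (Lpr_bt (K16.f179631 IH) (Lpr_gt (K16.f179647 IH) (Lpn (LP (LK LD1_c8 LD2_c36 LD3_c7)))))))))))))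
theorem f320361 : Led Lsl_bf (LP (LK LD1_c15 LD2_c48 LD3_c6)) = (LP (LK LD1_c15 LD2_c47 LD3_c46)) :=
  Lgr Lrot96 (Lpr_et (K16.f278182 IH) (Lpr_bt (f320354 IH) (Lpr_et (K21.f305905 IH) (Lpn (LP (LK LD1_c15 LD2_c47 LD3_c46))))))
theorem f320365 : Led Lsl_bt (LP (LK LD1_c8 LD2_c35 LD3_c59)) = (LP (LK LD1_c8 LD2_c24 LD3_c2)) :=
  Lgr Lrot95 (Lpr_df (K16.f278188 IH) (Lpr_bf (f320361 IH) (Lpe (K21.f219368 IH) (Lpn (LP (LK LD1_c8 LD2_c24 LD3_c2))))))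
theorem f320369 : Led Lsl_bf (LP (LK LD1_c16 LD2_c7 LD3_c17)) = (LP (LK LD1_c15 LD2_c47 LD3_c47)) :=
  Lgr Lrot96 (Lpr_et (K16.f251699 IH) (Lpr_bt (f320365 IH) (Lpr_et (K21.f305815 IH) (Lpn (LP (LK LD1_c15 LD2_c47 LD3_c47))))))
theorem f305903 : Led Lsl_dt (LP (LK LD1_c15 LD2_c24 LD3_c23)) = (LP (LK LD1_c15 LD2_c47 LD3_c47)) :=
  Lgr Lrot42 (Lpr_df (K21.f305901 IH) (Lpn (LP (LK LD1_c15 LD2_c47 LD3_c47))))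
theorem f320373 : Led Lsl_bt (LP (LK LD1_c15 LD2_c27 LD3_c33)) = (LP (LK LD1_c15 LD2_c24 LD3_c23)) :=
  Lgr Lrot95 (Lpr_df (K16.f251700 IH) (Lpr_bf (f320369 IH) (Lpe (f305903 IH) (Lpn (LP (LK LD1_c15 LD2_c24 LD3_c23))))))
theorem f348512 : Led Lsl_gf (LP (LK LD1_c15 LD2_c36 LD3_c39)) = (LP (LK LD1_c11 LD2_c53 LD3_c12)) :=
  Lgr Lrot124 (Lpe (K22.f339628 IH) (Lpr_ct (K17.f28863 IH) (Lpr_gt (K18.f299177 IH) (Lpe (f227041 IH) (Lpe (f337083 IH) (Lpr_gt (K19.f259530 IH) (Lpe (K21.f259432 IH) (Lpe (f339225 IH) (Lpe (f231679 IH) (Lpr_bt (f348505 IH) (Lpn (LP (LK LD1_c11 LD2_c53 LD3_c12)))))))))))))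
theorem f283743 : Led Lsl_ct (LP (LK LD1_c19 LD2_c11 LD3_c13)) = (LP (LK LD1_c10 LD2_c35 LD3_c43)) :=
  Lre_c IH (LK LD1_c19 LD2_c11 LD3_c13) (LK LD1_c10 LD2_c35 LD3_c43) Lrfl Lrfl
theorem f256136 : Led Lsl_et (LP (LK LD1_c10 LD2_c35 LD3_c42)) = (LP (LK LD1_c5 LD2_c22 LD3_c44)) :=
  Lre_e IH (LK LD1_c10 LD2_c35 LD3_c42) (LK LD1_c5 LD2_c22 LD3_c44) Lrfl Lrfl
theorem f283642 : Led Lsl_ft (LP (LK LD1_c19 LD2_c11 LD3_c13)) = (LP (LK LD1_c10 LD2_c35 LD3_c42)) :=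
  Lre_f IH (LK LD1_c19 LD2_c11 LD3_c13) (LK LD1_c10 LD2_c35 LD3_c42) Lrfl Lrfl
theorem f194277 : Led Lsl_ft (LP (LK LD1_c8 LD2_c13 LD3_c52)) = (LP (LK LD1_c15 LD2_c29 LD3_c4)) :=
  Lre_f IH (LK LD1_c8 LD2_c13 LD3_c52) (LK LD1_c15 LD2_c29 LD3_c4) Lrfl Lrfl
theorem f283643 : Led Lsl_ef (LP (LK LD1_c19 LD2_c11 LD3_c13)) = (LP (LK LD1_c15 LD2_c29 LD3_c4)) :=
  Lgr Lrot21 (Lpr_ft (f283642 IH) (Lpr_et (f256136 IH) (Lpr_ft (K17.f283634 IH) (Lpr_et (K17.f194245 IH) (Lpr_ft (f194277 IH) (Lpn (LP (LK LD1_c15 LD2_c29 LD3_c4))))))))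
theorem f339638 : Led Lsl_cf (LP (LK LD1_c15 LD2_c29 LD3_c4)) = (LP (LK LD1_c15 LD2_c36 LD3_c39)) :=
  Lgr Lrot39 (Lpe (f283643 IH) (Lpr_ct (f283743 IH) (Lpr_et (K22.f339632 IH) (Lpn (LP (LK LD1_c15 LD2_c36 LD3_c39))))))
theorem f266732 : Led Lsl_gt (LP (LK LD1_c20 LD2_c56 LD3_c41)) = (LP (LK LD1_c11 LD2_c53 LD3_c11)) :=
  Lre_g IH (LK LD1_c20 LD2_c56 LD3_c41) (LK LD1_c11 LD2_c53 LD3_c11) Lrfl Lrfl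
theorem f283516 : Led Lsl_gf (LP (LK LD1_c20 LD2_c56 LD3_c41)) = (LP (LK LD1_c15 LD2_c29 LD3_c4)) :=
  Lgr Lrot47 (Lpr_gt (f266732 IH) (Lpr_af (K17.f283507 IH) (Lpe (K17.f194269 IH) (Lpn (LP (LK LD1_c15 LD2_c29 LD3_c4))))))
theorem f348514 : Led Lsl_ct (LP (LK LD1_c15 LD2_c27 LD3_c33)) = (LP (LK LD1_c20 LD2_c56 LD3_c41)) :=
  Lgr Lrot63 (Lpr_bt (f320373 IH) (Lpr_gt (K16.f271082 IH) (Lpe (K16.f259545 IH) (Lpe (K21.f259432 IH) (Lpe (f339225 IH) (Lpe (f231679 IH) (Lpr_bt (f348505 IH) (Lpe (f348512 IH) (Lpe (f339638 IH) (Lpe (f283516 IH) (Lpn (LP (LK LD1_c20 LD2_c56 LD3_c41)))))))))))))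
theorem f182953 : Led Lsl_bt (LP (LK LD1_c15 LD2_c25 LD3_c8)) = (LP (LK LD1_c8 LD2_c11 LD3_c31)) :=
  Lre_b IH (LK LD1_c15 LD2_c25 LD3_c8) (LK LD1_c8 LD2_c11 LD3_c31) Lrfl Lrfl
theorem f310624 : Led Lsl_bt (LP (LK LD1_c6 LD2_c4 LD3_c57)) = (LP (LK LD1_c2 LD2_c58 LD3_c41)) :=
  Lre_b IH (LK LD1_c6 LD2_c4 LD3_c57) (LK LD1_c2 LD2_c58 LD3_c41) Lrfl Lrfl
theorem f315946 : Led Lsl_ct (LP (LK LD1_c6 LD2_c4 LD3_c61)) = (LP (LK LD1_c11 LD2_c53 LD3_c22)) :=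
  Lre_c IH (LK LD1_c6 LD2_c4 LD3_c61) (LK LD1_c11 LD2_c53 LD3_c22) Lrfl Lrfl
theorem f348527 : Led Lsl_gf (LP (LK LD1_c20 LD2_c55 LD3_c20)) = (LP (LK LD1_c11 LD2_c53 LD3_c22)) :=
  Lgr Lrot129 (Lpr_cf (K21.f182936 IH) (Lpr_bt (f182953 IH) (Lpe (K20.f322240 IH) (Lpe (f320373 IH) (Lpr_ct (f348514 IH) (Lpr_gt (f266732 IH) (Lpe (K22.f283518 IH) (Lpr_bt (f310624 IH) (Lpr_gt (K21.f274554 IH) (Lpr_ct (f315946 IH) (Lpn (LP (LK LD1_c11 LD2_c53 LD3_c22)))))))))))))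
theorem f348534 : Led Lsl_bf (LP (LK LD1_c5 LD2_c21 LD3_c51)) = (LP (LK LD1_c6 LD2_c4 LD3_c61)) :=
  Lgr Lrot34 (Lpe (K21.f254397 IH) (Lpe (K16.f271106 IH) (Lpr_ct (K17.f271105 IH) (Lpe (K20.f228796 IH) (Lpr_cf (K20.f271092 IH) (Lpr_gf (K20.f322240 IH) (Lpe (f182953 IH) (Lpe (K21.f182936 IH) (Lpr_gf (f348527 IH) (Lpe (f315946 IH) (Lpn (LP (LK LD1_c6 LD2_c4 LD3_c61)))))))))))))
theorem f254398 : Led Lsl_gf (LP (LK LD1_c10 LD2_c30 LD3_c36)) = (LP (LK LD1_c5 LD2_c21 LD3_c51)) :=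
  Lgr Lrot76 (Lpr_af (K14.f254393 IH) (Lpe (K14.f253365 IH) (Lpr_gt (K21.f254397 IH) (Lpn (LP (LK LD1_c5 LD2_c21 LD3_c51))))))
theorem f314731 : Led Lsl_gf (LP (LK LD1_c15 LD2_c30 LD3_c6)) = (LP (LK LD1_c16 LD2_c10 LD3_c1)) :=
  Lgr Lrot47 (Lpr_gt (K21.f314681 IH) (Lpe (K21.f308265 IH) (Lpe (K19.f308273 IH) (Lpn (LP (LK LD1_c16 LD2_c10 LD3_c1))))))
theorem f314658 : Led Lsl_bt (LP (LK LD1_c8 LD2_c14 LD3_c23)) = (LP (LK LD1_c15 LD2_c30 LD3_c5)) :=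
  Lre_b IH (LK LD1_c8 LD2_c14 LD3_c23) (LK LD1_c15 LD2_c30 LD3_c5) Lrfl Lrfl
theorem f348529 : Led Lsl_gt (LP (LK LD1_c6 LD2_c5 LD3_c11)) = (LP (LK LD1_c11 LD2_c53 LD3_c22)) :=
  Lgr Lrot5 (Lpr_ft (K21.f257342 IH) (Lpe (K21.f324775 IH) (Lpr_gf (f348527 IH) (Lpn (LP (LK LD1_c11 LD2_c53 LD3_c22))))))
theorem f348545 : Led Lsl_gt (LP (LK LD1_c15 LD2_c30 LD3_c5)) = (LP (LK LD1_c8 LD2_c38 LD3_c31)) :=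
  Lgr Lrot82 (Lpe (f314658 IH) (Lpr_ct (K21.f314662 IH) (Lpr_gf (f314731 IH) (Lpe (K19.f308642 IH) (Lpe (K20.f231433 IH) (Lpr_gf (f254398 IH) (Lpr_bf (f348534 IH) (Lpr_ct (f315946 IH) (Lpe (f348529 IH) (Lpr_cf (K21.f257331 IH) (Lpn (LP (LK LD1_c8 LD2_c38 LD3_c31)))))))))))))
theorem f286118 : Led Lsl_at (LP (LK LD1_c16 LD2_c44 LD3_c25)) = (LP (LK LD1_c10 LD2_c46 LD3_c53)) :=
  Lgr Lrot107 (Lpr_cf (K17.f213807 IH) (Lpr_af (K17.f286114 IH) (Lpe (K17.f245179 IH) (Lpn (LP (LK LD1_c10 LD2_c46 LD3_c53))))))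
theorem f295888 : Led Lsl_gt (LP (LK LD1_c8 LD2_c56 LD3_c32)) = (LP (LK LD1_c15 LD2_c37 LD3_c27)) :=
  Lgr Lrot5 (Lpr_ft (K17.f213829 IH) (Lpr_at (f286118 IH) (Lpr_gf (K22.f295883 IH) (Lpn (LP (LK LD1_c15 LD2_c37 LD3_c27))))))
theorem f341583 : Led Lsl_cf (LP (LK LD1_c19 LD2_c29 LD3_c4)) = (LP (LK LD1_c25 LD2_c32 LD3_c6)) :=
  Lgr Lrot99 (Lpe (f236031 IH) (Lpe (K21.f235898 IH) (Lpr_gf (K21.f324249 IH) (Lpe (K22.f295891 IH) (Lpe (f295888 IH) (Lpe (K17.f213801 IH) (Lpr_gt (f341575 IH) (Lpr_ct (f245132 IH) (Lpr_gt (f298838 IH) (Lpn (LP (LK LD1_c25 LD2_c32 LD3_c6))))))))))))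
theorem f236027 : Led Lsl_ft (LP (LK LD1_c19 LD2_c29 LD3_c4)) = (LP (LK LD1_c10 LD2_c46 LD3_c25)) :=
  Lre_f IH (LK LD1_c19 LD2_c29 LD3_c4) (LK LD1_c10 LD2_c46 LD3_c25) Lrfl Lrfl
theorem f341589 : Led Lsl_ft (LP (LK LD1_c19 LD2_c29 LD3_c3)) = (LP (LK LD1_c25 LD2_c32 LD3_c6)) :=
  Lgr Lrot4 (Lpe (K20.f236006 IH) (Lpe (f236027 IH) (Lpr_cf (f341583 IH) (Lpn (LP (LK LD1_c25 LD2_c32 LD3_c6))))))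
theorem f341602 : Led Lsl_af (LP (LK LD1_c28 LD2_c49 LD3_c0)) = (LP (LK LD1_c25 LD2_c32 LD3_c6)) :=
  Lgr Lrot109 (Lpe (K22.f339252 IH) (Lpe (K22.f323156 IH) (Lpe (K20.f323161 IH) (Lpe (K20.f323178 IH) (Lpe (K20.f323179 IH) (Lpe (K20.f323180 IH) (Lpe (K20.f323181 IH) (Lpr_df (K20.f323182 IH) (Lpr_ft (f341589 IH) (Lpn (LP (LK LD1_c25 LD2_c32 LD3_c6))))))))))))
theorem f250945 : Led Lsl_gt (LP (LK LD1_c19 LD2_c29 LD3_c3)) = (LP (LK LD1_c28 LD2_c51 LD3_c13)) :=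
  Lre_g IH (LK LD1_c19 LD2_c29 LD3_c3) (LK LD1_c28 LD2_c51 LD3_c13) Lrfl Lrfl
theorem f341606 : Led Lsl_gf (LP (LK LD1_c28 LD2_c49 LD3_c0)) = (LP (LK LD1_c28 LD2_c51 LD3_c13)) :=
  Lgr Lrot76 (Lpr_af (f341602 IH) (Lpe (f341589 IH) (Lpr_gt (f250945 IH) (Lpn (LP (LK LD1_c28 LD2_c51 LD3_c13))))))
theorem f339255 : Led Lsl_cf (LP (LK LD1_c25 LD2_c32 LD3_c32)) = (LP (LK LD1_c28 LD2_c49 LD3_c0)) :=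
  Lgr Lrot11 (Lpr_ct (K22.f339252 IH) (Lpn (LP (LK LD1_c28 LD2_c49 LD3_c0))))
theorem f323159 : Led Lsl_dt (LP (LK LD1_c25 LD2_c32 LD3_c32)) = (LP (LK LD1_c15 LD2_c37 LD3_c33)) :=
  Lre_d IH (LK LD1_c25 LD2_c32 LD3_c32) (LK LD1_c15 LD2_c37 LD3_c33) Lrfl Lrfl
theorem f298896 : Led Lsl_ct (LP (LK LD1_c10 LD2_c46 LD3_c27)) = (LP (LK LD1_c5 LD2_c27 LD3_c40)) :=
  Lre_c IH (LK LD1_c10 LD2_c46 LD3_c27) (LK LD1_c5 LD2_c27 LD3_c40) Lrfl Lrfl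
theorem f286061 : Led Lsl_at (LP (LK LD1_c19 LD2_c25 LD3_c35)) = (LP (LK LD1_c19 LD2_c30 LD3_c6)) :=
  Lgr Lrot100 (Lpr_af (K17.f286053 IH) (Lpn (LP (LK LD1_c19 LD2_c30 LD3_c6))))
theorem f286081 : Led Lsl_at (LP (LK LD1_c10 LD2_c46 LD3_c53)) = (LP (LK LD1_c16 LD2_c44 LD3_c25)) :=
  Lgr Lrot51 (Lpe (K22.f245183 IH) (Lpe (f286061 IH) (Lpr_df (K17.f286078 IH) (Lpn (LP (LK LD1_c16 LD2_c44 LD3_c25))))))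
theorem f245187 : Led Lsl_ft (LP (LK LD1_c5 LD2_c27 LD3_c52)) = (LP (LK LD1_c10 LD2_c46 LD3_c53)) :=
  Lre_f IH (LK LD1_c5 LD2_c27 LD3_c52) (LK LD1_c10 LD2_c46 LD3_c53) Lrfl Lrfl
theorem f298961 : Led Lsl_gf (LP (LK LD1_c10 LD2_c46 LD3_c27)) = (LP (LK LD1_c5 LD2_c27 LD3_c52)) :=
  Lgr Lrot47 (Lpr_gt (K20.f298879 IH) (Lpe (f286081 IH) (Lpe (f245187 IH) (Lpn (LP (LK LD1_c5 LD2_c27 LD3_c52))))))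
theorem f341608 : Led Lsl_ct (LP (LK LD1_c19 LD2_c30 LD3_c4)) = (LP (LK LD1_c28 LD2_c51 LD3_c13)) :=
  Lgr Lrot152 (Lpe (K17.f245100 IH) (Lpe (K17.f245095 IH) (Lpe (f298961 IH) (Lpr_ct (f298896 IH) (Lpe (K20.f323217 IH) (Lpr_ct (K20.f323161 IH) (Lpe (f323159 IH) (Lpr_cf (f339255 IH) (Lpr_gf (f341606 IH) (Lpn (LP (LK LD1_c28 LD2_c51 LD3_c13))))))))))))
theorem f341613 : Led Lsl_cf (LP (LK LD1_c19 LD2_c30 LD3_c4)) = (LP (LK LD1_c28 LD2_c51 LD3_c13)) :=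
  Lgr Lrot11 (Lpr_ct (f341608 IH) (Lpn (LP (LK LD1_c28 LD2_c51 LD3_c13))))
theorem f285663 : Led Lsl_ct (LP (LK LD1_c10 LD2_c44 LD3_c7)) = (LP (LK LD1_c5 LD2_c26 LD3_c27)) :=
  Lre_c IH (LK LD1_c10 LD2_c44 LD3_c7) (LK LD1_c5 LD2_c26 LD3_c27) Lrfl Lrfl
theorem f341642 : Led Lsl_gf (LP (LK LD1_c10 LD2_c44 LD3_c7)) = (LP (LK LD1_c8 LD2_c29 LD3_c21)) :=
  Lgr Lrot147 (Lpr_ct (f285663 IH) (Lpe (K21.f324187 IH) (Lpr_ct (K21.f231619 IH) (Lpr_df (K21.f324195 IH) (Lpr_cf (f341613 IH) (Lpe (f250945 IH) (Lpe (K20.f236006 IH) (Lpe (K21.f250938 IH) (Lpe (K21.f54490 IH) (Lpn (LP (LK LD1_c8 LD2_c29 LD3_c21))))))))))))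
theorem f285676 : Led Lsl_ct (LP (LK LD1_c5 LD2_c26 LD3_c27)) = (LP (LK LD1_c10 LD2_c44 LD3_c7)) :=
  Lre_c IH (LK LD1_c5 LD2_c26 LD3_c27) (LK LD1_c10 LD2_c44 LD3_c7) Lrfl Lrfl
theorem f348553 : Led Lsl_bf (LP (LK LD1_c8 LD2_c39 LD3_c33)) = (LP (LK LD1_c5 LD2_c26 LD3_c27)) :=
  Lgr Lrot165 (Lpr_gt (K19.f312165 IH) (Lpr_ct (K19.f308642 IH) (Lpe (f314731 IH) (Lpe (K21.f314662 IH) (Lpr_bt (f314658 IH) (Lpr_gt (f348545 IH) (Lpe (K21.f263720 IH) (Lpr_ct (K21.f263722 IH) (Lpe (f341642 IH) (Lpe (f285676 IH) (Lpn (LP (LK LD1_c5 LD2_c26 LD3_c27)))))))))))))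
theorem f348622 : Led Lsl_bt (LP (LK LD1_c8 LD2_c39 LD3_c33)) = (LP (LK LD1_c5 LD2_c26 LD3_c27)) :=
  Lgr Lrot127 (Lpr_bf (f348553 IH) (Lpn (LP (LK LD1_c5 LD2_c26 LD3_c27))))
theorem f284144 : Led Lsl_ef (LP (LK LD1_c8 LD2_c20 LD3_c34)) = (LP (LK LD1_c4 LD2_c10 LD3_c49)) :=
  Lgr Lrot88 (Lpr_et (K17.f284134 IH) (Lpn (LP (LK LD1_c4 LD2_c10 LD3_c49))))
theorem f343719 : Led Lsl_et (LP (LK LD1_c11 LD2_c55 LD3_c51)) = (LP (LK LD1_c10 LD2_c44 LD3_c27)) :=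
  Lgr Lrot71 (Lpe (K22.f281023 IH) (Lpe (K22.f281015 IH) (Lpr_df (K22.f281002 IH) (Lpr_ef (f343713 IH) (Lpe (f343704 IH) (Lpn (LP (LK LD1_c10 LD2_c44 LD3_c27))))))))
theorem f343726 : Led Lsl_gf (LP (LK LD1_c5 LD2_c21 LD3_c53)) = (LP (LK LD1_c6 LD2_c6 LD3_c13)) :=
  Lgr Lrot145 (Lpr_df (K17.f284162 IH) (Lpe (f284144 IH) (Lpr_gt (K20.f302918 IH) (Lpr_dt (K19.f278649 IH) (Lpe (f343724 IH) (Lpe (K22.f310466 IH) (Lpr_et (K22.f329954 IH) (Lpr_gt (f343721 IH) (Lpe (f343719 IH) (Lpr_dt (K22.f281029 IH) (Lpn (LP (LK LD1_c6 LD2_c6 LD3_c13)))))))))))))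
theorem f343730 : Led Lsl_gf (LP (LK LD1_c10 LD2_c34 LD3_c23)) = (LP (LK LD1_c11 LD2_c55 LD3_c50)) :=
  Lgr Lrot144 (Lpr_dt (K21.f224379 IH) (Lpr_gt (K21.f328942 IH) (Lpr_dt (K17.f276865 IH) (Lpe (K17.f276860 IH) (Lpe (K17.f288913 IH) (Lpr_gf (K20.f284160 IH) (Lpe (f284156 IH) (Lpr_gf (f343726 IH) (Lpe (K22.f246012 IH) (Lpn (LP (LK LD1_c11 LD2_c55 LD3_c50))))))))))))
theorem f194859 : Led Lsl_ft (LP (LK LD1_c25 LD2_c26 LD3_c4)) = (LP (LK LD1_c15 LD2_c32 LD3_c42)) :=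
  Lre_f IH (LK LD1_c25 LD2_c26 LD3_c4) (LK LD1_c15 LD2_c32 LD3_c42) Lrfl Lrfl
theorem f194860 : Led Lsl_ft (LP (LK LD1_c10 LD2_c34 LD3_c19)) = (LP (LK LD1_c19 LD2_c9 LD3_c0)) :=
  Lre_f IH (LK LD1_c10 LD2_c34 LD3_c19) (LK LD1_c19 LD2_c9 LD3_c0) Lrfl Lrfl
theorem f194861 : Led Lsl_cf (LP (LK LD1_c25 LD2_c26 LD3_c4)) = (LP (LK LD1_c19 LD2_c9 LD3_c0)) :=
  Lgr Lrot108 (Lpr_ft (f194859 IH) (Lpr_ct (K14.f194797 IH) (Lpr_ft (f194860 IH) (Lpn (LP (LK LD1_c19 LD2_c9 LD3_c0))))))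
theorem f194869 : Led Lsl_ct (LP (LK LD1_c25 LD2_c26 LD3_c4)) = (LP (LK LD1_c19 LD2_c9 LD3_c0)) :=
  Lgr Lrot59 (Lpr_cf (f194861 IH) (Lpn (LP (LK LD1_c19 LD2_c9 LD3_c0))))
theorem f184146 : Led Lsl_bt (LP (LK LD1_c15 LD2_c32 LD3_c45)) = (LP (LK LD1_c25 LD2_c26 LD3_c4)) :=
  Lre_b IH (LK LD1_c15 LD2_c32 LD3_c45) (LK LD1_c25 LD2_c26 LD3_c4) Lrfl Lrfl
theorem f184140 : Led Lsl_ft (LP (LK LD1_c15 LD2_c32 LD3_c45)) = (LP (LK LD1_c8 LD2_c16 LD3_c7)) :=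
  Lre_f IH (LK LD1_c15 LD2_c32 LD3_c45) (LK LD1_c8 LD2_c16 LD3_c7) Lrfl Lrfl
theorem f184141 : Led Lsl_ct (LP (LK LD1_c18 LD2_c51 LD3_c27)) = (LP (LK LD1_c15 LD2_c32 LD3_c45)) :=
  Lgr Lrot40 (Lpe (K21.f184139 IH) (Lpr_cf (K14.f184132 IH) (Lpe (f184140 IH) (Lpn (LP (LK LD1_c15 LD2_c32 LD3_c45))))))
theorem f336571 : Led Lsl_bf (LP (LK LD1_c18 LD2_c51 LD3_c27)) = (LP (LK LD1_c16 LD2_c19 LD3_c60)) :=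
  Lgr Lrot90 (Lpr_ct (f184141 IH) (Lpr_bt (f184146 IH) (Lpr_ct (f194869 IH) (Lpr_bt (K22.f194874 IH) (Lpr_ct (K22.f336546 IH) (Lpn (LP (LK LD1_c16 LD2_c19 LD3_c60))))))))
theorem f179786 : Led Lsl_bt (LP (LK LD1_c2 LD2_c59 LD3_c8)) = (LP (LK LD1_c1 LD2_c25 LD3_c19)) :=
  Lre_b IH (LK LD1_c2 LD2_c59 LD3_c8) (LK LD1_c1 LD2_c25 LD3_c19) Lrfl Lrfl
theorem f220177 : Led Lsl_ct (LP (LK LD1_c2 LD2_c59 LD3_c8)) = (LP (LK LD1_c6 LD2_c6 LD3_c0)) :=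
  Lre_c IH (LK LD1_c2 LD2_c59 LD3_c8) (LK LD1_c6 LD2_c6 LD3_c0) Lrfl Lrfl
theorem f220174 : Led Lsl_gt (LP (LK LD1_c11 LD2_c55 LD3_c27)) = (LP (LK LD1_c6 LD2_c6 LD3_c0)) :=
  Lre_g IH (LK LD1_c11 LD2_c55 LD3_c27) (LK LD1_c6 LD2_c6 LD3_c0) Lrfl Lrfl
theorem f229586 : Led Lsl_dt (LP (LK LD1_c4 LD2_c9 LD3_c3)) = (LP (LK LD1_c8 LD2_c18 LD3_c11)) :=
  Lre_d IH (LK LD1_c4 LD2_c9 LD3_c3) (LK LD1_c8 LD2_c18 LD3_c11) Lrfl Lrfl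
theorem f229602 : Led Lsl_gt (LP (LK LD1_c8 LD2_c18 LD3_c11)) = (LP (LK LD1_c15 LD2_c36 LD3_c50)) :=
  Lre_g IH (LK LD1_c8 LD2_c18 LD3_c11) (LK LD1_c15 LD2_c36 LD3_c50) Lrfl Lrfl
theorem f191404 : Led Lsl_gt (LP (LK LD1_c10 LD2_c24 LD3_c16)) = (LP (LK LD1_c5 LD2_c17 LD3_c22)) :=
  Lre_g IH (LK LD1_c10 LD2_c24 LD3_c16) (LK LD1_c5 LD2_c17 LD3_c22) Lrfl Lrfl
theorem f251716 : Led Lsl_et (LP (LK LD1_c18 LD2_c52 LD3_c37)) = (LP (LK LD1_c10 LD2_c24 LD3_c16)) :=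
  Lre_e IH (LK LD1_c18 LD2_c52 LD3_c37) (LK LD1_c10 LD2_c24 LD3_c16) Lrfl Lrfl
theorem f301106 : Led Lsl_df (LP (LK LD1_c15 LD2_c36 LD3_c50)) = (LP (LK LD1_c18 LD2_c52 LD3_c37)) :=
  Lgr Lrot168 (Lpe (f229602 IH) (Lpe (f229586 IH) (Lpr_et (K21.f234244 IH) (Lpr_gf (K16.f254793 IH) (Lpe (K14.f232198 IH) (Lpe (K19.f232188 IH) (Lpr_gf (K19.f301104 IH) (Lpe (K19.f251691 IH) (Lpe (f191404 IH) (Lpe (f251716 IH) (Lpn (LP (LK LD1_c18 LD2_c52 LD3_c37)))))))))))))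
theorem f301108 : Led Lsl_dt (LP (LK LD1_c15 LD2_c36 LD3_c50)) = (LP (LK LD1_c18 LD2_c52 LD3_c37)) :=
  Lgr Lrot42 (Lpr_df (f301106 IH) (Lpn (LP (LK LD1_c18 LD2_c52 LD3_c37))))
theorem f300940 : Led Lsl_at (LP (LK LD1_c2 LD2_c41 LD3_c20)) = (LP (LK LD1_c5 LD2_c29 LD3_c27)) :=
  Lre_a IH (LK LD1_c2 LD2_c41 LD3_c20) (LK LD1_c5 LD2_c29 LD3_c27) Lrfl Lrfl
theorem f300941 : Led Lsl_gt (LP (LK LD1_c10 LD2_c43 LD3_c33)) = (LP (LK LD1_c5 LD2_c29 LD3_c27)) :=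
  Lgr Lrot46 (Lpr_gf (K21.f300937 IH) (Lpr_ft (K19.f300939 IH) (Lpr_at (f300940 IH) (Lpn (LP (LK LD1_c5 LD2_c29 LD3_c27))))))
theorem f300958 : Led Lsl_gt (LP (LK LD1_c10 LD2_c50 LD3_c14)) = (LP (LK LD1_c19 LD2_c35 LD3_c30)) :=
  Lre_g IH (LK LD1_c10 LD2_c50 LD3_c14) (LK LD1_c19 LD2_c35 LD3_c30) Lrfl Lrfl
theorem f300967 : Led Lsl_et (LP (LK LD1_c21 LD2_c0 LD3_c24)) = (LP (LK LD1_c11 LD2_c55 LD3_c27)) :=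
  Lre_e IH (LK LD1_c21 LD2_c0 LD3_c24) (LK LD1_c11 LD2_c55 LD3_c27) Lrfl Lrfl
theorem f300968 : Led Lsl_dt (LP (LK LD1_c21 LD2_c0 LD3_c24)) = (LP (LK LD1_c19 LD2_c35 LD3_c30)) :=
  Lgr Lrot56 (Lpr_et (f300967 IH) (Lpr_gt (f220174 IH) (Lpe (K17.f283037 IH) (Lpr_dt (K17.f187658 IH) (Lpe (K19.f284930 IH) (Lpe (K15.f251434 IH) (Lpr_et (K16.f264095 IH) (Lpr_gt (f300941 IH) (Lpr_dt (f266350 IH) (Lpr_gt (f300958 IH) (Lpn (LP (LK LD1_c19 LD2_c35 LD3_c30)))))))))))))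
theorem f300971 : Led Lsl_df (LP (LK LD1_c21 LD2_c0 LD3_c24)) = (LP (LK LD1_c19 LD2_c35 LD3_c30)) :=
  Lgr Lrot38 (Lpr_dt (f300968 IH) (Lpn (LP (LK LD1_c19 LD2_c35 LD3_c30))))
theorem f301113 : Led Lsl_cf (LP (LK LD1_c21 LD2_c0 LD3_c24)) = (LP (LK LD1_c18 LD2_c52 LD3_c37)) :=
  Lgr Lrot14 (Lpr_df (f300971 IH) (Lpe (f300958 IH) (Lpe (f266350 IH) (Lpe (f300941 IH) (Lpr_ct (K16.f273692 IH) (Lpr_gt (K16.f190833 IH) (Lpr_dt (f229586 IH) (Lpr_gt (f229602 IH) (Lpr_dt (f301108 IH) (Lpn (LP (LK LD1_c18 LD2_c52 LD3_c37))))))))))))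
theorem f301110 : Led Lsl_et (LP (LK LD1_c10 LD2_c24 LD3_c16)) = (LP (LK LD1_c18 LD2_c52 LD3_c37)) :=
  Lre_e IH (LK LD1_c10 LD2_c24 LD3_c16) (LK LD1_c18 LD2_c52 LD3_c37) Lrfl Lrfl
theorem f301115 : Led Lsl_ct (LP (LK LD1_c11 LD2_c55 LD3_c27)) = (LP (LK LD1_c10 LD2_c24 LD3_c16)) :=
  Lgr Lrot15 (Lpe (f300967 IH) (Lpr_cf (f301113 IH) (Lpe (f301110 IH) (Lpn (LP (LK LD1_c10 LD2_c24 LD3_c16))))))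
theorem f301118 : Led Lsl_cf (LP (LK LD1_c11 LD2_c55 LD3_c27)) = (LP (LK LD1_c10 LD2_c24 LD3_c16)) :=
  Lgr Lrot11 (Lpr_ct (f301115 IH) (Lpn (LP (LK LD1_c10 LD2_c24 LD3_c16))))
theorem f343736 : Led Lsl_gt (LP (LK LD1_c18 LD2_c51 LD3_c27)) = (LP (LK LD1_c10 LD2_c24 LD3_c16)) :=
  Lgr Lrot82 (Lpr_bf (f336571 IH) (Lpe (K22.f336573 IH) (Lpr_gf (f343730 IH) (Lpe (K22.f246014 IH) (Lpr_bt (K22.f246011 IH) (Lpe (K22.f179794 IH) (Lpe (f179786 IH) (Lpr_ct (f220177 IH) (Lpe (f220174 IH) (Lpr_cf (f301118 IH) (Lpn (LP (LK LD1_c10 LD2_c24 LD3_c16)))))))))))))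
theorem f343728 : Led Lsl_gt (LP (LK LD1_c5 LD2_c20 LD3_c18)) = (LP (LK LD1_c6 LD2_c6 LD3_c13)) :=
  Lgr Lrot5 (Lpr_ft (K15.f231428 IH) (Lpr_at (K14.f254334 IH) (Lpr_gf (f343726 IH) (Lpn (LP (LK LD1_c6 LD2_c6 LD3_c13))))))
theorem f170937 : Led Lsl_dt (LP (LK LD1_c8 LD2_c24 LD3_c49)) = (LP (LK LD1_c15 LD2_c49 LD3_c1)) :=
  Lre_d IH (LK LD1_c8 LD2_c24 LD3_c49) (LK LD1_c15 LD2_c49 LD3_c1) Lrfl Lrfl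
theorem f170938 : Led Lsl_ct (LP (LK LD1_c15 LD2_c49 LD3_c1)) = (LP (LK LD1_c25 LD2_c45 LD3_c28)) :=
  Lre_c IH (LK LD1_c15 LD2_c49 LD3_c1) (LK LD1_c25 LD2_c45 LD3_c28) Lrfl Lrfl
theorem f279460 : Led Lsl_dt (LP (LK LD1_c10 LD2_c37 LD3_c21)) = (LP (LK LD1_c19 LD2_c14 LD3_c30)) :=
  Lre_d IH (LK LD1_c10 LD2_c37 LD3_c21) (LK LD1_c19 LD2_c14 LD3_c30) Lrfl Lrfl
theorem f279493 : Led Lsl_gt (LP (LK LD1_c19 LD2_c14 LD3_c30)) = (LP (LK LD1_c28 LD2_c40 LD3_c51)) :=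
  Lre_g IH (LK LD1_c19 LD2_c14 LD3_c30) (LK LD1_c28 LD2_c40 LD3_c51) Lrfl Lrfl
theorem f310687 : Led Lsl_df (LP (LK LD1_c25 LD2_c45 LD3_c28)) = (LP (LK LD1_c28 LD2_c40 LD3_c51)) :=
  Lgr Lrot84 (Lpe (f170938 IH) (Lpe (f170937 IH) (Lpe (K19.f170936 IH) (Lpr_df (K19.f212561 IH) (Lpe (K14.f212545 IH) (Lpe (K20.f212613 IH) (Lpr_gt (f310685 IH) (Lpr_dt (f279460 IH) (Lpr_gt (f279493 IH) (Lpn (LP (LK LD1_c28 LD2_c40 LD3_c51))))))))))))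
theorem f310689 : Led Lsl_dt (LP (LK LD1_c25 LD2_c45 LD3_c28)) = (LP (LK LD1_c28 LD2_c40 LD3_c51)) :=
  Lgr Lrot42 (Lpr_df (f310687 IH) (Lpn (LP (LK LD1_c28 LD2_c40 LD3_c51))))
theorem f238125 : Led Lsl_ct (LP (LK LD1_c16 LD2_c9 LD3_c57)) = (LP (LK LD1_c8 LD2_c37 LD3_c51)) :=
  Lre_c IH (LK LD1_c16 LD2_c9 LD3_c57) (LK LD1_c8 LD2_c37 LD3_c51) Lrfl Lrfl
theorem f238126 : Led Lsl_et (LP (LK LD1_c25 LD2_c45 LD3_c28)) = (LP (LK LD1_c16 LD2_c9 LD3_c57)) :=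
  Lgr Lrot158 (Lpe (f170938 IH) (Lpr_ef (K19.f238123 IH) (Lpe (f238125 IH) (Lpn (LP (LK LD1_c16 LD2_c9 LD3_c57))))))
theorem f310691 : Led Lsl_gt (LP (LK LD1_c16 LD2_c9 LD3_c57)) = (LP (LK LD1_c8 LD2_c37 LD3_c54)) :=
  Lgr Lrot137 (Lpe (f238126 IH) (Lpr_dt (f310689 IH) (Lpe (f279493 IH) (Lpe (f279460 IH) (Lpr_et (K17.f279463 IH) (Lpe (K19.f310681 IH) (Lpe (K21.f293440 IH) (Lpr_dt (K21.f238193 IH) (Lpe (K21.f310683 IH) (Lpe (K19.f54218 IH) (Lpn (LP (LK LD1_c8 LD2_c37 LD3_c54)))))))))))))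
theorem f238120 : Led Lsl_ct (LP (LK LD1_c8 LD2_c37 LD3_c51)) = (LP (LK LD1_c16 LD2_c9 LD3_c57)) :=
  Lre_c IH (LK LD1_c8 LD2_c37 LD3_c51) (LK LD1_c16 LD2_c9 LD3_c57) Lrfl Lrfl
theorem f343738 : Led Lsl_bf (LP (LK LD1_c10 LD2_c24 LD3_c16)) = (LP (LK LD1_c8 LD2_c37 LD3_c51)) :=
  Lgr Lrot34 (Lpe (f343736 IH) (Lpr_bf (f336571 IH) (Lpe (K22.f336573 IH) (Lpr_gf (f343730 IH) (Lpe (K22.f246014 IH) (Lpe (f343728 IH) (Lpr_bf (K15.f231422 IH) (Lpr_ct (K21.f231459 IH) (Lpe (f310691 IH) (Lpe (f238120 IH) (Lpn (LP (LK LD1_c8 LD2_c37 LD3_c51)))))))))))))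
theorem f343740 : Led Lsl_bt (LP (LK LD1_c10 LD2_c24 LD3_c16)) = (LP (LK LD1_c8 LD2_c37 LD3_c51)) :=
  Lgr Lrot127 (Lpr_bf (f343738 IH) (Lpn (LP (LK LD1_c8 LD2_c37 LD3_c51))))
theorem f343780 : Led Lsl_gf (LP (LK LD1_c11 LD2_c55 LD3_c27)) = (LP (LK LD1_c15 LD2_c31 LD3_c27)) :=
  Lgr Lrot129 (Lpr_cf (f301118 IH) (Lpr_bt (f343740 IH) (Lpr_gt (K19.f190030 IH) (Lpe (K19.f190000 IH) (Lpr_ct (K18.f190002 IH) (Lpr_gt (K22.f190029 IH) (Lpe (K22.f337103 IH) (Lpr_bt (K22.f282452 IH) (Lpe (K17.f283066 IH) (Lpr_ct (K17.f231621 IH) (Lpn (LP (LK LD1_c15 LD2_c31 LD3_c27)))))))))))))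
theorem f190015 : Led Lsl_gt (LP (LK LD1_c8 LD2_c37 LD3_c49)) = (LP (LK LD1_c16 LD2_c9 LD3_c52)) :=
  Lre_g IH (LK LD1_c8 LD2_c37 LD3_c49) (LK LD1_c16 LD2_c9 LD3_c52) Lrfl Lrfl
theorem f348638 : Led Lsl_ct (LP (LK LD1_c8 LD2_c39 LD3_c33)) = (LP (LK LD1_c16 LD2_c9 LD3_c52)) :=
  Lgr Lrot63 (Lpr_bt (f348622 IH) (Lpe (K21.f324187 IH) (Lpr_bf (K21.f231610 IH) (Lpr_ct (K17.f231621 IH) (Lpe (f343780 IH) (Lpr_cf (f301118 IH) (Lpr_bt (f343740 IH) (Lpr_gt (K19.f190030 IH) (Lpr_ct (K21.f190012 IH) (Lpr_gt (f190015 IH) (Lpn (LP (LK LD1_c16 LD2_c9 LD3_c52)))))))))))))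
theorem f323338 : Led Lsl_bf (LP (LK LD1_c8 LD2_c9 LD3_c37)) = (LP (LK LD1_c5 LD2_c35 LD3_c28)) :=
  Lgr Lrot24 (Lpr_bt (K21.f323336 IH) (Lpn (LP (LK LD1_c5 LD2_c35 LD3_c28))))
theorem f325877 : Led Lsl_gt (LP (LK LD1_c5 LD2_c35 LD3_c40)) = (LP (LK LD1_c11 LD2_c3 LD3_c7)) :=
  Lgr Lrot149 (Lpe (K21.f324608 IH) (Lpr_gf (K21.f325867 IH) (Lpe (K21.f284181 IH) (Lpr_ct (K20.f284177 IH) (Lpe (K18.f297804 IH) (Lpe (K19.f228557 IH) (Lpr_bt (K12.f200505 IH) (Lpr_gf (K18.f297993 IH) (Lpr_bf (f323338 IH) (Lpr_ct (K22.f189413 IH) (Lpn (LP (LK LD1_c11 LD2_c3 LD3_c7)))))))))))))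
theorem f247110 : Led Lsl_dt (LP (LK LD1_c11 LD2_c3 LD3_c7)) = (LP (LK LD1_c19 LD2_c54 LD3_c48)) :=
  Lre_d IH (LK LD1_c11 LD2_c3 LD3_c7) (LK LD1_c19 LD2_c54 LD3_c48) Lrfl Lrfl
theorem f240980 : Led Lsl_dt (LP (LK LD1_c26 LD2_c6 LD3_c35)) = (LP (LK LD1_c16 LD2_c9 LD3_c52)) :=
  Lre_d IH (LK LD1_c26 LD2_c6 LD3_c35) (LK LD1_c16 LD2_c9 LD3_c52) Lrfl Lrfl
theorem f348647 : Led Lsl_gt (LP (LK LD1_c19 LD2_c54 LD3_c48)) = (LP (LK LD1_c26 LD2_c6 LD3_c35)) :=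
  Lgr Lrot189 (Lpe (f247110 IH) (Lpe (f325877 IH) (Lpe (K21.f324613 IH) (Lpr_gt (K19.f255633 IH) (Lpr_dt (K19.f255637 IH) (Lpe (K19.f312163 IH) (Lpr_dt (K19.f312162 IH) (Lpr_ct (f348638 IH) (Lpe (f240980 IH) (Lpn (LP (LK LD1_c26 LD2_c6 LD3_c35))))))))))))
theorem f316771 : Led Lsl_et (LP (LK LD1_c2 LD2_c43 LD3_c45)) = (LP (LK LD1_c5 LD2_c35 LD3_c40)) :=
  Lre_e IH (LK LD1_c2 LD2_c43 LD3_c45) (LK LD1_c5 LD2_c35 LD3_c40) Lrfl Lrfl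
theorem f278006 : Led Lsl_cf (LP (LK LD1_c5 LD2_c35 LD3_c34)) = (LP (LK LD1_c5 LD2_c35 LD3_c39)) :=
  Lgr Lrot14 (Lpe (K20.f199486 IH) (Lpr_gf (K16.f277987 IH) (Lpe (K13.f224187 IH) (Lpe (K13.f234007 IH) (Lpr_ct (K16.f277922 IH) (Lpr_gt (K16.f189126 IH) (Lpr_dt (K12.f189125 IH) (Lpr_gt (K20.f189439 IH) (Lpr_dt (K20.f189440 IH) (Lpn (LP (LK LD1_c5 LD2_c35 LD3_c39))))))))))))
theorem f316760 : Led Lsl_gt (LP (LK LD1_c4 LD2_c56 LD3_c3)) = (LP (LK LD1_c5 LD2_c35 LD3_c39)) :=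
  Lgr Lrot150 (Lpr_cf (K19.f235277 IH) (Lpr_gf (K20.f316708 IH) (Lpe (K20.f189440 IH) (Lpe (K20.f312118 IH) (Lpr_ct (K16.f192824 IH) (Lpr_gt (K12.f199480 IH) (Lpr_ct (K12.f199482 IH) (Lpe (K20.f199485 IH) (Lpr_cf (f278006 IH) (Lpn (LP (LK LD1_c5 LD2_c35 LD3_c39))))))))))))
theorem f168958 : Led Lsl_gt (LP (LK LD1_c9 LD2_c43 LD3_c50)) = (LP (LK LD1_c4 LD2_c56 LD3_c4)) :=
  Lre_g IH (LK LD1_c9 LD2_c43 LD3_c50) (LK LD1_c4 LD2_c56 LD3_c4) Lrfl Lrfl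
theorem f337402 : Led Lsl_dt (LP (LK LD1_c16 LD2_c9 LD3_c52)) = (LP (LK LD1_c26 LD2_c6 LD3_c35)) :=
  Lre_d IH (LK LD1_c16 LD2_c9 LD3_c52) (LK LD1_c26 LD2_c6 LD3_c35) Lrfl Lrfl
theorem f348669 : Led Lsl_ef (LP (LK LD1_c9 LD2_c43 LD3_c50)) = (LP (LK LD1_c16 LD2_c9 LD3_c52)) :=
  Lgr Lrot114 (Lpr_gt (f168958 IH) (Lpe (K19.f279619 IH) (Lpr_dt (K19.f169141 IH) (Lpr_gt (f316760 IH) (Lpe (K20.f189440 IH) (Lpr_et (f316771 IH) (Lpr_gt (f325877 IH) (Lpr_dt (f247110 IH) (Lpr_gt (f348647 IH) (Lpe (f337402 IH) (Lpn (LP (LK LD1_c16 LD2_c9 LD3_c52)))))))))))))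
theorem f348678 : Led Lsl_et (LP (LK LD1_c9 LD2_c43 LD3_c50)) = (LP (LK LD1_c16 LD2_c9 LD3_c52)) :=
  Lgr Lrot87 (Lpr_ef (f348669 IH) (Lpn (LP (LK LD1_c16 LD2_c9 LD3_c52))))
theorem f348677 : Led Lsl_dt (LP (LK LD1_c9 LD2_c43 LD3_c50)) = (LP (LK LD1_c17 LD2_c53 LD3_c9)) :=
  Lre_d IH (LK LD1_c9 LD2_c43 LD3_c50) (LK LD1_c17 LD2_c53 LD3_c9) Lrfl Lrfl
theorem f324631 : Led Lsl_dt (LP (LK LD1_c8 LD2_c40 LD3_c19)) = (LP (LK LD1_c16 LD2_c11 LD3_c47)) :=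
  Lgr Lrot42 (Lpr_df (K21.f324629 IH) (Lpn (LP (LK LD1_c16 LD2_c11 LD3_c47))))
theorem f337398 : Led Lsl_gt (LP (LK LD1_c19 LD2_c55 LD3_c46)) = (LP (LK LD1_c16 LD2_c9 LD3_c54)) :=
  Lgr Lrot5 (Lpr_ft (K22.f324610 IH) (Lpr_at (K22.f337385 IH) (Lpe (K14.f235943 IH) (Lpn (LP (LK LD1_c16 LD2_c9 LD3_c54))))))
theorem f315789 : Led Lsl_at (LP (LK LD1_c15 LD2_c30 LD3_c0)) = (LP (LK LD1_c16 LD2_c9 LD3_c54)) :=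
  Lgr Lrot100 (Lpr_af (K20.f315787 IH) (Lpn (LP (LK LD1_c16 LD2_c9 LD3_c54))))
theorem f195554 : Led Lsl_ft (LP (LK LD1_c25 LD2_c23 LD3_c18)) = (LP (LK LD1_c15 LD2_c30 LD3_c0)) :=
  Lre_f IH (LK LD1_c25 LD2_c23 LD3_c18) (LK LD1_c15 LD2_c30 LD3_c0) Lrfl Lrfl
theorem f337400 : Led Lsl_gf (LP (LK LD1_c19 LD2_c55 LD3_c46)) = (LP (LK LD1_c25 LD2_c23 LD3_c18)) :=
  Lgr Lrot47 (Lpr_gt (f337398 IH) (Lpe (f315789 IH) (Lpe (f195554 IH) (Lpn (LP (LK LD1_c25 LD2_c23 LD3_c18))))))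
theorem f315799 : Led Lsl_dt (LP (LK LD1_c15 LD2_c30 LD3_c1)) = (LP (LK LD1_c25 LD2_c23 LD3_c18)) :=
  Lre_d IH (LK LD1_c15 LD2_c30 LD3_c1) (LK LD1_c25 LD2_c23 LD3_c18) Lrfl Lrfl
theorem f348645 : Led Lsl_gf (LP (LK LD1_c15 LD2_c30 LD3_c1)) = (LP (LK LD1_c16 LD2_c9 LD3_c52)) :=
  Lgr Lrot148 (Lpr_dt (f315799 IH) (Lpe (f337400 IH) (Lpr_dt (K22.f324587 IH) (Lpe (K21.f324569 IH) (Lpe (f324631 IH) (Lpr_gf (K21.f324637 IH) (Lpe (K19.f305472 IH) (Lpe (K19.f312165 IH) (Lpr_ct (f348638 IH) (Lpn (LP (LK LD1_c16 LD2_c9 LD3_c52))))))))))))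
theorem f316832 : Led Lsl_et (LP (LK LD1_c9 LD2_c0 LD3_c43)) = (LP (LK LD1_c4 LD2_c31 LD3_c23)) :=
  Lre_e IH (LK LD1_c9 LD2_c0 LD3_c43) (LK LD1_c4 LD2_c31 LD3_c23) Lrfl Lrfl
theorem f324549 : Led Lsl_ef (LP (LK LD1_c11 LD2_c57 LD3_c19)) = (LP (LK LD1_c11 LD2_c3 LD3_c33)) :=
  Lgr Lrot21 (Lpe (K20.f322809 IH) (Lpr_et (f316832 IH) (Lpr_ft (K21.f324491 IH) (Lpr_et (f316771 IH) (Lpr_ft (K21.f324548 IH) (Lpn (LP (LK LD1_c11 LD2_c3 LD3_c33))))))))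
theorem f348688 : Led Lsl_gf (LP (LK LD1_c17 LD2_c53 LD3_c9)) = (LP (LK LD1_c26 LD2_c6 LD3_c31)) :=
  Lgr Lrot145 (Lpe (f348677 IH) (Lpr_et (f348678 IH) (Lpe (f348645 IH) (Lpr_dt (f315799 IH) (Lpe (f337400 IH) (Lpe (f324572 IH) (Lpe (f324549 IH) (Lpe (K20.f322807 IH) (Lpr_ef (K19.f314441 IH) (Lpr_dt (K19.f189917 IH) (Lpn (LP (LK LD1_c26 LD2_c6 LD3_c31)))))))))))))
theorem f192189 : Led Lsl_et (LP (LK LD1_c8 LD2_c14 LD3_c8)) = (LP (LK LD1_c4 LD2_c6 LD3_c44)) :=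
  Lre_e IH (LK LD1_c8 LD2_c14 LD3_c8) (LK LD1_c4 LD2_c6 LD3_c44) Lrfl Lrfl
theorem f192190 : Led Lsl_dt (LP (LK LD1_c8 LD2_c14 LD3_c8)) = (LP (LK LD1_c15 LD2_c29 LD3_c43)) :=
  Lre_d IH (LK LD1_c8 LD2_c14 LD3_c8) (LK LD1_c15 LD2_c29 LD3_c43) Lrfl Lrfl
theorem f348686 : Led Lsl_gt (LP (LK LD1_c17 LD2_c53 LD3_c9)) = (LP (LK LD1_c15 LD2_c29 LD3_c43)) :=
  Lgr Lrot112 (Lpe (f348677 IH) (Lpr_et (f348678 IH) (Lpe (f190015 IH) (Lpe (K20.f235966 IH) (Lpe (K13.f240731 IH) (Lpr_gf (K20.f201381 IH) (Lpr_df (K13.f231486 IH) (Lpe (K13.f231482 IH) (Lpe (f192189 IH) (Lpr_dt (f192190 IH) (Lpn (LP (LK LD1_c15 LD2_c29 LD3_c43)))))))))))))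
theorem f189915 : Led Lsl_ft (LP (LK LD1_c26 LD2_c6 LD3_c31)) = (LP (LK LD1_c16 LD2_c9 LD3_c47)) :=
  Lre_f IH (LK LD1_c26 LD2_c6 LD3_c31) (LK LD1_c16 LD2_c9 LD3_c47) Lrfl Lrfl
theorem f348690 : Led Lsl_af (LP (LK LD1_c15 LD2_c29 LD3_c43)) = (LP (LK LD1_c16 LD2_c9 LD3_c47)) :=
  Lgr Lrot31 (Lpe (f348686 IH) (Lpr_gf (f348688 IH) (Lpr_ft (f189915 IH) (Lpn (LP (LK LD1_c16 LD2_c9 LD3_c47))))))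
theorem f348697 : Led Lsl_ft (LP (LK LD1_c15 LD2_c29 LD3_c43)) = (LP (LK LD1_c25 LD2_c22 LD3_c49)) :=
  Lre_f IH (LK LD1_c15 LD2_c29 LD3_c43) (LK LD1_c25 LD2_c22 LD3_c49) Lrfl Lrfl
theorem f348698 : Led Lsl_at (LP (LK LD1_c25 LD2_c22 LD3_c49)) = (LP (LK LD1_c26 LD2_c6 LD3_c31)) :=
  Lgr Lrot66 (Lpe (f348697 IH) (Lpr_af (f348690 IH) (Lpe (f189915 IH) (Lpn (LP (LK LD1_c26 LD2_c6 LD3_c31))))))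
theorem f348702 : Led Lsl_dt (LP (LK LD1_c15 LD2_c29 LD3_c44)) = (LP (LK LD1_c25 LD2_c22 LD3_c49)) :=
  Lre_d IH (LK LD1_c15 LD2_c29 LD3_c44) (LK LD1_c25 LD2_c22 LD3_c49) Lrfl Lrfl
theorem f348703 : Led Lsl_af (LP (LK LD1_c15 LD2_c29 LD3_c44)) = (LP (LK LD1_c16 LD2_c9 LD3_c48)) :=
  Lgr Lrot117 (Lpr_dt (f348702 IH) (Lpr_at (f348698 IH) (Lpr_dt (K19.f189911 IH) (Lpn (LP (LK LD1_c16 LD2_c9 LD3_c48))))))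
theorem f348824 : Led Lsl_et (LP (LK LD1_c15 LD2_c29 LD3_c44)) = (LP (LK LD1_c11 LD2_c57 LD3_c21)) :=
  Lgr Lrot123 (Lpr_af (f348703 IH) (Lpe (K19.f314437 IH) (Lpr_af (K20.f322799 IH) (Lpn (LP (LK LD1_c11 LD2_c57 LD3_c21))))))
theorem f348831 : Led Lsl_ef (LP (LK LD1_c15 LD2_c29 LD3_c44)) = (LP (LK LD1_c11 LD2_c57 LD3_c21)) :=
  Lgr Lrot88 (Lpr_et (f348824 IH) (Lpn (LP (LK LD1_c11 LD2_c57 LD3_c21))))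
theorem f348821 : Led Lsl_ct (LP (LK LD1_c15 LD2_c29 LD3_c44)) = (LP (LK LD1_c8 LD2_c14 LD3_c10)) :=
  Lre_c IH (LK LD1_c15 LD2_c29 LD3_c44) (LK LD1_c8 LD2_c14 LD3_c10) Lrfl Lrfl
theorem f348834 : Led Lsl_et (LP (LK LD1_c8 LD2_c14 LD3_c10)) = (LP (LK LD1_c6 LD2_c7 LD3_c16)) :=
  Lgr Lrot158 (Lpe (f348821 IH) (Lpr_ef (f348831 IH) (Lpe (K22.f314271 IH) (Lpn (LP (LK LD1_c6 LD2_c7 LD3_c16))))))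
theorem f177603 : Led Lsl_ft (LP (LK LD1_c2 LD2_c59 LD3_c47)) = (LP (LK LD1_c6 LD2_c7 LD3_c16)) :=
  Lre_f IH (LK LD1_c2 LD2_c59 LD3_c47) (LK LD1_c6 LD2_c7 LD3_c16) Lrfl Lrfl
theorem f314175 : Led Lsl_df (LP (LK LD1_c9 LD2_c53 LD3_c12)) = (LP (LK LD1_c6 LD2_c7 LD3_c16)) :=
  Lgr Lrot78 (Lpr_ft (K19.f314169 IH) (Lpr_dt (K10.f177587 IH) (Lpr_ft (f177603 IH) (Lpn (LP (LK LD1_c6 LD2_c7 LD3_c16))))))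
theorem f348944 : Led Lsl_df (LP (LK LD1_c8 LD2_c14 LD3_c10)) = (LP (LK LD1_c4 LD2_c14 LD3_c45)) :=
  Lgr Lrot70 (Lpr_et (f348834 IH) (Lpe (f314175 IH) (Lpr_et (K19.f311553 IH) (Lpr_dt (K19.f314152 IH) (Lpe (K21.f314511 IH) (Lpn (LP (LK LD1_c4 LD2_c14 LD3_c45))))))))
theorem f348952 : Led Lsl_gf (LP (LK LD1_c8 LD2_c14 LD3_c10)) = (LP (LK LD1_c8 LD2_c37 LD3_c45)) :=
  Lgr Lrot134 (Lpr_df (f348944 IH) (Lpr_et (f342167 IH) (Lpe (K19.f314148 IH) (Lpe (K14.f226890 IH) (Lpe (K14.f253119 IH) (Lpr_gt (K21.f330353 IH) (Lpr_df (K21.f314538 IH) (Lpe (K19.f314540 IH) (Lpr_gt (f332822 IH) (Lpe (K20.f235118 IH) (Lpn (LP (LK LD1_c8 LD2_c37 LD3_c45)))))))))))))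
theorem f348827 : Led Lsl_ct (LP (LK LD1_c8 LD2_c14 LD3_c10)) = (LP (LK LD1_c15 LD2_c29 LD3_c44)) :=
  Lre_c IH (LK LD1_c8 LD2_c14 LD3_c10) (LK LD1_c15 LD2_c29 LD3_c44) Lrfl Lrfl
theorem f348828 : Led Lsl_ef (LP (LK LD1_c8 LD2_c14 LD3_c10)) = (LP (LK LD1_c6 LD2_c7 LD3_c16)) :=
  Lgr Lrot28 (Lpr_ct (f348827 IH) (Lpr_et (f348824 IH) (Lpr_ct (f314257 IH) (Lpn (LP (LK LD1_c6 LD2_c7 LD3_c16))))))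
theorem f332784 : Led Lsl_et (LP (LK LD1_c15 LD2_c22 LD3_c43)) = (LP (LK LD1_c8 LD2_c9 LD3_c56)) :=
  Lre_e IH (LK LD1_c15 LD2_c22 LD3_c43) (LK LD1_c8 LD2_c9 LD3_c56) Lrfl Lrfl
theorem f313100 : Led Lsl_et (LP (LK LD1_c5 LD2_c35 LD3_c21)) = (LP (LK LD1_c8 LD2_c37 LD3_c45)) :=
  Lgr Lrot87 (Lpr_ef (K21.f313092 IH) (Lpn (LP (LK LD1_c8 LD2_c37 LD3_c45))))
theorem f315690 : Led Lsl_at (LP (LK LD1_c2 LD2_c4 LD3_c37)) = (LP (LK LD1_c1 LD2_c59 LD3_c9)) :=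
  Lgr Lrot51 (Lpe (K22.f27906 IH) (Lpr_af (K20.f315682 IH) (Lpe (K22.f298658 IH) (Lpn (LP (LK LD1_c1 LD2_c59 LD3_c9))))))
theorem f315692 : Led Lsl_gt (LP (LK LD1_c4 LD2_c14 LD3_c32)) = (LP (LK LD1_c4 LD2_c4 LD3_c28)) :=
  Lgr Lrot5 (Lpr_ft (K19.f314800 IH) (Lpr_at (f315690 IH) (Lpe (K21.f200709 IH) (Lpn (LP (LK LD1_c4 LD2_c4 LD3_c28))))))
theorem f231566 : Led Lsl_dt (LP (LK LD1_c8 LD2_c27 LD3_c48)) = (LP (LK LD1_c4 LD2_c14 LD3_c32)) :=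
  Lre_d IH (LK LD1_c8 LD2_c27 LD3_c48) (LK LD1_c4 LD2_c14 LD3_c32) Lrfl Lrfl
theorem f348960 : Led Lsl_gt (LP (LK LD1_c8 LD2_c9 LD3_c56)) = (LP (LK LD1_c8 LD2_c27 LD3_c48)) :=
  Lgr Lrot137 (Lpe (f332784 IH) (Lpe (K22.f337991 IH) (Lpe (K22.f314179 IH) (Lpr_df (f314175 IH) (Lpe (f348828 IH) (Lpr_gf (f348952 IH) (Lpe (f313100 IH) (Lpr_dt (K21.f313088 IH) (Lpe (f315692 IH) (Lpe (f231566 IH) (Lpn (LP (LK LD1_c8 LD2_c27 LD3_c48)))))))))))))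
theorem f348962 : Led Lsl_gf (LP (LK LD1_c4 LD2_c51 LD3_c30)) = (LP (LK LD1_c8 LD2_c37 LD3_c38)) :=
  Lgr Lrot145 (Lpe (K15.f238157 IH) (Lpr_et (K20.f317064 IH) (Lpr_gt (K22.f335117 IH) (Lpe (f314175 IH) (Lpr_gt (K22.f314179 IH) (Lpr_df (K22.f337991 IH) (Lpr_et (f332784 IH) (Lpr_gt (f348960 IH) (Lpr_ef (K20.f315666 IH) (Lpr_dt (K22.f305093 IH) (Lpn (LP (LK LD1_c8 LD2_c37 LD3_c38)))))))))))))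
theorem f238167 : Led Lsl_ct (LP (LK LD1_c4 LD2_c51 LD3_c30)) = (LP (LK LD1_c9 LD2_c35 LD3_c2)) :=
  Lre_c IH (LK LD1_c4 LD2_c51 LD3_c30) (LK LD1_c9 LD2_c35 LD3_c2) Lrfl Lrfl
theorem f314603 : Led Lsl_ct (LP (LK LD1_c25 LD2_c23 LD3_c22)) = (LP (LK LD1_c15 LD2_c30 LD3_c4)) :=
  Lre_c IH (LK LD1_c25 LD2_c23 LD3_c22) (LK LD1_c15 LD2_c30 LD3_c4) Lrfl Lrfl
theorem f195476 : Led Lsl_ct (LP (LK LD1_c15 LD2_c30 LD3_c4)) = (LP (LK LD1_c25 LD2_c23 LD3_c22)) :=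
  Lre_c IH (LK LD1_c15 LD2_c30 LD3_c4) (LK LD1_c25 LD2_c23 LD3_c22) Lrfl Lrfl
theorem f314596 : Led Lsl_et (LP (LK LD1_c25 LD2_c23 LD3_c22)) = (LP (LK LD1_c25 LD2_c18 LD3_c1)) :=
  Lgr Lrot158 (Lpe (f195476 IH) (Lpr_ef (K22.f314591 IH) (Lpe (K19.f237973 IH) (Lpn (LP (LK LD1_c25 LD2_c18 LD3_c1))))))
theorem f238730 : Led Lsl_et (LP (LK LD1_c8 LD2_c40 LD3_c34)) = (LP (LK LD1_c4 LD2_c21 LD3_c29)) :=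
  Lre_e IH (LK LD1_c8 LD2_c40 LD3_c34) (LK LD1_c4 LD2_c21 LD3_c29) Lrfl Lrfl
theorem f269551 : Led Lsl_gt (LP (LK LD1_c16 LD2_c14 LD3_c54)) = (LP (LK LD1_c26 LD2_c12 LD3_c17)) :=
  Lre_g IH (LK LD1_c16 LD2_c14 LD3_c54) (LK LD1_c26 LD2_c12 LD3_c17) Lrfl Lrfl
theorem f314635 : Led Lsl_dt (LP (LK LD1_c25 LD2_c23 LD3_c22)) = (LP (LK LD1_c26 LD2_c12 LD3_c17)) :=
  Lgr Lrot37 (Lpr_et (f314596 IH) (Lpr_gt (K19.f312192 IH) (Lpe (K19.f298980 IH) (Lpr_gt (K18.f200459 IH) (Lpe (K18.f200443 IH) (Lpr_et (K18.f238748 IH) (Lpr_gt (K14.f238754 IH) (Lpe (f238730 IH) (Lpr_dt (K16.f238731 IH) (Lpr_gt (f269551 IH) (Lpn (LP (LK LD1_c26 LD2_c12 LD3_c17)))))))))))))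
theorem f314638 : Led Lsl_df (LP (LK LD1_c25 LD2_c23 LD3_c22)) = (LP (LK LD1_c26 LD2_c12 LD3_c17)) :=
  Lgr Lrot38 (Lpr_dt (f314635 IH) (Lpn (LP (LK LD1_c26 LD2_c12 LD3_c17))))
theorem f317263 : Led Lsl_gt (LP (LK LD1_c9 LD2_c35 LD3_c2)) = (LP (LK LD1_c8 LD2_c40 LD3_c34)) :=
  Lgr Lrot94 (Lpe (f238167 IH) (Lpr_gt (K20.f317261 IH) (Lpe (K19.f314649 IH) (Lpr_gt (K19.f195474 IH) (Lpr_dt (K19.f195475 IH) (Lpe (f314603 IH) (Lpr_df (f314638 IH) (Lpe (f269551 IH) (Lpe (K16.f238731 IH) (Lpn (LP (LK LD1_c8 LD2_c40 LD3_c34))))))))))))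
theorem f237235 : Led Lsl_gt (LP (LK LD1_c4 LD2_c21 LD3_c43)) = (LP (LK LD1_c8 LD2_c41 LD3_c1)) :=
  Lre_g IH (LK LD1_c4 LD2_c21 LD3_c43) (LK LD1_c8 LD2_c41 LD3_c1) Lrfl Lrfl
theorem f315443 : Led Lsl_bf (LP (LK LD1_c8 LD2_c37 LD3_c38)) = (LP (LK LD1_c4 LD2_c56 LD3_c49)) :=
  Lgr Lrot61 (Lpe (K20.f305048 IH) (Lpe (K19.f238134 IH) (Lpr_ft (K20.f315441 IH) (Lpn (LP (LK LD1_c4 LD2_c56 LD3_c49))))))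
theorem f348964 : Led Lsl_cf (LP (LK LD1_c8 LD2_c41 LD3_c1)) = (LP (LK LD1_c4 LD2_c56 LD3_c49)) :=
  Lgr Lrot58 (Lpe (f237235 IH) (Lpe (K17.f28843 IH) (Lpr_bt (K17.f28842 IH) (Lpe (K15.f267154 IH) (Lpr_bf (K15.f267143 IH) (Lpr_ct (K19.f255563 IH) (Lpe (f317263 IH) (Lpe (f238167 IH) (Lpr_gf (f348962 IH) (Lpr_bf (f315443 IH) (Lpn (LP (LK LD1_c4 LD2_c56 LD3_c49)))))))))))))
theorem f349674 : Led Lsl_gt (LP (LK LD1_c8 LD2_c41 LD3_c1)) = (LP (LK LD1_c14 LD2_c57 LD3_c22)) :=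
  Lgr Lrot150 (Lpr_cf (f348964 IH) (Lpe (K20.f168390 IH) (Lpe (K17.f223696 IH) (Lpr_gt (K14.f238337 IH) (Lpe (K21.f298002 IH) (Lpr_gt (K18.f262199 IH) (Lpr_ct (K12.f228135 IH) (Lpr_df (K13.f228058 IH) (Lpe (K15.f197654 IH) (Lpn (LP (LK LD1_c14 LD2_c57 LD3_c22))))))))))))
theorem f237236 : Led Lsl_dt (LP (LK LD1_c8 LD2_c41 LD3_c1)) = (LP (LK LD1_c16 LD2_c15 LD3_c54)) :=
  Lre_d IH (LK LD1_c8 LD2_c41 LD3_c1) (LK LD1_c16 LD2_c15 LD3_c54) Lrfl Lrfl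
theorem f238015 : Led Lsl_ct (LP (LK LD1_c26 LD2_c4 LD3_c37)) = (LP (LK LD1_c32 LD2_c3 LD3_c57)) :=
  Lre_c IH (LK LD1_c26 LD2_c4 LD3_c37) (LK LD1_c32 LD2_c3 LD3_c57) Lrfl Lrfl
theorem f349679 : Led Lsl_gt (LP (LK LD1_c16 LD2_c15 LD3_c54)) = (LP (LK LD1_c26 LD2_c4 LD3_c37)) :=
  Lgr Lrot9 (Lpe (f237236 IH) (Lpr_gt (f349674 IH) (Lpr_ct (K15.f197654 IH) (Lpr_gt (K18.f299199 IH) (Lpr_ct (K18.f28905 IH) (Lpe (K20.f237231 IH) (Lpe (K20.f298402 IH) (Lpr_gf (K20.f308994 IH) (Lpe (f238015 IH) (Lpn (LP (LK LD1_c26 LD2_c4 LD3_c37))))))))))))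
theorem f2421 : Led Lsl_gt (LP (LK LD1_c9 LD2_c38 LD3_c34)) = (LP (LK LD1_c4 LD2_c53 LD3_c16)) :=
  Lre_g IH (LK LD1_c9 LD2_c38 LD3_c34) (LK LD1_c4 LD2_c53 LD3_c16) Lrfl Lrfl
theorem f29787 : Led Lsl_et (LP (LK LD1_c17 LD2_c44 LD3_c50)) = (LP (LK LD1_c9 LD2_c38 LD3_c34)) :=
  Lre_e IH (LK LD1_c17 LD2_c44 LD3_c50) (LK LD1_c9 LD2_c38 LD3_c34) Lrfl Lrfl
theorem f349686 : Led Lsl_dt (LP (LK LD1_c17 LD2_c44 LD3_c50)) = (LP (LK LD1_c26 LD2_c4 LD3_c37)) :=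
  Lgr Lrot56 (Lpr_et (f29787 IH) (Lpr_gt (f2421 IH) (Lpe (K1.f2475 IH) (Lpe (K13.f29261 IH) (Lpe (K12.f216588 IH) (Lpe (K12.f28946 IH) (Lpr_et (K15.f216607 IH) (Lpr_gt (f237235 IH) (Lpr_dt (f237236 IH) (Lpr_gt (f349679 IH) (Lpn (LP (LK LD1_c26 LD2_c4 LD3_c37)))))))))))))
theorem f199229 : Led Lsl_et (LP (LK LD1_c2 LD2_c23 LD3_c26)) = (LP (LK LD1_c1 LD2_c8 LD3_c49)) :=
  Lre_e IH (LK LD1_c2 LD2_c23 LD3_c26) (LK LD1_c1 LD2_c8 LD3_c49) Lrfl Lrfl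
theorem f313445 : Led Lsl_gt (LP (LK LD1_c11 LD2_c8 LD3_c57)) = (LP (LK LD1_c9 LD2_c38 LD3_c41)) :=
  Lgr Lrot137 (Lpr_ef (K21.f313443 IH) (Lpe (K21.f280230 IH) (Lpe (K21.f191966 IH) (Lpe (K10.f191683 IH) (Lpr_et (f199229 IH) (Lpe (K18.f299283 IH) (Lpe (K20.f237903 IH) (Lpr_dt (K17.f237922 IH) (Lpe (K19.f237929 IH) (Lpr_df (K20.f299312 IH) (Lpn (LP (LK LD1_c9 LD2_c38 LD3_c41)))))))))))))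
theorem f349691 : Led Lsl_gf (LP (LK LD1_c17 LD2_c44 LD3_c50)) = (LP (LK LD1_c16 LD2_c16 LD3_c59)) :=
  Lgr Lrot144 (Lpr_dt (f349686 IH) (Lpr_gt (K20.f237928 IH) (Lpr_dt (K20.f237927 IH) (Lpe (K17.f237910 IH) (Lpr_df (K17.f237914 IH) (Lpe (K19.f237929 IH) (Lpr_df (K20.f299312 IH) (Lpe (f313445 IH) (Lpe (K21.f325278 IH) (Lpn (LP (LK LD1_c16 LD2_c16 LD3_c59))))))))))))
theorem f349697 : Led Lsl_ct (LP (LK LD1_c17 LD2_c44 LD3_c50)) = (LP (LK LD1_c14 LD2_c58 LD3_c8)) :=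
  Lgr Lrot152 (Lpr_gf (f349691 IH) (Lpe (K21.f269658 IH) (Lpr_gt (K21.f197648 IH) (Lpr_ct (K21.f224942 IH) (Lpr_gt (K18.f299024 IH) (Lpr_ct (K18.f296559 IH) (Lpr_df (K19.f310483 IH) (Lpe (K19.f310486 IH) (Lpe (K22.f338588 IH) (Lpn (LP (LK LD1_c14 LD2_c58 LD3_c8))))))))))))
theorem f349690 : Led Lsl_et (LP (LK LD1_c9 LD2_c38 LD3_c34)) = (LP (LK LD1_c17 LD2_c44 LD3_c50)) :=
  Lre_e IH (LK LD1_c9 LD2_c38 LD3_c34) (LK LD1_c17 LD2_c44 LD3_c50) Lrfl Lrfl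
theorem f349701 : Led Lsl_cf (LP (LK LD1_c9 LD2_c38 LD3_c34)) = (LP (LK LD1_c7 LD2_c56 LD3_c2)) :=
  Lgr Lrot39 (Lpr_et (f349690 IH) (Lpr_ct (f349697 IH) (Lpr_et (K18.f39134 IH) (Lpn (LP (LK LD1_c7 LD2_c56 LD3_c2))))))
theorem f29779 : Led Lsl_at (LP (LK LD1_c8 LD2_c1 LD3_c40)) = (LP (LK LD1_c4 LD2_c53 LD3_c16)) :=
  Lgr Lrot66 (Lpr_ff (K1.f29777 IH) (Lpe (K19.f1583 IH) (Lpr_ff (K1.f2469 IH) (Lpn (LP (LK LD1_c4 LD2_c53 LD3_c16))))))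
theorem f29785 : Led Lsl_gf (LP (LK LD1_c9 LD2_c38 LD3_c34)) = (LP (LK LD1_c9 LD2_c34 LD3_c4)) :=
  Lgr Lrot47 (Lpr_gt (f2421 IH) (Lpe (f29779 IH) (Lpr_ff (K1.f29777 IH) (Lpn (LP (LK LD1_c9 LD2_c34 LD3_c4))))))
theorem f2463 : Led Lsl_gf (LP (LK LD1_c4 LD2_c50 LD3_c61)) = (LP (LK LD1_c4 LD2_c53 LD3_c17)) :=
  Lgr Lrot76 (Lpe (K0.f1541 IH) (Lpr_ff (K1.f2447 IH) (Lpr_gt (K19.f2415 IH) (Lpn (LP (LK LD1_c4 LD2_c53 LD3_c17))))))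
theorem f2465 : Led Lsl_bt (LP (LK LD1_c9 LD2_c38 LD3_c36)) = (LP (LK LD1_c4 LD2_c53 LD3_c17)) :=
  Lre_b IH (LK LD1_c9 LD2_c38 LD3_c36) (LK LD1_c4 LD2_c53 LD3_c17) Lrfl Lrfl
theorem f219847 : Led Lsl_dt (LP (LK LD1_c8 LD2_c22 LD3_c0)) = (LP (LK LD1_c15 LD2_c44 LD3_c42)) :=
  Lre_d IH (LK LD1_c8 LD2_c22 LD3_c0) (LK LD1_c15 LD2_c44 LD3_c42) Lrfl Lrfl
theorem f219869 : Led Lsl_gt (LP (LK LD1_c15 LD2_c44 LD3_c42)) = (LP (LK LD1_c25 LD2_c41 LD3_c11)) :=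
  Lre_g IH (LK LD1_c15 LD2_c44 LD3_c42) (LK LD1_c25 LD2_c41 LD3_c11) Lrfl Lrfl
theorem f258328 : Led Lsl_ct (LP (LK LD1_c16 LD2_c2 LD3_c54)) = (LP (LK LD1_c8 LD2_c32 LD3_c54)) :=
  Lre_c IH (LK LD1_c16 LD2_c2 LD3_c54) (LK LD1_c8 LD2_c32 LD3_c54) Lrfl Lrfl
theorem f184473 : Led Lsl_ct (LP (LK LD1_c15 LD2_c41 LD3_c33)) = (LP (LK LD1_c25 LD2_c37 LD3_c7)) :=
  Lre_c IH (LK LD1_c15 LD2_c41 LD3_c33) (LK LD1_c25 LD2_c37 LD3_c7) Lrfl Lrfl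
theorem f258329 : Led Lsl_ef (LP (LK LD1_c16 LD2_c2 LD3_c54)) = (LP (LK LD1_c25 LD2_c37 LD3_c7)) :=
  Lgr Lrot28 (Lpr_ct (f258328 IH) (Lpr_et (K16.f258326 IH) (Lpr_ct (f184473 IH) (Lpn (LP (LK LD1_c25 LD2_c37 LD3_c7))))))
theorem f344312 : Led Lsl_df (LP (LK LD1_c25 LD2_c41 LD3_c11)) = (LP (LK LD1_c25 LD2_c37 LD3_c7)) :=
  Lgr Lrot168 (Lpe (f219869 IH) (Lpe (f219847 IH) (Lpr_et (K18.f219822 IH) (Lpe (K12.f170587 IH) (Lpe (K21.f287770 IH) (Lpr_dt (K21.f215504 IH) (Lpe (f300910 IH) (Lpe (f344308 IH) (Lpr_gf (f344305 IH) (Lpr_ef (f258329 IH) (Lpn (LP (LK LD1_c25 LD2_c37 LD3_c7)))))))))))))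
theorem f344314 : Led Lsl_dt (LP (LK LD1_c25 LD2_c41 LD3_c11)) = (LP (LK LD1_c25 LD2_c37 LD3_c7)) :=
  Lgr Lrot42 (Lpr_df (f344312 IH) (Lpn (LP (LK LD1_c25 LD2_c37 LD3_c7))))
theorem f53396 : Led Lsl_ct (LP (LK LD1_c8 LD2_c35 LD3_c49)) = (LP (LK LD1_c4 LD2_c18 LD3_c31)) :=
  Lre_c IH (LK LD1_c8 LD2_c35 LD3_c49) (LK LD1_c4 LD2_c18 LD3_c31) Lrfl Lrfl
theorem f344317 : Led Lsl_gf (LP (LK LD1_c8 LD2_c22 LD3_c0)) = (LP (LK LD1_c8 LD2_c35 LD3_c49)) :=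
  Lgr Lrot144 (Lpr_dt (f219847 IH) (Lpr_gt (f219869 IH) (Lpr_dt (f344314 IH) (Lpe (f184473 IH) (Lpe (K21.f184462 IH) (Lpe (K16.f184461 IH) (Lpe (K13.f219210 IH) (Lpr_gf (K20.f322570 IH) (Lpe (f53396 IH) (Lpn (LP (LK LD1_c8 LD2_c35 LD3_c49))))))))))))
theorem f343746 : Led Lsl_bt (LP (LK LD1_c18 LD2_c52 LD3_c37)) = (LP (LK LD1_c15 LD2_c49 LD3_c1)) :=
  Lgr Lrot119 (Lpe (f301110 IH) (Lpr_bf (f343738 IH) (Lpe (K19.f238118 IH) (Lpn (LP (LK LD1_c15 LD2_c49 LD3_c1))))))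
theorem f343750 : Led Lsl_bf (LP (LK LD1_c15 LD2_c36 LD3_c50)) = (LP (LK LD1_c8 LD2_c24 LD3_c49)) :=
  Lgr Lrot93 (Lpr_dt (f301108 IH) (Lpr_bt (f343746 IH) (Lpr_dt (K19.f212618 IH) (Lpn (LP (LK LD1_c8 LD2_c24 LD3_c49))))))
theorem f298948 : Led Lsl_et (LP (LK LD1_c9 LD2_c38 LD3_c37)) = (LP (LK LD1_c8 LD2_c24 LD3_c49)) :=
  Lgr Lrot87 (Lpr_ef (K19.f298942 IH) (Lpn (LP (LK LD1_c8 LD2_c24 LD3_c49))))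
theorem f298950 : Led Lsl_bt (LP (LK LD1_c17 LD2_c44 LD3_c54)) = (LP (LK LD1_c9 LD2_c38 LD3_c37)) :=
  Lre_b IH (LK LD1_c17 LD2_c44 LD3_c54) (LK LD1_c9 LD2_c38 LD3_c37) Lrfl Lrfl
theorem f343754 : Led Lsl_et (LP (LK LD1_c15 LD2_c36 LD3_c50)) = (LP (LK LD1_c17 LD2_c44 LD3_c54)) :=
  Lgr Lrot74 (Lpr_bf (f343750 IH) (Lpe (f298948 IH) (Lpe (f298950 IH) (Lpn (LP (LK LD1_c17 LD2_c44 LD3_c54))))))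
theorem f343760 : Led Lsl_ef (LP (LK LD1_c15 LD2_c36 LD3_c50)) = (LP (LK LD1_c17 LD2_c44 LD3_c54)) :=
  Lgr Lrot88 (Lpr_et (f343754 IH) (Lpn (LP (LK LD1_c17 LD2_c44 LD3_c54))))
theorem f33443 : Led Lsl_gt (LP (LK LD1_c5 LD2_c14 LD3_c58)) = (LP (LK LD1_c2 LD2_c34 LD3_c19)) :=
  Lre_g IH (LK LD1_c5 LD2_c14 LD3_c58) (LK LD1_c2 LD2_c34 LD3_c19) Lrfl Lrfl
theorem f259715 : Led Lsl_df (LP (LK LD1_c4 LD2_c7 LD3_c31)) = (LP (LK LD1_c5 LD2_c14 LD3_c58)) :=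
  Lgr Lrot155 (Lpr_gt (K16.f259711 IH) (Lpr_ct (K15.f190836 IH) (Lpe (K15.f259248 IH) (Lpr_ct (K15.f253185 IH) (Lpr_dt (K12.f220530 IH) (Lpe (K13.f220550 IH) (Lpe (K13.f220557 IH) (Lpe (K14.f243556 IH) (Lpe (f33443 IH) (Lpn (LP (LK LD1_c5 LD2_c14 LD3_c58))))))))))))
theorem f282824 : Led Lsl_gt (LP (LK LD1_c4 LD2_c16 LD3_c15)) = (LP (LK LD1_c8 LD2_c31 LD3_c18)) :=
  Lgr Lrot150 (Lpe (K16.f271625 IH) (Lpe (K17.f174993 IH) (Lpr_df (K17.f282800 IH) (Lpr_gt (K14.f213783 IH) (Lpr_ct (K14.f187232 IH) (Lpr_gt (K16.f167759 IH) (Lpr_ct (K16.f177927 IH) (Lpe (K17.f221079 IH) (Lpe (K17.f282721 IH) (Lpn (LP (LK LD1_c8 LD2_c31 LD3_c18))))))))))))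
theorem f312073 : Led Lsl_gt (LP (LK LD1_c2 LD2_c40 LD3_c4)) = (LP (LK LD1_c5 LD2_c14 LD3_c58)) :=
  Lgr Lrot180 (Lpe (K19.f312054 IH) (Lpr_gt (K19.f312068 IH) (Lpr_dt (K17.f243584 IH) (Lpr_gt (f282824 IH) (Lpr_dt (K17.f282717 IH) (Lpr_ct (K17.f190843 IH) (Lpe (K14.f190829 IH) (Lpe (K16.f259711 IH) (Lpr_df (f259715 IH) (Lpn (LP (LK LD1_c5 LD2_c14 LD3_c58))))))))))))
theorem f278092 : Led Lsl_et (LP (LK LD1_c5 LD2_c27 LD3_c25)) = (LP (LK LD1_c2 LD2_c40 LD3_c4)) :=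
  Lre_e IH (LK LD1_c5 LD2_c27 LD3_c25) (LK LD1_c2 LD2_c40 LD3_c4) Lrfl Lrfl
theorem f278097 : Led Lsl_et (LP (LK LD1_c2 LD2_c40 LD3_c4)) = (LP (LK LD1_c5 LD2_c27 LD3_c25)) :=
  Lre_e IH (LK LD1_c2 LD2_c40 LD3_c4) (LK LD1_c5 LD2_c27 LD3_c25) Lrfl Lrfl
theorem f278098 : Led Lsl_df (LP (LK LD1_c5 LD2_c27 LD3_c25)) = (LP (LK LD1_c5 LD2_c27 LD3_c25)) :=
  Lgr Lrot70 (Lpr_et (f278092 IH) (Lpr_dt (K16.f278080 IH) (Lpr_et (K16.f278093 IH) (Lpr_dt (K16.f278091 IH) (Lpr_et (f278097 IH) (Lpn (LP (LK LD1_c5 LD2_c27 LD3_c25))))))))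
theorem f343756 : Led Lsl_dt (LP (LK LD1_c17 LD2_c44 LD3_c54)) = (LP (LK LD1_c9 LD2_c38 LD3_c36)) :=
  Lre_d IH (LK LD1_c17 LD2_c44 LD3_c54) (LK LD1_c9 LD2_c38 LD3_c36) Lrfl Lrfl
theorem f343764 : Led Lsl_gf (LP (LK LD1_c5 LD2_c27 LD3_c25)) = (LP (LK LD1_c9 LD2_c38 LD3_c36)) :=
  Lgr Lrot145 (Lpr_df (f278098 IH) (Lpr_et (f278092 IH) (Lpr_gt (f312073 IH) (Lpe (f259715 IH) (Lpr_gt (K16.f259711 IH) (Lpe (K14.f190834 IH) (Lpr_et (K20.f229608 IH) (Lpr_gt (f229602 IH) (Lpr_ef (f343760 IH) (Lpr_dt (f343756 IH) (Lpn (LP (LK LD1_c9 LD2_c38 LD3_c36)))))))))))))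
theorem f222071 : Led Lsl_ff (LP (LK LD1_c4 LD2_c12 LD3_c55)) = (LP (LK LD1_c2 LD2_c35 LD3_c20)) :=
  Lgr Lrot25 (Lpr_bt (K12.f167243 IH) (Lpr_ft (K12.f221996 IH) (Lpe (K12.f53738 IH) (Lpn (LP (LK LD1_c2 LD2_c35 LD3_c20))))))
theorem f312092 : Led Lsl_ff (LP (LK LD1_c5 LD2_c27 LD3_c25)) = (LP (LK LD1_c8 LD2_c25 LD3_c6)) :=
  Lgr Lrot72 (Lpr_et (f278092 IH) (Lpr_ft (K19.f312088 IH) (Lpr_et (K16.f44923 IH) (Lpe (f222071 IH) (Lpr_et (f222210 IH) (Lpn (LP (LK LD1_c8 LD2_c25 LD3_c6))))))))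
theorem f312096 : Led Lsl_bt (LP (LK LD1_c5 LD2_c27 LD3_c25)) = (LP (LK LD1_c4 LD2_c19 LD3_c23)) :=
  Lgr Lrot35 (Lpr_ff (f312092 IH) (Lpe (f222197 IH) (Lpr_ff (K16.f279283 IH) (Lpn (LP (LK LD1_c4 LD2_c19 LD3_c23))))))
theorem f312098 : Led Lsl_af (LP (LK LD1_c5 LD2_c27 LD3_c25)) = (LP (LK LD1_c8 LD2_c56 LD3_c22)) :=
  Lgr Lrot36 (Lpr_bt (f312096 IH) (Lpe (K21.f279277 IH) (Lpr_bt (K20.f219359 IH) (Lpe (K20.f219432 IH) (Lpr_bt (K22.f188801 IH) (Lpn (LP (LK LD1_c8 LD2_c56 LD3_c22))))))))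
theorem f218101 : Led Lsl_ff (LP (LK LD1_c8 LD2_c35 LD3_c55)) = (LP (LK LD1_c10 LD2_c50 LD3_c17)) :=
  Lgr Lrot72 (Lpr_et (K18.f188775 IH) (Lpr_ft (K10.f188834 IH) (Lpr_et (K12.f53835 IH) (Lpr_ft (K12.f218099 IH) (Lpr_et (K12.f212831 IH) (Lpn (LP (LK LD1_c10 LD2_c50 LD3_c17))))))))
theorem f212835 : Led Lsl_bt (LP (LK LD1_c5 LD2_c29 LD3_c32)) = (LP (LK LD1_c10 LD2_c50 LD3_c17)) :=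
  Lre_b IH (LK LD1_c5 LD2_c29 LD3_c32) (LK LD1_c10 LD2_c50 LD3_c17) Lrfl Lrfl
theorem f218103 : Led Lsl_ft (LP (LK LD1_c8 LD2_c56 LD3_c22)) = (LP (LK LD1_c5 LD2_c29 LD3_c32)) :=
  Lgr Lrot75 (Lpe (K22.f188801 IH) (Lpr_ff (f218101 IH) (Lpe (f212835 IH) (Lpn (LP (LK LD1_c5 LD2_c29 LD3_c32))))))
theorem f188746 : Led Lsl_dt (LP (LK LD1_c8 LD2_c56 LD3_c22)) = (LP (LK LD1_c8 LD2_c56 LD3_c22)) :=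
  Lgr Lrot77 (Lpe (f188603 IH) (Lpe (K10.f188594 IH) (Lpr_ef (K10.f188742 IH) (Lpe (K15.f188602 IH) (Lpe (K22.f188741 IH) (Lpn (LP (LK LD1_c8 LD2_c56 LD3_c22))))))))
theorem f212832 : Led Lsl_df (LP (LK LD1_c10 LD2_c50 LD3_c17)) = (LP (LK LD1_c10 LD2_c50 LD3_c17)) :=
  Lgr Lrot70 (Lpr_et (K18.f212829 IH) (Lpr_dt (K12.f212828 IH) (Lpr_et (K12.f212814 IH) (Lpr_dt (K17.f212830 IH) (Lpr_et (K12.f212831 IH) (Lpn (LP (LK LD1_c10 LD2_c50 LD3_c17))))))))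
theorem f212836 : Led Lsl_dt (LP (LK LD1_c5 LD2_c29 LD3_c32)) = (LP (LK LD1_c5 LD2_c29 LD3_c32)) :=
  Lgr Lrot79 (Lpe (K12.f212834 IH) (Lpr_df (f212832 IH) (Lpe (f212835 IH) (Lpn (LP (LK LD1_c5 LD2_c29 LD3_c32))))))
theorem f218105 : Led Lsl_ff (LP (LK LD1_c8 LD2_c56 LD3_c22)) = (LP (LK LD1_c5 LD2_c29 LD3_c32)) :=
  Lgr Lrot19 (Lpr_dt (f188746 IH) (Lpr_ft (f218103 IH) (Lpr_dt (f212836 IH) (Lpn (LP (LK LD1_c5 LD2_c29 LD3_c32))))))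
theorem f343766 : Led Lsl_gt (LP (LK LD1_c5 LD2_c29 LD3_c32)) = (LP (LK LD1_c9 LD2_c38 LD3_c36)) :=
  Lgr Lrot5 (Lpe (f218105 IH) (Lpe (f312098 IH) (Lpr_gf (f343764 IH) (Lpn (LP (LK LD1_c9 LD2_c38 LD3_c36))))))
theorem f53398 : Led Lsl_ct (LP (LK LD1_c4 LD2_c18 LD3_c31)) = (LP (LK LD1_c8 LD2_c35 LD3_c49)) :=
  Lre_c IH (LK LD1_c4 LD2_c18 LD3_c31) (LK LD1_c8 LD2_c35 LD3_c49) Lrfl Lrfl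
theorem f53395 : Led Lsl_bt (LP (LK LD1_c4 LD2_c18 LD3_c31)) = (LP (LK LD1_c2 LD2_c6 LD3_c33)) :=
  Lre_b IH (LK LD1_c4 LD2_c18 LD3_c31) (LK LD1_c2 LD2_c6 LD3_c33) Lrfl Lrfl
theorem f854 : Led Lsl_ct (LP (LK LD1_c2 LD2_c5 LD3_c36)) = (LP (LK LD1_c4 LD2_c16 LD3_c38)) :=
  Lre_c IH (LK LD1_c2 LD2_c5 LD3_c36) (LK LD1_c4 LD2_c16 LD3_c38) Lrfl Lrfl
theorem f851 : Led Lsl_gt (LP (LK LD1_c8 LD2_c32 LD3_c31)) = (LP (LK LD1_c4 LD2_c16 LD3_c38)) :=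
  Lre_g IH (LK LD1_c8 LD2_c32 LD3_c31) (LK LD1_c4 LD2_c16 LD3_c38) Lrfl Lrfl
theorem f344326 : Led Lsl_ct (LP (LK LD1_c9 LD2_c38 LD3_c36)) = (LP (LK LD1_c8 LD2_c32 LD3_c31)) :=
  Lgr Lrot91 (Lpe (f343766 IH) (Lpe (K12.f212834 IH) (Lpe (K18.f219823 IH) (Lpr_gf (f344317 IH) (Lpe (f53398 IH) (Lpr_bt (f53395 IH) (Lpe (K13.f536 IH) (Lpe (K9.f530 IH) (Lpr_ct (f854 IH) (Lpe (f851 IH) (Lpn (LP (LK LD1_c8 LD2_c32 LD3_c31)))))))))))))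
theorem f852 : Led Lsl_gt (LP (LK LD1_c8 LD2_c17 LD3_c0)) = (LP (LK LD1_c8 LD2_c32 LD3_c31)) :=
  Lgr Lrot5 (Lpr_ft (K18.f813 IH) (Lpr_at (K20.f842 IH) (Lpe (f851 IH) (Lpn (LP (LK LD1_c8 LD2_c32 LD3_c31))))))
theorem f349709 : Led Lsl_bf (LP (LK LD1_c4 LD2_c9 LD3_c58)) = (LP (LK LD1_c7 LD2_c56 LD3_c2)) :=
  Lgr Lrot156 (Lpr_gt (K14.f1371 IH) (Lpe (K9.f51494 IH) (Lpr_ct (K18.f568 IH) (Lpr_gt (f852 IH) (Lpe (f344326 IH) (Lpr_bt (f2465 IH) (Lpe (f2463 IH) (Lpr_ct (K19.f1576 IH) (Lpe (f29785 IH) (Lpr_cf (f349701 IH) (Lpn (LP (LK LD1_c7 LD2_c56 LD3_c2)))))))))))))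
theorem f51637 : Led Lsl_af (LP (LK LD1_c2 LD2_c3 LD3_c11)) = (LP (LK LD1_c2 LD2_c3 LD3_c10)) :=
  Lgr Lrot68 (Lpr_ct (K20.f541 IH) (Lpr_at (K13.f51492 IH) (Lpr_ct (K20.f51633 IH) (Lpn (LP (LK LD1_c2 LD2_c3 LD3_c10))))))
theorem f51647 : Led Lsl_ft (LP (LK LD1_c2 LD2_c3 LD3_c11)) = (LP (LK LD1_c2 LD2_c3 LD3_c10)) :=
  Lgr Lrot142 (Lpr_dt (K20.f51631 IH) (Lpr_ct (K20.f51555 IH) (Lpr_dt (K0.f27326 IH) (Lpr_ct (K20.f51633 IH) (Lpe (K20.f51624 IH) (Lpr_ct (K20.f541 IH) (Lpe (K0.f27322 IH) (Lpr_ct (K20.f533 IH) (Lpr_af (f51637 IH) (Lpn (LP (LK LD1_c2 LD2_c3 LD3_c10))))))))))))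
theorem f51503 : Led Lsl_gt (LP (LK LD1_c2 LD2_c3 LD3_c11)) = (LP (LK LD1_c4 LD2_c12 LD3_c2)) :=
  Lre_g IH (LK LD1_c2 LD2_c3 LD3_c11) (LK LD1_c4 LD2_c12 LD3_c2) Lrfl Lrfl
theorem f51653 : Led Lsl_gt (LP (LK LD1_c4 LD2_c12 LD3_c2)) = (LP (LK LD1_c2 LD2_c3 LD3_c11)) :=
  Lgr Lrot46 (Lpe (f51503 IH) (Lpr_ft (f51647 IH) (Lpe (f51637 IH) (Lpn (LP (LK LD1_c2 LD2_c3 LD3_c11))))))
theorem f349717 : Led Lsl_cf (LP (LK LD1_c4 LD2_c12 LD3_c2)) = (LP (LK LD1_c2 LD2_c24 LD3_c41)) :=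
  Lgr Lrot125 (Lpr_gt (f51653 IH) (Lpe (K20.f533 IH) (Lpr_bt (K9.f529 IH) (Lpr_gt (K14.f1370 IH) (Lpr_bf (f349709 IH) (Lpe (f349701 IH) (Lpr_gt (f2421 IH) (Lpe (K1.f2405 IH) (Lpr_bt (K0.f2395 IH) (Lpr_gt (K21.f2398 IH) (Lpn (LP (LK LD1_c2 LD2_c24 LD3_c41)))))))))))))
theorem f831 : Led Lsl_bt (LP (LK LD1_c8 LD2_c20 LD3_c8)) = (LP (LK LD1_c4 LD2_c9 LD3_c59)) :=
  Lre_b IH (LK LD1_c8 LD2_c20 LD3_c8) (LK LD1_c4 LD2_c9 LD3_c59) Lrfl Lrfl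
theorem f832 : Led Lsl_ct (LP (LK LD1_c8 LD2_c20 LD3_c8)) = (LP (LK LD1_c15 LD2_c41 LD3_c19)) :=
  Lre_c IH (LK LD1_c8 LD2_c20 LD3_c8) (LK LD1_c15 LD2_c41 LD3_c19) Lrfl Lrfl
theorem f328207 : Led Lsl_bt (LP (LK LD1_c2 LD2_c24 LD3_c41)) = (LP (LK LD1_c4 LD2_c53 LD3_c44)) :=
  Lre_b IH (LK LD1_c2 LD2_c24 LD3_c41) (LK LD1_c4 LD2_c53 LD3_c44) Lrfl Lrfl
theorem f349721 : Led Lsl_gf (LP (LK LD1_c15 LD2_c41 LD3_c19)) = (LP (LK LD1_c8 LD2_c35 LD3_c58)) :=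
  Lgr Lrot129 (Lpe (f832 IH) (Lpr_bt (f831 IH) (Lpr_gt (K17.f815 IH) (Lpe (K9.f529 IH) (Lpr_ct (K20.f533 IH) (Lpr_gt (f51503 IH) (Lpr_cf (f349717 IH) (Lpr_bt (f328207 IH) (Lpr_gt (K21.f328204 IH) (Lpr_ct (K12.f188790 IH) (Lpn (LP (LK LD1_c8 LD2_c35 LD3_c58)))))))))))))
theorem f1334 : Led Lsl_gt (LP (LK LD1_c4 LD2_c9 LD3_c57)) = (LP (LK LD1_c8 LD2_c20 LD3_c2)) :=
  Lre_g IH (LK LD1_c4 LD2_c9 LD3_c57) (LK LD1_c8 LD2_c20 LD3_c2) Lrfl Lrfl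
theorem f1339 : Led Lsl_ct (LP (LK LD1_c15 LD2_c41 LD3_c8)) = (LP (LK LD1_c8 LD2_c20 LD3_c2)) :=
  Lre_c IH (LK LD1_c15 LD2_c41 LD3_c8) (LK LD1_c8 LD2_c20 LD3_c2) Lrfl Lrfl
theorem f349723 : Led Lsl_bt (LP (LK LD1_c15 LD2_c41 LD3_c8)) = (LP (LK LD1_c16 LD2_c7 LD3_c11)) :=
  Lgr Lrot22 (Lpr_ct (f1339 IH) (Lpe (f1334 IH) (Lpe (K22.f551 IH) (Lpe (K17.f815 IH) (Lpe (f831 IH) (Lpr_ct (f832 IH) (Lpr_gf (f349721 IH) (Lpe (K12.f188790 IH) (Lpr_bt (K12.f188786 IH) (Lpe (K20.f188797 IH) (Lpn (LP (LK LD1_c16 LD2_c7 LD3_c11)))))))))))))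
theorem f349730 : Led Lsl_dt (LP (LK LD1_c25 LD2_c36 LD3_c40)) = (LP (LK LD1_c15 LD2_c41 LD3_c8)) :=
  Lre_d IH (LK LD1_c25 LD2_c36 LD3_c40) (LK LD1_c15 LD2_c41 LD3_c8) Lrfl Lrfl
theorem f349731 : Led Lsl_bf (LP (LK LD1_c25 LD2_c36 LD3_c40)) = (LP (LK LD1_c26 LD2_c3 LD3_c54)) :=
  Lgr Lrot93 (Lpr_dt (f349730 IH) (Lpr_bt (f349723 IH) (Lpr_dt (K20.f218109 IH) (Lpn (LP (LK LD1_c26 LD2_c3 LD3_c54))))))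
theorem f299291 : Led Lsl_et (LP (LK LD1_c19 LD2_c35 LD3_c45)) = (LP (LK LD1_c26 LD2_c3 LD3_c54)) :=
  Lgr Lrot87 (Lpr_ef (K20.f299289 IH) (Lpn (LP (LK LD1_c26 LD2_c3 LD3_c54))))
theorem f349736 : Led Lsl_et (LP (LK LD1_c25 LD2_c36 LD3_c40)) = (LP (LK LD1_c16 LD2_c8 LD3_c56)) :=
  Lgr Lrot74 (Lpr_bf (f349731 IH) (Lpe (f299291 IH) (Lpe (f348156 IH) (Lpn (LP (LK LD1_c16 LD2_c8 LD3_c56))))))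
theorem f301148 : Led Lsl_ct (LP (LK LD1_c10 LD2_c51 LD3_c57)) = (LP (LK LD1_c16 LD2_c8 LD3_c56)) :=
  Lgr Lrot59 (Lpr_cf (f301133 IH) (Lpn (LP (LK LD1_c16 LD2_c8 LD3_c56))))
theorem f317588 : Led Lsl_gt (LP (LK LD1_c16 LD2_c8 LD3_c56)) = (LP (LK LD1_c15 LD2_c36 LD3_c53)) :=
  Lgr Lrot94 (Lpe (f301148 IH) (Lpr_gt (f295733 IH) (Lpr_dt (K20.f298734 IH) (Lpr_gt (K20.f170356 IH) (Lpr_dt (K17.f170347 IH) (Lpr_cf (K16.f170345 IH) (Lpe (K16.f170357 IH) (Lpr_gf (K20.f317562 IH) (Lpe (K20.f317554 IH) (Lpn (LP (LK LD1_c15 LD2_c36 LD3_c53))))))))))))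
theorem f349747 : Led Lsl_gf (LP (LK LD1_c15 LD2_c41 LD3_c8)) = (LP (LK LD1_c8 LD2_c25 LD3_c6)) :=
  Lgr Lrot134 (Lpe (f349730 IH) (Lpr_et (f349736 IH) (Lpr_gt (f317588 IH) (Lpe (K21.f317598 IH) (Lpr_dt (K19.f262846 IH) (Lpr_gt (K19.f298848 IH) (Lpr_df (K22.f337060 IH) (Lpr_et (K22.f337049 IH) (Lpe (f337068 IH) (Lpe (f222198 IH) (Lpn (LP (LK LD1_c8 LD2_c25 LD3_c6)))))))))))))
theorem f349740 : Led Lsl_dt (LP (LK LD1_c15 LD2_c41 LD3_c8)) = (LP (LK LD1_c25 LD2_c36 LD3_c40)) :=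
  Lre_d IH (LK LD1_c15 LD2_c41 LD3_c8) (LK LD1_c25 LD2_c36 LD3_c40) Lrfl Lrfl
theorem f193237 : Led Lsl_gt (LP (LK LD1_c8 LD2_c42 LD3_c37)) = (LP (LK LD1_c4 LD2_c22 LD3_c19)) :=
  Lre_g IH (LK LD1_c8 LD2_c42 LD3_c37) (LK LD1_c4 LD2_c22 LD3_c19) Lrfl Lrfl
theorem f193240 : Led Lsl_et (LP (LK LD1_c16 LD2_c19 LD3_c2)) = (LP (LK LD1_c8 LD2_c42 LD3_c37)) :=
  Lre_e IH (LK LD1_c16 LD2_c19 LD3_c2) (LK LD1_c8 LD2_c42 LD3_c37) Lrfl Lrfl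
theorem f45016 : Led Lsl_gt (LP (LK LD1_c8 LD2_c26 LD3_c10)) = (LP (LK LD1_c15 LD2_c50 LD3_c42)) :=
  Lre_g IH (LK LD1_c8 LD2_c26 LD3_c10) (LK LD1_c15 LD2_c50 LD3_c42) Lrfl Lrfl
theorem f191701 : Led Lsl_gt (LP (LK LD1_c9 LD2_c34 LD3_c8)) = (LP (LK LD1_c4 LD2_c51 LD3_c2)) :=
  Lre_g IH (LK LD1_c9 LD2_c34 LD3_c8) (LK LD1_c4 LD2_c51 LD3_c2) Lrfl Lrfl
theorem f191702 : Led Lsl_dt (LP (LK LD1_c15 LD2_c50 LD3_c42)) = (LP (LK LD1_c9 LD2_c34 LD3_c8)) :=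
  Lgr Lrot171 (Lpe (f45016 IH) (Lpe (K17.f45015 IH) (Lpr_dt (K14.f45014 IH) (Lpe (K13.f44973 IH) (Lpe (K8.f44967 IH) (Lpe (K8.f44980 IH) (Lpe (K10.f45012 IH) (Lpe (K10.f45013 IH) (Lpr_dt (K10.f191685 IH) (Lpe (f191701 IH) (Lpn (LP (LK LD1_c9 LD2_c34 LD3_c8)))))))))))))
theorem f44991 : Led Lsl_et (LP (LK LD1_c4 LD2_c7 LD3_c30)) = (LP (LK LD1_c8 LD2_c15 LD3_c2)) :=
  Lre_e IH (LK LD1_c4 LD2_c7 LD3_c30) (LK LD1_c8 LD2_c15 LD3_c2) Lrfl Lrfl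
theorem f44992 : Led Lsl_gt (LP (LK LD1_c8 LD2_c15 LD3_c2)) = (LP (LK LD1_c15 LD2_c30 LD3_c51)) :=
  Lre_g IH (LK LD1_c8 LD2_c15 LD3_c2) (LK LD1_c15 LD2_c30 LD3_c51) Lrfl Lrfl
theorem f191710 : Led Lsl_et (LP (LK LD1_c15 LD2_c50 LD3_c42)) = (LP (LK LD1_c15 LD2_c30 LD3_c51)) :=
  Lgr Lrot122 (Lpr_dt (f191702 IH) (Lpr_gt (f191701 IH) (Lpe (K10.f191685 IH) (Lpr_et (K10.f45013 IH) (Lpr_gt (K10.f45012 IH) (Lpr_dt (K9.f44988 IH) (Lpr_gt (K10.f44989 IH) (Lpe (K13.f44990 IH) (Lpr_et (f44991 IH) (Lpr_gt (f44992 IH) (Lpn (LP (LK LD1_c15 LD2_c30 LD3_c51)))))))))))))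
theorem f191713 : Led Lsl_ef (LP (LK LD1_c15 LD2_c50 LD3_c42)) = (LP (LK LD1_c15 LD2_c30 LD3_c51)) :=
  Lgr Lrot88 (Lpr_et (f191710 IH) (Lpn (LP (LK LD1_c15 LD2_c30 LD3_c51))))
theorem f193198 : Led Lsl_bt (LP (LK LD1_c4 LD2_c22 LD3_c19)) = (LP (LK LD1_c2 LD2_c8 LD3_c38)) :=
  Lre_b IH (LK LD1_c4 LD2_c22 LD3_c19) (LK LD1_c2 LD2_c8 LD3_c38) Lrfl Lrfl
theorem f180827 : Led Lsl_bt (LP (LK LD1_c4 LD2_c1 LD3_c51)) = (LP (LK LD1_c8 LD2_c4 LD3_c15)) :=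
  Lre_b IH (LK LD1_c4 LD2_c1 LD3_c51) (LK LD1_c8 LD2_c4 LD3_c15) Lrfl Lrfl
theorem f193199 : Led Lsl_df (LP (LK LD1_c4 LD2_c22 LD3_c19)) = (LP (LK LD1_c8 LD2_c4 LD3_c15)) :=
  Lgr Lrot12 (Lpr_bt (f193198 IH) (Lpr_dt (K14.f193193 IH) (Lpr_bt (f180827 IH) (Lpn (LP (LK LD1_c8 LD2_c4 LD3_c15))))))
theorem f212514 : Led Lsl_dt (LP (LK LD1_c15 LD2_c30 LD3_c51)) = (LP (LK LD1_c8 LD2_c42 LD3_c37)) :=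
  Lgr Lrot136 (Lpe (f191713 IH) (Lpe (f45016 IH) (Lpe (K17.f45015 IH) (Lpr_dt (K14.f45014 IH) (Lpe (K13.f44973 IH) (Lpe (K8.f44967 IH) (Lpr_gf (K15.f212508 IH) (Lpe (K14.f180776 IH) (Lpe (f193199 IH) (Lpe (f193237 IH) (Lpn (LP (LK LD1_c8 LD2_c42 LD3_c37)))))))))))))
theorem f191705 : Led Lsl_df (LP (LK LD1_c15 LD2_c50 LD3_c42)) = (LP (LK LD1_c9 LD2_c34 LD3_c8)) :=
  Lgr Lrot38 (Lpr_dt (f191702 IH) (Lpn (LP (LK LD1_c9 LD2_c34 LD3_c8))))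
theorem f191712 : Led Lsl_et (LP (LK LD1_c17 LD2_c37 LD3_c16)) = (LP (LK LD1_c9 LD2_c34 LD3_c8)) :=
  Lre_e IH (LK LD1_c17 LD2_c37 LD3_c16) (LK LD1_c9 LD2_c34 LD3_c8) Lrfl Lrfl
theorem f212518 : Led Lsl_et (LP (LK LD1_c8 LD2_c42 LD3_c37)) = (LP (LK LD1_c16 LD2_c19 LD3_c2)) :=
  Lre_e IH (LK LD1_c8 LD2_c42 LD3_c37) (LK LD1_c16 LD2_c19 LD3_c2) Lrfl Lrfl
theorem f212519 : Led Lsl_df (LP (LK LD1_c17 LD2_c37 LD3_c16)) = (LP (LK LD1_c16 LD2_c19 LD3_c2)) :=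
  Lgr Lrot70 (Lpr_et (f191712 IH) (Lpe (f191705 IH) (Lpr_et (f191710 IH) (Lpr_dt (f212514 IH) (Lpr_et (f212518 IH) (Lpn (LP (LK LD1_c16 LD2_c19 LD3_c2))))))))
theorem f349753 : Led Lsl_gt (LP (LK LD1_c25 LD2_c36 LD3_c40)) = (LP (LK LD1_c17 LD2_c37 LD3_c16)) :=
  Lgr Lrot139 (Lpe (f349740 IH) (Lpr_gf (f349747 IH) (Lpe (f222210 IH) (Lpr_dt (K14.f222208 IH) (Lpr_gf (K12.f222214 IH) (Lpe (K14.f173262 IH) (Lpr_et (K14.f193233 IH) (Lpe (f193237 IH) (Lpe (f193240 IH) (Lpe (f212519 IH) (Lpn (LP (LK LD1_c17 LD2_c37 LD3_c16)))))))))))))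
theorem f222206 : Led Lsl_ct (LP (LK LD1_c8 LD2_c18 LD3_c38)) = (LP (LK LD1_c8 LD2_c25 LD3_c6)) :=
  Lre_c IH (LK LD1_c8 LD2_c18 LD3_c38) (LK LD1_c8 LD2_c25 LD3_c6) Lrfl Lrfl
theorem f39137 : Led Lsl_af (LP (LK LD1_c7 LD2_c56 LD3_c0)) = (LP (LK LD1_c4 LD2_c22 LD3_c14)) :=
  Lgr Lrot68 (Lpr_ct (K9.f39127 IH) (Lpr_at (K1.f39117 IH) (Lpr_ct (K13.f39136 IH) (Lpn (LP (LK LD1_c4 LD2_c22 LD3_c14))))))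
theorem f42916 : Led Lsl_ft (LP (LK LD1_c8 LD2_c40 LD3_c32)) = (LP (LK LD1_c4 LD2_c22 LD3_c14)) :=
  Lre_f IH (LK LD1_c8 LD2_c40 LD3_c32) (LK LD1_c4 LD2_c22 LD3_c14) Lrfl Lrfl
theorem f279783 : Led Lsl_gt (LP (LK LD1_c8 LD2_c40 LD3_c32)) = (LP (LK LD1_c9 LD2_c36 LD3_c27)) :=
  Lgr Lrot5 (Lpr_ft (f42916 IH) (Lpe (f39137 IH) (Lpr_gf (K21.f279781 IH) (Lpn (LP (LK LD1_c9 LD2_c36 LD3_c27))))))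
theorem f339542 : Led Lsl_bt (LP (LK LD1_c4 LD2_c16 LD3_c40)) = (LP (LK LD1_c8 LD2_c32 LD3_c36)) :=
  Lre_b IH (LK LD1_c4 LD2_c16 LD3_c40) (LK LD1_c8 LD2_c32 LD3_c36) Lrfl Lrfl
theorem f1353 : Led Lsl_ct (LP (LK LD1_c4 LD2_c16 LD3_c40)) = (LP (LK LD1_c8 LD2_c32 LD3_c37)) :=
  Lre_c IH (LK LD1_c4 LD2_c16 LD3_c40) (LK LD1_c8 LD2_c32 LD3_c37) Lrfl Lrfl
theorem f339543 : Led Lsl_gt (LP (LK LD1_c8 LD2_c18 LD3_c38)) = (LP (LK LD1_c8 LD2_c32 LD3_c37)) :=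
  Lgr Lrot149 (Lpe (K12.f222205 IH) (Lpr_gf (f337068 IH) (Lpe (K22.f279788 IH) (Lpr_ct (K22.f1565 IH) (Lpe (f279783 IH) (Lpe (K13.f39099 IH) (Lpe (K16.f232408 IH) (Lpr_gf (K22.f339538 IH) (Lpe (f339542 IH) (Lpr_ct (f1353 IH) (Lpn (LP (LK LD1_c8 LD2_c32 LD3_c37)))))))))))))
theorem f1355 : Led Lsl_dt (LP (LK LD1_c8 LD2_c32 LD3_c37)) = (LP (LK LD1_c16 LD2_c2 LD3_c32)) :=
  Lre_d IH (LK LD1_c8 LD2_c32 LD3_c37) (LK LD1_c16 LD2_c2 LD3_c32) Lrfl Lrfl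
theorem f723 : Led Lsl_et (LP (LK LD1_c2 LD2_c1 LD3_c43)) = (LP (LK LD1_c4 LD2_c8 LD3_c46)) :=
  Lre_e IH (LK LD1_c2 LD2_c1 LD3_c43) (LK LD1_c4 LD2_c8 LD3_c46) Lrfl Lrfl
theorem f234690 : Led Lsl_gt (LP (LK LD1_c8 LD2_c17 LD3_c41)) = (LP (LK LD1_c4 LD2_c8 LD3_c46)) :=
  Lre_g IH (LK LD1_c8 LD2_c17 LD3_c41) (LK LD1_c4 LD2_c8 LD3_c46) Lrfl Lrfl
theorem f234691 : Led Lsl_et (LP (LK LD1_c15 LD2_c35 LD3_c58)) = (LP (LK LD1_c8 LD2_c17 LD3_c41)) :=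
  Lre_e IH (LK LD1_c15 LD2_c35 LD3_c58) (LK LD1_c8 LD2_c17 LD3_c41) Lrfl Lrfl
theorem f234692 : Led Lsl_dt (LP (LK LD1_c15 LD2_c35 LD3_c58)) = (LP (LK LD1_c25 LD2_c30 LD3_c33)) :=
  Lre_d IH (LK LD1_c15 LD2_c35 LD3_c58) (LK LD1_c25 LD2_c30 LD3_c33) Lrfl Lrfl
theorem f339560 : Led Lsl_gf (LP (LK LD1_c25 LD2_c30 LD3_c33)) = (LP (LK LD1_c16 LD2_c2 LD3_c32)) :=
  Lgr Lrot134 (Lpe (f234692 IH) (Lpr_et (f234691 IH) (Lpr_gt (f234690 IH) (Lpe (f723 IH) (Lpr_dt (K12.f724 IH) (Lpr_gt (K14.f220130 IH) (Lpe (K15.f234432 IH) (Lpr_et (K12.f222830 IH) (Lpr_gt (f339543 IH) (Lpr_dt (f1355 IH) (Lpn (LP (LK LD1_c16 LD2_c2 LD3_c32)))))))))))))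
theorem f339564 : Led Lsl_dt (LP (LK LD1_c25 LD2_c30 LD3_c33)) = (LP (LK LD1_c15 LD2_c35 LD3_c58)) :=
  Lre_d IH (LK LD1_c25 LD2_c30 LD3_c33) (LK LD1_c15 LD2_c35 LD3_c58) Lrfl Lrfl
theorem f212522 : Led Lsl_dt (LP (LK LD1_c17 LD2_c37 LD3_c16)) = (LP (LK LD1_c16 LD2_c19 LD3_c2)) :=
  Lgr Lrot42 (Lpr_df (f212519 IH) (Lpn (LP (LK LD1_c16 LD2_c19 LD3_c2))))
theorem f349766 : Led Lsl_cf (LP (LK LD1_c15 LD2_c35 LD3_c58)) = (LP (LK LD1_c16 LD2_c19 LD3_c2)) :=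
  Lgr Lrot14 (Lpe (f339564 IH) (Lpr_gf (f339560 IH) (Lpe (f1355 IH) (Lpe (f339543 IH) (Lpr_ct (f222206 IH) (Lpe (f349747 IH) (Lpr_dt (f349740 IH) (Lpr_gt (f349753 IH) (Lpr_dt (f212522 IH) (Lpn (LP (LK LD1_c16 LD2_c19 LD3_c2))))))))))))
theorem f349771 : Led Lsl_ct (LP (LK LD1_c8 LD2_c17 LD3_c41)) = (LP (LK LD1_c8 LD2_c42 LD3_c37)) :=
  Lgr Lrot15 (Lpe (f234691 IH) (Lpr_cf (f349766 IH) (Lpe (f212518 IH) (Lpn (LP (LK LD1_c8 LD2_c42 LD3_c37))))))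
theorem f349775 : Led Lsl_cf (LP (LK LD1_c8 LD2_c17 LD3_c41)) = (LP (LK LD1_c8 LD2_c42 LD3_c37)) :=
  Lgr Lrot11 (Lpr_ct (f349771 IH) (Lpn (LP (LK LD1_c8 LD2_c42 LD3_c37))))
theorem f613 : Led Lsl_ct (LP (LK LD1_c2 LD2_c1 LD3_c44)) = (LP (LK LD1_c4 LD2_c8 LD3_c46)) :=
  Lre_c IH (LK LD1_c2 LD2_c1 LD3_c44) (LK LD1_c4 LD2_c8 LD3_c46) Lrfl Lrfl
theorem f230457 : Led Lsl_bt (LP (LK LD1_c8 LD2_c52 LD3_c8)) = (LP (LK LD1_c5 LD2_c19 LD3_c20)) :=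
  Lgr Lrot35 (Lpe (K18.f184421 IH) (Lpr_bf (K18.f230450 IH) (Lpe (K18.f230456 IH) (Lpn (LP (LK LD1_c5 LD2_c19 LD3_c20))))))
theorem f230460 : Led Lsl_bf (LP (LK LD1_c8 LD2_c52 LD3_c8)) = (LP (LK LD1_c5 LD2_c19 LD3_c20)) :=
  Lgr Lrot24 (Lpr_bt (f230457 IH) (Lpn (LP (LK LD1_c5 LD2_c19 LD3_c20))))
theorem f193184 : Led Lsl_bt (LP (LK LD1_c4 LD2_c1 LD3_c42)) = (LP (LK LD1_c8 LD2_c3 LD3_c58)) :=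
  Lre_b IH (LK LD1_c4 LD2_c1 LD3_c42) (LK LD1_c8 LD2_c3 LD3_c58) Lrfl Lrfl
theorem f237543 : Led Lsl_ct (LP (LK LD1_c4 LD2_c1 LD3_c42)) = (LP (LK LD1_c8 LD2_c4 LD3_c0)) :=
  Lre_c IH (LK LD1_c4 LD2_c1 LD3_c42) (LK LD1_c8 LD2_c4 LD3_c0) Lrfl Lrfl
theorem f216800 : Led Lsl_ct (LP (LK LD1_c8 LD2_c3 LD3_c12)) = (LP (LK LD1_c15 LD2_c9 LD3_c50)) :=
  Lre_c IH (LK LD1_c8 LD2_c3 LD3_c12) (LK LD1_c15 LD2_c9 LD3_c50) Lrfl Lrfl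
theorem f216786 : Led Lsl_ct (LP (LK LD1_c4 LD2_c21 LD3_c60)) = (LP (LK LD1_c8 LD2_c41 LD3_c43)) :=
  Lre_c IH (LK LD1_c4 LD2_c21 LD3_c60) (LK LD1_c8 LD2_c41 LD3_c43) Lrfl Lrfl
theorem f216785 : Led Lsl_ct (LP (LK LD1_c8 LD2_c41 LD3_c43)) = (LP (LK LD1_c4 LD2_c21 LD3_c60)) :=
  Lre_c IH (LK LD1_c8 LD2_c41 LD3_c43) (LK LD1_c4 LD2_c21 LD3_c60) Lrfl Lrfl
theorem f328042 : Led Lsl_ef (LP (LK LD1_c8 LD2_c41 LD3_c43)) = (LP (LK LD1_c9 LD2_c35 LD3_c16)) :=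
  Lgr Lrot28 (Lpr_ct (f216785 IH) (Lpe (K20.f305620 IH) (Lpr_ct (f328038 IH) (Lpn (LP (LK LD1_c9 LD2_c35 LD3_c16))))))
theorem f328045 : Led Lsl_et (LP (LK LD1_c8 LD2_c41 LD3_c43)) = (LP (LK LD1_c9 LD2_c35 LD3_c16)) :=
  Lgr Lrot87 (Lpr_ef (f328042 IH) (Lpn (LP (LK LD1_c9 LD2_c35 LD3_c16))))
theorem f312137 : Led Lsl_dt (LP (LK LD1_c8 LD2_c41 LD3_c43)) = (LP (LK LD1_c16 LD2_c17 LD3_c4)) :=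
  Lre_d IH (LK LD1_c8 LD2_c41 LD3_c43) (LK LD1_c16 LD2_c17 LD3_c4) Lrfl Lrfl
theorem f238067 : Led Lsl_et (LP (LK LD1_c2 LD2_c23 LD3_c38)) = (LP (LK LD1_c4 LD2_c51 LD3_c35)) :=
  Lre_e IH (LK LD1_c2 LD2_c23 LD3_c38) (LK LD1_c4 LD2_c51 LD3_c35) Lrfl Lrfl
theorem f200105 : Led Lsl_dt (LP (LK LD1_c2 LD2_c23 LD3_c38)) = (LP (LK LD1_c4 LD2_c51 LD3_c34)) :=
  Lre_d IH (LK LD1_c2 LD2_c23 LD3_c38) (LK LD1_c4 LD2_c51 LD3_c34) Lrfl Lrfl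
theorem f328047 : Led Lsl_gt (LP (LK LD1_c16 LD2_c17 LD3_c4)) = (LP (LK LD1_c17 LD2_c36 LD3_c33)) :=
  Lgr Lrot112 (Lpe (f312137 IH) (Lpr_et (f328045 IH) (Lpe (f171095 IH) (Lpe (f238067 IH) (Lpr_dt (f200105 IH) (Lpe (K13.f232991 IH) (Lpe (K13.f238057 IH) (Lpe (K13.f184403 IH) (Lpe (K21.f238065 IH) (Lpr_dt (K21.f238066 IH) (Lpn (LP (LK LD1_c17 LD2_c36 LD3_c33)))))))))))))
theorem f327474 : Led Lsl_dt (LP (LK LD1_c17 LD2_c36 LD3_c33)) = (LP (LK LD1_c9 LD2_c33 LD3_c47)) :=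
  Lre_d IH (LK LD1_c17 LD2_c36 LD3_c33) (LK LD1_c9 LD2_c33 LD3_c47) Lrfl Lrfl
theorem f328049 : Led Lsl_gf (LP (LK LD1_c8 LD2_c41 LD3_c43)) = (LP (LK LD1_c14 LD2_c57 LD3_c47)) :=
  Lgr Lrot144 (Lpr_dt (f312137 IH) (Lpr_gt (f328047 IH) (Lpr_dt (f327474 IH) (Lpe (K21.f199651 IH) (Lpr_df (K21.f33310 IH) (Lpe (K21.f253169 IH) (Lpr_df (K21.f327510 IH) (Lpr_gf (K21.f279403 IH) (Lpr_cf (K16.f236631 IH) (Lpn (LP (LK LD1_c14 LD2_c57 LD3_c47))))))))))))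
theorem f328051 : Led Lsl_gt (LP (LK LD1_c8 LD2_c41 LD3_c43)) = (LP (LK LD1_c4 LD2_c22 LD3_c5)) :=
  Lgr Lrot46 (Lpr_gf (f328049 IH) (Lpr_ft (K16.f236637 IH) (Lpe (K21.f280208 IH) (Lpn (LP (LK LD1_c4 LD2_c22 LD3_c5))))))
theorem f237512 : Led Lsl_cf (LP (LK LD1_c2 LD2_c24 LD3_c20)) = (LP (LK LD1_c4 LD2_c22 LD3_c5)) :=
  Lgr Lrot11 (Lpr_ct (K16.f237479 IH) (Lpn (LP (LK LD1_c4 LD2_c22 LD3_c5))))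
theorem f193185 : Led Lsl_ct (LP (LK LD1_c8 LD2_c4 LD3_c0)) = (LP (LK LD1_c4 LD2_c1 LD3_c42)) :=
  Lre_c IH (LK LD1_c8 LD2_c4 LD3_c0) (LK LD1_c4 LD2_c1 LD3_c42) Lrfl Lrfl
theorem f330270 : Led Lsl_gt (LP (LK LD1_c15 LD2_c9 LD3_c50)) = (LP (LK LD1_c8 LD2_c4 LD3_c0)) :=
  Lgr Lrot150 (Lpe (f216800 IH) (Lpr_gf (f330268 IH) (Lpr_df (K15.f229750 IH) (Lpr_gt (K21.f312134 IH) (Lpr_ct (f216786 IH) (Lpr_gt (f328051 IH) (Lpe (f237512 IH) (Lpe (K21.f279367 IH) (Lpe (f193185 IH) (Lpn (LP (LK LD1_c8 LD2_c4 LD3_c0))))))))))))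
theorem f336369 : Led Lsl_bf (LP (LK LD1_c5 LD2_c5 LD3_c28)) = (LP (LK LD1_c8 LD2_c3 LD3_c12)) :=
  Lgr Lrot34 (Lpe (f325684 IH) (Lpr_bf (f230460 IH) (Lpr_ct (K18.f230463 IH) (Lpe (K22.f300393 IH) (Lpr_cf (K22.f336352 IH) (Lpe (K20.f193176 IH) (Lpe (f193184 IH) (Lpr_ct (f237543 IH) (Lpe (f330270 IH) (Lpe (f216800 IH) (Lpn (LP (LK LD1_c8 LD2_c3 LD3_c12)))))))))))))
theorem f336375 : Led Lsl_bt (LP (LK LD1_c8 LD2_c32 LD3_c47)) = (LP (LK LD1_c8 LD2_c17 LD3_c5)) :=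
  Lgr Lrot95 (Lpr_df (f296090 IH) (Lpr_bf (f336369 IH) (Lpe (K21.f228942 IH) (Lpn (LP (LK LD1_c8 LD2_c17 LD3_c5))))))
theorem f169367 : Led Lsl_ct (LP (LK LD1_c8 LD2_c32 LD3_c47)) = (LP (LK LD1_c16 LD2_c2 LD3_c45)) :=
  Lre_c IH (LK LD1_c8 LD2_c32 LD3_c47) (LK LD1_c16 LD2_c2 LD3_c45) Lrfl Lrfl
theorem f169368 : Led Lsl_gt (LP (LK LD1_c16 LD2_c2 LD3_c45)) = (LP (LK LD1_c26 LD2_c0 LD3_c16)) :=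
  Lre_g IH (LK LD1_c16 LD2_c2 LD3_c45) (LK LD1_c26 LD2_c0 LD3_c16) Lrfl Lrfl
theorem f297691 : Led Lsl_gt (LP (LK LD1_c15 LD2_c15 LD3_c4)) = (LP (LK LD1_c8 LD2_c42 LD3_c37)) :=
  Lgr Lrot5 (Lpr_ft (K17.f220506 IH) (Lpr_at (K18.f297685 IH) (Lpe (f193237 IH) (Lpn (LP (LK LD1_c8 LD2_c42 LD3_c37))))))
theorem f349785 : Led Lsl_cf (LP (LK LD1_c26 LD2_c0 LD3_c16)) = (LP (LK LD1_c24 LD2_c45 LD3_c46)) :=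
  Lgr Lrot58 (Lpe (f169368 IH) (Lpe (f169367 IH) (Lpr_bt (f336375 IH) (Lpe (K21.f228941 IH) (Lpe (K21.f229030 IH) (Lpr_ct (f613 IH) (Lpe (f234690 IH) (Lpr_cf (f349775 IH) (Lpe (f297691 IH) (Lpr_bf (K18.f287016 IH) (Lpn (LP (LK LD1_c24 LD2_c45 LD3_c46)))))))))))))
theorem f349795 : Led Lsl_bt (LP (LK LD1_c15 LD2_c1 LD3_c19)) = (LP (LK LD1_c8 LD2_c42 LD3_c37)) :=
  Lgr Lrot92 (Lpe (K22.f336338 IH) (Lpr_gt (K22.f178639 IH) (Lpe (K22.f178687 IH) (Lpe (K12.f230961 IH) (Lpr_gt (f230976 IH) (Lpr_ct (f169367 IH) (Lpr_gt (f169368 IH) (Lpr_cf (f349785 IH) (Lpe (K18.f287016 IH) (Lpr_gt (f297691 IH) (Lpn (LP (LK LD1_c8 LD2_c42 LD3_c37)))))))))))))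
theorem f167572 : Led Lsl_bt (LP (LK LD1_c4 LD2_c17 LD3_c10)) = (LP (LK LD1_c2 LD2_c5 LD3_c55)) :=
  Lre_b IH (LK LD1_c4 LD2_c17 LD3_c10) (LK LD1_c2 LD2_c5 LD3_c55) Lrfl Lrfl
theorem f167576 : Led Lsl_ct (LP (LK LD1_c4 LD2_c17 LD3_c10)) = (LP (LK LD1_c8 LD2_c33 LD3_c34)) :=
  Lre_c IH (LK LD1_c4 LD2_c17 LD3_c10) (LK LD1_c8 LD2_c33 LD3_c34) Lrfl Lrfl
theorem f193255 : Led Lsl_ct (LP (LK LD1_c4 LD2_c22 LD3_c19)) = (LP (LK LD1_c8 LD2_c42 LD3_c35)) :=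
  Lre_c IH (LK LD1_c4 LD2_c22 LD3_c19) (LK LD1_c8 LD2_c42 LD3_c35) Lrfl Lrfl
theorem f349807 : Led Lsl_gf (LP (LK LD1_c8 LD2_c33 LD3_c34)) = (LP (LK LD1_c8 LD2_c42 LD3_c35)) :=
  Lgr Lrot129 (Lpe (f167576 IH) (Lpr_bt (f167572 IH) (Lpr_gt (K22.f230998 IH) (Lpe (K22.f178583 IH) (Lpr_ct (K12.f178655 IH) (Lpr_gt (K22.f231000 IH) (Lpr_cf (K22.f336338 IH) (Lpr_bt (f349795 IH) (Lpr_gt (f193237 IH) (Lpr_ct (f193255 IH) (Lpn (LP (LK LD1_c8 LD2_c42 LD3_c35)))))))))))))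
theorem f167571 : Led Lsl_bt (LP (LK LD1_c2 LD2_c2 LD3_c30)) = (LP (LK LD1_c4 LD2_c10 LD3_c34)) :=
  Lre_b IH (LK LD1_c2 LD2_c2 LD3_c30) (LK LD1_c4 LD2_c10 LD3_c34) Lrfl Lrfl
theorem f167573 : Led Lsl_et (LP (LK LD1_c4 LD2_c10 LD3_c34)) = (LP (LK LD1_c4 LD2_c17 LD3_c10)) :=
  Lgr Lrot74 (Lpe (f167571 IH) (Lpr_ef (K22.f167569 IH) (Lpe (f167572 IH) (Lpn (LP (LK LD1_c4 LD2_c17 LD3_c10))))))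
theorem f167575 : Led Lsl_ct (LP (LK LD1_c8 LD2_c21 LD3_c10)) = (LP (LK LD1_c4 LD2_c10 LD3_c34)) :=
  Lre_c IH (LK LD1_c8 LD2_c21 LD3_c10) (LK LD1_c4 LD2_c10 LD3_c34) Lrfl Lrfl
theorem f167577 : Led Lsl_ef (LP (LK LD1_c8 LD2_c21 LD3_c10)) = (LP (LK LD1_c8 LD2_c33 LD3_c34)) :=
  Lgr Lrot28 (Lpr_ct (f167575 IH) (Lpr_et (f167573 IH) (Lpr_ct (f167576 IH) (Lpn (LP (LK LD1_c8 LD2_c33 LD3_c34))))))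
theorem f167583 : Led Lsl_et (LP (LK LD1_c8 LD2_c21 LD3_c10)) = (LP (LK LD1_c8 LD2_c33 LD3_c34)) :=
  Lgr Lrot87 (Lpr_ef (f167577 IH) (Lpn (LP (LK LD1_c8 LD2_c33 LD3_c34))))
theorem f167580 : Led Lsl_dt (LP (LK LD1_c8 LD2_c21 LD3_c10)) = (LP (LK LD1_c15 LD2_c43 LD3_c18)) :=
  Lre_d IH (LK LD1_c8 LD2_c21 LD3_c10) (LK LD1_c15 LD2_c43 LD3_c18) Lrfl Lrfl
theorem f250724 : Led Lsl_et (LP (LK LD1_c4 LD2_c22 LD3_c18)) = (LP (LK LD1_c8 LD2_c42 LD3_c35)) :=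
  Lre_e IH (LK LD1_c4 LD2_c22 LD3_c18) (LK LD1_c8 LD2_c42 LD3_c35) Lrfl Lrfl
theorem f1306 : Led Lsl_et (LP (LK LD1_c8 LD2_c16 LD3_c53)) = (LP (LK LD1_c4 LD2_c8 LD3_c23)) :=
  Lre_e IH (LK LD1_c8 LD2_c16 LD3_c53) (LK LD1_c4 LD2_c8 LD3_c23) Lrfl Lrfl
theorem f1307 : Led Lsl_dt (LP (LK LD1_c8 LD2_c16 LD3_c53)) = (LP (LK LD1_c15 LD2_c34 LD3_c20)) :=
  Lre_d IH (LK LD1_c8 LD2_c16 LD3_c53) (LK LD1_c15 LD2_c34 LD3_c20) Lrfl Lrfl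
theorem f349814 : Led Lsl_gt (LP (LK LD1_c15 LD2_c43 LD3_c18)) = (LP (LK LD1_c15 LD2_c34 LD3_c20)) :=
  Lgr Lrot112 (Lpe (f167580 IH) (Lpr_et (f167583 IH) (Lpr_gf (f349807 IH) (Lpe (f250724 IH) (Lpe (K14.f250709 IH) (Lpe (K14.f895 IH) (Lpe (K13.f894 IH) (Lpe (K14.f1305 IH) (Lpe (f1306 IH) (Lpr_dt (f1307 IH) (Lpn (LP (LK LD1_c15 LD2_c34 LD3_c20)))))))))))))
theorem f1320 : Led Lsl_dt (LP (LK LD1_c4 LD2_c9 LD3_c46)) = (LP (LK LD1_c8 LD2_c19 LD3_c38)) :=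
  Lre_d IH (LK LD1_c4 LD2_c9 LD3_c46) (LK LD1_c8 LD2_c19 LD3_c38) Lrfl Lrfl
theorem f263611 : Led Lsl_dt (LP (LK LD1_c15 LD2_c34 LD3_c20)) = (LP (LK LD1_c8 LD2_c16 LD3_c53)) :=
  Lre_d IH (LK LD1_c15 LD2_c34 LD3_c20) (LK LD1_c8 LD2_c16 LD3_c53) Lrfl Lrfl
theorem f273755 : Led Lsl_at (LP (LK LD1_c8 LD2_c19 LD3_c38)) = (LP (LK LD1_c15 LD2_c34 LD3_c20)) :=
  Lgr Lrot51 (Lpe (f1320 IH) (Lpr_af (K17.f273750 IH) (Lpe (f263611 IH) (Lpn (LP (LK LD1_c15 LD2_c34 LD3_c20))))))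
theorem f236737 : Led Lsl_ft (LP (LK LD1_c15 LD2_c40 LD3_c8)) = (LP (LK LD1_c8 LD2_c19 LD3_c38)) :=
  Lre_f IH (LK LD1_c15 LD2_c40 LD3_c8) (LK LD1_c8 LD2_c19 LD3_c38) Lrfl Lrfl
theorem f349816 : Led Lsl_gf (LP (LK LD1_c15 LD2_c43 LD3_c18)) = (LP (LK LD1_c15 LD2_c40 LD3_c8)) :=
  Lgr Lrot47 (Lpr_gt (f349814 IH) (Lpe (f273755 IH) (Lpe (f236737 IH) (Lpn (LP (LK LD1_c15 LD2_c40 LD3_c8))))))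
theorem f167591 : Led Lsl_gt (LP (LK LD1_c8 LD2_c33 LD3_c34)) = (LP (LK LD1_c16 LD2_c3 LD3_c57)) :=
  Lre_g IH (LK LD1_c8 LD2_c33 LD3_c34) (LK LD1_c16 LD2_c3 LD3_c57) Lrfl Lrfl
theorem f236740 : Led Lsl_dt (LP (LK LD1_c8 LD2_c19 LD3_c39)) = (LP (LK LD1_c15 LD2_c40 LD3_c8)) :=
  Lre_d IH (LK LD1_c8 LD2_c19 LD3_c39) (LK LD1_c15 LD2_c40 LD3_c8) Lrfl Lrfl
theorem f341728 : Led Lsl_et (LP (LK LD1_c25 LD2_c27 LD3_c50)) = (LP (LK LD1_c15 LD2_c34 LD3_c6)) :=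
  Lre_e IH (LK LD1_c25 LD2_c27 LD3_c50) (LK LD1_c15 LD2_c34 LD3_c6) Lrfl Lrfl
theorem f216862 : Led Lsl_et (LP (LK LD1_c5 LD2_c29 LD3_c39)) = (LP (LK LD1_c2 LD2_c41 LD3_c5)) :=
  Lre_e IH (LK LD1_c5 LD2_c29 LD3_c39) (LK LD1_c2 LD2_c41 LD3_c5) Lrfl Lrfl
theorem f341731 : Led Lsl_df (LP (LK LD1_c19 LD2_c36 LD3_c2)) = (LP (LK LD1_c25 LD2_c27 LD3_c50)) :=
  Lgr Lrot170 (Lpr_gt (f168392 IH) (Lpe (K22.f213803 IH) (Lpr_et (f216862 IH) (Lpe (K12.f220338 IH) (Lpr_dt (K13.f220045 IH) (Lpe (K14.f254773 IH) (Lpe (K14.f47725 IH) (Lpr_et (K17.f234196 IH) (Lpr_gt (f341726 IH) (Lpe (f341728 IH) (Lpn (LP (LK LD1_c25 LD2_c27 LD3_c50)))))))))))))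
theorem f349825 : Led Lsl_ef (LP (LK LD1_c16 LD2_c3 LD3_c57)) = (LP (LK LD1_c15 LD2_c37 LD3_c23)) :=
  Lgr Lrot17 (Lpe (f167591 IH) (Lpe (f167583 IH) (Lpr_dt (f167580 IH) (Lpr_gf (f349816 IH) (Lpe (f236740 IH) (Lpr_gf (f341724 IH) (Lpe (f341728 IH) (Lpe (f341731 IH) (Lpr_gf (f295878 IH) (Lpe (K18.f295816 IH) (Lpn (LP (LK LD1_c15 LD2_c37 LD3_c23)))))))))))))
theorem f220001 : Led Lsl_et (LP (LK LD1_c15 LD2_c15 LD3_c2)) = (LP (LK LD1_c8 LD2_c6 LD3_c1)) :=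
  Lre_e IH (LK LD1_c15 LD2_c15 LD3_c2) (LK LD1_c8 LD2_c6 LD3_c1) Lrfl Lrfl
theorem f349834 : Led Lsl_ft (LP (LK LD1_c16 LD2_c3 LD3_c57)) = (LP (LK LD1_c15 LD2_c15 LD3_c2)) :=
  Lgr Lrot86 (Lpr_ef (f349825 IH) (Lpe (K18.f295854 IH) (Lpe (K19.f220488 IH) (Lpr_ff (K12.f220036 IH) (Lpe (f220001 IH) (Lpn (LP (LK LD1_c15 LD2_c15 LD3_c2))))))))
theorem f219965 : Led Lsl_ct (LP (LK LD1_c15 LD2_c15 LD3_c2)) = (LP (LK LD1_c8 LD2_c6 LD3_c2)) :=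
  Lre_c IH (LK LD1_c15 LD2_c15 LD3_c2) (LK LD1_c8 LD2_c6 LD3_c2) Lrfl Lrfl
theorem f349839 : Led Lsl_cf (LP (LK LD1_c16 LD2_c3 LD3_c57)) = (LP (LK LD1_c15 LD2_c15 LD3_c4)) :=
  Lgr Lrot108 (Lpr_ft (f349834 IH) (Lpr_ct (f219965 IH) (Lpr_ft (K17.f287013 IH) (Lpn (LP (LK LD1_c15 LD2_c15 LD3_c4))))))
theorem f169372 : Led Lsl_bt (LP (LK LD1_c2 LD2_c5 LD3_c44)) = (LP (LK LD1_c0 LD2_c59 LD3_c57)) :=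
  Lre_b IH (LK LD1_c2 LD2_c5 LD3_c44) (LK LD1_c0 LD2_c59 LD3_c57) Lrfl Lrfl
theorem f169394 : Led Lsl_gt (LP (LK LD1_c8 LD2_c33 LD3_c13)) = (LP (LK LD1_c4 LD2_c16 LD3_c55)) :=
  Lre_g IH (LK LD1_c8 LD2_c33 LD3_c13) (LK LD1_c4 LD2_c16 LD3_c55) Lrfl Lrfl
theorem f266229 : Led Lsl_gt (LP (LK LD1_c24 LD2_c45 LD3_c46)) = (LP (LK LD1_c14 LD2_c58 LD3_c12)) :=
  Lre_g IH (LK LD1_c24 LD2_c45 LD3_c46) (LK LD1_c14 LD2_c58 LD3_c12) Lrfl Lrfl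
theorem f349853 : Led Lsl_cf (LP (LK LD1_c8 LD2_c33 LD3_c13)) = (LP (LK LD1_c14 LD2_c58 LD3_c12)) :=
  Lgr Lrot125 (Lpr_gt (f169394 IH) (Lpe (K21.f169373 IH) (Lpr_bt (f169372 IH) (Lpr_gt (K22.f1395 IH) (Lpe (f167572 IH) (Lpr_ct (f167576 IH) (Lpr_gt (f167591 IH) (Lpr_cf (f349839 IH) (Lpr_bt (K17.f287014 IH) (Lpr_gt (f266229 IH) (Lpn (LP (LK LD1_c14 LD2_c58 LD3_c12)))))))))))))
theorem f169389 : Led Lsl_ct (LP (LK LD1_c4 LD2_c16 LD3_c55)) = (LP (LK LD1_c2 LD2_c5 LD3_c44)) :=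
  Lre_c IH (LK LD1_c4 LD2_c16 LD3_c55) (LK LD1_c2 LD2_c5 LD3_c44) Lrfl Lrfl
theorem f165991 : Led Lsl_gt (LP (LK LD1_c10 LD2_c22 LD3_c28)) = (LP (LK LD1_c5 LD2_c16 LD3_c28)) :=
  Lre_g IH (LK LD1_c10 LD2_c22 LD3_c28) (LK LD1_c5 LD2_c16 LD3_c28) Lrfl Lrfl
theorem f229537 : Led Lsl_gt (LP (LK LD1_c10 LD2_c8 LD3_c37)) = (LP (LK LD1_c5 LD2_c9 LD3_c2)) :=
  Lre_g IH (LK LD1_c10 LD2_c8 LD3_c37) (LK LD1_c5 LD2_c9 LD3_c2) Lrfl Lrfl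
theorem f266221 : Led Lsl_gf (LP (LK LD1_c10 LD2_c8 LD3_c37)) = (LP (LK LD1_c17 LD2_c46 LD3_c56)) :=
  Lgr Lrot47 (Lpr_gt (f229537 IH) (Lpr_af (K15.f266213 IH) (Lpe (K15.f230103 IH) (Lpn (LP (LK LD1_c17 LD2_c46 LD3_c56))))))
theorem f349865 : Led Lsl_cf (LP (LK LD1_c10 LD2_c22 LD3_c28)) = (LP (LK LD1_c10 LD2_c8 LD3_c37)) :=
  Lgr Lrot169 (Lpr_gt (f165991 IH) (Lpr_ct (K19.f165977 IH) (Lpe (K21.f169339 IH) (Lpe (f169389 IH) (Lpe (f169394 IH) (Lpr_cf (f349853 IH) (Lpe (f266229 IH) (Lpr_df (K15.f266225 IH) (Lpe (f266221 IH) (Lpn (LP (LK LD1_c10 LD2_c8 LD3_c37))))))))))))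
theorem f165934 : Led Lsl_ct (LP (LK LD1_c2 LD2_c34 LD3_c61)) = (LP (LK LD1_c5 LD2_c16 LD3_c28)) :=
  Lre_c IH (LK LD1_c2 LD2_c34 LD3_c61) (LK LD1_c5 LD2_c16 LD3_c28) Lrfl Lrfl
theorem f283053 : Led Lsl_gf (LP (LK LD1_c15 LD2_c31 LD3_c25)) = (LP (LK LD1_c11 LD2_c55 LD3_c29)) :=
  Lgr Lrot47 (Lpr_gt (f231635 IH) (Lpr_af (K17.f283038 IH) (Lpe (K17.f283050 IH) (Lpn (LP (LK LD1_c11 LD2_c55 LD3_c29))))))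
theorem f182959 : Led Lsl_ft (LP (LK LD1_c11 LD2_c52 LD3_c26)) = (LP (LK LD1_c20 LD2_c55 LD3_c20)) :=
  Lre_f IH (LK LD1_c11 LD2_c52 LD3_c26) (LK LD1_c20 LD2_c55 LD3_c20) Lrfl Lrfl
theorem f343689 : Led Lsl_gt (LP (LK LD1_c11 LD2_c52 LD3_c26)) = (LP (LK LD1_c10 LD2_c44 LD3_c26)) :=
  Lgr Lrot5 (Lpr_ft (f182959 IH) (Lpr_at (K21.f324770 IH) (Lpr_gf (f343687 IH) (Lpn (LP (LK LD1_c10 LD2_c44 LD3_c26))))))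
theorem f348180 : Led Lsl_gf (LP (LK LD1_c2 LD2_c59 LD3_c14)) = (LP (LK LD1_c2 LD2_c39 LD3_c43)) :=
  Lgr Lrot124 (Lpe (K21.f246007 IH) (Lpr_ct (f283055 IH) (Lpe (f283053 IH) (Lpe (f301171 IH) (Lpr_bt (f348174 IH) (Lpr_gt (K20.f182943 IH) (Lpe (K22.f182932 IH) (Lpr_gt (f343689 IH) (Lpe (f286183 IH) (Lpr_bt (f286182 IH) (Lpn (LP (LK LD1_c2 LD2_c39 LD3_c43)))))))))))))
theorem f181790 : Led Lsl_dt (LP (LK LD1_c1 LD2_c25 LD3_c11)) = (LP (LK LD1_c1 LD2_c2 LD3_c59)) :=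
  Lgr Lrot77 (Lpe (K15.f181197 IH) (Lpe (K9.f181189 IH) (Lpe (K9.f181178 IH) (Lpr_df (K9.f181218 IH) (Lpe (K16.f7634 IH) (Lpn (LP (LK LD1_c1 LD2_c2 LD3_c59))))))))
theorem f264557 : Led Lsl_gf (LP (LK LD1_c4 LD2_c29 LD3_c0)) = (LP (LK LD1_c4 LD2_c30 LD3_c51)) :=
  Lgr Lrot134 (Lpe (K22.f264556 IH) (Lpr_et (K22.f264550 IH) (Lpr_gt (K22.f181198 IH) (Lpe (K15.f181197 IH) (Lpr_dt (K9.f181175 IH) (Lpr_gt (K9.f181193 IH) (Lpe (K0.f7645 IH) (Lpr_et (K0.f7642 IH) (Lpr_gt (K20.f7652 IH) (Lpr_dt (K20.f7653 IH) (Lpn (LP (LK LD1_c4 LD2_c30 LD3_c51)))))))))))))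
theorem f276164 : Led Lsl_gt (LP (LK LD1_c2 LD2_c42 LD3_c37)) = (LP (LK LD1_c4 LD2_c17 LD3_c58)) :=
  Lgr Lrot131 (Lpe (K22.f276163 IH) (Lpr_dt (K21.f276155 IH) (Lpe (K21.f181804 IH) (Lpe (f181790 IH) (Lpe (K22.f181198 IH) (Lpe (K22.f264550 IH) (Lpr_dt (K22.f264556 IH) (Lpr_gf (f264557 IH) (Lpe (K20.f7653 IH) (Lpe (K20.f183276 IH) (Lpn (LP (LK LD1_c4 LD2_c17 LD3_c58)))))))))))))
theorem f267661 : Led Lsl_dt (LP (LK LD1_c5 LD2_c26 LD3_c40)) = (LP (LK LD1_c2 LD2_c39 LD3_c43)) :=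
  Lre_d IH (LK LD1_c5 LD2_c26 LD3_c40) (LK LD1_c2 LD2_c39 LD3_c43) Lrfl Lrfl
theorem f348186 : Led Lsl_gt (LP (LK LD1_c4 LD2_c17 LD3_c59)) = (LP (LK LD1_c5 LD2_c26 LD3_c40)) :=
  Lgr Lrot137 (Lpe (K20.f178855 IH) (Lpr_dt (K20.f178857 IH) (Lpe (f276164 IH) (Lpe (K22.f333725 IH) (Lpr_et (K22.f333729 IH) (Lpe (K22.f335661 IH) (Lpe (K13.f245780 IH) (Lpr_dt (K22.f245839 IH) (Lpr_gf (f348180 IH) (Lpe (f267661 IH) (Lpn (LP (LK LD1_c5 LD2_c26 LD3_c40)))))))))))))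
theorem f348189 : Led Lsl_et (LP (LK LD1_c6 LD2_c6 LD3_c14)) = (LP (LK LD1_c5 LD2_c26 LD3_c40)) :=
  Lgr Lrot122 (Lpr_dt (K22.f179805 IH) (Lpe (K22.f246008 IH) (Lpr_df (K13.f245928 IH) (Lpe (K13.f245827 IH) (Lpr_gt (K22.f333734 IH) (Lpr_dt (K22.f333725 IH) (Lpr_gt (f276164 IH) (Lpe (K20.f178857 IH) (Lpr_et (K20.f178855 IH) (Lpr_gt (f348186 IH) (Lpn (LP (LK LD1_c5 LD2_c26 LD3_c40)))))))))))))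
theorem f167228 : Led Lsl_gt (LP (LK LD1_c4 LD2_c10 LD3_c59)) = (LP (LK LD1_c2 LD2_c2 LD3_c45)) :=
  Lre_g IH (LK LD1_c4 LD2_c10 LD3_c59) (LK LD1_c2 LD2_c2 LD3_c45) Lrfl Lrfl
theorem f348191 : Led Lsl_gf (LP (LK LD1_c4 LD2_c18 LD3_c13)) = (LP (LK LD1_c5 LD2_c26 LD3_c40)) :=
  Lgr Lrot141 (Lpe (K20.f322393 IH) (Lpe (K20.f322387 IH) (Lpe (K20.f307923 IH) (Lpe (K9.f178550 IH) (Lpe (K20.f231059 IH) (Lpr_gt (K20.f322383 IH) (Lpe (K13.f179790 IH) (Lpr_gt (K22.f179794 IH) (Lpe (K22.f179805 IH) (Lpr_et (f348189 IH) (Lpn (LP (LK LD1_c5 LD2_c26 LD3_c40)))))))))))))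
theorem f348193 : Led Lsl_df (LP (LK LD1_c4 LD2_c10 LD3_c59)) = (LP (LK LD1_c4 LD2_c18 LD3_c13)) :=
  Lgr Lrot135 (Lpr_gt (f167228 IH) (Lpe (K13.f167227 IH) (Lpr_et (K13.f167226 IH) (Lpe (K9.f167080 IH) (Lpe (K13.f53447 IH) (Lpe (K13.f179790 IH) (Lpr_gt (K22.f179794 IH) (Lpe (K22.f179805 IH) (Lpr_et (f348189 IH) (Lpe (f348191 IH) (Lpn (LP (LK LD1_c4 LD2_c18 LD3_c13)))))))))))))
theorem f322389 : Led Lsl_dt (LP (LK LD1_c2 LD2_c35 LD3_c0)) = (LP (LK LD1_c2 LD2_c6 LD3_c23)) :=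
  Lgr Lrot42 (Lpr_df (K20.f322387 IH) (Lpn (LP (LK LD1_c2 LD2_c6 LD3_c23))))
theorem f333364 : Led Lsl_df (LP (LK LD1_c5 LD2_c16 LD3_c32)) = (LP (LK LD1_c5 LD2_c13 LD3_c24)) :=
  Lgr Lrot38 (Lpr_dt (K22.f333361 IH) (Lpn (LP (LK LD1_c5 LD2_c13 LD3_c24))))
theorem f348198 : Led Lsl_et (LP (LK LD1_c4 LD2_c10 LD3_c59)) = (LP (LK LD1_c5 LD2_c13 LD3_c24)) :=
  Lgr Lrot71 (Lpr_df (f348193 IH) (Lpe (K20.f322393 IH) (Lpe (f322389 IH) (Lpe (K22.f169427 IH) (Lpr_df (f333364 IH) (Lpn (LP (LK LD1_c5 LD2_c13 LD3_c24))))))))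
theorem f348196 : Led Lsl_dt (LP (LK LD1_c4 LD2_c10 LD3_c59)) = (LP (LK LD1_c4 LD2_c18 LD3_c13)) :=
  Lgr Lrot42 (Lpr_df (f348193 IH) (Lpn (LP (LK LD1_c4 LD2_c18 LD3_c13))))
theorem f322402 : Led Lsl_dt (LP (LK LD1_c2 LD2_c39 LD3_c44)) = (LP (LK LD1_c4 LD2_c12 LD3_c6)) :=
  Lgr Lrot42 (Lpr_df (K20.f322396 IH) (Lpn (LP (LK LD1_c4 LD2_c12 LD3_c6))))
theorem f348204 : Led Lsl_gt (LP (LK LD1_c5 LD2_c26 LD3_c42)) = (LP (LK LD1_c4 LD2_c11 LD3_c21)) :=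
  Lgr Lrot137 (Lpe (K20.f245909 IH) (Lpr_dt (f322402 IH) (Lpr_gf (K20.f322394 IH) (Lpe (f348196 IH) (Lpr_et (f348198 IH) (Lpr_gf (K22.f304267 IH) (Lpe (K19.f304255 IH) (Lpr_dt (K19.f310194 IH) (Lpe (K20.f310285 IH) (Lpe (K21.f195720 IH) (Lpn (LP (LK LD1_c4 LD2_c11 LD3_c21)))))))))))))
theorem f322379 : Led Lsl_ef (LP (LK LD1_c2 LD2_c40 LD3_c37)) = (LP (LK LD1_c2 LD2_c59 LD3_c5)) :=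
  Lgr Lrot88 (Lpr_et (K20.f322369 IH) (Lpn (LP (LK LD1_c2 LD2_c59 LD3_c5))))
theorem f348206 : Led Lsl_gf (LP (LK LD1_c4 LD2_c10 LD3_c59)) = (LP (LK LD1_c2 LD2_c40 LD3_c37)) :=
  Lgr Lrot138 (Lpr_dt (f348196 IH) (Lpe (K20.f322394 IH) (Lpe (f322402 IH) (Lpr_et (K20.f245909 IH) (Lpr_gt (f348204 IH) (Lpe (K21.f309731 IH) (Lpr_dt (K21.f309718 IH) (Lpr_gt (K22.f333432 IH) (Lpr_df (K22.f322377 IH) (Lpe (f322379 IH) (Lpn (LP (LK LD1_c2 LD2_c40 LD3_c37)))))))))))))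
theorem f7790 : Led Lsl_ct (LP (LK LD1_c5 LD2_c28 LD3_c25)) = (LP (LK LD1_c10 LD2_c47 LD3_c53)) :=
  Lre_c IH (LK LD1_c5 LD2_c28 LD3_c25) (LK LD1_c10 LD2_c47 LD3_c53) Lrfl Lrfl
theorem f228881 : Led Lsl_gt (LP (LK LD1_c5 LD2_c36 LD3_c23)) = (LP (LK LD1_c2 LD2_c44 LD3_c3)) :=
  Lre_g IH (LK LD1_c5 LD2_c36 LD3_c23) (LK LD1_c2 LD2_c44 LD3_c3) Lrfl Lrfl
theorem f348208 : Led Lsl_ct (LP (LK LD1_c4 LD2_c10 LD3_c59)) = (LP (LK LD1_c5 LD2_c36 LD3_c23)) :=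
  Lgr Lrot91 (Lpr_gf (f348206 IH) (Lpe (K12.f7783 IH) (Lpr_ct (f7790 IH) (Lpe (K20.f279017 IH) (Lpe (f341036 IH) (Lpr_bt (f261184 IH) (Lpe (K19.f181257 IH) (Lpe (K22.f181256 IH) (Lpr_ct (f181253 IH) (Lpe (f228881 IH) (Lpn (LP (LK LD1_c5 LD2_c36 LD3_c23)))))))))))))
theorem f179084 : Led Lsl_ct (LP (LK LD1_c2 LD2_c2 LD3_c26)) = (LP (LK LD1_c4 LD2_c10 LD3_c24)) :=
  Lre_c IH (LK LD1_c2 LD2_c2 LD3_c26) (LK LD1_c4 LD2_c10 LD3_c24) Lrfl Lrfl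
theorem f228879 : Led Lsl_ct (LP (LK LD1_c2 LD2_c3 LD3_c56)) = (LP (LK LD1_c0 LD2_c58 LD3_c57)) :=
  Lre_c IH (LK LD1_c2 LD2_c3 LD3_c56) (LK LD1_c0 LD2_c58 LD3_c57) Lrfl Lrfl
theorem f348230 : Led Lsl_gt (LP (LK LD1_c4 LD2_c10 LD3_c24)) = (LP (LK LD1_c2 LD2_c3 LD3_c56)) :=
  Lgr Lrot150 (Lpe (f179084 IH) (Lpe (K20.f322383 IH) (Lpr_df (K12.f7775 IH) (Lpe (f348206 IH) (Lpr_ct (f348208 IH) (Lpr_gt (f228881 IH) (Lpr_ct (K22.f181254 IH) (Lpr_df (K22.f228824 IH) (Lpe (f228879 IH) (Lpn (LP (LK LD1_c2 LD2_c3 LD3_c56))))))))))))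
theorem f271097 : Led Lsl_ct (LP (LK LD1_c0 LD2_c58 LD3_c57)) = (LP (LK LD1_c2 LD2_c3 LD3_c56)) :=
  Lre_c IH (LK LD1_c0 LD2_c58 LD3_c57) (LK LD1_c2 LD2_c3 LD3_c56) Lrfl Lrfl
theorem f228873 : Led Lsl_bt (LP (LK LD1_c0 LD2_c58 LD3_c57)) = (LP (LK LD1_c2 LD2_c3 LD3_c51)) :=
  Lre_b IH (LK LD1_c0 LD2_c58 LD3_c57) (LK LD1_c2 LD2_c3 LD3_c51) Lrfl Lrfl
theorem f348232 : Led Lsl_gf (LP (LK LD1_c15 LD2_c48 LD3_c11)) = (LP (LK LD1_c8 LD2_c25 LD3_c41)) :=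
  Lgr Lrot129 (Lpe (K18.f298699 IH) (Lpr_bt (K14.f220667 IH) (Lpe (K15.f262078 IH) (Lpr_bf (K21.f220156 IH) (Lpr_ct (f179084 IH) (Lpr_gt (f348230 IH) (Lpe (f271097 IH) (Lpr_bt (f228873 IH) (Lpr_gt (K20.f228839 IH) (Lpr_ct (f228845 IH) (Lpn (LP (LK LD1_c8 LD2_c25 LD3_c41)))))))))))))
theorem f220161 : Led Lsl_ct (LP (LK LD1_c4 LD2_c8 LD3_c41)) = (LP (LK LD1_c8 LD2_c17 LD3_c25)) :=
  Lre_c IH (LK LD1_c4 LD2_c8 LD3_c41) (LK LD1_c8 LD2_c17 LD3_c25) Lrfl Lrfl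
theorem f348234 : Led Lsl_gt (LP (LK LD1_c8 LD2_c17 LD3_c25)) = (LP (LK LD1_c10 LD2_c52 LD3_c1)) :=
  Lgr Lrot149 (Lpe (f220161 IH) (Lpr_gf (K15.f262078 IH) (Lpe (K14.f220667 IH) (Lpr_ct (K18.f298699 IH) (Lpr_gf (f348232 IH) (Lpe (f228845 IH) (Lpr_bt (K21.f271111 IH) (Lpr_gf (f330900 IH) (Lpr_bf (K21.f317255 IH) (Lpr_ct (K21.f219103 IH) (Lpn (LP (LK LD1_c10 LD2_c52 LD3_c1)))))))))))))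
theorem f219112 : Led Lsl_cf (LP (LK LD1_c9 LD2_c41 LD3_c42)) = (LP (LK LD1_c10 LD2_c52 LD3_c1)) :=
  Lgr Lrot11 (Lpr_ct (K21.f219103 IH) (Lpn (LP (LK LD1_c10 LD2_c52 LD3_c1))))
theorem f325835 : Led Lsl_bt (LP (LK LD1_c8 LD2_c21 LD3_c46)) = (LP (LK LD1_c4 LD2_c10 LD3_c59)) :=
  Lre_b IH (LK LD1_c8 LD2_c21 LD3_c46) (LK LD1_c4 LD2_c10 LD3_c59) Lrfl Lrfl
theorem f325836 : Led Lsl_ct (LP (LK LD1_c8 LD2_c21 LD3_c46)) = (LP (LK LD1_c15 LD2_c44 LD3_c14)) :=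
  Lre_c IH (LK LD1_c8 LD2_c21 LD3_c46) (LK LD1_c15 LD2_c44 LD3_c14) Lrfl Lrfl
theorem f254845 : Led Lsl_bt (LP (LK LD1_c25 LD2_c7 LD3_c59)) = (LP (LK LD1_c15 LD2_c17 LD3_c34)) :=
  Lre_b IH (LK LD1_c25 LD2_c7 LD3_c59) (LK LD1_c15 LD2_c17 LD3_c34) Lrfl Lrfl
theorem f254868 : Led Lsl_bt (LP (LK LD1_c8 LD2_c55 LD3_c51)) = (LP (LK LD1_c16 LD2_c43 LD3_c1)) :=
  Lre_b IH (LK LD1_c8 LD2_c55 LD3_c51) (LK LD1_c16 LD2_c43 LD3_c1) Lrfl Lrfl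
theorem f254869 : Led Lsl_ct (LP (LK LD1_c8 LD2_c17 LD3_c10)) = (LP (LK LD1_c8 LD2_c55 LD3_c51)) :=
  Lgr Lrot83 (Lpe (K21.f232190 IH) (Lpe (K22.f254840 IH) (Lpe (f254845 IH) (Lpr_cf (K14.f254860 IH) (Lpe (f254868 IH) (Lpn (LP (LK LD1_c8 LD2_c55 LD3_c51))))))))
theorem f348210 : Led Lsl_gt (LP (LK LD1_c15 LD2_c44 LD3_c14)) = (LP (LK LD1_c8 LD2_c55 LD3_c51)) :=
  Lgr Lrot65 (Lpe (f325836 IH) (Lpr_bt (f325835 IH) (Lpr_gf (f348206 IH) (Lpe (K12.f7783 IH) (Lpr_ct (f7790 IH) (Lpe (K20.f279017 IH) (Lpe (f341036 IH) (Lpr_gf (f341031 IH) (Lpe (K14.f232199 IH) (Lpr_ct (f254869 IH) (Lpn (LP (LK LD1_c8 LD2_c55 LD3_c51)))))))))))))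
theorem f348238 : Led Lsl_gt (LP (LK LD1_c5 LD2_c29 LD3_c52)) = (LP (LK LD1_c8 LD2_c21 LD3_c46)) :=
  Lgr Lrot9 (Lpe (K15.f220692 IH) (Lpe (K15.f262078 IH) (Lpr_ct (f220161 IH) (Lpr_gt (f348234 IH) (Lpe (f219112 IH) (Lpr_df (K19.f232188 IH) (Lpr_cf (K14.f254874 IH) (Lpe (f348210 IH) (Lpe (f325836 IH) (Lpn (LP (LK LD1_c8 LD2_c21 LD3_c46))))))))))))
theorem f273526 : Led Lsl_et (LP (LK LD1_c4 LD2_c16 LD3_c11)) = (LP (LK LD1_c8 LD2_c29 LD3_c57)) :=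
  Lgr Lrot71 (Lpe (K16.f273439 IH) (Lpe (K16.f261467 IH) (Lpr_df (K16.f273402 IH) (Lpr_ef (f273524 IH) (Lpe (K16.f49058 IH) (Lpn (LP (LK LD1_c8 LD2_c29 LD3_c57))))))))
theorem f250638 : Led Lsl_et (LP (LK LD1_c8 LD2_c31 LD3_c47)) = (LP (LK LD1_c4 LD2_c16 LD3_c17)) :=
  Lre_e IH (LK LD1_c8 LD2_c31 LD3_c47) (LK LD1_c4 LD2_c16 LD3_c17) Lrfl Lrfl
theorem f348240 : Led Lsl_dt (LP (LK LD1_c8 LD2_c31 LD3_c47)) = (LP (LK LD1_c8 LD2_c21 LD3_c46)) :=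
  Lgr Lrot56 (Lpr_et (f250638 IH) (Lpr_gt (f273535 IH) (Lpe (f273526 IH) (Lpe (K16.f273444 IH) (Lpe (K18.f301547 IH) (Lpr_df (K18.f301411 IH) (Lpr_et (K18.f301413 IH) (Lpr_gt (K17.f262066 IH) (Lpr_dt (K15.f220692 IH) (Lpr_gt (f348238 IH) (Lpn (LP (LK LD1_c8 LD2_c21 LD3_c46)))))))))))))
theorem f348244 : Led Lsl_df (LP (LK LD1_c8 LD2_c31 LD3_c47)) = (LP (LK LD1_c8 LD2_c21 LD3_c46)) :=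
  Lgr Lrot38 (Lpr_dt (f348240 IH) (Lpn (LP (LK LD1_c8 LD2_c21 LD3_c46))))
theorem f273545 : Led Lsl_dt (LP (LK LD1_c4 LD2_c16 LD3_c17)) = (LP (LK LD1_c5 LD2_c15 LD3_c57)) :=
  Lgr Lrot42 (Lpr_df (f273539 IH) (Lpn (LP (LK LD1_c5 LD2_c15 LD3_c57))))
theorem f273547 : Led Lsl_et (LP (LK LD1_c4 LD2_c16 LD3_c17)) = (LP (LK LD1_c8 LD2_c31 LD3_c47)) :=
  Lre_e IH (LK LD1_c4 LD2_c16 LD3_c17) (LK LD1_c8 LD2_c31 LD3_c47) Lrfl Lrfl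
theorem f273550 : Led Lsl_gt (LP (LK LD1_c8 LD2_c31 LD3_c47)) = (LP (LK LD1_c8 LD2_c20 LD3_c7)) :=
  Lgr Lrot137 (Lpe (f273547 IH) (Lpr_dt (f273545 IH) (Lpe (f47600 IH) (Lpr_df (K10.f47587 IH) (Lpr_et (K10.f47569 IH) (Lpe (K14.f47674 IH) (Lpr_ef (K14.f250656 IH) (Lpr_dt (K14.f236168 IH) (Lpe (K14.f231615 IH) (Lpe (K14.f250653 IH) (Lpn (LP (LK LD1_c8 LD2_c20 LD3_c7)))))))))))))
theorem f1376 : Led Lsl_dt (LP (LK LD1_c4 LD2_c9 LD3_c58)) = (LP (LK LD1_c8 LD2_c20 LD3_c6)) :=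
  Lre_d IH (LK LD1_c4 LD2_c9 LD3_c58) (LK LD1_c8 LD2_c20 LD3_c6) Lrfl Lrfl
theorem f250646 : Led Lsl_df (LP (LK LD1_c8 LD2_c20 LD3_c7)) = (LP (LK LD1_c8 LD2_c15 LD3_c20)) :=
  Lgr Lrot70 (Lpr_et (K14.f1379 IH) (Lpr_dt (f1376 IH) (Lpr_et (K14.f250640 IH) (Lpr_dt (K21.f236162 IH) (Lpr_et (K14.f236155 IH) (Lpn (LP (LK LD1_c8 LD2_c15 LD3_c20))))))))
theorem f262088 : Led Lsl_et (LP (LK LD1_c8 LD2_c15 LD3_c59)) = (LP (LK LD1_c5 LD2_c29 LD3_c52)) :=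
  Lgr Lrot87 (Lpr_ef (K15.f262082 IH) (Lpn (LP (LK LD1_c5 LD2_c29 LD3_c52))))
theorem f262086 : Led Lsl_dt (LP (LK LD1_c8 LD2_c15 LD3_c59)) = (LP (LK LD1_c10 LD2_c23 LD3_c48)) :=
  Lgr Lrot77 (Lpr_ef (K15.f262082 IH) (Lpe (K15.f220692 IH) (Lpr_ef (K14.f251074 IH) (Lpr_df (K14.f49001 IH) (Lpe (K22.f251179 IH) (Lpn (LP (LK LD1_c10 LD2_c23 LD3_c48))))))))
theorem f251250 : Led Lsl_gf (LP (LK LD1_c10 LD2_c23 LD3_c48)) = (LP (LK LD1_c5 LD2_c17 LD3_c53)) :=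
  Lgr Lrot76 (Lpr_af (K15.f251245 IH) (Lpe (K15.f251207 IH) (Lpr_gt (f251249 IH) (Lpn (LP (LK LD1_c5 LD2_c17 LD3_c53))))))
theorem f348336 : Led Lsl_gt (LP (LK LD1_c10 LD2_c51 LD3_c53)) = (LP (LK LD1_c8 LD2_c18 LD3_c54)) :=
  Lgr Lrot131 (Lpr_ef (K14.f236163 IH) (Lpe (f250646 IH) (Lpe (f273550 IH) (Lpr_df (f348244 IH) (Lpe (f348238 IH) (Lpe (f262088 IH) (Lpr_dt (f262086 IH) (Lpr_gf (f251250 IH) (Lpe (f251253 IH) (Lpr_et (f348032 IH) (Lpn (LP (LK LD1_c8 LD2_c18 LD3_c54)))))))))))))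
theorem f250642 : Led Lsl_gt (LP (LK LD1_c4 LD2_c16 LD3_c18)) = (LP (LK LD1_c2 LD2_c5 LD3_c30)) :=
  Lre_g IH (LK LD1_c4 LD2_c16 LD3_c18) (LK LD1_c2 LD2_c5 LD3_c30) Lrfl Lrfl
theorem f348338 : Led Lsl_ef (LP (LK LD1_c4 LD2_c16 LD3_c18)) = (LP (LK LD1_c4 LD2_c9 LD3_c25)) :=
  Lgr Lrot114 (Lpr_gt (f250642 IH) (Lpe (K17.f250630 IH) (Lpr_dt (K14.f250628 IH) (Lpr_gt (K13.f168336 IH) (Lpe (K14.f168533 IH) (Lpr_et (K14.f250639 IH) (Lpr_gt (K14.f236153 IH) (Lpr_dt (K21.f236162 IH) (Lpr_gt (f348336 IH) (Lpe (f236257 IH) (Lpn (LP (LK LD1_c4 LD2_c9 LD3_c25)))))))))))))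
theorem f348345 : Led Lsl_gf (LP (LK LD1_c4 LD2_c16 LD3_c18)) = (LP (LK LD1_c8 LD2_c29 LD3_c57)) :=
  Lgr Lrot141 (Lpr_ef (f348338 IH) (Lpr_dt (f236257 IH) (Lpe (f348036 IH) (Lpe (f301156 IH) (Lpr_et (f348050 IH) (Lpr_gt (f167736 IH) (Lpr_dt (K12.f167726 IH) (Lpr_gt (K16.f167738 IH) (Lpr_df (K16.f273444 IH) (Lpr_et (f273526 IH) (Lpn (LP (LK LD1_c8 LD2_c29 LD3_c57)))))))))))))
theorem f47595 : Led Lsl_gt (LP (LK LD1_c5 LD2_c15 LD3_c58)) = (LP (LK LD1_c2 LD2_c34 LD3_c48)) :=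
  Lre_g IH (LK LD1_c5 LD2_c15 LD3_c58) (LK LD1_c2 LD2_c34 LD3_c48) Lrfl Lrfl
theorem f348354 : Led Lsl_dt (LP (LK LD1_c4 LD2_c16 LD3_c18)) = (LP (LK LD1_c5 LD2_c15 LD3_c58)) :=
  Lgr Lrot171 (Lpr_gf (f348345 IH) (Lpe (f273526 IH) (Lpe (K16.f273444 IH) (Lpe (K16.f167738 IH) (Lpe (K12.f167726 IH) (Lpr_et (K18.f167748 IH) (Lpr_gf (K12.f189099 IH) (Lpe (K10.f47569 IH) (Lpe (K10.f47587 IH) (Lpe (f47595 IH) (Lpn (LP (LK LD1_c5 LD2_c15 LD3_c58)))))))))))))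
theorem f348358 : Led Lsl_ef (LP (LK LD1_c5 LD2_c17 LD3_c53)) = (LP (LK LD1_c5 LD2_c15 LD3_c58)) :=
  Lgr Lrot73 (Lpr_dt (f251255 IH) (Lpr_et (f348032 IH) (Lpr_dt (f282998 IH) (Lpe (f348338 IH) (Lpr_dt (f348354 IH) (Lpn (LP (LK LD1_c5 LD2_c15 LD3_c58))))))))
theorem f348368 : Led Lsl_et (LP (LK LD1_c5 LD2_c17 LD3_c53)) = (LP (LK LD1_c5 LD2_c15 LD3_c58)) :=
  Lgr Lrot87 (Lpr_ef (f348358 IH) (Lpn (LP (LK LD1_c5 LD2_c15 LD3_c58))))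
theorem f185623 : Led Lsl_dt (LP (LK LD1_c2 LD2_c32 LD3_c55)) = (LP (LK LD1_c1 LD2_c16 LD3_c32)) :=
  Lgr Lrot79 (Lpe (K12.f185622 IH) (Lpr_df (K12.f185585 IH) (Lpe (K15.f182510 IH) (Lpn (LP (LK LD1_c1 LD2_c16 LD3_c32))))))
theorem f348372 : Led Lsl_gf (LP (LK LD1_c10 LD2_c25 LD3_c25)) = (LP (LK LD1_c15 LD2_c15 LD3_c24)) :=
  Lgr Lrot134 (Lpe (f251255 IH) (Lpr_et (f348368 IH) (Lpr_gt (f47595 IH) (Lpe (K10.f47567 IH) (Lpr_dt (K12.f47565 IH) (Lpr_gt (K14.f250683 IH) (Lpe (f185623 IH) (Lpr_et (K12.f185668 IH) (Lpr_gt (K17.f185678 IH) (Lpe (f254512 IH) (Lpn (LP (LK LD1_c15 LD2_c15 LD3_c24)))))))))))))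
theorem f333363 : Led Lsl_bt (LP (LK LD1_c5 LD2_c13 LD3_c24)) = (LP (LK LD1_c10 LD2_c17 LD3_c5)) :=
  Lre_b IH (LK LD1_c5 LD2_c13 LD3_c24) (LK LD1_c10 LD2_c17 LD3_c5) Lrfl Lrfl
theorem f348200 : Led Lsl_ef (LP (LK LD1_c8 LD2_c21 LD3_c46)) = (LP (LK LD1_c10 LD2_c17 LD3_c5)) :=
  Lgr Lrot29 (Lpr_bt (f325835 IH) (Lpr_et (f348198 IH) (Lpr_bt (f333363 IH) (Lpn (LP (LK LD1_c10 LD2_c17 LD3_c5))))))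
theorem f263431 : Led Lsl_dt (LP (LK LD1_c8 LD2_c6 LD3_c12)) = (LP (LK LD1_c10 LD2_c26 LD3_c21)) :=
  Lgr Lrot77 (Lpe (K17.f254509 IH) (Lpr_df (f254512 IH) (Lpr_ef (K17.f263429 IH) (Lpe (f32210 IH) (Lpe (K17.f48904 IH) (Lpn (LP (LK LD1_c10 LD2_c26 LD3_c21))))))))
theorem f348374 : Led Lsl_dt (LP (LK LD1_c10 LD2_c17 LD3_c5)) = (LP (LK LD1_c10 LD2_c21 LD3_c20)) :=
  Lgr Lrot136 (Lpe (f348200 IH) (Lpe (f348238 IH) (Lpe (f262088 IH) (Lpr_dt (f262086 IH) (Lpr_gf (f251250 IH) (Lpe (f251253 IH) (Lpr_gf (f348372 IH) (Lpe (K17.f254514 IH) (Lpr_dt (f263431 IH) (Lpe (f340319 IH) (Lpn (LP (LK LD1_c10 LD2_c21 LD3_c20)))))))))))))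
theorem f348376 : Led Lsl_bf (LP (LK LD1_c5 LD2_c16 LD3_c32)) = (LP (LK LD1_c10 LD2_c21 LD3_c20)) :=
  Lgr Lrot93 (Lpr_dt (K22.f333361 IH) (Lpr_bt (f333363 IH) (Lpr_dt (f348374 IH) (Lpn (LP (LK LD1_c10 LD2_c21 LD3_c20))))))
theorem f348425 : Led Lsl_bt (LP (LK LD1_c2 LD2_c35 LD3_c0)) = (LP (LK LD1_c5 LD2_c15 LD3_c57)) :=
  Lgr Lrot119 (Lpe (K22.f169427 IH) (Lpr_bf (f348376 IH) (Lpe (f273541 IH) (Lpn (LP (LK LD1_c5 LD2_c15 LD3_c57))))))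
theorem f348427 : Led Lsl_bf (LP (LK LD1_c2 LD2_c35 LD3_c0)) = (LP (LK LD1_c5 LD2_c15 LD3_c57)) :=
  Lgr Lrot24 (Lpr_bt (f348425 IH) (Lpn (LP (LK LD1_c5 LD2_c15 LD3_c57))))
theorem f47601 : Led Lsl_ct (LP (LK LD1_c5 LD2_c15 LD3_c57)) = (LP (LK LD1_c10 LD2_c21 LD3_c19)) :=
  Lre_c IH (LK LD1_c5 LD2_c15 LD3_c57) (LK LD1_c10 LD2_c21 LD3_c19) Lrfl Lrfl
theorem f230096 : Led Lsl_bt (LP (LK LD1_c10 LD2_c28 LD3_c59)) = (LP (LK LD1_c18 LD2_c59 LD3_c57)) :=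
  Lre_b IH (LK LD1_c10 LD2_c28 LD3_c59) (LK LD1_c18 LD2_c59 LD3_c57) Lrfl Lrfl
theorem f49510 : Led Lsl_bt (LP (LK LD1_c28 LD2_c14 LD3_c54)) = (LP (LK LD1_c18 LD2_c45 LD3_c3)) :=
  Lre_b IH (LK LD1_c28 LD2_c14 LD3_c54) (LK LD1_c18 LD2_c45 LD3_c3) Lrfl Lrfl
theorem f49508 : Led Lsl_ct (LP (LK LD1_c18 LD2_c45 LD3_c3)) = (LP (LK LD1_c15 LD2_c50 LD3_c56)) :=
  Lgr Lrot59 (Lpr_cf (K17.f49502 IH) (Lpn (LP (LK LD1_c15 LD2_c50 LD3_c56))))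
theorem f230125 : Led Lsl_bf (LP (LK LD1_c17 LD2_c46 LD3_c56)) = (LP (LK LD1_c15 LD2_c50 LD3_c56)) :=
  Lgr Lrot90 (Lpe (K17.f230089 IH) (Lpr_bt (f230096 IH) (Lpr_ct (K17.f230118 IH) (Lpr_bt (f49510 IH) (Lpr_ct (f49508 IH) (Lpn (LP (LK LD1_c15 LD2_c50 LD3_c56))))))))
theorem f349869 : Led Lsl_gt (LP (LK LD1_c10 LD2_c21 LD3_c19)) = (LP (LK LD1_c18 LD2_c45 LD3_c3)) :=
  Lgr Lrot65 (Lpe (f47601 IH) (Lpe (f348427 IH) (Lpe (K20.f165946 IH) (Lpe (K21.f165978 IH) (Lpr_ct (f165934 IH) (Lpe (f165991 IH) (Lpr_cf (f349865 IH) (Lpr_gf (f266221 IH) (Lpr_bf (f230125 IH) (Lpe (K17.f49502 IH) (Lpn (LP (LK LD1_c18 LD2_c45 LD3_c3)))))))))))))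
theorem f349830 : Led Lsl_ct (LP (LK LD1_c16 LD2_c3 LD3_c57)) = (LP (LK LD1_c15 LD2_c15 LD3_c4)) :=
  Lgr Lrot15 (Lpr_ef (f349825 IH) (Lpe (K18.f295850 IH) (Lpe (K18.f297693 IH) (Lpn (LP (LK LD1_c15 LD2_c15 LD3_c4))))))
theorem f349871 : Led Lsl_gt (LP (LK LD1_c4 LD2_c8 LD3_c14)) = (LP (LK LD1_c4 LD2_c17 LD3_c10)) :=
  Lgr Lrot9 (Lpe (K10.f47570 IH) (Lpr_gt (f47600 IH) (Lpr_ct (f47601 IH) (Lpr_gt (f349869 IH) (Lpr_ct (f49508 IH) (Lpe (K17.f287020 IH) (Lpe (f349830 IH) (Lpe (f167591 IH) (Lpe (f167576 IH) (Lpn (LP (LK LD1_c4 LD2_c17 LD3_c10))))))))))))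
theorem f349873 : Led Lsl_gf (LP (LK LD1_c4 LD2_c8 LD3_c50)) = (LP (LK LD1_c4 LD2_c17 LD3_c10)) :=
  Lgr Lrot76 (Lpr_af (K21.f328622 IH) (Lpe (K12.f47590 IH) (Lpr_gt (f349871 IH) (Lpn (LP (LK LD1_c4 LD2_c17 LD3_c10))))))
theorem f327506 : Led Lsl_ct (LP (LK LD1_c4 LD2_c8 LD3_c50)) = (LP (LK LD1_c8 LD2_c17 LD3_c43)) :=
  Lre_c IH (LK LD1_c4 LD2_c8 LD3_c50) (LK LD1_c8 LD2_c17 LD3_c43) Lrfl Lrfl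
theorem f328624 : Led Lsl_dt (LP (LK LD1_c8 LD2_c17 LD3_c43)) = (LP (LK LD1_c15 LD2_c36 LD3_c0)) :=
  Lre_d IH (LK LD1_c8 LD2_c17 LD3_c43) (LK LD1_c15 LD2_c36 LD3_c0) Lrfl Lrfl
theorem f167588 : Led Lsl_ct (LP (LK LD1_c8 LD2_c33 LD3_c34)) = (LP (LK LD1_c4 LD2_c17 LD3_c10)) :=
  Lre_c IH (LK LD1_c8 LD2_c33 LD3_c34) (LK LD1_c4 LD2_c17 LD3_c10) Lrfl Lrfl
theorem f193231 : Led Lsl_dt (LP (LK LD1_c16 LD2_c19 LD3_c1)) = (LP (LK LD1_c8 LD2_c42 LD3_c35)) :=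
  Lre_d IH (LK LD1_c16 LD2_c19 LD3_c1) (LK LD1_c8 LD2_c42 LD3_c35) Lrfl Lrfl
theorem f229021 : Led Lsl_ct (LP (LK LD1_c8 LD2_c17 LD3_c7)) = (LP (LK LD1_c15 LD2_c34 LD3_c52)) :=
  Lre_c IH (LK LD1_c8 LD2_c17 LD3_c7) (LK LD1_c15 LD2_c34 LD3_c52) Lrfl Lrfl
theorem f47667 : Led Lsl_ct (LP (LK LD1_c8 LD2_c16 LD3_c30)) = (LP (LK LD1_c15 LD2_c33 LD3_c34)) :=
  Lre_c IH (LK LD1_c8 LD2_c16 LD3_c30) (LK LD1_c15 LD2_c33 LD3_c34) Lrfl Lrfl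
theorem f279370 : Led Lsl_ct (LP (LK LD1_c8 LD2_c4 LD3_c1)) = (LP (LK LD1_c15 LD2_c11 LD3_c11)) :=
  Lre_c IH (LK LD1_c8 LD2_c4 LD3_c1) (LK LD1_c15 LD2_c11 LD3_c11) Lrfl Lrfl
theorem f332935 : Led Lsl_bf (LP (LK LD1_c8 LD2_c42 LD3_c46)) = (LP (LK LD1_c8 LD2_c4 LD3_c1)) :=
  Lgr Lrot156 (Lpr_gt (K22.f193289 IH) (Lpe (K13.f193300 IH) (Lpr_ct (K21.f193301 IH) (Lpe (K21.f321940 IH) (Lpe (K20.f184428 IH) (Lpe (K21.f325918 IH) (Lpe (K21.f275918 IH) (Lpr_ct (K16.f193034 IH) (Lpr_gt (K22.f332929 IH) (Lpe (f279370 IH) (Lpn (LP (LK LD1_c8 LD2_c4 LD3_c1)))))))))))))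
theorem f332939 : Led Lsl_bt (LP (LK LD1_c4 LD2_c22 LD3_c24)) = (LP (LK LD1_c4 LD2_c51 LD3_c15)) :=
  Lgr Lrot95 (Lpe (K22.f193249 IH) (Lpr_bf (f332935 IH) (Lpr_df (K22.f332865 IH) (Lpn (LP (LK LD1_c4 LD2_c51 LD3_c15))))))
theorem f332945 : Led Lsl_bf (LP (LK LD1_c4 LD2_c22 LD3_c24)) = (LP (LK LD1_c4 LD2_c51 LD3_c15)) :=
  Lgr Lrot24 (Lpr_bt (f332939 IH) (Lpn (LP (LK LD1_c4 LD2_c51 LD3_c15))))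
theorem f333058 : Led Lsl_gt (LP (LK LD1_c15 LD2_c33 LD3_c34)) = (LP (LK LD1_c8 LD2_c42 LD3_c35)) :=
  Lgr Lrot149 (Lpe (f47667 IH) (Lpe (K21.f328636 IH) (Lpe (K12.f229017 IH) (Lpr_ct (f229021 IH) (Lpr_gf (K22.f333054 IH) (Lpe (K22.f193306 IH) (Lpe (f332945 IH) (Lpe (K22.f193210 IH) (Lpe (f193198 IH) (Lpr_ct (f193255 IH) (Lpn (LP (LK LD1_c8 LD2_c42 LD3_c35)))))))))))))
theorem f47666 : Led Lsl_ct (LP (LK LD1_c15 LD2_c33 LD3_c34)) = (LP (LK LD1_c8 LD2_c16 LD3_c30)) :=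
  Lre_c IH (LK LD1_c15 LD2_c33 LD3_c34) (LK LD1_c8 LD2_c16 LD3_c30) Lrfl Lrfl
theorem f273537 : Led Lsl_ct (LP (LK LD1_c4 LD2_c16 LD3_c17)) = (LP (LK LD1_c8 LD2_c31 LD3_c46)) :=
  Lre_c IH (LK LD1_c4 LD2_c16 LD3_c17) (LK LD1_c8 LD2_c31 LD3_c46) Lrfl Lrfl
theorem f273548 : Led Lsl_dt (LP (LK LD1_c16 LD2_c0 LD3_c37)) = (LP (LK LD1_c8 LD2_c31 LD3_c46)) :=
  Lre_d IH (LK LD1_c16 LD2_c0 LD3_c37) (LK LD1_c8 LD2_c31 LD3_c46) Lrfl Lrfl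
theorem f193256 : Led Lsl_dt (LP (LK LD1_c8 LD2_c42 LD3_c35)) = (LP (LK LD1_c16 LD2_c19 LD3_c1)) :=
  Lre_d IH (LK LD1_c8 LD2_c42 LD3_c35) (LK LD1_c16 LD2_c19 LD3_c1) Lrfl Lrfl
theorem f333080 : Led Lsl_gf (LP (LK LD1_c16 LD2_c0 LD3_c37)) = (LP (LK LD1_c16 LD2_c19 LD3_c1)) :=
  Lgr Lrot143 (Lpr_dt (f273548 IH) (Lpe (f273537 IH) (Lpr_df (f273539 IH) (Lpe (f47600 IH) (Lpr_df (K10.f47587 IH) (Lpe (K10.f47607 IH) (Lpe (f47666 IH) (Lpr_gt (f333058 IH) (Lpr_dt (f193256 IH) (Lpn (LP (LK LD1_c16 LD2_c19 LD3_c1))))))))))))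
theorem f273543 : Led Lsl_ct (LP (LK LD1_c16 LD2_c0 LD3_c37)) = (LP (LK LD1_c25 LD2_c57 LD3_c55)) :=
  Lre_c IH (LK LD1_c16 LD2_c0 LD3_c37) (LK LD1_c25 LD2_c57 LD3_c55) Lrfl Lrfl
theorem f349912 : Led Lsl_gf (LP (LK LD1_c25 LD2_c30 LD3_c43)) = (LP (LK LD1_c25 LD2_c57 LD3_c55)) :=
  Lgr Lrot104 (Lpr_ct (K21.f328610 IH) (Lpe (f328624 IH) (Lpe (f327506 IH) (Lpr_gf (f349873 IH) (Lpe (f167588 IH) (Lpr_gf (f349807 IH) (Lpe (f193231 IH) (Lpe (f333080 IH) (Lpr_ct (f273543 IH) (Lpn (LP (LK LD1_c25 LD2_c57 LD3_c55))))))))))))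
theorem f347579 : Led Lsl_ct (LP (LK LD1_c15 LD2_c35 LD3_c61)) = (LP (LK LD1_c8 LD2_c17 LD3_c42)) :=
  Lre_c IH (LK LD1_c15 LD2_c35 LD3_c61) (LK LD1_c8 LD2_c17 LD3_c42) Lrfl Lrfl
theorem f347580 : Led Lsl_dt (LP (LK LD1_c25 LD2_c30 LD3_c42)) = (LP (LK LD1_c15 LD2_c35 LD3_c61)) :=
  Lre_d IH (LK LD1_c25 LD2_c30 LD3_c42) (LK LD1_c15 LD2_c35 LD3_c61) Lrfl Lrfl
theorem f47619 : Led Lsl_ft (LP (LK LD1_c25 LD2_c27 LD3_c8)) = (LP (LK LD1_c15 LD2_c33 LD3_c32)) :=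
  Lre_f IH (LK LD1_c25 LD2_c27 LD3_c8) (LK LD1_c15 LD2_c33 LD3_c32) Lrfl Lrfl
theorem f47615 : Led Lsl_dt (LP (LK LD1_c25 LD2_c27 LD3_c8)) = (LP (LK LD1_c15 LD2_c33 LD3_c33)) :=
  Lre_d IH (LK LD1_c25 LD2_c27 LD3_c8) (LK LD1_c15 LD2_c33 LD3_c33) Lrfl Lrfl
theorem f47614 : Led Lsl_ct (LP (LK LD1_c15 LD2_c33 LD3_c33)) = (LP (LK LD1_c8 LD2_c16 LD3_c31)) :=
  Lre_c IH (LK LD1_c15 LD2_c33 LD3_c33) (LK LD1_c8 LD2_c16 LD3_c31) Lrfl Lrfl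
theorem f47613 : Led Lsl_dt (LP (LK LD1_c10 LD2_c21 LD3_c18)) = (LP (LK LD1_c18 LD2_c47 LD3_c36)) :=
  Lre_d IH (LK LD1_c10 LD2_c21 LD3_c18) (LK LD1_c18 LD2_c47 LD3_c36) Lrfl Lrfl
theorem f347581 : Led Lsl_cf (LP (LK LD1_c25 LD2_c30 LD3_c42)) = (LP (LK LD1_c18 LD2_c47 LD3_c36)) :=
  Lgr Lrot161 (Lpr_dt (f347580 IH) (Lpr_ct (f347579 IH) (Lpr_af (f347562 IH) (Lpe (f47619 IH) (Lpr_dt (f47615 IH) (Lpr_ct (f47614 IH) (Lpe (K12.f47591 IH) (Lpr_ct (K21.f47612 IH) (Lpr_dt (f47613 IH) (Lpn (LP (LK LD1_c18 LD2_c47 LD3_c36))))))))))))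
theorem f621 : Led Lsl_ct (LP (LK LD1_c4 LD2_c8 LD3_c46)) = (LP (LK LD1_c2 LD2_c1 LD3_c44)) :=
  Lre_c IH (LK LD1_c4 LD2_c8 LD3_c46) (LK LD1_c2 LD2_c1 LD3_c44) Lrfl Lrfl
theorem f220183 : Led Lsl_dt (LP (LK LD1_c2 LD2_c1 LD3_c44)) = (LP (LK LD1_c4 LD2_c8 LD3_c49)) :=
  Lre_d IH (LK LD1_c2 LD2_c1 LD3_c44) (LK LD1_c4 LD2_c8 LD3_c49) Lrfl Lrfl
theorem f232000 : Led Lsl_dt (LP (LK LD1_c8 LD2_c17 LD3_c49)) = (LP (LK LD1_c15 LD2_c36 LD3_c13)) :=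
  Lre_d IH (LK LD1_c8 LD2_c17 LD3_c49) (LK LD1_c15 LD2_c36 LD3_c13) Lrfl Lrfl
theorem f347586 : Led Lsl_ct (LP (LK LD1_c15 LD2_c36 LD3_c13)) = (LP (LK LD1_c25 LD2_c30 LD3_c56)) :=
  Lre_c IH (LK LD1_c15 LD2_c36 LD3_c13) (LK LD1_c25 LD2_c30 LD3_c56) Lrfl Lrfl
theorem f47616 : Led Lsl_ct (LP (LK LD1_c31 LD2_c54 LD3_c7)) = (LP (LK LD1_c25 LD2_c27 LD3_c8)) :=
  Lre_c IH (LK LD1_c31 LD2_c54 LD3_c7) (LK LD1_c25 LD2_c27 LD3_c8) Lrfl Lrfl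
theorem f347587 : Led Lsl_dt (LP (LK LD1_c25 LD2_c30 LD3_c56)) = (LP (LK LD1_c31 LD2_c54 LD3_c7)) :=
  Lgr Lrot173 (Lpe (f347586 IH) (Lpe (f232000 IH) (Lpe (f229027 IH) (Lpe (f220183 IH) (Lpe (f621 IH) (Lpe (f347571 IH) (Lpe (f347579 IH) (Lpe (f347580 IH) (Lpr_cf (f347581 IH) (Lpe (f47613 IH) (Lpe (K21.f47612 IH) (Lpr_df (K12.f47591 IH) (Lpe (f47614 IH) (Lpe (f47615 IH) (Lpe (f47616 IH) (Lpn (LP (LK LD1_c31 LD2_c54 LD3_c7))))))))))))))))))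
theorem f347594 : Led Lsl_df (LP (LK LD1_c25 LD2_c30 LD3_c56)) = (LP (LK LD1_c31 LD2_c54 LD3_c7)) :=
  Lgr Lrot38 (Lpr_dt (f347587 IH) (Lpn (LP (LK LD1_c31 LD2_c54 LD3_c7))))
theorem f347598 : Led Lsl_ct (LP (LK LD1_c25 LD2_c30 LD3_c56)) = (LP (LK LD1_c15 LD2_c36 LD3_c13)) :=
  Lre_c IH (LK LD1_c25 LD2_c30 LD3_c56) (LK LD1_c15 LD2_c36 LD3_c13) Lrfl Lrfl
theorem f323790 : Led Lsl_dt (LP (LK LD1_c15 LD2_c36 LD3_c13)) = (LP (LK LD1_c8 LD2_c17 LD3_c49)) :=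
  Lre_d IH (LK LD1_c15 LD2_c36 LD3_c13) (LK LD1_c8 LD2_c17 LD3_c49) Lrfl Lrfl
theorem f252803 : Led Lsl_ct (LP (LK LD1_c8 LD2_c17 LD3_c49)) = (LP (LK LD1_c4 LD2_c8 LD3_c49)) :=
  Lre_c IH (LK LD1_c8 LD2_c17 LD3_c49) (LK LD1_c4 LD2_c8 LD3_c49) Lrfl Lrfl
theorem f229029 : Led Lsl_dt (LP (LK LD1_c4 LD2_c8 LD3_c49)) = (LP (LK LD1_c2 LD2_c1 LD3_c44)) :=
  Lre_d IH (LK LD1_c4 LD2_c8 LD3_c49) (LK LD1_c2 LD2_c1 LD3_c44) Lrfl Lrfl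
theorem f250908 : Led Lsl_dt (LP (LK LD1_c4 LD2_c8 LD3_c46)) = (LP (LK LD1_c8 LD2_c17 LD3_c42)) :=
  Lre_d IH (LK LD1_c4 LD2_c8 LD3_c46) (LK LD1_c8 LD2_c17 LD3_c42) Lrfl Lrfl
theorem f347568 : Led Lsl_ct (LP (LK LD1_c8 LD2_c17 LD3_c42)) = (LP (LK LD1_c15 LD2_c35 LD3_c61)) :=
  Lre_c IH (LK LD1_c8 LD2_c17 LD3_c42) (LK LD1_c15 LD2_c35 LD3_c61) Lrfl Lrfl
theorem f347596 : Led Lsl_ft (LP (LK LD1_c31 LD2_c54 LD3_c7)) = (LP (LK LD1_c25 LD2_c27 LD3_c7)) :=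
  Lre_f IH (LK LD1_c31 LD2_c54 LD3_c7) (LK LD1_c25 LD2_c27 LD3_c7) Lrfl Lrfl
theorem f347600 : Led Lsl_af (LP (LK LD1_c15 LD2_c35 LD3_c61)) = (LP (LK LD1_c25 LD2_c27 LD3_c7)) :=
  Lgr Lrot109 (Lpe (f347568 IH) (Lpe (f250908 IH) (Lpe (f613 IH) (Lpe (f229029 IH) (Lpe (f252803 IH) (Lpe (f323790 IH) (Lpe (f347598 IH) (Lpr_df (f347594 IH) (Lpr_ft (f347596 IH) (Lpn (LP (LK LD1_c25 LD2_c27 LD3_c7))))))))))))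
theorem f347605 : Led Lsl_ft (LP (LK LD1_c15 LD2_c35 LD3_c61)) = (LP (LK LD1_c25 LD2_c30 LD3_c43)) :=
  Lre_f IH (LK LD1_c15 LD2_c35 LD3_c61) (LK LD1_c25 LD2_c30 LD3_c43) Lrfl Lrfl

end

end K23

end

end Cfsg.Agent.Helper28.S1692
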