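import Cfsg.Agent.Lib.Helper28.S1692.Seeds23

set_option autoImplicit false
set_option maxRecDepth 100000
set_option linter.all false

namespace Cfsg.Agent.Helper28.S1692

open Cfsg.Agent.Helper28
open Cfsg.Spor.ON (Gen)

noncomputable section

namespace K24
abbrev LD1_c0 := D1.c0
abbrev LD1_c1 := D1.c1
abbrev LD1_c2 := D1.c2
abbrev LD1_c3 := D1.c3
abbrev LD1_c4 := D1.c4
abbrev LD1_c5 := D1.c5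
abbrev LD1_c6 := D1.c6
abbrev LD1_c7 := D1.c7
abbrev LD1_c8 := D1.c8
abbrev LD1_c9 := D1.c9
abbrev LD1_c10 := D1.c10
abbrev LD1_c11 := D1.c11
abbrev LD1_c12 := D1.c12
abbrev LD1_c13 := D1.c13
abbrev LD1_c14 := D1.c14
abbrev LD1_c15 := D1.c15
abbrev LD1_c16 := D1.c16
abbrev LD1_c17 := D1.c17
abbrev LD1_c18 := D1.c18
abbrev LD1_c19 := D1.c19
abbrev LD1_c20 := D1.c20
abbrev LD1_c21 := D1.c21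
abbrev LD1_c22 := D1.c22
abbrev LD1_c23 := D1.c23
abbrev LD1_c24 := D1.c24
abbrev LD1_c25 := D1.c25
abbrev LD1_c26 := D1.c26
abbrev LD1_c27 := D1.c27
abbrev LD1_c28 := D1.c28
abbrev LD1_c29 := D1.c29
abbrev LD1_c30 := D1.c30
abbrev LD1_c31 := D1.c31
abbrev LD1_c32 := D1.c32
abbrev LD2_c0 := D2.c0
abbrev LD2_c1 := D2.c1
abbrev LD2_c2 := D2.c2
abbrev LD2_c3 := D2.c3
abbrev LD2_c4 := D2.c4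
abbrev LD2_c5 := D2.c5
abbrev LD2_c6 := D2.c6
abbrev LD2_c7 := D2.c7
abbrev LD2_c8 := D2.c8
abbrev LD2_c9 := D2.c9
abbrev LD2_c10 := D2.c10
abbrev LD2_c11 := D2.c11
abbrev LD2_c12 := D2.c12
abbrev LD2_c13 := D2.c13
abbrev LD2_c14 := D2.c14
abbrev LD2_c15 := D2.c15
abbrev LD2_c16 := D2.c16
abbrev LD2_c17 := D2.c17
abbrev LD2_c18 := D2.c18
abbrev LD2_c19 := D2.c19
abbrev LD2_c20 := D2.c20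
abbrev LD2_c21 := D2.c21
abbrev LD2_c22 := D2.c22
abbrev LD2_c23 := D2.c23
abbrev LD2_c24 := D2.c24
abbrev LD2_c25 := D2.c25
abbrev LD2_c26 := D2.c26
abbrev LD2_c27 := D2.c27
abbrev LD2_c28 := D2.c28
abbrev LD2_c29 := D2.c29
abbrev LD2_c30 := D2.c30
abbrev LD2_c31 := D2.c31
abbrev LD2_c32 := D2.c32
abbrev LD2_c33 := D2.c33
abbrev LD2_c34 := D2.c34
abbrev LD2_c35 := D2.c35
abbrev LD2_c36 := D2.c36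
abbrev LD2_c37 := D2.c37
abbrev LD2_c38 := D2.c38
abbrev LD2_c39 := D2.c39
abbrev LD2_c40 := D2.c40
abbrev LD2_c41 := D2.c41
abbrev LD2_c42 := D2.c42
abbrev LD2_c43 := D2.c43
abbrev LD2_c44 := D2.c44
abbrev LD2_c45 := D2.c45
abbrev LD2_c46 := D2.c46
abbrev LD2_c47 := D2.c47
abbrev LD2_c48 := D2.c48
abbrev LD2_c49 := D2.c49
abbrev LD2_c50 := D2.c50
abbrev LD2_c51 := D2.c51
abbrev LD2_c52 := D2.c52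
abbrev LD2_c53 := D2.c53
abbrev LD2_c54 := D2.c54
abbrev LD2_c55 := D2.c55
abbrev LD2_c56 := D2.c56
abbrev LD2_c57 := D2.c57
abbrev LD2_c58 := D2.c58
abbrev LD2_c59 := D2.c59
abbrev LD3_c0 := D3.c0
abbrev LD3_c1 := D3.c1
abbrev LD3_c2 := D3.c2
abbrev LD3_c3 := D3.c3
abbrev LD3_c4 := D3.c4
abbrev LD3_c5 := D3.c5
abbrev LD3_c6 := D3.c6
abbrev LD3_c7 := D3.c7
abbrev LD3_c8 := D3.c8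
abbrev LD3_c9 := D3.c9
abbrev LD3_c10 := D3.c10
abbrev LD3_c11 := D3.c11
abbrev LD3_c12 := D3.c12
abbrev LD3_c13 := D3.c13
abbrev LD3_c14 := D3.c14
abbrev LD3_c15 := D3.c15
abbrev LD3_c16 := D3.c16
abbrev LD3_c17 := D3.c17
abbrev LD3_c18 := D3.c18
abbrev LD3_c19 := D3.c19
abbrev LD3_c20 := D3.c20
abbrev LD3_c21 := D3.c21
abbrev LD3_c22 := D3.c22
abbrev LD3_c23 := D3.c23
abbrev LD3_c24 := D3.c24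
abbrev LD3_c25 := D3.c25
abbrev LD3_c26 := D3.c26
abbrev LD3_c27 := D3.c27
abbrev LD3_c28 := D3.c28
abbrev LD3_c29 := D3.c29
abbrev LD3_c30 := D3.c30
abbrev LD3_c31 := D3.c31
abbrev LD3_c32 := D3.c32
abbrev LD3_c33 := D3.c33
abbrev LD3_c34 := D3.c34
abbrev LD3_c35 := D3.c35
abbrev LD3_c36 := D3.c36
abbrev LD3_c37 := D3.c37
abbrev LD3_c38 := D3.c38
abbrev LD3_c39 := D3.c39
abbrev LD3_c40 := D3.c40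
abbrev LD3_c41 := D3.c41
abbrev LD3_c42 := D3.c42
abbrev LD3_c43 := D3.c43
abbrev LD3_c44 := D3.c44
abbrev LD3_c45 := D3.c45
abbrev LD3_c46 := D3.c46
abbrev LD3_c47 := D3.c47
abbrev LD3_c48 := D3.c48
abbrev LD3_c49 := D3.c49
abbrev LD3_c50 := D3.c50
abbrev LD3_c51 := D3.c51
abbrev LD3_c52 := D3.c52
abbrev LD3_c53 := D3.c53
abbrev LD3_c54 := D3.c54
abbrev LD3_c55 := D3.c55
abbrev LD3_c56 := D3.c56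
abbrev LD3_c57 := D3.c57
abbrev LD3_c58 := D3.c58
abbrev LD3_c59 := D3.c59
abbrev LD3_c60 := D3.c60
abbrev LD3_c61 := D3.c61
abbrev LG_g := Gen.g
abbrev Lsl_gt : Gen × Bool := sl_gt
alias Lfl_gt := fl_gt
alias Lpr_gt := pr_gt
abbrev Lsl_gf : Gen × Bool := sl_gf
alias Lfl_gf := fl_gf
alias Lpr_gf := pr_gf
alias Lre_g := re_g
alias Leoe_g := eoe_g
abbrev LG_a := Gen.a
abbrev Lsl_at : Gen × Bool := sl_at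
alias Lfl_at := fl_at
alias Lpr_at := pr_at
abbrev Lsl_af : Gen × Bool := sl_af
alias Lfl_af := fl_af
alias Lpr_af := pr_af
alias Lre_a := re_a
alias Leoe_a := eoe_a
abbrev LG_b := Gen.b
abbrev Lsl_bt : Gen × Bool := sl_bt
alias Lfl_bt := fl_bt
alias Lpr_bt := pr_bt
abbrev Lsl_bf : Gen × Bool := sl_bf
alias Lfl_bf := fl_bf
alias Lpr_bf := pr_bf
alias Lre_b := re_b
alias Leoe_b := eoe_b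
abbrev LG_c := Gen.c
abbrev Lsl_ct : Gen × Bool := sl_ct
alias Lfl_ct := fl_ct
alias Lpr_ct := pr_ct
abbrev Lsl_cf : Gen × Bool := sl_cf
alias Lfl_cf := fl_cf
alias Lpr_cf := pr_cf
alias Lre_c := re_c
alias Leoe_c := eoe_c
abbrev LG_d := Gen.d
abbrev Lsl_dt : Gen × Bool := sl_dt
alias Lfl_dt := fl_dt
alias Lpr_dt := pr_dt
abbrev Lsl_df : Gen × Bool := sl_df
alias Lfl_df := fl_df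
alias Lpr_df := pr_df
alias Lre_d := re_d
alias Leoe_d := eoe_d
abbrev LG_e := Gen.e
abbrev Lsl_et : Gen × Bool := sl_et
alias Lfl_et := fl_et
alias Lpr_et := pr_et
abbrev Lsl_ef : Gen × Bool := sl_ef
alias Lfl_ef := fl_ef
alias Lpr_ef := pr_ef
alias Lre_e := re_e
alias Leoe_e := eoe_e
abbrev LG_f := Gen.f
abbrev Lsl_ft : Gen × Bool := sl_ft
alias Lfl_ft := fl_ft
alias Lpr_ft := pr_ft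
abbrev Lsl_ff : Gen × Bool := sl_ff
alias Lfl_ff := fl_ff
alias Lpr_ff := pr_ff
alias Lre_f := re_f
alias Leoe_f := eoe_f
abbrev LK := Pt.mk
abbrev LQ : Type := Qt rels S
abbrev LP (p : Pt) : LQ := P p
abbrev Led (l : Gen × Bool) (c : LQ) : LQ := ed l c
abbrev LEOK (x : Gen) (p : Pt) : Prop := EntryOK rels S fwd inv o plet idx x p
alias Lpe := pe
alias Lpn := pn
alias Lgr := gr
alias Lpq := pq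
alias Lpqs := pqs
alias Llr := lr
alias Leop := eop
alias Lefun := efun
alias Lecon := econ
theorem Lrfl {α : Sort _} {a : α} : a = a := rfl
alias Lrot0 := rot0
alias Lrot1 := rot1
alias Lrot2 := rot2
alias Lrot3 := rot3
alias Lrot4 := rot4
alias Lrot5 := rot5
alias Lrot6 := rot6
alias Lrot7 := rot7
alias Lrot8 := rot8
alias Lrot9 := rot9
alias Lrot10 := rot10
alias Lrot11 := rot11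
alias Lrot12 := rot12
alias Lrot13 := rot13
alias Lrot14 := rot14
alias Lrot15 := rot15
alias Lrot17 := rot17
alias Lrot18 := rot18
alias Lrot19 := rot19
alias Lrot20 := rot20
alias Lrot21 := rot21
alias Lrot22 := rot22
alias Lrot23 := rot23
alias Lrot24 := rot24
alias Lrot25 := rot25
alias Lrot26 := rot26
alias Lrot27 := rot27
alias Lrot28 := rot28
alias Lrot29 := rot29
alias Lrot30 := rot30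
alias Lrot31 := rot31
alias Lrot32 := rot32
alias Lrot33 := rot33
alias Lrot34 := rot34
alias Lrot35 := rot35
alias Lrot36 := rot36
alias Lrot37 := rot37
alias Lrot38 := rot38
alias Lrot39 := rot39
alias Lrot40 := rot40
alias Lrot42 := rot42
alias Lrot43 := rot43
alias Lrot44 := rot44
alias Lrot45 := rot45
alias Lrot46 := rot46
alias Lrot47 := rot47
alias Lrot48 := rot48
alias Lrot49 := rot49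
alias Lrot50 := rot50
alias Lrot51 := rot51
alias Lrot52 := rot52
alias Lrot54 := rot54
alias Lrot55 := rot55
alias Lrot56 := rot56
alias Lrot57 := rot57
alias Lrot58 := rot58
alias Lrot59 := rot59
alias Lrot60 := rot60
alias Lrot61 := rot61
alias Lrot62 := rot62
alias Lrot63 := rot63
alias Lrot64 := rot64
alias Lrot65 := rot65
alias Lrot66 := rot66
alias Lrot67 := rot67
alias Lrot68 := rot68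
alias Lrot69 := rot69
alias Lrot70 := rot70
alias Lrot71 := rot71
alias Lrot72 := rot72
alias Lrot73 := rot73
alias Lrot74 := rot74
alias Lrot75 := rot75
alias Lrot76 := rot76
alias Lrot77 := rot77
alias Lrot78 := rot78
alias Lrot79 := rot79
alias Lrot80 := rot80
alias Lrot81 := rot81
alias Lrot82 := rot82
alias Lrot83 := rot83
alias Lrot84 := rot84
alias Lrot86 := rot86
alias Lrot87 := rot87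
alias Lrot88 := rot88
alias Lrot90 := rot90
alias Lrot91 := rot91
alias Lrot92 := rot92
alias Lrot93 := rot93
alias Lrot94 := rot94
alias Lrot95 := rot95
alias Lrot96 := rot96
alias Lrot97 := rot97
alias Lrot99 := rot99
alias Lrot100 := rot100
alias Lrot101 := rot101
alias Lrot103 := rot103
alias Lrot104 := rot104
alias Lrot105 := rot105
alias Lrot106 := rot106
alias Lrot107 := rot107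
alias Lrot108 := rot108
alias Lrot110 := rot110
alias Lrot111 := rot111
alias Lrot112 := rot112
alias Lrot113 := rot113
alias Lrot114 := rot114
alias Lrot115 := rot115
alias Lrot116 := rot116
alias Lrot117 := rot117
alias Lrot119 := rot119
alias Lrot120 := rot120
alias Lrot121 := rot121
alias Lrot122 := rot122
alias Lrot123 := rot123
alias Lrot124 := rot124
alias Lrot125 := rot125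
alias Lrot126 := rot126
alias Lrot127 := rot127
alias Lrot128 := rot128
alias Lrot129 := rot129
alias Lrot130 := rot130
alias Lrot131 := rot131
alias Lrot132 := rot132
alias Lrot134 := rot134
alias Lrot135 := rot135
alias Lrot136 := rot136
alias Lrot137 := rot137
alias Lrot138 := rot138
alias Lrot139 := rot139
alias Lrot140 := rot140
alias Lrot141 := rot141
alias Lrot142 := rot142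
alias Lrot143 := rot143
alias Lrot144 := rot144
alias Lrot145 := rot145
alias Lrot146 := rot146
alias Lrot147 := rot147
alias Lrot149 := rot149
alias Lrot150 := rot150
alias Lrot152 := rot152
alias Lrot153 := rot153
alias Lrot154 := rot154
alias Lrot155 := rot155
alias Lrot156 := rot156
alias Lrot158 := rot158
alias Lrot160 := rot160
alias Lrot162 := rot162
alias Lrot163 := rot163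
alias Lrot164 := rot164
alias Lrot165 := rot165
alias Lrot166 := rot166
alias Lrot168 := rot168
alias Lrot169 := rot169
alias Lrot170 := rot170
alias Lrot171 := rot171
alias Lrot172 := rot172
alias Lrot173 := rot173
alias Lrot174 := rot174
alias Lrot179 := rot179
alias Lrot180 := rot180
alias Lrot181 := rot181
alias Lrot183 := rot183
alias Lrot184 := rot184
alias Lrot188 := rot188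
alias Lrot189 := rot189

section
variable (IH : IHT)
include IH

theorem f347606 : Led Lsl_at (LP (LK LD1_c25 LD2_c30 LD3_c43)) = (LP (LK LD1_c31 LD2_c54 LD3_c7)) :=
  Lgr Lrot66 (Lpe (K23.f347605 IH) (Lpr_af (K23.f347600 IH) (Lpe (K23.f347596 IH) (Lpn (LP (LK LD1_c31 LD2_c54 LD3_c7))))))
theorem f347610 : Led Lsl_af (LP (LK LD1_c25 LD2_c30 LD3_c43)) = (LP (LK LD1_c31 LD2_c54 LD3_c7)) :=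
  Lgr Lrot0 (Lpr_at (f347606 IH) (Lpn (LP (LK LD1_c31 LD2_c54 LD3_c7))))
theorem f347599 : Led Lsl_ft (LP (LK LD1_c25 LD2_c27 LD3_c7)) = (LP (LK LD1_c31 LD2_c54 LD3_c7)) :=
  Lre_f IH (LK LD1_c25 LD2_c27 LD3_c7) (LK LD1_c31 LD2_c54 LD3_c7) Lrfl Lrfl
theorem f349914 : Led Lsl_gt (LP (LK LD1_c25 LD2_c27 LD3_c7)) = (LP (LK LD1_c25 LD2_c57 LD3_c55)) :=
  Lgr Lrot5 (Lpr_ft (f347599 IH) (Lpe (f347610 IH) (Lpr_gf (K23.f349912 IH) (Lpn (LP (LK LD1_c25 LD2_c57 LD3_c55))))))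
theorem f47586 : Led Lsl_ct (LP (LK LD1_c15 LD2_c33 LD3_c32)) = (LP (LK LD1_c25 LD2_c27 LD3_c7)) :=
  Lre_c IH (LK LD1_c15 LD2_c33 LD3_c32) (LK LD1_c25 LD2_c27 LD3_c7) Lrfl Lrfl
theorem f273549 : Led Lsl_ct (LP (LK LD1_c25 LD2_c57 LD3_c55)) = (LP (LK LD1_c16 LD2_c0 LD3_c37)) :=
  Lre_c IH (LK LD1_c25 LD2_c57 LD3_c55) (LK LD1_c16 LD2_c0 LD3_c37) Lrfl Lrfl
theorem f273542 : Led Lsl_dt (LP (LK LD1_c8 LD2_c31 LD3_c46)) = (LP (LK LD1_c16 LD2_c0 LD3_c37)) :=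
  Lre_d IH (LK LD1_c8 LD2_c31 LD3_c46) (LK LD1_c16 LD2_c0 LD3_c37) Lrfl Lrfl
theorem f616 : Led Lsl_ct (LP (LK LD1_c4 LD2_c16 LD3_c16)) = (LP (LK LD1_c2 LD2_c5 LD3_c30)) :=
  Lre_c IH (LK LD1_c4 LD2_c16 LD3_c16) (LK LD1_c2 LD2_c5 LD3_c30) Lrfl Lrfl
theorem f339052 : Led Lsl_gt (LP (LK LD1_c8 LD2_c31 LD3_c43)) = (LP (LK LD1_c4 LD2_c16 LD3_c16)) :=
  Lre_g IH (LK LD1_c8 LD2_c31 LD3_c43) (LK LD1_c4 LD2_c16 LD3_c16) Lrfl Lrfl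
theorem f349917 : Led Lsl_dt (LP (LK LD1_c16 LD2_c0 LD3_c34)) = (LP (LK LD1_c8 LD2_c31 LD3_c43)) :=
  Lre_d IH (LK LD1_c16 LD2_c0 LD3_c34) (LK LD1_c8 LD2_c31 LD3_c43) Lrfl Lrfl
theorem f349918 : Led Lsl_gf (LP (LK LD1_c15 LD2_c33 LD3_c32)) = (LP (LK LD1_c16 LD2_c0 LD3_c34)) :=
  Lgr Lrot147 (Lpr_ct (f47586 IH) (Lpr_gt (f349914 IH) (Lpr_ct (f273549 IH) (Lpe (f273542 IH) (Lpe (K23.f273537 IH) (Lpe (K23.f612 IH) (Lpe (f616 IH) (Lpe (f339052 IH) (Lpe (f349917 IH) (Lpn (LP (LK LD1_c16 LD2_c0 LD3_c34))))))))))))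
theorem f47598 : Led Lsl_dt (LP (LK LD1_c15 LD2_c33 LD3_c32)) = (LP (LK LD1_c8 LD2_c16 LD3_c29)) :=
  Lre_d IH (LK LD1_c15 LD2_c33 LD3_c32) (LK LD1_c8 LD2_c16 LD3_c29) Lrfl Lrfl
theorem f47597 : Led Lsl_ct (LP (LK LD1_c8 LD2_c16 LD3_c29)) = (LP (LK LD1_c4 LD2_c8 LD3_c14)) :=
  Lre_c IH (LK LD1_c8 LD2_c16 LD3_c29) (LK LD1_c4 LD2_c8 LD3_c14) Lrfl Lrfl
theorem f349920 : Led Lsl_dt (LP (LK LD1_c8 LD2_c31 LD3_c43)) = (LP (LK LD1_c16 LD2_c0 LD3_c34)) :=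
  Lre_d IH (LK LD1_c8 LD2_c31 LD3_c43) (LK LD1_c16 LD2_c0 LD3_c34) Lrfl Lrfl
theorem f349925 : Led Lsl_gt (LP (LK LD1_c15 LD2_c57 LD3_c27)) = (LP (LK LD1_c8 LD2_c31 LD3_c43)) :=
  Lgr Lrot94 (Lpe (K16.f49056 IH) (Lpe (K23.f348345 IH) (Lpr_dt (K23.f348354 IH) (Lpr_gt (K23.f47595 IH) (Lpr_dt (K10.f47570 IH) (Lpe (f47597 IH) (Lpe (f47598 IH) (Lpr_gf (f349918 IH) (Lpe (f349920 IH) (Lpn (LP (LK LD1_c8 LD2_c31 LD3_c43))))))))))))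
theorem f270477 : Led Lsl_ft (LP (LK LD1_c15 LD2_c57 LD3_c27)) = (LP (LK LD1_c8 LD2_c29 LD3_c55)) :=
  Lre_f IH (LK LD1_c15 LD2_c57 LD3_c27) (LK LD1_c8 LD2_c29 LD3_c55) Lrfl Lrfl
theorem f349949 : Led Lsl_at (LP (LK LD1_c8 LD2_c29 LD3_c55)) = (LP (LK LD1_c4 LD2_c16 LD3_c16)) :=
  Lgr Lrot26 (Lpe (f270477 IH) (Lpr_gt (f349925 IH) (Lpr_gt (f339052 IH) (Lpn (LP (LK LD1_c4 LD2_c16 LD3_c16))))))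
theorem f349957 : Led Lsl_ft (LP (LK LD1_c4 LD2_c16 LD3_c16)) = (LP (LK LD1_c8 LD2_c31 LD3_c45)) :=
  Lre_f IH (LK LD1_c4 LD2_c16 LD3_c16) (LK LD1_c8 LD2_c31 LD3_c45) Lrfl Lrfl
theorem f349958 : Led Lsl_af (LP (LK LD1_c15 LD2_c57 LD3_c27)) = (LP (LK LD1_c8 LD2_c31 LD3_c45)) :=
  Lgr Lrot45 (Lpr_ft (f270477 IH) (Lpr_at (f349949 IH) (Lpr_ft (f349957 IH) (Lpn (LP (LK LD1_c8 LD2_c31 LD3_c45))))))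
theorem f706 : Led Lsl_gt (LP (LK LD1_c4 LD2_c16 LD3_c16)) = (LP (LK LD1_c8 LD2_c31 LD3_c42)) :=
  Lre_g IH (LK LD1_c4 LD2_c16 LD3_c16) (LK LD1_c8 LD2_c31 LD3_c42) Lrfl Lrfl
theorem f349962 : Led Lsl_gf (LP (LK LD1_c15 LD2_c57 LD3_c27)) = (LP (LK LD1_c8 LD2_c31 LD3_c42)) :=
  Lgr Lrot76 (Lpr_af (f349958 IH) (Lpe (f349957 IH) (Lpr_gt (f706 IH) (Lpn (LP (LK LD1_c8 LD2_c31 LD3_c42))))))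
theorem f331362 : Led Lsl_ct (LP (LK LD1_c16 LD2_c0 LD3_c30)) = (LP (LK LD1_c8 LD2_c31 LD3_c42)) :=
  Lre_c IH (LK LD1_c16 LD2_c0 LD3_c30) (LK LD1_c8 LD2_c31 LD3_c42) Lrfl Lrfl
theorem f349967 : Led Lsl_bf (LP (LK LD1_c9 LD2_c37 LD3_c55)) = (LP (LK LD1_c16 LD2_c0 LD3_c30)) :=
  Lgr Lrot34 (Lpe (K22.f237524 IH) (Lpe (K17.f237523 IH) (Lpr_ct (K16.f237479 IH) (Lpe (K23.f328051 IH) (Lpe (K23.f216786 IH) (Lpe (K21.f312134 IH) (Lpe (K15.f229753 IH) (Lpr_ct (K16.f49056 IH) (Lpr_gf (f349962 IH) (Lpe (f331362 IH) (Lpn (LP (LK LD1_c16 LD2_c0 LD3_c30)))))))))))))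
theorem f622 : Led Lsl_ct (LP (LK LD1_c2 LD2_c5 LD3_c30)) = (LP (LK LD1_c4 LD2_c16 LD3_c16)) :=
  Lre_c IH (LK LD1_c2 LD2_c5 LD3_c30) (LK LD1_c4 LD2_c16 LD3_c16) Lrfl Lrfl
theorem f715 : Led Lsl_bt (LP (LK LD1_c2 LD2_c5 LD3_c30)) = (LP (LK LD1_c4 LD2_c16 LD3_c13)) :=
  Lre_b IH (LK LD1_c2 LD2_c5 LD3_c30) (LK LD1_c4 LD2_c16 LD3_c13) Lrfl Lrfl
theorem f322662 : Led Lsl_bt (LP (LK LD1_c8 LD2_c22 LD3_c16)) = (LP (LK LD1_c15 LD2_c45 LD3_c12)) :=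
  Lre_b IH (LK LD1_c8 LD2_c22 LD3_c16) (LK LD1_c15 LD2_c45 LD3_c12) Lrfl Lrfl
theorem f325651 : Led Lsl_bt (LP (LK LD1_c18 LD2_c56 LD3_c20)) = (LP (LK LD1_c10 LD2_c26 LD3_c34)) :=
  Lre_b IH (LK LD1_c18 LD2_c56 LD3_c20) (LK LD1_c10 LD2_c26 LD3_c34) Lrfl Lrfl
theorem f325652 : Led Lsl_et (LP (LK LD1_c15 LD2_c45 LD3_c12)) = (LP (LK LD1_c18 LD2_c56 LD3_c20)) :=
  Lgr Lrot74 (Lpe (f322662 IH) (Lpr_ef (K21.f325649 IH) (Lpe (f325651 IH) (Lpn (LP (LK LD1_c18 LD2_c56 LD3_c20))))))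
theorem f309914 : Led Lsl_dt (LP (LK LD1_c8 LD2_c22 LD3_c14)) = (LP (LK LD1_c15 LD2_c45 LD3_c12)) :=
  Lre_d IH (LK LD1_c8 LD2_c22 LD3_c14) (LK LD1_c15 LD2_c45 LD3_c12) Lrfl Lrfl
theorem f331350 : Led Lsl_ef (LP (LK LD1_c8 LD2_c22 LD3_c14)) = (LP (LK LD1_c8 LD2_c31 LD3_c34)) :=
  Lgr Lrot73 (Lpr_dt (f309914 IH) (Lpr_et (f325652 IH) (Lpr_dt (K23.f325715 IH) (Lpr_et (K21.f331346 IH) (Lpe (K21.f331334 IH) (Lpn (LP (LK LD1_c8 LD2_c31 LD3_c34))))))))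
theorem f215537 : Led Lsl_bt (LP (LK LD1_c8 LD2_c22 LD3_c14)) = (LP (LK LD1_c4 LD2_c11 LD3_c8)) :=
  Lre_b IH (LK LD1_c8 LD2_c22 LD3_c14) (LK LD1_c4 LD2_c11 LD3_c8) Lrfl Lrfl
theorem f331358 : Led Lsl_bt (LP (LK LD1_c8 LD2_c22 LD3_c17)) = (LP (LK LD1_c8 LD2_c31 LD3_c34)) :=
  Lgr Lrot119 (Lpe (K22.f325646 IH) (Lpe (f215537 IH) (Lpr_ef (f331350 IH) (Lpn (LP (LK LD1_c8 LD2_c31 LD3_c34))))))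
theorem f325682 : Led Lsl_ct (LP (LK LD1_c8 LD2_c22 LD3_c17)) = (LP (LK LD1_c15 LD2_c45 LD3_c16)) :=
  Lre_c IH (LK LD1_c8 LD2_c22 LD3_c17) (LK LD1_c15 LD2_c45 LD3_c16) Lrfl Lrfl
theorem f349977 : Led Lsl_gt (LP (LK LD1_c20 LD2_c54 LD3_c49)) = (LP (LK LD1_c15 LD2_c45 LD3_c16)) :=
  Lgr Lrot149 (Lpr_cf (K21.f270868 IH) (Lpe (K22.f270876 IH) (Lpr_bf (f349967 IH) (Lpr_ct (f331362 IH) (Lpe (f706 IH) (Lpe (f622 IH) (Lpr_bt (f715 IH) (Lpe (K21.f254523 IH) (Lpe (f331358 IH) (Lpr_ct (f325682 IH) (Lpn (LP (LK LD1_c15 LD2_c45 LD3_c16)))))))))))))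
theorem f237507 : Led Lsl_ct (LP (LK LD1_c9 LD2_c37 LD3_c54)) = (LP (LK LD1_c4 LD2_c52 LD3_c61)) :=
  Lre_c IH (LK LD1_c9 LD2_c37 LD3_c54) (LK LD1_c4 LD2_c52 LD3_c61) Lrfl Lrfl
theorem f282093 : Led Lsl_af (LP (LK LD1_c9 LD2_c37 LD3_c54)) = (LP (LK LD1_c11 LD2_c52 LD3_c3)) :=
  Lgr Lrot68 (Lpr_ct (f237507 IH) (Lpr_at (K17.f279358 IH) (Lpr_ct (K17.f282090 IH) (Lpn (LP (LK LD1_c11 LD2_c52 LD3_c3))))))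
theorem f349979 : Led Lsl_gf (LP (LK LD1_c9 LD2_c37 LD3_c54)) = (LP (LK LD1_c15 LD2_c45 LD3_c16)) :=
  Lgr Lrot76 (Lpr_af (f282093 IH) (Lpe (K20.f270785 IH) (Lpr_gt (f349977 IH) (Lpn (LP (LK LD1_c15 LD2_c45 LD3_c16))))))
theorem f237538 : Led Lsl_ct (LP (LK LD1_c4 LD2_c52 LD3_c61)) = (LP (LK LD1_c9 LD2_c37 LD3_c54)) :=
  Lre_c IH (LK LD1_c4 LD2_c52 LD3_c61) (LK LD1_c9 LD2_c37 LD3_c54) Lrfl Lrfl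
theorem f237506 : Led Lsl_bt (LP (LK LD1_c4 LD2_c52 LD3_c61)) = (LP (LK LD1_c2 LD2_c24 LD3_c20)) :=
  Lre_b IH (LK LD1_c4 LD2_c52 LD3_c61) (LK LD1_c2 LD2_c24 LD3_c20) Lrfl Lrfl
theorem f237545 : Led Lsl_ct (LP (LK LD1_c4 LD2_c53 LD3_c0)) = (LP (LK LD1_c9 LD2_c37 LD3_c58)) :=
  Lre_c IH (LK LD1_c4 LD2_c53 LD3_c0) (LK LD1_c9 LD2_c37 LD3_c58) Lrfl Lrfl
theorem f326947 : Led Lsl_gt (LP (LK LD1_c10 LD2_c26 LD3_c32)) = (LP (LK LD1_c10 LD2_c27 LD3_c61)) :=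
  Lgr Lrot46 (Lpr_gf (K21.f326944 IH) (Lpr_ft (K18.f193161 IH) (Lpe (K18.f294247 IH) (Lpn (LP (LK LD1_c10 LD2_c27 LD3_c61))))))
theorem f254478 : Led Lsl_df (LP (LK LD1_c10 LD2_c35 LD3_c30)) = (LP (LK LD1_c10 LD2_c27 LD3_c61)) :=
  Lgr Lrot38 (Lpr_dt (K18.f254476 IH) (Lpn (LP (LK LD1_c10 LD2_c27 LD3_c61))))
theorem f331340 : Led Lsl_gf (LP (LK LD1_c8 LD2_c31 LD3_c34)) = (LP (LK LD1_c8 LD2_c41 LD3_c29)) :=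
  Lgr Lrot145 (Lpr_df (K21.f331334 IH) (Lpe (K21.f331338 IH) (Lpr_gt (f326947 IH) (Lpe (f254478 IH) (Lpe (K18.f304103 IH) (Lpe (K18.f242406 IH) (Lpr_et (K18.f304109 IH) (Lpe (K19.f271298 IH) (Lpe (K19.f275713 IH) (Lpr_dt (K16.f216755 IH) (Lpn (LP (LK LD1_c8 LD2_c41 LD3_c29)))))))))))))
theorem f349988 : Led Lsl_gt (LP (LK LD1_c9 LD2_c37 LD3_c58)) = (LP (LK LD1_c8 LD2_c41 LD3_c39)) :=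
  Lgr Lrot149 (Lpe (f237545 IH) (Lpe (K21.f237518 IH) (Lpe (f237506 IH) (Lpr_ct (f237538 IH) (Lpr_gf (f349979 IH) (Lpe (f325682 IH) (Lpr_bt (f331358 IH) (Lpr_gf (f331340 IH) (Lpe (K16.f216763 IH) (Lpr_ct (K16.f216766 IH) (Lpn (LP (LK LD1_c8 LD2_c41 LD3_c39)))))))))))))
theorem f229832 : Led Lsl_ft (LP (LK LD1_c4 LD2_c53 LD3_c8)) = (LP (LK LD1_c9 LD2_c38 LD3_c15)) :=
  Lre_f IH (LK LD1_c4 LD2_c53 LD3_c8) (LK LD1_c9 LD2_c38 LD3_c15) Lrfl Lrfl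
theorem f349991 : Led Lsl_gf (LP (LK LD1_c9 LD2_c37 LD3_c58)) = (LP (LK LD1_c4 LD2_c53 LD3_c8)) :=
  Lgr Lrot47 (Lpr_gt (f349988 IH) (Lpr_af (K16.f269798 IH) (Lpe (f229832 IH) (Lpn (LP (LK LD1_c4 LD2_c53 LD3_c8))))))
theorem f237546 : Led Lsl_dt (LP (LK LD1_c9 LD2_c37 LD3_c58)) = (LP (LK LD1_c17 LD2_c43 LD3_c35)) :=
  Lre_d IH (LK LD1_c9 LD2_c37 LD3_c58) (LK LD1_c17 LD2_c43 LD3_c35) Lrfl Lrfl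
theorem f199683 : Led Lsl_et (LP (LK LD1_c8 LD2_c40 LD3_c16)) = (LP (LK LD1_c4 LD2_c21 LD3_c18)) :=
  Lre_e IH (LK LD1_c8 LD2_c40 LD3_c16) (LK LD1_c4 LD2_c21 LD3_c18) Lrfl Lrfl
theorem f232526 : Led Lsl_et (LP (LK LD1_c4 LD2_c51 LD3_c5)) = (LP (LK LD1_c9 LD2_c34 LD3_c12)) :=
  Lre_e IH (LK LD1_c4 LD2_c51 LD3_c5) (LK LD1_c9 LD2_c34 LD3_c12) Lrfl Lrfl
theorem f337327 : Led Lsl_ef (LP (LK LD1_c16 LD2_c9 LD3_c41)) = (LP (LK LD1_c15 LD2_c49 LD3_c9)) :=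
  Lgr Lrot21 (Lpr_ft (K22.f337315 IH) (Lpr_et (f199683 IH) (Lpe (K21.f327817 IH) (Lpr_et (f232526 IH) (Lpr_ft (K21.f327798 IH) (Lpn (LP (LK LD1_c15 LD2_c49 LD3_c9))))))))
theorem f171744 : Led Lsl_dt (LP (LK LD1_c15 LD2_c49 LD3_c9)) = (LP (LK LD1_c25 LD2_c45 LD3_c32)) :=
  Lre_d IH (LK LD1_c15 LD2_c49 LD3_c9) (LK LD1_c25 LD2_c45 LD3_c32) Lrfl Lrfl
theorem f349995 : Led Lsl_gt (LP (LK LD1_c17 LD2_c43 LD3_c35)) = (LP (LK LD1_c25 LD2_c45 LD3_c32)) :=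
  Lgr Lrot139 (Lpe (f237546 IH) (Lpr_gf (f349991 IH) (Lpe (K23.f229841 IH) (Lpr_dt (K13.f29711 IH) (Lpr_gf (K13.f238985 IH) (Lpe (K13.f229905 IH) (Lpr_et (K19.f239100 IH) (Lpe (K22.f337305 IH) (Lpr_ef (f337327 IH) (Lpr_dt (f171744 IH) (Lpn (LP (LK LD1_c25 LD2_c45 LD3_c32)))))))))))))
theorem f49068 : Led Lsl_bt (LP (LK LD1_c8 LD2_c29 LD3_c55)) = (LP (LK LD1_c15 LD2_c57 LD3_c22)) :=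
  Lre_b IH (LK LD1_c8 LD2_c29 LD3_c55) (LK LD1_c15 LD2_c57 LD3_c22) Lrfl Lrfl
theorem f49065 : Led Lsl_ct (LP (LK LD1_c4 LD2_c15 LD3_c30)) = (LP (LK LD1_c8 LD2_c29 LD3_c55)) :=
  Lre_c IH (LK LD1_c4 LD2_c15 LD3_c30) (LK LD1_c8 LD2_c29 LD3_c55) Lrfl Lrfl
theorem f229799 : Led Lsl_bt (LP (LK LD1_c9 LD2_c38 LD3_c12)) = (LP (LK LD1_c4 LD2_c53 LD3_c8)) :=
  Lre_b IH (LK LD1_c9 LD2_c38 LD3_c12) (LK LD1_c4 LD2_c53 LD3_c8) Lrfl Lrfl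
theorem f229800 : Led Lsl_cf (LP (LK LD1_c3 LD2_c57 LD3_c4)) = (LP (LK LD1_c4 LD2_c53 LD3_c8)) :=
  Lgr Lrot97 (Lpe (K15.f229757 IH) (Lpr_ct (f49065 IH) (Lpr_bt (f49068 IH) (Lpr_ct (K16.f229778 IH) (Lpr_bt (f229799 IH) (Lpn (LP (LK LD1_c4 LD2_c53 LD3_c8))))))))
theorem f228991 : Led Lsl_gt (LP (LK LD1_c5 LD2_c19 LD3_c44)) = (LP (LK LD1_c10 LD2_c29 LD3_c17)) :=
  Lre_g IH (LK LD1_c5 LD2_c19 LD3_c44) (LK LD1_c10 LD2_c29 LD3_c17) Lrfl Lrfl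
theorem f255561 : Led Lsl_et (LP (LK LD1_c7 LD2_c55 LD3_c48)) = (LP (LK LD1_c14 LD2_c57 LD3_c31)) :=
  Lre_e IH (LK LD1_c7 LD2_c55 LD3_c48) (LK LD1_c14 LD2_c57 LD3_c31) Lrfl Lrfl
theorem f323786 : Led Lsl_df (LP (LK LD1_c10 LD2_c29 LD3_c17)) = (LP (LK LD1_c7 LD2_c55 LD3_c48)) :=
  Lgr Lrot168 (Lpe (f228991 IH) (Lpe (K20.f228981 IH) (Lpr_et (K12.f228973 IH) (Lpe (K13.f167344 IH) (Lpr_ef (K13.f236458 IH) (Lpe (K13.f228079 IH) (Lpe (K13.f194265 IH) (Lpe (K13.f236462 IH) (Lpr_gf (K21.f323782 IH) (Lpe (f255561 IH) (Lpn (LP (LK LD1_c7 LD2_c55 LD3_c48)))))))))))))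
theorem f327788 : Led Lsl_dt (LP (LK LD1_c25 LD2_c45 LD3_c32)) = (LP (LK LD1_c15 LD2_c49 LD3_c9)) :=
  Lre_d IH (LK LD1_c25 LD2_c45 LD3_c32) (LK LD1_c15 LD2_c49 LD3_c9) Lrfl Lrfl
theorem f349997 : Led Lsl_gt (LP (LK LD1_c10 LD2_c29 LD3_c17)) = (LP (LK LD1_c15 LD2_c14 LD3_c32)) :=
  Lgr Lrot49 (Lpr_df (f323786 IH) (Lpe (K18.f229732 IH) (Lpr_cf (f229800 IH) (Lpe (f349991 IH) (Lpr_dt (f237546 IH) (Lpr_gt (f349995 IH) (Lpr_dt (f327788 IH) (Lpe (K21.f327786 IH) (Lpr_df (K14.f186903 IH) (Lpn (LP (LK LD1_c15 LD2_c14 LD3_c32))))))))))))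
theorem f323788 : Led Lsl_dt (LP (LK LD1_c10 LD2_c29 LD3_c17)) = (LP (LK LD1_c7 LD2_c55 LD3_c48)) :=
  Lgr Lrot42 (Lpr_df (f323786 IH) (Lpn (LP (LK LD1_c7 LD2_c55 LD3_c48))))
theorem f229184 : Led Lsl_ct (LP (LK LD1_c8 LD2_c4 LD3_c38)) = (LP (LK LD1_c4 LD2_c1 LD3_c61)) :=
  Lre_c IH (LK LD1_c8 LD2_c4 LD3_c38) (LK LD1_c4 LD2_c1 LD3_c61) Lrfl Lrfl
theorem f327577 : Led Lsl_ct (LP (LK LD1_c15 LD2_c14 LD3_c32)) = (LP (LK LD1_c18 LD2_c3 LD3_c55)) :=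
  Lgr Lrot8 (Lpr_gt (K21.f320833 IH) (Lpe (K20.f275869 IH) (Lpr_gt (K20.f229729 IH) (Lpe (K15.f229717 IH) (Lpe (f229184 IH) (Lpe (K16.f229135 IH) (Lpe (K21.f327570 IH) (Lpe (K21.f327537 IH) (Lpr_gf (K21.f327575 IH) (Lpn (LP (LK LD1_c18 LD2_c3 LD3_c55))))))))))))
theorem f327541 : Led Lsl_ct (LP (LK LD1_c9 LD2_c53 LD3_c57)) = (LP (LK LD1_c5 LD2_c1 LD3_c45)) :=
  Lre_c IH (LK LD1_c9 LD2_c53 LD3_c57) (LK LD1_c5 LD2_c1 LD3_c45) Lrfl Lrfl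
theorem f349999 : Led Lsl_gt (LP (LK LD1_c8 LD2_c41 LD3_c39)) = (LP (LK LD1_c9 LD2_c37 LD3_c60)) :=
  Lgr Lrot150 (Lpe (K16.f216766 IH) (Lpr_gf (K18.f269812 IH) (Lpe (f323788 IH) (Lpr_gt (f349997 IH) (Lpr_ct (f327577 IH) (Lpe (K21.f327575 IH) (Lpr_ct (f327541 IH) (Lpr_df (K21.f327510 IH) (Lpe (K23.f237521 IH) (Lpn (LP (LK LD1_c9 LD2_c37 LD3_c60))))))))))))
theorem f228988 : Led Lsl_dt (LP (LK LD1_c15 LD2_c34 LD3_c51)) = (LP (LK LD1_c8 LD2_c17 LD3_c4)) :=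
  Lre_d IH (LK LD1_c15 LD2_c34 LD3_c51) (LK LD1_c8 LD2_c17 LD3_c4) Lrfl Lrfl
theorem f279406 : Led Lsl_dt (LP (LK LD1_c9 LD2_c37 LD3_c60)) = (LP (LK LD1_c17 LD2_c43 LD3_c37)) :=
  Lre_d IH (LK LD1_c9 LD2_c37 LD3_c60) (LK LD1_c17 LD2_c43 LD3_c37) Lrfl Lrfl
theorem f350003 : Led Lsl_gf (LP (LK LD1_c15 LD2_c34 LD3_c51)) = (LP (LK LD1_c17 LD2_c43 LD3_c37)) :=
  Lgr Lrot143 (Lpr_dt (f228988 IH) (Lpe (K21.f228980 IH) (Lpr_df (K12.f228975 IH) (Lpe (K20.f228989 IH) (Lpe (K20.f275867 IH) (Lpe (K20.f269820 IH) (Lpe (K16.f216772 IH) (Lpr_gt (f349999 IH) (Lpr_dt (f279406 IH) (Lpn (LP (LK LD1_c17 LD2_c43 LD3_c37))))))))))))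
theorem f220082 : Led Lsl_dt (LP (LK LD1_c8 LD2_c17 LD3_c4)) = (LP (LK LD1_c15 LD2_c34 LD3_c51)) :=
  Lre_d IH (LK LD1_c8 LD2_c17 LD3_c4) (LK LD1_c15 LD2_c34 LD3_c51) Lrfl Lrfl
theorem f220081 : Led Lsl_et (LP (LK LD1_c8 LD2_c17 LD3_c4)) = (LP (LK LD1_c4 LD2_c8 LD3_c29)) :=
  Lre_e IH (LK LD1_c8 LD2_c17 LD3_c4) (LK LD1_c4 LD2_c8 LD3_c29) Lrfl Lrfl
theorem f199675 : Led Lsl_dt (LP (LK LD1_c4 LD2_c12 LD3_c35)) = (LP (LK LD1_c8 LD2_c24 LD3_c47)) :=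
  Lre_d IH (LK LD1_c4 LD2_c12 LD3_c35) (LK LD1_c8 LD2_c24 LD3_c47) Lrfl Lrfl
theorem f235692 : Led Lsl_gt (LP (LK LD1_c8 LD2_c24 LD3_c47)) = (LP (LK LD1_c4 LD2_c51 LD3_c50)) :=
  Lgr Lrot49 (Lpe (f199675 IH) (Lpe (K13.f220070 IH) (Lpe (K13.f167358 IH) (Lpr_gt (K19.f235593 IH) (Lpr_dt (K20.f235596 IH) (Lpr_gt (K13.f235597 IH) (Lpr_dt (K13.f235684 IH) (Lpe (K13.f186932 IH) (Lpe (K15.f1930 IH) (Lpn (LP (LK LD1_c4 LD2_c51 LD3_c50))))))))))))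
theorem f186934 : Led Lsl_et (LP (LK LD1_c2 LD2_c23 LD3_c43)) = (LP (LK LD1_c4 LD2_c51 LD3_c51)) :=
  Lre_e IH (LK LD1_c2 LD2_c23 LD3_c43) (LK LD1_c4 LD2_c51 LD3_c51) Lrfl Lrfl
theorem f327519 : Led Lsl_et (LP (LK LD1_c9 LD2_c37 LD3_c60)) = (LP (LK LD1_c9 LD2_c35 LD3_c20)) :=
  Lgr Lrot158 (Lpe (K23.f279405 IH) (Lpr_ef (K22.f327516 IH) (Lpe (K23.f327518 IH) (Lpn (LP (LK LD1_c9 LD2_c35 LD3_c20))))))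
theorem f350007 : Led Lsl_gt (LP (LK LD1_c4 LD2_c51 LD3_c51)) = (LP (LK LD1_c9 LD2_c35 LD3_c20)) :=
  Lgr Lrot131 (Lpe (f186934 IH) (Lpr_dt (K15.f2794 IH) (Lpe (f235692 IH) (Lpe (f199675 IH) (Lpe (K13.f220070 IH) (Lpe (f220081 IH) (Lpr_dt (f220082 IH) (Lpr_gf (f350003 IH) (Lpe (f279406 IH) (Lpr_et (f327519 IH) (Lpn (LP (LK LD1_c9 LD2_c35 LD3_c20)))))))))))))
theorem f186936 : Led Lsl_ct (LP (LK LD1_c4 LD2_c51 LD3_c51)) = (LP (LK LD1_c7 LD2_c55 LD3_c25)) :=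
  Lgr Lrot15 (Lpe (f186934 IH) (Lpr_cf (K12.f186923 IH) (Lpe (K17.f186935 IH) (Lpn (LP (LK LD1_c7 LD2_c55 LD3_c25))))))
theorem f186948 : Led Lsl_cf (LP (LK LD1_c4 LD2_c51 LD3_c51)) = (LP (LK LD1_c7 LD2_c55 LD3_c25)) :=
  Lgr Lrot11 (Lpr_ct (f186936 IH) (Lpn (LP (LK LD1_c7 LD2_c55 LD3_c25))))
theorem f219483 : Led Lsl_gt (LP (LK LD1_c8 LD2_c40 LD3_c0)) = (LP (LK LD1_c4 LD2_c21 LD3_c12)) :=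
  Lre_g IH (LK LD1_c8 LD2_c40 LD3_c0) (LK LD1_c4 LD2_c21 LD3_c12) Lrfl Lrfl
theorem f310502 : Led Lsl_bt (LP (LK LD1_c4 LD2_c17 LD3_c45)) = (LP (LK LD1_c8 LD2_c34 LD3_c36)) :=
  Lre_b IH (LK LD1_c4 LD2_c17 LD3_c45) (LK LD1_c8 LD2_c34 LD3_c36) Lrfl Lrfl
theorem f307899 : Led Lsl_ct (LP (LK LD1_c4 LD2_c17 LD3_c45)) = (LP (LK LD1_c8 LD2_c34 LD3_c37)) :=
  Lre_c IH (LK LD1_c4 LD2_c17 LD3_c45) (LK LD1_c8 LD2_c34 LD3_c37) Lrfl Lrfl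
theorem f270812 : Led Lsl_at (LP (LK LD1_c11 LD2_c52 LD3_c0)) = (LP (LK LD1_c11 LD2_c52 LD3_c5)) :=
  Lgr Lrot100 (Lpr_af (K16.f270810 IH) (Lpn (LP (LK LD1_c11 LD2_c52 LD3_c5))))
theorem f182270 : Led Lsl_ct (LP (LK LD1_c8 LD2_c20 LD3_c32)) = (LP (LK LD1_c4 LD2_c10 LD3_c12)) :=
  Lre_c IH (LK LD1_c8 LD2_c20 LD3_c32) (LK LD1_c4 LD2_c10 LD3_c12) Lrfl Lrfl
theorem f329656 : Led Lsl_gt (LP (LK LD1_c8 LD2_c34 LD3_c37)) = (LP (LK LD1_c11 LD2_c52 LD3_c5)) :=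
  Lgr Lrot94 (Lpe (f307899 IH) (Lpr_gt (K21.f7967 IH) (Lpe (K21.f329556 IH) (Lpr_gt (K21.f329570 IH) (Lpr_dt (K21.f182273 IH) (Lpe (f182270 IH) (Lpe (K20.f182271 IH) (Lpe (K20.f267565 IH) (Lpe (K20.f42665 IH) (Lpn (LP (LK LD1_c11 LD2_c52 LD3_c5))))))))))))
theorem f335706 : Led Lsl_gt (LP (LK LD1_c16 LD2_c5 LD3_c39)) = (LP (LK LD1_c8 LD2_c34 LD3_c37)) :=
  Lgr Lrot5 (Lpr_ft (K22.f335702 IH) (Lpr_at (f270812 IH) (Lpe (f329656 IH) (Lpn (LP (LK LD1_c8 LD2_c34 LD3_c37))))))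
theorem f247145 : Led Lsl_gt (LP (LK LD1_c4 LD2_c52 LD3_c55)) = (LP (LK LD1_c8 LD2_c1 LD3_c30)) :=
  Lgr Lrot46 (Lpe (K23.f170358 IH) (Lpr_ft (K15.f239870 IH) (Lpr_at (K15.f247125 IH) (Lpn (LP (LK LD1_c8 LD2_c1 LD3_c30))))))
theorem f350017 : Led Lsl_bf (LP (LK LD1_c4 LD2_c52 LD3_c55)) = (LP (LK LD1_c4 LD2_c51 LD3_c36)) :=
  Lgr Lrot156 (Lpr_gt (f247145 IH) (Lpe (K16.f247127 IH) (Lpe (K22.f335704 IH) (Lpr_gt (f335706 IH) (Lpe (f307899 IH) (Lpr_bt (f310502 IH) (Lpe (K21.f310474 IH) (Lpe (f186948 IH) (Lpr_gt (f350007 IH) (Lpe (K23.f171081 IH) (Lpn (LP (LK LD1_c4 LD2_c51 LD3_c36)))))))))))))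
theorem f241669 : Led Lsl_at (LP (LK LD1_c7 LD2_c55 LD3_c52)) = (LP (LK LD1_c4 LD2_c22 LD3_c2)) :=
  Lgr Lrot100 (Lpr_af (K13.f241667 IH) (Lpn (LP (LK LD1_c4 LD2_c22 LD3_c2))))
theorem f255704 : Led Lsl_gf (LP (LK LD1_c8 LD2_c41 LD3_c20)) = (LP (LK LD1_c14 LD2_c57 LD3_c39)) :=
  Lgr Lrot47 (Lpr_gt (K16.f255702 IH) (Lpe (f241669 IH) (Lpe (K16.f241681 IH) (Lpn (LP (LK LD1_c14 LD2_c57 LD3_c39))))))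
theorem f350019 : Led Lsl_bf (LP (LK LD1_c8 LD2_c40 LD3_c0)) = (LP (LK LD1_c4 LD2_c21 LD3_c51)) :=
  Lgr Lrot156 (Lpr_gt (f219483 IH) (Lpr_bf (K17.f219477 IH) (Lpe (f186948 IH) (Lpr_gt (f350007 IH) (Lpe (K23.f171081 IH) (Lpe (f350017 IH) (Lpr_gt (f247145 IH) (Lpr_ct (K16.f270841 IH) (Lpe (f255704 IH) (Lpe (K17.f255604 IH) (Lpn (LP (LK LD1_c4 LD2_c21 LD3_c51)))))))))))))
theorem f265824 : Led Lsl_et (LP (LK LD1_c8 LD2_c40 LD3_c0)) = (LP (LK LD1_c16 LD2_c13 LD3_c50)) :=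
  Lre_e IH (LK LD1_c8 LD2_c40 LD3_c0) (LK LD1_c16 LD2_c13 LD3_c50) Lrfl Lrfl
theorem f350036 : Led Lsl_bt (LP (LK LD1_c16 LD2_c13 LD3_c50)) = (LP (LK LD1_c8 LD2_c41 LD3_c22)) :=
  Lgr Lrot119 (Lpe (f265824 IH) (Lpr_bf (f350019 IH) (Lpe (K19.f227240 IH) (Lpn (LP (LK LD1_c8 LD2_c41 LD3_c22))))))
theorem f265812 : Led Lsl_dt (LP (LK LD1_c16 LD2_c13 LD3_c49)) = (LP (LK LD1_c8 LD2_c40 LD3_c0)) :=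
  Lre_d IH (LK LD1_c16 LD2_c13 LD3_c49) (LK LD1_c8 LD2_c40 LD3_c0) Lrfl Lrfl
theorem f265813 : Led Lsl_et (LP (LK LD1_c16 LD2_c13 LD3_c49)) = (LP (LK LD1_c10 LD2_c35 LD3_c18)) :=
  Lgr Lrot122 (Lpr_dt (f265812 IH) (Lpr_gt (f219483 IH) (Lpr_df (K17.f265808 IH) (Lpe (K17.f265799 IH) (Lpr_gt (K15.f265771 IH) (Lpr_dt (K16.f187540 IH) (Lpe (K10.f188006 IH) (Lpe (K14.f50104 IH) (Lpr_et (K12.f49234 IH) (Lpe (K14.f196802 IH) (Lpn (LP (LK LD1_c10 LD2_c35 LD3_c18)))))))))))))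
theorem f265815 : Led Lsl_dt (LP (LK LD1_c8 LD2_c40 LD3_c0)) = (LP (LK LD1_c16 LD2_c13 LD3_c49)) :=
  Lre_d IH (LK LD1_c8 LD2_c40 LD3_c0) (LK LD1_c16 LD2_c13 LD3_c49) Lrfl Lrfl
theorem f265816 : Led Lsl_et (LP (LK LD1_c16 LD2_c13 LD3_c50)) = (LP (LK LD1_c8 LD2_c40 LD3_c0)) :=
  Lre_e IH (LK LD1_c16 LD2_c13 LD3_c50) (LK LD1_c8 LD2_c40 LD3_c0) Lrfl Lrfl
theorem f250978 : Led Lsl_dt (LP (LK LD1_c10 LD2_c35 LD3_c18)) = (LP (LK LD1_c19 LD2_c10 LD3_c30)) :=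
  Lgr Lrot42 (Lpr_df (K14.f250976 IH) (Lpn (LP (LK LD1_c19 LD2_c10 LD3_c30))))
theorem f265817 : Led Lsl_df (LP (LK LD1_c16 LD2_c13 LD3_c50)) = (LP (LK LD1_c10 LD2_c34 LD3_c60)) :=
  Lgr Lrot70 (Lpr_et (f265816 IH) (Lpr_dt (f265815 IH) (Lpr_et (f265813 IH) (Lpr_dt (f250978 IH) (Lpr_et (K14.f220648 IH) (Lpn (LP (LK LD1_c10 LD2_c34 LD3_c60))))))))
theorem f350040 : Led Lsl_bf (LP (LK LD1_c10 LD2_c34 LD3_c60)) = (LP (LK LD1_c16 LD2_c14 LD3_c25)) :=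
  Lgr Lrot93 (Lpe (f265817 IH) (Lpr_bt (f350036 IH) (Lpe (K19.f255634 IH) (Lpn (LP (LK LD1_c16 LD2_c14 LD3_c25))))))
theorem f220714 : Led Lsl_gt (LP (LK LD1_c10 LD2_c50 LD3_c56)) = (LP (LK LD1_c5 LD2_c29 LD3_c50)) :=
  Lre_g IH (LK LD1_c10 LD2_c50 LD3_c56) (LK LD1_c5 LD2_c29 LD3_c50) Lrfl Lrfl
theorem f232195 : Led Lsl_gt (LP (LK LD1_c15 LD2_c34 LD3_c56)) = (LP (LK LD1_c8 LD2_c17 LD3_c10)) :=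
  Lre_g IH (LK LD1_c15 LD2_c34 LD3_c56) (LK LD1_c8 LD2_c17 LD3_c10) Lrfl Lrfl
theorem f311823 : Led Lsl_gt (LP (LK LD1_c11 LD2_c2 LD3_c58)) = (LP (LK LD1_c15 LD2_c34 LD3_c56)) :=
  Lgr Lrot5 (Lpr_ft (K19.f189431 IH) (Lpr_at (K19.f311817 IH) (Lpe (f232195 IH) (Lpn (LP (LK LD1_c15 LD2_c34 LD3_c56))))))
theorem f220707 : Led Lsl_ct (LP (LK LD1_c4 LD2_c15 LD3_c61)) = (LP (LK LD1_c2 LD2_c5 LD3_c23)) :=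
  Lre_c IH (LK LD1_c4 LD2_c15 LD3_c61) (LK LD1_c2 LD2_c5 LD3_c23) Lrfl Lrfl
theorem f220710 : Led Lsl_ct (LP (LK LD1_c5 LD2_c29 LD3_c50)) = (LP (LK LD1_c2 LD2_c41 LD3_c15)) :=
  Lre_c IH (LK LD1_c5 LD2_c29 LD3_c50) (LK LD1_c2 LD2_c41 LD3_c15) Lrfl Lrfl
theorem f336689 : Led Lsl_ct (LP (LK LD1_c15 LD2_c34 LD3_c56)) = (LP (LK LD1_c10 LD2_c50 LD3_c56)) :=
  Lgr Lrot152 (Lpe (f311823 IH) (Lpr_df (K21.f311804 IH) (Lpr_gt (K19.f250785 IH) (Lpr_ct (K22.f336681 IH) (Lpr_gt (K22.f220713 IH) (Lpr_ct (f220707 IH) (Lpe (K14.f220573 IH) (Lpe (f220710 IH) (Lpe (f220714 IH) (Lpn (LP (LK LD1_c10 LD2_c50 LD3_c56))))))))))))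
theorem f222308 : Led Lsl_ct (LP (LK LD1_c5 LD2_c35 LD3_c30)) = (LP (LK LD1_c11 LD2_c3 LD3_c6)) :=
  Lre_c IH (LK LD1_c5 LD2_c35 LD3_c30) (LK LD1_c11 LD2_c3 LD3_c6) Lrfl Lrfl
theorem f310697 : Led Lsl_gt (LP (LK LD1_c9 LD2_c0 LD3_c38)) = (LP (LK LD1_c16 LD2_c50 LD3_c10)) :=
  Lre_g IH (LK LD1_c9 LD2_c0 LD3_c38) (LK LD1_c16 LD2_c50 LD3_c10) Lrfl Lrfl
theorem f350044 : Led Lsl_cf (LP (LK LD1_c16 LD2_c50 LD3_c10)) = (LP (LK LD1_c16 LD2_c14 LD3_c25)) :=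
  Lgr Lrot163 (Lpe (f310697 IH) (Lpe (K21.f238138 IH) (Lpe (K22.f238106 IH) (Lpe (K22.f326440 IH) (Lpr_ct (K18.f200455 IH) (Lpe (K18.f298889 IH) (Lpe (K18.f28881 IH) (Lpe (K13.f196655 IH) (Lpr_gf (K14.f246339 IH) (Lpr_bf (f350040 IH) (Lpn (LP (LK LD1_c16 LD2_c14 LD3_c25)))))))))))))
theorem f350046 : Led Lsl_gf (LP (LK LD1_c11 LD2_c3 LD3_c6)) = (LP (LK LD1_c16 LD2_c50 LD3_c10)) :=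
  Lgr Lrot126 (Lpe (f222308 IH) (Lpr_bt (K21.f222299 IH) (Lpr_gt (f311823 IH) (Lpr_ct (f336689 IH) (Lpr_gt (f220714 IH) (Lpe (K20.f220681 IH) (Lpe (K16.f220679 IH) (Lpr_gt (K14.f220647 IH) (Lpr_bf (f350040 IH) (Lpe (f350044 IH) (Lpn (LP (LK LD1_c16 LD2_c50 LD3_c10)))))))))))))
theorem f308294 : Led Lsl_dt (LP (LK LD1_c11 LD2_c3 LD3_c6)) = (LP (LK LD1_c19 LD2_c54 LD3_c46)) :=
  Lre_d IH (LK LD1_c11 LD2_c3 LD3_c6) (LK LD1_c19 LD2_c54 LD3_c46) Lrfl Lrfl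
theorem f350050 : Led Lsl_gt (LP (LK LD1_c19 LD2_c54 LD3_c46)) = (LP (LK LD1_c16 LD2_c10 LD3_c0)) :=
  Lgr Lrot49 (Lpe (f308294 IH) (Lpr_gf (f350046 IH) (Lpr_cf (f350044 IH) (Lpr_gt (K21.f328654 IH) (Lpr_dt (K21.f328652 IH) (Lpe (K21.f328658 IH) (Lpe (K19.f305468 IH) (Lpr_cf (K21.f308649 IH) (Lpe (K19.f201775 IH) (Lpn (LP (LK LD1_c16 LD2_c10 LD3_c0))))))))))))
theorem f325870 : Led Lsl_gf (LP (LK LD1_c16 LD2_c50 LD3_c11)) = (LP (LK LD1_c11 LD2_c3 LD3_c6)) :=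
  Lgr Lrot126 (Lpr_cf (K21.f325862 IH) (Lpr_bt (K21.f309177 IH) (Lpr_gt (K18.f284172 IH) (Lpr_ct (K18.f226955 IH) (Lpr_gt (K16.f226952 IH) (Lpe (K21.f325779 IH) (Lpe (K21.f322714 IH) (Lpe (K19.f311806 IH) (Lpe (K21.f222299 IH) (Lpr_ct (f222308 IH) (Lpn (LP (LK LD1_c11 LD2_c3 LD3_c6)))))))))))))
theorem f325864 : Led Lsl_ct (LP (LK LD1_c16 LD2_c50 LD3_c11)) = (LP (LK LD1_c15 LD2_c43 LD3_c61)) :=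
  Lgr Lrot59 (Lpr_cf (K21.f325862 IH) (Lpn (LP (LK LD1_c15 LD2_c43 LD3_c61))))
theorem f324615 : Led Lsl_dt (LP (LK LD1_c5 LD2_c35 LD3_c40)) = (LP (LK LD1_c11 LD2_c3 LD3_c32)) :=
  Lre_d IH (LK LD1_c5 LD2_c35 LD3_c40) (LK LD1_c11 LD2_c3 LD3_c32) Lrfl Lrfl
theorem f324619 : Led Lsl_ct (LP (LK LD1_c19 LD2_c55 LD3_c45)) = (LP (LK LD1_c11 LD2_c3 LD3_c32)) :=
  Lre_c IH (LK LD1_c19 LD2_c55 LD3_c45) (LK LD1_c11 LD2_c3 LD3_c32) Lrfl Lrfl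
theorem f201786 : Led Lsl_ct (LP (LK LD1_c16 LD2_c10 LD3_c0)) = (LP (LK LD1_c26 LD2_c6 LD3_c47)) :=
  Lre_c IH (LK LD1_c16 LD2_c10 LD3_c0) (LK LD1_c26 LD2_c6 LD3_c47) Lrfl Lrfl
theorem f350124 : Led Lsl_gf (LP (LK LD1_c19 LD2_c55 LD3_c45)) = (LP (LK LD1_c26 LD2_c6 LD3_c47)) :=
  Lgr Lrot104 (Lpr_ct (f324619 IH) (Lpe (f324615 IH) (Lpe (K21.f324608 IH) (Lpr_gf (K21.f325867 IH) (Lpe (f325864 IH) (Lpr_gf (f325870 IH) (Lpe (K20.f308297 IH) (Lpr_gt (f350050 IH) (Lpr_ct (f201786 IH) (Lpn (LP (LK LD1_c26 LD2_c6 LD3_c47))))))))))))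
theorem f340528 : Led Lsl_gt (LP (LK LD1_c19 LD2_c55 LD3_c45)) = (LP (LK LD1_c29 LD2_c11 LD3_c36)) :=
  Lre_g IH (LK LD1_c19 LD2_c55 LD3_c45) (LK LD1_c29 LD2_c11 LD3_c36) Lrfl Lrfl
theorem f308280 : Led Lsl_ft (LP (LK LD1_c26 LD2_c6 LD3_c47)) = (LP (LK LD1_c29 LD2_c10 LD3_c27)) :=
  Lgr Lrot4 (Lpe (f201786 IH) (Lpr_ff (K19.f308276 IH) (Lpe (K19.f234039 IH) (Lpn (LP (LK LD1_c29 LD2_c10 LD3_c27))))))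
theorem f350128 : Led Lsl_af (LP (LK LD1_c29 LD2_c11 LD3_c36)) = (LP (LK LD1_c29 LD2_c10 LD3_c27)) :=
  Lgr Lrot31 (Lpe (f340528 IH) (Lpr_gf (f350124 IH) (Lpr_ft (f308280 IH) (Lpn (LP (LK LD1_c29 LD2_c10 LD3_c27))))))
theorem f350133 : Led Lsl_ct (LP (LK LD1_c29 LD2_c11 LD3_c36)) = (LP (LK LD1_c26 LD2_c8 LD3_c8)) :=
  Lgr Lrot111 (Lpr_af (f350128 IH) (Lpe (K21.f234037 IH) (Lpe (K19.f234021 IH) (Lpn (LP (LK LD1_c26 LD2_c8 LD3_c8))))))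
theorem f324616 : Led Lsl_ct (LP (LK LD1_c11 LD2_c3 LD3_c32)) = (LP (LK LD1_c19 LD2_c55 LD3_c45)) :=
  Lre_c IH (LK LD1_c11 LD2_c3 LD3_c32) (LK LD1_c19 LD2_c55 LD3_c45) Lrfl Lrfl
theorem f340487 : Led Lsl_gf (LP (LK LD1_c16 LD2_c11 LD3_c47)) = (LP (LK LD1_c10 LD2_c35 LD3_c55)) :=
  Lgr Lrot76 (Lpe (K23.f320785 IH) (Lpr_ff (K23.f340483 IH) (Lpr_gt (K21.f321044 IH) (Lpn (LP (LK LD1_c10 LD2_c35 LD3_c55))))))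
theorem f326435 : Led Lsl_bf (LP (LK LD1_c5 LD2_c38 LD3_c60)) = (LP (LK LD1_c9 LD2_c0 LD3_c39)) :=
  Lgr Lrot34 (Lpr_gf (K18.f297981 IH) (Lpr_bf (K20.f247248 IH) (Lpe (K17.f213807 IH) (Lpe (K20.f298879 IH) (Lpe (K20.f235808 IH) (Lpe (K20.f235804 IH) (Lpr_bf (K14.f235797 IH) (Lpr_ct (K14.f235905 IH) (Lpr_gf (K22.f326433 IH) (Lpe (K22.f238107 IH) (Lpn (LP (LK LD1_c9 LD2_c0 LD3_c39)))))))))))))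
theorem f340491 : Led Lsl_gt (LP (LK LD1_c11 LD2_c3 LD3_c33)) = (LP (LK LD1_c16 LD2_c50 LD3_c14)) :=
  Lgr Lrot149 (Lpe (K21.f324605 IH) (Lpr_gf (f340487 IH) (Lpe (K21.f276761 IH) (Lpr_ct (K20.f276757 IH) (Lpr_gf (K20.f305457 IH) (Lpe (K18.f228421 IH) (Lpr_bt (K20.f200435 IH) (Lpe (K18.f200454 IH) (Lpr_bf (f326435 IH) (Lpr_ct (K22.f238107 IH) (Lpn (LP (LK LD1_c16 LD2_c50 LD3_c14)))))))))))))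
theorem f340500 : Led Lsl_at (LP (LK LD1_c5 LD2_c35 LD3_c40)) = (LP (LK LD1_c9 LD2_c0 LD3_c46)) :=
  Lgr Lrot26 (Lpe (K21.f324561 IH) (Lpr_gt (f340491 IH) (Lpe (K22.f326433 IH) (Lpn (LP (LK LD1_c9 LD2_c0 LD3_c46))))))
theorem f340507 : Led Lsl_af (LP (LK LD1_c11 LD2_c3 LD3_c33)) = (LP (LK LD1_c16 LD2_c50 LD3_c30)) :=
  Lgr Lrot45 (Lpr_ft (K21.f324561 IH) (Lpr_at (f340500 IH) (Lpr_ft (K22.f235919 IH) (Lpn (LP (LK LD1_c16 LD2_c50 LD3_c30))))))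
theorem f337378 : Led Lsl_dt (LP (LK LD1_c25 LD2_c23 LD3_c17)) = (LP (LK LD1_c16 LD2_c50 LD3_c30)) :=
  Lgr Lrot42 (Lpr_df (K22.f337364 IH) (Lpn (LP (LK LD1_c16 LD2_c50 LD3_c30))))
theorem f340509 : Led Lsl_at (LP (LK LD1_c19 LD2_c55 LD3_c46)) = (LP (LK LD1_c25 LD2_c23 LD3_c17)) :=
  Lgr Lrot51 (Lpe (K23.f324572 IH) (Lpr_af (f340507 IH) (Lpe (f337378 IH) (Lpn (LP (LK LD1_c25 LD2_c23 LD3_c17))))))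
theorem f324626 : Led Lsl_ft (LP (LK LD1_c11 LD2_c3 LD3_c32)) = (LP (LK LD1_c19 LD2_c55 LD3_c46)) :=
  Lre_f IH (LK LD1_c11 LD2_c3 LD3_c32) (LK LD1_c19 LD2_c55 LD3_c46) Lrfl Lrfl
theorem f340511 : Led Lsl_gt (LP (LK LD1_c11 LD2_c3 LD3_c32)) = (LP (LK LD1_c19 LD2_c55 LD3_c44)) :=
  Lre_g IH (LK LD1_c11 LD2_c3 LD3_c32) (LK LD1_c19 LD2_c55 LD3_c44) Lrfl Lrfl
theorem f340512 : Led Lsl_gt (LP (LK LD1_c19 LD2_c55 LD3_c44)) = (LP (LK LD1_c25 LD2_c23 LD3_c17)) :=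
  Lgr Lrot46 (Lpe (f340511 IH) (Lpr_ft (f324626 IH) (Lpr_at (f340509 IH) (Lpn (LP (LK LD1_c25 LD2_c23 LD3_c17))))))
theorem f340514 : Led Lsl_ft (LP (LK LD1_c19 LD2_c55 LD3_c44)) = (LP (LK LD1_c16 LD2_c9 LD3_c54)) :=
  Lgr Lrot2 (Lpr_gt (f340512 IH) (Lpr_gt (K22.f182599 IH) (Lpr_af (K20.f315787 IH) (Lpn (LP (LK LD1_c16 LD2_c9 LD3_c54))))))
theorem f195547 : Led Lsl_ft (LP (LK LD1_c15 LD2_c30 LD3_c0)) = (LP (LK LD1_c25 LD2_c23 LD3_c18)) :=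
  Lre_f IH (LK LD1_c15 LD2_c30 LD3_c0) (LK LD1_c25 LD2_c23 LD3_c18) Lrfl Lrfl
theorem f340516 : Led Lsl_af (LP (LK LD1_c19 LD2_c55 LD3_c44)) = (LP (LK LD1_c25 LD2_c23 LD3_c18)) :=
  Lgr Lrot45 (Lpr_ft (f340514 IH) (Lpe (K20.f315787 IH) (Lpr_ft (f195547 IH) (Lpn (LP (LK LD1_c25 LD2_c23 LD3_c18))))))
theorem f340522 : Led Lsl_gf (LP (LK LD1_c11 LD2_c3 LD3_c32)) = (LP (LK LD1_c15 LD2_c30 LD3_c0)) :=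
  Lgr Lrot47 (Lpr_gt (f340511 IH) (Lpr_af (f340516 IH) (Lpe (f195547 IH) (Lpn (LP (LK LD1_c15 LD2_c30 LD3_c0))))))
theorem f195503 : Led Lsl_gt (LP (LK LD1_c8 LD2_c14 LD3_c21)) = (LP (LK LD1_c15 LD2_c29 LD3_c60)) :=
  Lre_g IH (LK LD1_c8 LD2_c14 LD3_c21) (LK LD1_c15 LD2_c29 LD3_c60) Lrfl Lrfl
theorem f234038 : Led Lsl_dt (LP (LK LD1_c16 LD2_c11 LD3_c25)) = (LP (LK LD1_c26 LD2_c8 LD3_c8)) :=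
  Lre_d IH (LK LD1_c16 LD2_c11 LD3_c25) (LK LD1_c26 LD2_c8 LD3_c8) Lrfl Lrfl
theorem f350141 : Led Lsl_ct (LP (LK LD1_c15 LD2_c29 LD3_c60)) = (LP (LK LD1_c8 LD2_c39 LD3_c12)) :=
  Lgr Lrot152 (Lpe (f195503 IH) (Lpe (K20.f195545 IH) (Lpe (f340522 IH) (Lpr_ct (f324616 IH) (Lpr_gt (f340528 IH) (Lpr_ct (f350133 IH) (Lpe (f234038 IH) (Lpe (K19.f308712 IH) (Lpr_gf (K21.f329845 IH) (Lpn (LP (LK LD1_c8 LD2_c39 LD3_c12))))))))))))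
theorem f293295 : Led Lsl_ct (LP (LK LD1_c8 LD2_c8 LD3_c53)) = (LP (LK LD1_c15 LD2_c20 LD3_c30)) :=
  Lre_c IH (LK LD1_c8 LD2_c8 LD3_c53) (LK LD1_c15 LD2_c20 LD3_c30) Lrfl Lrfl
theorem f350145 : Led Lsl_ef (LP (LK LD1_c15 LD2_c29 LD3_c60)) = (LP (LK LD1_c15 LD2_c20 LD3_c30)) :=
  Lgr Lrot28 (Lpr_ct (f350141 IH) (Lpe (K21.f328138 IH) (Lpr_ct (f293295 IH) (Lpn (LP (LK LD1_c15 LD2_c20 LD3_c30))))))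
theorem f195558 : Led Lsl_et (LP (LK LD1_c4 LD2_c6 LD3_c54)) = (LP (LK LD1_c8 LD2_c14 LD3_c21)) :=
  Lre_e IH (LK LD1_c4 LD2_c6 LD3_c54) (LK LD1_c8 LD2_c14 LD3_c21) Lrfl Lrfl
theorem f187928 : Led Lsl_dt (LP (LK LD1_c2 LD2_c33 LD3_c44)) = (LP (LK LD1_c1 LD2_c13 LD3_c50)) :=
  Lre_d IH (LK LD1_c2 LD2_c33 LD3_c44) (LK LD1_c1 LD2_c13 LD3_c50) Lrfl Lrfl
theorem f240762 : Led Lsl_gf (LP (LK LD1_c2 LD2_c33 LD3_c44)) = (LP (LK LD1_c5 LD2_c5 LD3_c10)) :=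
  Lgr Lrot143 (Lpr_dt (f187928 IH) (Lpe (K11.f171693 IH) (Lpe (K10.f193345 IH) (Lpe (K13.f170659 IH) (Lpr_df (K13.f240748 IH) (Lpe (K13.f240679 IH) (Lpe (K12.f36336 IH) (Lpe (K13.f240708 IH) (Lpr_dt (K13.f240701 IH) (Lpn (LP (LK LD1_c5 LD2_c5 LD3_c10))))))))))))
theorem f182593 : Led Lsl_dt (LP (LK LD1_c8 LD2_c14 LD3_c20)) = (LP (LK LD1_c4 LD2_c6 LD3_c54)) :=
  Lre_d IH (LK LD1_c8 LD2_c14 LD3_c20) (LK LD1_c4 LD2_c6 LD3_c54) Lrfl Lrfl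
theorem f242038 : Led Lsl_gt (LP (LK LD1_c10 LD2_c0 LD3_c50)) = (LP (LK LD1_c8 LD2_c14 LD3_c20)) :=
  Lgr Lrot94 (Lpr_cf (K13.f242023 IH) (Lpe (f240762 IH) (Lpr_dt (f187928 IH) (Lpe (K11.f201429 IH) (Lpr_dt (K11.f80912 IH) (Lpe (K13.f201408 IH) (Lpr_df (K13.f201426 IH) (Lpr_gf (K9.f182589 IH) (Lpe (f182593 IH) (Lpn (LP (LK LD1_c8 LD2_c14 LD3_c20))))))))))))
theorem f242045 : Led Lsl_et (LP (LK LD1_c8 LD2_c37 LD3_c44)) = (LP (LK LD1_c4 LD2_c19 LD3_c54)) :=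
  Lre_e IH (LK LD1_c8 LD2_c37 LD3_c44) (LK LD1_c4 LD2_c19 LD3_c54) Lrfl Lrfl
theorem f189894 : Led Lsl_dt (LP (LK LD1_c8 LD2_c37 LD3_c44)) = (LP (LK LD1_c16 LD2_c9 LD3_c47)) :=
  Lre_d IH (LK LD1_c8 LD2_c37 LD3_c44) (LK LD1_c16 LD2_c9 LD3_c47) Lrfl Lrfl
theorem f329783 : Led Lsl_dt (LP (LK LD1_c15 LD2_c20 LD3_c30)) = (LP (LK LD1_c25 LD2_c11 LD3_c47)) :=
  Lre_d IH (LK LD1_c15 LD2_c20 LD3_c30) (LK LD1_c25 LD2_c11 LD3_c47) Lrfl Lrfl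
theorem f350150 : Led Lsl_gf (LP (LK LD1_c16 LD2_c9 LD3_c47)) = (LP (LK LD1_c25 LD2_c11 LD3_c47)) :=
  Lgr Lrot145 (Lpe (f189894 IH) (Lpr_et (f242045 IH) (Lpe (K13.f239514 IH) (Lpr_dt (K16.f192594 IH) (Lpr_gt (f242038 IH) (Lpe (K13.f182595 IH) (Lpr_et (f195558 IH) (Lpr_gt (f195503 IH) (Lpr_ef (f350145 IH) (Lpr_dt (f329783 IH) (Lpn (LP (LK LD1_c25 LD2_c11 LD3_c47)))))))))))))
theorem f348693 : Led Lsl_at (LP (LK LD1_c15 LD2_c29 LD3_c43)) = (LP (LK LD1_c16 LD2_c9 LD3_c47)) :=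
  Lgr Lrot100 (Lpr_af (K23.f348690 IH) (Lpn (LP (LK LD1_c16 LD2_c9 LD3_c47))))
theorem f350152 : Led Lsl_ft (LP (LK LD1_c25 LD2_c22 LD3_c49)) = (LP (LK LD1_c15 LD2_c29 LD3_c43)) :=
  Lre_f IH (LK LD1_c25 LD2_c22 LD3_c49) (LK LD1_c15 LD2_c29 LD3_c43) Lrfl Lrfl
theorem f350153 : Led Lsl_gt (LP (LK LD1_c25 LD2_c22 LD3_c49)) = (LP (LK LD1_c25 LD2_c11 LD3_c47)) :=
  Lgr Lrot5 (Lpr_ft (f350152 IH) (Lpr_at (f348693 IH) (Lpr_gf (f350150 IH) (Lpn (LP (LK LD1_c25 LD2_c11 LD3_c47))))))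
theorem f293296 : Led Lsl_dt (LP (LK LD1_c25 LD2_c11 LD3_c47)) = (LP (LK LD1_c15 LD2_c20 LD3_c30)) :=
  Lre_d IH (LK LD1_c25 LD2_c11 LD3_c47) (LK LD1_c15 LD2_c20 LD3_c30) Lrfl Lrfl
theorem f194451 : Led Lsl_ct (LP (LK LD1_c10 LD2_c1 LD3_c12)) = (LP (LK LD1_c5 LD2_c5 LD3_c1)) :=
  Lre_c IH (LK LD1_c10 LD2_c1 LD3_c12) (LK LD1_c5 LD2_c5 LD3_c1) Lrfl Lrfl
theorem f350161 : Led Lsl_gf (LP (LK LD1_c15 LD2_c29 LD3_c44)) = (LP (LK LD1_c10 LD2_c1 LD3_c12)) :=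
  Lgr Lrot144 (Lpr_dt (K23.f348702 IH) (Lpr_gt (f350153 IH) (Lpr_dt (f293296 IH) (Lpe (f293295 IH) (Lpe (K21.f293294 IH) (Lpr_gf (K21.f293292 IH) (Lpr_df (K17.f223573 IH) (Lpr_gf (K22.f338575 IH) (Lpe (f194451 IH) (Lpn (LP (LK LD1_c10 LD2_c1 LD3_c12))))))))))))
theorem f348947 : Led Lsl_dt (LP (LK LD1_c8 LD2_c14 LD3_c10)) = (LP (LK LD1_c4 LD2_c14 LD3_c45)) :=
  Lgr Lrot42 (Lpr_df (K23.f348944 IH) (Lpn (LP (LK LD1_c4 LD2_c14 LD3_c45))))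
theorem f194463 : Led Lsl_ct (LP (LK LD1_c5 LD2_c5 LD3_c1)) = (LP (LK LD1_c10 LD2_c1 LD3_c12)) :=
  Lre_c IH (LK LD1_c5 LD2_c5 LD3_c1) (LK LD1_c10 LD2_c1 LD3_c12) Lrfl Lrfl
theorem f350165 : Led Lsl_gf (LP (LK LD1_c8 LD2_c28 LD3_c13)) = (LP (LK LD1_c8 LD2_c8 LD3_c48)) :=
  Lgr Lrot104 (Lpr_ct (K19.f220991 IH) (Lpe (f348947 IH) (Lpe (K23.f348821 IH) (Lpr_gf (f350161 IH) (Lpe (f194463 IH) (Lpe (K22.f31653 IH) (Lpr_df (K18.f211288 IH) (Lpr_gt (K20.f211311 IH) (Lpr_ct (K23.f211319 IH) (Lpn (LP (LK LD1_c8 LD2_c8 LD3_c48))))))))))))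
theorem f350168 : Led Lsl_gt (LP (LK LD1_c4 LD2_c4 LD3_c10)) = (LP (LK LD1_c8 LD2_c8 LD3_c48)) :=
  Lgr Lrot5 (Lpr_ft (K19.f200754 IH) (Lpe (K19.f314476 IH) (Lpr_gf (f350165 IH) (Lpn (LP (LK LD1_c8 LD2_c8 LD3_c48))))))
theorem f243924 : Led Lsl_gt (LP (LK LD1_c11 LD2_c9 LD3_c23)) = (LP (LK LD1_c5 LD2_c39 LD3_c10)) :=
  Lre_g IH (LK LD1_c11 LD2_c9 LD3_c23) (LK LD1_c5 LD2_c39 LD3_c10) Lrfl Lrfl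
theorem f350171 : Led Lsl_et (LP (LK LD1_c15 LD2_c20 LD3_c23)) = (LP (LK LD1_c8 LD2_c8 LD3_c48)) :=
  Lre_e IH (LK LD1_c15 LD2_c20 LD3_c23) (LK LD1_c8 LD2_c8 LD3_c48) Lrfl Lrfl
theorem f350176 : Led Lsl_df (LP (LK LD1_c11 LD2_c9 LD3_c23)) = (LP (LK LD1_c15 LD2_c20 LD3_c23)) :=
  Lgr Lrot170 (Lpr_gt (f243924 IH) (Lpe (K19.f228287 IH) (Lpr_et (K19.f228262 IH) (Lpr_gt (K13.f178082 IH) (Lpr_dt (K13.f243712 IH) (Lpe (K12.f226776 IH) (Lpr_df (K13.f223733 IH) (Lpr_et (K19.f200732 IH) (Lpr_gt (f350168 IH) (Lpe (f350171 IH) (Lpn (LP (LK LD1_c15 LD2_c20 LD3_c23)))))))))))))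
theorem f315011 : Led Lsl_gf (LP (LK LD1_c11 LD2_c9 LD3_c23)) = (LP (LK LD1_c15 LD2_c23 LD3_c8)) :=
  Lgr Lrot47 (Lpr_gt (f243924 IH) (Lpr_af (K19.f314997 IH) (Lpe (K19.f314996 IH) (Lpn (LP (LK LD1_c15 LD2_c23 LD3_c8))))))
theorem f314987 : Led Lsl_dt (LP (LK LD1_c8 LD2_c10 LD3_c10)) = (LP (LK LD1_c15 LD2_c23 LD3_c8)) :=
  Lre_d IH (LK LD1_c8 LD2_c10 LD3_c10) (LK LD1_c15 LD2_c23 LD3_c8) Lrfl Lrfl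
theorem f314505 : Led Lsl_gt (LP (LK LD1_c15 LD2_c54 LD3_c13)) = (LP (LK LD1_c15 LD2_c20 LD3_c53)) :=
  Lgr Lrot5 (Lpr_ft (K19.f220995 IH) (Lpr_at (K19.f314497 IH) (Lpe (K23.f52309 IH) (Lpn (LP (LK LD1_c15 LD2_c20 LD3_c53))))))
theorem f347009 : Led Lsl_gt (LP (LK LD1_c8 LD2_c7 LD3_c36)) = (LP (LK LD1_c8 LD2_c27 LD3_c42)) :=
  Lgr Lrot46 (Lpr_gf (K23.f347007 IH) (Lpr_ft (K19.f314855 IH) (Lpr_at (K19.f314936 IH) (Lpn (LP (LK LD1_c8 LD2_c27 LD3_c42))))))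
theorem f350185 : Led Lsl_et (LP (LK LD1_c8 LD2_c10 LD3_c10)) = (LP (LK LD1_c8 LD2_c27 LD3_c42)) :=
  Lgr Lrot122 (Lpr_dt (f314987 IH) (Lpe (f315011 IH) (Lpr_df (f350176 IH) (Lpr_et (f350171 IH) (Lpe (f350165 IH) (Lpr_dt (K19.f220997 IH) (Lpr_gt (f314505 IH) (Lpr_df (K23.f347037 IH) (Lpe (K23.f347027 IH) (Lpr_gt (f347009 IH) (Lpn (LP (LK LD1_c8 LD2_c27 LD3_c42)))))))))))))
theorem f315002 : Led Lsl_et (LP (LK LD1_c25 LD2_c15 LD3_c19)) = (LP (LK LD1_c15 LD2_c23 LD3_c8)) :=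
  Lre_e IH (LK LD1_c25 LD2_c15 LD3_c19) (LK LD1_c15 LD2_c23 LD3_c8) Lrfl Lrfl
theorem f314939 : Led Lsl_dt (LP (LK LD1_c8 LD2_c27 LD3_c42)) = (LP (LK LD1_c15 LD2_c53 LD3_c24)) :=
  Lre_d IH (LK LD1_c8 LD2_c27 LD3_c42) (LK LD1_c15 LD2_c53 LD3_c24) Lrfl Lrfl
theorem f238447 : Led Lsl_et (LP (LK LD1_c15 LD2_c53 LD3_c24)) = (LP (LK LD1_c25 LD2_c49 LD3_c28)) :=
  Lre_e IH (LK LD1_c15 LD2_c53 LD3_c24) (LK LD1_c25 LD2_c49 LD3_c28) Lrfl Lrfl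
theorem f350189 : Led Lsl_df (LP (LK LD1_c25 LD2_c15 LD3_c19)) = (LP (LK LD1_c25 LD2_c49 LD3_c28)) :=
  Lgr Lrot70 (Lpr_et (f315002 IH) (Lpr_dt (K19.f314964 IH) (Lpr_et (f350185 IH) (Lpr_dt (f314939 IH) (Lpr_et (f238447 IH) (Lpn (LP (LK LD1_c25 LD2_c49 LD3_c28))))))))
theorem f238439 : Led Lsl_ft (LP (LK LD1_c15 LD2_c53 LD3_c24)) = (LP (LK LD1_c8 LD2_c27 LD3_c41)) :=
  Lre_f IH (LK LD1_c15 LD2_c53 LD3_c24) (LK LD1_c8 LD2_c27 LD3_c41) Lrfl Lrfl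
theorem f238440 : Led Lsl_et (LP (LK LD1_c25 LD2_c49 LD3_c28)) = (LP (LK LD1_c15 LD2_c53 LD3_c24)) :=
  Lre_e IH (LK LD1_c25 LD2_c49 LD3_c28) (LK LD1_c15 LD2_c53 LD3_c24) Lrfl Lrfl
theorem f220994 : Led Lsl_et (LP (LK LD1_c15 LD2_c54 LD3_c13)) = (LP (LK LD1_c25 LD2_c50 LD3_c6)) :=
  Lre_e IH (LK LD1_c15 LD2_c54 LD3_c13) (LK LD1_c25 LD2_c50 LD3_c6) Lrfl Lrfl
theorem f238441 : Led Lsl_ff (LP (LK LD1_c25 LD2_c49 LD3_c28)) = (LP (LK LD1_c25 LD2_c50 LD3_c6)) :=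
  Lgr Lrot72 (Lpr_et (f238440 IH) (Lpr_ft (f238439 IH) (Lpr_et (K19.f238431 IH) (Lpr_ft (K23.f221000 IH) (Lpr_et (f220994 IH) (Lpn (LP (LK LD1_c25 LD2_c50 LD3_c6))))))))
theorem f319720 : Led Lsl_et (LP (LK LD1_c15 LD2_c20 LD3_c41)) = (LP (LK LD1_c25 LD2_c11 LD3_c56)) :=
  Lre_e IH (LK LD1_c15 LD2_c20 LD3_c41) (LK LD1_c25 LD2_c11 LD3_c56) Lrfl Lrfl
theorem f220986 : Led Lsl_dt (LP (LK LD1_c15 LD2_c54 LD3_c13)) = (LP (LK LD1_c8 LD2_c28 LD3_c13)) :=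
  Lre_d IH (LK LD1_c15 LD2_c54 LD3_c13) (LK LD1_c8 LD2_c28 LD3_c13) Lrfl Lrfl
theorem f220999 : Led Lsl_et (LP (LK LD1_c25 LD2_c50 LD3_c6)) = (LP (LK LD1_c15 LD2_c54 LD3_c13)) :=
  Lre_e IH (LK LD1_c25 LD2_c50 LD3_c6) (LK LD1_c15 LD2_c54 LD3_c13) Lrfl Lrfl
theorem f319721 : Led Lsl_dt (LP (LK LD1_c25 LD2_c11 LD3_c56)) = (LP (LK LD1_c25 LD2_c50 LD3_c6)) :=
  Lgr Lrot77 (Lpe (f319720 IH) (Lpe (K21.f319706 IH) (Lpr_ef (K20.f319715 IH) (Lpe (f220986 IH) (Lpe (f220999 IH) (Lpn (LP (LK LD1_c25 LD2_c50 LD3_c6))))))))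
theorem f350195 : Led Lsl_ft (LP (LK LD1_c25 LD2_c15 LD3_c19)) = (LP (LK LD1_c25 LD2_c11 LD3_c56)) :=
  Lgr Lrot54 (Lpr_df (f350189 IH) (Lpr_ff (f238441 IH) (Lpe (f319721 IH) (Lpn (LP (LK LD1_c25 LD2_c11 LD3_c56))))))
theorem f314995 : Led Lsl_et (LP (LK LD1_c15 LD2_c23 LD3_c8)) = (LP (LK LD1_c25 LD2_c15 LD3_c19)) :=
  Lre_e IH (LK LD1_c15 LD2_c23 LD3_c8) (LK LD1_c25 LD2_c15 LD3_c19) Lrfl Lrfl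
theorem f350197 : Led Lsl_ft (LP (LK LD1_c8 LD2_c10 LD3_c9)) = (LP (LK LD1_c15 LD2_c23 LD3_c8)) :=
  Lre_f IH (LK LD1_c8 LD2_c10 LD3_c9) (LK LD1_c15 LD2_c23 LD3_c8) Lrfl Lrfl
theorem f328171 : Led Lsl_et (LP (LK LD1_c25 LD2_c11 LD3_c56)) = (LP (LK LD1_c15 LD2_c20 LD3_c41)) :=
  Lre_e IH (LK LD1_c25 LD2_c11 LD3_c56) (LK LD1_c15 LD2_c20 LD3_c41) Lrfl Lrfl
theorem f350198 : Led Lsl_ft (LP (LK LD1_c15 LD2_c20 LD3_c41)) = (LP (LK LD1_c8 LD2_c8 LD3_c58)) :=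
  Lre_f IH (LK LD1_c15 LD2_c20 LD3_c41) (LK LD1_c8 LD2_c8 LD3_c58) Lrfl Lrfl
theorem f350199 : Led Lsl_ef (LP (LK LD1_c8 LD2_c10 LD3_c9)) = (LP (LK LD1_c8 LD2_c8 LD3_c58)) :=
  Lgr Lrot21 (Lpr_ft (f350197 IH) (Lpr_et (f314995 IH) (Lpr_ft (f350195 IH) (Lpr_et (f328171 IH) (Lpr_ft (f350198 IH) (Lpn (LP (LK LD1_c8 LD2_c8 LD3_c58))))))))
theorem f354831 : Led Lsl_bt (LP (LK LD1_c8 LD2_c10 LD3_c9)) = (LP (LK LD1_c15 LD2_c23 LD3_c4)) :=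
  Lre_b IH (LK LD1_c8 LD2_c10 LD3_c9) (LK LD1_c15 LD2_c23 LD3_c4) Lrfl Lrfl
theorem f291256 : Led Lsl_bt (LP (LK LD1_c15 LD2_c20 LD3_c36)) = (LP (LK LD1_c8 LD2_c8 LD3_c58)) :=
  Lre_b IH (LK LD1_c15 LD2_c20 LD3_c36) (LK LD1_c8 LD2_c8 LD3_c58) Lrfl Lrfl
theorem f379775 : Led Lsl_et (LP (LK LD1_c15 LD2_c23 LD3_c4)) = (LP (LK LD1_c15 LD2_c20 LD3_c36)) :=
  Lgr Lrot74 (Lpe (f354831 IH) (Lpr_ef (f350199 IH) (Lpe (f291256 IH) (Lpn (LP (LK LD1_c15 LD2_c20 LD3_c36))))))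
theorem f315006 : Led Lsl_at (LP (LK LD1_c25 LD2_c15 LD3_c2)) = (LP (LK LD1_c15 LD2_c23 LD3_c4)) :=
  Lre_a IH (LK LD1_c25 LD2_c15 LD3_c2) (LK LD1_c15 LD2_c23 LD3_c4) Lrfl Lrfl
theorem f319703 : Led Lsl_at (LP (LK LD1_c15 LD2_c20 LD3_c36)) = (LP (LK LD1_c25 LD2_c11 LD3_c49)) :=
  Lre_a IH (LK LD1_c15 LD2_c20 LD3_c36) (LK LD1_c25 LD2_c11 LD3_c49) Lrfl Lrfl
theorem f379777 : Led Lsl_ef (LP (LK LD1_c25 LD2_c15 LD3_c2)) = (LP (LK LD1_c25 LD2_c11 LD3_c49)) :=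
  Lgr Lrot20 (Lpr_at (f315006 IH) (Lpr_et (f379775 IH) (Lpr_at (f319703 IH) (Lpn (LP (LK LD1_c25 LD2_c11 LD3_c49))))))
theorem f379784 : Led Lsl_dt (LP (LK LD1_c25 LD2_c15 LD3_c2)) = (LP (LK LD1_c15 LD2_c23 LD3_c1)) :=
  Lre_d IH (LK LD1_c25 LD2_c15 LD3_c2) (LK LD1_c15 LD2_c23 LD3_c1) Lrfl Lrfl
theorem f332715 : Led Lsl_et (LP (LK LD1_c15 LD2_c23 LD3_c1)) = (LP (LK LD1_c8 LD2_c10 LD3_c7)) :=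
  Lre_e IH (LK LD1_c15 LD2_c23 LD3_c1) (LK LD1_c8 LD2_c10 LD3_c7) Lrfl Lrfl
theorem f379785 : Led Lsl_dt (LP (LK LD1_c15 LD2_c20 LD3_c33)) = (LP (LK LD1_c25 LD2_c11 LD3_c49)) :=
  Lre_d IH (LK LD1_c15 LD2_c20 LD3_c33) (LK LD1_c25 LD2_c11 LD3_c49) Lrfl Lrfl
theorem f332721 : Led Lsl_et (LP (LK LD1_c8 LD2_c8 LD3_c56)) = (LP (LK LD1_c15 LD2_c20 LD3_c33)) :=
  Lre_e IH (LK LD1_c8 LD2_c8 LD3_c56) (LK LD1_c15 LD2_c20 LD3_c33) Lrfl Lrfl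
theorem f379786 : Led Lsl_dt (LP (LK LD1_c8 LD2_c10 LD3_c7)) = (LP (LK LD1_c8 LD2_c8 LD3_c56)) :=
  Lgr Lrot77 (Lpe (f332715 IH) (Lpe (f379784 IH) (Lpr_ef (f379777 IH) (Lpe (f379785 IH) (Lpe (f332721 IH) (Lpn (LP (LK LD1_c8 LD2_c8 LD3_c56))))))))
theorem f220945 : Led Lsl_at (LP (LK LD1_c2 LD2_c42 LD3_c54)) = (LP (LK LD1_c5 LD2_c33 LD3_c32)) :=
  Lre_a IH (LK LD1_c2 LD2_c42 LD3_c54) (LK LD1_c5 LD2_c33 LD3_c32) Lrfl Lrfl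
theorem f238457 : Led Lsl_df (LP (LK LD1_c8 LD2_c27 LD3_c38)) = (LP (LK LD1_c5 LD2_c33 LD3_c32)) :=
  Lgr Lrot18 (Lpr_at (K22.f238456 IH) (Lpr_dt (K22.f238429 IH) (Lpr_at (f220945 IH) (Lpn (LP (LK LD1_c5 LD2_c33 LD3_c32))))))
theorem f379795 : Led Lsl_ff (LP (LK LD1_c5 LD2_c33 LD3_c32)) = (LP (LK LD1_c8 LD2_c8 LD3_c56)) :=
  Lgr Lrot19 (Lpe (f238457 IH) (Lpr_ft (K22.f332701 IH) (Lpr_dt (f379786 IH) (Lpn (LP (LK LD1_c8 LD2_c8 LD3_c56))))))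
theorem f379799 : Led Lsl_gf (LP (LK LD1_c5 LD2_c33 LD3_c36)) = (LP (LK LD1_c8 LD2_c8 LD3_c56)) :=
  Lgr Lrot47 (Lpr_gt (K20.f220920 IH) (Lpe (K22.f221034 IH) (Lpr_ff (f379795 IH) (Lpn (LP (LK LD1_c8 LD2_c8 LD3_c56))))))
theorem f281580 : Led Lsl_bt (LP (LK LD1_c5 LD2_c31 LD3_c33)) = (LP (LK LD1_c2 LD2_c41 LD3_c60)) :=
  Lre_b IH (LK LD1_c5 LD2_c31 LD3_c33) (LK LD1_c2 LD2_c41 LD3_c60) Lrfl Lrfl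
theorem f174506 : Led Lsl_dt (LP (LK LD1_c2 LD2_c11 LD3_c60)) = (LP (LK LD1_c4 LD2_c29 LD3_c59)) :=
  Lre_d IH (LK LD1_c2 LD2_c11 LD3_c60) (LK LD1_c4 LD2_c29 LD3_c59) Lrfl Lrfl
theorem f280797 : Led Lsl_ft (LP (LK LD1_c1 LD2_c17 LD3_c38)) = (LP (LK LD1_c2 LD2_c11 LD3_c60)) :=
  Lgr Lrot54 (Lpe (K20.f221289 IH) (Lpr_ff (K20.f280787 IH) (Lpe (f174506 IH) (Lpn (LP (LK LD1_c2 LD2_c11 LD3_c60))))))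
theorem f280655 : Led Lsl_at (LP (LK LD1_c2 LD2_c11 LD3_c60)) = (LP (LK LD1_c4 LD2_c29 LD3_c58)) :=
  Lre_a IH (LK LD1_c2 LD2_c11 LD3_c60) (LK LD1_c4 LD2_c29 LD3_c58) Lrfl Lrfl
theorem f281578 : Led Lsl_gt (LP (LK LD1_c2 LD2_c41 LD3_c60)) = (LP (LK LD1_c4 LD2_c29 LD3_c58)) :=
  Lgr Lrot46 (Lpe (K20.f178873 IH) (Lpr_ft (f280797 IH) (Lpr_at (f280655 IH) (Lpn (LP (LK LD1_c4 LD2_c29 LD3_c58))))))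
theorem f220907 : Led Lsl_gt (LP (LK LD1_c5 LD2_c31 LD3_c7)) = (LP (LK LD1_c2 LD2_c41 LD3_c50)) :=
  Lre_g IH (LK LD1_c5 LD2_c31 LD3_c7) (LK LD1_c2 LD2_c41 LD3_c50) Lrfl Lrfl
theorem f280728 : Led Lsl_gf (LP (LK LD1_c5 LD2_c31 LD3_c7)) = (LP (LK LD1_c8 LD2_c57 LD3_c50)) :=
  Lgr Lrot47 (Lpr_gt (f220907 IH) (Lpe (K20.f280719 IH) (Lpr_ff (K20.f280712 IH) (Lpn (LP (LK LD1_c8 LD2_c57 LD3_c50))))))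
theorem f173046 : Led Lsl_bt (LP (LK LD1_c1 LD2_c17 LD3_c38)) = (LP (LK LD1_c0 LD2_c35 LD3_c52)) :=
  Lre_b IH (LK LD1_c1 LD2_c17 LD3_c38) (LK LD1_c0 LD2_c35 LD3_c52) Lrfl Lrfl
theorem f225191 : Led Lsl_bt (LP (LK LD1_c1 LD2_c2 LD3_c61)) = (LP (LK LD1_c2 LD2_c12 LD3_c7)) :=
  Lre_b IH (LK LD1_c1 LD2_c2 LD3_c61) (LK LD1_c2 LD2_c12 LD3_c7) Lrfl Lrfl
theorem f225193 : Led Lsl_gt (LP (LK LD1_c2 LD2_c12 LD3_c7)) = (LP (LK LD1_c4 LD2_c30 LD3_c12)) :=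
  Lre_g IH (LK LD1_c2 LD2_c12 LD3_c7) (LK LD1_c4 LD2_c30 LD3_c12) Lrfl Lrfl
theorem f225194 : Led Lsl_bt (LP (LK LD1_c8 LD2_c58 LD3_c35)) = (LP (LK LD1_c4 LD2_c30 LD3_c12)) :=
  Lre_b IH (LK LD1_c8 LD2_c58 LD3_c35) (LK LD1_c4 LD2_c30 LD3_c12) Lrfl Lrfl
theorem f225195 : Led Lsl_cf (LP (LK LD1_c5 LD2_c31 LD3_c7)) = (LP (LK LD1_c8 LD2_c58 LD3_c35)) :=
  Lgr Lrot160 (Lpr_gt (f220907 IH) (Lpe (K20.f173047 IH) (Lpr_bt (f173046 IH) (Lpr_gt (K9.f173033 IH) (Lpe (K12.f173065 IH) (Lpr_gt (K9.f41074 IH) (Lpr_cf (K12.f225172 IH) (Lpr_bt (f225191 IH) (Lpr_gt (f225193 IH) (Lpe (f225194 IH) (Lpn (LP (LK LD1_c8 LD2_c58 LD3_c35)))))))))))))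
theorem f379797 : Led Lsl_ct (LP (LK LD1_c4 LD2_c30 LD3_c6)) = (LP (LK LD1_c8 LD2_c8 LD3_c56)) :=
  Lgr Lrot40 (Lpr_ff (K22.f319761 IH) (Lpe (K22.f238480 IH) (Lpr_ff (f379795 IH) (Lpn (LP (LK LD1_c8 LD2_c8 LD3_c56))))))
theorem f319916 : Led Lsl_bt (LP (LK LD1_c4 LD2_c30 LD3_c6)) = (LP (LK LD1_c2 LD2_c42 LD3_c42)) :=
  Lgr Lrot127 (Lpr_bf (K20.f319911 IH) (Lpn (LP (LK LD1_c2 LD2_c42 LD3_c42))))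
theorem f379801 : Led Lsl_gt (LP (LK LD1_c4 LD2_c30 LD3_c12)) = (LP (LK LD1_c2 LD2_c42 LD3_c42)) :=
  Lgr Lrot164 (Lpe (f225194 IH) (Lpe (f225195 IH) (Lpr_gf (f280728 IH) (Lpe (K20.f280667 IH) (Lpe (f281578 IH) (Lpe (f281580 IH) (Lpr_ct (K22.f218378 IH) (Lpr_gf (f379799 IH) (Lpe (f379797 IH) (Lpr_bt (f319916 IH) (Lpn (LP (LK LD1_c2 LD2_c42 LD3_c42)))))))))))))
theorem f168100 : Led Lsl_bt (LP (LK LD1_c1 LD2_c17 LD3_c48)) = (LP (LK LD1_c0 LD2_c35 LD3_c56)) :=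
  Lre_b IH (LK LD1_c1 LD2_c17 LD3_c48) (LK LD1_c0 LD2_c35 LD3_c56) Lrfl Lrfl
theorem f165014 : Led Lsl_bt (LP (LK LD1_c1 LD2_c2 LD3_c55)) = (LP (LK LD1_c2 LD2_c11 LD3_c50)) :=
  Lre_b IH (LK LD1_c1 LD2_c2 LD3_c55) (LK LD1_c2 LD2_c11 LD3_c50) Lrfl Lrfl
theorem f280976 : Led Lsl_ff (LP (LK LD1_c1 LD2_c17 LD3_c48)) = (LP (LK LD1_c2 LD2_c11 LD3_c50)) :=
  Lgr Lrot25 (Lpr_bt (f168100 IH) (Lpr_ft (K20.f280972 IH) (Lpr_bt (f165014 IH) (Lpn (LP (LK LD1_c2 LD2_c11 LD3_c50))))))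
theorem f281152 : Led Lsl_at (LP (LK LD1_c1 LD2_c17 LD3_c48)) = (LP (LK LD1_c2 LD2_c42 LD3_c29)) :=
  Lre_a IH (LK LD1_c1 LD2_c17 LD3_c48) (LK LD1_c2 LD2_c42 LD3_c29) Lrfl Lrfl
theorem f165015 : Led Lsl_gt (LP (LK LD1_c2 LD2_c11 LD3_c50)) = (LP (LK LD1_c4 LD2_c29 LD3_c33)) :=
  Lre_g IH (LK LD1_c2 LD2_c11 LD3_c50) (LK LD1_c4 LD2_c29 LD3_c33) Lrfl Lrfl
theorem f281535 : Led Lsl_gf (LP (LK LD1_c2 LD2_c42 LD3_c29)) = (LP (LK LD1_c4 LD2_c29 LD3_c33)) :=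
  Lgr Lrot76 (Lpe (f281152 IH) (Lpr_ff (f280976 IH) (Lpr_gt (f165015 IH) (Lpn (LP (LK LD1_c4 LD2_c29 LD3_c33))))))
theorem f281540 : Led Lsl_bt (LP (LK LD1_c8 LD2_c57 LD3_c19)) = (LP (LK LD1_c4 LD2_c29 LD3_c33)) :=
  Lre_b IH (LK LD1_c8 LD2_c57 LD3_c19) (LK LD1_c4 LD2_c29 LD3_c33) Lrfl Lrfl
theorem f281542 : Led Lsl_ct (LP (LK LD1_c8 LD2_c57 LD3_c19)) = (LP (LK LD1_c8 LD2_c58 LD3_c45)) :=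
  Lre_c IH (LK LD1_c8 LD2_c57 LD3_c19) (LK LD1_c8 LD2_c58 LD3_c45) Lrfl Lrfl
theorem f319923 : Led Lsl_ct (LP (LK LD1_c2 LD2_c42 LD3_c42)) = (LP (LK LD1_c5 LD2_c32 LD3_c61)) :=
  Lre_c IH (LK LD1_c2 LD2_c42 LD3_c42) (LK LD1_c5 LD2_c32 LD3_c61) Lrfl Lrfl
theorem f379811 : Led Lsl_gf (LP (LK LD1_c8 LD2_c58 LD3_c45)) = (LP (LK LD1_c5 LD2_c32 LD3_c61)) :=
  Lgr Lrot129 (Lpe (f281542 IH) (Lpr_bt (f281540 IH) (Lpe (f281535 IH) (Lpr_bf (K20.f280650 IH) (Lpr_ct (K20.f280667 IH) (Lpe (f280728 IH) (Lpr_cf (f225195 IH) (Lpr_bt (f225194 IH) (Lpr_gt (f379801 IH) (Lpr_ct (f319923 IH) (Lpn (LP (LK LD1_c5 LD2_c32 LD3_c61)))))))))))))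
theorem f235111 : Led Lsl_gt (LP (LK LD1_c8 LD2_c58 LD3_c45)) = (LP (LK LD1_c4 LD2_c30 LD3_c15)) :=
  Lre_g IH (LK LD1_c8 LD2_c58 LD3_c45) (LK LD1_c4 LD2_c30 LD3_c15) Lrfl Lrfl
theorem f379814 : Led Lsl_at (LP (LK LD1_c8 LD2_c58 LD3_c41)) = (LP (LK LD1_c4 LD2_c30 LD3_c15)) :=
  Lre_a IH (LK LD1_c8 LD2_c58 LD3_c41) (LK LD1_c4 LD2_c30 LD3_c15) Lrfl Lrfl
theorem f379815 : Led Lsl_ff (LP (LK LD1_c8 LD2_c58 LD3_c41)) = (LP (LK LD1_c5 LD2_c32 LD3_c61)) :=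
  Lgr Lrot52 (Lpr_at (f379814 IH) (Lpe (f235111 IH) (Lpr_gf (f379811 IH) (Lpn (LP (LK LD1_c5 LD2_c32 LD3_c61))))))
theorem f379831 : Led Lsl_ft (LP (LK LD1_c8 LD2_c58 LD3_c41)) = (LP (LK LD1_c5 LD2_c32 LD3_c61)) :=
  Lgr Lrot48 (Lpr_ff (f379815 IH) (Lpn (LP (LK LD1_c5 LD2_c32 LD3_c61))))
theorem f213743 : Led Lsl_at (LP (LK LD1_c5 LD2_c32 LD3_c61)) = (LP (LK LD1_c2 LD2_c42 LD3_c43)) :=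
  Lre_a IH (LK LD1_c5 LD2_c32 LD3_c61) (LK LD1_c2 LD2_c42 LD3_c43) Lrfl Lrfl
theorem f174184 : Led Lsl_gt (LP (LK LD1_c5 LD2_c33 LD3_c3)) = (LP (LK LD1_c2 LD2_c42 LD3_c43)) :=
  Lre_g IH (LK LD1_c5 LD2_c33 LD3_c3) (LK LD1_c2 LD2_c42 LD3_c43) Lrfl Lrfl
theorem f379845 : Led Lsl_gt (LP (LK LD1_c8 LD2_c58 LD3_c41)) = (LP (LK LD1_c5 LD2_c33 LD3_c3)) :=
  Lgr Lrot5 (Lpr_ft (f379831 IH) (Lpr_at (f213743 IH) (Lpe (f174184 IH) (Lpn (LP (LK LD1_c5 LD2_c33 LD3_c3))))))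
theorem f379837 : Led Lsl_ct (LP (LK LD1_c4 LD2_c30 LD3_c14)) = (LP (LK LD1_c8 LD2_c58 LD3_c41)) :=
  Lre_c IH (LK LD1_c4 LD2_c30 LD3_c14) (LK LD1_c8 LD2_c58 LD3_c41) Lrfl Lrfl
theorem f174185 : Led Lsl_ct (LP (LK LD1_c5 LD2_c32 LD3_c34)) = (LP (LK LD1_c5 LD2_c33 LD3_c3)) :=
  Lre_c IH (LK LD1_c5 LD2_c32 LD3_c34) (LK LD1_c5 LD2_c33 LD3_c3) Lrfl Lrfl
theorem f281528 : Led Lsl_bt (LP (LK LD1_c5 LD2_c32 LD3_c34)) = (LP (LK LD1_c2 LD2_c42 LD3_c27)) :=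
  Lre_b IH (LK LD1_c5 LD2_c32 LD3_c34) (LK LD1_c2 LD2_c42 LD3_c27) Lrfl Lrfl
theorem f280986 : Led Lsl_bt (LP (LK LD1_c0 LD2_c35 LD3_c56)) = (LP (LK LD1_c1 LD2_c17 LD3_c48)) :=
  Lre_b IH (LK LD1_c0 LD2_c35 LD3_c56) (LK LD1_c1 LD2_c17 LD3_c48) Lrfl Lrfl
theorem f173167 : Led Lsl_bt (LP (LK LD1_c2 LD2_c11 LD3_c50)) = (LP (LK LD1_c1 LD2_c2 LD3_c55)) :=
  Lre_b IH (LK LD1_c2 LD2_c11 LD3_c50) (LK LD1_c1 LD2_c2 LD3_c55) Lrfl Lrfl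
theorem f280987 : Led Lsl_ft (LP (LK LD1_c1 LD2_c17 LD3_c48)) = (LP (LK LD1_c2 LD2_c11 LD3_c50)) :=
  Lgr Lrot75 (Lpe (f280986 IH) (Lpr_ff (K20.f280982 IH) (Lpe (f173167 IH) (Lpn (LP (LK LD1_c2 LD2_c11 LD3_c50))))))
theorem f168169 : Led Lsl_gt (LP (LK LD1_c1 LD2_c17 LD3_c48)) = (LP (LK LD1_c2 LD2_c42 LD3_c27)) :=
  Lre_g IH (LK LD1_c1 LD2_c17 LD3_c48) (LK LD1_c2 LD2_c42 LD3_c27) Lrfl Lrfl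
theorem f281140 : Led Lsl_at (LP (LK LD1_c2 LD2_c11 LD3_c50)) = (LP (LK LD1_c4 LD2_c29 LD3_c35)) :=
  Lre_a IH (LK LD1_c2 LD2_c11 LD3_c50) (LK LD1_c4 LD2_c29 LD3_c35) Lrfl Lrfl
theorem f281521 : Led Lsl_gt (LP (LK LD1_c2 LD2_c42 LD3_c27)) = (LP (LK LD1_c4 LD2_c29 LD3_c35)) :=
  Lgr Lrot46 (Lpe (f168169 IH) (Lpr_ft (f280987 IH) (Lpr_at (f281140 IH) (Lpn (LP (LK LD1_c4 LD2_c29 LD3_c35))))))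
theorem f281072 : Led Lsl_at (LP (LK LD1_c5 LD2_c32 LD3_c19)) = (LP (LK LD1_c2 LD2_c42 LD3_c21)) :=
  Lre_a IH (LK LD1_c5 LD2_c32 LD3_c19) (LK LD1_c2 LD2_c42 LD3_c21) Lrfl Lrfl
theorem f281074 : Led Lsl_ff (LP (LK LD1_c5 LD2_c32 LD3_c19)) = (LP (LK LD1_c8 LD2_c57 LD3_c4)) :=
  Lgr Lrot30 (Lpr_at (f281072 IH) (Lpr_ft (K20.f281069 IH) (Lpr_at (K20.f281073 IH) (Lpn (LP (LK LD1_c8 LD2_c57 LD3_c4))))))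
theorem f168108 : Led Lsl_gt (LP (LK LD1_c5 LD2_c32 LD3_c18)) = (LP (LK LD1_c2 LD2_c42 LD3_c21)) :=
  Lre_g IH (LK LD1_c5 LD2_c32 LD3_c18) (LK LD1_c2 LD2_c42 LD3_c21) Lrfl Lrfl
theorem f281469 : Led Lsl_gf (LP (LK LD1_c5 LD2_c32 LD3_c18)) = (LP (LK LD1_c8 LD2_c57 LD3_c4)) :=
  Lgr Lrot47 (Lpr_gt (f168108 IH) (Lpe (f281072 IH) (Lpr_ff (f281074 IH) (Lpn (LP (LK LD1_c8 LD2_c57 LD3_c4))))))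
theorem f168106 : Led Lsl_bt (LP (LK LD1_c8 LD2_c58 LD3_c14)) = (LP (LK LD1_c4 LD2_c30 LD3_c4)) :=
  Lre_b IH (LK LD1_c8 LD2_c58 LD3_c14) (LK LD1_c4 LD2_c30 LD3_c4) Lrfl Lrfl
theorem f168107 : Led Lsl_ct (LP (LK LD1_c1 LD2_c17 LD3_c48)) = (LP (LK LD1_c2 LD2_c42 LD3_c21)) :=
  Lre_c IH (LK LD1_c1 LD2_c17 LD3_c48) (LK LD1_c2 LD2_c42 LD3_c21) Lrfl Lrfl
theorem f168109 : Led Lsl_ct (LP (LK LD1_c8 LD2_c58 LD3_c14)) = (LP (LK LD1_c5 LD2_c32 LD3_c18)) :=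
  Lgr Lrot64 (Lpr_bt (f168106 IH) (Lpe (K22.f167919 IH) (Lpe (K22.f167910 IH) (Lpe (K9.f167911 IH) (Lpe (K9.f3105 IH) (Lpe (K1.f40994 IH) (Lpr_gf (K9.f168087 IH) (Lpe (f168100 IH) (Lpr_ct (f168107 IH) (Lpe (f168108 IH) (Lpn (LP (LK LD1_c5 LD2_c32 LD3_c18)))))))))))))
theorem f379850 : Led Lsl_bt (LP (LK LD1_c4 LD2_c30 LD3_c14)) = (LP (LK LD1_c2 LD2_c42 LD3_c53)) :=
  Lgr Lrot92 (Lpr_ct (f379837 IH) (Lpr_gt (f379845 IH) (Lpe (f174185 IH) (Lpr_bt (f281528 IH) (Lpr_gt (f281521 IH) (Lpr_ct (K20.f281083 IH) (Lpe (f281469 IH) (Lpe (f168109 IH) (Lpr_bt (f168106 IH) (Lpr_gt (K22.f319765 IH) (Lpn (LP (LK LD1_c2 LD2_c42 LD3_c53)))))))))))))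
theorem f379860 : Led Lsl_et (LP (LK LD1_c8 LD2_c58 LD3_c43)) = (LP (LK LD1_c4 LD2_c30 LD3_c14)) :=
  Lre_e IH (LK LD1_c8 LD2_c58 LD3_c43) (LK LD1_c4 LD2_c30 LD3_c14) Lrfl Lrfl
theorem f319824 : Led Lsl_et (LP (LK LD1_c2 LD2_c42 LD3_c53)) = (LP (LK LD1_c5 LD2_c33 LD3_c34)) :=
  Lre_e IH (LK LD1_c2 LD2_c42 LD3_c53) (LK LD1_c5 LD2_c33 LD3_c34) Lrfl Lrfl
theorem f379861 : Led Lsl_bf (LP (LK LD1_c8 LD2_c58 LD3_c43)) = (LP (LK LD1_c5 LD2_c33 LD3_c34)) :=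
  Lgr Lrot96 (Lpr_et (f379860 IH) (Lpr_bt (f379850 IH) (Lpr_et (f319824 IH) (Lpn (LP (LK LD1_c5 LD2_c33 LD3_c34))))))
theorem f379867 : Led Lsl_bt (LP (LK LD1_c8 LD2_c58 LD3_c43)) = (LP (LK LD1_c5 LD2_c33 LD3_c34)) :=
  Lgr Lrot127 (Lpr_bf (f379861 IH) (Lpn (LP (LK LD1_c5 LD2_c33 LD3_c34))))
theorem f379871 : Led Lsl_at (LP (LK LD1_c4 LD2_c30 LD3_c17)) = (LP (LK LD1_c8 LD2_c58 LD3_c43)) :=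
  Lre_a IH (LK LD1_c4 LD2_c30 LD3_c17) (LK LD1_c8 LD2_c58 LD3_c43) Lrfl Lrfl
theorem f367526 : Led Lsl_bt (LP (LK LD1_c2 LD2_c12 LD3_c9)) = (LP (LK LD1_c4 LD2_c30 LD3_c17)) :=
  Lre_b IH (LK LD1_c2 LD2_c12 LD3_c9) (LK LD1_c4 LD2_c30 LD3_c17) Lrfl Lrfl
theorem f379872 : Led Lsl_at (LP (LK LD1_c5 LD2_c33 LD3_c34)) = (LP (LK LD1_c2 LD2_c42 LD3_c56)) :=
  Lre_a IH (LK LD1_c5 LD2_c33 LD3_c34) (LK LD1_c2 LD2_c42 LD3_c56) Lrfl Lrfl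
theorem f221025 : Led Lsl_bt (LP (LK LD1_c2 LD2_c42 LD3_c56)) = (LP (LK LD1_c1 LD2_c17 LD3_c59)) :=
  Lre_b IH (LK LD1_c2 LD2_c42 LD3_c56) (LK LD1_c1 LD2_c17 LD3_c59) Lrfl Lrfl
theorem f379873 : Led Lsl_af (LP (LK LD1_c2 LD2_c12 LD3_c9)) = (LP (LK LD1_c1 LD2_c17 LD3_c59)) :=
  Lgr Lrot36 (Lpr_bt (f367526 IH) (Lpr_at (f379871 IH) (Lpr_bt (f379867 IH) (Lpr_at (f379872 IH) (Lpr_bt (f221025 IH) (Lpn (LP (LK LD1_c1 LD2_c17 LD3_c59))))))))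
theorem f177505 : Led Lsl_et (LP (LK LD1_c2 LD2_c12 LD3_c9)) = (LP (LK LD1_c1 LD2_c2 LD3_c61)) :=
  Lre_e IH (LK LD1_c2 LD2_c12 LD3_c9) (LK LD1_c1 LD2_c2 LD3_c61) Lrfl Lrfl
theorem f174231 : Led Lsl_et (LP (LK LD1_c0 LD2_c35 LD3_c59)) = (LP (LK LD1_c1 LD2_c17 LD3_c59)) :=
  Lre_e IH (LK LD1_c0 LD2_c35 LD3_c59) (LK LD1_c1 LD2_c17 LD3_c59) Lrfl Lrfl
theorem f379878 : Led Lsl_at (LP (LK LD1_c1 LD2_c2 LD3_c61)) = (LP (LK LD1_c0 LD2_c35 LD3_c59)) :=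
  Lgr Lrot80 (Lpe (f177505 IH) (Lpr_af (f379873 IH) (Lpe (f174231 IH) (Lpn (LP (LK LD1_c0 LD2_c35 LD3_c59))))))
theorem f313980 : Led Lsl_ft (LP (LK LD1_c0 LD2_c35 LD3_c59)) = (LP (LK LD1_c1 LD2_c2 LD3_c60)) :=
  Lgr Lrot4 (Lpe (K13.f238317 IH) (Lpr_ff (K19.f313974 IH) (Lpr_cf (K9.f167911 IH) (Lpn (LP (LK LD1_c1 LD2_c2 LD3_c60))))))
theorem f319913 : Led Lsl_at (LP (LK LD1_c1 LD2_c17 LD3_c54)) = (LP (LK LD1_c2 LD2_c42 LD3_c42)) :=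
  Lre_a IH (LK LD1_c1 LD2_c17 LD3_c54) (LK LD1_c2 LD2_c42 LD3_c42) Lrfl Lrfl
theorem f179525 : Led Lsl_bt (LP (LK LD1_c0 LD2_c35 LD3_c58)) = (LP (LK LD1_c1 LD2_c17 LD3_c54)) :=
  Lre_b IH (LK LD1_c0 LD2_c35 LD3_c58) (LK LD1_c1 LD2_c17 LD3_c54) Lrfl Lrfl
theorem f319914 : Led Lsl_at (LP (LK LD1_c1 LD2_c2 LD3_c60)) = (LP (LK LD1_c0 LD2_c35 LD3_c58)) :=
  Lgr Lrot67 (Lpe (K20.f168796 IH) (Lpe (K22.f319637 IH) (Lpr_bf (K20.f319911 IH) (Lpe (f319913 IH) (Lpe (f179525 IH) (Lpn (LP (LK LD1_c0 LD2_c35 LD3_c58))))))))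
theorem f379891 : Led Lsl_ff (LP (LK LD1_c1 LD2_c2 LD3_c61)) = (LP (LK LD1_c0 LD2_c35 LD3_c58)) :=
  Lgr Lrot30 (Lpr_at (f379878 IH) (Lpr_ft (f313980 IH) (Lpr_at (f319914 IH) (Lpn (LP (LK LD1_c0 LD2_c35 LD3_c58))))))
theorem f174131 : Led Lsl_dt (LP (LK LD1_c1 LD2_c17 LD3_c55)) = (LP (LK LD1_c0 LD2_c35 LD3_c58)) :=
  Lre_d IH (LK LD1_c1 LD2_c17 LD3_c55) (LK LD1_c0 LD2_c35 LD3_c58) Lrfl Lrfl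
theorem f379893 : Led Lsl_ft (LP (LK LD1_c2 LD2_c12 LD3_c8)) = (LP (LK LD1_c1 LD2_c17 LD3_c55)) :=
  Lgr Lrot54 (Lpe (K15.f174741 IH) (Lpr_ff (f379891 IH) (Lpe (f174131 IH) (Lpn (LP (LK LD1_c1 LD2_c17 LD3_c55))))))
theorem f379899 : Led Lsl_ff (LP (LK LD1_c2 LD2_c12 LD3_c8)) = (LP (LK LD1_c1 LD2_c17 LD3_c55)) :=
  Lgr Lrot3 (Lpr_ft (f379893 IH) (Lpn (LP (LK LD1_c1 LD2_c17 LD3_c55))))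
theorem f174742 : Led Lsl_cf (LP (LK LD1_c1 LD2_c3 LD3_c30)) = (LP (LK LD1_c2 LD2_c12 LD3_c8)) :=
  Lgr Lrot14 (Lpe (K15.f165000 IH) (Lpe (K9.f168829 IH) (Lpe (K1.f40727 IH) (Lpr_gf (K9.f168848 IH) (Lpr_ct (K9.f174735 IH) (Lpr_gt (K9.f42263 IH) (Lpr_dt (K12.f42262 IH) (Lpr_gt (K12.f165013 IH) (Lpr_dt (K15.f174741 IH) (Lpn (LP (LK LD1_c2 LD2_c12 LD3_c8))))))))))))
theorem f225708 : Led Lsl_cf (LP (LK LD1_c1 LD2_c17 LD3_c55)) = (LP (LK LD1_c0 LD2_c36 LD3_c53)) :=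
  Lgr Lrot166 (Lpr_gt (K9.f174127 IH) (Lpe (K12.f225705 IH) (Lpe (K12.f225703 IH) (Lpr_dt (K12.f225241 IH) (Lpr_ct (K9.f173081 IH) (Lpe (K9.f168836 IH) (Lpe (K9.f180225 IH) (Lpr_df (K12.f225425 IH) (Lpe (K12.f225340 IH) (Lpn (LP (LK LD1_c0 LD2_c36 LD3_c53))))))))))))
theorem f379905 : Led Lsl_ft (LP (LK LD1_c1 LD2_c3 LD3_c30)) = (LP (LK LD1_c0 LD2_c36 LD3_c53)) :=
  Lgr Lrot4 (Lpr_cf (f174742 IH) (Lpr_ff (f379899 IH) (Lpr_cf (f225708 IH) (Lpn (LP (LK LD1_c0 LD2_c36 LD3_c53))))))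
theorem f165001 : Led Lsl_et (LP (LK LD1_c2 LD2_c12 LD3_c57)) = (LP (LK LD1_c1 LD2_c3 LD3_c30)) :=
  Lre_e IH (LK LD1_c2 LD2_c12 LD3_c57) (LK LD1_c1 LD2_c3 LD3_c30) Lrfl Lrfl
theorem f379914 : Led Lsl_ft (LP (LK LD1_c4 LD2_c31 LD3_c53)) = (LP (LK LD1_c2 LD2_c12 LD3_c57)) :=
  Lre_f IH (LK LD1_c4 LD2_c31 LD3_c53) (LK LD1_c2 LD2_c12 LD3_c57) Lrfl Lrfl
theorem f171785 : Led Lsl_et (LP (LK LD1_c0 LD2_c36 LD3_c53)) = (LP (LK LD1_c1 LD2_c19 LD3_c43)) :=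
  Lre_e IH (LK LD1_c0 LD2_c36 LD3_c53) (LK LD1_c1 LD2_c19 LD3_c43) Lrfl Lrfl
theorem f225737 : Led Lsl_ft (LP (LK LD1_c1 LD2_c19 LD3_c43)) = (LP (LK LD1_c2 LD2_c46 LD3_c39)) :=
  Lre_f IH (LK LD1_c1 LD2_c19 LD3_c43) (LK LD1_c2 LD2_c46 LD3_c39) Lrfl Lrfl
theorem f379915 : Led Lsl_ef (LP (LK LD1_c4 LD2_c31 LD3_c53)) = (LP (LK LD1_c2 LD2_c46 LD3_c39)) :=
  Lgr Lrot21 (Lpr_ft (f379914 IH) (Lpr_et (f165001 IH) (Lpr_ft (f379905 IH) (Lpr_et (f171785 IH) (Lpr_ft (f225737 IH) (Lpn (LP (LK LD1_c2 LD2_c46 LD3_c39))))))))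
theorem f379920 : Led Lsl_et (LP (LK LD1_c4 LD2_c31 LD3_c53)) = (LP (LK LD1_c2 LD2_c46 LD3_c39)) :=
  Lgr Lrot87 (Lpr_ef (f379915 IH) (Lpn (LP (LK LD1_c2 LD2_c46 LD3_c39))))
theorem f379922 : Led Lsl_bt (LP (LK LD1_c9 LD2_c1 LD3_c32)) = (LP (LK LD1_c4 LD2_c31 LD3_c53)) :=
  Lre_b IH (LK LD1_c9 LD2_c1 LD3_c32) (LK LD1_c4 LD2_c31 LD3_c53) Lrfl Lrfl
theorem f225768 : Led Lsl_bt (LP (LK LD1_c2 LD2_c46 LD3_c39)) = (LP (LK LD1_c5 LD2_c41 LD3_c6)) :=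
  Lre_b IH (LK LD1_c2 LD2_c46 LD3_c39) (LK LD1_c5 LD2_c41 LD3_c6) Lrfl Lrfl
theorem f379923 : Led Lsl_ef (LP (LK LD1_c9 LD2_c1 LD3_c32)) = (LP (LK LD1_c5 LD2_c41 LD3_c6)) :=
  Lgr Lrot29 (Lpr_bt (f379922 IH) (Lpr_et (f379920 IH) (Lpr_bt (f225768 IH) (Lpn (LP (LK LD1_c5 LD2_c41 LD3_c6))))))
theorem f379926 : Led Lsl_ft (LP (LK LD1_c9 LD2_c1 LD3_c32)) = (LP (LK LD1_c4 LD2_c31 LD3_c50)) :=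
  Lre_f IH (LK LD1_c9 LD2_c1 LD3_c32) (LK LD1_c4 LD2_c31 LD3_c50) Lrfl Lrfl
theorem f379927 : Led Lsl_et (LP (LK LD1_c4 LD2_c31 LD3_c50)) = (LP (LK LD1_c2 LD2_c12 LD3_c56)) :=
  Lre_e IH (LK LD1_c4 LD2_c31 LD3_c50) (LK LD1_c2 LD2_c12 LD3_c56) Lrfl Lrfl
theorem f379928 : Led Lsl_ft (LP (LK LD1_c2 LD2_c46 LD3_c34)) = (LP (LK LD1_c5 LD2_c41 LD3_c6)) :=
  Lre_f IH (LK LD1_c2 LD2_c46 LD3_c34) (LK LD1_c5 LD2_c41 LD3_c6) Lrfl Lrfl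
theorem f379929 : Led Lsl_et (LP (LK LD1_c1 LD2_c19 LD3_c41)) = (LP (LK LD1_c2 LD2_c46 LD3_c34)) :=
  Lre_e IH (LK LD1_c1 LD2_c19 LD3_c41) (LK LD1_c2 LD2_c46 LD3_c34) Lrfl Lrfl
theorem f379930 : Led Lsl_ft (LP (LK LD1_c2 LD2_c12 LD3_c56)) = (LP (LK LD1_c1 LD2_c19 LD3_c41)) :=
  Lgr Lrot86 (Lpe (f379927 IH) (Lpe (f379926 IH) (Lpr_ef (f379923 IH) (Lpe (f379928 IH) (Lpe (f379929 IH) (Lpn (LP (LK LD1_c1 LD2_c19 LD3_c41))))))))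
theorem f379936 : Led Lsl_dt (LP (LK LD1_c1 LD2_c3 LD3_c29)) = (LP (LK LD1_c2 LD2_c12 LD3_c56)) :=
  Lre_d IH (LK LD1_c1 LD2_c3 LD3_c29) (LK LD1_c2 LD2_c12 LD3_c56) Lrfl Lrfl
theorem f379937 : Led Lsl_dt (LP (LK LD1_c1 LD2_c19 LD3_c41)) = (LP (LK LD1_c0 LD2_c36 LD3_c52)) :=
  Lre_d IH (LK LD1_c1 LD2_c19 LD3_c41) (LK LD1_c0 LD2_c36 LD3_c52) Lrfl Lrfl
theorem f379938 : Led Lsl_ff (LP (LK LD1_c1 LD2_c3 LD3_c29)) = (LP (LK LD1_c0 LD2_c36 LD3_c52)) :=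
  Lgr Lrot19 (Lpr_dt (f379936 IH) (Lpr_ft (f379930 IH) (Lpr_dt (f379937 IH) (Lpn (LP (LK LD1_c0 LD2_c36 LD3_c52))))))
theorem f168835 : Led Lsl_bt (LP (LK LD1_c1 LD2_c3 LD3_c29)) = (LP (LK LD1_c0 LD2_c28 LD3_c61)) :=
  Lre_b IH (LK LD1_c1 LD2_c3 LD3_c29) (LK LD1_c0 LD2_c28 LD3_c61) Lrfl Lrfl
theorem f255551 : Led Lsl_bt (LP (LK LD1_c0 LD2_c16 LD3_c27)) = (LP (LK LD1_c0 LD2_c36 LD3_c52)) :=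
  Lre_b IH (LK LD1_c0 LD2_c16 LD3_c27) (LK LD1_c0 LD2_c36 LD3_c52) Lrfl Lrfl
theorem f379941 : Led Lsl_ft (LP (LK LD1_c0 LD2_c28 LD3_c61)) = (LP (LK LD1_c0 LD2_c16 LD3_c27)) :=
  Lgr Lrot75 (Lpe (f168835 IH) (Lpr_ff (f379938 IH) (Lpe (f255551 IH) (Lpn (LP (LK LD1_c0 LD2_c16 LD3_c27))))))
theorem f379949 : Led Lsl_af (LP (LK LD1_c0 LD2_c29 LD3_c2)) = (LP (LK LD1_c0 LD2_c16 LD3_c27)) :=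
  Lgr Lrot31 (Lpe (K9.f174744 IH) (Lpr_gf (K9.f168826 IH) (Lpr_ft (f379941 IH) (Lpn (LP (LK LD1_c0 LD2_c16 LD3_c27))))))
theorem f177662 : Led Lsl_et (LP (LK LD1_c0 LD2_c29 LD3_c2)) = (LP (LK LD1_c1 LD2_c3 LD3_c36)) :=
  Lre_e IH (LK LD1_c0 LD2_c29 LD3_c2) (LK LD1_c1 LD2_c3 LD3_c36) Lrfl Lrfl
theorem f379957 : Led Lsl_at (LP (LK LD1_c1 LD2_c3 LD3_c36)) = (LP (LK LD1_c0 LD2_c36 LD3_c54)) :=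
  Lgr Lrot80 (Lpe (f177662 IH) (Lpr_af (f379949 IH) (Lpe (K12.f171778 IH) (Lpn (LP (LK LD1_c0 LD2_c36 LD3_c54))))))
theorem f379963 : Led Lsl_af (LP (LK LD1_c2 LD2_c13 LD3_c4)) = (LP (LK LD1_c1 LD2_c19 LD3_c45)) :=
  Lgr Lrot117 (Lpr_dt (K12.f20760 IH) (Lpr_at (f379957 IH) (Lpr_dt (K12.f171779 IH) (Lpn (LP (LK LD1_c1 LD2_c19 LD3_c45))))))
theorem f379966 : Led Lsl_at (LP (LK LD1_c2 LD2_c13 LD3_c4)) = (LP (LK LD1_c1 LD2_c19 LD3_c45)) :=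
  Lgr Lrot100 (Lpr_af (f379963 IH) (Lpn (LP (LK LD1_c1 LD2_c19 LD3_c45))))
theorem f171792 : Led Lsl_gt (LP (LK LD1_c2 LD2_c50 LD3_c38)) = (LP (LK LD1_c1 LD2_c21 LD3_c19)) :=
  Lre_g IH (LK LD1_c2 LD2_c50 LD3_c38) (LK LD1_c1 LD2_c21 LD3_c19) Lrfl Lrfl
theorem f380084 : Led Lsl_ff (LP (LK LD1_c2 LD2_c13 LD3_c4)) = (LP (LK LD1_c2 LD2_c50 LD3_c38)) :=
  Lgr Lrot52 (Lpr_at (f379966 IH) (Lpe (K12.f171780 IH) (Lpe (f171792 IH) (Lpn (LP (LK LD1_c2 LD2_c50 LD3_c38))))))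
theorem f205150 : Led Lsl_ft (LP (LK LD1_c1 LD2_c3 LD3_c36)) = (LP (LK LD1_c2 LD2_c13 LD3_c5)) :=
  Lre_f IH (LK LD1_c1 LD2_c3 LD3_c36) (LK LD1_c2 LD2_c13 LD3_c5) Lrfl Lrfl
theorem f380086 : Led Lsl_dt (LP (LK LD1_c2 LD2_c13 LD3_c5)) = (LP (LK LD1_c2 LD2_c50 LD3_c38)) :=
  Lgr Lrot60 (Lpe (f205150 IH) (Lpe (K12.f20760 IH) (Lpr_ff (f380084 IH) (Lpn (LP (LK LD1_c2 LD2_c50 LD3_c38))))))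
theorem f61334 : Led Lsl_dt (LP (LK LD1_c1 LD2_c21 LD3_c19)) = (LP (LK LD1_c0 LD2_c37 LD3_c31)) :=
  Lre_d IH (LK LD1_c1 LD2_c21 LD3_c19) (LK LD1_c0 LD2_c37 LD3_c31) Lrfl Lrfl
theorem f175305 : Led Lsl_et (LP (LK LD1_c0 LD2_c32 LD3_c60)) = (LP (LK LD1_c1 LD2_c11 LD3_c11)) :=
  Lre_e IH (LK LD1_c0 LD2_c32 LD3_c60) (LK LD1_c1 LD2_c11 LD3_c11) Lrfl Lrfl
theorem f205218 : Led Lsl_gt (LP (LK LD1_c1 LD2_c11 LD3_c11)) = (LP (LK LD1_c1 LD2_c5 LD3_c53)) :=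
  Lgr Lrot137 (Lpe (f175305 IH) (Lpr_dt (K9.f100654 IH) (Lpe (K10.f185952 IH) (Lpe (K10.f25954 IH) (Lpr_et (K10.f25953 IH) (Lpr_gf (K11.f205210 IH) (Lpr_ef (K11.f204426 IH) (Lpr_dt (K11.f59040 IH) (Lpe (K11.f205216 IH) (Lpe (K10.f25996 IH) (Lpn (LP (LK LD1_c1 LD2_c5 LD3_c53)))))))))))))
theorem f227734 : Led Lsl_bt (LP (LK LD1_c1 LD2_c11 LD3_c11)) = (LP (LK LD1_c2 LD2_c28 LD3_c1)) :=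
  Lre_b IH (LK LD1_c1 LD2_c11 LD3_c11) (LK LD1_c2 LD2_c28 LD3_c1) Lrfl Lrfl
theorem f172716 : Led Lsl_bt (LP (LK LD1_c2 LD2_c26 LD3_c26)) = (LP (LK LD1_c1 LD2_c10 LD3_c32)) :=
  Lre_b IH (LK LD1_c2 LD2_c26 LD3_c26) (LK LD1_c1 LD2_c10 LD3_c32) Lrfl Lrfl
theorem f241385 : Led Lsl_df (LP (LK LD1_c1 LD2_c11 LD3_c11)) = (LP (LK LD1_c1 LD2_c10 LD3_c32)) :=
  Lgr Lrot12 (Lpr_bt (f227734 IH) (Lpr_dt (K13.f241383 IH) (Lpr_bt (f172716 IH) (Lpn (LP (LK LD1_c1 LD2_c10 LD3_c32))))))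
theorem f380666 : Led Lsl_gf (LP (LK LD1_c2 LD2_c13 LD3_c5)) = (LP (LK LD1_c1 LD2_c19 LD3_c44)) :=
  Lgr Lrot144 (Lpr_dt (f380086 IH) (Lpr_gt (f171792 IH) (Lpr_dt (f61334 IH) (Lpe (K11.f210986 IH) (Lpe (K10.f25996 IH) (Lpe (f205218 IH) (Lpr_df (f241385 IH) (Lpe (K13.f242621 IH) (Lpr_cf (K18.f301891 IH) (Lpn (LP (LK LD1_c1 LD2_c19 LD3_c44))))))))))))
theorem f380089 : Led Lsl_ft (LP (LK LD1_c2 LD2_c13 LD3_c4)) = (LP (LK LD1_c2 LD2_c50 LD3_c38)) :=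
  Lgr Lrot48 (Lpr_ff (f380084 IH) (Lpn (LP (LK LD1_c2 LD2_c50 LD3_c38))))
theorem f379965 : Led Lsl_ft (LP (LK LD1_c2 LD2_c13 LD3_c5)) = (LP (LK LD1_c1 LD2_c3 LD3_c36)) :=
  Lre_f IH (LK LD1_c2 LD2_c13 LD3_c5) (LK LD1_c1 LD2_c3 LD3_c36) Lrfl Lrfl
theorem f380091 : Led Lsl_df (LP (LK LD1_c2 LD2_c13 LD3_c5)) = (LP (LK LD1_c2 LD2_c50 LD3_c38)) :=
  Lgr Lrot78 (Lpr_ft (f379965 IH) (Lpr_dt (K12.f20805 IH) (Lpr_ft (f380089 IH) (Lpn (LP (LK LD1_c2 LD2_c50 LD3_c38))))))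
theorem f380093 : Led Lsl_et (LP (LK LD1_c2 LD2_c50 LD3_c38)) = (LP (LK LD1_c5 LD2_c49 LD3_c7)) :=
  Lre_e IH (LK LD1_c2 LD2_c50 LD3_c38) (LK LD1_c5 LD2_c49 LD3_c7) Lrfl Lrfl
theorem f416360 : Led Lsl_gf (LP (LK LD1_c6 LD2_c26 LD3_c60)) = (LP (LK LD1_c5 LD2_c49 LD3_c7)) :=
  Lgr Lrot141 (Lpe (K17.f416359 IH) (Lpr_dt (K17.f155862 IH) (Lpr_gt (K17.f416250 IH) (Lpe (K17.f301917 IH) (Lpr_et (K17.f301916 IH) (Lpr_gt (K17.f37274 IH) (Lpr_dt (K18.f301901 IH) (Lpe (f380666 IH) (Lpr_df (f380091 IH) (Lpr_et (f380093 IH) (Lpn (LP (LK LD1_c5 LD2_c49 LD3_c7)))))))))))))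
theorem f416323 : Led Lsl_dt (LP (LK LD1_c12 LD2_c25 LD3_c45)) = (LP (LK LD1_c6 LD2_c26 LD3_c60)) :=
  Lre_d IH (LK LD1_c12 LD2_c25 LD3_c45) (LK LD1_c6 LD2_c26 LD3_c60) Lrfl Lrfl
theorem f416322 : Led Lsl_et (LP (LK LD1_c12 LD2_c25 LD3_c45)) = (LP (LK LD1_c6 LD2_c26 LD3_c61)) :=
  Lre_e IH (LK LD1_c12 LD2_c25 LD3_c45) (LK LD1_c6 LD2_c26 LD3_c61) Lrfl Lrfl
theorem f181450 : Led Lsl_ct (LP (LK LD1_c1 LD2_c3 LD3_c38)) = (LP (LK LD1_c2 LD2_c13 LD3_c5)) :=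
  Lre_c IH (LK LD1_c1 LD2_c3 LD3_c38) (LK LD1_c2 LD2_c13 LD3_c5) Lrfl Lrfl
theorem f313670 : Led Lsl_ct (LP (LK LD1_c1 LD2_c19 LD3_c35)) = (LP (LK LD1_c0 LD2_c36 LD3_c48)) :=
  Lre_c IH (LK LD1_c1 LD2_c19 LD3_c35) (LK LD1_c0 LD2_c36 LD3_c48) Lrfl Lrfl
theorem f334594 : Led Lsl_et (LP (LK LD1_c2 LD2_c13 LD3_c5)) = (LP (LK LD1_c1 LD2_c19 LD3_c35)) :=
  Lgr Lrot158 (Lpe (f181450 IH) (Lpr_ef (K22.f334592 IH) (Lpe (f313670 IH) (Lpn (LP (LK LD1_c1 LD2_c19 LD3_c35))))))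
theorem f380094 : Led Lsl_dt (LP (LK LD1_c1 LD2_c19 LD3_c35)) = (LP (LK LD1_c2 LD2_c46 LD3_c26)) :=
  Lre_d IH (LK LD1_c1 LD2_c19 LD3_c35) (LK LD1_c2 LD2_c46 LD3_c26) Lrfl Lrfl
theorem f380095 : Led Lsl_et (LP (LK LD1_c2 LD2_c46 LD3_c26)) = (LP (LK LD1_c5 LD2_c40 LD3_c59)) :=
  Lre_e IH (LK LD1_c2 LD2_c46 LD3_c26) (LK LD1_c5 LD2_c40 LD3_c59) Lrfl Lrfl
theorem f380088 : Led Lsl_et (LP (LK LD1_c5 LD2_c49 LD3_c7)) = (LP (LK LD1_c2 LD2_c50 LD3_c38)) :=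
  Lre_e IH (LK LD1_c5 LD2_c49 LD3_c7) (LK LD1_c2 LD2_c50 LD3_c38) Lrfl Lrfl
theorem f380096 : Led Lsl_dt (LP (LK LD1_c5 LD2_c40 LD3_c59)) = (LP (LK LD1_c5 LD2_c49 LD3_c7)) :=
  Lgr Lrot77 (Lpe (f380095 IH) (Lpe (f380094 IH) (Lpe (f334594 IH) (Lpr_df (f380091 IH) (Lpe (f380088 IH) (Lpn (LP (LK LD1_c5 LD2_c49 LD3_c7))))))))
theorem f380104 : Led Lsl_et (LP (LK LD1_c5 LD2_c40 LD3_c59)) = (LP (LK LD1_c2 LD2_c46 LD3_c26)) :=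
  Lre_e IH (LK LD1_c5 LD2_c40 LD3_c59) (LK LD1_c2 LD2_c46 LD3_c26) Lrfl Lrfl
theorem f380098 : Led Lsl_df (LP (LK LD1_c5 LD2_c40 LD3_c59)) = (LP (LK LD1_c5 LD2_c49 LD3_c7)) :=
  Lgr Lrot38 (Lpr_dt (f380096 IH) (Lpn (LP (LK LD1_c5 LD2_c49 LD3_c7))))
theorem f313671 : Led Lsl_dt (LP (LK LD1_c2 LD2_c46 LD3_c26)) = (LP (LK LD1_c1 LD2_c19 LD3_c35)) :=
  Lre_d IH (LK LD1_c2 LD2_c46 LD3_c26) (LK LD1_c1 LD2_c19 LD3_c35) Lrfl Lrfl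
theorem f380105 : Led Lsl_et (LP (LK LD1_c1 LD2_c19 LD3_c35)) = (LP (LK LD1_c2 LD2_c13 LD3_c5)) :=
  Lgr Lrot71 (Lpe (f313671 IH) (Lpe (f380104 IH) (Lpr_df (f380098 IH) (Lpe (f380093 IH) (Lpe (f380086 IH) (Lpn (LP (LK LD1_c2 LD2_c13 LD3_c5))))))))
theorem f205100 : Led Lsl_bt (LP (LK LD1_c0 LD2_c42 LD3_c13)) = (LP (LK LD1_c0 LD2_c36 LD3_c56)) :=
  Lgr Lrot127 (Lpr_bf (K13.f205098 IH) (Lpn (LP (LK LD1_c0 LD2_c36 LD3_c56))))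
theorem f58955 : Led Lsl_et (LP (LK LD1_c0 LD2_c12 LD3_c56)) = (LP (LK LD1_c0 LD2_c29 LD3_c20)) :=
  Lre_e IH (LK LD1_c0 LD2_c12 LD3_c56) (LK LD1_c0 LD2_c29 LD3_c20) Lrfl Lrfl
theorem f205145 : Led Lsl_gf (LP (LK LD1_c0 LD2_c42 LD3_c12)) = (LP (LK LD1_c0 LD2_c29 LD3_c20)) :=
  Lgr Lrot141 (Lpr_ef (K11.f205126 IH) (Lpr_dt (K10.f180635 IH) (Lpr_gt (K10.f59574 IH) (Lpe (K8.f59573 IH) (Lpr_et (K9.f20528 IH) (Lpr_gt (K1.f59533 IH) (Lpe (K4.f59565 IH) (Lpe (K1.f58937 IH) (Lpe (K0.f20198 IH) (Lpr_et (f58955 IH) (Lpn (LP (LK LD1_c0 LD2_c29 LD3_c20)))))))))))))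
theorem f205147 : Led Lsl_gf (LP (LK LD1_c1 LD2_c31 LD3_c27)) = (LP (LK LD1_c1 LD2_c3 LD3_c36)) :=
  Lgr Lrot104 (Lpr_ct (K11.f25946 IH) (Lpe (K11.f25943 IH) (Lpe (K11.f68658 IH) (Lpr_gf (f205145 IH) (Lpe (K11.f146348 IH) (Lpe (K13.f176878 IH) (Lpe (K13.f186344 IH) (Lpe (K15.f185834 IH) (Lpr_ct (K10.f20778 IH) (Lpn (LP (LK LD1_c1 LD2_c3 LD3_c36))))))))))))
theorem f242718 : Led Lsl_cf (LP (LK LD1_c1 LD2_c12 LD3_c29)) = (LP (LK LD1_c1 LD2_c6 LD3_c36)) :=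
  Lgr Lrot39 (Lpr_et (K18.f22223 IH) (Lpe (K14.f194085 IH) (Lpr_et (K14.f242716 IH) (Lpn (LP (LK LD1_c1 LD2_c6 LD3_c36))))))
theorem f334609 : Led Lsl_gt (LP (LK LD1_c2 LD2_c13 LD3_c5)) = (LP (LK LD1_c1 LD2_c12 LD3_c29)) :=
  Lgr Lrot149 (Lpe (f181450 IH) (Lpr_gf (K22.f334602 IH) (Lpe (f205100 IH) (Lpr_ct (K11.f25944 IH) (Lpr_gf (f205147 IH) (Lpe (K10.f20778 IH) (Lpr_bt (K10.f181443 IH) (Lpr_gf (K15.f185834 IH) (Lpr_bf (K13.f242653 IH) (Lpe (f242718 IH) (Lpn (LP (LK LD1_c1 LD2_c12 LD3_c29)))))))))))))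
theorem f59654 : Led Lsl_et (LP (LK LD1_c0 LD2_c40 LD3_c53)) = (LP (LK LD1_c0 LD2_c18 LD3_c18)) :=
  Lre_e IH (LK LD1_c0 LD2_c40 LD3_c53) (LK LD1_c0 LD2_c18 LD3_c18) Lrfl Lrfl
theorem f59655 : Led Lsl_dt (LP (LK LD1_c0 LD2_c40 LD3_c53)) = (LP (LK LD1_c1 LD2_c28 LD3_c28)) :=
  Lre_d IH (LK LD1_c0 LD2_c40 LD3_c53) (LK LD1_c1 LD2_c28 LD3_c28) Lrfl Lrfl
theorem f380110 : Led Lsl_gf (LP (LK LD1_c2 LD2_c46 LD3_c26)) = (LP (LK LD1_c1 LD2_c28 LD3_c28)) :=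
  Lgr Lrot145 (Lpe (f380094 IH) (Lpr_et (f380105 IH) (Lpr_gt (f334609 IH) (Lpe (K18.f68540 IH) (Lpr_gt (K18.f68539 IH) (Lpe (K18.f37273 IH) (Lpr_et (K18.f37272 IH) (Lpr_gt (K2.f68328 IH) (Lpe (f59654 IH) (Lpr_dt (f59655 IH) (Lpn (LP (LK LD1_c1 LD2_c28 LD3_c28)))))))))))))
theorem f73848 : Led Lsl_bt (LP (LK LD1_c5 LD2_c51 LD3_c47)) = (LP (LK LD1_c2 LD2_c52 LD3_c8)) :=
  Lre_b IH (LK LD1_c5 LD2_c51 LD3_c47) (LK LD1_c2 LD2_c52 LD3_c8) Lrfl Lrfl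
theorem f73849 : Led Lsl_ef (LP (LK LD1_c1 LD2_c28 LD3_c28)) = (LP (LK LD1_c2 LD2_c52 LD3_c8)) :=
  Lgr Lrot29 (Lpr_bt (K17.f73134 IH) (Lpr_et (K2.f73834 IH) (Lpr_bt (f73848 IH) (Lpn (LP (LK LD1_c2 LD2_c52 LD3_c8))))))
theorem f414305 : Led Lsl_dt (LP (LK LD1_c4 LD2_c41 LD3_c14)) = (LP (LK LD1_c2 LD2_c17 LD3_c39)) :=
  Lre_d IH (LK LD1_c4 LD2_c41 LD3_c14) (LK LD1_c2 LD2_c17 LD3_c39) Lrfl Lrfl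
theorem f416364 : Led Lsl_gt (LP (LK LD1_c6 LD2_c26 LD3_c61)) = (LP (LK LD1_c4 LD2_c41 LD3_c14)) :=
  Lgr Lrot137 (Lpe (f416322 IH) (Lpr_dt (f416323 IH) (Lpr_gf (f416360 IH) (Lpe (f380096 IH) (Lpr_et (f380104 IH) (Lpr_gf (f380110 IH) (Lpr_ef (f73849 IH) (Lpr_dt (K2.f73672 IH) (Lpr_gf (K17.f414276 IH) (Lpe (f414305 IH) (Lpn (LP (LK LD1_c4 LD2_c41 LD3_c14)))))))))))))
theorem f414343 : Led Lsl_ct (LP (LK LD1_c4 LD2_c41 LD3_c14)) = (LP (LK LD1_c9 LD2_c17 LD3_c44)) :=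
  Lre_c IH (LK LD1_c4 LD2_c41 LD3_c14) (LK LD1_c9 LD2_c17 LD3_c44) Lrfl Lrfl
theorem f76974 : Led Lsl_dt (LP (LK LD1_c0 LD2_c31 LD3_c18)) = (LP (LK LD1_c1 LD2_c8 LD3_c27)) :=
  Lre_d IH (LK LD1_c0 LD2_c31 LD3_c18) (LK LD1_c1 LD2_c8 LD3_c27) Lrfl Lrfl
theorem f414301 : Led Lsl_ct (LP (LK LD1_c2 LD2_c22 LD3_c41)) = (LP (LK LD1_c1 LD2_c8 LD3_c27)) :=
  Lre_c IH (LK LD1_c2 LD2_c22 LD3_c41) (LK LD1_c1 LD2_c8 LD3_c27) Lrfl Lrfl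
theorem f414302 : Led Lsl_dt (LP (LK LD1_c4 LD2_c49 LD3_c56)) = (LP (LK LD1_c2 LD2_c22 LD3_c41)) :=
  Lre_d IH (LK LD1_c4 LD2_c49 LD3_c56) (LK LD1_c2 LD2_c22 LD3_c41) Lrfl Lrfl
theorem f414303 : Led Lsl_gt (LP (LK LD1_c2 LD2_c52 LD3_c8)) = (LP (LK LD1_c4 LD2_c49 LD3_c56)) :=
  Lgr Lrot49 (Lpe (K17.f20297 IH) (Lpr_gf (K17.f414276 IH) (Lpe (K17.f414275 IH) (Lpr_gt (K17.f20092 IH) (Lpr_dt (K0.f23177 IH) (Lpr_gt (K16.f68366 IH) (Lpr_dt (f76974 IH) (Lpe (f414301 IH) (Lpe (f414302 IH) (Lpn (LP (LK LD1_c4 LD2_c49 LD3_c56))))))))))))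
theorem f180333 : Led Lsl_ct (LP (LK LD1_c2 LD2_c17 LD3_c35)) = (LP (LK LD1_c1 LD2_c5 LD3_c42)) :=
  Lre_c IH (LK LD1_c2 LD2_c17 LD3_c35) (LK LD1_c1 LD2_c5 LD3_c42) Lrfl Lrfl
theorem f22915 : Led Lsl_ct (LP (LK LD1_c4 LD2_c49 LD3_c39)) = (LP (LK LD1_c3 LD2_c2 LD3_c42)) :=
  Lre_c IH (LK LD1_c4 LD2_c49 LD3_c39) (LK LD1_c3 LD2_c2 LD3_c42) Lrfl Lrfl
theorem f22918 : Led Lsl_gt (LP (LK LD1_c9 LD2_c17 LD3_c28)) = (LP (LK LD1_c4 LD2_c49 LD3_c39)) :=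
  Lre_g IH (LK LD1_c9 LD2_c17 LD3_c28) (LK LD1_c4 LD2_c49 LD3_c39) Lrfl Lrfl
theorem f414320 : Led Lsl_cf (LP (LK LD1_c9 LD2_c17 LD3_c28)) = (LP (LK LD1_c4 LD2_c49 LD3_c56)) :=
  Lgr Lrot169 (Lpr_gt (f22918 IH) (Lpr_ct (f22915 IH) (Lpe (K0.f22913 IH) (Lpe (K9.f61046 IH) (Lpe (K0.f23216 IH) (Lpe (f180333 IH) (Lpr_gf (K17.f413652 IH) (Lpe (K2.f73672 IH) (Lpr_gt (f414303 IH) (Lpn (LP (LK LD1_c4 LD2_c49 LD3_c56))))))))))))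
theorem f414318 : Led Lsl_gf (LP (LK LD1_c5 LD2_c47 LD3_c13)) = (LP (LK LD1_c4 LD2_c49 LD3_c56)) :=
  Lgr Lrot76 (Lpr_af (K2.f73659 IH) (Lpe (K2.f73669 IH) (Lpr_gt (f414303 IH) (Lpn (LP (LK LD1_c4 LD2_c49 LD3_c56))))))
theorem f414308 : Led Lsl_dt (LP (LK LD1_c2 LD2_c17 LD3_c39)) = (LP (LK LD1_c4 LD2_c41 LD3_c14)) :=
  Lre_d IH (LK LD1_c2 LD2_c17 LD3_c39) (LK LD1_c4 LD2_c41 LD3_c14) Lrfl Lrfl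
theorem f414332 : Led Lsl_ct (LP (LK LD1_c9 LD2_c17 LD3_c44)) = (LP (LK LD1_c4 LD2_c41 LD3_c14)) :=
  Lre_c IH (LK LD1_c9 LD2_c17 LD3_c44) (LK LD1_c4 LD2_c41 LD3_c14) Lrfl Lrfl
theorem f414333 : Led Lsl_dt (LP (LK LD1_c4 LD2_c49 LD3_c36)) = (LP (LK LD1_c9 LD2_c17 LD3_c44)) :=
  Lgr Lrot105 (Lpe (K17.f27108 IH) (Lpe (K17.f141078 IH) (Lpe (f22918 IH) (Lpr_cf (f414320 IH) (Lpe (f414318 IH) (Lpr_dt (K17.f61480 IH) (Lpr_gt (K17.f414299 IH) (Lpr_dt (f414308 IH) (Lpe (f414332 IH) (Lpn (LP (LK LD1_c9 LD2_c17 LD3_c44))))))))))))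
theorem f26992 : Led Lsl_dt (LP (LK LD1_c2 LD2_c22 LD3_c35)) = (LP (LK LD1_c1 LD2_c8 LD3_c24)) :=
  Lre_d IH (LK LD1_c2 LD2_c22 LD3_c35) (LK LD1_c1 LD2_c8 LD3_c24) Lrfl Lrfl
theorem f414513 : Led Lsl_gf (LP (LK LD1_c3 LD2_c24 LD3_c9)) = (LP (LK LD1_c3 LD2_c21 LD3_c5)) :=
  Lgr Lrot104 (Lpr_ct (K2.f73702 IH) (Lpe (K2.f69273 IH) (Lpe (K2.f73673 IH) (Lpe (K11.f13561 IH) (Lpr_cf (K17.f414496 IH) (Lpe (K17.f186139 IH) (Lpe (f26992 IH) (Lpr_gt (K0.f22941 IH) (Lpr_ct (K17.f22948 IH) (Lpn (LP (LK LD1_c3 LD2_c21 LD3_c5))))))))))))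
theorem f414729 : Led Lsl_dt (LP (LK LD1_c6 LD2_c12 LD3_c6)) = (LP (LK LD1_c3 LD2_c21 LD3_c1)) :=
  Lgr Lrot42 (Lpr_df (K17.f414716 IH) (Lpn (LP (LK LD1_c3 LD2_c21 LD3_c1))))
theorem f414595 : Led Lsl_cf (LP (LK LD1_c3 LD2_c6 LD3_c60)) = (LP (LK LD1_c3 LD2_c21 LD3_c2)) :=
  Lgr Lrot11 (Lpr_ct (K17.f414508 IH) (Lpn (LP (LK LD1_c3 LD2_c21 LD3_c2))))
theorem f59836 : Led Lsl_ct (LP (LK LD1_c3 LD2_c2 LD3_c35)) = (LP (LK LD1_c6 LD2_c12 LD3_c4)) :=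
  Lre_c IH (LK LD1_c3 LD2_c2 LD3_c35) (LK LD1_c6 LD2_c12 LD3_c4) Lrfl Lrfl
theorem f414736 : Led Lsl_df (LP (LK LD1_c3 LD2_c21 LD3_c5)) = (LP (LK LD1_c6 LD2_c12 LD3_c4)) :=
  Lgr Lrot43 (Lpr_ct (K17.f22960 IH) (Lpe (K9.f22949 IH) (Lpr_ct (K9.f140051 IH) (Lpe (K9.f79730 IH) (Lpr_ct (K17.f414621 IH) (Lpr_dt (K17.f141019 IH) (Lpr_ct (K17.f141020 IH) (Lpr_dt (f414729 IH) (Lpr_ct (K17.f414597 IH) (Lpr_dt (K17.f186141 IH) (Lpe (f414595 IH) (Lpr_dt (K11.f66979 IH) (Lpe (K9.f140023 IH) (Lpr_dt (K16.f59826 IH) (Lpr_ct (f59836 IH) (Lpn (LP (LK LD1_c6 LD2_c12 LD3_c4))))))))))))))))))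
theorem f59832 : Led Lsl_gt (LP (LK LD1_c6 LD2_c12 LD3_c4)) = (LP (LK LD1_c12 LD2_c3 LD3_c52)) :=
  Lre_g IH (LK LD1_c6 LD2_c12 LD3_c4) (LK LD1_c12 LD2_c3 LD3_c52) Lrfl Lrfl
theorem f416366 : Led Lsl_cf (LP (LK LD1_c6 LD2_c26 LD3_c61)) = (LP (LK LD1_c12 LD2_c3 LD3_c52)) :=
  Lgr Lrot169 (Lpr_gt (f416364 IH) (Lpr_ct (f414343 IH) (Lpe (f414333 IH) (Lpe (K17.f414442 IH) (Lpe (K17.f69274 IH) (Lpe (K2.f73702 IH) (Lpr_gf (f414513 IH) (Lpr_df (f414736 IH) (Lpr_gt (f59832 IH) (Lpn (LP (LK LD1_c12 LD2_c3 LD3_c52))))))))))))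
theorem f416518 : Led Lsl_dt (LP (LK LD1_c6 LD2_c46 LD3_c36)) = (LP (LK LD1_c12 LD2_c3 LD3_c52)) :=
  Lgr Lrot105 (Lpr_gf (K17.f416513 IH) (Lpe (K17.f77025 IH) (Lpe (K17.f73930 IH) (Lpe (K16.f73679 IH) (Lpe (K16.f413537 IH) (Lpr_dt (K16.f413536 IH) (Lpr_gt (K17.f414833 IH) (Lpr_dt (K17.f414836 IH) (Lpr_cf (f416366 IH) (Lpn (LP (LK LD1_c12 LD2_c3 LD3_c52))))))))))))
theorem f416380 : Led Lsl_gf (LP (LK LD1_c6 LD2_c12 LD3_c6)) = (LP (LK LD1_c12 LD2_c3 LD3_c52)) :=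
  Lgr Lrot144 (Lpr_dt (f414729 IH) (Lpr_gt (K17.f140980 IH) (Lpe (K17.f414781 IH) (Lpe (K17.f73658 IH) (Lpe (K17.f20297 IH) (Lpr_gf (K17.f414276 IH) (Lpe (f414305 IH) (Lpe (f416364 IH) (Lpr_cf (f416366 IH) (Lpn (LP (LK LD1_c12 LD2_c3 LD3_c52))))))))))))
theorem f414530 : Led Lsl_gt (LP (LK LD1_c2 LD2_c22 LD3_c27)) = (LP (LK LD1_c4 LD2_c49 LD3_c17)) :=
  Lre_g IH (LK LD1_c2 LD2_c22 LD3_c27) (LK LD1_c4 LD2_c49 LD3_c17) Lrfl Lrfl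
theorem f414938 : Led Lsl_dt (LP (LK LD1_c4 LD2_c49 LD3_c17)) = (LP (LK LD1_c4 LD2_c35 LD3_c43)) :=
  Lre_d IH (LK LD1_c4 LD2_c49 LD3_c17) (LK LD1_c4 LD2_c35 LD3_c43) Lrfl Lrfl
theorem f416520 : Led Lsl_gf (LP (LK LD1_c3 LD2_c21 LD3_c2)) = (LP (LK LD1_c4 LD2_c35 LD3_c43)) :=
  Lgr Lrot154 (Lpr_dt (K17.f186134 IH) (Lpr_ct (K17.f140979 IH) (Lpe (f414729 IH) (Lpr_gf (f416380 IH) (Lpe (f416518 IH) (Lpr_gf (K17.f416513 IH) (Lpr_ct (K17.f77024 IH) (Lpr_gt (f414530 IH) (Lpr_dt (f414938 IH) (Lpn (LP (LK LD1_c4 LD2_c35 LD3_c43))))))))))))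
theorem f67305 : Led Lsl_ct (LP (LK LD1_c3 LD2_c11 LD3_c24)) = (LP (LK LD1_c6 LD2_c27 LD3_c2)) :=
  Lre_c IH (LK LD1_c3 LD2_c11 LD3_c24) (LK LD1_c6 LD2_c27 LD3_c2) Lrfl Lrfl
theorem f23195 : Led Lsl_dt (LP (LK LD1_c1 LD2_c8 LD3_c29)) = (LP (LK LD1_c2 LD2_c22 LD3_c47)) :=
  Lre_d IH (LK LD1_c1 LD2_c8 LD3_c29) (LK LD1_c2 LD2_c22 LD3_c47) Lrfl Lrfl
theorem f23196 : Led Lsl_ct (LP (LK LD1_c2 LD2_c22 LD3_c47)) = (LP (LK LD1_c4 LD2_c50 LD3_c1)) :=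
  Lre_c IH (LK LD1_c2 LD2_c22 LD3_c47) (LK LD1_c4 LD2_c50 LD3_c1) Lrfl Lrfl
theorem f9326 : Led Lsl_dt (LP (LK LD1_c3 LD2_c21 LD3_c11)) = (LP (LK LD1_c4 LD2_c40 LD3_c61)) :=
  Lre_d IH (LK LD1_c3 LD2_c21 LD3_c11) (LK LD1_c4 LD2_c40 LD3_c61) Lrfl Lrfl
theorem f22870 : Led Lsl_gt (LP (LK LD1_c4 LD2_c40 LD3_c61)) = (LP (LK LD1_c9 LD2_c17 LD3_c28)) :=
  Lre_g IH (LK LD1_c4 LD2_c40 LD3_c61) (LK LD1_c9 LD2_c17 LD3_c28) Lrfl Lrfl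
theorem f414810 : Led Lsl_df (LP (LK LD1_c4 LD2_c50 LD3_c1)) = (LP (LK LD1_c9 LD2_c17 LD3_c28)) :=
  Lgr Lrot84 (Lpe (f23196 IH) (Lpe (f23195 IH) (Lpe (K17.f414253 IH) (Lpe (K17.f413673 IH) (Lpr_gf (K17.f414796 IH) (Lpr_cf (K17.f414440 IH) (Lpr_gt (K17.f59993 IH) (Lpr_dt (f9326 IH) (Lpr_gt (f22870 IH) (Lpn (LP (LK LD1_c9 LD2_c17 LD3_c28))))))))))))
theorem f414920 : Led Lsl_dt (LP (LK LD1_c4 LD2_c50 LD3_c1)) = (LP (LK LD1_c9 LD2_c17 LD3_c28)) :=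
  Lgr Lrot42 (Lpr_df (f414810 IH) (Lpn (LP (LK LD1_c9 LD2_c17 LD3_c28))))
theorem f414927 : Led Lsl_gt (LP (LK LD1_c9 LD2_c31 LD3_c21)) = (LP (LK LD1_c4 LD2_c50 LD3_c1)) :=
  Lre_g IH (LK LD1_c9 LD2_c31 LD3_c21) (LK LD1_c4 LD2_c50 LD3_c1) Lrfl Lrfl
theorem f414932 : Led Lsl_ct (LP (LK LD1_c9 LD2_c31 LD3_c21)) = (LP (LK LD1_c4 LD2_c49 LD3_c17)) :=
  Lre_c IH (LK LD1_c9 LD2_c31 LD3_c21) (LK LD1_c4 LD2_c49 LD3_c17) Lrfl Lrfl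
theorem f76940 : Led Lsl_dt (LP (LK LD1_c2 LD2_c22 LD3_c30)) = (LP (LK LD1_c1 LD2_c8 LD3_c22)) :=
  Lre_d IH (LK LD1_c2 LD2_c22 LD3_c30) (LK LD1_c1 LD2_c8 LD3_c22) Lrfl Lrfl
theorem f414933 : Led Lsl_gt (LP (LK LD1_c4 LD2_c49 LD3_c17)) = (LP (LK LD1_c2 LD2_c22 LD3_c30)) :=
  Lgr Lrot94 (Lpe (f414932 IH) (Lpr_gt (f414927 IH) (Lpr_dt (f414920 IH) (Lpr_gt (f22918 IH) (Lpr_dt (K17.f141078 IH) (Lpe (K17.f27107 IH) (Lpe (K0.f27058 IH) (Lpe (K17.f61053 IH) (Lpe (f76940 IH) (Lpn (LP (LK LD1_c2 LD2_c22 LD3_c30))))))))))))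
theorem f76937 : Led Lsl_ct (LP (LK LD1_c2 LD2_c22 LD3_c30)) = (LP (LK LD1_c4 LD2_c49 LD3_c26)) :=
  Lre_c IH (LK LD1_c2 LD2_c22 LD3_c30) (LK LD1_c4 LD2_c49 LD3_c26) Lrfl Lrfl
theorem f413940 : Led Lsl_gt (LP (LK LD1_c3 LD2_c21 LD3_c28)) = (LP (LK LD1_c1 LD2_c36 LD3_c59)) :=
  Lre_g IH (LK LD1_c3 LD2_c21 LD3_c28) (LK LD1_c1 LD2_c36 LD3_c59) Lrfl Lrfl
theorem f415130 : Led Lsl_ct (LP (LK LD1_c6 LD2_c46 LD3_c39)) = (LP (LK LD1_c3 LD2_c21 LD3_c28)) :=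
  Lre_c IH (LK LD1_c6 LD2_c46 LD3_c39) (LK LD1_c3 LD2_c21 LD3_c28) Lrfl Lrfl
theorem f139976 : Led Lsl_ct (LP (LK LD1_c2 LD2_c17 LD3_c30)) = (LP (LK LD1_c1 LD2_c32 LD3_c48)) :=
  Lgr Lrot59 (Lpr_cf (K9.f139974 IH) (Lpn (LP (LK LD1_c1 LD2_c32 LD3_c48))))
theorem f22860 : Led Lsl_gt (LP (LK LD1_c1 LD2_c5 LD3_c41)) = (LP (LK LD1_c2 LD2_c17 LD3_c30)) :=
  Lre_g IH (LK LD1_c1 LD2_c5 LD3_c41) (LK LD1_c2 LD2_c17 LD3_c30) Lrfl Lrfl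
theorem f22858 : Led Lsl_gt (LP (LK LD1_c2 LD2_c17 LD3_c32)) = (LP (LK LD1_c4 LD2_c40 LD3_c60)) :=
  Lre_g IH (LK LD1_c2 LD2_c17 LD3_c32) (LK LD1_c4 LD2_c40 LD3_c60) Lrfl Lrfl
theorem f141049 : Led Lsl_ct (LP (LK LD1_c4 LD2_c40 LD3_c60)) = (LP (LK LD1_c9 LD2_c17 LD3_c26)) :=
  Lre_c IH (LK LD1_c4 LD2_c40 LD3_c60) (LK LD1_c9 LD2_c17 LD3_c26) Lrfl Lrfl
theorem f67021 : Led Lsl_gf (LP (LK LD1_c1 LD2_c29 LD3_c39)) = (LP (LK LD1_c1 LD2_c32 LD3_c48)) :=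
  Lgr Lrot76 (Lpr_af (K2.f66971 IH) (Lpe (K2.f61430 IH) (Lpr_gt (K9.f61021 IH) (Lpn (LP (LK LD1_c1 LD2_c32 LD3_c48))))))
theorem f141050 : Led Lsl_gt (LP (LK LD1_c9 LD2_c17 LD3_c26)) = (LP (LK LD1_c9 LD2_c51 LD3_c7)) :=
  Lgr Lrot150 (Lpe (f141049 IH) (Lpe (f22858 IH) (Lpe (K0.f22845 IH) (Lpr_gt (f22860 IH) (Lpr_ct (f139976 IH) (Lpe (f67021 IH) (Lpr_ct (K16.f73653 IH) (Lpe (K2.f73655 IH) (Lpr_cf (K2.f73732 IH) (Lpn (LP (LK LD1_c9 LD2_c51 LD3_c7))))))))))))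
theorem f413569 : Led Lsl_ct (LP (LK LD1_c3 LD2_c21 LD3_c27)) = (LP (LK LD1_c6 LD2_c46 LD3_c36)) :=
  Lre_c IH (LK LD1_c3 LD2_c21 LD3_c27) (LK LD1_c6 LD2_c46 LD3_c36) Lrfl Lrfl
theorem f76941 : Led Lsl_ct (LP (LK LD1_c4 LD2_c49 LD3_c26)) = (LP (LK LD1_c2 LD2_c22 LD3_c30)) :=
  Lre_c IH (LK LD1_c4 LD2_c49 LD3_c26) (LK LD1_c2 LD2_c22 LD3_c30) Lrfl Lrfl
theorem f413570 : Led Lsl_gt (LP (LK LD1_c6 LD2_c46 LD3_c36)) = (LP (LK LD1_c4 LD2_c49 LD3_c26)) :=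
  Lgr Lrot150 (Lpe (f413569 IH) (Lpe (K17.f413568 IH) (Lpe (K17.f413567 IH) (Lpr_gt (K16.f413543 IH) (Lpr_ct (K16.f413544 IH) (Lpr_gt (K9.f73782 IH) (Lpr_ct (K17.f76927 IH) (Lpe (f76940 IH) (Lpe (f76941 IH) (Lpn (LP (LK LD1_c4 LD2_c49 LD3_c26))))))))))))
theorem f414133 : Led Lsl_dt (LP (LK LD1_c4 LD2_c49 LD3_c26)) = (LP (LK LD1_c9 LD2_c17 LD3_c26)) :=
  Lgr Lrot57 (Lpe (f413570 IH) (Lpe (f413569 IH) (Lpr_gt (K17.f414127 IH) (Lpr_dt (K17.f139998 IH) (Lpr_gt (K17.f139933 IH) (Lpr_dt (K2.f20430 IH) (Lpe (K16.f73932 IH) (Lpe (K16.f73922 IH) (Lpe (f141050 IH) (Lpn (LP (LK LD1_c9 LD2_c17 LD3_c26))))))))))))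
theorem f416465 : Led Lsl_gf (LP (LK LD1_c6 LD2_c46 LD3_c39)) = (LP (LK LD1_c4 LD2_c49 LD3_c26)) :=
  Lgr Lrot147 (Lpr_ct (f415130 IH) (Lpr_gt (f413940 IH) (Lpr_ct (K17.f414083 IH) (Lpr_df (K17.f414084 IH) (Lpe (K17.f416463 IH) (Lpr_gf (K16.f413537 IH) (Lpr_cf (K2.f73732 IH) (Lpe (f141050 IH) (Lpe (f414133 IH) (Lpn (LP (LK LD1_c4 LD2_c49 LD3_c26))))))))))))
theorem f416523 : Led Lsl_dt (LP (LK LD1_c6 LD2_c27 LD3_c2)) = (LP (LK LD1_c3 LD2_c21 LD3_c28)) :=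
  Lgr Lrot27 (Lpe (f67305 IH) (Lpe (K17.f67051 IH) (Lpr_cf (f414595 IH) (Lpr_gf (f416520 IH) (Lpe (f414938 IH) (Lpr_gt (f414933 IH) (Lpr_ct (f76937 IH) (Lpe (f416465 IH) (Lpr_ct (f415130 IH) (Lpn (LP (LK LD1_c3 LD2_c21 LD3_c28))))))))))))
theorem f415342 : Led Lsl_gt (LP (LK LD1_c1 LD2_c37 LD3_c0)) = (LP (LK LD1_c0 LD2_c44 LD3_c54)) :=
  Lre_g IH (LK LD1_c1 LD2_c37 LD3_c0) (LK LD1_c0 LD2_c44 LD3_c54) Lrfl Lrfl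
theorem f416652 : Led Lsl_dt (LP (LK LD1_c3 LD2_c21 LD3_c35)) = (LP (LK LD1_c1 LD2_c37 LD3_c0)) :=
  Lre_d IH (LK LD1_c3 LD2_c21 LD3_c35) (LK LD1_c1 LD2_c37 LD3_c0) Lrfl Lrfl
theorem f416653 : Led Lsl_gt (LP (LK LD1_c2 LD2_c17 LD3_c36)) = (LP (LK LD1_c3 LD2_c21 LD3_c35)) :=
  Lgr Lrot94 (Lpe (K17.f180339 IH) (Lpr_gt (K17.f414818 IH) (Lpr_dt (f416523 IH) (Lpr_gt (f413940 IH) (Lpr_dt (K17.f413452 IH) (Lpe (K16.f413542 IH) (Lpe (K17.f23204 IH) (Lpe (f415342 IH) (Lpe (f416652 IH) (Lpn (LP (LK LD1_c3 LD2_c21 LD3_c35))))))))))))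
theorem f22861 : Led Lsl_dt (LP (LK LD1_c2 LD2_c17 LD3_c30)) = (LP (LK LD1_c4 LD2_c40 LD3_c56)) :=
  Lre_d IH (LK LD1_c2 LD2_c17 LD3_c30) (LK LD1_c4 LD2_c40 LD3_c56) Lrfl Lrfl
theorem f416655 : Led Lsl_ct (LP (LK LD1_c3 LD2_c21 LD3_c34)) = (LP (LK LD1_c1 LD2_c37 LD3_c0)) :=
  Lre_c IH (LK LD1_c3 LD2_c21 LD3_c34) (LK LD1_c1 LD2_c37 LD3_c0) Lrfl Lrfl
theorem f416656 : Led Lsl_dt (LP (LK LD1_c6 LD2_c46 LD3_c50)) = (LP (LK LD1_c3 LD2_c21 LD3_c34)) :=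
  Lre_d IH (LK LD1_c6 LD2_c46 LD3_c50) (LK LD1_c3 LD2_c21 LD3_c34) Lrfl Lrfl
theorem f416657 : Led Lsl_gt (LP (LK LD1_c4 LD2_c40 LD3_c56)) = (LP (LK LD1_c6 LD2_c46 LD3_c50)) :=
  Lgr Lrot49 (Lpe (f22861 IH) (Lpe (f22860 IH) (Lpe (K17.f22866 IH) (Lpr_gt (K0.f23263 IH) (Lpr_dt (K17.f23277 IH) (Lpr_gt (f416653 IH) (Lpr_dt (f416652 IH) (Lpe (f416655 IH) (Lpe (f416656 IH) (Lpn (LP (LK LD1_c6 LD2_c46 LD3_c50))))))))))))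
theorem f26768 : Led Lsl_gt (LP (LK LD1_c2 LD2_c16 LD3_c21)) = (LP (LK LD1_c1 LD2_c5 LD3_c5)) :=
  Lre_g IH (LK LD1_c2 LD2_c16 LD3_c21) (LK LD1_c1 LD2_c5 LD3_c5) Lrfl Lrfl
theorem f416683 : Led Lsl_dt (LP (LK LD1_c3 LD2_c21 LD3_c34)) = (LP (LK LD1_c6 LD2_c46 LD3_c50)) :=
  Lre_d IH (LK LD1_c3 LD2_c21 LD3_c34) (LK LD1_c6 LD2_c46 LD3_c50) Lrfl Lrfl
theorem f416692 : Led Lsl_ef (LP (LK LD1_c2 LD2_c16 LD3_c21)) = (LP (LK LD1_c3 LD2_c21 LD3_c34)) :=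
  Lgr Lrot114 (Lpr_gt (f26768 IH) (Lpe (K8.f26767 IH) (Lpr_dt (K0.f26756 IH) (Lpe (K0.f26754 IH) (Lpe (K0.f22836 IH) (Lpr_et (K8.f23120 IH) (Lpr_gt (f22860 IH) (Lpr_dt (f22861 IH) (Lpr_gt (f416657 IH) (Lpe (f416683 IH) (Lpn (LP (LK LD1_c3 LD2_c21 LD3_c34)))))))))))))
theorem f416700 : Led Lsl_et (LP (LK LD1_c2 LD2_c16 LD3_c21)) = (LP (LK LD1_c3 LD2_c21 LD3_c34)) :=
  Lgr Lrot87 (Lpr_ef (f416692 IH) (Lpn (LP (LK LD1_c3 LD2_c21 LD3_c34))))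
theorem f26816 : Led Lsl_dt (LP (LK LD1_c4 LD2_c38 LD3_c40)) = (LP (LK LD1_c2 LD2_c16 LD3_c21)) :=
  Lre_d IH (LK LD1_c4 LD2_c38 LD3_c40) (LK LD1_c2 LD2_c16 LD3_c21) Lrfl Lrfl
theorem f416704 : Led Lsl_et (LP (LK LD1_c9 LD2_c13 LD3_c11)) = (LP (LK LD1_c4 LD2_c38 LD3_c40)) :=
  Lre_e IH (LK LD1_c9 LD2_c13 LD3_c11) (LK LD1_c4 LD2_c38 LD3_c40) Lrfl Lrfl
theorem f416705 : Led Lsl_et (LP (LK LD1_c6 LD2_c46 LD3_c50)) = (LP (LK LD1_c12 LD2_c56 LD3_c51)) :=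
  Lre_e IH (LK LD1_c6 LD2_c46 LD3_c50) (LK LD1_c12 LD2_c56 LD3_c51) Lrfl Lrfl
theorem f416706 : Led Lsl_df (LP (LK LD1_c9 LD2_c13 LD3_c11)) = (LP (LK LD1_c12 LD2_c56 LD3_c51)) :=
  Lgr Lrot70 (Lpr_et (f416704 IH) (Lpr_dt (f26816 IH) (Lpr_et (f416700 IH) (Lpr_dt (f416683 IH) (Lpr_et (f416705 IH) (Lpn (LP (LK LD1_c12 LD2_c56 LD3_c51))))))))
theorem f313672 : Led Lsl_dt (LP (LK LD1_c0 LD2_c39 LD3_c51)) = (LP (LK LD1_c0 LD2_c36 LD3_c48)) :=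
  Lgr Lrot42 (Lpr_df (K19.f313668 IH) (Lpn (LP (LK LD1_c0 LD2_c36 LD3_c48))))
theorem f334596 : Led Lsl_dt (LP (LK LD1_c1 LD2_c3 LD3_c38)) = (LP (LK LD1_c1 LD2_c5 LD3_c19)) :=
  Lgr Lrot77 (Lpr_ef (K22.f334592 IH) (Lpe (f313672 IH) (Lpe (K9.f24219 IH) (Lpe (K10.f24225 IH) (Lpe (K22.f24226 IH) (Lpn (LP (LK LD1_c1 LD2_c5 LD3_c19))))))))
theorem f177075 : Led Lsl_dt (LP (LK LD1_c1 LD2_c21 LD3_c30)) = (LP (LK LD1_c0 LD2_c37 LD3_c36)) :=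
  Lre_d IH (LK LD1_c1 LD2_c21 LD3_c30) (LK LD1_c0 LD2_c37 LD3_c36) Lrfl Lrfl
theorem f177144 : Led Lsl_gt (LP (LK LD1_c2 LD2_c50 LD3_c60)) = (LP (LK LD1_c1 LD2_c21 LD3_c30)) :=
  Lre_g IH (LK LD1_c2 LD2_c50 LD3_c60) (LK LD1_c1 LD2_c21 LD3_c30) Lrfl Lrfl
theorem f269108 : Led Lsl_gt (LP (LK LD1_c1 LD2_c19 LD3_c47)) = (LP (LK LD1_c2 LD2_c13 LD3_c23)) :=
  Lgr Lrot131 (Lpe (K13.f176935 IH) (Lpr_dt (K13.f166156 IH) (Lpr_gf (K14.f226053 IH) (Lpe (K11.f20757 IH) (Lpe (K9.f20756 IH) (Lpr_ef (K1.f59918 IH) (Lpr_dt (K1.f59935 IH) (Lpr_gf (K16.f268657 IH) (Lpe (K16.f68732 IH) (Lpr_et (K16.f269097 IH) (Lpn (LP (LK LD1_c2 LD2_c13 LD3_c23)))))))))))))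
theorem f334607 : Led Lsl_df (LP (LK LD1_c2 LD2_c50 LD3_c60)) = (LP (LK LD1_c2 LD2_c13 LD3_c23)) :=
  Lgr Lrot153 (Lpr_gt (f177144 IH) (Lpr_dt (f177075 IH) (Lpe (K14.f146351 IH) (Lpe (K9.f24520 IH) (Lpr_gf (K19.f177142 IH) (Lpe (f334596 IH) (Lpr_gf (K22.f334602 IH) (Lpe (K11.f176911 IH) (Lpr_gt (f269108 IH) (Lpn (LP (LK LD1_c2 LD2_c13 LD3_c23))))))))))))
theorem f396258 : Led Lsl_dt (LP (LK LD1_c2 LD2_c50 LD3_c60)) = (LP (LK LD1_c2 LD2_c13 LD3_c23)) :=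
  Lgr Lrot42 (Lpr_df (f334607 IH) (Lpn (LP (LK LD1_c2 LD2_c13 LD3_c23))))
theorem f396260 : Led Lsl_et (LP (LK LD1_c2 LD2_c50 LD3_c60)) = (LP (LK LD1_c5 LD2_c49 LD3_c45)) :=
  Lre_e IH (LK LD1_c2 LD2_c50 LD3_c60) (LK LD1_c5 LD2_c49 LD3_c45) Lrfl Lrfl
theorem f26812 : Led Lsl_dt (LP (LK LD1_c2 LD2_c16 LD3_c22)) = (LP (LK LD1_c1 LD2_c5 LD3_c5)) :=
  Lre_d IH (LK LD1_c2 LD2_c16 LD3_c22) (LK LD1_c1 LD2_c5 LD3_c5) Lrfl Lrfl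
theorem f26818 : Led Lsl_et (LP (LK LD1_c4 LD2_c38 LD3_c40)) = (LP (LK LD1_c9 LD2_c13 LD3_c11)) :=
  Lre_e IH (LK LD1_c4 LD2_c38 LD3_c40) (LK LD1_c9 LD2_c13 LD3_c11) Lrfl Lrfl
theorem f396346 : Led Lsl_gt (LP (LK LD1_c5 LD2_c49 LD3_c45)) = (LP (LK LD1_c9 LD2_c13 LD3_c11)) :=
  Lgr Lrot131 (Lpe (f396260 IH) (Lpr_dt (f396258 IH) (Lpe (f269108 IH) (Lpe (K11.f176912 IH) (Lpe (K11.f26795 IH) (Lpe (K8.f26775 IH) (Lpr_dt (f26812 IH) (Lpe (f26768 IH) (Lpe (f26816 IH) (Lpr_et (f26818 IH) (Lpn (LP (LK LD1_c9 LD2_c13 LD3_c11)))))))))))))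
theorem f269089 : Led Lsl_bt (LP (LK LD1_c4 LD2_c32 LD3_c42)) = (LP (LK LD1_c2 LD2_c13 LD3_c23)) :=
  Lre_b IH (LK LD1_c4 LD2_c32 LD3_c42) (LK LD1_c2 LD2_c13 LD3_c23) Lrfl Lrfl
theorem f269090 : Led Lsl_ef (LP (LK LD1_c1 LD2_c19 LD3_c58)) = (LP (LK LD1_c2 LD2_c13 LD3_c23)) :=
  Lgr Lrot29 (Lpr_bt (K10.f175492 IH) (Lpr_et (K16.f269078 IH) (Lpr_bt (f269089 IH) (Lpn (LP (LK LD1_c2 LD2_c13 LD3_c23))))))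
theorem f186487 : Led Lsl_gt (LP (LK LD1_c1 LD2_c10 LD3_c27)) = (LP (LK LD1_c1 LD2_c28 LD3_c30)) :=
  Lgr Lrot137 (Lpr_ef (K10.f186483 IH) (Lpe (K10.f186477 IH) (Lpr_gf (K10.f186467 IH) (Lpe (K10.f179892 IH) (Lpr_et (K10.f56519 IH) (Lpe (K9.f182463 IH) (Lpe (K9.f47928 IH) (Lpr_dt (K9.f47929 IH) (Lpr_gf (K9.f80290 IH) (Lpe (K13.f60733 IH) (Lpn (LP (LK LD1_c1 LD2_c28 LD3_c30)))))))))))))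
theorem f268506 : Led Lsl_gf (LP (LK LD1_c2 LD2_c49 LD3_c11)) = (LP (LK LD1_c4 LD2_c31 LD3_c55)) :=
  Lgr Lrot76 (Lpr_af (K16.f268502 IH) (Lpe (K16.f268465 IH) (Lpr_gt (K11.f198632 IH) (Lpn (LP (LK LD1_c4 LD2_c31 LD3_c55))))))
theorem f268637 : Led Lsl_gf (LP (LK LD1_c2 LD2_c12 LD3_c59)) = (LP (LK LD1_c1 LD2_c19 LD3_c58)) :=
  Lgr Lrot144 (Lpr_dt (K11.f27011 IH) (Lpe (f268506 IH) (Lpr_dt (K16.f68621 IH) (Lpe (K10.f175421 IH) (Lpe (K13.f60733 IH) (Lpe (f186487 IH) (Lpe (K10.f186464 IH) (Lpr_gf (K16.f268633 IH) (Lpr_cf (K10.f175480 IH) (Lpn (LP (LK LD1_c1 LD2_c19 LD3_c58))))))))))))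
theorem f396265 : Led Lsl_gf (LP (LK LD1_c2 LD2_c50 LD3_c60)) = (LP (LK LD1_c1 LD2_c21 LD3_c33)) :=
  Lgr Lrot145 (Lpr_df (f334607 IH) (Lpe (f269090 IH) (Lpe (f268637 IH) (Lpr_dt (K11.f27011 IH) (Lpe (f268506 IH) (Lpe (K16.f68595 IH) (Lpe (K15.f175425 IH) (Lpe (K11.f186104 IH) (Lpe (K11.f176850 IH) (Lpr_dt (K11.f146336 IH) (Lpn (LP (LK LD1_c1 LD2_c21 LD3_c33)))))))))))))
theorem f172729 : Led Lsl_ft (LP (LK LD1_c1 LD2_c20 LD3_c4)) = (LP (LK LD1_c2 LD2_c47 LD3_c34)) :=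
  Lre_f IH (LK LD1_c1 LD2_c20 LD3_c4) (LK LD1_c2 LD2_c47 LD3_c34) Lrfl Lrfl
theorem f396267 : Led Lsl_af (LP (LK LD1_c2 LD2_c50 LD3_c60)) = (LP (LK LD1_c2 LD2_c47 LD3_c34)) :=
  Lgr Lrot31 (Lpr_gf (f396265 IH) (Lpr_gf (K11.f176851 IH) (Lpr_ft (f172729 IH) (Lpn (LP (LK LD1_c2 LD2_c47 LD3_c34))))))
theorem f268727 : Led Lsl_et (LP (LK LD1_c5 LD2_c43 LD3_c9)) = (LP (LK LD1_c2 LD2_c47 LD3_c34)) :=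
  Lre_e IH (LK LD1_c5 LD2_c43 LD3_c9) (LK LD1_c2 LD2_c47 LD3_c34) Lrfl Lrfl
theorem f396275 : Led Lsl_at (LP (LK LD1_c5 LD2_c49 LD3_c45)) = (LP (LK LD1_c5 LD2_c43 LD3_c9)) :=
  Lgr Lrot80 (Lpe (f396260 IH) (Lpr_af (f396267 IH) (Lpe (f268727 IH) (Lpn (LP (LK LD1_c5 LD2_c43 LD3_c9))))))
theorem f396280 : Led Lsl_df (LP (LK LD1_c5 LD2_c49 LD3_c45)) = (LP (LK LD1_c5 LD2_c42 LD3_c26)) :=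
  Lgr Lrot18 (Lpr_at (f396275 IH) (Lpe (K16.f281877 IH) (Lpe (K16.f68735 IH) (Lpn (LP (LK LD1_c5 LD2_c42 LD3_c26))))))
theorem f23166 : Led Lsl_et (LP (LK LD1_c2 LD2_c17 LD3_c32)) = (LP (LK LD1_c1 LD2_c26 LD3_c16)) :=
  Lre_e IH (LK LD1_c2 LD2_c17 LD3_c32) (LK LD1_c1 LD2_c26 LD3_c16) Lrfl Lrfl
theorem f27038 : Led Lsl_dt (LP (LK LD1_c4 LD2_c40 LD3_c58)) = (LP (LK LD1_c2 LD2_c17 LD3_c31)) :=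
  Lre_d IH (LK LD1_c4 LD2_c40 LD3_c58) (LK LD1_c2 LD2_c17 LD3_c31) Lrfl Lrfl
theorem f416694 : Led Lsl_et (LP (LK LD1_c12 LD2_c56 LD3_c51)) = (LP (LK LD1_c6 LD2_c46 LD3_c50)) :=
  Lre_e IH (LK LD1_c12 LD2_c56 LD3_c51) (LK LD1_c6 LD2_c46 LD3_c50) Lrfl Lrfl
theorem f416710 : Led Lsl_gf (LP (LK LD1_c4 LD2_c40 LD3_c58)) = (LP (LK LD1_c6 LD2_c46 LD3_c50)) :=
  Lgr Lrot138 (Lpr_dt (f27038 IH) (Lpr_gt (K8.f27029 IH) (Lpe (K17.f22859 IH) (Lpr_et (f23166 IH) (Lpr_gt (K16.f268653 IH) (Lpe (K16.f68733 IH) (Lpe (f396280 IH) (Lpr_gt (f396346 IH) (Lpr_df (f416706 IH) (Lpr_et (f416694 IH) (Lpn (LP (LK LD1_c6 LD2_c46 LD3_c50)))))))))))))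
theorem f22869 : Led Lsl_ct (LP (LK LD1_c2 LD2_c17 LD3_c32)) = (LP (LK LD1_c4 LD2_c40 LD3_c61)) :=
  Lre_c IH (LK LD1_c2 LD2_c17 LD3_c32) (LK LD1_c4 LD2_c40 LD3_c61) Lrfl Lrfl
theorem f414341 : Led Lsl_df (LP (LK LD1_c4 LD2_c49 LD3_c36)) = (LP (LK LD1_c9 LD2_c17 LD3_c44)) :=
  Lgr Lrot38 (Lpr_dt (f414333 IH) (Lpn (LP (LK LD1_c9 LD2_c17 LD3_c44))))
theorem f22867 : Led Lsl_ct (LP (LK LD1_c9 LD2_c17 LD3_c20)) = (LP (LK LD1_c4 LD2_c40 LD3_c56)) :=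
  Lre_c IH (LK LD1_c9 LD2_c17 LD3_c20) (LK LD1_c4 LD2_c40 LD3_c56) Lrfl Lrfl
theorem f413876 : Led Lsl_dt (LP (LK LD1_c6 LD2_c46 LD3_c29)) = (LP (LK LD1_c3 LD2_c21 LD3_c23)) :=
  Lre_d IH (LK LD1_c6 LD2_c46 LD3_c29) (LK LD1_c3 LD2_c21 LD3_c23) Lrfl Lrfl
theorem f413910 : Led Lsl_et (LP (LK LD1_c12 LD2_c56 LD3_c27)) = (LP (LK LD1_c6 LD2_c46 LD3_c29)) :=
  Lre_e IH (LK LD1_c12 LD2_c56 LD3_c27) (LK LD1_c6 LD2_c46 LD3_c29) Lrfl Lrfl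
theorem f140859 : Led Lsl_dt (LP (LK LD1_c3 LD2_c59 LD3_c52)) = (LP (LK LD1_c7 LD2_c59 LD3_c44)) :=
  Lre_d IH (LK LD1_c3 LD2_c59 LD3_c52) (LK LD1_c7 LD2_c59 LD3_c44) Lrfl Lrfl
theorem f413911 : Led Lsl_et (LP (LK LD1_c7 LD2_c59 LD3_c44)) = (LP (LK LD1_c15 LD2_c4 LD3_c30)) :=
  Lre_e IH (LK LD1_c7 LD2_c59 LD3_c44) (LK LD1_c15 LD2_c4 LD3_c30) Lrfl Lrfl
theorem f413912 : Led Lsl_df (LP (LK LD1_c12 LD2_c56 LD3_c27)) = (LP (LK LD1_c15 LD2_c4 LD3_c30)) :=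
  Lgr Lrot70 (Lpr_et (f413910 IH) (Lpr_dt (f413876 IH) (Lpr_et (K17.f413896 IH) (Lpr_dt (f140859 IH) (Lpr_et (f413911 IH) (Lpn (LP (LK LD1_c15 LD2_c4 LD3_c30))))))))
theorem f101447 : Led Lsl_ft (LP (LK LD1_c7 LD2_c59 LD3_c45)) = (LP (LK LD1_c15 LD2_c4 LD3_c30)) :=
  Lre_f IH (LK LD1_c7 LD2_c59 LD3_c45) (LK LD1_c15 LD2_c4 LD3_c30) Lrfl Lrfl
theorem f100918 : Led Lsl_bt (LP (LK LD1_c6 LD2_c13 LD3_c30)) = (LP (LK LD1_c12 LD2_c5 LD3_c46)) :=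
  Lre_b IH (LK LD1_c6 LD2_c13 LD3_c30) (LK LD1_c12 LD2_c5 LD3_c46) Lrfl Lrfl
theorem f40876 : Led Lsl_bt (LP (LK LD1_c7 LD2_c59 LD3_c45)) = (LP (LK LD1_c3 LD2_c59 LD3_c16)) :=
  Lre_b IH (LK LD1_c7 LD2_c59 LD3_c45) (LK LD1_c3 LD2_c59 LD3_c16) Lrfl Lrfl
theorem f101441 : Led Lsl_dt (LP (LK LD1_c12 LD2_c5 LD3_c46)) = (LP (LK LD1_c7 LD2_c59 LD3_c45)) :=
  Lgr Lrot79 (Lpe (f100918 IH) (Lpr_df (K17.f100929 IH) (Lpe (f40876 IH) (Lpn (LP (LK LD1_c7 LD2_c59 LD3_c45))))))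
theorem f413920 : Led Lsl_ft (LP (LK LD1_c12 LD2_c56 LD3_c27)) = (LP (LK LD1_c12 LD2_c5 LD3_c46)) :=
  Lgr Lrot54 (Lpr_df (f413912 IH) (Lpe (f101447 IH) (Lpe (f101441 IH) (Lpn (LP (LK LD1_c12 LD2_c5 LD3_c46))))))
theorem f413925 : Led Lsl_ff (LP (LK LD1_c12 LD2_c56 LD3_c27)) = (LP (LK LD1_c12 LD2_c5 LD3_c46)) :=
  Lgr Lrot3 (Lpr_ft (f413920 IH) (Lpn (LP (LK LD1_c12 LD2_c5 LD3_c46))))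
theorem f413915 : Led Lsl_bt (LP (LK LD1_c12 LD2_c56 LD3_c27)) = (LP (LK LD1_c6 LD2_c46 LD3_c31)) :=
  Lre_b IH (LK LD1_c12 LD2_c56 LD3_c27) (LK LD1_c6 LD2_c46 LD3_c31) Lrfl Lrfl
theorem f413927 : Led Lsl_ft (LP (LK LD1_c6 LD2_c46 LD3_c31)) = (LP (LK LD1_c6 LD2_c13 LD3_c30)) :=
  Lgr Lrot75 (Lpe (f413915 IH) (Lpr_ff (f413925 IH) (Lpe (f100918 IH) (Lpn (LP (LK LD1_c6 LD2_c13 LD3_c30))))))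
theorem f413931 : Led Lsl_ct (LP (LK LD1_c12 LD2_c56 LD3_c29)) = (LP (LK LD1_c6 LD2_c46 LD3_c31)) :=
  Lre_c IH (LK LD1_c12 LD2_c56 LD3_c29) (LK LD1_c6 LD2_c46 LD3_c31) Lrfl Lrfl
theorem f413932 : Led Lsl_ff (LP (LK LD1_c12 LD2_c56 LD3_c29)) = (LP (LK LD1_c9 LD2_c51 LD3_c19)) :=
  Lgr Lrot23 (Lpr_ct (f413931 IH) (Lpr_ft (f413927 IH) (Lpr_ct (K9.f100910 IH) (Lpn (LP (LK LD1_c9 LD2_c51 LD3_c19))))))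
theorem f413946 : Led Lsl_ft (LP (LK LD1_c12 LD2_c56 LD3_c29)) = (LP (LK LD1_c9 LD2_c51 LD3_c19)) :=
  Lgr Lrot48 (Lpr_ff (f413932 IH) (Lpn (LP (LK LD1_c9 LD2_c51 LD3_c19))))
theorem f73923 : Led Lsl_et (LP (LK LD1_c9 LD2_c51 LD3_c7)) = (LP (LK LD1_c18 LD2_c2 LD3_c16)) :=
  Lre_e IH (LK LD1_c9 LD2_c51 LD3_c7) (LK LD1_c18 LD2_c2 LD3_c16) Lrfl Lrfl
theorem f172177 : Led Lsl_et (LP (LK LD1_c11 LD2_c12 LD3_c23)) = (LP (LK LD1_c5 LD2_c40 LD3_c55)) :=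
  Lre_e IH (LK LD1_c11 LD2_c12 LD3_c23) (LK LD1_c5 LD2_c40 LD3_c55) Lrfl Lrfl
theorem f172187 : Led Lsl_ft (LP (LK LD1_c18 LD2_c2 LD3_c16)) = (LP (LK LD1_c11 LD2_c12 LD3_c23)) :=
  Lgr Lrot86 (Lpe (f73923 IH) (Lpr_ff (K17.f73917 IH) (Lpe (K17.f73903 IH) (Lpr_ff (K17.f172178 IH) (Lpe (f172177 IH) (Lpn (LP (LK LD1_c11 LD2_c12 LD3_c23))))))))
theorem f413948 : Led Lsl_df (LP (LK LD1_c12 LD2_c56 LD3_c29)) = (LP (LK LD1_c11 LD2_c12 LD3_c23)) :=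
  Lgr Lrot78 (Lpr_ft (f413946 IH) (Lpr_dt (K17.f100916 IH) (Lpr_ft (f172187 IH) (Lpn (LP (LK LD1_c11 LD2_c12 LD3_c23))))))
theorem f413943 : Led Lsl_et (LP (LK LD1_c12 LD2_c56 LD3_c29)) = (LP (LK LD1_c6 LD2_c46 LD3_c30)) :=
  Lre_e IH (LK LD1_c12 LD2_c56 LD3_c29) (LK LD1_c6 LD2_c46 LD3_c30) Lrfl Lrfl
theorem f60641 : Led Lsl_ct (LP (LK LD1_c0 LD2_c40 LD3_c56)) = (LP (LK LD1_c1 LD2_c28 LD3_c29)) :=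
  Lre_c IH (LK LD1_c0 LD2_c40 LD3_c56) (LK LD1_c1 LD2_c28 LD3_c29) Lrfl Lrfl
theorem f60434 : Led Lsl_ct (LP (LK LD1_c1 LD2_c28 LD3_c29)) = (LP (LK LD1_c0 LD2_c40 LD3_c56)) :=
  Lre_c IH (LK LD1_c1 LD2_c28 LD3_c29) (LK LD1_c0 LD2_c40 LD3_c56) Lrfl Lrfl
theorem f172159 : Led Lsl_df (LP (LK LD1_c1 LD2_c28 LD3_c29)) = (LP (LK LD1_c2 LD2_c46 LD3_c24)) :=
  Lgr Lrot38 (Lpr_dt (K9.f172153 IH) (Lpn (LP (LK LD1_c2 LD2_c46 LD3_c24))))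
theorem f172168 : Led Lsl_ct (LP (LK LD1_c5 LD2_c40 LD3_c55)) = (LP (LK LD1_c2 LD2_c46 LD3_c24)) :=
  Lre_c IH (LK LD1_c5 LD2_c40 LD3_c55) (LK LD1_c2 LD2_c46 LD3_c24) Lrfl Lrfl
theorem f172175 : Led Lsl_dt (LP (LK LD1_c2 LD2_c49 LD3_c31)) = (LP (LK LD1_c5 LD2_c40 LD3_c55)) :=
  Lgr Lrot173 (Lpe (K17.f73150 IH) (Lpe (K9.f61318 IH) (Lpr_cf (K17.f60921 IH) (Lpr_df (K1.f60901 IH) (Lpr_cf (K17.f73147 IH) (Lpe (K17.f73149 IH) (Lpe (K17.f73140 IH) (Lpr_df (K17.f172166 IH) (Lpe (K17.f172158 IH) (Lpe (K9.f172153 IH) (Lpe (f60641 IH) (Lpe (K1.f60705 IH) (Lpe (f60434 IH) (Lpr_df (f172159 IH) (Lpe (f172168 IH) (Lpn (LP (LK LD1_c5 LD2_c40 LD3_c55))))))))))))))))))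
theorem f413951 : Led Lsl_dt (LP (LK LD1_c6 LD2_c46 LD3_c30)) = (LP (LK LD1_c5 LD2_c47 LD3_c12)) :=
  Lgr Lrot77 (Lpe (f413943 IH) (Lpr_df (f413948 IH) (Lpe (K17.f172181 IH) (Lpe (f172175 IH) (Lpe (K17.f73170 IH) (Lpn (LP (LK LD1_c5 LD2_c47 LD3_c12))))))))
theorem f141053 : Led Lsl_gf (LP (LK LD1_c9 LD2_c17 LD3_c26)) = (LP (LK LD1_c5 LD2_c47 LD3_c12)) :=
  Lgr Lrot47 (Lpr_gt (f141050 IH) (Lpe (K2.f73692 IH) (Lpe (K17.f73687 IH) (Lpn (LP (LK LD1_c5 LD2_c47 LD3_c12))))))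
theorem f141055 : Led Lsl_ct (LP (LK LD1_c9 LD2_c17 LD3_c26)) = (LP (LK LD1_c4 LD2_c40 LD3_c60)) :=
  Lre_c IH (LK LD1_c9 LD2_c17 LD3_c26) (LK LD1_c4 LD2_c40 LD3_c60) Lrfl Lrfl
theorem f22911 : Led Lsl_gt (LP (LK LD1_c4 LD2_c40 LD3_c60)) = (LP (LK LD1_c3 LD2_c2 LD3_c42)) :=
  Lre_g IH (LK LD1_c4 LD2_c40 LD3_c60) (LK LD1_c3 LD2_c2 LD3_c42) Lrfl Lrfl
theorem f22912 : Led Lsl_ct (LP (LK LD1_c3 LD2_c2 LD3_c42)) = (LP (LK LD1_c4 LD2_c49 LD3_c39)) :=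
  Lre_c IH (LK LD1_c3 LD2_c2 LD3_c42) (LK LD1_c4 LD2_c49 LD3_c39) Lrfl Lrfl
theorem f27106 : Led Lsl_ct (LP (LK LD1_c4 LD2_c49 LD3_c34)) = (LP (LK LD1_c2 LD2_c22 LD3_c33)) :=
  Lre_c IH (LK LD1_c4 LD2_c49 LD3_c34) (LK LD1_c2 LD2_c22 LD3_c33) Lrfl Lrfl
theorem f413956 : Led Lsl_gt (LP (LK LD1_c6 LD2_c46 LD3_c30)) = (LP (LK LD1_c4 LD2_c49 LD3_c34)) :=
  Lgr Lrot146 (Lpr_dt (f413951 IH) (Lpe (f141053 IH) (Lpr_ct (f141055 IH) (Lpr_gt (f22911 IH) (Lpr_ct (f22912 IH) (Lpr_dt (K17.f141078 IH) (Lpe (K17.f27107 IH) (Lpe (K0.f27059 IH) (Lpe (f27106 IH) (Lpn (LP (LK LD1_c4 LD2_c49 LD3_c34))))))))))))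
theorem f22863 : Led Lsl_ct (LP (LK LD1_c6 LD2_c45 LD3_c38)) = (LP (LK LD1_c3 LD2_c20 LD3_c51)) :=
  Lre_c IH (LK LD1_c6 LD2_c45 LD3_c38) (LK LD1_c3 LD2_c20 LD3_c51) Lrfl Lrfl
theorem f22862 : Led Lsl_ct (LP (LK LD1_c4 LD2_c40 LD3_c56)) = (LP (LK LD1_c9 LD2_c17 LD3_c20)) :=
  Lre_c IH (LK LD1_c4 LD2_c40 LD3_c56) (LK LD1_c9 LD2_c17 LD3_c20) Lrfl Lrfl
theorem f413958 : Led Lsl_df (LP (LK LD1_c9 LD2_c17 LD3_c20)) = (LP (LK LD1_c4 LD2_c49 LD3_c34)) :=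
  Lgr Lrot84 (Lpe (f22862 IH) (Lpe (f22861 IH) (Lpe (f22860 IH) (Lpe (K17.f22859 IH) (Lpr_gf (K0.f22850 IH) (Lpe (f22863 IH) (Lpr_gt (K17.f61601 IH) (Lpe (K17.f413559 IH) (Lpr_gt (f413956 IH) (Lpn (LP (LK LD1_c4 LD2_c49 LD3_c34))))))))))))
theorem f413967 : Led Lsl_dt (LP (LK LD1_c9 LD2_c17 LD3_c20)) = (LP (LK LD1_c4 LD2_c49 LD3_c34)) :=
  Lgr Lrot42 (Lpr_df (f413958 IH) (Lpn (LP (LK LD1_c4 LD2_c49 LD3_c34))))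
theorem f413482 : Led Lsl_dt (LP (LK LD1_c3 LD2_c2 LD3_c49)) = (LP (LK LD1_c1 LD2_c27 LD3_c20)) :=
  Lre_d IH (LK LD1_c3 LD2_c2 LD3_c49) (LK LD1_c1 LD2_c27 LD3_c20) Lrfl Lrfl
theorem f413513 : Led Lsl_gt (LP (LK LD1_c6 LD2_c12 LD3_c30)) = (LP (LK LD1_c3 LD2_c2 LD3_c49)) :=
  Lre_g IH (LK LD1_c6 LD2_c12 LD3_c30) (LK LD1_c3 LD2_c2 LD3_c49) Lrfl Lrfl
theorem f413541 : Led Lsl_ct (LP (LK LD1_c12 LD2_c4 LD3_c25)) = (LP (LK LD1_c6 LD2_c12 LD3_c30)) :=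
  Lre_c IH (LK LD1_c12 LD2_c4 LD3_c25) (LK LD1_c6 LD2_c12 LD3_c30) Lrfl Lrfl
theorem f413972 : Led Lsl_gf (LP (LK LD1_c9 LD2_c17 LD3_c20)) = (LP (LK LD1_c12 LD2_c4 LD3_c25)) :=
  Lgr Lrot144 (Lpr_dt (f413967 IH) (Lpe (K17.f76972 IH) (Lpr_dt (K2.f73762 IH) (Lpe (K16.f73679 IH) (Lpe (K16.f73668 IH) (Lpe (K16.f413463 IH) (Lpe (f413482 IH) (Lpe (f413513 IH) (Lpe (f413541 IH) (Lpn (LP (LK LD1_c12 LD2_c4 LD3_c25))))))))))))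
theorem f414531 : Led Lsl_dt (LP (LK LD1_c4 LD2_c35 LD3_c43)) = (LP (LK LD1_c4 LD2_c49 LD3_c17)) :=
  Lre_d IH (LK LD1_c4 LD2_c35 LD3_c43) (LK LD1_c4 LD2_c49 LD3_c17) Lrfl Lrfl
theorem f416525 : Led Lsl_df (LP (LK LD1_c6 LD2_c27 LD3_c2)) = (LP (LK LD1_c3 LD2_c21 LD3_c28)) :=
  Lgr Lrot162 (Lpe (f67305 IH) (Lpe (K17.f67051 IH) (Lpr_cf (f414595 IH) (Lpr_gf (f416520 IH) (Lpr_dt (f414531 IH) (Lpr_gt (f414933 IH) (Lpr_ct (f76937 IH) (Lpe (f416465 IH) (Lpr_ct (f415130 IH) (Lpn (LP (LK LD1_c3 LD2_c21 LD3_c28))))))))))))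
theorem f416407 : Led Lsl_ct (LP (LK LD1_c3 LD2_c21 LD3_c28)) = (LP (LK LD1_c6 LD2_c46 LD3_c39)) :=
  Lre_c IH (LK LD1_c3 LD2_c21 LD3_c28) (LK LD1_c6 LD2_c46 LD3_c39) Lrfl Lrfl
theorem f416408 : Led Lsl_gt (LP (LK LD1_c6 LD2_c46 LD3_c39)) = (LP (LK LD1_c4 LD2_c49 LD3_c19)) :=
  Lgr Lrot94 (Lpe (f416407 IH) (Lpr_gt (f413940 IH) (Lpr_dt (K17.f413452 IH) (Lpr_gt (K16.f413543 IH) (Lpr_dt (K16.f413608 IH) (Lpe (K17.f413558 IH) (Lpr_df (K17.f413559 IH) (Lpe (K17.f61601 IH) (Lpr_df (K17.f77033 IH) (Lpn (LP (LK LD1_c4 LD2_c49 LD3_c19))))))))))))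
theorem f416410 : Led Lsl_gf (LP (LK LD1_c3 LD2_c21 LD3_c28)) = (LP (LK LD1_c1 LD2_c37 LD3_c10)) :=
  Lgr Lrot147 (Lpr_ct (f416407 IH) (Lpr_gt (f416408 IH) (Lpr_ct (K17.f77024 IH) (Lpe (K17.f77023 IH) (Lpr_cf (K9.f139984 IH) (Lpe (K9.f73769 IH) (Lpe (K17.f73770 IH) (Lpe (K17.f139933 IH) (Lpe (K17.f139998 IH) (Lpn (LP (LK LD1_c1 LD2_c37 LD3_c10))))))))))))
theorem f139999 : Led Lsl_dt (LP (LK LD1_c0 LD2_c44 LD3_c57)) = (LP (LK LD1_c1 LD2_c37 LD3_c10)) :=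
  Lre_d IH (LK LD1_c0 LD2_c44 LD3_c57) (LK LD1_c1 LD2_c37 LD3_c10) Lrfl Lrfl
theorem f413555 : Led Lsl_cf (LP (LK LD1_c1 LD2_c36 LD3_c57)) = (LP (LK LD1_c0 LD2_c45 LD3_c37)) :=
  Lgr Lrot11 (Lpr_ct (K16.f413544 IH) (Lpn (LP (LK LD1_c0 LD2_c45 LD3_c37))))
theorem f73779 : Led Lsl_df (LP (LK LD1_c1 LD2_c38 LD3_c24)) = (LP (LK LD1_c1 LD2_c37 LD3_c39)) :=
  Lgr Lrot38 (Lpr_dt (K9.f73776 IH) (Lpn (LP (LK LD1_c1 LD2_c37 LD3_c39))))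
theorem f416535 : Led Lsl_gf (LP (LK LD1_c1 LD2_c32 LD3_c5)) = (LP (LK LD1_c1 LD2_c38 LD3_c24)) :=
  Lgr Lrot143 (Lpr_dt (K17.f67050 IH) (Lpe (K17.f67205 IH) (Lpr_df (f416525 IH) (Lpr_gf (f416410 IH) (Lpe (f139999 IH) (Lpe (K17.f414054 IH) (Lpr_cf (f413555 IH) (Lpr_gt (K9.f73782 IH) (Lpe (f73779 IH) (Lpn (LP (LK LD1_c1 LD2_c38 LD3_c24))))))))))))
theorem f22875 : Led Lsl_dt (LP (LK LD1_c3 LD2_c20 LD3_c51)) = (LP (LK LD1_c1 LD2_c36 LD3_c44)) :=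
  Lre_d IH (LK LD1_c3 LD2_c20 LD3_c51) (LK LD1_c1 LD2_c36 LD3_c44) Lrfl Lrfl
theorem f139980 : Led Lsl_ct (LP (LK LD1_c1 LD2_c36 LD3_c44)) = (LP (LK LD1_c1 LD2_c38 LD3_c24)) :=
  Lgr Lrot7 (Lpe (f22875 IH) (Lpe (K0.f22856 IH) (Lpe (K0.f22913 IH) (Lpe (K9.f22914 IH) (Lpr_cf (K9.f139974 IH) (Lpe (f67021 IH) (Lpr_dt (K9.f73743 IH) (Lpr_gt (K9.f73782 IH) (Lpe (f73779 IH) (Lpn (LP (LK LD1_c1 LD2_c38 LD3_c24))))))))))))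
theorem f416537 : Led Lsl_gf (LP (LK LD1_c2 LD2_c57 LD3_c9)) = (LP (LK LD1_c1 LD2_c36 LD3_c44)) :=
  Lgr Lrot144 (Lpr_dt (K16.f59825 IH) (Lpe (K16.f413430 IH) (Lpr_dt (K16.f59972 IH) (Lpe (K17.f414621 IH) (Lpr_df (K9.f79730 IH) (Lpr_gf (K9.f67311 IH) (Lpe (K17.f67050 IH) (Lpr_gf (f416535 IH) (Lpe (f139980 IH) (Lpn (LP (LK LD1_c1 LD2_c36 LD3_c44))))))))))))
theorem f73741 : Led Lsl_gt (LP (LK LD1_c3 LD2_c24 LD3_c8)) = (LP (LK LD1_c1 LD2_c38 LD3_c21)) :=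
  Lre_g IH (LK LD1_c3 LD2_c24 LD3_c8) (LK LD1_c1 LD2_c38 LD3_c21) Lrfl Lrfl
theorem f413730 : Led Lsl_gt (LP (LK LD1_c4 LD2_c49 LD3_c47)) = (LP (LK LD1_c3 LD2_c24 LD3_c8)) :=
  Lgr Lrot5 (Lpr_ft (K17.f413678 IH) (Lpr_at (K17.f73740 IH) (Lpe (f73741 IH) (Lpn (LP (LK LD1_c3 LD2_c24 LD3_c8))))))
theorem f23210 : Led Lsl_ct (LP (LK LD1_c0 LD2_c13 LD3_c54)) = (LP (LK LD1_c0 LD2_c31 LD3_c17)) :=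
  Lre_c IH (LK LD1_c0 LD2_c13 LD3_c54) (LK LD1_c0 LD2_c31 LD3_c17) Lrfl Lrfl
theorem f141065 : Led Lsl_ct (LP (LK LD1_c2 LD2_c22 LD3_c34)) = (LP (LK LD1_c1 LD2_c8 LD3_c23)) :=
  Lre_c IH (LK LD1_c2 LD2_c22 LD3_c34) (LK LD1_c1 LD2_c8 LD3_c23) Lrfl Lrfl
theorem f80013 : Led Lsl_gt (LP (LK LD1_c4 LD2_c49 LD3_c37)) = (LP (LK LD1_c2 LD2_c22 LD3_c34)) :=
  Lre_g IH (LK LD1_c4 LD2_c49 LD3_c37) (LK LD1_c2 LD2_c22 LD3_c34) Lrfl Lrfl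
theorem f414260 : Led Lsl_ct (LP (LK LD1_c3 LD2_c24 LD3_c8)) = (LP (LK LD1_c4 LD2_c49 LD3_c37)) :=
  Lgr Lrot152 (Lpe (f413730 IH) (Lpe (K17.f413724 IH) (Lpr_gt (K17.f414253 IH) (Lpr_ct (K17.f23209 IH) (Lpr_gt (K0.f22865 IH) (Lpr_ct (f23210 IH) (Lpe (K17.f27104 IH) (Lpe (f141065 IH) (Lpe (f80013 IH) (Lpn (LP (LK LD1_c4 LD2_c49 LD3_c37))))))))))))
theorem f413680 : Led Lsl_dt (LP (LK LD1_c1 LD2_c8 LD3_c26)) = (LP (LK LD1_c2 LD2_c22 LD3_c40)) :=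
  Lre_d IH (LK LD1_c1 LD2_c8 LD3_c26) (LK LD1_c2 LD2_c22 LD3_c40) Lrfl Lrfl
theorem f414328 : Led Lsl_ct (LP (LK LD1_c4 LD2_c49 LD3_c53)) = (LP (LK LD1_c2 LD2_c22 LD3_c40)) :=
  Lre_c IH (LK LD1_c4 LD2_c49 LD3_c53) (LK LD1_c2 LD2_c22 LD3_c40) Lrfl Lrfl
theorem f414452 : Led Lsl_dt (LP (LK LD1_c6 LD2_c46 LD3_c46)) = (LP (LK LD1_c4 LD2_c49 LD3_c53)) :=
  Lgr Lrot105 (Lpr_gf (K17.f414410 IH) (Lpe (K17.f80012 IH) (Lpe (f80013 IH) (Lpe (f414260 IH) (Lpr_gt (f73741 IH) (Lpr_dt (K2.f73703 IH) (Lpr_gt (K17.f414445 IH) (Lpr_dt (f413680 IH) (Lpe (f414328 IH) (Lpn (LP (LK LD1_c4 LD2_c49 LD3_c53))))))))))))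
theorem f414146 : Led Lsl_df (LP (LK LD1_c4 LD2_c49 LD3_c26)) = (LP (LK LD1_c9 LD2_c17 LD3_c26)) :=
  Lgr Lrot38 (Lpr_dt (f414133 IH) (Lpn (LP (LK LD1_c9 LD2_c17 LD3_c26))))
theorem f414326 : Led Lsl_ct (LP (LK LD1_c9 LD2_c17 LD3_c28)) = (LP (LK LD1_c4 LD2_c49 LD3_c56)) :=
  Lgr Lrot59 (Lpr_cf (f414320 IH) (Lpn (LP (LK LD1_c4 LD2_c49 LD3_c56))))
theorem f68367 : Led Lsl_dt (LP (LK LD1_c1 LD2_c8 LD3_c27)) = (LP (LK LD1_c0 LD2_c31 LD3_c18)) :=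
  Lre_d IH (LK LD1_c1 LD2_c8 LD3_c27) (LK LD1_c0 LD2_c31 LD3_c18) Lrfl Lrfl
theorem f414357 : Led Lsl_ct (LP (LK LD1_c2 LD2_c22 LD3_c40)) = (LP (LK LD1_c4 LD2_c49 LD3_c53)) :=
  Lre_c IH (LK LD1_c2 LD2_c22 LD3_c40) (LK LD1_c4 LD2_c49 LD3_c53) Lrfl Lrfl
theorem f414930 : Led Lsl_df (LP (LK LD1_c6 LD2_c46 LD3_c46)) = (LP (LK LD1_c4 LD2_c49 LD3_c53)) :=
  Lgr Lrot43 (Lpr_ct (K17.f23199 IH) (Lpr_dt (K16.f23198 IH) (Lpr_ct (K16.f23197 IH) (Lpe (K0.f23181 IH) (Lpr_ct (K17.f23194 IH) (Lpr_dt (f23195 IH) (Lpr_ct (f23196 IH) (Lpr_dt (f414920 IH) (Lpr_ct (f414326 IH) (Lpr_dt (f414302 IH) (Lpr_ct (f414301 IH) (Lpr_dt (f68367 IH) (Lpr_ct (K16.f413655 IH) (Lpr_dt (f413680 IH) (Lpr_ct (f414357 IH) (Lpn (LP (LK LD1_c4 LD2_c49 LD3_c53))))))))))))))))))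
theorem f414939 : Led Lsl_gf (LP (LK LD1_c9 LD2_c31 LD3_c21)) = (LP (LK LD1_c4 LD2_c49 LD3_c53)) :=
  Lgr Lrot147 (Lpr_ct (f414932 IH) (Lpr_gt (f414933 IH) (Lpr_ct (f76937 IH) (Lpr_df (f414146 IH) (Lpe (f141049 IH) (Lpe (f22858 IH) (Lpe (K17.f22886 IH) (Lpe (K17.f414360 IH) (Lpr_df (f414930 IH) (Lpn (LP (LK LD1_c4 LD2_c49 LD3_c53))))))))))))
theorem f416550 : Led Lsl_df (LP (LK LD1_c11 LD2_c48 LD3_c45)) = (LP (LK LD1_c9 LD2_c31 LD3_c21)) :=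
  Lgr Lrot84 (Lpe (K16.f59837 IH) (Lpe (K16.f59825 IH) (Lpr_gf (f416537 IH) (Lpe (f22875 IH) (Lpe (K0.f22856 IH) (Lpe (f22915 IH) (Lpe (K17.f414410 IH) (Lpr_dt (f414452 IH) (Lpe (f414939 IH) (Lpn (LP (LK LD1_c9 LD2_c31 LD3_c21))))))))))))
theorem f22895 : Led Lsl_dt (LP (LK LD1_c4 LD2_c40 LD3_c56)) = (LP (LK LD1_c2 LD2_c17 LD3_c30)) :=
  Lre_d IH (LK LD1_c4 LD2_c40 LD3_c56) (LK LD1_c2 LD2_c17 LD3_c30) Lrfl Lrfl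
theorem f413539 : Led Lsl_ct (LP (LK LD1_c6 LD2_c12 LD3_c30)) = (LP (LK LD1_c12 LD2_c4 LD3_c25)) :=
  Lre_c IH (LK LD1_c6 LD2_c12 LD3_c30) (LK LD1_c12 LD2_c4 LD3_c25) Lrfl Lrfl
theorem f413974 : Led Lsl_gt (LP (LK LD1_c3 LD2_c2 LD3_c61)) = (LP (LK LD1_c6 LD2_c12 LD3_c30)) :=
  Lgr Lrot9 (Lpe (K16.f59845 IH) (Lpr_gt (K9.f139920 IH) (Lpe (K2.f61278 IH) (Lpr_gt (K9.f61021 IH) (Lpe (K9.f139974 IH) (Lpe (f22895 IH) (Lpe (f22867 IH) (Lpr_gf (f413972 IH) (Lpe (f413539 IH) (Lpn (LP (LK LD1_c6 LD2_c12 LD3_c30))))))))))))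
theorem f414259 : Led Lsl_ct (LP (LK LD1_c4 LD2_c50 LD3_c1)) = (LP (LK LD1_c2 LD2_c22 LD3_c47)) :=
  Lre_c IH (LK LD1_c4 LD2_c50 LD3_c1) (LK LD1_c2 LD2_c22 LD3_c47) Lrfl Lrfl
theorem f22954 : Led Lsl_gt (LP (LK LD1_c1 LD2_c36 LD3_c49)) = (LP (LK LD1_c0 LD2_c44 LD3_c50)) :=
  Lre_g IH (LK LD1_c1 LD2_c36 LD3_c49) (LK LD1_c0 LD2_c44 LD3_c50) Lrfl Lrfl
theorem f140048 : Led Lsl_dt (LP (LK LD1_c0 LD2_c44 LD3_c48)) = (LP (LK LD1_c1 LD2_c36 LD3_c43)) :=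
  Lre_d IH (LK LD1_c0 LD2_c44 LD3_c48) (LK LD1_c1 LD2_c36 LD3_c43) Lrfl Lrfl
theorem f140049 : Led Lsl_ct (LP (LK LD1_c1 LD2_c36 LD3_c43)) = (LP (LK LD1_c3 LD2_c20 LD3_c49)) :=
  Lre_c IH (LK LD1_c1 LD2_c36 LD3_c43) (LK LD1_c3 LD2_c20 LD3_c49) Lrfl Lrfl
theorem f414706 : Led Lsl_df (LP (LK LD1_c3 LD2_c20 LD3_c49)) = (LP (LK LD1_c6 LD2_c12 LD3_c12)) :=
  Lgr Lrot84 (Lpe (f140049 IH) (Lpe (f140048 IH) (Lpe (K0.f22847 IH) (Lpe (K17.f22955 IH) (Lpe (f22954 IH) (Lpe (K17.f22960 IH) (Lpe (f414513 IH) (Lpr_dt (K2.f73675 IH) (Lpr_gt (K17.f414702 IH) (Lpn (LP (LK LD1_c6 LD2_c12 LD3_c12))))))))))))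
theorem f415039 : Led Lsl_dt (LP (LK LD1_c3 LD2_c20 LD3_c49)) = (LP (LK LD1_c6 LD2_c12 LD3_c12)) :=
  Lgr Lrot42 (Lpr_df (f414706 IH) (Lpn (LP (LK LD1_c6 LD2_c12 LD3_c12))))
theorem f140056 : Led Lsl_gt (LP (LK LD1_c6 LD2_c45 LD3_c31)) = (LP (LK LD1_c3 LD2_c20 LD3_c49)) :=
  Lre_g IH (LK LD1_c6 LD2_c45 LD3_c31) (LK LD1_c3 LD2_c20 LD3_c49) Lrfl Lrfl
theorem f413616 : Led Lsl_ct (LP (LK LD1_c3 LD2_c21 LD3_c24)) = (LP (LK LD1_c6 LD2_c46 LD3_c30)) :=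
  Lre_c IH (LK LD1_c3 LD2_c21 LD3_c24) (LK LD1_c6 LD2_c46 LD3_c30) Lrfl Lrfl
theorem f413735 : Led Lsl_at (LP (LK LD1_c4 LD2_c49 LD3_c47)) = (LP (LK LD1_c3 LD2_c21 LD3_c24)) :=
  Lgr Lrot66 (Lpr_ff (K17.f413728 IH) (Lpe (K16.f76925 IH) (Lpe (K16.f413565 IH) (Lpn (LP (LK LD1_c3 LD2_c21 LD3_c24))))))
theorem f414779 : Led Lsl_cf (LP (LK LD1_c4 LD2_c49 LD3_c47)) = (LP (LK LD1_c6 LD2_c45 LD3_c56)) :=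
  Lgr Lrot1 (Lpr_at (f413735 IH) (Lpr_ct (f413616 IH) (Lpr_at (K17.f414714 IH) (Lpn (LP (LK LD1_c6 LD2_c45 LD3_c56))))))
theorem f413682 : Led Lsl_dt (LP (LK LD1_c2 LD2_c22 LD3_c40)) = (LP (LK LD1_c1 LD2_c8 LD3_c26)) :=
  Lre_d IH (LK LD1_c2 LD2_c22 LD3_c40) (LK LD1_c1 LD2_c8 LD3_c26) Lrfl Lrfl
theorem f414795 : Led Lsl_gt (LP (LK LD1_c4 LD2_c49 LD3_c52)) = (LP (LK LD1_c2 LD2_c22 LD3_c40)) :=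
  Lre_g IH (LK LD1_c4 LD2_c49 LD3_c52) (LK LD1_c2 LD2_c22 LD3_c40) Lrfl Lrfl
theorem f415048 : Led Lsl_cf (LP (LK LD1_c6 LD2_c45 LD3_c31)) = (LP (LK LD1_c4 LD2_c49 LD3_c52)) :=
  Lgr Lrot166 (Lpr_gt (f140056 IH) (Lpr_dt (f415039 IH) (Lpe (K17.f414675 IH) (Lpe (K17.f414812 IH) (Lpe (f414779 IH) (Lpe (K17.f413724 IH) (Lpe (K16.f413656 IH) (Lpe (f413682 IH) (Lpe (f414795 IH) (Lpn (LP (LK LD1_c4 LD2_c49 LD3_c52))))))))))))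
theorem f140055 : Led Lsl_ct (LP (LK LD1_c3 LD2_c20 LD3_c49)) = (LP (LK LD1_c1 LD2_c36 LD3_c43)) :=
  Lre_c IH (LK LD1_c3 LD2_c20 LD3_c49) (LK LD1_c1 LD2_c36 LD3_c43) Lrfl Lrfl
theorem f23979 : Led Lsl_dt (LP (LK LD1_c1 LD2_c36 LD3_c43)) = (LP (LK LD1_c0 LD2_c44 LD3_c48)) :=
  Lre_d IH (LK LD1_c1 LD2_c36 LD3_c43) (LK LD1_c0 LD2_c44 LD3_c48) Lrfl Lrfl
theorem f415051 : Led Lsl_gt (LP (LK LD1_c2 LD2_c22 LD3_c47)) = (LP (LK LD1_c4 LD2_c49 LD3_c52)) :=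
  Lgr Lrot9 (Lpe (f23195 IH) (Lpe (K17.f414257 IH) (Lpr_ct (K2.f73704 IH) (Lpr_gt (K9.f61207 IH) (Lpe (K9.f140032 IH) (Lpe (f23979 IH) (Lpe (f140055 IH) (Lpe (f140056 IH) (Lpr_cf (f415048 IH) (Lpn (LP (LK LD1_c4 LD2_c49 LD3_c52))))))))))))
theorem f416601 : Led Lsl_dt (LP (LK LD1_c12 LD2_c4 LD3_c25)) = (LP (LK LD1_c6 LD2_c45 LD3_c31)) :=
  Lgr Lrot27 (Lpe (f413539 IH) (Lpe (f413974 IH) (Lpe (K16.f59841 IH) (Lpe (K16.f59842 IH) (Lpr_df (f416550 IH) (Lpr_gt (f414927 IH) (Lpr_ct (f414259 IH) (Lpr_gt (f415051 IH) (Lpe (f415048 IH) (Lpn (LP (LK LD1_c6 LD2_c45 LD3_c31))))))))))))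
theorem f180323 : Led Lsl_gt (LP (LK LD1_c1 LD2_c36 LD3_c43)) = (LP (LK LD1_c3 LD2_c20 LD3_c47)) :=
  Lre_g IH (LK LD1_c1 LD2_c36 LD3_c43) (LK LD1_c3 LD2_c20 LD3_c47) Lrfl Lrfl
theorem f180496 : Led Lsl_ct (LP (LK LD1_c3 LD2_c20 LD3_c47)) = (LP (LK LD1_c6 LD2_c45 LD3_c26)) :=
  Lre_c IH (LK LD1_c3 LD2_c20 LD3_c47) (LK LD1_c6 LD2_c45 LD3_c26) Lrfl Lrfl
theorem f414425 : Led Lsl_dt (LP (LK LD1_c6 LD2_c45 LD3_c26)) = (LP (LK LD1_c12 LD2_c55 LD3_c5)) :=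
  Lre_d IH (LK LD1_c6 LD2_c45 LD3_c26) (LK LD1_c12 LD2_c55 LD3_c5) Lrfl Lrfl
theorem f416686 : Led Lsl_cf (LP (LK LD1_c12 LD2_c55 LD3_c5)) = (LP (LK LD1_c6 LD2_c46 LD3_c50)) :=
  Lgr Lrot99 (Lpe (f414425 IH) (Lpe (f180496 IH) (Lpe (f180323 IH) (Lpe (f140055 IH) (Lpe (f140056 IH) (Lpe (f416601 IH) (Lpe (f413972 IH) (Lpr_ct (f22867 IH) (Lpr_gt (f416657 IH) (Lpn (LP (LK LD1_c6 LD2_c46 LD3_c50))))))))))))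
theorem f416688 : Led Lsl_gf (LP (LK LD1_c9 LD2_c17 LD3_c44)) = (LP (LK LD1_c12 LD2_c55 LD3_c5)) :=
  Lgr Lrot172 (Lpr_ct (f414332 IH) (Lpr_dt (f414305 IH) (Lpe (K17.f414275 IH) (Lpe (K17.f20135 IH) (Lpe (K9.f139982 IH) (Lpe (K9.f22914 IH) (Lpr_dt (f22861 IH) (Lpr_gt (f416657 IH) (Lpe (f416686 IH) (Lpn (LP (LK LD1_c12 LD2_c55 LD3_c5))))))))))))
theorem f416712 : Led Lsl_ct (LP (LK LD1_c12 LD2_c55 LD3_c5)) = (LP (LK LD1_c6 LD2_c46 LD3_c50)) :=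
  Lgr Lrot8 (Lpe (f416688 IH) (Lpe (f414341 IH) (Lpr_gt (K17.f59993 IH) (Lpr_dt (f9326 IH) (Lpe (f22869 IH) (Lpe (K0.f22845 IH) (Lpe (K8.f27029 IH) (Lpe (f27038 IH) (Lpr_gf (f416710 IH) (Lpn (LP (LK LD1_c6 LD2_c46 LD3_c50))))))))))))
theorem f180326 : Led Lsl_dt (LP (LK LD1_c2 LD2_c53 LD3_c61)) = (LP (LK LD1_c3 LD2_c20 LD3_c47)) :=
  Lre_d IH (LK LD1_c2 LD2_c53 LD3_c61) (LK LD1_c3 LD2_c20 LD3_c47) Lrfl Lrfl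
theorem f180318 : Led Lsl_ft (LP (LK LD1_c2 LD2_c53 LD3_c61)) = (LP (LK LD1_c5 LD2_c55 LD3_c19)) :=
  Lre_f IH (LK LD1_c2 LD2_c53 LD3_c61) (LK LD1_c5 LD2_c55 LD3_c19) Lrfl Lrfl
theorem f416665 : Led Lsl_dt (LP (LK LD1_c1 LD2_c37 LD3_c0)) = (LP (LK LD1_c3 LD2_c21 LD3_c35)) :=
  Lre_d IH (LK LD1_c1 LD2_c37 LD3_c0) (LK LD1_c3 LD2_c21 LD3_c35) Lrfl Lrfl
theorem f61029 : Led Lsl_dt (LP (LK LD1_c1 LD2_c32 LD3_c49)) = (LP (LK LD1_c3 LD2_c12 LD3_c44)) :=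
  Lre_d IH (LK LD1_c1 LD2_c32 LD3_c49) (LK LD1_c3 LD2_c12 LD3_c44) Lrfl Lrfl
theorem f139996 : Led Lsl_ct (LP (LK LD1_c4 LD2_c40 LD3_c5)) = (LP (LK LD1_c3 LD2_c12 LD3_c44)) :=
  Lgr Lrot7 (Lpe (K17.f27101 IH) (Lpe (K0.f27111 IH) (Lpe (K0.f27112 IH) (Lpe (K0.f27113 IH) (Lpr_cf (K9.f139984 IH) (Lpr_gt (K9.f76926 IH) (Lpr_dt (K2.f76918 IH) (Lpr_gt (K9.f67028 IH) (Lpr_dt (f61029 IH) (Lpn (LP (LK LD1_c3 LD2_c12 LD3_c44))))))))))))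
theorem f416610 : Led Lsl_df (LP (LK LD1_c12 LD2_c4 LD3_c25)) = (LP (LK LD1_c6 LD2_c45 LD3_c31)) :=
  Lgr Lrot38 (Lpr_dt (f416601 IH) (Lpn (LP (LK LD1_c6 LD2_c45 LD3_c31))))
theorem f415046 : Led Lsl_ct (LP (LK LD1_c6 LD2_c45 LD3_c31)) = (LP (LK LD1_c4 LD2_c49 LD3_c52)) :=
  Lgr Lrot8 (Lpr_gt (f140056 IH) (Lpr_dt (f415039 IH) (Lpe (K17.f414675 IH) (Lpe (K17.f414812 IH) (Lpe (K17.f414788 IH) (Lpe (K17.f413724 IH) (Lpe (K16.f413656 IH) (Lpe (f413682 IH) (Lpe (f414795 IH) (Lpn (LP (LK LD1_c4 LD2_c49 LD3_c52))))))))))))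
theorem f141015 : Led Lsl_gf (LP (LK LD1_c6 LD2_c12 LD3_c9)) = (LP (LK LD1_c5 LD2_c51 LD3_c49)) :=
  Lgr Lrot47 (Lpr_gt (K17.f141010 IH) (Lpe (K16.f73678 IH) (Lpr_ff (K17.f73917 IH) (Lpn (LP (LK LD1_c5 LD2_c51 LD3_c49))))))
theorem f414619 : Led Lsl_dt (LP (LK LD1_c0 LD2_c44 LD3_c49)) = (LP (LK LD1_c1 LD2_c36 LD3_c46)) :=
  Lre_d IH (LK LD1_c0 LD2_c44 LD3_c49) (LK LD1_c1 LD2_c36 LD3_c46) Lrfl Lrfl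
theorem f414504 : Led Lsl_ct (LP (LK LD1_c3 LD2_c20 LD3_c58)) = (LP (LK LD1_c1 LD2_c36 LD3_c46)) :=
  Lre_c IH (LK LD1_c3 LD2_c20 LD3_c58) (LK LD1_c1 LD2_c36 LD3_c46) Lrfl Lrfl
theorem f415000 : Led Lsl_dt (LP (LK LD1_c6 LD2_c12 LD3_c9)) = (LP (LK LD1_c3 LD2_c20 LD3_c58)) :=
  Lgr Lrot105 (Lpr_gf (f141015 IH) (Lpr_df (K17.f414781 IH) (Lpe (K17.f140980 IH) (Lpe (K17.f140979 IH) (Lpr_gt (K17.f98995 IH) (Lpr_dt (f26992 IH) (Lpr_gt (K17.f186139 IH) (Lpr_dt (f414619 IH) (Lpe (f414504 IH) (Lpn (LP (LK LD1_c3 LD2_c20 LD3_c58))))))))))))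
theorem f415005 : Led Lsl_df (LP (LK LD1_c6 LD2_c12 LD3_c9)) = (LP (LK LD1_c3 LD2_c20 LD3_c58)) :=
  Lgr Lrot38 (Lpr_dt (f415000 IH) (Lpn (LP (LK LD1_c3 LD2_c20 LD3_c58))))
theorem f415056 : Led Lsl_gf (LP (LK LD1_c6 LD2_c45 LD3_c31)) = (LP (LK LD1_c3 LD2_c20 LD3_c58)) :=
  Lgr Lrot147 (Lpr_ct (f415046 IH) (Lpr_gt (f414795 IH) (Lpr_ct (f414357 IH) (Lpe (f414452 IH) (Lpe (K17.f413643 IH) (Lpr_gf (K16.f413636 IH) (Lpr_cf (K2.f73676 IH) (Lpe (K17.f141010 IH) (Lpr_df (f415005 IH) (Lpn (LP (LK LD1_c3 LD2_c20 LD3_c58))))))))))))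
theorem f414620 : Led Lsl_ct (LP (LK LD1_c1 LD2_c36 LD3_c46)) = (LP (LK LD1_c3 LD2_c20 LD3_c58)) :=
  Lre_c IH (LK LD1_c1 LD2_c36 LD3_c46) (LK LD1_c3 LD2_c20 LD3_c58) Lrfl Lrfl
theorem f415127 : Led Lsl_dt (LP (LK LD1_c3 LD2_c21 LD3_c29)) = (LP (LK LD1_c6 LD2_c12 LD3_c15)) :=
  Lgr Lrot42 (Lpr_df (K17.f414084 IH) (Lpn (LP (LK LD1_c6 LD2_c12 LD3_c15))))
theorem f60006 : Led Lsl_dt (LP (LK LD1_c3 LD2_c2 LD3_c41)) = (LP (LK LD1_c4 LD2_c49 LD3_c40)) :=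
  Lre_d IH (LK LD1_c3 LD2_c2 LD3_c41) (LK LD1_c4 LD2_c49 LD3_c40) Lrfl Lrfl
theorem f140053 : Led Lsl_gt (LP (LK LD1_c3 LD2_c20 LD3_c48)) = (LP (LK LD1_c1 LD2_c36 LD3_c43)) :=
  Lre_g IH (LK LD1_c3 LD2_c20 LD3_c48) (LK LD1_c1 LD2_c36 LD3_c43) Lrfl Lrfl
theorem f415042 : Led Lsl_ct (LP (LK LD1_c6 LD2_c45 LD3_c28)) = (LP (LK LD1_c3 LD2_c20 LD3_c48)) :=
  Lre_c IH (LK LD1_c6 LD2_c45 LD3_c28) (LK LD1_c3 LD2_c20 LD3_c48) Lrfl Lrfl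
theorem f415136 : Led Lsl_gf (LP (LK LD1_c3 LD2_c21 LD3_c29)) = (LP (LK LD1_c6 LD2_c45 LD3_c28)) :=
  Lgr Lrot144 (Lpr_dt (f415127 IH) (Lpr_gt (K17.f60022 IH) (Lpr_dt (f60006 IH) (Lpe (K17.f23083 IH) (Lpe (K0.f22940 IH) (Lpe (K0.f22928 IH) (Lpe (f23979 IH) (Lpe (f140053 IH) (Lpe (f415042 IH) (Lpn (LP (LK LD1_c6 LD2_c45 LD3_c28))))))))))))
theorem f415139 : Led Lsl_ct (LP (LK LD1_c3 LD2_c20 LD3_c48)) = (LP (LK LD1_c6 LD2_c45 LD3_c28)) :=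
  Lre_c IH (LK LD1_c3 LD2_c20 LD3_c48) (LK LD1_c6 LD2_c45 LD3_c28) Lrfl Lrfl
theorem f415141 : Led Lsl_gt (LP (LK LD1_c1 LD2_c36 LD3_c46)) = (LP (LK LD1_c3 LD2_c20 LD3_c48)) :=
  Lgr Lrot9 (Lpe (f414619 IH) (Lpr_gt (K17.f185972 IH) (Lpr_ct (K17.f22961 IH) (Lpr_gt (K0.f23179 IH) (Lpr_ct (K16.f413542 IH) (Lpe (K17.f413452 IH) (Lpe (K17.f413453 IH) (Lpr_gf (f415136 IH) (Lpe (f415139 IH) (Lpn (LP (LK LD1_c3 LD2_c20 LD3_c48))))))))))))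
theorem f415146 : Led Lsl_dt (LP (LK LD1_c3 LD2_c20 LD3_c48)) = (LP (LK LD1_c6 LD2_c45 LD3_c29)) :=
  Lre_d IH (LK LD1_c3 LD2_c20 LD3_c48) (LK LD1_c6 LD2_c45 LD3_c29) Lrfl Lrfl
theorem f416620 : Led Lsl_gf (LP (LK LD1_c4 LD2_c40 LD3_c5)) = (LP (LK LD1_c6 LD2_c45 LD3_c29)) :=
  Lgr Lrot143 (Lpe (K0.f27062 IH) (Lpe (f27106 IH) (Lpe (f413967 IH) (Lpr_gf (f413972 IH) (Lpr_df (f416610 IH) (Lpr_gf (f415056 IH) (Lpe (f414620 IH) (Lpr_gt (f415141 IH) (Lpr_dt (f415146 IH) (Lpn (LP (LK LD1_c6 LD2_c45 LD3_c29))))))))))))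
theorem f416660 : Led Lsl_cf (LP (LK LD1_c6 LD2_c45 LD3_c29)) = (LP (LK LD1_c3 LD2_c21 LD3_c35)) :=
  Lgr Lrot169 (Lpe (f416620 IH) (Lpr_ct (f139996 IH) (Lpe (f61029 IH) (Lpe (K17.f61039 IH) (Lpe (K17.f22917 IH) (Lpe (K9.f61046 IH) (Lpe (K0.f23216 IH) (Lpe (K17.f23237 IH) (Lpr_gt (f416653 IH) (Lpn (LP (LK LD1_c3 LD2_c21 LD3_c35))))))))))))
theorem f416721 : Led Lsl_at (LP (LK LD1_c5 LD2_c55 LD3_c19)) = (LP (LK LD1_c6 LD2_c45 LD3_c29)) :=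
  Lgr Lrot33 (Lpe (f180318 IH) (Lpr_dt (f180326 IH) (Lpr_ct (f180496 IH) (Lpr_dt (f414425 IH) (Lpr_ct (f416712 IH) (Lpr_dt (f416656 IH) (Lpr_ct (f416655 IH) (Lpr_dt (f416665 IH) (Lpe (f416660 IH) (Lpn (LP (LK LD1_c6 LD2_c45 LD3_c29))))))))))))
theorem f416726 : Led Lsl_gt (LP (LK LD1_c4 LD2_c49 LD3_c31)) = (LP (LK LD1_c6 LD2_c45 LD3_c29)) :=
  Lgr Lrot46 (Lpe (K17.f180315 IH) (Lpr_ft (f180318 IH) (Lpr_at (f416721 IH) (Lpn (LP (LK LD1_c6 LD2_c45 LD3_c29))))))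
theorem f73939 : Led Lsl_dt (LP (LK LD1_c2 LD2_c22 LD3_c32)) = (LP (LK LD1_c4 LD2_c49 LD3_c31)) :=
  Lre_d IH (LK LD1_c2 LD2_c22 LD3_c32) (LK LD1_c4 LD2_c49 LD3_c31) Lrfl Lrfl
theorem f76939 : Led Lsl_gt (LP (LK LD1_c1 LD2_c8 LD3_c23)) = (LP (LK LD1_c2 LD2_c22 LD3_c32)) :=
  Lre_g IH (LK LD1_c1 LD2_c8 LD3_c23) (LK LD1_c2 LD2_c22 LD3_c32) Lrfl Lrfl
theorem f140054 : Led Lsl_dt (LP (LK LD1_c6 LD2_c45 LD3_c29)) = (LP (LK LD1_c3 LD2_c20 LD3_c48)) :=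
  Lre_d IH (LK LD1_c6 LD2_c45 LD3_c29) (LK LD1_c3 LD2_c20 LD3_c48) Lrfl Lrfl
theorem f415138 : Led Lsl_dt (LP (LK LD1_c12 LD2_c55 LD3_c8)) = (LP (LK LD1_c6 LD2_c45 LD3_c28)) :=
  Lre_d IH (LK LD1_c12 LD2_c55 LD3_c8) (LK LD1_c6 LD2_c45 LD3_c28) Lrfl Lrfl
theorem f416728 : Led Lsl_gt (LP (LK LD1_c9 LD2_c17 LD3_c44)) = (LP (LK LD1_c12 LD2_c55 LD3_c8)) :=
  Lgr Lrot49 (Lpe (f414333 IH) (Lpe (K17.f27108 IH) (Lpe (K17.f27107 IH) (Lpr_gt (f76939 IH) (Lpr_dt (f73939 IH) (Lpr_gt (f416726 IH) (Lpr_dt (f140054 IH) (Lpe (f415042 IH) (Lpe (f415138 IH) (Lpn (LP (LK LD1_c12 LD2_c55 LD3_c8))))))))))))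
theorem f180325 : Led Lsl_ct (LP (LK LD1_c1 LD2_c34 LD3_c12)) = (LP (LK LD1_c2 LD2_c53 LD3_c61)) :=
  Lre_c IH (LK LD1_c1 LD2_c34 LD3_c12) (LK LD1_c2 LD2_c53 LD3_c61) Lrfl Lrfl
theorem f180331 : Led Lsl_dt (LP (LK LD1_c1 LD2_c36 LD3_c61)) = (LP (LK LD1_c1 LD2_c34 LD3_c12)) :=
  Lre_d IH (LK LD1_c1 LD2_c36 LD3_c61) (LK LD1_c1 LD2_c34 LD3_c12) Lrfl Lrfl
theorem f180500 : Led Lsl_ct (LP (LK LD1_c3 LD2_c21 LD3_c33)) = (LP (LK LD1_c1 LD2_c36 LD3_c61)) :=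
  Lre_c IH (LK LD1_c3 LD2_c21 LD3_c33) (LK LD1_c1 LD2_c36 LD3_c61) Lrfl Lrfl
theorem f414524 : Led Lsl_dt (LP (LK LD1_c6 LD2_c46 LD3_c48)) = (LP (LK LD1_c3 LD2_c21 LD3_c33)) :=
  Lre_d IH (LK LD1_c6 LD2_c46 LD3_c48) (LK LD1_c3 LD2_c21 LD3_c33) Lrfl Lrfl
theorem f415143 : Led Lsl_dt (LP (LK LD1_c6 LD2_c45 LD3_c28)) = (LP (LK LD1_c12 LD2_c55 LD3_c8)) :=
  Lre_d IH (LK LD1_c6 LD2_c45 LD3_c28) (LK LD1_c12 LD2_c55 LD3_c8) Lrfl Lrfl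
theorem f416717 : Led Lsl_cf (LP (LK LD1_c6 LD2_c46 LD3_c48)) = (LP (LK LD1_c12 LD2_c55 LD3_c8)) :=
  Lgr Lrot55 (Lpr_dt (f414524 IH) (Lpr_ct (f180500 IH) (Lpr_dt (f180331 IH) (Lpr_ct (f180325 IH) (Lpr_dt (f180326 IH) (Lpr_ct (f180496 IH) (Lpr_dt (f414425 IH) (Lpr_ct (f416712 IH) (Lpr_dt (f416656 IH) (Lpr_ct (f416655 IH) (Lpr_dt (f416665 IH) (Lpe (f416660 IH) (Lpr_dt (f140054 IH) (Lpr_ct (f415139 IH) (Lpr_dt (f415143 IH) (Lpn (LP (LK LD1_c12 LD2_c55 LD3_c8))))))))))))))))))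
theorem f416736 : Led Lsl_gf (LP (LK LD1_c4 LD2_c40 LD3_c56)) = (LP (LK LD1_c6 LD2_c46 LD3_c48)) :=
  Lgr Lrot104 (Lpr_ct (f22862 IH) (Lpr_df (f413958 IH) (Lpe (K17.f27100 IH) (Lpe (K0.f27111 IH) (Lpe (K17.f73943 IH) (Lpe (K17.f59993 IH) (Lpr_df (f414341 IH) (Lpr_gt (f416728 IH) (Lpe (f416717 IH) (Lpn (LP (LK LD1_c6 LD2_c46 LD3_c48))))))))))))
theorem f414412 : Led Lsl_ct (LP (LK LD1_c4 LD2_c41 LD3_c5)) = (LP (LK LD1_c9 LD2_c17 LD3_c39)) :=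
  Lre_c IH (LK LD1_c4 LD2_c41 LD3_c5) (LK LD1_c9 LD2_c17 LD3_c39) Lrfl Lrfl
theorem f22871 : Led Lsl_dt (LP (LK LD1_c4 LD2_c40 LD3_c61)) = (LP (LK LD1_c3 LD2_c21 LD3_c11)) :=
  Lre_d IH (LK LD1_c4 LD2_c40 LD3_c61) (LK LD1_c3 LD2_c21 LD3_c11) Lrfl Lrfl
theorem f180498 : Led Lsl_gt (LP (LK LD1_c3 LD2_c21 LD3_c11)) = (LP (LK LD1_c4 LD2_c49 LD3_c37)) :=
  Lre_g IH (LK LD1_c3 LD2_c21 LD3_c11) (LK LD1_c4 LD2_c49 LD3_c37) Lrfl Lrfl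
theorem f414413 : Led Lsl_df (LP (LK LD1_c9 LD2_c17 LD3_c39)) = (LP (LK LD1_c4 LD2_c49 LD3_c37)) :=
  Lgr Lrot84 (Lpe (f414412 IH) (Lpe (K17.f413654 IH) (Lpr_gf (K17.f413652 IH) (Lpe (K2.f73672 IH) (Lpe (K17.f413638 IH) (Lpe (K17.f23199 IH) (Lpr_gt (K17.f414360 IH) (Lpr_dt (f22871 IH) (Lpr_gt (f180498 IH) (Lpn (LP (LK LD1_c4 LD2_c49 LD3_c37))))))))))))
theorem f414420 : Led Lsl_dt (LP (LK LD1_c9 LD2_c17 LD3_c39)) = (LP (LK LD1_c4 LD2_c49 LD3_c37)) :=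
  Lgr Lrot42 (Lpr_df (f414413 IH) (Lpn (LP (LK LD1_c4 LD2_c49 LD3_c37))))
theorem f416739 : Led Lsl_gf (LP (LK LD1_c9 LD2_c17 LD3_c39)) = (LP (LK LD1_c12 LD2_c55 LD3_c8)) :=
  Lgr Lrot144 (Lpr_dt (f414420 IH) (Lpr_gt (f80013 IH) (Lpr_dt (K17.f80012 IH) (Lpe (f22912 IH) (Lpe (K0.f22913 IH) (Lpe (K9.f22914 IH) (Lpe (f22895 IH) (Lpr_gf (f416736 IH) (Lpr_cf (f416717 IH) (Lpn (LP (LK LD1_c12 LD2_c55 LD3_c8))))))))))))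
theorem f416741 : Led Lsl_cf (LP (LK LD1_c12 LD2_c55 LD3_c8)) = (LP (LK LD1_c6 LD2_c46 LD3_c48)) :=
  Lgr Lrot166 (Lpe (f416739 IH) (Lpr_dt (f414420 IH) (Lpr_gt (f80013 IH) (Lpr_dt (K17.f80012 IH) (Lpr_ct (f22915 IH) (Lpe (K0.f22913 IH) (Lpe (K9.f22914 IH) (Lpe (f22895 IH) (Lpr_gf (f416736 IH) (Lpn (LP (LK LD1_c6 LD2_c46 LD3_c48))))))))))))
theorem f36274 : Led Lsl_et (LP (LK LD1_c0 LD2_c20 LD3_c19)) = (LP (LK LD1_c0 LD2_c45 LD3_c34)) :=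
  Lre_e IH (LK LD1_c0 LD2_c20 LD3_c19) (LK LD1_c0 LD2_c45 LD3_c34) Lrfl Lrfl
theorem f61286 : Led Lsl_et (LP (LK LD1_c1 LD2_c20 LD3_c53)) = (LP (LK LD1_c0 LD2_c37 LD3_c21)) :=
  Lre_e IH (LK LD1_c1 LD2_c20 LD3_c53) (LK LD1_c0 LD2_c37 LD3_c21) Lrfl Lrfl
theorem f415244 : Led Lsl_gf (LP (LK LD1_c2 LD2_c49 LD3_c29)) = (LP (LK LD1_c3 LD2_c21 LD3_c57)) :=
  Lgr Lrot145 (Lpe (K16.f61287 IH) (Lpr_et (f61286 IH) (Lpe (K4.f61280 IH) (Lpr_dt (K1.f20541 IH) (Lpr_gt (K1.f59533 IH) (Lpe (K2.f59634 IH) (Lpr_et (f36274 IH) (Lpr_gt (K17.f414445 IH) (Lpr_ef (K16.f415232 IH) (Lpr_dt (K16.f413550 IH) (Lpn (LP (LK LD1_c3 LD2_c21 LD3_c57)))))))))))))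
theorem f413465 : Led Lsl_dt (LP (LK LD1_c1 LD2_c27 LD3_c20)) = (LP (LK LD1_c3 LD2_c2 LD3_c49)) :=
  Lre_d IH (LK LD1_c1 LD2_c27 LD3_c20) (LK LD1_c3 LD2_c2 LD3_c49) Lrfl Lrfl
theorem f413467 : Led Lsl_ct (LP (LK LD1_c6 LD2_c12 LD3_c31)) = (LP (LK LD1_c3 LD2_c2 LD3_c49)) :=
  Lre_c IH (LK LD1_c6 LD2_c12 LD3_c31) (LK LD1_c3 LD2_c2 LD3_c49) Lrfl Lrfl
theorem f23082 : Led Lsl_gt (LP (LK LD1_c4 LD2_c49 LD3_c40)) = (LP (LK LD1_c3 LD2_c21 LD3_c8)) :=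
  Lre_g IH (LK LD1_c4 LD2_c49 LD3_c40) (LK LD1_c3 LD2_c21 LD3_c8) Lrfl Lrfl
theorem f416473 : Led Lsl_df (LP (LK LD1_c6 LD2_c12 LD3_c31)) = (LP (LK LD1_c3 LD2_c21 LD3_c8)) :=
  Lgr Lrot174 (Lpr_ct (f413467 IH) (Lpe (f413465 IH) (Lpr_gf (K16.f413459 IH) (Lpe (K17.f61428 IH) (Lpr_gf (f415244 IH) (Lpr_ct (K17.f416463 IH) (Lpr_gt (K17.f60022 IH) (Lpr_dt (f60006 IH) (Lpr_gt (f23082 IH) (Lpn (LP (LK LD1_c3 LD2_c21 LD3_c8))))))))))))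
theorem f413466 : Led Lsl_ct (LP (LK LD1_c3 LD2_c2 LD3_c49)) = (LP (LK LD1_c6 LD2_c12 LD3_c31)) :=
  Lre_c IH (LK LD1_c3 LD2_c2 LD3_c49) (LK LD1_c6 LD2_c12 LD3_c31) Lrfl Lrfl
theorem f76936 : Led Lsl_dt (LP (LK LD1_c1 LD2_c8 LD3_c22)) = (LP (LK LD1_c2 LD2_c22 LD3_c30)) :=
  Lre_d IH (LK LD1_c1 LD2_c8 LD3_c22) (LK LD1_c2 LD2_c22 LD3_c30) Lrfl Lrfl
theorem f73945 : Led Lsl_ct (LP (LK LD1_c2 LD2_c22 LD3_c32)) = (LP (LK LD1_c4 LD2_c49 LD3_c30)) :=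
  Lre_c IH (LK LD1_c2 LD2_c22 LD3_c32) (LK LD1_c4 LD2_c49 LD3_c30) Lrfl Lrfl
theorem f414152 : Led Lsl_gt (LP (LK LD1_c4 LD2_c49 LD3_c30)) = (LP (LK LD1_c6 LD2_c46 LD3_c30)) :=
  Lgr Lrot94 (Lpe (f73945 IH) (Lpr_gt (K17.f22873 IH) (Lpr_dt (K17.f68691 IH) (Lpr_gt (K17.f76942 IH) (Lpr_dt (f76936 IH) (Lpe (f76941 IH) (Lpr_df (f414146 IH) (Lpr_gf (f141053 IH) (Lpe (f413951 IH) (Lpn (LP (LK LD1_c6 LD2_c46 LD3_c30))))))))))))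
theorem f22916 : Led Lsl_dt (LP (LK LD1_c3 LD2_c2 LD3_c42)) = (LP (LK LD1_c1 LD2_c27 LD3_c18)) :=
  Lre_d IH (LK LD1_c3 LD2_c2 LD3_c42) (LK LD1_c1 LD2_c27 LD3_c18) Lrfl Lrfl
theorem f27045 : Led Lsl_dt (LP (LK LD1_c2 LD2_c17 LD3_c31)) = (LP (LK LD1_c4 LD2_c40 LD3_c58)) :=
  Lre_d IH (LK LD1_c2 LD2_c17 LD3_c31) (LK LD1_c4 LD2_c40 LD3_c58) Lrfl Lrfl
theorem f61052 : Led Lsl_ct (LP (LK LD1_c4 LD2_c40 LD3_c58)) = (LP (LK LD1_c9 LD2_c17 LD3_c24)) :=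
  Lre_c IH (LK LD1_c4 LD2_c40 LD3_c58) (LK LD1_c9 LD2_c17 LD3_c24) Lrfl Lrfl
theorem f22872 : Led Lsl_ct (LP (LK LD1_c1 LD2_c36 LD3_c51)) = (LP (LK LD1_c3 LD2_c21 LD3_c11)) :=
  Lre_c IH (LK LD1_c1 LD2_c36 LD3_c51) (LK LD1_c3 LD2_c21 LD3_c11) Lrfl Lrfl
theorem f22874 : Led Lsl_ct (LP (LK LD1_c4 LD2_c49 LD3_c30)) = (LP (LK LD1_c2 LD2_c22 LD3_c32)) :=
  Lre_c IH (LK LD1_c4 LD2_c49 LD3_c30) (LK LD1_c2 LD2_c22 LD3_c32) Lrfl Lrfl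
theorem f73933 : Led Lsl_gt (LP (LK LD1_c5 LD2_c0 LD3_c23)) = (LP (LK LD1_c4 LD2_c49 LD3_c30)) :=
  Lgr Lrot9 (Lpe (K16.f73922 IH) (Lpr_gt (K17.f73930 IH) (Lpr_ct (f22863 IH) (Lpe (K0.f22850 IH) (Lpr_ct (f22869 IH) (Lpe (f9326 IH) (Lpe (f22872 IH) (Lpe (K17.f22873 IH) (Lpe (f22874 IH) (Lpn (LP (LK LD1_c4 LD2_c49 LD3_c30))))))))))))
theorem f141056 : Led Lsl_df (LP (LK LD1_c9 LD2_c17 LD3_c24)) = (LP (LK LD1_c4 LD2_c49 LD3_c30)) :=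
  Lgr Lrot84 (Lpe (f61052 IH) (Lpe (f27045 IH) (Lpe (K17.f22917 IH) (Lpe (f22916 IH) (Lpe (f22911 IH) (Lpe (f141055 IH) (Lpr_gt (f141050 IH) (Lpr_dt (K16.f73922 IH) (Lpr_gt (f73933 IH) (Lpn (LP (LK LD1_c4 LD2_c49 LD3_c30))))))))))))
theorem f141063 : Led Lsl_dt (LP (LK LD1_c9 LD2_c17 LD3_c24)) = (LP (LK LD1_c4 LD2_c49 LD3_c30)) :=
  Lgr Lrot42 (Lpr_df (f141056 IH) (Lpn (LP (LK LD1_c4 LD2_c49 LD3_c30))))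
theorem f416485 : Led Lsl_gf (LP (LK LD1_c12 LD2_c4 LD3_c25)) = (LP (LK LD1_c9 LD2_c17 LD3_c24)) :=
  Lgr Lrot147 (Lpr_ct (f413541 IH) (Lpr_gt (f413513 IH) (Lpr_ct (f413466 IH) (Lpr_df (f416473 IH) (Lpe (K17.f414058 IH) (Lpe (K16.f413614 IH) (Lpe (K17.f413558 IH) (Lpe (f414152 IH) (Lpe (f141063 IH) (Lpn (LP (LK LD1_c9 LD2_c17 LD3_c24))))))))))))
theorem f61045 : Led Lsl_ct (LP (LK LD1_c9 LD2_c17 LD3_c24)) = (LP (LK LD1_c4 LD2_c40 LD3_c58)) :=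
  Lre_c IH (LK LD1_c9 LD2_c17 LD3_c24) (LK LD1_c4 LD2_c40 LD3_c58) Lrfl Lrfl
theorem f416612 : Led Lsl_gt (LP (LK LD1_c4 LD2_c40 LD3_c58)) = (LP (LK LD1_c6 LD2_c46 LD3_c48)) :=
  Lgr Lrot94 (Lpe (f61045 IH) (Lpe (f416485 IH) (Lpr_dt (f416601 IH) (Lpr_gt (f140056 IH) (Lpr_dt (f415039 IH) (Lpe (K17.f27124 IH) (Lpe (K0.f27118 IH) (Lpr_gf (K17.f414511 IH) (Lpe (f414524 IH) (Lpn (LP (LK LD1_c6 LD2_c46 LD3_c48))))))))))))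
theorem f56660 : Led Lsl_et (LP (LK LD1_c0 LD2_c16 LD3_c42)) = (LP (LK LD1_c0 LD2_c37 LD3_c30)) :=
  Lre_e IH (LK LD1_c0 LD2_c16 LD3_c42) (LK LD1_c0 LD2_c37 LD3_c30) Lrfl Lrfl
theorem f57152 : Led Lsl_gt (LP (LK LD1_c1 LD2_c21 LD3_c15)) = (LP (LK LD1_c0 LD2_c37 LD3_c30)) :=
  Lre_g IH (LK LD1_c1 LD2_c21 LD3_c15) (LK LD1_c0 LD2_c37 LD3_c30) Lrfl Lrfl
theorem f413478 : Led Lsl_et (LP (LK LD1_c2 LD2_c50 LD3_c31)) = (LP (LK LD1_c1 LD2_c21 LD3_c15)) :=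
  Lre_e IH (LK LD1_c2 LD2_c50 LD3_c31) (LK LD1_c1 LD2_c21 LD3_c15) Lrfl Lrfl
theorem f413479 : Led Lsl_dt (LP (LK LD1_c2 LD2_c50 LD3_c31)) = (LP (LK LD1_c5 LD2_c48 LD3_c59)) :=
  Lre_d IH (LK LD1_c2 LD2_c50 LD3_c31) (LK LD1_c5 LD2_c48 LD3_c59) Lrfl Lrfl
theorem f413480 : Led Lsl_gt (LP (LK LD1_c3 LD2_c2 LD3_c49)) = (LP (LK LD1_c5 LD2_c48 LD3_c59)) :=
  Lgr Lrot139 (Lpe (f413465 IH) (Lpr_gf (K16.f413459 IH) (Lpe (K2.f61277 IH) (Lpr_dt (K6.f60919 IH) (Lpe (K1.f20555 IH) (Lpe (K1.f20266 IH) (Lpr_et (f56660 IH) (Lpe (f57152 IH) (Lpe (f413478 IH) (Lpr_dt (f413479 IH) (Lpn (LP (LK LD1_c5 LD2_c48 LD3_c59)))))))))))))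
theorem f413515 : Led Lsl_ct (LP (LK LD1_c5 LD2_c48 LD3_c59)) = (LP (LK LD1_c11 LD2_c27 LD3_c20)) :=
  Lre_c IH (LK LD1_c5 LD2_c48 LD3_c59) (LK LD1_c11 LD2_c27 LD3_c20) Lrfl Lrfl
theorem f413516 : Led Lsl_gf (LP (LK LD1_c9 LD2_c17 LD3_c24)) = (LP (LK LD1_c11 LD2_c27 LD3_c20)) :=
  Lgr Lrot104 (Lpr_ct (f61045 IH) (Lpe (f27045 IH) (Lpr_cf (K17.f61043 IH) (Lpe (K9.f67028 IH) (Lpr_cf (K2.f73765 IH) (Lpe (K16.f413463 IH) (Lpe (f413482 IH) (Lpr_gt (f413480 IH) (Lpr_ct (f413515 IH) (Lpn (LP (LK LD1_c11 LD2_c27 LD3_c20))))))))))))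
theorem f180324 : Led Lsl_gt (LP (LK LD1_c3 LD2_c20 LD3_c49)) = (LP (LK LD1_c6 LD2_c45 LD3_c30)) :=
  Lre_g IH (LK LD1_c3 LD2_c20 LD3_c49) (LK LD1_c6 LD2_c45 LD3_c30) Lrfl Lrfl
theorem f413523 : Led Lsl_dt (LP (LK LD1_c6 LD2_c45 LD3_c30)) = (LP (LK LD1_c11 LD2_c27 LD3_c20)) :=
  Lgr Lrot57 (Lpe (f180324 IH) (Lpe (f140049 IH) (Lpr_gt (f180323 IH) (Lpr_dt (K17.f180322 IH) (Lpr_gt (K17.f180315 IH) (Lpr_dt (K17.f73938 IH) (Lpe (f22874 IH) (Lpe (f141063 IH) (Lpr_gf (f413516 IH) (Lpn (LP (LK LD1_c11 LD2_c27 LD3_c20))))))))))))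
theorem f416744 : Led Lsl_gf (LP (LK LD1_c3 LD2_c20 LD3_c58)) = (LP (LK LD1_c6 LD2_c45 LD3_c30)) :=
  Lgr Lrot147 (Lpr_ct (f414504 IH) (Lpr_gt (f415141 IH) (Lpr_ct (f415139 IH) (Lpe (f415138 IH) (Lpr_cf (f416741 IH) (Lpe (f416612 IH) (Lpe (f61045 IH) (Lpr_gf (f413516 IH) (Lpe (f413523 IH) (Lpn (LP (LK LD1_c6 LD2_c45 LD3_c30))))))))))))
theorem f185973 : Led Lsl_dt (LP (LK LD1_c1 LD2_c36 LD3_c46)) = (LP (LK LD1_c0 LD2_c44 LD3_c49)) :=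
  Lre_d IH (LK LD1_c1 LD2_c36 LD3_c46) (LK LD1_c0 LD2_c44 LD3_c49) Lrfl Lrfl
theorem f413681 : Led Lsl_gt (LP (LK LD1_c2 LD2_c22 LD3_c40)) = (LP (LK LD1_c4 LD2_c49 LD3_c51)) :=
  Lre_g IH (LK LD1_c2 LD2_c22 LD3_c40) (LK LD1_c4 LD2_c49 LD3_c51) Lrfl Lrfl
theorem f416746 : Led Lsl_ct (LP (LK LD1_c4 LD2_c49 LD3_c51)) = (LP (LK LD1_c6 LD2_c45 LD3_c30)) :=
  Lgr Lrot152 (Lpe (f413681 IH) (Lpe (f413680 IH) (Lpr_gt (K16.f413656 IH) (Lpr_ct (K16.f413657 IH) (Lpr_gt (K9.f13573 IH) (Lpr_ct (K17.f414502 IH) (Lpe (f185973 IH) (Lpe (f414504 IH) (Lpr_gf (f416744 IH) (Lpn (LP (LK LD1_c6 LD2_c45 LD3_c30))))))))))))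
theorem f27128 : Led Lsl_dt (LP (LK LD1_c2 LD2_c22 LD3_c27)) = (LP (LK LD1_c1 LD2_c8 LD3_c21)) :=
  Lre_d IH (LK LD1_c2 LD2_c22 LD3_c27) (LK LD1_c1 LD2_c8 LD3_c21) Lrfl Lrfl
theorem f77037 : Led Lsl_gt (LP (LK LD1_c4 LD2_c49 LD3_c18)) = (LP (LK LD1_c2 LD2_c22 LD3_c27)) :=
  Lre_g IH (LK LD1_c4 LD2_c49 LD3_c18) (LK LD1_c2 LD2_c22 LD3_c27) Lrfl Lrfl
theorem f414416 : Led Lsl_ct (LP (LK LD1_c4 LD2_c49 LD3_c18)) = (LP (LK LD1_c9 LD2_c31 LD3_c23)) :=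
  Lre_c IH (LK LD1_c4 LD2_c49 LD3_c18) (LK LD1_c9 LD2_c31 LD3_c23) Lrfl Lrfl
theorem f414964 : Led Lsl_gt (LP (LK LD1_c9 LD2_c31 LD3_c23)) = (LP (LK LD1_c4 LD2_c49 LD3_c53)) :=
  Lgr Lrot94 (Lpe (f414416 IH) (Lpr_gt (f77037 IH) (Lpr_dt (f27128 IH) (Lpr_gt (K0.f27113 IH) (Lpr_dt (K0.f27112 IH) (Lpe (K17.f73943 IH) (Lpe (f22871 IH) (Lpe (K17.f414360 IH) (Lpr_df (f414930 IH) (Lpn (LP (LK LD1_c4 LD2_c49 LD3_c53))))))))))))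
theorem f416481 : Led Lsl_dt (LP (LK LD1_c6 LD2_c12 LD3_c31)) = (LP (LK LD1_c3 LD2_c21 LD3_c8)) :=
  Lgr Lrot42 (Lpr_df (f416473 IH) (Lpn (LP (LK LD1_c3 LD2_c21 LD3_c8))))
theorem f75911 : Led Lsl_ct (LP (LK LD1_c4 LD2_c41 LD3_c0)) = (LP (LK LD1_c3 LD2_c21 LD3_c10)) :=
  Lre_c IH (LK LD1_c4 LD2_c41 LD3_c0) (LK LD1_c3 LD2_c21 LD3_c10) Lrfl Lrfl
theorem f59829 : Led Lsl_gt (LP (LK LD1_c6 LD2_c12 LD3_c3)) = (LP (LK LD1_c3 LD2_c2 LD3_c35)) :=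
  Lre_g IH (LK LD1_c6 LD2_c12 LD3_c3) (LK LD1_c3 LD2_c2 LD3_c35) Lrfl Lrfl
theorem f414741 : Led Lsl_ct (LP (LK LD1_c12 LD2_c3 LD3_c51)) = (LP (LK LD1_c6 LD2_c12 LD3_c3)) :=
  Lre_c IH (LK LD1_c12 LD2_c3 LD3_c51) (LK LD1_c6 LD2_c12 LD3_c3) Lrfl Lrfl
theorem f416492 : Led Lsl_gf (LP (LK LD1_c6 LD2_c12 LD3_c31)) = (LP (LK LD1_c12 LD2_c3 LD3_c51)) :=
  Lgr Lrot144 (Lpr_dt (f416481 IH) (Lpr_gt (K17.f75908 IH) (Lpr_dt (K10.f9180 IH) (Lpe (f75911 IH) (Lpe (K0.f27116 IH) (Lpe (K1.f27146 IH) (Lpe (K17.f59846 IH) (Lpe (f59829 IH) (Lpe (f414741 IH) (Lpn (LP (LK LD1_c12 LD2_c3 LD3_c51))))))))))))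
theorem f416778 : Led Lsl_df (LP (LK LD1_c9 LD2_c31 LD3_c23)) = (LP (LK LD1_c12 LD2_c3 LD3_c51)) :=
  Lgr Lrot155 (Lpr_gt (f414964 IH) (Lpr_ct (f414328 IH) (Lpr_gt (f413681 IH) (Lpr_ct (f416746 IH) (Lpr_dt (f413523 IH) (Lpe (f413515 IH) (Lpe (f413480 IH) (Lpe (f413467 IH) (Lpr_gf (f416492 IH) (Lpn (LP (LK LD1_c12 LD2_c3 LD3_c51))))))))))))
theorem f23212 : Led Lsl_gt (LP (LK LD1_c3 LD2_c21 LD3_c31)) = (LP (LK LD1_c1 LD2_c36 LD3_c60)) :=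
  Lre_g IH (LK LD1_c3 LD2_c21 LD3_c31) (LK LD1_c1 LD2_c36 LD3_c60) Lrfl Lrfl
theorem f23081 : Led Lsl_ct (LP (LK LD1_c4 LD2_c49 LD3_c40)) = (LP (LK LD1_c2 LD2_c22 LD3_c35)) :=
  Lre_c IH (LK LD1_c4 LD2_c49 LD3_c40) (LK LD1_c2 LD2_c22 LD3_c35) Lrfl Lrfl
theorem f414742 : Led Lsl_gt (LP (LK LD1_c6 LD2_c12 LD3_c42)) = (LP (LK LD1_c12 LD2_c3 LD3_c51)) :=
  Lgr Lrot9 (Lpe (K16.f413439 IH) (Lpr_gt (K16.f60007 IH) (Lpr_ct (f23081 IH) (Lpr_gt (K0.f22941 IH) (Lpr_ct (K17.f22948 IH) (Lpr_df (f414736 IH) (Lpe (f59836 IH) (Lpe (f59829 IH) (Lpe (f414741 IH) (Lpn (LP (LK LD1_c12 LD2_c3 LD3_c51))))))))))))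
theorem f59849 : Led Lsl_ct (LP (LK LD1_c3 LD2_c2 LD3_c61)) = (LP (LK LD1_c6 LD2_c12 LD3_c42)) :=
  Lre_c IH (LK LD1_c3 LD2_c2 LD3_c61) (LK LD1_c6 LD2_c12 LD3_c42) Lrfl Lrfl
theorem f416783 : Led Lsl_df (LP (LK LD1_c3 LD2_c21 LD3_c31)) = (LP (LK LD1_c6 LD2_c12 LD3_c30)) :=
  Lgr Lrot153 (Lpr_gt (f23212 IH) (Lpr_dt (K16.f413623 IH) (Lpe (K17.f23199 IH) (Lpr_df (f414930 IH) (Lpe (f414964 IH) (Lpr_df (f416778 IH) (Lpe (f414742 IH) (Lpe (f59849 IH) (Lpr_gt (f413974 IH) (Lpn (LP (LK LD1_c6 LD2_c12 LD3_c30))))))))))))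
theorem f416483 : Led Lsl_gt (LP (LK LD1_c6 LD2_c12 LD3_c31)) = (LP (LK LD1_c11 LD2_c48 LD3_c45)) :=
  Lgr Lrot9 (Lpr_df (f416473 IH) (Lpr_gt (K17.f75908 IH) (Lpr_ct (K17.f413442 IH) (Lpr_gt (K17.f140978 IH) (Lpr_ct (K17.f140979 IH) (Lpe (f414729 IH) (Lpe (K17.f141020 IH) (Lpr_gf (K16.f413430 IH) (Lpe (K16.f59857 IH) (Lpn (LP (LK LD1_c11 LD2_c48 LD3_c45))))))))))))
theorem f415418 : Led Lsl_ct (LP (LK LD1_c1 LD2_c36 LD3_c27)) = (LP (LK LD1_c2 LD2_c57 LD3_c9)) :=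
  Lgr Lrot7 (Lpr_df (K16.f415415 IH) (Lpe (K16.f59835 IH) (Lpe (K16.f59834 IH) (Lpe (K16.f59833 IH) (Lpe (K17.f27139 IH) (Lpr_gt (K1.f59815 IH) (Lpr_dt (K16.f59826 IH) (Lpe (K16.f59827 IH) (Lpr_dt (K16.f59830 IH) (Lpn (LP (LK LD1_c2 LD2_c57 LD3_c9))))))))))))
theorem f416790 : Led Lsl_gt (LP (LK LD1_c0 LD2_c44 LD3_c55)) = (LP (LK LD1_c1 LD2_c36 LD3_c27)) :=
  Lgr Lrot150 (Lpe (K16.f23197 IH) (Lpe (f23212 IH) (Lpr_df (f416783 IH) (Lpr_gt (f413513 IH) (Lpr_ct (f413466 IH) (Lpr_gt (f416483 IH) (Lpr_ct (K16.f59857 IH) (Lpe (K16.f59825 IH) (Lpe (f415418 IH) (Lpn (LP (LK LD1_c1 LD2_c36 LD3_c27))))))))))))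
theorem f23203 : Led Lsl_et (LP (LK LD1_c0 LD2_c19 LD3_c55)) = (LP (LK LD1_c0 LD2_c44 LD3_c55)) :=
  Lre_e IH (LK LD1_c0 LD2_c19 LD3_c55) (LK LD1_c0 LD2_c44 LD3_c55) Lrfl Lrfl
theorem f413642 : Led Lsl_ct (LP (LK LD1_c0 LD2_c44 LD3_c55)) = (LP (LK LD1_c1 LD2_c36 LD3_c60)) :=
  Lre_c IH (LK LD1_c0 LD2_c44 LD3_c55) (LK LD1_c1 LD2_c36 LD3_c60) Lrfl Lrfl
theorem f413519 : Led Lsl_ct (LP (LK LD1_c11 LD2_c27 LD3_c20)) = (LP (LK LD1_c5 LD2_c48 LD3_c59)) :=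
  Lre_c IH (LK LD1_c11 LD2_c27 LD3_c20) (LK LD1_c5 LD2_c48 LD3_c59) Lrfl Lrfl
theorem f414708 : Led Lsl_gt (LP (LK LD1_c1 LD2_c36 LD3_c60)) = (LP (LK LD1_c2 LD2_c50 LD3_c31)) :=
  Lgr Lrot189 (Lpe (K16.f23198 IH) (Lpr_gf (K16.f413636 IH) (Lpr_ct (K2.f73683 IH) (Lpr_gt (K17.f414702 IH) (Lpe (f414706 IH) (Lpr_gt (f180324 IH) (Lpr_dt (f413523 IH) (Lpr_ct (f413519 IH) (Lpe (f413479 IH) (Lpn (LP (LK LD1_c2 LD2_c50 LD3_c31))))))))))))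
theorem f414154 : Led Lsl_gt (LP (LK LD1_c5 LD2_c48 LD3_c59)) = (LP (LK LD1_c3 LD2_c2 LD3_c61)) :=
  Lgr Lrot94 (Lpe (f413519 IH) (Lpe (f413516 IH) (Lpr_dt (f141063 IH) (Lpr_gt (f414152 IH) (Lpr_dt (f413951 IH) (Lpe (K17.f61600 IH) (Lpe (K16.f61287 IH) (Lpe (K9.f139920 IH) (Lpe (K16.f59840 IH) (Lpn (LP (LK LD1_c3 LD2_c2 LD3_c61))))))))))))
theorem f22959 : Led Lsl_dt (LP (LK LD1_c1 LD2_c27 LD3_c25)) = (LP (LK LD1_c0 LD2_c40 LD3_c26)) :=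
  Lre_d IH (LK LD1_c1 LD2_c27 LD3_c25) (LK LD1_c0 LD2_c40 LD3_c26) Lrfl Lrfl
theorem f416793 : Led Lsl_gf (LP (LK LD1_c1 LD2_c27 LD3_c25)) = (LP (LK LD1_c3 LD2_c2 LD3_c51)) :=
  Lgr Lrot143 (Lpr_dt (f22959 IH) (Lpe (K16.f139924 IH) (Lpe (K16.f59840 IH) (Lpe (f414154 IH) (Lpe (f413479 IH) (Lpe (f414708 IH) (Lpe (f413642 IH) (Lpr_gt (f416790 IH) (Lpr_dt (K16.f415413 IH) (Lpn (LP (LK LD1_c3 LD2_c2 LD3_c51))))))))))))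
theorem f416800 : Led Lsl_et (LP (LK LD1_c0 LD2_c40 LD3_c26)) = (LP (LK LD1_c1 LD2_c27 LD3_c26)) :=
  Lre_e IH (LK LD1_c0 LD2_c40 LD3_c26) (LK LD1_c1 LD2_c27 LD3_c26) Lrfl Lrfl
theorem f24636 : Led Lsl_gt (LP (LK LD1_c1 LD2_c27 LD3_c26)) = (LP (LK LD1_c3 LD2_c3 LD3_c2)) :=
  Lre_g IH (LK LD1_c1 LD2_c27 LD3_c26) (LK LD1_c3 LD2_c3 LD3_c2) Lrfl Lrfl
theorem f416801 : Led Lsl_et (LP (LK LD1_c3 LD2_c21 LD3_c35)) = (LP (LK LD1_c3 LD2_c3 LD3_c2)) :=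
  Lgr Lrot122 (Lpr_dt (f416652 IH) (Lpr_gt (f415342 IH) (Lpe (K16.f139925 IH) (Lpr_et (f23203 IH) (Lpr_gt (f416790 IH) (Lpr_dt (K16.f415413 IH) (Lpe (f416793 IH) (Lpe (K16.f141012 IH) (Lpr_et (f416800 IH) (Lpr_gt (f24636 IH) (Lpn (LP (LK LD1_c3 LD2_c3 LD3_c2)))))))))))))
theorem f23279 : Led Lsl_gt (LP (LK LD1_c1 LD2_c8 LD3_c14)) = (LP (LK LD1_c0 LD2_c31 LD3_c15)) :=
  Lre_g IH (LK LD1_c1 LD2_c8 LD3_c14) (LK LD1_c0 LD2_c31 LD3_c15) Lrfl Lrfl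
theorem f416666 : Led Lsl_ef (LP (LK LD1_c1 LD2_c8 LD3_c14)) = (LP (LK LD1_c1 LD2_c37 LD3_c0)) :=
  Lgr Lrot114 (Lpr_gt (f23279 IH) (Lpe (K5.f23278 IH) (Lpe (K0.f23265 IH) (Lpr_gt (K0.f20956 IH) (Lpe (K0.f13632 IH) (Lpr_et (K0.f23264 IH) (Lpr_gt (K0.f23263 IH) (Lpr_dt (K17.f23277 IH) (Lpr_gt (f416653 IH) (Lpe (f416665 IH) (Lpn (LP (LK LD1_c1 LD2_c37 LD3_c0)))))))))))))
theorem f416669 : Led Lsl_et (LP (LK LD1_c1 LD2_c8 LD3_c14)) = (LP (LK LD1_c1 LD2_c37 LD3_c0)) :=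
  Lgr Lrot87 (Lpr_ef (f416666 IH) (Lpn (LP (LK LD1_c1 LD2_c37 LD3_c0))))
theorem f84346 : Led Lsl_dt (LP (LK LD1_c2 LD2_c22 LD3_c10)) = (LP (LK LD1_c1 LD2_c8 LD3_c14)) :=
  Lre_d IH (LK LD1_c2 LD2_c22 LD3_c10) (LK LD1_c1 LD2_c8 LD3_c14) Lrfl Lrfl
theorem f20098 : Led Lsl_et (LP (LK LD1_c0 LD2_c18 LD3_c7)) = (LP (LK LD1_c0 LD2_c8 LD3_c7)) :=
  Lre_e IH (LK LD1_c0 LD2_c18 LD3_c7) (LK LD1_c0 LD2_c8 LD3_c7) Lrfl Lrfl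
theorem f135496 : Led Lsl_gf (LP (LK LD1_c1 LD2_c6 LD3_c21)) = (LP (LK LD1_c0 LD2_c45 LD3_c3)) :=
  Lgr Lrot145 (Lpe (K7.f25801 IH) (Lpr_et (K7.f86067 IH) (Lpe (K7.f135488 IH) (Lpr_dt (K7.f20088 IH) (Lpr_gt (K6.f135484 IH) (Lpe (K0.f7465 IH) (Lpr_et (f20098 IH) (Lpe (K0.f20952 IH) (Lpe (K3.f84326 IH) (Lpr_dt (K6.f25743 IH) (Lpn (LP (LK LD1_c0 LD2_c45 LD3_c3)))))))))))))
theorem f20124 : Led Lsl_gt (LP (LK LD1_c1 LD2_c8 LD3_c8)) = (LP (LK LD1_c2 LD2_c21 LD3_c58)) :=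
  Lre_g IH (LK LD1_c1 LD2_c8 LD3_c8) (LK LD1_c2 LD2_c21 LD3_c58) Lrfl Lrfl
theorem f135519 : Led Lsl_ef (LP (LK LD1_c2 LD2_c21 LD3_c58)) = (LP (LK LD1_c2 LD2_c22 LD3_c10)) :=
  Lgr Lrot17 (Lpe (f20124 IH) (Lpe (K6.f113142 IH) (Lpr_dt (K6.f20908 IH) (Lpr_gf (K7.f135488 IH) (Lpe (K7.f25811 IH) (Lpr_gf (f135496 IH) (Lpr_ef (K5.f84335 IH) (Lpr_dt (K6.f23271 IH) (Lpe (f23279 IH) (Lpe (f84346 IH) (Lpn (LP (LK LD1_c2 LD2_c22 LD3_c10)))))))))))))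
theorem f135527 : Led Lsl_et (LP (LK LD1_c2 LD2_c21 LD3_c58)) = (LP (LK LD1_c2 LD2_c22 LD3_c10)) :=
  Lgr Lrot87 (Lpr_ef (f135519 IH) (Lpn (LP (LK LD1_c2 LD2_c22 LD3_c10))))
theorem f416803 : Led Lsl_df (LP (LK LD1_c2 LD2_c21 LD3_c58)) = (LP (LK LD1_c3 LD2_c3 LD3_c2)) :=
  Lgr Lrot70 (Lpr_et (f135527 IH) (Lpr_dt (f84346 IH) (Lpr_et (f416669 IH) (Lpr_dt (f416665 IH) (Lpr_et (f416801 IH) (Lpn (LP (LK LD1_c3 LD2_c3 LD3_c2))))))))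
theorem f92161 : Led Lsl_ft (LP (LK LD1_c1 LD2_c8 LD3_c8)) = (LP (LK LD1_c2 LD2_c21 LD3_c61)) :=
  Lre_f IH (LK LD1_c1 LD2_c8 LD3_c8) (LK LD1_c2 LD2_c21 LD3_c61) Lrfl Lrfl
theorem f146011 : Led Lsl_gf (LP (LK LD1_c1 LD2_c36 LD3_c14)) = (LP (LK LD1_c2 LD2_c21 LD3_c58)) :=
  Lgr Lrot76 (Lpr_af (K6.f146007 IH) (Lpe (f92161 IH) (Lpr_gt (f20124 IH) (Lpn (LP (LK LD1_c2 LD2_c21 LD3_c58))))))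
theorem f416812 : Led Lsl_gt (LP (LK LD1_c1 LD2_c8 LD3_c16)) = (LP (LK LD1_c0 LD2_c44 LD3_c41)) :=
  Lgr Lrot131 (Lpe (K6.f146053 IH) (Lpr_dt (K6.f135703 IH) (Lpr_gf (f146011 IH) (Lpr_df (f416803 IH) (Lpe (f24636 IH) (Lpe (f416800 IH) (Lpr_dt (K16.f141012 IH) (Lpr_gf (f416793 IH) (Lpe (K16.f415413 IH) (Lpr_et (K16.f415412 IH) (Lpn (LP (LK LD1_c0 LD2_c44 LD3_c41)))))))))))))
theorem f135415 : Led Lsl_gt (LP (LK LD1_c1 LD2_c36 LD3_c28)) = (LP (LK LD1_c2 LD2_c22 LD3_c14)) :=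
  Lgr Lrot46 (Lpe (K16.f62598 IH) (Lpr_ft (K6.f57127 IH) (Lpr_at (K6.f135408 IH) (Lpn (LP (LK LD1_c2 LD2_c22 LD3_c14))))))
theorem f435289 : Led Lsl_ct (LP (LK LD1_c3 LD2_c11 LD3_c32)) = (LP (LK LD1_c1 LD2_c36 LD3_c28)) :=
  Lgr Lrot8 (Lpr_gt (K16.f435287 IH) (Lpr_dt (K16.f150516 IH) (Lpe (K17.f154549 IH) (Lpe (K17.f415469 IH) (Lpe (K17.f415439 IH) (Lpe (K17.f57141 IH) (Lpe (f416812 IH) (Lpe (K6.f135392 IH) (Lpe (f135415 IH) (Lpn (LP (LK LD1_c1 LD2_c36 LD3_c28))))))))))))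
theorem f69104 : Led Lsl_ct (LP (LK LD1_c0 LD2_c42 LD3_c37)) = (LP (LK LD1_c1 LD2_c32 LD3_c8)) :=
  Lre_c IH (LK LD1_c0 LD2_c42 LD3_c37) (LK LD1_c1 LD2_c32 LD3_c8) Lrfl Lrfl
theorem f445956 : Led Lsl_gf (LP (LK LD1_c3 LD2_c12 LD3_c56)) = (LP (LK LD1_c1 LD2_c32 LD3_c60)) :=
  Lgr Lrot147 (Lpr_ct (K11.f445904 IH) (Lpe (K16.f421007 IH) (Lpe (K16.f415430 IH) (Lpe (K16.f62599 IH) (Lpe (f435289 IH) (Lpe (K16.f79756 IH) (Lpe (f69104 IH) (Lpe (K11.f69072 IH) (Lpe (K11.f79728 IH) (Lpn (LP (LK LD1_c1 LD2_c32 LD3_c60))))))))))))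
theorem f82866 : Led Lsl_dt (LP (LK LD1_c1 LD2_c6 LD3_c17)) = (LP (LK LD1_c0 LD2_c30 LD3_c17)) :=
  Lre_d IH (LK LD1_c1 LD2_c6 LD3_c17) (LK LD1_c0 LD2_c30 LD3_c17) Lrfl Lrfl
theorem f152189 : Led Lsl_et (LP (LK LD1_c1 LD2_c6 LD3_c17)) = (LP (LK LD1_c2 LD2_c18 LD3_c33)) :=
  Lre_e IH (LK LD1_c1 LD2_c6 LD3_c17) (LK LD1_c2 LD2_c18 LD3_c33) Lrfl Lrfl
theorem f152209 : Led Lsl_gt (LP (LK LD1_c2 LD2_c18 LD3_c33)) = (LP (LK LD1_c4 LD2_c42 LD3_c22)) :=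
  Lre_g IH (LK LD1_c2 LD2_c18 LD3_c33) (LK LD1_c4 LD2_c42 LD3_c22) Lrfl Lrfl
theorem f104657 : Led Lsl_dt (LP (LK LD1_c0 LD2_c41 LD3_c56)) = (LP (LK LD1_c0 LD2_c18 LD3_c43)) :=
  Lre_d IH (LK LD1_c0 LD2_c41 LD3_c56) (LK LD1_c0 LD2_c18 LD3_c43) Lrfl Lrfl
theorem f68065 : Led Lsl_et (LP (LK LD1_c1 LD2_c32 LD3_c14)) = (LP (LK LD1_c0 LD2_c42 LD3_c40)) :=
  Lre_e IH (LK LD1_c1 LD2_c32 LD3_c14) (LK LD1_c0 LD2_c42 LD3_c40) Lrfl Lrfl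
theorem f59494 : Led Lsl_dt (LP (LK LD1_c3 LD2_c12 LD3_c55)) = (LP (LK LD1_c1 LD2_c32 LD3_c55)) :=
  Lre_d IH (LK LD1_c3 LD2_c12 LD3_c55) (LK LD1_c1 LD2_c32 LD3_c55) Lrfl Lrfl
theorem f435258 : Led Lsl_ef (LP (LK LD1_c4 LD2_c42 LD3_c22)) = (LP (LK LD1_c3 LD2_c12 LD3_c55)) :=
  Lgr Lrot17 (Lpe (f152209 IH) (Lpe (f152189 IH) (Lpr_dt (f82866 IH) (Lpr_gf (K7.f154081 IH) (Lpe (f104657 IH) (Lpr_gf (K7.f152766 IH) (Lpe (f68065 IH) (Lpe (K2.f68231 IH) (Lpe (K11.f59482 IH) (Lpe (f59494 IH) (Lpn (LP (LK LD1_c3 LD2_c12 LD3_c55)))))))))))))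
theorem f152259 : Led Lsl_dt (LP (LK LD1_c4 LD2_c42 LD3_c22)) = (LP (LK LD1_c9 LD2_c19 LD3_c4)) :=
  Lre_d IH (LK LD1_c4 LD2_c42 LD3_c22) (LK LD1_c9 LD2_c19 LD3_c4) Lrfl Lrfl
theorem f59497 : Led Lsl_dt (LP (LK LD1_c1 LD2_c32 LD3_c55)) = (LP (LK LD1_c3 LD2_c12 LD3_c55)) :=
  Lre_d IH (LK LD1_c1 LD2_c32 LD3_c55) (LK LD1_c3 LD2_c12 LD3_c55) Lrfl Lrfl
theorem f435261 : Led Lsl_et (LP (LK LD1_c9 LD2_c19 LD3_c4)) = (LP (LK LD1_c4 LD2_c43 LD3_c27)) :=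
  Lgr Lrot71 (Lpe (f152259 IH) (Lpr_ef (f435258 IH) (Lpe (f59497 IH) (Lpe (K11.f59483 IH) (Lpe (K11.f59491 IH) (Lpn (LP (LK LD1_c4 LD2_c43 LD3_c27))))))))
theorem f152210 : Led Lsl_dt (LP (LK LD1_c9 LD2_c19 LD3_c4)) = (LP (LK LD1_c4 LD2_c42 LD3_c22)) :=
  Lre_d IH (LK LD1_c9 LD2_c19 LD3_c4) (LK LD1_c4 LD2_c42 LD3_c22) Lrfl Lrfl
theorem f152188 : Led Lsl_et (LP (LK LD1_c2 LD2_c18 LD3_c33)) = (LP (LK LD1_c1 LD2_c6 LD3_c17)) :=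
  Lre_e IH (LK LD1_c2 LD2_c18 LD3_c33) (LK LD1_c1 LD2_c6 LD3_c17) Lrfl Lrfl
theorem f152190 : Led Lsl_df (LP (LK LD1_c2 LD2_c18 LD3_c33)) = (LP (LK LD1_c2 LD2_c18 LD3_c33)) :=
  Lgr Lrot70 (Lpr_et (f152188 IH) (Lpr_dt (f82866 IH) (Lpr_et (K7.f152184 IH) (Lpr_dt (K7.f82864 IH) (Lpr_et (f152189 IH) (Lpn (LP (LK LD1_c2 LD2_c18 LD3_c33))))))))
theorem f61268 : Led Lsl_et (LP (LK LD1_c1 LD2_c6 LD3_c53)) = (LP (LK LD1_c0 LD2_c30 LD3_c36)) :=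
  Lre_e IH (LK LD1_c1 LD2_c6 LD3_c53) (LK LD1_c0 LD2_c30 LD3_c36) Lrfl Lrfl
theorem f26283 : Led Lsl_dt (LP (LK LD1_c1 LD2_c6 LD3_c53)) = (LP (LK LD1_c0 LD2_c30 LD3_c35)) :=
  Lre_d IH (LK LD1_c1 LD2_c6 LD3_c53) (LK LD1_c0 LD2_c30 LD3_c35) Lrfl Lrfl
theorem f61254 : Led Lsl_gt (LP (LK LD1_c1 LD2_c6 LD3_c52)) = (LP (LK LD1_c0 LD2_c30 LD3_c35)) :=
  Lre_g IH (LK LD1_c1 LD2_c6 LD3_c52) (LK LD1_c0 LD2_c30 LD3_c35) Lrfl Lrfl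
theorem f152206 : Led Lsl_dt (LP (LK LD1_c2 LD2_c19 LD3_c30)) = (LP (LK LD1_c1 LD2_c6 LD3_c52)) :=
  Lre_d IH (LK LD1_c2 LD2_c19 LD3_c30) (LK LD1_c1 LD2_c6 LD3_c52) Lrfl Lrfl
theorem f435268 : Led Lsl_gf (LP (LK LD1_c2 LD2_c19 LD3_c30)) = (LP (LK LD1_c4 LD2_c43 LD3_c27)) :=
  Lgr Lrot138 (Lpr_dt (f152206 IH) (Lpr_gt (f61254 IH) (Lpe (f26283 IH) (Lpr_et (f61268 IH) (Lpe (K7.f152192 IH) (Lpe (f152188 IH) (Lpe (f152190 IH) (Lpr_gt (f152209 IH) (Lpe (f152210 IH) (Lpr_et (f435261 IH) (Lpn (LP (LK LD1_c4 LD2_c43 LD3_c27)))))))))))))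
theorem f152216 : Led Lsl_dt (LP (LK LD1_c1 LD2_c6 LD3_c52)) = (LP (LK LD1_c2 LD2_c19 LD3_c30)) :=
  Lre_d IH (LK LD1_c1 LD2_c6 LD3_c52) (LK LD1_c2 LD2_c19 LD3_c30) Lrfl Lrfl
theorem f152224 : Led Lsl_et (LP (LK LD1_c1 LD2_c6 LD3_c52)) = (LP (LK LD1_c2 LD2_c19 LD3_c31)) :=
  Lre_e IH (LK LD1_c1 LD2_c6 LD3_c52) (LK LD1_c2 LD2_c19 LD3_c31) Lrfl Lrfl
theorem f135694 : Led Lsl_af (LP (LK LD1_c4 LD2_c48 LD3_c11)) = (LP (LK LD1_c3 LD2_c19 LD3_c40)) :=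
  Lgr Lrot0 (Lpr_at (K6.f135677 IH) (Lpn (LP (LK LD1_c3 LD2_c19 LD3_c40))))
theorem f24705 : Led Lsl_ft (LP (LK LD1_c1 LD2_c36 LD3_c13)) = (LP (LK LD1_c3 LD2_c19 LD3_c40)) :=
  Lre_f IH (LK LD1_c1 LD2_c36 LD3_c13) (LK LD1_c3 LD2_c19 LD3_c40) Lrfl Lrfl
theorem f24707 : Led Lsl_gt (LP (LK LD1_c1 LD2_c36 LD3_c13)) = (LP (LK LD1_c3 LD2_c19 LD3_c36)) :=
  Lre_g IH (LK LD1_c1 LD2_c36 LD3_c13) (LK LD1_c3 LD2_c19 LD3_c36) Lrfl Lrfl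
theorem f438291 : Led Lsl_gf (LP (LK LD1_c4 LD2_c48 LD3_c11)) = (LP (LK LD1_c3 LD2_c19 LD3_c36)) :=
  Lgr Lrot76 (Lpr_af (f135694 IH) (Lpe (f24705 IH) (Lpr_gt (f24707 IH) (Lpn (LP (LK LD1_c3 LD2_c19 LD3_c36))))))
theorem f92116 : Led Lsl_ct (LP (LK LD1_c2 LD2_c14 LD3_c17)) = (LP (LK LD1_c1 LD2_c8 LD3_c9)) :=
  Lgr Lrot59 (Lpr_cf (K6.f92110 IH) (Lpn (LP (LK LD1_c1 LD2_c8 LD3_c9))))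
theorem f146028 : Led Lsl_at (LP (LK LD1_c1 LD2_c21 LD3_c48)) = (LP (LK LD1_c2 LD2_c14 LD3_c17)) :=
  Lgr Lrot100 (Lpr_af (K6.f146017 IH) (Lpn (LP (LK LD1_c2 LD2_c14 LD3_c17))))
theorem f146042 : Led Lsl_gt (LP (LK LD1_c1 LD2_c21 LD3_c46)) = (LP (LK LD1_c2 LD2_c14 LD3_c17)) :=
  Lgr Lrot46 (Lpe (K9.f139883 IH) (Lpr_ft (K6.f139852 IH) (Lpr_at (f146028 IH) (Lpn (LP (LK LD1_c2 LD2_c14 LD3_c17))))))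
theorem f151897 : Led Lsl_af (LP (LK LD1_c1 LD2_c4 LD3_c25)) = (LP (LK LD1_c0 LD2_c38 LD3_c10)) :=
  Lgr Lrot0 (Lpr_at (K7.f151894 IH) (Lpn (LP (LK LD1_c0 LD2_c38 LD3_c10))))
theorem f140234 : Led Lsl_gf (LP (LK LD1_c1 LD2_c24 LD3_c30)) = (LP (LK LD1_c0 LD2_c41 LD3_c45)) :=
  Lgr Lrot47 (Lpr_gt (K9.f140231 IH) (Lpe (K9.f77348 IH) (Lpe (K9.f77347 IH) (Lpn (LP (LK LD1_c0 LD2_c41 LD3_c45))))))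
theorem f140244 : Led Lsl_dt (LP (LK LD1_c1 LD2_c24 LD3_c30)) = (LP (LK LD1_c2 LD2_c57 LD3_c34)) :=
  Lre_d IH (LK LD1_c1 LD2_c24 LD3_c30) (LK LD1_c2 LD2_c57 LD3_c34) Lrfl Lrfl
theorem f58924 : Led Lsl_et (LP (LK LD1_c0 LD2_c18 LD3_c38)) = (LP (LK LD1_c0 LD2_c41 LD3_c45)) :=
  Lre_e IH (LK LD1_c0 LD2_c18 LD3_c38) (LK LD1_c0 LD2_c41 LD3_c45) Lrfl Lrfl
theorem f58922 : Led Lsl_df (LP (LK LD1_c0 LD2_c8 LD3_c34)) = (LP (LK LD1_c0 LD2_c18 LD3_c38)) :=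
  Lgr Lrot38 (Lpr_dt (K1.f58912 IH) (Lpn (LP (LK LD1_c0 LD2_c18 LD3_c38))))
theorem f82689 : Led Lsl_et (LP (LK LD1_c1 LD2_c33 LD3_c2)) = (LP (LK LD1_c0 LD2_c43 LD3_c1)) :=
  Lre_e IH (LK LD1_c1 LD2_c33 LD3_c2) (LK LD1_c0 LD2_c43 LD3_c1) Lrfl Lrfl
theorem f82690 : Led Lsl_dt (LP (LK LD1_c1 LD2_c33 LD3_c2)) = (LP (LK LD1_c3 LD2_c13 LD3_c16)) :=
  Lre_d IH (LK LD1_c1 LD2_c33 LD3_c2) (LK LD1_c3 LD2_c13 LD3_c16) Lrfl Lrfl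
theorem f140721 : Led Lsl_gt (LP (LK LD1_c2 LD2_c57 LD3_c34)) = (LP (LK LD1_c3 LD2_c13 LD3_c16)) :=
  Lgr Lrot139 (Lpe (f140244 IH) (Lpr_gf (f140234 IH) (Lpe (f58924 IH) (Lpe (f58922 IH) (Lpe (K0.f13449 IH) (Lpe (K1.f13556 IH) (Lpr_et (K4.f13557 IH) (Lpe (K11.f82680 IH) (Lpe (f82689 IH) (Lpr_dt (f82690 IH) (Lpn (LP (LK LD1_c3 LD2_c13 LD3_c16)))))))))))))
theorem f40283 : Led Lsl_at (LP (LK LD1_c1 LD2_c56 LD3_c34)) = (LP (LK LD1_c3 LD2_c59 LD3_c40)) :=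
  Lre_a IH (LK LD1_c1 LD2_c56 LD3_c34) (LK LD1_c3 LD2_c59 LD3_c40) Lrfl Lrfl
theorem f40284 : Led Lsl_bt (LP (LK LD1_c0 LD2_c55 LD3_c3)) = (LP (LK LD1_c1 LD2_c56 LD3_c34)) :=
  Lre_b IH (LK LD1_c0 LD2_c55 LD3_c3) (LK LD1_c1 LD2_c56 LD3_c34) Lrfl Lrfl
theorem f40285 : Led Lsl_at (LP (LK LD1_c2 LD2_c27 LD3_c32)) = (LP (LK LD1_c1 LD2_c10 LD3_c61)) :=
  Lre_a IH (LK LD1_c2 LD2_c27 LD3_c32) (LK LD1_c1 LD2_c10 LD3_c61) Lrfl Lrfl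
theorem f40286 : Led Lsl_bt (LP (LK LD1_c1 LD2_c10 LD3_c61)) = (LP (LK LD1_c0 LD2_c32 LD3_c56)) :=
  Lre_b IH (LK LD1_c1 LD2_c10 LD3_c61) (LK LD1_c0 LD2_c32 LD3_c56) Lrfl Lrfl
theorem f40287 : Led Lsl_af (LP (LK LD1_c0 LD2_c55 LD3_c3)) = (LP (LK LD1_c0 LD2_c32 LD3_c56)) :=
  Lgr Lrot36 (Lpr_bt (f40284 IH) (Lpr_at (f40283 IH) (Lpr_bt (K1.f40274 IH) (Lpr_at (f40285 IH) (Lpr_bt (f40286 IH) (Lpn (LP (LK LD1_c0 LD2_c32 LD3_c56))))))))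
theorem f77345 : Led Lsl_ct (LP (LK LD1_c0 LD2_c41 LD3_c45)) = (LP (LK LD1_c0 LD2_c32 LD3_c56)) :=
  Lgr Lrot111 (Lpr_af (K9.f77339 IH) (Lpe (K2.f40436 IH) (Lpr_af (f40287 IH) (Lpn (LP (LK LD1_c0 LD2_c32 LD3_c56))))))
theorem f73209 : Led Lsl_gt (LP (LK LD1_c0 LD2_c32 LD3_c56)) = (LP (LK LD1_c1 LD2_c11 LD3_c2)) :=
  Lre_g IH (LK LD1_c0 LD2_c32 LD3_c56) (LK LD1_c1 LD2_c11 LD3_c2) Lrfl Lrfl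
theorem f73222 : Led Lsl_dt (LP (LK LD1_c1 LD2_c11 LD3_c2)) = (LP (LK LD1_c2 LD2_c27 LD3_c51)) :=
  Lre_d IH (LK LD1_c1 LD2_c11 LD3_c2) (LK LD1_c2 LD2_c27 LD3_c51) Lrfl Lrfl
theorem f77407 : Led Lsl_gt (LP (LK LD1_c2 LD2_c27 LD3_c51)) = (LP (LK LD1_c5 LD2_c0 LD3_c13)) :=
  Lre_g IH (LK LD1_c2 LD2_c27 LD3_c51) (LK LD1_c5 LD2_c0 LD3_c13) Lrfl Lrfl
theorem f82698 : Led Lsl_dt (LP (LK LD1_c3 LD2_c13 LD3_c16)) = (LP (LK LD1_c1 LD2_c33 LD3_c2)) :=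
  Lre_d IH (LK LD1_c3 LD2_c13 LD3_c16) (LK LD1_c1 LD2_c33 LD3_c2) Lrfl Lrfl
theorem f83706 : Led Lsl_ct (LP (LK LD1_c3 LD2_c13 LD3_c14)) = (LP (LK LD1_c1 LD2_c33 LD3_c2)) :=
  Lre_c IH (LK LD1_c3 LD2_c13 LD3_c14) (LK LD1_c1 LD2_c33 LD3_c2) Lrfl Lrfl
theorem f140723 : Led Lsl_dt (LP (LK LD1_c5 LD2_c0 LD3_c13)) = (LP (LK LD1_c3 LD2_c13 LD3_c14)) :=
  Lgr Lrot105 (Lpe (f77407 IH) (Lpe (f73222 IH) (Lpe (f73209 IH) (Lpe (f77345 IH) (Lpe (f140234 IH) (Lpr_dt (f140244 IH) (Lpr_gt (f140721 IH) (Lpr_dt (f82698 IH) (Lpe (f83706 IH) (Lpn (LP (LK LD1_c3 LD2_c13 LD3_c14))))))))))))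
theorem f140728 : Led Lsl_df (LP (LK LD1_c5 LD2_c0 LD3_c13)) = (LP (LK LD1_c3 LD2_c13 LD3_c14)) :=
  Lgr Lrot38 (Lpr_dt (f140723 IH) (Lpn (LP (LK LD1_c3 LD2_c13 LD3_c14))))
theorem f140730 : Led Lsl_et (LP (LK LD1_c3 LD2_c13 LD3_c14)) = (LP (LK LD1_c1 LD2_c33 LD3_c0)) :=
  Lre_e IH (LK LD1_c3 LD2_c13 LD3_c14) (LK LD1_c1 LD2_c33 LD3_c0) Lrfl Lrfl
theorem f140743 : Led Lsl_gf (LP (LK LD1_c1 LD2_c4 LD3_c25)) = (LP (LK LD1_c1 LD2_c33 LD3_c0)) :=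
  Lgr Lrot141 (Lpe (K7.f25199 IH) (Lpr_dt (K2.f20306 IH) (Lpr_gt (K2.f20254 IH) (Lpe (K1.f8333 IH) (Lpr_et (K2.f58906 IH) (Lpr_gt (f73209 IH) (Lpr_dt (f73222 IH) (Lpr_gt (f77407 IH) (Lpr_df (f140728 IH) (Lpr_et (f140730 IH) (Lpn (LP (LK LD1_c1 LD2_c33 LD3_c0)))))))))))))
theorem f436239 : Led Lsl_gf (LP (LK LD1_c1 LD2_c33 LD3_c0)) = (LP (LK LD1_c1 LD2_c22 LD3_c24)) :=
  Lgr Lrot47 (Lpe (f140743 IH) (Lpr_af (f151897 IH) (Lpe (K7.f22516 IH) (Lpn (LP (LK LD1_c1 LD2_c22 LD3_c24))))))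
theorem f82682 : Led Lsl_ct (LP (LK LD1_c1 LD2_c33 LD3_c0)) = (LP (LK LD1_c0 LD2_c43 LD3_c1)) :=
  Lre_c IH (LK LD1_c1 LD2_c33 LD3_c0) (LK LD1_c0 LD2_c43 LD3_c1) Lrfl Lrfl
theorem f82697 : Led Lsl_dt (LP (LK LD1_c0 LD2_c43 LD3_c1)) = (LP (LK LD1_c1 LD2_c33 LD3_c1)) :=
  Lre_d IH (LK LD1_c0 LD2_c43 LD3_c1) (LK LD1_c1 LD2_c33 LD3_c1) Lrfl Lrfl
theorem f25227 : Led Lsl_gt (LP (LK LD1_c0 LD2_c30 LD3_c54)) = (LP (LK LD1_c1 LD2_c7 LD3_c21)) :=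
  Lre_g IH (LK LD1_c0 LD2_c30 LD3_c54) (LK LD1_c1 LD2_c7 LD3_c21) Lrfl Lrfl
theorem f151924 : Led Lsl_gt (LP (LK LD1_c1 LD2_c7 LD3_c21)) = (LP (LK LD1_c0 LD2_c43 LD3_c28)) :=
  Lgr Lrot46 (Lpe (f25227 IH) (Lpr_ft (K7.f25222 IH) (Lpr_at (K7.f151918 IH) (Lpn (LP (LK LD1_c0 LD2_c43 LD3_c28))))))
theorem f414547 : Led Lsl_et (LP (LK LD1_c0 LD2_c19 LD3_c56)) = (LP (LK LD1_c0 LD2_c44 LD3_c59)) :=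
  Lre_e IH (LK LD1_c0 LD2_c19 LD3_c56) (LK LD1_c0 LD2_c44 LD3_c59) Lrfl Lrfl
theorem f414548 : Led Lsl_gt (LP (LK LD1_c0 LD2_c44 LD3_c59)) = (LP (LK LD1_c1 LD2_c37 LD3_c13)) :=
  Lre_g IH (LK LD1_c0 LD2_c44 LD3_c59) (LK LD1_c1 LD2_c37 LD3_c13) Lrfl Lrfl
theorem f206544 : Led Lsl_et (LP (LK LD1_c1 LD2_c34 LD3_c12)) = (LP (LK LD1_c0 LD2_c43 LD3_c42)) :=
  Lre_e IH (LK LD1_c1 LD2_c34 LD3_c12) (LK LD1_c0 LD2_c43 LD3_c42) Lrfl Lrfl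
theorem f162116 : Led Lsl_ff (LP (LK LD1_c9 LD2_c21 LD3_c1)) = (LP (LK LD1_c6 LD2_c33 LD3_c7)) :=
  Lgr Lrot19 (Lpe (K7.f156613 IH) (Lpr_ft (K8.f162112 IH) (Lpe (K8.f157302 IH) (Lpn (LP (LK LD1_c6 LD2_c33 LD3_c7))))))
theorem f205999 : Led Lsl_af (LP (LK LD1_c6 LD2_c33 LD3_c8)) = (LP (LK LD1_c9 LD2_c21 LD3_c1)) :=
  Lgr Lrot31 (Lpr_gf (K11.f205997 IH) (Lpr_gf (K8.f162620 IH) (Lpe (f162116 IH) (Lpn (LP (LK LD1_c9 LD2_c21 LD3_c1))))))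
theorem f206082 : Led Lsl_ft (LP (LK LD1_c6 LD2_c33 LD3_c8)) = (LP (LK LD1_c9 LD2_c21 LD3_c2)) :=
  Lgr Lrot101 (Lpr_af (f205999 IH) (Lpr_ff (f162116 IH) (Lpe (K8.f162625 IH) (Lpn (LP (LK LD1_c9 LD2_c21 LD3_c2))))))
theorem f206088 : Led Lsl_ff (LP (LK LD1_c6 LD2_c33 LD3_c8)) = (LP (LK LD1_c9 LD2_c21 LD3_c2)) :=
  Lgr Lrot3 (Lpr_ft (f206082 IH) (Lpn (LP (LK LD1_c9 LD2_c21 LD3_c2))))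
theorem f206092 : Led Lsl_ft (LP (LK LD1_c12 LD2_c33 LD3_c35)) = (LP (LK LD1_c14 LD2_c29 LD3_c49)) :=
  Lgr Lrot4 (Lpe (K11.f157332 IH) (Lpr_ff (f206088 IH) (Lpr_cf (K8.f162630 IH) (Lpn (LP (LK LD1_c14 LD2_c29 LD3_c49))))))
theorem f90948 : Led Lsl_ft (LP (LK LD1_c6 LD2_c51 LD3_c32)) = (LP (LK LD1_c6 LD2_c56 LD3_c5)) :=
  Lgr Lrot75 (Lpe (K7.f19126 IH) (Lpr_ff (K2.f90943 IH) (Lpe (K8.f90947 IH) (Lpn (LP (LK LD1_c6 LD2_c56 LD3_c5))))))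
theorem f162372 : Led Lsl_gt (LP (LK LD1_c6 LD2_c51 LD3_c32)) = (LP (LK LD1_c3 LD2_c47 LD3_c35)) :=
  Lgr Lrot5 (Lpr_ft (f90948 IH) (Lpe (K8.f90964 IH) (Lpr_gf (K8.f162370 IH) (Lpn (LP (LK LD1_c3 LD2_c47 LD3_c35))))))
theorem f205971 : Led Lsl_dt (LP (LK LD1_c12 LD2_c33 LD3_c35)) = (LP (LK LD1_c14 LD2_c20 LD3_c12)) :=
  Lgr Lrot57 (Lpr_gf (K11.f205965 IH) (Lpe (K11.f15863 IH) (Lpr_gt (f162372 IH) (Lpr_dt (K8.f15656 IH) (Lpr_gt (K3.f15274 IH) (Lpr_dt (K0.f15657 IH) (Lpe (K0.f15654 IH) (Lpe (K0.f16094 IH) (Lpe (K7.f16111 IH) (Lpn (LP (LK LD1_c14 LD2_c20 LD3_c12))))))))))))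
theorem f162699 : Led Lsl_at (LP (LK LD1_c14 LD2_c29 LD3_c49)) = (LP (LK LD1_c12 LD2_c33 LD3_c33)) :=
  Lgr Lrot107 (Lpe (K8.f162635 IH) (Lpr_af (K8.f162695 IH) (Lpe (K11.f157301 IH) (Lpn (LP (LK LD1_c12 LD2_c33 LD3_c33))))))
theorem f206094 : Led Lsl_dt (LP (LK LD1_c7 LD2_c49 LD3_c61)) = (LP (LK LD1_c6 LD2_c31 LD3_c11)) :=
  Lgr Lrot32 (Lpe (K7.f156723 IH) (Lpe (f205971 IH) (Lpr_ft (f206092 IH) (Lpr_at (f162699 IH) (Lpe (K11.f156481 IH) (Lpr_df (K8.f157302 IH) (Lpe (K6.f16763 IH) (Lpe (K8.f16764 IH) (Lpr_cf (K8.f156559 IH) (Lpn (LP (LK LD1_c6 LD2_c31 LD3_c11))))))))))))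
theorem f206098 : Led Lsl_df (LP (LK LD1_c7 LD2_c49 LD3_c61)) = (LP (LK LD1_c6 LD2_c31 LD3_c11)) :=
  Lgr Lrot38 (Lpr_dt (f206094 IH) (Lpn (LP (LK LD1_c6 LD2_c31 LD3_c11))))
theorem f162627 : Led Lsl_dt (LP (LK LD1_c9 LD2_c21 LD3_c2)) = (LP (LK LD1_c7 LD2_c30 LD3_c15)) :=
  Lgr Lrot42 (Lpr_df (K8.f162622 IH) (Lpn (LP (LK LD1_c7 LD2_c30 LD3_c15))))
theorem f162617 : Led Lsl_at (LP (LK LD1_c7 LD2_c26 LD3_c29)) = (LP (LK LD1_c3 LD2_c42 LD3_c53)) :=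
  Lre_a IH (LK LD1_c7 LD2_c26 LD3_c29) (LK LD1_c3 LD2_c42 LD3_c53) Lrfl Lrfl
theorem f205980 : Led Lsl_ct (LP (LK LD1_c5 LD2_c51 LD3_c3)) = (LP (LK LD1_c7 LD2_c26 LD3_c29)) :=
  Lgr Lrot111 (Lpr_af (K7.f24193 IH) (Lpr_cf (K11.f205977 IH) (Lpe (f162617 IH) (Lpn (LP (LK LD1_c7 LD2_c26 LD3_c29))))))
theorem f206153 : Led Lsl_gt (LP (LK LD1_c7 LD2_c26 LD3_c29)) = (LP (LK LD1_c6 LD2_c31 LD3_c11)) :=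
  Lgr Lrot94 (Lpe (f205980 IH) (Lpe (K8.f162637 IH) (Lpr_dt (f162627 IH) (Lpe (K8.f157342 IH) (Lpr_dt (K6.f57468 IH) (Lpr_cf (K6.f145272 IH) (Lpr_df (K6.f145274 IH) (Lpe (K7.f122986 IH) (Lpr_df (f206098 IH) (Lpn (LP (LK LD1_c6 LD2_c31 LD3_c11))))))))))))
theorem f206155 : Led Lsl_cf (LP (LK LD1_c5 LD2_c51 LD3_c3)) = (LP (LK LD1_c7 LD2_c26 LD3_c29)) :=
  Lgr Lrot166 (Lpe (K8.f162637 IH) (Lpr_dt (f162627 IH) (Lpe (K8.f157342 IH) (Lpr_dt (K6.f57468 IH) (Lpe (K11.f144018 IH) (Lpr_df (K6.f145274 IH) (Lpe (K7.f122986 IH) (Lpr_df (f206098 IH) (Lpe (f206153 IH) (Lpn (LP (LK LD1_c7 LD2_c26 LD3_c29))))))))))))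
theorem f24197 : Led Lsl_bt (LP (LK LD1_c5 LD2_c51 LD3_c3)) = (LP (LK LD1_c2 LD2_c51 LD3_c48)) :=
  Lre_b IH (LK LD1_c5 LD2_c51 LD3_c3) (LK LD1_c2 LD2_c51 LD3_c48) Lrfl Lrfl
theorem f163590 : Led Lsl_bt (LP (LK LD1_c1 LD2_c21 LD3_c58)) = (LP (LK LD1_c2 LD2_c14 LD3_c24)) :=
  Lgr Lrot127 (Lpr_bf (K8.f163587 IH) (Lpn (LP (LK LD1_c2 LD2_c14 LD3_c24))))
theorem f206157 : Led Lsl_bt (LP (LK LD1_c3 LD2_c43 LD3_c25)) = (LP (LK LD1_c7 LD2_c26 LD3_c29)) :=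
  Lre_b IH (LK LD1_c3 LD2_c43 LD3_c25) (LK LD1_c7 LD2_c26 LD3_c29) Lrfl Lrfl
theorem f206158 : Led Lsl_ct (LP (LK LD1_c2 LD2_c14 LD3_c24)) = (LP (LK LD1_c3 LD2_c43 LD3_c25)) :=
  Lgr Lrot83 (Lpe (f163590 IH) (Lpe (K7.f8376 IH) (Lpe (f24197 IH) (Lpr_cf (f206155 IH) (Lpe (f206157 IH) (Lpn (LP (LK LD1_c3 LD2_c43 LD3_c25))))))))
theorem f206490 : Led Lsl_cf (LP (LK LD1_c2 LD2_c14 LD3_c24)) = (LP (LK LD1_c3 LD2_c43 LD3_c25)) :=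
  Lgr Lrot11 (Lpr_ct (f206158 IH) (Lpn (LP (LK LD1_c3 LD2_c43 LD3_c25))))
theorem f152029 : Led Lsl_at (LP (LK LD1_c2 LD2_c14 LD3_c24)) = (LP (LK LD1_c1 LD2_c4 LD3_c18)) :=
  Lre_a IH (LK LD1_c2 LD2_c14 LD3_c24) (LK LD1_c1 LD2_c4 LD3_c18) Lrfl Lrfl
theorem f206169 : Led Lsl_at (LP (LK LD1_c1 LD2_c48 LD3_c46)) = (LP (LK LD1_c3 LD2_c43 LD3_c25)) :=
  Lre_a IH (LK LD1_c1 LD2_c48 LD3_c46) (LK LD1_c3 LD2_c43 LD3_c25) Lrfl Lrfl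
theorem f206492 : Led Lsl_ct (LP (LK LD1_c1 LD2_c4 LD3_c18)) = (LP (LK LD1_c1 LD2_c48 LD3_c46)) :=
  Lgr Lrot111 (Lpe (f152029 IH) (Lpr_cf (f206490 IH) (Lpe (f206169 IH) (Lpn (LP (LK LD1_c1 LD2_c48 LD3_c46))))))
theorem f206502 : Led Lsl_et (LP (LK LD1_c1 LD2_c48 LD3_c46)) = (LP (LK LD1_c3 LD2_c43 LD3_c26)) :=
  Lre_e IH (LK LD1_c1 LD2_c48 LD3_c46) (LK LD1_c3 LD2_c43 LD3_c26) Lrfl Lrfl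
theorem f206503 : Led Lsl_cf (LP (LK LD1_c2 LD2_c14 LD3_c25)) = (LP (LK LD1_c3 LD2_c43 LD3_c26)) :=
  Lgr Lrot39 (Lpr_et (K7.f152034 IH) (Lpr_ct (f206492 IH) (Lpr_et (f206502 IH) (Lpn (LP (LK LD1_c3 LD2_c43 LD3_c26))))))
theorem f206508 : Led Lsl_ct (LP (LK LD1_c2 LD2_c14 LD3_c25)) = (LP (LK LD1_c3 LD2_c43 LD3_c26)) :=
  Lgr Lrot59 (Lpr_cf (f206503 IH) (Lpn (LP (LK LD1_c3 LD2_c43 LD3_c26))))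
theorem f206511 : Led Lsl_bt (LP (LK LD1_c3 LD2_c43 LD3_c26)) = (LP (LK LD1_c1 LD2_c48 LD3_c48)) :=
  Lre_b IH (LK LD1_c3 LD2_c43 LD3_c26) (LK LD1_c1 LD2_c48 LD3_c48) Lrfl Lrfl
theorem f206512 : Led Lsl_ct (LP (LK LD1_c1 LD2_c48 LD3_c48)) = (LP (LK LD1_c0 LD2_c51 LD3_c9)) :=
  Lre_c IH (LK LD1_c1 LD2_c48 LD3_c48) (LK LD1_c0 LD2_c51 LD3_c9) Lrfl Lrfl
theorem f57602 : Led Lsl_et (LP (LK LD1_c0 LD2_c30 LD3_c55)) = (LP (LK LD1_c0 LD2_c13 LD3_c44)) :=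
  Lre_e IH (LK LD1_c0 LD2_c30 LD3_c55) (LK LD1_c0 LD2_c13 LD3_c44) Lrfl Lrfl
theorem f124188 : Led Lsl_et (LP (LK LD1_c0 LD2_c23 LD3_c5)) = (LP (LK LD1_c0 LD2_c51 LD3_c9)) :=
  Lre_e IH (LK LD1_c0 LD2_c23 LD3_c5) (LK LD1_c0 LD2_c51 LD3_c9) Lrfl Lrfl
theorem f124189 : Led Lsl_bf (LP (LK LD1_c0 LD2_c30 LD3_c55)) = (LP (LK LD1_c0 LD2_c51 LD3_c9)) :=
  Lgr Lrot96 (Lpr_et (f57602 IH) (Lpr_bt (K4.f124152 IH) (Lpr_et (f124188 IH) (Lpn (LP (LK LD1_c0 LD2_c51 LD3_c9))))))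
theorem f206513 : Led Lsl_cf (LP (LK LD1_c1 LD2_c4 LD3_c19)) = (LP (LK LD1_c0 LD2_c30 LD3_c55)) :=
  Lgr Lrot97 (Lpr_bt (K8.f163616 IH) (Lpr_ct (f206508 IH) (Lpr_bt (f206511 IH) (Lpr_ct (f206512 IH) (Lpe (f124189 IH) (Lpn (LP (LK LD1_c0 LD2_c30 LD3_c55))))))))
theorem f163621 : Led Lsl_ft (LP (LK LD1_c1 LD2_c4 LD3_c19)) = (LP (LK LD1_c2 LD2_c14 LD3_c26)) :=
  Lre_f IH (LK LD1_c1 LD2_c4 LD3_c19) (LK LD1_c2 LD2_c14 LD3_c26) Lrfl Lrfl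
theorem f206519 : Led Lsl_ft (LP (LK LD1_c1 LD2_c7 LD3_c26)) = (LP (LK LD1_c0 LD2_c30 LD3_c55)) :=
  Lre_f IH (LK LD1_c1 LD2_c7 LD3_c26) (LK LD1_c0 LD2_c30 LD3_c55) Lrfl Lrfl
theorem f206520 : Led Lsl_ct (LP (LK LD1_c2 LD2_c14 LD3_c26)) = (LP (LK LD1_c1 LD2_c7 LD3_c26)) :=
  Lgr Lrot40 (Lpe (f163621 IH) (Lpr_cf (f206513 IH) (Lpe (f206519 IH) (Lpn (LP (LK LD1_c1 LD2_c7 LD3_c26))))))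
theorem f206528 : Led Lsl_cf (LP (LK LD1_c2 LD2_c14 LD3_c26)) = (LP (LK LD1_c1 LD2_c7 LD3_c26)) :=
  Lgr Lrot11 (Lpr_ct (f206520 IH) (Lpn (LP (LK LD1_c1 LD2_c7 LD3_c26))))
theorem f25236 : Led Lsl_bt (LP (LK LD1_c2 LD2_c14 LD3_c38)) = (LP (LK LD1_c4 LD2_c34 LD3_c57)) :=
  Lre_b IH (LK LD1_c2 LD2_c14 LD3_c38) (LK LD1_c4 LD2_c34 LD3_c57) Lrfl Lrfl
theorem f151743 : Led Lsl_ef (LP (LK LD1_c2 LD2_c14 LD3_c38)) = (LP (LK LD1_c1 LD2_c22 LD3_c7)) :=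
  Lgr Lrot29 (Lpr_bt (f25236 IH) (Lpr_et (K7.f151738 IH) (Lpr_bt (K7.f22260 IH) (Lpn (LP (LK LD1_c1 LD2_c22 LD3_c7))))))
theorem f152059 : Led Lsl_at (LP (LK LD1_c2 LD2_c14 LD3_c26)) = (LP (LK LD1_c1 LD2_c22 LD3_c7)) :=
  Lgr Lrot80 (Lpr_ef (K7.f152053 IH) (Lpe (K7.f151940 IH) (Lpr_ef (f151743 IH) (Lpn (LP (LK LD1_c1 LD2_c22 LD3_c7))))))
theorem f23186 : Led Lsl_et (LP (LK LD1_c0 LD2_c19 LD3_c30)) = (LP (LK LD1_c0 LD2_c8 LD3_c46)) :=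
  Lre_e IH (LK LD1_c0 LD2_c19 LD3_c30) (LK LD1_c0 LD2_c8 LD3_c46) Lrfl Lrfl
theorem f24022 : Led Lsl_ct (LP (LK LD1_c0 LD2_c37 LD3_c60)) = (LP (LK LD1_c0 LD2_c19 LD3_c30)) :=
  Lgr Lrot15 (Lpe (K7.f20290 IH) (Lpr_cf (K0.f23919 IH) (Lpe (f23186 IH) (Lpn (LP (LK LD1_c0 LD2_c19 LD3_c30))))))
theorem f24037 : Led Lsl_ft (LP (LK LD1_c0 LD2_c19 LD3_c30)) = (LP (LK LD1_c0 LD2_c43 LD3_c43)) :=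
  Lre_f IH (LK LD1_c0 LD2_c19 LD3_c30) (LK LD1_c0 LD2_c43 LD3_c43) Lrfl Lrfl
theorem f24038 : Led Lsl_cf (LP (LK LD1_c1 LD2_c22 LD3_c7)) = (LP (LK LD1_c0 LD2_c43 LD3_c43)) :=
  Lgr Lrot108 (Lpr_ft (K7.f22237 IH) (Lpr_ct (f24022 IH) (Lpr_ft (f24037 IH) (Lpn (LP (LK LD1_c0 LD2_c43 LD3_c43))))))
theorem f24048 : Led Lsl_ct (LP (LK LD1_c1 LD2_c22 LD3_c7)) = (LP (LK LD1_c0 LD2_c43 LD3_c43)) :=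
  Lgr Lrot59 (Lpr_cf (f24038 IH) (Lpn (LP (LK LD1_c0 LD2_c43 LD3_c43))))
theorem f206530 : Led Lsl_at (LP (LK LD1_c0 LD2_c43 LD3_c43)) = (LP (LK LD1_c1 LD2_c7 LD3_c26)) :=
  Lgr Lrot107 (Lpe (f24048 IH) (Lpe (f152059 IH) (Lpr_cf (f206528 IH) (Lpn (LP (LK LD1_c1 LD2_c7 LD3_c26))))))
theorem f206540 : Led Lsl_af (LP (LK LD1_c0 LD2_c19 LD3_c30)) = (LP (LK LD1_c0 LD2_c30 LD3_c55)) :=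
  Lgr Lrot45 (Lpr_ft (f24037 IH) (Lpr_at (f206530 IH) (Lpr_ft (f206519 IH) (Lpn (LP (LK LD1_c0 LD2_c30 LD3_c55))))))
theorem f24043 : Led Lsl_gt (LP (LK LD1_c0 LD2_c43 LD3_c42)) = (LP (LK LD1_c0 LD2_c19 LD3_c30)) :=
  Lre_g IH (LK LD1_c0 LD2_c43 LD3_c42) (LK LD1_c0 LD2_c19 LD3_c30) Lrfl Lrfl
theorem f206542 : Led Lsl_gf (LP (LK LD1_c0 LD2_c43 LD3_c42)) = (LP (LK LD1_c1 LD2_c7 LD3_c26)) :=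
  Lgr Lrot47 (Lpr_gt (f24043 IH) (Lpr_af (f206540 IH) (Lpe (f206519 IH) (Lpn (LP (LK LD1_c1 LD2_c7 LD3_c26))))))
theorem f206532 : Led Lsl_et (LP (LK LD1_c0 LD2_c43 LD3_c28)) = (LP (LK LD1_c1 LD2_c7 LD3_c26)) :=
  Lgr Lrot158 (Lpr_cf (K7.f22554 IH) (Lpe (K10.f152044 IH) (Lpr_cf (f206528 IH) (Lpn (LP (LK LD1_c1 LD2_c7 LD3_c26))))))
theorem f23727 : Led Lsl_ft (LP (LK LD1_c0 LD2_c43 LD3_c25)) = (LP (LK LD1_c1 LD2_c33 LD3_c42)) :=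
  Lre_f IH (LK LD1_c0 LD2_c43 LD3_c25) (LK LD1_c1 LD2_c33 LD3_c42) Lrfl Lrfl
theorem f23728 : Led Lsl_ft (LP (LK LD1_c1 LD2_c33 LD3_c42)) = (LP (LK LD1_c0 LD2_c43 LD3_c25)) :=
  Lre_f IH (LK LD1_c1 LD2_c33 LD3_c42) (LK LD1_c0 LD2_c43 LD3_c25) Lrfl Lrfl
theorem f23729 : Led Lsl_dt (LP (LK LD1_c1 LD2_c33 LD3_c42)) = (LP (LK LD1_c1 LD2_c33 LD3_c42)) :=
  Lgr Lrot60 (Lpe (f23727 IH) (Lpr_df (K0.f23716 IH) (Lpe (f23728 IH) (Lpn (LP (LK LD1_c1 LD2_c33 LD3_c42))))))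
theorem f22548 : Led Lsl_bt (LP (LK LD1_c1 LD2_c33 LD3_c42)) = (LP (LK LD1_c0 LD2_c43 LD3_c28)) :=
  Lre_b IH (LK LD1_c1 LD2_c33 LD3_c42) (LK LD1_c0 LD2_c43 LD3_c28) Lrfl Lrfl
theorem f23780 : Led Lsl_df (LP (LK LD1_c0 LD2_c43 LD3_c28)) = (LP (LK LD1_c0 LD2_c43 LD3_c28)) :=
  Lgr Lrot12 (Lpr_bt (K8.f22559 IH) (Lpr_dt (f23729 IH) (Lpr_bt (f22548 IH) (Lpn (LP (LK LD1_c0 LD2_c43 LD3_c28))))))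
theorem f414549 : Led Lsl_dt (LP (LK LD1_c1 LD2_c37 LD3_c13)) = (LP (LK LD1_c1 LD2_c7 LD3_c21)) :=
  Lgr Lrot171 (Lpe (f414548 IH) (Lpe (f414547 IH) (Lpr_dt (K16.f140981 IH) (Lpr_gf (K17.f414522 IH) (Lpe (K17.f180336 IH) (Lpr_et (f206544 IH) (Lpr_gf (f206542 IH) (Lpe (f206532 IH) (Lpe (f23780 IH) (Lpe (f151924 IH) (Lpn (LP (LK LD1_c1 LD2_c7 LD3_c21)))))))))))))
theorem f414552 : Led Lsl_df (LP (LK LD1_c1 LD2_c37 LD3_c13)) = (LP (LK LD1_c1 LD2_c7 LD3_c21)) :=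
  Lgr Lrot38 (Lpr_dt (f414549 IH) (Lpn (LP (LK LD1_c1 LD2_c7 LD3_c21))))
theorem f25255 : Led Lsl_et (LP (LK LD1_c0 LD2_c13 LD3_c43)) = (LP (LK LD1_c0 LD2_c30 LD3_c54)) :=
  Lre_e IH (LK LD1_c0 LD2_c13 LD3_c43) (LK LD1_c0 LD2_c30 LD3_c54) Lrfl Lrfl
theorem f414581 : Led Lsl_et (LP (LK LD1_c0 LD2_c6 LD3_c19)) = (LP (LK LD1_c0 LD2_c13 LD3_c54)) :=
  Lre_e IH (LK LD1_c0 LD2_c6 LD3_c19) (LK LD1_c0 LD2_c13 LD3_c54) Lrfl Lrfl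
theorem f24669 : Led Lsl_et (LP (LK LD1_c1 LD2_c8 LD3_c30)) = (LP (LK LD1_c0 LD2_c31 LD3_c19)) :=
  Lre_e IH (LK LD1_c1 LD2_c8 LD3_c30) (LK LD1_c0 LD2_c31 LD3_c19) Lrfl Lrfl
theorem f23202 : Led Lsl_et (LP (LK LD1_c0 LD2_c31 LD3_c19)) = (LP (LK LD1_c1 LD2_c8 LD3_c30)) :=
  Lre_e IH (LK LD1_c0 LD2_c31 LD3_c19) (LK LD1_c1 LD2_c8 LD3_c30) Lrfl Lrfl
theorem f23205 : Led Lsl_et (LP (LK LD1_c1 LD2_c37 LD3_c2)) = (LP (LK LD1_c0 LD2_c44 LD3_c54)) :=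
  Lre_e IH (LK LD1_c1 LD2_c37 LD3_c2) (LK LD1_c0 LD2_c44 LD3_c54) Lrfl Lrfl
theorem f23206 : Led Lsl_dt (LP (LK LD1_c1 LD2_c8 LD3_c30)) = (LP (LK LD1_c1 LD2_c37 LD3_c2)) :=
  Lgr Lrot77 (Lpe (f23202 IH) (Lpr_df (K0.f23181 IH) (Lpe (f23203 IH) (Lpe (K17.f23204 IH) (Lpe (f23205 IH) (Lpn (LP (LK LD1_c1 LD2_c37 LD3_c2))))))))
theorem f414582 : Led Lsl_gt (LP (LK LD1_c1 LD2_c37 LD3_c13)) = (LP (LK LD1_c1 LD2_c37 LD3_c2)) :=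
  Lgr Lrot139 (Lpr_df (f414552 IH) (Lpe (f25227 IH) (Lpe (f25255 IH) (Lpr_dt (K0.f20835 IH) (Lpe (K0.f13620 IH) (Lpe (K1.f13615 IH) (Lpr_et (f414581 IH) (Lpe (K0.f22865 IH) (Lpe (f24669 IH) (Lpr_dt (f23206 IH) (Lpn (LP (LK LD1_c1 LD2_c37 LD3_c2)))))))))))))
theorem f24661 : Led Lsl_ct (LP (LK LD1_c1 LD2_c37 LD3_c2)) = (LP (LK LD1_c3 LD2_c21 LD3_c38)) :=
  Lre_c IH (LK LD1_c1 LD2_c37 LD3_c2) (LK LD1_c3 LD2_c21 LD3_c38) Lrfl Lrfl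
theorem f139919 : Led Lsl_et (LP (LK LD1_c1 LD2_c21 LD3_c46)) = (LP (LK LD1_c2 LD2_c51 LD3_c27)) :=
  Lre_e IH (LK LD1_c1 LD2_c21 LD3_c46) (LK LD1_c2 LD2_c51 LD3_c27) Lrfl Lrfl
theorem f139946 : Led Lsl_et (LP (LK LD1_c1 LD2_c37 LD3_c1)) = (LP (LK LD1_c3 LD2_c21 LD3_c38)) :=
  Lre_e IH (LK LD1_c1 LD2_c37 LD3_c1) (LK LD1_c3 LD2_c21 LD3_c38) Lrfl Lrfl
theorem f139947 : Led Lsl_gf (LP (LK LD1_c2 LD2_c51 LD3_c27)) = (LP (LK LD1_c3 LD2_c21 LD3_c38)) :=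
  Lgr Lrot141 (Lpe (f139919 IH) (Lpr_dt (K9.f139884 IH) (Lpr_gt (K9.f139885 IH) (Lpe (K9.f139900 IH) (Lpr_et (K9.f139902 IH) (Lpr_gt (K9.f139920 IH) (Lpr_dt (K16.f61287 IH) (Lpe (K16.f139928 IH) (Lpe (K17.f139945 IH) (Lpr_et (f139946 IH) (Lpn (LP (LK LD1_c3 LD2_c21 LD3_c38)))))))))))))
theorem f436241 : Led Lsl_cf (LP (LK LD1_c1 LD2_c33 LD3_c1)) = (LP (LK LD1_c2 LD2_c51 LD3_c27)) :=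
  Lgr Lrot99 (Lpe (f82697 IH) (Lpe (f82682 IH) (Lpr_gf (f436239 IH) (Lpe (K7.f22517 IH) (Lpe (f151924 IH) (Lpe (f414549 IH) (Lpr_gt (f414582 IH) (Lpr_ct (f24661 IH) (Lpe (f139947 IH) (Lpn (LP (LK LD1_c2 LD2_c51 LD3_c27))))))))))))
theorem f436245 : Led Lsl_ct (LP (LK LD1_c1 LD2_c6 LD3_c11)) = (LP (LK LD1_c1 LD2_c21 LD3_c46)) :=
  Lgr Lrot15 (Lpe (K11.f82691 IH) (Lpr_cf (f436241 IH) (Lpe (f139919 IH) (Lpn (LP (LK LD1_c1 LD2_c21 LD3_c46))))))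
theorem f26012 : Led Lsl_dt (LP (LK LD1_c0 LD2_c30 LD3_c15)) = (LP (LK LD1_c1 LD2_c6 LD3_c13)) :=
  Lre_d IH (LK LD1_c0 LD2_c30 LD3_c15) (LK LD1_c1 LD2_c6 LD3_c13) Lrfl Lrfl
theorem f26013 : Led Lsl_gt (LP (LK LD1_c1 LD2_c6 LD3_c13)) = (LP (LK LD1_c2 LD2_c18 LD3_c24)) :=
  Lre_g IH (LK LD1_c1 LD2_c6 LD3_c13) (LK LD1_c2 LD2_c18 LD3_c24) Lrfl Lrfl
theorem f438294 : Led Lsl_ct (LP (LK LD1_c2 LD2_c18 LD3_c24)) = (LP (LK LD1_c3 LD2_c19 LD3_c36)) :=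
  Lgr Lrot152 (Lpe (f26013 IH) (Lpe (f26012 IH) (Lpr_gt (K8.f61012 IH) (Lpr_ct (f436245 IH) (Lpr_gt (f146042 IH) (Lpr_ct (f92116 IH) (Lpe (K6.f92120 IH) (Lpe (K6.f92121 IH) (Lpr_gf (f438291 IH) (Lpn (LP (LK LD1_c3 LD2_c19 LD3_c36))))))))))))
theorem f152205 : Led Lsl_et (LP (LK LD1_c0 LD2_c30 LD3_c18)) = (LP (LK LD1_c1 LD2_c6 LD3_c13)) :=
  Lre_e IH (LK LD1_c0 LD2_c30 LD3_c18) (LK LD1_c1 LD2_c6 LD3_c13) Lrfl Lrfl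
theorem f152207 : Led Lsl_ef (LP (LK LD1_c2 LD2_c18 LD3_c24)) = (LP (LK LD1_c2 LD2_c19 LD3_c30)) :=
  Lgr Lrot17 (Lpe (f26013 IH) (Lpe (f152205 IH) (Lpr_dt (K6.f25786 IH) (Lpe (K7.f25788 IH) (Lpe (f82866 IH) (Lpr_gf (K7.f152192 IH) (Lpe (f61268 IH) (Lpr_dt (f26283 IH) (Lpe (f61254 IH) (Lpe (f152206 IH) (Lpn (LP (LK LD1_c2 LD2_c19 LD3_c30)))))))))))))
theorem f152215 : Led Lsl_ct (LP (LK LD1_c4 LD2_c43 LD3_c32)) = (LP (LK LD1_c2 LD2_c19 LD3_c30)) :=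
  Lre_c IH (LK LD1_c4 LD2_c43 LD3_c32) (LK LD1_c2 LD2_c19 LD3_c30) Lrfl Lrfl
theorem f438306 : Led Lsl_ef (LP (LK LD1_c4 LD2_c43 LD3_c32)) = (LP (LK LD1_c3 LD2_c19 LD3_c36)) :=
  Lgr Lrot28 (Lpr_ct (f152215 IH) (Lpe (f152207 IH) (Lpr_ct (f438294 IH) (Lpn (LP (LK LD1_c3 LD2_c19 LD3_c36))))))
theorem f438312 : Led Lsl_et (LP (LK LD1_c4 LD2_c43 LD3_c32)) = (LP (LK LD1_c3 LD2_c19 LD3_c36)) :=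
  Lgr Lrot87 (Lpr_ef (f438306 IH) (Lpn (LP (LK LD1_c3 LD2_c19 LD3_c36))))
theorem f62487 : Led Lsl_gt (LP (LK LD1_c6 LD2_c44 LD3_c9)) = (LP (LK LD1_c3 LD2_c20 LD3_c12)) :=
  Lre_g IH (LK LD1_c6 LD2_c44 LD3_c9) (LK LD1_c3 LD2_c20 LD3_c12) Lrfl Lrfl
theorem f438317 : Led Lsl_dt (LP (LK LD1_c4 LD2_c43 LD3_c32)) = (LP (LK LD1_c6 LD2_c44 LD3_c9)) :=
  Lgr Lrot136 (Lpr_et (f438312 IH) (Lpe (f24707 IH) (Lpr_ef (K5.f24691 IH) (Lpr_dt (K5.f84107 IH) (Lpe (K7.f146217 IH) (Lpe (K7.f155832 IH) (Lpr_gf (K7.f152243 IH) (Lpe (K5.f62472 IH) (Lpr_dt (K6.f57500 IH) (Lpe (f62487 IH) (Lpn (LP (LK LD1_c6 LD2_c44 LD3_c9)))))))))))))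
theorem f57122 : Led Lsl_dt (LP (LK LD1_c3 LD2_c20 LD3_c12)) = (LP (LK LD1_c1 LD2_c36 LD3_c30)) :=
  Lre_d IH (LK LD1_c3 LD2_c20 LD3_c12) (LK LD1_c1 LD2_c36 LD3_c30) Lrfl Lrfl
theorem f57499 : Led Lsl_ct (LP (LK LD1_c0 LD2_c44 LD3_c42)) = (LP (LK LD1_c1 LD2_c36 LD3_c30)) :=
  Lre_c IH (LK LD1_c0 LD2_c44 LD3_c42) (LK LD1_c1 LD2_c36 LD3_c30) Lrfl Lrfl
theorem f57142 : Led Lsl_dt (LP (LK LD1_c1 LD2_c36 LD3_c26)) = (LP (LK LD1_c0 LD2_c44 LD3_c41)) :=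
  Lre_d IH (LK LD1_c1 LD2_c36 LD3_c26) (LK LD1_c0 LD2_c44 LD3_c41) Lrfl Lrfl
theorem f414316 : Led Lsl_dt (LP (LK LD1_c2 LD2_c22 LD3_c41)) = (LP (LK LD1_c4 LD2_c49 LD3_c56)) :=
  Lre_d IH (LK LD1_c2 LD2_c22 LD3_c41) (LK LD1_c4 LD2_c49 LD3_c56) Lrfl Lrfl
theorem f414306 : Led Lsl_ct (LP (LK LD1_c1 LD2_c8 LD3_c27)) = (LP (LK LD1_c2 LD2_c22 LD3_c41)) :=
  Lre_c IH (LK LD1_c1 LD2_c8 LD3_c27) (LK LD1_c2 LD2_c22 LD3_c41) Lrfl Lrfl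
theorem f416552 : Led Lsl_gt (LP (LK LD1_c1 LD2_c36 LD3_c27)) = (LP (LK LD1_c1 LD2_c8 LD3_c27)) :=
  Lgr Lrot150 (Lpr_cf (K16.f415420 IH) (Lpr_gf (f416537 IH) (Lpe (f22875 IH) (Lpe (K0.f22850 IH) (Lpr_ct (f22869 IH) (Lpr_gt (f22870 IH) (Lpr_ct (f414326 IH) (Lpe (f414316 IH) (Lpe (f414306 IH) (Lpn (LP (LK LD1_c1 LD2_c8 LD3_c27))))))))))))
theorem f415417 : Led Lsl_et (LP (LK LD1_c0 LD2_c44 LD3_c41)) = (LP (LK LD1_c1 LD2_c36 LD3_c27)) :=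
  Lre_e IH (LK LD1_c0 LD2_c44 LD3_c41) (LK LD1_c1 LD2_c36 LD3_c27) Lrfl Lrfl
theorem f23224 : Led Lsl_et (LP (LK LD1_c0 LD2_c40 LD3_c27)) = (LP (LK LD1_c1 LD2_c27 LD3_c27)) :=
  Lre_e IH (LK LD1_c0 LD2_c40 LD3_c27) (LK LD1_c1 LD2_c27 LD3_c27) Lrfl Lrfl
theorem f25646 : Led Lsl_gt (LP (LK LD1_c1 LD2_c29 LD3_c8)) = (LP (LK LD1_c0 LD2_c41 LD3_c13)) :=
  Lre_g IH (LK LD1_c1 LD2_c29 LD3_c8) (LK LD1_c0 LD2_c41 LD3_c13) Lrfl Lrfl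
theorem f58470 : Led Lsl_gt (LP (LK LD1_c1 LD2_c27 LD3_c27)) = (LP (LK LD1_c1 LD2_c29 LD3_c8)) :=
  Lgr Lrot5 (Lpr_ft (K1.f58468 IH) (Lpr_at (K1.f58369 IH) (Lpe (f25646 IH) (Lpn (LP (LK LD1_c1 LD2_c29 LD3_c8))))))
theorem f57603 : Led Lsl_et (LP (LK LD1_c3 LD2_c6 LD3_c8)) = (LP (LK LD1_c1 LD2_c29 LD3_c8)) :=
  Lre_e IH (LK LD1_c3 LD2_c6 LD3_c8) (LK LD1_c1 LD2_c29 LD3_c8) Lrfl Lrfl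
theorem f25167 : Led Lsl_et (LP (LK LD1_c0 LD2_c18 LD3_c26)) = (LP (LK LD1_c0 LD2_c41 LD3_c13)) :=
  Lre_e IH (LK LD1_c0 LD2_c18 LD3_c26) (LK LD1_c0 LD2_c41 LD3_c13) Lrfl Lrfl
theorem f57129 : Led Lsl_gt (LP (LK LD1_c0 LD2_c19 LD3_c52)) = (LP (LK LD1_c0 LD2_c44 LD3_c40)) :=
  Lre_g IH (LK LD1_c0 LD2_c19 LD3_c52) (LK LD1_c0 LD2_c44 LD3_c40) Lrfl Lrfl
theorem f57130 : Led Lsl_dt (LP (LK LD1_c0 LD2_c44 LD3_c40)) = (LP (LK LD1_c1 LD2_c36 LD3_c24)) :=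
  Lre_d IH (LK LD1_c0 LD2_c44 LD3_c40) (LK LD1_c1 LD2_c36 LD3_c24) Lrfl Lrfl
theorem f57131 : Led Lsl_gt (LP (LK LD1_c1 LD2_c36 LD3_c24)) = (LP (LK LD1_c3 LD2_c19 LD3_c61)) :=
  Lre_g IH (LK LD1_c1 LD2_c36 LD3_c24) (LK LD1_c3 LD2_c19 LD3_c61) Lrfl Lrfl
theorem f57604 : Led Lsl_dt (LP (LK LD1_c3 LD2_c6 LD3_c8)) = (LP (LK LD1_c3 LD2_c19 LD3_c61)) :=
  Lgr Lrot56 (Lpr_et (f57603 IH) (Lpr_gt (f25646 IH) (Lpe (f25167 IH) (Lpr_dt (K0.f25155 IH) (Lpr_gt (K1.f57573 IH) (Lpe (K6.f57534 IH) (Lpr_et (K1.f56743 IH) (Lpr_gt (f57129 IH) (Lpr_dt (f57130 IH) (Lpr_gt (f57131 IH) (Lpn (LP (LK LD1_c3 LD2_c19 LD3_c61)))))))))))))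
theorem f416558 : Led Lsl_gf (LP (LK LD1_c1 LD2_c36 LD3_c26)) = (LP (LK LD1_c3 LD2_c19 LD3_c61)) :=
  Lgr Lrot145 (Lpe (K17.f57141 IH) (Lpr_et (f415417 IH) (Lpr_gt (f416552 IH) (Lpr_dt (f68367 IH) (Lpr_gt (K16.f20137 IH) (Lpe (K0.f23215 IH) (Lpr_et (f23224 IH) (Lpr_gt (f58470 IH) (Lpe (f57603 IH) (Lpr_dt (f57604 IH) (Lpn (LP (LK LD1_c3 LD2_c19 LD3_c61)))))))))))))
theorem f57614 : Led Lsl_ct (LP (LK LD1_c6 LD2_c43 LD3_c53)) = (LP (LK LD1_c3 LD2_c19 LD3_c61)) :=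
  Lre_c IH (LK LD1_c6 LD2_c43 LD3_c53) (LK LD1_c3 LD2_c19 LD3_c61) Lrfl Lrfl
theorem f438321 : Led Lsl_gf (LP (LK LD1_c4 LD2_c43 LD3_c32)) = (LP (LK LD1_c6 LD2_c43 LD3_c53)) :=
  Lgr Lrot144 (Lpr_dt (f438317 IH) (Lpr_gt (f62487 IH) (Lpr_dt (f57122 IH) (Lpe (f57499 IH) (Lpe (K6.f57498 IH) (Lpe (K16.f57140 IH) (Lpe (f57142 IH) (Lpr_gf (f416558 IH) (Lpe (f57614 IH) (Lpn (LP (LK LD1_c6 LD2_c43 LD3_c53))))))))))))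
theorem f57610 : Led Lsl_ct (LP (LK LD1_c3 LD2_c19 LD3_c61)) = (LP (LK LD1_c6 LD2_c43 LD3_c53)) :=
  Lre_c IH (LK LD1_c3 LD2_c19 LD3_c61) (LK LD1_c6 LD2_c43 LD3_c53) Lrfl Lrfl
theorem f20100 : Led Lsl_et (LP (LK LD1_c0 LD2_c13 LD3_c51)) = (LP (LK LD1_c0 LD2_c31 LD3_c13)) :=
  Lre_e IH (LK LD1_c0 LD2_c13 LD3_c51) (LK LD1_c0 LD2_c31 LD3_c13) Lrfl Lrfl
theorem f143086 : Led Lsl_et (LP (LK LD1_c1 LD2_c8 LD3_c9)) = (LP (LK LD1_c0 LD2_c44 LD3_c43)) :=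
  Lgr Lrot69 (Lpe (K6.f92124 IH) (Lpe (f20100 IH) (Lpr_ff (K6.f143080 IH) (Lpe (K16.f57501 IH) (Lpe (K1.f57123 IH) (Lpn (LP (LK LD1_c0 LD2_c44 LD3_c43))))))))
theorem f146067 : Led Lsl_at (LP (LK LD1_c0 LD2_c44 LD3_c43)) = (LP (LK LD1_c1 LD2_c8 LD3_c16)) :=
  Lgr Lrot80 (Lpe (f143086 IH) (Lpe (K6.f146009 IH) (Lpr_ef (K6.f146064 IH) (Lpn (LP (LK LD1_c1 LD2_c8 LD3_c16))))))
theorem f437546 : Led Lsl_gt (LP (LK LD1_c0 LD2_c44 LD3_c40)) = (LP (LK LD1_c1 LD2_c8 LD3_c16)) :=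
  Lgr Lrot46 (Lpe (f57129 IH) (Lpr_ft (K6.f57195 IH) (Lpr_at (f146067 IH) (Lpn (LP (LK LD1_c1 LD2_c8 LD3_c16))))))
theorem f146060 : Led Lsl_cf (LP (LK LD1_c2 LD2_c13 LD3_c58)) = (LP (LK LD1_c1 LD2_c8 LD3_c16)) :=
  Lgr Lrot39 (Lpe (K6.f143125 IH) (Lpe (K6.f139840 IH) (Lpr_et (K6.f146053 IH) (Lpn (LP (LK LD1_c1 LD2_c8 LD3_c16))))))
theorem f143105 : Led Lsl_af (LP (LK LD1_c0 LD2_c37 LD3_c30)) = (LP (LK LD1_c1 LD2_c4 LD3_c0)) :=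
  Lgr Lrot50 (Lpr_et (K1.f56681 IH) (Lpr_at (K6.f143096 IH) (Lpr_et (K6.f37271 IH) (Lpn (LP (LK LD1_c1 LD2_c4 LD3_c0))))))
theorem f437954 : Led Lsl_gf (LP (LK LD1_c1 LD2_c21 LD3_c15)) = (LP (LK LD1_c2 LD2_c13 LD3_c58)) :=
  Lgr Lrot47 (Lpr_gt (f57152 IH) (Lpr_af (f143105 IH) (Lpe (K6.f143113 IH) (Lpn (LP (LK LD1_c2 LD2_c13 LD3_c58))))))
theorem f438323 : Led Lsl_cf (LP (LK LD1_c1 LD2_c6 LD3_c52)) = (LP (LK LD1_c1 LD2_c21 LD3_c15)) :=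
  Lgr Lrot99 (Lpe (f152206 IH) (Lpe (f152215 IH) (Lpr_gf (f438321 IH) (Lpe (f57610 IH) (Lpe (f57131 IH) (Lpe (f57130 IH) (Lpr_gt (f437546 IH) (Lpe (f146060 IH) (Lpe (f437954 IH) (Lpn (LP (LK LD1_c1 LD2_c21 LD3_c15))))))))))))
theorem f438333 : Led Lsl_ct (LP (LK LD1_c2 LD2_c19 LD3_c31)) = (LP (LK LD1_c2 LD2_c50 LD3_c31)) :=
  Lgr Lrot15 (Lpe (f152224 IH) (Lpr_cf (f438323 IH) (Lpe (f413478 IH) (Lpn (LP (LK LD1_c2 LD2_c50 LD3_c31))))))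
theorem f416599 : Led Lsl_dt (LP (LK LD1_c11 LD2_c48 LD3_c45)) = (LP (LK LD1_c9 LD2_c31 LD3_c21)) :=
  Lgr Lrot42 (Lpr_df (f416550 IH) (Lpn (LP (LK LD1_c9 LD2_c31 LD3_c21))))
theorem f413514 : Led Lsl_dt (LP (LK LD1_c5 LD2_c48 LD3_c59)) = (LP (LK LD1_c2 LD2_c50 LD3_c31)) :=
  Lre_d IH (LK LD1_c5 LD2_c48 LD3_c59) (LK LD1_c2 LD2_c50 LD3_c31) Lrfl Lrfl
theorem f416629 : Led Lsl_gt (LP (LK LD1_c2 LD2_c50 LD3_c31)) = (LP (LK LD1_c2 LD2_c22 LD3_c41)) :=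
  Lgr Lrot49 (Lpe (f413514 IH) (Lpe (f413480 IH) (Lpe (f413467 IH) (Lpr_gt (f416483 IH) (Lpr_dt (f416599 IH) (Lpr_gt (f414927 IH) (Lpr_dt (f414920 IH) (Lpr_cf (f414320 IH) (Lpe (f414316 IH) (Lpn (LP (LK LD1_c2 LD2_c22 LD3_c41))))))))))))
theorem f73754 : Led Lsl_dt (LP (LK LD1_c1 LD2_c38 LD3_c23)) = (LP (LK LD1_c0 LD2_c45 LD3_c35)) :=
  Lre_d IH (LK LD1_c1 LD2_c38 LD3_c23) (LK LD1_c0 LD2_c45 LD3_c35) Lrfl Lrfl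
theorem f438340 : Led Lsl_gt (LP (LK LD1_c2 LD2_c19 LD3_c31)) = (LP (LK LD1_c1 LD2_c38 LD3_c23)) :=
  Lgr Lrot180 (Lpr_ct (f438333 IH) (Lpr_gt (f416629 IH) (Lpr_dt (f414316 IH) (Lpe (f414318 IH) (Lpr_dt (K17.f61480 IH) (Lpe (K2.f61477 IH) (Lpr_df (K2.f73738 IH) (Lpe (K9.f73753 IH) (Lpe (f73754 IH) (Lpn (LP (LK LD1_c1 LD2_c38 LD3_c23))))))))))))
theorem f68314 : Led Lsl_gf (LP (LK LD1_c0 LD2_c18 LD3_c32)) = (LP (LK LD1_c0 LD2_c13 LD3_c38)) :=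
  Lgr Lrot76 (Lpr_af (K2.f66950 IH) (Lpr_ff (K2.f68304 IH) (Lpr_gt (K1.f61666 IH) (Lpn (LP (LK LD1_c0 LD2_c13 LD3_c38))))))
theorem f26065 : Led Lsl_gt (LP (LK LD1_c1 LD2_c7 LD3_c1)) = (LP (LK LD1_c0 LD2_c30 LD3_c42)) :=
  Lre_g IH (LK LD1_c1 LD2_c7 LD3_c1) (LK LD1_c0 LD2_c30 LD3_c42) Lrfl Lrfl
theorem f82572 : Led Lsl_gt (LP (LK LD1_c0 LD2_c18 LD3_c39)) = (LP (LK LD1_c0 LD2_c41 LD3_c46)) :=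
  Lre_g IH (LK LD1_c0 LD2_c18 LD3_c39) (LK LD1_c0 LD2_c41 LD3_c46) Lrfl Lrfl
theorem f82573 : Led Lsl_et (LP (LK LD1_c1 LD2_c30 LD3_c28)) = (LP (LK LD1_c0 LD2_c41 LD3_c46)) :=
  Lre_e IH (LK LD1_c1 LD2_c30 LD3_c28) (LK LD1_c0 LD2_c41 LD3_c46) Lrfl Lrfl
theorem f82574 : Led Lsl_dt (LP (LK LD1_c1 LD2_c30 LD3_c28)) = (LP (LK LD1_c1 LD2_c7 LD3_c1)) :=
  Lgr Lrot136 (Lpr_et (f82573 IH) (Lpe (f82572 IH) (Lpe (K7.f82571 IH) (Lpr_dt (K1.f24961 IH) (Lpe (K1.f25179 IH) (Lpe (K2.f25184 IH) (Lpr_gf (f68314 IH) (Lpe (K4.f26354 IH) (Lpr_dt (K11.f82566 IH) (Lpe (f26065 IH) (Lpn (LP (LK LD1_c1 LD2_c7 LD3_c1)))))))))))))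
theorem f82576 : Led Lsl_gt (LP (LK LD1_c3 LD2_c8 LD3_c36)) = (LP (LK LD1_c1 LD2_c30 LD3_c28)) :=
  Lre_g IH (LK LD1_c3 LD2_c8 LD3_c36) (LK LD1_c1 LD2_c30 LD3_c28) Lrfl Lrfl
theorem f82577 : Led Lsl_et (LP (LK LD1_c1 LD2_c38 LD3_c23)) = (LP (LK LD1_c3 LD2_c8 LD3_c36)) :=
  Lgr Lrot121 (Lpr_dt (f73754 IH) (Lpe (K9.f61207 IH) (Lpe (K2.f67075 IH) (Lpr_et (K1.f66937 IH) (Lpr_gf (f68314 IH) (Lpe (K4.f26354 IH) (Lpr_dt (K11.f82566 IH) (Lpe (f26065 IH) (Lpe (f82574 IH) (Lpe (f82576 IH) (Lpn (LP (LK LD1_c3 LD2_c8 LD3_c36)))))))))))))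
theorem f82579 : Led Lsl_ef (LP (LK LD1_c1 LD2_c38 LD3_c23)) = (LP (LK LD1_c3 LD2_c8 LD3_c36)) :=
  Lgr Lrot88 (Lpr_et (f82577 IH) (Lpn (LP (LK LD1_c3 LD2_c8 LD3_c36))))
theorem f445965 : Led Lsl_dt (LP (LK LD1_c3 LD2_c8 LD3_c36)) = (LP (LK LD1_c3 LD2_c13 LD3_c2)) :=
  Lgr Lrot136 (Lpe (f82579 IH) (Lpe (f438340 IH) (Lpe (f152224 IH) (Lpr_dt (f152216 IH) (Lpr_gf (f435268 IH) (Lpr_df (K11.f59484 IH) (Lpr_gf (f445956 IH) (Lpe (K11.f13571 IH) (Lpr_dt (K11.f13563 IH) (Lpe (K11.f79774 IH) (Lpn (LP (LK LD1_c3 LD2_c13 LD3_c2)))))))))))))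
theorem f73784 : Led Lsl_dt (LP (LK LD1_c0 LD2_c45 LD3_c35)) = (LP (LK LD1_c1 LD2_c38 LD3_c23)) :=
  Lre_d IH (LK LD1_c0 LD2_c45 LD3_c35) (LK LD1_c1 LD2_c38 LD3_c23) Lrfl Lrfl
theorem f445969 : Led Lsl_ef (LP (LK LD1_c1 LD2_c37 LD3_c39)) = (LP (LK LD1_c3 LD2_c13 LD3_c2)) :=
  Lgr Lrot73 (Lpe (f73779 IH) (Lpr_et (K9.f61208 IH) (Lpr_dt (f73784 IH) (Lpr_et (f82577 IH) (Lpr_dt (f445965 IH) (Lpn (LP (LK LD1_c3 LD2_c13 LD3_c2))))))))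
theorem f445973 : Led Lsl_et (LP (LK LD1_c1 LD2_c37 LD3_c39)) = (LP (LK LD1_c3 LD2_c13 LD3_c2)) :=
  Lgr Lrot87 (Lpr_ef (f445969 IH) (Lpn (LP (LK LD1_c3 LD2_c13 LD3_c2))))
theorem f76971 : Led Lsl_et (LP (LK LD1_c2 LD2_c22 LD3_c31)) = (LP (LK LD1_c1 LD2_c8 LD3_c22)) :=
  Lre_e IH (LK LD1_c2 LD2_c22 LD3_c31) (LK LD1_c1 LD2_c8 LD3_c22) Lrfl Lrfl
theorem f446006 : Led Lsl_cf (LP (LK LD1_c2 LD2_c22 LD3_c31)) = (LP (LK LD1_c3 LD2_c13 LD3_c2)) :=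
  Lgr Lrot39 (Lpr_et (f76971 IH) (Lpe (K17.f76934 IH) (Lpr_et (f445973 IH) (Lpn (LP (LK LD1_c3 LD2_c13 LD3_c2))))))
theorem f71328 : Led Lsl_at (LP (LK LD1_c1 LD2_c4 LD3_c46)) = (LP (LK LD1_c0 LD2_c38 LD3_c33)) :=
  Lgr Lrot100 (Lpr_af (K2.f71326 IH) (Lpn (LP (LK LD1_c0 LD2_c38 LD3_c33))))
theorem f82914 : Led Lsl_cf (LP (LK LD1_c1 LD2_c4 LD3_c46)) = (LP (LK LD1_c0 LD2_c30 LD3_c42)) :=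
  Lgr Lrot1 (Lpr_at (f71328 IH) (Lpr_ct (K4.f82893 IH) (Lpe (K4.f82876 IH) (Lpn (LP (LK LD1_c0 LD2_c30 LD3_c42))))))
theorem f452304 : Led Lsl_ct (LP (LK LD1_c2 LD2_c15 LD3_c27)) = K11.v343 :=
  Lgr Lrot40 (Lpe (K2.f71312 IH) (Lpr_cf (f82914 IH) (Lpr_ff (K11.f452302 IH) (Lpn K11.v343))))
theorem f71379 : Led Lsl_ft (LP (LK LD1_c1 LD2_c23 LD3_c23)) = (LP (LK LD1_c2 LD2_c54 LD3_c60)) :=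
  Lre_f IH (LK LD1_c1 LD2_c23 LD3_c23) (LK LD1_c2 LD2_c54 LD3_c60) Lrfl Lrfl
theorem f71380 : Led Lsl_gf (LP (LK LD1_c4 LD2_c36 LD3_c34)) = (LP (LK LD1_c2 LD2_c54 LD3_c58)) :=
  Lgr Lrot76 (Lpr_af (K2.f71359 IH) (Lpe (f71379 IH) (Lpr_gt (K0.f23785 IH) (Lpn (LP (LK LD1_c2 LD2_c54 LD3_c58))))))
theorem f452309 : Led Lsl_gt (LP (LK LD1_c2 LD2_c22 LD3_c31)) = (LP (LK LD1_c3 LD2_c14 LD3_c27)) :=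
  Lgr Lrot94 (Lpr_cf (f446006 IH) (Lpr_gt (K11.f79774 IH) (Lpr_dt (K11.f79748 IH) (Lpr_gt (K11.f452308 IH) (Lpr_dt (K11.f452305 IH) (Lpe (f452304 IH) (Lpe (K2.f71358 IH) (Lpr_gf (f71380 IH) (Lpr_df (K0.f23843 IH) (Lpn (LP (LK LD1_c3 LD2_c14 LD3_c27))))))))))))
theorem f452310 : Led Lsl_gt (LP (LK LD1_c2 LD2_c22 LD3_c31)) = (LP (LK LD1_c3 LD2_c14 LD3_c27)) :=
  Leop (Lpe (f452309 IH) (Lpn (LP (LK LD1_c2 LD2_c22 LD3_c31))))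
theorem seed_25 : LEOK LG_g (LK LD1_c2 LD2_c22 LD3_c31) :=
  Leoe_g (LK LD1_c2 LD2_c22 LD3_c31) (f452310 IH)
def v437 : LQ := Led Lsl_ft (LP (LK LD1_c0 LD2_c38 LD3_c24))
theorem f452815 : Led Lsl_ft (LP (LK LD1_c0 LD2_c38 LD3_c24)) = v437 :=
  Lrfl
theorem f169775 : Led Lsl_gt (LP (LK LD1_c0 LD2_c38 LD3_c24)) = (LP (LK LD1_c1 LD2_c22 LD3_c58)) :=
  Lre_g IH (LK LD1_c0 LD2_c38 LD3_c24) (LK LD1_c1 LD2_c22 LD3_c58) Lrfl Lrfl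
theorem f71317 : Led Lsl_af (LP (LK LD1_c0 LD2_c29 LD3_c37)) = (LP (LK LD1_c0 LD2_c17 LD3_c9)) :=
  Lgr Lrot0 (Lpr_at (K2.f71315 IH) (Lpn (LP (LK LD1_c0 LD2_c17 LD3_c9))))
theorem f71313 : Led Lsl_ft (LP (LK LD1_c0 LD2_c29 LD3_c37)) = (LP (LK LD1_c0 LD2_c17 LD3_c6)) :=
  Lgr Lrot48 (Lpr_ff (K2.f71308 IH) (Lpn (LP (LK LD1_c0 LD2_c17 LD3_c6))))
theorem f82229 : Led Lsl_af (LP (LK LD1_c0 LD2_c29 LD3_c34)) = (LP (LK LD1_c0 LD2_c17 LD3_c6)) :=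
  Lgr Lrot45 (Lpr_ft (K2.f82227 IH) (Lpe (f71317 IH) (Lpr_ft (f71313 IH) (Lpn (LP (LK LD1_c0 LD2_c17 LD3_c6))))))
theorem f82239 : Led Lsl_et (LP (LK LD1_c0 LD2_c29 LD3_c34)) = (LP (LK LD1_c1 LD2_c4 LD3_c37)) :=
  Lre_e IH (LK LD1_c0 LD2_c29 LD3_c34) (LK LD1_c1 LD2_c4 LD3_c37) Lrfl Lrfl
theorem f22471 : Led Lsl_et (LP (LK LD1_c0 LD2_c38 LD3_c24)) = (LP (LK LD1_c0 LD2_c17 LD3_c6)) :=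
  Lre_e IH (LK LD1_c0 LD2_c38 LD3_c24) (LK LD1_c0 LD2_c17 LD3_c6) Lrfl Lrfl
theorem f442461 : Led Lsl_at (LP (LK LD1_c1 LD2_c4 LD3_c37)) = (LP (LK LD1_c0 LD2_c38 LD3_c24)) :=
  Lgr Lrot80 (Lpe (f82239 IH) (Lpr_af (f82229 IH) (Lpe (f22471 IH) (Lpn (LP (LK LD1_c0 LD2_c38 LD3_c24))))))
theorem f452816 : Led Lsl_af (LP (LK LD1_c2 LD2_c15 LD3_c2)) = v437 :=
  Lgr Lrot45 (Lpr_ft (K2.f82225 IH) (Lpr_at (f442461 IH) (Lpr_ft (f452815 IH) (Lpn v437))))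
theorem f452820 : Led Lsl_gt (LP (LK LD1_c1 LD2_c22 LD3_c58)) = (LP (LK LD1_c2 LD2_c15 LD3_c2)) :=
  Lgr Lrot46 (Lpe (f169775 IH) (Lpr_ft (f452815 IH) (Lpe (f452816 IH) (Lpn (LP (LK LD1_c2 LD2_c15 LD3_c2))))))
theorem f452821 : Led Lsl_gt (LP (LK LD1_c1 LD2_c22 LD3_c58)) = (LP (LK LD1_c2 LD2_c15 LD3_c2)) :=
  Leop (Lpe (f452820 IH) (Lpn (LP (LK LD1_c1 LD2_c22 LD3_c58))))
theorem seed_26 : LEOK LG_g (LK LD1_c1 LD2_c22 LD3_c58) :=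
  Leoe_g (LK LD1_c1 LD2_c22 LD3_c58) (f452821 IH)
def v458 : LQ := Led Lsl_gf (LP (LK LD1_c0 LD2_c39 LD3_c46))
theorem f452964 : Led Lsl_gf (LP (LK LD1_c0 LD2_c39 LD3_c46)) = v458 :=
  Lrfl
theorem f452966 : Led Lsl_dt (LP (LK LD1_c1 LD2_c8 LD3_c17)) = v458 :=
  Lgr Lrot57 (Lpe (K8.f56894 IH) (Lpe (K3.f69677 IH) (Lpr_gt (K8.f79304 IH) (Lpr_dt (K4.f79305 IH) (Lpe (K4.f104948 IH) (Lpr_dt (K2.f74790 IH) (Lpe (K2.f74713 IH) (Lpr_df (K5.f75959 IH) (Lpr_gf (f452964 IH) (Lpn v458))))))))))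
theorem f452969 : Led Lsl_et (LP (LK LD1_c1 LD2_c8 LD3_c17)) = (LP (LK LD1_c2 LD2_c22 LD3_c17)) :=
  Lre_e IH (LK LD1_c1 LD2_c8 LD3_c17) (LK LD1_c2 LD2_c22 LD3_c17) Lrfl Lrfl
theorem f56918 : Led Lsl_gt (LP (LK LD1_c2 LD2_c22 LD3_c17)) = (LP (LK LD1_c4 LD2_c48 LD3_c48)) :=
  Lre_g IH (LK LD1_c2 LD2_c22 LD3_c17) (LK LD1_c4 LD2_c48 LD3_c48) Lrfl Lrfl
theorem f452972 : Led Lsl_et (LP (LK LD1_c9 LD2_c30 LD3_c8)) = (LP (LK LD1_c4 LD2_c48 LD3_c48)) :=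
  Lre_e IH (LK LD1_c9 LD2_c30 LD3_c8) (LK LD1_c4 LD2_c48 LD3_c48) Lrfl Lrfl
theorem f74277 : Led Lsl_at (LP (LK LD1_c0 LD2_c17 LD3_c49)) = (LP (LK LD1_c0 LD2_c39 LD3_c46)) :=
  Lre_a IH (LK LD1_c0 LD2_c17 LD3_c49) (LK LD1_c0 LD2_c39 LD3_c46) Lrfl Lrfl
theorem f452965 : Led Lsl_gt (LP (LK LD1_c0 LD2_c39 LD3_c48)) = v458 :=
  Lgr Lrot5 (Lpr_ft (K2.f72826 IH) (Lpr_at (f74277 IH) (Lpr_gf (f452964 IH) (Lpn v458))))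
theorem f442631 : Led Lsl_et (LP (LK LD1_c1 LD2_c23 LD3_c55)) = (LP (LK LD1_c0 LD2_c38 LD3_c45)) :=
  Lre_e IH (LK LD1_c1 LD2_c23 LD3_c55) (LK LD1_c0 LD2_c38 LD3_c45) Lrfl Lrfl
theorem f76297 : Led Lsl_dt (LP (LK LD1_c1 LD2_c23 LD3_c55)) = (LP (LK LD1_c2 LD2_c55 LD3_c58)) :=
  Lre_d IH (LK LD1_c1 LD2_c23 LD3_c55) (LK LD1_c2 LD2_c55 LD3_c58) Lrfl Lrfl
theorem f105167 : Led Lsl_gt (LP (LK LD1_c5 LD2_c59 LD3_c8)) = (LP (LK LD1_c2 LD2_c55 LD3_c58)) :=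
  Lre_g IH (LK LD1_c5 LD2_c59 LD3_c8) (LK LD1_c2 LD2_c55 LD3_c58) Lrfl Lrfl
theorem f452973 : Led Lsl_dt (LP (LK LD1_c9 LD2_c30 LD3_c8)) = (LP (LK LD1_c5 LD2_c59 LD3_c8)) :=
  Lgr Lrot136 (Lpr_et (f452972 IH) (Lpe (f56918 IH) (Lpe (f452969 IH) (Lpr_dt (f452966 IH) (Lpe (f452965 IH) (Lpe (K2.f72459 IH) (Lpe (K2.f72460 IH) (Lpe (f442631 IH) (Lpr_dt (f76297 IH) (Lpe (f105167 IH) (Lpn (LP (LK LD1_c5 LD2_c59 LD3_c8)))))))))))))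
theorem f452974 : Led Lsl_dt (LP (LK LD1_c9 LD2_c30 LD3_c8)) = (LP (LK LD1_c5 LD2_c59 LD3_c8)) :=
  Leop (Lpe (f452973 IH) (Lpn (LP (LK LD1_c9 LD2_c30 LD3_c8))))
theorem seed_27 : LEOK LG_d (LK LD1_c9 LD2_c30 LD3_c8) :=
  Leoe_d (LK LD1_c9 LD2_c30 LD3_c8) (f452974 IH)
def v463 : LQ := Led Lsl_at (LP (LK LD1_c0 LD2_c40 LD3_c48))
theorem f453024 : Led Lsl_at (LP (LK LD1_c0 LD2_c40 LD3_c48)) = v463 :=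
  Lrfl
theorem f453025 : Led Lsl_af (LP (LK LD1_c0 LD2_c40 LD3_c48)) = v463 :=
  Lgr Lrot0 (Lpr_at (f453024 IH) (Lpn v463))
theorem f453026 : Led Lsl_ft (LP (LK LD1_c0 LD2_c40 LD3_c49)) = v463 :=
  Lgr Lrot2 (Lpr_gt (K11.f59095 IH) (Lpr_gt (K11.f59086 IH) (Lpr_af (f453025 IH) (Lpn v463))))
theorem f453027 : Led Lsl_ff (LP (LK LD1_c0 LD2_c40 LD3_c49)) = v463 :=
  Lgr Lrot3 (Lpr_ft (f453026 IH) (Lpn v463))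
theorem f227847 : Led Lsl_bt (LP (LK LD1_c0 LD2_c40 LD3_c49)) = (LP (LK LD1_c0 LD2_c40 LD3_c49)) :=
  Lgr Lrot119 (Lpe (K12.f59148 IH) (Lpr_bf (K12.f227842 IH) (Lpe (K12.f69687 IH) (Lpn (LP (LK LD1_c0 LD2_c40 LD3_c49))))))
theorem f453028 : Led Lsl_bt v463 = v463 :=
  Lgr Lrot35 (Lpe (f453026 IH) (Lpe (f227847 IH) (Lpr_ff (f453027 IH) (Lpn v463))))
theorem f453029 : Led Lsl_af (LP (LK LD1_c1 LD2_c3 LD3_c57)) = (LP (LK LD1_c1 LD2_c3 LD3_c57)) :=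
  Lgr Lrot36 (Lpr_bt (K11.f211023 IH) (Lpr_at (f453024 IH) (Lpr_bt (f453028 IH) (Lpe (f453025 IH) (Lpe (K11.f211020 IH) (Lpn (LP (LK LD1_c1 LD2_c3 LD3_c57))))))))
theorem f453030 : Led Lsl_at (LP (LK LD1_c1 LD2_c3 LD3_c57)) = (LP (LK LD1_c1 LD2_c3 LD3_c57)) :=
  Leop (Lpr_af (f453029 IH) (Lpn (LP (LK LD1_c1 LD2_c3 LD3_c57))))
theorem seed_28 : LEOK LG_a (LK LD1_c1 LD2_c3 LD3_c57) :=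
  Leoe_a (LK LD1_c1 LD2_c3 LD3_c57) (f453030 IH)
def v532 : LQ := Led Lsl_ft (LP (LK LD1_c0 LD2_c43 LD3_c57))
theorem f453811 : Led Lsl_ft (LP (LK LD1_c0 LD2_c43 LD3_c57)) = v532 :=
  Lrfl
theorem f65478 : Led Lsl_gt (LP (LK LD1_c0 LD2_c43 LD3_c57)) = (LP (LK LD1_c1 LD2_c34 LD3_c34)) :=
  Lre_g IH (LK LD1_c0 LD2_c43 LD3_c57) (LK LD1_c1 LD2_c34 LD3_c34) Lrfl Lrfl
theorem f130796 : Led Lsl_ft (LP (LK LD1_c3 LD2_c1 LD3_c58)) = (LP (LK LD1_c1 LD2_c27 LD3_c0)) :=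
  Lre_f IH (LK LD1_c3 LD2_c1 LD3_c58) (LK LD1_c1 LD2_c27 LD3_c0) Lrfl Lrfl
theorem f453812 : Led Lsl_af (LP (LK LD1_c3 LD2_c1 LD3_c58)) = v532 :=
  Lgr Lrot45 (Lpr_ft (f130796 IH) (Lpe (K5.f130780 IH) (Lpr_ft (f453811 IH) (Lpn v532))))
theorem f453814 : Led Lsl_gt (LP (LK LD1_c1 LD2_c34 LD3_c34)) = (LP (LK LD1_c3 LD2_c1 LD3_c58)) :=
  Lgr Lrot46 (Lpe (f65478 IH) (Lpr_ft (f453811 IH) (Lpe (f453812 IH) (Lpn (LP (LK LD1_c3 LD2_c1 LD3_c58))))))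
theorem f453815 : Led Lsl_gt (LP (LK LD1_c1 LD2_c34 LD3_c34)) = (LP (LK LD1_c3 LD2_c1 LD3_c58)) :=
  Leop (Lpe (f453814 IH) (Lpn (LP (LK LD1_c1 LD2_c34 LD3_c34))))
theorem seed_29 : LEOK LG_g (LK LD1_c1 LD2_c34 LD3_c34) :=
  Leoe_g (LK LD1_c1 LD2_c34 LD3_c34) (f453815 IH)
def v547 : LQ := Led Lsl_et (LP (LK LD1_c0 LD2_c44 LD3_c23))
theorem f453905 : Led Lsl_et (LP (LK LD1_c0 LD2_c44 LD3_c23)) = v547 :=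
  Lrfl
theorem f453907 : Led Lsl_ef (LP (LK LD1_c0 LD2_c44 LD3_c23)) = v547 :=
  Lgr Lrot88 (Lpr_et (f453905 IH) (Lpn v547))
theorem f416439 : Led Lsl_gt (LP (LK LD1_c0 LD2_c44 LD3_c23)) = (LP (LK LD1_c1 LD2_c34 LD3_c57)) :=
  Lre_g IH (LK LD1_c0 LD2_c44 LD3_c23) (LK LD1_c1 LD2_c34 LD3_c57) Lrfl Lrfl
theorem f66034 : Led Lsl_dt (LP (LK LD1_c1 LD2_c34 LD3_c57)) = (LP (LK LD1_c3 LD2_c1 LD3_c47)) :=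
  Lre_d IH (LK LD1_c1 LD2_c34 LD3_c57) (LK LD1_c3 LD2_c1 LD3_c47) Lrfl Lrfl
theorem f443614 : Led Lsl_dt (LP (LK LD1_c3 LD2_c2 LD3_c20)) = (LP (LK LD1_c1 LD2_c27 LD3_c8)) :=
  Lre_d IH (LK LD1_c3 LD2_c2 LD3_c20) (LK LD1_c1 LD2_c27 LD3_c8) Lrfl Lrfl
theorem f58452 : Led Lsl_et (LP (LK LD1_c1 LD2_c26 LD3_c39)) = (LP (LK LD1_c3 LD2_c1 LD3_c23)) :=
  Lre_e IH (LK LD1_c1 LD2_c26 LD3_c39) (LK LD1_c3 LD2_c1 LD3_c23) Lrfl Lrfl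
theorem f58383 : Led Lsl_gt (LP (LK LD1_c3 LD2_c1 LD3_c23)) = (LP (LK LD1_c6 LD2_c9 LD3_c50)) :=
  Lre_g IH (LK LD1_c3 LD2_c1 LD3_c23) (LK LD1_c6 LD2_c9 LD3_c50) Lrfl Lrfl
theorem f443613 : Led Lsl_et (LP (LK LD1_c0 LD2_c19 LD3_c46)) = (LP (LK LD1_c0 LD2_c8 LD3_c51)) :=
  Lre_e IH (LK LD1_c0 LD2_c19 LD3_c46) (LK LD1_c0 LD2_c8 LD3_c51) Lrfl Lrfl
theorem f66027 : Led Lsl_dt (LP (LK LD1_c0 LD2_c19 LD3_c46)) = (LP (LK LD1_c0 LD2_c40 LD3_c20)) :=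
  Lre_d IH (LK LD1_c0 LD2_c19 LD3_c46) (LK LD1_c0 LD2_c40 LD3_c20) Lrfl Lrfl
theorem f443615 : Led Lsl_ef (LP (LK LD1_c6 LD2_c9 LD3_c50)) = (LP (LK LD1_c3 LD2_c2 LD3_c20)) :=
  Lgr Lrot17 (Lpe (f58383 IH) (Lpe (f58452 IH) (Lpr_dt (K3.f18896 IH) (Lpe (K1.f18905 IH) (Lpr_df (K3.f64464 IH) (Lpe (K2.f57109 IH) (Lpe (f443613 IH) (Lpr_dt (f66027 IH) (Lpe (K5.f130828 IH) (Lpe (f443614 IH) (Lpn (LP (LK LD1_c3 LD2_c2 LD3_c20)))))))))))))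
theorem f62080 : Led Lsl_gt (LP (LK LD1_c6 LD2_c9 LD3_c50)) = (LP (LK LD1_c3 LD2_c2 LD3_c22)) :=
  Lre_g IH (LK LD1_c6 LD2_c9 LD3_c50) (LK LD1_c3 LD2_c2 LD3_c22) Lrfl Lrfl
theorem f62172 : Led Lsl_et (LP (LK LD1_c1 LD2_c27 LD3_c9)) = (LP (LK LD1_c3 LD2_c2 LD3_c22)) :=
  Lre_e IH (LK LD1_c1 LD2_c27 LD3_c9) (LK LD1_c3 LD2_c2 LD3_c22) Lrfl Lrfl
theorem f62171 : Led Lsl_dt (LP (LK LD1_c1 LD2_c27 LD3_c9)) = (LP (LK LD1_c0 LD2_c44 LD3_c25)) :=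
  Lre_d IH (LK LD1_c1 LD2_c27 LD3_c9) (LK LD1_c0 LD2_c44 LD3_c25) Lrfl Lrfl
theorem f140003 : Led Lsl_gt (LP (LK LD1_c0 LD2_c44 LD3_c25)) = (LP (LK LD1_c1 LD2_c34 LD3_c56)) :=
  Lre_g IH (LK LD1_c0 LD2_c44 LD3_c25) (LK LD1_c1 LD2_c34 LD3_c56) Lrfl Lrfl
theorem f453910 : Led Lsl_df (LP (LK LD1_c1 LD2_c34 LD3_c56)) = v547 :=
  Lgr Lrot168 (Lpe (f140003 IH) (Lpe (f62171 IH) (Lpr_et (f62172 IH) (Lpe (f62080 IH) (Lpr_ef (f443615 IH) (Lpr_dt (f443614 IH) (Lpe (K5.f66035 IH) (Lpe (f66034 IH) (Lpe (f416439 IH) (Lpr_ef (f453907 IH) (Lpn v547)))))))))))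
theorem f453914 : Led Lsl_et (LP (LK LD1_c1 LD2_c34 LD3_c56)) = (LP (LK LD1_c3 LD2_c16 LD3_c27)) :=
  Lre_e IH (LK LD1_c1 LD2_c34 LD3_c56) (LK LD1_c3 LD2_c16 LD3_c27) Lrfl Lrfl
theorem f453906 : Led Lsl_et (LP (LK LD1_c3 LD2_c18 LD3_c29)) = (LP (LK LD1_c1 LD2_c35 LD3_c41)) :=
  Lre_e IH (LK LD1_c3 LD2_c18 LD3_c29) (LK LD1_c1 LD2_c35 LD3_c41) Lrfl Lrfl
theorem f453915 : Led Lsl_dt (LP (LK LD1_c3 LD2_c16 LD3_c27)) = (LP (LK LD1_c3 LD2_c18 LD3_c29)) :=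
  Lgr Lrot77 (Lpe (f453914 IH) (Lpr_df (f453910 IH) (Lpe (f453905 IH) (Lpe (K5.f130806 IH) (Lpe (f453906 IH) (Lpn (LP (LK LD1_c3 LD2_c18 LD3_c29))))))))
theorem f453916 : Led Lsl_dt (LP (LK LD1_c3 LD2_c16 LD3_c27)) = (LP (LK LD1_c3 LD2_c18 LD3_c29)) :=
  Leop (Lpe (f453915 IH) (Lpn (LP (LK LD1_c3 LD2_c16 LD3_c27))))
theorem seed_30 : LEOK LG_d (LK LD1_c3 LD2_c16 LD3_c27) :=
  Leoe_d (LK LD1_c3 LD2_c16 LD3_c27) (f453916 IH)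
def v565 : LQ := Led Lsl_ft (LP (LK LD1_c0 LD2_c44 LD3_c54))
theorem f454032 : Led Lsl_ft (LP (LK LD1_c0 LD2_c44 LD3_c54)) = v565 :=
  Lrfl
theorem f454035 : Led Lsl_ff (LP (LK LD1_c0 LD2_c44 LD3_c54)) = v565 :=
  Lgr Lrot3 (Lpr_ft (f454032 IH) (Lpn v565))
def v564 : LQ := Led Lsl_at (LP (LK LD1_c0 LD2_c44 LD3_c54))
theorem f454024 : Led Lsl_at (LP (LK LD1_c0 LD2_c44 LD3_c54)) = v564 :=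
  Lrfl
def v134 : LQ := Led Lsl_at (LP (LK LD1_c0 LD2_c19 LD3_c55))
theorem f450660 : Led Lsl_at (LP (LK LD1_c0 LD2_c19 LD3_c55)) = v134 :=
  Lrfl
theorem f450661 : Led Lsl_af (LP (LK LD1_c0 LD2_c19 LD3_c55)) = v134 :=
  Lgr Lrot0 (Lpr_at (f450660 IH) (Lpn v134))
theorem f454027 : Led Lsl_df v134 = v564 :=
  Lgr Lrot18 (Lpe (f450661 IH) (Lpr_dt (K16.f139925 IH) (Lpr_at (f454024 IH) (Lpn v564))))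
theorem f450664 : Led Lsl_ft (LP (LK LD1_c0 LD2_c19 LD3_c56)) = v134 :=
  Lgr Lrot2 (Lpr_gt (K17.f27136 IH) (Lpr_gt (K0.f23179 IH) (Lpr_af (f450661 IH) (Lpn v134))))
theorem f450665 : Led Lsl_ff (LP (LK LD1_c0 LD2_c19 LD3_c56)) = v134 :=
  Lgr Lrot3 (Lpr_ft (f450664 IH) (Lpn v134))
theorem f454029 : Led Lsl_ft (LP (LK LD1_c0 LD2_c44 LD3_c58)) = v564 :=
  Lgr Lrot54 (Lpe (K16.f140981 IH) (Lpr_ff (f450665 IH) (Lpr_df (f454027 IH) (Lpn v564))))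
theorem f454030 : Led Lsl_ff (LP (LK LD1_c0 LD2_c44 LD3_c58)) = v564 :=
  Lgr Lrot3 (Lpr_ft (f454029 IH) (Lpn v564))
theorem f454036 : Led Lsl_at (LP (LK LD1_c0 LD2_c44 LD3_c58)) = v565 :=
  Lgr Lrot66 (Lpr_ff (f454030 IH) (Lpe (f454024 IH) (Lpr_ff (f454035 IH) (Lpn v565))))
theorem f415237 : Led Lsl_et (LP (LK LD1_c0 LD2_c31 LD3_c18)) = (LP (LK LD1_c0 LD2_c44 LD3_c58)) :=
  Lgr Lrot158 (Lpe (K17.f413732 IH) (Lpr_ef (K16.f415232 IH) (Lpe (K16.f413535 IH) (Lpn (LP (LK LD1_c0 LD2_c44 LD3_c58))))))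
def v357 : LQ := Led Lsl_at (LP (LK LD1_c0 LD2_c31 LD3_c18))
theorem f452392 : Led Lsl_at (LP (LK LD1_c0 LD2_c31 LD3_c18)) = v357 :=
  Lrfl
theorem f452393 : Led Lsl_af (LP (LK LD1_c0 LD2_c31 LD3_c18)) = v357 :=
  Lgr Lrot0 (Lpr_at (f452392 IH) (Lpn v357))
theorem f454038 : Led Lsl_ef v357 = v565 :=
  Lgr Lrot20 (Lpe (f452393 IH) (Lpr_et (f415237 IH) (Lpr_at (f454036 IH) (Lpn v565))))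
theorem f452394 : Led Lsl_ft (LP (LK LD1_c0 LD2_c31 LD3_c19)) = v357 :=
  Lgr Lrot2 (Lpr_gt (K0.f22865 IH) (Lpr_gt (K16.f68366 IH) (Lpr_af (f452393 IH) (Lpn v357))))
theorem f452395 : Led Lsl_ff (LP (LK LD1_c0 LD2_c31 LD3_c19)) = v357 :=
  Lgr Lrot3 (Lpr_ft (f452394 IH) (Lpn v357))
theorem f454040 : Led Lsl_ft (LP (LK LD1_c1 LD2_c8 LD3_c30)) = (LP (LK LD1_c1 LD2_c37 LD3_c2)) :=
  Lgr Lrot86 (Lpe (f23202 IH) (Lpr_ff (f452395 IH) (Lpr_ef (f454038 IH) (Lpe (f454032 IH) (Lpe (f23205 IH) (Lpn (LP (LK LD1_c1 LD2_c37 LD3_c2))))))))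
theorem f454041 : Led Lsl_ft (LP (LK LD1_c1 LD2_c8 LD3_c30)) = (LP (LK LD1_c1 LD2_c37 LD3_c2)) :=
  Leop (Lpe (f454040 IH) (Lpn (LP (LK LD1_c1 LD2_c8 LD3_c30))))
theorem seed_31 : LEOK LG_f (LK LD1_c1 LD2_c8 LD3_c30) :=
  Leoe_f (LK LD1_c1 LD2_c8 LD3_c30) (f454041 IH)
def v573 : LQ := Led Lsl_gf (LP (LK LD1_c0 LD2_c45 LD3_c38))
theorem f454827 : Led Lsl_gf (LP (LK LD1_c0 LD2_c45 LD3_c38)) = v573 :=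
  Lrfl
theorem f40479 : Led Lsl_gt (LP (LK LD1_c1 LD2_c56 LD3_c34)) = (LP (LK LD1_c3 LD2_c59 LD3_c50)) :=
  Lre_g IH (LK LD1_c1 LD2_c56 LD3_c34) (LK LD1_c3 LD2_c59 LD3_c50) Lrfl Lrfl
theorem f40482 : Led Lsl_bt (LP (LK LD1_c8 LD2_c0 LD3_c44)) = (LP (LK LD1_c3 LD2_c59 LD3_c50)) :=
  Lre_b IH (LK LD1_c8 LD2_c0 LD3_c44) (LK LD1_c3 LD2_c59 LD3_c50) Lrfl Lrfl
theorem f415317 : Led Lsl_dt (LP (LK LD1_c2 LD2_c22 LD3_c55)) = (LP (LK LD1_c1 LD2_c27 LD3_c22)) :=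
  Lgr Lrot42 (Lpr_df (K16.f415309 IH) (Lpn (LP (LK LD1_c1 LD2_c27 LD3_c22))))
theorem f20139 : Led Lsl_gt (LP (LK LD1_c1 LD2_c8 LD3_c32)) = (LP (LK LD1_c0 LD2_c44 LD3_c60)) :=
  Lre_g IH (LK LD1_c1 LD2_c8 LD3_c32) (LK LD1_c0 LD2_c44 LD3_c60) Lrfl Lrfl
theorem f413493 : Led Lsl_ct (LP (LK LD1_c1 LD2_c27 LD3_c22)) = (LP (LK LD1_c3 LD2_c2 LD3_c50)) :=
  Lre_c IH (LK LD1_c1 LD2_c27 LD3_c22) (LK LD1_c3 LD2_c2 LD3_c50) Lrfl Lrfl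
theorem f413494 : Led Lsl_df (LP (LK LD1_c3 LD2_c2 LD3_c50)) = (LP (LK LD1_c3 LD2_c59 LD3_c14)) :=
  Lgr Lrot38 (Lpr_dt (K16.f413487 IH) (Lpn (LP (LK LD1_c3 LD2_c59 LD3_c14))))
theorem f77380 : Led Lsl_at (LP (LK LD1_c1 LD2_c56 LD3_c37)) = (LP (LK LD1_c1 LD2_c11 LD3_c4)) :=
  Lgr Lrot107 (Lpr_cf (K2.f40467 IH) (Lpe (K9.f77348 IH) (Lpr_cf (K9.f77374 IH) (Lpn (LP (LK LD1_c1 LD2_c11 LD3_c4))))))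
theorem f36266 : Led Lsl_ft (LP (LK LD1_c0 LD2_c55 LD3_c3)) = (LP (LK LD1_c1 LD2_c56 LD3_c37)) :=
  Lre_f IH (LK LD1_c0 LD2_c55 LD3_c3) (LK LD1_c1 LD2_c56 LD3_c37) Lrfl Lrfl
theorem f40470 : Led Lsl_gt (LP (LK LD1_c0 LD2_c55 LD3_c3)) = (LP (LK LD1_c1 LD2_c56 LD3_c35)) :=
  Lre_g IH (LK LD1_c0 LD2_c55 LD3_c3) (LK LD1_c1 LD2_c56 LD3_c35) Lrfl Lrfl
theorem f77388 : Led Lsl_gt (LP (LK LD1_c1 LD2_c56 LD3_c35)) = (LP (LK LD1_c1 LD2_c11 LD3_c4)) :=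
  Lgr Lrot46 (Lpe (f40470 IH) (Lpr_ft (f36266 IH) (Lpr_at (f77380 IH) (Lpn (LP (LK LD1_c1 LD2_c11 LD3_c4))))))
theorem f415547 : Led Lsl_cf (LP (LK LD1_c1 LD2_c8 LD3_c32)) = (LP (LK LD1_c1 LD2_c56 LD3_c35)) :=
  Lgr Lrot166 (Lpr_gt (f20139 IH) (Lpr_dt (K16.f23820 IH) (Lpr_gt (K16.f23821 IH) (Lpr_dt (f415317 IH) (Lpr_ct (f413493 IH) (Lpr_df (f413494 IH) (Lpr_gf (K16.f40945 IH) (Lpe (K16.f40931 IH) (Lpe (f77388 IH) (Lpn (LP (LK LD1_c1 LD2_c56 LD3_c35))))))))))))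
theorem f140706 : Led Lsl_ct (LP (LK LD1_c1 LD2_c5 LD3_c10)) = (LP (LK LD1_c0 LD2_c44 LD3_c60)) :=
  Lre_c IH (LK LD1_c1 LD2_c5 LD3_c10) (LK LD1_c0 LD2_c44 LD3_c60) Lrfl Lrfl
theorem f415558 : Led Lsl_bt (LP (LK LD1_c1 LD2_c5 LD3_c10)) = (LP (LK LD1_c2 LD2_c16 LD3_c14)) :=
  Lre_b IH (LK LD1_c1 LD2_c5 LD3_c10) (LK LD1_c2 LD2_c16 LD3_c14) Lrfl Lrfl
theorem f415559 : Led Lsl_gt (LP (LK LD1_c2 LD2_c16 LD3_c14)) = (LP (LK LD1_c4 LD2_c37 LD3_c44)) :=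
  Lre_g IH (LK LD1_c2 LD2_c16 LD3_c14) (LK LD1_c4 LD2_c37 LD3_c44) Lrfl Lrfl
theorem f415560 : Led Lsl_bt (LP (LK LD1_c9 LD2_c11 LD3_c5)) = (LP (LK LD1_c4 LD2_c37 LD3_c44)) :=
  Lre_b IH (LK LD1_c9 LD2_c11 LD3_c5) (LK LD1_c4 LD2_c37 LD3_c44) Lrfl Lrfl
theorem f40510 : Led Lsl_ct (LP (LK LD1_c1 LD2_c56 LD3_c34)) = (LP (LK LD1_c3 LD2_c59 LD3_c49)) :=
  Lre_c IH (LK LD1_c1 LD2_c56 LD3_c34) (LK LD1_c3 LD2_c59 LD3_c49) Lrfl Lrfl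
theorem f40447 : Led Lsl_gt (LP (LK LD1_c8 LD2_c0 LD3_c41)) = (LP (LK LD1_c3 LD2_c59 LD3_c49)) :=
  Lre_g IH (LK LD1_c8 LD2_c0 LD3_c41) (LK LD1_c3 LD2_c59 LD3_c49) Lrfl Lrfl
theorem f415561 : Led Lsl_ct (LP (LK LD1_c9 LD2_c11 LD3_c5)) = (LP (LK LD1_c8 LD2_c0 LD3_c41)) :=
  Lgr Lrot64 (Lpr_bt (f415560 IH) (Lpe (f415559 IH) (Lpe (f415558 IH) (Lpr_ct (f140706 IH) (Lpe (f20139 IH) (Lpr_cf (f415547 IH) (Lpe (f40470 IH) (Lpe (K2.f40433 IH) (Lpr_ct (f40510 IH) (Lpe (f40447 IH) (Lpn (LP (LK LD1_c8 LD2_c0 LD3_c41)))))))))))))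
theorem f142127 : Led Lsl_gt (LP (LK LD1_c4 LD2_c37 LD3_c44)) = (LP (LK LD1_c2 LD2_c16 LD3_c2)) :=
  Lre_g IH (LK LD1_c4 LD2_c37 LD3_c44) (LK LD1_c2 LD2_c16 LD3_c2) Lrfl Lrfl
theorem f415603 : Led Lsl_bt (LP (LK LD1_c1 LD2_c23 LD3_c60)) = (LP (LK LD1_c2 LD2_c16 LD3_c2)) :=
  Lre_b IH (LK LD1_c1 LD2_c23 LD3_c60) (LK LD1_c2 LD2_c16 LD3_c2) Lrfl Lrfl
theorem f74627 : Led Lsl_ct (LP (LK LD1_c1 LD2_c23 LD3_c60)) = (LP (LK LD1_c2 LD2_c56 LD3_c4)) :=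
  Lre_c IH (LK LD1_c1 LD2_c23 LD3_c60) (LK LD1_c2 LD2_c56 LD3_c4) Lrfl Lrfl
theorem f139233 : Led Lsl_gt (LP (LK LD1_c2 LD2_c56 LD3_c4)) = (LP (LK LD1_c5 LD2_c59 LD3_c24)) :=
  Lre_g IH (LK LD1_c2 LD2_c56 LD3_c4) (LK LD1_c5 LD2_c59 LD3_c24) Lrfl Lrfl
theorem f414044 : Led Lsl_gt (LP (LK LD1_c15 LD2_c5 LD3_c1)) = (LP (LK LD1_c8 LD2_c0 LD3_c41)) :=
  Lre_g IH (LK LD1_c15 LD2_c5 LD3_c1) (LK LD1_c8 LD2_c0 LD3_c41) Lrfl Lrfl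
theorem f414024 : Led Lsl_ct (LP (LK LD1_c8 LD2_c0 LD3_c24)) = (LP (LK LD1_c15 LD2_c5 LD3_c1)) :=
  Lre_c IH (LK LD1_c8 LD2_c0 LD3_c24) (LK LD1_c15 LD2_c5 LD3_c1) Lrfl Lrfl
theorem f414039 : Led Lsl_gt (LP (LK LD1_c3 LD2_c59 LD3_c50)) = (LP (LK LD1_c8 LD2_c0 LD3_c24)) :=
  Lre_g IH (LK LD1_c3 LD2_c59 LD3_c50) (LK LD1_c8 LD2_c0 LD3_c24) Lrfl Lrfl
theorem f415604 : Led Lsl_cf (LP (LK LD1_c5 LD2_c59 LD3_c24)) = (LP (LK LD1_c8 LD2_c0 LD3_c44)) :=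
  Lgr Lrot58 (Lpe (f139233 IH) (Lpe (f74627 IH) (Lpr_bt (f415603 IH) (Lpe (f142127 IH) (Lpe (f415560 IH) (Lpr_ct (f415561 IH) (Lpe (f414044 IH) (Lpe (f414024 IH) (Lpe (f414039 IH) (Lpe (f40482 IH) (Lpn (LP (LK LD1_c8 LD2_c0 LD3_c44)))))))))))))
theorem f105083 : Led Lsl_gt (LP (LK LD1_c5 LD2_c59 LD3_c24)) = (LP (LK LD1_c2 LD2_c56 LD3_c45)) :=
  Lre_g IH (LK LD1_c5 LD2_c59 LD3_c24) (LK LD1_c2 LD2_c56 LD3_c45) Lrfl Lrfl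
theorem f415621 : Led Lsl_ct (LP (LK LD1_c1 LD2_c24 LD3_c11)) = (LP (LK LD1_c2 LD2_c56 LD3_c45)) :=
  Lre_c IH (LK LD1_c1 LD2_c24 LD3_c11) (LK LD1_c2 LD2_c56 LD3_c45) Lrfl Lrfl
theorem f415622 : Led Lsl_bt (LP (LK LD1_c1 LD2_c24 LD3_c11)) = (LP (LK LD1_c0 LD2_c38 LD3_c59)) :=
  Lre_b IH (LK LD1_c1 LD2_c24 LD3_c11) (LK LD1_c0 LD2_c38 LD3_c59) Lrfl Lrfl
theorem f140933 : Led Lsl_gt (LP (LK LD1_c0 LD2_c38 LD3_c59)) = (LP (LK LD1_c1 LD2_c5 LD3_c9)) :=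
  Lre_g IH (LK LD1_c0 LD2_c38 LD3_c59) (LK LD1_c1 LD2_c5 LD3_c9) Lrfl Lrfl
theorem f454829 : Led Lsl_ct (LP (LK LD1_c1 LD2_c5 LD3_c9)) = v573 :=
  Lgr Lrot91 (Lpe (f140933 IH) (Lpe (f415622 IH) (Lpr_ct (f415621 IH) (Lpe (f105083 IH) (Lpr_cf (f415604 IH) (Lpr_bt (f40482 IH) (Lpe (f40479 IH) (Lpe (f40284 IH) (Lpr_ct (K2.f40436 IH) (Lpr_gf (f454827 IH) (Lpn v573)))))))))))
theorem f174605 : Led Lsl_gt (LP (LK LD1_c1 LD2_c5 LD3_c9)) = (LP (LK LD1_c0 LD2_c29 LD3_c46)) :=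
  Lre_g IH (LK LD1_c1 LD2_c5 LD3_c9) (LK LD1_c0 LD2_c29 LD3_c46) Lrfl Lrfl
theorem f23122 : Led Lsl_dt (LP (LK LD1_c0 LD2_c29 LD3_c46)) = (LP (LK LD1_c1 LD2_c3 LD3_c53)) :=
  Lre_d IH (LK LD1_c0 LD2_c29 LD3_c46) (LK LD1_c1 LD2_c3 LD3_c53) Lrfl Lrfl
theorem f140142 : Led Lsl_gt (LP (LK LD1_c1 LD2_c3 LD3_c53)) = (LP (LK LD1_c2 LD2_c13 LD3_c45)) :=
  Lre_g IH (LK LD1_c1 LD2_c3 LD3_c53) (LK LD1_c2 LD2_c13 LD3_c45) Lrfl Lrfl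
theorem f140281 : Led Lsl_dt (LP (LK LD1_c2 LD2_c13 LD3_c45)) = (LP (LK LD1_c4 LD2_c33 LD3_c46)) :=
  Lre_d IH (LK LD1_c2 LD2_c13 LD3_c45) (LK LD1_c4 LD2_c33 LD3_c46) Lrfl Lrfl
theorem f83266 : Led Lsl_ft (LP (LK LD1_c1 LD2_c30 LD3_c49)) = (LP (LK LD1_c3 LD2_c9 LD3_c21)) :=
  Lre_f IH (LK LD1_c1 LD2_c30 LD3_c49) (LK LD1_c3 LD2_c9 LD3_c21) Lrfl Lrfl
theorem f83267 : Led Lsl_dt (LP (LK LD1_c0 LD2_c45 LD3_c38)) = (LP (LK LD1_c1 LD2_c30 LD3_c49)) :=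
  Lgr Lrot60 (Lpe (K9.f40501 IH) (Lpr_df (K2.f83255 IH) (Lpe (f83266 IH) (Lpn (LP (LK LD1_c1 LD2_c30 LD3_c49))))))
theorem f83711 : Led Lsl_gt (LP (LK LD1_c1 LD2_c30 LD3_c49)) = (LP (LK LD1_c3 LD2_c9 LD3_c19)) :=
  Lre_g IH (LK LD1_c1 LD2_c30 LD3_c49) (LK LD1_c3 LD2_c9 LD3_c19) Lrfl Lrfl
def v563 : LQ := Led Lsl_ft (LP (LK LD1_c0 LD2_c44 LD3_c53))
theorem f454016 : Led Lsl_ft (LP (LK LD1_c0 LD2_c44 LD3_c53)) = v563 :=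
  Lrfl
theorem f454019 : Led Lsl_ff (LP (LK LD1_c0 LD2_c44 LD3_c53)) = v563 :=
  Lgr Lrot3 (Lpr_ft (f454016 IH) (Lpn v563))
def v135 : LQ := Led Lsl_ft (LP (LK LD1_c0 LD2_c19 LD3_c55))
theorem f450666 : Led Lsl_ft (LP (LK LD1_c0 LD2_c19 LD3_c55)) = v135 :=
  Lrfl
theorem f454021 : Led Lsl_ct v135 = v563 :=
  Lgr Lrot40 (Lpe (f450666 IH) (Lpe (K16.f413451 IH) (Lpr_ff (f454019 IH) (Lpn v563))))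
theorem f446137 : Led Lsl_df (LP (LK LD1_c1 LD2_c8 LD3_c30)) = (LP (LK LD1_c1 LD2_c37 LD3_c2)) :=
  Lgr Lrot38 (Lpr_dt (f23206 IH) (Lpn (LP (LK LD1_c1 LD2_c37 LD3_c2))))
theorem f23236 : Led Lsl_et (LP (LK LD1_c1 LD2_c5 LD3_c42)) = (LP (LK LD1_c2 LD2_c17 LD3_c37)) :=
  Lre_e IH (LK LD1_c1 LD2_c5 LD3_c42) (LK LD1_c2 LD2_c17 LD3_c37) Lrfl Lrfl
theorem f415305 : Led Lsl_et (LP (LK LD1_c0 LD2_c44 LD3_c59)) = (LP (LK LD1_c0 LD2_c19 LD3_c56)) :=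
  Lre_e IH (LK LD1_c0 LD2_c44 LD3_c59) (LK LD1_c0 LD2_c19 LD3_c56) Lrfl Lrfl
theorem f22523 : Led Lsl_dt (LP (LK LD1_c1 LD2_c37 LD3_c14)) = (LP (LK LD1_c0 LD2_c44 LD3_c59)) :=
  Lre_d IH (LK LD1_c1 LD2_c37 LD3_c14) (LK LD1_c0 LD2_c44 LD3_c59) Lrfl Lrfl
theorem f415306 : Led Lsl_et (LP (LK LD1_c1 LD2_c8 LD3_c27)) = (LP (LK LD1_c1 LD2_c37 LD3_c14)) :=
  Lgr Lrot71 (Lpe (f76974 IH) (Lpr_ef (K16.f415251 IH) (Lpe (K16.f140981 IH) (Lpe (f415305 IH) (Lpe (f22523 IH) (Lpn (LP (LK LD1_c1 LD2_c37 LD3_c14))))))))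
theorem f22731 : Led Lsl_dt (LP (LK LD1_c1 LD2_c33 LD3_c47)) = (LP (LK LD1_c0 LD2_c43 LD3_c27)) :=
  Lre_d IH (LK LD1_c1 LD2_c33 LD3_c47) (LK LD1_c0 LD2_c43 LD3_c27) Lrfl Lrfl
theorem f416136 : Led Lsl_gf (LP (LK LD1_c1 LD2_c33 LD3_c47)) = (LP (LK LD1_c1 LD2_c37 LD3_c14)) :=
  Lgr Lrot138 (Lpr_dt (f22731 IH) (Lpr_gt (K0.f22542 IH) (Lpe (K0.f23724 IH) (Lpr_et (K0.f22491 IH) (Lpr_gt (K4.f68333 IH) (Lpe (K0.f23176 IH) (Lpr_dt (K0.f23177 IH) (Lpr_gt (K16.f68366 IH) (Lpe (f68367 IH) (Lpr_et (f415306 IH) (Lpn (LP (LK LD1_c1 LD2_c37 LD3_c14)))))))))))))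
theorem f68362 : Led Lsl_gt (LP (LK LD1_c0 LD2_c31 LD3_c13)) = (LP (LK LD1_c1 LD2_c8 LD3_c6)) :=
  Lre_g IH (LK LD1_c0 LD2_c31 LD3_c13) (LK LD1_c1 LD2_c8 LD3_c6) Lrfl Lrfl
theorem f68363 : Led Lsl_et (LP (LK LD1_c1 LD2_c33 LD3_c47)) = (LP (LK LD1_c1 LD2_c8 LD3_c6)) :=
  Lgr Lrot122 (Lpr_dt (f22731 IH) (Lpr_gt (K0.f22542 IH) (Lpe (K0.f23724 IH) (Lpr_et (K0.f22491 IH) (Lpr_gt (K4.f68333 IH) (Lpr_dt (K0.f13632 IH) (Lpr_gt (K1.f61630 IH) (Lpr_df (K1.f13591 IH) (Lpr_et (f20100 IH) (Lpr_gt (f68362 IH) (Lpn (LP (LK LD1_c1 LD2_c8 LD3_c6)))))))))))))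
theorem f68376 : Led Lsl_ef (LP (LK LD1_c1 LD2_c33 LD3_c47)) = (LP (LK LD1_c1 LD2_c8 LD3_c6)) :=
  Lgr Lrot88 (Lpr_et (f68363 IH) (Lpn (LP (LK LD1_c1 LD2_c8 LD3_c6))))
theorem f68373 : Led Lsl_dt (LP (LK LD1_c1 LD2_c8 LD3_c6)) = (LP (LK LD1_c2 LD2_c21 LD3_c55)) :=
  Lre_d IH (LK LD1_c1 LD2_c8 LD3_c6) (LK LD1_c2 LD2_c21 LD3_c55) Lrfl Lrfl
theorem f20129 : Led Lsl_et (LP (LK LD1_c2 LD2_c17 LD3_c41)) = (LP (LK LD1_c1 LD2_c5 LD3_c43)) :=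
  Lre_e IH (LK LD1_c2 LD2_c17 LD3_c41) (LK LD1_c1 LD2_c5 LD3_c43) Lrfl Lrfl
theorem f20143 : Led Lsl_dt (LP (LK LD1_c2 LD2_c17 LD3_c41)) = (LP (LK LD1_c4 LD2_c41 LD3_c16)) :=
  Lre_d IH (LK LD1_c2 LD2_c17 LD3_c41) (LK LD1_c4 LD2_c41 LD3_c16) Lrfl Lrfl
theorem f416139 : Led Lsl_gt (LP (LK LD1_c2 LD2_c21 LD3_c55)) = (LP (LK LD1_c4 LD2_c41 LD3_c16)) :=
  Lgr Lrot112 (Lpe (f68373 IH) (Lpe (f68376 IH) (Lpr_gf (f416136 IH) (Lpe (f415306 IH) (Lpr_dt (f68367 IH) (Lpe (K16.f68366 IH) (Lpe (K0.f23177 IH) (Lpe (K17.f20092 IH) (Lpe (f20129 IH) (Lpr_dt (f20143 IH) (Lpn (LP (LK LD1_c4 LD2_c41 LD3_c16)))))))))))))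
theorem f68383 : Led Lsl_et (LP (LK LD1_c0 LD2_c43 LD3_c27)) = (LP (LK LD1_c1 LD2_c33 LD3_c48)) :=
  Lre_e IH (LK LD1_c0 LD2_c43 LD3_c27) (LK LD1_c1 LD2_c33 LD3_c48) Lrfl Lrfl
theorem f68384 : Led Lsl_dt (LP (LK LD1_c2 LD2_c21 LD3_c55)) = (LP (LK LD1_c1 LD2_c8 LD3_c6)) :=
  Lre_d IH (LK LD1_c2 LD2_c21 LD3_c55) (LK LD1_c1 LD2_c8 LD3_c6) Lrfl Lrfl
theorem f68385 : Led Lsl_et (LP (LK LD1_c3 LD2_c14 LD3_c34)) = (LP (LK LD1_c2 LD2_c21 LD3_c55)) :=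
  Lgr Lrot71 (Lpe (K0.f23793 IH) (Lpe (f68383 IH) (Lpe (f22731 IH) (Lpr_ef (f68376 IH) (Lpe (f68384 IH) (Lpn (LP (LK LD1_c2 LD2_c21 LD3_c55))))))))
theorem f23835 : Led Lsl_dt (LP (LK LD1_c3 LD2_c14 LD3_c34)) = (LP (LK LD1_c1 LD2_c33 LD3_c48)) :=
  Lre_d IH (LK LD1_c3 LD2_c14 LD3_c34) (LK LD1_c1 LD2_c33 LD3_c48) Lrfl Lrfl
theorem f20090 : Led Lsl_et (LP (LK LD1_c0 LD2_c13 LD3_c54)) = (LP (LK LD1_c0 LD2_c6 LD3_c19)) :=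
  Lre_e IH (LK LD1_c0 LD2_c13 LD3_c54) (LK LD1_c0 LD2_c6 LD3_c19) Lrfl Lrfl
theorem f20093 : Led Lsl_dt (LP (LK LD1_c2 LD2_c17 LD3_c40)) = (LP (LK LD1_c1 LD2_c5 LD3_c43)) :=
  Lre_d IH (LK LD1_c2 LD2_c17 LD3_c40) (LK LD1_c1 LD2_c5 LD3_c43) Lrfl Lrfl
theorem f20094 : Led Lsl_et (LP (LK LD1_c0 LD2_c18 LD3_c6)) = (LP (LK LD1_c0 LD2_c40 LD3_c28)) :=
  Lre_e IH (LK LD1_c0 LD2_c18 LD3_c6) (LK LD1_c0 LD2_c40 LD3_c28) Lrfl Lrfl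
theorem f20095 : Led Lsl_gt (LP (LK LD1_c0 LD2_c40 LD3_c28)) = (LP (LK LD1_c1 LD2_c27 LD3_c28)) :=
  Lre_g IH (LK LD1_c0 LD2_c40 LD3_c28) (LK LD1_c1 LD2_c27 LD3_c28) Lrfl Lrfl
theorem f20096 : Led Lsl_et (LP (LK LD1_c2 LD2_c17 LD3_c40)) = (LP (LK LD1_c1 LD2_c27 LD3_c28)) :=
  Lgr Lrot122 (Lpr_dt (f20093 IH) (Lpr_gt (K17.f20092 IH) (Lpe (K17.f20091 IH) (Lpr_et (f20090 IH) (Lpr_gt (K0.f13590 IH) (Lpe (K1.f13591 IH) (Lpr_gt (K0.f20064 IH) (Lpe (K1.f11026 IH) (Lpr_et (f20094 IH) (Lpr_gt (f20095 IH) (Lpn (LP (LK LD1_c1 LD2_c27 LD3_c28)))))))))))))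
theorem f20128 : Led Lsl_dt (LP (LK LD1_c1 LD2_c5 LD3_c43)) = (LP (LK LD1_c2 LD2_c17 LD3_c40)) :=
  Lre_d IH (LK LD1_c1 LD2_c5 LD3_c43) (LK LD1_c2 LD2_c17 LD3_c40) Lrfl Lrfl
theorem f20130 : Led Lsl_dt (LP (LK LD1_c4 LD2_c41 LD3_c16)) = (LP (LK LD1_c2 LD2_c17 LD3_c41)) :=
  Lre_d IH (LK LD1_c4 LD2_c41 LD3_c16) (LK LD1_c2 LD2_c17 LD3_c41) Lrfl Lrfl
theorem f20104 : Led Lsl_dt (LP (LK LD1_c1 LD2_c27 LD3_c28)) = (LP (LK LD1_c3 LD2_c3 LD3_c7)) :=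
  Lre_d IH (LK LD1_c1 LD2_c27 LD3_c28) (LK LD1_c3 LD2_c3 LD3_c7) Lrfl Lrfl
theorem f20131 : Led Lsl_ef (LP (LK LD1_c4 LD2_c41 LD3_c16)) = (LP (LK LD1_c3 LD2_c3 LD3_c7)) :=
  Lgr Lrot73 (Lpr_dt (f20130 IH) (Lpr_et (f20129 IH) (Lpr_dt (f20128 IH) (Lpr_et (f20096 IH) (Lpr_dt (f20104 IH) (Lpn (LP (LK LD1_c3 LD2_c3 LD3_c7))))))))
theorem f20115 : Led Lsl_dt (LP (LK LD1_c3 LD2_c3 LD3_c7)) = (LP (LK LD1_c1 LD2_c27 LD3_c28)) :=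
  Lre_d IH (LK LD1_c3 LD2_c3 LD3_c7) (LK LD1_c1 LD2_c27 LD3_c28) Lrfl Lrfl
theorem f20140 : Led Lsl_et (LP (LK LD1_c2 LD2_c22 LD3_c51)) = (LP (LK LD1_c1 LD2_c8 LD3_c32)) :=
  Lre_e IH (LK LD1_c2 LD2_c22 LD3_c51) (LK LD1_c1 LD2_c8 LD3_c32) Lrfl Lrfl
theorem f25593 : Led Lsl_dt (LP (LK LD1_c3 LD2_c6 LD3_c12)) = (LP (LK LD1_c1 LD2_c29 LD3_c10)) :=
  Lre_d IH (LK LD1_c3 LD2_c6 LD3_c12) (LK LD1_c1 LD2_c29 LD3_c10) Lrfl Lrfl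
theorem f25525 : Led Lsl_et (LP (LK LD1_c0 LD2_c31 LD3_c20)) = (LP (LK LD1_c1 LD2_c8 LD3_c31)) :=
  Lre_e IH (LK LD1_c0 LD2_c31 LD3_c20) (LK LD1_c1 LD2_c8 LD3_c31) Lrfl Lrfl
theorem f25595 : Led Lsl_et (LP (LK LD1_c1 LD2_c29 LD3_c10)) = (LP (LK LD1_c1 LD2_c5 LD3_c44)) :=
  Lgr Lrot71 (Lpe (f25593 IH) (Lpr_ef (K0.f25574 IH) (Lpe (K0.f23220 IH) (Lpe (f25525 IH) (Lpe (K9.f25594 IH) (Lpn (LP (LK LD1_c1 LD2_c5 LD3_c44))))))))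
theorem f415329 : Led Lsl_gf (LP (LK LD1_c3 LD2_c3 LD3_c12)) = (LP (LK LD1_c3 LD2_c6 LD3_c12)) :=
  Lgr Lrot145 (Lpr_df (K0.f23802 IH) (Lpr_et (f20140 IH) (Lpr_gt (f20139 IH) (Lpr_dt (K16.f23820 IH) (Lpr_gt (K16.f23821 IH) (Lpr_df (K16.f415309 IH) (Lpr_et (K16.f415308 IH) (Lpr_gt (K16.f413457 IH) (Lpe (f25595 IH) (Lpr_dt (K1.f25569 IH) (Lpn (LP (LK LD1_c3 LD2_c6 LD3_c12)))))))))))))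
theorem f20138 : Led Lsl_et (LP (LK LD1_c0 LD2_c19 LD3_c57)) = (LP (LK LD1_c0 LD2_c44 LD3_c60)) :=
  Lre_e IH (LK LD1_c0 LD2_c19 LD3_c57) (LK LD1_c0 LD2_c44 LD3_c60) Lrfl Lrfl
theorem f20136 : Led Lsl_dt (LP (LK LD1_c0 LD2_c19 LD3_c57)) = (LP (LK LD1_c0 LD2_c40 LD3_c27)) :=
  Lre_d IH (LK LD1_c0 LD2_c19 LD3_c57) (LK LD1_c0 LD2_c40 LD3_c27) Lrfl Lrfl
theorem f415335 : Led Lsl_gt (LP (LK LD1_c1 LD2_c27 LD3_c28)) = (LP (LK LD1_c1 LD2_c29 LD3_c10)) :=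
  Lgr Lrot137 (Lpe (f20096 IH) (Lpr_dt (f20093 IH) (Lpe (K17.f20135 IH) (Lpe (f20136 IH) (Lpr_et (f20138 IH) (Lpe (f20139 IH) (Lpe (f20140 IH) (Lpe (K0.f23802 IH) (Lpr_gf (f415329 IH) (Lpe (K1.f25569 IH) (Lpn (LP (LK LD1_c1 LD2_c29 LD3_c10)))))))))))))
theorem f25597 : Led Lsl_et (LP (LK LD1_c3 LD2_c6 LD3_c12)) = (LP (LK LD1_c2 LD2_c22 LD3_c49)) :=
  Lgr Lrot87 (Lpr_ef (K0.f25574 IH) (Lpn (LP (LK LD1_c2 LD2_c22 LD3_c49))))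
theorem f23234 : Led Lsl_df (LP (LK LD1_c2 LD2_c17 LD3_c37)) = (LP (LK LD1_c1 LD2_c37 LD3_c21)) :=
  Lgr Lrot38 (Lpr_dt (K0.f23222 IH) (Lpn (LP (LK LD1_c1 LD2_c37 LD3_c21))))
theorem f416143 : Led Lsl_gf (LP (LK LD1_c1 LD2_c33 LD3_c48)) = (LP (LK LD1_c2 LD2_c17 LD3_c37)) :=
  Lgr Lrot134 (Lpe (f23835 IH) (Lpr_et (f68385 IH) (Lpr_gt (f416139 IH) (Lpr_ef (f20131 IH) (Lpr_dt (f20115 IH) (Lpr_gt (f415335 IH) (Lpe (f25593 IH) (Lpr_et (f25597 IH) (Lpr_gt (K0.f23221 IH) (Lpe (f23234 IH) (Lpn (LP (LK LD1_c2 LD2_c17 LD3_c37)))))))))))))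
theorem f22730 : Led Lsl_dt (LP (LK LD1_c0 LD2_c43 LD3_c27)) = (LP (LK LD1_c1 LD2_c33 LD3_c47)) :=
  Lre_d IH (LK LD1_c0 LD2_c43 LD3_c27) (LK LD1_c1 LD2_c33 LD3_c47) Lrfl Lrfl
theorem f446145 : Led Lsl_gf (LP (LK LD1_c1 LD2_c8 LD3_c30)) = (LP (LK LD1_c1 LD2_c33 LD3_c47)) :=
  Lgr Lrot145 (Lpr_df (f446137 IH) (Lpr_et (f23205 IH) (Lpr_gt (K17.f180332 IH) (Lpr_dt (f180331 IH) (Lpr_gt (K17.f180320 IH) (Lpe (K17.f23277 IH) (Lpr_et (f23236 IH) (Lpe (f416143 IH) (Lpe (f68383 IH) (Lpr_dt (f22730 IH) (Lpn (LP (LK LD1_c1 LD2_c33 LD3_c47)))))))))))))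
theorem f446142 : Led Lsl_ct (LP (LK LD1_c1 LD2_c8 LD3_c30)) = (LP (LK LD1_c2 LD2_c22 LD3_c48)) :=
  Lre_c IH (LK LD1_c1 LD2_c8 LD3_c30) (LK LD1_c2 LD2_c22 LD3_c48) Lrfl Lrfl
theorem f22512 : Led Lsl_ct (LP (LK LD1_c0 LD2_c19 LD3_c23)) = (LP (LK LD1_c0 LD2_c38 LD3_c10)) :=
  Lgr Lrot59 (Lpr_cf (K7.f22493 IH) (Lpn (LP (LK LD1_c0 LD2_c38 LD3_c10))))
theorem f22526 : Led Lsl_gt (LP (LK LD1_c0 LD2_c38 LD3_c10)) = (LP (LK LD1_c1 LD2_c22 LD3_c21)) :=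
  Lre_g IH (LK LD1_c0 LD2_c38 LD3_c10) (LK LD1_c1 LD2_c22 LD3_c21) Lrfl Lrfl
theorem f438319 : Led Lsl_df (LP (LK LD1_c4 LD2_c43 LD3_c32)) = (LP (LK LD1_c6 LD2_c44 LD3_c9)) :=
  Lgr Lrot38 (Lpr_dt (f438317 IH) (Lpn (LP (LK LD1_c6 LD2_c44 LD3_c9))))
theorem f26369 : Led Lsl_et (LP (LK LD1_c1 LD2_c5 LD3_c5)) = (LP (LK LD1_c0 LD2_c29 LD3_c44)) :=
  Lre_e IH (LK LD1_c1 LD2_c5 LD3_c5) (LK LD1_c0 LD2_c29 LD3_c44) Lrfl Lrfl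
theorem f26370 : Led Lsl_cf (LP (LK LD1_c1 LD2_c5 LD3_c5)) = (LP (LK LD1_c0 LD2_c30 LD3_c35)) :=
  Lgr Lrot39 (Lpr_et (f26369 IH) (Lpr_ct (K0.f26357 IH) (Lpr_et (K7.f26309 IH) (Lpn (LP (LK LD1_c0 LD2_c30 LD3_c35))))))
theorem f69058 : Led Lsl_ct (LP (LK LD1_c0 LD2_c38 LD3_c54)) = (LP (LK LD1_c0 LD2_c18 LD3_c59)) :=
  Lgr Lrot59 (Lpr_cf (K11.f68989 IH) (Lpn (LP (LK LD1_c0 LD2_c18 LD3_c59))))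
theorem f210109 : Led Lsl_af (LP (LK LD1_c0 LD2_c30 LD3_c35)) = (LP (LK LD1_c0 LD2_c18 LD3_c59)) :=
  Lgr Lrot68 (Lpe (f26370 IH) (Lpr_at (K16.f210081 IH) (Lpr_ct (f69058 IH) (Lpn (LP (LK LD1_c0 LD2_c18 LD3_c59))))))
theorem f210120 : Led Lsl_gf (LP (LK LD1_c1 LD2_c6 LD3_c52)) = (LP (LK LD1_c0 LD2_c42 LD3_c38)) :=
  Lgr Lrot47 (Lpr_gt (f61254 IH) (Lpr_af (f210109 IH) (Lpe (K7.f69063 IH) (Lpn (LP (LK LD1_c0 LD2_c42 LD3_c38))))))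
theorem f26262 : Led Lsl_gt (LP (LK LD1_c1 LD2_c6 LD3_c53)) = (LP (LK LD1_c2 LD2_c19 LD3_c32)) :=
  Lre_g IH (LK LD1_c1 LD2_c6 LD3_c53) (LK LD1_c2 LD2_c19 LD3_c32) Lrfl Lrfl
theorem f153699 : Led Lsl_gf (LP (LK LD1_c1 LD2_c32 LD3_c9)) = (LP (LK LD1_c2 LD2_c19 LD3_c32)) :=
  Lgr Lrot76 (Lpr_af (K7.f153679 IH) (Lpe (K7.f153696 IH) (Lpr_gt (f26262 IH) (Lpn (LP (LK LD1_c2 LD2_c19 LD3_c32))))))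
theorem f84506 : Led Lsl_ft (LP (LK LD1_c9 LD2_c29 LD3_c52)) = (LP (LK LD1_c4 LD2_c48 LD3_c39)) :=
  Lre_f IH (LK LD1_c9 LD2_c29 LD3_c52) (LK LD1_c4 LD2_c48 LD3_c39) Lrfl Lrfl
theorem f143932 : Led Lsl_gt (LP (LK LD1_c9 LD2_c29 LD3_c52)) = (LP (LK LD1_c6 LD2_c44 LD3_c9)) :=
  Lgr Lrot5 (Lpr_ft (f84506 IH) (Lpr_at (K6.f143924 IH) (Lpe (f62487 IH) (Lpn (LP (LK LD1_c6 LD2_c44 LD3_c9))))))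
theorem f135360 : Led Lsl_dt (LP (LK LD1_c4 LD2_c48 LD3_c40)) = (LP (LK LD1_c9 LD2_c29 LD3_c52)) :=
  Lre_d IH (LK LD1_c4 LD2_c48 LD3_c40) (LK LD1_c9 LD2_c29 LD3_c52) Lrfl Lrfl
theorem f62493 : Led Lsl_gt (LP (LK LD1_c1 LD2_c36 LD3_c30)) = (LP (LK LD1_c3 LD2_c20 LD3_c9)) :=
  Lre_g IH (LK LD1_c1 LD2_c36 LD3_c30) (LK LD1_c3 LD2_c20 LD3_c9) Lrfl Lrfl
theorem f135388 : Led Lsl_gt (LP (LK LD1_c3 LD2_c20 LD3_c9)) = (LP (LK LD1_c4 LD2_c48 LD3_c40)) :=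
  Lgr Lrot46 (Lpe (f62493 IH) (Lpr_ft (K5.f62491 IH) (Lpr_at (K6.f135356 IH) (Lpn (LP (LK LD1_c4 LD2_c48 LD3_c40))))))
theorem f438417 : Led Lsl_ct (LP (LK LD1_c2 LD2_c19 LD3_c32)) = (LP (LK LD1_c3 LD2_c20 LD3_c9)) :=
  Lgr Lrot8 (Lpe (f153699 IH) (Lpr_dt (K7.f69090 IH) (Lpe (f210120 IH) (Lpr_dt (f152216 IH) (Lpe (f152215 IH) (Lpr_df (f438319 IH) (Lpe (f143932 IH) (Lpe (f135360 IH) (Lpe (f135388 IH) (Lpn (LP (LK LD1_c3 LD2_c20 LD3_c9))))))))))))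
theorem f135364 : Led Lsl_ct (LP (LK LD1_c4 LD2_c48 LD3_c40)) = (LP (LK LD1_c2 LD2_c22 LD3_c14)) :=
  Lre_c IH (LK LD1_c4 LD2_c48 LD3_c40) (LK LD1_c2 LD2_c22 LD3_c14) Lrfl Lrfl
theorem f146072 : Led Lsl_ct (LP (LK LD1_c2 LD2_c13 LD3_c58)) = (LP (LK LD1_c1 LD2_c8 LD3_c16)) :=
  Lgr Lrot15 (Lpe (K6.f143114 IH) (Lpe (K6.f139833 IH) (Lpr_ef (K6.f146064 IH) (Lpn (LP (LK LD1_c1 LD2_c8 LD3_c16))))))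
theorem f146435 : Led Lsl_af (LP (LK LD1_c2 LD2_c13 LD3_c58)) = (LP (LK LD1_c1 LD2_c21 LD3_c17)) :=
  Lgr Lrot0 (Lpr_at (K6.f146422 IH) (Lpn (LP (LK LD1_c1 LD2_c21 LD3_c17))))
theorem f56661 : Led Lsl_gt (LP (LK LD1_c0 LD2_c37 LD3_c30)) = (LP (LK LD1_c1 LD2_c21 LD3_c14)) :=
  Lre_g IH (LK LD1_c0 LD2_c37 LD3_c30) (LK LD1_c1 LD2_c21 LD3_c14) Lrfl Lrfl
theorem f437474 : Led Lsl_gf (LP (LK LD1_c2 LD2_c13 LD3_c58)) = (LP (LK LD1_c1 LD2_c21 LD3_c14)) :=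
  Lgr Lrot76 (Lpr_af (f146435 IH) (Lpe (K1.f57124 IH) (Lpr_gt (f56661 IH) (Lpn (LP (LK LD1_c1 LD2_c21 LD3_c14))))))
theorem f438428 : Led Lsl_ct (LP (LK LD1_c1 LD2_c6 LD3_c51)) = (LP (LK LD1_c1 LD2_c21 LD3_c14)) :=
  Lgr Lrot152 (Lpe (K11.f26310 IH) (Lpe (f26283 IH) (Lpr_gt (f26262 IH) (Lpr_ct (f438417 IH) (Lpr_gt (f135388 IH) (Lpr_ct (f135364 IH) (Lpe (K6.f135390 IH) (Lpe (f146072 IH) (Lpr_gf (f437474 IH) (Lpn (LP (LK LD1_c1 LD2_c21 LD3_c14))))))))))))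
theorem f153675 : Led Lsl_af (LP (LK LD1_c0 LD2_c42 LD3_c38)) = (LP (LK LD1_c1 LD2_c6 LD3_c54)) :=
  Lgr Lrot0 (Lpr_at (K7.f153651 IH) (Lpn (LP (LK LD1_c1 LD2_c6 LD3_c54))))
theorem f435371 : Led Lsl_gf (LP (LK LD1_c0 LD2_c42 LD3_c38)) = (LP (LK LD1_c1 LD2_c6 LD3_c51)) :=
  Lgr Lrot76 (Lpr_af (f153675 IH) (Lpe (K7.f150506 IH) (Lpr_gt (K11.f26310 IH) (Lpn (LP (LK LD1_c1 LD2_c6 LD3_c51))))))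
theorem f69086 : Led Lsl_dt (LP (LK LD1_c0 LD2_c42 LD3_c38)) = (LP (LK LD1_c1 LD2_c32 LD3_c9)) :=
  Lre_d IH (LK LD1_c0 LD2_c42 LD3_c38) (LK LD1_c1 LD2_c32 LD3_c9) Lrfl Lrfl
theorem f26269 : Led Lsl_gt (LP (LK LD1_c2 LD2_c19 LD3_c33)) = (LP (LK LD1_c1 LD2_c6 LD3_c53)) :=
  Lre_g IH (LK LD1_c2 LD2_c19 LD3_c33) (LK LD1_c1 LD2_c6 LD3_c53) Lrfl Lrfl
theorem f153710 : Led Lsl_gt (LP (LK LD1_c1 LD2_c32 LD3_c9)) = (LP (LK LD1_c2 LD2_c19 LD3_c33)) :=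
  Lgr Lrot5 (Lpr_ft (K7.f69101 IH) (Lpr_at (K7.f153697 IH) (Lpe (f26269 IH) (Lpn (LP (LK LD1_c2 LD2_c19 LD3_c33))))))
theorem f26260 : Led Lsl_et (LP (LK LD1_c0 LD2_c30 LD3_c35)) = (LP (LK LD1_c0 LD2_c13 LD3_c34)) :=
  Lre_e IH (LK LD1_c0 LD2_c30 LD3_c35) (LK LD1_c0 LD2_c13 LD3_c34) Lrfl Lrfl
theorem f26261 : Led Lsl_dt (LP (LK LD1_c0 LD2_c30 LD3_c35)) = (LP (LK LD1_c1 LD2_c6 LD3_c53)) :=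
  Lre_d IH (LK LD1_c0 LD2_c30 LD3_c35) (LK LD1_c1 LD2_c6 LD3_c53) Lrfl Lrfl
theorem f26064 : Led Lsl_et (LP (LK LD1_c0 LD2_c13 LD3_c38)) = (LP (LK LD1_c0 LD2_c30 LD3_c42)) :=
  Lre_e IH (LK LD1_c0 LD2_c13 LD3_c38) (LK LD1_c0 LD2_c30 LD3_c42) Lrfl Lrfl
theorem f26270 : Led Lsl_gt (LP (LK LD1_c0 LD2_c30 LD3_c42)) = (LP (LK LD1_c1 LD2_c7 LD3_c0)) :=
  Lre_g IH (LK LD1_c0 LD2_c30 LD3_c42) (LK LD1_c1 LD2_c7 LD3_c0) Lrfl Lrfl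
theorem f26271 : Led Lsl_et (LP (LK LD1_c2 LD2_c19 LD3_c43)) = (LP (LK LD1_c1 LD2_c7 LD3_c0)) :=
  Lre_e IH (LK LD1_c2 LD2_c19 LD3_c43) (LK LD1_c1 LD2_c7 LD3_c0) Lrfl Lrfl
theorem f26272 : Led Lsl_df (LP (LK LD1_c2 LD2_c19 LD3_c33)) = (LP (LK LD1_c2 LD2_c19 LD3_c43)) :=
  Lgr Lrot170 (Lpr_gt (f26269 IH) (Lpe (f26261 IH) (Lpr_et (f26260 IH) (Lpr_gt (K0.f26253 IH) (Lpr_dt (K0.f9743 IH) (Lpe (K0.f26043 IH) (Lpe (K2.f26051 IH) (Lpr_et (f26064 IH) (Lpr_gt (f26270 IH) (Lpe (f26271 IH) (Lpn (LP (LK LD1_c2 LD2_c19 LD3_c43)))))))))))))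
theorem f26279 : Led Lsl_dt (LP (LK LD1_c2 LD2_c19 LD3_c33)) = (LP (LK LD1_c2 LD2_c19 LD3_c43)) :=
  Lgr Lrot42 (Lpr_df (f26272 IH) (Lpn (LP (LK LD1_c2 LD2_c19 LD3_c43))))
theorem f143131 : Led Lsl_dt (LP (LK LD1_c2 LD2_c13 LD3_c58)) = (LP (LK LD1_c4 LD2_c34 LD3_c7)) :=
  Lre_d IH (LK LD1_c2 LD2_c13 LD3_c58) (LK LD1_c4 LD2_c34 LD3_c7) Lrfl Lrfl
theorem f56683 : Led Lsl_gt (LP (LK LD1_c2 LD2_c50 LD3_c33)) = (LP (LK LD1_c1 LD2_c21 LD3_c16)) :=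
  Lre_g IH (LK LD1_c2 LD2_c50 LD3_c33) (LK LD1_c1 LD2_c21 LD3_c16) Lrfl Lrfl
theorem f146414 : Led Lsl_gt (LP (LK LD1_c4 LD2_c34 LD3_c7)) = (LP (LK LD1_c2 LD2_c50 LD3_c33)) :=
  Lgr Lrot5 (Lpr_ft (K6.f146411 IH) (Lpr_at (K6.f146393 IH) (Lpe (f56683 IH) (Lpn (LP (LK LD1_c2 LD2_c50 LD3_c33))))))
theorem f26580 : Led Lsl_et (LP (LK LD1_c2 LD2_c52 LD3_c38)) = (LP (LK LD1_c1 LD2_c22 LD3_c21)) :=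
  Lre_e IH (LK LD1_c2 LD2_c52 LD3_c38) (LK LD1_c1 LD2_c22 LD3_c21) Lrfl Lrfl
theorem f56682 : Led Lsl_dt (LP (LK LD1_c0 LD2_c37 LD3_c30)) = (LP (LK LD1_c1 LD2_c21 LD3_c16)) :=
  Lre_d IH (LK LD1_c0 LD2_c37 LD3_c30) (LK LD1_c1 LD2_c21 LD3_c16) Lrfl Lrfl
theorem f56684 : Led Lsl_dt (LP (LK LD1_c2 LD2_c52 LD3_c38)) = (LP (LK LD1_c2 LD2_c50 LD3_c33)) :=
  Lgr Lrot136 (Lpr_et (f26580 IH) (Lpe (f22526 IH) (Lpe (K7.f22492 IH) (Lpr_dt (K1.f22455 IH) (Lpr_gf (K0.f26476 IH) (Lpe (K0.f13477 IH) (Lpr_gf (K1.f56582 IH) (Lpe (K1.f56681 IH) (Lpr_dt (f56682 IH) (Lpe (f56683 IH) (Lpn (LP (LK LD1_c2 LD2_c50 LD3_c33)))))))))))))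
theorem f56695 : Led Lsl_df (LP (LK LD1_c2 LD2_c52 LD3_c38)) = (LP (LK LD1_c2 LD2_c50 LD3_c33)) :=
  Lgr Lrot38 (Lpr_dt (f56684 IH) (Lpn (LP (LK LD1_c2 LD2_c50 LD3_c33))))
theorem f438434 : Led Lsl_cf (LP (LK LD1_c2 LD2_c19 LD3_c43)) = (LP (LK LD1_c2 LD2_c52 LD3_c38)) :=
  Lgr Lrot14 (Lpe (f26279 IH) (Lpe (f153710 IH) (Lpe (f69086 IH) (Lpr_gf (f435371 IH) (Lpr_ct (f438428 IH) (Lpe (f437474 IH) (Lpr_dt (f143131 IH) (Lpr_gt (f146414 IH) (Lpe (f56695 IH) (Lpn (LP (LK LD1_c2 LD2_c52 LD3_c38))))))))))))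
theorem f56697 : Led Lsl_et (LP (LK LD1_c1 LD2_c22 LD3_c21)) = (LP (LK LD1_c2 LD2_c52 LD3_c38)) :=
  Lre_e IH (LK LD1_c1 LD2_c22 LD3_c21) (LK LD1_c2 LD2_c52 LD3_c38) Lrfl Lrfl
theorem f438440 : Led Lsl_ct (LP (LK LD1_c1 LD2_c7 LD3_c0)) = (LP (LK LD1_c1 LD2_c22 LD3_c21)) :=
  Lgr Lrot15 (Lpe (f26271 IH) (Lpr_cf (f438434 IH) (Lpe (f56697 IH) (Lpn (LP (LK LD1_c1 LD2_c22 LD3_c21))))))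
theorem f438449 : Led Lsl_cf (LP (LK LD1_c1 LD2_c7 LD3_c0)) = (LP (LK LD1_c1 LD2_c22 LD3_c21)) :=
  Lgr Lrot11 (Lpr_ct (f438440 IH) (Lpn (LP (LK LD1_c1 LD2_c22 LD3_c21))))
theorem f26282 : Led Lsl_dt (LP (LK LD1_c2 LD2_c19 LD3_c42)) = (LP (LK LD1_c1 LD2_c7 LD3_c0)) :=
  Lre_d IH (LK LD1_c2 LD2_c19 LD3_c42) (LK LD1_c1 LD2_c7 LD3_c0) Lrfl Lrfl
theorem f82568 : Led Lsl_ct (LP (LK LD1_c4 LD2_c43 LD3_c49)) = (LP (LK LD1_c2 LD2_c19 LD3_c42)) :=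
  Lre_c IH (LK LD1_c4 LD2_c43 LD3_c49) (LK LD1_c2 LD2_c19 LD3_c42) Lrfl Lrfl
theorem f446147 : Led Lsl_gt (LP (LK LD1_c2 LD2_c22 LD3_c48)) = (LP (LK LD1_c4 LD2_c43 LD3_c49)) :=
  Lgr Lrot150 (Lpe (f446142 IH) (Lpr_gf (f446145 IH) (Lpe (f22730 IH) (Lpr_gt (K0.f22542 IH) (Lpr_ct (f22512 IH) (Lpr_gt (f22526 IH) (Lpe (f438449 IH) (Lpe (f26282 IH) (Lpe (f82568 IH) (Lpn (LP (LK LD1_c4 LD2_c43 LD3_c49))))))))))))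
theorem f446136 : Led Lsl_ct (LP (LK LD1_c2 LD2_c22 LD3_c48)) = (LP (LK LD1_c1 LD2_c8 LD3_c30)) :=
  Lre_c IH (LK LD1_c2 LD2_c22 LD3_c48) (LK LD1_c1 LD2_c8 LD3_c30) Lrfl Lrfl
theorem f22528 : Led Lsl_gt (LP (LK LD1_c1 LD2_c22 LD3_c22)) = (LP (LK LD1_c0 LD2_c38 LD3_c10)) :=
  Lre_g IH (LK LD1_c1 LD2_c22 LD3_c22) (LK LD1_c0 LD2_c38 LD3_c10) Lrfl Lrfl
theorem f151909 : Led Lsl_et (LP (LK LD1_c2 LD2_c52 LD3_c40)) = (LP (LK LD1_c1 LD2_c22 LD3_c22)) :=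
  Lre_e IH (LK LD1_c2 LD2_c52 LD3_c40) (LK LD1_c1 LD2_c22 LD3_c22) Lrfl Lrfl
theorem f151910 : Led Lsl_dt (LP (LK LD1_c2 LD2_c52 LD3_c40)) = (LP (LK LD1_c5 LD2_c52 LD3_c50)) :=
  Lre_d IH (LK LD1_c2 LD2_c52 LD3_c40) (LK LD1_c5 LD2_c52 LD3_c50) Lrfl Lrfl
theorem f35537 : Led Lsl_et (LP (LK LD1_c0 LD2_c24 LD3_c56)) = (LP (LK LD1_c0 LD2_c55 LD3_c3)) :=
  Lre_e IH (LK LD1_c0 LD2_c24 LD3_c56) (LK LD1_c0 LD2_c55 LD3_c3) Lrfl Lrfl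
theorem f40471 : Led Lsl_dt (LP (LK LD1_c1 LD2_c56 LD3_c35)) = (LP (LK LD1_c3 LD2_c59 LD3_c54)) :=
  Lre_d IH (LK LD1_c1 LD2_c56 LD3_c35) (LK LD1_c3 LD2_c59 LD3_c54) Lrfl Lrfl
theorem f445593 : Led Lsl_gf (LP (LK LD1_c5 LD2_c52 LD3_c50)) = (LP (LK LD1_c3 LD2_c59 LD3_c54)) :=
  Lgr Lrot134 (Lpe (f151910 IH) (Lpr_et (f151909 IH) (Lpr_gt (f22528 IH) (Lpe (K7.f22492 IH) (Lpr_dt (K1.f22455 IH) (Lpr_gt (K4.f38627 IH) (Lpe (K0.f35520 IH) (Lpr_et (f35537 IH) (Lpr_gt (f40470 IH) (Lpr_dt (f40471 IH) (Lpn (LP (LK LD1_c3 LD2_c59 LD3_c54)))))))))))))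
theorem f445595 : Led Lsl_dt (LP (LK LD1_c5 LD2_c52 LD3_c50)) = (LP (LK LD1_c2 LD2_c52 LD3_c40)) :=
  Lre_d IH (LK LD1_c5 LD2_c52 LD3_c50) (LK LD1_c2 LD2_c52 LD3_c40) Lrfl Lrfl
theorem f26067 : Led Lsl_dt (LP (LK LD1_c1 LD2_c38 LD3_c29)) = (LP (LK LD1_c3 LD2_c24 LD3_c15)) :=
  Lre_d IH (LK LD1_c1 LD2_c38 LD3_c29) (LK LD1_c3 LD2_c24 LD3_c15) Lrfl Lrfl
theorem f82581 : Led Lsl_et (LP (LK LD1_c0 LD2_c41 LD3_c46)) = (LP (LK LD1_c1 LD2_c30 LD3_c28)) :=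
  Lre_e IH (LK LD1_c0 LD2_c41 LD3_c46) (LK LD1_c1 LD2_c30 LD3_c28) Lrfl Lrfl
theorem f82591 : Led Lsl_dt (LP (LK LD1_c1 LD2_c30 LD3_c27)) = (LP (LK LD1_c0 LD2_c41 LD3_c46)) :=
  Lre_d IH (LK LD1_c1 LD2_c30 LD3_c27) (LK LD1_c0 LD2_c41 LD3_c46) Lrfl Lrfl
theorem f82592 : Led Lsl_et (LP (LK LD1_c3 LD2_c8 LD3_c35)) = (LP (LK LD1_c1 LD2_c30 LD3_c27)) :=
  Lre_e IH (LK LD1_c3 LD2_c8 LD3_c35) (LK LD1_c1 LD2_c30 LD3_c27) Lrfl Lrfl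
theorem f82593 : Led Lsl_et (LP (LK LD1_c1 LD2_c7 LD3_c1)) = (LP (LK LD1_c2 LD2_c19 LD3_c45)) :=
  Lre_e IH (LK LD1_c1 LD2_c7 LD3_c1) (LK LD1_c2 LD2_c19 LD3_c45) Lrfl Lrfl
theorem f82594 : Led Lsl_df (LP (LK LD1_c3 LD2_c8 LD3_c35)) = (LP (LK LD1_c2 LD2_c19 LD3_c45)) :=
  Lgr Lrot70 (Lpr_et (f82592 IH) (Lpr_dt (f82591 IH) (Lpr_et (f82581 IH) (Lpr_dt (f82574 IH) (Lpr_et (f82593 IH) (Lpn (LP (LK LD1_c2 LD2_c19 LD3_c45))))))))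
theorem f26066 : Led Lsl_et (LP (LK LD1_c2 LD2_c19 LD3_c45)) = (LP (LK LD1_c1 LD2_c7 LD3_c1)) :=
  Lre_e IH (LK LD1_c2 LD2_c19 LD3_c45) (LK LD1_c1 LD2_c7 LD3_c1) Lrfl Lrfl
theorem f82609 : Led Lsl_gf (LP (LK LD1_c3 LD2_c8 LD3_c35)) = (LP (LK LD1_c3 LD2_c24 LD3_c15)) :=
  Lgr Lrot134 (Lpr_df (f82594 IH) (Lpr_et (f26066 IH) (Lpr_gt (f26065 IH) (Lpe (f26064 IH) (Lpr_dt (K2.f26051 IH) (Lpr_gt (K0.f26023 IH) (Lpe (K9.f13534 IH) (Lpr_et (K9.f26061 IH) (Lpr_gt (K9.f26062 IH) (Lpr_dt (f26067 IH) (Lpn (LP (LK LD1_c3 LD2_c24 LD3_c15)))))))))))))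
theorem f82601 : Led Lsl_dt (LP (LK LD1_c3 LD2_c8 LD3_c35)) = (LP (LK LD1_c2 LD2_c19 LD3_c45)) :=
  Lgr Lrot42 (Lpr_df (f82594 IH) (Lpn (LP (LK LD1_c2 LD2_c19 LD3_c45))))
theorem f445598 : Led Lsl_cf (LP (LK LD1_c2 LD2_c52 LD3_c40)) = (LP (LK LD1_c2 LD2_c19 LD3_c45)) :=
  Lgr Lrot14 (Lpe (f445595 IH) (Lpr_gf (f445593 IH) (Lpe (f40471 IH) (Lpe (f40470 IH) (Lpr_ct (K2.f40436 IH) (Lpr_gt (K9.f26062 IH) (Lpr_dt (f26067 IH) (Lpe (f82609 IH) (Lpr_dt (f82601 IH) (Lpn (LP (LK LD1_c2 LD2_c19 LD3_c45))))))))))))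
theorem f445604 : Led Lsl_ct (LP (LK LD1_c1 LD2_c22 LD3_c22)) = (LP (LK LD1_c1 LD2_c7 LD3_c1)) :=
  Lgr Lrot15 (Lpe (f151909 IH) (Lpr_cf (f445598 IH) (Lpe (f82593 IH) (Lpn (LP (LK LD1_c1 LD2_c7 LD3_c1))))))
theorem f79887 : Led Lsl_gt (LP (LK LD1_c1 LD2_c22 LD3_c23)) = (LP (LK LD1_c2 LD2_c52 LD3_c41)) :=
  Lre_g IH (LK LD1_c1 LD2_c22 LD3_c23) (LK LD1_c2 LD2_c52 LD3_c41) Lrfl Lrfl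
theorem f26290 : Led Lsl_dt (LP (LK LD1_c1 LD2_c7 LD3_c0)) = (LP (LK LD1_c2 LD2_c19 LD3_c42)) :=
  Lre_d IH (LK LD1_c1 LD2_c7 LD3_c0) (LK LD1_c2 LD2_c19 LD3_c42) Lrfl Lrfl
theorem f82569 : Led Lsl_ct (LP (LK LD1_c2 LD2_c19 LD3_c42)) = (LP (LK LD1_c4 LD2_c43 LD3_c49)) :=
  Lre_c IH (LK LD1_c2 LD2_c19 LD3_c42) (LK LD1_c4 LD2_c43 LD3_c49) Lrfl Lrfl
theorem f445621 : Led Lsl_dt (LP (LK LD1_c2 LD2_c52 LD3_c41)) = (LP (LK LD1_c4 LD2_c43 LD3_c49)) :=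
  Lgr Lrot113 (Lpe (f79887 IH) (Lpe (K7.f22726 IH) (Lpe (f22528 IH) (Lpr_ct (f445604 IH) (Lpr_gt (f26065 IH) (Lpr_dt (K11.f82566 IH) (Lpr_gt (f26270 IH) (Lpr_dt (f26290 IH) (Lpr_ct (f82569 IH) (Lpn (LP (LK LD1_c4 LD2_c43 LD3_c49))))))))))))
theorem f445647 : Led Lsl_df (LP (LK LD1_c2 LD2_c52 LD3_c41)) = (LP (LK LD1_c4 LD2_c43 LD3_c49)) :=
  Lgr Lrot38 (Lpr_dt (f445621 IH) (Lpn (LP (LK LD1_c4 LD2_c43 LD3_c49))))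
theorem f151875 : Led Lsl_af (LP (LK LD1_c4 LD2_c35 LD3_c3)) = (LP (LK LD1_c2 LD2_c52 LD3_c43)) :=
  Lgr Lrot0 (Lpr_at (K7.f151873 IH) (Lpn (LP (LK LD1_c2 LD2_c52 LD3_c43))))
theorem f22519 : Led Lsl_ft (LP (LK LD1_c1 LD2_c22 LD3_c23)) = (LP (LK LD1_c2 LD2_c52 LD3_c43)) :=
  Lre_f IH (LK LD1_c1 LD2_c22 LD3_c23) (LK LD1_c2 LD2_c52 LD3_c43) Lrfl Lrfl
theorem f436293 : Led Lsl_gf (LP (LK LD1_c4 LD2_c35 LD3_c3)) = (LP (LK LD1_c2 LD2_c52 LD3_c41)) :=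
  Lgr Lrot76 (Lpr_af (f151875 IH) (Lpe (f22519 IH) (Lpr_gt (f79887 IH) (Lpn (LP (LK LD1_c2 LD2_c52 LD3_c41))))))
theorem f25241 : Led Lsl_dt (LP (LK LD1_c4 LD2_c35 LD3_c3)) = (LP (LK LD1_c2 LD2_c14 LD3_c38)) :=
  Lre_d IH (LK LD1_c4 LD2_c35 LD3_c3) (LK LD1_c2 LD2_c14 LD3_c38) Lrfl Lrfl
theorem f129979 : Led Lsl_et (LP (LK LD1_c1 LD2_c7 LD3_c20)) = (LP (LK LD1_c0 LD2_c30 LD3_c53)) :=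
  Lre_e IH (LK LD1_c1 LD2_c7 LD3_c20) (LK LD1_c0 LD2_c30 LD3_c53) Lrfl Lrfl
theorem f144035 : Led Lsl_et (LP (LK LD1_c0 LD2_c30 LD3_c53)) = (LP (LK LD1_c1 LD2_c7 LD3_c20)) :=
  Lre_e IH (LK LD1_c0 LD2_c30 LD3_c53) (LK LD1_c1 LD2_c7 LD3_c20) Lrfl Lrfl
theorem f144049 : Led Lsl_df (LP (LK LD1_c1 LD2_c7 LD3_c20)) = (LP (LK LD1_c1 LD2_c7 LD3_c20)) :=
  Lgr Lrot70 (Lpr_et (f129979 IH) (Lpr_dt (K4.f79268 IH) (Lpr_et (K7.f144043 IH) (Lpr_dt (K5.f25295 IH) (Lpr_et (f144035 IH) (Lpn (LP (LK LD1_c1 LD2_c7 LD3_c20))))))))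
theorem f25213 : Led Lsl_bt (LP (LK LD1_c0 LD2_c30 LD3_c54)) = (LP (LK LD1_c1 LD2_c7 LD3_c20)) :=
  Lre_b IH (LK LD1_c0 LD2_c30 LD3_c54) (LK LD1_c1 LD2_c7 LD3_c20) Lrfl Lrfl
theorem f144055 : Led Lsl_dt (LP (LK LD1_c0 LD2_c30 LD3_c54)) = (LP (LK LD1_c0 LD2_c30 LD3_c54)) :=
  Lgr Lrot79 (Lpe (K8.f25249 IH) (Lpr_df (f144049 IH) (Lpe (f25213 IH) (Lpn (LP (LK LD1_c0 LD2_c30 LD3_c54))))))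
theorem f25245 : Led Lsl_ft (LP (LK LD1_c1 LD2_c7 LD3_c23)) = (LP (LK LD1_c0 LD2_c30 LD3_c54)) :=
  Lre_f IH (LK LD1_c1 LD2_c7 LD3_c23) (LK LD1_c0 LD2_c30 LD3_c54) Lrfl Lrfl
theorem f144060 : Led Lsl_df (LP (LK LD1_c1 LD2_c7 LD3_c23)) = (LP (LK LD1_c1 LD2_c7 LD3_c23)) :=
  Lgr Lrot78 (Lpr_ft (f25245 IH) (Lpr_dt (f144055 IH) (Lpr_ft (K7.f25222 IH) (Lpn (LP (LK LD1_c1 LD2_c7 LD3_c23))))))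
theorem f151942 : Led Lsl_gf (LP (LK LD1_c1 LD2_c7 LD3_c23)) = (LP (LK LD1_c0 LD2_c43 LD3_c26)) :=
  Lgr Lrot76 (Lpr_af (K7.f151922 IH) (Lpe (K7.f22515 IH) (Lpr_gt (K0.f22520 IH) (Lpn (LP (LK LD1_c0 LD2_c43 LD3_c26))))))
theorem f446151 : Led Lsl_gt (LP (LK LD1_c1 LD2_c8 LD3_c30)) = (LP (LK LD1_c1 LD2_c33 LD3_c44)) :=
  Lgr Lrot94 (Lpe (f446136 IH) (Lpr_gt (f446147 IH) (Lpe (f445647 IH) (Lpe (f436293 IH) (Lpr_dt (f25241 IH) (Lpe (K7.f25224 IH) (Lpr_df (f144060 IH) (Lpr_gf (f151942 IH) (Lpe (K0.f23797 IH) (Lpn (LP (LK LD1_c1 LD2_c33 LD3_c44))))))))))))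
theorem f22522 : Led Lsl_gt (LP (LK LD1_c1 LD2_c33 LD3_c44)) = (LP (LK LD1_c1 LD2_c37 LD3_c14)) :=
  Lre_g IH (LK LD1_c1 LD2_c33 LD3_c44) (LK LD1_c1 LD2_c37 LD3_c14) Lrfl Lrfl
theorem f454048 : Led Lsl_af (LP (LK LD1_c1 LD2_c37 LD3_c14)) = (LP (LK LD1_c1 LD2_c37 LD3_c2)) :=
  Lgr Lrot31 (Lpe (f22522 IH) (Lpe (f446151 IH) (Lpr_ft (f454040 IH) (Lpn (LP (LK LD1_c1 LD2_c37 LD3_c2))))))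
theorem f416132 : Led Lsl_ef (LP (LK LD1_c1 LD2_c8 LD3_c27)) = (LP (LK LD1_c1 LD2_c37 LD3_c14)) :=
  Lgr Lrot88 (Lpr_et (f415306 IH) (Lpn (LP (LK LD1_c1 LD2_c37 LD3_c14))))
theorem f24657 : Led Lsl_et (LP (LK LD1_c0 LD2_c44 LD3_c54)) = (LP (LK LD1_c1 LD2_c37 LD3_c2)) :=
  Lre_e IH (LK LD1_c0 LD2_c44 LD3_c54) (LK LD1_c1 LD2_c37 LD3_c2) Lrfl Lrfl
theorem f454025 : Led Lsl_af (LP (LK LD1_c0 LD2_c44 LD3_c54)) = v564 :=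
  Lgr Lrot0 (Lpr_at (f454024 IH) (Lpn v564))
theorem f454056 : (LP (LK LD1_c1 LD2_c8 LD3_c27)) = v564 :=
  (Llr Lrot123 (Lpr_ef (f416132 IH) (Lpr_af (f454048 IH) (Lpe (f24657 IH) (Lpr_af (f454025 IH) (Lpn v564)))))).symm
theorem f454061 : v134 = (LP (LK LD1_c0 LD2_c31 LD3_c18)) :=
  Lefun (Lecon (Lfl_df (f454027 IH)) (f454056 IH).symm) (f68367 IH)
theorem f454062 : (LP (LK LD1_c0 LD2_c19 LD3_c55)) = v357 :=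
  Lefun (Lecon (Lfl_af (f450661 IH)) (f454061 IH)) (f452392 IH)
theorem f454078 : (LP (LK LD1_c0 LD2_c31 LD3_c19)) = v135 :=
  Lefun (Lecon (Lfl_ff (f452395 IH)) (f454062 IH).symm) (f450666 IH)
theorem f454086 : v563 = (LP (LK LD1_c1 LD2_c8 LD3_c29)) :=
  Lefun (Lecon (f454021 IH) (f454078 IH).symm) (K17.f23194 IH)
theorem f454093 : Led Lsl_ff (LP (LK LD1_c1 LD2_c36 LD3_c59)) = (LP (LK LD1_c2 LD2_c22 LD3_c47)) :=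
  Lgr Lrot19 (Lpr_dt (K17.f413452 IH) (Lpr_ft (f454016 IH) (Lpqs (f454086 IH) (Lpr_dt (f23195 IH) (Lpn (LP (LK LD1_c2 LD2_c22 LD3_c47)))))))
theorem f454100 : Led Lsl_at (LP (LK LD1_c1 LD2_c36 LD3_c59)) = (LP (LK LD1_c2 LD2_c22 LD3_c40)) :=
  Lgr Lrot26 (Lpr_ff (f454093 IH) (Lpr_gt (f415051 IH) (Lpr_gt (f414795 IH) (Lpn (LP (LK LD1_c2 LD2_c22 LD3_c40))))))
theorem f414131 : Led Lsl_et (LP (LK LD1_c3 LD2_c21 LD3_c30)) = (LP (LK LD1_c1 LD2_c36 LD3_c59)) :=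
  Lre_e IH (LK LD1_c3 LD2_c21 LD3_c30) (LK LD1_c1 LD2_c36 LD3_c59) Lrfl Lrfl
theorem f414469 : Led Lsl_et (LP (LK LD1_c2 LD2_c22 LD3_c40)) = (LP (LK LD1_c4 LD2_c49 LD3_c54)) :=
  Lre_e IH (LK LD1_c2 LD2_c22 LD3_c40) (LK LD1_c4 LD2_c49 LD3_c54) Lrfl Lrfl
theorem f454106 : Led Lsl_af (LP (LK LD1_c3 LD2_c21 LD3_c30)) = (LP (LK LD1_c4 LD2_c49 LD3_c54)) :=
  Lgr Lrot50 (Lpr_et (f414131 IH) (Lpr_at (f454100 IH) (Lpr_et (f414469 IH) (Lpn (LP (LK LD1_c4 LD2_c49 LD3_c54))))))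
theorem f414132 : Led Lsl_dt (LP (LK LD1_c3 LD2_c21 LD3_c30)) = (LP (LK LD1_c6 LD2_c46 LD3_c43)) :=
  Lre_d IH (LK LD1_c3 LD2_c21 LD3_c30) (LK LD1_c6 LD2_c46 LD3_c43) Lrfl Lrfl
theorem f415253 : Led Lsl_et (LP (LK LD1_c4 LD2_c49 LD3_c54)) = (LP (LK LD1_c2 LD2_c22 LD3_c40)) :=
  Lre_e IH (LK LD1_c4 LD2_c49 LD3_c54) (LK LD1_c2 LD2_c22 LD3_c40) Lrfl Lrfl
theorem f414849 : Led Lsl_et (LP (LK LD1_c3 LD2_c21 LD3_c57)) = (LP (LK LD1_c6 LD2_c47 LD3_c36)) :=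
  Lre_e IH (LK LD1_c3 LD2_c21 LD3_c57) (LK LD1_c6 LD2_c47 LD3_c36) Lrfl Lrfl
theorem f415254 : Led Lsl_df (LP (LK LD1_c4 LD2_c49 LD3_c54)) = (LP (LK LD1_c6 LD2_c47 LD3_c36)) :=
  Lgr Lrot70 (Lpr_et (f415253 IH) (Lpr_dt (f413682 IH) (Lpr_et (K16.f415242 IH) (Lpr_dt (K16.f413550 IH) (Lpr_et (f414849 IH) (Lpn (LP (LK LD1_c6 LD2_c47 LD3_c36))))))))
theorem f454112 : Led Lsl_at (LP (LK LD1_c6 LD2_c46 LD3_c43)) = (LP (LK LD1_c6 LD2_c47 LD3_c36)) :=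
  Lgr Lrot51 (Lpe (f414132 IH) (Lpr_af (f454106 IH) (Lpr_df (f415254 IH) (Lpn (LP (LK LD1_c6 LD2_c47 LD3_c36))))))
theorem f415035 : Led Lsl_et (LP (LK LD1_c3 LD2_c21 LD3_c32)) = (LP (LK LD1_c6 LD2_c46 LD3_c43)) :=
  Lre_e IH (LK LD1_c3 LD2_c21 LD3_c32) (LK LD1_c6 LD2_c46 LD3_c43) Lrfl Lrfl
theorem f415239 : Led Lsl_et (LP (LK LD1_c6 LD2_c47 LD3_c36)) = (LP (LK LD1_c3 LD2_c21 LD3_c57)) :=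
  Lre_e IH (LK LD1_c6 LD2_c47 LD3_c36) (LK LD1_c3 LD2_c21 LD3_c57) Lrfl Lrfl
theorem f454132 : Led Lsl_af (LP (LK LD1_c3 LD2_c21 LD3_c32)) = (LP (LK LD1_c3 LD2_c21 LD3_c57)) :=
  Lgr Lrot50 (Lpr_et (f415035 IH) (Lpr_at (f454112 IH) (Lpr_et (f415239 IH) (Lpn (LP (LK LD1_c3 LD2_c21 LD3_c57))))))
theorem f454140 : Led Lsl_ft (LP (LK LD1_c4 LD2_c49 LD3_c56)) = (LP (LK LD1_c3 LD2_c21 LD3_c57)) :=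
  Lgr Lrot2 (Lpe (f414318 IH) (Lpe (K16.f413636 IH) (Lpr_af (f454132 IH) (Lpn (LP (LK LD1_c3 LD2_c21 LD3_c57))))))
theorem f454148 : Led Lsl_ff (LP (LK LD1_c4 LD2_c49 LD3_c56)) = (LP (LK LD1_c3 LD2_c21 LD3_c57)) :=
  Lgr Lrot3 (Lpr_ft (f454140 IH) (Lpn (LP (LK LD1_c3 LD2_c21 LD3_c57))))
theorem f454156 : Led Lsl_at (LP (LK LD1_c4 LD2_c49 LD3_c56)) = (LP (LK LD1_c3 LD2_c21 LD3_c37)) :=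
  Lgr Lrot26 (Lpr_ff (f454148 IH) (Lpe (f415244 IH) (Lpe (K16.f139928 IH) (Lpn (LP (LK LD1_c3 LD2_c21 LD3_c37))))))
theorem f454134 : Led Lsl_at (LP (LK LD1_c3 LD2_c21 LD3_c32)) = (LP (LK LD1_c3 LD2_c21 LD3_c57)) :=
  Lgr Lrot100 (Lpr_af (f454132 IH) (Lpn (LP (LK LD1_c3 LD2_c21 LD3_c57))))
theorem f454166 : Led Lsl_ff (LP (LK LD1_c3 LD2_c21 LD3_c32)) = (LP (LK LD1_c3 LD2_c21 LD3_c37)) :=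
  Lgr Lrot30 (Lpr_at (f454134 IH) (Lpe (f454148 IH) (Lpr_at (f454156 IH) (Lpn (LP (LK LD1_c3 LD2_c21 LD3_c37))))))
theorem f454170 : Led Lsl_ft (LP (LK LD1_c1 LD2_c36 LD3_c60)) = (LP (LK LD1_c1 LD2_c37 LD3_c1)) :=
  Lgr Lrot54 (Lpe (K16.f23198 IH) (Lpr_ff (f454166 IH) (Lpe (K17.f139945 IH) (Lpn (LP (LK LD1_c1 LD2_c37 LD3_c1))))))
theorem f454162 : Led Lsl_af (LP (LK LD1_c2 LD2_c22 LD3_c41)) = (LP (LK LD1_c1 LD2_c37 LD3_c1)) :=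
  Lgr Lrot117 (Lpr_dt (f414316 IH) (Lpr_at (f454156 IH) (Lpr_dt (K16.f139927 IH) (Lpn (LP (LK LD1_c1 LD2_c37 LD3_c1))))))
theorem f454154 : Led Lsl_ft (LP (LK LD1_c2 LD2_c22 LD3_c41)) = (LP (LK LD1_c1 LD2_c37 LD3_c12)) :=
  Lgr Lrot54 (Lpe (f414302 IH) (Lpr_ff (f454148 IH) (Lpe (K16.f413550 IH) (Lpn (LP (LK LD1_c1 LD2_c37 LD3_c12))))))
theorem f454511 : Led Lsl_af (LP (LK LD1_c1 LD2_c36 LD3_c60)) = (LP (LK LD1_c1 LD2_c37 LD3_c12)) :=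
  Lgr Lrot45 (Lpr_ft (f454170 IH) (Lpe (f454162 IH) (Lpr_ft (f454154 IH) (Lpn (LP (LK LD1_c1 LD2_c37 LD3_c12))))))
theorem f416798 : Led Lsl_bt (LP (LK LD1_c1 LD2_c36 LD3_c60)) = (LP (LK LD1_c3 LD2_c21 LD3_c26)) :=
  Lre_b IH (LK LD1_c1 LD2_c36 LD3_c60) (LK LD1_c3 LD2_c21 LD3_c26) Lrfl Lrfl
theorem f454215 : Led Lsl_at (LP (LK LD1_c3 LD2_c21 LD3_c26)) = (LP (LK LD1_c6 LD2_c46 LD3_c32)) :=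
  Lre_a IH (LK LD1_c3 LD2_c21 LD3_c26) (LK LD1_c6 LD2_c46 LD3_c32) Lrfl Lrfl
theorem f414837 : Led Lsl_bt (LP (LK LD1_c3 LD2_c21 LD3_c56)) = (LP (LK LD1_c1 LD2_c37 LD3_c12)) :=
  Lre_b IH (LK LD1_c3 LD2_c21 LD3_c56) (LK LD1_c1 LD2_c37 LD3_c12) Lrfl Lrfl
theorem f416223 : Led Lsl_at (LP (LK LD1_c6 LD2_c47 LD3_c34)) = (LP (LK LD1_c3 LD2_c21 LD3_c56)) :=
  Lre_a IH (LK LD1_c6 LD2_c47 LD3_c34) (LK LD1_c3 LD2_c21 LD3_c56) Lrfl Lrfl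
theorem f454513 : Led Lsl_bt (LP (LK LD1_c6 LD2_c46 LD3_c32)) = (LP (LK LD1_c6 LD2_c47 LD3_c34)) :=
  Lgr Lrot62 (Lpe (f454215 IH) (Lpe (f416798 IH) (Lpr_af (f454511 IH) (Lpe (f414837 IH) (Lpe (f416223 IH) (Lpn (LP (LK LD1_c6 LD2_c47 LD3_c34))))))))
theorem f454172 : Led Lsl_ft (LP (LK LD1_c3 LD2_c21 LD3_c32)) = (LP (LK LD1_c3 LD2_c21 LD3_c37)) :=
  Lgr Lrot48 (Lpr_ff (f454166 IH) (Lpn (LP (LK LD1_c3 LD2_c21 LD3_c37))))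
theorem f454176 : Led Lsl_ff (LP (LK LD1_c1 LD2_c36 LD3_c60)) = (LP (LK LD1_c1 LD2_c37 LD3_c1)) :=
  Lgr Lrot19 (Lpr_dt (K16.f413623 IH) (Lpr_ft (f454172 IH) (Lpr_dt (K16.f139927 IH) (Lpn (LP (LK LD1_c1 LD2_c37 LD3_c1))))))
theorem f416545 : Led Lsl_bt (LP (LK LD1_c3 LD2_c21 LD3_c36)) = (LP (LK LD1_c1 LD2_c37 LD3_c1)) :=
  Lre_b IH (LK LD1_c3 LD2_c21 LD3_c36) (LK LD1_c1 LD2_c37 LD3_c1) Lrfl Lrfl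
theorem f454180 : Led Lsl_ft (LP (LK LD1_c3 LD2_c21 LD3_c26)) = (LP (LK LD1_c3 LD2_c21 LD3_c36)) :=
  Lgr Lrot75 (Lpe (f416798 IH) (Lpr_ff (f454176 IH) (Lpe (f416545 IH) (Lpn (LP (LK LD1_c3 LD2_c21 LD3_c36))))))
theorem f454207 : Led Lsl_at (LP (LK LD1_c6 LD2_c46 LD3_c32)) = (LP (LK LD1_c3 LD2_c21 LD3_c26)) :=
  Lre_a IH (LK LD1_c6 LD2_c46 LD3_c32) (LK LD1_c3 LD2_c21 LD3_c26) Lrfl Lrfl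
theorem f454208 : Led Lsl_at (LP (LK LD1_c3 LD2_c21 LD3_c36)) = (LP (LK LD1_c6 LD2_c46 LD3_c53)) :=
  Lre_a IH (LK LD1_c3 LD2_c21 LD3_c36) (LK LD1_c6 LD2_c46 LD3_c53) Lrfl Lrfl
theorem f454209 : Led Lsl_ff (LP (LK LD1_c6 LD2_c46 LD3_c32)) = (LP (LK LD1_c6 LD2_c46 LD3_c53)) :=
  Lgr Lrot30 (Lpr_at (f454207 IH) (Lpr_ft (f454180 IH) (Lpr_at (f454208 IH) (Lpn (LP (LK LD1_c6 LD2_c46 LD3_c53))))))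
theorem f454138 : Led Lsl_at (LP (LK LD1_c1 LD2_c36 LD3_c60)) = (LP (LK LD1_c1 LD2_c37 LD3_c12)) :=
  Lgr Lrot51 (Lpe (K16.f23198 IH) (Lpr_af (f454132 IH) (Lpe (K16.f413550 IH) (Lpn (LP (LK LD1_c1 LD2_c37 LD3_c12))))))
theorem f454146 : Led Lsl_ff (LP (LK LD1_c2 LD2_c22 LD3_c41)) = (LP (LK LD1_c1 LD2_c37 LD3_c12)) :=
  Lgr Lrot19 (Lpr_dt (f414316 IH) (Lpr_ft (f454140 IH) (Lpr_dt (K16.f413536 IH) (Lpn (LP (LK LD1_c1 LD2_c37 LD3_c12))))))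
theorem f454178 : Led Lsl_at (LP (LK LD1_c2 LD2_c22 LD3_c41)) = (LP (LK LD1_c1 LD2_c37 LD3_c1)) :=
  Lgr Lrot66 (Lpr_ff (f454146 IH) (Lpe (f454138 IH) (Lpr_ff (f454176 IH) (Lpn (LP (LK LD1_c1 LD2_c37 LD3_c1))))))
theorem f416637 : Led Lsl_bt (LP (LK LD1_c4 LD2_c49 LD3_c55)) = (LP (LK LD1_c2 LD2_c22 LD3_c41)) :=
  Lre_b IH (LK LD1_c4 LD2_c49 LD3_c55) (LK LD1_c2 LD2_c22 LD3_c41) Lrfl Lrfl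
theorem f454239 : Led Lsl_at (LP (LK LD1_c9 LD2_c32 LD3_c27)) = (LP (LK LD1_c4 LD2_c49 LD3_c55)) :=
  Lre_a IH (LK LD1_c9 LD2_c32 LD3_c27) (LK LD1_c4 LD2_c49 LD3_c55) Lrfl Lrfl
theorem f417134 : Led Lsl_bt (LP (LK LD1_c1 LD2_c37 LD3_c1)) = (LP (LK LD1_c3 LD2_c21 LD3_c36)) :=
  Lre_b IH (LK LD1_c1 LD2_c37 LD3_c1) (LK LD1_c3 LD2_c21 LD3_c36) Lrfl Lrfl
theorem f454240 : Led Lsl_bf (LP (LK LD1_c9 LD2_c32 LD3_c27)) = (LP (LK LD1_c6 LD2_c46 LD3_c53)) :=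
  Lgr Lrot81 (Lpr_at (f454239 IH) (Lpr_bt (f416637 IH) (Lpr_at (f454178 IH) (Lpr_bt (f417134 IH) (Lpr_at (f454208 IH) (Lpn (LP (LK LD1_c6 LD2_c46 LD3_c53))))))))
theorem f454242 : Led Lsl_bt (LP (LK LD1_c9 LD2_c32 LD3_c27)) = (LP (LK LD1_c6 LD2_c46 LD3_c53)) :=
  Lgr Lrot127 (Lpr_bf (f454240 IH) (Lpn (LP (LK LD1_c6 LD2_c46 LD3_c53))))
theorem f454519 : Led Lsl_ff (LP (LK LD1_c9 LD2_c32 LD3_c27)) = (LP (LK LD1_c6 LD2_c47 LD3_c34)) :=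
  Lgr Lrot25 (Lpr_bt (f454242 IH) (Lpe (f454209 IH) (Lpr_bt (f454513 IH) (Lpn (LP (LK LD1_c6 LD2_c47 LD3_c34))))))
theorem f454525 : Led Lsl_ft (LP (LK LD1_c9 LD2_c32 LD3_c27)) = (LP (LK LD1_c6 LD2_c47 LD3_c34)) :=
  Lgr Lrot48 (Lpr_ff (f454519 IH) (Lpn (LP (LK LD1_c6 LD2_c47 LD3_c34))))
theorem f414462 : Led Lsl_bt (LP (LK LD1_c0 LD2_c31 LD3_c18)) = (LP (LK LD1_c1 LD2_c8 LD3_c25)) :=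
  Lre_b IH (LK LD1_c0 LD2_c31 LD3_c18) (LK LD1_c1 LD2_c8 LD3_c25) Lrfl Lrfl
theorem f414543 : Led Lsl_bt (LP (LK LD1_c1 LD2_c37 LD3_c7)) = (LP (LK LD1_c0 LD2_c44 LD3_c58)) :=
  Lre_b IH (LK LD1_c1 LD2_c37 LD3_c7) (LK LD1_c0 LD2_c44 LD3_c58) Lrfl Lrfl
theorem f415303 : Led Lsl_et (LP (LK LD1_c1 LD2_c8 LD3_c25)) = (LP (LK LD1_c1 LD2_c37 LD3_c7)) :=
  Lgr Lrot74 (Lpe (f414462 IH) (Lpr_ef (K16.f415251 IH) (Lpe (f414543 IH) (Lpn (LP (LK LD1_c1 LD2_c37 LD3_c7))))))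
theorem f416180 : Led Lsl_ef (LP (LK LD1_c1 LD2_c8 LD3_c25)) = (LP (LK LD1_c1 LD2_c37 LD3_c7)) :=
  Lgr Lrot88 (Lpr_et (f415303 IH) (Lpn (LP (LK LD1_c1 LD2_c37 LD3_c7))))
theorem f76946 : Led Lsl_ct (LP (LK LD1_c1 LD2_c8 LD3_c25)) = (LP (LK LD1_c2 LD2_c22 LD3_c37)) :=
  Lre_c IH (LK LD1_c1 LD2_c8 LD3_c25) (LK LD1_c2 LD2_c22 LD3_c37) Lrfl Lrfl
theorem f416182 : Led Lsl_ct (LP (LK LD1_c3 LD2_c21 LD3_c46)) = (LP (LK LD1_c1 LD2_c37 LD3_c7)) :=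
  Lre_c IH (LK LD1_c3 LD2_c21 LD3_c46) (LK LD1_c1 LD2_c37 LD3_c7) Lrfl Lrfl
theorem f416183 : Led Lsl_et (LP (LK LD1_c2 LD2_c22 LD3_c37)) = (LP (LK LD1_c3 LD2_c21 LD3_c46)) :=
  Lgr Lrot158 (Lpe (f76946 IH) (Lpr_ef (f416180 IH) (Lpe (f416182 IH) (Lpn (LP (LK LD1_c3 LD2_c21 LD3_c46))))))
theorem f416187 : Led Lsl_bt (LP (LK LD1_c4 LD2_c49 LD3_c44)) = (LP (LK LD1_c2 LD2_c22 LD3_c37)) :=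
  Lre_b IH (LK LD1_c4 LD2_c49 LD3_c44) (LK LD1_c2 LD2_c22 LD3_c37) Lrfl Lrfl
theorem f416188 : Led Lsl_bt (LP (LK LD1_c3 LD2_c21 LD3_c46)) = (LP (LK LD1_c6 LD2_c47 LD3_c14)) :=
  Lre_b IH (LK LD1_c3 LD2_c21 LD3_c46) (LK LD1_c6 LD2_c47 LD3_c14) Lrfl Lrfl
theorem f416189 : Led Lsl_ef (LP (LK LD1_c4 LD2_c49 LD3_c44)) = (LP (LK LD1_c6 LD2_c47 LD3_c14)) :=
  Lgr Lrot29 (Lpr_bt (f416187 IH) (Lpr_et (f416183 IH) (Lpr_bt (f416188 IH) (Lpn (LP (LK LD1_c6 LD2_c47 LD3_c14))))))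
theorem f416204 : Led Lsl_et (LP (LK LD1_c4 LD2_c49 LD3_c44)) = (LP (LK LD1_c6 LD2_c47 LD3_c14)) :=
  Lgr Lrot87 (Lpr_ef (f416189 IH) (Lpn (LP (LK LD1_c6 LD2_c47 LD3_c14))))
theorem f416208 : Led Lsl_at (LP (LK LD1_c9 LD2_c32 LD3_c3)) = (LP (LK LD1_c4 LD2_c49 LD3_c44)) :=
  Lre_a IH (LK LD1_c9 LD2_c32 LD3_c3) (LK LD1_c4 LD2_c49 LD3_c44) Lrfl Lrfl
theorem f416209 : Led Lsl_at (LP (LK LD1_c6 LD2_c47 LD3_c14)) = (LP (LK LD1_c12 LD2_c57 LD3_c32)) :=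
  Lre_a IH (LK LD1_c6 LD2_c47 LD3_c14) (LK LD1_c12 LD2_c57 LD3_c32) Lrfl Lrfl
theorem f416210 : Led Lsl_ef (LP (LK LD1_c9 LD2_c32 LD3_c3)) = (LP (LK LD1_c12 LD2_c57 LD3_c32)) :=
  Lgr Lrot20 (Lpr_at (f416208 IH) (Lpr_et (f416204 IH) (Lpr_at (f416209 IH) (Lpn (LP (LK LD1_c12 LD2_c57 LD3_c32))))))
theorem f416217 : Led Lsl_ct (LP (LK LD1_c9 LD2_c32 LD3_c3)) = (LP (LK LD1_c4 LD2_c49 LD3_c49)) :=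
  Lre_c IH (LK LD1_c9 LD2_c32 LD3_c3) (LK LD1_c4 LD2_c49 LD3_c49) Lrfl Lrfl
theorem f416218 : Led Lsl_ct (LP (LK LD1_c6 LD2_c47 LD3_c34)) = (LP (LK LD1_c12 LD2_c57 LD3_c32)) :=
  Lre_c IH (LK LD1_c6 LD2_c47 LD3_c34) (LK LD1_c12 LD2_c57 LD3_c32) Lrfl Lrfl
theorem f416219 : Led Lsl_et (LP (LK LD1_c4 LD2_c49 LD3_c49)) = (LP (LK LD1_c6 LD2_c47 LD3_c34)) :=
  Lgr Lrot158 (Lpe (f416217 IH) (Lpr_ef (f416210 IH) (Lpe (f416218 IH) (Lpn (LP (LK LD1_c6 LD2_c47 LD3_c34))))))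
theorem f416224 : Led Lsl_ef (LP (LK LD1_c4 LD2_c49 LD3_c49)) = (LP (LK LD1_c6 LD2_c47 LD3_c34)) :=
  Lgr Lrot88 (Lpr_et (f416219 IH) (Lpn (LP (LK LD1_c6 LD2_c47 LD3_c34))))
theorem f454174 : Led Lsl_ff (LP (LK LD1_c6 LD2_c46 LD3_c46)) = (LP (LK LD1_c6 LD2_c12 LD3_c14)) :=
  Lgr Lrot23 (Lpr_ct (K17.f23199 IH) (Lpr_ft (f454172 IH) (Lpe (K16.f413445 IH) (Lpn (LP (LK LD1_c6 LD2_c12 LD3_c14))))))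
theorem f416508 : Led Lsl_dt (LP (LK LD1_c3 LD2_c21 LD3_c52)) = (LP (LK LD1_c6 LD2_c12 LD3_c14)) :=
  Lgr Lrot42 (Lpr_df (K17.f416469 IH) (Lpn (LP (LK LD1_c6 LD2_c12 LD3_c14))))
theorem f454249 : Led Lsl_ft (LP (LK LD1_c4 LD2_c49 LD3_c53)) = (LP (LK LD1_c3 LD2_c21 LD3_c52)) :=
  Lgr Lrot54 (Lpe (f414452 IH) (Lpr_ff (f454174 IH) (Lpe (f416508 IH) (Lpn (LP (LK LD1_c3 LD2_c21 LD3_c52))))))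
theorem f454257 : Led Lsl_af (LP (LK LD1_c4 LD2_c50 LD3_c1)) = (LP (LK LD1_c3 LD2_c21 LD3_c52)) :=
  Lgr Lrot31 (Lpe (f414927 IH) (Lpr_gf (f414939 IH) (Lpr_ft (f454249 IH) (Lpn (LP (LK LD1_c3 LD2_c21 LD3_c52))))))
theorem f414922 : Led Lsl_et (LP (LK LD1_c4 LD2_c50 LD3_c1)) = (LP (LK LD1_c9 LD2_c32 LD3_c35)) :=
  Lre_e IH (LK LD1_c4 LD2_c50 LD3_c1) (LK LD1_c9 LD2_c32 LD3_c35) Lrfl Lrfl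
theorem f417052 : Led Lsl_et (LP (LK LD1_c6 LD2_c47 LD3_c29)) = (LP (LK LD1_c3 LD2_c21 LD3_c52)) :=
  Lre_e IH (LK LD1_c6 LD2_c47 LD3_c29) (LK LD1_c3 LD2_c21 LD3_c52) Lrfl Lrfl
theorem f454263 : Led Lsl_at (LP (LK LD1_c9 LD2_c32 LD3_c35)) = (LP (LK LD1_c6 LD2_c47 LD3_c29)) :=
  Lgr Lrot80 (Lpe (f414922 IH) (Lpr_af (f454257 IH) (Lpe (f417052 IH) (Lpn (LP (LK LD1_c6 LD2_c47 LD3_c29))))))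
theorem f454267 : Led Lsl_ct (LP (LK LD1_c4 LD2_c50 LD3_c2)) = (LP (LK LD1_c9 LD2_c32 LD3_c35)) :=
  Lre_c IH (LK LD1_c4 LD2_c50 LD3_c2) (LK LD1_c9 LD2_c32 LD3_c35) Lrfl Lrfl
theorem f454268 : Led Lsl_ct (LP (LK LD1_c6 LD2_c47 LD3_c29)) = (LP (LK LD1_c3 LD2_c21 LD3_c53)) :=
  Lre_c IH (LK LD1_c6 LD2_c47 LD3_c29) (LK LD1_c3 LD2_c21 LD3_c53) Lrfl Lrfl
theorem f454269 : Led Lsl_af (LP (LK LD1_c4 LD2_c50 LD3_c2)) = (LP (LK LD1_c3 LD2_c21 LD3_c53)) :=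
  Lgr Lrot68 (Lpr_ct (f454267 IH) (Lpr_at (f454263 IH) (Lpr_ct (f454268 IH) (Lpn (LP (LK LD1_c3 LD2_c21 LD3_c53))))))
theorem f454273 : Led Lsl_at (LP (LK LD1_c4 LD2_c50 LD3_c2)) = (LP (LK LD1_c3 LD2_c21 LD3_c53)) :=
  Lgr Lrot100 (Lpr_af (f454269 IH) (Lpn (LP (LK LD1_c3 LD2_c21 LD3_c53))))
theorem f414262 : Led Lsl_et (LP (LK LD1_c2 LD2_c22 LD3_c47)) = (LP (LK LD1_c4 LD2_c50 LD3_c2)) :=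
  Lre_e IH (LK LD1_c2 LD2_c22 LD3_c47) (LK LD1_c4 LD2_c50 LD3_c2) Lrfl Lrfl
theorem f414129 : Led Lsl_et (LP (LK LD1_c3 LD2_c21 LD3_c53)) = (LP (LK LD1_c1 LD2_c37 LD3_c10)) :=
  Lre_e IH (LK LD1_c3 LD2_c21 LD3_c53) (LK LD1_c1 LD2_c37 LD3_c10) Lrfl Lrfl
theorem f454279 : Led Lsl_af (LP (LK LD1_c2 LD2_c22 LD3_c47)) = (LP (LK LD1_c1 LD2_c37 LD3_c10)) :=
  Lgr Lrot50 (Lpr_et (f414262 IH) (Lpr_at (f454273 IH) (Lpr_et (f414129 IH) (Lpn (LP (LK LD1_c1 LD2_c37 LD3_c10))))))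
theorem f454282 : Led Lsl_ft (LP (LK LD1_c2 LD2_c22 LD3_c40)) = (LP (LK LD1_c1 LD2_c37 LD3_c10)) :=
  Lgr Lrot101 (Lpe (f454100 IH) (Lpr_ff (f454093 IH) (Lpr_af (f454279 IH) (Lpn (LP (LK LD1_c1 LD2_c37 LD3_c10))))))
theorem f416754 : Led Lsl_bt (LP (LK LD1_c4 LD2_c49 LD3_c50)) = (LP (LK LD1_c2 LD2_c22 LD3_c40)) :=
  Lre_b IH (LK LD1_c4 LD2_c49 LD3_c50) (LK LD1_c2 LD2_c22 LD3_c40) Lrfl Lrfl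
theorem f416515 : Led Lsl_bt (LP (LK LD1_c1 LD2_c37 LD3_c10)) = (LP (LK LD1_c3 LD2_c21 LD3_c50)) :=
  Lre_b IH (LK LD1_c1 LD2_c37 LD3_c10) (LK LD1_c3 LD2_c21 LD3_c50) Lrfl Lrfl
theorem f454284 : Led Lsl_ff (LP (LK LD1_c4 LD2_c49 LD3_c50)) = (LP (LK LD1_c3 LD2_c21 LD3_c50)) :=
  Lgr Lrot25 (Lpr_bt (f416754 IH) (Lpr_ft (f454282 IH) (Lpr_bt (f416515 IH) (Lpn (LP (LK LD1_c3 LD2_c21 LD3_c50))))))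
theorem f454296 : Led Lsl_ft (LP (LK LD1_c4 LD2_c49 LD3_c50)) = (LP (LK LD1_c3 LD2_c21 LD3_c50)) :=
  Lgr Lrot48 (Lpr_ff (f454284 IH) (Lpn (LP (LK LD1_c3 LD2_c21 LD3_c50))))
theorem f415301 : Led Lsl_dt (LP (LK LD1_c2 LD2_c22 LD3_c39)) = (LP (LK LD1_c4 LD2_c49 LD3_c50)) :=
  Lre_d IH (LK LD1_c2 LD2_c22 LD3_c39) (LK LD1_c4 LD2_c49 LD3_c50) Lrfl Lrfl
theorem f454298 : Led Lsl_dt (LP (LK LD1_c3 LD2_c21 LD3_c50)) = (LP (LK LD1_c1 LD2_c37 LD3_c9)) :=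
  Lre_d IH (LK LD1_c3 LD2_c21 LD3_c50) (LK LD1_c1 LD2_c37 LD3_c9) Lrfl Lrfl
theorem f454303 : Led Lsl_ff (LP (LK LD1_c2 LD2_c22 LD3_c39)) = (LP (LK LD1_c1 LD2_c37 LD3_c9)) :=
  Lgr Lrot19 (Lpr_dt (f415301 IH) (Lpr_ft (f454296 IH) (Lpr_dt (f454298 IH) (Lpn (LP (LK LD1_c1 LD2_c37 LD3_c9))))))
theorem f416222 : Led Lsl_at (LP (LK LD1_c2 LD2_c22 LD3_c39)) = (LP (LK LD1_c4 LD2_c49 LD3_c49)) :=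
  Lre_a IH (LK LD1_c2 LD2_c22 LD3_c39) (LK LD1_c4 LD2_c49 LD3_c49) Lrfl Lrfl
theorem f454022 : Led Lsl_at (LP (LK LD1_c3 LD2_c21 LD3_c49)) = (LP (LK LD1_c1 LD2_c37 LD3_c9)) :=
  Lre_a IH (LK LD1_c3 LD2_c21 LD3_c49) (LK LD1_c1 LD2_c37 LD3_c9) Lrfl Lrfl
theorem f454306 : Led Lsl_ft (LP (LK LD1_c4 LD2_c49 LD3_c49)) = (LP (LK LD1_c3 LD2_c21 LD3_c49)) :=
  Lgr Lrot101 (Lpe (f416222 IH) (Lpr_ff (f454303 IH) (Lpe (f454022 IH) (Lpn (LP (LK LD1_c3 LD2_c21 LD3_c49))))))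
theorem f454453 : Led Lsl_et (LP (LK LD1_c3 LD2_c21 LD3_c49)) = (LP (LK LD1_c6 LD2_c47 LD3_c19)) :=
  Lre_e IH (LK LD1_c3 LD2_c21 LD3_c49) (LK LD1_c6 LD2_c47 LD3_c19) Lrfl Lrfl
theorem f454454 : Led Lsl_ft (LP (LK LD1_c6 LD2_c47 LD3_c19)) = (LP (LK LD1_c12 LD2_c57 LD3_c41)) :=
  Lre_f IH (LK LD1_c6 LD2_c47 LD3_c19) (LK LD1_c12 LD2_c57 LD3_c41) Lrfl Lrfl
theorem f454529 : Led Lsl_ef (LP (LK LD1_c9 LD2_c32 LD3_c27)) = (LP (LK LD1_c12 LD2_c57 LD3_c41)) :=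
  Lgr Lrot21 (Lpr_ft (f454525 IH) (Lpe (f416224 IH) (Lpr_ft (f454306 IH) (Lpr_et (f454453 IH) (Lpr_ft (f454454 IH) (Lpn (LP (LK LD1_c12 LD2_c57 LD3_c41))))))))
theorem f454203 : Led Lsl_et (LP (LK LD1_c6 LD2_c46 LD3_c53)) = (LP (LK LD1_c12 LD2_c56 LD3_c53)) :=
  Lre_e IH (LK LD1_c6 LD2_c46 LD3_c53) (LK LD1_c12 LD2_c56 LD3_c53) Lrfl Lrfl
theorem f454543 : Led Lsl_bt (LP (LK LD1_c12 LD2_c56 LD3_c53)) = (LP (LK LD1_c12 LD2_c57 LD3_c41)) :=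
  Lgr Lrot119 (Lpe (f454203 IH) (Lpe (f454242 IH) (Lpr_ef (f454529 IH) (Lpn (LP (LK LD1_c12 LD2_c57 LD3_c41))))))
theorem f415055 : Led Lsl_et (LP (LK LD1_c1 LD2_c8 LD3_c29)) = (LP (LK LD1_c2 LD2_c22 LD3_c48)) :=
  Lre_e IH (LK LD1_c1 LD2_c8 LD3_c29) (LK LD1_c2 LD2_c22 LD3_c48) Lrfl Lrfl
theorem f416549 : Led Lsl_et (LP (LK LD1_c3 LD2_c21 LD3_c38)) = (LP (LK LD1_c1 LD2_c37 LD3_c1)) :=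
  Lre_e IH (LK LD1_c3 LD2_c21 LD3_c38) (LK LD1_c1 LD2_c37 LD3_c1) Lrfl Lrfl
theorem f454182 : Led Lsl_ft (LP (LK LD1_c2 LD2_c22 LD3_c48)) = (LP (LK LD1_c3 LD2_c21 LD3_c38)) :=
  Lgr Lrot86 (Lpe (f415055 IH) (Lpq (f454086 IH) (Lpe (f454016 IH) (Lpe (K16.f413622 IH) (Lpr_ff (f454176 IH) (Lpe (f416549 IH) (Lpn (LP (LK LD1_c3 LD2_c21 LD3_c38)))))))))
theorem f446153 : Led Lsl_bt (LP (LK LD1_c4 LD2_c50 LD3_c0)) = (LP (LK LD1_c2 LD2_c22 LD3_c48)) :=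
  Lre_b IH (LK LD1_c4 LD2_c50 LD3_c0) (LK LD1_c2 LD2_c22 LD3_c48) Lrfl Lrfl
theorem f24665 : Led Lsl_bt (LP (LK LD1_c3 LD2_c21 LD3_c38)) = (LP (LK LD1_c6 LD2_c46 LD3_c54)) :=
  Lre_b IH (LK LD1_c3 LD2_c21 LD3_c38) (LK LD1_c6 LD2_c46 LD3_c54) Lrfl Lrfl
theorem f454184 : Led Lsl_ff (LP (LK LD1_c4 LD2_c50 LD3_c0)) = (LP (LK LD1_c6 LD2_c46 LD3_c54)) :=
  Lgr Lrot25 (Lpr_bt (f446153 IH) (Lpr_ft (f454182 IH) (Lpr_bt (f24665 IH) (Lpn (LP (LK LD1_c6 LD2_c46 LD3_c54))))))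
theorem f454186 : Led Lsl_at (LP (LK LD1_c4 LD2_c50 LD3_c0)) = (LP (LK LD1_c9 LD2_c32 LD3_c33)) :=
  Lre_a IH (LK LD1_c4 LD2_c50 LD3_c0) (LK LD1_c9 LD2_c32 LD3_c33) Lrfl Lrfl
theorem f454187 : Led Lsl_at (LP (LK LD1_c12 LD2_c56 LD3_c53)) = (LP (LK LD1_c6 LD2_c46 LD3_c54)) :=
  Lre_a IH (LK LD1_c12 LD2_c56 LD3_c53) (LK LD1_c6 LD2_c46 LD3_c54) Lrfl Lrfl
theorem f454188 : Led Lsl_ft (LP (LK LD1_c9 LD2_c32 LD3_c33)) = (LP (LK LD1_c12 LD2_c56 LD3_c53)) :=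
  Lgr Lrot101 (Lpe (f454186 IH) (Lpr_ff (f454184 IH) (Lpe (f454187 IH) (Lpn (LP (LK LD1_c12 LD2_c56 LD3_c53))))))
theorem f454439 : Led Lsl_ft (LP (LK LD1_c12 LD2_c57 LD3_c41)) = (LP (LK LD1_c6 LD2_c47 LD3_c19)) :=
  Lre_f IH (LK LD1_c12 LD2_c57 LD3_c41) (LK LD1_c6 LD2_c47 LD3_c19) Lrfl Lrfl
theorem f454551 : Led Lsl_bf (LP (LK LD1_c9 LD2_c32 LD3_c33)) = (LP (LK LD1_c6 LD2_c47 LD3_c19)) :=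
  Lgr Lrot61 (Lpr_ft (f454188 IH) (Lpr_bt (f454543 IH) (Lpr_ft (f454439 IH) (Lpn (LP (LK LD1_c6 LD2_c47 LD3_c19))))))
theorem f454195 : Led Lsl_at (LP (LK LD1_c9 LD2_c32 LD3_c33)) = (LP (LK LD1_c4 LD2_c50 LD3_c0)) :=
  Lre_a IH (LK LD1_c9 LD2_c32 LD3_c33) (LK LD1_c4 LD2_c50 LD3_c0) Lrfl Lrfl
theorem f454556 : Led Lsl_at (LP (LK LD1_c3 LD2_c21 LD3_c51)) = (LP (LK LD1_c6 LD2_c47 LD3_c19)) :=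
  Lre_a IH (LK LD1_c3 LD2_c21 LD3_c51) (LK LD1_c6 LD2_c47 LD3_c19) Lrfl Lrfl
theorem f442854 : Led Lsl_bt (LP (LK LD1_c1 LD2_c37 LD3_c11)) = (LP (LK LD1_c3 LD2_c21 LD3_c51)) :=
  Lre_b IH (LK LD1_c1 LD2_c37 LD3_c11) (LK LD1_c3 LD2_c21 LD3_c51) Lrfl Lrfl
theorem f454557 : Led Lsl_at (LP (LK LD1_c2 LD2_c22 LD3_c48)) = (LP (LK LD1_c1 LD2_c37 LD3_c11)) :=
  Lgr Lrot67 (Lpe (f446153 IH) (Lpe (f454195 IH) (Lpr_bf (f454551 IH) (Lpe (f454556 IH) (Lpe (f442854 IH) (Lpn (LP (LK LD1_c1 LD2_c37 LD3_c11))))))))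
theorem f454044 : Led Lsl_ff (LP (LK LD1_c2 LD2_c22 LD3_c48)) = (LP (LK LD1_c3 LD2_c21 LD3_c38)) :=
  Lgr Lrot23 (Lpr_ct (f446136 IH) (Lpr_ft (f454040 IH) (Lpr_ct (f24661 IH) (Lpn (LP (LK LD1_c3 LD2_c21 LD3_c38))))))
theorem f454652 : Led Lsl_gt (LP (LK LD1_c2 LD2_c51 LD3_c27)) = (LP (LK LD1_c1 LD2_c37 LD3_c11)) :=
  Lgr Lrot46 (Lpr_gf (f139947 IH) (Lpe (f454044 IH) (Lpr_at (f454557 IH) (Lpn (LP (LK LD1_c1 LD2_c37 LD3_c11))))))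
theorem f436243 : Led Lsl_ct (LP (LK LD1_c1 LD2_c33 LD3_c1)) = (LP (LK LD1_c2 LD2_c51 LD3_c27)) :=
  Lgr Lrot59 (Lpr_cf (f436241 IH) (Lpn (LP (LK LD1_c2 LD2_c51 LD3_c27))))
theorem f22729 : Led Lsl_ct (LP (LK LD1_c1 LD2_c37 LD3_c11)) = (LP (LK LD1_c0 LD2_c44 LD3_c59)) :=
  Lre_c IH (LK LD1_c1 LD2_c37 LD3_c11) (LK LD1_c0 LD2_c44 LD3_c59) Lrfl Lrfl
theorem f454559 : Led Lsl_bt (LP (LK LD1_c9 LD2_c32 LD3_c33)) = (LP (LK LD1_c6 LD2_c47 LD3_c19)) :=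
  Lgr Lrot127 (Lpr_bf (f454551 IH) (Lpn (LP (LK LD1_c6 LD2_c47 LD3_c19))))
theorem f446143 : Led Lsl_bt (LP (LK LD1_c2 LD2_c22 LD3_c48)) = (LP (LK LD1_c4 LD2_c50 LD3_c0)) :=
  Lre_b IH (LK LD1_c2 LD2_c22 LD3_c48) (LK LD1_c4 LD2_c50 LD3_c0) Lrfl Lrfl
theorem f454571 : Led Lsl_at (LP (LK LD1_c6 LD2_c47 LD3_c19)) = (LP (LK LD1_c3 LD2_c21 LD3_c51)) :=
  Lre_a IH (LK LD1_c6 LD2_c47 LD3_c19) (LK LD1_c3 LD2_c21 LD3_c51) Lrfl Lrfl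
theorem f414562 : Led Lsl_bt (LP (LK LD1_c3 LD2_c21 LD3_c51)) = (LP (LK LD1_c1 LD2_c37 LD3_c11)) :=
  Lre_b IH (LK LD1_c3 LD2_c21 LD3_c51) (LK LD1_c1 LD2_c37 LD3_c11) Lrfl Lrfl
theorem f454572 : Led Lsl_af (LP (LK LD1_c2 LD2_c22 LD3_c48)) = (LP (LK LD1_c1 LD2_c37 LD3_c11)) :=
  Lgr Lrot36 (Lpr_bt (f446143 IH) (Lpr_at (f454186 IH) (Lpr_bt (f454559 IH) (Lpr_at (f454571 IH) (Lpr_bt (f414562 IH) (Lpn (LP (LK LD1_c1 LD2_c37 LD3_c11))))))))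
theorem f454012 : Led Lsl_ft (LP (LK LD1_c3 LD2_c21 LD3_c55)) = (LP (LK LD1_c1 LD2_c37 LD3_c11)) :=
  Lre_f IH (LK LD1_c3 LD2_c21 LD3_c55) (LK LD1_c1 LD2_c37 LD3_c11) Lrfl Lrfl
theorem f454578 : Led Lsl_at (LP (LK LD1_c3 LD2_c21 LD3_c38)) = (LP (LK LD1_c3 LD2_c21 LD3_c55)) :=
  Lgr Lrot66 (Lpe (f454182 IH) (Lpr_af (f454572 IH) (Lpe (f454012 IH) (Lpn (LP (LK LD1_c3 LD2_c21 LD3_c55))))))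
theorem f454050 : Led Lsl_at (LP (LK LD1_c1 LD2_c37 LD3_c14)) = (LP (LK LD1_c1 LD2_c37 LD3_c2)) :=
  Lgr Lrot100 (Lpr_af (f454048 IH) (Lpn (LP (LK LD1_c1 LD2_c37 LD3_c2))))
theorem f454581 : Led Lsl_cf (LP (LK LD1_c1 LD2_c37 LD3_c14)) = (LP (LK LD1_c3 LD2_c21 LD3_c55)) :=
  Lgr Lrot1 (Lpr_at (f454050 IH) (Lpr_ct (f24661 IH) (Lpr_at (f454578 IH) (Lpn (LP (LK LD1_c3 LD2_c21 LD3_c55))))))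
theorem f454585 : Led Lsl_gt (LP (LK LD1_c4 LD2_c43 LD3_c49)) = (LP (LK LD1_c3 LD2_c21 LD3_c55)) :=
  Lgr Lrot46 (Lpe (f446147 IH) (Lpr_ft (f454182 IH) (Lpr_at (f454578 IH) (Lpn (LP (LK LD1_c3 LD2_c21 LD3_c55))))))
theorem f71370 : Led Lsl_at (LP (LK LD1_c4 LD2_c36 LD3_c34)) = (LP (LK LD1_c2 LD2_c54 LD3_c60)) :=
  Lgr Lrot100 (Lpr_af (K2.f71359 IH) (Lpn (LP (LK LD1_c2 LD2_c54 LD3_c60))))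
theorem f72056 : Led Lsl_ft (LP (LK LD1_c2 LD2_c15 LD3_c26)) = (LP (LK LD1_c4 LD2_c36 LD3_c34)) :=
  Lre_f IH (LK LD1_c2 LD2_c15 LD3_c26) (LK LD1_c4 LD2_c36 LD3_c34) Lrfl Lrfl
theorem f23027 : Led Lsl_gt (LP (LK LD1_c2 LD2_c15 LD3_c26)) = (LP (LK LD1_c4 LD2_c36 LD3_c33)) :=
  Lre_g IH (LK LD1_c2 LD2_c15 LD3_c26) (LK LD1_c4 LD2_c36 LD3_c33) Lrfl Lrfl
theorem f442811 : Led Lsl_gt (LP (LK LD1_c4 LD2_c36 LD3_c33)) = (LP (LK LD1_c2 LD2_c54 LD3_c60)) :=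
  Lgr Lrot46 (Lpe (f23027 IH) (Lpr_ft (f72056 IH) (Lpr_at (f71370 IH) (Lpn (LP (LK LD1_c2 LD2_c54 LD3_c60))))))
theorem f442466 : Led Lsl_gt (LP (LK LD1_c2 LD2_c15 LD3_c2)) = (LP (LK LD1_c1 LD2_c22 LD3_c59)) :=
  Lgr Lrot5 (Lpr_ft (K2.f82225 IH) (Lpr_at (f442461 IH) (Lpe (K17.f166184 IH) (Lpn (LP (LK LD1_c1 LD2_c22 LD3_c59))))))
theorem f417133 : Led Lsl_et (LP (LK LD1_c2 LD2_c53 LD3_c61)) = (LP (LK LD1_c1 LD2_c22 LD3_c59)) :=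
  Lre_e IH (LK LD1_c2 LD2_c53 LD3_c61) (LK LD1_c1 LD2_c22 LD3_c59) Lrfl Lrfl
theorem f414438 : Led Lsl_df (LP (LK LD1_c3 LD2_c24 LD3_c7)) = (LP (LK LD1_c4 LD2_c41 LD3_c7)) :=
  Lgr Lrot38 (Lpr_dt (K17.f414273 IH) (Lpn (LP (LK LD1_c4 LD2_c41 LD3_c7))))
theorem f416511 : Led Lsl_gt (LP (LK LD1_c3 LD2_c21 LD3_c52)) = (LP (LK LD1_c6 LD2_c45 LD3_c28)) :=
  Lgr Lrot9 (Lpr_df (K17.f416469 IH) (Lpr_gt (K16.f9202 IH) (Lpr_ct (K16.f75907 IH) (Lpr_gt (K0.f27117 IH) (Lpr_ct (K17.f27124 IH) (Lpe (f415039 IH) (Lpe (f140049 IH) (Lpe (f140053 IH) (Lpe (f415042 IH) (Lpn (LP (LK LD1_c6 LD2_c45 LD3_c28))))))))))))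
theorem f416662 : Led Lsl_gf (LP (LK LD1_c4 LD2_c41 LD3_c7)) = (LP (LK LD1_c2 LD2_c52 LD3_c15)) :=
  Lgr Lrot147 (Lpr_ct (K17.f180339 IH) (Lpr_gt (f416653 IH) (Lpe (f416660 IH) (Lpe (f415146 IH) (Lpe (f415042 IH) (Lpe (f416511 IH) (Lpe (K17.f414057 IH) (Lpe (K17.f414127 IH) (Lpr_df (K17.f414095 IH) (Lpn (LP (LK LD1_c2 LD2_c52 LD3_c15))))))))))))
theorem f414110 : Led Lsl_dt (LP (LK LD1_c3 LD2_c21 LD3_c27)) = (LP (LK LD1_c2 LD2_c52 LD3_c15)) :=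
  Lgr Lrot42 (Lpr_df (K17.f414095 IH) (Lpn (LP (LK LD1_c2 LD2_c52 LD3_c15))))
theorem f417122 : Led Lsl_gt (LP (LK LD1_c3 LD2_c21 LD3_c29)) = (LP (LK LD1_c6 LD2_c45 LD3_c26)) :=
  Lgr Lrot94 (Lpe (K17.f414083 IH) (Lpr_gt (K17.f413568 IH) (Lpr_dt (f414110 IH) (Lpe (f416662 IH) (Lpe (f414438 IH) (Lpr_cf (K17.f414440 IH) (Lpr_df (f414341 IH) (Lpr_gf (f416688 IH) (Lpe (f414425 IH) (Lpn (LP (LK LD1_c6 LD2_c45 LD3_c26))))))))))))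
theorem f180499 : Led Lsl_ct (LP (LK LD1_c6 LD2_c45 LD3_c26)) = (LP (LK LD1_c3 LD2_c20 LD3_c47)) :=
  Lre_c IH (LK LD1_c6 LD2_c45 LD3_c26) (LK LD1_c3 LD2_c20 LD3_c47) Lrfl Lrfl
theorem f417126 : Led Lsl_gf (LP (LK LD1_c1 LD2_c36 LD3_c46)) = (LP (LK LD1_c3 LD2_c20 LD3_c47)) :=
  Lgr Lrot104 (Lpr_ct (f414620 IH) (Lpe (f415000 IH) (Lpe (K17.f141009 IH) (Lpe (K17.f23044 IH) (Lpe (K17.f60016 IH) (Lpe (K17.f60022 IH) (Lpe (f415127 IH) (Lpr_gt (f417122 IH) (Lpr_ct (f180499 IH) (Lpn (LP (LK LD1_c3 LD2_c20 LD3_c47))))))))))))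
theorem f414612 : Led Lsl_et (LP (LK LD1_c0 LD2_c44 LD3_c49)) = (LP (LK LD1_c1 LD2_c36 LD3_c47)) :=
  Lre_e IH (LK LD1_c0 LD2_c44 LD3_c49) (LK LD1_c1 LD2_c36 LD3_c47) Lrfl Lrfl
theorem f414608 : Led Lsl_gt (LP (LK LD1_c1 LD2_c36 LD3_c47)) = (LP (LK LD1_c3 LD2_c20 LD3_c60)) :=
  Lre_g IH (LK LD1_c1 LD2_c36 LD3_c47) (LK LD1_c3 LD2_c20 LD3_c60) Lrfl Lrfl
theorem f442814 : Led Lsl_df (LP (LK LD1_c4 LD2_c36 LD3_c33)) = (LP (LK LD1_c3 LD2_c20 LD3_c60)) :=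
  Lgr Lrot135 (Lpr_gt (f442811 IH) (Lpe (K2.f71344 IH) (Lpe (K2.f82217 IH) (Lpr_gt (f442466 IH) (Lpe (f417133 IH) (Lpr_dt (f180326 IH) (Lpe (f417126 IH) (Lpe (f414619 IH) (Lpr_et (f414612 IH) (Lpr_gt (f414608 IH) (Lpn (LP (LK LD1_c3 LD2_c20 LD3_c60)))))))))))))
theorem f82677 : Led Lsl_ft (LP (LK LD1_c0 LD2_c43 LD3_c2)) = (LP (LK LD1_c0 LD2_c19 LD3_c9)) :=
  Lre_f IH (LK LD1_c0 LD2_c43 LD3_c2) (LK LD1_c0 LD2_c19 LD3_c9) Lrfl Lrfl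
theorem f82895 : Led Lsl_ct (LP (LK LD1_c1 LD2_c23 LD3_c24)) = (LP (LK LD1_c0 LD2_c43 LD3_c2)) :=
  Lgr Lrot40 (Lpe (K2.f82226 IH) (Lpr_cf (K4.f82888 IH) (Lpe (f82677 IH) (Lpn (LP (LK LD1_c0 LD2_c43 LD3_c2))))))
theorem f82248 : Led Lsl_ft (LP (LK LD1_c0 LD2_c19 LD3_c9)) = (LP (LK LD1_c0 LD2_c43 LD3_c2)) :=
  Lre_f IH (LK LD1_c0 LD2_c19 LD3_c9) (LK LD1_c0 LD2_c43 LD3_c2) Lrfl Lrfl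
theorem f82678 : Led Lsl_dt (LP (LK LD1_c0 LD2_c43 LD3_c2)) = (LP (LK LD1_c0 LD2_c43 LD3_c2)) :=
  Lgr Lrot60 (Lpe (f82248 IH) (Lpr_df (K11.f82665 IH) (Lpe (f82677 IH) (Lpn (LP (LK LD1_c0 LD2_c43 LD3_c2))))))
theorem f153640 : Led Lsl_ft (LP (LK LD1_c0 LD2_c18 LD3_c39)) = (LP (LK LD1_c0 LD2_c41 LD3_c49)) :=
  Lre_f IH (LK LD1_c0 LD2_c18 LD3_c39) (LK LD1_c0 LD2_c41 LD3_c49) Lrfl Lrfl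
theorem f435550 : Led Lsl_gt (LP (LK LD1_c0 LD2_c41 LD3_c46)) = (LP (LK LD1_c1 LD2_c6 LD3_c14)) :=
  Lgr Lrot46 (Lpe (f82572 IH) (Lpr_ft (f153640 IH) (Lpr_at (K7.f153571 IH) (Lpn (LP (LK LD1_c1 LD2_c6 LD3_c14))))))
theorem f82886 : Led Lsl_gf (LP (LK LD1_c1 LD2_c7 LD3_c1)) = (LP (LK LD1_c0 LD2_c43 LD3_c2)) :=
  Lgr Lrot47 (Lpr_gt (f26065 IH) (Lpr_af (K4.f82876 IH) (Lpe (f82677 IH) (Lpn (LP (LK LD1_c0 LD2_c43 LD3_c2))))))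
theorem f153623 : Led Lsl_et (LP (LK LD1_c0 LD2_c42 LD3_c38)) = (LP (LK LD1_c1 LD2_c6 LD3_c14)) :=
  Lgr Lrot69 (Lpe (K17.f69099 IH) (Lpe (K11.f61678 IH) (Lpr_ff (K7.f153615 IH) (Lpe (K7.f26011 IH) (Lpe (K11.f61075 IH) (Lpn (LP (LK LD1_c1 LD2_c6 LD3_c14))))))))
theorem f435564 : Led Lsl_gf (LP (LK LD1_c0 LD2_c43 LD3_c2)) = (LP (LK LD1_c1 LD2_c7 LD3_c0)) :=
  Lgr Lrot138 (Lpr_dt (f82678 IH) (Lpe (f82886 IH) (Lpe (f82574 IH) (Lpr_et (f82573 IH) (Lpr_gt (f435550 IH) (Lpe (f153623 IH) (Lpr_dt (f69086 IH) (Lpr_gt (f153710 IH) (Lpr_df (f26272 IH) (Lpr_et (f26271 IH) (Lpn (LP (LK LD1_c1 LD2_c7 LD3_c0)))))))))))))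
theorem f13569 : Led Lsl_et (LP (LK LD1_c0 LD2_c45 LD3_c36)) = (LP (LK LD1_c1 LD2_c38 LD3_c27)) :=
  Lre_e IH (LK LD1_c0 LD2_c45 LD3_c36) (LK LD1_c1 LD2_c38 LD3_c27) Lrfl Lrfl
theorem f414505 : Led Lsl_et (LP (LK LD1_c1 LD2_c36 LD3_c47)) = (LP (LK LD1_c0 LD2_c44 LD3_c49)) :=
  Lre_e IH (LK LD1_c1 LD2_c36 LD3_c47) (LK LD1_c0 LD2_c44 LD3_c49) Lrfl Lrfl
theorem f414506 : Led Lsl_ct (LP (LK LD1_c1 LD2_c38 LD3_c27)) = (LP (LK LD1_c1 LD2_c36 LD3_c47)) :=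
  Lgr Lrot15 (Lpe (f13569 IH) (Lpr_cf (K17.f414496 IH) (Lpe (f414505 IH) (Lpn (LP (LK LD1_c1 LD2_c36 LD3_c47))))))
theorem f442819 : Led Lsl_gf (LP (LK LD1_c2 LD2_c19 LD3_c42)) = (LP (LK LD1_c1 LD2_c38 LD3_c27)) :=
  Lgr Lrot144 (Lpr_dt (f26282 IH) (Lpe (f435564 IH) (Lpr_dt (f82678 IH) (Lpe (f82895 IH) (Lpe (K2.f71345 IH) (Lpe (f442811 IH) (Lpr_df (f442814 IH) (Lpe (f414608 IH) (Lpe (f414506 IH) (Lpn (LP (LK LD1_c1 LD2_c38 LD3_c27))))))))))))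
theorem f13567 : Led Lsl_df (LP (LK LD1_c1 LD2_c38 LD3_c27)) = (LP (LK LD1_c3 LD2_c13 LD3_c1)) :=
  Lgr Lrot38 (Lpr_dt (K11.f13565 IH) (Lpn (LP (LK LD1_c3 LD2_c13 LD3_c1))))
theorem f454654 : Led Lsl_gf (LP (LK LD1_c1 LD2_c33 LD3_c1)) = (LP (LK LD1_c3 LD2_c13 LD3_c1)) :=
  Lgr Lrot147 (Lpr_ct (f436243 IH) (Lpr_gt (f454652 IH) (Lpr_ct (f22729 IH) (Lpe (f22523 IH) (Lpr_cf (f454581 IH) (Lpe (f454585 IH) (Lpe (f82569 IH) (Lpr_gf (f442819 IH) (Lpr_df (f13567 IH) (Lpn (LP (LK LD1_c3 LD2_c13 LD3_c1))))))))))))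
theorem f82707 : Led Lsl_et (LP (LK LD1_c0 LD2_c43 LD3_c1)) = (LP (LK LD1_c1 LD2_c33 LD3_c2)) :=
  Lre_e IH (LK LD1_c0 LD2_c43 LD3_c1) (LK LD1_c1 LD2_c33 LD3_c2) Lrfl Lrfl
theorem f82719 : Led Lsl_gt (LP (LK LD1_c1 LD2_c33 LD3_c2)) = (LP (LK LD1_c3 LD2_c13 LD3_c15)) :=
  Lre_g IH (LK LD1_c1 LD2_c33 LD3_c2) (LK LD1_c3 LD2_c13 LD3_c15) Lrfl Lrfl
theorem f40492 : Led Lsl_et (LP (LK LD1_c0 LD2_c45 LD3_c37)) = (LP (LK LD1_c1 LD2_c38 LD3_c28)) :=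
  Lre_e IH (LK LD1_c0 LD2_c45 LD3_c37) (LK LD1_c1 LD2_c38 LD3_c28) Lrfl Lrfl
theorem f76921 : Led Lsl_at (LP (LK LD1_c1 LD2_c37 LD3_c40)) = (LP (LK LD1_c0 LD2_c45 LD3_c37)) :=
  Lre_a IH (LK LD1_c1 LD2_c37 LD3_c40) (LK LD1_c0 LD2_c45 LD3_c37) Lrfl Lrfl
theorem f77360 : Led Lsl_et (LP (LK LD1_c1 LD2_c30 LD3_c24)) = (LP (LK LD1_c1 LD2_c37 LD3_c40)) :=
  Lgr Lrot123 (Lpr_af (K9.f77350 IH) (Lpe (f40492 IH) (Lpe (f76921 IH) (Lpn (LP (LK LD1_c1 LD2_c37 LD3_c40))))))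
theorem f77359 : Led Lsl_dt (LP (LK LD1_c1 LD2_c30 LD3_c24)) = (LP (LK LD1_c3 LD2_c8 LD3_c23)) :=
  Lre_d IH (LK LD1_c1 LD2_c30 LD3_c24) (LK LD1_c3 LD2_c8 LD3_c23) Lrfl Lrfl
theorem f77132 : Led Lsl_bt (LP (LK LD1_c6 LD2_c21 LD3_c17)) = (LP (LK LD1_c3 LD2_c8 LD3_c23)) :=
  Lre_b IH (LK LD1_c6 LD2_c21 LD3_c17) (LK LD1_c3 LD2_c8 LD3_c23) Lrfl Lrfl
theorem f68053 : Led Lsl_bt (LP (LK LD1_c3 LD2_c6 LD3_c47)) = (LP (LK LD1_c6 LD2_c18 LD3_c40)) :=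
  Lre_b IH (LK LD1_c3 LD2_c6 LD3_c47) (LK LD1_c6 LD2_c18 LD3_c40) Lrfl Lrfl
theorem f77133 : Led Lsl_et (LP (LK LD1_c3 LD2_c8 LD3_c23)) = (LP (LK LD1_c3 LD2_c6 LD3_c47)) :=
  Lgr Lrot74 (Lpe (f77132 IH) (Lpr_ef (K2.f77129 IH) (Lpe (f68053 IH) (Lpn (LP (LK LD1_c3 LD2_c6 LD3_c47))))))
theorem f83250 : Led Lsl_af (LP (LK LD1_c3 LD2_c8 LD3_c23)) = (LP (LK LD1_c3 LD2_c9 LD3_c21)) :=
  Lgr Lrot50 (Lpr_et (f77133 IH) (Lpr_at (K2.f67444 IH) (Lpr_et (K2.f83247 IH) (Lpn (LP (LK LD1_c3 LD2_c9 LD3_c21))))))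
theorem f83921 : Led Lsl_gf (LP (LK LD1_c3 LD2_c8 LD3_c23)) = (LP (LK LD1_c3 LD2_c9 LD3_c19)) :=
  Lgr Lrot76 (Lpr_af (f83250 IH) (Lpe (f83266 IH) (Lpr_gt (f83711 IH) (Lpn (LP (LK LD1_c3 LD2_c9 LD3_c19))))))
theorem f454657 : Led Lsl_dt (LP (LK LD1_c3 LD2_c13 LD3_c15)) = (LP (LK LD1_c3 LD2_c9 LD3_c19)) :=
  Lgr Lrot171 (Lpe (f82719 IH) (Lpe (f82707 IH) (Lpr_dt (f82697 IH) (Lpr_gf (f454654 IH) (Lpe (K11.f13565 IH) (Lpr_et (K11.f13562 IH) (Lpe (K9.f13573 IH) (Lpe (f77360 IH) (Lpr_dt (f77359 IH) (Lpr_gf (f83921 IH) (Lpn (LP (LK LD1_c3 LD2_c9 LD3_c19)))))))))))))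
theorem f454659 : Led Lsl_df (LP (LK LD1_c3 LD2_c13 LD3_c15)) = (LP (LK LD1_c3 LD2_c9 LD3_c19)) :=
  Lgr Lrot38 (Lpr_dt (f454657 IH) (Lpn (LP (LK LD1_c3 LD2_c9 LD3_c19))))
theorem f454831 : Led Lsl_cf (LP (LK LD1_c4 LD2_c33 LD3_c46)) = (LP (LK LD1_c3 LD2_c13 LD3_c15)) :=
  Lgr Lrot14 (Lpe (f140281 IH) (Lpe (f140142 IH) (Lpe (f23122 IH) (Lpe (f174605 IH) (Lpr_ct (f454829 IH) (Lpe (f454827 IH) (Lpr_dt (f83267 IH) (Lpr_gt (f83711 IH) (Lpe (f454659 IH) (Lpn (LP (LK LD1_c3 LD2_c13 LD3_c15))))))))))))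
theorem f454832 : Led Lsl_ct (LP (LK LD1_c3 LD2_c13 LD3_c15)) = (LP (LK LD1_c4 LD2_c33 LD3_c46)) :=
  Leop (Lpr_cf (f454831 IH) (Lpn (LP (LK LD1_c3 LD2_c13 LD3_c15))))
theorem seed_32 : LEOK LG_c (LK LD1_c3 LD2_c13 LD3_c15) :=
  Leoe_c (LK LD1_c3 LD2_c13 LD3_c15) (f454832 IH)
theorem f22930 : Led Lsl_dt (LP (LK LD1_c0 LD2_c38 LD3_c59)) = (LP (LK LD1_c1 LD2_c20 LD3_c31)) :=
  Lre_d IH (LK LD1_c0 LD2_c38 LD3_c59) (LK LD1_c1 LD2_c20 LD3_c31) Lrfl Lrfl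
theorem f22931 : Led Lsl_gt (LP (LK LD1_c1 LD2_c20 LD3_c31)) = (LP (LK LD1_c2 LD2_c13 LD3_c46)) :=
  Lre_g IH (LK LD1_c1 LD2_c20 LD3_c31) (LK LD1_c2 LD2_c13 LD3_c46) Lrfl Lrfl
theorem f140941 : Led Lsl_ct (LP (LK LD1_c2 LD2_c13 LD3_c46)) = (LP (LK LD1_c4 LD2_c33 LD3_c49)) :=
  Lre_c IH (LK LD1_c2 LD2_c13 LD3_c46) (LK LD1_c4 LD2_c33 LD3_c49) Lrfl Lrfl
theorem f36246 : Led Lsl_ct (LP (LK LD1_c0 LD2_c45 LD3_c38)) = (LP (LK LD1_c0 LD2_c55 LD3_c3)) :=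
  Lgr Lrot15 (Lpe (K9.f26061 IH) (Lpr_cf (K1.f36226 IH) (Lpe (K16.f36235 IH) (Lpn (LP (LK LD1_c0 LD2_c55 LD3_c3))))))
theorem f40464 : Led Lsl_dt (LP (LK LD1_c1 LD2_c56 LD3_c20)) = (LP (LK LD1_c0 LD2_c55 LD3_c3)) :=
  Lre_d IH (LK LD1_c1 LD2_c56 LD3_c20) (LK LD1_c0 LD2_c55 LD3_c3) Lrfl Lrfl
theorem f40465 : Led Lsl_ct (LP (LK LD1_c3 LD2_c59 LD3_c12)) = (LP (LK LD1_c1 LD2_c56 LD3_c20)) :=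
  Lre_c IH (LK LD1_c3 LD2_c59 LD3_c12) (LK LD1_c1 LD2_c56 LD3_c20) Lrfl Lrfl
theorem f454833 : Led Lsl_gt (LP (LK LD1_c4 LD2_c33 LD3_c49)) = (LP (LK LD1_c3 LD2_c59 LD3_c12)) :=
  Lgr Lrot150 (Lpe (f140941 IH) (Lpe (f22931 IH) (Lpe (f22930 IH) (Lpr_gt (f140933 IH) (Lpr_ct (f454829 IH) (Lpe (f454827 IH) (Lpr_ct (f36246 IH) (Lpe (f40464 IH) (Lpe (f40465 IH) (Lpn (LP (LK LD1_c3 LD2_c59 LD3_c12))))))))))))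
theorem f454834 : Led Lsl_gt (LP (LK LD1_c4 LD2_c33 LD3_c49)) = (LP (LK LD1_c3 LD2_c59 LD3_c12)) :=
  Leop (Lpe (f454833 IH) (Lpn (LP (LK LD1_c4 LD2_c33 LD3_c49))))
theorem seed_33 : LEOK LG_g (LK LD1_c4 LD2_c33 LD3_c49) :=
  Leoe_g (LK LD1_c4 LD2_c33 LD3_c49) (f454834 IH)
theorem f454830 : Led Lsl_cf (LP (LK LD1_c1 LD2_c5 LD3_c9)) = v573 :=
  Lgr Lrot11 (Lpr_ct (f454829 IH) (Lpn v573))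
theorem f23244 : Led Lsl_ct (LP (LK LD1_c0 LD2_c29 LD3_c46)) = (LP (LK LD1_c0 LD2_c19 LD3_c58)) :=
  Lre_c IH (LK LD1_c0 LD2_c29 LD3_c46) (LK LD1_c0 LD2_c19 LD3_c58) Lrfl Lrfl
theorem f25442 : Led Lsl_ct (LP (LK LD1_c1 LD2_c37 LD3_c22)) = (LP (LK LD1_c0 LD2_c45 LD3_c1)) :=
  Lre_c IH (LK LD1_c1 LD2_c37 LD3_c22) (LK LD1_c0 LD2_c45 LD3_c1) Lrfl Lrfl
theorem f152665 : Led Lsl_gt (LP (LK LD1_c3 LD2_c22 LD3_c10)) = (LP (LK LD1_c1 LD2_c37 LD3_c22)) :=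
  Lre_g IH (LK LD1_c3 LD2_c22 LD3_c10) (LK LD1_c1 LD2_c37 LD3_c22) Lrfl Lrfl
theorem f77327 : Led Lsl_at (LP (LK LD1_c3 LD2_c8 LD3_c13)) = (LP (LK LD1_c1 LD2_c30 LD3_c22)) :=
  Lre_a IH (LK LD1_c3 LD2_c8 LD3_c13) (LK LD1_c1 LD2_c30 LD3_c22) Lrfl Lrfl
theorem f77328 : Led Lsl_bt (LP (LK LD1_c1 LD2_c30 LD3_c22)) = (LP (LK LD1_c0 LD2_c41 LD3_c45)) :=
  Lre_b IH (LK LD1_c1 LD2_c30 LD3_c22) (LK LD1_c0 LD2_c41 LD3_c45) Lrfl Lrfl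
theorem f77330 : Led Lsl_at (LP (LK LD1_c0 LD2_c41 LD3_c45)) = (LP (LK LD1_c0 LD2_c45 LD3_c38)) :=
  Lgr Lrot67 (Lpe (f77328 IH) (Lpe (f77327 IH) (Lpr_bf (K6.f77317 IH) (Lpe (K2.f77329 IH) (Lpe (K2.f40435 IH) (Lpn (LP (LK LD1_c0 LD2_c45 LD3_c38))))))))
theorem f77362 : Led Lsl_ft (LP (LK LD1_c1 LD2_c30 LD3_c24)) = (LP (LK LD1_c0 LD2_c41 LD3_c45)) :=
  Lre_f IH (LK LD1_c1 LD2_c30 LD3_c24) (LK LD1_c0 LD2_c41 LD3_c45) Lrfl Lrfl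
theorem f454828 : Led Lsl_gt (LP (LK LD1_c1 LD2_c30 LD3_c24)) = v573 :=
  Lgr Lrot5 (Lpr_ft (f77362 IH) (Lpr_at (f77330 IH) (Lpr_gf (f454827 IH) (Lpn v573))))
theorem f77354 : Led Lsl_dt (LP (LK LD1_c3 LD2_c8 LD3_c23)) = (LP (LK LD1_c1 LD2_c30 LD3_c24)) :=
  Lre_d IH (LK LD1_c3 LD2_c8 LD3_c23) (LK LD1_c1 LD2_c30 LD3_c24) Lrfl Lrfl
theorem f77403 : Led Lsl_ct (LP (LK LD1_c3 LD2_c8 LD3_c22)) = (LP (LK LD1_c1 LD2_c30 LD3_c23)) :=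
  Lre_c IH (LK LD1_c3 LD2_c8 LD3_c22) (LK LD1_c1 LD2_c30 LD3_c23) Lrfl Lrfl
theorem f83316 : Led Lsl_ct (LP (LK LD1_c1 LD2_c30 LD3_c49)) = (LP (LK LD1_c3 LD2_c9 LD3_c18)) :=
  Lre_c IH (LK LD1_c1 LD2_c30 LD3_c49) (LK LD1_c3 LD2_c9 LD3_c18) Lrfl Lrfl
theorem f83317 : Led Lsl_at (LP (LK LD1_c1 LD2_c30 LD3_c23)) = (LP (LK LD1_c1 LD2_c30 LD3_c49)) :=
  Lgr Lrot107 (Lpe (f77403 IH) (Lpr_af (K2.f83307 IH) (Lpe (f83316 IH) (Lpn (LP (LK LD1_c1 LD2_c30 LD3_c49))))))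
theorem f77377 : Led Lsl_ft (LP (LK LD1_c3 LD2_c8 LD3_c23)) = (LP (LK LD1_c1 LD2_c30 LD3_c23)) :=
  Lre_f IH (LK LD1_c3 LD2_c8 LD3_c23) (LK LD1_c1 LD2_c30 LD3_c23) Lrfl Lrfl
theorem f83694 : Led Lsl_gt (LP (LK LD1_c3 LD2_c9 LD3_c20)) = (LP (LK LD1_c1 LD2_c30 LD3_c49)) :=
  Lre_g IH (LK LD1_c3 LD2_c9 LD3_c20) (LK LD1_c1 LD2_c30 LD3_c49) Lrfl Lrfl
theorem f83695 : Led Lsl_gt (LP (LK LD1_c3 LD2_c8 LD3_c23)) = (LP (LK LD1_c3 LD2_c9 LD3_c20)) :=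
  Lgr Lrot5 (Lpr_ft (f77377 IH) (Lpr_at (f83317 IH) (Lpe (f83694 IH) (Lpn (LP (LK LD1_c3 LD2_c9 LD3_c20))))))
theorem f454897 : Led Lsl_cf (LP (LK LD1_c3 LD2_c22 LD3_c10)) = (LP (LK LD1_c3 LD2_c9 LD3_c20)) :=
  Lgr Lrot169 (Lpr_gt (f152665 IH) (Lpr_ct (f25442 IH) (Lpe (K0.f23257 IH) (Lpe (f23244 IH) (Lpe (f174605 IH) (Lpr_cf (f454830 IH) (Lpe (f454828 IH) (Lpe (f77354 IH) (Lpr_gt (f83695 IH) (Lpn (LP (LK LD1_c3 LD2_c9 LD3_c20))))))))))))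
theorem f454898 : Led Lsl_ct (LP (LK LD1_c3 LD2_c9 LD3_c20)) = (LP (LK LD1_c3 LD2_c22 LD3_c10)) :=
  Leop (Lpr_cf (f454897 IH) (Lpn (LP (LK LD1_c3 LD2_c9 LD3_c20))))
theorem seed_34 : LEOK LG_c (LK LD1_c3 LD2_c9 LD3_c20) :=
  Leoe_c (LK LD1_c3 LD2_c9 LD3_c20) (f454898 IH)
def v578 : LQ := Led Lsl_et (LP (LK LD1_c0 LD2_c45 LD3_c51))
theorem f454968 : Led Lsl_et (LP (LK LD1_c0 LD2_c45 LD3_c51)) = v578 :=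
  Lrfl
theorem f454969 : Led Lsl_ef (LP (LK LD1_c0 LD2_c45 LD3_c51)) = v578 :=
  Lgr Lrot88 (Lpr_et (f454968 IH) (Lpn v578))
theorem f15782 : Led Lsl_gt (LP (LK LD1_c0 LD2_c45 LD3_c51)) = (LP (LK LD1_c0 LD2_c20 LD3_c27)) :=
  Lre_g IH (LK LD1_c0 LD2_c45 LD3_c51) (LK LD1_c0 LD2_c20 LD3_c27) Lrfl Lrfl
theorem f11033 : Led Lsl_et (LP (LK LD1_c0 LD2_c9 LD3_c13)) = (LP (LK LD1_c0 LD2_c20 LD3_c27)) :=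
  Lre_e IH (LK LD1_c0 LD2_c9 LD3_c13) (LK LD1_c0 LD2_c20 LD3_c27) Lrfl Lrfl
theorem f5922 : Led Lsl_gt (LP (LK LD1_c0 LD2_c9 LD3_c48)) = (LP (LK LD1_c0 LD2_c21 LD3_c46)) :=
  Lre_g IH (LK LD1_c0 LD2_c9 LD3_c48) (LK LD1_c0 LD2_c21 LD3_c46) Lrfl Lrfl
theorem f5923 : Led Lsl_dt (LP (LK LD1_c0 LD2_c21 LD3_c46)) = (LP (LK LD1_c0 LD2_c48 LD3_c40)) :=
  Lre_d IH (LK LD1_c0 LD2_c21 LD3_c46) (LK LD1_c0 LD2_c48 LD3_c40) Lrfl Lrfl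
theorem f5924 : Led Lsl_gt (LP (LK LD1_c0 LD2_c48 LD3_c40)) = (LP (LK LD1_c1 LD2_c44 LD3_c13)) :=
  Lre_g IH (LK LD1_c0 LD2_c48 LD3_c40) (LK LD1_c1 LD2_c44 LD3_c13) Lrfl Lrfl
theorem f454970 : Led Lsl_df (LP (LK LD1_c1 LD2_c44 LD3_c13)) = v578 :=
  Lgr Lrot132 (Lpe (f5924 IH) (Lpe (f5923 IH) (Lpe (f5922 IH) (Lpe (K0.f5895 IH) (Lpr_dt (K0.f5880 IH) (Lpe (K0.f11028 IH) (Lpe (K0.f190 IH) (Lpr_et (f11033 IH) (Lpe (f15782 IH) (Lpr_ef (f454969 IH) (Lpn v578)))))))))))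
theorem f15792 : Led Lsl_dt (LP (LK LD1_c1 LD2_c38 LD3_c57)) = (LP (LK LD1_c0 LD2_c45 LD3_c51)) :=
  Lre_d IH (LK LD1_c1 LD2_c38 LD3_c57) (LK LD1_c0 LD2_c45 LD3_c51) Lrfl Lrfl
theorem f9887 : Led Lsl_et (LP (LK LD1_c0 LD2_c9 LD3_c30)) = (LP (LK LD1_c0 LD2_c4 LD3_c27)) :=
  Lre_e IH (LK LD1_c0 LD2_c9 LD3_c30) (LK LD1_c0 LD2_c4 LD3_c27) Lrfl Lrfl
theorem f11466 : Led Lsl_df (LP (LK LD1_c0 LD2_c4 LD3_c34)) = (LP (LK LD1_c0 LD2_c9 LD3_c37)) :=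
  Lgr Lrot155 (Lpe (K0.f11462 IH) (Lpr_ct (K0.f356 IH) (Lpe (K0.f9926 IH) (Lpr_ct (K0.f187 IH) (Lpr_dt (K0.f188 IH) (Lpe (K0.f111 IH) (Lpe (K0.f11427 IH) (Lpe (K0.f3919 IH) (Lpr_gf (K0.f11429 IH) (Lpn (LP (LK LD1_c0 LD2_c9 LD3_c37))))))))))))
theorem f11413 : Led Lsl_et (LP (LK LD1_c0 LD2_c9 LD3_c37)) = (LP (LK LD1_c0 LD2_c21 LD3_c17)) :=
  Lre_e IH (LK LD1_c0 LD2_c9 LD3_c37) (LK LD1_c0 LD2_c21 LD3_c17) Lrfl Lrfl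
theorem f12136 : Led Lsl_gt (LP (LK LD1_c0 LD2_c21 LD3_c17)) = (LP (LK LD1_c0 LD2_c47 LD3_c36)) :=
  Lre_g IH (LK LD1_c0 LD2_c21 LD3_c17) (LK LD1_c0 LD2_c47 LD3_c36) Lrfl Lrfl
theorem f446418 : Led Lsl_et (LP (LK LD1_c1 LD2_c38 LD3_c57)) = (LP (LK LD1_c0 LD2_c47 LD3_c36)) :=
  Lgr Lrot122 (Lpr_dt (f15792 IH) (Lpr_gt (f15782 IH) (Lpe (K2.f11956 IH) (Lpr_et (f9887 IH) (Lpr_gt (K0.f11941 IH) (Lpr_dt (K0.f5880 IH) (Lpr_gt (K0.f10012 IH) (Lpr_df (f11466 IH) (Lpr_et (f11413 IH) (Lpr_gt (f12136 IH) (Lpn (LP (LK LD1_c0 LD2_c47 LD3_c36)))))))))))))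
theorem f446424 : Led Lsl_ef (LP (LK LD1_c1 LD2_c38 LD3_c57)) = (LP (LK LD1_c0 LD2_c47 LD3_c36)) :=
  Lgr Lrot88 (Lpr_et (f446418 IH) (Lpn (LP (LK LD1_c0 LD2_c47 LD3_c36))))
theorem f18956 : Led Lsl_dt (LP (LK LD1_c1 LD2_c42 LD3_c13)) = (LP (LK LD1_c0 LD2_c47 LD3_c36)) :=
  Lre_d IH (LK LD1_c1 LD2_c42 LD3_c13) (LK LD1_c0 LD2_c47 LD3_c36) Lrfl Lrfl
theorem f454973 : Led Lsl_et (LP (LK LD1_c1 LD2_c44 LD3_c13)) = (LP (LK LD1_c1 LD2_c42 LD3_c13)) :=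
  Lgr Lrot71 (Lpr_df (f454970 IH) (Lpe (f454968 IH) (Lpe (f15792 IH) (Lpr_ef (f446424 IH) (Lpe (f18956 IH) (Lpn (LP (LK LD1_c1 LD2_c42 LD3_c13))))))))
theorem f454974 : Led Lsl_et (LP (LK LD1_c1 LD2_c44 LD3_c13)) = (LP (LK LD1_c1 LD2_c42 LD3_c13)) :=
  Leop (Lpe (f454973 IH) (Lpn (LP (LK LD1_c1 LD2_c44 LD3_c13))))
theorem seed_35 : LEOK LG_e (LK LD1_c1 LD2_c44 LD3_c13) :=
  Leoe_e (LK LD1_c1 LD2_c44 LD3_c13) (f454974 IH)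
theorem f454976 : Led Lsl_ef (LP (LK LD1_c1 LD2_c44 LD3_c13)) = (LP (LK LD1_c1 LD2_c42 LD3_c13)) :=
  Lgr Lrot88 (Lpr_et (f454973 IH) (Lpn (LP (LK LD1_c1 LD2_c42 LD3_c13))))
def v142 : LQ := Led Lsl_dt (LP (LK LD1_c0 LD2_c21 LD3_c17))
theorem f450701 : Led Lsl_dt (LP (LK LD1_c0 LD2_c21 LD3_c17)) = v142 :=
  Lrfl
theorem f450702 : Led Lsl_df (LP (LK LD1_c0 LD2_c21 LD3_c17)) = v142 :=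
  Lgr Lrot38 (Lpr_dt (f450701 IH) (Lpn v142))
theorem f450703 : Led Lsl_ef (LP (LK LD1_c0 LD2_c21 LD3_c28)) = v142 :=
  Lgr Lrot73 (Lpr_dt (K3.f11499 IH) (Lpr_et (K0.f11489 IH) (Lpr_dt (K0.f11460 IH) (Lpr_et (f11413 IH) (Lpr_dt (f450701 IH) (Lpn v142))))))
theorem f11493 : Led Lsl_gt (LP (LK LD1_c0 LD2_c9 LD3_c51)) = (LP (LK LD1_c0 LD2_c21 LD3_c28)) :=
  Lgr Lrot5 (Lpr_ft (K0.f9956 IH) (Lpr_at (K0.f10367 IH) (Lpr_gf (K0.f11491 IH) (Lpn (LP (LK LD1_c0 LD2_c21 LD3_c28))))))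
theorem f10390 : Led Lsl_et (LP (LK LD1_c0 LD2_c21 LD3_c48)) = (LP (LK LD1_c0 LD2_c9 LD3_c51)) :=
  Lre_e IH (LK LD1_c0 LD2_c21 LD3_c48) (LK LD1_c0 LD2_c9 LD3_c51) Lrfl Lrfl
theorem f5916 : Led Lsl_dt (LP (LK LD1_c0 LD2_c21 LD3_c48)) = (LP (LK LD1_c0 LD2_c9 LD3_c48)) :=
  Lre_d IH (LK LD1_c0 LD2_c21 LD3_c48) (LK LD1_c0 LD2_c9 LD3_c48) Lrfl Lrfl
theorem f5928 : Led Lsl_gt (LP (LK LD1_c0 LD2_c21 LD3_c47)) = (LP (LK LD1_c0 LD2_c9 LD3_c48)) :=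
  Lre_g IH (LK LD1_c0 LD2_c21 LD3_c47) (LK LD1_c0 LD2_c9 LD3_c48) Lrfl Lrfl
theorem f5929 : Led Lsl_dt (LP (LK LD1_c0 LD2_c48 LD3_c42)) = (LP (LK LD1_c0 LD2_c21 LD3_c47)) :=
  Lre_d IH (LK LD1_c0 LD2_c48 LD3_c42) (LK LD1_c0 LD2_c21 LD3_c47) Lrfl Lrfl
theorem f454978 : Led Lsl_gt (LP (LK LD1_c1 LD2_c44 LD3_c13)) = (LP (LK LD1_c0 LD2_c48 LD3_c42)) :=
  Lgr Lrot137 (Lpr_ef (f454976 IH) (Lpr_dt (f18956 IH) (Lpe (f12136 IH) (Lpr_df (f450702 IH) (Lpe (f450703 IH) (Lpe (f11493 IH) (Lpe (f10390 IH) (Lpr_dt (f5916 IH) (Lpe (f5928 IH) (Lpe (f5929 IH) (Lpn (LP (LK LD1_c0 LD2_c48 LD3_c42)))))))))))))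
theorem f454979 : Led Lsl_gt (LP (LK LD1_c1 LD2_c44 LD3_c13)) = (LP (LK LD1_c0 LD2_c48 LD3_c42)) :=
  Leop (Lpe (f454978 IH) (Lpn (LP (LK LD1_c1 LD2_c44 LD3_c13))))
theorem seed_36 : LEOK LG_g (LK LD1_c1 LD2_c44 LD3_c13) :=
  Leoe_g (LK LD1_c1 LD2_c44 LD3_c13) (f454979 IH)
def v609 : LQ := Led Lsl_et (LP (LK LD1_c0 LD2_c46 LD3_c46))
theorem f455186 : Led Lsl_et (LP (LK LD1_c0 LD2_c46 LD3_c46)) = v609 :=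
  Lrfl
theorem f455188 : Led Lsl_ef (LP (LK LD1_c0 LD2_c46 LD3_c46)) = v609 :=
  Lgr Lrot88 (Lpr_et (f455186 IH) (Lpn v609))
theorem f15751 : Led Lsl_dt (LP (LK LD1_c0 LD2_c46 LD3_c46)) = (LP (LK LD1_c0 LD2_c20 LD3_c58)) :=
  Lre_d IH (LK LD1_c0 LD2_c46 LD3_c46) (LK LD1_c0 LD2_c20 LD3_c58) Lrfl Lrfl
theorem f446434 : Led Lsl_et (LP (LK LD1_c0 LD2_c20 LD3_c58)) = (LP (LK LD1_c0 LD2_c46 LD3_c47)) :=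
  Lre_e IH (LK LD1_c0 LD2_c20 LD3_c58) (LK LD1_c0 LD2_c46 LD3_c47) Lrfl Lrfl
theorem f15783 : Led Lsl_gf (LP (LK LD1_c0 LD2_c45 LD3_c51)) = (LP (LK LD1_c0 LD2_c45 LD3_c52)) :=
  Lgr Lrot47 (Lpr_gt (f15782 IH) (Lpr_af (K2.f15767 IH) (Lpe (K2.f11423 IH) (Lpn (LP (LK LD1_c0 LD2_c45 LD3_c52))))))
theorem f15725 : Led Lsl_dt (LP (LK LD1_c0 LD2_c20 LD3_c60)) = (LP (LK LD1_c0 LD2_c45 LD3_c52)) :=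
  Lre_d IH (LK LD1_c0 LD2_c20 LD3_c60) (LK LD1_c0 LD2_c45 LD3_c52) Lrfl Lrfl
theorem f15748 : Led Lsl_gt (LP (LK LD1_c0 LD2_c9 LD3_c30)) = (LP (LK LD1_c0 LD2_c20 LD3_c58)) :=
  Lre_g IH (LK LD1_c0 LD2_c9 LD3_c30) (LK LD1_c0 LD2_c20 LD3_c58) Lrfl Lrfl
theorem f15749 : Led Lsl_gf (LP (LK LD1_c0 LD2_c20 LD3_c60)) = (LP (LK LD1_c0 LD2_c20 LD3_c58)) :=
  Lgr Lrot76 (Lpr_af (K0.f15737 IH) (Lpe (K0.f15736 IH) (Lpr_gt (f15748 IH) (Lpn (LP (LK LD1_c0 LD2_c20 LD3_c58))))))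
theorem f15761 : Led Lsl_et (LP (LK LD1_c0 LD2_c46 LD3_c47)) = (LP (LK LD1_c0 LD2_c20 LD3_c58)) :=
  Lre_e IH (LK LD1_c0 LD2_c46 LD3_c47) (LK LD1_c0 LD2_c20 LD3_c58) Lrfl Lrfl
theorem f18687 : Led Lsl_bt (LP (LK LD1_c7 LD2_c1 LD3_c56)) = (LP (LK LD1_c13 LD2_c16 LD3_c34)) :=
  Lre_b IH (LK LD1_c7 LD2_c1 LD3_c56) (LK LD1_c13 LD2_c16 LD3_c34) Lrfl Lrfl
theorem f18688 : Led Lsl_ct (LP (LK LD1_c3 LD2_c31 LD3_c12)) = (LP (LK LD1_c7 LD2_c1 LD3_c56)) :=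
  Lre_c IH (LK LD1_c3 LD2_c31 LD3_c12) (LK LD1_c7 LD2_c1 LD3_c56) Lrfl Lrfl
theorem f18674 : Led Lsl_bt (LP (LK LD1_c13 LD2_c16 LD3_c34)) = (LP (LK LD1_c7 LD2_c1 LD3_c56)) :=
  Lre_b IH (LK LD1_c13 LD2_c16 LD3_c34) (LK LD1_c7 LD2_c1 LD3_c56) Lrfl Lrfl
theorem f18689 : Led Lsl_ct (LP (LK LD1_c7 LD2_c1 LD3_c56)) = (LP (LK LD1_c3 LD2_c31 LD3_c12)) :=
  Lre_c IH (LK LD1_c7 LD2_c1 LD3_c56) (LK LD1_c3 LD2_c31 LD3_c12) Lrfl Lrfl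
theorem f18690 : Led Lsl_bf (LP (LK LD1_c3 LD2_c31 LD3_c12)) = (LP (LK LD1_c3 LD2_c31 LD3_c12)) :=
  Lgr Lrot90 (Lpr_ct (f18688 IH) (Lpr_bt (f18687 IH) (Lpr_ct (K2.f18677 IH) (Lpr_bt (f18674 IH) (Lpr_ct (f18689 IH) (Lpn (LP (LK LD1_c3 LD2_c31 LD3_c12))))))))
theorem f18177 : Led Lsl_at (LP (LK LD1_c3 LD2_c31 LD3_c12)) = (LP (LK LD1_c1 LD2_c42 LD3_c11)) :=
  Lre_a IH (LK LD1_c3 LD2_c31 LD3_c12) (LK LD1_c1 LD2_c42 LD3_c11) Lrfl Lrfl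
theorem f18190 : Led Lsl_bt (LP (LK LD1_c1 LD2_c42 LD3_c11)) = (LP (LK LD1_c0 LD2_c47 LD3_c38)) :=
  Lre_b IH (LK LD1_c1 LD2_c42 LD3_c11) (LK LD1_c0 LD2_c47 LD3_c38) Lrfl Lrfl
theorem f18187 : Led Lsl_at (LP (LK LD1_c1 LD2_c42 LD3_c11)) = (LP (LK LD1_c3 LD2_c31 LD3_c12)) :=
  Lre_a IH (LK LD1_c1 LD2_c42 LD3_c11) (LK LD1_c3 LD2_c31 LD3_c12) Lrfl Lrfl
theorem f11200 : Led Lsl_bt (LP (LK LD1_c0 LD2_c47 LD3_c38)) = (LP (LK LD1_c1 LD2_c42 LD3_c11)) :=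
  Lre_b IH (LK LD1_c0 LD2_c47 LD3_c38) (LK LD1_c1 LD2_c42 LD3_c11) Lrfl Lrfl
theorem f18943 : Led Lsl_at (LP (LK LD1_c0 LD2_c47 LD3_c38)) = (LP (LK LD1_c0 LD2_c47 LD3_c38)) :=
  Lgr Lrot67 (Lpe (f18190 IH) (Lpe (f18177 IH) (Lpr_bf (f18690 IH) (Lpe (f18187 IH) (Lpe (f11200 IH) (Lpn (LP (LK LD1_c0 LD2_c47 LD3_c38))))))))
theorem f11424 : Led Lsl_ft (LP (LK LD1_c0 LD2_c21 LD3_c17)) = (LP (LK LD1_c0 LD2_c47 LD3_c38)) :=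
  Lre_f IH (LK LD1_c0 LD2_c21 LD3_c17) (LK LD1_c0 LD2_c47 LD3_c38) Lrfl Lrfl
theorem f18954 : Led Lsl_gt (LP (LK LD1_c0 LD2_c47 LD3_c36)) = (LP (LK LD1_c0 LD2_c47 LD3_c38)) :=
  Lgr Lrot46 (Lpe (f12136 IH) (Lpr_ft (f11424 IH) (Lpr_at (f18943 IH) (Lpn (LP (LK LD1_c0 LD2_c47 LD3_c38))))))
theorem f18180 : Led Lsl_ef (LP (LK LD1_c0 LD2_c47 LD3_c38)) = (LP (LK LD1_c0 LD2_c45 LD3_c52)) :=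
  Lgr Lrot29 (Lpr_bt (f11200 IH) (Lpr_et (K1.f18169 IH) (Lpr_bt (K2.f15786 IH) (Lpn (LP (LK LD1_c0 LD2_c45 LD3_c52))))))
theorem f15729 : Led Lsl_dt (LP (LK LD1_c0 LD2_c45 LD3_c52)) = (LP (LK LD1_c0 LD2_c20 LD3_c60)) :=
  Lre_d IH (LK LD1_c0 LD2_c45 LD3_c52) (LK LD1_c0 LD2_c20 LD3_c60) Lrfl Lrfl
theorem f11058 : Led Lsl_gt (LP (LK LD1_c0 LD2_c20 LD3_c59)) = (LP (LK LD1_c0 LD2_c9 LD3_c30)) :=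
  Lre_g IH (LK LD1_c0 LD2_c20 LD3_c59) (LK LD1_c0 LD2_c9 LD3_c30) Lrfl Lrfl
theorem f15769 : Led Lsl_gt (LP (LK LD1_c0 LD2_c20 LD3_c60)) = (LP (LK LD1_c0 LD2_c20 LD3_c59)) :=
  Lgr Lrot5 (Lpr_ft (K0.f15728 IH) (Lpr_at (K0.f15746 IH) (Lpe (f11058 IH) (Lpn (LP (LK LD1_c0 LD2_c20 LD3_c59))))))
theorem f446426 : Led Lsl_dt (LP (LK LD1_c0 LD2_c46 LD3_c47)) = (LP (LK LD1_c0 LD2_c20 LD3_c59)) :=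
  Lgr Lrot37 (Lpr_et (f15761 IH) (Lpe (f15749 IH) (Lpr_dt (f15725 IH) (Lpe (f15783 IH) (Lpe (f15792 IH) (Lpr_et (f446418 IH) (Lpr_gt (f18954 IH) (Lpr_ef (f18180 IH) (Lpr_dt (f15729 IH) (Lpr_gt (f15769 IH) (Lpn (LP (LK LD1_c0 LD2_c20 LD3_c59)))))))))))))
theorem f446435 : Led Lsl_et (LP (LK LD1_c0 LD2_c20 LD3_c59)) = (LP (LK LD1_c0 LD2_c46 LD3_c49)) :=
  Lre_e IH (LK LD1_c0 LD2_c20 LD3_c59) (LK LD1_c0 LD2_c46 LD3_c49) Lrfl Lrfl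
theorem f455190 : Led Lsl_dt (LP (LK LD1_c0 LD2_c46 LD3_c49)) = v609 :=
  Lgr Lrot77 (Lpe (f446435 IH) (Lpe (f446426 IH) (Lpe (f446434 IH) (Lpe (f15751 IH) (Lpr_ef (f455188 IH) (Lpn v609))))))
theorem f15774 : Led Lsl_et (LP (LK LD1_c0 LD2_c46 LD3_c49)) = (LP (LK LD1_c0 LD2_c20 LD3_c59)) :=
  Lre_e IH (LK LD1_c0 LD2_c46 LD3_c49) (LK LD1_c0 LD2_c20 LD3_c59) Lrfl Lrfl
theorem f11198 : Led Lsl_dt (LP (LK LD1_c0 LD2_c24 LD3_c19)) = (LP (LK LD1_c0 LD2_c54 LD3_c3)) :=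
  Lre_d IH (LK LD1_c0 LD2_c24 LD3_c19) (LK LD1_c0 LD2_c54 LD3_c3) Lrfl Lrfl
theorem f14779 : Led Lsl_bt (LP (LK LD1_c1 LD2_c52 LD3_c20)) = (LP (LK LD1_c3 LD2_c47 LD3_c38)) :=
  Lre_b IH (LK LD1_c1 LD2_c52 LD3_c20) (LK LD1_c3 LD2_c47 LD3_c38) Lrfl Lrfl
theorem f14780 : Led Lsl_ct (LP (LK LD1_c0 LD2_c53 LD3_c56)) = (LP (LK LD1_c1 LD2_c52 LD3_c20)) :=
  Lre_c IH (LK LD1_c0 LD2_c53 LD3_c56) (LK LD1_c1 LD2_c52 LD3_c20) Lrfl Lrfl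
theorem f14781 : Led Lsl_bt (LP (LK LD1_c3 LD2_c47 LD3_c38)) = (LP (LK LD1_c1 LD2_c52 LD3_c20)) :=
  Lre_b IH (LK LD1_c3 LD2_c47 LD3_c38) (LK LD1_c1 LD2_c52 LD3_c20) Lrfl Lrfl
theorem f14782 : Led Lsl_ct (LP (LK LD1_c1 LD2_c52 LD3_c20)) = (LP (LK LD1_c0 LD2_c53 LD3_c56)) :=
  Lre_c IH (LK LD1_c1 LD2_c52 LD3_c20) (LK LD1_c0 LD2_c53 LD3_c56) Lrfl Lrfl
theorem f14783 : Led Lsl_bf (LP (LK LD1_c0 LD2_c53 LD3_c56)) = (LP (LK LD1_c0 LD2_c53 LD3_c56)) :=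
  Lgr Lrot90 (Lpr_ct (f14780 IH) (Lpr_bt (f14779 IH) (Lpr_ct (K8.f14769 IH) (Lpr_bt (f14781 IH) (Lpr_ct (f14782 IH) (Lpn (LP (LK LD1_c0 LD2_c53 LD3_c56))))))))
theorem f14612 : Led Lsl_dt (LP (LK LD1_c0 LD2_c53 LD3_c56)) = (LP (LK LD1_c1 LD2_c54 LD3_c34)) :=
  Lre_d IH (LK LD1_c0 LD2_c53 LD3_c56) (LK LD1_c1 LD2_c54 LD3_c34) Lrfl Lrfl
theorem f14909 : Led Lsl_dt (LP (LK LD1_c1 LD2_c54 LD3_c34)) = (LP (LK LD1_c0 LD2_c53 LD3_c56)) :=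
  Lre_d IH (LK LD1_c1 LD2_c54 LD3_c34) (LK LD1_c0 LD2_c53 LD3_c56) Lrfl Lrfl
theorem f14910 : Led Lsl_bt (LP (LK LD1_c1 LD2_c54 LD3_c34)) = (LP (LK LD1_c1 LD2_c54 LD3_c34)) :=
  Lgr Lrot95 (Lpe (f14612 IH) (Lpr_bf (f14783 IH) (Lpe (f14909 IH) (Lpn (LP (LK LD1_c1 LD2_c54 LD3_c34))))))
theorem f14920 : Led Lsl_at (LP (LK LD1_c0 LD2_c53 LD3_c59)) = (LP (LK LD1_c1 LD2_c54 LD3_c34)) :=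
  Lre_a IH (LK LD1_c0 LD2_c53 LD3_c59) (LK LD1_c1 LD2_c54 LD3_c34) Lrfl Lrfl
theorem f14921 : Led Lsl_bt (LP (LK LD1_c0 LD2_c24 LD3_c18)) = (LP (LK LD1_c0 LD2_c53 LD3_c59)) :=
  Lre_b IH (LK LD1_c0 LD2_c24 LD3_c18) (LK LD1_c0 LD2_c53 LD3_c59) Lrfl Lrfl
theorem f14922 : Led Lsl_at (LP (LK LD1_c1 LD2_c54 LD3_c34)) = (LP (LK LD1_c0 LD2_c53 LD3_c59)) :=
  Lre_a IH (LK LD1_c1 LD2_c54 LD3_c34) (LK LD1_c0 LD2_c53 LD3_c59) Lrfl Lrfl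
theorem f14923 : Led Lsl_bt (LP (LK LD1_c0 LD2_c53 LD3_c59)) = (LP (LK LD1_c0 LD2_c24 LD3_c18)) :=
  Lre_b IH (LK LD1_c0 LD2_c53 LD3_c59) (LK LD1_c0 LD2_c24 LD3_c18) Lrfl Lrfl
theorem f14924 : Led Lsl_af (LP (LK LD1_c0 LD2_c24 LD3_c18)) = (LP (LK LD1_c0 LD2_c24 LD3_c18)) :=
  Lgr Lrot36 (Lpr_bt (f14921 IH) (Lpr_at (f14920 IH) (Lpr_bt (f14910 IH) (Lpr_at (f14922 IH) (Lpr_bt (f14923 IH) (Lpn (LP (LK LD1_c0 LD2_c24 LD3_c18))))))))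
theorem f14935 : Led Lsl_ft (LP (LK LD1_c0 LD2_c24 LD3_c18)) = (LP (LK LD1_c0 LD2_c54 LD3_c3)) :=
  Lre_f IH (LK LD1_c0 LD2_c24 LD3_c18) (LK LD1_c0 LD2_c54 LD3_c3) Lrfl Lrfl
theorem f14936 : Led Lsl_ft (LP (LK LD1_c0 LD2_c54 LD3_c3)) = (LP (LK LD1_c0 LD2_c24 LD3_c18)) :=
  Lre_f IH (LK LD1_c0 LD2_c54 LD3_c3) (LK LD1_c0 LD2_c24 LD3_c18) Lrfl Lrfl
theorem f14937 : Led Lsl_at (LP (LK LD1_c0 LD2_c54 LD3_c3)) = (LP (LK LD1_c0 LD2_c54 LD3_c3)) :=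
  Lgr Lrot66 (Lpe (f14935 IH) (Lpr_af (f14924 IH) (Lpe (f14936 IH) (Lpn (LP (LK LD1_c0 LD2_c54 LD3_c3))))))
theorem f14941 : Led Lsl_gt (LP (LK LD1_c0 LD2_c24 LD3_c18)) = (LP (LK LD1_c0 LD2_c54 LD3_c2)) :=
  Lre_g IH (LK LD1_c0 LD2_c24 LD3_c18) (LK LD1_c0 LD2_c54 LD3_c2) Lrfl Lrfl
theorem f14942 : Led Lsl_gt (LP (LK LD1_c0 LD2_c54 LD3_c2)) = (LP (LK LD1_c0 LD2_c54 LD3_c3)) :=
  Lgr Lrot46 (Lpe (f14941 IH) (Lpr_ft (f14935 IH) (Lpr_at (f14937 IH) (Lpn (LP (LK LD1_c0 LD2_c54 LD3_c3))))))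
def v153 : LQ := Led Lsl_et (LP (LK LD1_c0 LD2_c21 LD3_c46))
theorem f450775 : Led Lsl_et (LP (LK LD1_c0 LD2_c21 LD3_c46)) = v153 :=
  Lrfl
theorem f455189 : Led Lsl_gf v153 = v609 :=
  Lgr Lrot141 (Lpe (f450775 IH) (Lpr_dt (f5923 IH) (Lpr_gt (f5924 IH) (Lpr_df (f454970 IH) (Lpe (f454969 IH) (Lpr_gt (f15782 IH) (Lpr_dt (K2.f11057 IH) (Lpr_gt (f15748 IH) (Lpe (f15751 IH) (Lpr_et (f455186 IH) (Lpn v609)))))))))))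
theorem f450776 : Led Lsl_ef (LP (LK LD1_c0 LD2_c21 LD3_c46)) = v153 :=
  Lgr Lrot88 (Lpr_et (f450775 IH) (Lpn v153))
theorem f4033 : Led Lsl_gt (LP (LK LD1_c0 LD2_c22 LD3_c27)) = (LP (LK LD1_c0 LD2_c10 LD3_c6)) :=
  Lre_g IH (LK LD1_c0 LD2_c22 LD3_c27) (LK LD1_c0 LD2_c10 LD3_c6) Lrfl Lrfl
theorem f450777 : Led Lsl_df (LP (LK LD1_c0 LD2_c22 LD3_c27)) = v153 :=
  Lgr Lrot170 (Lpr_gt (f4033 IH) (Lpe (K2.f4023 IH) (Lpr_et (K2.f3931 IH) (Lpe (K0.f11048 IH) (Lpr_dt (K0.f190 IH) (Lpr_gt (K0.f11028 IH) (Lpe (K0.f5880 IH) (Lpr_et (K0.f5895 IH) (Lpr_gt (f5922 IH) (Lpr_ef (f450776 IH) (Lpn v153)))))))))))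
theorem f450779 : Led Lsl_dt (LP (LK LD1_c0 LD2_c22 LD3_c27)) = v153 :=
  Lgr Lrot42 (Lpr_df (f450777 IH) (Lpn v153))
theorem f450780 : Led Lsl_et (LP (LK LD1_c0 LD2_c22 LD3_c27)) = (LP (LK LD1_c0 LD2_c49 LD3_c59)) :=
  Lre_e IH (LK LD1_c0 LD2_c22 LD3_c27) (LK LD1_c0 LD2_c49 LD3_c59) Lrfl Lrfl
theorem f450781 : Led Lsl_gt (LP (LK LD1_c0 LD2_c49 LD3_c59)) = (LP (LK LD1_c1 LD2_c46 LD3_c33)) :=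
  Lre_g IH (LK LD1_c0 LD2_c49 LD3_c59) (LK LD1_c1 LD2_c46 LD3_c33) Lrfl Lrfl
theorem f455193 : Led Lsl_df (LP (LK LD1_c0 LD2_c54 LD3_c2)) = (LP (LK LD1_c1 LD2_c46 LD3_c33)) :=
  Lgr Lrot135 (Lpr_gt (f14942 IH) (Lpe (f11198 IH) (Lpr_et (K0.f15732 IH) (Lpr_gt (f15769 IH) (Lpe (f15774 IH) (Lpr_dt (f455190 IH) (Lpe (f455189 IH) (Lpe (f450779 IH) (Lpr_et (f450780 IH) (Lpr_gt (f450781 IH) (Lpn (LP (LK LD1_c1 LD2_c46 LD3_c33)))))))))))))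
theorem f455194 : Led Lsl_dt (LP (LK LD1_c1 LD2_c46 LD3_c33)) = (LP (LK LD1_c0 LD2_c54 LD3_c2)) :=
  Leop (Lpr_df (f455193 IH) (Lpn (LP (LK LD1_c1 LD2_c46 LD3_c33))))
theorem seed_37 : LEOK LG_d (LK LD1_c1 LD2_c46 LD3_c33) :=
  Leoe_d (LK LD1_c1 LD2_c46 LD3_c33) (f455194 IH)
def v610 : LQ := Led Lsl_ft (LP (LK LD1_c0 LD2_c46 LD3_c46))
theorem f455202 : Led Lsl_ft (LP (LK LD1_c0 LD2_c46 LD3_c46)) = v610 :=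
  Lrfl
theorem f455205 : Led Lsl_ff (LP (LK LD1_c0 LD2_c46 LD3_c46)) = v610 :=
  Lgr Lrot3 (Lpr_ft (f455202 IH) (Lpn v610))
def v607 : LQ := Led Lsl_at (LP (LK LD1_c0 LD2_c46 LD3_c46))
theorem f455170 : Led Lsl_at (LP (LK LD1_c0 LD2_c46 LD3_c46)) = v607 :=
  Lrfl
theorem f15752 : Led Lsl_dt (LP (LK LD1_c0 LD2_c20 LD3_c58)) = (LP (LK LD1_c0 LD2_c46 LD3_c46)) :=
  Lre_d IH (LK LD1_c0 LD2_c20 LD3_c58) (LK LD1_c0 LD2_c46 LD3_c46) Lrfl Lrfl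
def v138 : LQ := Led Lsl_at (LP (LK LD1_c0 LD2_c20 LD3_c58))
theorem f450683 : Led Lsl_at (LP (LK LD1_c0 LD2_c20 LD3_c58)) = v138 :=
  Lrfl
theorem f450684 : Led Lsl_af (LP (LK LD1_c0 LD2_c20 LD3_c58)) = v138 :=
  Lgr Lrot0 (Lpr_at (f450683 IH) (Lpn v138))
theorem f455173 : Led Lsl_df v138 = v607 :=
  Lgr Lrot18 (Lpe (f450684 IH) (Lpr_dt (f15752 IH) (Lpr_at (f455170 IH) (Lpn v607))))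
theorem f450688 : Led Lsl_ft (LP (LK LD1_c0 LD2_c20 LD3_c59)) = v138 :=
  Lgr Lrot2 (Lpr_gt (f11058 IH) (Lpr_gt (f15748 IH) (Lpr_af (f450684 IH) (Lpn v138))))
theorem f450689 : Led Lsl_ff (LP (LK LD1_c0 LD2_c20 LD3_c59)) = v138 :=
  Lgr Lrot3 (Lpr_ft (f450688 IH) (Lpn v138))
theorem f446432 : Led Lsl_df (LP (LK LD1_c0 LD2_c46 LD3_c47)) = (LP (LK LD1_c0 LD2_c20 LD3_c59)) :=
  Lgr Lrot38 (Lpr_dt (f446426 IH) (Lpn (LP (LK LD1_c0 LD2_c20 LD3_c59))))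
theorem f455175 : Led Lsl_ft (LP (LK LD1_c0 LD2_c46 LD3_c47)) = v607 :=
  Lgr Lrot54 (Lpr_df (f446432 IH) (Lpr_ff (f450689 IH) (Lpr_df (f455173 IH) (Lpn v607))))
theorem f455176 : Led Lsl_ff (LP (LK LD1_c0 LD2_c46 LD3_c47)) = v607 :=
  Lgr Lrot3 (Lpr_ft (f455175 IH) (Lpn v607))
theorem f455213 : Led Lsl_at (LP (LK LD1_c0 LD2_c46 LD3_c47)) = v610 :=
  Lgr Lrot66 (Lpr_ff (f455176 IH) (Lpe (f455170 IH) (Lpr_ff (f455205 IH) (Lpn v610))))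
theorem f455215 : Led Lsl_ef v138 = v610 :=
  Lgr Lrot20 (Lpe (f450684 IH) (Lpr_et (f446434 IH) (Lpr_at (f455213 IH) (Lpn v610))))
theorem f455217 : Led Lsl_ft (LP (LK LD1_c0 LD2_c46 LD3_c49)) = v609 :=
  Lgr Lrot86 (Lpe (f446435 IH) (Lpr_ff (f450689 IH) (Lpr_ef (f455215 IH) (Lpe (f455202 IH) (Lpr_ef (f455188 IH) (Lpn v609))))))
def v605 : LQ := Led Lsl_gt (LP (LK LD1_c0 LD2_c46 LD3_c46))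
theorem f455162 : Led Lsl_gt (LP (LK LD1_c0 LD2_c46 LD3_c46)) = v605 :=
  Lrfl
theorem f455171 : Led Lsl_af (LP (LK LD1_c0 LD2_c46 LD3_c46)) = v607 :=
  Lgr Lrot0 (Lpr_at (f455170 IH) (Lpn v607))
theorem f455203 : Led Lsl_af (LP (LK LD1_c0 LD2_c46 LD3_c47)) = v610 :=
  Lgr Lrot45 (Lpr_ft (f455175 IH) (Lpe (f455171 IH) (Lpr_ft (f455202 IH) (Lpn v610))))
theorem f455206 : Led Lsl_gt v605 = (LP (LK LD1_c0 LD2_c46 LD3_c47)) :=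
  Lgr Lrot46 (Lpe (f455162 IH) (Lpr_ft (f455202 IH) (Lpe (f455203 IH) (Lpn (LP (LK LD1_c0 LD2_c46 LD3_c47))))))
theorem f15735 : Led Lsl_et (LP (LK LD1_c0 LD2_c4 LD3_c27)) = (LP (LK LD1_c0 LD2_c9 LD3_c30)) :=
  Lre_e IH (LK LD1_c0 LD2_c4 LD3_c27) (LK LD1_c0 LD2_c9 LD3_c30) Lrfl Lrfl
theorem f4034 : Led Lsl_gt (LP (LK LD1_c0 LD2_c22 LD3_c40)) = (LP (LK LD1_c0 LD2_c10 LD3_c12)) :=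
  Lre_g IH (LK LD1_c0 LD2_c22 LD3_c40) (LK LD1_c0 LD2_c10 LD3_c12) Lrfl Lrfl
theorem f446505 : Led Lsl_et (LP (LK LD1_c0 LD2_c50 LD3_c14)) = (LP (LK LD1_c0 LD2_c22 LD3_c40)) :=
  Lre_e IH (LK LD1_c0 LD2_c50 LD3_c14) (LK LD1_c0 LD2_c22 LD3_c40) Lrfl Lrfl
theorem f455164 : Led Lsl_dt (LP (LK LD1_c0 LD2_c50 LD3_c14)) = v605 :=
  Lgr Lrot56 (Lpr_et (f446505 IH) (Lpr_gt (f4034 IH) (Lpe (K2.f3932 IH) (Lpr_dt (K0.f3918 IH) (Lpe (K1.f11872 IH) (Lpe (K0.f441 IH) (Lpr_et (f15735 IH) (Lpr_gt (f15748 IH) (Lpr_dt (f15752 IH) (Lpr_gt (f455162 IH) (Lpn v605)))))))))))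
def v90 : LQ := Led Lsl_ft (LP (LK LD1_c0 LD2_c10 LD3_c12))
theorem f447650 : Led Lsl_ft (LP (LK LD1_c0 LD2_c10 LD3_c12)) = v90 :=
  Lrfl
theorem f447653 : Led Lsl_ff (LP (LK LD1_c0 LD2_c10 LD3_c12)) = v90 :=
  Lgr Lrot3 (Lpr_ft (f447650 IH) (Lpn v90))
theorem f447657 : Led Lsl_gf (LP (LK LD1_c0 LD2_c22 LD3_c40)) = v90 :=
  Lgr Lrot47 (Lpr_gt (f4034 IH) (Lpe (K2.f4945 IH) (Lpr_ff (f447653 IH) (Lpn v90))))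
theorem f447656 : Led Lsl_et (LP (LK LD1_c0 LD2_c22 LD3_c28)) = v90 :=
  Lgr Lrot69 (Lpe (K2.f4030 IH) (Lpe (K2.f4022 IH) (Lpr_ff (K0.f4949 IH) (Lpe (K2.f4944 IH) (Lpr_ff (f447653 IH) (Lpn v90))))))
def v87 : LQ := Led Lsl_gt (LP (LK LD1_c0 LD2_c10 LD3_c6))
theorem f447638 : Led Lsl_gt (LP (LK LD1_c0 LD2_c10 LD3_c6)) = v87 :=
  Lrfl
theorem f4371 : Led Lsl_ft (LP (LK LD1_c1 LD2_c46 LD3_c10)) = (LP (LK LD1_c0 LD2_c49 LD3_c50)) :=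
  Lre_f IH (LK LD1_c1 LD2_c46 LD3_c10) (LK LD1_c0 LD2_c49 LD3_c50) Lrfl Lrfl
theorem f4096 : Led Lsl_ft (LP (LK LD1_c0 LD2_c49 LD3_c50)) = (LP (LK LD1_c1 LD2_c46 LD3_c10)) :=
  Lre_f IH (LK LD1_c0 LD2_c49 LD3_c50) (LK LD1_c1 LD2_c46 LD3_c10) Lrfl Lrfl
theorem f5272 : Led Lsl_bf (LP (LK LD1_c1 LD2_c46 LD3_c10)) = (LP (LK LD1_c1 LD2_c46 LD3_c10)) :=
  Lgr Lrot61 (Lpr_ft (f4371 IH) (Lpr_bt (K2.f5265 IH) (Lpr_ft (f4096 IH) (Lpn (LP (LK LD1_c1 LD2_c46 LD3_c10))))))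
theorem f5275 : Led Lsl_at (LP (LK LD1_c0 LD2_c22 LD3_c28)) = (LP (LK LD1_c0 LD2_c22 LD3_c28)) :=
  Lgr Lrot67 (Lpe (K2.f4040 IH) (Lpe (K3.f4043 IH) (Lpr_bf (f5272 IH) (Lpe (K3.f4044 IH) (Lpe (K2.f4039 IH) (Lpn (LP (LK LD1_c0 LD2_c22 LD3_c28))))))))
theorem f447639 : Led Lsl_gf (LP (LK LD1_c0 LD2_c22 LD3_c28)) = v87 :=
  Lgr Lrot76 (Lpe (f5275 IH) (Lpe (K2.f4030 IH) (Lpr_gt (f447638 IH) (Lpn v87))))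
def v276 : LQ := Led Lsl_dt v87
theorem f451493 : Led Lsl_dt v87 = v276 :=
  Lrfl
theorem f451494 : Led Lsl_df v87 = v276 :=
  Lgr Lrot38 (Lpr_dt (f451493 IH) (Lpn v276))
theorem f455208 : Led Lsl_gf v276 = (LP (LK LD1_c0 LD2_c46 LD3_c49)) :=
  Lgr Lrot138 (Lpe (f451494 IH) (Lpe (f447639 IH) (Lpr_df (K2.f4031 IH) (Lpr_et (f447656 IH) (Lpe (f447657 IH) (Lpe (f446505 IH) (Lpr_dt (f455164 IH) (Lpr_gt (f455206 IH) (Lpr_df (f446432 IH) (Lpr_et (f446435 IH) (Lpn (LP (LK LD1_c0 LD2_c46 LD3_c49)))))))))))))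
theorem f11876 : Led Lsl_df (LP (LK LD1_c0 LD2_c4 LD3_c28)) = (LP (LK LD1_c0 LD2_c5 LD3_c1)) :=
  Lgr Lrot155 (Lpr_gt (K0.f11512 IH) (Lpr_ct (K0.f3900 IH) (Lpr_gt (K0.f123 IH) (Lpr_ct (K0.f346 IH) (Lpr_dt (K0.f5850 IH) (Lpe (K0.f3881 IH) (Lpr_gf (K0.f11509 IH) (Lpe (K0.f5881 IH) (Lpe (K0.f11507 IH) (Lpn (LP (LK LD1_c0 LD2_c5 LD3_c1))))))))))))
theorem f11943 : Led Lsl_gt (LP (LK LD1_c0 LD2_c2 LD3_c2)) = (LP (LK LD1_c0 LD2_c2 LD3_c10)) :=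
  Lgr Lrot49 (Lpe (K0.f441 IH) (Lpr_gf (K0.f11937 IH) (Lpr_cf (K0.f5892 IH) (Lpe (K0.f11509 IH) (Lpe (f11876 IH) (Lpr_gt (K0.f11512 IH) (Lpr_dt (K0.f3928 IH) (Lpe (K0.f3919 IH) (Lpe (K0.f331 IH) (Lpn (LP (LK LD1_c0 LD2_c2 LD3_c10))))))))))))
theorem f455192 : Led Lsl_gt v276 = v609 :=
  Lgr Lrot139 (Lpe (f451493 IH) (Lpe (f447638 IH) (Lpe (K2.f4022 IH) (Lpr_dt (K0.f335 IH) (Lpe (f11943 IH) (Lpe (K0.f441 IH) (Lpr_et (f15735 IH) (Lpe (f11058 IH) (Lpe (f15774 IH) (Lpr_dt (f455190 IH) (Lpn v609)))))))))))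
theorem f455219 : Led Lsl_af v609 = v609 :=
  Lgr Lrot31 (Lpe (f455192 IH) (Lpr_gf (f455208 IH) (Lpr_ft (f455217 IH) (Lpn v609))))
theorem f455187 : Led Lsl_df (LP (LK LD1_c0 LD2_c46 LD3_c49)) = v609 :=
  Lgr Lrot70 (Lpr_et (f15774 IH) (Lpe (f446432 IH) (Lpr_et (f15761 IH) (Lpr_dt (f15752 IH) (Lpr_et (f455186 IH) (Lpn v609))))))
theorem f455220 : Led Lsl_at (LP (LK LD1_c0 LD2_c46 LD3_c49)) = (LP (LK LD1_c0 LD2_c46 LD3_c49)) :=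
  Lgr Lrot51 (Lpr_df (f455187 IH) (Lpr_af (f455219 IH) (Lpe (f455190 IH) (Lpn (LP (LK LD1_c0 LD2_c46 LD3_c49))))))
theorem f455221 : Led Lsl_at (LP (LK LD1_c0 LD2_c46 LD3_c49)) = (LP (LK LD1_c0 LD2_c46 LD3_c49)) :=
  Leop (Lpe (f455220 IH) (Lpn (LP (LK LD1_c0 LD2_c46 LD3_c49))))
theorem seed_38 : LEOK LG_a (LK LD1_c0 LD2_c46 LD3_c49) :=
  Leoe_a (LK LD1_c0 LD2_c46 LD3_c49) (f455221 IH)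
def v641 : LQ := Led Lsl_ft (LP (LK LD1_c0 LD2_c47 LD3_c41))
theorem f455715 : Led Lsl_ft (LP (LK LD1_c0 LD2_c47 LD3_c41)) = v641 :=
  Lrfl
theorem f12127 : Led Lsl_gt (LP (LK LD1_c0 LD2_c47 LD3_c41)) = (LP (LK LD1_c1 LD2_c42 LD3_c22)) :=
  Lre_g IH (LK LD1_c0 LD2_c47 LD3_c41) (LK LD1_c1 LD2_c42 LD3_c22) Lrfl Lrfl
def v639 : LQ := Led Lsl_at (LP (LK LD1_c0 LD2_c47 LD3_c41))
theorem f455695 : Led Lsl_at (LP (LK LD1_c0 LD2_c47 LD3_c41)) = v639 :=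
  Lrfl
theorem f455696 : Led Lsl_af (LP (LK LD1_c0 LD2_c47 LD3_c41)) = v639 :=
  Lgr Lrot0 (Lpr_at (f455695 IH) (Lpn v639))
theorem f12126 : Led Lsl_dt (LP (LK LD1_c0 LD2_c21 LD3_c18)) = (LP (LK LD1_c0 LD2_c47 LD3_c41)) :=
  Lre_d IH (LK LD1_c0 LD2_c21 LD3_c18) (LK LD1_c0 LD2_c47 LD3_c41) Lrfl Lrfl
def v143 : LQ := Led Lsl_at (LP (LK LD1_c0 LD2_c21 LD3_c18))
theorem f450710 : Led Lsl_at (LP (LK LD1_c0 LD2_c21 LD3_c18)) = v143 :=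
  Lrfl
theorem f450711 : Led Lsl_af (LP (LK LD1_c0 LD2_c21 LD3_c18)) = v143 :=
  Lgr Lrot0 (Lpr_at (f450710 IH) (Lpn v143))
theorem f455698 : Led Lsl_df v143 = v639 :=
  Lgr Lrot18 (Lpe (f450711 IH) (Lpr_dt (f12126 IH) (Lpr_at (f455695 IH) (Lpn v639))))
theorem f12121 : Led Lsl_gt (LP (LK LD1_c0 LD2_c9 LD3_c38)) = (LP (LK LD1_c0 LD2_c21 LD3_c18)) :=
  Lre_g IH (LK LD1_c0 LD2_c9 LD3_c38) (LK LD1_c0 LD2_c21 LD3_c18) Lrfl Lrfl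
theorem f12714 : Led Lsl_gt (LP (LK LD1_c0 LD2_c21 LD3_c19)) = (LP (LK LD1_c0 LD2_c9 LD3_c38)) :=
  Lre_g IH (LK LD1_c0 LD2_c21 LD3_c19) (LK LD1_c0 LD2_c9 LD3_c38) Lrfl Lrfl
theorem f450715 : Led Lsl_ft (LP (LK LD1_c0 LD2_c21 LD3_c19)) = v143 :=
  Lgr Lrot2 (Lpr_gt (f12714 IH) (Lpr_gt (f12121 IH) (Lpr_af (f450711 IH) (Lpn v143))))
theorem f450717 : Led Lsl_ff (LP (LK LD1_c0 LD2_c21 LD3_c19)) = v143 :=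
  Lgr Lrot3 (Lpr_ft (f450715 IH) (Lpn v143))
theorem f446516 : Led Lsl_dt (LP (LK LD1_c0 LD2_c21 LD3_c19)) = (LP (LK LD1_c0 LD2_c47 LD3_c45)) :=
  Lre_d IH (LK LD1_c0 LD2_c21 LD3_c19) (LK LD1_c0 LD2_c47 LD3_c45) Lrfl Lrfl
theorem f455700 : Led Lsl_ft (LP (LK LD1_c0 LD2_c47 LD3_c45)) = v639 :=
  Lgr Lrot54 (Lpe (f446516 IH) (Lpr_ff (f450717 IH) (Lpr_df (f455698 IH) (Lpn v639))))
theorem f455716 : Led Lsl_af (LP (LK LD1_c0 LD2_c47 LD3_c45)) = v641 :=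
  Lgr Lrot45 (Lpr_ft (f455700 IH) (Lpe (f455696 IH) (Lpr_ft (f455715 IH) (Lpn v641))))
theorem f455719 : Led Lsl_gt (LP (LK LD1_c1 LD2_c42 LD3_c22)) = (LP (LK LD1_c0 LD2_c47 LD3_c45)) :=
  Lgr Lrot46 (Lpe (f12127 IH) (Lpr_ft (f455715 IH) (Lpe (f455716 IH) (Lpn (LP (LK LD1_c0 LD2_c47 LD3_c45))))))
theorem f455720 : Led Lsl_gt (LP (LK LD1_c1 LD2_c42 LD3_c22)) = (LP (LK LD1_c0 LD2_c47 LD3_c45)) :=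
  Leop (Lpe (f455719 IH) (Lpn (LP (LK LD1_c1 LD2_c42 LD3_c22))))
theorem seed_39 : LEOK LG_g (LK LD1_c1 LD2_c42 LD3_c22) :=
  Leoe_g (LK LD1_c1 LD2_c42 LD3_c22) (f455720 IH)
def v677 : LQ := Led Lsl_et (LP (LK LD1_c0 LD2_c48 LD3_c40))
theorem f455940 : Led Lsl_et (LP (LK LD1_c0 LD2_c48 LD3_c40)) = v677 :=
  Lrfl
theorem f455942 : Led Lsl_ef (LP (LK LD1_c0 LD2_c48 LD3_c40)) = v677 :=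
  Lgr Lrot88 (Lpr_et (f455940 IH) (Lpn v677))
def v630 : LQ := Led Lsl_dt (LP (LK LD1_c0 LD2_c47 LD3_c38))
theorem f455611 : Led Lsl_dt (LP (LK LD1_c0 LD2_c47 LD3_c38)) = v630 :=
  Lrfl
theorem f455612 : Led Lsl_df (LP (LK LD1_c0 LD2_c47 LD3_c38)) = v630 :=
  Lgr Lrot38 (Lpr_dt (f455611 IH) (Lpn v630))
theorem f11191 : Led Lsl_dt (LP (LK LD1_c0 LD2_c54 LD3_c3)) = (LP (LK LD1_c0 LD2_c24 LD3_c19)) :=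
  Lre_d IH (LK LD1_c0 LD2_c54 LD3_c3) (LK LD1_c0 LD2_c24 LD3_c19) Lrfl Lrfl
theorem f455613 : Led Lsl_ef (LP (LK LD1_c0 LD2_c54 LD3_c3)) = v630 :=
  Lgr Lrot73 (Lpr_dt (f11191 IH) (Lpr_et (K0.f15732 IH) (Lpr_dt (f15725 IH) (Lpe (f18180 IH) (Lpr_dt (f455611 IH) (Lpn v630))))))
def v233 : LQ := Led Lsl_gf (LP (LK LD1_c0 LD2_c24 LD3_c18))
theorem f451234 : Led Lsl_gf (LP (LK LD1_c0 LD2_c24 LD3_c18)) = v233 :=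
  Lrfl
theorem f451235 : Led Lsl_gt (LP (LK LD1_c0 LD2_c54 LD3_c3)) = v233 :=
  Lgr Lrot5 (Lpr_ft (f14936 IH) (Lpe (f14924 IH) (Lpr_gf (f451234 IH) (Lpn v233))))
theorem f11532 : Led Lsl_dt (LP (LK LD1_c0 LD2_c10 LD3_c49)) = (LP (LK LD1_c0 LD2_c24 LD3_c18)) :=
  Lre_d IH (LK LD1_c0 LD2_c10 LD3_c49) (LK LD1_c0 LD2_c24 LD3_c18) Lrfl Lrfl
theorem f11531 : Led Lsl_et (LP (LK LD1_c0 LD2_c10 LD3_c49)) = (LP (LK LD1_c0 LD2_c5 LD3_c1)) :=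
  Lre_e IH (LK LD1_c0 LD2_c10 LD3_c49) (LK LD1_c0 LD2_c5 LD3_c1) Lrfl Lrfl
theorem f11034 : Led Lsl_gt (LP (LK LD1_c0 LD2_c20 LD3_c27)) = (LP (LK LD1_c0 LD2_c45 LD3_c50)) :=
  Lre_g IH (LK LD1_c0 LD2_c20 LD3_c27) (LK LD1_c0 LD2_c45 LD3_c50) Lrfl Lrfl
theorem f11039 : Led Lsl_et (LP (LK LD1_c1 LD2_c38 LD3_c55)) = (LP (LK LD1_c0 LD2_c45 LD3_c50)) :=
  Lre_e IH (LK LD1_c1 LD2_c38 LD3_c55) (LK LD1_c0 LD2_c45 LD3_c50) Lrfl Lrfl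
theorem f451239 : Led Lsl_dt (LP (LK LD1_c1 LD2_c38 LD3_c55)) = v233 :=
  Lgr Lrot136 (Lpr_et (f11039 IH) (Lpe (f11034 IH) (Lpe (f11033 IH) (Lpr_dt (K0.f190 IH) (Lpr_gf (K0.f11022 IH) (Lpe (K0.f357 IH) (Lpe (K0.f11507 IH) (Lpe (f11531 IH) (Lpr_dt (f11532 IH) (Lpr_gf (f451234 IH) (Lpn v233)))))))))))
theorem f451241 : Led Lsl_df (LP (LK LD1_c1 LD2_c38 LD3_c55)) = v233 :=
  Lgr Lrot38 (Lpr_dt (f451239 IH) (Lpn v233))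
theorem f4038 : Led Lsl_et (LP (LK LD1_c0 LD2_c49 LD3_c59)) = (LP (LK LD1_c0 LD2_c22 LD3_c27)) :=
  Lre_e IH (LK LD1_c0 LD2_c49 LD3_c59) (LK LD1_c0 LD2_c22 LD3_c27) Lrfl Lrfl
theorem f455941 : Led Lsl_df (LP (LK LD1_c0 LD2_c49 LD3_c59)) = v677 :=
  Lgr Lrot70 (Lpr_et (f4038 IH) (Lpr_dt (f450779 IH) (Lpe (f450776 IH) (Lpr_dt (f5923 IH) (Lpr_et (f455940 IH) (Lpn v677))))))
theorem f455945 : Led Lsl_gt (LP (LK LD1_c1 LD2_c38 LD3_c55)) = (LP (LK LD1_c0 LD2_c49 LD3_c59)) :=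
  Lgr Lrot139 (Lpr_df (f451241 IH) (Lpe (f451235 IH) (Lpr_ef (f455613 IH) (Lpe (f455612 IH) (Lpe (f18954 IH) (Lpe (f18956 IH) (Lpe (f454976 IH) (Lpe (f5924 IH) (Lpr_ef (f455942 IH) (Lpe (f455941 IH) (Lpn (LP (LK LD1_c0 LD2_c49 LD3_c59)))))))))))))
theorem f455946 : Led Lsl_gt (LP (LK LD1_c1 LD2_c38 LD3_c55)) = (LP (LK LD1_c0 LD2_c49 LD3_c59)) :=
  Leop (Lpe (f455945 IH) (Lpn (LP (LK LD1_c1 LD2_c38 LD3_c55))))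
theorem seed_40 : LEOK LG_g (LK LD1_c1 LD2_c38 LD3_c55) :=
  Leoe_g (LK LD1_c1 LD2_c38 LD3_c55) (f455946 IH)
theorem f11047 : Led Lsl_et (LP (LK LD1_c0 LD2_c45 LD3_c50)) = (LP (LK LD1_c1 LD2_c38 LD3_c55)) :=
  Lre_e IH (LK LD1_c0 LD2_c45 LD3_c50) (LK LD1_c1 LD2_c38 LD3_c55) Lrfl Lrfl
theorem f11035 : Led Lsl_dt (LP (LK LD1_c0 LD2_c45 LD3_c50)) = (LP (LK LD1_c1 LD2_c38 LD3_c54)) :=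
  Lre_d IH (LK LD1_c0 LD2_c45 LD3_c50) (LK LD1_c1 LD2_c38 LD3_c54) Lrfl Lrfl
theorem f455218 : Led Lsl_ff (LP (LK LD1_c0 LD2_c46 LD3_c49)) = v609 :=
  Lgr Lrot3 (Lpr_ft (f455217 IH) (Lpn v609))
theorem f455480 : Led Lsl_gt v153 = (LP (LK LD1_c0 LD2_c46 LD3_c49)) :=
  Lgr Lrot46 (Lpr_gf (f455189 IH) (Lpe (f455218 IH) (Lpr_at (f455220 IH) (Lpn (LP (LK LD1_c0 LD2_c46 LD3_c49))))))
theorem f455166 : Led Lsl_df (LP (LK LD1_c0 LD2_c50 LD3_c14)) = v605 :=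
  Lgr Lrot38 (Lpr_dt (f455164 IH) (Lpn v605))
theorem f455950 : Led Lsl_gf (LP (LK LD1_c1 LD2_c38 LD3_c54)) = (LP (LK LD1_c0 LD2_c50 LD3_c14)) :=
  Lgr Lrot134 (Lpe (f11035 IH) (Lpr_et (f11047 IH) (Lpr_gt (f455945 IH) (Lpe (f450780 IH) (Lpr_dt (f450779 IH) (Lpr_gt (f455480 IH) (Lpr_df (f455187 IH) (Lpe (f455188 IH) (Lpr_gt (f455162 IH) (Lpe (f455166 IH) (Lpn (LP (LK LD1_c0 LD2_c50 LD3_c14)))))))))))))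
theorem f455951 : Led Lsl_gt (LP (LK LD1_c0 LD2_c50 LD3_c14)) = (LP (LK LD1_c1 LD2_c38 LD3_c54)) :=
  Leop (Lpr_gf (f455950 IH) (Lpn (LP (LK LD1_c0 LD2_c50 LD3_c14))))
theorem seed_41 : LEOK LG_g (LK LD1_c0 LD2_c50 LD3_c14) :=
  Leoe_g (LK LD1_c0 LD2_c50 LD3_c14) (f455951 IH)
def v169 : LQ := Led Lsl_ct (LP (LK LD1_c0 LD2_c22 LD3_c13))
theorem f450896 : Led Lsl_ct (LP (LK LD1_c0 LD2_c22 LD3_c13)) = v169 :=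
  Lrfl
def v277 : LQ := Led Lsl_et v87
theorem f451495 : Led Lsl_et v87 = v277 :=
  Lrfl
theorem f451496 : Led Lsl_ef v87 = v277 :=
  Lgr Lrot88 (Lpr_et (f451495 IH) (Lpn v277))
def v275 : LQ := Led Lsl_ct v87
theorem f451491 : Led Lsl_ct v87 = v275 :=
  Lrfl
def v179 : LQ := Led Lsl_ft (LP (LK LD1_c0 LD2_c22 LD3_c27))
theorem f450939 : Led Lsl_ft (LP (LK LD1_c0 LD2_c22 LD3_c27)) = v179 :=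
  Lrfl
theorem f450941 : Led Lsl_ff (LP (LK LD1_c0 LD2_c22 LD3_c27)) = v179 :=
  Lgr Lrot3 (Lpr_ft (f450939 IH) (Lpn v179))
def v178 : LQ := Led Lsl_ct (LP (LK LD1_c0 LD2_c22 LD3_c27))
theorem f450936 : Led Lsl_ct (LP (LK LD1_c0 LD2_c22 LD3_c27)) = v178 :=
  Lrfl
def v638 : LQ := Led Lsl_gf (LP (LK LD1_c0 LD2_c47 LD3_c41))
theorem f455683 : Led Lsl_gf (LP (LK LD1_c0 LD2_c47 LD3_c41)) = v638 :=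
  Lrfl
theorem f446538 : Led Lsl_dt (LP (LK LD1_c0 LD2_c47 LD3_c41)) = (LP (LK LD1_c0 LD2_c21 LD3_c18)) :=
  Lre_d IH (LK LD1_c0 LD2_c47 LD3_c41) (LK LD1_c0 LD2_c21 LD3_c18) Lrfl Lrfl
theorem f11181 : Led Lsl_dt (LP (LK LD1_c0 LD2_c10 LD3_c52)) = (LP (LK LD1_c0 LD2_c21 LD3_c20)) :=
  Lre_d IH (LK LD1_c0 LD2_c10 LD3_c52) (LK LD1_c0 LD2_c21 LD3_c20) Lrfl Lrfl
theorem f11182 : Led Lsl_dt (LP (LK LD1_c0 LD2_c21 LD3_c20)) = (LP (LK LD1_c0 LD2_c10 LD3_c52)) :=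
  Lre_d IH (LK LD1_c0 LD2_c21 LD3_c20) (LK LD1_c0 LD2_c10 LD3_c52) Lrfl Lrfl
theorem f11183 : Led Lsl_at (LP (LK LD1_c0 LD2_c21 LD3_c20)) = (LP (LK LD1_c0 LD2_c21 LD3_c20)) :=
  Lgr Lrot51 (Lpe (f11181 IH) (Lpr_af (K0.f11169 IH) (Lpe (f11182 IH) (Lpn (LP (LK LD1_c0 LD2_c21 LD3_c20))))))
theorem f446512 : Led Lsl_ft (LP (LK LD1_c0 LD2_c9 LD3_c38)) = (LP (LK LD1_c0 LD2_c21 LD3_c20)) :=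
  Lre_f IH (LK LD1_c0 LD2_c9 LD3_c38) (LK LD1_c0 LD2_c21 LD3_c20) Lrfl Lrfl
theorem f446535 : Led Lsl_gt (LP (LK LD1_c0 LD2_c21 LD3_c18)) = (LP (LK LD1_c0 LD2_c21 LD3_c20)) :=
  Lgr Lrot46 (Lpe (f12121 IH) (Lpr_ft (f446512 IH) (Lpr_at (f11183 IH) (Lpn (LP (LK LD1_c0 LD2_c21 LD3_c20))))))
theorem f455685 : Led Lsl_cf (LP (LK LD1_c0 LD2_c49 LD3_c59)) = v638 :=
  Lgr Lrot166 (Lpr_gt (f450781 IH) (Lpe (f455193 IH) (Lpr_gt (f14942 IH) (Lpr_dt (f11191 IH) (Lpr_ct (K0.f11178 IH) (Lpe (f11182 IH) (Lpe (f446535 IH) (Lpe (f446538 IH) (Lpr_gf (f455683 IH) (Lpn v638))))))))))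
theorem f455690 : Led Lsl_et v178 = v638 :=
  Lgr Lrot158 (Lpe (f450936 IH) (Lpe (f4038 IH) (Lpr_cf (f455685 IH) (Lpn v638))))
theorem f455692 : Led Lsl_ef v178 = v638 :=
  Lgr Lrot88 (Lpr_et (f455690 IH) (Lpn v638))
theorem f10162 : Led Lsl_dt (LP (LK LD1_c0 LD2_c48 LD3_c40)) = (LP (LK LD1_c0 LD2_c21 LD3_c46)) :=
  Lre_d IH (LK LD1_c0 LD2_c48 LD3_c40) (LK LD1_c0 LD2_c21 LD3_c46) Lrfl Lrfl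
theorem f455944 : Led Lsl_dt (LP (LK LD1_c0 LD2_c49 LD3_c59)) = v677 :=
  Lgr Lrot77 (Lpe (f450780 IH) (Lpr_df (f450777 IH) (Lpe (f450775 IH) (Lpe (f10162 IH) (Lpr_ef (f455942 IH) (Lpn v677))))))
theorem f11889 : Led Lsl_et (LP (LK LD1_c0 LD2_c5 LD3_c1)) = (LP (LK LD1_c0 LD2_c10 LD3_c49)) :=
  Lre_e IH (LK LD1_c0 LD2_c5 LD3_c1) (LK LD1_c0 LD2_c10 LD3_c49) Lrfl Lrfl
theorem f11325 : Led Lsl_gt (LP (LK LD1_c0 LD2_c10 LD3_c49)) = (LP (LK LD1_c0 LD2_c24 LD3_c16)) :=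
  Lre_g IH (LK LD1_c0 LD2_c10 LD3_c49) (LK LD1_c0 LD2_c24 LD3_c16) Lrfl Lrfl
def v228 : LQ := Led Lsl_dt (LP (LK LD1_c0 LD2_c24 LD3_c16))
theorem f451216 : Led Lsl_dt (LP (LK LD1_c0 LD2_c24 LD3_c16)) = v228 :=
  Lrfl
theorem f455956 : Led Lsl_gt v228 = v677 :=
  Lgr Lrot139 (Lpe (f451216 IH) (Lpe (f11325 IH) (Lpe (f11889 IH) (Lpe (f11876 IH) (Lpe (K0.f11458 IH) (Lpe (K0.f335 IH) (Lpr_et (K2.f4022 IH) (Lpe (f4033 IH) (Lpe (f4038 IH) (Lpr_dt (f455944 IH) (Lpn v677)))))))))))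
theorem f11223 : Led Lsl_ct (LP (LK LD1_c0 LD2_c10 LD3_c49)) = (LP (LK LD1_c0 LD2_c5 LD3_c2)) :=
  Lre_c IH (LK LD1_c0 LD2_c10 LD3_c49) (LK LD1_c0 LD2_c5 LD3_c2) Lrfl Lrfl
theorem f452065 : Led Lsl_dt K11.v243 = K11.v300 :=
  Lgr Lrot42 (Lpr_df (K11.f451579 IH) (Lpn K11.v300))
theorem f455957 : K11.v300 = v638 :=
  (Llr Lrot105 (Lpe (f452065 IH) (Lpe (K11.f451306 IH) (Lpe (K11.f11199 IH) (Lpe (K11.f4474 IH) (Lpe (f11223 IH) (Lpr_gt (f11325 IH) (Lpr_dt (f451216 IH) (Lpr_gt (f455956 IH) (Lpe (f455941 IH) (Lpr_cf (f455685 IH) (Lpn v638)))))))))))).symm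
theorem f455958 : v178 = K11.v95 :=
  Lefun (Lecon (Lfl_ef (f455692 IH)) (f455957 IH).symm) (Lfl_ef (K11.f451578 IH))
def v94 : LQ := Led Lsl_gt (LP (LK LD1_c0 LD2_c10 LD3_c26))
def v291 : LQ := Led Lsl_at v94
theorem f451555 : Led Lsl_at v94 = v291 :=
  Lrfl
theorem f451556 : Led Lsl_af v94 = v291 :=
  Lgr Lrot0 (Lpr_at (f451555 IH) (Lpn v291))
theorem f447675 : Led Lsl_gt (LP (LK LD1_c0 LD2_c10 LD3_c26)) = v94 :=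
  Lrfl
theorem f451557 : Led Lsl_ft K11.v95 = v291 :=
  Lgr Lrot2 (Lpe (K11.f447676 IH) (Lpr_gt (f447675 IH) (Lpr_af (f451556 IH) (Lpn v291))))
theorem f455960 : Led Lsl_cf v179 = v291 :=
  Lgr Lrot108 (Lpe (f450941 IH) (Lpr_ct (f450936 IH) (Lpqs (f455958 IH) (Lpr_ft (f451557 IH) (Lpn v291)))))
def v177 : LQ := Led Lsl_at (LP (LK LD1_c0 LD2_c22 LD3_c27))
theorem f450930 : Led Lsl_at (LP (LK LD1_c0 LD2_c22 LD3_c27)) = v177 :=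
  Lrfl
theorem f450931 : Led Lsl_af (LP (LK LD1_c0 LD2_c22 LD3_c27)) = v177 :=
  Lgr Lrot0 (Lpr_at (f450930 IH) (Lpn v177))
theorem f5320 : Led Lsl_gf (LP (LK LD1_c0 LD2_c22 LD3_c27)) = (LP (LK LD1_c0 LD2_c22 LD3_c28)) :=
  Lgr Lrot47 (Lpr_gt (f4033 IH) (Lpr_af (K2.f5267 IH) (Lpe (K2.f4029 IH) (Lpn (LP (LK LD1_c0 LD2_c22 LD3_c28))))))
theorem f450934 : Led Lsl_ft v87 = v177 :=
  Lgr Lrot2 (Lpe (f447639 IH) (Lpe (f5320 IH) (Lpr_af (f450931 IH) (Lpn v177))))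
theorem f450940 : Led Lsl_af v87 = v179 :=
  Lgr Lrot45 (Lpr_ft (f450934 IH) (Lpe (f450931 IH) (Lpr_ft (f450939 IH) (Lpn v179))))
theorem f455962 : v275 = v94 :=
  (Llr Lrot111 (Lpe (f451491 IH) (Lpr_af (f450940 IH) (Lpr_cf (f455960 IH) (Lpe (f451555 IH) (Lpn v94)))))).symm
def v295 : LQ := Led Lsl_et v94
theorem f451565 : Led Lsl_et v94 = v295 :=
  Lrfl
theorem f455966 : Led Lsl_cf v277 = v295 :=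
  Lgr Lrot39 (Lpe (f451496 IH) (Lpr_ct (f451491 IH) (Lpqs (f455962 IH) (Lpr_et (f451565 IH) (Lpn v295)))))
theorem f10160 : Led Lsl_gt (LP (LK LD1_c0 LD2_c21 LD3_c46)) = (LP (LK LD1_c0 LD2_c21 LD3_c49)) :=
  Lgr Lrot46 (Lpe (f5922 IH) (Lpr_ft (K0.f5968 IH) (Lpr_at (K0.f10144 IH) (Lpn (LP (LK LD1_c0 LD2_c21 LD3_c49))))))
theorem f10194 : Led Lsl_ef (LP (LK LD1_c0 LD2_c21 LD3_c49)) = (LP (LK LD1_c0 LD2_c22 LD3_c16)) :=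
  Lgr Lrot20 (Lpr_at (K0.f10144 IH) (Lpr_et (K0.f10192 IH) (Lpe (K0.f10138 IH) (Lpn (LP (LK LD1_c0 LD2_c22 LD3_c16))))))
theorem f5926 : Led Lsl_gt (LP (LK LD1_c0 LD2_c49 LD3_c37)) = (LP (LK LD1_c0 LD2_c22 LD3_c15)) :=
  Lre_g IH (LK LD1_c0 LD2_c49 LD3_c37) (LK LD1_c0 LD2_c22 LD3_c15) Lrfl Lrfl
theorem f10126 : Led Lsl_gf (LP (LK LD1_c0 LD2_c49 LD3_c37)) = (LP (LK LD1_c0 LD2_c49 LD3_c39)) :=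
  Lgr Lrot47 (Lpr_gt (f5926 IH) (Lpr_af (K0.f10097 IH) (Lpe (K0.f5954 IH) (Lpn (LP (LK LD1_c0 LD2_c49 LD3_c39))))))
theorem f451497 : Led Lsl_df (LP (LK LD1_c0 LD2_c49 LD3_c37)) = v277 :=
  Lgr Lrot168 (Lpr_gf (f10126 IH) (Lpe (K0.f5966 IH) (Lpe (f10194 IH) (Lpe (f10160 IH) (Lpr_ef (f450776 IH) (Lpe (f450777 IH) (Lpr_gf (f5320 IH) (Lpr_df (K2.f4031 IH) (Lpr_gf (f447639 IH) (Lpr_ef (f451496 IH) (Lpn v277)))))))))))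
theorem f451499 : Led Lsl_dt (LP (LK LD1_c0 LD2_c49 LD3_c37)) = v277 :=
  Lgr Lrot42 (Lpr_df (f451497 IH) (Lpn v277))
theorem f5921 : Led Lsl_gt (LP (LK LD1_c0 LD2_c9 LD3_c61)) = (LP (LK LD1_c0 LD2_c22 LD3_c13)) :=
  Lre_g IH (LK LD1_c0 LD2_c9 LD3_c61) (LK LD1_c0 LD2_c22 LD3_c13) Lrfl Lrfl
theorem f10146 : Led Lsl_gf (LP (LK LD1_c0 LD2_c22 LD3_c16)) = (LP (LK LD1_c0 LD2_c22 LD3_c13)) :=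
  Lgr Lrot76 (Lpr_af (K0.f10138 IH) (Lpe (K0.f5917 IH) (Lpr_gt (f5921 IH) (Lpn (LP (LK LD1_c0 LD2_c22 LD3_c13))))))
def v100 : LQ := Led Lsl_dt (LP (LK LD1_c0 LD2_c10 LD3_c45))
def v308 : LQ := Led Lsl_gf v100
theorem f452099 : Led Lsl_gf v100 = v308 :=
  Lrfl
theorem f448759 : Led Lsl_dt (LP (LK LD1_c0 LD2_c10 LD3_c45)) = v100 :=
  Lrfl
theorem f451566 : Led Lsl_ef v94 = v295 :=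
  Lgr Lrot88 (Lpr_et (f451565 IH) (Lpn v295))
theorem f452101 : Led Lsl_dt v295 = v308 :=
  Lgr Lrot136 (Lpe (f451566 IH) (Lpe (f447675 IH) (Lpe (K11.f11295 IH) (Lpr_dt (K0.f5826 IH) (Lpe (K0.f11281 IH) (Lpe (K0.f6730 IH) (Lpr_gf (K0.f12701 IH) (Lpe (K6.f12186 IH) (Lpr_dt (f448759 IH) (Lpr_gf (f452099 IH) (Lpn v308)))))))))))
theorem f452102 : Led Lsl_df v295 = v308 :=
  Lgr Lrot38 (Lpr_dt (f452101 IH) (Lpn v308))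
theorem f448761 : Led Lsl_ef (LP (LK LD1_c0 LD2_c20 LD3_c35)) = v100 :=
  Lgr Lrot73 (Lpr_dt (K7.f12718 IH) (Lpr_et (K3.f12707 IH) (Lpe (K0.f12703 IH) (Lpr_et (K6.f12711 IH) (Lpr_dt (f448759 IH) (Lpn v100))))))
theorem f448762 : Led Lsl_et (LP (LK LD1_c0 LD2_c20 LD3_c35)) = v100 :=
  Lgr Lrot87 (Lpr_ef (f448761 IH) (Lpn v100))
theorem f134950 : Led Lsl_af (LP (LK LD1_c0 LD2_c20 LD3_c35)) = (LP (LK LD1_c0 LD2_c20 LD3_c35)) :=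
  Lgr Lrot36 (Lpr_bt (K6.f124273 IH) (Lpr_at (K5.f134855 IH) (Lpr_bt (K5.f134943 IH) (Lpr_at (K5.f124258 IH) (Lpr_bt (K3.f12730 IH) (Lpn (LP (LK LD1_c0 LD2_c20 LD3_c35))))))))
theorem f448763 : Led Lsl_af v100 = v100 :=
  Lgr Lrot50 (Lpe (f448761 IH) (Lpe (f134950 IH) (Lpr_et (f448762 IH) (Lpn v100))))
def v220 : LQ := Led Lsl_dt (LP (LK LD1_c0 LD2_c24 LD3_c5))
theorem f451175 : Led Lsl_dt (LP (LK LD1_c0 LD2_c24 LD3_c5)) = v220 :=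
  Lrfl
theorem f448760 : Led Lsl_df (LP (LK LD1_c0 LD2_c10 LD3_c45)) = v100 :=
  Lgr Lrot38 (Lpr_dt (f448759 IH) (Lpn v100))
theorem f451177 : Led Lsl_ff v100 = v220 :=
  Lgr Lrot19 (Lpe (f448760 IH) (Lpr_ft (K6.f123371 IH) (Lpr_dt (f451175 IH) (Lpn v220))))
theorem f452100 : Led Lsl_gt v220 = v308 :=
  Lgr Lrot5 (Lpe (f451177 IH) (Lpe (f448763 IH) (Lpr_gf (f452099 IH) (Lpn v308))))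
theorem f123401 : Led Lsl_gt (LP (LK LD1_c0 LD2_c10 LD3_c45)) = (LP (LK LD1_c0 LD2_c24 LD3_c3)) :=
  Lre_g IH (LK LD1_c0 LD2_c10 LD3_c45) (LK LD1_c0 LD2_c24 LD3_c3) Lrfl Lrfl
theorem f145389 : Led Lsl_gf (LP (LK LD1_c0 LD2_c24 LD3_c5)) = (LP (LK LD1_c0 LD2_c24 LD3_c3)) :=
  Lgr Lrot76 (Lpr_af (K6.f145378 IH) (Lpe (K6.f123371 IH) (Lpr_gt (f123401 IH) (Lpn (LP (LK LD1_c0 LD2_c24 LD3_c3))))))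
theorem f455968 : v169 = (LP (LK LD1_c0 LD2_c24 LD3_c3)) :=
  (Llr Lrot8 (Lpe (f450896 IH) (Lpe (f10146 IH) (Lpr_dt (K0.f5966 IH) (Lpe (f10126 IH) (Lpr_dt (f451499 IH) (Lpr_cf (f455966 IH) (Lpr_df (f452102 IH) (Lpe (f452100 IH) (Lpe (f451175 IH) (Lpr_gf (f145389 IH) (Lpn (LP (LK LD1_c0 LD2_c24 LD3_c3)))))))))))))).symm
theorem f455970 : Led Lsl_ct (LP (LK LD1_c0 LD2_c22 LD3_c13)) = (LP (LK LD1_c0 LD2_c24 LD3_c3)) :=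
  Leop (Lpq (f455968 IH) (Lpe (f450896 IH) (Lpn (LP (LK LD1_c0 LD2_c22 LD3_c13)))))
theorem seed_42 : LEOK LG_c (LK LD1_c0 LD2_c22 LD3_c13) :=
  Leoe_c (LK LD1_c0 LD2_c22 LD3_c13) (f455970 IH)
def v173 : LQ := Led Lsl_ct (LP (LK LD1_c0 LD2_c22 LD3_c14))
theorem f450909 : Led Lsl_ct (LP (LK LD1_c0 LD2_c22 LD3_c14)) = v173 :=
  Lrfl
def v172 : LQ := Led Lsl_ft (LP (LK LD1_c0 LD2_c22 LD3_c13))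
theorem f450905 : Led Lsl_ft (LP (LK LD1_c0 LD2_c22 LD3_c13)) = v172 :=
  Lrfl
theorem f450907 : Led Lsl_ff (LP (LK LD1_c0 LD2_c22 LD3_c13)) = v172 :=
  Lgr Lrot3 (Lpr_ft (f450905 IH) (Lpn v172))
def v217 : LQ := Led Lsl_ft (LP (LK LD1_c0 LD2_c24 LD3_c3))
theorem f451167 : Led Lsl_ft (LP (LK LD1_c0 LD2_c24 LD3_c3)) = v217 :=
  Lrfl
theorem f455972 : Led Lsl_cf v172 = v217 :=
  Lgr Lrot108 (Lpe (f450907 IH) (Lpr_ct (f450896 IH) (Lpqs (f455968 IH) (Lpr_ft (f451167 IH) (Lpn v217)))))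
def v168 : LQ := Led Lsl_at (LP (LK LD1_c0 LD2_c22 LD3_c13))
theorem f450887 : Led Lsl_at (LP (LK LD1_c0 LD2_c22 LD3_c13)) = v168 :=
  Lrfl
theorem f450888 : Led Lsl_af (LP (LK LD1_c0 LD2_c22 LD3_c13)) = v168 :=
  Lgr Lrot0 (Lpr_at (f450887 IH) (Lpn v168))
theorem f5939 : Led Lsl_gt (LP (LK LD1_c0 LD2_c22 LD3_c14)) = (LP (LK LD1_c0 LD2_c9 LD3_c61)) :=
  Lre_g IH (LK LD1_c0 LD2_c22 LD3_c14) (LK LD1_c0 LD2_c9 LD3_c61) Lrfl Lrfl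
theorem f450892 : Led Lsl_ft (LP (LK LD1_c0 LD2_c22 LD3_c14)) = v168 :=
  Lgr Lrot2 (Lpr_gt (f5939 IH) (Lpr_gt (f5921 IH) (Lpr_af (f450888 IH) (Lpn v168))))
theorem f450906 : Led Lsl_af (LP (LK LD1_c0 LD2_c22 LD3_c14)) = v172 :=
  Lgr Lrot45 (Lpr_ft (f450892 IH) (Lpe (f450888 IH) (Lpr_ft (f450905 IH) (Lpn v172))))
theorem f451169 : Led Lsl_ff (LP (LK LD1_c0 LD2_c24 LD3_c3)) = v217 :=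
  Lgr Lrot3 (Lpr_ft (f451167 IH) (Lpn v217))
def v215 : LQ := Led Lsl_at (LP (LK LD1_c0 LD2_c24 LD3_c3))
theorem f451160 : Led Lsl_at (LP (LK LD1_c0 LD2_c24 LD3_c3)) = v215 :=
  Lrfl
theorem f451161 : Led Lsl_af (LP (LK LD1_c0 LD2_c24 LD3_c3)) = v215 :=
  Lgr Lrot0 (Lpr_at (f451160 IH) (Lpn v215))
theorem f12712 : Led Lsl_gt (LP (LK LD1_c0 LD2_c24 LD3_c4)) = (LP (LK LD1_c0 LD2_c10 LD3_c45)) :=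
  Lre_g IH (LK LD1_c0 LD2_c24 LD3_c4) (LK LD1_c0 LD2_c10 LD3_c45) Lrfl Lrfl
theorem f451162 : Led Lsl_ft (LP (LK LD1_c0 LD2_c24 LD3_c4)) = v215 :=
  Lgr Lrot2 (Lpr_gt (f12712 IH) (Lpr_gt (f123401 IH) (Lpr_af (f451161 IH) (Lpn v215))))
theorem f451163 : Led Lsl_ff (LP (LK LD1_c0 LD2_c24 LD3_c4)) = v215 :=
  Lgr Lrot3 (Lpr_ft (f451162 IH) (Lpn v215))
theorem f451170 : Led Lsl_at (LP (LK LD1_c0 LD2_c24 LD3_c4)) = v217 :=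
  Lgr Lrot66 (Lpr_ff (f451163 IH) (Lpe (f451160 IH) (Lpr_ff (f451169 IH) (Lpn v217))))
theorem f455974 : v173 = (LP (LK LD1_c0 LD2_c24 LD3_c4)) :=
  (Llr Lrot111 (Lpe (f450909 IH) (Lpr_af (f450906 IH) (Lpr_cf (f455972 IH) (Lpe (f451170 IH) (Lpn (LP (LK LD1_c0 LD2_c24 LD3_c4)))))))).symm
theorem f455976 : Led Lsl_ct (LP (LK LD1_c0 LD2_c22 LD3_c14)) = (LP (LK LD1_c0 LD2_c24 LD3_c4)) :=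
  Leop (Lpq (f455974 IH) (Lpe (f450909 IH) (Lpn (LP (LK LD1_c0 LD2_c22 LD3_c14)))))
theorem seed_43 : LEOK LG_c (LK LD1_c0 LD2_c22 LD3_c14) :=
  Leoe_c (LK LD1_c0 LD2_c22 LD3_c14) (f455976 IH)
def v187 : LQ := Led Lsl_ct (LP (LK LD1_c0 LD2_c22 LD3_c40))
theorem f450983 : Led Lsl_ct (LP (LK LD1_c0 LD2_c22 LD3_c40)) = v187 :=
  Lrfl
def v186 : LQ := Led Lsl_at (LP (LK LD1_c0 LD2_c22 LD3_c40))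
theorem f450977 : Led Lsl_at (LP (LK LD1_c0 LD2_c22 LD3_c40)) = v186 :=
  Lrfl
theorem f450978 : Led Lsl_af (LP (LK LD1_c0 LD2_c22 LD3_c40)) = v186 :=
  Lgr Lrot0 (Lpr_at (f450977 IH) (Lpn v186))
theorem f447654 : Led Lsl_at v90 = v90 :=
  Lgr Lrot66 (Lpe (f447650 IH) (Lpe (K2.f4945 IH) (Lpr_ff (f447653 IH) (Lpn v90))))
def v88 : LQ := Led Lsl_gt (LP (LK LD1_c0 LD2_c10 LD3_c12))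
theorem f447641 : Led Lsl_gt (LP (LK LD1_c0 LD2_c10 LD3_c12)) = v88 :=
  Lrfl
theorem f447658 : Led Lsl_gt v88 = v90 :=
  Lgr Lrot46 (Lpe (f447641 IH) (Lpr_ft (f447650 IH) (Lpr_at (f447654 IH) (Lpn v90))))
theorem f450981 : Led Lsl_ft v88 = v186 :=
  Lgr Lrot2 (Lpr_gt (f447658 IH) (Lpe (f447657 IH) (Lpr_af (f450978 IH) (Lpn v186))))
theorem f450982 : Led Lsl_ff v88 = v186 :=
  Lgr Lrot3 (Lpr_ft (f450981 IH) (Lpn v186))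
def v279 : LQ := Led Lsl_ct v88
theorem f451502 : Led Lsl_ct v88 = v279 :=
  Lrfl
def v101 : LQ := Led Lsl_gt (LP (LK LD1_c0 LD2_c10 LD3_c47))
def v311 : LQ := Led Lsl_ct v101
theorem f452110 : Led Lsl_ct v101 = v311 :=
  Lrfl
theorem f452111 : Led Lsl_cf v101 = v311 :=
  Lgr Lrot11 (Lpr_ct (f452110 IH) (Lpn v311))
theorem f450911 : Led Lsl_cf (LP (LK LD1_c0 LD2_c22 LD3_c14)) = v173 :=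
  Lgr Lrot11 (Lpr_ct (f450909 IH) (Lpn v173))
theorem f145380 : Led Lsl_gt (LP (LK LD1_c0 LD2_c24 LD3_c5)) = (LP (LK LD1_c0 LD2_c24 LD3_c4)) :=
  Lgr Lrot5 (Lpr_ft (K6.f123358 IH) (Lpr_at (K6.f145370 IH) (Lpe (f12712 IH) (Lpn (LP (LK LD1_c0 LD2_c24 LD3_c4))))))
theorem f5935 : Led Lsl_bt (LP (LK LD1_c0 LD2_c9 LD3_c48)) = (LP (LK LD1_c0 LD2_c21 LD3_c41)) :=
  Lre_b IH (LK LD1_c0 LD2_c9 LD3_c48) (LK LD1_c0 LD2_c21 LD3_c41) Lrfl Lrfl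
theorem f5941 : Led Lsl_bt (LP (LK LD1_c1 LD2_c43 LD3_c42)) = (LP (LK LD1_c0 LD2_c48 LD3_c27)) :=
  Lre_b IH (LK LD1_c1 LD2_c43 LD3_c42) (LK LD1_c0 LD2_c48 LD3_c27) Lrfl Lrfl
theorem f5942 : Led Lsl_ct (LP (LK LD1_c1 LD2_c43 LD3_c42)) = (LP (LK LD1_c3 LD2_c34 LD3_c1)) :=
  Lre_c IH (LK LD1_c1 LD2_c43 LD3_c42) (LK LD1_c3 LD2_c34 LD3_c1) Lrfl Lrfl
theorem f455990 : Led Lsl_gf (LP (LK LD1_c1 LD2_c53 LD3_c49)) = (LP (LK LD1_c3 LD2_c34 LD3_c1)) :=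
  Lgr Lrot126 (Lpe (K6.f122804 IH) (Lpr_bt (K6.f123368 IH) (Lpr_gt (f145380 IH) (Lpq (f455974 IH) (Lpe (f450911 IH) (Lpr_gt (f5939 IH) (Lpr_cf (K0.f5896 IH) (Lpr_bt (f5935 IH) (Lpr_gt (K2.f5940 IH) (Lpe (f5941 IH) (Lpr_ct (f5942 IH) (Lpn (LP (LK LD1_c3 LD2_c34 LD3_c1))))))))))))))
theorem f122796 : Led Lsl_at (LP (LK LD1_c3 LD2_c53 LD3_c59)) = (LP (LK LD1_c1 LD2_c53 LD3_c49)) :=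
  Lre_a IH (LK LD1_c3 LD2_c53 LD3_c59) (LK LD1_c1 LD2_c53 LD3_c49) Lrfl Lrfl
theorem f134733 : Led Lsl_ft (LP (LK LD1_c1 LD2_c53 LD3_c36)) = (LP (LK LD1_c3 LD2_c53 LD3_c59)) :=
  Lre_f IH (LK LD1_c1 LD2_c53 LD3_c36) (LK LD1_c3 LD2_c53 LD3_c59) Lrfl Lrfl
theorem f455992 : Led Lsl_gt (LP (LK LD1_c1 LD2_c53 LD3_c36)) = (LP (LK LD1_c3 LD2_c34 LD3_c1)) :=
  Lgr Lrot5 (Lpr_ft (f134733 IH) (Lpr_at (f122796 IH) (Lpr_gf (f455990 IH) (Lpn (LP (LK LD1_c3 LD2_c34 LD3_c1))))))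
theorem f142300 : Led Lsl_ct (LP (LK LD1_c0 LD2_c53 LD3_c24)) = (LP (LK LD1_c1 LD2_c53 LD3_c36)) :=
  Lre_c IH (LK LD1_c0 LD2_c53 LD3_c24) (LK LD1_c1 LD2_c53 LD3_c36) Lrfl Lrfl
theorem f134853 : Led Lsl_gt (LP (LK LD1_c1 LD2_c53 LD3_c38)) = (LP (LK LD1_c0 LD2_c53 LD3_c24)) :=
  Lre_g IH (LK LD1_c1 LD2_c53 LD3_c38) (LK LD1_c0 LD2_c53 LD3_c24) Lrfl Lrfl
theorem f5947 : Led Lsl_bt (LP (LK LD1_c0 LD2_c21 LD3_c49)) = (LP (LK LD1_c0 LD2_c48 LD3_c30)) :=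
  Lre_b IH (LK LD1_c0 LD2_c21 LD3_c49) (LK LD1_c0 LD2_c48 LD3_c30) Lrfl Lrfl
theorem f10155 : Led Lsl_at (LP (LK LD1_c0 LD2_c48 LD3_c30)) = (LP (LK LD1_c1 LD2_c43 LD3_c10)) :=
  Lre_a IH (LK LD1_c0 LD2_c48 LD3_c30) (LK LD1_c1 LD2_c43 LD3_c10) Lrfl Lrfl
theorem f10156 : Led Lsl_bf (LP (LK LD1_c1 LD2_c43 LD3_c10)) = (LP (LK LD1_c1 LD2_c43 LD3_c10)) :=
  Lgr Lrot81 (Lpr_at (K2.f10154 IH) (Lpr_bt (K0.f5962 IH) (Lpr_at (K0.f10144 IH) (Lpr_bt (f5947 IH) (Lpr_at (f10155 IH) (Lpn (LP (LK LD1_c1 LD2_c43 LD3_c10))))))))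
theorem f6401 : Led Lsl_ct (LP (LK LD1_c1 LD2_c43 LD3_c10)) = (LP (LK LD1_c3 LD2_c32 LD3_c52)) :=
  Lre_c IH (LK LD1_c1 LD2_c43 LD3_c10) (LK LD1_c3 LD2_c32 LD3_c52) Lrfl Lrfl
theorem f10648 : Led Lsl_gt (LP (LK LD1_c3 LD2_c32 LD3_c52)) = (LP (LK LD1_c1 LD2_c43 LD3_c39)) :=
  Lre_g IH (LK LD1_c3 LD2_c32 LD3_c52) (LK LD1_c1 LD2_c43 LD3_c39) Lrfl Lrfl
theorem f10836 : Led Lsl_ct (LP (LK LD1_c3 LD2_c33 LD3_c54)) = (LP (LK LD1_c1 LD2_c43 LD3_c39)) :=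
  Lre_c IH (LK LD1_c3 LD2_c33 LD3_c54) (LK LD1_c1 LD2_c43 LD3_c39) Lrfl Lrfl
theorem f456011 : Led Lsl_bf (LP (LK LD1_c1 LD2_c53 LD3_c38)) = (LP (LK LD1_c3 LD2_c33 LD3_c54)) :=
  Lgr Lrot165 (Lpr_gt (f134853 IH) (Lpr_ct (f142300 IH) (Lpr_gt (f455992 IH) (Lpe (f5942 IH) (Lpr_bt (f5941 IH) (Lpr_gt (K2.f6402 IH) (Lpr_bf (f10156 IH) (Lpr_ct (f6401 IH) (Lpr_gt (f10648 IH) (Lpe (f10836 IH) (Lpn (LP (LK LD1_c3 LD2_c33 LD3_c54)))))))))))))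
theorem f122819 : Led Lsl_gt (LP (LK LD1_c0 LD2_c53 LD3_c31)) = (LP (LK LD1_c1 LD2_c53 LD3_c38)) :=
  Lre_g IH (LK LD1_c0 LD2_c53 LD3_c31) (LK LD1_c1 LD2_c53 LD3_c38) Lrfl Lrfl
theorem f448764 : Led Lsl_gt (LP (LK LD1_c0 LD2_c10 LD3_c47)) = v101 :=
  Lrfl
theorem f123357 : Led Lsl_ft (LP (LK LD1_c0 LD2_c10 LD3_c47)) = (LP (LK LD1_c0 LD2_c24 LD3_c11)) :=
  Lre_f IH (LK LD1_c0 LD2_c10 LD3_c47) (LK LD1_c0 LD2_c24 LD3_c11) Lrfl Lrfl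
theorem f448765 : Led Lsl_gf (LP (LK LD1_c0 LD2_c24 LD3_c11)) = v101 :=
  Lgr Lrot76 (Lpe (K6.f145387 IH) (Lpe (f123357 IH) (Lpr_gt (f448764 IH) (Lpn v101))))
theorem f6071 : Led Lsl_gt (LP (LK LD1_c1 LD2_c43 LD3_c39)) = (LP (LK LD1_c0 LD2_c48 LD3_c26)) :=
  Lre_g IH (LK LD1_c1 LD2_c43 LD3_c39) (LK LD1_c0 LD2_c48 LD3_c26) Lrfl Lrfl
theorem f6006 : Led Lsl_ct (LP (LK LD1_c0 LD2_c21 LD3_c41)) = (LP (LK LD1_c0 LD2_c48 LD3_c26)) :=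
  Lre_c IH (LK LD1_c0 LD2_c21 LD3_c41) (LK LD1_c0 LD2_c48 LD3_c26) Lrfl Lrfl
theorem f5908 : Led Lsl_bt (LP (LK LD1_c0 LD2_c21 LD3_c41)) = (LP (LK LD1_c0 LD2_c9 LD3_c48)) :=
  Lre_b IH (LK LD1_c0 LD2_c21 LD3_c41) (LK LD1_c0 LD2_c9 LD3_c48) Lrfl Lrfl
theorem f456040 : v311 = (LP (LK LD1_c0 LD2_c21 LD3_c46)) :=
  (Llr Lrot125 (Lpe (f452111 IH) (Lpe (f448765 IH) (Lpr_cf (K6.f123354 IH) (Lpr_bt (K6.f122805 IH) (Lpr_gt (f122819 IH) (Lpr_bf (f456011 IH) (Lpr_ct (f10836 IH) (Lpr_gt (f6071 IH) (Lpe (f6006 IH) (Lpr_bt (f5908 IH) (Lpr_gt (f5922 IH) (Lpn (LP (LK LD1_c0 LD2_c21 LD3_c46))))))))))))))).symm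
def v159 : LQ := Led Lsl_ft (LP (LK LD1_c0 LD2_c21 LD3_c48))
theorem f450810 : Led Lsl_ft (LP (LK LD1_c0 LD2_c21 LD3_c48)) = v159 :=
  Lrfl
theorem f450812 : Led Lsl_ff (LP (LK LD1_c0 LD2_c21 LD3_c48)) = v159 :=
  Lgr Lrot3 (Lpr_ft (f450810 IH) (Lpn v159))
theorem f450814 : Led Lsl_dt (LP (LK LD1_c0 LD2_c21 LD3_c49)) = v159 :=
  Lgr Lrot60 (Lpe (K0.f5968 IH) (Lpe (f5916 IH) (Lpr_ff (f450812 IH) (Lpn v159))))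
theorem f6633 : Led Lsl_dt (LP (LK LD1_c0 LD2_c9 LD3_c48)) = (LP (LK LD1_c0 LD2_c21 LD3_c48)) :=
  Lre_d IH (LK LD1_c0 LD2_c9 LD3_c48) (LK LD1_c0 LD2_c21 LD3_c48) Lrfl Lrfl
theorem f10173 : Led Lsl_at (LP (LK LD1_c0 LD2_c21 LD3_c48)) = (LP (LK LD1_c0 LD2_c21 LD3_c48)) :=
  Lgr Lrot51 (Lpe (f6633 IH) (Lpr_af (K0.f10158 IH) (Lpe (f5916 IH) (Lpn (LP (LK LD1_c0 LD2_c21 LD3_c48))))))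
def v157 : LQ := Led Lsl_gf (LP (LK LD1_c0 LD2_c21 LD3_c48))
theorem f450794 : Led Lsl_gf (LP (LK LD1_c0 LD2_c21 LD3_c48)) = v157 :=
  Lrfl
theorem f450815 : Led Lsl_gf v157 = v159 :=
  Lgr Lrot47 (Lpe (f450794 IH) (Lpe (f10173 IH) (Lpr_ff (f450812 IH) (Lpn v159))))
def v281 : LQ := Led Lsl_et v88
theorem f451506 : Led Lsl_et v88 = v281 :=
  Lrfl
theorem f451507 : Led Lsl_ef v88 = v281 :=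
  Lgr Lrot88 (Lpr_et (f451506 IH) (Lpn v281))
theorem f451508 : Led Lsl_df v157 = v281 :=
  Lgr Lrot132 (Lpr_gf (f450815 IH) (Lpe (f450814 IH) (Lpe (f10160 IH) (Lpr_ef (f450776 IH) (Lpe (f450777 IH) (Lpr_gf (f5320 IH) (Lpr_df (K2.f4031 IH) (Lpr_et (f447656 IH) (Lpe (f447658 IH) (Lpr_ef (f451507 IH) (Lpn v281)))))))))))
theorem f451509 : Led Lsl_dt v157 = v281 :=
  Lgr Lrot42 (Lpr_df (f451508 IH) (Lpn v281))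
theorem f84918 : Led Lsl_gt (LP (LK LD1_c0 LD2_c53 LD3_c49)) = (LP (LK LD1_c0 LD2_c24 LD3_c10)) :=
  Lre_g IH (LK LD1_c0 LD2_c53 LD3_c49) (LK LD1_c0 LD2_c24 LD3_c10) Lrfl Lrfl
theorem f145417 : Led Lsl_gt (LP (LK LD1_c0 LD2_c53 LD3_c50)) = (LP (LK LD1_c0 LD2_c53 LD3_c49)) :=
  Lgr Lrot5 (Lpr_ft (K6.f123359 IH) (Lpr_at (K6.f145407 IH) (Lpe (f84918 IH) (Lpn (LP (LK LD1_c0 LD2_c53 LD3_c49))))))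
theorem f145419 : Led Lsl_dt (LP (LK LD1_c0 LD2_c53 LD3_c49)) = (LP (LK LD1_c0 LD2_c50 LD3_c42)) :=
  Lre_d IH (LK LD1_c0 LD2_c53 LD3_c49) (LK LD1_c0 LD2_c50 LD3_c42) Lrfl Lrfl
theorem f456254 : Led Lsl_cf v281 = (LP (LK LD1_c0 LD2_c50 LD3_c42)) :=
  Lgr Lrot14 (Lpe (f451509 IH) (Lpr_gf (f450815 IH) (Lpe (f450814 IH) (Lpe (f10160 IH) (Lpq (f456040 IH) (Lpe (f452111 IH) (Lpe (f448765 IH) (Lpr_dt (K6.f123369 IH) (Lpr_gt (f145417 IH) (Lpr_dt (f145419 IH) (Lpn (LP (LK LD1_c0 LD2_c50 LD3_c42)))))))))))))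
theorem f451000 : Led Lsl_et (LP (LK LD1_c0 LD2_c22 LD3_c53)) = (LP (LK LD1_c0 LD2_c50 LD3_c42)) :=
  Lre_e IH (LK LD1_c0 LD2_c22 LD3_c53) (LK LD1_c0 LD2_c50 LD3_c42) Lrfl Lrfl
theorem f456258 : v279 = (LP (LK LD1_c0 LD2_c22 LD3_c53)) :=
  (Llr Lrot15 (Lpe (f451502 IH) (Lpr_ef (f451507 IH) (Lpr_cf (f456254 IH) (Lpe (f451000 IH) (Lpn (LP (LK LD1_c0 LD2_c22 LD3_c53)))))))).symm
def v193 : LQ := Led Lsl_ft (LP (LK LD1_c0 LD2_c22 LD3_c53))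
theorem f451007 : Led Lsl_ft (LP (LK LD1_c0 LD2_c22 LD3_c53)) = v193 :=
  Lrfl
theorem f456260 : Led Lsl_cf v186 = v193 :=
  Lgr Lrot108 (Lpe (f450982 IH) (Lpr_ct (f451502 IH) (Lpqs (f456258 IH) (Lpr_ft (f451007 IH) (Lpn v193)))))
theorem f451009 : Led Lsl_ff (LP (LK LD1_c0 LD2_c22 LD3_c53)) = v193 :=
  Lgr Lrot3 (Lpr_ft (f451007 IH) (Lpn v193))
def v191 : LQ := Led Lsl_at (LP (LK LD1_c0 LD2_c22 LD3_c53))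
theorem f450997 : Led Lsl_at (LP (LK LD1_c0 LD2_c22 LD3_c53)) = v191 :=
  Lrfl
theorem f450998 : Led Lsl_af (LP (LK LD1_c0 LD2_c22 LD3_c53)) = v191 :=
  Lgr Lrot0 (Lpr_at (f450997 IH) (Lpn v191))
theorem f4491 : Led Lsl_gt (LP (LK LD1_c0 LD2_c22 LD3_c54)) = (LP (LK LD1_c0 LD2_c10 LD3_c19)) :=
  Lre_g IH (LK LD1_c0 LD2_c22 LD3_c54) (LK LD1_c0 LD2_c10 LD3_c19) Lrfl Lrfl
theorem f451001 : Led Lsl_ft (LP (LK LD1_c0 LD2_c22 LD3_c54)) = v191 :=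
  Lgr Lrot2 (Lpr_gt (f4491 IH) (Lpr_gt (K11.f4492 IH) (Lpr_af (f450998 IH) (Lpn v191))))
theorem f451002 : Led Lsl_ff (LP (LK LD1_c0 LD2_c22 LD3_c54)) = v191 :=
  Lgr Lrot3 (Lpr_ft (f451001 IH) (Lpn v191))
theorem f451010 : Led Lsl_at (LP (LK LD1_c0 LD2_c22 LD3_c54)) = v193 :=
  Lgr Lrot66 (Lpr_ff (f451002 IH) (Lpe (f450997 IH) (Lpr_ff (f451009 IH) (Lpn v193))))
theorem f456262 : v187 = (LP (LK LD1_c0 LD2_c22 LD3_c54)) :=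
  (Llr Lrot111 (Lpe (f450983 IH) (Lpr_af (f450978 IH) (Lpr_cf (f456260 IH) (Lpe (f451010 IH) (Lpn (LP (LK LD1_c0 LD2_c22 LD3_c54)))))))).symm
theorem f456264 : Led Lsl_ct (LP (LK LD1_c0 LD2_c22 LD3_c40)) = (LP (LK LD1_c0 LD2_c22 LD3_c54)) :=
  Leop (Lpq (f456262 IH) (Lpe (f450983 IH) (Lpn (LP (LK LD1_c0 LD2_c22 LD3_c40)))))
theorem seed_44 : LEOK LG_c (LK LD1_c0 LD2_c22 LD3_c40) :=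
  Leoe_c (LK LD1_c0 LD2_c22 LD3_c40) (f456264 IH)
def v642 : LQ := Led Lsl_gt (LP (LK LD1_c0 LD2_c47 LD3_c42))
theorem f455728 : Led Lsl_gt (LP (LK LD1_c0 LD2_c47 LD3_c42)) = v642 :=
  Lrfl
theorem f451004 : Led Lsl_et (LP (LK LD1_c0 LD2_c22 LD3_c54)) = (LP (LK LD1_c0 LD2_c50 LD3_c44)) :=
  Lre_e IH (LK LD1_c0 LD2_c22 LD3_c54) (LK LD1_c0 LD2_c50 LD3_c44) Lrfl Lrfl
def v195 : LQ := Led Lsl_dt (LP (LK LD1_c0 LD2_c22 LD3_c54))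
theorem f451013 : Led Lsl_dt (LP (LK LD1_c0 LD2_c22 LD3_c54)) = v195 :=
  Lrfl
theorem f451349 : Led Lsl_ff (LP (LK LD1_c0 LD2_c24 LD3_c26)) = K11.v247 :=
  Lgr Lrot3 (Lpr_ft (K11.f451348 IH) (Lpn K11.v247))
theorem f446401 : Led Lsl_et (LP (LK LD1_c0 LD2_c47 LD3_c46)) = (LP (LK LD1_c0 LD2_c21 LD3_c19)) :=
  Lre_e IH (LK LD1_c0 LD2_c47 LD3_c46) (LK LD1_c0 LD2_c21 LD3_c19) Lrfl Lrfl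
theorem f446402 : Led Lsl_dt (LP (LK LD1_c0 LD2_c47 LD3_c46)) = (LP (LK LD1_c1 LD2_c42 LD3_c30)) :=
  Lre_d IH (LK LD1_c0 LD2_c47 LD3_c46) (LK LD1_c1 LD2_c42 LD3_c30) Lrfl Lrfl
theorem f123402 : Led Lsl_dt (LP (LK LD1_c0 LD2_c24 LD3_c3)) = (LP (LK LD1_c0 LD2_c53 LD3_c33)) :=
  Lre_d IH (LK LD1_c0 LD2_c24 LD3_c3) (LK LD1_c0 LD2_c53 LD3_c33) Lrfl Lrfl
theorem f11402 : Led Lsl_et (LP (LK LD1_c0 LD2_c4 LD3_c31)) = (LP (LK LD1_c0 LD2_c9 LD3_c38)) :=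
  Lre_e IH (LK LD1_c0 LD2_c4 LD3_c31) (LK LD1_c0 LD2_c9 LD3_c38) Lrfl Lrfl
theorem f446403 : Led Lsl_gt (LP (LK LD1_c0 LD2_c53 LD3_c33)) = (LP (LK LD1_c1 LD2_c42 LD3_c30)) :=
  Lgr Lrot139 (Lpe (f123402 IH) (Lpe (f123401 IH) (Lpe (K6.f12711 IH) (Lpr_dt (K0.f12699 IH) (Lpe (K0.f12697 IH) (Lpe (K0.f110 IH) (Lpr_et (f11402 IH) (Lpe (f12714 IH) (Lpe (f446401 IH) (Lpr_dt (f446402 IH) (Lpn (LP (LK LD1_c1 LD2_c42 LD3_c30)))))))))))))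
theorem f451014 : Led Lsl_df (LP (LK LD1_c0 LD2_c22 LD3_c54)) = v195 :=
  Lgr Lrot38 (Lpr_dt (f451013 IH) (Lpn v195))
theorem f451015 : Led Lsl_ef (LP (LK LD1_c0 LD2_c24 LD3_c3)) = v195 :=
  Lgr Lrot17 (Lpe (f123401 IH) (Lpe (K6.f12711 IH) (Lpr_dt (K0.f12699 IH) (Lpe (K0.f12697 IH) (Lpe (K0.f110 IH) (Lpe (K0.f3943 IH) (Lpe (K11.f4468 IH) (Lpe (K11.f4481 IH) (Lpe (f4491 IH) (Lpr_df (f451014 IH) (Lpn v195)))))))))))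
theorem f451017 : Led Lsl_et (LP (LK LD1_c0 LD2_c24 LD3_c3)) = v195 :=
  Lgr Lrot87 (Lpr_ef (f451015 IH) (Lpn v195))
theorem f451330 : Led Lsl_gf v195 = K11.v247 :=
  Lgr Lrot141 (Lpe (f451017 IH) (Lpr_dt (f123402 IH) (Lpr_gt (f446403 IH) (Lpe (f446402 IH) (Lpr_et (f446401 IH) (Lpr_gt (f12714 IH) (Lpr_dt (K11.f4473 IH) (Lpr_gt (K11.f4474 IH) (Lpe (K11.f4475 IH) (Lpr_et (K11.f451327 IH) (Lpn K11.v247)))))))))))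
theorem f451375 : Led Lsl_gt v195 = K11.v255 :=
  Lgr Lrot46 (Lpr_gf (f451330 IH) (Lpe (f451349 IH) (Lpr_at (K11.f451371 IH) (Lpn K11.v255))))
theorem f12134 : Led Lsl_et (LP (LK LD1_c0 LD2_c21 LD3_c18)) = (LP (LK LD1_c0 LD2_c47 LD3_c42)) :=
  Lre_e IH (LK LD1_c0 LD2_c21 LD3_c18) (LK LD1_c0 LD2_c47 LD3_c42) Lrfl Lrfl
theorem f456452 : (LP (LK LD1_c0 LD2_c50 LD3_c44)) = v642 :=
  (Llr Lrot122 (Lpe (f451004 IH) (Lpr_dt (f451013 IH) (Lpr_gt (f451375 IH) (Lpqs (K11.f451588 IH) (Lpr_df (K11.f451328 IH) (Lpe (K11.f451329 IH) (Lpr_gt (K11.f451306 IH) (Lpr_dt (f452065 IH) (Lpqs (f455957 IH) (Lpe (f455683 IH) (Lpe (f12126 IH) (Lpr_et (f12134 IH) (Lpr_gt (f455728 IH) (Lpn v642))))))))))))))).symm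
theorem f456453 : Led Lsl_gt (LP (LK LD1_c0 LD2_c47 LD3_c42)) = (LP (LK LD1_c0 LD2_c50 LD3_c44)) :=
  Leop (Lpqs (f456452 IH) (Lpe (f455728 IH) (Lpn (LP (LK LD1_c0 LD2_c47 LD3_c42)))))
theorem seed_45 : LEOK LG_g (LK LD1_c0 LD2_c47 LD3_c42) :=
  Leoe_g (LK LD1_c0 LD2_c47 LD3_c42) (f456453 IH)
theorem f451503 : Led Lsl_cf v88 = v279 :=
  Lgr Lrot11 (Lpr_ct (f451502 IH) (Lpn v279))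
theorem f4809 : Led Lsl_gt (LP (LK LD1_c1 LD2_c47 LD3_c43)) = (LP (LK LD1_c0 LD2_c50 LD3_c36)) :=
  Lre_g IH (LK LD1_c1 LD2_c47 LD3_c43) (LK LD1_c0 LD2_c50 LD3_c36) Lrfl Lrfl
theorem f447655 : Led Lsl_ct (LP (LK LD1_c0 LD2_c22 LD3_c28)) = v90 :=
  Lgr Lrot40 (Lpe (K2.f4030 IH) (Lpr_cf (K2.f3933 IH) (Lpr_ff (f447653 IH) (Lpn v90))))
theorem f4390 : Led Lsl_bt (LP (LK LD1_c3 LD2_c38 LD3_c21)) = (LP (LK LD1_c1 LD2_c46 LD3_c9)) :=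
  Lre_b IH (LK LD1_c3 LD2_c38 LD3_c21) (LK LD1_c1 LD2_c46 LD3_c9) Lrfl Lrfl
theorem f456456 : Led Lsl_cf (LP (LK LD1_c1 LD2_c47 LD3_c43)) = (LP (LK LD1_c3 LD2_c38 LD3_c21)) :=
  Lgr Lrot160 (Lpr_gt (f4809 IH) (Lpe (K4.f4612 IH) (Lpr_bt (K11.f4484 IH) (Lpr_gt (K11.f4492 IH) (Lpq (f456258 IH) (Lpe (f451503 IH) (Lpr_gt (f447658 IH) (Lpe (f447655 IH) (Lpr_bt (K2.f4039 IH) (Lpr_gt (K2.f4071 IH) (Lpe (f4390 IH) (Lpn (LP (LK LD1_c3 LD2_c38 LD3_c21))))))))))))))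
theorem f456457 : Led Lsl_ct (LP (LK LD1_c3 LD2_c38 LD3_c21)) = (LP (LK LD1_c1 LD2_c47 LD3_c43)) :=
  Leop (Lpr_cf (f456456 IH) (Lpn (LP (LK LD1_c3 LD2_c38 LD3_c21))))
theorem seed_46 : LEOK LG_c (LK LD1_c3 LD2_c38 LD3_c21) :=
  Leoe_c (LK LD1_c3 LD2_c38 LD3_c21) (f456457 IH)
def v762 : LQ := Led Lsl_ft (LP (LK LD1_c0 LD2_c50 LD3_c14))
theorem f457114 : Led Lsl_ft (LP (LK LD1_c0 LD2_c50 LD3_c14)) = v762 :=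
  Lrfl
theorem f6634 : Led Lsl_et (LP (LK LD1_c0 LD2_c4 LD3_c42)) = (LP (LK LD1_c0 LD2_c9 LD3_c61)) :=
  Lre_e IH (LK LD1_c0 LD2_c4 LD3_c42) (LK LD1_c0 LD2_c9 LD3_c61) Lrfl Lrfl
theorem f10901 : Led Lsl_et (LP (LK LD1_c0 LD2_c49 LD3_c36)) = (LP (LK LD1_c0 LD2_c22 LD3_c14)) :=
  Lre_e IH (LK LD1_c0 LD2_c49 LD3_c36) (LK LD1_c0 LD2_c22 LD3_c14) Lrfl Lrfl
theorem f10902 : Led Lsl_dt (LP (LK LD1_c0 LD2_c49 LD3_c36)) = (LP (LK LD1_c1 LD2_c45 LD3_c55)) :=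
  Lre_d IH (LK LD1_c0 LD2_c49 LD3_c36) (LK LD1_c1 LD2_c45 LD3_c55) Lrfl Lrfl
theorem f11036 : Led Lsl_gt (LP (LK LD1_c1 LD2_c38 LD3_c54)) = (LP (LK LD1_c1 LD2_c45 LD3_c55)) :=
  Lgr Lrot139 (Lpe (f11035 IH) (Lpe (f11034 IH) (Lpe (f11033 IH) (Lpr_dt (K0.f190 IH) (Lpr_gf (K0.f11022 IH) (Lpe (K0.f357 IH) (Lpr_et (f6634 IH) (Lpe (f5939 IH) (Lpe (f10901 IH) (Lpr_dt (f10902 IH) (Lpn (LP (LK LD1_c1 LD2_c45 LD3_c55)))))))))))))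
theorem f457116 : Led Lsl_af (LP (LK LD1_c1 LD2_c45 LD3_c55)) = v762 :=
  Lgr Lrot31 (Lpe (f11036 IH) (Lpr_gf (f455950 IH) (Lpr_ft (f457114 IH) (Lpn v762))))
def v761 : LQ := Led Lsl_at (LP (LK LD1_c0 LD2_c50 LD3_c14))
theorem f457110 : Led Lsl_at (LP (LK LD1_c0 LD2_c50 LD3_c14)) = v761 :=
  Lrfl
theorem f457111 : Led Lsl_af (LP (LK LD1_c0 LD2_c50 LD3_c14)) = v761 :=
  Lgr Lrot0 (Lpr_at (f457110 IH) (Lpn v761))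
theorem f457120 : Led Lsl_ft (LP (LK LD1_c1 LD2_c45 LD3_c55)) = v761 :=
  Lgr Lrot101 (Lpr_af (f457116 IH) (Lpe (f457114 IH) (Lpr_af (f457111 IH) (Lpn v761))))
theorem f457122 : Led Lsl_ff (LP (LK LD1_c1 LD2_c45 LD3_c55)) = v761 :=
  Lgr Lrot3 (Lpr_ft (f457120 IH) (Lpn v761))
theorem f11040 : Led Lsl_dt (LP (LK LD1_c1 LD2_c45 LD3_c55)) = (LP (LK LD1_c0 LD2_c49 LD3_c36)) :=
  Lre_d IH (LK LD1_c1 LD2_c45 LD3_c55) (LK LD1_c0 LD2_c49 LD3_c36) Lrfl Lrfl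
def v721 : LQ := Led Lsl_ft (LP (LK LD1_c0 LD2_c49 LD3_c36))
theorem f456926 : Led Lsl_ft (LP (LK LD1_c0 LD2_c49 LD3_c36)) = v721 :=
  Lrfl
theorem f457125 : Led Lsl_dt v721 = v761 :=
  Lgr Lrot60 (Lpe (f456926 IH) (Lpe (f11040 IH) (Lpr_ff (f457122 IH) (Lpn v761))))
theorem f457126 : Led Lsl_af v721 = v605 :=
  Lgr Lrot117 (Lpr_dt (f457125 IH) (Lpe (f457111 IH) (Lpr_dt (f455164 IH) (Lpn v605))))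
theorem f456927 : Led Lsl_ff (LP (LK LD1_c0 LD2_c49 LD3_c36)) = v721 :=
  Lgr Lrot3 (Lpr_ft (f456926 IH) (Lpn v721))
def v720 : LQ := Led Lsl_at (LP (LK LD1_c0 LD2_c49 LD3_c36))
theorem f456922 : Led Lsl_at (LP (LK LD1_c0 LD2_c49 LD3_c36)) = v720 :=
  Lrfl
theorem f457128 : Led Lsl_ft v720 = v605 :=
  Lgr Lrot101 (Lpe (f456922 IH) (Lpr_ff (f456927 IH) (Lpr_af (f457126 IH) (Lpn v605))))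
theorem f457130 : Led Lsl_ff v720 = v605 :=
  Lgr Lrot3 (Lpr_ft (f457128 IH) (Lpn v605))
theorem f456923 : Led Lsl_af (LP (LK LD1_c0 LD2_c49 LD3_c36)) = v720 :=
  Lgr Lrot0 (Lpr_at (f456922 IH) (Lpn v720))
def v719 : LQ := Led Lsl_gf (LP (LK LD1_c0 LD2_c49 LD3_c36))
theorem f456921 : Led Lsl_gf (LP (LK LD1_c0 LD2_c49 LD3_c36)) = v719 :=
  Lrfl
theorem f457131 : v719 = (LP (LK LD1_c0 LD2_c46 LD3_c47)) :=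
  (Llr Lrot76 (Lpe (f456921 IH) (Lpr_af (f456923 IH) (Lpr_ff (f457130 IH) (Lpr_gt (f455206 IH) (Lpn (LP (LK LD1_c0 LD2_c46 LD3_c47)))))))).symm
theorem f457133 : Led Lsl_gt (LP (LK LD1_c0 LD2_c46 LD3_c47)) = (LP (LK LD1_c0 LD2_c49 LD3_c36)) :=
  Leop (Lpr_gf (f456921 IH) (Lpqs (f457131 IH) (Lpn (LP (LK LD1_c0 LD2_c46 LD3_c47)))))
theorem seed_47 : LEOK LG_g (LK LD1_c0 LD2_c46 LD3_c47) :=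
  Leoe_g (LK LD1_c0 LD2_c46 LD3_c47) (f457133 IH)
def v778 : LQ := Led Lsl_at (LP (LK LD1_c0 LD2_c50 LD3_c41))
theorem f457188 : Led Lsl_at (LP (LK LD1_c0 LD2_c50 LD3_c41)) = v778 :=
  Lrfl
def v779 : LQ := Led Lsl_ct (LP (LK LD1_c0 LD2_c50 LD3_c41))
theorem f457194 : Led Lsl_ct (LP (LK LD1_c0 LD2_c50 LD3_c41)) = v779 :=
  Lrfl
def v194 : LQ := Led Lsl_ct (LP (LK LD1_c0 LD2_c22 LD3_c54))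
theorem f451011 : Led Lsl_ct (LP (LK LD1_c0 LD2_c22 LD3_c54)) = v194 :=
  Lrfl
theorem f451012 : Led Lsl_cf (LP (LK LD1_c0 LD2_c22 LD3_c54)) = v194 :=
  Lgr Lrot11 (Lpr_ct (f451011 IH) (Lpn v194))
theorem f450984 : Led Lsl_cf (LP (LK LD1_c0 LD2_c22 LD3_c40)) = v187 :=
  Lgr Lrot11 (Lpr_ct (f450983 IH) (Lpn v187))
theorem f456263 : (LP (LK LD1_c0 LD2_c22 LD3_c40)) = v194 :=
  Lefun (Lecon (Lfl_cf (f450984 IH)) (f456262 IH)) (f451011 IH)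
def v89 : LQ := Led Lsl_dt (LP (LK LD1_c0 LD2_c10 LD3_c12))
theorem f447643 : Led Lsl_dt (LP (LK LD1_c0 LD2_c10 LD3_c12)) = v89 :=
  Lrfl
def v282 : LQ := Led Lsl_gt v89
theorem f451510 : Led Lsl_gt v89 = v282 :=
  Lrfl
theorem f457196 : Led Lsl_dt v282 = v779 :=
  Lgr Lrot113 (Lpe (f451510 IH) (Lpe (f447643 IH) (Lpe (f4034 IH) (Lpqs (f456263 IH) (Lpe (f451012 IH) (Lpr_gt (f4491 IH) (Lpe (K11.f4481 IH) (Lpr_gt (K11.f4492 IH) (Lpr_dt (K11.f4493 IH) (Lpr_ct (f457194 IH) (Lpn v779)))))))))))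
theorem f3986 : Led Lsl_dt (LP (LK LD1_c0 LD2_c10 LD3_c14)) = (LP (LK LD1_c0 LD2_c4 LD3_c49)) :=
  Lre_d IH (LK LD1_c0 LD2_c10 LD3_c14) (LK LD1_c0 LD2_c4 LD3_c49) Lrfl Lrfl
theorem f447645 : Led Lsl_ef (LP (LK LD1_c0 LD2_c10 LD3_c14)) = v89 :=
  Lgr Lrot73 (Lpr_dt (f3986 IH) (Lpr_et (K0.f3990 IH) (Lpr_dt (K0.f3928 IH) (Lpr_et (K2.f3932 IH) (Lpr_dt (f447643 IH) (Lpn v89))))))
theorem f447648 : Led Lsl_et (LP (LK LD1_c0 LD2_c10 LD3_c14)) = v89 :=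
  Lgr Lrot87 (Lpr_ef (f447645 IH) (Lpn v89))
def v91 : LQ := Led Lsl_dt (LP (LK LD1_c0 LD2_c10 LD3_c13))
theorem f447659 : Led Lsl_dt (LP (LK LD1_c0 LD2_c10 LD3_c13)) = v91 :=
  Lrfl
theorem f447660 : Led Lsl_df (LP (LK LD1_c0 LD2_c10 LD3_c13)) = v91 :=
  Lgr Lrot38 (Lpr_dt (f447659 IH) (Lpn v91))
theorem f3981 : Led Lsl_dt (LP (LK LD1_c0 LD2_c4 LD3_c49)) = (LP (LK LD1_c0 LD2_c10 LD3_c14)) :=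
  Lre_d IH (LK LD1_c0 LD2_c4 LD3_c49) (LK LD1_c0 LD2_c10 LD3_c14) Lrfl Lrfl
theorem f447663 : Led Lsl_gt (LP (LK LD1_c0 LD2_c10 LD3_c14)) = v91 :=
  Lgr Lrot112 (Lpe (f3981 IH) (Lpr_et (K0.f3990 IH) (Lpe (K0.f11512 IH) (Lpe (K0.f9870 IH) (Lpr_dt (K0.f9866 IH) (Lpr_gf (K0.f11474 IH) (Lpe (K0.f9967 IH) (Lpr_gf (K7.f10369 IH) (Lpr_ef (K7.f156419 IH) (Lpr_dt (f447659 IH) (Lpn v91)))))))))))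
theorem f447644 : Led Lsl_df (LP (LK LD1_c0 LD2_c10 LD3_c12)) = v89 :=
  Lgr Lrot38 (Lpr_dt (f447643 IH) (Lpn v89))
def v188 : LQ := Led Lsl_dt (LP (LK LD1_c0 LD2_c22 LD3_c40))
theorem f450985 : Led Lsl_dt (LP (LK LD1_c0 LD2_c22 LD3_c40)) = v188 :=
  Lrfl
theorem f450986 : Led Lsl_df (LP (LK LD1_c0 LD2_c22 LD3_c40)) = v188 :=
  Lgr Lrot38 (Lpr_dt (f450985 IH) (Lpn v188))
theorem f451511 : Led Lsl_et v188 = v282 :=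
  Lgr Lrot122 (Lpe (f450986 IH) (Lpr_gt (f4034 IH) (Lpr_df (f447644 IH) (Lpe (f447645 IH) (Lpr_gt (f447663 IH) (Lpe (f447660 IH) (Lpe (K7.f4919 IH) (Lpe (f3986 IH) (Lpr_et (f447648 IH) (Lpr_gt (f451510 IH) (Lpn v282)))))))))))
theorem f457198 : Led Lsl_ef v605 = v779 :=
  Lgr Lrot73 (Lpe (f455166 IH) (Lpr_et (f446505 IH) (Lpr_dt (f450985 IH) (Lpr_et (f451511 IH) (Lpr_dt (f457196 IH) (Lpn v779))))))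
theorem f450895 : Led Lsl_et (LP (LK LD1_c0 LD2_c22 LD3_c14)) = (LP (LK LD1_c0 LD2_c49 LD3_c36)) :=
  Lre_e IH (LK LD1_c0 LD2_c22 LD3_c14) (LK LD1_c0 LD2_c49 LD3_c36) Lrfl Lrfl
theorem f456924 : Led Lsl_ef v172 = v720 :=
  Lgr Lrot20 (Lpe (f450906 IH) (Lpr_et (f450895 IH) (Lpr_at (f456922 IH) (Lpn v720))))
def v171 : LQ := Led Lsl_et (LP (LK LD1_c0 LD2_c22 LD3_c13))
theorem f450903 : Led Lsl_et (LP (LK LD1_c0 LD2_c22 LD3_c13)) = v171 :=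
  Lrfl
theorem f457200 : Led Lsl_ft v171 = v779 :=
  Lgr Lrot86 (Lpe (f450903 IH) (Lpr_ff (f450907 IH) (Lpr_ef (f456924 IH) (Lpr_ff (f457130 IH) (Lpr_ef (f457198 IH) (Lpn v779))))))
theorem f436821 : Led Lsl_gt (LP (LK LD1_c0 LD2_c22 LD3_c55)) = (LP (LK LD1_c0 LD2_c22 LD3_c54)) :=
  Lgr Lrot5 (Lpr_ft (K11.f4488 IH) (Lpr_at (K11.f436781 IH) (Lpe (f4491 IH) (Lpn (LP (LK LD1_c0 LD2_c22 LD3_c54))))))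
def v192 : LQ := Led Lsl_ct (LP (LK LD1_c0 LD2_c22 LD3_c53))
theorem f451005 : Led Lsl_ct (LP (LK LD1_c0 LD2_c22 LD3_c53)) = v192 :=
  Lrfl
theorem f451006 : Led Lsl_cf (LP (LK LD1_c0 LD2_c22 LD3_c53)) = v192 :=
  Lgr Lrot11 (Lpr_ct (f451005 IH) (Lpn v192))
theorem f456259 : v88 = v192 :=
  Lefun (Lecon (Lfl_cf (f451503 IH)) (f456258 IH)) (f451005 IH)
def v285 : LQ := Led Lsl_ft v89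
theorem f451521 : Led Lsl_ft v89 = v285 :=
  Lrfl
theorem f451523 : Led Lsl_ff v89 = v285 :=
  Lgr Lrot3 (Lpr_ft (f451521 IH) (Lpn v285))
theorem f451525 : Led Lsl_dt v90 = v285 :=
  Lgr Lrot60 (Lpe (f447650 IH) (Lpr_df (f447644 IH) (Lpr_ff (f451523 IH) (Lpn v285))))
theorem f4917 : Led Lsl_at (LP (LK LD1_c0 LD2_c10 LD3_c14)) = (LP (LK LD1_c0 LD2_c10 LD3_c14)) :=
  Lgr Lrot51 (Lpe (f3981 IH) (Lpr_af (K0.f4911 IH) (Lpe (f3986 IH) (Lpn (LP (LK LD1_c0 LD2_c10 LD3_c14))))))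
theorem f447649 : Led Lsl_af v89 = v89 :=
  Lgr Lrot50 (Lpe (f447645 IH) (Lpr_at (f4917 IH) (Lpr_et (f447648 IH) (Lpn v89))))
def v283 : LQ := Led Lsl_gf v89
theorem f451513 : Led Lsl_gf v89 = v283 :=
  Lrfl
theorem f451527 : Led Lsl_gf v283 = v285 :=
  Lgr Lrot47 (Lpe (f451513 IH) (Lpr_af (f447649 IH) (Lpr_ff (f451523 IH) (Lpn v285))))
theorem f450904 : Led Lsl_ef (LP (LK LD1_c0 LD2_c22 LD3_c13)) = v171 :=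
  Lgr Lrot88 (Lpr_et (f450903 IH) (Lpn v171))
theorem f451514 : Led Lsl_dt v171 = v283 :=
  Lgr Lrot136 (Lpe (f450904 IH) (Lpe (f5921 IH) (Lpe (f6634 IH) (Lpr_dt (K0.f357 IH) (Lpr_gf (K0.f11462 IH) (Lpr_df (f11466 IH) (Lpe (K0.f11427 IH) (Lpe (K2.f4944 IH) (Lpr_dt (f447643 IH) (Lpr_gf (f451513 IH) (Lpn v283)))))))))))
theorem f451515 : Led Lsl_df v171 = v283 :=
  Lgr Lrot38 (Lpr_dt (f451514 IH) (Lpn v283))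
theorem f456454 : Led Lsl_ct v195 = v171 :=
  Lgr Lrot7 (Lpe (f451013 IH) (Lpe (f436821 IH) (Lpe (K11.f4489 IH) (Lpr_gf (K11.f436798 IH) (Lpr_cf (f451006 IH) (Lpq (f456259 IH) (Lpr_gt (f447658 IH) (Lpr_dt (f451525 IH) (Lpe (f451527 IH) (Lpe (f451515 IH) (Lpn v171)))))))))))
theorem f457190 : Led Lsl_df v191 = v778 :=
  Lgr Lrot18 (Lpe (f450998 IH) (Lpr_dt (K11.f4493 IH) (Lpr_at (f457188 IH) (Lpn v778))))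
theorem f457192 : Led Lsl_ft v195 = v778 :=
  Lgr Lrot54 (Lpe (f451013 IH) (Lpr_ff (f451002 IH) (Lpr_df (f457190 IH) (Lpn v778))))
theorem f457193 : Led Lsl_ff v195 = v778 :=
  Lgr Lrot3 (Lpr_ft (f457192 IH) (Lpn v778))
theorem f457195 : Led Lsl_cf (LP (LK LD1_c0 LD2_c50 LD3_c41)) = v779 :=
  Lgr Lrot11 (Lpr_ct (f457194 IH) (Lpn v779))
theorem f457203 : v778 = (LP (LK LD1_c0 LD2_c50 LD3_c41)) :=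
  (Llr Lrot23 (Lpe (f457193 IH) (Lpr_ct (f456454 IH) (Lpr_ft (f457200 IH) (Lpe (f457195 IH) (Lpn (LP (LK LD1_c0 LD2_c50 LD3_c41)))))))).symm
theorem f457204 : Led Lsl_at (LP (LK LD1_c0 LD2_c50 LD3_c41)) = (LP (LK LD1_c0 LD2_c50 LD3_c41)) :=
  Leop (Lpq (f457203 IH) (Lpe (f457188 IH) (Lpn (LP (LK LD1_c0 LD2_c50 LD3_c41)))))
theorem seed_48 : LEOK LG_a (LK LD1_c0 LD2_c50 LD3_c41) :=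
  Leoe_a (LK LD1_c0 LD2_c50 LD3_c41) (f457204 IH)
theorem f457117 : Led Lsl_at (LP (LK LD1_c1 LD2_c45 LD3_c55)) = v762 :=
  Lgr Lrot100 (Lpr_af (f457116 IH) (Lpn v762))
theorem f450980 : Led Lsl_et (LP (LK LD1_c0 LD2_c22 LD3_c40)) = (LP (LK LD1_c0 LD2_c50 LD3_c14)) :=
  Lre_e IH (LK LD1_c0 LD2_c22 LD3_c40) (LK LD1_c0 LD2_c50 LD3_c14) Lrfl Lrfl
theorem f457112 : Led Lsl_ef v186 = v761 :=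
  Lgr Lrot20 (Lpe (f450978 IH) (Lpr_et (f450980 IH) (Lpr_at (f457110 IH) (Lpn v761))))
theorem f457113 : Led Lsl_et v186 = v761 :=
  Lgr Lrot87 (Lpr_ef (f457112 IH) (Lpn v761))
def v189 : LQ := Led Lsl_ft (LP (LK LD1_c0 LD2_c22 LD3_c40))
theorem f450987 : Led Lsl_ft (LP (LK LD1_c0 LD2_c22 LD3_c40)) = v189 :=
  Lrfl
theorem f450989 : Led Lsl_ff (LP (LK LD1_c0 LD2_c22 LD3_c40)) = v189 :=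
  Lgr Lrot3 (Lpr_ft (f450987 IH) (Lpn v189))
theorem f456266 : Led Lsl_cf v189 = v191 :=
  Lgr Lrot108 (Lpe (f450989 IH) (Lpr_ct (f450983 IH) (Lpqs (f456262 IH) (Lpr_ft (f451001 IH) (Lpn v191)))))
theorem f457205 : v191 = (LP (LK LD1_c0 LD2_c22 LD3_c53)) :=
  Lefun (Lecon (Lfl_df (f457190 IH)) (f457203 IH)) (K11.f4497 IH)
theorem f457207 : v189 = v192 :=
  Lefun (Lecon (Lfl_cf (f456266 IH)) (f457205 IH)) (f451005 IH)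
theorem f457213 : (LP (LK LD1_c0 LD2_c22 LD3_c40)) = v186 :=
  Lefun (Lecon (Lfl_ff (f450989 IH)) ((f457207 IH).trans (f456259 IH).symm)) (f450981 IH)
theorem f457218 : v761 = (LP (LK LD1_c0 LD2_c50 LD3_c14)) :=
  Lefun (Lecon (f457113 IH) (f457213 IH).symm) (f450980 IH)
theorem f457221 : (LP (LK LD1_c1 LD2_c45 LD3_c55)) = v762 :=
  Lefun (Lecon (Lfl_ff (f457122 IH)) (f457218 IH)) (f457114 IH)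
theorem f457222 : Led Lsl_at (LP (LK LD1_c1 LD2_c45 LD3_c55)) = (LP (LK LD1_c1 LD2_c45 LD3_c55)) :=
  Leop (Lpqs (f457221 IH) (Lpe (f457117 IH) (Lpn (LP (LK LD1_c1 LD2_c45 LD3_c55)))))
theorem seed_49 : LEOK LG_a (LK LD1_c1 LD2_c45 LD3_c55) :=
  Leoe_a (LK LD1_c1 LD2_c45 LD3_c55) (f457222 IH)
def v229 : LQ := Led Lsl_ft (LP (LK LD1_c0 LD2_c24 LD3_c16))
theorem f451223 : Led Lsl_ft (LP (LK LD1_c0 LD2_c24 LD3_c16)) = v229 :=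
  Lrfl
theorem f451225 : Led Lsl_ff (LP (LK LD1_c0 LD2_c24 LD3_c16)) = v229 :=
  Lgr Lrot3 (Lpr_ft (f451223 IH) (Lpn v229))
def v226 : LQ := Led Lsl_at (LP (LK LD1_c0 LD2_c24 LD3_c16))
theorem f451207 : Led Lsl_at (LP (LK LD1_c0 LD2_c24 LD3_c16)) = v226 :=
  Lrfl
theorem f451208 : Led Lsl_af (LP (LK LD1_c0 LD2_c24 LD3_c16)) = v226 :=
  Lgr Lrot0 (Lpr_at (f451207 IH) (Lpn v226))
theorem f11890 : Led Lsl_gt (LP (LK LD1_c0 LD2_c24 LD3_c17)) = (LP (LK LD1_c0 LD2_c10 LD3_c49)) :=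
  Lre_g IH (LK LD1_c0 LD2_c24 LD3_c17) (LK LD1_c0 LD2_c10 LD3_c49) Lrfl Lrfl
theorem f451211 : Led Lsl_ft (LP (LK LD1_c0 LD2_c24 LD3_c17)) = v226 :=
  Lgr Lrot2 (Lpr_gt (f11890 IH) (Lpr_gt (f11325 IH) (Lpr_af (f451208 IH) (Lpn v226))))
theorem f451212 : Led Lsl_ff (LP (LK LD1_c0 LD2_c24 LD3_c17)) = v226 :=
  Lgr Lrot3 (Lpr_ft (f451211 IH) (Lpn v226))
theorem f451226 : Led Lsl_at (LP (LK LD1_c0 LD2_c24 LD3_c17)) = v229 :=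
  Lgr Lrot66 (Lpr_ff (f451212 IH) (Lpe (f451207 IH) (Lpr_ff (f451225 IH) (Lpn v229))))
def v141 : LQ := Led Lsl_ct (LP (LK LD1_c0 LD2_c20 LD3_c59))
theorem f450697 : Led Lsl_ct (LP (LK LD1_c0 LD2_c20 LD3_c59)) = v141 :=
  Lrfl
theorem f450698 : Led Lsl_cf (LP (LK LD1_c0 LD2_c20 LD3_c59)) = v141 :=
  Lgr Lrot11 (Lpr_ct (f450697 IH) (Lpn v141))
def v140 : LQ := Led Lsl_ft (LP (LK LD1_c0 LD2_c20 LD3_c58))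
theorem f450693 : Led Lsl_ft (LP (LK LD1_c0 LD2_c20 LD3_c58)) = v140 :=
  Lrfl
theorem f450695 : Led Lsl_ff (LP (LK LD1_c0 LD2_c20 LD3_c58)) = v140 :=
  Lgr Lrot3 (Lpr_ft (f450693 IH) (Lpn v140))
theorem f450696 : Led Lsl_at (LP (LK LD1_c0 LD2_c20 LD3_c59)) = v140 :=
  Lgr Lrot66 (Lpr_ff (f450689 IH) (Lpe (f450683 IH) (Lpr_ff (f450695 IH) (Lpn v140))))
theorem f455222 : v607 = (LP (LK LD1_c0 LD2_c46 LD3_c46)) :=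
  (Llr Lrot80 (Lpe (f455170 IH) (Lpr_ef (f455188 IH) (Lpr_af (f455219 IH) (Lpe (f455186 IH) (Lpn (LP (LK LD1_c0 LD2_c46 LD3_c46)))))))).symm
theorem f455224 : v138 = (LP (LK LD1_c0 LD2_c20 LD3_c58)) :=
  Lefun (Lecon (Lfl_df (f455173 IH)) (f455222 IH)) (f15751 IH)
theorem f455230 : (LP (LK LD1_c0 LD2_c20 LD3_c59)) = v140 :=
  Lefun (Lecon (Lfl_ff (f450689 IH)) (f455224 IH)) (f450693 IH)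
theorem f455477 : Led Lsl_af v141 = v141 :=
  Lgr Lrot68 (Lpe (f450698 IH) (Lpr_at (f450696 IH) (Lpq (f455230 IH) (Lpr_ct (f450697 IH) (Lpn v141)))))
def v613 : LQ := Led Lsl_ct (LP (LK LD1_c0 LD2_c46 LD3_c49))
theorem f455491 : Led Lsl_ct (LP (LK LD1_c0 LD2_c46 LD3_c49)) = v613 :=
  Lrfl
theorem f455493 : Led Lsl_ef v141 = v613 :=
  Lgr Lrot28 (Lpe (f450698 IH) (Lpr_et (f446435 IH) (Lpr_ct (f455491 IH) (Lpn v613))))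
def v232 : LQ := Led Lsl_et (LP (LK LD1_c0 LD2_c24 LD3_c17))
theorem f451232 : Led Lsl_et (LP (LK LD1_c0 LD2_c24 LD3_c17)) = v232 :=
  Lrfl
theorem f451233 : Led Lsl_ef (LP (LK LD1_c0 LD2_c24 LD3_c17)) = v232 :=
  Lgr Lrot88 (Lpr_et (f451232 IH) (Lpn v232))
theorem f457199 : Led Lsl_et v605 = v779 :=
  Lgr Lrot87 (Lpr_ef (f457198 IH) (Lpn v779))
theorem f14912 : Led Lsl_et (LP (LK LD1_c0 LD2_c24 LD3_c14)) = (LP (LK LD1_c0 LD2_c53 LD3_c56)) :=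
  Lre_e IH (LK LD1_c0 LD2_c24 LD3_c14) (LK LD1_c0 LD2_c53 LD3_c56) Lrfl Lrfl
theorem f14981 : Led Lsl_et (LP (LK LD1_c1 LD2_c54 LD3_c34)) = (LP (LK LD1_c1 LD2_c39 LD3_c18)) :=
  Lgr Lrot71 (Lpe (f14612 IH) (Lpe (f14912 IH) (Lpr_df (K0.f14974 IH) (Lpe (K0.f9794 IH) (Lpe (K1.f9822 IH) (Lpn (LP (LK LD1_c1 LD2_c39 LD3_c18))))))))
theorem f14926 : Led Lsl_ct (LP (LK LD1_c3 LD2_c55 LD3_c53)) = (LP (LK LD1_c1 LD2_c54 LD3_c34)) :=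
  Lre_c IH (LK LD1_c3 LD2_c55 LD3_c53) (LK LD1_c1 LD2_c54 LD3_c34) Lrfl Lrfl
theorem f17166 : Led Lsl_ef (LP (LK LD1_c3 LD2_c55 LD3_c53)) = (LP (LK LD1_c3 LD2_c25 LD3_c23)) :=
  Lgr Lrot28 (Lpr_ct (f14926 IH) (Lpr_et (f14981 IH) (Lpr_ct (K3.f9832 IH) (Lpn (LP (LK LD1_c3 LD2_c25 LD3_c23))))))
theorem f17175 : Led Lsl_et (LP (LK LD1_c3 LD2_c55 LD3_c53)) = (LP (LK LD1_c3 LD2_c25 LD3_c23)) :=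
  Lgr Lrot87 (Lpr_ef (f17166 IH) (Lpn (LP (LK LD1_c3 LD2_c25 LD3_c23))))
theorem f17178 : Led Lsl_at (LP (LK LD1_c1 LD2_c54 LD3_c42)) = (LP (LK LD1_c3 LD2_c55 LD3_c53)) :=
  Lre_a IH (LK LD1_c1 LD2_c54 LD3_c42) (LK LD1_c3 LD2_c55 LD3_c53) Lrfl Lrfl
theorem f17180 : Led Lsl_ef (LP (LK LD1_c1 LD2_c54 LD3_c42)) = (LP (LK LD1_c1 LD2_c40 LD3_c34)) :=
  Lgr Lrot20 (Lpr_at (f17178 IH) (Lpr_et (f17175 IH) (Lpr_at (K2.f17179 IH) (Lpn (LP (LK LD1_c1 LD2_c40 LD3_c34))))))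
theorem f17186 : Led Lsl_ct (LP (LK LD1_c1 LD2_c54 LD3_c42)) = (LP (LK LD1_c0 LD2_c53 LD3_c59)) :=
  Lre_c IH (LK LD1_c1 LD2_c54 LD3_c42) (LK LD1_c0 LD2_c53 LD3_c59) Lrfl Lrfl
theorem f17187 : Led Lsl_et (LP (LK LD1_c0 LD2_c53 LD3_c59)) = (LP (LK LD1_c0 LD2_c46 LD3_c44)) :=
  Lgr Lrot158 (Lpe (f17186 IH) (Lpr_ef (f17180 IH) (Lpe (K3.f11480 IH) (Lpn (LP (LK LD1_c0 LD2_c46 LD3_c44))))))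
theorem f17256 : Led Lsl_ef (LP (LK LD1_c0 LD2_c24 LD3_c18)) = (LP (LK LD1_c0 LD2_c20 LD3_c61)) :=
  Lgr Lrot29 (Lpr_bt (f14921 IH) (Lpr_et (f17187 IH) (Lpr_bt (K3.f9827 IH) (Lpn (LP (LK LD1_c0 LD2_c20 LD3_c61))))))
theorem f9830 : Led Lsl_at (LP (LK LD1_c0 LD2_c20 LD3_c61)) = (LP (LK LD1_c0 LD2_c20 LD3_c61)) :=
  Lgr Lrot67 (Lpe (K3.f9827 IH) (Lpe (K4.f9826 IH) (Lpr_bf (K3.f9824 IH) (Lpe (K3.f9828 IH) (Lpe (K7.f9829 IH) (Lpn (LP (LK LD1_c0 LD2_c20 LD3_c61))))))))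
theorem f17266 : Led Lsl_et (LP (LK LD1_c0 LD2_c24 LD3_c18)) = (LP (LK LD1_c0 LD2_c20 LD3_c61)) :=
  Lgr Lrot123 (Lpr_af (f14924 IH) (Lpr_ef (f17256 IH) (Lpe (f9830 IH) (Lpn (LP (LK LD1_c0 LD2_c20 LD3_c61))))))
theorem f11236 : Led Lsl_dt (LP (LK LD1_c0 LD2_c24 LD3_c18)) = (LP (LK LD1_c0 LD2_c10 LD3_c49)) :=
  Lre_d IH (LK LD1_c0 LD2_c24 LD3_c18) (LK LD1_c0 LD2_c10 LD3_c49) Lrfl Lrfl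
def v231 : LQ := Led Lsl_dt (LP (LK LD1_c0 LD2_c24 LD3_c17))
theorem f451230 : Led Lsl_dt (LP (LK LD1_c0 LD2_c24 LD3_c17)) = v231 :=
  Lrfl
theorem f451231 : Led Lsl_df (LP (LK LD1_c0 LD2_c24 LD3_c17)) = v231 :=
  Lgr Lrot38 (Lpr_dt (f451230 IH) (Lpn v231))
theorem f455943 : Led Lsl_gf v231 = v677 :=
  Lgr Lrot138 (Lpe (f451231 IH) (Lpr_gt (f11890 IH) (Lpe (f11236 IH) (Lpr_et (f17266 IH) (Lpr_gt (K0.f11472 IH) (Lpe (f10390 IH) (Lpr_dt (f5916 IH) (Lpr_gt (f5922 IH) (Lpe (f10162 IH) (Lpr_et (f455940 IH) (Lpn v677)))))))))))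
theorem f457376 : Led Lsl_gf v779 = v232 :=
  Lgr Lrot141 (Lpe (f457199 IH) (Lpe (f455166 IH) (Lpe (f455950 IH) (Lpe (f11035 IH) (Lpr_et (f11047 IH) (Lpr_gt (f455945 IH) (Lpr_dt (f455944 IH) (Lpe (f455943 IH) (Lpe (f451230 IH) (Lpr_et (f451232 IH) (Lpn v232)))))))))))
theorem f457197 : Led Lsl_df v282 = v779 :=
  Lgr Lrot38 (Lpr_dt (f457196 IH) (Lpn v779))
theorem f451524 : Led Lsl_at v285 = v285 :=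
  Lgr Lrot66 (Lpe (f451521 IH) (Lpr_af (f447649 IH) (Lpr_ff (f451523 IH) (Lpn v285))))
theorem f451528 : Led Lsl_gt v282 = v285 :=
  Lgr Lrot46 (Lpe (f451510 IH) (Lpr_ft (f451521 IH) (Lpr_at (f451524 IH) (Lpn v285))))
theorem f451522 : Led Lsl_df v90 = v285 :=
  Lgr Lrot78 (Lpe (f447653 IH) (Lpr_dt (f447643 IH) (Lpr_ft (f451521 IH) (Lpn v285))))
theorem f447651 : Led Lsl_cf (LP (LK LD1_c0 LD2_c22 LD3_c28)) = v90 :=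
  Lgr Lrot108 (Lpr_ft (K2.f4029 IH) (Lpr_ct (K2.f5318 IH) (Lpr_ft (f447650 IH) (Lpn v90))))
theorem f457378 : v613 = v232 :=
  (Llr Lrot8 (Lpe (f455491 IH) (Lpe (f455208 IH) (Lpe (f451494 IH) (Lpe (f447639 IH) (Lpe (K2.f4031 IH) (Lpr_cf (f447651 IH) (Lpr_df (f451522 IH) (Lpe (f451528 IH) (Lpr_df (f457197 IH) (Lpr_gf (f457376 IH) (Lpn v232)))))))))))).symm
theorem f457379 : v141 = (LP (LK LD1_c0 LD2_c24 LD3_c17)) :=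
  Lefun (Lecon (Lfl_ef (f455493 IH)) (f457378 IH)) (Lfl_ef (f451233 IH))
theorem f457380 : v141 = v229 :=
  Lefun (Lecon (Lfl_af (f455477 IH)) (f457379 IH)) (f451226 IH)
theorem f457381 : Led Lsl_at (LP (LK LD1_c0 LD2_c24 LD3_c17)) = (LP (LK LD1_c0 LD2_c24 LD3_c17)) :=
  Leop (Lpq (f457379 IH) (Lpqs (f457380 IH) (Lpe (f451226 IH) (Lpn (LP (LK LD1_c0 LD2_c24 LD3_c17))))))
theorem seed_50 : LEOK LG_a (LK LD1_c0 LD2_c24 LD3_c17) :=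
  Leoe_a (LK LD1_c0 LD2_c24 LD3_c17) (f457381 IH)
theorem f457383 : Led Lsl_ct (LP (LK LD1_c0 LD2_c20 LD3_c59)) = (LP (LK LD1_c0 LD2_c24 LD3_c17)) :=
  Leop (Lpq (f457379 IH) (Lpe (f450697 IH) (Lpn (LP (LK LD1_c0 LD2_c20 LD3_c59)))))
theorem seed_51 : LEOK LG_c (LK LD1_c0 LD2_c20 LD3_c59) :=
  Leoe_c (LK LD1_c0 LD2_c20 LD3_c59) (f457383 IH)
def v139 : LQ := Led Lsl_ct (LP (LK LD1_c0 LD2_c20 LD3_c58))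
theorem f450690 : Led Lsl_ct (LP (LK LD1_c0 LD2_c20 LD3_c58)) = v139 :=
  Lrfl
theorem f450691 : Led Lsl_cf (LP (LK LD1_c0 LD2_c20 LD3_c58)) = v139 :=
  Lgr Lrot11 (Lpr_ct (f450690 IH) (Lpn v139))
theorem f455475 : Led Lsl_ff v139 = v141 :=
  Lgr Lrot23 (Lpe (f450691 IH) (Lpq (f455224 IH) (Lpe (f450689 IH) (Lpr_ct (f450697 IH) (Lpn v141)))))
theorem f457385 : v139 = v226 :=
  Lefun (Lecon (Lfl_ff (f455475 IH)) (f457379 IH)) (f451211 IH)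
theorem f457386 : (LP (LK LD1_c0 LD2_c24 LD3_c16)) = v226 :=
  Lefun (Lecon (Lfl_ff (f451225 IH)) ((f457380 IH).symm.trans (f457379 IH))) (f451211 IH)
theorem f15739 : Led Lsl_ft (LP (LK LD1_c0 LD2_c10 LD3_c49)) = (LP (LK LD1_c0 LD2_c24 LD3_c19)) :=
  Lre_f IH (LK LD1_c0 LD2_c10 LD3_c49) (LK LD1_c0 LD2_c24 LD3_c19) Lrfl Lrfl
theorem f446549 : Led Lsl_gt (LP (LK LD1_c0 LD2_c24 LD3_c16)) = (LP (LK LD1_c0 LD2_c24 LD3_c19)) :=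
  Lgr Lrot46 (Lpe (f11325 IH) (Lpr_ft (f15739 IH) (Lpr_at (K0.f11179 IH) (Lpn (LP (LK LD1_c0 LD2_c24 LD3_c19))))))
theorem f15785 : Led Lsl_dt (LP (LK LD1_c0 LD2_c45 LD3_c51)) = (LP (LK LD1_c1 LD2_c38 LD3_c57)) :=
  Lre_d IH (LK LD1_c0 LD2_c45 LD3_c51) (LK LD1_c1 LD2_c38 LD3_c57) Lrfl Lrfl
theorem f457399 : Led Lsl_cf (LP (LK LD1_c1 LD2_c38 LD3_c55)) = (LP (LK LD1_c1 LD2_c38 LD3_c57)) :=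
  Lgr Lrot14 (Lpr_df (f451241 IH) (Lpe (f451235 IH) (Lpe (f11198 IH) (Lpe (f446549 IH) (Lpqs (f457386 IH) (Lpq (f457385 IH) (Lpe (f450691 IH) (Lpe (f15749 IH) (Lpr_dt (f15725 IH) (Lpe (f15783 IH) (Lpr_dt (f15785 IH) (Lpn (LP (LK LD1_c1 LD2_c38 LD3_c57))))))))))))))
def v230 : LQ := Led Lsl_ct (LP (LK LD1_c0 LD2_c24 LD3_c17))
theorem f451227 : Led Lsl_ct (LP (LK LD1_c0 LD2_c24 LD3_c17)) = v230 :=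
  Lrfl
theorem f457382 : (LP (LK LD1_c0 LD2_c20 LD3_c59)) = v230 :=
  Lefun (Lecon (Lfl_cf (f450698 IH)) (f457379 IH)) (f451227 IH)
def v760 : LQ := Led Lsl_gf (LP (LK LD1_c0 LD2_c50 LD3_c14))
theorem f457109 : Led Lsl_gf (LP (LK LD1_c0 LD2_c50 LD3_c14)) = v760 :=
  Lrfl
theorem f457406 : v760 = (LP (LK LD1_c1 LD2_c38 LD3_c57)) :=
  (Llr Lrot144 (Lpe (f457109 IH) (Lpr_dt (f455164 IH) (Lpr_gt (f455206 IH) (Lpr_dt (f446426 IH) (Lpqs (f457382 IH) (Lpe (f451227 IH) (Lpr_df (f451231 IH) (Lpr_gf (f455943 IH) (Lpe (f455944 IH) (Lpe (f455945 IH) (Lpr_cf (f457399 IH) (Lpn (LP (LK LD1_c1 LD2_c38 LD3_c57))))))))))))))).symm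
theorem f457407 : Led Lsl_gt (LP (LK LD1_c1 LD2_c38 LD3_c57)) = (LP (LK LD1_c0 LD2_c50 LD3_c14)) :=
  Leop (Lpr_gf (f457109 IH) (Lpqs (f457406 IH) (Lpn (LP (LK LD1_c1 LD2_c38 LD3_c57)))))
theorem seed_52 : LEOK LG_g (LK LD1_c1 LD2_c38 LD3_c57) :=
  Leoe_g (LK LD1_c1 LD2_c38 LD3_c57) (f457407 IH)
theorem f11197 : Led Lsl_ct (LP (LK LD1_c0 LD2_c10 LD3_c50)) = (LP (LK LD1_c0 LD2_c24 LD3_c21)) :=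
  Lre_c IH (LK LD1_c0 LD2_c10 LD3_c50) (LK LD1_c0 LD2_c24 LD3_c21) Lrfl Lrfl
theorem f448769 : Led Lsl_bt (LP (LK LD1_c0 LD2_c10 LD3_c50)) = (LP (LK LD1_c0 LD2_c24 LD3_c20)) :=
  Lre_b IH (LK LD1_c0 LD2_c10 LD3_c50) (LK LD1_c0 LD2_c24 LD3_c20) Lrfl Lrfl
theorem f11356 : Led Lsl_gt (LP (LK LD1_c0 LD2_c24 LD3_c20)) = (LP (LK LD1_c0 LD2_c54 LD3_c4)) :=
  Lre_g IH (LK LD1_c0 LD2_c24 LD3_c20) (LK LD1_c0 LD2_c54 LD3_c4) Lrfl Lrfl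
theorem f451281 : Led Lsl_ct (LP (LK LD1_c0 LD2_c54 LD3_c4)) = (LP (LK LD1_c1 LD2_c54 LD3_c47)) :=
  Lre_c IH (LK LD1_c0 LD2_c54 LD3_c4) (LK LD1_c1 LD2_c54 LD3_c47) Lrfl Lrfl
def v238 : LQ := Led Lsl_gf (LP (LK LD1_c0 LD2_c24 LD3_c21))
theorem f451280 : Led Lsl_gf (LP (LK LD1_c0 LD2_c24 LD3_c21)) = v238 :=
  Lrfl
def v104 : LQ := Led Lsl_gt (LP (LK LD1_c0 LD2_c10 LD3_c53))
theorem f448777 : Led Lsl_gt (LP (LK LD1_c0 LD2_c10 LD3_c53)) = v104 :=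
  Lrfl
def v316 : LQ := Led Lsl_ct v104
theorem f452124 : Led Lsl_ct v104 = v316 :=
  Lrfl
theorem f452125 : Led Lsl_cf v104 = v316 :=
  Lgr Lrot11 (Lpr_ct (f452124 IH) (Lpn v316))
def v645 : LQ := Led Lsl_ft (LP (LK LD1_c0 LD2_c47 LD3_c42))
theorem f455739 : Led Lsl_ft (LP (LK LD1_c0 LD2_c47 LD3_c42)) = v645 :=
  Lrfl
theorem f455741 : Led Lsl_ff (LP (LK LD1_c0 LD2_c47 LD3_c42)) = v645 :=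
  Lgr Lrot3 (Lpr_ft (f455739 IH) (Lpn v645))
def v636 : LQ := Led Lsl_et (LP (LK LD1_c0 LD2_c47 LD3_c40))
theorem f455665 : Led Lsl_et (LP (LK LD1_c0 LD2_c47 LD3_c40)) = v636 :=
  Lrfl
theorem f455667 : Led Lsl_ef (LP (LK LD1_c0 LD2_c47 LD3_c40)) = v636 :=
  Lgr Lrot88 (Lpr_et (f455665 IH) (Lpn v636))
theorem f446539 : Led Lsl_ct (LP (LK LD1_c0 LD2_c47 LD3_c40)) = (LP (LK LD1_c0 LD2_c21 LD3_c18)) :=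
  Lre_c IH (LK LD1_c0 LD2_c47 LD3_c40) (LK LD1_c0 LD2_c21 LD3_c18) Lrfl Lrfl
theorem f455668 : Led Lsl_ct (LP (LK LD1_c0 LD2_c47 LD3_c42)) = v636 :=
  Lgr Lrot15 (Lpe (f12134 IH) (Lpe (f446539 IH) (Lpr_ef (f455667 IH) (Lpn v636))))
def v145 : LQ := Led Lsl_gt (LP (LK LD1_c0 LD2_c21 LD3_c21))
theorem f450726 : Led Lsl_gt (LP (LK LD1_c0 LD2_c21 LD3_c21)) = v145 :=
  Lrfl
theorem f11066 : Led Lsl_et (LP (LK LD1_c0 LD2_c9 LD3_c39)) = (LP (LK LD1_c0 LD2_c21 LD3_c21)) :=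
  Lre_e IH (LK LD1_c0 LD2_c9 LD3_c39) (LK LD1_c0 LD2_c21 LD3_c21) Lrfl Lrfl
theorem f11192 : Led Lsl_dt (LP (LK LD1_c0 LD2_c5 LD3_c2)) = (LP (LK LD1_c0 LD2_c9 LD3_c38)) :=
  Lre_d IH (LK LD1_c0 LD2_c5 LD3_c2) (LK LD1_c0 LD2_c9 LD3_c38) Lrfl Lrfl
theorem f12715 : Led Lsl_dt (LP (LK LD1_c0 LD2_c47 LD3_c45)) = (LP (LK LD1_c0 LD2_c21 LD3_c19)) :=
  Lre_d IH (LK LD1_c0 LD2_c47 LD3_c45) (LK LD1_c0 LD2_c21 LD3_c19) Lrfl Lrfl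
theorem f450729 : Led Lsl_et (LP (LK LD1_c0 LD2_c47 LD3_c45)) = v145 :=
  Lgr Lrot122 (Lpr_dt (f12715 IH) (Lpr_gt (f12714 IH) (Lpe (f11192 IH) (Lpr_et (K0.f11230 IH) (Lpr_gt (K0.f11511 IH) (Lpr_dt (K0.f12699 IH) (Lpe (K0.f12684 IH) (Lpe (K0.f175 IH) (Lpr_et (f11066 IH) (Lpr_gt (f450726 IH) (Lpn v145)))))))))))
theorem f450731 : Led Lsl_ef (LP (LK LD1_c0 LD2_c47 LD3_c45)) = v145 :=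
  Lgr Lrot88 (Lpr_et (f450729 IH) (Lpn v145))
def v633 : LQ := Led Lsl_gt (LP (LK LD1_c0 LD2_c47 LD3_c40))
theorem f455644 : Led Lsl_gt (LP (LK LD1_c0 LD2_c47 LD3_c40)) = v633 :=
  Lrfl
theorem f15744 : Led Lsl_at (LP (LK LD1_c0 LD2_c45 LD3_c52)) = (LP (LK LD1_c0 LD2_c45 LD3_c52)) :=
  Lgr Lrot51 (Lpe (f15725 IH) (Lpr_af (K0.f15737 IH) (Lpe (f15729 IH) (Lpn (LP (LK LD1_c0 LD2_c45 LD3_c52))))))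
theorem f18561 : Led Lsl_af (LP (LK LD1_c0 LD2_c47 LD3_c47)) = (LP (LK LD1_c0 LD2_c47 LD3_c47)) :=
  Lgr Lrot68 (Lpr_ct (K2.f18556 IH) (Lpr_at (f15744 IH) (Lpe (K2.f18545 IH) (Lpn (LP (LK LD1_c0 LD2_c47 LD3_c47))))))
theorem f450727 : Led Lsl_gf (LP (LK LD1_c0 LD2_c47 LD3_c47)) = v145 :=
  Lgr Lrot76 (Lpr_af (f18561 IH) (Lpe (K2.f18564 IH) (Lpr_gt (f450726 IH) (Lpn v145))))
def v577 : LQ := Led Lsl_ct (LP (LK LD1_c0 LD2_c45 LD3_c51))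
theorem f454966 : Led Lsl_ct (LP (LK LD1_c0 LD2_c45 LD3_c51)) = v577 :=
  Lrfl
def v576 : LQ := Led Lsl_ft (LP (LK LD1_c0 LD2_c45 LD3_c50))
theorem f454962 : Led Lsl_ft (LP (LK LD1_c0 LD2_c45 LD3_c50)) = v576 :=
  Lrfl
theorem f454964 : Led Lsl_ff (LP (LK LD1_c0 LD2_c45 LD3_c50)) = v576 :=
  Lgr Lrot3 (Lpr_ft (f454962 IH) (Lpn v576))
def v575 : LQ := Led Lsl_ct (LP (LK LD1_c0 LD2_c45 LD3_c50))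
theorem f454960 : Led Lsl_ct (LP (LK LD1_c0 LD2_c45 LD3_c50)) = v575 :=
  Lrfl
theorem f457405 : v575 = (LP (LK LD1_c0 LD2_c47 LD3_c36)) :=
  (Llr Lrot15 (Lpe (f454960 IH) (Lpe (f11039 IH) (Lpr_cf (f457399 IH) (Lpr_ef (f446424 IH) (Lpn (LP (LK LD1_c0 LD2_c47 LD3_c36)))))))).symm
def v626 : LQ := Led Lsl_ft (LP (LK LD1_c0 LD2_c47 LD3_c36))
theorem f455600 : Led Lsl_ft (LP (LK LD1_c0 LD2_c47 LD3_c36)) = v626 :=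
  Lrfl
theorem f457412 : Led Lsl_cf v576 = v626 :=
  Lgr Lrot108 (Lpe (f454964 IH) (Lpr_ct (f454960 IH) (Lpqs (f457405 IH) (Lpr_ft (f455600 IH) (Lpn v626)))))
def v574 : LQ := Led Lsl_at (LP (LK LD1_c0 LD2_c45 LD3_c50))
theorem f454954 : Led Lsl_at (LP (LK LD1_c0 LD2_c45 LD3_c50)) = v574 :=
  Lrfl
theorem f454955 : Led Lsl_af (LP (LK LD1_c0 LD2_c45 LD3_c50)) = v574 :=
  Lgr Lrot0 (Lpr_at (f454954 IH) (Lpn v574))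
theorem f454957 : Led Lsl_ft (LP (LK LD1_c0 LD2_c45 LD3_c51)) = v574 :=
  Lgr Lrot2 (Lpr_gt (f15782 IH) (Lpr_gt (f11034 IH) (Lpr_af (f454955 IH) (Lpn v574))))
theorem f454963 : Led Lsl_af (LP (LK LD1_c0 LD2_c45 LD3_c51)) = v576 :=
  Lgr Lrot45 (Lpr_ft (f454957 IH) (Lpe (f454955 IH) (Lpr_ft (f454962 IH) (Lpn v576))))
theorem f455602 : Led Lsl_ff (LP (LK LD1_c0 LD2_c47 LD3_c36)) = v626 :=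
  Lgr Lrot3 (Lpr_ft (f455600 IH) (Lpn v626))
def v624 : LQ := Led Lsl_at (LP (LK LD1_c0 LD2_c47 LD3_c36))
theorem f455592 : Led Lsl_at (LP (LK LD1_c0 LD2_c47 LD3_c36)) = v624 :=
  Lrfl
theorem f455593 : Led Lsl_af (LP (LK LD1_c0 LD2_c47 LD3_c36)) = v624 :=
  Lgr Lrot0 (Lpr_at (f455592 IH) (Lpn v624))
theorem f446507 : Led Lsl_gt (LP (LK LD1_c0 LD2_c47 LD3_c37)) = (LP (LK LD1_c0 LD2_c21 LD3_c17)) :=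
  Lre_g IH (LK LD1_c0 LD2_c47 LD3_c37) (LK LD1_c0 LD2_c21 LD3_c17) Lrfl Lrfl
theorem f455594 : Led Lsl_ft (LP (LK LD1_c0 LD2_c47 LD3_c37)) = v624 :=
  Lgr Lrot2 (Lpr_gt (f446507 IH) (Lpr_gt (f12136 IH) (Lpr_af (f455593 IH) (Lpn v624))))
theorem f455595 : Led Lsl_ff (LP (LK LD1_c0 LD2_c47 LD3_c37)) = v624 :=
  Lgr Lrot3 (Lpr_ft (f455594 IH) (Lpn v624))
theorem f455603 : Led Lsl_at (LP (LK LD1_c0 LD2_c47 LD3_c37)) = v626 :=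
  Lgr Lrot66 (Lpr_ff (f455595 IH) (Lpe (f455592 IH) (Lpr_ff (f455602 IH) (Lpn v626))))
theorem f457414 : v577 = (LP (LK LD1_c0 LD2_c47 LD3_c37)) :=
  (Llr Lrot111 (Lpe (f454966 IH) (Lpr_af (f454963 IH) (Lpr_cf (f457412 IH) (Lpe (f455603 IH) (Lpn (LP (LK LD1_c0 LD2_c47 LD3_c37)))))))).symm
theorem f11193 : Led Lsl_ct (LP (LK LD1_c0 LD2_c9 LD3_c38)) = (LP (LK LD1_c0 LD2_c21 LD3_c17)) :=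
  Lre_c IH (LK LD1_c0 LD2_c9 LD3_c38) (LK LD1_c0 LD2_c21 LD3_c17) Lrfl Lrfl
theorem f18777 : Led Lsl_bt (LP (LK LD1_c0 LD2_c9 LD3_c38)) = (LP (LK LD1_c0 LD2_c21 LD3_c13)) :=
  Lre_b IH (LK LD1_c0 LD2_c9 LD3_c38) (LK LD1_c0 LD2_c21 LD3_c13) Lrfl Lrfl
theorem f18824 : Led Lsl_bt (LP (LK LD1_c1 LD2_c41 LD3_c55)) = (LP (LK LD1_c0 LD2_c47 LD3_c28)) :=
  Lre_b IH (LK LD1_c1 LD2_c41 LD3_c55) (LK LD1_c0 LD2_c47 LD3_c28) Lrfl Lrfl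
theorem f18825 : Led Lsl_ct (LP (LK LD1_c1 LD2_c41 LD3_c55)) = (LP (LK LD1_c3 LD2_c30 LD3_c37)) :=
  Lre_c IH (LK LD1_c1 LD2_c41 LD3_c55) (LK LD1_c3 LD2_c30 LD3_c37) Lrfl Lrfl
theorem f457475 : Led Lsl_gt (LP (LK LD1_c3 LD2_c30 LD3_c37)) = (LP (LK LD1_c3 LD2_c24 LD3_c48)) :=
  Lgr Lrot65 (Lpe (f18825 IH) (Lpr_bt (f18824 IH) (Lpe (K5.f87981 IH) (Lpe (f18777 IH) (Lpr_ct (f11193 IH) (Lpe (f446507 IH) (Lpq (f457414 IH) (Lpe (f454966 IH) (Lpr_gf (f15783 IH) (Lpe (K2.f15786 IH) (Lpr_ct (K2.f15789 IH) (Lpn (LP (LK LD1_c3 LD2_c24 LD3_c48))))))))))))))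
theorem f18981 : Led Lsl_at (LP (LK LD1_c6 LD2_c51 LD3_c37)) = (LP (LK LD1_c3 LD2_c24 LD3_c48)) :=
  Lre_a IH (LK LD1_c6 LD2_c51 LD3_c37) (LK LD1_c3 LD2_c24 LD3_c48) Lrfl Lrfl
theorem f19133 : Led Lsl_ft (LP (LK LD1_c3 LD2_c24 LD3_c29)) = (LP (LK LD1_c6 LD2_c51 LD3_c37)) :=
  Lre_f IH (LK LD1_c3 LD2_c24 LD3_c29) (LK LD1_c6 LD2_c51 LD3_c37) Lrfl Lrfl
theorem f457477 : Led Lsl_gf (LP (LK LD1_c3 LD2_c30 LD3_c37)) = (LP (LK LD1_c3 LD2_c24 LD3_c29)) :=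
  Lgr Lrot47 (Lpr_gt (f457475 IH) (Lpe (f18981 IH) (Lpe (f19133 IH) (Lpn (LP (LK LD1_c3 LD2_c24 LD3_c29))))))
theorem f18823 : Led Lsl_gt (LP (LK LD1_c0 LD2_c47 LD3_c28)) = (LP (LK LD1_c1 LD2_c41 LD3_c20)) :=
  Lre_g IH (LK LD1_c0 LD2_c47 LD3_c28) (LK LD1_c1 LD2_c41 LD3_c20) Lrfl Lrfl
theorem f18804 : Led Lsl_ct (LP (LK LD1_c1 LD2_c41 LD3_c20)) = (LP (LK LD1_c3 LD2_c29 LD3_c9)) :=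
  Lre_c IH (LK LD1_c1 LD2_c41 LD3_c20) (LK LD1_c3 LD2_c29 LD3_c9) Lrfl Lrfl
theorem f18821 : Led Lsl_gt (LP (LK LD1_c3 LD2_c29 LD3_c9)) = (LP (LK LD1_c1 LD2_c41 LD3_c51)) :=
  Lre_g IH (LK LD1_c3 LD2_c29 LD3_c9) (LK LD1_c1 LD2_c41 LD3_c51) Lrfl Lrfl
theorem f18822 : Led Lsl_ct (LP (LK LD1_c3 LD2_c30 LD3_c24)) = (LP (LK LD1_c1 LD2_c41 LD3_c51)) :=
  Lre_c IH (LK LD1_c3 LD2_c30 LD3_c24) (LK LD1_c1 LD2_c41 LD3_c51) Lrfl Lrfl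
theorem f15795 : Led Lsl_ct (LP (LK LD1_c1 LD2_c38 LD3_c41)) = (LP (LK LD1_c3 LD2_c24 LD3_c29)) :=
  Lre_c IH (LK LD1_c1 LD2_c38 LD3_c41) (LK LD1_c3 LD2_c24 LD3_c29) Lrfl Lrfl
theorem f15809 : Led Lsl_gt (LP (LK LD1_c3 LD2_c24 LD3_c31)) = (LP (LK LD1_c1 LD2_c38 LD3_c41)) :=
  Lre_g IH (LK LD1_c3 LD2_c24 LD3_c31) (LK LD1_c1 LD2_c38 LD3_c41) Lrfl Lrfl
theorem f457638 : Led Lsl_bt (LP (LK LD1_c3 LD2_c30 LD3_c24)) = (LP (LK LD1_c3 LD2_c24 LD3_c31)) :=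
  Lgr Lrot22 (Lpr_ct (f18822 IH) (Lpe (f18821 IH) (Lpe (f18804 IH) (Lpe (f18823 IH) (Lpe (f18824 IH) (Lpr_ct (f18825 IH) (Lpr_gf (f457477 IH) (Lpe (f15795 IH) (Lpr_bt (K2.f15779 IH) (Lpe (f15809 IH) (Lpn (LP (LK LD1_c3 LD2_c24 LD3_c31)))))))))))))
theorem f64272 : Led Lsl_gt (LP (LK LD1_c1 LD2_c41 LD3_c51)) = (LP (LK LD1_c0 LD2_c47 LD3_c26)) :=
  Lre_g IH (LK LD1_c1 LD2_c41 LD3_c51) (LK LD1_c0 LD2_c47 LD3_c26) Lrfl Lrfl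
theorem f64988 : Led Lsl_ct (LP (LK LD1_c0 LD2_c21 LD3_c13)) = (LP (LK LD1_c0 LD2_c47 LD3_c26)) :=
  Lre_c IH (LK LD1_c0 LD2_c21 LD3_c13) (LK LD1_c0 LD2_c47 LD3_c26) Lrfl Lrfl
theorem f18776 : Led Lsl_bt (LP (LK LD1_c0 LD2_c21 LD3_c13)) = (LP (LK LD1_c0 LD2_c9 LD3_c38)) :=
  Lre_b IH (LK LD1_c0 LD2_c21 LD3_c13) (LK LD1_c0 LD2_c9 LD3_c38) Lrfl Lrfl
theorem f446537 : Led Lsl_ct (LP (LK LD1_c0 LD2_c21 LD3_c18)) = (LP (LK LD1_c0 LD2_c47 LD3_c40)) :=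
  Lre_c IH (LK LD1_c0 LD2_c21 LD3_c18) (LK LD1_c0 LD2_c47 LD3_c40) Lrfl Lrfl
theorem f17290 : Led Lsl_gt (LP (LK LD1_c1 LD2_c38 LD3_c52)) = (LP (LK LD1_c3 LD2_c24 LD3_c31)) :=
  Lre_g IH (LK LD1_c1 LD2_c38 LD3_c52) (LK LD1_c3 LD2_c24 LD3_c31) Lrfl Lrfl
theorem f15814 : Led Lsl_bt (LP (LK LD1_c0 LD2_c45 LD3_c52)) = (LP (LK LD1_c1 LD2_c38 LD3_c52)) :=
  Lre_b IH (LK LD1_c0 LD2_c45 LD3_c52) (LK LD1_c1 LD2_c38 LD3_c52) Lrfl Lrfl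
theorem f457657 : v633 = (LP (LK LD1_c0 LD2_c47 LD3_c47)) :=
  (Llr Lrot149 (Lpe (f455644 IH) (Lpe (f446537 IH) (Lpe (f12121 IH) (Lpe (f18776 IH) (Lpr_ct (f64988 IH) (Lpe (f64272 IH) (Lpe (f18822 IH) (Lpr_bt (f457638 IH) (Lpe (f17290 IH) (Lpe (f15814 IH) (Lpe (K2.f18545 IH) (Lpn (LP (LK LD1_c0 LD2_c47 LD3_c47))))))))))))))).symm
theorem f457660 : (LP (LK LD1_c0 LD2_c47 LD3_c40)) = v145 :=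
  Lefun (Lecon (Lfl_gt (f455644 IH)) (f457657 IH)) (f450727 IH)
theorem f457665 : (LP (LK LD1_c0 LD2_c47 LD3_c45)) = v636 :=
  Lefun (Lecon (Lfl_ef (f450731 IH)) (f457660 IH).symm) (f455665 IH)
theorem f457671 : Led Lsl_cf v645 = v639 :=
  Lgr Lrot108 (Lpe (f455741 IH) (Lpr_ct (f455668 IH) (Lpq (f457665 IH) (Lpr_ft (f455700 IH) (Lpn v639)))))
theorem f457673 : Led Lsl_ct v645 = v639 :=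
  Lgr Lrot59 (Lpr_cf (f457671 IH) (Lpn v639))
theorem f12139 : Led Lsl_ct (LP (LK LD1_c0 LD2_c47 LD3_c41)) = (LP (LK LD1_c1 LD2_c42 LD3_c23)) :=
  Lre_c IH (LK LD1_c0 LD2_c47 LD3_c41) (LK LD1_c1 LD2_c42 LD3_c23) Lrfl Lrfl
theorem f457674 : Led Lsl_af v645 = (LP (LK LD1_c1 LD2_c42 LD3_c23)) :=
  Lgr Lrot68 (Lpr_ct (f457673 IH) (Lpe (f455696 IH) (Lpr_ct (f12139 IH) (Lpn (LP (LK LD1_c1 LD2_c42 LD3_c23))))))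
def v644 : LQ := Led Lsl_at (LP (LK LD1_c0 LD2_c47 LD3_c42))
theorem f455733 : Led Lsl_at (LP (LK LD1_c0 LD2_c47 LD3_c42)) = v644 :=
  Lrfl
theorem f457675 : Led Lsl_ft v644 = (LP (LK LD1_c1 LD2_c42 LD3_c23)) :=
  Lgr Lrot101 (Lpe (f455733 IH) (Lpr_ff (f455741 IH) (Lpr_af (f457674 IH) (Lpn (LP (LK LD1_c1 LD2_c42 LD3_c23))))))
theorem f457678 : Led Lsl_ff v644 = (LP (LK LD1_c1 LD2_c42 LD3_c23)) :=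
  Lgr Lrot3 (Lpr_ft (f457675 IH) (Lpn (LP (LK LD1_c1 LD2_c42 LD3_c23))))
theorem f455734 : Led Lsl_af (LP (LK LD1_c0 LD2_c47 LD3_c42)) = v644 :=
  Lgr Lrot0 (Lpr_at (f455733 IH) (Lpn v644))
def v643 : LQ := Led Lsl_gf (LP (LK LD1_c0 LD2_c47 LD3_c42))
theorem f455731 : Led Lsl_gf (LP (LK LD1_c0 LD2_c47 LD3_c42)) = v643 :=
  Lrfl
theorem f457681 : Led Lsl_gf v643 = (LP (LK LD1_c1 LD2_c42 LD3_c23)) :=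
  Lgr Lrot47 (Lpe (f455731 IH) (Lpr_af (f455734 IH) (Lpr_ff (f457678 IH) (Lpn (LP (LK LD1_c1 LD2_c42 LD3_c23))))))
theorem f457123 : Led Lsl_gt (LP (LK LD1_c1 LD2_c45 LD3_c55)) = v760 :=
  Lgr Lrot5 (Lpr_ft (f457120 IH) (Lpe (f457111 IH) (Lpr_gf (f457109 IH) (Lpn v760))))
theorem f15673 : Led Lsl_ct (LP (LK LD1_c0 LD2_c23 LD3_c58)) = (LP (LK LD1_c0 LD2_c53 LD3_c4)) :=
  Lre_c IH (LK LD1_c0 LD2_c23 LD3_c58) (LK LD1_c0 LD2_c53 LD3_c4) Lrfl Lrfl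
theorem f11150 : Led Lsl_bt (LP (LK LD1_c0 LD2_c10 LD3_c53)) = (LP (LK LD1_c0 LD2_c23 LD3_c58)) :=
  Lre_b IH (LK LD1_c0 LD2_c10 LD3_c53) (LK LD1_c0 LD2_c23 LD3_c58) Lrfl Lrfl
theorem f15674 : Led Lsl_ct (LP (LK LD1_c0 LD2_c46 LD3_c38)) = (LP (LK LD1_c0 LD2_c20 LD3_c56)) :=
  Lre_c IH (LK LD1_c0 LD2_c46 LD3_c38) (LK LD1_c0 LD2_c20 LD3_c56) Lrfl Lrfl
theorem f15676 : Led Lsl_cf (LP (LK LD1_c0 LD2_c10 LD3_c53)) = (LP (LK LD1_c0 LD2_c9 LD3_c30)) :=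
  Lgr Lrot97 (Lpr_bt (f11150 IH) (Lpr_ct (f15673 IH) (Lpr_bt (K0.f15624 IH) (Lpr_ct (f15674 IH) (Lpr_bt (K0.f15675 IH) (Lpn (LP (LK LD1_c0 LD2_c9 LD3_c30))))))))
def v257 : LQ := Led Lsl_gf (LP (LK LD1_c0 LD2_c24 LD3_c28))
theorem f451391 : Led Lsl_gf (LP (LK LD1_c0 LD2_c24 LD3_c28)) = v257 :=
  Lrfl
theorem f11156 : Led Lsl_et (LP (LK LD1_c0 LD2_c10 LD3_c53)) = (LP (LK LD1_c0 LD2_c5 LD3_c3)) :=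
  Lre_e IH (LK LD1_c0 LD2_c10 LD3_c53) (LK LD1_c0 LD2_c5 LD3_c3) Lrfl Lrfl
theorem f12122 : Led Lsl_et (LP (LK LD1_c0 LD2_c47 LD3_c42)) = (LP (LK LD1_c0 LD2_c21 LD3_c18)) :=
  Lre_e IH (LK LD1_c0 LD2_c47 LD3_c42) (LK LD1_c0 LD2_c21 LD3_c18) Lrfl Lrfl
theorem f451395 : Led Lsl_dt (LP (LK LD1_c0 LD2_c47 LD3_c42)) = v257 :=
  Lgr Lrot136 (Lpr_et (f12122 IH) (Lpe (f12121 IH) (Lpe (f11402 IH) (Lpr_dt (K0.f110 IH) (Lpe (K0.f12075 IH) (Lpr_df (K0.f12112 IH) (Lpr_gf (K0.f11259 IH) (Lpe (f11156 IH) (Lpr_dt (K0.f11146 IH) (Lpr_gf (f451391 IH) (Lpn v257)))))))))))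
theorem f457423 : Led Lsl_cf (LP (LK LD1_c1 LD2_c45 LD3_c55)) = v643 :=
  Lgr Lrot166 (Lpr_gt (f457123 IH) (Lpqs (f457406 IH) (Lpr_dt (f15792 IH) (Lpr_gt (f15782 IH) (Lpr_dt (K2.f11057 IH) (Lpe (f15676 IH) (Lpe (K0.f11147 IH) (Lpr_gf (f451391 IH) (Lpe (f451395 IH) (Lpr_gf (f455731 IH) (Lpn v643)))))))))))
theorem f451164 : Led Lsl_et (LP (LK LD1_c0 LD2_c24 LD3_c4)) = (LP (LK LD1_c0 LD2_c53 LD3_c35)) :=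
  Lre_e IH (LK LD1_c0 LD2_c24 LD3_c4) (LK LD1_c0 LD2_c53 LD3_c35) Lrfl Lrfl
theorem f455982 : Led Lsl_cf (LP (LK LD1_c0 LD2_c49 LD3_c36)) = (LP (LK LD1_c0 LD2_c53 LD3_c35)) :=
  Lgr Lrot39 (Lpr_et (f10901 IH) (Lpr_ct (f450909 IH) (Lpqs (f455974 IH) (Lpr_et (f451164 IH) (Lpn (LP (LK LD1_c0 LD2_c53 LD3_c35)))))))
def v241 : LQ := Led Lsl_et (LP (LK LD1_c0 LD2_c24 LD3_c21))
theorem f451295 : Led Lsl_et (LP (LK LD1_c0 LD2_c24 LD3_c21)) = v241 :=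
  Lrfl
theorem f451297 : Led Lsl_ef (LP (LK LD1_c0 LD2_c24 LD3_c21)) = v241 :=
  Lgr Lrot88 (Lpr_et (f451295 IH) (Lpn v241))
theorem f11194 : Led Lsl_ct (LP (LK LD1_c0 LD2_c24 LD3_c21)) = (LP (LK LD1_c0 LD2_c10 LD3_c50)) :=
  Lre_c IH (LK LD1_c0 LD2_c24 LD3_c21) (LK LD1_c0 LD2_c10 LD3_c50) Lrfl Lrfl
theorem f451298 : Led Lsl_ct (LP (LK LD1_c0 LD2_c24 LD3_c23)) = v241 :=
  Lgr Lrot15 (Lpe (K11.f11323 IH) (Lpe (f11194 IH) (Lpr_ef (f451297 IH) (Lpn v241))))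
theorem f457684 : Led Lsl_gf (LP (LK LD1_c0 LD2_c53 LD3_c35)) = v241 :=
  Lgr Lrot104 (Lpe (f455982 IH) (Lpe (f11040 IH) (Lpr_cf (f457423 IH) (Lpr_gf (f457681 IH) (Lpe (f12139 IH) (Lpr_gf (f455683 IH) (Lpq (f455957 IH) (Lpe (f452065 IH) (Lpr_gt (K11.f451342 IH) (Lpr_ct (f451298 IH) (Lpn v241)))))))))))
theorem f451590 : K11.v245 = (LP (LK LD1_c0 LD2_c24 LD3_c22)) :=
  (Llr Lrot50 (Lpe (K11.f451312 IH) (Lpr_et (K11.f451327 IH) (Lpr_at (K11.f451587 IH) (Lpe (K11.f451329 IH) (Lpn (LP (LK LD1_c0 LD2_c24 LD3_c22)))))))).symm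
def v246 : LQ := Led Lsl_ct (LP (LK LD1_c0 LD2_c24 LD3_c22))
theorem f451321 : Led Lsl_ct (LP (LK LD1_c0 LD2_c24 LD3_c22)) = v246 :=
  Lrfl
theorem f451322 : Led Lsl_cf (LP (LK LD1_c0 LD2_c24 LD3_c22)) = v246 :=
  Lgr Lrot11 (Lpr_ct (f451321 IH) (Lpn v246))
theorem f452062 : Led Lsl_ff v246 = v241 :=
  Lgr Lrot23 (Lpe (f451322 IH) (Lpq (f451590 IH) (Lpe (K11.f451317 IH) (Lpr_ct (f451298 IH) (Lpn v241)))))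
theorem f452063 : Led Lsl_ft v246 = v241 :=
  Lgr Lrot48 (Lpr_ff (f452062 IH) (Lpn v241))
def v239 : LQ := Led Lsl_at (LP (LK LD1_c0 LD2_c24 LD3_c21))
theorem f451282 : Led Lsl_at (LP (LK LD1_c0 LD2_c24 LD3_c21)) = v239 :=
  Lrfl
theorem f451284 : Led Lsl_cf K11.v102 = v239 :=
  Lgr Lrot1 (Lpe (K11.f448767 IH) (Lpr_ct (f11197 IH) (Lpr_at (f451282 IH) (Lpn v239))))
theorem f451285 : Led Lsl_ct K11.v102 = v239 :=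
  Lgr Lrot59 (Lpr_cf (f451284 IH) (Lpn v239))
theorem f451595 : K11.v102 = (LP (LK LD1_c0 LD2_c10 LD3_c50)) :=
  Lefun (Lecon (Lfl_df (K11.f451314 IH)) (f451590 IH)) (K11.f4475 IH)
theorem f451609 : v239 = (LP (LK LD1_c0 LD2_c24 LD3_c21)) :=
  Lefun (Lecon (f451285 IH) (f451595 IH)) (f11197 IH)
theorem f452008 : Led Lsl_af v241 = v241 :=
  Lgr Lrot50 (Lpe (f451297 IH) (Lpr_at (f451282 IH) (Lpqs (f451609 IH) (Lpr_et (f451295 IH) (Lpn v241)))))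
theorem f452064 : Led Lsl_af v246 = v246 :=
  Lgr Lrot45 (Lpr_ft (f452063 IH) (Lpe (f452008 IH) (Lpe (f452062 IH) (Lpn v246))))
theorem f457685 : Led Lsl_gt (LP (LK LD1_c0 LD2_c53 LD3_c35)) = v246 :=
  Lgr Lrot46 (Lpr_gf (f457684 IH) (Lpe (f452062 IH) (Lpe (f452064 IH) (Lpn v246))))
theorem f455986 : Led Lsl_ct (LP (LK LD1_c0 LD2_c49 LD3_c36)) = (LP (LK LD1_c0 LD2_c53 LD3_c35)) :=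
  Lgr Lrot59 (Lpr_cf (f455982 IH) (Lpn (LP (LK LD1_c0 LD2_c53 LD3_c35))))
theorem f457686 : v316 = (LP (LK LD1_c0 LD2_c10 LD3_c50)) :=
  (Llr Lrot110 (Lpe (f452124 IH) (Lpe (f448777 IH) (Lpr_cf (f15676 IH) (Lpe (f11058 IH) (Lpe (f446426 IH) (Lpq (f457131 IH) (Lpe (f456921 IH) (Lpr_ct (f455986 IH) (Lpr_gt (f457685 IH) (Lpe (f451322 IH) (Lpe (K11.f11199 IH) (Lpn (LP (LK LD1_c0 LD2_c10 LD3_c50))))))))))))))).symm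
theorem f457687 : v104 = (LP (LK LD1_c0 LD2_c24 LD3_c21)) :=
  Lefun (Lecon (Lfl_cf (f452125 IH)) (f457686 IH)) (f11197 IH)
theorem f457690 : (LP (LK LD1_c0 LD2_c10 LD3_c53)) = v238 :=
  Lefun (Lecon (Lfl_gt (f448777 IH)) (f457687 IH)) (f451280 IH)
theorem f16742 : Led Lsl_gt (LP (LK LD1_c0 LD2_c46 LD3_c40)) = (LP (LK LD1_c0 LD2_c20 LD3_c56)) :=
  Lre_g IH (LK LD1_c0 LD2_c46 LD3_c40) (LK LD1_c0 LD2_c20 LD3_c56) Lrfl Lrfl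
theorem f16721 : Led Lsl_bt (LP (LK LD1_c1 LD2_c40 LD3_c26)) = (LP (LK LD1_c0 LD2_c46 LD3_c40)) :=
  Lre_b IH (LK LD1_c1 LD2_c40 LD3_c26) (LK LD1_c0 LD2_c46 LD3_c40) Lrfl Lrfl
theorem f16722 : Led Lsl_ct (LP (LK LD1_c1 LD2_c40 LD3_c26)) = (LP (LK LD1_c3 LD2_c27 LD3_c44)) :=
  Lre_c IH (LK LD1_c1 LD2_c40 LD3_c26) (LK LD1_c3 LD2_c27 LD3_c44) Lrfl Lrfl
theorem f457968 : Led Lsl_gt (LP (LK LD1_c1 LD2_c54 LD3_c47)) = (LP (LK LD1_c3 LD2_c27 LD3_c44)) :=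
  Lgr Lrot149 (Lpe (f451281 IH) (Lpe (f11356 IH) (Lpe (f448769 IH) (Lpr_ct (f11197 IH) (Lpr_gf (f451280 IH) (Lpq (f457690 IH) (Lpr_cf (f15676 IH) (Lpr_bt (K0.f15763 IH) (Lpe (f16742 IH) (Lpe (f16721 IH) (Lpr_ct (f16722 IH) (Lpn (LP (LK LD1_c3 LD2_c27 LD3_c44))))))))))))))
theorem f11382 : Led Lsl_dt (LP (LK LD1_c0 LD2_c24 LD3_c20)) = (LP (LK LD1_c0 LD2_c54 LD3_c7)) :=
  Lre_d IH (LK LD1_c0 LD2_c24 LD3_c20) (LK LD1_c0 LD2_c54 LD3_c7) Lrfl Lrfl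
theorem f451253 : Led Lsl_gt (LP (LK LD1_c0 LD2_c54 LD3_c7)) = (LP (LK LD1_c1 LD2_c54 LD3_c55)) :=
  Lre_g IH (LK LD1_c0 LD2_c54 LD3_c7) (LK LD1_c1 LD2_c54 LD3_c55) Lrfl Lrfl
theorem f451326 : Led Lsl_ct (LP (LK LD1_c1 LD2_c54 LD3_c55)) = (LP (LK LD1_c3 LD2_c56 LD3_c24)) :=
  Lre_c IH (LK LD1_c1 LD2_c54 LD3_c55) (LK LD1_c3 LD2_c56 LD3_c24) Lrfl Lrfl
theorem f19072 : Led Lsl_ct (LP (LK LD1_c3 LD2_c27 LD3_c44)) = (LP (LK LD1_c1 LD2_c40 LD3_c26)) :=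
  Lre_c IH (LK LD1_c3 LD2_c27 LD3_c44) (LK LD1_c1 LD2_c40 LD3_c26) Lrfl Lrfl
theorem f98811 : Led Lsl_dt (LP (LK LD1_c3 LD2_c27 LD3_c45)) = (LP (LK LD1_c1 LD2_c40 LD3_c26)) :=
  Lre_d IH (LK LD1_c3 LD2_c27 LD3_c45) (LK LD1_c1 LD2_c40 LD3_c26) Lrfl Lrfl
theorem f98807 : Led Lsl_ct (LP (LK LD1_c6 LD2_c57 LD3_c44)) = (LP (LK LD1_c3 LD2_c27 LD3_c45)) :=
  Lre_c IH (LK LD1_c6 LD2_c57 LD3_c44) (LK LD1_c3 LD2_c27 LD3_c45) Lrfl Lrfl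
theorem f458174 : Led Lsl_gt (LP (LK LD1_c3 LD2_c56 LD3_c24)) = (LP (LK LD1_c6 LD2_c57 LD3_c44)) :=
  Lgr Lrot150 (Lpe (f451326 IH) (Lpe (f451253 IH) (Lpe (f11382 IH) (Lpr_gt (f11356 IH) (Lpr_ct (f451281 IH) (Lpr_gt (f457968 IH) (Lpr_ct (f19072 IH) (Lpe (f98811 IH) (Lpe (f98807 IH) (Lpn (LP (LK LD1_c6 LD2_c57 LD3_c44))))))))))))
theorem f451319 : Led Lsl_bt (LP (LK LD1_c0 LD2_c24 LD3_c22)) = (LP (LK LD1_c0 LD2_c54 LD3_c7)) :=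
  Lre_b IH (LK LD1_c0 LD2_c24 LD3_c22) (LK LD1_c0 LD2_c54 LD3_c7) Lrfl Lrfl
theorem f455984 : Led Lsl_bt (LP (LK LD1_c0 LD2_c49 LD3_c36)) = (LP (LK LD1_c1 LD2_c45 LD3_c54)) :=
  Lre_b IH (LK LD1_c0 LD2_c49 LD3_c36) (LK LD1_c1 LD2_c45 LD3_c54) Lrfl Lrfl
theorem f98817 : Led Lsl_ct (LP (LK LD1_c3 LD2_c27 LD3_c45)) = (LP (LK LD1_c6 LD2_c57 LD3_c44)) :=
  Lre_c IH (LK LD1_c3 LD2_c27 LD3_c45) (LK LD1_c6 LD2_c57 LD3_c44) Lrfl Lrfl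
theorem f98713 : Led Lsl_bt (LP (LK LD1_c3 LD2_c27 LD3_c45)) = (LP (LK LD1_c1 LD2_c40 LD3_c28)) :=
  Lre_b IH (LK LD1_c3 LD2_c27 LD3_c45) (LK LD1_c1 LD2_c40 LD3_c28) Lrfl Lrfl
theorem f458189 : Led Lsl_gf (LP (LK LD1_c1 LD2_c45 LD3_c54)) = (LP (LK LD1_c1 LD2_c40 LD3_c28)) :=
  Lgr Lrot124 (Lpe (f455984 IH) (Lpr_ct (f455986 IH) (Lpr_gt (f457685 IH) (Lpe (f451321 IH) (Lpr_bt (f451319 IH) (Lpr_gt (f451253 IH) (Lpr_ct (f451326 IH) (Lpr_gt (f458174 IH) (Lpe (f98817 IH) (Lpr_bt (f98713 IH) (Lpn (LP (LK LD1_c1 LD2_c40 LD3_c28)))))))))))))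
theorem f458190 : Led Lsl_gt (LP (LK LD1_c1 LD2_c40 LD3_c28)) = (LP (LK LD1_c1 LD2_c45 LD3_c54)) :=
  Leop (Lpr_gf (f458189 IH) (Lpn (LP (LK LD1_c1 LD2_c40 LD3_c28))))
theorem seed_53 : LEOK LG_g (LK LD1_c1 LD2_c40 LD3_c28) :=
  Leoe_g (LK LD1_c1 LD2_c40 LD3_c28) (f458190 IH)
theorem f455702 : Led Lsl_gt (LP (LK LD1_c0 LD2_c47 LD3_c45)) = v638 :=
  Lgr Lrot5 (Lpr_ft (f455700 IH) (Lpe (f455696 IH) (Lpr_gf (f455683 IH) (Lpn v638))))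
theorem f455684 : Led Lsl_ct (LP (LK LD1_c0 LD2_c49 LD3_c59)) = v638 :=
  Lgr Lrot8 (Lpr_gt (f450781 IH) (Lpe (f455193 IH) (Lpr_gt (f14942 IH) (Lpr_dt (f11191 IH) (Lpe (K0.f11177 IH) (Lpe (f11182 IH) (Lpe (f446535 IH) (Lpe (f446538 IH) (Lpr_gf (f455683 IH) (Lpn v638))))))))))
theorem f455686 : Led Lsl_bt (LP (LK LD1_c0 LD2_c49 LD3_c59)) = (LP (LK LD1_c1 LD2_c46 LD3_c32)) :=
  Lre_b IH (LK LD1_c0 LD2_c49 LD3_c59) (LK LD1_c1 LD2_c46 LD3_c32) Lrfl Lrfl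
theorem f455691 : Led Lsl_gt (LP (LK LD1_c1 LD2_c46 LD3_c32)) = (LP (LK LD1_c3 LD2_c39 LD3_c10)) :=
  Lre_g IH (LK LD1_c1 LD2_c46 LD3_c32) (LK LD1_c3 LD2_c39 LD3_c10) Lrfl Lrfl
theorem f455693 : Led Lsl_ct (LP (LK LD1_c3 LD2_c39 LD3_c10)) = (LP (LK LD1_c7 LD2_c18 LD3_c44)) :=
  Lre_c IH (LK LD1_c3 LD2_c39 LD3_c10) (LK LD1_c7 LD2_c18 LD3_c44) Lrfl Lrfl
theorem f451398 : Led Lsl_bt (LP (LK LD1_c0 LD2_c47 LD3_c42)) = (LP (LK LD1_c1 LD2_c42 LD3_c19)) :=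
  Lre_b IH (LK LD1_c0 LD2_c47 LD3_c42) (LK LD1_c1 LD2_c42 LD3_c19) Lrfl Lrfl
theorem f455672 : Led Lsl_gt (LP (LK LD1_c3 LD2_c31 LD3_c33)) = (LP (LK LD1_c1 LD2_c42 LD3_c19)) :=
  Lre_g IH (LK LD1_c3 LD2_c31 LD3_c33) (LK LD1_c1 LD2_c42 LD3_c19) Lrfl Lrfl
theorem f455673 : Led Lsl_bt (LP (LK LD1_c7 LD2_c4 LD3_c47)) = (LP (LK LD1_c3 LD2_c31 LD3_c33)) :=
  Lre_b IH (LK LD1_c7 LD2_c4 LD3_c47) (LK LD1_c3 LD2_c31 LD3_c33) Lrfl Lrfl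
theorem f455674 : Led Lsl_ct (LP (LK LD1_c7 LD2_c4 LD3_c47)) = (LP (LK LD1_c13 LD2_c25 LD3_c17)) :=
  Lre_c IH (LK LD1_c7 LD2_c4 LD3_c47) (LK LD1_c13 LD2_c25 LD3_c17) Lrfl Lrfl
theorem f458334 : Led Lsl_gt (LP (LK LD1_c7 LD2_c18 LD3_c44)) = (LP (LK LD1_c13 LD2_c25 LD3_c17)) :=
  Lgr Lrot149 (Lpe (f455693 IH) (Lpe (f455691 IH) (Lpe (f455686 IH) (Lpr_ct (f455684 IH) (Lpe (f455702 IH) (Lpqs (f457665 IH) (Lpe (f455668 IH) (Lpr_bt (f451398 IH) (Lpe (f455672 IH) (Lpe (f455673 IH) (Lpr_ct (f455674 IH) (Lpn (LP (LK LD1_c13 LD2_c25 LD3_c17))))))))))))))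
theorem f458335 : Led Lsl_gt (LP (LK LD1_c7 LD2_c18 LD3_c44)) = (LP (LK LD1_c13 LD2_c25 LD3_c17)) :=
  Leop (Lpe (f458334 IH) (Lpn (LP (LK LD1_c7 LD2_c18 LD3_c44))))
theorem seed_54 : LEOK LG_g (LK LD1_c7 LD2_c18 LD3_c44) :=
  Leoe_g (LK LD1_c7 LD2_c18 LD3_c44) (f458335 IH)
def v780 : LQ := Led Lsl_et (LP (LK LD1_c0 LD2_c50 LD3_c41))
theorem f458759 : Led Lsl_et (LP (LK LD1_c0 LD2_c50 LD3_c41)) = v780 :=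
  Lrfl
theorem f455973 : Led Lsl_ct v172 = v217 :=
  Lgr Lrot59 (Lpr_cf (f455972 IH) (Lpn v217))
theorem f457121 : Led Lsl_df v721 = v761 :=
  Lgr Lrot78 (Lpe (f456927 IH) (Lpr_dt (f10902 IH) (Lpr_ft (f457120 IH) (Lpn v761))))
theorem f457220 : v721 = v605 :=
  Lefun (Lecon (Lfl_df (f457121 IH)) (f457218 IH)) (f455164 IH)
theorem f457225 : (LP (LK LD1_c0 LD2_c49 LD3_c36)) = v720 :=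
  Lefun (Lecon (Lfl_ff (f456927 IH)) (f457220 IH)) (Lfl_ff (f457130 IH))
theorem f457227 : v172 = (LP (LK LD1_c0 LD2_c22 LD3_c14)) :=
  Lefun (Lecon (Lfl_ef (f456924 IH)) (f457225 IH).symm) (f10901 IH)
theorem f457230 : v217 = v173 :=
  Lefun (Lecon (f455973 IH) (f457227 IH)) (f450909 IH)
theorem f12713 : Led Lsl_et (LP (LK LD1_c0 LD2_c53 LD3_c35)) = (LP (LK LD1_c0 LD2_c24 LD3_c4)) :=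
  Lre_e IH (LK LD1_c0 LD2_c53 LD3_c35) (LK LD1_c0 LD2_c24 LD3_c4) Lrfl Lrfl
theorem f458762 : Led Lsl_ff (LP (LK LD1_c0 LD2_c53 LD3_c35)) = v780 :=
  Lgr Lrot72 (Lpr_et (f12713 IH) (Lpq (f455974 IH) (Lpq (f457230 IH) (Lpe (f451169 IH) (Lpr_et (f451017 IH) (Lpr_ft (f457192 IH) (Lpqs (f457203 IH) (Lpr_et (f458759 IH) (Lpn v780)))))))))
theorem f457364 : Led Lsl_af (LP (LK LD1_c0 LD2_c53 LD3_c35)) = (LP (LK LD1_c0 LD2_c53 LD3_c35)) :=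
  Lgr Lrot50 (Lpr_et (f12713 IH) (Lpr_at (f451170 IH) (Lpqs (f457230 IH) (Lpqs (f455974 IH) (Lpr_et (f451164 IH) (Lpn (LP (LK LD1_c0 LD2_c53 LD3_c35))))))))
theorem f458765 : Led Lsl_gf v241 = v780 :=
  Lgr Lrot47 (Lpe (f457684 IH) (Lpr_af (f457364 IH) (Lpr_ff (f458762 IH) (Lpn v780))))
theorem f458766 : Led Lsl_gt v246 = v780 :=
  Lgr Lrot5 (Lpr_ft (f452063 IH) (Lpe (f452008 IH) (Lpr_gf (f458765 IH) (Lpn v780))))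
def v244 : LQ := Led Lsl_gf (LP (LK LD1_c0 LD2_c24 LD3_c22))
theorem f451308 : Led Lsl_gf (LP (LK LD1_c0 LD2_c24 LD3_c22)) = v244 :=
  Lrfl
theorem f458760 : Led Lsl_cf v605 = v780 :=
  Lgr Lrot39 (Lpr_et (f457199 IH) (Lpe (f457195 IH) (Lpr_et (f458759 IH) (Lpn v780))))
theorem f456269 : Led Lsl_cf (LP (LK LD1_c0 LD2_c50 LD3_c14)) = (LP (LK LD1_c0 LD2_c50 LD3_c44)) :=
  Lgr Lrot39 (Lpr_et (f446505 IH) (Lpr_ct (f450983 IH) (Lpqs (f456262 IH) (Lpr_et (f451004 IH) (Lpn (LP (LK LD1_c0 LD2_c50 LD3_c44)))))))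
theorem f455666 : Led Lsl_cf (LP (LK LD1_c0 LD2_c47 LD3_c42)) = v636 :=
  Lgr Lrot39 (Lpr_et (f12122 IH) (Lpr_ct (f446537 IH) (Lpr_et (f455665 IH) (Lpn v636))))
theorem f12124 : Led Lsl_gt (LP (LK LD1_c0 LD2_c24 LD3_c9)) = (LP (LK LD1_c0 LD2_c10 LD3_c47)) :=
  Lre_g IH (LK LD1_c0 LD2_c24 LD3_c9) (LK LD1_c0 LD2_c10 LD3_c47) Lrfl Lrfl
theorem f12125 : Led Lsl_et (LP (LK LD1_c0 LD2_c53 LD3_c47)) = (LP (LK LD1_c0 LD2_c24 LD3_c9)) :=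
  Lre_e IH (LK LD1_c0 LD2_c53 LD3_c47) (LK LD1_c0 LD2_c24 LD3_c9) Lrfl Lrfl
theorem f12128 : Led Lsl_dt (LP (LK LD1_c0 LD2_c53 LD3_c47)) = (LP (LK LD1_c1 LD2_c42 LD3_c22)) :=
  Lgr Lrot56 (Lpr_et (f12125 IH) (Lpr_gt (f12124 IH) (Lpe (K6.f12123 IH) (Lpe (K0.f12112 IH) (Lpr_gt (K0.f12075 IH) (Lpe (K0.f110 IH) (Lpr_et (f11402 IH) (Lpr_gt (f12121 IH) (Lpr_dt (f12126 IH) (Lpr_gt (f12127 IH) (Lpn (LP (LK LD1_c1 LD2_c42 LD3_c22)))))))))))))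
theorem f458768 : v244 = (LP (LK LD1_c0 LD2_c53 LD3_c47)) :=
  (Llr Lrot147 (Lpe (f451308 IH) (Lpr_ct (f451321 IH) (Lpr_gt (f458766 IH) (Lpe (f458760 IH) (Lpe (f455164 IH) (Lpr_cf (f456269 IH) (Lpqs (f456452 IH) (Lpe (f455728 IH) (Lpr_cf (f455666 IH) (Lpq (f457665 IH) (Lpe (f455719 IH) (Lpe (f12128 IH) (Lpn (LP (LK LD1_c0 LD2_c53 LD3_c47)))))))))))))))).symm
theorem f458769 : Led Lsl_gt (LP (LK LD1_c0 LD2_c53 LD3_c47)) = (LP (LK LD1_c0 LD2_c24 LD3_c22)) :=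
  Leop (Lpr_gf (f451308 IH) (Lpqs (f458768 IH) (Lpn (LP (LK LD1_c0 LD2_c53 LD3_c47)))))
theorem seed_55 : LEOK LG_g (LK LD1_c0 LD2_c53 LD3_c47) :=
  Leoe_g (LK LD1_c0 LD2_c53 LD3_c47) (f458769 IH)
theorem f12131 : Led Lsl_df (LP (LK LD1_c0 LD2_c53 LD3_c47)) = (LP (LK LD1_c1 LD2_c42 LD3_c22)) :=
  Lgr Lrot38 (Lpr_dt (f12128 IH) (Lpn (LP (LK LD1_c1 LD2_c42 LD3_c22))))
def v651 : LQ := Led Lsl_gt (LP (LK LD1_c0 LD2_c47 LD3_c46))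
theorem f455787 : Led Lsl_gt (LP (LK LD1_c0 LD2_c47 LD3_c46)) = v651 :=
  Lrfl
theorem f450719 : Led Lsl_et (LP (LK LD1_c0 LD2_c21 LD3_c19)) = (LP (LK LD1_c0 LD2_c47 LD3_c46)) :=
  Lre_e IH (LK LD1_c0 LD2_c21 LD3_c19) (LK LD1_c0 LD2_c47 LD3_c46) Lrfl Lrfl
theorem f12187 : Led Lsl_cf (LP (LK LD1_c0 LD2_c10 LD3_c45)) = (LP (LK LD1_c0 LD2_c10 LD3_c47)) :=
  Lgr Lrot39 (Lpr_et (K6.f12186 IH) (Lpr_ct (K0.f12149 IH) (Lpr_et (K6.f12123 IH) (Lpn (LP (LK LD1_c0 LD2_c10 LD3_c47))))))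
theorem f122766 : Led Lsl_ct (LP (LK LD1_c0 LD2_c24 LD3_c8)) = (LP (LK LD1_c0 LD2_c53 LD3_c41)) :=
  Lre_c IH (LK LD1_c0 LD2_c24 LD3_c8) (LK LD1_c0 LD2_c53 LD3_c41) Lrfl Lrfl
theorem f122767 : Led Lsl_bt (LP (LK LD1_c0 LD2_c10 LD3_c47)) = (LP (LK LD1_c0 LD2_c24 LD3_c8)) :=
  Lre_b IH (LK LD1_c0 LD2_c10 LD3_c47) (LK LD1_c0 LD2_c24 LD3_c8) Lrfl Lrfl
theorem f122768 : Led Lsl_ct (LP (LK LD1_c0 LD2_c53 LD3_c28)) = (LP (LK LD1_c0 LD2_c24 LD3_c2)) :=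
  Lre_c IH (LK LD1_c0 LD2_c53 LD3_c28) (LK LD1_c0 LD2_c24 LD3_c2) Lrfl Lrfl
theorem f122769 : Led Lsl_bt (LP (LK LD1_c0 LD2_c24 LD3_c2)) = (LP (LK LD1_c0 LD2_c10 LD3_c45)) :=
  Lre_b IH (LK LD1_c0 LD2_c24 LD3_c2) (LK LD1_c0 LD2_c10 LD3_c45) Lrfl Lrfl
theorem f122770 : Led Lsl_cf (LP (LK LD1_c0 LD2_c10 LD3_c47)) = (LP (LK LD1_c0 LD2_c10 LD3_c45)) :=
  Lgr Lrot97 (Lpr_bt (f122767 IH) (Lpr_ct (f122766 IH) (Lpr_bt (K6.f122756 IH) (Lpr_ct (f122768 IH) (Lpr_bt (f122769 IH) (Lpn (LP (LK LD1_c0 LD2_c10 LD3_c45))))))))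
theorem f145376 : Led Lsl_af (LP (LK LD1_c0 LD2_c10 LD3_c47)) = (LP (LK LD1_c0 LD2_c10 LD3_c47)) :=
  Lgr Lrot68 (Lpe (f12187 IH) (Lpr_at (K6.f145370 IH) (Lpe (f122770 IH) (Lpn (LP (LK LD1_c0 LD2_c10 LD3_c47))))))
theorem f437663 : Led Lsl_gf (LP (LK LD1_c0 LD2_c24 LD3_c9)) = (LP (LK LD1_c0 LD2_c24 LD3_c11)) :=
  Lgr Lrot47 (Lpr_gt (f12124 IH) (Lpr_af (f145376 IH) (Lpe (K6.f123370 IH) (Lpn (LP (LK LD1_c0 LD2_c24 LD3_c11))))))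
def v307 : LQ := Led Lsl_gt v100
theorem f452095 : Led Lsl_gt v100 = v307 :=
  Lrfl
theorem f451178 : Led Lsl_ft v100 = v220 :=
  Lgr Lrot48 (Lpr_ff (f451177 IH) (Lpn v220))
theorem f451179 : Led Lsl_af v220 = v220 :=
  Lgr Lrot45 (Lpe (f451177 IH) (Lpe (f448763 IH) (Lpr_ft (f451178 IH) (Lpn v220))))
theorem f452096 : Led Lsl_gf v220 = v307 :=
  Lgr Lrot76 (Lpr_af (f451179 IH) (Lpe (f451178 IH) (Lpr_gt (f452095 IH) (Lpn v307))))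
theorem f455790 : Led Lsl_df v307 = v651 :=
  Lgr Lrot135 (Lpe (f452096 IH) (Lpe (f451175 IH) (Lpe (K6.f145353 IH) (Lpe (f437663 IH) (Lpe (f12125 IH) (Lpr_dt (f12128 IH) (Lpr_gt (f455719 IH) (Lpe (f446516 IH) (Lpr_et (f450719 IH) (Lpr_gt (f455787 IH) (Lpn v651)))))))))))
theorem f12163 : Led Lsl_gt (LP (LK LD1_c0 LD2_c20 LD3_c41)) = (LP (LK LD1_c0 LD2_c21 LD3_c58)) :=
  Lgr Lrot49 (Lpe (K6.f12120 IH) (Lpr_gf (K0.f12157 IH) (Lpe (K0.f7416 IH) (Lpr_gt (K0.f10001 IH) (Lpr_dt (K0.f9950 IH) (Lpr_gt (K0.f4928 IH) (Lpr_dt (K0.f9989 IH) (Lpe (K7.f9959 IH) (Lpe (K11.f9997 IH) (Lpn (LP (LK LD1_c0 LD2_c21 LD3_c58))))))))))))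
theorem f12179 : Led Lsl_dt (LP (LK LD1_c0 LD2_c24 LD3_c10)) = (LP (LK LD1_c0 LD2_c10 LD3_c47)) :=
  Lre_d IH (LK LD1_c0 LD2_c24 LD3_c10) (LK LD1_c0 LD2_c10 LD3_c47) Lrfl Lrfl
def v223 : LQ := Led Lsl_dt (LP (LK LD1_c0 LD2_c24 LD3_c9))
theorem f451188 : Led Lsl_dt (LP (LK LD1_c0 LD2_c24 LD3_c9)) = v223 :=
  Lrfl
theorem f451189 : Led Lsl_df (LP (LK LD1_c0 LD2_c24 LD3_c9)) = v223 :=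
  Lgr Lrot38 (Lpr_dt (f451188 IH) (Lpn v223))
theorem f452097 : Led Lsl_et v223 = v307 :=
  Lgr Lrot122 (Lpe (f451189 IH) (Lpr_gt (f12124 IH) (Lpe (f12179 IH) (Lpe (K6.f12147 IH) (Lpr_gt (f12163 IH) (Lpr_dt (K11.f9997 IH) (Lpr_gt (K7.f12736 IH) (Lpe (K7.f12718 IH) (Lpr_et (f448762 IH) (Lpr_gt (f452095 IH) (Lpn v307)))))))))))
theorem f452098 : Led Lsl_ef v223 = v307 :=
  Lgr Lrot88 (Lpr_et (f452097 IH) (Lpn v307))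
theorem f12133 : Led Lsl_et (LP (LK LD1_c0 LD2_c24 LD3_c9)) = (LP (LK LD1_c0 LD2_c53 LD3_c47)) :=
  Lre_e IH (LK LD1_c0 LD2_c24 LD3_c9) (LK LD1_c0 LD2_c53 LD3_c47) Lrfl Lrfl
theorem f455792 : Led Lsl_et (LP (LK LD1_c1 LD2_c42 LD3_c22)) = v651 :=
  Lgr Lrot71 (Lpe (f12128 IH) (Lpe (f12133 IH) (Lpr_df (f451189 IH) (Lpr_ef (f452098 IH) (Lpr_df (f455790 IH) (Lpn v651))))))
theorem f451318 : Led Lsl_gt (LP (LK LD1_c0 LD2_c24 LD3_c23)) = v244 :=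
  Lgr Lrot5 (Lpr_ft (K11.f451316 IH) (Lpe (K11.f451312 IH) (Lpr_gf (f451308 IH) (Lpn v244))))
theorem f11234 : Led Lsl_gt (LP (LK LD1_c0 LD2_c10 LD3_c52)) = (LP (LK LD1_c0 LD2_c10 LD3_c51)) :=
  Lgr Lrot5 (Lpr_ft (K0.f11185 IH) (Lpr_at (K0.f11187 IH) (Lpe (K11.f11233 IH) (Lpn (LP (LK LD1_c0 LD2_c10 LD3_c51))))))
def v256 : LQ := Led Lsl_dt (LP (LK LD1_c0 LD2_c24 LD3_c27))
theorem f451378 : Led Lsl_dt (LP (LK LD1_c0 LD2_c24 LD3_c27)) = v256 :=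
  Lrfl
theorem f451381 : Led Lsl_ff (LP (LK LD1_c0 LD2_c24 LD3_c28)) = v256 :=
  Lgr Lrot19 (Lpr_dt (K0.f11147 IH) (Lpr_ft (K0.f11157 IH) (Lpr_dt (f451378 IH) (Lpn v256))))
theorem f451384 : Led Lsl_ft (LP (LK LD1_c0 LD2_c24 LD3_c28)) = v256 :=
  Lgr Lrot48 (Lpr_ff (f451381 IH) (Lpn v256))
theorem f446400 : Led Lsl_gt (LP (LK LD1_c0 LD2_c24 LD3_c28)) = (LP (LK LD1_c0 LD2_c54 LD3_c15)) :=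
  Lre_g IH (LK LD1_c0 LD2_c24 LD3_c28) (LK LD1_c0 LD2_c54 LD3_c15) Lrfl Lrfl
theorem f451385 : Led Lsl_af v256 = v256 :=
  Lgr Lrot45 (Lpe (f451381 IH) (Lpr_at (K0.f11124 IH) (Lpr_ft (f451384 IH) (Lpn v256))))
theorem f451386 : Led Lsl_gt (LP (LK LD1_c0 LD2_c54 LD3_c15)) = v256 :=
  Lgr Lrot46 (Lpe (f446400 IH) (Lpr_ft (f451384 IH) (Lpe (f451385 IH) (Lpn v256))))
theorem f9888 : Led Lsl_et (LP (LK LD1_c0 LD2_c5 LD3_c3)) = (LP (LK LD1_c0 LD2_c10 LD3_c53)) :=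
  Lre_e IH (LK LD1_c0 LD2_c5 LD3_c3) (LK LD1_c0 LD2_c10 LD3_c53) Lrfl Lrfl
theorem f9889 : Led Lsl_cf (LP (LK LD1_c0 LD2_c9 LD3_c30)) = (LP (LK LD1_c0 LD2_c10 LD3_c53)) :=
  Lgr Lrot39 (Lpr_et (f9887 IH) (Lpr_ct (K0.f9875 IH) (Lpr_et (f9888 IH) (Lpn (LP (LK LD1_c0 LD2_c10 LD3_c53))))))
theorem f457422 : Led Lsl_ct (LP (LK LD1_c1 LD2_c45 LD3_c55)) = v643 :=
  Lgr Lrot8 (Lpr_gt (f457123 IH) (Lpqs (f457406 IH) (Lpr_dt (f15792 IH) (Lpr_gt (f15782 IH) (Lpr_dt (K2.f11057 IH) (Lpr_cf (f9889 IH) (Lpe (K0.f11147 IH) (Lpr_gf (f451391 IH) (Lpe (f451395 IH) (Lpr_gf (f455731 IH) (Lpn v643)))))))))))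
theorem f457424 : Led Lsl_at v643 = v643 :=
  Lgr Lrot107 (Lpe (f457422 IH) (Lpqs (f457221 IH) (Lpe (f457117 IH) (Lpr_cf (f457423 IH) (Lpn v643)))))
theorem f456275 : Led Lsl_ct (LP (LK LD1_c0 LD2_c50 LD3_c14)) = (LP (LK LD1_c0 LD2_c50 LD3_c44)) :=
  Lgr Lrot59 (Lpr_cf (f456269 IH) (Lpn (LP (LK LD1_c0 LD2_c50 LD3_c44))))
theorem f457425 : Led Lsl_ft (LP (LK LD1_c0 LD2_c50 LD3_c44)) = v643 :=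
  Lgr Lrot4 (Lpe (f456275 IH) (Lpq (f457218 IH) (Lpe (f457120 IH) (Lpr_cf (f457423 IH) (Lpn v643)))))
theorem f457682 : Led Lsl_gt (LP (LK LD1_c0 LD2_c50 LD3_c44)) = (LP (LK LD1_c1 LD2_c42 LD3_c23)) :=
  Lgr Lrot5 (Lpr_ft (f457425 IH) (Lpr_at (f457424 IH) (Lpr_gf (f457681 IH) (Lpn (LP (LK LD1_c1 LD2_c42 LD3_c23))))))
theorem f457704 : Led Lsl_dt (LP (LK LD1_c1 LD2_c42 LD3_c23)) = (LP (LK LD1_c0 LD2_c54 LD3_c15)) :=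
  Lgr Lrot171 (Lpe (f457682 IH) (Lpe (f451004 IH) (Lpr_dt (f451013 IH) (Lpr_gf (f451330 IH) (Lpe (K11.f451331 IH) (Lpr_et (K11.f11248 IH) (Lpe (f11234 IH) (Lpe (K0.f11168 IH) (Lpr_dt (f451378 IH) (Lpe (f451386 IH) (Lpn (LP (LK LD1_c0 LD2_c54 LD3_c15)))))))))))))
theorem f455736 : Led Lsl_ef v143 = v644 :=
  Lgr Lrot20 (Lpe (f450711 IH) (Lpr_et (f12134 IH) (Lpr_at (f455733 IH) (Lpn v644))))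
theorem f455737 : Led Lsl_et v143 = v644 :=
  Lgr Lrot87 (Lpr_ef (f455736 IH) (Lpn v644))
def v654 : LQ := Led Lsl_ft (LP (LK LD1_c0 LD2_c47 LD3_c46))
theorem f455802 : Led Lsl_ft (LP (LK LD1_c0 LD2_c47 LD3_c46)) = v654 :=
  Lrfl
theorem f455803 : Led Lsl_ff (LP (LK LD1_c0 LD2_c47 LD3_c46)) = v654 :=
  Lgr Lrot3 (Lpr_ft (f455802 IH) (Lpn v654))
theorem f457677 : Led Lsl_ef v654 = (LP (LK LD1_c1 LD2_c42 LD3_c23)) :=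
  Lgr Lrot21 (Lpe (f455803 IH) (Lpr_et (f446401 IH) (Lpr_ft (f450715 IH) (Lpr_et (f455737 IH) (Lpr_ft (f457675 IH) (Lpn (LP (LK LD1_c1 LD2_c42 LD3_c23))))))))
theorem f458771 : Led Lsl_gt v651 = v654 :=
  Lgr Lrot131 (Lpe (f455792 IH) (Lpe (f12131 IH) (Lpq (f458768 IH) (Lpe (f451318 IH) (Lpe (K11.f11320 IH) (Lpe (f11234 IH) (Lpe (K0.f11168 IH) (Lpr_dt (f451378 IH) (Lpe (f451386 IH) (Lpe (f457704 IH) (Lpe (f457677 IH) (Lpn v654))))))))))))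
theorem f458772 : Led Lsl_at v654 = v654 :=
  Lgr Lrot26 (Lpe (f455802 IH) (Lpr_gt (f455787 IH) (Lpr_gt (f458771 IH) (Lpn v654))))
theorem f12138 : Led Lsl_ct (LP (LK LD1_c1 LD2_c42 LD3_c23)) = (LP (LK LD1_c0 LD2_c47 LD3_c41)) :=
  Lre_c IH (LK LD1_c1 LD2_c42 LD3_c23) (LK LD1_c0 LD2_c47 LD3_c41) Lrfl Lrfl
theorem f457672 : Led Lsl_at v645 = (LP (LK LD1_c1 LD2_c42 LD3_c23)) :=
  Lgr Lrot107 (Lpr_cf (f457671 IH) (Lpe (f455695 IH) (Lpe (f12138 IH) (Lpn (LP (LK LD1_c1 LD2_c42 LD3_c23))))))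
theorem f457680 : Led Lsl_et v654 = (LP (LK LD1_c1 LD2_c42 LD3_c23)) :=
  Lgr Lrot69 (Lpe (f455802 IH) (Lpe (f450719 IH) (Lpr_ff (f450717 IH) (Lpr_ef (f455736 IH) (Lpr_ff (f457678 IH) (Lpn (LP (LK LD1_c1 LD2_c42 LD3_c23))))))))
theorem f458774 : v645 = (LP (LK LD1_c1 LD2_c42 LD3_c23)) :=
  (Llr Lrot50 (Lpr_at (f457672 IH) (Lpe (f457677 IH) (Lpr_at (f458772 IH) (Lpr_et (f457680 IH) (Lpn (LP (LK LD1_c1 LD2_c42 LD3_c23)))))))).symm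
theorem f451396 : Led Lsl_bt (LP (LK LD1_c1 LD2_c42 LD3_c19)) = (LP (LK LD1_c0 LD2_c47 LD3_c42)) :=
  Lre_b IH (LK LD1_c1 LD2_c42 LD3_c19) (LK LD1_c0 LD2_c47 LD3_c42) Lrfl Lrfl
theorem f455635 : Led Lsl_ft (LP (LK LD1_c3 LD2_c31 LD3_c34)) = (LP (LK LD1_c1 LD2_c42 LD3_c19)) :=
  Lre_f IH (LK LD1_c3 LD2_c31 LD3_c34) (LK LD1_c1 LD2_c42 LD3_c19) Lrfl Lrfl
theorem f455740 : Led Lsl_bf (LP (LK LD1_c3 LD2_c31 LD3_c34)) = v645 :=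
  Lgr Lrot61 (Lpr_ft (f455635 IH) (Lpr_bt (f451396 IH) (Lpr_ft (f455739 IH) (Lpn v645))))
theorem f458775 : Led Lsl_bt (LP (LK LD1_c1 LD2_c42 LD3_c23)) = (LP (LK LD1_c3 LD2_c31 LD3_c34)) :=
  Leop (Lpr_bf (f455740 IH) (Lpqs (f458774 IH) (Lpn (LP (LK LD1_c1 LD2_c42 LD3_c23)))))
theorem seed_56 : LEOK LG_b (LK LD1_c1 LD2_c42 LD3_c23) :=
  Leoe_b (LK LD1_c1 LD2_c42 LD3_c23) (f458775 IH)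
def v611 : LQ := Led Lsl_ct (LP (LK LD1_c0 LD2_c46 LD3_c47))
theorem f455482 : Led Lsl_ct (LP (LK LD1_c0 LD2_c46 LD3_c47)) = v611 :=
  Lrfl
def v608 : LQ := Led Lsl_ct (LP (LK LD1_c0 LD2_c46 LD3_c46))
theorem f455180 : Led Lsl_ct (LP (LK LD1_c0 LD2_c46 LD3_c46)) = v608 :=
  Lrfl
theorem f455181 : Led Lsl_cf (LP (LK LD1_c0 LD2_c46 LD3_c46)) = v608 :=
  Lgr Lrot11 (Lpr_ct (f455180 IH) (Lpn v608))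
theorem f455485 : Led Lsl_ff v608 = v611 :=
  Lgr Lrot23 (Lpe (f455181 IH) (Lpq (f455222 IH) (Lpe (f455176 IH) (Lpr_ct (f455482 IH) (Lpn v611)))))
theorem f455486 : Led Lsl_ft v608 = v611 :=
  Lgr Lrot48 (Lpr_ff (f455485 IH) (Lpn v611))
theorem f455479 : Led Lsl_af v608 = v608 :=
  Lgr Lrot68 (Lpe (f455181 IH) (Lpr_at (f455170 IH) (Lpqs (f455222 IH) (Lpr_ct (f455180 IH) (Lpn v608)))))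
theorem f455487 : Led Lsl_af v611 = v611 :=
  Lgr Lrot45 (Lpe (f455485 IH) (Lpe (f455479 IH) (Lpr_ft (f455486 IH) (Lpn v611))))
theorem f455484 : Led Lsl_ef v139 = v611 :=
  Lgr Lrot28 (Lpe (f450691 IH) (Lpr_et (f446434 IH) (Lpr_ct (f455482 IH) (Lpn v611))))
theorem f455476 : Led Lsl_ft v139 = v141 :=
  Lgr Lrot48 (Lpr_ff (f455475 IH) (Lpn v141))
theorem f455478 : Led Lsl_at v139 = v139 :=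
  Lgr Lrot66 (Lpr_ff (f455475 IH) (Lpr_af (f455477 IH) (Lpe (f455476 IH) (Lpn v139))))
theorem f455488 : Led Lsl_et v139 = v611 :=
  Lgr Lrot123 (Lpe (f455478 IH) (Lpr_ef (f455484 IH) (Lpr_af (f455487 IH) (Lpn v611))))
theorem f451210 : Led Lsl_et (LP (LK LD1_c0 LD2_c24 LD3_c16)) = (LP (LK LD1_c0 LD2_c54 LD3_c0)) :=
  Lre_e IH (LK LD1_c0 LD2_c24 LD3_c16) (LK LD1_c0 LD2_c54 LD3_c0) Lrfl Lrfl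
theorem f457393 : v611 = (LP (LK LD1_c0 LD2_c54 LD3_c0)) :=
  Lefun (Lecon (f455488 IH) ((f457385 IH).trans (f457386 IH).symm)) (f451210 IH)
def v222 : LQ := Led Lsl_ct (LP (LK LD1_c0 LD2_c24 LD3_c9))
theorem f451185 : Led Lsl_ct (LP (LK LD1_c0 LD2_c24 LD3_c9)) = v222 :=
  Lrfl
def v221 : LQ := Led Lsl_at (LP (LK LD1_c0 LD2_c24 LD3_c9))
theorem f451180 : Led Lsl_at (LP (LK LD1_c0 LD2_c24 LD3_c9)) = v221 :=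
  Lrfl
theorem f451181 : Led Lsl_af (LP (LK LD1_c0 LD2_c24 LD3_c9)) = v221 :=
  Lgr Lrot0 (Lpr_at (f451180 IH) (Lpn v221))
theorem f451183 : Led Lsl_ft v101 = v221 :=
  Lgr Lrot2 (Lpe (f448765 IH) (Lpe (f437663 IH) (Lpr_af (f451181 IH) (Lpn v221))))
theorem f451184 : Led Lsl_ff v101 = v221 :=
  Lgr Lrot3 (Lpr_ft (f451183 IH) (Lpn v221))
def v154 : LQ := Led Lsl_ft (LP (LK LD1_c0 LD2_c21 LD3_c46))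
theorem f450782 : Led Lsl_ft (LP (LK LD1_c0 LD2_c21 LD3_c46)) = v154 :=
  Lrfl
theorem f456042 : Led Lsl_cf v221 = v154 :=
  Lgr Lrot108 (Lpe (f451184 IH) (Lpr_ct (f452110 IH) (Lpqs (f456040 IH) (Lpr_ft (f450782 IH) (Lpn v154)))))
theorem f450784 : Led Lsl_ff (LP (LK LD1_c0 LD2_c21 LD3_c46)) = v154 :=
  Lgr Lrot3 (Lpr_ft (f450782 IH) (Lpn v154))
def v151 : LQ := Led Lsl_at (LP (LK LD1_c0 LD2_c21 LD3_c46))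
theorem f450766 : Led Lsl_at (LP (LK LD1_c0 LD2_c21 LD3_c46)) = v151 :=
  Lrfl
theorem f450767 : Led Lsl_af (LP (LK LD1_c0 LD2_c21 LD3_c46)) = v151 :=
  Lgr Lrot0 (Lpr_at (f450766 IH) (Lpn v151))
theorem f450769 : Led Lsl_ft (LP (LK LD1_c0 LD2_c21 LD3_c47)) = v151 :=
  Lgr Lrot2 (Lpr_gt (f5928 IH) (Lpr_gt (f5922 IH) (Lpr_af (f450767 IH) (Lpn v151))))
theorem f450770 : Led Lsl_ff (LP (LK LD1_c0 LD2_c21 LD3_c47)) = v151 :=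
  Lgr Lrot3 (Lpr_ft (f450769 IH) (Lpn v151))
theorem f450785 : Led Lsl_at (LP (LK LD1_c0 LD2_c21 LD3_c47)) = v154 :=
  Lgr Lrot66 (Lpr_ff (f450770 IH) (Lpe (f450766 IH) (Lpr_ff (f450784 IH) (Lpn v154))))
theorem f456044 : v222 = (LP (LK LD1_c0 LD2_c21 LD3_c47)) :=
  (Llr Lrot111 (Lpe (f451185 IH) (Lpr_af (f451181 IH) (Lpr_cf (f456042 IH) (Lpe (f450785 IH) (Lpn (LP (LK LD1_c0 LD2_c21 LD3_c47)))))))).symm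
theorem f450772 : Led Lsl_et (LP (LK LD1_c0 LD2_c21 LD3_c47)) = (LP (LK LD1_c0 LD2_c48 LD3_c43)) :=
  Lre_e IH (LK LD1_c0 LD2_c21 LD3_c47) (LK LD1_c0 LD2_c48 LD3_c43) Lrfl Lrfl
theorem f456050 : Led Lsl_cf (LP (LK LD1_c0 LD2_c53 LD3_c47)) = (LP (LK LD1_c0 LD2_c48 LD3_c43)) :=
  Lgr Lrot39 (Lpr_et (f12125 IH) (Lpr_ct (f451185 IH) (Lpqs (f456044 IH) (Lpr_et (f450772 IH) (Lpn (LP (LK LD1_c0 LD2_c48 LD3_c43)))))))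
theorem f456054 : Led Lsl_ct (LP (LK LD1_c0 LD2_c53 LD3_c47)) = (LP (LK LD1_c0 LD2_c48 LD3_c43)) :=
  Lgr Lrot59 (Lpr_cf (f456050 IH) (Lpn (LP (LK LD1_c0 LD2_c48 LD3_c43))))
def v683 : LQ := Led Lsl_gt (LP (LK LD1_c0 LD2_c48 LD3_c43))
theorem f456757 : Led Lsl_gt (LP (LK LD1_c0 LD2_c48 LD3_c43)) = v683 :=
  Lrfl
theorem f11224 : Led Lsl_ct (LP (LK LD1_c0 LD2_c5 LD3_c2)) = (LP (LK LD1_c0 LD2_c10 LD3_c49)) :=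
  Lre_c IH (LK LD1_c0 LD2_c5 LD3_c2) (LK LD1_c0 LD2_c10 LD3_c49) Lrfl Lrfl
def v227 : LQ := Led Lsl_ct (LP (LK LD1_c0 LD2_c24 LD3_c16))
theorem f451214 : Led Lsl_ct (LP (LK LD1_c0 LD2_c24 LD3_c16)) = v227 :=
  Lrfl
theorem f457390 : (LP (LK LD1_c0 LD2_c20 LD3_c58)) = v227 :=
  Lefun (Lecon (Lfl_cf (f450691 IH)) ((f457385 IH).trans (f457386 IH).symm)) (f451214 IH)
theorem f459342 : v683 = v608 :=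
  (Llr Lrot150 (Lpe (f456757 IH) (Lpe (f456054 IH) (Lpq (f458768 IH) (Lpe (f451318 IH) (Lpe (K11.f11320 IH) (Lpr_gt (K11.f11233 IH) (Lpr_ct (f11224 IH) (Lpr_gt (f11325 IH) (Lpr_ct (f451214 IH) (Lpq (f457390 IH) (Lpe (f15751 IH) (Lpr_cf (f455181 IH) (Lpn v608)))))))))))))).symm
def v684 : LQ := Led Lsl_gf (LP (LK LD1_c0 LD2_c48 LD3_c43))
theorem f456760 : Led Lsl_gf (LP (LK LD1_c0 LD2_c48 LD3_c43)) = v684 :=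
  Lrfl
theorem f459343 : v611 = v684 :=
  (Llr Lrot52 (Lpe (f455485 IH) (Lpe (f455479 IH) (Lpq (f459342 IH) (Lpe (f456757 IH) (Lpr_gf (f456760 IH) (Lpn v684))))))).symm
theorem f459344 : Led Lsl_gt (LP (LK LD1_c0 LD2_c54 LD3_c0)) = (LP (LK LD1_c0 LD2_c48 LD3_c43)) :=
  Leop (Lpr_gf (f456760 IH) (Lpq (f459343 IH) (Lpqs (f457393 IH) (Lpn (LP (LK LD1_c0 LD2_c54 LD3_c0))))))
theorem seed_57 : LEOK LG_g (LK LD1_c0 LD2_c54 LD3_c0) :=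
  Leoe_g (LK LD1_c0 LD2_c54 LD3_c0) (f459344 IH)
def v849 : LQ := Led Lsl_at (LP (LK LD1_c0 LD2_c52 LD3_c22))
theorem f459725 : Led Lsl_at (LP (LK LD1_c0 LD2_c52 LD3_c22)) = v849 :=
  Lrfl
theorem f459726 : Led Lsl_af (LP (LK LD1_c0 LD2_c52 LD3_c22)) = v849 :=
  Lgr Lrot0 (Lpr_at (f459725 IH) (Lpn v849))
theorem f129788 : Led Lsl_ct (LP (LK LD1_c1 LD2_c51 LD3_c0)) = (LP (LK LD1_c0 LD2_c52 LD3_c22)) :=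
  Lre_c IH (LK LD1_c1 LD2_c51 LD3_c0) (LK LD1_c0 LD2_c52 LD3_c22) Lrfl Lrfl
theorem f129854 : Led Lsl_dt (LP (LK LD1_c3 LD2_c48 LD3_c3)) = (LP (LK LD1_c1 LD2_c51 LD3_c0)) :=
  Lre_d IH (LK LD1_c3 LD2_c48 LD3_c3) (LK LD1_c1 LD2_c51 LD3_c0) Lrfl Lrfl
theorem f459728 : Led Lsl_ct (LP (LK LD1_c7 LD2_c37 LD3_c14)) = (LP (LK LD1_c3 LD2_c48 LD3_c3)) :=
  Lre_c IH (LK LD1_c7 LD2_c37 LD3_c14) (LK LD1_c3 LD2_c48 LD3_c3) Lrfl Lrfl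
theorem f85281 : Led Lsl_gt (LP (LK LD1_c0 LD2_c23 LD3_c42)) = (LP (LK LD1_c0 LD2_c52 LD3_c22)) :=
  Lre_g IH (LK LD1_c0 LD2_c23 LD3_c42) (LK LD1_c0 LD2_c52 LD3_c22) Lrfl Lrfl
theorem f459727 : Led Lsl_ft (LP (LK LD1_c0 LD2_c52 LD3_c23)) = v849 :=
  Lgr Lrot2 (Lpr_gt (K1.f62791 IH) (Lpr_gt (f85281 IH) (Lpr_af (f459726 IH) (Lpn v849))))
theorem f62783 : Led Lsl_dt (LP (LK LD1_c0 LD2_c52 LD3_c23)) = (LP (LK LD1_c0 LD2_c53 LD3_c8)) :=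
  Lgr Lrot42 (Lpr_df (K1.f62771 IH) (Lpn (LP (LK LD1_c0 LD2_c53 LD3_c8))))
theorem f63013 : Led Lsl_ct (LP (LK LD1_c0 LD2_c53 LD3_c8)) = (LP (LK LD1_c1 LD2_c53 LD3_c1)) :=
  Lre_c IH (LK LD1_c0 LD2_c53 LD3_c8) (LK LD1_c1 LD2_c53 LD3_c1) Lrfl Lrfl
theorem f63014 : Led Lsl_dt (LP (LK LD1_c1 LD2_c53 LD3_c1)) = (LP (LK LD1_c3 LD2_c52 LD3_c56)) :=
  Lre_d IH (LK LD1_c1 LD2_c53 LD3_c1) (LK LD1_c3 LD2_c52 LD3_c56) Lrfl Lrfl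
theorem f63015 : Led Lsl_ct (LP (LK LD1_c3 LD2_c52 LD3_c56)) = (LP (LK LD1_c7 LD2_c47 LD3_c42)) :=
  Lre_c IH (LK LD1_c3 LD2_c52 LD3_c56) (LK LD1_c7 LD2_c47 LD3_c42) Lrfl Lrfl
theorem f459729 : Led Lsl_df (LP (LK LD1_c7 LD2_c37 LD3_c14)) = (LP (LK LD1_c7 LD2_c47 LD3_c42)) :=
  Lgr Lrot13 (Lpr_ct (f459728 IH) (Lpr_dt (f129854 IH) (Lpr_ct (f129788 IH) (Lpr_af (f459726 IH) (Lpe (f459727 IH) (Lpr_dt (f62783 IH) (Lpr_ct (f63013 IH) (Lpr_dt (f63014 IH) (Lpr_ct (f63015 IH) (Lpn (LP (LK LD1_c7 LD2_c47 LD3_c42))))))))))))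
theorem f459730 : Led Lsl_dt (LP (LK LD1_c7 LD2_c47 LD3_c42)) = (LP (LK LD1_c7 LD2_c37 LD3_c14)) :=
  Leop (Lpr_df (f459729 IH) (Lpn (LP (LK LD1_c7 LD2_c47 LD3_c42))))
theorem seed_58 : LEOK LG_d (LK LD1_c7 LD2_c47 LD3_c42) :=
  Leoe_d (LK LD1_c7 LD2_c47 LD3_c42) (f459730 IH)
def v851 : LQ := Led Lsl_dt (LP (LK LD1_c0 LD2_c52 LD3_c27))
theorem f459771 : Led Lsl_dt (LP (LK LD1_c0 LD2_c52 LD3_c27)) = v851 :=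
  Lrfl
theorem f84663 : Led Lsl_et (LP (LK LD1_c0 LD2_c23 LD3_c43)) = (LP (LK LD1_c0 LD2_c52 LD3_c27)) :=
  Lre_e IH (LK LD1_c0 LD2_c23 LD3_c43) (LK LD1_c0 LD2_c52 LD3_c27) Lrfl Lrfl
theorem f459774 : Led Lsl_ef (LP (LK LD1_c1 LD2_c40 LD3_c57)) = v851 :=
  Lgr Lrot73 (Lpr_dt (K3.f76764 IH) (Lpr_et (K3.f84659 IH) (Lpr_dt (K2.f62665 IH) (Lpr_et (f84663 IH) (Lpr_dt (f459771 IH) (Lpn v851))))))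
theorem f86753 : Led Lsl_et (LP (LK LD1_c6 LD2_c27 LD3_c28)) = (LP (LK LD1_c12 LD2_c26 LD3_c29)) :=
  Lre_e IH (LK LD1_c6 LD2_c27 LD3_c28) (LK LD1_c12 LD2_c26 LD3_c29) Lrfl Lrfl
theorem f459773 : Led Lsl_df (LP (LK LD1_c0 LD2_c52 LD3_c27)) = v851 :=
  Lgr Lrot38 (Lpr_dt (f459771 IH) (Lpn v851))
theorem f84664 : Led Lsl_gt (LP (LK LD1_c1 LD2_c51 LD3_c10)) = (LP (LK LD1_c0 LD2_c52 LD3_c27)) :=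
  Lre_g IH (LK LD1_c1 LD2_c51 LD3_c10) (LK LD1_c0 LD2_c52 LD3_c27) Lrfl Lrfl
theorem f459775 : Led Lsl_dt (LP (LK LD1_c3 LD2_c48 LD3_c18)) = (LP (LK LD1_c1 LD2_c51 LD3_c10)) :=
  Lre_d IH (LK LD1_c3 LD2_c48 LD3_c18) (LK LD1_c1 LD2_c51 LD3_c10) Lrfl Lrfl
theorem f459779 : Led Lsl_et (LP (LK LD1_c3 LD2_c48 LD3_c18)) = (LP (LK LD1_c7 LD2_c37 LD3_c39)) :=
  Lre_e IH (LK LD1_c3 LD2_c48 LD3_c18) (LK LD1_c7 LD2_c37 LD3_c39) Lrfl Lrfl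
theorem f459780 : Led Lsl_gt (LP (LK LD1_c12 LD2_c26 LD3_c29)) = (LP (LK LD1_c7 LD2_c37 LD3_c39)) :=
  Lgr Lrot131 (Lpe (f86753 IH) (Lpr_dt (K7.f84321 IH) (Lpr_gf (K3.f108825 IH) (Lpe (K7.f94107 IH) (Lpr_gf (K5.f94105 IH) (Lpr_ef (f459774 IH) (Lpe (f459773 IH) (Lpe (f84664 IH) (Lpe (f459775 IH) (Lpr_et (f459779 IH) (Lpn (LP (LK LD1_c7 LD2_c37 LD3_c39)))))))))))))
theorem f459781 : Led Lsl_gt (LP (LK LD1_c12 LD2_c26 LD3_c29)) = (LP (LK LD1_c7 LD2_c37 LD3_c39)) :=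
  Leop (Lpe (f459780 IH) (Lpn (LP (LK LD1_c12 LD2_c26 LD3_c29))))
theorem seed_59 : LEOK LG_g (LK LD1_c12 LD2_c26 LD3_c29) :=
  Leoe_g (LK LD1_c12 LD2_c26 LD3_c29) (f459781 IH)
def v865 : LQ := Led Lsl_ft (LP (LK LD1_c0 LD2_c53 LD3_c0))
theorem f459846 : Led Lsl_ft (LP (LK LD1_c0 LD2_c53 LD3_c0)) = v865 :=
  Lrfl
theorem f65781 : Led Lsl_dt (LP (LK LD1_c0 LD2_c53 LD3_c0)) = (LP (LK LD1_c1 LD2_c52 LD3_c41)) :=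
  Lre_d IH (LK LD1_c0 LD2_c53 LD3_c0) (LK LD1_c1 LD2_c52 LD3_c41) Lrfl Lrfl
theorem f459850 : Led Lsl_ct (LP (LK LD1_c1 LD2_c52 LD3_c41)) = (LP (LK LD1_c3 LD2_c52 LD3_c0)) :=
  Lre_c IH (LK LD1_c1 LD2_c52 LD3_c41) (LK LD1_c3 LD2_c52 LD3_c0) Lrfl Lrfl
def v864 : LQ := Led Lsl_at (LP (LK LD1_c0 LD2_c53 LD3_c0))
theorem f459833 : Led Lsl_at (LP (LK LD1_c0 LD2_c53 LD3_c0)) = v864 :=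
  Lrfl
theorem f459834 : Led Lsl_af (LP (LK LD1_c0 LD2_c53 LD3_c0)) = v864 :=
  Lgr Lrot0 (Lpr_at (f459833 IH) (Lpn v864))
theorem f64182 : Led Lsl_gt (LP (LK LD1_c0 LD2_c23 LD3_c53)) = (LP (LK LD1_c0 LD2_c53 LD3_c0)) :=
  Lre_g IH (LK LD1_c0 LD2_c23 LD3_c53) (LK LD1_c0 LD2_c53 LD3_c0) Lrfl Lrfl
theorem f443237 : Led Lsl_gt (LP (LK LD1_c0 LD2_c53 LD3_c1)) = (LP (LK LD1_c0 LD2_c23 LD3_c53)) :=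
  Lre_g IH (LK LD1_c0 LD2_c53 LD3_c1) (LK LD1_c0 LD2_c23 LD3_c53) Lrfl Lrfl
theorem f459840 : Led Lsl_ft (LP (LK LD1_c0 LD2_c53 LD3_c1)) = v864 :=
  Lgr Lrot2 (Lpr_gt (f443237 IH) (Lpr_gt (f64182 IH) (Lpr_af (f459834 IH) (Lpn v864))))
theorem f459847 : Led Lsl_af (LP (LK LD1_c0 LD2_c53 LD3_c1)) = v865 :=
  Lgr Lrot45 (Lpr_ft (f459840 IH) (Lpe (f459834 IH) (Lpr_ft (f459846 IH) (Lpn v865))))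
theorem f446560 : Led Lsl_ct (LP (LK LD1_c1 LD2_c52 LD3_c44)) = (LP (LK LD1_c0 LD2_c53 LD3_c1)) :=
  Lre_c IH (LK LD1_c1 LD2_c52 LD3_c44) (LK LD1_c0 LD2_c53 LD3_c1) Lrfl Lrfl
theorem f11217 : Led Lsl_bt (LP (LK LD1_c0 LD2_c10 LD3_c41)) = (LP (LK LD1_c0 LD2_c5 LD3_c2)) :=
  Lre_b IH (LK LD1_c0 LD2_c10 LD3_c41) (LK LD1_c0 LD2_c5 LD3_c2) Lrfl Lrfl
theorem f448755 : Led Lsl_ct (LP (LK LD1_c0 LD2_c10 LD3_c41)) = (LP (LK LD1_c0 LD2_c23 LD3_c53)) :=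
  Lre_c IH (LK LD1_c0 LD2_c10 LD3_c41) (LK LD1_c0 LD2_c23 LD3_c53) Lrfl Lrfl
def v237 : LQ := Led Lsl_gt (LP (LK LD1_c0 LD2_c24 LD3_c21))
theorem f451272 : Led Lsl_gt (LP (LK LD1_c0 LD2_c24 LD3_c21)) = v237 :=
  Lrfl
theorem f448778 : Led Lsl_gf (LP (LK LD1_c0 LD2_c24 LD3_c27)) = v104 :=
  Lgr Lrot76 (Lpe (K0.f11159 IH) (Lpe (K0.f11157 IH) (Lpr_gt (f448777 IH) (Lpn v104))))
theorem f457688 : (LP (LK LD1_c0 LD2_c24 LD3_c27)) = v237 :=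
  Lefun (Lecon (Lfl_gf (f448778 IH)) (f457687 IH)) (f451272 IH)
theorem f15723 : Led Lsl_cf (LP (LK LD1_c0 LD2_c24 LD3_c27)) = (LP (LK LD1_c0 LD2_c20 LD3_c60)) :=
  Lgr Lrot11 (Lpr_ct (K0.f15708 IH) (Lpn (LP (LK LD1_c0 LD2_c20 LD3_c60))))
theorem f457970 : Led Lsl_bt (LP (LK LD1_c1 LD2_c52 LD3_c44)) = (LP (LK LD1_c1 LD2_c39 LD3_c51)) :=
  Lgr Lrot92 (Lpr_ct (f446560 IH) (Lpr_gt (f443237 IH) (Lpe (f448755 IH) (Lpr_bt (f11217 IH) (Lpr_gt (K11.f4474 IH) (Lpr_ct (f11197 IH) (Lpr_gt (f451272 IH) (Lpq (f457688 IH) (Lpr_cf (f15723 IH) (Lpr_bt (K0.f15707 IH) (Lpr_gt (K2.f15721 IH) (Lpn (LP (LK LD1_c1 LD2_c39 LD3_c51))))))))))))))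
theorem f90875 : Led Lsl_dt (LP (LK LD1_c1 LD2_c39 LD3_c51)) = (LP (LK LD1_c1 LD2_c40 LD3_c25)) :=
  Lgr Lrot42 (Lpr_df (K2.f90867 IH) (Lpn (LP (LK LD1_c1 LD2_c40 LD3_c25))))
theorem f91984 : Led Lsl_bt (LP (LK LD1_c1 LD2_c40 LD3_c25)) = (LP (LK LD1_c3 LD2_c27 LD3_c34)) :=
  Lre_b IH (LK LD1_c1 LD2_c40 LD3_c25) (LK LD1_c3 LD2_c27 LD3_c34) Lrfl Lrfl
theorem f457977 : Led Lsl_df (LP (LK LD1_c1 LD2_c52 LD3_c44)) = (LP (LK LD1_c3 LD2_c27 LD3_c34)) :=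
  Lgr Lrot12 (Lpr_bt (f457970 IH) (Lpr_dt (f90875 IH) (Lpr_bt (f91984 IH) (Lpn (LP (LK LD1_c3 LD2_c27 LD3_c34))))))
theorem f11237 : Led Lsl_ct (LP (LK LD1_c0 LD2_c10 LD3_c51)) = (LP (LK LD1_c0 LD2_c24 LD3_c25)) :=
  Lre_c IH (LK LD1_c0 LD2_c10 LD3_c51) (LK LD1_c0 LD2_c24 LD3_c25) Lrfl Lrfl
theorem f451286 : Led Lsl_ft (LP (LK LD1_c0 LD2_c24 LD3_c25)) = v239 :=
  Lgr Lrot4 (Lpe (f11237 IH) (Lpr_ff (K11.f448772 IH) (Lpr_cf (f451284 IH) (Lpn v239))))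
theorem f451283 : Led Lsl_af (LP (LK LD1_c0 LD2_c24 LD3_c21)) = v239 :=
  Lgr Lrot0 (Lpr_at (f451282 IH) (Lpn v239))
theorem f451289 : Led Lsl_gt (LP (LK LD1_c0 LD2_c24 LD3_c25)) = v238 :=
  Lgr Lrot5 (Lpr_ft (f451286 IH) (Lpe (f451283 IH) (Lpr_gf (f451280 IH) (Lpn v238))))
theorem f16720 : Led Lsl_bt (LP (LK LD1_c1 LD2_c40 LD3_c22)) = (LP (LK LD1_c0 LD2_c46 LD3_c39)) :=
  Lre_b IH (LK LD1_c1 LD2_c40 LD3_c22) (LK LD1_c0 LD2_c46 LD3_c39) Lrfl Lrfl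
theorem f11173 : Led Lsl_bt (LP (LK LD1_c0 LD2_c23 LD3_c57)) = (LP (LK LD1_c0 LD2_c10 LD3_c52)) :=
  Lre_b IH (LK LD1_c0 LD2_c23 LD3_c57) (LK LD1_c0 LD2_c10 LD3_c52) Lrfl Lrfl
theorem f11212 : Led Lsl_ct (LP (LK LD1_c0 LD2_c23 LD3_c57)) = (LP (LK LD1_c0 LD2_c53 LD3_c3)) :=
  Lre_c IH (LK LD1_c0 LD2_c23 LD3_c57) (LK LD1_c0 LD2_c53 LD3_c3) Lrfl Lrfl
theorem f457774 : Led Lsl_ct (LP (LK LD1_c1 LD2_c40 LD3_c22)) = (LP (LK LD1_c1 LD2_c50 LD3_c57)) :=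
  Lgr Lrot64 (Lpr_bt (f16720 IH) (Lpe (K2.f16743 IH) (Lpe (K0.f15763 IH) (Lpe (f15676 IH) (Lpqs (f457690 IH) (Lpe (f451289 IH) (Lpe (f11237 IH) (Lpe (f11234 IH) (Lpe (f11173 IH) (Lpr_ct (f11212 IH) (Lpe (K1.f11242 IH) (Lpn (LP (LK LD1_c1 LD2_c50 LD3_c57))))))))))))))
theorem f457784 : Led Lsl_et (LP (LK LD1_c3 LD2_c27 LD3_c34)) = (LP (LK LD1_c1 LD2_c40 LD3_c22)) :=
  Lre_e IH (LK LD1_c3 LD2_c27 LD3_c34) (LK LD1_c1 LD2_c40 LD3_c22) Lrfl Lrfl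
theorem f64981 : Led Lsl_et (LP (LK LD1_c1 LD2_c50 LD3_c57)) = (LP (LK LD1_c3 LD2_c47 LD3_c53)) :=
  Lre_e IH (LK LD1_c1 LD2_c50 LD3_c57) (LK LD1_c3 LD2_c47 LD3_c53) Lrfl Lrfl
theorem f457785 : Led Lsl_cf (LP (LK LD1_c3 LD2_c27 LD3_c34)) = (LP (LK LD1_c3 LD2_c47 LD3_c53)) :=
  Lgr Lrot39 (Lpr_et (f457784 IH) (Lpr_ct (f457774 IH) (Lpr_et (f64981 IH) (Lpn (LP (LK LD1_c3 LD2_c47 LD3_c53))))))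
theorem f64979 : Led Lsl_df (LP (LK LD1_c3 LD2_c47 LD3_c53)) = (LP (LK LD1_c3 LD2_c30 LD3_c28)) :=
  Lgr Lrot38 (Lpr_dt (K1.f64972 IH) (Lpn (LP (LK LD1_c3 LD2_c30 LD3_c28))))
theorem f64991 : Led Lsl_ct (LP (LK LD1_c7 LD2_c2 LD3_c53)) = (LP (LK LD1_c3 LD2_c30 LD3_c28)) :=
  Lre_c IH (LK LD1_c7 LD2_c2 LD3_c53) (LK LD1_c3 LD2_c30 LD3_c28) Lrfl Lrfl
theorem f459851 : Led Lsl_dt (LP (LK LD1_c3 LD2_c52 LD3_c0)) = (LP (LK LD1_c7 LD2_c2 LD3_c53)) :=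
  Lgr Lrot32 (Lpe (f459850 IH) (Lpe (f65781 IH) (Lpr_ft (f459846 IH) (Lpe (f459847 IH) (Lpe (f446560 IH) (Lpr_df (f457977 IH) (Lpr_cf (f457785 IH) (Lpr_df (f64979 IH) (Lpe (f64991 IH) (Lpn (LP (LK LD1_c7 LD2_c2 LD3_c53))))))))))))
theorem f459852 : Led Lsl_dt (LP (LK LD1_c3 LD2_c52 LD3_c0)) = (LP (LK LD1_c7 LD2_c2 LD3_c53)) :=
  Leop (Lpe (f459851 IH) (Lpn (LP (LK LD1_c3 LD2_c52 LD3_c0))))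
theorem seed_60 : LEOK LG_d (LK LD1_c3 LD2_c52 LD3_c0) :=
  Leoe_d (LK LD1_c3 LD2_c52 LD3_c0) (f459852 IH)
def v869 : LQ := Led Lsl_at (LP (LK LD1_c0 LD2_c53 LD3_c6))
theorem f459910 : Led Lsl_at (LP (LK LD1_c0 LD2_c53 LD3_c6)) = v869 :=
  Lrfl
theorem f451114 : Led Lsl_ct (LP (LK LD1_c0 LD2_c23 LD3_c55)) = (LP (LK LD1_c0 LD2_c53 LD3_c6)) :=
  Lre_c IH (LK LD1_c0 LD2_c23 LD3_c55) (LK LD1_c0 LD2_c53 LD3_c6) Lrfl Lrfl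
def v210 : LQ := Led Lsl_at (LP (LK LD1_c0 LD2_c23 LD3_c55))
theorem f451108 : Led Lsl_at (LP (LK LD1_c0 LD2_c23 LD3_c55)) = v210 :=
  Lrfl
theorem f451109 : Led Lsl_af (LP (LK LD1_c0 LD2_c23 LD3_c55)) = v210 :=
  Lgr Lrot0 (Lpr_at (f451108 IH) (Lpn v210))
theorem f459913 : Led Lsl_cf v210 = v869 :=
  Lgr Lrot1 (Lpe (f451109 IH) (Lpr_ct (f451114 IH) (Lpr_at (f459910 IH) (Lpn v869))))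
theorem f451115 : Led Lsl_ft (LP (LK LD1_c0 LD2_c23 LD3_c56)) = v210 :=
  Lgr Lrot2 (Lpr_gt (K5.f64989 IH) (Lpr_gt (K1.f62722 IH) (Lpr_af (f451109 IH) (Lpn v210))))
theorem f451118 : Led Lsl_ff (LP (LK LD1_c0 LD2_c23 LD3_c56)) = v210 :=
  Lgr Lrot3 (Lpr_ft (f451115 IH) (Lpn v210))
theorem f459915 : Led Lsl_ft (LP (LK LD1_c0 LD2_c53 LD3_c10)) = v869 :=
  Lgr Lrot4 (Lpe (K5.f64663 IH) (Lpr_ff (f451118 IH) (Lpr_cf (f459913 IH) (Lpn v869))))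
theorem f459911 : Led Lsl_af (LP (LK LD1_c0 LD2_c53 LD3_c6)) = v869 :=
  Lgr Lrot0 (Lpr_at (f459910 IH) (Lpn v869))
def v868 : LQ := Led Lsl_gf (LP (LK LD1_c0 LD2_c53 LD3_c6))
theorem f459896 : Led Lsl_gf (LP (LK LD1_c0 LD2_c53 LD3_c6)) = v868 :=
  Lrfl
theorem f459919 : (LP (LK LD1_c1 LD2_c51 LD3_c15)) = v868 :=
  (Llr Lrot5 (Lpe (K5.f87982 IH) (Lpr_ft (f459915 IH) (Lpe (f459911 IH) (Lpr_gf (f459896 IH) (Lpn v868)))))).symm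
theorem f459920 : Led Lsl_gt (LP (LK LD1_c1 LD2_c51 LD3_c15)) = (LP (LK LD1_c0 LD2_c53 LD3_c6)) :=
  Leop (Lpr_gf (f459896 IH) (Lpq (f459919 IH) (Lpn (LP (LK LD1_c1 LD2_c51 LD3_c15)))))
theorem seed_61 : LEOK LG_g (LK LD1_c1 LD2_c51 LD3_c15) :=
  Leoe_g (LK LD1_c1 LD2_c51 LD3_c15) (f459920 IH)
theorem f88020 : Led Lsl_et (LP (LK LD1_c0 LD2_c52 LD3_c29)) = (LP (LK LD1_c1 LD2_c51 LD3_c15)) :=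
  Lre_e IH (LK LD1_c0 LD2_c52 LD3_c29) (LK LD1_c1 LD2_c51 LD3_c15) Lrfl Lrfl
theorem f92367 : Led Lsl_et (LP (LK LD1_c1 LD2_c49 LD3_c59)) = (LP (LK LD1_c0 LD2_c51 LD3_c51)) :=
  Lre_e IH (LK LD1_c1 LD2_c49 LD3_c59) (LK LD1_c0 LD2_c51 LD3_c51) Lrfl Lrfl
theorem f63034 : Led Lsl_et (LP (LK LD1_c1 LD2_c53 LD3_c1)) = (LP (LK LD1_c0 LD2_c53 LD3_c6)) :=
  Lre_e IH (LK LD1_c1 LD2_c53 LD3_c1) (LK LD1_c0 LD2_c53 LD3_c6) Lrfl Lrfl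
theorem f459921 : Led Lsl_gf (LP (LK LD1_c3 LD2_c45 LD3_c44)) = (LP (LK LD1_c3 LD2_c52 LD3_c56)) :=
  Lgr Lrot145 (Lpe (K5.f92368 IH) (Lpr_et (f92367 IH) (Lpr_gt (K2.f92360 IH) (Lpr_dt (K1.f62805 IH) (Lpr_gt (K3.f88292 IH) (Lpe (K3.f87930 IH) (Lpr_et (f88020 IH) (Lpqs (f459919 IH) (Lpe (f459896 IH) (Lpe (f63034 IH) (Lpr_dt (f63014 IH) (Lpn (LP (LK LD1_c3 LD2_c52 LD3_c56))))))))))))))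
theorem f109293 : Led Lsl_af (LP (LK LD1_c3 LD2_c45 LD3_c44)) = (LP (LK LD1_c7 LD2_c0 LD3_c23)) :=
  Lgr Lrot0 (Lpr_at (K4.f109291 IH) (Lpn (LP (LK LD1_c7 LD2_c0 LD3_c23))))
theorem f63017 : Led Lsl_gt (LP (LK LD1_c7 LD2_c47 LD3_c41)) = (LP (LK LD1_c3 LD2_c52 LD3_c56)) :=
  Lre_g IH (LK LD1_c7 LD2_c47 LD3_c41) (LK LD1_c3 LD2_c52 LD3_c56) Lrfl Lrfl
theorem f460082 : Led Lsl_ff (LP (LK LD1_c7 LD2_c0 LD3_c23)) = (LP (LK LD1_c7 LD2_c47 LD3_c41)) :=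
  Lgr Lrot52 (Lpe (f109293 IH) (Lpr_gf (f459921 IH) (Lpe (f63017 IH) (Lpn (LP (LK LD1_c7 LD2_c47 LD3_c41))))))
theorem f460096 : Led Lsl_ft (LP (LK LD1_c7 LD2_c0 LD3_c23)) = (LP (LK LD1_c7 LD2_c47 LD3_c41)) :=
  Lgr Lrot48 (Lpr_ff (f460082 IH) (Lpn (LP (LK LD1_c7 LD2_c47 LD3_c41))))
theorem f64654 : Led Lsl_dt (LP (LK LD1_c3 LD2_c29 LD3_c23)) = (LP (LK LD1_c7 LD2_c0 LD3_c23)) :=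
  Lre_d IH (LK LD1_c3 LD2_c29 LD3_c23) (LK LD1_c7 LD2_c0 LD3_c23) Lrfl Lrfl
theorem f62798 : Led Lsl_gt (LP (LK LD1_c1 LD2_c41 LD3_c18)) = (LP (LK LD1_c0 LD2_c47 LD3_c30)) :=
  Lre_g IH (LK LD1_c1 LD2_c41 LD3_c18) (LK LD1_c0 LD2_c47 LD3_c30) Lrfl Lrfl
theorem f18792 : Led Lsl_ct (LP (LK LD1_c1 LD2_c41 LD3_c18)) = (LP (LK LD1_c3 LD2_c29 LD3_c11)) :=
  Lre_c IH (LK LD1_c1 LD2_c41 LD3_c18) (LK LD1_c3 LD2_c29 LD3_c11) Lrfl Lrfl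
theorem f18793 : Led Lsl_gt (LP (LK LD1_c3 LD2_c29 LD3_c11)) = (LP (LK LD1_c7 LD2_c0 LD3_c7)) :=
  Lre_g IH (LK LD1_c3 LD2_c29 LD3_c11) (LK LD1_c7 LD2_c0 LD3_c7) Lrfl Lrfl
theorem f62780 : Led Lsl_ct (LP (LK LD1_c1 LD2_c53 LD3_c1)) = (LP (LK LD1_c0 LD2_c53 LD3_c8)) :=
  Lre_c IH (LK LD1_c1 LD2_c53 LD3_c1) (LK LD1_c0 LD2_c53 LD3_c8) Lrfl Lrfl
theorem f62781 : Led Lsl_dt (LP (LK LD1_c3 LD2_c52 LD3_c56)) = (LP (LK LD1_c1 LD2_c53 LD3_c1)) :=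
  Lre_d IH (LK LD1_c3 LD2_c52 LD3_c56) (LK LD1_c1 LD2_c53 LD3_c1) Lrfl Lrfl
theorem f63018 : Led Lsl_dt (LP (LK LD1_c7 LD2_c0 LD3_c7)) = (LP (LK LD1_c7 LD2_c47 LD3_c41)) :=
  Lgr Lrot57 (Lpe (f18793 IH) (Lpe (f18792 IH) (Lpr_gt (f62798 IH) (Lpr_dt (K1.f62768 IH) (Lpr_gt (K1.f14947 IH) (Lpr_dt (f62783 IH) (Lpe (f62780 IH) (Lpe (f62781 IH) (Lpe (f63017 IH) (Lpn (LP (LK LD1_c7 LD2_c47 LD3_c41))))))))))))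
theorem f63027 : Led Lsl_df (LP (LK LD1_c7 LD2_c0 LD3_c7)) = (LP (LK LD1_c7 LD2_c47 LD3_c41)) :=
  Lgr Lrot38 (Lpr_dt (f63018 IH) (Lpn (LP (LK LD1_c7 LD2_c47 LD3_c41))))
theorem f460100 : Led Lsl_ff (LP (LK LD1_c3 LD2_c29 LD3_c23)) = (LP (LK LD1_c7 LD2_c0 LD3_c7)) :=
  Lgr Lrot19 (Lpr_dt (f64654 IH) (Lpr_ft (f460096 IH) (Lpe (f63027 IH) (Lpn (LP (LK LD1_c7 LD2_c0 LD3_c7))))))
theorem f93604 : Led Lsl_et (LP (LK LD1_c0 LD2_c51 LD3_c52)) = (LP (LK LD1_c1 LD2_c50 LD3_c0)) :=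
  Lre_e IH (LK LD1_c0 LD2_c51 LD3_c52) (LK LD1_c1 LD2_c50 LD3_c0) Lrfl Lrfl
theorem f109253 : Led Lsl_ft (LP (LK LD1_c1 LD2_c50 LD3_c0)) = (LP (LK LD1_c3 LD2_c45 LD3_c51)) :=
  Lre_f IH (LK LD1_c1 LD2_c50 LD3_c0) (LK LD1_c3 LD2_c45 LD3_c51) Lrfl Lrfl
theorem f460106 : Led Lsl_et (LP (LK LD1_c3 LD2_c45 LD3_c51)) = (LP (LK LD1_c7 LD2_c0 LD3_c7)) :=
  Lgr Lrot69 (Lpe (f109253 IH) (Lpe (f93604 IH) (Lpr_ff (K3.f109247 IH) (Lpe (K4.f64632 IH) (Lpr_ff (f460100 IH) (Lpn (LP (LK LD1_c7 LD2_c0 LD3_c7))))))))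
theorem f460114 : Led Lsl_ef (LP (LK LD1_c3 LD2_c45 LD3_c51)) = (LP (LK LD1_c7 LD2_c0 LD3_c7)) :=
  Lgr Lrot88 (Lpr_et (f460106 IH) (Lpn (LP (LK LD1_c7 LD2_c0 LD3_c7))))
theorem f63035 : Led Lsl_gt (LP (LK LD1_c0 LD2_c53 LD3_c6)) = (LP (LK LD1_c1 LD2_c52 LD3_c60)) :=
  Lre_g IH (LK LD1_c0 LD2_c53 LD3_c6) (LK LD1_c1 LD2_c52 LD3_c60) Lrfl Lrfl
theorem f63036 : Led Lsl_dt (LP (LK LD1_c1 LD2_c52 LD3_c60)) = (LP (LK LD1_c3 LD2_c52 LD3_c46)) :=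
  Lre_d IH (LK LD1_c1 LD2_c52 LD3_c60) (LK LD1_c3 LD2_c52 LD3_c46) Lrfl Lrfl
theorem f63037 : Led Lsl_gt (LP (LK LD1_c3 LD2_c52 LD3_c46)) = (LP (LK LD1_c7 LD2_c3 LD3_c56)) :=
  Lre_g IH (LK LD1_c3 LD2_c52 LD3_c46) (LK LD1_c7 LD2_c3 LD3_c56) Lrfl Lrfl
theorem f63038 : Led Lsl_dt (LP (LK LD1_c3 LD2_c30 LD3_c58)) = (LP (LK LD1_c7 LD2_c3 LD3_c56)) :=
  Lre_d IH (LK LD1_c3 LD2_c30 LD3_c58) (LK LD1_c7 LD2_c3 LD3_c56) Lrfl Lrfl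
theorem f62763 : Led Lsl_et (LP (LK LD1_c3 LD2_c28 LD3_c17)) = (LP (LK LD1_c1 LD2_c41 LD3_c61)) :=
  Lgr Lrot87 (Lpr_ef (K1.f62685 IH) (Lpn (LP (LK LD1_c1 LD2_c41 LD3_c61))))
theorem f18554 : Led Lsl_ct (LP (LK LD1_c6 LD2_c58 LD3_c48)) = (LP (LK LD1_c3 LD2_c28 LD3_c17)) :=
  Lre_c IH (LK LD1_c6 LD2_c58 LD3_c48) (LK LD1_c3 LD2_c28 LD3_c17) Lrfl Lrfl
theorem f18818 : Led Lsl_ct (LP (LK LD1_c1 LD2_c41 LD3_c61)) = (LP (LK LD1_c3 LD2_c30 LD3_c58)) :=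
  Lre_c IH (LK LD1_c1 LD2_c41 LD3_c61) (LK LD1_c3 LD2_c30 LD3_c58) Lrfl Lrfl
theorem f63053 : Led Lsl_ef (LP (LK LD1_c6 LD2_c58 LD3_c48)) = (LP (LK LD1_c3 LD2_c30 LD3_c58)) :=
  Lgr Lrot28 (Lpr_ct (f18554 IH) (Lpr_et (f62763 IH) (Lpr_ct (f18818 IH) (Lpn (LP (LK LD1_c3 LD2_c30 LD3_c58))))))
theorem f460120 : Led Lsl_gf (LP (LK LD1_c3 LD2_c45 LD3_c51)) = (LP (LK LD1_c6 LD2_c58 LD3_c48)) :=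
  Lgr Lrot141 (Lpr_ef (f460114 IH) (Lpr_dt (f63018 IH) (Lpr_gt (f63017 IH) (Lpe (f63014 IH) (Lpr_et (f63034 IH) (Lpr_gt (f63035 IH) (Lpr_dt (f63036 IH) (Lpr_gt (f63037 IH) (Lpe (f63038 IH) (Lpe (f63053 IH) (Lpn (LP (LK LD1_c6 LD2_c58 LD3_c48)))))))))))))
theorem f460122 : Led Lsl_gt (LP (LK LD1_c3 LD2_c29 LD3_c21)) = (LP (LK LD1_c6 LD2_c58 LD3_c48)) :=
  Lgr Lrot5 (Lpr_ft (K4.f17815 IH) (Lpe (K4.f111726 IH) (Lpr_gf (f460120 IH) (Lpn (LP (LK LD1_c6 LD2_c58 LD3_c48))))))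
theorem f460129 : Led Lsl_gf (LP (LK LD1_c3 LD2_c48 LD3_c29)) = (LP (LK LD1_c7 LD2_c3 LD3_c56)) :=
  Lgr Lrot145 (Lpe (K5.f87945 IH) (Lpr_et (K5.f87944 IH) (Lpr_gt (K3.f62680 IH) (Lpr_dt (K1.f17460 IH) (Lpr_gt (K2.f17456 IH) (Lpe (K2.f89297 IH) (Lpr_et (K4.f17938 IH) (Lpr_gt (f460122 IH) (Lpr_ef (f63053 IH) (Lpr_dt (f63038 IH) (Lpn (LP (LK LD1_c7 LD2_c3 LD3_c56)))))))))))))
theorem f127766 : Led Lsl_at (LP (LK LD1_c7 LD2_c7 LD3_c32)) = (LP (LK LD1_c3 LD2_c48 LD3_c29)) :=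
  Lgr Lrot100 (Lpr_af (K5.f127764 IH) (Lpn (LP (LK LD1_c3 LD2_c48 LD3_c29))))
theorem f460131 : Led Lsl_ff (LP (LK LD1_c7 LD2_c7 LD3_c32)) = (LP (LK LD1_c3 LD2_c52 LD3_c46)) :=
  Lgr Lrot52 (Lpr_at (f127766 IH) (Lpr_gf (f460129 IH) (Lpe (f63037 IH) (Lpn (LP (LK LD1_c3 LD2_c52 LD3_c46))))))
theorem f460163 : Led Lsl_ft (LP (LK LD1_c7 LD2_c7 LD3_c32)) = (LP (LK LD1_c3 LD2_c52 LD3_c46)) :=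
  Lgr Lrot48 (Lpr_ff (f460131 IH) (Lpn (LP (LK LD1_c3 LD2_c52 LD3_c46))))
theorem f12068 : Led Lsl_dt (LP (LK LD1_c3 LD2_c33 LD3_c18)) = (LP (LK LD1_c7 LD2_c7 LD3_c32)) :=
  Lre_d IH (LK LD1_c3 LD2_c33 LD3_c18) (LK LD1_c7 LD2_c7 LD3_c32) Lrfl Lrfl
theorem f460165 : Led Lsl_dt (LP (LK LD1_c3 LD2_c52 LD3_c46)) = (LP (LK LD1_c1 LD2_c52 LD3_c60)) :=
  Lre_d IH (LK LD1_c3 LD2_c52 LD3_c46) (LK LD1_c1 LD2_c52 LD3_c60) Lrfl Lrfl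
theorem f460170 : Led Lsl_ff (LP (LK LD1_c3 LD2_c33 LD3_c18)) = (LP (LK LD1_c1 LD2_c52 LD3_c60)) :=
  Lgr Lrot19 (Lpr_dt (f12068 IH) (Lpr_ft (f460163 IH) (Lpr_dt (f460165 IH) (Lpn (LP (LK LD1_c1 LD2_c52 LD3_c60))))))
theorem f460405 : Led Lsl_gf (LP (LK LD1_c0 LD2_c53 LD3_c10)) = (LP (LK LD1_c1 LD2_c52 LD3_c60)) :=
  Lgr Lrot47 (Lpr_gt (K5.f87982 IH) (Lpe (K5.f127754 IH) (Lpr_ff (f460170 IH) (Lpn (LP (LK LD1_c1 LD2_c52 LD3_c60))))))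
theorem f87985 : Led Lsl_ct (LP (LK LD1_c0 LD2_c53 LD3_c10)) = (LP (LK LD1_c0 LD2_c23 LD3_c56)) :=
  Lre_c IH (LK LD1_c0 LD2_c53 LD3_c10) (LK LD1_c0 LD2_c23 LD3_c56) Lrfl Lrfl
theorem f460414 : Led Lsl_ct (LP (LK LD1_c1 LD2_c52 LD3_c49)) = (LP (LK LD1_c0 LD2_c53 LD3_c2)) :=
  Lre_c IH (LK LD1_c1 LD2_c52 LD3_c49) (LK LD1_c0 LD2_c53 LD3_c2) Lrfl Lrfl
theorem f156646 : Led Lsl_gt (LP (LK LD1_c3 LD2_c52 LD3_c20)) = (LP (LK LD1_c1 LD2_c52 LD3_c49)) :=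
  Lre_g IH (LK LD1_c3 LD2_c52 LD3_c20) (LK LD1_c1 LD2_c52 LD3_c49) Lrfl Lrfl
theorem f460415 : Led Lsl_cf (LP (LK LD1_c3 LD2_c52 LD3_c20)) = (LP (LK LD1_c7 LD2_c3 LD3_c56)) :=
  Lgr Lrot169 (Lpr_gt (f156646 IH) (Lpr_ct (f460414 IH) (Lpe (K3.f63630 IH) (Lpe (f448755 IH) (Lpe (K5.f64989 IH) (Lpe (f87985 IH) (Lpr_gf (f460405 IH) (Lpe (f460165 IH) (Lpr_gt (f63037 IH) (Lpn (LP (LK LD1_c7 LD2_c3 LD3_c56))))))))))))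
theorem f18817 : Led Lsl_dt (LP (LK LD1_c0 LD2_c47 LD3_c29)) = (LP (LK LD1_c1 LD2_c41 LD3_c61)) :=
  Lre_d IH (LK LD1_c0 LD2_c47 LD3_c29) (LK LD1_c1 LD2_c41 LD3_c61) Lrfl Lrfl
def v620 : LQ := Led Lsl_at (LP (LK LD1_c0 LD2_c47 LD3_c28))
theorem f455535 : Led Lsl_at (LP (LK LD1_c0 LD2_c47 LD3_c28)) = v620 :=
  Lrfl
theorem f455536 : Led Lsl_af (LP (LK LD1_c0 LD2_c47 LD3_c28)) = v620 :=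
  Lgr Lrot0 (Lpr_at (f455535 IH) (Lpn v620))
theorem f455543 : Led Lsl_ft (LP (LK LD1_c0 LD2_c47 LD3_c29)) = v620 :=
  Lgr Lrot2 (Lpr_gt (K1.f62683 IH) (Lpr_gt (K5.f87981 IH) (Lpr_af (f455536 IH) (Lpn v620))))
theorem f455538 : Led Lsl_ct (LP (LK LD1_c1 LD2_c41 LD3_c56)) = (LP (LK LD1_c0 LD2_c47 LD3_c28)) :=
  Lre_c IH (LK LD1_c1 LD2_c41 LD3_c56) (LK LD1_c0 LD2_c47 LD3_c28) Lrfl Lrfl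
theorem f455544 : Led Lsl_dt (LP (LK LD1_c3 LD2_c30 LD3_c42)) = (LP (LK LD1_c1 LD2_c41 LD3_c56)) :=
  Lre_d IH (LK LD1_c3 LD2_c30 LD3_c42) (LK LD1_c1 LD2_c41 LD3_c56) Lrfl Lrfl
theorem f455545 : Led Lsl_ct (LP (LK LD1_c7 LD2_c3 LD3_c26)) = (LP (LK LD1_c3 LD2_c30 LD3_c42)) :=
  Lre_c IH (LK LD1_c7 LD2_c3 LD3_c26) (LK LD1_c3 LD2_c30 LD3_c42) Lrfl Lrfl
theorem f460432 : Led Lsl_dt (LP (LK LD1_c3 LD2_c52 LD3_c20)) = (LP (LK LD1_c7 LD2_c3 LD3_c26)) :=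
  Lgr Lrot140 (Lpr_cf (f460415 IH) (Lpe (f63038 IH) (Lpe (f18818 IH) (Lpe (f18817 IH) (Lpr_ft (f455543 IH) (Lpe (f455536 IH) (Lpe (f455538 IH) (Lpe (f455544 IH) (Lpe (f455545 IH) (Lpn (LP (LK LD1_c7 LD2_c3 LD3_c26))))))))))))
theorem f460433 : Led Lsl_dt (LP (LK LD1_c3 LD2_c52 LD3_c20)) = (LP (LK LD1_c7 LD2_c3 LD3_c26)) :=
  Leop (Lpe (f460432 IH) (Lpn (LP (LK LD1_c3 LD2_c52 LD3_c20))))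
theorem seed_62 : LEOK LG_d (LK LD1_c3 LD2_c52 LD3_c20) :=
  Leoe_d (LK LD1_c3 LD2_c52 LD3_c20) (f460433 IH)
theorem f156645 : Led Lsl_dt (LP (LK LD1_c1 LD2_c52 LD3_c49)) = (LP (LK LD1_c3 LD2_c52 LD3_c22)) :=
  Lre_d IH (LK LD1_c1 LD2_c52 LD3_c49) (LK LD1_c3 LD2_c52 LD3_c22) Lrfl Lrfl
theorem f443459 : Led Lsl_gt (LP (LK LD1_c3 LD2_c52 LD3_c22)) = (LP (LK LD1_c7 LD2_c2 LD3_c56)) :=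
  Lre_g IH (LK LD1_c3 LD2_c52 LD3_c22) (LK LD1_c7 LD2_c2 LD3_c56) Lrfl Lrfl
theorem f459897 : Led Lsl_dt (LP (LK LD1_c0 LD2_c53 LD3_c6)) = (LP (LK LD1_c1 LD2_c53 LD3_c0)) :=
  Lre_d IH (LK LD1_c0 LD2_c53 LD3_c6) (LK LD1_c1 LD2_c53 LD3_c0) Lrfl Lrfl
theorem f451117 : Led Lsl_ct (LP (LK LD1_c3 LD2_c52 LD3_c53)) = (LP (LK LD1_c1 LD2_c53 LD3_c0)) :=
  Lre_c IH (LK LD1_c3 LD2_c52 LD3_c53) (LK LD1_c1 LD2_c53 LD3_c0) Lrfl Lrfl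
theorem f460434 : Led Lsl_dt (LP (LK LD1_c7 LD2_c2 LD3_c56)) = (LP (LK LD1_c3 LD2_c52 LD3_c53)) :=
  Lgr Lrot105 (Lpe (f443459 IH) (Lpe (f156645 IH) (Lpe (f156646 IH) (Lpr_cf (f460415 IH) (Lpe (f460129 IH) (Lpr_dt (K5.f87987 IH) (Lpqs (f459919 IH) (Lpe (f459896 IH) (Lpr_dt (f459897 IH) (Lpe (f451117 IH) (Lpn (LP (LK LD1_c3 LD2_c52 LD3_c53)))))))))))))
theorem f451116 : Led Lsl_dt (LP (LK LD1_c1 LD2_c53 LD3_c0)) = (LP (LK LD1_c0 LD2_c53 LD3_c6)) :=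
  Lre_d IH (LK LD1_c1 LD2_c53 LD3_c0) (LK LD1_c0 LD2_c53 LD3_c6) Lrfl Lrfl
theorem f451111 : Led Lsl_ct (LP (LK LD1_c0 LD2_c53 LD3_c6)) = (LP (LK LD1_c0 LD2_c23 LD3_c55)) :=
  Lre_c IH (LK LD1_c0 LD2_c53 LD3_c6) (LK LD1_c0 LD2_c23 LD3_c55) Lrfl Lrfl
theorem f129662 : Led Lsl_dt (LP (LK LD1_c0 LD2_c23 LD3_c56)) = (LP (LK LD1_c0 LD2_c53 LD3_c11)) :=
  Lre_d IH (LK LD1_c0 LD2_c23 LD3_c56) (LK LD1_c0 LD2_c53 LD3_c11) Lrfl Lrfl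
theorem f129787 : Led Lsl_ct (LP (LK LD1_c0 LD2_c53 LD3_c11)) = (LP (LK LD1_c1 LD2_c53 LD3_c14)) :=
  Lre_c IH (LK LD1_c0 LD2_c53 LD3_c11) (LK LD1_c1 LD2_c53 LD3_c14) Lrfl Lrfl
theorem f129828 : Led Lsl_dt (LP (LK LD1_c1 LD2_c53 LD3_c14)) = (LP (LK LD1_c3 LD2_c53 LD3_c23)) :=
  Lre_d IH (LK LD1_c1 LD2_c53 LD3_c14) (LK LD1_c3 LD2_c53 LD3_c23) Lrfl Lrfl
theorem f460506 : Led Lsl_cf (LP (LK LD1_c7 LD2_c2 LD3_c56)) = (LP (LK LD1_c3 LD2_c53 LD3_c23)) :=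
  Lgr Lrot116 (Lpr_dt (f460434 IH) (Lpr_ct (f451117 IH) (Lpr_dt (f451116 IH) (Lpr_ct (f451111 IH) (Lpr_af (f451109 IH) (Lpe (f451115 IH) (Lpr_dt (f129662 IH) (Lpr_ct (f129787 IH) (Lpr_dt (f129828 IH) (Lpn (LP (LK LD1_c3 LD2_c53 LD3_c23))))))))))))
theorem f460507 : Led Lsl_ct (LP (LK LD1_c3 LD2_c53 LD3_c23)) = (LP (LK LD1_c7 LD2_c2 LD3_c56)) :=
  Leop (Lpr_cf (f460506 IH) (Lpn (LP (LK LD1_c3 LD2_c53 LD3_c23))))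
theorem seed_63 : LEOK LG_c (LK LD1_c3 LD2_c53 LD3_c23) :=
  Leoe_c (LK LD1_c3 LD2_c53 LD3_c23) (f460507 IH)
theorem f446522 : Led Lsl_bt (LP (LK LD1_c0 LD2_c47 LD3_c44)) = (LP (LK LD1_c1 LD2_c42 LD3_c29)) :=
  Lre_b IH (LK LD1_c0 LD2_c47 LD3_c44) (LK LD1_c1 LD2_c42 LD3_c29) Lrfl Lrfl
theorem f446521 : Led Lsl_ct (LP (LK LD1_c0 LD2_c47 LD3_c44)) = (LP (LK LD1_c0 LD2_c21 LD3_c19)) :=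
  Lre_c IH (LK LD1_c0 LD2_c47 LD3_c44) (LK LD1_c0 LD2_c21 LD3_c19) Lrfl Lrfl
theorem f11324 : Led Lsl_ct (LP (LK LD1_c0 LD2_c21 LD3_c17)) = (LP (LK LD1_c0 LD2_c9 LD3_c38)) :=
  Lre_c IH (LK LD1_c0 LD2_c21 LD3_c17) (LK LD1_c0 LD2_c9 LD3_c38) Lrfl Lrfl
theorem f18734 : Led Lsl_bt (LP (LK LD1_c0 LD2_c21 LD3_c17)) = (LP (LK LD1_c0 LD2_c47 LD3_c35)) :=
  Lre_b IH (LK LD1_c0 LD2_c21 LD3_c17) (LK LD1_c0 LD2_c47 LD3_c35) Lrfl Lrfl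
theorem f18073 : Led Lsl_gt (LP (LK LD1_c0 LD2_c47 LD3_c35)) = (LP (LK LD1_c1 LD2_c42 LD3_c9)) :=
  Lre_g IH (LK LD1_c0 LD2_c47 LD3_c35) (LK LD1_c1 LD2_c42 LD3_c9) Lrfl Lrfl
theorem f455581 : Led Lsl_ct (LP (LK LD1_c1 LD2_c42 LD3_c9)) = (LP (LK LD1_c3 LD2_c31 LD3_c14)) :=
  Lre_c IH (LK LD1_c1 LD2_c42 LD3_c9) (LK LD1_c3 LD2_c31 LD3_c14) Lrfl Lrfl
theorem f98741 : Led Lsl_gt (LP (LK LD1_c3 LD2_c31 LD3_c14)) = (LP (LK LD1_c7 LD2_c4 LD3_c15)) :=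
  Lre_g IH (LK LD1_c3 LD2_c31 LD3_c14) (LK LD1_c7 LD2_c4 LD3_c15) Lrfl Lrfl
theorem f5746 : Led Lsl_ft (LP (LK LD1_c3 LD2_c44 LD3_c45)) = (LP (LK LD1_c1 LD2_c49 LD3_c27)) :=
  Lre_f IH (LK LD1_c3 LD2_c44 LD3_c45) (LK LD1_c1 LD2_c49 LD3_c27) Lrfl Lrfl
theorem f94989 : Led Lsl_et (LP (LK LD1_c1 LD2_c39 LD3_c55)) = (LP (LK LD1_c3 LD2_c26 LD3_c26)) :=
  Lre_e IH (LK LD1_c1 LD2_c39 LD3_c55) (LK LD1_c3 LD2_c26 LD3_c26) Lrfl Lrfl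
theorem f95136 : Led Lsl_ct (LP (LK LD1_c3 LD2_c26 LD3_c26)) = (LP (LK LD1_c1 LD2_c49 LD3_c27)) :=
  Lgr Lrot15 (Lpe (f94989 IH) (Lpr_cf (K3.f95133 IH) (Lpe (K4.f5733 IH) (Lpn (LP (LK LD1_c1 LD2_c49 LD3_c27))))))
theorem f95189 : Led Lsl_cf (LP (LK LD1_c3 LD2_c26 LD3_c26)) = (LP (LK LD1_c1 LD2_c49 LD3_c27)) :=
  Lgr Lrot11 (Lpr_ct (f95136 IH) (Lpn (LP (LK LD1_c1 LD2_c49 LD3_c27))))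
theorem f458906 : Led Lsl_dt (LP (LK LD1_c1 LD2_c42 LD3_c16)) = (LP (LK LD1_c3 LD2_c31 LD3_c24)) :=
  Lre_d IH (LK LD1_c1 LD2_c42 LD3_c16) (LK LD1_c3 LD2_c31 LD3_c24) Lrfl Lrfl
theorem f458907 : Led Lsl_ct (LP (LK LD1_c3 LD2_c31 LD3_c24)) = (LP (LK LD1_c7 LD2_c4 LD3_c30)) :=
  Lre_c IH (LK LD1_c3 LD2_c31 LD3_c24) (LK LD1_c7 LD2_c4 LD3_c30) Lrfl Lrfl
theorem f425692 : Led Lsl_gt (LP (LK LD1_c7 LD2_c2 LD3_c56)) = (LP (LK LD1_c3 LD2_c30 LD3_c29)) :=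
  Lre_g IH (LK LD1_c7 LD2_c2 LD3_c56) (LK LD1_c3 LD2_c30 LD3_c29) Lrfl Lrfl
theorem f460508 : Led Lsl_ct (LP (LK LD1_c3 LD2_c30 LD3_c29)) = (LP (LK LD1_c1 LD2_c41 LD3_c52)) :=
  Lre_c IH (LK LD1_c3 LD2_c30 LD3_c29) (LK LD1_c1 LD2_c41 LD3_c52) Lrfl Lrfl
theorem f64987 : Led Lsl_dt (LP (LK LD1_c1 LD2_c41 LD3_c52)) = (LP (LK LD1_c0 LD2_c47 LD3_c26)) :=
  Lre_d IH (LK LD1_c1 LD2_c41 LD3_c52) (LK LD1_c0 LD2_c47 LD3_c26) Lrfl Lrfl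
theorem f64651 : Led Lsl_ct (LP (LK LD1_c1 LD2_c41 LD3_c60)) = (LP (LK LD1_c0 LD2_c47 LD3_c29)) :=
  Lre_c IH (LK LD1_c1 LD2_c41 LD3_c60) (LK LD1_c0 LD2_c47 LD3_c29) Lrfl Lrfl
theorem f129829 : Led Lsl_gt (LP (LK LD1_c7 LD2_c3 LD3_c21)) = (LP (LK LD1_c3 LD2_c53 LD3_c23)) :=
  Lre_g IH (LK LD1_c7 LD2_c3 LD3_c21) (LK LD1_c3 LD2_c53 LD3_c23) Lrfl Lrfl
theorem f129830 : Led Lsl_dt (LP (LK LD1_c3 LD2_c30 LD3_c40)) = (LP (LK LD1_c7 LD2_c3 LD3_c21)) :=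
  Lre_d IH (LK LD1_c3 LD2_c30 LD3_c40) (LK LD1_c7 LD2_c3 LD3_c21) Lrfl Lrfl
theorem f460525 : Led Lsl_gf (LP (LK LD1_c1 LD2_c41 LD3_c60)) = (LP (LK LD1_c3 LD2_c30 LD3_c40)) :=
  Lgr Lrot147 (Lpr_ct (f64651 IH) (Lpr_gt (K1.f62683 IH) (Lpr_ct (f64988 IH) (Lpe (f64987 IH) (Lpe (f460508 IH) (Lpe (f425692 IH) (Lpr_cf (f460506 IH) (Lpe (f129829 IH) (Lpe (f129830 IH) (Lpn (LP (LK LD1_c3 LD2_c30 LD3_c40))))))))))))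
theorem f109301 : Led Lsl_at (LP (LK LD1_c1 LD2_c49 LD3_c59)) = (LP (LK LD1_c3 LD2_c29 LD3_c23)) :=
  Lgr Lrot100 (Lpr_af (K5.f109299 IH) (Lpn (LP (LK LD1_c3 LD2_c29 LD3_c23))))
theorem f460535 : Led Lsl_ff (LP (LK LD1_c1 LD2_c49 LD3_c59)) = (LP (LK LD1_c3 LD2_c30 LD3_c40)) :=
  Lgr Lrot52 (Lpr_at (f109301 IH) (Lpe (K5.f64649 IH) (Lpr_gf (f460525 IH) (Lpn (LP (LK LD1_c3 LD2_c30 LD3_c40))))))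
theorem f128071 : Led Lsl_dt (LP (LK LD1_c3 LD2_c25 LD3_c24)) = (LP (LK LD1_c3 LD2_c15 LD3_c22)) :=
  Lgr Lrot42 (Lpr_df (K5.f128069 IH) (Lpn (LP (LK LD1_c3 LD2_c15 LD3_c22))))
theorem f87978 : Led Lsl_ct (LP (LK LD1_c7 LD2_c37 LD3_c60)) = (LP (LK LD1_c3 LD2_c48 LD3_c29)) :=
  Lre_c IH (LK LD1_c7 LD2_c37 LD3_c60) (LK LD1_c3 LD2_c48 LD3_c29) Lrfl Lrfl
theorem f460553 : Led Lsl_ct (LP (LK LD1_c7 LD2_c3 LD3_c21)) = (LP (LK LD1_c13 LD2_c22 LD3_c47)) :=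
  Lre_c IH (LK LD1_c7 LD2_c3 LD3_c21) (LK LD1_c13 LD2_c22 LD3_c47) Lrfl Lrfl
theorem f460554 : Led Lsl_df (LP (LK LD1_c7 LD2_c37 LD3_c60)) = (LP (LK LD1_c13 LD2_c22 LD3_c47)) :=
  Lgr Lrot106 (Lpr_ct (f87978 IH) (Lpr_dt (K5.f87987 IH) (Lpe (K5.f128073 IH) (Lpr_dt (f128071 IH) (Lpr_ct (K5.f109303 IH) (Lpe (f109301 IH) (Lpr_ff (f460535 IH) (Lpr_dt (f129830 IH) (Lpr_ct (f460553 IH) (Lpn (LP (LK LD1_c13 LD2_c22 LD3_c47))))))))))))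
theorem f64660 : Led Lsl_ct (LP (LK LD1_c7 LD2_c0 LD3_c23)) = (LP (LK LD1_c13 LD2_c17 LD3_c33)) :=
  Lre_c IH (LK LD1_c7 LD2_c0 LD3_c23) (LK LD1_c13 LD2_c17 LD3_c33) Lrfl Lrfl
theorem f92405 : Led Lsl_ct (LP (LK LD1_c7 LD2_c32 LD3_c10)) = (LP (LK LD1_c3 LD2_c45 LD3_c44)) :=
  Lre_c IH (LK LD1_c7 LD2_c32 LD3_c10) (LK LD1_c3 LD2_c45 LD3_c44) Lrfl Lrfl
theorem f109297 : Led Lsl_af (LP (LK LD1_c7 LD2_c32 LD3_c10)) = (LP (LK LD1_c13 LD2_c17 LD3_c33)) :=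
  Lgr Lrot68 (Lpr_ct (f92405 IH) (Lpr_at (K4.f109291 IH) (Lpr_ct (f64660 IH) (Lpn (LP (LK LD1_c13 LD2_c17 LD3_c33))))))
theorem f109311 : Led Lsl_at (LP (LK LD1_c7 LD2_c32 LD3_c10)) = (LP (LK LD1_c13 LD2_c17 LD3_c33)) :=
  Lgr Lrot100 (Lpr_af (f109297 IH) (Lpn (LP (LK LD1_c13 LD2_c17 LD3_c33))))
theorem f460565 : Led Lsl_ff (LP (LK LD1_c7 LD2_c32 LD3_c10)) = (LP (LK LD1_c13 LD2_c22 LD3_c47)) :=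
  Lgr Lrot103 (Lpr_at (f109311 IH) (Lpe (f64660 IH) (Lpe (f64654 IH) (Lpe (K5.f109303 IH) (Lpe (f128071 IH) (Lpr_cf (K5.f128073 IH) (Lpe (K5.f87987 IH) (Lpe (f87978 IH) (Lpr_df (f460554 IH) (Lpn (LP (LK LD1_c13 LD2_c22 LD3_c47))))))))))))
theorem f460571 : Led Lsl_ft (LP (LK LD1_c7 LD2_c32 LD3_c10)) = (LP (LK LD1_c13 LD2_c22 LD3_c47)) :=
  Lgr Lrot48 (Lpr_ff (f460565 IH) (Lpn (LP (LK LD1_c13 LD2_c22 LD3_c47))))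
theorem f92417 : Led Lsl_ct (LP (LK LD1_c3 LD2_c45 LD3_c44)) = (LP (LK LD1_c7 LD2_c32 LD3_c10)) :=
  Lre_c IH (LK LD1_c3 LD2_c45 LD3_c44) (LK LD1_c7 LD2_c32 LD3_c10) Lrfl Lrfl
theorem f460511 : Led Lsl_ct (LP (LK LD1_c13 LD2_c22 LD3_c47)) = (LP (LK LD1_c7 LD2_c3 LD3_c21)) :=
  Lre_c IH (LK LD1_c13 LD2_c22 LD3_c47) (LK LD1_c7 LD2_c3 LD3_c21) Lrfl Lrfl
theorem f460576 : Led Lsl_ff (LP (LK LD1_c3 LD2_c45 LD3_c44)) = (LP (LK LD1_c7 LD2_c3 LD3_c21)) :=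
  Lgr Lrot23 (Lpr_ct (f92417 IH) (Lpr_ft (f460571 IH) (Lpr_ct (f460511 IH) (Lpn (LP (LK LD1_c7 LD2_c3 LD3_c21))))))
theorem f460583 : Led Lsl_gf (LP (LK LD1_c7 LD2_c0 LD3_c23)) = (LP (LK LD1_c3 LD2_c53 LD3_c23)) :=
  Lgr Lrot76 (Lpe (K4.f109291 IH) (Lpr_ff (f460576 IH) (Lpr_gt (f129829 IH) (Lpn (LP (LK LD1_c3 LD2_c53 LD3_c23))))))
theorem f12055 : Led Lsl_bt (LP (LK LD1_c0 LD2_c8 LD3_c50)) = (LP (LK LD1_c0 LD2_c13 LD3_c48)) :=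
  Lre_b IH (LK LD1_c0 LD2_c8 LD3_c50) (LK LD1_c0 LD2_c13 LD3_c48) Lrfl Lrfl
theorem f129648 : Led Lsl_gt (LP (LK LD1_c0 LD2_c10 LD3_c32)) = (LP (LK LD1_c0 LD2_c4 LD3_c58)) :=
  Lgr Lrot149 (Lpe (K3.f95986 IH) (Lpe (K3.f95741 IH) (Lpe (K2.f79138 IH) (Lpr_ct (K0.f23597 IH) (Lpe (K5.f124590 IH) (Lpr_cf (K5.f129634 IH) (Lpr_bt (K5.f102332 IH) (Lpe (K3.f103463 IH) (Lpe (f12055 IH) (Lpr_ct (K8.f13692 IH) (Lpn (LP (LK LD1_c0 LD2_c4 LD3_c58)))))))))))))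
theorem f95728 : Led Lsl_dt (LP (LK LD1_c0 LD2_c21 LD3_c10)) = (LP (LK LD1_c0 LD2_c10 LD3_c32)) :=
  Lgr Lrot120 (Lpe (K3.f11451 IH) (Lpe (K3.f17797 IH) (Lpr_cf (K3.f87808 IH) (Lpe (K3.f58414 IH) (Lpr_cf (K3.f95715 IH) (Lpe (K3.f85138 IH) (Lpr_ft (K3.f85146 IH) (Lpr_at (K3.f95552 IH) (Lpe (K3.f95727 IH) (Lpn (LP (LK LD1_c0 LD2_c10 LD3_c32))))))))))))
theorem f62735 : Led Lsl_et (LP (LK LD1_c0 LD2_c21 LD3_c13)) = (LP (LK LD1_c0 LD2_c9 LD3_c35)) :=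
  Lre_e IH (LK LD1_c0 LD2_c21 LD3_c13) (LK LD1_c0 LD2_c9 LD3_c35) Lrfl Lrfl
theorem f62721 : Led Lsl_dt (LP (LK LD1_c0 LD2_c21 LD3_c13)) = (LP (LK LD1_c0 LD2_c10 LD3_c41)) :=
  Lre_d IH (LK LD1_c0 LD2_c21 LD3_c13) (LK LD1_c0 LD2_c10 LD3_c41) Lrfl Lrfl
theorem f64990 : Led Lsl_dt (LP (LK LD1_c0 LD2_c53 LD3_c11)) = (LP (LK LD1_c0 LD2_c23 LD3_c56)) :=
  Lre_d IH (LK LD1_c0 LD2_c53 LD3_c11) (LK LD1_c0 LD2_c23 LD3_c56) Lrfl Lrfl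
theorem f62980 : Led Lsl_et (LP (LK LD1_c0 LD2_c10 LD3_c37)) = (LP (LK LD1_c0 LD2_c23 LD3_c42)) :=
  Lre_e IH (LK LD1_c0 LD2_c10 LD3_c37) (LK LD1_c0 LD2_c23 LD3_c42) Lrfl Lrfl
theorem f129651 : Led Lsl_et (LP (LK LD1_c0 LD2_c53 LD3_c11)) = (LP (LK LD1_c0 LD2_c52 LD3_c22)) :=
  Lgr Lrot122 (Lpr_dt (f64990 IH) (Lpr_gt (K5.f64989 IH) (Lpe (f62721 IH) (Lpr_et (f62735 IH) (Lpr_gt (K0.f11432 IH) (Lpr_dt (f95728 IH) (Lpr_gt (f129648 IH) (Lpe (K3.f12053 IH) (Lpr_et (f62980 IH) (Lpr_gt (f85281 IH) (Lpn (LP (LK LD1_c0 LD2_c52 LD3_c22)))))))))))))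
theorem f129667 : Led Lsl_ef (LP (LK LD1_c0 LD2_c53 LD3_c11)) = (LP (LK LD1_c0 LD2_c52 LD3_c22)) :=
  Lgr Lrot88 (Lpr_et (f129651 IH) (Lpn (LP (LK LD1_c0 LD2_c52 LD3_c22))))
theorem f129789 : Led Lsl_et (LP (LK LD1_c1 LD2_c53 LD3_c14)) = (LP (LK LD1_c1 LD2_c51 LD3_c0)) :=
  Lgr Lrot158 (Lpe (f129787 IH) (Lpr_ef (f129667 IH) (Lpe (f129788 IH) (Lpn (LP (LK LD1_c1 LD2_c51 LD3_c0))))))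
theorem f460592 : Led Lsl_gt (LP (LK LD1_c3 LD2_c33 LD3_c18)) = (LP (LK LD1_c1 LD2_c51 LD3_c0)) :=
  Lgr Lrot131 (Lpe (K5.f103960 IH) (Lpr_dt (K3.f103946 IH) (Lpe (K3.f17798 IH) (Lpe (K3.f17799 IH) (Lpe (K3.f63138 IH) (Lpe (K4.f64632 IH) (Lpr_dt (f64654 IH) (Lpr_gf (f460583 IH) (Lpe (f129828 IH) (Lpr_et (f129789 IH) (Lpn (LP (LK LD1_c1 LD2_c51 LD3_c0)))))))))))))
theorem f460158 : Led Lsl_ft (LP (LK LD1_c3 LD2_c33 LD3_c18)) = (LP (LK LD1_c1 LD2_c52 LD3_c60)) :=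
  Lgr Lrot54 (Lpe (K5.f103953 IH) (Lpr_ff (f460131 IH) (Lpe (f63036 IH) (Lpn (LP (LK LD1_c1 LD2_c52 LD3_c60))))))
theorem f129710 : Led Lsl_gt (LP (LK LD1_c1 LD2_c51 LD3_c0)) = (LP (LK LD1_c3 LD2_c48 LD3_c1)) :=
  Lre_g IH (LK LD1_c1 LD2_c51 LD3_c0) (LK LD1_c3 LD2_c48 LD3_c1) Lrfl Lrfl
theorem f460595 : Led Lsl_at (LP (LK LD1_c1 LD2_c52 LD3_c60)) = (LP (LK LD1_c3 LD2_c48 LD3_c1)) :=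
  Lgr Lrot26 (Lpe (f460158 IH) (Lpr_gt (f460592 IH) (Lpr_gt (f129710 IH) (Lpn (LP (LK LD1_c3 LD2_c48 LD3_c1))))))
theorem f460680 : Led Lsl_ff (LP (LK LD1_c1 LD2_c51 LD3_c15)) = (LP (LK LD1_c3 LD2_c48 LD3_c1)) :=
  Lgr Lrot30 (Lpe (K5.f127756 IH) (Lpr_ft (f460158 IH) (Lpr_at (f460595 IH) (Lpn (LP (LK LD1_c3 LD2_c48 LD3_c1))))))
theorem f460688 : Led Lsl_ft (LP (LK LD1_c1 LD2_c51 LD3_c15)) = (LP (LK LD1_c3 LD2_c48 LD3_c1)) :=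
  Lgr Lrot48 (Lpr_ff (f460680 IH) (Lpn (LP (LK LD1_c3 LD2_c48 LD3_c1))))
theorem f129709 : Led Lsl_dt (LP (LK LD1_c3 LD2_c48 LD3_c1)) = (LP (LK LD1_c7 LD2_c37 LD3_c8)) :=
  Lre_d IH (LK LD1_c3 LD2_c48 LD3_c1) (LK LD1_c7 LD2_c37 LD3_c8) Lrfl Lrfl
theorem f460692 : Led Lsl_ff (LP (LK LD1_c3 LD2_c48 LD3_c29)) = (LP (LK LD1_c7 LD2_c37 LD3_c8)) :=
  Lgr Lrot19 (Lpr_dt (K5.f87987 IH) (Lpr_ft (f460688 IH) (Lpr_dt (f129709 IH) (Lpn (LP (LK LD1_c7 LD2_c37 LD3_c8))))))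
theorem f129708 : Led Lsl_gt (LP (LK LD1_c7 LD2_c37 LD3_c8)) = (LP (LK LD1_c13 LD2_c17 LD3_c20)) :=
  Lre_g IH (LK LD1_c7 LD2_c37 LD3_c8) (LK LD1_c13 LD2_c17 LD3_c20) Lrfl Lrfl
theorem f460701 : Led Lsl_gf (LP (LK LD1_c7 LD2_c7 LD3_c32)) = (LP (LK LD1_c13 LD2_c17 LD3_c20)) :=
  Lgr Lrot76 (Lpr_af (K5.f127764 IH) (Lpr_ff (f460692 IH) (Lpr_gt (f129708 IH) (Lpn (LP (LK LD1_c13 LD2_c17 LD3_c20))))))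
theorem f129707 : Led Lsl_dt (LP (LK LD1_c7 LD2_c0 LD3_c14)) = (LP (LK LD1_c13 LD2_c17 LD3_c20)) :=
  Lre_d IH (LK LD1_c7 LD2_c0 LD3_c14) (LK LD1_c13 LD2_c17 LD3_c20) Lrfl Lrfl
theorem f18806 : Led Lsl_dt (LP (LK LD1_c1 LD2_c41 LD3_c20)) = (LP (LK LD1_c0 LD2_c52 LD3_c24)) :=
  Lre_d IH (LK LD1_c1 LD2_c41 LD3_c20) (LK LD1_c0 LD2_c52 LD3_c24) Lrfl Lrfl
theorem f18851 : Led Lsl_gt (LP (LK LD1_c1 LD2_c42 LD3_c2)) = (LP (LK LD1_c3 LD2_c28 LD3_c19)) :=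
  Lre_g IH (LK LD1_c1 LD2_c42 LD3_c2) (LK LD1_c3 LD2_c28 LD3_c19) Lrfl Lrfl
theorem f129671 : Led Lsl_gt (LP (LK LD1_c0 LD2_c52 LD3_c22)) = (LP (LK LD1_c0 LD2_c23 LD3_c57)) :=
  Lre_g IH (LK LD1_c0 LD2_c52 LD3_c22) (LK LD1_c0 LD2_c23 LD3_c57) Lrfl Lrfl
theorem f129674 : Led Lsl_dt (LP (LK LD1_c0 LD2_c23 LD3_c57)) = (LP (LK LD1_c0 LD2_c47 LD3_c30)) :=
  Lre_d IH (LK LD1_c0 LD2_c23 LD3_c57) (LK LD1_c0 LD2_c47 LD3_c30) Lrfl Lrfl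
theorem f18963 : Led Lsl_gt (LP (LK LD1_c0 LD2_c47 LD3_c30)) = (LP (LK LD1_c1 LD2_c41 LD3_c19)) :=
  Lre_g IH (LK LD1_c0 LD2_c47 LD3_c30) (LK LD1_c1 LD2_c41 LD3_c19) Lrfl Lrfl
theorem f129675 : Led Lsl_dt (LP (LK LD1_c3 LD2_c29 LD3_c16)) = (LP (LK LD1_c1 LD2_c41 LD3_c19)) :=
  Lre_d IH (LK LD1_c3 LD2_c29 LD3_c16) (LK LD1_c1 LD2_c41 LD3_c19) Lrfl Lrfl
theorem f129676 : Led Lsl_ef (LP (LK LD1_c1 LD2_c42 LD3_c2)) = (LP (LK LD1_c3 LD2_c29 LD3_c16)) :=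
  Lgr Lrot114 (Lpr_gt (f18851 IH) (Lpe (K3.f18808 IH) (Lpr_dt (f18806 IH) (Lpr_gt (K5.f64662 IH) (Lpe (f64990 IH) (Lpr_et (f129651 IH) (Lpr_gt (f129671 IH) (Lpr_dt (f129674 IH) (Lpr_gt (f18963 IH) (Lpe (f129675 IH) (Lpn (LP (LK LD1_c3 LD2_c29 LD3_c16)))))))))))))
theorem f129687 : Led Lsl_et (LP (LK LD1_c1 LD2_c42 LD3_c2)) = (LP (LK LD1_c3 LD2_c29 LD3_c16)) :=
  Lgr Lrot87 (Lpr_ef (f129676 IH) (Lpn (LP (LK LD1_c3 LD2_c29 LD3_c16))))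
theorem f18605 : Led Lsl_ct (LP (LK LD1_c3 LD2_c30 LD3_c61)) = (LP (LK LD1_c1 LD2_c42 LD3_c2)) :=
  Lre_c IH (LK LD1_c3 LD2_c30 LD3_c61) (LK LD1_c1 LD2_c42 LD3_c2) Lrfl Lrfl
theorem f129694 : Led Lsl_ct (LP (LK LD1_c3 LD2_c29 LD3_c16)) = (LP (LK LD1_c7 LD2_c0 LD3_c14)) :=
  Lre_c IH (LK LD1_c3 LD2_c29 LD3_c16) (LK LD1_c7 LD2_c0 LD3_c14) Lrfl Lrfl
theorem f129695 : Led Lsl_ef (LP (LK LD1_c3 LD2_c30 LD3_c61)) = (LP (LK LD1_c7 LD2_c0 LD3_c14)) :=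
  Lgr Lrot28 (Lpr_ct (f18605 IH) (Lpr_et (f129687 IH) (Lpr_ct (f129694 IH) (Lpn (LP (LK LD1_c7 LD2_c0 LD3_c14))))))
theorem f460705 : Led Lsl_gt (LP (LK LD1_c1 LD2_c50 LD3_c0)) = (LP (LK LD1_c3 LD2_c30 LD3_c61)) :=
  Lgr Lrot131 (Lpe (f93604 IH) (Lpr_dt (K3.f93603 IH) (Lpr_gf (K3.f93515 IH) (Lpe (K2.f63722 IH) (Lpe (K3.f89680 IH) (Lpe (K5.f12067 IH) (Lpr_dt (f12068 IH) (Lpr_gf (f460701 IH) (Lpe (f129707 IH) (Lpe (f129695 IH) (Lpn (LP (LK LD1_c3 LD2_c30 LD3_c61)))))))))))))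
theorem f111813 : Led Lsl_bt (LP (LK LD1_c3 LD2_c45 LD3_c48)) = (LP (LK LD1_c1 LD2_c50 LD3_c0)) :=
  Lre_b IH (LK LD1_c3 LD2_c45 LD3_c48) (LK LD1_c1 LD2_c50 LD3_c0) Lrfl Lrfl
theorem f103824 : Led Lsl_et (LP (LK LD1_c1 LD2_c49 LD3_c60)) = (LP (LK LD1_c3 LD2_c45 LD3_c48)) :=
  Lre_e IH (LK LD1_c1 LD2_c49 LD3_c60) (LK LD1_c3 LD2_c45 LD3_c48) Lrfl Lrfl
theorem f123651 : Led Lsl_et (LP (LK LD1_c3 LD2_c43 LD3_c58)) = (LP (LK LD1_c1 LD2_c49 LD3_c0)) :=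
  Lre_e IH (LK LD1_c3 LD2_c43 LD3_c58) (LK LD1_c1 LD2_c49 LD3_c0) Lrfl Lrfl
theorem f123652 : Led Lsl_ct (LP (LK LD1_c3 LD2_c45 LD3_c48)) = (LP (LK LD1_c3 LD2_c43 LD3_c58)) :=
  Lgr Lrot15 (Lpe (f103824 IH) (Lpr_cf (K4.f123644 IH) (Lpe (f123651 IH) (Lpn (LP (LK LD1_c3 LD2_c43 LD3_c58))))))
theorem f123827 : Led Lsl_gt (LP (LK LD1_c7 LD2_c28 LD3_c40)) = (LP (LK LD1_c3 LD2_c43 LD3_c58)) :=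
  Lre_g IH (LK LD1_c7 LD2_c28 LD3_c40) (LK LD1_c3 LD2_c43 LD3_c58) Lrfl Lrfl
theorem f123787 : Led Lsl_ct (LP (LK LD1_c14 LD2_c6 LD3_c59)) = (LP (LK LD1_c7 LD2_c28 LD3_c40)) :=
  Lre_c IH (LK LD1_c14 LD2_c6 LD3_c59) (LK LD1_c7 LD2_c28 LD3_c40) Lrfl Lrfl
theorem f18836 : Led Lsl_ct (LP (LK LD1_c6 LD2_c58 LD3_c47)) = (LP (LK LD1_c3 LD2_c28 LD3_c19)) :=
  Lre_c IH (LK LD1_c6 LD2_c58 LD3_c47) (LK LD1_c3 LD2_c28 LD3_c19) Lrfl Lrfl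
theorem f18835 : Led Lsl_bt (LP (LK LD1_c6 LD2_c58 LD3_c47)) = (LP (LK LD1_c13 LD2_c14 LD3_c55)) :=
  Lre_b IH (LK LD1_c6 LD2_c58 LD3_c47) (LK LD1_c13 LD2_c14 LD3_c55) Lrfl Lrfl
theorem f18857 : Led Lsl_ct (LP (LK LD1_c3 LD2_c28 LD3_c16)) = (LP (LK LD1_c1 LD2_c40 LD3_c46)) :=
  Lre_c IH (LK LD1_c3 LD2_c28 LD3_c16) (LK LD1_c1 LD2_c40 LD3_c46) Lrfl Lrfl
theorem f18588 : Led Lsl_bt (LP (LK LD1_c6 LD2_c58 LD3_c43)) = (LP (LK LD1_c3 LD2_c28 LD3_c16)) :=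
  Lre_b IH (LK LD1_c6 LD2_c58 LD3_c43) (LK LD1_c3 LD2_c28 LD3_c16) Lrfl Lrfl
theorem f18858 : Led Lsl_ct (LP (LK LD1_c1 LD2_c40 LD3_c46)) = (LP (LK LD1_c3 LD2_c28 LD3_c16)) :=
  Lre_c IH (LK LD1_c1 LD2_c40 LD3_c46) (LK LD1_c3 LD2_c28 LD3_c16) Lrfl Lrfl
theorem f18859 : Led Lsl_bt (LP (LK LD1_c3 LD2_c28 LD3_c16)) = (LP (LK LD1_c6 LD2_c58 LD3_c43)) :=
  Lre_b IH (LK LD1_c3 LD2_c28 LD3_c16) (LK LD1_c6 LD2_c58 LD3_c43) Lrfl Lrfl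
theorem f18860 : Led Lsl_cf (LP (LK LD1_c6 LD2_c58 LD3_c43)) = (LP (LK LD1_c6 LD2_c58 LD3_c43)) :=
  Lgr Lrot97 (Lpr_bt (f18588 IH) (Lpr_ct (f18857 IH) (Lpr_bt (K3.f18841 IH) (Lpr_ct (f18858 IH) (Lpr_bt (f18859 IH) (Lpn (LP (LK LD1_c6 LD2_c58 LD3_c43))))))))
theorem f18587 : Led Lsl_at (LP (LK LD1_c3 LD2_c28 LD3_c16)) = (LP (LK LD1_c1 LD2_c41 LD3_c54)) :=
  Lre_a IH (LK LD1_c3 LD2_c28 LD3_c16) (LK LD1_c1 LD2_c41 LD3_c54) Lrfl Lrfl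
theorem f18589 : Led Lsl_at (LP (LK LD1_c1 LD2_c38 LD3_c49)) = (LP (LK LD1_c3 LD2_c24 LD3_c29)) :=
  Lre_a IH (LK LD1_c1 LD2_c38 LD3_c49) (LK LD1_c3 LD2_c24 LD3_c29) Lrfl Lrfl
theorem f15796 : Led Lsl_bt (LP (LK LD1_c3 LD2_c24 LD3_c29)) = (LP (LK LD1_c6 LD2_c51 LD3_c33)) :=
  Lre_b IH (LK LD1_c3 LD2_c24 LD3_c29) (LK LD1_c6 LD2_c51 LD3_c33) Lrfl Lrfl
theorem f18590 : Led Lsl_af (LP (LK LD1_c6 LD2_c58 LD3_c43)) = (LP (LK LD1_c6 LD2_c51 LD3_c33)) :=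
  Lgr Lrot36 (Lpr_bt (f18588 IH) (Lpr_at (f18587 IH) (Lpr_bt (K2.f18573 IH) (Lpr_at (f18589 IH) (Lpr_bt (f15796 IH) (Lpn (LP (LK LD1_c6 LD2_c51 LD3_c33))))))))
theorem f15793 : Led Lsl_ct (LP (LK LD1_c3 LD2_c24 LD3_c29)) = (LP (LK LD1_c1 LD2_c38 LD3_c41)) :=
  Lre_c IH (LK LD1_c3 LD2_c24 LD3_c29) (LK LD1_c1 LD2_c38 LD3_c41) Lrfl Lrfl
theorem f15794 : Led Lsl_bt (LP (LK LD1_c6 LD2_c51 LD3_c33)) = (LP (LK LD1_c3 LD2_c24 LD3_c29)) :=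
  Lre_b IH (LK LD1_c6 LD2_c51 LD3_c33) (LK LD1_c3 LD2_c24 LD3_c29) Lrfl Lrfl
theorem f15797 : Led Lsl_cf (LP (LK LD1_c6 LD2_c51 LD3_c33)) = (LP (LK LD1_c6 LD2_c51 LD3_c33)) :=
  Lgr Lrot97 (Lpr_bt (f15794 IH) (Lpr_ct (f15793 IH) (Lpr_bt (K2.f15779 IH) (Lpr_ct (f15795 IH) (Lpr_bt (f15796 IH) (Lpn (LP (LK LD1_c6 LD2_c51 LD3_c33))))))))
theorem f18907 : Led Lsl_at (LP (LK LD1_c6 LD2_c58 LD3_c43)) = (LP (LK LD1_c6 LD2_c51 LD3_c33)) :=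
  Lgr Lrot107 (Lpr_cf (f18860 IH) (Lpr_af (f18590 IH) (Lpr_cf (f15797 IH) (Lpn (LP (LK LD1_c6 LD2_c51 LD3_c33))))))
theorem f18915 : Led Lsl_ft (LP (LK LD1_c13 LD2_c14 LD3_c55)) = (LP (LK LD1_c6 LD2_c58 LD3_c43)) :=
  Lre_f IH (LK LD1_c13 LD2_c14 LD3_c55) (LK LD1_c6 LD2_c58 LD3_c43) Lrfl Lrfl
theorem f15874 : Led Lsl_gt (LP (LK LD1_c13 LD2_c2 LD3_c50)) = (LP (LK LD1_c6 LD2_c51 LD3_c33)) :=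
  Lre_g IH (LK LD1_c13 LD2_c2 LD3_c50) (LK LD1_c6 LD2_c51 LD3_c33) Lrfl Lrfl
theorem f18930 : Led Lsl_gt (LP (LK LD1_c13 LD2_c14 LD3_c55)) = (LP (LK LD1_c13 LD2_c2 LD3_c50)) :=
  Lgr Lrot5 (Lpr_ft (f18915 IH) (Lpr_at (f18907 IH) (Lpe (f15874 IH) (Lpn (LP (LK LD1_c13 LD2_c2 LD3_c50))))))
theorem f460711 : Led Lsl_bt (LP (LK LD1_c14 LD2_c6 LD3_c59)) = (LP (LK LD1_c13 LD2_c2 LD3_c50)) :=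
  Lgr Lrot92 (Lpr_ct (f123787 IH) (Lpr_gt (f123827 IH) (Lpe (f123652 IH) (Lpr_bt (f111813 IH) (Lpr_gt (f460705 IH) (Lpr_ct (f18605 IH) (Lpr_gt (f18851 IH) (Lpe (f18836 IH) (Lpr_bt (f18835 IH) (Lpr_gt (f18930 IH) (Lpn (LP (LK LD1_c13 LD2_c2 LD3_c50)))))))))))))
theorem f123763 : Led Lsl_gt (LP (LK LD1_c14 LD2_c6 LD3_c46)) = (LP (LK LD1_c7 LD2_c28 LD3_c40)) :=
  Lre_g IH (LK LD1_c14 LD2_c6 LD3_c46) (LK LD1_c7 LD2_c28 LD3_c40) Lrfl Lrfl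
theorem f123728 : Led Lsl_ct (LP (LK LD1_c7 LD2_c32 LD3_c12)) = (LP (LK LD1_c7 LD2_c28 LD3_c34)) :=
  Lgr Lrot15 (Lpe (K4.f103786 IH) (Lpr_cf (K7.f123718 IH) (Lpe (K8.f123680 IH) (Lpn (LP (LK LD1_c7 LD2_c28 LD3_c34))))))
theorem f103796 : Led Lsl_ft (LP (LK LD1_c14 LD2_c12 LD3_c49)) = (LP (LK LD1_c7 LD2_c32 LD3_c12)) :=
  Lre_f IH (LK LD1_c14 LD2_c12 LD3_c49) (LK LD1_c7 LD2_c32 LD3_c12) Lrfl Lrfl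
theorem f123736 : Led Lsl_ft (LP (LK LD1_c7 LD2_c28 LD3_c34)) = (LP (LK LD1_c14 LD2_c6 LD3_c46)) :=
  Lre_f IH (LK LD1_c7 LD2_c28 LD3_c34) (LK LD1_c14 LD2_c6 LD3_c46) Lrfl Lrfl
theorem f123737 : Led Lsl_cf (LP (LK LD1_c14 LD2_c12 LD3_c49)) = (LP (LK LD1_c14 LD2_c6 LD3_c46)) :=
  Lgr Lrot108 (Lpr_ft (f103796 IH) (Lpr_ct (f123728 IH) (Lpr_ft (f123736 IH) (Lpn (LP (LK LD1_c14 LD2_c6 LD3_c46))))))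
theorem f123753 : Led Lsl_ct (LP (LK LD1_c14 LD2_c12 LD3_c49)) = (LP (LK LD1_c14 LD2_c6 LD3_c46)) :=
  Lgr Lrot59 (Lpr_cf (f123737 IH) (Lpn (LP (LK LD1_c14 LD2_c6 LD3_c46))))
theorem f111811 : Led Lsl_gt (LP (LK LD1_c13 LD2_c17 LD3_c24)) = (LP (LK LD1_c22 LD2_c33 LD3_c11)) :=
  Lre_g IH (LK LD1_c13 LD2_c17 LD3_c24) (LK LD1_c22 LD2_c33 LD3_c11) Lrfl Lrfl
theorem f15871 : Led Lsl_gt (LP (LK LD1_c6 LD2_c51 LD3_c33)) = (LP (LK LD1_c13 LD2_c2 LD3_c49)) :=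
  Lre_g IH (LK LD1_c6 LD2_c51 LD3_c33) (LK LD1_c13 LD2_c2 LD3_c49) Lrfl Lrfl
theorem f15882 : Led Lsl_ct (LP (LK LD1_c22 LD2_c12 LD3_c28)) = (LP (LK LD1_c13 LD2_c2 LD3_c49)) :=
  Lre_c IH (LK LD1_c22 LD2_c12 LD3_c28) (LK LD1_c13 LD2_c2 LD3_c49) Lrfl Lrfl
theorem f460721 : Led Lsl_bf (LP (LK LD1_c13 LD2_c17 LD3_c24)) = (LP (LK LD1_c22 LD2_c12 LD3_c28)) :=
  Lgr Lrot156 (Lpr_gt (f111811 IH) (Lpe (K4.f111804 IH) (Lpr_ct (f123753 IH) (Lpr_gt (f123763 IH) (Lpe (f123787 IH) (Lpr_bt (f460711 IH) (Lpr_gt (f15874 IH) (Lpe (f15797 IH) (Lpr_gt (f15871 IH) (Lpe (f15882 IH) (Lpn (LP (LK LD1_c22 LD2_c12 LD3_c28)))))))))))))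
theorem f17823 : Led Lsl_gt (LP (LK LD1_c7 LD2_c0 LD3_c19)) = (LP (LK LD1_c13 LD2_c17 LD3_c24)) :=
  Lre_g IH (LK LD1_c7 LD2_c0 LD3_c19) (LK LD1_c13 LD2_c17 LD3_c24) Lrfl Lrfl
theorem f17807 : Led Lsl_bt (LP (LK LD1_c3 LD2_c29 LD3_c21)) = (LP (LK LD1_c7 LD2_c0 LD3_c19)) :=
  Lre_b IH (LK LD1_c3 LD2_c29 LD3_c21) (LK LD1_c7 LD2_c0 LD3_c19) Lrfl Lrfl
theorem f17810 : Led Lsl_cf (LP (LK LD1_c1 LD2_c44 LD3_c50)) = (LP (LK LD1_c3 LD2_c29 LD3_c21)) :=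
  Lgr Lrot11 (Lpr_ct (K4.f17795 IH) (Lpn (LP (LK LD1_c3 LD2_c29 LD3_c21))))
theorem f17821 : Led Lsl_gt (LP (LK LD1_c3 LD2_c35 LD3_c58)) = (LP (LK LD1_c1 LD2_c44 LD3_c50)) :=
  Lre_g IH (LK LD1_c3 LD2_c35 LD3_c58) (LK LD1_c1 LD2_c44 LD3_c50) Lrfl Lrfl
theorem f18539 : Led Lsl_at (LP (LK LD1_c6 LD2_c58 LD3_c47)) = (LP (LK LD1_c3 LD2_c30 LD3_c31)) :=
  Lre_a IH (LK LD1_c6 LD2_c58 LD3_c47) (LK LD1_c3 LD2_c30 LD3_c31) Lrfl Lrfl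
theorem f18540 : Led Lsl_bt (LP (LK LD1_c13 LD2_c14 LD3_c55)) = (LP (LK LD1_c6 LD2_c58 LD3_c47)) :=
  Lre_b IH (LK LD1_c13 LD2_c14 LD3_c55) (LK LD1_c6 LD2_c58 LD3_c47) Lrfl Lrfl
theorem f18201 : Led Lsl_at (LP (LK LD1_c3 LD2_c24 LD3_c48)) = (LP (LK LD1_c6 LD2_c51 LD3_c37)) :=
  Lre_a IH (LK LD1_c3 LD2_c24 LD3_c48) (LK LD1_c6 LD2_c51 LD3_c37) Lrfl Lrfl
theorem f18541 : Led Lsl_af (LP (LK LD1_c13 LD2_c14 LD3_c55)) = (LP (LK LD1_c13 LD2_c2 LD3_c52)) :=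
  Lgr Lrot36 (Lpr_bt (f18540 IH) (Lpr_at (f18539 IH) (Lpr_bt (K2.f18389 IH) (Lpr_at (f18201 IH) (Lpr_bt (K2.f15817 IH) (Lpn (LP (LK LD1_c13 LD2_c2 LD3_c52))))))))
theorem f19053 : Led Lsl_gf (LP (LK LD1_c13 LD2_c14 LD3_c55)) = (LP (LK LD1_c13 LD2_c2 LD3_c49)) :=
  Lgr Lrot76 (Lpr_af (f18541 IH) (Lpe (K2.f15842 IH) (Lpr_gt (f15871 IH) (Lpn (LP (LK LD1_c13 LD2_c2 LD3_c49))))))
theorem f18834 : Led Lsl_ct (LP (LK LD1_c3 LD2_c28 LD3_c19)) = (LP (LK LD1_c6 LD2_c58 LD3_c47)) :=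
  Lre_c IH (LK LD1_c3 LD2_c28 LD3_c19) (LK LD1_c6 LD2_c58 LD3_c47) Lrfl Lrfl
theorem f18837 : Led Lsl_ct (LP (LK LD1_c13 LD2_c14 LD3_c55)) = (LP (LK LD1_c13 LD2_c14 LD3_c55)) :=
  Lgr Lrot83 (Lpe (f18835 IH) (Lpe (f18834 IH) (Lpr_bf (K3.f18809 IH) (Lpe (f18836 IH) (Lpe (f18540 IH) (Lpn (LP (LK LD1_c13 LD2_c14 LD3_c55))))))))
theorem f18853 : Led Lsl_gt (LP (LK LD1_c6 LD2_c58 LD3_c47)) = (LP (LK LD1_c3 LD2_c30 LD3_c33)) :=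
  Lre_g IH (LK LD1_c6 LD2_c58 LD3_c47) (LK LD1_c3 LD2_c30 LD3_c33) Lrfl Lrfl
theorem f460728 : Led Lsl_cf (LP (LK LD1_c3 LD2_c35 LD3_c58)) = (LP (LK LD1_c3 LD2_c30 LD3_c33)) :=
  Lgr Lrot125 (Lpr_gt (f17821 IH) (Lpr_cf (f17810 IH) (Lpr_bt (f17807 IH) (Lpr_gt (f17823 IH) (Lpr_bf (f460721 IH) (Lpr_ct (f15882 IH) (Lpe (f19053 IH) (Lpe (f18837 IH) (Lpr_bt (f18540 IH) (Lpr_gt (f18853 IH) (Lpn (LP (LK LD1_c3 LD2_c30 LD3_c33)))))))))))))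
theorem f460730 : Led Lsl_ct (LP (LK LD1_c3 LD2_c35 LD3_c58)) = (LP (LK LD1_c3 LD2_c30 LD3_c33)) :=
  Lgr Lrot59 (Lpr_cf (f460728 IH) (Lpn (LP (LK LD1_c3 LD2_c30 LD3_c33))))
theorem f130690 : Led Lsl_gt (LP (LK LD1_c0 LD2_c48 LD3_c7)) = (LP (LK LD1_c1 LD2_c34 LD3_c27)) :=
  Lgr Lrot49 (Lpe (K3.f84712 IH) (Lpr_gf (K2.f84709 IH) (Lpe (K2.f61996 IH) (Lpr_gt (K1.f21160 IH) (Lpr_dt (K3.f62003 IH) (Lpr_gt (K3.f23036 IH) (Lpr_dt (K5.f130684 IH) (Lpe (K3.f103565 IH) (Lpe (K3.f98647 IH) (Lpn (LP (LK LD1_c1 LD2_c34 LD3_c27))))))))))))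
theorem f108675 : Led Lsl_ff (LP (LK LD1_c0 LD2_c49 LD3_c5)) = (LP (LK LD1_c0 LD2_c48 LD3_c7)) :=
  Lgr Lrot3 (Lpr_ft (K3.f108669 IH) (Lpn (LP (LK LD1_c0 LD2_c48 LD3_c7))))
theorem f130692 : Led Lsl_at (LP (LK LD1_c0 LD2_c49 LD3_c5)) = (LP (LK LD1_c1 LD2_c39 LD3_c20)) :=
  Lgr Lrot26 (Lpr_ff (f108675 IH) (Lpr_gt (f130690 IH) (Lpe (K3.f103566 IH) (Lpn (LP (LK LD1_c1 LD2_c39 LD3_c20))))))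
theorem f17937 : Led Lsl_et (LP (LK LD1_c1 LD2_c44 LD3_c50)) = (LP (LK LD1_c0 LD2_c49 LD3_c5)) :=
  Lre_e IH (LK LD1_c1 LD2_c44 LD3_c50) (LK LD1_c0 LD2_c49 LD3_c5) Lrfl Lrfl
theorem f109158 : Led Lsl_et (LP (LK LD1_c1 LD2_c39 LD3_c20)) = (LP (LK LD1_c3 LD2_c25 LD3_c25)) :=
  Lre_e IH (LK LD1_c1 LD2_c39 LD3_c20) (LK LD1_c3 LD2_c25 LD3_c25) Lrfl Lrfl
theorem f130694 : Led Lsl_af (LP (LK LD1_c1 LD2_c44 LD3_c50)) = (LP (LK LD1_c3 LD2_c25 LD3_c25)) :=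
  Lgr Lrot50 (Lpr_et (f17937 IH) (Lpr_at (f130692 IH) (Lpr_et (f109158 IH) (Lpn (LP (LK LD1_c3 LD2_c25 LD3_c25))))))
theorem f130702 : Led Lsl_ft (LP (LK LD1_c6 LD2_c53 LD3_c0)) = (LP (LK LD1_c3 LD2_c25 LD3_c25)) :=
  Lre_f IH (LK LD1_c6 LD2_c53 LD3_c0) (LK LD1_c3 LD2_c25 LD3_c25) Lrfl Lrfl
theorem f130705 : Led Lsl_gf (LP (LK LD1_c3 LD2_c35 LD3_c58)) = (LP (LK LD1_c6 LD2_c53 LD3_c0)) :=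
  Lgr Lrot47 (Lpr_gt (f17821 IH) (Lpr_af (f130694 IH) (Lpe (f130702 IH) (Lpn (LP (LK LD1_c6 LD2_c53 LD3_c0))))))
theorem f17849 : Led Lsl_ft (LP (LK LD1_c1 LD2_c44 LD3_c50)) = (LP (LK LD1_c3 LD2_c35 LD3_c59)) :=
  Lre_f IH (LK LD1_c1 LD2_c44 LD3_c50) (LK LD1_c3 LD2_c35 LD3_c59) Lrfl Lrfl
theorem f130703 : Led Lsl_at (LP (LK LD1_c3 LD2_c35 LD3_c59)) = (LP (LK LD1_c6 LD2_c53 LD3_c0)) :=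
  Lgr Lrot66 (Lpe (f17849 IH) (Lpr_af (f130694 IH) (Lpe (f130702 IH) (Lpn (LP (LK LD1_c6 LD2_c53 LD3_c0))))))
theorem f111801 : Led Lsl_at (LP (LK LD1_c3 LD2_c45 LD3_c51)) = (LP (LK LD1_c7 LD2_c0 LD3_c21)) :=
  Lgr Lrot100 (Lpr_af (K4.f111726 IH) (Lpn (LP (LK LD1_c7 LD2_c0 LD3_c21))))
theorem f130711 : Led Lsl_cf (LP (LK LD1_c3 LD2_c45 LD3_c51)) = (LP (LK LD1_c6 LD2_c53 LD3_c0)) :=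
  Lgr Lrot1 (Lpr_at (f111801 IH) (Lpe (K4.f17816 IH) (Lpr_at (f130703 IH) (Lpn (LP (LK LD1_c6 LD2_c53 LD3_c0))))))
theorem f130724 : Led Lsl_ct (LP (LK LD1_c3 LD2_c45 LD3_c51)) = (LP (LK LD1_c6 LD2_c53 LD3_c0)) :=
  Lgr Lrot59 (Lpr_cf (f130711 IH) (Lpn (LP (LK LD1_c6 LD2_c53 LD3_c0))))
theorem f123788 : Led Lsl_bt (LP (LK LD1_c7 LD2_c32 LD3_c18)) = (LP (LK LD1_c3 LD2_c45 LD3_c51)) :=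
  Lre_b IH (LK LD1_c7 LD2_c32 LD3_c18) (LK LD1_c3 LD2_c45 LD3_c51) Lrfl Lrfl
theorem f123771 : Led Lsl_at (LP (LK LD1_c14 LD2_c6 LD3_c46)) = (LP (LK LD1_c7 LD2_c28 LD3_c42)) :=
  Lre_a IH (LK LD1_c14 LD2_c6 LD3_c46) (LK LD1_c7 LD2_c28 LD3_c42) Lrfl Lrfl
theorem f123772 : Led Lsl_cf (LP (LK LD1_c7 LD2_c32 LD3_c18)) = (LP (LK LD1_c7 LD2_c28 LD3_c42)) :=
  Lgr Lrot1 (Lpr_at (K4.f103808 IH) (Lpr_ct (f123753 IH) (Lpr_at (f123771 IH) (Lpn (LP (LK LD1_c7 LD2_c28 LD3_c42))))))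
theorem f123789 : Led Lsl_bt (LP (LK LD1_c3 LD2_c43 LD3_c61)) = (LP (LK LD1_c7 LD2_c28 LD3_c42)) :=
  Lre_b IH (LK LD1_c3 LD2_c43 LD3_c61) (LK LD1_c7 LD2_c28 LD3_c42) Lrfl Lrfl
theorem f108323 : Led Lsl_dt (LP (LK LD1_c3 LD2_c36 LD3_c11)) = (LP (LK LD1_c7 LD2_c12 LD3_c45)) :=
  Lre_d IH (LK LD1_c3 LD2_c36 LD3_c11) (LK LD1_c7 LD2_c12 LD3_c45) Lrfl Lrfl
theorem f108324 : Led Lsl_ct (LP (LK LD1_c7 LD2_c12 LD3_c45)) = (LP (LK LD1_c13 LD2_c39 LD3_c8)) :=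
  Lre_c IH (LK LD1_c7 LD2_c12 LD3_c45) (LK LD1_c13 LD2_c39 LD3_c8) Lrfl Lrfl
theorem f98569 : Led Lsl_ct (LP (LK LD1_c0 LD2_c48 LD3_c2)) = (LP (LK LD1_c1 LD2_c42 LD3_c53)) :=
  Lre_c IH (LK LD1_c0 LD2_c48 LD3_c2) (LK LD1_c1 LD2_c42 LD3_c53) Lrfl Lrfl
theorem f98567 : Led Lsl_dt (LP (LK LD1_c1 LD2_c42 LD3_c55)) = (LP (LK LD1_c0 LD2_c48 LD3_c2)) :=
  Lre_d IH (LK LD1_c1 LD2_c42 LD3_c55) (LK LD1_c0 LD2_c48 LD3_c2) Lrfl Lrfl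
theorem f108325 : Led Lsl_ct (LP (LK LD1_c3 LD2_c32 LD3_c28)) = (LP (LK LD1_c1 LD2_c42 LD3_c55)) :=
  Lre_c IH (LK LD1_c3 LD2_c32 LD3_c28) (LK LD1_c1 LD2_c42 LD3_c55) Lrfl Lrfl
theorem f108326 : Led Lsl_dt (LP (LK LD1_c7 LD2_c5 LD3_c57)) = (LP (LK LD1_c3 LD2_c32 LD3_c28)) :=
  Lre_d IH (LK LD1_c7 LD2_c5 LD3_c57) (LK LD1_c3 LD2_c32 LD3_c28) Lrfl Lrfl
theorem f108327 : Led Lsl_ct (LP (LK LD1_c13 LD2_c27 LD3_c15)) = (LP (LK LD1_c7 LD2_c5 LD3_c57)) :=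
  Lre_c IH (LK LD1_c13 LD2_c27 LD3_c15) (LK LD1_c7 LD2_c5 LD3_c57) Lrfl Lrfl
theorem f108328 : Led Lsl_dt (LP (LK LD1_c13 LD2_c39 LD3_c8)) = (LP (LK LD1_c13 LD2_c27 LD3_c15)) :=
  Lgr Lrot32 (Lpe (f108324 IH) (Lpe (f108323 IH) (Lpr_ft (K3.f108318 IH) (Lpr_at (K3.f108308 IH) (Lpe (f98569 IH) (Lpe (f98567 IH) (Lpe (f108325 IH) (Lpe (f108326 IH) (Lpe (f108327 IH) (Lpn (LP (LK LD1_c13 LD2_c27 LD3_c15))))))))))))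
theorem f108341 : Led Lsl_ft (LP (LK LD1_c13 LD2_c39 LD3_c8)) = (LP (LK LD1_c7 LD2_c12 LD3_c44)) :=
  Lre_f IH (LK LD1_c13 LD2_c39 LD3_c8) (LK LD1_c7 LD2_c12 LD3_c44) Lrfl Lrfl
theorem f98570 : Led Lsl_ct (LP (LK LD1_c3 LD2_c32 LD3_c23)) = (LP (LK LD1_c7 LD2_c5 LD3_c50)) :=
  Lre_c IH (LK LD1_c3 LD2_c32 LD3_c23) (LK LD1_c7 LD2_c5 LD3_c50) Lrfl Lrfl
theorem f108342 : Led Lsl_at (LP (LK LD1_c7 LD2_c12 LD3_c44)) = (LP (LK LD1_c7 LD2_c5 LD3_c50)) :=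
  Lgr Lrot33 (Lpe (f108341 IH) (Lpr_dt (f108328 IH) (Lpr_ct (f108327 IH) (Lpr_dt (f108326 IH) (Lpr_ct (f108325 IH) (Lpr_dt (f98567 IH) (Lpr_ct (f98569 IH) (Lpr_dt (K8.f98547 IH) (Lpr_ct (f98570 IH) (Lpn (LP (LK LD1_c7 LD2_c5 LD3_c50))))))))))))
theorem f108354 : Led Lsl_ft (LP (LK LD1_c7 LD2_c5 LD3_c50)) = (LP (LK LD1_c13 LD2_c27 LD3_c6)) :=
  Lre_f IH (LK LD1_c7 LD2_c5 LD3_c50) (LK LD1_c13 LD2_c27 LD3_c6) Lrfl Lrfl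
theorem f108355 : Led Lsl_af (LP (LK LD1_c13 LD2_c39 LD3_c8)) = (LP (LK LD1_c13 LD2_c27 LD3_c6)) :=
  Lgr Lrot45 (Lpr_ft (f108341 IH) (Lpr_at (f108342 IH) (Lpr_ft (f108354 IH) (Lpn (LP (LK LD1_c13 LD2_c27 LD3_c6))))))
theorem f108360 : Led Lsl_ct (LP (LK LD1_c13 LD2_c39 LD3_c8)) = (LP (LK LD1_c7 LD2_c12 LD3_c45)) :=
  Lre_c IH (LK LD1_c13 LD2_c39 LD3_c8) (LK LD1_c7 LD2_c12 LD3_c45) Lrfl Lrfl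
theorem f108370 : Led Lsl_ct (LP (LK LD1_c7 LD2_c5 LD3_c51)) = (LP (LK LD1_c13 LD2_c27 LD3_c6)) :=
  Lre_c IH (LK LD1_c7 LD2_c5 LD3_c51) (LK LD1_c13 LD2_c27 LD3_c6) Lrfl Lrfl
theorem f108371 : Led Lsl_at (LP (LK LD1_c7 LD2_c12 LD3_c45)) = (LP (LK LD1_c7 LD2_c5 LD3_c51)) :=
  Lgr Lrot107 (Lpe (f108360 IH) (Lpr_af (f108355 IH) (Lpe (f108370 IH) (Lpn (LP (LK LD1_c7 LD2_c5 LD3_c51))))))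
theorem f108376 : Led Lsl_af (LP (LK LD1_c7 LD2_c12 LD3_c45)) = (LP (LK LD1_c7 LD2_c5 LD3_c51)) :=
  Lgr Lrot0 (Lpr_at (f108371 IH) (Lpn (LP (LK LD1_c7 LD2_c5 LD3_c51))))
theorem f108375 : Led Lsl_dt (LP (LK LD1_c7 LD2_c12 LD3_c45)) = (LP (LK LD1_c3 LD2_c36 LD3_c11)) :=
  Lre_d IH (LK LD1_c7 LD2_c12 LD3_c45) (LK LD1_c3 LD2_c36 LD3_c11) Lrfl Lrfl
theorem f108387 : Led Lsl_at (LP (LK LD1_c3 LD2_c36 LD3_c11)) = (LP (LK LD1_c3 LD2_c32 LD3_c24)) :=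
  Lgr Lrot51 (Lpe (f108375 IH) (Lpr_af (f108376 IH) (Lpe (K8.f108252 IH) (Lpn (LP (LK LD1_c3 LD2_c32 LD3_c24))))))
theorem f17829 : Led Lsl_ct (LP (LK LD1_c1 LD2_c44 LD3_c59)) = (LP (LK LD1_c3 LD2_c36 LD3_c11)) :=
  Lre_c IH (LK LD1_c1 LD2_c44 LD3_c59) (LK LD1_c3 LD2_c36 LD3_c11) Lrfl Lrfl
theorem f108258 : Led Lsl_ct (LP (LK LD1_c3 LD2_c32 LD3_c24)) = (LP (LK LD1_c1 LD2_c42 LD3_c56)) :=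
  Lre_c IH (LK LD1_c3 LD2_c32 LD3_c24) (LK LD1_c1 LD2_c42 LD3_c56) Lrfl Lrfl
theorem f108413 : Led Lsl_af (LP (LK LD1_c1 LD2_c44 LD3_c59)) = (LP (LK LD1_c1 LD2_c42 LD3_c56)) :=
  Lgr Lrot68 (Lpr_ct (f17829 IH) (Lpr_at (f108387 IH) (Lpr_ct (f108258 IH) (Lpn (LP (LK LD1_c1 LD2_c42 LD3_c56))))))
theorem f108294 : Led Lsl_bt (LP (LK LD1_c3 LD2_c32 LD3_c6)) = (LP (LK LD1_c1 LD2_c42 LD3_c56)) :=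
  Lre_b IH (LK LD1_c3 LD2_c32 LD3_c6) (LK LD1_c1 LD2_c42 LD3_c56) Lrfl Lrfl
theorem f116023 : Led Lsl_et (LP (LK LD1_c1 LD2_c39 LD3_c36)) = (LP (LK LD1_c3 LD2_c25 LD3_c56)) :=
  Lre_e IH (LK LD1_c1 LD2_c39 LD3_c36) (LK LD1_c3 LD2_c25 LD3_c56) Lrfl Lrfl
theorem f116014 : Led Lsl_dt (LP (LK LD1_c3 LD2_c25 LD3_c56)) = (LP (LK LD1_c6 LD2_c53 LD3_c42)) :=
  Lre_d IH (LK LD1_c3 LD2_c25 LD3_c56) (LK LD1_c6 LD2_c53 LD3_c42) Lrfl Lrfl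
theorem f116024 : Led Lsl_et (LP (LK LD1_c6 LD2_c53 LD3_c42)) = (LP (LK LD1_c3 LD2_c32 LD3_c2)) :=
  Lgr Lrot71 (Lpe (f116014 IH) (Lpe (f116023 IH) (Lpr_df (K4.f116015 IH) (Lpe (K3.f95933 IH) (Lpe (K3.f95936 IH) (Lpn (LP (LK LD1_c3 LD2_c32 LD3_c2))))))))
theorem f116028 : Led Lsl_ef (LP (LK LD1_c6 LD2_c53 LD3_c42)) = (LP (LK LD1_c3 LD2_c32 LD3_c2)) :=
  Lgr Lrot88 (Lpr_et (f116024 IH) (Lpn (LP (LK LD1_c3 LD2_c32 LD3_c2))))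
theorem f107595 : Led Lsl_et (LP (LK LD1_c3 LD2_c32 LD3_c5)) = (LP (LK LD1_c1 LD2_c42 LD3_c45)) :=
  Lre_e IH (LK LD1_c3 LD2_c32 LD3_c5) (LK LD1_c1 LD2_c42 LD3_c45) Lrfl Lrfl
theorem f116032 : Led Lsl_at (LP (LK LD1_c6 LD2_c53 LD3_c42)) = (LP (LK LD1_c3 LD2_c32 LD3_c5)) :=
  Lgr Lrot80 (Lpr_ef (f116028 IH) (Lpe (K3.f95959 IH) (Lpe (f107595 IH) (Lpn (LP (LK LD1_c3 LD2_c32 LD3_c5))))))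
theorem f116035 : Led Lsl_dt (LP (LK LD1_c3 LD2_c32 LD3_c5)) = (LP (LK LD1_c1 LD2_c42 LD3_c43)) :=
  Lre_d IH (LK LD1_c3 LD2_c32 LD3_c5) (LK LD1_c1 LD2_c42 LD3_c43) Lrfl Lrfl
theorem f116036 : Led Lsl_af (LP (LK LD1_c3 LD2_c25 LD3_c56)) = (LP (LK LD1_c1 LD2_c42 LD3_c43)) :=
  Lgr Lrot117 (Lpr_dt (f116014 IH) (Lpr_at (f116032 IH) (Lpr_dt (f116035 IH) (Lpn (LP (LK LD1_c1 LD2_c42 LD3_c43))))))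
theorem f116040 : Led Lsl_ft (LP (LK LD1_c3 LD2_c25 LD3_c56)) = (LP (LK LD1_c6 LD2_c53 LD3_c43)) :=
  Lre_f IH (LK LD1_c3 LD2_c25 LD3_c56) (LK LD1_c6 LD2_c53 LD3_c43) Lrfl Lrfl
theorem f108296 : Led Lsl_ft (LP (LK LD1_c3 LD2_c32 LD3_c6)) = (LP (LK LD1_c1 LD2_c42 LD3_c43)) :=
  Lre_f IH (LK LD1_c3 LD2_c32 LD3_c6) (LK LD1_c1 LD2_c42 LD3_c43) Lrfl Lrfl
theorem f116041 : Led Lsl_at (LP (LK LD1_c6 LD2_c53 LD3_c43)) = (LP (LK LD1_c3 LD2_c32 LD3_c6)) :=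
  Lgr Lrot66 (Lpe (f116040 IH) (Lpr_af (f116036 IH) (Lpe (f108296 IH) (Lpn (LP (LK LD1_c3 LD2_c32 LD3_c6))))))
theorem f130709 : Led Lsl_bf (LP (LK LD1_c6 LD2_c53 LD3_c43)) = (LP (LK LD1_c6 LD2_c53 LD3_c0)) :=
  Lgr Lrot81 (Lpr_at (f116041 IH) (Lpr_bt (f108294 IH) (Lpe (f108413 IH) (Lpr_bt (K4.f17842 IH) (Lpr_at (f130703 IH) (Lpn (LP (LK LD1_c6 LD2_c53 LD3_c0))))))))
theorem f130726 : Led Lsl_cf (LP (LK LD1_c3 LD2_c43 LD3_c61)) = (LP (LK LD1_c6 LD2_c53 LD3_c43)) :=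
  Lgr Lrot97 (Lpr_bt (f123789 IH) (Lpe (f123772 IH) (Lpr_bt (f123788 IH) (Lpr_ct (f130724 IH) (Lpe (f130709 IH) (Lpn (LP (LK LD1_c6 LD2_c53 LD3_c43))))))))
theorem f130742 : Led Lsl_ct (LP (LK LD1_c3 LD2_c43 LD3_c61)) = (LP (LK LD1_c6 LD2_c53 LD3_c43)) :=
  Lgr Lrot59 (Lpr_cf (f130726 IH) (Lpn (LP (LK LD1_c6 LD2_c53 LD3_c43))))
theorem f123804 : Led Lsl_bt (LP (LK LD1_c7 LD2_c28 LD3_c42)) = (LP (LK LD1_c3 LD2_c43 LD3_c61)) :=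
  Lre_b IH (LK LD1_c7 LD2_c28 LD3_c42) (LK LD1_c3 LD2_c43 LD3_c61) Lrfl Lrfl
theorem f103799 : Led Lsl_at (LP (LK LD1_c14 LD2_c12 LD3_c49)) = (LP (LK LD1_c7 LD2_c32 LD3_c18)) :=
  Lre_a IH (LK LD1_c14 LD2_c12 LD3_c49) (LK LD1_c7 LD2_c32 LD3_c18) Lrfl Lrfl
theorem f123750 : Led Lsl_at (LP (LK LD1_c7 LD2_c28 LD3_c42)) = (LP (LK LD1_c14 LD2_c6 LD3_c46)) :=
  Lre_a IH (LK LD1_c7 LD2_c28 LD3_c42) (LK LD1_c14 LD2_c6 LD3_c46) Lrfl Lrfl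
theorem f123751 : Led Lsl_ct (LP (LK LD1_c7 LD2_c32 LD3_c18)) = (LP (LK LD1_c7 LD2_c28 LD3_c42)) :=
  Lgr Lrot111 (Lpe (f103799 IH) (Lpr_cf (f123737 IH) (Lpe (f123750 IH) (Lpn (LP (LK LD1_c7 LD2_c28 LD3_c42))))))
theorem f130748 : Led Lsl_bf (LP (LK LD1_c6 LD2_c53 LD3_c0)) = (LP (LK LD1_c6 LD2_c53 LD3_c43)) :=
  Lgr Lrot90 (Lpe (f130711 IH) (Lpr_bt (K4.f111803 IH) (Lpr_ct (f123751 IH) (Lpr_bt (f123804 IH) (Lpr_ct (f130742 IH) (Lpn (LP (LK LD1_c6 LD2_c53 LD3_c43))))))))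
theorem f19076 : Led Lsl_gt (LP (LK LD1_c3 LD2_c30 LD3_c33)) = (LP (LK LD1_c1 LD2_c41 LD3_c54)) :=
  Lre_g IH (LK LD1_c3 LD2_c30 LD3_c33) (LK LD1_c1 LD2_c41 LD3_c54) Lrfl Lrfl
theorem f18855 : Led Lsl_bt (LP (LK LD1_c0 LD2_c47 LD3_c31)) = (LP (LK LD1_c0 LD2_c21 LD3_c21)) :=
  Lre_b IH (LK LD1_c0 LD2_c47 LD3_c31) (LK LD1_c0 LD2_c21 LD3_c21) Lrfl Lrfl
theorem f455645 : Led Lsl_bt (LP (LK LD1_c1 LD2_c42 LD3_c20)) = (LP (LK LD1_c0 LD2_c47 LD3_c40)) :=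
  Lre_b IH (LK LD1_c1 LD2_c42 LD3_c20) (LK LD1_c0 LD2_c47 LD3_c40) Lrfl Lrfl
theorem f455650 : Led Lsl_ct (LP (LK LD1_c1 LD2_c42 LD3_c20)) = (LP (LK LD1_c3 LD2_c31 LD3_c27)) :=
  Lre_c IH (LK LD1_c1 LD2_c42 LD3_c20) (LK LD1_c3 LD2_c31 LD3_c27) Lrfl Lrfl
theorem f460752 : Led Lsl_gf (LP (LK LD1_c3 LD2_c43 LD3_c61)) = (LP (LK LD1_c3 LD2_c31 LD3_c27)) :=
  Lgr Lrot126 (Lpr_cf (f130726 IH) (Lpe (f130748 IH) (Lpe (f130705 IH) (Lpr_ct (f460730 IH) (Lpr_gt (f19076 IH) (Lpe (K2.f18571 IH) (Lpr_bt (f18855 IH) (Lpr_gt (f450726 IH) (Lpq (f457660 IH) (Lpe (f455645 IH) (Lpr_ct (f455650 IH) (Lpn (LP (LK LD1_c3 LD2_c31 LD3_c27))))))))))))))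
theorem f146936 : Led Lsl_at (LP (LK LD1_c3 LD2_c41 LD3_c24)) = (LP (LK LD1_c3 LD2_c43 LD3_c61)) :=
  Lgr Lrot100 (Lpr_af (K8.f146932 IH) (Lpn (LP (LK LD1_c3 LD2_c43 LD3_c61))))
theorem f147424 : Led Lsl_ft (LP (LK LD1_c1 LD2_c47 LD3_c37)) = (LP (LK LD1_c3 LD2_c41 LD3_c24)) :=
  Lre_f IH (LK LD1_c1 LD2_c47 LD3_c37) (LK LD1_c3 LD2_c41 LD3_c24) Lrfl Lrfl
theorem f460754 : Led Lsl_gt (LP (LK LD1_c1 LD2_c47 LD3_c37)) = (LP (LK LD1_c3 LD2_c31 LD3_c27)) :=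
  Lgr Lrot5 (Lpr_ft (f147424 IH) (Lpr_at (f146936 IH) (Lpr_gf (f460752 IH) (Lpn (LP (LK LD1_c3 LD2_c31 LD3_c27))))))
theorem f121012 : Led Lsl_et (LP (LK LD1_c1 LD2_c54 LD3_c6)) = (LP (LK LD1_c0 LD2_c53 LD3_c38)) :=
  Lre_e IH (LK LD1_c1 LD2_c54 LD3_c6) (LK LD1_c0 LD2_c53 LD3_c38) Lrfl Lrfl
theorem f450730 : Led Lsl_bt (LP (LK LD1_c1 LD2_c42 LD3_c27)) = (LP (LK LD1_c0 LD2_c47 LD3_c45)) :=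
  Lre_b IH (LK LD1_c1 LD2_c42 LD3_c27) (LK LD1_c0 LD2_c47 LD3_c45) Lrfl Lrfl
theorem f455703 : Led Lsl_ct (LP (LK LD1_c3 LD2_c31 LD3_c47)) = (LP (LK LD1_c1 LD2_c42 LD3_c27)) :=
  Lre_c IH (LK LD1_c3 LD2_c31 LD3_c47) (LK LD1_c1 LD2_c42 LD3_c27) Lrfl Lrfl
theorem f455675 : Led Lsl_ct (LP (LK LD1_c1 LD2_c42 LD3_c19)) = (LP (LK LD1_c3 LD2_c31 LD3_c29)) :=
  Lre_c IH (LK LD1_c1 LD2_c42 LD3_c19) (LK LD1_c3 LD2_c31 LD3_c29) Lrfl Lrfl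
theorem f458228 : Led Lsl_bf (LP (LK LD1_c3 LD2_c31 LD3_c47)) = (LP (LK LD1_c3 LD2_c31 LD3_c29)) :=
  Lgr Lrot90 (Lpr_ct (f455703 IH) (Lpr_bt (f450730 IH) (Lpqs (f457665 IH) (Lpe (f455666 IH) (Lpr_bt (f451398 IH) (Lpr_ct (f455675 IH) (Lpn (LP (LK LD1_c3 LD2_c31 LD3_c29)))))))))
theorem f458240 : Led Lsl_et (LP (LK LD1_c1 LD2_c42 LD3_c17)) = (LP (LK LD1_c3 LD2_c31 LD3_c29)) :=
  Lre_e IH (LK LD1_c1 LD2_c42 LD3_c17) (LK LD1_c3 LD2_c31 LD3_c29) Lrfl Lrfl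
theorem f458241 : Led Lsl_bt (LP (LK LD1_c3 LD2_c31 LD3_c27)) = (LP (LK LD1_c1 LD2_c42 LD3_c17)) :=
  Lre_b IH (LK LD1_c3 LD2_c31 LD3_c27) (LK LD1_c1 LD2_c42 LD3_c17) Lrfl Lrfl
theorem f458242 : Led Lsl_et (LP (LK LD1_c3 LD2_c31 LD3_c47)) = (LP (LK LD1_c3 LD2_c31 LD3_c27)) :=
  Lgr Lrot74 (Lpr_bf (f458228 IH) (Lpe (f458240 IH) (Lpe (f458241 IH) (Lpn (LP (LK LD1_c3 LD2_c31 LD3_c27))))))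
theorem f455766 : Led Lsl_dt (LP (LK LD1_c3 LD2_c31 LD3_c47)) = (LP (LK LD1_c7 LD2_c5 LD3_c9)) :=
  Lre_d IH (LK LD1_c3 LD2_c31 LD3_c47) (LK LD1_c7 LD2_c5 LD3_c9) Lrfl Lrfl
theorem f460761 : Led Lsl_gf (LP (LK LD1_c3 LD2_c55 LD3_c0)) = (LP (LK LD1_c7 LD2_c5 LD3_c9)) :=
  Lgr Lrot145 (Lpe (K5.f121028 IH) (Lpr_et (f121012 IH) (Lpe (K6.f142320 IH) (Lpr_dt (K5.f134727 IH) (Lpr_gt (K6.f142325 IH) (Lpe (K7.f124022 IH) (Lpr_et (K8.f124030 IH) (Lpr_gt (f460754 IH) (Lpe (f458242 IH) (Lpr_dt (f455766 IH) (Lpn (LP (LK LD1_c7 LD2_c5 LD3_c9)))))))))))))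
theorem f121082 : Led Lsl_gt (LP (LK LD1_c3 LD2_c55 LD3_c0)) = (LP (LK LD1_c7 LD2_c51 LD3_c41)) :=
  Lre_g IH (LK LD1_c3 LD2_c55 LD3_c0) (LK LD1_c7 LD2_c51 LD3_c41) Lrfl Lrfl
def v637 : LQ := Led Lsl_ft (LP (LK LD1_c0 LD2_c47 LD3_c40))
theorem f455676 : Led Lsl_ft (LP (LK LD1_c0 LD2_c47 LD3_c40)) = v637 :=
  Lrfl
theorem f455679 : Led Lsl_ff (LP (LK LD1_c0 LD2_c47 LD3_c40)) = v637 :=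
  Lgr Lrot3 (Lpr_ft (f455676 IH) (Lpn v637))
def v144 : LQ := Led Lsl_ft (LP (LK LD1_c0 LD2_c21 LD3_c18))
theorem f450720 : Led Lsl_ft (LP (LK LD1_c0 LD2_c21 LD3_c18)) = v144 :=
  Lrfl
theorem f455682 : Led Lsl_ct v144 = v637 :=
  Lgr Lrot40 (Lpe (f450720 IH) (Lpe (f446539 IH) (Lpr_ff (f455679 IH) (Lpn v637))))
theorem f446517 : Led Lsl_ct (LP (LK LD1_c0 LD2_c21 LD3_c19)) = (LP (LK LD1_c0 LD2_c47 LD3_c44)) :=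
  Lre_c IH (LK LD1_c0 LD2_c21 LD3_c19) (LK LD1_c0 LD2_c47 LD3_c44) Lrfl Lrfl
def v653 : LQ := Led Lsl_at (LP (LK LD1_c0 LD2_c47 LD3_c46))
theorem f455796 : Led Lsl_at (LP (LK LD1_c0 LD2_c47 LD3_c46)) = v653 :=
  Lrfl
theorem f450721 : Led Lsl_af (LP (LK LD1_c0 LD2_c21 LD3_c19)) = v144 :=
  Lgr Lrot45 (Lpr_ft (f450715 IH) (Lpe (f450711 IH) (Lpr_ft (f450720 IH) (Lpn v144))))
theorem f455799 : Led Lsl_ef v144 = v653 :=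
  Lgr Lrot20 (Lpe (f450721 IH) (Lpr_et (f450719 IH) (Lpr_at (f455796 IH) (Lpn v653))))
theorem f455797 : Led Lsl_af (LP (LK LD1_c0 LD2_c47 LD3_c46)) = v653 :=
  Lgr Lrot0 (Lpr_at (f455796 IH) (Lpn v653))
theorem f458778 : v653 = (LP (LK LD1_c0 LD2_c47 LD3_c46)) :=
  (Llr Lrot45 (Lpe (f455797 IH) (Lpr_ft (f455802 IH) (Lpr_at (f458772 IH) (Lpe (f455803 IH) (Lpn (LP (LK LD1_c0 LD2_c47 LD3_c46)))))))).symm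
theorem f458787 : v144 = (LP (LK LD1_c0 LD2_c21 LD3_c19)) :=
  Lefun (Lecon (Lfl_ef (f455799 IH)) (f458778 IH)) (f446401 IH)
theorem f458798 : v637 = (LP (LK LD1_c0 LD2_c47 LD3_c44)) :=
  Lefun (Lecon (f455682 IH) (f458787 IH)) (f446517 IH)
theorem f455658 : Led Lsl_bt (LP (LK LD1_c1 LD2_c42 LD3_c29)) = (LP (LK LD1_c0 LD2_c47 LD3_c44)) :=
  Lre_b IH (LK LD1_c1 LD2_c42 LD3_c29) (LK LD1_c0 LD2_c47 LD3_c44) Lrfl Lrfl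
theorem f446547 : Led Lsl_bt (LP (LK LD1_c0 LD2_c47 LD3_c40)) = (LP (LK LD1_c1 LD2_c42 LD3_c20)) :=
  Lre_b IH (LK LD1_c0 LD2_c47 LD3_c40) (LK LD1_c1 LD2_c42 LD3_c20) Lrfl Lrfl
theorem f458807 : Led Lsl_ff (LP (LK LD1_c1 LD2_c42 LD3_c29)) = (LP (LK LD1_c1 LD2_c42 LD3_c20)) :=
  Lgr Lrot25 (Lpr_bt (f455658 IH) (Lpq (f458798 IH) (Lpe (f455679 IH) (Lpr_bt (f446547 IH) (Lpn (LP (LK LD1_c1 LD2_c42 LD3_c20)))))))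
theorem f458813 : Led Lsl_ft (LP (LK LD1_c1 LD2_c42 LD3_c29)) = (LP (LK LD1_c1 LD2_c42 LD3_c20)) :=
  Lgr Lrot48 (Lpr_ff (f458807 IH) (Lpn (LP (LK LD1_c1 LD2_c42 LD3_c20))))
theorem f455661 : Led Lsl_ct (LP (LK LD1_c3 LD2_c31 LD3_c42)) = (LP (LK LD1_c1 LD2_c42 LD3_c29)) :=
  Lre_c IH (LK LD1_c3 LD2_c31 LD3_c42) (LK LD1_c1 LD2_c42 LD3_c29) Lrfl Lrfl
theorem f458815 : Led Lsl_ff (LP (LK LD1_c3 LD2_c31 LD3_c42)) = (LP (LK LD1_c3 LD2_c31 LD3_c27)) :=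
  Lgr Lrot23 (Lpr_ct (f455661 IH) (Lpr_ft (f458813 IH) (Lpr_ct (f455650 IH) (Lpn (LP (LK LD1_c3 LD2_c31 LD3_c27))))))
theorem f458819 : Led Lsl_dt (LP (LK LD1_c3 LD2_c31 LD3_c42)) = (LP (LK LD1_c7 LD2_c4 LD3_c59)) :=
  Lre_d IH (LK LD1_c3 LD2_c31 LD3_c42) (LK LD1_c7 LD2_c4 LD3_c59) Lrfl Lrfl
theorem f455647 : Led Lsl_dt (LP (LK LD1_c7 LD2_c4 LD3_c34)) = (LP (LK LD1_c3 LD2_c31 LD3_c27)) :=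
  Lre_d IH (LK LD1_c7 LD2_c4 LD3_c34) (LK LD1_c3 LD2_c31 LD3_c27) Lrfl Lrfl
theorem f458820 : Led Lsl_ft (LP (LK LD1_c7 LD2_c4 LD3_c59)) = (LP (LK LD1_c7 LD2_c4 LD3_c34)) :=
  Lgr Lrot54 (Lpe (f458819 IH) (Lpr_ff (f458815 IH) (Lpe (f455647 IH) (Lpn (LP (LK LD1_c7 LD2_c4 LD3_c34))))))
theorem f458834 : Led Lsl_ff (LP (LK LD1_c7 LD2_c4 LD3_c59)) = (LP (LK LD1_c7 LD2_c4 LD3_c34)) :=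
  Lgr Lrot3 (Lpr_ft (f458820 IH) (Lpn (LP (LK LD1_c7 LD2_c4 LD3_c34))))
theorem f458836 : Led Lsl_bt (LP (LK LD1_c7 LD2_c4 LD3_c59)) = (LP (LK LD1_c3 LD2_c31 LD3_c43)) :=
  Lre_b IH (LK LD1_c7 LD2_c4 LD3_c59) (LK LD1_c3 LD2_c31 LD3_c43) Lrfl Lrfl
theorem f458837 : Led Lsl_bt (LP (LK LD1_c3 LD2_c31 LD3_c28)) = (LP (LK LD1_c7 LD2_c4 LD3_c34)) :=
  Lre_b IH (LK LD1_c3 LD2_c31 LD3_c28) (LK LD1_c7 LD2_c4 LD3_c34) Lrfl Lrfl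
theorem f458838 : Led Lsl_ft (LP (LK LD1_c3 LD2_c31 LD3_c43)) = (LP (LK LD1_c3 LD2_c31 LD3_c28)) :=
  Lgr Lrot75 (Lpe (f458836 IH) (Lpr_ff (f458834 IH) (Lpe (f458837 IH) (Lpn (LP (LK LD1_c3 LD2_c31 LD3_c28))))))
theorem f458897 : Led Lsl_dt (LP (LK LD1_c3 LD2_c31 LD3_c43)) = (LP (LK LD1_c1 LD2_c42 LD3_c26)) :=
  Lre_d IH (LK LD1_c3 LD2_c31 LD3_c43) (LK LD1_c1 LD2_c42 LD3_c26) Lrfl Lrfl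
theorem f455750 : Led Lsl_ct (LP (LK LD1_c1 LD2_c42 LD3_c26)) = (LP (LK LD1_c0 LD2_c47 LD3_c43)) :=
  Lre_c IH (LK LD1_c1 LD2_c42 LD3_c26) (LK LD1_c0 LD2_c47 LD3_c43) Lrfl Lrfl
theorem f455752 : Led Lsl_dt (LP (LK LD1_c0 LD2_c47 LD3_c43)) = (LP (LK LD1_c1 LD2_c42 LD3_c27)) :=
  Lre_d IH (LK LD1_c0 LD2_c47 LD3_c43) (LK LD1_c1 LD2_c42 LD3_c27) Lrfl Lrfl
theorem f455705 : Led Lsl_ct (LP (LK LD1_c1 LD2_c42 LD3_c27)) = (LP (LK LD1_c3 LD2_c31 LD3_c47)) :=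
  Lre_c IH (LK LD1_c1 LD2_c42 LD3_c27) (LK LD1_c3 LD2_c31 LD3_c47) Lrfl Lrfl
theorem f455767 : Led Lsl_ct (LP (LK LD1_c7 LD2_c5 LD3_c9)) = (LP (LK LD1_c13 LD2_c25 LD3_c60)) :=
  Lre_c IH (LK LD1_c7 LD2_c5 LD3_c9) (LK LD1_c13 LD2_c25 LD3_c60) Lrfl Lrfl
theorem f458884 : Led Lsl_at (LP (LK LD1_c3 LD2_c31 LD3_c28)) = (LP (LK LD1_c7 LD2_c4 LD3_c28)) :=
  Lre_a IH (LK LD1_c3 LD2_c31 LD3_c28) (LK LD1_c7 LD2_c4 LD3_c28) Lrfl Lrfl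
theorem f455643 : Led Lsl_ct (LP (LK LD1_c13 LD2_c24 LD3_c42)) = (LP (LK LD1_c7 LD2_c4 LD3_c28)) :=
  Lre_c IH (LK LD1_c13 LD2_c24 LD3_c42) (LK LD1_c7 LD2_c4 LD3_c28) Lrfl Lrfl
theorem f458898 : Led Lsl_dt (LP (LK LD1_c13 LD2_c25 LD3_c60)) = (LP (LK LD1_c13 LD2_c24 LD3_c42)) :=
  Lgr Lrot120 (Lpe (f455767 IH) (Lpe (f455766 IH) (Lpe (f455705 IH) (Lpe (f455752 IH) (Lpe (f455750 IH) (Lpe (f458897 IH) (Lpr_ft (f458838 IH) (Lpr_at (f458884 IH) (Lpe (f455643 IH) (Lpn (LP (LK LD1_c13 LD2_c24 LD3_c42))))))))))))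
theorem f455642 : Led Lsl_dt (LP (LK LD1_c7 LD2_c4 LD3_c28)) = (LP (LK LD1_c3 LD2_c31 LD3_c23)) :=
  Lre_d IH (LK LD1_c7 LD2_c4 LD3_c28) (LK LD1_c3 LD2_c31 LD3_c23) Lrfl Lrfl
theorem f455641 : Led Lsl_ct (LP (LK LD1_c3 LD2_c31 LD3_c23)) = (LP (LK LD1_c1 LD2_c42 LD3_c16)) :=
  Lre_c IH (LK LD1_c3 LD2_c31 LD3_c23) (LK LD1_c1 LD2_c42 LD3_c16) Lrfl Lrfl
theorem f458911 : Led Lsl_at (LP (LK LD1_c3 LD2_c31 LD3_c31)) = (LP (LK LD1_c7 LD2_c4 LD3_c30)) :=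
  Lre_a IH (LK LD1_c3 LD2_c31 LD3_c31) (LK LD1_c7 LD2_c4 LD3_c30) Lrfl Lrfl
theorem f458912 : Led Lsl_ft (LP (LK LD1_c3 LD2_c31 LD3_c47)) = (LP (LK LD1_c3 LD2_c31 LD3_c31)) :=
  Lgr Lrot142 (Lpr_dt (f455766 IH) (Lpr_ct (f455767 IH) (Lpr_dt (f458898 IH) (Lpr_ct (f455643 IH) (Lpr_dt (f455642 IH) (Lpr_ct (f455641 IH) (Lpr_dt (f458906 IH) (Lpr_ct (f458907 IH) (Lpe (f458911 IH) (Lpn (LP (LK LD1_c3 LD2_c31 LD3_c31))))))))))))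
theorem f458927 : Led Lsl_ff (LP (LK LD1_c3 LD2_c31 LD3_c47)) = (LP (LK LD1_c3 LD2_c31 LD3_c31)) :=
  Lgr Lrot3 (Lpr_ft (f458912 IH) (Lpn (LP (LK LD1_c3 LD2_c31 LD3_c31))))
theorem f12142 : Led Lsl_dt (LP (LK LD1_c7 LD2_c4 LD3_c45)) = (LP (LK LD1_c3 LD2_c31 LD3_c31)) :=
  Lre_d IH (LK LD1_c7 LD2_c4 LD3_c45) (LK LD1_c3 LD2_c31 LD3_c31) Lrfl Lrfl
theorem f458941 : Led Lsl_ft (LP (LK LD1_c7 LD2_c5 LD3_c9)) = (LP (LK LD1_c7 LD2_c4 LD3_c45)) :=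
  Lgr Lrot54 (Lpe (f455766 IH) (Lpr_ff (f458927 IH) (Lpe (f12142 IH) (Lpn (LP (LK LD1_c7 LD2_c4 LD3_c45))))))
theorem f460767 : Led Lsl_af (LP (LK LD1_c7 LD2_c51 LD3_c41)) = (LP (LK LD1_c7 LD2_c4 LD3_c45)) :=
  Lgr Lrot31 (Lpe (f121082 IH) (Lpr_gf (f460761 IH) (Lpr_ft (f458941 IH) (Lpn (LP (LK LD1_c7 LD2_c4 LD3_c45))))))
theorem f455637 : Led Lsl_dt (LP (LK LD1_c3 LD2_c31 LD3_c31)) = (LP (LK LD1_c7 LD2_c4 LD3_c45)) :=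
  Lre_d IH (LK LD1_c3 LD2_c31 LD3_c31) (LK LD1_c7 LD2_c4 LD3_c45) Lrfl Lrfl
theorem f458934 : Led Lsl_at (LP (LK LD1_c7 LD2_c4 LD3_c30)) = (LP (LK LD1_c3 LD2_c31 LD3_c31)) :=
  Lre_a IH (LK LD1_c7 LD2_c4 LD3_c30) (LK LD1_c3 LD2_c31 LD3_c31) Lrfl Lrfl
theorem f460774 : Led Lsl_dt (LP (LK LD1_c7 LD2_c51 LD3_c41)) = (LP (LK LD1_c7 LD2_c4 LD3_c30)) :=
  Lgr Lrot44 (Lpr_af (f460767 IH) (Lpe (f455637 IH) (Lpe (f458934 IH) (Lpn (LP (LK LD1_c7 LD2_c4 LD3_c30))))))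
def v632 : LQ := Led Lsl_ft (LP (LK LD1_c0 LD2_c47 LD3_c39))
theorem f455633 : Led Lsl_ft (LP (LK LD1_c0 LD2_c47 LD3_c39)) = v632 :=
  Lrfl
theorem f455636 : Led Lsl_ff (LP (LK LD1_c0 LD2_c47 LD3_c39)) = v632 :=
  Lgr Lrot3 (Lpr_ft (f455633 IH) (Lpn v632))
theorem f446540 : Led Lsl_bt (LP (LK LD1_c0 LD2_c47 LD3_c39)) = (LP (LK LD1_c0 LD2_c21 LD3_c18)) :=
  Lre_b IH (LK LD1_c0 LD2_c47 LD3_c39) (LK LD1_c0 LD2_c21 LD3_c18) Lrfl Lrfl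
theorem f455639 : Led Lsl_bt v144 = v632 :=
  Lgr Lrot35 (Lpe (f450720 IH) (Lpe (f446540 IH) (Lpr_ff (f455636 IH) (Lpn v632))))
theorem f450718 : Led Lsl_bt (LP (LK LD1_c0 LD2_c21 LD3_c19)) = (LP (LK LD1_c0 LD2_c47 LD3_c43)) :=
  Lre_b IH (LK LD1_c0 LD2_c21 LD3_c19) (LK LD1_c0 LD2_c47 LD3_c43) Lrfl Lrfl
theorem f458797 : v632 = (LP (LK LD1_c0 LD2_c47 LD3_c43)) :=
  Lefun (Lecon (f455639 IH) (f458787 IH)) (f450718 IH)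
def v646 : LQ := Led Lsl_gt (LP (LK LD1_c0 LD2_c47 LD3_c43))
theorem f455746 : Led Lsl_gt (LP (LK LD1_c0 LD2_c47 LD3_c43)) = v646 :=
  Lrfl
theorem f450714 : Led Lsl_at (LP (LK LD1_c0 LD2_c47 LD3_c39)) = (LP (LK LD1_c1 LD2_c42 LD3_c16)) :=
  Lre_a IH (LK LD1_c0 LD2_c47 LD3_c39) (LK LD1_c1 LD2_c42 LD3_c16) Lrfl Lrfl
theorem f459276 : Led Lsl_gt v646 = (LP (LK LD1_c1 LD2_c42 LD3_c16)) :=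
  Lgr Lrot46 (Lpe (f455746 IH) (Lpq (f458797 IH) (Lpe (f455636 IH) (Lpr_at (f450714 IH) (Lpn (LP (LK LD1_c1 LD2_c42 LD3_c16)))))))
def v768 : LQ := Led Lsl_gf (LP (LK LD1_c0 LD2_c50 LD3_c29))
theorem f457147 : Led Lsl_gf (LP (LK LD1_c0 LD2_c50 LD3_c29)) = v768 :=
  Lrfl
def v808 : LQ := Led Lsl_ft (LP (LK LD1_c0 LD2_c51 LD3_c17))
theorem f459485 : Led Lsl_ft (LP (LK LD1_c0 LD2_c51 LD3_c17)) = v808 :=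
  Lrfl
def v806 : LQ := Led Lsl_gt (LP (LK LD1_c0 LD2_c51 LD3_c17))
theorem f459480 : Led Lsl_gt (LP (LK LD1_c0 LD2_c51 LD3_c17)) = v806 :=
  Lrfl
def v769 : LQ := Led Lsl_ft (LP (LK LD1_c0 LD2_c50 LD3_c29))
theorem f457148 : Led Lsl_ft (LP (LK LD1_c0 LD2_c50 LD3_c29)) = v769 :=
  Lrfl
theorem f457150 : Led Lsl_ff (LP (LK LD1_c0 LD2_c50 LD3_c29)) = v769 :=
  Lgr Lrot3 (Lpr_ft (f457148 IH) (Lpn v769))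
theorem f459486 : Led Lsl_af v769 = v808 :=
  Lgr Lrot45 (Lpe (f457150 IH) (Lpr_at (K4.f122342 IH) (Lpr_ft (f459485 IH) (Lpn v808))))
theorem f459490 : Led Lsl_gt v806 = v769 :=
  Lgr Lrot46 (Lpe (f459480 IH) (Lpr_ft (f459485 IH) (Lpe (f459486 IH) (Lpn v769))))
theorem f455618 : Led Lsl_gt (LP (LK LD1_c0 LD2_c47 LD3_c39)) = (LP (LK LD1_c1 LD2_c42 LD3_c15)) :=
  Lre_g IH (LK LD1_c0 LD2_c47 LD3_c39) (LK LD1_c1 LD2_c42 LD3_c15) Lrfl Lrfl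
def v631 : LQ := Led Lsl_gf (LP (LK LD1_c0 LD2_c47 LD3_c39))
theorem f455619 : Led Lsl_gf (LP (LK LD1_c0 LD2_c47 LD3_c39)) = v631 :=
  Lrfl
theorem f16725 : Led Lsl_ct (LP (LK LD1_c1 LD2_c39 LD3_c51)) = (LP (LK LD1_c3 LD2_c26 LD3_c20)) :=
  Lre_c IH (LK LD1_c1 LD2_c39 LD3_c51) (LK LD1_c3 LD2_c26 LD3_c20) Lrfl Lrfl
def v235 : LQ := Led Lsl_gf (LP (LK LD1_c0 LD2_c24 LD3_c20))
theorem f451252 : Led Lsl_gf (LP (LK LD1_c0 LD2_c24 LD3_c20)) = v235 :=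
  Lrfl
theorem f11245 : Led Lsl_bt (LP (LK LD1_c0 LD2_c24 LD3_c24)) = (LP (LK LD1_c0 LD2_c10 LD3_c51)) :=
  Lre_b IH (LK LD1_c0 LD2_c24 LD3_c24) (LK LD1_c0 LD2_c10 LD3_c51) Lrfl Lrfl
theorem f11326 : Led Lsl_bt (LP (LK LD1_c0 LD2_c24 LD3_c23)) = (LP (LK LD1_c0 LD2_c54 LD3_c8)) :=
  Lre_b IH (LK LD1_c0 LD2_c24 LD3_c23) (LK LD1_c0 LD2_c54 LD3_c8) Lrfl Lrfl
theorem f11327 : Led Lsl_df (LP (LK LD1_c0 LD2_c24 LD3_c24)) = (LP (LK LD1_c0 LD2_c54 LD3_c8)) :=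
  Lgr Lrot12 (Lpr_bt (f11245 IH) (Lpr_dt (K11.f11320 IH) (Lpr_bt (f11326 IH) (Lpn (LP (LK LD1_c0 LD2_c54 LD3_c8))))))
theorem f11354 : Led Lsl_et (LP (LK LD1_c0 LD2_c54 LD3_c8)) = (LP (LK LD1_c0 LD2_c24 LD3_c20)) :=
  Lre_e IH (LK LD1_c0 LD2_c54 LD3_c8) (LK LD1_c0 LD2_c24 LD3_c20) Lrfl Lrfl
def v249 : LQ := Led Lsl_gt (LP (LK LD1_c0 LD2_c24 LD3_c24))
theorem f451350 : Led Lsl_gt (LP (LK LD1_c0 LD2_c24 LD3_c24)) = v249 :=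
  Lrfl
theorem f446472 : Led Lsl_ct (LP (LK LD1_c1 LD2_c40 LD3_c41)) = (LP (LK LD1_c3 LD2_c28 LD3_c8)) :=
  Lre_c IH (LK LD1_c1 LD2_c40 LD3_c41) (LK LD1_c3 LD2_c28 LD3_c8) Lrfl Lrfl
def v604 : LQ := Led Lsl_ft (LP (LK LD1_c0 LD2_c46 LD3_c45))
theorem f455154 : Led Lsl_ft (LP (LK LD1_c0 LD2_c46 LD3_c45)) = v604 :=
  Lrfl
theorem f455156 : Led Lsl_ff (LP (LK LD1_c0 LD2_c46 LD3_c45)) = v604 :=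
  Lgr Lrot3 (Lpr_ft (f455154 IH) (Lpn v604))
theorem f15753 : Led Lsl_bt (LP (LK LD1_c0 LD2_c46 LD3_c45)) = (LP (LK LD1_c0 LD2_c20 LD3_c58)) :=
  Lre_b IH (LK LD1_c0 LD2_c46 LD3_c45) (LK LD1_c0 LD2_c20 LD3_c58) Lrfl Lrfl
theorem f455159 : Led Lsl_bt v140 = v604 :=
  Lgr Lrot35 (Lpe (f450693 IH) (Lpe (f15753 IH) (Lpr_ff (f455156 IH) (Lpn v604))))
theorem f446429 : Led Lsl_bt (LP (LK LD1_c0 LD2_c20 LD3_c59)) = (LP (LK LD1_c0 LD2_c46 LD3_c48)) :=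
  Lre_b IH (LK LD1_c0 LD2_c20 LD3_c59) (LK LD1_c0 LD2_c46 LD3_c48) Lrfl Lrfl
theorem f455234 : v604 = (LP (LK LD1_c0 LD2_c46 LD3_c48)) :=
  Lefun (Lecon (f455159 IH) (f455230 IH).symm) (f446429 IH)
theorem f446455 : Led Lsl_gt (LP (LK LD1_c0 LD2_c46 LD3_c45)) = (LP (LK LD1_c1 LD2_c40 LD3_c35)) :=
  Lre_g IH (LK LD1_c0 LD2_c46 LD3_c45) (LK LD1_c1 LD2_c40 LD3_c35) Lrfl Lrfl
theorem f446440 : Led Lsl_at (LP (LK LD1_c0 LD2_c46 LD3_c48)) = (LP (LK LD1_c1 LD2_c40 LD3_c41)) :=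
  Lre_a IH (LK LD1_c0 LD2_c46 LD3_c48) (LK LD1_c1 LD2_c40 LD3_c41) Lrfl Lrfl
theorem f455243 : Led Lsl_gt (LP (LK LD1_c1 LD2_c40 LD3_c35)) = (LP (LK LD1_c1 LD2_c40 LD3_c41)) :=
  Lgr Lrot46 (Lpe (f446455 IH) (Lpr_ft (f455154 IH) (Lpqs (f455234 IH) (Lpr_at (f446440 IH) (Lpn (LP (LK LD1_c1 LD2_c40 LD3_c41)))))))
theorem f446463 : Led Lsl_et (LP (LK LD1_c3 LD2_c28 LD3_c0)) = (LP (LK LD1_c1 LD2_c40 LD3_c36)) :=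
  Lre_e IH (LK LD1_c3 LD2_c28 LD3_c0) (LK LD1_c1 LD2_c40 LD3_c36) Lrfl Lrfl
theorem f446436 : Led Lsl_bt (LP (LK LD1_c0 LD2_c46 LD3_c47)) = (LP (LK LD1_c1 LD2_c40 LD3_c39)) :=
  Lre_b IH (LK LD1_c0 LD2_c46 LD3_c47) (LK LD1_c1 LD2_c40 LD3_c39) Lrfl Lrfl
theorem f15772 : Led Lsl_bt (LP (LK LD1_c0 LD2_c46 LD3_c48)) = (LP (LK LD1_c0 LD2_c20 LD3_c59)) :=
  Lre_b IH (LK LD1_c0 LD2_c46 LD3_c48) (LK LD1_c0 LD2_c20 LD3_c59) Lrfl Lrfl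
theorem f446437 : Led Lsl_dt (LP (LK LD1_c1 LD2_c40 LD3_c39)) = (LP (LK LD1_c0 LD2_c46 LD3_c48)) :=
  Lgr Lrot79 (Lpe (f446436 IH) (Lpr_df (f446432 IH) (Lpe (f15772 IH) (Lpn (LP (LK LD1_c0 LD2_c46 LD3_c48))))))
theorem f446439 : Led Lsl_at (LP (LK LD1_c3 LD2_c28 LD3_c0)) = (LP (LK LD1_c1 LD2_c40 LD3_c39)) :=
  Lre_a IH (LK LD1_c3 LD2_c28 LD3_c0) (LK LD1_c1 LD2_c40 LD3_c39) Lrfl Lrfl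
theorem f446441 : Led Lsl_df (LP (LK LD1_c3 LD2_c28 LD3_c0)) = (LP (LK LD1_c1 LD2_c40 LD3_c41)) :=
  Lgr Lrot18 (Lpr_at (f446439 IH) (Lpr_dt (f446437 IH) (Lpr_at (f446440 IH) (Lpn (LP (LK LD1_c1 LD2_c40 LD3_c41))))))
theorem f446461 : Led Lsl_dt (LP (LK LD1_c3 LD2_c28 LD3_c0)) = (LP (LK LD1_c1 LD2_c40 LD3_c41)) :=
  Lgr Lrot42 (Lpr_df (f446441 IH) (Lpn (LP (LK LD1_c1 LD2_c40 LD3_c41))))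
theorem f446483 : Led Lsl_dt (LP (LK LD1_c0 LD2_c46 LD3_c45)) = (LP (LK LD1_c1 LD2_c40 LD3_c38)) :=
  Lre_d IH (LK LD1_c0 LD2_c46 LD3_c45) (LK LD1_c1 LD2_c40 LD3_c38) Lrfl Lrfl
theorem f455147 : Led Lsl_ct (LP (LK LD1_c1 LD2_c40 LD3_c38)) = (LP (LK LD1_c3 LD2_c28 LD3_c5)) :=
  Lre_c IH (LK LD1_c1 LD2_c40 LD3_c38) (LK LD1_c3 LD2_c28 LD3_c5) Lrfl Lrfl
theorem f455157 : Led Lsl_dt (LP (LK LD1_c3 LD2_c28 LD3_c5)) = (LP (LK LD1_c6 LD2_c58 LD3_c24)) :=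
  Lre_d IH (LK LD1_c3 LD2_c28 LD3_c5) (LK LD1_c6 LD2_c58 LD3_c24) Lrfl Lrfl
theorem f455158 : Led Lsl_ct (LP (LK LD1_c6 LD2_c58 LD3_c24)) = (LP (LK LD1_c13 LD2_c14 LD3_c18)) :=
  Lre_c IH (LK LD1_c6 LD2_c58 LD3_c24) (LK LD1_c13 LD2_c14 LD3_c18) Lrfl Lrfl
theorem f446458 : Led Lsl_ct (LP (LK LD1_c3 LD2_c28 LD3_c8)) = (LP (LK LD1_c1 LD2_c40 LD3_c41)) :=
  Lre_c IH (LK LD1_c3 LD2_c28 LD3_c8) (LK LD1_c1 LD2_c40 LD3_c41) Lrfl Lrfl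
theorem f446459 : Led Lsl_dt (LP (LK LD1_c6 LD2_c58 LD3_c29)) = (LP (LK LD1_c3 LD2_c28 LD3_c8)) :=
  Lre_d IH (LK LD1_c6 LD2_c58 LD3_c29) (LK LD1_c3 LD2_c28 LD3_c8) Lrfl Lrfl
theorem f446460 : Led Lsl_ct (LP (LK LD1_c13 LD2_c14 LD3_c29)) = (LP (LK LD1_c6 LD2_c58 LD3_c29)) :=
  Lre_c IH (LK LD1_c13 LD2_c14 LD3_c29) (LK LD1_c6 LD2_c58 LD3_c29) Lrfl Lrfl
theorem f455245 : Led Lsl_dt (LP (LK LD1_c13 LD2_c14 LD3_c18)) = (LP (LK LD1_c13 LD2_c14 LD3_c29)) :=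
  Lgr Lrot140 (Lpe (f455158 IH) (Lpe (f455157 IH) (Lpe (f455147 IH) (Lpe (f446483 IH) (Lpr_ft (f455154 IH) (Lpqs (f455234 IH) (Lpr_at (f446440 IH) (Lpe (f446458 IH) (Lpe (f446459 IH) (Lpe (f446460 IH) (Lpn (LP (LK LD1_c13 LD2_c14 LD3_c29)))))))))))))
theorem f15754 : Led Lsl_ct (LP (LK LD1_c1 LD2_c40 LD3_c37)) = (LP (LK LD1_c0 LD2_c46 LD3_c45)) :=
  Lre_c IH (LK LD1_c1 LD2_c40 LD3_c37) (LK LD1_c0 LD2_c46 LD3_c45) Lrfl Lrfl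
theorem f15755 : Led Lsl_dt (LP (LK LD1_c3 LD2_c28 LD3_c2)) = (LP (LK LD1_c1 LD2_c40 LD3_c37)) :=
  Lre_d IH (LK LD1_c3 LD2_c28 LD3_c2) (LK LD1_c1 LD2_c40 LD3_c37) Lrfl Lrfl
theorem f455252 : Led Lsl_at (LP (LK LD1_c3 LD2_c28 LD3_c11)) = (LP (LK LD1_c6 LD2_c58 LD3_c29)) :=
  Lre_a IH (LK LD1_c3 LD2_c28 LD3_c11) (LK LD1_c6 LD2_c58 LD3_c29) Lrfl Lrfl
theorem f455253 : Led Lsl_ft (LP (LK LD1_c3 LD2_c28 LD3_c2)) = (LP (LK LD1_c3 LD2_c28 LD3_c11)) :=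
  Lgr Lrot142 (Lpr_dt (f15755 IH) (Lpr_ct (f15754 IH) (Lpr_dt (f446483 IH) (Lpr_ct (f455147 IH) (Lpr_dt (f455157 IH) (Lpr_ct (f455158 IH) (Lpr_dt (f455245 IH) (Lpr_ct (f446460 IH) (Lpe (f455252 IH) (Lpn (LP (LK LD1_c3 LD2_c28 LD3_c11))))))))))))
theorem f455264 : Led Lsl_ff (LP (LK LD1_c3 LD2_c28 LD3_c2)) = (LP (LK LD1_c3 LD2_c28 LD3_c11)) :=
  Lgr Lrot3 (Lpr_ft (f455253 IH) (Lpn (LP (LK LD1_c3 LD2_c28 LD3_c11))))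
theorem f446445 : Led Lsl_dt (LP (LK LD1_c1 LD2_c40 LD3_c42)) = (LP (LK LD1_c3 LD2_c28 LD3_c11)) :=
  Lre_d IH (LK LD1_c1 LD2_c40 LD3_c42) (LK LD1_c3 LD2_c28 LD3_c11) Lrfl Lrfl
theorem f455286 : Led Lsl_ft (LP (LK LD1_c1 LD2_c40 LD3_c37)) = (LP (LK LD1_c1 LD2_c40 LD3_c42)) :=
  Lgr Lrot54 (Lpe (f15755 IH) (Lpr_ff (f455264 IH) (Lpe (f446445 IH) (Lpn (LP (LK LD1_c1 LD2_c40 LD3_c42))))))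
theorem f455304 : Led Lsl_at (LP (LK LD1_c3 LD2_c27 LD3_c60)) = (LP (LK LD1_c1 LD2_c40 LD3_c37)) :=
  Lre_a IH (LK LD1_c3 LD2_c27 LD3_c60) (LK LD1_c1 LD2_c40 LD3_c37) Lrfl Lrfl
theorem f446478 : Led Lsl_at (LP (LK LD1_c1 LD2_c40 LD3_c42)) = (LP (LK LD1_c3 LD2_c28 LD3_c8)) :=
  Lre_a IH (LK LD1_c1 LD2_c40 LD3_c42) (LK LD1_c3 LD2_c28 LD3_c8) Lrfl Lrfl
theorem f455305 : Led Lsl_ff (LP (LK LD1_c3 LD2_c27 LD3_c60)) = (LP (LK LD1_c3 LD2_c28 LD3_c8)) :=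
  Lgr Lrot30 (Lpr_at (f455304 IH) (Lpr_ft (f455286 IH) (Lpr_at (f446478 IH) (Lpn (LP (LK LD1_c3 LD2_c28 LD3_c8))))))
theorem f455160 : Led Lsl_ct (LP (LK LD1_c3 LD2_c27 LD3_c60)) = (LP (LK LD1_c1 LD2_c40 LD3_c36)) :=
  Lre_c IH (LK LD1_c3 LD2_c27 LD3_c60) (LK LD1_c1 LD2_c40 LD3_c36) Lrfl Lrfl
theorem f455321 : Led Lsl_ft (LP (LK LD1_c1 LD2_c40 LD3_c36)) = (LP (LK LD1_c1 LD2_c40 LD3_c41)) :=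
  Lgr Lrot4 (Lpe (f455160 IH) (Lpr_ff (f455305 IH) (Lpe (f446472 IH) (Lpn (LP (LK LD1_c1 LD2_c40 LD3_c41))))))
theorem f446471 : Led Lsl_at (LP (LK LD1_c1 LD2_c40 LD3_c41)) = (LP (LK LD1_c0 LD2_c46 LD3_c48)) :=
  Lre_a IH (LK LD1_c1 LD2_c40 LD3_c41) (LK LD1_c0 LD2_c46 LD3_c48) Lrfl Lrfl
theorem f446456 : Led Lsl_gt (LP (LK LD1_c1 LD2_c40 LD3_c40)) = (LP (LK LD1_c0 LD2_c46 LD3_c48)) :=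
  Lre_g IH (LK LD1_c1 LD2_c40 LD3_c40) (LK LD1_c0 LD2_c46 LD3_c48) Lrfl Lrfl
theorem f455354 : Led Lsl_gt (LP (LK LD1_c1 LD2_c40 LD3_c36)) = (LP (LK LD1_c1 LD2_c40 LD3_c40)) :=
  Lgr Lrot5 (Lpr_ft (f455321 IH) (Lpr_at (f446471 IH) (Lpe (f446456 IH) (Lpn (LP (LK LD1_c1 LD2_c40 LD3_c40))))))
def v701 : LQ := Led Lsl_gf (LP (LK LD1_c0 LD2_c49 LD3_c17))
theorem f456837 : Led Lsl_gf (LP (LK LD1_c0 LD2_c49 LD3_c17)) = v701 :=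
  Lrfl
theorem f128094 : Led Lsl_af (LP (LK LD1_c0 LD2_c49 LD3_c17)) = (LP (LK LD1_c0 LD2_c48 LD3_c22)) :=
  Lgr Lrot0 (Lpr_at (K5.f128092 IH) (Lpn (LP (LK LD1_c0 LD2_c48 LD3_c22))))
def v662 : LQ := Led Lsl_ft (LP (LK LD1_c0 LD2_c48 LD3_c22))
theorem f455828 : Led Lsl_ft (LP (LK LD1_c0 LD2_c48 LD3_c22)) = v662 :=
  Lrfl
theorem f455831 : Led Lsl_ff (LP (LK LD1_c0 LD2_c48 LD3_c22)) = v662 :=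
  Lgr Lrot3 (Lpr_ft (f455828 IH) (Lpn v662))
theorem f456838 : Led Lsl_gt v662 = v701 :=
  Lgr Lrot5 (Lpe (f455831 IH) (Lpe (f128094 IH) (Lpr_gf (f456837 IH) (Lpn v701))))
theorem f446421 : Led Lsl_bt (LP (LK LD1_c0 LD2_c47 LD3_c36)) = (LP (LK LD1_c1 LD2_c42 LD3_c12)) :=
  Lre_b IH (LK LD1_c0 LD2_c47 LD3_c36) (LK LD1_c1 LD2_c42 LD3_c12) Lrfl Lrfl
def v625 : LQ := Led Lsl_ct (LP (LK LD1_c0 LD2_c47 LD3_c36))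
theorem f455597 : Led Lsl_ct (LP (LK LD1_c0 LD2_c47 LD3_c36)) = v625 :=
  Lrfl
theorem f454961 : Led Lsl_cf (LP (LK LD1_c0 LD2_c45 LD3_c50)) = v575 :=
  Lgr Lrot11 (Lpr_ct (f454960 IH) (Lpn v575))
theorem f457409 : (LP (LK LD1_c0 LD2_c45 LD3_c50)) = v625 :=
  Lefun (Lecon (Lfl_cf (f454961 IH)) (f457405 IH)) (f455597 IH)
theorem f11056 : Led Lsl_et (LP (LK LD1_c0 LD2_c20 LD3_c27)) = (LP (LK LD1_c0 LD2_c9 LD3_c13)) :=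
  Lre_e IH (LK LD1_c0 LD2_c20 LD3_c27) (LK LD1_c0 LD2_c9 LD3_c13) Lrfl Lrfl
theorem f11067 : Led Lsl_ct (LP (LK LD1_c0 LD2_c21 LD3_c21)) = (LP (LK LD1_c0 LD2_c20 LD3_c27)) :=
  Lgr Lrot15 (Lpe (f11066 IH) (Lpr_cf (K0.f11050 IH) (Lpe (f11056 IH) (Lpn (LP (LK LD1_c0 LD2_c20 LD3_c27))))))
theorem f18608 : Led Lsl_gt (LP (LK LD1_c1 LD2_c42 LD3_c3)) = (LP (LK LD1_c0 LD2_c47 LD3_c31)) :=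
  Lre_g IH (LK LD1_c1 LD2_c42 LD3_c3) (LK LD1_c0 LD2_c47 LD3_c31) Lrfl Lrfl
theorem f18850 : Led Lsl_bt (LP (LK LD1_c3 LD2_c31 LD3_c1)) = (LP (LK LD1_c1 LD2_c42 LD3_c3)) :=
  Lre_b IH (LK LD1_c3 LD2_c31 LD3_c1) (LK LD1_c1 LD2_c42 LD3_c3) Lrfl Lrfl
theorem f446495 : Led Lsl_dt (LP (LK LD1_c3 LD2_c24 LD3_c61)) = (LP (LK LD1_c1 LD2_c38 LD3_c56)) :=
  Lre_d IH (LK LD1_c3 LD2_c24 LD3_c61) (LK LD1_c1 LD2_c38 LD3_c56) Lrfl Lrfl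
theorem f446488 : Led Lsl_bt (LP (LK LD1_c1 LD2_c38 LD3_c57)) = (LP (LK LD1_c3 LD2_c24 LD3_c61)) :=
  Lre_b IH (LK LD1_c1 LD2_c38 LD3_c57) (LK LD1_c3 LD2_c24 LD3_c61) Lrfl Lrfl
theorem f18957 : Led Lsl_bt (LP (LK LD1_c1 LD2_c42 LD3_c12)) = (LP (LK LD1_c0 LD2_c47 LD3_c36)) :=
  Lre_b IH (LK LD1_c1 LD2_c42 LD3_c12) (LK LD1_c0 LD2_c47 LD3_c36) Lrfl Lrfl
theorem f446489 : Led Lsl_et (LP (LK LD1_c3 LD2_c24 LD3_c61)) = (LP (LK LD1_c1 LD2_c42 LD3_c12)) :=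
  Lgr Lrot74 (Lpe (f446488 IH) (Lpr_ef (f446424 IH) (Lpe (f18957 IH) (Lpn (LP (LK LD1_c1 LD2_c42 LD3_c12))))))
theorem f92406 : Led Lsl_ft (LP (LK LD1_c1 LD2_c42 LD3_c59)) = (LP (LK LD1_c3 LD2_c32 LD3_c34)) :=
  Lre_f IH (LK LD1_c1 LD2_c42 LD3_c59) (LK LD1_c3 LD2_c32 LD3_c34) Lrfl Lrfl
theorem f460545 : Led Lsl_ct (LP (LK LD1_c3 LD2_c32 LD3_c34)) = (LP (LK LD1_c3 LD2_c30 LD3_c40)) :=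
  Lgr Lrot40 (Lpe (f92406 IH) (Lpe (K4.f92355 IH) (Lpr_ff (f460535 IH) (Lpn (LP (LK LD1_c3 LD2_c30 LD3_c40))))))
theorem f108767 : Led Lsl_bt (LP (LK LD1_c3 LD2_c32 LD3_c34)) = (LP (LK LD1_c1 LD2_c43 LD3_c3)) :=
  Lre_b IH (LK LD1_c3 LD2_c32 LD3_c34) (LK LD1_c1 LD2_c43 LD3_c3) Lrfl Lrfl
def v697 : LQ := Led Lsl_gf (LP (LK LD1_c0 LD2_c49 LD3_c2))
theorem f456824 : Led Lsl_gf (LP (LK LD1_c0 LD2_c49 LD3_c2)) = v697 :=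
  Lrfl
theorem f456825 : Led Lsl_gt (LP (LK LD1_c1 LD2_c43 LD3_c3)) = v697 :=
  Lgr Lrot5 (Lpr_ft (K3.f108666 IH) (Lpe (K3.f108617 IH) (Lpr_gf (f456824 IH) (Lpn v697))))
theorem f129831 : Led Lsl_gt (LP (LK LD1_c1 LD2_c41 LD3_c56)) = (LP (LK LD1_c3 LD2_c30 LD3_c40)) :=
  Lre_g IH (LK LD1_c1 LD2_c41 LD3_c56) (LK LD1_c3 LD2_c30 LD3_c40) Lrfl Lrfl
theorem f455542 : Led Lsl_ct (LP (LK LD1_c0 LD2_c47 LD3_c28)) = (LP (LK LD1_c1 LD2_c41 LD3_c56)) :=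
  Lre_c IH (LK LD1_c0 LD2_c47 LD3_c28) (LK LD1_c1 LD2_c41 LD3_c56) Lrfl Lrfl
def v627 : LQ := Led Lsl_ct (LP (LK LD1_c0 LD2_c47 LD3_c37))
theorem f455604 : Led Lsl_ct (LP (LK LD1_c0 LD2_c47 LD3_c37)) = v627 :=
  Lrfl
theorem f455605 : Led Lsl_cf (LP (LK LD1_c0 LD2_c47 LD3_c37)) = v627 :=
  Lgr Lrot11 (Lpr_ct (f455604 IH) (Lpn v627))
theorem f454967 : Led Lsl_cf (LP (LK LD1_c0 LD2_c45 LD3_c51)) = v577 :=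
  Lgr Lrot11 (Lpr_ct (f454966 IH) (Lpn v577))
theorem f457415 : (LP (LK LD1_c0 LD2_c45 LD3_c51)) = v627 :=
  Lefun (Lecon (Lfl_cf (f454967 IH)) (f457414 IH)) (f455604 IH)
theorem f454959 : Led Lsl_bt (LP (LK LD1_c0 LD2_c45 LD3_c51)) = (LP (LK LD1_c1 LD2_c38 LD3_c56)) :=
  Lre_b IH (LK LD1_c0 LD2_c45 LD3_c51) (LK LD1_c1 LD2_c38 LD3_c56) Lrfl Lrfl
theorem f461786 : v697 = (LP (LK LD1_c1 LD2_c38 LD3_c56)) :=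
  (Llr Lrot164 (Lpe (f456825 IH) (Lpe (f108767 IH) (Lpr_ct (f460545 IH) (Lpe (f129831 IH) (Lpe (f455542 IH) (Lpe (K5.f87981 IH) (Lpe (f18777 IH) (Lpr_ct (f11193 IH) (Lpe (f446507 IH) (Lpr_cf (f455605 IH) (Lpq (f457415 IH) (Lpr_bt (f454959 IH) (Lpn (LP (LK LD1_c1 LD2_c38 LD3_c56)))))))))))))))).symm
theorem f106204 : Led Lsl_df (LP (LK LD1_c0 LD2_c49 LD3_c2)) = (LP (LK LD1_c0 LD2_c49 LD3_c17)) :=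
  Lgr Lrot12 (Lpr_bt (K3.f106202 IH) (Lpr_dt (K5.f106199 IH) (Lpr_bt (K5.f106203 IH) (Lpn (LP (LK LD1_c0 LD2_c49 LD3_c17))))))
theorem f10243 : Led Lsl_et (LP (LK LD1_c0 LD2_c49 LD3_c17)) = (LP (LK LD1_c0 LD2_c22 LD3_c6)) :=
  Lre_e IH (LK LD1_c0 LD2_c49 LD3_c17) (LK LD1_c0 LD2_c22 LD3_c6) Lrfl Lrfl
def v698 : LQ := Led Lsl_gt (LP (LK LD1_c0 LD2_c49 LD3_c10))
theorem f456826 : Led Lsl_gt (LP (LK LD1_c0 LD2_c49 LD3_c10)) = v698 :=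
  Lrfl
theorem f461789 : (LP (LK LD1_c1 LD2_c42 LD3_c12)) = v698 :=
  (Llr Lrot122 (Lpe (f446489 IH) (Lpr_dt (f446495 IH) (Lpq (f461786 IH) (Lpe (f456824 IH) (Lpr_df (f106204 IH) (Lpr_et (f10243 IH) (Lpe (K3.f10228 IH) (Lpr_dt (K3.f10233 IH) (Lpr_gt (K0.f10755 IH) (Lpe (K1.f10770 IH) (Lpr_et (K3.f10771 IH) (Lpr_gt (f456826 IH) (Lpn v698)))))))))))))).symm
theorem f108422 : Led Lsl_at (LP (LK LD1_c1 LD2_c44 LD3_c59)) = (LP (LK LD1_c1 LD2_c42 LD3_c56)) :=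
  Lgr Lrot100 (Lpr_af (f108413 IH) (Lpn (LP (LK LD1_c1 LD2_c42 LD3_c56))))
theorem f456827 : Led Lsl_gf (LP (LK LD1_c1 LD2_c42 LD3_c56)) = v698 :=
  Lgr Lrot76 (Lpe (f108422 IH) (Lpe (K3.f108435 IH) (Lpr_gt (f456826 IH) (Lpn v698))))
theorem f108310 : Led Lsl_af (LP (LK LD1_c1 LD2_c44 LD3_c57)) = (LP (LK LD1_c1 LD2_c42 LD3_c53)) :=
  Lgr Lrot0 (Lpr_at (K3.f108308 IH) (Lpn (LP (LK LD1_c1 LD2_c42 LD3_c53))))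
theorem f17899 : Led Lsl_gt (LP (LK LD1_c3 LD2_c36 LD3_c9)) = (LP (LK LD1_c1 LD2_c44 LD3_c57)) :=
  Lre_g IH (LK LD1_c3 LD2_c36 LD3_c9) (LK LD1_c1 LD2_c44 LD3_c57) Lrfl Lrfl
theorem f108262 : Led Lsl_ft (LP (LK LD1_c3 LD2_c32 LD3_c24)) = (LP (LK LD1_c1 LD2_c42 LD3_c53)) :=
  Lre_f IH (LK LD1_c3 LD2_c32 LD3_c24) (LK LD1_c1 LD2_c42 LD3_c53) Lrfl Lrfl
theorem f108485 : Led Lsl_gf (LP (LK LD1_c3 LD2_c36 LD3_c9)) = (LP (LK LD1_c3 LD2_c32 LD3_c24)) :=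
  Lgr Lrot47 (Lpr_gt (f17899 IH) (Lpr_af (f108310 IH) (Lpe (f108262 IH) (Lpn (LP (LK LD1_c3 LD2_c32 LD3_c24))))))
theorem f461796 : Led Lsl_ct (LP (LK LD1_c3 LD2_c31 LD3_c1)) = (LP (LK LD1_c3 LD2_c36 LD3_c9)) :=
  Lgr Lrot63 (Lpr_bt (f18850 IH) (Lpr_gt (f18608 IH) (Lpe (K2.f18570 IH) (Lpr_ct (f11067 IH) (Lpr_gt (f11034 IH) (Lpqs (f457409 IH) (Lpe (f455597 IH) (Lpr_bt (f446421 IH) (Lpqs (f461789 IH) (Lpe (f456827 IH) (Lpr_ct (K3.f108238 IH) (Lpe (f108485 IH) (Lpn (LP (LK LD1_c3 LD2_c36 LD3_c9)))))))))))))))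
theorem f18843 : Led Lsl_gt (LP (LK LD1_c3 LD2_c28 LD3_c19)) = (LP (LK LD1_c1 LD2_c42 LD3_c3)) :=
  Lre_g IH (LK LD1_c3 LD2_c28 LD3_c19) (LK LD1_c1 LD2_c42 LD3_c3) Lrfl Lrfl
theorem f18849 : Led Lsl_gt (LP (LK LD1_c3 LD2_c30 LD3_c32)) = (LP (LK LD1_c6 LD2_c58 LD3_c47)) :=
  Lre_g IH (LK LD1_c3 LD2_c30 LD3_c32) (LK LD1_c6 LD2_c58 LD3_c47) Lrfl Lrfl
theorem f17873 : Led Lsl_ct (LP (LK LD1_c0 LD2_c49 LD3_c10)) = (LP (LK LD1_c1 LD2_c44 LD3_c57)) :=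
  Lre_c IH (LK LD1_c0 LD2_c49 LD3_c10) (LK LD1_c1 LD2_c44 LD3_c57) Lrfl Lrfl
theorem f17804 : Led Lsl_bt (LP (LK LD1_c0 LD2_c49 LD3_c10)) = (LP (LK LD1_c1 LD2_c44 LD3_c50)) :=
  Lre_b IH (LK LD1_c0 LD2_c49 LD3_c10) (LK LD1_c1 LD2_c44 LD3_c50) Lrfl Lrfl
theorem f17818 : Led Lsl_gt (LP (LK LD1_c1 LD2_c44 LD3_c50)) = (LP (LK LD1_c3 LD2_c35 LD3_c57)) :=
  Lre_g IH (LK LD1_c1 LD2_c44 LD3_c50) (LK LD1_c3 LD2_c35 LD3_c57) Lrfl Lrfl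
theorem f461806 : Led Lsl_cf (LP (LK LD1_c3 LD2_c30 LD3_c32)) = (LP (LK LD1_c3 LD2_c35 LD3_c57)) :=
  Lgr Lrot125 (Lpr_gt (f18849 IH) (Lpe (f18834 IH) (Lpe (K3.f18809 IH) (Lpr_gt (f18843 IH) (Lpe (f18850 IH) (Lpr_ct (f461796 IH) (Lpr_gt (f17899 IH) (Lpe (f17873 IH) (Lpr_bt (f17804 IH) (Lpr_gt (f17818 IH) (Lpn (LP (LK LD1_c3 LD2_c35 LD3_c57)))))))))))))
theorem f443331 : Led Lsl_et (LP (LK LD1_c3 LD2_c30 LD3_c32)) = (LP (LK LD1_c7 LD2_c3 LD3_c2)) :=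
  Lre_e IH (LK LD1_c3 LD2_c30 LD3_c32) (LK LD1_c7 LD2_c3 LD3_c2) Lrfl Lrfl
theorem f95182 : Led Lsl_et (LP (LK LD1_c7 LD2_c12 LD3_c26)) = (LP (LK LD1_c3 LD2_c35 LD3_c57)) :=
  Lre_e IH (LK LD1_c7 LD2_c12 LD3_c26) (LK LD1_c3 LD2_c35 LD3_c57) Lrfl Lrfl
theorem f461811 : Led Lsl_ct (LP (LK LD1_c7 LD2_c3 LD3_c2)) = (LP (LK LD1_c7 LD2_c12 LD3_c26)) :=
  Lgr Lrot15 (Lpe (f443331 IH) (Lpr_cf (f461806 IH) (Lpe (f95182 IH) (Lpn (LP (LK LD1_c7 LD2_c12 LD3_c26))))))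
theorem f64995 : Led Lsl_dt (LP (LK LD1_c0 LD2_c53 LD3_c3)) = (LP (LK LD1_c1 LD2_c52 LD3_c50)) :=
  Lre_d IH (LK LD1_c0 LD2_c53 LD3_c3) (LK LD1_c1 LD2_c52 LD3_c50) Lrfl Lrfl
theorem f64996 : Led Lsl_gt (LP (LK LD1_c1 LD2_c52 LD3_c50)) = (LP (LK LD1_c3 LD2_c47 LD3_c59)) :=
  Lre_g IH (LK LD1_c1 LD2_c52 LD3_c50) (LK LD1_c3 LD2_c47 LD3_c59) Lrfl Lrfl
theorem f64997 : Led Lsl_et (LP (LK LD1_c3 LD2_c29 LD3_c9)) = (LP (LK LD1_c6 LD2_c58 LD3_c47)) :=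
  Lre_e IH (LK LD1_c3 LD2_c29 LD3_c9) (LK LD1_c6 LD2_c58 LD3_c47) Lrfl Lrfl
theorem f64998 : Led Lsl_et (LP (LK LD1_c7 LD2_c3 LD3_c2)) = (LP (LK LD1_c3 LD2_c30 LD3_c32)) :=
  Lre_e IH (LK LD1_c7 LD2_c3 LD3_c2) (LK LD1_c3 LD2_c30 LD3_c32) Lrfl Lrfl
theorem f64999 : Led Lsl_df (LP (LK LD1_c3 LD2_c47 LD3_c59)) = (LP (LK LD1_c7 LD2_c3 LD3_c2)) :=
  Lgr Lrot132 (Lpe (f64996 IH) (Lpe (f64995 IH) (Lpe (K1.f11242 IH) (Lpe (K1.f64969 IH) (Lpr_dt (K1.f64972 IH) (Lpe (K1.f64971 IH) (Lpe (K1.f64970 IH) (Lpr_et (f64997 IH) (Lpe (f18849 IH) (Lpe (f64998 IH) (Lpn (LP (LK LD1_c7 LD2_c3 LD3_c2)))))))))))))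
theorem f443328 : Led Lsl_dt (LP (LK LD1_c3 LD2_c47 LD3_c59)) = (LP (LK LD1_c7 LD2_c3 LD3_c2)) :=
  Lgr Lrot42 (Lpr_df (f64999 IH) (Lpn (LP (LK LD1_c7 LD2_c3 LD3_c2))))
theorem f457787 : Led Lsl_gt (LP (LK LD1_c1 LD2_c40 LD3_c22)) = (LP (LK LD1_c3 LD2_c27 LD3_c32)) :=
  Lre_g IH (LK LD1_c1 LD2_c40 LD3_c22) (LK LD1_c3 LD2_c27 LD3_c32) Lrfl Lrfl
theorem f110229 : Led Lsl_et (LP (LK LD1_c3 LD2_c25 LD3_c24)) = (LP (LK LD1_c1 LD2_c39 LD3_c19)) :=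
  Lre_e IH (LK LD1_c3 LD2_c25 LD3_c24) (LK LD1_c1 LD2_c39 LD3_c19) Lrfl Lrfl
theorem f108772 : Led Lsl_gt (LP (LK LD1_c6 LD2_c34 LD3_c3)) = (LP (LK LD1_c3 LD2_c15 LD3_c22)) :=
  Lre_g IH (LK LD1_c6 LD2_c34 LD3_c3) (LK LD1_c3 LD2_c15 LD3_c22) Lrfl Lrfl
theorem f440181 : Led Lsl_dt (LP (LK LD1_c7 LD2_c12 LD3_c26)) = (LP (LK LD1_c6 LD2_c34 LD3_c3)) :=
  Lgr Lrot136 (Lpr_et (f95182 IH) (Lpe (f17818 IH) (Lpe (K4.f17793 IH) (Lpr_dt (K3.f17743 IH) (Lpe (K3.f95140 IH) (Lpr_df (K3.f92026 IH) (Lpe (K3.f110214 IH) (Lpe (f110229 IH) (Lpr_dt (f128071 IH) (Lpe (f108772 IH) (Lpn (LP (LK LD1_c6 LD2_c34 LD3_c3)))))))))))))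
theorem f440183 : Led Lsl_df (LP (LK LD1_c7 LD2_c12 LD3_c26)) = (LP (LK LD1_c6 LD2_c34 LD3_c3)) :=
  Lgr Lrot38 (Lpr_dt (f440181 IH) (Lpn (LP (LK LD1_c6 LD2_c34 LD3_c3))))
theorem f92418 : Led Lsl_ft (LP (LK LD1_c3 LD2_c32 LD3_c34)) = (LP (LK LD1_c1 LD2_c42 LD3_c59)) :=
  Lre_f IH (LK LD1_c3 LD2_c32 LD3_c34) (LK LD1_c1 LD2_c42 LD3_c59) Lrfl Lrfl
theorem f441547 : Led Lsl_gf (LP (LK LD1_c6 LD2_c34 LD3_c3)) = (LP (LK LD1_c3 LD2_c32 LD3_c34)) :=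
  Lgr Lrot47 (Lpr_gt (f108772 IH) (Lpr_af (K5.f108757 IH) (Lpe (f92418 IH) (Lpn (LP (LK LD1_c3 LD2_c32 LD3_c34))))))
theorem f461898 : Led Lsl_dt (LP (LK LD1_c3 LD2_c27 LD3_c32)) = (LP (LK LD1_c3 LD2_c32 LD3_c34)) :=
  Lgr Lrot115 (Lpe (f457787 IH) (Lpr_ct (f457774 IH) (Lpr_gt (K1.f11242 IH) (Lpr_dt (f64995 IH) (Lpr_gt (f64996 IH) (Lpr_dt (f443328 IH) (Lpr_ct (f461811 IH) (Lpr_df (f440183 IH) (Lpr_gf (f441547 IH) (Lpn (LP (LK LD1_c3 LD2_c32 LD3_c34))))))))))))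
theorem f461907 : Led Lsl_ft (LP (LK LD1_c3 LD2_c27 LD3_c32)) = (LP (LK LD1_c1 LD2_c43 LD3_c24)) :=
  Lgr Lrot142 (Lpr_dt (f461898 IH) (Lpr_ct (f460545 IH) (Lpr_dt (f129830 IH) (Lpr_ct (f460553 IH) (Lpe (f460554 IH) (Lpr_ct (f87978 IH) (Lpr_dt (K5.f87987 IH) (Lpe (K5.f128073 IH) (Lpr_af (K5.f128082 IH) (Lpn (LP (LK LD1_c1 LD2_c43 LD3_c24))))))))))))
theorem f89731 : Led Lsl_et (LP (LK LD1_c1 LD2_c43 LD3_c24)) = (LP (LK LD1_c0 LD2_c48 LD3_c20)) :=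
  Lre_e IH (LK LD1_c1 LD2_c43 LD3_c24) (LK LD1_c0 LD2_c48 LD3_c20) Lrfl Lrfl
theorem f461920 : Led Lsl_ef (LP (LK LD1_c3 LD2_c27 LD3_c32)) = (LP (LK LD1_c3 LD2_c36 LD3_c43)) :=
  Lgr Lrot21 (Lpr_ft (f461907 IH) (Lpr_et (f89731 IH) (Lpr_ft (K3.f107186 IH) (Lpr_et (K3.f17438 IH) (Lpr_ft (K3.f17329 IH) (Lpn (LP (LK LD1_c3 LD2_c36 LD3_c43))))))))
theorem f460172 : Led Lsl_et (LP (LK LD1_c3 LD2_c52 LD3_c46)) = (LP (LK LD1_c7 LD2_c47 LD3_c14)) :=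
  Lre_e IH (LK LD1_c3 LD2_c52 LD3_c46) (LK LD1_c7 LD2_c47 LD3_c14) Lrfl Lrfl
theorem f460173 : Led Lsl_ft (LP (LK LD1_c7 LD2_c47 LD3_c14)) = (LP (LK LD1_c14 LD2_c41 LD3_c37)) :=
  Lre_f IH (LK LD1_c7 LD2_c47 LD3_c14) (LK LD1_c14 LD2_c41 LD3_c37) Lrfl Lrfl
theorem f460174 : Led Lsl_ef (LP (LK LD1_c22 LD2_c33 LD3_c33)) = (LP (LK LD1_c14 LD2_c41 LD3_c37)) :=
  Lgr Lrot21 (Lpr_ft (K5.f104031 IH) (Lpe (K5.f103956 IH) (Lpr_ft (f460163 IH) (Lpr_et (f460172 IH) (Lpr_ft (f460173 IH) (Lpn (LP (LK LD1_c14 LD2_c41 LD3_c37))))))))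
theorem f126400 : Led Lsl_ft (LP (LK LD1_c6 LD2_c34 LD3_c30)) = (LP (LK LD1_c12 LD2_c35 LD3_c23)) :=
  Lre_f IH (LK LD1_c6 LD2_c34 LD3_c30) (LK LD1_c12 LD2_c35 LD3_c23) Lrfl Lrfl
theorem f141495 : Led Lsl_cf (LP (LK LD1_c13 LD2_c17 LD3_c45)) = (LP (LK LD1_c12 LD2_c35 LD3_c23)) :=
  Lgr Lrot108 (Lpr_ft (K5.f126414 IH) (Lpr_ct (K6.f141451 IH) (Lpr_ft (f126400 IH) (Lpn (LP (LK LD1_c12 LD2_c35 LD3_c23))))))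
theorem f93422 : Led Lsl_et (LP (LK LD1_c7 LD2_c31 LD3_c8)) = (LP (LK LD1_c3 LD2_c45 LD3_c10)) :=
  Lre_e IH (LK LD1_c7 LD2_c31 LD3_c8) (LK LD1_c3 LD2_c45 LD3_c10) Lrfl Lrfl
theorem f93404 : Led Lsl_ft (LP (LK LD1_c14 LD2_c11 LD3_c37)) = (LP (LK LD1_c7 LD2_c31 LD3_c8)) :=
  Lre_f IH (LK LD1_c14 LD2_c11 LD3_c37) (LK LD1_c7 LD2_c31 LD3_c8) Lrfl Lrfl
theorem f126401 : Led Lsl_et (LP (LK LD1_c12 LD2_c35 LD3_c23)) = (LP (LK LD1_c14 LD2_c11 LD3_c37)) :=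
  Lgr Lrot69 (Lpe (f126400 IH) (Lpe (K6.f103838 IH) (Lpr_ff (K5.f126392 IH) (Lpe (f93422 IH) (Lpe (f93404 IH) (Lpn (LP (LK LD1_c14 LD2_c11 LD3_c37))))))))
theorem f126405 : Led Lsl_ef (LP (LK LD1_c12 LD2_c35 LD3_c23)) = (LP (LK LD1_c14 LD2_c11 LD3_c37)) :=
  Lgr Lrot88 (Lpr_et (f126401 IH) (Lpn (LP (LK LD1_c14 LD2_c11 LD3_c37))))
theorem f93396 : Led Lsl_et (LP (LK LD1_c3 LD2_c45 LD3_c10)) = (LP (LK LD1_c7 LD2_c31 LD3_c8)) :=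
  Lre_e IH (LK LD1_c3 LD2_c45 LD3_c10) (LK LD1_c7 LD2_c31 LD3_c8) Lrfl Lrfl
theorem f93397 : Led Lsl_ct (LP (LK LD1_c7 LD2_c31 LD3_c8)) = (LP (LK LD1_c3 LD2_c45 LD3_c60)) :=
  Lgr Lrot15 (Lpe (f93396 IH) (Lpr_cf (K3.f93366 IH) (Lpe (K5.f92680 IH) (Lpn (LP (LK LD1_c3 LD2_c45 LD3_c60))))))
theorem f93405 : Led Lsl_ft (LP (LK LD1_c3 LD2_c45 LD3_c60)) = (LP (LK LD1_c7 LD2_c32 LD3_c49)) :=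
  Lre_f IH (LK LD1_c3 LD2_c45 LD3_c60) (LK LD1_c7 LD2_c32 LD3_c49) Lrfl Lrfl
theorem f93406 : Led Lsl_cf (LP (LK LD1_c14 LD2_c11 LD3_c37)) = (LP (LK LD1_c7 LD2_c32 LD3_c49)) :=
  Lgr Lrot108 (Lpr_ft (f93404 IH) (Lpr_ct (f93397 IH) (Lpr_ft (f93405 IH) (Lpn (LP (LK LD1_c7 LD2_c32 LD3_c49))))))
theorem f141500 : Led Lsl_et (LP (LK LD1_c13 LD2_c17 LD3_c45)) = (LP (LK LD1_c7 LD2_c32 LD3_c49)) :=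
  Lgr Lrot158 (Lpr_cf (f141495 IH) (Lpr_ef (f126405 IH) (Lpr_cf (f93406 IH) (Lpn (LP (LK LD1_c7 LD2_c32 LD3_c49))))))
theorem f93416 : Led Lsl_dt (LP (LK LD1_c7 LD2_c32 LD3_c49)) = (LP (LK LD1_c14 LD2_c13 LD3_c46)) :=
  Lre_d IH (LK LD1_c7 LD2_c32 LD3_c49) (LK LD1_c14 LD2_c13 LD3_c46) Lrfl Lrfl
theorem f92974 : Led Lsl_et (LP (LK LD1_c14 LD2_c13 LD3_c46)) = (LP (LK LD1_c23 LD2_c49 LD3_c18)) :=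
  Lre_e IH (LK LD1_c14 LD2_c13 LD3_c46) (LK LD1_c23 LD2_c49 LD3_c18) Lrfl Lrfl
theorem f460181 : Led Lsl_dt (LP (LK LD1_c23 LD2_c49 LD3_c18)) = (LP (LK LD1_c14 LD2_c41 LD3_c37)) :=
  Lgr Lrot77 (Lpe (f92974 IH) (Lpe (f93416 IH) (Lpe (f141500 IH) (Lpe (K5.f127782 IH) (Lpr_ef (f460174 IH) (Lpn (LP (LK LD1_c14 LD2_c41 LD3_c37))))))))
theorem f460160 : Led Lsl_ft (LP (LK LD1_c14 LD2_c41 LD3_c37)) = (LP (LK LD1_c7 LD2_c47 LD3_c14)) :=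
  Lre_f IH (LK LD1_c14 LD2_c41 LD3_c37) (LK LD1_c7 LD2_c47 LD3_c14) Lrfl Lrfl
theorem f460188 : Led Lsl_df (LP (LK LD1_c14 LD2_c22 LD3_c59)) = (LP (LK LD1_c7 LD2_c47 LD3_c14)) :=
  Lgr Lrot78 (Lpe (K5.f92951 IH) (Lpr_dt (f460181 IH) (Lpr_ft (f460160 IH) (Lpn (LP (LK LD1_c7 LD2_c47 LD3_c14))))))
theorem f92976 : Led Lsl_et (LP (LK LD1_c14 LD2_c22 LD3_c59)) = (LP (LK LD1_c7 LD2_c37 LD3_c53)) :=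
  Lre_e IH (LK LD1_c14 LD2_c22 LD3_c59) (LK LD1_c7 LD2_c37 LD3_c53) Lrfl Lrfl
theorem f17349 : Led Lsl_dt (LP (LK LD1_c7 LD2_c37 LD3_c53)) = (LP (LK LD1_c3 LD2_c48 LD3_c25)) :=
  Lre_d IH (LK LD1_c7 LD2_c37 LD3_c53) (LK LD1_c3 LD2_c48 LD3_c25) Lrfl Lrfl
theorem f460195 : Led Lsl_et (LP (LK LD1_c3 LD2_c48 LD3_c25)) = (LP (LK LD1_c1 LD2_c52 LD3_c60)) :=
  Lgr Lrot71 (Lpe (f17349 IH) (Lpe (f92976 IH) (Lpr_df (f460188 IH) (Lpe (f460172 IH) (Lpe (f63036 IH) (Lpn (LP (LK LD1_c1 LD2_c52 LD3_c60))))))))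
theorem f460204 : Led Lsl_ef (LP (LK LD1_c3 LD2_c48 LD3_c25)) = (LP (LK LD1_c1 LD2_c52 LD3_c60)) :=
  Lgr Lrot88 (Lpr_et (f460195 IH) (Lpn (LP (LK LD1_c1 LD2_c52 LD3_c60))))
theorem f461923 : Led Lsl_ct (LP (LK LD1_c3 LD2_c27 LD3_c32)) = (LP (LK LD1_c1 LD2_c52 LD3_c60)) :=
  Lgr Lrot15 (Lpr_ef (f461920 IH) (Lpr_cf (K3.f17345 IH) (Lpr_ef (f460204 IH) (Lpn (LP (LK LD1_c1 LD2_c52 LD3_c60))))))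
theorem f17339 : Led Lsl_bt (LP (LK LD1_c1 LD2_c45 LD3_c17)) = (LP (LK LD1_c3 LD2_c36 LD3_c43)) :=
  Lre_b IH (LK LD1_c1 LD2_c45 LD3_c17) (LK LD1_c3 LD2_c36 LD3_c43) Lrfl Lrfl
theorem f97318 : Led Lsl_et (LP (LK LD1_c0 LD2_c21 LD3_c39)) = (LP (LK LD1_c0 LD2_c48 LD3_c22)) :=
  Lre_e IH (LK LD1_c0 LD2_c21 LD3_c39) (LK LD1_c0 LD2_c48 LD3_c22) Lrfl Lrfl
theorem f108167 : Led Lsl_ff (LP (LK LD1_c0 LD2_c21 LD3_c39)) = (LP (LK LD1_c0 LD2_c22 LD3_c7)) :=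
  Lgr Lrot19 (Lpe (K3.f97306 IH) (Lpr_ft (K3.f108161 IH) (Lpe (K0.f17465 IH) (Lpn (LP (LK LD1_c0 LD2_c22 LD3_c7))))))
theorem f10807 : Led Lsl_et (LP (LK LD1_c0 LD2_c49 LD3_c20)) = (LP (LK LD1_c0 LD2_c22 LD3_c7)) :=
  Lre_e IH (LK LD1_c0 LD2_c49 LD3_c20) (LK LD1_c0 LD2_c22 LD3_c7) Lrfl Lrfl
theorem f107944 : Led Lsl_ft (LP (LK LD1_c1 LD2_c45 LD3_c17)) = (LP (LK LD1_c0 LD2_c49 LD3_c20)) :=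
  Lre_f IH (LK LD1_c1 LD2_c45 LD3_c17) (LK LD1_c0 LD2_c49 LD3_c20) Lrfl Lrfl
theorem f455830 : Led Lsl_ef (LP (LK LD1_c1 LD2_c45 LD3_c17)) = v662 :=
  Lgr Lrot21 (Lpr_ft (f107944 IH) (Lpr_et (f10807 IH) (Lpe (f108167 IH) (Lpr_et (f97318 IH) (Lpr_ft (f455828 IH) (Lpn v662))))))
theorem f461922 : Led Lsl_bt (LP (LK LD1_c3 LD2_c27 LD3_c32)) = v662 :=
  Lgr Lrot119 (Lpr_ef (f461920 IH) (Lpe (f17339 IH) (Lpr_ef (f455830 IH) (Lpn v662))))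
theorem f11219 : Led Lsl_bt (LP (LK LD1_c0 LD2_c5 LD3_c2)) = (LP (LK LD1_c0 LD2_c10 LD3_c41)) :=
  Lre_b IH (LK LD1_c0 LD2_c5 LD3_c2) (LK LD1_c0 LD2_c10 LD3_c41) Lrfl Lrfl
theorem f451229 : Led Lsl_cf (LP (LK LD1_c0 LD2_c24 LD3_c17)) = v230 :=
  Lgr Lrot11 (Lpr_ct (f451227 IH) (Lpn v230))
theorem f461929 : v701 = (LP (LK LD1_c0 LD2_c46 LD3_c48)) :=
  (Llr Lrot164 (Lpe (f456838 IH) (Lpe (f461922 IH) (Lpr_ct (f461923 IH) (Lpe (f63035 IH) (Lpe (f451114 IH) (Lpe (K1.f62722 IH) (Lpe (f11219 IH) (Lpr_ct (f11224 IH) (Lpe (f11890 IH) (Lpr_cf (f451229 IH) (Lpq (f457382 IH) (Lpr_bt (f446429 IH) (Lpn (LP (LK LD1_c0 LD2_c46 LD3_c48)))))))))))))))).symm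
theorem f461932 : v662 = (LP (LK LD1_c1 LD2_c40 LD3_c40)) :=
  Lefun (Lecon (Lfl_gt (f456838 IH)) (f461929 IH)) (Lfl_gt (f446456 IH))
theorem f10467 : Led Lsl_et (LP (LK LD1_c0 LD2_c48 LD3_c22)) = (LP (LK LD1_c0 LD2_c21 LD3_c39)) :=
  Lre_e IH (LK LD1_c0 LD2_c48 LD3_c22) (LK LD1_c0 LD2_c21 LD3_c39) Lrfl Lrfl
theorem f10789 : Led Lsl_et (LP (LK LD1_c0 LD2_c21 LD3_c35)) = (LP (LK LD1_c0 LD2_c48 LD3_c10)) :=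
  Lre_e IH (LK LD1_c0 LD2_c21 LD3_c35) (LK LD1_c0 LD2_c48 LD3_c10) Lrfl Lrfl
theorem f106002 : Led Lsl_df (LP (LK LD1_c0 LD2_c48 LD3_c22)) = (LP (LK LD1_c0 LD2_c48 LD3_c10)) :=
  Lgr Lrot70 (Lpr_et (f10467 IH) (Lpe (K3.f97306 IH) (Lpr_et (K3.f105995 IH) (Lpr_dt (K3.f10777 IH) (Lpr_et (f10789 IH) (Lpn (LP (LK LD1_c0 LD2_c48 LD3_c10))))))))
theorem f455829 : Led Lsl_df (LP (LK LD1_c1 LD2_c43 LD3_c3)) = v662 :=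
  Lgr Lrot78 (Lpr_ft (K3.f108666 IH) (Lpe (f106002 IH) (Lpr_ft (f455828 IH) (Lpn v662))))
def v702 : LQ := Led Lsl_ft (LP (LK LD1_c0 LD2_c49 LD3_c17))
theorem f456839 : Led Lsl_ft (LP (LK LD1_c0 LD2_c49 LD3_c17)) = v702 :=
  Lrfl
theorem f456843 : Led Lsl_ff (LP (LK LD1_c0 LD2_c49 LD3_c17)) = v702 :=
  Lgr Lrot3 (Lpr_ft (f456839 IH) (Lpn v702))
theorem f456846 : Led Lsl_dt (LP (LK LD1_c1 LD2_c44 LD3_c47)) = v702 :=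
  Lgr Lrot60 (Lpe (K3.f106221 IH) (Lpr_df (f106204 IH) (Lpr_ff (f456843 IH) (Lpn v702))))
theorem f461944 : (LP (LK LD1_c1 LD2_c40 LD3_c35)) = v702 :=
  (Llr Lrot145 (Lpr_gt (f455243 IH) (Lpe (f446461 IH) (Lpr_et (f446463 IH) (Lpr_gt (f455354 IH) (Lpq (f461932 IH) (Lpe (f455829 IH) (Lpr_gt (f456825 IH) (Lpqs (f461786 IH) (Lpe (f446495 IH) (Lpr_et (f446489 IH) (Lpqs (f461789 IH) (Lpe (f456827 IH) (Lpe (K3.f108231 IH) (Lpr_dt (f456846 IH) (Lpn v702)))))))))))))))).symm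
theorem f108212 : Led Lsl_at (LP (LK LD1_c0 LD2_c49 LD3_c2)) = (LP (LK LD1_c0 LD2_c48 LD3_c10)) :=
  Lgr Lrot80 (Lpe (K3.f10306 IH) (Lpr_af (K3.f108204 IH) (Lpe (K3.f92347 IH) (Lpn (LP (LK LD1_c0 LD2_c48 LD3_c10))))))
theorem f108220 : Led Lsl_ft (LP (LK LD1_c1 LD2_c44 LD3_c47)) = (LP (LK LD1_c0 LD2_c49 LD3_c2)) :=
  Lre_f IH (LK LD1_c1 LD2_c44 LD3_c47) (LK LD1_c0 LD2_c49 LD3_c2) Lrfl Lrfl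
theorem f92420 : Led Lsl_gt (LP (LK LD1_c1 LD2_c43 LD3_c2)) = (LP (LK LD1_c0 LD2_c48 LD3_c10)) :=
  Lre_g IH (LK LD1_c1 LD2_c43 LD3_c2) (LK LD1_c0 LD2_c48 LD3_c10) Lrfl Lrfl
theorem f441675 : Led Lsl_gt (LP (LK LD1_c1 LD2_c44 LD3_c47)) = (LP (LK LD1_c1 LD2_c43 LD3_c2)) :=
  Lgr Lrot5 (Lpr_ft (f108220 IH) (Lpr_at (f108212 IH) (Lpe (f92420 IH) (Lpn (LP (LK LD1_c1 LD2_c43 LD3_c2))))))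
theorem f93159 : Led Lsl_ct (LP (LK LD1_c1 LD2_c43 LD3_c2)) = (LP (LK LD1_c3 LD2_c32 LD3_c43)) :=
  Lre_c IH (LK LD1_c1 LD2_c43 LD3_c2) (LK LD1_c3 LD2_c32 LD3_c43) Lrfl Lrfl
theorem f93153 : Led Lsl_et (LP (LK LD1_c0 LD2_c50 LD3_c4)) = (LP (LK LD1_c1 LD2_c46 LD3_c41)) :=
  Lre_e IH (LK LD1_c0 LD2_c50 LD3_c4) (LK LD1_c1 LD2_c46 LD3_c41) Lrfl Lrfl
theorem f6657 : Led Lsl_gt (LP (LK LD1_c0 LD2_c48 LD3_c26)) = (LP (LK LD1_c1 LD2_c43 LD3_c38)) :=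
  Lre_g IH (LK LD1_c0 LD2_c48 LD3_c26) (LK LD1_c1 LD2_c43 LD3_c38) Lrfl Lrfl
theorem f6658 : Led Lsl_dt (LP (LK LD1_c1 LD2_c43 LD3_c38)) = (LP (LK LD1_c3 LD2_c33 LD3_c51)) :=
  Lre_d IH (LK LD1_c1 LD2_c43 LD3_c38) (LK LD1_c3 LD2_c33 LD3_c51) Lrfl Lrfl
theorem f93154 : Led Lsl_gt (LP (LK LD1_c3 LD2_c33 LD3_c51)) = (LP (LK LD1_c7 LD2_c8 LD3_c39)) :=
  Lre_g IH (LK LD1_c3 LD2_c33 LD3_c51) (LK LD1_c7 LD2_c8 LD3_c39) Lrfl Lrfl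
theorem f93155 : Led Lsl_dt (LP (LK LD1_c7 LD2_c6 LD3_c19)) = (LP (LK LD1_c7 LD2_c8 LD3_c39)) :=
  Lre_d IH (LK LD1_c7 LD2_c6 LD3_c19) (LK LD1_c7 LD2_c8 LD3_c39) Lrfl Lrfl
theorem f93156 : Led Lsl_et (LP (LK LD1_c7 LD2_c6 LD3_c19)) = (LP (LK LD1_c3 LD2_c32 LD3_c43)) :=
  Lre_e IH (LK LD1_c7 LD2_c6 LD3_c19) (LK LD1_c3 LD2_c32 LD3_c43) Lrfl Lrfl
theorem f93157 : Led Lsl_gf (LP (LK LD1_c1 LD2_c46 LD3_c41)) = (LP (LK LD1_c3 LD2_c32 LD3_c43)) :=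
  Lgr Lrot141 (Lpe (f93153 IH) (Lpr_dt (K3.f92482 IH) (Lpr_gt (K3.f6564 IH) (Lpe (K3.f6097 IH) (Lpr_et (K3.f6012 IH) (Lpr_gt (f6657 IH) (Lpr_dt (f6658 IH) (Lpr_gt (f93154 IH) (Lpe (f93155 IH) (Lpr_et (f93156 IH) (Lpn (LP (LK LD1_c3 LD2_c32 LD3_c43)))))))))))))
theorem f131700 : Led Lsl_bt (LP (LK LD1_c0 LD2_c49 LD3_c52)) = (LP (LK LD1_c1 LD2_c46 LD3_c13)) :=
  Lre_b IH (LK LD1_c0 LD2_c49 LD3_c52) (LK LD1_c1 LD2_c46 LD3_c13) Lrfl Lrfl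
theorem f12845 : Led Lsl_bt (LP (LK LD1_c1 LD2_c48 LD3_c52)) = (LP (LK LD1_c0 LD2_c51 LD3_c13)) :=
  Lre_b IH (LK LD1_c1 LD2_c48 LD3_c52) (LK LD1_c0 LD2_c51 LD3_c13) Lrfl Lrfl
theorem f131701 : Led Lsl_ct (LP (LK LD1_c1 LD2_c46 LD3_c13)) = (LP (LK LD1_c1 LD2_c48 LD3_c52)) :=
  Lgr Lrot83 (Lpe (f131700 IH) (Lpe (K3.f97190 IH) (Lpr_bf (K5.f131698 IH) (Lpe (K5.f12901 IH) (Lpe (f12845 IH) (Lpn (LP (LK LD1_c1 LD2_c48 LD3_c52))))))))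
theorem f5053 : Led Lsl_bt (LP (LK LD1_c1 LD2_c46 LD3_c13)) = (LP (LK LD1_c0 LD2_c49 LD3_c52)) :=
  Lre_b IH (LK LD1_c1 LD2_c46 LD3_c13) (LK LD1_c0 LD2_c49 LD3_c52) Lrfl Lrfl
theorem f94425 : Led Lsl_bt (LP (LK LD1_c0 LD2_c48 LD3_c1)) = (LP (LK LD1_c1 LD2_c42 LD3_c51)) :=
  Lre_b IH (LK LD1_c0 LD2_c48 LD3_c1) (LK LD1_c1 LD2_c42 LD3_c51) Lrfl Lrfl
theorem f108282 : Led Lsl_gt (LP (LK LD1_c1 LD2_c42 LD3_c51)) = (LP (LK LD1_c3 LD2_c32 LD3_c17)) :=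
  Lre_g IH (LK LD1_c1 LD2_c42 LD3_c51) (LK LD1_c3 LD2_c32 LD3_c17) Lrfl Lrfl
theorem f148296 : Led Lsl_gt (LP (LK LD1_c3 LD2_c43 LD3_c34)) = (LP (LK LD1_c1 LD2_c48 LD3_c52)) :=
  Lre_g IH (LK LD1_c3 LD2_c43 LD3_c34) (LK LD1_c1 LD2_c48 LD3_c52) Lrfl Lrfl
theorem f439222 : Led Lsl_ct (LP (LK LD1_c3 LD2_c32 LD3_c17)) = (LP (LK LD1_c3 LD2_c43 LD3_c34)) :=
  Lgr Lrot91 (Lpe (f108282 IH) (Lpe (f94425 IH) (Lpr_ct (K3.f92289 IH) (Lpr_gf (K3.f94414 IH) (Lpe (K0.f4956 IH) (Lpe (K3.f3924 IH) (Lpe (K3.f383 IH) (Lpe (f5053 IH) (Lpr_ct (f131701 IH) (Lpe (f148296 IH) (Lpn (LP (LK LD1_c3 LD2_c43 LD3_c34)))))))))))))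
theorem f439225 : Led Lsl_cf (LP (LK LD1_c3 LD2_c32 LD3_c17)) = (LP (LK LD1_c3 LD2_c43 LD3_c34)) :=
  Lgr Lrot11 (Lpr_ct (f439222 IH) (Lpn (LP (LK LD1_c3 LD2_c43 LD3_c34))))
theorem f108253 : Led Lsl_bt (LP (LK LD1_c7 LD2_c12 LD3_c6)) = (LP (LK LD1_c3 LD2_c35 LD3_c51)) :=
  Lre_b IH (LK LD1_c7 LD2_c12 LD3_c6) (LK LD1_c3 LD2_c35 LD3_c51) Lrfl Lrfl
theorem f108254 : Led Lsl_bt (LP (LK LD1_c3 LD2_c32 LD3_c24)) = (LP (LK LD1_c7 LD2_c5 LD3_c41)) :=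
  Lre_b IH (LK LD1_c3 LD2_c32 LD3_c24) (LK LD1_c7 LD2_c5 LD3_c41) Lrfl Lrfl
theorem f108255 : Led Lsl_ef (LP (LK LD1_c7 LD2_c12 LD3_c6)) = (LP (LK LD1_c7 LD2_c5 LD3_c41)) :=
  Lgr Lrot29 (Lpr_bt (f108253 IH) (Lpr_et (K3.f108248 IH) (Lpr_bt (f108254 IH) (Lpn (LP (LK LD1_c7 LD2_c5 LD3_c41))))))
theorem f108265 : Led Lsl_ft (LP (LK LD1_c7 LD2_c12 LD3_c6)) = (LP (LK LD1_c3 LD2_c35 LD3_c44)) :=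
  Lre_f IH (LK LD1_c7 LD2_c12 LD3_c6) (LK LD1_c3 LD2_c35 LD3_c44) Lrfl Lrfl
theorem f108266 : Led Lsl_et (LP (LK LD1_c3 LD2_c35 LD3_c44)) = (LP (LK LD1_c1 LD2_c44 LD3_c43)) :=
  Lre_e IH (LK LD1_c3 LD2_c35 LD3_c44) (LK LD1_c1 LD2_c44 LD3_c43) Lrfl Lrfl
theorem f108267 : Led Lsl_ft (LP (LK LD1_c3 LD2_c32 LD3_c19)) = (LP (LK LD1_c7 LD2_c5 LD3_c41)) :=
  Lre_f IH (LK LD1_c3 LD2_c32 LD3_c19) (LK LD1_c7 LD2_c5 LD3_c41) Lrfl Lrfl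
theorem f108268 : Led Lsl_et (LP (LK LD1_c1 LD2_c42 LD3_c51)) = (LP (LK LD1_c3 LD2_c32 LD3_c19)) :=
  Lre_e IH (LK LD1_c1 LD2_c42 LD3_c51) (LK LD1_c3 LD2_c32 LD3_c19) Lrfl Lrfl
theorem f108269 : Led Lsl_ft (LP (LK LD1_c1 LD2_c44 LD3_c43)) = (LP (LK LD1_c1 LD2_c42 LD3_c51)) :=
  Lgr Lrot86 (Lpe (f108266 IH) (Lpe (f108265 IH) (Lpr_ef (f108255 IH) (Lpe (f108267 IH) (Lpe (f108268 IH) (Lpn (LP (LK LD1_c1 LD2_c42 LD3_c51))))))))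
theorem f108274 : Led Lsl_ff (LP (LK LD1_c1 LD2_c44 LD3_c43)) = (LP (LK LD1_c1 LD2_c42 LD3_c51)) :=
  Lgr Lrot3 (Lpr_ft (f108269 IH) (Lpn (LP (LK LD1_c1 LD2_c42 LD3_c51))))
theorem f108283 : Led Lsl_gf (LP (LK LD1_c3 LD2_c35 LD3_c43)) = (LP (LK LD1_c3 LD2_c32 LD3_c17)) :=
  Lgr Lrot76 (Lpe (K4.f108276 IH) (Lpr_ff (f108274 IH) (Lpr_gt (f108282 IH) (Lpn (LP (LK LD1_c3 LD2_c32 LD3_c17))))))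
theorem f147789 : Led Lsl_bt (LP (LK LD1_c3 LD2_c42 LD3_c54)) = (LP (LK LD1_c7 LD2_c26 LD3_c30)) :=
  Lre_b IH (LK LD1_c3 LD2_c42 LD3_c54) (LK LD1_c7 LD2_c26 LD3_c30) Lrfl Lrfl
theorem f147791 : Led Lsl_bt (LP (LK LD1_c7 LD2_c27 LD3_c35)) = (LP (LK LD1_c7 LD2_c26 LD3_c31)) :=
  Lgr Lrot128 (Lpr_cf (K4.f111337 IH) (Lpe (K6.f111131 IH) (Lpr_cf (K7.f147782 IH) (Lpe (f147789 IH) (Lpe (K7.f147790 IH) (Lpn (LP (LK LD1_c7 LD2_c26 LD3_c31))))))))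
theorem f439224 : Led Lsl_bt (LP (LK LD1_c3 LD2_c43 LD3_c34)) = (LP (LK LD1_c7 LD2_c27 LD3_c42)) :=
  Lre_b IH (LK LD1_c3 LD2_c43 LD3_c34) (LK LD1_c7 LD2_c27 LD3_c42) Lrfl Lrfl
theorem f439249 : Led Lsl_gt (LP (LK LD1_c7 LD2_c26 LD3_c31)) = (LP (LK LD1_c7 LD2_c27 LD3_c42)) :=
  Lgr Lrot164 (Lpe (f147791 IH) (Lpr_ct (K4.f111288 IH) (Lpe (K8.f123966 IH) (Lpr_cf (K6.f123958 IH) (Lpe (K5.f123945 IH) (Lpr_bf (K8.f116270 IH) (Lpe (K4.f116236 IH) (Lpr_gf (f108283 IH) (Lpr_cf (f439225 IH) (Lpr_bt (f439224 IH) (Lpn (LP (LK LD1_c7 LD2_c27 LD3_c42)))))))))))))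
theorem f147784 : Led Lsl_ct (LP (LK LD1_c3 LD2_c42 LD3_c54)) = (LP (LK LD1_c7 LD2_c26 LD3_c31)) :=
  Lre_c IH (LK LD1_c3 LD2_c42 LD3_c54) (LK LD1_c7 LD2_c26 LD3_c31) Lrfl Lrfl
theorem f147327 : Led Lsl_gt (LP (LK LD1_c3 LD2_c40 LD3_c48)) = (LP (LK LD1_c1 LD2_c47 LD3_c22)) :=
  Lre_g IH (LK LD1_c3 LD2_c40 LD3_c48) (LK LD1_c1 LD2_c47 LD3_c22) Lrfl Lrfl
theorem f147344 : Led Lsl_bt (LP (LK LD1_c7 LD2_c21 LD3_c49)) = (LP (LK LD1_c3 LD2_c40 LD3_c48)) :=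
  Lre_b IH (LK LD1_c7 LD2_c21 LD3_c49) (LK LD1_c3 LD2_c40 LD3_c48) Lrfl Lrfl
theorem f439255 : Led Lsl_ct (LP (LK LD1_c7 LD2_c21 LD3_c49)) = (LP (LK LD1_c7 LD2_c27 LD3_c42)) :=
  Lgr Lrot63 (Lpr_bt (f147344 IH) (Lpr_gt (f147327 IH) (Lpe (K8.f116191 IH) (Lpr_ct (K6.f12582 IH) (Lpr_gt (K7.f147768 IH) (Lpe (K7.f147738 IH) (Lpr_bt (K7.f13165 IH) (Lpr_gt (K7.f147780 IH) (Lpr_ct (f147784 IH) (Lpr_gt (f439249 IH) (Lpn (LP (LK LD1_c7 LD2_c27 LD3_c42)))))))))))))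
theorem f124025 : Led Lsl_bt (LP (LK LD1_c0 LD2_c50 LD3_c34)) = (LP (LK LD1_c1 LD2_c47 LD3_c35)) :=
  Lre_b IH (LK LD1_c0 LD2_c50 LD3_c34) (LK LD1_c1 LD2_c47 LD3_c35) Lrfl Lrfl
theorem f98542 : Led Lsl_bt (LP (LK LD1_c1 LD2_c42 LD3_c51)) = (LP (LK LD1_c0 LD2_c48 LD3_c1)) :=
  Lre_b IH (LK LD1_c1 LD2_c42 LD3_c51) (LK LD1_c0 LD2_c48 LD3_c1) Lrfl Lrfl
theorem f124026 : Led Lsl_ct (LP (LK LD1_c1 LD2_c47 LD3_c35)) = (LP (LK LD1_c1 LD2_c42 LD3_c51)) :=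
  Lgr Lrot83 (Lpe (f124025 IH) (Lpr_cf (K4.f124019 IH) (Lpe (K3.f98545 IH) (Lpe (K3.f92289 IH) (Lpe (f98542 IH) (Lpn (LP (LK LD1_c1 LD2_c42 LD3_c51))))))))
theorem f147203 : Led Lsl_gt (LP (LK LD1_c3 LD2_c41 LD3_c18)) = (LP (LK LD1_c1 LD2_c47 LD3_c35)) :=
  Lre_g IH (LK LD1_c3 LD2_c41 LD3_c18) (LK LD1_c1 LD2_c47 LD3_c35) Lrfl Lrfl
theorem f147204 : Led Lsl_gf (LP (LK LD1_c3 LD2_c41 LD3_c18)) = (LP (LK LD1_c3 LD2_c44 LD3_c2)) :=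
  Lgr Lrot47 (Lpr_gt (f147203 IH) (Lpe (K8.f147185 IH) (Lpr_ff (K8.f147193 IH) (Lpn (LP (LK LD1_c3 LD2_c44 LD3_c2))))))
theorem f147209 : Led Lsl_bf (LP (LK LD1_c3 LD2_c41 LD3_c18)) = (LP (LK LD1_c3 LD2_c43 LD3_c54)) :=
  Lgr Lrot34 (Lpr_gf (f147204 IH) (Lpe (K4.f116448 IH) (Lpr_ct (K4.f116457 IH) (Lpe (K4.f9801 IH) (Lpe (K4.f12596 IH) (Lpe (K4.f97676 IH) (Lpr_bf (K5.f108900 IH) (Lpe (K5.f108902 IH) (Lpr_gf (K5.f123601 IH) (Lpe (K5.f123600 IH) (Lpn (LP (LK LD1_c3 LD2_c43 LD3_c54)))))))))))))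
theorem f439251 : Led Lsl_gf (LP (LK LD1_c7 LD2_c26 LD3_c31)) = (LP (LK LD1_c7 LD2_c27 LD3_c42)) :=
  Lgr Lrot124 (Lpe (f147791 IH) (Lpr_ct (K4.f111288 IH) (Lpr_gt (K8.f123603 IH) (Lpe (K5.f123600 IH) (Lpe (f147209 IH) (Lpr_gt (f147203 IH) (Lpr_ct (f124026 IH) (Lpr_gt (f108282 IH) (Lpr_cf (f439225 IH) (Lpr_bt (f439224 IH) (Lpn (LP (LK LD1_c7 LD2_c27 LD3_c42)))))))))))))
theorem f82348 : Led Lsl_et (LP (LK LD1_c4 LD2_c43 LD3_c56)) = (LP (LK LD1_c2 LD2_c19 LD3_c50)) :=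
  Lre_e IH (LK LD1_c4 LD2_c43 LD3_c56) (LK LD1_c2 LD2_c19 LD3_c50) Lrfl Lrfl
theorem f128373 : Led Lsl_et (LP (LK LD1_c1 LD2_c32 LD3_c40)) = (LP (LK LD1_c3 LD2_c12 LD3_c26)) :=
  Lre_e IH (LK LD1_c1 LD2_c32 LD3_c40) (LK LD1_c3 LD2_c12 LD3_c26) Lrfl Lrfl
theorem f207444 : Led Lsl_af (LP (LK LD1_c4 LD2_c43 LD3_c56)) = (LP (LK LD1_c3 LD2_c12 LD3_c26)) :=
  Lgr Lrot50 (Lpr_et (f82348 IH) (Lpr_at (K11.f207435 IH) (Lpr_et (f128373 IH) (Lpn (LP (LK LD1_c3 LD2_c12 LD3_c26))))))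
theorem f160767 : Led Lsl_et (LP (LK LD1_c3 LD2_c13 LD3_c52)) = (LP (LK LD1_c1 LD2_c33 LD3_c30)) :=
  Lre_e IH (LK LD1_c3 LD2_c13 LD3_c52) (LK LD1_c1 LD2_c33 LD3_c30) Lrfl Lrfl
theorem f110458 : Led Lsl_et (LP (LK LD1_c2 LD2_c19 LD3_c50)) = (LP (LK LD1_c4 LD2_c43 LD3_c56)) :=
  Lre_e IH (LK LD1_c2 LD2_c19 LD3_c50) (LK LD1_c4 LD2_c43 LD3_c56) Lrfl Lrfl
theorem f160768 : Led Lsl_cf (LP (LK LD1_c3 LD2_c13 LD3_c52)) = (LP (LK LD1_c4 LD2_c43 LD3_c56)) :=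
  Lgr Lrot39 (Lpr_et (f160767 IH) (Lpr_ct (K8.f160759 IH) (Lpr_et (f110458 IH) (Lpn (LP (LK LD1_c4 LD2_c43 LD3_c56))))))
theorem f128369 : Led Lsl_et (LP (LK LD1_c3 LD2_c10 LD3_c33)) = (LP (LK LD1_c1 LD2_c31 LD3_c35)) :=
  Lre_e IH (LK LD1_c3 LD2_c10 LD3_c33) (LK LD1_c1 LD2_c31 LD3_c35) Lrfl Lrfl
theorem f128374 : Led Lsl_cf (LP (LK LD1_c3 LD2_c10 LD3_c33)) = (LP (LK LD1_c3 LD2_c12 LD3_c26)) :=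
  Lgr Lrot39 (Lpr_et (f128369 IH) (Lpr_ct (K5.f128367 IH) (Lpr_et (f128373 IH) (Lpn (LP (LK LD1_c3 LD2_c12 LD3_c26))))))
theorem f128387 : Led Lsl_ct (LP (LK LD1_c3 LD2_c10 LD3_c33)) = (LP (LK LD1_c3 LD2_c12 LD3_c26)) :=
  Lgr Lrot59 (Lpr_cf (f128374 IH) (Lpn (LP (LK LD1_c3 LD2_c12 LD3_c26))))
theorem f207448 : Led Lsl_at (LP (LK LD1_c3 LD2_c13 LD3_c52)) = (LP (LK LD1_c3 LD2_c10 LD3_c33)) :=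
  Lgr Lrot107 (Lpr_cf (f160768 IH) (Lpr_af (f207444 IH) (Lpe (f128387 IH) (Lpn (LP (LK LD1_c3 LD2_c10 LD3_c33))))))
theorem f207455 : Led Lsl_af (LP (LK LD1_c3 LD2_c13 LD3_c52)) = (LP (LK LD1_c3 LD2_c10 LD3_c33)) :=
  Lgr Lrot0 (Lpr_at (f207448 IH) (Lpn (LP (LK LD1_c3 LD2_c10 LD3_c33))))
theorem f207446 : Led Lsl_at (LP (LK LD1_c4 LD2_c43 LD3_c56)) = (LP (LK LD1_c3 LD2_c12 LD3_c26)) :=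
  Lgr Lrot100 (Lpr_af (f207444 IH) (Lpn (LP (LK LD1_c3 LD2_c12 LD3_c26))))
theorem f207459 : Led Lsl_ct (LP (LK LD1_c3 LD2_c13 LD3_c52)) = (LP (LK LD1_c4 LD2_c43 LD3_c56)) :=
  Lgr Lrot111 (Lpr_af (f207455 IH) (Lpr_cf (f128374 IH) (Lpe (f207446 IH) (Lpn (LP (LK LD1_c4 LD2_c43 LD3_c56))))))
theorem f207457 : Led Lsl_bt (LP (LK LD1_c1 LD2_c33 LD3_c32)) = (LP (LK LD1_c3 LD2_c13 LD3_c52)) :=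
  Lre_b IH (LK LD1_c1 LD2_c33 LD3_c32) (LK LD1_c3 LD2_c13 LD3_c52) Lrfl Lrfl
theorem f207472 : Led Lsl_ct (LP (LK LD1_c3 LD2_c13 LD3_c57)) = (LP (LK LD1_c1 LD2_c33 LD3_c32)) :=
  Lre_c IH (LK LD1_c3 LD2_c13 LD3_c57) (LK LD1_c1 LD2_c33 LD3_c32) Lrfl Lrfl
theorem f207473 : Led Lsl_bt (LP (LK LD1_c6 LD2_c31 LD3_c24)) = (LP (LK LD1_c3 LD2_c13 LD3_c57)) :=
  Lre_b IH (LK LD1_c6 LD2_c31 LD3_c24) (LK LD1_c3 LD2_c13 LD3_c57) Lrfl Lrfl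
theorem f139707 : Led Lsl_et (LP (LK LD1_c3 LD2_c20 LD3_c20)) = (LP (LK LD1_c6 LD2_c44 LD3_c25)) :=
  Lre_e IH (LK LD1_c3 LD2_c20 LD3_c20) (LK LD1_c6 LD2_c44 LD3_c25) Lrfl Lrfl
theorem f147494 : Led Lsl_et (LP (LK LD1_c6 LD2_c31 LD3_c24)) = (LP (LK LD1_c3 LD2_c13 LD3_c55)) :=
  Lre_e IH (LK LD1_c6 LD2_c31 LD3_c24) (LK LD1_c3 LD2_c13 LD3_c55) Lrfl Lrfl
theorem f147497 : Led Lsl_ct (LP (LK LD1_c6 LD2_c44 LD3_c25)) = (LP (LK LD1_c6 LD2_c31 LD3_c24)) :=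
  Lgr Lrot15 (Lpe (f139707 IH) (Lpr_cf (K6.f147492 IH) (Lpe (f147494 IH) (Lpn (LP (LK LD1_c6 LD2_c31 LD3_c24))))))
theorem f207474 : Led Lsl_bf (LP (LK LD1_c6 LD2_c44 LD3_c25)) = (LP (LK LD1_c4 LD2_c43 LD3_c56)) :=
  Lgr Lrot90 (Lpr_ct (f147497 IH) (Lpr_bt (f207473 IH) (Lpr_ct (f207472 IH) (Lpr_bt (f207457 IH) (Lpr_ct (f207459 IH) (Lpn (LP (LK LD1_c4 LD2_c43 LD3_c56))))))))
theorem f141877 : Led Lsl_et (LP (LK LD1_c6 LD2_c44 LD3_c25)) = (LP (LK LD1_c3 LD2_c20 LD3_c20)) :=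
  Lre_e IH (LK LD1_c6 LD2_c44 LD3_c25) (LK LD1_c3 LD2_c20 LD3_c20) Lrfl Lrfl
theorem f207478 : Led Lsl_bt (LP (LK LD1_c3 LD2_c20 LD3_c20)) = (LP (LK LD1_c2 LD2_c19 LD3_c50)) :=
  Lgr Lrot119 (Lpe (f141877 IH) (Lpr_bf (f207474 IH) (Lpe (f110458 IH) (Lpn (LP (LK LD1_c2 LD2_c19 LD3_c50))))))
theorem f128370 : Led Lsl_bt (LP (LK LD1_c1 LD2_c32 LD3_c40)) = (LP (LK LD1_c3 LD2_c12 LD3_c24)) :=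
  Lre_b IH (LK LD1_c1 LD2_c32 LD3_c40) (LK LD1_c3 LD2_c12 LD3_c24) Lrfl Lrfl
theorem f207439 : Led Lsl_at (LP (LK LD1_c3 LD2_c12 LD3_c24)) = (LP (LK LD1_c6 LD2_c28 LD3_c52)) :=
  Lre_a IH (LK LD1_c3 LD2_c12 LD3_c24) (LK LD1_c6 LD2_c28 LD3_c52) Lrfl Lrfl
theorem f207488 : Led Lsl_bf (LP (LK LD1_c4 LD2_c37 LD3_c56)) = (LP (LK LD1_c6 LD2_c28 LD3_c52)) :=
  Lgr Lrot81 (Lpe (K11.f206912 IH) (Lpr_bt (f207478 IH) (Lpr_at (K11.f207435 IH) (Lpr_bt (f128370 IH) (Lpr_at (f207439 IH) (Lpn (LP (LK LD1_c6 LD2_c28 LD3_c52))))))))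
theorem f141895 : Led Lsl_bt (LP (LK LD1_c3 LD2_c20 LD3_c25)) = (LP (LK LD1_c6 LD2_c44 LD3_c32)) :=
  Lre_b IH (LK LD1_c3 LD2_c20 LD3_c25) (LK LD1_c6 LD2_c44 LD3_c32) Lrfl Lrfl
theorem f207494 : Led Lsl_ft (LP (LK LD1_c6 LD2_c44 LD3_c32)) = (LP (LK LD1_c6 LD2_c28 LD3_c52)) :=
  Lgr Lrot75 (Lpe (f141895 IH) (Lpr_ff (K11.f206916 IH) (Lpr_bf (f207488 IH) (Lpn (LP (LK LD1_c6 LD2_c28 LD3_c52))))))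
theorem f207496 : Led Lsl_at (LP (LK LD1_c6 LD2_c28 LD3_c52)) = (LP (LK LD1_c3 LD2_c12 LD3_c24)) :=
  Lre_a IH (LK LD1_c6 LD2_c28 LD3_c52) (LK LD1_c3 LD2_c12 LD3_c24) Lrfl Lrfl
theorem f128405 : Led Lsl_gt (LP (LK LD1_c6 LD2_c28 LD3_c51)) = (LP (LK LD1_c3 LD2_c12 LD3_c24)) :=
  Lre_g IH (LK LD1_c6 LD2_c28 LD3_c51) (LK LD1_c3 LD2_c12 LD3_c24) Lrfl Lrfl
theorem f207501 : Led Lsl_gt (LP (LK LD1_c6 LD2_c44 LD3_c32)) = (LP (LK LD1_c6 LD2_c28 LD3_c51)) :=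
  Lgr Lrot5 (Lpr_ft (f207494 IH) (Lpr_at (f207496 IH) (Lpe (f128405 IH) (Lpn (LP (LK LD1_c6 LD2_c28 LD3_c51))))))
theorem f63515 : Led Lsl_bt (LP (LK LD1_c3 LD2_c2 LD3_c6)) = (LP (LK LD1_c1 LD2_c27 LD3_c4)) :=
  Lre_b IH (LK LD1_c3 LD2_c2 LD3_c6) (LK LD1_c1 LD2_c27 LD3_c4) Lrfl Lrfl
theorem f128378 : Led Lsl_gt (LP (LK LD1_c3 LD2_c12 LD3_c24)) = (LP (LK LD1_c6 LD2_c28 LD3_c50)) :=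
  Lre_g IH (LK LD1_c3 LD2_c12 LD3_c24) (LK LD1_c6 LD2_c28 LD3_c50) Lrfl Lrfl
theorem f128407 : Led Lsl_bt (LP (LK LD1_c3 LD2_c15 LD3_c31)) = (LP (LK LD1_c6 LD2_c28 LD3_c50)) :=
  Lgr Lrot92 (Lpr_ct (K3.f108679 IH) (Lpr_gt (K3.f62758 IH) (Lpr_cf (K1.f64611 IH) (Lpe (K4.f89392 IH) (Lpr_gt (K4.f116772 IH) (Lpr_ct (K4.f12753 IH) (Lpe (K5.f128349 IH) (Lpr_cf (K5.f128371 IH) (Lpr_bt (f128370 IH) (Lpr_gt (f128378 IH) (Lpn (LP (LK LD1_c6 LD2_c28 LD3_c50)))))))))))))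
theorem f141896 : Led Lsl_gt (LP (LK LD1_c6 LD2_c28 LD3_c50)) = (LP (LK LD1_c6 LD2_c44 LD3_c32)) :=
  Lgr Lrot164 (Lpe (f128407 IH) (Lpr_ct (K3.f108679 IH) (Lpr_gf (K3.f87804 IH) (Lpe (K2.f87181 IH) (Lpr_gf (K2.f87350 IH) (Lpe (f63515 IH) (Lpr_ct (K6.f60365 IH) (Lpr_gf (K8.f141883 IH) (Lpe (K8.f116967 IH) (Lpr_bt (f141895 IH) (Lpn (LP (LK LD1_c6 LD2_c44 LD3_c32)))))))))))))
theorem f64916 : Led Lsl_bt (LP (LK LD1_c6 LD2_c36 LD3_c54)) = (LP (LK LD1_c3 LD2_c16 LD3_c47)) :=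
  Lre_b IH (LK LD1_c6 LD2_c36 LD3_c54) (LK LD1_c3 LD2_c16 LD3_c47) Lrfl Lrfl
theorem f128413 : Led Lsl_ff (LP (LK LD1_c6 LD2_c36 LD3_c54)) = (LP (LK LD1_c6 LD2_c28 LD3_c50)) :=
  Lgr Lrot25 (Lpr_bt (f64916 IH) (Lpr_ft (K3.f109327 IH) (Lpr_bt (f128407 IH) (Lpn (LP (LK LD1_c6 LD2_c28 LD3_c50))))))
theorem f207503 : Led Lsl_at (LP (LK LD1_c6 LD2_c36 LD3_c54)) = (LP (LK LD1_c6 LD2_c28 LD3_c51)) :=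
  Lgr Lrot26 (Lpr_ff (f128413 IH) (Lpr_gt (f141896 IH) (Lpr_gt (f207501 IH) (Lpn (LP (LK LD1_c6 LD2_c28 LD3_c51))))))
theorem f207506 : Led Lsl_af (LP (LK LD1_c6 LD2_c36 LD3_c54)) = (LP (LK LD1_c6 LD2_c28 LD3_c51)) :=
  Lgr Lrot0 (Lpr_at (f207503 IH) (Lpn (LP (LK LD1_c6 LD2_c28 LD3_c51))))
theorem f128929 : Led Lsl_gt (LP (LK LD1_c9 LD2_c20 LD3_c44)) = (LP (LK LD1_c4 LD2_c43 LD3_c54)) :=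
  Lre_g IH (LK LD1_c9 LD2_c20 LD3_c44) (LK LD1_c4 LD2_c43 LD3_c54) Lrfl Lrfl
theorem f207625 : Led Lsl_ft (LP (LK LD1_c9 LD2_c20 LD3_c44)) = (LP (LK LD1_c6 LD2_c28 LD3_c51)) :=
  Lgr Lrot2 (Lpr_gt (f128929 IH) (Lpr_gt (K7.f128925 IH) (Lpr_af (f207506 IH) (Lpn (LP (LK LD1_c6 LD2_c28 LD3_c51))))))
theorem f207631 : Led Lsl_ff (LP (LK LD1_c9 LD2_c20 LD3_c44)) = (LP (LK LD1_c6 LD2_c28 LD3_c51)) :=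
  Lgr Lrot3 (Lpr_ft (f207625 IH) (Lpn (LP (LK LD1_c6 LD2_c28 LD3_c51))))
theorem f207633 : Led Lsl_at (LP (LK LD1_c9 LD2_c20 LD3_c44)) = (LP (LK LD1_c6 LD2_c28 LD3_c50)) :=
  Lgr Lrot66 (Lpr_ff (f207631 IH) (Lpe (f207503 IH) (Lpr_ff (f128413 IH) (Lpn (LP (LK LD1_c6 LD2_c28 LD3_c50))))))
theorem f128411 : Led Lsl_df (LP (LK LD1_c3 LD2_c15 LD3_c30)) = (LP (LK LD1_c6 LD2_c28 LD3_c50)) :=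
  Lgr Lrot12 (Lpr_bt (K7.f65646 IH) (Lpr_dt (K3.f65643 IH) (Lpr_bt (f128407 IH) (Lpn (LP (LK LD1_c6 LD2_c28 LD3_c50))))))
theorem f128425 : Led Lsl_at (LP (LK LD1_c3 LD2_c15 LD3_c30)) = (LP (LK LD1_c6 LD2_c34 LD3_c18)) :=
  Lre_a IH (LK LD1_c3 LD2_c15 LD3_c30) (LK LD1_c6 LD2_c34 LD3_c18) Lrfl Lrfl
theorem f207637 : Led Lsl_df (LP (LK LD1_c9 LD2_c20 LD3_c44)) = (LP (LK LD1_c6 LD2_c34 LD3_c18)) :=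
  Lgr Lrot18 (Lpr_at (f207633 IH) (Lpe (f128411 IH) (Lpr_at (f128425 IH) (Lpn (LP (LK LD1_c6 LD2_c34 LD3_c18))))))
theorem f207641 : Led Lsl_dt (LP (LK LD1_c9 LD2_c20 LD3_c44)) = (LP (LK LD1_c6 LD2_c34 LD3_c18)) :=
  Lgr Lrot42 (Lpr_df (f207637 IH) (Lpn (LP (LK LD1_c6 LD2_c34 LD3_c18))))
theorem f148583 : Led Lsl_at (LP (LK LD1_c3 LD2_c45 LD3_c18)) = (LP (LK LD1_c7 LD2_c31 LD3_c22)) :=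
  Lre_a IH (LK LD1_c3 LD2_c45 LD3_c18) (LK LD1_c7 LD2_c31 LD3_c22) Lrfl Lrfl
theorem f207623 : Led Lsl_dt (LP (LK LD1_c7 LD2_c31 LD3_c22)) = (LP (LK LD1_c6 LD2_c28 LD3_c51)) :=
  Lgr Lrot44 (Lpe (f148583 IH) (Lpe (K7.f96097 IH) (Lpr_af (f207506 IH) (Lpn (LP (LK LD1_c6 LD2_c28 LD3_c51))))))
theorem f207647 : Led Lsl_ff (LP (LK LD1_c7 LD2_c31 LD3_c22)) = (LP (LK LD1_c6 LD2_c34 LD3_c18)) :=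
  Lgr Lrot19 (Lpr_dt (f207623 IH) (Lpe (f207631 IH) (Lpr_dt (f207641 IH) (Lpn (LP (LK LD1_c6 LD2_c34 LD3_c18))))))
theorem f207653 : Led Lsl_ft (LP (LK LD1_c7 LD2_c31 LD3_c22)) = (LP (LK LD1_c6 LD2_c34 LD3_c18)) :=
  Lgr Lrot48 (Lpr_ff (f207647 IH) (Lpn (LP (LK LD1_c6 LD2_c34 LD3_c18))))
theorem f207663 : Led Lsl_df (LP (LK LD1_c7 LD2_c31 LD3_c22)) = (LP (LK LD1_c6 LD2_c28 LD3_c51)) :=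
  Lgr Lrot78 (Lpr_ft (f207653 IH) (Lpe (f207637 IH) (Lpr_ft (f207625 IH) (Lpn (LP (LK LD1_c6 LD2_c28 LD3_c51))))))
theorem f148542 : Led Lsl_at (LP (LK LD1_c6 LD2_c31 LD3_c47)) = (LP (LK LD1_c3 LD2_c14 LD3_c4)) :=
  Lre_a IH (LK LD1_c6 LD2_c31 LD3_c47) (LK LD1_c3 LD2_c14 LD3_c4) Lrfl Lrfl
theorem f148584 : Led Lsl_ct (LP (LK LD1_c7 LD2_c31 LD3_c22)) = (LP (LK LD1_c6 LD2_c31 LD3_c47)) :=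
  Lgr Lrot111 (Lpe (f148583 IH) (Lpr_cf (K7.f148535 IH) (Lpe (f148542 IH) (Lpn (LP (LK LD1_c6 LD2_c31 LD3_c47))))))
theorem f148608 : Led Lsl_dt (LP (LK LD1_c12 LD2_c31 LD3_c30)) = (LP (LK LD1_c6 LD2_c31 LD3_c47)) :=
  Lre_d IH (LK LD1_c12 LD2_c31 LD3_c30) (LK LD1_c6 LD2_c31 LD3_c47) Lrfl Lrfl
theorem f66439 : Led Lsl_dt (LP (LK LD1_c3 LD2_c20 LD3_c24)) = (LP (LK LD1_c6 LD2_c44 LD3_c32)) :=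
  Lre_d IH (LK LD1_c3 LD2_c20 LD3_c24) (LK LD1_c6 LD2_c44 LD3_c32) Lrfl Lrfl
theorem f62199 : Led Lsl_bt (LP (LK LD1_c1 LD2_c36 LD3_c35)) = (LP (LK LD1_c3 LD2_c20 LD3_c24)) :=
  Lre_b IH (LK LD1_c1 LD2_c36 LD3_c35) (LK LD1_c3 LD2_c20 LD3_c24) Lrfl Lrfl
theorem f66435 : Led Lsl_gt (LP (LK LD1_c3 LD2_c45 LD3_c4)) = (LP (LK LD1_c3 LD2_c20 LD3_c24)) :=
  Lgr Lrot164 (Lpe (K7.f12488 IH) (Lpr_ct (K7.f12560 IH) (Lpr_gf (K1.f66423 IH) (Lpr_cf (K1.f62010 IH) (Lpe (K1.f61914 IH) (Lpe (K6.f62197 IH) (Lpr_ct (K6.f56861 IH) (Lpe (K6.f26492 IH) (Lpe (K6.f62198 IH) (Lpr_bt (f62199 IH) (Lpn (LP (LK LD1_c3 LD2_c20 LD3_c24)))))))))))))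
theorem f66459 : Led Lsl_bt (LP (LK LD1_c1 LD2_c35 LD3_c60)) = (LP (LK LD1_c3 LD2_c19 LD3_c1)) :=
  Lre_b IH (LK LD1_c1 LD2_c35 LD3_c60) (LK LD1_c3 LD2_c19 LD3_c1) Lrfl Lrfl
theorem f66460 : Led Lsl_cf (LP (LK LD1_c3 LD2_c45 LD3_c4)) = (LP (LK LD1_c3 LD2_c19 LD3_c1)) :=
  Lgr Lrot97 (Lpr_bt (K7.f12561 IH) (Lpr_ct (K7.f12560 IH) (Lpe (K4.f12410 IH) (Lpr_ct (K1.f66453 IH) (Lpr_bt (f66459 IH) (Lpn (LP (LK LD1_c3 LD2_c19 LD3_c1))))))))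
theorem f66469 : Led Lsl_dt (LP (LK LD1_c6 LD2_c42 LD3_c2)) = (LP (LK LD1_c12 LD2_c49 LD3_c9)) :=
  Lre_d IH (LK LD1_c6 LD2_c42 LD3_c2) (LK LD1_c12 LD2_c49 LD3_c9) Lrfl Lrfl
theorem f207667 : Led Lsl_gf (LP (LK LD1_c12 LD2_c31 LD3_c30)) = (LP (LK LD1_c12 LD2_c49 LD3_c9)) :=
  Lgr Lrot143 (Lpr_dt (f148608 IH) (Lpe (f148584 IH) (Lpr_df (f207663 IH) (Lpe (f207501 IH) (Lpe (f66439 IH) (Lpe (f66435 IH) (Lpr_cf (f66460 IH) (Lpr_gt (K7.f66468 IH) (Lpr_dt (f66469 IH) (Lpn (LP (LK LD1_c12 LD2_c49 LD3_c9))))))))))))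
theorem f104377 : Led Lsl_bt (LP (LK LD1_c5 LD2_c53 LD3_c31)) = (LP (LK LD1_c11 LD2_c33 LD3_c1)) :=
  Lre_b IH (LK LD1_c5 LD2_c53 LD3_c31) (LK LD1_c11 LD2_c33 LD3_c1) Lrfl Lrfl
theorem f72319 : Led Lsl_bt (LP (LK LD1_c20 LD2_c30 LD3_c7)) = (LP (LK LD1_c11 LD2_c33 LD3_c2)) :=
  Lre_b IH (LK LD1_c20 LD2_c30 LD3_c7) (LK LD1_c11 LD2_c33 LD3_c2) Lrfl Lrfl
theorem f103100 : Led Lsl_bt (LP (LK LD1_c9 LD2_c22 LD3_c15)) = (LP (LK LD1_c4 LD2_c44 LD3_c53)) :=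
  Lre_b IH (LK LD1_c9 LD2_c22 LD3_c15) (LK LD1_c4 LD2_c44 LD3_c53) Lrfl Lrfl
theorem f103273 : Led Lsl_dt (LP (LK LD1_c9 LD2_c16 LD3_c18)) = (LP (LK LD1_c17 LD2_c10 LD3_c50)) :=
  Lre_d IH (LK LD1_c9 LD2_c16 LD3_c18) (LK LD1_c17 LD2_c10 LD3_c50) Lrfl Lrfl
theorem f103081 : Led Lsl_dt (LP (LK LD1_c9 LD2_c22 LD3_c25)) = (LP (LK LD1_c4 LD2_c44 LD3_c53)) :=
  Lre_d IH (LK LD1_c9 LD2_c22 LD3_c25) (LK LD1_c4 LD2_c44 LD3_c53) Lrfl Lrfl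
theorem f103385 : Led Lsl_af (LP (LK LD1_c9 LD2_c16 LD3_c18)) = (LP (LK LD1_c4 LD2_c44 LD3_c53)) :=
  Lgr Lrot117 (Lpr_dt (f103273 IH) (Lpr_at (K7.f103377 IH) (Lpr_dt (f103081 IH) (Lpn (LP (LK LD1_c4 LD2_c44 LD3_c53))))))
theorem f103423 : Led Lsl_bt (LP (LK LD1_c9 LD2_c16 LD3_c18)) = (LP (LK LD1_c17 LD2_c10 LD3_c49)) :=
  Lre_b IH (LK LD1_c9 LD2_c16 LD3_c18) (LK LD1_c17 LD2_c10 LD3_c49) Lrfl Lrfl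
theorem f104387 : Led Lsl_af (LP (LK LD1_c20 LD2_c30 LD3_c7)) = (LP (LK LD1_c17 LD2_c10 LD3_c49)) :=
  Lgr Lrot36 (Lpr_bt (f72319 IH) (Lpr_at (K6.f104383 IH) (Lpr_bt (f103100 IH) (Lpe (f103385 IH) (Lpr_bt (f103423 IH) (Lpn (LP (LK LD1_c17 LD2_c10 LD3_c49))))))))
theorem f104513 : Led Lsl_at (LP (LK LD1_c20 LD2_c30 LD3_c7)) = (LP (LK LD1_c17 LD2_c10 LD3_c49)) :=
  Lgr Lrot100 (Lpr_af (f104387 IH) (Lpn (LP (LK LD1_c17 LD2_c10 LD3_c49))))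
theorem f104520 : Led Lsl_et (LP (LK LD1_c11 LD2_c33 LD3_c1)) = (LP (LK LD1_c20 LD2_c30 LD3_c7)) :=
  Lre_e IH (LK LD1_c11 LD2_c33 LD3_c1) (LK LD1_c20 LD2_c30 LD3_c7) Lrfl Lrfl
theorem f104521 : Led Lsl_et (LP (LK LD1_c17 LD2_c10 LD3_c49)) = (LP (LK LD1_c9 LD2_c16 LD3_c17)) :=
  Lre_e IH (LK LD1_c17 LD2_c10 LD3_c49) (LK LD1_c9 LD2_c16 LD3_c17) Lrfl Lrfl
theorem f104522 : Led Lsl_af (LP (LK LD1_c11 LD2_c33 LD3_c1)) = (LP (LK LD1_c9 LD2_c16 LD3_c17)) :=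
  Lgr Lrot50 (Lpr_et (f104520 IH) (Lpr_at (f104513 IH) (Lpr_et (f104521 IH) (Lpn (LP (LK LD1_c9 LD2_c16 LD3_c17))))))
theorem f99012 : Led Lsl_bt (LP (LK LD1_c2 LD2_c20 LD3_c38)) = (LP (LK LD1_c4 LD2_c44 LD3_c59)) :=
  Lre_b IH (LK LD1_c2 LD2_c20 LD3_c38) (LK LD1_c4 LD2_c44 LD3_c59) Lrfl Lrfl
theorem f103284 : Led Lsl_ff (LP (LK LD1_c9 LD2_c16 LD3_c17)) = (LP (LK LD1_c4 LD2_c44 LD3_c59)) :=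
  Lgr Lrot25 (Lpr_bt (K7.f103270 IH) (Lpr_ft (K3.f103282 IH) (Lpr_bt (f99012 IH) (Lpn (LP (LK LD1_c4 LD2_c44 LD3_c59))))))
theorem f102951 : Led Lsl_at (LP (LK LD1_c9 LD2_c22 LD3_c36)) = (LP (LK LD1_c4 LD2_c44 LD3_c59)) :=
  Lre_a IH (LK LD1_c9 LD2_c22 LD3_c36) (LK LD1_c4 LD2_c44 LD3_c59) Lrfl Lrfl
theorem f104529 : Led Lsl_ft (LP (LK LD1_c11 LD2_c33 LD3_c1)) = (LP (LK LD1_c9 LD2_c22 LD3_c36)) :=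
  Lgr Lrot101 (Lpr_af (f104522 IH) (Lpr_ff (f103284 IH) (Lpe (f102951 IH) (Lpn (LP (LK LD1_c9 LD2_c22 LD3_c36))))))
theorem f149163 : Led Lsl_bf (LP (LK LD1_c9 LD2_c7 LD3_c60)) = (LP (LK LD1_c9 LD2_c22 LD3_c36)) :=
  Lgr Lrot61 (Lpr_ft (K7.f149079 IH) (Lpr_bt (f104377 IH) (Lpr_ft (f104529 IH) (Lpn (LP (LK LD1_c9 LD2_c22 LD3_c36))))))
theorem f150717 : Led Lsl_ft (LP (LK LD1_c12 LD2_c49 LD3_c12)) = (LP (LK LD1_c9 LD2_c22 LD3_c39)) :=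
  Lgr Lrot48 (Lpr_ff (K7.f150713 IH) (Lpn (LP (LK LD1_c9 LD2_c22 LD3_c39))))
theorem f150753 : Led Lsl_dt (LP (LK LD1_c9 LD2_c22 LD3_c39)) = (LP (LK LD1_c7 LD2_c24 LD3_c57)) :=
  Lgr Lrot60 (Lpe (f150717 IH) (Lpe (K7.f96644 IH) (Lpr_ff (K7.f150747 IH) (Lpn (LP (LK LD1_c7 LD2_c24 LD3_c57))))))
theorem f150769 : Led Lsl_at (LP (LK LD1_c12 LD2_c49 LD3_c9)) = (LP (LK LD1_c9 LD2_c22 LD3_c39)) :=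
  Lgr Lrot51 (Lpe (f66469 IH) (Lpr_af (K7.f150763 IH) (Lpe (f150753 IH) (Lpn (LP (LK LD1_c9 LD2_c22 LD3_c39))))))
theorem f102957 : Led Lsl_at (LP (LK LD1_c4 LD2_c44 LD3_c59)) = (LP (LK LD1_c9 LD2_c22 LD3_c36)) :=
  Lre_a IH (LK LD1_c4 LD2_c44 LD3_c59) (LK LD1_c9 LD2_c22 LD3_c36) Lrfl Lrfl
theorem f150802 : Led Lsl_cf (LP (LK LD1_c12 LD2_c49 LD3_c9)) = (LP (LK LD1_c9 LD2_c22 LD3_c36)) :=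
  Lgr Lrot1 (Lpr_at (f150769 IH) (Lpr_ct (K7.f99001 IH) (Lpr_at (f102957 IH) (Lpn (LP (LK LD1_c9 LD2_c22 LD3_c36))))))
theorem f150804 : Led Lsl_ct (LP (LK LD1_c12 LD2_c49 LD3_c9)) = (LP (LK LD1_c9 LD2_c22 LD3_c36)) :=
  Lgr Lrot59 (Lpr_cf (f150802 IH) (Lpn (LP (LK LD1_c9 LD2_c22 LD3_c36))))
theorem f161517 : Led Lsl_bt (LP (LK LD1_c8 LD2_c49 LD3_c46)) = (LP (LK LD1_c12 LD2_c49 LD3_c9)) :=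
  Lgr Lrot128 (Lpr_cf (K8.f161513 IH) (Lpe (K7.f149920 IH) (Lpe (K7.f149042 IH) (Lpr_bf (f149163 IH) (Lpe (f150804 IH) (Lpn (LP (LK LD1_c12 LD2_c49 LD3_c9))))))))
theorem f161519 : Led Lsl_ct (LP (LK LD1_c8 LD2_c49 LD3_c46)) = (LP (LK LD1_c5 LD2_c51 LD3_c1)) :=
  Lgr Lrot59 (Lpr_cf (K8.f161513 IH) (Lpn (LP (LK LD1_c5 LD2_c51 LD3_c1))))
theorem f37880 : Led Lsl_bf (LP (LK LD1_c4 LD2_c26 LD3_c21)) = (LP (LK LD1_c3 LD2_c57 LD3_c60)) :=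
  Lgr Lrot90 (Lpr_ct (K7.f37877 IH) (Lpr_bt (K0.f16141 IH) (Lpr_ct (K1.f37875 IH) (Lpr_bt (K1.f37878 IH) (Lpr_ct (K1.f37879 IH) (Lpn (LP (LK LD1_c3 LD2_c57 LD3_c60))))))))
theorem f40666 : Led Lsl_ct (LP (LK LD1_c7 LD2_c57 LD3_c17)) = (LP (LK LD1_c3 LD2_c57 LD3_c59)) :=
  Lre_c IH (LK LD1_c7 LD2_c57 LD3_c17) (LK LD1_c3 LD2_c57 LD3_c59) Lrfl Lrfl
theorem f207672 : Led Lsl_bf (LP (LK LD1_c12 LD2_c31 LD3_c30)) = (LP (LK LD1_c7 LD2_c57 LD3_c17)) :=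
  Lgr Lrot34 (Lpr_gf (f207667 IH) (Lpe (f161517 IH) (Lpr_ct (f161519 IH) (Lpe (K8.f161527 IH) (Lpr_cf (K8.f161535 IH) (Lpe (K8.f139588 IH) (Lpr_bf (f37880 IH) (Lpr_ct (K7.f40023 IH) (Lpe (K8.f35528 IH) (Lpe (f40666 IH) (Lpn (LP (LK LD1_c7 LD2_c57 LD3_c17)))))))))))))
theorem f207677 : Led Lsl_bt (LP (LK LD1_c12 LD2_c31 LD3_c30)) = (LP (LK LD1_c7 LD2_c57 LD3_c17)) :=
  Lgr Lrot127 (Lpr_bf (f207672 IH) (Lpn (LP (LK LD1_c7 LD2_c57 LD3_c17))))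
theorem f148605 : Led Lsl_dt (LP (LK LD1_c6 LD2_c31 LD3_c47)) = (LP (LK LD1_c12 LD2_c31 LD3_c30)) :=
  Lre_d IH (LK LD1_c6 LD2_c31 LD3_c47) (LK LD1_c12 LD2_c31 LD3_c30) Lrfl Lrfl
theorem f128334 : Led Lsl_bt (LP (LK LD1_c1 LD2_c48 LD3_c45)) = (LP (LK LD1_c3 LD2_c43 LD3_c23)) :=
  Lre_b IH (LK LD1_c1 LD2_c48 LD3_c45) (LK LD1_c3 LD2_c43 LD3_c23) Lrfl Lrfl
theorem f148629 : Led Lsl_at (LP (LK LD1_c3 LD2_c43 LD3_c23)) = (LP (LK LD1_c7 LD2_c27 LD3_c25)) :=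
  Lre_a IH (LK LD1_c3 LD2_c43 LD3_c23) (LK LD1_c7 LD2_c27 LD3_c25) Lrfl Lrfl
theorem f148630 : Led Lsl_bt (LP (LK LD1_c7 LD2_c27 LD3_c25)) = (LP (LK LD1_c6 LD2_c31 LD3_c47)) :=
  Lgr Lrot62 (Lpe (f148629 IH) (Lpe (f128334 IH) (Lpr_af (K7.f148625 IH) (Lpe (K7.f22823 IH) (Lpe (f148542 IH) (Lpn (LP (LK LD1_c6 LD2_c31 LD3_c47))))))))
theorem f207694 : Led Lsl_df (LP (LK LD1_c7 LD2_c27 LD3_c25)) = (LP (LK LD1_c7 LD2_c57 LD3_c17)) :=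
  Lgr Lrot12 (Lpr_bt (f148630 IH) (Lpr_dt (f148605 IH) (Lpr_bt (f207677 IH) (Lpn (LP (LK LD1_c7 LD2_c57 LD3_c17))))))
theorem f159083 : Led Lsl_gf (LP (LK LD1_c7 LD2_c57 LD3_c17)) = (LP (LK LD1_c11 LD2_c37 LD3_c18)) :=
  Lgr Lrot147 (Lpr_ct (f40666 IH) (Lpr_gt (K8.f35528 IH) (Lpr_ct (K1.f37879 IH) (Lpe (K6.f40045 IH) (Lpe (K6.f40650 IH) (Lpe (K7.f150694 IH) (Lpe (K8.f141168 IH) (Lpr_gf (K8.f159079 IH) (Lpr_df (K8.f149639 IH) (Lpn (LP (LK LD1_c11 LD2_c37 LD3_c18))))))))))))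
theorem f149616 : Led Lsl_ct (LP (LK LD1_c5 LD2_c56 LD3_c3)) = (LP (LK LD1_c11 LD2_c37 LD3_c18)) :=
  Lre_c IH (LK LD1_c5 LD2_c56 LD3_c3) (LK LD1_c11 LD2_c37 LD3_c18) Lrfl Lrfl
theorem f149205 : Led Lsl_gf (LP (LK LD1_c7 LD2_c57 LD3_c13)) = (LP (LK LD1_c8 LD2_c50 LD3_c1)) :=
  Lgr Lrot126 (Lpe (K2.f40073 IH) (Lpr_bt (K1.f40076 IH) (Lpr_gt (K7.f40086 IH) (Lpr_ct (K7.f40088 IH) (Lpr_gt (K7.f148963 IH) (Lpe (K7.f72355 IH) (Lpr_bt (K7.f72263 IH) (Lpr_gt (K8.f72420 IH) (Lpe (K8.f149178 IH) (Lpr_ct (K8.f149201 IH) (Lpn (LP (LK LD1_c8 LD2_c50 LD3_c1)))))))))))))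
theorem f158664 : Led Lsl_gf (LP (LK LD1_c6 LD2_c15 LD3_c17)) = (LP (LK LD1_c5 LD2_c56 LD3_c3)) :=
  Lgr Lrot147 (Lpr_ct (K8.f149201 IH) (Lpe (f149205 IH) (Lpr_ct (K1.f40064 IH) (Lpe (K1.f40080 IH) (Lpe (K2.f40337 IH) (Lpr_gf (K4.f99581 IH) (Lpe (K6.f72251 IH) (Lpr_gf (K8.f158660 IH) (Lpe (K8.f149637 IH) (Lpn (LP (LK LD1_c5 LD2_c56 LD3_c3))))))))))))
theorem f207699 : Led Lsl_gt (LP (LK LD1_c7 LD2_c27 LD3_c25)) = (LP (LK LD1_c6 LD2_c31 LD3_c53)) :=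
  Lgr Lrot49 (Lpr_df (f207694 IH) (Lpr_gf (f159083 IH) (Lpe (f149616 IH) (Lpe (f158664 IH) (Lpr_dt (K8.f60867 IH) (Lpr_gt (K8.f73836 IH) (Lpr_dt (K8.f79924 IH) (Lpe (K8.f81093 IH) (Lpr_df (K8.f157711 IH) (Lpn (LP (LK LD1_c6 LD2_c31 LD3_c53))))))))))))
theorem f81083 : Led Lsl_bf (LP (LK LD1_c8 LD2_c46 LD3_c2)) = (LP (LK LD1_c6 LD2_c15 LD3_c55)) :=
  Lgr Lrot24 (Lpr_bt (K8.f81081 IH) (Lpn (LP (LK LD1_c6 LD2_c15 LD3_c55))))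
theorem f100225 : Led Lsl_gt (LP (LK LD1_c9 LD2_c9 LD3_c38)) = (LP (LK LD1_c4 LD2_c36 LD3_c55)) :=
  Lre_g IH (LK LD1_c9 LD2_c9 LD3_c38) (LK LD1_c4 LD2_c36 LD3_c55) Lrfl Lrfl
theorem f118925 : Led Lsl_ff (LP (LK LD1_c8 LD2_c46 LD3_c2)) = (LP (LK LD1_c9 LD2_c9 LD3_c38)) :=
  Lgr Lrot52 (Lpr_at (K5.f118912 IH) (Lpe (K6.f112456 IH) (Lpe (f100225 IH) (Lpn (LP (LK LD1_c9 LD2_c9 LD3_c38))))))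
theorem f118929 : Led Lsl_ft (LP (LK LD1_c8 LD2_c46 LD3_c2)) = (LP (LK LD1_c9 LD2_c9 LD3_c38)) :=
  Lgr Lrot48 (Lpr_ff (f118925 IH) (Lpn (LP (LK LD1_c9 LD2_c9 LD3_c38))))
theorem f118919 : Led Lsl_af (LP (LK LD1_c8 LD2_c46 LD3_c2)) = (LP (LK LD1_c6 LD2_c24 LD3_c24)) :=
  Lgr Lrot0 (Lpr_at (K5.f118912 IH) (Lpn (LP (LK LD1_c6 LD2_c24 LD3_c24))))
theorem f118904 : Led Lsl_ft (LP (LK LD1_c5 LD2_c56 LD3_c7)) = (LP (LK LD1_c6 LD2_c24 LD3_c24)) :=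
  Lgr Lrot48 (Lpr_ff (K5.f118899 IH) (Lpn (LP (LK LD1_c6 LD2_c24 LD3_c24))))
theorem f118931 : Led Lsl_af (LP (LK LD1_c5 LD2_c56 LD3_c7)) = (LP (LK LD1_c9 LD2_c9 LD3_c38)) :=
  Lgr Lrot45 (Lpr_ft (f118904 IH) (Lpe (f118919 IH) (Lpr_ft (f118929 IH) (Lpn (LP (LK LD1_c9 LD2_c9 LD3_c38))))))
theorem f158686 : Led Lsl_gf (LP (LK LD1_c9 LD2_c9 LD3_c41)) = (LP (LK LD1_c8 LD2_c46 LD3_c2)) :=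
  Lgr Lrot47 (Lpr_gt (K8.f158682 IH) (Lpr_af (f118931 IH) (Lpe (f118929 IH) (Lpn (LP (LK LD1_c8 LD2_c46 LD3_c2))))))
theorem f142207 : Led Lsl_dt (LP (LK LD1_c9 LD2_c9 LD3_c41)) = (LP (LK LD1_c4 LD2_c36 LD3_c57)) :=
  Lre_d IH (LK LD1_c9 LD2_c9 LD3_c41) (LK LD1_c4 LD2_c36 LD3_c57) Lrfl Lrfl
theorem f37823 : Led Lsl_bt (LP (LK LD1_c3 LD2_c57 LD3_c54)) = (LP (LK LD1_c1 LD2_c55 LD3_c43)) :=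
  Lre_b IH (LK LD1_c3 LD2_c57 LD3_c54) (LK LD1_c1 LD2_c55 LD3_c43) Lrfl Lrfl
theorem f207705 : Led Lsl_bf (LP (LK LD1_c7 LD2_c27 LD3_c25)) = (LP (LK LD1_c6 LD2_c31 LD3_c47)) :=
  Lgr Lrot184 (Lpr_gt (f207699 IH) (Lpe (K8.f157711 IH) (Lpr_ct (K8.f81093 IH) (Lpe (f81083 IH) (Lpe (f158686 IH) (Lpr_dt (f142207 IH) (Lpr_ct (K8.f159204 IH) (Lpr_bt (f37823 IH) (Lpr_gt (K5.f35531 IH) (Lpr_dt (K1.f40026 IH) (Lpr_ct (K1.f37879 IH) (Lpe (f37880 IH) (Lpr_gt (K8.f139588 IH) (Lpe (K11.f206789 IH) (Lpr_ct (K8.f116893 IH) (Lpr_bt (f141895 IH) (Lpr_gt (f207501 IH) (Lpe (f207663 IH) (Lpr_ct (f148584 IH) (Lpn (LP (LK LD1_c6 LD2_c31 LD3_c47))))))))))))))))))))))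
theorem f68519 : Led Lsl_at (LP (LK LD1_c6 LD2_c31 LD3_c54)) = (LP (LK LD1_c3 LD2_c14 LD3_c7)) :=
  Lre_a IH (LK LD1_c6 LD2_c31 LD3_c54) (LK LD1_c3 LD2_c14 LD3_c7) Lrfl Lrfl
theorem f207703 : Led Lsl_ft (LP (LK LD1_c7 LD2_c27 LD3_c25)) = (LP (LK LD1_c6 LD2_c31 LD3_c54)) :=
  Lgr Lrot2 (Lpr_gt (f207699 IH) (Lpr_gt (K8.f68521 IH) (Lpe (f68519 IH) (Lpn (LP (LK LD1_c6 LD2_c31 LD3_c54))))))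
theorem f148611 : Led Lsl_at (LP (LK LD1_c3 LD2_c43 LD3_c21)) = (LP (LK LD1_c7 LD2_c27 LD3_c20)) :=
  Lre_a IH (LK LD1_c3 LD2_c43 LD3_c21) (LK LD1_c7 LD2_c27 LD3_c20) Lrfl Lrfl
theorem f148612 : Led Lsl_ft (LP (LK LD1_c7 LD2_c27 LD3_c20)) = (LP (LK LD1_c6 LD2_c31 LD3_c47)) :=
  Lgr Lrot101 (Lpe (f148611 IH) (Lpr_ff (K7.f148601 IH) (Lpe (f148542 IH) (Lpn (LP (LK LD1_c6 LD2_c31 LD3_c47))))))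
theorem f207707 : Led Lsl_bt (LP (LK LD1_c6 LD2_c31 LD3_c54)) = (LP (LK LD1_c7 LD2_c27 LD3_c20)) :=
  Lgr Lrot35 (Lpe (f207703 IH) (Lpr_bf (f207705 IH) (Lpe (f148612 IH) (Lpn (LP (LK LD1_c7 LD2_c27 LD3_c20))))))
theorem f207709 : Led Lsl_bf (LP (LK LD1_c6 LD2_c31 LD3_c54)) = (LP (LK LD1_c7 LD2_c27 LD3_c20)) :=
  Lgr Lrot24 (Lpr_bt (f207707 IH) (Lpn (LP (LK LD1_c7 LD2_c27 LD3_c20))))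
theorem f148596 : Led Lsl_at (LP (LK LD1_c7 LD2_c27 LD3_c20)) = (LP (LK LD1_c3 LD2_c43 LD3_c21)) :=
  Lre_a IH (LK LD1_c7 LD2_c27 LD3_c20) (LK LD1_c3 LD2_c43 LD3_c21) Lrfl Lrfl
theorem f148532 : Led Lsl_at (LP (LK LD1_c3 LD2_c14 LD3_c4)) = (LP (LK LD1_c6 LD2_c31 LD3_c47)) :=
  Lre_a IH (LK LD1_c3 LD2_c14 LD3_c4) (LK LD1_c6 LD2_c31 LD3_c47) Lrfl Lrfl
theorem f148597 : Led Lsl_ff (LP (LK LD1_c7 LD2_c27 LD3_c20)) = (LP (LK LD1_c6 LD2_c31 LD3_c47)) :=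
  Lgr Lrot30 (Lpr_at (f148596 IH) (Lpr_ft (K7.f148589 IH) (Lpr_at (f148532 IH) (Lpn (LP (LK LD1_c6 LD2_c31 LD3_c47))))))
theorem f207712 : Led Lsl_ft (LP (LK LD1_c6 LD2_c31 LD3_c54)) = (LP (LK LD1_c7 LD2_c27 LD3_c25)) :=
  Lgr Lrot75 (Lpr_bf (f207709 IH) (Lpr_ff (f148597 IH) (Lpe (f148630 IH) (Lpn (LP (LK LD1_c7 LD2_c27 LD3_c25))))))
theorem f207696 : Led Lsl_at (LP (LK LD1_c7 LD2_c27 LD3_c25)) = (LP (LK LD1_c3 LD2_c43 LD3_c23)) :=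
  Lre_a IH (LK LD1_c7 LD2_c27 LD3_c25) (LK LD1_c3 LD2_c43 LD3_c23) Lrfl Lrfl
theorem f157715 : Led Lsl_gt (LP (LK LD1_c7 LD2_c27 LD3_c24)) = (LP (LK LD1_c3 LD2_c43 LD3_c23)) :=
  Lre_g IH (LK LD1_c7 LD2_c27 LD3_c24) (LK LD1_c3 LD2_c43 LD3_c23) Lrfl Lrfl
theorem f207716 : Led Lsl_gt (LP (LK LD1_c6 LD2_c31 LD3_c54)) = (LP (LK LD1_c7 LD2_c27 LD3_c24)) :=
  Lgr Lrot5 (Lpr_ft (f207712 IH) (Lpr_at (f207696 IH) (Lpe (f157715 IH) (Lpn (LP (LK LD1_c7 LD2_c27 LD3_c24))))))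
theorem f82039 : Led Lsl_bt (LP (LK LD1_c0 LD2_c17 LD3_c8)) = (LP (LK LD1_c0 LD2_c7 LD3_c38)) :=
  Lre_b IH (LK LD1_c0 LD2_c17 LD3_c8) (LK LD1_c0 LD2_c7 LD3_c38) Lrfl Lrfl
theorem f81784 : Led Lsl_bt (LP (LK LD1_c5 LD2_c56 LD3_c9)) = (LP (LK LD1_c2 LD2_c54 LD3_c27)) :=
  Lre_b IH (LK LD1_c5 LD2_c56 LD3_c9) (LK LD1_c2 LD2_c54 LD3_c27) Lrfl Lrfl
theorem f128343 : Led Lsl_gt (LP (LK LD1_c3 LD2_c43 LD3_c23)) = (LP (LK LD1_c7 LD2_c27 LD3_c23)) :=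
  Lre_g IH (LK LD1_c3 LD2_c43 LD3_c23) (LK LD1_c7 LD2_c27 LD3_c23) Lrfl Lrfl
theorem f128344 : Led Lsl_df (LP (LK LD1_c11 LD2_c37 LD3_c32)) = (LP (LK LD1_c7 LD2_c27 LD3_c23)) :=
  Lgr Lrot183 (Lpr_ct (K8.f99143 IH) (Lpr_bt (f81784 IH) (Lpr_gt (K4.f81783 IH) (Lpr_dt (K2.f69452 IH) (Lpr_ct (K6.f24073 IH) (Lpr_bt (f82039 IH) (Lpr_gt (K0.f23902 IH) (Lpr_dt (K1.f23908 IH) (Lpr_ct (K0.f13544 IH) (Lpr_bt (K3.f61828 IH) (Lpr_gt (K3.f61829 IH) (Lpe (K3.f99133 IH) (Lpr_ct (K3.f58752 IH) (Lpr_bt (K5.f124845 IH) (Lpr_gt (K5.f124833 IH) (Lpr_dt (K5.f124837 IH) (Lpr_ct (K5.f128331 IH) (Lpr_bt (f128334 IH) (Lpr_gt (f128343 IH) (Lpn (LP (LK LD1_c7 LD2_c27 LD3_c23))))))))))))))))))))))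
theorem f157709 : Led Lsl_af (LP (LK LD1_c7 LD2_c27 LD3_c23)) = (LP (LK LD1_c6 LD2_c31 LD3_c53)) :=
  Lgr Lrot117 (Lpe (f128344 IH) (Lpr_at (K8.f119808 IH) (Lpr_dt (K8.f157707 IH) (Lpn (LP (LK LD1_c6 LD2_c31 LD3_c53))))))
theorem f157716 : Led Lsl_ft (LP (LK LD1_c7 LD2_c27 LD3_c24)) = (LP (LK LD1_c6 LD2_c31 LD3_c53)) :=
  Lgr Lrot2 (Lpr_gt (f157715 IH) (Lpr_gt (f128343 IH) (Lpr_af (f157709 IH) (Lpn (LP (LK LD1_c6 LD2_c31 LD3_c53))))))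
theorem f119815 : Led Lsl_ft (LP (LK LD1_c11 LD2_c37 LD3_c32)) = (LP (LK LD1_c12 LD2_c22 LD3_c2)) :=
  Lgr Lrot4 (Lpe (K8.f81785 IH) (Lpr_ff (K8.f119813 IH) (Lpe (K8.f117672 IH) (Lpn (LP (LK LD1_c12 LD2_c22 LD3_c2))))))
theorem f129108 : Led Lsl_ft (LP (LK LD1_c6 LD2_c31 LD3_c52)) = (LP (LK LD1_c7 LD2_c27 LD3_c23)) :=
  Lgr Lrot54 (Lpr_df (K8.f129105 IH) (Lpe (f119815 IH) (Lpr_df (f128344 IH) (Lpn (LP (LK LD1_c7 LD2_c27 LD3_c23))))))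
theorem f129120 : Led Lsl_ff (LP (LK LD1_c6 LD2_c31 LD3_c52)) = (LP (LK LD1_c7 LD2_c27 LD3_c23)) :=
  Lgr Lrot3 (Lpr_ft (f129108 IH) (Lpn (LP (LK LD1_c7 LD2_c27 LD3_c23))))
theorem f157718 : Led Lsl_af (LP (LK LD1_c7 LD2_c27 LD3_c24)) = (LP (LK LD1_c6 LD2_c31 LD3_c52)) :=
  Lgr Lrot45 (Lpr_ft (f157716 IH) (Lpe (f157709 IH) (Lpe (f129120 IH) (Lpn (LP (LK LD1_c6 LD2_c31 LD3_c52))))))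
theorem f207718 : Led Lsl_gf (LP (LK LD1_c6 LD2_c31 LD3_c54)) = (LP (LK LD1_c7 LD2_c27 LD3_c23)) :=
  Lgr Lrot47 (Lpr_gt (f207716 IH) (Lpr_af (f157718 IH) (Lpr_ff (f129120 IH) (Lpn (LP (LK LD1_c7 LD2_c27 LD3_c23))))))
theorem f129125 : Led Lsl_dt (LP (LK LD1_c11 LD2_c37 LD3_c32)) = (LP (LK LD1_c7 LD2_c27 LD3_c23)) :=
  Lgr Lrot60 (Lpr_ff (K8.f119821 IH) (Lpe (K8.f129103 IH) (Lpr_ff (f129120 IH) (Lpn (LP (LK LD1_c7 LD2_c27 LD3_c23))))))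
theorem f159229 : Led Lsl_gt (LP (LK LD1_c11 LD2_c37 LD3_c32)) = (LP (LK LD1_c7 LD2_c57 LD3_c10)) :=
  Lgr Lrot94 (Lpe (K8.f81785 IH) (Lpe (K8.f158658 IH) (Lpr_dt (K8.f99503 IH) (Lpe (K4.f99533 IH) (Lpr_dt (K8.f99535 IH) (Lpe (K8.f99537 IH) (Lpe (K8.f156735 IH) (Lpr_gf (K8.f157756 IH) (Lpr_df (K8.f159090 IH) (Lpn (LP (LK LD1_c7 LD2_c57 LD3_c10))))))))))))
theorem f159096 : Led Lsl_af (LP (LK LD1_c5 LD2_c47 LD3_c23)) = (LP (LK LD1_c3 LD2_c57 LD3_c55)) :=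
  Lgr Lrot0 (Lpr_at (K8.f159094 IH) (Lpn (LP (LK LD1_c3 LD2_c57 LD3_c55))))
theorem f159224 : Led Lsl_at (LP (LK LD1_c6 LD2_c32 LD3_c0)) = (LP (LK LD1_c7 LD2_c57 LD3_c10)) :=
  Lgr Lrot107 (Lpe (K8.f99515 IH) (Lpr_af (f159096 IH) (Lpe (K8.f100439 IH) (Lpn (LP (LK LD1_c7 LD2_c57 LD3_c10))))))
theorem f159231 : Led Lsl_gf (LP (LK LD1_c11 LD2_c37 LD3_c32)) = (LP (LK LD1_c7 LD2_c25 LD3_c21)) :=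
  Lgr Lrot47 (Lpr_gt (f159229 IH) (Lpe (f159224 IH) (Lpe (K8.f157679 IH) (Lpn (LP (LK LD1_c7 LD2_c25 LD3_c21))))))
theorem f158974 : Led Lsl_ct (LP (LK LD1_c3 LD2_c57 LD3_c52)) = (LP (LK LD1_c7 LD2_c25 LD3_c21)) :=
  Lgr Lrot59 (Lpr_cf (K8.f158967 IH) (Lpn (LP (LK LD1_c7 LD2_c25 LD3_c21))))
theorem f158965 : Led Lsl_gt (LP (LK LD1_c3 LD2_c57 LD3_c52)) = (LP (LK LD1_c5 LD2_c47 LD3_c19)) :=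
  Lgr Lrot46 (Lpr_gf (K8.f158963 IH) (Lpr_ft (K2.f73324 IH) (Lpr_at (K5.f73330 IH) (Lpn (LP (LK LD1_c5 LD2_c47 LD3_c19))))))
theorem f207720 : Led Lsl_dt (LP (LK LD1_c6 LD2_c31 LD3_c54)) = (LP (LK LD1_c8 LD2_c50 LD3_c45)) :=
  Lgr Lrot105 (Lpr_gf (f207718 IH) (Lpe (f129125 IH) (Lpr_gf (f159231 IH) (Lpe (f158974 IH) (Lpr_gt (f158965 IH) (Lpr_dt (K5.f73391 IH) (Lpe (K4.f73419 IH) (Lpr_dt (K8.f149207 IH) (Lpe (K8.f80130 IH) (Lpn (LP (LK LD1_c8 LD2_c50 LD3_c45))))))))))))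
theorem f207726 : Led Lsl_ff (LP (LK LD1_c7 LD2_c57 LD3_c17)) = (LP (LK LD1_c8 LD2_c50 LD3_c45)) :=
  Lgr Lrot19 (Lpe (f207694 IH) (Lpr_ft (f207703 IH) (Lpr_dt (f207720 IH) (Lpn (LP (LK LD1_c8 LD2_c50 LD3_c45))))))
theorem f207730 : Led Lsl_ft (LP (LK LD1_c7 LD2_c57 LD3_c17)) = (LP (LK LD1_c8 LD2_c50 LD3_c45)) :=
  Lgr Lrot48 (Lpr_ff (f207726 IH) (Lpn (LP (LK LD1_c8 LD2_c50 LD3_c45))))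
theorem f157839 : Led Lsl_ct (LP (LK LD1_c3 LD2_c57 LD3_c59)) = (LP (LK LD1_c7 LD2_c57 LD3_c17)) :=
  Lre_c IH (LK LD1_c3 LD2_c57 LD3_c59) (LK LD1_c7 LD2_c57 LD3_c17) Lrfl Lrfl
theorem f207732 : Led Lsl_ff (LP (LK LD1_c3 LD2_c57 LD3_c59)) = (LP (LK LD1_c4 LD2_c26 LD3_c36)) :=
  Lgr Lrot23 (Lpr_ct (f157839 IH) (Lpr_ft (f207730 IH) (Lpr_ct (K8.f80130 IH) (Lpn (LP (LK LD1_c4 LD2_c26 LD3_c36))))))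
theorem f207737 : Led Lsl_at (LP (LK LD1_c3 LD2_c57 LD3_c59)) = (LP (LK LD1_c4 LD2_c26 LD3_c35)) :=
  Lgr Lrot26 (Lpr_ff (f207732 IH) (Lpr_gt (K8.f38025 IH) (Lpr_gt (K8.f38520 IH) (Lpn (LP (LK LD1_c4 LD2_c26 LD3_c35))))))
theorem f157851 : Led Lsl_et (LP (LK LD1_c7 LD2_c57 LD3_c18)) = (LP (LK LD1_c3 LD2_c57 LD3_c59)) :=
  Lre_e IH (LK LD1_c7 LD2_c57 LD3_c18) (LK LD1_c3 LD2_c57 LD3_c59) Lrfl Lrfl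
theorem f156906 : Led Lsl_et (LP (LK LD1_c4 LD2_c26 LD3_c35)) = (LP (LK LD1_c8 LD2_c50 LD3_c44)) :=
  Lre_e IH (LK LD1_c4 LD2_c26 LD3_c35) (LK LD1_c8 LD2_c50 LD3_c44) Lrfl Lrfl
theorem f207743 : Led Lsl_af (LP (LK LD1_c7 LD2_c57 LD3_c18)) = (LP (LK LD1_c8 LD2_c50 LD3_c44)) :=
  Lgr Lrot50 (Lpr_et (f157851 IH) (Lpr_at (f207737 IH) (Lpr_et (f156906 IH) (Lpn (LP (LK LD1_c8 LD2_c50 LD3_c44))))))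
theorem f207690 : Led Lsl_ct (LP (LK LD1_c7 LD2_c57 LD3_c18)) = (LP (LK LD1_c15 LD2_c0 LD3_c5)) :=
  Lre_c IH (LK LD1_c7 LD2_c57 LD3_c18) (LK LD1_c15 LD2_c0 LD3_c5) Lrfl Lrfl
theorem f156905 : Led Lsl_et (LP (LK LD1_c12 LD2_c49 LD3_c29)) = (LP (LK LD1_c6 LD2_c42 LD3_c12)) :=
  Lre_e IH (LK LD1_c12 LD2_c49 LD3_c29) (LK LD1_c6 LD2_c42 LD3_c12) Lrfl Lrfl
theorem f156907 : Led Lsl_cf (LP (LK LD1_c12 LD2_c49 LD3_c29)) = (LP (LK LD1_c8 LD2_c50 LD3_c44)) :=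
  Lgr Lrot39 (Lpr_et (f156905 IH) (Lpr_ct (K8.f156901 IH) (Lpr_et (f156906 IH) (Lpn (LP (LK LD1_c8 LD2_c50 LD3_c44))))))
theorem f156910 : Led Lsl_ct (LP (LK LD1_c12 LD2_c49 LD3_c29)) = (LP (LK LD1_c8 LD2_c50 LD3_c44)) :=
  Lgr Lrot59 (Lpr_cf (f156907 IH) (Lpn (LP (LK LD1_c8 LD2_c50 LD3_c44))))
theorem f207747 : Led Lsl_at (LP (LK LD1_c15 LD2_c0 LD3_c5)) = (LP (LK LD1_c12 LD2_c49 LD3_c29)) :=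
  Lgr Lrot107 (Lpe (f207690 IH) (Lpr_af (f207743 IH) (Lpe (f156910 IH) (Lpn (LP (LK LD1_c12 LD2_c49 LD3_c29))))))
theorem f148609 : Led Lsl_et (LP (LK LD1_c12 LD2_c31 LD3_c30)) = (LP (LK LD1_c21 LD2_c37 LD3_c36)) :=
  Lre_e IH (LK LD1_c12 LD2_c31 LD3_c30) (LK LD1_c21 LD2_c37 LD3_c36) Lrfl Lrfl
theorem f158986 : Led Lsl_et (LP (LK LD1_c15 LD2_c0 LD3_c5)) = (LP (LK LD1_c7 LD2_c57 LD3_c17)) :=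
  Lre_e IH (LK LD1_c15 LD2_c0 LD3_c5) (LK LD1_c7 LD2_c57 LD3_c17) Lrfl Lrfl
theorem f207679 : Led Lsl_bt (LP (LK LD1_c21 LD2_c37 LD3_c36)) = (LP (LK LD1_c15 LD2_c0 LD3_c5)) :=
  Lgr Lrot119 (Lpe (f148609 IH) (Lpr_bf (f207672 IH) (Lpe (f158986 IH) (Lpn (LP (LK LD1_c15 LD2_c0 LD3_c5))))))
theorem f207681 : Led Lsl_at (LP (LK LD1_c12 LD2_c31 LD3_c34)) = (LP (LK LD1_c21 LD2_c37 LD3_c36)) :=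
  Lre_a IH (LK LD1_c12 LD2_c31 LD3_c34) (LK LD1_c21 LD2_c37 LD3_c36) Lrfl Lrfl
theorem f207682 : Led Lsl_bt (LP (LK LD1_c6 LD2_c31 LD3_c50)) = (LP (LK LD1_c12 LD2_c31 LD3_c34)) :=
  Lre_b IH (LK LD1_c6 LD2_c31 LD3_c50) (LK LD1_c12 LD2_c31 LD3_c34) Lrfl Lrfl
theorem f156909 : Led Lsl_bt (LP (LK LD1_c12 LD2_c49 LD3_c29)) = (LP (LK LD1_c6 LD2_c42 LD3_c13)) :=
  Lre_b IH (LK LD1_c12 LD2_c49 LD3_c29) (LK LD1_c6 LD2_c42 LD3_c13) Lrfl Lrfl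
theorem f207760 : Led Lsl_af (LP (LK LD1_c6 LD2_c31 LD3_c50)) = (LP (LK LD1_c6 LD2_c42 LD3_c13)) :=
  Lgr Lrot36 (Lpr_bt (f207682 IH) (Lpr_at (f207681 IH) (Lpr_bt (f207679 IH) (Lpr_at (f207747 IH) (Lpr_bt (f156909 IH) (Lpn (LP (LK LD1_c6 LD2_c42 LD3_c13))))))))
theorem f146865 : Led Lsl_et (LP (LK LD1_c6 LD2_c31 LD3_c50)) = (LP (LK LD1_c3 LD2_c14 LD3_c5)) :=
  Lre_e IH (LK LD1_c6 LD2_c31 LD3_c50) (LK LD1_c3 LD2_c14 LD3_c5) Lrfl Lrfl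
theorem f207769 : Led Lsl_et (LP (LK LD1_c3 LD2_c19 LD3_c6)) = (LP (LK LD1_c6 LD2_c42 LD3_c13)) :=
  Lre_e IH (LK LD1_c3 LD2_c19 LD3_c6) (LK LD1_c6 LD2_c42 LD3_c13) Lrfl Lrfl
theorem f207770 : Led Lsl_at (LP (LK LD1_c3 LD2_c14 LD3_c5)) = (LP (LK LD1_c3 LD2_c19 LD3_c6)) :=
  Lgr Lrot80 (Lpe (f146865 IH) (Lpr_af (f207760 IH) (Lpe (f207769 IH) (Lpn (LP (LK LD1_c3 LD2_c19 LD3_c6))))))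
theorem f148638 : Led Lsl_dt (LP (LK LD1_c1 LD2_c48 LD3_c45)) = (LP (LK LD1_c3 LD2_c19 LD3_c6)) :=
  Lgr Lrot57 (Lpr_gf (K7.f148636 IH) (Lpe (K7.f148358 IH) (Lpe (K7.f148368 IH) (Lpe (K7.f148075 IH) (Lpr_gt (K2.f21024 IH) (Lpe (K4.f24606 IH) (Lpe (K5.f24857 IH) (Lpe (K5.f24858 IH) (Lpe (K8.f59687 IH) (Lpn (LP (LK LD1_c3 LD2_c19 LD3_c6))))))))))))
theorem f146735 : Led Lsl_dt (LP (LK LD1_c3 LD2_c42 LD3_c19)) = (LP (LK LD1_c1 LD2_c48 LD3_c51)) :=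
  Lgr Lrot79 (Lpr_bf (K6.f146731 IH) (Lpe (K6.f122073 IH) (Lpr_bf (K6.f131685 IH) (Lpn (LP (LK LD1_c1 LD2_c48 LD3_c51))))))
theorem f148640 : Led Lsl_ct (LP (LK LD1_c3 LD2_c19 LD3_c6)) = (LP (LK LD1_c1 LD2_c48 LD3_c53)) :=
  Lgr Lrot7 (Lpe (f148638 IH) (Lpr_gf (K7.f148636 IH) (Lpe (K7.f148342 IH) (Lpe (K6.f144343 IH) (Lpr_cf (K6.f125592 IH) (Lpr_gt (K7.f148043 IH) (Lpr_dt (f146735 IH) (Lpr_gt (K5.f131674 IH) (Lpr_dt (K5.f12837 IH) (Lpn (LP (LK LD1_c1 LD2_c48 LD3_c53))))))))))))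
theorem f207774 : Led Lsl_af (LP (LK LD1_c1 LD2_c47 LD3_c28)) = (LP (LK LD1_c1 LD2_c48 LD3_c53)) :=
  Lgr Lrot68 (Lpr_ct (K6.f146842 IH) (Lpr_at (f207770 IH) (Lpr_ct (f148640 IH) (Lpn (LP (LK LD1_c1 LD2_c48 LD3_c53))))))
theorem f131998 : Led Lsl_bt (LP (LK LD1_c3 LD2_c43 LD3_c36)) = (LP (LK LD1_c1 LD2_c48 LD3_c53)) :=
  Lre_b IH (LK LD1_c3 LD2_c43 LD3_c36) (LK LD1_c1 LD2_c48 LD3_c53) Lrfl Lrfl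
theorem f208987 : Led Lsl_at (LP (LK LD1_c7 LD2_c27 LD3_c44)) = (LP (LK LD1_c3 LD2_c43 LD3_c36)) :=
  Lre_a IH (LK LD1_c7 LD2_c27 LD3_c44) (LK LD1_c3 LD2_c43 LD3_c36) Lrfl Lrfl
theorem f209108 : Led Lsl_bt (LP (LK LD1_c7 LD2_c22 LD3_c15)) = (LP (LK LD1_c7 LD2_c27 LD3_c44)) :=
  Lgr Lrot62 (Lpe (K8.f122241 IH) (Lpe (K6.f122180 IH) (Lpr_af (f207774 IH) (Lpe (f131998 IH) (Lpe (f208987 IH) (Lpn (LP (LK LD1_c7 LD2_c27 LD3_c44))))))))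
theorem f208946 : Led Lsl_dt (LP (LK LD1_c7 LD2_c27 LD3_c44)) = (LP (LK LD1_c3 LD2_c43 LD3_c35)) :=
  Lre_d IH (LK LD1_c7 LD2_c27 LD3_c44) (LK LD1_c3 LD2_c43 LD3_c35) Lrfl Lrfl
theorem f209112 : Led Lsl_bf (LP (LK LD1_c3 LD2_c41 LD3_c1)) = (LP (LK LD1_c3 LD2_c43 LD3_c35)) :=
  Lgr Lrot93 (Lpr_dt (K7.f122067 IH) (Lpr_bt (f209108 IH) (Lpr_dt (f208946 IH) (Lpn (LP (LK LD1_c3 LD2_c43 LD3_c35))))))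
theorem f209114 : Led Lsl_bt (LP (LK LD1_c3 LD2_c41 LD3_c1)) = (LP (LK LD1_c3 LD2_c43 LD3_c35)) :=
  Lgr Lrot127 (Lpr_bf (f209112 IH) (Lpn (LP (LK LD1_c3 LD2_c43 LD3_c35))))
theorem f439268 : Led Lsl_gf (LP (LK LD1_c3 LD2_c40 LD3_c48)) = (LP (LK LD1_c3 LD2_c43 LD3_c35)) :=
  Lgr Lrot124 (Lpe (f147344 IH) (Lpr_ct (f439255 IH) (Lpe (f439251 IH) (Lpe (f147784 IH) (Lpr_bt (f147789 IH) (Lpr_gt (K7.f151481 IH) (Lpe (K4.f122109 IH) (Lpr_gt (K4.f122087 IH) (Lpe (K4.f122056 IH) (Lpr_bt (f209114 IH) (Lpn (LP (LK LD1_c3 LD2_c43 LD3_c35)))))))))))))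
theorem f148627 : Led Lsl_at (LP (LK LD1_c1 LD2_c48 LD3_c45)) = (LP (LK LD1_c1 LD2_c33 LD3_c36)) :=
  Lgr Lrot100 (Lpr_af (K7.f148625 IH) (Lpn (LP (LK LD1_c1 LD2_c33 LD3_c36))))
theorem f207776 : Led Lsl_df (LP (LK LD1_c1 LD2_c48 LD3_c45)) = (LP (LK LD1_c3 LD2_c19 LD3_c6)) :=
  Lgr Lrot18 (Lpr_at (f148627 IH) (Lpr_dt (K6.f22815 IH) (Lpr_at (f207770 IH) (Lpn (LP (LK LD1_c3 LD2_c19 LD3_c6))))))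
theorem f122338 : Led Lsl_at (LP (LK LD1_c0 LD2_c50 LD3_c28)) = (LP (LK LD1_c0 LD2_c51 LD3_c16)) :=
  Lgr Lrot107 (Lpe (K6.f12574 IH) (Lpr_af (K4.f122332 IH) (Lpe (K4.f12905 IH) (Lpn (LP (LK LD1_c0 LD2_c51 LD3_c16))))))
theorem f142725 : Led Lsl_ct (LP (LK LD1_c1 LD2_c48 LD3_c53)) = (LP (LK LD1_c3 LD2_c19 LD3_c6)) :=
  Lgr Lrot152 (Lpe (K7.f132074 IH) (Lpe (K7.f96340 IH) (Lpr_gt (K4.f12370 IH) (Lpr_ct (K4.f12359 IH) (Lpr_gt (K6.f142719 IH) (Lpr_ct (K5.f84905 IH) (Lpe (K7.f84908 IH) (Lpr_cf (K6.f134713 IH) (Lpe (K8.f59687 IH) (Lpn (LP (LK LD1_c3 LD2_c19 LD3_c6))))))))))))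
theorem f208929 : Led Lsl_ff (LP (LK LD1_c0 LD2_c50 LD3_c28)) = (LP (LK LD1_c0 LD2_c51 LD3_c13)) :=
  Lgr Lrot103 (Lpr_at (f122338 IH) (Lpe (K4.f116536 IH) (Lpe (K5.f123590 IH) (Lpr_cf (K5.f124859 IH) (Lpe (K5.f124836 IH) (Lpr_cf (K7.f128335 IH) (Lpr_df (f207776 IH) (Lpe (f142725 IH) (Lpe (K5.f12837 IH) (Lpn (LP (LK LD1_c0 LD2_c51 LD3_c13))))))))))))
theorem f208931 : Led Lsl_ft (LP (LK LD1_c1 LD2_c47 LD3_c22)) = (LP (LK LD1_c1 LD2_c48 LD3_c52)) :=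
  Lgr Lrot75 (Lpe (K8.f116191 IH) (Lpr_ff (f208929 IH) (Lpe (f12845 IH) (Lpn (LP (LK LD1_c1 LD2_c48 LD3_c52))))))
theorem f116192 : Led Lsl_gt (LP (LK LD1_c1 LD2_c47 LD3_c22)) = (LP (LK LD1_c3 LD2_c40 LD3_c47)) :=
  Lre_g IH (LK LD1_c1 LD2_c47 LD3_c22) (LK LD1_c3 LD2_c40 LD3_c47) Lrfl Lrfl
theorem f208935 : Led Lsl_at (LP (LK LD1_c1 LD2_c48 LD3_c52)) = (LP (LK LD1_c3 LD2_c43 LD3_c35)) :=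
  Lre_a IH (LK LD1_c1 LD2_c48 LD3_c52) (LK LD1_c3 LD2_c43 LD3_c35) Lrfl Lrfl
theorem f208943 : Led Lsl_gt (LP (LK LD1_c3 LD2_c40 LD3_c47)) = (LP (LK LD1_c3 LD2_c43 LD3_c35)) :=
  Lgr Lrot46 (Lpe (f116192 IH) (Lpr_ft (f208931 IH) (Lpr_at (f208935 IH) (Lpn (LP (LK LD1_c3 LD2_c43 LD3_c35))))))
theorem f80324 : Led Lsl_bt (LP (LK LD1_c4 LD2_c23 LD3_c52)) = (LP (LK LD1_c2 LD2_c9 LD3_c21)) :=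
  Lre_b IH (LK LD1_c4 LD2_c23 LD3_c52) (LK LD1_c2 LD2_c9 LD3_c21) Lrfl Lrfl
theorem f80319 : Led Lsl_gf (LP (LK LD1_c1 LD2_c10 LD3_c42)) = (LP (LK LD1_c2 LD2_c9 LD3_c21)) :=
  Lgr Lrot76 (Lpe (K1.f37452 IH) (Lpe (K1.f35816 IH) (Lpr_gt (K2.f80315 IH) (Lpn (LP (LK LD1_c2 LD2_c9 LD3_c21))))))
theorem f3871 : Led Lsl_bt (LP (LK LD1_c0 LD2_c0 LD3_c44)) = (LP (LK LD1_c0 LD2_c0 LD3_c15)) :=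
  Lre_b IH (LK LD1_c0 LD2_c0 LD3_c44) (LK LD1_c0 LD2_c0 LD3_c15) Lrfl Lrfl
theorem f12902 : Led Lsl_bt (LP (LK LD1_c0 LD2_c51 LD3_c13)) = (LP (LK LD1_c1 LD2_c48 LD3_c52)) :=
  Lre_b IH (LK LD1_c0 LD2_c51 LD3_c13) (LK LD1_c1 LD2_c48 LD3_c52) Lrfl Lrfl
theorem f12903 : Led Lsl_gt (LP (LK LD1_c1 LD2_c48 LD3_c52)) = (LP (LK LD1_c3 LD2_c43 LD3_c33)) :=
  Lre_g IH (LK LD1_c1 LD2_c48 LD3_c52) (LK LD1_c3 LD2_c43 LD3_c33) Lrfl Lrfl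
theorem f159655 : Led Lsl_df (LP (LK LD1_c7 LD2_c25 LD3_c12)) = (LP (LK LD1_c3 LD2_c43 LD3_c33)) :=
  Lgr Lrot183 (Lpr_ct (K8.f159645 IH) (Lpr_bt (f80324 IH) (Lpe (f80319 IH) (Lpr_dt (K1.f37330 IH) (Lpr_ct (K1.f37327 IH) (Lpr_bt (K1.f37318 IH) (Lpr_gt (K0.f7018 IH) (Lpr_dt (K0.f13434 IH) (Lpr_ct (K0.f9693 IH) (Lpr_bt (f3871 IH) (Lpr_gt (K0.f153 IH) (Lpr_dt (K0.f3807 IH) (Lpr_ct (K0.f12686 IH) (Lpr_bt (K0.f12692 IH) (Lpr_gt (K0.f17645 IH) (Lpr_dt (K7.f131664 IH) (Lpr_ct (K3.f12762 IH) (Lpr_bt (f12902 IH) (Lpr_gt (f12903 IH) (Lpn (LP (LK LD1_c3 LD2_c43 LD3_c33))))))))))))))))))))))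
theorem f159657 : Led Lsl_dt (LP (LK LD1_c7 LD2_c25 LD3_c12)) = (LP (LK LD1_c3 LD2_c43 LD3_c33)) :=
  Lgr Lrot42 (Lpr_df (f159655 IH) (Lpn (LP (LK LD1_c3 LD2_c43 LD3_c33))))
theorem f70177 : Led Lsl_bt (LP (LK LD1_c3 LD2_c3 LD3_c49)) = (LP (LK LD1_c1 LD2_c27 LD3_c58)) :=
  Lre_b IH (LK LD1_c3 LD2_c3 LD3_c49) (LK LD1_c1 LD2_c27 LD3_c58) Lrfl Lrfl
theorem f81120 : Led Lsl_ft (LP (LK LD1_c4 LD2_c23 LD3_c52)) = (LP (LK LD1_c3 LD2_c3 LD3_c49)) :=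
  Lgr Lrot75 (Lpe (K8.f80348 IH) (Lpr_ff (K10.f81116 IH) (Lpe (f70177 IH) (Lpn (LP (LK LD1_c3 LD2_c3 LD3_c49))))))
theorem f80347 : Led Lsl_ct (LP (LK LD1_c3 LD2_c3 LD3_c49)) = (LP (LK LD1_c6 LD2_c13 LD3_c55)) :=
  Lre_c IH (LK LD1_c3 LD2_c3 LD3_c49) (LK LD1_c6 LD2_c13 LD3_c55) Lrfl Lrfl
theorem f159653 : Led Lsl_ff (LP (LK LD1_c7 LD2_c25 LD3_c12)) = (LP (LK LD1_c6 LD2_c13 LD3_c55)) :=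
  Lgr Lrot23 (Lpr_ct (K8.f159645 IH) (Lpr_ft (f81120 IH) (Lpr_ct (f80347 IH) (Lpn (LP (LK LD1_c6 LD2_c13 LD3_c55))))))
theorem f80832 : Led Lsl_bt (LP (LK LD1_c1 LD2_c27 LD3_c58)) = (LP (LK LD1_c3 LD2_c3 LD3_c49)) :=
  Lre_b IH (LK LD1_c1 LD2_c27 LD3_c58) (LK LD1_c3 LD2_c3 LD3_c49) Lrfl Lrfl
theorem f159647 : Led Lsl_bf (LP (LK LD1_c7 LD2_c25 LD3_c12)) = (LP (LK LD1_c6 LD2_c13 LD3_c55)) :=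
  Lgr Lrot90 (Lpr_ct (K8.f159645 IH) (Lpr_bt (f80324 IH) (Lpe (K2.f80305 IH) (Lpr_bt (f80832 IH) (Lpr_ct (f80347 IH) (Lpn (LP (LK LD1_c6 LD2_c13 LD3_c55))))))))
theorem f116190 : Led Lsl_gt (LP (LK LD1_c3 LD2_c35 LD3_c42)) = (LP (LK LD1_c1 LD2_c44 LD3_c43)) :=
  Lre_g IH (LK LD1_c3 LD2_c35 LD3_c42) (LK LD1_c1 LD2_c44 LD3_c43) Lrfl Lrfl
theorem f116123 : Led Lsl_bt (LP (LK LD1_c1 LD2_c49 LD3_c3)) = (LP (LK LD1_c0 LD2_c51 LD3_c19)) :=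
  Lre_b IH (LK LD1_c1 LD2_c49 LD3_c3) (LK LD1_c0 LD2_c51 LD3_c19) Lrfl Lrfl
theorem f116193 : Led Lsl_cf (LP (LK LD1_c3 LD2_c35 LD3_c42)) = (LP (LK LD1_c3 LD2_c40 LD3_c47)) :=
  Lgr Lrot125 (Lpr_gt (f116190 IH) (Lpr_cf (K4.f116168 IH) (Lpr_bt (f116123 IH) (Lpr_gt (K4.f11305 IH) (Lpr_bf (K4.f12754 IH) (Lpr_ct (K4.f4457 IH) (Lpr_gt (K4.f4893 IH) (Lpe (K6.f12582 IH) (Lpr_bt (K8.f116191 IH) (Lpr_gt (f116192 IH) (Lpn (LP (LK LD1_c3 LD2_c40 LD3_c47)))))))))))))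
theorem f116195 : Led Lsl_bt (LP (LK LD1_c3 LD2_c40 LD3_c47)) = (LP (LK LD1_c3 LD2_c43 LD3_c33)) :=
  Lgr Lrot92 (Lpe (f116193 IH) (Lpr_gt (f116190 IH) (Lpr_cf (K4.f116168 IH) (Lpr_bt (f116123 IH) (Lpr_gt (K4.f11305 IH) (Lpr_ct (K4.f11300 IH) (Lpr_gt (K3.f12761 IH) (Lpe (K5.f12901 IH) (Lpr_bt (f12902 IH) (Lpr_gt (f12903 IH) (Lpn (LP (LK LD1_c3 LD2_c43 LD3_c33)))))))))))))
theorem f116197 : Led Lsl_bf (LP (LK LD1_c3 LD2_c40 LD3_c47)) = (LP (LK LD1_c3 LD2_c43 LD3_c33)) :=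
  Lgr Lrot24 (Lpr_bt (f116195 IH) (Lpn (LP (LK LD1_c3 LD2_c43 LD3_c33))))
theorem f159670 : Led Lsl_df (LP (LK LD1_c6 LD2_c13 LD3_c55)) = (LP (LK LD1_c3 LD2_c40 LD3_c47)) :=
  Lgr Lrot12 (Lpe (f159647 IH) (Lpr_dt (f159657 IH) (Lpe (f116197 IH) (Lpn (LP (LK LD1_c3 LD2_c40 LD3_c47))))))
theorem f159672 : Led Lsl_ff (LP (LK LD1_c3 LD2_c40 LD3_c47)) = (LP (LK LD1_c3 LD2_c43 LD3_c33)) :=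
  Lgr Lrot19 (Lpe (f159670 IH) (Lpe (f159653 IH) (Lpr_dt (f159657 IH) (Lpn (LP (LK LD1_c3 LD2_c43 LD3_c33))))))
theorem f159679 : Led Lsl_ft (LP (LK LD1_c3 LD2_c40 LD3_c47)) = (LP (LK LD1_c3 LD2_c43 LD3_c33)) :=
  Lgr Lrot48 (Lpr_ff (f159672 IH) (Lpn (LP (LK LD1_c3 LD2_c43 LD3_c33))))
theorem f439270 : Led Lsl_af (LP (LK LD1_c3 LD2_c40 LD3_c48)) = (LP (LK LD1_c3 LD2_c43 LD3_c33)) :=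
  Lgr Lrot31 (Lpr_gf (f439268 IH) (Lpe (f208943 IH) (Lpr_ft (f159679 IH) (Lpn (LP (LK LD1_c3 LD2_c43 LD3_c33))))))
theorem f439274 : Led Lsl_at (LP (LK LD1_c3 LD2_c40 LD3_c48)) = (LP (LK LD1_c3 LD2_c43 LD3_c33)) :=
  Lgr Lrot100 (Lpr_af (f439270 IH) (Lpn (LP (LK LD1_c3 LD2_c43 LD3_c33))))
theorem f439290 : Led Lsl_ff (LP (LK LD1_c3 LD2_c40 LD3_c48)) = (LP (LK LD1_c3 LD2_c43 LD3_c34)) :=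
  Lgr Lrot52 (Lpr_at (f439274 IH) (Lpe (f12903 IH) (Lpe (f148296 IH) (Lpn (LP (LK LD1_c3 LD2_c43 LD3_c34))))))
theorem f439296 : Led Lsl_ft (LP (LK LD1_c3 LD2_c40 LD3_c48)) = (LP (LK LD1_c3 LD2_c43 LD3_c34)) :=
  Lgr Lrot48 (Lpr_ff (f439290 IH) (Lpn (LP (LK LD1_c3 LD2_c43 LD3_c34))))
theorem f439257 : Led Lsl_bt (LP (LK LD1_c3 LD2_c40 LD3_c48)) = (LP (LK LD1_c7 LD2_c21 LD3_c49)) :=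
  Lre_b IH (LK LD1_c3 LD2_c40 LD3_c48) (LK LD1_c7 LD2_c21 LD3_c49) Lrfl Lrfl
theorem f148297 : Led Lsl_bt (LP (LK LD1_c7 LD2_c27 LD3_c42)) = (LP (LK LD1_c3 LD2_c43 LD3_c34)) :=
  Lre_b IH (LK LD1_c7 LD2_c27 LD3_c42) (LK LD1_c3 LD2_c43 LD3_c34) Lrfl Lrfl
theorem f5860 : Led Lsl_gt (LP (LK LD1_c1 LD2_c44 LD3_c43)) = (LP (LK LD1_c3 LD2_c35 LD3_c41)) :=
  Lre_g IH (LK LD1_c1 LD2_c44 LD3_c43) (LK LD1_c3 LD2_c35 LD3_c41) Lrfl Lrfl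
theorem f439230 : Led Lsl_bt (LP (LK LD1_c3 LD2_c32 LD3_c17)) = (LP (LK LD1_c3 LD2_c35 LD3_c41)) :=
  Lgr Lrot92 (Lpr_ct (f439222 IH) (Lpr_gt (f148296 IH) (Lpe (f131701 IH) (Lpr_bt (f5053 IH) (Lpr_gt (K3.f383 IH) (Lpr_ct (K2.f379 IH) (Lpr_gt (K3.f97194 IH) (Lpe (K3.f18053 IH) (Lpr_bt (K4.f5859 IH) (Lpr_gt (f5860 IH) (Lpn (LP (LK LD1_c3 LD2_c35 LD3_c41)))))))))))))
theorem f439258 : Led Lsl_cf (LP (LK LD1_c3 LD2_c40 LD3_c48)) = (LP (LK LD1_c3 LD2_c35 LD3_c41)) :=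
  Lgr Lrot97 (Lpr_bt (f439257 IH) (Lpr_ct (f439255 IH) (Lpr_bt (f148297 IH) (Lpe (f439225 IH) (Lpr_bt (f439230 IH) (Lpn (LP (LK LD1_c3 LD2_c35 LD3_c41))))))))
theorem f439302 : Led Lsl_ff (LP (LK LD1_c3 LD2_c35 LD3_c41)) = (LP (LK LD1_c3 LD2_c32 LD3_c17)) :=
  Lgr Lrot23 (Lpe (f439258 IH) (Lpr_ft (f439296 IH) (Lpe (f439225 IH) (Lpn (LP (LK LD1_c3 LD2_c32 LD3_c17))))))
theorem f439304 : Led Lsl_ft (LP (LK LD1_c3 LD2_c35 LD3_c41)) = (LP (LK LD1_c3 LD2_c32 LD3_c17)) :=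
  Lgr Lrot48 (Lpr_ff (f439302 IH) (Lpn (LP (LK LD1_c3 LD2_c32 LD3_c17))))
theorem f439306 : Led Lsl_cf (LP (LK LD1_c3 LD2_c35 LD3_c41)) = (LP (LK LD1_c3 LD2_c40 LD3_c48)) :=
  Lgr Lrot108 (Lpr_ft (f439304 IH) (Lpr_ct (f439222 IH) (Lpe (f439290 IH) (Lpn (LP (LK LD1_c3 LD2_c40 LD3_c48))))))
theorem f116132 : Led Lsl_gt (LP (LK LD1_c3 LD2_c44 LD3_c1)) = (LP (LK LD1_c1 LD2_c49 LD3_c3)) :=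
  Lre_g IH (LK LD1_c3 LD2_c44 LD3_c1) (LK LD1_c1 LD2_c49 LD3_c3) Lrfl Lrfl
theorem f108959 : Led Lsl_at (LP (LK LD1_c13 LD2_c19 LD3_c4)) = (LP (LK LD1_c22 LD2_c11 LD3_c5)) :=
  Lgr Lrot100 (Lpr_af (K4.f108957 IH) (Lpn (LP (LK LD1_c22 LD2_c11 LD3_c5))))
theorem f108964 : Led Lsl_cf (LP (LK LD1_c14 LD2_c5 LD3_c2)) = (LP (LK LD1_c22 LD2_c11 LD3_c5)) :=
  Lgr Lrot1 (Lpe (K4.f108944 IH) (Lpe (K4.f103632 IH) (Lpr_at (f108959 IH) (Lpn (LP (LK LD1_c22 LD2_c11 LD3_c5))))))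
theorem f93205 : Led Lsl_et (LP (LK LD1_c3 LD2_c44 LD3_c54)) = (LP (LK LD1_c7 LD2_c30 LD3_c44)) :=
  Lre_e IH (LK LD1_c3 LD2_c44 LD3_c54) (LK LD1_c7 LD2_c30 LD3_c44) Lrfl Lrfl
theorem f95587 : Led Lsl_cf (LP (LK LD1_c13 LD2_c0 LD3_c54)) = (LP (LK LD1_c7 LD2_c30 LD3_c44)) :=
  Lgr Lrot39 (Lpr_et (K4.f95586 IH) (Lpr_ct (K2.f95581 IH) (Lpr_et (f93205 IH) (Lpn (LP (LK LD1_c7 LD2_c30 LD3_c44))))))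
theorem f97688 : Led Lsl_bt (LP (LK LD1_c14 LD2_c10 LD3_c57)) = (LP (LK LD1_c7 LD2_c30 LD3_c44)) :=
  Lre_b IH (LK LD1_c14 LD2_c10 LD3_c57) (LK LD1_c7 LD2_c30 LD3_c44) Lrfl Lrfl
theorem f108966 : Led Lsl_bt (LP (LK LD1_c14 LD2_c5 LD3_c2)) = (LP (LK LD1_c13 LD2_c6 LD3_c20)) :=
  Lgr Lrot128 (Lpr_cf (f108964 IH) (Lpe (K4.f97689 IH) (Lpr_cf (f95587 IH) (Lpe (f97688 IH) (Lpr_cf (K4.f97684 IH) (Lpn (LP (LK LD1_c13 LD2_c6 LD3_c20))))))))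
theorem f108972 : Led Lsl_bf (LP (LK LD1_c7 LD2_c27 LD3_c36)) = (LP (LK LD1_c6 LD2_c53 LD3_c45)) :=
  Lgr Lrot96 (Lpr_et (K4.f108904 IH) (Lpr_bt (f108966 IH) (Lpr_et (K4.f97698 IH) (Lpn (LP (LK LD1_c6 LD2_c53 LD3_c45))))))
theorem f147195 : Led Lsl_gt (LP (LK LD1_c3 LD2_c41 LD3_c19)) = (LP (LK LD1_c3 LD2_c44 LD3_c1)) :=
  Lgr Lrot5 (Lpr_ft (K8.f147187 IH) (Lpr_at (K4.f116187 IH) (Lpe (f116132 IH) (Lpn (LP (LK LD1_c3 LD2_c44 LD3_c1))))))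
theorem f155576 : Led Lsl_bt (LP (LK LD1_c3 LD2_c41 LD3_c10)) = (LP (LK LD1_c3 LD2_c44 LD3_c1)) :=
  Lgr Lrot92 (Lpr_ct (K8.f116510 IH) (Lpr_gt (K8.f155566 IH) (Lpr_cf (K4.f97680 IH) (Lpe (f108972 IH) (Lpr_gt (K4.f12829 IH) (Lpr_ct (K4.f12772 IH) (Lpr_gt (K4.f111343 IH) (Lpr_cf (K7.f123718 IH) (Lpe (K8.f147183 IH) (Lpr_gt (f147195 IH) (Lpn (LP (LK LD1_c3 LD2_c44 LD3_c1)))))))))))))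
theorem f155568 : Led Lsl_gf (LP (LK LD1_c7 LD2_c22 LD3_c39)) = (LP (LK LD1_c7 LD2_c1 LD3_c15)) :=
  Lgr Lrot47 (Lpr_gt (K8.f155566 IH) (Lpr_af (K4.f111278 IH) (Lpr_ff (K5.f111125 IH) (Lpn (LP (LK LD1_c7 LD2_c1 LD3_c15))))))
theorem f122009 : Led Lsl_cf (LP (LK LD1_c0 LD2_c51 LD3_c15)) = (LP (LK LD1_c1 LD2_c39 LD3_c26)) :=
  Lgr Lrot1 (Lpr_at (K4.f122007 IH) (Lpr_ct (K2.f91224 IH) (Lpe (K4.f121899 IH) (Lpn (LP (LK LD1_c1 LD2_c39 LD3_c26))))))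
theorem f122114 : Led Lsl_gf (LP (LK LD1_c12 LD2_c34 LD3_c49)) = (LP (LK LD1_c7 LD2_c22 LD3_c42)) :=
  Lgr Lrot129 (Lpe (K4.f94534 IH) (Lpr_bt (K4.f111083 IH) (Lpr_gt (K4.f58787 IH) (Lpe (K2.f5729 IH) (Lpr_ct (K2.f65862 IH) (Lpe (K7.f121967 IH) (Lpr_cf (f122009 IH) (Lpr_bt (K4.f121903 IH) (Lpr_gt (K4.f122086 IH) (Lpr_ct (K4.f122095 IH) (Lpn (LP (LK LD1_c7 LD2_c22 LD3_c42)))))))))))))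
theorem f151483 : Led Lsl_ft (LP (LK LD1_c7 LD2_c26 LD3_c30)) = (LP (LK LD1_c7 LD2_c1 LD3_c16)) :=
  Lgr Lrot2 (Lpr_gt (K7.f151481 IH) (Lpe (f122114 IH) (Lpr_af (K4.f111111 IH) (Lpn (LP (LK LD1_c7 LD2_c1 LD3_c16))))))
theorem f436316 : Led Lsl_ff (LP (LK LD1_c3 LD2_c42 LD3_c54)) = (LP (LK LD1_c3 LD2_c40 LD3_c36)) :=
  Lgr Lrot25 (Lpr_bt (f147789 IH) (Lpr_ft (f151483 IH) (Lpr_bt (K7.f148294 IH) (Lpn (LP (LK LD1_c3 LD2_c40 LD3_c36))))))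
theorem f436323 : Led Lsl_at (LP (LK LD1_c3 LD2_c42 LD3_c54)) = (LP (LK LD1_c3 LD2_c40 LD3_c36)) :=
  Lgr Lrot26 (Lpr_ff (f436316 IH) (Lpe (K7.f148312 IH) (Lpr_gt (K7.f148293 IH) (Lpn (LP (LK LD1_c3 LD2_c40 LD3_c36))))))
theorem f203584 : Led Lsl_et (LP (LK LD1_c7 LD2_c26 LD3_c32)) = (LP (LK LD1_c3 LD2_c42 LD3_c54)) :=
  Lre_e IH (LK LD1_c7 LD2_c26 LD3_c32) (LK LD1_c3 LD2_c42 LD3_c54) Lrfl Lrfl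
theorem f148309 : Led Lsl_et (LP (LK LD1_c3 LD2_c40 LD3_c36)) = (LP (LK LD1_c7 LD2_c21 LD3_c25)) :=
  Lre_e IH (LK LD1_c3 LD2_c40 LD3_c36) (LK LD1_c7 LD2_c21 LD3_c25) Lrfl Lrfl
theorem f436327 : Led Lsl_af (LP (LK LD1_c7 LD2_c26 LD3_c32)) = (LP (LK LD1_c7 LD2_c21 LD3_c25)) :=
  Lgr Lrot50 (Lpr_et (f203584 IH) (Lpr_at (f436323 IH) (Lpr_et (f148309 IH) (Lpn (LP (LK LD1_c7 LD2_c21 LD3_c25))))))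
theorem f436333 : Led Lsl_ct (LP (LK LD1_c7 LD2_c26 LD3_c32)) = (LP (LK LD1_c14 LD2_c3 LD3_c56)) :=
  Lre_c IH (LK LD1_c7 LD2_c26 LD3_c32) (LK LD1_c14 LD2_c3 LD3_c56) Lrfl Lrfl
theorem f436334 : Led Lsl_ct (LP (LK LD1_c13 LD2_c54 LD3_c27)) = (LP (LK LD1_c7 LD2_c21 LD3_c25)) :=
  Lre_c IH (LK LD1_c13 LD2_c54 LD3_c27) (LK LD1_c7 LD2_c21 LD3_c25) Lrfl Lrfl
theorem f436335 : Led Lsl_at (LP (LK LD1_c14 LD2_c3 LD3_c56)) = (LP (LK LD1_c13 LD2_c54 LD3_c27)) :=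
  Lgr Lrot107 (Lpe (f436333 IH) (Lpr_af (f436327 IH) (Lpe (f436334 IH) (Lpn (LP (LK LD1_c13 LD2_c54 LD3_c27))))))
theorem f108919 : Led Lsl_at (LP (LK LD1_c13 LD2_c6 LD3_c20)) = (LP (LK LD1_c14 LD2_c5 LD3_c1)) :=
  Lgr Lrot100 (Lpr_af (K4.f108917 IH) (Lpn (LP (LK LD1_c14 LD2_c5 LD3_c1))))
theorem f436378 : Led Lsl_bf (LP (LK LD1_c13 LD2_c6 LD3_c18)) = (LP (LK LD1_c13 LD2_c54 LD3_c27)) :=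
  Lgr Lrot81 (Lpr_at (K4.f108946 IH) (Lpr_bt (f108966 IH) (Lpr_at (f108919 IH) (Lpr_bt (K7.f147807 IH) (Lpr_at (f436335 IH) (Lpn (LP (LK LD1_c13 LD2_c54 LD3_c27))))))))
theorem f436398 : Led Lsl_et (LP (LK LD1_c7 LD2_c21 LD3_c23)) = (LP (LK LD1_c13 LD2_c54 LD3_c27)) :=
  Lre_e IH (LK LD1_c7 LD2_c21 LD3_c23) (LK LD1_c13 LD2_c54 LD3_c27) Lrfl Lrfl
theorem f436399 : Led Lsl_bt (LP (LK LD1_c6 LD2_c53 LD3_c44)) = (LP (LK LD1_c7 LD2_c21 LD3_c23)) :=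
  Lgr Lrot119 (Lpe (K4.f102875 IH) (Lpr_bf (f436378 IH) (Lpe (f436398 IH) (Lpn (LP (LK LD1_c7 LD2_c21 LD3_c23))))))
theorem f439310 : Led Lsl_gf (LP (LK LD1_c7 LD2_c21 LD3_c23)) = (LP (LK LD1_c7 LD2_c21 LD3_c49)) :=
  Lgr Lrot124 (Lpe (f436399 IH) (Lpe (K6.f103628 IH) (Lpe (f155568 IH) (Lpe (K8.f116510 IH) (Lpr_bt (f155576 IH) (Lpr_gt (f116132 IH) (Lpe (K4.f116168 IH) (Lpr_gt (f5860 IH) (Lpr_cf (f439306 IH) (Lpr_bt (f439257 IH) (Lpn (LP (LK LD1_c7 LD2_c21 LD3_c49)))))))))))))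
theorem f116524 : Led Lsl_bt (LP (LK LD1_c3 LD2_c41 LD3_c11)) = (LP (LK LD1_c7 LD2_c22 LD3_c42)) :=
  Lre_b IH (LK LD1_c3 LD2_c41 LD3_c11) (LK LD1_c7 LD2_c22 LD3_c42) Lrfl Lrfl
theorem f116514 : Led Lsl_gf (LP (LK LD1_c7 LD2_c22 LD3_c43)) = (LP (LK LD1_c7 LD2_c30 LD3_c43)) :=
  Lgr Lrot181 (Lpr_ct (K4.f116513 IH) (Lpr_gt (K4.f116512 IH) (Lpr_cf (K4.f116464 IH) (Lpr_bt (K4.f64627 IH) (Lpr_gt (K3.f63138 IH) (Lpe (K4.f17800 IH) (Lpr_ct (K4.f11448 IH) (Lpe (K3.f108884 IH) (Lpr_cf (K3.f95584 IH) (Lpr_bt (K4.f93206 IH) (Lpn (LP (LK LD1_c7 LD2_c30 LD3_c43)))))))))))))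
theorem f108942 : Led Lsl_af (LP (LK LD1_c7 LD2_c1 LD3_c15)) = (LP (LK LD1_c13 LD2_c0 LD3_c53)) :=
  Lgr Lrot68 (Lpr_ct (K4.f103624 IH) (Lpr_at (K4.f108940 IH) (Lpe (K5.f108902 IH) (Lpn (LP (LK LD1_c13 LD2_c0 LD3_c53))))))
theorem f116526 : Led Lsl_gt (LP (LK LD1_c7 LD2_c22 LD3_c43)) = (LP (LK LD1_c7 LD2_c1 LD3_c15)) :=
  Lgr Lrot46 (Lpr_gf (f116514 IH) (Lpe (K4.f95623 IH) (Lpe (f108942 IH) (Lpn (LP (LK LD1_c7 LD2_c1 LD3_c15))))))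
theorem f439266 : Led Lsl_gf (LP (LK LD1_c7 LD2_c21 LD3_c49)) = (LP (LK LD1_c7 LD2_c21 LD3_c23)) :=
  Lgr Lrot181 (Lpr_ct (f439255 IH) (Lpe (f439251 IH) (Lpe (f147784 IH) (Lpr_bt (f147789 IH) (Lpr_gt (K7.f151481 IH) (Lpe (f116524 IH) (Lpr_ct (K4.f116520 IH) (Lpr_gt (f116526 IH) (Lpr_cf (K6.f103628 IH) (Lpr_bt (f436399 IH) (Lpn (LP (LK LD1_c7 LD2_c21 LD3_c23)))))))))))))
theorem f439294 : Led Lsl_ft (LP (LK LD1_c7 LD2_c21 LD3_c49)) = (LP (LK LD1_c7 LD2_c27 LD3_c42)) :=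
  Lgr Lrot75 (Lpe (f439257 IH) (Lpr_ff (f439290 IH) (Lpe (f148297 IH) (Lpn (LP (LK LD1_c7 LD2_c27 LD3_c42))))))
theorem f439312 : Led Lsl_af (LP (LK LD1_c7 LD2_c21 LD3_c49)) = (LP (LK LD1_c7 LD2_c27 LD3_c42)) :=
  Lgr Lrot31 (Lpr_gf (f439266 IH) (Lpr_gf (f439310 IH) (Lpr_ft (f439294 IH) (Lpn (LP (LK LD1_c7 LD2_c27 LD3_c42))))))
theorem f439317 : Led Lsl_et (LP (LK LD1_c7 LD2_c21 LD3_c49)) = (LP (LK LD1_c13 LD2_c55 LD3_c18)) :=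
  Lre_e IH (LK LD1_c7 LD2_c21 LD3_c49) (LK LD1_c13 LD2_c55 LD3_c18) Lrfl Lrfl
theorem f439253 : Led Lsl_et (LP (LK LD1_c14 LD2_c5 LD3_c9)) = (LP (LK LD1_c7 LD2_c27 LD3_c42)) :=
  Lre_e IH (LK LD1_c14 LD2_c5 LD3_c9) (LK LD1_c7 LD2_c27 LD3_c42) Lrfl Lrfl
theorem f439318 : Led Lsl_at (LP (LK LD1_c13 LD2_c55 LD3_c18)) = (LP (LK LD1_c14 LD2_c5 LD3_c9)) :=
  Lgr Lrot80 (Lpe (f439317 IH) (Lpr_af (f439312 IH) (Lpe (f439253 IH) (Lpn (LP (LK LD1_c14 LD2_c5 LD3_c9))))))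
theorem f439324 : Led Lsl_dt (LP (LK LD1_c23 LD2_c25 LD3_c60)) = (LP (LK LD1_c13 LD2_c55 LD3_c18)) :=
  Lre_d IH (LK LD1_c23 LD2_c25 LD3_c60) (LK LD1_c13 LD2_c55 LD3_c18) Lrfl Lrfl
theorem f439254 : Led Lsl_dt (LP (LK LD1_c14 LD2_c5 LD3_c9)) = (LP (LK LD1_c23 LD2_c38 LD3_c21)) :=
  Lre_d IH (LK LD1_c14 LD2_c5 LD3_c9) (LK LD1_c23 LD2_c38 LD3_c21) Lrfl Lrfl
theorem f439325 : Led Lsl_af (LP (LK LD1_c23 LD2_c25 LD3_c60)) = (LP (LK LD1_c23 LD2_c38 LD3_c21)) :=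
  Lgr Lrot117 (Lpr_dt (f439324 IH) (Lpr_at (f439318 IH) (Lpr_dt (f439254 IH) (Lpn (LP (LK LD1_c23 LD2_c38 LD3_c21))))))
theorem f439288 : Led Lsl_bt (LP (LK LD1_c23 LD2_c25 LD3_c60)) = (LP (LK LD1_c13 LD2_c55 LD3_c19)) :=
  Lre_b IH (LK LD1_c23 LD2_c25 LD3_c60) (LK LD1_c13 LD2_c55 LD3_c19) Lrfl Lrfl
theorem f439276 : Led Lsl_et (LP (LK LD1_c3 LD2_c40 LD3_c48)) = (LP (LK LD1_c7 LD2_c21 LD3_c50)) :=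
  Lre_e IH (LK LD1_c3 LD2_c40 LD3_c48) (LK LD1_c7 LD2_c21 LD3_c50) Lrfl Lrfl
theorem f116214 : Led Lsl_et (LP (LK LD1_c7 LD2_c27 LD3_c41)) = (LP (LK LD1_c3 LD2_c43 LD3_c33)) :=
  Lre_e IH (LK LD1_c7 LD2_c27 LD3_c41) (LK LD1_c3 LD2_c43 LD3_c33) Lrfl Lrfl
theorem f439277 : Led Lsl_at (LP (LK LD1_c7 LD2_c21 LD3_c50)) = (LP (LK LD1_c7 LD2_c27 LD3_c41)) :=
  Lgr Lrot80 (Lpe (f439276 IH) (Lpr_af (f439270 IH) (Lpe (f116214 IH) (Lpn (LP (LK LD1_c7 LD2_c27 LD3_c41))))))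
theorem f439282 : Led Lsl_dt (LP (LK LD1_c13 LD2_c55 LD3_c19)) = (LP (LK LD1_c7 LD2_c21 LD3_c50)) :=
  Lre_d IH (LK LD1_c13 LD2_c55 LD3_c19) (LK LD1_c7 LD2_c21 LD3_c50) Lrfl Lrfl
theorem f116212 : Led Lsl_dt (LP (LK LD1_c7 LD2_c27 LD3_c41)) = (LP (LK LD1_c14 LD2_c5 LD3_c8)) :=
  Lre_d IH (LK LD1_c7 LD2_c27 LD3_c41) (LK LD1_c14 LD2_c5 LD3_c8) Lrfl Lrfl
theorem f439283 : Led Lsl_af (LP (LK LD1_c13 LD2_c55 LD3_c19)) = (LP (LK LD1_c14 LD2_c5 LD3_c8)) :=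
  Lgr Lrot117 (Lpr_dt (f439282 IH) (Lpr_at (f439277 IH) (Lpr_dt (f116212 IH) (Lpn (LP (LK LD1_c14 LD2_c5 LD3_c8))))))
theorem f439285 : Led Lsl_at (LP (LK LD1_c13 LD2_c55 LD3_c19)) = (LP (LK LD1_c14 LD2_c5 LD3_c8)) :=
  Lgr Lrot100 (Lpr_af (f439283 IH) (Lpn (LP (LK LD1_c14 LD2_c5 LD3_c8))))
theorem f116199 : Led Lsl_et (LP (LK LD1_c7 LD2_c21 LD3_c48)) = (LP (LK LD1_c3 LD2_c40 LD3_c47)) :=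
  Lre_e IH (LK LD1_c7 LD2_c21 LD3_c48) (LK LD1_c3 LD2_c40 LD3_c47) Lrfl Lrfl
theorem f116200 : Led Lsl_et (LP (LK LD1_c3 LD2_c43 LD3_c33)) = (LP (LK LD1_c7 LD2_c27 LD3_c41)) :=
  Lre_e IH (LK LD1_c3 LD2_c43 LD3_c33) (LK LD1_c7 LD2_c27 LD3_c41) Lrfl Lrfl
theorem f116201 : Led Lsl_bf (LP (LK LD1_c7 LD2_c21 LD3_c48)) = (LP (LK LD1_c7 LD2_c27 LD3_c41)) :=
  Lgr Lrot96 (Lpr_et (f116199 IH) (Lpr_bt (f116195 IH) (Lpr_et (f116200 IH) (Lpn (LP (LK LD1_c7 LD2_c27 LD3_c41))))))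
theorem f116205 : Led Lsl_dt (LP (LK LD1_c7 LD2_c21 LD3_c48)) = (LP (LK LD1_c13 LD2_c55 LD3_c17)) :=
  Lre_d IH (LK LD1_c7 LD2_c21 LD3_c48) (LK LD1_c13 LD2_c55 LD3_c17) Lrfl Lrfl
theorem f116206 : Led Lsl_dt (LP (LK LD1_c14 LD2_c5 LD3_c8)) = (LP (LK LD1_c7 LD2_c27 LD3_c41)) :=
  Lre_d IH (LK LD1_c14 LD2_c5 LD3_c8) (LK LD1_c7 LD2_c27 LD3_c41) Lrfl Lrfl
theorem f116207 : Led Lsl_bt (LP (LK LD1_c13 LD2_c55 LD3_c17)) = (LP (LK LD1_c14 LD2_c5 LD3_c8)) :=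
  Lgr Lrot95 (Lpe (f116205 IH) (Lpr_bf (f116201 IH) (Lpe (f116206 IH) (Lpn (LP (LK LD1_c14 LD2_c5 LD3_c8))))))
theorem f116209 : Led Lsl_bf (LP (LK LD1_c13 LD2_c55 LD3_c17)) = (LP (LK LD1_c14 LD2_c5 LD3_c8)) :=
  Lgr Lrot24 (Lpr_bt (f116207 IH) (Lpn (LP (LK LD1_c14 LD2_c5 LD3_c8))))
theorem f439329 : Led Lsl_bt (LP (LK LD1_c14 LD2_c5 LD3_c10)) = (LP (LK LD1_c23 LD2_c38 LD3_c21)) :=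
  Lre_b IH (LK LD1_c14 LD2_c5 LD3_c10) (LK LD1_c23 LD2_c38 LD3_c21) Lrfl Lrfl
theorem f439330 : Led Lsl_at (LP (LK LD1_c13 LD2_c55 LD3_c17)) = (LP (LK LD1_c14 LD2_c5 LD3_c10)) :=
  Lgr Lrot67 (Lpr_bf (f116209 IH) (Lpe (f439285 IH) (Lpe (f439288 IH) (Lpr_af (f439325 IH) (Lpe (f439329 IH) (Lpn (LP (LK LD1_c14 LD2_c5 LD3_c10))))))))
theorem f439334 : Led Lsl_af (LP (LK LD1_c13 LD2_c55 LD3_c17)) = (LP (LK LD1_c14 LD2_c5 LD3_c10)) :=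
  Lgr Lrot0 (Lpr_at (f439330 IH) (Lpn (LP (LK LD1_c14 LD2_c5 LD3_c10))))
theorem f116211 : Led Lsl_dt (LP (LK LD1_c13 LD2_c55 LD3_c17)) = (LP (LK LD1_c7 LD2_c21 LD3_c48)) :=
  Lre_d IH (LK LD1_c13 LD2_c55 LD3_c17) (LK LD1_c7 LD2_c21 LD3_c48) Lrfl Lrfl
theorem f439247 : Led Lsl_dt (LP (LK LD1_c7 LD2_c27 LD3_c43)) = (LP (LK LD1_c14 LD2_c5 LD3_c10)) :=
  Lre_d IH (LK LD1_c7 LD2_c27 LD3_c43) (LK LD1_c14 LD2_c5 LD3_c10) Lrfl Lrfl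
theorem f439337 : Led Lsl_at (LP (LK LD1_c7 LD2_c21 LD3_c48)) = (LP (LK LD1_c7 LD2_c27 LD3_c43)) :=
  Lgr Lrot51 (Lpe (f116211 IH) (Lpr_af (f439334 IH) (Lpe (f439247 IH) (Lpn (LP (LK LD1_c7 LD2_c27 LD3_c43))))))
theorem f116218 : Led Lsl_et (LP (LK LD1_c3 LD2_c35 LD3_c42)) = (LP (LK LD1_c7 LD2_c12 LD3_c1)) :=
  Lre_e IH (LK LD1_c3 LD2_c35 LD3_c42) (LK LD1_c7 LD2_c12 LD3_c1) Lrfl Lrfl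
theorem f116219 : Led Lsl_ct (LP (LK LD1_c7 LD2_c12 LD3_c1)) = (LP (LK LD1_c7 LD2_c21 LD3_c48)) :=
  Lgr Lrot15 (Lpe (f116218 IH) (Lpr_cf (f116193 IH) (Lpe (f116199 IH) (Lpn (LP (LK LD1_c7 LD2_c21 LD3_c48))))))
theorem f108285 : Led Lsl_et (LP (LK LD1_c7 LD2_c5 LD3_c36)) = (LP (LK LD1_c3 LD2_c32 LD3_c17)) :=
  Lre_e IH (LK LD1_c7 LD2_c5 LD3_c36) (LK LD1_c3 LD2_c32 LD3_c17) Lrfl Lrfl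
theorem f439227 : Led Lsl_et (LP (LK LD1_c3 LD2_c43 LD3_c34)) = (LP (LK LD1_c7 LD2_c27 LD3_c43)) :=
  Lre_e IH (LK LD1_c3 LD2_c43 LD3_c34) (LK LD1_c7 LD2_c27 LD3_c43) Lrfl Lrfl
theorem f439228 : Led Lsl_cf (LP (LK LD1_c7 LD2_c5 LD3_c36)) = (LP (LK LD1_c7 LD2_c27 LD3_c43)) :=
  Lgr Lrot39 (Lpr_et (f108285 IH) (Lpr_ct (f439222 IH) (Lpr_et (f439227 IH) (Lpn (LP (LK LD1_c7 LD2_c27 LD3_c43))))))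
theorem f439339 : Led Lsl_af (LP (LK LD1_c7 LD2_c12 LD3_c1)) = (LP (LK LD1_c7 LD2_c5 LD3_c36)) :=
  Lgr Lrot68 (Lpr_ct (f116219 IH) (Lpr_at (f439337 IH) (Lpe (f439228 IH) (Lpn (LP (LK LD1_c7 LD2_c5 LD3_c36))))))
theorem f116233 : Led Lsl_et (LP (LK LD1_c7 LD2_c12 LD3_c1)) = (LP (LK LD1_c3 LD2_c35 LD3_c42)) :=
  Lre_e IH (LK LD1_c7 LD2_c12 LD3_c1) (LK LD1_c3 LD2_c35 LD3_c42) Lrfl Lrfl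
theorem f439241 : Led Lsl_et (LP (LK LD1_c3 LD2_c32 LD3_c17)) = (LP (LK LD1_c7 LD2_c5 LD3_c36)) :=
  Lre_e IH (LK LD1_c3 LD2_c32 LD3_c17) (LK LD1_c7 LD2_c5 LD3_c36) Lrfl Lrfl
theorem f439345 : Led Lsl_at (LP (LK LD1_c3 LD2_c35 LD3_c42)) = (LP (LK LD1_c3 LD2_c32 LD3_c17)) :=
  Lgr Lrot80 (Lpe (f116233 IH) (Lpr_af (f439339 IH) (Lpe (f439241 IH) (Lpn (LP (LK LD1_c3 LD2_c32 LD3_c17))))))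
theorem f94426 : Led Lsl_gt (LP (LK LD1_c3 LD2_c32 LD3_c18)) = (LP (LK LD1_c1 LD2_c42 LD3_c51)) :=
  Lre_g IH (LK LD1_c3 LD2_c32 LD3_c18) (LK LD1_c1 LD2_c42 LD3_c51) Lrfl Lrfl
theorem f439349 : Led Lsl_ff (LP (LK LD1_c3 LD2_c35 LD3_c42)) = (LP (LK LD1_c3 LD2_c32 LD3_c18)) :=
  Lgr Lrot52 (Lpr_at (f439345 IH) (Lpe (f108282 IH) (Lpe (f94426 IH) (Lpn (LP (LK LD1_c3 LD2_c32 LD3_c18))))))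
theorem f439358 : Led Lsl_ft (LP (LK LD1_c3 LD2_c35 LD3_c42)) = (LP (LK LD1_c3 LD2_c32 LD3_c18)) :=
  Lgr Lrot48 (Lpr_ff (f439349 IH) (Lpn (LP (LK LD1_c3 LD2_c32 LD3_c18))))
theorem f439365 : Led Lsl_cf (LP (LK LD1_c3 LD2_c43 LD3_c33)) = (LP (LK LD1_c3 LD2_c32 LD3_c18)) :=
  Lgr Lrot108 (Lpe (f159672 IH) (Lpe (f116193 IH) (Lpr_ft (f439358 IH) (Lpn (LP (LK LD1_c3 LD2_c32 LD3_c18))))))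
theorem f5403 : Led Lsl_et (LP (LK LD1_c0 LD2_c49 LD3_c53)) = (LP (LK LD1_c1 LD2_c46 LD3_c16)) :=
  Lre_e IH (LK LD1_c0 LD2_c49 LD3_c53) (LK LD1_c1 LD2_c46 LD3_c16) Lrfl Lrfl
theorem f5178 : Led Lsl_et (LP (LK LD1_c1 LD2_c46 LD3_c42)) = (LP (LK LD1_c0 LD2_c50 LD3_c5)) :=
  Lre_e IH (LK LD1_c1 LD2_c46 LD3_c42) (LK LD1_c0 LD2_c50 LD3_c5) Lrfl Lrfl
theorem f5404 : Led Lsl_bt (LP (LK LD1_c1 LD2_c46 LD3_c16)) = (LP (LK LD1_c1 LD2_c46 LD3_c42)) :=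
  Lgr Lrot119 (Lpe (f5403 IH) (Lpr_bf (K8.f5390 IH) (Lpe (f5178 IH) (Lpn (LP (LK LD1_c1 LD2_c46 LD3_c42))))))
theorem f5219 : Led Lsl_ft (LP (LK LD1_c3 LD2_c38 LD3_c37)) = (LP (LK LD1_c1 LD2_c46 LD3_c16)) :=
  Lre_f IH (LK LD1_c3 LD2_c38 LD3_c37) (LK LD1_c1 LD2_c46 LD3_c16) Lrfl Lrfl
theorem f5417 : Led Lsl_bf (LP (LK LD1_c3 LD2_c38 LD3_c37)) = (LP (LK LD1_c3 LD2_c39 LD3_c34)) :=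
  Lgr Lrot61 (Lpr_ft (f5219 IH) (Lpr_bt (f5404 IH) (Lpr_ft (K0.f5163 IH) (Lpn (LP (LK LD1_c3 LD2_c39 LD3_c34))))))
theorem f5212 : Led Lsl_dt (LP (LK LD1_c3 LD2_c38 LD3_c37)) = (LP (LK LD1_c7 LD2_c17 LD3_c35)) :=
  Lre_d IH (LK LD1_c3 LD2_c38 LD3_c37) (LK LD1_c7 LD2_c17 LD3_c35) Lrfl Lrfl
theorem f5424 : Led Lsl_bt (LP (LK LD1_c7 LD2_c17 LD3_c35)) = (LP (LK LD1_c7 LD2_c19 LD3_c21)) :=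
  Lgr Lrot95 (Lpe (f5212 IH) (Lpr_bf (f5417 IH) (Lpe (K0.f5128 IH) (Lpn (LP (LK LD1_c7 LD2_c19 LD3_c21))))))
theorem f5181 : Led Lsl_ct (LP (LK LD1_c13 LD2_c47 LD3_c47)) = (LP (LK LD1_c7 LD2_c17 LD3_c35)) :=
  Lre_c IH (LK LD1_c13 LD2_c47 LD3_c47) (LK LD1_c7 LD2_c17 LD3_c35) Lrfl Lrfl
theorem f5429 : Led Lsl_bt (LP (LK LD1_c23 LD2_c15 LD3_c31)) = (LP (LK LD1_c13 LD2_c47 LD3_c47)) :=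
  Lre_b IH (LK LD1_c23 LD2_c15 LD3_c31) (LK LD1_c13 LD2_c47 LD3_c47) Lrfl Lrfl
theorem f5131 : Led Lsl_ct (LP (LK LD1_c7 LD2_c19 LD3_c21)) = (LP (LK LD1_c13 LD2_c50 LD3_c59)) :=
  Lre_c IH (LK LD1_c7 LD2_c19 LD3_c21) (LK LD1_c13 LD2_c50 LD3_c59) Lrfl Lrfl
theorem f5142 : Led Lsl_bt (LP (LK LD1_c13 LD2_c50 LD3_c59)) = (LP (LK LD1_c23 LD2_c20 LD3_c14)) :=
  Lre_b IH (LK LD1_c13 LD2_c50 LD3_c59) (LK LD1_c23 LD2_c20 LD3_c14) Lrfl Lrfl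
theorem f5430 : Led Lsl_cf (LP (LK LD1_c23 LD2_c15 LD3_c31)) = (LP (LK LD1_c23 LD2_c20 LD3_c14)) :=
  Lgr Lrot97 (Lpr_bt (f5429 IH) (Lpr_ct (f5181 IH) (Lpr_bt (f5424 IH) (Lpr_ct (f5131 IH) (Lpr_bt (f5142 IH) (Lpn (LP (LK LD1_c23 LD2_c20 LD3_c14))))))))
theorem f5437 : Led Lsl_ft (LP (LK LD1_c23 LD2_c15 LD3_c31)) = (LP (LK LD1_c13 LD2_c47 LD3_c45)) :=
  Lre_f IH (LK LD1_c23 LD2_c15 LD3_c31) (LK LD1_c13 LD2_c47 LD3_c45) Lrfl Lrfl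
theorem f5438 : Led Lsl_ft (LP (LK LD1_c13 LD2_c50 LD3_c57)) = (LP (LK LD1_c23 LD2_c20 LD3_c14)) :=
  Lre_f IH (LK LD1_c13 LD2_c50 LD3_c57) (LK LD1_c23 LD2_c20 LD3_c14) Lrfl Lrfl
theorem f5439 : Led Lsl_ct (LP (LK LD1_c13 LD2_c47 LD3_c45)) = (LP (LK LD1_c13 LD2_c50 LD3_c57)) :=
  Lgr Lrot40 (Lpe (f5437 IH) (Lpr_cf (f5430 IH) (Lpe (f5438 IH) (Lpn (LP (LK LD1_c13 LD2_c50 LD3_c57))))))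
theorem f5450 : Led Lsl_et (LP (LK LD1_c7 LD2_c17 LD3_c61)) = (LP (LK LD1_c13 LD2_c47 LD3_c45)) :=
  Lre_e IH (LK LD1_c7 LD2_c17 LD3_c61) (LK LD1_c13 LD2_c47 LD3_c45) Lrfl Lrfl
theorem f5451 : Led Lsl_et (LP (LK LD1_c13 LD2_c50 LD3_c57)) = (LP (LK LD1_c7 LD2_c19 LD3_c41)) :=
  Lre_e IH (LK LD1_c13 LD2_c50 LD3_c57) (LK LD1_c7 LD2_c19 LD3_c41) Lrfl Lrfl
theorem f5452 : Led Lsl_cf (LP (LK LD1_c7 LD2_c17 LD3_c61)) = (LP (LK LD1_c7 LD2_c19 LD3_c41)) :=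
  Lgr Lrot39 (Lpr_et (f5450 IH) (Lpr_ct (f5439 IH) (Lpr_et (f5451 IH) (Lpn (LP (LK LD1_c7 LD2_c19 LD3_c41))))))
theorem f5468 : Led Lsl_ct (LP (LK LD1_c7 LD2_c17 LD3_c61)) = (LP (LK LD1_c7 LD2_c19 LD3_c41)) :=
  Lgr Lrot59 (Lpr_cf (f5452 IH) (Lpn (LP (LK LD1_c7 LD2_c19 LD3_c41))))
theorem f5489 : Led Lsl_bt (LP (LK LD1_c3 LD2_c38 LD3_c46)) = (LP (LK LD1_c7 LD2_c17 LD3_c61)) :=
  Lre_b IH (LK LD1_c3 LD2_c38 LD3_c46) (LK LD1_c7 LD2_c17 LD3_c61) Lrfl Lrfl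
theorem f4125 : Led Lsl_ct (LP (LK LD1_c1 LD2_c46 LD3_c19)) = (LP (LK LD1_c3 LD2_c38 LD3_c46)) :=
  Lre_c IH (LK LD1_c1 LD2_c46 LD3_c19) (LK LD1_c3 LD2_c38 LD3_c46) Lrfl Lrfl
theorem f5477 : Led Lsl_bt (LP (LK LD1_c7 LD2_c19 LD3_c41)) = (LP (LK LD1_c3 LD2_c39 LD3_c43)) :=
  Lre_b IH (LK LD1_c7 LD2_c19 LD3_c41) (LK LD1_c3 LD2_c39 LD3_c43) Lrfl Lrfl
theorem f5490 : Led Lsl_ct (LP (LK LD1_c3 LD2_c39 LD3_c43)) = (LP (LK LD1_c1 LD2_c46 LD3_c45)) :=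
  Lre_c IH (LK LD1_c3 LD2_c39 LD3_c43) (LK LD1_c1 LD2_c46 LD3_c45) Lrfl Lrfl
theorem f5491 : Led Lsl_bf (LP (LK LD1_c1 LD2_c46 LD3_c19)) = (LP (LK LD1_c1 LD2_c46 LD3_c45)) :=
  Lgr Lrot90 (Lpr_ct (f4125 IH) (Lpr_bt (f5489 IH) (Lpr_ct (f5468 IH) (Lpr_bt (f5477 IH) (Lpr_ct (f5490 IH) (Lpn (LP (LK LD1_c1 LD2_c46 LD3_c45))))))))
theorem f5503 : Led Lsl_et (LP (LK LD1_c1 LD2_c46 LD3_c19)) = (LP (LK LD1_c3 LD2_c38 LD3_c36)) :=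
  Lre_e IH (LK LD1_c1 LD2_c46 LD3_c19) (LK LD1_c3 LD2_c38 LD3_c36) Lrfl Lrfl
theorem f5504 : Led Lsl_et (LP (LK LD1_c3 LD2_c39 LD3_c33)) = (LP (LK LD1_c1 LD2_c46 LD3_c45)) :=
  Lre_e IH (LK LD1_c3 LD2_c39 LD3_c33) (LK LD1_c1 LD2_c46 LD3_c45) Lrfl Lrfl
theorem f5505 : Led Lsl_bt (LP (LK LD1_c3 LD2_c38 LD3_c36)) = (LP (LK LD1_c3 LD2_c39 LD3_c33)) :=
  Lgr Lrot119 (Lpe (f5503 IH) (Lpr_bf (f5491 IH) (Lpe (f5504 IH) (Lpn (LP (LK LD1_c3 LD2_c39 LD3_c33))))))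
theorem f5512 : Led Lsl_at (LP (LK LD1_c7 LD2_c16 LD3_c52)) = (LP (LK LD1_c3 LD2_c38 LD3_c36)) :=
  Lre_a IH (LK LD1_c7 LD2_c16 LD3_c52) (LK LD1_c3 LD2_c38 LD3_c36) Lrfl Lrfl
theorem f5513 : Led Lsl_bt (LP (LK LD1_c13 LD2_c46 LD3_c28)) = (LP (LK LD1_c7 LD2_c16 LD3_c52)) :=
  Lre_b IH (LK LD1_c13 LD2_c46 LD3_c28) (LK LD1_c7 LD2_c16 LD3_c52) Lrfl Lrfl
theorem f5095 : Led Lsl_bt (LP (LK LD1_c7 LD2_c17 LD3_c26)) = (LP (LK LD1_c13 LD2_c47 LD3_c29)) :=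
  Lre_b IH (LK LD1_c7 LD2_c17 LD3_c26) (LK LD1_c13 LD2_c47 LD3_c29) Lrfl Lrfl
theorem f5514 : Led Lsl_af (LP (LK LD1_c13 LD2_c46 LD3_c28)) = (LP (LK LD1_c13 LD2_c47 LD3_c29)) :=
  Lgr Lrot36 (Lpr_bt (f5513 IH) (Lpr_at (f5512 IH) (Lpr_bt (f5505 IH) (Lpe (K0.f5112 IH) (Lpr_bt (f5095 IH) (Lpn (LP (LK LD1_c13 LD2_c47 LD3_c29))))))))
theorem f5528 : Led Lsl_dt (LP (LK LD1_c13 LD2_c46 LD3_c28)) = (LP (LK LD1_c7 LD2_c16 LD3_c47)) :=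
  Lre_d IH (LK LD1_c13 LD2_c46 LD3_c28) (LK LD1_c7 LD2_c16 LD3_c47) Lrfl Lrfl
theorem f5101 : Led Lsl_dt (LP (LK LD1_c7 LD2_c17 LD3_c24)) = (LP (LK LD1_c13 LD2_c47 LD3_c29)) :=
  Lre_d IH (LK LD1_c7 LD2_c17 LD3_c24) (LK LD1_c13 LD2_c47 LD3_c29) Lrfl Lrfl
theorem f5529 : Led Lsl_at (LP (LK LD1_c7 LD2_c16 LD3_c47)) = (LP (LK LD1_c7 LD2_c17 LD3_c24)) :=
  Lgr Lrot51 (Lpe (f5528 IH) (Lpr_af (f5514 IH) (Lpe (f5101 IH) (Lpn (LP (LK LD1_c7 LD2_c17 LD3_c24))))))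
theorem f5534 : Led Lsl_et (LP (LK LD1_c3 LD2_c38 LD3_c13)) = (LP (LK LD1_c7 LD2_c16 LD3_c47)) :=
  Lre_e IH (LK LD1_c3 LD2_c38 LD3_c13) (LK LD1_c7 LD2_c16 LD3_c47) Lrfl Lrfl
theorem f5535 : Led Lsl_af (LP (LK LD1_c3 LD2_c38 LD3_c13)) = (LP (LK LD1_c3 LD2_c38 LD3_c32)) :=
  Lgr Lrot50 (Lpr_et (f5534 IH) (Lpr_at (f5529 IH) (Lpr_et (K0.f5071 IH) (Lpn (LP (LK LD1_c3 LD2_c38 LD3_c32))))))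
theorem f5056 : Led Lsl_dt (LP (LK LD1_c3 LD2_c38 LD3_c13)) = (LP (LK LD1_c1 LD2_c46 LD3_c5)) :=
  Lre_d IH (LK LD1_c3 LD2_c38 LD3_c13) (LK LD1_c1 LD2_c46 LD3_c5) Lrfl Lrfl
theorem f4983 : Led Lsl_df (LP (LK LD1_c3 LD2_c38 LD3_c32)) = (LP (LK LD1_c1 LD2_c46 LD3_c36)) :=
  Lgr Lrot12 (Lpr_bt (K0.f4981 IH) (Lpr_dt (K0.f4975 IH) (Lpr_bt (K3.f4982 IH) (Lpn (LP (LK LD1_c1 LD2_c46 LD3_c36))))))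
theorem f5539 : Led Lsl_at (LP (LK LD1_c1 LD2_c46 LD3_c5)) = (LP (LK LD1_c1 LD2_c46 LD3_c36)) :=
  Lgr Lrot51 (Lpe (f5056 IH) (Lpr_af (f5535 IH) (Lpr_df (f4983 IH) (Lpn (LP (LK LD1_c1 LD2_c46 LD3_c36))))))
theorem f5541 : Led Lsl_cf (LP (LK LD1_c1 LD2_c46 LD3_c36)) = (LP (LK LD1_c1 LD2_c46 LD3_c36)) :=
  Lgr Lrot1 (Lpe (K3.f5388 IH) (Lpr_ct (K3.f5263 IH) (Lpr_at (f5539 IH) (Lpn (LP (LK LD1_c1 LD2_c46 LD3_c36))))))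
theorem f5070 : Led Lsl_gt (LP (LK LD1_c1 LD2_c46 LD3_c36)) = (LP (LK LD1_c3 LD2_c39 LD3_c17)) :=
  Lre_g IH (LK LD1_c1 LD2_c46 LD3_c36) (LK LD1_c3 LD2_c39 LD3_c17) Lrfl Lrfl
theorem f5545 : Led Lsl_gt (LP (LK LD1_c3 LD2_c39 LD3_c17)) = (LP (LK LD1_c1 LD2_c46 LD3_c36)) :=
  Lgr Lrot46 (Lpe (f5070 IH) (Lpe (K0.f5060 IH) (Lpr_at (f5539 IH) (Lpn (LP (LK LD1_c1 LD2_c46 LD3_c36))))))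
theorem f5552 : Led Lsl_ct (LP (LK LD1_c7 LD2_c18 LD3_c48)) = (LP (LK LD1_c3 LD2_c39 LD3_c17)) :=
  Lre_c IH (LK LD1_c7 LD2_c18 LD3_c48) (LK LD1_c3 LD2_c39 LD3_c17) Lrfl Lrfl
theorem f439362 : Led Lsl_bt (LP (LK LD1_c3 LD2_c32 LD3_c18)) = (LP (LK LD1_c7 LD2_c5 LD3_c37)) :=
  Lre_b IH (LK LD1_c3 LD2_c32 LD3_c18) (LK LD1_c7 LD2_c5 LD3_c37) Lrfl Lrfl
theorem f439372 : Led Lsl_gf (LP (LK LD1_c7 LD2_c18 LD3_c48)) = (LP (LK LD1_c7 LD2_c5 LD3_c37)) :=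
  Lgr Lrot181 (Lpr_ct (f5552 IH) (Lpr_gt (f5545 IH) (Lpr_cf (f5541 IH) (Lpr_bt (K0.f5046 IH) (Lpe (K3.f5051 IH) (Lpe (f5053 IH) (Lpr_ct (f131701 IH) (Lpr_gt (f12903 IH) (Lpr_cf (f439365 IH) (Lpr_bt (f439362 IH) (Lpn (LP (LK LD1_c7 LD2_c5 LD3_c37)))))))))))))
theorem f5076 : Led Lsl_ct (LP (LK LD1_c3 LD2_c39 LD3_c17)) = (LP (LK LD1_c7 LD2_c18 LD3_c48)) :=
  Lre_c IH (LK LD1_c3 LD2_c39 LD3_c17) (LK LD1_c7 LD2_c18 LD3_c48) Lrfl Lrfl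
theorem f109559 : Led Lsl_bt (LP (LK LD1_c3 LD2_c39 LD3_c17)) = (LP (LK LD1_c7 LD2_c18 LD3_c47)) :=
  Lre_b IH (LK LD1_c3 LD2_c39 LD3_c17) (LK LD1_c7 LD2_c18 LD3_c47) Lrfl Lrfl
theorem f18024 : Led Lsl_gt (LP (LK LD1_c3 LD2_c38 LD3_c25)) = (LP (LK LD1_c1 LD2_c46 LD3_c11)) :=
  Lre_g IH (LK LD1_c3 LD2_c38 LD3_c25) (LK LD1_c1 LD2_c46 LD3_c11) Lrfl Lrfl
theorem f18025 : Led Lsl_bt (LP (LK LD1_c7 LD2_c17 LD3_c8)) = (LP (LK LD1_c3 LD2_c38 LD3_c25)) :=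
  Lre_b IH (LK LD1_c7 LD2_c17 LD3_c8) (LK LD1_c3 LD2_c38 LD3_c25) Lrfl Lrfl
theorem f97469 : Led Lsl_ct (LP (LK LD1_c7 LD2_c17 LD3_c8)) = (LP (LK LD1_c3 LD2_c45 LD3_c38)) :=
  Lgr Lrot10 (Lpr_bt (f18025 IH) (Lpr_gt (f18024 IH) (Lpe (K3.f97467 IH) (Lpr_gt (K3.f95330 IH) (Lpe (K3.f64640 IH) (Lpr_bt (K3.f97465 IH) (Lpr_gt (K3.f97456 IH) (Lpe (K4.f92349 IH) (Lpe (K4.f92430 IH) (Lpr_gt (K7.f92357 IH) (Lpn (LP (LK LD1_c3 LD2_c45 LD3_c38)))))))))))))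
theorem f97477 : Led Lsl_cf (LP (LK LD1_c7 LD2_c17 LD3_c8)) = (LP (LK LD1_c3 LD2_c45 LD3_c38)) :=
  Lgr Lrot11 (Lpr_ct (f97469 IH) (Lpn (LP (LK LD1_c3 LD2_c45 LD3_c38))))
theorem f120490 : Led Lsl_cf (LP (LK LD1_c3 LD2_c15 LD3_c3)) = (LP (LK LD1_c3 LD2_c14 LD3_c43)) :=
  Lgr Lrot11 (Lpr_ct (K4.f120483 IH) (Lpn (LP (LK LD1_c3 LD2_c14 LD3_c43))))
theorem f120456 : Led Lsl_bt (LP (LK LD1_c3 LD2_c14 LD3_c43)) = (LP (LK LD1_c6 LD2_c32 LD3_c55)) :=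
  Lre_b IH (LK LD1_c3 LD2_c14 LD3_c43) (LK LD1_c6 LD2_c32 LD3_c55) Lrfl Lrfl
theorem f94906 : Led Lsl_gt (LP (LK LD1_c7 LD2_c1 LD3_c49)) = (LP (LK LD1_c3 LD2_c30 LD3_c3)) :=
  Lre_g IH (LK LD1_c7 LD2_c1 LD3_c49) (LK LD1_c3 LD2_c30 LD3_c3) Lrfl Lrfl
theorem f120462 : Led Lsl_gf (LP (LK LD1_c7 LD2_c1 LD3_c49)) = (LP (LK LD1_c6 LD2_c32 LD3_c55)) :=
  Lgr Lrot47 (Lpr_gt (f94906 IH) (Lpe (K4.f94914 IH) (Lpr_ff (K4.f120448 IH) (Lpn (LP (LK LD1_c6 LD2_c32 LD3_c55))))))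
theorem f116633 : Led Lsl_ft (LP (LK LD1_c3 LD2_c24 LD3_c41)) = (LP (LK LD1_c3 LD2_c30 LD3_c3)) :=
  Lgr Lrot4 (Lpr_cf (K7.f116624 IH) (Lpe (K3.f109086 IH) (Lpe (K4.f109479 IH) (Lpn (LP (LK LD1_c3 LD2_c30 LD3_c3))))))
theorem f116635 : Led Lsl_ff (LP (LK LD1_c3 LD2_c24 LD3_c41)) = (LP (LK LD1_c3 LD2_c30 LD3_c3)) :=
  Lgr Lrot3 (Lpr_ft (f116633 IH) (Lpn (LP (LK LD1_c3 LD2_c30 LD3_c3))))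
theorem f116555 : Led Lsl_ct (LP (LK LD1_c3 LD2_c24 LD3_c41)) = (LP (LK LD1_c3 LD2_c32 LD3_c14)) :=
  Lgr Lrot83 (Lpe (K7.f95398 IH) (Lpr_cf (K4.f107346 IH) (Lpr_bf (K4.f116541 IH) (Lpe (K7.f109102 IH) (Lpe (K3.f94424 IH) (Lpn (LP (LK LD1_c3 LD2_c32 LD3_c14))))))))
theorem f92363 : Led Lsl_bt (LP (LK LD1_c0 LD2_c52 LD3_c7)) = (LP (LK LD1_c0 LD2_c23 LD3_c36)) :=
  Lre_b IH (LK LD1_c0 LD2_c52 LD3_c7) (LK LD1_c0 LD2_c23 LD3_c36) Lrfl Lrfl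
theorem f92350 : Led Lsl_ct (LP (LK LD1_c1 LD2_c49 LD3_c57)) = (LP (LK LD1_c1 LD2_c42 LD3_c61)) :=
  Lgr Lrot83 (Lpe (K7.f92348 IH) (Lpr_cf (K2.f92345 IH) (Lpe (K4.f11638 IH) (Lpe (K3.f10780 IH) (Lpe (K4.f92349 IH) (Lpn (LP (LK LD1_c1 LD2_c42 LD3_c61))))))))
theorem f116577 : Led Lsl_gt (LP (LK LD1_c3 LD2_c32 LD3_c14)) = (LP (LK LD1_c1 LD2_c42 LD3_c61)) :=
  Lgr Lrot149 (Lpe (f116555 IH) (Lpe (K7.f95399 IH) (Lpr_bf (K7.f116566 IH) (Lpr_ct (K7.f92366 IH) (Lpe (K3.f92365 IH) (Lpe (K7.f92364 IH) (Lpr_bt (f92363 IH) (Lpe (K2.f92360 IH) (Lpe (K8.f92362 IH) (Lpr_ct (f92350 IH) (Lpn (LP (LK LD1_c1 LD2_c42 LD3_c61)))))))))))))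
theorem f109046 : Led Lsl_at (LP (LK LD1_c7 LD2_c0 LD3_c42)) = (LP (LK LD1_c3 LD2_c29 LD3_c31)) :=
  Lre_a IH (LK LD1_c7 LD2_c0 LD3_c42) (LK LD1_c3 LD2_c29 LD3_c31) Lrfl Lrfl
theorem f109090 : Led Lsl_af (LP (LK LD1_c1 LD2_c44 LD3_c42)) = (LP (LK LD1_c1 LD2_c41 LD3_c30)) :=
  Lgr Lrot0 (Lpr_at (K3.f109088 IH) (Lpn (LP (LK LD1_c1 LD2_c41 LD3_c30))))
theorem f109563 : Led Lsl_af (LP (LK LD1_c3 LD2_c32 LD3_c35)) = (LP (LK LD1_c3 LD2_c35 LD3_c39)) :=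
  Lgr Lrot36 (Lpr_bt (K3.f109544 IH) (Lpr_at (f109046 IH) (Lpr_bt (K3.f97465 IH) (Lpe (f109090 IH) (Lpr_bt (K3.f98483 IH) (Lpn (LP (LK LD1_c3 LD2_c35 LD3_c39))))))))
theorem f116579 : Led Lsl_ft (LP (LK LD1_c3 LD2_c32 LD3_c14)) = (LP (LK LD1_c3 LD2_c35 LD3_c39)) :=
  Lgr Lrot2 (Lpr_gt (f116577 IH) (Lpr_gt (K3.f10785 IH) (Lpr_af (f109563 IH) (Lpn (LP (LK LD1_c3 LD2_c35 LD3_c39))))))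
theorem f116640 : Led Lsl_ct (LP (LK LD1_c3 LD2_c35 LD3_c39)) = (LP (LK LD1_c3 LD2_c30 LD3_c3)) :=
  Lgr Lrot40 (Lpe (f116579 IH) (Lpe (f116555 IH) (Lpr_ff (f116635 IH) (Lpn (LP (LK LD1_c3 LD2_c30 LD3_c3))))))
theorem f5555 : Led Lsl_bt (LP (LK LD1_c7 LD2_c18 LD3_c47)) = (LP (LK LD1_c3 LD2_c39 LD3_c17)) :=
  Lre_b IH (LK LD1_c7 LD2_c18 LD3_c47) (LK LD1_c3 LD2_c39 LD3_c17) Lrfl Lrfl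
theorem f116642 : Led Lsl_ct (LP (LK LD1_c7 LD2_c18 LD3_c47)) = (LP (LK LD1_c7 LD2_c1 LD3_c49)) :=
  Lgr Lrot64 (Lpr_bt (f5555 IH) (Lpe (f5070 IH) (Lpe (K3.f4982 IH) (Lpr_ct (K0.f4974 IH) (Lpr_gf (K3.f97277 IH) (Lpe (K3.f18053 IH) (Lpe (K3.f19355 IH) (Lpe (K3.f97131 IH) (Lpr_ct (f116640 IH) (Lpe (f94906 IH) (Lpn (LP (LK LD1_c7 LD2_c1 LD3_c49)))))))))))))
theorem f116644 : Led Lsl_cf (LP (LK LD1_c7 LD2_c18 LD3_c47)) = (LP (LK LD1_c7 LD2_c1 LD3_c49)) :=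
  Lgr Lrot11 (Lpr_ct (f116642 IH) (Lpn (LP (LK LD1_c7 LD2_c1 LD3_c49))))
theorem f151506 : Led Lsl_gf (LP (LK LD1_c7 LD2_c17 LD3_c8)) = (LP (LK LD1_c7 LD2_c18 LD3_c47)) :=
  Lgr Lrot129 (Lpr_cf (f97477 IH) (Lpr_bt (K7.f94638 IH) (Lpr_gt (K7.f151504 IH) (Lpe (K4.f58804 IH) (Lpr_ct (K4.f65877 IH) (Lpr_gt (K4.f24156 IH) (Lpr_cf (f120490 IH) (Lpr_bt (f120456 IH) (Lpe (f120462 IH) (Lpe (f116644 IH) (Lpn (LP (LK LD1_c7 LD2_c18 LD3_c47)))))))))))))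
theorem f97473 : Led Lsl_bt (LP (LK LD1_c3 LD2_c38 LD3_c25)) = (LP (LK LD1_c7 LD2_c17 LD3_c8)) :=
  Lre_b IH (LK LD1_c3 LD2_c38 LD3_c25) (LK LD1_c7 LD2_c17 LD3_c8) Lrfl Lrfl
theorem f97497 : Led Lsl_ct (LP (LK LD1_c3 LD2_c38 LD3_c25)) = (LP (LK LD1_c7 LD2_c17 LD3_c9)) :=
  Lre_c IH (LK LD1_c3 LD2_c38 LD3_c25) (LK LD1_c7 LD2_c17 LD3_c9) Lrfl Lrfl
theorem f160960 : Led Lsl_ft (LP (LK LD1_c0 LD2_c38 LD3_c43)) = (LP (LK LD1_c1 LD2_c23 LD3_c28)) :=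
  Lre_f IH (LK LD1_c0 LD2_c38 LD3_c43) (LK LD1_c1 LD2_c23 LD3_c28) Lrfl Lrfl
theorem f160961 : Led Lsl_at (LP (LK LD1_c1 LD2_c23 LD3_c28)) = (LP (LK LD1_c1 LD2_c23 LD3_c36)) :=
  Lgr Lrot26 (Lpe (f160960 IH) (Lpr_gt (K8.f150258 IH) (Lpr_gt (K8.f160957 IH) (Lpn (LP (LK LD1_c1 LD2_c23 LD3_c36))))))
theorem f425942 : Led Lsl_at (LP (LK LD1_c1 LD2_c23 LD3_c49)) = (LP (LK LD1_c0 LD2_c38 LD3_c43)) :=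
  Lre_a IH (LK LD1_c1 LD2_c23 LD3_c49) (LK LD1_c0 LD2_c38 LD3_c43) Lrfl Lrfl
theorem f425943 : Led Lsl_ff (LP (LK LD1_c1 LD2_c23 LD3_c49)) = (LP (LK LD1_c1 LD2_c23 LD3_c36)) :=
  Lgr Lrot30 (Lpr_at (f425942 IH) (Lpr_ft (f160960 IH) (Lpr_at (f160961 IH) (Lpn (LP (LK LD1_c1 LD2_c23 LD3_c36))))))
theorem f425952 : Led Lsl_ft (LP (LK LD1_c1 LD2_c23 LD3_c49)) = (LP (LK LD1_c1 LD2_c23 LD3_c36)) :=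
  Lgr Lrot48 (Lpr_ff (f425943 IH) (Lpn (LP (LK LD1_c1 LD2_c23 LD3_c36))))
theorem f425957 : Led Lsl_dt (LP (LK LD1_c2 LD2_c55 LD3_c44)) = (LP (LK LD1_c1 LD2_c23 LD3_c49)) :=
  Lre_d IH (LK LD1_c2 LD2_c55 LD3_c44) (LK LD1_c1 LD2_c23 LD3_c49) Lrfl Lrfl
theorem f425958 : Led Lsl_ff (LP (LK LD1_c2 LD2_c55 LD3_c44)) = (LP (LK LD1_c2 LD2_c55 LD3_c17)) :=
  Lgr Lrot19 (Lpr_dt (f425957 IH) (Lpr_ft (f425952 IH) (Lpr_dt (K8.f72400 IH) (Lpn (LP (LK LD1_c2 LD2_c55 LD3_c17))))))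
theorem f425965 : Led Lsl_et (LP (LK LD1_c2 LD2_c55 LD3_c44)) = (LP (LK LD1_c5 LD2_c58 LD3_c37)) :=
  Lre_e IH (LK LD1_c2 LD2_c55 LD3_c44) (LK LD1_c5 LD2_c58 LD3_c37) Lrfl Lrfl
theorem f425966 : Led Lsl_ft (LP (LK LD1_c5 LD2_c58 LD3_c37)) = (LP (LK LD1_c11 LD2_c41 LD3_c41)) :=
  Lre_f IH (LK LD1_c5 LD2_c58 LD3_c37) (LK LD1_c11 LD2_c41 LD3_c41) Lrfl Lrfl
theorem f206034 : Led Lsl_et (LP (LK LD1_c5 LD2_c57 LD3_c53)) = (LP (LK LD1_c2 LD2_c55 LD3_c17)) :=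
  Lre_e IH (LK LD1_c5 LD2_c57 LD3_c53) (LK LD1_c2 LD2_c55 LD3_c17) Lrfl Lrfl
theorem f206029 : Led Lsl_ft (LP (LK LD1_c11 LD2_c40 LD3_c33)) = (LP (LK LD1_c5 LD2_c57 LD3_c53)) :=
  Lre_f IH (LK LD1_c11 LD2_c40 LD3_c33) (LK LD1_c5 LD2_c57 LD3_c53) Lrfl Lrfl
theorem f425967 : Led Lsl_et (LP (LK LD1_c11 LD2_c41 LD3_c41)) = (LP (LK LD1_c11 LD2_c40 LD3_c33)) :=
  Lgr Lrot69 (Lpe (f425966 IH) (Lpe (f425965 IH) (Lpr_ff (f425958 IH) (Lpe (f206034 IH) (Lpe (f206029 IH) (Lpn (LP (LK LD1_c11 LD2_c40 LD3_c33))))))))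
theorem f425975 : Led Lsl_ef (LP (LK LD1_c11 LD2_c41 LD3_c41)) = (LP (LK LD1_c11 LD2_c40 LD3_c33)) :=
  Lgr Lrot88 (Lpr_et (f425967 IH) (Lpn (LP (LK LD1_c11 LD2_c40 LD3_c33))))
theorem f425981 : Led Lsl_bt (LP (LK LD1_c5 LD2_c58 LD3_c0)) = (LP (LK LD1_c11 LD2_c40 LD3_c33)) :=
  Lre_b IH (LK LD1_c5 LD2_c58 LD3_c0) (LK LD1_c11 LD2_c40 LD3_c33) Lrfl Lrfl
theorem f425982 : Led Lsl_et (LP (LK LD1_c11 LD2_c40 LD3_c46)) = (LP (LK LD1_c5 LD2_c58 LD3_c0)) :=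
  Lre_e IH (LK LD1_c11 LD2_c40 LD3_c46) (LK LD1_c5 LD2_c58 LD3_c0) Lrfl Lrfl
theorem f425983 : Led Lsl_bt (LP (LK LD1_c11 LD2_c41 LD3_c41)) = (LP (LK LD1_c11 LD2_c40 LD3_c46)) :=
  Lgr Lrot119 (Lpr_ef (f425975 IH) (Lpe (f425981 IH) (Lpe (f425982 IH) (Lpn (LP (LK LD1_c11 LD2_c40 LD3_c46))))))
theorem f425995 : Led Lsl_ft (LP (LK LD1_c11 LD2_c40 LD3_c46)) = (LP (LK LD1_c5 LD2_c58 LD3_c1)) :=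
  Lre_f IH (LK LD1_c11 LD2_c40 LD3_c46) (LK LD1_c5 LD2_c58 LD3_c1) Lrfl Lrfl
theorem f425996 : Led Lsl_bf (LP (LK LD1_c5 LD2_c58 LD3_c37)) = (LP (LK LD1_c5 LD2_c58 LD3_c1)) :=
  Lgr Lrot61 (Lpr_ft (f425966 IH) (Lpr_bt (f425983 IH) (Lpr_ft (f425995 IH) (Lpn (LP (LK LD1_c5 LD2_c58 LD3_c1))))))
theorem f426009 : Led Lsl_bt (LP (LK LD1_c5 LD2_c58 LD3_c37)) = (LP (LK LD1_c5 LD2_c58 LD3_c1)) :=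
  Lgr Lrot127 (Lpr_bf (f425996 IH) (Lpn (LP (LK LD1_c5 LD2_c58 LD3_c1))))
theorem f426021 : Led Lsl_et (LP (LK LD1_c5 LD2_c58 LD3_c1)) = (LP (LK LD1_c2 LD2_c55 LD3_c22)) :=
  Lre_e IH (LK LD1_c5 LD2_c58 LD3_c1) (LK LD1_c2 LD2_c55 LD3_c22) Lrfl Lrfl
theorem f426022 : Led Lsl_bf (LP (LK LD1_c2 LD2_c55 LD3_c44)) = (LP (LK LD1_c2 LD2_c55 LD3_c22)) :=
  Lgr Lrot96 (Lpr_et (f425965 IH) (Lpr_bt (f426009 IH) (Lpr_et (f426021 IH) (Lpn (LP (LK LD1_c2 LD2_c55 LD3_c22))))))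
theorem f425961 : Led Lsl_at (LP (LK LD1_c2 LD2_c55 LD3_c44)) = (LP (LK LD1_c1 LD2_c23 LD3_c50)) :=
  Lre_a IH (LK LD1_c2 LD2_c55 LD3_c44) (LK LD1_c1 LD2_c23 LD3_c50) Lrfl Lrfl
theorem f426026 : Led Lsl_at (LP (LK LD1_c0 LD2_c38 LD3_c45)) = (LP (LK LD1_c1 LD2_c23 LD3_c43)) :=
  Lre_a IH (LK LD1_c0 LD2_c38 LD3_c45) (LK LD1_c1 LD2_c23 LD3_c43) Lrfl Lrfl
theorem f426027 : Led Lsl_at (LP (LK LD1_c1 LD2_c23 LD3_c52)) = (LP (LK LD1_c2 LD2_c55 LD3_c22)) :=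
  Lre_a IH (LK LD1_c1 LD2_c23 LD3_c52) (LK LD1_c2 LD2_c55 LD3_c22) Lrfl Lrfl
theorem f426028 : Led Lsl_bt (LP (LK LD1_c1 LD2_c23 LD3_c43)) = (LP (LK LD1_c1 LD2_c23 LD3_c52)) :=
  Lgr Lrot62 (Lpe (f426026 IH) (Lpe (K8.f99932 IH) (Lpe (f425961 IH) (Lpr_bf (f426022 IH) (Lpe (f426027 IH) (Lpn (LP (LK LD1_c1 LD2_c23 LD3_c52))))))))
theorem f426045 : Led Lsl_ct (LP (LK LD1_c1 LD2_c23 LD3_c43)) = (LP (LK LD1_c2 LD2_c55 LD3_c33)) :=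
  Lre_c IH (LK LD1_c1 LD2_c23 LD3_c43) (LK LD1_c2 LD2_c55 LD3_c33) Lrfl Lrfl
theorem f426046 : Led Lsl_gt (LP (LK LD1_c5 LD2_c57 LD3_c33)) = (LP (LK LD1_c2 LD2_c55 LD3_c33)) :=
  Lre_g IH (LK LD1_c5 LD2_c57 LD3_c33) (LK LD1_c2 LD2_c55 LD3_c33) Lrfl Lrfl
theorem f112483 : Led Lsl_gt (LP (LK LD1_c6 LD2_c25 LD3_c8)) = (LP (LK LD1_c3 LD2_c10 LD3_c13)) :=
  Lre_g IH (LK LD1_c6 LD2_c25 LD3_c8) (LK LD1_c3 LD2_c10 LD3_c13) Lrfl Lrfl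
theorem f205737 : Led Lsl_ct (LP (LK LD1_c4 LD2_c58 LD3_c29)) = (LP (LK LD1_c6 LD2_c25 LD3_c8)) :=
  Lgr Lrot152 (Lpe (K7.f117538 IH) (Lpe (K4.f117532 IH) (Lpr_gt (K11.f119887 IH) (Lpr_ct (K11.f205731 IH) (Lpr_gt (K11.f116807 IH) (Lpr_ct (K4.f80354 IH) (Lpe (K8.f69220 IH) (Lpe (K8.f69206 IH) (Lpe (f112483 IH) (Lpn (LP (LK LD1_c6 LD2_c25 LD3_c8))))))))))))
theorem f205739 : Led Lsl_af (LP (LK LD1_c5 LD2_c56 LD3_c29)) = (LP (LK LD1_c6 LD2_c25 LD3_c8)) :=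
  Lgr Lrot68 (Lpr_ct (K7.f138011 IH) (Lpe (K8.f139283 IH) (Lpr_ct (f205737 IH) (Lpn (LP (LK LD1_c6 LD2_c25 LD3_c8))))))
theorem f205745 : Led Lsl_at (LP (LK LD1_c5 LD2_c56 LD3_c29)) = (LP (LK LD1_c6 LD2_c25 LD3_c8)) :=
  Lgr Lrot100 (Lpr_af (f205739 IH) (Lpn (LP (LK LD1_c6 LD2_c25 LD3_c8))))
theorem f205741 : Led Lsl_ff (LP (LK LD1_c5 LD2_c56 LD3_c30)) = (LP (LK LD1_c6 LD2_c25 LD3_c8)) :=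
  Lgr Lrot23 (Lpe (K8.f160881 IH) (Lpe (K8.f139277 IH) (Lpr_ct (f205737 IH) (Lpn (LP (LK LD1_c6 LD2_c25 LD3_c8))))))
theorem f160898 : Led Lsl_af (LP (LK LD1_c6 LD2_c25 LD3_c7)) = (LP (LK LD1_c5 LD2_c56 LD3_c30)) :=
  Lgr Lrot68 (Lpe (K5.f112488 IH) (Lpr_at (K8.f160896 IH) (Lpr_ct (K8.f160879 IH) (Lpn (LP (LK LD1_c5 LD2_c56 LD3_c30))))))
theorem f205747 : Led Lsl_ff (LP (LK LD1_c5 LD2_c56 LD3_c29)) = (LP (LK LD1_c6 LD2_c25 LD3_c7)) :=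
  Lgr Lrot30 (Lpr_at (f205745 IH) (Lpe (f205741 IH) (Lpe (f160898 IH) (Lpn (LP (LK LD1_c6 LD2_c25 LD3_c7))))))
theorem f205749 : Led Lsl_gt (LP (LK LD1_c3 LD2_c10 LD3_c17)) = (LP (LK LD1_c6 LD2_c25 LD3_c8)) :=
  Lgr Lrot46 (Lpr_gf (K8.f150344 IH) (Lpe (f205747 IH) (Lpr_at (f205745 IH) (Lpn (LP (LK LD1_c6 LD2_c25 LD3_c8))))))
theorem f81952 : Led Lsl_gt (LP (LK LD1_c2 LD2_c27 LD3_c6)) = (LP (LK LD1_c4 LD2_c58 LD3_c31)) :=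
  Lre_g IH (LK LD1_c2 LD2_c27 LD3_c6) (LK LD1_c4 LD2_c58 LD3_c31) Lrfl Lrfl
theorem f426047 : Led Lsl_cf (LP (LK LD1_c5 LD2_c57 LD3_c33)) = (LP (LK LD1_c4 LD2_c58 LD3_c31)) :=
  Lgr Lrot125 (Lpr_gt (f426046 IH) (Lpe (f426045 IH) (Lpr_bt (f426028 IH) (Lpr_gt (K8.f150359 IH) (Lpe (K8.f150289 IH) (Lpr_ct (K8.f116981 IH) (Lpr_gt (f205749 IH) (Lpe (f205737 IH) (Lpr_bt (K8.f139276 IH) (Lpr_gt (f81952 IH) (Lpn (LP (LK LD1_c4 LD2_c58 LD3_c31)))))))))))))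
theorem f426034 : Led Lsl_ct (LP (LK LD1_c2 LD2_c55 LD3_c33)) = (LP (LK LD1_c1 LD2_c23 LD3_c43)) :=
  Lre_c IH (LK LD1_c2 LD2_c55 LD3_c33) (LK LD1_c1 LD2_c23 LD3_c43) Lrfl Lrfl
theorem f426057 : Led Lsl_dt (LP (LK LD1_c1 LD2_c23 LD3_c43)) = (LP (LK LD1_c0 LD2_c38 LD3_c42)) :=
  Lre_d IH (LK LD1_c1 LD2_c23 LD3_c43) (LK LD1_c0 LD2_c38 LD3_c42) Lrfl Lrfl
theorem f426058 : Led Lsl_ct (LP (LK LD1_c1 LD2_c23 LD3_c39)) = (LP (LK LD1_c0 LD2_c38 LD3_c42)) :=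
  Lre_c IH (LK LD1_c1 LD2_c23 LD3_c39) (LK LD1_c0 LD2_c38 LD3_c42) Lrfl Lrfl
theorem f74314 : Led Lsl_dt (LP (LK LD1_c1 LD2_c10 LD3_c49)) = (LP (LK LD1_c2 LD2_c27 LD3_c6)) :=
  Lre_d IH (LK LD1_c1 LD2_c10 LD3_c49) (LK LD1_c2 LD2_c27 LD3_c6) Lrfl Lrfl
theorem f426059 : Led Lsl_gf (LP (LK LD1_c1 LD2_c23 LD3_c39)) = (LP (LK LD1_c1 LD2_c23 LD3_c3)) :=
  Lgr Lrot104 (Lpr_ct (f426058 IH) (Lpe (f426057 IH) (Lpe (f426034 IH) (Lpe (f426046 IH) (Lpr_cf (f426047 IH) (Lpe (f81952 IH) (Lpe (f74314 IH) (Lpr_gt (K4.f76093 IH) (Lpr_ct (K6.f81837 IH) (Lpn (LP (LK LD1_c1 LD2_c23 LD3_c3))))))))))))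
theorem f425945 : Led Lsl_ft (LP (LK LD1_c1 LD2_c23 LD3_c39)) = (LP (LK LD1_c0 LD2_c38 LD3_c39)) :=
  Lre_f IH (LK LD1_c1 LD2_c23 LD3_c39) (LK LD1_c0 LD2_c38 LD3_c39) Lrfl Lrfl
theorem f425946 : Led Lsl_bt (LP (LK LD1_c1 LD2_c23 LD3_c49)) = (LP (LK LD1_c1 LD2_c23 LD3_c39)) :=
  Lgr Lrot35 (Lpr_ff (f425943 IH) (Lpe (K2.f20412 IH) (Lpe (f425945 IH) (Lpn (LP (LK LD1_c1 LD2_c23 LD3_c39))))))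
theorem f426078 : Led Lsl_ct (LP (LK LD1_c1 LD2_c23 LD3_c49)) = (LP (LK LD1_c0 LD2_c38 LD3_c43)) :=
  Lgr Lrot64 (Lpr_bt (f425946 IH) (Lpr_gf (f426059 IH) (Lpe (K8.f69454 IH) (Lpr_ct (K6.f69453 IH) (Lpr_gf (K8.f69441 IH) (Lpr_cf (K6.f59540 IH) (Lpr_gf (K6.f138778 IH) (Lpe (K8.f35240 IH) (Lpe (K8.f160966 IH) (Lpe (K8.f150258 IH) (Lpn (LP (LK LD1_c0 LD2_c38 LD3_c43)))))))))))))
theorem f157605 : Led Lsl_dt (LP (LK LD1_c1 LD2_c23 LD3_c50)) = (LP (LK LD1_c0 LD2_c38 LD3_c43)) :=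
  Lre_d IH (LK LD1_c1 LD2_c23 LD3_c50) (LK LD1_c0 LD2_c38 LD3_c43) Lrfl Lrfl
theorem f426091 : Led Lsl_gf (LP (LK LD1_c1 LD2_c23 LD3_c49)) = (LP (LK LD1_c1 LD2_c21 LD3_c54)) :=
  Lgr Lrot104 (Lpr_ct (f426078 IH) (Lpe (f157605 IH) (Lpe (K8.f124067 IH) (Lpe (K8.f157598 IH) (Lpe (K4.f24055 IH) (Lpe (K4.f22310 IH) (Lpe (K7.f8355 IH) (Lpr_gt (K6.f8320 IH) (Lpr_ct (K6.f8362 IH) (Lpn (LP (LK LD1_c1 LD2_c21 LD3_c54))))))))))))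
theorem f425948 : Led Lsl_dt (LP (LK LD1_c1 LD2_c23 LD3_c49)) = (LP (LK LD1_c2 LD2_c55 LD3_c44)) :=
  Lre_d IH (LK LD1_c1 LD2_c23 LD3_c49) (LK LD1_c2 LD2_c55 LD3_c44) Lrfl Lrfl
theorem f115853 : Led Lsl_gf (LP (LK LD1_c3 LD2_c29 LD3_c58)) = (LP (LK LD1_c6 LD2_c34 LD3_c55)) :=
  Lgr Lrot47 (Lpr_gt (K6.f94630 IH) (Lpe (K6.f115790 IH) (Lpr_ff (K4.f115844 IH) (Lpn (LP (LK LD1_c6 LD2_c34 LD3_c55))))))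
theorem f151575 : Led Lsl_gf (LP (LK LD1_c3 LD2_c50 LD3_c30)) = (LP (LK LD1_c2 LD2_c51 LD3_c48)) :=
  Lgr Lrot144 (Lpr_dt (K5.f12284 IH) (Lpe (K1.f64341 IH) (Lpr_dt (K1.f56675 IH) (Lpe (K6.f56676 IH) (Lpe (K6.f57255 IH) (Lpe (K6.f57256 IH) (Lpe (K7.f64343 IH) (Lpr_gf (K7.f151569 IH) (Lpe (K7.f8376 IH) (Lpn (LP (LK LD1_c2 LD2_c51 LD3_c48))))))))))))
theorem f12295 : Led Lsl_gt (LP (LK LD1_c3 LD2_c50 LD3_c33)) = (LP (LK LD1_c1 LD2_c52 LD3_c10)) :=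
  Lre_g IH (LK LD1_c3 LD2_c50 LD3_c33) (LK LD1_c1 LD2_c52 LD3_c10) Lrfl Lrfl
theorem f8359 : Led Lsl_at (LP (LK LD1_c2 LD2_c51 LD3_c48)) = (LP (LK LD1_c1 LD2_c21 LD3_c61)) :=
  Lre_a IH (LK LD1_c2 LD2_c51 LD3_c48) (LK LD1_c1 LD2_c21 LD3_c61) Lrfl Lrfl
theorem f151539 : Led Lsl_dt (LP (LK LD1_c3 LD2_c25 LD3_c40)) = (LP (LK LD1_c2 LD2_c51 LD3_c48)) :=
  Lgr Lrot44 (Lpr_af (K7.f151533 IH) (Lpe (K4.f8357 IH) (Lpe (f8359 IH) (Lpn (LP (LK LD1_c2 LD2_c51 LD3_c48))))))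
theorem f151603 : Led Lsl_df (LP (LK LD1_c3 LD2_c50 LD3_c33)) = (LP (LK LD1_c3 LD2_c29 LD3_c58)) :=
  Lgr Lrot153 (Lpr_gt (f12295 IH) (Lpr_dt (K5.f12294 IH) (Lpe (K1.f12201 IH) (Lpe (K5.f12284 IH) (Lpr_gf (f151575 IH) (Lpe (f151539 IH) (Lpr_gf (K4.f103755 IH) (Lpe (K4.f65934 IH) (Lpe (f115853 IH) (Lpn (LP (LK LD1_c3 LD2_c29 LD3_c58))))))))))))
theorem f426099 : Led Lsl_ct (LP (LK LD1_c2 LD2_c55 LD3_c44)) = (LP (LK LD1_c3 LD2_c50 LD3_c33)) :=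
  Lgr Lrot7 (Lpe (f425948 IH) (Lpr_gf (f426091 IH) (Lpe (K6.f8363 IH) (Lpe (K6.f136271 IH) (Lpe (K3.f26573 IH) (Lpr_gt (K5.f130533 IH) (Lpe (K5.f65971 IH) (Lpe (f115853 IH) (Lpe (f151603 IH) (Lpn (LP (LK LD1_c3 LD2_c50 LD3_c33))))))))))))
theorem f425962 : Led Lsl_ft (LP (LK LD1_c2 LD2_c55 LD3_c22)) = (LP (LK LD1_c1 LD2_c23 LD3_c37)) :=
  Lre_f IH (LK LD1_c2 LD2_c55 LD3_c22) (LK LD1_c1 LD2_c23 LD3_c37) Lrfl Lrfl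
theorem f425963 : Led Lsl_bt (LP (LK LD1_c2 LD2_c55 LD3_c44)) = (LP (LK LD1_c2 LD2_c55 LD3_c22)) :=
  Lgr Lrot35 (Lpr_ff (f425958 IH) (Lpe (K8.f72476 IH) (Lpe (f425962 IH) (Lpn (LP (LK LD1_c2 LD2_c55 LD3_c22))))))
theorem f66373 : Led Lsl_bt (LP (LK LD1_c1 LD2_c21 LD3_c1)) = (LP (LK LD1_c2 LD2_c49 LD3_c51)) :=
  Lre_b IH (LK LD1_c1 LD2_c21 LD3_c1) (LK LD1_c2 LD2_c49 LD3_c51) Lrfl Lrfl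
theorem f139279 : Led Lsl_ft (LP (LK LD1_c4 LD2_c58 LD3_c29)) = (LP (LK LD1_c5 LD2_c47 LD3_c45)) :=
  Lgr Lrot48 (Lpr_ff (K8.f139277 IH) (Lpn (LP (LK LD1_c5 LD2_c47 LD3_c45))))
theorem f158423 : Led Lsl_at (LP (LK LD1_c5 LD2_c47 LD3_c45)) = (LP (LK LD1_c3 LD2_c59 LD3_c29)) :=
  Lgr Lrot66 (Lpe (f139279 IH) (Lpr_af (K8.f139283 IH) (Lpr_ff (K8.f158419 IH) (Lpn (LP (LK LD1_c3 LD2_c59 LD3_c29))))))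
theorem f160883 : Led Lsl_at (LP (LK LD1_c6 LD2_c25 LD3_c7)) = (LP (LK LD1_c5 LD2_c56 LD3_c30)) :=
  Lgr Lrot107 (Lpe (K5.f112497 IH) (Lpe (f158423 IH) (Lpr_cf (K8.f160881 IH) (Lpn (LP (LK LD1_c5 LD2_c56 LD3_c30))))))
theorem f158425 : Led Lsl_ft (LP (LK LD1_c5 LD2_c56 LD3_c29)) = (LP (LK LD1_c6 LD2_c25 LD3_c7)) :=
  Lgr Lrot4 (Lpr_cf (K8.f138013 IH) (Lpr_ff (K8.f158419 IH) (Lpr_cf (K5.f112488 IH) (Lpn (LP (LK LD1_c6 LD2_c25 LD3_c7))))))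
theorem f161226 : Led Lsl_gt (LP (LK LD1_c5 LD2_c56 LD3_c29)) = (LP (LK LD1_c2 LD2_c54 LD3_c37)) :=
  Lgr Lrot5 (Lpr_ft (f158425 IH) (Lpr_at (f160883 IH) (Lpr_gf (K8.f161100 IH) (Lpn (LP (LK LD1_c2 LD2_c54 LD3_c37))))))
theorem f157049 : Led Lsl_bt (LP (LK LD1_c1 LD2_c23 LD3_c15)) = (LP (LK LD1_c2 LD2_c54 LD3_c36)) :=
  Lre_b IH (LK LD1_c1 LD2_c23 LD3_c15) (LK LD1_c2 LD2_c54 LD3_c36) Lrfl Lrfl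
theorem f426114 : Led Lsl_gf (LP (LK LD1_c2 LD2_c55 LD3_c22)) = (LP (LK LD1_c2 LD2_c54 LD3_c36)) :=
  Lgr Lrot124 (Lpe (f425963 IH) (Lpr_ct (f426099 IH) (Lpr_gt (f12295 IH) (Lpr_cf (K4.f64914 IH) (Lpr_bt (f66373 IH) (Lpe (K8.f138817 IH) (Lpe (K8.f138013 IH) (Lpr_gt (f161226 IH) (Lpe (K8.f71955 IH) (Lpr_bt (f157049 IH) (Lpn (LP (LK LD1_c2 LD2_c54 LD3_c36)))))))))))))
theorem f426116 : Led Lsl_ff (LP (LK LD1_c1 LD2_c23 LD3_c52)) = (LP (LK LD1_c1 LD2_c23 LD3_c32)) :=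
  Lgr Lrot52 (Lpr_at (f426027 IH) (Lpr_gf (f426114 IH) (Lpr_gf (K8.f161293 IH) (Lpn (LP (LK LD1_c1 LD2_c23 LD3_c32))))))
theorem f150388 : Led Lsl_et (LP (LK LD1_c1 LD2_c23 LD3_c52)) = (LP (LK LD1_c2 LD2_c55 LD3_c52)) :=
  Lre_e IH (LK LD1_c1 LD2_c23 LD3_c52) (LK LD1_c2 LD2_c55 LD3_c52) Lrfl Lrfl
theorem f426128 : Led Lsl_ft (LP (LK LD1_c2 LD2_c55 LD3_c52)) = (LP (LK LD1_c5 LD2_c58 LD3_c56)) :=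
  Lre_f IH (LK LD1_c2 LD2_c55 LD3_c52) (LK LD1_c5 LD2_c58 LD3_c56) Lrfl Lrfl
theorem f161298 : Led Lsl_et (LP (LK LD1_c2 LD2_c55 LD3_c10)) = (LP (LK LD1_c1 LD2_c23 LD3_c32)) :=
  Lre_e IH (LK LD1_c2 LD2_c55 LD3_c10) (LK LD1_c1 LD2_c23 LD3_c32) Lrfl Lrfl
theorem f426129 : Led Lsl_ft (LP (LK LD1_c5 LD2_c57 LD3_c44)) = (LP (LK LD1_c2 LD2_c55 LD3_c10)) :=
  Lre_f IH (LK LD1_c5 LD2_c57 LD3_c44) (LK LD1_c2 LD2_c55 LD3_c10) Lrfl Lrfl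
theorem f426130 : Led Lsl_et (LP (LK LD1_c5 LD2_c58 LD3_c56)) = (LP (LK LD1_c5 LD2_c57 LD3_c44)) :=
  Lgr Lrot69 (Lpe (f426128 IH) (Lpe (f150388 IH) (Lpr_ff (f426116 IH) (Lpe (f161298 IH) (Lpe (f426129 IH) (Lpn (LP (LK LD1_c5 LD2_c57 LD3_c44))))))))
theorem f426136 : Led Lsl_ef (LP (LK LD1_c5 LD2_c58 LD3_c56)) = (LP (LK LD1_c5 LD2_c57 LD3_c44)) :=
  Lgr Lrot88 (Lpr_et (f426130 IH) (Lpn (LP (LK LD1_c5 LD2_c57 LD3_c44))))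
theorem f426139 : Led Lsl_at (LP (LK LD1_c5 LD2_c58 LD3_c56)) = (LP (LK LD1_c11 LD2_c40 LD3_c46)) :=
  Lre_a IH (LK LD1_c5 LD2_c58 LD3_c56) (LK LD1_c11 LD2_c40 LD3_c46) Lrfl Lrfl
theorem f426140 : Led Lsl_at (LP (LK LD1_c5 LD2_c58 LD3_c0)) = (LP (LK LD1_c5 LD2_c57 LD3_c44)) :=
  Lgr Lrot80 (Lpe (f425982 IH) (Lpe (f426139 IH) (Lpr_ef (f426136 IH) (Lpn (LP (LK LD1_c5 LD2_c57 LD3_c44))))))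
theorem f426147 : Led Lsl_ft (LP (LK LD1_c2 LD2_c55 LD3_c21)) = (LP (LK LD1_c5 LD2_c58 LD3_c0)) :=
  Lre_f IH (LK LD1_c2 LD2_c55 LD3_c21) (LK LD1_c5 LD2_c58 LD3_c0) Lrfl Lrfl
theorem f426148 : Led Lsl_af (LP (LK LD1_c2 LD2_c55 LD3_c21)) = (LP (LK LD1_c2 LD2_c55 LD3_c10)) :=
  Lgr Lrot45 (Lpr_ft (f426147 IH) (Lpr_at (f426140 IH) (Lpr_ft (f426129 IH) (Lpn (LP (LK LD1_c2 LD2_c55 LD3_c10))))))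
theorem f426152 : Led Lsl_dt (LP (LK LD1_c2 LD2_c55 LD3_c21)) = (LP (LK LD1_c5 LD2_c57 LD3_c61)) :=
  Lre_d IH (LK LD1_c2 LD2_c55 LD3_c21) (LK LD1_c5 LD2_c57 LD3_c61) Lrfl Lrfl
theorem f426164 : Led Lsl_dt (LP (LK LD1_c5 LD2_c57 LD3_c43)) = (LP (LK LD1_c2 LD2_c55 LD3_c10)) :=
  Lre_d IH (LK LD1_c5 LD2_c57 LD3_c43) (LK LD1_c2 LD2_c55 LD3_c10) Lrfl Lrfl
theorem f426165 : Led Lsl_at (LP (LK LD1_c5 LD2_c57 LD3_c61)) = (LP (LK LD1_c5 LD2_c57 LD3_c43)) :=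
  Lgr Lrot51 (Lpe (f426152 IH) (Lpr_af (f426148 IH) (Lpe (f426164 IH) (Lpn (LP (LK LD1_c5 LD2_c57 LD3_c43))))))
theorem f426176 : Led Lsl_et (LP (LK LD1_c2 LD2_c55 LD3_c24)) = (LP (LK LD1_c5 LD2_c57 LD3_c61)) :=
  Lre_e IH (LK LD1_c2 LD2_c55 LD3_c24) (LK LD1_c5 LD2_c57 LD3_c61) Lrfl Lrfl
theorem f426177 : Led Lsl_et (LP (LK LD1_c5 LD2_c57 LD3_c43)) = (LP (LK LD1_c2 LD2_c55 LD3_c12)) :=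
  Lre_e IH (LK LD1_c5 LD2_c57 LD3_c43) (LK LD1_c2 LD2_c55 LD3_c12) Lrfl Lrfl
theorem f426178 : Led Lsl_af (LP (LK LD1_c2 LD2_c55 LD3_c24)) = (LP (LK LD1_c2 LD2_c55 LD3_c12)) :=
  Lgr Lrot50 (Lpr_et (f426176 IH) (Lpr_at (f426165 IH) (Lpr_et (f426177 IH) (Lpn (LP (LK LD1_c2 LD2_c55 LD3_c12))))))
theorem f386672 : Led Lsl_dt (LP (LK LD1_c2 LD2_c55 LD3_c24)) = (LP (LK LD1_c1 LD2_c23 LD3_c38)) :=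
  Lre_d IH (LK LD1_c2 LD2_c55 LD3_c24) (LK LD1_c1 LD2_c23 LD3_c38) Lrfl Lrfl
theorem f161311 : Led Lsl_dt (LP (LK LD1_c1 LD2_c23 LD3_c33)) = (LP (LK LD1_c2 LD2_c55 LD3_c12)) :=
  Lre_d IH (LK LD1_c1 LD2_c23 LD3_c33) (LK LD1_c2 LD2_c55 LD3_c12) Lrfl Lrfl
theorem f426192 : Led Lsl_at (LP (LK LD1_c1 LD2_c23 LD3_c38)) = (LP (LK LD1_c1 LD2_c23 LD3_c33)) :=
  Lgr Lrot51 (Lpe (f386672 IH) (Lpr_af (f426178 IH) (Lpe (f161311 IH) (Lpn (LP (LK LD1_c1 LD2_c23 LD3_c33))))))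
theorem f426205 : Led Lsl_ft (LP (LK LD1_c2 LD2_c55 LD3_c25)) = (LP (LK LD1_c1 LD2_c23 LD3_c38)) :=
  Lre_f IH (LK LD1_c2 LD2_c55 LD3_c25) (LK LD1_c1 LD2_c23 LD3_c38) Lrfl Lrfl
theorem f426206 : Led Lsl_ft (LP (LK LD1_c1 LD2_c23 LD3_c33)) = (LP (LK LD1_c2 LD2_c55 LD3_c13)) :=
  Lre_f IH (LK LD1_c1 LD2_c23 LD3_c33) (LK LD1_c2 LD2_c55 LD3_c13) Lrfl Lrfl
theorem f426207 : Led Lsl_af (LP (LK LD1_c2 LD2_c55 LD3_c25)) = (LP (LK LD1_c2 LD2_c55 LD3_c13)) :=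
  Lgr Lrot45 (Lpr_ft (f426205 IH) (Lpr_at (f426192 IH) (Lpr_ft (f426206 IH) (Lpn (LP (LK LD1_c2 LD2_c55 LD3_c13))))))
theorem f386739 : Led Lsl_ct (LP (LK LD1_c2 LD2_c55 LD3_c25)) = (LP (LK LD1_c1 LD2_c23 LD3_c46)) :=
  Lre_c IH (LK LD1_c2 LD2_c55 LD3_c25) (LK LD1_c1 LD2_c23 LD3_c46) Lrfl Lrfl
theorem f226408 : Led Lsl_bt (LP (LK LD1_c2 LD2_c12 LD3_c8)) = (LP (LK LD1_c4 LD2_c30 LD3_c16)) :=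
  Lre_b IH (LK LD1_c2 LD2_c12 LD3_c8) (LK LD1_c4 LD2_c30 LD3_c16) Lrfl Lrfl
theorem f174158 : Led Lsl_bt (LP (LK LD1_c2 LD2_c42 LD3_c44)) = (LP (LK LD1_c1 LD2_c17 LD3_c55)) :=
  Lre_b IH (LK LD1_c2 LD2_c42 LD3_c44) (LK LD1_c1 LD2_c17 LD3_c55) Lrfl Lrfl
theorem f379903 : Led Lsl_ft (LP (LK LD1_c4 LD2_c30 LD3_c16)) = (LP (LK LD1_c2 LD2_c42 LD3_c44)) :=
  Lgr Lrot75 (Lpe (f226408 IH) (Lpr_ff (f379899 IH) (Lpe (f174158 IH) (Lpn (LP (LK LD1_c2 LD2_c42 LD3_c44))))))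
theorem f225212 : Led Lsl_dt (LP (LK LD1_c2 LD2_c12 LD3_c7)) = (LP (LK LD1_c4 LD2_c30 LD3_c16)) :=
  Lre_d IH (LK LD1_c2 LD2_c12 LD3_c7) (LK LD1_c4 LD2_c30 LD3_c16) Lrfl Lrfl
theorem f174182 : Led Lsl_dt (LP (LK LD1_c2 LD2_c42 LD3_c44)) = (LP (LK LD1_c1 LD2_c17 LD3_c54)) :=
  Lre_d IH (LK LD1_c2 LD2_c42 LD3_c44) (LK LD1_c1 LD2_c17 LD3_c54) Lrfl Lrfl
theorem f380711 : Led Lsl_ff (LP (LK LD1_c2 LD2_c12 LD3_c7)) = (LP (LK LD1_c1 LD2_c17 LD3_c54)) :=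
  Lgr Lrot19 (Lpr_dt (f225212 IH) (Lpr_ft (f379903 IH) (Lpr_dt (f174182 IH) (Lpn (LP (LK LD1_c1 LD2_c17 LD3_c54))))))
theorem f379854 : Led Lsl_at (LP (LK LD1_c2 LD2_c12 LD3_c7)) = (LP (LK LD1_c4 LD2_c30 LD3_c14)) :=
  Lre_a IH (LK LD1_c2 LD2_c12 LD3_c7) (LK LD1_c4 LD2_c30 LD3_c14) Lrfl Lrfl
theorem f213564 : Led Lsl_gt (LP (LK LD1_c1 LD2_c17 LD3_c54)) = (LP (LK LD1_c2 LD2_c42 LD3_c40)) :=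
  Lre_g IH (LK LD1_c1 LD2_c17 LD3_c54) (LK LD1_c2 LD2_c42 LD3_c40) Lrfl Lrfl
theorem f380721 : Led Lsl_gf (LP (LK LD1_c4 LD2_c30 LD3_c14)) = (LP (LK LD1_c2 LD2_c42 LD3_c40)) :=
  Lgr Lrot76 (Lpe (f379854 IH) (Lpr_ff (f380711 IH) (Lpr_gt (f213564 IH) (Lpn (LP (LK LD1_c2 LD2_c42 LD3_c40))))))
theorem f178872 : Led Lsl_bt (LP (LK LD1_c0 LD2_c35 LD3_c52)) = (LP (LK LD1_c1 LD2_c17 LD3_c38)) :=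
  Lre_b IH (LK LD1_c0 LD2_c35 LD3_c52) (LK LD1_c1 LD2_c17 LD3_c38) Lrfl Lrfl
theorem f280818 : Led Lsl_at (LP (LK LD1_c1 LD2_c17 LD3_c38)) = (LP (LK LD1_c2 LD2_c42 LD3_c0)) :=
  Lre_a IH (LK LD1_c1 LD2_c17 LD3_c38) (LK LD1_c2 LD2_c42 LD3_c0) Lrfl Lrfl
theorem f280969 : Led Lsl_at (LP (LK LD1_c4 LD2_c29 LD3_c35)) = (LP (LK LD1_c2 LD2_c11 LD3_c50)) :=
  Lre_a IH (LK LD1_c4 LD2_c29 LD3_c35) (LK LD1_c2 LD2_c11 LD3_c50) Lrfl Lrfl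
theorem f280970 : Led Lsl_bt (LP (LK LD1_c2 LD2_c42 LD3_c0)) = (LP (LK LD1_c4 LD2_c29 LD3_c35)) :=
  Lgr Lrot62 (Lpe (f280818 IH) (Lpe (f178872 IH) (Lpr_af (K20.f280965 IH) (Lpe (f173167 IH) (Lpe (f280969 IH) (Lpn (LP (LK LD1_c4 LD2_c29 LD3_c35))))))))
theorem f271720 : Led Lsl_at (LP (LK LD1_c8 LD2_c57 LD3_c50)) = (LP (LK LD1_c4 LD2_c29 LD3_c50)) :=
  Lre_a IH (LK LD1_c8 LD2_c57 LD3_c50) (LK LD1_c4 LD2_c29 LD3_c50) Lrfl Lrfl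
theorem f169287 : Led Lsl_gt (LP (LK LD1_c8 LD2_c57 LD3_c49)) = (LP (LK LD1_c4 LD2_c29 LD3_c50)) :=
  Lre_g IH (LK LD1_c8 LD2_c57 LD3_c49) (LK LD1_c4 LD2_c29 LD3_c50) Lrfl Lrfl
theorem f280714 : Led Lsl_gt (LP (LK LD1_c5 LD2_c31 LD3_c8)) = (LP (LK LD1_c8 LD2_c57 LD3_c49)) :=
  Lgr Lrot5 (Lpr_ft (K20.f280698 IH) (Lpr_at (f271720 IH) (Lpe (f169287 IH) (Lpn (LP (LK LD1_c8 LD2_c57 LD3_c49))))))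
theorem f380730 : Led Lsl_bt (LP (LK LD1_c5 LD2_c32 LD3_c55)) = (LP (LK LD1_c2 LD2_c42 LD3_c40)) :=
  Lre_b IH (LK LD1_c5 LD2_c32 LD3_c55) (LK LD1_c2 LD2_c42 LD3_c40) Lrfl Lrfl
theorem f380731 : Led Lsl_cf (LP (LK LD1_c8 LD2_c57 LD3_c49)) = (LP (LK LD1_c5 LD2_c32 LD3_c55)) :=
  Lgr Lrot58 (Lpe (f280714 IH) (Lpe (K20.f221407 IH) (Lpr_bt (f280970 IH) (Lpe (f281521 IH) (Lpe (f281528 IH) (Lpr_ct (f174185 IH) (Lpe (f379845 IH) (Lpe (f379837 IH) (Lpr_gf (f380721 IH) (Lpe (f380730 IH) (Lpn (LP (LK LD1_c5 LD2_c32 LD3_c55)))))))))))))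
theorem f380741 : Led Lsl_ct (LP (LK LD1_c8 LD2_c57 LD3_c49)) = (LP (LK LD1_c5 LD2_c32 LD3_c55)) :=
  Lgr Lrot59 (Lpr_cf (f380731 IH) (Lpn (LP (LK LD1_c5 LD2_c32 LD3_c55))))
theorem f261697 : Led Lsl_ct (LP (LK LD1_c10 LD2_c55 LD3_c59)) = (LP (LK LD1_c15 LD2_c52 LD3_c0)) :=
  Lgr Lrot59 (Lpr_cf (K20.f261670 IH) (Lpn (LP (LK LD1_c15 LD2_c52 LD3_c0))))
theorem f261702 : Led Lsl_at (LP (LK LD1_c19 LD2_c44 LD3_c25)) = (LP (LK LD1_c10 LD2_c55 LD3_c59)) :=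
  Lre_a IH (LK LD1_c19 LD2_c44 LD3_c25) (LK LD1_c10 LD2_c55 LD3_c59) Lrfl Lrfl
theorem f261718 : Led Lsl_at (LP (LK LD1_c15 LD2_c52 LD3_c0)) = (LP (LK LD1_c25 LD2_c47 LD3_c43)) :=
  Lre_a IH (LK LD1_c15 LD2_c52 LD3_c0) (LK LD1_c25 LD2_c47 LD3_c43) Lrfl Lrfl
theorem f261719 : Led Lsl_cf (LP (LK LD1_c19 LD2_c44 LD3_c25)) = (LP (LK LD1_c25 LD2_c47 LD3_c43)) :=
  Lgr Lrot1 (Lpr_at (f261702 IH) (Lpr_ct (f261697 IH) (Lpr_at (f261718 IH) (Lpn (LP (LK LD1_c25 LD2_c47 LD3_c43))))))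
theorem f213341 : Led Lsl_et (LP (LK LD1_c19 LD2_c44 LD3_c25)) = (LP (LK LD1_c10 LD2_c55 LD3_c57)) :=
  Lre_e IH (LK LD1_c19 LD2_c44 LD3_c25) (LK LD1_c10 LD2_c55 LD3_c57) Lrfl Lrfl
theorem f261728 : Led Lsl_ct (LP (LK LD1_c10 LD2_c55 LD3_c57)) = (LP (LK LD1_c15 LD2_c51 LD3_c60)) :=
  Lgr Lrot15 (Lpe (f213341 IH) (Lpr_cf (f261719 IH) (Lpe (K20.f221401 IH) (Lpn (LP (LK LD1_c15 LD2_c51 LD3_c60))))))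
theorem f213173 : Led Lsl_bt (LP (LK LD1_c15 LD2_c15 LD3_c14)) = (LP (LK LD1_c8 LD2_c6 LD3_c9)) :=
  Lre_b IH (LK LD1_c15 LD2_c15 LD3_c14) (LK LD1_c8 LD2_c6 LD3_c9) Lrfl Lrfl
theorem f213276 : Led Lsl_bt (LP (LK LD1_c5 LD2_c32 LD3_c9)) = (LP (LK LD1_c10 LD2_c55 LD3_c58)) :=
  Lre_b IH (LK LD1_c5 LD2_c32 LD3_c9) (LK LD1_c10 LD2_c55 LD3_c58) Lrfl Lrfl
theorem f213277 : Led Lsl_ff (LP (LK LD1_c15 LD2_c15 LD3_c14)) = (LP (LK LD1_c10 LD2_c55 LD3_c58)) :=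
  Lgr Lrot25 (Lpr_bt (f213173 IH) (Lpr_ft (K14.f213236 IH) (Lpr_bt (f213276 IH) (Lpn (LP (LK LD1_c10 LD2_c55 LD3_c58))))))
theorem f213299 : Led Lsl_ft (LP (LK LD1_c15 LD2_c15 LD3_c14)) = (LP (LK LD1_c10 LD2_c55 LD3_c58)) :=
  Lgr Lrot48 (Lpr_ff (f213277 IH) (Lpn (LP (LK LD1_c10 LD2_c55 LD3_c58))))
theorem f213307 : Led Lsl_at (LP (LK LD1_c25 LD2_c4 LD3_c19)) = (LP (LK LD1_c15 LD2_c15 LD3_c14)) :=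
  Lre_a IH (LK LD1_c25 LD2_c4 LD3_c19) (LK LD1_c15 LD2_c15 LD3_c14) Lrfl Lrfl
theorem f213308 : Led Lsl_at (LP (LK LD1_c10 LD2_c55 LD3_c58)) = (LP (LK LD1_c19 LD2_c44 LD3_c24)) :=
  Lre_a IH (LK LD1_c10 LD2_c55 LD3_c58) (LK LD1_c19 LD2_c44 LD3_c24) Lrfl Lrfl
theorem f213309 : Led Lsl_ff (LP (LK LD1_c25 LD2_c4 LD3_c19)) = (LP (LK LD1_c19 LD2_c44 LD3_c24)) :=
  Lgr Lrot30 (Lpr_at (f213307 IH) (Lpr_ft (f213299 IH) (Lpr_at (f213308 IH) (Lpn (LP (LK LD1_c19 LD2_c44 LD3_c24))))))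
theorem f213305 : Led Lsl_dt (LP (LK LD1_c25 LD2_c4 LD3_c19)) = (LP (LK LD1_c15 LD2_c15 LD3_c13)) :=
  Lre_d IH (LK LD1_c25 LD2_c4 LD3_c19) (LK LD1_c15 LD2_c15 LD3_c13) Lrfl Lrfl
theorem f213319 : Led Lsl_dt (LP (LK LD1_c10 LD2_c55 LD3_c57)) = (LP (LK LD1_c19 LD2_c44 LD3_c24)) :=
  Lre_d IH (LK LD1_c10 LD2_c55 LD3_c57) (LK LD1_c19 LD2_c44 LD3_c24) Lrfl Lrfl
theorem f213320 : Led Lsl_ft (LP (LK LD1_c15 LD2_c15 LD3_c13)) = (LP (LK LD1_c10 LD2_c55 LD3_c57)) :=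
  Lgr Lrot54 (Lpe (f213305 IH) (Lpr_ff (f213309 IH) (Lpe (f213319 IH) (Lpn (LP (LK LD1_c10 LD2_c55 LD3_c57))))))
theorem f261734 : Led Lsl_cf (LP (LK LD1_c15 LD2_c15 LD3_c13)) = (LP (LK LD1_c10 LD2_c53 LD3_c27)) :=
  Lgr Lrot108 (Lpr_ft (f213320 IH) (Lpr_ct (f261728 IH) (Lpr_ft (K20.f221402 IH) (Lpn (LP (LK LD1_c10 LD2_c53 LD3_c27))))))
theorem f213145 : Led Lsl_bt (LP (LK LD1_c8 LD2_c6 LD3_c8)) = (LP (LK LD1_c4 LD2_c2 LD3_c48)) :=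
  Lre_b IH (LK LD1_c8 LD2_c6 LD3_c8) (LK LD1_c4 LD2_c2 LD3_c48) Lrfl Lrfl
theorem f213155 : Led Lsl_bt (LP (LK LD1_c2 LD2_c42 LD3_c17)) = (LP (LK LD1_c5 LD2_c32 LD3_c8)) :=
  Lre_b IH (LK LD1_c2 LD2_c42 LD3_c17) (LK LD1_c5 LD2_c32 LD3_c8) Lrfl Lrfl
theorem f213156 : Led Lsl_ff (LP (LK LD1_c8 LD2_c6 LD3_c8)) = (LP (LK LD1_c5 LD2_c32 LD3_c8)) :=
  Lgr Lrot25 (Lpr_bt (f213145 IH) (Lpr_ft (K12.f213149 IH) (Lpr_bt (f213155 IH) (Lpn (LP (LK LD1_c5 LD2_c32 LD3_c8))))))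
theorem f213324 : Led Lsl_at (LP (LK LD1_c8 LD2_c6 LD3_c8)) = (LP (LK LD1_c15 LD2_c15 LD3_c13)) :=
  Lre_a IH (LK LD1_c8 LD2_c6 LD3_c8) (LK LD1_c15 LD2_c15 LD3_c13) Lrfl Lrfl
theorem f213381 : Led Lsl_gt (LP (LK LD1_c5 LD2_c32 LD3_c8)) = (LP (LK LD1_c10 LD2_c55 LD3_c55)) :=
  Lre_g IH (LK LD1_c5 LD2_c32 LD3_c8) (LK LD1_c10 LD2_c55 LD3_c55) Lrfl Lrfl
theorem f213382 : Led Lsl_gf (LP (LK LD1_c15 LD2_c15 LD3_c13)) = (LP (LK LD1_c10 LD2_c55 LD3_c55)) :=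
  Lgr Lrot76 (Lpe (f213324 IH) (Lpr_ff (f213156 IH) (Lpr_gt (f213381 IH) (Lpn (LP (LK LD1_c10 LD2_c55 LD3_c55))))))
theorem f213384 : Led Lsl_ct (LP (LK LD1_c19 LD2_c44 LD3_c20)) = (LP (LK LD1_c10 LD2_c55 LD3_c55)) :=
  Lre_c IH (LK LD1_c19 LD2_c44 LD3_c20) (LK LD1_c10 LD2_c55 LD3_c55) Lrfl Lrfl
theorem f350201 : Led Lsl_ff (LP (LK LD1_c25 LD2_c15 LD3_c19)) = (LP (LK LD1_c25 LD2_c11 LD3_c56)) :=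
  Lgr Lrot3 (Lpr_ft (f350195 IH) (Lpn (LP (LK LD1_c25 LD2_c11 LD3_c56))))
theorem f350205 : Led Lsl_et (LP (LK LD1_c8 LD2_c10 LD3_c9)) = (LP (LK LD1_c8 LD2_c8 LD3_c58)) :=
  Lgr Lrot69 (Lpe (K19.f314996 IH) (Lpe (f315002 IH) (Lpr_ff (f350201 IH) (Lpe (f319720 IH) (Lpe (K22.f339707 IH) (Lpn (LP (LK LD1_c8 LD2_c8 LD3_c58))))))))
theorem f291150 : Led Lsl_ct (LP (LK LD1_c15 LD2_c23 LD3_c7)) = (LP (LK LD1_c8 LD2_c10 LD3_c9)) :=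
  Lre_c IH (LK LD1_c15 LD2_c23 LD3_c7) (LK LD1_c8 LD2_c10 LD3_c9) Lrfl Lrfl
theorem f265689 : Led Lsl_ct (LP (LK LD1_c8 LD2_c8 LD3_c58)) = (LP (LK LD1_c15 LD2_c20 LD3_c40)) :=
  Lre_c IH (LK LD1_c8 LD2_c8 LD3_c58) (LK LD1_c15 LD2_c20 LD3_c40) Lrfl Lrfl
theorem f350207 : Led Lsl_ef (LP (LK LD1_c15 LD2_c23 LD3_c7)) = (LP (LK LD1_c15 LD2_c20 LD3_c40)) :=
  Lgr Lrot28 (Lpr_ct (f291150 IH) (Lpr_et (f350205 IH) (Lpr_ct (f265689 IH) (Lpn (LP (LK LD1_c15 LD2_c20 LD3_c40))))))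
theorem f350209 : Led Lsl_et (LP (LK LD1_c15 LD2_c23 LD3_c7)) = (LP (LK LD1_c15 LD2_c20 LD3_c40)) :=
  Lgr Lrot87 (Lpr_ef (f350207 IH) (Lpn (LP (LK LD1_c15 LD2_c20 LD3_c40))))
theorem f238598 : Led Lsl_ct (LP (LK LD1_c5 LD2_c39 LD3_c10)) = (LP (LK LD1_c11 LD2_c9 LD3_c24)) :=
  Lre_c IH (LK LD1_c5 LD2_c39 LD3_c10) (LK LD1_c11 LD2_c9 LD3_c24) Lrfl Lrfl
theorem f315007 : Led Lsl_at (LP (LK LD1_c11 LD2_c9 LD3_c24)) = (LP (LK LD1_c15 LD2_c23 LD3_c7)) :=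
  Lgr Lrot107 (Lpe (f238598 IH) (Lpr_af (K19.f314997 IH) (Lpe (f291150 IH) (Lpn (LP (LK LD1_c15 LD2_c23 LD3_c7))))))
theorem f233834 : Led Lsl_ct (LP (LK LD1_c15 LD2_c53 LD3_c61)) = (LP (LK LD1_c8 LD2_c28 LD3_c1)) :=
  Lre_c IH (LK LD1_c15 LD2_c53 LD3_c61) (LK LD1_c8 LD2_c28 LD3_c1) Lrfl Lrfl
theorem f339719 : Led Lsl_at (LP (LK LD1_c15 LD2_c20 LD3_c40)) = (LP (LK LD1_c15 LD2_c53 LD3_c61)) :=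
  Lgr Lrot107 (Lpe (f265689 IH) (Lpr_af (K22.f339711 IH) (Lpe (f233834 IH) (Lpn (LP (LK LD1_c15 LD2_c53 LD3_c61))))))
theorem f350213 : Led Lsl_ef (LP (LK LD1_c11 LD2_c9 LD3_c24)) = (LP (LK LD1_c15 LD2_c53 LD3_c61)) :=
  Lgr Lrot20 (Lpr_at (f315007 IH) (Lpr_et (f350209 IH) (Lpr_at (f339719 IH) (Lpn (LP (LK LD1_c15 LD2_c53 LD3_c61))))))
theorem f269452 : Led Lsl_ct (LP (LK LD1_c11 LD2_c9 LD3_c24)) = (LP (LK LD1_c5 LD2_c39 LD3_c10)) :=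
  Lre_c IH (LK LD1_c11 LD2_c9 LD3_c24) (LK LD1_c5 LD2_c39 LD3_c10) Lrfl Lrfl
theorem f228350 : Led Lsl_ct (LP (LK LD1_c8 LD2_c28 LD3_c1)) = (LP (LK LD1_c15 LD2_c53 LD3_c61)) :=
  Lre_c IH (LK LD1_c8 LD2_c28 LD3_c1) (LK LD1_c15 LD2_c53 LD3_c61) Lrfl Lrfl
theorem f350216 : Led Lsl_et (LP (LK LD1_c5 LD2_c39 LD3_c10)) = (LP (LK LD1_c8 LD2_c28 LD3_c1)) :=
  Lgr Lrot158 (Lpe (f269452 IH) (Lpr_ef (f350213 IH) (Lpe (f228350 IH) (Lpn (LP (LK LD1_c8 LD2_c28 LD3_c1))))))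
theorem f228312 : Led Lsl_dt (LP (LK LD1_c11 LD2_c9 LD3_c21)) = (LP (LK LD1_c5 LD2_c39 LD3_c9)) :=
  Lre_d IH (LK LD1_c11 LD2_c9 LD3_c21) (LK LD1_c5 LD2_c39 LD3_c9) Lrfl Lrfl
theorem f233833 : Led Lsl_et (LP (LK LD1_c25 LD2_c49 LD3_c53)) = (LP (LK LD1_c15 LD2_c53 LD3_c59)) :=
  Lre_e IH (LK LD1_c25 LD2_c49 LD3_c53) (LK LD1_c15 LD2_c53 LD3_c59) Lrfl Lrfl
theorem f233811 : Led Lsl_et (LP (LK LD1_c15 LD2_c53 LD3_c59)) = (LP (LK LD1_c25 LD2_c49 LD3_c53)) :=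
  Lre_e IH (LK LD1_c15 LD2_c53 LD3_c59) (LK LD1_c25 LD2_c49 LD3_c53) Lrfl Lrfl
theorem f51257 : Led Lsl_et (LP (LK LD1_c25 LD2_c7 LD3_c0)) = (LP (LK LD1_c15 LD2_c16 LD3_c61)) :=
  Lre_e IH (LK LD1_c25 LD2_c7 LD3_c0) (LK LD1_c15 LD2_c16 LD3_c61) Lrfl Lrfl
theorem f290922 : Led Lsl_dt (LP (LK LD1_c25 LD2_c49 LD3_c53)) = (LP (LK LD1_c25 LD2_c7 LD3_c0)) :=
  Lgr Lrot77 (Lpe (f233811 IH) (Lpe (K21.f233801 IH) (Lpe (K21.f233810 IH) (Lpr_df (K19.f290911 IH) (Lpe (f51257 IH) (Lpn (LP (LK LD1_c25 LD2_c7 LD3_c0))))))))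
theorem f52262 : Led Lsl_et (LP (LK LD1_c8 LD2_c9 LD3_c27)) = (LP (LK LD1_c8 LD2_c2 LD3_c50)) :=
  Lgr Lrot71 (Lpe (K23.f27990 IH) (Lpe (K21.f52260 IH) (Lpr_df (K10.f52247 IH) (Lpe (K10.f52261 IH) (Lpe (K10.f31023 IH) (Lpn (LP (LK LD1_c8 LD2_c2 LD3_c50))))))))
theorem f52365 : Led Lsl_dt (LP (LK LD1_c15 LD2_c21 LD3_c54)) = (LP (LK LD1_c8 LD2_c9 LD3_c26)) :=
  Lre_d IH (LK LD1_c15 LD2_c21 LD3_c54) (LK LD1_c8 LD2_c9 LD3_c26) Lrfl Lrfl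
theorem f52988 : Led Lsl_et (LP (LK LD1_c15 LD2_c21 LD3_c54)) = (LP (LK LD1_c25 LD2_c13 LD3_c32)) :=
  Lre_e IH (LK LD1_c15 LD2_c21 LD3_c54) (LK LD1_c25 LD2_c13 LD3_c32) Lrfl Lrfl
theorem f290926 : Led Lsl_et (LP (LK LD1_c15 LD2_c16 LD3_c61)) = (LP (LK LD1_c25 LD2_c7 LD3_c0)) :=
  Lre_e IH (LK LD1_c15 LD2_c16 LD3_c61) (LK LD1_c25 LD2_c7 LD3_c0) Lrfl Lrfl
theorem f290928 : Led Lsl_gf (LP (LK LD1_c25 LD2_c13 LD3_c32)) = (LP (LK LD1_c25 LD2_c7 LD3_c0)) :=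
  Lgr Lrot141 (Lpe (f52988 IH) (Lpr_dt (f52365 IH) (Lpr_gt (K23.f28008 IH) (Lpe (K10.f27987 IH) (Lpr_et (f52262 IH) (Lpr_gt (K15.f189148 IH) (Lpr_dt (K15.f189147 IH) (Lpe (K15.f259155 IH) (Lpr_df (K19.f290911 IH) (Lpr_et (f290926 IH) (Lpn (LP (LK LD1_c25 LD2_c7 LD3_c0)))))))))))))
theorem f228269 : Led Lsl_et (LP (LK LD1_c1 LD2_c19 LD3_c7)) = (LP (LK LD1_c2 LD2_c45 LD3_c32)) :=
  Lre_e IH (LK LD1_c1 LD2_c19 LD3_c7) (LK LD1_c2 LD2_c45 LD3_c32) Lrfl Lrfl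
theorem f216452 : Led Lsl_gt (LP (LK LD1_c2 LD2_c45 LD3_c32)) = (LP (LK LD1_c5 LD2_c39 LD3_c8)) :=
  Lre_g IH (LK LD1_c2 LD2_c45 LD3_c32) (LK LD1_c5 LD2_c39 LD3_c8) Lrfl Lrfl
theorem f228270 : Led Lsl_dt (LP (LK LD1_c5 LD2_c39 LD3_c8)) = (LP (LK LD1_c11 LD2_c9 LD3_c18)) :=
  Lre_d IH (LK LD1_c5 LD2_c39 LD3_c8) (LK LD1_c11 LD2_c9 LD3_c18) Lrfl Lrfl
theorem f228271 : Led Lsl_gt (LP (LK LD1_c11 LD2_c9 LD3_c18)) = (LP (LK LD1_c20 LD2_c3 LD3_c29)) :=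
  Lre_g IH (LK LD1_c11 LD2_c9 LD3_c18) (LK LD1_c20 LD2_c3 LD3_c29) Lrfl Lrfl
theorem f52989 : Led Lsl_et (LP (LK LD1_c15 LD2_c21 LD3_c55)) = (LP (LK LD1_c8 LD2_c9 LD3_c26)) :=
  Lre_e IH (LK LD1_c15 LD2_c21 LD3_c55) (LK LD1_c8 LD2_c9 LD3_c26) Lrfl Lrfl
theorem f228272 : Led Lsl_df (LP (LK LD1_c20 LD2_c3 LD3_c29)) = (LP (LK LD1_c15 LD2_c21 LD3_c55)) :=
  Lgr Lrot132 (Lpe (f228271 IH) (Lpe (f228270 IH) (Lpe (f216452 IH) (Lpe (f228269 IH) (Lpr_dt (K12.f228154 IH) (Lpr_gf (K17.f211443 IH) (Lpr_df (K12.f52243 IH) (Lpr_et (K21.f52260 IH) (Lpe (K23.f28008 IH) (Lpe (f52989 IH) (Lpn (LP (LK LD1_c15 LD2_c21 LD3_c55)))))))))))))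
theorem f228377 : Led Lsl_et (LP (LK LD1_c20 LD2_c3 LD3_c29)) = (LP (LK LD1_c29 LD2_c16 LD3_c56)) :=
  Lre_e IH (LK LD1_c20 LD2_c3 LD3_c29) (LK LD1_c29 LD2_c16 LD3_c56) Lrfl Lrfl
theorem f228378 : Led Lsl_et (LP (LK LD1_c8 LD2_c9 LD3_c26)) = (LP (LK LD1_c15 LD2_c21 LD3_c55)) :=
  Lre_e IH (LK LD1_c8 LD2_c9 LD3_c26) (LK LD1_c15 LD2_c21 LD3_c55) Lrfl Lrfl
theorem f228379 : Led Lsl_et (LP (LK LD1_c25 LD2_c13 LD3_c32)) = (LP (LK LD1_c15 LD2_c21 LD3_c54)) :=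
  Lre_e IH (LK LD1_c25 LD2_c13 LD3_c32) (LK LD1_c15 LD2_c21 LD3_c54) Lrfl Lrfl
theorem f228380 : Led Lsl_dt (LP (LK LD1_c29 LD2_c16 LD3_c56)) = (LP (LK LD1_c25 LD2_c13 LD3_c32)) :=
  Lgr Lrot77 (Lpe (f228377 IH) (Lpr_df (f228272 IH) (Lpe (f228378 IH) (Lpe (f52365 IH) (Lpe (f228379 IH) (Lpn (LP (LK LD1_c25 LD2_c13 LD3_c32))))))))
theorem f228357 : Led Lsl_et (LP (LK LD1_c29 LD2_c16 LD3_c56)) = (LP (LK LD1_c20 LD2_c3 LD3_c29)) :=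
  Lre_e IH (LK LD1_c29 LD2_c16 LD3_c56) (LK LD1_c20 LD2_c3 LD3_c29) Lrfl Lrfl
theorem f350222 : Led Lsl_gf (LP (LK LD1_c11 LD2_c9 LD3_c21)) = (LP (LK LD1_c20 LD2_c3 LD3_c29)) :=
  Lgr Lrot138 (Lpr_dt (f228312 IH) (Lpr_gt (K19.f228279 IH) (Lpe (K19.f228263 IH) (Lpr_et (f350216 IH) (Lpr_gt (K21.f233800 IH) (Lpe (f233833 IH) (Lpr_dt (f290922 IH) (Lpe (f290928 IH) (Lpe (f228380 IH) (Lpr_et (f228357 IH) (Lpn (LP (LK LD1_c20 LD2_c3 LD3_c29)))))))))))))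
theorem f228310 : Led Lsl_dt (LP (LK LD1_c5 LD2_c39 LD3_c9)) = (LP (LK LD1_c11 LD2_c9 LD3_c21)) :=
  Lre_d IH (LK LD1_c5 LD2_c39 LD3_c9) (LK LD1_c11 LD2_c9 LD3_c21) Lrfl Lrfl
theorem f332768 : Led Lsl_et (LP (LK LD1_c11 LD2_c9 LD3_c21)) = (LP (LK LD1_c20 LD2_c3 LD3_c37)) :=
  Lre_e IH (LK LD1_c11 LD2_c9 LD3_c21) (LK LD1_c20 LD2_c3 LD3_c37) Lrfl Lrfl
theorem f350224 : Led Lsl_gt (LP (LK LD1_c29 LD2_c17 LD3_c0)) = (LP (LK LD1_c20 LD2_c3 LD3_c37)) :=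
  Lre_g IH (LK LD1_c29 LD2_c17 LD3_c0) (LK LD1_c20 LD2_c3 LD3_c37) Lrfl Lrfl
theorem f346340 : Led Lsl_dt (LP (LK LD1_c25 LD2_c10 LD3_c47)) = (LP (LK LD1_c18 LD2_c5 LD3_c37)) :=
  Lgr Lrot42 (Lpr_df (K23.f346199 IH) (Lpn (LP (LK LD1_c18 LD2_c5 LD3_c37))))
theorem f350225 : Led Lsl_ef (LP (LK LD1_c29 LD2_c17 LD3_c0)) = (LP (LK LD1_c25 LD2_c10 LD3_c47)) :=
  Lgr Lrot114 (Lpr_gt (f350224 IH) (Lpe (f332768 IH) (Lpr_dt (f228312 IH) (Lpr_gt (K19.f228279 IH) (Lpe (K19.f228263 IH) (Lpr_et (f350216 IH) (Lpr_gt (K21.f233800 IH) (Lpe (K21.f233808 IH) (Lpr_gt (K23.f328718 IH) (Lpe (f346340 IH) (Lpn (LP (LK LD1_c25 LD2_c10 LD3_c47)))))))))))))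
theorem f350229 : Led Lsl_et (LP (LK LD1_c29 LD2_c17 LD3_c0)) = (LP (LK LD1_c25 LD2_c10 LD3_c47)) :=
  Lgr Lrot87 (Lpr_ef (f350225 IH) (Lpn (LP (LK LD1_c25 LD2_c10 LD3_c47))))
theorem f323753 : Led Lsl_ct (LP (LK LD1_c9 LD2_c53 LD3_c13)) = (LP (LK LD1_c18 LD2_c5 LD3_c37)) :=
  Lre_c IH (LK LD1_c9 LD2_c53 LD3_c13) (LK LD1_c18 LD2_c5 LD3_c37) Lrfl Lrfl
theorem f177886 : Led Lsl_ct (LP (LK LD1_c17 LD2_c53 LD3_c49)) = (LP (LK LD1_c9 LD2_c44 LD3_c29)) :=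
  Lre_c IH (LK LD1_c17 LD2_c53 LD3_c49) (LK LD1_c9 LD2_c44 LD3_c29) Lrfl Lrfl
theorem f323754 : Led Lsl_et (LP (LK LD1_c18 LD2_c5 LD3_c37)) = (LP (LK LD1_c17 LD2_c53 LD3_c49)) :=
  Lgr Lrot158 (Lpe (f323753 IH) (Lpr_ef (K21.f323693 IH) (Lpe (f177886 IH) (Lpn (LP (LK LD1_c17 LD2_c53 LD3_c49))))))
theorem f328714 : Led Lsl_et (LP (LK LD1_c15 LD2_c21 LD3_c56)) = (LP (LK LD1_c25 LD2_c13 LD3_c34)) :=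
  Lre_e IH (LK LD1_c15 LD2_c21 LD3_c56) (LK LD1_c25 LD2_c13 LD3_c34) Lrfl Lrfl
theorem f350231 : Led Lsl_df (LP (LK LD1_c29 LD2_c17 LD3_c0)) = (LP (LK LD1_c25 LD2_c13 LD3_c34)) :=
  Lgr Lrot70 (Lpr_et (f350229 IH) (Lpr_dt (f346340 IH) (Lpr_et (f323754 IH) (Lpe (K23.f328712 IH) (Lpr_et (f328714 IH) (Lpn (LP (LK LD1_c25 LD2_c13 LD3_c34))))))))
theorem f52393 : Led Lsl_et (LP (LK LD1_c25 LD2_c13 LD3_c34)) = (LP (LK LD1_c15 LD2_c21 LD3_c56)) :=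
  Lre_e IH (LK LD1_c25 LD2_c13 LD3_c34) (LK LD1_c15 LD2_c21 LD3_c56) Lrfl Lrfl
theorem f188038 : Led Lsl_et (LP (LK LD1_c19 LD2_c57 LD3_c23)) = (LP (LK LD1_c11 LD2_c4 LD3_c38)) :=
  Lre_e IH (LK LD1_c19 LD2_c57 LD3_c23) (LK LD1_c11 LD2_c4 LD3_c38) Lrfl Lrfl
theorem f350236 : Led Lsl_df (LP (LK LD1_c20 LD2_c3 LD3_c37)) = (LP (LK LD1_c19 LD2_c57 LD3_c23)) :=
  Lgr Lrot168 (Lpe (f350224 IH) (Lpr_df (f350231 IH) (Lpr_et (f52393 IH) (Lpe (K23.f52389 IH) (Lpr_ef (K10.f52528 IH) (Lpr_dt (K10.f31023 IH) (Lpr_gf (K10.f188027 IH) (Lpe (K15.f178250 IH) (Lpe (K15.f178251 IH) (Lpe (f188038 IH) (Lpn (LP (LK LD1_c19 LD2_c57 LD3_c23)))))))))))))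
theorem f350240 : Led Lsl_et (LP (LK LD1_c20 LD2_c3 LD3_c37)) = (LP (LK LD1_c11 LD2_c9 LD3_c21)) :=
  Lre_e IH (LK LD1_c20 LD2_c3 LD3_c37) (LK LD1_c11 LD2_c9 LD3_c21) Lrfl Lrfl
theorem f216497 : Led Lsl_et (LP (LK LD1_c11 LD2_c4 LD3_c38)) = (LP (LK LD1_c19 LD2_c57 LD3_c23)) :=
  Lre_e IH (LK LD1_c11 LD2_c4 LD3_c38) (LK LD1_c19 LD2_c57 LD3_c23) Lrfl Lrfl
theorem f350241 : Led Lsl_et (LP (LK LD1_c5 LD2_c39 LD3_c9)) = (LP (LK LD1_c6 LD2_c6 LD3_c58)) :=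
  Lgr Lrot71 (Lpe (f228312 IH) (Lpe (f350240 IH) (Lpr_df (f350236 IH) (Lpe (f216497 IH) (Lpe (K16.f274566 IH) (Lpn (LP (LK LD1_c6 LD2_c6 LD3_c58))))))))
theorem f228308 : Led Lsl_ct (LP (LK LD1_c5 LD2_c39 LD3_c9)) = (LP (LK LD1_c4 LD2_c19 LD3_c14)) :=
  Lgr Lrot59 (Lpr_cf (K19.f228305 IH) (Lpn (LP (LK LD1_c4 LD2_c19 LD3_c14))))
theorem f310522 : Led Lsl_df (LP (LK LD1_c5 LD2_c24 LD3_c33)) = (LP (LK LD1_c8 LD2_c3 LD3_c0)) :=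
  Lgr Lrot38 (Lpr_dt (K19.f310520 IH) (Lpn (LP (LK LD1_c8 LD2_c3 LD3_c0))))
theorem f310547 : Led Lsl_gf (LP (LK LD1_c8 LD2_c9 LD3_c34)) = (LP (LK LD1_c15 LD2_c9 LD3_c29)) :=
  Lgr Lrot138 (Lpe (K15.f238536 IH) (Lpr_gt (K15.f238529 IH) (Lpe (K15.f238549 IH) (Lpr_et (K15.f238562 IH) (Lpr_gt (K15.f51251 IH) (Lpe (K19.f194433 IH) (Lpe (K22.f194475 IH) (Lpr_gt (K19.f194487 IH) (Lpr_df (f310522 IH) (Lpr_et (K19.f226868 IH) (Lpn (LP (LK LD1_c15 LD2_c9 LD3_c29)))))))))))))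
theorem f348705 : Led Lsl_gt (LP (LK LD1_c15 LD2_c29 LD3_c43)) = (LP (LK LD1_c17 LD2_c53 LD3_c6)) :=
  Lgr Lrot5 (Lpr_ft (K23.f348697 IH) (Lpr_at (K23.f348698 IH) (Lpr_gf (K19.f314525 IH) (Lpn (LP (LK LD1_c17 LD2_c53 LD3_c6))))))
theorem f314527 : Led Lsl_dt (LP (LK LD1_c17 LD2_c53 LD3_c6)) = (LP (LK LD1_c9 LD2_c43 LD3_c49)) :=
  Lre_d IH (LK LD1_c17 LD2_c53 LD3_c6) (LK LD1_c9 LD2_c43 LD3_c49) Lrfl Lrfl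
theorem f348707 : Led Lsl_cf (LP (LK LD1_c5 LD2_c24 LD3_c33)) = (LP (LK LD1_c9 LD2_c43 LD3_c49)) :=
  Lgr Lrot14 (Lpr_df (f310522 IH) (Lpe (K19.f200393 IH) (Lpr_df (K17.f223567 IH) (Lpe (K19.f187903 IH) (Lpe (K23.f339699 IH) (Lpr_gt (K23.f178211 IH) (Lpr_dt (K23.f192190 IH) (Lpr_gt (f348705 IH) (Lpr_dt (f314527 IH) (Lpn (LP (LK LD1_c9 LD2_c43 LD3_c49))))))))))))
theorem f168935 : Led Lsl_ct (LP (LK LD1_c2 LD2_c25 LD3_c51)) = (LP (LK LD1_c4 LD2_c56 LD3_c4)) :=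
  Lre_c IH (LK LD1_c2 LD2_c25 LD3_c51) (LK LD1_c4 LD2_c56 LD3_c4) Lrfl Lrfl
theorem f348714 : Led Lsl_cf (LP (LK LD1_c8 LD2_c3 LD3_c0)) = (LP (LK LD1_c8 LD2_c28 LD3_c10)) :=
  Lgr Lrot99 (Lpe (K19.f310520 IH) (Lpr_cf (f348707 IH) (Lpe (K19.f279620 IH) (Lpe (f168935 IH) (Lpe (K23.f168963 IH) (Lpr_df (K23.f345193 IH) (Lpr_gt (K23.f211274 IH) (Lpr_ct (K19.f221024 IH) (Lpr_gt (K19.f220969 IH) (Lpn (LP (LK LD1_c8 LD2_c28 LD3_c10))))))))))))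
theorem f238433 : Led Lsl_et (LP (LK LD1_c15 LD2_c54 LD3_c7)) = (LP (LK LD1_c8 LD2_c28 LD3_c10)) :=
  Lre_e IH (LK LD1_c15 LD2_c54 LD3_c7) (LK LD1_c8 LD2_c28 LD3_c10) Lrfl Lrfl
theorem f348720 : Led Lsl_ct (LP (LK LD1_c15 LD2_c9 LD3_c29)) = (LP (LK LD1_c15 LD2_c54 LD3_c7)) :=
  Lgr Lrot15 (Lpe (K19.f226868 IH) (Lpr_cf (f348714 IH) (Lpe (f238433 IH) (Lpn (LP (LK LD1_c15 LD2_c54 LD3_c7))))))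
theorem f350295 : Led Lsl_gt (LP (LK LD1_c15 LD2_c54 LD3_c7)) = (LP (LK LD1_c15 LD2_c21 LD3_c55)) :=
  Lgr Lrot94 (Lpe (f348720 IH) (Lpe (f310547 IH) (Lpe (K15.f238536 IH) (Lpr_gt (K15.f238529 IH) (Lpe (K15.f238527 IH) (Lpe (f228308 IH) (Lpe (f228312 IH) (Lpr_gf (f350222 IH) (Lpr_df (f228272 IH) (Lpn (LP (LK LD1_c15 LD2_c21 LD3_c55))))))))))))
theorem f244364 : Led Lsl_et (LP (LK LD1_c8 LD2_c28 LD3_c10)) = (LP (LK LD1_c15 LD2_c54 LD3_c7)) :=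
  Lre_e IH (LK LD1_c8 LD2_c28 LD3_c10) (LK LD1_c15 LD2_c54 LD3_c7) Lrfl Lrfl
theorem f350298 : Led Lsl_gt (LP (LK LD1_c11 LD2_c56 LD3_c59)) = (LP (LK LD1_c15 LD2_c54 LD3_c6)) :=
  Lgr Lrot112 (Lpe (K22.f168985 IH) (Lpr_et (K22.f290947 IH) (Lpe (K16.f169071 IH) (Lpe (f350241 IH) (Lpr_dt (f228310 IH) (Lpr_gf (f350222 IH) (Lpr_df (f228272 IH) (Lpe (f350295 IH) (Lpe (f244364 IH) (Lpr_dt (K19.f220970 IH) (Lpn (LP (LK LD1_c15 LD2_c54 LD3_c6)))))))))))))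
theorem f168959 : Led Lsl_gt (LP (LK LD1_c11 LD2_c56 LD3_c58)) = (LP (LK LD1_c6 LD2_c6 LD3_c61)) :=
  Lre_g IH (LK LD1_c11 LD2_c56 LD3_c58) (LK LD1_c6 LD2_c6 LD3_c61) Lrfl Lrfl
theorem f238455 : Led Lsl_dt (LP (LK LD1_c15 LD2_c54 LD3_c6)) = (LP (LK LD1_c8 LD2_c28 LD3_c10)) :=
  Lre_d IH (LK LD1_c15 LD2_c54 LD3_c6) (LK LD1_c8 LD2_c28 LD3_c10) Lrfl Lrfl
theorem f350302 : Led Lsl_cf (LP (LK LD1_c11 LD2_c56 LD3_c58)) = (LP (LK LD1_c8 LD2_c6 LD3_c38)) :=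
  Lgr Lrot166 (Lpr_gt (f168959 IH) (Lpr_dt (K22.f168985 IH) (Lpr_gt (f350298 IH) (Lpr_dt (f238455 IH) (Lpe (f348714 IH) (Lpe (K19.f310520 IH) (Lpe (K19.f194487 IH) (Lpr_df (K22.f194475 IH) (Lpe (K22.f194448 IH) (Lpn (LP (LK LD1_c8 LD2_c6 LD3_c38))))))))))))
theorem f168902 : Led Lsl_gt (LP (LK LD1_c1 LD2_c25 LD3_c32)) = (LP (LK LD1_c2 LD2_c59 LD3_c40)) :=
  Lre_g IH (LK LD1_c1 LD2_c25 LD3_c32) (LK LD1_c2 LD2_c59 LD3_c40) Lrfl Lrfl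
theorem f169013 : Led Lsl_bt (LP (LK LD1_c6 LD2_c7 LD3_c7)) = (LP (LK LD1_c2 LD2_c59 LD3_c40)) :=
  Lre_b IH (LK LD1_c6 LD2_c7 LD3_c7) (LK LD1_c2 LD2_c59 LD3_c40) Lrfl Lrfl
theorem f169055 : Led Lsl_ct (LP (LK LD1_c6 LD2_c7 LD3_c7)) = (LP (LK LD1_c11 LD2_c57 LD3_c8)) :=
  Lre_c IH (LK LD1_c6 LD2_c7 LD3_c7) (LK LD1_c11 LD2_c57 LD3_c8) Lrfl Lrfl
theorem f350311 : Led Lsl_gt (LP (LK LD1_c11 LD2_c57 LD3_c8)) = (LP (LK LD1_c20 LD2_c55 LD3_c56)) :=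
  Lgr Lrot65 (Lpe (f169055 IH) (Lpr_bt (f169013 IH) (Lpe (f168902 IH) (Lpe (K20.f168890 IH) (Lpr_ct (K23.f168984 IH) (Lpe (f168959 IH) (Lpr_cf (f350302 IH) (Lpe (K22.f338573 IH) (Lpe (K21.f253015 IH) (Lpr_ct (K19.f196795 IH) (Lpn (LP (LK LD1_c20 LD2_c55 LD3_c56)))))))))))))
theorem f196790 : Led Lsl_ct (LP (LK LD1_c20 LD2_c55 LD3_c56)) = (LP (LK LD1_c11 LD2_c52 LD3_c47)) :=
  Lre_c IH (LK LD1_c20 LD2_c55 LD3_c56) (LK LD1_c11 LD2_c52 LD3_c47) Lrfl Lrfl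
theorem f224762 : Led Lsl_ct (LP (LK LD1_c4 LD2_c54 LD3_c38)) = (LP (LK LD1_c4 LD2_c0 LD3_c59)) :=
  Lgr Lrot8 (Lpr_gt (K12.f41212 IH) (Lpr_dt (K12.f55114 IH) (Lpr_gt (K14.f224704 IH) (Lpr_dt (K12.f171887 IH) (Lpe (K12.f171982 IH) (Lpe (K12.f172020 IH) (Lpr_gf (K9.f182167 IH) (Lpe (K9.f30858 IH) (Lpe (K12.f30874 IH) (Lpn (LP (LK LD1_c4 LD2_c0 LD3_c59))))))))))))
theorem f55123 : Led Lsl_et (LP (LK LD1_c9 LD2_c40 LD3_c53)) = (LP (LK LD1_c4 LD2_c54 LD3_c38)) :=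
  Lre_e IH (LK LD1_c9 LD2_c40 LD3_c53) (LK LD1_c4 LD2_c54 LD3_c38) Lrfl Lrfl
theorem f224765 : Led Lsl_cf (LP (LK LD1_c9 LD2_c40 LD3_c53)) = (LP (LK LD1_c8 LD2_c2 LD3_c43)) :=
  Lgr Lrot39 (Lpr_et (f55123 IH) (Lpr_ct (f224762 IH) (Lpr_et (K19.f196776 IH) (Lpn (LP (LK LD1_c8 LD2_c2 LD3_c43))))))
theorem f224774 : Led Lsl_ct (LP (LK LD1_c17 LD2_c48 LD3_c31)) = (LP (LK LD1_c15 LD2_c8 LD3_c55)) :=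
  Lgr Lrot40 (Lpe (K22.f224773 IH) (Lpr_cf (f224765 IH) (Lpe (K19.f196783 IH) (Lpn (LP (LK LD1_c15 LD2_c8 LD3_c55))))))
theorem f348626 : Led Lsl_bt (LP (LK LD1_c5 LD2_c24 LD3_c34)) = (LP (LK LD1_c8 LD2_c57 LD3_c46)) :=
  Lgr Lrot119 (Lpe (K19.f312160 IH) (Lpr_bf (K23.f348553 IH) (Lpr_ef (K21.f285604 IH) (Lpn (LP (LK LD1_c8 LD2_c57 LD3_c46))))))
theorem f348628 : Led Lsl_bf (LP (LK LD1_c5 LD2_c24 LD3_c34)) = (LP (LK LD1_c8 LD2_c57 LD3_c46)) :=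
  Lgr Lrot24 (Lpr_bt (f348626 IH) (Lpn (LP (LK LD1_c8 LD2_c57 LD3_c46))))
theorem f329796 : Led Lsl_bt (LP (LK LD1_c15 LD2_c8 LD3_c55)) = (LP (LK LD1_c10 LD2_c39 LD3_c39)) :=
  Lgr Lrot95 (Lpe (K19.f196784 IH) (Lpr_bf (K22.f253018 IH) (Lpr_df (K21.f329794 IH) (Lpn (LP (LK LD1_c10 LD2_c39 LD3_c39))))))
theorem f224776 : Led Lsl_cf (LP (LK LD1_c17 LD2_c48 LD3_c31)) = (LP (LK LD1_c15 LD2_c8 LD3_c55)) :=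
  Lgr Lrot11 (Lpr_ct (f224774 IH) (Lpn (LP (LK LD1_c15 LD2_c8 LD3_c55))))
theorem f263047 : Led Lsl_ct (LP (LK LD1_c8 LD2_c57 LD3_c46)) = (LP (LK LD1_c16 LD2_c46 LD3_c28)) :=
  Lre_c IH (LK LD1_c8 LD2_c57 LD3_c46) (LK LD1_c16 LD2_c46 LD3_c28) Lrfl Lrfl
theorem f278126 : Led Lsl_et (LP (LK LD1_c2 LD2_c11 LD3_c57)) = (LP (LK LD1_c4 LD2_c29 LD3_c49)) :=
  Lre_e IH (LK LD1_c2 LD2_c11 LD3_c57) (LK LD1_c4 LD2_c29 LD3_c49) Lrfl Lrfl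
theorem f301445 : Led Lsl_gf (LP (LK LD1_c10 LD2_c44 LD3_c8)) = (LP (LK LD1_c8 LD2_c31 LD3_c28)) :=
  Lgr Lrot134 (Lpe (K21.f285603 IH) (Lpr_et (K22.f285609 IH) (Lpr_gt (K17.f263043 IH) (Lpe (f278126 IH) (Lpr_dt (K18.f278115 IH) (Lpe (K13.f246255 IH) (Lpe (K16.f190837 IH) (Lpr_et (K21.f246259 IH) (Lpr_gt (K21.f246260 IH) (Lpr_dt (K21.f301440 IH) (Lpn (LP (LK LD1_c8 LD2_c31 LD3_c28)))))))))))))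
theorem f285677 : Led Lsl_dt (LP (LK LD1_c19 LD2_c25 LD3_c39)) = (LP (LK LD1_c10 LD2_c44 LD3_c7)) :=
  Lre_d IH (LK LD1_c19 LD2_c25 LD3_c39) (LK LD1_c10 LD2_c44 LD3_c7) Lrfl Lrfl
theorem f236290 : Led Lsl_ct (LP (LK LD1_c8 LD2_c18 LD3_c28)) = (LP (LK LD1_c4 LD2_c9 LD3_c12)) :=
  Lre_c IH (LK LD1_c8 LD2_c18 LD3_c28) (LK LD1_c4 LD2_c9 LD3_c12) Lrfl Lrfl
theorem f236332 : Led Lsl_dt (LP (LK LD1_c15 LD2_c37 LD3_c29)) = (LP (LK LD1_c25 LD2_c32 LD3_c22)) :=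
  Lre_d IH (LK LD1_c15 LD2_c37 LD3_c29) (LK LD1_c25 LD2_c32 LD3_c22) Lrfl Lrfl
theorem f301448 : Led Lsl_gf (LP (LK LD1_c19 LD2_c25 LD3_c39)) = (LP (LK LD1_c25 LD2_c32 LD3_c22)) :=
  Lgr Lrot143 (Lpr_dt (f285677 IH) (Lpe (K23.f285676 IH) (Lpe (K21.f285598 IH) (Lpr_gf (f301445 IH) (Lpe (K21.f301440 IH) (Lpe (K21.f246260 IH) (Lpe (f236290 IH) (Lpr_gt (K23.f236331 IH) (Lpr_dt (f236332 IH) (Lpn (LP (LK LD1_c25 LD2_c32 LD3_c22))))))))))))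
theorem f285670 : Led Lsl_dt (LP (LK LD1_c10 LD2_c44 LD3_c7)) = (LP (LK LD1_c19 LD2_c25 LD3_c39)) :=
  Lre_d IH (LK LD1_c10 LD2_c44 LD3_c7) (LK LD1_c19 LD2_c25 LD3_c39) Lrfl Lrfl
theorem f285664 : Led Lsl_ef (LP (LK LD1_c10 LD2_c44 LD3_c7)) = (LP (LK LD1_c16 LD2_c46 LD3_c28)) :=
  Lgr Lrot28 (Lpr_ct (K23.f285663 IH) (Lpr_et (K22.f285609 IH) (Lpr_ct (f263047 IH) (Lpn (LP (LK LD1_c16 LD2_c46 LD3_c28))))))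
theorem f285671 : Led Lsl_et (LP (LK LD1_c10 LD2_c44 LD3_c7)) = (LP (LK LD1_c16 LD2_c46 LD3_c28)) :=
  Lgr Lrot87 (Lpr_ef (f285664 IH) (Lpn (LP (LK LD1_c16 LD2_c46 LD3_c28))))
theorem f301453 : Led Lsl_et (LP (LK LD1_c4 LD2_c55 LD3_c25)) = (LP (LK LD1_c9 LD2_c42 LD3_c26)) :=
  Lre_e IH (LK LD1_c4 LD2_c55 LD3_c25) (LK LD1_c9 LD2_c42 LD3_c26) Lrfl Lrfl
theorem f301454 : Led Lsl_gt (LP (LK LD1_c16 LD2_c46 LD3_c28)) = (LP (LK LD1_c9 LD2_c42 LD3_c26)) :=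
  Lgr Lrot131 (Lpe (f285671 IH) (Lpr_dt (f285670 IH) (Lpr_gf (f301448 IH) (Lpe (f236332 IH) (Lpe (K23.f236331 IH) (Lpe (K20.f295308 IH) (Lpr_dt (K17.f236320 IH) (Lpe (K18.f295297 IH) (Lpe (K18.f217487 IH) (Lpr_et (f301453 IH) (Lpn (LP (LK LD1_c9 LD2_c42 LD3_c26)))))))))))))
theorem f217543 : Led Lsl_bt (LP (LK LD1_c4 LD2_c55 LD3_c26)) = (LP (LK LD1_c2 LD2_c25 LD3_c37)) :=
  Lre_b IH (LK LD1_c4 LD2_c55 LD3_c26) (LK LD1_c2 LD2_c25 LD3_c37) Lrfl Lrfl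
theorem f217563 : Led Lsl_gt (LP (LK LD1_c2 LD2_c25 LD3_c37)) = (LP (LK LD1_c4 LD2_c55 LD3_c30)) :=
  Lre_g IH (LK LD1_c2 LD2_c25 LD3_c37) (LK LD1_c4 LD2_c55 LD3_c30) Lrfl Lrfl
theorem f301461 : Led Lsl_ct (LP (LK LD1_c4 LD2_c55 LD3_c30)) = (LP (LK LD1_c9 LD2_c42 LD3_c40)) :=
  Lre_c IH (LK LD1_c4 LD2_c55 LD3_c30) (LK LD1_c9 LD2_c42 LD3_c40) Lrfl Lrfl
theorem f348630 : Led Lsl_gf (LP (LK LD1_c17 LD2_c48 LD3_c31)) = (LP (LK LD1_c9 LD2_c42 LD3_c40)) :=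
  Lgr Lrot129 (Lpr_cf (f224776 IH) (Lpr_bt (f329796 IH) (Lpr_gt (K19.f312153 IH) (Lpr_bf (f348628 IH) (Lpr_ct (f263047 IH) (Lpr_gt (f301454 IH) (Lpe (K23.f217615 IH) (Lpr_bt (f217543 IH) (Lpr_gt (f217563 IH) (Lpr_ct (f301461 IH) (Lpn (LP (LK LD1_c9 LD2_c42 LD3_c40)))))))))))))
theorem f350315 : Led Lsl_gf (LP (LK LD1_c6 LD2_c7 LD3_c7)) = (LP (LK LD1_c4 LD2_c55 LD3_c32)) :=
  Lgr Lrot147 (Lpr_ct (f169055 IH) (Lpr_gt (f350311 IH) (Lpr_ct (f196790 IH) (Lpr_df (K19.f196792 IH) (Lpe (f224774 IH) (Lpr_gf (f348630 IH) (Lpe (f301461 IH) (Lpe (f217563 IH) (Lpe (K15.f217502 IH) (Lpn (LP (LK LD1_c4 LD2_c55 LD3_c32))))))))))))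
theorem f217507 : Led Lsl_ct (LP (LK LD1_c5 LD2_c17 LD3_c16)) = (LP (LK LD1_c10 LD2_c24 LD3_c5)) :=
  Lre_c IH (LK LD1_c5 LD2_c17 LD3_c16) (LK LD1_c10 LD2_c24 LD3_c5) Lrfl Lrfl
theorem f53588 : Led Lsl_gt (LP (LK LD1_c8 LD2_c15 LD3_c15)) = (LP (LK LD1_c4 LD2_c7 LD3_c38)) :=
  Lre_g IH (LK LD1_c8 LD2_c15 LD3_c15) (LK LD1_c4 LD2_c7 LD3_c38) Lrfl Lrfl
theorem f282433 : Led Lsl_gt (LP (LK LD1_c6 LD2_c5 LD3_c35)) = (LP (LK LD1_c8 LD2_c15 LD3_c15)) :=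
  Lgr Lrot5 (Lpr_ft (K15.f264430 IH) (Lpr_at (K17.f282425 IH) (Lpe (f53588 IH) (Lpn (LP (LK LD1_c8 LD2_c15 LD3_c15))))))
theorem f282436 : Led Lsl_ct (LP (LK LD1_c8 LD2_c15 LD3_c15)) = (LP (LK LD1_c15 LD2_c31 LD3_c17)) :=
  Lre_c IH (LK LD1_c8 LD2_c15 LD3_c15) (LK LD1_c15 LD2_c31 LD3_c17) Lrfl Lrfl
theorem f217505 : Led Lsl_ct (LP (LK LD1_c9 LD2_c42 LD3_c26)) = (LP (LK LD1_c4 LD2_c55 LD3_c26)) :=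
  Lre_c IH (LK LD1_c9 LD2_c42 LD3_c26) (LK LD1_c4 LD2_c55 LD3_c26) Lrfl Lrfl
theorem f217516 : Led Lsl_ct (LP (LK LD1_c10 LD2_c24 LD3_c5)) = (LP (LK LD1_c5 LD2_c17 LD3_c16)) :=
  Lre_c IH (LK LD1_c10 LD2_c24 LD3_c5) (LK LD1_c5 LD2_c17 LD3_c16) Lrfl Lrfl
theorem f301456 : Led Lsl_gt (LP (LK LD1_c15 LD2_c31 LD3_c17)) = (LP (LK LD1_c10 LD2_c24 LD3_c5)) :=
  Lgr Lrot150 (Lpe (f282436 IH) (Lpe (f282433 IH) (Lpe (K15.f264433 IH) (Lpr_gt (K17.f263032 IH) (Lpr_ct (f263047 IH) (Lpr_gt (f301454 IH) (Lpr_ct (f217505 IH) (Lpr_df (K23.f217508 IH) (Lpe (f217516 IH) (Lpn (LP (LK LD1_c10 LD2_c24 LD3_c5))))))))))))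
theorem f350317 : Led Lsl_bt (LP (LK LD1_c8 LD2_c15 LD3_c15)) = (LP (LK LD1_c8 LD2_c6 LD3_c38)) :=
  Lgr Lrot92 (Lpr_ct (f282436 IH) (Lpr_gt (f301456 IH) (Lpe (f217507 IH) (Lpe (K15.f217503 IH) (Lpe (f350315 IH) (Lpr_ct (f169055 IH) (Lpr_gt (f350311 IH) (Lpe (K19.f196795 IH) (Lpr_bt (K21.f253015 IH) (Lpr_gt (K22.f338573 IH) (Lpn (LP (LK LD1_c8 LD2_c6 LD3_c38)))))))))))))
theorem f53589 : Led Lsl_et (LP (LK LD1_c15 LD2_c31 LD3_c18)) = (LP (LK LD1_c8 LD2_c15 LD3_c15)) :=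
  Lre_e IH (LK LD1_c15 LD2_c31 LD3_c18) (LK LD1_c8 LD2_c15 LD3_c15) Lrfl Lrfl
theorem f350325 : Led Lsl_bf (LP (LK LD1_c15 LD2_c31 LD3_c18)) = (LP (LK LD1_c15 LD2_c16 LD3_c20)) :=
  Lgr Lrot96 (Lpr_et (f53589 IH) (Lpr_bt (f350317 IH) (Lpr_et (K22.f194454 IH) (Lpn (LP (LK LD1_c15 LD2_c16 LD3_c20))))))
theorem f50398 : Led Lsl_et (LP (LK LD1_c2 LD2_c1 LD3_c10)) = (LP (LK LD1_c4 LD2_c7 LD3_c38)) :=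
  Lre_e IH (LK LD1_c2 LD2_c1 LD3_c10) (LK LD1_c4 LD2_c7 LD3_c38) Lrfl Lrfl
theorem f324166 : Led Lsl_df (LP (LK LD1_c10 LD2_c47 LD3_c29)) = (LP (LK LD1_c15 LD2_c31 LD3_c18)) :=
  Lgr Lrot132 (Lpr_gf (K23.f324158 IH) (Lpe (K21.f181864 IH) (Lpe (K21.f323482 IH) (Lpe (K9.f49626 IH) (Lpr_dt (K9.f49615 IH) (Lpe (K10.f53585 IH) (Lpe (K13.f49919 IH) (Lpr_et (f50398 IH) (Lpe (f53588 IH) (Lpe (f53589 IH) (Lpn (LP (LK LD1_c15 LD2_c31 LD3_c18)))))))))))))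
theorem f350330 : Led Lsl_bt (LP (LK LD1_c10 LD2_c47 LD3_c29)) = (LP (LK LD1_c8 LD2_c7 LD3_c39)) :=
  Lgr Lrot95 (Lpr_df (f324166 IH) (Lpr_bf (f350325 IH) (Lpe (K22.f338579 IH) (Lpn (LP (LK LD1_c8 LD2_c7 LD3_c39))))))
theorem f350334 : Led Lsl_bf (LP (LK LD1_c5 LD2_c28 LD3_c6)) = (LP (LK LD1_c4 LD2_c3 LD3_c31)) :=
  Lgr Lrot96 (Lpr_et (K23.f282968 IH) (Lpr_bt (f350330 IH) (Lpr_et (K22.f284242 IH) (Lpn (LP (LK LD1_c4 LD2_c3 LD3_c31))))))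
theorem f340860 : Led Lsl_bt (LP (LK LD1_c2 LD2_c40 LD3_c21)) = (LP (LK LD1_c5 LD2_c28 LD3_c4)) :=
  Lre_b IH (LK LD1_c2 LD2_c40 LD3_c21) (LK LD1_c5 LD2_c28 LD3_c4) Lrfl Lrfl
theorem f350341 : Led Lsl_dt (LP (LK LD1_c5 LD2_c28 LD3_c4)) = (LP (LK LD1_c4 LD2_c3 LD3_c31)) :=
  Lgr Lrot79 (Lpe (f340860 IH) (Lpe (K23.f282967 IH) (Lpr_bf (f350334 IH) (Lpn (LP (LK LD1_c4 LD2_c3 LD3_c31))))))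
theorem f284240 : Led Lsl_ct (LP (LK LD1_c8 LD2_c7 LD3_c38)) = (LP (LK LD1_c4 LD2_c3 LD3_c31)) :=
  Lre_c IH (LK LD1_c8 LD2_c7 LD3_c38) (LK LD1_c4 LD2_c3 LD3_c31) Lrfl Lrfl
theorem f284238 : Led Lsl_dt (LP (LK LD1_c15 LD2_c18 LD3_c18)) = (LP (LK LD1_c8 LD2_c7 LD3_c38)) :=
  Lre_d IH (LK LD1_c15 LD2_c18 LD3_c18) (LK LD1_c8 LD2_c7 LD3_c38) Lrfl Lrfl
theorem f338590 : Led Lsl_gt (LP (LK LD1_c8 LD2_c9 LD3_c33)) = (LP (LK LD1_c8 LD2_c7 LD3_c39)) :=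
  Lgr Lrot137 (Lpe (K15.f211454 IH) (Lpr_dt (K18.f28906 IH) (Lpe (K21.f323791 IH) (Lpr_df (K21.f236465 IH) (Lpe (K13.f228076 IH) (Lpr_gf (K22.f338586 IH) (Lpe (K22.f299098 IH) (Lpr_dt (K19.f28038 IH) (Lpr_gf (K22.f328122 IH) (Lpe (K22.f338579 IH) (Lpn (LP (LK LD1_c8 LD2_c7 LD3_c39)))))))))))))
theorem f323550 : Led Lsl_ct (LP (LK LD1_c8 LD2_c9 LD3_c25)) = (LP (LK LD1_c4 LD2_c56 LD3_c28)) :=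
  Lgr Lrot59 (Lpr_cf (K21.f323491 IH) (Lpn (LP (LK LD1_c4 LD2_c56 LD3_c28))))
theorem f338592 : Led Lsl_ct (LP (LK LD1_c8 LD2_c7 LD3_c39)) = (LP (LK LD1_c15 LD2_c18 LD3_c19)) :=
  Lre_c IH (LK LD1_c8 LD2_c7 LD3_c39) (LK LD1_c15 LD2_c18 LD3_c19) Lrfl Lrfl
theorem f338593 : Led Lsl_gf (LP (LK LD1_c17 LD2_c53 LD3_c49)) = (LP (LK LD1_c15 LD2_c18 LD3_c19)) :=
  Lgr Lrot104 (Lpr_ct (f177886 IH) (Lpe (K21.f323690 IH) (Lpe (f323550 IH) (Lpe (K21.f53007 IH) (Lpe (K21.f27989 IH) (Lpe (K15.f27998 IH) (Lpe (K15.f28003 IH) (Lpr_gt (f338590 IH) (Lpr_ct (f338592 IH) (Lpn (LP (LK LD1_c15 LD2_c18 LD3_c19))))))))))))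
theorem f338601 : Led Lsl_et (LP (LK LD1_c8 LD2_c7 LD3_c38)) = (LP (LK LD1_c15 LD2_c18 LD3_c19)) :=
  Lre_e IH (LK LD1_c8 LD2_c7 LD3_c38) (LK LD1_c15 LD2_c18 LD3_c19) Lrfl Lrfl
theorem f284239 : Led Lsl_dt (LP (LK LD1_c8 LD2_c7 LD3_c38)) = (LP (LK LD1_c15 LD2_c18 LD3_c18)) :=
  Lre_d IH (LK LD1_c8 LD2_c7 LD3_c38) (LK LD1_c15 LD2_c18 LD3_c18) Lrfl Lrfl
theorem f338602 : Led Lsl_gt (LP (LK LD1_c15 LD2_c17 LD3_c7)) = (LP (LK LD1_c15 LD2_c18 LD3_c18)) :=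
  Lgr Lrot112 (Lpe (K20.f52313 IH) (Lpr_et (K20.f52312 IH) (Lpe (K13.f30967 IH) (Lpe (K10.f52324 IH) (Lpr_dt (K10.f52335 IH) (Lpr_gf (K23.f52390 IH) (Lpr_df (K23.f328712 IH) (Lpr_gf (f338593 IH) (Lpe (f338601 IH) (Lpr_dt (f284239 IH) (Lpn (LP (LK LD1_c15 LD2_c18 LD3_c18)))))))))))))
theorem f350347 : Led Lsl_gf (LP (LK LD1_c5 LD2_c28 LD3_c4)) = (LP (LK LD1_c5 LD2_c22 LD3_c29)) :=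
  Lgr Lrot143 (Lpr_dt (f350341 IH) (Lpe (f284240 IH) (Lpe (f284238 IH) (Lpe (f338602 IH) (Lpe (K20.f52313 IH) (Lpr_gf (K23.f346237 IH) (Lpe (K23.f346209 IH) (Lpr_gt (K23.f194717 IH) (Lpr_dt (K21.f194707 IH) (Lpn (LP (LK LD1_c5 LD2_c22 LD3_c29))))))))))))
theorem f194736 : Led Lsl_ft (LP (LK LD1_c5 LD2_c22 LD3_c29)) = (LP (LK LD1_c10 LD2_c35 LD3_c21)) :=
  Lre_f IH (LK LD1_c5 LD2_c22 LD3_c29) (LK LD1_c10 LD2_c35 LD3_c21) Lrfl Lrfl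
theorem f305595 : Led Lsl_at (LP (LK LD1_c10 LD2_c35 LD3_c21)) = (LP (LK LD1_c10 LD2_c30 LD3_c55)) :=
  Lgr Lrot51 (Lpe (K10.f194733 IH) (Lpr_af (K19.f305591 IH) (Lpe (K15.f42437 IH) (Lpn (LP (LK LD1_c10 LD2_c30 LD3_c55))))))
theorem f350368 : Led Lsl_gt (LP (LK LD1_c5 LD2_c28 LD3_c4)) = (LP (LK LD1_c10 LD2_c30 LD3_c55)) :=
  Lgr Lrot46 (Lpr_gf (f350347 IH) (Lpr_ft (f194736 IH) (Lpr_at (f305595 IH) (Lpn (LP (LK LD1_c10 LD2_c30 LD3_c55))))))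
theorem f350361 : Led Lsl_ct (LP (LK LD1_c5 LD2_c28 LD3_c4)) = (LP (LK LD1_c10 LD2_c47 LD3_c25)) :=
  Lre_c IH (LK LD1_c5 LD2_c28 LD3_c4) (LK LD1_c10 LD2_c47 LD3_c25) Lrfl Lrfl
theorem f320931 : Led Lsl_ef (LP (LK LD1_c15 LD2_c12 LD3_c30)) = (LP (LK LD1_c18 LD2_c21 LD3_c38)) :=
  Lgr Lrot73 (Lpe (K23.f266656 IH) (Lpr_et (K20.f266653 IH) (Lpr_dt (K20.f310581 IH) (Lpr_et (K20.f310575 IH) (Lpr_dt (K20.f320927 IH) (Lpn (LP (LK LD1_c18 LD2_c21 LD3_c38))))))))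
theorem f346202 : Led Lsl_gt (LP (LK LD1_c4 LD2_c3 LD3_c57)) = (LP (LK LD1_c8 LD2_c2 LD3_c59)) :=
  Lgr Lrot139 (Lpe (K23.f237021 IH) (Lpr_gf (K23.f346197 IH) (Lpe (K15.f259128 IH) (Lpe (K18.f259124 IH) (Lpr_gf (K21.f310583 IH) (Lpr_df (K23.f320929 IH) (Lpe (f320931 IH) (Lpe (K19.f293515 IH) (Lpe (K18.f269250 IH) (Lpr_dt (K16.f269260 IH) (Lpn (LP (LK LD1_c8 LD2_c2 LD3_c59)))))))))))))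
theorem f218984 : Led Lsl_bt (LP (LK LD1_c8 LD2_c2 LD3_c59)) = (LP (LK LD1_c15 LD2_c9 LD3_c10)) :=
  Lre_b IH (LK LD1_c8 LD2_c2 LD3_c59) (LK LD1_c15 LD2_c9 LD3_c10) Lrfl Lrfl
theorem f293152 : Led Lsl_et (LP (LK LD1_c4 LD2_c4 LD3_c6)) = (LP (LK LD1_c8 LD2_c2 LD3_c59)) :=
  Lgr Lrot74 (Lpe (K18.f211327 IH) (Lpr_ef (K17.f293148 IH) (Lpe (f218984 IH) (Lpn (LP (LK LD1_c8 LD2_c2 LD3_c59))))))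
theorem f346223 : Led Lsl_gf (LP (LK LD1_c8 LD2_c39 LD3_c16)) = (LP (LK LD1_c8 LD2_c7 LD3_c43)) :=
  Lgr Lrot134 (Lpr_df (K23.f346217 IH) (Lpe (K23.f346212 IH) (Lpr_gt (f346202 IH) (Lpe (f293152 IH) (Lpr_dt (K11.f211307 IH) (Lpr_gt (K19.f293314 IH) (Lpr_df (K19.f310518 IH) (Lpr_et (K19.f256646 IH) (Lpr_gt (K19.f256640 IH) (Lpr_dt (K15.f198991 IH) (Lpn (LP (LK LD1_c8 LD2_c7 LD3_c43)))))))))))))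
theorem f310600 : Led Lsl_cf (LP (LK LD1_c8 LD2_c27 LD3_c40)) = (LP (LK LD1_c4 LD2_c52 LD3_c49)) :=
  Lgr Lrot11 (Lpr_ct (K23.f310597 IH) (Lpn (LP (LK LD1_c4 LD2_c52 LD3_c49))))
theorem f189179 : Led Lsl_ct (LP (LK LD1_c4 LD2_c14 LD3_c28)) = (LP (LK LD1_c2 LD2_c4 LD3_c37)) :=
  Lre_c IH (LK LD1_c4 LD2_c14 LD3_c28) (LK LD1_c2 LD2_c4 LD3_c37) Lrfl Lrfl
theorem f189372 : Led Lsl_ct (LP (LK LD1_c8 LD2_c27 LD3_c47)) = (LP (LK LD1_c4 LD2_c14 LD3_c31)) :=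
  Lre_c IH (LK LD1_c8 LD2_c27 LD3_c47) (LK LD1_c4 LD2_c14 LD3_c31) Lrfl Lrfl
theorem f231572 : Led Lsl_gt (LP (LK LD1_c15 LD2_c53 LD3_c28)) = (LP (LK LD1_c8 LD2_c27 LD3_c47)) :=
  Lre_g IH (LK LD1_c15 LD2_c53 LD3_c28) (LK LD1_c8 LD2_c27 LD3_c47) Lrfl Lrfl
theorem f346225 : Led Lsl_ct (LP (LK LD1_c8 LD2_c39 LD3_c16)) = (LP (LK LD1_c15 LD2_c53 LD3_c28)) :=
  Lgr Lrot152 (Lpr_gf (f346223 IH) (Lpe (K15.f198991 IH) (Lpe (K19.f310569 IH) (Lpe (f310600 IH) (Lpr_gt (K22.f238356 IH) (Lpr_ct (f189179 IH) (Lpe (K22.f27906 IH) (Lpe (f189372 IH) (Lpe (f231572 IH) (Lpn (LP (LK LD1_c15 LD2_c53 LD3_c28))))))))))))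
theorem f346229 : Led Lsl_cf (LP (LK LD1_c8 LD2_c39 LD3_c16)) = (LP (LK LD1_c15 LD2_c53 LD3_c28)) :=
  Lgr Lrot11 (Lpr_ct (f346225 IH) (Lpn (LP (LK LD1_c15 LD2_c53 LD3_c28))))
theorem f346297 : Led Lsl_et (LP (LK LD1_c15 LD2_c3 LD3_c15)) = (LP (LK LD1_c15 LD2_c53 LD3_c28)) :=
  Lgr Lrot158 (Lpr_cf (K23.f346293 IH) (Lpe (K23.f346221 IH) (Lpr_cf (f346229 IH) (Lpn (LP (LK LD1_c15 LD2_c53 LD3_c28))))))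
theorem f346305 : Led Lsl_ef (LP (LK LD1_c15 LD2_c3 LD3_c15)) = (LP (LK LD1_c15 LD2_c53 LD3_c28)) :=
  Lgr Lrot88 (Lpr_et (f346297 IH) (Lpn (LP (LK LD1_c15 LD2_c53 LD3_c28))))
theorem f316836 : Led Lsl_dt (LP (LK LD1_c5 LD2_c35 LD3_c20)) = (LP (LK LD1_c11 LD2_c2 LD3_c51)) :=
  Lre_d IH (LK LD1_c5 LD2_c35 LD3_c20) (LK LD1_c11 LD2_c2 LD3_c51) Lrfl Lrfl
theorem f316895 : Led Lsl_gt (LP (LK LD1_c19 LD2_c54 LD3_c22)) = (LP (LK LD1_c11 LD2_c2 LD3_c51)) :=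
  Lre_g IH (LK LD1_c19 LD2_c54 LD3_c22) (LK LD1_c11 LD2_c2 LD3_c51) Lrfl Lrfl
theorem f346307 : Led Lsl_df (LP (LK LD1_c19 LD2_c54 LD3_c22)) = (LP (LK LD1_c15 LD2_c53 LD3_c28)) :=
  Lgr Lrot170 (Lpr_gt (f316895 IH) (Lpe (f316836 IH) (Lpr_et (K20.f199403 IH) (Lpe (K20.f316883 IH) (Lpr_dt (K20.f235667 IH) (Lpr_gt (K20.f316874 IH) (Lpe (K19.f171303 IH) (Lpr_et (K19.f213725 IH) (Lpr_gt (K23.f213590 IH) (Lpr_ef (f346305 IH) (Lpn (LP (LK LD1_c15 LD2_c53 LD3_c28)))))))))))))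
theorem f346309 : Led Lsl_dt (LP (LK LD1_c19 LD2_c54 LD3_c22)) = (LP (LK LD1_c15 LD2_c53 LD3_c28)) :=
  Lgr Lrot42 (Lpr_df (f346307 IH) (Lpn (LP (LK LD1_c15 LD2_c53 LD3_c28))))
theorem f346313 : Led Lsl_gt (LP (LK LD1_c11 LD2_c4 LD3_c9)) = (LP (LK LD1_c19 LD2_c54 LD3_c22)) :=
  Lre_g IH (LK LD1_c11 LD2_c4 LD3_c9) (LK LD1_c19 LD2_c54 LD3_c22) Lrfl Lrfl
theorem f313196 : Led Lsl_dt (LP (LK LD1_c5 LD2_c35 LD3_c56)) = (LP (LK LD1_c11 LD2_c4 LD3_c9)) :=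
  Lre_d IH (LK LD1_c5 LD2_c35 LD3_c56) (LK LD1_c11 LD2_c4 LD3_c9) Lrfl Lrfl
theorem f350370 : Led Lsl_gt (LP (LK LD1_c10 LD2_c47 LD3_c25)) = (LP (LK LD1_c5 LD2_c35 LD3_c56)) :=
  Lgr Lrot94 (Lpe (f350361 IH) (Lpr_gt (f350368 IH) (Lpr_dt (K15.f42437 IH) (Lpr_gt (K23.f346214 IH) (Lpe (K23.f346217 IH) (Lpr_cf (f346229 IH) (Lpe (f346309 IH) (Lpe (f346313 IH) (Lpe (f313196 IH) (Lpn (LP (LK LD1_c5 LD2_c35 LD3_c56))))))))))))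
theorem f194715 : Led Lsl_ct (LP (LK LD1_c8 LD2_c6 LD3_c58)) = (LP (LK LD1_c15 LD2_c16 LD3_c56)) :=
  Lre_c IH (LK LD1_c8 LD2_c6 LD3_c58) (LK LD1_c15 LD2_c16 LD3_c56) Lrfl Lrfl
theorem f313197 : Led Lsl_ct (LP (LK LD1_c5 LD2_c35 LD3_c56)) = (LP (LK LD1_c2 LD2_c43 LD3_c53)) :=
  Lre_c IH (LK LD1_c5 LD2_c35 LD3_c56) (LK LD1_c2 LD2_c43 LD3_c53) Lrfl Lrfl
theorem f350374 : Led Lsl_gt (LP (LK LD1_c15 LD2_c16 LD3_c56)) = (LP (LK LD1_c11 LD2_c4 LD3_c29)) :=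
  Lgr Lrot150 (Lpe (f194715 IH) (Lpe (K20.f194713 IH) (Lpr_df (K10.f194742 IH) (Lpe (f350347 IH) (Lpr_ct (f350361 IH) (Lpr_gt (f350370 IH) (Lpr_ct (f313197 IH) (Lpe (K23.f313193 IH) (Lpe (K23.f313190 IH) (Lpn (LP (LK LD1_c11 LD2_c4 LD3_c29))))))))))))
theorem f310611 : Led Lsl_et (LP (LK LD1_c25 LD2_c6 LD3_c58)) = (LP (LK LD1_c15 LD2_c16 LD3_c56)) :=
  Lre_e IH (LK LD1_c25 LD2_c6 LD3_c58) (LK LD1_c15 LD2_c16 LD3_c56) Lrfl Lrfl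
theorem f253131 : Led Lsl_ct (LP (LK LD1_c8 LD2_c28 LD3_c6)) = (LP (LK LD1_c15 LD2_c19 LD3_c34)) :=
  Lgr Lrot7 (Lpe (K21.f253122 IH) (Lpe (K14.f22078 IH) (Lpr_df (K14.f22035 IH) (Lpr_gf (K16.f253128 IH) (Lpe (K21.f244461 IH) (Lpe (K18.f244445 IH) (Lpr_dt (K21.f243980 IH) (Lpr_gt (K21.f244447 IH) (Lpe (K21.f244452 IH) (Lpn (LP (LK LD1_c15 LD2_c19 LD3_c34))))))))))))
theorem f22076 : Led Lsl_gt (LP (LK LD1_c25 LD2_c23 LD3_c2)) = (LP (LK LD1_c15 LD2_c29 LD3_c54)) :=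
  Lre_g IH (LK LD1_c25 LD2_c23 LD3_c2) (LK LD1_c15 LD2_c29 LD3_c54) Lrfl Lrfl
theorem f332820 : Led Lsl_df (LP (LK LD1_c25 LD2_c23 LD3_c2)) = (LP (LK LD1_c25 LD2_c6 LD3_c58)) :=
  Lgr Lrot155 (Lpr_gt (f22076 IH) (Lpr_ct (K21.f22065 IH) (Lpe (K21.f327198 IH) (Lpr_ct (K21.f244455 IH) (Lpe (K21.f244452 IH) (Lpe (f253131 IH) (Lpr_gf (K22.f332814 IH) (Lpe (K21.f323554 IH) (Lpr_gf (K21.f310585 IH) (Lpn (LP (LK LD1_c25 LD2_c6 LD3_c58))))))))))))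
theorem f315575 : Led Lsl_dt (LP (LK LD1_c11 LD2_c4 LD3_c29)) = (LP (LK LD1_c19 LD2_c57 LD3_c3)) :=
  Lre_d IH (LK LD1_c11 LD2_c4 LD3_c29) (LK LD1_c19 LD2_c57 LD3_c3) Lrfl Lrfl
theorem f315568 : Led Lsl_af (LP (LK LD1_c15 LD2_c17 LD3_c7)) = (LP (LK LD1_c11 LD2_c4 LD3_c28)) :=
  Lgr Lrot0 (Lpr_at (K20.f315566 IH) (Lpn (LP (LK LD1_c11 LD2_c4 LD3_c28))))
theorem f347015 : Led Lsl_ft (LP (LK LD1_c19 LD2_c57 LD3_c3)) = (LP (LK LD1_c11 LD2_c4 LD3_c28)) :=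
  Lre_f IH (LK LD1_c19 LD2_c57 LD3_c3) (LK LD1_c11 LD2_c4 LD3_c28) Lrfl Lrfl
theorem f347016 : Led Lsl_gf (LP (LK LD1_c15 LD2_c18 LD3_c15)) = (LP (LK LD1_c19 LD2_c57 LD3_c3)) :=
  Lgr Lrot47 (Lpr_gt (K23.f347013 IH) (Lpr_af (f315568 IH) (Lpe (f347015 IH) (Lpn (LP (LK LD1_c19 LD2_c57 LD3_c3))))))
theorem f187626 : Led Lsl_et (LP (LK LD1_c2 LD2_c43 LD3_c61)) = (LP (LK LD1_c5 LD2_c36 LD3_c3)) :=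
  Lre_e IH (LK LD1_c2 LD2_c43 LD3_c61) (LK LD1_c5 LD2_c36 LD3_c3) Lrfl Lrfl
theorem f315510 : Led Lsl_ft (LP (LK LD1_c5 LD2_c36 LD3_c3)) = (LP (LK LD1_c11 LD2_c4 LD3_c29)) :=
  Lre_f IH (LK LD1_c5 LD2_c36 LD3_c3) (LK LD1_c11 LD2_c4 LD3_c29) Lrfl Lrfl
theorem f315511 : Led Lsl_ef (LP (LK LD1_c15 LD2_c17 LD3_c2)) = (LP (LK LD1_c11 LD2_c4 LD3_c29)) :=
  Lgr Lrot21 (Lpr_ft (K21.f256151 IH) (Lpr_et (K18.f50959 IH) (Lpr_ft (K20.f315502 IH) (Lpr_et (f187626 IH) (Lpr_ft (f315510 IH) (Lpn (LP (LK LD1_c11 LD2_c4 LD3_c29))))))))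
theorem f339689 : Led Lsl_gf (LP (LK LD1_c15 LD2_c54 LD3_c9)) = (LP (LK LD1_c25 LD2_c48 LD3_c41)) :=
  Lgr Lrot145 (Lpe (K22.f339679 IH) (Lpr_et (K22.f339680 IH) (Lpe (K22.f315482 IH) (Lpe (K21.f325250 IH) (Lpe (K21.f262191 IH) (Lpe (K18.f28882 IH) (Lpr_et (K18.f296298 IH) (Lpr_gt (K21.f316699 IH) (Lpe (K19.f314542 IH) (Lpr_dt (K19.f314548 IH) (Lpn (LP (LK LD1_c25 LD2_c48 LD3_c41)))))))))))))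
theorem f347029 : Led Lsl_gf (LP (LK LD1_c15 LD2_c52 LD3_c40)) = (LP (LK LD1_c11 LD2_c56 LD3_c57)) :=
  Lgr Lrot138 (Lpr_dt (K19.f314548 IH) (Lpe (f339689 IH) (Lpe (K22.f339679 IH) (Lpr_et (K22.f339680 IH) (Lpe (K22.f315482 IH) (Lpr_ef (f315511 IH) (Lpr_dt (f315575 IH) (Lpe (f347016 IH) (Lpe (K23.f347006 IH) (Lpr_et (K23.f347020 IH) (Lpn (LP (LK LD1_c11 LD2_c56 LD3_c57)))))))))))))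
theorem f350378 : Led Lsl_gf (LP (LK LD1_c25 LD2_c23 LD3_c2)) = (LP (LK LD1_c25 LD2_c8 LD3_c41)) :=
  Lgr Lrot145 (Lpr_df (f332820 IH) (Lpr_et (f310611 IH) (Lpr_gt (f350374 IH) (Lpr_dt (f315575 IH) (Lpe (f347016 IH) (Lpe (K23.f347006 IH) (Lpr_et (K23.f347020 IH) (Lpe (f347029 IH) (Lpr_ef (K21.f314546 IH) (Lpr_dt (K21.f296378 IH) (Lpn (LP (LK LD1_c25 LD2_c8 LD3_c41)))))))))))))
theorem f296289 : Led Lsl_ct (LP (LK LD1_c25 LD2_c23 LD3_c2)) = (LP (LK LD1_c31 LD2_c53 LD3_c8)) :=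
  Lre_c IH (LK LD1_c25 LD2_c23 LD3_c2) (LK LD1_c31 LD2_c53 LD3_c8) Lrfl Lrfl
theorem f244137 : Led Lsl_ct (LP (LK LD1_c29 LD2_c15 LD3_c43)) = (LP (LK LD1_c20 LD2_c2 LD3_c20)) :=
  Lre_c IH (LK LD1_c29 LD2_c15 LD3_c43) (LK LD1_c20 LD2_c2 LD3_c20) Lrfl Lrfl
theorem f350383 : Led Lsl_gt (LP (LK LD1_c31 LD2_c53 LD3_c8)) = (LP (LK LD1_c29 LD2_c15 LD3_c43)) :=
  Lgr Lrot150 (Lpe (f296289 IH) (Lpr_gf (f350378 IH) (Lpe (K21.f296378 IH) (Lpr_gt (K19.f220263 IH) (Lpr_ct (K18.f220271 IH) (Lpe (K19.f296371 IH) (Lpr_ct (K20.f244125 IH) (Lpe (K23.f244127 IH) (Lpe (f244137 IH) (Lpn (LP (LK LD1_c29 LD2_c15 LD3_c43))))))))))))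
theorem f244462 : Led Lsl_ct (LP (LK LD1_c15 LD2_c16 LD3_c31)) = (LP (LK LD1_c25 LD2_c6 LD3_c32)) :=
  Lre_c IH (LK LD1_c15 LD2_c16 LD3_c31) (LK LD1_c25 LD2_c6 LD3_c32) Lrfl Lrfl
theorem f338543 : Led Lsl_at (LP (LK LD1_c25 LD2_c6 LD3_c32)) = (LP (LK LD1_c29 LD2_c15 LD3_c43)) :=
  Lgr Lrot107 (Lpe (f244462 IH) (Lpr_af (K23.f338540 IH) (Lpe (f244137 IH) (Lpn (LP (LK LD1_c29 LD2_c15 LD3_c43))))))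
theorem f338371 : Led Lsl_af (LP (LK LD1_c25 LD2_c14 LD3_c11)) = (LP (LK LD1_c20 LD2_c2 LD3_c22)) :=
  Lgr Lrot117 (Lpr_dt (K21.f244508 IH) (Lpr_at (K22.f338356 IH) (Lpr_dt (K23.f243732 IH) (Lpn (LP (LK LD1_c20 LD2_c2 LD3_c22))))))
theorem f338545 : Led Lsl_ft (LP (LK LD1_c15 LD2_c16 LD3_c31)) = (LP (LK LD1_c20 LD2_c2 LD3_c22)) :=
  Lgr Lrot101 (Lpr_af (K23.f338540 IH) (Lpe (K23.f338360 IH) (Lpr_af (f338371 IH) (Lpn (LP (LK LD1_c20 LD2_c2 LD3_c22))))))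
theorem f243978 : Led Lsl_ct (LP (LK LD1_c25 LD2_c6 LD3_c32)) = (LP (LK LD1_c15 LD2_c16 LD3_c31)) :=
  Lre_c IH (LK LD1_c25 LD2_c6 LD3_c32) (LK LD1_c15 LD2_c16 LD3_c31) Lrfl Lrfl
theorem f338555 : Led Lsl_ff (LP (LK LD1_c25 LD2_c6 LD3_c32)) = (LP (LK LD1_c29 LD2_c15 LD3_c44)) :=
  Lgr Lrot23 (Lpr_ct (f243978 IH) (Lpr_ft (f338545 IH) (Lpr_ct (K21.f320968 IH) (Lpn (LP (LK LD1_c29 LD2_c15 LD3_c44))))))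
theorem f350385 : Led Lsl_gf (LP (LK LD1_c31 LD2_c53 LD3_c8)) = (LP (LK LD1_c29 LD2_c15 LD3_c44)) :=
  Lgr Lrot47 (Lpr_gt (f350383 IH) (Lpe (f338543 IH) (Lpr_ff (f338555 IH) (Lpn (LP (LK LD1_c29 LD2_c15 LD3_c44))))))
theorem f296290 : Led Lsl_ct (LP (LK LD1_c31 LD2_c53 LD3_c8)) = (LP (LK LD1_c25 LD2_c23 LD3_c2)) :=
  Lre_c IH (LK LD1_c31 LD2_c53 LD3_c8) (LK LD1_c25 LD2_c23 LD3_c2) Lrfl Lrfl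
theorem f332818 : Led Lsl_dt (LP (LK LD1_c25 LD2_c23 LD3_c2)) = (LP (LK LD1_c25 LD2_c6 LD3_c58)) :=
  Lgr Lrot6 (Lpr_gt (f22076 IH) (Lpr_ct (K21.f22065 IH) (Lpe (K21.f327198 IH) (Lpr_ct (K21.f244455 IH) (Lpe (K21.f244448 IH) (Lpe (f253131 IH) (Lpr_gf (K22.f332814 IH) (Lpe (K21.f323554 IH) (Lpr_gf (K21.f310585 IH) (Lpn (LP (LK LD1_c25 LD2_c6 LD3_c58))))))))))))
theorem f259113 : Led Lsl_ct (LP (LK LD1_c25 LD2_c3 LD3_c14)) = (LP (LK LD1_c15 LD2_c14 LD3_c9)) :=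
  Lre_c IH (LK LD1_c25 LD2_c3 LD3_c14) (LK LD1_c15 LD2_c14 LD3_c9) Lrfl Lrfl
theorem f350388 : Led Lsl_gf (LP (LK LD1_c25 LD2_c3 LD3_c14)) = (LP (LK LD1_c17 LD2_c52 LD3_c49)) :=
  Lgr Lrot147 (Lpr_ct (f259113 IH) (Lpe (K20.f310576 IH) (Lpr_ct (K21.f310578 IH) (Lpe (f332818 IH) (Lpe (f296290 IH) (Lpr_gf (f350385 IH) (Lpe (K21.f320968 IH) (Lpe (K21.f327222 IH) (Lpe (K16.f274739 IH) (Lpn (LP (LK LD1_c17 LD2_c52 LD3_c49))))))))))))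
theorem f274738 : Led Lsl_ct (LP (LK LD1_c9 LD2_c43 LD3_c33)) = (LP (LK LD1_c17 LD2_c52 LD3_c49)) :=
  Lre_c IH (LK LD1_c9 LD2_c43 LD3_c33) (LK LD1_c17 LD2_c52 LD3_c49) Lrfl Lrfl
theorem f339809 : Led Lsl_gf (LP (LK LD1_c9 LD2_c43 LD3_c33)) = (LP (LK LD1_c8 LD2_c28 LD3_c37)) :=
  Lgr Lrot144 (Lpe (K16.f274709 IH) (Lpe (K22.f339807 IH) (Lpr_dt (K22.f339788 IH) (Lpe (K21.f296243 IH) (Lpe (K21.f296246 IH) (Lpe (K23.f327174 IH) (Lpe (K18.f244000 IH) (Lpr_gf (K23.f332893 IH) (Lpr_cf (K22.f312232 IH) (Lpn (LP (LK LD1_c8 LD2_c28 LD3_c37))))))))))))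
theorem f242537 : Led Lsl_gt (LP (LK LD1_c8 LD2_c4 LD3_c12)) = (LP (LK LD1_c15 LD2_c11 LD3_c32)) :=
  Lre_g IH (LK LD1_c8 LD2_c4 LD3_c12) (LK LD1_c15 LD2_c11 LD3_c32) Lrfl Lrfl
theorem f350392 : Led Lsl_cf (LP (LK LD1_c8 LD2_c5 LD3_c26)) = (LP (LK LD1_c15 LD2_c11 LD3_c32)) :=
  Lgr Lrot99 (Lpe (K20.f259117 IH) (Lpe (f259113 IH) (Lpr_gf (f350388 IH) (Lpe (f274738 IH) (Lpr_gf (f339809 IH) (Lpe (K22.f312234 IH) (Lpr_gt (K16.f258992 IH) (Lpr_ct (K18.f259005 IH) (Lpr_gt (f242537 IH) (Lpn (LP (LK LD1_c15 LD2_c11 LD3_c32))))))))))))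
theorem f274702 : Led Lsl_dt (LP (LK LD1_c18 LD2_c4 LD3_c42)) = (LP (LK LD1_c27 LD2_c46 LD3_c9)) :=
  Lre_d IH (LK LD1_c18 LD2_c4 LD3_c42) (LK LD1_c27 LD2_c46 LD3_c9) Lrfl Lrfl
theorem f350398 : Led Lsl_dt (LP (LK LD1_c25 LD2_c0 LD3_c39)) = (LP (LK LD1_c15 LD2_c11 LD3_c32)) :=
  Lre_d IH (LK LD1_c25 LD2_c0 LD3_c39) (LK LD1_c15 LD2_c11 LD3_c32) Lrfl Lrfl
theorem f350402 : Led Lsl_gt (LP (LK LD1_c27 LD2_c46 LD3_c9)) = (LP (LK LD1_c25 LD2_c0 LD3_c39)) :=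
  Lgr Lrot49 (Lpe (f274702 IH) (Lpr_gf (K21.f327295 IH) (Lpr_cf (K21.f251479 IH) (Lpr_gt (K21.f251484 IH) (Lpe (K21.f320941 IH) (Lpr_gt (K21.f327375 IH) (Lpr_dt (K20.f259117 IH) (Lpr_cf (f350392 IH) (Lpe (f350398 IH) (Lpn (LP (LK LD1_c25 LD2_c0 LD3_c39))))))))))))
theorem f274737 : Led Lsl_ct (LP (LK LD1_c32 LD2_c28 LD3_c22)) = (LP (LK LD1_c27 LD2_c46 LD3_c9)) :=
  Lre_c IH (LK LD1_c32 LD2_c28 LD3_c22) (LK LD1_c27 LD2_c46 LD3_c9) Lrfl Lrfl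
theorem f274731 : Led Lsl_ct (LP (LK LD1_c27 LD2_c46 LD3_c9)) = (LP (LK LD1_c32 LD2_c28 LD3_c22)) :=
  Lre_c IH (LK LD1_c27 LD2_c46 LD3_c9) (LK LD1_c32 LD2_c28 LD3_c22) Lrfl Lrfl
theorem f327205 : Led Lsl_gt (LP (LK LD1_c29 LD2_c13 LD3_c46)) = (LP (LK LD1_c32 LD2_c24 LD3_c39)) :=
  Lgr Lrot5 (Lpr_ft (K21.f327196 IH) (Lpe (K21.f327183 IH) (Lpe (K23.f243735 IH) (Lpn (LP (LK LD1_c32 LD2_c24 LD3_c39))))))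
theorem f327297 : Led Lsl_df (LP (LK LD1_c32 LD2_c28 LD3_c22)) = (LP (LK LD1_c32 LD2_c24 LD3_c39)) :=
  Lgr Lrot84 (Lpe (f274731 IH) (Lpe (f274702 IH) (Lpr_gf (K21.f327295 IH) (Lpe (K20.f251481 IH) (Lpr_gf (K20.f265909 IH) (Lpe (K21.f265913 IH) (Lpe (K21.f327082 IH) (Lpr_dt (K21.f327076 IH) (Lpr_gt (f327205 IH) (Lpn (LP (LK LD1_c32 LD2_c24 LD3_c39))))))))))))
theorem f327304 : Led Lsl_dt (LP (LK LD1_c32 LD2_c28 LD3_c22)) = (LP (LK LD1_c32 LD2_c24 LD3_c39)) :=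
  Lgr Lrot42 (Lpr_df (f327297 IH) (Lpn (LP (LK LD1_c32 LD2_c24 LD3_c39))))
theorem f298608 : Led Lsl_dt (LP (LK LD1_c15 LD2_c11 LD3_c36)) = (LP (LK LD1_c25 LD2_c0 LD3_c45)) :=
  Lre_d IH (LK LD1_c15 LD2_c11 LD3_c36) (LK LD1_c25 LD2_c0 LD3_c45) Lrfl Lrfl
theorem f298635 : Led Lsl_ct (LP (LK LD1_c25 LD2_c0 LD3_c45)) = (LP (LK LD1_c31 LD2_c44 LD3_c33)) :=
  Lre_c IH (LK LD1_c25 LD2_c0 LD3_c45) (LK LD1_c31 LD2_c44 LD3_c33) Lrfl Lrfl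
theorem f327037 : Led Lsl_df (LP (LK LD1_c31 LD2_c44 LD3_c33)) = (LP (LK LD1_c31 LD2_c47 LD3_c27)) :=
  Lgr Lrot84 (Lpe (f298635 IH) (Lpe (f298608 IH) (Lpe (K21.f298626 IH) (Lpe (K19.f260105 IH) (Lpr_gf (K19.f298632 IH) (Lpe (K21.f22062 IH) (Lpr_gt (K21.f327034 IH) (Lpr_dt (K21.f298488 IH) (Lpr_gt (K22.f298651 IH) (Lpn (LP (LK LD1_c31 LD2_c47 LD3_c27))))))))))))
theorem f332810 : Led Lsl_gf (LP (LK LD1_c32 LD2_c28 LD3_c22)) = (LP (LK LD1_c31 LD2_c44 LD3_c33)) :=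
  Lgr Lrot143 (Lpr_dt (f327304 IH) (Lpe (K23.f327392 IH) (Lpe (K23.f274729 IH) (Lpr_gf (K22.f327386 IH) (Lpr_df (K22.f332808 IH) (Lpe (K22.f244111 IH) (Lpe (K18.f244505 IH) (Lpr_gt (K22.f298651 IH) (Lpe (f327037 IH) (Lpn (LP (LK LD1_c31 LD2_c44 LD3_c33))))))))))))
theorem f259049 : Led Lsl_ct (LP (LK LD1_c25 LD2_c0 LD3_c39)) = (LP (LK LD1_c31 LD2_c44 LD3_c28)) :=
  Lre_c IH (LK LD1_c25 LD2_c0 LD3_c39) (LK LD1_c31 LD2_c44 LD3_c28) Lrfl Lrfl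
theorem f350409 : Led Lsl_df (LP (LK LD1_c29 LD2_c16 LD3_c22)) = (LP (LK LD1_c31 LD2_c44 LD3_c28)) :=
  Lgr Lrot162 (Lpr_cf (K21.f330399 IH) (Lpe (K18.f299206 IH) (Lpe (K21.f298448 IH) (Lpr_gf (K21.f298592 IH) (Lpe (f327037 IH) (Lpe (f332810 IH) (Lpr_ct (f274737 IH) (Lpr_gt (f350402 IH) (Lpr_ct (f259049 IH) (Lpn (LP (LK LD1_c31 LD2_c44 LD3_c28))))))))))))
theorem f311884 : Led Lsl_bt (LP (LK LD1_c10 LD2_c24 LD3_c9)) = (LP (LK LD1_c5 LD2_c17 LD3_c20)) :=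
  Lre_b IH (LK LD1_c10 LD2_c24 LD3_c9) (LK LD1_c5 LD2_c17 LD3_c20) Lrfl Lrfl
theorem f258225 : Led Lsl_ft (LP (LK LD1_c10 LD2_c28 LD3_c43)) = (LP (LK LD1_c5 LD2_c19 LD3_c26)) :=
  Lre_f IH (LK LD1_c10 LD2_c28 LD3_c43) (LK LD1_c5 LD2_c19 LD3_c26) Lrfl Lrfl
theorem f276937 : Led Lsl_af (LP (LK LD1_c2 LD2_c37 LD3_c59)) = (LP (LK LD1_c5 LD2_c19 LD3_c26)) :=
  Lgr Lrot0 (Lpr_at (K16.f276935 IH) (Lpn (LP (LK LD1_c5 LD2_c19 LD3_c26))))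
theorem f302845 : Led Lsl_gf (LP (LK LD1_c2 LD2_c37 LD3_c59)) = (LP (LK LD1_c5 LD2_c21 LD3_c43)) :=
  Lgr Lrot76 (Lpr_af (f276937 IH) (Lpe (f258225 IH) (Lpr_gt (K20.f302841 IH) (Lpn (LP (LK LD1_c5 LD2_c21 LD3_c43))))))
theorem f320636 : Led Lsl_ct (LP (LK LD1_c10 LD2_c24 LD3_c9)) = (LP (LK LD1_c10 LD2_c36 LD3_c2)) :=
  Lgr Lrot63 (Lpr_bt (f311884 IH) (Lpr_gt (K23.f213758 IH) (Lpe (K23.f320600 IH) (Lpr_ct (K20.f320622 IH) (Lpe (K20.f320633 IH) (Lpe (K20.f316633 IH) (Lpr_bt (K18.f265340 IH) (Lpe (f302845 IH) (Lpr_ct (K16.f224161 IH) (Lpr_gt (K16.f277151 IH) (Lpn (LP (LK LD1_c10 LD2_c36 LD3_c2)))))))))))))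
theorem f335305 : Led Lsl_gt (LP (LK LD1_c10 LD2_c26 LD3_c28)) = (LP (LK LD1_c10 LD2_c28 LD3_c36)) :=
  Lgr Lrot150 (Lpr_cf (K22.f335301 IH) (Lpe (K22.f258985 IH) (Lpe (K20.f321717 IH) (Lpe (K18.f277505 IH) (Lpr_ct (f320636 IH) (Lpr_gt (K16.f277465 IH) (Lpr_ct (K16.f258168 IH) (Lpe (K15.f230596 IH) (Lpe (K15.f230598 IH) (Lpn (LP (LK LD1_c10 LD2_c28 LD3_c36))))))))))))
theorem f310404 : Led Lsl_bf (LP (LK LD1_c8 LD2_c9 LD3_c30)) = (LP (LK LD1_c10 LD2_c22 LD3_c19)) :=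
  Lgr Lrot96 (Lpr_et (K15.f28082 IH) (Lpr_bt (K21.f310353 IH) (Lpr_et (K20.f278573 IH) (Lpn (LP (LK LD1_c10 LD2_c22 LD3_c19))))))
theorem f278583 : Led Lsl_dt (LP (LK LD1_c5 LD2_c16 LD3_c21)) = (LP (LK LD1_c10 LD2_c22 LD3_c19)) :=
  Lre_d IH (LK LD1_c5 LD2_c16 LD3_c21) (LK LD1_c10 LD2_c22 LD3_c19) Lrfl Lrfl
theorem f310431 : Led Lsl_bt (LP (LK LD1_c8 LD2_c5 LD3_c27)) = (LP (LK LD1_c5 LD2_c16 LD3_c21)) :=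
  Lgr Lrot95 (Lpe (K15.f259115 IH) (Lpr_bf (f310404 IH) (Lpe (f278583 IH) (Lpn (LP (LK LD1_c5 LD2_c16 LD3_c21))))))
theorem f258972 : Led Lsl_bt (LP (LK LD1_c4 LD2_c1 LD3_c48)) = (LP (LK LD1_c8 LD2_c4 LD3_c9)) :=
  Lre_b IH (LK LD1_c4 LD2_c1 LD3_c48) (LK LD1_c8 LD2_c4 LD3_c9) Lrfl Lrfl
theorem f259023 : Led Lsl_gt (LP (LK LD1_c15 LD2_c11 LD3_c33)) = (LP (LK LD1_c8 LD2_c4 LD3_c12)) :=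
  Lre_g IH (LK LD1_c15 LD2_c11 LD3_c33) (LK LD1_c8 LD2_c4 LD3_c12) Lrfl Lrfl
theorem f335307 : Led Lsl_ct (LP (LK LD1_c8 LD2_c5 LD3_c27)) = (LP (LK LD1_c15 LD2_c11 LD3_c33)) :=
  Lgr Lrot64 (Lpr_bt (f310431 IH) (Lpr_gf (K20.f316013 IH) (Lpr_bf (K21.f230591 IH) (Lpr_ct (K19.f230594 IH) (Lpe (f335305 IH) (Lpr_cf (K22.f335301 IH) (Lpe (K22.f258985 IH) (Lpe (f258972 IH) (Lpr_ct (K18.f259005 IH) (Lpe (f259023 IH) (Lpn (LP (LK LD1_c15 LD2_c11 LD3_c33)))))))))))))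
theorem f335314 : Led Lsl_dt (LP (LK LD1_c15 LD2_c11 LD3_c33)) = (LP (LK LD1_c25 LD2_c0 LD3_c41)) :=
  Lre_d IH (LK LD1_c15 LD2_c11 LD3_c33) (LK LD1_c25 LD2_c0 LD3_c41) Lrfl Lrfl
theorem f335315 : Led Lsl_ct (LP (LK LD1_c25 LD2_c0 LD3_c41)) = (LP (LK LD1_c31 LD2_c44 LD3_c30)) :=
  Lre_c IH (LK LD1_c25 LD2_c0 LD3_c41) (LK LD1_c31 LD2_c44 LD3_c30) Lrfl Lrfl
theorem f242538 : Led Lsl_dt (LP (LK LD1_c15 LD2_c11 LD3_c32)) = (LP (LK LD1_c25 LD2_c0 LD3_c39)) :=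
  Lre_d IH (LK LD1_c15 LD2_c11 LD3_c32) (LK LD1_c25 LD2_c0 LD3_c39) Lrfl Lrfl
theorem f350396 : Led Lsl_ct (LP (LK LD1_c8 LD2_c5 LD3_c26)) = (LP (LK LD1_c15 LD2_c11 LD3_c32)) :=
  Lgr Lrot59 (Lpr_cf (f350392 IH) (Lpn (LP (LK LD1_c15 LD2_c11 LD3_c32))))
theorem f350479 : Led Lsl_dt (LP (LK LD1_c31 LD2_c44 LD3_c30)) = (LP (LK LD1_c29 LD2_c16 LD3_c21)) :=
  Lgr Lrot173 (Lpe (f335315 IH) (Lpe (f335314 IH) (Lpe (f335307 IH) (Lpe (K15.f259115 IH) (Lpe (K18.f259122 IH) (Lpe (K18.f259123 IH) (Lpe (K21.f330397 IH) (Lpr_df (f350409 IH) (Lpe (f259049 IH) (Lpe (f242538 IH) (Lpe (f350396 IH) (Lpe (K20.f259117 IH) (Lpe (f259113 IH) (Lpr_df (K22.f332808 IH) (Lpe (K22.f260111 IH) (Lpn (LP (LK LD1_c29 LD2_c16 LD3_c21))))))))))))))))))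
theorem f274716 : Led Lsl_dt (LP (LK LD1_c18 LD2_c4 LD3_c43)) = (LP (LK LD1_c27 LD2_c46 LD3_c11)) :=
  Lre_d IH (LK LD1_c18 LD2_c4 LD3_c43) (LK LD1_c27 LD2_c46 LD3_c11) Lrfl Lrfl
theorem f296872 : Led Lsl_dt (LP (LK LD1_c25 LD2_c0 LD3_c41)) = (LP (LK LD1_c15 LD2_c11 LD3_c33)) :=
  Lre_d IH (LK LD1_c25 LD2_c0 LD3_c41) (LK LD1_c15 LD2_c11 LD3_c33) Lrfl Lrfl
theorem f335316 : Led Lsl_gt (LP (LK LD1_c27 LD2_c46 LD3_c11)) = (LP (LK LD1_c25 LD2_c0 LD3_c41)) :=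
  Lgr Lrot189 (Lpe (f274716 IH) (Lpr_gf (K22.f327088 IH) (Lpe (K21.f326761 IH) (Lpe (K19.f312289 IH) (Lpe (K23.f320929 IH) (Lpe (K21.f310583 IH) (Lpr_dt (K15.f259115 IH) (Lpr_ct (f335307 IH) (Lpe (f296872 IH) (Lpn (LP (LK LD1_c25 LD2_c0 LD3_c41))))))))))))
theorem f274727 : Led Lsl_ct (LP (LK LD1_c32 LD2_c28 LD3_c23)) = (LP (LK LD1_c27 LD2_c46 LD3_c11)) :=
  Lre_c IH (LK LD1_c32 LD2_c28 LD3_c23) (LK LD1_c27 LD2_c46 LD3_c11) Lrfl Lrfl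
theorem f296865 : Led Lsl_dt (LP (LK LD1_c25 LD2_c0 LD3_c43)) = (LP (LK LD1_c29 LD2_c15 LD3_c53)) :=
  Lgr Lrot42 (Lpr_df (K18.f296857 IH) (Lpn (LP (LK LD1_c29 LD2_c15 LD3_c53))))
theorem f340259 : Led Lsl_dt (LP (LK LD1_c9 LD2_c58 LD3_c5)) = (LP (LK LD1_c18 LD2_c14 LD3_c11)) :=
  Lre_d IH (LK LD1_c9 LD2_c58 LD3_c5) (LK LD1_c18 LD2_c14 LD3_c11) Lrfl Lrfl
theorem f340262 : Led Lsl_ct (LP (LK LD1_c27 LD2_c54 LD3_c30)) = (LP (LK LD1_c18 LD2_c14 LD3_c11)) :=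
  Lre_c IH (LK LD1_c27 LD2_c54 LD3_c30) (LK LD1_c18 LD2_c14 LD3_c11) Lrfl Lrfl
theorem f340263 : Led Lsl_dt (LP (LK LD1_c31 LD2_c47 LD3_c28)) = (LP (LK LD1_c27 LD2_c54 LD3_c30)) :=
  Lgr Lrot105 (Lpe (K22.f327243 IH) (Lpe (f296865 IH) (Lpe (K21.f296874 IH) (Lpe (K21.f298642 IH) (Lpr_gt (K21.f262408 IH) (Lpr_dt (K19.f296454 IH) (Lpr_gt (K23.f340255 IH) (Lpr_dt (f340259 IH) (Lpe (f340262 IH) (Lpn (LP (LK LD1_c27 LD2_c54 LD3_c30))))))))))))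
theorem f350485 : Led Lsl_gf (LP (LK LD1_c32 LD2_c28 LD3_c23)) = (LP (LK LD1_c27 LD2_c54 LD3_c30)) :=
  Lgr Lrot179 (Lpr_ct (f274727 IH) (Lpr_gt (f335316 IH) (Lpr_ct (f335315 IH) (Lpr_dt (f350479 IH) (Lpr_cf (K22.f260109 IH) (Lpe (K22.f244111 IH) (Lpe (K18.f244505 IH) (Lpr_gf (K22.f327241 IH) (Lpr_dt (f340263 IH) (Lpn (LP (LK LD1_c27 LD2_c54 LD3_c30))))))))))))
theorem f350481 : Led Lsl_df (LP (LK LD1_c31 LD2_c44 LD3_c30)) = (LP (LK LD1_c29 LD2_c16 LD3_c21)) :=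
  Lgr Lrot38 (Lpr_dt (f350479 IH) (Lpn (LP (LK LD1_c29 LD2_c16 LD3_c21))))
theorem f350489 : Led Lsl_df (LP (LK LD1_c31 LD2_c47 LD3_c28)) = (LP (LK LD1_c27 LD2_c54 LD3_c30)) :=
  Lgr Lrot155 (Lpe (K22.f327241 IH) (Lpr_ct (K18.f244505 IH) (Lpr_gt (K22.f244111 IH) (Lpe (K22.f260109 IH) (Lpe (f350481 IH) (Lpe (f335315 IH) (Lpe (f335316 IH) (Lpe (f274727 IH) (Lpr_gf (f350485 IH) (Lpn (LP (LK LD1_c27 LD2_c54 LD3_c30))))))))))))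
theorem f312275 : Led Lsl_at (LP (LK LD1_c15 LD2_c12 LD3_c49)) = (LP (LK LD1_c15 LD2_c10 LD3_c1)) :=
  Lgr Lrot100 (Lpr_af (K19.f312273 IH) (Lpn (LP (LK LD1_c15 LD2_c10 LD3_c1))))
theorem f327291 : Led Lsl_ct (LP (LK LD1_c15 LD2_c10 LD3_c1)) = (LP (LK LD1_c18 LD2_c4 LD3_c55)) :=
  Lgr Lrot111 (Lpe (f312275 IH) (Lpr_cf (K21.f326761 IH) (Lpr_af (K21.f327283 IH) (Lpn (LP (LK LD1_c18 LD2_c4 LD3_c55))))))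
theorem f330349 : Led Lsl_df (LP (LK LD1_c18 LD2_c4 LD3_c55)) = (LP (LK LD1_c25 LD2_c0 LD3_c42)) :=
  Lgr Lrot38 (Lpr_dt (K21.f330345 IH) (Lpn (LP (LK LD1_c25 LD2_c0 LD3_c42))))
theorem f330361 : Led Lsl_gf (LP (LK LD1_c25 LD2_c0 LD3_c42)) = (LP (LK LD1_c18 LD2_c28 LD3_c28)) :=
  Lgr Lrot144 (Lpe (f330349 IH) (Lpr_gt (K23.f330355 IH) (Lpe (K23.f330359 IH) (Lpe (K23.f296919 IH) (Lpe (K21.f327413 IH) (Lpr_gf (K21.f327198 IH) (Lpe (K21.f327230 IH) (Lpe (K22.f298653 IH) (Lpe (K21.f296881 IH) (Lpn (LP (LK LD1_c18 LD2_c28 LD3_c28))))))))))))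
theorem f350400 : Led Lsl_gf (LP (LK LD1_c10 LD2_c8 LD3_c31)) = (LP (LK LD1_c15 LD2_c11 LD3_c32)) :=
  Lgr Lrot144 (Lpr_dt (K21.f287268 IH) (Lpe (f330361 IH) (Lpe (f330349 IH) (Lpe (f327291 IH) (Lpr_df (K19.f260011 IH) (Lpr_gf (K19.f296269 IH) (Lpe (K18.f296415 IH) (Lpe (K21.f323776 IH) (Lpr_cf (f350392 IH) (Lpn (LP (LK LD1_c15 LD2_c11 LD3_c32))))))))))))
theorem f350494 : Led Lsl_gt (LP (LK LD1_c32 LD2_c28 LD3_c22)) = (LP (LK LD1_c27 LD2_c54 LD3_c30)) :=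
  Lgr Lrot94 (Lpe (f274731 IH) (Lpr_gt (f350402 IH) (Lpr_dt (f350398 IH) (Lpe (f350400 IH) (Lpr_dt (K21.f287268 IH) (Lpe (K21.f287265 IH) (Lpe (K21.f296863 IH) (Lpr_gf (K22.f327241 IH) (Lpr_df (f350489 IH) (Lpn (LP (LK LD1_c27 LD2_c54 LD3_c30))))))))))))
theorem f258155 : Led Lsl_ct (LP (LK LD1_c5 LD2_c19 LD3_c25)) = (LP (LK LD1_c10 LD2_c28 LD3_c39)) :=
  Lre_c IH (LK LD1_c5 LD2_c19 LD3_c25) (LK LD1_c10 LD2_c28 LD3_c39) Lrfl Lrfl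
theorem f325422 : Led Lsl_gt (LP (LK LD1_c5 LD2_c19 LD3_c24)) = (LP (LK LD1_c5 LD2_c18 LD3_c25)) :=
  Lgr Lrot137 (Lpr_ef (K20.f316347 IH) (Lpe (K20.f316314 IH) (Lpe (K20.f258392 IH) (Lpr_df (K22.f300352 IH) (Lpe (K23.f300484 IH) (Lpr_gf (K21.f325416 IH) (Lpr_ef (K18.f293760 IH) (Lpe (K18.f293750 IH) (Lpe (K18.f276943 IH) (Lpr_df (K15.f268064 IH) (Lpn (LP (LK LD1_c5 LD2_c18 LD3_c25)))))))))))))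
theorem f258988 : Led Lsl_gt (LP (LK LD1_c18 LD2_c59 LD3_c40)) = (LP (LK LD1_c10 LD2_c28 LD3_c50)) :=
  Lre_g IH (LK LD1_c18 LD2_c59 LD3_c40) (LK LD1_c10 LD2_c28 LD3_c50) Lrfl Lrfl
theorem f294692 : Led Lsl_gt (LP (LK LD1_c19 LD2_c1 LD3_c42)) = (LP (LK LD1_c18 LD2_c59 LD3_c40)) :=
  Lgr Lrot5 (Lpr_ft (K18.f294689 IH) (Lpr_at (K18.f294675 IH) (Lpe (f258988 IH) (Lpn (LP (LK LD1_c18 LD2_c59 LD3_c40))))))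
theorem f169881 : Led Lsl_ct (LP (LK LD1_c18 LD2_c19 LD3_c36)) = (LP (LK LD1_c10 LD2_c1 LD3_c44)) :=
  Lre_c IH (LK LD1_c18 LD2_c19 LD3_c36) (LK LD1_c10 LD2_c1 LD3_c44) Lrfl Lrfl
theorem f325424 : Led Lsl_dt (LP (LK LD1_c18 LD2_c59 LD3_c40)) = (LP (LK LD1_c18 LD2_c19 LD3_c36)) :=
  Lgr Lrot105 (Lpe (f294692 IH) (Lpe (K20.f294696 IH) (Lpe (K20.f321650 IH) (Lpe (K20.f230656 IH) (Lpr_gt (f325422 IH) (Lpe (K15.f268064 IH) (Lpr_gt (K18.f276943 IH) (Lpr_dt (K21.f293754 IH) (Lpe (f169881 IH) (Lpn (LP (LK LD1_c18 LD2_c19 LD3_c36))))))))))))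
theorem f230825 : Led Lsl_dt (LP (LK LD1_c10 LD2_c1 LD3_c41)) = (LP (LK LD1_c18 LD2_c19 LD3_c35)) :=
  Lre_d IH (LK LD1_c10 LD2_c1 LD3_c41) (LK LD1_c18 LD2_c19 LD3_c35) Lrfl Lrfl
theorem f325430 : Led Lsl_ff (LP (LK LD1_c18 LD2_c59 LD3_c40)) = (LP (LK LD1_c18 LD2_c19 LD3_c35)) :=
  Lgr Lrot19 (Lpr_dt (f325424 IH) (Lpr_ft (K18.f293706 IH) (Lpr_dt (f230825 IH) (Lpn (LP (LK LD1_c18 LD2_c19 LD3_c35))))))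
theorem f325435 : Led Lsl_ft (LP (LK LD1_c18 LD2_c59 LD3_c40)) = (LP (LK LD1_c18 LD2_c19 LD3_c35)) :=
  Lgr Lrot48 (Lpr_ff (f325430 IH) (Lpn (LP (LK LD1_c18 LD2_c19 LD3_c35))))
theorem f230691 : Led Lsl_dt (LP (LK LD1_c10 LD2_c16 LD3_c29)) = (LP (LK LD1_c18 LD2_c41 LD3_c17)) :=
  Lre_d IH (LK LD1_c10 LD2_c16 LD3_c29) (LK LD1_c18 LD2_c41 LD3_c17) Lrfl Lrfl
theorem f230811 : Led Lsl_dt (LP (LK LD1_c18 LD2_c19 LD3_c35)) = (LP (LK LD1_c10 LD2_c1 LD3_c41)) :=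
  Lre_d IH (LK LD1_c18 LD2_c19 LD3_c35) (LK LD1_c10 LD2_c1 LD3_c41) Lrfl Lrfl
theorem f294050 : Led Lsl_at (LP (LK LD1_c18 LD2_c41 LD3_c17)) = (LP (LK LD1_c18 LD2_c19 LD3_c35)) :=
  Lgr Lrot51 (Lpe (f230691 IH) (Lpr_af (K18.f294044 IH) (Lpe (f230811 IH) (Lpn (LP (LK LD1_c18 LD2_c19 LD3_c35))))))
theorem f294054 : Led Lsl_af (LP (LK LD1_c18 LD2_c41 LD3_c17)) = (LP (LK LD1_c18 LD2_c19 LD3_c35)) :=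
  Lgr Lrot0 (Lpr_at (f294050 IH) (Lpn (LP (LK LD1_c18 LD2_c19 LD3_c35))))
theorem f325439 : Led Lsl_gt (LP (LK LD1_c10 LD2_c28 LD3_c50)) = (LP (LK LD1_c18 LD2_c41 LD3_c17)) :=
  Lgr Lrot46 (Lpe (f258988 IH) (Lpr_ft (f325435 IH) (Lpe (f294054 IH) (Lpn (LP (LK LD1_c18 LD2_c41 LD3_c17))))))
theorem f240384 : Led Lsl_dt (LP (LK LD1_c18 LD2_c41 LD3_c17)) = (LP (LK LD1_c10 LD2_c16 LD3_c29)) :=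
  Lre_d IH (LK LD1_c18 LD2_c41 LD3_c17) (LK LD1_c10 LD2_c16 LD3_c29) Lrfl Lrfl
theorem f240385 : Led Lsl_ct (LP (LK LD1_c5 LD2_c13 LD3_c6)) = (LP (LK LD1_c10 LD2_c16 LD3_c29)) :=
  Lre_c IH (LK LD1_c5 LD2_c13 LD3_c6) (LK LD1_c10 LD2_c16 LD3_c29) Lrfl Lrfl
theorem f258157 : Led Lsl_ct (LP (LK LD1_c10 LD2_c28 LD3_c39)) = (LP (LK LD1_c5 LD2_c19 LD3_c25)) :=
  Lre_c IH (LK LD1_c10 LD2_c28 LD3_c39) (LK LD1_c5 LD2_c19 LD3_c25) Lrfl Lrfl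
theorem f325443 : Led Lsl_gf (LP (LK LD1_c5 LD2_c19 LD3_c30)) = (LP (LK LD1_c10 LD2_c28 LD3_c39)) :=
  Lgr Lrot144 (Lpr_dt (K20.f44274 IH) (Lpr_gt (f325439 IH) (Lpr_dt (f240384 IH) (Lpe (f240385 IH) (Lpe (K21.f265359 IH) (Lpe (K15.f258148 IH) (Lpe (K15.f44268 IH) (Lpe (K15.f230301 IH) (Lpe (f258157 IH) (Lpn (LP (LK LD1_c10 LD2_c28 LD3_c39))))))))))))
theorem f336135 : Led Lsl_bt (LP (LK LD1_c2 LD2_c29 LD3_c17)) = (LP (LK LD1_c5 LD2_c3 LD3_c36)) :=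
  Lre_b IH (LK LD1_c2 LD2_c29 LD3_c17) (LK LD1_c5 LD2_c3 LD3_c36) Lrfl Lrfl
theorem f336136 : Led Lsl_gt (LP (LK LD1_c4 LD2_c1 LD3_c48)) = (LP (LK LD1_c5 LD2_c3 LD3_c36)) :=
  Lgr Lrot164 (Lpe (K18.f258991 IH) (Lpe (K18.f258957 IH) (Lpr_gf (f325443 IH) (Lpe (f258155 IH) (Lpr_gf (K16.f268069 IH) (Lpe (K15.f185455 IH) (Lpe (K15.f185459 IH) (Lpr_gf (K22.f336124 IH) (Lpe (K22.f248758 IH) (Lpr_bt (f336135 IH) (Lpn (LP (LK LD1_c5 LD2_c3 LD3_c36)))))))))))))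
theorem f350508 : Led Lsl_gf (LP (LK LD1_c27 LD2_c46 LD3_c9)) = (LP (LK LD1_c25 LD2_c0 LD3_c41)) :=
  Lgr Lrot147 (Lpr_ct (f274731 IH) (Lpr_gt (f350494 IH) (Lpr_ct (f340262 IH) (Lpe (f340259 IH) (Lpe (K23.f248766 IH) (Lpe (f336136 IH) (Lpe (K18.f258973 IH) (Lpe (f259023 IH) (Lpe (f296872 IH) (Lpn (LP (LK LD1_c25 LD2_c0 LD3_c41))))))))))))
theorem f274704 : Led Lsl_dt (LP (LK LD1_c27 LD2_c46 LD3_c9)) = (LP (LK LD1_c18 LD2_c4 LD3_c42)) :=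
  Lre_d IH (LK LD1_c27 LD2_c46 LD3_c9) (LK LD1_c18 LD2_c4 LD3_c42) Lrfl Lrfl
theorem f350510 : Led Lsl_gt (LP (LK LD1_c10 LD2_c8 LD3_c31)) = (LP (LK LD1_c15 LD2_c11 LD3_c33)) :=
  Lgr Lrot94 (Lpe (K21.f296906 IH) (Lpr_gt (K19.f298599 IH) (Lpr_dt (K22.f312234 IH) (Lpe (f339809 IH) (Lpe (K16.f274709 IH) (Lpe (K21.f274697 IH) (Lpe (f274704 IH) (Lpr_gf (f350508 IH) (Lpe (f335314 IH) (Lpn (LP (LK LD1_c15 LD2_c11 LD3_c33))))))))))))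
theorem f335312 : Led Lsl_cf (LP (LK LD1_c8 LD2_c5 LD3_c27)) = (LP (LK LD1_c15 LD2_c11 LD3_c33)) :=
  Lgr Lrot11 (Lpr_ct (f335307 IH) (Lpn (LP (LK LD1_c15 LD2_c11 LD3_c33))))
theorem f252735 : Led Lsl_ct (LP (LK LD1_c18 LD2_c29 LD3_c1)) = (LP (LK LD1_c10 LD2_c8 LD3_c55)) :=
  Lre_c IH (LK LD1_c18 LD2_c29 LD3_c1) (LK LD1_c10 LD2_c8 LD3_c55) Lrfl Lrfl
theorem f252740 : Led Lsl_gt (LP (LK LD1_c28 LD2_c3 LD3_c38)) = (LP (LK LD1_c18 LD2_c29 LD3_c1)) :=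
  Lre_g IH (LK LD1_c28 LD2_c3 LD3_c38) (LK LD1_c18 LD2_c29 LD3_c1) Lrfl Lrfl
theorem f350516 : Led Lsl_ct (LP (LK LD1_c25 LD2_c0 LD3_c42)) = (LP (LK LD1_c28 LD2_c3 LD3_c38)) :=
  Lgr Lrot152 (Lpr_gf (f330361 IH) (Lpe (K21.f287268 IH) (Lpr_gt (f350510 IH) (Lpe (f335312 IH) (Lpr_gt (K15.f259085 IH) (Lpr_ct (K19.f260058 IH) (Lpe (K21.f252738 IH) (Lpe (f252735 IH) (Lpe (f252740 IH) (Lpn (LP (LK LD1_c28 LD2_c3 LD3_c38))))))))))))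
theorem f190473 : Led Lsl_ct (LP (LK LD1_c5 LD2_c21 LD3_c22)) = (LP (LK LD1_c10 LD2_c33 LD3_c0)) :=
  Lre_c IH (LK LD1_c5 LD2_c21 LD3_c22) (LK LD1_c10 LD2_c33 LD3_c0) Lrfl Lrfl
theorem f340166 : Led Lsl_gf (LP (LK LD1_c10 LD2_c11 LD3_c51)) = (LP (LK LD1_c10 LD2_c33 LD3_c0)) :=
  Lgr Lrot47 (Lpr_gt (K22.f253636 IH) (Lpr_af (K23.f340160 IH) (Lpe (K23.f190580 IH) (Lpn (LP (LK LD1_c10 LD2_c33 LD3_c0))))))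
theorem f336165 : Led Lsl_gt (LP (LK LD1_c10 LD2_c11 LD3_c50)) = (LP (LK LD1_c15 LD2_c11 LD3_c25)) :=
  Lgr Lrot46 (Lpr_gf (K22.f336163 IH) (Lpr_ft (K18.f274983 IH) (Lpr_at (K20.f321726 IH) (Lpn (LP (LK LD1_c15 LD2_c11 LD3_c25))))))
theorem f340232 : Led Lsl_gf (LP (LK LD1_c10 LD2_c8 LD3_c29)) = (LP (LK LD1_c15 LD2_c11 LD3_c35)) :=
  Lgr Lrot126 (Lpe (K20.f320943 IH) (Lpr_bt (K23.f340224 IH) (Lpr_gt (K23.f190481 IH) (Lpr_ct (f190473 IH) (Lpe (f340166 IH) (Lpe (K22.f253635 IH) (Lpr_bt (K22.f307120 IH) (Lpr_gt (f336165 IH) (Lpe (K18.f258999 IH) (Lpr_ct (K18.f258994 IH) (Lpn (LP (LK LD1_c15 LD2_c11 LD3_c35)))))))))))))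
theorem f298568 : Led Lsl_dt (LP (LK LD1_c10 LD2_c8 LD3_c29)) = (LP (LK LD1_c18 LD2_c28 LD3_c25)) :=
  Lre_d IH (LK LD1_c10 LD2_c8 LD3_c29) (LK LD1_c18 LD2_c28 LD3_c25) Lrfl Lrfl
theorem f298560 : Led Lsl_df (LP (LK LD1_c29 LD2_c15 LD3_c50)) = (LP (LK LD1_c28 LD2_c3 LD3_c24)) :=
  Lgr Lrot38 (Lpr_dt (K21.f298557 IH) (Lpn (LP (LK LD1_c28 LD2_c3 LD3_c24))))
theorem f296911 : Led Lsl_ct (LP (LK LD1_c28 LD2_c3 LD3_c14)) = (LP (LK LD1_c32 LD2_c31 LD3_c18)) :=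
  Lre_c IH (LK LD1_c28 LD2_c3 LD3_c14) (LK LD1_c32 LD2_c31 LD3_c18) Lrfl Lrfl
theorem f298564 : Led Lsl_gt (LP (LK LD1_c32 LD2_c31 LD3_c18)) = (LP (LK LD1_c28 LD2_c3 LD3_c24)) :=
  Lgr Lrot94 (Lpe (f296911 IH) (Lpr_gt (K21.f296910 IH) (Lpr_dt (K21.f296909 IH) (Lpr_gt (K20.f296907 IH) (Lpr_dt (K18.f287260 IH) (Lpe (K17.f287249 IH) (Lpe (K17.f244518 IH) (Lpe (K21.f244649 IH) (Lpr_df (f298560 IH) (Lpn (LP (LK LD1_c28 LD2_c3 LD3_c24))))))))))))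
theorem f298559 : Led Lsl_ct (LP (LK LD1_c28 LD2_c3 LD3_c24)) = (LP (LK LD1_c18 LD2_c28 LD3_c30)) :=
  Lre_c IH (LK LD1_c28 LD2_c3 LD3_c24) (LK LD1_c18 LD2_c28 LD3_c30) Lrfl Lrfl
theorem f298566 : Led Lsl_gf (LP (LK LD1_c28 LD2_c3 LD3_c14)) = (LP (LK LD1_c18 LD2_c28 LD3_c25)) :=
  Lgr Lrot147 (Lpr_ct (f296911 IH) (Lpr_gt (f298564 IH) (Lpr_ct (f298559 IH) (Lpe (K21.f296832 IH) (Lpe (K18.f296829 IH) (Lpe (K18.f287245 IH) (Lpe (K17.f197202 IH) (Lpe (K20.f242839 IH) (Lpe (K23.f298522 IH) (Lpn (LP (LK LD1_c18 LD2_c28 LD3_c25))))))))))))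
theorem f340234 : Led Lsl_dt (LP (LK LD1_c28 LD2_c3 LD3_c14)) = (LP (LK LD1_c18 LD2_c31 LD3_c58)) :=
  Lgr Lrot105 (Lpr_gf (f298566 IH) (Lpe (f298568 IH) (Lpr_gf (f340232 IH) (Lpe (K18.f258994 IH) (Lpe (K21.f287226 IH) (Lpe (K21.f323770 IH) (Lpe (K22.f332814 IH) (Lpe (K14.f253119 IH) (Lpe (K21.f253126 IH) (Lpn (LP (LK LD1_c18 LD2_c31 LD3_c58))))))))))))
theorem f298570 : Led Lsl_ct (LP (LK LD1_c28 LD2_c3 LD3_c17)) = (LP (LK LD1_c18 LD2_c28 LD3_c25)) :=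
  Lre_c IH (LK LD1_c28 LD2_c3 LD3_c17) (LK LD1_c18 LD2_c28 LD3_c25) Lrfl Lrfl
theorem f332878 : Led Lsl_ef (LP (LK LD1_c25 LD2_c4 LD3_c2)) = (LP (LK LD1_c18 LD2_c4 LD3_c37)) :=
  Lgr Lrot88 (Lpr_et (K23.f332874 IH) (Lpn (LP (LK LD1_c18 LD2_c4 LD3_c37))))
theorem f332880 : Led Lsl_ct (LP (LK LD1_c15 LD2_c16 LD3_c33)) = (LP (LK LD1_c18 LD2_c4 LD3_c37)) :=
  Lgr Lrot15 (Lpe (K21.f243997 IH) (Lpe (K23.f228963 IH) (Lpr_ef (f332878 IH) (Lpn (LP (LK LD1_c18 LD2_c4 LD3_c37))))))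
theorem f298571 : Led Lsl_ct (LP (LK LD1_c18 LD2_c28 LD3_c25)) = (LP (LK LD1_c28 LD2_c3 LD3_c17)) :=
  Lre_c IH (LK LD1_c18 LD2_c28 LD3_c25) (LK LD1_c28 LD2_c3 LD3_c17) Lrfl Lrfl
theorem f252742 : Led Lsl_dt (LP (LK LD1_c27 LD2_c46 LD3_c5)) = (LP (LK LD1_c18 LD2_c4 LD3_c37)) :=
  Lre_d IH (LK LD1_c27 LD2_c46 LD3_c5) (LK LD1_c18 LD2_c4 LD3_c37) Lrfl Lrfl
theorem f252733 : Led Lsl_ct (LP (LK LD1_c32 LD2_c28 LD3_c21)) = (LP (LK LD1_c27 LD2_c46 LD3_c5)) :=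
  Lre_c IH (LK LD1_c32 LD2_c28 LD3_c21) (LK LD1_c27 LD2_c46 LD3_c5) Lrfl Lrfl
theorem f332884 : Led Lsl_gt (LP (LK LD1_c28 LD2_c3 LD3_c17)) = (LP (LK LD1_c32 LD2_c28 LD3_c21)) :=
  Lgr Lrot150 (Lpe (f298571 IH) (Lpe (K23.f327095 IH) (Lpr_df (K23.f330359 IH) (Lpe (K23.f330357 IH) (Lpr_ct (K21.f192254 IH) (Lpr_gt (K18.f192251 IH) (Lpr_ct (f332880 IH) (Lpe (f252742 IH) (Lpe (f252733 IH) (Lpn (LP (LK LD1_c32 LD2_c28 LD3_c21))))))))))))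
theorem f332882 : Led Lsl_gt (LP (LK LD1_c25 LD2_c0 LD3_c45)) = (LP (LK LD1_c27 LD2_c46 LD3_c5)) :=
  Lgr Lrot189 (Lpe (f298608 IH) (Lpe (K21.f298626 IH) (Lpe (K19.f260084 IH) (Lpe (K19.f296427 IH) (Lpr_dt (K19.f296423 IH) (Lpr_gt (K21.f327379 IH) (Lpr_dt (K18.f243988 IH) (Lpr_ct (f332880 IH) (Lpe (f252742 IH) (Lpn (LP (LK LD1_c27 LD2_c46 LD3_c5))))))))))))
theorem f298606 : Led Lsl_dt (LP (LK LD1_c25 LD2_c0 LD3_c45)) = (LP (LK LD1_c15 LD2_c11 LD3_c36)) :=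
  Lre_d IH (LK LD1_c25 LD2_c0 LD3_c45) (LK LD1_c15 LD2_c11 LD3_c36) Lrfl Lrfl
theorem f299065 : Led Lsl_ct (LP (LK LD1_c28 LD2_c3 LD3_c15)) = (LP (LK LD1_c18 LD2_c28 LD3_c23)) :=
  Lre_c IH (LK LD1_c28 LD2_c3 LD3_c15) (LK LD1_c18 LD2_c28 LD3_c23) Lrfl Lrfl
theorem f252736 : Led Lsl_ct (LP (LK LD1_c27 LD2_c46 LD3_c5)) = (LP (LK LD1_c32 LD2_c28 LD3_c21)) :=
  Lre_c IH (LK LD1_c27 LD2_c46 LD3_c5) (LK LD1_c32 LD2_c28 LD3_c21) Lrfl Lrfl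
theorem f332886 : Led Lsl_gf (LP (LK LD1_c28 LD2_c3 LD3_c15)) = (LP (LK LD1_c32 LD2_c28 LD3_c21)) :=
  Lgr Lrot104 (Lpr_ct (f299065 IH) (Lpe (K21.f296913 IH) (Lpr_cf (K20.f299059 IH) (Lpe (K19.f246129 IH) (Lpr_cf (K19.f296444 IH) (Lpr_gf (K19.f298604 IH) (Lpe (f298606 IH) (Lpr_gt (f332882 IH) (Lpr_ct (f252736 IH) (Lpn (LP (LK LD1_c32 LD2_c28 LD3_c21))))))))))))
theorem f243979 : Led Lsl_gt (LP (LK LD1_c31 LD2_c46 LD3_c13)) = (LP (LK LD1_c25 LD2_c6 LD3_c32)) :=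
  Lre_g IH (LK LD1_c31 LD2_c46 LD3_c13) (LK LD1_c25 LD2_c6 LD3_c32) Lrfl Lrfl
theorem f332891 : Led Lsl_df (LP (LK LD1_c31 LD2_c46 LD3_c13)) = (LP (LK LD1_c32 LD2_c28 LD3_c21)) :=
  Lgr Lrot155 (Lpr_gt (f243979 IH) (Lpr_ct (f243978 IH) (Lpr_gt (K21.f244447 IH) (Lpr_ct (K21.f244451 IH) (Lpr_dt (K21.f327413 IH) (Lpe (K21.f296915 IH) (Lpe (K21.f296914 IH) (Lpe (f299065 IH) (Lpr_gf (f332886 IH) (Lpn (LP (LK LD1_c32 LD2_c28 LD3_c21))))))))))))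
theorem f350522 : Led Lsl_dt (LP (LK LD1_c25 LD2_c6 LD3_c32)) = (LP (LK LD1_c28 LD2_c3 LD3_c38)) :=
  Lgr Lrot113 (Lpe (f243979 IH) (Lpr_df (f332891 IH) (Lpe (f332884 IH) (Lpr_ct (f298570 IH) (Lpe (f298566 IH) (Lpr_dt (f340234 IH) (Lpr_gt (K21.f327442 IH) (Lpr_dt (K21.f330345 IH) (Lpr_ct (f350516 IH) (Lpn (LP (LK LD1_c28 LD2_c3 LD3_c38))))))))))))
theorem f265662 : Led Lsl_gt (LP (LK LD1_c27 LD2_c24 LD3_c2)) = (LP (LK LD1_c17 LD2_c35 LD3_c57)) :=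
  Lre_g IH (LK LD1_c27 LD2_c24 LD3_c2) (LK LD1_c17 LD2_c35 LD3_c57) Lrfl Lrfl
theorem f350528 : Led Lsl_cf (LP (LK LD1_c31 LD2_c46 LD3_c13)) = (LP (LK LD1_c27 LD2_c24 LD3_c2)) :=
  Lgr Lrot166 (Lpr_gt (f243979 IH) (Lpr_dt (f350522 IH) (Lpr_gt (f252740 IH) (Lpr_dt (K19.f260082 IH) (Lpe (K19.f260086 IH) (Lpe (K18.f244328 IH) (Lpe (K18.f265679 IH) (Lpe (K21.f243733 IH) (Lpe (f265662 IH) (Lpn (LP (LK LD1_c27 LD2_c24 LD3_c2))))))))))))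
theorem f332889 : Led Lsl_dt (LP (LK LD1_c31 LD2_c46 LD3_c13)) = (LP (LK LD1_c32 LD2_c28 LD3_c21)) :=
  Lgr Lrot6 (Lpr_gt (f243979 IH) (Lpr_ct (f243978 IH) (Lpr_gt (K21.f244447 IH) (Lpr_ct (K21.f244451 IH) (Lpr_df (K21.f327416 IH) (Lpe (K21.f296915 IH) (Lpe (K21.f296914 IH) (Lpe (f299065 IH) (Lpr_gf (f332886 IH) (Lpn (LP (LK LD1_c32 LD2_c28 LD3_c21))))))))))))
theorem f298607 : Led Lsl_ct (LP (LK LD1_c31 LD2_c44 LD3_c33)) = (LP (LK LD1_c25 LD2_c0 LD3_c45)) :=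
  Lre_c IH (LK LD1_c31 LD2_c44 LD3_c33) (LK LD1_c25 LD2_c0 LD3_c45) Lrfl Lrfl
theorem f274717 : Led Lsl_ct (LP (LK LD1_c27 LD2_c46 LD3_c11)) = (LP (LK LD1_c32 LD2_c28 LD3_c23)) :=
  Lre_c IH (LK LD1_c27 LD2_c46 LD3_c11) (LK LD1_c32 LD2_c28 LD3_c23) Lrfl Lrfl
theorem f327042 : Led Lsl_dt (LP (LK LD1_c31 LD2_c44 LD3_c33)) = (LP (LK LD1_c31 LD2_c47 LD3_c27)) :=
  Lgr Lrot42 (Lpr_df (f327037 IH) (Lpn (LP (LK LD1_c31 LD2_c47 LD3_c27))))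
theorem f335322 : Led Lsl_gt (LP (LK LD1_c32 LD2_c28 LD3_c23)) = (LP (LK LD1_c31 LD2_c44 LD3_c33)) :=
  Lgr Lrot94 (Lpe (f274717 IH) (Lpr_gt (f335316 IH) (Lpr_dt (f296872 IH) (Lpr_gt (f259023 IH) (Lpr_dt (K21.f192968 IH) (Lpe (K18.f287278 IH) (Lpr_df (K18.f296857 IH) (Lpr_gf (K21.f298592 IH) (Lpe (f327042 IH) (Lpn (LP (LK LD1_c31 LD2_c44 LD3_c33))))))))))))
theorem f298502 : Led Lsl_cf (LP (LK LD1_c28 LD2_c3 LD3_c20)) = (LP (LK LD1_c25 LD2_c14 LD3_c14)) :=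
  Lgr Lrot108 (Lpr_ft (K21.f298498 IH) (Lpr_ct (K18.f244505 IH) (Lpr_ft (K22.f244489 IH) (Lpn (LP (LK LD1_c25 LD2_c14 LD3_c14))))))
theorem f327394 : Led Lsl_cf (LP (LK LD1_c29 LD2_c12 LD3_c31)) = (LP (LK LD1_c32 LD2_c24 LD3_c39)) :=
  Lgr Lrot166 (Lpr_gt (K23.f327388 IH) (Lpr_dt (K23.f244127 IH) (Lpe (K19.f299053 IH) (Lpr_dt (K19.f286737 IH) (Lpe (f298502 IH) (Lpe (K20.f296841 IH) (Lpe (K21.f265914 IH) (Lpe (K21.f327268 IH) (Lpe (K23.f243735 IH) (Lpn (LP (LK LD1_c32 LD2_c24 LD3_c39))))))))))))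
theorem f274719 : Led Lsl_dt (LP (LK LD1_c29 LD2_c12 LD3_c31)) = (LP (LK LD1_c19 LD2_c56 LD3_c59)) :=
  Lre_d IH (LK LD1_c29 LD2_c12 LD3_c31) (LK LD1_c19 LD2_c56 LD3_c59) Lrfl Lrfl
theorem f327401 : Led Lsl_dt (LP (LK LD1_c32 LD2_c28 LD3_c23)) = (LP (LK LD1_c32 LD2_c24 LD3_c38)) :=
  Lgr Lrot173 (Lpe (f274717 IH) (Lpe (f274716 IH) (Lpe (K22.f274715 IH) (Lpr_df (K22.f274712 IH) (Lpe (K22.f274718 IH) (Lpe (f274719 IH) (Lpr_cf (f327394 IH) (Lpe (f327304 IH) (Lpe (f274731 IH) (Lpe (f274702 IH) (Lpe (K21.f263282 IH) (Lpr_df (K16.f274709 IH) (Lpe (K16.f274732 IH) (Lpe (K16.f274733 IH) (Lpr_cf (K21.f327220 IH) (Lpn (LP (LK LD1_c32 LD2_c24 LD3_c38))))))))))))))))))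
theorem f350532 : Led Lsl_gt (LP (LK LD1_c19 LD2_c58 LD3_c43)) = (LP (LK LD1_c27 LD2_c24 LD3_c2)) :=
  Lgr Lrot150 (Lpe (K21.f296242 IH) (Lpr_gf (K21.f327215 IH) (Lpe (f327401 IH) (Lpr_gt (f335322 IH) (Lpr_ct (f298607 IH) (Lpr_gt (f332882 IH) (Lpr_ct (f252736 IH) (Lpe (f332889 IH) (Lpr_cf (f350528 IH) (Lpn (LP (LK LD1_c27 LD2_c24 LD3_c2))))))))))))
theorem f189199 : Led Lsl_gt (LP (LK LD1_c5 LD2_c36 LD3_c3)) = (LP (LK LD1_c11 LD2_c4 LD3_c26)) :=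
  Lre_g IH (LK LD1_c5 LD2_c36 LD3_c3) (LK LD1_c11 LD2_c4 LD3_c26) Lrfl Lrfl
theorem f274576 : Led Lsl_et (LP (LK LD1_c19 LD2_c57 LD3_c0)) = (LP (LK LD1_c11 LD2_c4 LD3_c26)) :=
  Lre_e IH (LK LD1_c19 LD2_c57 LD3_c0) (LK LD1_c11 LD2_c4 LD3_c26) Lrfl Lrfl
theorem f265660 : Led Lsl_et (LP (LK LD1_c9 LD2_c33 LD3_c24)) = (LP (LK LD1_c4 LD2_c50 LD3_c38)) :=
  Lre_e IH (LK LD1_c9 LD2_c33 LD3_c24) (LK LD1_c4 LD2_c50 LD3_c38) Lrfl Lrfl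
theorem f274577 : Led Lsl_dt (LP (LK LD1_c19 LD2_c57 LD3_c0)) = (LP (LK LD1_c27 LD2_c24 LD3_c2)) :=
  Lgr Lrot136 (Lpr_et (f274576 IH) (Lpe (f189199 IH) (Lpe (f187626 IH) (Lpr_dt (K15.f187623 IH) (Lpe (K15.f178251 IH) (Lpe (K16.f274566 IH) (Lpr_gf (K16.f274564 IH) (Lpe (f265660 IH) (Lpr_dt (K18.f243737 IH) (Lpe (f265662 IH) (Lpn (LP (LK LD1_c27 LD2_c24 LD3_c2)))))))))))))
theorem f274579 : Led Lsl_df (LP (LK LD1_c19 LD2_c57 LD3_c0)) = (LP (LK LD1_c27 LD2_c24 LD3_c2)) :=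
  Lgr Lrot38 (Lpr_dt (f274577 IH) (Lpn (LP (LK LD1_c27 LD2_c24 LD3_c2))))
theorem f350534 : Led Lsl_gf (LP (LK LD1_c15 LD2_c21 LD3_c47)) = (LP (LK LD1_c19 LD2_c57 LD3_c0)) :=
  Lgr Lrot143 (Lpr_dt (K22.f226790 IH) (Lpe (K22.f226804 IH) (Lpr_df (f350489 IH) (Lpe (f350494 IH) (Lpr_df (f327297 IH) (Lpe (f327205 IH) (Lpe (K21.f296241 IH) (Lpr_gt (f350532 IH) (Lpe (f274579 IH) (Lpn (LP (LK LD1_c19 LD2_c57 LD3_c0))))))))))))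
theorem f226792 : Led Lsl_et (LP (LK LD1_c4 LD2_c4 LD3_c26)) = (LP (LK LD1_c1 LD2_c59 LD3_c8)) :=
  Lre_e IH (LK LD1_c4 LD2_c4 LD3_c26) (LK LD1_c1 LD2_c59 LD3_c8) Lrfl Lrfl
theorem f226794 : Led Lsl_gt (LP (LK LD1_c8 LD2_c9 LD3_c49)) = (LP (LK LD1_c15 LD2_c22 LD3_c35)) :=
  Lre_g IH (LK LD1_c8 LD2_c9 LD3_c49) (LK LD1_c15 LD2_c22 LD3_c35) Lrfl Lrfl
theorem f274581 : Led Lsl_et (LP (LK LD1_c11 LD2_c4 LD3_c26)) = (LP (LK LD1_c19 LD2_c57 LD3_c0)) :=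
  Lre_e IH (LK LD1_c11 LD2_c4 LD3_c26) (LK LD1_c19 LD2_c57 LD3_c0) Lrfl Lrfl
theorem f350562 : Led Lsl_df (LP (LK LD1_c15 LD2_c22 LD3_c35)) = (LP (LK LD1_c11 LD2_c4 LD3_c26)) :=
  Lgr Lrot168 (Lpe (f226794 IH) (Lpe (K19.f226793 IH) (Lpr_et (f226792 IH) (Lpr_gf (K12.f226776 IH) (Lpe (K22.f226788 IH) (Lpr_dt (K18.f226789 IH) (Lpe (K22.f220316 IH) (Lpe (K22.f226790 IH) (Lpr_gf (f350534 IH) (Lpe (f274581 IH) (Lpn (LP (LK LD1_c11 LD2_c4 LD3_c26)))))))))))))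
theorem f350567 : Led Lsl_dt (LP (LK LD1_c15 LD2_c22 LD3_c35)) = (LP (LK LD1_c11 LD2_c4 LD3_c26)) :=
  Lgr Lrot42 (Lpr_df (f350562 IH) (Lpn (LP (LK LD1_c11 LD2_c4 LD3_c26))))
theorem f350538 : Led Lsl_cf (LP (LK LD1_c20 LD2_c57 LD3_c2)) = (LP (LK LD1_c19 LD2_c57 LD3_c0)) :=
  Lgr Lrot14 (Lpe (K19.f305605 IH) (Lpr_gf (K19.f296524 IH) (Lpr_df (K19.f260011 IH) (Lpr_gf (K19.f296269 IH) (Lpr_ct (K18.f244004 IH) (Lpe (K18.f296238 IH) (Lpr_dt (K21.f296240 IH) (Lpr_gt (f350532 IH) (Lpe (f274579 IH) (Lpn (LP (LK LD1_c19 LD2_c57 LD3_c0))))))))))))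
theorem f350540 : Led Lsl_ct (LP (LK LD1_c11 LD2_c53 LD3_c26)) = (LP (LK LD1_c11 LD2_c4 LD3_c26)) :=
  Lgr Lrot15 (Lpe (K19.f42481 IH) (Lpr_cf (f350538 IH) (Lpe (f274581 IH) (Lpn (LP (LK LD1_c11 LD2_c4 LD3_c26))))))
theorem f350579 : Led Lsl_gf (LP (LK LD1_c4 LD2_c4 LD3_c26)) = (LP (LK LD1_c8 LD2_c7 LD3_c38)) :=
  Lgr Lrot144 (Lpr_dt (K19.f226793 IH) (Lpr_gt (f226794 IH) (Lpr_dt (f350567 IH) (Lpe (f350540 IH) (Lpe (K19.f305601 IH) (Lpe (K19.f199058 IH) (Lpe (K12.f28874 IH) (Lpe (K22.f28980 IH) (Lpe (f284240 IH) (Lpn (LP (LK LD1_c8 LD2_c7 LD3_c38))))))))))))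
theorem f167866 : Led Lsl_et (LP (LK LD1_c1 LD2_c3 LD3_c10)) = (LP (LK LD1_c0 LD2_c28 LD3_c47)) :=
  Lre_e IH (LK LD1_c1 LD2_c3 LD3_c10) (LK LD1_c0 LD2_c28 LD3_c47) Lrfl Lrfl
theorem f247331 : Led Lsl_bt (LP (LK LD1_c1 LD2_c59 LD3_c9)) = (LP (LK LD1_c1 LD2_c3 LD3_c10)) :=
  Lgr Lrot119 (Lpe (K21.f200708 IH) (Lpr_bf (K14.f247327 IH) (Lpe (f167866 IH) (Lpn (LP (LK LD1_c1 LD2_c3 LD3_c10))))))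
theorem f167857 : Led Lsl_gt (LP (LK LD1_c1 LD2_c3 LD3_c10)) = (LP (LK LD1_c2 LD2_c12 LD3_c25)) :=
  Lre_g IH (LK LD1_c1 LD2_c3 LD3_c10) (LK LD1_c2 LD2_c12 LD3_c25) Lrfl Lrfl
theorem f167881 : Led Lsl_bt (LP (LK LD1_c4 LD2_c30 LD3_c59)) = (LP (LK LD1_c2 LD2_c12 LD3_c25)) :=
  Lre_b IH (LK LD1_c4 LD2_c30 LD3_c59) (LK LD1_c2 LD2_c12 LD3_c25) Lrfl Lrfl
theorem f167902 : Led Lsl_ct (LP (LK LD1_c4 LD2_c30 LD3_c59)) = (LP (LK LD1_c9 LD2_c0 LD3_c2)) :=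
  Lre_c IH (LK LD1_c4 LD2_c30 LD3_c59) (LK LD1_c9 LD2_c0 LD3_c2) Lrfl Lrfl
theorem f284237 : Led Lsl_ct (LP (LK LD1_c4 LD2_c3 LD3_c31)) = (LP (LK LD1_c8 LD2_c7 LD3_c38)) :=
  Lre_c IH (LK LD1_c4 LD2_c3 LD3_c31) (LK LD1_c8 LD2_c7 LD3_c38) Lrfl Lrfl
theorem f350584 : Led Lsl_gt (LP (LK LD1_c9 LD2_c0 LD3_c2)) = (LP (LK LD1_c15 LD2_c41 LD3_c58)) :=
  Lgr Lrot65 (Lpe (f167902 IH) (Lpr_bt (f167881 IH) (Lpe (f167857 IH) (Lpe (f247331 IH) (Lpr_ct (K23.f313175 IH) (Lpr_gf (f350579 IH) (Lpe (f284237 IH) (Lpe (K22.f284235 IH) (Lpe (K17.f170730 IH) (Lpr_ct (K16.f170732 IH) (Lpn (LP (LK LD1_c15 LD2_c41 LD3_c58)))))))))))))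
theorem f189185 : Led Lsl_ct (LP (LK LD1_c5 LD2_c36 LD3_c3)) = (LP (LK LD1_c2 LD2_c43 LD3_c52)) :=
  Lre_c IH (LK LD1_c5 LD2_c36 LD3_c3) (LK LD1_c2 LD2_c43 LD3_c52) Lrfl Lrfl
theorem f178198 : Led Lsl_ct (LP (LK LD1_c2 LD2_c43 LD3_c49)) = (LP (LK LD1_c1 LD2_c18 LD3_c17)) :=
  Lre_c IH (LK LD1_c2 LD2_c43 LD3_c49) (LK LD1_c1 LD2_c18 LD3_c17) Lrfl Lrfl
theorem f277985 : Led Lsl_gt (LP (LK LD1_c5 LD2_c35 LD3_c54)) = (LP (LK LD1_c2 LD2_c43 LD3_c49)) :=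
  Lre_g IH (LK LD1_c5 LD2_c35 LD3_c54) (LK LD1_c2 LD2_c43 LD3_c49) Lrfl Lrfl
theorem f338638 : Led Lsl_ct (LP (LK LD1_c9 LD2_c37 LD3_c38)) = (LP (LK LD1_c5 LD2_c35 LD3_c54)) :=
  Lgr Lrot152 (Lpr_gf (K19.f305502 IH) (Lpe (K10.f194733 IH) (Lpr_gt (K19.f305574 IH) (Lpr_ct (K23.f338627 IH) (Lpr_gt (K23.f291217 IH) (Lpr_ct (f189185 IH) (Lpe (K23.f189176 IH) (Lpe (f178198 IH) (Lpe (f277985 IH) (Lpn (LP (LK LD1_c5 LD2_c35 LD3_c54))))))))))))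
theorem f305505 : Led Lsl_ct (LP (LK LD1_c5 LD2_c22 LD3_c41)) = (LP (LK LD1_c10 LD2_c35 LD3_c36)) :=
  Lre_c IH (LK LD1_c5 LD2_c22 LD3_c41) (LK LD1_c10 LD2_c35 LD3_c36) Lrfl Lrfl
theorem f189187 : Led Lsl_ct (LP (LK LD1_c1 LD2_c18 LD3_c17)) = (LP (LK LD1_c2 LD2_c43 LD3_c49)) :=
  Lre_c IH (LK LD1_c1 LD2_c18 LD3_c17) (LK LD1_c2 LD2_c43 LD3_c49) Lrfl Lrfl
theorem f178197 : Led Lsl_bt (LP (LK LD1_c1 LD2_c18 LD3_c17)) = (LP (LK LD1_c0 LD2_c36 LD3_c9)) :=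
  Lre_b IH (LK LD1_c1 LD2_c18 LD3_c17) (LK LD1_c0 LD2_c36 LD3_c9) Lrfl Lrfl
theorem f178188 : Led Lsl_bt (LP (LK LD1_c2 LD2_c44 LD3_c18)) = (LP (LK LD1_c1 LD2_c18 LD3_c30)) :=
  Lre_b IH (LK LD1_c2 LD2_c44 LD3_c18) (LK LD1_c1 LD2_c18 LD3_c30) Lrfl Lrfl
theorem f178234 : Led Lsl_ct (LP (LK LD1_c2 LD2_c44 LD3_c18)) = (LP (LK LD1_c5 LD2_c36 LD3_c53)) :=
  Lre_c IH (LK LD1_c2 LD2_c44 LD3_c18) (LK LD1_c5 LD2_c36 LD3_c53) Lrfl Lrfl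
theorem f338664 : Led Lsl_gf (LP (LK LD1_c10 LD2_c35 LD3_c36)) = (LP (LK LD1_c5 LD2_c36 LD3_c53)) :=
  Lgr Lrot126 (Lpe (f305505 IH) (Lpr_bt (K10.f194728 IH) (Lpe (K19.f305502 IH) (Lpr_ct (f338638 IH) (Lpr_gt (f277985 IH) (Lpe (f189187 IH) (Lpr_bt (f178197 IH) (Lpr_gt (K23.f178179 IH) (Lpe (f178188 IH) (Lpr_ct (f178234 IH) (Lpn (LP (LK LD1_c5 LD2_c36 LD3_c53)))))))))))))
theorem f312670 : Led Lsl_af (LP (LK LD1_c10 LD2_c35 LD3_c36)) = (LP (LK LD1_c10 LD2_c35 LD3_c11)) :=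
  Lgr Lrot0 (Lpr_at (K19.f312668 IH) (Lpn (LP (LK LD1_c10 LD2_c35 LD3_c11))))
theorem f338666 : Led Lsl_gt (LP (LK LD1_c5 LD2_c22 LD3_c21)) = (LP (LK LD1_c5 LD2_c36 LD3_c53)) :=
  Lgr Lrot5 (Lpr_ft (K19.f310912 IH) (Lpe (f312670 IH) (Lpr_gf (f338664 IH) (Lpn (LP (LK LD1_c5 LD2_c36 LD3_c53))))))
theorem f182820 : Led Lsl_ct (LP (LK LD1_c2 LD2_c37 LD3_c42)) = (LP (LK LD1_c5 LD2_c22 LD3_c21)) :=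
  Lre_c IH (LK LD1_c2 LD2_c37 LD3_c42) (LK LD1_c5 LD2_c22 LD3_c21) Lrfl Lrfl
theorem f182165 : Led Lsl_gt (LP (LK LD1_c5 LD2_c22 LD3_c23)) = (LP (LK LD1_c2 LD2_c37 LD3_c42)) :=
  Lre_g IH (LK LD1_c5 LD2_c22 LD3_c23) (LK LD1_c2 LD2_c37 LD3_c42) Lrfl Lrfl
theorem f170829 : Led Lsl_gt (LP (LK LD1_c4 LD2_c10 LD3_c7)) = (LP (LK LD1_c8 LD2_c20 LD3_c27)) :=
  Lre_g IH (LK LD1_c4 LD2_c10 LD3_c7) (LK LD1_c8 LD2_c20 LD3_c27) Lrfl Lrfl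
theorem f182157 : Led Lsl_dt (LP (LK LD1_c5 LD2_c22 LD3_c24)) = (LP (LK LD1_c2 LD2_c37 LD3_c42)) :=
  Lre_d IH (LK LD1_c5 LD2_c22 LD3_c24) (LK LD1_c2 LD2_c37 LD3_c42) Lrfl Lrfl
theorem f222167 : Led Lsl_dt (LP (LK LD1_c8 LD2_c20 LD3_c27)) = (LP (LK LD1_c5 LD2_c22 LD3_c23)) :=
  Lgr Lrot171 (Lpe (f170829 IH) (Lpe (K10.f170705 IH) (Lpr_dt (K10.f53445 IH) (Lpr_gf (K14.f222158 IH) (Lpe (K10.f48044 IH) (Lpr_et (K11.f54371 IH) (Lpe (K9.f182153 IH) (Lpe (K19.f182156 IH) (Lpr_dt (f182157 IH) (Lpe (f182165 IH) (Lpn (LP (LK LD1_c5 LD2_c22 LD3_c23)))))))))))))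
theorem f222171 : Led Lsl_df (LP (LK LD1_c8 LD2_c20 LD3_c27)) = (LP (LK LD1_c5 LD2_c22 LD3_c23)) :=
  Lgr Lrot38 (Lpr_dt (f222167 IH) (Lpn (LP (LK LD1_c5 LD2_c22 LD3_c23))))
theorem f284535 : Led Lsl_gf (LP (LK LD1_c8 LD2_c53 LD3_c20)) = (LP (LK LD1_c8 LD2_c20 LD3_c27)) :=
  Lgr Lrot76 (Lpr_af (K18.f284529 IH) (Lpe (K15.f170817 IH) (Lpr_gt (f170829 IH) (Lpn (LP (LK LD1_c8 LD2_c20 LD3_c27))))))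
theorem f178222 : Led Lsl_ct (LP (LK LD1_c5 LD2_c36 LD3_c53)) = (LP (LK LD1_c2 LD2_c44 LD3_c18)) :=
  Lre_c IH (LK LD1_c5 LD2_c36 LD3_c53) (LK LD1_c2 LD2_c44 LD3_c18) Lrfl Lrfl
theorem f178187 : Led Lsl_bt (LP (LK LD1_c1 LD2_c18 LD3_c31)) = (LP (LK LD1_c2 LD2_c44 LD3_c20)) :=
  Lre_b IH (LK LD1_c1 LD2_c18 LD3_c31) (LK LD1_c2 LD2_c44 LD3_c20) Lrfl Lrfl
theorem f178189 : Led Lsl_dt (LP (LK LD1_c2 LD2_c44 LD3_c20)) = (LP (LK LD1_c2 LD2_c44 LD3_c18)) :=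
  Lgr Lrot79 (Lpe (f178187 IH) (Lpr_df (K23.f178185 IH) (Lpe (f178188 IH) (Lpn (LP (LK LD1_c2 LD2_c44 LD3_c18))))))
theorem f178228 : Led Lsl_ct (LP (LK LD1_c5 LD2_c36 LD3_c57)) = (LP (LK LD1_c2 LD2_c44 LD3_c20)) :=
  Lre_c IH (LK LD1_c5 LD2_c36 LD3_c57) (LK LD1_c2 LD2_c44 LD3_c20) Lrfl Lrfl
theorem f178229 : Led Lsl_gt (LP (LK LD1_c11 LD2_c6 LD3_c0)) = (LP (LK LD1_c5 LD2_c36 LD3_c57)) :=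
  Lre_g IH (LK LD1_c11 LD2_c6 LD3_c0) (LK LD1_c5 LD2_c36 LD3_c57) Lrfl Lrfl
theorem f338669 : Led Lsl_ct (LP (LK LD1_c8 LD2_c53 LD3_c20)) = (LP (LK LD1_c11 LD2_c6 LD3_c0)) :=
  Lgr Lrot152 (Lpr_gf (f284535 IH) (Lpr_df (f222171 IH) (Lpr_gt (f182165 IH) (Lpr_ct (f182820 IH) (Lpr_gt (f338666 IH) (Lpr_ct (f178222 IH) (Lpe (f178189 IH) (Lpe (f178228 IH) (Lpe (f178229 IH) (Lpn (LP (LK LD1_c11 LD2_c6 LD3_c0))))))))))))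
theorem f170752 : Led Lsl_ct (LP (LK LD1_c15 LD2_c41 LD3_c58)) = (LP (LK LD1_c8 LD2_c20 LD3_c29)) :=
  Lre_c IH (LK LD1_c15 LD2_c41 LD3_c58) (LK LD1_c8 LD2_c20 LD3_c29) Lrfl Lrfl
theorem f338677 : Led Lsl_af (LP (LK LD1_c15 LD2_c41 LD3_c58)) = (LP (LK LD1_c11 LD2_c6 LD3_c0)) :=
  Lgr Lrot68 (Lpr_ct (f170752 IH) (Lpe (K18.f284529 IH) (Lpr_ct (f338669 IH) (Lpn (LP (LK LD1_c11 LD2_c6 LD3_c0))))))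
theorem f338688 : Led Lsl_ff (LP (LK LD1_c8 LD2_c53 LD3_c17)) = (LP (LK LD1_c11 LD2_c6 LD3_c0)) :=
  Lgr Lrot23 (Lpr_ct (K17.f42392 IH) (Lpr_ft (K13.f231316 IH) (Lpr_ct (f338669 IH) (Lpn (LP (LK LD1_c11 LD2_c6 LD3_c0))))))
theorem f338703 : Led Lsl_ft (LP (LK LD1_c8 LD2_c53 LD3_c17)) = (LP (LK LD1_c11 LD2_c6 LD3_c0)) :=
  Lgr Lrot48 (Lpr_ff (f338688 IH) (Lpn (LP (LK LD1_c11 LD2_c6 LD3_c0))))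
theorem f350593 : Led Lsl_gf (LP (LK LD1_c9 LD2_c0 LD3_c2)) = (LP (LK LD1_c8 LD2_c53 LD3_c17)) :=
  Lgr Lrot47 (Lpr_gt (f350584 IH) (Lpr_af (f338677 IH) (Lpe (f338703 IH) (Lpn (LP (LK LD1_c8 LD2_c53 LD3_c17))))))
theorem f167894 : Led Lsl_ct (LP (LK LD1_c9 LD2_c0 LD3_c2)) = (LP (LK LD1_c4 LD2_c30 LD3_c59)) :=
  Lre_c IH (LK LD1_c9 LD2_c0 LD3_c2) (LK LD1_c4 LD2_c30 LD3_c59) Lrfl Lrfl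
theorem f167867 : Led Lsl_dt (LP (LK LD1_c1 LD2_c59 LD3_c57)) = (LP (LK LD1_c1 LD2_c3 LD3_c10)) :=
  Lgr Lrot77 (Lpe (K23.f167864 IH) (Lpr_df (K9.f167859 IH) (Lpe (K9.f167865 IH) (Lpe (K12.f167855 IH) (Lpe (f167866 IH) (Lpn (LP (LK LD1_c1 LD2_c3 LD3_c10))))))))
theorem f167861 : Led Lsl_et (LP (LK LD1_c1 LD2_c59 LD3_c57)) = (LP (LK LD1_c0 LD2_c56 LD3_c53)) :=
  Lre_e IH (LK LD1_c1 LD2_c59 LD3_c57) (LK LD1_c0 LD2_c56 LD3_c53) Lrfl Lrfl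
theorem f55296 : Led Lsl_ft (LP (LK LD1_c0 LD2_c25 LD3_c47)) = (LP (LK LD1_c0 LD2_c56 LD3_c55)) :=
  Lre_f IH (LK LD1_c0 LD2_c25 LD3_c47) (LK LD1_c0 LD2_c56 LD3_c55) Lrfl Lrfl
theorem f40763 : Led Lsl_ft (LP (LK LD1_c0 LD2_c32 LD3_c27)) = (LP (LK LD1_c0 LD2_c14 LD3_c31)) :=
  Lre_f IH (LK LD1_c0 LD2_c32 LD3_c27) (LK LD1_c0 LD2_c14 LD3_c31) Lrfl Lrfl
theorem f55297 : Led Lsl_ef (LP (LK LD1_c0 LD2_c25 LD3_c47)) = (LP (LK LD1_c0 LD2_c14 LD3_c31)) :=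
  Lgr Lrot21 (Lpr_ft (f55296 IH) (Lpr_et (K19.f55295 IH) (Lpr_ft (K1.f55259 IH) (Lpr_et (K1.f41093 IH) (Lpr_ft (f40763 IH) (Lpn (LP (LK LD1_c0 LD2_c14 LD3_c31))))))))
theorem f167856 : Led Lsl_et (LP (LK LD1_c0 LD2_c28 LD3_c47)) = (LP (LK LD1_c1 LD2_c3 LD3_c10)) :=
  Lre_e IH (LK LD1_c0 LD2_c28 LD3_c47) (LK LD1_c1 LD2_c3 LD3_c10) Lrfl Lrfl
theorem f167878 : Led Lsl_gt (LP (LK LD1_c2 LD2_c12 LD3_c26)) = (LP (LK LD1_c1 LD2_c3 LD3_c10)) :=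
  Lre_g IH (LK LD1_c2 LD2_c12 LD3_c26) (LK LD1_c1 LD2_c3 LD3_c10) Lrfl Lrfl
theorem f167879 : Led Lsl_dt (LP (LK LD1_c2 LD2_c12 LD3_c25)) = (LP (LK LD1_c2 LD2_c12 LD3_c26)) :=
  Lgr Lrot171 (Lpe (f167857 IH) (Lpe (f167856 IH) (Lpr_dt (K12.f167855 IH) (Lpe (K9.f167832 IH) (Lpe (K1.f40993 IH) (Lpe (f55297 IH) (Lpe (K9.f28226 IH) (Lpe (f167861 IH) (Lpr_dt (f167867 IH) (Lpe (f167878 IH) (Lpn (LP (LK LD1_c2 LD2_c12 LD3_c26)))))))))))))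
theorem f167885 : Led Lsl_df (LP (LK LD1_c2 LD2_c12 LD3_c25)) = (LP (LK LD1_c2 LD2_c12 LD3_c26)) :=
  Lgr Lrot38 (Lpr_dt (f167879 IH) (Lpn (LP (LK LD1_c2 LD2_c12 LD3_c26))))
theorem f167888 : Led Lsl_bt (LP (LK LD1_c2 LD2_c12 LD3_c25)) = (LP (LK LD1_c4 LD2_c30 LD3_c59)) :=
  Lre_b IH (LK LD1_c2 LD2_c12 LD3_c25) (LK LD1_c4 LD2_c30 LD3_c59) Lrfl Lrfl
theorem f167889 : Led Lsl_bt (LP (LK LD1_c4 LD2_c30 LD3_c60)) = (LP (LK LD1_c2 LD2_c12 LD3_c26)) :=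
  Lre_b IH (LK LD1_c4 LD2_c30 LD3_c60) (LK LD1_c2 LD2_c12 LD3_c26) Lrfl Lrfl
theorem f167890 : Led Lsl_dt (LP (LK LD1_c4 LD2_c30 LD3_c59)) = (LP (LK LD1_c4 LD2_c30 LD3_c60)) :=
  Lgr Lrot79 (Lpe (f167888 IH) (Lpr_df (f167885 IH) (Lpe (f167889 IH) (Lpn (LP (LK LD1_c4 LD2_c30 LD3_c60))))))
theorem f167899 : Led Lsl_ct (LP (LK LD1_c9 LD2_c0 LD3_c5)) = (LP (LK LD1_c4 LD2_c30 LD3_c60)) :=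
  Lre_c IH (LK LD1_c9 LD2_c0 LD3_c5) (LK LD1_c4 LD2_c30 LD3_c60) Lrfl Lrfl
theorem f231261 : Led Lsl_ct (LP (LK LD1_c4 LD2_c27 LD3_c43)) = (LP (LK LD1_c8 LD2_c53 LD3_c17)) :=
  Lre_c IH (LK LD1_c4 LD2_c27 LD3_c43) (LK LD1_c8 LD2_c53 LD3_c17) Lrfl Lrfl
theorem f231324 : Led Lsl_gt (LP (LK LD1_c8 LD2_c53 LD3_c19)) = (LP (LK LD1_c4 LD2_c27 LD3_c43)) :=
  Lre_g IH (LK LD1_c8 LD2_c53 LD3_c19) (LK LD1_c4 LD2_c27 LD3_c43) Lrfl Lrfl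
theorem f194649 : Led Lsl_gt (LP (LK LD1_c2 LD2_c37 LD3_c52)) = (LP (LK LD1_c5 LD2_c22 LD3_c38)) :=
  Lre_g IH (LK LD1_c2 LD2_c37 LD3_c52) (LK LD1_c5 LD2_c22 LD3_c38) Lrfl Lrfl
theorem f231325 : Led Lsl_dt (LP (LK LD1_c5 LD2_c22 LD3_c38)) = (LP (LK LD1_c8 LD2_c53 LD3_c19)) :=
  Lgr Lrot171 (Lpe (f194649 IH) (Lpe (K19.f196612 IH) (Lpr_dt (K13.f196611 IH) (Lpr_gf (K12.f196592 IH) (Lpe (K12.f49236 IH) (Lpe (K9.f49218 IH) (Lpe (K12.f47813 IH) (Lpe (K14.f49238 IH) (Lpr_dt (K13.f231297 IH) (Lpe (f231324 IH) (Lpn (LP (LK LD1_c8 LD2_c53 LD3_c19)))))))))))))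
theorem f261023 : Led Lsl_dt (LP (LK LD1_c8 LD2_c7 LD3_c46)) = (LP (LK LD1_c8 LD2_c17 LD3_c60)) :=
  Lgr Lrot42 (Lpr_df (K15.f261006 IH) (Lpn (LP (LK LD1_c8 LD2_c17 LD3_c60))))
theorem f301510 : Led Lsl_et (LP (LK LD1_c19 LD2_c25 LD3_c42)) = (LP (LK LD1_c10 LD2_c44 LD3_c9)) :=
  Lre_e IH (LK LD1_c19 LD2_c25 LD3_c42) (LK LD1_c10 LD2_c44 LD3_c9) Lrfl Lrfl
theorem f301504 : Led Lsl_et (LP (LK LD1_c10 LD2_c44 LD3_c9)) = (LP (LK LD1_c19 LD2_c25 LD3_c42)) :=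
  Lre_e IH (LK LD1_c10 LD2_c44 LD3_c9) (LK LD1_c19 LD2_c25 LD3_c42) Lrfl Lrfl
theorem f234240 : Led Lsl_et (LP (LK LD1_c8 LD2_c20 LD3_c8)) = (LP (LK LD1_c15 LD2_c41 LD3_c21)) :=
  Lre_e IH (LK LD1_c8 LD2_c20 LD3_c8) (LK LD1_c15 LD2_c41 LD3_c21) Lrfl Lrfl
theorem f234239 : Led Lsl_dt (LP (LK LD1_c15 LD2_c41 LD3_c20)) = (LP (LK LD1_c8 LD2_c20 LD3_c8)) :=
  Lre_d IH (LK LD1_c15 LD2_c41 LD3_c20) (LK LD1_c8 LD2_c20 LD3_c8) Lrfl Lrfl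
theorem f48975 : Led Lsl_bt (LP (LK LD1_c15 LD2_c41 LD3_c20)) = (LP (LK LD1_c8 LD2_c20 LD3_c10)) :=
  Lre_b IH (LK LD1_c15 LD2_c41 LD3_c20) (LK LD1_c8 LD2_c20 LD3_c10) Lrfl Lrfl
theorem f234214 : Led Lsl_bt (LP (LK LD1_c8 LD2_c17 LD3_c20)) = (LP (LK LD1_c15 LD2_c35 LD3_c13)) :=
  Lre_b IH (LK LD1_c8 LD2_c17 LD3_c20) (LK LD1_c15 LD2_c35 LD3_c13) Lrfl Lrfl
theorem f234215 : Led Lsl_ef (LP (LK LD1_c15 LD2_c41 LD3_c20)) = (LP (LK LD1_c15 LD2_c35 LD3_c13)) :=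
  Lgr Lrot29 (Lpr_bt (f48975 IH) (Lpr_et (K17.f234210 IH) (Lpr_bt (f234214 IH) (Lpn (LP (LK LD1_c15 LD2_c35 LD3_c13))))))
theorem f301505 : Led Lsl_dt (LP (LK LD1_c19 LD2_c25 LD3_c42)) = (LP (LK LD1_c15 LD2_c35 LD3_c13)) :=
  Lgr Lrot77 (Lpe (f301504 IH) (Lpr_df (K22.f301500 IH) (Lpe (f234240 IH) (Lpe (f234239 IH) (Lpr_ef (f234215 IH) (Lpn (LP (LK LD1_c15 LD2_c35 LD3_c13))))))))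
theorem f328365 : Led Lsl_gt (LP (LK LD1_c8 LD2_c17 LD3_c60)) = (LP (LK LD1_c15 LD2_c35 LD3_c13)) :=
  Lgr Lrot139 (Lpe (f261023 IH) (Lpe (K16.f274530 IH) (Lpe (K16.f271248 IH) (Lpe (K16.f264910 IH) (Lpe (K16.f274462 IH) (Lpr_df (K16.f274537 IH) (Lpr_et (K21.f194263 IH) (Lpr_gf (K22.f328356 IH) (Lpe (f301510 IH) (Lpr_dt (f301505 IH) (Lpn (LP (LK LD1_c15 LD2_c35 LD3_c13)))))))))))))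
theorem f237171 : Led Lsl_at (LP (LK LD1_c8 LD2_c7 LD3_c55)) = (LP (LK LD1_c15 LD2_c18 LD3_c29)) :=
  Lre_a IH (LK LD1_c8 LD2_c7 LD3_c55) (LK LD1_c15 LD2_c18 LD3_c29) Lrfl Lrfl
theorem f237158 : Led Lsl_dt (LP (LK LD1_c15 LD2_c18 LD3_c42)) = (LP (LK LD1_c8 LD2_c7 LD3_c55)) :=
  Lre_d IH (LK LD1_c15 LD2_c18 LD3_c42) (LK LD1_c8 LD2_c7 LD3_c55) Lrfl Lrfl
theorem f261030 : Led Lsl_af (LP (LK LD1_c15 LD2_c18 LD3_c42)) = (LP (LK LD1_c15 LD2_c36 LD3_c29)) :=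
  Lgr Lrot117 (Lpr_dt (f237158 IH) (Lpr_at (f237171 IH) (Lpr_dt (K15.f261026 IH) (Lpn (LP (LK LD1_c15 LD2_c36 LD3_c29))))))
theorem f328367 : Led Lsl_gf (LP (LK LD1_c15 LD2_c18 LD3_c42)) = (LP (LK LD1_c15 LD2_c35 LD3_c13)) :=
  Lgr Lrot76 (Lpr_af (f261030 IH) (Lpe (K15.f260807 IH) (Lpr_gt (f328365 IH) (Lpn (LP (LK LD1_c15 LD2_c35 LD3_c13))))))
theorem f284564 : Led Lsl_gf (LP (LK LD1_c8 LD2_c53 LD3_c19)) = (LP (LK LD1_c8 LD2_c20 LD3_c29)) :=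
  Lgr Lrot47 (Lpr_gt (f231324 IH) (Lpr_af (K18.f284558 IH) (Lpe (K10.f170721 IH) (Lpn (LP (LK LD1_c8 LD2_c20 LD3_c29))))))
theorem f231332 : Led Lsl_df (LP (LK LD1_c5 LD2_c22 LD3_c38)) = (LP (LK LD1_c8 LD2_c53 LD3_c19)) :=
  Lgr Lrot38 (Lpr_dt (f231325 IH) (Lpn (LP (LK LD1_c8 LD2_c53 LD3_c19))))
theorem f182859 : Led Lsl_dt (LP (LK LD1_c10 LD2_c35 LD3_c15)) = (LP (LK LD1_c5 LD2_c22 LD3_c25)) :=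
  Lre_d IH (LK LD1_c10 LD2_c35 LD3_c15) (LK LD1_c5 LD2_c22 LD3_c25) Lrfl Lrfl
theorem f328385 : Led Lsl_gt (LP (LK LD1_c5 LD2_c22 LD3_c38)) = (LP (LK LD1_c5 LD2_c22 LD3_c25)) :=
  Lgr Lrot139 (Lpr_df (f231332 IH) (Lpr_gf (f284564 IH) (Lpr_ef (K18.f256745 IH) (Lpr_dt (K17.f237152 IH) (Lpr_gf (f328367 IH) (Lpe (f301505 IH) (Lpr_et (f301510 IH) (Lpe (K22.f328360 IH) (Lpe (K17.f283470 IH) (Lpr_dt (f182859 IH) (Lpn (LP (LK LD1_c5 LD2_c22 LD3_c25)))))))))))))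
theorem f182860 : Led Lsl_ct (LP (LK LD1_c5 LD2_c22 LD3_c25)) = (LP (LK LD1_c10 LD2_c35 LD3_c11)) :=
  Lre_c IH (LK LD1_c5 LD2_c22 LD3_c25) (LK LD1_c10 LD2_c35 LD3_c11) Lrfl Lrfl
theorem f350597 : Led Lsl_gf (LP (LK LD1_c9 LD2_c0 LD3_c5)) = (LP (LK LD1_c10 LD2_c35 LD3_c11)) :=
  Lgr Lrot104 (Lpr_ct (f167899 IH) (Lpe (f167890 IH) (Lpe (f167894 IH) (Lpr_gf (f350593 IH) (Lpe (f231261 IH) (Lpe (f231324 IH) (Lpe (f231325 IH) (Lpr_gt (f328385 IH) (Lpr_ct (f182860 IH) (Lpn (LP (LK LD1_c10 LD2_c35 LD3_c11))))))))))))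
theorem f167897 : Led Lsl_ct (LP (LK LD1_c4 LD2_c30 LD3_c60)) = (LP (LK LD1_c9 LD2_c0 LD3_c5)) :=
  Lre_c IH (LK LD1_c4 LD2_c30 LD3_c60) (LK LD1_c9 LD2_c0 LD3_c5) Lrfl Lrfl
theorem f201034 : Led Lsl_ct (LP (LK LD1_c4 LD2_c3 LD3_c30)) = (LP (LK LD1_c8 LD2_c7 LD3_c36)) :=
  Lre_c IH (LK LD1_c4 LD2_c3 LD3_c30) (LK LD1_c8 LD2_c7 LD3_c36) Lrfl Lrfl
theorem f350614 : Led Lsl_bt (LP (LK LD1_c4 LD2_c3 LD3_c30)) = (LP (LK LD1_c5 LD2_c22 LD3_c38)) :=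
  Lgr Lrot130 (Lpr_ct (f201034 IH) (Lpr_gf (K23.f347007 IH) (Lpe (K23.f313175 IH) (Lpr_bt (f247331 IH) (Lpe (f167878 IH) (Lpe (f167889 IH) (Lpr_ct (f167897 IH) (Lpr_gf (f350597 IH) (Lpe (f182860 IH) (Lpe (f328385 IH) (Lpn (LP (LK LD1_c5 LD2_c22 LD3_c38)))))))))))))
theorem f314945 : Led Lsl_ct (LP (LK LD1_c4 LD2_c14 LD3_c32)) = (LP (LK LD1_c8 LD2_c27 LD3_c42)) :=
  Lre_c IH (LK LD1_c4 LD2_c14 LD3_c32) (LK LD1_c8 LD2_c27 LD3_c42) Lrfl Lrfl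
theorem f201025 : Led Lsl_ct (LP (LK LD1_c5 LD2_c22 LD3_c29)) = (LP (LK LD1_c10 LD2_c35 LD3_c20)) :=
  Lre_c IH (LK LD1_c5 LD2_c22 LD3_c29) (LK LD1_c10 LD2_c35 LD3_c20) Lrfl Lrfl
theorem f212921 : Led Lsl_gt (LP (LK LD1_c5 LD2_c35 LD3_c16)) = (LP (LK LD1_c11 LD2_c2 LD3_c39)) :=
  Lre_g IH (LK LD1_c5 LD2_c35 LD3_c16) (LK LD1_c11 LD2_c2 LD3_c39) Lrfl Lrfl
theorem f212927 : Led Lsl_dt (LP (LK LD1_c11 LD2_c2 LD3_c39)) = (LP (LK LD1_c19 LD2_c54 LD3_c0)) :=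
  Lre_d IH (LK LD1_c11 LD2_c2 LD3_c39) (LK LD1_c19 LD2_c54 LD3_c0) Lrfl Lrfl
theorem f212926 : Led Lsl_gt (LP (LK LD1_c19 LD2_c54 LD3_c0)) = (LP (LK LD1_c19 LD2_c56 LD3_c56)) :=
  Lre_g IH (LK LD1_c19 LD2_c54 LD3_c0) (LK LD1_c19 LD2_c56 LD3_c56) Lrfl Lrfl
theorem f212967 : Led Lsl_dt (LP (LK LD1_c11 LD2_c4 LD3_c18)) = (LP (LK LD1_c19 LD2_c56 LD3_c56)) :=
  Lre_d IH (LK LD1_c11 LD2_c4 LD3_c18) (LK LD1_c19 LD2_c56 LD3_c56) Lrfl Lrfl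
theorem f212968 : Led Lsl_et (LP (LK LD1_c11 LD2_c4 LD3_c18)) = (LP (LK LD1_c5 LD2_c35 LD3_c61)) :=
  Lre_e IH (LK LD1_c11 LD2_c4 LD3_c18) (LK LD1_c5 LD2_c35 LD3_c61) Lrfl Lrfl
theorem f212969 : Led Lsl_gf (LP (LK LD1_c10 LD2_c35 LD3_c20)) = (LP (LK LD1_c5 LD2_c35 LD3_c61)) :=
  Lgr Lrot141 (Lpe (K17.f212966 IH) (Lpe (K12.f212962 IH) (Lpr_gt (K12.f212960 IH) (Lpe (K13.f212772 IH) (Lpr_et (K12.f212918 IH) (Lpr_gt (f212921 IH) (Lpr_dt (f212927 IH) (Lpr_gt (f212926 IH) (Lpe (f212967 IH) (Lpr_et (f212968 IH) (Lpn (LP (LK LD1_c5 LD2_c35 LD3_c61)))))))))))))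
theorem f189168 : Led Lsl_ct (LP (LK LD1_c2 LD2_c43 LD3_c51)) = (LP (LK LD1_c5 LD2_c35 LD3_c61)) :=
  Lre_c IH (LK LD1_c2 LD2_c43 LD3_c51) (LK LD1_c5 LD2_c35 LD3_c61) Lrfl Lrfl
theorem f189192 : Led Lsl_gt (LP (LK LD1_c5 LD2_c35 LD3_c23)) = (LP (LK LD1_c2 LD2_c43 LD3_c51)) :=
  Lre_g IH (LK LD1_c5 LD2_c35 LD3_c23) (LK LD1_c2 LD2_c43 LD3_c51) Lrfl Lrfl
theorem f350624 : Led Lsl_bt (LP (LK LD1_c4 LD2_c14 LD3_c32)) = (LP (LK LD1_c5 LD2_c35 LD3_c23)) :=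
  Lgr Lrot130 (Lpr_ct (f314945 IH) (Lpe (f347009 IH) (Lpe (f201034 IH) (Lpr_bt (f350614 IH) (Lpe (f194649 IH) (Lpe (K21.f194706 IH) (Lpr_ct (f201025 IH) (Lpr_gf (f212969 IH) (Lpe (f189168 IH) (Lpe (f189192 IH) (Lpn (LP (LK LD1_c5 LD2_c35 LD3_c23)))))))))))))
theorem f189222 : Led Lsl_bt (LP (LK LD1_c5 LD2_c35 LD3_c60)) = (LP (LK LD1_c2 LD2_c43 LD3_c51)) :=
  Lre_b IH (LK LD1_c5 LD2_c35 LD3_c60) (LK LD1_c2 LD2_c43 LD3_c51) Lrfl Lrfl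
theorem f189230 : Led Lsl_ct (LP (LK LD1_c5 LD2_c35 LD3_c60)) = (LP (LK LD1_c11 LD2_c4 LD3_c14)) :=
  Lre_c IH (LK LD1_c5 LD2_c35 LD3_c60) (LK LD1_c11 LD2_c4 LD3_c14) Lrfl Lrfl
theorem f350630 : Led Lsl_gf (LP (LK LD1_c8 LD2_c7 LD3_c18)) = (LP (LK LD1_c11 LD2_c4 LD3_c14)) :=
  Lgr Lrot126 (Lpe (K17.f199023 IH) (Lpr_bt (K12.f198955 IH) (Lpr_gt (K21.f31195 IH) (Lpr_ct (f201034 IH) (Lpr_gt (f347009 IH) (Lpe (f314945 IH) (Lpr_bt (f350624 IH) (Lpr_gt (f189192 IH) (Lpe (f189222 IH) (Lpr_ct (f189230 IH) (Lpn (LP (LK LD1_c11 LD2_c4 LD3_c14)))))))))))))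
theorem f337954 : Led Lsl_dt (LP (LK LD1_c8 LD2_c55 LD3_c37)) = (LP (LK LD1_c16 LD2_c42 LD3_c39)) :=
  Lre_d IH (LK LD1_c8 LD2_c55 LD3_c37) (LK LD1_c16 LD2_c42 LD3_c39) Lrfl Lrfl
theorem f337955 : Led Lsl_gt (LP (LK LD1_c16 LD2_c42 LD3_c39)) = (LP (LK LD1_c26 LD2_c41 LD3_c25)) :=
  Lre_g IH (LK LD1_c16 LD2_c42 LD3_c39) (LK LD1_c26 LD2_c41 LD3_c25) Lrfl Lrfl
theorem f350637 : Led Lsl_et (LP (LK LD1_c19 LD2_c56 LD3_c48)) = (LP (LK LD1_c11 LD2_c4 LD3_c14)) :=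
  Lre_e IH (LK LD1_c19 LD2_c56 LD3_c48) (LK LD1_c11 LD2_c4 LD3_c14) Lrfl Lrfl
theorem f350638 : Led Lsl_df (LP (LK LD1_c26 LD2_c41 LD3_c25)) = (LP (LK LD1_c19 LD2_c56 LD3_c48)) :=
  Lgr Lrot132 (Lpe (f337955 IH) (Lpe (f337954 IH) (Lpr_gf (K22.f337950 IH) (Lpe (K20.f220846 IH) (Lpe (K15.f267312 IH) (Lpe (K15.f199498 IH) (Lpe (K15.f199497 IH) (Lpr_et (K22.f213501 IH) (Lpr_gf (f350630 IH) (Lpe (f350637 IH) (Lpn (LP (LK LD1_c19 LD2_c56 LD3_c48)))))))))))))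
theorem f350640 : Led Lsl_dt (LP (LK LD1_c26 LD2_c41 LD3_c25)) = (LP (LK LD1_c19 LD2_c56 LD3_c48)) :=
  Lgr Lrot42 (Lpr_df (f350638 IH) (Lpn (LP (LK LD1_c19 LD2_c56 LD3_c48))))
theorem f247666 : Led Lsl_dt (LP (LK LD1_c9 LD2_c43 LD3_c22)) = (LP (LK LD1_c17 LD2_c52 LD3_c33)) :=
  Lre_d IH (LK LD1_c9 LD2_c43 LD3_c22) (LK LD1_c17 LD2_c52 LD3_c33) Lrfl Lrfl
theorem f335796 : Led Lsl_ct (LP (LK LD1_c11 LD2_c4 LD3_c15)) = (LP (LK LD1_c19 LD2_c56 LD3_c48)) :=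
  Lre_c IH (LK LD1_c11 LD2_c4 LD3_c15) (LK LD1_c19 LD2_c56 LD3_c48) Lrfl Lrfl
theorem f189236 : Led Lsl_dt (LP (LK LD1_c19 LD2_c56 LD3_c51)) = (LP (LK LD1_c11 LD2_c4 LD3_c15)) :=
  Lre_d IH (LK LD1_c19 LD2_c56 LD3_c51) (LK LD1_c11 LD2_c4 LD3_c15) Lrfl Lrfl
theorem f350647 : Led Lsl_gt (LP (LK LD1_c17 LD2_c52 LD3_c33)) = (LP (LK LD1_c19 LD2_c56 LD3_c51)) :=
  Lgr Lrot49 (Lpe (f247666 IH) (Lpe (K21.f324091 IH) (Lpe (K17.f220834 IH) (Lpe (K22.f337950 IH) (Lpr_dt (f337954 IH) (Lpr_gt (f337955 IH) (Lpr_dt (f350640 IH) (Lpe (f335796 IH) (Lpe (f189236 IH) (Lpn (LP (LK LD1_c19 LD2_c56 LD3_c51))))))))))))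
theorem f189232 : Led Lsl_dt (LP (LK LD1_c11 LD2_c4 LD3_c15)) = (LP (LK LD1_c19 LD2_c56 LD3_c51)) :=
  Lre_d IH (LK LD1_c11 LD2_c4 LD3_c15) (LK LD1_c19 LD2_c56 LD3_c51) Lrfl Lrfl
theorem f189235 : Led Lsl_et (LP (LK LD1_c11 LD2_c4 LD3_c15)) = (LP (LK LD1_c5 LD2_c35 LD3_c60)) :=
  Lre_e IH (LK LD1_c11 LD2_c4 LD3_c15) (LK LD1_c5 LD2_c35 LD3_c60) Lrfl Lrfl
theorem f350653 : Led Lsl_gf (LP (LK LD1_c8 LD2_c39 LD3_c52)) = (LP (LK LD1_c5 LD2_c35 LD3_c60)) :=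
  Lgr Lrot141 (Lpe (K10.f187210 IH) (Lpr_dt (K14.f187214 IH) (Lpr_gt (K12.f219456 IH) (Lpe (K12.f199179 IH) (Lpr_et (K17.f219343 IH) (Lpr_gt (K21.f324091 IH) (Lpr_dt (f247666 IH) (Lpr_gt (f350647 IH) (Lpe (f189232 IH) (Lpr_et (f189235 IH) (Lpn (LP (LK LD1_c5 LD2_c35 LD3_c60)))))))))))))
theorem f187703 : Led Lsl_bt (LP (LK LD1_c5 LD2_c17 LD3_c24)) = (LP (LK LD1_c10 LD2_c24 LD3_c18)) :=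
  Lre_b IH (LK LD1_c5 LD2_c17 LD3_c24) (LK LD1_c10 LD2_c24 LD3_c18) Lrfl Lrfl
theorem f187198 : Led Lsl_bt (LP (LK LD1_c8 LD2_c39 LD3_c52)) = (LP (LK LD1_c8 LD2_c26 LD3_c22)) :=
  Lgr Lrot127 (Lpr_bf (K10.f187195 IH) (Lpn (LP (LK LD1_c8 LD2_c26 LD3_c22))))
theorem f191734 : Led Lsl_dt (LP (LK LD1_c10 LD2_c24 LD3_c18)) = (LP (LK LD1_c8 LD2_c39 LD3_c52)) :=
  Lgr Lrot79 (Lpe (f187703 IH) (Lpr_df (K10.f191730 IH) (Lpe (f187198 IH) (Lpn (LP (LK LD1_c8 LD2_c39 LD3_c52))))))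
theorem f189160 : Led Lsl_dt (LP (LK LD1_c0 LD2_c59 LD3_c19)) = (LP (LK LD1_c0 LD2_c27 LD3_c0)) :=
  Lre_d IH (LK LD1_c0 LD2_c59 LD3_c19) (LK LD1_c0 LD2_c27 LD3_c0) Lrfl Lrfl
theorem f189161 : Led Lsl_et (LP (LK LD1_c0 LD2_c59 LD3_c19)) = (LP (LK LD1_c2 LD2_c4 LD3_c37)) :=
  Lre_e IH (LK LD1_c0 LD2_c59 LD3_c19) (LK LD1_c2 LD2_c4 LD3_c37) Lrfl Lrfl
theorem f32050 : Led Lsl_gt (LP (LK LD1_c2 LD2_c4 LD3_c37)) = (LP (LK LD1_c4 LD2_c14 LD3_c29)) :=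
  Lre_g IH (LK LD1_c2 LD2_c4 LD3_c37) (LK LD1_c4 LD2_c14 LD3_c29) Lrfl Lrfl
theorem f189162 : Led Lsl_df (LP (LK LD1_c2 LD2_c43 LD3_c51)) = (LP (LK LD1_c4 LD2_c14 LD3_c29)) :=
  Lgr Lrot135 (Lpr_gt (K23.f189154 IH) (Lpe (K22.f189153 IH) (Lpr_et (K22.f189152 IH) (Lpr_gt (K10.f189141 IH) (Lpe (K13.f189159 IH) (Lpr_dt (K10.f52670 IH) (Lpr_gt (K12.f8096 IH) (Lpe (f189160 IH) (Lpr_et (f189161 IH) (Lpr_gt (f32050 IH) (Lpn (LP (LK LD1_c4 LD2_c14 LD3_c29)))))))))))))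
theorem f189170 : Led Lsl_dt (LP (LK LD1_c2 LD2_c43 LD3_c51)) = (LP (LK LD1_c4 LD2_c14 LD3_c29)) :=
  Lgr Lrot42 (Lpr_df (f189162 IH) (Lpn (LP (LK LD1_c4 LD2_c14 LD3_c29))))
theorem f189197 : Led Lsl_bt (LP (LK LD1_c4 LD2_c14 LD3_c29)) = (LP (LK LD1_c8 LD2_c27 LD3_c43)) :=
  Lre_b IH (LK LD1_c4 LD2_c14 LD3_c29) (LK LD1_c8 LD2_c27 LD3_c43) Lrfl Lrfl
theorem f189223 : Led Lsl_df (LP (LK LD1_c5 LD2_c35 LD3_c60)) = (LP (LK LD1_c8 LD2_c27 LD3_c43)) :=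
  Lgr Lrot12 (Lpr_bt (f189222 IH) (Lpr_dt (f189170 IH) (Lpr_bt (f189197 IH) (Lpn (LP (LK LD1_c8 LD2_c27 LD3_c43))))))
theorem f350659 : Led Lsl_gt (LP (LK LD1_c7 LD2_c57 LD3_c50)) = (LP (LK LD1_c8 LD2_c27 LD3_c43)) :=
  Lgr Lrot137 (Lpe (K22.f187247 IH) (Lpr_dt (K10.f167797 IH) (Lpr_gf (K10.f187242 IH) (Lpe (K10.f43267 IH) (Lpr_et (K20.f43270 IH) (Lpe (K11.f191755 IH) (Lpe (K10.f187675 IH) (Lpr_dt (f191734 IH) (Lpr_gf (f350653 IH) (Lpr_df (f189223 IH) (Lpn (LP (LK LD1_c8 LD2_c27 LD3_c43)))))))))))))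
theorem f54093 : Led Lsl_et (LP (LK LD1_c8 LD2_c38 LD3_c32)) = (LP (LK LD1_c4 LD2_c20 LD3_c20)) :=
  Lre_e IH (LK LD1_c8 LD2_c38 LD3_c32) (LK LD1_c4 LD2_c20 LD3_c20) Lrfl Lrfl
theorem f189164 : Led Lsl_bt (LP (LK LD1_c2 LD2_c43 LD3_c51)) = (LP (LK LD1_c5 LD2_c35 LD3_c60)) :=
  Lre_b IH (LK LD1_c2 LD2_c43 LD3_c51) (LK LD1_c5 LD2_c35 LD3_c60) Lrfl Lrfl
theorem f189165 : Led Lsl_bt (LP (LK LD1_c8 LD2_c27 LD3_c43)) = (LP (LK LD1_c4 LD2_c14 LD3_c29)) :=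
  Lre_b IH (LK LD1_c8 LD2_c27 LD3_c43) (LK LD1_c4 LD2_c14 LD3_c29) Lrfl Lrfl
theorem f189166 : Led Lsl_dt (LP (LK LD1_c5 LD2_c35 LD3_c60)) = (LP (LK LD1_c8 LD2_c27 LD3_c43)) :=
  Lgr Lrot79 (Lpe (f189164 IH) (Lpr_df (f189162 IH) (Lpe (f189165 IH) (Lpn (LP (LK LD1_c8 LD2_c27 LD3_c43))))))
theorem f189231 : Led Lsl_et (LP (LK LD1_c5 LD2_c35 LD3_c60)) = (LP (LK LD1_c11 LD2_c4 LD3_c15)) :=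
  Lre_e IH (LK LD1_c5 LD2_c35 LD3_c60) (LK LD1_c11 LD2_c4 LD3_c15) Lrfl Lrfl
theorem f189237 : Led Lsl_gt (LP (LK LD1_c11 LD2_c4 LD3_c15)) = (LP (LK LD1_c19 LD2_c56 LD3_c49)) :=
  Lre_g IH (LK LD1_c11 LD2_c4 LD3_c15) (LK LD1_c19 LD2_c56 LD3_c49) Lrfl Lrfl
theorem f350664 : Led Lsl_df (LP (LK LD1_c16 LD2_c8 LD3_c39)) = (LP (LK LD1_c19 LD2_c56 LD3_c49)) :=
  Lgr Lrot135 (Lpe (K20.f292534 IH) (Lpe (K10.f183656 IH) (Lpr_et (K10.f183649 IH) (Lpr_gt (K10.f183662 IH) (Lpe (f54093 IH) (Lpe (K10.f187256 IH) (Lpr_gt (f350659 IH) (Lpe (f189166 IH) (Lpr_et (f189231 IH) (Lpr_gt (f189237 IH) (Lpn (LP (LK LD1_c19 LD2_c56 LD3_c49)))))))))))))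
theorem f350669 : Led Lsl_dt (LP (LK LD1_c16 LD2_c8 LD3_c39)) = (LP (LK LD1_c19 LD2_c56 LD3_c49)) :=
  Lgr Lrot42 (Lpr_df (f350664 IH) (Lpn (LP (LK LD1_c19 LD2_c56 LD3_c49))))
theorem f213909 : Led Lsl_et (LP (LK LD1_c2 LD2_c25 LD3_c15)) = (LP (LK LD1_c4 LD2_c54 LD3_c45)) :=
  Lre_e IH (LK LD1_c2 LD2_c25 LD3_c15) (LK LD1_c4 LD2_c54 LD3_c45) Lrfl Lrfl
theorem f213946 : Led Lsl_gt (LP (LK LD1_c9 LD2_c41 LD3_c4)) = (LP (LK LD1_c4 LD2_c54 LD3_c45)) :=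
  Lre_g IH (LK LD1_c9 LD2_c41 LD3_c4) (LK LD1_c4 LD2_c54 LD3_c45) Lrfl Lrfl
theorem f213982 : Led Lsl_et (LP (LK LD1_c17 LD2_c48 LD3_c53)) = (LP (LK LD1_c9 LD2_c41 LD3_c4)) :=
  Lre_e IH (LK LD1_c17 LD2_c48 LD3_c53) (LK LD1_c9 LD2_c41 LD3_c4) Lrfl Lrfl
theorem f216312 : Led Lsl_et (LP (LK LD1_c2 LD2_c25 LD3_c18)) = (LP (LK LD1_c4 LD2_c54 LD3_c51)) :=
  Lre_e IH (LK LD1_c2 LD2_c25 LD3_c18) (LK LD1_c4 LD2_c54 LD3_c51) Lrfl Lrfl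
theorem f214036 : Led Lsl_gt (LP (LK LD1_c4 LD2_c54 LD3_c51)) = (LP (LK LD1_c9 LD2_c41 LD3_c10)) :=
  Lre_g IH (LK LD1_c4 LD2_c54 LD3_c51) (LK LD1_c9 LD2_c41 LD3_c10) Lrfl Lrfl
theorem f216313 : Led Lsl_df (LP (LK LD1_c9 LD2_c41 LD3_c4)) = (LP (LK LD1_c9 LD2_c41 LD3_c10)) :=
  Lgr Lrot135 (Lpr_gt (f213946 IH) (Lpe (K13.f213923 IH) (Lpr_et (K22.f27732 IH) (Lpr_gt (K12.f27731 IH) (Lpr_ef (K0.f27706 IH) (Lpr_dt (K0.f27702 IH) (Lpr_gt (K12.f216296 IH) (Lpe (K15.f216311 IH) (Lpr_et (f216312 IH) (Lpr_gt (f214036 IH) (Lpn (LP (LK LD1_c9 LD2_c41 LD3_c10)))))))))))))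
theorem f27712 : Led Lsl_et (LP (LK LD1_c4 LD2_c50 LD3_c31)) = (LP (LK LD1_c9 LD2_c33 LD3_c15)) :=
  Lre_e IH (LK LD1_c4 LD2_c50 LD3_c31) (LK LD1_c9 LD2_c33 LD3_c15) Lrfl Lrfl
theorem f27713 : Led Lsl_gt (LP (LK LD1_c9 LD2_c33 LD3_c15)) = (LP (LK LD1_c17 LD2_c35 LD3_c40)) :=
  Lre_g IH (LK LD1_c9 LD2_c33 LD3_c15) (LK LD1_c17 LD2_c35 LD3_c40) Lrfl Lrfl
theorem f216319 : Led Lsl_ef (LP (LK LD1_c17 LD2_c35 LD3_c40)) = (LP (LK LD1_c9 LD2_c41 LD3_c10)) :=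
  Lgr Lrot17 (Lpe (f27713 IH) (Lpe (f27712 IH) (Lpr_dt (K14.f27711 IH) (Lpe (K10.f27710 IH) (Lpe (K0.f27709 IH) (Lpe (K12.f27731 IH) (Lpe (K22.f27732 IH) (Lpr_dt (K13.f213923 IH) (Lpe (f213946 IH) (Lpr_df (f216313 IH) (Lpn (LP (LK LD1_c9 LD2_c41 LD3_c10)))))))))))))
theorem f216321 : Led Lsl_et (LP (LK LD1_c17 LD2_c35 LD3_c40)) = (LP (LK LD1_c9 LD2_c41 LD3_c10)) :=
  Lgr Lrot87 (Lpr_ef (f216319 IH) (Lpn (LP (LK LD1_c9 LD2_c41 LD3_c10))))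
theorem f223932 : Led Lsl_gt (LP (LK LD1_c15 LD2_c24 LD3_c33)) = (LP (LK LD1_c8 LD2_c11 LD3_c2)) :=
  Lre_g IH (LK LD1_c15 LD2_c24 LD3_c33) (LK LD1_c8 LD2_c11 LD3_c2) Lrfl Lrfl
theorem f223933 : Led Lsl_dt (LP (LK LD1_c17 LD2_c35 LD3_c40)) = (LP (LK LD1_c15 LD2_c24 LD3_c33)) :=
  Lgr Lrot136 (Lpr_et (f216321 IH) (Lpe (f214036 IH) (Lpe (f216312 IH) (Lpr_dt (K15.f216311 IH) (Lpe (K12.f216296 IH) (Lpe (K0.f27702 IH) (Lpe (K13.f223900 IH) (Lpe (K15.f173100 IH) (Lpr_dt (K15.f223913 IH) (Lpe (f223932 IH) (Lpn (LP (LK LD1_c15 LD2_c24 LD3_c33)))))))))))))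
theorem f216315 : Led Lsl_dt (LP (LK LD1_c9 LD2_c41 LD3_c4)) = (LP (LK LD1_c9 LD2_c41 LD3_c10)) :=
  Lgr Lrot42 (Lpr_df (f216313 IH) (Lpn (LP (LK LD1_c9 LD2_c41 LD3_c10))))
theorem f223937 : Led Lsl_et (LP (LK LD1_c15 LD2_c24 LD3_c33)) = (LP (LK LD1_c25 LD2_c16 LD3_c52)) :=
  Lre_e IH (LK LD1_c15 LD2_c24 LD3_c33) (LK LD1_c25 LD2_c16 LD3_c52) Lrfl Lrfl
theorem f223938 : Led Lsl_df (LP (LK LD1_c17 LD2_c48 LD3_c53)) = (LP (LK LD1_c25 LD2_c16 LD3_c52)) :=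
  Lgr Lrot70 (Lpr_et (f213982 IH) (Lpr_dt (f216315 IH) (Lpe (f216319 IH) (Lpr_dt (f223933 IH) (Lpr_et (f223937 IH) (Lpn (LP (LK LD1_c25 LD2_c16 LD3_c52))))))))
theorem f223941 : Led Lsl_dt (LP (LK LD1_c17 LD2_c48 LD3_c53)) = (LP (LK LD1_c25 LD2_c16 LD3_c52)) :=
  Lgr Lrot42 (Lpr_df (f223938 IH) (Lpn (LP (LK LD1_c25 LD2_c16 LD3_c52))))
theorem f350689 : Led Lsl_gf (LP (LK LD1_c25 LD2_c16 LD3_c52)) = (LP (LK LD1_c19 LD2_c56 LD3_c49)) :=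
  Lgr Lrot134 (Lpe (f223941 IH) (Lpr_et (f213982 IH) (Lpr_gt (f213946 IH) (Lpe (f213909 IH) (Lpr_dt (K13.f213908 IH) (Lpr_gt (K17.f292488 IH) (Lpe (K16.f279310 IH) (Lpr_et (K17.f279320 IH) (Lpr_gt (K20.f292497 IH) (Lpr_dt (f350669 IH) (Lpn (LP (LK LD1_c19 LD2_c56 LD3_c49)))))))))))))
theorem f214049 : Led Lsl_dt (LP (LK LD1_c9 LD2_c41 LD3_c11)) = (LP (LK LD1_c4 LD2_c54 LD3_c51)) :=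
  Lre_d IH (LK LD1_c9 LD2_c41 LD3_c11) (LK LD1_c4 LD2_c54 LD3_c51) Lrfl Lrfl
theorem f216317 : Led Lsl_et (LP (LK LD1_c9 LD2_c41 LD3_c4)) = (LP (LK LD1_c17 LD2_c48 LD3_c53)) :=
  Lre_e IH (LK LD1_c9 LD2_c41 LD3_c4) (LK LD1_c17 LD2_c48 LD3_c53) Lrfl Lrfl
theorem f247668 : Led Lsl_dt (LP (LK LD1_c17 LD2_c52 LD3_c33)) = (LP (LK LD1_c9 LD2_c43 LD3_c22)) :=
  Lre_d IH (LK LD1_c17 LD2_c52 LD3_c33) (LK LD1_c9 LD2_c43 LD3_c22) Lrfl Lrfl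
theorem f324095 : Led Lsl_gt (LP (LK LD1_c17 LD2_c48 LD3_c53)) = (LP (LK LD1_c17 LD2_c52 LD3_c33)) :=
  Lgr Lrot137 (Lpe (f216317 IH) (Lpr_dt (f216315 IH) (Lpe (f214036 IH) (Lpe (f214049 IH) (Lpr_et (K12.f214050 IH) (Lpe (K12.f214068 IH) (Lpe (K21.f31093 IH) (Lpe (K10.f31085 IH) (Lpr_gf (K21.f324089 IH) (Lpe (f247668 IH) (Lpn (LP (LK LD1_c17 LD2_c52 LD3_c33)))))))))))))
theorem f247670 : Led Lsl_et (LP (LK LD1_c9 LD2_c43 LD3_c22)) = (LP (LK LD1_c17 LD2_c52 LD3_c34)) :=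
  Lre_e IH (LK LD1_c9 LD2_c43 LD3_c22) (LK LD1_c17 LD2_c52 LD3_c34) Lrfl Lrfl
theorem f350536 : Led Lsl_ct (LP (LK LD1_c20 LD2_c57 LD3_c2)) = (LP (LK LD1_c19 LD2_c57 LD3_c0)) :=
  Lgr Lrot7 (Lpe (K19.f305605 IH) (Lpr_gf (K19.f296524 IH) (Lpr_df (K19.f260011 IH) (Lpr_gf (K19.f296269 IH) (Lpe (K18.f244005 IH) (Lpe (K18.f296238 IH) (Lpr_dt (K21.f296240 IH) (Lpr_gt (f350532 IH) (Lpe (f274579 IH) (Lpn (LP (LK LD1_c19 LD2_c57 LD3_c0))))))))))))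
theorem f321641 : Led Lsl_bt (LP (LK LD1_c16 LD2_c35 LD3_c3)) = (LP (LK LD1_c15 LD2_c14 LD3_c41)) :=
  Lgr Lrot95 (Lpe (K20.f230581 IH) (Lpr_bf (K20.f321637 IH) (Lpe (K19.f246137 IH) (Lpn (LP (LK LD1_c15 LD2_c14 LD3_c41))))))
theorem f230582 : Led Lsl_ct (LP (LK LD1_c16 LD2_c35 LD3_c3)) = (LP (LK LD1_c26 LD2_c32 LD3_c27)) :=
  Lre_c IH (LK LD1_c16 LD2_c35 LD3_c3) (LK LD1_c26 LD2_c32 LD3_c27) Lrfl Lrfl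
theorem f322753 : Led Lsl_bf (LP (LK LD1_c11 LD2_c2 LD3_c44)) = (LP (LK LD1_c8 LD2_c28 LD3_c37)) :=
  Lgr Lrot24 (Lpr_bt (K20.f322751 IH) (Lpn (LP (LK LD1_c8 LD2_c28 LD3_c37))))
theorem f246899 : Led Lsl_bt (LP (LK LD1_c24 LD2_c52 LD3_c30)) = (LP (LK LD1_c15 LD2_c3 LD3_c24)) :=
  Lre_b IH (LK LD1_c24 LD2_c52 LD3_c30) (LK LD1_c15 LD2_c3 LD3_c24) Lrfl Lrfl
theorem f242947 : Led Lsl_bt (LP (LK LD1_c4 LD2_c3 LD3_c54)) = (LP (LK LD1_c1 LD2_c58 LD3_c58)) :=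
  Lre_b IH (LK LD1_c4 LD2_c3 LD3_c54) (LK LD1_c1 LD2_c58 LD3_c58) Lrfl Lrfl
theorem f242944 : Led Lsl_gt (LP (LK LD1_c15 LD2_c19 LD3_c16)) = (LP (LK LD1_c8 LD2_c8 LD3_c13)) :=
  Lre_g IH (LK LD1_c15 LD2_c19 LD3_c16) (LK LD1_c8 LD2_c8 LD3_c13) Lrfl Lrfl
theorem f213719 : Led Lsl_bt (LP (LK LD1_c15 LD2_c3 LD3_c22)) = (LP (LK LD1_c7 LD2_c58 LD3_c47)) :=
  Lre_b IH (LK LD1_c15 LD2_c3 LD3_c22) (LK LD1_c7 LD2_c58 LD3_c47) Lrfl Lrfl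
theorem f345945 : Led Lsl_cf (LP (LK LD1_c15 LD2_c19 LD3_c16)) = (LP (LK LD1_c15 LD2_c3 LD3_c22)) :=
  Lgr Lrot160 (Lpr_gt (f242944 IH) (Lpe (K18.f242949 IH) (Lpr_bt (f242947 IH) (Lpr_gt (K23.f227984 IH) (Lpr_ct (K23.f246108 IH) (Lpr_gt (K23.f345936 IH) (Lpe (K20.f314136 IH) (Lpr_bt (K19.f235439 IH) (Lpr_gt (K23.f345185 IH) (Lpe (f213719 IH) (Lpn (LP (LK LD1_c15 LD2_c3 LD3_c22)))))))))))))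
theorem f345953 : Led Lsl_et (LP (LK LD1_c15 LD2_c19 LD3_c16)) = (LP (LK LD1_c25 LD2_c10 LD3_c20)) :=
  Lre_e IH (LK LD1_c15 LD2_c19 LD3_c16) (LK LD1_c25 LD2_c10 LD3_c20) Lrfl Lrfl
theorem f246881 : Led Lsl_et (LP (LK LD1_c24 LD2_c52 LD3_c30)) = (LP (LK LD1_c15 LD2_c3 LD3_c22)) :=
  Lre_e IH (LK LD1_c24 LD2_c52 LD3_c30) (LK LD1_c15 LD2_c3 LD3_c22) Lrfl Lrfl
theorem f345954 : Led Lsl_ct (LP (LK LD1_c25 LD2_c10 LD3_c20)) = (LP (LK LD1_c24 LD2_c52 LD3_c30)) :=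
  Lgr Lrot15 (Lpe (f345953 IH) (Lpr_cf (f345945 IH) (Lpe (f246881 IH) (Lpn (LP (LK LD1_c24 LD2_c52 LD3_c30))))))
theorem f346015 : Led Lsl_cf (LP (LK LD1_c25 LD2_c10 LD3_c20)) = (LP (LK LD1_c24 LD2_c52 LD3_c30)) :=
  Lgr Lrot11 (Lpr_ct (f345954 IH) (Lpn (LP (LK LD1_c24 LD2_c52 LD3_c30))))
theorem f350556 : Led Lsl_gf (LP (LK LD1_c26 LD2_c32 LD3_c27)) = (LP (LK LD1_c25 LD2_c10 LD3_c20)) :=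
  Lgr Lrot126 (Lpe (f230582 IH) (Lpr_bt (f321641 IH) (Lpe (K19.f305614 IH) (Lpr_ct (f350536 IH) (Lpe (f350534 IH) (Lpr_cf (K22.f312232 IH) (Lpe (f322753 IH) (Lpr_gt (K23.f327771 IH) (Lpe (f246899 IH) (Lpe (f346015 IH) (Lpn (LP (LK LD1_c25 LD2_c10 LD3_c20)))))))))))))
theorem f316399 : Led Lsl_ct (LP (LK LD1_c26 LD2_c32 LD3_c27)) = (LP (LK LD1_c16 LD2_c35 LD3_c3)) :=
  Lre_c IH (LK LD1_c26 LD2_c32 LD3_c27) (LK LD1_c16 LD2_c35 LD3_c3) Lrfl Lrfl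
theorem f247593 : Led Lsl_ct (LP (LK LD1_c16 LD2_c35 LD3_c2)) = (LP (LK LD1_c8 LD2_c52 LD3_c12)) :=
  Lre_c IH (LK LD1_c16 LD2_c35 LD3_c2) (LK LD1_c8 LD2_c52 LD3_c12) Lrfl Lrfl
theorem f324104 : Led Lsl_dt (LP (LK LD1_c17 LD2_c45 LD3_c36)) = (LP (LK LD1_c17 LD2_c52 LD3_c34)) :=
  Lgr Lrot42 (Lpr_df (K21.f324100 IH) (Lpn (LP (LK LD1_c17 LD2_c52 LD3_c34))))
theorem f257638 : Led Lsl_bt (LP (LK LD1_c17 LD2_c52 LD3_c34)) = (LP (LK LD1_c9 LD2_c43 LD3_c25)) :=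
  Lre_b IH (LK LD1_c17 LD2_c52 LD3_c34) (LK LD1_c9 LD2_c43 LD3_c25) Lrfl Lrfl
theorem f324153 : Led Lsl_bf (LP (LK LD1_c17 LD2_c45 LD3_c36)) = (LP (LK LD1_c9 LD2_c39 LD3_c43)) :=
  Lgr Lrot93 (Lpr_dt (f324104 IH) (Lpr_bt (f257638 IH) (Lpe (K19.f257635 IH) (Lpn (LP (LK LD1_c9 LD2_c39 LD3_c43))))))
theorem f248629 : Led Lsl_ct (LP (LK LD1_c9 LD2_c39 LD3_c43)) = (LP (LK LD1_c17 LD2_c46 LD3_c11)) :=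
  Lre_c IH (LK LD1_c9 LD2_c39 LD3_c43) (LK LD1_c17 LD2_c46 LD3_c11) Lrfl Lrfl
theorem f214950 : Led Lsl_dt (LP (LK LD1_c18 LD2_c11 LD3_c43)) = (LP (LK LD1_c9 LD2_c56 LD3_c34)) :=
  Lre_d IH (LK LD1_c18 LD2_c11 LD3_c43) (LK LD1_c9 LD2_c56 LD3_c34) Lrfl Lrfl
theorem f214946 : Led Lsl_et (LP (LK LD1_c9 LD2_c56 LD3_c34)) = (LP (LK LD1_c5 LD2_c2 LD3_c53)) :=
  Lre_e IH (LK LD1_c9 LD2_c56 LD3_c34) (LK LD1_c5 LD2_c2 LD3_c53) Lrfl Lrfl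
theorem f214947 : Led Lsl_dt (LP (LK LD1_c9 LD2_c56 LD3_c34)) = (LP (LK LD1_c18 LD2_c11 LD3_c43)) :=
  Lre_d IH (LK LD1_c9 LD2_c56 LD3_c34) (LK LD1_c18 LD2_c11 LD3_c43) Lrfl Lrfl
theorem f43787 : Led Lsl_dt (LP (LK LD1_c9 LD2_c39 LD3_c47)) = (LP (LK LD1_c17 LD2_c46 LD3_c19)) :=
  Lre_d IH (LK LD1_c9 LD2_c39 LD3_c47) (LK LD1_c17 LD2_c46 LD3_c19) Lrfl Lrfl
theorem f214948 : Led Lsl_gf (LP (LK LD1_c18 LD2_c11 LD3_c43)) = (LP (LK LD1_c17 LD2_c46 LD3_c19)) :=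
  Lgr Lrot145 (Lpe (f214947 IH) (Lpr_et (f214946 IH) (Lpe (K16.f214942 IH) (Lpr_dt (K16.f214937 IH) (Lpr_gt (K14.f31519 IH) (Lpe (K14.f43899 IH) (Lpe (K12.f44337 IH) (Lpr_gt (K14.f43780 IH) (Lpe (K18.f43786 IH) (Lpr_dt (f43787 IH) (Lpn (LP (LK LD1_c17 LD2_c46 LD3_c19)))))))))))))
theorem f248634 : Led Lsl_ct (LP (LK LD1_c17 LD2_c46 LD3_c11)) = (LP (LK LD1_c9 LD2_c39 LD3_c43)) :=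
  Lre_c IH (LK LD1_c17 LD2_c46 LD3_c11) (LK LD1_c9 LD2_c39 LD3_c43) Lrfl Lrfl
theorem f278253 : Led Lsl_gf (LP (LK LD1_c9 LD2_c39 LD3_c47)) = (LP (LK LD1_c17 LD2_c46 LD3_c11)) :=
  Lgr Lrot144 (Lpr_dt (f43787 IH) (Lpe (f214948 IH) (Lpr_dt (f214950 IH) (Lpe (K23.f214954 IH) (Lpe (K23.f278225 IH) (Lpe (K23.f278241 IH) (Lpr_df (K23.f278242 IH) (Lpe (K19.f230276 IH) (Lpe (f248634 IH) (Lpn (LP (LK LD1_c17 LD2_c46 LD3_c11))))))))))))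
theorem f294264 : Led Lsl_gf (LP (LK LD1_c17 LD2_c46 LD3_c11)) = (LP (LK LD1_c17 LD2_c47 LD3_c28)) :=
  Lgr Lrot47 (Lpe (f278253 IH) (Lpr_af (K18.f294253 IH) (Lpe (K18.f193160 IH) (Lpn (LP (LK LD1_c17 LD2_c47 LD3_c28))))))
theorem f321639 : Led Lsl_bt (LP (LK LD1_c8 LD2_c52 LD3_c12)) = (LP (LK LD1_c8 LD2_c5 LD3_c48)) :=
  Lgr Lrot127 (Lpr_bf (K20.f321637 IH) (Lpn (LP (LK LD1_c8 LD2_c5 LD3_c48))))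
theorem f230586 : Led Lsl_ct (LP (LK LD1_c8 LD2_c52 LD3_c12)) = (LP (LK LD1_c16 LD2_c35 LD3_c2)) :=
  Lre_c IH (LK LD1_c8 LD2_c52 LD3_c12) (LK LD1_c16 LD2_c35 LD3_c2) Lrfl Lrfl
theorem f337667 : Led Lsl_gf (LP (LK LD1_c16 LD2_c35 LD3_c2)) = (LP (LK LD1_c8 LD2_c52 LD3_c17)) :=
  Lgr Lrot129 (Lpe (f230586 IH) (Lpr_bt (f321639 IH) (Lpe (K21.f326774 IH) (Lpr_bf (K23.f260118 IH) (Lpe (K18.f193162 IH) (Lpe (f294264 IH) (Lpe (f248629 IH) (Lpe (f324153 IH) (Lpr_gt (K21.f247006 IH) (Lpr_ct (K22.f337658 IH) (Lpn (LP (LK LD1_c8 LD2_c52 LD3_c17)))))))))))))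
theorem f350558 : Led Lsl_gt (LP (LK LD1_c17 LD2_c52 LD3_c34)) = (LP (LK LD1_c24 LD2_c52 LD3_c30)) :=
  Lgr Lrot9 (Lpe (f324104 IH) (Lpr_gt (K21.f247006 IH) (Lpr_ct (K22.f337658 IH) (Lpe (f337667 IH) (Lpr_ct (f247593 IH) (Lpe (K20.f247594 IH) (Lpe (f316399 IH) (Lpr_gf (f350556 IH) (Lpr_cf (f346015 IH) (Lpn (LP (LK LD1_c24 LD2_c52 LD3_c30))))))))))))
theorem f246877 : Led Lsl_et (LP (LK LD1_c15 LD2_c3 LD3_c22)) = (LP (LK LD1_c24 LD2_c52 LD3_c30)) :=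
  Lre_e IH (LK LD1_c15 LD2_c3 LD3_c22) (LK LD1_c24 LD2_c52 LD3_c30) Lrfl Lrfl
theorem f246862 : Led Lsl_bt (LP (LK LD1_c7 LD2_c58 LD3_c47)) = (LP (LK LD1_c15 LD2_c3 LD3_c22)) :=
  Lre_b IH (LK LD1_c7 LD2_c58 LD3_c47) (LK LD1_c15 LD2_c3 LD3_c22) Lrfl Lrfl
theorem f246863 : Led Lsl_bt (LP (LK LD1_c18 LD2_c30 LD3_c25)) = (LP (LK LD1_c10 LD2_c9 LD3_c35)) :=
  Lre_b IH (LK LD1_c18 LD2_c30 LD3_c25) (LK LD1_c10 LD2_c9 LD3_c35) Lrfl Lrfl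
theorem f246864 : Led Lsl_dt (LP (LK LD1_c15 LD2_c3 LD3_c22)) = (LP (LK LD1_c18 LD2_c30 LD3_c25)) :=
  Lgr Lrot79 (Lpe (f246862 IH) (Lpr_df (K19.f246860 IH) (Lpe (f246863 IH) (Lpn (LP (LK LD1_c18 LD2_c30 LD3_c25))))))
theorem f190333 : Led Lsl_dt (LP (LK LD1_c5 LD2_c8 LD3_c47)) = (LP (LK LD1_c2 LD2_c31 LD3_c34)) :=
  Lre_d IH (LK LD1_c5 LD2_c8 LD3_c47) (LK LD1_c2 LD2_c31 LD3_c34) Lrfl Lrfl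
theorem f247048 : Led Lsl_et (LP (LK LD1_c5 LD2_c8 LD3_c47)) = (LP (LK LD1_c10 LD2_c7 LD3_c57)) :=
  Lre_e IH (LK LD1_c5 LD2_c8 LD3_c47) (LK LD1_c10 LD2_c7 LD3_c57) Lrfl Lrfl
theorem f350673 : Led Lsl_ef (LP (LK LD1_c18 LD2_c27 LD3_c20)) = (LP (LK LD1_c19 LD2_c56 LD3_c49)) :=
  Lgr Lrot17 (Lpe (K22.f251598 IH) (Lpe (f247048 IH) (Lpr_dt (f190333 IH) (Lpe (K15.f254230 IH) (Lpr_df (K10.f187252 IH) (Lpe (K10.f183662 IH) (Lpe (K10.f183649 IH) (Lpr_dt (K10.f183656 IH) (Lpr_gf (K20.f292534 IH) (Lpr_df (f350664 IH) (Lpn (LP (LK LD1_c19 LD2_c56 LD3_c49)))))))))))))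
theorem f350677 : Led Lsl_et (LP (LK LD1_c18 LD2_c27 LD3_c20)) = (LP (LK LD1_c19 LD2_c56 LD3_c49)) :=
  Lgr Lrot87 (Lpr_ef (f350673 IH) (Lpn (LP (LK LD1_c19 LD2_c56 LD3_c49))))
theorem f350691 : Led Lsl_gt (LP (LK LD1_c18 LD2_c30 LD3_c25)) = (LP (LK LD1_c28 LD2_c2 LD3_c29)) :=
  Lgr Lrot112 (Lpe (f246864 IH) (Lpr_et (f246877 IH) (Lpe (f350558 IH) (Lpe (f247670 IH) (Lpr_dt (f247666 IH) (Lpe (f324095 IH) (Lpr_df (f223938 IH) (Lpr_gf (f350689 IH) (Lpe (f350677 IH) (Lpr_dt (K22.f251600 IH) (Lpn (LP (LK LD1_c28 LD2_c2 LD3_c29)))))))))))))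
theorem f246878 : Led Lsl_et (LP (LK LD1_c10 LD2_c9 LD3_c32)) = (LP (LK LD1_c18 LD2_c30 LD3_c25)) :=
  Lre_e IH (LK LD1_c10 LD2_c9 LD3_c32) (LK LD1_c18 LD2_c30 LD3_c25) Lrfl Lrfl
theorem f246882 : Led Lsl_dt (LP (LK LD1_c10 LD2_c9 LD3_c32)) = (LP (LK LD1_c18 LD2_c30 LD3_c24)) :=
  Lre_d IH (LK LD1_c10 LD2_c9 LD3_c32) (LK LD1_c18 LD2_c30 LD3_c24) Lrfl Lrfl
theorem f192992 : Led Lsl_et (LP (LK LD1_c25 LD2_c0 LD3_c13)) = (LP (LK LD1_c15 LD2_c11 LD3_c3)) :=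
  Lre_e IH (LK LD1_c25 LD2_c0 LD3_c13) (LK LD1_c15 LD2_c11 LD3_c3) Lrfl Lrfl
theorem f304633 : Led Lsl_dt (LP (LK LD1_c15 LD2_c48 LD3_c42)) = (LP (LK LD1_c8 LD2_c24 LD3_c38)) :=
  Lre_d IH (LK LD1_c15 LD2_c48 LD3_c42) (LK LD1_c8 LD2_c24 LD3_c38) Lrfl Lrfl
theorem f304634 : Led Lsl_et (LP (LK LD1_c25 LD2_c45 LD3_c16)) = (LP (LK LD1_c15 LD2_c48 LD3_c42)) :=
  Lre_e IH (LK LD1_c25 LD2_c45 LD3_c16) (LK LD1_c15 LD2_c48 LD3_c42) Lrfl Lrfl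
theorem f330830 : Led Lsl_et (LP (LK LD1_c15 LD2_c11 LD3_c3)) = (LP (LK LD1_c25 LD2_c0 LD3_c13)) :=
  Lre_e IH (LK LD1_c15 LD2_c11 LD3_c3) (LK LD1_c25 LD2_c0 LD3_c13) Lrfl Lrfl
theorem f330831 : Led Lsl_df (LP (LK LD1_c25 LD2_c45 LD3_c16)) = (LP (LK LD1_c25 LD2_c0 LD3_c13)) :=
  Lgr Lrot70 (Lpr_et (f304634 IH) (Lpr_dt (f304633 IH) (Lpr_et (K21.f304596 IH) (Lpr_dt (K22.f330824 IH) (Lpr_et (f330830 IH) (Lpn (LP (LK LD1_c25 LD2_c0 LD3_c13))))))))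
theorem f350693 : Led Lsl_gf (LP (LK LD1_c18 LD2_c30 LD3_c24)) = (LP (LK LD1_c25 LD2_c45 LD3_c16)) :=
  Lgr Lrot145 (Lpe (f246882 IH) (Lpr_et (f246878 IH) (Lpr_gt (f350691 IH) (Lpr_dt (K22.f251599 IH) (Lpr_gt (K22.f252167 IH) (Lpr_df (K14.f192285 IH) (Lpr_et (K17.f282103 IH) (Lpr_gt (K22.f330881 IH) (Lpe (f192992 IH) (Lpe (f330831 IH) (Lpn (LP (LK LD1_c25 LD2_c45 LD3_c16)))))))))))))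
theorem f246879 : Led Lsl_dt (LP (LK LD1_c18 LD2_c30 LD3_c24)) = (LP (LK LD1_c10 LD2_c9 LD3_c32)) :=
  Lre_d IH (LK LD1_c18 LD2_c30 LD3_c24) (LK LD1_c10 LD2_c9 LD3_c32) Lrfl Lrfl
theorem f304639 : Led Lsl_et (LP (LK LD1_c15 LD2_c48 LD3_c42)) = (LP (LK LD1_c25 LD2_c45 LD3_c16)) :=
  Lre_e IH (LK LD1_c15 LD2_c48 LD3_c42) (LK LD1_c25 LD2_c45 LD3_c16) Lrfl Lrfl
theorem f330818 : Led Lsl_gf (LP (LK LD1_c8 LD2_c24 LD3_c38)) = (LP (LK LD1_c14 LD2_c58 LD3_c9)) :=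
  Lgr Lrot138 (Lpr_dt (K21.f304635 IH) (Lpr_gt (K21.f330813 IH) (Lpe (K19.f233273 IH) (Lpr_et (K18.f233272 IH) (Lpe (K15.f233264 IH) (Lpe (K12.f53835 IH) (Lpr_dt (K10.f53811 IH) (Lpe (K15.f266247 IH) (Lpe (K15.f230390 IH) (Lpr_et (K17.f230395 IH) (Lpn (LP (LK LD1_c14 LD2_c58 LD3_c9)))))))))))))
theorem f350695 : Led Lsl_gt (LP (LK LD1_c10 LD2_c9 LD3_c32)) = (LP (LK LD1_c9 LD2_c39 LD3_c34)) :=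
  Lgr Lrot139 (Lpe (f246879 IH) (Lpr_gf (f350693 IH) (Lpe (f304639 IH) (Lpr_dt (f304633 IH) (Lpr_gf (f330818 IH) (Lpr_df (K15.f266233 IH) (Lpr_et (K17.f43556 IH) (Lpe (K10.f43554 IH) (Lpe (K9.f43386 IH) (Lpe (K9.f43389 IH) (Lpn (LP (LK LD1_c9 LD2_c39 LD3_c34)))))))))))))
theorem f350701 : Led Lsl_bt (LP (LK LD1_c5 LD2_c9 LD3_c25)) = (LP (LK LD1_c10 LD2_c9 LD3_c32)) :=
  Lre_b IH (LK LD1_c5 LD2_c9 LD3_c25) (LK LD1_c10 LD2_c9 LD3_c32) Lrfl Lrfl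
theorem f33967 : Led Lsl_ct (LP (LK LD1_c5 LD2_c9 LD3_c25)) = (LP (LK LD1_c10 LD2_c9 LD3_c33)) :=
  Lre_c IH (LK LD1_c5 LD2_c9 LD3_c25) (LK LD1_c10 LD2_c9 LD3_c33) Lrfl Lrfl
theorem f335241 : Led Lsl_gf (LP (LK LD1_c10 LD2_c29 LD3_c12)) = (LP (LK LD1_c10 LD2_c26 LD3_c26)) :=
  Lgr Lrot47 (Lpr_gt (K22.f335239 IH) (Lpe (K21.f190778 IH) (Lpr_ff (K12.f191590 IH) (Lpn (LP (LK LD1_c10 LD2_c26 LD3_c26))))))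
theorem f45839 : Led Lsl_ct (LP (LK LD1_c15 LD2_c14 LD3_c40)) = (LP (LK LD1_c8 LD2_c5 LD3_c47)) :=
  Lre_c IH (LK LD1_c15 LD2_c14 LD3_c40) (LK LD1_c8 LD2_c5 LD3_c47) Lrfl Lrfl
theorem f184558 : Led Lsl_cf (LP (LK LD1_c9 LD2_c53 LD3_c24)) = (LP (LK LD1_c5 LD2_c19 LD3_c47)) :=
  Lgr Lrot1 (Lpr_at (K12.f184542 IH) (Lpr_ct (f45839 IH) (Lpe (K1.f46381 IH) (Lpn (LP (LK LD1_c5 LD2_c19 LD3_c47))))))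
theorem f350702 : Led Lsl_gf (LP (LK LD1_c10 LD2_c9 LD3_c33)) = (LP (LK LD1_c9 LD2_c53 LD3_c24)) :=
  Lgr Lrot126 (Lpe (f33967 IH) (Lpr_bt (f350701 IH) (Lpr_gt (f350695 IH) (Lpr_ct (K21.f191598 IH) (Lpe (f335241 IH) (Lpe (K22.f233657 IH) (Lpe (K23.f306555 IH) (Lpr_gt (K20.f46071 IH) (Lpe (K1.f44763 IH) (Lpe (f184558 IH) (Lpn (LP (LK LD1_c9 LD2_c53 LD3_c24)))))))))))))
theorem f32213 : Led Lsl_ct (LP (LK LD1_c5 LD2_c18 LD3_c18)) = (LP (LK LD1_c10 LD2_c26 LD3_c19)) :=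
  Lre_c IH (LK LD1_c5 LD2_c18 LD3_c18) (LK LD1_c10 LD2_c26 LD3_c19) Lrfl Lrfl
theorem f350704 : Led Lsl_gf (LP (LK LD1_c10 LD2_c26 LD3_c19)) = (LP (LK LD1_c15 LD2_c32 LD3_c18)) :=
  Lgr Lrot126 (Lpe (f32213 IH) (Lpe (K21.f330556 IH) (Lpr_gt (K21.f293077 IH) (Lpe (f184558 IH) (Lpe (f350702 IH) (Lpe (f33967 IH) (Lpr_bt (f350701 IH) (Lpr_gt (f350695 IH) (Lpr_bf (K9.f50033 IH) (Lpr_ct (K14.f49830 IH) (Lpn (LP (LK LD1_c15 LD2_c32 LD3_c18)))))))))))))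
theorem f350711 : Led Lsl_dt (LP (LK LD1_c10 LD2_c26 LD3_c19)) = (LP (LK LD1_c18 LD2_c56 LD3_c2)) :=
  Lre_d IH (LK LD1_c10 LD2_c26 LD3_c19) (LK LD1_c18 LD2_c56 LD3_c2) Lrfl Lrfl
theorem f350712 : Led Lsl_gt (LP (LK LD1_c18 LD2_c56 LD3_c2)) = (LP (LK LD1_c28 LD2_c24 LD3_c16)) :=
  Lre_g IH (LK LD1_c18 LD2_c56 LD3_c2) (LK LD1_c28 LD2_c24 LD3_c16) Lrfl Lrfl
theorem f254575 : Led Lsl_gt (LP (LK LD1_c16 LD2_c0 LD3_c42)) = (LP (LK LD1_c8 LD2_c31 LD3_c49)) :=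
  Lre_g IH (LK LD1_c16 LD2_c0 LD3_c42) (LK LD1_c8 LD2_c31 LD3_c49) Lrfl Lrfl
theorem f254576 : Led Lsl_et (LP (LK LD1_c25 LD2_c57 LD3_c61)) = (LP (LK LD1_c16 LD2_c0 LD3_c42)) :=
  Lre_e IH (LK LD1_c25 LD2_c57 LD3_c61) (LK LD1_c16 LD2_c0 LD3_c42) Lrfl Lrfl
theorem f350715 : Led Lsl_df (LP (LK LD1_c28 LD2_c24 LD3_c16)) = (LP (LK LD1_c25 LD2_c57 LD3_c61)) :=
  Lgr Lrot132 (Lpe (f350712 IH) (Lpe (f350711 IH) (Lpr_gf (f350704 IH) (Lpe (K14.f49803 IH) (Lpe (K13.f49651 IH) (Lpe (K16.f273630 IH) (Lpe (K16.f254574 IH) (Lpr_et (K16.f254563 IH) (Lpe (f254575 IH) (Lpe (f254576 IH) (Lpn (LP (LK LD1_c25 LD2_c57 LD3_c61)))))))))))))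
theorem f350723 : Led Lsl_dt (LP (LK LD1_c28 LD2_c24 LD3_c16)) = (LP (LK LD1_c25 LD2_c57 LD3_c61)) :=
  Lgr Lrot42 (Lpr_df (f350715 IH) (Lpn (LP (LK LD1_c25 LD2_c57 LD3_c61))))
theorem f235397 : Led Lsl_bt (LP (LK LD1_c15 LD2_c53 LD3_c41)) = (LP (LK LD1_c8 LD2_c27 LD3_c55)) :=
  Lre_b IH (LK LD1_c15 LD2_c53 LD3_c41) (LK LD1_c8 LD2_c27 LD3_c55) Lrfl Lrfl
theorem f254782 : Led Lsl_gt (LP (LK LD1_c8 LD2_c57 LD3_c9)) = (LP (LK LD1_c4 LD2_c29 LD3_c28)) :=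
  Lre_g IH (LK LD1_c8 LD2_c57 LD3_c9) (LK LD1_c4 LD2_c29 LD3_c28) Lrfl Lrfl
theorem f261926 : Led Lsl_gf (LP (LK LD1_c8 LD2_c57 LD3_c9)) = (LP (LK LD1_c15 LD2_c15 LD3_c20)) :=
  Lgr Lrot47 (Lpr_gt (f254782 IH) (Lpr_af (K15.f261907 IH) (Lpe (K23.f213164 IH) (Lpn (LP (LK LD1_c15 LD2_c15 LD3_c20))))))
theorem f309601 : Led Lsl_ct (LP (LK LD1_c15 LD2_c53 LD3_c41)) = (LP (LK LD1_c8 LD2_c57 LD3_c9)) :=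
  Lgr Lrot10 (Lpr_bt (f235397 IH) (Lpr_gt (K13.f235385 IH) (Lpr_ct (K19.f235412 IH) (Lpr_gt (K19.f309591 IH) (Lpe (K19.f185889 IH) (Lpr_bt (K19.f185888 IH) (Lpr_gt (K19.f261632 IH) (Lpe (K15.f261625 IH) (Lpr_ct (K20.f213246 IH) (Lpe (f261926 IH) (Lpn (LP (LK LD1_c8 LD2_c57 LD3_c9)))))))))))))
theorem f235103 : Led Lsl_dt (LP (LK LD1_c4 LD2_c29 LD3_c28)) = (LP (LK LD1_c8 LD2_c57 LD3_c10)) :=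
  Lre_d IH (LK LD1_c4 LD2_c29 LD3_c28) (LK LD1_c8 LD2_c57 LD3_c10) Lrfl Lrfl
theorem f235104 : Led Lsl_gt (LP (LK LD1_c8 LD2_c57 LD3_c10)) = (LP (LK LD1_c16 LD2_c45 LD3_c47)) :=
  Lre_g IH (LK LD1_c8 LD2_c57 LD3_c10) (LK LD1_c16 LD2_c45 LD3_c47) Lrfl Lrfl
theorem f187738 : Led Lsl_ft (LP (LK LD1_c5 LD2_c17 LD3_c27)) = (LP (LK LD1_c2 LD2_c35 LD3_c29)) :=
  Lre_f IH (LK LD1_c5 LD2_c17 LD3_c27) (LK LD1_c2 LD2_c35 LD3_c29) Lrfl Lrfl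
theorem f234982 : Led Lsl_et (LP (LK LD1_c2 LD2_c35 LD3_c29)) = (LP (LK LD1_c4 LD2_c29 LD3_c25)) :=
  Lgr Lrot69 (Lpe (f187738 IH) (Lpe (K23.f187653 IH) (Lpr_ff (K23.f213085 IH) (Lpe (K16.f213053 IH) (Lpr_ff (K13.f234974 IH) (Lpn (LP (LK LD1_c4 LD2_c29 LD3_c25))))))))
theorem f263484 : Led Lsl_et (LP (LK LD1_c11 LD2_c54 LD3_c32)) = (LP (LK LD1_c6 LD2_c5 LD3_c28)) :=
  Lre_e IH (LK LD1_c11 LD2_c54 LD3_c32) (LK LD1_c6 LD2_c5 LD3_c28) Lrfl Lrfl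
theorem f263485 : Led Lsl_df (LP (LK LD1_c16 LD2_c45 LD3_c47)) = (LP (LK LD1_c11 LD2_c54 LD3_c32)) :=
  Lgr Lrot168 (Lpe (f235104 IH) (Lpe (f235103 IH) (Lpr_et (K15.f235102 IH) (Lpe (K13.f218730 IH) (Lpe (f234982 IH) (Lpr_dt (K10.f50786 IH) (Lpe (K10.f188198 IH) (Lpe (K15.f49110 IH) (Lpr_gf (K15.f263475 IH) (Lpe (f263484 IH) (Lpn (LP (LK LD1_c11 LD2_c54 LD3_c32)))))))))))))
theorem f263491 : Led Lsl_dt (LP (LK LD1_c16 LD2_c45 LD3_c47)) = (LP (LK LD1_c11 LD2_c54 LD3_c32)) :=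
  Lgr Lrot42 (Lpr_df (f263485 IH) (Lpn (LP (LK LD1_c11 LD2_c54 LD3_c32))))
theorem f301007 : Led Lsl_ft (LP (LK LD1_c8 LD2_c18 LD3_c10)) = (LP (LK LD1_c10 LD2_c51 LD3_c37)) :=
  Lgr Lrot48 (Lpr_ff (K18.f300992 IH) (Lpn (LP (LK LD1_c10 LD2_c51 LD3_c37))))
theorem f301009 : Led Lsl_ff (LP (LK LD1_c10 LD2_c43 LD3_c33)) = (LP (LK LD1_c5 LD2_c30 LD3_c6)) :=
  Lgr Lrot23 (Lpr_ct (K16.f273692 IH) (Lpr_ft (f301007 IH) (Lpr_ct (K18.f282916 IH) (Lpn (LP (LK LD1_c5 LD2_c30 LD3_c6))))))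
theorem f263494 : Led Lsl_et (LP (LK LD1_c6 LD2_c5 LD3_c28)) = (LP (LK LD1_c11 LD2_c54 LD3_c32)) :=
  Lre_e IH (LK LD1_c6 LD2_c5 LD3_c28) (LK LD1_c11 LD2_c54 LD3_c32) Lrfl Lrfl
theorem f216988 : Led Lsl_et (LP (LK LD1_c10 LD2_c51 LD3_c39)) = (LP (LK LD1_c5 LD2_c30 LD3_c6)) :=
  Lre_e IH (LK LD1_c10 LD2_c51 LD3_c39) (LK LD1_c5 LD2_c30 LD3_c6) Lrfl Lrfl
theorem f301028 : Led Lsl_ft (LP (LK LD1_c11 LD2_c54 LD3_c32)) = (LP (LK LD1_c10 LD2_c51 LD3_c39)) :=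
  Lgr Lrot86 (Lpe (f263494 IH) (Lpr_ff (K15.f264096 IH) (Lpe (K16.f264108 IH) (Lpr_ff (f301009 IH) (Lpe (f216988 IH) (Lpn (LP (LK LD1_c10 LD2_c51 LD3_c39))))))))
theorem f301034 : Led Lsl_ff (LP (LK LD1_c11 LD2_c54 LD3_c32)) = (LP (LK LD1_c10 LD2_c51 LD3_c39)) :=
  Lgr Lrot3 (Lpr_ft (f301028 IH) (Lpn (LP (LK LD1_c10 LD2_c51 LD3_c39))))
theorem f301011 : Led Lsl_ef (LP (LK LD1_c18 LD2_c52 LD3_c22)) = (LP (LK LD1_c10 LD2_c51 LD3_c37)) :=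
  Lgr Lrot21 (Lpr_ft (K14.f49175 IH) (Lpr_et (K14.f49181 IH) (Lpe (K15.f264085 IH) (Lpr_et (K16.f273877 IH) (Lpr_ft (f301007 IH) (Lpn (LP (LK LD1_c10 LD2_c51 LD3_c37))))))))
theorem f301013 : Led Lsl_ct (LP (LK LD1_c18 LD2_c52 LD3_c22)) = (LP (LK LD1_c10 LD2_c51 LD3_c39)) :=
  Lgr Lrot15 (Lpr_ef (f301011 IH) (Lpe (K22.f236216 IH) (Lpe (f216988 IH) (Lpn (LP (LK LD1_c10 LD2_c51 LD3_c39))))))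
theorem f301038 : Led Lsl_ct (LP (LK LD1_c11 LD2_c54 LD3_c32)) = (LP (LK LD1_c10 LD2_c24 LD3_c3)) :=
  Lgr Lrot40 (Lpr_ff (f301034 IH) (Lpe (f301013 IH) (Lpe (K14.f49178 IH) (Lpn (LP (LK LD1_c10 LD2_c24 LD3_c3))))))
theorem f309615 : Led Lsl_gt (LP (LK LD1_c15 LD2_c53 LD3_c41)) = (LP (LK LD1_c9 LD2_c51 LD3_c27)) :=
  Lgr Lrot180 (Lpr_ct (f309601 IH) (Lpr_gt (f254782 IH) (Lpr_dt (f235103 IH) (Lpr_gt (f235104 IH) (Lpr_dt (f263491 IH) (Lpr_ct (f301038 IH) (Lpe (K21.f49172 IH) (Lpe (K15.f263554 IH) (Lpe (K15.f246176 IH) (Lpn (LP (LK LD1_c9 LD2_c51 LD3_c27))))))))))))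
theorem f239541 : Led Lsl_bt (LP (LK LD1_c8 LD2_c27 LD3_c55)) = (LP (LK LD1_c15 LD2_c53 LD3_c41)) :=
  Lre_b IH (LK LD1_c8 LD2_c27 LD3_c55) (LK LD1_c15 LD2_c53 LD3_c41) Lrfl Lrfl
theorem f239542 : Led Lsl_bt (LP (LK LD1_c18 LD2_c8 LD3_c47)) = (LP (LK LD1_c9 LD2_c54 LD3_c49)) :=
  Lre_b IH (LK LD1_c18 LD2_c8 LD3_c47) (LK LD1_c9 LD2_c54 LD3_c49) Lrfl Lrfl
theorem f239543 : Led Lsl_dt (LP (LK LD1_c15 LD2_c53 LD3_c41)) = (LP (LK LD1_c18 LD2_c8 LD3_c47)) :=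
  Lgr Lrot79 (Lpe (f239541 IH) (Lpr_df (K13.f239539 IH) (Lpe (f239542 IH) (Lpn (LP (LK LD1_c18 LD2_c8 LD3_c47))))))
theorem f239633 : Led Lsl_df (LP (LK LD1_c15 LD2_c53 LD3_c41)) = (LP (LK LD1_c18 LD2_c8 LD3_c47)) :=
  Lgr Lrot38 (Lpr_dt (f239543 IH) (Lpn (LP (LK LD1_c18 LD2_c8 LD3_c47))))
theorem f239636 : Led Lsl_et (LP (LK LD1_c18 LD2_c8 LD3_c47)) = (LP (LK LD1_c9 LD2_c54 LD3_c46)) :=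
  Lre_e IH (LK LD1_c18 LD2_c8 LD3_c47) (LK LD1_c9 LD2_c54 LD3_c46) Lrfl Lrfl
theorem f309619 : Led Lsl_gf (LP (LK LD1_c9 LD2_c54 LD3_c46)) = (LP (LK LD1_c8 LD2_c15 LD3_c55)) :=
  Lgr Lrot141 (Lpe (f239636 IH) (Lpe (f239633 IH) (Lpr_gt (f309615 IH) (Lpr_df (K21.f246165 IH) (Lpr_et (K15.f246188 IH) (Lpe (K15.f259699 IH) (Lpr_dt (K13.f44990 IH) (Lpr_gt (K10.f53583 IH) (Lpe (K9.f49791 IH) (Lpr_et (K9.f49816 IH) (Lpn (LP (LK LD1_c8 LD2_c15 LD3_c55)))))))))))))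
theorem f239637 : Led Lsl_dt (LP (LK LD1_c9 LD2_c54 LD3_c46)) = (LP (LK LD1_c18 LD2_c8 LD3_c46)) :=
  Lre_d IH (LK LD1_c9 LD2_c54 LD3_c46) (LK LD1_c18 LD2_c8 LD3_c46) Lrfl Lrfl
theorem f193025 : Led Lsl_ct (LP (LK LD1_c8 LD2_c3 LD3_c11)) = (LP (LK LD1_c15 LD2_c9 LD3_c49)) :=
  Lre_c IH (LK LD1_c8 LD2_c3 LD3_c11) (LK LD1_c15 LD2_c9 LD3_c49) Lrfl Lrfl
theorem f341741 : Led Lsl_gf (LP (LK LD1_c10 LD2_c7 LD3_c50)) = (LP (LK LD1_c15 LD2_c9 LD3_c49)) :=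
  Lgr Lrot104 (Lpr_ct (K22.f33231 IH) (Lpe (K12.f33232 IH) (Lpr_cf (K16.f236631 IH) (Lpr_gf (K23.f341737 IH) (Lpe (K23.f216788 IH) (Lpe (K21.f216787 IH) (Lpe (K20.f216747 IH) (Lpr_gt (K21.f193023 IH) (Lpr_ct (f193025 IH) (Lpn (LP (LK LD1_c15 LD2_c9 LD3_c49))))))))))))
theorem f229002 : Led Lsl_bt (LP (LK LD1_c8 LD2_c3 LD3_c11)) = (LP (LK LD1_c15 LD2_c9 LD3_c48)) :=
  Lre_b IH (LK LD1_c8 LD2_c3 LD3_c11) (LK LD1_c15 LD2_c9 LD3_c48) Lrfl Lrfl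
theorem f229560 : Led Lsl_ct (LP (LK LD1_c7 LD2_c56 LD3_c11)) = (LP (LK LD1_c14 LD2_c58 LD3_c19)) :=
  Lre_c IH (LK LD1_c7 LD2_c56 LD3_c11) (LK LD1_c14 LD2_c58 LD3_c19) Lrfl Lrfl
theorem f238733 : Led Lsl_et (LP (LK LD1_c2 LD2_c8 LD3_c37)) = (LP (LK LD1_c4 LD2_c22 LD3_c23)) :=
  Lre_e IH (LK LD1_c2 LD2_c8 LD3_c37) (LK LD1_c4 LD2_c22 LD3_c23) Lrfl Lrfl
theorem f30661 : Led Lsl_dt (LP (LK LD1_c9 LD2_c36 LD3_c31)) = (LP (LK LD1_c17 LD2_c41 LD3_c48)) :=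
  Lre_d IH (LK LD1_c9 LD2_c36 LD3_c31) (LK LD1_c17 LD2_c41 LD3_c48) Lrfl Lrfl
theorem f243090 : Led Lsl_ct (LP (LK LD1_c8 LD2_c40 LD3_c51)) = (LP (LK LD1_c16 LD2_c15 LD3_c24)) :=
  Lre_c IH (LK LD1_c8 LD2_c40 LD3_c51) (LK LD1_c16 LD2_c15 LD3_c24) Lrfl Lrfl
theorem f243084 : Led Lsl_dt (LP (LK LD1_c26 LD2_c12 LD3_c57)) = (LP (LK LD1_c16 LD2_c15 LD3_c24)) :=
  Lre_d IH (LK LD1_c26 LD2_c12 LD3_c57) (LK LD1_c16 LD2_c15 LD3_c24) Lrfl Lrfl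
theorem f328728 : Led Lsl_gf (LP (LK LD1_c26 LD2_c12 LD3_c57)) = (LP (LK LD1_c17 LD2_c41 LD3_c48)) :=
  Lgr Lrot143 (Lpr_dt (f243084 IH) (Lpe (f243090 IH) (Lpe (K21.f243085 IH) (Lpr_gf (K21.f243088 IH) (Lpe (K19.f39110 IH) (Lpe (K19.f39104 IH) (Lpe (K9.f39127 IH) (Lpr_gt (K22.f328693 IH) (Lpr_dt (f30661 IH) (Lpn (LP (LK LD1_c17 LD2_c41 LD3_c48))))))))))))
theorem f243091 : Led Lsl_dt (LP (LK LD1_c16 LD2_c15 LD3_c24)) = (LP (LK LD1_c26 LD2_c12 LD3_c57)) :=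
  Lre_d IH (LK LD1_c16 LD2_c15 LD3_c24) (LK LD1_c26 LD2_c12 LD3_c57) Lrfl Lrfl
theorem f328732 : Led Lsl_et (LP (LK LD1_c16 LD2_c15 LD3_c24)) = (LP (LK LD1_c8 LD2_c40 LD3_c49)) :=
  Lre_e IH (LK LD1_c16 LD2_c15 LD3_c24) (LK LD1_c8 LD2_c40 LD3_c49) Lrfl Lrfl
theorem f328733 : Led Lsl_gf (LP (LK LD1_c4 LD2_c22 LD3_c23)) = (LP (LK LD1_c8 LD2_c40 LD3_c49)) :=
  Lgr Lrot141 (Lpe (f238733 IH) (Lpe (K13.f238617 IH) (Lpe (K13.f39429 IH) (Lpe (K13.f38946 IH) (Lpr_et (K9.f38993 IH) (Lpr_gt (K22.f328693 IH) (Lpr_dt (f30661 IH) (Lpe (f328728 IH) (Lpe (f243091 IH) (Lpr_et (f328732 IH) (Lpn (LP (LK LD1_c8 LD2_c40 LD3_c49)))))))))))))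
theorem f236598 : Led Lsl_et (LP (LK LD1_c3 LD2_c57 LD3_c14)) = (LP (LK LD1_c7 LD2_c56 LD3_c9)) :=
  Lre_e IH (LK LD1_c3 LD2_c57 LD3_c14) (LK LD1_c7 LD2_c56 LD3_c9) Lrfl Lrfl
theorem f298247 : Led Lsl_ft (LP (LK LD1_c7 LD2_c56 LD3_c9)) = (LP (LK LD1_c14 LD2_c58 LD3_c19)) :=
  Lre_f IH (LK LD1_c7 LD2_c56 LD3_c9) (LK LD1_c14 LD2_c58 LD3_c19) Lrfl Lrfl
theorem f298248 : Led Lsl_et (LP (LK LD1_c14 LD2_c58 LD3_c19)) = (LP (LK LD1_c8 LD2_c43 LD3_c20)) :=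
  Lgr Lrot69 (Lpe (f298247 IH) (Lpe (f236598 IH) (Lpr_ff (K19.f298243 IH) (Lpe (K18.f238748 IH) (Lpe (K20.f298209 IH) (Lpn (LP (LK LD1_c8 LD2_c43 LD3_c20))))))))
theorem f193220 : Led Lsl_ct (LP (LK LD1_c8 LD2_c42 LD3_c44)) = (LP (LK LD1_c4 LD2_c22 LD3_c25)) :=
  Lre_c IH (LK LD1_c8 LD2_c42 LD3_c44) (LK LD1_c4 LD2_c22 LD3_c25) Lrfl Lrfl
theorem f287072 : Led Lsl_ef (LP (LK LD1_c8 LD2_c42 LD3_c44)) = (LP (LK LD1_c9 LD2_c44 LD3_c57)) :=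
  Lgr Lrot28 (Lpr_ct (f193220 IH) (Lpr_et (K17.f287070 IH) (Lpr_ct (K18.f168405 IH) (Lpn (LP (LK LD1_c9 LD2_c44 LD3_c57))))))
theorem f298250 : Led Lsl_af (LP (LK LD1_c14 LD2_c58 LD3_c19)) = (LP (LK LD1_c8 LD2_c42 LD3_c44)) :=
  Lgr Lrot50 (Lpr_et (f298248 IH) (Lpr_at (K18.f297965 IH) (Lpe (f287072 IH) (Lpn (LP (LK LD1_c8 LD2_c42 LD3_c44))))))
theorem f298253 : Led Lsl_ft (LP (LK LD1_c14 LD2_c58 LD3_c19)) = (LP (LK LD1_c7 LD2_c56 LD3_c9)) :=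
  Lre_f IH (LK LD1_c14 LD2_c58 LD3_c19) (LK LD1_c7 LD2_c56 LD3_c9) Lrfl Lrfl
theorem f298254 : Led Lsl_ft (LP (LK LD1_c4 LD2_c22 LD3_c23)) = (LP (LK LD1_c8 LD2_c42 LD3_c44)) :=
  Lre_f IH (LK LD1_c4 LD2_c22 LD3_c23) (LK LD1_c8 LD2_c42 LD3_c44) Lrfl Lrfl
theorem f298255 : Led Lsl_at (LP (LK LD1_c7 LD2_c56 LD3_c9)) = (LP (LK LD1_c4 LD2_c22 LD3_c23)) :=
  Lgr Lrot66 (Lpe (f298253 IH) (Lpr_af (f298250 IH) (Lpe (f298254 IH) (Lpn (LP (LK LD1_c4 LD2_c22 LD3_c23))))))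
theorem f328762 : Led Lsl_gt (LP (LK LD1_c14 LD2_c58 LD3_c19)) = (LP (LK LD1_c8 LD2_c40 LD3_c49)) :=
  Lgr Lrot5 (Lpr_ft (f298253 IH) (Lpr_at (f298255 IH) (Lpr_gf (f328733 IH) (Lpn (LP (LK LD1_c8 LD2_c40 LD3_c49))))))
theorem f243076 : Led Lsl_ct (LP (LK LD1_c4 LD2_c21 LD3_c36)) = (LP (LK LD1_c8 LD2_c40 LD3_c49)) :=
  Lre_c IH (LK LD1_c4 LD2_c21 LD3_c36) (LK LD1_c8 LD2_c40 LD3_c49) Lrfl Lrfl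
theorem f45754 : Led Lsl_gt (LP (LK LD1_c8 LD2_c39 LD3_c56)) = (LP (LK LD1_c4 LD2_c21 LD3_c7)) :=
  Lre_g IH (LK LD1_c8 LD2_c39 LD3_c56) (LK LD1_c4 LD2_c21 LD3_c7) Lrfl Lrfl
theorem f332956 : Led Lsl_bt (LP (LK LD1_c4 LD2_c21 LD3_c36)) = (LP (LK LD1_c8 LD2_c39 LD3_c56)) :=
  Lgr Lrot22 (Lpr_ct (f243076 IH) (Lpe (f328762 IH) (Lpe (f229560 IH) (Lpe (K22.f287110 IH) (Lpr_bf (K23.f332945 IH) (Lpr_ct (K22.f193306 IH) (Lpe (K22.f332932 IH) (Lpe (K22.f186913 IH) (Lpe (K21.f187132 IH) (Lpe (f45754 IH) (Lpn (LP (LK LD1_c8 LD2_c39 LD3_c56)))))))))))))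
theorem f45760 : Led Lsl_et (LP (LK LD1_c8 LD2_c39 LD3_c56)) = (LP (LK LD1_c16 LD2_c13 LD3_c42)) :=
  Lre_e IH (LK LD1_c8 LD2_c39 LD3_c56) (LK LD1_c16 LD2_c13 LD3_c42) Lrfl Lrfl
theorem f332962 : Led Lsl_bf (LP (LK LD1_c8 LD2_c40 LD3_c51)) = (LP (LK LD1_c16 LD2_c13 LD3_c42)) :=
  Lgr Lrot96 (Lpr_et (K21.f243087 IH) (Lpr_bt (f332956 IH) (Lpr_et (f45760 IH) (Lpn (LP (LK LD1_c16 LD2_c13 LD3_c42))))))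
theorem f217756 : Led Lsl_gt (LP (LK LD1_c2 LD2_c38 LD3_c26)) = (LP (LK LD1_c5 LD2_c23 LD3_c46)) :=
  Lre_g IH (LK LD1_c2 LD2_c38 LD3_c26) (LK LD1_c5 LD2_c23 LD3_c46) Lrfl Lrfl
theorem f217758 : Led Lsl_dt (LP (LK LD1_c5 LD2_c23 LD3_c46)) = (LP (LK LD1_c10 LD2_c38 LD3_c9)) :=
  Lre_d IH (LK LD1_c5 LD2_c23 LD3_c46) (LK LD1_c10 LD2_c38 LD3_c9) Lrfl Lrfl
theorem f217759 : Led Lsl_gt (LP (LK LD1_c10 LD2_c38 LD3_c9)) = (LP (LK LD1_c19 LD2_c15 LD3_c61)) :=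
  Lre_g IH (LK LD1_c10 LD2_c38 LD3_c9) (LK LD1_c19 LD2_c15 LD3_c61) Lrfl Lrfl
theorem f289023 : Led Lsl_ct (LP (LK LD1_c19 LD2_c5 LD3_c36)) = (LP (LK LD1_c10 LD2_c32 LD3_c31)) :=
  Lre_c IH (LK LD1_c19 LD2_c5 LD3_c36) (LK LD1_c10 LD2_c32 LD3_c31) Lrfl Lrfl
theorem f289031 : Led Lsl_dt (LP (LK LD1_c19 LD2_c15 LD3_c61)) = (LP (LK LD1_c19 LD2_c5 LD3_c36)) :=
  Lgr Lrot105 (Lpe (f217759 IH) (Lpe (f217758 IH) (Lpe (f217756 IH) (Lpe (K18.f255611 IH) (Lpr_gt (K17.f241959 IH) (Lpe (K20.f288683 IH) (Lpr_gt (K18.f288892 IH) (Lpr_dt (K21.f289012 IH) (Lpe (f289023 IH) (Lpn (LP (LK LD1_c19 LD2_c5 LD3_c36))))))))))))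
theorem f289036 : Led Lsl_df (LP (LK LD1_c19 LD2_c15 LD3_c61)) = (LP (LK LD1_c19 LD2_c5 LD3_c36)) :=
  Lgr Lrot38 (Lpr_dt (f289031 IH) (Lpn (LP (LK LD1_c19 LD2_c5 LD3_c36))))
theorem f289038 : Led Lsl_et (LP (LK LD1_c19 LD2_c5 LD3_c36)) = (LP (LK LD1_c10 LD2_c32 LD3_c29)) :=
  Lre_e IH (LK LD1_c19 LD2_c5 LD3_c36) (LK LD1_c10 LD2_c32 LD3_c29) Lrfl Lrfl
theorem f289044 : Led Lsl_gf (LP (LK LD1_c5 LD2_c24 LD3_c8)) = (LP (LK LD1_c10 LD2_c32 LD3_c29)) :=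
  Lgr Lrot141 (Lpe (K22.f196857 IH) (Lpr_dt (K12.f217725 IH) (Lpe (K13.f217745 IH) (Lpe (K13.f217754 IH) (Lpr_et (K18.f217755 IH) (Lpr_gt (f217756 IH) (Lpr_dt (f217758 IH) (Lpr_gt (f217759 IH) (Lpr_df (f289036 IH) (Lpr_et (f289038 IH) (Lpn (LP (LK LD1_c10 LD2_c32 LD3_c29)))))))))))))
theorem f41468 : Led Lsl_ct (LP (LK LD1_c5 LD2_c21 LD3_c10)) = (LP (LK LD1_c10 LD2_c32 LD3_c29)) :=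
  Lre_c IH (LK LD1_c5 LD2_c21 LD3_c10) (LK LD1_c10 LD2_c32 LD3_c29) Lrfl Lrfl
theorem f289048 : Led Lsl_bt (LP (LK LD1_c5 LD2_c21 LD3_c10)) = (LP (LK LD1_c10 LD2_c32 LD3_c28)) :=
  Lre_b IH (LK LD1_c5 LD2_c21 LD3_c10) (LK LD1_c10 LD2_c32 LD3_c28) Lrfl Lrfl
theorem f323846 : Led Lsl_gf (LP (LK LD1_c10 LD2_c32 LD3_c28)) = (LP (LK LD1_c8 LD2_c39 LD3_c48)) :=
  Lgr Lrot124 (Lpe (f289048 IH) (Lpr_ct (f41468 IH) (Lpe (f289044 IH) (Lpe (K10.f194674 IH) (Lpr_bt (K14.f194668 IH) (Lpr_gt (K23.f323688 IH) (Lpe (K21.f323491 IH) (Lpe (K21.f53008 IH) (Lpr_cf (K10.f52332 IH) (Lpr_bt (K10.f30981 IH) (Lpn (LP (LK LD1_c8 LD2_c39 LD3_c48)))))))))))))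
theorem f323856 : Led Lsl_et (LP (LK LD1_c19 LD2_c5 LD3_c34)) = (LP (LK LD1_c10 LD2_c32 LD3_c28)) :=
  Lre_e IH (LK LD1_c19 LD2_c5 LD3_c34) (LK LD1_c10 LD2_c32 LD3_c28) Lrfl Lrfl
theorem f261361 : Led Lsl_ef (LP (LK LD1_c5 LD2_c4 LD3_c50)) = (LP (LK LD1_c5 LD2_c30 LD3_c12)) :=
  Lgr Lrot88 (Lpr_et (K23.f261358 IH) (Lpn (LP (LK LD1_c5 LD2_c30 LD3_c12))))
theorem f236198 : Led Lsl_bt (LP (LK LD1_c8 LD2_c16 LD3_c37)) = (LP (LK LD1_c4 LD2_c8 LD3_c19)) :=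
  Lre_b IH (LK LD1_c8 LD2_c16 LD3_c37) (LK LD1_c4 LD2_c8 LD3_c19) Lrfl Lrfl
theorem f236199 : Led Lsl_df (LP (LK LD1_c8 LD2_c16 LD3_c37)) = (LP (LK LD1_c5 LD2_c30 LD3_c12)) :=
  Lgr Lrot12 (Lpr_bt (f236198 IH) (Lpr_dt (K13.f236195 IH) (Lpr_bt (K23.f236182 IH) (Lpn (LP (LK LD1_c5 LD2_c30 LD3_c12))))))
theorem f254968 : Led Lsl_gt (LP (LK LD1_c15 LD2_c33 LD3_c45)) = (LP (LK LD1_c8 LD2_c16 LD3_c37)) :=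
  Lre_g IH (LK LD1_c15 LD2_c33 LD3_c45) (LK LD1_c8 LD2_c16 LD3_c37) Lrfl Lrfl
theorem f323857 : Led Lsl_dt (LP (LK LD1_c19 LD2_c5 LD3_c34)) = (LP (LK LD1_c15 LD2_c33 LD3_c45)) :=
  Lgr Lrot136 (Lpr_et (f323856 IH) (Lpr_gf (f323846 IH) (Lpe (K10.f30851 IH) (Lpr_dt (K9.f30848 IH) (Lpe (K12.f183817 IH) (Lpe (K15.f192362 IH) (Lpe (K15.f211378 IH) (Lpr_ef (f261361 IH) (Lpe (f236199 IH) (Lpe (f254968 IH) (Lpn (LP (LK LD1_c15 LD2_c33 LD3_c45)))))))))))))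
theorem f323861 : Led Lsl_df (LP (LK LD1_c19 LD2_c5 LD3_c34)) = (LP (LK LD1_c15 LD2_c33 LD3_c45)) :=
  Lgr Lrot38 (Lpr_dt (f323857 IH) (Lpn (LP (LK LD1_c15 LD2_c33 LD3_c45))))
theorem f323850 : Led Lsl_dt (LP (LK LD1_c10 LD2_c32 LD3_c28)) = (LP (LK LD1_c19 LD2_c5 LD3_c33)) :=
  Lre_d IH (LK LD1_c10 LD2_c32 LD3_c28) (LK LD1_c19 LD2_c5 LD3_c33) Lrfl Lrfl
theorem f254967 : Led Lsl_et (LP (LK LD1_c4 LD2_c8 LD3_c17)) = (LP (LK LD1_c8 LD2_c16 LD3_c37)) :=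
  Lre_e IH (LK LD1_c4 LD2_c8 LD3_c17) (LK LD1_c8 LD2_c16 LD3_c37) Lrfl Lrfl
theorem f196643 : Led Lsl_gt (LP (LK LD1_c5 LD2_c22 LD3_c33)) = (LP (LK LD1_c10 LD2_c35 LD3_c24)) :=
  Lre_g IH (LK LD1_c5 LD2_c22 LD3_c33) (LK LD1_c10 LD2_c35 LD3_c24) Lrfl Lrfl
theorem f196706 : Led Lsl_dt (LP (LK LD1_c19 LD2_c10 LD3_c54)) = (LP (LK LD1_c10 LD2_c35 LD3_c24)) :=
  Lre_d IH (LK LD1_c19 LD2_c10 LD3_c54) (LK LD1_c10 LD2_c35 LD3_c24) Lrfl Lrfl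
theorem f267158 : Led Lsl_ef (LP (LK LD1_c15 LD2_c33 LD3_c45)) = (LP (LK LD1_c19 LD2_c10 LD3_c54)) :=
  Lgr Lrot114 (Lpr_gt (f254968 IH) (Lpe (f254967 IH) (Lpe (K15.f236107 IH) (Lpe (K14.f254895 IH) (Lpe (K15.f261317 IH) (Lpr_et (K15.f267149 IH) (Lpr_gt (K15.f267154 IH) (Lpe (K22.f196633 IH) (Lpr_gt (f196643 IH) (Lpe (f196706 IH) (Lpn (LP (LK LD1_c19 LD2_c10 LD3_c54)))))))))))))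
theorem f196705 : Led Lsl_dt (LP (LK LD1_c10 LD2_c35 LD3_c24)) = (LP (LK LD1_c19 LD2_c10 LD3_c54)) :=
  Lre_d IH (LK LD1_c10 LD2_c35 LD3_c24) (LK LD1_c19 LD2_c10 LD3_c54) Lrfl Lrfl
theorem f323866 : Led Lsl_et (LP (LK LD1_c19 LD2_c5 LD3_c33)) = (LP (LK LD1_c10 LD2_c35 LD3_c24)) :=
  Lgr Lrot71 (Lpe (f323850 IH) (Lpe (f323856 IH) (Lpr_df (f323861 IH) (Lpr_ef (f267158 IH) (Lpe (f196705 IH) (Lpn (LP (LK LD1_c10 LD2_c35 LD3_c24))))))))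
theorem f323870 : Led Lsl_ef (LP (LK LD1_c19 LD2_c5 LD3_c33)) = (LP (LK LD1_c10 LD2_c35 LD3_c24)) :=
  Lgr Lrot88 (Lpr_et (f323866 IH) (Lpn (LP (LK LD1_c10 LD2_c35 LD3_c24))))
theorem f211376 : Led Lsl_et (LP (LK LD1_c18 LD2_c17 LD3_c51)) = (LP (LK LD1_c10 LD2_c0 LD3_c47)) :=
  Lre_e IH (LK LD1_c18 LD2_c17 LD3_c51) (LK LD1_c10 LD2_c0 LD3_c47) Lrfl Lrfl
theorem f231256 : Led Lsl_dt (LP (LK LD1_c5 LD2_c22 LD3_c39)) = (LP (LK LD1_c8 LD2_c53 LD3_c18)) :=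
  Lgr Lrot42 (Lpr_df (K23.f231251 IH) (Lpn (LP (LK LD1_c8 LD2_c53 LD3_c18))))
theorem f231270 : Led Lsl_et (LP (LK LD1_c10 LD2_c35 LD3_c39)) = (LP (LK LD1_c5 LD2_c22 LD3_c39)) :=
  Lre_e IH (LK LD1_c10 LD2_c35 LD3_c39) (LK LD1_c5 LD2_c22 LD3_c39) Lrfl Lrfl
theorem f231277 : Led Lsl_et (LP (LK LD1_c10 LD2_c0 LD3_c47)) = (LP (LK LD1_c18 LD2_c17 LD3_c51)) :=
  Lre_e IH (LK LD1_c10 LD2_c0 LD3_c47) (LK LD1_c18 LD2_c17 LD3_c51) Lrfl Lrfl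
theorem f231278 : Led Lsl_df (LP (LK LD1_c10 LD2_c35 LD3_c39)) = (LP (LK LD1_c18 LD2_c17 LD3_c51)) :=
  Lgr Lrot70 (Lpr_et (f231270 IH) (Lpr_dt (f231256 IH) (Lpe (K23.f231268 IH) (Lpr_dt (K23.f231273 IH) (Lpr_et (f231277 IH) (Lpn (LP (LK LD1_c18 LD2_c17 LD3_c51))))))))
theorem f323853 : Led Lsl_gt (LP (LK LD1_c19 LD2_c5 LD3_c33)) = (LP (LK LD1_c10 LD2_c35 LD3_c39)) :=
  Lgr Lrot139 (Lpe (f323850 IH) (Lpr_gf (f323846 IH) (Lpe (K10.f30851 IH) (Lpr_dt (K9.f30848 IH) (Lpe (K12.f183817 IH) (Lpe (K15.f192362 IH) (Lpr_et (K11.f194613 IH) (Lpe (K23.f211368 IH) (Lpe (f211376 IH) (Lpe (f231278 IH) (Lpn (LP (LK LD1_c10 LD2_c35 LD3_c39)))))))))))))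
theorem f231258 : Led Lsl_et (LP (LK LD1_c5 LD2_c22 LD3_c39)) = (LP (LK LD1_c10 LD2_c35 LD3_c39)) :=
  Lre_e IH (LK LD1_c5 LD2_c22 LD3_c39) (LK LD1_c10 LD2_c35 LD3_c39) Lrfl Lrfl
theorem f323878 : Led Lsl_gt (LP (LK LD1_c16 LD2_c14 LD3_c17)) = (LP (LK LD1_c19 LD2_c10 LD3_c54)) :=
  Lgr Lrot139 (Lpe (K19.f276726 IH) (Lpe (K17.f284479 IH) (Lpr_ef (K17.f284457 IH) (Lpr_dt (K17.f170816 IH) (Lpe (K23.f284560 IH) (Lpe (f231256 IH) (Lpr_et (f231258 IH) (Lpe (f323853 IH) (Lpr_ef (f323870 IH) (Lpr_dt (f196705 IH) (Lpn (LP (LK LD1_c19 LD2_c10 LD3_c54)))))))))))))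
theorem f43081 : Led Lsl_dt (LP (LK LD1_c8 LD2_c40 LD3_c13)) = (LP (LK LD1_c16 LD2_c14 LD3_c16)) :=
  Lre_d IH (LK LD1_c8 LD2_c40 LD3_c13) (LK LD1_c16 LD2_c14 LD3_c16) Lrfl Lrfl
theorem f43082 : Led Lsl_dt (LP (LK LD1_c16 LD2_c14 LD3_c16)) = (LP (LK LD1_c8 LD2_c40 LD3_c13)) :=
  Lre_d IH (LK LD1_c16 LD2_c14 LD3_c16) (LK LD1_c8 LD2_c40 LD3_c13) Lrfl Lrfl
theorem f254529 : Led Lsl_df (LP (LK LD1_c5 LD2_c19 LD3_c0)) = (LP (LK LD1_c4 LD2_c16 LD3_c13)) :=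
  Lgr Lrot38 (Lpr_dt (K16.f254520 IH) (Lpn (LP (LK LD1_c4 LD2_c16 LD3_c13))))
theorem f44238 : Led Lsl_gt (LP (LK LD1_c5 LD2_c19 LD3_c0)) = (LP (LK LD1_c10 LD2_c27 LD3_c53)) :=
  Lre_g IH (LK LD1_c5 LD2_c19 LD3_c0) (LK LD1_c10 LD2_c27 LD3_c53) Lrfl Lrfl
theorem f45753 : Led Lsl_dt (LP (LK LD1_c8 LD2_c39 LD3_c57)) = (LP (LK LD1_c4 LD2_c21 LD3_c7)) :=
  Lre_d IH (LK LD1_c8 LD2_c39 LD3_c57) (LK LD1_c4 LD2_c21 LD3_c7) Lrfl Lrfl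
theorem f45755 : Led Lsl_dt (LP (LK LD1_c10 LD2_c27 LD3_c53)) = (LP (LK LD1_c8 LD2_c39 LD3_c56)) :=
  Lgr Lrot171 (Lpe (f44238 IH) (Lpe (K16.f44237 IH) (Lpr_dt (K14.f44236 IH) (Lpe (K9.f28264 IH) (Lpe (K12.f28267 IH) (Lpr_et (K1.f44224 IH) (Lpr_gf (K10.f45744 IH) (Lpe (K23.f45752 IH) (Lpr_dt (f45753 IH) (Lpe (f45754 IH) (Lpn (LP (LK LD1_c8 LD2_c39 LD3_c56)))))))))))))
theorem f45758 : Led Lsl_df (LP (LK LD1_c10 LD2_c27 LD3_c53)) = (LP (LK LD1_c8 LD2_c39 LD3_c56)) :=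
  Lgr Lrot38 (Lpr_dt (f45755 IH) (Lpn (LP (LK LD1_c8 LD2_c39 LD3_c56))))
theorem f270717 : Led Lsl_gf (LP (LK LD1_c16 LD2_c14 LD3_c16)) = (LP (LK LD1_c16 LD2_c13 LD3_c42)) :=
  Lgr Lrot138 (Lpr_dt (f43082 IH) (Lpr_gt (K17.f270715 IH) (Lpe (K22.f270707 IH) (Lpr_et (K22.f270669 IH) (Lpe (K17.f270674 IH) (Lpe (K16.f250839 IH) (Lpe (f254529 IH) (Lpr_gt (f44238 IH) (Lpr_df (f45758 IH) (Lpr_et (f45760 IH) (Lpn (LP (LK LD1_c16 LD2_c13 LD3_c42)))))))))))))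
theorem f323855 : Led Lsl_dt (LP (LK LD1_c19 LD2_c5 LD3_c33)) = (LP (LK LD1_c10 LD2_c32 LD3_c28)) :=
  Lre_d IH (LK LD1_c19 LD2_c5 LD3_c33) (LK LD1_c10 LD2_c32 LD3_c28) Lrfl Lrfl
theorem f196813 : Led Lsl_dt (LP (LK LD1_c10 LD2_c34 LD3_c59)) = (LP (LK LD1_c19 LD2_c10 LD3_c29)) :=
  Lre_d IH (LK LD1_c10 LD2_c34 LD3_c59) (LK LD1_c19 LD2_c10 LD3_c29) Lrfl Lrfl
theorem f291715 : Led Lsl_ef (LP (LK LD1_c10 LD2_c34 LD3_c59)) = (LP (LK LD1_c18 LD2_c58 LD3_c24)) :=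
  Lgr Lrot73 (Lpr_dt (f196813 IH) (Lpr_et (K23.f291713 IH) (Lpr_dt (K23.f291701 IH) (Lpr_et (K18.f212427 IH) (Lpr_dt (K23.f193175 IH) (Lpn (LP (LK LD1_c18 LD2_c58 LD3_c24))))))))
theorem f291721 : Led Lsl_gt (LP (LK LD1_c10 LD2_c27 LD3_c61)) = (LP (LK LD1_c10 LD2_c28 LD3_c7)) :=
  Lgr Lrot139 (Lpe (K18.f254476 IH) (Lpe (K18.f291705 IH) (Lpe (K18.f49248 IH) (Lpr_dt (K14.f49247 IH) (Lpe (K9.f50628 IH) (Lpe (K9.f30848 IH) (Lpr_et (K10.f30851 IH) (Lpe (K23.f196810 IH) (Lpr_ef (f291715 IH) (Lpr_dt (K23.f193174 IH) (Lpn (LP (LK LD1_c10 LD2_c28 LD3_c7)))))))))))))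
theorem f254482 : Led Lsl_et (LP (LK LD1_c10 LD2_c25 LD3_c30)) = (LP (LK LD1_c10 LD2_c27 LD3_c61)) :=
  Lgr Lrot87 (Lpr_ef (K18.f254480 IH) (Lpn (LP (LK LD1_c10 LD2_c27 LD3_c61))))
theorem f251058 : Led Lsl_et (LP (LK LD1_c8 LD2_c30 LD3_c53)) = (LP (LK LD1_c15 LD2_c56 LD3_c47)) :=
  Lgr Lrot69 (Lpe (K13.f220662 IH) (Lpe (K13.f220641 IH) (Lpr_ff (K14.f251049 IH) (Lpe (K14.f49018 IH) (Lpe (K18.f49015 IH) (Lpn (LP (LK LD1_c15 LD2_c56 LD3_c47))))))))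
theorem f254484 : Led Lsl_ef (LP (LK LD1_c10 LD2_c35 LD3_c0)) = (LP (LK LD1_c10 LD2_c35 LD3_c30)) :=
  Lgr Lrot73 (Lpr_dt (K13.f220660 IH) (Lpr_et (f251058 IH) (Lpr_dt (K14.f49008 IH) (Lpr_et (f254482 IH) (Lpe (f254478 IH) (Lpn (LP (LK LD1_c10 LD2_c35 LD3_c30))))))))
theorem f323872 : Led Lsl_gf (LP (LK LD1_c10 LD2_c35 LD3_c0)) = (LP (LK LD1_c10 LD2_c35 LD3_c24)) :=
  Lgr Lrot141 (Lpr_ef (f254484 IH) (Lpr_dt (K18.f254476 IH) (Lpr_gt (f291721 IH) (Lpe (K23.f193174 IH) (Lpe (f291715 IH) (Lpr_gt (K23.f196810 IH) (Lpe (K10.f30852 IH) (Lpe (f323846 IH) (Lpe (f323855 IH) (Lpr_et (f323866 IH) (Lpn (LP (LK LD1_c10 LD2_c35 LD3_c24)))))))))))))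
theorem f229669 : Led Lsl_gt (LP (LK LD1_c14 LD2_c57 LD3_c6)) = (LP (LK LD1_c7 LD2_c55 LD3_c31)) :=
  Lre_g IH (LK LD1_c14 LD2_c57 LD3_c6) (LK LD1_c7 LD2_c55 LD3_c31) Lrfl Lrfl
theorem f287654 : Led Lsl_gt (LP (LK LD1_c15 LD2_c56 LD3_c47)) = (LP (LK LD1_c14 LD2_c57 LD3_c6)) :=
  Lgr Lrot5 (Lpr_ft (K18.f49015 IH) (Lpr_at (K17.f287641 IH) (Lpe (f229669 IH) (Lpn (LP (LK LD1_c14 LD2_c57 LD3_c6))))))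
theorem f229915 : Led Lsl_et (LP (LK LD1_c24 LD2_c44 LD3_c38)) = (LP (LK LD1_c14 LD2_c57 LD3_c6)) :=
  Lre_e IH (LK LD1_c24 LD2_c44 LD3_c38) (LK LD1_c14 LD2_c57 LD3_c6) Lrfl Lrfl
theorem f323881 : Led Lsl_df (LP (LK LD1_c16 LD2_c13 LD3_c42)) = (LP (LK LD1_c24 LD2_c44 LD3_c38)) :=
  Lgr Lrot170 (Lpe (f270717 IH) (Lpe (f43081 IH) (Lpr_et (K19.f270719 IH) (Lpr_gt (f323878 IH) (Lpr_dt (f196706 IH) (Lpe (f323872 IH) (Lpr_df (K13.f220668 IH) (Lpr_et (f251058 IH) (Lpr_gt (f287654 IH) (Lpe (f229915 IH) (Lpn (LP (LK LD1_c24 LD2_c44 LD3_c38)))))))))))))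
theorem f332982 : Led Lsl_bt (LP (LK LD1_c15 LD2_c34 LD3_c53)) = (LP (LK LD1_c24 LD2_c44 LD3_c38)) :=
  Lgr Lrot95 (Lpr_df (K21.f243081 IH) (Lpr_bf (f332962 IH) (Lpr_df (f323881 IH) (Lpn (LP (LK LD1_c24 LD2_c44 LD3_c38))))))
theorem f332986 : Led Lsl_bf (LP (LK LD1_c8 LD2_c17 LD3_c6)) = (LP (LK LD1_c14 LD2_c57 LD3_c6)) :=
  Lgr Lrot96 (Lpr_et (K21.f229001 IH) (Lpr_bt (f332982 IH) (Lpr_et (f229915 IH) (Lpn (LP (LK LD1_c14 LD2_c57 LD3_c6))))))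
theorem f332990 : Led Lsl_dt (LP (LK LD1_c15 LD2_c9 LD3_c48)) = (LP (LK LD1_c14 LD2_c57 LD3_c6)) :=
  Lgr Lrot79 (Lpe (f229002 IH) (Lpe (K21.f228999 IH) (Lpr_bf (f332986 IH) (Lpn (LP (LK LD1_c14 LD2_c57 LD3_c6))))))
theorem f332998 : Led Lsl_gf (LP (LK LD1_c15 LD2_c9 LD3_c48)) = (LP (LK LD1_c8 LD2_c19 LD3_c2)) :=
  Lgr Lrot138 (Lpr_dt (f332990 IH) (Lpr_gt (f229669 IH) (Lpe (K13.f229655 IH) (Lpr_et (K13.f44284 IH) (Lpr_gt (K12.f28268 IH) (Lpr_ef (K14.f44060 IH) (Lpr_dt (K1.f44229 IH) (Lpr_gt (K9.f44245 IH) (Lpe (K14.f44285 IH) (Lpr_et (K14.f232030 IH) (Lpn (LP (LK LD1_c8 LD2_c19 LD3_c2)))))))))))))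
theorem f232085 : Led Lsl_bt (LP (LK LD1_c4 LD2_c9 LD3_c38)) = (LP (LK LD1_c8 LD2_c19 LD3_c2)) :=
  Lre_b IH (LK LD1_c4 LD2_c9 LD3_c38) (LK LD1_c8 LD2_c19 LD3_c2) Lrfl Lrfl
theorem f673 : Led Lsl_ct (LP (LK LD1_c4 LD2_c9 LD3_c38)) = (LP (LK LD1_c8 LD2_c19 LD3_c18)) :=
  Lre_c IH (LK LD1_c4 LD2_c9 LD3_c38) (LK LD1_c8 LD2_c19 LD3_c18) Lrfl Lrfl
theorem f232044 : Led Lsl_gt (LP (LK LD1_c15 LD2_c39 LD3_c10)) = (LP (LK LD1_c8 LD2_c19 LD3_c18)) :=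
  Lre_g IH (LK LD1_c15 LD2_c39 LD3_c10) (LK LD1_c8 LD2_c19 LD3_c18) Lrfl Lrfl
theorem f166664 : Led Lsl_bt (LP (LK LD1_c9 LD2_c55 LD3_c19)) = (LP (LK LD1_c5 LD2_c2 LD3_c15)) :=
  Lre_b IH (LK LD1_c9 LD2_c55 LD3_c19) (LK LD1_c5 LD2_c2 LD3_c15) Lrfl Lrfl
theorem f333000 : Led Lsl_ct (LP (LK LD1_c9 LD2_c55 LD3_c19)) = (LP (LK LD1_c15 LD2_c39 LD3_c10)) :=
  Lgr Lrot64 (Lpr_bt (f166664 IH) (Lpr_gf (K21.f306573 IH) (Lpr_bf (K18.f300078 IH) (Lpr_ct (K21.f300087 IH) (Lpe (K21.f259790 IH) (Lpe (K21.f307325 IH) (Lpr_gf (f332998 IH) (Lpe (f232085 IH) (Lpr_ct (f673 IH) (Lpe (f232044 IH) (Lpn (LP (LK LD1_c15 LD2_c39 LD3_c10)))))))))))))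
theorem f341748 : Led Lsl_gt (LP (LK LD1_c10 LD2_c7 LD3_c26)) = (LP (LK LD1_c9 LD2_c55 LD3_c19)) :=
  Lgr Lrot82 (Lpe (K12.f33236 IH) (Lpr_ct (K13.f33239 IH) (Lpr_gf (f341741 IH) (Lpe (f193025 IH) (Lpr_bt (f229002 IH) (Lpr_gf (f332998 IH) (Lpe (f232085 IH) (Lpr_ct (f673 IH) (Lpe (f232044 IH) (Lpe (f333000 IH) (Lpn (LP (LK LD1_c9 LD2_c55 LD3_c19)))))))))))))
theorem f33244 : Led Lsl_ft (LP (LK LD1_c10 LD2_c7 LD3_c26)) = (LP (LK LD1_c5 LD2_c8 LD3_c31)) :=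
  Lre_f IH (LK LD1_c10 LD2_c7 LD3_c26) (LK LD1_c5 LD2_c8 LD3_c31) Lrfl Lrfl
theorem f341750 : Led Lsl_gf (LP (LK LD1_c8 LD2_c26 LD3_c10)) = (LP (LK LD1_c9 LD2_c55 LD3_c19)) :=
  Lgr Lrot76 (Lpr_af (K15.f252250 IH) (Lpe (f33244 IH) (Lpr_gt (f341748 IH) (Lpn (LP (LK LD1_c9 LD2_c55 LD3_c19))))))
theorem f263616 : Led Lsl_dt (LP (LK LD1_c10 LD2_c24 LD3_c2)) = (LP (LK LD1_c8 LD2_c26 LD3_c10)) :=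
  Lgr Lrot42 (Lpr_df (K15.f263612 IH) (Lpn (LP (LK LD1_c8 LD2_c26 LD3_c10))))
theorem f191696 : Led Lsl_gt (LP (LK LD1_c4 LD2_c51 LD3_c2)) = (LP (LK LD1_c9 LD2_c34 LD3_c7)) :=
  Lre_g IH (LK LD1_c4 LD2_c51 LD3_c2) (LK LD1_c9 LD2_c34 LD3_c7) Lrfl Lrfl
theorem f341772 : Led Lsl_dt (LP (LK LD1_c9 LD2_c34 LD3_c7)) = (LP (LK LD1_c9 LD2_c55 LD3_c19)) :=
  Lgr Lrot171 (Lpe (f191696 IH) (Lpe (K10.f191717 IH) (Lpr_dt (K17.f171168 IH) (Lpe (K11.f191968 IH) (Lpe (K10.f33431 IH) (Lpr_et (K13.f53843 IH) (Lpe (K15.f53626 IH) (Lpe (K15.f53847 IH) (Lpr_dt (f263616 IH) (Lpr_gf (f341750 IH) (Lpn (LP (LK LD1_c9 LD2_c55 LD3_c19)))))))))))))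
theorem f193238 : Led Lsl_gt (LP (LK LD1_c4 LD2_c22 LD3_c19)) = (LP (LK LD1_c8 LD2_c42 LD3_c36)) :=
  Lre_g IH (LK LD1_c4 LD2_c22 LD3_c19) (LK LD1_c8 LD2_c42 LD3_c36) Lrfl Lrfl
theorem f341780 : Led Lsl_et (LP (LK LD1_c9 LD2_c34 LD3_c7)) = (LP (LK LD1_c8 LD2_c42 LD3_c36)) :=
  Lgr Lrot122 (Lpr_dt (f341772 IH) (Lpe (f341750 IH) (Lpe (f263616 IH) (Lpr_et (K15.f53847 IH) (Lpr_gt (K15.f53626 IH) (Lpr_dt (K10.f48164 IH) (Lpr_gt (K12.f212495 IH) (Lpe (K14.f173262 IH) (Lpr_et (K14.f193233 IH) (Lpr_gt (f193238 IH) (Lpn (LP (LK LD1_c8 LD2_c42 LD3_c36)))))))))))))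
theorem f341786 : Led Lsl_ef (LP (LK LD1_c9 LD2_c34 LD3_c7)) = (LP (LK LD1_c8 LD2_c42 LD3_c36)) :=
  Lgr Lrot88 (Lpr_et (f341780 IH) (Lpn (LP (LK LD1_c8 LD2_c42 LD3_c36))))
theorem f54034 : Led Lsl_et (LP (LK LD1_c10 LD2_c19 LD3_c19)) = (LP (LK LD1_c5 LD2_c14 LD3_c58)) :=
  Lre_e IH (LK LD1_c10 LD2_c19 LD3_c19) (LK LD1_c5 LD2_c14 LD3_c58) Lrfl Lrfl
theorem f259718 : Led Lsl_dt (LP (LK LD1_c8 LD2_c15 LD3_c2)) = (LP (LK LD1_c10 LD2_c19 LD3_c19)) :=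
  Lgr Lrot77 (Lpe (K23.f44991 IH) (Lpe (K13.f45066 IH) (Lpe (K16.f45067 IH) (Lpr_df (K23.f259715 IH) (Lpe (f54034 IH) (Lpn (LP (LK LD1_c10 LD2_c19 LD3_c19))))))))
theorem f259720 : Led Lsl_df (LP (LK LD1_c8 LD2_c15 LD3_c2)) = (LP (LK LD1_c10 LD2_c19 LD3_c19)) :=
  Lgr Lrot38 (Lpr_dt (f259718 IH) (Lpn (LP (LK LD1_c10 LD2_c19 LD3_c19))))
theorem f341776 : Led Lsl_df (LP (LK LD1_c9 LD2_c34 LD3_c7)) = (LP (LK LD1_c9 LD2_c55 LD3_c19)) :=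
  Lgr Lrot38 (Lpr_dt (f341772 IH) (Lpn (LP (LK LD1_c9 LD2_c55 LD3_c19))))
theorem f307346 : Led Lsl_et (LP (LK LD1_c18 LD2_c9 LD3_c53)) = (LP (LK LD1_c9 LD2_c55 LD3_c19)) :=
  Lre_e IH (LK LD1_c18 LD2_c9 LD3_c53) (LK LD1_c9 LD2_c55 LD3_c19) Lrfl Lrfl
theorem f307285 : Led Lsl_bt (LP (LK LD1_c18 LD2_c9 LD3_c53)) = (LP (LK LD1_c9 LD2_c55 LD3_c21)) :=
  Lre_b IH (LK LD1_c18 LD2_c9 LD3_c53) (LK LD1_c9 LD2_c55 LD3_c21) Lrfl Lrfl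
theorem f307293 : Led Lsl_bt (LP (LK LD1_c10 LD2_c10 LD3_c17)) = (LP (LK LD1_c18 LD2_c31 LD3_c46)) :=
  Lre_b IH (LK LD1_c10 LD2_c10 LD3_c17) (LK LD1_c18 LD2_c31 LD3_c46) Lrfl Lrfl
theorem f307305 : Led Lsl_df (LP (LK LD1_c18 LD2_c9 LD3_c53)) = (LP (LK LD1_c18 LD2_c31 LD3_c46)) :=
  Lgr Lrot12 (Lpr_bt (f307285 IH) (Lpr_dt (K21.f307272 IH) (Lpr_bt (f307293 IH) (Lpn (LP (LK LD1_c18 LD2_c31 LD3_c46))))))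
theorem f307347 : Led Lsl_et (LP (LK LD1_c10 LD2_c10 LD3_c15)) = (LP (LK LD1_c18 LD2_c31 LD3_c46)) :=
  Lre_e IH (LK LD1_c10 LD2_c10 LD3_c15) (LK LD1_c18 LD2_c31 LD3_c46) Lrfl Lrfl
theorem f341784 : Led Lsl_df (LP (LK LD1_c10 LD2_c10 LD3_c15)) = (LP (LK LD1_c8 LD2_c42 LD3_c36)) :=
  Lgr Lrot70 (Lpr_et (f307347 IH) (Lpe (f307305 IH) (Lpr_et (f307346 IH) (Lpe (f341776 IH) (Lpr_et (f341780 IH) (Lpn (LP (LK LD1_c8 LD2_c42 LD3_c36))))))))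
theorem f341790 : Led Lsl_gf (LP (LK LD1_c8 LD2_c15 LD3_c2)) = (LP (LK LD1_c10 LD2_c10 LD3_c15)) :=
  Lgr Lrot145 (Lpr_df (f259720 IH) (Lpr_et (f54034 IH) (Lpr_gt (K23.f33443 IH) (Lpr_dt (K10.f33431 IH) (Lpr_gt (K11.f191968 IH) (Lpe (K17.f171168 IH) (Lpr_et (K10.f191717 IH) (Lpr_gt (f191696 IH) (Lpr_ef (f341786 IH) (Lpe (f341784 IH) (Lpn (LP (LK LD1_c10 LD2_c10 LD3_c15)))))))))))))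
theorem f307348 : Led Lsl_et (LP (LK LD1_c18 LD2_c31 LD3_c46)) = (LP (LK LD1_c10 LD2_c10 LD3_c15)) :=
  Lre_e IH (LK LD1_c18 LD2_c31 LD3_c46) (LK LD1_c10 LD2_c10 LD3_c15) Lrfl Lrfl
theorem f341792 : Led Lsl_gt (LP (LK LD1_c18 LD2_c8 LD3_c46)) = (LP (LK LD1_c18 LD2_c9 LD3_c53)) :=
  Lgr Lrot139 (Lpe (f239637 IH) (Lpr_gf (f309619 IH) (Lpe (K9.f49816 IH) (Lpr_dt (K9.f49791 IH) (Lpe (K10.f53583 IH) (Lpe (K13.f44990 IH) (Lpr_et (K23.f44991 IH) (Lpr_gf (f341790 IH) (Lpe (f307348 IH) (Lpe (f307305 IH) (Lpn (LP (LK LD1_c18 LD2_c9 LD3_c53)))))))))))))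
theorem f307263 : Led Lsl_bt (LP (LK LD1_c9 LD2_c55 LD3_c21)) = (LP (LK LD1_c18 LD2_c9 LD3_c53)) :=
  Lre_b IH (LK LD1_c9 LD2_c55 LD3_c21) (LK LD1_c18 LD2_c9 LD3_c53) Lrfl Lrfl
theorem f307264 : Led Lsl_bt (LP (LK LD1_c18 LD2_c31 LD3_c46)) = (LP (LK LD1_c10 LD2_c10 LD3_c17)) :=
  Lre_b IH (LK LD1_c18 LD2_c31 LD3_c46) (LK LD1_c10 LD2_c10 LD3_c17) Lrfl Lrfl
theorem f307265 : Led Lsl_dt (LP (LK LD1_c18 LD2_c9 LD3_c53)) = (LP (LK LD1_c18 LD2_c31 LD3_c46)) :=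
  Lgr Lrot79 (Lpe (f307263 IH) (Lpr_df (K21.f307259 IH) (Lpe (f307264 IH) (Lpn (LP (LK LD1_c18 LD2_c31 LD3_c46))))))
theorem f350733 : Led Lsl_cf (LP (LK LD1_c18 LD2_c31 LD3_c46)) = (LP (LK LD1_c25 LD2_c57 LD3_c61)) :=
  Lgr Lrot14 (Lpe (f307265 IH) (Lpe (f341792 IH) (Lpe (f239637 IH) (Lpr_gf (f309619 IH) (Lpr_ct (K14.f49830 IH) (Lpe (f350704 IH) (Lpr_dt (f350711 IH) (Lpr_gt (f350712 IH) (Lpr_dt (f350723 IH) (Lpn (LP (LK LD1_c25 LD2_c57 LD3_c61))))))))))))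
theorem f307349 : Led Lsl_et (LP (LK LD1_c9 LD2_c55 LD3_c19)) = (LP (LK LD1_c18 LD2_c9 LD3_c53)) :=
  Lre_e IH (LK LD1_c9 LD2_c55 LD3_c19) (LK LD1_c18 LD2_c9 LD3_c53) Lrfl Lrfl
theorem f341788 : Led Lsl_dt (LP (LK LD1_c10 LD2_c10 LD3_c15)) = (LP (LK LD1_c8 LD2_c42 LD3_c36)) :=
  Lgr Lrot77 (Lpe (f307348 IH) (Lpe (f307265 IH) (Lpe (f307349 IH) (Lpe (f341772 IH) (Lpr_ef (f341786 IH) (Lpn (LP (LK LD1_c8 LD2_c42 LD3_c36))))))))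
theorem f50060 : Led Lsl_df (LP (LK LD1_c8 LD2_c26 LD3_c21)) = (LP (LK LD1_c8 LD2_c26 LD3_c21)) :=
  Lgr Lrot12 (Lpr_bt (K14.f49469 IH) (Lpr_dt (K9.f50052 IH) (Lpr_bt (K9.f49468 IH) (Lpn (LP (LK LD1_c8 LD2_c26 LD3_c21))))))
theorem f45004 : Led Lsl_gt (LP (LK LD1_c8 LD2_c15 LD3_c10)) = (LP (LK LD1_c15 LD2_c31 LD3_c5)) :=
  Lre_g IH (LK LD1_c8 LD2_c15 LD3_c10) (LK LD1_c15 LD2_c31 LD3_c5) Lrfl Lrfl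
theorem f49470 : Led Lsl_gt (LP (LK LD1_c15 LD2_c31 LD3_c5)) = (LP (LK LD1_c8 LD2_c26 LD3_c21)) :=
  Lgr Lrot46 (Lpe (f45004 IH) (Lpr_ft (K9.f44998 IH) (Lpr_at (K9.f49466 IH) (Lpn (LP (LK LD1_c8 LD2_c26 LD3_c21))))))
theorem f49472 : Led Lsl_dt (LP (LK LD1_c25 LD2_c24 LD3_c7)) = (LP (LK LD1_c15 LD2_c31 LD3_c5)) :=
  Lre_d IH (LK LD1_c25 LD2_c24 LD3_c7) (LK LD1_c15 LD2_c31 LD3_c5) Lrfl Lrfl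
theorem f341797 : Led Lsl_gt (LP (LK LD1_c18 LD2_c31 LD3_c46)) = (LP (LK LD1_c25 LD2_c24 LD3_c7)) :=
  Lgr Lrot137 (Lpe (f307347 IH) (Lpr_dt (f341788 IH) (Lpe (f193238 IH) (Lpr_df (K23.f193199 IH) (Lpr_et (K14.f180776 IH) (Lpr_gf (K10.f183813 IH) (Lpe (K9.f49465 IH) (Lpe (f50060 IH) (Lpe (f49470 IH) (Lpe (f49472 IH) (Lpn (LP (LK LD1_c25 LD2_c24 LD3_c7)))))))))))))
theorem f252394 : Led Lsl_ct (LP (LK LD1_c8 LD2_c26 LD3_c21)) = (LP (LK LD1_c15 LD2_c36 LD3_c17)) :=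
  Lgr Lrot40 (Lpr_ff (K9.f49831 IH) (Lpe (K14.f49827 IH) (Lpr_ff (K14.f252391 IH) (Lpn (LP (LK LD1_c15 LD2_c36 LD3_c17))))))
theorem f32391 : Led Lsl_ct (LP (LK LD1_c5 LD2_c16 LD3_c15)) = (LP (LK LD1_c10 LD2_c22 LD3_c3)) :=
  Lre_c IH (LK LD1_c5 LD2_c16 LD3_c15) (LK LD1_c10 LD2_c22 LD3_c3) Lrfl Lrfl
theorem f214545 : Led Lsl_bt (LP (LK LD1_c5 LD2_c2 LD3_c47)) = (LP (LK LD1_c8 LD2_c15 LD3_c10)) :=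
  Lgr Lrot127 (Lpr_bf (K15.f214539 IH) (Lpn (LP (LK LD1_c8 LD2_c15 LD3_c10))))
theorem f214146 : Led Lsl_bt (LP (LK LD1_c18 LD2_c11 LD3_c18)) = (LP (LK LD1_c9 LD2_c56 LD3_c25)) :=
  Lre_b IH (LK LD1_c18 LD2_c11 LD3_c18) (LK LD1_c9 LD2_c56 LD3_c25) Lrfl Lrfl
theorem f188488 : Led Lsl_bt (LP (LK LD1_c10 LD2_c25 LD3_c14)) = (LP (LK LD1_c18 LD2_c54 LD3_c20)) :=
  Lre_b IH (LK LD1_c10 LD2_c25 LD3_c14) (LK LD1_c18 LD2_c54 LD3_c20) Lrfl Lrfl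
theorem f214547 : Led Lsl_cf (LP (LK LD1_c10 LD2_c25 LD3_c14)) = (LP (LK LD1_c8 LD2_c15 LD3_c10)) :=
  Lgr Lrot97 (Lpr_bt (f188488 IH) (Lpe (K14.f214526 IH) (Lpr_bt (f214146 IH) (Lpr_ct (K13.f214141 IH) (Lpr_bt (f214545 IH) (Lpn (LP (LK LD1_c8 LD2_c15 LD3_c10))))))))
theorem f342515 : Led Lsl_gt (LP (LK LD1_c10 LD2_c22 LD3_c3)) = (LP (LK LD1_c10 LD2_c25 LD3_c14)) :=
  Lgr Lrot149 (Lpe (f32391 IH) (Lpe (K15.f32383 IH) (Lpe (K15.f32363 IH) (Lpr_ct (K23.f32578 IH) (Lpr_gf (K23.f342509 IH) (Lpe (K23.f163900 IH) (Lpr_bt (K23.f312503 IH) (Lpr_gf (K19.f312499 IH) (Lpr_bf (K15.f214539 IH) (Lpe (f214547 IH) (Lpn (LP (LK LD1_c10 LD2_c25 LD3_c14)))))))))))))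
theorem f48370 : Led Lsl_ct (LP (LK LD1_c10 LD2_c22 LD3_c3)) = (LP (LK LD1_c5 LD2_c16 LD3_c15)) :=
  Lre_c IH (LK LD1_c10 LD2_c22 LD3_c3) (LK LD1_c5 LD2_c16 LD3_c15) Lrfl Lrfl
theorem f48924 : Led Lsl_dt (LP (LK LD1_c5 LD2_c16 LD3_c16)) = (LP (LK LD1_c10 LD2_c22 LD3_c8)) :=
  Lre_d IH (LK LD1_c5 LD2_c16 LD3_c16) (LK LD1_c10 LD2_c22 LD3_c8) Lrfl Lrfl
theorem f48925 : Led Lsl_ct (LP (LK LD1_c10 LD2_c22 LD3_c8)) = (LP (LK LD1_c18 LD2_c49 LD3_c13)) :=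
  Lre_c IH (LK LD1_c10 LD2_c22 LD3_c8) (LK LD1_c18 LD2_c49 LD3_c13) Lrfl Lrfl
theorem f48926 : Led Lsl_dt (LP (LK LD1_c28 LD2_c18 LD3_c40)) = (LP (LK LD1_c18 LD2_c49 LD3_c13)) :=
  Lre_d IH (LK LD1_c28 LD2_c18 LD3_c40) (LK LD1_c18 LD2_c49 LD3_c13) Lrfl Lrfl
theorem f342519 : Led Lsl_gf (LP (LK LD1_c28 LD2_c18 LD3_c40)) = (LP (LK LD1_c18 LD2_c54 LD3_c21)) :=
  Lgr Lrot143 (Lpr_dt (f48926 IH) (Lpe (f48925 IH) (Lpe (f48924 IH) (Lpr_gf (K23.f48922 IH) (Lpe (K1.f32170 IH) (Lpe (K15.f48348 IH) (Lpe (f48370 IH) (Lpr_gt (f342515 IH) (Lpr_dt (K13.f188344 IH) (Lpn (LP (LK LD1_c18 LD2_c54 LD3_c21))))))))))))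
theorem f252419 : Led Lsl_ft (LP (LK LD1_c10 LD2_c20 LD3_c49)) = (LP (LK LD1_c10 LD2_c25 LD3_c14)) :=
  Lgr Lrot4 (Lpr_cf (K14.f252410 IH) (Lpe (K9.f44998 IH) (Lpe (K15.f188327 IH) (Lpn (LP (LK LD1_c10 LD2_c25 LD3_c14))))))
theorem f252425 : Led Lsl_ff (LP (LK LD1_c18 LD2_c46 LD3_c40)) = (LP (LK LD1_c18 LD2_c54 LD3_c21)) :=
  Lgr Lrot19 (Lpr_dt (K14.f252387 IH) (Lpr_ft (f252419 IH) (Lpr_dt (K13.f188344 IH) (Lpn (LP (LK LD1_c18 LD2_c54 LD3_c21))))))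
theorem f53475 : Led Lsl_et (LP (LK LD1_c25 LD2_c25 LD3_c10)) = (LP (LK LD1_c25 LD2_c25 LD3_c40)) :=
  Lgr Lrot87 (Lpr_ef (K14.f49805 IH) (Lpn (LP (LK LD1_c25 LD2_c25 LD3_c40))))
theorem f188422 : Led Lsl_af (LP (LK LD1_c18 LD2_c54 LD3_c21)) = (LP (LK LD1_c25 LD2_c25 LD3_c40)) :=
  Lgr Lrot50 (Lpr_et (K13.f188400 IH) (Lpe (K14.f53494 IH) (Lpr_et (f53475 IH) (Lpn (LP (LK LD1_c25 LD2_c25 LD3_c40))))))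
theorem f252402 : Led Lsl_ff (LP (LK LD1_c25 LD2_c25 LD3_c40)) = (LP (LK LD1_c25 LD2_c30 LD3_c58)) :=
  Lgr Lrot3 (Lpr_ft (K14.f252397 IH) (Lpn (LP (LK LD1_c25 LD2_c30 LD3_c58))))
theorem f252427 : Led Lsl_at (LP (LK LD1_c18 LD2_c46 LD3_c40)) = (LP (LK LD1_c25 LD2_c30 LD3_c58)) :=
  Lgr Lrot66 (Lpr_ff (f252425 IH) (Lpr_af (f188422 IH) (Lpr_ff (f252402 IH) (Lpn (LP (LK LD1_c25 LD2_c30 LD3_c58))))))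
theorem f342528 : Led Lsl_gt (LP (LK LD1_c28 LD2_c18 LD3_c40)) = (LP (LK LD1_c25 LD2_c30 LD3_c58)) :=
  Lgr Lrot46 (Lpr_gf (f342519 IH) (Lpe (f252425 IH) (Lpr_at (f252427 IH) (Lpn (LP (LK LD1_c25 LD2_c30 LD3_c58))))))
theorem f232016 : Led Lsl_dt (LP (LK LD1_c18 LD2_c49 LD3_c13)) = (LP (LK LD1_c28 LD2_c18 LD3_c40)) :=
  Lre_d IH (LK LD1_c18 LD2_c49 LD3_c13) (LK LD1_c28 LD2_c18 LD3_c40) Lrfl Lrfl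
theorem f350738 : Led Lsl_gf (LP (LK LD1_c18 LD2_c49 LD3_c13)) = (LP (LK LD1_c25 LD2_c57 LD3_c61)) :=
  Lgr Lrot144 (Lpr_dt (f232016 IH) (Lpr_gt (f342528 IH) (Lpr_dt (K14.f252396 IH) (Lpe (f252394 IH) (Lpr_df (f50060 IH) (Lpe (f49470 IH) (Lpe (f49472 IH) (Lpe (f341797 IH) (Lpr_cf (f350733 IH) (Lpn (LP (LK LD1_c25 LD2_c57 LD3_c61))))))))))))
theorem f231999 : Led Lsl_et (LP (LK LD1_c8 LD2_c17 LD3_c49)) = (LP (LK LD1_c4 LD2_c8 LD3_c51)) :=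
  Lre_e IH (LK LD1_c8 LD2_c17 LD3_c49) (LK LD1_c4 LD2_c8 LD3_c51) Lrfl Lrfl
theorem f342532 : Led Lsl_gt (LP (LK LD1_c15 LD2_c36 LD3_c13)) = (LP (LK LD1_c25 LD2_c30 LD3_c55)) :=
  Lre_g IH (LK LD1_c15 LD2_c36 LD3_c13) (LK LD1_c25 LD2_c30 LD3_c55) Lrfl Lrfl
theorem f350725 : Led Lsl_et (LP (LK LD1_c16 LD2_c0 LD3_c42)) = (LP (LK LD1_c25 LD2_c57 LD3_c61)) :=
  Lre_e IH (LK LD1_c16 LD2_c0 LD3_c42) (LK LD1_c25 LD2_c57 LD3_c61) Lrfl Lrfl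
theorem f350742 : Led Lsl_df (LP (LK LD1_c25 LD2_c30 LD3_c55)) = (LP (LK LD1_c16 LD2_c0 LD3_c42)) :=
  Lgr Lrot168 (Lpe (f342532 IH) (Lpe (K23.f232000 IH) (Lpr_et (f231999 IH) (Lpe (K12.f229039 IH) (Lpe (K14.f231989 IH) (Lpr_dt (K14.f252388 IH) (Lpe (f342528 IH) (Lpe (f232016 IH) (Lpr_gf (f350738 IH) (Lpe (f350725 IH) (Lpn (LP (LK LD1_c16 LD2_c0 LD3_c42)))))))))))))
theorem f350744 : Led Lsl_dt (LP (LK LD1_c25 LD2_c30 LD3_c55)) = (LP (LK LD1_c16 LD2_c0 LD3_c42)) :=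
  Lgr Lrot42 (Lpr_df (f350742 IH) (Lpn (LP (LK LD1_c16 LD2_c0 LD3_c42))))
theorem f252838 : Led Lsl_gt (LP (LK LD1_c15 LD2_c36 LD3_c11)) = (LP (LK LD1_c8 LD2_c17 LD3_c49)) :=
  Lre_g IH (LK LD1_c15 LD2_c36 LD3_c11) (LK LD1_c8 LD2_c17 LD3_c49) Lrfl Lrfl
theorem f300204 : Led Lsl_bt (LP (LK LD1_c10 LD2_c10 LD3_c15)) = (LP (LK LD1_c5 LD2_c9 LD3_c44)) :=
  Lre_b IH (LK LD1_c10 LD2_c10 LD3_c15) (LK LD1_c5 LD2_c9 LD3_c44) Lrfl Lrfl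
theorem f273367 : Led Lsl_ft (LP (LK LD1_c10 LD2_c24 LD3_c52)) = (LP (LK LD1_c5 LD2_c17 LD3_c35)) :=
  Lre_f IH (LK LD1_c10 LD2_c24 LD3_c52) (LK LD1_c5 LD2_c17 LD3_c35) Lrfl Lrfl
theorem f273580 : Led Lsl_gf (LP (LK LD1_c16 LD2_c0 LD3_c42)) = (LP (LK LD1_c10 LD2_c24 LD3_c52)) :=
  Lgr Lrot47 (Lpr_gt (f254575 IH) (Lpr_af (K16.f273569 IH) (Lpe (f273367 IH) (Lpn (LP (LK LD1_c10 LD2_c24 LD3_c52))))))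
theorem f326784 : Led Lsl_ct (LP (LK LD1_c10 LD2_c10 LD3_c15)) = (LP (LK LD1_c16 LD2_c0 LD3_c42)) :=
  Lgr Lrot10 (Lpr_bt (f300204 IH) (Lpr_gt (K23.f214987 IH) (Lpr_ct (K21.f259788 IH) (Lpr_gt (K19.f259779 IH) (Lpe (K21.f307325 IH) (Lpr_bt (K21.f193027 IH) (Lpr_gt (K21.f326782 IH) (Lpr_bf (K16.f229161 IH) (Lpr_ct (K16.f49063 IH) (Lpe (f273580 IH) (Lpn (LP (LK LD1_c16 LD2_c0 LD3_c42)))))))))))))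
theorem f180810 : Led Lsl_gt (LP (LK LD1_c15 LD2_c11 LD3_c39)) = (LP (LK LD1_c8 LD2_c4 LD3_c15)) :=
  Lre_g IH (LK LD1_c15 LD2_c11 LD3_c39) (LK LD1_c8 LD2_c4 LD3_c15) Lrfl Lrfl
theorem f350748 : Led Lsl_ct (LP (LK LD1_c15 LD2_c36 LD3_c11)) = (LP (LK LD1_c15 LD2_c11 LD3_c39)) :=
  Lgr Lrot8 (Lpr_gt (f252838 IH) (Lpr_dt (K23.f232000 IH) (Lpr_gt (f342532 IH) (Lpr_dt (f350744 IH) (Lpe (f326784 IH) (Lpr_df (f341784 IH) (Lpe (f193238 IH) (Lpr_df (K23.f193199 IH) (Lpe (f180810 IH) (Lpn (LP (LK LD1_c15 LD2_c11 LD3_c39))))))))))))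
theorem f350750 : Led Lsl_cf (LP (LK LD1_c15 LD2_c36 LD3_c11)) = (LP (LK LD1_c15 LD2_c11 LD3_c39)) :=
  Lgr Lrot11 (Lpr_ct (f350748 IH) (Lpn (LP (LK LD1_c15 LD2_c11 LD3_c39))))
theorem f228977 : Led Lsl_bt (LP (LK LD1_c4 LD2_c8 LD3_c30)) = (LP (LK LD1_c2 LD2_c1 LD3_c44)) :=
  Lre_b IH (LK LD1_c4 LD2_c8 LD3_c30) (LK LD1_c2 LD2_c1 LD3_c44) Lrfl Lrfl
theorem f228978 : Led Lsl_bt (LP (LK LD1_c4 LD2_c8 LD3_c49)) = (LP (LK LD1_c5 LD2_c19 LD3_c44)) :=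
  Lgr Lrot95 (Lpe (K23.f220183 IH) (Lpe (f228977 IH) (Lpr_df (K12.f228975 IH) (Lpn (LP (LK LD1_c5 LD2_c19 LD3_c44))))))
theorem f167492 : Led Lsl_bt (LP (LK LD1_c2 LD2_c6 LD3_c20)) = (LP (LK LD1_c1 LD2_c0 LD3_c11)) :=
  Lre_b IH (LK LD1_c2 LD2_c6 LD3_c20) (LK LD1_c1 LD2_c0 LD3_c11) Lrfl Lrfl
theorem f304476 : Led Lsl_bf (LP (LK LD1_c4 LD2_c17 LD3_c61)) = (LP (LK LD1_c4 LD2_c11 LD3_c25)) :=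
  Lgr Lrot81 (Lpr_at (K19.f167597 IH) (Lpr_bt (f167492 IH) (Lpr_at (K18.f304472 IH) (Lpr_bt (K22.f200153 IH) (Lpr_at (K19.f200248 IH) (Lpn (LP (LK LD1_c4 LD2_c11 LD3_c25))))))))
theorem f336293 : Led Lsl_bt (LP (LK LD1_c7 LD2_c55 LD3_c48)) = (LP (LK LD1_c8 LD2_c34 LD3_c54)) :=
  Lgr Lrot92 (Lpr_ct (K22.f229733 IH) (Lpe (K22.f298986 IH) (Lpe (K21.f237528 IH) (Lpr_bt (K16.f237526 IH) (Lpr_gt (K22.f237532 IH) (Lpe (K22.f336291 IH) (Lpr_gt (K22.f336288 IH) (Lpe (K20.f200235 IH) (Lpe (f304476 IH) (Lpr_gt (K21.f307688 IH) (Lpn (LP (LK LD1_c8 LD2_c34 LD3_c54)))))))))))))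
theorem f336298 : Led Lsl_bf (LP (LK LD1_c10 LD2_c29 LD3_c17)) = (LP (LK LD1_c5 LD2_c19 LD3_c59)) :=
  Lgr Lrot93 (Lpr_dt (f323788 IH) (Lpr_bt (f336293 IH) (Lpe (K21.f325387 IH) (Lpn (LP (LK LD1_c5 LD2_c19 LD3_c59))))))
theorem f248342 : Led Lsl_ct (LP (LK LD1_c5 LD2_c19 LD3_c59)) = (LP (LK LD1_c10 LD2_c29 LD3_c52)) :=
  Lre_c IH (LK LD1_c5 LD2_c19 LD3_c59) (LK LD1_c10 LD2_c29 LD3_c52) Lrfl Lrfl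
theorem f350755 : Led Lsl_gt (LP (LK LD1_c15 LD2_c50 LD3_c56)) = (LP (LK LD1_c15 LD2_c11 LD3_c39)) :=
  Lgr Lrot9 (Lpe (K17.f287020 IH) (Lpr_gt (K23.f297691 IH) (Lpe (K23.f349775 IH) (Lpr_gt (K23.f234690 IH) (Lpr_ct (K23.f621 IH) (Lpe (K23.f229029 IH) (Lpe (K23.f252803 IH) (Lpe (f252838 IH) (Lpr_cf (f350750 IH) (Lpn (LP (LK LD1_c15 LD2_c11 LD3_c39))))))))))))
theorem f350757 : Led Lsl_gt (LP (LK LD1_c10 LD2_c29 LD3_c52)) = (LP (LK LD1_c10 LD2_c28 LD3_c59)) :=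
  Lgr Lrot65 (Lpe (f248342 IH) (Lpe (f336298 IH) (Lpe (f228991 IH) (Lpe (f228978 IH) (Lpr_ct (K23.f229027 IH) (Lpe (f252838 IH) (Lpr_cf (f350750 IH) (Lpe (f350755 IH) (Lpe (K17.f230133 IH) (Lpe (K17.f230089 IH) (Lpn (LP (LK LD1_c10 LD2_c28 LD3_c59)))))))))))))
theorem f248300 : Led Lsl_bf (LP (LK LD1_c2 LD2_c36 LD3_c40)) = (LP (LK LD1_c4 LD2_c27 LD3_c25)) :=
  Lgr Lrot24 (Lpr_bt (K14.f248298 IH) (Lpn (LP (LK LD1_c4 LD2_c27 LD3_c25))))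
theorem f350763 : Led Lsl_bt (LP (LK LD1_c17 LD2_c45 LD3_c38)) = (LP (LK LD1_c15 LD2_c11 LD3_c39)) :=
  Lgr Lrot92 (Lpr_ct (K22.f336320 IH) (Lpr_gt (K22.f248373 IH) (Lpe (K14.f248304 IH) (Lpe (f248300 IH) (Lpr_gt (K21.f248340 IH) (Lpr_ct (f248342 IH) (Lpr_gt (f350757 IH) (Lpr_cf (K17.f230089 IH) (Lpr_bt (K17.f230133 IH) (Lpr_gt (f350755 IH) (Lpn (LP (LK LD1_c15 LD2_c11 LD3_c39)))))))))))))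
theorem f315991 : Led Lsl_bf (LP (LK LD1_c11 LD2_c52 LD3_c18)) = (LP (LK LD1_c10 LD2_c28 LD3_c43)) :=
  Lgr Lrot96 (Lpr_et (K20.f315989 IH) (Lpr_bt (K21.f278993 IH) (Lpe (K23.f288985 IH) (Lpn (LP (LK LD1_c10 LD2_c28 LD3_c43))))))
theorem f335349 : Led Lsl_gf (LP (LK LD1_c8 LD2_c53 LD3_c35)) = (LP (LK LD1_c11 LD2_c53 LD3_c8)) :=
  Lgr Lrot129 (Lpe (K23.f333959 IH) (Lpr_bt (K17.f274919 IH) (Lpr_gt (K17.f54050 IH) (Lpe (f311884 IH) (Lpr_ct (f320636 IH) (Lpr_gt (K16.f277465 IH) (Lpe (K15.f258213 IH) (Lpe (f315991 IH) (Lpr_gt (K22.f335345 IH) (Lpr_ct (K22.f329749 IH) (Lpn (LP (LK LD1_c11 LD2_c53 LD3_c8)))))))))))))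
theorem f278595 : Led Lsl_ct (LP (LK LD1_c5 LD2_c16 LD3_c21)) = (LP (LK LD1_c10 LD2_c22 LD3_c18)) :=
  Lre_c IH (LK LD1_c5 LD2_c16 LD3_c21) (LK LD1_c10 LD2_c22 LD3_c18) Lrfl Lrfl
theorem f335353 : Led Lsl_gf (LP (LK LD1_c8 LD2_c52 LD3_c40)) = (LP (LK LD1_c10 LD2_c22 LD3_c18)) :=
  Lgr Lrot104 (Lpr_ct (K19.f215046 IH) (Lpe (K20.f274877 IH) (Lpr_cf (K22.f278931 IH) (Lpr_gf (f335349 IH) (Lpe (K22.f329749 IH) (Lpe (K22.f335345 IH) (Lpr_df (K21.f316011 IH) (Lpe (K20.f316013 IH) (Lpr_ct (f278595 IH) (Lpn (LP (LK LD1_c10 LD2_c22 LD3_c18))))))))))))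
theorem f214745 : Led Lsl_bt (LP (LK LD1_c15 LD2_c30 LD3_c57)) = (LP (LK LD1_c8 LD2_c15 LD3_c6)) :=
  Lre_b IH (LK LD1_c15 LD2_c30 LD3_c57) (LK LD1_c8 LD2_c15 LD3_c6) Lrfl Lrfl
theorem f214750 : Led Lsl_gt (LP (LK LD1_c8 LD2_c15 LD3_c6)) = (LP (LK LD1_c15 LD2_c30 LD3_c58)) :=
  Lre_g IH (LK LD1_c8 LD2_c15 LD3_c6) (LK LD1_c15 LD2_c30 LD3_c58) Lrfl Lrfl
theorem f335358 : Led Lsl_bf (LP (LK LD1_c15 LD2_c30 LD3_c58)) = (LP (LK LD1_c15 LD2_c11 LD3_c23)) :=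
  Lgr Lrot34 (Lpe (f214750 IH) (Lpe (f214745 IH) (Lpe (K19.f215072 IH) (Lpr_gf (f335353 IH) (Lpe (f278595 IH) (Lpr_gf (K20.f316013 IH) (Lpr_bf (K21.f230591 IH) (Lpr_ct (K19.f230594 IH) (Lpe (f335305 IH) (Lpr_cf (K22.f335301 IH) (Lpn (LP (LK LD1_c15 LD2_c11 LD3_c23)))))))))))))
theorem f335362 : Led Lsl_bt (LP (LK LD1_c15 LD2_c30 LD3_c58)) = (LP (LK LD1_c15 LD2_c11 LD3_c23)) :=
  Lgr Lrot127 (Lpr_bf (f335358 IH) (Lpn (LP (LK LD1_c15 LD2_c11 LD3_c23))))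
theorem f350768 : Led Lsl_ef (LP (LK LD1_c15 LD2_c30 LD3_c58)) = (LP (LK LD1_c15 LD2_c11 LD3_c39)) :=
  Lgr Lrot29 (Lpr_bt (f335362 IH) (Lpe (K22.f336326 IH) (Lpr_bt (f350763 IH) (Lpn (LP (LK LD1_c15 LD2_c11 LD3_c39))))))
theorem f170515 : Led Lsl_et (LP (LK LD1_c5 LD2_c0 LD3_c61)) = (LP (LK LD1_c2 LD2_c28 LD3_c13)) :=
  Lre_e IH (LK LD1_c5 LD2_c0 LD3_c61) (LK LD1_c2 LD2_c28 LD3_c13) Lrfl Lrfl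
theorem f170432 : Led Lsl_gt (LP (LK LD1_c16 LD2_c1 LD3_c34)) = (LP (LK LD1_c8 LD2_c32 LD3_c7)) :=
  Lre_g IH (LK LD1_c16 LD2_c1 LD3_c34) (LK LD1_c8 LD2_c32 LD3_c7) Lrfl Lrfl
theorem f351220 : Led Lsl_df (LP (LK LD1_c16 LD2_c1 LD3_c34)) = (LP (LK LD1_c15 LD2_c11 LD3_c39)) :=
  Lgr Lrot170 (Lpr_gt (f170432 IH) (Lpr_df (K16.f170495 IH) (Lpr_et (f170515 IH) (Lpr_gt (K15.f170518 IH) (Lpe (K15.f252582 IH) (Lpr_gt (K15.f175060 IH) (Lpr_df (K17.f284828 IH) (Lpr_et (K19.f214630 IH) (Lpr_gt (f214750 IH) (Lpr_ef (f350768 IH) (Lpn (LP (LK LD1_c15 LD2_c11 LD3_c39)))))))))))))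
theorem f351224 : Led Lsl_dt (LP (LK LD1_c16 LD2_c1 LD3_c34)) = (LP (LK LD1_c15 LD2_c11 LD3_c39)) :=
  Lgr Lrot42 (Lpr_df (f351220 IH) (Lpn (LP (LK LD1_c15 LD2_c11 LD3_c39))))
theorem f246639 : Led Lsl_df (LP (LK LD1_c2 LD2_c25 LD3_c27)) = (LP (LK LD1_c4 LD2_c13 LD3_c3)) :=
  Lgr Lrot12 (Lpr_bt (K14.f232201 IH) (Lpr_dt (K14.f246636 IH) (Lpr_bt (K14.f220087 IH) (Lpn (LP (LK LD1_c4 LD2_c13 LD3_c3))))))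
theorem f251804 : Led Lsl_gt (LP (LK LD1_c8 LD2_c19 LD3_c26)) = (LP (LK LD1_c15 LD2_c39 LD3_c34)) :=
  Lre_g IH (LK LD1_c8 LD2_c19 LD3_c26) (LK LD1_c15 LD2_c39 LD3_c34) Lrfl Lrfl
theorem f351385 : Led Lsl_et (LP (LK LD1_c16 LD2_c1 LD3_c34)) = (LP (LK LD1_c15 LD2_c39 LD3_c34)) :=
  Lgr Lrot122 (Lpr_dt (f351224 IH) (Lpr_gt (f180810 IH) (Lpe (K14.f193227 IH) (Lpr_et (K18.f193239 IH) (Lpe (K14.f246691 IH) (Lpe (f246639 IH) (Lpr_gt (K15.f246696 IH) (Lpr_df (K23.f257958 IH) (Lpr_et (K17.f251799 IH) (Lpr_gt (f251804 IH) (Lpn (LP (LK LD1_c15 LD2_c39 LD3_c34)))))))))))))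
theorem f297695 : Led Lsl_gf (LP (LK LD1_c15 LD2_c15 LD3_c4)) = (LP (LK LD1_c8 LD2_c42 LD3_c36)) :=
  Lgr Lrot76 (Lpr_af (K18.f297689 IH) (Lpe (K18.f193236 IH) (Lpr_gt (f193238 IH) (Lpn (LP (LK LD1_c8 LD2_c42 LD3_c36))))))
theorem f263599 : Led Lsl_ef (LP (LK LD1_c9 LD2_c37 LD3_c45)) = (LP (LK LD1_c15 LD2_c6 LD3_c45)) :=
  Lgr Lrot88 (Lpr_et (K15.f263592 IH) (Lpn (LP (LK LD1_c15 LD2_c6 LD3_c45))))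
theorem f351393 : Led Lsl_gf (LP (LK LD1_c9 LD2_c37 LD3_c45)) = (LP (LK LD1_c15 LD2_c39 LD3_c34)) :=
  Lgr Lrot141 (Lpr_ef (f263599 IH) (Lpr_dt (K15.f33229 IH) (Lpr_gt (f341748 IH) (Lpe (f341772 IH) (Lpr_et (f341780 IH) (Lpe (f297695 IH) (Lpr_dt (K17.f287020 IH) (Lpr_gt (f350755 IH) (Lpe (f351224 IH) (Lpr_et (f351385 IH) (Lpn (LP (LK LD1_c15 LD2_c39 LD3_c34)))))))))))))
theorem f323455 : Led Lsl_bt (LP (LK LD1_c2 LD2_c2 LD3_c50)) = (LP (LK LD1_c0 LD2_c58 LD3_c21)) :=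
  Lre_b IH (LK LD1_c2 LD2_c2 LD3_c50) (LK LD1_c0 LD2_c58 LD3_c21) Lrfl Lrfl
theorem f215483 : Led Lsl_ct (LP (LK LD1_c2 LD2_c2 LD3_c50)) = (LP (LK LD1_c4 LD2_c11 LD3_c7)) :=
  Lre_c IH (LK LD1_c2 LD2_c2 LD3_c50) (LK LD1_c4 LD2_c11 LD3_c7) Lrfl Lrfl
theorem f351395 : Led Lsl_bt (LP (LK LD1_c15 LD2_c45 LD3_c1)) = (LP (LK LD1_c15 LD2_c39 LD3_c34)) :=
  Lgr Lrot130 (Lpr_ct (K19.f215513 IH) (Lpe (K22.f215484 IH) (Lpe (f215483 IH) (Lpr_bt (f323455 IH) (Lpe (K19.f167664 IH) (Lpe (K21.f323453 IH) (Lpr_ct (K21.f323398 IH) (Lpr_gf (K21.f323441 IH) (Lpr_cf (K21.f170352 IH) (Lpr_gf (f351393 IH) (Lpn (LP (LK LD1_c15 LD2_c39 LD3_c34)))))))))))))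
theorem f251807 : Led Lsl_dt (LP (LK LD1_c15 LD2_c39 LD3_c34)) = (LP (LK LD1_c25 LD2_c34 LD3_c60)) :=
  Lre_d IH (LK LD1_c15 LD2_c39 LD3_c34) (LK LD1_c25 LD2_c34 LD3_c60) Lrfl Lrfl
theorem f351398 : Led Lsl_bf (LP (LK LD1_c25 LD2_c41 LD3_c45)) = (LP (LK LD1_c25 LD2_c34 LD3_c60)) :=
  Lgr Lrot93 (Lpr_dt (K22.f215543 IH) (Lpr_bt (f351395 IH) (Lpr_dt (f251807 IH) (Lpn (LP (LK LD1_c25 LD2_c34 LD3_c60))))))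
theorem f214751 : Led Lsl_dt (LP (LK LD1_c15 LD2_c30 LD3_c58)) = (LP (LK LD1_c25 LD2_c23 LD3_c56)) :=
  Lre_d IH (LK LD1_c15 LD2_c30 LD3_c58) (LK LD1_c25 LD2_c23 LD3_c56) Lrfl Lrfl
theorem f335364 : Led Lsl_bt (LP (LK LD1_c25 LD2_c23 LD3_c56)) = (LP (LK LD1_c25 LD2_c0 LD3_c31)) :=
  Lgr Lrot95 (Lpe (f214751 IH) (Lpr_bf (f335358 IH) (Lpe (K22.f321723 IH) (Lpn (LP (LK LD1_c25 LD2_c0 LD3_c31))))))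
theorem f335366 : Led Lsl_bf (LP (LK LD1_c25 LD2_c23 LD3_c56)) = (LP (LK LD1_c25 LD2_c0 LD3_c31)) :=
  Lgr Lrot24 (Lpr_bt (f335364 IH) (Lpn (LP (LK LD1_c25 LD2_c0 LD3_c31))))
theorem f351402 : Led Lsl_et (LP (LK LD1_c25 LD2_c23 LD3_c56)) = (LP (LK LD1_c25 LD2_c34 LD3_c60)) :=
  Lgr Lrot74 (Lpr_bf (f335366 IH) (Lpe (K22.f336328 IH) (Lpr_bf (f351398 IH) (Lpn (LP (LK LD1_c25 LD2_c34 LD3_c60))))))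
theorem f284830 : Led Lsl_dt (LP (LK LD1_c25 LD2_c23 LD3_c56)) = (LP (LK LD1_c15 LD2_c30 LD3_c58)) :=
  Lre_d IH (LK LD1_c25 LD2_c23 LD3_c56) (LK LD1_c15 LD2_c30 LD3_c58) Lrfl Lrfl
theorem f351404 : Led Lsl_gf (LP (LK LD1_c17 LD2_c53 LD3_c10)) = (LP (LK LD1_c25 LD2_c34 LD3_c60)) :=
  Lgr Lrot138 (Lpe (K22.f333789 IH) (Lpr_gt (K20.f243419 IH) (Lpe (K19.f301127 IH) (Lpr_et (K20.f234815 IH) (Lpr_gt (K14.f234799 IH) (Lpr_ef (K17.f251733 IH) (Lpr_dt (K17.f284818 IH) (Lpr_gt (f214750 IH) (Lpe (f284830 IH) (Lpr_et (f351402 IH) (Lpn (LP (LK LD1_c25 LD2_c34 LD3_c60)))))))))))))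
theorem f311631 : Led Lsl_ct (LP (LK LD1_c9 LD2_c43 LD3_c55)) = (LP (LK LD1_c17 LD2_c53 LD3_c13)) :=
  Lre_c IH (LK LD1_c9 LD2_c43 LD3_c55) (LK LD1_c17 LD2_c53 LD3_c13) Lrfl Lrfl
theorem f351400 : Led Lsl_bt (LP (LK LD1_c25 LD2_c41 LD3_c45)) = (LP (LK LD1_c25 LD2_c34 LD3_c60)) :=
  Lgr Lrot127 (Lpr_bf (f351398 IH) (Lpn (LP (LK LD1_c25 LD2_c34 LD3_c60))))
theorem f345324 : Led Lsl_at (LP (LK LD1_c2 LD2_c38 LD3_c47)) = (LP (LK LD1_c5 LD2_c20 LD3_c48)) :=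
  Lgr Lrot67 (Lpe (K20.f318329 IH) (Lpe (K21.f224809 IH) (Lpe (K22.f330488 IH) (Lpr_af (K23.f345318 IH) (Lpe (K22.f235151 IH) (Lpn (LP (LK LD1_c5 LD2_c20 LD3_c48))))))))
theorem f318211 : Led Lsl_af (LP (LK LD1_c5 LD2_c20 LD3_c54)) = (LP (LK LD1_c2 LD2_c38 LD3_c58)) :=
  Lgr Lrot0 (Lpr_at (K20.f318206 IH) (Lpn (LP (LK LD1_c2 LD2_c38 LD3_c58))))
theorem f345328 : Led Lsl_ef (LP (LK LD1_c2 LD2_c38 LD3_c58)) = (LP (LK LD1_c5 LD2_c20 LD3_c48)) :=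
  Lgr Lrot20 (Lpe (f318211 IH) (Lpr_et (K20.f318319 IH) (Lpr_at (f345324 IH) (Lpn (LP (LK LD1_c5 LD2_c20 LD3_c48))))))
theorem f42194 : Led Lsl_ft (LP (LK LD1_c2 LD2_c37 LD3_c4)) = (LP (LK LD1_c5 LD2_c20 LD3_c54)) :=
  Lre_f IH (LK LD1_c2 LD2_c37 LD3_c4) (LK LD1_c5 LD2_c20 LD3_c54) Lrfl Lrfl
theorem f42199 : Led Lsl_gt (LP (LK LD1_c2 LD2_c37 LD3_c4)) = (LP (LK LD1_c5 LD2_c20 LD3_c53)) :=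
  Lre_g IH (LK LD1_c2 LD2_c37 LD3_c4) (LK LD1_c5 LD2_c20 LD3_c53) Lrfl Lrfl
theorem f318217 : Led Lsl_gt (LP (LK LD1_c5 LD2_c20 LD3_c53)) = (LP (LK LD1_c2 LD2_c38 LD3_c58)) :=
  Lgr Lrot46 (Lpe (f42199 IH) (Lpr_ft (f42194 IH) (Lpr_at (K20.f318206 IH) (Lpn (LP (LK LD1_c2 LD2_c38 LD3_c58))))))
theorem f42265 : Led Lsl_et (LP (LK LD1_c10 LD2_c31 LD3_c54)) = (LP (LK LD1_c5 LD2_c20 LD3_c53)) :=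
  Lre_e IH (LK LD1_c10 LD2_c31 LD3_c54) (LK LD1_c5 LD2_c20 LD3_c53) Lrfl Lrfl
theorem f288636 : Led Lsl_bt (LP (LK LD1_c5 LD2_c13 LD3_c14)) = (LP (LK LD1_c2 LD2_c33 LD3_c33)) :=
  Lre_b IH (LK LD1_c5 LD2_c13 LD3_c14) (LK LD1_c2 LD2_c33 LD3_c33) Lrfl Lrfl
theorem f302172 : Led Lsl_ef (LP (LK LD1_c5 LD2_c13 LD3_c14)) = (LP (LK LD1_c5 LD2_c5 LD3_c29)) :=
  Lgr Lrot29 (Lpr_bt (f288636 IH) (Lpr_et (K18.f302170 IH) (Lpr_bt (K21.f167458 IH) (Lpn (LP (LK LD1_c5 LD2_c5 LD3_c29))))))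
theorem f335351 : Led Lsl_gf (LP (LK LD1_c5 LD2_c13 LD3_c14)) = (LP (LK LD1_c8 LD2_c52 LD3_c30)) :=
  Lgr Lrot141 (Lpr_ef (f302172 IH) (Lpe (K21.f167459 IH) (Lpe (K19.f307686 IH) (Lpr_df (K19.f256000 IH) (Lpr_et (K19.f307692 IH) (Lpe (K21.f307700 IH) (Lpe (K21.f316011 IH) (Lpr_gt (K22.f335345 IH) (Lpe (K21.f329740 IH) (Lpr_et (K21.f330412 IH) (Lpn (LP (LK LD1_c8 LD2_c52 LD3_c30)))))))))))))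
theorem f345504 : Led Lsl_dt (LP (LK LD1_c10 LD2_c31 LD3_c54)) = (LP (LK LD1_c5 LD2_c23 LD3_c54)) :=
  Lgr Lrot56 (Lpr_et (f42265 IH) (Lpr_gt (f318217 IH) (Lpr_ef (f345328 IH) (Lpr_dt (K21.f330420 IH) (Lpe (f335351 IH) (Lpr_df (K17.f288634 IH) (Lpr_et (K17.f288633 IH) (Lpr_gt (K20.f315894 IH) (Lpe (K15.f184267 IH) (Lpe (K23.f315908 IH) (Lpn (LP (LK LD1_c5 LD2_c23 LD3_c54)))))))))))))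
theorem f345508 : Led Lsl_ct (LP (LK LD1_c19 LD2_c4 LD3_c46)) = (LP (LK LD1_c10 LD2_c31 LD3_c54)) :=
  Lre_c IH (LK LD1_c19 LD2_c4 LD3_c46) (LK LD1_c10 LD2_c31 LD3_c54) Lrfl Lrfl
theorem f345516 : Led Lsl_gt (LP (LK LD1_c28 LD2_c30 LD3_c49)) = (LP (LK LD1_c19 LD2_c4 LD3_c46)) :=
  Lre_g IH (LK LD1_c28 LD2_c30 LD3_c49) (LK LD1_c19 LD2_c4 LD3_c46) Lrfl Lrfl
theorem f295970 : Led Lsl_ct (LP (LK LD1_c10 LD2_c38 LD3_c24)) = (LP (LK LD1_c5 LD2_c23 LD3_c54)) :=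
  Lre_c IH (LK LD1_c10 LD2_c38 LD3_c24) (LK LD1_c5 LD2_c23 LD3_c54) Lrfl Lrfl
theorem f344470 : Led Lsl_gf (LP (LK LD1_c10 LD2_c38 LD3_c24)) = (LP (LK LD1_c16 LD2_c3 LD3_c4)) :=
  Lgr Lrot47 (Lpr_gt (K23.f295968 IH) (Lpr_af (K23.f344466 IH) (Lpe (K23.f287780 IH) (Lpn (LP (LK LD1_c16 LD2_c3 LD3_c4))))))
theorem f7808 : Led Lsl_ct (LP (LK LD1_c2 LD2_c6 LD3_c2)) = (LP (LK LD1_c4 LD2_c17 LD3_c26)) :=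
  Lre_c IH (LK LD1_c2 LD2_c6 LD3_c2) (LK LD1_c4 LD2_c17 LD3_c26) Lrfl Lrfl
theorem f326405 : Led Lsl_df (LP (LK LD1_c16 LD2_c11 LD3_c6)) = (LP (LK LD1_c9 LD2_c34 LD3_c49)) :=
  Lgr Lrot78 (Lpr_ft (K21.f257343 IH) (Lpe (K21.f322361 IH) (Lpr_ft (K21.f326403 IH) (Lpn (LP (LK LD1_c9 LD2_c34 LD3_c49))))))
theorem f343700 : Led Lsl_ct (LP (LK LD1_c8 LD2_c34 LD3_c2)) = (LP (LK LD1_c9 LD2_c34 LD3_c49)) :=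
  Lgr Lrot110 (Lpe (K23.f245898 IH) (Lpe (f7808 IH) (Lpr_gf (K21.f325310 IH) (Lpe (K21.f325320 IH) (Lpr_gt (K23.f343695 IH) (Lpr_ct (K23.f286183 IH) (Lpe (K23.f343687 IH) (Lpr_ct (K21.f257344 IH) (Lpr_df (f326405 IH) (Lpn (LP (LK LD1_c9 LD2_c34 LD3_c49))))))))))))
theorem f344392 : Led Lsl_ct (LP (LK LD1_c17 LD2_c38 LD3_c27)) = (LP (LK LD1_c16 LD2_c3 LD3_c4)) :=
  Lgr Lrot15 (Lpe (K22.f326388 IH) (Lpe (f343700 IH) (Lpr_ef (K23.f344383 IH) (Lpn (LP (LK LD1_c16 LD2_c3 LD3_c4))))))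
theorem f270893 : Led Lsl_gt (LP (LK LD1_c17 LD2_c43 LD3_c30)) = (LP (LK LD1_c9 LD2_c37 LD3_c52)) :=
  Lre_g IH (LK LD1_c17 LD2_c43 LD3_c30) (LK LD1_c9 LD2_c37 LD3_c52) Lrfl Lrfl
theorem f336312 : Led Lsl_gf (LP (LK LD1_c25 LD2_c41 LD3_c45)) = (LP (LK LD1_c25 LD2_c15 LD3_c32)) :=
  Lgr Lrot134 (Lpe (K22.f215486 IH) (Lpr_et (K22.f336308 IH) (Lpr_gt (f270893 IH) (Lpe (K22.f270892 IH) (Lpe (K16.f270884 IH) (Lpr_gt (K14.f246722 IH) (Lpr_df (K20.f246735 IH) (Lpr_et (K14.f167200 IH) (Lpe (K20.f322624 IH) (Lpr_dt (K20.f237964 IH) (Lpn (LP (LK LD1_c25 LD2_c15 LD3_c32)))))))))))))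
theorem f345517 : Led Lsl_cf (LP (LK LD1_c28 LD2_c30 LD3_c49)) = (LP (LK LD1_c25 LD2_c41 LD3_c45)) :=
  Lgr Lrot188 (Lpr_gt (f345516 IH) (Lpr_ct (f345508 IH) (Lpr_dt (f345504 IH) (Lpe (f295970 IH) (Lpr_gf (f344470 IH) (Lpe (f344392 IH) (Lpe (K21.f326391 IH) (Lpr_dt (K20.f237964 IH) (Lpe (f336312 IH) (Lpn (LP (LK LD1_c25 LD2_c41 LD3_c45))))))))))))
theorem f339509 : Led Lsl_gt (LP (LK LD1_c9 LD2_c41 LD3_c52)) = (LP (LK LD1_c5 LD2_c39 LD3_c15)) :=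
  Lgr Lrot5 (Lpr_ft (K22.f171937 IH) (Lpr_at (K22.f339501 IH) (Lpe (K19.f259262 IH) (Lpn (LP (LK LD1_c5 LD2_c39 LD3_c15))))))
theorem f215551 : Led Lsl_dt (LP (LK LD1_c8 LD2_c22 LD3_c20)) = (LP (LK LD1_c15 LD2_c45 LD3_c23)) :=
  Lre_d IH (LK LD1_c8 LD2_c22 LD3_c20) (LK LD1_c15 LD2_c45 LD3_c23) Lrfl Lrfl
theorem f215554 : Led Lsl_gt (LP (LK LD1_c15 LD2_c45 LD3_c23)) = (LP (LK LD1_c25 LD2_c42 LD3_c5)) :=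
  Lre_g IH (LK LD1_c15 LD2_c45 LD3_c23) (LK LD1_c25 LD2_c42 LD3_c5) Lrfl Lrfl
theorem f345523 : Led Lsl_df (LP (LK LD1_c28 LD2_c30 LD3_c49)) = (LP (LK LD1_c25 LD2_c42 LD3_c5)) :=
  Lgr Lrot84 (Lpr_cf (f345517 IH) (Lpe (K22.f215486 IH) (Lpe (K19.f307816 IH) (Lpe (K19.f216435 IH) (Lpe (f339509 IH) (Lpr_cf (K23.f344254 IH) (Lpr_gt (K23.f167693 IH) (Lpr_dt (f215551 IH) (Lpr_gt (f215554 IH) (Lpn (LP (LK LD1_c25 LD2_c42 LD3_c5))))))))))))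
theorem f345533 : Led Lsl_dt (LP (LK LD1_c28 LD2_c30 LD3_c49)) = (LP (LK LD1_c25 LD2_c42 LD3_c5)) :=
  Lgr Lrot42 (Lpr_df (f345523 IH) (Lpn (LP (LK LD1_c25 LD2_c42 LD3_c5))))
theorem f221769 : Led Lsl_et (LP (LK LD1_c8 LD2_c18 LD3_c5)) = (LP (LK LD1_c15 LD2_c36 LD3_c42)) :=
  Lre_e IH (LK LD1_c8 LD2_c18 LD3_c5) (LK LD1_c15 LD2_c36 LD3_c42) Lrfl Lrfl
theorem f221673 : Led Lsl_et (LP (LK LD1_c1 LD2_c16 LD3_c24)) = (LP (LK LD1_c2 LD2_c39 LD3_c15)) :=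
  Lre_e IH (LK LD1_c1 LD2_c16 LD3_c24) (LK LD1_c2 LD2_c39 LD3_c15) Lrfl Lrfl
theorem f215438 : Led Lsl_et (LP (LK LD1_c10 LD2_c42 LD3_c37)) = (LP (LK LD1_c5 LD2_c25 LD3_c40)) :=
  Lre_e IH (LK LD1_c10 LD2_c42 LD3_c37) (LK LD1_c5 LD2_c25 LD3_c40) Lrfl Lrfl
theorem f215439 : Led Lsl_dt (LP (LK LD1_c10 LD2_c42 LD3_c37)) = (LP (LK LD1_c19 LD2_c23 LD3_c24)) :=
  Lre_d IH (LK LD1_c10 LD2_c42 LD3_c37) (LK LD1_c19 LD2_c23 LD3_c24) Lrfl Lrfl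
theorem f215524 : Led Lsl_dt (LP (LK LD1_c10 LD2_c31 LD3_c24)) = (LP (LK LD1_c19 LD2_c4 LD3_c22)) :=
  Lre_d IH (LK LD1_c10 LD2_c31 LD3_c24) (LK LD1_c19 LD2_c4 LD3_c22) Lrfl Lrfl
theorem f307820 : Led Lsl_gf (LP (LK LD1_c19 LD2_c23 LD3_c24)) = (LP (LK LD1_c19 LD2_c4 LD3_c22)) :=
  Lgr Lrot134 (Lpe (f215439 IH) (Lpr_et (f215438 IH) (Lpr_gt (K19.f221770 IH) (Lpe (f221673 IH) (Lpr_dt (K12.f167957 IH) (Lpr_gt (K12.f167958 IH) (Lpr_df (K12.f221665 IH) (Lpr_et (f221769 IH) (Lpr_gt (K19.f307814 IH) (Lpr_dt (f215524 IH) (Lpn (LP (LK LD1_c19 LD2_c4 LD3_c22)))))))))))))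
theorem f195883 : Led Lsl_et (LP (LK LD1_c5 LD2_c20 LD3_c23)) = (LP (LK LD1_c10 LD2_c30 LD3_c52)) :=
  Lre_e IH (LK LD1_c5 LD2_c20 LD3_c23) (LK LD1_c10 LD2_c30 LD3_c52) Lrfl Lrfl
theorem f215552 : Led Lsl_gt (LP (LK LD1_c19 LD2_c23 LD3_c24)) = (LP (LK LD1_c15 LD2_c45 LD3_c23)) :=
  Lgr Lrot112 (Lpe (f215439 IH) (Lpr_et (f215438 IH) (Lpe (K19.f215437 IH) (Lpe (f195883 IH) (Lpr_dt (K14.f46467 IH) (Lpe (K14.f194949 IH) (Lpr_df (K14.f215426 IH) (Lpe (K14.f215432 IH) (Lpr_ef (K18.f215544 IH) (Lpr_dt (f215551 IH) (Lpn (LP (LK LD1_c15 LD2_c45 LD3_c23)))))))))))))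
theorem f307822 : Led Lsl_ff (LP (LK LD1_c10 LD2_c38 LD3_c22)) = (LP (LK LD1_c19 LD2_c4 LD3_c22)) :=
  Lgr Lrot52 (Lpe (K21.f303001 IH) (Lpe (f215552 IH) (Lpr_gf (f307820 IH) (Lpn (LP (LK LD1_c19 LD2_c4 LD3_c22))))))
theorem f288688 : Led Lsl_dt (LP (LK LD1_c10 LD2_c38 LD3_c19)) = (LP (LK LD1_c5 LD2_c23 LD3_c50)) :=
  Lre_d IH (LK LD1_c10 LD2_c38 LD3_c19) (LK LD1_c5 LD2_c23 LD3_c50) Lrfl Lrfl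
theorem f307795 : Led Lsl_ft (LP (LK LD1_c15 LD2_c45 LD3_c23)) = (LP (LK LD1_c10 LD2_c38 LD3_c19)) :=
  Lgr Lrot54 (Lpe (f215551 IH) (Lpr_ff (K19.f307787 IH) (Lpe (f288688 IH) (Lpn (LP (LK LD1_c10 LD2_c38 LD3_c19))))))
theorem f307827 : Led Lsl_at (LP (LK LD1_c10 LD2_c38 LD3_c19)) = (LP (LK LD1_c19 LD2_c4 LD3_c22)) :=
  Lgr Lrot66 (Lpe (f307795 IH) (Lpr_af (K21.f303001 IH) (Lpr_ff (f307822 IH) (Lpn (LP (LK LD1_c19 LD2_c4 LD3_c22))))))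
theorem f307842 : Led Lsl_gt (LP (LK LD1_c25 LD2_c42 LD3_c5)) = (LP (LK LD1_c19 LD2_c4 LD3_c22)) :=
  Lgr Lrot46 (Lpe (f215554 IH) (Lpr_ft (f307795 IH) (Lpr_at (f307827 IH) (Lpn (LP (LK LD1_c19 LD2_c4 LD3_c22))))))
theorem f215495 : Led Lsl_dt (LP (LK LD1_c19 LD2_c4 LD3_c22)) = (LP (LK LD1_c10 LD2_c31 LD3_c24)) :=
  Lre_d IH (LK LD1_c19 LD2_c4 LD3_c22) (LK LD1_c10 LD2_c31 LD3_c24) Lrfl Lrfl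
theorem f345535 : Led Lsl_gf (LP (LK LD1_c28 LD2_c30 LD3_c49)) = (LP (LK LD1_c19 LD2_c8 LD3_c23)) :=
  Lgr Lrot144 (Lpr_dt (f345533 IH) (Lpr_gt (f307842 IH) (Lpr_dt (f215495 IH) (Lpe (K23.f169189 IH) (Lpr_df (K19.f215498 IH) (Lpe (K21.f215515 IH) (Lpe (K21.f215471 IH) (Lpr_gf (K21.f325642 IH) (Lpe (K16.f256511 IH) (Lpn (LP (LK LD1_c19 LD2_c8 LD3_c23))))))))))))
theorem f256519 : Led Lsl_ct (LP (LK LD1_c10 LD2_c34 LD3_c1)) = (LP (LK LD1_c19 LD2_c8 LD3_c23)) :=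
  Lre_c IH (LK LD1_c10 LD2_c34 LD3_c1) (LK LD1_c19 LD2_c8 LD3_c23) Lrfl Lrfl
theorem f215472 : Led Lsl_bt (LP (LK LD1_c10 LD2_c42 LD3_c51)) = (LP (LK LD1_c5 LD2_c25 LD3_c49)) :=
  Lre_b IH (LK LD1_c10 LD2_c42 LD3_c51) (LK LD1_c5 LD2_c25 LD3_c49) Lrfl Lrfl
theorem f351410 : Led Lsl_gt (LP (LK LD1_c17 LD2_c53 LD3_c13)) = (LP (LK LD1_c19 LD2_c23 LD3_c34)) :=
  Lgr Lrot65 (Lpe (f311631 IH) (Lpr_bt (K22.f311630 IH) (Lpr_gf (f351404 IH) (Lpe (f351400 IH) (Lpe (f345517 IH) (Lpr_gf (f345535 IH) (Lpe (f256519 IH) (Lpe (K21.f322511 IH) (Lpe (f215472 IH) (Lpr_ct (K20.f321018 IH) (Lpn (LP (LK LD1_c19 LD2_c23 LD3_c34)))))))))))))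
theorem f347196 : Led Lsl_et (LP (LK LD1_c9 LD2_c43 LD3_c54)) = (LP (LK LD1_c17 LD2_c53 LD3_c13)) :=
  Lre_e IH (LK LD1_c9 LD2_c43 LD3_c54) (LK LD1_c17 LD2_c53 LD3_c13) Lrfl Lrfl
theorem f347184 : Led Lsl_dt (LP (LK LD1_c9 LD2_c43 LD3_c54)) = (LP (LK LD1_c17 LD2_c53 LD3_c12)) :=
  Lre_d IH (LK LD1_c9 LD2_c43 LD3_c54) (LK LD1_c17 LD2_c53 LD3_c12) Lrfl Lrfl
theorem f239884 : Led Lsl_dt (LP (LK LD1_c9 LD2_c37 LD3_c51)) = (LP (LK LD1_c17 LD2_c43 LD3_c29)) :=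
  Lre_d IH (LK LD1_c9 LD2_c37 LD3_c51) (LK LD1_c17 LD2_c43 LD3_c29) Lrfl Lrfl
theorem f247089 : Led Lsl_dt (LP (LK LD1_c16 LD2_c50 LD3_c51)) = (LP (LK LD1_c9 LD2_c0 LD3_c60)) :=
  Lre_d IH (LK LD1_c16 LD2_c50 LD3_c51) (LK LD1_c9 LD2_c0 LD3_c60) Lrfl Lrfl
theorem f279804 : Led Lsl_at (LP (LK LD1_c17 LD2_c43 LD3_c29)) = (LP (LK LD1_c16 LD2_c50 LD3_c51)) :=
  Lgr Lrot51 (Lpe (f239884 IH) (Lpr_af (K20.f279756 IH) (Lpe (f247089 IH) (Lpn (LP (LK LD1_c16 LD2_c50 LD3_c51))))))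
theorem f239880 : Led Lsl_dt (LP (LK LD1_c17 LD2_c43 LD3_c29)) = (LP (LK LD1_c9 LD2_c37 LD3_c51)) :=
  Lre_d IH (LK LD1_c17 LD2_c43 LD3_c29) (LK LD1_c9 LD2_c37 LD3_c51) Lrfl Lrfl
theorem f239881 : Led Lsl_ft (LP (LK LD1_c16 LD2_c50 LD3_c48)) = (LP (LK LD1_c17 LD2_c43 LD3_c29)) :=
  Lgr Lrot54 (Lpe (K20.f239877 IH) (Lpr_ff (K18.f239868 IH) (Lpe (f239880 IH) (Lpn (LP (LK LD1_c17 LD2_c43 LD3_c29))))))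
theorem f279880 : Led Lsl_gt (LP (LK LD1_c26 LD2_c48 LD3_c17)) = (LP (LK LD1_c16 LD2_c50 LD3_c51)) :=
  Lgr Lrot46 (Lpe (K20.f239887 IH) (Lpr_ft (f239881 IH) (Lpr_at (f279804 IH) (Lpn (LP (LK LD1_c16 LD2_c50 LD3_c51))))))
theorem f247082 : Led Lsl_dt (LP (LK LD1_c9 LD2_c0 LD3_c60)) = (LP (LK LD1_c16 LD2_c50 LD3_c51)) :=
  Lre_d IH (LK LD1_c9 LD2_c0 LD3_c60) (LK LD1_c16 LD2_c50 LD3_c51) Lrfl Lrfl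
theorem f265293 : Led Lsl_af (LP (LK LD1_c5 LD2_c12 LD3_c43)) = (LP (LK LD1_c5 LD2_c4 LD3_c59)) :=
  Lgr Lrot68 (Lpr_ct (K15.f241920 IH) (Lpr_at (K13.f239456 IH) (Lpr_ct (K15.f265291 IH) (Lpn (LP (LK LD1_c5 LD2_c4 LD3_c59))))))
theorem f279886 : Led Lsl_ef (LP (LK LD1_c5 LD2_c4 LD3_c59)) = (LP (LK LD1_c9 LD2_c0 LD3_c60)) :=
  Lgr Lrot20 (Lpe (f265293 IH) (Lpr_et (K17.f241945 IH) (Lpr_at (K20.f279800 IH) (Lpn (LP (LK LD1_c9 LD2_c0 LD3_c60))))))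
theorem f351418 : Led Lsl_gf (LP (LK LD1_c17 LD2_c53 LD3_c12)) = (LP (LK LD1_c10 LD2_c1 LD3_c10)) :=
  Lgr Lrot145 (Lpe (f347184 IH) (Lpr_et (f347196 IH) (Lpr_gt (f351410 IH) (Lpe (K20.f321016 IH) (Lpr_gt (f279880 IH) (Lpe (f247082 IH) (Lpe (f279886 IH) (Lpr_gt (K15.f201315 IH) (Lpe (K23.f266638 IH) (Lpr_dt (K23.f266639 IH) (Lpn (LP (LK LD1_c10 LD2_c1 LD3_c10)))))))))))))
theorem f314520 : Led Lsl_dt (LP (LK LD1_c17 LD2_c53 LD3_c12)) = (LP (LK LD1_c9 LD2_c43 LD3_c54)) :=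
  Lre_d IH (LK LD1_c17 LD2_c53 LD3_c12) (LK LD1_c9 LD2_c43 LD3_c54) Lrfl Lrfl
theorem f314519 : Led Lsl_ct (LP (LK LD1_c9 LD2_c43 LD3_c54)) = (LP (LK LD1_c4 LD2_c56 LD3_c5)) :=
  Lre_c IH (LK LD1_c9 LD2_c43 LD3_c54) (LK LD1_c4 LD2_c56 LD3_c5) Lrfl Lrfl
theorem f190238 : Led Lsl_gt (LP (LK LD1_c8 LD2_c14 LD3_c9)) = (LP (LK LD1_c4 LD2_c6 LD3_c45)) :=
  Lre_g IH (LK LD1_c8 LD2_c14 LD3_c9) (LK LD1_c4 LD2_c6 LD3_c45) Lrfl Lrfl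
theorem f211320 : Led Lsl_gt (LP (LK LD1_c10 LD2_c1 LD3_c9)) = (LP (LK LD1_c5 LD2_c5 LD3_c0)) :=
  Lre_g IH (LK LD1_c10 LD2_c1 LD3_c9) (LK LD1_c5 LD2_c5 LD3_c0) Lrfl Lrfl
theorem f351425 : Led Lsl_ct (LP (LK LD1_c8 LD2_c14 LD3_c9)) = (LP (LK LD1_c10 LD2_c1 LD3_c9)) :=
  Lgr Lrot8 (Lpr_gt (f190238 IH) (Lpe (K23.f339701 IH) (Lpr_gt (K19.f221030 IH) (Lpr_dt (K19.f314521 IH) (Lpe (f314519 IH) (Lpe (f314520 IH) (Lpr_gf (f351418 IH) (Lpe (K23.f266639 IH) (Lpe (f211320 IH) (Lpn (LP (LK LD1_c10 LD2_c1 LD3_c9))))))))))))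
theorem f194455 : Led Lsl_ct (LP (LK LD1_c5 LD2_c5 LD3_c0)) = (LP (LK LD1_c2 LD2_c29 LD3_c49)) :=
  Lre_c IH (LK LD1_c5 LD2_c5 LD3_c0) (LK LD1_c2 LD2_c29 LD3_c49) Lrfl Lrfl
theorem f211316 : Led Lsl_ct (LP (LK LD1_c4 LD2_c4 LD3_c3)) = (LP (LK LD1_c1 LD2_c58 LD3_c61)) :=
  Lre_c IH (LK LD1_c4 LD2_c4 LD3_c3) (LK LD1_c1 LD2_c58 LD3_c61) Lrfl Lrfl
theorem f347164 : Led Lsl_cf (LP (LK LD1_c8 LD2_c8 LD3_c45)) = (LP (LK LD1_c4 LD2_c14 LD3_c44)) :=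
  Lgr Lrot39 (Lpr_et (K23.f347147 IH) (Lpe (K21.f299165 IH) (Lpe (K23.f347124 IH) (Lpn (LP (LK LD1_c4 LD2_c14 LD3_c44))))))
theorem f314655 : Led Lsl_ft (LP (LK LD1_c4 LD2_c6 LD3_c55)) = (LP (LK LD1_c8 LD2_c14 LD3_c24)) :=
  Lre_f IH (LK LD1_c4 LD2_c6 LD3_c55) (LK LD1_c8 LD2_c14 LD3_c24) Lrfl Lrfl
theorem f326475 : Led Lsl_dt (LP (LK LD1_c8 LD2_c14 LD3_c24)) = (LP (LK LD1_c4 LD2_c19 LD3_c45)) :=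
  Lgr Lrot60 (Lpe (f314655 IH) (Lpr_df (K19.f314649 IH) (Lpr_ff (K21.f326431 IH) (Lpn (LP (LK LD1_c4 LD2_c19 LD3_c45))))))
theorem f320606 : Led Lsl_gt (LP (LK LD1_c6 LD2_c7 LD3_c15)) = (LP (LK LD1_c5 LD2_c35 LD3_c36)) :=
  Lgr Lrot5 (Lpr_ft (K20.f320603 IH) (Lpr_at (K20.f317048 IH) (Lpe (K19.f246953 IH) (Lpn (LP (LK LD1_c5 LD2_c35 LD3_c36))))))
theorem f345203 : Led Lsl_gf (LP (LK LD1_c4 LD2_c14 LD3_c44)) = (LP (LK LD1_c8 LD2_c10 LD3_c25)) :=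
  Lgr Lrot145 (Lpe (K23.f345187 IH) (Lpr_et (K23.f345195 IH) (Lpe (K22.f334349 IH) (Lpr_dt (f326475 IH) (Lpr_gt (K21.f305011 IH) (Lpr_df (K22.f317228 IH) (Lpe (K21.f317239 IH) (Lpr_gt (f320606 IH) (Lpr_ef (K19.f314435 IH) (Lpr_dt (K19.f189900 IH) (Lpn (LP (LK LD1_c8 LD2_c10 LD3_c25)))))))))))))
theorem f351435 : Led Lsl_gf (LP (LK LD1_c8 LD2_c14 LD3_c9)) = (LP (LK LD1_c8 LD2_c37 LD3_c47)) :=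
  Lgr Lrot147 (Lpr_ct (f351425 IH) (Lpr_gt (f211320 IH) (Lpr_ct (f194455 IH) (Lpr_df (K18.f211288 IH) (Lpe (f211316 IH) (Lpe (K23.f200890 IH) (Lpr_cf (f347164 IH) (Lpr_gf (f345203 IH) (Lpe (K19.f189900 IH) (Lpn (LP (LK LD1_c8 LD2_c37 LD3_c47))))))))))))
theorem f238452 : Led Lsl_dt (LP (LK LD1_c15 LD2_c54 LD3_c9)) = (LP (LK LD1_c8 LD2_c28 LD3_c11)) :=
  Lre_d IH (LK LD1_c15 LD2_c54 LD3_c9) (LK LD1_c8 LD2_c28 LD3_c11) Lrfl Lrfl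
theorem f339677 : Led Lsl_ct (LP (LK LD1_c8 LD2_c28 LD3_c11)) = (LP (LK LD1_c8 LD2_c3 LD3_c1)) :=
  Lgr Lrot15 (Lpr_ef (K22.f339672 IH) (Lpe (K22.f337103 IH) (Lpe (K22.f339656 IH) (Lpn (LP (LK LD1_c8 LD2_c3 LD3_c1))))))
theorem f347031 : Led Lsl_ct (LP (LK LD1_c8 LD2_c6 LD3_c37)) = (LP (LK LD1_c11 LD2_c56 LD3_c57)) :=
  Lgr Lrot8 (Lpr_gt (K23.f346985 IH) (Lpr_dt (K21.f329798 IH) (Lpr_gt (K19.f312153 IH) (Lpe (K19.f312154 IH) (Lpe (f339677 IH) (Lpe (f238452 IH) (Lpr_gf (f339689 IH) (Lpe (K19.f314548 IH) (Lpr_gf (f347029 IH) (Lpn (LP (LK LD1_c11 LD2_c56 LD3_c57))))))))))))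
theorem f211362 : Led Lsl_bt (LP (LK LD1_c2 LD2_c29 LD3_c49)) = (LP (LK LD1_c5 LD2_c4 LD3_c52)) :=
  Lre_b IH (LK LD1_c2 LD2_c29 LD3_c49) (LK LD1_c5 LD2_c4 LD3_c52) Lrfl Lrfl
theorem f194614 : Led Lsl_gt (LP (LK LD1_c5 LD2_c4 LD3_c52)) = (LP (LK LD1_c10 LD2_c0 LD3_c46)) :=
  Lre_g IH (LK LD1_c5 LD2_c4 LD3_c52) (LK LD1_c10 LD2_c0 LD3_c46) Lrfl Lrfl
theorem f351437 : Led Lsl_bt (LP (LK LD1_c8 LD2_c6 LD3_c37)) = (LP (LK LD1_c10 LD2_c0 LD3_c46)) :=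
  Lgr Lrot92 (Lpr_ct (f347031 IH) (Lpe (f347029 IH) (Lpe (K19.f189941 IH) (Lpr_bt (K19.f189935 IH) (Lpe (f351435 IH) (Lpr_ct (f351425 IH) (Lpr_gt (f211320 IH) (Lpe (K23.f194457 IH) (Lpr_bt (f211362 IH) (Lpr_gt (f194614 IH) (Lpn (LP (LK LD1_c10 LD2_c0 LD3_c46)))))))))))))
theorem f211322 : Led Lsl_bt (LP (LK LD1_c10 LD2_c1 LD3_c13)) = (LP (LK LD1_c5 LD2_c5 LD3_c2)) :=
  Lre_b IH (LK LD1_c10 LD2_c1 LD3_c13) (LK LD1_c5 LD2_c5 LD3_c2) Lrfl Lrfl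
theorem f351439 : Led Lsl_df (LP (LK LD1_c10 LD2_c1 LD3_c13)) = (LP (LK LD1_c10 LD2_c0 LD3_c46)) :=
  Lgr Lrot12 (Lpr_bt (f211322 IH) (Lpe (K23.f259172 IH) (Lpr_bt (f351437 IH) (Lpn (LP (LK LD1_c10 LD2_c0 LD3_c46))))))
theorem f42230 : Led Lsl_ft (LP (LK LD1_c10 LD2_c31 LD3_c43)) = (LP (LK LD1_c5 LD2_c20 LD3_c49)) :=
  Lre_f IH (LK LD1_c10 LD2_c31 LD3_c43) (LK LD1_c5 LD2_c20 LD3_c49) Lrfl Lrfl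
theorem f42232 : Led Lsl_dt (LP (LK LD1_c5 LD2_c20 LD3_c49)) = (LP (LK LD1_c6 LD2_c4 LD3_c35)) :=
  Lgr Lrot60 (Lpe (f42230 IH) (Lpr_df (K23.f42226 IH) (Lpe (K23.f42231 IH) (Lpn (LP (LK LD1_c6 LD2_c4 LD3_c35))))))
theorem f351446 : Led Lsl_gt (LP (LK LD1_c10 LD2_c1 LD3_c13)) = (LP (LK LD1_c6 LD2_c4 LD3_c35)) :=
  Lgr Lrot139 (Lpr_df (f351439 IH) (Lpe (f194614 IH) (Lpe (K11.f194613 IH) (Lpr_dt (K15.f192362 IH) (Lpr_gf (K11.f189556 IH) (Lpe (K9.f49216 IH) (Lpr_et (K9.f49231 IH) (Lpe (K12.f194609 IH) (Lpe (K18.f42247 IH) (Lpr_dt (f42232 IH) (Lpn (LP (LK LD1_c6 LD2_c4 LD3_c35)))))))))))))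
theorem f351450 : Led Lsl_et (LP (LK LD1_c18 LD2_c18 LD3_c44)) = (LP (LK LD1_c10 LD2_c1 LD3_c13)) :=
  Lre_e IH (LK LD1_c18 LD2_c18 LD3_c44) (LK LD1_c10 LD2_c1 LD3_c13) Lrfl Lrfl
theorem f351443 : Led Lsl_et (LP (LK LD1_c10 LD2_c1 LD3_c13)) = (LP (LK LD1_c18 LD2_c18 LD3_c44)) :=
  Lre_e IH (LK LD1_c10 LD2_c1 LD3_c13) (LK LD1_c18 LD2_c18 LD3_c44) Lrfl Lrfl
theorem f231336 : Led Lsl_et (LP (LK LD1_c5 LD2_c22 LD3_c38)) = (LP (LK LD1_c10 LD2_c0 LD3_c46)) :=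
  Lgr Lrot122 (Lpr_dt (f231325 IH) (Lpr_gt (f231324 IH) (Lpe (K13.f231297 IH) (Lpr_et (K14.f49238 IH) (Lpr_gt (K12.f47813 IH) (Lpr_dt (K9.f49216 IH) (Lpe (K11.f189556 IH) (Lpe (K15.f192362 IH) (Lpr_et (K11.f194613 IH) (Lpr_gt (f194614 IH) (Lpn (LP (LK LD1_c10 LD2_c0 LD3_c46)))))))))))))
theorem f231340 : Led Lsl_et (LP (LK LD1_c16 LD2_c37 LD3_c12)) = (LP (LK LD1_c8 LD2_c53 LD3_c19)) :=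
  Lre_e IH (LK LD1_c16 LD2_c37 LD3_c12) (LK LD1_c8 LD2_c53 LD3_c19) Lrfl Lrfl
theorem f351444 : Led Lsl_dt (LP (LK LD1_c18 LD2_c18 LD3_c44)) = (LP (LK LD1_c16 LD2_c37 LD3_c12)) :=
  Lgr Lrot77 (Lpe (f351443 IH) (Lpr_df (f351439 IH) (Lpe (f231336 IH) (Lpr_df (f231332 IH) (Lpe (f231340 IH) (Lpn (LP (LK LD1_c16 LD2_c37 LD3_c12))))))))
theorem f351453 : Led Lsl_gf (LP (LK LD1_c16 LD2_c37 LD3_c12)) = (LP (LK LD1_c15 LD2_c22 LD3_c4)) :=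
  Lgr Lrot134 (Lpe (f351444 IH) (Lpr_et (f351450 IH) (Lpr_gt (f351446 IH) (Lpe (K23.f42253 IH) (Lpr_dt (K15.f42241 IH) (Lpe (K10.f194182 IH) (Lpe (K10.f45608 IH) (Lpr_et (K10.f45609 IH) (Lpr_gt (K22.f329877 IH) (Lpr_dt (K22.f211461 IH) (Lpn (LP (LK LD1_c15 LD2_c22 LD3_c4)))))))))))))
theorem f28080 : Led Lsl_ct (LP (LK LD1_c8 LD2_c9 LD3_c33)) = (LP (LK LD1_c15 LD2_c22 LD3_c9)) :=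
  Lre_c IH (LK LD1_c8 LD2_c9 LD3_c33) (LK LD1_c15 LD2_c22 LD3_c9) Lrfl Lrfl
theorem f322749 : Led Lsl_bt (LP (LK LD1_c11 LD2_c2 LD3_c43)) = (LP (LK LD1_c8 LD2_c28 LD3_c36)) :=
  Lgr Lrot95 (Lpe (K23.f212890 IH) (Lpr_bf (K20.f322743 IH) (Lpe (K19.f27477 IH) (Lpn (LP (LK LD1_c8 LD2_c28 LD3_c36))))))
theorem f212910 : Led Lsl_ct (LP (LK LD1_c11 LD2_c2 LD3_c43)) = (LP (LK LD1_c19 LD2_c54 LD3_c9)) :=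
  Lre_c IH (LK LD1_c11 LD2_c2 LD3_c43) (LK LD1_c19 LD2_c54 LD3_c9) Lrfl Lrfl
theorem f346998 : Led Lsl_et (LP (LK LD1_c11 LD2_c2 LD3_c50)) = (LP (LK LD1_c19 LD2_c54 LD3_c20)) :=
  Lre_e IH (LK LD1_c11 LD2_c2 LD3_c50) (LK LD1_c19 LD2_c54 LD3_c20) Lrfl Lrfl
theorem f346999 : Led Lsl_cf (LP (LK LD1_c15 LD2_c18 LD3_c16)) = (LP (LK LD1_c19 LD2_c54 LD3_c20)) :=
  Lgr Lrot39 (Lpr_et (K21.f201027 IH) (Lpr_ct (K23.f346994 IH) (Lpr_et (f346998 IH) (Lpn (LP (LK LD1_c19 LD2_c54 LD3_c20))))))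
theorem f31198 : Led Lsl_gf (LP (LK LD1_c16 LD2_c12 LD3_c50)) = (LP (LK LD1_c15 LD2_c18 LD3_c16)) :=
  Lgr Lrot138 (Lpr_dt (K19.f31151 IH) (Lpr_gt (K19.f31150 IH) (Lpr_df (K17.f31141 IH) (Lpr_et (K17.f31138 IH) (Lpr_gt (K11.f31189 IH) (Lpe (K15.f28978 IH) (Lpr_dt (K23.f28979 IH) (Lpr_gt (K21.f31195 IH) (Lpe (K21.f31196 IH) (Lpr_et (K21.f31197 IH) (Lpn (LP (LK LD1_c15 LD2_c18 LD3_c16)))))))))))))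
theorem f31149 : Led Lsl_gt (LP (LK LD1_c26 LD2_c9 LD3_c44)) = (LP (LK LD1_c16 LD2_c12 LD3_c49)) :=
  Lre_g IH (LK LD1_c26 LD2_c9 LD3_c44) (LK LD1_c16 LD2_c12 LD3_c49) Lrfl Lrfl
theorem f671 : Led Lsl_ct (LP (LK LD1_c4 LD2_c9 LD3_c34)) = (LP (LK LD1_c2 LD2_c2 LD3_c5)) :=
  Lre_c IH (LK LD1_c4 LD2_c9 LD3_c34) (LK LD1_c2 LD2_c2 LD3_c5) Lrfl Lrfl
theorem f333014 : Led Lsl_gt (LP (LK LD1_c8 LD2_c19 LD3_c11)) = (LP (LK LD1_c4 LD2_c9 LD3_c34)) :=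
  Lre_g IH (LK LD1_c8 LD2_c19 LD3_c11) (LK LD1_c4 LD2_c9 LD3_c34) Lrfl Lrfl
theorem f341752 : Led Lsl_ct (LP (LK LD1_c9 LD2_c39 LD3_c2)) = (LP (LK LD1_c8 LD2_c19 LD3_c11)) :=
  Lgr Lrot152 (Lpr_gf (K23.f333551 IH) (Lpr_df (K12.f33237 IH) (Lpr_gt (f341748 IH) (Lpr_ct (f333000 IH) (Lpr_gt (f232044 IH) (Lpr_ct (K14.f232032 IH) (Lpe (K13.f653 IH) (Lpe (f671 IH) (Lpe (f333014 IH) (Lpn (LP (LK LD1_c8 LD2_c19 LD3_c11))))))))))))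
theorem f287669 : Led Lsl_bt (LP (LK LD1_c2 LD2_c2 LD3_c5)) = (LP (LK LD1_c4 LD2_c9 LD3_c31)) :=
  Lre_b IH (LK LD1_c2 LD2_c2 LD3_c5) (LK LD1_c4 LD2_c9 LD3_c31) Lrfl Lrfl
theorem f232091 : Led Lsl_gt (LP (LK LD1_c4 LD2_c9 LD3_c31)) = (LP (LK LD1_c8 LD2_c19 LD3_c0)) :=
  Lre_g IH (LK LD1_c4 LD2_c9 LD3_c31) (LK LD1_c8 LD2_c19 LD3_c0) Lrfl Lrfl
theorem f341758 : Led Lsl_bt (LP (LK LD1_c4 LD2_c21 LD3_c59)) = (LP (LK LD1_c8 LD2_c19 LD3_c0)) :=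
  Lgr Lrot92 (Lpr_ct (K23.f216788 IH) (Lpe (K23.f341737 IH) (Lpe (K23.f236635 IH) (Lpr_bt (K15.f33227 IH) (Lpe (K23.f333551 IH) (Lpr_ct (f341752 IH) (Lpr_gt (f333014 IH) (Lpe (K13.f664 IH) (Lpr_bt (f287669 IH) (Lpr_gt (f232091 IH) (Lpn (LP (LK LD1_c8 LD2_c19 LD3_c0)))))))))))))
theorem f287660 : Led Lsl_df (LP (LK LD1_c10 LD2_c25 LD3_c28)) = (LP (LK LD1_c8 LD2_c19 LD3_c0)) :=
  Lgr Lrot135 (Lpr_gt (K18.f287658 IH) (Lpr_df (K13.f229665 IH) (Lpe (K15.f262643 IH) (Lpr_gt (K14.f246351 IH) (Lpr_ef (K16.f276707 IH) (Lpe (K16.f267467 IH) (Lpr_gt (K14.f253280 IH) (Lpe (K14.f250486 IH) (Lpr_et (K14.f232087 IH) (Lpr_gt (f232091 IH) (Lpn (LP (LK LD1_c8 LD2_c19 LD3_c0)))))))))))))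
theorem f341762 : Led Lsl_bf (LP (LK LD1_c8 LD2_c41 LD3_c41)) = (LP (LK LD1_c10 LD2_c25 LD3_c28)) :=
  Lgr Lrot93 (Lpr_dt (K21.f216805 IH) (Lpr_bt (f341758 IH) (Lpe (f287660 IH) (Lpn (LP (LK LD1_c10 LD2_c25 LD3_c28))))))
theorem f341768 : Led Lsl_bt (LP (LK LD1_c8 LD2_c41 LD3_c41)) = (LP (LK LD1_c10 LD2_c25 LD3_c28)) :=
  Lgr Lrot127 (Lpr_bf (f341762 IH) (Lpn (LP (LK LD1_c10 LD2_c25 LD3_c28))))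
theorem f271288 : Led Lsl_et (LP (LK LD1_c10 LD2_c25 LD3_c28)) = (LP (LK LD1_c18 LD2_c54 LD3_c38)) :=
  Lre_e IH (LK LD1_c10 LD2_c25 LD3_c28) (LK LD1_c18 LD2_c54 LD3_c38) Lrfl Lrfl
theorem f341947 : Led Lsl_bf (LP (LK LD1_c15 LD2_c19 LD3_c43)) = (LP (LK LD1_c18 LD2_c54 LD3_c38)) :=
  Lgr Lrot96 (Lpr_et (K23.f341945 IH) (Lpr_bt (f341768 IH) (Lpr_et (f271288 IH) (Lpn (LP (LK LD1_c18 LD2_c54 LD3_c38))))))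
theorem f271286 : Led Lsl_df (LP (LK LD1_c18 LD2_c54 LD3_c38)) = (LP (LK LD1_c18 LD2_c39 LD3_c56)) :=
  Lgr Lrot38 (Lpr_dt (K18.f271284 IH) (Lpn (LP (LK LD1_c18 LD2_c39 LD3_c56))))
theorem f341951 : Led Lsl_bt (LP (LK LD1_c16 LD2_c8 LD3_c9)) = (LP (LK LD1_c18 LD2_c39 LD3_c56)) :=
  Lgr Lrot95 (Lpe (K23.f341935 IH) (Lpr_bf (f341947 IH) (Lpr_df (f271286 IH) (Lpn (LP (LK LD1_c18 LD2_c39 LD3_c56))))))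
theorem f291156 : Led Lsl_dt (LP (LK LD1_c15 LD2_c23 LD3_c13)) = (LP (LK LD1_c8 LD2_c10 LD3_c12)) :=
  Lre_d IH (LK LD1_c15 LD2_c23 LD3_c13) (LK LD1_c8 LD2_c10 LD3_c12) Lrfl Lrfl
theorem f325981 : Led Lsl_gt (LP (LK LD1_c25 LD2_c15 LD3_c25)) = (LP (LK LD1_c15 LD2_c23 LD3_c13)) :=
  Lre_g IH (LK LD1_c25 LD2_c15 LD3_c25) (LK LD1_c15 LD2_c23 LD3_c13) Lrfl Lrfl
theorem f332901 : Led Lsl_dt (LP (LK LD1_c25 LD2_c32 LD3_c49)) = (LP (LK LD1_c25 LD2_c15 LD3_c25)) :=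
  Lgr Lrot57 (Lpr_gf (K23.f332899 IH) (Lpe (K18.f179744 IH) (Lpr_gt (K22.f327521 IH) (Lpr_dt (K22.f224914 IH) (Lpe (K23.f327987 IH) (Lpr_dt (K23.f291042 IH) (Lpe (K23.f291157 IH) (Lpe (f291156 IH) (Lpe (f325981 IH) (Lpn (LP (LK LD1_c25 LD2_c15 LD3_c25))))))))))))
theorem f291152 : Led Lsl_dt (LP (LK LD1_c8 LD2_c10 LD3_c12)) = (LP (LK LD1_c15 LD2_c23 LD3_c13)) :=
  Lre_d IH (LK LD1_c8 LD2_c10 LD3_c12) (LK LD1_c15 LD2_c23 LD3_c13) Lrfl Lrfl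
theorem f332905 : Led Lsl_et (LP (LK LD1_c8 LD2_c10 LD3_c12)) = (LP (LK LD1_c15 LD2_c23 LD3_c14)) :=
  Lre_e IH (LK LD1_c8 LD2_c10 LD3_c12) (LK LD1_c15 LD2_c23 LD3_c14) Lrfl Lrfl
theorem f341921 : Led Lsl_gt (LP (LK LD1_c15 LD2_c23 LD3_c14)) = (LP (LK LD1_c19 LD2_c57 LD3_c12)) :=
  Lgr Lrot131 (Lpe (f332905 IH) (Lpr_dt (f291152 IH) (Lpe (f325981 IH) (Lpe (f332901 IH) (Lpr_gf (K23.f332899 IH) (Lpr_ef (K23.f227036 IH) (Lpr_dt (K23.f227035 IH) (Lpr_gf (K23.f328096 IH) (Lpe (K23.f296388 IH) (Lpr_et (K23.f341915 IH) (Lpn (LP (LK LD1_c19 LD2_c57 LD3_c12)))))))))))))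
theorem f291036 : Led Lsl_ct (LP (LK LD1_c8 LD2_c10 LD3_c14)) = (LP (LK LD1_c15 LD2_c23 LD3_c14)) :=
  Lre_c IH (LK LD1_c8 LD2_c10 LD3_c14) (LK LD1_c15 LD2_c23 LD3_c14) Lrfl Lrfl
theorem f291033 : Led Lsl_et (LP (LK LD1_c4 LD2_c4 LD3_c41)) = (LP (LK LD1_c8 LD2_c10 LD3_c14)) :=
  Lre_e IH (LK LD1_c4 LD2_c4 LD3_c41) (LK LD1_c8 LD2_c10 LD3_c14) Lrfl Lrfl
theorem f291034 : Led Lsl_gf (LP (LK LD1_c8 LD2_c10 LD3_c14)) = (LP (LK LD1_c11 LD2_c4 LD3_c34)) :=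
  Lgr Lrot141 (Lpe (f291033 IH) (Lpr_dt (K21.f193336 IH) (Lpe (K21.f291031 IH) (Lpr_df (K19.f291026 IH) (Lpr_et (K19.f27478 IH) (Lpr_gt (K19.f27468 IH) (Lpe (K11.f27433 IH) (Lpr_gt (K19.f27470 IH) (Lpe (K19.f27477 IH) (Lpe (K19.f189278 IH) (Lpn (LP (LK LD1_c11 LD2_c4 LD3_c34)))))))))))))
theorem f322759 : Led Lsl_bt (LP (LK LD1_c18 LD2_c3 LD3_c40)) = (LP (LK LD1_c15 LD2_c11 LD3_c37)) :=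
  Lgr Lrot119 (Lpe (K16.f246929 IH) (Lpr_bf (K20.f322755 IH) (Lpe (K16.f274765 IH) (Lpn (LP (LK LD1_c15 LD2_c11 LD3_c37))))))
theorem f322763 : Led Lsl_bf (LP (LK LD1_c15 LD2_c11 LD3_c22)) = (LP (LK LD1_c11 LD2_c4 LD3_c34)) :=
  Lgr Lrot93 (Lpr_dt (K23.f246927 IH) (Lpr_bt (f322759 IH) (Lpe (K16.f274766 IH) (Lpn (LP (LK LD1_c11 LD2_c4 LD3_c34))))))
theorem f322765 : Led Lsl_bt (LP (LK LD1_c15 LD2_c11 LD3_c22)) = (LP (LK LD1_c11 LD2_c4 LD3_c34)) :=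
  Lgr Lrot127 (Lpr_bf (f322763 IH) (Lpn (LP (LK LD1_c11 LD2_c4 LD3_c34))))

end

end K24

end

end Cfsg.Agent.Helper28.S1692
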