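import Cfsg.Agent.Lib.Helper28.S1692.Seeds24

set_option autoImplicit false
set_option maxRecDepth 100000
set_option linter.all false

namespace Cfsg.Agent.Helper28.S1692

open Cfsg.Agent.Helper28
open Cfsg.Spor.ON (Gen)

noncomputable section

namespace K25
abbrev LD1_c0 := D1.c0
abbrev LD1_c1 := D1.c1
abbrev LD1_c2 := D1.c2
abbrev LD1_c3 := D1.c3
abbrev LD1_c4 := D1.c4
abbrev LD1_c5 := D1.c5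
abbrev LD1_c6 := D1.c6
abbrev LD1_c7 := D1.c7
abbrev LD1_c8 := D1.c8
abbrev LD1_c9 := D1.c9
abbrev LD1_c10 := D1.c10
abbrev LD1_c11 := D1.c11
abbrev LD1_c12 := D1.c12
abbrev LD1_c13 := D1.c13
abbrev LD1_c14 := D1.c14
abbrev LD1_c15 := D1.c15
abbrev LD1_c16 := D1.c16
abbrev LD1_c17 := D1.c17
abbrev LD1_c18 := D1.c18
abbrev LD1_c19 := D1.c19
abbrev LD1_c20 := D1.c20
abbrev LD1_c21 := D1.c21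
abbrev LD1_c22 := D1.c22
abbrev LD1_c23 := D1.c23
abbrev LD1_c24 := D1.c24
abbrev LD1_c25 := D1.c25
abbrev LD1_c26 := D1.c26
abbrev LD1_c27 := D1.c27
abbrev LD1_c28 := D1.c28
abbrev LD1_c29 := D1.c29
abbrev LD1_c30 := D1.c30
abbrev LD1_c31 := D1.c31
abbrev LD1_c32 := D1.c32
abbrev LD2_c0 := D2.c0
abbrev LD2_c1 := D2.c1
abbrev LD2_c2 := D2.c2
abbrev LD2_c3 := D2.c3
abbrev LD2_c4 := D2.c4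
abbrev LD2_c5 := D2.c5
abbrev LD2_c6 := D2.c6
abbrev LD2_c7 := D2.c7
abbrev LD2_c8 := D2.c8
abbrev LD2_c9 := D2.c9
abbrev LD2_c10 := D2.c10
abbrev LD2_c11 := D2.c11
abbrev LD2_c12 := D2.c12
abbrev LD2_c13 := D2.c13
abbrev LD2_c14 := D2.c14
abbrev LD2_c15 := D2.c15
abbrev LD2_c16 := D2.c16
abbrev LD2_c17 := D2.c17
abbrev LD2_c18 := D2.c18
abbrev LD2_c19 := D2.c19
abbrev LD2_c20 := D2.c20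
abbrev LD2_c21 := D2.c21
abbrev LD2_c22 := D2.c22
abbrev LD2_c23 := D2.c23
abbrev LD2_c24 := D2.c24
abbrev LD2_c25 := D2.c25
abbrev LD2_c26 := D2.c26
abbrev LD2_c27 := D2.c27
abbrev LD2_c28 := D2.c28
abbrev LD2_c29 := D2.c29
abbrev LD2_c30 := D2.c30
abbrev LD2_c31 := D2.c31
abbrev LD2_c32 := D2.c32
abbrev LD2_c33 := D2.c33
abbrev LD2_c34 := D2.c34
abbrev LD2_c35 := D2.c35
abbrev LD2_c36 := D2.c36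
abbrev LD2_c37 := D2.c37
abbrev LD2_c38 := D2.c38
abbrev LD2_c39 := D2.c39
abbrev LD2_c40 := D2.c40
abbrev LD2_c41 := D2.c41
abbrev LD2_c42 := D2.c42
abbrev LD2_c43 := D2.c43
abbrev LD2_c44 := D2.c44
abbrev LD2_c45 := D2.c45
abbrev LD2_c46 := D2.c46
abbrev LD2_c47 := D2.c47
abbrev LD2_c48 := D2.c48
abbrev LD2_c49 := D2.c49
abbrev LD2_c50 := D2.c50
abbrev LD2_c51 := D2.c51
abbrev LD2_c52 := D2.c52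
abbrev LD2_c53 := D2.c53
abbrev LD2_c54 := D2.c54
abbrev LD2_c55 := D2.c55
abbrev LD2_c56 := D2.c56
abbrev LD2_c57 := D2.c57
abbrev LD2_c58 := D2.c58
abbrev LD2_c59 := D2.c59
abbrev LD3_c0 := D3.c0
abbrev LD3_c1 := D3.c1
abbrev LD3_c2 := D3.c2
abbrev LD3_c3 := D3.c3
abbrev LD3_c4 := D3.c4
abbrev LD3_c5 := D3.c5
abbrev LD3_c6 := D3.c6
abbrev LD3_c7 := D3.c7
abbrev LD3_c8 := D3.c8
abbrev LD3_c9 := D3.c9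
abbrev LD3_c10 := D3.c10
abbrev LD3_c11 := D3.c11
abbrev LD3_c12 := D3.c12
abbrev LD3_c13 := D3.c13
abbrev LD3_c14 := D3.c14
abbrev LD3_c15 := D3.c15
abbrev LD3_c16 := D3.c16
abbrev LD3_c17 := D3.c17
abbrev LD3_c18 := D3.c18
abbrev LD3_c19 := D3.c19
abbrev LD3_c20 := D3.c20
abbrev LD3_c21 := D3.c21
abbrev LD3_c22 := D3.c22
abbrev LD3_c23 := D3.c23
abbrev LD3_c24 := D3.c24
abbrev LD3_c25 := D3.c25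
abbrev LD3_c26 := D3.c26
abbrev LD3_c27 := D3.c27
abbrev LD3_c28 := D3.c28
abbrev LD3_c29 := D3.c29
abbrev LD3_c30 := D3.c30
abbrev LD3_c31 := D3.c31
abbrev LD3_c32 := D3.c32
abbrev LD3_c33 := D3.c33
abbrev LD3_c34 := D3.c34
abbrev LD3_c35 := D3.c35
abbrev LD3_c36 := D3.c36
abbrev LD3_c37 := D3.c37
abbrev LD3_c38 := D3.c38
abbrev LD3_c39 := D3.c39
abbrev LD3_c40 := D3.c40
abbrev LD3_c41 := D3.c41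
abbrev LD3_c42 := D3.c42
abbrev LD3_c43 := D3.c43
abbrev LD3_c44 := D3.c44
abbrev LD3_c45 := D3.c45
abbrev LD3_c46 := D3.c46
abbrev LD3_c47 := D3.c47
abbrev LD3_c48 := D3.c48
abbrev LD3_c49 := D3.c49
abbrev LD3_c50 := D3.c50
abbrev LD3_c51 := D3.c51
abbrev LD3_c52 := D3.c52
abbrev LD3_c53 := D3.c53
abbrev LD3_c54 := D3.c54
abbrev LD3_c55 := D3.c55
abbrev LD3_c56 := D3.c56
abbrev LD3_c57 := D3.c57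
abbrev LD3_c58 := D3.c58
abbrev LD3_c59 := D3.c59
abbrev LD3_c60 := D3.c60
abbrev LD3_c61 := D3.c61
abbrev LG_g := Gen.g
abbrev Lsl_gt : Gen × Bool := sl_gt
alias Lfl_gt := fl_gt
alias Lpr_gt := pr_gt
abbrev Lsl_gf : Gen × Bool := sl_gf
alias Lfl_gf := fl_gf
alias Lpr_gf := pr_gf
alias Lre_g := re_g
alias Leoe_g := eoe_g
abbrev LG_a := Gen.a
abbrev Lsl_at : Gen × Bool := sl_at
alias Lfl_at := fl_at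
alias Lpr_at := pr_at
abbrev Lsl_af : Gen × Bool := sl_af
alias Lfl_af := fl_af
alias Lpr_af := pr_af
alias Lre_a := re_a
alias Leoe_a := eoe_a
abbrev LG_b := Gen.b
abbrev Lsl_bt : Gen × Bool := sl_bt
alias Lfl_bt := fl_bt
alias Lpr_bt := pr_bt
abbrev Lsl_bf : Gen × Bool := sl_bf
alias Lfl_bf := fl_bf
alias Lpr_bf := pr_bf
alias Lre_b := re_b
alias Leoe_b := eoe_b
abbrev LG_c := Gen.c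
abbrev Lsl_ct : Gen × Bool := sl_ct
alias Lfl_ct := fl_ct
alias Lpr_ct := pr_ct
abbrev Lsl_cf : Gen × Bool := sl_cf
alias Lfl_cf := fl_cf
alias Lpr_cf := pr_cf
alias Lre_c := re_c
alias Leoe_c := eoe_c
abbrev LG_d := Gen.d
abbrev Lsl_dt : Gen × Bool := sl_dt
alias Lfl_dt := fl_dt
alias Lpr_dt := pr_dt
abbrev Lsl_df : Gen × Bool := sl_df
alias Lfl_df := fl_df
alias Lpr_df := pr_df
alias Lre_d := re_d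
alias Leoe_d := eoe_d
abbrev LG_e := Gen.e
abbrev Lsl_et : Gen × Bool := sl_et
alias Lfl_et := fl_et
alias Lpr_et := pr_et
abbrev Lsl_ef : Gen × Bool := sl_ef
alias Lfl_ef := fl_ef
alias Lpr_ef := pr_ef
alias Lre_e := re_e
alias Leoe_e := eoe_e
abbrev LG_f := Gen.f
abbrev Lsl_ft : Gen × Bool := sl_ft
alias Lfl_ft := fl_ft
alias Lpr_ft := pr_ft
abbrev Lsl_ff : Gen × Bool := sl_ff
alias Lfl_ff := fl_ff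
alias Lpr_ff := pr_ff
alias Lre_f := re_f
alias Leoe_f := eoe_f
abbrev LK := Pt.mk
abbrev LQ : Type := Qt rels S
abbrev LP (p : Pt) : LQ := P p
abbrev Led (l : Gen × Bool) (c : LQ) : LQ := ed l c
abbrev LEOK (x : Gen) (p : Pt) : Prop := EntryOK rels S fwd inv o plet idx x p
alias Lpe := pe
alias Lpn := pn
alias Lgr := gr
alias Lpq := pq
alias Lpqs := pqs
alias Llr := lr
alias Leop := eop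
alias Lefun := efun
alias Lecon := econ
theorem Lrfl {α : Sort _} {a : α} : a = a := rfl
alias Lrot0 := rot0
alias Lrot1 := rot1
alias Lrot2 := rot2
alias Lrot3 := rot3
alias Lrot4 := rot4
alias Lrot5 := rot5
alias Lrot6 := rot6
alias Lrot7 := rot7
alias Lrot8 := rot8
alias Lrot9 := rot9
alias Lrot10 := rot10
alias Lrot11 := rot11
alias Lrot12 := rot12
alias Lrot13 := rot13
alias Lrot14 := rot14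
alias Lrot15 := rot15
alias Lrot17 := rot17
alias Lrot18 := rot18
alias Lrot19 := rot19
alias Lrot20 := rot20
alias Lrot21 := rot21
alias Lrot22 := rot22
alias Lrot23 := rot23
alias Lrot24 := rot24
alias Lrot25 := rot25
alias Lrot26 := rot26
alias Lrot27 := rot27
alias Lrot28 := rot28
alias Lrot29 := rot29
alias Lrot30 := rot30
alias Lrot31 := rot31
alias Lrot32 := rot32
alias Lrot33 := rot33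
alias Lrot34 := rot34
alias Lrot36 := rot36
alias Lrot37 := rot37
alias Lrot38 := rot38
alias Lrot39 := rot39
alias Lrot40 := rot40
alias Lrot41 := rot41
alias Lrot42 := rot42
alias Lrot43 := rot43
alias Lrot44 := rot44
alias Lrot45 := rot45
alias Lrot46 := rot46
alias Lrot47 := rot47
alias Lrot48 := rot48
alias Lrot49 := rot49
alias Lrot50 := rot50
alias Lrot51 := rot51
alias Lrot52 := rot52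
alias Lrot54 := rot54
alias Lrot55 := rot55
alias Lrot56 := rot56
alias Lrot57 := rot57
alias Lrot58 := rot58
alias Lrot59 := rot59
alias Lrot60 := rot60
alias Lrot61 := rot61
alias Lrot62 := rot62
alias Lrot63 := rot63
alias Lrot64 := rot64
alias Lrot65 := rot65
alias Lrot66 := rot66
alias Lrot67 := rot67
alias Lrot68 := rot68
alias Lrot69 := rot69
alias Lrot70 := rot70
alias Lrot71 := rot71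
alias Lrot72 := rot72
alias Lrot73 := rot73
alias Lrot74 := rot74
alias Lrot75 := rot75
alias Lrot76 := rot76
alias Lrot77 := rot77
alias Lrot78 := rot78
alias Lrot79 := rot79
alias Lrot80 := rot80
alias Lrot81 := rot81
alias Lrot82 := rot82
alias Lrot83 := rot83
alias Lrot84 := rot84
alias Lrot86 := rot86
alias Lrot87 := rot87
alias Lrot88 := rot88
alias Lrot90 := rot90
alias Lrot91 := rot91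
alias Lrot92 := rot92
alias Lrot93 := rot93
alias Lrot94 := rot94
alias Lrot95 := rot95
alias Lrot96 := rot96
alias Lrot97 := rot97
alias Lrot99 := rot99
alias Lrot100 := rot100
alias Lrot101 := rot101
alias Lrot102 := rot102
alias Lrot104 := rot104
alias Lrot105 := rot105
alias Lrot107 := rot107
alias Lrot108 := rot108
alias Lrot109 := rot109
alias Lrot110 := rot110
alias Lrot111 := rot111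
alias Lrot112 := rot112
alias Lrot113 := rot113
alias Lrot114 := rot114
alias Lrot115 := rot115
alias Lrot117 := rot117
alias Lrot119 := rot119
alias Lrot120 := rot120
alias Lrot121 := rot121
alias Lrot122 := rot122
alias Lrot124 := rot124
alias Lrot125 := rot125
alias Lrot126 := rot126
alias Lrot127 := rot127
alias Lrot129 := rot129
alias Lrot130 := rot130
alias Lrot131 := rot131
alias Lrot132 := rot132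
alias Lrot134 := rot134
alias Lrot135 := rot135
alias Lrot136 := rot136
alias Lrot137 := rot137
alias Lrot138 := rot138
alias Lrot139 := rot139
alias Lrot140 := rot140
alias Lrot141 := rot141
alias Lrot142 := rot142
alias Lrot143 := rot143
alias Lrot144 := rot144
alias Lrot145 := rot145
alias Lrot146 := rot146
alias Lrot147 := rot147
alias Lrot148 := rot148
alias Lrot149 := rot149
alias Lrot150 := rot150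
alias Lrot151 := rot151
alias Lrot152 := rot152
alias Lrot153 := rot153
alias Lrot154 := rot154
alias Lrot155 := rot155
alias Lrot156 := rot156
alias Lrot158 := rot158
alias Lrot159 := rot159
alias Lrot160 := rot160
alias Lrot162 := rot162
alias Lrot163 := rot163
alias Lrot164 := rot164
alias Lrot165 := rot165
alias Lrot166 := rot166
alias Lrot167 := rot167
alias Lrot168 := rot168
alias Lrot169 := rot169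
alias Lrot170 := rot170
alias Lrot171 := rot171
alias Lrot173 := rot173
alias Lrot174 := rot174
alias Lrot175 := rot175
alias Lrot176 := rot176
alias Lrot179 := rot179
alias Lrot180 := rot180
alias Lrot181 := rot181
alias Lrot185 := rot185
alias Lrot187 := rot187
alias Lrot189 := rot189

section
variable (IH : IHT)
include IH

theorem f271268 : Led Lsl_bt (LP (LK LD1_c5 LD2_c12 LD3_c42)) = (LP (LK LD1_c10 LD2_c15 LD3_c43)) :=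
  Lre_b IH (LK LD1_c5 LD2_c12 LD3_c42) (LK LD1_c10 LD2_c15 LD3_c43) Lrfl Lrfl
theorem f275779 : Led Lsl_ct (LP (LK LD1_c5 LD2_c12 LD3_c42)) = (LP (LK LD1_c10 LD2_c15 LD3_c45)) :=
  Lre_c IH (LK LD1_c5 LD2_c12 LD3_c42) (LK LD1_c10 LD2_c15 LD3_c45) Lrfl Lrfl
theorem f231498 : Led Lsl_gt (LP (LK LD1_c10 LD2_c15 LD3_c45)) = (LP (LK LD1_c18 LD2_c39 LD3_c60)) :=
  Lre_g IH (LK LD1_c10 LD2_c15 LD3_c45) (LK LD1_c18 LD2_c39 LD3_c60) Lrfl Lrfl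
theorem f341956 : Led Lsl_ct (LP (LK LD1_c15 LD2_c11 LD3_c22)) = (LP (LK LD1_c18 LD2_c39 LD3_c60)) :=
  Lgr Lrot10 (Lpr_bt (K24.f322765 IH) (Lpe (K24.f291034 IH) (Lpr_ct (K24.f291036 IH) (Lpr_gt (K24.f341921 IH) (Lpe (K23.f341909 IH) (Lpr_bt (K24.f341951 IH) (Lpr_gt (K18.f271270 IH) (Lpe (f271268 IH) (Lpr_ct (f275779 IH) (Lpr_gt (f231498 IH) (Lpn (LP (LK LD1_c18 LD2_c39 LD3_c60)))))))))))))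
theorem f212911 : Led Lsl_ct (LP (LK LD1_c19 LD2_c54 LD3_c9)) = (LP (LK LD1_c11 LD2_c2 LD3_c43)) :=
  Lre_c IH (LK LD1_c19 LD2_c54 LD3_c9) (LK LD1_c11 LD2_c2 LD3_c43) Lrfl Lrfl
theorem f341963 : Led Lsl_ef (LP (LK LD1_c19 LD2_c54 LD3_c9)) = (LP (LK LD1_c18 LD2_c39 LD3_c60)) :=
  Lgr Lrot28 (Lpr_ct (f212911 IH) (Lpe (K14.f225647 IH) (Lpr_ct (f341956 IH) (Lpn (LP (LK LD1_c18 LD2_c39 LD3_c60))))))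
theorem f341966 : Led Lsl_et (LP (LK LD1_c19 LD2_c54 LD3_c9)) = (LP (LK LD1_c18 LD2_c39 LD3_c60)) :=
  Lgr Lrot87 (Lpr_ef (f341963 IH) (Lpn (LP (LK LD1_c18 LD2_c39 LD3_c60))))
theorem f231497 : Led Lsl_et (LP (LK LD1_c5 LD2_c12 LD3_c41)) = (LP (LK LD1_c10 LD2_c15 LD3_c45)) :=
  Lre_e IH (LK LD1_c5 LD2_c12 LD3_c41) (LK LD1_c10 LD2_c15 LD3_c45) Lrfl Lrfl
theorem f31255 : Led Lsl_et (LP (LK LD1_c8 LD2_c39 LD3_c24)) = (LP (LK LD1_c4 LD2_c20 LD3_c51)) :=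
  Lre_e IH (LK LD1_c8 LD2_c39 LD3_c24) (LK LD1_c4 LD2_c20 LD3_c51) Lrfl Lrfl
theorem f341968 : Led Lsl_dt (LP (LK LD1_c19 LD2_c54 LD3_c9)) = (LP (LK LD1_c26 LD2_c9 LD3_c44)) :=
  Lgr Lrot136 (Lpr_et (f341966 IH) (Lpe (f231498 IH) (Lpe (f231497 IH) (Lpe (K13.f231486 IH) (Lpe (K13.f227362 IH) (Lpe (K20.f194200 IH) (Lpe (K10.f194197 IH) (Lpe (f31255 IH) (Lpr_dt (K19.f31144 IH) (Lpe (K24.f31149 IH) (Lpn (LP (LK LD1_c26 LD2_c9 LD3_c44)))))))))))))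
theorem f347004 : Led Lsl_gf (LP (LK LD1_c19 LD2_c54 LD3_c9)) = (LP (LK LD1_c19 LD2_c54 LD3_c20)) :=
  Lgr Lrot144 (Lpr_dt (f341968 IH) (Lpr_gt (K24.f31149 IH) (Lpr_dt (K19.f31147 IH) (Lpe (K11.f31143 IH) (Lpr_df (K17.f31141 IH) (Lpe (K19.f31150 IH) (Lpe (K19.f31151 IH) (Lpr_gf (K24.f31198 IH) (Lpr_cf (K24.f346999 IH) (Lpn (LP (LK LD1_c19 LD2_c54 LD3_c20))))))))))))
theorem f347002 : Led Lsl_ct (LP (LK LD1_c15 LD2_c18 LD3_c16)) = (LP (LK LD1_c19 LD2_c54 LD3_c20)) :=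
  Lgr Lrot59 (Lpr_cf (K24.f346999 IH) (Lpn (LP (LK LD1_c19 LD2_c54 LD3_c20))))
theorem f351455 : Led Lsl_bf (LP (LK LD1_c16 LD2_c37 LD3_c12)) = (LP (LK LD1_c15 LD2_c18 LD3_c16)) :=
  Lgr Lrot34 (Lpr_gf (K24.f351453 IH) (Lpe (K22.f211456 IH) (Lpr_ct (K24.f28080 IH) (Lpe (K21.f299227 IH) (Lpe (K21.f235128 IH) (Lpe (K21.f313121 IH) (Lpe (K24.f322749 IH) (Lpr_ct (K24.f212910 IH) (Lpr_gf (f347004 IH) (Lpe (f347002 IH) (Lpn (LP (LK LD1_c15 LD2_c18 LD3_c16)))))))))))))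
theorem f351461 : Led Lsl_bt (LP (LK LD1_c16 LD2_c37 LD3_c12)) = (LP (LK LD1_c15 LD2_c18 LD3_c16)) :=
  Lgr Lrot127 (Lpr_bf (f351455 IH) (Lpn (LP (LK LD1_c15 LD2_c18 LD3_c16))))
theorem f231334 : Led Lsl_et (LP (LK LD1_c8 LD2_c53 LD3_c19)) = (LP (LK LD1_c16 LD2_c37 LD3_c12)) :=
  Lre_e IH (LK LD1_c8 LD2_c53 LD3_c19) (LK LD1_c16 LD2_c37 LD3_c12) Lrfl Lrfl
theorem f351465 : Led Lsl_bf (LP (LK LD1_c8 LD2_c53 LD3_c19)) = (LP (LK LD1_c8 LD2_c7 LD3_c37)) :=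
  Lgr Lrot96 (Lpr_et (f231334 IH) (Lpr_bt (f351461 IH) (Lpr_et (K21.f201027 IH) (Lpn (LP (LK LD1_c8 LD2_c7 LD3_c37))))))
theorem f256656 : Led Lsl_gf (LP (LK LD1_c9 LD2_c37 LD3_c37)) = (LP (LK LD1_c8 LD2_c7 LD3_c32)) :=
  Lgr Lrot76 (Lpr_af (K15.f256637 IH) (Lpe (K15.f256653 IH) (Lpr_gt (K21.f199052 IH) (Lpn (LP (LK LD1_c8 LD2_c7 LD3_c32))))))
theorem f346312 : Led Lsl_ct (LP (LK LD1_c2 LD2_c43 LD3_c36)) = (LP (LK LD1_c5 LD2_c35 LD3_c20)) :=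
  Lre_c IH (LK LD1_c2 LD2_c43 LD3_c36) (LK LD1_c5 LD2_c35 LD3_c20) Lrfl Lrfl
theorem f314812 : Led Lsl_ft (LP (LK LD1_c2 LD2_c4 LD3_c37)) = (LP (LK LD1_c4 LD2_c14 LD3_c32)) :=
  Lre_f IH (LK LD1_c2 LD2_c4 LD3_c37) (LK LD1_c4 LD2_c14 LD3_c32) Lrfl Lrfl
theorem f199423 : Led Lsl_ft (LP (LK LD1_c5 LD2_c35 LD3_c23)) = (LP (LK LD1_c2 LD2_c43 LD3_c36)) :=
  Lre_f IH (LK LD1_c5 LD2_c35 LD3_c23) (LK LD1_c2 LD2_c43 LD3_c36) Lrfl Lrfl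
theorem f350626 : Led Lsl_bf (LP (LK LD1_c2 LD2_c4 LD3_c37)) = (LP (LK LD1_c2 LD2_c43 LD3_c36)) :=
  Lgr Lrot61 (Lpr_ft (f314812 IH) (Lpr_bt (K24.f350624 IH) (Lpr_ft (f199423 IH) (Lpn (LP (LK LD1_c2 LD2_c43 LD3_c36))))))
theorem f351469 : Led Lsl_cf (LP (LK LD1_c8 LD2_c7 LD3_c32)) = (LP (LK LD1_c4 LD2_c14 LD3_c29)) :=
  Lgr Lrot125 (Lpe (f256656 IH) (Lpe (K23.f170740 IH) (Lpe (K10.f170723 IH) (Lpe (K24.f284564 IH) (Lpr_bf (f351465 IH) (Lpr_ct (K23.f346994 IH) (Lpr_gt (K23.f335790 IH) (Lpe (f346312 IH) (Lpe (f350626 IH) (Lpr_gt (K24.f32050 IH) (Lpn (LP (LK LD1_c4 LD2_c14 LD3_c29)))))))))))))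
theorem f350336 : Led Lsl_bt (LP (LK LD1_c5 LD2_c28 LD3_c6)) = (LP (LK LD1_c4 LD2_c3 LD3_c31)) :=
  Lgr Lrot127 (Lpr_bf (K24.f350334 IH) (Lpn (LP (LK LD1_c4 LD2_c3 LD3_c31))))
theorem f323433 : Led Lsl_ct (LP (LK LD1_c5 LD2_c28 LD3_c6)) = (LP (LK LD1_c10 LD2_c47 LD3_c28)) :=
  Lre_c IH (LK LD1_c5 LD2_c28 LD3_c6) (LK LD1_c10 LD2_c47 LD3_c28) Lrfl Lrfl
theorem f340836 : Led Lsl_gt (LP (LK LD1_c19 LD2_c31 LD3_c5)) = (LP (LK LD1_c10 LD2_c47 LD3_c28)) :=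
  Lre_g IH (LK LD1_c19 LD2_c31 LD3_c5) (LK LD1_c10 LD2_c47 LD3_c28) Lrfl Lrfl
theorem f339462 : Led Lsl_at (LP (LK LD1_c15 LD2_c1 LD3_c16)) = (LP (LK LD1_c9 LD2_c41 LD3_c12)) :=
  Lgr Lrot100 (Lpr_af (K22.f339460 IH) (Lpn (LP (LK LD1_c9 LD2_c41 LD3_c12))))
theorem f350661 : Led Lsl_gf (LP (LK LD1_c9 LD2_c41 LD3_c12)) = (LP (LK LD1_c8 LD2_c27 LD3_c43)) :=
  Lgr Lrot76 (Lpe (f339462 IH) (Lpe (K10.f187266 IH) (Lpr_gt (K24.f350659 IH) (Lpn (LP (LK LD1_c8 LD2_c27 LD3_c43))))))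
theorem f214037 : Led Lsl_bt (LP (LK LD1_c15 LD2_c33 LD3_c22)) = (LP (LK LD1_c9 LD2_c41 LD3_c12)) :=
  Lgr Lrot127 (Lpr_bf (K12.f214034 IH) (Lpn (LP (LK LD1_c9 LD2_c41 LD3_c12))))
theorem f351477 : Led Lsl_cf (LP (LK LD1_c19 LD2_c31 LD3_c5)) = (LP (LK LD1_c15 LD2_c33 LD3_c22)) :=
  Lgr Lrot160 (Lpr_gt (f340836 IH) (Lpe (f323433 IH) (Lpr_bt (f350336 IH) (Lpr_gt (K22.f28980 IH) (Lpr_ct (K23.f199051 IH) (Lpr_gt (K21.f199052 IH) (Lpr_cf (f351469 IH) (Lpr_bt (K24.f189197 IH) (Lpe (f350661 IH) (Lpe (f214037 IH) (Lpn (LP (LK LD1_c15 LD2_c33 LD3_c22)))))))))))))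
theorem f317485 : Led Lsl_gf (LP (LK LD1_c15 LD2_c33 LD3_c22)) = (LP (LK LD1_c8 LD2_c17 LD3_c14)) :=
  Lgr Lrot76 (Lpr_af (K20.f317481 IH) (Lpe (K20.f199750 IH) (Lpr_gt (K23.f199752 IH) (Lpn (LP (LK LD1_c8 LD2_c17 LD3_c14))))))
theorem f199755 : Led Lsl_bt (LP (LK LD1_c15 LD2_c35 LD3_c2)) = (LP (LK LD1_c8 LD2_c17 LD3_c14)) :=
  Lre_b IH (LK LD1_c15 LD2_c35 LD3_c2) (LK LD1_c8 LD2_c17 LD3_c14) Lrfl Lrfl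
theorem f351489 : Led Lsl_cf (LP (LK LD1_c15 LD2_c17 LD3_c42)) = (LP (LK LD1_c15 LD2_c35 LD3_c2)) :=
  Lgr Lrot58 (Lpe (K22.f199049 IH) (Lpe (K17.f199023 IH) (Lpr_bt (K12.f198955 IH) (Lpe (K22.f28980 IH) (Lpe (f350336 IH) (Lpr_ct (f323433 IH) (Lpe (f340836 IH) (Lpr_cf (f351477 IH) (Lpr_gf (f317485 IH) (Lpe (f199755 IH) (Lpn (LP (LK LD1_c15 LD2_c35 LD3_c2)))))))))))))
theorem f311008 : Led Lsl_dt (LP (LK LD1_c20 LD2_c57 LD3_c18)) = (LP (LK LD1_c11 LD2_c53 LD3_c36)) :=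
  Lre_d IH (LK LD1_c20 LD2_c57 LD3_c18) (LK LD1_c11 LD2_c53 LD3_c36) Lrfl Lrfl
theorem f337993 : Led Lsl_dt (LP (LK LD1_c10 LD2_c7 LD3_c31)) = (LP (LK LD1_c15 LD2_c22 LD3_c43)) :=
  Lgr Lrot42 (Lpr_df (K22.f337991 IH) (Lpn (LP (LK LD1_c15 LD2_c22 LD3_c43))))
theorem f339846 : Led Lsl_gt (LP (LK LD1_c18 LD2_c3 LD3_c40)) = (LP (LK LD1_c15 LD2_c53 LD3_c40)) :=
  Lgr Lrot137 (Lpe (K16.f246929 IH) (Lpe (K20.f246934 IH) (Lpr_gf (K23.f332788 IH) (Lpe (f337993 IH) (Lpr_et (K22.f337995 IH) (Lpe (K22.f339811 IH) (Lpe (K22.f339774 IH) (Lpr_dt (K22.f339772 IH) (Lpr_gf (K22.f339837 IH) (Lpe (K22.f235416 IH) (Lpn (LP (LK LD1_c15 LD2_c53 LD3_c40)))))))))))))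
theorem f235414 : Led Lsl_dt (LP (LK LD1_c8 LD2_c27 LD3_c54)) = (LP (LK LD1_c15 LD2_c53 LD3_c40)) :=
  Lre_d IH (LK LD1_c8 LD2_c27 LD3_c54) (LK LD1_c15 LD2_c53 LD3_c40) Lrfl Lrfl
theorem f339848 : Led Lsl_ef (LP (LK LD1_c8 LD2_c9 LD3_c57)) = (LP (LK LD1_c8 LD2_c27 LD3_c54)) :=
  Lgr Lrot114 (Lpr_gt (K22.f225646 IH) (Lpe (K20.f225645 IH) (Lpr_dt (K10.f28997 IH) (Lpe (K12.f225638 IH) (Lpe (K12.f190242 IH) (Lpr_et (K13.f195611 IH) (Lpr_gt (K14.f195690 IH) (Lpr_dt (K23.f246927 IH) (Lpr_gt (f339846 IH) (Lpe (f235414 IH) (Lpn (LP (LK LD1_c8 LD2_c27 LD3_c54)))))))))))))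
theorem f315622 : Led Lsl_bt (LP (LK LD1_c8 LD2_c9 LD3_c57)) = (LP (LK LD1_c15 LD2_c22 LD3_c44)) :=
  Lre_b IH (LK LD1_c8 LD2_c9 LD3_c57) (LK LD1_c15 LD2_c22 LD3_c44) Lrfl Lrfl
theorem f339852 : Led Lsl_et (LP (LK LD1_c15 LD2_c22 LD3_c44)) = (LP (LK LD1_c9 LD2_c42 LD3_c2)) :=
  Lgr Lrot74 (Lpe (f315622 IH) (Lpr_ef (f339848 IH) (Lpe (K22.f339746 IH) (Lpn (LP (LK LD1_c9 LD2_c42 LD3_c2))))))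
theorem f339854 : Led Lsl_cf (LP (LK LD1_c15 LD2_c22 LD3_c44)) = (LP (LK LD1_c11 LD2_c53 LD3_c36)) :=
  Lgr Lrot39 (Lpr_et (f339852 IH) (Lpr_ct (K22.f339748 IH) (Lpe (K22.f325781 IH) (Lpn (LP (LK LD1_c11 LD2_c53 LD3_c36))))))
theorem f315625 : Led Lsl_df (LP (LK LD1_c5 LD2_c36 LD3_c2)) = (LP (LK LD1_c8 LD2_c9 LD3_c57)) :=
  Lgr Lrot38 (Lpr_dt (K22.f315620 IH) (Lpn (LP (LK LD1_c8 LD2_c9 LD3_c57))))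
theorem f315613 : Led Lsl_bt (LP (LK LD1_c5 LD2_c36 LD3_c2)) = (LP (LK LD1_c11 LD2_c4 LD3_c24)) :=
  Lre_b IH (LK LD1_c5 LD2_c36 LD3_c2) (LK LD1_c11 LD2_c4 LD3_c24) Lrfl Lrfl
theorem f315661 : Led Lsl_bt (LP (LK LD1_c15 LD2_c22 LD3_c44)) = (LP (LK LD1_c8 LD2_c9 LD3_c57)) :=
  Lre_b IH (LK LD1_c15 LD2_c22 LD3_c44) (LK LD1_c8 LD2_c9 LD3_c57) Lrfl Lrfl
theorem f315662 : Led Lsl_dt (LP (LK LD1_c11 LD2_c4 LD3_c24)) = (LP (LK LD1_c15 LD2_c22 LD3_c44)) :=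
  Lgr Lrot79 (Lpe (f315613 IH) (Lpr_df (f315625 IH) (Lpe (f315661 IH) (Lpn (LP (LK LD1_c15 LD2_c22 LD3_c44))))))
theorem f315589 : Led Lsl_bt (LP (LK LD1_c11 LD2_c4 LD3_c24)) = (LP (LK LD1_c5 LD2_c36 LD3_c2)) :=
  Lre_b IH (LK LD1_c11 LD2_c4 LD3_c24) (LK LD1_c5 LD2_c36 LD3_c2) Lrfl Lrfl
theorem f315623 : Led Lsl_df (LP (LK LD1_c11 LD2_c4 LD3_c24)) = (LP (LK LD1_c15 LD2_c22 LD3_c44)) :=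
  Lgr Lrot12 (Lpr_bt (f315589 IH) (Lpr_dt (K22.f315620 IH) (Lpr_bt (f315622 IH) (Lpn (LP (LK LD1_c15 LD2_c22 LD3_c44))))))
theorem f339858 : Led Lsl_gt (LP (LK LD1_c11 LD2_c4 LD3_c24)) = (LP (LK LD1_c10 LD2_c24 LD3_c18)) :=
  Lgr Lrot112 (Lpr_df (f315623 IH) (Lpr_et (f339852 IH) (Lpe (K22.f168572 IH) (Lpe (K14.f168589 IH) (Lpr_dt (K14.f246628 IH) (Lpe (K14.f251405 IH) (Lpr_df (K17.f254824 IH) (Lpr_gf (K17.f279149 IH) (Lpe (K10.f187194 IH) (Lpe (K10.f191748 IH) (Lpn (LP (LK LD1_c10 LD2_c24 LD3_c18)))))))))))))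
theorem f328875 : Led Lsl_af (LP (LK LD1_c10 LD2_c24 LD3_c18)) = (LP (LK LD1_c9 LD2_c33 LD3_c19)) :=
  Lgr Lrot50 (Lpr_et (K10.f187675 IH) (Lpr_at (K21.f328871 IH) (Lpr_et (K13.f213920 IH) (Lpn (LP (LK LD1_c9 LD2_c33 LD3_c19))))))
theorem f339860 : Led Lsl_gf (LP (LK LD1_c11 LD2_c4 LD3_c24)) = (LP (LK LD1_c17 LD2_c35 LD3_c46)) :=
  Lgr Lrot47 (Lpr_gt (f339858 IH) (Lpr_af (f328875 IH) (Lpe (K13.f213937 IH) (Lpn (LP (LK LD1_c17 LD2_c35 LD3_c46))))))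
theorem f351495 : Led Lsl_gf (LP (LK LD1_c9 LD2_c41 LD3_c5)) = (LP (LK LD1_c15 LD2_c35 LD3_c2)) :=
  Lgr Lrot144 (Lpe (K13.f213939 IH) (Lpe (f339860 IH) (Lpr_dt (f315662 IH) (Lpr_cf (f339854 IH) (Lpe (f311008 IH) (Lpr_gf (K22.f325803 IH) (Lpe (K17.f284318 IH) (Lpr_gf (K22.f321440 IH) (Lpr_cf (f351489 IH) (Lpn (LP (LK LD1_c15 LD2_c35 LD3_c2))))))))))))
theorem f351497 : Led Lsl_gt (LP (LK LD1_c8 LD2_c39 LD3_c52)) = (LP (LK LD1_c15 LD2_c35 LD3_c2)) :=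
  Lgr Lrot5 (Lpr_ft (K10.f187201 IH) (Lpe (K22.f336869 IH) (Lpr_gf (f351495 IH) (Lpn (LP (LK LD1_c15 LD2_c35 LD3_c2))))))
theorem f187691 : Led Lsl_gt (LP (LK LD1_c10 LD2_c24 LD3_c18)) = (LP (LK LD1_c18 LD2_c52 LD3_c38)) :=
  Lre_g IH (LK LD1_c10 LD2_c24 LD3_c18) (LK LD1_c18 LD2_c52 LD3_c38) Lrfl Lrfl
theorem f345330 : Led Lsl_gt (LP (LK LD1_c2 LD2_c38 LD3_c44)) = (LP (LK LD1_c5 LD2_c20 LD3_c48)) :=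
  Lgr Lrot46 (Lpe (K21.f195906 IH) (Lpr_ft (K21.f318333 IH) (Lpr_at (K24.f345324 IH) (Lpn (LP (LK LD1_c5 LD2_c20 LD3_c48))))))
theorem f41588 : Led Lsl_dt (LP (LK LD1_c4 LD2_c28 LD3_c41)) = (LP (LK LD1_c8 LD2_c55 LD3_c38)) :=
  Lre_d IH (LK LD1_c4 LD2_c28 LD3_c41) (LK LD1_c8 LD2_c55 LD3_c38) Lrfl Lrfl
theorem f199135 : Led Lsl_gf (LP (LK LD1_c10 LD2_c40 LD3_c13)) = (LP (LK LD1_c8 LD2_c55 LD3_c38)) :=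
  Lgr Lrot134 (Lpe (K22.f42548 IH) (Lpr_et (K23.f44718 IH) (Lpe (K12.f199038 IH) (Lpe (K14.f199004 IH) (Lpr_dt (K12.f199027 IH) (Lpr_gt (K11.f199118 IH) (Lpe (K14.f41570 IH) (Lpr_et (K23.f41571 IH) (Lpr_gt (K22.f41587 IH) (Lpr_dt (f41588 IH) (Lpn (LP (LK LD1_c8 LD2_c55 LD3_c38)))))))))))))
theorem f199141 : Led Lsl_et (LP (LK LD1_c4 LD2_c28 LD3_c41)) = (LP (LK LD1_c8 LD2_c55 LD3_c39)) :=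
  Lre_e IH (LK LD1_c4 LD2_c28 LD3_c41) (LK LD1_c8 LD2_c55 LD3_c39) Lrfl Lrfl
theorem f316546 : Led Lsl_gt (LP (LK LD1_c11 LD2_c53 LD3_c40)) = (LP (LK LD1_c8 LD2_c55 LD3_c39)) :=
  Lgr Lrot131 (Lpe (K22.f290050 IH) (Lpr_dt (K20.f316391 IH) (Lpe (K20.f198962 IH) (Lpe (K12.f198995 IH) (Lpr_gf (K12.f199038 IH) (Lpe (K23.f44718 IH) (Lpr_dt (K22.f42548 IH) (Lpr_gf (f199135 IH) (Lpe (f41588 IH) (Lpr_et (f199141 IH) (Lpn (LP (LK LD1_c8 LD2_c55 LD3_c39)))))))))))))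
theorem f337682 : Led Lsl_df (LP (LK LD1_c8 LD2_c55 LD3_c39)) = (LP (LK LD1_c8 LD2_c52 LD3_c13)) :=
  Lgr Lrot38 (Lpr_dt (K22.f337672 IH) (Lpn (LP (LK LD1_c8 LD2_c52 LD3_c13))))
theorem f337680 : Led Lsl_et (LP (LK LD1_c8 LD2_c52 LD3_c13)) = (LP (LK LD1_c16 LD2_c35 LD3_c5)) :=
  Lre_e IH (LK LD1_c8 LD2_c52 LD3_c13) (LK LD1_c16 LD2_c35 LD3_c5) Lrfl Lrfl
theorem f345336 : Led Lsl_gf (LP (LK LD1_c8 LD2_c54 LD3_c30)) = (LP (LK LD1_c16 LD2_c35 LD3_c5)) :=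
  Lgr Lrot141 (Lpr_ef (K21.f325757 IH) (Lpr_dt (K21.f288632 IH) (Lpr_gt (f345330 IH) (Lpr_df (K22.f330422 IH) (Lpe (K22.f330416 IH) (Lpe (K22.f335289 IH) (Lpr_dt (K20.f290048 IH) (Lpr_gt (f316546 IH) (Lpr_df (f337682 IH) (Lpr_et (f337680 IH) (Lpn (LP (LK LD1_c16 LD2_c35 LD3_c5)))))))))))))
theorem f341108 : Led Lsl_df (LP (LK LD1_c16 LD2_c35 LD3_c5)) = (LP (LK LD1_c10 LD2_c3 LD3_c29)) :=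
  Lgr Lrot38 (Lpr_dt (K23.f341103 IH) (Lpn (LP (LK LD1_c10 LD2_c3 LD3_c29))))
theorem f42287 : Led Lsl_gt (LP (LK LD1_c6 LD2_c5 LD3_c7)) = (LP (LK LD1_c2 LD2_c58 LD3_c44)) :=
  Lre_g IH (LK LD1_c6 LD2_c5 LD3_c7) (LK LD1_c2 LD2_c58 LD3_c44) Lrfl Lrfl
theorem f345344 : Led Lsl_et (LP (LK LD1_c4 LD2_c28 LD3_c11)) = (LP (LK LD1_c6 LD2_c5 LD3_c7)) :=
  Lgr Lrot185 (Lpr_dt (K21.f302800 IH) (Lpr_gf (f345336 IH) (Lpr_df (f341108 IH) (Lpe (K23.f264913 IH) (Lpe (K21.f264912 IH) (Lpr_dt (K10.f184635 IH) (Lpe (K15.f264902 IH) (Lpr_df (K9.f42143 IH) (Lpr_et (K15.f42148 IH) (Lpe (f42287 IH) (Lpn (LP (LK LD1_c6 LD2_c5 LD3_c7)))))))))))))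
theorem f255890 : Led Lsl_dt (LP (LK LD1_c10 LD2_c3 LD3_c30)) = (LP (LK LD1_c10 LD2_c29 LD3_c53)) :=
  Lgr Lrot42 (Lpr_df (K21.f255887 IH) (Lpn (LP (LK LD1_c10 LD2_c29 LD3_c53))))
theorem f255892 : Led Lsl_et (LP (LK LD1_c5 LD2_c19 LD3_c59)) = (LP (LK LD1_c10 LD2_c29 LD3_c53)) :=
  Lre_e IH (LK LD1_c5 LD2_c19 LD3_c59) (LK LD1_c10 LD2_c29 LD3_c53) Lrfl Lrfl
theorem f325407 : Led Lsl_et (LP (LK LD1_c10 LD2_c3 LD3_c30)) = (LP (LK LD1_c5 LD2_c28 LD3_c24)) :=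
  Lgr Lrot71 (Lpr_df (K21.f255887 IH) (Lpe (f255892 IH) (Lpr_df (K21.f325387 IH) (Lpr_ef (K21.f325342 IH) (Lpe (K21.f278983 IH) (Lpn (LP (LK LD1_c5 LD2_c28 LD3_c24))))))))
theorem f345350 : Led Lsl_gt (LP (LK LD1_c5 LD2_c23 LD3_c18)) = (LP (LK LD1_c6 LD2_c5 LD3_c7)) :=
  Lgr Lrot131 (Lpr_ef (K17.f283445 IH) (Lpe (K22.f315928 IH) (Lpe (K20.f7827 IH) (Lpr_df (K12.f7794 IH) (Lpe (K21.f7825 IH) (Lpe (f325407 IH) (Lpr_dt (f255890 IH) (Lpe (K21.f325759 IH) (Lpe (K21.f302800 IH) (Lpr_et (f345344 IH) (Lpn (LP (LK LD1_c6 LD2_c5 LD3_c7)))))))))))))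
theorem f42394 : Led Lsl_gt (LP (LK LD1_c6 LD2_c5 LD3_c5)) = (LP (LK LD1_c11 LD2_c53 LD3_c35)) :=
  Lre_g IH (LK LD1_c6 LD2_c5 LD3_c5) (LK LD1_c11 LD2_c53 LD3_c35) Lrfl Lrfl
theorem f311095 : Led Lsl_gf (LP (LK LD1_c10 LD2_c37 LD3_c8)) = (LP (LK LD1_c11 LD2_c53 LD3_c35)) :=
  Lgr Lrot76 (Lpr_af (K19.f311081 IH) (Lpe (K19.f311080 IH) (Lpr_gt (f42394 IH) (Lpn (LP (LK LD1_c11 LD2_c53 LD3_c35))))))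
theorem f42395 : Led Lsl_dt (LP (LK LD1_c11 LD2_c53 LD3_c35)) = (LP (LK LD1_c20 LD2_c57 LD3_c15)) :=
  Lre_d IH (LK LD1_c11 LD2_c53 LD3_c35) (LK LD1_c20 LD2_c57 LD3_c15) Lrfl Lrfl
theorem f316544 : Led Lsl_gt (LP (LK LD1_c20 LD2_c57 LD3_c15)) = (LP (LK LD1_c16 LD2_c38 LD3_c20)) :=
  Lgr Lrot49 (Lpe (f42395 IH) (Lpe (f42394 IH) (Lpe (K19.f42384 IH) (Lpr_gt (K20.f42291 IH) (Lpr_dt (K20.f316391 IH) (Lpe (K20.f284553 IH) (Lpr_dt (K14.f231353 IH) (Lpe (K17.f284189 IH) (Lpe (K17.f284396 IH) (Lpn (LP (LK LD1_c16 LD2_c38 LD3_c20))))))))))))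
theorem f42290 : Led Lsl_ct (LP (LK LD1_c6 LD2_c5 LD3_c7)) = (LP (LK LD1_c11 LD2_c53 LD3_c41)) :=
  Lre_c IH (LK LD1_c6 LD2_c5 LD3_c7) (LK LD1_c11 LD2_c53 LD3_c41) Lrfl Lrfl
theorem f345357 : Led Lsl_dt (LP (LK LD1_c20 LD2_c57 LD3_c24)) = (LP (LK LD1_c11 LD2_c53 LD3_c41)) :=
  Lre_d IH (LK LD1_c20 LD2_c57 LD3_c24) (LK LD1_c11 LD2_c53 LD3_c41) Lrfl Lrfl
theorem f345358 : Led Lsl_ct (LP (LK LD1_c29 LD2_c46 LD3_c20)) = (LP (LK LD1_c20 LD2_c57 LD3_c24)) :=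
  Lre_c IH (LK LD1_c29 LD2_c46 LD3_c20) (LK LD1_c20 LD2_c57 LD3_c24) Lrfl Lrfl
theorem f345359 : Led Lsl_gt (LP (LK LD1_c26 LD2_c36 LD3_c24)) = (LP (LK LD1_c29 LD2_c46 LD3_c20)) :=
  Lgr Lrot150 (Lpe (K17.f284319 IH) (Lpe (f316544 IH) (Lpe (f42395 IH) (Lpe (f311095 IH) (Lpr_ct (K19.f182841 IH) (Lpr_gt (f345350 IH) (Lpr_ct (f42290 IH) (Lpe (f345357 IH) (Lpe (f345358 IH) (Lpn (LP (LK LD1_c29 LD2_c46 LD3_c20))))))))))))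
theorem f284401 : Led Lsl_ct (LP (LK LD1_c26 LD2_c36 LD3_c24)) = (LP (LK LD1_c16 LD2_c38 LD3_c20)) :=
  Lre_c IH (LK LD1_c26 LD2_c36 LD3_c24) (LK LD1_c16 LD2_c38 LD3_c20) Lrfl Lrfl
theorem f42270 : Led Lsl_ct (LP (LK LD1_c2 LD2_c36 LD3_c55)) = (LP (LK LD1_c5 LD2_c20 LD3_c32)) :=
  Lre_c IH (LK LD1_c2 LD2_c36 LD3_c55) (LK LD1_c5 LD2_c20 LD3_c32) Lrfl Lrfl
theorem f42275 : Led Lsl_dt (LP (LK LD1_c11 LD2_c53 LD3_c37)) = (LP (LK LD1_c6 LD2_c5 LD3_c5)) :=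
  Lre_d IH (LK LD1_c11 LD2_c53 LD3_c37) (LK LD1_c6 LD2_c5 LD3_c5) Lrfl Lrfl
theorem f42276 : Led Lsl_ct (LP (LK LD1_c20 LD2_c57 LD3_c19)) = (LP (LK LD1_c11 LD2_c53 LD3_c37)) :=
  Lre_c IH (LK LD1_c20 LD2_c57 LD3_c19) (LK LD1_c11 LD2_c53 LD3_c37) Lrfl Lrfl
theorem f310985 : Led Lsl_dt (LP (LK LD1_c19 LD2_c13 LD3_c43)) = (LP (LK LD1_c20 LD2_c57 LD3_c19)) :=
  Lgr Lrot173 (Lpe (K19.f310984 IH) (Lpe (K19.f310947 IH) (Lpe (K19.f310958 IH) (Lpe (K19.f283472 IH) (Lpe (K19.f182841 IH) (Lpe (K19.f283447 IH) (Lpr_cf (K19.f310979 IH) (Lpe (K19.f42273 IH) (Lpe (K19.f42272 IH) (Lpe (K19.f42271 IH) (Lpe (f42270 IH) (Lpr_df (K15.f42149 IH) (Lpe (K19.f42274 IH) (Lpe (f42275 IH) (Lpe (f42276 IH) (Lpn (LP (LK LD1_c20 LD2_c57 LD3_c19))))))))))))))))))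
theorem f311005 : Led Lsl_gt (LP (LK LD1_c19 LD2_c3 LD3_c56)) = (LP (LK LD1_c28 LD2_c30 LD3_c7)) :=
  Lre_g IH (LK LD1_c19 LD2_c3 LD3_c56) (LK LD1_c28 LD2_c30 LD3_c7) Lrfl Lrfl
theorem f311006 : Led Lsl_gf (LP (LK LD1_c19 LD2_c13 LD3_c43)) = (LP (LK LD1_c28 LD2_c30 LD3_c7)) :=
  Lgr Lrot76 (Lpr_af (K19.f310993 IH) (Lpe (K19.f310992 IH) (Lpr_gt (f311005 IH) (Lpn (LP (LK LD1_c28 LD2_c30 LD3_c7))))))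
theorem f345366 : Led Lsl_df (LP (LK LD1_c28 LD2_c30 LD3_c7)) = (LP (LK LD1_c29 LD2_c46 LD3_c20)) :=
  Lgr Lrot153 (Lpe (f311006 IH) (Lpr_dt (f310985 IH) (Lpe (K19.f42400 IH) (Lpe (K19.f42410 IH) (Lpe (K22.f42294 IH) (Lpe (f311008 IH) (Lpr_gf (K22.f325803 IH) (Lpe (f284401 IH) (Lpr_gt (f345359 IH) (Lpn (LP (LK LD1_c29 LD2_c46 LD3_c20))))))))))))
theorem f345370 : Led Lsl_dt (LP (LK LD1_c28 LD2_c30 LD3_c7)) = (LP (LK LD1_c29 LD2_c46 LD3_c20)) :=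
  Lgr Lrot42 (Lpr_df (f345366 IH) (Lpn (LP (LK LD1_c29 LD2_c46 LD3_c20))))
theorem f42463 : Led Lsl_ct (LP (LK LD1_c19 LD2_c3 LD3_c56)) = (LP (LK LD1_c10 LD2_c31 LD3_c7)) :=
  Lre_c IH (LK LD1_c19 LD2_c3 LD3_c56) (LK LD1_c10 LD2_c31 LD3_c7) Lrfl Lrfl
theorem f315861 : Led Lsl_df (LP (LK LD1_c10 LD2_c34 LD3_c8)) = (LP (LK LD1_c19 LD2_c3 LD3_c54)) :=
  Lgr Lrot38 (Lpr_dt (K22.f315855 IH) (Lpn (LP (LK LD1_c19 LD2_c3 LD3_c54))))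
theorem f345364 : Led Lsl_gf (LP (LK LD1_c25 LD2_c8 LD3_c18)) = (LP (LK LD1_c29 LD2_c46 LD3_c20)) :=
  Lgr Lrot76 (Lpe (K17.f284339 IH) (Lpe (K17.f284338 IH) (Lpr_gt (f345359 IH) (Lpn (LP (LK LD1_c29 LD2_c46 LD3_c20))))))
theorem f284329 : Led Lsl_df (LP (LK LD1_c28 LD2_c39 LD3_c27)) = (LP (LK LD1_c25 LD2_c8 LD3_c18)) :=
  Lgr Lrot43 (Lpr_ct (K17.f284296 IH) (Lpe (K17.f284312 IH) (Lpr_ct (K17.f231363 IH) (Lpr_dt (K14.f231353 IH) (Lpr_ct (K17.f284317 IH) (Lpr_dt (K17.f284318 IH) (Lpr_ct (K17.f284319 IH) (Lpr_dt (K17.f284322 IH) (Lpr_ct (K17.f199026 IH) (Lpr_dt (K12.f199011 IH) (Lpr_ct (K17.f199010 IH) (Lpe (K12.f198956 IH) (Lpr_ct (K17.f199023 IH) (Lpr_dt (K17.f199024 IH) (Lpr_ct (K17.f199025 IH) (Lpn (LP (LK LD1_c25 LD2_c8 LD3_c18))))))))))))))))))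
theorem f345373 : Led Lsl_gt (LP (LK LD1_c10 LD2_c34 LD3_c8)) = (LP (LK LD1_c16 LD2_c38 LD3_c31)) :=
  Lgr Lrot49 (Lpr_df (f315861 IH) (Lpe (K22.f311068 IH) (Lpe (f42463 IH) (Lpr_gt (f311005 IH) (Lpr_dt (f345370 IH) (Lpe (f345364 IH) (Lpe (f284329 IH) (Lpe (K17.f284308 IH) (Lpe (K17.f284300 IH) (Lpn (LP (LK LD1_c16 LD2_c38 LD3_c31))))))))))))
theorem f351500 : Led Lsl_ct (LP (LK LD1_c18 LD2_c52 LD3_c38)) = (LP (LK LD1_c10 LD2_c34 LD3_c8)) :=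
  Lgr Lrot152 (Lpe (f187691 IH) (Lpr_df (K10.f191748 IH) (Lpr_gt (f351497 IH) (Lpe (f351489 IH) (Lpe (K22.f321440 IH) (Lpr_ct (K17.f284189 IH) (Lpe (K14.f231353 IH) (Lpe (K17.f231363 IH) (Lpe (f345373 IH) (Lpn (LP (LK LD1_c10 LD2_c34 LD3_c8))))))))))))
theorem f315865 : Led Lsl_et (LP (LK LD1_c10 LD2_c34 LD3_c8)) = (LP (LK LD1_c19 LD2_c8 LD3_c40)) :=
  Lre_e IH (LK LD1_c10 LD2_c34 LD3_c8) (LK LD1_c19 LD2_c8 LD3_c40) Lrfl Lrfl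
theorem f336523 : Led Lsl_df (LP (LK LD1_c17 LD2_c42 LD3_c36)) = (LP (LK LD1_c11 LD2_c8 LD3_c48)) :=
  Lgr Lrot38 (Lpr_dt (K22.f336519 IH) (Lpn (LP (LK LD1_c11 LD2_c8 LD3_c48))))
theorem f307373 : Led Lsl_df (LP (LK LD1_c10 LD2_c12 LD3_c31)) = (LP (LK LD1_c9 LD2_c37 LD3_c5)) :=
  Lgr Lrot38 (Lpr_dt (K22.f307357 IH) (Lpn (LP (LK LD1_c9 LD2_c37 LD3_c5))))
theorem f307375 : Led Lsl_et (LP (LK LD1_c9 LD2_c37 LD3_c5)) = (LP (LK LD1_c17 LD2_c42 LD3_c36)) :=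
  Lre_e IH (LK LD1_c9 LD2_c37 LD3_c5) (LK LD1_c17 LD2_c42 LD3_c36) Lrfl Lrfl
theorem f299328 : Led Lsl_ef (LP (LK LD1_c8 LD2_c10 LD3_c17)) = (LP (LK LD1_c9 LD2_c38 LD3_c40)) :=
  Lgr Lrot88 (Lpr_et (K20.f299321 IH) (Lpn (LP (LK LD1_c9 LD2_c38 LD3_c40))))
theorem f299330 : Led Lsl_bt (LP (LK LD1_c8 LD2_c10 LD3_c17)) = (LP (LK LD1_c15 LD2_c23 LD3_c18)) :=
  Lre_b IH (LK LD1_c8 LD2_c10 LD3_c17) (LK LD1_c15 LD2_c23 LD3_c18) Lrfl Lrfl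
theorem f299331 : Led Lsl_bt (LP (LK LD1_c17 LD2_c44 LD3_c57)) = (LP (LK LD1_c9 LD2_c38 LD3_c40)) :=
  Lre_b IH (LK LD1_c17 LD2_c44 LD3_c57) (LK LD1_c9 LD2_c38 LD3_c40) Lrfl Lrfl
theorem f299332 : Led Lsl_et (LP (LK LD1_c15 LD2_c23 LD3_c18)) = (LP (LK LD1_c17 LD2_c44 LD3_c57)) :=
  Lgr Lrot74 (Lpe (f299330 IH) (Lpr_ef (f299328 IH) (Lpe (f299331 IH) (Lpn (LP (LK LD1_c17 LD2_c44 LD3_c57))))))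
theorem f299343 : Led Lsl_et (LP (LK LD1_c9 LD2_c38 LD3_c39)) = (LP (LK LD1_c17 LD2_c44 LD3_c58)) :=
  Lre_e IH (LK LD1_c9 LD2_c38 LD3_c39) (LK LD1_c17 LD2_c44 LD3_c58) Lrfl Lrfl
theorem f299344 : Led Lsl_df (LP (LK LD1_c15 LD2_c26 LD3_c3)) = (LP (LK LD1_c17 LD2_c44 LD3_c58)) :=
  Lgr Lrot70 (Lpe (K20.f237939 IH) (Lpr_dt (K20.f237965 IH) (Lpr_et (f299332 IH) (Lpr_dt (K20.f299342 IH) (Lpr_et (f299343 IH) (Lpn (LP (LK LD1_c17 LD2_c44 LD3_c58))))))))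
theorem f336439 : Led Lsl_gt (LP (LK LD1_c17 LD2_c42 LD3_c36)) = (LP (LK LD1_c17 LD2_c44 LD3_c58)) :=
  Lgr Lrot137 (Lpe (f307375 IH) (Lpe (f307373 IH) (Lpr_gf (K22.f336433 IH) (Lpe (K12.f190797 IH) (Lpr_et (K12.f188693 IH) (Lpr_gf (K18.f278426 IH) (Lpe (K16.f232297 IH) (Lpe (K20.f278424 IH) (Lpe (K20.f322626 IH) (Lpr_df (f299344 IH) (Lpn (LP (LK LD1_c17 LD2_c44 LD3_c58)))))))))))))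
theorem f299314 : Led Lsl_bt (LP (LK LD1_c17 LD2_c44 LD3_c58)) = (LP (LK LD1_c9 LD2_c38 LD3_c41)) :=
  Lre_b IH (LK LD1_c17 LD2_c44 LD3_c58) (LK LD1_c9 LD2_c38 LD3_c41) Lrfl Lrfl
theorem f299315 : Led Lsl_dt (LP (LK LD1_c15 LD2_c26 LD3_c3)) = (LP (LK LD1_c17 LD2_c44 LD3_c58)) :=
  Lgr Lrot79 (Lpe (K20.f237938 IH) (Lpr_df (K20.f299312 IH) (Lpe (f299314 IH) (Lpn (LP (LK LD1_c17 LD2_c44 LD3_c58))))))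
theorem f336324 : Led Lsl_ef (LP (LK LD1_c25 LD2_c41 LD3_c45)) = (LP (LK LD1_c25 LD2_c0 LD3_c31)) :=
  Lgr Lrot73 (Lpr_dt (K22.f215543 IH) (Lpr_et (K22.f336308 IH) (Lpe (K22.f336314 IH) (Lpr_et (K22.f336322 IH) (Lpr_dt (K22.f258986 IH) (Lpn (LP (LK LD1_c25 LD2_c0 LD3_c31))))))))
theorem f336531 : Led Lsl_gf (LP (LK LD1_c17 LD2_c45 LD3_c47)) = (LP (LK LD1_c15 LD2_c11 LD3_c23)) :=
  Lgr Lrot145 (Lpe (K20.f297735 IH) (Lpr_et (K22.f297737 IH) (Lpr_gt (K22.f336525 IH) (Lpe (f336523 IH) (Lpr_gt (f336439 IH) (Lpe (f299315 IH) (Lpe (K20.f237939 IH) (Lpe (K24.f336312 IH) (Lpr_ef (f336324 IH) (Lpr_dt (K22.f321723 IH) (Lpn (LP (LK LD1_c15 LD2_c11 LD3_c23)))))))))))))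
theorem f325447 : Led Lsl_gt (LP (LK LD1_c10 LD2_c30 LD3_c0)) = (LP (LK LD1_c10 LD2_c28 LD3_c39)) :=
  Lgr Lrot5 (Lpr_ft (K20.f294811 IH) (Lpr_at (K20.f321721 IH) (Lpr_gf (K24.f325443 IH) (Lpn (LP (LK LD1_c10 LD2_c28 LD3_c39))))))
theorem f258229 : Led Lsl_ct (LP (LK LD1_c10 LD2_c42 LD3_c46)) = (LP (LK LD1_c5 LD2_c25 LD3_c45)) :=
  Lre_c IH (LK LD1_c10 LD2_c42 LD3_c46) (LK LD1_c5 LD2_c25 LD3_c45) Lrfl Lrfl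
theorem f321672 : Led Lsl_gt (LP (LK LD1_c19 LD2_c23 LD3_c29)) = (LP (LK LD1_c19 LD2_c3 LD3_c37)) :=
  Lgr Lrot46 (Lpr_gf (K19.f268072 IH) (Lpr_ft (K20.f321663 IH) (Lpe (K16.f277749 IH) (Lpn (LP (LK LD1_c19 LD2_c3 LD3_c37))))))
theorem f321674 : Led Lsl_gf (LP (LK LD1_c10 LD2_c42 LD3_c46)) = (LP (LK LD1_c19 LD2_c8 LD3_c40)) :=
  Lgr Lrot138 (Lpr_dt (K19.f268085 IH) (Lpr_gt (f321672 IH) (Lpe (K16.f224560 IH) (Lpr_et (K17.f224559 IH) (Lpr_gt (K15.f171897 IH) (Lpe (K18.f277889 IH) (Lpr_dt (K19.f42271 IH) (Lpr_gt (K22.f311068 IH) (Lpe (K22.f315855 IH) (Lpr_et (f315865 IH) (Lpn (LP (LK LD1_c19 LD2_c8 LD3_c40)))))))))))))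
theorem f336533 : Led Lsl_cf (LP (LK LD1_c19 LD2_c8 LD3_c40)) = (LP (LK LD1_c27 LD2_c46 LD3_c35)) :=
  Lgr Lrot169 (Lpe (f321674 IH) (Lpr_ct (f258229 IH) (Lpe (K19.f258232 IH) (Lpe (K24.f258157 IH) (Lpe (f325447 IH) (Lpr_cf (K20.f294717 IH) (Lpr_gf (f336531 IH) (Lpe (K22.f321723 IH) (Lpe (K22.f336330 IH) (Lpn (LP (LK LD1_c27 LD2_c46 LD3_c35))))))))))))
theorem f336537 : Led Lsl_ct (LP (LK LD1_c19 LD2_c8 LD3_c40)) = (LP (LK LD1_c27 LD2_c46 LD3_c35)) :=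
  Lgr Lrot59 (Lpr_cf (f336533 IH) (Lpn (LP (LK LD1_c27 LD2_c46 LD3_c35))))
theorem f351504 : Led Lsl_ef (LP (LK LD1_c18 LD2_c52 LD3_c38)) = (LP (LK LD1_c27 LD2_c46 LD3_c35)) :=
  Lgr Lrot28 (Lpr_ct (f351500 IH) (Lpr_et (f315865 IH) (Lpr_ct (f336537 IH) (Lpn (LP (LK LD1_c27 LD2_c46 LD3_c35))))))
theorem f351508 : Led Lsl_et (LP (LK LD1_c18 LD2_c52 LD3_c38)) = (LP (LK LD1_c27 LD2_c46 LD3_c35)) :=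
  Lgr Lrot87 (Lpr_ef (f351504 IH) (Lpn (LP (LK LD1_c27 LD2_c46 LD3_c35))))
theorem f336334 : Led Lsl_ef (LP (LK LD1_c18 LD2_c5 LD3_c15)) = (LP (LK LD1_c18 LD2_c27 LD3_c17)) :=
  Lgr Lrot88 (Lpr_et (K22.f336332 IH) (Lpn (LP (LK LD1_c18 LD2_c27 LD3_c17))))
theorem f266243 : Led Lsl_gt (LP (LK LD1_c7 LD2_c56 LD3_c4)) = (LP (LK LD1_c4 LD2_c6 LD3_c29)) :=
  Lgr Lrot146 (Lpr_dt (K15.f266235 IH) (Lpr_gt (K10.f31520 IH) (Lpr_ct (K9.f31482 IH) (Lpe (K10.f189451 IH) (Lpr_ct (K14.f32889 IH) (Lpe (K14.f248461 IH) (Lpe (K14.f230284 IH) (Lpe (K15.f255926 IH) (Lpe (K15.f231819 IH) (Lpn (LP (LK LD1_c4 LD2_c6 LD3_c29))))))))))))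
theorem f282132 : Led Lsl_cf (LP (LK LD1_c5 LD2_c8 LD3_c44)) = (LP (LK LD1_c5 LD2_c6 LD3_c9)) :=
  Lgr Lrot14 (Lpr_df (K17.f282125 IH) (Lpe (f266243 IH) (Lpr_df (K18.f266211 IH) (Lpe (K10.f43554 IH) (Lpr_ct (K12.f191564 IH) (Lpe (K15.f249103 IH) (Lpr_dt (K14.f46333 IH) (Lpe (K15.f257433 IH) (Lpr_dt (K15.f248113 IH) (Lpn (LP (LK LD1_c5 LD2_c6 LD3_c9))))))))))))
theorem f256469 : Led Lsl_bf (LP (LK LD1_c4 LD2_c6 LD3_c29)) = (LP (LK LD1_c2 LD2_c3 LD3_c27)) :=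
  Lgr Lrot24 (Lpr_bt (K15.f256453 IH) (Lpn (LP (LK LD1_c2 LD2_c3 LD3_c27))))
theorem f282127 : Led Lsl_bt (LP (LK LD1_c5 LD2_c8 LD3_c44)) = (LP (LK LD1_c2 LD2_c31 LD3_c54)) :=
  Lgr Lrot95 (Lpr_df (K17.f282125 IH) (Lpr_bf (f256469 IH) (Lpe (K14.f256393 IH) (Lpn (LP (LK LD1_c2 LD2_c31 LD3_c54))))))
theorem f165574 : Led Lsl_bt (LP (LK LD1_c5 LD2_c9 LD3_c33)) = (LP (LK LD1_c10 LD2_c9 LD3_c48)) :=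
  Lre_b IH (LK LD1_c5 LD2_c9 LD3_c33) (LK LD1_c10 LD2_c9 LD3_c48) Lrfl Lrfl
theorem f248115 : Led Lsl_bt (LP (LK LD1_c10 LD2_c3 LD3_c15)) = (LP (LK LD1_c5 LD2_c6 LD3_c9)) :=
  Lre_b IH (LK LD1_c10 LD2_c3 LD3_c15) (LK LD1_c5 LD2_c6 LD3_c9) Lrfl Lrfl
theorem f282136 : Led Lsl_ct (LP (LK LD1_c10 LD2_c9 LD3_c48)) = (LP (LK LD1_c10 LD2_c3 LD3_c15)) :=
  Lgr Lrot83 (Lpe (f165574 IH) (Lpe (K17.f180580 IH) (Lpe (f282127 IH) (Lpr_cf (f282132 IH) (Lpe (f248115 IH) (Lpn (LP (LK LD1_c10 LD2_c3 LD3_c15))))))))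
theorem f282154 : Led Lsl_et (LP (LK LD1_c18 LD2_c30 LD3_c52)) = (LP (LK LD1_c10 LD2_c9 LD3_c48)) :=
  Lre_e IH (LK LD1_c18 LD2_c30 LD3_c52) (LK LD1_c10 LD2_c9 LD3_c48) Lrfl Lrfl
theorem f282155 : Led Lsl_et (LP (LK LD1_c10 LD2_c3 LD3_c15)) = (LP (LK LD1_c18 LD2_c21 LD3_c50)) :=
  Lre_e IH (LK LD1_c10 LD2_c3 LD3_c15) (LK LD1_c18 LD2_c21 LD3_c50) Lrfl Lrfl
theorem f282156 : Led Lsl_cf (LP (LK LD1_c18 LD2_c30 LD3_c52)) = (LP (LK LD1_c18 LD2_c21 LD3_c50)) :=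
  Lgr Lrot39 (Lpr_et (f282154 IH) (Lpr_ct (f282136 IH) (Lpr_et (f282155 IH) (Lpn (LP (LK LD1_c18 LD2_c21 LD3_c50))))))
theorem f282163 : Led Lsl_ct (LP (LK LD1_c18 LD2_c30 LD3_c52)) = (LP (LK LD1_c18 LD2_c21 LD3_c50)) :=
  Lgr Lrot59 (Lpr_cf (f282156 IH) (Lpn (LP (LK LD1_c18 LD2_c21 LD3_c50))))
theorem f256465 : Led Lsl_bt (LP (LK LD1_c10 LD2_c9 LD3_c50)) = (LP (LK LD1_c18 LD2_c30 LD3_c52)) :=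
  Lre_b IH (LK LD1_c10 LD2_c9 LD3_c50) (LK LD1_c18 LD2_c30 LD3_c52) Lrfl Lrfl
theorem f282146 : Led Lsl_bt (LP (LK LD1_c18 LD2_c21 LD3_c50)) = (LP (LK LD1_c10 LD2_c3 LD3_c17)) :=
  Lre_b IH (LK LD1_c18 LD2_c21 LD3_c50) (LK LD1_c10 LD2_c3 LD3_c17) Lrfl Lrfl
theorem f257546 : Led Lsl_et (LP (LK LD1_c10 LD2_c3 LD3_c17)) = (LP (LK LD1_c5 LD2_c6 LD3_c9)) :=
  Lre_e IH (LK LD1_c10 LD2_c3 LD3_c17) (LK LD1_c5 LD2_c6 LD3_c9) Lrfl Lrfl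
theorem f282138 : Led Lsl_ct (LP (LK LD1_c10 LD2_c7 LD3_c54)) = (LP (LK LD1_c10 LD2_c3 LD3_c17)) :=
  Lgr Lrot15 (Lpe (K17.f282129 IH) (Lpr_cf (f282132 IH) (Lpe (f257546 IH) (Lpn (LP (LK LD1_c10 LD2_c3 LD3_c17))))))
theorem f282143 : Led Lsl_cf (LP (LK LD1_c10 LD2_c7 LD3_c54)) = (LP (LK LD1_c10 LD2_c3 LD3_c17)) :=
  Lgr Lrot11 (Lpr_ct (f282138 IH) (Lpn (LP (LK LD1_c10 LD2_c3 LD3_c17))))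
theorem f282167 : Led Lsl_bf (LP (LK LD1_c5 LD2_c9 LD3_c34)) = (LP (LK LD1_c10 LD2_c7 LD3_c54)) :=
  Lgr Lrot90 (Lpr_ct (K23.f256457 IH) (Lpr_bt (f256465 IH) (Lpr_ct (f282163 IH) (Lpr_bt (f282146 IH) (Lpe (f282143 IH) (Lpn (LP (LK LD1_c10 LD2_c7 LD3_c54))))))))
theorem f282173 : Led Lsl_dt (LP (LK LD1_c8 LD2_c13 LD3_c32)) = (LP (LK LD1_c10 LD2_c7 LD3_c54)) :=
  Lgr Lrot79 (Lpr_bf (K20.f187811 IH) (Lpr_df (K20.f256459 IH) (Lpr_bf (f282167 IH) (Lpn (LP (LK LD1_c10 LD2_c7 LD3_c54))))))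
theorem f232873 : Led Lsl_et (LP (LK LD1_c4 LD2_c54 LD3_c52)) = (LP (LK LD1_c9 LD2_c41 LD3_c11)) :=
  Lre_e IH (LK LD1_c4 LD2_c54 LD3_c52) (LK LD1_c9 LD2_c41 LD3_c11) Lrfl Lrfl
theorem f214053 : Led Lsl_gt (LP (LK LD1_c9 LD2_c41 LD3_c11)) = (LP (LK LD1_c17 LD2_c48 LD3_c61)) :=
  Lre_g IH (LK LD1_c9 LD2_c41 LD3_c11) (LK LD1_c17 LD2_c48 LD3_c61) Lrfl Lrfl
theorem f232874 : Led Lsl_et (LP (LK LD1_c27 LD2_c36 LD3_c4)) = (LP (LK LD1_c17 LD2_c48 LD3_c61)) :=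
  Lre_e IH (LK LD1_c27 LD2_c36 LD3_c4) (LK LD1_c17 LD2_c48 LD3_c61) Lrfl Lrfl
theorem f282175 : Led Lsl_dt (LP (LK LD1_c27 LD2_c36 LD3_c4)) = (LP (LK LD1_c18 LD2_c27 LD3_c17)) :=
  Lgr Lrot136 (Lpr_et (f232874 IH) (Lpe (f214053 IH) (Lpe (f232873 IH) (Lpr_dt (K12.f214004 IH) (Lpr_gf (K13.f232867 IH) (Lpe (K15.f223728 IH) (Lpr_gf (K15.f265282 IH) (Lpe (K17.f187836 IH) (Lpr_dt (f282173 IH) (Lpe (K22.f282145 IH) (Lpn (LP (LK LD1_c18 LD2_c27 LD3_c17)))))))))))))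
theorem f282179 : Led Lsl_et (LP (LK LD1_c17 LD2_c48 LD3_c61)) = (LP (LK LD1_c27 LD2_c36 LD3_c4)) :=
  Lre_e IH (LK LD1_c17 LD2_c48 LD3_c61) (LK LD1_c27 LD2_c36 LD3_c4) Lrfl Lrfl
theorem f351506 : Led Lsl_dt (LP (LK LD1_c18 LD2_c52 LD3_c38)) = (LP (LK LD1_c17 LD2_c48 LD3_c61)) :=
  Lgr Lrot77 (Lpr_ef (f351504 IH) (Lpe (K22.f230765 IH) (Lpr_ef (f336334 IH) (Lpe (f282175 IH) (Lpe (f282179 IH) (Lpn (LP (LK LD1_c17 LD2_c48 LD3_c61))))))))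
theorem f351512 : Led Lsl_gt (LP (LK LD1_c17 LD2_c48 LD3_c61)) = (LP (LK LD1_c16 LD2_c11 LD3_c8)) :=
  Lgr Lrot112 (Lpe (f351506 IH) (Lpr_et (f351508 IH) (Lpr_gf (K22.f336330 IH) (Lpe (K22.f336328 IH) (Lpr_dt (K22.f215543 IH) (Lpe (K19.f307816 IH) (Lpe (K19.f216435 IH) (Lpe (K24.f339509 IH) (Lpe (K22.f339466 IH) (Lpr_dt (K10.f187268 IH) (Lpn (LP (LK LD1_c16 LD2_c11 LD3_c8)))))))))))))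
theorem f351514 : Led Lsl_at (LP (LK LD1_c17 LD2_c49 LD3_c0)) = (LP (LK LD1_c16 LD2_c11 LD3_c8)) :=
  Lgr Lrot26 (Lpe (K12.f214046 IH) (Lpr_gt (f214053 IH) (Lpr_gt (f351512 IH) (Lpn (LP (LK LD1_c16 LD2_c11 LD3_c8))))))
theorem f343683 : Led Lsl_et (LP (LK LD1_c16 LD2_c11 LD3_c6)) = (LP (LK LD1_c17 LD2_c49 LD3_c0)) :=
  Lgr Lrot87 (Lpr_ef (K23.f343677 IH) (Lpn (LP (LK LD1_c17 LD2_c49 LD3_c0))))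
theorem f324768 : Led Lsl_at (LP (LK LD1_c15 LD2_c25 LD3_c8)) = (LP (LK LD1_c16 LD2_c11 LD3_c6)) :=
  Lgr Lrot100 (Lpr_af (K21.f324766 IH) (Lpn (LP (LK LD1_c16 LD2_c11 LD3_c6))))
theorem f351520 : Led Lsl_ef (LP (LK LD1_c15 LD2_c25 LD3_c8)) = (LP (LK LD1_c16 LD2_c11 LD3_c8)) :=
  Lgr Lrot20 (Lpr_at (f324768 IH) (Lpr_et (f343683 IH) (Lpr_at (f351514 IH) (Lpn (LP (LK LD1_c16 LD2_c11 LD3_c8))))))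
theorem f351522 : Led Lsl_et (LP (LK LD1_c8 LD2_c11 LD3_c31)) = (LP (LK LD1_c15 LD2_c1 LD3_c47)) :=
  Lgr Lrot74 (Lpe (K23.f182953 IH) (Lpr_ef (f351520 IH) (Lpe (K10.f187284 IH) (Lpn (LP (LK LD1_c15 LD2_c1 LD3_c47))))))
theorem f351599 : Led Lsl_ef (LP (LK LD1_c8 LD2_c11 LD3_c31)) = (LP (LK LD1_c15 LD2_c1 LD3_c47)) :=
  Lgr Lrot88 (Lpr_et (f351522 IH) (Lpn (LP (LK LD1_c15 LD2_c1 LD3_c47))))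
theorem f328219 : Led Lsl_at (LP (LK LD1_c8 LD2_c11 LD3_c31)) = (LP (LK LD1_c15 LD2_c24 LD3_c24)) :=
  Lgr Lrot51 (Lpr_df (K20.f322242 IH) (Lpr_af (K20.f271088 IH) (Lpr_df (K21.f328217 IH) (Lpn (LP (LK LD1_c15 LD2_c24 LD3_c24))))))
theorem f351601 : Led Lsl_at (LP (LK LD1_c8 LD2_c11 LD3_c38)) = (LP (LK LD1_c15 LD2_c1 LD3_c47)) :=
  Lgr Lrot80 (Lpe (K20.f317441 IH) (Lpe (f328219 IH) (Lpr_ef (f351599 IH) (Lpn (LP (LK LD1_c15 LD2_c1 LD3_c47))))))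
theorem f247693 : Led Lsl_ft (LP (LK LD1_c4 LD2_c5 LD3_c22)) = (LP (LK LD1_c8 LD2_c11 LD3_c38)) :=
  Lre_f IH (LK LD1_c4 LD2_c5 LD3_c22) (LK LD1_c8 LD2_c11 LD3_c38) Lrfl Lrfl
theorem f187296 : Led Lsl_ft (LP (LK LD1_c15 LD2_c1 LD3_c47)) = (LP (LK LD1_c7 LD2_c58 LD3_c0)) :=
  Lre_f IH (LK LD1_c15 LD2_c1 LD3_c47) (LK LD1_c7 LD2_c58 LD3_c0) Lrfl Lrfl
theorem f351605 : Led Lsl_af (LP (LK LD1_c4 LD2_c5 LD3_c22)) = (LP (LK LD1_c7 LD2_c58 LD3_c0)) :=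
  Lgr Lrot45 (Lpr_ft (f247693 IH) (Lpr_at (f351601 IH) (Lpr_ft (f187296 IH) (Lpn (LP (LK LD1_c7 LD2_c58 LD3_c0))))))
theorem f194301 : Led Lsl_ct (LP (LK LD1_c8 LD2_c11 LD3_c35)) = (LP (LK LD1_c4 LD2_c5 LD3_c22)) :=
  Lre_c IH (LK LD1_c8 LD2_c11 LD3_c35) (LK LD1_c4 LD2_c5 LD3_c22) Lrfl Lrfl
theorem f247694 : Led Lsl_dt (LP (LK LD1_c15 LD2_c25 LD3_c34)) = (LP (LK LD1_c8 LD2_c11 LD3_c35)) :=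
  Lre_d IH (LK LD1_c15 LD2_c25 LD3_c34) (LK LD1_c8 LD2_c11 LD3_c35) Lrfl Lrfl
theorem f247698 : Led Lsl_ct (LP (LK LD1_c25 LD2_c17 LD3_c44)) = (LP (LK LD1_c15 LD2_c25 LD3_c34)) :=
  Lre_c IH (LK LD1_c25 LD2_c17 LD3_c44) (LK LD1_c15 LD2_c25 LD3_c34) Lrfl Lrfl
theorem f187276 : Led Lsl_dt (LP (LK LD1_c15 LD2_c1 LD3_c47)) = (LP (LK LD1_c7 LD2_c58 LD3_c1)) :=
  Lre_d IH (LK LD1_c15 LD2_c1 LD3_c47) (LK LD1_c7 LD2_c58 LD3_c1) Lrfl Lrfl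
theorem f339470 : Led Lsl_ct (LP (LK LD1_c7 LD2_c58 LD3_c1)) = (LP (LK LD1_c15 LD2_c1 LD3_c43)) :=
  Lre_c IH (LK LD1_c7 LD2_c58 LD3_c1) (LK LD1_c15 LD2_c1 LD3_c43) Lrfl Lrfl
theorem f351621 : Led Lsl_dt (LP (LK LD1_c15 LD2_c1 LD3_c43)) = (LP (LK LD1_c24 LD2_c49 LD3_c57)) :=
  Lre_d IH (LK LD1_c15 LD2_c1 LD3_c43) (LK LD1_c24 LD2_c49 LD3_c57) Lrfl Lrfl
theorem f351619 : Led Lsl_ct (LP (LK LD1_c24 LD2_c49 LD3_c57)) = (LP (LK LD1_c31 LD2_c40 LD3_c38)) :=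
  Lre_c IH (LK LD1_c24 LD2_c49 LD3_c57) (LK LD1_c31 LD2_c40 LD3_c38) Lrfl Lrfl
theorem f351767 : Led Lsl_df (LP (LK LD1_c25 LD2_c17 LD3_c44)) = (LP (LK LD1_c31 LD2_c40 LD3_c38)) :=
  Lgr Lrot13 (Lpr_ct (f247698 IH) (Lpr_dt (f247694 IH) (Lpr_ct (f194301 IH) (Lpr_af (f351605 IH) (Lpe (f187296 IH) (Lpr_dt (f187276 IH) (Lpr_ct (f339470 IH) (Lpr_dt (f351621 IH) (Lpr_ct (f351619 IH) (Lpn (LP (LK LD1_c31 LD2_c40 LD3_c38))))))))))))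
theorem f351769 : Led Lsl_dt (LP (LK LD1_c25 LD2_c17 LD3_c44)) = (LP (LK LD1_c31 LD2_c40 LD3_c38)) :=
  Lgr Lrot42 (Lpr_df (f351767 IH) (Lpn (LP (LK LD1_c31 LD2_c40 LD3_c38))))
theorem f247691 : Led Lsl_ct (LP (LK LD1_c15 LD2_c25 LD3_c34)) = (LP (LK LD1_c25 LD2_c17 LD3_c44)) :=
  Lre_c IH (LK LD1_c15 LD2_c25 LD3_c34) (LK LD1_c25 LD2_c17 LD3_c44) Lrfl Lrfl
theorem f216156 : Led Lsl_dt (LP (LK LD1_c8 LD2_c11 LD3_c35)) = (LP (LK LD1_c15 LD2_c25 LD3_c34)) :=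
  Lre_d IH (LK LD1_c8 LD2_c11 LD3_c35) (LK LD1_c15 LD2_c25 LD3_c34) Lrfl Lrfl
theorem f317444 : Led Lsl_ft (LP (LK LD1_c8 LD2_c11 LD3_c35)) = (LP (LK LD1_c15 LD2_c25 LD3_c35)) :=
  Lre_f IH (LK LD1_c8 LD2_c11 LD3_c35) (LK LD1_c15 LD2_c25 LD3_c35) Lrfl Lrfl
theorem f351620 : Led Lsl_ct (LP (LK LD1_c31 LD2_c40 LD3_c38)) = (LP (LK LD1_c24 LD2_c49 LD3_c57)) :=
  Lre_c IH (LK LD1_c31 LD2_c40 LD3_c38) (LK LD1_c24 LD2_c49 LD3_c57) Lrfl Lrfl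
theorem f351610 : Led Lsl_dt (LP (LK LD1_c24 LD2_c49 LD3_c57)) = (LP (LK LD1_c15 LD2_c1 LD3_c43)) :=
  Lre_d IH (LK LD1_c24 LD2_c49 LD3_c57) (LK LD1_c15 LD2_c1 LD3_c43) Lrfl Lrfl
theorem f351609 : Led Lsl_ct (LP (LK LD1_c15 LD2_c1 LD3_c43)) = (LP (LK LD1_c7 LD2_c58 LD3_c1)) :=
  Lre_c IH (LK LD1_c15 LD2_c1 LD3_c43) (LK LD1_c7 LD2_c58 LD3_c1) Lrfl Lrfl
theorem f187290 : Led Lsl_ct (LP (LK LD1_c15 LD2_c1 LD3_c47)) = (LP (LK LD1_c24 LD2_c50 LD3_c0)) :=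
  Lre_c IH (LK LD1_c15 LD2_c1 LD3_c47) (LK LD1_c24 LD2_c50 LD3_c0) Lrfl Lrfl
theorem f351805 : Led Lsl_at (LP (LK LD1_c15 LD2_c25 LD3_c35)) = (LP (LK LD1_c24 LD2_c50 LD3_c0)) :=
  Lgr Lrot33 (Lpe (f317444 IH) (Lpr_dt (f216156 IH) (Lpr_ct (f247691 IH) (Lpr_dt (f351769 IH) (Lpr_ct (f351620 IH) (Lpr_dt (f351610 IH) (Lpr_ct (f351609 IH) (Lpr_dt (K10.f187283 IH) (Lpr_ct (f187290 IH) (Lpn (LP (LK LD1_c24 LD2_c50 LD3_c0))))))))))))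
theorem f317398 : Led Lsl_ft (LP (LK LD1_c24 LD2_c50 LD3_c0)) = (LP (LK LD1_c15 LD2_c1 LD3_c46)) :=
  Lre_f IH (LK LD1_c24 LD2_c50 LD3_c0) (LK LD1_c15 LD2_c1 LD3_c46) Lrfl Lrfl
theorem f351809 : Led Lsl_af (LP (LK LD1_c8 LD2_c11 LD3_c35)) = (LP (LK LD1_c15 LD2_c1 LD3_c46)) :=
  Lgr Lrot45 (Lpr_ft (f317444 IH) (Lpr_at (f351805 IH) (Lpr_ft (f317398 IH) (Lpn (LP (LK LD1_c15 LD2_c1 LD3_c46))))))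
theorem f247695 : Led Lsl_gt (LP (LK LD1_c15 LD2_c25 LD3_c33)) = (LP (LK LD1_c8 LD2_c11 LD3_c35)) :=
  Lre_g IH (LK LD1_c15 LD2_c25 LD3_c33) (LK LD1_c8 LD2_c11 LD3_c35) Lrfl Lrfl
theorem f351815 : Led Lsl_gf (LP (LK LD1_c15 LD2_c25 LD3_c33)) = (LP (LK LD1_c24 LD2_c50 LD3_c0)) :=
  Lgr Lrot47 (Lpr_gt (f247695 IH) (Lpr_af (f351809 IH) (Lpe (f317398 IH) (Lpn (LP (LK LD1_c24 LD2_c50 LD3_c0))))))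
theorem f351817 : Led Lsl_dt (LP (LK LD1_c15 LD2_c25 LD3_c33)) = (LP (LK LD1_c25 LD2_c17 LD3_c43)) :=
  Lre_d IH (LK LD1_c15 LD2_c25 LD3_c33) (LK LD1_c25 LD2_c17 LD3_c43) Lrfl Lrfl
theorem f194358 : Led Lsl_et (LP (LK LD1_c15 LD2_c1 LD3_c46)) = (LP (LK LD1_c7 LD2_c58 LD3_c2)) :=
  Lre_e IH (LK LD1_c15 LD2_c1 LD3_c46) (LK LD1_c7 LD2_c58 LD3_c2) Lrfl Lrfl
theorem f290864 : Led Lsl_et (LP (LK LD1_c4 LD2_c5 LD3_c18)) = (LP (LK LD1_c8 LD2_c11 LD3_c28)) :=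
  Lre_e IH (LK LD1_c4 LD2_c5 LD3_c18) (LK LD1_c8 LD2_c11 LD3_c28) Lrfl Lrfl
theorem f317399 : Led Lsl_ft (LP (LK LD1_c8 LD2_c11 LD3_c28)) = (LP (LK LD1_c15 LD2_c25 LD3_c22)) :=
  Lre_f IH (LK LD1_c8 LD2_c11 LD3_c28) (LK LD1_c15 LD2_c25 LD3_c22) Lrfl Lrfl
theorem f317400 : Led Lsl_ef (LP (LK LD1_c24 LD2_c50 LD3_c0)) = (LP (LK LD1_c15 LD2_c25 LD3_c22)) :=
  Lgr Lrot21 (Lpr_ft (f317398 IH) (Lpr_et (f194358 IH) (Lpr_ft (K20.f317388 IH) (Lpr_et (f290864 IH) (Lpr_ft (f317399 IH) (Lpn (LP (LK LD1_c15 LD2_c25 LD3_c22))))))))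
theorem f322250 : Led Lsl_dt (LP (LK LD1_c15 LD2_c25 LD3_c22)) = (LP (LK LD1_c25 LD2_c17 LD3_c39)) :=
  Lre_d IH (LK LD1_c15 LD2_c25 LD3_c22) (LK LD1_c25 LD2_c17 LD3_c39) Lrfl Lrfl
theorem f182955 : Led Lsl_ct (LP (LK LD1_c8 LD2_c11 LD3_c31)) = (LP (LK LD1_c15 LD2_c25 LD3_c22)) :=
  Lre_c IH (LK LD1_c8 LD2_c11 LD3_c31) (LK LD1_c15 LD2_c25 LD3_c22) Lrfl Lrfl
theorem f322254 : Led Lsl_dt (LP (LK LD1_c25 LD2_c17 LD3_c39)) = (LP (LK LD1_c15 LD2_c25 LD3_c22)) :=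
  Lre_d IH (LK LD1_c25 LD2_c17 LD3_c39) (LK LD1_c15 LD2_c25 LD3_c22) Lrfl Lrfl
theorem f228843 : Led Lsl_ct (LP (LK LD1_c11 LD2_c4 LD3_c51)) = (LP (LK LD1_c5 LD2_c36 LD3_c16)) :=
  Lre_c IH (LK LD1_c11 LD2_c4 LD3_c51) (LK LD1_c5 LD2_c36 LD3_c16) Lrfl Lrfl
theorem f196704 : Led Lsl_dt (LP (LK LD1_c10 LD2_c35 LD3_c23)) = (LP (LK LD1_c19 LD2_c10 LD3_c52)) :=
  Lre_d IH (LK LD1_c10 LD2_c35 LD3_c23) (LK LD1_c19 LD2_c10 LD3_c52) Lrfl Lrfl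
theorem f322255 : Led Lsl_gf (LP (LK LD1_c25 LD2_c17 LD3_c39)) = (LP (LK LD1_c19 LD2_c10 LD3_c52)) :=
  Lgr Lrot143 (Lpr_dt (f322254 IH) (Lpe (f182955 IH) (Lpr_df (K20.f322242 IH) (Lpe (K20.f228839 IH) (Lpe (K15.f228816 IH) (Lpe (K22.f228837 IH) (Lpe (f228843 IH) (Lpe (K22.f298673 IH) (Lpr_dt (f196704 IH) (Lpn (LP (LK LD1_c19 LD2_c10 LD3_c52))))))))))))
theorem f220760 : Led Lsl_et (LP (LK LD1_c10 LD2_c35 LD3_c23)) = (LP (LK LD1_c5 LD2_c22 LD3_c32)) :=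
  Lre_e IH (LK LD1_c10 LD2_c35 LD3_c23) (LK LD1_c5 LD2_c22 LD3_c32) Lrfl Lrfl
theorem f221558 : Led Lsl_et (LP (LK LD1_c9 LD2_c40 LD3_c38)) = (LP (LK LD1_c4 LD2_c54 LD3_c30)) :=
  Lre_e IH (LK LD1_c9 LD2_c40 LD3_c38) (LK LD1_c4 LD2_c54 LD3_c30) Lrfl Lrfl
theorem f187329 : Led Lsl_dt (LP (LK LD1_c9 LD2_c40 LD3_c38)) = (LP (LK LD1_c17 LD2_c48 LD3_c7)) :=
  Lre_d IH (LK LD1_c9 LD2_c40 LD3_c38) (LK LD1_c17 LD2_c48 LD3_c7) Lrfl Lrfl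
theorem f351818 : Led Lsl_gt (LP (LK LD1_c25 LD2_c17 LD3_c43)) = (LP (LK LD1_c17 LD2_c48 LD3_c7)) :=
  Lgr Lrot139 (Lpe (f351817 IH) (Lpr_gf (f351815 IH) (Lpr_ef (f317400 IH) (Lpr_dt (f322250 IH) (Lpr_gf (f322255 IH) (Lpe (f196704 IH) (Lpr_et (f220760 IH) (Lpr_gf (K13.f221554 IH) (Lpe (f221558 IH) (Lpr_dt (f187329 IH) (Lpn (LP (LK LD1_c17 LD2_c48 LD3_c7)))))))))))))
theorem f187286 : Led Lsl_ct (LP (LK LD1_c24 LD2_c50 LD3_c0)) = (LP (LK LD1_c15 LD2_c1 LD3_c47)) :=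
  Lre_c IH (LK LD1_c24 LD2_c50 LD3_c0) (LK LD1_c15 LD2_c1 LD3_c47) Lrfl Lrfl
theorem f194304 : Led Lsl_gt (LP (LK LD1_c8 LD2_c11 LD3_c37)) = (LP (LK LD1_c4 LD2_c5 LD3_c22)) :=
  Lre_g IH (LK LD1_c8 LD2_c11 LD3_c37) (LK LD1_c4 LD2_c5 LD3_c22) Lrfl Lrfl
theorem f351765 : Led Lsl_gf (LP (LK LD1_c8 LD2_c11 LD3_c37)) = (LP (LK LD1_c15 LD2_c1 LD3_c47)) :=
  Lgr Lrot47 (Lpr_gt (f194304 IH) (Lpr_af (f351605 IH) (Lpe (f187296 IH) (Lpn (LP (LK LD1_c15 LD2_c1 LD3_c47))))))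
theorem f187313 : Led Lsl_dt (LP (LK LD1_c17 LD2_c48 LD3_c7)) = (LP (LK LD1_c9 LD2_c40 LD3_c38)) :=
  Lre_d IH (LK LD1_c17 LD2_c48 LD3_c7) (LK LD1_c9 LD2_c40 LD3_c38) Lrfl Lrfl
theorem f187328 : Led Lsl_ct (LP (LK LD1_c4 LD2_c54 LD3_c31)) = (LP (LK LD1_c9 LD2_c40 LD3_c38)) :=
  Lre_c IH (LK LD1_c4 LD2_c54 LD3_c31) (LK LD1_c9 LD2_c40 LD3_c38) Lrfl Lrfl
theorem f187310 : Led Lsl_gt (LP (LK LD1_c8 LD2_c13 LD3_c48)) = (LP (LK LD1_c4 LD2_c6 LD3_c37)) :=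
  Lre_g IH (LK LD1_c8 LD2_c13 LD3_c48) (LK LD1_c4 LD2_c6 LD3_c37) Lrfl Lrfl
theorem f351822 : Led Lsl_dt (LP (LK LD1_c8 LD2_c11 LD3_c37)) = (LP (LK LD1_c8 LD2_c13 LD3_c48)) :=
  Lgr Lrot57 (Lpr_gf (f351765 IH) (Lpe (f187286 IH) (Lpe (f351815 IH) (Lpr_dt (f351817 IH) (Lpr_gt (f351818 IH) (Lpr_dt (f187313 IH) (Lpe (f187328 IH) (Lpr_df (K10.f187317 IH) (Lpe (f187310 IH) (Lpn (LP (LK LD1_c8 LD2_c13 LD3_c48))))))))))))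
theorem f351833 : Led Lsl_df (LP (LK LD1_c8 LD2_c11 LD3_c37)) = (LP (LK LD1_c8 LD2_c13 LD3_c48)) :=
  Lgr Lrot38 (Lpr_dt (f351822 IH) (Lpn (LP (LK LD1_c8 LD2_c13 LD3_c48))))
theorem f247686 : Led Lsl_et (LP (LK LD1_c2 LD2_c29 LD3_c3)) = (LP (LK LD1_c1 LD2_c55 LD3_c50)) :=
  Lgr Lrot87 (Lpr_ef (K14.f247680 IH) (Lpn (LP (LK LD1_c1 LD2_c55 LD3_c50))))
theorem f55006 : Led Lsl_et (LP (LK LD1_c3 LD2_c58 LD3_c6)) = (LP (LK LD1_c7 LD2_c57 LD3_c38)) :=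
  Lre_e IH (LK LD1_c3 LD2_c58 LD3_c6) (LK LD1_c7 LD2_c57 LD3_c38) Lrfl Lrfl
theorem f247689 : Led Lsl_df (LP (LK LD1_c4 LD2_c5 LD3_c22)) = (LP (LK LD1_c7 LD2_c57 LD3_c38)) :=
  Lgr Lrot70 (Lpr_et (K20.f55277 IH) (Lpe (K14.f247637 IH) (Lpr_et (f247686 IH) (Lpr_dt (K13.f41266 IH) (Lpr_et (f55006 IH) (Lpn (LP (LK LD1_c7 LD2_c57 LD3_c38))))))))
theorem f266881 : Led Lsl_et (LP (LK LD1_c1 LD2_c55 LD3_c61)) = (LP (LK LD1_c3 LD2_c58 LD3_c26)) :=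
  Lre_e IH (LK LD1_c1 LD2_c55 LD3_c61) (LK LD1_c3 LD2_c58 LD3_c26) Lrfl Lrfl
theorem f351841 : Led Lsl_ef (LP (LK LD1_c7 LD2_c58 LD3_c15)) = (LP (LK LD1_c8 LD2_c13 LD3_c48)) :=
  Lgr Lrot17 (Lpe (K22.f167972 IH) (Lpe (f266881 IH) (Lpr_dt (K15.f266870 IH) (Lpe (K16.f179870 IH) (Lpe (K18.f226842 IH) (Lpr_gf (K13.f226816 IH) (Lpe (K20.f199699 IH) (Lpe (f247689 IH) (Lpe (f194304 IH) (Lpr_df (f351833 IH) (Lpn (LP (LK LD1_c8 LD2_c13 LD3_c48)))))))))))))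
theorem f351849 : Led Lsl_et (LP (LK LD1_c7 LD2_c58 LD3_c15)) = (LP (LK LD1_c8 LD2_c13 LD3_c48)) :=
  Lgr Lrot87 (Lpr_ef (f351841 IH) (Lpn (LP (LK LD1_c8 LD2_c13 LD3_c48))))
theorem f167973 : Led Lsl_dt (LP (LK LD1_c7 LD2_c58 LD3_c15)) = (LP (LK LD1_c15 LD2_c2 LD3_c15)) :=
  Lre_d IH (LK LD1_c7 LD2_c58 LD3_c15) (LK LD1_c15 LD2_c2 LD3_c15) Lrfl Lrfl
theorem f183115 : Led Lsl_dt (LP (LK LD1_c10 LD2_c11 LD3_c10)) = (LP (LK LD1_c18 LD2_c33 LD3_c27)) :=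
  Lre_d IH (LK LD1_c10 LD2_c11 LD3_c10) (LK LD1_c18 LD2_c33 LD3_c27) Lrfl Lrfl
theorem f351857 : Led Lsl_gf (LP (LK LD1_c15 LD2_c2 LD3_c15)) = (LP (LK LD1_c18 LD2_c33 LD3_c27)) :=
  Lgr Lrot134 (Lpe (f167973 IH) (Lpr_et (f351849 IH) (Lpr_gt (f187310 IH) (Lpe (K23.f187309 IH) (Lpe (K10.f187301 IH) (Lpe (K14.f253940 IH) (Lpe (K10.f189564 IH) (Lpr_et (K19.f253944 IH) (Lpr_gt (K14.f183114 IH) (Lpr_dt (f183115 IH) (Lpn (LP (LK LD1_c18 LD2_c33 LD3_c27)))))))))))))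
theorem f342393 : Led Lsl_gt (LP (LK LD1_c4 LD2_c54 LD3_c31)) = (LP (LK LD1_c2 LD2_c44 LD3_c18)) :=
  Lgr Lrot9 (Lpr_df (K10.f187317 IH) (Lpr_gt (K23.f342389 IH) (Lpr_ct (K23.f338641 IH) (Lpe (K23.f338642 IH) (Lpr_ct (K23.f283743 IH) (Lpe (K19.f194739 IH) (Lpe (K19.f305504 IH) (Lpr_gf (K24.f338664 IH) (Lpe (K24.f178234 IH) (Lpn (LP (LK LD1_c2 LD2_c44 LD3_c18))))))))))))
theorem f178223 : Led Lsl_et (LP (LK LD1_c2 LD2_c44 LD3_c20)) = (LP (LK LD1_c5 LD2_c36 LD3_c58)) :=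
  Lre_e IH (LK LD1_c2 LD2_c44 LD3_c20) (LK LD1_c5 LD2_c36 LD3_c58) Lrfl Lrfl
theorem f178239 : Led Lsl_gt (LP (LK LD1_c5 LD2_c36 LD3_c58)) = (LP (LK LD1_c11 LD2_c6 LD3_c3)) :=
  Lre_g IH (LK LD1_c5 LD2_c36 LD3_c58) (LK LD1_c11 LD2_c6 LD3_c3) Lrfl Lrfl
theorem f351859 : Led Lsl_et (LP (LK LD1_c10 LD2_c11 LD3_c10)) = (LP (LK LD1_c11 LD2_c6 LD3_c3)) :=
  Lgr Lrot122 (Lpr_dt (f183115 IH) (Lpe (f351857 IH) (Lpe (f167973 IH) (Lpr_et (f351849 IH) (Lpr_gt (f187310 IH) (Lpe (K10.f187317 IH) (Lpr_gt (f342393 IH) (Lpe (K24.f178189 IH) (Lpr_et (f178223 IH) (Lpr_gt (f178239 IH) (Lpn (LP (LK LD1_c11 LD2_c6 LD3_c3)))))))))))))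
theorem f351869 : Led Lsl_ef (LP (LK LD1_c10 LD2_c11 LD3_c10)) = (LP (LK LD1_c11 LD2_c6 LD3_c3)) :=
  Lgr Lrot88 (Lpr_et (f351859 IH) (Lpn (LP (LK LD1_c11 LD2_c6 LD3_c3))))
theorem f351878 : Led Lsl_dt (LP (LK LD1_c7 LD2_c58 LD3_c42)) = (LP (LK LD1_c11 LD2_c6 LD3_c3)) :=
  Lgr Lrot77 (Lpe (K14.f54990 IH) (Lpe (K23.f254184 IH) (Lpe (K14.f254214 IH) (Lpe (f183115 IH) (Lpr_ef (f351869 IH) (Lpn (LP (LK LD1_c11 LD2_c6 LD3_c3))))))))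
theorem f254186 : Led Lsl_et (LP (LK LD1_c7 LD2_c58 LD3_c42)) = (LP (LK LD1_c15 LD2_c3 LD3_c12)) :=
  Lre_e IH (LK LD1_c7 LD2_c58 LD3_c42) (LK LD1_c15 LD2_c3 LD3_c12) Lrfl Lrfl
theorem f307286 : Led Lsl_gt (LP (LK LD1_c15 LD2_c3 LD3_c12)) = (LP (LK LD1_c18 LD2_c9 LD3_c0)) :=
  Lgr Lrot139 (Lpe (K23.f254184 IH) (Lpe (K14.f253662 IH) (Lpe (K18.f249616 IH) (Lpr_dt (K21.f166808 IH) (Lpe (K21.f166836 IH) (Lpe (K21.f260924 IH) (Lpr_et (K23.f260926 IH) (Lpr_gf (K23.f307277 IH) (Lpe (K21.f251639 IH) (Lpr_dt (K14.f250126 IH) (Lpn (LP (LK LD1_c18 LD2_c9 LD3_c0)))))))))))))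
theorem f307234 : Led Lsl_gf (LP (LK LD1_c17 LD2_c48 LD3_c0)) = (LP (LK LD1_c16 LD2_c7 LD3_c59)) :=
  Lgr Lrot141 (Lpe (K21.f251639 IH) (Lpr_dt (K14.f250126 IH) (Lpr_gt (K21.f307226 IH) (Lpe (K21.f256408 IH) (Lpe (K21.f307220 IH) (Lpr_gt (K21.f171446 IH) (Lpe (K12.f171413 IH) (Lpr_gt (K19.f171447 IH) (Lpe (K19.f171462 IH) (Lpr_et (K19.f171463 IH) (Lpn (LP (LK LD1_c16 LD2_c7 LD3_c59)))))))))))))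
theorem f307236 : Led Lsl_gt (LP (LK LD1_c17 LD2_c48 LD3_c1)) = (LP (LK LD1_c10 LD2_c11 LD3_c56)) :=
  Lgr Lrot137 (Lpe (K21.f246185 IH) (Lpr_dt (K14.f214980 IH) (Lpr_gf (f307234 IH) (Lpe (K19.f304602 IH) (Lpr_et (K19.f304582 IH) (Lpr_gf (K19.f304578 IH) (Lpe (K17.f289829 IH) (Lpe (K19.f305756 IH) (Lpe (K19.f305828 IH) (Lpr_df (K19.f305829 IH) (Lpn (LP (LK LD1_c10 LD2_c11 LD3_c56)))))))))))))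
theorem f178236 : Led Lsl_dt (LP (LK LD1_c11 LD2_c6 LD3_c5)) = (LP (LK LD1_c5 LD2_c36 LD3_c58)) :=
  Lre_d IH (LK LD1_c11 LD2_c6 LD3_c5) (LK LD1_c5 LD2_c36 LD3_c58) Lrfl Lrfl
theorem f351883 : Led Lsl_gt (LP (LK LD1_c15 LD2_c29 LD3_c37)) = (LP (LK LD1_c11 LD2_c6 LD3_c5)) :=
  Lgr Lrot137 (Lpe (K22.f305847 IH) (Lpr_dt (K19.f305836 IH) (Lpe (f307236 IH) (Lpe (K14.f246183 IH) (Lpe (K21.f251645 IH) (Lpe (f307286 IH) (Lpe (f254186 IH) (Lpr_dt (f351878 IH) (Lpe (f178239 IH) (Lpe (f178236 IH) (Lpn (LP (LK LD1_c11 LD2_c6 LD3_c5)))))))))))))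
theorem f54542 : Led Lsl_et (LP (LK LD1_c1 LD2_c55 LD3_c56)) = (LP (LK LD1_c3 LD2_c58 LD3_c18)) :=
  Lre_e IH (LK LD1_c1 LD2_c55 LD3_c56) (LK LD1_c3 LD2_c58 LD3_c18) Lrfl Lrfl
theorem f178224 : Led Lsl_dt (LP (LK LD1_c5 LD2_c36 LD3_c58)) = (LP (LK LD1_c11 LD2_c6 LD3_c5)) :=
  Lre_d IH (LK LD1_c5 LD2_c36 LD3_c58) (LK LD1_c11 LD2_c6 LD3_c5) Lrfl Lrfl
theorem f178235 : Led Lsl_et (LP (LK LD1_c5 LD2_c36 LD3_c58)) = (LP (LK LD1_c2 LD2_c44 LD3_c20)) :=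
  Lre_e IH (LK LD1_c5 LD2_c36 LD3_c58) (LK LD1_c2 LD2_c44 LD3_c20) Lrfl Lrfl
theorem f351885 : Led Lsl_gf (LP (LK LD1_c3 LD2_c58 LD3_c18)) = (LP (LK LD1_c2 LD2_c44 LD3_c20)) :=
  Lgr Lrot141 (Lpe (f54542 IH) (Lpr_dt (K16.f43140 IH) (Lpr_gt (K9.f41369 IH) (Lpe (K1.f41236 IH) (Lpr_et (K1.f41238 IH) (Lpr_gt (K21.f54537 IH) (Lpr_dt (K19.f54539 IH) (Lpr_gt (f351883 IH) (Lpe (f178224 IH) (Lpr_et (f178235 IH) (Lpn (LP (LK LD1_c2 LD2_c44 LD3_c20)))))))))))))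
theorem f47969 : Led Lsl_dt (LP (LK LD1_c7 LD2_c58 LD3_c0)) = (LP (LK LD1_c3 LD2_c58 LD3_c18)) :=
  Lre_d IH (LK LD1_c7 LD2_c58 LD3_c0) (LK LD1_c3 LD2_c58 LD3_c18) Lrfl Lrfl
theorem f218899 : Led Lsl_bt (LP (LK LD1_c7 LD2_c58 LD3_c18)) = (LP (LK LD1_c3 LD2_c58 LD3_c29)) :=
  Lre_b IH (LK LD1_c7 LD2_c58 LD3_c18) (LK LD1_c3 LD2_c58 LD3_c29) Lrfl Lrfl
theorem f41364 : Led Lsl_dt (LP (LK LD1_c3 LD2_c58 LD3_c29)) = (LP (LK LD1_c7 LD2_c58 LD3_c24)) :=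
  Lre_d IH (LK LD1_c3 LD2_c58 LD3_c29) (LK LD1_c7 LD2_c58 LD3_c24) Lrfl Lrfl
theorem f223112 : Led Lsl_bt (LP (LK LD1_c7 LD2_c58 LD3_c24)) = (LP (LK LD1_c5 LD2_c15 LD3_c19)) :=
  Lgr Lrot95 (Lpe (f41364 IH) (Lpe (f218899 IH) (Lpr_df (K23.f223097 IH) (Lpn (LP (LK LD1_c5 LD2_c15 LD3_c19))))))
theorem f223116 : Led Lsl_ef (LP (LK LD1_c7 LD2_c58 LD3_c24)) = (LP (LK LD1_c4 LD2_c5 LD3_c2)) :=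
  Lgr Lrot29 (Lpr_bt (f223112 IH) (Lpr_et (K23.f189773 IH) (Lpe (K10.f192148 IH) (Lpn (LP (LK LD1_c4 LD2_c5 LD3_c2))))))
theorem f178214 : Led Lsl_bt (LP (LK LD1_c2 LD2_c44 LD3_c20)) = (LP (LK LD1_c1 LD2_c18 LD3_c31)) :=
  Lre_b IH (LK LD1_c2 LD2_c44 LD3_c20) (LK LD1_c1 LD2_c18 LD3_c31) Lrfl Lrfl
theorem f178215 : Led Lsl_bt (LP (LK LD1_c1 LD2_c18 LD3_c30)) = (LP (LK LD1_c2 LD2_c44 LD3_c18)) :=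
  Lre_b IH (LK LD1_c1 LD2_c18 LD3_c30) (LK LD1_c2 LD2_c44 LD3_c18) Lrfl Lrfl
theorem f178216 : Led Lsl_df (LP (LK LD1_c2 LD2_c44 LD3_c20)) = (LP (LK LD1_c2 LD2_c44 LD3_c18)) :=
  Lgr Lrot12 (Lpr_bt (f178214 IH) (Lpr_dt (K23.f178191 IH) (Lpr_bt (f178215 IH) (Lpn (LP (LK LD1_c2 LD2_c44 LD3_c18))))))
theorem f178230 : Led Lsl_et (LP (LK LD1_c2 LD2_c44 LD3_c18)) = (LP (LK LD1_c5 LD2_c36 LD3_c54)) :=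
  Lre_e IH (LK LD1_c2 LD2_c44 LD3_c18) (LK LD1_c5 LD2_c36 LD3_c54) Lrfl Lrfl
theorem f351889 : Led Lsl_gt (LP (LK LD1_c7 LD2_c58 LD3_c24)) = (LP (LK LD1_c5 LD2_c36 LD3_c54)) :=
  Lgr Lrot131 (Lpr_ef (f223116 IH) (Lpr_dt (K10.f47970 IH) (Lpe (K10.f46241 IH) (Lpe (K1.f46225 IH) (Lpe (K10.f47954 IH) (Lpe (K10.f47968 IH) (Lpr_dt (f47969 IH) (Lpr_gf (f351885 IH) (Lpr_df (f178216 IH) (Lpr_et (f178230 IH) (Lpn (LP (LK LD1_c5 LD2_c36 LD3_c54)))))))))))))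
theorem f55094 : Led Lsl_et (LP (LK LD1_c4 LD2_c54 LD3_c37)) = (LP (LK LD1_c2 LD2_c25 LD3_c12)) :=
  Lre_e IH (LK LD1_c4 LD2_c54 LD3_c37) (LK LD1_c2 LD2_c25 LD3_c12) Lrfl Lrfl
theorem f54552 : Led Lsl_gt (LP (LK LD1_c8 LD2_c13 LD3_c26)) = (LP (LK LD1_c4 LD2_c6 LD3_c25)) :=
  Lre_g IH (LK LD1_c8 LD2_c13 LD3_c26) (LK LD1_c4 LD2_c6 LD3_c25) Lrfl Lrfl
theorem f351894 : Led Lsl_df (LP (LK LD1_c8 LD2_c13 LD3_c26)) = (LP (LK LD1_c5 LD2_c36 LD3_c54)) :=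
  Lgr Lrot135 (Lpr_gt (f54552 IH) (Lpe (K12.f187351 IH) (Lpr_et (f55094 IH) (Lpr_gt (K9.f41228 IH) (Lpe (K1.f55071 IH) (Lpr_dt (K1.f46225 IH) (Lpr_gt (K10.f46241 IH) (Lpe (K10.f47970 IH) (Lpe (f223116 IH) (Lpr_gt (f351889 IH) (Lpn (LP (LK LD1_c5 LD2_c36 LD3_c54)))))))))))))
theorem f351900 : Led Lsl_et (LP (LK LD1_c8 LD2_c13 LD3_c26)) = (LP (LK LD1_c11 LD2_c6 LD3_c5)) :=
  Lgr Lrot71 (Lpr_df (f351894 IH) (Lpe (f178230 IH) (Lpe (K24.f178189 IH) (Lpe (f178235 IH) (Lpe (f178236 IH) (Lpn (LP (LK LD1_c11 LD2_c6 LD3_c5))))))))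
theorem f351898 : Led Lsl_dt (LP (LK LD1_c8 LD2_c13 LD3_c26)) = (LP (LK LD1_c5 LD2_c36 LD3_c54)) :=
  Lgr Lrot42 (Lpr_df (f351894 IH) (Lpn (LP (LK LD1_c5 LD2_c36 LD3_c54))))
theorem f41363 : Led Lsl_et (LP (LK LD1_c3 LD2_c58 LD3_c29)) = (LP (LK LD1_c1 LD2_c56 LD3_c0)) :=
  Lre_e IH (LK LD1_c3 LD2_c58 LD3_c29) (LK LD1_c1 LD2_c56 LD3_c0) Lrfl Lrfl
theorem f351906 : Led Lsl_gf (LP (LK LD1_c15 LD2_c29 LD3_c34)) = (LP (LK LD1_c11 LD2_c6 LD3_c5)) :=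
  Lgr Lrot138 (Lpr_dt (K19.f47900 IH) (Lpe (K19.f55000 IH) (Lpr_df (K1.f41331 IH) (Lpr_et (K1.f41122 IH) (Lpr_gt (K18.f41240 IH) (Lpe (f41363 IH) (Lpr_dt (f41364 IH) (Lpr_gt (f351889 IH) (Lpe (f351898 IH) (Lpr_et (f351900 IH) (Lpn (LP (LK LD1_c11 LD2_c6 LD3_c5)))))))))))))
theorem f47890 : Led Lsl_dt (LP (LK LD1_c8 LD2_c14 LD3_c4)) = (LP (LK LD1_c15 LD2_c29 LD3_c34)) :=
  Lre_d IH (LK LD1_c8 LD2_c14 LD3_c4) (LK LD1_c15 LD2_c29 LD3_c34) Lrfl Lrfl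
theorem f305777 : Led Lsl_et (LP (LK LD1_c4 LD2_c18 LD3_c53)) = (LP (LK LD1_c8 LD2_c36 LD3_c32)) :=
  Lre_e IH (LK LD1_c4 LD2_c18 LD3_c53) (LK LD1_c8 LD2_c36 LD3_c32) Lrfl Lrfl
theorem f326841 : Led Lsl_gf (LP (LK LD1_c9 LD2_c37 LD3_c30)) = (LP (LK LD1_c8 LD2_c36 LD3_c32)) :=
  Lgr Lrot138 (Lpr_dt (K21.f170105 IH) (Lpr_gt (K21.f326836 IH) (Lpr_df (K12.f219357 IH) (Lpr_et (K12.f219355 IH) (Lpr_gt (K17.f276616 IH) (Lpe (K19.f276622 IH) (Lpe (K19.f278632 IH) (Lpr_gt (K19.f305780 IH) (Lpe (K19.f248590 IH) (Lpr_et (f305777 IH) (Lpn (LP (LK LD1_c8 LD2_c36 LD3_c32)))))))))))))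
theorem f170103 : Led Lsl_dt (LP (LK LD1_c4 LD2_c52 LD3_c43)) = (LP (LK LD1_c9 LD2_c37 LD3_c30)) :=
  Lre_d IH (LK LD1_c4 LD2_c52 LD3_c43) (LK LD1_c9 LD2_c37 LD3_c30) Lrfl Lrfl
theorem f170108 : Led Lsl_et (LP (LK LD1_c4 LD2_c52 LD3_c43)) = (LP (LK LD1_c9 LD2_c37 LD3_c31)) :=
  Lre_e IH (LK LD1_c4 LD2_c52 LD3_c43) (LK LD1_c9 LD2_c37 LD3_c31) Lrfl Lrfl
theorem f326843 : Led Lsl_gt (LP (LK LD1_c9 LD2_c37 LD3_c31)) = (LP (LK LD1_c16 LD2_c9 LD3_c31)) :=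
  Lgr Lrot137 (Lpe (f170108 IH) (Lpr_dt (f170103 IH) (Lpr_gf (f326841 IH) (Lpe (K21.f305771 IH) (Lpr_et (K21.f166983 IH) (Lpe (K19.f166949 IH) (Lpr_ef (K21.f305870 IH) (Lpe (K21.f305868 IH) (Lpr_gf (K19.f305860 IH) (Lpe (K19.f301196 IH) (Lpn (LP (LK LD1_c16 LD2_c9 LD3_c31)))))))))))))
theorem f301237 : Led Lsl_dt (LP (LK LD1_c9 LD2_c36 LD3_c37)) = (LP (LK LD1_c15 LD2_c29 LD3_c35)) :=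
  Lgr Lrot42 (Lpr_df (K19.f301234 IH) (Lpn (LP (LK LD1_c15 LD2_c29 LD3_c35))))
theorem f166961 : Led Lsl_dt (LP (LK LD1_c4 LD2_c12 LD3_c30)) = (LP (LK LD1_c8 LD2_c24 LD3_c43)) :=
  Lre_d IH (LK LD1_c4 LD2_c12 LD3_c30) (LK LD1_c8 LD2_c24 LD3_c43) Lrfl Lrfl
theorem f305778 : Led Lsl_df (LP (LK LD1_c8 LD2_c24 LD3_c44)) = (LP (LK LD1_c8 LD2_c36 LD3_c32)) :=
  Lgr Lrot70 (Lpr_et (K21.f166983 IH) (Lpr_dt (f166961 IH) (Lpr_et (K19.f305773 IH) (Lpr_dt (K19.f171466 IH) (Lpr_et (f305777 IH) (Lpn (LP (LK LD1_c8 LD2_c36 LD3_c32))))))))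
theorem f171465 : Led Lsl_gt (LP (LK LD1_c4 LD2_c18 LD3_c53)) = (LP (LK LD1_c2 LD2_c6 LD3_c42)) :=
  Lre_g IH (LK LD1_c4 LD2_c18 LD3_c53) (LK LD1_c2 LD2_c6 LD3_c42) Lrfl Lrfl
theorem f251702 : Led Lsl_dt (LP (LK LD1_c15 LD2_c27 LD3_c33)) = (LP (LK LD1_c16 LD2_c7 LD3_c17)) :=
  Lgr Lrot42 (Lpr_df (K16.f251700 IH) (Lpn (LP (LK LD1_c16 LD2_c7 LD3_c17))))
theorem f167129 : Led Lsl_dt (LP (LK LD1_c8 LD2_c24 LD3_c13)) = (LP (LK LD1_c15 LD2_c48 LD3_c5)) :=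
  Lre_d IH (LK LD1_c8 LD2_c24 LD3_c13) (LK LD1_c15 LD2_c48 LD3_c5) Lrfl Lrfl
theorem f278183 : Led Lsl_dt (LP (LK LD1_c8 LD2_c35 LD3_c59)) = (LP (LK LD1_c15 LD2_c48 LD3_c6)) :=
  Lgr Lrot77 (Lpe (K16.f251699 IH) (Lpe (f251702 IH) (Lpr_ef (K16.f278179 IH) (Lpe (f167129 IH) (Lpe (K16.f278182 IH) (Lpn (LP (LK LD1_c15 LD2_c48 LD3_c6))))))))
theorem f305796 : Led Lsl_gf (LP (LK LD1_c8 LD2_c24 LD3_c44)) = (LP (LK LD1_c15 LD2_c48 LD3_c6)) :=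
  Lgr Lrot134 (Lpr_df (f305778 IH) (Lpr_et (K21.f171507 IH) (Lpr_gt (f171465 IH) (Lpe (K16.f171498 IH) (Lpr_dt (K12.f171436 IH) (Lpr_gt (K10.f171482 IH) (Lpe (K12.f188770 IH) (Lpr_et (K12.f188783 IH) (Lpr_gt (K16.f188792 IH) (Lpr_dt (f278183 IH) (Lpn (LP (LK LD1_c15 LD2_c48 LD3_c6)))))))))))))
theorem f326845 : Led Lsl_gt (LP (LK LD1_c15 LD2_c29 LD3_c35)) = (LP (LK LD1_c15 LD2_c48 LD3_c5)) :=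
  Lgr Lrot112 (Lpe (f301237 IH) (Lpe (K19.f301223 IH) (Lpe (f326843 IH) (Lpe (f170108 IH) (Lpr_dt (f170103 IH) (Lpr_gf (f326841 IH) (Lpe (K21.f305771 IH) (Lpr_gf (f305796 IH) (Lpe (K16.f278187 IH) (Lpr_dt (f167129 IH) (Lpn (LP (LK LD1_c15 LD2_c48 LD3_c5)))))))))))))
theorem f253441 : Led Lsl_et (LP (LK LD1_c0 LD2_c33 LD3_c51)) = (LP (LK LD1_c1 LD2_c0 LD3_c44)) :=
  Lgr Lrot158 (Lpe (K10.f165486 IH) (Lpr_ef (K14.f253434 IH) (Lpe (K14.f253249 IH) (Lpn (LP (LK LD1_c1 LD2_c0 LD3_c44))))))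
theorem f270920 : Led Lsl_dt (LP (LK LD1_c2 LD2_c23 LD3_c57)) = (LP (LK LD1_c2 LD2_c31 LD3_c57)) :=
  Lgr Lrot77 (Lpe (K21.f270919 IH) (Lpr_df (K16.f270912 IH) (Lpe (f253441 IH) (Lpe (K14.f165547 IH) (Lpe (K21.f246179 IH) (Lpn (LP (LK LD1_c2 LD2_c31 LD3_c57))))))))
theorem f270911 : Led Lsl_et (LP (LK LD1_c2 LD2_c23 LD3_c57)) = (LP (LK LD1_c1 LD2_c8 LD3_c61)) :=
  Lre_e IH (LK LD1_c2 LD2_c23 LD3_c57) (LK LD1_c1 LD2_c8 LD3_c61) Lrfl Lrfl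
theorem f305954 : Led Lsl_et (LP (LK LD1_c8 LD2_c36 LD3_c1)) = (LP (LK LD1_c16 LD2_c7 LD3_c22)) :=
  Lre_e IH (LK LD1_c8 LD2_c36 LD3_c1) (LK LD1_c16 LD2_c7 LD3_c22) Lrfl Lrfl
theorem f306049 : Led Lsl_gf (LP (LK LD1_c15 LD2_c48 LD3_c6)) = (LP (LK LD1_c16 LD2_c7 LD3_c22)) :=
  Lgr Lrot138 (Lpe (K16.f278188 IH) (Lpr_gt (K16.f279272 IH) (Lpe (K16.f279268 IH) (Lpr_et (K16.f279260 IH) (Lpe (K16.f279196 IH) (Lpe (f270911 IH) (Lpr_dt (f270920 IH) (Lpr_gt (K19.f192575 IH) (Lpr_df (K19.f305952 IH) (Lpr_et (f305954 IH) (Lpn (LP (LK LD1_c16 LD2_c7 LD3_c22)))))))))))))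
theorem f305981 : Led Lsl_et (LP (LK LD1_c8 LD2_c24 LD3_c7)) = (LP (LK LD1_c15 LD2_c47 LD3_c53)) :=
  Lre_e IH (LK LD1_c8 LD2_c24 LD3_c7) (LK LD1_c15 LD2_c47 LD3_c53) Lrfl Lrfl
theorem f246686 : Led Lsl_et (LP (LK LD1_c16 LD2_c7 LD3_c22)) = (LP (LK LD1_c8 LD2_c36 LD3_c1)) :=
  Lre_e IH (LK LD1_c16 LD2_c7 LD3_c22) (LK LD1_c8 LD2_c36 LD3_c1) Lrfl Lrfl
theorem f305982 : Led Lsl_dt (LP (LK LD1_c15 LD2_c47 LD3_c53)) = (LP (LK LD1_c16 LD2_c7 LD3_c22)) :=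
  Lgr Lrot77 (Lpe (f305981 IH) (Lpr_df (K21.f305976 IH) (Lpe (K21.f305959 IH) (Lpr_df (K19.f305952 IH) (Lpe (f246686 IH) (Lpn (LP (LK LD1_c16 LD2_c7 LD3_c22))))))))
theorem f166959 : Led Lsl_et (LP (LK LD1_c15 LD2_c47 LD3_c53)) = (LP (LK LD1_c8 LD2_c24 LD3_c7)) :=
  Lre_e IH (LK LD1_c15 LD2_c47 LD3_c53) (LK LD1_c8 LD2_c24 LD3_c7) Lrfl Lrfl
theorem f254086 : Led Lsl_gf (LP (LK LD1_c8 LD2_c37 LD3_c35)) = (LP (LK LD1_c15 LD2_c1 LD3_c24)) :=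
  Lgr Lrot76 (Lpr_af (K14.f254069 IH) (Lpe (K14.f221712 IH) (Lpr_gt (K18.f221748 IH) (Lpn (LP (LK LD1_c15 LD2_c1 LD3_c24))))))
theorem f306051 : Led Lsl_gt (LP (LK LD1_c16 LD2_c7 LD3_c17)) = (LP (LK LD1_c9 LD2_c36 LD3_c53)) :=
  Lgr Lrot137 (Lpe (K16.f251704 IH) (Lpr_dt (f278183 IH) (Lpr_gf (f306049 IH) (Lpe (f305982 IH) (Lpr_et (f166959 IH) (Lpe (K21.f166838 IH) (Lpe (K18.f301695 IH) (Lpr_dt (K21.f254075 IH) (Lpr_gf (f254086 IH) (Lpe (K18.f301648 IH) (Lpn (LP (LK LD1_c9 LD2_c36 LD3_c53)))))))))))))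
theorem f301653 : Led Lsl_df (LP (LK LD1_c9 LD2_c36 LD3_c53)) = (LP (LK LD1_c15 LD2_c1 LD3_c24)) :=
  Lgr Lrot38 (Lpr_dt (K18.f301648 IH) (Lpn (LP (LK LD1_c15 LD2_c1 LD3_c24))))
theorem f178240 : Led Lsl_gt (LP (LK LD1_c11 LD2_c6 LD3_c4)) = (LP (LK LD1_c5 LD2_c36 LD3_c58)) :=
  Lre_g IH (LK LD1_c11 LD2_c6 LD3_c4) (LK LD1_c5 LD2_c36 LD3_c58) Lrfl Lrfl
theorem f351912 : Led Lsl_et (LP (LK LD1_c15 LD2_c1 LD3_c24)) = (LP (LK LD1_c11 LD2_c6 LD3_c4)) :=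
  Lgr Lrot121 (Lpe (f301653 IH) (Lpe (f306051 IH) (Lpe (f251702 IH) (Lpr_et (K16.f278185 IH) (Lpe (f326845 IH) (Lpe (K19.f301239 IH) (Lpr_dt (f47890 IH) (Lpr_gf (f351906 IH) (Lpe (f178224 IH) (Lpe (f178240 IH) (Lpn (LP (LK LD1_c11 LD2_c6 LD3_c4)))))))))))))
theorem f301655 : Led Lsl_et (LP (LK LD1_c4 LD2_c52 LD3_c13)) = (LP (LK LD1_c9 LD2_c36 LD3_c53)) :=
  Lre_e IH (LK LD1_c4 LD2_c52 LD3_c13) (LK LD1_c9 LD2_c36 LD3_c53) Lrfl Lrfl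
theorem f320334 : Led Lsl_et (LP (LK LD1_c7 LD2_c58 LD3_c43)) = (LP (LK LD1_c9 LD2_c36 LD3_c52)) :=
  Lgr Lrot87 (Lpr_ef (K23.f320327 IH) (Lpn (LP (LK LD1_c9 LD2_c36 LD3_c52))))
theorem f351918 : Led Lsl_df (LP (LK LD1_c7 LD2_c58 LD3_c43)) = (LP (LK LD1_c11 LD2_c6 LD3_c4)) :=
  Lgr Lrot70 (Lpr_et (f320334 IH) (Lpr_dt (K23.f301656 IH) (Lpr_et (f301655 IH) (Lpr_dt (K18.f301648 IH) (Lpr_et (f351912 IH) (Lpn (LP (LK LD1_c11 LD2_c6 LD3_c4))))))))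
theorem f41340 : Led Lsl_et (LP (LK LD1_c3 LD2_c58 LD3_c35)) = (LP (LK LD1_c1 LD2_c56 LD3_c2)) :=
  Lre_e IH (LK LD1_c3 LD2_c58 LD3_c35) (LK LD1_c1 LD2_c56 LD3_c2) Lrfl Lrfl
theorem f41350 : Led Lsl_et (LP (LK LD1_c7 LD2_c57 LD3_c44)) = (LP (LK LD1_c3 LD2_c58 LD3_c9)) :=
  Lre_e IH (LK LD1_c7 LD2_c57 LD3_c44) (LK LD1_c3 LD2_c58 LD3_c9) Lrfl Lrfl
theorem f223970 : Led Lsl_gt (LP (LK LD1_c4 LD2_c5 LD3_c13)) = (LP (LK LD1_c8 LD2_c11 LD3_c14)) :=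
  Lre_g IH (LK LD1_c4 LD2_c5 LD3_c13) (LK LD1_c8 LD2_c11 LD3_c14) Lrfl Lrfl
theorem f291762 : Led Lsl_et (LP (LK LD1_c4 LD2_c5 LD3_c12)) = (LP (LK LD1_c8 LD2_c11 LD3_c13)) :=
  Lre_e IH (LK LD1_c4 LD2_c5 LD3_c12) (LK LD1_c8 LD2_c11 LD3_c13) Lrfl Lrfl
theorem f291763 : Led Lsl_gt (LP (LK LD1_c8 LD2_c11 LD3_c13)) = (LP (LK LD1_c15 LD2_c24 LD3_c54)) :=
  Lre_g IH (LK LD1_c8 LD2_c11 LD3_c13) (LK LD1_c15 LD2_c24 LD3_c54) Lrfl Lrfl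
theorem f217457 : Led Lsl_et (LP (LK LD1_c4 LD2_c55 LD3_c29)) = (LP (LK LD1_c2 LD2_c25 LD3_c36)) :=
  Lre_e IH (LK LD1_c4 LD2_c55 LD3_c29) (LK LD1_c2 LD2_c25 LD3_c36) Lrfl Lrfl
theorem f217458 : Led Lsl_dt (LP (LK LD1_c4 LD2_c55 LD3_c29)) = (LP (LK LD1_c9 LD2_c42 LD3_c38)) :=
  Lre_d IH (LK LD1_c4 LD2_c55 LD3_c29) (LK LD1_c9 LD2_c42 LD3_c38) Lrfl Lrfl
theorem f217479 : Led Lsl_gt (LP (LK LD1_c17 LD2_c51 LD3_c29)) = (LP (LK LD1_c9 LD2_c42 LD3_c38)) :=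
  Lre_g IH (LK LD1_c17 LD2_c51 LD3_c29) (LK LD1_c9 LD2_c42 LD3_c38) Lrfl Lrfl
theorem f291764 : Led Lsl_dt (LP (LK LD1_c15 LD2_c24 LD3_c54)) = (LP (LK LD1_c17 LD2_c51 LD3_c29)) :=
  Lgr Lrot171 (Lpe (f291763 IH) (Lpe (f291762 IH) (Lpr_dt (K20.f265773 IH) (Lpr_gf (K20.f291753 IH) (Lpe (K17.f30898 IH) (Lpe (K9.f30882 IH) (Lpe (K12.f217446 IH) (Lpe (f217457 IH) (Lpr_dt (f217458 IH) (Lpe (f217479 IH) (Lpn (LP (LK LD1_c17 LD2_c51 LD3_c29)))))))))))))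
theorem f223957 : Led Lsl_ct (LP (LK LD1_c8 LD2_c11 LD3_c13)) = (LP (LK LD1_c4 LD2_c5 LD3_c13)) :=
  Lre_c IH (LK LD1_c8 LD2_c11 LD3_c13) (LK LD1_c4 LD2_c5 LD3_c13) Lrfl Lrfl
theorem f291773 : Led Lsl_dt (LP (LK LD1_c9 LD2_c42 LD3_c38)) = (LP (LK LD1_c4 LD2_c55 LD3_c29)) :=
  Lre_d IH (LK LD1_c9 LD2_c42 LD3_c38) (LK LD1_c4 LD2_c55 LD3_c29) Lrfl Lrfl
theorem f291774 : Led Lsl_ct (LP (LK LD1_c2 LD2_c25 LD3_c37)) = (LP (LK LD1_c4 LD2_c55 LD3_c29)) :=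
  Lre_c IH (LK LD1_c2 LD2_c25 LD3_c37) (LK LD1_c4 LD2_c55 LD3_c29) Lrfl Lrfl
theorem f217556 : Led Lsl_gt (LP (LK LD1_c9 LD2_c42 LD3_c43)) = (LP (LK LD1_c4 LD2_c55 LD3_c32)) :=
  Lre_g IH (LK LD1_c9 LD2_c42 LD3_c43) (LK LD1_c4 LD2_c55 LD3_c32) Lrfl Lrfl
theorem f291775 : Led Lsl_dt (LP (LK LD1_c8 LD2_c11 LD3_c14)) = (LP (LK LD1_c9 LD2_c42 LD3_c43)) :=
  Lgr Lrot57 (Lpe (f223970 IH) (Lpe (f223957 IH) (Lpr_gt (f291763 IH) (Lpr_dt (f291764 IH) (Lpr_gt (f217479 IH) (Lpr_dt (f291773 IH) (Lpe (f291774 IH) (Lpe (K15.f217502 IH) (Lpe (f217556 IH) (Lpn (LP (LK LD1_c9 LD2_c42 LD3_c43))))))))))))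
theorem f291805 : Led Lsl_df (LP (LK LD1_c8 LD2_c11 LD3_c14)) = (LP (LK LD1_c9 LD2_c42 LD3_c43)) :=
  Lgr Lrot38 (Lpr_dt (f291775 IH) (Lpn (LP (LK LD1_c9 LD2_c42 LD3_c43))))
theorem f291807 : Led Lsl_et (LP (LK LD1_c9 LD2_c42 LD3_c43)) = (LP (LK LD1_c17 LD2_c51 LD3_c35)) :=
  Lre_e IH (LK LD1_c9 LD2_c42 LD3_c43) (LK LD1_c17 LD2_c51 LD3_c35) Lrfl Lrfl
theorem f351951 : Led Lsl_gt (LP (LK LD1_c17 LD2_c51 LD3_c35)) = (LP (LK LD1_c11 LD2_c6 LD3_c4)) :=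
  Lgr Lrot137 (Lpe (f291807 IH) (Lpe (f291805 IH) (Lpe (f223970 IH) (Lpe (K15.f223958 IH) (Lpr_et (f41350 IH) (Lpe (K9.f41349 IH) (Lpe (f41340 IH) (Lpr_dt (K1.f41326 IH) (Lpe (K23.f41342 IH) (Lpr_df (f351918 IH) (Lpn (LP (LK LD1_c11 LD2_c6 LD3_c4)))))))))))))
theorem f351953 : Led Lsl_at (LP (LK LD1_c11 LD2_c5 LD3_c61)) = (LP (LK LD1_c5 LD2_c36 LD3_c58)) :=
  Lre_a IH (LK LD1_c11 LD2_c5 LD3_c61) (LK LD1_c5 LD2_c36 LD3_c58) Lrfl Lrfl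
theorem f351954 : Led Lsl_ft (LP (LK LD1_c17 LD2_c51 LD3_c35)) = (LP (LK LD1_c11 LD2_c5 LD3_c61)) :=
  Lgr Lrot2 (Lpr_gt (f351951 IH) (Lpr_gt (f178240 IH) (Lpe (f351953 IH) (Lpn (LP (LK LD1_c11 LD2_c5 LD3_c61))))))
theorem f351962 : Led Lsl_ff (LP (LK LD1_c17 LD2_c51 LD3_c35)) = (LP (LK LD1_c11 LD2_c5 LD3_c61)) :=
  Lgr Lrot3 (Lpr_ft (f351954 IH) (Lpn (LP (LK LD1_c11 LD2_c5 LD3_c61))))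
theorem f351956 : Led Lsl_ct (LP (LK LD1_c17 LD2_c51 LD3_c35)) = (LP (LK LD1_c27 LD2_c38 LD3_c11)) :=
  Lre_c IH (LK LD1_c17 LD2_c51 LD3_c35) (LK LD1_c27 LD2_c38 LD3_c11) Lrfl Lrfl
theorem f351965 : Led Lsl_ct (LP (LK LD1_c19 LD2_c59 LD3_c23)) = (LP (LK LD1_c11 LD2_c5 LD3_c61)) :=
  Lre_c IH (LK LD1_c19 LD2_c59 LD3_c23) (LK LD1_c11 LD2_c5 LD3_c61) Lrfl Lrfl
theorem f351966 : Led Lsl_ft (LP (LK LD1_c27 LD2_c38 LD3_c11)) = (LP (LK LD1_c19 LD2_c59 LD3_c23)) :=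
  Lgr Lrot4 (Lpe (f351956 IH) (Lpr_ff (f351962 IH) (Lpe (f351965 IH) (Lpn (LP (LK LD1_c19 LD2_c59 LD3_c23))))))
theorem f351969 : Led Lsl_at (LP (LK LD1_c19 LD2_c59 LD3_c23)) = (LP (LK LD1_c11 LD2_c6 LD3_c2)) :=
  Lre_a IH (LK LD1_c19 LD2_c59 LD3_c23) (LK LD1_c11 LD2_c6 LD3_c2) Lrfl Lrfl
theorem f335794 : Led Lsl_gt (LP (LK LD1_c19 LD2_c59 LD3_c29)) = (LP (LK LD1_c11 LD2_c6 LD3_c2)) :=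
  Lre_g IH (LK LD1_c19 LD2_c59 LD3_c29) (LK LD1_c11 LD2_c6 LD3_c2) Lrfl Lrfl
theorem f351975 : Led Lsl_gt (LP (LK LD1_c27 LD2_c38 LD3_c11)) = (LP (LK LD1_c19 LD2_c59 LD3_c29)) :=
  Lgr Lrot5 (Lpr_ft (f351966 IH) (Lpr_at (f351969 IH) (Lpe (f335794 IH) (Lpn (LP (LK LD1_c19 LD2_c59 LD3_c29))))))
theorem f351957 : Led Lsl_ct (LP (LK LD1_c27 LD2_c38 LD3_c11)) = (LP (LK LD1_c17 LD2_c51 LD3_c35)) :=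
  Lre_c IH (LK LD1_c27 LD2_c38 LD3_c11) (LK LD1_c17 LD2_c51 LD3_c35) Lrfl Lrfl
theorem f41345 : Led Lsl_gt (LP (LK LD1_c24 LD2_c52 LD3_c17)) = (LP (LK LD1_c15 LD2_c3 LD3_c9)) :=
  Lre_g IH (LK LD1_c24 LD2_c52 LD3_c17) (LK LD1_c15 LD2_c3 LD3_c9) Lrfl Lrfl
theorem f351977 : Led Lsl_df (LP (LK LD1_c24 LD2_c52 LD3_c17)) = (LP (LK LD1_c19 LD2_c59 LD3_c29)) :=
  Lgr Lrot153 (Lpr_gt (f41345 IH) (Lpr_dt (K1.f41334 IH) (Lpe (K20.f41335 IH) (Lpe (K1.f41326 IH) (Lpe (K23.f41342 IH) (Lpr_df (f351918 IH) (Lpe (f351951 IH) (Lpe (f351957 IH) (Lpr_gt (f351975 IH) (Lpn (LP (LK LD1_c19 LD2_c59 LD3_c29))))))))))))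
theorem f41357 : Led Lsl_dt (LP (LK LD1_c24 LD2_c49 LD3_c6)) = (LP (LK LD1_c15 LD2_c1 LD3_c13)) :=
  Lre_d IH (LK LD1_c24 LD2_c49 LD3_c6) (LK LD1_c15 LD2_c1 LD3_c13) Lrfl Lrfl
theorem f47867 : Led Lsl_dt (LP (LK LD1_c15 LD2_c27 LD3_c41)) = (LP (LK LD1_c25 LD2_c19 LD3_c35)) :=
  Lre_d IH (LK LD1_c15 LD2_c27 LD3_c41) (LK LD1_c25 LD2_c19 LD3_c35) Lrfl Lrfl
theorem f54558 : Led Lsl_ff (LP (LK LD1_c24 LD2_c49 LD3_c6)) = (LP (LK LD1_c25 LD2_c19 LD3_c35)) :=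
  Lgr Lrot19 (Lpr_dt (f41357 IH) (Lpr_ft (K1.f54545 IH) (Lpr_dt (f47867 IH) (Lpn (LP (LK LD1_c25 LD2_c19 LD3_c35))))))
theorem f42777 : Led Lsl_at (LP (LK LD1_c24 LD2_c49 LD3_c6)) = (LP (LK LD1_c15 LD2_c3 LD3_c9)) :=
  Lre_a IH (LK LD1_c24 LD2_c49 LD3_c6) (LK LD1_c15 LD2_c3 LD3_c9) Lrfl Lrfl
theorem f54979 : Led Lsl_gf (LP (LK LD1_c24 LD2_c52 LD3_c17)) = (LP (LK LD1_c25 LD2_c19 LD3_c35)) :=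
  Lgr Lrot47 (Lpr_gt (f41345 IH) (Lpe (f42777 IH) (Lpr_ff (f54558 IH) (Lpn (LP (LK LD1_c25 LD2_c19 LD3_c35))))))
theorem f54966 : Led Lsl_dt (LP (LK LD1_c8 LD2_c13 LD3_c52)) = (LP (LK LD1_c15 LD2_c29 LD3_c3)) :=
  Lre_d IH (LK LD1_c8 LD2_c13 LD3_c52) (LK LD1_c15 LD2_c29 LD3_c3) Lrfl Lrfl
theorem f54983 : Led Lsl_gt (LP (LK LD1_c25 LD2_c21 LD3_c41)) = (LP (LK LD1_c15 LD2_c29 LD3_c3)) :=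
  Lre_g IH (LK LD1_c25 LD2_c21 LD3_c41) (LK LD1_c15 LD2_c29 LD3_c3) Lrfl Lrfl
theorem f41336 : Led Lsl_dt (LP (LK LD1_c7 LD2_c58 LD3_c41)) = (LP (LK LD1_c15 LD2_c3 LD3_c9)) :=
  Lre_d IH (LK LD1_c7 LD2_c58 LD3_c41) (LK LD1_c15 LD2_c3 LD3_c9) Lrfl Lrfl
theorem f54958 : Led Lsl_et (LP (LK LD1_c7 LD2_c58 LD3_c41)) = (LP (LK LD1_c3 LD2_c58 LD3_c34)) :=
  Lre_e IH (LK LD1_c7 LD2_c58 LD3_c41) (LK LD1_c3 LD2_c58 LD3_c34) Lrfl Lrfl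
theorem f196422 : Led Lsl_dt (LP (LK LD1_c4 LD2_c4 LD3_c0)) = (LP (LK LD1_c8 LD2_c8 LD3_c35)) :=
  Lre_d IH (LK LD1_c4 LD2_c4 LD3_c0) (LK LD1_c8 LD2_c8 LD3_c35) Lrfl Lrfl
theorem f295936 : Led Lsl_gt (LP (LK LD1_c8 LD2_c8 LD3_c35)) = (LP (LK LD1_c15 LD2_c1 LD3_c22)) :=
  Lgr Lrot94 (Lpe (K17.f288810 IH) (Lpr_gt (K18.f295934 IH) (Lpr_dt (K23.f178773 IH) (Lpr_gt (K15.f178506 IH) (Lpr_dt (K16.f178771 IH) (Lpe (K17.f267558 IH) (Lpr_df (K18.f261270 IH) (Lpr_gf (K15.f254139 IH) (Lpe (K16.f221759 IH) (Lpn (LP (LK LD1_c15 LD2_c1 LD3_c22))))))))))))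
theorem f307350 : Led Lsl_bt (LP (LK LD1_c9 LD2_c37 LD3_c7)) = (LP (LK LD1_c17 LD2_c42 LD3_c36)) :=
  Lre_b IH (LK LD1_c9 LD2_c37 LD3_c7) (LK LD1_c17 LD2_c42 LD3_c36) Lrfl Lrfl
theorem f336521 : Led Lsl_bf (LP (LK LD1_c15 LD2_c1 LD3_c25)) = (LP (LK LD1_c11 LD2_c8 LD3_c48)) :=
  Lgr Lrot93 (Lpr_dt (K21.f307251 IH) (Lpr_bt (f307350 IH) (Lpr_dt (K22.f336519 IH) (Lpn (LP (LK LD1_c11 LD2_c8 LD3_c48))))))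
theorem f218568 : Led Lsl_gt (LP (LK LD1_c9 LD2_c41 LD3_c15)) = (LP (LK LD1_c17 LD2_c49 LD3_c7)) :=
  Lre_g IH (LK LD1_c9 LD2_c41 LD3_c15) (LK LD1_c17 LD2_c49 LD3_c7) Lrfl Lrfl
theorem f228853 : Led Lsl_ct (LP (LK LD1_c8 LD2_c25 LD3_c39)) = (LP (LK LD1_c4 LD2_c13 LD3_c12)) :=
  Lre_c IH (LK LD1_c8 LD2_c25 LD3_c39) (LK LD1_c4 LD2_c13 LD3_c12) Lrfl Lrfl
theorem f261189 : Led Lsl_ft (LP (LK LD1_c9 LD2_c41 LD3_c15)) = (LP (LK LD1_c17 LD2_c49 LD3_c10)) :=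
  Lre_f IH (LK LD1_c9 LD2_c41 LD3_c15) (LK LD1_c17 LD2_c49 LD3_c10) Lrfl Lrfl
theorem f261191 : Led Lsl_gt (LP (LK LD1_c17 LD2_c49 LD3_c7)) = (LP (LK LD1_c11 LD2_c4 LD3_c45)) :=
  Lgr Lrot46 (Lpe (f218568 IH) (Lpr_ft (f261189 IH) (Lpr_at (K15.f261179 IH) (Lpn (LP (LK LD1_c11 LD2_c4 LD3_c45))))))
theorem f287806 : Led Lsl_ct (LP (LK LD1_c10 LD2_c35 LD3_c24)) = (LP (LK LD1_c17 LD2_c49 LD3_c7)) :=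
  Lgr Lrot152 (Lpe (K24.f196643 IH) (Lpr_df (K22.f196633 IH) (Lpr_gt (K17.f284518 IH) (Lpr_ct (K17.f284513 IH) (Lpr_gt (K17.f287804 IH) (Lpr_ct (f228853 IH) (Lpe (K19.f228854 IH) (Lpe (K15.f228858 IH) (Lpe (f261191 IH) (Lpn (LP (LK LD1_c17 LD2_c49 LD3_c7))))))))))))
theorem f289017 : Led Lsl_bt (LP (LK LD1_c10 LD2_c32 LD3_c30)) = (LP (LK LD1_c19 LD2_c5 LD3_c33)) :=
  Lre_b IH (LK LD1_c10 LD2_c32 LD3_c30) (LK LD1_c19 LD2_c5 LD3_c33) Lrfl Lrfl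
theorem f323868 : Led Lsl_bf (LP (LK LD1_c8 LD2_c21 LD3_c36)) = (LP (LK LD1_c10 LD2_c35 LD3_c24)) :=
  Lgr Lrot96 (Lpr_et (K21.f289014 IH) (Lpr_bt (f289017 IH) (Lpr_et (K24.f323866 IH) (Lpn (LP (LK LD1_c10 LD2_c35 LD3_c24))))))
theorem f336548 : Led Lsl_gf (LP (LK LD1_c15 LD2_c44 LD3_c3)) = (LP (LK LD1_c10 LD2_c35 LD3_c54)) :=
  Lgr Lrot129 (Lpr_cf (K22.f336527 IH) (Lpe (f336521 IH) (Lpr_gt (K21.f221750 IH) (Lpr_bf (K15.f221688 IH) (Lpr_ct (K21.f218570 IH) (Lpr_gt (f218568 IH) (Lpe (f287806 IH) (Lpe (f323868 IH) (Lpr_gt (K18.f289004 IH) (Lpr_ct (K17.f276860 IH) (Lpn (LP (LK LD1_c10 LD2_c35 LD3_c54)))))))))))))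
theorem f279002 : Led Lsl_bt (LP (LK LD1_c10 LD2_c47 LD3_c54)) = (LP (LK LD1_c5 LD2_c28 LD3_c23)) :=
  Lre_b IH (LK LD1_c10 LD2_c47 LD3_c54) (LK LD1_c5 LD2_c28 LD3_c23) Lrfl Lrfl
theorem f279005 : Led Lsl_ct (LP (LK LD1_c10 LD2_c47 LD3_c54)) = (LP (LK LD1_c19 LD2_c32 LD3_c2)) :=
  Lre_c IH (LK LD1_c10 LD2_c47 LD3_c54) (LK LD1_c19 LD2_c32 LD3_c2) Lrfl Lrfl
theorem f221701 : Led Lsl_ct (LP (LK LD1_c7 LD2_c57 LD3_c55)) = (LP (LK LD1_c15 LD2_c1 LD3_c23)) :=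
  Lre_c IH (LK LD1_c7 LD2_c57 LD3_c55) (LK LD1_c15 LD2_c1 LD3_c23) Lrfl Lrfl
theorem f336550 : Led Lsl_gf (LP (LK LD1_c19 LD2_c32 LD3_c2)) = (LP (LK LD1_c15 LD2_c1 LD3_c23)) :=
  Lgr Lrot129 (Lpe (f279005 IH) (Lpr_bt (f279002 IH) (Lpe (K20.f278997 IH) (Lpr_bf (K17.f289002 IH) (Lpr_ct (K17.f276860 IH) (Lpe (f336548 IH) (Lpr_cf (K22.f336527 IH) (Lpe (f336521 IH) (Lpr_gt (K21.f221750 IH) (Lpr_ct (f221701 IH) (Lpn (LP (LK LD1_c15 LD2_c1 LD3_c23)))))))))))))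
theorem f351997 : Led Lsl_ef (LP (LK LD1_c19 LD2_c32 LD3_c2)) = (LP (LK LD1_c19 LD2_c59 LD3_c29)) :=
  Lgr Lrot17 (Lpr_gf (f336550 IH) (Lpe (K14.f254110 IH) (Lpr_dt (K16.f254122 IH) (Lpe (f295936 IH) (Lpe (f196422 IH) (Lpr_gf (K12.f196418 IH) (Lpe (f54958 IH) (Lpr_dt (f41336 IH) (Lpe (f41345 IH) (Lpr_df (f351977 IH) (Lpn (LP (LK LD1_c19 LD2_c59 LD3_c29)))))))))))))
theorem f254090 : Led Lsl_af (LP (LK LD1_c16 LD2_c9 LD3_c37)) = (LP (LK LD1_c24 LD2_c49 LD3_c22)) :=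
  Lgr Lrot0 (Lpr_at (K14.f254084 IH) (Lpn (LP (LK LD1_c24 LD2_c49 LD3_c22))))
theorem f336552 : Led Lsl_gt (LP (LK LD1_c19 LD2_c32 LD3_c2)) = (LP (LK LD1_c16 LD2_c9 LD3_c37)) :=
  Lgr Lrot46 (Lpr_gf (f336550 IH) (Lpr_ft (K14.f254109 IH) (Lpe (f254090 IH) (Lpn (LP (LK LD1_c16 LD2_c9 LD3_c37))))))
theorem f351999 : Led Lsl_df (LP (LK LD1_c25 LD2_c21 LD3_c41)) = (LP (LK LD1_c16 LD2_c9 LD3_c37)) :=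
  Lgr Lrot135 (Lpr_gt (f54983 IH) (Lpe (f54966 IH) (Lpr_et (K17.f54965 IH) (Lpr_gt (K13.f54982 IH) (Lpe (K1.f54560 IH) (Lpr_dt (f47867 IH) (Lpe (f54979 IH) (Lpr_df (f351977 IH) (Lpe (f351997 IH) (Lpr_gt (f336552 IH) (Lpn (LP (LK LD1_c16 LD2_c9 LD3_c37)))))))))))))
theorem f179982 : Led Lsl_dt (LP (LK LD1_c16 LD2_c9 LD3_c36)) = (LP (LK LD1_c8 LD2_c37 LD3_c34)) :=
  Lre_d IH (LK LD1_c16 LD2_c9 LD3_c36) (LK LD1_c8 LD2_c37 LD3_c34) Lrfl Lrfl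
theorem f352011 : Led Lsl_ft (LP (LK LD1_c25 LD2_c21 LD3_c41)) = (LP (LK LD1_c16 LD2_c9 LD3_c36)) :=
  Lgr Lrot54 (Lpr_df (f351999 IH) (Lpe (K22.f254094 IH) (Lpe (f179982 IH) (Lpn (LP (LK LD1_c16 LD2_c9 LD3_c36))))))
theorem f221699 : Led Lsl_dt (LP (LK LD1_c24 LD2_c49 LD3_c21)) = (LP (LK LD1_c15 LD2_c1 LD3_c23)) :=
  Lre_d IH (LK LD1_c24 LD2_c49 LD3_c21) (LK LD1_c15 LD2_c1 LD3_c23) Lrfl Lrfl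
theorem f296166 : Led Lsl_ff (LP (LK LD1_c24 LD2_c49 LD3_c21)) = (LP (LK LD1_c29 LD2_c45 LD3_c43)) :=
  Lgr Lrot19 (Lpr_dt (f221699 IH) (Lpr_ft (K14.f254109 IH) (Lpr_dt (K22.f296162 IH) (Lpn (LP (LK LD1_c29 LD2_c45 LD3_c43))))))
theorem f226830 : Led Lsl_dt (LP (LK LD1_c8 LD2_c37 LD3_c34)) = (LP (LK LD1_c16 LD2_c9 LD3_c36)) :=
  Lre_d IH (LK LD1_c8 LD2_c37 LD3_c34) (LK LD1_c16 LD2_c9 LD3_c36) Lrfl Lrfl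
theorem f278160 : Led Lsl_gf (LP (LK LD1_c16 LD2_c9 LD3_c36)) = (LP (LK LD1_c20 LD2_c56 LD3_c42)) :=
  Lgr Lrot145 (Lpe (f226830 IH) (Lpr_et (K14.f226829 IH) (Lpr_gt (K13.f226786 IH) (Lpr_dt (K12.f226812 IH) (Lpr_gt (K16.f278151 IH) (Lpe (K1.f41898 IH) (Lpr_et (K18.f54519 IH) (Lpr_gt (K10.f177481 IH) (Lpe (K22.f177487 IH) (Lpr_dt (K17.f177488 IH) (Lpn (LP (LK LD1_c20 LD2_c56 LD3_c42)))))))))))))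
theorem f296192 : Led Lsl_at (LP (LK LD1_c24 LD2_c49 LD3_c21)) = (LP (LK LD1_c16 LD2_c9 LD3_c36)) :=
  Lgr Lrot26 (Lpr_ff (f296166 IH) (Lpr_gt (K22.f177489 IH) (Lpe (f278160 IH) (Lpn (LP (LK LD1_c16 LD2_c9 LD3_c36))))))
theorem f296194 : Led Lsl_af (LP (LK LD1_c24 LD2_c49 LD3_c21)) = (LP (LK LD1_c16 LD2_c9 LD3_c36)) :=
  Lgr Lrot0 (Lpr_at (f296192 IH) (Lpn (LP (LK LD1_c16 LD2_c9 LD3_c36))))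
theorem f352024 : Led Lsl_gt (LP (LK LD1_c15 LD2_c29 LD3_c3)) = (LP (LK LD1_c24 LD2_c49 LD3_c21)) :=
  Lgr Lrot46 (Lpe (f54983 IH) (Lpr_ft (f352011 IH) (Lpe (f296194 IH) (Lpn (LP (LK LD1_c24 LD2_c49 LD3_c21))))))
theorem f194270 : Led Lsl_ft (LP (LK LD1_c15 LD2_c29 LD3_c3)) = (LP (LK LD1_c25 LD2_c21 LD3_c43)) :=
  Lre_f IH (LK LD1_c15 LD2_c29 LD3_c3) (LK LD1_c25 LD2_c21 LD3_c43) Lrfl Lrfl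
theorem f352026 : Led Lsl_gf (LP (LK LD1_c29 LD2_c45 LD3_c45)) = (LP (LK LD1_c24 LD2_c49 LD3_c21)) :=
  Lgr Lrot76 (Lpr_af (K17.f283533 IH) (Lpe (f194270 IH) (Lpr_gt (f352024 IH) (Lpn (LP (LK LD1_c24 LD2_c49 LD3_c21))))))
theorem f310779 : Led Lsl_ct (LP (LK LD1_c20 LD2_c56 LD3_c43)) = (LP (LK LD1_c11 LD2_c53 LD3_c14)) :=
  Lre_c IH (LK LD1_c20 LD2_c56 LD3_c43) (LK LD1_c11 LD2_c53 LD3_c14) Lrfl Lrfl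
theorem f331298 : Led Lsl_gt (LP (LK LD1_c15 LD2_c41 LD3_c51)) = (LP (LK LD1_c8 LD2_c20 LD3_c24)) :=
  Lre_g IH (LK LD1_c15 LD2_c41 LD3_c51) (LK LD1_c8 LD2_c20 LD3_c24) Lrfl Lrfl
theorem f254045 : Led Lsl_dt (LP (LK LD1_c15 LD2_c1 LD3_c23)) = (LP (LK LD1_c24 LD2_c49 LD3_c21)) :=
  Lre_d IH (LK LD1_c15 LD2_c1 LD3_c23) (LK LD1_c24 LD2_c49 LD3_c21) Lrfl Lrfl
theorem f221703 : Led Lsl_gt (LP (LK LD1_c24 LD2_c49 LD3_c20)) = (LP (LK LD1_c15 LD2_c1 LD3_c23)) :=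
  Lre_g IH (LK LD1_c24 LD2_c49 LD3_c20) (LK LD1_c15 LD2_c1 LD3_c23) Lrfl Lrfl
theorem f352032 : Led Lsl_ct (LP (LK LD1_c15 LD2_c41 LD3_c51)) = (LP (LK LD1_c24 LD2_c49 LD3_c20)) :=
  Lgr Lrot8 (Lpr_gt (f331298 IH) (Lpe (K21.f331288 IH) (Lpr_gt (K22.f339585 IH) (Lpe (K22.f339587 IH) (Lpe (f310779 IH) (Lpe (K17.f283532 IH) (Lpr_gf (f352026 IH) (Lpe (f254045 IH) (Lpe (f221703 IH) (Lpn (LP (LK LD1_c24 LD2_c49 LD3_c20))))))))))))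
theorem f296196 : Led Lsl_af (LP (LK LD1_c15 LD2_c1 LD3_c23)) = (LP (LK LD1_c8 LD2_c37 LD3_c34)) :=
  Lgr Lrot117 (Lpr_dt (f254045 IH) (Lpr_at (f296192 IH) (Lpr_dt (f179982 IH) (Lpn (LP (LK LD1_c8 LD2_c37 LD3_c34))))))
theorem f296220 : Led Lsl_gf (LP (LK LD1_c24 LD2_c49 LD3_c20)) = (LP (LK LD1_c16 LD2_c9 LD3_c37)) :=
  Lgr Lrot47 (Lpr_gt (f221703 IH) (Lpr_af (f296196 IH) (Lpe (K14.f253892 IH) (Lpn (LP (LK LD1_c16 LD2_c9 LD3_c37))))))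
theorem f254083 : Led Lsl_bt (LP (LK LD1_c8 LD2_c37 LD3_c35)) = (LP (LK LD1_c4 LD2_c19 LD3_c48)) :=
  Lre_b IH (LK LD1_c8 LD2_c37 LD3_c35) (LK LD1_c4 LD2_c19 LD3_c48) Lrfl Lrfl
theorem f352049 : Led Lsl_bt (LP (LK LD1_c15 LD2_c41 LD3_c51)) = (LP (LK LD1_c8 LD2_c36 LD3_c45)) :=
  Lgr Lrot130 (Lpr_ct (f352032 IH) (Lpr_gf (f296220 IH) (Lpe (K14.f254074 IH) (Lpr_bt (f254083 IH) (Lpe (K19.f305098 IH) (Lpe (K19.f305100 IH) (Lpr_ct (K19.f305103 IH) (Lpr_gf (K21.f309970 IH) (Lpr_cf (K12.f228143 IH) (Lpe (K18.f228064 IH) (Lpn (LP (LK LD1_c8 LD2_c36 LD3_c45)))))))))))))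
theorem f352057 : Led Lsl_ef (LP (LK LD1_c15 LD2_c41 LD3_c51)) = (LP (LK LD1_c18 LD2_c39 LD3_c56)) :=
  Lgr Lrot29 (Lpr_bt (f352049 IH) (Lpr_et (K23.f296390 IH) (Lpr_bt (K24.f341951 IH) (Lpn (LP (LK LD1_c18 LD2_c39 LD3_c56))))))
theorem f331292 : Led Lsl_et (LP (LK LD1_c4 LD2_c10 LD3_c5)) = (LP (LK LD1_c8 LD2_c20 LD3_c24)) :=
  Lre_e IH (LK LD1_c4 LD2_c10 LD3_c5) (LK LD1_c8 LD2_c20 LD3_c24) Lrfl Lrfl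
theorem f275650 : Led Lsl_et (LP (LK LD1_c2 LD2_c11 LD3_c13)) = (LP (LK LD1_c4 LD2_c28 LD3_c5)) :=
  Lre_e IH (LK LD1_c2 LD2_c11 LD3_c13) (LK LD1_c4 LD2_c28 LD3_c5) Lrfl Lrfl
theorem f275636 : Led Lsl_gt (LP (LK LD1_c4 LD2_c28 LD3_c5)) = (LP (LK LD1_c8 LD2_c54 LD3_c10)) :=
  Lre_g IH (LK LD1_c4 LD2_c28 LD3_c5) (LK LD1_c8 LD2_c54 LD3_c10) Lrfl Lrfl
theorem f275652 : Led Lsl_dt (LP (LK LD1_c8 LD2_c54 LD3_c10)) = (LP (LK LD1_c16 LD2_c39 LD3_c17)) :=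
  Lre_d IH (LK LD1_c8 LD2_c54 LD3_c10) (LK LD1_c16 LD2_c39 LD3_c17) Lrfl Lrfl
theorem f352065 : Led Lsl_gt (LP (LK LD1_c16 LD2_c39 LD3_c17)) = (LP (LK LD1_c18 LD2_c54 LD3_c38)) :=
  Lgr Lrot139 (Lpe (f275652 IH) (Lpe (f275636 IH) (Lpe (f275650 IH) (Lpe (K18.f288787 IH) (Lpr_gf (K23.f344577 IH) (Lpr_df (K23.f344567 IH) (Lpr_et (f331292 IH) (Lpe (f331298 IH) (Lpr_ef (f352057 IH) (Lpe (K24.f271286 IH) (Lpn (LP (LK LD1_c18 LD2_c54 LD3_c38)))))))))))))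
theorem f291697 : Led Lsl_gt (LP (LK LD1_c2 LD2_c38 LD3_c35)) = (LP (LK LD1_c5 LD2_c24 LD3_c3)) :=
  Lre_g IH (LK LD1_c2 LD2_c38 LD3_c35) (LK LD1_c5 LD2_c24 LD3_c3) Lrfl Lrfl
theorem f306489 : Led Lsl_dt (LP (LK LD1_c10 LD2_c38 LD3_c53)) = (LP (LK LD1_c5 LD2_c24 LD3_c3)) :=
  Lre_d IH (LK LD1_c10 LD2_c38 LD3_c53) (LK LD1_c5 LD2_c24 LD3_c3) Lrfl Lrfl
theorem f352067 : Led Lsl_ef (LP (LK LD1_c16 LD2_c39 LD3_c17)) = (LP (LK LD1_c10 LD2_c38 LD3_c53)) :=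
  Lgr Lrot167 (Lpr_gt (f352065 IH) (Lpr_dt (K18.f271284 IH) (Lpr_gt (K18.f271270 IH) (Lpe (K16.f271276 IH) (Lpr_et (K18.f184684 IH) (Lpr_gt (K11.f184750 IH) (Lpr_ef (K19.f306479 IH) (Lpr_dt (K18.f223859 IH) (Lpr_gt (f291697 IH) (Lpe (f306489 IH) (Lpn (LP (LK LD1_c10 LD2_c38 LD3_c53)))))))))))))
theorem f352069 : Led Lsl_et (LP (LK LD1_c16 LD2_c39 LD3_c17)) = (LP (LK LD1_c10 LD2_c38 LD3_c53)) :=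
  Lgr Lrot87 (Lpr_ef (f352067 IH) (Lpn (LP (LK LD1_c10 LD2_c38 LD3_c53))))
theorem f275657 : Led Lsl_dt (LP (LK LD1_c16 LD2_c39 LD3_c17)) = (LP (LK LD1_c8 LD2_c54 LD3_c10)) :=
  Lre_d IH (LK LD1_c16 LD2_c39 LD3_c17) (LK LD1_c8 LD2_c54 LD3_c10) Lrfl Lrfl
theorem f275635 : Led Lsl_dt (LP (LK LD1_c8 LD2_c54 LD3_c12)) = (LP (LK LD1_c4 LD2_c28 LD3_c5)) :=
  Lre_d IH (LK LD1_c8 LD2_c54 LD3_c12) (LK LD1_c4 LD2_c28 LD3_c5) Lrfl Lrfl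
theorem f291275 : Led Lsl_et (LP (LK LD1_c10 LD2_c21 LD3_c6)) = (LP (LK LD1_c18 LD2_c47 LD3_c12)) :=
  Lre_e IH (LK LD1_c10 LD2_c21 LD3_c6) (LK LD1_c18 LD2_c47 LD3_c12) Lrfl Lrfl
theorem f352074 : Led Lsl_gf (LP (LK LD1_c18 LD2_c47 LD3_c12)) = (LP (LK LD1_c10 LD2_c38 LD3_c53)) :=
  Lgr Lrot141 (Lpe (f291275 IH) (Lpr_dt (K19.f294173 IH) (Lpr_gt (K19.f271412 IH) (Lpe (K16.f216755 IH) (Lpr_et (K19.f275713 IH) (Lpe (K16.f275632 IH) (Lpr_dt (f275635 IH) (Lpr_gt (f275636 IH) (Lpe (f275657 IH) (Lpr_et (f352069 IH) (Lpn (LP (LK LD1_c10 LD2_c38 LD3_c53)))))))))))))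
theorem f291266 : Led Lsl_gt (LP (LK LD1_c18 LD2_c17 LD3_c41)) = (LP (LK LD1_c10 LD2_c0 LD3_c42)) :=
  Lre_g IH (LK LD1_c18 LD2_c17 LD3_c41) (LK LD1_c10 LD2_c0 LD3_c42) Lrfl Lrfl
theorem f47686 : Led Lsl_et (LP (LK LD1_c18 LD2_c47 LD3_c12)) = (LP (LK LD1_c10 LD2_c21 LD3_c6)) :=
  Lre_e IH (LK LD1_c18 LD2_c47 LD3_c12) (LK LD1_c10 LD2_c21 LD3_c6) Lrfl Lrfl
theorem f291271 : Led Lsl_df (LP (LK LD1_c18 LD2_c17 LD3_c41)) = (LP (LK LD1_c18 LD2_c47 LD3_c12)) :=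
  Lgr Lrot170 (Lpr_gt (f291266 IH) (Lpr_df (K22.f291264 IH) (Lpr_et (K22.f254473 IH) (Lpe (K15.f256487 IH) (Lpr_dt (K15.f256478 IH) (Lpr_gt (K14.f212475 IH) (Lpe (K12.f47561 IH) (Lpr_et (K12.f47643 IH) (Lpr_gt (K19.f47652 IH) (Lpe (f47686 IH) (Lpn (LP (LK LD1_c18 LD2_c47 LD3_c12)))))))))))))
theorem f291273 : Led Lsl_dt (LP (LK LD1_c18 LD2_c17 LD3_c41)) = (LP (LK LD1_c18 LD2_c47 LD3_c12)) :=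
  Lgr Lrot42 (Lpr_df (f291271 IH) (Lpn (LP (LK LD1_c18 LD2_c47 LD3_c12))))
theorem f331512 : Led Lsl_dt (LP (LK LD1_c5 LD2_c24 LD3_c3)) = (LP (LK LD1_c10 LD2_c38 LD3_c53)) :=
  Lre_d IH (LK LD1_c5 LD2_c24 LD3_c3) (LK LD1_c10 LD2_c38 LD3_c53) Lrfl Lrfl
theorem f196640 : Led Lsl_gt (LP (LK LD1_c10 LD2_c35 LD3_c25)) = (LP (LK LD1_c5 LD2_c22 LD3_c33)) :=
  Lre_g IH (LK LD1_c10 LD2_c35 LD3_c25) (LK LD1_c5 LD2_c22 LD3_c33) Lrfl Lrfl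
theorem f352076 : Led Lsl_et (LP (LK LD1_c18 LD2_c17 LD3_c41)) = (LP (LK LD1_c10 LD2_c35 LD3_c25)) :=
  Lgr Lrot185 (Lpr_dt (f291273 IH) (Lpr_gf (f352074 IH) (Lpe (f331512 IH) (Lpe (f291697 IH) (Lpe (K18.f223853 IH) (Lpr_dt (K12.f173121 IH) (Lpe (K14.f246591 IH) (Lpe (K12.f196616 IH) (Lpr_et (K13.f196618 IH) (Lpe (f196640 IH) (Lpn (LP (LK LD1_c10 LD2_c35 LD3_c25)))))))))))))
theorem f352073 : Led Lsl_et (LP (LK LD1_c5 LD2_c24 LD3_c3)) = (LP (LK LD1_c10 LD2_c38 LD3_c54)) :=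
  Lre_e IH (LK LD1_c5 LD2_c24 LD3_c3) (LK LD1_c10 LD2_c38 LD3_c54) Lrfl Lrfl
theorem f352086 : Led Lsl_gf (LP (LK LD1_c10 LD2_c38 LD3_c54)) = (LP (LK LD1_c15 LD2_c32 LD3_c4)) :=
  Lgr Lrot141 (Lpe (f352073 IH) (Lpr_dt (f331512 IH) (Lpe (f352074 IH) (Lpe (f291273 IH) (Lpr_et (f352076 IH) (Lpr_gt (f196640 IH) (Lpr_dt (K13.f196621 IH) (Lpr_gt (K17.f284518 IH) (Lpe (K17.f284164 IH) (Lpe (K14.f253346 IH) (Lpn (LP (LK LD1_c15 LD2_c32 LD3_c4)))))))))))))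
theorem f196647 : Led Lsl_gt (LP (LK LD1_c10 LD2_c35 LD3_c41)) = (LP (LK LD1_c5 LD2_c22 LD3_c40)) :=
  Lre_g IH (LK LD1_c10 LD2_c35 LD3_c41) (LK LD1_c5 LD2_c22 LD3_c40) Lrfl Lrfl
theorem f352090 : Led Lsl_dt (LP (LK LD1_c10 LD2_c38 LD3_c54)) = (LP (LK LD1_c10 LD2_c35 LD3_c41)) :=
  Lgr Lrot171 (Lpr_gf (f352086 IH) (Lpr_ef (K14.f253346 IH) (Lpr_dt (K17.f284164 IH) (Lpe (K17.f284518 IH) (Lpe (K13.f196621 IH) (Lpr_et (K15.f196645 IH) (Lpe (K12.f196596 IH) (Lpe (K19.f196646 IH) (Lpr_dt (K19.f194705 IH) (Lpe (f196647 IH) (Lpn (LP (LK LD1_c10 LD2_c35 LD3_c41)))))))))))))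
theorem f224811 : Led Lsl_et (LP (LK LD1_c10 LD2_c38 LD3_c54)) = (LP (LK LD1_c5 LD2_c24 LD3_c3)) :=
  Lre_e IH (LK LD1_c10 LD2_c38 LD3_c54) (LK LD1_c5 LD2_c24 LD3_c3) Lrfl Lrfl
theorem f224810 : Led Lsl_gt (LP (LK LD1_c5 LD2_c24 LD3_c3)) = (LP (LK LD1_c10 LD2_c38 LD3_c42)) :=
  Lre_g IH (LK LD1_c5 LD2_c24 LD3_c3) (LK LD1_c10 LD2_c38 LD3_c42) Lrfl Lrfl
theorem f310843 : Led Lsl_cf (LP (LK LD1_c10 LD2_c31 LD3_c13)) = (LP (LK LD1_c16 LD2_c51 LD3_c14)) :=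
  Lgr Lrot11 (Lpr_ct (K19.f310839 IH) (Lpn (LP (LK LD1_c16 LD2_c51 LD3_c14))))
theorem f312666 : Led Lsl_at (LP (LK LD1_c10 LD2_c31 LD3_c13)) = (LP (LK LD1_c5 LD2_c23 LD3_c38)) :=
  Lgr Lrot107 (Lpr_cf (f310843 IH) (Lpr_af (K19.f312664 IH) (Lpe (K19.f169192 IH) (Lpn (LP (LK LD1_c5 LD2_c23 LD3_c38))))))
theorem f342020 : Led Lsl_gt (LP (LK LD1_c8 LD2_c36 LD3_c53)) = (LP (LK LD1_c5 LD2_c23 LD3_c38)) :=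
  Lgr Lrot46 (Lpr_gf (K23.f342017 IH) (Lpr_ft (K19.f310811 IH) (Lpr_at (f312666 IH) (Lpn (LP (LK LD1_c5 LD2_c23 LD3_c38))))))
theorem f352096 : Led Lsl_gt (LP (LK LD1_c10 LD2_c35 LD3_c15)) = (LP (LK LD1_c10 LD2_c35 LD3_c41)) :=
  Lgr Lrot112 (Lpe (K19.f182848 IH) (Lpr_et (K19.f310925 IH) (Lpe (f342020 IH) (Lpe (K23.f342009 IH) (Lpr_dt (K23.f342022 IH) (Lpe (K22.f331504 IH) (Lpr_df (K20.f306498 IH) (Lpe (f224810 IH) (Lpe (f224811 IH) (Lpr_dt (f352090 IH) (Lpn (LP (LK LD1_c10 LD2_c35 LD3_c41)))))))))))))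
theorem f352098 : Led Lsl_et (LP (LK LD1_c8 LD2_c54 LD3_c10)) = (LP (LK LD1_c10 LD2_c35 LD3_c41)) :=
  Lgr Lrot122 (Lpr_dt (f275652 IH) (Lpr_gt (f352065 IH) (Lpr_df (K24.f271286 IH) (Lpe (f352057 IH) (Lpr_gt (f331298 IH) (Lpe (K21.f331288 IH) (Lpr_gt (K22.f339585 IH) (Lpe (K22.f339591 IH) (Lpe (K22.f283478 IH) (Lpr_gt (f352096 IH) (Lpn (LP (LK LD1_c10 LD2_c35 LD3_c41)))))))))))))
theorem f201023 : Led Lsl_gt (LP (LK LD1_c5 LD2_c22 LD3_c40)) = (LP (LK LD1_c10 LD2_c35 LD3_c40)) :=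
  Lre_g IH (LK LD1_c5 LD2_c22 LD3_c40) (LK LD1_c10 LD2_c35 LD3_c40) Lrfl Lrfl
theorem f263512 : Led Lsl_et (LP (LK LD1_c19 LD2_c11 LD3_c10)) = (LP (LK LD1_c10 LD2_c35 LD3_c40)) :=
  Lre_e IH (LK LD1_c19 LD2_c11 LD3_c10) (LK LD1_c10 LD2_c35 LD3_c40) Lrfl Lrfl
theorem f263513 : Led Lsl_dt (LP (LK LD1_c19 LD2_c11 LD3_c10)) = (LP (LK LD1_c18 LD2_c38 LD3_c38)) :=
  Lgr Lrot136 (Lpr_et (f263512 IH) (Lpe (f201023 IH) (Lpe (K10.f194693 IH) (Lpr_dt (K13.f42527 IH) (Lpe (K15.f172019 IH) (Lpe (K15.f256095 IH) (Lpr_gf (K16.f263510 IH) (Lpe (K20.f240267 IH) (Lpe (K20.f240273 IH) (Lpe (K22.f240277 IH) (Lpn (LP (LK LD1_c18 LD2_c38 LD3_c38)))))))))))))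
theorem f263515 : Led Lsl_df (LP (LK LD1_c19 LD2_c11 LD3_c10)) = (LP (LK LD1_c18 LD2_c38 LD3_c38)) :=
  Lgr Lrot38 (Lpr_dt (f263513 IH) (Lpn (LP (LK LD1_c18 LD2_c38 LD3_c38))))
theorem f310750 : Led Lsl_gt (LP (LK LD1_c5 LD2_c22 LD3_c25)) = (LP (LK LD1_c5 LD2_c22 LD3_c39)) :=
  Lgr Lrot5 (Lpr_ft (K19.f182851 IH) (Lpr_at (K19.f310739 IH) (Lpe (K23.f231250 IH) (Lpn (LP (LK LD1_c5 LD2_c22 LD3_c39))))))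
theorem f340111 : Led Lsl_gt (LP (LK LD1_c10 LD2_c35 LD3_c40)) = (LP (LK LD1_c10 LD2_c35 LD3_c15)) :=
  Lgr Lrot137 (Lpe (f263512 IH) (Lpr_dt (f263513 IH) (Lpe (K22.f335849 IH) (Lpr_df (K19.f312377 IH) (Lpe (K19.f312367 IH) (Lpr_gf (K23.f340109 IH) (Lpr_ef (K23.f231268 IH) (Lpe (K23.f231251 IH) (Lpe (f310750 IH) (Lpe (K24.f182859 IH) (Lpn (LP (LK LD1_c10 LD2_c35 LD3_c15)))))))))))))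
theorem f339593 : Led Lsl_et (LP (LK LD1_c10 LD2_c37 LD3_c47)) = (LP (LK LD1_c8 LD2_c34 LD3_c5)) :=
  Lgr Lrot71 (Lpe (K15.f169194 IH) (Lpe (K19.f310925 IH) (Lpe (K24.f182859 IH) (Lpr_ef (K22.f283478 IH) (Lpr_df (K22.f339587 IH) (Lpn (LP (LK LD1_c8 LD2_c34 LD3_c5))))))))
theorem f169198 : Led Lsl_dt (LP (LK LD1_c10 LD2_c37 LD3_c47)) = (LP (LK LD1_c5 LD2_c23 LD3_c38)) :=
  Lre_d IH (LK LD1_c10 LD2_c37 LD3_c47) (LK LD1_c5 LD2_c23 LD3_c38) Lrfl Lrfl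
theorem f261360 : Led Lsl_et (LP (LK LD1_c8 LD2_c16 LD3_c37)) = (LP (LK LD1_c4 LD2_c8 LD3_c17)) :=
  Lre_e IH (LK LD1_c8 LD2_c16 LD3_c37) (LK LD1_c4 LD2_c8 LD3_c17) Lrfl Lrfl
theorem f187083 : Led Lsl_et (LP (LK LD1_c8 LD2_c40 LD3_c52)) = (LP (LK LD1_c4 LD2_c21 LD3_c38)) :=
  Lre_e IH (LK LD1_c8 LD2_c40 LD3_c52) (LK LD1_c4 LD2_c21 LD3_c38) Lrfl Lrfl
theorem f267170 : Led Lsl_dt (LP (LK LD1_c8 LD2_c16 LD3_c37)) = (LP (LK LD1_c5 LD2_c30 LD3_c12)) :=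
  Lgr Lrot136 (Lpr_et (f261360 IH) (Lpr_gf (K15.f267160 IH) (Lpe (K1.f42075 IH) (Lpr_dt (K14.f29053 IH) (Lpe (K10.f187071 IH) (Lpe (K13.f187074 IH) (Lpe (K14.f187075 IH) (Lpe (f187083 IH) (Lpr_dt (K19.f251043 IH) (Lpr_gf (K23.f261363 IH) (Lpn (LP (LK LD1_c5 LD2_c30 LD3_c12)))))))))))))
theorem f339595 : Led Lsl_gt (LP (LK LD1_c5 LD2_c23 LD3_c38)) = (LP (LK LD1_c5 LD2_c30 LD3_c12)) :=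
  Lgr Lrot112 (Lpe (f169198 IH) (Lpr_et (f339593 IH) (Lpe (K22.f339585 IH) (Lpe (K19.f219654 IH) (Lpr_dt (K14.f219646 IH) (Lpe (K21.f324703 IH) (Lpe (K12.f43078 IH) (Lpe (K17.f267162 IH) (Lpe (f261360 IH) (Lpr_dt (f267170 IH) (Lpn (LP (LK LD1_c5 LD2_c30 LD3_c12)))))))))))))
theorem f187974 : Led Lsl_gt (LP (LK LD1_c8 LD2_c20 LD3_c28)) = (LP (LK LD1_c15 LD2_c41 LD3_c60)) :=
  Lre_g IH (LK LD1_c8 LD2_c20 LD3_c28) (LK LD1_c15 LD2_c41 LD3_c60) Lrfl Lrfl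
theorem f340123 : Led Lsl_df (LP (LK LD1_c10 LD2_c35 LD3_c40)) = (LP (LK LD1_c15 LD2_c41 LD3_c60)) :=
  Lgr Lrot135 (Lpr_gt (f340111 IH) (Lpe (K19.f182848 IH) (Lpr_et (K19.f310925 IH) (Lpr_gt (f339595 IH) (Lpe (K23.f261358 IH) (Lpe (K17.f259584 IH) (Lpe (K14.f251582 IH) (Lpe (K10.f170844 IH) (Lpr_et (K17.f251591 IH) (Lpr_gt (f187974 IH) (Lpn (LP (LK LD1_c15 LD2_c41 LD3_c60)))))))))))))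
theorem f340125 : Led Lsl_dt (LP (LK LD1_c10 LD2_c35 LD3_c40)) = (LP (LK LD1_c15 LD2_c41 LD3_c60)) :=
  Lgr Lrot42 (Lpr_df (f340123 IH) (Lpn (LP (LK LD1_c15 LD2_c41 LD3_c60))))
theorem f263517 : Led Lsl_et (LP (LK LD1_c10 LD2_c35 LD3_c40)) = (LP (LK LD1_c19 LD2_c11 LD3_c10)) :=
  Lre_e IH (LK LD1_c10 LD2_c35 LD3_c40) (LK LD1_c19 LD2_c11 LD3_c10) Lrfl Lrfl
theorem f170826 : Led Lsl_dt (LP (LK LD1_c4 LD2_c10 LD3_c7)) = (LP (LK LD1_c8 LD2_c20 LD3_c28)) :=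
  Lre_d IH (LK LD1_c4 LD2_c10 LD3_c7) (LK LD1_c8 LD2_c20 LD3_c28) Lrfl Lrfl
theorem f170827 : Led Lsl_et (LP (LK LD1_c4 LD2_c10 LD3_c7)) = (LP (LK LD1_c2 LD2_c2 LD3_c16)) :=
  Lre_e IH (LK LD1_c4 LD2_c10 LD3_c7) (LK LD1_c2 LD2_c2 LD3_c16) Lrfl Lrfl
theorem f340127 : Led Lsl_gt (LP (LK LD1_c19 LD2_c11 LD3_c10)) = (LP (LK LD1_c16 LD2_c42 LD3_c37)) :=
  Lgr Lrot137 (Lpe (f263517 IH) (Lpr_dt (f340125 IH) (Lpe (f187974 IH) (Lpe (f170826 IH) (Lpr_et (f170827 IH) (Lpe (K18.f284566 IH) (Lpe (K22.f282879 IH) (Lpr_dt (K20.f317747 IH) (Lpe (K22.f214815 IH) (Lpr_df (K22.f329895 IH) (Lpn (LP (LK LD1_c16 LD2_c42 LD3_c37)))))))))))))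
theorem f329899 : Led Lsl_et (LP (LK LD1_c16 LD2_c34 LD3_c43)) = (LP (LK LD1_c26 LD2_c32 LD3_c10)) :=
  Lre_e IH (LK LD1_c16 LD2_c34 LD3_c43) (LK LD1_c26 LD2_c32 LD3_c10) Lrfl Lrfl
theorem f352071 : Led Lsl_gf (LP (LK LD1_c16 LD2_c39 LD3_c17)) = (LP (LK LD1_c26 LD2_c32 LD3_c10)) :=
  Lgr Lrot141 (Lpr_ef (f352067 IH) (Lpr_dt (f306489 IH) (Lpr_gt (f224810 IH) (Lpe (K19.f306496 IH) (Lpr_et (K20.f306501 IH) (Lpr_gt (K22.f335849 IH) (Lpe (f263515 IH) (Lpr_gt (f340127 IH) (Lpe (K22.f329897 IH) (Lpr_et (f329899 IH) (Lpn (LP (LK LD1_c26 LD2_c32 LD3_c10)))))))))))))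
theorem f337674 : Led Lsl_bt (LP (LK LD1_c26 LD2_c32 LD3_c10)) = (LP (LK LD1_c16 LD2_c35 LD3_c5)) :=
  Lgr Lrot119 (Lpe (f329899 IH) (Lpr_bf (K22.f337665 IH) (Lpe (K23.f230927 IH) (Lpn (LP (LK LD1_c16 LD2_c35 LD3_c5))))))
theorem f341105 : Led Lsl_bt (LP (LK LD1_c10 LD2_c3 LD3_c29)) = (LP (LK LD1_c18 LD2_c22 LD3_c8)) :=
  Lre_b IH (LK LD1_c10 LD2_c3 LD3_c29) (LK LD1_c18 LD2_c22 LD3_c8) Lrfl Lrfl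
theorem f341106 : Led Lsl_df (LP (LK LD1_c26 LD2_c32 LD3_c10)) = (LP (LK LD1_c18 LD2_c22 LD3_c8)) :=
  Lgr Lrot12 (Lpr_bt (f337674 IH) (Lpr_dt (K23.f341103 IH) (Lpr_bt (f341105 IH) (Lpn (LP (LK LD1_c18 LD2_c22 LD3_c8))))))
theorem f352100 : Led Lsl_gf (LP (LK LD1_c18 LD2_c22 LD3_c8)) = (LP (LK LD1_c10 LD2_c15 LD3_c43)) :=
  Lgr Lrot138 (Lpe (f341106 IH) (Lpe (f352071 IH) (Lpe (f275652 IH) (Lpr_et (f352098 IH) (Lpr_gt (f196647 IH) (Lpe (K10.f194693 IH) (Lpr_dt (K13.f42527 IH) (Lpr_gt (K15.f251034 IH) (Lpr_df (K16.f271261 IH) (Lpr_et (K16.f271263 IH) (Lpn (LP (LK LD1_c10 LD2_c15 LD3_c43)))))))))))))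
theorem f222163 : Led Lsl_gf (LP (LK LD1_c4 LD2_c1 LD3_c4)) = (LP (LK LD1_c2 LD2_c34 LD3_c18)) :=
  Lgr Lrot147 (Lpe (K12.f217473 IH) (Lpr_gt (K12.f42768 IH) (Lpr_ct (K12.f41135 IH) (Lpe (K1.f41358 IH) (Lpr_cf (K12.f219119 IH) (Lpe (K12.f170616 IH) (Lpe (K9.f53444 IH) (Lpr_gf (K14.f222158 IH) (Lpe (K10.f48044 IH) (Lpn (LP (LK LD1_c2 LD2_c34 LD3_c18))))))))))))
theorem f294220 : Led Lsl_gt (LP (LK LD1_c10 LD2_c20 LD3_c17)) = (LP (LK LD1_c5 LD2_c19 LD3_c2)) :=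
  Lgr Lrot112 (Lpr_df (K18.f294216 IH) (Lpr_et (K17.f218704 IH) (Lpr_gf (f222163 IH) (Lpr_ef (K11.f54378 IH) (Lpr_dt (K9.f54076 IH) (Lpr_gf (K10.f187839 IH) (Lpe (K16.f183865 IH) (Lpe (K16.f256255 IH) (Lpe (K16.f271247 IH) (Lpe (K16.f271282 IH) (Lpn (LP (LK LD1_c5 LD2_c19 LD3_c2)))))))))))))
theorem f306094 : Led Lsl_gt (LP (LK LD1_c9 LD2_c56 LD3_c39)) = (LP (LK LD1_c9 LD2_c40 LD3_c9)) :=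
  Lgr Lrot46 (Lpr_gf (K20.f306092 IH) (Lpr_ft (K18.f299754 IH) (Lpr_at (K18.f299762 IH) (Lpn (LP (LK LD1_c9 LD2_c40 LD3_c9))))))
theorem f250466 : Led Lsl_dt (LP (LK LD1_c9 LD2_c40 LD3_c9)) = (LP (LK LD1_c17 LD2_c47 LD3_c6)) :=
  Lre_d IH (LK LD1_c9 LD2_c40 LD3_c9) (LK LD1_c17 LD2_c47 LD3_c6) Lrfl Lrfl
theorem f306103 : Led Lsl_gt (LP (LK LD1_c17 LD2_c47 LD3_c6)) = (LP (LK LD1_c27 LD2_c33 LD3_c61)) :=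
  Lre_g IH (LK LD1_c17 LD2_c47 LD3_c6) (LK LD1_c27 LD2_c33 LD3_c61) Lrfl Lrfl
theorem f249685 : Led Lsl_et (LP (LK LD1_c2 LD2_c32 LD3_c19)) = (LP (LK LD1_c5 LD2_c10 LD3_c33)) :=
  Lre_e IH (LK LD1_c2 LD2_c32 LD3_c19) (LK LD1_c5 LD2_c10 LD3_c33) Lrfl Lrfl
theorem f249680 : Led Lsl_et (LP (LK LD1_c18 LD2_c34 LD3_c32)) = (LP (LK LD1_c10 LD2_c11 LD3_c47)) :=
  Lre_e IH (LK LD1_c18 LD2_c34 LD3_c32) (LK LD1_c10 LD2_c11 LD3_c47) Lrfl Lrfl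
theorem f306105 : Led Lsl_dt (LP (LK LD1_c18 LD2_c34 LD3_c32)) = (LP (LK LD1_c27 LD2_c33 LD3_c61)) :=
  Lgr Lrot56 (Lpr_et (f249680 IH) (Lpr_gt (K22.f253637 IH) (Lpe (f249685 IH) (Lpr_dt (K14.f192930 IH) (Lpe (K18.f275194 IH) (Lpe (K17.f249546 IH) (Lpr_et (K18.f275236 IH) (Lpr_gt (f306094 IH) (Lpr_dt (f250466 IH) (Lpr_gt (f306103 IH) (Lpn (LP (LK LD1_c27 LD2_c33 LD3_c61)))))))))))))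
theorem f306109 : Led Lsl_df (LP (LK LD1_c18 LD2_c34 LD3_c32)) = (LP (LK LD1_c27 LD2_c33 LD3_c61)) :=
  Lgr Lrot38 (Lpr_dt (f306105 IH) (Lpn (LP (LK LD1_c27 LD2_c33 LD3_c61))))
theorem f352125 : Led Lsl_ct (LP (LK LD1_c26 LD2_c32 LD3_c10)) = (LP (LK LD1_c18 LD2_c34 LD3_c32)) :=
  Lgr Lrot7 (Lpr_df (f341106 IH) (Lpr_gf (f352100 IH) (Lpe (K16.f271276 IH) (Lpe (f294220 IH) (Lpr_cf (K18.f288507 IH) (Lpr_gt (f306094 IH) (Lpr_dt (f250466 IH) (Lpr_gt (f306103 IH) (Lpe (f306109 IH) (Lpn (LP (LK LD1_c18 LD2_c34 LD3_c32))))))))))))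
theorem f302801 : Led Lsl_ct (LP (LK LD1_c8 LD2_c54 LD3_c30)) = (LP (LK LD1_c16 LD2_c39 LD3_c57)) :=
  Lre_c IH (LK LD1_c8 LD2_c54 LD3_c30) (LK LD1_c16 LD2_c39 LD3_c57) Lrfl Lrfl
theorem f255896 : Led Lsl_ct (LP (LK LD1_c5 LD2_c6 LD3_c12)) = (LP (LK LD1_c2 LD2_c30 LD3_c23)) :=
  Lre_c IH (LK LD1_c5 LD2_c6 LD3_c12) (LK LD1_c2 LD2_c30 LD3_c23) Lrfl Lrfl
theorem f255894 : Led Lsl_gt (LP (LK LD1_c18 LD2_c22 LD3_c3)) = (LP (LK LD1_c10 LD2_c3 LD3_c25)) :=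
  Lre_g IH (LK LD1_c18 LD2_c22 LD3_c3) (LK LD1_c10 LD2_c3 LD3_c25) Lrfl Lrfl
theorem f255907 : Led Lsl_et (LP (LK LD1_c5 LD2_c6 LD3_c12)) = (LP (LK LD1_c2 LD2_c30 LD3_c22)) :=
  Lre_e IH (LK LD1_c5 LD2_c6 LD3_c12) (LK LD1_c2 LD2_c30 LD3_c22) Lrfl Lrfl
theorem f255909 : Led Lsl_et (LP (LK LD1_c2 LD2_c36 LD3_c39)) = (LP (LK LD1_c5 LD2_c19 LD3_c58)) :=
  Lre_e IH (LK LD1_c2 LD2_c36 LD3_c39) (LK LD1_c5 LD2_c19 LD3_c58) Lrfl Lrfl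
theorem f248317 : Led Lsl_gt (LP (LK LD1_c5 LD2_c19 LD3_c58)) = (LP (LK LD1_c10 LD2_c29 LD3_c48)) :=
  Lre_g IH (LK LD1_c5 LD2_c19 LD3_c58) (LK LD1_c10 LD2_c29 LD3_c48) Lrfl Lrfl
theorem f255910 : Led Lsl_et (LP (LK LD1_c19 LD2_c1 LD3_c28)) = (LP (LK LD1_c10 LD2_c29 LD3_c48)) :=
  Lre_e IH (LK LD1_c19 LD2_c1 LD3_c28) (LK LD1_c10 LD2_c29 LD3_c48) Lrfl Lrfl
theorem f255911 : Led Lsl_df (LP (LK LD1_c18 LD2_c22 LD3_c3)) = (LP (LK LD1_c19 LD2_c1 LD3_c28)) :=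
  Lgr Lrot170 (Lpr_gt (f255894 IH) (Lpe (K22.f255908 IH) (Lpr_et (f255907 IH) (Lpr_gt (K14.f169670 IH) (Lpr_dt (K14.f169671 IH) (Lpr_gt (K14.f255879 IH) (Lpe (K14.f46333 IH) (Lpr_et (f255909 IH) (Lpr_gt (f248317 IH) (Lpe (f255910 IH) (Lpn (LP (LK LD1_c19 LD2_c1 LD3_c28)))))))))))))
theorem f325761 : Led Lsl_gt (LP (LK LD1_c16 LD2_c39 LD3_c57)) = (LP (LK LD1_c19 LD2_c1 LD3_c28)) :=
  Lgr Lrot94 (Lpe (f302801 IH) (Lpr_gt (K21.f325759 IH) (Lpe (K21.f255887 IH) (Lpr_gt (K21.f255885 IH) (Lpr_dt (K18.f184643 IH) (Lpe (f255896 IH) (Lpe (K18.f255893 IH) (Lpe (f255894 IH) (Lpr_df (f255911 IH) (Lpn (LP (LK LD1_c19 LD2_c1 LD3_c28))))))))))))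
theorem f320451 : Led Lsl_dt (LP (LK LD1_c16 LD2_c42 LD3_c36)) = (LP (LK LD1_c8 LD2_c55 LD3_c36)) :=
  Lre_d IH (LK LD1_c16 LD2_c42 LD3_c36) (LK LD1_c8 LD2_c55 LD3_c36) Lrfl Lrfl
theorem f329888 : Led Lsl_gt (LP (LK LD1_c16 LD2_c37 LD3_c12)) = (LP (LK LD1_c16 LD2_c42 LD3_c36)) :=
  Lgr Lrot137 (Lpe (f231334 IH) (Lpe (K24.f231332 IH) (Lpe (K24.f194649 IH) (Lpe (K23.f194648 IH) (Lpr_et (K23.f194647 IH) (Lpe (K10.f194628 IH) (Lpe (K10.f45607 IH) (Lpe (K10.f45603 IH) (Lpr_gf (K22.f329880 IH) (Lpe (f320451 IH) (Lpn (LP (LK LD1_c16 LD2_c42 LD3_c36)))))))))))))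
theorem f352102 : Led Lsl_et (LP (LK LD1_c18 LD2_c22 LD3_c8)) = (LP (LK LD1_c16 LD2_c42 LD3_c36)) :=
  Lgr Lrot122 (Lpe (f341106 IH) (Lpe (f352071 IH) (Lpe (f275652 IH) (Lpr_et (f352098 IH) (Lpr_gt (f196647 IH) (Lpr_dt (K23.f194648 IH) (Lpr_gt (K24.f194649 IH) (Lpr_df (K24.f231332 IH) (Lpr_et (f231334 IH) (Lpr_gt (f329888 IH) (Lpn (LP (LK LD1_c16 LD2_c42 LD3_c36)))))))))))))
theorem f320467 : Led Lsl_et (LP (LK LD1_c8 LD2_c55 LD3_c36)) = (LP (LK LD1_c16 LD2_c42 LD3_c37)) :=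
  Lre_e IH (LK LD1_c8 LD2_c55 LD3_c36) (LK LD1_c16 LD2_c42 LD3_c37) Lrfl Lrfl
theorem f352106 : Led Lsl_df (LP (LK LD1_c18 LD2_c22 LD3_c8)) = (LP (LK LD1_c26 LD2_c32 LD3_c10)) :=
  Lgr Lrot70 (Lpr_et (f352102 IH) (Lpr_dt (f320451 IH) (Lpr_et (f320467 IH) (Lpe (K22.f329895 IH) (Lpr_et (f329899 IH) (Lpn (LP (LK LD1_c26 LD2_c32 LD3_c10))))))))
theorem f199139 : Led Lsl_ct (LP (LK LD1_c16 LD2_c42 LD3_c36)) = (LP (LK LD1_c26 LD2_c41 LD3_c22)) :=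
  Lre_c IH (LK LD1_c16 LD2_c42 LD3_c36) (LK LD1_c26 LD2_c41 LD3_c22) Lrfl Lrfl
theorem f47893 : Led Lsl_gt (LP (LK LD1_c25 LD2_c22 LD3_c43)) = (LP (LK LD1_c15 LD2_c29 LD3_c32)) :=
  Lre_g IH (LK LD1_c25 LD2_c22 LD3_c43) (LK LD1_c15 LD2_c29 LD3_c32) Lrfl Lrfl
theorem f54704 : Led Lsl_gt (LP (LK LD1_c24 LD2_c49 LD3_c6)) = (LP (LK LD1_c25 LD2_c22 LD3_c43)) :=
  Lgr Lrot5 (Lpr_ft (K1.f54688 IH) (Lpr_at (K1.f54687 IH) (Lpe (f47893 IH) (Lpn (LP (LK LD1_c25 LD2_c22 LD3_c43))))))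
theorem f320479 : Led Lsl_dt (LP (LK LD1_c8 LD2_c55 LD3_c36)) = (LP (LK LD1_c16 LD2_c42 LD3_c36)) :=
  Lre_d IH (LK LD1_c8 LD2_c55 LD3_c36) (LK LD1_c16 LD2_c42 LD3_c36) Lrfl Lrfl
theorem f199138 : Led Lsl_ct (LP (LK LD1_c26 LD2_c41 LD3_c22)) = (LP (LK LD1_c16 LD2_c42 LD3_c36)) :=
  Lre_c IH (LK LD1_c26 LD2_c41 LD3_c22) (LK LD1_c16 LD2_c42 LD3_c36) Lrfl Lrfl
theorem f329891 : Led Lsl_dt (LP (LK LD1_c25 LD2_c22 LD3_c43)) = (LP (LK LD1_c26 LD2_c41 LD3_c22)) :=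
  Lgr Lrot105 (Lpe (f54704 IH) (Lpe (K22.f41355 IH) (Lpe (K21.f323560 IH) (Lpe (K21.f30988 IH) (Lpe (K22.f329875 IH) (Lpr_dt (K20.f212818 IH) (Lpr_gt (K22.f329884 IH) (Lpr_dt (f320479 IH) (Lpe (f199138 IH) (Lpn (LP (LK LD1_c26 LD2_c41 LD3_c22))))))))))))
theorem f329902 : Led Lsl_df (LP (LK LD1_c25 LD2_c22 LD3_c43)) = (LP (LK LD1_c26 LD2_c41 LD3_c22)) :=
  Lgr Lrot38 (Lpr_dt (f329891 IH) (Lpn (LP (LK LD1_c26 LD2_c41 LD3_c22))))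
theorem f265085 : Led Lsl_et (LP (LK LD1_c8 LD2_c13 LD3_c17)) = (LP (LK LD1_c15 LD2_c27 LD3_c54)) :=
  Lre_e IH (LK LD1_c8 LD2_c13 LD3_c17) (LK LD1_c15 LD2_c27 LD3_c54) Lrfl Lrfl
theorem f306635 : Led Lsl_et (LP (LK LD1_c20 LD2_c5 LD3_c10)) = (LP (LK LD1_c11 LD2_c10 LD3_c28)) :=
  Lre_e IH (LK LD1_c20 LD2_c5 LD3_c10) (LK LD1_c11 LD2_c10 LD3_c28) Lrfl Lrfl
theorem f306636 : Led Lsl_ff (LP (LK LD1_c20 LD2_c5 LD3_c10)) = (LP (LK LD1_c15 LD2_c27 LD3_c54)) :=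
  Lgr Lrot72 (Lpr_et (f306635 IH) (Lpr_ft (K21.f306626 IH) (Lpr_et (K19.f301268 IH) (Lpe (K17.f291545 IH) (Lpr_et (f265085 IH) (Lpn (LP (LK LD1_c15 LD2_c27 LD3_c54))))))))
theorem f305824 : Led Lsl_at (LP (LK LD1_c20 LD2_c5 LD3_c10)) = (LP (LK LD1_c11 LD2_c10 LD3_c33)) :=
  Lre_a IH (LK LD1_c20 LD2_c5 LD3_c10) (LK LD1_c11 LD2_c10 LD3_c33) Lrfl Lrfl
theorem f305826 : Led Lsl_gt (LP (LK LD1_c20 LD2_c5 LD3_c19)) = (LP (LK LD1_c11 LD2_c10 LD3_c33)) :=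
  Lre_g IH (LK LD1_c20 LD2_c5 LD3_c19) (LK LD1_c11 LD2_c10 LD3_c33) Lrfl Lrfl
theorem f306644 : Led Lsl_gf (LP (LK LD1_c20 LD2_c5 LD3_c19)) = (LP (LK LD1_c15 LD2_c27 LD3_c54)) :=
  Lgr Lrot47 (Lpr_gt (f305826 IH) (Lpe (f305824 IH) (Lpr_ff (f306636 IH) (Lpn (LP (LK LD1_c15 LD2_c27 LD3_c54))))))
theorem f329905 : Led Lsl_ef (LP (LK LD1_c20 LD2_c5 LD3_c19)) = (LP (LK LD1_c26 LD2_c41 LD3_c22)) :=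
  Lgr Lrot17 (Lpr_gf (f306644 IH) (Lpe (f265085 IH) (Lpr_dt (K14.f250471 IH) (Lpe (K15.f265057 IH) (Lpe (K15.f194636 IH) (Lpe (K15.f256122 IH) (Lpe (K1.f54665 IH) (Lpr_dt (K1.f47881 IH) (Lpe (f47893 IH) (Lpr_df (f329902 IH) (Lpn (LP (LK LD1_c26 LD2_c41 LD3_c22)))))))))))))
theorem f352104 : Led Lsl_cf (LP (LK LD1_c18 LD2_c22 LD3_c8)) = (LP (LK LD1_c20 LD2_c5 LD3_c19)) :=
  Lgr Lrot39 (Lpr_et (f352102 IH) (Lpr_ct (f199139 IH) (Lpe (f329905 IH) (Lpn (LP (LK LD1_c20 LD2_c5 LD3_c19))))))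
theorem f230900 : Led Lsl_ct (LP (LK LD1_c8 LD2_c13 LD3_c18)) = (LP (LK LD1_c15 LD2_c27 LD3_c54)) :=
  Lre_c IH (LK LD1_c8 LD2_c13 LD3_c18) (LK LD1_c15 LD2_c27 LD3_c54) Lrfl Lrfl
theorem f246186 : Led Lsl_ct (LP (LK LD1_c17 LD2_c48 LD3_c1)) = (LP (LK LD1_c27 LD2_c35 LD3_c21)) :=
  Lre_c IH (LK LD1_c17 LD2_c48 LD3_c1) (LK LD1_c27 LD2_c35 LD3_c21) Lrfl Lrfl
theorem f288559 : Led Lsl_et (LP (LK LD1_c26 LD2_c32 LD3_c10)) = (LP (LK LD1_c16 LD2_c34 LD3_c43)) :=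
  Lre_e IH (LK LD1_c26 LD2_c32 LD3_c10) (LK LD1_c16 LD2_c34 LD3_c43) Lrfl Lrfl
theorem f306111 : Led Lsl_et (LP (LK LD1_c10 LD2_c11 LD3_c47)) = (LP (LK LD1_c18 LD2_c34 LD3_c32)) :=
  Lre_e IH (LK LD1_c10 LD2_c11 LD3_c47) (LK LD1_c18 LD2_c34 LD3_c32) Lrfl Lrfl
theorem f337632 : Led Lsl_cf (LP (LK LD1_c26 LD2_c32 LD3_c10)) = (LP (LK LD1_c18 LD2_c34 LD3_c32)) :=
  Lgr Lrot39 (Lpr_et (f288559 IH) (Lpr_ct (K22.f337627 IH) (Lpr_et (f306111 IH) (Lpn (LP (LK LD1_c18 LD2_c34 LD3_c32))))))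
theorem f352120 : Led Lsl_gt (LP (LK LD1_c27 LD2_c35 LD3_c21)) = (LP (LK LD1_c18 LD2_c34 LD3_c32)) :=
  Lgr Lrot150 (Lpe (f246186 IH) (Lpr_gf (K21.f307232 IH) (Lpe (K21.f305764 IH) (Lpr_gt (K19.f305759 IH) (Lpr_ct (f230900 IH) (Lpe (f306644 IH) (Lpe (f352104 IH) (Lpr_df (f352106 IH) (Lpr_cf (f337632 IH) (Lpn (LP (LK LD1_c18 LD2_c34 LD3_c32))))))))))))
theorem f335217 : Led Lsl_bt (LP (LK LD1_c17 LD2_c48 LD3_c1)) = (LP (LK LD1_c17 LD2_c46 LD3_c51)) :=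
  Lgr Lrot119 (Lpe (K21.f246185 IH) (Lpr_bf (K22.f335210 IH) (Lpe (K15.f184886 IH) (Lpn (LP (LK LD1_c17 LD2_c46 LD3_c51))))))
theorem f284039 : Led Lsl_bt (LP (LK LD1_c18 LD2_c14 LD3_c60)) = (LP (LK LD1_c9 LD2_c58 LD3_c34)) :=
  Lre_b IH (LK LD1_c18 LD2_c14 LD3_c60) (LK LD1_c9 LD2_c58 LD3_c34) Lrfl Lrfl
theorem f352129 : Led Lsl_cf (LP (LK LD1_c19 LD2_c1 LD3_c28)) = (LP (LK LD1_c18 LD2_c14 LD3_c60)) :=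
  Lgr Lrot163 (Lpe (f325761 IH) (Lpe (f302801 IH) (Lpr_gf (f345336 IH) (Lpe (f337674 IH) (Lpr_ct (f352125 IH) (Lpe (f352120 IH) (Lpe (f246186 IH) (Lpr_bt (f335217 IH) (Lpe (K21.f305919 IH) (Lpe (f284039 IH) (Lpn (LP (LK LD1_c18 LD2_c14 LD3_c60)))))))))))))
theorem f305921 : Led Lsl_ct (LP (LK LD1_c17 LD2_c46 LD3_c51)) = (LP (LK LD1_c27 LD2_c33 LD3_c38)) :=
  Lre_c IH (LK LD1_c17 LD2_c46 LD3_c51) (LK LD1_c27 LD2_c33 LD3_c38) Lrfl Lrfl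
theorem f271151 : Led Lsl_gt (LP (LK LD1_c4 LD2_c18 LD3_c52)) = (LP (LK LD1_c8 LD2_c36 LD3_c2)) :=
  Lre_g IH (LK LD1_c4 LD2_c18 LD3_c52) (LK LD1_c8 LD2_c36 LD3_c2) Lrfl Lrfl
theorem f250404 : Led Lsl_dt (LP (LK LD1_c5 LD2_c3 LD3_c22)) = (LP (LK LD1_c9 LD2_c57 LD3_c41)) :=
  Lre_d IH (LK LD1_c5 LD2_c3 LD3_c22) (LK LD1_c9 LD2_c57 LD3_c41) Lrfl Lrfl
theorem f330790 : Led Lsl_gt (LP (LK LD1_c9 LD2_c57 LD3_c41)) = (LP (LK LD1_c9 LD2_c42 LD3_c22)) :=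
  Lgr Lrot139 (Lpe (f250404 IH) (Lpr_gf (K21.f326888 IH) (Lpr_ef (K14.f248511 IH) (Lpe (K19.f248583 IH) (Lpe (f271151 IH) (Lpe (K19.f171462 IH) (Lpr_et (K19.f171463 IH) (Lpr_gf (K21.f330786 IH) (Lpe (K23.f185846 IH) (Lpe (K23.f330680 IH) (Lpn (LP (LK LD1_c9 LD2_c42 LD3_c22)))))))))))))
theorem f330795 : Led Lsl_gf (LP (LK LD1_c9 LD2_c57 LD3_c42)) = (LP (LK LD1_c17 LD2_c46 LD3_c51)) :=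
  Lgr Lrot141 (Lpe (K17.f250410 IH) (Lpr_dt (f250404 IH) (Lpr_gt (f330790 IH) (Lpr_df (K23.f330680 IH) (Lpr_et (K23.f185846 IH) (Lpe (K21.f330786 IH) (Lpe (K19.f304590 IH) (Lpr_gt (K23.f214557 IH) (Lpe (K21.f43371 IH) (Lpr_et (K15.f214563 IH) (Lpn (LP (LK LD1_c17 LD2_c46 LD3_c51)))))))))))))
theorem f41239 : Led Lsl_et (LP (LK LD1_c4 LD2_c54 LD3_c42)) = (LP (LK LD1_c2 LD2_c25 LD3_c14)) :=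
  Lre_e IH (LK LD1_c4 LD2_c54 LD3_c42) (LK LD1_c2 LD2_c25 LD3_c14) Lrfl Lrfl
theorem f41353 : Led Lsl_dt (LP (LK LD1_c4 LD2_c54 LD3_c42)) = (LP (LK LD1_c4 LD2_c54 LD3_c42)) :=
  Lgr Lrot79 (Lpe (K1.f41114 IH) (Lpr_df (K1.f41331 IH) (Lpr_bf (K1.f41108 IH) (Lpn (LP (LK LD1_c4 LD2_c54 LD3_c42))))))
theorem f307094 : Led Lsl_gf (LP (LK LD1_c9 LD2_c1 LD3_c16)) = (LP (LK LD1_c15 LD2_c24 LD3_c42)) :=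
  Lgr Lrot138 (Lpr_dt (K19.f307073 IH) (Lpe (K19.f284007 IH) (Lpe (K14.f55085 IH) (Lpr_et (K17.f55084 IH) (Lpr_gt (K9.f41406 IH) (Lpe (f41239 IH) (Lpr_dt (f41353 IH) (Lpe (K17.f55073 IH) (Lpe (K17.f47981 IH) (Lpe (K17.f284059 IH) (Lpn (LP (LK LD1_c15 LD2_c24 LD3_c42)))))))))))))
theorem f257700 : Led Lsl_dt (LP (LK LD1_c18 LD2_c12 LD3_c25)) = (LP (LK LD1_c9 LD2_c56 LD3_c51)) :=
  Lre_d IH (LK LD1_c18 LD2_c12 LD3_c25) (LK LD1_c9 LD2_c56 LD3_c51) Lrfl Lrfl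
theorem f257709 : Led Lsl_dt (LP (LK LD1_c27 LD2_c49 LD3_c38)) = (LP (LK LD1_c18 LD2_c9 LD3_c11)) :=
  Lre_d IH (LK LD1_c27 LD2_c49 LD3_c38) (LK LD1_c18 LD2_c9 LD3_c11) Lrfl Lrfl
theorem f257711 : Led Lsl_ff (LP (LK LD1_c27 LD2_c49 LD3_c38)) = (LP (LK LD1_c18 LD2_c11 LD3_c27)) :=
  Lgr Lrot19 (Lpr_dt (f257709 IH) (Lpr_ft (K19.f257696 IH) (Lpr_dt (K23.f257710 IH) (Lpn (LP (LK LD1_c18 LD2_c11 LD3_c27))))))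
theorem f257715 : Led Lsl_at (LP (LK LD1_c9 LD2_c56 LD3_c50)) = (LP (LK LD1_c18 LD2_c11 LD3_c27)) :=
  Lre_a IH (LK LD1_c9 LD2_c56 LD3_c50) (LK LD1_c18 LD2_c11 LD3_c27) Lrfl Lrfl
theorem f257716 : Led Lsl_ft (LP (LK LD1_c18 LD2_c12 LD3_c25)) = (LP (LK LD1_c9 LD2_c56 LD3_c50)) :=
  Lre_f IH (LK LD1_c18 LD2_c12 LD3_c25) (LK LD1_c9 LD2_c56 LD3_c50) Lrfl Lrfl
theorem f257717 : Led Lsl_at (LP (LK LD1_c27 LD2_c49 LD3_c38)) = (LP (LK LD1_c18 LD2_c12 LD3_c25)) :=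
  Lgr Lrot66 (Lpr_ff (f257711 IH) (Lpe (f257715 IH) (Lpe (f257716 IH) (Lpn (LP (LK LD1_c18 LD2_c12 LD3_c25))))))
theorem f257724 : Led Lsl_gf (LP (LK LD1_c18 LD2_c12 LD3_c25)) = (LP (LK LD1_c27 LD2_c51 LD3_c55)) :=
  Lgr Lrot76 (Lpe (f257717 IH) (Lpr_ff (f257711 IH) (Lpr_gt (K23.f257723 IH) (Lpn (LP (LK LD1_c27 LD2_c51 LD3_c55))))))
theorem f259604 : Led Lsl_ct (LP (LK LD1_c27 LD2_c33 LD3_c38)) = (LP (LK LD1_c17 LD2_c46 LD3_c51)) :=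
  Lre_c IH (LK LD1_c27 LD2_c33 LD3_c38) (LK LD1_c17 LD2_c46 LD3_c51) Lrfl Lrfl
theorem f330797 : Led Lsl_gf (LP (LK LD1_c18 LD2_c13 LD3_c29)) = (LP (LK LD1_c27 LD2_c33 LD3_c38)) :=
  Lgr Lrot144 (Lpr_dt (K23.f288353 IH) (Lpe (f257724 IH) (Lpr_dt (f257700 IH) (Lpe (K23.f257728 IH) (Lpe (K19.f307073 IH) (Lpr_gf (f307094 IH) (Lpr_df (K17.f284035 IH) (Lpr_gf (f330795 IH) (Lpe (f259604 IH) (Lpn (LP (LK LD1_c27 LD2_c33 LD3_c38))))))))))))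
theorem f242382 : Led Lsl_ct (LP (LK LD1_c10 LD2_c15 LD3_c39)) = (LP (LK LD1_c10 LD2_c9 LD3_c60)) :=
  Lgr Lrot59 (Lpr_cf (K19.f242372 IH) (Lpn (LP (LK LD1_c10 LD2_c9 LD3_c60))))
theorem f288389 : Led Lsl_cf (LP (LK LD1_c10 LD2_c27 LD3_c60)) = (LP (LK LD1_c9 LD2_c57 LD3_c32)) :=
  Lgr Lrot166 (Lpr_gt (K22.f229970 IH) (Lpe (K14.f254470 IH) (Lpe (K14.f251004 IH) (Lpr_dt (K18.f242391 IH) (Lpr_ct (f242382 IH) (Lpr_df (K19.f288375 IH) (Lpe (K19.f184519 IH) (Lpe (K19.f184518 IH) (Lpe (K22.f248650 IH) (Lpn (LP (LK LD1_c9 LD2_c57 LD3_c32))))))))))))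
theorem f288392 : Led Lsl_et (LP (LK LD1_c10 LD2_c27 LD3_c60)) = (LP (LK LD1_c18 LD2_c58 LD3_c17)) :=
  Lre_e IH (LK LD1_c10 LD2_c27 LD3_c60) (LK LD1_c18 LD2_c58 LD3_c17) Lrfl Lrfl
theorem f288393 : Led Lsl_ct (LP (LK LD1_c18 LD2_c58 LD3_c17)) = (LP (LK LD1_c18 LD2_c13 LD3_c29)) :=
  Lgr Lrot15 (Lpe (f288392 IH) (Lpr_cf (f288389 IH) (Lpe (K23.f248658 IH) (Lpn (LP (LK LD1_c18 LD2_c13 LD3_c29))))))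
theorem f243647 : Led Lsl_dt (LP (LK LD1_c5 LD2_c27 LD3_c55)) = (LP (LK LD1_c10 LD2_c46 LD3_c60)) :=
  Lre_d IH (LK LD1_c5 LD2_c27 LD3_c55) (LK LD1_c10 LD2_c46 LD3_c60) Lrfl Lrfl
theorem f243646 : Led Lsl_et (LP (LK LD1_c5 LD2_c27 LD3_c55)) = (LP (LK LD1_c2 LD2_c40 LD3_c17)) :=
  Lre_e IH (LK LD1_c5 LD2_c27 LD3_c55) (LK LD1_c2 LD2_c40 LD3_c17) Lrfl Lrfl
theorem f324270 : Led Lsl_gt (LP (LK LD1_c5 LD2_c31 LD3_c5)) = (LP (LK LD1_c10 LD2_c46 LD3_c2)) :=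
  Lgr Lrot131 (Lpe (K23.f221056 IH) (Lpe (K12.f221054 IH) (Lpe (K14.f243648 IH) (Lpe (K14.f243522 IH) (Lpe (K13.f243632 IH) (Lpe (f243646 IH) (Lpr_dt (f243647 IH) (Lpe (K21.f243741 IH) (Lpr_df (K21.f324262 IH) (Lpr_et (K21.f324264 IH) (Lpn (LP (LK LD1_c10 LD2_c46 LD3_c2)))))))))))))
theorem f340941 : Led Lsl_gf (LP (LK LD1_c15 LD2_c16 LD3_c1)) = (LP (LK LD1_c8 LD2_c16 LD3_c21)) :=
  Lgr Lrot129 (Lpr_cf (K23.f340930 IH) (Lpe (K23.f340939 IH) (Lpr_gt (K20.f224433 IH) (Lpe (K22.f224220 IH) (Lpe (K22.f221177 IH) (Lpr_gt (f324270 IH) (Lpe (K21.f324006 IH) (Lpe (K23.f324065 IH) (Lpr_gt (K14.f51378 IH) (Lpr_ct (K9.f49770 IH) (Lpn (LP (LK LD1_c8 LD2_c16 LD3_c21)))))))))))))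
theorem f321676 : Led Lsl_gf (LP (LK LD1_c5 LD2_c25 LD3_c43)) = (LP (LK LD1_c10 LD2_c31 LD3_c30)) :=
  Lgr Lrot141 (Lpe (K19.f268086 IH) (Lpr_dt (K19.f268085 IH) (Lpr_gt (f321672 IH) (Lpe (K16.f224560 IH) (Lpr_et (K17.f224559 IH) (Lpr_gt (K15.f171897 IH) (Lpr_dt (K12.f171889 IH) (Lpr_gt (K12.f223796 IH) (Lpr_df (K12.f224548 IH) (Lpr_et (K20.f224550 IH) (Lpn (LP (LK LD1_c10 LD2_c31 LD3_c30)))))))))))))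
theorem f268094 : Led Lsl_bt (LP (LK LD1_c2 LD2_c39 LD3_c16)) = (LP (LK LD1_c5 LD2_c25 LD3_c42)) :=
  Lre_b IH (LK LD1_c2 LD2_c39 LD3_c16) (LK LD1_c5 LD2_c25 LD3_c42) Lrfl Lrfl
theorem f340943 : Led Lsl_gf (LP (LK LD1_c8 LD2_c15 LD3_c46)) = (LP (LK LD1_c5 LD2_c25 LD3_c42)) :=
  Lgr Lrot124 (Lpe (K12.f50094 IH) (Lpr_ct (K9.f49770 IH) (Lpe (f340941 IH) (Lpr_cf (K23.f340930 IH) (Lpe (K23.f340939 IH) (Lpr_gt (K20.f224433 IH) (Lpr_ct (K20.f224540 IH) (Lpe (f321676 IH) (Lpe (K19.f41498 IH) (Lpr_bt (f268094 IH) (Lpn (LP (LK LD1_c5 LD2_c25 LD3_c42)))))))))))))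
theorem f309865 : Led Lsl_dt (LP (LK LD1_c10 LD2_c42 LD3_c42)) = (LP (LK LD1_c5 LD2_c25 LD3_c42)) :=
  Lre_d IH (LK LD1_c10 LD2_c42 LD3_c42) (LK LD1_c5 LD2_c25 LD3_c42) Lrfl Lrfl
theorem f340948 : Led Lsl_ef (LP (LK LD1_c18 LD2_c17 LD3_c40)) = (LP (LK LD1_c10 LD2_c42 LD3_c42)) :=
  Lgr Lrot17 (Lpe (K22.f291267 IH) (Lpe (K22.f290865 IH) (Lpr_dt (K17.f274858 IH) (Lpe (K16.f170690 IH) (Lpe (K10.f170844 IH) (Lpe (K10.f188002 IH) (Lpe (K12.f49246 IH) (Lpr_dt (K14.f50096 IH) (Lpr_gf (f340943 IH) (Lpe (f309865 IH) (Lpn (LP (LK LD1_c10 LD2_c42 LD3_c42)))))))))))))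
theorem f340959 : Led Lsl_et (LP (LK LD1_c18 LD2_c17 LD3_c40)) = (LP (LK LD1_c10 LD2_c42 LD3_c42)) :=
  Lgr Lrot87 (Lpr_ef (f340948 IH) (Lpn (LP (LK LD1_c10 LD2_c42 LD3_c42))))
theorem f246151 : Led Lsl_bt (LP (LK LD1_c10 LD2_c42 LD3_c42)) = (LP (LK LD1_c5 LD2_c25 LD3_c44)) :=
  Lre_b IH (LK LD1_c10 LD2_c42 LD3_c42) (LK LD1_c5 LD2_c25 LD3_c44) Lrfl Lrfl
theorem f340966 : Led Lsl_bf (LP (LK LD1_c18 LD2_c17 LD3_c40)) = (LP (LK LD1_c10 LD2_c16 LD3_c46)) :=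
  Lgr Lrot96 (Lpr_et (f340959 IH) (Lpr_bt (f246151 IH) (Lpr_et (K15.f246147 IH) (Lpn (LP (LK LD1_c10 LD2_c16 LD3_c46))))))
theorem f291276 : Led Lsl_dt (LP (LK LD1_c18 LD2_c17 LD3_c40)) = (LP (LK LD1_c18 LD2_c58 LD3_c17)) :=
  Lgr Lrot42 (Lpr_df (K22.f291269 IH) (Lpn (LP (LK LD1_c18 LD2_c58 LD3_c17))))
theorem f340968 : Led Lsl_bt (LP (LK LD1_c18 LD2_c58 LD3_c17)) = (LP (LK LD1_c10 LD2_c28 LD3_c40)) :=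
  Lgr Lrot95 (Lpe (f291276 IH) (Lpr_bf (f340966 IH) (Lpe (K15.f258118 IH) (Lpn (LP (LK LD1_c10 LD2_c28 LD3_c40))))))
theorem f42469 : Led Lsl_dt (LP (LK LD1_c2 LD2_c39 LD3_c16)) = (LP (LK LD1_c5 LD2_c25 LD3_c44)) :=
  Lre_d IH (LK LD1_c2 LD2_c39 LD3_c16) (LK LD1_c5 LD2_c25 LD3_c44) Lrfl Lrfl
theorem f316524 : Led Lsl_gf (LP (LK LD1_c5 LD2_c25 LD3_c45)) = (LP (LK LD1_c10 LD2_c34 LD3_c13)) :=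
  Lgr Lrot141 (Lpe (K15.f42470 IH) (Lpr_dt (f42469 IH) (Lpr_gt (K22.f42356 IH) (Lpe (K21.f42314 IH) (Lpr_et (K22.f42353 IH) (Lpr_gt (K21.f42296 IH) (Lpr_dt (K19.f42277 IH) (Lpr_gt (K20.f42291 IH) (Lpr_df (K22.f316395 IH) (Lpr_et (K20.f256501 IH) (Lpn (LP (LK LD1_c10 LD2_c34 LD3_c13)))))))))))))
theorem f345334 : Led Lsl_gf (LP (LK LD1_c5 LD2_c24 LD3_c24)) = (LP (LK LD1_c10 LD2_c28 LD3_c40)) :=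
  Lgr Lrot138 (Lpr_dt (K21.f288632 IH) (Lpr_gt (f345330 IH) (Lpr_df (K22.f330422 IH) (Lpe (K22.f330416 IH) (Lpe (K22.f335289 IH) (Lpr_ef (K20.f316389 IH) (Lpr_dt (K20.f256499 IH) (Lpe (f316524 IH) (Lpe (K19.f258232 IH) (Lpr_et (K15.f258144 IH) (Lpn (LP (LK LD1_c10 LD2_c28 LD3_c40)))))))))))))
theorem f352135 : Led Lsl_bt (LP (LK LD1_c8 LD2_c54 LD3_c30)) = (LP (LK LD1_c5 LD2_c24 LD3_c24)) :=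
  Lgr Lrot92 (Lpr_ct (f302801 IH) (Lpr_gt (f325761 IH) (Lpr_cf (f352129 IH) (Lpr_bt (f284039 IH) (Lpr_gt (K21.f305919 IH) (Lpr_ct (f305921 IH) (Lpe (f330797 IH) (Lpe (f288393 IH) (Lpr_bt (f340968 IH) (Lpe (f345334 IH) (Lpn (LP (LK LD1_c5 LD2_c24 LD3_c24)))))))))))))
theorem f352139 : Led Lsl_bf (LP (LK LD1_c4 LD2_c28 LD3_c11)) = (LP (LK LD1_c2 LD2_c38 LD3_c44)) :=
  Lgr Lrot93 (Lpr_dt (K21.f302800 IH) (Lpr_bt (f352135 IH) (Lpr_dt (K21.f288632 IH) (Lpn (LP (LK LD1_c2 LD2_c38 LD3_c44))))))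
theorem f199001 : Led Lsl_dt (LP (LK LD1_c15 LD2_c17 LD3_c43)) = (LP (LK LD1_c8 LD2_c7 LD3_c18)) :=
  Lre_d IH (LK LD1_c15 LD2_c17 LD3_c43) (LK LD1_c8 LD2_c7 LD3_c18) Lrfl Lrfl
theorem f199000 : Led Lsl_ct (LP (LK LD1_c8 LD2_c7 LD3_c18)) = (LP (LK LD1_c4 LD2_c3 LD3_c21)) :=
  Lre_c IH (LK LD1_c8 LD2_c7 LD3_c18) (LK LD1_c4 LD2_c3 LD3_c21) Lrfl Lrfl
theorem f198965 : Led Lsl_gt (LP (LK LD1_c5 LD2_c21 LD3_c58)) = (LP (LK LD1_c2 LD2_c37 LD3_c31)) :=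
  Lre_g IH (LK LD1_c5 LD2_c21 LD3_c58) (LK LD1_c2 LD2_c37 LD3_c31) Lrfl Lrfl
theorem f345352 : Led Lsl_df (LP (LK LD1_c5 LD2_c21 LD3_c58)) = (LP (LK LD1_c6 LD2_c5 LD3_c7)) :=
  Lgr Lrot153 (Lpr_gt (f198965 IH) (Lpe (K12.f198956 IH) (Lpe (f199000 IH) (Lpe (f199001 IH) (Lpe (K22.f325801 IH) (Lpe (K22.f311111 IH) (Lpe (K22.f311109 IH) (Lpe (K17.f182854 IH) (Lpr_gt (f345350 IH) (Lpn (LP (LK LD1_c6 LD2_c5 LD3_c7))))))))))))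
theorem f345391 : Led Lsl_et (LP (LK LD1_c5 LD2_c21 LD3_c58)) = (LP (LK LD1_c2 LD2_c38 LD3_c44)) :=
  Lgr Lrot71 (Lpr_df (f345352 IH) (Lpe (f345344 IH) (Lpe (K21.f294189 IH) (Lpr_ef (K21.f325757 IH) (Lpe (K21.f288622 IH) (Lpn (LP (LK LD1_c2 LD2_c38 LD3_c44))))))))
theorem f352145 : Led Lsl_bt (LP (LK LD1_c6 LD2_c5 LD3_c7)) = (LP (LK LD1_c5 LD2_c21 LD3_c58)) :=
  Lgr Lrot119 (Lpe (f345344 IH) (Lpr_bf (f352139 IH) (Lpe (f345391 IH) (Lpn (LP (LK LD1_c5 LD2_c21 LD3_c58))))))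
theorem f42381 : Led Lsl_ct (LP (LK LD1_c5 LD2_c20 LD3_c33)) = (LP (LK LD1_c10 LD2_c31 LD3_c9)) :=
  Lre_c IH (LK LD1_c5 LD2_c20 LD3_c33) (LK LD1_c10 LD2_c31 LD3_c9) Lrfl Lrfl
theorem f195884 : Led Lsl_et (LP (LK LD1_c10 LD2_c42 LD3_c33)) = (LP (LK LD1_c5 LD2_c25 LD3_c39)) :=
  Lre_e IH (LK LD1_c10 LD2_c42 LD3_c33) (LK LD1_c5 LD2_c25 LD3_c39) Lrfl Lrfl
theorem f195885 : Led Lsl_dt (LP (LK LD1_c10 LD2_c42 LD3_c33)) = (LP (LK LD1_c19 LD2_c23 LD3_c18)) :=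
  Lre_d IH (LK LD1_c10 LD2_c42 LD3_c33) (LK LD1_c19 LD2_c23 LD3_c18) Lrfl Lrfl
theorem f264009 : Led Lsl_gf (LP (LK LD1_c19 LD2_c23 LD3_c18)) = (LP (LK LD1_c19 LD2_c7 LD3_c36)) :=
  Lgr Lrot134 (Lpe (f195885 IH) (Lpr_et (f195884 IH) (Lpr_gt (K22.f41507 IH) (Lpe (K24.f195883 IH) (Lpr_dt (K14.f46467 IH) (Lpr_gt (K14.f194899 IH) (Lpe (K14.f195845 IH) (Lpr_et (K15.f195847 IH) (Lpr_gt (K15.f264005 IH) (Lpr_dt (K15.f258193 IH) (Lpn (LP (LK LD1_c19 LD2_c7 LD3_c36)))))))))))))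
theorem f276977 : Led Lsl_gt (LP (LK LD1_c19 LD2_c23 LD3_c18)) = (LP (LK LD1_c18 LD2_c59 LD3_c29)) :=
  Lgr Lrot46 (Lpr_gf (f264009 IH) (Lpe (K16.f276975 IH) (Lpr_at (K16.f276963 IH) (Lpn (LP (LK LD1_c18 LD2_c59 LD3_c29))))))
theorem f316526 : Led Lsl_gf (LP (LK LD1_c10 LD2_c42 LD3_c33)) = (LP (LK LD1_c19 LD2_c8 LD3_c45)) :=
  Lgr Lrot144 (Lpr_dt (f195885 IH) (Lpr_gt (f276977 IH) (Lpr_dt (K15.f258182 IH) (Lpe (K16.f258154 IH) (Lpe (K15.f44268 IH) (Lpe (K15.f230301 IH) (Lpr_df (K15.f258145 IH) (Lpr_gf (f316524 IH) (Lpe (K23.f256497 IH) (Lpn (LP (LK LD1_c19 LD2_c8 LD3_c45))))))))))))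
theorem f258215 : Led Lsl_dt (LP (LK LD1_c10 LD2_c28 LD3_c42)) = (LP (LK LD1_c18 LD2_c59 LD3_c29)) :=
  Lre_d IH (LK LD1_c10 LD2_c28 LD3_c42) (LK LD1_c18 LD2_c59 LD3_c29) Lrfl Lrfl
theorem f221627 : Led Lsl_et (LP (LK LD1_c15 LD2_c1 LD3_c15)) = (LP (LK LD1_c7 LD2_c57 LD3_c49)) :=
  Lre_e IH (LK LD1_c15 LD2_c1 LD3_c15) (LK LD1_c7 LD2_c57 LD3_c49) Lrfl Lrfl
theorem f316530 : Led Lsl_et (LP (LK LD1_c10 LD2_c34 LD3_c12)) = (LP (LK LD1_c19 LD2_c8 LD3_c45)) :=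
  Lre_e IH (LK LD1_c10 LD2_c34 LD3_c12) (LK LD1_c19 LD2_c8 LD3_c45) Lrfl Lrfl
theorem f316531 : Led Lsl_dt (LP (LK LD1_c10 LD2_c34 LD3_c12)) = (LP (LK LD1_c19 LD2_c8 LD3_c44)) :=
  Lre_d IH (LK LD1_c10 LD2_c34 LD3_c12) (LK LD1_c19 LD2_c8 LD3_c44) Lrfl Lrfl
theorem f316532 : Led Lsl_gt (LP (LK LD1_c24 LD2_c49 LD3_c9)) = (LP (LK LD1_c19 LD2_c8 LD3_c44)) :=
  Lgr Lrot112 (Lpe (K22.f187263 IH) (Lpr_et (f221627 IH) (Lpr_gf (K12.f221668 IH) (Lpe (K16.f258243 IH) (Lpr_dt (f258215 IH) (Lpe (f276977 IH) (Lpe (f195885 IH) (Lpr_gf (f316526 IH) (Lpe (f316530 IH) (Lpr_dt (f316531 IH) (Lpn (LP (LK LD1_c19 LD2_c8 LD3_c44)))))))))))))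
theorem f316519 : Led Lsl_dt (LP (LK LD1_c19 LD2_c8 LD3_c44)) = (LP (LK LD1_c10 LD2_c34 LD3_c12)) :=
  Lre_d IH (LK LD1_c19 LD2_c8 LD3_c44) (LK LD1_c10 LD2_c34 LD3_c12) Lrfl Lrfl
theorem f198967 : Led Lsl_ct (LP (LK LD1_c5 LD2_c21 LD3_c57)) = (LP (LK LD1_c10 LD2_c34 LD3_c12)) :=
  Lre_c IH (LK LD1_c5 LD2_c21 LD3_c57) (LK LD1_c10 LD2_c34 LD3_c12) Lrfl Lrfl
theorem f42367 : Led Lsl_ct (LP (LK LD1_c10 LD2_c31 LD3_c9)) = (LP (LK LD1_c5 LD2_c20 LD3_c33)) :=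
  Lre_c IH (LK LD1_c10 LD2_c31 LD3_c9) (LK LD1_c5 LD2_c20 LD3_c33) Lrfl Lrfl
theorem f316535 : Led Lsl_gf (LP (LK LD1_c15 LD2_c1 LD3_c15)) = (LP (LK LD1_c10 LD2_c31 LD3_c9)) :=
  Lgr Lrot144 (Lpr_dt (K22.f187263 IH) (Lpr_gt (f316532 IH) (Lpr_dt (f316519 IH) (Lpe (f198967 IH) (Lpe (K20.f316391 IH) (Lpe (K20.f42291 IH) (Lpe (K19.f42277 IH) (Lpe (K21.f42296 IH) (Lpe (f42367 IH) (Lpn (LP (LK LD1_c10 LD2_c31 LD3_c9))))))))))))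
theorem f187264 : Led Lsl_dt (LP (LK LD1_c7 LD2_c57 LD3_c50)) = (LP (LK LD1_c8 LD2_c38 LD3_c32)) :=
  Lgr Lrot42 (Lpr_df (K10.f187256 IH) (Lpn (LP (LK LD1_c8 LD2_c38 LD3_c32))))
theorem f187482 : Led Lsl_et (LP (LK LD1_c2 LD2_c58 LD3_c46)) = (LP (LK LD1_c6 LD2_c5 LD3_c14)) :=
  Lre_e IH (LK LD1_c2 LD2_c58 LD3_c46) (LK LD1_c6 LD2_c5 LD3_c14) Lrfl Lrfl
theorem f187483 : Led Lsl_ct (LP (LK LD1_c6 LD2_c5 LD3_c14)) = (LP (LK LD1_c8 LD2_c38 LD3_c32)) :=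
  Lgr Lrot15 (Lpe (f187482 IH) (Lpr_cf (K10.f187474 IH) (Lpe (K24.f54093 IH) (Lpn (LP (LK LD1_c8 LD2_c38 LD3_c32))))))
theorem f345355 : Led Lsl_gf (LP (LK LD1_c6 LD2_c5 LD3_c14)) = (LP (LK LD1_c11 LD2_c53 LD3_c41)) :=
  Lgr Lrot104 (Lpr_ct (f187483 IH) (Lpe (f187264 IH) (Lpe (K22.f187273 IH) (Lpr_gf (f316535 IH) (Lpe (f42381 IH) (Lpe (K22.f311253 IH) (Lpe (K19.f283472 IH) (Lpr_gt (f345350 IH) (Lpr_ct (f42290 IH) (Lpn (LP (LK LD1_c11 LD2_c53 LD3_c41))))))))))))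
theorem f324841 : Led Lsl_ft (LP (LK LD1_c6 LD2_c5 LD3_c14)) = (LP (LK LD1_c11 LD2_c53 LD3_c58)) :=
  Lre_f IH (LK LD1_c6 LD2_c5 LD3_c14) (LK LD1_c11 LD2_c53 LD3_c58) Lrfl Lrfl
theorem f324842 : Led Lsl_ef (LP (LK LD1_c20 LD2_c55 LD3_c20)) = (LP (LK LD1_c11 LD2_c53 LD3_c58)) :=
  Lgr Lrot21 (Lpr_ft (K21.f182934 IH) (Lpr_et (K21.f183010 IH) (Lpr_ft (K21.f324833 IH) (Lpr_et (f187482 IH) (Lpr_ft (f324841 IH) (Lpn (LP (LK LD1_c11 LD2_c53 LD3_c58))))))))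
theorem f324844 : Led Lsl_at (LP (LK LD1_c20 LD2_c55 LD3_c23)) = (LP (LK LD1_c11 LD2_c53 LD3_c58)) :=
  Lgr Lrot80 (Lpr_ef (K23.f324800 IH) (Lpe (K21.f324770 IH) (Lpr_ef (f324842 IH) (Lpn (LP (LK LD1_c11 LD2_c53 LD3_c58))))))
theorem f324856 : Led Lsl_af (LP (LK LD1_c20 LD2_c55 LD3_c23)) = (LP (LK LD1_c11 LD2_c53 LD3_c58)) :=
  Lgr Lrot0 (Lpr_at (f324844 IH) (Lpn (LP (LK LD1_c11 LD2_c53 LD3_c58))))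
theorem f324860 : Led Lsl_at (LP (LK LD1_c11 LD2_c52 LD3_c29)) = (LP (LK LD1_c6 LD2_c5 LD3_c14)) :=
  Lgr Lrot66 (Lpe (K23.f324799 IH) (Lpr_af (f324856 IH) (Lpe (f324841 IH) (Lpn (LP (LK LD1_c6 LD2_c5 LD3_c14))))))
theorem f345379 : Led Lsl_gt (LP (LK LD1_c20 LD2_c55 LD3_c23)) = (LP (LK LD1_c11 LD2_c53 LD3_c41)) :=
  Lgr Lrot5 (Lpr_ft (K23.f324799 IH) (Lpr_at (f324860 IH) (Lpr_gf (f345355 IH) (Lpn (LP (LK LD1_c11 LD2_c53 LD3_c41))))))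
theorem f343675 : Led Lsl_cf (LP (LK LD1_c20 LD2_c55 LD3_c23)) = (LP (LK LD1_c17 LD2_c49 LD3_c0)) :=
  Lgr Lrot11 (Lpr_ct (K23.f343673 IH) (Lpn (LP (LK LD1_c17 LD2_c49 LD3_c0))))
theorem f198963 : Led Lsl_ct (LP (LK LD1_c4 LD2_c3 LD3_c32)) = (LP (LK LD1_c8 LD2_c7 LD3_c42)) :=
  Lre_c IH (LK LD1_c4 LD2_c3 LD3_c32) (LK LD1_c8 LD2_c7 LD3_c42) Lrfl Lrfl
theorem f198964 : Led Lsl_gt (LP (LK LD1_c8 LD2_c7 LD3_c42)) = (LP (LK LD1_c15 LD2_c18 LD3_c21)) :=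
  Lre_g IH (LK LD1_c8 LD2_c7 LD3_c42) (LK LD1_c15 LD2_c18 LD3_c21) Lrfl Lrfl
theorem f346489 : Led Lsl_cf (LP (LK LD1_c9 LD2_c33 LD3_c33)) = (LP (LK LD1_c6 LD2_c5 LD3_c2)) :=
  Lgr Lrot166 (Lpe (K23.f346476 IH) (Lpr_dt (K23.f346481 IH) (Lpr_gt (K23.f293283 IH) (Lpr_dt (K23.f170739 IH) (Lpr_ct (K15.f170734 IH) (Lpe (K10.f187962 IH) (Lpr_gf (K19.f256632 IH) (Lpe (K19.f305634 IH) (Lpe (K19.f42403 IH) (Lpn (LP (LK LD1_c6 LD2_c5 LD3_c2))))))))))))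
theorem f346537 : Led Lsl_cf (LP (LK LD1_c8 LD2_c27 LD3_c45)) = (LP (LK LD1_c15 LD2_c18 LD3_c21)) :=
  Lgr Lrot99 (Lpr_df (K23.f346528 IH) (Lpe (K23.f291097 IH) (Lpr_gf (K23.f346476 IH) (Lpr_cf (f346489 IH) (Lpe (K19.f42457 IH) (Lpe (K19.f305570 IH) (Lpr_gt (K19.f28875 IH) (Lpr_ct (f198963 IH) (Lpr_gt (f198964 IH) (Lpn (LP (LK LD1_c15 LD2_c18 LD3_c21))))))))))))
theorem f346539 : Led Lsl_ct (LP (LK LD1_c8 LD2_c27 LD3_c45)) = (LP (LK LD1_c15 LD2_c18 LD3_c21)) :=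
  Lgr Lrot59 (Lpr_cf (f346537 IH) (Lpn (LP (LK LD1_c15 LD2_c18 LD3_c21))))
theorem f346530 : Led Lsl_bt (LP (LK LD1_c8 LD2_c27 LD3_c45)) = (LP (LK LD1_c15 LD2_c53 LD3_c25)) :=
  Lre_b IH (LK LD1_c8 LD2_c27 LD3_c45) (LK LD1_c15 LD2_c53 LD3_c25) Lrfl Lrfl
theorem f352153 : Led Lsl_gf (LP (LK LD1_c17 LD2_c49 LD3_c0)) = (LP (LK LD1_c15 LD2_c53 LD3_c25)) :=
  Lgr Lrot181 (Lpe (f343675 IH) (Lpr_gt (f345379 IH) (Lpe (f42290 IH) (Lpr_bt (f352145 IH) (Lpr_gt (f198965 IH) (Lpe (K12.f198945 IH) (Lpr_ct (f198963 IH) (Lpr_gt (f198964 IH) (Lpe (f346539 IH) (Lpr_bt (f346530 IH) (Lpn (LP (LK LD1_c15 LD2_c53 LD3_c25)))))))))))))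
theorem f214045 : Led Lsl_dt (LP (LK LD1_c9 LD2_c41 LD3_c12)) = (LP (LK LD1_c17 LD2_c49 LD3_c0)) :=
  Lre_d IH (LK LD1_c9 LD2_c41 LD3_c12) (LK LD1_c17 LD2_c49 LD3_c0) Lrfl Lrfl
theorem f326364 : Led Lsl_ef (LP (LK LD1_c15 LD2_c23 LD3_c9)) = (LP (LK LD1_c9 LD2_c41 LD3_c12)) :=
  Lgr Lrot29 (Lpr_bt (K21.f326358 IH) (Lpe (K20.f317549 IH) (Lpr_bt (f214037 IH) (Lpn (LP (LK LD1_c9 LD2_c41 LD3_c12))))))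
theorem f278416 : Led Lsl_ef (LP (LK LD1_c9 LD2_c41 LD3_c51)) = (LP (LK LD1_c8 LD2_c13 LD3_c10)) :=
  Lgr Lrot73 (Lpe (K20.f246777 IH) (Lpr_et (K20.f221840 IH) (Lpr_dt (K15.f266879 IH) (Lpe (K15.f266890 IH) (Lpr_dt (K16.f278414 IH) (Lpn (LP (LK LD1_c8 LD2_c13 LD3_c10))))))))
theorem f213944 : Led Lsl_gt (LP (LK LD1_c9 LD2_c33 LD3_c19)) = (LP (LK LD1_c17 LD2_c35 LD3_c45)) :=
  Lre_g IH (LK LD1_c9 LD2_c33 LD3_c19) (LK LD1_c17 LD2_c35 LD3_c45) Lrfl Lrfl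
theorem f352160 : Led Lsl_dt (LP (LK LD1_c17 LD2_c35 LD3_c45)) = (LP (LK LD1_c15 LD2_c53 LD3_c25)) :=
  Lgr Lrot171 (Lpe (f213944 IH) (Lpe (K13.f213920 IH) (Lpr_dt (K12.f213918 IH) (Lpe (K15.f213927 IH) (Lpe (K16.f275164 IH) (Lpe (f278416 IH) (Lpe (K21.f326379 IH) (Lpr_ef (f326364 IH) (Lpr_dt (f214045 IH) (Lpr_gf (f352153 IH) (Lpn (LP (LK LD1_c15 LD2_c53 LD3_c25)))))))))))))
theorem f352164 : Led Lsl_df (LP (LK LD1_c17 LD2_c35 LD3_c45)) = (LP (LK LD1_c15 LD2_c53 LD3_c25)) :=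
  Lgr Lrot38 (Lpr_dt (f352160 IH) (Lpn (LP (LK LD1_c15 LD2_c53 LD3_c25))))
theorem f352169 : Led Lsl_bt (LP (LK LD1_c17 LD2_c35 LD3_c45)) = (LP (LK LD1_c9 LD2_c33 LD3_c25)) :=
  Lgr Lrot95 (Lpr_df (f352164 IH) (Lpe (f346530 IH) (Lpr_df (K23.f346528 IH) (Lpn (LP (LK LD1_c9 LD2_c33 LD3_c25))))))
theorem f330366 : Led Lsl_gt (LP (LK LD1_c9 LD2_c52 LD3_c35)) = (LP (LK LD1_c10 LD2_c10 LD3_c21)) :=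
  Lgr Lrot9 (Lpr_df (K21.f314538 IH) (Lpr_gt (K19.f244469 IH) (Lpr_ct (K17.f244459 IH) (Lpe (K18.f244445 IH) (Lpr_ct (K22.f243981 IH) (Lpe (K15.f184820 IH) (Lpe (K21.f192254 IH) (Lpr_gf (K23.f330357 IH) (Lpe (K23.f22073 IH) (Lpn (LP (LK LD1_c10 LD2_c10 LD3_c21))))))))))))
theorem f346516 : Led Lsl_df (LP (LK LD1_c10 LD2_c10 LD3_c21)) = (LP (LK LD1_c17 LD2_c35 LD3_c59)) :=
  Lgr Lrot153 (Lpr_gt (K23.f22072 IH) (Lpr_dt (K13.f22052 IH) (Lpe (K19.f22074 IH) (Lpe (K21.f22075 IH) (Lpe (K24.f22076 IH) (Lpr_df (K24.f332820 IH) (Lpe (K21.f330368 IH) (Lpe (K21.f296845 IH) (Lpr_gt (K23.f346512 IH) (Lpn (LP (LK LD1_c17 LD2_c35 LD3_c59))))))))))))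
theorem f347118 : Led Lsl_gt (LP (LK LD1_c9 LD2_c33 LD3_c25)) = (LP (LK LD1_c5 LD2_c36 LD3_c4)) :=
  Lgr Lrot137 (Lpe (K23.f346493 IH) (Lpe (f346516 IH) (Lpe (f330366 IH) (Lpr_df (K21.f314538 IH) (Lpe (K19.f314540 IH) (Lpr_gf (K23.f347093 IH) (Lpe (K23.f347060 IH) (Lpr_dt (K23.f347018 IH) (Lpe (K23.f346382 IH) (Lpe (K23.f313193 IH) (Lpn (LP (LK LD1_c5 LD2_c36 LD3_c4)))))))))))))
theorem f313188 : Led Lsl_ct (LP (LK LD1_c5 LD2_c36 LD3_c4)) = (LP (LK LD1_c11 LD2_c4 LD3_c29)) :=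
  Lre_c IH (LK LD1_c5 LD2_c36 LD3_c4) (LK LD1_c11 LD2_c4 LD3_c29) Lrfl Lrfl
theorem f284463 : Led Lsl_ft (LP (LK LD1_c15 LD2_c41 LD3_c61)) = (LP (LK LD1_c8 LD2_c20 LD3_c28)) :=
  Lre_f IH (LK LD1_c15 LD2_c41 LD3_c61) (LK LD1_c8 LD2_c20 LD3_c28) Lrfl Lrfl
theorem f284539 : Led Lsl_af (LP (LK LD1_c8 LD2_c15 LD3_c43)) = (LP (LK LD1_c8 LD2_c20 LD3_c28)) :=
  Lgr Lrot45 (Lpr_ft (K17.f231319 IH) (Lpr_at (K19.f284533 IH) (Lpr_ft (f284463 IH) (Lpn (LP (LK LD1_c8 LD2_c20 LD3_c28))))))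
theorem f346257 : Led Lsl_gf (LP (LK LD1_c8 LD2_c15 LD3_c43)) = (LP (LK LD1_c15 LD2_c16 LD3_c58)) :=
  Lgr Lrot76 (Lpr_af (f284539 IH) (Lpe (f284463 IH) (Lpr_gt (K23.f346255 IH) (Lpn (LP (LK LD1_c15 LD2_c16 LD3_c58))))))
theorem f42391 : Led Lsl_bt (LP (LK LD1_c4 LD2_c27 LD3_c43)) = (LP (LK LD1_c2 LD2_c11 LD3_c6)) :=
  Lre_b IH (LK LD1_c4 LD2_c27 LD3_c43) (LK LD1_c2 LD2_c11 LD3_c6) Lrfl Lrfl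
theorem f231309 : Led Lsl_bf (LP (LK LD1_c8 LD2_c15 LD3_c43)) = (LP (LK LD1_c4 LD2_c27 LD3_c57)) :=
  Lgr Lrot93 (Lpr_dt (K13.f231297 IH) (Lpr_bt (f42391 IH) (Lpr_dt (K17.f231308 IH) (Lpn (LP (LK LD1_c4 LD2_c27 LD3_c57))))))
theorem f275201 : Led Lsl_gt (LP (LK LD1_c8 LD2_c53 LD3_c52)) = (LP (LK LD1_c16 LD2_c38 LD3_c28)) :=
  Lre_g IH (LK LD1_c8 LD2_c53 LD3_c52) (LK LD1_c16 LD2_c38 LD3_c28) Lrfl Lrfl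
theorem f352173 : Led Lsl_ct (LP (LK LD1_c17 LD2_c35 LD3_c45)) = (LP (LK LD1_c16 LD2_c38 LD3_c28)) :=
  Lgr Lrot10 (Lpr_bt (f352169 IH) (Lpr_gt (f347118 IH) (Lpr_ct (f313188 IH) (Lpr_gt (K23.f346235 IH) (Lpe (K23.f346209 IH) (Lpr_bt (K23.f346206 IH) (Lpe (f346257 IH) (Lpr_bf (f231309 IH) (Lpr_ct (K17.f231369 IH) (Lpr_gt (f275201 IH) (Lpn (LP (LK LD1_c16 LD2_c38 LD3_c28)))))))))))))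
theorem f231555 : Led Lsl_bt (LP (LK LD1_c4 LD2_c14 LD3_c31)) = (LP (LK LD1_c4 LD2_c50 LD3_c40)) :=
  Lgr Lrot127 (Lpr_bf (K20.f231553 IH) (Lpn (LP (LK LD1_c4 LD2_c50 LD3_c40))))
theorem f352180 : Led Lsl_gf (LP (LK LD1_c10 LD2_c34 LD3_c11)) = (LP (LK LD1_c16 LD2_c38 LD3_c28)) :=
  Lgr Lrot126 (Lpe (K16.f198978 IH) (Lpe (K12.f198960 IH) (Lpe (K24.f346223 IH) (Lpr_ct (K24.f346225 IH) (Lpr_gt (K24.f231572 IH) (Lpe (K20.f189375 IH) (Lpr_bt (f231555 IH) (Lpr_gt (K23.f231569 IH) (Lpe (f352169 IH) (Lpr_ct (f352173 IH) (Lpn (LP (LK LD1_c16 LD2_c38 LD3_c28)))))))))))))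
theorem f213928 : Led Lsl_bt (LP (LK LD1_c4 LD2_c54 LD3_c45)) = (LP (LK LD1_c2 LD2_c25 LD3_c22)) :=
  Lre_b IH (LK LD1_c4 LD2_c54 LD3_c45) (LK LD1_c2 LD2_c25 LD3_c22) Lrfl Lrfl
theorem f213929 : Led Lsl_dt (LP (LK LD1_c2 LD2_c25 LD3_c22)) = (LP (LK LD1_c4 LD2_c55 LD3_c0)) :=
  Lre_d IH (LK LD1_c2 LD2_c25 LD3_c22) (LK LD1_c4 LD2_c55 LD3_c0) Lrfl Lrfl
theorem f213930 : Led Lsl_bf (LP (LK LD1_c9 LD2_c33 LD3_c19)) = (LP (LK LD1_c4 LD2_c55 LD3_c0)) :=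
  Lgr Lrot93 (Lpr_dt (K13.f213923 IH) (Lpr_bt (f213928 IH) (Lpr_dt (f213929 IH) (Lpn (LP (LK LD1_c4 LD2_c55 LD3_c0))))))
theorem f213965 : Led Lsl_ct (LP (LK LD1_c4 LD2_c55 LD3_c0)) = (LP (LK LD1_c9 LD2_c41 LD3_c38)) :=
  Lre_c IH (LK LD1_c4 LD2_c55 LD3_c0) (LK LD1_c9 LD2_c41 LD3_c38) Lrfl Lrfl
theorem f213989 : Led Lsl_gt (LP (LK LD1_c17 LD2_c49 LD3_c58)) = (LP (LK LD1_c9 LD2_c41 LD3_c38)) :=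
  Lre_g IH (LK LD1_c17 LD2_c49 LD3_c58) (LK LD1_c9 LD2_c41 LD3_c38) Lrfl Lrfl
theorem f352185 : Led Lsl_ct (LP (LK LD1_c10 LD2_c35 LD3_c14)) = (LP (LK LD1_c17 LD2_c49 LD3_c58)) :=
  Lgr Lrot64 (Lpr_bt (K23.f346251 IH) (Lpr_gf (K24.f346223 IH) (Lpr_bf (K12.f198960 IH) (Lpr_ct (K16.f198978 IH) (Lpr_gf (f352180 IH) (Lpe (f352173 IH) (Lpe (f213944 IH) (Lpr_bf (f213930 IH) (Lpr_ct (f213965 IH) (Lpe (f213989 IH) (Lpn (LP (LK LD1_c17 LD2_c49 LD3_c58)))))))))))))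
theorem f293106 : Led Lsl_dt (LP (LK LD1_c24 LD2_c58 LD3_c8)) = (LP (LK LD1_c15 LD2_c9 LD3_c9)) :=
  Lre_d IH (LK LD1_c24 LD2_c58 LD3_c8) (LK LD1_c15 LD2_c9 LD3_c9) Lrfl Lrfl
theorem f346040 : Led Lsl_dt (LP (LK LD1_c8 LD2_c8 LD3_c24)) = (LP (LK LD1_c15 LD2_c19 LD3_c40)) :=
  Lre_d IH (LK LD1_c8 LD2_c8 LD3_c24) (LK LD1_c15 LD2_c19 LD3_c40) Lrfl Lrfl
theorem f346267 : Led Lsl_ef (LP (LK LD1_c24 LD2_c58 LD3_c8)) = (LP (LK LD1_c15 LD2_c19 LD3_c40)) :=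
  Lgr Lrot73 (Lpr_dt (f293106 IH) (Lpr_et (K23.f346263 IH) (Lpr_dt (K23.f346253 IH) (Lpe (K23.f346207 IH) (Lpr_dt (f346040 IH) (Lpn (LP (LK LD1_c15 LD2_c19 LD3_c40))))))))
theorem f346281 : Led Lsl_bt (LP (LK LD1_c8 LD2_c8 LD3_c26)) = (LP (LK LD1_c15 LD2_c19 LD3_c40)) :=
  Lre_b IH (LK LD1_c8 LD2_c8 LD3_c26) (LK LD1_c15 LD2_c19 LD3_c40) Lrfl Lrfl
theorem f346282 : Led Lsl_bt (LP (LK LD1_c24 LD2_c58 LD3_c8)) = (LP (LK LD1_c15 LD2_c19 LD3_c45)) :=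
  Lgr Lrot119 (Lpr_ef (f346267 IH) (Lpe (f346281 IH) (Lpe (K23.f341944 IH) (Lpn (LP (LK LD1_c15 LD2_c19 LD3_c45))))))
theorem f346284 : Led Lsl_bf (LP (LK LD1_c24 LD2_c58 LD3_c8)) = (LP (LK LD1_c15 LD2_c19 LD3_c45)) :=
  Lgr Lrot24 (Lpr_bt (f346282 IH) (Lpn (LP (LK LD1_c15 LD2_c19 LD3_c45))))
theorem f346287 : Led Lsl_bt (LP (LK LD1_c15 LD2_c9 LD3_c9)) = (LP (LK LD1_c10 LD2_c31 LD3_c26)) :=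
  Lgr Lrot95 (Lpe (f293106 IH) (Lpr_bf (f346284 IH) (Lpr_df (K23.f346195 IH) (Lpn (LP (LK LD1_c10 LD2_c31 LD3_c26))))))
theorem f237061 : Led Lsl_df (LP (LK LD1_c15 LD2_c14 LD3_c43)) = (LP (LK LD1_c10 LD2_c0 LD3_c53)) :=
  Lgr Lrot38 (Lpr_dt (K21.f237059 IH) (Lpn (LP (LK LD1_c10 LD2_c0 LD3_c53))))
theorem f237022 : Led Lsl_et (LP (LK LD1_c8 LD2_c8 LD3_c26)) = (LP (LK LD1_c15 LD2_c19 LD3_c45)) :=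
  Lre_e IH (LK LD1_c8 LD2_c8 LD3_c26) (LK LD1_c15 LD2_c19 LD3_c45) Lrfl Lrfl
theorem f237066 : Led Lsl_gf (LP (LK LD1_c15 LD2_c14 LD3_c43)) = (LP (LK LD1_c15 LD2_c19 LD3_c45)) :=
  Lgr Lrot138 (Lpr_dt (K21.f237059 IH) (Lpr_gt (K21.f192614 IH) (Lpr_df (K15.f192608 IH) (Lpr_et (K15.f171607 IH) (Lpr_gt (K13.f237057 IH) (Lpe (K15.f237014 IH) (Lpr_dt (K15.f237007 IH) (Lpr_gt (K23.f227984 IH) (Lpe (K23.f237021 IH) (Lpr_et (f237022 IH) (Lpn (LP (LK LD1_c15 LD2_c19 LD3_c45)))))))))))))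
theorem f346227 : Led Lsl_ef (LP (LK LD1_c8 LD2_c39 LD3_c16)) = (LP (LK LD1_c10 LD2_c31 LD3_c26)) :=
  Lgr Lrot17 (Lpr_gf (K24.f346223 IH) (Lpe (K15.f256598 IH) (Lpr_dt (K19.f305472 IH) (Lpe (K19.f232210 IH) (Lpe (K14.f235679 IH) (Lpe (K19.f235736 IH) (Lpe (K21.f323803 IH) (Lpe (f237061 IH) (Lpr_gf (f237066 IH) (Lpr_df (K23.f346195 IH) (Lpn (LP (LK LD1_c10 LD2_c31 LD3_c26)))))))))))))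
theorem f346289 : Led Lsl_bf (LP (LK LD1_c10 LD2_c35 LD3_c14)) = (LP (LK LD1_c8 LD2_c39 LD3_c16)) :=
  Lgr Lrot96 (Lpe (K23.f346259 IH) (Lpr_bt (f346287 IH) (Lpe (f346227 IH) (Lpn (LP (LK LD1_c8 LD2_c39 LD3_c16))))))
theorem f346479 : Led Lsl_gf (LP (LK LD1_c10 LD2_c35 LD3_c14)) = (LP (LK LD1_c10 LD2_c35 LD3_c43)) :=
  Lgr Lrot124 (Lpr_bf (f346289 IH) (Lpr_ct (K24.f346225 IH) (Lpr_gt (K24.f231572 IH) (Lpe (K20.f189375 IH) (Lpr_bt (f231555 IH) (Lpr_gt (K23.f231569 IH) (Lpr_ct (K23.f231573 IH) (Lpr_gt (K23.f346474 IH) (Lpe (K23.f194731 IH) (Lpr_bt (K10.f194711 IH) (Lpn (LP (LK LD1_c10 LD2_c35 LD3_c43)))))))))))))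
theorem f310748 : Led Lsl_af (LP (LK LD1_c5 LD2_c22 LD3_c25)) = (LP (LK LD1_c5 LD2_c22 LD3_c41)) :=
  Lgr Lrot45 (Lpr_ft (K19.f182851 IH) (Lpr_at (K19.f310739 IH) (Lpr_ft (K19.f310726 IH) (Lpn (LP (LK LD1_c5 LD2_c22 LD3_c41))))))
theorem f310927 : Led Lsl_ef (LP (LK LD1_c5 LD2_c22 LD3_c41)) = (LP (LK LD1_c10 LD2_c31 LD3_c13)) :=
  Lgr Lrot20 (Lpe (f310748 IH) (Lpr_et (K19.f310925 IH) (Lpe (K19.f310837 IH) (Lpn (LP (LK LD1_c10 LD2_c31 LD3_c13))))))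
theorem f220762 : Led Lsl_dt (LP (LK LD1_c19 LD2_c15 LD3_c5)) = (LP (LK LD1_c10 LD2_c37 LD3_c45)) :=
  Lre_d IH (LK LD1_c19 LD2_c15 LD3_c5) (LK LD1_c10 LD2_c37 LD3_c45) Lrfl Lrfl
theorem f184296 : Led Lsl_dt (LP (LK LD1_c10 LD2_c37 LD3_c45)) = (LP (LK LD1_c19 LD2_c15 LD3_c5)) :=
  Lre_d IH (LK LD1_c10 LD2_c37 LD3_c45) (LK LD1_c19 LD2_c15 LD3_c5) Lrfl Lrfl
theorem f220203 : Led Lsl_dt (LP (LK LD1_c8 LD2_c32 LD3_c36)) = (LP (LK LD1_c16 LD2_c2 LD3_c29)) :=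
  Lre_d IH (LK LD1_c8 LD2_c32 LD3_c36) (LK LD1_c16 LD2_c2 LD3_c29) Lrfl Lrfl
theorem f220202 : Led Lsl_et (LP (LK LD1_c16 LD2_c2 LD3_c30)) = (LP (LK LD1_c8 LD2_c32 LD3_c36)) :=
  Lre_e IH (LK LD1_c16 LD2_c2 LD3_c30) (LK LD1_c8 LD2_c32 LD3_c36) Lrfl Lrfl
theorem f220186 : Led Lsl_bt (LP (LK LD1_c16 LD2_c2 LD3_c30)) = (LP (LK LD1_c8 LD2_c32 LD3_c39)) :=
  Lre_b IH (LK LD1_c16 LD2_c2 LD3_c30) (LK LD1_c8 LD2_c32 LD3_c39) Lrfl Lrfl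
theorem f220187 : Led Lsl_bt (LP (LK LD1_c6 LD2_c6 LD3_c2)) = (LP (LK LD1_c11 LD2_c55 LD3_c33)) :=
  Lre_b IH (LK LD1_c6 LD2_c6 LD3_c2) (LK LD1_c11 LD2_c55 LD3_c33) Lrfl Lrfl
theorem f220188 : Led Lsl_df (LP (LK LD1_c16 LD2_c2 LD3_c30)) = (LP (LK LD1_c11 LD2_c55 LD3_c33)) :=
  Lgr Lrot12 (Lpr_bt (f220186 IH) (Lpr_dt (K17.f220180 IH) (Lpr_bt (f220187 IH) (Lpn (LP (LK LD1_c11 LD2_c55 LD3_c33))))))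
theorem f339536 : Led Lsl_et (LP (LK LD1_c19 LD2_c15 LD3_c5)) = (LP (LK LD1_c11 LD2_c55 LD3_c33)) :=
  Lgr Lrot71 (Lpe (f184296 IH) (Lpr_ef (K22.f339534 IH) (Lpe (f220203 IH) (Lpe (f220202 IH) (Lpr_df (f220188 IH) (Lpn (LP (LK LD1_c11 LD2_c55 LD3_c33))))))))
theorem f284139 : Led Lsl_ef (LP (LK LD1_c15 LD2_c36 LD3_c29)) = (LP (LK LD1_c8 LD2_c21 LD3_c34)) :=
  Lgr Lrot29 (Lpe (K15.f260808 IH) (Lpr_et (K17.f284134 IH) (Lpr_bt (K19.f284138 IH) (Lpn (LP (LK LD1_c8 LD2_c21 LD3_c34))))))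
theorem f220196 : Led Lsl_bt (LP (LK LD1_c8 LD2_c32 LD3_c39)) = (LP (LK LD1_c16 LD2_c2 LD3_c30)) :=
  Lre_b IH (LK LD1_c8 LD2_c32 LD3_c39) (LK LD1_c16 LD2_c2 LD3_c30) Lrfl Lrfl
theorem f220175 : Led Lsl_bt (LP (LK LD1_c11 LD2_c55 LD3_c33)) = (LP (LK LD1_c6 LD2_c6 LD3_c2)) :=
  Lre_b IH (LK LD1_c11 LD2_c55 LD3_c33) (LK LD1_c6 LD2_c6 LD3_c2) Lrfl Lrfl
theorem f220197 : Led Lsl_dt (LP (LK LD1_c16 LD2_c2 LD3_c30)) = (LP (LK LD1_c11 LD2_c55 LD3_c33)) :=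
  Lgr Lrot79 (Lpe (f220196 IH) (Lpr_df (K23.f220191 IH) (Lpe (f220175 IH) (Lpn (LP (LK LD1_c11 LD2_c55 LD3_c33))))))
theorem f339545 : Led Lsl_gt (LP (LK LD1_c10 LD2_c33 LD3_c44)) = (LP (LK LD1_c11 LD2_c55 LD3_c33)) :=
  Lgr Lrot112 (Lpr_df (K18.f284525 IH) (Lpe (f284139 IH) (Lpe (K23.f328811 IH) (Lpr_ef (K23.f328786 IH) (Lpr_dt (K23.f328783 IH) (Lpe (K22.f328778 IH) (Lpe (K16.f232415 IH) (Lpr_gf (K22.f339538 IH) (Lpe (f220202 IH) (Lpr_dt (f220197 IH) (Lpn (LP (LK LD1_c11 LD2_c55 LD3_c33)))))))))))))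
theorem f339578 : Led Lsl_gt (LP (LK LD1_c5 LD2_c22 LD3_c41)) = (LP (LK LD1_c5 LD2_c22 LD3_c23)) :=
  Lgr Lrot137 (Lpr_ef (f310927 IH) (Lpe (K19.f310804 IH) (Lpr_gf (K22.f339574 IH) (Lpe (f220762 IH) (Lpr_et (f339536 IH) (Lpe (f339545 IH) (Lpe (K17.f253305 IH) (Lpr_dt (K13.f231356 IH) (Lpr_gf (K24.f284535 IH) (Lpr_df (K24.f222171 IH) (Lpn (LP (LK LD1_c5 LD2_c22 LD3_c23)))))))))))))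
theorem f213985 : Led Lsl_ct (LP (LK LD1_c9 LD2_c41 LD3_c38)) = (LP (LK LD1_c4 LD2_c55 LD3_c0)) :=
  Lre_c IH (LK LD1_c9 LD2_c41 LD3_c38) (LK LD1_c4 LD2_c55 LD3_c0) Lrfl Lrfl
theorem f291798 : Led Lsl_ct (LP (LK LD1_c4 LD2_c54 LD3_c60)) = (LP (LK LD1_c2 LD2_c25 LD3_c22)) :=
  Lre_c IH (LK LD1_c4 LD2_c54 LD3_c60) (LK LD1_c2 LD2_c25 LD3_c22) Lrfl Lrfl
theorem f323686 : Led Lsl_gt (LP (LK LD1_c9 LD2_c41 LD3_c33)) = (LP (LK LD1_c4 LD2_c54 LD3_c60)) :=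
  Lre_g IH (LK LD1_c9 LD2_c41 LD3_c33) (LK LD1_c4 LD2_c54 LD3_c60) Lrfl Lrfl
theorem f352189 : Led Lsl_ct (LP (LK LD1_c5 LD2_c22 LD3_c23)) = (LP (LK LD1_c9 LD2_c41 LD3_c33)) :=
  Lgr Lrot152 (Lpe (f339578 IH) (Lpe (K10.f194727 IH) (Lpe (f346479 IH) (Lpr_ct (f352185 IH) (Lpr_gt (f213989 IH) (Lpr_ct (f213985 IH) (Lpe (f213929 IH) (Lpe (f291798 IH) (Lpe (f323686 IH) (Lpn (LP (LK LD1_c9 LD2_c41 LD3_c33))))))))))))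
theorem f291797 : Led Lsl_ct (LP (LK LD1_c2 LD2_c25 LD3_c22)) = (LP (LK LD1_c4 LD2_c54 LD3_c60)) :=
  Lre_c IH (LK LD1_c2 LD2_c25 LD3_c22) (LK LD1_c4 LD2_c54 LD3_c60) Lrfl Lrfl
theorem f213967 : Led Lsl_bt (LP (LK LD1_c2 LD2_c25 LD3_c22)) = (LP (LK LD1_c4 LD2_c54 LD3_c45)) :=
  Lre_b IH (LK LD1_c2 LD2_c25 LD3_c22) (LK LD1_c4 LD2_c54 LD3_c45) Lrfl Lrfl
theorem f213910 : Led Lsl_gt (LP (LK LD1_c4 LD2_c54 LD3_c45)) = (LP (LK LD1_c9 LD2_c41 LD3_c3)) :=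
  Lre_g IH (LK LD1_c4 LD2_c54 LD3_c45) (LK LD1_c9 LD2_c41 LD3_c3) Lrfl Lrfl
theorem f198979 : Led Lsl_ct (LP (LK LD1_c15 LD2_c17 LD3_c44)) = (LP (LK LD1_c8 LD2_c7 LD3_c19)) :=
  Lre_c IH (LK LD1_c15 LD2_c17 LD3_c44) (LK LD1_c8 LD2_c7 LD3_c19) Lrfl Lrfl
theorem f321480 : Led Lsl_ft (LP (LK LD1_c4 LD2_c27 LD3_c54)) = (LP (LK LD1_c8 LD2_c53 LD3_c47)) :=
  Lre_f IH (LK LD1_c4 LD2_c27 LD3_c54) (LK LD1_c8 LD2_c53 LD3_c47) Lrfl Lrfl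
theorem f42386 : Led Lsl_gt (LP (LK LD1_c4 LD2_c27 LD3_c54)) = (LP (LK LD1_c8 LD2_c53 LD3_c44)) :=
  Lre_g IH (LK LD1_c4 LD2_c27 LD3_c54) (LK LD1_c8 LD2_c53 LD3_c44) Lrfl Lrfl
theorem f321481 : Led Lsl_gt (LP (LK LD1_c8 LD2_c53 LD3_c44)) = (LP (LK LD1_c15 LD2_c17 LD3_c44)) :=
  Lgr Lrot46 (Lpe (f42386 IH) (Lpr_ft (f321480 IH) (Lpr_at (K22.f321449 IH) (Lpn (LP (LK LD1_c15 LD2_c17 LD3_c44))))))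
theorem f352182 : Led Lsl_cf (LP (LK LD1_c8 LD2_c53 LD3_c44)) = (LP (LK LD1_c9 LD2_c41 LD3_c3)) :=
  Lgr Lrot169 (Lpr_gt (f321481 IH) (Lpr_ct (f198979 IH) (Lpr_df (K12.f198983 IH) (Lpe (K15.f198971 IH) (Lpr_gf (f352180 IH) (Lpe (f352173 IH) (Lpe (f213944 IH) (Lpr_df (K23.f213935 IH) (Lpr_gt (f213910 IH) (Lpn (LP (LK LD1_c9 LD2_c41 LD3_c3))))))))))))
theorem f198990 : Led Lsl_bt (LP (LK LD1_c8 LD2_c7 LD3_c19)) = (LP (LK LD1_c4 LD2_c3 LD3_c33)) :=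
  Lre_b IH (LK LD1_c8 LD2_c7 LD3_c19) (LK LD1_c4 LD2_c3 LD3_c33) Lrfl Lrfl
theorem f352204 : Led Lsl_bt (LP (LK LD1_c5 LD2_c22 LD3_c23)) = (LP (LK LD1_c4 LD2_c52 LD3_c49)) :=
  Lgr Lrot92 (Lpr_ct (f352189 IH) (Lpr_gt (f323686 IH) (Lpe (f291797 IH) (Lpr_bt (f213967 IH) (Lpr_gt (f213910 IH) (Lpe (f352182 IH) (Lpr_gt (f321481 IH) (Lpe (K17.f198992 IH) (Lpr_bt (f198990 IH) (Lpe (K19.f310569 IH) (Lpn (LP (LK LD1_c4 LD2_c52 LD3_c49)))))))))))))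
theorem f222176 : Led Lsl_et (LP (LK LD1_c10 LD2_c35 LD3_c12)) = (LP (LK LD1_c5 LD2_c22 LD3_c23)) :=
  Lre_e IH (LK LD1_c10 LD2_c35 LD3_c12) (LK LD1_c5 LD2_c22 LD3_c23) Lrfl Lrfl
theorem f352213 : Led Lsl_bf (LP (LK LD1_c10 LD2_c35 LD3_c12)) = (LP (LK LD1_c9 LD2_c37 LD3_c41)) :=
  Lgr Lrot96 (Lpr_et (f222176 IH) (Lpr_bt (f352204 IH) (Lpr_et (K21.f187959 IH) (Lpn (LP (LK LD1_c9 LD2_c37 LD3_c41))))))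
theorem f170720 : Led Lsl_dt (LP (LK LD1_c8 LD2_c20 LD3_c28)) = (LP (LK LD1_c4 LD2_c10 LD3_c7)) :=
  Lre_d IH (LK LD1_c8 LD2_c20 LD3_c28) (LK LD1_c4 LD2_c10 LD3_c7) Lrfl Lrfl
theorem f222173 : Led Lsl_et (LP (LK LD1_c5 LD2_c22 LD3_c23)) = (LP (LK LD1_c10 LD2_c35 LD3_c12)) :=
  Lre_e IH (LK LD1_c5 LD2_c22 LD3_c23) (LK LD1_c10 LD2_c35 LD3_c12) Lrfl Lrfl
theorem f340950 : Led Lsl_gt (LP (LK LD1_c10 LD2_c35 LD3_c12)) = (LP (LK LD1_c10 LD2_c42 LD3_c42)) :=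
  Lgr Lrot137 (Lpe (f222173 IH) (Lpe (K24.f222171 IH) (Lpe (K24.f170829 IH) (Lpe (f170720 IH) (Lpr_et (K10.f187971 IH) (Lpe (K10.f188002 IH) (Lpe (K12.f49246 IH) (Lpr_dt (K14.f50096 IH) (Lpr_gf (f340943 IH) (Lpe (f309865 IH) (Lpn (LP (LK LD1_c10 LD2_c42 LD3_c42)))))))))))))
theorem f224570 : Led Lsl_bt (LP (LK LD1_c5 LD2_c25 LD3_c44)) = (LP (LK LD1_c10 LD2_c42 LD3_c42)) :=
  Lre_b IH (LK LD1_c5 LD2_c25 LD3_c44) (LK LD1_c10 LD2_c42 LD3_c42) Lrfl Lrfl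
theorem f224561 : Led Lsl_ct (LP (LK LD1_c5 LD2_c25 LD3_c44)) = (LP (LK LD1_c10 LD2_c42 LD3_c48)) :=
  Lre_c IH (LK LD1_c5 LD2_c25 LD3_c44) (LK LD1_c10 LD2_c42 LD3_c48) Lrfl Lrfl
theorem f224569 : Led Lsl_gt (LP (LK LD1_c10 LD2_c42 LD3_c48)) = (LP (LK LD1_c19 LD2_c23 LD3_c30)) :=
  Lre_g IH (LK LD1_c10 LD2_c42 LD3_c48) (LK LD1_c19 LD2_c23 LD3_c30) Lrfl Lrfl
theorem f28111 : Led Lsl_ct (LP (LK LD1_c15 LD2_c9 LD3_c37)) = (LP (LK LD1_c24 LD2_c58 LD3_c45)) :=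
  Lre_c IH (LK LD1_c15 LD2_c9 LD3_c37) (LK LD1_c24 LD2_c58 LD3_c45) Lrfl Lrfl
theorem f51005 : Led Lsl_dt (LP (LK LD1_c15 LD2_c17 LD3_c27)) = (LP (LK LD1_c25 LD2_c7 LD3_c45)) :=
  Lre_d IH (LK LD1_c15 LD2_c17 LD3_c27) (LK LD1_c25 LD2_c7 LD3_c45) Lrfl Lrfl
theorem f52605 : Led Lsl_cf (LP (LK LD1_c15 LD2_c17 LD3_c31)) = (LP (LK LD1_c25 LD2_c7 LD3_c45)) :=
  Lgr Lrot55 (Lpr_dt (K22.f28027 IH) (Lpr_ct (K20.f28026 IH) (Lpe (K10.f27994 IH) (Lpr_ct (K9.f28024 IH) (Lpr_dt (K20.f28025 IH) (Lpe (K10.f52597 IH) (Lpr_dt (K10.f51028 IH) (Lpr_ct (K20.f52375 IH) (Lpr_dt (K20.f52398 IH) (Lpr_ct (K20.f52344 IH) (Lpe (K19.f27980 IH) (Lpr_ct (K20.f52602 IH) (Lpr_dt (K10.f52305 IH) (Lpr_ct (K20.f52601 IH) (Lpr_dt (f51005 IH) (Lpn (LP (LK LD1_c25 LD2_c7 LD3_c45))))))))))))))))))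
theorem f52595 : Led Lsl_af (LP (LK LD1_c25 LD2_c7 LD3_c45)) = (LP (LK LD1_c25 LD2_c7 LD3_c46)) :=
  Lgr Lrot45 (Lpr_ft (K10.f52590 IH) (Lpe (K20.f52376 IH) (Lpr_ft (K10.f51018 IH) (Lpn (LP (LK LD1_c25 LD2_c7 LD3_c46))))))
theorem f51037 : Led Lsl_gt (LP (LK LD1_c15 LD2_c17 LD3_c27)) = (LP (LK LD1_c25 LD2_c7 LD3_c43)) :=
  Lre_g IH (LK LD1_c15 LD2_c17 LD3_c27) (LK LD1_c25 LD2_c7 LD3_c43) Lrfl Lrfl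
theorem f52905 : Led Lsl_gf (LP (LK LD1_c25 LD2_c7 LD3_c45)) = (LP (LK LD1_c25 LD2_c7 LD3_c43)) :=
  Lgr Lrot76 (Lpr_af (f52595 IH) (Lpe (K10.f51018 IH) (Lpr_gt (f51037 IH) (Lpn (LP (LK LD1_c25 LD2_c7 LD3_c43))))))
theorem f299075 : Led Lsl_ct (LP (LK LD1_c15 LD2_c53 LD3_c6)) = (LP (LK LD1_c25 LD2_c7 LD3_c43)) :=
  Lgr Lrot152 (Lpe (K22.f52621 IH) (Lpe (K19.f52885 IH) (Lpr_gt (K19.f52899 IH) (Lpr_ct (K19.f299068 IH) (Lpr_gt (K19.f28035 IH) (Lpr_ct (K9.f28024 IH) (Lpe (K22.f28027 IH) (Lpr_cf (f52605 IH) (Lpr_gf (f52905 IH) (Lpn (LP (LK LD1_c25 LD2_c7 LD3_c43))))))))))))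
theorem f299082 : Led Lsl_cf (LP (LK LD1_c15 LD2_c53 LD3_c6)) = (LP (LK LD1_c25 LD2_c7 LD3_c43)) :=
  Lgr Lrot11 (Lpr_ct (f299075 IH) (Lpn (LP (LK LD1_c25 LD2_c7 LD3_c43))))
theorem f323702 : Led Lsl_gf (LP (LK LD1_c15 LD2_c53 LD3_c20)) = (LP (LK LD1_c15 LD2_c55 LD3_c1)) :=
  Lgr Lrot179 (Lpr_ct (K22.f310593 IH) (Lpe (K21.f199330 IH) (Lpr_ct (f28111 IH) (Lpr_dt (K22.f323697 IH) (Lpr_cf (f299082 IH) (Lpe (f51037 IH) (Lpe (K20.f52601 IH) (Lpe (K20.f52306 IH) (Lpr_dt (K20.f312211 IH) (Lpn (LP (LK LD1_c15 LD2_c55 LD3_c1))))))))))))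
theorem f235129 : Led Lsl_bt (LP (LK LD1_c21 LD2_c2 LD3_c1)) = (LP (LK LD1_c11 LD2_c57 LD3_c3)) :=
  Lre_b IH (LK LD1_c21 LD2_c2 LD3_c1) (LK LD1_c11 LD2_c57 LD3_c3) Lrfl Lrfl
theorem f352219 : Led Lsl_cf (LP (LK LD1_c19 LD2_c23 LD3_c30)) = (LP (LK LD1_c21 LD2_c2 LD3_c1)) :=
  Lgr Lrot58 (Lpe (f224569 IH) (Lpe (f224561 IH) (Lpr_bt (f224570 IH) (Lpe (f340950 IH) (Lpr_bf (f352213 IH) (Lpe (K22.f310595 IH) (Lpr_gf (f323702 IH) (Lpe (K20.f224249 IH) (Lpr_gf (K20.f235125 IH) (Lpe (f235129 IH) (Lpn (LP (LK LD1_c21 LD2_c2 LD3_c1)))))))))))))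
theorem f41505 : Led Lsl_ct (LP (LK LD1_c5 LD2_c25 LD3_c48)) = (LP (LK LD1_c10 LD2_c42 LD3_c53)) :=
  Lre_c IH (LK LD1_c5 LD2_c25 LD3_c48) (LK LD1_c10 LD2_c42 LD3_c53) Lrfl Lrfl
theorem f352223 : Led Lsl_gt (LP (LK LD1_c19 LD2_c23 LD3_c30)) = (LP (LK LD1_c10 LD2_c42 LD3_c53)) :=
  Lgr Lrot65 (Lpr_cf (f352219 IH) (Lpr_bt (f235129 IH) (Lpe (K21.f313121 IH) (Lpe (K24.f322749 IH) (Lpr_ct (K24.f212910 IH) (Lpr_gf (f347004 IH) (Lpe (f347002 IH) (Lpr_gf (K21.f326804 IH) (Lpe (K20.f276769 IH) (Lpr_ct (f41505 IH) (Lpn (LP (LK LD1_c10 LD2_c42 LD3_c53)))))))))))))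
theorem f41501 : Led Lsl_ct (LP (LK LD1_c10 LD2_c42 LD3_c53)) = (LP (LK LD1_c5 LD2_c25 LD3_c48)) :=
  Lre_c IH (LK LD1_c10 LD2_c42 LD3_c53) (LK LD1_c5 LD2_c25 LD3_c48) Lrfl Lrfl
theorem f351861 : Led Lsl_bt (LP (LK LD1_c11 LD2_c6 LD3_c3)) = (LP (LK LD1_c19 LD2_c59 LD3_c31)) :=
  Lre_b IH (LK LD1_c11 LD2_c6 LD3_c3) (LK LD1_c19 LD2_c59 LD3_c31) Lrfl Lrfl
theorem f351880 : Led Lsl_df (LP (LK LD1_c15 LD2_c3 LD3_c10)) = (LP (LK LD1_c19 LD2_c59 LD3_c31)) :=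
  Lgr Lrot12 (Lpr_bt (K20.f54988 IH) (Lpr_dt (f351878 IH) (Lpr_bt (f351861 IH) (Lpn (LP (LK LD1_c19 LD2_c59 LD3_c31))))))
theorem f352227 : Led Lsl_gf (LP (LK LD1_c21 LD2_c2 LD3_c1)) = (LP (LK LD1_c19 LD2_c59 LD3_c31)) :=
  Lgr Lrot147 (Lpe (f352219 IH) (Lpr_gt (f352223 IH) (Lpr_ct (f41501 IH) (Lpe (K21.f41500 IH) (Lpe (K22.f42361 IH) (Lpe (K22.f224592 IH) (Lpr_cf (K19.f189331 IH) (Lpe (K22.f329866 IH) (Lpr_df (f351880 IH) (Lpn (LP (LK LD1_c19 LD2_c59 LD3_c31))))))))))))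
theorem f352229 : Led Lsl_df (LP (LK LD1_c19 LD2_c59 LD3_c31)) = (LP (LK LD1_c15 LD2_c3 LD3_c10)) :=
  Lgr Lrot155 (Lpe (f352227 IH) (Lpe (f352219 IH) (Lpr_gt (f352223 IH) (Lpr_ct (f41501 IH) (Lpr_dt (K16.f41514 IH) (Lpe (K22.f42361 IH) (Lpe (K22.f224592 IH) (Lpr_cf (K19.f189331 IH) (Lpe (K22.f329866 IH) (Lpn (LP (LK LD1_c15 LD2_c3 LD3_c10))))))))))))
theorem f313161 : Led Lsl_bt (LP (LK LD1_c8 LD2_c9 LD3_c55)) = (LP (LK LD1_c15 LD2_c22 LD3_c39)) :=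
  Lre_b IH (LK LD1_c8 LD2_c9 LD3_c55) (LK LD1_c15 LD2_c22 LD3_c39) Lrfl Lrfl
theorem f313198 : Led Lsl_dt (LP (LK LD1_c15 LD2_c22 LD3_c39)) = (LP (LK LD1_c21 LD2_c2 LD3_c1)) :=
  Lgr Lrot79 (Lpe (f313161 IH) (Lpr_df (K22.f313119 IH) (Lpe (f235129 IH) (Lpn (LP (LK LD1_c21 LD2_c2 LD3_c1))))))
theorem f313206 : Led Lsl_et (LP (LK LD1_c15 LD2_c22 LD3_c39)) = (LP (LK LD1_c8 LD2_c9 LD3_c53)) :=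
  Lre_e IH (LK LD1_c15 LD2_c22 LD3_c39) (LK LD1_c8 LD2_c9 LD3_c53) Lrfl Lrfl
theorem f352231 : Led Lsl_gt (LP (LK LD1_c8 LD2_c9 LD3_c53)) = (LP (LK LD1_c4 LD2_c54 LD3_c51)) :=
  Lgr Lrot131 (Lpe (f313206 IH) (Lpr_dt (f313198 IH) (Lpr_gf (f352227 IH) (Lpr_df (f352229 IH) (Lpr_gf (K22.f329870 IH) (Lpe (K12.f223899 IH) (Lpr_dt (K12.f223822 IH) (Lpe (K12.f168194 IH) (Lpe (K15.f216311 IH) (Lpr_et (K24.f216312 IH) (Lpn (LP (LK LD1_c4 LD2_c54 LD3_c51)))))))))))))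
theorem f352240 : Led Lsl_df (LP (LK LD1_c8 LD2_c9 LD3_c53)) = (LP (LK LD1_c9 LD2_c41 LD3_c3)) :=
  Lgr Lrot135 (Lpr_gt (f352231 IH) (Lpe (K24.f214049 IH) (Lpr_et (K12.f214050 IH) (Lpe (K12.f214070 IH) (Lpe (K9.f47791 IH) (Lpr_dt (K9.f53633 IH) (Lpr_gt (K12.f213775 IH) (Lpe (K13.f213908 IH) (Lpr_et (K24.f213909 IH) (Lpr_gt (f213910 IH) (Lpn (LP (LK LD1_c9 LD2_c41 LD3_c3)))))))))))))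
theorem f191107 : Led Lsl_et (LP (LK LD1_c4 LD2_c5 LD3_c7)) = (LP (LK LD1_c8 LD2_c11 LD3_c2)) :=
  Lre_e IH (LK LD1_c4 LD2_c5 LD3_c7) (LK LD1_c8 LD2_c11 LD3_c2) Lrfl Lrfl
theorem f191108 : Led Lsl_gt (LP (LK LD1_c8 LD2_c11 LD3_c2)) = (LP (LK LD1_c15 LD2_c24 LD3_c32)) :=
  Lre_g IH (LK LD1_c8 LD2_c11 LD3_c2) (LK LD1_c15 LD2_c24 LD3_c32) Lrfl Lrfl
theorem f352242 : Led Lsl_et (LP (LK LD1_c9 LD2_c41 LD3_c3)) = (LP (LK LD1_c15 LD2_c24 LD3_c32)) :=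
  Lgr Lrot122 (Lpe (f352240 IH) (Lpr_gt (f352231 IH) (Lpe (K24.f214049 IH) (Lpr_et (K12.f214050 IH) (Lpe (K12.f214070 IH) (Lpr_dt (K9.f47790 IH) (Lpr_gt (K10.f191098 IH) (Lpe (K15.f182527 IH) (Lpr_et (f191107 IH) (Lpr_gt (f191108 IH) (Lpn (LP (LK LD1_c15 LD2_c24 LD3_c32)))))))))))))
theorem f352246 : Led Lsl_ef (LP (LK LD1_c9 LD2_c41 LD3_c3)) = (LP (LK LD1_c15 LD2_c24 LD3_c32)) :=
  Lgr Lrot88 (Lpr_et (f352242 IH) (Lpn (LP (LK LD1_c15 LD2_c24 LD3_c32))))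
theorem f313204 : Led Lsl_et (LP (LK LD1_c8 LD2_c9 LD3_c53)) = (LP (LK LD1_c15 LD2_c22 LD3_c39)) :=
  Lre_e IH (LK LD1_c8 LD2_c9 LD3_c53) (LK LD1_c15 LD2_c22 LD3_c39) Lrfl Lrfl
theorem f313205 : Led Lsl_et (LP (LK LD1_c21 LD2_c2 LD3_c1)) = (LP (LK LD1_c11 LD2_c57 LD3_c1)) :=
  Lre_e IH (LK LD1_c21 LD2_c2 LD3_c1) (LK LD1_c11 LD2_c57 LD3_c1) Lrfl Lrfl
theorem f352250 : Led Lsl_dt (LP (LK LD1_c11 LD2_c57 LD3_c1)) = (LP (LK LD1_c15 LD2_c24 LD3_c32)) :=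
  Lgr Lrot77 (Lpe (f313205 IH) (Lpe (f313198 IH) (Lpe (f313204 IH) (Lpr_df (f352240 IH) (Lpr_ef (f352246 IH) (Lpn (LP (LK LD1_c15 LD2_c24 LD3_c32))))))))
theorem f352252 : Led Lsl_df (LP (LK LD1_c11 LD2_c57 LD3_c1)) = (LP (LK LD1_c15 LD2_c24 LD3_c32)) :=
  Lgr Lrot38 (Lpr_dt (f352250 IH) (Lpn (LP (LK LD1_c15 LD2_c24 LD3_c32))))
theorem f313207 : Led Lsl_et (LP (LK LD1_c11 LD2_c57 LD3_c1)) = (LP (LK LD1_c21 LD2_c2 LD3_c1)) :=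
  Lre_e IH (LK LD1_c11 LD2_c57 LD3_c1) (LK LD1_c21 LD2_c2 LD3_c1) Lrfl Lrfl
theorem f313114 : Led Lsl_bt (LP (LK LD1_c15 LD2_c22 LD3_c39)) = (LP (LK LD1_c8 LD2_c9 LD3_c55)) :=
  Lre_b IH (LK LD1_c15 LD2_c22 LD3_c39) (LK LD1_c8 LD2_c9 LD3_c55) Lrfl Lrfl
theorem f313115 : Led Lsl_bt (LP (LK LD1_c11 LD2_c57 LD3_c3)) = (LP (LK LD1_c21 LD2_c2 LD3_c1)) :=
  Lre_b IH (LK LD1_c11 LD2_c57 LD3_c3) (LK LD1_c21 LD2_c2 LD3_c1) Lrfl Lrfl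
theorem f313116 : Led Lsl_df (LP (LK LD1_c15 LD2_c22 LD3_c39)) = (LP (LK LD1_c21 LD2_c2 LD3_c1)) :=
  Lgr Lrot12 (Lpr_bt (f313114 IH) (Lpr_dt (K21.f313098 IH) (Lpr_bt (f313115 IH) (Lpn (LP (LK LD1_c21 LD2_c2 LD3_c1))))))
theorem f352256 : Led Lsl_dt (LP (LK LD1_c8 LD2_c9 LD3_c53)) = (LP (LK LD1_c9 LD2_c41 LD3_c3)) :=
  Lgr Lrot77 (Lpe (f313206 IH) (Lpr_df (f313116 IH) (Lpe (f313207 IH) (Lpr_df (f352252 IH) (Lpe (f352242 IH) (Lpn (LP (LK LD1_c9 LD2_c41 LD3_c3))))))))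
theorem f352233 : Led Lsl_gf (LP (LK LD1_c8 LD2_c9 LD3_c53)) = (LP (LK LD1_c15 LD2_c1 LD3_c16)) :=
  Lgr Lrot47 (Lpr_gt (f352231 IH) (Lpe (K22.f339448 IH) (Lpe (K22.f187281 IH) (Lpn (LP (LK LD1_c15 LD2_c1 LD3_c16))))))
theorem f42401 : Led Lsl_dt (LP (LK LD1_c16 LD2_c38 LD3_c13)) = (LP (LK LD1_c8 LD2_c53 LD3_c44)) :=
  Lre_d IH (LK LD1_c16 LD2_c38 LD3_c13) (LK LD1_c8 LD2_c53 LD3_c44) Lrfl Lrfl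
theorem f42411 : Led Lsl_et (LP (LK LD1_c6 LD2_c5 LD3_c5)) = (LP (LK LD1_c2 LD2_c58 LD3_c43)) :=
  Lre_e IH (LK LD1_c6 LD2_c5 LD3_c5) (LK LD1_c2 LD2_c58 LD3_c43) Lrfl Lrfl
theorem f311107 : Led Lsl_af (LP (LK LD1_c2 LD2_c38 LD3_c8)) = (LP (LK LD1_c2 LD2_c58 LD3_c43)) :=
  Lgr Lrot50 (Lpr_et (K17.f256896 IH) (Lpr_at (K19.f311093 IH) (Lpr_et (f42411 IH) (Lpn (LP (LK LD1_c2 LD2_c58 LD3_c43))))))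
theorem f42518 : Led Lsl_bt (LP (LK LD1_c2 LD2_c38 LD3_c8)) = (LP (LK LD1_c5 LD2_c23 LD3_c21)) :=
  Lre_b IH (LK LD1_c2 LD2_c38 LD3_c8) (LK LD1_c5 LD2_c23 LD3_c21) Lrfl Lrfl
theorem f182924 : Led Lsl_at (LP (LK LD1_c5 LD2_c23 LD3_c21)) = (LP (LK LD1_c10 LD2_c37 LD3_c15)) :=
  Lre_a IH (LK LD1_c5 LD2_c23 LD3_c21) (LK LD1_c10 LD2_c37 LD3_c15) Lrfl Lrfl
theorem f194768 : Led Lsl_bt (LP (LK LD1_c6 LD2_c5 LD3_c3)) = (LP (LK LD1_c2 LD2_c58 LD3_c43)) :=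
  Lre_b IH (LK LD1_c6 LD2_c5 LD3_c3) (LK LD1_c2 LD2_c58 LD3_c43) Lrfl Lrfl
theorem f311117 : Led Lsl_at (LP (LK LD1_c11 LD2_c53 LD3_c31)) = (LP (LK LD1_c6 LD2_c5 LD3_c3)) :=
  Lre_a IH (LK LD1_c11 LD2_c53 LD3_c31) (LK LD1_c6 LD2_c5 LD3_c3) Lrfl Lrfl
theorem f311118 : Led Lsl_bt (LP (LK LD1_c10 LD2_c37 LD3_c15)) = (LP (LK LD1_c11 LD2_c53 LD3_c31)) :=
  Lgr Lrot62 (Lpe (f182924 IH) (Lpe (f42518 IH) (Lpr_af (f311107 IH) (Lpe (f194768 IH) (Lpe (f311117 IH) (Lpn (LP (LK LD1_c11 LD2_c53 LD3_c31))))))))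
theorem f311120 : Led Lsl_bf (LP (LK LD1_c10 LD2_c37 LD3_c15)) = (LP (LK LD1_c11 LD2_c53 LD3_c31)) :=
  Lgr Lrot24 (Lpr_bt (f311118 IH) (Lpn (LP (LK LD1_c11 LD2_c53 LD3_c31))))
theorem f311125 : Led Lsl_et (LP (LK LD1_c10 LD2_c37 LD3_c15)) = (LP (LK LD1_c19 LD2_c14 LD3_c3)) :=
  Lre_e IH (LK LD1_c10 LD2_c37 LD3_c15) (LK LD1_c19 LD2_c14 LD3_c3) Lrfl Lrfl
theorem f311126 : Led Lsl_et (LP (LK LD1_c20 LD2_c57 LD3_c6)) = (LP (LK LD1_c11 LD2_c53 LD3_c31)) :=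
  Lre_e IH (LK LD1_c20 LD2_c57 LD3_c6) (LK LD1_c11 LD2_c53 LD3_c31) Lrfl Lrfl
theorem f311127 : Led Lsl_bt (LP (LK LD1_c19 LD2_c14 LD3_c3)) = (LP (LK LD1_c20 LD2_c57 LD3_c6)) :=
  Lgr Lrot119 (Lpe (f311125 IH) (Lpr_bf (f311120 IH) (Lpe (f311126 IH) (Lpn (LP (LK LD1_c20 LD2_c57 LD3_c6))))))
theorem f311131 : Led Lsl_dt (LP (LK LD1_c28 LD2_c40 LD3_c25)) = (LP (LK LD1_c19 LD2_c14 LD3_c3)) :=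
  Lre_d IH (LK LD1_c28 LD2_c40 LD3_c25) (LK LD1_c19 LD2_c14 LD3_c3) Lrfl Lrfl
theorem f311132 : Led Lsl_dt (LP (LK LD1_c20 LD2_c57 LD3_c6)) = (LP (LK LD1_c29 LD2_c45 LD3_c55)) :=
  Lre_d IH (LK LD1_c20 LD2_c57 LD3_c6) (LK LD1_c29 LD2_c45 LD3_c55) Lrfl Lrfl
theorem f311133 : Led Lsl_bf (LP (LK LD1_c28 LD2_c40 LD3_c25)) = (LP (LK LD1_c29 LD2_c45 LD3_c55)) :=
  Lgr Lrot93 (Lpr_dt (f311131 IH) (Lpr_bt (f311127 IH) (Lpr_dt (f311132 IH) (Lpn (LP (LK LD1_c29 LD2_c45 LD3_c55))))))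
theorem f311135 : Led Lsl_at (LP (LK LD1_c28 LD2_c40 LD3_c25)) = (LP (LK LD1_c19 LD2_c14 LD3_c4)) :=
  Lre_a IH (LK LD1_c28 LD2_c40 LD3_c25) (LK LD1_c19 LD2_c14 LD3_c4) Lrfl Lrfl
theorem f311136 : Led Lsl_bt (LP (LK LD1_c19 LD2_c14 LD3_c4)) = (LP (LK LD1_c10 LD2_c37 LD3_c7)) :=
  Lre_b IH (LK LD1_c19 LD2_c14 LD3_c4) (LK LD1_c10 LD2_c37 LD3_c7) Lrfl Lrfl
theorem f311137 : Led Lsl_at (LP (LK LD1_c20 LD2_c57 LD3_c9)) = (LP (LK LD1_c29 LD2_c45 LD3_c55)) :=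
  Lre_a IH (LK LD1_c20 LD2_c57 LD3_c9) (LK LD1_c29 LD2_c45 LD3_c55) Lrfl Lrfl
theorem f311009 : Led Lsl_bt (LP (LK LD1_c11 LD2_c53 LD3_c37)) = (LP (LK LD1_c20 LD2_c57 LD3_c9)) :=
  Lre_b IH (LK LD1_c11 LD2_c53 LD3_c37) (LK LD1_c20 LD2_c57 LD3_c9) Lrfl Lrfl
theorem f311138 : Led Lsl_at (LP (LK LD1_c10 LD2_c37 LD3_c7)) = (LP (LK LD1_c11 LD2_c53 LD3_c37)) :=
  Lgr Lrot67 (Lpe (f311136 IH) (Lpe (f311135 IH) (Lpr_bf (f311133 IH) (Lpe (f311137 IH) (Lpe (f311009 IH) (Lpn (LP (LK LD1_c11 LD2_c53 LD3_c37))))))))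
theorem f310987 : Led Lsl_ft (LP (LK LD1_c19 LD2_c14 LD3_c10)) = (LP (LK LD1_c10 LD2_c37 LD3_c7)) :=
  Lre_f IH (LK LD1_c19 LD2_c14 LD3_c10) (LK LD1_c10 LD2_c37 LD3_c7) Lrfl Lrfl
theorem f42387 : Led Lsl_dt (LP (LK LD1_c8 LD2_c53 LD3_c44)) = (LP (LK LD1_c16 LD2_c38 LD3_c13)) :=
  Lre_d IH (LK LD1_c8 LD2_c53 LD3_c44) (LK LD1_c16 LD2_c38 LD3_c13) Lrfl Lrfl
theorem f42388 : Led Lsl_gf (LP (LK LD1_c11 LD2_c53 LD3_c37)) = (LP (LK LD1_c16 LD2_c38 LD3_c13)) :=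
  Lgr Lrot143 (Lpr_dt (f42275 IH) (Lpe (K19.f42384 IH) (Lpe (K19.f42277 IH) (Lpe (K21.f42296 IH) (Lpr_df (K21.f42300 IH) (Lpe (K21.f42299 IH) (Lpe (K17.f42385 IH) (Lpr_gt (f42386 IH) (Lpr_dt (f42387 IH) (Lpn (LP (LK LD1_c16 LD2_c38 LD3_c13))))))))))))
theorem f311150 : Led Lsl_gt (LP (LK LD1_c19 LD2_c14 LD3_c10)) = (LP (LK LD1_c16 LD2_c38 LD3_c13)) :=
  Lgr Lrot5 (Lpr_ft (f310987 IH) (Lpr_at (f311138 IH) (Lpr_gf (f42388 IH) (Lpn (LP (LK LD1_c16 LD2_c38 LD3_c13))))))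
theorem f283455 : Led Lsl_dt (LP (LK LD1_c10 LD2_c37 LD3_c8)) = (LP (LK LD1_c19 LD2_c14 LD3_c10)) :=
  Lre_d IH (LK LD1_c10 LD2_c37 LD3_c8) (LK LD1_c19 LD2_c14 LD3_c10) Lrfl Lrfl
theorem f352276 : Led Lsl_cf (LP (LK LD1_c17 LD2_c48 LD3_c61)) = (LP (LK LD1_c11 LD2_c53 LD3_c35)) :=
  Lgr Lrot166 (Lpr_gt (f351512 IH) (Lpe (K10.f187279 IH) (Lpe (f352233 IH) (Lpr_dt (f352256 IH) (Lpe (f352182 IH) (Lpe (f42401 IH) (Lpe (f311150 IH) (Lpe (f283455 IH) (Lpr_gf (f311095 IH) (Lpn (LP (LK LD1_c11 LD2_c53 LD3_c35))))))))))))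
theorem f42408 : Led Lsl_dt (LP (LK LD1_c20 LD2_c57 LD3_c15)) = (LP (LK LD1_c11 LD2_c53 LD3_c35)) :=
  Lre_d IH (LK LD1_c20 LD2_c57 LD3_c15) (LK LD1_c11 LD2_c53 LD3_c35) Lrfl Lrfl
theorem f352347 : Led Lsl_gt (LP (LK LD1_c15 LD2_c17 LD3_c43)) = (LP (LK LD1_c20 LD2_c57 LD3_c15)) :=
  Lgr Lrot49 (Lpe (K17.f199024 IH) (Lpr_gf (K24.f350630 IH) (Lpe (K24.f189230 IH) (Lpe (K24.f350653 IH) (Lpe (K10.f191748 IH) (Lpr_gt (f187691 IH) (Lpr_dt (f351506 IH) (Lpr_cf (f352276 IH) (Lpe (f42408 IH) (Lpn (LP (LK LD1_c20 LD2_c57 LD3_c15))))))))))))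
theorem f42292 : Led Lsl_ct (LP (LK LD1_c6 LD2_c5 LD3_c6)) = (LP (LK LD1_c11 LD2_c53 LD3_c39)) :=
  Lre_c IH (LK LD1_c6 LD2_c5 LD3_c6) (LK LD1_c11 LD2_c53 LD3_c39) Lrfl Lrfl
theorem f316517 : Led Lsl_dt (LP (LK LD1_c11 LD2_c53 LD3_c39)) = (LP (LK LD1_c20 LD2_c57 LD3_c21)) :=
  Lre_d IH (LK LD1_c11 LD2_c53 LD3_c39) (LK LD1_c20 LD2_c57 LD3_c21) Lrfl Lrfl
theorem f316543 : Led Lsl_ct (LP (LK LD1_c29 LD2_c46 LD3_c16)) = (LP (LK LD1_c20 LD2_c57 LD3_c21)) :=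
  Lre_c IH (LK LD1_c29 LD2_c46 LD3_c16) (LK LD1_c20 LD2_c57 LD3_c21) Lrfl Lrfl
theorem f325805 : Led Lsl_gf (LP (LK LD1_c29 LD2_c46 LD3_c16)) = (LP (LK LD1_c25 LD2_c8 LD3_c18)) :=
  Lgr Lrot104 (Lpr_ct (f316543 IH) (Lpe (f316517 IH) (Lpe (f42292 IH) (Lpe (K20.f42291 IH) (Lpe (K19.f42274 IH) (Lpe (K22.f42294 IH) (Lpe (f311008 IH) (Lpr_gt (K22.f325801 IH) (Lpr_ct (K17.f199025 IH) (Lpn (LP (LK LD1_c25 LD2_c8 LD3_c18))))))))))))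
theorem f310995 : Led Lsl_gt (LP (LK LD1_c28 LD2_c30 LD3_c8)) = (LP (LK LD1_c19 LD2_c3 LD3_c56)) :=
  Lre_g IH (LK LD1_c28 LD2_c30 LD3_c8) (LK LD1_c19 LD2_c3 LD3_c56) Lrfl Lrfl
theorem f352349 : Led Lsl_dt (LP (LK LD1_c29 LD2_c46 LD3_c16)) = (LP (LK LD1_c28 LD2_c30 LD3_c8)) :=
  Lgr Lrot57 (Lpr_gf (f325805 IH) (Lpe (K17.f199025 IH) (Lpr_gt (f352347 IH) (Lpr_dt (f42408 IH) (Lpe (f311095 IH) (Lpr_dt (f283455 IH) (Lpr_cf (K19.f310979 IH) (Lpe (K19.f42273 IH) (Lpe (f310995 IH) (Lpn (LP (LK LD1_c28 LD2_c30 LD3_c8))))))))))))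
theorem f352373 : Led Lsl_df (LP (LK LD1_c29 LD2_c46 LD3_c16)) = (LP (LK LD1_c28 LD2_c30 LD3_c8)) :=
  Lgr Lrot38 (Lpr_dt (f352349 IH) (Lpn (LP (LK LD1_c28 LD2_c30 LD3_c8))))
theorem f199003 : Led Lsl_ct (LP (LK LD1_c10 LD2_c34 LD3_c10)) = (LP (LK LD1_c19 LD2_c8 LD3_c42)) :=
  Lre_c IH (LK LD1_c10 LD2_c34 LD3_c10) (LK LD1_c19 LD2_c8 LD3_c42) Lrfl Lrfl
theorem f284285 : Led Lsl_af (LP (LK LD1_c26 LD2_c36 LD3_c44)) = (LP (LK LD1_c19 LD2_c8 LD3_c42)) :=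
  Lgr Lrot68 (Lpr_ct (K17.f284284 IH) (Lpr_at (K17.f284278 IH) (Lpr_ct (f199003 IH) (Lpn (LP (LK LD1_c19 LD2_c8 LD3_c42))))))
theorem f198980 : Led Lsl_dt (LP (LK LD1_c25 LD2_c8 LD3_c19)) = (LP (LK LD1_c15 LD2_c17 LD3_c44)) :=
  Lre_d IH (LK LD1_c25 LD2_c8 LD3_c19) (LK LD1_c15 LD2_c17 LD3_c44) Lrfl Lrfl
theorem f198981 : Led Lsl_ct (LP (LK LD1_c31 LD2_c47 LD3_c5)) = (LP (LK LD1_c25 LD2_c8 LD3_c19)) :=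
  Lre_c IH (LK LD1_c31 LD2_c47 LD3_c5) (LK LD1_c25 LD2_c8 LD3_c19) Lrfl Lrfl
theorem f284260 : Led Lsl_dt (LP (LK LD1_c26 LD2_c36 LD3_c44)) = (LP (LK LD1_c31 LD2_c47 LD3_c5)) :=
  Lgr Lrot173 (Lpe (K17.f284259 IH) (Lpe (K17.f283857 IH) (Lpe (K17.f231369 IH) (Lpe (K17.f231308 IH) (Lpe (K17.f42385 IH) (Lpe (K17.f231264 IH) (Lpe (K17.f284253 IH) (Lpe (K17.f284254 IH) (Lpr_cf (K17.f284255 IH) (Lpe (K17.f198982 IH) (Lpe (K16.f198978 IH) (Lpe (K12.f198975 IH) (Lpe (f198979 IH) (Lpe (f198980 IH) (Lpe (f198981 IH) (Lpn (LP (LK LD1_c31 LD2_c47 LD3_c5))))))))))))))))))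
theorem f284324 : Led Lsl_af (LP (LK LD1_c26 LD2_c36 LD3_c24)) = (LP (LK LD1_c31 LD2_c47 LD3_c5)) :=
  Lgr Lrot117 (Lpr_dt (K17.f284322 IH) (Lpe (f284285 IH) (Lpr_dt (f284260 IH) (Lpn (LP (LK LD1_c31 LD2_c47 LD3_c5))))))
theorem f325811 : Led Lsl_gt (LP (LK LD1_c29 LD2_c46 LD3_c16)) = (LP (LK LD1_c26 LD2_c36 LD3_c24)) :=
  Lgr Lrot46 (Lpr_gf (f325805 IH) (Lpr_ft (K17.f284353 IH) (Lpe (f284324 IH) (Lpn (LP (LK LD1_c26 LD2_c36 LD3_c24))))))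
theorem f199012 : Led Lsl_gt (LP (LK LD1_c10 LD2_c34 LD3_c9)) = (LP (LK LD1_c5 LD2_c21 LD3_c56)) :=
  Lre_g IH (LK LD1_c10 LD2_c34 LD3_c9) (LK LD1_c5 LD2_c21 LD3_c56) Lrfl Lrfl
theorem f311029 : Led Lsl_gt (LP (LK LD1_c19 LD2_c13 LD3_c43)) = (LP (LK LD1_c28 LD2_c30 LD3_c8)) :=
  Lgr Lrot5 (Lpr_ft (K19.f311002 IH) (Lpr_at (K19.f311003 IH) (Lpe (f310995 IH) (Lpn (LP (LK LD1_c28 LD2_c30 LD3_c8))))))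
theorem f42286 : Led Lsl_gt (LP (LK LD1_c19 LD2_c3 LD3_c55)) = (LP (LK LD1_c10 LD2_c31 LD3_c7)) :=
  Lre_g IH (LK LD1_c19 LD2_c3 LD3_c55) (LK LD1_c10 LD2_c31 LD3_c7) Lrfl Lrfl
theorem f311059 : Led Lsl_gt (LP (LK LD1_c10 LD2_c36 LD3_c55)) = (LP (LK LD1_c19 LD2_c3 LD3_c55)) :=
  Lgr Lrot5 (Lpr_ft (K19.f311056 IH) (Lpr_at (K19.f311049 IH) (Lpe (f42286 IH) (Lpn (LP (LK LD1_c19 LD2_c3 LD3_c55))))))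
theorem f352382 : Led Lsl_df (LP (LK LD1_c10 LD2_c34 LD3_c9)) = (LP (LK LD1_c19 LD2_c3 LD3_c55)) :=
  Lgr Lrot153 (Lpr_gt (f199012 IH) (Lpr_dt (K12.f198879 IH) (Lpe (K17.f199026 IH) (Lpe (K17.f284322 IH) (Lpe (f325811 IH) (Lpr_df (f352373 IH) (Lpe (f311029 IH) (Lpe (K19.f310984 IH) (Lpr_gt (f311059 IH) (Lpn (LP (LK LD1_c19 LD2_c3 LD3_c55))))))))))))
theorem f352389 : Led Lsl_dt (LP (LK LD1_c10 LD2_c34 LD3_c9)) = (LP (LK LD1_c19 LD2_c3 LD3_c55)) :=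
  Lgr Lrot42 (Lpr_df (f352382 IH) (Lpn (LP (LK LD1_c19 LD2_c3 LD3_c55))))
theorem f345389 : Led Lsl_dt (LP (LK LD1_c5 LD2_c21 LD3_c58)) = (LP (LK LD1_c6 LD2_c5 LD3_c7)) :=
  Lgr Lrot42 (Lpr_df (f345352 IH) (Lpn (LP (LK LD1_c6 LD2_c5 LD3_c7))))
theorem f345348 : Led Lsl_ef (LP (LK LD1_c4 LD2_c28 LD3_c11)) = (LP (LK LD1_c6 LD2_c5 LD3_c7)) :=
  Lgr Lrot88 (Lpr_et (f345344 IH) (Lpn (LP (LK LD1_c6 LD2_c5 LD3_c7))))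
theorem f292138 : Led Lsl_ft (LP (LK LD1_c2 LD2_c33 LD3_c25)) = (LP (LK LD1_c2 LD2_c29 LD3_c58)) :=
  Lgr Lrot54 (Lpr_df (K14.f251568 IH) (Lpr_ff (K17.f292136 IH) (Lpe (K14.f253972 IH) (Lpn (LP (LK LD1_c2 LD2_c29 LD3_c58))))))
theorem f293806 : Led Lsl_et (LP (LK LD1_c5 LD2_c19 LD3_c51)) = (LP (LK LD1_c10 LD2_c16 LD3_c31)) :=
  Lgr Lrot69 (Lpr_ff (K18.f293800 IH) (Lpe (K15.f242916 IH) (Lpe (f292138 IH) (Lpe (K15.f183915 IH) (Lpe (K18.f240381 IH) (Lpn (LP (LK LD1_c10 LD2_c16 LD3_c31))))))))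
theorem f345342 : Led Lsl_gt (LP (LK LD1_c4 LD2_c28 LD3_c11)) = (LP (LK LD1_c8 LD2_c8 LD3_c15)) :=
  Lgr Lrot139 (Lpe (K21.f294189 IH) (Lpr_gf (f345336 IH) (Lpe (f337680 IH) (Lpe (f337682 IH) (Lpe (f316546 IH) (Lpe (K20.f290048 IH) (Lpr_et (K20.f316393 IH) (Lpr_gf (K23.f302847 IH) (Lpe (f293806 IH) (Lpr_dt (K18.f293793 IH) (Lpn (LP (LK LD1_c8 LD2_c8 LD3_c15)))))))))))))
theorem f345393 : Led Lsl_gf (LP (LK LD1_c5 LD2_c21 LD3_c58)) = (LP (LK LD1_c8 LD2_c53 LD3_c53)) :=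
  Lgr Lrot145 (Lpr_df (f345352 IH) (Lpe (f345348 IH) (Lpr_gt (f345342 IH) (Lpe (K20.f293798 IH) (Lpr_gt (K20.f302798 IH) (Lpe (K19.f302808 IH) (Lpr_et (K19.f267053 IH) (Lpr_gt (K20.f267049 IH) (Lpe (K17.f284170 IH) (Lpr_dt (K13.f231360 IH) (Lpn (LP (LK LD1_c8 LD2_c53 LD3_c53)))))))))))))
theorem f352397 : Led Lsl_gf (LP (LK LD1_c10 LD2_c34 LD3_c9)) = (LP (LK LD1_c16 LD2_c38 LD3_c31)) :=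
  Lgr Lrot144 (Lpr_dt (f352389 IH) (Lpr_gt (f42286 IH) (Lpr_dt (K19.f42285 IH) (Lpe (f42270 IH) (Lpr_df (K15.f42149 IH) (Lpe (f42287 IH) (Lpe (f345389 IH) (Lpr_gf (f345393 IH) (Lpe (K17.f231363 IH) (Lpn (LP (LK LD1_c16 LD2_c38 LD3_c31))))))))))))
theorem f311063 : Led Lsl_ct (LP (LK LD1_c28 LD2_c30 LD3_c6)) = (LP (LK LD1_c19 LD2_c3 LD3_c55)) :=
  Lre_c IH (LK LD1_c28 LD2_c30 LD3_c6) (LK LD1_c19 LD2_c3 LD3_c55) Lrfl Lrfl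
theorem f311061 : Led Lsl_ct (LP (LK LD1_c19 LD2_c3 LD3_c55)) = (LP (LK LD1_c28 LD2_c30 LD3_c6)) :=
  Lre_c IH (LK LD1_c19 LD2_c3 LD3_c55) (LK LD1_c28 LD2_c30 LD3_c6) Lrfl Lrfl
theorem f42396 : Led Lsl_ct (LP (LK LD1_c20 LD2_c57 LD3_c15)) = (LP (LK LD1_c29 LD2_c46 LD3_c9)) :=
  Lre_c IH (LK LD1_c20 LD2_c57 LD3_c15) (LK LD1_c29 LD2_c46 LD3_c9) Lrfl Lrfl
theorem f352353 : Led Lsl_df (LP (LK LD1_c28 LD2_c30 LD3_c6)) = (LP (LK LD1_c29 LD2_c46 LD3_c9)) :=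
  Lgr Lrot162 (Lpe (f311061 IH) (Lpe (f311059 IH) (Lpe (K19.f311000 IH) (Lpr_gf (f311006 IH) (Lpr_dt (f345370 IH) (Lpe (f345364 IH) (Lpr_ct (K17.f199002 IH) (Lpr_gt (f352347 IH) (Lpr_ct (f42396 IH) (Lpn (LP (LK LD1_c29 LD2_c46 LD3_c9))))))))))))
theorem f352343 : Led Lsl_ct (LP (LK LD1_c17 LD2_c48 LD3_c61)) = (LP (LK LD1_c11 LD2_c53 LD3_c35)) :=
  Lgr Lrot59 (Lpr_cf (f352276 IH) (Lpn (LP (LK LD1_c11 LD2_c53 LD3_c35))))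
theorem f351502 : Led Lsl_cf (LP (LK LD1_c18 LD2_c52 LD3_c38)) = (LP (LK LD1_c10 LD2_c34 LD3_c8)) :=
  Lgr Lrot11 (Lpr_ct (f351500 IH) (Lpn (LP (LK LD1_c10 LD2_c34 LD3_c8))))
theorem f311084 : Led Lsl_ct (LP (LK LD1_c28 LD2_c30 LD3_c3)) = (LP (LK LD1_c19 LD2_c3 LD3_c54)) :=
  Lre_c IH (LK LD1_c28 LD2_c30 LD3_c3) (LK LD1_c19 LD2_c3 LD3_c54) Lrfl Lrfl
theorem f311113 : Led Lsl_ct (LP (LK LD1_c20 LD2_c57 LD3_c18)) = (LP (LK LD1_c29 LD2_c46 LD3_c12)) :=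
  Lre_c IH (LK LD1_c20 LD2_c57 LD3_c18) (LK LD1_c29 LD2_c46 LD3_c12) Lrfl Lrfl
theorem f315860 : Led Lsl_ct (LP (LK LD1_c19 LD2_c3 LD3_c54)) = (LP (LK LD1_c28 LD2_c30 LD3_c3)) :=
  Lre_c IH (LK LD1_c19 LD2_c3 LD3_c54) (LK LD1_c28 LD2_c30 LD3_c3) Lrfl Lrfl
theorem f352375 : Led Lsl_df (LP (LK LD1_c29 LD2_c46 LD3_c12)) = (LP (LK LD1_c28 LD2_c30 LD3_c3)) :=
  Lgr Lrot162 (Lpe (f311113 IH) (Lpr_gf (K22.f325803 IH) (Lpe (f284401 IH) (Lpe (f325811 IH) (Lpr_dt (f352349 IH) (Lpr_gt (f310995 IH) (Lpr_ct (f42463 IH) (Lpr_gt (K22.f311068 IH) (Lpr_ct (f315860 IH) (Lpn (LP (LK LD1_c28 LD2_c30 LD3_c3))))))))))))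
theorem f352377 : Led Lsl_dt (LP (LK LD1_c29 LD2_c46 LD3_c12)) = (LP (LK LD1_c28 LD2_c30 LD3_c3)) :=
  Lgr Lrot42 (Lpr_df (f352375 IH) (Lpn (LP (LK LD1_c28 LD2_c30 LD3_c3))))
theorem f339856 : Led Lsl_ef (LP (LK LD1_c15 LD2_c22 LD3_c44)) = (LP (LK LD1_c9 LD2_c42 LD3_c2)) :=
  Lgr Lrot88 (Lpr_et (f339852 IH) (Lpn (LP (LK LD1_c9 LD2_c42 LD3_c2))))
theorem f339750 : Led Lsl_cf (LP (LK LD1_c9 LD2_c42 LD3_c2)) = (LP (LK LD1_c8 LD2_c54 LD3_c25)) :=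
  Lgr Lrot11 (Lpr_ct (K22.f339748 IH) (Lpn (LP (LK LD1_c8 LD2_c54 LD3_c25))))
theorem f339862 : Led Lsl_ct (LP (LK LD1_c15 LD2_c22 LD3_c44)) = (LP (LK LD1_c11 LD2_c53 LD3_c36)) :=
  Lgr Lrot15 (Lpr_ef (f339856 IH) (Lpr_cf (f339750 IH) (Lpe (K22.f325791 IH) (Lpn (LP (LK LD1_c11 LD2_c53 LD3_c36))))))
theorem f352387 : Led Lsl_ct (LP (LK LD1_c10 LD2_c34 LD3_c9)) = (LP (LK LD1_c11 LD2_c4 LD3_c24)) :=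
  Lgr Lrot176 (Lpr_df (f352382 IH) (Lpe (f311063 IH) (Lpr_df (f352353 IH) (Lpe (f42396 IH) (Lpe (f42395 IH) (Lpe (f352343 IH) (Lpe (f351506 IH) (Lpr_cf (f351502 IH) (Lpr_df (f315861 IH) (Lpe (f311084 IH) (Lpe (f352377 IH) (Lpe (f311113 IH) (Lpe (K22.f311111 IH) (Lpe (f339862 IH) (Lpe (f315662 IH) (Lpn (LP (LK LD1_c11 LD2_c4 LD3_c24))))))))))))))))))
theorem f199056 : Led Lsl_ct (LP (LK LD1_c10 LD2_c36 LD3_c47)) = (LP (LK LD1_c19 LD2_c13 LD3_c26)) :=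
  Lre_c IH (LK LD1_c10 LD2_c36 LD3_c47) (LK LD1_c19 LD2_c13 LD3_c26) Lrfl Lrfl
theorem f352429 : Led Lsl_gf (LP (LK LD1_c28 LD2_c29 LD3_c22)) = (LP (LK LD1_c19 LD2_c13 LD3_c26)) :=
  Lgr Lrot104 (Lpr_ct (K22.f187686 IH) (Lpe (K22.f187704 IH) (Lpr_cf (K22.f187683 IH) (Lpe (f339858 IH) (Lpe (f352387 IH) (Lpr_gf (f352397 IH) (Lpr_df (K17.f284312 IH) (Lpr_gt (K17.f199053 IH) (Lpr_ct (f199056 IH) (Lpn (LP (LK LD1_c19 LD2_c13 LD3_c26))))))))))))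
theorem f352441 : Led Lsl_gt (LP (LK LD1_c28 LD2_c35 LD3_c19)) = (LP (LK LD1_c19 LD2_c13 LD3_c26)) :=
  Lgr Lrot5 (Lpr_ft (K22.f336848 IH) (Lpr_at (K22.f336841 IH) (Lpr_gf (f352429 IH) (Lpn (LP (LK LD1_c19 LD2_c13 LD3_c26))))))
theorem f199055 : Led Lsl_ct (LP (LK LD1_c19 LD2_c13 LD3_c26)) = (LP (LK LD1_c10 LD2_c36 LD3_c47)) :=
  Lre_c IH (LK LD1_c19 LD2_c13 LD3_c26) (LK LD1_c10 LD2_c36 LD3_c47) Lrfl Lrfl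
theorem f42398 : Led Lsl_ct (LP (LK LD1_c29 LD2_c46 LD3_c9)) = (LP (LK LD1_c20 LD2_c57 LD3_c15)) :=
  Lre_c IH (LK LD1_c29 LD2_c46 LD3_c9) (LK LD1_c20 LD2_c57 LD3_c15) Lrfl Lrfl
theorem f352454 : Led Lsl_gt (LP (LK LD1_c32 LD2_c5 LD3_c25)) = (LP (LK LD1_c29 LD2_c46 LD3_c9)) :=
  Lgr Lrot9 (Lpe (K22.f336849 IH) (Lpr_gt (f352441 IH) (Lpr_ct (f199055 IH) (Lpe (K12.f199045 IH) (Lpr_ct (f199003 IH) (Lpe (K17.f284322 IH) (Lpe (K17.f284319 IH) (Lpe (f316544 IH) (Lpe (f42398 IH) (Lpn (LP (LK LD1_c29 LD2_c46 LD3_c9))))))))))))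
theorem f199031 : Led Lsl_ct (LP (LK LD1_c5 LD2_c21 LD3_c58)) = (LP (LK LD1_c10 LD2_c34 LD3_c14)) :=
  Lre_c IH (LK LD1_c5 LD2_c21 LD3_c58) (LK LD1_c10 LD2_c34 LD3_c14) Lrfl Lrfl
theorem f199048 : Led Lsl_ct (LP (LK LD1_c5 LD2_c23 LD3_c12)) = (LP (LK LD1_c10 LD2_c36 LD3_c59)) :=
  Lre_c IH (LK LD1_c5 LD2_c23 LD3_c12) (LK LD1_c10 LD2_c36 LD3_c59) Lrfl Lrfl
theorem f341143 : Led Lsl_et (LP (LK LD1_c4 LD2_c3 LD3_c19)) = (LP (LK LD1_c6 LD2_c4 LD3_c54)) :=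
  Lgr Lrot122 (Lpr_dt (K14.f246156 IH) (Lpr_gt (K14.f246158 IH) (Lpe (K16.f253443 IH) (Lpr_et (K15.f223554 IH) (Lpr_gt (K22.f42351 IH) (Lpe (K22.f322695 IH) (Lpr_gt (K23.f330461 IH) (Lpr_df (K20.f42192 IH) (Lpe (K22.f335374 IH) (Lpr_gt (K23.f341131 IH) (Lpn (LP (LK LD1_c6 LD2_c4 LD3_c54)))))))))))))
theorem f329746 : Led Lsl_ct (LP (LK LD1_c6 LD2_c4 LD3_c54)) = (LP (LK LD1_c11 LD2_c53 LD3_c10)) :=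
  Lre_c IH (LK LD1_c6 LD2_c4 LD3_c54) (LK LD1_c11 LD2_c53 LD3_c10) Lrfl Lrfl
theorem f341145 : Led Lsl_ef (LP (LK LD1_c8 LD2_c7 LD3_c14)) = (LP (LK LD1_c11 LD2_c53 LD3_c10)) :=
  Lgr Lrot28 (Lpr_ct (K12.f199127 IH) (Lpr_et (f341143 IH) (Lpr_ct (f329746 IH) (Lpn (LP (LK LD1_c11 LD2_c53 LD3_c10))))))
theorem f223280 : Led Lsl_et (LP (LK LD1_c9 LD2_c41 LD3_c2)) = (LP (LK LD1_c4 LD2_c54 LD3_c44)) :=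
  Lre_e IH (LK LD1_c9 LD2_c41 LD3_c2) (LK LD1_c4 LD2_c54 LD3_c44) Lrfl Lrfl
theorem f341118 : Led Lsl_dt (LP (LK LD1_c11 LD2_c53 LD3_c10)) = (LP (LK LD1_c20 LD2_c56 LD3_c40)) :=
  Lre_d IH (LK LD1_c11 LD2_c53 LD3_c10) (LK LD1_c20 LD2_c56 LD3_c40) Lrfl Lrfl
theorem f290051 : Led Lsl_ct (LP (LK LD1_c11 LD2_c53 LD3_c40)) = (LP (LK LD1_c20 LD2_c57 LD3_c22)) :=
  Lre_c IH (LK LD1_c11 LD2_c53 LD3_c40) (LK LD1_c20 LD2_c57 LD3_c22) Lrfl Lrfl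
theorem f187819 : Led Lsl_ct (LP (LK LD1_c8 LD2_c13 LD3_c32)) = (LP (LK LD1_c15 LD2_c28 LD3_c16)) :=
  Lre_c IH (LK LD1_c8 LD2_c13 LD3_c32) (LK LD1_c15 LD2_c28 LD3_c16) Lrfl Lrfl
theorem f316592 : Led Lsl_dt (LP (LK LD1_c26 LD2_c41 LD3_c16)) = (LP (LK LD1_c16 LD2_c42 LD3_c30)) :=
  Lre_d IH (LK LD1_c26 LD2_c41 LD3_c16) (LK LD1_c16 LD2_c42 LD3_c30) Lrfl Lrfl
theorem f330000 : Led Lsl_df (LP (LK LD1_c26 LD2_c5 LD3_c26)) = (LP (LK LD1_c18 LD2_c27 LD3_c59)) :=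
  Lgr Lrot38 (Lpr_dt (K22.f329998 IH) (Lpn (LP (LK LD1_c18 LD2_c27 LD3_c59))))
theorem f330007 : Led Lsl_ct (LP (LK LD1_c16 LD2_c42 LD3_c30)) = (LP (LK LD1_c26 LD2_c5 LD3_c26)) :=
  Lgr Lrot7 (Lpe (f316592 IH) (Lpr_gf (K20.f316590 IH) (Lpe (K20.f316589 IH) (Lpe (K20.f316596 IH) (Lpe (f187819 IH) (Lpe (K20.f317280 IH) (Lpr_dt (K21.f247011 IH) (Lpr_gt (K22.f330003 IH) (Lpe (f330000 IH) (Lpn (LP (LK LD1_c26 LD2_c5 LD3_c26))))))))))))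
theorem f321646 : Led Lsl_ct (LP (LK LD1_c16 LD2_c35 LD3_c0)) = (LP (LK LD1_c18 LD2_c27 LD3_c59)) :=
  Lgr Lrot59 (Lpr_cf (K20.f321643 IH) (Lpn (LP (LK LD1_c18 LD2_c27 LD3_c59))))
theorem f330029 : Led Lsl_gf (LP (LK LD1_c16 LD2_c42 LD3_c30)) = (LP (LK LD1_c20 LD2_c57 LD3_c22)) :=
  Lgr Lrot104 (Lpr_ct (f330007 IH) (Lpr_df (f330000 IH) (Lpe (f321646 IH) (Lpe (K20.f247610 IH) (Lpe (K14.f170034 IH) (Lpr_gf (K20.f247591 IH) (Lpe (K20.f247594 IH) (Lpe (K20.f316397 IH) (Lpr_ct (f290051 IH) (Lpn (LP (LK LD1_c20 LD2_c57 LD3_c22))))))))))))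
theorem f329745 : Led Lsl_ct (LP (LK LD1_c11 LD2_c53 LD3_c10)) = (LP (LK LD1_c6 LD2_c4 LD3_c54)) :=
  Lre_c IH (LK LD1_c11 LD2_c53 LD3_c10) (LK LD1_c6 LD2_c4 LD3_c54) Lrfl Lrfl
theorem f341125 : Led Lsl_dt (LP (LK LD1_c20 LD2_c56 LD3_c40)) = (LP (LK LD1_c11 LD2_c53 LD3_c10)) :=
  Lre_d IH (LK LD1_c20 LD2_c56 LD3_c40) (LK LD1_c11 LD2_c53 LD3_c10) Lrfl Lrfl
theorem f341126 : Led Lsl_gt (LP (LK LD1_c26 LD2_c41 LD3_c16)) = (LP (LK LD1_c20 LD2_c56 LD3_c40)) :=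
  Lgr Lrot49 (Lpe (K20.f41644 IH) (Lpr_gf (f330029 IH) (Lpe (f290051 IH) (Lpr_gt (f316546 IH) (Lpr_dt (K22.f337672 IH) (Lpr_gt (K22.f230589 IH) (Lpr_dt (K23.f341112 IH) (Lpe (f329745 IH) (Lpe (f341125 IH) (Lpn (LP (LK LD1_c20 LD2_c56 LD3_c40))))))))))))
theorem f330031 : Led Lsl_et (LP (LK LD1_c11 LD2_c53 LD3_c39)) = (LP (LK LD1_c20 LD2_c57 LD3_c22)) :=
  Lre_e IH (LK LD1_c11 LD2_c53 LD3_c39) (LK LD1_c20 LD2_c57 LD3_c22) Lrfl Lrfl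
theorem f341158 : Led Lsl_gt (LP (LK LD1_c17 LD2_c48 LD3_c52)) = (LP (LK LD1_c20 LD2_c57 LD3_c21)) :=
  Lgr Lrot112 (Lpe (K23.f213933 IH) (Lpr_et (f223280 IH) (Lpr_gf (K12.f223288 IH) (Lpr_ef (f341145 IH) (Lpr_dt (f341118 IH) (Lpe (f341126 IH) (Lpe (K20.f41644 IH) (Lpr_gf (f330029 IH) (Lpe (f330031 IH) (Lpr_dt (f316517 IH) (Lpn (LP (LK LD1_c20 LD2_c57 LD3_c21)))))))))))))
theorem f316520 : Led Lsl_dt (LP (LK LD1_c20 LD2_c57 LD3_c21)) = (LP (LK LD1_c11 LD2_c53 LD3_c39)) :=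
  Lre_d IH (LK LD1_c20 LD2_c57 LD3_c21) (LK LD1_c11 LD2_c53 LD3_c39) Lrfl Lrfl
theorem f199041 : Led Lsl_ct (LP (LK LD1_c10 LD2_c36 LD3_c59)) = (LP (LK LD1_c5 LD2_c23 LD3_c12)) :=
  Lre_c IH (LK LD1_c10 LD2_c36 LD3_c59) (LK LD1_c5 LD2_c23 LD3_c12) Lrfl Lrfl
theorem f341160 : Led Lsl_gf (LP (LK LD1_c9 LD2_c41 LD3_c2)) = (LP (LK LD1_c10 LD2_c36 LD3_c59)) :=
  Lgr Lrot144 (Lpr_dt (K23.f213933 IH) (Lpr_gt (f341158 IH) (Lpr_dt (f316520 IH) (Lpe (f42292 IH) (Lpr_df (K22.f316395 IH) (Lpe (K20.f198962 IH) (Lpe (K12.f198995 IH) (Lpr_gf (K12.f199038 IH) (Lpe (f199041 IH) (Lpn (LP (LK LD1_c10 LD2_c36 LD3_c59))))))))))))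
theorem f345395 : Led Lsl_gt (LP (LK LD1_c10 LD2_c34 LD3_c14)) = (LP (LK LD1_c5 LD2_c22 LD3_c3)) :=
  Lgr Lrot150 (Lpe (f199031 IH) (Lpr_gf (f345393 IH) (Lpe (K13.f231360 IH) (Lpe (K23.f343820 IH) (Lpr_ct (f199048 IH) (Lpe (f341160 IH) (Lpr_ct (K23.f213942 IH) (Lpe (K13.f213923 IH) (Lpe (K22.f214090 IH) (Lpn (LP (LK LD1_c5 LD2_c22 LD3_c3))))))))))))
theorem f342697 : Led Lsl_at (LP (LK LD1_c15 LD2_c0 LD3_c39)) = (LP (LK LD1_c10 LD2_c21 LD3_c4)) :=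
  Lgr Lrot26 (Lpr_ff (K23.f342689 IH) (Lpr_gt (K14.f246195 IH) (Lpr_gt (K14.f254457 IH) (Lpn (LP (LK LD1_c10 LD2_c21 LD3_c4))))))
theorem f215746 : Led Lsl_et (LP (LK LD1_c24 LD2_c48 LD3_c5)) = (LP (LK LD1_c15 LD2_c0 LD3_c39)) :=
  Lre_e IH (LK LD1_c24 LD2_c48 LD3_c5) (LK LD1_c15 LD2_c0 LD3_c39) Lrfl Lrfl
theorem f214276 : Led Lsl_et (LP (LK LD1_c10 LD2_c21 LD3_c4)) = (LP (LK LD1_c18 LD2_c47 LD3_c10)) :=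
  Lre_e IH (LK LD1_c10 LD2_c21 LD3_c4) (LK LD1_c18 LD2_c47 LD3_c10) Lrfl Lrfl
theorem f342705 : Led Lsl_af (LP (LK LD1_c24 LD2_c48 LD3_c5)) = (LP (LK LD1_c18 LD2_c47 LD3_c10)) :=
  Lgr Lrot50 (Lpr_et (f215746 IH) (Lpr_at (f342697 IH) (Lpr_et (f214276 IH) (Lpn (LP (LK LD1_c18 LD2_c47 LD3_c10))))))
theorem f215756 : Led Lsl_ft (LP (LK LD1_c24 LD2_c48 LD3_c5)) = (LP (LK LD1_c31 LD2_c39 LD3_c23)) :=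
  Lre_f IH (LK LD1_c24 LD2_c48 LD3_c5) (LK LD1_c31 LD2_c39 LD3_c23) Lrfl Lrfl
theorem f215288 : Led Lsl_ft (LP (LK LD1_c28 LD2_c16 LD3_c56)) = (LP (LK LD1_c18 LD2_c47 LD3_c10)) :=
  Lre_f IH (LK LD1_c28 LD2_c16 LD3_c56) (LK LD1_c18 LD2_c47 LD3_c10) Lrfl Lrfl
theorem f342711 : Led Lsl_at (LP (LK LD1_c31 LD2_c39 LD3_c23)) = (LP (LK LD1_c28 LD2_c16 LD3_c56)) :=
  Lgr Lrot66 (Lpe (f215756 IH) (Lpr_af (f342705 IH) (Lpe (f215288 IH) (Lpn (LP (LK LD1_c28 LD2_c16 LD3_c56))))))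
theorem f182610 : Led Lsl_dt (LP (LK LD1_c5 LD2_c20 LD3_c19)) = (LP (LK LD1_c10 LD2_c30 LD3_c38)) :=
  Lre_d IH (LK LD1_c5 LD2_c20 LD3_c19) (LK LD1_c10 LD2_c30 LD3_c38) Lrfl Lrfl
theorem f215728 : Led Lsl_cf (LP (LK LD1_c10 LD2_c30 LD3_c38)) = (LP (LK LD1_c15 LD2_c0 LD3_c39)) :=
  Lgr Lrot14 (Lpe (f182610 IH) (Lpe (K11.f42517 IH) (Lpe (K14.f46486 IH) (Lpe (K14.f196040 IH) (Lpr_ct (K14.f215678 IH) (Lpe (K14.f215613 IH) (Lpr_dt (K14.f214233 IH) (Lpr_gt (K14.f215724 IH) (Lpr_dt (K23.f191783 IH) (Lpn (LP (LK LD1_c15 LD2_c0 LD3_c39))))))))))))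
theorem f215745 : Led Lsl_et (LP (LK LD1_c10 LD2_c30 LD3_c38)) = (LP (LK LD1_c19 LD2_c2 LD3_c52)) :=
  Lre_e IH (LK LD1_c10 LD2_c30 LD3_c38) (LK LD1_c19 LD2_c2 LD3_c52) Lrfl Lrfl
theorem f215747 : Led Lsl_ct (LP (LK LD1_c19 LD2_c2 LD3_c52)) = (LP (LK LD1_c24 LD2_c48 LD3_c5)) :=
  Lgr Lrot15 (Lpe (f215745 IH) (Lpr_cf (f215728 IH) (Lpe (f215746 IH) (Lpn (LP (LK LD1_c24 LD2_c48 LD3_c5))))))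
theorem f215755 : Led Lsl_ft (LP (LK LD1_c28 LD2_c29 LD3_c13)) = (LP (LK LD1_c19 LD2_c2 LD3_c52)) :=
  Lre_f IH (LK LD1_c28 LD2_c29 LD3_c13) (LK LD1_c19 LD2_c2 LD3_c52) Lrfl Lrfl
theorem f215757 : Led Lsl_cf (LP (LK LD1_c28 LD2_c29 LD3_c13)) = (LP (LK LD1_c31 LD2_c39 LD3_c23)) :=
  Lgr Lrot108 (Lpr_ft (f215755 IH) (Lpr_ct (f215747 IH) (Lpr_ft (f215756 IH) (Lpn (LP (LK LD1_c31 LD2_c39 LD3_c23))))))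
theorem f215761 : Led Lsl_ct (LP (LK LD1_c28 LD2_c29 LD3_c13)) = (LP (LK LD1_c31 LD2_c39 LD3_c23)) :=
  Lgr Lrot59 (Lpr_cf (f215757 IH) (Lpn (LP (LK LD1_c31 LD2_c39 LD3_c23))))
theorem f215277 : Led Lsl_et (LP (LK LD1_c10 LD2_c34 LD3_c21)) = (LP (LK LD1_c5 LD2_c21 LD3_c61)) :=
  Lre_e IH (LK LD1_c10 LD2_c34 LD3_c21) (LK LD1_c5 LD2_c21 LD3_c61) Lrfl Lrfl
theorem f215278 : Led Lsl_ct (LP (LK LD1_c18 LD2_c47 LD3_c10)) = (LP (LK LD1_c10 LD2_c34 LD3_c21)) :=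
  Lgr Lrot15 (Lpe (f214276 IH) (Lpr_cf (K14.f215267 IH) (Lpe (f215277 IH) (Lpn (LP (LK LD1_c10 LD2_c34 LD3_c21))))))
theorem f215289 : Led Lsl_ft (LP (LK LD1_c10 LD2_c34 LD3_c21)) = (LP (LK LD1_c19 LD2_c9 LD3_c4)) :=
  Lre_f IH (LK LD1_c10 LD2_c34 LD3_c21) (LK LD1_c19 LD2_c9 LD3_c4) Lrfl Lrfl
theorem f215290 : Led Lsl_cf (LP (LK LD1_c28 LD2_c16 LD3_c56)) = (LP (LK LD1_c19 LD2_c9 LD3_c4)) :=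
  Lgr Lrot108 (Lpr_ft (f215288 IH) (Lpr_ct (f215278 IH) (Lpr_ft (f215289 IH) (Lpn (LP (LK LD1_c19 LD2_c9 LD3_c4))))))
theorem f215296 : Led Lsl_ct (LP (LK LD1_c28 LD2_c16 LD3_c56)) = (LP (LK LD1_c19 LD2_c9 LD3_c4)) :=
  Lgr Lrot59 (Lpr_cf (f215290 IH) (Lpn (LP (LK LD1_c19 LD2_c9 LD3_c4))))
theorem f342715 : Led Lsl_af (LP (LK LD1_c28 LD2_c29 LD3_c13)) = (LP (LK LD1_c19 LD2_c9 LD3_c4)) :=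
  Lgr Lrot68 (Lpr_ct (f215761 IH) (Lpr_at (f342711 IH) (Lpr_ct (f215296 IH) (Lpn (LP (LK LD1_c19 LD2_c9 LD3_c4))))))
theorem f342717 : Led Lsl_at (LP (LK LD1_c28 LD2_c29 LD3_c13)) = (LP (LK LD1_c19 LD2_c9 LD3_c4)) :=
  Lgr Lrot100 (Lpr_af (f342715 IH) (Lpn (LP (LK LD1_c19 LD2_c9 LD3_c4))))
theorem f215763 : Led Lsl_ft (LP (LK LD1_c19 LD2_c2 LD3_c52)) = (LP (LK LD1_c28 LD2_c29 LD3_c13)) :=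
  Lre_f IH (LK LD1_c19 LD2_c2 LD3_c52) (LK LD1_c28 LD2_c29 LD3_c13) Lrfl Lrfl
theorem f215302 : Led Lsl_ft (LP (LK LD1_c19 LD2_c9 LD3_c4)) = (LP (LK LD1_c10 LD2_c34 LD3_c21)) :=
  Lre_f IH (LK LD1_c19 LD2_c9 LD3_c4) (LK LD1_c10 LD2_c34 LD3_c21) Lrfl Lrfl
theorem f342727 : Led Lsl_af (LP (LK LD1_c19 LD2_c2 LD3_c52)) = (LP (LK LD1_c10 LD2_c34 LD3_c21)) :=
  Lgr Lrot45 (Lpr_ft (f215763 IH) (Lpr_at (f342717 IH) (Lpr_ft (f215302 IH) (Lpn (LP (LK LD1_c10 LD2_c34 LD3_c21))))))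
theorem f215767 : Led Lsl_et (LP (LK LD1_c19 LD2_c2 LD3_c52)) = (LP (LK LD1_c10 LD2_c30 LD3_c38)) :=
  Lre_e IH (LK LD1_c19 LD2_c2 LD3_c52) (LK LD1_c10 LD2_c30 LD3_c38) Lrfl Lrfl
theorem f215305 : Led Lsl_et (LP (LK LD1_c5 LD2_c21 LD3_c61)) = (LP (LK LD1_c10 LD2_c34 LD3_c21)) :=
  Lre_e IH (LK LD1_c5 LD2_c21 LD3_c61) (LK LD1_c10 LD2_c34 LD3_c21) Lrfl Lrfl
theorem f342733 : Led Lsl_at (LP (LK LD1_c10 LD2_c30 LD3_c38)) = (LP (LK LD1_c5 LD2_c21 LD3_c61)) :=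
  Lgr Lrot80 (Lpe (f215767 IH) (Lpr_af (f342727 IH) (Lpe (f215305 IH) (Lpn (LP (LK LD1_c5 LD2_c21 LD3_c61))))))
theorem f215771 : Led Lsl_bt (LP (LK LD1_c19 LD2_c2 LD3_c50)) = (LP (LK LD1_c10 LD2_c30 LD3_c38)) :=
  Lre_b IH (LK LD1_c19 LD2_c2 LD3_c50) (LK LD1_c10 LD2_c30 LD3_c38) Lrfl Lrfl
theorem f342735 : Led Lsl_at (LP (LK LD1_c28 LD2_c29 LD3_c2)) = (LP (LK LD1_c19 LD2_c2 LD3_c50)) :=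
  Lre_a IH (LK LD1_c28 LD2_c29 LD3_c2) (LK LD1_c19 LD2_c2 LD3_c50) Lrfl Lrfl
theorem f215281 : Led Lsl_bt (LP (LK LD1_c5 LD2_c21 LD3_c61)) = (LP (LK LD1_c10 LD2_c34 LD3_c18)) :=
  Lre_b IH (LK LD1_c5 LD2_c21 LD3_c61) (LK LD1_c10 LD2_c34 LD3_c18) Lrfl Lrfl
theorem f336767 : Led Lsl_at (LP (LK LD1_c10 LD2_c34 LD3_c18)) = (LP (LK LD1_c19 LD2_c8 LD3_c54)) :=
  Lre_a IH (LK LD1_c10 LD2_c34 LD3_c18) (LK LD1_c19 LD2_c8 LD3_c54) Lrfl Lrfl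
theorem f342736 : Led Lsl_bf (LP (LK LD1_c28 LD2_c29 LD3_c2)) = (LP (LK LD1_c19 LD2_c8 LD3_c54)) :=
  Lgr Lrot81 (Lpr_at (f342735 IH) (Lpr_bt (f215771 IH) (Lpr_at (f342733 IH) (Lpr_bt (f215281 IH) (Lpr_at (f336767 IH) (Lpn (LP (LK LD1_c19 LD2_c8 LD3_c54))))))))
theorem f336774 : Led Lsl_ft (LP (LK LD1_c10 LD2_c34 LD3_c18)) = (LP (LK LD1_c19 LD2_c2 LD3_c58)) :=
  Lgr Lrot48 (Lpr_ff (K22.f336758 IH) (Lpn (LP (LK LD1_c19 LD2_c2 LD3_c58))))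
theorem f336779 : Led Lsl_at (LP (LK LD1_c19 LD2_c8 LD3_c54)) = (LP (LK LD1_c10 LD2_c34 LD3_c18)) :=
  Lre_a IH (LK LD1_c19 LD2_c8 LD3_c54) (LK LD1_c10 LD2_c34 LD3_c18) Lrfl Lrfl
theorem f336780 : Led Lsl_at (LP (LK LD1_c19 LD2_c2 LD3_c58)) = (LP (LK LD1_c28 LD2_c29 LD3_c15)) :=
  Lre_a IH (LK LD1_c19 LD2_c2 LD3_c58) (LK LD1_c28 LD2_c29 LD3_c15) Lrfl Lrfl
theorem f336781 : Led Lsl_ff (LP (LK LD1_c19 LD2_c8 LD3_c54)) = (LP (LK LD1_c28 LD2_c29 LD3_c15)) :=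
  Lgr Lrot30 (Lpr_at (f336779 IH) (Lpr_ft (f336774 IH) (Lpr_at (f336780 IH) (Lpn (LP (LK LD1_c28 LD2_c29 LD3_c15))))))
theorem f215372 : Led Lsl_bt (LP (LK LD1_c5 LD2_c22 LD3_c2)) = (LP (LK LD1_c10 LD2_c34 LD3_c27)) :=
  Lre_b IH (LK LD1_c5 LD2_c22 LD3_c2) (LK LD1_c10 LD2_c34 LD3_c27) Lrfl Lrfl
theorem f336799 : Led Lsl_at (LP (LK LD1_c10 LD2_c34 LD3_c27)) = (LP (LK LD1_c19 LD2_c9 LD3_c14)) :=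
  Lre_a IH (LK LD1_c10 LD2_c34 LD3_c27) (LK LD1_c19 LD2_c9 LD3_c14) Lrfl Lrfl
theorem f215722 : Led Lsl_bt (LP (LK LD1_c19 LD2_c2 LD3_c58)) = (LP (LK LD1_c10 LD2_c30 LD3_c41)) :=
  Lre_b IH (LK LD1_c19 LD2_c2 LD3_c58) (LK LD1_c10 LD2_c30 LD3_c41) Lrfl Lrfl
theorem f336768 : Led Lsl_at (LP (LK LD1_c28 LD2_c29 LD3_c15)) = (LP (LK LD1_c19 LD2_c2 LD3_c58)) :=
  Lre_a IH (LK LD1_c28 LD2_c29 LD3_c15) (LK LD1_c19 LD2_c2 LD3_c58) Lrfl Lrfl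
theorem f336800 : Led Lsl_bt (LP (LK LD1_c19 LD2_c9 LD3_c14)) = (LP (LK LD1_c28 LD2_c29 LD3_c15)) :=
  Lgr Lrot62 (Lpe (f336799 IH) (Lpe (f215372 IH) (Lpr_af (K22.f336797 IH) (Lpe (f215722 IH) (Lpe (f336768 IH) (Lpn (LP (LK LD1_c28 LD2_c29 LD3_c15))))))))
theorem f342742 : Led Lsl_ft (LP (LK LD1_c28 LD2_c29 LD3_c2)) = (LP (LK LD1_c19 LD2_c9 LD3_c14)) :=
  Lgr Lrot75 (Lpr_bf (f342736 IH) (Lpr_ff (f336781 IH) (Lpe (f336800 IH) (Lpn (LP (LK LD1_c19 LD2_c9 LD3_c14))))))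
theorem f342750 : Led Lsl_ff (LP (LK LD1_c28 LD2_c29 LD3_c2)) = (LP (LK LD1_c19 LD2_c9 LD3_c14)) :=
  Lgr Lrot3 (Lpr_ft (f342742 IH) (Lpn (LP (LK LD1_c19 LD2_c9 LD3_c14))))
theorem f182717 : Led Lsl_dt (LP (LK LD1_c28 LD2_c29 LD3_c2)) = (LP (LK LD1_c19 LD2_c2 LD3_c49)) :=
  Lre_d IH (LK LD1_c28 LD2_c29 LD3_c2) (LK LD1_c19 LD2_c2 LD3_c49) Lrfl Lrfl
theorem f216054 : Led Lsl_dt (LP (LK LD1_c10 LD2_c34 LD3_c26)) = (LP (LK LD1_c19 LD2_c9 LD3_c14)) :=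
  Lre_d IH (LK LD1_c10 LD2_c34 LD3_c26) (LK LD1_c19 LD2_c9 LD3_c14) Lrfl Lrfl
theorem f342760 : Led Lsl_ft (LP (LK LD1_c19 LD2_c2 LD3_c49)) = (LP (LK LD1_c10 LD2_c34 LD3_c26)) :=
  Lgr Lrot54 (Lpe (f182717 IH) (Lpr_ff (f342750 IH) (Lpe (f216054 IH) (Lpn (LP (LK LD1_c10 LD2_c34 LD3_c26))))))
theorem f182626 : Led Lsl_ft (LP (LK LD1_c19 LD2_c2 LD3_c54)) = (LP (LK LD1_c10 LD2_c30 LD3_c39)) :=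
  Lre_f IH (LK LD1_c19 LD2_c2 LD3_c54) (LK LD1_c10 LD2_c30 LD3_c39) Lrfl Lrfl
theorem f182628 : Led Lsl_cf (LP (LK LD1_c19 LD2_c2 LD3_c54)) = (LP (LK LD1_c15 LD2_c28 LD3_c27)) :=
  Lgr Lrot108 (Lpr_ft (f182626 IH) (Lpr_ct (K21.f182613 IH) (Lpr_ft (K22.f182627 IH) (Lpn (LP (LK LD1_c15 LD2_c28 LD3_c27))))))
theorem f182643 : Led Lsl_ct (LP (LK LD1_c19 LD2_c2 LD3_c54)) = (LP (LK LD1_c15 LD2_c28 LD3_c27)) :=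
  Lgr Lrot59 (Lpr_cf (f182628 IH) (Lpn (LP (LK LD1_c15 LD2_c28 LD3_c27))))
theorem f182646 : Led Lsl_bt (LP (LK LD1_c28 LD2_c29 LD3_c10)) = (LP (LK LD1_c19 LD2_c2 LD3_c54)) :=
  Lre_b IH (LK LD1_c28 LD2_c29 LD3_c10) (LK LD1_c19 LD2_c2 LD3_c54) Lrfl Lrfl
theorem f182645 : Led Lsl_bt (LP (LK LD1_c15 LD2_c28 LD3_c27)) = (LP (LK LD1_c8 LD2_c13 LD3_c43)) :=
  Lre_b IH (LK LD1_c15 LD2_c28 LD3_c27) (LK LD1_c8 LD2_c13 LD3_c43) Lrfl Lrfl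
theorem f182648 : Led Lsl_bt (LP (LK LD1_c15 LD2_c28 LD3_c41)) = (LP (LK LD1_c25 LD2_c20 LD3_c52)) :=
  Lre_b IH (LK LD1_c15 LD2_c28 LD3_c41) (LK LD1_c25 LD2_c20 LD3_c52) Lrfl Lrfl
theorem f182649 : Led Lsl_cf (LP (LK LD1_c28 LD2_c29 LD3_c10)) = (LP (LK LD1_c25 LD2_c20 LD3_c52)) :=
  Lgr Lrot97 (Lpr_bt (f182646 IH) (Lpr_ct (f182643 IH) (Lpr_bt (f182645 IH) (Lpr_ct (K21.f182647 IH) (Lpr_bt (f182648 IH) (Lpn (LP (LK LD1_c25 LD2_c20 LD3_c52))))))))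
theorem f182655 : Led Lsl_ft (LP (LK LD1_c28 LD2_c29 LD3_c10)) = (LP (LK LD1_c19 LD2_c2 LD3_c51)) :=
  Lre_f IH (LK LD1_c28 LD2_c29 LD3_c10) (LK LD1_c19 LD2_c2 LD3_c51) Lrfl Lrfl
theorem f182656 : Led Lsl_ft (LP (LK LD1_c15 LD2_c28 LD3_c34)) = (LP (LK LD1_c25 LD2_c20 LD3_c52)) :=
  Lre_f IH (LK LD1_c15 LD2_c28 LD3_c34) (LK LD1_c25 LD2_c20 LD3_c52) Lrfl Lrfl
theorem f182657 : Led Lsl_ct (LP (LK LD1_c19 LD2_c2 LD3_c51)) = (LP (LK LD1_c15 LD2_c28 LD3_c34)) :=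
  Lgr Lrot40 (Lpe (f182655 IH) (Lpr_cf (f182649 IH) (Lpe (f182656 IH) (Lpn (LP (LK LD1_c15 LD2_c28 LD3_c34))))))
theorem f182673 : Led Lsl_et (LP (LK LD1_c10 LD2_c30 LD3_c37)) = (LP (LK LD1_c19 LD2_c2 LD3_c51)) :=
  Lre_e IH (LK LD1_c10 LD2_c30 LD3_c37) (LK LD1_c19 LD2_c2 LD3_c51) Lrfl Lrfl
theorem f182674 : Led Lsl_et (LP (LK LD1_c15 LD2_c28 LD3_c34)) = (LP (LK LD1_c8 LD2_c13 LD3_c38)) :=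
  Lre_e IH (LK LD1_c15 LD2_c28 LD3_c34) (LK LD1_c8 LD2_c13 LD3_c38) Lrfl Lrfl
theorem f182675 : Led Lsl_cf (LP (LK LD1_c10 LD2_c30 LD3_c37)) = (LP (LK LD1_c8 LD2_c13 LD3_c38)) :=
  Lgr Lrot39 (Lpr_et (f182673 IH) (Lpr_ct (f182657 IH) (Lpr_et (f182674 IH) (Lpn (LP (LK LD1_c8 LD2_c13 LD3_c38))))))
theorem f182693 : Led Lsl_at (LP (LK LD1_c10 LD2_c30 LD3_c37)) = (LP (LK LD1_c19 LD2_c2 LD3_c49)) :=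
  Lre_a IH (LK LD1_c10 LD2_c30 LD3_c37) (LK LD1_c19 LD2_c2 LD3_c49) Lrfl Lrfl
theorem f182694 : Led Lsl_at (LP (LK LD1_c15 LD2_c28 LD3_c32)) = (LP (LK LD1_c8 LD2_c13 LD3_c38)) :=
  Lre_a IH (LK LD1_c15 LD2_c28 LD3_c32) (LK LD1_c8 LD2_c13 LD3_c38) Lrfl Lrfl
theorem f182695 : Led Lsl_ct (LP (LK LD1_c19 LD2_c2 LD3_c49)) = (LP (LK LD1_c15 LD2_c28 LD3_c32)) :=
  Lgr Lrot111 (Lpe (f182693 IH) (Lpr_cf (f182675 IH) (Lpe (f182694 IH) (Lpn (LP (LK LD1_c15 LD2_c28 LD3_c32))))))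
theorem f182715 : Led Lsl_cf (LP (LK LD1_c19 LD2_c2 LD3_c49)) = (LP (LK LD1_c15 LD2_c28 LD3_c32)) :=
  Lgr Lrot11 (Lpr_ct (f182695 IH) (Lpn (LP (LK LD1_c15 LD2_c28 LD3_c32))))
theorem f215954 : Led Lsl_ct (LP (LK LD1_c10 LD2_c34 LD3_c31)) = (LP (LK LD1_c17 LD2_c35 LD3_c46)) :=
  Lgr Lrot59 (Lpr_cf (K22.f215943 IH) (Lpn (LP (LK LD1_c17 LD2_c35 LD3_c46))))
theorem f215960 : Led Lsl_bt (LP (LK LD1_c19 LD2_c9 LD3_c23)) = (LP (LK LD1_c10 LD2_c34 LD3_c31)) :=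
  Lre_b IH (LK LD1_c19 LD2_c9 LD3_c23) (LK LD1_c10 LD2_c34 LD3_c31) Lrfl Lrfl
theorem f213947 : Led Lsl_bt (LP (LK LD1_c4 LD2_c55 LD3_c1)) = (LP (LK LD1_c9 LD2_c41 LD3_c5)) :=
  Lre_b IH (LK LD1_c4 LD2_c55 LD3_c1) (LK LD1_c9 LD2_c41 LD3_c5) Lrfl Lrfl
theorem f213948 : Led Lsl_dt (LP (LK LD1_c9 LD2_c41 LD3_c39)) = (LP (LK LD1_c4 LD2_c55 LD3_c1)) :=
  Lre_d IH (LK LD1_c9 LD2_c41 LD3_c39) (LK LD1_c4 LD2_c55 LD3_c1) Lrfl Lrfl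
theorem f213949 : Led Lsl_bt (LP (LK LD1_c17 LD2_c35 LD3_c46)) = (LP (LK LD1_c9 LD2_c41 LD3_c39)) :=
  Lgr Lrot95 (Lpr_df (K13.f213939 IH) (Lpe (f213947 IH) (Lpe (f213948 IH) (Lpn (LP (LK LD1_c9 LD2_c41 LD3_c39))))))
theorem f213979 : Led Lsl_bt (LP (LK LD1_c17 LD2_c49 LD3_c61)) = (LP (LK LD1_c27 LD2_c37 LD3_c5)) :=
  Lre_b IH (LK LD1_c17 LD2_c49 LD3_c61) (LK LD1_c27 LD2_c37 LD3_c5) Lrfl Lrfl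
theorem f215961 : Led Lsl_cf (LP (LK LD1_c19 LD2_c9 LD3_c23)) = (LP (LK LD1_c27 LD2_c37 LD3_c5)) :=
  Lgr Lrot97 (Lpr_bt (f215960 IH) (Lpr_ct (f215954 IH) (Lpr_bt (f213949 IH) (Lpr_ct (K21.f213964 IH) (Lpr_bt (f213979 IH) (Lpn (LP (LK LD1_c27 LD2_c37 LD3_c5))))))))
theorem f215972 : Led Lsl_ft (LP (LK LD1_c19 LD2_c9 LD3_c23)) = (LP (LK LD1_c10 LD2_c34 LD3_c28)) :=
  Lre_f IH (LK LD1_c19 LD2_c9 LD3_c23) (LK LD1_c10 LD2_c34 LD3_c28) Lrfl Lrfl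
theorem f215973 : Led Lsl_ft (LP (LK LD1_c17 LD2_c49 LD3_c59)) = (LP (LK LD1_c27 LD2_c37 LD3_c5)) :=
  Lre_f IH (LK LD1_c17 LD2_c49 LD3_c59) (LK LD1_c27 LD2_c37 LD3_c5) Lrfl Lrfl
theorem f215974 : Led Lsl_ct (LP (LK LD1_c10 LD2_c34 LD3_c28)) = (LP (LK LD1_c17 LD2_c49 LD3_c59)) :=
  Lgr Lrot40 (Lpe (f215972 IH) (Lpr_cf (f215961 IH) (Lpe (f215973 IH) (Lpn (LP (LK LD1_c17 LD2_c49 LD3_c59))))))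
theorem f215988 : Led Lsl_et (LP (LK LD1_c5 LD2_c22 LD3_c1)) = (LP (LK LD1_c10 LD2_c34 LD3_c28)) :=
  Lre_e IH (LK LD1_c5 LD2_c22 LD3_c1) (LK LD1_c10 LD2_c34 LD3_c28) Lrfl Lrfl
theorem f215989 : Led Lsl_et (LP (LK LD1_c17 LD2_c49 LD3_c59)) = (LP (LK LD1_c9 LD2_c41 LD3_c40)) :=
  Lre_e IH (LK LD1_c17 LD2_c49 LD3_c59) (LK LD1_c9 LD2_c41 LD3_c40) Lrfl Lrfl
theorem f215990 : Led Lsl_cf (LP (LK LD1_c5 LD2_c22 LD3_c1)) = (LP (LK LD1_c9 LD2_c41 LD3_c40)) :=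
  Lgr Lrot39 (Lpr_et (f215988 IH) (Lpr_ct (f215974 IH) (Lpr_et (f215989 IH) (Lpn (LP (LK LD1_c9 LD2_c41 LD3_c40))))))
theorem f216005 : Led Lsl_at (LP (LK LD1_c5 LD2_c22 LD3_c1)) = (LP (LK LD1_c10 LD2_c34 LD3_c26)) :=
  Lre_a IH (LK LD1_c5 LD2_c22 LD3_c1) (LK LD1_c10 LD2_c34 LD3_c26) Lrfl Lrfl
theorem f216006 : Led Lsl_at (LP (LK LD1_c17 LD2_c50 LD3_c2)) = (LP (LK LD1_c9 LD2_c41 LD3_c40)) :=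
  Lre_a IH (LK LD1_c17 LD2_c50 LD3_c2) (LK LD1_c9 LD2_c41 LD3_c40) Lrfl Lrfl
theorem f216007 : Led Lsl_ct (LP (LK LD1_c10 LD2_c34 LD3_c26)) = (LP (LK LD1_c17 LD2_c50 LD3_c2)) :=
  Lgr Lrot111 (Lpe (f216005 IH) (Lpr_cf (f215990 IH) (Lpe (f216006 IH) (Lpn (LP (LK LD1_c17 LD2_c50 LD3_c2))))))
theorem f342767 : Led Lsl_ff (LP (LK LD1_c15 LD2_c28 LD3_c32)) = (LP (LK LD1_c17 LD2_c50 LD3_c2)) :=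
  Lgr Lrot23 (Lpe (f182715 IH) (Lpr_ft (f342760 IH) (Lpr_ct (f216007 IH) (Lpn (LP (LK LD1_c17 LD2_c50 LD3_c2))))))
theorem f342775 : Led Lsl_ft (LP (LK LD1_c15 LD2_c28 LD3_c32)) = (LP (LK LD1_c17 LD2_c50 LD3_c2)) :=
  Lgr Lrot48 (Lpr_ff (f342767 IH) (Lpn (LP (LK LD1_c17 LD2_c50 LD3_c2))))
theorem f182720 : Led Lsl_at (LP (LK LD1_c8 LD2_c13 LD3_c38)) = (LP (LK LD1_c15 LD2_c28 LD3_c32)) :=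
  Lre_a IH (LK LD1_c8 LD2_c13 LD3_c38) (LK LD1_c15 LD2_c28 LD3_c32) Lrfl Lrfl
theorem f342780 : Led Lsl_ff (LP (LK LD1_c8 LD2_c13 LD3_c38)) = (LP (LK LD1_c9 LD2_c41 LD3_c40)) :=
  Lgr Lrot30 (Lpr_at (f182720 IH) (Lpr_ft (f342775 IH) (Lpr_at (f216006 IH) (Lpn (LP (LK LD1_c9 LD2_c41 LD3_c40))))))
theorem f214084 : Led Lsl_bt (LP (LK LD1_c2 LD2_c37 LD3_c33)) = (LP (LK LD1_c5 LD2_c22 LD3_c1)) :=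
  Lre_b IH (LK LD1_c2 LD2_c37 LD3_c33) (LK LD1_c5 LD2_c22 LD3_c1) Lrfl Lrfl
theorem f213974 : Led Lsl_ct (LP (LK LD1_c4 LD2_c55 LD3_c2)) = (LP (LK LD1_c2 LD2_c25 LD3_c23)) :=
  Lre_c IH (LK LD1_c4 LD2_c55 LD3_c2) (LK LD1_c2 LD2_c25 LD3_c23) Lrfl Lrfl
theorem f213975 : Led Lsl_bt (LP (LK LD1_c9 LD2_c41 LD3_c40)) = (LP (LK LD1_c4 LD2_c55 LD3_c2)) :=
  Lre_b IH (LK LD1_c9 LD2_c41 LD3_c40) (LK LD1_c4 LD2_c55 LD3_c2) Lrfl Lrfl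
theorem f214085 : Led Lsl_ct (LP (LK LD1_c5 LD2_c22 LD3_c1)) = (LP (LK LD1_c9 LD2_c41 LD3_c40)) :=
  Lgr Lrot83 (Lpe (f214084 IH) (Lpr_cf (K12.f214081 IH) (Lpr_bf (K13.f213970 IH) (Lpe (f213974 IH) (Lpe (f213975 IH) (Lpn (LP (LK LD1_c9 LD2_c41 LD3_c40))))))))
theorem f342788 : Led Lsl_ft (LP (LK LD1_c10 LD2_c30 LD3_c37)) = (LP (LK LD1_c5 LD2_c22 LD3_c1)) :=
  Lgr Lrot4 (Lpr_cf (f182675 IH) (Lpr_ff (f342780 IH) (Lpe (f214085 IH) (Lpn (LP (LK LD1_c5 LD2_c22 LD3_c1))))))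
theorem f182747 : Led Lsl_et (LP (LK LD1_c19 LD2_c2 LD3_c51)) = (LP (LK LD1_c10 LD2_c30 LD3_c37)) :=
  Lre_e IH (LK LD1_c19 LD2_c2 LD3_c51) (LK LD1_c10 LD2_c30 LD3_c37) Lrfl Lrfl
theorem f216069 : Led Lsl_ft (LP (LK LD1_c10 LD2_c34 LD3_c28)) = (LP (LK LD1_c19 LD2_c9 LD3_c23)) :=
  Lre_f IH (LK LD1_c10 LD2_c34 LD3_c28) (LK LD1_c19 LD2_c9 LD3_c23) Lrfl Lrfl
theorem f342792 : Led Lsl_ef (LP (LK LD1_c28 LD2_c29 LD3_c10)) = (LP (LK LD1_c19 LD2_c9 LD3_c23)) :=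
  Lgr Lrot21 (Lpr_ft (f182655 IH) (Lpr_et (f182747 IH) (Lpr_ft (f342788 IH) (Lpr_et (f215988 IH) (Lpr_ft (f216069 IH) (Lpn (LP (LK LD1_c19 LD2_c9 LD3_c23))))))))
theorem f342800 : Led Lsl_et (LP (LK LD1_c28 LD2_c29 LD3_c10)) = (LP (LK LD1_c19 LD2_c9 LD3_c23)) :=
  Lgr Lrot87 (Lpr_ef (f342792 IH) (Lpn (LP (LK LD1_c19 LD2_c9 LD3_c23))))
theorem f182637 : Led Lsl_bt (LP (LK LD1_c19 LD2_c2 LD3_c54)) = (LP (LK LD1_c28 LD2_c29 LD3_c10)) :=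
  Lre_b IH (LK LD1_c19 LD2_c2 LD3_c54) (LK LD1_c28 LD2_c29 LD3_c10) Lrfl Lrfl
theorem f342802 : Led Lsl_ef (LP (LK LD1_c19 LD2_c2 LD3_c54)) = (LP (LK LD1_c10 LD2_c34 LD3_c31)) :=
  Lgr Lrot29 (Lpr_bt (f182637 IH) (Lpr_et (f342800 IH) (Lpr_bt (f215960 IH) (Lpn (LP (LK LD1_c10 LD2_c34 LD3_c31))))))
theorem f182651 : Led Lsl_ft (LP (LK LD1_c10 LD2_c30 LD3_c39)) = (LP (LK LD1_c19 LD2_c2 LD3_c54)) :=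
  Lre_f IH (LK LD1_c10 LD2_c30 LD3_c39) (LK LD1_c19 LD2_c2 LD3_c54) Lrfl Lrfl
theorem f328912 : Led Lsl_af (LP (LK LD1_c10 LD2_c34 LD3_c23)) = (LP (LK LD1_c19 LD2_c2 LD3_c54)) :=
  Lgr Lrot45 (Lpr_ft (K21.f194929 IH) (Lpr_at (K21.f328906 IH) (Lpr_ft (f182651 IH) (Lpn (LP (LK LD1_c19 LD2_c2 LD3_c54))))))
theorem f342805 : Led Lsl_at (LP (LK LD1_c19 LD2_c3 LD3_c0)) = (LP (LK LD1_c10 LD2_c34 LD3_c31)) :=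
  Lgr Lrot80 (Lpe (K22.f336742 IH) (Lpr_af (f328912 IH) (Lpr_ef (f342802 IH) (Lpn (LP (LK LD1_c10 LD2_c34 LD3_c31))))))
theorem f342817 : Led Lsl_af (LP (LK LD1_c19 LD2_c3 LD3_c0)) = (LP (LK LD1_c10 LD2_c34 LD3_c31)) :=
  Lgr Lrot0 (Lpr_at (f342805 IH) (Lpn (LP (LK LD1_c10 LD2_c34 LD3_c31))))
theorem f215963 : Led Lsl_ft (LP (LK LD1_c5 LD2_c22 LD3_c3)) = (LP (LK LD1_c10 LD2_c34 LD3_c31)) :=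
  Lre_f IH (LK LD1_c5 LD2_c22 LD3_c3) (LK LD1_c10 LD2_c34 LD3_c31) Lrfl Lrfl
theorem f342819 : Led Lsl_at (LP (LK LD1_c10 LD2_c30 LD3_c42)) = (LP (LK LD1_c5 LD2_c22 LD3_c3)) :=
  Lgr Lrot66 (Lpe (K22.f187687 IH) (Lpr_af (f342817 IH) (Lpe (f215963 IH) (Lpn (LP (LK LD1_c5 LD2_c22 LD3_c3))))))
theorem f345418 : Led Lsl_gf (LP (LK LD1_c10 LD2_c34 LD3_c14)) = (LP (LK LD1_c19 LD2_c3 LD3_c0)) :=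
  Lgr Lrot47 (Lpr_gt (f345395 IH) (Lpe (f342819 IH) (Lpe (K22.f187687 IH) (Lpn (LP (LK LD1_c19 LD2_c3 LD3_c0))))))
theorem f199030 : Led Lsl_ct (LP (LK LD1_c10 LD2_c34 LD3_c14)) = (LP (LK LD1_c5 LD2_c21 LD3_c58)) :=
  Lre_c IH (LK LD1_c10 LD2_c34 LD3_c14) (LK LD1_c5 LD2_c21 LD3_c58) Lrfl Lrfl
theorem f343831 : Led Lsl_dt (LP (LK LD1_c19 LD2_c13 LD3_c49)) = (LP (LK LD1_c19 LD2_c3 LD3_c0)) :=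
  Lgr Lrot42 (Lpr_df (K23.f343824 IH) (Lpn (LP (LK LD1_c19 LD2_c3 LD3_c0))))
theorem f343841 : Led Lsl_ct (LP (LK LD1_c10 LD2_c36 LD3_c58)) = (LP (LK LD1_c19 LD2_c13 LD3_c50)) :=
  Lre_c IH (LK LD1_c10 LD2_c36 LD3_c58) (LK LD1_c19 LD2_c13 LD3_c50) Lrfl Lrfl
theorem f345421 : Led Lsl_gf (LP (LK LD1_c19 LD2_c8 LD3_c42)) = (LP (LK LD1_c19 LD2_c13 LD3_c50)) :=
  Lgr Lrot104 (Lpr_ct (K17.f199026 IH) (Lpe (K12.f198879 IH) (Lpe (K12.f198951 IH) (Lpe (f198965 IH) (Lpe (f199030 IH) (Lpr_gf (f345418 IH) (Lpe (f343831 IH) (Lpr_gt (K23.f343823 IH) (Lpr_ct (f343841 IH) (Lpn (LP (LK LD1_c19 LD2_c13 LD3_c50))))))))))))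
theorem f284309 : Led Lsl_ff (LP (LK LD1_c26 LD2_c36 LD3_c44)) = (LP (LK LD1_c28 LD2_c39 LD3_c27)) :=
  Lgr Lrot23 (Lpr_ct (K17.f284284 IH) (Lpr_ft (K17.f284304 IH) (Lpr_ct (K17.f284308 IH) (Lpn (LP (LK LD1_c28 LD2_c39 LD3_c27))))))
theorem f284404 : Led Lsl_at (LP (LK LD1_c26 LD2_c36 LD3_c44)) = (LP (LK LD1_c19 LD2_c8 LD3_c42)) :=
  Lgr Lrot33 (Lpr_ff (f284309 IH) (Lpr_dt (K17.f284397 IH) (Lpr_ct (K17.f199002 IH) (Lpr_dt (f199001 IH) (Lpr_ct (f199000 IH) (Lpr_dt (K12.f198995 IH) (Lpr_ct (K12.f198951 IH) (Lpr_dt (K12.f198879 IH) (Lpr_ct (f199003 IH) (Lpn (LP (LK LD1_c19 LD2_c8 LD3_c42))))))))))))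
theorem f345433 : Led Lsl_gt (LP (LK LD1_c28 LD2_c39 LD3_c27)) = (LP (LK LD1_c19 LD2_c13 LD3_c50)) :=
  Lgr Lrot5 (Lpe (f284309 IH) (Lpr_at (f284404 IH) (Lpr_gf (f345421 IH) (Lpn (LP (LK LD1_c19 LD2_c13 LD3_c50))))))
theorem f345435 : Led Lsl_ct (LP (LK LD1_c19 LD2_c13 LD3_c50)) = (LP (LK LD1_c10 LD2_c36 LD3_c58)) :=
  Lre_c IH (LK LD1_c19 LD2_c13 LD3_c50) (LK LD1_c10 LD2_c36 LD3_c58) Lrfl Lrfl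
theorem f343843 : Led Lsl_dt (LP (LK LD1_c5 LD2_c23 LD3_c11)) = (LP (LK LD1_c10 LD2_c36 LD3_c58)) :=
  Lre_d IH (LK LD1_c5 LD2_c23 LD3_c11) (LK LD1_c10 LD2_c36 LD3_c58) Lrfl Lrfl
theorem f217747 : Led Lsl_gt (LP (LK LD1_c5 LD2_c23 LD3_c8)) = (LP (LK LD1_c2 LD2_c38 LD3_c2)) :=
  Lre_g IH (LK LD1_c5 LD2_c23 LD3_c8) (LK LD1_c2 LD2_c38 LD3_c2) Lrfl Lrfl
theorem f345439 : Led Lsl_dt (LP (LK LD1_c10 LD2_c36 LD3_c50)) = (LP (LK LD1_c5 LD2_c23 LD3_c8)) :=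
  Lre_d IH (LK LD1_c10 LD2_c36 LD3_c50) (LK LD1_c5 LD2_c23 LD3_c8) Lrfl Lrfl
theorem f345440 : Led Lsl_gf (LP (LK LD1_c19 LD2_c13 LD3_c25)) = (LP (LK LD1_c10 LD2_c36 LD3_c50)) :=
  Lgr Lrot147 (Lpr_ct (K17.f284308 IH) (Lpr_gt (f345433 IH) (Lpr_ct (f345435 IH) (Lpe (f343843 IH) (Lpe (K23.f330469 IH) (Lpe (K12.f42540 IH) (Lpe (K12.f199042 IH) (Lpe (f217747 IH) (Lpe (f345439 IH) (Lpn (LP (LK LD1_c10 LD2_c36 LD3_c50))))))))))))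
theorem f345446 : Led Lsl_ct (LP (LK LD1_c19 LD2_c13 LD3_c32)) = (LP (LK LD1_c10 LD2_c36 LD3_c50)) :=
  Lre_c IH (LK LD1_c19 LD2_c13 LD3_c32) (LK LD1_c10 LD2_c36 LD3_c50) Lrfl Lrfl
theorem f352457 : Led Lsl_gf (LP (LK LD1_c28 LD2_c35 LD3_c19)) = (LP (LK LD1_c19 LD2_c13 LD3_c32)) :=
  Lgr Lrot144 (Lpr_dt (K22.f336849 IH) (Lpr_gt (f352454 IH) (Lpe (f352353 IH) (Lpe (f311061 IH) (Lpe (f352389 IH) (Lpr_gf (f352397 IH) (Lpr_df (K17.f284312 IH) (Lpr_gf (f345440 IH) (Lpe (f345446 IH) (Lpn (LP (LK LD1_c19 LD2_c13 LD3_c32))))))))))))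
theorem f215959 : Led Lsl_ct (LP (LK LD1_c28 LD2_c35 LD3_c19)) = (LP (LK LD1_c19 LD2_c9 LD3_c29)) :=
  Lre_c IH (LK LD1_c28 LD2_c35 LD3_c19) (LK LD1_c19 LD2_c9 LD3_c29) Lrfl Lrfl
theorem f215958 : Led Lsl_dt (LP (LK LD1_c19 LD2_c9 LD3_c29)) = (LP (LK LD1_c10 LD2_c34 LD3_c31)) :=
  Lre_d IH (LK LD1_c19 LD2_c9 LD3_c29) (LK LD1_c10 LD2_c34 LD3_c31) Lrfl Lrfl
theorem f345447 : Led Lsl_ct (LP (LK LD1_c10 LD2_c36 LD3_c50)) = (LP (LK LD1_c19 LD2_c13 LD3_c32)) :=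
  Lre_c IH (LK LD1_c10 LD2_c36 LD3_c50) (LK LD1_c19 LD2_c13 LD3_c32) Lrfl Lrfl
theorem f199029 : Led Lsl_ft (LP (LK LD1_c10 LD2_c34 LD3_c10)) = (LP (LK LD1_c19 LD2_c8 LD3_c43)) :=
  Lre_f IH (LK LD1_c10 LD2_c34 LD3_c10) (LK LD1_c19 LD2_c8 LD3_c43) Lrfl Lrfl
theorem f284293 : Led Lsl_at (LP (LK LD1_c19 LD2_c8 LD3_c43)) = (LP (LK LD1_c19 LD2_c13 LD3_c25)) :=
  Lgr Lrot66 (Lpe (f199029 IH) (Lpe (K17.f284278 IH) (Lpr_ff (K17.f284291 IH) (Lpn (LP (LK LD1_c19 LD2_c13 LD3_c25))))))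
theorem f345444 : Led Lsl_gt (LP (LK LD1_c10 LD2_c34 LD3_c10)) = (LP (LK LD1_c10 LD2_c36 LD3_c50)) :=
  Lgr Lrot5 (Lpr_ft (f199029 IH) (Lpr_at (f284293 IH) (Lpr_gf (f345440 IH) (Lpn (LP (LK LD1_c10 LD2_c36 LD3_c50))))))
theorem f352461 : Led Lsl_gf (LP (LK LD1_c17 LD2_c35 LD3_c46)) = (LP (LK LD1_c18 LD2_c52 LD3_c38)) :=
  Lgr Lrot104 (Lpe (K22.f215943 IH) (Lpe (f215958 IH) (Lpe (f215959 IH) (Lpr_gf (f352457 IH) (Lpe (f345447 IH) (Lpe (f345444 IH) (Lpe (K12.f198879 IH) (Lpr_gt (K22.f199054 IH) (Lpe (f351502 IH) (Lpn (LP (LK LD1_c18 LD2_c52 LD3_c38))))))))))))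
theorem f350655 : Led Lsl_gt (LP (LK LD1_c9 LD2_c41 LD3_c5)) = (LP (LK LD1_c5 LD2_c35 LD3_c60)) :=
  Lgr Lrot5 (Lpr_ft (K22.f213953 IH) (Lpr_at (K22.f336858 IH) (Lpr_gf (K24.f350653 IH) (Lpn (LP (LK LD1_c5 LD2_c35 LD3_c60))))))
theorem f199057 : Led Lsl_dt (LP (LK LD1_c10 LD2_c36 LD3_c47)) = (LP (LK LD1_c5 LD2_c23 LD3_c7)) :=
  Lre_d IH (LK LD1_c10 LD2_c36 LD3_c47) (LK LD1_c5 LD2_c23 LD3_c7) Lrfl Lrfl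
theorem f352465 : Led Lsl_ct (LP (LK LD1_c8 LD2_c27 LD3_c43)) = (LP (LK LD1_c5 LD2_c23 LD3_c7)) :=
  Lgr Lrot7 (Lpe (K24.f189166 IH) (Lpe (f350655 IH) (Lpe (K13.f213951 IH) (Lpr_gf (f352461 IH) (Lpr_cf (f351502 IH) (Lpr_gt (f345373 IH) (Lpr_dt (K17.f284300 IH) (Lpr_gt (K17.f199053 IH) (Lpr_dt (f199057 IH) (Lpn (LP (LK LD1_c5 LD2_c23 LD3_c7))))))))))))
theorem f314950 : Led Lsl_gf (LP (LK LD1_c4 LD2_c4 LD3_c30)) = (LP (LK LD1_c4 LD2_c14 LD3_c29)) :=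
  Lgr Lrot76 (Lpr_af (K19.f314943 IH) (Lpe (f314812 IH) (Lpr_gt (K24.f32050 IH) (Lpn (LP (LK LD1_c4 LD2_c14 LD3_c29))))))
theorem f199047 : Led Lsl_ct (LP (LK LD1_c1 LD2_c15 LD3_c60)) = (LP (LK LD1_c2 LD2_c38 LD3_c2)) :=
  Lre_c IH (LK LD1_c1 LD2_c15 LD3_c60) (LK LD1_c2 LD2_c38 LD3_c2) Lrfl Lrfl
theorem f310743 : Led Lsl_bt (LP (LK LD1_c1 LD2_c15 LD3_c60)) = (LP (LK LD1_c2 LD2_c37 LD3_c42)) :=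
  Lre_b IH (LK LD1_c1 LD2_c15 LD3_c60) (LK LD1_c2 LD2_c37 LD3_c42) Lrfl Lrfl
theorem f352206 : Led Lsl_bf (LP (LK LD1_c5 LD2_c22 LD3_c23)) = (LP (LK LD1_c4 LD2_c52 LD3_c49)) :=
  Lgr Lrot24 (Lpr_bt (f352204 IH) (Lpn (LP (LK LD1_c4 LD2_c52 LD3_c49))))
theorem f352492 : Led Lsl_gt (LP (LK LD1_c8 LD2_c9 LD3_c50)) = (LP (LK LD1_c8 LD2_c27 LD3_c40)) :=
  Lgr Lrot149 (Lpe (K19.f314834 IH) (Lpr_gf (f314950 IH) (Lpe (K24.f189165 IH) (Lpr_ct (f352465 IH) (Lpe (K12.f199043 IH) (Lpe (f199047 IH) (Lpr_bt (f310743 IH) (Lpe (K24.f182165 IH) (Lpr_bf (f352206 IH) (Lpe (K24.f310600 IH) (Lpn (LP (LK LD1_c8 LD2_c27 LD3_c40)))))))))))))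
theorem f189188 : Led Lsl_gt (LP (LK LD1_c2 LD2_c43 LD3_c49)) = (LP (LK LD1_c5 LD2_c35 LD3_c53)) :=
  Lre_g IH (LK LD1_c2 LD2_c43 LD3_c49) (LK LD1_c5 LD2_c35 LD3_c53) Lrfl Lrfl
theorem f352496 : Led Lsl_ct (LP (LK LD1_c5 LD2_c35 LD3_c53)) = (LP (LK LD1_c9 LD2_c37 LD3_c40)) :=
  Lgr Lrot110 (Lpe (f189188 IH) (Lpe (K24.f189187 IH) (Lpe (K23.f189154 IH) (Lpr_df (K24.f189162 IH) (Lpe (f314950 IH) (Lpr_ct (K19.f314834 IH) (Lpr_gt (f352492 IH) (Lpr_ct (K23.f310597 IH) (Lpe (K19.f187946 IH) (Lpn (LP (LK LD1_c9 LD2_c37 LD3_c40))))))))))))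
theorem f199413 : Led Lsl_et (LP (LK LD1_c11 LD2_c4 LD3_c2)) = (LP (LK LD1_c5 LD2_c35 LD3_c53)) :=
  Lre_e IH (LK LD1_c11 LD2_c4 LD3_c2) (LK LD1_c5 LD2_c35 LD3_c53) Lrfl Lrfl
theorem f352504 : Led Lsl_cf (LP (LK LD1_c11 LD2_c4 LD3_c2)) = (LP (LK LD1_c8 LD2_c38 LD3_c4)) :=
  Lgr Lrot39 (Lpr_et (f199413 IH) (Lpr_ct (f352496 IH) (Lpe (K19.f187947 IH) (Lpn (LP (LK LD1_c8 LD2_c38 LD3_c4))))))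
theorem f348675 : Led Lsl_ct (LP (LK LD1_c9 LD2_c43 LD3_c50)) = (LP (LK LD1_c5 LD2_c24 LD3_c34)) :=
  Lgr Lrot15 (Lpr_ef (K23.f348669 IH) (Lpe (K23.f348638 IH) (Lpr_ef (K19.f312158 IH) (Lpn (LP (LK LD1_c5 LD2_c24 LD3_c34))))))
theorem f348685 : Led Lsl_dt (LP (LK LD1_c17 LD2_c53 LD3_c9)) = (LP (LK LD1_c9 LD2_c43 LD3_c50)) :=
  Lre_d IH (LK LD1_c17 LD2_c53 LD3_c9) (LK LD1_c9 LD2_c43 LD3_c50) Lrfl Lrfl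
theorem f352512 : Led Lsl_gt (LP (LK LD1_c11 LD2_c4 LD3_c2)) = (LP (LK LD1_c16 LD2_c9 LD3_c48)) :=
  Lgr Lrot94 (Lpr_cf (f352504 IH) (Lpe (K19.f293320 IH) (Lpe (K11.f211335 IH) (Lpe (K19.f312167 IH) (Lpr_dt (K19.f312156 IH) (Lpe (f348675 IH) (Lpe (f348685 IH) (Lpr_gf (K23.f348688 IH) (Lpe (K19.f189917 IH) (Lpn (LP (LK LD1_c16 LD2_c9 LD3_c48))))))))))))
theorem f168954 : Led Lsl_ct (LP (LK LD1_c6 LD2_c7 LD3_c1)) = (LP (LK LD1_c11 LD2_c57 LD3_c2)) :=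
  Lre_c IH (LK LD1_c6 LD2_c7 LD3_c1) (LK LD1_c11 LD2_c57 LD3_c2) Lrfl Lrfl
theorem f329825 : Led Lsl_ct (LP (LK LD1_c9 LD2_c51 LD3_c34)) = (LP (LK LD1_c5 LD2_c24 LD3_c29)) :=
  Lgr Lrot15 (Lpe (K23.f316802 IH) (Lpr_cf (K21.f329816 IH) (Lpe (K21.f312152 IH) (Lpn (LP (LK LD1_c5 LD2_c24 LD3_c29))))))
theorem f345218 : Led Lsl_gf (LP (LK LD1_c15 LD2_c9 LD3_c0)) = (LP (LK LD1_c11 LD2_c57 LD3_c2)) :=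
  Lgr Lrot104 (Lpr_ct (K22.f253013 IH) (Lpr_df (K21.f329790 IH) (Lpe (f329825 IH) (Lpr_gf (K23.f345216 IH) (Lpe (K23.f168989 IH) (Lpe (K23.f235443 IH) (Lpr_df (K23.f314422 IH) (Lpr_gt (K23.f332822 IH) (Lpr_ct (f168954 IH) (Lpn (LP (LK LD1_c11 LD2_c57 LD3_c2))))))))))))
theorem f253017 : Led Lsl_ct (LP (LK LD1_c8 LD2_c2 LD3_c47)) = (LP (LK LD1_c15 LD2_c9 LD3_c0)) :=
  Lre_c IH (LK LD1_c8 LD2_c2 LD3_c47) (LK LD1_c15 LD2_c9 LD3_c0) Lrfl Lrfl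
theorem f182166 : Led Lsl_gt (LP (LK LD1_c6 LD2_c4 LD3_c37)) = (LP (LK LD1_c11 LD2_c52 LD3_c46)) :=
  Lre_g IH (LK LD1_c6 LD2_c4 LD3_c37) (LK LD1_c11 LD2_c52 LD3_c46) Lrfl Lrfl
theorem f352514 : Led Lsl_bf (LP (LK LD1_c11 LD2_c52 LD3_c46)) = (LP (LK LD1_c8 LD2_c38 LD3_c4)) :=
  Lgr Lrot34 (Lpe (f182166 IH) (Lpr_bf (K21.f253009 IH) (Lpr_ct (f253017 IH) (Lpr_gf (f345218 IH) (Lpe (f168954 IH) (Lpe (K23.f332822 IH) (Lpr_bf (K23.f189937 IH) (Lpr_ct (K19.f189916 IH) (Lpe (f352512 IH) (Lpr_cf (f352504 IH) (Lpn (LP (LK LD1_c8 LD2_c38 LD3_c4)))))))))))))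
theorem f182103 : Led Lsl_et (LP (LK LD1_c2 LD2_c58 LD3_c29)) = (LP (LK LD1_c6 LD2_c4 LD3_c37)) :=
  Lre_e IH (LK LD1_c2 LD2_c58 LD3_c29) (LK LD1_c6 LD2_c4 LD3_c37) Lrfl Lrfl
theorem f222174 : Led Lsl_et (LP (LK LD1_c8 LD2_c20 LD3_c27)) = (LP (LK LD1_c11 LD2_c52 LD3_c46)) :=
  Lgr Lrot122 (Lpr_dt (K24.f222167 IH) (Lpr_gt (K24.f182165 IH) (Lpe (K24.f182157 IH) (Lpr_et (K19.f182156 IH) (Lpr_gt (K9.f182153 IH) (Lpr_dt (K9.f54076 IH) (Lpe (K15.f182093 IH) (Lpe (K15.f182097 IH) (Lpr_et (f182103 IH) (Lpr_gt (f182166 IH) (Lpn (LP (LK LD1_c11 LD2_c52 LD3_c46)))))))))))))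
theorem f222177 : Led Lsl_ef (LP (LK LD1_c8 LD2_c20 LD3_c27)) = (LP (LK LD1_c11 LD2_c52 LD3_c46)) :=
  Lgr Lrot88 (Lpr_et (f222174 IH) (Lpn (LP (LK LD1_c11 LD2_c52 LD3_c46))))
theorem f352521 : Led Lsl_bt (LP (LK LD1_c8 LD2_c20 LD3_c27)) = (LP (LK LD1_c9 LD2_c37 LD3_c40)) :=
  Lgr Lrot119 (Lpr_ef (f222177 IH) (Lpr_bf (f352514 IH) (Lpr_ef (K19.f187947 IH) (Lpn (LP (LK LD1_c9 LD2_c37 LD3_c40))))))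
theorem f170833 : Led Lsl_ct (LP (LK LD1_c8 LD2_c20 LD3_c27)) = (LP (LK LD1_c15 LD2_c41 LD3_c59)) :=
  Lre_c IH (LK LD1_c8 LD2_c20 LD3_c27) (LK LD1_c15 LD2_c41 LD3_c59) Lrfl Lrfl
theorem f42293 : Led Lsl_gt (LP (LK LD1_c10 LD2_c31 LD3_c6)) = (LP (LK LD1_c5 LD2_c20 LD3_c32)) :=
  Lre_g IH (LK LD1_c10 LD2_c31 LD3_c6) (LK LD1_c5 LD2_c20 LD3_c32) Lrfl Lrfl
theorem f214030 : Led Lsl_dt (LP (LK LD1_c4 LD2_c54 LD3_c51)) = (LP (LK LD1_c9 LD2_c41 LD3_c11)) :=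
  Lre_d IH (LK LD1_c4 LD2_c54 LD3_c51) (LK LD1_c9 LD2_c41 LD3_c11) Lrfl Lrfl
theorem f282177 : Led Lsl_df (LP (LK LD1_c27 LD2_c36 LD3_c4)) = (LP (LK LD1_c18 LD2_c27 LD3_c17)) :=
  Lgr Lrot38 (Lpr_dt (f282175 IH) (Lpn (LP (LK LD1_c18 LD2_c27 LD3_c17))))
theorem f351510 : Led Lsl_df (LP (LK LD1_c18 LD2_c52 LD3_c38)) = (LP (LK LD1_c17 LD2_c48 LD3_c61)) :=
  Lgr Lrot70 (Lpr_et (f351508 IH) (Lpr_dt (K22.f230767 IH) (Lpr_et (K22.f336332 IH) (Lpe (f282177 IH) (Lpr_et (f232874 IH) (Lpn (LP (LK LD1_c17 LD2_c48 LD3_c61))))))))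
theorem f352235 : Led Lsl_ct (LP (LK LD1_c8 LD2_c9 LD3_c53)) = (LP (LK LD1_c10 LD2_c31 LD3_c6)) :=
  Lgr Lrot8 (Lpr_gt (f352231 IH) (Lpr_dt (f214030 IH) (Lpr_gt (f214053 IH) (Lpe (f351510 IH) (Lpr_cf (f351502 IH) (Lpr_df (f315861 IH) (Lpe (K22.f311068 IH) (Lpe (K19.f42271 IH) (Lpe (f42293 IH) (Lpn (LP (LK LD1_c10 LD2_c31 LD3_c6))))))))))))
theorem f187275 : Led Lsl_bt (LP (LK LD1_c7 LD2_c58 LD3_c1)) = (LP (LK LD1_c15 LD2_c1 LD3_c16)) :=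
  Lre_b IH (LK LD1_c7 LD2_c58 LD3_c1) (LK LD1_c15 LD2_c1 LD3_c16) Lrfl Lrfl
theorem f352526 : Led Lsl_gt (LP (LK LD1_c15 LD2_c41 LD3_c59)) = (LP (LK LD1_c15 LD2_c1 LD3_c43)) :=
  Lgr Lrot65 (Lpe (f170833 IH) (Lpr_bt (f352521 IH) (Lpe (K19.f199326 IH) (Lpe (K19.f42266 IH) (Lpr_ct (f42270 IH) (Lpe (f42293 IH) (Lpe (f352235 IH) (Lpr_gf (f352233 IH) (Lpe (f187275 IH) (Lpr_ct (f339470 IH) (Lpn (LP (LK LD1_c15 LD2_c1 LD3_c43)))))))))))))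
theorem f230853 : Led Lsl_gt (LP (LK LD1_c8 LD2_c11 LD3_c35)) = (LP (LK LD1_c15 LD2_c25 LD3_c32)) :=
  Lre_g IH (LK LD1_c8 LD2_c11 LD3_c35) (LK LD1_c15 LD2_c25 LD3_c32) Lrfl Lrfl
theorem f351811 : Led Lsl_gt (LP (LK LD1_c15 LD2_c25 LD3_c32)) = (LP (LK LD1_c24 LD2_c50 LD3_c0)) :=
  Lgr Lrot46 (Lpe (f230853 IH) (Lpr_ft (f317444 IH) (Lpr_at (f351805 IH) (Lpn (LP (LK LD1_c24 LD2_c50 LD3_c0))))))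
theorem f352528 : Led Lsl_ct (LP (LK LD1_c15 LD2_c41 LD3_c60)) = (LP (LK LD1_c15 LD2_c25 LD3_c32)) :=
  Lgr Lrot152 (Lpe (f187974 IH) (Lpe (f170826 IH) (Lpr_gt (K24.f170829 IH) (Lpr_ct (f170833 IH) (Lpr_gt (f352526 IH) (Lpr_ct (f351609 IH) (Lpe (f187276 IH) (Lpe (f187286 IH) (Lpe (f351811 IH) (Lpn (LP (LK LD1_c15 LD2_c25 LD3_c32))))))))))))
theorem f352351 : Led Lsl_dt (LP (LK LD1_c28 LD2_c30 LD3_c6)) = (LP (LK LD1_c29 LD2_c46 LD3_c9)) :=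
  Lgr Lrot27 (Lpe (f311061 IH) (Lpe (f311059 IH) (Lpe (K19.f311000 IH) (Lpr_gf (f311006 IH) (Lpr_df (f345366 IH) (Lpe (f345364 IH) (Lpr_ct (K17.f199002 IH) (Lpr_gt (f352347 IH) (Lpr_ct (f42396 IH) (Lpn (LP (LK LD1_c29 LD2_c46 LD3_c9))))))))))))
theorem f311112 : Led Lsl_ct (LP (LK LD1_c29 LD2_c46 LD3_c12)) = (LP (LK LD1_c20 LD2_c57 LD3_c18)) :=
  Lre_c IH (LK LD1_c29 LD2_c46 LD3_c12) (LK LD1_c20 LD2_c57 LD3_c18) Lrfl Lrfl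
theorem f352395 : Led Lsl_cf (LP (LK LD1_c10 LD2_c34 LD3_c9)) = (LP (LK LD1_c11 LD2_c4 LD3_c24)) :=
  Lgr Lrot55 (Lpr_dt (f352389 IH) (Lpr_ct (f311061 IH) (Lpr_dt (f352351 IH) (Lpr_ct (f42398 IH) (Lpr_dt (f42408 IH) (Lpe (f352276 IH) (Lpe (f351510 IH) (Lpr_ct (f351500 IH) (Lpr_dt (K22.f315855 IH) (Lpr_ct (f315860 IH) (Lpe (f352375 IH) (Lpr_ct (f311112 IH) (Lpr_dt (f311008 IH) (Lpe (f339854 IH) (Lpe (f315623 IH) (Lpn (LP (LK LD1_c11 LD2_c4 LD3_c24))))))))))))))))))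
theorem f340129 : Led Lsl_gf (LP (LK LD1_c15 LD2_c32 LD3_c4)) = (LP (LK LD1_c15 LD2_c41 LD3_c60)) :=
  Lgr Lrot134 (Lpr_df (K13.f231317 IH) (Lpr_et (K18.f284527 IH) (Lpr_gt (K17.f261038 IH) (Lpr_ef (K16.f274485 IH) (Lpr_dt (K15.f256095 IH) (Lpr_gt (K15.f172019 IH) (Lpe (K13.f42527 IH) (Lpr_et (K10.f194693 IH) (Lpr_gt (f201023 IH) (Lpr_dt (f340125 IH) (Lpn (LP (LK LD1_c15 LD2_c41 LD3_c60)))))))))))))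
theorem f352431 : Led Lsl_bt (LP (LK LD1_c11 LD2_c53 LD3_c26)) = (LP (LK LD1_c15 LD2_c41 LD3_c60)) :=
  Lgr Lrot22 (Lpr_ct (K24.f350540 IH) (Lpe (K24.f189199 IH) (Lpe (K20.f189177 IH) (Lpe (K22.f189373 IH) (Lpe (f315589 IH) (Lpe (f352395 IH) (Lpr_gf (f352397 IH) (Lpe (K14.f231368 IH) (Lpe (K13.f231361 IH) (Lpr_gf (f340129 IH) (Lpn (LP (LK LD1_c15 LD2_c41 LD3_c60)))))))))))))
theorem f352433 : Led Lsl_bf (LP (LK LD1_c11 LD2_c53 LD3_c26)) = (LP (LK LD1_c15 LD2_c41 LD3_c60)) :=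
  Lgr Lrot24 (Lpr_bt (f352431 IH) (Lpn (LP (LK LD1_c15 LD2_c41 LD3_c60))))
theorem f42402 : Led Lsl_bt (LP (LK LD1_c2 LD2_c58 LD3_c44)) = (LP (LK LD1_c6 LD2_c5 LD3_c2)) :=
  Lre_b IH (LK LD1_c2 LD2_c58 LD3_c44) (LK LD1_c6 LD2_c5 LD3_c2) Lrfl Lrfl
theorem f352534 : Led Lsl_gf (LP (LK LD1_c15 LD2_c22 LD3_c44)) = (LP (LK LD1_c16 LD2_c11 LD3_c8)) :=
  Lgr Lrot181 (Lpr_ct (f339862 IH) (Lpr_gt (K22.f42294 IH) (Lpe (K19.f42384 IH) (Lpr_bt (f42402 IH) (Lpr_gt (K19.f42403 IH) (Lpr_bf (f352433 IH) (Lpr_ct (f352528 IH) (Lpr_gt (f351811 IH) (Lpe (f187290 IH) (Lpr_bt (K10.f187284 IH) (Lpn (LP (LK LD1_c16 LD2_c11 LD3_c8)))))))))))))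
theorem f42372 : Led Lsl_gt (LP (LK LD1_c5 LD2_c20 LD3_c32)) = (LP (LK LD1_c10 LD2_c31 LD3_c5)) :=
  Lre_g IH (LK LD1_c5 LD2_c20 LD3_c32) (LK LD1_c10 LD2_c31 LD3_c5) Lrfl Lrfl
theorem f310977 : Led Lsl_gf (LP (LK LD1_c5 LD2_c23 LD3_c10)) = (LP (LK LD1_c10 LD2_c31 LD3_c5)) :=
  Lgr Lrot76 (Lpr_af (K19.f310955 IH) (Lpe (K19.f303250 IH) (Lpr_gt (f42372 IH) (Lpn (LP (LK LD1_c10 LD2_c31 LD3_c5))))))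
theorem f339468 : Led Lsl_gf (LP (LK LD1_c15 LD2_c1 LD3_c16)) = (LP (LK LD1_c9 LD2_c41 LD3_c10)) :=
  Lgr Lrot76 (Lpr_af (K22.f339460 IH) (Lpe (K12.f214033 IH) (Lpr_gt (K24.f214036 IH) (Lpn (LP (LK LD1_c9 LD2_c41 LD3_c10))))))
theorem f352540 : Led Lsl_cf (LP (LK LD1_c10 LD2_c31 LD3_c5)) = (LP (LK LD1_c9 LD2_c41 LD3_c10)) :=
  Lgr Lrot166 (Lpe (f310977 IH) (Lpr_dt (K19.f310947 IH) (Lpr_gt (f311059 IH) (Lpe (f352382 IH) (Lpr_ct (f352387 IH) (Lpr_df (f315623 IH) (Lpr_gf (f352534 IH) (Lpe (K10.f187268 IH) (Lpr_gf (f339468 IH) (Lpn (LP (LK LD1_c9 LD2_c41 LD3_c10))))))))))))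
theorem f189674 : Led Lsl_ct (LP (LK LD1_c8 LD2_c16 LD3_c25)) = (LP (LK LD1_c15 LD2_c33 LD3_c20)) :=
  Lre_c IH (LK LD1_c8 LD2_c16 LD3_c25) (LK LD1_c15 LD2_c33 LD3_c20) Lrfl Lrfl
theorem f323507 : Led Lsl_gt (LP (LK LD1_c15 LD2_c16 LD3_c4)) = (LP (LK LD1_c11 LD2_c2 LD3_c26)) :=
  Lgr Lrot139 (Lpe (K23.f28096 IH) (Lpe (K14.f28095 IH) (Lpe (K14.f28093 IH) (Lpr_dt (K12.f28091 IH) (Lpe (K12.f182189 IH) (Lpe (K14.f173256 IH) (Lpr_et (K22.f197517 IH) (Lpe (K21.f197551 IH) (Lpe (K21.f197581 IH) (Lpr_dt (K21.f323503 IH) (Lpn (LP (LK LD1_c11 LD2_c2 LD3_c26)))))))))))))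
theorem f50504 : Led Lsl_dt (LP (LK LD1_c15 LD2_c16 LD3_c0)) = (LP (LK LD1_c25 LD2_c5 LD3_c51)) :=
  Lre_d IH (LK LD1_c15 LD2_c16 LD3_c0) (LK LD1_c25 LD2_c5 LD3_c51) Lrfl Lrfl
theorem f323506 : Led Lsl_dt (LP (LK LD1_c26 LD2_c42 LD3_c16)) = (LP (LK LD1_c16 LD2_c43 LD3_c27)) :=
  Lre_d IH (LK LD1_c26 LD2_c42 LD3_c16) (LK LD1_c16 LD2_c43 LD3_c27) Lrfl Lrfl
theorem f323509 : Led Lsl_gt (LP (LK LD1_c25 LD2_c5 LD3_c51)) = (LP (LK LD1_c26 LD2_c42 LD3_c16)) :=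
  Lgr Lrot49 (Lpe (f50504 IH) (Lpe (K20.f50217 IH) (Lpe (K9.f28084 IH) (Lpr_gt (K14.f28095 IH) (Lpr_dt (K23.f28096 IH) (Lpr_gt (f323507 IH) (Lpe (K23.f323497 IH) (Lpe (K23.f323505 IH) (Lpe (f323506 IH) (Lpn (LP (LK LD1_c26 LD2_c42 LD3_c16))))))))))))
theorem f323521 : Led Lsl_dt (LP (LK LD1_c16 LD2_c43 LD3_c27)) = (LP (LK LD1_c26 LD2_c42 LD3_c16)) :=
  Lre_d IH (LK LD1_c16 LD2_c43 LD3_c27) (LK LD1_c26 LD2_c42 LD3_c16) Lrfl Lrfl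
theorem f323522 : Led Lsl_et (LP (LK LD1_c16 LD2_c43 LD3_c27)) = (LP (LK LD1_c8 LD2_c56 LD3_c4)) :=
  Lre_e IH (LK LD1_c16 LD2_c43 LD3_c27) (LK LD1_c8 LD2_c56 LD3_c4) Lrfl Lrfl
theorem f323523 : Led Lsl_gf (LP (LK LD1_c15 LD2_c33 LD3_c20)) = (LP (LK LD1_c8 LD2_c56 LD3_c4)) :=
  Lgr Lrot141 (Lpe (K23.f234778 IH) (Lpr_dt (K14.f234758 IH) (Lpe (K13.f50499 IH) (Lpe (K9.f50136 IH) (Lpr_et (K9.f50197 IH) (Lpr_gt (K20.f50217 IH) (Lpr_dt (f50504 IH) (Lpr_gt (f323509 IH) (Lpe (f323521 IH) (Lpr_et (f323522 IH) (Lpn (LP (LK LD1_c8 LD2_c56 LD3_c4)))))))))))))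
theorem f352545 : Led Lsl_bf (LP (LK LD1_c5 LD2_c22 LD3_c39)) = (LP (LK LD1_c4 LD2_c28 LD3_c53)) :=
  Lgr Lrot34 (Lpe (f310750 IH) (Lpe (K22.f310929 IH) (Lpr_ct (K19.f310958 IH) (Lpr_gf (f310977 IH) (Lpr_cf (f352540 IH) (Lpe (K24.f214036 IH) (Lpe (K12.f214023 IH) (Lpr_ct (f189674 IH) (Lpr_gf (f323523 IH) (Lpe (K23.f197580 IH) (Lpn (LP (LK LD1_c4 LD2_c28 LD3_c53)))))))))))))
theorem f352553 : Led Lsl_bt (LP (LK LD1_c10 LD2_c35 LD3_c39)) = (LP (LK LD1_c8 LD2_c56 LD3_c5)) :=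
  Lgr Lrot119 (Lpe (K24.f231258 IH) (Lpr_bf (f352545 IH) (Lpe (K21.f197581 IH) (Lpn (LP (LK LD1_c8 LD2_c56 LD3_c5))))))
theorem f352557 : Led Lsl_bf (LP (LK LD1_c18 LD2_c17 LD3_c51)) = (LP (LK LD1_c11 LD2_c2 LD3_c26)) :=
  Lgr Lrot93 (Lpe (K24.f231278 IH) (Lpr_bt (f352553 IH) (Lpr_dt (K21.f323503 IH) (Lpn (LP (LK LD1_c11 LD2_c2 LD3_c26))))))
theorem f352561 : Led Lsl_bt (LP (LK LD1_c10 LD2_c0 LD3_c47)) = (LP (LK LD1_c6 LD2_c5 LD3_c34)) :=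
  Lgr Lrot119 (Lpe (K24.f211376 IH) (Lpr_bf (f352557 IH) (Lpe (K21.f323493 IH) (Lpn (LP (LK LD1_c6 LD2_c5 LD3_c34))))))
theorem f211372 : Led Lsl_ct (LP (LK LD1_c10 LD2_c0 LD3_c47)) = (LP (LK LD1_c18 LD2_c17 LD3_c50)) :=
  Lre_c IH (LK LD1_c10 LD2_c0 LD3_c47) (LK LD1_c18 LD2_c17 LD3_c50) Lrfl Lrfl
theorem f223118 : Led Lsl_ct (LP (LK LD1_c7 LD2_c58 LD3_c24)) = (LP (LK LD1_c15 LD2_c2 LD3_c32)) :=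
  Lre_c IH (LK LD1_c7 LD2_c58 LD3_c24) (LK LD1_c15 LD2_c2 LD3_c32) Lrfl Lrfl
theorem f352570 : Led Lsl_gt (LP (LK LD1_c18 LD2_c17 LD3_c50)) = (LP (LK LD1_c15 LD2_c2 LD3_c32)) :=
  Lgr Lrot65 (Lpe (f211372 IH) (Lpr_bt (f352561 IH) (Lpr_gf (K23.f335602 IH) (Lpe (K21.f231742 IH) (Lpr_ct (K20.f231744 IH) (Lpe (K23.f264788 IH) (Lpe (K23.f347960 IH) (Lpe (K23.f189735 IH) (Lpe (f223112 IH) (Lpr_ct (f223118 IH) (Lpn (LP (LK LD1_c15 LD2_c2 LD3_c32)))))))))))))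
theorem f290757 : Led Lsl_gt (LP (LK LD1_c15 LD2_c19 LD3_c56)) = (LP (LK LD1_c8 LD2_c8 LD3_c38)) :=
  Lre_g IH (LK LD1_c15 LD2_c19 LD3_c56) (LK LD1_c8 LD2_c8 LD3_c38) Lrfl Lrfl
theorem f223115 : Led Lsl_ct (LP (LK LD1_c15 LD2_c2 LD3_c32)) = (LP (LK LD1_c7 LD2_c58 LD3_c24)) :=
  Lre_c IH (LK LD1_c15 LD2_c2 LD3_c32) (LK LD1_c7 LD2_c58 LD3_c24) Lrfl Lrfl
theorem f218914 : Led Lsl_ct (LP (LK LD1_c7 LD2_c58 LD3_c21)) = (LP (LK LD1_c3 LD2_c58 LD3_c29)) :=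
  Lre_c IH (LK LD1_c7 LD2_c58 LD3_c21) (LK LD1_c3 LD2_c58 LD3_c29) Lrfl Lrfl
theorem f218961 : Led Lsl_gt (LP (LK LD1_c15 LD2_c2 LD3_c26)) = (LP (LK LD1_c7 LD2_c58 LD3_c21)) :=
  Lre_g IH (LK LD1_c15 LD2_c2 LD3_c26) (LK LD1_c7 LD2_c58 LD3_c21) Lrfl Lrfl
theorem f352572 : Led Lsl_ct (LP (LK LD1_c8 LD2_c8 LD3_c38)) = (LP (LK LD1_c15 LD2_c2 LD3_c26)) :=
  Lgr Lrot152 (Lpe (f290757 IH) (Lpe (K18.f303568 IH) (Lpr_gt (K23.f340113 IH) (Lpr_ct (f211372 IH) (Lpr_gt (f352570 IH) (Lpr_ct (f223115 IH) (Lpe (f41364 IH) (Lpe (f218914 IH) (Lpe (f218961 IH) (Lpn (LP (LK LD1_c15 LD2_c2 LD3_c26))))))))))))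
theorem f218900 : Led Lsl_ct (LP (LK LD1_c3 LD2_c58 LD3_c29)) = (LP (LK LD1_c7 LD2_c58 LD3_c21)) :=
  Lre_c IH (LK LD1_c3 LD2_c58 LD3_c29) (LK LD1_c7 LD2_c58 LD3_c21) Lrfl Lrfl
theorem f218913 : Led Lsl_bt (LP (LK LD1_c3 LD2_c58 LD3_c29)) = (LP (LK LD1_c7 LD2_c58 LD3_c18)) :=
  Lre_b IH (LK LD1_c3 LD2_c58 LD3_c29) (LK LD1_c7 LD2_c58 LD3_c18) Lrfl Lrfl
theorem f264606 : Led Lsl_bt (LP (LK LD1_c4 LD2_c29 LD3_c55)) = (LP (LK LD1_c2 LD2_c12 LD3_c3)) :=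
  Lre_b IH (LK LD1_c4 LD2_c29 LD3_c55) (LK LD1_c2 LD2_c12 LD3_c3) Lrfl Lrfl
theorem f213257 : Led Lsl_at (LP (LK LD1_c2 LD2_c42 LD3_c26)) = (LP (LK LD1_c5 LD2_c32 LD3_c13)) :=
  Lre_a IH (LK LD1_c2 LD2_c42 LD3_c26) (LK LD1_c5 LD2_c32 LD3_c13) Lrfl Lrfl
theorem f264607 : Led Lsl_bf (LP (LK LD1_c8 LD2_c57 LD3_c47)) = (LP (LK LD1_c5 LD2_c32 LD3_c13)) :=
  Lgr Lrot81 (Lpr_at (K20.f264436 IH) (Lpr_bt (f264606 IH) (Lpr_at (K15.f264594 IH) (Lpr_bt (K23.f263051 IH) (Lpr_at (f213257 IH) (Lpn (LP (LK LD1_c5 LD2_c32 LD3_c13))))))))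
theorem f352582 : Led Lsl_bt (LP (LK LD1_c8 LD2_c8 LD3_c38)) = (LP (LK LD1_c4 LD2_c29 LD3_c54)) :=
  Lgr Lrot92 (Lpr_ct (f352572 IH) (Lpr_gt (f218961 IH) (Lpe (f218900 IH) (Lpr_bt (f218913 IH) (Lpr_gt (K23.f347954 IH) (Lpr_ct (K23.f258853 IH) (Lpr_gt (K23.f213252 IH) (Lpe (K23.f213265 IH) (Lpe (f264607 IH) (Lpr_gt (K21.f271759 IH) (Lpn (LP (LK LD1_c4 LD2_c29 LD3_c54)))))))))))))
theorem f352590 : Led Lsl_ef (LP (LK LD1_c8 LD2_c8 LD3_c38)) = (LP (LK LD1_c11 LD2_c53 LD3_c12)) :=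
  Lgr Lrot29 (Lpr_bt (f352582 IH) (Lpe (K20.f282552 IH) (Lpr_bt (K23.f348505 IH) (Lpn (LP (LK LD1_c11 LD2_c53 LD3_c12))))))
theorem f211349 : Led Lsl_at (LP (LK LD1_c15 LD2_c19 LD3_c56)) = (LP (LK LD1_c8 LD2_c8 LD3_c39)) :=
  Lre_a IH (LK LD1_c15 LD2_c19 LD3_c56) (LK LD1_c8 LD2_c8 LD3_c39) Lrfl Lrfl
theorem f293156 : Led Lsl_ef (LP (LK LD1_c15 LD2_c19 LD3_c56)) = (LP (LK LD1_c8 LD2_c54 LD3_c13)) :=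
  Lgr Lrot20 (Lpr_at (f211349 IH) (Lpr_et (K17.f293154 IH) (Lpe (K17.f293095 IH) (Lpn (LP (LK LD1_c8 LD2_c54 LD3_c13))))))
theorem f293763 : Led Lsl_et (LP (LK LD1_c10 LD2_c3 LD3_c27)) = (LP (LK LD1_c18 LD2_c19 LD3_c29)) :=
  Lgr Lrot74 (Lpe (K18.f293762 IH) (Lpr_ef (K18.f293760 IH) (Lpe (K18.f169888 IH) (Lpn (LP (LK LD1_c18 LD2_c19 LD3_c29))))))
theorem f304097 : Led Lsl_df (LP (LK LD1_c10 LD2_c3 LD3_c27)) = (LP (LK LD1_c8 LD2_c54 LD3_c13)) :=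
  Lgr Lrot70 (Lpr_et (f293763 IH) (Lpr_dt (K18.f294228 IH) (Lpr_et (K18.f304093 IH) (Lpr_dt (K18.f303568 IH) (Lpr_et (K23.f293150 IH) (Lpn (LP (LK LD1_c8 LD2_c54 LD3_c13))))))))
theorem f352063 : Led Lsl_et (LP (LK LD1_c15 LD2_c41 LD3_c51)) = (LP (LK LD1_c18 LD2_c39 LD3_c56)) :=
  Lgr Lrot87 (Lpr_ef (f352057 IH) (Lpn (LP (LK LD1_c18 LD2_c39 LD3_c56))))
theorem f253288 : Led Lsl_et (LP (LK LD1_c15 LD2_c38 LD3_c38)) = (LP (LK LD1_c8 LD2_c19 LD3_c0)) :=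
  Lre_e IH (LK LD1_c15 LD2_c38 LD3_c38) (LK LD1_c8 LD2_c19 LD3_c0) Lrfl Lrfl
theorem f352061 : Led Lsl_dt (LP (LK LD1_c15 LD2_c41 LD3_c51)) = (LP (LK LD1_c15 LD2_c38 LD3_c38)) :=
  Lgr Lrot77 (Lpr_ef (f352057 IH) (Lpe (K18.f271284 IH) (Lpe (K24.f271288 IH) (Lpr_df (K24.f287660 IH) (Lpe (f253288 IH) (Lpn (LP (LK LD1_c15 LD2_c38 LD3_c38))))))))
theorem f348509 : Led Lsl_dt (LP (LK LD1_c11 LD2_c53 LD3_c12)) = (LP (LK LD1_c20 LD2_c56 LD3_c44)) :=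
  Lre_d IH (LK LD1_c11 LD2_c53 LD3_c12) (LK LD1_c20 LD2_c56 LD3_c44) Lrfl Lrfl
theorem f352596 : Led Lsl_gf (LP (LK LD1_c15 LD2_c38 LD3_c38)) = (LP (LK LD1_c20 LD2_c56 LD3_c44)) :=
  Lgr Lrot145 (Lpe (f352061 IH) (Lpr_et (f352063 IH) (Lpr_gt (K18.f271270 IH) (Lpe (K16.f271282 IH) (Lpe (K18.f294226 IH) (Lpr_df (f304097 IH) (Lpe (f293156 IH) (Lpr_gt (f290757 IH) (Lpr_ef (f352590 IH) (Lpr_dt (f348509 IH) (Lpn (LP (LK LD1_c20 LD2_c56 LD3_c44)))))))))))))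
theorem f287662 : Led Lsl_et (LP (LK LD1_c8 LD2_c19 LD3_c0)) = (LP (LK LD1_c15 LD2_c38 LD3_c38)) :=
  Lre_e IH (LK LD1_c8 LD2_c19 LD3_c0) (LK LD1_c15 LD2_c38 LD3_c38) Lrfl Lrfl
theorem f341764 : Led Lsl_bf (LP (LK LD1_c8 LD2_c41 LD3_c42)) = (LP (LK LD1_c15 LD2_c38 LD3_c38)) :=
  Lgr Lrot96 (Lpr_et (K23.f216810 IH) (Lpr_bt (K24.f341758 IH) (Lpr_et (f287662 IH) (Lpn (LP (LK LD1_c15 LD2_c38 LD3_c38))))))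
theorem f341766 : Led Lsl_bt (LP (LK LD1_c8 LD2_c41 LD3_c42)) = (LP (LK LD1_c15 LD2_c38 LD3_c38)) :=
  Lgr Lrot127 (Lpr_bf (f341764 IH) (Lpn (LP (LK LD1_c15 LD2_c38 LD3_c38))))
theorem f352055 : Led Lsl_df (LP (LK LD1_c15 LD2_c41 LD3_c51)) = (LP (LK LD1_c15 LD2_c38 LD3_c38)) :=
  Lgr Lrot12 (Lpr_bt (f352049 IH) (Lpr_dt (K23.f341905 IH) (Lpr_bt (f341766 IH) (Lpn (LP (LK LD1_c15 LD2_c38 LD3_c38))))))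
theorem f298857 : Led Lsl_ct (LP (LK LD1_c19 LD2_c25 LD3_c41)) = (LP (LK LD1_c10 LD2_c44 LD3_c9)) :=
  Lre_c IH (LK LD1_c19 LD2_c25 LD3_c41) (LK LD1_c10 LD2_c44 LD3_c9) Lrfl Lrfl
theorem f290816 : Led Lsl_gt (LP (LK LD1_c24 LD2_c48 LD3_c41)) = (LP (LK LD1_c31 LD2_c39 LD3_c42)) :=
  Lre_g IH (LK LD1_c24 LD2_c48 LD3_c41) (LK LD1_c31 LD2_c39 LD3_c42) Lrfl Lrfl
theorem f301472 : Led Lsl_bt (LP (LK LD1_c19 LD2_c25 LD3_c42)) = (LP (LK LD1_c10 LD2_c44 LD3_c11)) :=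
  Lre_b IH (LK LD1_c19 LD2_c25 LD3_c42) (LK LD1_c10 LD2_c44 LD3_c11) Lrfl Lrfl
theorem f301473 : Led Lsl_df (LP (LK LD1_c19 LD2_c25 LD3_c42)) = (LP (LK LD1_c15 LD2_c35 LD3_c13)) :=
  Lgr Lrot12 (Lpr_bt (f301472 IH) (Lpr_dt (K21.f301470 IH) (Lpr_bt (K24.f234214 IH) (Lpn (LP (LK LD1_c15 LD2_c35 LD3_c13))))))
theorem f301509 : Led Lsl_ct (LP (LK LD1_c28 LD2_c49 LD3_c8)) = (LP (LK LD1_c19 LD2_c25 LD3_c42)) :=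
  Lre_c IH (LK LD1_c28 LD2_c49 LD3_c8) (LK LD1_c19 LD2_c25 LD3_c42) Lrfl Lrfl
theorem f328369 : Led Lsl_dt (LP (LK LD1_c31 LD2_c39 LD3_c42)) = (LP (LK LD1_c28 LD2_c49 LD3_c8)) :=
  Lgr Lrot105 (Lpe (f290816 IH) (Lpe (K23.f246744 IH) (Lpe (K18.f290806 IH) (Lpe (K21.f275844 IH) (Lpr_gt (K16.f274530 IH) (Lpr_dt (K24.f261023 IH) (Lpr_gt (K24.f328365 IH) (Lpe (f301473 IH) (Lpe (f301509 IH) (Lpn (LP (LK LD1_c28 LD2_c49 LD3_c8))))))))))))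
theorem f328371 : Led Lsl_df (LP (LK LD1_c31 LD2_c39 LD3_c42)) = (LP (LK LD1_c28 LD2_c49 LD3_c8)) :=
  Lgr Lrot38 (Lpr_dt (f328369 IH) (Lpn (LP (LK LD1_c28 LD2_c49 LD3_c8))))
theorem f328373 : Led Lsl_et (LP (LK LD1_c28 LD2_c49 LD3_c8)) = (LP (LK LD1_c19 LD2_c25 LD3_c41)) :=
  Lre_e IH (LK LD1_c28 LD2_c49 LD3_c8) (LK LD1_c19 LD2_c25 LD3_c41) Lrfl Lrfl
theorem f328378 : Led Lsl_gf (LP (LK LD1_c15 LD2_c27 LD3_c32)) = (LP (LK LD1_c19 LD2_c25 LD3_c41)) :=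
  Lgr Lrot141 (Lpe (K21.f290817 IH) (Lpr_dt (K15.f187987 IH) (Lpe (K18.f274100 IH) (Lpe (K15.f266664 IH) (Lpr_et (K18.f266665 IH) (Lpr_gt (K18.f290806 IH) (Lpr_dt (K23.f246744 IH) (Lpr_gt (f290816 IH) (Lpr_df (f328371 IH) (Lpr_et (f328373 IH) (Lpn (LP (LK LD1_c19 LD2_c25 LD3_c41)))))))))))))
theorem f187992 : Led Lsl_dt (LP (LK LD1_c15 LD2_c27 LD3_c32)) = (LP (LK LD1_c25 LD2_c19 LD3_c18)) :=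
  Lre_d IH (LK LD1_c15 LD2_c27 LD3_c32) (LK LD1_c25 LD2_c19 LD3_c18) Lrfl Lrfl
theorem f187991 : Led Lsl_et (LP (LK LD1_c15 LD2_c27 LD3_c32)) = (LP (LK LD1_c8 LD2_c13 LD3_c4)) :=
  Lre_e IH (LK LD1_c15 LD2_c27 LD3_c32) (LK LD1_c8 LD2_c13 LD3_c4) Lrfl Lrfl
theorem f290808 : Led Lsl_gt (LP (LK LD1_c25 LD2_c19 LD3_c18)) = (LP (LK LD1_c25 LD2_c37 LD3_c27)) :=
  Lgr Lrot112 (Lpe (f187992 IH) (Lpr_et (f187991 IH) (Lpe (K10.f187979 IH) (Lpe (K11.f54380 IH) (Lpr_dt (K16.f48084 IH) (Lpr_gf (K17.f290798 IH) (Lpe (K18.f218122 IH) (Lpe (K18.f290800 IH) (Lpe (K23.f284615 IH) (Lpr_dt (K23.f284616 IH) (Lpn (LP (LK LD1_c25 LD2_c37 LD3_c27)))))))))))))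
theorem f331282 : Led Lsl_dt (LP (LK LD1_c8 LD2_c17 LD3_c56)) = (LP (LK LD1_c8 LD2_c20 LD3_c24)) :=
  Lgr Lrot105 (Lpr_gf (K21.f331280 IH) (Lpr_df (K21.f283239 IH) (Lpr_gf (K22.f328356 IH) (Lpe (f298857 IH) (Lpe (f328378 IH) (Lpr_dt (f187992 IH) (Lpr_gt (f290808 IH) (Lpr_dt (K23.f284624 IH) (Lpe (K23.f290810 IH) (Lpn (LP (LK LD1_c8 LD2_c20 LD3_c24))))))))))))
theorem f324670 : Led Lsl_gf (LP (LK LD1_c4 LD2_c17 LD3_c17)) = (LP (LK LD1_c4 LD2_c8 LD3_c53)) :=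
  Lgr Lrot104 (Lpe (K15.f166491 IH) (Lpe (K15.f166513 IH) (Lpe (K15.f267499 IH) (Lpr_gf (K17.f278814 IH) (Lpr_cf (K17.f292362 IH) (Lpe (K17.f292357 IH) (Lpe (K16.f267199 IH) (Lpr_gt (K21.f324664 IH) (Lpr_ct (K21.f219708 IH) (Lpn (LP (LK LD1_c4 LD2_c8 LD3_c53))))))))))))
theorem f250993 : Led Lsl_gt (LP (LK LD1_c5 LD2_c21 LD3_c45)) = (LP (LK LD1_c10 LD2_c33 LD3_c42)) :=
  Lre_g IH (LK LD1_c5 LD2_c21 LD3_c45) (LK LD1_c10 LD2_c33 LD3_c42) Lrfl Lrfl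
theorem f262647 : Led Lsl_dt (LP (LK LD1_c19 LD2_c7 LD3_c43)) = (LP (LK LD1_c10 LD2_c33 LD3_c42)) :=
  Lre_d IH (LK LD1_c19 LD2_c7 LD3_c43) (LK LD1_c10 LD2_c33 LD3_c42) Lrfl Lrfl
theorem f352598 : Led Lsl_et (LP (LK LD1_c19 LD2_c7 LD3_c43)) = (LP (LK LD1_c20 LD2_c56 LD3_c44)) :=
  Lgr Lrot121 (Lpr_dt (f262647 IH) (Lpe (f250993 IH) (Lpr_df (K16.f250987 IH) (Lpr_et (K16.f276715 IH) (Lpr_gf (f324670 IH) (Lpe (K21.f219691 IH) (Lpr_dt (f331282 IH) (Lpe (f331298 IH) (Lpr_df (f352055 IH) (Lpr_gf (f352596 IH) (Lpn (LP (LK LD1_c20 LD2_c56 LD3_c44)))))))))))))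
theorem f352603 : Led Lsl_ef (LP (LK LD1_c19 LD2_c7 LD3_c43)) = (LP (LK LD1_c20 LD2_c56 LD3_c44)) :=
  Lgr Lrot88 (Lpr_et (f352598 IH) (Lpn (LP (LK LD1_c20 LD2_c56 LD3_c44))))
theorem f311396 : Led Lsl_dt (LP (LK LD1_c20 LD2_c56 LD3_c44)) = (LP (LK LD1_c11 LD2_c53 LD3_c12)) :=
  Lre_d IH (LK LD1_c20 LD2_c56 LD3_c44) (LK LD1_c11 LD2_c53 LD3_c12) Lrfl Lrfl
theorem f294177 : Led Lsl_et (LP (LK LD1_c8 LD2_c31 LD3_c33)) = (LP (LK LD1_c16 LD2_c0 LD3_c15)) :=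
  Lre_e IH (LK LD1_c8 LD2_c31 LD3_c33) (LK LD1_c16 LD2_c0 LD3_c15) Lrfl Lrfl
theorem f352608 : Led Lsl_gt (LP (LK LD1_c19 LD2_c7 LD3_c43)) = (LP (LK LD1_c16 LD2_c0 LD3_c15)) :=
  Lgr Lrot131 (Lpr_ef (f352603 IH) (Lpr_dt (f311396 IH) (Lpe (K23.f311395 IH) (Lpe (K22.f311383 IH) (Lpe (K19.f219695 IH) (Lpe (K19.f219688 IH) (Lpr_dt (K19.f187145 IH) (Lpr_gf (K19.f311405 IH) (Lpr_df (K19.f294175 IH) (Lpr_et (f294177 IH) (Lpn (LP (LK LD1_c16 LD2_c0 LD3_c15)))))))))))))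
theorem f284472 : Led Lsl_dt (LP (LK LD1_c10 LD2_c33 LD3_c42)) = (LP (LK LD1_c19 LD2_c7 LD3_c43)) :=
  Lre_d IH (LK LD1_c10 LD2_c33 LD3_c42) (LK LD1_c19 LD2_c7 LD3_c43) Lrfl Lrfl
theorem f352592 : Led Lsl_et (LP (LK LD1_c8 LD2_c8 LD3_c38)) = (LP (LK LD1_c11 LD2_c53 LD3_c12)) :=
  Lgr Lrot87 (Lpr_ef (f352590 IH) (Lpn (LP (LK LD1_c11 LD2_c53 LD3_c12))))
theorem f282543 : Led Lsl_bt (LP (LK LD1_c2 LD2_c42 LD3_c25)) = (LP (LK LD1_c5 LD2_c32 LD3_c31)) :=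
  Lre_b IH (LK LD1_c2 LD2_c42 LD3_c25) (LK LD1_c5 LD2_c32 LD3_c31) Lrfl Lrfl
theorem f352588 : Led Lsl_df (LP (LK LD1_c8 LD2_c8 LD3_c38)) = (LP (LK LD1_c5 LD2_c32 LD3_c31)) :=
  Lgr Lrot12 (Lpr_bt (f352582 IH) (Lpe (K20.f282502 IH) (Lpr_bt (f282543 IH) (Lpn (LP (LK LD1_c5 LD2_c32 LD3_c31))))))
theorem f352606 : Led Lsl_et (LP (LK LD1_c10 LD2_c33 LD3_c42)) = (LP (LK LD1_c5 LD2_c32 LD3_c31)) :=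
  Lgr Lrot71 (Lpe (f262647 IH) (Lpr_ef (f352603 IH) (Lpe (f348509 IH) (Lpe (f352592 IH) (Lpr_df (f352588 IH) (Lpn (LP (LK LD1_c5 LD2_c32 LD3_c31))))))))
theorem f254524 : Led Lsl_et (LP (LK LD1_c16 LD2_c0 LD3_c15)) = (LP (LK LD1_c8 LD2_c31 LD3_c33)) :=
  Lre_e IH (LK LD1_c16 LD2_c0 LD3_c15) (LK LD1_c8 LD2_c31 LD3_c33) Lrfl Lrfl
theorem f352080 : Led Lsl_df (LP (LK LD1_c16 LD2_c0 LD3_c15)) = (LP (LK LD1_c10 LD2_c35 LD3_c25)) :=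
  Lgr Lrot70 (Lpr_et (f254524 IH) (Lpe (K19.f294175 IH) (Lpr_et (f291275 IH) (Lpe (f291271 IH) (Lpr_et (f352076 IH) (Lpn (LP (LK LD1_c10 LD2_c35 LD3_c25))))))))
theorem f352082 : Led Lsl_ef (LP (LK LD1_c18 LD2_c17 LD3_c41)) = (LP (LK LD1_c10 LD2_c35 LD3_c25)) :=
  Lgr Lrot88 (Lpr_et (f352076 IH) (Lpn (LP (LK LD1_c10 LD2_c35 LD3_c25))))
theorem f318323 : Led Lsl_bt (LP (LK LD1_c2 LD2_c38 LD3_c47)) = (LP (LK LD1_c5 LD2_c24 LD3_c6)) :=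
  Lre_b IH (LK LD1_c2 LD2_c38 LD3_c47) (LK LD1_c5 LD2_c24 LD3_c6) Lrfl Lrfl
theorem f318324 : Led Lsl_ef (LP (LK LD1_c10 LD2_c31 LD3_c43)) = (LP (LK LD1_c5 LD2_c24 LD3_c6)) :=
  Lgr Lrot29 (Lpr_bt (K23.f42224 IH) (Lpr_et (K20.f318319 IH) (Lpr_bt (f318323 IH) (Lpn (LP (LK LD1_c5 LD2_c24 LD3_c6))))))
theorem f352612 : Led Lsl_gf (LP (LK LD1_c5 LD2_c32 LD3_c31)) = (LP (LK LD1_c10 LD2_c31 LD3_c43)) :=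
  Lgr Lrot141 (Lpe (f352606 IH) (Lpr_dt (f284472 IH) (Lpr_gt (f352608 IH) (Lpr_df (f352080 IH) (Lpe (f352082 IH) (Lpr_gt (f291266 IH) (Lpr_dt (K22.f290866 IH) (Lpe (K23.f331496 IH) (Lpr_df (K21.f330474 IH) (Lpe (f318324 IH) (Lpn (LP (LK LD1_c10 LD2_c31 LD3_c43)))))))))))))
theorem f282507 : Led Lsl_ct (LP (LK LD1_c5 LD2_c32 LD3_c25)) = (LP (LK LD1_c10 LD2_c56 LD3_c34)) :=
  Lre_c IH (LK LD1_c5 LD2_c32 LD3_c25) (LK LD1_c10 LD2_c56 LD3_c34) Lrfl Lrfl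
theorem f347872 : Led Lsl_cf (LP (LK LD1_c9 LD2_c42 LD3_c27)) = (LP (LK LD1_c8 LD2_c57 LD3_c54)) :=
  Lgr Lrot99 (Lpr_df (K23.f347864 IH) (Lpe (f282507 IH) (Lpe (K23.f266353 IH) (Lpe (K15.f258836 IH) (Lpe (K20.f264715 IH) (Lpr_df (K20.f282502 IH) (Lpr_gt (K20.f264465 IH) (Lpr_ct (K20.f257366 IH) (Lpr_gt (K20.f271754 IH) (Lpn (LP (LK LD1_c8 LD2_c57 LD3_c54))))))))))))
theorem f347874 : Led Lsl_ct (LP (LK LD1_c9 LD2_c42 LD3_c27)) = (LP (LK LD1_c8 LD2_c57 LD3_c54)) :=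
  Lgr Lrot59 (Lpr_cf (f347872 IH) (Lpn (LP (LK LD1_c8 LD2_c57 LD3_c54))))
theorem f341045 : Led Lsl_gt (LP (LK LD1_c9 LD2_c42 LD3_c37)) = (LP (LK LD1_c4 LD2_c55 LD3_c29)) :=
  Lre_g IH (LK LD1_c9 LD2_c42 LD3_c37) (LK LD1_c4 LD2_c55 LD3_c29) Lrfl Lrfl
theorem f271755 : Led Lsl_gt (LP (LK LD1_c8 LD2_c57 LD3_c54)) = (LP (LK LD1_c15 LD2_c52 LD3_c3)) :=
  Lgr Lrot46 (Lpe (K20.f271754 IH) (Lpr_ft (K16.f271737 IH) (Lpr_at (K16.f271738 IH) (Lpn (LP (LK LD1_c15 LD2_c52 LD3_c3))))))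
theorem f317939 : Led Lsl_bf (LP (LK LD1_c5 LD2_c32 LD3_c13)) = (LP (LK LD1_c8 LD2_c57 LD3_c47)) :=
  Lgr Lrot93 (Lpr_dt (K20.f258843 IH) (Lpr_bt (K21.f231742 IH) (Lpr_dt (K21.f317937 IH) (Lpn (LP (LK LD1_c8 LD2_c57 LD3_c47))))))
theorem f282497 : Led Lsl_bt (LP (LK LD1_c5 LD2_c32 LD3_c31)) = (LP (LK LD1_c2 LD2_c42 LD3_c25)) :=
  Lre_b IH (LK LD1_c5 LD2_c32 LD3_c31) (LK LD1_c2 LD2_c42 LD3_c25) Lrfl Lrfl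
theorem f347882 : Led Lsl_cf (LP (LK LD1_c9 LD2_c42 LD3_c37)) = (LP (LK LD1_c5 LD2_c32 LD3_c31)) :=
  Lgr Lrot160 (Lpr_gt (f341045 IH) (Lpe (f291774 IH) (Lpr_bt (K15.f217501 IH) (Lpr_gt (K23.f217517 IH) (Lpr_ct (f347874 IH) (Lpr_gt (f271755 IH) (Lpr_cf (K23.f282548 IH) (Lpe (f317939 IH) (Lpr_gt (K20.f213272 IH) (Lpe (f282497 IH) (Lpn (LP (LK LD1_c5 LD2_c32 LD3_c31)))))))))))))
theorem f291777 : Led Lsl_ct (LP (LK LD1_c4 LD2_c55 LD3_c29)) = (LP (LK LD1_c2 LD2_c25 LD3_c37)) :=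
  Lre_c IH (LK LD1_c4 LD2_c55 LD3_c29) (LK LD1_c2 LD2_c25 LD3_c37) Lrfl Lrfl
theorem f217542 : Led Lsl_dt (LP (LK LD1_c2 LD2_c25 LD3_c37)) = (LP (LK LD1_c4 LD2_c55 LD3_c32)) :=
  Lre_d IH (LK LD1_c2 LD2_c25 LD3_c37) (LK LD1_c4 LD2_c55 LD3_c32) Lrfl Lrfl
theorem f217538 : Led Lsl_ct (LP (LK LD1_c9 LD2_c42 LD3_c44)) = (LP (LK LD1_c4 LD2_c55 LD3_c32)) :=
  Lre_c IH (LK LD1_c9 LD2_c42 LD3_c44) (LK LD1_c4 LD2_c55 LD3_c32) Lrfl Lrfl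
theorem f217549 : Led Lsl_gt (LP (LK LD1_c17 LD2_c51 LD3_c37)) = (LP (LK LD1_c9 LD2_c42 LD3_c44)) :=
  Lre_g IH (LK LD1_c17 LD2_c51 LD3_c37) (LK LD1_c9 LD2_c42 LD3_c44) Lrfl Lrfl
theorem f231746 : Led Lsl_ct (LP (LK LD1_c8 LD2_c15 LD3_c16)) = (LP (LK LD1_c15 LD2_c31 LD3_c15)) :=
  Lre_c IH (LK LD1_c8 LD2_c15 LD3_c16) (LK LD1_c15 LD2_c31 LD3_c15) Lrfl Lrfl
theorem f347880 : Led Lsl_ct (LP (LK LD1_c10 LD2_c24 LD3_c6)) = (LP (LK LD1_c11 LD2_c54 LD3_c39)) :=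
  Lgr Lrot152 (Lpe (K23.f54045 IH) (Lpe (K15.f217499 IH) (Lpr_gt (K23.f217517 IH) (Lpr_ct (f347874 IH) (Lpr_gt (f271755 IH) (Lpe (K23.f271750 IH) (Lpe (K21.f317937 IH) (Lpe (K17.f231745 IH) (Lpe (K23.f282417 IH) (Lpn (LP (LK LD1_c11 LD2_c54 LD3_c39))))))))))))
theorem f217547 : Led Lsl_ct (LP (LK LD1_c4 LD2_c55 LD3_c32)) = (LP (LK LD1_c9 LD2_c42 LD3_c44)) :=
  Lre_c IH (LK LD1_c4 LD2_c55 LD3_c32) (LK LD1_c9 LD2_c42 LD3_c44) Lrfl Lrfl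
theorem f264711 : Led Lsl_bt (LP (LK LD1_c10 LD2_c43 LD3_c10)) = (LP (LK LD1_c5 LD2_c25 LD3_c59)) :=
  Lre_b IH (LK LD1_c10 LD2_c43 LD3_c10) (LK LD1_c5 LD2_c25 LD3_c59) Lrfl Lrfl
theorem f348013 : Led Lsl_cf (LP (LK LD1_c17 LD2_c51 LD3_c37)) = (LP (LK LD1_c10 LD2_c43 LD3_c10)) :=
  Lgr Lrot160 (Lpr_gt (f217549 IH) (Lpe (f217547 IH) (Lpr_bt (K15.f217536 IH) (Lpr_gt (K23.f54045 IH) (Lpr_ct (f347880 IH) (Lpr_gt (K23.f282417 IH) (Lpe (f231746 IH) (Lpe (K21.f231735 IH) (Lpr_gt (K23.f347992 IH) (Lpe (f264711 IH) (Lpn (LP (LK LD1_c10 LD2_c43 LD3_c10)))))))))))))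
theorem f352616 : Led Lsl_gf (LP (LK LD1_c10 LD2_c43 LD3_c10)) = (LP (LK LD1_c11 LD2_c52 LD3_c43)) :=
  Lgr Lrot147 (Lpe (f348013 IH) (Lpr_gt (f217549 IH) (Lpr_ct (f217538 IH) (Lpe (f217542 IH) (Lpe (f291777 IH) (Lpe (f341045 IH) (Lpr_cf (f347882 IH) (Lpr_gf (f352612 IH) (Lpr_df (K23.f42226 IH) (Lpn (LP (LK LD1_c11 LD2_c52 LD3_c43))))))))))))
theorem f42234 : Led Lsl_ft (LP (LK LD1_c11 LD2_c52 LD3_c43)) = (LP (LK LD1_c6 LD2_c4 LD3_c35)) :=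
  Lre_f IH (LK LD1_c11 LD2_c52 LD3_c43) (LK LD1_c6 LD2_c4 LD3_c35) Lrfl Lrfl
theorem f253011 : Led Lsl_bt (LP (LK LD1_c6 LD2_c4 LD3_c37)) = (LP (LK LD1_c8 LD2_c2 LD3_c47)) :=
  Lgr Lrot127 (Lpr_bf (K21.f253009 IH) (Lpn (LP (LK LD1_c8 LD2_c2 LD3_c47))))
theorem f194467 : Led Lsl_bt (LP (LK LD1_c1 LD2_c16 LD3_c19)) = (LP (LK LD1_c2 LD2_c38 LD3_c50)) :=
  Lre_b IH (LK LD1_c1 LD2_c16 LD3_c19) (LK LD1_c2 LD2_c38 LD3_c50) Lrfl Lrfl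
theorem f194468 : Led Lsl_bf (LP (LK LD1_c2 LD2_c38 LD3_c57)) = (LP (LK LD1_c4 LD2_c2 LD3_c60)) :=
  Lgr Lrot93 (Lpr_dt (K21.f42552 IH) (Lpr_bt (f194467 IH) (Lpr_dt (K19.f194434 IH) (Lpn (LP (LK LD1_c4 LD2_c2 LD3_c60))))))
theorem f318189 : Led Lsl_af (LP (LK LD1_c2 LD2_c58 LD3_c32)) = (LP (LK LD1_c2 LD2_c38 LD3_c57)) :=
  Lgr Lrot0 (Lpr_at (K20.f318187 IH) (Lpn (LP (LK LD1_c2 LD2_c38 LD3_c57))))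
theorem f42182 : Led Lsl_bt (LP (LK LD1_c2 LD2_c58 LD3_c32)) = (LP (LK LD1_c6 LD2_c4 LD3_c35)) :=
  Lre_b IH (LK LD1_c2 LD2_c58 LD3_c32) (LK LD1_c6 LD2_c4 LD3_c35) Lrfl Lrfl
theorem f338571 : Led Lsl_af (LP (LK LD1_c6 LD2_c4 LD3_c37)) = (LP (LK LD1_c6 LD2_c4 LD3_c35)) :=
  Lgr Lrot36 (Lpr_bt (f253011 IH) (Lpr_at (K22.f338392 IH) (Lpe (f194468 IH) (Lpe (f318189 IH) (Lpr_bt (f42182 IH) (Lpn (LP (LK LD1_c6 LD2_c4 LD3_c35))))))))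
theorem f352724 : Led Lsl_gt (LP (LK LD1_c10 LD2_c43 LD3_c10)) = (LP (LK LD1_c6 LD2_c4 LD3_c37)) :=
  Lgr Lrot46 (Lpr_gf (f352616 IH) (Lpr_ft (f42234 IH) (Lpe (f338571 IH) (Lpn (LP (LK LD1_c6 LD2_c4 LD3_c37))))))
theorem f188012 : Led Lsl_et (LP (LK LD1_c2 LD2_c37 LD3_c19)) = (LP (LK LD1_c5 LD2_c21 LD3_c27)) :=
  Lre_e IH (LK LD1_c2 LD2_c37 LD3_c19) (LK LD1_c5 LD2_c21 LD3_c27) Lrfl Lrfl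
theorem f188024 : Led Lsl_gt (LP (LK LD1_c5 LD2_c21 LD3_c27)) = (LP (LK LD1_c10 LD2_c33 LD3_c10)) :=
  Lre_g IH (LK LD1_c5 LD2_c21 LD3_c27) (LK LD1_c10 LD2_c33 LD3_c10) Lrfl Lrfl
theorem f352728 : Led Lsl_df (LP (LK LD1_c10 LD2_c43 LD3_c10)) = (LP (LK LD1_c10 LD2_c33 LD3_c10)) :=
  Lgr Lrot135 (Lpr_gt (f352724 IH) (Lpr_df (K19.f196777 IH) (Lpr_et (K19.f30875 IH) (Lpr_gt (K12.f30874 IH) (Lpr_ef (K9.f30860 IH) (Lpr_dt (K14.f30873 IH) (Lpr_gt (K10.f188008 IH) (Lpe (K16.f187540 IH) (Lpr_et (f188012 IH) (Lpr_gt (f188024 IH) (Lpn (LP (LK LD1_c10 LD2_c33 LD3_c10)))))))))))))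
theorem f352739 : Led Lsl_dt (LP (LK LD1_c10 LD2_c43 LD3_c10)) = (LP (LK LD1_c10 LD2_c33 LD3_c10)) :=
  Lgr Lrot42 (Lpr_df (f352728 IH) (Lpn (LP (LK LD1_c10 LD2_c33 LD3_c10))))
theorem f352726 : Led Lsl_bt (LP (LK LD1_c5 LD2_c25 LD3_c59)) = (LP (LK LD1_c10 LD2_c43 LD3_c10)) :=
  Lre_b IH (LK LD1_c5 LD2_c25 LD3_c59) (LK LD1_c10 LD2_c43 LD3_c10) Lrfl Lrfl
theorem f352742 : Led Lsl_bf (LP (LK LD1_c8 LD2_c15 LD3_c14)) = (LP (LK LD1_c10 LD2_c33 LD3_c10)) :=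
  Lgr Lrot93 (Lpr_dt (K23.f347982 IH) (Lpr_bt (f352726 IH) (Lpr_dt (f352739 IH) (Lpn (LP (LK LD1_c10 LD2_c33 LD3_c10))))))
theorem f182158 : Led Lsl_gt (LP (LK LD1_c2 LD2_c37 LD3_c42)) = (LP (LK LD1_c5 LD2_c22 LD3_c22)) :=
  Lre_g IH (LK LD1_c2 LD2_c37 LD3_c42) (LK LD1_c5 LD2_c22 LD3_c22) Lrfl Lrfl
theorem f352730 : Led Lsl_et (LP (LK LD1_c10 LD2_c33 LD3_c10)) = (LP (LK LD1_c5 LD2_c22 LD3_c22)) :=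
  Lgr Lrot122 (Lpe (f352728 IH) (Lpr_gt (f352724 IH) (Lpr_df (K19.f196777 IH) (Lpr_et (K19.f30875 IH) (Lpr_gt (K12.f30874 IH) (Lpr_dt (K9.f30858 IH) (Lpe (K9.f182167 IH) (Lpe (K12.f171885 IH) (Lpr_et (K19.f182179 IH) (Lpr_gt (f182158 IH) (Lpn (LP (LK LD1_c5 LD2_c22 LD3_c22)))))))))))))
theorem f352732 : Led Lsl_ef (LP (LK LD1_c10 LD2_c33 LD3_c10)) = (LP (LK LD1_c5 LD2_c22 LD3_c22)) :=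
  Lgr Lrot88 (Lpr_et (f352730 IH) (Lpn (LP (LK LD1_c5 LD2_c22 LD3_c22))))
theorem f352746 : Led Lsl_bt (LP (LK LD1_c5 LD2_c28 LD3_c9)) = (LP (LK LD1_c5 LD2_c22 LD3_c22)) :=
  Lgr Lrot119 (Lpr_ef (K23.f283074 IH) (Lpr_bf (f352742 IH) (Lpr_ef (f352732 IH) (Lpn (LP (LK LD1_c5 LD2_c22 LD3_c22))))))
theorem f347980 : Led Lsl_bt (LP (LK LD1_c5 LD2_c28 LD3_c7)) = (LP (LK LD1_c2 LD2_c40 LD3_c22)) :=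
  Lre_b IH (LK LD1_c5 LD2_c28 LD3_c7) (LK LD1_c2 LD2_c40 LD3_c22) Lrfl Lrfl
theorem f352750 : Led Lsl_df (LP (LK LD1_c5 LD2_c28 LD3_c7)) = (LP (LK LD1_c5 LD2_c22 LD3_c22)) :=
  Lgr Lrot12 (Lpr_bt (f347980 IH) (Lpr_dt (K23.f244891 IH) (Lpr_bt (f352746 IH) (Lpn (LP (LK LD1_c5 LD2_c22 LD3_c22))))))
theorem f352765 : Led Lsl_gt (LP (LK LD1_c5 LD2_c28 LD3_c7)) = (LP (LK LD1_c4 LD2_c10 LD3_c7)) :=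
  Lgr Lrot139 (Lpr_df (f352750 IH) (Lpe (f182158 IH) (Lpe (K19.f182179 IH) (Lpr_dt (K12.f171885 IH) (Lpr_gf (K9.f182167 IH) (Lpe (K9.f30858 IH) (Lpr_et (K9.f30870 IH) (Lpr_gf (K11.f188004 IH) (Lpe (K10.f187971 IH) (Lpr_dt (f170720 IH) (Lpn (LP (LK LD1_c4 LD2_c10 LD3_c7)))))))))))))
theorem f231358 : Led Lsl_ft (LP (LK LD1_c8 LD2_c53 LD3_c20)) = (LP (LK LD1_c4 LD2_c27 LD3_c43)) :=
  Lre_f IH (LK LD1_c8 LD2_c53 LD3_c20) (LK LD1_c4 LD2_c27 LD3_c43) Lrfl Lrfl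
theorem f352767 : Led Lsl_gf (LP (LK LD1_c5 LD2_c28 LD3_c7)) = (LP (LK LD1_c8 LD2_c53 LD3_c20)) :=
  Lgr Lrot47 (Lpr_gt (f352765 IH) (Lpe (K17.f276344 IH) (Lpe (f231358 IH) (Lpn (LP (LK LD1_c8 LD2_c53 LD3_c20))))))
theorem f352773 : Led Lsl_et (LP (LK LD1_c10 LD2_c47 LD3_c31)) = (LP (LK LD1_c5 LD2_c28 LD3_c7)) :=
  Lre_e IH (LK LD1_c10 LD2_c47 LD3_c31) (LK LD1_c5 LD2_c28 LD3_c7) Lrfl Lrfl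
theorem f352756 : Led Lsl_et (LP (LK LD1_c5 LD2_c28 LD3_c7)) = (LP (LK LD1_c10 LD2_c47 LD3_c31)) :=
  Lre_e IH (LK LD1_c5 LD2_c28 LD3_c7) (LK LD1_c10 LD2_c47 LD3_c31) Lrfl Lrfl
theorem f352727 : Led Lsl_et (LP (LK LD1_c19 LD2_c24 LD3_c11)) = (LP (LK LD1_c10 LD2_c43 LD3_c10)) :=
  Lre_e IH (LK LD1_c19 LD2_c24 LD3_c11) (LK LD1_c10 LD2_c43 LD3_c10) Lrfl Lrfl
theorem f352757 : Led Lsl_dt (LP (LK LD1_c10 LD2_c47 LD3_c31)) = (LP (LK LD1_c19 LD2_c24 LD3_c11)) :=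
  Lgr Lrot77 (Lpe (f352756 IH) (Lpr_df (f352750 IH) (Lpe (f352730 IH) (Lpe (f352739 IH) (Lpe (f352727 IH) (Lpn (LP (LK LD1_c19 LD2_c24 LD3_c11))))))))
theorem f352736 : Led Lsl_et (LP (LK LD1_c10 LD2_c43 LD3_c10)) = (LP (LK LD1_c19 LD2_c24 LD3_c11)) :=
  Lre_e IH (LK LD1_c10 LD2_c43 LD3_c10) (LK LD1_c19 LD2_c24 LD3_c11) Lrfl Lrfl
theorem f300762 : Led Lsl_df (LP (LK LD1_c5 LD2_c21 LD3_c27)) = (LP (LK LD1_c8 LD2_c8 LD3_c33)) :=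
  Lgr Lrot70 (Lpr_et (K18.f265785 IH) (Lpr_dt (K16.f187540 IH) (Lpr_et (K16.f187547 IH) (Lpr_dt (K18.f300756 IH) (Lpr_et (K17.f290763 IH) (Lpn (LP (LK LD1_c8 LD2_c8 LD3_c33))))))))
theorem f300777 : Led Lsl_et (LP (LK LD1_c8 LD2_c8 LD3_c33)) = (LP (LK LD1_c4 LD2_c3 LD3_c61)) :=
  Lre_e IH (LK LD1_c8 LD2_c8 LD3_c33) (LK LD1_c4 LD2_c3 LD3_c61) Lrfl Lrfl
theorem f352744 : Led Lsl_gt (LP (LK LD1_c19 LD2_c24 LD3_c11)) = (LP (LK LD1_c15 LD2_c22 LD3_c4)) :=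
  Lgr Lrot137 (Lpe (f352736 IH) (Lpr_dt (f352739 IH) (Lpe (f188024 IH) (Lpr_df (f300762 IH) (Lpr_et (f300777 IH) (Lpe (K18.f300771 IH) (Lpe (K16.f212817 IH) (Lpr_dt (K20.f212818 IH) (Lpr_gf (K22.f329875 IH) (Lpe (K22.f211463 IH) (Lpn (LP (LK LD1_c15 LD2_c22 LD3_c4)))))))))))))
theorem f211465 : Led Lsl_et (LP (LK LD1_c8 LD2_c9 LD3_c31)) = (LP (LK LD1_c15 LD2_c22 LD3_c5)) :=
  Lre_e IH (LK LD1_c8 LD2_c9 LD3_c31) (LK LD1_c15 LD2_c22 LD3_c5) Lrfl Lrfl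
theorem f284187 : Led Lsl_ef (LP (LK LD1_c8 LD2_c53 LD3_c20)) = (LP (LK LD1_c15 LD2_c18 LD3_c29)) :=
  Lgr Lrot29 (Lpr_bt (K13.f231359 IH) (Lpr_et (K17.f284170 IH) (Lpe (K20.f261032 IH) (Lpn (LP (LK LD1_c15 LD2_c18 LD3_c29))))))
theorem f352783 : Led Lsl_gt (LP (LK LD1_c15 LD2_c22 LD3_c5)) = (LP (LK LD1_c20 LD2_c56 LD3_c46)) :=
  Lgr Lrot137 (Lpe (f211465 IH) (Lpr_dt (K22.f211461 IH) (Lpe (f352744 IH) (Lpe (f352757 IH) (Lpr_et (f352773 IH) (Lpr_gf (f352767 IH) (Lpr_ef (f284187 IH) (Lpr_dt (K15.f261026 IH) (Lpe (K23.f328811 IH) (Lpe (K21.f274490 IH) (Lpn (LP (LK LD1_c20 LD2_c56 LD3_c46)))))))))))))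
theorem f352787 : Led Lsl_gt (LP (LK LD1_c19 LD2_c31 LD3_c12)) = (LP (LK LD1_c10 LD2_c47 LD3_c31)) :=
  Lre_g IH (LK LD1_c19 LD2_c31 LD3_c12) (LK LD1_c10 LD2_c47 LD3_c31) Lrfl Lrfl
theorem f332992 : Led Lsl_df (LP (LK LD1_c15 LD2_c9 LD3_c48)) = (LP (LK LD1_c14 LD2_c57 LD3_c6)) :=
  Lgr Lrot38 (Lpr_dt (K24.f332990 IH) (Lpn (LP (LK LD1_c14 LD2_c57 LD3_c6))))
theorem f323887 : Led Lsl_et (LP (LK LD1_c14 LD2_c57 LD3_c6)) = (LP (LK LD1_c24 LD2_c44 LD3_c38)) :=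
  Lre_e IH (LK LD1_c14 LD2_c57 LD3_c6) (LK LD1_c24 LD2_c44 LD3_c38) Lrfl Lrfl
theorem f333002 : Led Lsl_gt (LP (LK LD1_c24 LD2_c44 LD3_c38)) = (LP (LK LD1_c24 LD2_c45 LD3_c43)) :=
  Lgr Lrot137 (Lpe (f323887 IH) (Lpe (f332992 IH) (Lpr_gf (K24.f332998 IH) (Lpe (K14.f232086 IH) (Lpr_et (K14.f232093 IH) (Lpr_gf (K14.f250501 IH) (Lpe (K17.f219740 IH) (Lpe (K22.f219759 IH) (Lpr_gf (K22.f328780 IH) (Lpe (K23.f328783 IH) (Lpn (LP (LK LD1_c24 LD2_c45 LD3_c43)))))))))))))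
theorem f323885 : Led Lsl_dt (LP (LK LD1_c16 LD2_c13 LD3_c42)) = (LP (LK LD1_c24 LD2_c44 LD3_c38)) :=
  Lgr Lrot42 (Lpr_df (K24.f323881 IH) (Lpn (LP (LK LD1_c24 LD2_c44 LD3_c38))))
theorem f234237 : Led Lsl_dt (LP (LK LD1_c8 LD2_c20 LD3_c8)) = (LP (LK LD1_c15 LD2_c41 LD3_c20)) :=
  Lre_d IH (LK LD1_c8 LD2_c20 LD3_c8) (LK LD1_c15 LD2_c41 LD3_c20) Lrfl Lrfl
theorem f328391 : Led Lsl_gf (LP (LK LD1_c16 LD2_c13 LD3_c42)) = (LP (LK LD1_c15 LD2_c41 LD3_c20)) :=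
  Lgr Lrot134 (Lpr_df (K24.f323881 IH) (Lpr_et (K24.f229915 IH) (Lpr_gt (K24.f229669 IH) (Lpe (K15.f229644 IH) (Lpr_dt (K13.f229643 IH) (Lpr_gt (K13.f232856 IH) (Lpe (K17.f191835 IH) (Lpr_et (K17.f232860 IH) (Lpr_gt (K22.f328363 IH) (Lpr_dt (f234237 IH) (Lpn (LP (LK LD1_c15 LD2_c41 LD3_c20)))))))))))))
theorem f184430 : Led Lsl_ct (LP (LK LD1_c16 LD2_c3 LD3_c39)) = (LP (LK LD1_c8 LD2_c33 LD3_c20)) :=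
  Lre_c IH (LK LD1_c16 LD2_c3 LD3_c39) (LK LD1_c8 LD2_c33 LD3_c20) Lrfl Lrfl
theorem f169417 : Led Lsl_ct (LP (LK LD1_c8 LD2_c33 LD3_c19)) = (LP (LK LD1_c4 LD2_c16 LD3_c57)) :=
  Lre_c IH (LK LD1_c8 LD2_c33 LD3_c19) (LK LD1_c4 LD2_c16 LD3_c57) Lrfl Lrfl
theorem f258414 : Led Lsl_et (LP (LK LD1_c4 LD2_c22 LD3_c40)) = (LP (LK LD1_c8 LD2_c43 LD3_c12)) :=
  Lre_e IH (LK LD1_c4 LD2_c22 LD3_c40) (LK LD1_c8 LD2_c43 LD3_c12) Lrfl Lrfl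
theorem f321120 : Led Lsl_ff (LP (LK LD1_c10 LD2_c38 LD3_c35)) = (LP (LK LD1_c16 LD2_c3 LD3_c30)) :=
  Lgr Lrot72 (Lpr_et (K19.f309251 IH) (Lpe (K19.f309215 IH) (Lpr_et (f258414 IH) (Lpr_ft (K20.f305388 IH) (Lpr_et (K20.f321115 IH) (Lpn (LP (LK LD1_c16 LD2_c3 LD3_c30))))))))
theorem f327610 : Led Lsl_gf (LP (LK LD1_c8 LD2_c33 LD3_c19)) = (LP (LK LD1_c16 LD2_c3 LD3_c30)) :=
  Lgr Lrot47 (Lpr_gt (K22.f327602 IH) (Lpr_af (K19.f309304 IH) (Lpr_ff (f321120 IH) (Lpn (LP (LK LD1_c16 LD2_c3 LD3_c30))))))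
theorem f321125 : Led Lsl_ct (LP (LK LD1_c14 LD2_c58 LD3_c13)) = (LP (LK LD1_c16 LD2_c3 LD3_c30)) :=
  Lgr Lrot40 (Lpe (K15.f229531 IH) (Lpe (K19.f309320 IH) (Lpr_ff (f321120 IH) (Lpn (LP (LK LD1_c16 LD2_c3 LD3_c30))))))
theorem f330815 : Led Lsl_gt (LP (LK LD1_c8 LD2_c24 LD3_c38)) = (LP (LK LD1_c14 LD2_c58 LD3_c13)) :=
  Lgr Lrot9 (Lpe (K24.f304633 IH) (Lpr_gt (K21.f330813 IH) (Lpr_ct (K21.f193301 IH) (Lpe (K21.f321940 IH) (Lpr_ct (f184430 IH) (Lpe (K18.f184434 IH) (Lpe (f169417 IH) (Lpr_gf (f327610 IH) (Lpe (f321125 IH) (Lpn (LP (LK LD1_c14 LD2_c58 LD3_c13))))))))))))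
theorem f166871 : Led Lsl_ct (LP (LK LD1_c4 LD2_c12 LD3_c29)) = (LP (LK LD1_c8 LD2_c24 LD3_c39)) :=
  Lre_c IH (LK LD1_c4 LD2_c12 LD3_c29) (LK LD1_c8 LD2_c24 LD3_c39) Lrfl Lrfl
theorem f45764 : Led Lsl_ct (LP (LK LD1_c4 LD2_c21 LD3_c7)) = (LP (LK LD1_c8 LD2_c39 LD3_c55)) :=
  Lre_c IH (LK LD1_c4 LD2_c21 LD3_c7) (LK LD1_c8 LD2_c39 LD3_c55) Lrfl Lrfl
theorem f332964 : Led Lsl_gf (LP (LK LD1_c8 LD2_c24 LD3_c39)) = (LP (LK LD1_c8 LD2_c39 LD3_c55)) :=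
  Lgr Lrot129 (Lpe (f166871 IH) (Lpr_bt (K21.f304594 IH) (Lpr_gt (f330815 IH) (Lpe (K18.f229540 IH) (Lpr_ct (K24.f229560 IH) (Lpr_gt (K24.f328762 IH) (Lpe (K24.f243076 IH) (Lpr_bt (K24.f332956 IH) (Lpr_gt (K24.f45754 IH) (Lpr_ct (f45764 IH) (Lpn (LP (LK LD1_c8 LD2_c39 LD3_c55)))))))))))))
theorem f166948 : Led Lsl_ct (LP (LK LD1_c8 LD2_c24 LD3_c39)) = (LP (LK LD1_c4 LD2_c12 LD3_c29)) :=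
  Lre_c IH (LK LD1_c8 LD2_c24 LD3_c39) (LK LD1_c4 LD2_c12 LD3_c29) Lrfl Lrfl
theorem f166864 : Led Lsl_ct (LP (LK LD1_c15 LD2_c48 LD3_c46)) = (LP (LK LD1_c8 LD2_c24 LD3_c40)) :=
  Lre_c IH (LK LD1_c15 LD2_c48 LD3_c46) (LK LD1_c8 LD2_c24 LD3_c40) Lrfl Lrfl
theorem f332966 : Led Lsl_gf (LP (LK LD1_c10 LD2_c28 LD3_c6)) = (LP (LK LD1_c10 LD2_c27 LD3_c53)) :=
  Lgr Lrot147 (Lpr_ct (K21.f193031 IH) (Lpe (K21.f330809 IH) (Lpr_ct (f166864 IH) (Lpe (K19.f166863 IH) (Lpe (f166948 IH) (Lpr_gf (f332964 IH) (Lpe (f45764 IH) (Lpe (K24.f45754 IH) (Lpe (K24.f45755 IH) (Lpn (LP (LK LD1_c10 LD2_c27 LD3_c53))))))))))))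
theorem f269885 : Led Lsl_ft (LP (LK LD1_c14 LD2_c57 LD3_c25)) = (LP (LK LD1_c7 LD2_c55 LD3_c44)) :=
  Lre_f IH (LK LD1_c14 LD2_c57 LD3_c25) (LK LD1_c7 LD2_c55 LD3_c44) Lrfl Lrfl
theorem f275685 : Led Lsl_dt (LP (LK LD1_c8 LD2_c7 LD3_c52)) = (LP (LK LD1_c14 LD2_c57 LD3_c25)) :=
  Lgr Lrot60 (Lpr_ff (K16.f275679 IH) (Lpr_df (K16.f274526 IH) (Lpe (f269885 IH) (Lpn (LP (LK LD1_c14 LD2_c57 LD3_c25))))))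
theorem f316056 : Led Lsl_gt (LP (LK LD1_c14 LD2_c57 LD3_c25)) = (LP (LK LD1_c15 LD2_c57 LD3_c5)) :=
  Lgr Lrot139 (Lpe (f275685 IH) (Lpe (K16.f223213 IH) (Lpe (K16.f212497 IH) (Lpr_dt (K12.f201103 IH) (Lpe (K11.f201075 IH) (Lpe (K12.f201112 IH) (Lpr_et (K15.f201122 IH) (Lpr_gf (K20.f316054 IH) (Lpe (K20.f316051 IH) (Lpe (K20.f316044 IH) (Lpn (LP (LK LD1_c15 LD2_c57 LD3_c5)))))))))))))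
theorem f316037 : Led Lsl_bt (LP (LK LD1_c20 LD2_c58 LD3_c54)) = (LP (LK LD1_c11 LD2_c54 LD3_c28)) :=
  Lre_b IH (LK LD1_c20 LD2_c58 LD3_c54) (LK LD1_c11 LD2_c54 LD3_c28) Lrfl Lrfl
theorem f316038 : Led Lsl_dt (LP (LK LD1_c15 LD2_c57 LD3_c5)) = (LP (LK LD1_c20 LD2_c58 LD3_c54)) :=
  Lgr Lrot79 (Lpr_bf (K20.f310305 IH) (Lpr_df (K20.f316024 IH) (Lpe (f316037 IH) (Lpn (LP (LK LD1_c20 LD2_c58 LD3_c54))))))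
theorem f332977 : Led Lsl_gt (LP (LK LD1_c20 LD2_c58 LD3_c54)) = (LP (LK LD1_c19 LD2_c25 LD3_c42)) :=
  Lgr Lrot139 (Lpe (f316038 IH) (Lpe (f316056 IH) (Lpe (K16.f269881 IH) (Lpe (K16.f216761 IH) (Lpr_gf (f332966 IH) (Lpr_df (K24.f45758 IH) (Lpr_et (K24.f45760 IH) (Lpr_gf (f328391 IH) (Lpr_ef (K24.f234215 IH) (Lpe (f301473 IH) (Lpn (LP (LK LD1_c19 LD2_c25 LD3_c42)))))))))))))
theorem f333004 : Led Lsl_gf (LP (LK LD1_c19 LD2_c32 LD3_c3)) = (LP (LK LD1_c20 LD2_c56 LD3_c45)) :=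
  Lgr Lrot141 (Lpe (K20.f310309 IH) (Lpr_dt (f316038 IH) (Lpr_gt (f332977 IH) (Lpr_df (f301473 IH) (Lpe (K24.f234215 IH) (Lpe (f328391 IH) (Lpr_dt (f323885 IH) (Lpr_gt (f333002 IH) (Lpe (K23.f328782 IH) (Lpe (K23.f328788 IH) (Lpn (LP (LK LD1_c20 LD2_c56 LD3_c45)))))))))))))
theorem f310321 : Led Lsl_dt (LP (LK LD1_c10 LD2_c47 LD3_c54)) = (LP (LK LD1_c19 LD2_c32 LD3_c3)) :=
  Lre_d IH (LK LD1_c10 LD2_c47 LD3_c54) (LK LD1_c19 LD2_c32 LD3_c3) Lrfl Lrfl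
theorem f352788 : Led Lsl_ef (LP (LK LD1_c19 LD2_c31 LD3_c12)) = (LP (LK LD1_c10 LD2_c47 LD3_c54)) :=
  Lgr Lrot167 (Lpr_gt (f352787 IH) (Lpr_dt (f352757 IH) (Lpr_gt (f352744 IH) (Lpe (K22.f211461 IH) (Lpr_et (f211465 IH) (Lpr_gt (f352783 IH) (Lpe (K23.f274494 IH) (Lpr_dt (K23.f274496 IH) (Lpe (f333004 IH) (Lpe (f310321 IH) (Lpn (LP (LK LD1_c10 LD2_c47 LD3_c54)))))))))))))
theorem f211379 : Led Lsl_gt (LP (LK LD1_c8 LD2_c8 LD3_c38)) = (LP (LK LD1_c4 LD2_c4 LD3_c1)) :=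
  Lre_g IH (LK LD1_c8 LD2_c8 LD3_c38) (LK LD1_c4 LD2_c4 LD3_c1) Lrfl Lrfl
theorem f211386 : Led Lsl_et (LP (LK LD1_c1 LD2_c58 LD3_c59)) = (LP (LK LD1_c4 LD2_c4 LD3_c1)) :=
  Lre_e IH (LK LD1_c1 LD2_c58 LD3_c59) (LK LD1_c4 LD2_c4 LD3_c1) Lrfl Lrfl
theorem f171301 : Led Lsl_at (LP (LK LD1_c2 LD2_c46 LD3_c28)) = (LP (LK LD1_c1 LD2_c19 LD3_c36)) :=
  Lre_a IH (LK LD1_c2 LD2_c46 LD3_c28) (LK LD1_c1 LD2_c19 LD3_c36) Lrfl Lrfl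
theorem f205065 : Led Lsl_cf (LP (LK LD1_c2 LD2_c46 LD3_c28)) = (LP (LK LD1_c2 LD2_c46 LD3_c28)) :=
  Lgr Lrot1 (Lpr_at (f171301 IH) (Lpr_ct (K15.f205063 IH) (Lpr_at (K23.f171308 IH) (Lpn (LP (LK LD1_c2 LD2_c46 LD3_c28))))))
theorem f240310 : Led Lsl_bt (LP (LK LD1_c0 LD2_c56 LD3_c23)) = (LP (LK LD1_c0 LD2_c58 LD3_c58)) :=
  Lgr Lrot119 (Lpe (K13.f224870 IH) (Lpr_bf (K13.f240302 IH) (Lpr_ef (K9.f181875 IH) (Lpn (LP (LK LD1_c0 LD2_c58 LD3_c58))))))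
theorem f313769 : Led Lsl_at (LP (LK LD1_c0 LD2_c58 LD3_c58)) = (LP (LK LD1_c0 LD2_c36 LD3_c44)) :=
  Lgr Lrot107 (Lpe (K9.f181794 IH) (Lpr_af (K19.f313765 IH) (Lpe (K9.f171230 IH) (Lpn (LP (LK LD1_c0 LD2_c36 LD3_c44))))))
theorem f314073 : Led Lsl_bt (LP (LK LD1_c2 LD2_c46 LD3_c28)) = (LP (LK LD1_c1 LD2_c57 LD3_c25)) :=
  Lgr Lrot62 (Lpe (K23.f171308 IH) (Lpe (K14.f168855 IH) (Lpe (f313769 IH) (Lpe (f240310 IH) (Lpr_af (K19.f314069 IH) (Lpn (LP (LK LD1_c1 LD2_c57 LD3_c25))))))))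
theorem f201302 : Led Lsl_bt (LP (LK LD1_c0 LD2_c59 LD3_c25)) = (LP (LK LD1_c2 LD2_c4 LD3_c49)) :=
  Lre_b IH (LK LD1_c0 LD2_c59 LD3_c25) (LK LD1_c2 LD2_c4 LD3_c49) Lrfl Lrfl
theorem f344589 : Led Lsl_gt (LP (LK LD1_c2 LD2_c4 LD3_c49)) = (LP (LK LD1_c4 LD2_c8 LD3_c54)) :=
  Lgr Lrot164 (Lpe (f201302 IH) (Lpr_ct (K11.f201069 IH) (Lpe (K11.f211268 IH) (Lpe (K11.f166456 IH) (Lpe (K12.f226883 IH) (Lpe (f314073 IH) (Lpe (f205065 IH) (Lpe (K23.f342266 IH) (Lpr_cf (K13.f184369 IH) (Lpr_bt (K23.f344581 IH) (Lpn (LP (LK LD1_c4 LD2_c8 LD3_c54)))))))))))))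
theorem f310313 : Led Lsl_dt (LP (LK LD1_c19 LD2_c32 LD3_c3)) = (LP (LK LD1_c10 LD2_c47 LD3_c54)) :=
  Lre_d IH (LK LD1_c19 LD2_c32 LD3_c3) (LK LD1_c10 LD2_c47 LD3_c54) Lrfl Lrfl
theorem f331286 : Led Lsl_gt (LP (LK LD1_c8 LD2_c20 LD3_c24)) = (LP (LK LD1_c10 LD2_c47 LD3_c54)) :=
  Lgr Lrot139 (Lpe (f331282 IH) (Lpr_gf (K21.f331280 IH) (Lpe (K19.f283222 IH) (Lpr_dt (K21.f283220 IH) (Lpr_gf (K19.f283231 IH) (Lpr_df (K15.f257976 IH) (Lpr_et (K16.f222037 IH) (Lpe (K20.f222030 IH) (Lpr_ef (K20.f310314 IH) (Lpr_dt (f310313 IH) (Lpn (LP (LK LD1_c10 LD2_c47 LD3_c54)))))))))))))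
theorem f352594 : Led Lsl_gt (LP (LK LD1_c19 LD2_c32 LD3_c3)) = (LP (LK LD1_c20 LD2_c56 LD3_c44)) :=
  Lgr Lrot139 (Lpe (f310321 IH) (Lpe (f331286 IH) (Lpe (f331292 IH) (Lpe (K23.f344567 IH) (Lpe (f344589 IH) (Lpr_df (K11.f211285 IH) (Lpr_et (f211386 IH) (Lpe (f211379 IH) (Lpr_ef (f352590 IH) (Lpr_dt (f348509 IH) (Lpn (LP (LK LD1_c20 LD2_c56 LD3_c44)))))))))))))
theorem f351441 : Led Lsl_dt (LP (LK LD1_c10 LD2_c1 LD3_c13)) = (LP (LK LD1_c10 LD2_c0 LD3_c46)) :=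
  Lgr Lrot42 (Lpr_df (K24.f351439 IH) (Lpn (LP (LK LD1_c10 LD2_c0 LD3_c46))))
theorem f352798 : Led Lsl_gf (LP (LK LD1_c19 LD2_c31 LD3_c12)) = (LP (LK LD1_c18 LD2_c18 LD3_c44)) :=
  Lgr Lrot141 (Lpr_ef (f352788 IH) (Lpr_dt (f310321 IH) (Lpr_gt (f352594 IH) (Lpe (f348509 IH) (Lpe (f352590 IH) (Lpr_gt (f211379 IH) (Lpr_dt (K18.f211300 IH) (Lpr_gt (K24.f194614 IH) (Lpe (f351441 IH) (Lpr_et (K24.f351443 IH) (Lpn (LP (LK LD1_c18 LD2_c18 LD3_c44)))))))))))))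
theorem f259178 : Led Lsl_bt (LP (LK LD1_c18 LD2_c18 LD3_c44)) = (LP (LK LD1_c10 LD2_c1 LD3_c15)) :=
  Lre_b IH (LK LD1_c18 LD2_c18 LD3_c44) (LK LD1_c10 LD2_c1 LD3_c15) Lrfl Lrfl
theorem f351463 : Led Lsl_dt (LP (LK LD1_c16 LD2_c37 LD3_c12)) = (LP (LK LD1_c18 LD2_c18 LD3_c44)) :=
  Lgr Lrot79 (Lpr_bf (f351455 IH) (Lpr_df (K21.f259175 IH) (Lpe (f259178 IH) (Lpn (LP (LK LD1_c18 LD2_c18 LD3_c44))))))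
theorem f316050 : Led Lsl_et (LP (LK LD1_c11 LD2_c54 LD3_c26)) = (LP (LK LD1_c20 LD2_c58 LD3_c54)) :=
  Lre_e IH (LK LD1_c11 LD2_c54 LD3_c26) (LK LD1_c20 LD2_c58 LD3_c54) Lrfl Lrfl
theorem f352802 : Led Lsl_df (LP (LK LD1_c19 LD2_c31 LD3_c12)) = (LP (LK LD1_c11 LD2_c54 LD3_c26)) :=
  Lgr Lrot168 (Lpr_gf (f352798 IH) (Lpe (f351463 IH) (Lpr_et (K24.f231340 IH) (Lpr_gf (K24.f284564 IH) (Lpr_ef (K18.f256745 IH) (Lpr_dt (K17.f237152 IH) (Lpr_gf (K24.f328367 IH) (Lpe (K24.f301505 IH) (Lpe (f332977 IH) (Lpe (f316050 IH) (Lpn (LP (LK LD1_c11 LD2_c54 LD3_c26)))))))))))))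
theorem f352806 : Led Lsl_ct (LP (LK LD1_c10 LD2_c47 LD3_c31)) = (LP (LK LD1_c19 LD2_c31 LD3_c10)) :=
  Lre_c IH (LK LD1_c10 LD2_c47 LD3_c31) (LK LD1_c19 LD2_c31 LD3_c10) Lrfl Lrfl
theorem f54540 : Led Lsl_ct (LP (LK LD1_c25 LD2_c22 LD3_c46)) = (LP (LK LD1_c15 LD2_c29 LD3_c37)) :=
  Lre_c IH (LK LD1_c25 LD2_c22 LD3_c46) (LK LD1_c15 LD2_c29 LD3_c37) Lrfl Lrfl
theorem f352807 : Led Lsl_gt (LP (LK LD1_c19 LD2_c31 LD3_c10)) = (LP (LK LD1_c25 LD2_c22 LD3_c46)) :=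
  Lgr Lrot150 (Lpe (f352806 IH) (Lpe (f352787 IH) (Lpr_df (f352802 IH) (Lpe (K20.f316054 IH) (Lpe (K15.f217995 IH) (Lpr_gt (K22.f323939 IH) (Lpr_ct (K22.f47894 IH) (Lpe (K19.f47892 IH) (Lpe (f54540 IH) (Lpn (LP (LK LD1_c25 LD2_c22 LD3_c46))))))))))))
theorem f352814 : Led Lsl_bt (LP (LK LD1_c10 LD2_c47 LD3_c31)) = (LP (LK LD1_c5 LD2_c28 LD3_c10)) :=
  Lre_b IH (LK LD1_c10 LD2_c47 LD3_c31) (LK LD1_c5 LD2_c28 LD3_c10) Lrfl Lrfl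
theorem f54541 : Led Lsl_ct (LP (LK LD1_c15 LD2_c29 LD3_c37)) = (LP (LK LD1_c25 LD2_c22 LD3_c46)) :=
  Lre_c IH (LK LD1_c15 LD2_c29 LD3_c37) (LK LD1_c25 LD2_c22 LD3_c46) Lrfl Lrfl
theorem f323924 : Led Lsl_bf (LP (LK LD1_c19 LD2_c53 LD3_c49)) = (LP (LK LD1_c15 LD2_c29 LD3_c37)) :=
  Lgr Lrot93 (Lpr_dt (K23.f213045 IH) (Lpr_bt (K21.f323488 IH) (Lpr_dt (K19.f54539 IH) (Lpn (LP (LK LD1_c15 LD2_c29 LD3_c37))))))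
theorem f330132 : Led Lsl_ct (LP (LK LD1_c10 LD2_c50 LD3_c1)) = (LP (LK LD1_c19 LD2_c35 LD3_c3)) :=
  Lre_c IH (LK LD1_c10 LD2_c50 LD3_c1) (LK LD1_c19 LD2_c35 LD3_c3) Lrfl Lrfl
theorem f330166 : Led Lsl_bt (LP (LK LD1_c10 LD2_c50 LD3_c1)) = (LP (LK LD1_c10 LD2_c46 LD3_c29)) :=
  Lgr Lrot119 (Lpr_ef (K23.f330154 IH) (Lpr_bf (K20.f298892 IH) (Lpe (K20.f236002 IH) (Lpn (LP (LK LD1_c10 LD2_c46 LD3_c29))))))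
theorem f352822 : Led Lsl_gf (LP (LK LD1_c5 LD2_c28 LD3_c10)) = (LP (LK LD1_c10 LD2_c46 LD3_c29)) :=
  Lgr Lrot124 (Lpe (f352814 IH) (Lpr_ct (f352806 IH) (Lpr_gt (f352807 IH) (Lpe (f54541 IH) (Lpe (f323924 IH) (Lpr_gt (K23.f222248 IH) (Lpr_ct (K23.f337718 IH) (Lpe (K23.f337727 IH) (Lpe (f330132 IH) (Lpr_bt (f330166 IH) (Lpn (LP (LK LD1_c10 LD2_c46 LD3_c29)))))))))))))
theorem f264716 : Led Lsl_et (LP (LK LD1_c10 LD2_c43 LD3_c12)) = (LP (LK LD1_c5 LD2_c25 LD3_c59)) :=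
  Lre_e IH (LK LD1_c10 LD2_c43 LD3_c12) (LK LD1_c5 LD2_c25 LD3_c59) Lrfl Lrfl
theorem f352837 : Led Lsl_df (LP (LK LD1_c5 LD2_c28 LD3_c10)) = (LP (LK LD1_c10 LD2_c43 LD3_c12)) :=
  Lgr Lrot168 (Lpr_gf (f352822 IH) (Lpr_df (K23.f323227 IH) (Lpr_et (K20.f323229 IH) (Lpe (K20.f323246 IH) (Lpe (K20.f301541 IH) (Lpe (K20.f317919 IH) (Lpe (K20.f246295 IH) (Lpe (K15.f264632 IH) (Lpe (K23.f264705 IH) (Lpe (f264716 IH) (Lpn (LP (LK LD1_c10 LD2_c43 LD3_c12)))))))))))))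
theorem f282439 : Led Lsl_dt (LP (LK LD1_c4 LD2_c29 LD3_c49)) = (LP (LK LD1_c4 LD2_c7 LD3_c38)) :=
  Lgr Lrot42 (Lpr_df (K17.f282431 IH) (Lpn (LP (LK LD1_c4 LD2_c7 LD3_c38))))
theorem f347994 : Led Lsl_et (LP (LK LD1_c5 LD2_c25 LD3_c59)) = (LP (LK LD1_c10 LD2_c43 LD3_c12)) :=
  Lre_e IH (LK LD1_c5 LD2_c25 LD3_c59) (LK LD1_c10 LD2_c43 LD3_c12) Lrfl Lrfl
theorem f347995 : Led Lsl_gf (LP (LK LD1_c8 LD2_c59 LD3_c54)) = (LP (LK LD1_c10 LD2_c43 LD3_c12)) :=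
  Lgr Lrot141 (Lpe (K22.f323975 IH) (Lpr_dt (K21.f301440 IH) (Lpe (K24.f301445 IH) (Lpe (K21.f285603 IH) (Lpr_et (K22.f285609 IH) (Lpr_gt (K17.f263043 IH) (Lpr_dt (f282439 IH) (Lpr_gt (K23.f50399 IH) (Lpr_df (K23.f347984 IH) (Lpr_et (f347994 IH) (Lpn (LP (LK LD1_c10 LD2_c43 LD3_c12)))))))))))))
theorem f295217 : Led Lsl_dt (LP (LK LD1_c10 LD2_c46 LD3_c1)) = (LP (LK LD1_c5 LD2_c27 LD3_c28)) :=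
  Lre_d IH (LK LD1_c10 LD2_c46 LD3_c1) (LK LD1_c5 LD2_c27 LD3_c28) Lrfl Lrfl
theorem f295231 : Led Lsl_gt (LP (LK LD1_c19 LD2_c28 LD3_c20)) = (LP (LK LD1_c10 LD2_c46 LD3_c1)) :=
  Lre_g IH (LK LD1_c19 LD2_c28 LD3_c20) (LK LD1_c10 LD2_c46 LD3_c1) Lrfl Lrfl
theorem f295309 : Led Lsl_et (LP (LK LD1_c25 LD2_c32 LD3_c23)) = (LP (LK LD1_c15 LD2_c37 LD3_c29)) :=
  Lre_e IH (LK LD1_c25 LD2_c32 LD3_c23) (LK LD1_c15 LD2_c37 LD3_c29) Lrfl Lrfl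
theorem f295310 : Led Lsl_dt (LP (LK LD1_c25 LD2_c32 LD3_c23)) = (LP (LK LD1_c19 LD2_c28 LD3_c20)) :=
  Lgr Lrot136 (Lpr_et (f295309 IH) (Lpe (K23.f236331 IH) (Lpe (K20.f295308 IH) (Lpr_dt (K17.f236320 IH) (Lpe (K18.f295297 IH) (Lpe (K18.f217487 IH) (Lpr_gf (K18.f295292 IH) (Lpe (K18.f295258 IH) (Lpr_dt (K18.f295211 IH) (Lpe (f295231 IH) (Lpn (LP (LK LD1_c19 LD2_c28 LD3_c20)))))))))))))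
theorem f347997 : Led Lsl_ct (LP (LK LD1_c19 LD2_c24 LD3_c13)) = (LP (LK LD1_c10 LD2_c43 LD3_c12)) :=
  Lre_c IH (LK LD1_c19 LD2_c24 LD3_c13) (LK LD1_c10 LD2_c43 LD3_c12) Lrfl Lrfl
theorem f347998 : Led Lsl_gf (LP (LK LD1_c25 LD2_c32 LD3_c23)) = (LP (LK LD1_c19 LD2_c24 LD3_c13)) :=
  Lgr Lrot144 (Lpr_dt (f295310 IH) (Lpr_gt (f295231 IH) (Lpr_dt (f295217 IH) (Lpe (K18.f295210 IH) (Lpe (K18.f278105 IH) (Lpr_gf (K21.f323959 IH) (Lpe (K21.f323964 IH) (Lpr_gf (f347995 IH) (Lpe (f347997 IH) (Lpn (LP (LK LD1_c19 LD2_c24 LD3_c13))))))))))))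
theorem f340473 : Led Lsl_gf (LP (LK LD1_c19 LD2_c28 LD3_c20)) = (LP (LK LD1_c15 LD2_c56 LD3_c44)) :=
  Lgr Lrot145 (Lpe (f295310 IH) (Lpr_et (f295309 IH) (Lpr_gt (K23.f340466 IH) (Lpr_dt (K23.f236031 IH) (Lpr_gt (K23.f337581 IH) (Lpe (K22.f45526 IH) (Lpr_et (K21.f45525 IH) (Lpe (K10.f45517 IH) (Lpe (K12.f45528 IH) (Lpr_dt (K18.f45212 IH) (Lpn (LP (LK LD1_c15 LD2_c56 LD3_c44)))))))))))))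
theorem f295315 : Led Lsl_df (LP (LK LD1_c25 LD2_c32 LD3_c23)) = (LP (LK LD1_c19 LD2_c28 LD3_c20)) :=
  Lgr Lrot38 (Lpr_dt (f295310 IH) (Lpn (LP (LK LD1_c19 LD2_c28 LD3_c20))))
theorem f329882 : Led Lsl_gf (LP (LK LD1_c8 LD2_c29 LD3_c33)) = (LP (LK LD1_c10 LD2_c45 LD3_c61)) :=
  Lgr Lrot126 (Lpe (K10.f45536 IH) (Lpr_bt (K10.f45597 IH) (Lpr_gt (K22.f329877 IH) (Lpr_ct (K21.f30988 IH) (Lpr_gt (K21.f323560 IH) (Lpe (K1.f41116 IH) (Lpr_bt (K1.f41114 IH) (Lpe (K17.f55073 IH) (Lpe (K21.f323593 IH) (Lpe (K21.f323935 IH) (Lpn (LP (LK LD1_c10 LD2_c45 LD3_c61)))))))))))))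
theorem f340475 : Led Lsl_ct (LP (LK LD1_c25 LD2_c32 LD3_c23)) = (LP (LK LD1_c15 LD2_c52 LD3_c30)) :=
  Lgr Lrot7 (Lpr_df (f295315 IH) (Lpr_gf (f340473 IH) (Lpe (K18.f45212 IH) (Lpr_gf (f329882 IH) (Lpr_cf (K21.f323935 IH) (Lpr_gt (K22.f189710 IH) (Lpr_dt (K21.f189700 IH) (Lpe (K21.f189702 IH) (Lpr_dt (K21.f189704 IH) (Lpn (LP (LK LD1_c15 LD2_c52 LD3_c30))))))))))))
theorem f337942 : Led Lsl_ct (LP (LK LD1_c10 LD2_c46 LD3_c0)) = (LP (LK LD1_c8 LD2_c27 LD3_c16)) :=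
  Lgr Lrot59 (Lpr_cf (K22.f337937 IH) (Lpn (LP (LK LD1_c8 LD2_c27 LD3_c16))))
theorem f295263 : Led Lsl_dt (LP (LK LD1_c5 LD2_c27 LD3_c29)) = (LP (LK LD1_c10 LD2_c46 LD3_c3)) :=
  Lre_d IH (LK LD1_c5 LD2_c27 LD3_c29) (LK LD1_c10 LD2_c46 LD3_c3) Lrfl Lrfl
theorem f348000 : Led Lsl_ct (LP (LK LD1_c10 LD2_c43 LD3_c12)) = (LP (LK LD1_c19 LD2_c24 LD3_c13)) :=
  Lre_c IH (LK LD1_c10 LD2_c43 LD3_c12) (LK LD1_c19 LD2_c24 LD3_c13) Lrfl Lrfl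
theorem f348004 : Led Lsl_gt (LP (LK LD1_c10 LD2_c46 LD3_c3)) = (LP (LK LD1_c10 LD2_c43 LD3_c12)) :=
  Lgr Lrot9 (Lpe (f295263 IH) (Lpe (K21.f295208 IH) (Lpr_ct (K10.f45536 IH) (Lpr_gt (K22.f295261 IH) (Lpr_ct (f337942 IH) (Lpe (K21.f27445 IH) (Lpe (f340475 IH) (Lpr_gf (f347998 IH) (Lpe (f348000 IH) (Lpn (LP (LK LD1_c10 LD2_c43 LD3_c12))))))))))))
theorem f259217 : Led Lsl_dt (LP (LK LD1_c10 LD2_c42 LD3_c57)) = (LP (LK LD1_c18 LD2_c44 LD3_c57)) :=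
  Lgr Lrot42 (Lpr_df (K23.f259215 IH) (Lpn (LP (LK LD1_c18 LD2_c44 LD3_c57))))
theorem f348010 : Led Lsl_gf (LP (LK LD1_c18 LD2_c44 LD3_c57)) = (LP (LK LD1_c10 LD2_c22 LD3_c5)) :=
  Lgr Lrot134 (Lpe (f259217 IH) (Lpe (K23.f317717 IH) (Lpr_gt (f348004 IH) (Lpe (f347994 IH) (Lpe (K23.f347984 IH) (Lpe (K23.f282427 IH) (Lpe (K15.f264433 IH) (Lpr_et (K16.f271765 IH) (Lpr_gt (K15.f261856 IH) (Lpe (K23.f263055 IH) (Lpn (LP (LK LD1_c10 LD2_c22 LD3_c5)))))))))))))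
theorem f336177 : Led Lsl_bt (LP (LK LD1_c2 LD2_c34 LD3_c58)) = (LP (LK LD1_c5 LD2_c15 LD3_c50)) :=
  Lgr Lrot92 (Lpe (K19.f255004 IH) (Lpr_gt (K19.f249946 IH) (Lpe (K22.f248882 IH) (Lpr_bt (K22.f249040 IH) (Lpr_gt (K19.f253634 IH) (Lpr_ct (K22.f253635 IH) (Lpr_gt (K22.f253636 IH) (Lpr_cf (K22.f336168 IH) (Lpe (K20.f214809 IH) (Lpr_gt (K21.f324322 IH) (Lpn (LP (LK LD1_c5 LD2_c15 LD3_c50)))))))))))))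
theorem f324319 : Led Lsl_et (LP (LK LD1_c5 LD2_c15 LD3_c50)) = (LP (LK LD1_c10 LD2_c21 LD3_c2)) :=
  Lre_e IH (LK LD1_c5 LD2_c15 LD3_c50) (LK LD1_c10 LD2_c21 LD3_c2) Lrfl Lrfl
theorem f336179 : Led Lsl_bf (LP (LK LD1_c5 LD2_c16 LD3_c25)) = (LP (LK LD1_c10 LD2_c21 LD3_c2)) :=
  Lgr Lrot96 (Lpr_et (K14.f255006 IH) (Lpr_bt (f336177 IH) (Lpr_et (f324319 IH) (Lpn (LP (LK LD1_c10 LD2_c21 LD3_c2))))))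
theorem f255009 : Led Lsl_bt (LP (LK LD1_c5 LD2_c13 LD3_c23)) = (LP (LK LD1_c10 LD2_c17 LD3_c4)) :=
  Lre_b IH (LK LD1_c5 LD2_c13 LD3_c23) (LK LD1_c10 LD2_c17 LD3_c4) Lrfl Lrfl
theorem f336183 : Led Lsl_dt (LP (LK LD1_c10 LD2_c17 LD3_c4)) = (LP (LK LD1_c10 LD2_c21 LD3_c2)) :=
  Lgr Lrot79 (Lpe (f255009 IH) (Lpr_df (K14.f255007 IH) (Lpr_bf (f336179 IH) (Lpn (LP (LK LD1_c10 LD2_c21 LD3_c2))))))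
theorem f309801 : Led Lsl_bt (LP (LK LD1_c5 LD2_c34 LD3_c61)) = (LP (LK LD1_c2 LD2_c43 LD3_c25)) :=
  Lre_b IH (LK LD1_c5 LD2_c34 LD3_c61) (LK LD1_c2 LD2_c43 LD3_c25) Lrfl Lrfl
theorem f309804 : Led Lsl_et (LP (LK LD1_c10 LD2_c17 LD3_c4)) = (LP (LK LD1_c5 LD2_c34 LD3_c61)) :=
  Lgr Lrot74 (Lpe (f255009 IH) (Lpr_ef (K22.f309796 IH) (Lpe (f309801 IH) (Lpn (LP (LK LD1_c5 LD2_c34 LD3_c61))))))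
theorem f169498 : Led Lsl_dt (LP (LK LD1_c21 LD2_c0 LD3_c0)) = (LP (LK LD1_c11 LD2_c55 LD3_c10)) :=
  Lre_d IH (LK LD1_c21 LD2_c0 LD3_c0) (LK LD1_c11 LD2_c55 LD3_c10) Lrfl Lrfl
theorem f317889 : Led Lsl_dt (LP (LK LD1_c10 LD2_c46 LD3_c45)) = (LP (LK LD1_c19 LD2_c29 LD3_c46)) :=
  Lre_d IH (LK LD1_c10 LD2_c46 LD3_c45) (LK LD1_c19 LD2_c29 LD3_c46) Lrfl Lrfl
theorem f317898 : Led Lsl_at (LP (LK LD1_c19 LD2_c29 LD3_c46)) = (LP (LK LD1_c21 LD2_c0 LD3_c0)) :=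
  Lgr Lrot51 (Lpe (f317889 IH) (Lpr_af (K20.f317892 IH) (Lpe (f169498 IH) (Lpn (LP (LK LD1_c21 LD2_c0 LD3_c0))))))
theorem f317946 : Led Lsl_af (LP (LK LD1_c19 LD2_c29 LD3_c46)) = (LP (LK LD1_c21 LD2_c0 LD3_c0)) :=
  Lgr Lrot0 (Lpr_at (f317898 IH) (Lpn (LP (LK LD1_c21 LD2_c0 LD3_c0))))
theorem f169559 : Led Lsl_ft (LP (LK LD1_c11 LD2_c55 LD3_c9)) = (LP (LK LD1_c21 LD2_c0 LD3_c0)) :=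
  Lre_f IH (LK LD1_c11 LD2_c55 LD3_c9) (LK LD1_c21 LD2_c0 LD3_c0) Lrfl Lrfl
theorem f169523 : Led Lsl_dt (LP (LK LD1_c11 LD2_c55 LD3_c9)) = (LP (LK LD1_c6 LD2_c5 LD3_c50)) :=
  Lre_d IH (LK LD1_c11 LD2_c55 LD3_c9) (LK LD1_c6 LD2_c5 LD3_c50) Lrfl Lrfl
theorem f275126 : Led Lsl_at (LP (LK LD1_c15 LD2_c56 LD3_c15)) = (LP (LK LD1_c11 LD2_c55 LD3_c9)) :=
  Lgr Lrot51 (Lpe (K19.f48213 IH) (Lpr_af (K16.f275117 IH) (Lpe (f169523 IH) (Lpn (LP (LK LD1_c11 LD2_c55 LD3_c9))))))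
theorem f317960 : Led Lsl_ft (LP (LK LD1_c19 LD2_c29 LD3_c46)) = (LP (LK LD1_c15 LD2_c56 LD3_c15)) :=
  Lgr Lrot101 (Lpr_af (f317946 IH) (Lpe (f169559 IH) (Lpe (f275126 IH) (Lpn (LP (LK LD1_c15 LD2_c56 LD3_c15))))))
theorem f317973 : Led Lsl_ff (LP (LK LD1_c19 LD2_c29 LD3_c46)) = (LP (LK LD1_c15 LD2_c56 LD3_c15)) :=
  Lgr Lrot3 (Lpr_ft (f317960 IH) (Lpn (LP (LK LD1_c15 LD2_c56 LD3_c15))))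
theorem f317985 : Led Lsl_gf (LP (LK LD1_c21 LD2_c0 LD3_c0)) = (LP (LK LD1_c19 LD2_c42 LD3_c7)) :=
  Lgr Lrot76 (Lpe (f317898 IH) (Lpr_ff (f317973 IH) (Lpe (K19.f275111 IH) (Lpn (LP (LK LD1_c19 LD2_c42 LD3_c7))))))
theorem f335550 : Led Lsl_gt (LP (LK LD1_c10 LD2_c46 LD3_c4)) = (LP (LK LD1_c5 LD2_c31 LD3_c25)) :=
  Lgr Lrot94 (Lpe (K21.f317713 IH) (Lpe (K23.f335502 IH) (Lpr_dt (K19.f221351 IH) (Lpe (f317985 IH) (Lpr_dt (f169498 IH) (Lpe (K16.f169546 IH) (Lpr_df (K19.f169486 IH) (Lpr_gf (K22.f335548 IH) (Lpe (K22.f257161 IH) (Lpn (LP (LK LD1_c5 LD2_c31 LD3_c25))))))))))))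
theorem f335579 : Led Lsl_gt (LP (LK LD1_c10 LD2_c46 LD3_c14)) = (LP (LK LD1_c10 LD2_c46 LD3_c3)) :=
  Lgr Lrot112 (Lpr_df (K22.f335571 IH) (Lpe (K22.f335560 IH) (Lpe (K22.f264820 IH) (Lpr_ef (K22.f282637 IH) (Lpr_dt (K9.f169495 IH) (Lpr_gf (K22.f335548 IH) (Lpe (K22.f257161 IH) (Lpe (f335550 IH) (Lpe (K23.f317716 IH) (Lpr_dt (f295263 IH) (Lpn (LP (LK LD1_c10 LD2_c46 LD3_c3)))))))))))))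
theorem f336185 : Led Lsl_gt (LP (LK LD1_c5 LD2_c31 LD3_c24)) = (LP (LK LD1_c10 LD2_c21 LD3_c2)) :=
  Lgr Lrot112 (Lpe (K22.f257179 IH) (Lpr_et (K22.f257169 IH) (Lpe (f335550 IH) (Lpe (K23.f317716 IH) (Lpr_dt (f295263 IH) (Lpe (f335579 IH) (Lpr_df (K22.f335571 IH) (Lpe (K22.f309817 IH) (Lpe (f309804 IH) (Lpr_dt (f336183 IH) (Lpn (LP (LK LD1_c10 LD2_c21 LD3_c2)))))))))))))
theorem f335542 : Led Lsl_et (LP (LK LD1_c5 LD2_c18 LD3_c19)) = (LP (LK LD1_c5 LD2_c31 LD3_c24)) :=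
  Lgr Lrot71 (Lpe (K22.f32208 IH) (Lpr_ef (K22.f335537 IH) (Lpe (K22.f257161 IH) (Lpe (K22.f257169 IH) (Lpe (K17.f212212 IH) (Lpn (LP (LK LD1_c5 LD2_c31 LD3_c24))))))))
theorem f48711 : Led Lsl_dt (LP (LK LD1_c5 LD2_c18 LD3_c19)) = (LP (LK LD1_c10 LD2_c26 LD3_c24)) :=
  Lre_d IH (LK LD1_c5 LD2_c18 LD3_c19) (LK LD1_c10 LD2_c26 LD3_c24) Lrfl Lrfl
theorem f251136 : Led Lsl_af (LP (LK LD1_c4 LD2_c15 LD3_c49)) = (LP (LK LD1_c8 LD2_c29 LD3_c40)) :=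
  Lgr Lrot0 (Lpr_at (K14.f251132 IH) (Lpn (LP (LK LD1_c8 LD2_c29 LD3_c40))))
theorem f262062 : Led Lsl_ef (LP (LK LD1_c8 LD2_c29 LD3_c45)) = (LP (LK LD1_c4 LD2_c15 LD3_c49)) :=
  Lgr Lrot20 (Lpr_at (K15.f262056 IH) (Lpr_et (K14.f251070 IH) (Lpe (f251136 IH) (Lpn (LP (LK LD1_c4 LD2_c15 LD3_c49))))))
theorem f243130 : Led Lsl_dt (LP (LK LD1_c4 LD2_c15 LD3_c49)) = (LP (LK LD1_c8 LD2_c30 LD3_c43)) :=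
  Lre_d IH (LK LD1_c4 LD2_c15 LD3_c49) (LK LD1_c8 LD2_c30 LD3_c43) Lrfl Lrfl
theorem f48291 : Led Lsl_gt (LP (LK LD1_c2 LD2_c35 LD3_c43)) = (LP (LK LD1_c5 LD2_c17 LD3_c60)) :=
  Lre_g IH (LK LD1_c2 LD2_c35 LD3_c43) (LK LD1_c5 LD2_c17 LD3_c60) Lrfl Lrfl
theorem f251146 : Led Lsl_gf (LP (LK LD1_c8 LD2_c30 LD3_c43)) = (LP (LK LD1_c5 LD2_c17 LD3_c60)) :=
  Lgr Lrot76 (Lpr_af (K14.f251138 IH) (Lpe (K14.f48286 IH) (Lpr_gt (f48291 IH) (Lpn (LP (LK LD1_c5 LD2_c17 LD3_c60))))))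
theorem f250699 : Led Lsl_et (LP (LK LD1_c4 LD2_c9 LD3_c36)) = (LP (LK LD1_c8 LD2_c19 LD3_c15)) :=
  Lre_e IH (LK LD1_c4 LD2_c9 LD3_c36) (LK LD1_c8 LD2_c19 LD3_c15) Lrfl Lrfl
theorem f323302 : Led Lsl_df (LP (LK LD1_c5 LD2_c17 LD3_c60)) = (LP (LK LD1_c4 LD2_c9 LD3_c36)) :=
  Lgr Lrot170 (Lpe (f251146 IH) (Lpe (f243130 IH) (Lpe (f262062 IH) (Lpr_gt (K21.f323298 IH) (Lpr_dt (K14.f236168 IH) (Lpe (K21.f282509 IH) (Lpe (K20.f282504 IH) (Lpr_et (K21.f282516 IH) (Lpr_gt (K21.f250693 IH) (Lpe (f250699 IH) (Lpn (LP (LK LD1_c4 LD2_c9 LD3_c36)))))))))))))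
theorem f323306 : Led Lsl_dt (LP (LK LD1_c5 LD2_c17 LD3_c60)) = (LP (LK LD1_c4 LD2_c9 LD3_c36)) :=
  Lgr Lrot42 (Lpr_df (f323302 IH) (Lpn (LP (LK LD1_c4 LD2_c9 LD3_c36))))
theorem f323308 : Led Lsl_et (LP (LK LD1_c5 LD2_c17 LD3_c60)) = (LP (LK LD1_c10 LD2_c25 LD3_c42)) :=
  Lre_e IH (LK LD1_c5 LD2_c17 LD3_c60) (LK LD1_c10 LD2_c25 LD3_c42) Lrfl Lrfl
theorem f323330 : Led Lsl_gt (LP (LK LD1_c10 LD2_c25 LD3_c42)) = (LP (LK LD1_c10 LD2_c22 LD3_c5)) :=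
  Lgr Lrot137 (Lpe (f323308 IH) (Lpr_dt (f323306 IH) (Lpe (K21.f688 IH) (Lpe (K13.f663 IH) (Lpe (K14.f232027 IH) (Lpr_gf (K15.f263061 IH) (Lpe (K15.f262993 IH) (Lpr_dt (K15.f262991 IH) (Lpe (K15.f261621 IH) (Lpe (K15.f263030 IH) (Lpn (LP (LK LD1_c10 LD2_c22 LD3_c5)))))))))))))
theorem f32384 : Led Lsl_dt (LP (LK LD1_c5 LD2_c16 LD3_c15)) = (LP (LK LD1_c10 LD2_c22 LD3_c4)) :=
  Lre_d IH (LK LD1_c5 LD2_c16 LD3_c15) (LK LD1_c10 LD2_c22 LD3_c4) Lrfl Lrfl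
theorem f687 : Led Lsl_et (LP (LK LD1_c15 LD2_c39 LD3_c8)) = (LP (LK LD1_c8 LD2_c19 LD3_c17)) :=
  Lre_e IH (LK LD1_c15 LD2_c39 LD3_c8) (LK LD1_c8 LD2_c19 LD3_c17) Lrfl Lrfl
theorem f323332 : Led Lsl_gt (LP (LK LD1_c10 LD2_c22 LD3_c4)) = (LP (LK LD1_c15 LD2_c36 LD3_c5)) :=
  Lgr Lrot112 (Lpe (f32384 IH) (Lpr_et (K23.f263057 IH) (Lpe (f323330 IH) (Lpe (f323308 IH) (Lpr_dt (f323306 IH) (Lpe (K21.f688 IH) (Lpe (K13.f663 IH) (Lpe (K13.f654 IH) (Lpe (f687 IH) (Lpr_dt (K23.f660 IH) (Lpn (LP (LK LD1_c15 LD2_c36 LD3_c5)))))))))))))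
theorem f263058 : Led Lsl_ef (LP (LK LD1_c10 LD2_c22 LD3_c4)) = (LP (LK LD1_c10 LD2_c2 LD3_c9)) :=
  Lgr Lrot73 (Lpr_dt (K23.f32397 IH) (Lpr_et (K23.f263057 IH) (Lpr_dt (K15.f263030 IH) (Lpr_et (K23.f263008 IH) (Lpe (K23.f263003 IH) (Lpn (LP (LK LD1_c10 LD2_c2 LD3_c9))))))))
theorem f263006 : Led Lsl_dt (LP (LK LD1_c10 LD2_c2 LD3_c9)) = (LP (LK LD1_c10 LD2_c53 LD3_c38)) :=
  Lgr Lrot42 (Lpr_df (K23.f263003 IH) (Lpn (LP (LK LD1_c10 LD2_c53 LD3_c38))))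
theorem f324317 : Led Lsl_df (LP (LK LD1_c5 LD2_c35 LD3_c0)) = (LP (LK LD1_c5 LD2_c15 LD3_c50)) :=
  Lgr Lrot38 (Lpr_dt (K21.f324313 IH) (Lpn (LP (LK LD1_c5 LD2_c15 LD3_c50))))
theorem f336194 : Led Lsl_gf (LP (LK LD1_c10 LD2_c53 LD3_c38)) = (LP (LK LD1_c5 LD2_c35 LD3_c0)) :=
  Lgr Lrot145 (Lpe (f263006 IH) (Lpe (f263058 IH) (Lpr_gt (f323332 IH) (Lpe (K23.f685 IH) (Lpr_gt (K22.f197044 IH) (Lpe (f48711 IH) (Lpr_et (f335542 IH) (Lpr_gt (f336185 IH) (Lpe (f324319 IH) (Lpe (f324317 IH) (Lpn (LP (LK LD1_c5 LD2_c35 LD3_c0)))))))))))))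
theorem f309814 : Led Lsl_et (LP (LK LD1_c2 LD2_c43 LD3_c23)) = (LP (LK LD1_c5 LD2_c35 LD3_c0)) :=
  Lre_e IH (LK LD1_c2 LD2_c43 LD3_c23) (LK LD1_c5 LD2_c35 LD3_c0) Lrfl Lrfl
theorem f352843 : Led Lsl_gt (LP (LK LD1_c5 LD2_c28 LD3_c10)) = (LP (LK LD1_c5 LD2_c34 LD3_c61)) :=
  Lgr Lrot139 (Lpr_df (f352837 IH) (Lpe (f348004 IH) (Lpr_ef (K23.f317717 IH) (Lpr_dt (f259217 IH) (Lpr_gf (f348010 IH) (Lpr_df (K23.f263055 IH) (Lpr_et (K23.f263008 IH) (Lpr_gf (f336194 IH) (Lpe (f309814 IH) (Lpr_dt (K22.f309822 IH) (Lpn (LP (LK LD1_c5 LD2_c34 LD3_c61)))))))))))))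
theorem f352825 : Led Lsl_ct (LP (LK LD1_c5 LD2_c28 LD3_c10)) = (LP (LK LD1_c10 LD2_c47 LD3_c34)) :=
  Lre_c IH (LK LD1_c5 LD2_c28 LD3_c10) (LK LD1_c10 LD2_c47 LD3_c34) Lrfl Lrfl
theorem f352826 : Led Lsl_gt (LP (LK LD1_c10 LD2_c47 LD3_c34)) = (LP (LK LD1_c19 LD2_c31 LD3_c19)) :=
  Lre_g IH (LK LD1_c10 LD2_c47 LD3_c34) (LK LD1_c19 LD2_c31 LD3_c19) Lrfl Lrfl
theorem f309813 : Led Lsl_dt (LP (LK LD1_c5 LD2_c34 LD3_c61)) = (LP (LK LD1_c2 LD2_c43 LD3_c23)) :=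
  Lre_d IH (LK LD1_c5 LD2_c34 LD3_c61) (LK LD1_c2 LD2_c43 LD3_c23) Lrfl Lrfl
theorem f45171 : Led Lsl_gt (LP (LK LD1_c25 LD2_c52 LD3_c23)) = (LP (LK LD1_c15 LD2_c56 LD3_c3)) :=
  Lre_g IH (LK LD1_c25 LD2_c52 LD3_c23) (LK LD1_c15 LD2_c56 LD3_c3) Lrfl Lrfl
theorem f352845 : Led Lsl_dt (LP (LK LD1_c19 LD2_c31 LD3_c19)) = (LP (LK LD1_c25 LD2_c52 LD3_c23)) :=
  Lgr Lrot57 (Lpe (f352826 IH) (Lpe (f352825 IH) (Lpr_gt (f352843 IH) (Lpr_dt (f309813 IH) (Lpr_gt (K21.f324305 IH) (Lpe (K10.f45162 IH) (Lpe (K10.f45168 IH) (Lpe (K12.f45169 IH) (Lpe (f45171 IH) (Lpn (LP (LK LD1_c25 LD2_c52 LD3_c23))))))))))))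
theorem f352899 : Led Lsl_df (LP (LK LD1_c19 LD2_c31 LD3_c19)) = (LP (LK LD1_c25 LD2_c52 LD3_c23)) :=
  Lgr Lrot38 (Lpr_dt (f352845 IH) (Lpn (LP (LK LD1_c25 LD2_c52 LD3_c23))))
theorem f189002 : Led Lsl_gt (LP (LK LD1_c16 LD2_c44 LD3_c6)) = (LP (LK LD1_c25 LD2_c52 LD3_c23)) :=
  Lgr Lrot5 (Lpr_ft (K12.f188993 IH) (Lpr_at (K12.f45542 IH) (Lpe (f45171 IH) (Lpn (LP (LK LD1_c25 LD2_c52 LD3_c23))))))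
theorem f335573 : Led Lsl_gf (LP (LK LD1_c10 LD2_c46 LD3_c29)) = (LP (LK LD1_c11 LD2_c2 LD3_c17)) :=
  Lgr Lrot141 (Lpe (K20.f250744 IH) (Lpr_dt (K21.f235805 IH) (Lpe (K21.f282565 IH) (Lpe (K21.f282556 IH) (Lpr_et (K20.f282558 IH) (Lpr_gt (K20.f264465 IH) (Lpr_dt (K17.f264454 IH) (Lpr_gt (K22.f258698 IH) (Lpe (K22.f258704 IH) (Lpr_et (K22.f335566 IH) (Lpn (LP (LK LD1_c11 LD2_c2 LD3_c17)))))))))))))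
theorem f335563 : Led Lsl_ct (LP (LK LD1_c19 LD2_c53 LD3_c32)) = (LP (LK LD1_c11 LD2_c2 LD3_c17)) :=
  Lre_c IH (LK LD1_c19 LD2_c53 LD3_c32) (LK LD1_c11 LD2_c2 LD3_c17) Lrfl Lrfl
theorem f335575 : Led Lsl_gf (LP (LK LD1_c19 LD2_c28 LD3_c61)) = (LP (LK LD1_c19 LD2_c53 LD3_c32)) :=
  Lgr Lrot144 (Lpe (K22.f295242 IH) (Lpr_gt (K22.f295240 IH) (Lpr_dt (K12.f188755 IH) (Lpe (K12.f188752 IH) (Lpr_df (K12.f188750 IH) (Lpr_gf (K23.f323232 IH) (Lpe (K20.f323224 IH) (Lpr_gf (f335573 IH) (Lpe (f335563 IH) (Lpn (LP (LK LD1_c19 LD2_c53 LD3_c32))))))))))))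
theorem f335568 : Led Lsl_ct (LP (LK LD1_c11 LD2_c2 LD3_c17)) = (LP (LK LD1_c19 LD2_c53 LD3_c32)) :=
  Lre_c IH (LK LD1_c11 LD2_c2 LD3_c17) (LK LD1_c19 LD2_c53 LD3_c32) Lrfl Lrfl
theorem f45648 : Led Lsl_gt (LP (LK LD1_c8 LD2_c29 LD3_c5)) = (LP (LK LD1_c15 LD2_c56 LD3_c1)) :=
  Lre_g IH (LK LD1_c8 LD2_c29 LD3_c5) (LK LD1_c15 LD2_c56 LD3_c1) Lrfl Lrfl
theorem f339136 : Led Lsl_ct (LP (LK LD1_c15 LD2_c56 LD3_c1)) = (LP (LK LD1_c9 LD2_c43 LD3_c26)) :=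
  Lgr Lrot110 (Lpe (f45648 IH) (Lpe (K12.f45165 IH) (Lpe (K21.f324305 IH) (Lpe (f309813 IH) (Lpr_gt (K22.f309817 IH) (Lpr_ct (f335568 IH) (Lpe (f335575 IH) (Lpr_ct (K22.f339125 IH) (Lpe (K22.f339124 IH) (Lpn (LP (LK LD1_c9 LD2_c43 LD3_c26))))))))))))
theorem f339138 : Led Lsl_cf (LP (LK LD1_c15 LD2_c56 LD3_c1)) = (LP (LK LD1_c9 LD2_c43 LD3_c26)) :=
  Lgr Lrot11 (Lpr_ct (f339136 IH) (Lpn (LP (LK LD1_c9 LD2_c43 LD3_c26))))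
theorem f54293 : Led Lsl_af (LP (LK LD1_c8 LD2_c39 LD3_c29)) = (LP (LK LD1_c8 LD2_c29 LD3_c10)) :=
  Lgr Lrot0 (Lpr_at (K11.f54285 IH) (Lpn (LP (LK LD1_c8 LD2_c29 LD3_c10))))
theorem f324296 : Led Lsl_gf (LP (LK LD1_c15 LD2_c9 LD3_c36)) = (LP (LK LD1_c8 LD2_c7 LD3_c45)) :=
  Lgr Lrot47 (Lpr_gt (K21.f324294 IH) (Lpr_af (f54293 IH) (Lpr_ff (K15.f201218 IH) (Lpn (LP (LK LD1_c8 LD2_c7 LD3_c45))))))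
theorem f339144 : Led Lsl_gt (LP (LK LD1_c15 LD2_c56 LD3_c1)) = (LP (LK LD1_c8 LD2_c56 LD3_c25)) :=
  Lgr Lrot149 (Lpr_cf (f339138 IH) (Lpe (K22.f339119 IH) (Lpe (K14.f27420 IH) (Lpr_ct (K19.f27523 IH) (Lpr_gf (K19.f52900 IH) (Lpr_cf (K21.f299071 IH) (Lpr_bt (K21.f299070 IH) (Lpr_gf (f324296 IH) (Lpe (K15.f201220 IH) (Lpr_ct (K12.f188752 IH) (Lpn (LP (LK LD1_c8 LD2_c56 LD3_c25)))))))))))))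
theorem f339122 : Led Lsl_gf (LP (LK LD1_c8 LD2_c26 LD3_c26)) = (LP (LK LD1_c9 LD2_c43 LD3_c26)) :=
  Lgr Lrot76 (Lpe (K12.f27427 IH) (Lpe (K11.f27423 IH) (Lpr_gt (K22.f339119 IH) (Lpn (LP (LK LD1_c9 LD2_c43 LD3_c26))))))
theorem f27501 : Led Lsl_dt (LP (LK LD1_c15 LD2_c51 LD3_c7)) = (LP (LK LD1_c25 LD2_c47 LD3_c1)) :=
  Lre_d IH (LK LD1_c15 LD2_c51 LD3_c7) (LK LD1_c25 LD2_c47 LD3_c1) Lrfl Lrfl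
theorem f352904 : Led Lsl_cf (LP (LK LD1_c19 LD2_c31 LD3_c19)) = (LP (LK LD1_c25 LD2_c47 LD3_c1)) :=
  Lgr Lrot14 (Lpr_df (f352899 IH) (Lpe (f189002 IH) (Lpe (K12.f188626 IH) (Lpe (f339144 IH) (Lpr_ct (f339136 IH) (Lpe (f339122 IH) (Lpe (K12.f27429 IH) (Lpr_gt (K17.f27500 IH) (Lpr_dt (f27501 IH) (Lpn (LP (LK LD1_c25 LD2_c47 LD3_c1))))))))))))
theorem f350666 : Led Lsl_bt (LP (LK LD1_c25 LD2_c47 LD3_c1)) = (LP (LK LD1_c19 LD2_c56 LD3_c49)) :=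
  Lgr Lrot95 (Lpe (f27501 IH) (Lpe (K22.f329938 IH) (Lpr_df (K24.f350664 IH) (Lpn (LP (LK LD1_c19 LD2_c56 LD3_c49))))))
theorem f352906 : Led Lsl_bt (LP (LK LD1_c25 LD2_c47 LD3_c40)) = (LP (LK LD1_c25 LD2_c16 LD3_c52)) :=
  Lgr Lrot92 (Lpr_ct (K23.f337718 IH) (Lpe (K23.f337727 IH) (Lpe (f330132 IH) (Lpr_bt (f330166 IH) (Lpe (f352822 IH) (Lpr_ct (f352825 IH) (Lpr_gt (f352826 IH) (Lpr_cf (f352904 IH) (Lpr_bt (f350666 IH) (Lpe (K24.f350689 IH) (Lpn (LP (LK LD1_c25 LD2_c16 LD3_c52)))))))))))))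
theorem f223943 : Led Lsl_et (LP (LK LD1_c25 LD2_c16 LD3_c52)) = (LP (LK LD1_c15 LD2_c24 LD3_c33)) :=
  Lre_e IH (LK LD1_c25 LD2_c16 LD3_c52) (LK LD1_c15 LD2_c24 LD3_c33) Lrfl Lrfl
theorem f352912 : Led Lsl_bf (LP (LK LD1_c15 LD2_c51 LD3_c56)) = (LP (LK LD1_c15 LD2_c24 LD3_c33)) :=
  Lgr Lrot96 (Lpr_et (K23.f189743 IH) (Lpr_bt (f352906 IH) (Lpr_et (f223943 IH) (Lpn (LP (LK LD1_c15 LD2_c24 LD3_c33))))))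
theorem f352916 : Led Lsl_bt (LP (LK LD1_c10 LD2_c19 LD3_c60)) = (LP (LK LD1_c17 LD2_c35 LD3_c40)) :=
  Lgr Lrot95 (Lpe (K23.f189741 IH) (Lpr_bf (f352912 IH) (Lpe (K24.f223933 IH) (Lpn (LP (LK LD1_c17 LD2_c35 LD3_c40))))))
theorem f352920 : Led Lsl_bf (LP (LK LD1_c8 LD2_c26 LD3_c38)) = (LP (LK LD1_c9 LD2_c41 LD3_c10)) :=
  Lgr Lrot96 (Lpr_et (K23.f189736 IH) (Lpr_bt (f352916 IH) (Lpr_et (K24.f216321 IH) (Lpn (LP (LK LD1_c9 LD2_c41 LD3_c10))))))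
theorem f231253 : Led Lsl_ct (LP (LK LD1_c5 LD2_c22 LD3_c39)) = (LP (LK LD1_c10 LD2_c35 LD3_c38)) :=
  Lre_c IH (LK LD1_c5 LD2_c22 LD3_c39) (LK LD1_c10 LD2_c35 LD3_c38) Lrfl Lrfl
theorem f352928 : Led Lsl_gf (LP (LK LD1_c9 LD2_c40 LD3_c38)) = (LP (LK LD1_c10 LD2_c35 LD3_c38)) :=
  Lgr Lrot129 (Lpe (f187328 IH) (Lpr_bt (K10.f188552 IH) (Lpr_gt (K23.f188546 IH) (Lpr_bf (f352920 IH) (Lpe (f352540 IH) (Lpe (f310977 IH) (Lpe (K19.f310958 IH) (Lpr_bt (K22.f310929 IH) (Lpr_gt (f310750 IH) (Lpr_ct (f231253 IH) (Lpn (LP (LK LD1_c10 LD2_c35 LD3_c38)))))))))))))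
theorem f187312 : Led Lsl_ct (LP (LK LD1_c9 LD2_c40 LD3_c38)) = (LP (LK LD1_c4 LD2_c54 LD3_c31)) :=
  Lre_c IH (LK LD1_c9 LD2_c40 LD3_c38) (LK LD1_c4 LD2_c54 LD3_c31) Lrfl Lrfl
theorem f187320 : Led Lsl_ct (LP (LK LD1_c8 LD2_c13 LD3_c47)) = (LP (LK LD1_c4 LD2_c6 LD3_c37)) :=
  Lre_c IH (LK LD1_c8 LD2_c13 LD3_c47) (LK LD1_c4 LD2_c6 LD3_c37) Lrfl Lrfl
theorem f187322 : Led Lsl_gt (LP (LK LD1_c15 LD2_c28 LD3_c55)) = (LP (LK LD1_c8 LD2_c13 LD3_c47)) :=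
  Lre_g IH (LK LD1_c15 LD2_c28 LD3_c55) (LK LD1_c8 LD2_c13 LD3_c47) Lrfl Lrfl
theorem f352934 : Led Lsl_cf (LP (LK LD1_c15 LD2_c28 LD3_c55)) = (LP (LK LD1_c10 LD2_c35 LD3_c41)) :=
  Lgr Lrot169 (Lpr_gt (f187322 IH) (Lpr_ct (f187320 IH) (Lpe (K10.f187307 IH) (Lpe (f187312 IH) (Lpr_gf (f352928 IH) (Lpe (f231253 IH) (Lpe (f310750 IH) (Lpe (K24.f182859 IH) (Lpr_gt (f352096 IH) (Lpn (LP (LK LD1_c10 LD2_c35 LD3_c41))))))))))))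
theorem f187314 : Led Lsl_ct (LP (LK LD1_c4 LD2_c6 LD3_c37)) = (LP (LK LD1_c8 LD2_c13 LD3_c47)) :=
  Lre_c IH (LK LD1_c4 LD2_c6 LD3_c37) (LK LD1_c8 LD2_c13 LD3_c47) Lrfl Lrfl
theorem f187311 : Led Lsl_bt (LP (LK LD1_c4 LD2_c6 LD3_c37)) = (LP (LK LD1_c8 LD2_c13 LD3_c44)) :=
  Lre_b IH (LK LD1_c4 LD2_c6 LD3_c37) (LK LD1_c8 LD2_c13 LD3_c44) Lrfl Lrfl
theorem f188126 : Led Lsl_gt (LP (LK LD1_c8 LD2_c13 LD3_c44)) = (LP (LK LD1_c15 LD2_c28 LD3_c45)) :=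
  Lre_g IH (LK LD1_c8 LD2_c13 LD3_c44) (LK LD1_c15 LD2_c28 LD3_c45) Lrfl Lrfl
theorem f352945 : Led Lsl_bf (LP (LK LD1_c15 LD2_c28 LD3_c45)) = (LP (LK LD1_c17 LD2_c48 LD3_c61)) :=
  Lgr Lrot34 (Lpe (f188126 IH) (Lpe (f187311 IH) (Lpr_ct (f187314 IH) (Lpe (f187322 IH) (Lpr_cf (f352934 IH) (Lpe (f352096 IH) (Lpe (K17.f182840 IH) (Lpr_ct (K17.f182854 IH) (Lpr_gf (f311095 IH) (Lpe (f352343 IH) (Lpn (LP (LK LD1_c17 LD2_c48 LD3_c61)))))))))))))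
theorem f352149 : Led Lsl_bf (LP (LK LD1_c6 LD2_c5 LD3_c7)) = (LP (LK LD1_c5 LD2_c21 LD3_c58)) :=
  Lgr Lrot24 (Lpr_bt (f352145 IH) (Lpn (LP (LK LD1_c5 LD2_c21 LD3_c58))))
theorem f352952 : Led Lsl_gt (LP (LK LD1_c15 LD2_c28 LD3_c45)) = (LP (LK LD1_c10 LD2_c24 LD3_c21)) :=
  Lgr Lrot164 (Lpr_bf (f352945 IH) (Lpr_ct (f352343 IH) (Lpe (f42394 IH) (Lpe (K19.f42384 IH) (Lpe (f42287 IH) (Lpr_bf (f352149 IH) (Lpr_ct (f199031 IH) (Lpr_gf (f345418 IH) (Lpr_cf (K22.f187689 IH) (Lpr_bt (K22.f187699 IH) (Lpn (LP (LK LD1_c10 LD2_c24 LD3_c21)))))))))))))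
theorem f352954 : Led Lsl_at (LP (LK LD1_c15 LD2_c28 LD3_c47)) = (LP (LK LD1_c10 LD2_c24 LD3_c21)) :=
  Lgr Lrot26 (Lpe (K21.f188123 IH) (Lpr_gt (f188126 IH) (Lpr_gt (f352952 IH) (Lpn (LP (LK LD1_c10 LD2_c24 LD3_c21))))))
theorem f188138 : Led Lsl_bt (LP (LK LD1_c15 LD2_c28 LD3_c47)) = (LP (LK LD1_c8 LD2_c13 LD3_c49)) :=
  Lre_b IH (LK LD1_c15 LD2_c28 LD3_c47) (LK LD1_c8 LD2_c13 LD3_c49) Lrfl Lrfl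
theorem f325180 : Led Lsl_et (LP (LK LD1_c10 LD2_c24 LD3_c17)) = (LP (LK LD1_c15 LD2_c28 LD3_c47)) :=
  Lgr Lrot74 (Lpr_bf (K21.f191456 IH) (Lpr_ef (K21.f325178 IH) (Lpe (f188138 IH) (Lpn (LP (LK LD1_c15 LD2_c28 LD3_c47))))))
theorem f352960 : Led Lsl_ef (LP (LK LD1_c18 LD2_c51 LD3_c27)) = (LP (LK LD1_c10 LD2_c24 LD3_c21)) :=
  Lgr Lrot20 (Lpe (K21.f325214 IH) (Lpr_et (f325180 IH) (Lpr_at (f352954 IH) (Lpn (LP (LK LD1_c10 LD2_c24 LD3_c21))))))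
theorem f353105 : Led Lsl_bt (LP (LK LD1_c18 LD2_c51 LD3_c27)) = (LP (LK LD1_c16 LD2_c19 LD3_c60)) :=
  Lgr Lrot119 (Lpr_ef (f352960 IH) (Lpe (K22.f187699 IH) (Lpr_ef (K22.f336577 IH) (Lpn (LP (LK LD1_c16 LD2_c19 LD3_c60))))))
theorem f345509 : Led Lsl_df (LP (LK LD1_c10 LD2_c31 LD3_c54)) = (LP (LK LD1_c5 LD2_c23 LD3_c54)) :=
  Lgr Lrot38 (Lpr_dt (K24.f345504 IH) (Lpn (LP (LK LD1_c5 LD2_c23 LD3_c54))))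
theorem f281004 : Led Lsl_df (LP (LK LD1_c2 LD2_c12 LD3_c2)) = (LP (LK LD1_c1 LD2_c17 LD3_c52)) :=
  Lgr Lrot38 (Lpr_dt (K22.f280999 IH) (Lpn (LP (LK LD1_c1 LD2_c17 LD3_c52))))
theorem f264643 : Led Lsl_bt (LP (LK LD1_c2 LD2_c42 LD3_c38)) = (LP (LK LD1_c1 LD2_c17 LD3_c52)) :=
  Lre_b IH (LK LD1_c2 LD2_c42 LD3_c38) (LK LD1_c1 LD2_c17 LD3_c52) Lrfl Lrfl
theorem f281030 : Led Lsl_dt (LP (LK LD1_c4 LD2_c30 LD3_c2)) = (LP (LK LD1_c2 LD2_c42 LD3_c38)) :=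
  Lgr Lrot79 (Lpe (K22.f281014 IH) (Lpr_df (f281004 IH) (Lpe (f264643 IH) (Lpn (LP (LK LD1_c2 LD2_c42 LD3_c38))))))
theorem f343711 : Led Lsl_ef (LP (LK LD1_c11 LD2_c55 LD3_c51)) = (LP (LK LD1_c10 LD2_c44 LD3_c27)) :=
  Lgr Lrot73 (Lpr_dt (K22.f281029 IH) (Lpe (K22.f281010 IH) (Lpr_dt (f281030 IH) (Lpr_et (K23.f343705 IH) (Lpr_dt (K23.f343699 IH) (Lpn (LP (LK LD1_c10 LD2_c44 LD3_c27))))))))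
theorem f345559 : Led Lsl_gt (LP (LK LD1_c10 LD2_c31 LD3_c54)) = (LP (LK LD1_c5 LD2_c25 LD3_c49)) :=
  Lgr Lrot139 (Lpr_df (f345509 IH) (Lpr_gf (K23.f315908 IH) (Lpe (K22.f315922 IH) (Lpr_dt (K20.f315920 IH) (Lpr_gf (K23.f343697 IH) (Lpe (K23.f343704 IH) (Lpe (f343711 IH) (Lpr_gf (K22.f333827 IH) (Lpe (K16.f215480 IH) (Lpe (K20.f215478 IH) (Lpn (LP (LK LD1_c5 LD2_c25 LD3_c49)))))))))))))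
theorem f255819 : Led Lsl_gt (LP (LK LD1_c5 LD2_c23 LD3_c55)) = (LP (LK LD1_c10 LD2_c38 LD3_c25)) :=
  Lre_g IH (LK LD1_c5 LD2_c23 LD3_c55) (LK LD1_c10 LD2_c38 LD3_c25) Lrfl Lrfl
theorem f255858 : Led Lsl_ct (LP (LK LD1_c10 LD2_c38 LD3_c25)) = (LP (LK LD1_c19 LD2_c16 LD3_c32)) :=
  Lre_c IH (LK LD1_c10 LD2_c38 LD3_c25) (LK LD1_c19 LD2_c16 LD3_c32) Lrfl Lrfl
theorem f215511 : Led Lsl_ct (LP (LK LD1_c5 LD2_c25 LD3_c49)) = (LP (LK LD1_c10 LD2_c42 LD3_c52)) :=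
  Lre_c IH (LK LD1_c5 LD2_c25 LD3_c49) (LK LD1_c10 LD2_c42 LD3_c52) Lrfl Lrfl
theorem f169195 : Led Lsl_dt (LP (LK LD1_c19 LD2_c4 LD3_c20)) = (LP (LK LD1_c10 LD2_c31 LD3_c23)) :=
  Lre_d IH (LK LD1_c19 LD2_c4 LD3_c20) (LK LD1_c10 LD2_c31 LD3_c23) Lrfl Lrfl
theorem f228441 : Led Lsl_gt (LP (LK LD1_c5 LD2_c23 LD3_c48)) = (LP (LK LD1_c10 LD2_c38 LD3_c13)) :=
  Lre_g IH (LK LD1_c5 LD2_c23 LD3_c48) (LK LD1_c10 LD2_c38 LD3_c13) Lrfl Lrfl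
theorem f303103 : Led Lsl_gt (LP (LK LD1_c10 LD2_c38 LD3_c13)) = (LP (LK LD1_c19 LD2_c4 LD3_c20)) :=
  Lgr Lrot46 (Lpe (f228441 IH) (Lpr_ft (K18.f303100 IH) (Lpr_at (K18.f303090 IH) (Lpn (LP (LK LD1_c19 LD2_c4 LD3_c20))))))
theorem f221610 : Led Lsl_et (LP (LK LD1_c2 LD2_c38 LD3_c26)) = (LP (LK LD1_c1 LD2_c16 LD3_c8)) :=
  Lre_e IH (LK LD1_c2 LD2_c38 LD3_c26) (LK LD1_c1 LD2_c16 LD3_c8) Lrfl Lrfl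
theorem f228443 : Led Lsl_et (LP (LK LD1_c19 LD2_c8 LD3_c15)) = (LP (LK LD1_c10 LD2_c33 LD3_c57)) :=
  Lre_e IH (LK LD1_c19 LD2_c8 LD3_c15) (LK LD1_c10 LD2_c33 LD3_c57) Lrfl Lrfl
theorem f228444 : Led Lsl_df (LP (LK LD1_c10 LD2_c38 LD3_c13)) = (LP (LK LD1_c19 LD2_c8 LD3_c15)) :=
  Lgr Lrot168 (Lpe (f228441 IH) (Lpe (K18.f221611 IH) (Lpr_et (f221610 IH) (Lpr_gf (K18.f228423 IH) (Lpe (K18.f228420 IH) (Lpr_dt (K18.f228438 IH) (Lpe (K18.f228439 IH) (Lpe (K16.f215818 IH) (Lpe (K21.f228442 IH) (Lpe (f228443 IH) (Lpn (LP (LK LD1_c19 LD2_c8 LD3_c15)))))))))))))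
theorem f322517 : Led Lsl_gf (LP (LK LD1_c19 LD2_c8 LD3_c15)) = (LP (LK LD1_c10 LD2_c42 LD3_c52)) :=
  Lgr Lrot144 (Lpe (f228444 IH) (Lpr_gt (f303103 IH) (Lpr_dt (f169195 IH) (Lpe (K19.f169196 IH) (Lpe (K15.f184280 IH) (Lpr_gf (K22.f322515 IH) (Lpe (K16.f256509 IH) (Lpe (K21.f322511 IH) (Lpe (K20.f215473 IH) (Lpn (LP (LK LD1_c10 LD2_c42 LD3_c52))))))))))))
theorem f321181 : Led Lsl_cf (LP (LK LD1_c10 LD2_c33 LD3_c57)) = (LP (LK LD1_c15 LD2_c28 LD3_c26)) :=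
  Lgr Lrot166 (Lpr_gt (K21.f228442 IH) (Lpr_dt (K16.f215818 IH) (Lpr_gt (K18.f228439 IH) (Lpr_dt (K18.f228501 IH) (Lpe (K18.f228546 IH) (Lpr_df (K20.f200437 IH) (Lpe (K20.f321169 IH) (Lpr_df (K20.f321175 IH) (Lpe (K21.f182635 IH) (Lpn (LP (LK LD1_c15 LD2_c28 LD3_c26))))))))))))
theorem f228456 : Led Lsl_et (LP (LK LD1_c10 LD2_c33 LD3_c57)) = (LP (LK LD1_c19 LD2_c8 LD3_c15)) :=
  Lre_e IH (LK LD1_c10 LD2_c33 LD3_c57) (LK LD1_c19 LD2_c8 LD3_c15) Lrfl Lrfl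
theorem f321183 : Led Lsl_et (LP (LK LD1_c25 LD2_c20 LD3_c37)) = (LP (LK LD1_c15 LD2_c28 LD3_c26)) :=
  Lre_e IH (LK LD1_c25 LD2_c20 LD3_c37) (LK LD1_c15 LD2_c28 LD3_c26) Lrfl Lrfl
theorem f321185 : Led Lsl_ct (LP (LK LD1_c19 LD2_c8 LD3_c15)) = (LP (LK LD1_c25 LD2_c20 LD3_c37)) :=
  Lgr Lrot15 (Lpe (f228456 IH) (Lpr_cf (f321181 IH) (Lpe (f321183 IH) (Lpn (LP (LK LD1_c25 LD2_c20 LD3_c37))))))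
theorem f345565 : Led Lsl_df (LP (LK LD1_c19 LD2_c16 LD3_c32)) = (LP (LK LD1_c25 LD2_c20 LD3_c37)) :=
  Lgr Lrot162 (Lpe (f255858 IH) (Lpe (f255819 IH) (Lpe (K20.f255764 IH) (Lpe (K19.f224205 IH) (Lpe (f345509 IH) (Lpr_gt (f345559 IH) (Lpr_ct (f215511 IH) (Lpe (f322517 IH) (Lpr_ct (f321185 IH) (Lpn (LP (LK LD1_c25 LD2_c20 LD3_c37))))))))))))
theorem f182741 : Led Lsl_et (LP (LK LD1_c4 LD2_c6 LD3_c32)) = (LP (LK LD1_c8 LD2_c13 LD3_c36)) :=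
  Lre_e IH (LK LD1_c4 LD2_c6 LD3_c32) (LK LD1_c8 LD2_c13 LD3_c36) Lrfl Lrfl
theorem f288509 : Led Lsl_gt (LP (LK LD1_c5 LD2_c15 LD3_c30)) = (LP (LK LD1_c2 LD2_c37 LD3_c14)) :=
  Lgr Lrot180 (Lpr_ct (K17.f288495 IH) (Lpe (K22.f278620 IH) (Lpr_dt (K17.f283893 IH) (Lpr_gt (K17.f283894 IH) (Lpr_dt (K14.f190648 IH) (Lpe (K14.f190716 IH) (Lpe (K1.f46126 IH) (Lpr_gf (K10.f194156 IH) (Lpe (K14.f43962 IH) (Lpn (LP (LK LD1_c2 LD2_c37 LD3_c14))))))))))))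
theorem f321240 : Led Lsl_gf (LP (LK LD1_c2 LD2_c43 LD3_c57)) = (LP (LK LD1_c4 LD2_c54 LD3_c47)) :=
  Lgr Lrot144 (Lpr_dt (K15.f189263 IH) (Lpr_gt (K15.f261321 IH) (Lpr_dt (K14.f27711 IH) (Lpe (K10.f190352 IH) (Lpe (K14.f43962 IH) (Lpe (f288509 IH) (Lpr_df (K17.f288504 IH) (Lpe (K17.f288551 IH) (Lpr_cf (K20.f321230 IH) (Lpn (LP (LK LD1_c4 LD2_c54 LD3_c47))))))))))))
theorem f345567 : Led Lsl_gf (LP (LK LD1_c19 LD2_c16 LD3_c32)) = (LP (LK LD1_c14 LD2_c58 LD3_c10)) :=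
  Lgr Lrot134 (Lpr_df (f345565 IH) (Lpr_et (f321183 IH) (Lpr_gt (K21.f182635 IH) (Lpe (f182741 IH) (Lpe (K20.f321214 IH) (Lpe (f321240 IH) (Lpe (K15.f189260 IH) (Lpe (K22.f216456 IH) (Lpr_gt (K19.f259262 IH) (Lpe (K22.f229590 IH) (Lpn (LP (LK LD1_c14 LD2_c58 LD3_c10)))))))))))))
theorem f219361 : Led Lsl_dt (LP (LK LD1_c8 LD2_c23 LD3_c59)) = (LP (LK LD1_c8 LD2_c23 LD3_c59)) :=
  Lgr Lrot79 (Lpe (K20.f219359 IH) (Lpr_df (K12.f219357 IH) (Lpe (K12.f219360 IH) (Lpn (LP (LK LD1_c8 LD2_c23 LD3_c59))))))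
theorem f219377 : Led Lsl_gt (LP (LK LD1_c15 LD2_c47 LD3_c34)) = (LP (LK LD1_c8 LD2_c23 LD3_c59)) :=
  Lre_g IH (LK LD1_c15 LD2_c47 LD3_c34) (LK LD1_c8 LD2_c23 LD3_c59) Lrfl Lrfl
theorem f219378 : Led Lsl_dt (LP (LK LD1_c25 LD2_c44 LD3_c17)) = (LP (LK LD1_c15 LD2_c47 LD3_c34)) :=
  Lre_d IH (LK LD1_c25 LD2_c44 LD3_c17) (LK LD1_c15 LD2_c47 LD3_c34) Lrfl Lrfl
theorem f345571 : Led Lsl_ef (LP (LK LD1_c19 LD2_c16 LD3_c32)) = (LP (LK LD1_c25 LD2_c44 LD3_c17)) :=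
  Lgr Lrot17 (Lpr_gf (f345567 IH) (Lpe (K19.f229582 IH) (Lpr_dt (K17.f229580 IH) (Lpe (K17.f259253 IH) (Lpr_df (K17.f229255 IH) (Lpr_gf (K12.f219453 IH) (Lpe (K12.f219376 IH) (Lpr_dt (f219361 IH) (Lpe (f219377 IH) (Lpe (f219378 IH) (Lpn (LP (LK LD1_c25 LD2_c44 LD3_c17)))))))))))))
theorem f345563 : Led Lsl_dt (LP (LK LD1_c19 LD2_c16 LD3_c32)) = (LP (LK LD1_c25 LD2_c20 LD3_c37)) :=
  Lgr Lrot27 (Lpe (f255858 IH) (Lpe (f255819 IH) (Lpe (K20.f255764 IH) (Lpe (K19.f224205 IH) (Lpe (K24.f345504 IH) (Lpr_gt (f345559 IH) (Lpr_ct (f215511 IH) (Lpe (f322517 IH) (Lpr_ct (f321185 IH) (Lpn (LP (LK LD1_c25 LD2_c20 LD3_c37))))))))))))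
theorem f182743 : Led Lsl_dt (LP (LK LD1_c15 LD2_c28 LD3_c26)) = (LP (LK LD1_c25 LD2_c20 LD3_c36)) :=
  Lre_d IH (LK LD1_c15 LD2_c28 LD3_c26) (LK LD1_c25 LD2_c20 LD3_c36) Lrfl Lrfl
theorem f219543 : Led Lsl_dt (LP (LK LD1_c15 LD2_c47 LD3_c34)) = (LP (LK LD1_c25 LD2_c44 LD3_c17)) :=
  Lre_d IH (LK LD1_c15 LD2_c47 LD3_c34) (LK LD1_c25 LD2_c44 LD3_c17) Lrfl Lrfl
theorem f345576 : Led Lsl_et (LP (LK LD1_c25 LD2_c20 LD3_c36)) = (LP (LK LD1_c15 LD2_c47 LD3_c34)) :=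
  Lgr Lrot71 (Lpe (f182743 IH) (Lpe (f321183 IH) (Lpe (f345563 IH) (Lpr_ef (f345571 IH) (Lpe (f219543 IH) (Lpn (LP (LK LD1_c15 LD2_c47 LD3_c34))))))))
theorem f182742 : Led Lsl_dt (LP (LK LD1_c25 LD2_c20 LD3_c36)) = (LP (LK LD1_c15 LD2_c28 LD3_c26)) :=
  Lre_d IH (LK LD1_c25 LD2_c20 LD3_c36) (LK LD1_c15 LD2_c28 LD3_c26) Lrfl Lrfl
theorem f219373 : Led Lsl_et (LP (LK LD1_c4 LD2_c12 LD3_c10)) = (LP (LK LD1_c8 LD2_c23 LD3_c59)) :=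
  Lre_e IH (LK LD1_c4 LD2_c12 LD3_c10) (LK LD1_c8 LD2_c23 LD3_c59) Lrfl Lrfl
theorem f200551 : Led Lsl_et (LP (LK LD1_c2 LD2_c8 LD3_c46)) = (LP (LK LD1_c4 LD2_c22 LD3_c41)) :=
  Lre_e IH (LK LD1_c2 LD2_c8 LD3_c46) (LK LD1_c4 LD2_c22 LD3_c41) Lrfl Lrfl
theorem f345585 : Led Lsl_gf (LP (LK LD1_c15 LD2_c28 LD3_c26)) = (LP (LK LD1_c16 LD2_c19 LD3_c60)) :=
  Lgr Lrot134 (Lpe (f182742 IH) (Lpr_et (f345576 IH) (Lpr_gt (f219377 IH) (Lpe (f219373 IH) (Lpr_dt (K12.f219375 IH) (Lpe (K12.f219450 IH) (Lpe (K12.f200526 IH) (Lpr_et (f200551 IH) (Lpr_gt (K22.f200532 IH) (Lpr_dt (K22.f200533 IH) (Lpn (LP (LK LD1_c16 LD2_c19 LD3_c60)))))))))))))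
theorem f292422 : Led Lsl_dt (LP (LK LD1_c15 LD2_c36 LD3_c39)) = (LP (LK LD1_c8 LD2_c18 LD3_c2)) :=
  Lre_d IH (LK LD1_c15 LD2_c36 LD3_c39) (LK LD1_c8 LD2_c18 LD3_c2) Lrfl Lrfl
theorem f352620 : Led Lsl_df (LP (LK LD1_c5 LD2_c32 LD3_c31)) = (LP (LK LD1_c8 LD2_c8 LD3_c38)) :=
  Lgr Lrot168 (Lpr_gf (f352612 IH) (Lpr_df (K23.f42226 IH) (Lpe (K23.f340063 IH) (Lpr_gf (K22.f337609 IH) (Lpr_ef (K21.f331316 IH) (Lpe (K21.f331310 IH) (Lpe (K19.f219693 IH) (Lpe (f292422 IH) (Lpr_gf (K23.f348512 IH) (Lpe (f352592 IH) (Lpn (LP (LK LD1_c8 LD2_c8 LD3_c38)))))))))))))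
theorem f352622 : Led Lsl_et (LP (LK LD1_c5 LD2_c32 LD3_c31)) = (LP (LK LD1_c10 LD2_c33 LD3_c42)) :=
  Lgr Lrot71 (Lpr_df (f352620 IH) (Lpr_ef (f352590 IH) (Lpe (f311396 IH) (Lpe (f352598 IH) (Lpe (f284472 IH) (Lpn (LP (LK LD1_c10 LD2_c33 LD3_c42))))))))
theorem f352624 : Led Lsl_bf (LP (LK LD1_c5 LD2_c32 LD3_c33)) = (LP (LK LD1_c10 LD2_c33 LD3_c42)) :=
  Lgr Lrot96 (Lpr_et (K20.f213273 IH) (Lpr_bt (f282543 IH) (Lpr_et (f352622 IH) (Lpn (LP (LK LD1_c10 LD2_c33 LD3_c42))))))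
theorem f352626 : Led Lsl_bt (LP (LK LD1_c5 LD2_c32 LD3_c33)) = (LP (LK LD1_c10 LD2_c33 LD3_c42)) :=
  Lgr Lrot127 (Lpr_bf (f352624 IH) (Lpn (LP (LK LD1_c10 LD2_c33 LD3_c42))))
theorem f282513 : Led Lsl_ct (LP (LK LD1_c5 LD2_c32 LD3_c33)) = (LP (LK LD1_c10 LD2_c56 LD3_c51)) :=
  Lre_c IH (LK LD1_c5 LD2_c32 LD3_c33) (LK LD1_c10 LD2_c56 LD3_c51) Lrfl Lrfl
theorem f353109 : Led Lsl_gf (LP (LK LD1_c15 LD2_c32 LD3_c45)) = (LP (LK LD1_c10 LD2_c56 LD3_c51)) :=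
  Lgr Lrot126 (Lpe (K23.f184141 IH) (Lpr_bt (f353105 IH) (Lpe (f345585 IH) (Lpe (f321181 IH) (Lpr_gt (K21.f228442 IH) (Lpe (K21.f254326 IH) (Lpr_bt (K21.f250985 IH) (Lpr_gt (f250993 IH) (Lpe (f352626 IH) (Lpr_ct (f282513 IH) (Lpn (LP (LK LD1_c10 LD2_c56 LD3_c51)))))))))))))
theorem f184147 : Led Lsl_cf (LP (LK LD1_c18 LD2_c51 LD3_c27)) = (LP (LK LD1_c15 LD2_c32 LD3_c45)) :=
  Lgr Lrot11 (Lpr_ct (K23.f184141 IH) (Lpn (LP (LK LD1_c15 LD2_c32 LD3_c45))))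
theorem f236172 : Led Lsl_gt (LP (LK LD1_c4 LD2_c15 LD3_c61)) = (LP (LK LD1_c8 LD2_c31 LD3_c2)) :=
  Lre_g IH (LK LD1_c4 LD2_c15 LD3_c61) (LK LD1_c8 LD2_c31 LD3_c2) Lrfl Lrfl
theorem f236173 : Led Lsl_ct (LP (LK LD1_c8 LD2_c31 LD3_c2)) = (LP (LK LD1_c15 LD2_c59 LD3_c29)) :=
  Lre_c IH (LK LD1_c8 LD2_c31 LD3_c2) (LK LD1_c15 LD2_c59 LD3_c29) Lrfl Lrfl
theorem f353113 : Led Lsl_df (LP (LK LD1_c18 LD2_c51 LD3_c27)) = (LP (LK LD1_c15 LD2_c59 LD3_c29)) :=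
  Lgr Lrot162 (Lpr_cf (f184147 IH) (Lpr_gf (f353109 IH) (Lpe (f282513 IH) (Lpr_gf (K21.f282509 IH) (Lpe (K14.f236166 IH) (Lpr_gt (K14.f1407 IH) (Lpr_ct (K22.f236171 IH) (Lpr_gt (f236172 IH) (Lpr_ct (f236173 IH) (Lpn (LP (LK LD1_c15 LD2_c59 LD3_c29))))))))))))
theorem f343757 : Led Lsl_et (LP (LK LD1_c9 LD2_c38 LD3_c36)) = (LP (LK LD1_c17 LD2_c44 LD3_c55)) :=
  Lre_e IH (LK LD1_c9 LD2_c38 LD3_c36) (LK LD1_c17 LD2_c44 LD3_c55) Lrfl Lrfl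
theorem f343758 : Led Lsl_df (LP (LK LD1_c10 LD2_c24 LD3_c16)) = (LP (LK LD1_c17 LD2_c44 LD3_c55)) :=
  Lgr Lrot70 (Lpr_et (K23.f301110 IH) (Lpe (K23.f301106 IH) (Lpr_et (K23.f343754 IH) (Lpr_dt (K23.f343756 IH) (Lpr_et (f343757 IH) (Lpn (LP (LK LD1_c17 LD2_c44 LD3_c55))))))))
theorem f343762 : Led Lsl_et (LP (LK LD1_c17 LD2_c44 LD3_c55)) = (LP (LK LD1_c9 LD2_c38 LD3_c36)) :=
  Lre_e IH (LK LD1_c17 LD2_c44 LD3_c55) (LK LD1_c9 LD2_c38 LD3_c36) Lrfl Lrfl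
theorem f353174 : Led Lsl_gt (LP (LK LD1_c9 LD2_c41 LD3_c42)) = (LP (LK LD1_c15 LD2_c59 LD3_c29)) :=
  Lgr Lrot137 (Lpe (K21.f219101 IH) (Lpr_dt (K15.f219089 IH) (Lpe (K16.f235779 IH) (Lpe (K16.f278080 IH) (Lpr_et (K23.f278097 IH) (Lpr_gf (K23.f343764 IH) (Lpe (f343762 IH) (Lpe (f343758 IH) (Lpe (K23.f343736 IH) (Lpr_df (f353113 IH) (Lpn (LP (LK LD1_c15 LD2_c59 LD3_c29)))))))))))))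
theorem f336740 : Led Lsl_et (LP (LK LD1_c18 LD2_c51 LD3_c27)) = (LP (LK LD1_c10 LD2_c24 LD3_c21)) :=
  Lgr Lrot74 (Lpr_bf (K23.f336571 IH) (Lpr_ef (K22.f336736 IH) (Lpe (K10.f187696 IH) (Lpn (LP (LK LD1_c10 LD2_c24 LD3_c21))))))
theorem f187208 : Led Lsl_ft (LP (LK LD1_c8 LD2_c26 LD3_c22)) = (LP (LK LD1_c15 LD2_c50 LD3_c61)) :=
  Lre_f IH (LK LD1_c8 LD2_c26 LD3_c22) (LK LD1_c15 LD2_c50 LD3_c61) Lrfl Lrfl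
theorem f312018 : Led Lsl_et (LP (LK LD1_c15 LD2_c50 LD3_c61)) = (LP (LK LD1_c8 LD2_c26 LD3_c48)) :=
  Lgr Lrot69 (Lpe (f187208 IH) (Lpe (K10.f50877 IH) (Lpr_ff (K19.f312012 IH) (Lpe (K21.f220521 IH) (Lpe (K21.f260975 IH) (Lpn (LP (LK LD1_c8 LD2_c26 LD3_c48))))))))
theorem f260981 : Led Lsl_df (LP (LK LD1_c10 LD2_c50 LD3_c29)) = (LP (LK LD1_c8 LD2_c26 LD3_c48)) :=
  Lgr Lrot38 (Lpr_dt (K21.f260976 IH) (Lpn (LP (LK LD1_c8 LD2_c26 LD3_c48))))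
theorem f353170 : Led Lsl_et (LP (LK LD1_c10 LD2_c50 LD3_c29)) = (LP (LK LD1_c15 LD2_c59 LD3_c29)) :=
  Lgr Lrot71 (Lpr_df (f260981 IH) (Lpe (f312018 IH) (Lpe (K10.f191739 IH) (Lpe (f336740 IH) (Lpr_df (f353113 IH) (Lpn (LP (LK LD1_c15 LD2_c59 LD3_c29))))))))
theorem f353179 : Led Lsl_gf (LP (LK LD1_c8 LD2_c10 LD3_c15)) = (LP (LK LD1_c8 LD2_c26 LD3_c48)) :=
  Lgr Lrot145 (Lpr_df (K23.f224909 IH) (Lpr_et (K20.f171048 IH) (Lpe (K16.f278081 IH) (Lpr_dt (K16.f278080 IH) (Lpr_gt (K16.f235779 IH) (Lpe (K15.f219089 IH) (Lpr_et (K21.f219101 IH) (Lpr_gt (f353174 IH) (Lpe (f353170 IH) (Lpr_dt (K21.f260976 IH) (Lpn (LP (LK LD1_c8 LD2_c26 LD3_c48)))))))))))))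
theorem f278100 : Led Lsl_gt (LP (LK LD1_c5 LD2_c27 LD3_c25)) = (LP (LK LD1_c10 LD2_c45 LD3_c54)) :=
  Lre_g IH (LK LD1_c5 LD2_c27 LD3_c25) (LK LD1_c10 LD2_c45 LD3_c54) Lrfl Lrfl
theorem f278102 : Led Lsl_dt (LP (LK LD1_c19 LD2_c27 LD3_c59)) = (LP (LK LD1_c10 LD2_c45 LD3_c54)) :=
  Lre_d IH (LK LD1_c19 LD2_c27 LD3_c59) (LK LD1_c10 LD2_c45 LD3_c54) Lrfl Lrfl
theorem f220111 : Led Lsl_gt (LP (LK LD1_c8 LD2_c25 LD3_c18)) = (LP (LK LD1_c15 LD2_c49 LD3_c27)) :=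
  Lre_g IH (LK LD1_c8 LD2_c25 LD3_c18) (LK LD1_c15 LD2_c49 LD3_c27) Lrfl Lrfl
theorem f329501 : Led Lsl_gf (LP (LK LD1_c10 LD2_c50 LD3_c29)) = (LP (LK LD1_c15 LD2_c49 LD3_c27)) :=
  Lgr Lrot76 (Lpr_af (K21.f329497 IH) (Lpe (K21.f220108 IH) (Lpr_gt (f220111 IH) (Lpn (LP (LK LD1_c15 LD2_c49 LD3_c27))))))
theorem f353183 : Led Lsl_et (LP (LK LD1_c19 LD2_c27 LD3_c59)) = (LP (LK LD1_c15 LD2_c49 LD3_c27)) :=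
  Lgr Lrot121 (Lpr_dt (f278102 IH) (Lpe (f278100 IH) (Lpr_df (K23.f278098 IH) (Lpr_et (K23.f278092 IH) (Lpr_gf (K16.f278081 IH) (Lpe (K20.f171048 IH) (Lpe (K23.f224909 IH) (Lpr_gf (f353179 IH) (Lpe (K21.f260976 IH) (Lpr_gf (f329501 IH) (Lpn (LP (LK LD1_c15 LD2_c49 LD3_c27)))))))))))))
theorem f212844 : Led Lsl_et (LP (LK LD1_c5 LD2_c29 LD3_c32)) = (LP (LK LD1_c2 LD2_c41 LD3_c2)) :=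
  Lre_e IH (LK LD1_c5 LD2_c29 LD3_c32) (LK LD1_c2 LD2_c41 LD3_c2) Lrfl Lrfl
theorem f353190 : Led Lsl_gt (LP (LK LD1_c10 LD2_c45 LD3_c54)) = (LP (LK LD1_c5 LD2_c29 LD3_c32)) :=
  Lgr Lrot112 (Lpe (f278102 IH) (Lpr_et (f353183 IH) (Lpe (f220111 IH) (Lpe (K21.f220123 IH) (Lpe (K24.f246639 IH) (Lpe (K14.f254795 IH) (Lpe (K12.f33199 IH) (Lpr_gf (K12.f219928 IH) (Lpe (f212844 IH) (Lpr_dt (K23.f212836 IH) (Lpn (LP (LK LD1_c5 LD2_c29 LD3_c32)))))))))))))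
theorem f353187 : Led Lsl_et (LP (LK LD1_c19 LD2_c27 LD3_c60)) = (LP (LK LD1_c10 LD2_c45 LD3_c54)) :=
  Lre_e IH (LK LD1_c19 LD2_c27 LD3_c60) (LK LD1_c10 LD2_c45 LD3_c54) Lrfl Lrfl
theorem f212842 : Led Lsl_et (LP (LK LD1_c2 LD2_c41 LD3_c2)) = (LP (LK LD1_c5 LD2_c29 LD3_c32)) :=
  Lre_e IH (LK LD1_c2 LD2_c41 LD3_c2) (LK LD1_c5 LD2_c29 LD3_c32) Lrfl Lrfl
theorem f295911 : Led Lsl_gt (LP (LK LD1_c10 LD2_c50 LD3_c37)) = (LP (LK LD1_c19 LD2_c36 LD3_c7)) :=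
  Lre_g IH (LK LD1_c10 LD2_c50 LD3_c37) (LK LD1_c19 LD2_c36 LD3_c7) Lrfl Lrfl
theorem f353194 : Led Lsl_dt (LP (LK LD1_c19 LD2_c27 LD3_c60)) = (LP (LK LD1_c19 LD2_c36 LD3_c7)) :=
  Lgr Lrot56 (Lpr_et (f353187 IH) (Lpr_gt (f353190 IH) (Lpe (f212842 IH) (Lpr_dt (K14.f212774 IH) (Lpr_gt (K12.f168537 IH) (Lpe (K12.f168351 IH) (Lpr_et (K14.f168366 IH) (Lpr_gt (K20.f168511 IH) (Lpr_dt (K21.f168512 IH) (Lpr_gt (f295911 IH) (Lpn (LP (LK LD1_c19 LD2_c36 LD3_c7)))))))))))))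
theorem f231616 : Led Lsl_gt (LP (LK LD1_c15 LD2_c55 LD3_c21)) = (LP (LK LD1_c8 LD2_c28 LD3_c48)) :=
  Lre_g IH (LK LD1_c15 LD2_c55 LD3_c21) (LK LD1_c8 LD2_c28 LD3_c48) Lrfl Lrfl
theorem f295912 : Led Lsl_ct (LP (LK LD1_c19 LD2_c36 LD3_c7)) = (LP (LK LD1_c15 LD2_c55 LD3_c21)) :=
  Lgr Lrot152 (Lpe (f295911 IH) (Lpe (K21.f168512 IH) (Lpr_gt (K20.f286132 IH) (Lpr_ct (K18.f295850 IH) (Lpe (K18.f295836 IH) (Lpr_ct (K17.f236292 IH) (Lpe (K17.f236268 IH) (Lpe (K18.f231602 IH) (Lpe (f231616 IH) (Lpn (LP (LK LD1_c15 LD2_c55 LD3_c21))))))))))))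
theorem f353115 : Led Lsl_bf (LP (LK LD1_c15 LD2_c28 LD3_c26)) = (LP (LK LD1_c19 LD2_c36 LD3_c7)) :=
  Lgr Lrot34 (Lpr_gf (f345585 IH) (Lpe (f353105 IH) (Lpr_ct (K23.f184141 IH) (Lpr_gf (f353109 IH) (Lpe (f282513 IH) (Lpr_gf (K21.f282509 IH) (Lpe (K18.f231598 IH) (Lpr_ct (K18.f231613 IH) (Lpe (f231616 IH) (Lpe (f295912 IH) (Lpn (LP (LK LD1_c19 LD2_c36 LD3_c7)))))))))))))
theorem f228522 : Led Lsl_ct (LP (LK LD1_c28 LD2_c34 LD3_c1)) = (LP (LK LD1_c19 LD2_c8 LD3_c18)) :=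
  Lre_c IH (LK LD1_c28 LD2_c34 LD3_c1) (LK LD1_c19 LD2_c8 LD3_c18) Lrfl Lrfl
theorem f305440 : Led Lsl_at (LP (LK LD1_c25 LD2_c39 LD3_c38)) = (LP (LK LD1_c15 LD2_c43 LD3_c55)) :=
  Lre_a IH (LK LD1_c25 LD2_c39 LD3_c38) (LK LD1_c15 LD2_c43 LD3_c55) Lrfl Lrfl
theorem f305441 : Led Lsl_df (LP (LK LD1_c25 LD2_c39 LD3_c38)) = (LP (LK LD1_c28 LD2_c33 LD3_c60)) :=
  Lgr Lrot18 (Lpr_at (f305440 IH) (Lpr_dt (K17.f288994 IH) (Lpr_at (K20.f305434 IH) (Lpn (LP (LK LD1_c28 LD2_c33 LD3_c60))))))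
theorem f276750 : Led Lsl_ct (LP (LK LD1_c25 LD2_c39 LD3_c38)) = (LP (LK LD1_c15 LD2_c43 LD3_c26)) :=
  Lre_c IH (LK LD1_c25 LD2_c39 LD3_c38) (LK LD1_c15 LD2_c43 LD3_c26) Lrfl Lrfl
theorem f267641 : Led Lsl_dt (LP (LK LD1_c15 LD2_c43 LD3_c26)) = (LP (LK LD1_c8 LD2_c21 LD3_c17)) :=
  Lre_d IH (LK LD1_c15 LD2_c43 LD3_c26) (LK LD1_c8 LD2_c21 LD3_c17) Lrfl Lrfl
theorem f305446 : Led Lsl_ct (LP (LK LD1_c19 LD2_c9 LD3_c5)) = (LP (LK LD1_c28 LD2_c33 LD3_c60)) :=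
  Lgr Lrot41 (Lpe (K16.f276805 IH) (Lpe (K16.f267671 IH) (Lpe (K21.f276786 IH) (Lpr_ft (K20.f276745 IH) (Lpr_at (K20.f267639 IH) (Lpe (K19.f267640 IH) (Lpe (f267641 IH) (Lpe (f276750 IH) (Lpr_df (f305441 IH) (Lpn (LP (LK LD1_c28 LD2_c33 LD3_c60))))))))))))
theorem f305448 : Led Lsl_ff (LP (LK LD1_c25 LD2_c40 LD3_c34)) = (LP (LK LD1_c28 LD2_c33 LD3_c60)) :=
  Lgr Lrot23 (Lpr_ct (K18.f226958 IH) (Lpr_ft (K21.f276822 IH) (Lpr_ct (f305446 IH) (Lpn (LP (LK LD1_c28 LD2_c33 LD3_c60))))))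
theorem f305452 : Led Lsl_ft (LP (LK LD1_c25 LD2_c40 LD3_c34)) = (LP (LK LD1_c28 LD2_c33 LD3_c60)) :=
  Lgr Lrot48 (Lpr_ff (f305448 IH) (Lpn (LP (LK LD1_c28 LD2_c33 LD3_c60))))
theorem f305436 : Led Lsl_af (LP (LK LD1_c25 LD2_c40 LD3_c18)) = (LP (LK LD1_c28 LD2_c33 LD3_c60)) :=
  Lgr Lrot0 (Lpr_at (K20.f305434 IH) (Lpn (LP (LK LD1_c28 LD2_c33 LD3_c60))))
theorem f305454 : Led Lsl_gt (LP (LK LD1_c25 LD2_c40 LD3_c34)) = (LP (LK LD1_c28 LD2_c34 LD3_c1)) :=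
  Lgr Lrot5 (Lpr_ft (f305452 IH) (Lpe (f305436 IH) (Lpe (K18.f297795 IH) (Lpn (LP (LK LD1_c28 LD2_c34 LD3_c1))))))
theorem f226956 : Led Lsl_ct (LP (LK LD1_c15 LD2_c44 LD3_c5)) = (LP (LK LD1_c25 LD2_c40 LD3_c34)) :=
  Lre_c IH (LK LD1_c15 LD2_c44 LD3_c5) (LK LD1_c25 LD2_c40 LD3_c34) Lrfl Lrfl
theorem f343732 : Led Lsl_gt (LP (LK LD1_c10 LD2_c30 LD3_c39)) = (LP (LK LD1_c11 LD2_c55 LD3_c50)) :=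
  Lgr Lrot9 (Lpe (K21.f182624 IH) (Lpe (K22.f226950 IH) (Lpr_ct (f226956 IH) (Lpr_gt (f305454 IH) (Lpr_ct (f228522 IH) (Lpe (K16.f228523 IH) (Lpe (K14.f253352 IH) (Lpr_gf (K23.f343726 IH) (Lpe (K22.f246012 IH) (Lpn (LP (LK LD1_c11 LD2_c55 LD3_c50))))))))))))
theorem f245994 : Led Lsl_bt (LP (LK LD1_c5 LD2_c26 LD3_c29)) = (LP (LK LD1_c2 LD2_c39 LD3_c45)) :=
  Lre_b IH (LK LD1_c5 LD2_c26 LD3_c29) (LK LD1_c2 LD2_c39 LD3_c45) Lrfl Lrfl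
theorem f353117 : Led Lsl_gt (LP (LK LD1_c10 LD2_c44 LD3_c6)) = (LP (LK LD1_c15 LD2_c55 LD3_c21)) :=
  Lgr Lrot65 (Lpe (K23.f245996 IH) (Lpr_bt (f245994 IH) (Lpr_gf (K22.f246008 IH) (Lpe (K22.f246011 IH) (Lpr_ct (K22.f246014 IH) (Lpe (f343732 IH) (Lpr_cf (K21.f182622 IH) (Lpe (K21.f182635 IH) (Lpr_bf (f353115 IH) (Lpr_ct (f295912 IH) (Lpn (LP (LK LD1_c15 LD2_c55 LD3_c21)))))))))))))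
theorem f286096 : Led Lsl_ff (LP (LK LD1_c19 LD2_c25 LD3_c35)) = (LP (LK LD1_c16 LD2_c44 LD3_c24)) :=
  Lgr Lrot3 (Lpr_ft (K17.f286087 IH) (Lpn (LP (LK LD1_c16 LD2_c44 LD3_c24))))
theorem f341579 : Led Lsl_gf (LP (LK LD1_c19 LD2_c30 LD3_c6)) = (LP (LK LD1_c19 LD2_c25 LD3_c37)) :=
  Lgr Lrot76 (Lpe (K23.f286061 IH) (Lpr_ff (f286096 IH) (Lpr_gt (K23.f341575 IH) (Lpn (LP (LK LD1_c19 LD2_c25 LD3_c37))))))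
theorem f295493 : Led Lsl_ef (LP (LK LD1_c29 LD2_c2 LD3_c8)) = (LP (LK LD1_c26 LD2_c43 LD3_c18)) :=
  Lgr Lrot88 (Lpr_et (K23.f295486 IH) (Lpn (LP (LK LD1_c26 LD2_c43 LD3_c18))))
theorem f295469 : Led Lsl_et (LP (LK LD1_c28 LD2_c52 LD3_c39)) = (LP (LK LD1_c19 LD2_c30 LD3_c5)) :=
  Lre_e IH (LK LD1_c28 LD2_c52 LD3_c39) (LK LD1_c19 LD2_c30 LD3_c5) Lrfl Lrfl
theorem f295495 : Led Lsl_at (LP (LK LD1_c19 LD2_c30 LD3_c5)) = (LP (LK LD1_c26 LD2_c43 LD3_c18)) :=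
  Lgr Lrot80 (Lpe (f295469 IH) (Lpe (K23.f295459 IH) (Lpr_ef (f295493 IH) (Lpn (LP (LK LD1_c26 LD2_c43 LD3_c18))))))
theorem f295502 : Led Lsl_ft (LP (LK LD1_c28 LD2_c52 LD3_c44)) = (LP (LK LD1_c19 LD2_c30 LD3_c5)) :=
  Lre_f IH (LK LD1_c28 LD2_c52 LD3_c44) (LK LD1_c19 LD2_c30 LD3_c5) Lrfl Lrfl
theorem f328267 : Led Lsl_gf (LP (LK LD1_c25 LD2_c52 LD3_c52)) = (LP (LK LD1_c28 LD2_c52 LD3_c44)) :=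
  Lgr Lrot47 (Lpr_gt (K23.f328264 IH) (Lpe (f295495 IH) (Lpe (f295502 IH) (Lpn (LP (LK LD1_c28 LD2_c52 LD3_c44))))))
theorem f328257 : Led Lsl_gf (LP (LK LD1_c10 LD2_c50 LD3_c39)) = (LP (LK LD1_c19 LD2_c36 LD3_c7)) :=
  Lgr Lrot76 (Lpr_af (K21.f328249 IH) (Lpe (K21.f328233 IH) (Lpr_gt (f295911 IH) (Lpn (LP (LK LD1_c19 LD2_c36 LD3_c7))))))
theorem f353156 : Led Lsl_cf (LP (LK LD1_c19 LD2_c36 LD3_c7)) = (LP (LK LD1_c15 LD2_c55 LD3_c21)) :=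
  Lgr Lrot169 (Lpe (f328257 IH) (Lpr_ct (K21.f263722 IH) (Lpe (K21.f250944 IH) (Lpe (K21.f250943 IH) (Lpr_gf (f328267 IH) (Lpe (K22.f245182 IH) (Lpr_gf (f341579 IH) (Lpe (K21.f245130 IH) (Lpr_gt (f353117 IH) (Lpn (LP (LK LD1_c15 LD2_c55 LD3_c21))))))))))))
theorem f282560 : Led Lsl_ct (LP (LK LD1_c15 LD2_c55 LD3_c24)) = (LP (LK LD1_c8 LD2_c28 LD3_c49)) :=
  Lre_c IH (LK LD1_c15 LD2_c55 LD3_c24) (LK LD1_c8 LD2_c28 LD3_c49) Lrfl Lrfl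
theorem f339213 : Led Lsl_gf (LP (LK LD1_c19 LD2_c29 LD3_c4)) = (LP (LK LD1_c25 LD2_c32 LD3_c29)) :=
  Lgr Lrot47 (Lpr_gt (K23.f337581 IH) (Lpe (K22.f328283 IH) (Lpr_ff (K22.f339207 IH) (Lpn (LP (LK LD1_c25 LD2_c32 LD3_c29))))))
theorem f236022 : Led Lsl_dt (LP (LK LD1_c19 LD2_c29 LD3_c4)) = (LP (LK LD1_c10 LD2_c46 LD3_c26)) :=
  Lre_d IH (LK LD1_c19 LD2_c29 LD3_c4) (LK LD1_c10 LD2_c46 LD3_c26) Lrfl Lrfl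
theorem f283173 : Led Lsl_at (LP (LK LD1_c4 LD2_c15 LD3_c40)) = (LP (LK LD1_c4 LD2_c9 LD3_c11)) :=
  Lgr Lrot80 (Lpe (K18.f243269 IH) (Lpe (K18.f282690 IH) (Lpr_ef (K17.f283171 IH) (Lpn (LP (LK LD1_c4 LD2_c9 LD3_c11))))))
theorem f294990 : Led Lsl_ff (LP (LK LD1_c4 LD2_c15 LD3_c40)) = (LP (LK LD1_c4 LD2_c9 LD3_c10)) :=
  Lgr Lrot19 (Lpe (K18.f245919 IH) (Lpr_ft (K18.f285736 IH) (Lpr_dt (K18.f294982 IH) (Lpn (LP (LK LD1_c4 LD2_c9 LD3_c10))))))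
theorem f324247 : Led Lsl_gf (LP (LK LD1_c8 LD2_c16 LD3_c36)) = (LP (LK LD1_c4 LD2_c9 LD3_c10)) :=
  Lgr Lrot47 (Lpr_gt (K21.f324245 IH) (Lpe (f283173 IH) (Lpr_ff (f294990 IH) (Lpn (LP (LK LD1_c4 LD2_c9 LD3_c10))))))
theorem f339227 : Led Lsl_gt (LP (LK LD1_c8 LD2_c28 LD3_c49)) = (LP (LK LD1_c5 LD2_c26 LD3_c29)) :=
  Lgr Lrot94 (Lpe (f282560 IH) (Lpr_gt (K23.f339222 IH) (Lpr_dt (K23.f339209 IH) (Lpe (f339213 IH) (Lpr_dt (f236022 IH) (Lpe (K21.f235898 IH) (Lpr_df (K21.f236025 IH) (Lpr_gf (f324247 IH) (Lpe (K18.f294982 IH) (Lpn (LP (LK LD1_c5 LD2_c26 LD3_c29))))))))))))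
theorem f250703 : Led Lsl_ct (LP (LK LD1_c8 LD2_c19 LD3_c15)) = (LP (LK LD1_c15 LD2_c39 LD3_c4)) :=
  Lre_c IH (LK LD1_c8 LD2_c19 LD3_c15) (LK LD1_c15 LD2_c39 LD3_c4) Lrfl Lrfl
theorem f48280 : Led Lsl_dt (LP (LK LD1_c4 LD2_c15 LD3_c23)) = (LP (LK LD1_c2 LD2_c35 LD3_c43)) :=
  Lgr Lrot42 (Lpr_df (K10.f48265 IH) (Lpn (LP (LK LD1_c2 LD2_c35 LD3_c43))))
theorem f323310 : Led Lsl_gf (LP (LK LD1_c8 LD2_c32 LD3_c35)) = (LP (LK LD1_c8 LD2_c19 LD3_c15)) :=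
  Lgr Lrot141 (Lpe (K17.f48967 IH) (Lpr_dt (K22.f569 IH) (Lpe (K22.f48965 IH) (Lpe (K21.f48947 IH) (Lpr_et (K21.f48960 IH) (Lpr_gt (K10.f48295 IH) (Lpr_dt (f48280 IH) (Lpr_gt (f48291 IH) (Lpr_df (f323302 IH) (Lpr_et (f250699 IH) (Lpn (LP (LK LD1_c8 LD2_c19 LD3_c15)))))))))))))
theorem f250694 : Led Lsl_ct (LP (LK LD1_c15 LD2_c39 LD3_c4)) = (LP (LK LD1_c8 LD2_c19 LD3_c15)) :=
  Lre_c IH (LK LD1_c15 LD2_c39 LD3_c4) (LK LD1_c8 LD2_c19 LD3_c15) Lrfl Lrfl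
theorem f323312 : Led Lsl_gf (LP (LK LD1_c16 LD2_c2 LD3_c20)) = (LP (LK LD1_c15 LD2_c39 LD3_c4)) :=
  Lgr Lrot144 (Lpe (K20.f298802 IH) (Lpr_gt (K20.f298784 IH) (Lpr_dt (K17.f236293 IH) (Lpe (K20.f236284 IH) (Lpe (K17.f236268 IH) (Lpe (K17.f231680 IH) (Lpe (K17.f283167 IH) (Lpr_gf (f323310 IH) (Lpe (f250694 IH) (Lpn (LP (LK LD1_c15 LD2_c39 LD3_c4))))))))))))
theorem f353201 : Led Lsl_cf (LP (LK LD1_c19 LD2_c27 LD3_c60)) = (LP (LK LD1_c16 LD2_c2 LD3_c20)) :=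
  Lgr Lrot175 (Lpr_dt (f353194 IH) (Lpr_cf (f353156 IH) (Lpe (f353117 IH) (Lpe (K23.f245996 IH) (Lpe (f339227 IH) (Lpr_dt (K21.f282556 IH) (Lpr_gt (K21.f250693 IH) (Lpr_ct (f250703 IH) (Lpe (f323312 IH) (Lpn (LP (LK LD1_c16 LD2_c2 LD3_c20))))))))))))
theorem f298807 : Led Lsl_et (LP (LK LD1_c8 LD2_c32 LD3_c30)) = (LP (LK LD1_c16 LD2_c2 LD3_c20)) :=
  Lre_e IH (LK LD1_c8 LD2_c32 LD3_c30) (LK LD1_c16 LD2_c2 LD3_c20) Lrfl Lrfl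
theorem f353225 : Led Lsl_ct (LP (LK LD1_c10 LD2_c45 LD3_c54)) = (LP (LK LD1_c8 LD2_c32 LD3_c30)) :=
  Lgr Lrot15 (Lpe (f353187 IH) (Lpr_cf (f353201 IH) (Lpe (f298807 IH) (Lpn (LP (LK LD1_c8 LD2_c32 LD3_c30))))))
theorem f287763 : Led Lsl_df (LP (LK LD1_c4 LD2_c17 LD3_c40)) = (LP (LK LD1_c8 LD2_c33 LD3_c10)) :=
  Lgr Lrot38 (Lpr_dt (K17.f287758 IH) (Lpn (LP (LK LD1_c8 LD2_c33 LD3_c10))))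
theorem f167112 : Led Lsl_dt (LP (LK LD1_c0 LD2_c26 LD3_c25)) = (LP (LK LD1_c0 LD2_c58 LD3_c13)) :=
  Lre_d IH (LK LD1_c0 LD2_c26 LD3_c25) (LK LD1_c0 LD2_c58 LD3_c13) Lrfl Lrfl
theorem f290084 : Led Lsl_dt (LP (LK LD1_c4 LD2_c11 LD3_c27)) = (LP (LK LD1_c8 LD2_c21 LD3_c29)) :=
  Lgr Lrot57 (Lpr_gf (K17.f290080 IH) (Lpe (K17.f7969 IH) (Lpe (K17.f284110 IH) (Lpr_dt (K11.f187010 IH) (Lpr_gt (K10.f171164 IH) (Lpr_dt (f167112 IH) (Lpe (K14.f167110 IH) (Lpe (K14.f167216 IH) (Lpe (K17.f167217 IH) (Lpn (LP (LK LD1_c8 LD2_c21 LD3_c29))))))))))))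
theorem f290291 : Led Lsl_ft (LP (LK LD1_c4 LD2_c17 LD3_c40)) = (LP (LK LD1_c4 LD2_c11 LD3_c27)) :=
  Lgr Lrot54 (Lpr_df (f287763 IH) (Lpr_ff (K17.f290283 IH) (Lpe (f290084 IH) (Lpn (LP (LK LD1_c4 LD2_c11 LD3_c27))))))
theorem f316170 : Led Lsl_et (LP (LK LD1_c4 LD2_c11 LD3_c27)) = (LP (LK LD1_c8 LD2_c22 LD3_c38)) :=
  Lre_e IH (LK LD1_c4 LD2_c11 LD3_c27) (LK LD1_c8 LD2_c22 LD3_c38) Lrfl Lrfl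
theorem f221866 : Led Lsl_et (LP (LK LD1_c8 LD2_c34 LD3_c58)) = (LP (LK LD1_c4 LD2_c18 LD3_c1)) :=
  Lre_e IH (LK LD1_c8 LD2_c34 LD3_c58) (LK LD1_c4 LD2_c18 LD3_c1) Lrfl Lrfl
theorem f316171 : Led Lsl_ft (LP (LK LD1_c8 LD2_c22 LD3_c38)) = (LP (LK LD1_c8 LD2_c34 LD3_c58)) :=
  Lgr Lrot86 (Lpe (f316170 IH) (Lpe (f290291 IH) (Lpr_ef (K20.f316164 IH) (Lpr_ff (K16.f221912 IH) (Lpe (f221866 IH) (Lpn (LP (LK LD1_c8 LD2_c34 LD3_c58))))))))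
theorem f344319 : Led Lsl_gt (LP (LK LD1_c8 LD2_c22 LD3_c38)) = (LP (LK LD1_c8 LD2_c35 LD3_c49)) :=
  Lgr Lrot5 (Lpr_ft (f316171 IH) (Lpe (K18.f221862 IH) (Lpr_gf (K23.f344317 IH) (Lpn (LP (LK LD1_c8 LD2_c35 LD3_c49))))))
theorem f319087 : Led Lsl_ct (LP (LK LD1_c8 LD2_c23 LD3_c59)) = (LP (LK LD1_c8 LD2_c22 LD3_c38)) :=
  Lgr Lrot59 (Lpr_cf (K20.f319083 IH) (Lpn (LP (LK LD1_c8 LD2_c22 LD3_c38))))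
theorem f353230 : Led Lsl_bt (LP (LK LD1_c10 LD2_c45 LD3_c54)) = (LP (LK LD1_c15 LD2_c47 LD3_c34)) :=
  Lgr Lrot130 (Lpr_ct (f353225 IH) (Lpe (K20.f1292 IH) (Lpe (K23.f854 IH) (Lpr_bt (K9.f530 IH) (Lpe (K13.f53393 IH) (Lpe (K23.f53395 IH) (Lpr_ct (K23.f53398 IH) (Lpe (f344319 IH) (Lpe (f319087 IH) (Lpe (f219377 IH) (Lpn (LP (LK LD1_c15 LD2_c47 LD3_c34)))))))))))))
theorem f219539 : Led Lsl_at (LP (LK LD1_c8 LD2_c35 LD3_c55)) = (LP (LK LD1_c8 LD2_c23 LD3_c59)) :=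
  Lgr Lrot80 (Lpe (K18.f188774 IH) (Lpr_af (K14.f219443 IH) (Lpe (K12.f219376 IH) (Lpn (LP (LK LD1_c8 LD2_c23 LD3_c59))))))
theorem f219541 : Led Lsl_gt (LP (LK LD1_c10 LD2_c50 LD3_c17)) = (LP (LK LD1_c15 LD2_c47 LD3_c34)) :=
  Lgr Lrot5 (Lpe (K23.f218101 IH) (Lpr_at (f219539 IH) (Lpe (f219377 IH) (Lpn (LP (LK LD1_c15 LD2_c47 LD3_c34))))))
theorem f212840 : Led Lsl_ct (LP (LK LD1_c5 LD2_c29 LD3_c32)) = (LP (LK LD1_c10 LD2_c50 LD3_c20)) :=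
  Lre_c IH (LK LD1_c5 LD2_c29 LD3_c32) (LK LD1_c10 LD2_c50 LD3_c20) Lrfl Lrfl
theorem f825 : Led Lsl_ct (LP (LK LD1_c4 LD2_c9 LD3_c59)) = (LP (LK LD1_c8 LD2_c20 LD3_c9)) :=
  Lre_c IH (LK LD1_c4 LD2_c9 LD3_c59) (LK LD1_c8 LD2_c20 LD3_c9) Lrfl Lrfl
theorem f353234 : Led Lsl_gf (LP (LK LD1_c10 LD2_c50 LD3_c20)) = (LP (LK LD1_c8 LD2_c20 LD3_c9)) :=
  Lgr Lrot129 (Lpe (f212840 IH) (Lpr_bt (K23.f212835 IH) (Lpr_gt (f219541 IH) (Lpe (f353230 IH) (Lpr_ct (f353225 IH) (Lpe (K20.f1293 IH) (Lpe (K18.f568 IH) (Lpr_bt (K9.f51494 IH) (Lpe (K17.f816 IH) (Lpr_ct (f825 IH) (Lpn (LP (LK LD1_c8 LD2_c20 LD3_c9)))))))))))))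
theorem f328390 : Led Lsl_bt (LP (LK LD1_c4 LD2_c9 LD3_c59)) = (LP (LK LD1_c8 LD2_c20 LD3_c8)) :=
  Lre_b IH (LK LD1_c4 LD2_c9 LD3_c59) (LK LD1_c8 LD2_c20 LD3_c8) Lrfl Lrfl
theorem f232722 : Led Lsl_gt (LP (LK LD1_c16 LD2_c2 LD3_c39)) = (LP (LK LD1_c8 LD2_c32 LD3_c43)) :=
  Lre_g IH (LK LD1_c16 LD2_c2 LD3_c39) (LK LD1_c8 LD2_c32 LD3_c43) Lrfl Lrfl
theorem f353237 : Led Lsl_ct (LP (LK LD1_c15 LD2_c47 LD3_c34)) = (LP (LK LD1_c16 LD2_c2 LD3_c39)) :=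
  Lgr Lrot91 (Lpe (f219541 IH) (Lpe (K23.f212835 IH) (Lpr_ct (f212840 IH) (Lpr_gf (f353234 IH) (Lpe (f825 IH) (Lpr_bt (f328390 IH) (Lpe (K22.f328363 IH) (Lpe (K19.f270705 IH) (Lpr_ct (K13.f232715 IH) (Lpe (f232722 IH) (Lpn (LP (LK LD1_c16 LD2_c2 LD3_c39)))))))))))))
theorem f312080 : Led Lsl_bf (LP (LK LD1_c5 LD2_c27 LD3_c25)) = (LP (LK LD1_c4 LD2_c19 LD3_c23)) :=
  Lgr Lrot96 (Lpr_et (K23.f278092 IH) (Lpr_bt (K19.f312075 IH) (Lpr_et (K16.f279267 IH) (Lpn (LP (LK LD1_c4 LD2_c19 LD3_c23))))))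
theorem f279271 : Led Lsl_ct (LP (LK LD1_c4 LD2_c19 LD3_c23)) = (LP (LK LD1_c8 LD2_c37 LD3_c6)) :=
  Lre_c IH (LK LD1_c4 LD2_c19 LD3_c23) (LK LD1_c8 LD2_c37 LD3_c6) Lrfl Lrfl
theorem f353232 : Led Lsl_gf (LP (LK LD1_c8 LD2_c37 LD3_c6)) = (LP (LK LD1_c15 LD2_c41 LD3_c19)) :=
  Lgr Lrot126 (Lpe (f279271 IH) (Lpe (f312080 IH) (Lpr_gt (f278100 IH) (Lpr_ct (f353225 IH) (Lpe (K20.f1293 IH) (Lpe (K18.f568 IH) (Lpr_bt (K9.f51494 IH) (Lpe (K17.f816 IH) (Lpe (K23.f831 IH) (Lpr_ct (K23.f832 IH) (Lpn (LP (LK LD1_c15 LD2_c41 LD3_c19)))))))))))))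
theorem f353248 : Led Lsl_bt (LP (LK LD1_c15 LD2_c47 LD3_c34)) = (LP (LK LD1_c10 LD2_c45 LD3_c54)) :=
  Lgr Lrot92 (Lpr_ct (f353237 IH) (Lpr_gt (f232722 IH) (Lpe (K13.f232715 IH) (Lpr_bt (K19.f270705 IH) (Lpr_gt (K22.f328363 IH) (Lpr_ct (K23.f832 IH) (Lpe (f353232 IH) (Lpe (f279271 IH) (Lpe (f312080 IH) (Lpr_gt (f278100 IH) (Lpn (LP (LK LD1_c10 LD2_c45 LD3_c54)))))))))))))
theorem f353200 : Led Lsl_et (LP (LK LD1_c10 LD2_c45 LD3_c54)) = (LP (LK LD1_c19 LD2_c27 LD3_c60)) :=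
  Lre_e IH (LK LD1_c10 LD2_c45 LD3_c54) (LK LD1_c19 LD2_c27 LD3_c60) Lrfl Lrfl
theorem f353254 : Led Lsl_bf (LP (LK LD1_c25 LD2_c20 LD3_c36)) = (LP (LK LD1_c19 LD2_c27 LD3_c60)) :=
  Lgr Lrot96 (Lpr_et (f345576 IH) (Lpr_bt (f353248 IH) (Lpr_et (f353200 IH) (Lpn (LP (LK LD1_c19 LD2_c27 LD3_c60))))))
theorem f345525 : Led Lsl_ct (LP (LK LD1_c10 LD2_c31 LD3_c54)) = (LP (LK LD1_c19 LD2_c4 LD3_c46)) :=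
  Lre_c IH (LK LD1_c10 LD2_c31 LD3_c54) (LK LD1_c19 LD2_c4 LD3_c46) Lrfl Lrfl
theorem f345561 : Led Lsl_gt (LP (LK LD1_c19 LD2_c4 LD3_c46)) = (LP (LK LD1_c10 LD2_c42 LD3_c37)) :=
  Lgr Lrot94 (Lpe (f345525 IH) (Lpr_gt (f345559 IH) (Lpr_dt (K16.f215468 IH) (Lpr_gt (K16.f215467 IH) (Lpr_dt (K16.f215461 IH) (Lpe (K18.f167690 IH) (Lpe (K21.f167691 IH) (Lpe (K24.f215552 IH) (Lpe (K24.f215439 IH) (Lpn (LP (LK LD1_c10 LD2_c42 LD3_c37))))))))))))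
theorem f295973 : Led Lsl_dt (LP (LK LD1_c19 LD2_c16 LD3_c31)) = (LP (LK LD1_c10 LD2_c38 LD3_c24)) :=
  Lre_d IH (LK LD1_c19 LD2_c16 LD3_c31) (LK LD1_c10 LD2_c38 LD3_c24) Lrfl Lrfl
theorem f345512 : Led Lsl_gf (LP (LK LD1_c10 LD2_c31 LD3_c54)) = (LP (LK LD1_c8 LD2_c22 LD3_c16)) :=
  Lgr Lrot143 (Lpr_dt (K24.f345504 IH) (Lpe (K24.f295970 IH) (Lpe (f295973 IH) (Lpe (K22.f336281 IH) (Lpe (K22.f307845 IH) (Lpe (K22.f215484 IH) (Lpe (K24.f215483 IH) (Lpr_gt (K21.f215470 IH) (Lpr_dt (K22.f300907 IH) (Lpn (LP (LK LD1_c8 LD2_c22 LD3_c16))))))))))))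
theorem f215541 : Led Lsl_gt (LP (LK LD1_c15 LD2_c44 LD3_c35)) = (LP (LK LD1_c8 LD2_c22 LD3_c11)) :=
  Lre_g IH (LK LD1_c15 LD2_c44 LD3_c35) (LK LD1_c8 LD2_c22 LD3_c11) Lrfl Lrfl
theorem f287786 : Led Lsl_ct (LP (LK LD1_c8 LD2_c22 LD3_c11)) = (LP (LK LD1_c15 LD2_c45 LD3_c5)) :=
  Lre_c IH (LK LD1_c8 LD2_c22 LD3_c11) (LK LD1_c15 LD2_c45 LD3_c5) Lrfl Lrfl
theorem f307824 : Led Lsl_ct (LP (LK LD1_c10 LD2_c42 LD3_c37)) = (LP (LK LD1_c19 LD2_c23 LD3_c22)) :=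
  Lre_c IH (LK LD1_c10 LD2_c42 LD3_c37) (LK LD1_c19 LD2_c23 LD3_c22) Lrfl Lrfl
theorem f345589 : Led Lsl_df (LP (LK LD1_c15 LD2_c45 LD3_c5)) = (LP (LK LD1_c19 LD2_c23 LD3_c22)) :=
  Lgr Lrot162 (Lpe (f287786 IH) (Lpe (f215541 IH) (Lpe (K19.f215496 IH) (Lpe (K21.f215515 IH) (Lpr_dt (K22.f300907 IH) (Lpe (f345512 IH) (Lpr_ct (f345525 IH) (Lpr_gt (f345561 IH) (Lpr_ct (f307824 IH) (Lpn (LP (LK LD1_c19 LD2_c23 LD3_c22))))))))))))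
theorem f345597 : Led Lsl_et (LP (LK LD1_c15 LD2_c45 LD3_c5)) = (LP (LK LD1_c25 LD2_c41 LD3_c49)) :=
  Lre_e IH (LK LD1_c15 LD2_c45 LD3_c5) (LK LD1_c25 LD2_c41 LD3_c49) Lrfl Lrfl
theorem f341078 : Led Lsl_et (LP (LK LD1_c10 LD2_c42 LD3_c35)) = (LP (LK LD1_c19 LD2_c23 LD3_c22)) :=
  Lre_e IH (LK LD1_c10 LD2_c42 LD3_c35) (LK LD1_c19 LD2_c23 LD3_c22) Lrfl Lrfl
theorem f309853 : Led Lsl_dt (LP (LK LD1_c19 LD2_c23 LD3_c21)) = (LP (LK LD1_c10 LD2_c42 LD3_c35)) :=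
  Lre_d IH (LK LD1_c19 LD2_c23 LD3_c21) (LK LD1_c10 LD2_c42 LD3_c35) Lrfl Lrfl
theorem f301243 : Led Lsl_bt (LP (LK LD1_c16 LD2_c9 LD3_c29)) = (LP (LK LD1_c8 LD2_c37 LD3_c32)) :=
  Lre_b IH (LK LD1_c16 LD2_c9 LD3_c29) (LK LD1_c8 LD2_c37 LD3_c32) Lrfl Lrfl
theorem f341056 : Led Lsl_ct (LP (LK LD1_c16 LD2_c9 LD3_c29)) = (LP (LK LD1_c10 LD2_c35 LD3_c51)) :=
  Lgr Lrot63 (Lpr_bt (f301243 IH) (Lpe (K19.f305860 IH) (Lpr_bf (K19.f221697 IH) (Lpr_ct (K15.f221709 IH) (Lpr_gt (K23.f261206 IH) (Lpr_cf (K19.f309974 IH) (Lpr_bt (K23.f341049 IH) (Lpr_gt (K20.f258315 IH) (Lpr_ct (K16.f224361 IH) (Lpr_gt (K22.f224358 IH) (Lpn (LP (LK LD1_c10 LD2_c35 LD3_c51)))))))))))))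
theorem f254062 : Led Lsl_bt (LP (LK LD1_c2 LD2_c7 LD3_c20)) = (LP (LK LD1_c4 LD2_c19 LD3_c39)) :=
  Lre_b IH (LK LD1_c2 LD2_c7 LD3_c20) (LK LD1_c4 LD2_c19 LD3_c39) Lrfl Lrfl
theorem f7760 : Led Lsl_ct (LP (LK LD1_c2 LD2_c40 LD3_c36)) = (LP (LK LD1_c5 LD2_c28 LD3_c38)) :=
  Lre_c IH (LK LD1_c2 LD2_c40 LD3_c36) (LK LD1_c5 LD2_c28 LD3_c38) Lrfl Lrfl
theorem f179588 : Led Lsl_ct (LP (LK LD1_c2 LD2_c7 LD3_c18)) = (LP (LK LD1_c1 LD2_c0 LD3_c41)) :=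
  Lre_c IH (LK LD1_c2 LD2_c7 LD3_c18) (LK LD1_c1 LD2_c0 LD3_c41) Lrfl Lrfl
theorem f179590 : Led Lsl_dt (LP (LK LD1_c2 LD2_c7 LD3_c20)) = (LP (LK LD1_c1 LD2_c0 LD3_c41)) :=
  Lre_d IH (LK LD1_c2 LD2_c7 LD3_c20) (LK LD1_c1 LD2_c0 LD3_c41) Lrfl Lrfl
theorem f179865 : Led Lsl_et (LP (LK LD1_c2 LD2_c7 LD3_c20)) = (LP (LK LD1_c1 LD2_c0 LD3_c42)) :=
  Lre_e IH (LK LD1_c2 LD2_c7 LD3_c20) (LK LD1_c1 LD2_c0 LD3_c42) Lrfl Lrfl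
theorem f226768 : Led Lsl_cf (LP (LK LD1_c2 LD2_c7 LD3_c20)) = (LP (LK LD1_c2 LD2_c40 LD3_c43)) :=
  Lgr Lrot39 (Lpr_et (f179865 IH) (Lpr_ct (K12.f226754 IH) (Lpr_et (K14.f165035 IH) (Lpn (LP (LK LD1_c2 LD2_c40 LD3_c43))))))
theorem f267686 : Led Lsl_gt (LP (LK LD1_c5 LD2_c28 LD3_c38)) = (LP (LK LD1_c2 LD2_c40 LD3_c43)) :=
  Lgr Lrot150 (Lpe (f7760 IH) (Lpr_gf (K22.f267684 IH) (Lpe (K15.f267650 IH) (Lpe (K15.f267648 IH) (Lpr_ct (K19.f179586 IH) (Lpe (K21.f179584 IH) (Lpr_ct (f179588 IH) (Lpe (f179590 IH) (Lpr_cf (f226768 IH) (Lpn (LP (LK LD1_c2 LD2_c40 LD3_c43))))))))))))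
theorem f341064 : Led Lsl_gf (LP (LK LD1_c15 LD2_c44 LD3_c6)) = (LP (LK LD1_c10 LD2_c35 LD3_c51)) :=
  Lgr Lrot126 (Lpe (K16.f267671 IH) (Lpr_bt (K21.f267670 IH) (Lpe (K22.f267684 IH) (Lpr_ct (f7760 IH) (Lpr_gt (f267686 IH) (Lpr_cf (K19.f305110 IH) (Lpr_bt (f254062 IH) (Lpr_gt (K19.f301195 IH) (Lpe (f301243 IH) (Lpr_ct (f341056 IH) (Lpn (LP (LK LD1_c10 LD2_c35 LD3_c51)))))))))))))
theorem f324206 : Led Lsl_gf (LP (LK LD1_c10 LD2_c46 LD3_c30)) = (LP (LK LD1_c16 LD2_c44 LD3_c25)) :=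
  Lgr Lrot47 (Lpr_gt (K21.f324203 IH) (Lpe (K17.f286153 IH) (Lpe (K17.f213805 IH) (Lpn (LP (LK LD1_c16 LD2_c44 LD3_c25))))))
theorem f325860 : Led Lsl_bt (LP (LK LD1_c5 LD2_c27 LD3_c41)) = (LP (LK LD1_c2 LD2_c40 LD3_c36)) :=
  Lgr Lrot22 (Lpr_ct (K21.f236039 IH) (Lpr_gf (f324206 IH) (Lpr_cf (K17.f213807 IH) (Lpr_gf (K21.f286122 IH) (Lpr_bf (K21.f324147 IH) (Lpr_ct (K21.f325847 IH) (Lpe (K21.f278825 IH) (Lpe (K21.f7863 IH) (Lpr_bt (K20.f7740 IH) (Lpe (K22.f7756 IH) (Lpn (LP (LK LD1_c2 LD2_c40 LD3_c36)))))))))))))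
theorem f341070 : Led Lsl_gt (LP (LK LD1_c9 LD2_c41 LD3_c7)) = (LP (LK LD1_c16 LD2_c9 LD3_c29)) :=
  Lgr Lrot82 (Lpr_bf (K17.f277894 IH) (Lpe (K17.f245164 IH) (Lpe (K21.f324203 IH) (Lpe (K21.f236039 IH) (Lpr_bt (f325860 IH) (Lpr_gf (K22.f267684 IH) (Lpe (K21.f267670 IH) (Lpr_ct (K16.f267671 IH) (Lpr_gf (f341064 IH) (Lpe (f341056 IH) (Lpn (LP (LK LD1_c16 LD2_c9 LD3_c29)))))))))))))
theorem f220765 : Led Lsl_df (LP (LK LD1_c4 LD2_c6 LD3_c21)) = (LP (LK LD1_c5 LD2_c20 LD3_c59)) :=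
  Lgr Lrot84 (Lpe (K14.f187473 IH) (Lpe (K22.f187347 IH) (Lpe (K9.f55290 IH) (Lpe (K12.f55279 IH) (Lpe (K9.f40805 IH) (Lpe (K9.f167792 IH) (Lpr_gt (K12.f201072 IH) (Lpr_dt (K12.f194661 IH) (Lpr_gt (K12.f220753 IH) (Lpn (LP (LK LD1_c5 LD2_c20 LD3_c59))))))))))))
theorem f341072 : Led Lsl_et (LP (LK LD1_c19 LD2_c23 LD3_c21)) = (LP (LK LD1_c16 LD2_c9 LD3_c29)) :=
  Lgr Lrot122 (Lpr_dt (f309853 IH) (Lpe (K21.f310393 IH) (Lpe (K14.f194665 IH) (Lpr_et (K10.f194664 IH) (Lpr_gt (K12.f220753 IH) (Lpe (f220765 IH) (Lpr_gt (K14.f250476 IH) (Lpe (K12.f220618 IH) (Lpr_et (K17.f220620 IH) (Lpr_gt (f341070 IH) (Lpn (LP (LK LD1_c16 LD2_c9 LD3_c29)))))))))))))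
theorem f341074 : Led Lsl_ef (LP (LK LD1_c19 LD2_c23 LD3_c21)) = (LP (LK LD1_c16 LD2_c9 LD3_c29)) :=
  Lgr Lrot88 (Lpr_et (f341072 IH) (Lpn (LP (LK LD1_c16 LD2_c9 LD3_c29))))
theorem f345598 : Led Lsl_dt (LP (LK LD1_c25 LD2_c41 LD3_c49)) = (LP (LK LD1_c16 LD2_c9 LD3_c29)) :=
  Lgr Lrot77 (Lpe (f345597 IH) (Lpr_df (f345589 IH) (Lpe (f341078 IH) (Lpe (f309853 IH) (Lpr_ef (f341074 IH) (Lpn (LP (LK LD1_c16 LD2_c9 LD3_c29))))))))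
theorem f341061 : Led Lsl_cf (LP (LK LD1_c16 LD2_c9 LD3_c29)) = (LP (LK LD1_c10 LD2_c35 LD3_c51)) :=
  Lgr Lrot11 (Lpr_ct (f341056 IH) (Lpn (LP (LK LD1_c10 LD2_c35 LD3_c51))))
theorem f224369 : Led Lsl_dt (LP (LK LD1_c19 LD2_c11 LD3_c29)) = (LP (LK LD1_c10 LD2_c35 LD3_c51)) :=
  Lre_d IH (LK LD1_c19 LD2_c11 LD3_c29) (LK LD1_c10 LD2_c35 LD3_c51) Lrfl Lrfl
theorem f178797 : Led Lsl_gt (LP (LK LD1_c31 LD2_c57 LD3_c20)) = (LP (LK LD1_c25 LD2_c38 LD3_c35)) :=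
  Lre_g IH (LK LD1_c31 LD2_c57 LD3_c20) (LK LD1_c25 LD2_c38 LD3_c35) Lrfl Lrfl
theorem f328928 : Led Lsl_af (LP (LK LD1_c19 LD2_c9 LD3_c6)) = (LP (LK LD1_c28 LD2_c29 LD3_c14)) :=
  Lgr Lrot0 (Lpr_at (K21.f328924 IH) (Lpn (LP (LK LD1_c28 LD2_c29 LD3_c14))))
theorem f194890 : Led Lsl_dt (LP (LK LD1_c19 LD2_c9 LD3_c6)) = (LP (LK LD1_c28 LD2_c34 LD3_c42)) :=
  Lre_d IH (LK LD1_c19 LD2_c9 LD3_c6) (LK LD1_c28 LD2_c34 LD3_c42) Lrfl Lrfl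
theorem f328976 : Led Lsl_at (LP (LK LD1_c28 LD2_c34 LD3_c42)) = (LP (LK LD1_c25 LD2_c40 LD3_c6)) :=
  Lgr Lrot51 (Lpe (f194890 IH) (Lpr_af (f328928 IH) (Lpr_df (K21.f328973 IH) (Lpn (LP (LK LD1_c25 LD2_c40 LD3_c6))))))
theorem f194927 : Led Lsl_dt (LP (LK LD1_c28 LD2_c34 LD3_c42)) = (LP (LK LD1_c19 LD2_c9 LD3_c6)) :=
  Lre_d IH (LK LD1_c28 LD2_c34 LD3_c42) (LK LD1_c19 LD2_c9 LD3_c6) Lrfl Lrfl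
theorem f328922 : Led Lsl_ff (LP (LK LD1_c28 LD2_c34 LD3_c42)) = (LP (LK LD1_c25 LD2_c38 LD3_c35)) :=
  Lgr Lrot19 (Lpr_dt (f194927 IH) (Lpr_ft (K19.f224397 IH) (Lpr_dt (K21.f328916 IH) (Lpn (LP (LK LD1_c25 LD2_c38 LD3_c35))))))
theorem f328990 : Led Lsl_at (LP (LK LD1_c26 LD2_c1 LD3_c47)) = (LP (LK LD1_c25 LD2_c38 LD3_c35)) :=
  Lgr Lrot66 (Lpr_ff (K21.f328988 IH) (Lpe (f328976 IH) (Lpr_ff (f328922 IH) (Lpn (LP (LK LD1_c25 LD2_c38 LD3_c35))))))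
theorem f328996 : Led Lsl_gf (LP (LK LD1_c31 LD2_c57 LD3_c20)) = (LP (LK LD1_c25 LD2_c40 LD3_c6)) :=
  Lgr Lrot47 (Lpr_gt (f178797 IH) (Lpe (f328990 IH) (Lpr_ff (K21.f328988 IH) (Lpn (LP (LK LD1_c25 LD2_c40 LD3_c6))))))
theorem f228503 : Led Lsl_dt (LP (LK LD1_c10 LD2_c33 LD3_c58)) = (LP (LK LD1_c5 LD2_c21 LD3_c50)) :=
  Lre_d IH (LK LD1_c10 LD2_c33 LD3_c58) (LK LD1_c5 LD2_c21 LD3_c50) Lrfl Lrfl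
theorem f254342 : Led Lsl_dt (LP (LK LD1_c10 LD2_c33 LD3_c56)) = (LP (LK LD1_c19 LD2_c8 LD3_c12)) :=
  Lre_d IH (LK LD1_c10 LD2_c33 LD3_c56) (LK LD1_c19 LD2_c8 LD3_c12) Lrfl Lrfl
theorem f321195 : Led Lsl_ct (LP (LK LD1_c28 LD2_c33 LD3_c50)) = (LP (LK LD1_c19 LD2_c8 LD3_c12)) :=
  Lre_c IH (LK LD1_c28 LD2_c33 LD3_c50) (LK LD1_c19 LD2_c8 LD3_c12) Lrfl Lrfl
theorem f328998 : Led Lsl_dt (LP (LK LD1_c31 LD2_c57 LD3_c20)) = (LP (LK LD1_c28 LD2_c33 LD3_c50)) :=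
  Lgr Lrot105 (Lpr_gf (f328996 IH) (Lpe (K21.f328962 IH) (Lpe (K21.f321190 IH) (Lpe (K19.f254362 IH) (Lpr_gt (K18.f215819 IH) (Lpr_dt (f228503 IH) (Lpr_gt (K21.f228504 IH) (Lpr_dt (f254342 IH) (Lpe (f321195 IH) (Lpn (LP (LK LD1_c28 LD2_c33 LD3_c50))))))))))))
theorem f329001 : Led Lsl_df (LP (LK LD1_c31 LD2_c57 LD3_c20)) = (LP (LK LD1_c28 LD2_c33 LD3_c50)) :=
  Lgr Lrot38 (Lpr_dt (f328998 IH) (Lpn (LP (LK LD1_c28 LD2_c33 LD3_c50))))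
theorem f224360 : Led Lsl_ct (LP (LK LD1_c28 LD2_c37 LD3_c21)) = (LP (LK LD1_c19 LD2_c11 LD3_c29)) :=
  Lre_c IH (LK LD1_c28 LD2_c37 LD3_c21) (LK LD1_c19 LD2_c11 LD3_c29) Lrfl Lrfl
theorem f343734 : Led Lsl_gf (LP (LK LD1_c28 LD2_c33 LD3_c50)) = (LP (LK LD1_c28 LD2_c37 LD3_c21)) :=
  Lgr Lrot144 (Lpe (f329001 IH) (Lpr_gt (f178797 IH) (Lpe (K22.f328920 IH) (Lpe (K21.f224395 IH) (Lpe (K21.f224379 IH) (Lpr_gf (K23.f343730 IH) (Lpe (K22.f246013 IH) (Lpr_gf (K22.f333825 IH) (Lpe (f224360 IH) (Lpn (LP (LK LD1_c28 LD2_c37 LD3_c21))))))))))))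
theorem f254341 : Led Lsl_dt (LP (LK LD1_c19 LD2_c8 LD3_c12)) = (LP (LK LD1_c10 LD2_c33 LD3_c56)) :=
  Lre_d IH (LK LD1_c19 LD2_c8 LD3_c12) (LK LD1_c10 LD2_c33 LD3_c56) Lrfl Lrfl
theorem f275285 : Led Lsl_dt (LP (LK LD1_c19 LD2_c2 LD3_c46)) = (LP (LK LD1_c28 LD2_c28 LD3_c61)) :=
  Lre_d IH (LK LD1_c19 LD2_c2 LD3_c46) (LK LD1_c28 LD2_c28 LD3_c61) Lrfl Lrfl
theorem f224362 : Led Lsl_ct (LP (LK LD1_c19 LD2_c11 LD3_c29)) = (LP (LK LD1_c28 LD2_c37 LD3_c21)) :=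
  Lre_c IH (LK LD1_c19 LD2_c11 LD3_c29) (LK LD1_c28 LD2_c37 LD3_c21) Lrfl Lrfl
theorem f343786 : Led Lsl_gt (LP (LK LD1_c28 LD2_c28 LD3_c61)) = (LP (LK LD1_c19 LD2_c11 LD3_c29)) :=
  Lgr Lrot9 (Lpe (f275285 IH) (Lpr_gt (K22.f288877 IH) (Lpr_ct (K21.f182613 IH) (Lpr_gt (K21.f182630 IH) (Lpr_ct (K21.f325232 IH) (Lpe (f254341 IH) (Lpe (f321195 IH) (Lpr_gf (f343734 IH) (Lpe (f224362 IH) (Lpn (LP (LK LD1_c19 LD2_c11 LD3_c29))))))))))))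
theorem f345729 : Led Lsl_gf (LP (LK LD1_c25 LD2_c41 LD3_c49)) = (LP (LK LD1_c25 LD2_c20 LD3_c36)) :=
  Lgr Lrot143 (Lpr_dt (f345598 IH) (Lpr_cf (f341061 IH) (Lpe (f224369 IH) (Lpe (f343786 IH) (Lpe (f275285 IH) (Lpe (K22.f328914 IH) (Lpr_cf (K22.f336573 IH) (Lpe (f345585 IH) (Lpr_dt (f182743 IH) (Lpn (LP (LK LD1_c25 LD2_c20 LD3_c36))))))))))))
theorem f345731 : Led Lsl_ct (LP (LK LD1_c25 LD2_c41 LD3_c49)) = (LP (LK LD1_c15 LD2_c45 LD3_c7)) :=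
  Lre_c IH (LK LD1_c25 LD2_c41 LD3_c49) (LK LD1_c15 LD2_c45 LD3_c7) Lrfl Lrfl
theorem f333832 : Led Lsl_ct (LP (LK LD1_c21 LD2_c0 LD3_c43)) = (LP (LK LD1_c11 LD2_c55 LD3_c51)) :=
  Lre_c IH (LK LD1_c21 LD2_c0 LD3_c43) (LK LD1_c11 LD2_c55 LD3_c51) Lrfl Lrfl
theorem f345732 : Led Lsl_gt (LP (LK LD1_c15 LD2_c45 LD3_c7)) = (LP (LK LD1_c21 LD2_c0 LD3_c43)) :=
  Lgr Lrot150 (Lpe (f345731 IH) (Lpr_gf (f345729 IH) (Lpe (f182743 IH) (Lpr_gt (K21.f182635 IH) (Lpe (K21.f182622 IH) (Lpr_gt (f343732 IH) (Lpr_ct (K22.f246012 IH) (Lpe (K22.f281029 IH) (Lpe (f333832 IH) (Lpn (LP (LK LD1_c21 LD2_c0 LD3_c43))))))))))))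
theorem f281020 : Led Lsl_ct (LP (LK LD1_c11 LD2_c55 LD3_c51)) = (LP (LK LD1_c21 LD2_c0 LD3_c43)) :=
  Lre_c IH (LK LD1_c11 LD2_c55 LD3_c51) (LK LD1_c21 LD2_c0 LD3_c43) Lrfl Lrfl
theorem f281019 : Led Lsl_bt (LP (LK LD1_c11 LD2_c55 LD3_c51)) = (LP (LK LD1_c6 LD2_c6 LD3_c14)) :=
  Lre_b IH (LK LD1_c11 LD2_c55 LD3_c51) (LK LD1_c6 LD2_c6 LD3_c14) Lrfl Lrfl
theorem f333665 : Led Lsl_gt (LP (LK LD1_c6 LD2_c6 LD3_c14)) = (LP (LK LD1_c4 LD2_c11 LD3_c40)) :=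
  Lgr Lrot112 (Lpe (K22.f179800 IH) (Lpe (K22.f281012 IH) (Lpr_gf (K22.f264596 IH) (Lpr_ef (K22.f280996 IH) (Lpr_dt (K22.f261791 IH) (Lpe (K15.f165878 IH) (Lpe (K14.f166151 IH) (Lpe (K18.f180554 IH) (Lpr_ef (K22.f333659 IH) (Lpe (K22.f333657 IH) (Lpn (LP (LK LD1_c4 LD2_c11 LD3_c40)))))))))))))
theorem f353223 : Led Lsl_ct (LP (LK LD1_c19 LD2_c27 LD3_c60)) = (LP (LK LD1_c16 LD2_c2 LD3_c20)) :=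
  Lgr Lrot59 (Lpr_cf (f353201 IH) (Lpn (LP (LK LD1_c16 LD2_c2 LD3_c20))))
theorem f353264 : Led Lsl_bf (LP (LK LD1_c4 LD2_c11 LD3_c40)) = (LP (LK LD1_c8 LD2_c19 LD3_c15)) :=
  Lgr Lrot34 (Lpe (f333665 IH) (Lpe (f281019 IH) (Lpr_ct (f281020 IH) (Lpe (f345732 IH) (Lpe (f345731 IH) (Lpr_gf (f345729 IH) (Lpr_bf (f353254 IH) (Lpr_ct (f353223 IH) (Lpr_gf (f323312 IH) (Lpe (f250703 IH) (Lpn (LP (LK LD1_c8 LD2_c19 LD3_c15)))))))))))))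
theorem f353270 : Led Lsl_bt (LP (LK LD1_c2 LD2_c3 LD3_c0)) = (LP (LK LD1_c4 LD2_c9 LD3_c36)) :=
  Lgr Lrot119 (Lpe (K22.f170623 IH) (Lpr_bf (f353264 IH) (Lpe (f250699 IH) (Lpn (LP (LK LD1_c4 LD2_c9 LD3_c36))))))
theorem f353274 : Led Lsl_bf (LP (LK LD1_c2 LD2_c35 LD3_c57)) = (LP (LK LD1_c5 LD2_c17 LD3_c60)) :=
  Lgr Lrot93 (Lpr_dt (K18.f304455 IH) (Lpr_bt (f353270 IH) (Lpe (f323302 IH) (Lpn (LP (LK LD1_c5 LD2_c17 LD3_c60))))))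
theorem f49038 : Led Lsl_et (LP (LK LD1_c10 LD2_c25 LD3_c42)) = (LP (LK LD1_c5 LD2_c17 LD3_c60)) :=
  Lre_e IH (LK LD1_c10 LD2_c25 LD3_c42) (LK LD1_c5 LD2_c17 LD3_c60) Lrfl Lrfl
theorem f353278 : Led Lsl_bt (LP (LK LD1_c5 LD2_c18 LD3_c36)) = (LP (LK LD1_c10 LD2_c25 LD3_c42)) :=
  Lgr Lrot119 (Lpe (K22.f180560 IH) (Lpr_bf (f353274 IH) (Lpe (f49038 IH) (Lpn (LP (LK LD1_c10 LD2_c25 LD3_c42))))))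
theorem f180564 : Led Lsl_bt (LP (LK LD1_c10 LD2_c3 LD3_c50)) = (LP (LK LD1_c5 LD2_c6 LD3_c25)) :=
  Lre_b IH (LK LD1_c10 LD2_c3 LD3_c50) (LK LD1_c5 LD2_c6 LD3_c25) Lrfl Lrfl
theorem f353282 : Led Lsl_df (LP (LK LD1_c10 LD2_c3 LD3_c50)) = (LP (LK LD1_c10 LD2_c25 LD3_c42)) :=
  Lgr Lrot12 (Lpr_bt (f180564 IH) (Lpe (K22.f180558 IH) (Lpr_bt (f353278 IH) (Lpn (LP (LK LD1_c10 LD2_c25 LD3_c42))))))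
theorem f262111 : Led Lsl_dt (LP (LK LD1_c5 LD2_c17 LD3_c55)) = (LP (LK LD1_c5 LD2_c26 LD3_c12)) :=
  Lgr Lrot60 (Lpe (K15.f251207 IH) (Lpe (K14.f251263 IH) (Lpr_ff (K15.f262107 IH) (Lpn (LP (LK LD1_c5 LD2_c26 LD3_c12))))))
theorem f273426 : Led Lsl_dt (LP (LK LD1_c5 LD2_c17 LD3_c47)) = (LP (LK LD1_c10 LD2_c25 LD3_c11)) :=
  Lre_d IH (LK LD1_c5 LD2_c17 LD3_c47) (LK LD1_c10 LD2_c25 LD3_c11) Lrfl Lrfl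
theorem f353289 : Led Lsl_gf (LP (LK LD1_c10 LD2_c3 LD3_c50)) = (LP (LK LD1_c10 LD2_c25 LD3_c11)) :=
  Lgr Lrot134 (Lpr_df (f353282 IH) (Lpr_et (f49038 IH) (Lpe (f251146 IH) (Lpr_ef (K15.f251208 IH) (Lpr_dt (f262111 IH) (Lpe (K21.f263437 IH) (Lpr_df (K17.f47777 IH) (Lpe (K17.f263083 IH) (Lpe (K20.f273507 IH) (Lpr_dt (f273426 IH) (Lpn (LP (LK LD1_c10 LD2_c25 LD3_c11)))))))))))))
theorem f353284 : Led Lsl_dt (LP (LK LD1_c10 LD2_c3 LD3_c50)) = (LP (LK LD1_c10 LD2_c25 LD3_c42)) :=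
  Lgr Lrot42 (Lpr_df (f353282 IH) (Lpn (LP (LK LD1_c10 LD2_c25 LD3_c42))))
theorem f170420 : Led Lsl_ct (LP (LK LD1_c8 LD2_c32 LD3_c7)) = (LP (LK LD1_c4 LD2_c16 LD3_c28)) :=
  Lre_c IH (LK LD1_c8 LD2_c32 LD3_c7) (LK LD1_c4 LD2_c16 LD3_c28) Lrfl Lrfl
theorem f180775 : Led Lsl_et (LP (LK LD1_c2 LD2_c34 LD3_c50)) = (LP (LK LD1_c5 LD2_c16 LD3_c3)) :=
  Lre_e IH (LK LD1_c2 LD2_c34 LD3_c50) (LK LD1_c5 LD2_c16 LD3_c3) Lrfl Lrfl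
theorem f180777 : Led Lsl_ct (LP (LK LD1_c5 LD2_c16 LD3_c3)) = (LP (LK LD1_c8 LD2_c4 LD3_c15)) :=
  Lgr Lrot15 (Lpe (f180775 IH) (Lpr_cf (K10.f180766 IH) (Lpe (K14.f180776 IH) (Lpn (LP (LK LD1_c8 LD2_c4 LD3_c15))))))
theorem f180795 : Led Lsl_cf (LP (LK LD1_c5 LD2_c16 LD3_c3)) = (LP (LK LD1_c8 LD2_c4 LD3_c15)) :=
  Lgr Lrot11 (Lpr_ct (f180777 IH) (Lpn (LP (LK LD1_c8 LD2_c4 LD3_c15))))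
theorem f350772 : Led Lsl_gf (LP (LK LD1_c10 LD2_c21 LD3_c19)) = (LP (LK LD1_c5 LD2_c16 LD3_c3)) :=
  Lgr Lrot129 (Lpe (K23.f47601 IH) (Lpe (K23.f348427 IH) (Lpe (K20.f307923 IH) (Lpe (K9.f178592 IH) (Lpr_ct (K14.f178600 IH) (Lpe (K22.f248383 IH) (Lpe (K22.f336320 IH) (Lpr_bt (K24.f350763 IH) (Lpr_gt (K24.f180810 IH) (Lpe (f180795 IH) (Lpn (LP (LK LD1_c5 LD2_c16 LD3_c3)))))))))))))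
theorem f273544 : Led Lsl_ct (LP (LK LD1_c10 LD2_c21 LD3_c19)) = (LP (LK LD1_c5 LD2_c15 LD3_c57)) :=
  Lre_c IH (LK LD1_c10 LD2_c21 LD3_c19) (LK LD1_c5 LD2_c15 LD3_c57) Lrfl Lrfl
theorem f273538 : Led Lsl_ct (LP (LK LD1_c8 LD2_c31 LD3_c46)) = (LP (LK LD1_c4 LD2_c16 LD3_c17)) :=
  Lre_c IH (LK LD1_c8 LD2_c31 LD3_c46) (LK LD1_c4 LD2_c16 LD3_c17) Lrfl Lrfl
theorem f351226 : Led Lsl_gt (LP (LK LD1_c4 LD2_c16 LD3_c28)) = (LP (LK LD1_c8 LD2_c31 LD3_c46)) :=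
  Lgr Lrot150 (Lpe (f170420 IH) (Lpe (K24.f170432 IH) (Lpr_df (K24.f351220 IH) (Lpr_gt (K24.f180810 IH) (Lpe (f180795 IH) (Lpe (f350772 IH) (Lpr_ct (f273544 IH) (Lpe (K23.f273545 IH) (Lpe (f273538 IH) (Lpn (LP (LK LD1_c8 LD2_c31 LD3_c46))))))))))))
theorem f271683 : Led Lsl_et (LP (LK LD1_c2 LD2_c5 LD3_c32)) = (LP (LK LD1_c4 LD2_c16 LD3_c28)) :=
  Lre_e IH (LK LD1_c2 LD2_c5 LD3_c32) (LK LD1_c4 LD2_c16 LD3_c28) Lrfl Lrfl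
theorem f349832 : Led Lsl_et (LP (LK LD1_c16 LD2_c3 LD3_c57)) = (LP (LK LD1_c15 LD2_c37 LD3_c23)) :=
  Lgr Lrot87 (Lpr_ef (K23.f349825 IH) (Lpn (LP (LK LD1_c15 LD2_c37 LD3_c23))))
theorem f333086 : Led Lsl_gt (LP (LK LD1_c16 LD2_c0 LD3_c37)) = (LP (LK LD1_c25 LD2_c57 LD3_c54)) :=
  Lre_g IH (LK LD1_c16 LD2_c0 LD3_c37) (LK LD1_c25 LD2_c57 LD3_c54) Lrfl Lrfl
theorem f351231 : Led Lsl_dt (LP (LK LD1_c16 LD2_c3 LD3_c57)) = (LP (LK LD1_c25 LD2_c57 LD3_c54)) :=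
  Lgr Lrot56 (Lpr_et (f349832 IH) (Lpe (K18.f295836 IH) (Lpe (K17.f283175 IH) (Lpe (K17.f283192 IH) (Lpe (K17.f271665 IH) (Lpe (K16.f52210 IH) (Lpr_et (f271683 IH) (Lpr_gt (f351226 IH) (Lpr_dt (K24.f273542 IH) (Lpr_gt (f333086 IH) (Lpn (LP (LK LD1_c25 LD2_c57 LD3_c54)))))))))))))
theorem f263597 : Led Lsl_ef (LP (LK LD1_c15 LD2_c34 LD3_c15)) = (LP (LK LD1_c8 LD2_c19 LD3_c39)) :=
  Lgr Lrot28 (Lpr_ct (K21.f170367 IH) (Lpr_et (K15.f263592 IH) (Lpe (K17.f236734 IH) (Lpn (LP (LK LD1_c8 LD2_c19 LD3_c39))))))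
theorem f348340 : Led Lsl_ct (LP (LK LD1_c4 LD2_c16 LD3_c18)) = (LP (LK LD1_c8 LD2_c31 LD3_c48)) :=
  Lre_c IH (LK LD1_c4 LD2_c16 LD3_c18) (LK LD1_c8 LD2_c31 LD3_c48) Lrfl Lrfl
theorem f323366 : Led Lsl_ct (LP (LK LD1_c8 LD2_c18 LD3_c53)) = (LP (LK LD1_c4 LD2_c9 LD3_c25)) :=
  Lre_c IH (LK LD1_c8 LD2_c18 LD3_c53) (LK LD1_c4 LD2_c9 LD3_c25) Lrfl Lrfl
theorem f348341 : Led Lsl_et (LP (LK LD1_c8 LD2_c31 LD3_c48)) = (LP (LK LD1_c8 LD2_c18 LD3_c53)) :=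
  Lgr Lrot158 (Lpe (f348340 IH) (Lpr_ef (K23.f348338 IH) (Lpe (f323366 IH) (Lpn (LP (LK LD1_c8 LD2_c18 LD3_c53))))))
theorem f348347 : Led Lsl_dt (LP (LK LD1_c8 LD2_c31 LD3_c48)) = (LP (LK LD1_c16 LD2_c0 LD3_c40)) :=
  Lre_d IH (LK LD1_c8 LD2_c31 LD3_c48) (LK LD1_c16 LD2_c0 LD3_c40) Lrfl Lrfl
theorem f351243 : Led Lsl_gf (LP (LK LD1_c16 LD2_c0 LD3_c40)) = (LP (LK LD1_c25 LD2_c57 LD3_c54)) :=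
  Lgr Lrot134 (Lpe (f348347 IH) (Lpr_et (f348341 IH) (Lpr_gt (K21.f323362 IH) (Lpr_ef (f263597 IH) (Lpr_dt (K23.f236740 IH) (Lpe (K23.f349816 IH) (Lpe (K23.f167580 IH) (Lpr_et (K23.f167583 IH) (Lpr_gt (K23.f167591 IH) (Lpr_dt (f351231 IH) (Lpn (LP (LK LD1_c25 LD2_c57 LD3_c54)))))))))))))
theorem f348349 : Led Lsl_dt (LP (LK LD1_c16 LD2_c0 LD3_c40)) = (LP (LK LD1_c8 LD2_c31 LD3_c48)) :=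
  Lre_d IH (LK LD1_c16 LD2_c0 LD3_c40) (LK LD1_c8 LD2_c31 LD3_c48) Lrfl Lrfl
theorem f348352 : Led Lsl_ct (LP (LK LD1_c8 LD2_c31 LD3_c48)) = (LP (LK LD1_c4 LD2_c16 LD3_c18)) :=
  Lre_c IH (LK LD1_c8 LD2_c31 LD3_c48) (LK LD1_c4 LD2_c16 LD3_c18) Lrfl Lrfl
theorem f348356 : Led Lsl_df (LP (LK LD1_c4 LD2_c16 LD3_c18)) = (LP (LK LD1_c5 LD2_c15 LD3_c58)) :=
  Lgr Lrot38 (Lpr_dt (K23.f348354 IH) (Lpn (LP (LK LD1_c5 LD2_c15 LD3_c58))))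
theorem f351245 : Led Lsl_gf (LP (LK LD1_c5 LD2_c15 LD3_c58)) = (LP (LK LD1_c8 LD2_c17 LD3_c50)) :=
  Lgr Lrot143 (Lpe (f348356 IH) (Lpe (f348352 IH) (Lpe (f348349 IH) (Lpr_gf (f351243 IH) (Lpe (f351231 IH) (Lpe (K23.f167591 IH) (Lpe (K23.f167576 IH) (Lpe (K23.f349873 IH) (Lpr_dt (K12.f229018 IH) (Lpn (LP (LK LD1_c8 LD2_c17 LD3_c50))))))))))))
theorem f229010 : Led Lsl_dt (LP (LK LD1_c8 LD2_c17 LD3_c50)) = (LP (LK LD1_c4 LD2_c8 LD3_c50)) :=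
  Lre_d IH (LK LD1_c8 LD2_c17 LD3_c50) (LK LD1_c4 LD2_c8 LD3_c50) Lrfl Lrfl
theorem f229011 : Led Lsl_bf (LP (LK LD1_c8 LD2_c17 LD3_c50)) = (LP (LK LD1_c10 LD2_c29 LD3_c19)) :=
  Lgr Lrot93 (Lpr_dt (f229010 IH) (Lpr_bt (K21.f229009 IH) (Lpr_dt (K12.f228985 IH) (Lpn (LP (LK LD1_c10 LD2_c29 LD3_c19))))))
theorem f191680 : Led Lsl_bt (LP (LK LD1_c8 LD2_c15 LD3_c7)) = (LP (LK LD1_c4 LD2_c51 LD3_c16)) :=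
  Lgr Lrot127 (Lpr_bf (K10.f191678 IH) (Lpn (LP (LK LD1_c4 LD2_c51 LD3_c16))))
theorem f283189 : Led Lsl_et (LP (LK LD1_c9 LD2_c34 LD3_c6)) = (LP (LK LD1_c4 LD2_c51 LD3_c1)) :=
  Lre_e IH (LK LD1_c9 LD2_c34 LD3_c6) (LK LD1_c4 LD2_c51 LD3_c1) Lrfl Lrfl
theorem f191691 : Led Lsl_dt (LP (LK LD1_c9 LD2_c34 LD3_c6)) = (LP (LK LD1_c17 LD2_c37 LD3_c14)) :=
  Lre_d IH (LK LD1_c9 LD2_c34 LD3_c6) (LK LD1_c17 LD2_c37 LD3_c14) Lrfl Lrfl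
theorem f323315 : Led Lsl_et (LP (LK LD1_c8 LD2_c19 LD3_c14)) = (LP (LK LD1_c15 LD2_c39 LD3_c4)) :=
  Lre_e IH (LK LD1_c8 LD2_c19 LD3_c14) (LK LD1_c15 LD2_c39 LD3_c4) Lrfl Lrfl
theorem f323316 : Led Lsl_dt (LP (LK LD1_c8 LD2_c19 LD3_c14)) = (LP (LK LD1_c15 LD2_c39 LD3_c3)) :=
  Lre_d IH (LK LD1_c8 LD2_c19 LD3_c14) (LK LD1_c15 LD2_c39 LD3_c3) Lrfl Lrfl
theorem f323317 : Led Lsl_gt (LP (LK LD1_c17 LD2_c37 LD3_c14)) = (LP (LK LD1_c15 LD2_c39 LD3_c3)) :=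
  Lgr Lrot112 (Lpe (f191691 IH) (Lpr_et (f283189 IH) (Lpe (K17.f282710 IH) (Lpr_ef (K17.f283184 IH) (Lpr_dt (K17.f236285 IH) (Lpe (K20.f298784 IH) (Lpr_df (K20.f298802 IH) (Lpr_gf (f323312 IH) (Lpe (f323315 IH) (Lpr_dt (f323316 IH) (Lpn (LP (LK LD1_c15 LD2_c39 LD3_c3)))))))))))))
theorem f323305 : Led Lsl_dt (LP (LK LD1_c15 LD2_c39 LD3_c3)) = (LP (LK LD1_c8 LD2_c19 LD3_c14)) :=
  Lre_d IH (LK LD1_c15 LD2_c39 LD3_c3) (LK LD1_c8 LD2_c19 LD3_c14) Lrfl Lrfl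
theorem f312544 : Led Lsl_ct (LP (LK LD1_c4 LD2_c9 LD3_c36)) = (LP (LK LD1_c8 LD2_c19 LD3_c14)) :=
  Lre_c IH (LK LD1_c4 LD2_c9 LD3_c36) (LK LD1_c8 LD2_c19 LD3_c14) Lrfl Lrfl
theorem f48959 : Led Lsl_ct (LP (LK LD1_c15 LD2_c56 LD3_c57)) = (LP (LK LD1_c8 LD2_c29 LD3_c39)) :=
  Lre_c IH (LK LD1_c15 LD2_c56 LD3_c57) (LK LD1_c8 LD2_c29 LD3_c39) Lrfl Lrfl
theorem f323319 : Led Lsl_gf (LP (LK LD1_c9 LD2_c34 LD3_c6)) = (LP (LK LD1_c15 LD2_c56 LD3_c57)) :=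
  Lgr Lrot144 (Lpr_dt (f191691 IH) (Lpr_gt (f323317 IH) (Lpr_dt (f323305 IH) (Lpe (f312544 IH) (Lpe (f323306 IH) (Lpe (f48291 IH) (Lpe (f48280 IH) (Lpe (K10.f48295 IH) (Lpe (f48959 IH) (Lpn (LP (LK LD1_c15 LD2_c56 LD3_c57))))))))))))
theorem f191697 : Led Lsl_ct (LP (LK LD1_c9 LD2_c34 LD3_c6)) = (LP (LK LD1_c4 LD2_c51 LD3_c2)) :=
  Lre_c IH (LK LD1_c9 LD2_c34 LD3_c6) (LK LD1_c4 LD2_c51 LD3_c2) Lrfl Lrfl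
theorem f48962 : Led Lsl_ct (LP (LK LD1_c8 LD2_c29 LD3_c39)) = (LP (LK LD1_c15 LD2_c56 LD3_c57)) :=
  Lre_c IH (LK LD1_c8 LD2_c29 LD3_c39) (LK LD1_c15 LD2_c56 LD3_c57) Lrfl Lrfl
theorem f48287 : Led Lsl_gt (LP (LK LD1_c5 LD2_c17 LD3_c61)) = (LP (LK LD1_c2 LD2_c35 LD3_c43)) :=
  Lre_g IH (LK LD1_c5 LD2_c17 LD3_c61) (LK LD1_c2 LD2_c35 LD3_c43) Lrfl Lrfl
theorem f251156 : Led Lsl_gt (LP (LK LD1_c8 LD2_c30 LD3_c43)) = (LP (LK LD1_c5 LD2_c17 LD3_c61)) :=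
  Lgr Lrot5 (Lpr_ft (K14.f243129 IH) (Lpr_at (K14.f251144 IH) (Lpe (f48287 IH) (Lpn (LP (LK LD1_c5 LD2_c17 LD3_c61))))))
theorem f48290 : Led Lsl_ct (LP (LK LD1_c5 LD2_c17 LD3_c61)) = (LP (LK LD1_c10 LD2_c25 LD3_c43)) :=
  Lre_c IH (LK LD1_c5 LD2_c17 LD3_c61) (LK LD1_c10 LD2_c25 LD3_c43) Lrfl Lrfl
theorem f323322 : Led Lsl_gf (LP (LK LD1_c5 LD2_c18 LD3_c6)) = (LP (LK LD1_c10 LD2_c25 LD3_c43)) :=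
  Lgr Lrot104 (Lpe (K22.f191554 IH) (Lpr_df (K10.f191692 IH) (Lpe (f191697 IH) (Lpr_gf (f323319 IH) (Lpe (f48962 IH) (Lpr_gf (K21.f287644 IH) (Lpe (K14.f243123 IH) (Lpr_gt (f251156 IH) (Lpr_ct (f48290 IH) (Lpn (LP (LK LD1_c10 LD2_c25 LD3_c43))))))))))))
theorem f351259 : Led Lsl_bf (LP (LK LD1_c5 LD2_c15 LD3_c58)) = (LP (LK LD1_c5 LD2_c17 LD3_c61)) :=
  Lgr Lrot34 (Lpr_gf (f351245 IH) (Lpr_bf (f229011 IH) (Lpr_ct (K23.f252815 IH) (Lpr_gf (K22.f333056 IH) (Lpe (K22.f191967 IH) (Lpe (K21.f191966 IH) (Lpe (f191680 IH) (Lpr_ct (K22.f191522 IH) (Lpr_gf (f323322 IH) (Lpe (f48290 IH) (Lpn (LP (LK LD1_c5 LD2_c17 LD3_c61)))))))))))))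
theorem f298609 : Led Lsl_bt (LP (LK LD1_c5 LD2_c15 LD3_c49)) = (LP (LK LD1_c5 LD2_c17 LD3_c53)) :=
  Lgr Lrot92 (Lpr_ct (K20.f180950 IH) (Lpr_gt (K20.f286483 IH) (Lpe (K17.f286386 IH) (Lpr_bt (K18.f286387 IH) (Lpr_gt (K19.f298599 IH) (Lpr_ct (K19.f298603 IH) (Lpe (K19.f298604 IH) (Lpe (K18.f296440 IH) (Lpe (K23.f212303 IH) (Lpr_gt (K23.f251249 IH) (Lpn (LP (LK LD1_c5 LD2_c17 LD3_c53)))))))))))))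
theorem f298612 : Led Lsl_bf (LP (LK LD1_c5 LD2_c15 LD3_c49)) = (LP (LK LD1_c5 LD2_c17 LD3_c53)) :=
  Lgr Lrot24 (Lpr_bt (f298609 IH) (Lpn (LP (LK LD1_c5 LD2_c17 LD3_c53))))
theorem f351325 : Led Lsl_et (LP (LK LD1_c5 LD2_c15 LD3_c49)) = (LP (LK LD1_c5 LD2_c17 LD3_c61)) :=
  Lgr Lrot74 (Lpr_bf (f298612 IH) (Lpr_ef (K23.f348358 IH) (Lpr_bf (f351259 IH) (Lpn (LP (LK LD1_c5 LD2_c17 LD3_c61))))))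
theorem f180937 : Led Lsl_dt (LP (LK LD1_c5 LD2_c15 LD3_c49)) = (LP (LK LD1_c10 LD2_c21 LD3_c0)) :=
  Lre_d IH (LK LD1_c5 LD2_c15 LD3_c49) (LK LD1_c10 LD2_c21 LD3_c0) Lrfl Lrfl
theorem f351331 : Led Lsl_gf (LP (LK LD1_c10 LD2_c21 LD3_c0)) = (LP (LK LD1_c10 LD2_c53 LD3_c38)) :=
  Lgr Lrot134 (Lpe (f180937 IH) (Lpr_et (f351325 IH) (Lpr_gt (f48287 IH) (Lpe (K10.f48264 IH) (Lpe (K23.f48260 IH) (Lpr_gt (K17.f282670 IH) (Lpr_df (K9.f169447 IH) (Lpr_et (K9.f169519 IH) (Lpr_gt (K23.f169529 IH) (Lpr_dt (f263006 IH) (Lpn (LP (LK LD1_c10 LD2_c53 LD3_c38)))))))))))))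
theorem f271611 : Led Lsl_dt (LP (LK LD1_c10 LD2_c21 LD3_c0)) = (LP (LK LD1_c5 LD2_c15 LD3_c49)) :=
  Lre_d IH (LK LD1_c10 LD2_c21 LD3_c0) (LK LD1_c5 LD2_c15 LD3_c49) Lrfl Lrfl
theorem f298616 : Led Lsl_bf (LP (LK LD1_c10 LD2_c21 LD3_c0)) = (LP (LK LD1_c10 LD2_c25 LD3_c25)) :=
  Lgr Lrot93 (Lpr_dt (f271611 IH) (Lpr_bt (f298609 IH) (Lpr_dt (K23.f251255 IH) (Lpn (LP (LK LD1_c10 LD2_c25 LD3_c25))))))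
theorem f298618 : Led Lsl_bt (LP (LK LD1_c10 LD2_c21 LD3_c0)) = (LP (LK LD1_c10 LD2_c25 LD3_c25)) :=
  Lgr Lrot127 (Lpr_bf (f298616 IH) (Lpn (LP (LK LD1_c10 LD2_c25 LD3_c25))))
theorem f260428 : Led Lsl_gt (LP (LK LD1_c2 LD2_c5 LD3_c27)) = (LP (LK LD1_c4 LD2_c16 LD3_c8)) :=
  Lre_g IH (LK LD1_c2 LD2_c5 LD3_c27) (LK LD1_c4 LD2_c16 LD3_c8) Lrfl Lrfl
theorem f323372 : Led Lsl_bt (LP (LK LD1_c4 LD2_c9 LD3_c25)) = (LP (LK LD1_c4 LD2_c16 LD3_c8)) :=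
  Lgr Lrot92 (Lpr_ct (K21.f216632 IH) (Lpr_gt (K21.f323362 IH) (Lpr_cf (K21.f170352 IH) (Lpr_bt (K21.f170369 IH) (Lpr_gt (K21.f247169 IH) (Lpe (K22.f247093 IH) (Lpr_gt (K22.f237751 IH) (Lpe (K16.f43137 IH) (Lpe (K16.f260433 IH) (Lpr_gt (f260428 IH) (Lpn (LP (LK LD1_c4 LD2_c16 LD3_c8)))))))))))))
theorem f260444 : Led Lsl_dt (LP (LK LD1_c4 LD2_c16 LD3_c8)) = (LP (LK LD1_c8 LD2_c31 LD3_c25)) :=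
  Lre_d IH (LK LD1_c4 LD2_c16 LD3_c8) (LK LD1_c8 LD2_c31 LD3_c25) Lrfl Lrfl
theorem f323381 : Led Lsl_bf (LP (LK LD1_c8 LD2_c18 LD3_c54)) = (LP (LK LD1_c8 LD2_c31 LD3_c25)) :=
  Lgr Lrot93 (Lpr_dt (K23.f282998 IH) (Lpr_bt (f323372 IH) (Lpr_dt (f260444 IH) (Lpn (LP (LK LD1_c8 LD2_c31 LD3_c25))))))
theorem f323383 : Led Lsl_bt (LP (LK LD1_c8 LD2_c18 LD3_c54)) = (LP (LK LD1_c8 LD2_c31 LD3_c25)) :=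
  Lgr Lrot127 (Lpr_bf (f323381 IH) (Lpn (LP (LK LD1_c8 LD2_c31 LD3_c25))))
theorem f348034 : Led Lsl_ef (LP (LK LD1_c10 LD2_c21 LD3_c0)) = (LP (LK LD1_c8 LD2_c31 LD3_c25)) :=
  Lgr Lrot29 (Lpr_bt (f298618 IH) (Lpr_et (K23.f348032 IH) (Lpr_bt (f323383 IH) (Lpn (LP (LK LD1_c8 LD2_c31 LD3_c25))))))
theorem f260429 : Led Lsl_dt (LP (LK LD1_c8 LD2_c31 LD3_c25)) = (LP (LK LD1_c4 LD2_c16 LD3_c8)) :=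
  Lre_d IH (LK LD1_c8 LD2_c31 LD3_c25) (LK LD1_c4 LD2_c16 LD3_c8) Lrfl Lrfl
theorem f353291 : Led Lsl_gt (LP (LK LD1_c4 LD2_c16 LD3_c8)) = (LP (LK LD1_c8 LD2_c29 LD3_c52)) :=
  Lgr Lrot112 (Lpe (f260429 IH) (Lpe (f348034 IH) (Lpr_gf (f351331 IH) (Lpe (K23.f263008 IH) (Lpe (K23.f263055 IH) (Lpe (f323330 IH) (Lpe (f353284 IH) (Lpr_gf (f353289 IH) (Lpr_ef (K18.f301518 IH) (Lpe (K21.f301516 IH) (Lpn (LP (LK LD1_c8 LD2_c29 LD3_c52)))))))))))))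
theorem f323364 : Led Lsl_gf (LP (LK LD1_c8 LD2_c18 LD3_c53)) = (LP (LK LD1_c4 LD2_c9 LD3_c43)) :=
  Lgr Lrot47 (Lpr_gt (K21.f323362 IH) (Lpr_af (K17.f273734 IH) (Lpe (K17.f273733 IH) (Lpn (LP (LK LD1_c4 LD2_c9 LD3_c43))))))
theorem f286166 : Led Lsl_bt (LP (LK LD1_c9 LD2_c35 LD3_c4)) = (LP (LK LD1_c17 LD2_c38 LD3_c56)) :=
  Lre_b IH (LK LD1_c9 LD2_c35 LD3_c4) (LK LD1_c17 LD2_c38 LD3_c56) Lrfl Lrfl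
theorem f270505 : Led Lsl_ct (LP (LK LD1_c8 LD2_c29 LD3_c52)) = (LP (LK LD1_c15 LD2_c57 LD3_c16)) :=
  Lre_c IH (LK LD1_c8 LD2_c29 LD3_c52) (LK LD1_c15 LD2_c57 LD3_c16) Lrfl Lrfl
theorem f353293 : Led Lsl_ct (LP (LK LD1_c9 LD2_c35 LD3_c4)) = (LP (LK LD1_c8 LD2_c31 LD3_c21)) :=
  Lgr Lrot63 (Lpr_bt (f286166 IH) (Lpr_gt (K20.f321358 IH) (Lpr_bf (K15.f258485 IH) (Lpr_ct (K15.f251806 IH) (Lpe (f323364 IH) (Lpe (K21.f216632 IH) (Lpr_bt (f323372 IH) (Lpr_gt (f353291 IH) (Lpr_ct (f270505 IH) (Lpr_gt (K23.f270502 IH) (Lpn (LP (LK LD1_c8 LD2_c31 LD3_c21)))))))))))))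
theorem f260947 : Led Lsl_af (LP (LK LD1_c15 LD2_c22 LD3_c56)) = (LP (LK LD1_c15 LD2_c51 LD3_c26)) :=
  Lgr Lrot0 (Lpr_at (K16.f260944 IH) (Lpn (LP (LK LD1_c15 LD2_c51 LD3_c26))))
theorem f321356 : Led Lsl_gt (LP (LK LD1_c8 LD2_c17 LD3_c58)) = (LP (LK LD1_c15 LD2_c22 LD3_c56)) :=
  Lgr Lrot46 (Lpr_gf (K20.f321354 IH) (Lpr_ft (K16.f273889 IH) (Lpe (f260947 IH) (Lpn (LP (LK LD1_c15 LD2_c22 LD3_c56))))))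
theorem f324125 : Led Lsl_gf (LP (LK LD1_c17 LD2_c38 LD3_c56)) = (LP (LK LD1_c15 LD2_c6 LD3_c42)) :=
  Lgr Lrot134 (Lpr_df (K21.f324121 IH) (Lpr_et (K21.f219349 IH) (Lpr_gt (K21.f219347 IH) (Lpe (K17.f219343 IH) (Lpr_dt (K12.f199179 IH) (Lpr_gt (K12.f219286 IH) (Lpe (K14.f219289 IH) (Lpr_et (K20.f219297 IH) (Lpr_gt (f321356 IH) (Lpr_dt (K16.f247128 IH) (Lpn (LP (LK LD1_c15 LD2_c6 LD3_c42)))))))))))))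
theorem f260435 : Led Lsl_ct (LP (LK LD1_c2 LD2_c5 LD3_c27)) = (LP (LK LD1_c4 LD2_c16 LD3_c7)) :=
  Lre_c IH (LK LD1_c2 LD2_c5 LD3_c27) (LK LD1_c4 LD2_c16 LD3_c7) Lrfl Lrfl
theorem f220549 : Led Lsl_et (LP (LK LD1_c0 LD2_c59 LD3_c46)) = (LP (LK LD1_c2 LD2_c5 LD3_c27)) :=
  Lre_e IH (LK LD1_c0 LD2_c59 LD3_c46) (LK LD1_c2 LD2_c5 LD3_c27) Lrfl Lrfl
theorem f237770 : Led Lsl_bf (LP (LK LD1_c2 LD2_c8 LD3_c25)) = (LP (LK LD1_c2 LD2_c5 LD3_c27)) :=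
  Lgr Lrot96 (Lpr_et (K14.f42919 IH) (Lpr_bt (K13.f237727 IH) (Lpr_et (f220549 IH) (Lpn (LP (LK LD1_c2 LD2_c5 LD3_c27))))))
theorem f255606 : Led Lsl_ct (LP (LK LD1_c4 LD2_c21 LD3_c50)) = (LP (LK LD1_c8 LD2_c41 LD3_c18)) :=
  Lre_c IH (LK LD1_c4 LD2_c21 LD3_c50) (LK LD1_c8 LD2_c41 LD3_c18) Lrfl Lrfl
theorem f353302 : Led Lsl_gf (LP (LK LD1_c14 LD2_c57 LD3_c39)) = (LP (LK LD1_c8 LD2_c41 LD3_c18)) :=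
  Lgr Lrot129 (Lpe (K16.f270841 IH) (Lpr_bt (K17.f247120 IH) (Lpe (f324125 IH) (Lpe (f286166 IH) (Lpr_ct (f353293 IH) (Lpr_gt (K23.f260589 IH) (Lpe (f260435 IH) (Lpe (f237770 IH) (Lpr_gt (K19.f227249 IH) (Lpr_ct (f255606 IH) (Lpn (LP (LK LD1_c8 LD2_c41 LD3_c18)))))))))))))
theorem f310307 : Led Lsl_ct (LP (LK LD1_c4 LD2_c17 LD3_c38)) = (LP (LK LD1_c8 LD2_c34 LD3_c14)) :=
  Lre_c IH (LK LD1_c4 LD2_c17 LD3_c38) (LK LD1_c8 LD2_c34 LD3_c14) Lrfl Lrfl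
theorem f310464 : Led Lsl_bf (LP (LK LD1_c4 LD2_c11 LD3_c2)) = (LP (LK LD1_c4 LD2_c17 LD3_c38)) :=
  Lgr Lrot61 (Lpr_ft (K20.f215525 IH) (Lpr_bt (K19.f310462 IH) (Lpr_ft (K21.f284123 IH) (Lpn (LP (LK LD1_c4 LD2_c17 LD3_c38))))))
theorem f353308 : Led Lsl_bf (LP (LK LD1_c8 LD2_c21 LD3_c58)) = (LP (LK LD1_c4 LD2_c21 LD3_c50)) :=
  Lgr Lrot34 (Lpe (K20.f288792 IH) (Lpr_bf (f310464 IH) (Lpr_ct (f310307 IH) (Lpe (K20.f284131 IH) (Lpe (K20.f310337 IH) (Lpr_gf (f324125 IH) (Lpe (K17.f247120 IH) (Lpr_ct (K16.f270841 IH) (Lpr_gf (f353302 IH) (Lpe (f255606 IH) (Lpn (LP (LK LD1_c4 LD2_c21 LD3_c50)))))))))))))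
theorem f258395 : Led Lsl_bt (LP (LK LD1_c4 LD2_c11 LD3_c32)) = (LP (LK LD1_c8 LD2_c22 LD3_c53)) :=
  Lre_b IH (LK LD1_c4 LD2_c11 LD3_c32) (LK LD1_c8 LD2_c22 LD3_c53) Lrfl Lrfl
theorem f353316 : Led Lsl_et (LP (LK LD1_c8 LD2_c22 LD3_c53)) = (LP (LK LD1_c4 LD2_c21 LD3_c50)) :=
  Lgr Lrot74 (Lpe (f258395 IH) (Lpr_ef (K20.f316321 IH) (Lpr_bf (f353308 IH) (Lpn (LP (LK LD1_c4 LD2_c21 LD3_c50))))))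
theorem f229083 : Led Lsl_gt (LP (LK LD1_c8 LD2_c5 LD3_c52)) = (LP (LK LD1_c4 LD2_c2 LD3_c38)) :=
  Lre_g IH (LK LD1_c8 LD2_c5 LD3_c52) (LK LD1_c4 LD2_c2 LD3_c38) Lrfl Lrfl
theorem f353418 : Led Lsl_dt (LP (LK LD1_c8 LD2_c22 LD3_c53)) = (LP (LK LD1_c8 LD2_c5 LD3_c52)) :=
  Lgr Lrot136 (Lpr_et (f353316 IH) (Lpe (K19.f227249 IH) (Lpe (K14.f227213 IH) (Lpe (K19.f227211 IH) (Lpe (K12.f201237 IH) (Lpe (K13.f201275 IH) (Lpr_gf (K13.f229890 IH) (Lpe (K13.f229686 IH) (Lpe (K21.f229658 IH) (Lpe (f229083 IH) (Lpn (LP (LK LD1_c8 LD2_c5 LD3_c52)))))))))))))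
theorem f353420 : Led Lsl_gf (LP (LK LD1_c8 LD2_c5 LD3_c52)) = (LP (LK LD1_c8 LD2_c5 LD3_c31)) :=
  Lgr Lrot134 (Lpe (f353418 IH) (Lpr_et (f353316 IH) (Lpr_gt (K23.f269890 IH) (Lpe (K16.f269865 IH) (Lpe (K18.f216759 IH) (Lpr_gt (K18.f275922 IH) (Lpr_df (K18.f229735 IH) (Lpr_et (K18.f229737 IH) (Lpe (K18.f262562 IH) (Lpe (K15.f243058 IH) (Lpn (LP (LK LD1_c8 LD2_c5 LD3_c31)))))))))))))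
theorem f305610 : Led Lsl_ef (LP (LK LD1_c15 LD2_c16 LD3_c34)) = (LP (LK LD1_c10 LD2_c16 LD3_c1)) :=
  Lgr Lrot88 (Lpr_et (K19.f305608 IH) (Lpn (LP (LK LD1_c10 LD2_c16 LD3_c1))))
theorem f310545 : Led Lsl_dt (LP (LK LD1_c10 LD2_c20 LD3_c46)) = (LP (LK LD1_c16 LD2_c16 LD3_c31)) :=
  Lgr Lrot42 (Lpr_df (K23.f310543 IH) (Lpn (LP (LK LD1_c16 LD2_c16 LD3_c31))))
theorem f353422 : Led Lsl_ef (LP (LK LD1_c8 LD2_c5 LD3_c52)) = (LP (LK LD1_c10 LD2_c20 LD3_c46)) :=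
  Lgr Lrot17 (Lpr_gf (f353420 IH) (Lpe (K18.f296402 IH) (Lpr_dt (K18.f296415 IH) (Lpe (K18.f184821 IH) (Lpe (K15.f184820 IH) (Lpe (K19.f192252 IH) (Lpr_ef (f305610 IH) (Lpe (K19.f225601 IH) (Lpe (K19.f227252 IH) (Lpe (f310545 IH) (Lpn (LP (LK LD1_c10 LD2_c20 LD3_c46)))))))))))))
theorem f353430 : Led Lsl_gt (LP (LK LD1_c18 LD2_c40 LD3_c28)) = (LP (LK LD1_c16 LD2_c16 LD3_c31)) :=
  Lgr Lrot139 (Lpe (K23.f242394 IH) (Lpe (K23.f242393 IH) (Lpe (K18.f246131 IH) (Lpr_dt (K13.f196109 IH) (Lpe (K14.f242520 IH) (Lpe (K21.f229649 IH) (Lpr_et (K13.f229064 IH) (Lpe (f229083 IH) (Lpr_ef (f353422 IH) (Lpr_dt (f310545 IH) (Lpn (LP (LK LD1_c16 LD2_c16 LD3_c31)))))))))))))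
theorem f225606 : Led Lsl_ct (LP (LK LD1_c5 LD2_c12 LD3_c49)) = (LP (LK LD1_c10 LD2_c16 LD3_c2)) :=
  Lre_c IH (LK LD1_c5 LD2_c12 LD3_c49) (LK LD1_c10 LD2_c16 LD3_c2) Lrfl Lrfl
theorem f199535 : Led Lsl_dt (LP (LK LD1_c5 LD2_c35 LD3_c43)) = (LP (LK LD1_c11 LD2_c3 LD3_c40)) :=
  Lre_d IH (LK LD1_c5 LD2_c35 LD3_c43) (LK LD1_c11 LD2_c3 LD3_c40) Lrfl Lrfl
theorem f277986 : Led Lsl_gt (LP (LK LD1_c19 LD2_c56 LD3_c2)) = (LP (LK LD1_c11 LD2_c3 LD3_c40)) :=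
  Lre_g IH (LK LD1_c19 LD2_c56 LD3_c2) (LK LD1_c11 LD2_c3 LD3_c40) Lrfl Lrfl
theorem f330081 : Led Lsl_et (LP (LK LD1_c19 LD2_c54 LD3_c8)) = (LP (LK LD1_c11 LD2_c2 LD3_c42)) :=
  Lre_e IH (LK LD1_c19 LD2_c54 LD3_c8) (LK LD1_c11 LD2_c2 LD3_c42) Lrfl Lrfl
theorem f330082 : Led Lsl_df (LP (LK LD1_c19 LD2_c56 LD3_c2)) = (LP (LK LD1_c19 LD2_c54 LD3_c8)) :=
  Lgr Lrot170 (Lpr_gt (f277986 IH) (Lpe (f199535 IH) (Lpr_et (K19.f177965 IH) (Lpr_gt (K16.f177936 IH) (Lpr_dt (K16.f177952 IH) (Lpr_gt (K16.f177953 IH) (Lpe (K16.f277975 IH) (Lpr_et (K16.f235240 IH) (Lpr_gt (K23.f329864 IH) (Lpe (f330081 IH) (Lpn (LP (LK LD1_c19 LD2_c54 LD3_c8)))))))))))))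
theorem f191295 : Led Lsl_dt (LP (LK LD1_c11 LD2_c57 LD3_c19)) = (LP (LK LD1_c21 LD2_c2 LD3_c25)) :=
  Lre_d IH (LK LD1_c11 LD2_c57 LD3_c19) (LK LD1_c21 LD2_c2 LD3_c25) Lrfl Lrfl
theorem f330090 : Led Lsl_gf (LP (LK LD1_c19 LD2_c56 LD3_c2)) = (LP (LK LD1_c21 LD2_c2 LD3_c25)) :=
  Lgr Lrot134 (Lpr_df (f330082 IH) (Lpr_et (f330081 IH) (Lpe (K23.f330076 IH) (Lpe (K10.f31264 IH) (Lpr_dt (K11.f36945 IH) (Lpe (K13.f191287 IH) (Lpe (K13.f182033 IH) (Lpr_et (K19.f191293 IH) (Lpr_gt (K20.f191294 IH) (Lpr_dt (f191295 IH) (Lpn (LP (LK LD1_c21 LD2_c2 LD3_c25)))))))))))))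
theorem f246957 : Led Lsl_ct (LP (LK LD1_c11 LD2_c3 LD3_c24)) = (LP (LK LD1_c5 LD2_c35 LD3_c36)) :=
  Lre_c IH (LK LD1_c11 LD2_c3 LD3_c24) (LK LD1_c5 LD2_c35 LD3_c36) Lrfl Lrfl
theorem f320619 : Led Lsl_gt (LP (LK LD1_c29 LD2_c11 LD3_c7)) = (LP (LK LD1_c19 LD2_c55 LD3_c17)) :=
  Lre_g IH (LK LD1_c29 LD2_c11 LD3_c7) (LK LD1_c19 LD2_c55 LD3_c17) Lrfl Lrfl
theorem f330095 : Led Lsl_ct (LP (LK LD1_c19 LD2_c56 LD3_c2)) = (LP (LK LD1_c29 LD2_c11 LD3_c7)) :=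
  Lgr Lrot152 (Lpr_gf (f330090 IH) (Lpe (f191295 IH) (Lpe (K20.f322807 IH) (Lpr_ct (f246957 IH) (Lpr_gt (K19.f246953 IH) (Lpr_ct (K20.f212981 IH) (Lpe (K20.f212979 IH) (Lpe (K20.f246943 IH) (Lpe (f320619 IH) (Lpn (LP (LK LD1_c29 LD2_c11 LD3_c7))))))))))))
theorem f279710 : Led Lsl_dt (LP (LK LD1_c11 LD2_c3 LD3_c40)) = (LP (LK LD1_c5 LD2_c35 LD3_c43)) :=
  Lre_d IH (LK LD1_c11 LD2_c3 LD3_c40) (LK LD1_c5 LD2_c35 LD3_c43) Lrfl Lrfl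
theorem f177624 : Led Lsl_ct (LP (LK LD1_c21 LD2_c2 LD3_c28)) = (LP (LK LD1_c11 LD2_c57 LD3_c20)) :=
  Lre_c IH (LK LD1_c21 LD2_c2 LD3_c28) (LK LD1_c11 LD2_c57 LD3_c20) Lrfl Lrfl
theorem f177625 : Led Lsl_dt (LP (LK LD1_c29 LD2_c49 LD3_c53)) = (LP (LK LD1_c21 LD2_c2 LD3_c28)) :=
  Lre_d IH (LK LD1_c29 LD2_c49 LD3_c53) (LK LD1_c21 LD2_c2 LD3_c28) Lrfl Lrfl
theorem f330102 : Led Lsl_gf (LP (LK LD1_c29 LD2_c49 LD3_c53)) = (LP (LK LD1_c27 LD2_c47 LD3_c23)) :=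
  Lgr Lrot154 (Lpr_dt (f177625 IH) (Lpr_ct (f177624 IH) (Lpe (K20.f177594 IH) (Lpr_gf (K19.f279693 IH) (Lpe (f279710 IH) (Lpe (f277986 IH) (Lpr_ct (f330095 IH) (Lpr_gt (f320619 IH) (Lpe (K20.f320611 IH) (Lpn (LP (LK LD1_c27 LD2_c47 LD3_c23))))))))))))
theorem f235406 : Led Lsl_ct (LP (LK LD1_c18 LD2_c10 LD3_c0)) = (LP (LK LD1_c9 LD2_c55 LD3_c25)) :=
  Lre_c IH (LK LD1_c18 LD2_c10 LD3_c0) (LK LD1_c9 LD2_c55 LD3_c25) Lrfl Lrfl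
theorem f344906 : Led Lsl_gf (LP (LK LD1_c18 LD2_c10 LD3_c0)) = (LP (LK LD1_c10 LD2_c16 LD3_c2)) :=
  Lgr Lrot147 (Lpr_ct (f235406 IH) (Lpe (K19.f314193 IH) (Lpr_ct (K19.f263288 IH) (Lpr_df (K20.f322792 IH) (Lpe (K20.f322796 IH) (Lpr_gf (f330102 IH) (Lpe (K20.f320593 IH) (Lpr_gf (K23.f344902 IH) (Lpe (K18.f196125 IH) (Lpn (LP (LK LD1_c10 LD2_c16 LD3_c2))))))))))))
theorem f333219 : Led Lsl_ft (LP (LK LD1_c5 LD2_c1 LD3_c36)) = (LP (LK LD1_c9 LD2_c53 LD3_c36)) :=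
  Lre_f IH (LK LD1_c5 LD2_c1 LD3_c36) (LK LD1_c9 LD2_c53 LD3_c36) Lrfl Lrfl
theorem f344871 : Led Lsl_at (LP (LK LD1_c9 LD2_c53 LD3_c36)) = (LP (LK LD1_c18 LD2_c3 LD3_c38)) :=
  Lgr Lrot66 (Lpe (f333219 IH) (Lpr_af (K23.f344866 IH) (Lpe (K23.f333201 IH) (Lpn (LP (LK LD1_c18 LD2_c3 LD3_c38))))))
theorem f344873 : Led Lsl_gt (LP (LK LD1_c9 LD2_c53 LD3_c33)) = (LP (LK LD1_c18 LD2_c3 LD3_c38)) :=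
  Lgr Lrot46 (Lpe (K23.f265982 IH) (Lpr_ft (f333219 IH) (Lpr_at (f344871 IH) (Lpn (LP (LK LD1_c18 LD2_c3 LD3_c38))))))
theorem f246964 : Led Lsl_ct (LP (LK LD1_c18 LD2_c3 LD3_c38)) = (LP (LK LD1_c9 LD2_c52 LD3_c1)) :=
  Lre_c IH (LK LD1_c18 LD2_c3 LD3_c38) (LK LD1_c9 LD2_c52 LD3_c1) Lrfl Lrfl
theorem f246969 : Led Lsl_ct (LP (LK LD1_c11 LD2_c3 LD3_c23)) = (LP (LK LD1_c5 LD2_c35 LD3_c37)) :=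
  Lre_c IH (LK LD1_c11 LD2_c3 LD3_c23) (LK LD1_c5 LD2_c35 LD3_c37) Lrfl Lrfl
theorem f293326 : Led Lsl_ct (LP (LK LD1_c10 LD2_c15 LD3_c58)) = (LP (LK LD1_c5 LD2_c12 LD3_c50)) :=
  Lre_c IH (LK LD1_c10 LD2_c15 LD3_c58) (LK LD1_c5 LD2_c12 LD3_c50) Lrfl Lrfl
theorem f316662 : Led Lsl_af (LP (LK LD1_c10 LD2_c15 LD3_c58)) = (LP (LK LD1_c11 LD2_c3 LD3_c21)) :=
  Lgr Lrot68 (Lpr_ct (f293326 IH) (Lpr_at (K18.f293318 IH) (Lpr_ct (K20.f316633 IH) (Lpn (LP (LK LD1_c11 LD2_c3 LD3_c21))))))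
theorem f316681 : Led Lsl_ft (LP (LK LD1_c8 LD2_c38 LD3_c49)) = (LP (LK LD1_c11 LD2_c3 LD3_c21)) :=
  Lgr Lrot48 (Lpr_ff (K20.f316666 IH) (Lpn (LP (LK LD1_c11 LD2_c3 LD3_c21))))
theorem f317273 : Led Lsl_gf (LP (LK LD1_c11 LD2_c3 LD3_c23)) = (LP (LK LD1_c8 LD2_c38 LD3_c49)) :=
  Lgr Lrot47 (Lpr_gt (K20.f317271 IH) (Lpr_af (f316662 IH) (Lpe (f316681 IH) (Lpn (LP (LK LD1_c8 LD2_c38 LD3_c49))))))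
theorem f344877 : Led Lsl_cf (LP (LK LD1_c9 LD2_c53 LD3_c33)) = (LP (LK LD1_c10 LD2_c20 LD3_c46)) :=
  Lgr Lrot169 (Lpr_gt (f344873 IH) (Lpr_ct (f246964 IH) (Lpe (K20.f246965 IH) (Lpe (f246969 IH) (Lpr_gf (f317273 IH) (Lpe (K20.f265335 IH) (Lpe (K19.f255654 IH) (Lpe (K19.f293353 IH) (Lpr_gt (K23.f180934 IH) (Lpn (LP (LK LD1_c10 LD2_c20 LD3_c46))))))))))))
theorem f344883 : Led Lsl_ct (LP (LK LD1_c9 LD2_c53 LD3_c33)) = (LP (LK LD1_c10 LD2_c20 LD3_c46)) :=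
  Lgr Lrot59 (Lpr_cf (f344877 IH) (Lpn (LP (LK LD1_c10 LD2_c20 LD3_c46))))
theorem f344875 : Led Lsl_dt (LP (LK LD1_c18 LD2_c6 LD3_c10)) = (LP (LK LD1_c9 LD2_c53 LD3_c33)) :=
  Lre_d IH (LK LD1_c18 LD2_c6 LD3_c10) (LK LD1_c9 LD2_c53 LD3_c33) Lrfl Lrfl
theorem f344876 : Led Lsl_gt (LP (LK LD1_c27 LD2_c47 LD3_c17)) = (LP (LK LD1_c18 LD2_c6 LD3_c10)) :=
  Lre_g IH (LK LD1_c27 LD2_c47 LD3_c17) (LK LD1_c18 LD2_c6 LD3_c10) Lrfl Lrfl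
theorem f353432 : Led Lsl_dt (LP (LK LD1_c18 LD2_c10 LD3_c0)) = (LP (LK LD1_c27 LD2_c47 LD3_c17)) :=
  Lgr Lrot57 (Lpr_gf (f344906 IH) (Lpe (f225606 IH) (Lpr_gt (K23.f242393 IH) (Lpr_dt (K23.f242394 IH) (Lpr_gt (f353430 IH) (Lpe (K23.f310543 IH) (Lpe (f344883 IH) (Lpe (f344875 IH) (Lpe (f344876 IH) (Lpn (LP (LK LD1_c27 LD2_c47 LD3_c17))))))))))))
theorem f229573 : Led Lsl_gt (LP (LK LD1_c10 LD2_c8 LD3_c45)) = (LP (LK LD1_c5 LD2_c9 LD3_c5)) :=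
  Lre_g IH (LK LD1_c10 LD2_c8 LD3_c45) (LK LD1_c5 LD2_c9 LD3_c5) Lrfl Lrfl
theorem f353470 : Led Lsl_ef (LP (LK LD1_c10 LD2_c8 LD3_c45)) = (LP (LK LD1_c9 LD2_c53 LD3_c33)) :=
  Lgr Lrot114 (Lpr_gt (f229573 IH) (Lpe (K17.f242576 IH) (Lpr_dt (K13.f34004 IH) (Lpe (K13.f242559 IH) (Lpr_df (K16.f242303 IH) (Lpr_et (K23.f242556 IH) (Lpe (f344906 IH) (Lpr_dt (f353432 IH) (Lpr_gt (f344876 IH) (Lpe (K23.f265983 IH) (Lpn (LP (LK LD1_c9 LD2_c53 LD3_c33)))))))))))))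
theorem f353477 : Led Lsl_et (LP (LK LD1_c10 LD2_c8 LD3_c45)) = (LP (LK LD1_c9 LD2_c53 LD3_c33)) :=
  Lgr Lrot87 (Lpr_ef (f353470 IH) (Lpn (LP (LK LD1_c9 LD2_c53 LD3_c33))))
theorem f353481 : Led Lsl_cf (LP (LK LD1_c10 LD2_c8 LD3_c45)) = (LP (LK LD1_c8 LD2_c5 LD3_c52)) :=
  Lgr Lrot39 (Lpr_et (f353477 IH) (Lpr_ct (f344883 IH) (Lpe (f353422 IH) (Lpn (LP (LK LD1_c8 LD2_c5 LD3_c52))))))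
theorem f229569 : Led Lsl_ct (LP (LK LD1_c2 LD2_c31 LD3_c43)) = (LP (LK LD1_c5 LD2_c9 LD3_c5)) :=
  Lre_c IH (LK LD1_c2 LD2_c31 LD3_c43) (LK LD1_c5 LD2_c9 LD3_c5) Lrfl Lrfl
theorem f229524 : Led Lsl_bt (LP (LK LD1_c2 LD2_c31 LD3_c43)) = (LP (LK LD1_c5 LD2_c9 LD3_c2)) :=
  Lre_b IH (LK LD1_c2 LD2_c31 LD3_c43) (LK LD1_c5 LD2_c9 LD3_c2) Lrfl Lrfl
theorem f229520 : Led Lsl_gt (LP (LK LD1_c5 LD2_c9 LD3_c2)) = (LP (LK LD1_c10 LD2_c8 LD3_c36)) :=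
  Lre_g IH (LK LD1_c5 LD2_c9 LD3_c2) (LK LD1_c10 LD2_c8 LD3_c36) Lrfl Lrfl
theorem f353424 : Led Lsl_bt (LP (LK LD1_c8 LD2_c5 LD3_c52)) = (LP (LK LD1_c5 LD2_c18 LD3_c34)) :=
  Lgr Lrot119 (Lpr_ef (f353422 IH) (Lpe (K23.f340677 IH) (Lpr_ef (K20.f316347 IH) (Lpn (LP (LK LD1_c5 LD2_c18 LD3_c34))))))
theorem f316323 : Led Lsl_gf (LP (LK LD1_c5 LD2_c18 LD3_c34)) = (LP (LK LD1_c8 LD2_c52 LD3_c37)) :=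
  Lgr Lrot134 (Lpe (K20.f316284 IH) (Lpr_et (K20.f316317 IH) (Lpr_gt (K22.f299461 IH) (Lpr_ef (K18.f299451 IH) (Lpr_dt (K18.f167471 IH) (Lpe (K21.f316098 IH) (Lpe (K21.f169387 IH) (Lpr_et (K20.f316087 IH) (Lpr_gt (K20.f230983 IH) (Lpe (K21.f248349 IH) (Lpn (LP (LK LD1_c8 LD2_c52 LD3_c37)))))))))))))
theorem f248322 : Led Lsl_ct (LP (LK LD1_c5 LD2_c19 LD3_c61)) = (LP (LK LD1_c10 LD2_c29 LD3_c51)) :=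
  Lre_c IH (LK LD1_c5 LD2_c19 LD3_c61) (LK LD1_c10 LD2_c29 LD3_c51) Lrfl Lrfl
theorem f165988 : Led Lsl_gt (LP (LK LD1_c5 LD2_c16 LD3_c28)) = (LP (LK LD1_c10 LD2_c22 LD3_c27)) :=
  Lre_g IH (LK LD1_c5 LD2_c16 LD3_c28) (LK LD1_c10 LD2_c22 LD3_c27) Lrfl Lrfl
theorem f307624 : Led Lsl_gf (LP (LK LD1_c10 LD2_c29 LD3_c51)) = (LP (LK LD1_c10 LD2_c22 LD3_c27)) :=
  Lgr Lrot76 (Lpr_af (K19.f307618 IH) (Lpe (K19.f165972 IH) (Lpr_gt (f165988 IH) (Lpn (LP (LK LD1_c10 LD2_c22 LD3_c27))))))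
theorem f353485 : Led Lsl_ct (LP (LK LD1_c10 LD2_c8 LD3_c36)) = (LP (LK LD1_c10 LD2_c22 LD3_c27)) :=
  Lgr Lrot91 (Lpe (f229520 IH) (Lpe (f229524 IH) (Lpr_ct (f229569 IH) (Lpe (f229573 IH) (Lpr_cf (f353481 IH) (Lpr_bt (f353424 IH) (Lpr_gf (f316323 IH) (Lpe (K14.f248320 IH) (Lpr_ct (f248322 IH) (Lpr_gf (f307624 IH) (Lpn (LP (LK LD1_c10 LD2_c22 LD3_c27)))))))))))))
theorem f353488 : Led Lsl_cf (LP (LK LD1_c10 LD2_c8 LD3_c36)) = (LP (LK LD1_c10 LD2_c22 LD3_c27)) :=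
  Lgr Lrot11 (Lpr_ct (f353485 IH) (Lpn (LP (LK LD1_c10 LD2_c22 LD3_c27))))
theorem f266227 : Led Lsl_gt (LP (LK LD1_c10 LD2_c8 LD3_c36)) = (LP (LK LD1_c17 LD2_c46 LD3_c56)) :=
  Lgr Lrot46 (Lpe (f229520 IH) (Lpr_ft (K15.f229536 IH) (Lpr_at (K15.f266219 IH) (Lpn (LP (LK LD1_c17 LD2_c46 LD3_c56))))))
theorem f238274 : Led Lsl_gt (LP (LK LD1_c4 LD2_c51 LD3_c41)) = (LP (LK LD1_c9 LD2_c35 LD3_c28)) :=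
  Lre_g IH (LK LD1_c4 LD2_c51 LD3_c41) (LK LD1_c9 LD2_c35 LD3_c28) Lrfl Lrfl
theorem f297707 : Led Lsl_df (LP (LK LD1_c10 LD2_c8 LD3_c36)) = (LP (LK LD1_c9 LD2_c35 LD3_c28)) :=
  Lgr Lrot135 (Lpr_gt (f266227 IH) (Lpe (K15.f266230 IH) (Lpr_et (K18.f297701 IH) (Lpr_gt (K18.f178787 IH) (Lpe (K20.f178796 IH) (Lpe (K19.f255930 IH) (Lpr_gt (K19.f266955 IH) (Lpe (K18.f266930 IH) (Lpr_et (K19.f238272 IH) (Lpr_gt (f238274 IH) (Lpn (LP (LK LD1_c9 LD2_c35 LD3_c28)))))))))))))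
theorem f297710 : Led Lsl_dt (LP (LK LD1_c10 LD2_c8 LD3_c36)) = (LP (LK LD1_c9 LD2_c35 LD3_c28)) :=
  Lgr Lrot42 (Lpr_df (f297707 IH) (Lpn (LP (LK LD1_c9 LD2_c35 LD3_c28))))
theorem f167494 : Led Lsl_ct (LP (LK LD1_c2 LD2_c6 LD3_c20)) = (LP (LK LD1_c4 LD2_c18 LD3_c4)) :=
  Lre_c IH (LK LD1_c2 LD2_c6 LD3_c20) (LK LD1_c4 LD2_c18 LD3_c4) Lrfl Lrfl
theorem f302863 : Led Lsl_gt (LP (LK LD1_c4 LD2_c18 LD3_c4)) = (LP (LK LD1_c8 LD2_c35 LD3_c3)) :=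
  Lre_g IH (LK LD1_c4 LD2_c18 LD3_c4) (LK LD1_c8 LD2_c35 LD3_c3) Lrfl Lrfl
theorem f353495 : Led Lsl_cf (LP (LK LD1_c9 LD2_c35 LD3_c28)) = (LP (LK LD1_c8 LD2_c35 LD3_c3)) :=
  Lgr Lrot99 (Lpe (f297710 IH) (Lpr_cf (f353488 IH) (Lpe (f165988 IH) (Lpe (K23.f165934 IH) (Lpe (K20.f166070 IH) (Lpr_df (K20.f316421 IH) (Lpr_gt (K20.f167524 IH) (Lpr_ct (f167494 IH) (Lpr_gt (f302863 IH) (Lpn (LP (LK LD1_c8 LD2_c35 LD3_c3))))))))))))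
theorem f353498 : Led Lsl_ct (LP (LK LD1_c9 LD2_c35 LD3_c28)) = (LP (LK LD1_c8 LD2_c35 LD3_c3)) :=
  Lgr Lrot59 (Lpr_cf (f353495 IH) (Lpn (LP (LK LD1_c8 LD2_c35 LD3_c3))))
theorem f238262 : Led Lsl_gt (LP (LK LD1_c9 LD2_c35 LD3_c30)) = (LP (LK LD1_c17 LD2_c39 LD3_c41)) :=
  Lre_g IH (LK LD1_c9 LD2_c35 LD3_c30) (LK LD1_c17 LD2_c39 LD3_c41) Lrfl Lrfl
theorem f238263 : Led Lsl_ef (LP (LK LD1_c17 LD2_c39 LD3_c41)) = (LP (LK LD1_c15 LD2_c11 LD3_c2)) :=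
  Lgr Lrot17 (Lpe (f238262 IH) (Lpr_ef (K13.f238231 IH) (Lpr_dt (K13.f44464 IH) (Lpe (K10.f44455 IH) (Lpe (K1.f44442 IH) (Lpe (K10.f44450 IH) (Lpe (K20.f44451 IH) (Lpe (K12.f190801 IH) (Lpe (K20.f188694 IH) (Lpr_df (K20.f193177 IH) (Lpn (LP (LK LD1_c15 LD2_c11 LD3_c2)))))))))))))
theorem f336354 : Led Lsl_cf (LP (LK LD1_c10 LD2_c1 LD3_c60)) = (LP (LK LD1_c17 LD2_c39 LD3_c41)) :=
  Lgr Lrot39 (Lpe (K21.f249127 IH) (Lpr_ct (K22.f336350 IH) (Lpe (f238263 IH) (Lpn (LP (LK LD1_c17 LD2_c39 LD3_c41))))))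
theorem f316495 : Led Lsl_gt (LP (LK LD1_c8 LD2_c35 LD3_c3)) = (LP (LK LD1_c16 LD2_c6 LD3_c6)) :=
  Lre_g IH (LK LD1_c8 LD2_c35 LD3_c3) (LK LD1_c16 LD2_c6 LD3_c6) Lrfl Lrfl
theorem f230462 : Led Lsl_ct (LP (LK LD1_c16 LD2_c34 LD3_c55)) = (LP (LK LD1_c8 LD2_c52 LD3_c8)) :=
  Lre_c IH (LK LD1_c16 LD2_c34 LD3_c55) (LK LD1_c8 LD2_c52 LD3_c8) Lrfl Lrfl
theorem f353527 : Led Lsl_gt (LP (LK LD1_c10 LD2_c1 LD3_c60)) = (LP (LK LD1_c16 LD2_c34 LD3_c55)) :=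
  Lgr Lrot150 (Lpr_cf (f336354 IH) (Lpe (f238262 IH) (Lpe (K19.f233273 IH) (Lpr_gt (f238274 IH) (Lpr_ct (f353498 IH) (Lpr_gt (f316495 IH) (Lpr_ct (K21.f167604 IH) (Lpe (K23.f325691 IH) (Lpe (f230462 IH) (Lpn (LP (LK LD1_c16 LD2_c34 LD3_c55))))))))))))
theorem f230465 : Led Lsl_ct (LP (LK LD1_c8 LD2_c52 LD3_c8)) = (LP (LK LD1_c16 LD2_c34 LD3_c55)) :=
  Lre_c IH (LK LD1_c8 LD2_c52 LD3_c8) (LK LD1_c16 LD2_c34 LD3_c55) Lrfl Lrfl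
theorem f200361 : Led Lsl_ct (LP (LK LD1_c5 LD2_c12 LD3_c7)) = (LP (LK LD1_c10 LD2_c15 LD3_c3)) :=
  Lre_c IH (LK LD1_c5 LD2_c12 LD3_c7) (LK LD1_c10 LD2_c15 LD3_c3) Lrfl Lrfl
theorem f200178 : Led Lsl_ct (LP (LK LD1_c4 LD2_c11 LD3_c32)) = (LP (LK LD1_c8 LD2_c22 LD3_c54)) :=
  Lre_c IH (LK LD1_c4 LD2_c11 LD3_c32) (LK LD1_c8 LD2_c22 LD3_c54) Lrfl Lrfl
theorem f258381 : Led Lsl_et (LP (LK LD1_c15 LD2_c41 LD3_c45)) = (LP (LK LD1_c25 LD2_c37 LD3_c21)) :=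
  Lre_e IH (LK LD1_c15 LD2_c41 LD3_c45) (LK LD1_c25 LD2_c37 LD3_c21) Lrfl Lrfl
theorem f249152 : Led Lsl_dt (LP (LK LD1_c15 LD2_c41 LD3_c45)) = (LP (LK LD1_c25 LD2_c37 LD3_c20)) :=
  Lre_d IH (LK LD1_c15 LD2_c41 LD3_c45) (LK LD1_c25 LD2_c37 LD3_c20) Lrfl Lrfl
theorem f42096 : Led Lsl_dt (LP (LK LD1_c11 LD2_c52 LD3_c3)) = (LP (LK LD1_c20 LD2_c54 LD3_c48)) :=
  Lre_d IH (LK LD1_c11 LD2_c52 LD3_c3) (LK LD1_c20 LD2_c54 LD3_c48) Lrfl Lrfl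
theorem f258382 : Led Lsl_gf (LP (LK LD1_c25 LD2_c37 LD3_c20)) = (LP (LK LD1_c20 LD2_c54 LD3_c48)) :=
  Lgr Lrot145 (Lpe (f249152 IH) (Lpr_et (f258381 IH) (Lpe (K21.f258379 IH) (Lpr_dt (K21.f258374 IH) (Lpe (K21.f232771 IH) (Lpe (K13.f199941 IH) (Lpr_et (K20.f199936 IH) (Lpr_gt (K16.f199937 IH) (Lpe (K20.f42095 IH) (Lpr_dt (f42096 IH) (Lpn (LP (LK LD1_c20 LD2_c54 LD3_c48)))))))))))))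
theorem f249156 : Led Lsl_dt (LP (LK LD1_c25 LD2_c37 LD3_c20)) = (LP (LK LD1_c15 LD2_c41 LD3_c45)) :=
  Lre_d IH (LK LD1_c25 LD2_c37 LD3_c20) (LK LD1_c15 LD2_c41 LD3_c45) Lrfl Lrfl
theorem f248371 : Led Lsl_ct (LP (LK LD1_c15 LD2_c41 LD3_c45)) = (LP (LK LD1_c8 LD2_c20 LD3_c19)) :=
  Lre_c IH (LK LD1_c15 LD2_c41 LD3_c45) (LK LD1_c8 LD2_c20 LD3_c19) Lrfl Lrfl
theorem f258385 : Led Lsl_gt (LP (LK LD1_c8 LD2_c22 LD3_c54)) = (LP (LK LD1_c11 LD2_c52 LD3_c3)) :=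
  Lgr Lrot94 (Lpe (f200178 IH) (Lpr_gt (K20.f170637 IH) (Lpe (K18.f200150 IH) (Lpr_gt (K21.f200176 IH) (Lpr_dt (K21.f249146 IH) (Lpe (f248371 IH) (Lpe (f249156 IH) (Lpr_gf (f258382 IH) (Lpe (f42096 IH) (Lpn (LP (LK LD1_c11 LD2_c52 LD3_c3))))))))))))
theorem f43826 : Led Lsl_et (LP (LK LD1_c4 LD2_c54 LD3_c0)) = (LP (LK LD1_c9 LD2_c39 LD3_c30)) :=
  Lre_e IH (LK LD1_c4 LD2_c54 LD3_c0) (LK LD1_c9 LD2_c39 LD3_c30) Lrfl Lrfl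
theorem f270886 : Led Lsl_dt (LP (LK LD1_c9 LD2_c39 LD3_c30)) = (LP (LK LD1_c9 LD2_c37 LD3_c52)) :=
  Lgr Lrot77 (Lpe (f43826 IH) (Lpe (K14.f43824 IH) (Lpe (K15.f43825 IH) (Lpr_df (K16.f270884 IH) (Lpe (K16.f270873 IH) (Lpn (LP (LK LD1_c9 LD2_c37 LD3_c52))))))))
theorem f231847 : Led Lsl_ct (LP (LK LD1_c17 LD2_c45 LD3_c44)) = (LP (LK LD1_c9 LD2_c39 LD3_c30)) :=
  Lre_c IH (LK LD1_c17 LD2_c45 LD3_c44) (LK LD1_c9 LD2_c39 LD3_c30) Lrfl Lrfl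
theorem f341101 : Led Lsl_gt (LP (LK LD1_c10 LD2_c15 LD3_c3)) = (LP (LK LD1_c17 LD2_c45 LD3_c44)) :=
  Lgr Lrot150 (Lpe (f200361 IH) (Lpr_gf (K23.f341097 IH) (Lpe (K18.f300377 IH) (Lpr_gt (K20.f258392 IH) (Lpr_ct (f200178 IH) (Lpr_gt (f258385 IH) (Lpe (K17.f282084 IH) (Lpe (f270886 IH) (Lpe (f231847 IH) (Lpn (LP (LK LD1_c17 LD2_c45 LD3_c44))))))))))))
theorem f353556 : Led Lsl_bt (LP (LK LD1_c17 LD2_c39 LD3_c41)) = (LP (LK LD1_c15 LD2_c50 LD3_c42)) :=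
  Lgr Lrot92 (Lpe (f336354 IH) (Lpr_gt (f353527 IH) (Lpe (f230465 IH) (Lpr_bt (K23.f230457 IH) (Lpe (K23.f341097 IH) (Lpr_ct (f200361 IH) (Lpr_gt (f341101 IH) (Lpe (K22.f231837 IH) (Lpe (K17.f231835 IH) (Lpr_gt (K23.f45016 IH) (Lpn (LP (LK LD1_c15 LD2_c50 LD3_c42)))))))))))))
theorem f279388 : Led Lsl_af (LP (LK LD1_c8 LD2_c4 LD3_c0)) = (LP (LK LD1_c5 LD2_c8 LD3_c39)) :=
  Lgr Lrot68 (Lpr_ct (K23.f193185 IH) (Lpr_at (K16.f279378 IH) (Lpr_ct (K22.f33210 IH) (Lpn (LP (LK LD1_c5 LD2_c8 LD3_c39))))))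
theorem f330276 : Led Lsl_gf (LP (LK LD1_c15 LD2_c9 LD3_c50)) = (LP (LK LD1_c10 LD2_c7 LD3_c50)) :=
  Lgr Lrot47 (Lpr_gt (K23.f330270 IH) (Lpr_af (f279388 IH) (Lpe (K13.f240128 IH) (Lpn (LP (LK LD1_c10 LD2_c7 LD3_c50))))))
theorem f353562 : Led Lsl_gf (LP (LK LD1_c10 LD2_c7 LD3_c26)) = (LP (LK LD1_c15 LD2_c50 LD3_c42)) :=
  Lgr Lrot124 (Lpe (K12.f33236 IH) (Lpr_ct (K13.f33239 IH) (Lpe (f330276 IH) (Lpe (K23.f216800 IH) (Lpe (K23.f336369 IH) (Lpr_gt (K23.f167511 IH) (Lpr_ct (K21.f167600 IH) (Lpr_gt (K21.f247459 IH) (Lpr_cf (f336354 IH) (Lpr_bt (f353556 IH) (Lpn (LP (LK LD1_c15 LD2_c50 LD3_c42)))))))))))))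
theorem f344788 : Led Lsl_gt (LP (LK LD1_c9 LD2_c37 LD3_c45)) = (LP (LK LD1_c9 LD2_c36 LD3_c50)) :=
  Lgr Lrot5 (Lpr_ft (K15.f170371 IH) (Lpr_at (K15.f258487 IH) (Lpr_gf (K23.f344786 IH) (Lpn (LP (LK LD1_c9 LD2_c36 LD3_c50))))))
theorem f333317 : Led Lsl_gt (LP (LK LD1_c15 LD2_c51 LD3_c20)) = (LP (LK LD1_c9 LD2_c34 LD3_c8)) :=
  Lgr Lrot5 (Lpr_ft (K22.f188664 IH) (Lpr_at (K22.f333305 IH) (Lpe (K23.f191701 IH) (Lpn (LP (LK LD1_c9 LD2_c34 LD3_c8))))))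
theorem f322148 : Led Lsl_ef (LP (LK LD1_c15 LD2_c51 LD3_c20)) = (LP (LK LD1_c16 LD2_c18 LD3_c58)) :=
  Lgr Lrot21 (Lpr_ft (K22.f188664 IH) (Lpr_et (K12.f188642 IH) (Lpr_ft (K19.f311772 IH) (Lpr_et (K21.f219101 IH) (Lpr_ft (K20.f322144 IH) (Lpn (LP (LK LD1_c16 LD2_c18 LD3_c58))))))))
theorem f322136 : Led Lsl_df (LP (LK LD1_c15 LD2_c34 LD3_c57)) = (LP (LK LD1_c16 LD2_c18 LD3_c58)) :=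
  Lgr Lrot38 (Lpr_dt (K20.f322132 IH) (Lpn (LP (LK LD1_c16 LD2_c18 LD3_c58))))
theorem f353568 : Led Lsl_gt (LP (LK LD1_c11 LD2_c2 LD3_c56)) = (LP (LK LD1_c15 LD2_c34 LD3_c57)) :=
  Lgr Lrot112 (Lpr_df (K23.f344779 IH) (Lpr_et (K23.f344781 IH) (Lpe (f344788 IH) (Lpr_ef (K24.f263599 IH) (Lpr_dt (K15.f33229 IH) (Lpr_gf (f353562 IH) (Lpr_df (K23.f191705 IH) (Lpe (f333317 IH) (Lpr_ef (f322148 IH) (Lpe (f322136 IH) (Lpn (LP (LK LD1_c15 LD2_c34 LD3_c57)))))))))))))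
theorem f212516 : Led Lsl_df (LP (LK LD1_c15 LD2_c30 LD3_c51)) = (LP (LK LD1_c8 LD2_c42 LD3_c37)) :=
  Lgr Lrot38 (Lpr_dt (K23.f212514 IH) (Lpn (LP (LK LD1_c8 LD2_c42 LD3_c37))))
theorem f343769 : Led Lsl_gt (LP (LK LD1_c16 LD2_c19 LD3_c2)) = (LP (LK LD1_c17 LD2_c44 LD3_c54)) :=
  Lgr Lrot137 (Lpe (K23.f212518 IH) (Lpe (f212516 IH) (Lpe (K23.f44992 IH) (Lpr_df (K24.f259720 IH) (Lpr_et (K24.f54034 IH) (Lpe (K23.f312073 IH) (Lpe (K23.f278092 IH) (Lpe (K23.f278098 IH) (Lpr_gf (K23.f343764 IH) (Lpe (K23.f343756 IH) (Lpn (LP (LK LD1_c17 LD2_c44 LD3_c54)))))))))))))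
theorem f343763 : Led Lsl_dt (LP (LK LD1_c9 LD2_c38 LD3_c36)) = (LP (LK LD1_c17 LD2_c44 LD3_c54)) :=
  Lre_d IH (LK LD1_c9 LD2_c38 LD3_c36) (LK LD1_c17 LD2_c44 LD3_c54) Lrfl Lrfl
theorem f353570 : Led Lsl_gf (LP (LK LD1_c17 LD2_c42 LD3_c14)) = (LP (LK LD1_c17 LD2_c44 LD3_c55)) :=
  Lgr Lrot138 (Lpe (K23.f344779 IH) (Lpr_gt (f353568 IH) (Lpr_df (f322136 IH) (Lpe (f322148 IH) (Lpr_gt (f333317 IH) (Lpe (K23.f191712 IH) (Lpr_dt (K23.f212522 IH) (Lpr_gt (f343769 IH) (Lpe (f343763 IH) (Lpr_et (f343757 IH) (Lpn (LP (LK LD1_c17 LD2_c44 LD3_c55)))))))))))))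
theorem f32947 : Led Lsl_dt (LP (LK LD1_c18 LD2_c52 LD3_c58)) = (LP (LK LD1_c10 LD2_c24 LD3_c29)) :=
  Lre_d IH (LK LD1_c18 LD2_c52 LD3_c58) (LK LD1_c10 LD2_c24 LD3_c29) Lrfl Lrfl
theorem f344784 : Led Lsl_et (LP (LK LD1_c9 LD2_c36 LD3_c50)) = (LP (LK LD1_c17 LD2_c42 LD3_c14)) :=
  Lre_e IH (LK LD1_c9 LD2_c36 LD3_c50) (LK LD1_c17 LD2_c42 LD3_c14) Lrfl Lrfl
theorem f344808 : Led Lsl_ef (LP (LK LD1_c18 LD2_c52 LD3_c58)) = (LP (LK LD1_c11 LD2_c2 LD3_c56)) :=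
  Lgr Lrot73 (Lpr_dt (f32947 IH) (Lpr_et (K23.f344802 IH) (Lpr_dt (K23.f344785 IH) (Lpr_et (f344784 IH) (Lpe (K23.f344779 IH) (Lpn (LP (LK LD1_c11 LD2_c2 LD3_c56))))))))
theorem f298938 : Led Lsl_bt (LP (LK LD1_c17 LD2_c44 LD3_c55)) = (LP (LK LD1_c9 LD2_c38 LD3_c38)) :=
  Lre_b IH (LK LD1_c17 LD2_c44 LD3_c55) (LK LD1_c9 LD2_c38 LD3_c38) Lrfl Lrfl
theorem f343744 : Led Lsl_dt (LP (LK LD1_c10 LD2_c24 LD3_c16)) = (LP (LK LD1_c17 LD2_c44 LD3_c55)) :=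
  Lgr Lrot79 (Lpr_bf (K23.f343738 IH) (Lpe (K19.f298936 IH) (Lpe (f298938 IH) (Lpn (LP (LK LD1_c17 LD2_c44 LD3_c55))))))
theorem f353574 : Led Lsl_gt (LP (LK LD1_c8 LD2_c26 LD3_c38)) = (LP (LK LD1_c15 LD2_c50 LD3_c61)) :=
  Lgr Lrot112 (Lpr_df (K23.f189679 IH) (Lpr_et (K23.f189681 IH) (Lpe (K23.f223249 IH) (Lpr_ef (f344808 IH) (Lpr_dt (K23.f344777 IH) (Lpr_gf (f353570 IH) (Lpe (f343744 IH) (Lpe (K23.f343736 IH) (Lpr_ef (f352960 IH) (Lpr_dt (K10.f191739 IH) (Lpn (LP (LK LD1_c15 LD2_c50 LD3_c61)))))))))))))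
theorem f188543 : Led Lsl_ft (LP (LK LD1_c4 LD2_c14 LD3_c0)) = (LP (LK LD1_c8 LD2_c26 LD3_c40)) :=
  Lre_f IH (LK LD1_c4 LD2_c14 LD3_c0) (LK LD1_c8 LD2_c26 LD3_c40) Lrfl Lrfl
theorem f353576 : Led Lsl_at (LP (LK LD1_c8 LD2_c26 LD3_c40)) = (LP (LK LD1_c15 LD2_c50 LD3_c61)) :=
  Lgr Lrot26 (Lpe (f188543 IH) (Lpr_gt (K23.f188546 IH) (Lpr_gt (f353574 IH) (Lpn (LP (LK LD1_c15 LD2_c50 LD3_c61))))))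
theorem f353580 : Led Lsl_ef (LP (LK LD1_c8 LD2_c26 LD3_c40)) = (LP (LK LD1_c9 LD2_c41 LD3_c48)) :=
  Lgr Lrot20 (Lpr_at (f353576 IH) (Lpr_et (f312018 IH) (Lpr_at (K21.f329493 IH) (Lpn (LP (LK LD1_c9 LD2_c41 LD3_c48))))))
theorem f329505 : Led Lsl_gt (LP (LK LD1_c10 LD2_c50 LD3_c27)) = (LP (LK LD1_c15 LD2_c49 LD3_c28)) :=
  Lgr Lrot46 (Lpe (K23.f220375 IH) (Lpr_ft (K21.f260974 IH) (Lpr_at (K21.f329499 IH) (Lpn (LP (LK LD1_c15 LD2_c49 LD3_c28))))))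
theorem f317600 : Led Lsl_ef (LP (LK LD1_c19 LD2_c35 LD3_c9)) = (LP (LK LD1_c15 LD2_c51 LD3_c11)) :=
  Lgr Lrot73 (Lpr_dt (K19.f213826 IH) (Lpr_et (K21.f317598 IH) (Lpr_dt (K20.f317554 IH) (Lpe (K20.f317549 IH) (Lpe (K12.f189672 IH) (Lpn (LP (LK LD1_c15 LD2_c51 LD3_c11))))))))
theorem f232164 : Led Lsl_dt (LP (LK LD1_c15 LD2_c35 LD3_c3)) = (LP (LK LD1_c8 LD2_c17 LD3_c14)) :=
  Lre_d IH (LK LD1_c15 LD2_c35 LD3_c3) (LK LD1_c8 LD2_c17 LD3_c14) Lrfl Lrfl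
theorem f353584 : Led Lsl_gt (LP (LK LD1_c8 LD2_c26 LD3_c40)) = (LP (LK LD1_c15 LD2_c35 LD3_c3)) :=
  Lgr Lrot137 (Lpr_ef (f353580 IH) (Lpe (K21.f310863 IH) (Lpe (f329505 IH) (Lpe (K23.f260979 IH) (Lpr_et (K23.f271056 IH) (Lpe (K19.f298848 IH) (Lpr_ef (f317600 IH) (Lpr_dt (K12.f189666 IH) (Lpr_gf (f317485 IH) (Lpe (f232164 IH) (Lpn (LP (LK LD1_c15 LD2_c35 LD3_c3)))))))))))))
theorem f188145 : Led Lsl_ft (LP (LK LD1_c15 LD2_c28 LD3_c47)) = (LP (LK LD1_c8 LD2_c13 LD3_c44)) :=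
  Lre_f IH (LK LD1_c15 LD2_c28 LD3_c47) (LK LD1_c8 LD2_c13 LD3_c44) Lrfl Lrfl
theorem f188544 : Led Lsl_df (LP (LK LD1_c15 LD2_c28 LD3_c47)) = (LP (LK LD1_c8 LD2_c26 LD3_c40)) :=
  Lgr Lrot78 (Lpr_ft (f188145 IH) (Lpr_dt (K10.f188534 IH) (Lpr_ft (f188543 IH) (Lpn (LP (LK LD1_c8 LD2_c26 LD3_c40))))))
theorem f191745 : Led Lsl_ft (LP (LK LD1_c10 LD2_c24 LD3_c21)) = (LP (LK LD1_c5 LD2_c17 LD3_c24)) :=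
  Lre_f IH (LK LD1_c10 LD2_c24 LD3_c21) (LK LD1_c5 LD2_c17 LD3_c24) Lrfl Lrfl
theorem f352962 : Led Lsl_af (LP (LK LD1_c8 LD2_c13 LD3_c44)) = (LP (LK LD1_c5 LD2_c17 LD3_c24)) :=
  Lgr Lrot45 (Lpr_ft (K21.f188123 IH) (Lpr_at (f352954 IH) (Lpr_ft (f191745 IH) (Lpn (LP (LK LD1_c5 LD2_c17 LD3_c24))))))
theorem f352964 : Led Lsl_at (LP (LK LD1_c8 LD2_c13 LD3_c44)) = (LP (LK LD1_c5 LD2_c17 LD3_c24)) :=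
  Lgr Lrot100 (Lpr_af (f352962 IH) (Lpn (LP (LK LD1_c5 LD2_c17 LD3_c24))))
theorem f187708 : Led Lsl_gt (LP (LK LD1_c10 LD2_c24 LD3_c20)) = (LP (LK LD1_c5 LD2_c17 LD3_c24)) :=
  Lre_g IH (LK LD1_c10 LD2_c24 LD3_c20) (LK LD1_c5 LD2_c17 LD3_c24) Lrfl Lrfl
theorem f353087 : Led Lsl_gt (LP (LK LD1_c15 LD2_c28 LD3_c47)) = (LP (LK LD1_c10 LD2_c24 LD3_c20)) :=
  Lgr Lrot5 (Lpr_ft (f188145 IH) (Lpr_at (f352964 IH) (Lpe (f187708 IH) (Lpn (LP (LK LD1_c10 LD2_c24 LD3_c20))))))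
theorem f232166 : Led Lsl_ef (LP (LK LD1_c10 LD2_c24 LD3_c6)) = (LP (LK LD1_c8 LD2_c17 LD3_c14)) :=
  Lgr Lrot17 (Lpe (K23.f54045 IH) (Lpe (K15.f54044 IH) (Lpr_dt (K13.f49112 IH) (Lpe (K10.f32086 IH) (Lpe (K15.f33046 IH) (Lpe (K10.f33049 IH) (Lpe (K10.f32954 IH) (Lpr_dt (K23.f191736 IH) (Lpr_gf (K23.f232162 IH) (Lpe (K23.f199753 IH) (Lpn (LP (LK LD1_c8 LD2_c17 LD3_c14)))))))))))))
theorem f258685 : Led Lsl_dt (LP (LK LD1_c5 LD2_c32 LD3_c10)) = (LP (LK LD1_c10 LD2_c56 LD3_c1)) :=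
  Lre_d IH (LK LD1_c5 LD2_c32 LD3_c10) (LK LD1_c10 LD2_c56 LD3_c1) Lrfl Lrfl
theorem f258668 : Led Lsl_gt (LP (LK LD1_c4 LD2_c28 LD3_c51)) = (LP (LK LD1_c8 LD2_c55 LD3_c61)) :=
  Lre_g IH (LK LD1_c4 LD2_c28 LD3_c51) (LK LD1_c8 LD2_c55 LD3_c61) Lrfl Lrfl
theorem f258870 : Led Lsl_ef (LP (LK LD1_c8 LD2_c55 LD3_c61)) = (LP (LK LD1_c11 LD2_c54 LD3_c39)) :=
  Lgr Lrot17 (Lpe (f258668 IH) (Lpe (K19.f258667 IH) (Lpr_dt (K13.f173345 IH) (Lpe (K15.f183307 IH) (Lpe (K15.f258662 IH) (Lpe (K16.f258680 IH) (Lpe (K20.f213240 IH) (Lpr_dt (f258685 IH) (Lpe (K23.f258779 IH) (Lpr_df (K23.f258861 IH) (Lpn (LP (LK LD1_c11 LD2_c54 LD3_c39)))))))))))))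
theorem f347921 : Led Lsl_cf (LP (LK LD1_c8 LD2_c17 LD3_c14)) = (LP (LK LD1_c8 LD2_c55 LD3_c61)) :=
  Lgr Lrot39 (Lpe (f232166 IH) (Lpr_ct (f347880 IH) (Lpe (f258870 IH) (Lpn (LP (LK LD1_c8 LD2_c55 LD3_c61))))))
theorem f197532 : Led Lsl_ct (LP (LK LD1_c2 LD2_c11 LD3_c27)) = (LP (LK LD1_c4 LD2_c28 LD3_c51)) :=
  Lre_c IH (LK LD1_c2 LD2_c11 LD3_c27) (LK LD1_c4 LD2_c28 LD3_c51) Lrfl Lrfl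
theorem f264494 : Led Lsl_ct (LP (LK LD1_c2 LD2_c40 LD3_c23)) = (LP (LK LD1_c5 LD2_c28 LD3_c3)) :=
  Lre_c IH (LK LD1_c2 LD2_c40 LD3_c23) (LK LD1_c5 LD2_c28 LD3_c3) Lrfl Lrfl
theorem f264495 : Led Lsl_gt (LP (LK LD1_c5 LD2_c28 LD3_c3)) = (LP (LK LD1_c10 LD2_c46 LD3_c11)) :=
  Lre_g IH (LK LD1_c5 LD2_c28 LD3_c3) (LK LD1_c10 LD2_c46 LD3_c11) Lrfl Lrfl
theorem f347925 : Led Lsl_cf (LP (LK LD1_c15 LD2_c35 LD3_c3)) = (LP (LK LD1_c10 LD2_c46 LD3_c11)) :=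
  Lgr Lrot99 (Lpe (K23.f199753 IH) (Lpr_cf (f347921 IH) (Lpe (f258668 IH) (Lpe (f197532 IH) (Lpe (K21.f197551 IH) (Lpr_df (K21.f264484 IH) (Lpr_gt (K23.f264480 IH) (Lpr_ct (f264494 IH) (Lpr_gt (f264495 IH) (Lpn (LP (LK LD1_c10 LD2_c46 LD3_c11))))))))))))
theorem f347928 : Led Lsl_ct (LP (LK LD1_c15 LD2_c35 LD3_c3)) = (LP (LK LD1_c10 LD2_c46 LD3_c11)) :=
  Lgr Lrot59 (Lpr_cf (f347925 IH) (Lpn (LP (LK LD1_c10 LD2_c46 LD3_c11))))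
theorem f282943 : Led Lsl_gt (LP (LK LD1_c10 LD2_c46 LD3_c11)) = (LP (LK LD1_c5 LD2_c27 LD3_c32)) :=
  Lre_g IH (LK LD1_c10 LD2_c46 LD3_c11) (LK LD1_c5 LD2_c27 LD3_c32) Lrfl Lrfl
theorem f264491 : Led Lsl_ct (LP (LK LD1_c5 LD2_c27 LD3_c32)) = (LP (LK LD1_c2 LD2_c40 LD3_c8)) :=
  Lre_c IH (LK LD1_c5 LD2_c27 LD3_c32) (LK LD1_c2 LD2_c40 LD3_c8) Lrfl Lrfl
theorem f190058 : Led Lsl_ct (LP (LK LD1_c8 LD2_c16 LD3_c1)) = (LP (LK LD1_c4 LD2_c8 LD3_c1)) :=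
  Lre_c IH (LK LD1_c8 LD2_c16 LD3_c1) (LK LD1_c4 LD2_c8 LD3_c1) Lrfl Lrfl
theorem f190066 : Led Lsl_gt (LP (LK LD1_c15 LD2_c32 LD3_c33)) = (LP (LK LD1_c8 LD2_c16 LD3_c1)) :=
  Lre_g IH (LK LD1_c15 LD2_c32 LD3_c33) (LK LD1_c8 LD2_c16 LD3_c1) Lrfl Lrfl
theorem f353586 : Led Lsl_ct (LP (LK LD1_c10 LD2_c24 LD3_c20)) = (LP (LK LD1_c15 LD2_c32 LD3_c33)) :=
  Lgr Lrot152 (Lpe (f353087 IH) (Lpr_df (f188544 IH) (Lpr_gt (f353584 IH) (Lpr_ct (f347928 IH) (Lpr_gt (f282943 IH) (Lpr_ct (f264491 IH) (Lpr_df (K23.f282934 IH) (Lpe (f190058 IH) (Lpe (f190066 IH) (Lpn (LP (LK LD1_c15 LD2_c32 LD3_c33))))))))))))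
theorem f188140 : Led Lsl_ct (LP (LK LD1_c8 LD2_c13 LD3_c49)) = (LP (LK LD1_c15 LD2_c28 LD3_c57)) :=
  Lre_c IH (LK LD1_c8 LD2_c13 LD3_c49) (LK LD1_c15 LD2_c28 LD3_c57) Lrfl Lrfl
theorem f325052 : Led Lsl_ft (LP (LK LD1_c9 LD2_c41 LD3_c38)) = (LP (LK LD1_c17 LD2_c49 LD3_c61)) :=
  Lre_f IH (LK LD1_c9 LD2_c41 LD3_c38) (LK LD1_c17 LD2_c49 LD3_c61) Lrfl Lrfl
theorem f213990 : Led Lsl_gt (LP (LK LD1_c9 LD2_c41 LD3_c38)) = (LP (LK LD1_c17 LD2_c49 LD3_c57)) :=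
  Lre_g IH (LK LD1_c9 LD2_c41 LD3_c38) (LK LD1_c17 LD2_c49 LD3_c57) Lrfl Lrfl
theorem f325053 : Led Lsl_gf (LP (LK LD1_c15 LD2_c28 LD3_c57)) = (LP (LK LD1_c17 LD2_c49 LD3_c57)) :=
  Lgr Lrot76 (Lpr_af (K21.f325044 IH) (Lpe (f325052 IH) (Lpr_gt (f213990 IH) (Lpn (LP (LK LD1_c17 LD2_c49 LD3_c57))))))
theorem f190065 : Led Lsl_ct (LP (LK LD1_c4 LD2_c8 LD3_c1)) = (LP (LK LD1_c8 LD2_c16 LD3_c1)) :=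
  Lre_c IH (LK LD1_c4 LD2_c8 LD3_c1) (LK LD1_c8 LD2_c16 LD3_c1) Lrfl Lrfl
theorem f190063 : Led Lsl_gt (LP (LK LD1_c4 LD2_c15 LD3_c12)) = (LP (LK LD1_c8 LD2_c29 LD3_c17)) :=
  Lre_g IH (LK LD1_c4 LD2_c15 LD3_c12) (LK LD1_c8 LD2_c29 LD3_c17) Lrfl Lrfl
theorem f335597 : Led Lsl_dt (LP (LK LD1_c2 LD2_c40 LD3_c23)) = (LP (LK LD1_c5 LD2_c26 LD3_c48)) :=
  Lgr Lrot77 (Lpr_ef (K22.f335592 IH) (Lpe (K21.f283151 IH) (Lpe (K17.f283110 IH) (Lpr_df (K18.f283113 IH) (Lpe (K17.f285530 IH) (Lpn (LP (LK LD1_c5 LD2_c26 LD3_c48))))))))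
theorem f335630 : Led Lsl_df (LP (LK LD1_c8 LD2_c16 LD3_c2)) = (LP (LK LD1_c8 LD2_c29 LD3_c17)) :=
  Lgr Lrot135 (Lpe (K23.f285544 IH) (Lpe (f335597 IH) (Lpr_et (K22.f335599 IH) (Lpe (K20.f301464 IH) (Lpr_ef (K16.f260414 IH) (Lpe (K15.f260411 IH) (Lpe (K12.f220585 IH) (Lpr_df (K17.f220590 IH) (Lpr_et (K17.f190075 IH) (Lpr_gt (f190063 IH) (Lpn (LP (LK LD1_c8 LD2_c29 LD3_c17)))))))))))))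
theorem f185679 : Led Lsl_bt (LP (LK LD1_c18 LD2_c39 LD3_c7)) = (LP (LK LD1_c10 LD2_c15 LD3_c6)) :=
  Lre_b IH (LK LD1_c18 LD2_c39 LD3_c7) (LK LD1_c10 LD2_c15 LD3_c6) Lrfl Lrfl
theorem f282641 : Led Lsl_et (LP (LK LD1_c10 LD2_c3 LD3_c48)) = (LP (LK LD1_c18 LD2_c20 LD3_c22)) :=
  Lgr Lrot87 (Lpr_ef (K17.f282635 IH) (Lpn (LP (LK LD1_c18 LD2_c20 LD3_c22))))
theorem f263089 : Led Lsl_at (LP (LK LD1_c18 LD2_c22 LD3_c24)) = (LP (LK LD1_c10 LD2_c3 LD3_c48)) :=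
  Lre_a IH (LK LD1_c18 LD2_c22 LD3_c24) (LK LD1_c10 LD2_c3 LD3_c48) Lrfl Lrfl
theorem f282643 : Led Lsl_af (LP (LK LD1_c18 LD2_c53 LD3_c6)) = (LP (LK LD1_c18 LD2_c20 LD3_c22)) :=
  Lgr Lrot50 (Lpe (K17.f263087 IH) (Lpr_at (f263089 IH) (Lpr_et (f282641 IH) (Lpn (LP (LK LD1_c18 LD2_c20 LD3_c22))))))
theorem f197081 : Led Lsl_gt (LP (LK LD1_c10 LD2_c2 LD3_c8)) = (LP (LK LD1_c18 LD2_c20 LD3_c20)) :=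
  Lre_g IH (LK LD1_c10 LD2_c2 LD3_c8) (LK LD1_c18 LD2_c20 LD3_c20) Lrfl Lrfl
theorem f282647 : Led Lsl_gf (LP (LK LD1_c18 LD2_c53 LD3_c6)) = (LP (LK LD1_c18 LD2_c20 LD3_c20)) :=
  Lgr Lrot76 (Lpr_af (f282643 IH) (Lpe (K22.f264181 IH) (Lpr_gt (f197081 IH) (Lpn (LP (LK LD1_c18 LD2_c20 LD3_c20))))))
theorem f189807 : Led Lsl_ct (LP (LK LD1_c18 LD2_c53 LD3_c6)) = (LP (LK LD1_c10 LD2_c24 LD3_c36)) :=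
  Lre_c IH (LK LD1_c18 LD2_c53 LD3_c6) (LK LD1_c10 LD2_c24 LD3_c36) Lrfl Lrfl
theorem f252635 : Led Lsl_gt (LP (LK LD1_c9 LD2_c52 LD3_c18)) = (LP (LK LD1_c18 LD2_c4 LD3_c15)) :=
  Lre_g IH (LK LD1_c9 LD2_c52 LD3_c18) (LK LD1_c18 LD2_c4 LD3_c15) Lrfl Lrfl
theorem f317906 : Led Lsl_cf (LP (LK LD1_c18 LD2_c20 LD3_c20)) = (LP (LK LD1_c18 LD2_c4 LD3_c15)) :=
  Lgr Lrot169 (Lpe (f282647 IH) (Lpr_ct (f189807 IH) (Lpe (K23.f317880 IH) (Lpe (K20.f317709 IH) (Lpr_gf (K20.f317900 IH) (Lpe (K17.f286417 IH) (Lpe (K17.f216143 IH) (Lpr_df (K17.f252640 IH) (Lpr_gt (f252635 IH) (Lpn (LP (LK LD1_c18 LD2_c4 LD3_c15))))))))))))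
theorem f278239 : Led Lsl_gt (LP (LK LD1_c18 LD2_c11 LD3_c42)) = (LP (LK LD1_c9 LD2_c56 LD3_c34)) :=
  Lre_g IH (LK LD1_c18 LD2_c11 LD3_c42) (LK LD1_c9 LD2_c56 LD3_c34) Lrfl Lrfl
theorem f323258 : Led Lsl_ct (LP (LK LD1_c18 LD2_c39 LD3_c7)) = (LP (LK LD1_c18 LD2_c11 LD3_c42)) :=
  Lgr Lrot64 (Lpr_bt (f185679 IH) (Lpr_gf (K23.f323256 IH) (Lpe (K17.f189803 IH) (Lpr_ct (K17.f189808 IH) (Lpr_gf (f282647 IH) (Lpr_cf (f317906 IH) (Lpe (f252635 IH) (Lpr_bf (K16.f278321 IH) (Lpr_ct (K23.f214954 IH) (Lpe (f278239 IH) (Lpn (LP (LK LD1_c18 LD2_c11 LD3_c42)))))))))))))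
theorem f214953 : Led Lsl_ct (LP (LK LD1_c9 LD2_c56 LD3_c34)) = (LP (LK LD1_c5 LD2_c2 LD3_c54)) :=
  Lre_c IH (LK LD1_c9 LD2_c56 LD3_c34) (LK LD1_c5 LD2_c2 LD3_c54) Lrfl Lrfl
theorem f278237 : Led Lsl_ct (LP (LK LD1_c8 LD2_c11 LD3_c21)) = (LP (LK LD1_c4 LD2_c5 LD3_c16)) :=
  Lre_c IH (LK LD1_c8 LD2_c11 LD3_c21) (LK LD1_c4 LD2_c5 LD3_c16) Lrfl Lrfl
theorem f323262 : Led Lsl_gf (LP (LK LD1_c18 LD2_c39 LD3_c7)) = (LP (LK LD1_c18 LD2_c19 LD3_c29)) :=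
  Lgr Lrot147 (Lpr_ct (f323258 IH) (Lpr_gt (f278239 IH) (Lpr_ct (f214953 IH) (Lpe (K23.f278225 IH) (Lpe (f278237 IH) (Lpe (K20.f291852 IH) (Lpe (K16.f228753 IH) (Lpe (K18.f228756 IH) (Lpe (K18.f294228 IH) (Lpn (LP (LK LD1_c18 LD2_c19 LD3_c29))))))))))))
theorem f246345 : Led Lsl_gf (LP (LK LD1_c8 LD2_c40 LD3_c56)) = (LP (LK LD1_c8 LD2_c30 LD3_c51)) :=
  Lgr Lrot76 (Lpr_af (K13.f246341 IH) (Lpe (K13.f220662 IH) (Lpr_gt (K17.f220664 IH) (Lpn (LP (LK LD1_c8 LD2_c30 LD3_c51))))))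
theorem f265793 : Led Lsl_et (LP (LK LD1_c25 LD2_c25 LD3_c19)) = (LP (LK LD1_c15 LD2_c32 LD3_c3)) :=
  Lre_e IH (LK LD1_c25 LD2_c25 LD3_c19) (LK LD1_c15 LD2_c32 LD3_c3) Lrfl Lrfl
theorem f323266 : Led Lsl_df (LP (LK LD1_c18 LD2_c39 LD3_c7)) = (LP (LK LD1_c25 LD2_c25 LD3_c19)) :=
  Lgr Lrot132 (Lpr_gf (f323262 IH) (Lpe (K23.f293752 IH) (Lpe (K18.f277589 IH) (Lpr_ef (K14.f250994 IH) (Lpr_dt (K13.f196651 IH) (Lpr_gf (f246345 IH) (Lpe (K18.f284485 IH) (Lpr_et (K17.f284459 IH) (Lpe (K19.f284541 IH) (Lpe (f265793 IH) (Lpn (LP (LK LD1_c25 LD2_c25 LD3_c19)))))))))))))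
theorem f323270 : Led Lsl_dt (LP (LK LD1_c18 LD2_c39 LD3_c7)) = (LP (LK LD1_c25 LD2_c25 LD3_c19)) :=
  Lgr Lrot42 (Lpr_df (f323266 IH) (Lpn (LP (LK LD1_c25 LD2_c25 LD3_c19))))
theorem f282994 : Led Lsl_bt (LP (LK LD1_c10 LD2_c15 LD3_c6)) = (LP (LK LD1_c18 LD2_c39 LD3_c7)) :=
  Lre_b IH (LK LD1_c10 LD2_c15 LD3_c6) (LK LD1_c18 LD2_c39 LD3_c7) Lrfl Lrfl
theorem f323274 : Led Lsl_bf (LP (LK LD1_c15 LD2_c32 LD3_c36)) = (LP (LK LD1_c25 LD2_c25 LD3_c19)) :=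
  Lgr Lrot93 (Lpe (K23.f282992 IH) (Lpr_bt (f282994 IH) (Lpr_dt (f323270 IH) (Lpn (LP (LK LD1_c25 LD2_c25 LD3_c19))))))
theorem f284548 : Led Lsl_et (LP (LK LD1_c15 LD2_c32 LD3_c3)) = (LP (LK LD1_c25 LD2_c25 LD3_c19)) :=
  Lre_e IH (LK LD1_c15 LD2_c32 LD3_c3) (LK LD1_c25 LD2_c25 LD3_c19) Lrfl Lrfl
theorem f323276 : Led Lsl_bt (LP (LK LD1_c8 LD2_c16 LD3_c2)) = (LP (LK LD1_c15 LD2_c32 LD3_c3)) :=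
  Lgr Lrot119 (Lpe (K23.f282991 IH) (Lpr_bf (f323274 IH) (Lpe (f284548 IH) (Lpn (LP (LK LD1_c15 LD2_c32 LD3_c3))))))
theorem f335632 : Led Lsl_bt (LP (LK LD1_c10 LD2_c35 LD3_c13)) = (LP (LK LD1_c8 LD2_c29 LD3_c17)) :=
  Lgr Lrot95 (Lpe (K19.f284546 IH) (Lpe (f323276 IH) (Lpr_df (f335630 IH) (Lpn (LP (LK LD1_c8 LD2_c29 LD3_c17))))))
theorem f353591 : Led Lsl_cf (LP (LK LD1_c17 LD2_c49 LD3_c57)) = (LP (LK LD1_c10 LD2_c35 LD3_c13)) :=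
  Lgr Lrot160 (Lpe (f325053 IH) (Lpe (f188140 IH) (Lpr_bt (K21.f188131 IH) (Lpr_gt (f353087 IH) (Lpr_ct (f353586 IH) (Lpr_gt (f190066 IH) (Lpe (f190065 IH) (Lpe (K17.f190053 IH) (Lpr_gt (f190063 IH) (Lpe (f335632 IH) (Lpn (LP (LK LD1_c10 LD2_c35 LD3_c13)))))))))))))
theorem f266693 : Led Lsl_et (LP (LK LD1_c17 LD2_c49 LD3_c57)) = (LP (LK LD1_c27 LD2_c37 LD3_c0)) :=
  Lre_e IH (LK LD1_c17 LD2_c49 LD3_c57) (LK LD1_c27 LD2_c37 LD3_c0) Lrfl Lrfl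
theorem f284549 : Led Lsl_et (LP (LK LD1_c19 LD2_c10 LD3_c45)) = (LP (LK LD1_c10 LD2_c35 LD3_c13)) :=
  Lre_e IH (LK LD1_c19 LD2_c10 LD3_c45) (LK LD1_c10 LD2_c35 LD3_c13) Lrfl Lrfl
theorem f353596 : Led Lsl_ct (LP (LK LD1_c27 LD2_c37 LD3_c0)) = (LP (LK LD1_c19 LD2_c10 LD3_c45)) :=
  Lgr Lrot15 (Lpe (f266693 IH) (Lpr_cf (f353591 IH) (Lpe (f284549 IH) (Lpn (LP (LK LD1_c19 LD2_c10 LD3_c45))))))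
theorem f231313 : Led Lsl_df (LP (LK LD1_c8 LD2_c15 LD3_c43)) = (LP (LK LD1_c4 LD2_c27 LD3_c43)) :=
  Lgr Lrot38 (Lpr_dt (K13.f231297 IH) (Lpn (LP (LK LD1_c4 LD2_c27 LD3_c43))))
theorem f284545 : Led Lsl_et (LP (LK LD1_c10 LD2_c35 LD3_c13)) = (LP (LK LD1_c19 LD2_c10 LD3_c45)) :=
  Lre_e IH (LK LD1_c10 LD2_c35 LD3_c13) (LK LD1_c19 LD2_c10 LD3_c45) Lrfl Lrfl
theorem f318107 : Led Lsl_gt (LP (LK LD1_c19 LD2_c10 LD3_c45)) = (LP (LK LD1_c19 LD2_c6 LD3_c28)) :=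
  Lgr Lrot137 (Lpe (f284545 IH) (Lpe (K19.f284543 IH) (Lpe (K19.f231320 IH) (Lpr_df (f231313 IH) (Lpr_et (K13.f231296 IH) (Lpe (K20.f296017 IH) (Lpe (K23.f228539 IH) (Lpr_dt (K20.f318096 IH) (Lpe (K23.f190481 IH) (Lpe (K23.f318106 IH) (Lpn (LP (LK LD1_c19 LD2_c6 LD3_c28)))))))))))))
theorem f353628 : Led Lsl_gt (LP (LK LD1_c27 LD2_c37 LD3_c0)) = (LP (LK LD1_c18 LD2_c34 LD3_c46)) :=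
  Lgr Lrot180 (Lpr_ct (f353596 IH) (Lpr_gt (f318107 IH) (Lpr_dt (K23.f318106 IH) (Lpr_gt (K23.f190481 IH) (Lpe (K20.f318103 IH) (Lpe (K23.f336258 IH) (Lpe (K22.f323947 IH) (Lpr_gf (K22.f323945 IH) (Lpe (K22.f305857 IH) (Lpn (LP (LK LD1_c18 LD2_c34 LD3_c46))))))))))))
theorem f254034 : Led Lsl_et (LP (LK LD1_c7 LD2_c57 LD3_c60)) = (LP (LK LD1_c3 LD2_c58 LD3_c17)) :=
  Lre_e IH (LK LD1_c7 LD2_c57 LD3_c60) (LK LD1_c3 LD2_c58 LD3_c17) Lrfl Lrfl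
theorem f254035 : Led Lsl_dt (LP (LK LD1_c7 LD2_c57 LD3_c60)) = (LP (LK LD1_c15 LD2_c1 LD3_c42)) :=
  Lre_d IH (LK LD1_c7 LD2_c57 LD3_c60) (LK LD1_c15 LD2_c1 LD3_c42) Lrfl Lrfl
theorem f323949 : Led Lsl_gt (LP (LK LD1_c15 LD2_c1 LD3_c42)) = (LP (LK LD1_c24 LD2_c49 LD3_c54)) :=
  Lre_g IH (LK LD1_c15 LD2_c1 LD3_c42) (LK LD1_c24 LD2_c49 LD3_c54) Lrfl Lrfl
theorem f353632 : Led Lsl_dt (LP (LK LD1_c17 LD2_c49 LD3_c57)) = (LP (LK LD1_c24 LD2_c49 LD3_c54)) :=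
  Lgr Lrot37 (Lpr_et (f266693 IH) (Lpr_gt (f353628 IH) (Lpr_dt (K22.f305857 IH) (Lpe (K22.f323945 IH) (Lpe (K22.f303299 IH) (Lpr_et (K22.f303298 IH) (Lpr_gt (K18.f190816 IH) (Lpe (f254034 IH) (Lpr_dt (f254035 IH) (Lpr_gt (f323949 IH) (Lpn (LP (LK LD1_c24 LD2_c49 LD3_c54)))))))))))))
theorem f353634 : Led Lsl_df (LP (LK LD1_c17 LD2_c49 LD3_c57)) = (LP (LK LD1_c24 LD2_c49 LD3_c54)) :=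
  Lgr Lrot38 (Lpr_dt (f353632 IH) (Lpn (LP (LK LD1_c24 LD2_c49 LD3_c54))))
theorem f323943 : Led Lsl_gt (LP (LK LD1_c15 LD2_c1 LD3_c41)) = (LP (LK LD1_c7 LD2_c57 LD3_c60)) :=
  Lre_g IH (LK LD1_c15 LD2_c1 LD3_c41) (LK LD1_c7 LD2_c57 LD3_c60) Lrfl Lrfl
theorem f353636 : Led Lsl_cf (LP (LK LD1_c8 LD2_c53 LD3_c19)) = (LP (LK LD1_c15 LD2_c1 LD3_c41)) :=
  Lgr Lrot166 (Lpr_gt (K24.f231324 IH) (Lpe (f231313 IH) (Lpr_gt (K19.f231320 IH) (Lpr_dt (K19.f284546 IH) (Lpe (f353591 IH) (Lpr_df (f353634 IH) (Lpe (f323949 IH) (Lpe (f254035 IH) (Lpe (f323943 IH) (Lpn (LP (LK LD1_c15 LD2_c1 LD3_c41))))))))))))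
theorem f187315 : Led Lsl_dt (LP (LK LD1_c8 LD2_c13 LD3_c47)) = (LP (LK LD1_c15 LD2_c28 LD3_c56)) :=
  Lre_d IH (LK LD1_c8 LD2_c13 LD3_c47) (LK LD1_c15 LD2_c28 LD3_c56) Lrfl Lrfl
theorem f353646 : Led Lsl_dt (LP (LK LD1_c24 LD2_c49 LD3_c52)) = (LP (LK LD1_c15 LD2_c1 LD3_c41)) :=
  Lre_d IH (LK LD1_c24 LD2_c49 LD3_c52) (LK LD1_c15 LD2_c1 LD3_c41) Lrfl Lrfl
theorem f353649 : Led Lsl_gt (LP (LK LD1_c15 LD2_c28 LD3_c56)) = (LP (LK LD1_c24 LD2_c49 LD3_c52)) :=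
  Lgr Lrot49 (Lpe (f187315 IH) (Lpe (f187322 IH) (Lpr_cf (f352934 IH) (Lpr_gt (f196647 IH) (Lpr_dt (K23.f194648 IH) (Lpr_gt (K24.f194649 IH) (Lpr_dt (K24.f231325 IH) (Lpr_cf (f353636 IH) (Lpe (f353646 IH) (Lpn (LP (LK LD1_c24 LD2_c49 LD3_c52))))))))))))
theorem f353651 : Led Lsl_gf (LP (LK LD1_c27 LD2_c37 LD3_c8)) = (LP (LK LD1_c24 LD2_c49 LD3_c52)) :=
  Lgr Lrot76 (Lpe (K21.f325049 IH) (Lpe (K21.f187332 IH) (Lpr_gt (f353649 IH) (Lpn (LP (LK LD1_c24 LD2_c49 LD3_c52))))))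
theorem f325082 : Led Lsl_dt (LP (LK LD1_c17 LD2_c49 LD3_c61)) = (LP (LK LD1_c27 LD2_c37 LD3_c8)) :=
  Lre_d IH (LK LD1_c17 LD2_c49 LD3_c61) (LK LD1_c27 LD2_c37 LD3_c8) Lrfl Lrfl
theorem f324959 : Led Lsl_af (LP (LK LD1_c15 LD2_c27 LD3_c32)) = (LP (LK LD1_c8 LD2_c13 LD3_c40)) :=
  Lgr Lrot0 (Lpr_at (K21.f324955 IH) (Lpn (LP (LK LD1_c8 LD2_c13 LD3_c40))))
theorem f324992 : Led Lsl_ft (LP (LK LD1_c15 LD2_c28 LD3_c41)) = (LP (LK LD1_c8 LD2_c13 LD3_c40)) :=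
  Lre_f IH (LK LD1_c15 LD2_c28 LD3_c41) (LK LD1_c8 LD2_c13 LD3_c40) Lrfl Lrfl
theorem f328380 : Led Lsl_gt (LP (LK LD1_c15 LD2_c28 LD3_c41)) = (LP (LK LD1_c19 LD2_c25 LD3_c41)) :=
  Lgr Lrot5 (Lpr_ft (f324992 IH) (Lpe (f324959 IH) (Lpr_gf (f328378 IH) (Lpn (LP (LK LD1_c19 LD2_c25 LD3_c41))))))
theorem f347359 : Led Lsl_gf (LP (LK LD1_c24 LD2_c50 LD3_c27)) = (LP (LK LD1_c31 LD2_c39 LD3_c42)) :=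
  Lgr Lrot76 (Lpe (K23.f306755 IH) (Lpr_ff (K23.f347353 IH) (Lpr_gt (f290816 IH) (Lpn (LP (LK LD1_c31 LD2_c39 LD3_c42))))))
theorem f353653 : Led Lsl_dt (LP (LK LD1_c15 LD2_c1 LD3_c41)) = (LP (LK LD1_c24 LD2_c49 LD3_c52)) :=
  Lre_d IH (LK LD1_c15 LD2_c1 LD3_c41) (LK LD1_c24 LD2_c49 LD3_c52) Lrfl Lrfl
theorem f213958 : Led Lsl_ct (LP (LK LD1_c17 LD2_c49 LD3_c61)) = (LP (LK LD1_c9 LD2_c41 LD3_c39)) :=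
  Lre_c IH (LK LD1_c17 LD2_c49 LD3_c61) (LK LD1_c9 LD2_c41 LD3_c39) Lrfl Lrfl
theorem f330952 : Led Lsl_gf (LP (LK LD1_c15 LD2_c27 LD3_c33)) = (LP (LK LD1_c8 LD2_c13 LD3_c43)) :=
  Lgr Lrot134 (Lpr_df (K16.f251700 IH) (Lpr_et (K16.f251699 IH) (Lpr_gt (K16.f279272 IH) (Lpe (K16.f279267 IH) (Lpr_dt (K16.f279195 IH) (Lpr_gt (K16.f278181 IH) (Lpe (K15.f189113 IH) (Lpr_et (K21.f279276 IH) (Lpr_gt (K21.f179594 IH) (Lpr_dt (K21.f330941 IH) (Lpn (LP (LK LD1_c8 LD2_c13 LD3_c43)))))))))))))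
theorem f325149 : Led Lsl_ef (LP (LK LD1_c8 LD2_c13 LD3_c43)) = (LP (LK LD1_c9 LD2_c41 LD3_c39)) :=
  Lgr Lrot28 (Lpr_ct (K21.f182647 IH) (Lpr_et (K21.f325145 IH) (Lpr_ct (f213958 IH) (Lpn (LP (LK LD1_c9 LD2_c41 LD3_c39))))))
theorem f351922 : Led Lsl_gf (LP (LK LD1_c4 LD2_c55 LD3_c1)) = (LP (LK LD1_c2 LD2_c44 LD3_c18)) :=
  Lgr Lrot145 (Lpe (f213948 IH) (Lpe (f325149 IH) (Lpe (f330952 IH) (Lpr_dt (f251702 IH) (Lpr_gt (f306051 IH) (Lpr_df (f301653 IH) (Lpr_et (f351912 IH) (Lpr_gt (f178240 IH) (Lpe (f178223 IH) (Lpr_dt (K24.f178189 IH) (Lpn (LP (LK LD1_c2 LD2_c44 LD3_c18)))))))))))))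
theorem f178231 : Led Lsl_gt (LP (LK LD1_c5 LD2_c36 LD3_c55)) = (LP (LK LD1_c2 LD2_c44 LD3_c20)) :=
  Lre_g IH (LK LD1_c5 LD2_c36 LD3_c55) (LK LD1_c2 LD2_c44 LD3_c20) Lrfl Lrfl
theorem f178237 : Led Lsl_ct (LP (LK LD1_c5 LD2_c36 LD3_c55)) = (LP (LK LD1_c11 LD2_c5 LD3_c59)) :=
  Lre_c IH (LK LD1_c5 LD2_c36 LD3_c55) (LK LD1_c11 LD2_c5 LD3_c59) Lrfl Lrfl
theorem f353655 : Led Lsl_gt (LP (LK LD1_c11 LD2_c5 LD3_c59)) = (LP (LK LD1_c15 LD2_c1 LD3_c41)) :=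
  Lgr Lrot94 (Lpe (f178237 IH) (Lpr_gt (f178231 IH) (Lpr_dt (K24.f178189 IH) (Lpe (f351922 IH) (Lpr_dt (K13.f213955 IH) (Lpe (f213958 IH) (Lpe (K21.f213963 IH) (Lpr_gf (f353651 IH) (Lpe (f353653 IH) (Lpn (LP (LK LD1_c15 LD2_c1 LD3_c41))))))))))))
theorem f353661 : Led Lsl_et (LP (LK LD1_c15 LD2_c1 LD3_c61)) = (LP (LK LD1_c11 LD2_c5 LD3_c59)) :=
  Lgr Lrot121 (Lpr_dt (K23.f301302 IH) (Lpr_gf (f347359 IH) (Lpr_df (f328371 IH) (Lpr_et (f328373 IH) (Lpe (f328380 IH) (Lpr_ef (K21.f325154 IH) (Lpr_dt (f325082 IH) (Lpr_gf (f353651 IH) (Lpe (f353653 IH) (Lpe (f353655 IH) (Lpn (LP (LK LD1_c11 LD2_c5 LD3_c59)))))))))))))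
theorem f301359 : Led Lsl_et (LP (LK LD1_c3 LD2_c58 LD3_c22)) = (LP (LK LD1_c7 LD2_c58 LD3_c7)) :=
  Lre_e IH (LK LD1_c3 LD2_c58 LD3_c22) (LK LD1_c7 LD2_c58 LD3_c7) Lrfl Lrfl
theorem f282887 : Led Lsl_et (LP (LK LD1_c15 LD2_c0 LD3_c56)) = (LP (LK LD1_c7 LD2_c57 LD3_c37)) :=
  Lre_e IH (LK LD1_c15 LD2_c0 LD3_c56) (LK LD1_c7 LD2_c57 LD3_c37) Lrfl Lrfl
theorem f353674 : Led Lsl_ff (LP (LK LD1_c15 LD2_c0 LD3_c56)) = (LP (LK LD1_c11 LD2_c5 LD3_c59)) :=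
  Lgr Lrot72 (Lpr_et (f282887 IH) (Lpe (K23.f347433 IH) (Lpr_et (f301359 IH) (Lpr_ft (K19.f306774 IH) (Lpr_et (f353661 IH) (Lpn (LP (LK LD1_c11 LD2_c5 LD3_c59))))))))
theorem f199725 : Led Lsl_ct (LP (LK LD1_c15 LD2_c0 LD3_c56)) = (LP (LK LD1_c7 LD2_c57 LD3_c38)) :=
  Lre_c IH (LK LD1_c15 LD2_c0 LD3_c56) (LK LD1_c7 LD2_c57 LD3_c38) Lrfl Lrfl
theorem f353681 : Led Lsl_ft (LP (LK LD1_c7 LD2_c57 LD3_c38)) = (LP (LK LD1_c5 LD2_c36 LD3_c55)) :=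
  Lgr Lrot4 (Lpe (f199725 IH) (Lpr_ff (f353674 IH) (Lpe (f178237 IH) (Lpn (LP (LK LD1_c5 LD2_c36 LD3_c55))))))
theorem f353937 : Led Lsl_df (LP (LK LD1_c8 LD2_c11 LD3_c38)) = (LP (LK LD1_c5 LD2_c36 LD3_c55)) :=
  Lgr Lrot78 (Lpr_ft (K20.f247701 IH) (Lpr_dt (K20.f247684 IH) (Lpr_ft (f353681 IH) (Lpn (LP (LK LD1_c5 LD2_c36 LD3_c55))))))
theorem f353941 : Led Lsl_bt (LP (LK LD1_c8 LD2_c17 LD3_c16)) = (LP (LK LD1_c5 LD2_c36 LD3_c55)) :=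
  Lgr Lrot95 (Lpe (K20.f247702 IH) (Lpe (K21.f247705 IH) (Lpr_df (f353937 IH) (Lpn (LP (LK LD1_c5 LD2_c36 LD3_c55))))))
theorem f247706 : Led Lsl_ct (LP (LK LD1_c8 LD2_c17 LD3_c16)) = (LP (LK LD1_c15 LD2_c35 LD3_c1)) :=
  Lre_c IH (LK LD1_c8 LD2_c17 LD3_c16) (LK LD1_c15 LD2_c35 LD3_c1) Lrfl Lrfl
theorem f353686 : Led Lsl_ft (LP (LK LD1_c15 LD2_c0 LD3_c56)) = (LP (LK LD1_c11 LD2_c5 LD3_c59)) :=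
  Lgr Lrot48 (Lpr_ff (f353674 IH) (Lpn (LP (LK LD1_c11 LD2_c5 LD3_c59))))
theorem f199751 : Led Lsl_dt (LP (LK LD1_c24 LD2_c48 LD3_c36)) = (LP (LK LD1_c15 LD2_c0 LD3_c56)) :=
  Lre_d IH (LK LD1_c24 LD2_c48 LD3_c36) (LK LD1_c15 LD2_c0 LD3_c56) Lrfl Lrfl
theorem f353670 : Led Lsl_dt (LP (LK LD1_c11 LD2_c5 LD3_c59)) = (LP (LK LD1_c19 LD2_c59 LD3_c20)) :=
  Lre_d IH (LK LD1_c11 LD2_c5 LD3_c59) (LK LD1_c19 LD2_c59 LD3_c20) Lrfl Lrfl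
theorem f353691 : Led Lsl_ff (LP (LK LD1_c24 LD2_c48 LD3_c36)) = (LP (LK LD1_c19 LD2_c59 LD3_c20)) :=
  Lgr Lrot19 (Lpr_dt (f199751 IH) (Lpr_ft (f353686 IH) (Lpr_dt (f353670 IH) (Lpn (LP (LK LD1_c19 LD2_c59 LD3_c20))))))
theorem f247700 : Led Lsl_ct (LP (LK LD1_c24 LD2_c48 LD3_c36)) = (LP (LK LD1_c31 LD2_c39 LD3_c38)) :=
  Lre_c IH (LK LD1_c24 LD2_c48 LD3_c36) (LK LD1_c31 LD2_c39 LD3_c38) Lrfl Lrfl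
theorem f353698 : Led Lsl_ct (LP (LK LD1_c29 LD2_c14 LD3_c13)) = (LP (LK LD1_c19 LD2_c59 LD3_c20)) :=
  Lre_c IH (LK LD1_c29 LD2_c14 LD3_c13) (LK LD1_c19 LD2_c59 LD3_c20) Lrfl Lrfl
theorem f353699 : Led Lsl_ft (LP (LK LD1_c31 LD2_c39 LD3_c38)) = (LP (LK LD1_c29 LD2_c14 LD3_c13)) :=
  Lgr Lrot4 (Lpe (f247700 IH) (Lpr_ff (f353691 IH) (Lpe (f353698 IH) (Lpn (LP (LK LD1_c29 LD2_c14 LD3_c13))))))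
theorem f353713 : Led Lsl_ff (LP (LK LD1_c31 LD2_c39 LD3_c38)) = (LP (LK LD1_c29 LD2_c14 LD3_c13)) :=
  Lgr Lrot3 (Lpr_ft (f353699 IH) (Lpn (LP (LK LD1_c29 LD2_c14 LD3_c13))))
theorem f199708 : Led Lsl_ct (LP (LK LD1_c7 LD2_c57 LD3_c38)) = (LP (LK LD1_c15 LD2_c0 LD3_c56)) :=
  Lre_c IH (LK LD1_c7 LD2_c57 LD3_c38) (LK LD1_c15 LD2_c0 LD3_c56) Lrfl Lrfl
theorem f247699 : Led Lsl_dt (LP (LK LD1_c15 LD2_c0 LD3_c56)) = (LP (LK LD1_c24 LD2_c48 LD3_c36)) :=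
  Lre_d IH (LK LD1_c15 LD2_c0 LD3_c56) (LK LD1_c24 LD2_c48 LD3_c36) Lrfl Lrfl
theorem f351775 : Led Lsl_ft (LP (LK LD1_c31 LD2_c40 LD3_c38)) = (LP (LK LD1_c24 LD2_c49 LD3_c56)) :=
  Lre_f IH (LK LD1_c31 LD2_c40 LD3_c38) (LK LD1_c24 LD2_c49 LD3_c56) Lrfl Lrfl
theorem f351776 : Led Lsl_af (LP (LK LD1_c31 LD2_c39 LD3_c38)) = (LP (LK LD1_c24 LD2_c49 LD3_c56)) :=
  Lgr Lrot109 (Lpe (f247700 IH) (Lpe (f247699 IH) (Lpe (f199708 IH) (Lpe (K20.f247684 IH) (Lpe (f194301 IH) (Lpe (f247694 IH) (Lpe (f247698 IH) (Lpr_df (f351767 IH) (Lpr_ft (f351775 IH) (Lpn (LP (LK LD1_c24 LD2_c49 LD3_c56))))))))))))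
theorem f351779 : Led Lsl_at (LP (LK LD1_c31 LD2_c39 LD3_c38)) = (LP (LK LD1_c24 LD2_c49 LD3_c56)) :=
  Lgr Lrot100 (Lpr_af (f351776 IH) (Lpn (LP (LK LD1_c24 LD2_c49 LD3_c56))))
theorem f351772 : Led Lsl_ft (LP (LK LD1_c24 LD2_c49 LD3_c56)) = (LP (LK LD1_c31 LD2_c40 LD3_c38)) :=
  Lre_f IH (LK LD1_c24 LD2_c49 LD3_c56) (LK LD1_c31 LD2_c40 LD3_c38) Lrfl Lrfl
theorem f353715 : Led Lsl_at (LP (LK LD1_c31 LD2_c40 LD3_c38)) = (LP (LK LD1_c29 LD2_c14 LD3_c13)) :=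
  Lgr Lrot66 (Lpe (f351772 IH) (Lpe (f351779 IH) (Lpr_ff (f353713 IH) (Lpn (LP (LK LD1_c29 LD2_c14 LD3_c13))))))
theorem f353718 : Led Lsl_af (LP (LK LD1_c24 LD2_c49 LD3_c57)) = (LP (LK LD1_c19 LD2_c59 LD3_c20)) :=
  Lgr Lrot68 (Lpr_ct (f351619 IH) (Lpr_at (f353715 IH) (Lpr_ct (f353698 IH) (Lpn (LP (LK LD1_c19 LD2_c59 LD3_c20))))))
theorem f351607 : Led Lsl_gt (LP (LK LD1_c8 LD2_c11 LD3_c36)) = (LP (LK LD1_c15 LD2_c1 LD3_c47)) :=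
  Lgr Lrot46 (Lpe (K23.f194299 IH) (Lpr_ft (f247693 IH) (Lpr_at (f351601 IH) (Lpn (LP (LK LD1_c15 LD2_c1 LD3_c47))))))
theorem f326864 : Led Lsl_dt (LP (LK LD1_c5 LD2_c39 LD3_c39)) = (LP (LK LD1_c8 LD2_c24 LD3_c15)) :=
  Lgr Lrot42 (Lpr_df (K21.f326862 IH) (Lpn (LP (LK LD1_c8 LD2_c24 LD3_c15))))
theorem f351597 : Led Lsl_ef (LP (LK LD1_c5 LD2_c39 LD3_c39)) = (LP (LK LD1_c7 LD2_c58 LD3_c1)) :=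
  Lgr Lrot73 (Lpr_dt (f326864 IH) (Lpe (K21.f326869 IH) (Lpe (K20.f322242 IH) (Lpr_et (f351522 IH) (Lpr_dt (f187276 IH) (Lpn (LP (LK LD1_c7 LD2_c58 LD3_c1))))))))
theorem f351613 : Led Lsl_df (LP (LK LD1_c8 LD2_c11 LD3_c36)) = (LP (LK LD1_c5 LD2_c36 LD3_c61)) :=
  Lgr Lrot135 (Lpr_gt (f351607 IH) (Lpe (K10.f187283 IH) (Lpe (f351597 IH) (Lpr_gt (K21.f305723 IH) (Lpr_ef (K19.f301231 IH) (Lpe (K17.f289998 IH) (Lpe (K23.f284100 IH) (Lpr_df (K10.f187301 IH) (Lpr_et (K23.f187309 IH) (Lpr_gt (K23.f342389 IH) (Lpn (LP (LK LD1_c5 LD2_c36 LD3_c61)))))))))))))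
theorem f188164 : Led Lsl_gt (LP (LK LD1_c8 LD2_c13 LD3_c47)) = (LP (LK LD1_c15 LD2_c28 LD3_c54)) :=
  Lre_g IH (LK LD1_c8 LD2_c13 LD3_c47) (LK LD1_c15 LD2_c28 LD3_c54) Lrfl Lrfl
theorem f188165 : Led Lsl_dt (LP (LK LD1_c15 LD2_c28 LD3_c54)) = (LP (LK LD1_c25 LD2_c21 LD3_c19)) :=
  Lre_d IH (LK LD1_c15 LD2_c28 LD3_c54) (LK LD1_c25 LD2_c21 LD3_c19) Lrfl Lrfl
theorem f351615 : Led Lsl_gf (LP (LK LD1_c24 LD2_c49 LD3_c57)) = (LP (LK LD1_c25 LD2_c21 LD3_c19)) :=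
  Lgr Lrot143 (Lpr_dt (f351610 IH) (Lpe (f339470 IH) (Lpe (f187276 IH) (Lpe (f351607 IH) (Lpr_df (f351613 IH) (Lpe (K23.f342389 IH) (Lpe (f187320 IH) (Lpr_gt (f188164 IH) (Lpr_dt (f188165 IH) (Lpn (LP (LK LD1_c25 LD2_c21 LD3_c19))))))))))))
theorem f353683 : Led Lsl_dt (LP (LK LD1_c19 LD2_c59 LD3_c20)) = (LP (LK LD1_c11 LD2_c5 LD3_c59)) :=
  Lre_d IH (LK LD1_c19 LD2_c59 LD3_c20) (LK LD1_c11 LD2_c5 LD3_c59) Lrfl Lrfl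
theorem f353684 : Led Lsl_ft (LP (LK LD1_c24 LD2_c48 LD3_c36)) = (LP (LK LD1_c19 LD2_c59 LD3_c20)) :=
  Lgr Lrot54 (Lpe (f247699 IH) (Lpr_ff (f353674 IH) (Lpe (f353683 IH) (Lpn (LP (LK LD1_c19 LD2_c59 LD3_c20))))))
theorem f353721 : Led Lsl_gf (LP (LK LD1_c25 LD2_c21 LD3_c19)) = (LP (LK LD1_c24 LD2_c48 LD3_c36)) :=
  Lgr Lrot47 (Lpe (f351615 IH) (Lpr_af (f353718 IH) (Lpe (f353684 IH) (Lpn (LP (LK LD1_c24 LD2_c48 LD3_c36))))))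
theorem f223161 : Led Lsl_dt (LP (LK LD1_c25 LD2_c21 LD3_c19)) = (LP (LK LD1_c15 LD2_c28 LD3_c54)) :=
  Lre_d IH (LK LD1_c25 LD2_c21 LD3_c19) (LK LD1_c15 LD2_c28 LD3_c54) Lrfl Lrfl
theorem f347981 : Led Lsl_ct (LP (LK LD1_c5 LD2_c28 LD3_c7)) = (LP (LK LD1_c10 LD2_c47 LD3_c30)) :=
  Lre_c IH (LK LD1_c5 LD2_c28 LD3_c7) (LK LD1_c10 LD2_c47 LD3_c30) Lrfl Lrfl
theorem f352779 : Led Lsl_gt (LP (LK LD1_c10 LD2_c47 LD3_c30)) = (LP (LK LD1_c15 LD2_c0 LD3_c56)) :=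
  Lgr Lrot149 (Lpe (f347981 IH) (Lpr_gf (f352767 IH) (Lpe (K14.f231352 IH) (Lpr_ct (K17.f284317 IH) (Lpr_gf (K22.f321440 IH) (Lpr_cf (f351489 IH) (Lpr_bt (f199755 IH) (Lpe (K23.f199752 IH) (Lpe (K20.f199706 IH) (Lpr_ct (f199708 IH) (Lpn (LP (LK LD1_c15 LD2_c0 LD3_c56)))))))))))))
theorem f352762 : Led Lsl_ct (LP (LK LD1_c10 LD2_c47 LD3_c30)) = (LP (LK LD1_c5 LD2_c28 LD3_c7)) :=
  Lre_c IH (LK LD1_c10 LD2_c47 LD3_c30) (LK LD1_c5 LD2_c28 LD3_c7) Lrfl Lrfl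
theorem f353725 : Led Lsl_cf (LP (LK LD1_c15 LD2_c28 LD3_c54)) = (LP (LK LD1_c10 LD2_c35 LD3_c40)) :=
  Lgr Lrot14 (Lpe (f223161 IH) (Lpr_gf (f353721 IH) (Lpe (f247699 IH) (Lpe (f352779 IH) (Lpr_ct (f352762 IH) (Lpr_gt (f352765 IH) (Lpr_dt (f170826 IH) (Lpr_gt (f187974 IH) (Lpe (f340123 IH) (Lpn (LP (LK LD1_c10 LD2_c35 LD3_c40))))))))))))
theorem f194697 : Led Lsl_bt (LP (LK LD1_c4 LD2_c3 LD3_c12)) = (LP (LK LD1_c5 LD2_c22 LD3_c40)) :=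
  Lgr Lrot127 (Lpr_bf (K10.f194694 IH) (Lpn (LP (LK LD1_c5 LD2_c22 LD3_c40))))
theorem f189374 : Led Lsl_ct (LP (LK LD1_c5 LD2_c36 LD3_c2)) = (LP (LK LD1_c11 LD2_c4 LD3_c25)) :=
  Lre_c IH (LK LD1_c5 LD2_c36 LD3_c2) (LK LD1_c11 LD2_c4 LD3_c25) Lrfl Lrfl
theorem f194751 : Led Lsl_ct (LP (LK LD1_c8 LD2_c6 LD3_c57)) = (LP (LK LD1_c4 LD2_c3 LD3_c12)) :=
  Lre_c IH (LK LD1_c8 LD2_c6 LD3_c57) (LK LD1_c4 LD2_c3 LD3_c12) Lrfl Lrfl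
theorem f315610 : Led Lsl_gt (LP (LK LD1_c11 LD2_c4 LD3_c25)) = (LP (LK LD1_c8 LD2_c6 LD3_c57)) :=
  Lgr Lrot187 (Lpe (f189374 IH) (Lpe (K22.f315586 IH) (Lpr_dt (K20.f315593 IH) (Lpr_gt (K24.f189192 IH) (Lpr_ct (K24.f189168 IH) (Lpe (K24.f212969 IH) (Lpr_ct (K19.f194746 IH) (Lpe (K10.f194742 IH) (Lpe (f194751 IH) (Lpn (LP (LK LD1_c8 LD2_c6 LD3_c57))))))))))))
theorem f353732 : Led Lsl_gt (LP (LK LD1_c15 LD2_c28 LD3_c54)) = (LP (LK LD1_c17 LD2_c49 LD3_c61)) :=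
  Lgr Lrot149 (Lpr_cf (f353725 IH) (Lpe (f201023 IH) (Lpe (f194697 IH) (Lpr_ct (K21.f194699 IH) (Lpe (f315610 IH) (Lpe (f189374 IH) (Lpr_bt (f315613 IH) (Lpr_gf (f339860 IH) (Lpr_bf (K13.f213956 IH) (Lpr_ct (K21.f213964 IH) (Lpn (LP (LK LD1_c17 LD2_c49 LD3_c61)))))))))))))
theorem f212975 : Led Lsl_ct (LP (LK LD1_c5 LD2_c22 LD3_c38)) = (LP (LK LD1_c10 LD2_c35 LD3_c37)) :=
  Lre_c IH (LK LD1_c5 LD2_c22 LD3_c38) (LK LD1_c10 LD2_c35 LD3_c37) Lrfl Lrfl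
theorem f344183 : Led Lsl_ct (LP (LK LD1_c9 LD2_c41 LD3_c35)) = (LP (LK LD1_c4 LD2_c55 LD3_c1)) :=
  Lre_c IH (LK LD1_c9 LD2_c41 LD3_c35) (LK LD1_c4 LD2_c55 LD3_c1) Lrfl Lrfl
theorem f353738 : Led Lsl_gt (LP (LK LD1_c10 LD2_c35 LD3_c37)) = (LP (LK LD1_c9 LD2_c41 LD3_c35)) :=
  Lgr Lrot150 (Lpe (f212975 IH) (Lpe (K24.f194649 IH) (Lpe (K23.f194648 IH) (Lpr_gt (f201023 IH) (Lpe (f353725 IH) (Lpr_gt (f353732 IH) (Lpr_ct (f213958 IH) (Lpe (K13.f213955 IH) (Lpe (f344183 IH) (Lpn (LP (LK LD1_c9 LD2_c41 LD3_c35))))))))))))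
theorem f352092 : Led Lsl_df (LP (LK LD1_c10 LD2_c38 LD3_c54)) = (LP (LK LD1_c10 LD2_c35 LD3_c41)) :=
  Lgr Lrot38 (Lpr_dt (f352090 IH) (Lpn (LP (LK LD1_c10 LD2_c35 LD3_c41))))
theorem f325038 : Led Lsl_dt (LP (LK LD1_c9 LD2_c41 LD3_c35)) = (LP (LK LD1_c17 LD2_c49 LD3_c54)) :=
  Lre_d IH (LK LD1_c9 LD2_c41 LD3_c35) (LK LD1_c17 LD2_c49 LD3_c54) Lrfl Lrfl
theorem f246424 : Led Lsl_dt (LP (LK LD1_c9 LD2_c41 LD3_c31)) = (LP (LK LD1_c17 LD2_c49 LD3_c44)) :=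
  Lre_d IH (LK LD1_c9 LD2_c41 LD3_c31) (LK LD1_c17 LD2_c49 LD3_c44) Lrfl Lrfl
theorem f218791 : Led Lsl_dt (LP (LK LD1_c27 LD2_c35 LD3_c26)) = (LP (LK LD1_c17 LD2_c48 LD3_c6)) :=
  Lre_d IH (LK LD1_c27 LD2_c35 LD3_c26) (LK LD1_c17 LD2_c48 LD3_c6) Lrfl Lrfl
theorem f344128 : Led Lsl_at (LP (LK LD1_c17 LD2_c49 LD3_c44)) = (LP (LK LD1_c27 LD2_c35 LD3_c26)) :=
  Lgr Lrot51 (Lpe (f246424 IH) (Lpr_af (K23.f344121 IH) (Lpe (f218791 IH) (Lpn (LP (LK LD1_c27 LD2_c35 LD3_c26))))))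
theorem f344145 : Led Lsl_et (LP (LK LD1_c9 LD2_c41 LD3_c34)) = (LP (LK LD1_c17 LD2_c49 LD3_c44)) :=
  Lre_e IH (LK LD1_c9 LD2_c41 LD3_c34) (LK LD1_c17 LD2_c49 LD3_c44) Lrfl Lrfl
theorem f344146 : Led Lsl_et (LP (LK LD1_c27 LD2_c35 LD3_c26)) = (LP (LK LD1_c17 LD2_c48 LD3_c7)) :=
  Lre_e IH (LK LD1_c27 LD2_c35 LD3_c26) (LK LD1_c17 LD2_c48 LD3_c7) Lrfl Lrfl
theorem f344147 : Led Lsl_af (LP (LK LD1_c9 LD2_c41 LD3_c34)) = (LP (LK LD1_c17 LD2_c48 LD3_c7)) :=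
  Lgr Lrot50 (Lpr_et (f344145 IH) (Lpr_at (f344128 IH) (Lpr_et (f344146 IH) (Lpn (LP (LK LD1_c17 LD2_c48 LD3_c7))))))
theorem f344149 : Led Lsl_at (LP (LK LD1_c9 LD2_c41 LD3_c34)) = (LP (LK LD1_c17 LD2_c48 LD3_c7)) :=
  Lgr Lrot100 (Lpr_af (f344147 IH) (Lpn (LP (LK LD1_c17 LD2_c48 LD3_c7))))
theorem f344191 : Led Lsl_ft (LP (LK LD1_c17 LD2_c49 LD3_c54)) = (LP (LK LD1_c9 LD2_c41 LD3_c34)) :=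
  Lre_f IH (LK LD1_c17 LD2_c49 LD3_c54) (LK LD1_c9 LD2_c41 LD3_c34) Lrfl Lrfl
theorem f351820 : Led Lsl_gf (LP (LK LD1_c25 LD2_c17 LD3_c43)) = (LP (LK LD1_c17 LD2_c49 LD3_c54)) :=
  Lgr Lrot47 (Lpr_gt (f351818 IH) (Lpe (f344149 IH) (Lpe (f344191 IH) (Lpn (LP (LK LD1_c17 LD2_c49 LD3_c54))))))
theorem f351778 : Led Lsl_dt (LP (LK LD1_c25 LD2_c17 LD3_c43)) = (LP (LK LD1_c15 LD2_c25 LD3_c33)) :=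
  Lre_d IH (LK LD1_c25 LD2_c17 LD3_c43) (LK LD1_c15 LD2_c25 LD3_c33) Lrfl Lrfl
theorem f353742 : Led Lsl_cf (LP (LK LD1_c10 LD2_c38 LD3_c54)) = (LP (LK LD1_c15 LD2_c25 LD3_c33)) :=
  Lgr Lrot14 (Lpr_df (f352092 IH) (Lpe (f352096 IH) (Lpe (K19.f182848 IH) (Lpe (K24.f328385 IH) (Lpr_ct (f212975 IH) (Lpr_gt (f353738 IH) (Lpr_dt (f325038 IH) (Lpe (f351820 IH) (Lpr_dt (f351778 IH) (Lpn (LP (LK LD1_c15 LD2_c25 LD3_c33))))))))))))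
theorem f291858 : Led Lsl_et (LP (LK LD1_c2 LD2_c25 LD3_c33)) = (LP (LK LD1_c4 LD2_c55 LD3_c20)) :=
  Lre_e IH (LK LD1_c2 LD2_c25 LD3_c33) (LK LD1_c4 LD2_c55 LD3_c20) Lrfl Lrfl
theorem f298681 : Led Lsl_gt (LP (LK LD1_c4 LD2_c55 LD3_c20)) = (LP (LK LD1_c9 LD2_c42 LD3_c15)) :=
  Lre_g IH (LK LD1_c4 LD2_c55 LD3_c20) (LK LD1_c9 LD2_c42 LD3_c15) Lrfl Lrfl
theorem f351824 : Led Lsl_et (LP (LK LD1_c15 LD2_c25 LD3_c33)) = (LP (LK LD1_c9 LD2_c42 LD3_c15)) :=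
  Lgr Lrot122 (Lpr_dt (f351817 IH) (Lpr_gt (f351818 IH) (Lpe (f187329 IH) (Lpr_et (f221558 IH) (Lpe (K13.f221554 IH) (Lpe (K16.f246632 IH) (Lpr_gt (K15.f246426 IH) (Lpe (K15.f217341 IH) (Lpr_et (f291858 IH) (Lpr_gt (f298681 IH) (Lpn (LP (LK LD1_c9 LD2_c42 LD3_c15)))))))))))))
theorem f351828 : Led Lsl_ef (LP (LK LD1_c15 LD2_c25 LD3_c33)) = (LP (LK LD1_c9 LD2_c42 LD3_c15)) :=
  Lgr Lrot88 (Lpr_et (f351824 IH) (Lpn (LP (LK LD1_c9 LD2_c42 LD3_c15))))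
theorem f353744 : Led Lsl_ct (LP (LK LD1_c5 LD2_c24 LD3_c3)) = (LP (LK LD1_c9 LD2_c42 LD3_c15)) :=
  Lgr Lrot15 (Lpe (f224811 IH) (Lpr_cf (f353742 IH) (Lpr_ef (f351828 IH) (Lpn (LP (LK LD1_c9 LD2_c42 LD3_c15))))))
theorem f330742 : Led Lsl_bf (LP (LK LD1_c4 LD2_c55 LD3_c22)) = (LP (LK LD1_c2 LD2_c25 LD3_c46)) :=
  Lgr Lrot24 (Lpr_bt (K23.f330740 IH) (Lpn (LP (LK LD1_c2 LD2_c25 LD3_c46))))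
theorem f281323 : Led Lsl_at (LP (LK LD1_c2 LD2_c42 LD3_c2)) = (LP (LK LD1_c5 LD2_c31 LD3_c39)) :=
  Lre_a IH (LK LD1_c2 LD2_c42 LD3_c2) (LK LD1_c5 LD2_c31 LD3_c39) Lrfl Lrfl
theorem f281324 : Led Lsl_bt (LP (LK LD1_c1 LD2_c17 LD3_c40)) = (LP (LK LD1_c2 LD2_c42 LD3_c2)) :=
  Lre_b IH (LK LD1_c1 LD2_c17 LD3_c40) (LK LD1_c2 LD2_c42 LD3_c2) Lrfl Lrfl
theorem f281325 : Led Lsl_at (LP (LK LD1_c8 LD2_c57 LD3_c25)) = (LP (LK LD1_c4 LD2_c29 LD3_c37)) :=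
  Lre_a IH (LK LD1_c8 LD2_c57 LD3_c25) (LK LD1_c4 LD2_c29 LD3_c37) Lrfl Lrfl
theorem f281326 : Led Lsl_bt (LP (LK LD1_c4 LD2_c29 LD3_c37)) = (LP (LK LD1_c2 LD2_c11 LD3_c52)) :=
  Lre_b IH (LK LD1_c4 LD2_c29 LD3_c37) (LK LD1_c2 LD2_c11 LD3_c52) Lrfl Lrfl
theorem f281327 : Led Lsl_af (LP (LK LD1_c1 LD2_c17 LD3_c40)) = (LP (LK LD1_c2 LD2_c11 LD3_c52)) :=
  Lgr Lrot36 (Lpr_bt (f281324 IH) (Lpr_at (f281323 IH) (Lpr_bt (K21.f281321 IH) (Lpr_at (f281325 IH) (Lpr_bt (f281326 IH) (Lpn (LP (LK LD1_c2 LD2_c11 LD3_c52))))))))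
theorem f281459 : Led Lsl_gf (LP (LK LD1_c2 LD2_c42 LD3_c7)) = (LP (LK LD1_c4 LD2_c29 LD3_c42)) :=
  Lgr Lrot47 (Lpr_gt (K19.f178903 IH) (Lpr_af (f281327 IH) (Lpe (K20.f280990 IH) (Lpn (LP (LK LD1_c4 LD2_c29 LD3_c42))))))
theorem f353775 : Led Lsl_bt (LP (LK LD1_c5 LD2_c24 LD3_c3)) = (LP (LK LD1_c8 LD2_c6 LD3_c11)) :=
  Lgr Lrot22 (Lpr_ct (f353744 IH) (Lpe (f298681 IH) (Lpe (K22.f168564 IH) (Lpe (K23.f168595 IH) (Lpr_bf (f330742 IH) (Lpe (K19.f185868 IH) (Lpr_gf (f281459 IH) (Lpe (K21.f261773 IH) (Lpr_bt (K15.f261786 IH) (Lpr_gf (K23.f261896 IH) (Lpn (LP (LK LD1_c8 LD2_c6 LD3_c11)))))))))))))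
theorem f353783 : Led Lsl_bf (LP (LK LD1_c10 LD2_c38 LD3_c54)) = (LP (LK LD1_c5 LD2_c26 LD3_c47)) :=
  Lgr Lrot96 (Lpr_et (f224811 IH) (Lpr_bt (f353775 IH) (Lpr_et (K23.f340816 IH) (Lpn (LP (LK LD1_c5 LD2_c26 LD3_c47))))))
theorem f191344 : Led Lsl_et (LP (LK LD1_c4 LD2_c7 LD3_c42)) = (LP (LK LD1_c8 LD2_c15 LD3_c27)) :=
  Lre_e IH (LK LD1_c4 LD2_c7 LD3_c42) (LK LD1_c8 LD2_c15 LD3_c27) Lrfl Lrfl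
theorem f194375 : Led Lsl_cf (LP (LK LD1_c5 LD2_c17 LD3_c24)) = (LP (LK LD1_c8 LD2_c15 LD3_c27)) :=
  Lgr Lrot39 (Lpr_et (K10.f32954 IH) (Lpr_ct (K10.f194368 IH) (Lpr_et (f191344 IH) (Lpn (LP (LK LD1_c8 LD2_c15 LD3_c27))))))
theorem f352966 : Led Lsl_at (LP (LK LD1_c8 LD2_c16 LD3_c10)) = (LP (LK LD1_c8 LD2_c15 LD3_c27)) :=
  Lgr Lrot107 (Lpr_cf (K23.f188119 IH) (Lpr_af (f352962 IH) (Lpr_cf (f194375 IH) (Lpn (LP (LK LD1_c8 LD2_c15 LD3_c27))))))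
theorem f188122 : Led Lsl_ft (LP (LK LD1_c15 LD2_c32 LD3_c52)) = (LP (LK LD1_c8 LD2_c16 LD3_c10)) :=
  Lre_f IH (LK LD1_c15 LD2_c32 LD3_c52) (LK LD1_c8 LD2_c16 LD3_c10) Lrfl Lrfl
theorem f352991 : Led Lsl_ft (LP (LK LD1_c8 LD2_c15 LD3_c27)) = (LP (LK LD1_c15 LD2_c31 LD3_c39)) :=
  Lre_f IH (LK LD1_c8 LD2_c15 LD3_c27) (LK LD1_c15 LD2_c31 LD3_c39) Lrfl Lrfl
theorem f352992 : Led Lsl_af (LP (LK LD1_c15 LD2_c32 LD3_c52)) = (LP (LK LD1_c15 LD2_c31 LD3_c39)) :=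
  Lgr Lrot45 (Lpr_ft (f188122 IH) (Lpr_at (f352966 IH) (Lpr_ft (f352991 IH) (Lpn (LP (LK LD1_c15 LD2_c31 LD3_c39))))))
theorem f188124 : Led Lsl_cf (LP (LK LD1_c15 LD2_c32 LD3_c52)) = (LP (LK LD1_c15 LD2_c28 LD3_c47)) :=
  Lgr Lrot108 (Lpr_ft (f188122 IH) (Lpr_ct (K23.f188059 IH) (Lpr_ft (K21.f188123 IH) (Lpn (LP (LK LD1_c15 LD2_c28 LD3_c47))))))
theorem f188136 : Led Lsl_ct (LP (LK LD1_c15 LD2_c32 LD3_c52)) = (LP (LK LD1_c15 LD2_c28 LD3_c47)) :=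
  Lgr Lrot59 (Lpr_cf (f188124 IH) (Lpn (LP (LK LD1_c15 LD2_c28 LD3_c47))))
theorem f352996 : Led Lsl_ct (LP (LK LD1_c10 LD2_c24 LD3_c21)) = (LP (LK LD1_c15 LD2_c31 LD3_c39)) :=
  Lgr Lrot111 (Lpe (f352954 IH) (Lpe (f188136 IH) (Lpr_af (f352992 IH) (Lpn (LP (LK LD1_c15 LD2_c31 LD3_c39))))))
theorem f353000 : Led Lsl_ef (LP (LK LD1_c15 LD2_c32 LD3_c45)) = (LP (LK LD1_c15 LD2_c31 LD3_c39)) :=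
  Lgr Lrot28 (Lpe (f184147 IH) (Lpr_et (f336740 IH) (Lpr_ct (f352996 IH) (Lpn (LP (LK LD1_c15 LD2_c31 LD3_c39))))))
theorem f49330 : Led Lsl_et (LP (LK LD1_c8 LD2_c16 LD3_c7)) = (LP (LK LD1_c4 LD2_c8 LD3_c2)) :=
  Lre_e IH (LK LD1_c8 LD2_c16 LD3_c7) (LK LD1_c4 LD2_c8 LD3_c2) Lrfl Lrfl
theorem f353007 : Led Lsl_ft (LP (LK LD1_c4 LD2_c8 LD3_c2)) = (LP (LK LD1_c4 LD2_c7 LD3_c42)) :=
  Lgr Lrot86 (Lpe (f49330 IH) (Lpe (K23.f184140 IH) (Lpr_ef (f353000 IH) (Lpe (f352991 IH) (Lpe (f191344 IH) (Lpn (LP (LK LD1_c4 LD2_c7 LD3_c42))))))))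
theorem f353011 : Led Lsl_ff (LP (LK LD1_c4 LD2_c8 LD3_c2)) = (LP (LK LD1_c4 LD2_c7 LD3_c42)) :=
  Lgr Lrot3 (Lpr_ft (f353007 IH) (Lpn (LP (LK LD1_c4 LD2_c7 LD3_c42))))
theorem f53484 : Led Lsl_dt (LP (LK LD1_c8 LD2_c15 LD3_c26)) = (LP (LK LD1_c4 LD2_c7 LD3_c42)) :=
  Lre_d IH (LK LD1_c8 LD2_c15 LD3_c26) (LK LD1_c4 LD2_c7 LD3_c42) Lrfl Lrfl
theorem f353017 : Led Lsl_ft (LP (LK LD1_c8 LD2_c16 LD3_c6)) = (LP (LK LD1_c8 LD2_c15 LD3_c26)) :=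
  Lgr Lrot54 (Lpe (K17.f49327 IH) (Lpr_ff (f353011 IH) (Lpe (f53484 IH) (Lpn (LP (LK LD1_c8 LD2_c15 LD3_c26))))))
theorem f188504 : Led Lsl_bt (LP (LK LD1_c15 LD2_c32 LD3_c41)) = (LP (LK LD1_c8 LD2_c16 LD3_c6)) :=
  Lre_b IH (LK LD1_c15 LD2_c32 LD3_c41) (LK LD1_c8 LD2_c16 LD3_c6) Lrfl Lrfl
theorem f191494 : Led Lsl_bt (LP (LK LD1_c8 LD2_c15 LD3_c26)) = (LP (LK LD1_c15 LD2_c31 LD3_c36)) :=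
  Lre_b IH (LK LD1_c8 LD2_c15 LD3_c26) (LK LD1_c15 LD2_c31 LD3_c36) Lrfl Lrfl
theorem f353021 : Led Lsl_ff (LP (LK LD1_c15 LD2_c32 LD3_c41)) = (LP (LK LD1_c15 LD2_c31 LD3_c36)) :=
  Lgr Lrot25 (Lpr_bt (f188504 IH) (Lpr_ft (f353017 IH) (Lpr_bt (f191494 IH) (Lpn (LP (LK LD1_c15 LD2_c31 LD3_c36))))))
theorem f353029 : Led Lsl_ft (LP (LK LD1_c15 LD2_c32 LD3_c41)) = (LP (LK LD1_c15 LD2_c31 LD3_c36)) :=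
  Lgr Lrot48 (Lpr_ff (f353021 IH) (Lpn (LP (LK LD1_c15 LD2_c31 LD3_c36))))
theorem f353033 : Led Lsl_at (LP (LK LD1_c25 LD2_c25 LD3_c60)) = (LP (LK LD1_c15 LD2_c32 LD3_c41)) :=
  Lre_a IH (LK LD1_c25 LD2_c25 LD3_c60) (LK LD1_c15 LD2_c32 LD3_c41) Lrfl Lrfl
theorem f353034 : Led Lsl_at (LP (LK LD1_c15 LD2_c31 LD3_c36)) = (LP (LK LD1_c25 LD2_c24 LD3_c43)) :=
  Lre_a IH (LK LD1_c15 LD2_c31 LD3_c36) (LK LD1_c25 LD2_c24 LD3_c43) Lrfl Lrfl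
theorem f353035 : Led Lsl_ff (LP (LK LD1_c25 LD2_c25 LD3_c60)) = (LP (LK LD1_c25 LD2_c24 LD3_c43)) :=
  Lgr Lrot30 (Lpr_at (f353033 IH) (Lpr_ft (f353029 IH) (Lpr_at (f353034 IH) (Lpn (LP (LK LD1_c25 LD2_c24 LD3_c43))))))
theorem f194926 : Led Lsl_dt (LP (LK LD1_c25 LD2_c25 LD3_c60)) = (LP (LK LD1_c15 LD2_c32 LD3_c40)) :=
  Lre_d IH (LK LD1_c25 LD2_c25 LD3_c60) (LK LD1_c15 LD2_c32 LD3_c40) Lrfl Lrfl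
theorem f353038 : Led Lsl_dt (LP (LK LD1_c15 LD2_c31 LD3_c35)) = (LP (LK LD1_c25 LD2_c24 LD3_c43)) :=
  Lre_d IH (LK LD1_c15 LD2_c31 LD3_c35) (LK LD1_c25 LD2_c24 LD3_c43) Lrfl Lrfl
theorem f353039 : Led Lsl_ft (LP (LK LD1_c15 LD2_c32 LD3_c40)) = (LP (LK LD1_c15 LD2_c31 LD3_c35)) :=
  Lgr Lrot54 (Lpe (f194926 IH) (Lpr_ff (f353035 IH) (Lpe (f353038 IH) (Lpn (LP (LK LD1_c15 LD2_c31 LD3_c35))))))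
theorem f194878 : Led Lsl_at (LP (LK LD1_c15 LD2_c32 LD3_c42)) = (LP (LK LD1_c25 LD2_c25 LD3_c61)) :=
  Lre_a IH (LK LD1_c15 LD2_c32 LD3_c42) (LK LD1_c25 LD2_c25 LD3_c61) Lrfl Lrfl
theorem f194863 : Led Lsl_at (LP (LK LD1_c19 LD2_c8 LD3_c55)) = (LP (LK LD1_c10 LD2_c34 LD3_c19)) :=
  Lre_a IH (LK LD1_c19 LD2_c8 LD3_c55) (LK LD1_c10 LD2_c34 LD3_c19) Lrfl Lrfl
theorem f194879 : Led Lsl_ct (LP (LK LD1_c25 LD2_c25 LD3_c61)) = (LP (LK LD1_c19 LD2_c8 LD3_c55)) :=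
  Lgr Lrot111 (Lpe (f194878 IH) (Lpr_cf (K14.f194855 IH) (Lpe (f194863 IH) (Lpn (LP (LK LD1_c19 LD2_c8 LD3_c55))))))
theorem f194918 : Led Lsl_et (LP (LK LD1_c15 LD2_c32 LD3_c40)) = (LP (LK LD1_c25 LD2_c25 LD3_c61)) :=
  Lre_e IH (LK LD1_c15 LD2_c32 LD3_c40) (LK LD1_c25 LD2_c25 LD3_c61) Lrfl Lrfl
theorem f194919 : Led Lsl_et (LP (LK LD1_c19 LD2_c8 LD3_c55)) = (LP (LK LD1_c10 LD2_c34 LD3_c17)) :=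
  Lre_e IH (LK LD1_c19 LD2_c8 LD3_c55) (LK LD1_c10 LD2_c34 LD3_c17) Lrfl Lrfl
theorem f194920 : Led Lsl_cf (LP (LK LD1_c15 LD2_c32 LD3_c40)) = (LP (LK LD1_c10 LD2_c34 LD3_c17)) :=
  Lgr Lrot39 (Lpr_et (f194918 IH) (Lpr_ct (f194879 IH) (Lpr_et (f194919 IH) (Lpn (LP (LK LD1_c10 LD2_c34 LD3_c17))))))
theorem f194787 : Led Lsl_at (LP (LK LD1_c10 LD2_c34 LD3_c17)) = (LP (LK LD1_c5 LD2_c21 LD3_c60)) :=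
  Lre_a IH (LK LD1_c10 LD2_c34 LD3_c17) (LK LD1_c5 LD2_c21 LD3_c60) Lrfl Lrfl
theorem f336754 : Led Lsl_at (LP (LK LD1_c10 LD2_c30 LD3_c40)) = (LP (LK LD1_c19 LD2_c2 LD3_c57)) :=
  Lre_a IH (LK LD1_c10 LD2_c30 LD3_c40) (LK LD1_c19 LD2_c2 LD3_c57) Lrfl Lrfl
theorem f336755 : Led Lsl_ff (LP (LK LD1_c10 LD2_c34 LD3_c17)) = (LP (LK LD1_c19 LD2_c2 LD3_c57)) :=
  Lgr Lrot30 (Lpr_at (f194787 IH) (Lpr_ft (K22.f336752 IH) (Lpr_at (f336754 IH) (Lpn (LP (LK LD1_c19 LD2_c2 LD3_c57))))))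
theorem f353047 : Led Lsl_cf (LP (LK LD1_c19 LD2_c2 LD3_c57)) = (LP (LK LD1_c15 LD2_c31 LD3_c35)) :=
  Lgr Lrot108 (Lpe (f336755 IH) (Lpe (f194920 IH) (Lpr_ft (f353039 IH) (Lpn (LP (LK LD1_c15 LD2_c31 LD3_c35))))))
theorem f328893 : Led Lsl_at (LP (LK LD1_c19 LD2_c2 LD3_c57)) = (LP (LK LD1_c10 LD2_c30 LD3_c40)) :=
  Lre_a IH (LK LD1_c19 LD2_c2 LD3_c57) (LK LD1_c10 LD2_c30 LD3_c40) Lrfl Lrfl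
theorem f353057 : Led Lsl_at (LP (LK LD1_c8 LD2_c15 LD3_c25)) = (LP (LK LD1_c15 LD2_c31 LD3_c35)) :=
  Lre_a IH (LK LD1_c8 LD2_c15 LD3_c25) (LK LD1_c15 LD2_c31 LD3_c35) Lrfl Lrfl
theorem f353064 : Led Lsl_ct (LP (LK LD1_c10 LD2_c30 LD3_c40)) = (LP (LK LD1_c8 LD2_c15 LD3_c25)) :=
  Lgr Lrot111 (Lpe (f328893 IH) (Lpr_cf (f353047 IH) (Lpe (f353057 IH) (Lpn (LP (LK LD1_c8 LD2_c15 LD3_c25))))))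
theorem f353066 : Led Lsl_et (LP (LK LD1_c19 LD2_c2 LD3_c59)) = (LP (LK LD1_c10 LD2_c30 LD3_c40)) :=
  Lre_e IH (LK LD1_c19 LD2_c2 LD3_c59) (LK LD1_c10 LD2_c30 LD3_c40) Lrfl Lrfl
theorem f353067 : Led Lsl_et (LP (LK LD1_c8 LD2_c15 LD3_c25)) = (LP (LK LD1_c15 LD2_c31 LD3_c37)) :=
  Lre_e IH (LK LD1_c8 LD2_c15 LD3_c25) (LK LD1_c15 LD2_c31 LD3_c37) Lrfl Lrfl
theorem f353068 : Led Lsl_cf (LP (LK LD1_c19 LD2_c2 LD3_c59)) = (LP (LK LD1_c15 LD2_c31 LD3_c37)) :=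
  Lgr Lrot39 (Lpr_et (f353066 IH) (Lpr_ct (f353064 IH) (Lpr_et (f353067 IH) (Lpn (LP (LK LD1_c15 LD2_c31 LD3_c37))))))
theorem f187681 : Led Lsl_bt (LP (LK LD1_c19 LD2_c2 LD3_c59)) = (LP (LK LD1_c10 LD2_c30 LD3_c42)) :=
  Lre_b IH (LK LD1_c19 LD2_c2 LD3_c59) (LK LD1_c10 LD2_c30 LD3_c42) Lrfl Lrfl
theorem f187682 : Led Lsl_bt (LP (LK LD1_c10 LD2_c24 LD3_c18)) = (LP (LK LD1_c5 LD2_c17 LD3_c24)) :=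
  Lre_b IH (LK LD1_c10 LD2_c24 LD3_c18) (LK LD1_c5 LD2_c17 LD3_c24) Lrfl Lrfl
theorem f352988 : Led Lsl_bt (LP (LK LD1_c8 LD2_c15 LD3_c27)) = (LP (LK LD1_c15 LD2_c31 LD3_c37)) :=
  Lre_b IH (LK LD1_c8 LD2_c15 LD3_c27) (LK LD1_c15 LD2_c31 LD3_c37) Lrfl Lrfl
theorem f353070 : Led Lsl_ct (LP (LK LD1_c5 LD2_c17 LD3_c24)) = (LP (LK LD1_c8 LD2_c15 LD3_c27)) :=
  Lgr Lrot83 (Lpe (f187682 IH) (Lpe (K22.f187676 IH) (Lpe (f187681 IH) (Lpr_cf (f353068 IH) (Lpe (f352988 IH) (Lpn (LP (LK LD1_c8 LD2_c15 LD3_c27))))))))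
theorem f340818 : Led Lsl_ct (LP (LK LD1_c5 LD2_c26 LD3_c47)) = (LP (LK LD1_c10 LD2_c44 LD3_c45)) :=
  Lre_c IH (LK LD1_c5 LD2_c26 LD3_c47) (LK LD1_c10 LD2_c44 LD3_c45) Lrfl Lrfl
theorem f353791 : Led Lsl_gf (LP (LK LD1_c8 LD2_c15 LD3_c27)) = (LP (LK LD1_c10 LD2_c44 LD3_c45)) :=
  Lgr Lrot126 (Lpe (f353070 IH) (Lpr_bt (K24.f187703 IH) (Lpr_gt (f187691 IH) (Lpr_ct (f351500 IH) (Lpr_gt (f345373 IH) (Lpe (K14.f231368 IH) (Lpe (K13.f231361 IH) (Lpe (f352086 IH) (Lpr_bf (f353783 IH) (Lpr_ct (f340818 IH) (Lpn (LP (LK LD1_c10 LD2_c44 LD3_c45)))))))))))))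
theorem f353793 : Led Lsl_gt (LP (LK LD1_c15 LD2_c32 LD3_c52)) = (LP (LK LD1_c10 LD2_c44 LD3_c45)) :=
  Lgr Lrot5 (Lpr_ft (f188122 IH) (Lpr_at (f352966 IH) (Lpr_gf (f353791 IH) (Lpn (LP (LK LD1_c10 LD2_c44 LD3_c45))))))
theorem f251709 : Led Lsl_dt (LP (LK LD1_c10 LD2_c24 LD3_c17)) = (LP (LK LD1_c10 LD2_c50 LD3_c23)) :=
  Lgr Lrot79 (Lpr_bf (K21.f191456 IH) (Lpr_df (K21.f251707 IH) (Lpe (K21.f250781 IH) (Lpn (LP (LK LD1_c10 LD2_c50 LD3_c23))))))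
theorem f189646 : Led Lsl_gt (LP (LK LD1_c15 LD2_c51 LD3_c10)) = (LP (LK LD1_c8 LD2_c26 LD3_c28)) :=
  Lre_g IH (LK LD1_c15 LD2_c51 LD3_c10) (LK LD1_c8 LD2_c26 LD3_c28) Lrfl Lrfl
theorem f353089 : Led Lsl_df (LP (LK LD1_c15 LD2_c51 LD3_c10)) = (LP (LK LD1_c10 LD2_c24 LD3_c20)) :=
  Lgr Lrot135 (Lpr_gt (f189646 IH) (Lpr_df (K12.f189659 IH) (Lpr_et (K20.f189671 IH) (Lpe (K13.f189690 IH) (Lpe (K21.f189436 IH) (Lpr_dt (K13.f189418 IH) (Lpr_gt (K21.f329473 IH) (Lpe (f251709 IH) (Lpr_et (f325180 IH) (Lpr_gt (f353087 IH) (Lpn (LP (LK LD1_c10 LD2_c24 LD3_c20)))))))))))))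
theorem f348387 : Led Lsl_dt (LP (LK LD1_c10 LD2_c44 LD3_c45)) = (LP (LK LD1_c19 LD2_c26 LD3_c16)) :=
  Lre_d IH (LK LD1_c10 LD2_c44 LD3_c45) (LK LD1_c19 LD2_c26 LD3_c16) Lrfl Lrfl
theorem f353807 : Led Lsl_gf (LP (LK LD1_c25 LD2_c26 LD3_c54)) = (LP (LK LD1_c19 LD2_c26 LD3_c16)) :=
  Lgr Lrot143 (Lpr_dt (K23.f189662 IH) (Lpe (f189674 IH) (Lpe (K23.f189663 IH) (Lpe (f189646 IH) (Lpr_df (f353089 IH) (Lpe (f353087 IH) (Lpe (f188136 IH) (Lpr_gt (f353793 IH) (Lpr_dt (f348387 IH) (Lpn (LP (LK LD1_c19 LD2_c26 LD3_c16))))))))))))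
theorem f247713 : Led Lsl_ft (LP (LK LD1_c25 LD2_c29 LD3_c9)) = (LP (LK LD1_c15 LD2_c35 LD3_c0)) :=
  Lre_f IH (LK LD1_c25 LD2_c29 LD3_c9) (LK LD1_c15 LD2_c35 LD3_c0) Lrfl Lrfl
theorem f353809 : Led Lsl_gt (LP (LK LD1_c25 LD2_c29 LD3_c9)) = (LP (LK LD1_c19 LD2_c26 LD3_c16)) :=
  Lgr Lrot5 (Lpr_ft (f247713 IH) (Lpe (K23.f347505 IH) (Lpr_gf (f353807 IH) (Lpn (LP (LK LD1_c19 LD2_c26 LD3_c16))))))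
theorem f247707 : Led Lsl_dt (LP (LK LD1_c15 LD2_c35 LD3_c1)) = (LP (LK LD1_c25 LD2_c29 LD3_c9)) :=
  Lre_d IH (LK LD1_c15 LD2_c35 LD3_c1) (LK LD1_c25 LD2_c29 LD3_c9) Lrfl Lrfl
theorem f348388 : Led Lsl_dt (LP (LK LD1_c19 LD2_c26 LD3_c16)) = (LP (LK LD1_c10 LD2_c44 LD3_c45)) :=
  Lre_d IH (LK LD1_c19 LD2_c26 LD3_c16) (LK LD1_c10 LD2_c44 LD3_c45) Lrfl Lrfl
theorem f282695 : Led Lsl_dt (LP (LK LD1_c4 LD2_c15 LD3_c21)) = (LP (LK LD1_c2 LD2_c41 LD3_c0)) :=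
  Lgr Lrot42 (Lpr_df (K17.f282678 IH) (Lpn (LP (LK LD1_c2 LD2_c41 LD3_c0))))
theorem f348246 : Led Lsl_gf (LP (LK LD1_c4 LD2_c28 LD3_c44)) = (LP (LK LD1_c8 LD2_c21 LD3_c46)) :=
  Lgr Lrot145 (Lpe (K15.f197599 IH) (Lpr_et (K13.f197592 IH) (Lpe (K17.f282708 IH) (Lpr_dt (f282695 IH) (Lpr_gt (K15.f220534 IH) (Lpe (K14.f250628 IH) (Lpr_et (K17.f250630 IH) (Lpr_gt (K23.f612 IH) (Lpe (K23.f250638 IH) (Lpr_dt (K23.f348240 IH) (Lpn (LP (LK LD1_c8 LD2_c21 LD3_c46)))))))))))))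
theorem f348381 : Led Lsl_gt (LP (LK LD1_c15 LD2_c15 LD3_c22)) = (LP (LK LD1_c10 LD2_c21 LD3_c20)) :=
  Lgr Lrot139 (Lpe (K23.f236244 IH) (Lpe (K23.f236243 IH) (Lpe (K15.f213267 IH) (Lpr_dt (K14.f50396 IH) (Lpe (K13.f236232 IH) (Lpr_df (K14.f197513 IH) (Lpr_et (K13.f197593 IH) (Lpr_gf (f348246 IH) (Lpr_ef (K23.f348200 IH) (Lpr_dt (K23.f348374 IH) (Lpn (LP (LK LD1_c10 LD2_c21 LD3_c20)))))))))))))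
theorem f348385 : Led Lsl_gf (LP (LK LD1_c5 LD2_c26 LD3_c47)) = (LP (LK LD1_c8 LD2_c16 LD3_c4)) :=
  Lgr Lrot141 (Lpe (K23.f340816 IH) (Lpr_dt (K23.f236244 IH) (Lpr_gt (f348381 IH) (Lpe (K23.f348374 IH) (Lpe (K23.f348200 IH) (Lpe (f348246 IH) (Lpe (K13.f197594 IH) (Lpr_gt (K17.f197606 IH) (Lpe (K17.f283068 IH) (Lpr_et (K17.f283008 IH) (Lpn (LP (LK LD1_c8 LD2_c16 LD3_c4)))))))))))))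
theorem f197534 : Led Lsl_df (LP (LK LD1_c2 LD2_c59 LD3_c16)) = (LP (LK LD1_c2 LD2_c11 LD3_c27)) :=
  Lgr Lrot38 (Lpr_dt (K19.f197523 IH) (Lpn (LP (LK LD1_c2 LD2_c11 LD3_c27))))
theorem f197541 : Led Lsl_gt (LP (LK LD1_c6 LD2_c6 LD3_c22)) = (LP (LK LD1_c2 LD2_c59 LD3_c16)) :=
  Lre_g IH (LK LD1_c6 LD2_c6 LD3_c22) (LK LD1_c2 LD2_c59 LD3_c16) Lrfl Lrfl
theorem f348391 : Led Lsl_dt (LP (LK LD1_c5 LD2_c26 LD3_c47)) = (LP (LK LD1_c6 LD2_c6 LD3_c22)) :=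
  Lgr Lrot171 (Lpr_gf (f348385 IH) (Lpe (K17.f283008 IH) (Lpr_dt (K17.f283068 IH) (Lpe (K17.f197606 IH) (Lpr_df (K13.f197594 IH) (Lpr_et (K12.f197583 IH) (Lpe (K12.f169294 IH) (Lpe (K19.f197522 IH) (Lpe (f197534 IH) (Lpe (f197541 IH) (Lpn (LP (LK LD1_c6 LD2_c6 LD3_c22)))))))))))))
theorem f348393 : Led Lsl_df (LP (LK LD1_c5 LD2_c26 LD3_c47)) = (LP (LK LD1_c6 LD2_c6 LD3_c22)) :=
  Lgr Lrot38 (Lpr_dt (f348391 IH) (Lpn (LP (LK LD1_c6 LD2_c6 LD3_c22))))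
theorem f340821 : Led Lsl_ef (LP (LK LD1_c8 LD2_c6 LD3_c11)) = (LP (LK LD1_c5 LD2_c26 LD3_c47)) :=
  Lgr Lrot88 (Lpr_et (K23.f340816 IH) (Lpn (LP (LK LD1_c5 LD2_c26 LD3_c47))))
theorem f216969 : Led Lsl_et (LP (LK LD1_c5 LD2_c30 LD3_c11)) = (LP (LK LD1_c2 LD2_c41 LD3_c21)) :=
  Lre_e IH (LK LD1_c5 LD2_c30 LD3_c11) (LK LD1_c2 LD2_c41 LD3_c21) Lrfl Lrfl
theorem f222656 : Led Lsl_gt (LP (LK LD1_c2 LD2_c41 LD3_c21)) = (LP (LK LD1_c5 LD2_c29 LD3_c29)) :=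
  Lre_g IH (LK LD1_c2 LD2_c41 LD3_c21) (LK LD1_c5 LD2_c29 LD3_c29) Lrfl Lrfl
theorem f282957 : Led Lsl_dt (LP (LK LD1_c8 LD2_c6 LD3_c7)) = (LP (LK LD1_c8 LD2_c29 LD3_c18)) :=
  Lgr Lrot79 (Lpe (K17.f282912 IH) (Lpr_df (K18.f282938 IH) (Lpe (K18.f190061 IH) (Lpn (LP (LK LD1_c8 LD2_c29 LD3_c18))))))
theorem f348398 : Led Lsl_gt (LP (LK LD1_c8 LD2_c29 LD3_c18)) = (LP (LK LD1_c6 LD2_c6 LD3_c22)) :=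
  Lgr Lrot112 (Lpe (f282957 IH) (Lpe (K17.f222649 IH) (Lpe (f222656 IH) (Lpe (f216969 IH) (Lpr_dt (K21.f326625 IH) (Lpe (K21.f261898 IH) (Lpe (K15.f261788 IH) (Lpr_gf (K23.f261896 IH) (Lpr_ef (f340821 IH) (Lpr_dt (f348391 IH) (Lpn (LP (LK LD1_c6 LD2_c6 LD3_c22)))))))))))))
theorem f258716 : Led Lsl_ct (LP (LK LD1_c8 LD2_c56 LD3_c3)) = (LP (LK LD1_c4 LD2_c28 LD3_c52)) :=
  Lre_c IH (LK LD1_c8 LD2_c56 LD3_c3) (LK LD1_c4 LD2_c28 LD3_c52) Lrfl Lrfl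
theorem f353815 : Led Lsl_gf (LP (LK LD1_c15 LD2_c35 LD3_c1)) = (LP (LK LD1_c8 LD2_c56 LD3_c3)) :=
  Lgr Lrot144 (Lpr_dt (f247707 IH) (Lpr_gt (f353809 IH) (Lpr_dt (f348388 IH) (Lpe (f340818 IH) (Lpr_df (f348393 IH) (Lpe (f348398 IH) (Lpe (f282957 IH) (Lpe (K22.f335587 IH) (Lpe (f258716 IH) (Lpn (LP (LK LD1_c8 LD2_c56 LD3_c3))))))))))))
theorem f197549 : Led Lsl_ct (LP (LK LD1_c4 LD2_c28 LD3_c52)) = (LP (LK LD1_c8 LD2_c56 LD3_c3)) :=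
  Lre_c IH (LK LD1_c4 LD2_c28 LD3_c52) (LK LD1_c8 LD2_c56 LD3_c3) Lrfl Lrfl
theorem f178219 : Led Lsl_ct (LP (LK LD1_c2 LD2_c44 LD3_c20)) = (LP (LK LD1_c5 LD2_c36 LD3_c57)) :=
  Lre_c IH (LK LD1_c2 LD2_c44 LD3_c20) (LK LD1_c5 LD2_c36 LD3_c57) Lrfl Lrfl
theorem f276339 : Led Lsl_at (LP (LK LD1_c8 LD2_c53 LD3_c17)) = (LP (LK LD1_c8 LD2_c20 LD3_c26)) :=
  Lgr Lrot100 (Lpr_af (K16.f276287 IH) (Lpn (LP (LK LD1_c8 LD2_c20 LD3_c26))))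
theorem f338705 : Led Lsl_gf (LP (LK LD1_c8 LD2_c20 LD3_c26)) = (LP (LK LD1_c5 LD2_c36 LD3_c57)) :=
  Lgr Lrot76 (Lpe (f276339 IH) (Lpr_ff (K24.f338688 IH) (Lpr_gt (K24.f178229 IH) (Lpn (LP (LK LD1_c5 LD2_c36 LD3_c57))))))
theorem f353945 : Led Lsl_bt (LP (LK LD1_c4 LD2_c28 LD3_c52)) = (LP (LK LD1_c4 LD2_c52 LD3_c48)) :=
  Lgr Lrot92 (Lpr_ct (f197549 IH) (Lpe (f353815 IH) (Lpe (f247706 IH) (Lpr_bt (f353941 IH) (Lpr_gt (f178231 IH) (Lpr_ct (f178219 IH) (Lpe (f338705 IH) (Lpe (K17.f170728 IH) (Lpr_bt (K10.f170707 IH) (Lpr_gt (K19.f170726 IH) (Lpn (LP (LK LD1_c4 LD2_c52 LD3_c48)))))))))))))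
theorem f353953 : Led Lsl_bf (LP (LK LD1_c6 LD2_c5 LD3_c33)) = (LP (LK LD1_c9 LD2_c37 LD3_c39)) :=
  Lgr Lrot96 (Lpe (K22.f258710 IH) (Lpr_bt (f353945 IH) (Lpr_et (K19.f305506 IH) (Lpn (LP (LK LD1_c9 LD2_c37 LD3_c39))))))
theorem f353968 : Led Lsl_bt (LP (LK LD1_c8 LD2_c28 LD3_c44)) = (LP (LK LD1_c8 LD2_c38 LD3_c5)) :=
  Lgr Lrot95 (Lpr_df (K22.f258699 IH) (Lpr_bf (f353953 IH) (Lpe (K21.f310550 IH) (Lpn (LP (LK LD1_c8 LD2_c38 LD3_c5))))))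
theorem f353970 : Led Lsl_bf (LP (LK LD1_c8 LD2_c28 LD3_c44)) = (LP (LK LD1_c8 LD2_c38 LD3_c5)) :=
  Lgr Lrot24 (Lpr_bt (f353968 IH) (Lpn (LP (LK LD1_c8 LD2_c38 LD3_c5))))
theorem f231725 : Led Lsl_bf (LP (LK LD1_c4 LD2_c14 LD3_c56)) = (LP (LK LD1_c4 LD2_c7 LD3_c38)) :=
  Lgr Lrot24 (Lpr_bt (K17.f231723 IH) (Lpn (LP (LK LD1_c4 LD2_c7 LD3_c38))))
theorem f231758 : Led Lsl_gt (LP (LK LD1_c8 LD2_c15 LD3_c13)) = (LP (LK LD1_c15 LD2_c31 LD3_c12)) :=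
  Lre_g IH (LK LD1_c8 LD2_c15 LD3_c13) (LK LD1_c15 LD2_c31 LD3_c12) Lrfl Lrfl
theorem f283079 : Led Lsl_et (LP (LK LD1_c2 LD2_c40 LD3_c22)) = (LP (LK LD1_c5 LD2_c28 LD3_c10)) :=
  Lre_e IH (LK LD1_c2 LD2_c40 LD3_c22) (LK LD1_c5 LD2_c28 LD3_c10) Lrfl Lrfl
theorem f352847 : Led Lsl_gf (LP (LK LD1_c5 LD2_c28 LD3_c9)) = (LP (LK LD1_c4 LD2_c2 LD3_c46)) :=
  Lgr Lrot145 (Lpe (K23.f244891 IH) (Lpr_et (f283079 IH) (Lpr_gt (f352843 IH) (Lpr_dt (f309813 IH) (Lpr_gt (K21.f324305 IH) (Lpr_df (K10.f45162 IH) (Lpr_et (K10.f45161 IH) (Lpr_gt (K10.f45369 IH) (Lpe (K17.f45377 IH) (Lpe (K17.f220593 IH) (Lpn (LP (LK LD1_c4 LD2_c2 LD3_c46)))))))))))))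
theorem f283076 : Led Lsl_gt (LP (LK LD1_c2 LD2_c40 LD3_c22)) = (LP (LK LD1_c1 LD2_c16 LD3_c54)) :=
  Lre_g IH (LK LD1_c2 LD2_c40 LD3_c22) (LK LD1_c1 LD2_c16 LD3_c54) Lrfl Lrfl
theorem f341825 : Led Lsl_ct (LP (LK LD1_c2 LD2_c39 LD3_c47)) = (LP (LK LD1_c5 LD2_c26 LD3_c45)) :=
  Lre_c IH (LK LD1_c2 LD2_c39 LD3_c47) (LK LD1_c5 LD2_c26 LD3_c45) Lrfl Lrfl
theorem f282962 : Led Lsl_dt (LP (LK LD1_c10 LD2_c44 LD3_c41)) = (LP (LK LD1_c5 LD2_c26 LD3_c45)) :=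
  Lre_d IH (LK LD1_c10 LD2_c44 LD3_c41) (LK LD1_c5 LD2_c26 LD3_c45) Lrfl Lrfl
theorem f191194 : Led Lsl_gt (LP (LK LD1_c19 LD2_c26 LD3_c11)) = (LP (LK LD1_c10 LD2_c44 LD3_c41)) :=
  Lre_g IH (LK LD1_c19 LD2_c26 LD3_c11) (LK LD1_c10 LD2_c44 LD3_c41) Lrfl Lrfl
theorem f282925 : Led Lsl_ct (LP (LK LD1_c8 LD2_c6 LD3_c6)) = (LP (LK LD1_c4 LD2_c2 LD3_c46)) :=
  Lre_c IH (LK LD1_c8 LD2_c6 LD3_c6) (LK LD1_c4 LD2_c2 LD3_c46) Lrfl Lrfl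
theorem f350581 : Led Lsl_gt (LP (LK LD1_c8 LD2_c27 LD3_c42)) = (LP (LK LD1_c8 LD2_c7 LD3_c38)) :=
  Lgr Lrot5 (Lpr_ft (K19.f314935 IH) (Lpe (K19.f314931 IH) (Lpr_gf (K24.f350579 IH) (Lpn (LP (LK LD1_c8 LD2_c7 LD3_c38))))))
theorem f250081 : Led Lsl_et (LP (LK LD1_c8 LD2_c57 LD3_c17)) = (LP (LK LD1_c4 LD2_c29 LD3_c30)) :=
  Lre_e IH (LK LD1_c8 LD2_c57 LD3_c17) (LK LD1_c4 LD2_c29 LD3_c30) Lrfl Lrfl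
theorem f259204 : Led Lsl_dt (LP (LK LD1_c8 LD2_c57 LD3_c17)) = (LP (LK LD1_c10 LD2_c20 LD3_c2)) :=
  Lgr Lrot37 (Lpr_et (f250081 IH) (Lpr_gt (K23.f185025 IH) (Lpr_dt (K15.f185020 IH) (Lpe (K15.f259202 IH) (Lpe (K15.f252568 IH) (Lpr_et (K14.f252577 IH) (Lpr_gt (K15.f259190 IH) (Lpe (K10.f47753 IH) (Lpr_dt (K10.f47764 IH) (Lpr_gt (K23.f47774 IH) (Lpn (LP (LK LD1_c10 LD2_c20 LD3_c2)))))))))))))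
theorem f340828 : Led Lsl_gt (LP (LK LD1_c15 LD2_c16 LD3_c5)) = (LP (LK LD1_c8 LD2_c57 LD3_c17)) :=
  Lgr Lrot137 (Lpe (K14.f191332 IH) (Lpr_dt (K23.f28096 IH) (Lpr_gf (K23.f340824 IH) (Lpr_df (K24.f324166 IH) (Lpr_et (K24.f53589 IH) (Lpe (K24.f282433 IH) (Lpe (K15.f264423 IH) (Lpe (K12.f185655 IH) (Lpr_gf (K23.f263411 IH) (Lpe (f259204 IH) (Lpn (LP (LK LD1_c8 LD2_c57 LD3_c17)))))))))))))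
theorem f250090 : Led Lsl_et (LP (LK LD1_c4 LD2_c29 LD3_c30)) = (LP (LK LD1_c8 LD2_c57 LD3_c17)) :=
  Lre_e IH (LK LD1_c4 LD2_c29 LD3_c30) (LK LD1_c8 LD2_c57 LD3_c17) Lrfl Lrfl
theorem f250080 : Led Lsl_dt (LP (LK LD1_c4 LD2_c29 LD3_c30)) = (LP (LK LD1_c8 LD2_c57 LD3_c16)) :=
  Lre_d IH (LK LD1_c4 LD2_c29 LD3_c30) (LK LD1_c8 LD2_c57 LD3_c16) Lrfl Lrfl
theorem f650 : Led Lsl_et (LP (LK LD1_c8 LD2_c17 LD3_c45)) = (LP (LK LD1_c15 LD2_c36 LD3_c5)) :=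
  Lre_e IH (LK LD1_c8 LD2_c17 LD3_c45) (LK LD1_c15 LD2_c36 LD3_c5) Lrfl Lrfl
theorem f232014 : Led Lsl_gf (LP (LK LD1_c10 LD2_c22 LD3_c8)) = (LP (LK LD1_c15 LD2_c36 LD3_c5)) :=
  Lgr Lrot138 (Lpr_dt (K23.f32387 IH) (Lpr_gt (K23.f32381 IH) (Lpe (K10.f32349 IH) (Lpr_et (K23.f32376 IH) (Lpr_gt (K13.f231996 IH) (Lpe (K12.f229031 IH) (Lpr_dt (K23.f229029 IH) (Lpr_gt (K13.f598 IH) (Lpe (K23.f623 IH) (Lpr_et (f650 IH) (Lpn (LP (LK LD1_c15 LD2_c36 LD3_c5)))))))))))))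
theorem f340330 : Led Lsl_gf (LP (LK LD1_c10 LD2_c25 LD3_c27)) = (LP (LK LD1_c8 LD2_c57 LD3_c16)) :=
  Lgr Lrot141 (Lpe (K23.f340282 IH) (Lpr_dt (K23.f340280 IH) (Lpr_gt (K23.f340323 IH) (Lpr_df (K23.f254512 IH) (Lpr_et (K17.f263433 IH) (Lpe (K23.f340321 IH) (Lpr_dt (K23.f660 IH) (Lpe (f232014 IH) (Lpe (K24.f48924 IH) (Lpr_et (K23.f250082 IH) (Lpn (LP (LK LD1_c8 LD2_c57 LD3_c16)))))))))))))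
theorem f340830 : Led Lsl_gt (LP (LK LD1_c8 LD2_c59 LD3_c48)) = (LP (LK LD1_c15 LD2_c31 LD3_c18)) :=
  Lgr Lrot137 (Lpe (K23.f198682 IH) (Lpe (K23.f340287 IH) (Lpr_gf (f340330 IH) (Lpe (f250080 IH) (Lpr_et (f250090 IH) (Lpe (f340828 IH) (Lpe (K14.f191332 IH) (Lpr_dt (K23.f28096 IH) (Lpr_gf (K23.f340824 IH) (Lpr_df (K24.f324166 IH) (Lpn (LP (LK LD1_c15 LD2_c31 LD3_c18)))))))))))))
theorem f324169 : Led Lsl_dt (LP (LK LD1_c10 LD2_c47 LD3_c29)) = (LP (LK LD1_c15 LD2_c31 LD3_c18)) :=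
  Lgr Lrot42 (Lpr_df (K24.f324166 IH) (Lpn (LP (LK LD1_c15 LD2_c31 LD3_c18))))
theorem f323430 : Led Lsl_et (LP (LK LD1_c10 LD2_c47 LD3_c29)) = (LP (LK LD1_c5 LD2_c28 LD3_c6)) :=
  Lre_e IH (LK LD1_c10 LD2_c47 LD3_c29) (LK LD1_c5 LD2_c28 LD3_c6) Lrfl Lrfl
theorem f340832 : Led Lsl_gf (LP (LK LD1_c4 LD2_c2 LD3_c46)) = (LP (LK LD1_c5 LD2_c28 LD3_c6)) :=
  Lgr Lrot141 (Lpe (K17.f51401 IH) (Lpr_dt (K13.f51400 IH) (Lpr_gt (K12.f220598 IH) (Lpe (K12.f213771 IH) (Lpr_et (K12.f217159 IH) (Lpe (K23.f340340 IH) (Lpr_dt (K23.f198697 IH) (Lpr_gt (f340830 IH) (Lpe (f324169 IH) (Lpr_et (f323430 IH) (Lpn (LP (LK LD1_c5 LD2_c28 LD3_c6)))))))))))))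
theorem f282929 : Led Lsl_ct (LP (LK LD1_c4 LD2_c2 LD3_c46)) = (LP (LK LD1_c8 LD2_c6 LD3_c6)) :=
  Lre_c IH (LK LD1_c4 LD2_c2 LD3_c46) (LK LD1_c8 LD2_c6 LD3_c6) Lrfl Lrfl
theorem f189377 : Led Lsl_gt (LP (LK LD1_c2 LD2_c43 LD3_c50)) = (LP (LK LD1_c5 LD2_c35 LD3_c23)) :=
  Lre_g IH (LK LD1_c2 LD2_c43 LD3_c50) (LK LD1_c5 LD2_c35 LD3_c23) Lrfl Lrfl
theorem f189366 : Led Lsl_bt (LP (LK LD1_c5 LD2_c35 LD3_c57)) = (LP (LK LD1_c2 LD2_c43 LD3_c50)) :=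
  Lre_b IH (LK LD1_c5 LD2_c35 LD3_c57) (LK LD1_c2 LD2_c43 LD3_c50) Lrfl Lrfl
theorem f338663 : Led Lsl_ct (LP (LK LD1_c5 LD2_c35 LD3_c57)) = (LP (LK LD1_c11 LD2_c4 LD3_c10)) :=
  Lre_c IH (LK LD1_c5 LD2_c35 LD3_c57) (LK LD1_c11 LD2_c4 LD3_c10) Lrfl Lrfl
theorem f350628 : Led Lsl_gt (LP (LK LD1_c8 LD2_c6 LD3_c6)) = (LP (LK LD1_c11 LD2_c4 LD3_c10)) :=
  Lgr Lrot149 (Lpe (f282929 IH) (Lpr_gf (f340832 IH) (Lpr_bf (K24.f350334 IH) (Lpr_ct (K24.f284237 IH) (Lpe (f350581 IH) (Lpe (K24.f314945 IH) (Lpr_bt (K24.f350624 IH) (Lpe (f189377 IH) (Lpe (f189366 IH) (Lpr_ct (f338663 IH) (Lpn (LP (LK LD1_c11 LD2_c4 LD3_c10)))))))))))))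
theorem f352849 : Led Lsl_df (LP (LK LD1_c19 LD2_c26 LD3_c11)) = (LP (LK LD1_c11 LD2_c4 LD3_c10)) :=
  Lgr Lrot153 (Lpr_gt (f191194 IH) (Lpr_dt (f282962 IH) (Lpe (f341825 IH) (Lpr_df (K23.f285551 IH) (Lpe (f283076 IH) (Lpe (K23.f282966 IH) (Lpr_gf (f352847 IH) (Lpe (f282925 IH) (Lpr_gt (f350628 IH) (Lpn (LP (LK LD1_c11 LD2_c4 LD3_c10))))))))))))
theorem f191193 : Led Lsl_dt (LP (LK LD1_c5 LD2_c26 LD3_c45)) = (LP (LK LD1_c10 LD2_c44 LD3_c41)) :=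
  Lre_d IH (LK LD1_c5 LD2_c26 LD3_c45) (LK LD1_c10 LD2_c44 LD3_c41) Lrfl Lrfl
theorem f191192 : Led Lsl_et (LP (LK LD1_c5 LD2_c26 LD3_c45)) = (LP (LK LD1_c2 LD2_c39 LD3_c46)) :=
  Lre_e IH (LK LD1_c5 LD2_c26 LD3_c45) (LK LD1_c2 LD2_c39 LD3_c46) Lrfl Lrfl
theorem f352858 : Led Lsl_ef (LP (LK LD1_c15 LD2_c31 LD3_c12)) = (LP (LK LD1_c11 LD2_c4 LD3_c10)) :=
  Lgr Lrot17 (Lpe (f231758 IH) (Lpe (K23.f282391 IH) (Lpr_dt (K19.f189523 IH) (Lpr_gf (K19.f191347 IH) (Lpe (K10.f165903 IH) (Lpr_gf (K10.f191177 IH) (Lpe (f191192 IH) (Lpr_dt (f191193 IH) (Lpe (f191194 IH) (Lpr_df (f352849 IH) (Lpn (LP (LK LD1_c11 LD2_c4 LD3_c10)))))))))))))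
theorem f352863 : Led Lsl_et (LP (LK LD1_c15 LD2_c31 LD3_c12)) = (LP (LK LD1_c11 LD2_c4 LD3_c10)) :=
  Lgr Lrot87 (Lpr_ef (f352858 IH) (Lpn (LP (LK LD1_c11 LD2_c4 LD3_c10))))
theorem f352866 : Led Lsl_ct (LP (LK LD1_c11 LD2_c4 LD3_c10)) = (LP (LK LD1_c5 LD2_c35 LD3_c57)) :=
  Lre_c IH (LK LD1_c11 LD2_c4 LD3_c10) (LK LD1_c5 LD2_c35 LD3_c57) Lrfl Lrfl
theorem f352867 : Led Lsl_et (LP (LK LD1_c5 LD2_c35 LD3_c57)) = (LP (LK LD1_c11 LD2_c4 LD3_c11)) :=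
  Lre_e IH (LK LD1_c5 LD2_c35 LD3_c57) (LK LD1_c11 LD2_c4 LD3_c11) Lrfl Lrfl
theorem f352868 : Led Lsl_cf (LP (LK LD1_c15 LD2_c31 LD3_c12)) = (LP (LK LD1_c11 LD2_c4 LD3_c11)) :=
  Lgr Lrot39 (Lpr_et (f352863 IH) (Lpr_ct (f352866 IH) (Lpr_et (f352867 IH) (Lpn (LP (LK LD1_c11 LD2_c4 LD3_c11))))))
theorem f190241 : Led Lsl_bt (LP (LK LD1_c11 LD2_c4 LD3_c11)) = (LP (LK LD1_c5 LD2_c35 LD3_c59)) :=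
  Lre_b IH (LK LD1_c11 LD2_c4 LD3_c11) (LK LD1_c5 LD2_c35 LD3_c59) Lrfl Lrfl
theorem f348826 : Led Lsl_ft (LP (LK LD1_c15 LD2_c29 LD3_c44)) = (LP (LK LD1_c8 LD2_c14 LD3_c8)) :=
  Lre_f IH (LK LD1_c15 LD2_c29 LD3_c44) (LK LD1_c8 LD2_c14 LD3_c8) Lrfl Lrfl
theorem f348836 : Led Lsl_ft (LP (LK LD1_c4 LD2_c6 LD3_c44)) = (LP (LK LD1_c2 LD2_c59 LD3_c46)) :=
  Lgr Lrot86 (Lpe (K23.f192189 IH) (Lpe (f348826 IH) (Lpr_ef (K23.f348831 IH) (Lpe (K20.f322798 IH) (Lpe (K19.f191293 IH) (Lpn (LP (LK LD1_c2 LD2_c59 LD3_c46))))))))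
theorem f348840 : Led Lsl_af (LP (LK LD1_c4 LD2_c20 LD3_c23)) = (LP (LK LD1_c2 LD2_c59 LD3_c46)) :=
  Lgr Lrot31 (Lpr_gf (K13.f241021 IH) (Lpe (K13.f231482 IH) (Lpr_ft (f348836 IH) (Lpn (LP (LK LD1_c2 LD2_c59 LD3_c46))))))
theorem f239301 : Led Lsl_bt (LP (LK LD1_c4 LD2_c20 LD3_c23)) = (LP (LK LD1_c8 LD2_c38 LD3_c36)) :=
  Lre_b IH (LK LD1_c4 LD2_c20 LD3_c23) (LK LD1_c8 LD2_c38 LD3_c36) Lrfl Lrfl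
theorem f348842 : Led Lsl_at (LP (LK LD1_c8 LD2_c38 LD3_c36)) = (LP (LK LD1_c16 LD2_c11 LD3_c16)) :=
  Lre_a IH (LK LD1_c8 LD2_c38 LD3_c36) (LK LD1_c16 LD2_c11 LD3_c16) Lrfl Lrfl
theorem f177533 : Led Lsl_bt (LP (LK LD1_c6 LD2_c7 LD3_c12)) = (LP (LK LD1_c2 LD2_c59 LD3_c46)) :=
  Lre_b IH (LK LD1_c6 LD2_c7 LD3_c12) (LK LD1_c2 LD2_c59 LD3_c46) Lrfl Lrfl
theorem f177528 : Led Lsl_at (LP (LK LD1_c11 LD2_c57 LD3_c15)) = (LP (LK LD1_c6 LD2_c7 LD3_c12)) :=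
  Lre_a IH (LK LD1_c11 LD2_c57 LD3_c15) (LK LD1_c6 LD2_c7 LD3_c12) Lrfl Lrfl
theorem f348843 : Led Lsl_bt (LP (LK LD1_c16 LD2_c11 LD3_c16)) = (LP (LK LD1_c11 LD2_c57 LD3_c15)) :=
  Lgr Lrot62 (Lpe (f348842 IH) (Lpe (f239301 IH) (Lpr_af (f348840 IH) (Lpe (f177533 IH) (Lpe (f177528 IH) (Lpn (LP (LK LD1_c11 LD2_c57 LD3_c15))))))))
theorem f348847 : Led Lsl_bf (LP (LK LD1_c16 LD2_c11 LD3_c16)) = (LP (LK LD1_c11 LD2_c57 LD3_c15)) :=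
  Lgr Lrot24 (Lpr_bt (f348843 IH) (Lpn (LP (LK LD1_c11 LD2_c57 LD3_c15))))
theorem f338943 : Led Lsl_ct (LP (LK LD1_c6 LD2_c7 LD3_c18)) = (LP (LK LD1_c11 LD2_c57 LD3_c15)) :=
  Lre_c IH (LK LD1_c6 LD2_c7 LD3_c18) (LK LD1_c11 LD2_c57 LD3_c15) Lrfl Lrfl
theorem f177506 : Led Lsl_bt (LP (LK LD1_c2 LD2_c59 LD3_c48)) = (LP (LK LD1_c1 LD2_c25 LD3_c37)) :=
  Lre_b IH (LK LD1_c2 LD2_c59 LD3_c48) (LK LD1_c1 LD2_c25 LD3_c37) Lrfl Lrfl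
theorem f177534 : Led Lsl_at (LP (LK LD1_c6 LD2_c7 LD3_c18)) = (LP (LK LD1_c2 LD2_c59 LD3_c48)) :=
  Lre_a IH (LK LD1_c6 LD2_c7 LD3_c18) (LK LD1_c2 LD2_c59 LD3_c48) Lrfl Lrfl
theorem f187533 : Led Lsl_bt (LP (LK LD1_c2 LD2_c0 LD3_c47)) = (LP (LK LD1_c4 LD2_c6 LD3_c52)) :=
  Lre_b IH (LK LD1_c2 LD2_c0 LD3_c47) (LK LD1_c4 LD2_c6 LD3_c52) Lrfl Lrfl
theorem f334954 : Led Lsl_at (LP (LK LD1_c4 LD2_c6 LD3_c52)) = (LP (LK LD1_c8 LD2_c14 LD3_c18)) :=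
  Lre_a IH (LK LD1_c4 LD2_c6 LD3_c52) (LK LD1_c8 LD2_c14 LD3_c18) Lrfl Lrfl
theorem f334955 : Led Lsl_bf (LP (LK LD1_c6 LD2_c7 LD3_c18)) = (LP (LK LD1_c8 LD2_c14 LD3_c18)) :=
  Lgr Lrot81 (Lpr_at (f177534 IH) (Lpr_bt (f177506 IH) (Lpr_at (K22.f334950 IH) (Lpr_bt (f187533 IH) (Lpr_at (f334954 IH) (Lpn (LP (LK LD1_c8 LD2_c14 LD3_c18))))))))
theorem f338911 : Led Lsl_ct (LP (LK LD1_c15 LD2_c29 LD3_c50)) = (LP (LK LD1_c8 LD2_c14 LD3_c18)) :=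
  Lre_c IH (LK LD1_c15 LD2_c29 LD3_c50) (LK LD1_c8 LD2_c14 LD3_c18) Lrfl Lrfl
theorem f338657 : Led Lsl_cf (LP (LK LD1_c9 LD2_c37 LD3_c38)) = (LP (LK LD1_c5 LD2_c35 LD3_c54)) :=
  Lgr Lrot11 (Lpr_ct (K24.f338638 IH) (Lpn (LP (LK LD1_c5 LD2_c35 LD3_c54))))
theorem f189226 : Led Lsl_gt (LP (LK LD1_c11 LD2_c2 LD3_c52)) = (LP (LK LD1_c5 LD2_c35 LD3_c54)) :=
  Lre_g IH (LK LD1_c11 LD2_c2 LD3_c52) (LK LD1_c5 LD2_c35 LD3_c54) Lrfl Lrfl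
theorem f189225 : Led Lsl_ct (LP (LK LD1_c5 LD2_c35 LD3_c23)) = (LP (LK LD1_c11 LD2_c2 LD3_c52)) :=
  Lre_c IH (LK LD1_c5 LD2_c35 LD3_c23) (LK LD1_c11 LD2_c2 LD3_c52) Lrfl Lrfl
theorem f189180 : Led Lsl_gt (LP (LK LD1_c4 LD2_c14 LD3_c28)) = (LP (LK LD1_c8 LD2_c27 LD3_c39)) :=
  Lre_g IH (LK LD1_c4 LD2_c14 LD3_c28) (LK LD1_c8 LD2_c27 LD3_c39) Lrfl Lrfl
theorem f338816 : Led Lsl_cf (LP (LK LD1_c4 LD2_c52 LD3_c48)) = (LP (LK LD1_c8 LD2_c27 LD3_c39)) :=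
  Lgr Lrot99 (Lpe (K19.f187949 IH) (Lpr_cf (f338657 IH) (Lpe (f189226 IH) (Lpe (f189225 IH) (Lpe (f189377 IH) (Lpr_df (K22.f189368 IH) (Lpr_gt (K22.f27907 IH) (Lpr_ct (K23.f189186 IH) (Lpr_gt (f189180 IH) (Lpn (LP (LK LD1_c8 LD2_c27 LD3_c39))))))))))))
theorem f189181 : Led Lsl_dt (LP (LK LD1_c8 LD2_c27 LD3_c39)) = (LP (LK LD1_c15 LD2_c53 LD3_c17)) :=
  Lre_d IH (LK LD1_c8 LD2_c27 LD3_c39) (LK LD1_c15 LD2_c53 LD3_c17) Lrfl Lrfl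
theorem f189182 : Led Lsl_gf (LP (LK LD1_c11 LD2_c4 LD3_c28)) = (LP (LK LD1_c15 LD2_c53 LD3_c17)) :=
  Lgr Lrot143 (Lpr_dt (K20.f189178 IH) (Lpe (K20.f189177 IH) (Lpe (K23.f189176 IH) (Lpe (K23.f189154 IH) (Lpr_df (K24.f189162 IH) (Lpe (K24.f32050 IH) (Lpe (K24.f189179 IH) (Lpr_gt (f189180 IH) (Lpr_dt (f189181 IH) (Lpn (LP (LK LD1_c15 LD2_c53 LD3_c17))))))))))))
theorem f189203 : Led Lsl_et (LP (LK LD1_c4 LD2_c14 LD3_c19)) = (LP (LK LD1_c8 LD2_c27 LD3_c19)) :=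
  Lre_e IH (LK LD1_c4 LD2_c14 LD3_c19) (LK LD1_c8 LD2_c27 LD3_c19) Lrfl Lrfl
theorem f189204 : Led Lsl_gt (LP (LK LD1_c8 LD2_c27 LD3_c19)) = (LP (LK LD1_c15 LD2_c52 LD3_c37)) :=
  Lre_g IH (LK LD1_c8 LD2_c27 LD3_c19) (LK LD1_c15 LD2_c52 LD3_c37) Lrfl Lrfl
theorem f189205 : Led Lsl_ef (LP (LK LD1_c15 LD2_c52 LD3_c37)) = (LP (LK LD1_c8 LD2_c27 LD3_c39)) :=
  Lgr Lrot17 (Lpe (f189204 IH) (Lpe (f189203 IH) (Lpr_dt (K15.f189202 IH) (Lpe (K15.f189148 IH) (Lpe (K10.f50909 IH) (Lpr_gf (K10.f188027 IH) (Lpe (K23.f187611 IH) (Lpr_dt (K23.f188036 IH) (Lpr_gf (f189182 IH) (Lpe (f189181 IH) (Lpn (LP (LK LD1_c8 LD2_c27 LD3_c39)))))))))))))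
theorem f189214 : Led Lsl_et (LP (LK LD1_c15 LD2_c52 LD3_c37)) = (LP (LK LD1_c8 LD2_c27 LD3_c39)) :=
  Lgr Lrot87 (Lpr_ef (f189205 IH) (Lpn (LP (LK LD1_c8 LD2_c27 LD3_c39))))
theorem f338821 : Led Lsl_ct (LP (LK LD1_c9 LD2_c37 LD3_c39)) = (LP (LK LD1_c15 LD2_c52 LD3_c37)) :=
  Lgr Lrot15 (Lpe (K19.f305506 IH) (Lpr_cf (f338816 IH) (Lpe (f189214 IH) (Lpn (LP (LK LD1_c15 LD2_c52 LD3_c37))))))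
theorem f293301 : Led Lsl_dt (LP (LK LD1_c15 LD2_c20 LD3_c29)) = (LP (LK LD1_c8 LD2_c8 LD3_c52)) :=
  Lre_d IH (LK LD1_c15 LD2_c20 LD3_c29) (LK LD1_c8 LD2_c8 LD3_c52) Lrfl Lrfl
theorem f327157 : Led Lsl_gf (LP (LK LD1_c11 LD2_c56 LD3_c60)) = (LP (LK LD1_c15 LD2_c52 LD3_c37)) :=
  Lgr Lrot76 (Lpr_af (K21.f327144 IH) (Lpe (K21.f314557 IH) (Lpr_gt (f189204 IH) (Lpn (LP (LK LD1_c15 LD2_c52 LD3_c37))))))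
theorem f168921 : Led Lsl_dt (LP (LK LD1_c11 LD2_c56 LD3_c60)) = (LP (LK LD1_c21 LD2_c1 LD3_c61)) :=
  Lre_d IH (LK LD1_c11 LD2_c56 LD3_c60) (LK LD1_c21 LD2_c1 LD3_c61) Lrfl Lrfl
theorem f338825 : Led Lsl_gf (LP (LK LD1_c15 LD2_c20 LD3_c29)) = (LP (LK LD1_c21 LD2_c1 LD3_c61)) :=
  Lgr Lrot154 (Lpr_dt (f293301 IH) (Lpr_ct (K21.f293302 IH) (Lpe (K21.f211326 IH) (Lpr_gf (K21.f329779 IH) (Lpr_df (K21.f194479 IH) (Lpe (K21.f329775 IH) (Lpr_ct (f338821 IH) (Lpe (f327157 IH) (Lpr_dt (f168921 IH) (Lpn (LP (LK LD1_c21 LD2_c1 LD3_c61))))))))))))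
theorem f168974 : Led Lsl_ft (LP (LK LD1_c21 LD2_c1 LD3_c61)) = (LP (LK LD1_c11 LD2_c56 LD3_c59)) :=
  Lre_f IH (LK LD1_c21 LD2_c1 LD3_c61) (LK LD1_c11 LD2_c56 LD3_c59) Lrfl Lrfl
theorem f338830 : Led Lsl_af (LP (LK LD1_c15 LD2_c52 LD3_c39)) = (LP (LK LD1_c11 LD2_c56 LD3_c59)) :=
  Lgr Lrot31 (Lpe (K21.f328159 IH) (Lpr_gf (f338825 IH) (Lpr_ft (f168974 IH) (Lpn (LP (LK LD1_c11 LD2_c56 LD3_c59))))))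
theorem f238377 : Led Lsl_et (LP (LK LD1_c15 LD2_c52 LD3_c39)) = (LP (LK LD1_c25 LD2_c48 LD3_c37)) :=
  Lre_e IH (LK LD1_c15 LD2_c52 LD3_c39) (LK LD1_c25 LD2_c48 LD3_c37) Lrfl Lrfl
theorem f338839 : Led Lsl_et (LP (LK LD1_c21 LD2_c1 LD3_c55)) = (LP (LK LD1_c11 LD2_c56 LD3_c59)) :=
  Lre_e IH (LK LD1_c21 LD2_c1 LD3_c55) (LK LD1_c11 LD2_c56 LD3_c59) Lrfl Lrfl
theorem f338840 : Led Lsl_at (LP (LK LD1_c25 LD2_c48 LD3_c37)) = (LP (LK LD1_c21 LD2_c1 LD3_c55)) :=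
  Lgr Lrot80 (Lpe (f238377 IH) (Lpr_af (f338830 IH) (Lpe (f338839 IH) (Lpn (LP (LK LD1_c21 LD2_c1 LD3_c55))))))
theorem f189269 : Led Lsl_dt (LP (LK LD1_c15 LD2_c52 LD3_c36)) = (LP (LK LD1_c25 LD2_c48 LD3_c37)) :=
  Lre_d IH (LK LD1_c15 LD2_c52 LD3_c36) (LK LD1_c25 LD2_c48 LD3_c37) Lrfl Lrfl
theorem f338852 : Led Lsl_dt (LP (LK LD1_c21 LD2_c1 LD3_c55)) = (LP (LK LD1_c11 LD2_c56 LD3_c56)) :=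
  Lre_d IH (LK LD1_c21 LD2_c1 LD3_c55) (LK LD1_c11 LD2_c56 LD3_c56) Lrfl Lrfl
theorem f338853 : Led Lsl_af (LP (LK LD1_c15 LD2_c52 LD3_c36)) = (LP (LK LD1_c11 LD2_c56 LD3_c56)) :=
  Lgr Lrot117 (Lpr_dt (f189269 IH) (Lpr_at (f338840 IH) (Lpr_dt (f338852 IH) (Lpn (LP (LK LD1_c11 LD2_c56 LD3_c56))))))
theorem f189268 : Led Lsl_et (LP (LK LD1_c15 LD2_c52 LD3_c36)) = (LP (LK LD1_c8 LD2_c27 LD3_c18)) :=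
  Lre_e IH (LK LD1_c15 LD2_c52 LD3_c36) (LK LD1_c8 LD2_c27 LD3_c18) Lrfl Lrfl
theorem f274654 : Led Lsl_et (LP (LK LD1_c6 LD2_c6 LD3_c60)) = (LP (LK LD1_c11 LD2_c56 LD3_c56)) :=
  Lre_e IH (LK LD1_c6 LD2_c6 LD3_c60) (LK LD1_c11 LD2_c56 LD3_c56) Lrfl Lrfl
theorem f338859 : Led Lsl_at (LP (LK LD1_c8 LD2_c27 LD3_c18)) = (LP (LK LD1_c6 LD2_c6 LD3_c60)) :=
  Lgr Lrot80 (Lpe (f189268 IH) (Lpr_af (f338853 IH) (Lpe (f274654 IH) (Lpn (LP (LK LD1_c6 LD2_c6 LD3_c60))))))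
theorem f338875 : Led Lsl_af (LP (LK LD1_c8 LD2_c14 LD3_c14)) = (LP (LK LD1_c8 LD2_c7 LD3_c9)) :=
  Lgr Lrot68 (Lpr_ct (K15.f233751 IH) (Lpr_at (f338859 IH) (Lpe (K15.f265673 IH) (Lpn (LP (LK LD1_c8 LD2_c7 LD3_c9))))))
theorem f338879 : Led Lsl_at (LP (LK LD1_c4 LD2_c6 LD3_c50)) = (LP (LK LD1_c4 LD2_c50 LD3_c38)) :=
  Lgr Lrot51 (Lpe (K15.f190941 IH) (Lpr_af (f338875 IH) (Lpe (K15.f265637 IH) (Lpn (LP (LK LD1_c4 LD2_c50 LD3_c38))))))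
theorem f265725 : Led Lsl_bt (LP (LK LD1_c8 LD2_c14 LD3_c13)) = (LP (LK LD1_c4 LD2_c6 LD3_c50)) :=
  Lre_b IH (LK LD1_c8 LD2_c14 LD3_c13) (LK LD1_c4 LD2_c6 LD3_c50) Lrfl Lrfl
theorem f338913 : Led Lsl_at (LP (LK LD1_c15 LD2_c29 LD3_c50)) = (LP (LK LD1_c8 LD2_c14 LD3_c13)) :=
  Lre_a IH (LK LD1_c15 LD2_c29 LD3_c50) (LK LD1_c8 LD2_c14 LD3_c13) Lrfl Lrfl
theorem f265603 : Led Lsl_bt (LP (LK LD1_c4 LD2_c50 LD3_c38)) = (LP (LK LD1_c9 LD2_c33 LD3_c23)) :=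
  Lre_b IH (LK LD1_c4 LD2_c50 LD3_c38) (LK LD1_c9 LD2_c33 LD3_c23) Lrfl Lrfl
theorem f338938 : Led Lsl_at (LP (LK LD1_c9 LD2_c33 LD3_c23)) = (LP (LK LD1_c17 LD2_c35 LD3_c55)) :=
  Lre_a IH (LK LD1_c9 LD2_c33 LD3_c23) (LK LD1_c17 LD2_c35 LD3_c55) Lrfl Lrfl
theorem f338939 : Led Lsl_bf (LP (LK LD1_c15 LD2_c29 LD3_c50)) = (LP (LK LD1_c17 LD2_c35 LD3_c55)) :=
  Lgr Lrot81 (Lpr_at (f338913 IH) (Lpr_bt (f265725 IH) (Lpr_at (f338879 IH) (Lpr_bt (f265603 IH) (Lpr_at (f338938 IH) (Lpn (LP (LK LD1_c17 LD2_c35 LD3_c55))))))))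
theorem f348854 : Led Lsl_ct (LP (LK LD1_c16 LD2_c11 LD3_c16)) = (LP (LK LD1_c17 LD2_c35 LD3_c55)) :=
  Lgr Lrot83 (Lpr_bf (f348847 IH) (Lpe (f338943 IH) (Lpr_bf (f334955 IH) (Lpe (f338911 IH) (Lpr_bf (f338939 IH) (Lpn (LP (LK LD1_c17 LD2_c35 LD3_c55))))))))
theorem f327122 : Led Lsl_ff (LP (LK LD1_c8 LD2_c7 LD3_c9)) = (LP (LK LD1_c8 LD2_c27 LD3_c18)) :=
  Lgr Lrot19 (Lpe (K15.f265633 IH) (Lpr_ft (K21.f327118 IH) (Lpr_dt (K15.f189202 IH) (Lpn (LP (LK LD1_c8 LD2_c27 LD3_c18))))))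
theorem f327133 : Led Lsl_at (LP (LK LD1_c6 LD2_c6 LD3_c60)) = (LP (LK LD1_c8 LD2_c27 LD3_c18)) :=
  Lgr Lrot51 (Lpe (K15.f181704 IH) (Lpr_af (K21.f327124 IH) (Lpe (K15.f189147 IH) (Lpn (LP (LK LD1_c8 LD2_c27 LD3_c18))))))
theorem f338881 : Led Lsl_ft (LP (LK LD1_c8 LD2_c14 LD3_c14)) = (LP (LK LD1_c6 LD2_c6 LD3_c60)) :=
  Lgr Lrot101 (Lpr_af (f338875 IH) (Lpr_ff (f327122 IH) (Lpe (f327133 IH) (Lpn (LP (LK LD1_c6 LD2_c6 LD3_c60))))))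
theorem f338889 : Led Lsl_ff (LP (LK LD1_c8 LD2_c14 LD3_c14)) = (LP (LK LD1_c6 LD2_c6 LD3_c60)) :=
  Lgr Lrot3 (Lpr_ft (f338881 IH) (Lpn (LP (LK LD1_c6 LD2_c6 LD3_c60))))
theorem f338893 : Led Lsl_ft (LP (LK LD1_c4 LD2_c6 LD3_c50)) = (LP (LK LD1_c2 LD2_c59 LD3_c36)) :=
  Lgr Lrot54 (Lpe (K15.f190941 IH) (Lpr_ff (f338889 IH) (Lpe (K15.f181704 IH) (Lpn (LP (LK LD1_c2 LD2_c59 LD3_c36))))))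
theorem f247182 : Led Lsl_bt (LP (LK LD1_c2 LD2_c59 LD3_c36)) = (LP (LK LD1_c6 LD2_c6 LD3_c59)) :=
  Lre_b IH (LK LD1_c2 LD2_c59 LD3_c36) (LK LD1_c6 LD2_c6 LD3_c59) Lrfl Lrfl
theorem f338897 : Led Lsl_ff (LP (LK LD1_c8 LD2_c14 LD3_c13)) = (LP (LK LD1_c6 LD2_c6 LD3_c59)) :=
  Lgr Lrot25 (Lpr_bt (f265725 IH) (Lpr_ft (f338893 IH) (Lpr_bt (f247182 IH) (Lpn (LP (LK LD1_c6 LD2_c6 LD3_c59))))))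
theorem f338899 : Led Lsl_at (LP (LK LD1_c8 LD2_c14 LD3_c13)) = (LP (LK LD1_c15 LD2_c29 LD3_c50)) :=
  Lre_a IH (LK LD1_c8 LD2_c14 LD3_c13) (LK LD1_c15 LD2_c29 LD3_c50) Lrfl Lrfl
theorem f338900 : Led Lsl_at (LP (LK LD1_c11 LD2_c56 LD3_c53)) = (LP (LK LD1_c6 LD2_c6 LD3_c59)) :=
  Lre_a IH (LK LD1_c11 LD2_c56 LD3_c53) (LK LD1_c6 LD2_c6 LD3_c59) Lrfl Lrfl
theorem f338901 : Led Lsl_ft (LP (LK LD1_c15 LD2_c29 LD3_c50)) = (LP (LK LD1_c11 LD2_c56 LD3_c53)) :=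
  Lgr Lrot101 (Lpe (f338899 IH) (Lpr_ff (f338897 IH) (Lpe (f338900 IH) (Lpn (LP (LK LD1_c11 LD2_c56 LD3_c53))))))
theorem f327128 : Led Lsl_at (LP (LK LD1_c6 LD2_c6 LD3_c59)) = (LP (LK LD1_c11 LD2_c56 LD3_c53)) :=
  Lre_a IH (LK LD1_c6 LD2_c6 LD3_c59) (LK LD1_c11 LD2_c56 LD3_c53) Lrfl Lrfl
theorem f189924 : Led Lsl_bt (LP (LK LD1_c8 LD2_c27 LD3_c17)) = (LP (LK LD1_c4 LD2_c14 LD3_c19)) :=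
  Lre_b IH (LK LD1_c8 LD2_c27 LD3_c17) (LK LD1_c4 LD2_c14 LD3_c19) Lrfl Lrfl
theorem f189952 : Led Lsl_at (LP (LK LD1_c15 LD2_c52 LD3_c34)) = (LP (LK LD1_c8 LD2_c27 LD3_c17)) :=
  Lre_a IH (LK LD1_c15 LD2_c52 LD3_c34) (LK LD1_c8 LD2_c27 LD3_c17) Lrfl Lrfl
theorem f327129 : Led Lsl_bt (LP (LK LD1_c11 LD2_c56 LD3_c53)) = (LP (LK LD1_c15 LD2_c52 LD3_c34)) :=
  Lgr Lrot62 (Lpe (f327128 IH) (Lpe (f247182 IH) (Lpr_af (K21.f327124 IH) (Lpe (f189924 IH) (Lpe (f189952 IH) (Lpn (LP (LK LD1_c15 LD2_c52 LD3_c34))))))))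
theorem f338944 : Led Lsl_ft (LP (LK LD1_c15 LD2_c52 LD3_c34)) = (LP (LK LD1_c17 LD2_c35 LD3_c55)) :=
  Lgr Lrot75 (Lpe (f327129 IH) (Lpe (f338901 IH) (Lpr_bf (f338939 IH) (Lpn (LP (LK LD1_c17 LD2_c35 LD3_c55))))))
theorem f338947 : Led Lsl_ff (LP (LK LD1_c15 LD2_c52 LD3_c34)) = (LP (LK LD1_c17 LD2_c35 LD3_c55)) :=
  Lgr Lrot3 (Lpr_ft (f338944 IH) (Lpn (LP (LK LD1_c17 LD2_c35 LD3_c55))))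
theorem f189926 : Led Lsl_bt (LP (LK LD1_c4 LD2_c19 LD3_c54)) = (LP (LK LD1_c8 LD2_c37 LD3_c43)) :=
  Lre_b IH (LK LD1_c4 LD2_c19 LD3_c54) (LK LD1_c8 LD2_c37 LD3_c43) Lrfl Lrfl
theorem f189927 : Led Lsl_cf (LP (LK LD1_c8 LD2_c27 LD3_c17)) = (LP (LK LD1_c8 LD2_c37 LD3_c43)) :=
  Lgr Lrot97 (Lpr_bt (f189924 IH) (Lpr_ct (K15.f189146 IH) (Lpr_bt (K15.f189877 IH) (Lpr_ct (K13.f189925 IH) (Lpr_bt (f189926 IH) (Lpn (LP (LK LD1_c8 LD2_c37 LD3_c43))))))))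
theorem f189945 : Led Lsl_at (LP (LK LD1_c8 LD2_c27 LD3_c17)) = (LP (LK LD1_c15 LD2_c52 LD3_c34)) :=
  Lre_a IH (LK LD1_c8 LD2_c27 LD3_c17) (LK LD1_c15 LD2_c52 LD3_c34) Lrfl Lrfl
theorem f189946 : Led Lsl_at (LP (LK LD1_c16 LD2_c9 LD3_c46)) = (LP (LK LD1_c8 LD2_c37 LD3_c43)) :=
  Lre_a IH (LK LD1_c16 LD2_c9 LD3_c46) (LK LD1_c8 LD2_c37 LD3_c43) Lrfl Lrfl
theorem f189947 : Led Lsl_ct (LP (LK LD1_c15 LD2_c52 LD3_c34)) = (LP (LK LD1_c16 LD2_c9 LD3_c46)) :=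
  Lgr Lrot111 (Lpe (f189945 IH) (Lpr_cf (f189927 IH) (Lpe (f189946 IH) (Lpn (LP (LK LD1_c16 LD2_c9 LD3_c46))))))
theorem f348860 : Led Lsl_ff (LP (LK LD1_c16 LD2_c11 LD3_c16)) = (LP (LK LD1_c16 LD2_c9 LD3_c46)) :=
  Lgr Lrot23 (Lpr_ct (f348854 IH) (Lpe (f338947 IH) (Lpr_ct (f189947 IH) (Lpn (LP (LK LD1_c16 LD2_c9 LD3_c46))))))
theorem f348864 : Led Lsl_ft (LP (LK LD1_c16 LD2_c11 LD3_c16)) = (LP (LK LD1_c16 LD2_c9 LD3_c46)) :=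
  Lgr Lrot48 (Lpr_ff (f348860 IH) (Lpn (LP (LK LD1_c16 LD2_c9 LD3_c46))))
theorem f348868 : Led Lsl_ff (LP (LK LD1_c8 LD2_c38 LD3_c36)) = (LP (LK LD1_c8 LD2_c37 LD3_c43)) :=
  Lgr Lrot30 (Lpr_at (f348842 IH) (Lpr_ft (f348864 IH) (Lpr_at (f189946 IH) (Lpn (LP (LK LD1_c8 LD2_c37 LD3_c43))))))
theorem f241033 : Led Lsl_bt (LP (LK LD1_c8 LD2_c38 LD3_c36)) = (LP (LK LD1_c4 LD2_c20 LD3_c23)) :=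
  Lre_b IH (LK LD1_c8 LD2_c38 LD3_c36) (LK LD1_c4 LD2_c20 LD3_c23) Lrfl Lrfl
theorem f348872 : Led Lsl_ft (LP (LK LD1_c4 LD2_c20 LD3_c23)) = (LP (LK LD1_c4 LD2_c19 LD3_c54)) :=
  Lgr Lrot75 (Lpe (f241033 IH) (Lpr_ff (f348868 IH) (Lpe (f189926 IH) (Lpn (LP (LK LD1_c4 LD2_c19 LD3_c54))))))
theorem f348899 : Led Lsl_ff (LP (LK LD1_c4 LD2_c20 LD3_c23)) = (LP (LK LD1_c4 LD2_c19 LD3_c54)) :=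
  Lgr Lrot3 (Lpr_ft (f348872 IH) (Lpn (LP (LK LD1_c4 LD2_c19 LD3_c54))))
theorem f346937 : Led Lsl_af (LP (LK LD1_c2 LD2_c59 LD3_c46)) = (LP (LK LD1_c4 LD2_c20 LD3_c23)) :=
  Lgr Lrot117 (Lpr_dt (K13.f182033 IH) (Lpr_at (K23.f346934 IH) (Lpr_dt (K13.f239296 IH) (Lpn (LP (LK LD1_c4 LD2_c20 LD3_c23))))))
theorem f346931 : Led Lsl_ft (LP (LK LD1_c2 LD2_c59 LD3_c46)) = (LP (LK LD1_c4 LD2_c6 LD3_c44)) :=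
  Lgr Lrot54 (Lpe (K13.f182029 IH) (Lpr_ff (K23.f346796 IH) (Lpe (K13.f192187 IH) (Lpn (LP (LK LD1_c4 LD2_c6 LD3_c44))))))
theorem f348901 : Led Lsl_at (LP (LK LD1_c4 LD2_c6 LD3_c44)) = (LP (LK LD1_c4 LD2_c19 LD3_c54)) :=
  Lgr Lrot66 (Lpe (f346931 IH) (Lpr_af (f346937 IH) (Lpr_ff (f348899 IH) (Lpn (LP (LK LD1_c4 LD2_c19 LD3_c54))))))
theorem f314446 : Led Lsl_et (LP (LK LD1_c4 LD2_c19 LD3_c54)) = (LP (LK LD1_c8 LD2_c37 LD3_c44)) :=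
  Lre_e IH (LK LD1_c4 LD2_c19 LD3_c54) (LK LD1_c8 LD2_c37 LD3_c44) Lrfl Lrfl
theorem f348915 : Led Lsl_af (LP (LK LD1_c8 LD2_c14 LD3_c8)) = (LP (LK LD1_c8 LD2_c37 LD3_c44)) :=
  Lgr Lrot50 (Lpr_et (K23.f192189 IH) (Lpr_at (f348901 IH) (Lpr_et (f314446 IH) (Lpn (LP (LK LD1_c8 LD2_c37 LD3_c44))))))
theorem f314443 : Led Lsl_ft (LP (LK LD1_c16 LD2_c9 LD3_c48)) = (LP (LK LD1_c8 LD2_c37 LD3_c44)) :=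
  Lre_f IH (LK LD1_c16 LD2_c9 LD3_c48) (LK LD1_c8 LD2_c37 LD3_c44) Lrfl Lrfl
theorem f348917 : Led Lsl_gf (LP (LK LD1_c15 LD2_c29 LD3_c42)) = (LP (LK LD1_c16 LD2_c9 LD3_c48)) :=
  Lgr Lrot47 (Lpr_gt (K23.f178211 IH) (Lpr_af (f348915 IH) (Lpe (f314443 IH) (Lpn (LP (LK LD1_c16 LD2_c9 LD3_c48))))))
theorem f354016 : Led Lsl_gt (LP (LK LD1_c5 LD2_c35 LD3_c59)) = (LP (LK LD1_c8 LD2_c37 LD3_c47)) :=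
  Lgr Lrot82 (Lpe (f190241 IH) (Lpe (f352868 IH) (Lpe (f231758 IH) (Lpe (K17.f231729 IH) (Lpe (f231725 IH) (Lpe (K22.f231790 IH) (Lpr_bf (f353970 IH) (Lpe (K23.f339699 IH) (Lpr_gf (f348917 IH) (Lpe (K19.f189916 IH) (Lpn (LP (LK LD1_c8 LD2_c37 LD3_c47)))))))))))))
theorem f348710 : Led Lsl_ct (LP (LK LD1_c5 LD2_c24 LD3_c33)) = (LP (LK LD1_c9 LD2_c43 LD3_c49)) :=
  Lgr Lrot59 (Lpr_cf (K24.f348707 IH) (Lpn (LP (LK LD1_c9 LD2_c43 LD3_c49))))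
theorem f348814 : Led Lsl_cf (LP (LK LD1_c8 LD2_c38 LD3_c5)) = (LP (LK LD1_c15 LD2_c29 LD3_c42)) :=
  Lgr Lrot166 (Lpr_gt (K19.f187903 IH) (Lpe (K17.f223567 IH) (Lpr_gt (K19.f200393 IH) (Lpe (K24.f310522 IH) (Lpr_ct (f348710 IH) (Lpe (K24.f314527 IH) (Lpe (K24.f348705 IH) (Lpe (K23.f192190 IH) (Lpe (K23.f178211 IH) (Lpn (LP (LK LD1_c15 LD2_c29 LD3_c42))))))))))))
theorem f338823 : Led Lsl_cf (LP (LK LD1_c9 LD2_c37 LD3_c39)) = (LP (LK LD1_c15 LD2_c52 LD3_c37)) :=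
  Lgr Lrot11 (Lpr_ct (f338821 IH) (Lpn (LP (LK LD1_c15 LD2_c52 LD3_c37))))
theorem f189933 : Led Lsl_ct (LP (LK LD1_c4 LD2_c14 LD3_c20)) = (LP (LK LD1_c8 LD2_c27 LD3_c19)) :=
  Lre_c IH (LK LD1_c4 LD2_c14 LD3_c20) (LK LD1_c8 LD2_c27 LD3_c19) Lrfl Lrfl
theorem f27607 : Led Lsl_gt (LP (LK LD1_c8 LD2_c27 LD3_c21)) = (LP (LK LD1_c4 LD2_c14 LD3_c20)) :=
  Lre_g IH (LK LD1_c8 LD2_c27 LD3_c21) (LK LD1_c4 LD2_c14 LD3_c20) Lrfl Lrfl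
theorem f354020 : Led Lsl_df (LP (LK LD1_c5 LD2_c35 LD3_c59)) = (LP (LK LD1_c8 LD2_c27 LD3_c21)) :=
  Lgr Lrot155 (Lpr_gt (f354016 IH) (Lpr_ct (K19.f189916 IH) (Lpe (f348917 IH) (Lpe (f348814 IH) (Lpr_dt (K21.f310550 IH) (Lpr_cf (f338823 IH) (Lpe (f189204 IH) (Lpe (f189933 IH) (Lpe (f27607 IH) (Lpn (LP (LK LD1_c8 LD2_c27 LD3_c21))))))))))))
theorem f184701 : Led Lsl_ct (LP (LK LD1_c4 LD2_c2 LD3_c5)) = (LP (LK LD1_c8 LD2_c4 LD3_c45)) :=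
  Lre_c IH (LK LD1_c4 LD2_c2 LD3_c5) (LK LD1_c8 LD2_c4 LD3_c45) Lrfl Lrfl
theorem f239903 : Led Lsl_ct (LP (LK LD1_c15 LD2_c11 LD3_c21)) = (LP (LK LD1_c8 LD2_c4 LD3_c6)) :=
  Lre_c IH (LK LD1_c15 LD2_c11 LD3_c21) (LK LD1_c8 LD2_c4 LD3_c6) Lrfl Lrfl
theorem f235440 : Led Lsl_ct (LP (LK LD1_c15 LD2_c53 LD3_c38)) = (LP (LK LD1_c8 LD2_c27 LD3_c56)) :=
  Lre_c IH (LK LD1_c15 LD2_c53 LD3_c38) (LK LD1_c8 LD2_c27 LD3_c56) Lrfl Lrfl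
theorem f346299 : Led Lsl_gt (LP (LK LD1_c15 LD2_c3 LD3_c15)) = (LP (LK LD1_c15 LD2_c53 LD3_c38)) :=
  Lgr Lrot150 (Lpr_cf (K23.f346293 IH) (Lpe (K23.f235149 IH) (Lpr_df (K23.f345811 IH) (Lpr_gt (K23.f184746 IH) (Lpr_ct (f184701 IH) (Lpr_gt (K23.f345017 IH) (Lpr_ct (f239903 IH) (Lpe (K23.f345003 IH) (Lpe (f235440 IH) (Lpn (LP (LK LD1_c15 LD2_c53 LD3_c38))))))))))))
theorem f235436 : Led Lsl_ct (LP (LK LD1_c8 LD2_c27 LD3_c56)) = (LP (LK LD1_c15 LD2_c53 LD3_c38)) :=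
  Lre_c IH (LK LD1_c8 LD2_c27 LD3_c56) (LK LD1_c15 LD2_c53 LD3_c38) Lrfl Lrfl
theorem f235435 : Led Lsl_bt (LP (LK LD1_c8 LD2_c27 LD3_c56)) = (LP (LK LD1_c4 LD2_c14 LD3_c41)) :=
  Lre_b IH (LK LD1_c8 LD2_c27 LD3_c56) (LK LD1_c4 LD2_c14 LD3_c41) Lrfl Lrfl
theorem f216346 : Led Lsl_ct (LP (LK LD1_c4 LD2_c1 LD3_c6)) = (LP (LK LD1_c8 LD2_c2 LD3_c55)) :=
  Lre_c IH (LK LD1_c4 LD2_c1 LD3_c6) (LK LD1_c8 LD2_c2 LD3_c55) Lrfl Lrfl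
theorem f346301 : Led Lsl_gt (LP (LK LD1_c4 LD2_c14 LD3_c41)) = (LP (LK LD1_c4 LD2_c55 LD3_c54)) :=
  Lgr Lrot82 (Lpe (f235435 IH) (Lpr_ct (f235436 IH) (Lpe (f346299 IH) (Lpr_cf (K23.f346293 IH) (Lpe (K23.f346265 IH) (Lpe (K23.f218976 IH) (Lpe (K17.f218994 IH) (Lpr_ct (f216346 IH) (Lpr_gf (K16.f274745 IH) (Lpe (K16.f274753 IH) (Lpn (LP (LK LD1_c4 LD2_c55 LD3_c54)))))))))))))
theorem f339797 : Led Lsl_df (LP (LK LD1_c10 LD2_c8 LD3_c7)) = (LP (LK LD1_c5 LD2_c36 LD3_c44)) :=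
  Lgr Lrot38 (Lpr_dt (K22.f339788 IH) (Lpn (LP (LK LD1_c5 LD2_c36 LD3_c44))))
theorem f354024 : Led Lsl_gf (LP (LK LD1_c8 LD2_c27 LD3_c21)) = (LP (LK LD1_c6 LD2_c7 LD3_c2)) :=
  Lgr Lrot138 (Lpe (f354020 IH) (Lpr_gt (f354016 IH) (Lpr_df (K19.f189912 IH) (Lpe (K19.f314424 IH) (Lpr_gt (f346301 IH) (Lpe (K16.f243716 IH) (Lpe (K16.f274709 IH) (Lpe (K22.f339807 IH) (Lpr_df (f339797 IH) (Lpr_et (K21.f326991 IH) (Lpn (LP (LK LD1_c6 LD2_c7 LD3_c2)))))))))))))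
theorem f27608 : Led Lsl_et (LP (LK LD1_c15 LD2_c52 LD3_c41)) = (LP (LK LD1_c8 LD2_c27 LD3_c21)) :=
  Lre_e IH (LK LD1_c15 LD2_c52 LD3_c41) (LK LD1_c8 LD2_c27 LD3_c21) Lrfl Lrfl
theorem f354027 : Led Lsl_dt (LP (LK LD1_c15 LD2_c52 LD3_c41)) = (LP (LK LD1_c8 LD2_c27 LD3_c44)) :=
  Lgr Lrot136 (Lpr_et (f27608 IH) (Lpr_gf (f354024 IH) (Lpe (K21.f326991 IH) (Lpe (f339797 IH) (Lpr_gf (K22.f339807 IH) (Lpr_df (K16.f274709 IH) (Lpr_gf (K24.f339809 IH) (Lpe (K19.f189289 IH) (Lpr_dt (K21.f27471 IH) (Lpr_gf (K22.f189384 IH) (Lpn (LP (LK LD1_c8 LD2_c27 LD3_c44)))))))))))))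
theorem f354033 : Led Lsl_gt (LP (LK LD1_c8 LD2_c28 LD3_c38)) = (LP (LK LD1_c8 LD2_c27 LD3_c44)) :=
  Lgr Lrot112 (Lpe (K20.f224247 IH) (Lpr_et (K19.f235131 IH) (Lpe (K23.f326997 IH) (Lpr_ef (K23.f243724 IH) (Lpr_dt (K23.f326993 IH) (Lpe (K23.f314418 IH) (Lpe (K19.f314565 IH) (Lpe (f27607 IH) (Lpe (f27608 IH) (Lpr_dt (f354027 IH) (Lpn (LP (LK LD1_c8 LD2_c27 LD3_c44)))))))))))))
theorem f299318 : Led Lsl_dt (LP (LK LD1_c8 LD2_c11 LD3_c54)) = (LP (LK LD1_c9 LD2_c38 LD3_c41)) :=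
  Lgr Lrot42 (Lpr_df (K20.f299312 IH) (Lpn (LP (LK LD1_c9 LD2_c38 LD3_c41))))
theorem f354035 : Led Lsl_gf (LP (LK LD1_c9 LD2_c35 LD3_c23)) = (LP (LK LD1_c9 LD2_c38 LD3_c41)) :=
  Lgr Lrot134 (Lpe (K19.f309956 IH) (Lpr_et (K20.f312202 IH) (Lpr_gt (f354033 IH) (Lpe (K22.f189370 IH) (Lpe (K22.f189368 IH) (Lpr_gt (f189377 IH) (Lpe (K20.f315593 IH) (Lpr_et (K20.f315618 IH) (Lpr_gt (K20.f315433 IH) (Lpr_dt (f299318 IH) (Lpn (LP (LK LD1_c9 LD2_c38 LD3_c41)))))))))))))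
theorem f224935 : Led Lsl_ct (LP (LK LD1_c9 LD2_c35 LD3_c23)) = (LP (LK LD1_c17 LD2_c39 LD3_c33)) :=
  Lre_c IH (LK LD1_c9 LD2_c35 LD3_c23) (LK LD1_c17 LD2_c39 LD3_c33) Lrfl Lrfl
theorem f354041 : Led Lsl_gt (LP (LK LD1_c17 LD2_c39 LD3_c33)) = (LP (LK LD1_c25 LD2_c6 LD3_c48)) :=
  Lgr Lrot150 (Lpe (f224935 IH) (Lpr_gf (f354035 IH) (Lpe (f299318 IH) (Lpr_gt (K19.f237929 IH) (Lpr_ct (K18.f256147 IH) (Lpr_gt (K21.f328173 IH) (Lpr_ct (K21.f328108 IH) (Lpe (K21.f299266 IH) (Lpe (K21.f299259 IH) (Lpn (LP (LK LD1_c25 LD2_c6 LD3_c48))))))))))))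
theorem f262161 : Led Lsl_ft (LP (LK LD1_c26 LD2_c13 LD3_c44)) = (LP (LK LD1_c16 LD2_c15 LD3_c58)) :=
  Lre_f IH (LK LD1_c26 LD2_c13 LD3_c44) (LK LD1_c16 LD2_c15 LD3_c58) Lrfl Lrfl
theorem f262162 : Led Lsl_at (LP (LK LD1_c16 LD2_c15 LD3_c58)) = (LP (LK LD1_c24 LD2_c44 LD3_c56)) :=
  Lgr Lrot33 (Lpe (f262161 IH) (Lpr_dt (K15.f262151 IH) (Lpr_ct (K15.f228153 IH) (Lpr_dt (K15.f228152 IH) (Lpr_ct (K15.f228108 IH) (Lpr_dt (K13.f228062 IH) (Lpr_ct (K18.f197649 IH) (Lpr_dt (K19.f197719 IH) (Lpr_ct (K21.f224942 IH) (Lpn (LP (LK LD1_c24 LD2_c44 LD3_c56))))))))))))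
theorem f298216 : Led Lsl_gt (LP (LK LD1_c26 LD2_c13 LD3_c44)) = (LP (LK LD1_c27 LD2_c39 LD3_c48)) :=
  Lgr Lrot5 (Lpr_ft (f262161 IH) (Lpr_at (f262162 IH) (Lpr_gf (K20.f298213 IH) (Lpn (LP (LK LD1_c27 LD2_c39 LD3_c48))))))
theorem f354043 : Led Lsl_gt (LP (LK LD1_c24 LD2_c44 LD3_c54)) = (LP (LK LD1_c16 LD2_c15 LD3_c59)) :=
  Lgr Lrot9 (Lpr_df (K19.f224933 IH) (Lpr_gt (f354041 IH) (Lpr_ct (K21.f299259 IH) (Lpe (K21.f328669 IH) (Lpr_ct (K21.f328675 IH) (Lpe (K23.f341903 IH) (Lpe (K20.f298032 IH) (Lpe (f298216 IH) (Lpe (K15.f28893 IH) (Lpn (LP (LK LD1_c16 LD2_c15 LD3_c59))))))))))))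
theorem f238782 : Led Lsl_gt (LP (LK LD1_c16 LD2_c20 LD3_c11)) = (LP (LK LD1_c26 LD2_c18 LD3_c14)) :=
  Lre_g IH (LK LD1_c16 LD2_c20 LD3_c11) (LK LD1_c26 LD2_c18 LD3_c14) Lrfl Lrfl
theorem f354047 : Led Lsl_cf (LP (LK LD1_c24 LD2_c44 LD3_c54)) = (LP (LK LD1_c26 LD2_c18 LD3_c14)) :=
  Lgr Lrot169 (Lpr_gt (f354043 IH) (Lpr_ct (K15.f28893 IH) (Lpr_df (K18.f262155 IH) (Lpe (K18.f228148 IH) (Lpr_gf (K18.f228277 IH) (Lpe (K18.f200475 IH) (Lpr_gf (K18.f298918 IH) (Lpe (K18.f200445 IH) (Lpr_gt (f238782 IH) (Lpn (LP (LK LD1_c26 LD2_c18 LD3_c14))))))))))))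
theorem f308761 : Led Lsl_et (LP (LK LD1_c8 LD2_c42 LD3_c25)) = (LP (LK LD1_c16 LD2_c18 LD3_c48)) :=
  Lre_e IH (LK LD1_c8 LD2_c42 LD3_c25) (LK LD1_c16 LD2_c18 LD3_c48) Lrfl Lrfl
theorem f308762 : Led Lsl_ct (LP (LK LD1_c16 LD2_c18 LD3_c48)) = (LP (LK LD1_c9 LD2_c38 LD3_c41)) :=
  Lgr Lrot15 (Lpe (f308761 IH) (Lpr_cf (K19.f308756 IH) (Lpe (K20.f2423 IH) (Lpn (LP (LK LD1_c9 LD2_c38 LD3_c41))))))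
theorem f354055 : Led Lsl_gf (LP (LK LD1_c16 LD2_c18 LD3_c48)) = (LP (LK LD1_c24 LD2_c45 LD3_c2)) :=
  Lgr Lrot147 (Lpr_ct (f308762 IH) (Lpe (f354035 IH) (Lpr_ct (f224935 IH) (Lpe (K19.f224936 IH) (Lpr_cf (f354047 IH) (Lpe (f238782 IH) (Lpe (K18.f200444 IH) (Lpe (K18.f200459 IH) (Lpr_df (K19.f298980 IH) (Lpn (LP (LK LD1_c24 LD2_c45 LD3_c2))))))))))))
theorem f255562 : Led Lsl_ct (LP (LK LD1_c14 LD2_c57 LD3_c31)) = (LP (LK LD1_c24 LD2_c45 LD3_c2)) :=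
  Lre_c IH (LK LD1_c14 LD2_c57 LD3_c31) (LK LD1_c24 LD2_c45 LD3_c2) Lrfl Lrfl
theorem f290875 : Led Lsl_et (LP (LK LD1_c6 LD2_c6 LD3_c57)) = (LP (LK LD1_c11 LD2_c56 LD3_c49)) :=
  Lre_e IH (LK LD1_c6 LD2_c6 LD3_c57) (LK LD1_c11 LD2_c56 LD3_c49) Lrfl Lrfl
theorem f339023 : Led Lsl_gt (LP (LK LD1_c11 LD2_c56 LD3_c49)) = (LP (LK LD1_c19 LD2_c57 LD3_c14)) :=
  Lgr Lrot131 (Lpe (f290875 IH) (Lpe (K22.f290887 IH) (Lpe (K19.f187620 IH) (Lpe (K15.f187623 IH) (Lpe (K10.f188034 IH) (Lpe (K20.f52403 IH) (Lpr_dt (K20.f28025 IH) (Lpe (K22.f52396 IH) (Lpr_df (K22.f338623 IH) (Lpe (K23.f189287 IH) (Lpn (LP (LK LD1_c19 LD2_c57 LD3_c14)))))))))))))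
theorem f291241 : Led Lsl_dt (LP (LK LD1_c15 LD2_c20 LD3_c38)) = (LP (LK LD1_c11 LD2_c56 LD3_c49)) :=
  Lgr Lrot42 (Lpr_df (K22.f291235 IH) (Lpn (LP (LK LD1_c11 LD2_c56 LD3_c49))))
theorem f246105 : Led Lsl_ct (LP (LK LD1_c8 LD2_c8 LD3_c27)) = (LP (LK LD1_c4 LD2_c3 LD3_c58)) :=
  Lre_c IH (LK LD1_c8 LD2_c8 LD3_c27) (LK LD1_c4 LD2_c3 LD3_c58) Lrfl Lrfl
theorem f291254 : Led Lsl_ct (LP (LK LD1_c8 LD2_c6 LD3_c32)) = (LP (LK LD1_c11 LD2_c56 LD3_c49)) :=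
  Lgr Lrot7 (Lpe (K19.f283782 IH) (Lpr_gf (K19.f246101 IH) (Lpe (K19.f28116 IH) (Lpe (K18.f211403 IH) (Lpe (f246105 IH) (Lpr_gt (K18.f265685 IH) (Lpr_dt (K22.f53075 IH) (Lpr_gt (K22.f265676 IH) (Lpr_dt (f291241 IH) (Lpn (LP (LK LD1_c11 LD2_c56 LD3_c49))))))))))))
theorem f283777 : Led Lsl_gt (LP (LK LD1_c15 LD2_c16 LD3_c7)) = (LP (LK LD1_c8 LD2_c6 LD3_c32)) :=
  Lre_g IH (LK LD1_c15 LD2_c16 LD3_c7) (LK LD1_c8 LD2_c6 LD3_c32) Lrfl Lrfl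
theorem f256844 : Led Lsl_et (LP (LK LD1_c6 LD2_c4 LD3_c38)) = (LP (LK LD1_c11 LD2_c52 LD3_c49)) :=
  Lre_e IH (LK LD1_c6 LD2_c4 LD3_c38) (LK LD1_c11 LD2_c52 LD3_c49) Lrfl Lrfl
theorem f256845 : Led Lsl_ct (LP (LK LD1_c11 LD2_c52 LD3_c49)) = (LP (LK LD1_c10 LD2_c7 LD3_c57)) :=
  Lgr Lrot15 (Lpe (f256844 IH) (Lpr_cf (K15.f256827 IH) (Lpe (K14.f191118 IH) (Lpn (LP (LK LD1_c10 LD2_c7 LD3_c57))))))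
theorem f256903 : Led Lsl_ft (LP (LK LD1_c20 LD2_c55 LD3_c60)) = (LP (LK LD1_c11 LD2_c52 LD3_c49)) :=
  Lre_f IH (LK LD1_c20 LD2_c55 LD3_c60) (LK LD1_c11 LD2_c52 LD3_c49) Lrfl Lrfl
theorem f256904 : Led Lsl_cf (LP (LK LD1_c20 LD2_c55 LD3_c60)) = (LP (LK LD1_c18 LD2_c27 LD3_c21)) :=
  Lgr Lrot108 (Lpr_ft (f256903 IH) (Lpr_ct (f256845 IH) (Lpr_ft (K14.f247047 IH) (Lpn (LP (LK LD1_c18 LD2_c27 LD3_c21))))))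
theorem f273913 : Led Lsl_et (LP (LK LD1_c11 LD2_c52 LD3_c12)) = (LP (LK LD1_c20 LD2_c54 LD3_c60)) :=
  Lre_e IH (LK LD1_c11 LD2_c52 LD3_c12) (LK LD1_c20 LD2_c54 LD3_c60) Lrfl Lrfl
theorem f273929 : Led Lsl_cf (LP (LK LD1_c15 LD2_c27 LD3_c46)) = (LP (LK LD1_c20 LD2_c54 LD3_c60)) :=
  Lgr Lrot39 (Lpr_et (K16.f192292 IH) (Lpr_ct (K17.f273920 IH) (Lpr_et (f273913 IH) (Lpn (LP (LK LD1_c20 LD2_c54 LD3_c60))))))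
theorem f326725 : Led Lsl_gt (LP (LK LD1_c18 LD2_c22 LD3_c10)) = (LP (LK LD1_c20 LD2_c54 LD3_c60)) :=
  Lgr Lrot150 (Lpe (K21.f255889 IH) (Lpe (K21.f302793 IH) (Lpe (K21.f249265 IH) (Lpr_gt (K21.f325418 IH) (Lpr_ct (K21.f242929 IH) (Lpr_gt (K21.f326715 IH) (Lpr_ct (K22.f192289 IH) (Lpe (K14.f192276 IH) (Lpr_cf (f273929 IH) (Lpn (LP (LK LD1_c20 LD2_c54 LD3_c60))))))))))))
theorem f256901 : Led Lsl_cf (LP (LK LD1_c11 LD2_c52 LD3_c49)) = (LP (LK LD1_c10 LD2_c7 LD3_c57)) :=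
  Lgr Lrot11 (Lpr_ct (f256845 IH) (Lpn (LP (LK LD1_c10 LD2_c7 LD3_c57))))
theorem f273937 : Led Lsl_at (LP (LK LD1_c11 LD2_c52 LD3_c49)) = (LP (LK LD1_c20 LD2_c54 LD3_c60)) :=
  Lgr Lrot107 (Lpr_cf (f256901 IH) (Lpr_af (K14.f252152 IH) (Lpr_cf (f273929 IH) (Lpn (LP (LK LD1_c20 LD2_c54 LD3_c60))))))
theorem f326727 : Led Lsl_gf (LP (LK LD1_c18 LD2_c22 LD3_c10)) = (LP (LK LD1_c20 LD2_c55 LD3_c60)) :=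
  Lgr Lrot47 (Lpr_gt (f326725 IH) (Lpe (f273937 IH) (Lpe (f256903 IH) (Lpn (LP (LK LD1_c20 LD2_c55 LD3_c60))))))
theorem f339025 : Led Lsl_bf (LP (LK LD1_c15 LD2_c16 LD3_c7)) = (LP (LK LD1_c10 LD2_c3 LD3_c30)) :=
  Lgr Lrot165 (Lpr_gt (f283777 IH) (Lpr_ct (f291254 IH) (Lpr_gt (f339023 IH) (Lpe (K23.f189281 IH) (Lpe (K24.f322763 IH) (Lpe (K14.f239838 IH) (Lpe (K22.f239847 IH) (Lpe (f256904 IH) (Lpe (f326727 IH) (Lpe (K21.f255889 IH) (Lpn (LP (LK LD1_c10 LD2_c3 LD3_c30)))))))))))))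
theorem f273939 : Led Lsl_ct (LP (LK LD1_c15 LD2_c27 LD3_c46)) = (LP (LK LD1_c20 LD2_c54 LD3_c60)) :=
  Lgr Lrot59 (Lpr_cf (f273929 IH) (Lpn (LP (LK LD1_c20 LD2_c54 LD3_c60))))
theorem f326620 : Led Lsl_ct (LP (LK LD1_c5 LD2_c30 LD3_c11)) = (LP (LK LD1_c10 LD2_c51 LD3_c49)) :=
  Lre_c IH (LK LD1_c5 LD2_c30 LD3_c11) (LK LD1_c10 LD2_c51 LD3_c49) Lrfl Lrfl
theorem f339070 : Led Lsl_gf (LP (LK LD1_c15 LD2_c16 LD3_c7)) = (LP (LK LD1_c8 LD2_c8 LD3_c2)) :=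
  Lgr Lrot124 (Lpr_bf (f339025 IH) (Lpr_ct (K21.f255889 IH) (Lpr_gt (f326725 IH) (Lpe (f273939 IH) (Lpr_bt (K14.f192300 IH) (Lpr_gt (K15.f49180 IH) (Lpe (K21.f326706 IH) (Lpe (K21.f326639 IH) (Lpe (f326620 IH) (Lpr_bt (K21.f326609 IH) (Lpn (LP (LK LD1_c8 LD2_c8 LD3_c2)))))))))))))
theorem f247901 : Led Lsl_ct (LP (LK LD1_c5 LD2_c1 LD3_c26)) = (LP (LK LD1_c2 LD2_c28 LD3_c26)) :=
  Lre_c IH (LK LD1_c5 LD2_c1 LD3_c26) (LK LD1_c2 LD2_c28 LD3_c26) Lrfl Lrfl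
theorem f247904 : Led Lsl_ct (LP (LK LD1_c9 LD2_c53 LD3_c15)) = (LP (LK LD1_c5 LD2_c1 LD3_c28)) :=
  Lre_c IH (LK LD1_c9 LD2_c53 LD3_c15) (LK LD1_c5 LD2_c1 LD3_c28) Lrfl Lrfl
theorem f247905 : Led Lsl_gt (LP (LK LD1_c18 LD2_c5 LD3_c40)) = (LP (LK LD1_c9 LD2_c53 LD3_c15)) :=
  Lre_g IH (LK LD1_c18 LD2_c5 LD3_c40) (LK LD1_c9 LD2_c53 LD3_c15) Lrfl Lrfl
theorem f339072 : Led Lsl_ct (LP (LK LD1_c15 LD2_c16 LD3_c7)) = (LP (LK LD1_c18 LD2_c5 LD3_c40)) :=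
  Lgr Lrot152 (Lpr_gf (f339070 IH) (Lpe (K23.f247907 IH) (Lpr_gt (K18.f28117 IH) (Lpr_ct (K18.f237011 IH) (Lpe (K18.f247897 IH) (Lpr_ct (f247901 IH) (Lpe (K14.f247906 IH) (Lpe (f247904 IH) (Lpe (f247905 IH) (Lpn (LP (LK LD1_c18 LD2_c5 LD3_c40))))))))))))
theorem f339074 : Led Lsl_cf (LP (LK LD1_c15 LD2_c16 LD3_c7)) = (LP (LK LD1_c18 LD2_c5 LD3_c40)) :=
  Lgr Lrot11 (Lpr_ct (f339072 IH) (Lpn (LP (LK LD1_c18 LD2_c5 LD3_c40))))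
theorem f339068 : Led Lsl_et (LP (LK LD1_c15 LD2_c16 LD3_c7)) = (LP (LK LD1_c8 LD2_c7 LD3_c24)) :=
  Lgr Lrot74 (Lpr_bf (f339025 IH) (Lpe (K21.f325620 IH) (Lpe (K21.f325839 IH) (Lpn (LP (LK LD1_c8 LD2_c7 LD3_c24))))))
theorem f339082 : Led Lsl_et (LP (LK LD1_c11 LD2_c8 LD3_c53)) = (LP (LK LD1_c18 LD2_c5 LD3_c40)) :=
  Lgr Lrot158 (Lpe (K18.f299188 IH) (Lpe (f339068 IH) (Lpr_cf (f339074 IH) (Lpn (LP (LK LD1_c18 LD2_c5 LD3_c40))))))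
theorem f299197 : Led Lsl_dt (LP (LK LD1_c11 LD2_c8 LD3_c53)) = (LP (LK LD1_c20 LD2_c2 LD3_c38)) :=
  Lre_d IH (LK LD1_c11 LD2_c8 LD3_c53) (LK LD1_c20 LD2_c2 LD3_c38) Lrfl Lrfl
theorem f253061 : Led Lsl_et (LP (LK LD1_c5 LD2_c1 LD3_c30)) = (LP (LK LD1_c9 LD2_c53 LD3_c15)) :=
  Lre_e IH (LK LD1_c5 LD2_c1 LD3_c30) (LK LD1_c9 LD2_c53 LD3_c15) Lrfl Lrfl
theorem f339088 : Led Lsl_gf (LP (LK LD1_c20 LD2_c2 LD3_c38)) = (LP (LK LD1_c25 LD2_c18 LD3_c0)) :=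
  Lgr Lrot134 (Lpe (f299197 IH) (Lpr_et (f339082 IH) (Lpr_gt (f247905 IH) (Lpe (f253061 IH) (Lpr_dt (K16.f253035 IH) (Lpr_gt (K16.f274639 IH) (Lpe (K16.f27668 IH) (Lpr_et (K17.f216128 IH) (Lpe (K19.f308931 IH) (Lpr_dt (K19.f256154 IH) (Lpn (LP (LK LD1_c25 LD2_c18 LD3_c0)))))))))))))
theorem f286784 : Led Lsl_dt (LP (LK LD1_c20 LD2_c2 LD3_c38)) = (LP (LK LD1_c11 LD2_c8 LD3_c53)) :=
  Lre_d IH (LK LD1_c20 LD2_c2 LD3_c38) (LK LD1_c11 LD2_c8 LD3_c53) Lrfl Lrfl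
theorem f339650 : Led Lsl_gf (LP (LK LD1_c14 LD2_c57 LD3_c31)) = (LP (LK LD1_c21 LD2_c0 LD3_c25)) :=
  Lgr Lrot143 (Lpe (K18.f255556 IH) (Lpr_cf (K19.f299190 IH) (Lpe (f286784 IH) (Lpr_gf (f339088 IH) (Lpe (K19.f256154 IH) (Lpr_gf (K19.f308931 IH) (Lpe (K20.f216213 IH) (Lpr_gt (K22.f339647 IH) (Lpr_dt (K22.f339649 IH) (Lpn (LP (LK LD1_c21 LD2_c0 LD3_c25))))))))))))
theorem f354057 : Led Lsl_gf (LP (LK LD1_c15 LD2_c26 LD3_c4)) = (LP (LK LD1_c15 LD2_c16 LD3_c42)) :=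
  Lgr Lrot104 (Lpr_ct (K19.f237930 IH) (Lpr_df (K20.f299312 IH) (Lpe (f308762 IH) (Lpr_gf (f354055 IH) (Lpe (f255562 IH) (Lpr_gf (f339650 IH) (Lpe (K22.f339649 IH) (Lpr_gt (K22.f337111 IH) (Lpr_ct (K20.f299152 IH) (Lpn (LP (LK LD1_c15 LD2_c16 LD3_c42))))))))))))
theorem f256150 : Led Lsl_ct (LP (LK LD1_c25 LD2_c7 LD3_c4)) = (LP (LK LD1_c15 LD2_c17 LD3_c1)) :=
  Lre_c IH (LK LD1_c25 LD2_c7 LD3_c4) (LK LD1_c15 LD2_c17 LD3_c1) Lrfl Lrfl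
theorem f354062 : Led Lsl_gf (LP (LK LD1_c25 LD2_c7 LD3_c4)) = (LP (LK LD1_c27 LD2_c39 LD3_c50)) :=
  Lgr Lrot104 (Lpr_ct (f256150 IH) (Lpe (K18.f50960 IH) (Lpe (K18.f256147 IH) (Lpe (K19.f237929 IH) (Lpe (K19.f237930 IH) (Lpr_gf (f354057 IH) (Lpe (K20.f227071 IH) (Lpr_gt (K23.f315465 IH) (Lpr_ct (K18.f297918 IH) (Lpn (LP (LK LD1_c27 LD2_c39 LD3_c50))))))))))))
theorem f296557 : Led Lsl_ct (LP (LK LD1_c26 LD2_c13 LD3_c37)) = (LP (LK LD1_c16 LD2_c15 LD3_c54)) :=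
  Lre_c IH (LK LD1_c26 LD2_c13 LD3_c37) (LK LD1_c16 LD2_c15 LD3_c54) Lrfl Lrfl
theorem f354073 : Led Lsl_dt (LP (LK LD1_c25 LD2_c7 LD3_c4)) = (LP (LK LD1_c26 LD2_c13 LD3_c37)) :=
  Lgr Lrot105 (Lpr_gf (f354062 IH) (Lpe (K18.f296556 IH) (Lpe (K18.f296551 IH) (Lpe (K18.f262231 IH) (Lpr_gt (K18.f28859 IH) (Lpr_dt (K15.f28858 IH) (Lpr_gt (K23.f237235 IH) (Lpr_dt (K23.f237236 IH) (Lpe (f296557 IH) (Lpn (LP (LK LD1_c26 LD2_c13 LD3_c37))))))))))))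
theorem f325258 : Led Lsl_ft (LP (LK LD1_c20 LD2_c3 LD3_c3)) = (LP (LK LD1_c15 LD2_c17 LD3_c1)) :=
  Lgr Lrot54 (Lpr_df (K21.f325250 IH) (Lpe (K21.f256163 IH) (Lpe (K18.f256149 IH) (Lpn (LP (LK LD1_c15 LD2_c17 LD3_c1))))))
theorem f256168 : Led Lsl_ct (LP (LK LD1_c15 LD2_c17 LD3_c1)) = (LP (LK LD1_c25 LD2_c7 LD3_c4)) :=
  Lre_c IH (LK LD1_c15 LD2_c17 LD3_c1) (LK LD1_c25 LD2_c7 LD3_c4) Lrfl Lrfl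
theorem f325266 : Led Lsl_ft (LP (LK LD1_c25 LD2_c7 LD3_c4)) = (LP (LK LD1_c29 LD2_c16 LD3_c9)) :=
  Lgr Lrot4 (Lpe (f256168 IH) (Lpe (f325258 IH) (Lpr_cf (K21.f325260 IH) (Lpn (LP (LK LD1_c29 LD2_c16 LD3_c9))))))
theorem f349673 : Led Lsl_dt (LP (LK LD1_c16 LD2_c15 LD3_c54)) = (LP (LK LD1_c8 LD2_c41 LD3_c1)) :=
  Lre_d IH (LK LD1_c16 LD2_c15 LD3_c54) (LK LD1_c8 LD2_c41 LD3_c1) Lrfl Lrfl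
theorem f349662 : Led Lsl_ct (LP (LK LD1_c8 LD2_c41 LD3_c1)) = (LP (LK LD1_c4 LD2_c56 LD3_c49)) :=
  Lgr Lrot59 (Lpr_cf (K23.f348964 IH) (Lpn (LP (LK LD1_c4 LD2_c56 LD3_c49))))
theorem f354077 : Led Lsl_at (LP (LK LD1_c29 LD2_c16 LD3_c9)) = (LP (LK LD1_c31 LD2_c47 LD3_c15)) :=
  Lgr Lrot33 (Lpe (f325266 IH) (Lpr_dt (f354073 IH) (Lpr_ct (f296557 IH) (Lpr_dt (f349673 IH) (Lpr_ct (f349662 IH) (Lpe (K20.f315437 IH) (Lpr_ct (K20.f190019 IH) (Lpe (K20.f315451 IH) (Lpr_ct (K18.f298004 IH) (Lpn (LP (LK LD1_c31 LD2_c47 LD3_c15))))))))))))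
theorem f325248 : Led Lsl_dt (LP (LK LD1_c20 LD2_c3 LD3_c3)) = (LP (LK LD1_c15 LD2_c17 LD3_c2)) :=
  Lgr Lrot6 (Lpe (K21.f262191 IH) (Lpe (K18.f296340 IH) (Lpr_gt (K18.f299027 IH) (Lpr_ct (K18.f216216 IH) (Lpe (K18.f27670 IH) (Lpe (K20.f216213 IH) (Lpe (K13.f194265 IH) (Lpr_cf (K21.f228282 IH) (Lpr_gf (K21.f325246 IH) (Lpn (LP (LK LD1_c15 LD2_c17 LD3_c2))))))))))))
theorem f256160 : Led Lsl_cf (LP (LK LD1_c8 LD2_c11 LD3_c55)) = (LP (LK LD1_c15 LD2_c17 LD3_c2)) :=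
  Lgr Lrot11 (Lpr_ct (K21.f256152 IH) (Lpn (LP (LK LD1_c15 LD2_c17 LD3_c2))))
theorem f200477 : Led Lsl_dt (LP (LK LD1_c8 LD2_c43 LD3_c21)) = (LP (LK LD1_c16 LD2_c20 LD3_c14)) :=
  Lre_d IH (LK LD1_c8 LD2_c43 LD3_c21) (LK LD1_c16 LD2_c20 LD3_c14) Lrfl Lrfl
theorem f200478 : Led Lsl_ct (LP (LK LD1_c16 LD2_c20 LD3_c14)) = (LP (LK LD1_c26 LD2_c18 LD3_c20)) :=
  Lre_c IH (LK LD1_c16 LD2_c20 LD3_c14) (LK LD1_c26 LD2_c18 LD3_c20) Lrfl Lrfl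
theorem f325268 : Led Lsl_dt (LP (LK LD1_c26 LD2_c18 LD3_c20)) = (LP (LK LD1_c29 LD2_c16 LD3_c9)) :=
  Lgr Lrot140 (Lpe (f200478 IH) (Lpe (f200477 IH) (Lpe (K18.f200476 IH) (Lpe (K13.f200465 IH) (Lpr_ft (K20.f190005 IH) (Lpe (K21.f315478 IH) (Lpr_cf (f256160 IH) (Lpe (f325248 IH) (Lpr_cf (K21.f325260 IH) (Lpn (LP (LK LD1_c29 LD2_c16 LD3_c9))))))))))))
theorem f354082 : Led Lsl_af (LP (LK LD1_c26 LD2_c18 LD3_c20)) = (LP (LK LD1_c26 LD2_c4 LD3_c38)) :=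
  Lgr Lrot117 (Lpr_dt (f325268 IH) (Lpr_at (f354077 IH) (Lpe (K20.f309036 IH) (Lpn (LP (LK LD1_c26 LD2_c4 LD3_c38))))))
theorem f200486 : Led Lsl_ct (LP (LK LD1_c26 LD2_c18 LD3_c20)) = (LP (LK LD1_c16 LD2_c20 LD3_c14)) :=
  Lre_c IH (LK LD1_c26 LD2_c18 LD3_c20) (LK LD1_c16 LD2_c20 LD3_c14) Lrfl Lrfl
theorem f354086 : Led Lsl_at (LP (LK LD1_c16 LD2_c20 LD3_c14)) = (LP (LK LD1_c16 LD2_c8 LD3_c4)) :=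
  Lgr Lrot107 (Lpe (f200486 IH) (Lpr_af (f354082 IH) (Lpe (K20.f237921 IH) (Lpn (LP (LK LD1_c16 LD2_c8 LD3_c4))))))
theorem f354092 : Led Lsl_ff (LP (LK LD1_c16 LD2_c20 LD3_c14)) = (LP (LK LD1_c16 LD2_c15 LD3_c54)) :=
  Lgr Lrot52 (Lpr_at (f354086 IH) (Lpe (K20.f237928 IH) (Lpe (K23.f349679 IH) (Lpn (LP (LK LD1_c16 LD2_c15 LD3_c54))))))
theorem f354098 : Led Lsl_ft (LP (LK LD1_c16 LD2_c20 LD3_c14)) = (LP (LK LD1_c16 LD2_c15 LD3_c54)) :=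
  Lgr Lrot48 (Lpr_ff (f354092 IH) (Lpn (LP (LK LD1_c16 LD2_c15 LD3_c54))))
theorem f296555 : Led Lsl_ct (LP (LK LD1_c16 LD2_c15 LD3_c54)) = (LP (LK LD1_c26 LD2_c13 LD3_c37)) :=
  Lre_c IH (LK LD1_c16 LD2_c15 LD3_c54) (LK LD1_c26 LD2_c13 LD3_c37) Lrfl Lrfl
theorem f354100 : Led Lsl_ff (LP (LK LD1_c26 LD2_c18 LD3_c20)) = (LP (LK LD1_c26 LD2_c13 LD3_c37)) :=
  Lgr Lrot23 (Lpr_ct (f200486 IH) (Lpr_ft (f354098 IH) (Lpr_ct (f296555 IH) (Lpn (LP (LK LD1_c26 LD2_c13 LD3_c37))))))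
theorem f354102 : Led Lsl_ft (LP (LK LD1_c29 LD2_c16 LD3_c9)) = (LP (LK LD1_c25 LD2_c7 LD3_c4)) :=
  Lgr Lrot54 (Lpe (f325268 IH) (Lpr_ff (f354100 IH) (Lpe (f354073 IH) (Lpn (LP (LK LD1_c25 LD2_c7 LD3_c4))))))
theorem f297955 : Led Lsl_gf (LP (LK LD1_c26 LD2_c18 LD3_c16)) = (LP (LK LD1_c29 LD2_c16 LD3_c9)) :=
  Lgr Lrot76 (Lpr_af (K18.f297946 IH) (Lpe (K18.f297925 IH) (Lpr_gt (K21.f227061 IH) (Lpn (LP (LK LD1_c29 LD2_c16 LD3_c9))))))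
theorem f354106 : Led Lsl_af (LP (LK LD1_c25 LD2_c48 LD3_c53)) = (LP (LK LD1_c25 LD2_c7 LD3_c4)) :=
  Lgr Lrot31 (Lpr_gf (K18.f298918 IH) (Lpr_gf (f297955 IH) (Lpr_ft (f354102 IH) (Lpn (LP (LK LD1_c25 LD2_c7 LD3_c4))))))
theorem f315453 : Led Lsl_dt (LP (LK LD1_c25 LD2_c8 LD3_c29)) = (LP (LK LD1_c15 LD2_c52 LD3_c51)) :=
  Lgr Lrot42 (Lpr_df (K20.f315451 IH) (Lpn (LP (LK LD1_c15 LD2_c52 LD3_c51))))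
theorem f325253 : Led Lsl_at (LP (LK LD1_c20 LD2_c3 LD3_c3)) = (LP (LK LD1_c25 LD2_c8 LD3_c29)) :=
  Lgr Lrot51 (Lpr_df (K21.f325250 IH) (Lpr_af (K22.f315476 IH) (Lpe (f315453 IH) (Lpn (LP (LK LD1_c25 LD2_c8 LD3_c29))))))
theorem f325262 : Led Lsl_at (LP (LK LD1_c31 LD2_c47 LD3_c15)) = (LP (LK LD1_c29 LD2_c16 LD3_c9)) :=
  Lgr Lrot107 (Lpe (K18.f298004 IH) (Lpe (f325253 IH) (Lpr_cf (K21.f325260 IH) (Lpn (LP (LK LD1_c29 LD2_c16 LD3_c9))))))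
theorem f354113 : Led Lsl_ft (LP (LK LD1_c25 LD2_c48 LD3_c53)) = (LP (LK LD1_c31 LD2_c47 LD3_c15)) :=
  Lgr Lrot101 (Lpr_af (f354106 IH) (Lpe (f354102 IH) (Lpe (f325262 IH) (Lpn (LP (LK LD1_c31 LD2_c47 LD3_c15))))))
theorem f325264 : Led Lsl_ct (LP (LK LD1_c20 LD2_c3 LD3_c3)) = (LP (LK LD1_c29 LD2_c16 LD3_c9)) :=
  Lgr Lrot59 (Lpr_cf (K21.f325260 IH) (Lpn (LP (LK LD1_c29 LD2_c16 LD3_c9))))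
theorem f325300 : Led Lsl_dt (LP (LK LD1_c8 LD2_c11 LD3_c55)) = (LP (LK LD1_c4 LD2_c13 LD3_c20)) :=
  Lgr Lrot57 (Lpr_gf (K21.f315480 IH) (Lpr_cf (K21.f299165 IH) (Lpe (K21.f299159 IH) (Lpr_dt (K20.f299155 IH) (Lpe (K18.f299043 IH) (Lpr_dt (K18.f297909 IH) (Lpe (K18.f247258 IH) (Lpr_df (K14.f247253 IH) (Lpr_gf (K21.f325293 IH) (Lpn (LP (LK LD1_c4 LD2_c13 LD3_c20))))))))))))
theorem f325302 : Led Lsl_gf (LP (LK LD1_c8 LD2_c27 LD3_c27)) = (LP (LK LD1_c8 LD2_c11 LD3_c55)) :=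
  Lgr Lrot147 (Lpr_ct (K23.f227041 IH) (Lpr_gt (K18.f216486 IH) (Lpr_ct (K18.f227044 IH) (Lpe (K18.f299252 IH) (Lpe (K18.f28907 IH) (Lpr_gf (K18.f298399 IH) (Lpe (K18.f168405 IH) (Lpr_gf (K21.f325293 IH) (Lpe (f325300 IH) (Lpn (LP (LK LD1_c8 LD2_c11 LD3_c55))))))))))))
theorem f325304 : Led Lsl_df (LP (LK LD1_c8 LD2_c11 LD3_c55)) = (LP (LK LD1_c4 LD2_c13 LD3_c20)) :=
  Lgr Lrot155 (Lpe (f325302 IH) (Lpr_ct (K23.f227041 IH) (Lpr_gt (K18.f216486 IH) (Lpr_ct (K18.f227044 IH) (Lpr_dt (K18.f227190 IH) (Lpe (K18.f28907 IH) (Lpr_gf (K18.f298399 IH) (Lpe (K18.f168405 IH) (Lpr_gf (K21.f325293 IH) (Lpn (LP (LK LD1_c4 LD2_c13 LD3_c20))))))))))))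
theorem f325295 : Led Lsl_ct (LP (LK LD1_c8 LD2_c25 LD3_c45)) = (LP (LK LD1_c4 LD2_c13 LD3_c20)) :=
  Lre_c IH (LK LD1_c8 LD2_c25 LD3_c45) (LK LD1_c4 LD2_c13 LD3_c20) Lrfl Lrfl
theorem f347132 : Led Lsl_dt (LP (LK LD1_c15 LD2_c49 LD3_c58)) = (LP (LK LD1_c8 LD2_c25 LD3_c45)) :=
  Lre_d IH (LK LD1_c15 LD2_c49 LD3_c58) (LK LD1_c8 LD2_c25 LD3_c45) Lrfl Lrfl
theorem f354117 : Led Lsl_ct (LP (LK LD1_c25 LD2_c46 LD3_c0)) = (LP (LK LD1_c15 LD2_c49 LD3_c58)) :=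
  Lre_c IH (LK LD1_c25 LD2_c46 LD3_c0) (LK LD1_c15 LD2_c49 LD3_c58) Lrfl Lrfl
theorem f354118 : Led Lsl_dt (LP (LK LD1_c25 LD2_c48 LD3_c53)) = (LP (LK LD1_c25 LD2_c46 LD3_c0)) :=
  Lgr Lrot159 (Lpr_ft (f354113 IH) (Lpr_at (f325262 IH) (Lpe (f325264 IH) (Lpr_df (K21.f325250 IH) (Lpe (K21.f256152 IH) (Lpr_df (f325304 IH) (Lpe (f325295 IH) (Lpe (f347132 IH) (Lpe (f354117 IH) (Lpn (LP (LK LD1_c25 LD2_c46 LD3_c0))))))))))))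
theorem f200482 : Led Lsl_dt (LP (LK LD1_c16 LD2_c20 LD3_c14)) = (LP (LK LD1_c8 LD2_c43 LD3_c21)) :=
  Lre_d IH (LK LD1_c16 LD2_c20 LD3_c14) (LK LD1_c8 LD2_c43 LD3_c21) Lrfl Lrfl
theorem f354126 : Led Lsl_at (LP (LK LD1_c16 LD2_c15 LD3_c54)) = (LP (LK LD1_c15 LD2_c49 LD3_c58)) :=
  Lgr Lrot33 (Lpe (f354098 IH) (Lpr_dt (f200482 IH) (Lpr_ct (K20.f200481 IH) (Lpe (K19.f200479 IH) (Lpr_ct (K18.f190002 IH) (Lpr_dt (K18.f189989 IH) (Lpr_ct (K18.f200485 IH) (Lpr_dt (f354118 IH) (Lpr_ct (f354117 IH) (Lpn (LP (LK LD1_c15 LD2_c49 LD3_c58))))))))))))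
theorem f354088 : Led Lsl_af (LP (LK LD1_c16 LD2_c20 LD3_c14)) = (LP (LK LD1_c16 LD2_c8 LD3_c4)) :=
  Lgr Lrot0 (Lpr_at (f354086 IH) (Lpn (LP (LK LD1_c16 LD2_c8 LD3_c4))))
theorem f354159 : Led Lsl_ff (LP (LK LD1_c16 LD2_c8 LD3_c4)) = (LP (LK LD1_c15 LD2_c49 LD3_c58)) :=
  Lgr Lrot30 (Lpe (f354088 IH) (Lpr_ft (f354098 IH) (Lpr_at (f354126 IH) (Lpn (LP (LK LD1_c15 LD2_c49 LD3_c58))))))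
theorem f354173 : Led Lsl_ft (LP (LK LD1_c16 LD2_c8 LD3_c4)) = (LP (LK LD1_c15 LD2_c49 LD3_c58)) :=
  Lgr Lrot48 (Lpr_ff (f354159 IH) (Lpn (LP (LK LD1_c15 LD2_c49 LD3_c58))))
theorem f354187 : Led Lsl_ff (LP (LK LD1_c8 LD2_c36 LD3_c35)) = (LP (LK LD1_c8 LD2_c25 LD3_c45)) :=
  Lgr Lrot19 (Lpr_dt (K21.f237920 IH) (Lpr_ft (f354173 IH) (Lpr_dt (f347132 IH) (Lpn (LP (LK LD1_c8 LD2_c25 LD3_c45))))))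
theorem f354192 : Led Lsl_ft (LP (LK LD1_c4 LD2_c18 LD3_c61)) = (LP (LK LD1_c4 LD2_c13 LD3_c20)) :=
  Lgr Lrot4 (Lpe (K18.f237911 IH) (Lpr_ff (f354187 IH) (Lpe (K21.f309991 IH) (Lpn (LP (LK LD1_c4 LD2_c13 LD3_c20))))))
theorem f315076 : Led Lsl_at (LP (LK LD1_c2 LD2_c6 LD3_c46)) = (LP (LK LD1_c4 LD2_c18 LD3_c59)) :=
  Lre_a IH (LK LD1_c2 LD2_c6 LD3_c46) (LK LD1_c4 LD2_c18 LD3_c59) Lrfl Lrfl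
theorem f315338 : Led Lsl_ft (LP (LK LD1_c2 LD2_c3 LD3_c30)) = (LP (LK LD1_c2 LD2_c6 LD3_c46)) :=
  Lgr Lrot2 (Lpe (K13.f233322 IH) (Lpr_gt (K20.f315336 IH) (Lpe (f315076 IH) (Lpn (LP (LK LD1_c2 LD2_c6 LD3_c46))))))
theorem f212563 : Led Lsl_ft (LP (LK LD1_c8 LD2_c24 LD3_c51)) = (LP (LK LD1_c4 LD2_c12 LD3_c36)) :=
  Lre_f IH (LK LD1_c8 LD2_c24 LD3_c51) (LK LD1_c4 LD2_c12 LD3_c36) Lrfl Lrfl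
theorem f354196 : Led Lsl_ef (LP (LK LD1_c8 LD2_c24 LD3_c51)) = (LP (LK LD1_c4 LD2_c13 LD3_c20)) :=
  Lgr Lrot21 (Lpr_ft (f212563 IH) (Lpr_et (K14.f199677 IH) (Lpr_ft (f315338 IH) (Lpr_et (K14.f237907 IH) (Lpr_ft (f354192 IH) (Lpn (LP (LK LD1_c4 LD2_c13 LD3_c20))))))))
theorem f354208 : Led Lsl_gf (LP (LK LD1_c8 LD2_c24 LD3_c51)) = (LP (LK LD1_c9 LD2_c34 LD3_c18)) :=
  Lgr Lrot141 (Lpr_ef (f354196 IH) (Lpe (f325304 IH) (Lpe (f325302 IH) (Lpr_df (K21.f315399 IH) (Lpr_et (K21.f30691 IH) (Lpr_gt (K21.f30686 IH) (Lpr_dt (K21.f29197 IH) (Lpr_gt (K19.f30655 IH) (Lpe (K18.f1558 IH) (Lpe (K18.f233943 IH) (Lpn (LP (LK LD1_c9 LD2_c34 LD3_c18)))))))))))))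
theorem f212564 : Led Lsl_ft (LP (LK LD1_c2 LD2_c12 LD3_c41)) = (LP (LK LD1_c4 LD2_c31 LD3_c30)) :=
  Lre_f IH (LK LD1_c2 LD2_c12 LD3_c41) (LK LD1_c4 LD2_c31 LD3_c30) Lrfl Lrfl
theorem f212565 : Led Lsl_df (LP (LK LD1_c8 LD2_c24 LD3_c51)) = (LP (LK LD1_c4 LD2_c31 LD3_c30)) :=
  Lgr Lrot78 (Lpr_ft (f212563 IH) (Lpr_dt (K14.f212551 IH) (Lpr_ft (f212564 IH) (Lpn (LP (LK LD1_c4 LD2_c31 LD3_c30))))))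
theorem f212588 : Led Lsl_dt (LP (LK LD1_c8 LD2_c24 LD3_c51)) = (LP (LK LD1_c4 LD2_c31 LD3_c30)) :=
  Lgr Lrot42 (Lpr_df (f212565 IH) (Lpn (LP (LK LD1_c4 LD2_c31 LD3_c30))))
theorem f270839 : Led Lsl_ct (LP (LK LD1_c2 LD2_c24 LD3_c18)) = (LP (LK LD1_c4 LD2_c22 LD3_c2)) :=
  Lgr Lrot111 (Lpr_af (K15.f247143 IH) (Lpr_cf (K16.f270835 IH) (Lpr_af (K13.f241667 IH) (Lpn (LP (LK LD1_c4 LD2_c22 LD3_c2))))))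
theorem f354212 : Led Lsl_gt (LP (LK LD1_c4 LD2_c31 LD3_c30)) = (LP (LK LD1_c4 LD2_c52 LD3_c57)) :=
  Lgr Lrot49 (Lpe (f212588 IH) (Lpr_gf (f354208 IH) (Lpe (K18.f233951 IH) (Lpe (K18.f279758 IH) (Lpe (K18.f279769 IH) (Lpr_gt (K18.f39013 IH) (Lpr_dt (K13.f241673 IH) (Lpe (f270839 IH) (Lpe (K15.f200559 IH) (Lpn (LP (LK LD1_c4 LD2_c52 LD3_c57))))))))))))
theorem f346531 : Led Lsl_dt (LP (LK LD1_c8 LD2_c27 LD3_c45)) = (LP (LK LD1_c9 LD2_c33 LD3_c25)) :=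
  Lgr Lrot42 (Lpr_df (K23.f346528 IH) (Lpn (LP (LK LD1_c9 LD2_c33 LD3_c25))))
theorem f354242 : Led Lsl_ef (LP (LK LD1_c4 LD2_c31 LD3_c30)) = (LP (LK LD1_c2 LD2_c43 LD3_c53)) :=
  Lgr Lrot167 (Lpr_gt (f354212 IH) (Lpr_dt (K15.f200559 IH) (Lpr_gt (K23.f170358 IH) (Lpe (K23.f239876 IH) (Lpe (K23.f346561 IH) (Lpe (K23.f346557 IH) (Lpe (K23.f346533 IH) (Lpr_dt (f346531 IH) (Lpr_gt (f347118 IH) (Lpe (K20.f313103 IH) (Lpn (LP (LK LD1_c2 LD2_c43 LD3_c53)))))))))))))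
theorem f212596 : Led Lsl_ct (LP (LK LD1_c4 LD2_c31 LD3_c30)) = (LP (LK LD1_c9 LD2_c0 LD3_c56)) :=
  Lre_c IH (LK LD1_c4 LD2_c31 LD3_c30) (LK LD1_c9 LD2_c0 LD3_c56) Lrfl Lrfl
theorem f354247 : Led Lsl_et (LP (LK LD1_c9 LD2_c0 LD3_c56)) = (LP (LK LD1_c5 LD2_c35 LD3_c56)) :=
  Lgr Lrot158 (Lpe (f212596 IH) (Lpr_ef (f354242 IH) (Lpe (K24.f313197 IH) (Lpn (LP (LK LD1_c5 LD2_c35 LD3_c56))))))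
theorem f199415 : Led Lsl_at (LP (LK LD1_c5 LD2_c35 LD3_c56)) = (LP (LK LD1_c11 LD2_c2 LD3_c52)) :=
  Lre_a IH (LK LD1_c5 LD2_c35 LD3_c56) (LK LD1_c11 LD2_c2 LD3_c52) Lrfl Lrfl
theorem f199410 : Led Lsl_ef (LP (LK LD1_c15 LD2_c22 LD3_c55)) = (LP (LK LD1_c11 LD2_c2 LD3_c52)) :=
  Lgr Lrot88 (Lpr_et (K20.f199405 IH) (Lpn (LP (LK LD1_c11 LD2_c2 LD3_c52))))
theorem f354250 : Led Lsl_af (LP (LK LD1_c9 LD2_c0 LD3_c56)) = (LP (LK LD1_c15 LD2_c22 LD3_c55)) :=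
  Lgr Lrot50 (Lpr_et (f354247 IH) (Lpr_at (f199415 IH) (Lpe (f199410 IH) (Lpn (LP (LK LD1_c15 LD2_c22 LD3_c55))))))
theorem f354256 : Led Lsl_gf (LP (LK LD1_c9 LD2_c0 LD3_c56)) = (LP (LK LD1_c15 LD2_c22 LD3_c53)) :=
  Lgr Lrot76 (Lpr_af (f354250 IH) (Lpe (K20.f199402 IH) (Lpr_gt (K18.f199368 IH) (Lpn (LP (LK LD1_c15 LD2_c22 LD3_c53))))))
theorem f212593 : Led Lsl_bt (LP (LK LD1_c4 LD2_c31 LD3_c30)) = (LP (LK LD1_c2 LD2_c12 LD3_c48)) :=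
  Lre_b IH (LK LD1_c4 LD2_c31 LD3_c30) (LK LD1_c2 LD2_c12 LD3_c48) Lrfl Lrfl
theorem f245548 : Led Lsl_ft (LP (LK LD1_c2 LD2_c41 LD3_c36)) = (LP (LK LD1_c1 LD2_c17 LD3_c27)) :=
  Lre_f IH (LK LD1_c2 LD2_c41 LD3_c36) (LK LD1_c1 LD2_c17 LD3_c27) Lrfl Lrfl
theorem f331067 : Led Lsl_gf (LP (LK LD1_c2 LD2_c11 LD3_c45)) = (LP (LK LD1_c2 LD2_c45 LD3_c50)) :=
  Lgr Lrot76 (Lpe (K13.f245746 IH) (Lpe (f245548 IH) (Lpr_gt (K22.f331065 IH) (Lpn (LP (LK LD1_c2 LD2_c45 LD3_c50))))))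
theorem f354260 : Led Lsl_gt (LP (LK LD1_c2 LD2_c12 LD3_c48)) = (LP (LK LD1_c1 LD2_c19 LD3_c16)) :=
  Lgr Lrot82 (Lpe (f212593 IH) (Lpr_ct (f212596 IH) (Lpr_gf (f354256 IH) (Lpr_cf (K18.f301549 IH) (Lpe (K18.f273441 IH) (Lpe (K16.f167738 IH) (Lpe (K17.f167705 IH) (Lpr_ct (K19.f167684 IH) (Lpr_gf (f331067 IH) (Lpe (K22.f179958 IH) (Lpn (LP (LK LD1_c1 LD2_c19 LD3_c16)))))))))))))
theorem f354262 : Led Lsl_gf (LP (LK LD1_c2 LD2_c12 LD3_c48)) = (LP (LK LD1_c1 LD2_c19 LD3_c15)) :=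
  Lgr Lrot47 (Lpr_gt (f354260 IH) (Lpe (K19.f306894 IH) (Lpe (K19.f306577 IH) (Lpn (LP (LK LD1_c1 LD2_c19 LD3_c15))))))
theorem f212605 : Led Lsl_ct (LP (LK LD1_c2 LD2_c12 LD3_c48)) = (LP (LK LD1_c4 LD2_c31 LD3_c36)) :=
  Lre_c IH (LK LD1_c2 LD2_c12 LD3_c48) (LK LD1_c4 LD2_c31 LD3_c36) Lrfl Lrfl
theorem f304930 : Led Lsl_ft (LP (LK LD1_c1 LD2_c8 LD3_c60)) = (LP (LK LD1_c2 LD2_c23 LD3_c54)) :=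
  Lre_f IH (LK LD1_c1 LD2_c8 LD3_c60) (LK LD1_c2 LD2_c23 LD3_c54) Lrfl Lrfl
theorem f306901 : Led Lsl_df (LP (LK LD1_c1 LD2_c19 LD3_c15)) = (LP (LK LD1_c2 LD2_c23 LD3_c54)) :=
  Lgr Lrot78 (Lpr_ft (K19.f306577 IH) (Lpr_dt (K19.f306896 IH) (Lpr_ft (f304930 IH) (Lpn (LP (LK LD1_c2 LD2_c23 LD3_c54))))))
theorem f178402 : Led Lsl_dt (LP (LK LD1_c5 LD2_c39 LD3_c54)) = (LP (LK LD1_c2 LD2_c45 LD3_c53)) :=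
  Lre_d IH (LK LD1_c5 LD2_c39 LD3_c54) (LK LD1_c2 LD2_c45 LD3_c53) Lrfl Lrfl
theorem f178403 : Led Lsl_et (LP (LK LD1_c2 LD2_c45 LD3_c53)) = (LP (LK LD1_c1 LD2_c19 LD3_c19)) :=
  Lre_e IH (LK LD1_c2 LD2_c45 LD3_c53) (LK LD1_c1 LD2_c19 LD3_c19) Lrfl Lrfl
theorem f178397 : Led Lsl_dt (LP (LK LD1_c2 LD2_c45 LD3_c53)) = (LP (LK LD1_c5 LD2_c39 LD3_c54)) :=
  Lre_d IH (LK LD1_c2 LD2_c45 LD3_c53) (LK LD1_c5 LD2_c39 LD3_c54) Lrfl Lrfl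
theorem f2233 : Led Lsl_et (LP (LK LD1_c1 LD2_c9 LD3_c3)) = (LP (LK LD1_c2 LD2_c24 LD3_c5)) :=
  Lre_e IH (LK LD1_c1 LD2_c9 LD3_c3) (LK LD1_c2 LD2_c24 LD3_c5) Lrfl Lrfl
theorem f2682 : Led Lsl_et (LP (LK LD1_c0 LD2_c31 LD3_c33)) = (LP (LK LD1_c0 LD2_c31 LD3_c55)) :=
  Lgr Lrot71 (Lpe (K9.f252 IH) (Lpe (K0.f2173 IH) (Lpr_df (K20.f2678 IH) (Lpe (f2233 IH) (Lpr_df (K0.f2226 IH) (Lpn (LP (LK LD1_c0 LD2_c31 LD3_c55))))))))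
theorem f167302 : Led Lsl_et (LP (LK LD1_c2 LD2_c6 LD3_c14)) = (LP (LK LD1_c1 LD2_c0 LD3_c7)) :=
  Lre_e IH (LK LD1_c2 LD2_c6 LD3_c14) (LK LD1_c1 LD2_c0 LD3_c7) Lrfl Lrfl
theorem f167303 : Led Lsl_dt (LP (LK LD1_c2 LD2_c6 LD3_c14)) = (LP (LK LD1_c4 LD2_c17 LD3_c53)) :=
  Lre_d IH (LK LD1_c2 LD2_c6 LD3_c14) (LK LD1_c4 LD2_c17 LD3_c53) Lrfl Lrfl
theorem f179737 : Led Lsl_gf (LP (LK LD1_c5 LD2_c39 LD3_c54)) = (LP (LK LD1_c4 LD2_c17 LD3_c53)) :=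
  Lgr Lrot145 (Lpe (f178397 IH) (Lpr_et (f178403 IH) (Lpr_gt (K9.f179719 IH) (Lpr_dt (K9.f170862 IH) (Lpr_gt (K9.f170588 IH) (Lpe (K0.f256 IH) (Lpr_et (f2682 IH) (Lpe (K9.f167293 IH) (Lpe (f167302 IH) (Lpr_dt (f167303 IH) (Lpn (LP (LK LD1_c4 LD2_c17 LD3_c53)))))))))))))
theorem f170189 : Led Lsl_gt (LP (LK LD1_c4 LD2_c17 LD3_c52)) = (LP (LK LD1_c2 LD2_c6 LD3_c14)) :=
  Lre_g IH (LK LD1_c4 LD2_c17 LD3_c52) (LK LD1_c2 LD2_c6 LD3_c14) Lrfl Lrfl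
theorem f179968 : Led Lsl_cf (LP (LK LD1_c4 LD2_c17 LD3_c52)) = (LP (LK LD1_c2 LD2_c24 LD3_c31)) :=
  Lgr Lrot166 (Lpr_gt (f170189 IH) (Lpr_dt (f167303 IH) (Lpe (f179737 IH) (Lpr_dt (f178402 IH) (Lpr_ct (K22.f179739 IH) (Lpe (K22.f178086 IH) (Lpe (K13.f171765 IH) (Lpr_df (K13.f179847 IH) (Lpe (K13.f167018 IH) (Lpn (LP (LK LD1_c2 LD2_c24 LD3_c31))))))))))))
theorem f179987 : Led Lsl_ct (LP (LK LD1_c2 LD2_c6 LD3_c14)) = (LP (LK LD1_c1 LD2_c0 LD3_c8)) :=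
  Lre_c IH (LK LD1_c2 LD2_c6 LD3_c14) (LK LD1_c1 LD2_c0 LD3_c8) Lrfl Lrfl
theorem f179990 : Led Lsl_bt (LP (LK LD1_c1 LD2_c0 LD3_c8)) = (LP (LK LD1_c2 LD2_c6 LD3_c12)) :=
  Lre_b IH (LK LD1_c1 LD2_c0 LD3_c8) (LK LD1_c2 LD2_c6 LD3_c12) Lrfl Lrfl
theorem f329560 : Led Lsl_dt (LP (LK LD1_c1 LD2_c17 LD3_c29)) = (LP (LK LD1_c1 LD2_c0 LD3_c8)) :=
  Lgr Lrot79 (Lpe (K21.f245776 IH) (Lpr_df (K21.f329556 IH) (Lpe (f179990 IH) (Lpn (LP (LK LD1_c1 LD2_c0 LD3_c8))))))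
theorem f179988 : Led Lsl_ct (LP (LK LD1_c2 LD2_c41 LD3_c40)) = (LP (LK LD1_c1 LD2_c17 LD3_c29)) :=
  Lre_c IH (LK LD1_c2 LD2_c41 LD3_c40) (LK LD1_c1 LD2_c17 LD3_c29) Lrfl Lrfl
theorem f354586 : Led Lsl_gt (LP (LK LD1_c4 LD2_c31 LD3_c36)) = (LP (LK LD1_c2 LD2_c41 LD3_c40)) :=
  Lgr Lrot150 (Lpe (f212605 IH) (Lpr_gf (f354262 IH) (Lpr_df (f306901 IH) (Lpr_gt (K22.f307047 IH) (Lpe (f179968 IH) (Lpr_gt (f170189 IH) (Lpr_ct (f179987 IH) (Lpe (f329560 IH) (Lpe (f179988 IH) (Lpn (LP (LK LD1_c2 LD2_c41 LD3_c40))))))))))))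
theorem f212583 : Led Lsl_bt (LP (LK LD1_c2 LD2_c12 LD3_c48)) = (LP (LK LD1_c4 LD2_c31 LD3_c30)) :=
  Lre_b IH (LK LD1_c2 LD2_c12 LD3_c48) (LK LD1_c4 LD2_c31 LD3_c30) Lrfl Lrfl
theorem f354238 : Led Lsl_gf (LP (LK LD1_c4 LD2_c31 LD3_c30)) = (LP (LK LD1_c8 LD2_c10 LD3_c3)) :=
  Lgr Lrot47 (Lpr_gt (f354212 IH) (Lpe (K16.f247064 IH) (Lpr_ff (K14.f247062 IH) (Lpn (LP (LK LD1_c8 LD2_c10 LD3_c3))))))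
theorem f182268 : Led Lsl_ct (LP (LK LD1_c4 LD2_c27 LD3_c33)) = (LP (LK LD1_c8 LD2_c52 LD3_c55)) :=
  Lre_c IH (LK LD1_c4 LD2_c27 LD3_c33) (LK LD1_c8 LD2_c52 LD3_c55) Lrfl Lrfl
theorem f261050 : Led Lsl_gt (LP (LK LD1_c8 LD2_c52 LD3_c55)) = (LP (LK LD1_c16 LD2_c36 LD3_c17)) :=
  Lre_g IH (LK LD1_c8 LD2_c52 LD3_c55) (LK LD1_c16 LD2_c36 LD3_c17) Lrfl Lrfl
theorem f354592 : Led Lsl_ct (LP (LK LD1_c15 LD2_c22 LD3_c56)) = (LP (LK LD1_c16 LD2_c36 LD3_c17)) :=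
  Lgr Lrot63 (Lpr_bt (K16.f247038 IH) (Lpe (f354238 IH) (Lpe (f212583 IH) (Lpr_ct (f212605 IH) (Lpr_gt (f354586 IH) (Lpe (K22.f245771 IH) (Lpr_bt (K22.f245976 IH) (Lpr_gt (K21.f329570 IH) (Lpr_ct (f182268 IH) (Lpr_gt (f261050 IH) (Lpn (LP (LK LD1_c16 LD2_c36 LD3_c17)))))))))))))
theorem f256906 : Led Lsl_ct (LP (LK LD1_c20 LD2_c55 LD3_c60)) = (LP (LK LD1_c18 LD2_c27 LD3_c21)) :=
  Lgr Lrot59 (Lpr_cf (f256904 IH) (Lpn (LP (LK LD1_c18 LD2_c27 LD3_c21))))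
theorem f354601 : Led Lsl_ef (LP (LK LD1_c20 LD2_c55 LD3_c60)) = (LP (LK LD1_c16 LD2_c36 LD3_c17)) :=
  Lgr Lrot28 (Lpr_ct (f256906 IH) (Lpr_et (K16.f247039 IH) (Lpr_ct (f354592 IH) (Lpn (LP (LK LD1_c16 LD2_c36 LD3_c17))))))
theorem f354628 : Led Lsl_et (LP (LK LD1_c20 LD2_c55 LD3_c60)) = (LP (LK LD1_c16 LD2_c36 LD3_c17)) :=
  Lgr Lrot87 (Lpr_ef (f354601 IH) (Lpn (LP (LK LD1_c16 LD2_c36 LD3_c17))))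
theorem f321154 : Led Lsl_ct (LP (LK LD1_c8 LD2_c54 LD3_c1)) = (LP (LK LD1_c15 LD2_c51 LD3_c26)) :=
  Lgr Lrot110 (Lpe (K20.f247364 IH) (Lpe (K20.f247361 IH) (Lpe (K17.f247396 IH) (Lpr_df (K17.f284116 IH) (Lpr_gt (K20.f7982 IH) (Lpr_ct (K20.f284130 IH) (Lpr_gt (K20.f321105 IH) (Lpr_ct (K21.f258450 IH) (Lpr_df (K17.f260949 IH) (Lpn (LP (LK LD1_c15 LD2_c51 LD3_c26))))))))))))
theorem f354594 : Led Lsl_af (LP (LK LD1_c8 LD2_c54 LD3_c1)) = (LP (LK LD1_c16 LD2_c36 LD3_c17)) :=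
  Lgr Lrot68 (Lpr_ct (f321154 IH) (Lpe (f260947 IH) (Lpr_ct (f354592 IH) (Lpn (LP (LK LD1_c16 LD2_c36 LD3_c17))))))
theorem f292817 : Led Lsl_et (LP (LK LD1_c8 LD2_c54 LD3_c1)) = (LP (LK LD1_c16 LD2_c39 LD3_c0)) :=
  Lre_e IH (LK LD1_c8 LD2_c54 LD3_c1) (LK LD1_c16 LD2_c39 LD3_c0) Lrfl Lrfl
theorem f354630 : Led Lsl_af (LP (LK LD1_c20 LD2_c55 LD3_c60)) = (LP (LK LD1_c16 LD2_c39 LD3_c0)) :=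
  Lgr Lrot50 (Lpr_et (f354628 IH) (Lpe (f354594 IH) (Lpr_et (f292817 IH) (Lpn (LP (LK LD1_c16 LD2_c39 LD3_c0))))))
theorem f354655 : Led Lsl_ft (LP (LK LD1_c20 LD2_c54 LD3_c60)) = (LP (LK LD1_c16 LD2_c39 LD3_c0)) :=
  Lgr Lrot101 (Lpe (f273937 IH) (Lpe (f256903 IH) (Lpr_af (f354630 IH) (Lpn (LP (LK LD1_c16 LD2_c39 LD3_c0))))))
theorem f354659 : Led Lsl_ff (LP (LK LD1_c20 LD2_c54 LD3_c60)) = (LP (LK LD1_c16 LD2_c39 LD3_c0)) :=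
  Lgr Lrot3 (Lpr_ft (f354655 IH) (Lpn (LP (LK LD1_c16 LD2_c39 LD3_c0))))
theorem f42600 : Led Lsl_et (LP (LK LD1_c20 LD2_c54 LD3_c60)) = (LP (LK LD1_c11 LD2_c52 LD3_c12)) :=
  Lre_e IH (LK LD1_c20 LD2_c54 LD3_c60) (LK LD1_c11 LD2_c52 LD3_c12) Lrfl Lrfl
theorem f264072 : Led Lsl_et (LP (LK LD1_c6 LD2_c4 LD3_c39)) = (LP (LK LD1_c11 LD2_c52 LD3_c51)) :=
  Lre_e IH (LK LD1_c6 LD2_c4 LD3_c39) (LK LD1_c11 LD2_c52 LD3_c51) Lrfl Lrfl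
theorem f354661 : Led Lsl_ft (LP (LK LD1_c11 LD2_c52 LD3_c51)) = (LP (LK LD1_c8 LD2_c54 LD3_c1)) :=
  Lgr Lrot86 (Lpe (f264072 IH) (Lpr_ff (K16.f273916 IH) (Lpe (f42600 IH) (Lpr_ff (f354659 IH) (Lpe (f292817 IH) (Lpn (LP (LK LD1_c8 LD2_c54 LD3_c1))))))))
theorem f179646 : Led Lsl_gt (LP (LK LD1_c8 LD2_c36 LD3_c3)) = (LP (LK LD1_c16 LD2_c7 LD3_c23)) :=
  Lre_g IH (LK LD1_c8 LD2_c36 LD3_c3) (LK LD1_c16 LD2_c7 LD3_c23) Lrfl Lrfl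
theorem f212592 : Led Lsl_bt (LP (LK LD1_c4 LD2_c12 LD3_c41)) = (LP (LK LD1_c8 LD2_c24 LD3_c51)) :=
  Lre_b IH (LK LD1_c4 LD2_c12 LD3_c41) (LK LD1_c8 LD2_c24 LD3_c51) Lrfl Lrfl
theorem f212597 : Led Lsl_ct (LP (LK LD1_c4 LD2_c12 LD3_c41)) = (LP (LK LD1_c8 LD2_c24 LD3_c56)) :=
  Lre_c IH (LK LD1_c4 LD2_c12 LD3_c41) (LK LD1_c8 LD2_c24 LD3_c56) Lrfl Lrfl
theorem f333754 : Led Lsl_at (LP (LK LD1_c4 LD2_c12 LD3_c38)) = (LP (LK LD1_c2 LD2_c45 LD3_c53)) :=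
  Lgr Lrot100 (Lpr_af (K22.f333752 IH) (Lpn (LP (LK LD1_c2 LD2_c45 LD3_c53))))
theorem f335667 : Led Lsl_gt (LP (LK LD1_c8 LD2_c24 LD3_c56)) = (LP (LK LD1_c5 LD2_c30 LD3_c55)) :=
  Lgr Lrot5 (Lpr_ft (K22.f170928 IH) (Lpr_at (f333754 IH) (Lpr_gf (K22.f335665 IH) (Lpn (LP (LK LD1_c5 LD2_c30 LD3_c55))))))
theorem f238639 : Led Lsl_ct (LP (LK LD1_c8 LD2_c33 LD3_c48)) = (LP (LK LD1_c4 LD2_c17 LD3_c21)) :=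
  Lre_c IH (LK LD1_c8 LD2_c33 LD3_c48) (LK LD1_c4 LD2_c17 LD3_c21) Lrfl Lrfl
theorem f266999 : Led Lsl_at (LP (LK LD1_c4 LD2_c17 LD3_c21)) = (LP (LK LD1_c4 LD2_c10 LD3_c12)) :=
  Lgr Lrot107 (Lpe (f238639 IH) (Lpr_af (K15.f266993 IH) (Lpe (K23.f182304 IH) (Lpn (LP (LK LD1_c4 LD2_c10 LD3_c12))))))
theorem f335673 : Led Lsl_gf (LP (LK LD1_c4 LD2_c10 LD3_c12)) = (LP (LK LD1_c5 LD2_c30 LD3_c54)) :=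
  Lgr Lrot76 (Lpe (f266999 IH) (Lpe (K14.f238644 IH) (Lpr_gt (K22.f335670 IH) (Lpn (LP (LK LD1_c5 LD2_c30 LD3_c54))))))
theorem f260810 : Led Lsl_gt (LP (LK LD1_c8 LD2_c20 LD3_c32)) = (LP (LK LD1_c15 LD2_c42 LD3_c5)) :=
  Lre_g IH (LK LD1_c8 LD2_c20 LD3_c32) (LK LD1_c15 LD2_c42 LD3_c5) Lrfl Lrfl
theorem f314759 : Led Lsl_et (LP (LK LD1_c25 LD2_c23 LD3_c23)) = (LP (LK LD1_c15 LD2_c30 LD3_c5)) :=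
  Lre_e IH (LK LD1_c25 LD2_c23 LD3_c23) (LK LD1_c15 LD2_c30 LD3_c5) Lrfl Lrfl
theorem f348556 : Led Lsl_dt (LP (LK LD1_c25 LD2_c23 LD3_c23)) = (LP (LK LD1_c16 LD2_c7 LD3_c23)) :=
  Lgr Lrot37 (Lpr_et (f314759 IH) (Lpr_gt (K23.f348545 IH) (Lpe (K21.f322361 IH) (Lpr_gt (K21.f330896 IH) (Lpe (K20.f322164 IH) (Lpr_et (K20.f254847 IH) (Lpr_gt (K14.f254888 IH) (Lpe (K16.f219304 IH) (Lpe (K16.f219309 IH) (Lpr_gt (f179646 IH) (Lpn (LP (LK LD1_c16 LD2_c7 LD3_c23)))))))))))))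
theorem f314751 : Led Lsl_bt (LP (LK LD1_c15 LD2_c30 LD3_c7)) = (LP (LK LD1_c25 LD2_c23 LD3_c23)) :=
  Lre_b IH (LK LD1_c15 LD2_c30 LD3_c7) (LK LD1_c25 LD2_c23 LD3_c23) Lrfl Lrfl
theorem f314676 : Led Lsl_df (LP (LK LD1_c15 LD2_c30 LD3_c7)) = (LP (LK LD1_c9 LD2_c34 LD3_c18)) :=
  Lgr Lrot38 (Lpr_dt (K20.f314668 IH) (Lpn (LP (LK LD1_c9 LD2_c34 LD3_c18))))
theorem f348582 : Led Lsl_bf (LP (LK LD1_c9 LD2_c34 LD3_c18)) = (LP (LK LD1_c16 LD2_c7 LD3_c23)) :=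
  Lgr Lrot93 (Lpe (f314676 IH) (Lpr_bt (f314751 IH) (Lpr_dt (f348556 IH) (Lpn (LP (LK LD1_c16 LD2_c7 LD3_c23))))))
theorem f354214 : Led Lsl_cf (LP (LK LD1_c15 LD2_c42 LD3_c5)) = (LP (LK LD1_c16 LD2_c7 LD3_c23)) :=
  Lgr Lrot163 (Lpe (f260810 IH) (Lpe (K23.f182304 IH) (Lpr_gf (f335673 IH) (Lpe (K22.f333731 IH) (Lpr_ct (K22.f309740 IH) (Lpe (f335667 IH) (Lpe (f212597 IH) (Lpr_bt (f212592 IH) (Lpr_gf (f354208 IH) (Lpr_bf (f348582 IH) (Lpn (LP (LK LD1_c16 LD2_c7 LD3_c23)))))))))))))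
theorem f314758 : Led Lsl_et (LP (LK LD1_c15 LD2_c30 LD3_c5)) = (LP (LK LD1_c25 LD2_c23 LD3_c23)) :=
  Lre_e IH (LK LD1_c15 LD2_c30 LD3_c5) (LK LD1_c25 LD2_c23 LD3_c23) Lrfl Lrfl
theorem f314665 : Led Lsl_dt (LP (LK LD1_c8 LD2_c14 LD3_c23)) = (LP (LK LD1_c9 LD2_c36 LD3_c33)) :=
  Lgr Lrot42 (Lpr_df (K20.f314656 IH) (Lpn (LP (LK LD1_c9 LD2_c36 LD3_c33))))
theorem f195494 : Led Lsl_bt (LP (LK LD1_c15 LD2_c30 LD3_c5)) = (LP (LK LD1_c8 LD2_c14 LD3_c23)) :=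
  Lre_b IH (LK LD1_c15 LD2_c30 LD3_c5) (LK LD1_c8 LD2_c14 LD3_c23) Lrfl Lrfl
theorem f314755 : Led Lsl_bt (LP (LK LD1_c9 LD2_c36 LD3_c33)) = (LP (LK LD1_c17 LD2_c41 LD3_c46)) :=
  Lre_b IH (LK LD1_c9 LD2_c36 LD3_c33) (LK LD1_c17 LD2_c41 LD3_c46) Lrfl Lrfl
theorem f314756 : Led Lsl_df (LP (LK LD1_c15 LD2_c30 LD3_c5)) = (LP (LK LD1_c17 LD2_c41 LD3_c46)) :=
  Lgr Lrot12 (Lpr_bt (f195494 IH) (Lpr_dt (f314665 IH) (Lpr_bt (f314755 IH) (Lpn (LP (LK LD1_c17 LD2_c41 LD3_c46))))))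
theorem f305532 : Led Lsl_et (LP (LK LD1_c9 LD2_c36 LD3_c30)) = (LP (LK LD1_c17 LD2_c41 LD3_c46)) :=
  Lre_e IH (LK LD1_c9 LD2_c36 LD3_c30) (LK LD1_c17 LD2_c41 LD3_c46) Lrfl Lrfl
theorem f305529 : Led Lsl_dt (LP (LK LD1_c17 LD2_c41 LD3_c45)) = (LP (LK LD1_c9 LD2_c36 LD3_c30)) :=
  Lre_d IH (LK LD1_c17 LD2_c41 LD3_c45) (LK LD1_c9 LD2_c36 LD3_c30) Lrfl Lrfl
theorem f348586 : Led Lsl_ef (LP (LK LD1_c17 LD2_c41 LD3_c45)) = (LP (LK LD1_c16 LD2_c7 LD3_c23)) :=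
  Lgr Lrot73 (Lpr_dt (f305529 IH) (Lpr_et (f305532 IH) (Lpe (f314756 IH) (Lpr_et (f314758 IH) (Lpr_dt (f348556 IH) (Lpn (LP (LK LD1_c16 LD2_c7 LD3_c23))))))))
theorem f348590 : Led Lsl_et (LP (LK LD1_c17 LD2_c41 LD3_c45)) = (LP (LK LD1_c16 LD2_c7 LD3_c23)) :=
  Lgr Lrot87 (Lpr_ef (f348586 IH) (Lpn (LP (LK LD1_c16 LD2_c7 LD3_c23))))
theorem f305530 : Led Lsl_et (LP (LK LD1_c17 LD2_c41 LD3_c46)) = (LP (LK LD1_c9 LD2_c36 LD3_c30)) :=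
  Lre_e IH (LK LD1_c17 LD2_c41 LD3_c46) (LK LD1_c9 LD2_c36 LD3_c30) Lrfl Lrfl
theorem f229243 : Led Lsl_et (LP (LK LD1_c2 LD2_c45 LD3_c38)) = (LP (LK LD1_c1 LD2_c57 LD3_c47)) :=
  Lgr Lrot74 (Lpe (K15.f229242 IH) (Lpr_ef (K12.f229240 IH) (Lpe (K10.f33591 IH) (Lpn (LP (LK LD1_c1 LD2_c57 LD3_c47))))))
theorem f266245 : Led Lsl_gt (LP (LK LD1_c3 LD2_c57 LD3_c11)) = (LP (LK LD1_c2 LD2_c3 LD3_c18)) :=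
  Lgr Lrot137 (Lpe (K15.f230330 IH) (Lpr_dt (K15.f266235 IH) (Lpe (K10.f43554 IH) (Lpe (K9.f43387 IH) (Lpr_et (K9.f43352 IH) (Lpr_gf (K10.f192984 IH) (Lpe (f229243 IH) (Lpr_dt (K14.f256017 IH) (Lpr_gf (K12.f219453 IH) (Lpe (K12.f219374 IH) (Lpn (LP (LK LD1_c2 LD2_c3 LD3_c18)))))))))))))
theorem f348558 : Led Lsl_gf (LP (LK LD1_c9 LD2_c36 LD3_c30)) = (LP (LK LD1_c8 LD2_c23 LD3_c59)) :=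
  Lgr Lrot141 (Lpe (f305530 IH) (Lpe (f314756 IH) (Lpr_gt (K23.f348545 IH) (Lpr_df (K23.f321348 IH) (Lpr_et (K20.f200555 IH) (Lpr_gt (K17.f287714 IH) (Lpr_dt (K15.f230390 IH) (Lpr_gt (f266245 IH) (Lpe (K12.f219375 IH) (Lpr_et (f219373 IH) (Lpn (LP (LK LD1_c8 LD2_c23 LD3_c59)))))))))))))
theorem f348592 : Led Lsl_gf (LP (LK LD1_c16 LD2_c19 LD3_c61)) = (LP (LK LD1_c16 LD2_c7 LD3_c23)) :=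
  Lgr Lrot141 (Lpe (K22.f336592 IH) (Lpr_dt (K22.f200533 IH) (Lpe (f345585 IH) (Lpe (f182742 IH) (Lpr_et (f345576 IH) (Lpr_gt (f219377 IH) (Lpr_dt (f219361 IH) (Lpe (f348558 IH) (Lpe (f305529 IH) (Lpr_et (f348590 IH) (Lpn (LP (LK LD1_c16 LD2_c7 LD3_c23)))))))))))))
theorem f348594 : Led Lsl_gf (LP (LK LD1_c15 LD2_c24 LD3_c29)) = (LP (LK LD1_c15 LD2_c51 LD3_c27)) :=
  Lgr Lrot134 (Lpr_df (K20.f273885 IH) (Lpr_et (K15.f256044 IH) (Lpr_gt (K14.f256040 IH) (Lpe (K12.f219376 IH) (Lpr_dt (f219361 IH) (Lpe (f348558 IH) (Lpe (f305529 IH) (Lpr_et (f348590 IH) (Lpe (f348592 IH) (Lpe (K22.f336730 IH) (Lpn (LP (LK LD1_c15 LD2_c51 LD3_c27)))))))))))))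
theorem f264057 : Led Lsl_df (LP (LK LD1_c15 LD2_c6 LD3_c39)) = (LP (LK LD1_c15 LD2_c24 LD3_c29)) :=
  Lgr Lrot70 (Lpr_et (K15.f256044 IH) (Lpr_dt (K15.f257941 IH) (Lpe (K15.f257989 IH) (Lpr_dt (K15.f264046 IH) (Lpr_et (K16.f264056 IH) (Lpn (LP (LK LD1_c15 LD2_c24 LD3_c29))))))))
theorem f247377 : Led Lsl_dt (LP (LK LD1_c16 LD2_c4 LD3_c27)) = (LP (LK LD1_c26 LD2_c1 LD3_c40)) :=
  Lre_d IH (LK LD1_c16 LD2_c4 LD3_c27) (LK LD1_c26 LD2_c1 LD3_c40) Lrfl Lrfl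
theorem f354221 : Led Lsl_gt (LP (LK LD1_c15 LD2_c42 LD3_c5)) = (LP (LK LD1_c16 LD2_c4 LD3_c27)) :=
  Lgr Lrot94 (Lpr_cf (f354214 IH) (Lpe (f348592 IH) (Lpe (K22.f336730 IH) (Lpe (f348594 IH) (Lpe (f264057 IH) (Lpe (K15.f258436 IH) (Lpe (K20.f258445 IH) (Lpr_gf (K20.f267567 IH) (Lpe (f247377 IH) (Lpn (LP (LK LD1_c16 LD2_c4 LD3_c27))))))))))))
theorem f354605 : Led Lsl_gf (LP (LK LD1_c8 LD2_c54 LD3_c4)) = (LP (LK LD1_c16 LD2_c36 LD3_c17)) :=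
  Lgr Lrot104 (Lpr_ct (K22.f247378 IH) (Lpe (K14.f247381 IH) (Lpe (K19.f238668 IH) (Lpe (f354221 IH) (Lpr_cf (f354214 IH) (Lpe (f179646 IH) (Lpr_df (K16.f219309 IH) (Lpr_gt (f321356 IH) (Lpr_ct (f354592 IH) (Lpn (LP (LK LD1_c16 LD2_c36 LD3_c17))))))))))))
theorem f247365 : Led Lsl_bf (LP (LK LD1_c4 LD2_c19 LD3_c16)) = (LP (LK LD1_c4 LD2_c28 LD3_c3)) :=
  Lgr Lrot24 (Lpr_bt (K14.f247356 IH) (Lpn (LP (LK LD1_c4 LD2_c28 LD3_c3))))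
theorem f247369 : Led Lsl_ct (LP (LK LD1_c4 LD2_c28 LD3_c3)) = (LP (LK LD1_c8 LD2_c54 LD3_c4)) :=
  Lre_c IH (LK LD1_c4 LD2_c28 LD3_c3) (LK LD1_c8 LD2_c54 LD3_c4) Lrfl Lrfl
theorem f273875 : Led Lsl_bt (LP (LK LD1_c15 LD2_c24 LD3_c29)) = (LP (LK LD1_c8 LD2_c18 LD3_c10)) :=
  Lgr Lrot119 (Lpe (K16.f264056 IH) (Lpe (K15.f264081 IH) (Lpr_ef (K16.f273867 IH) (Lpn (LP (LK LD1_c8 LD2_c18 LD3_c10))))))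
theorem f273942 : Led Lsl_ct (LP (LK LD1_c11 LD2_c54 LD3_c31)) = (LP (LK LD1_c20 LD2_c54 LD3_c59)) :=
  Lgr Lrot59 (Lpr_cf (K17.f273927 IH) (Lpn (LP (LK LD1_c20 LD2_c54 LD3_c59))))
theorem f273924 : Led Lsl_ff (LP (LK LD1_c11 LD2_c52 LD3_c50)) = (LP (LK LD1_c20 LD2_c54 LD3_c59)) :=
  Lgr Lrot25 (Lpr_bt (K17.f250442 IH) (Lpr_ft (K16.f273922 IH) (Lpr_bt (K17.f273910 IH) (Lpn (LP (LK LD1_c20 LD2_c54 LD3_c59))))))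
theorem f273961 : Led Lsl_ct (LP (LK LD1_c11 LD2_c52 LD3_c50)) = (LP (LK LD1_c10 LD2_c43 LD3_c31)) :=
  Lgr Lrot40 (Lpr_ff (f273924 IH) (Lpe (f273942 IH) (Lpr_ff (K17.f273951 IH) (Lpn (LP (LK LD1_c10 LD2_c43 LD3_c31))))))
theorem f273971 : Led Lsl_et (LP (LK LD1_c20 LD2_c56 LD3_c2)) = (LP (LK LD1_c11 LD2_c52 LD3_c50)) :=
  Lre_e IH (LK LD1_c20 LD2_c56 LD3_c2) (LK LD1_c11 LD2_c52 LD3_c50) Lrfl Lrfl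
theorem f273950 : Led Lsl_et (LP (LK LD1_c10 LD2_c43 LD3_c31)) = (LP (LK LD1_c19 LD2_c24 LD3_c37)) :=
  Lre_e IH (LK LD1_c10 LD2_c43 LD3_c31) (LK LD1_c19 LD2_c24 LD3_c37) Lrfl Lrfl
theorem f273972 : Led Lsl_cf (LP (LK LD1_c20 LD2_c56 LD3_c2)) = (LP (LK LD1_c19 LD2_c24 LD3_c37)) :=
  Lgr Lrot39 (Lpr_et (f273971 IH) (Lpr_ct (f273961 IH) (Lpr_et (f273950 IH) (Lpn (LP (LK LD1_c19 LD2_c24 LD3_c37))))))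
theorem f273975 : Led Lsl_ct (LP (LK LD1_c20 LD2_c56 LD3_c2)) = (LP (LK LD1_c19 LD2_c24 LD3_c37)) :=
  Lgr Lrot59 (Lpr_cf (f273972 IH) (Lpn (LP (LK LD1_c19 LD2_c24 LD3_c37))))
theorem f273979 : Led Lsl_bt (LP (LK LD1_c11 LD2_c52 LD3_c51)) = (LP (LK LD1_c20 LD2_c56 LD3_c2)) :=
  Lre_b IH (LK LD1_c11 LD2_c52 LD3_c51) (LK LD1_c20 LD2_c56 LD3_c2) Lrfl Lrfl
theorem f273864 : Led Lsl_bt (LP (LK LD1_c19 LD2_c24 LD3_c37)) = (LP (LK LD1_c10 LD2_c43 LD3_c33)) :=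
  Lre_b IH (LK LD1_c19 LD2_c24 LD3_c37) (LK LD1_c10 LD2_c43 LD3_c33) Lrfl Lrfl
theorem f273980 : Led Lsl_cf (LP (LK LD1_c11 LD2_c52 LD3_c51)) = (LP (LK LD1_c15 LD2_c24 LD3_c29)) :=
  Lgr Lrot97 (Lpr_bt (f273979 IH) (Lpr_ct (f273975 IH) (Lpr_bt (f273864 IH) (Lpr_ct (K16.f273692 IH) (Lpe (K16.f273879 IH) (Lpn (LP (LK LD1_c15 LD2_c24 LD3_c29))))))))
theorem f326696 : Led Lsl_gt (LP (LK LD1_c8 LD2_c54 LD3_c4)) = (LP (LK LD1_c11 LD2_c52 LD3_c51)) :=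
  Lgr Lrot65 (Lpe (f247369 IH) (Lpe (f247365 IH) (Lpe (K19.f310514 IH) (Lpe (K21.f326604 IH) (Lpr_ct (K21.f295745 IH) (Lpr_gf (K21.f326684 IH) (Lpe (K21.f251803 IH) (Lpe (K16.f190833 IH) (Lpe (f273875 IH) (Lpe (f273980 IH) (Lpn (LP (LK LD1_c11 LD2_c52 LD3_c51)))))))))))))
theorem f354603 : Led Lsl_ff (LP (LK LD1_c8 LD2_c54 LD3_c2)) = (LP (LK LD1_c16 LD2_c36 LD3_c17)) :=
  Lgr Lrot23 (Lpe (K20.f321397 IH) (Lpr_ft (K16.f247067 IH) (Lpr_ct (f354592 IH) (Lpn (LP (LK LD1_c16 LD2_c36 LD3_c17))))))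
theorem f354608 : Led Lsl_af (LP (LK LD1_c11 LD2_c52 LD3_c51)) = (LP (LK LD1_c8 LD2_c54 LD3_c2)) :=
  Lgr Lrot31 (Lpe (f326696 IH) (Lpr_gf (f354605 IH) (Lpe (f354603 IH) (Lpn (LP (LK LD1_c8 LD2_c54 LD3_c2))))))
theorem f354665 : Led Lsl_af (LP (LK LD1_c16 LD2_c36 LD3_c17)) = (LP (LK LD1_c8 LD2_c54 LD3_c1)) :=
  Lgr Lrot45 (Lpe (f354603 IH) (Lpe (f354608 IH) (Lpr_ft (f354661 IH) (Lpn (LP (LK LD1_c8 LD2_c54 LD3_c1))))))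
theorem f354669 : Led Lsl_gt (LP (LK LD1_c11 LD2_c52 LD3_c51)) = (LP (LK LD1_c8 LD2_c52 LD3_c55)) :=
  Lgr Lrot5 (Lpr_ft (f354661 IH) (Lpe (f354665 IH) (Lpe (f261050 IH) (Lpn (LP (LK LD1_c8 LD2_c52 LD3_c55))))))
theorem f348584 : Led Lsl_df (LP (LK LD1_c25 LD2_c23 LD3_c23)) = (LP (LK LD1_c16 LD2_c7 LD3_c23)) :=
  Lgr Lrot38 (Lpr_dt (f348556 IH) (Lpn (LP (LK LD1_c16 LD2_c7 LD3_c23))))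
theorem f182269 : Led Lsl_dt (LP (LK LD1_c8 LD2_c52 LD3_c55)) = (LP (LK LD1_c16 LD2_c36 LD3_c18)) :=
  Lre_d IH (LK LD1_c8 LD2_c52 LD3_c55) (LK LD1_c16 LD2_c36 LD3_c18) Lrfl Lrfl
theorem f267292 : Led Lsl_gt (LP (LK LD1_c16 LD2_c36 LD3_c18)) = (LP (LK LD1_c26 LD2_c33 LD3_c13)) :=
  Lre_g IH (LK LD1_c16 LD2_c36 LD3_c18) (LK LD1_c26 LD2_c33 LD3_c13) Lrfl Lrfl
theorem f261086 : Led Lsl_et (LP (LK LD1_c8 LD2_c52 LD3_c55)) = (LP (LK LD1_c4 LD2_c27 LD3_c32)) :=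
  Lre_e IH (LK LD1_c8 LD2_c52 LD3_c55) (LK LD1_c4 LD2_c27 LD3_c32) Lrfl Lrfl
theorem f267289 : Led Lsl_gt (LP (LK LD1_c20 LD2_c55 LD3_c10)) = (LP (LK LD1_c11 LD2_c52 LD3_c21)) :=
  Lre_g IH (LK LD1_c20 LD2_c55 LD3_c10) (LK LD1_c11 LD2_c52 LD3_c21) Lrfl Lrfl
theorem f267293 : Led Lsl_et (LP (LK LD1_c29 LD2_c44 LD3_c7)) = (LP (LK LD1_c20 LD2_c55 LD3_c10)) :=
  Lre_e IH (LK LD1_c29 LD2_c44 LD3_c7) (LK LD1_c20 LD2_c55 LD3_c10) Lrfl Lrfl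
theorem f267294 : Led Lsl_df (LP (LK LD1_c26 LD2_c33 LD3_c13)) = (LP (LK LD1_c29 LD2_c44 LD3_c7)) :=
  Lgr Lrot168 (Lpe (f267292 IH) (Lpe (f182269 IH) (Lpr_et (f261086 IH) (Lpr_gf (K17.f267281 IH) (Lpe (K14.f254832 IH) (Lpr_dt (K22.f254842 IH) (Lpr_gf (K22.f267287 IH) (Lpe (K22.f190120 IH) (Lpe (f267289 IH) (Lpe (f267293 IH) (Lpn (LP (LK LD1_c29 LD2_c44 LD3_c7)))))))))))))
theorem f267297 : Led Lsl_dt (LP (LK LD1_c26 LD2_c33 LD3_c13)) = (LP (LK LD1_c29 LD2_c44 LD3_c7)) :=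
  Lgr Lrot42 (Lpr_df (f267294 IH) (Lpn (LP (LK LD1_c29 LD2_c44 LD3_c7))))
theorem f354673 : Led Lsl_cf (LP (LK LD1_c25 LD2_c23 LD3_c23)) = (LP (LK LD1_c29 LD2_c44 LD3_c7)) :=
  Lgr Lrot14 (Lpr_df (f348584 IH) (Lpe (f179646 IH) (Lpr_df (K16.f219309 IH) (Lpr_gf (K20.f321354 IH) (Lpe (f273980 IH) (Lpr_gt (f354669 IH) (Lpr_dt (f182269 IH) (Lpr_gt (f267292 IH) (Lpr_dt (f267297 IH) (Lpn (LP (LK LD1_c29 LD2_c44 LD3_c7))))))))))))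
theorem f354216 : Led Lsl_ct (LP (LK LD1_c15 LD2_c42 LD3_c5)) = (LP (LK LD1_c16 LD2_c7 LD3_c23)) :=
  Lgr Lrot59 (Lpr_cf (f354214 IH) (Lpn (LP (LK LD1_c16 LD2_c7 LD3_c23))))
theorem f316046 : Led Lsl_ct (LP (LK LD1_c11 LD2_c54 LD3_c28)) = (LP (LK LD1_c20 LD2_c58 LD3_c57)) :=
  Lre_c IH (LK LD1_c11 LD2_c54 LD3_c28) (LK LD1_c20 LD2_c58 LD3_c57) Lrfl Lrfl
theorem f354677 : Led Lsl_gt (LP (LK LD1_c20 LD2_c58 LD3_c57)) = (LP (LK LD1_c29 LD2_c44 LD3_c7)) :=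
  Lgr Lrot150 (Lpe (f316046 IH) (Lpr_gf (K22.f322702 IH) (Lpr_df (K22.f335680 IH) (Lpe (f335673 IH) (Lpr_ct (K23.f182304 IH) (Lpr_gt (f260810 IH) (Lpr_ct (f354216 IH) (Lpe (f348556 IH) (Lpr_cf (f354673 IH) (Lpn (LP (LK LD1_c29 LD2_c44 LD3_c7))))))))))))
theorem f264073 : Led Lsl_ct (LP (LK LD1_c11 LD2_c52 LD3_c51)) = (LP (LK LD1_c15 LD2_c24 LD3_c29)) :=
  Lgr Lrot15 (Lpe (f264072 IH) (Lpr_cf (K15.f264067 IH) (Lpe (K16.f223954 IH) (Lpn (LP (LK LD1_c15 LD2_c24 LD3_c29))))))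
theorem f354671 : Led Lsl_ct (LP (LK LD1_c25 LD2_c23 LD3_c23)) = (LP (LK LD1_c29 LD2_c44 LD3_c7)) :=
  Lgr Lrot7 (Lpr_df (f348584 IH) (Lpe (f179646 IH) (Lpr_df (K16.f219309 IH) (Lpr_gf (K20.f321354 IH) (Lpe (f264073 IH) (Lpr_gt (f354669 IH) (Lpr_dt (f182269 IH) (Lpr_gt (f267292 IH) (Lpr_dt (f267297 IH) (Lpn (LP (LK LD1_c29 LD2_c44 LD3_c7))))))))))))
theorem f314674 : Led Lsl_bt (LP (LK LD1_c25 LD2_c23 LD3_c23)) = (LP (LK LD1_c15 LD2_c30 LD3_c7)) :=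
  Lre_b IH (LK LD1_c25 LD2_c23 LD3_c23) (LK LD1_c15 LD2_c30 LD3_c7) Lrfl Lrfl
theorem f314671 : Led Lsl_gt (LP (LK LD1_c16 LD2_c50 LD3_c15)) = (LP (LK LD1_c9 LD2_c36 LD3_c33)) :=
  Lgr Lrot137 (Lpr_ef (K22.f238201 IH) (Lpe (K22.f314616 IH) (Lpe (K22.f180807 IH) (Lpe (K14.f193193 IH) (Lpr_et (K17.f193212 IH) (Lpr_gf (K14.f232270 IH) (Lpe (K19.f232282 IH) (Lpe (K19.f314649 IH) (Lpe (K20.f195493 IH) (Lpr_df (K20.f314656 IH) (Lpn (LP (LK LD1_c9 LD2_c36 LD3_c33)))))))))))))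
theorem f321086 : Led Lsl_gf (LP (LK LD1_c9 LD2_c36 LD3_c54)) = (LP (LK LD1_c15 LD2_c30 LD3_c7)) :=
  Lgr Lrot138 (Lpr_dt (K22.f321083 IH) (Lpr_gt (K21.f321078 IH) (Lpe (K15.f239861 IH) (Lpr_et (K14.f239830 IH) (Lpr_gt (K22.f239854 IH) (Lpr_ef (K22.f314606 IH) (Lpr_dt (K22.f238200 IH) (Lpr_gt (f314671 IH) (Lpe (f314665 IH) (Lpr_et (K20.f314667 IH) (Lpn (LP (LK LD1_c15 LD2_c30 LD3_c7)))))))))))))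
theorem f321088 : Led Lsl_bt (LP (LK LD1_c4 LD2_c52 LD3_c16)) = (LP (LK LD1_c9 LD2_c36 LD3_c54)) :=
  Lre_b IH (LK LD1_c4 LD2_c52 LD3_c16) (LK LD1_c9 LD2_c36 LD3_c54) Lrfl Lrfl
theorem f306905 : Led Lsl_ct (LP (LK LD1_c4 LD2_c52 LD3_c16)) = (LP (LK LD1_c9 LD2_c36 LD3_c55)) :=
  Lre_c IH (LK LD1_c4 LD2_c52 LD3_c16) (LK LD1_c9 LD2_c36 LD3_c55) Lrfl Lrfl
theorem f354682 : Led Lsl_gf (LP (LK LD1_c8 LD2_c58 LD3_c11)) = (LP (LK LD1_c9 LD2_c36 LD3_c55)) :=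
  Lgr Lrot126 (Lpe (K21.f276178 IH) (Lpe (K23.f335678 IH) (Lpe (K22.f322702 IH) (Lpr_ct (f316046 IH) (Lpr_gt (f354677 IH) (Lpe (f354671 IH) (Lpr_bt (f314674 IH) (Lpe (f321086 IH) (Lpe (f321088 IH) (Lpr_ct (f306905 IH) (Lpn (LP (LK LD1_c9 LD2_c36 LD3_c55)))))))))))))
theorem f276177 : Led Lsl_ct (LP (LK LD1_c8 LD2_c58 LD3_c11)) = (LP (LK LD1_c4 LD2_c30 LD3_c1)) :=
  Lre_c IH (LK LD1_c8 LD2_c58 LD3_c11) (LK LD1_c4 LD2_c30 LD3_c1) Lrfl Lrfl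
theorem f309741 : Led Lsl_ct (LP (LK LD1_c5 LD2_c30 LD3_c55)) = (LP (LK LD1_c2 LD2_c41 LD3_c42)) :=
  Lre_c IH (LK LD1_c5 LD2_c30 LD3_c55) (LK LD1_c2 LD2_c41 LD3_c42) Lrfl Lrfl
theorem f212582 : Led Lsl_bt (LP (LK LD1_c8 LD2_c24 LD3_c51)) = (LP (LK LD1_c4 LD2_c12 LD3_c41)) :=
  Lre_b IH (LK LD1_c8 LD2_c24 LD3_c51) (LK LD1_c4 LD2_c12 LD3_c41) Lrfl Lrfl
theorem f212584 : Led Lsl_dt (LP (LK LD1_c4 LD2_c12 LD3_c41)) = (LP (LK LD1_c2 LD2_c12 LD3_c48)) :=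
  Lgr Lrot79 (Lpe (f212582 IH) (Lpr_df (f212565 IH) (Lpe (f212583 IH) (Lpn (LP (LK LD1_c2 LD2_c12 LD3_c48))))))
theorem f354265 : Led Lsl_gf (LP (LK LD1_c4 LD2_c12 LD3_c41)) = (LP (LK LD1_c2 LD2_c45 LD3_c51)) :=
  Lgr Lrot138 (Lpr_dt (f212584 IH) (Lpr_gt (f354260 IH) (Lpr_df (K13.f179847 IH) (Lpr_et (K13.f2871 IH) (Lpe (K9.f2865 IH) (Lpe (K0.f1523 IH) (Lpr_dt (K0.f1524 IH) (Lpr_gt (K21.f1536 IH) (Lpe (K21.f1540 IH) (Lpe (K21.f170085 IH) (Lpn (LP (LK LD1_c2 LD2_c45 LD3_c51)))))))))))))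
theorem f170082 : Led Lsl_dt (LP (LK LD1_c2 LD2_c45 LD3_c51)) = (LP (LK LD1_c5 LD2_c39 LD3_c50)) :=
  Lre_d IH (LK LD1_c2 LD2_c45 LD3_c51) (LK LD1_c5 LD2_c39 LD3_c50) Lrfl Lrfl
theorem f354685 : Led Lsl_gt (LP (LK LD1_c5 LD2_c39 LD3_c50)) = (LP (LK LD1_c4 LD2_c52 LD3_c16)) :=
  Lgr Lrot9 (Lpe (f170082 IH) (Lpe (f354265 IH) (Lpr_ct (f212597 IH) (Lpr_gt (f335667 IH) (Lpr_ct (f309741 IH) (Lpe (K21.f267743 IH) (Lpe (f276177 IH) (Lpr_gf (f354682 IH) (Lpe (f306905 IH) (Lpn (LP (LK LD1_c4 LD2_c52 LD3_c16))))))))))))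
theorem f166584 : Led Lsl_gt (LP (LK LD1_c2 LD2_c24 LD3_c37)) = (LP (LK LD1_c1 LD2_c9 LD3_c25)) :=
  Lre_g IH (LK LD1_c2 LD2_c24 LD3_c37) (LK LD1_c1 LD2_c9 LD3_c25) Lrfl Lrfl
theorem f306903 : Led Lsl_dt (LP (LK LD1_c2 LD2_c23 LD3_c52)) = (LP (LK LD1_c4 LD2_c52 LD3_c16)) :=
  Lre_d IH (LK LD1_c2 LD2_c23 LD3_c52) (LK LD1_c4 LD2_c52 LD3_c16) Lrfl Lrfl
theorem f354687 : Led Lsl_ef (LP (LK LD1_c2 LD2_c24 LD3_c37)) = (LP (LK LD1_c2 LD2_c23 LD3_c52)) :=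
  Lgr Lrot114 (Lpr_gt (f166584 IH) (Lpe (K11.f166583 IH) (Lpe (K9.f166466 IH) (Lpe (K9.f170071 IH) (Lpe (K9.f170079 IH) (Lpr_et (K21.f170080 IH) (Lpr_gt (K21.f170081 IH) (Lpr_dt (f170082 IH) (Lpr_gt (f354685 IH) (Lpe (f306903 IH) (Lpn (LP (LK LD1_c2 LD2_c23 LD3_c52)))))))))))))
theorem f354692 : Led Lsl_et (LP (LK LD1_c2 LD2_c24 LD3_c37)) = (LP (LK LD1_c2 LD2_c23 LD3_c52)) :=
  Lgr Lrot87 (Lpr_ef (f354687 IH) (Lpn (LP (LK LD1_c2 LD2_c23 LD3_c52))))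
theorem f226064 : Led Lsl_et (LP (LK LD1_c0 LD2_c31 LD3_c31)) = (LP (LK LD1_c1 LD2_c8 LD3_c60)) :=
  Lre_e IH (LK LD1_c0 LD2_c31 LD3_c31) (LK LD1_c1 LD2_c8 LD3_c60) Lrfl Lrfl
theorem f166710 : Led Lsl_gt (LP (LK LD1_c2 LD2_c29 LD3_c27)) = (LP (LK LD1_c1 LD2_c11 LD3_c49)) :=
  Lre_g IH (LK LD1_c2 LD2_c29 LD3_c27) (LK LD1_c1 LD2_c11 LD3_c49) Lrfl Lrfl
theorem f354696 : Led Lsl_dt (LP (LK LD1_c2 LD2_c24 LD3_c37)) = (LP (LK LD1_c2 LD2_c29 LD3_c27)) :=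
  Lgr Lrot136 (Lpr_et (f354692 IH) (Lpe (K20.f274520 IH) (Lpe (f226064 IH) (Lpe (K19.f179838 IH) (Lpr_gf (K9.f179017 IH) (Lpe (K9.f166990 IH) (Lpe (K9.f166471 IH) (Lpe (K10.f166687 IH) (Lpe (K22.f166703 IH) (Lpe (f166710 IH) (Lpn (LP (LK LD1_c2 LD2_c29 LD3_c27)))))))))))))
theorem f306910 : Led Lsl_dt (LP (LK LD1_c4 LD2_c52 LD3_c16)) = (LP (LK LD1_c2 LD2_c23 LD3_c52)) :=
  Lre_d IH (LK LD1_c4 LD2_c52 LD3_c16) (LK LD1_c2 LD2_c23 LD3_c52) Lrfl Lrfl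
theorem f337984 : Led Lsl_bt (LP (LK LD1_c10 LD2_c12 LD3_c13)) = (LP (LK LD1_c5 LD2_c10 LD3_c49)) :=
  Lre_b IH (LK LD1_c10 LD2_c12 LD3_c13) (LK LD1_c5 LD2_c10 LD3_c49) Lrfl Lrfl
theorem f337985 : Led Lsl_ef (LP (LK LD1_c4 LD2_c52 LD3_c16)) = (LP (LK LD1_c5 LD2_c10 LD3_c49)) :=
  Lgr Lrot29 (Lpr_bt (f321088 IH) (Lpr_et (K22.f337982 IH) (Lpr_bt (f337984 IH) (Lpn (LP (LK LD1_c5 LD2_c10 LD3_c49))))))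
theorem f253530 : Led Lsl_dt (LP (LK LD1_c2 LD2_c32 LD3_c24)) = (LP (LK LD1_c5 LD2_c10 LD3_c49)) :=
  Lre_d IH (LK LD1_c2 LD2_c32 LD3_c24) (LK LD1_c5 LD2_c10 LD3_c49) Lrfl Lrfl
theorem f354703 : Led Lsl_ef (LP (LK LD1_c2 LD2_c32 LD3_c24)) = (LP (LK LD1_c2 LD2_c29 LD3_c27)) :=
  Lgr Lrot73 (Lpr_dt (f253530 IH) (Lpe (f337985 IH) (Lpr_dt (f306910 IH) (Lpe (f354687 IH) (Lpr_dt (f354696 IH) (Lpn (LP (LK LD1_c2 LD2_c29 LD3_c27))))))))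
theorem f354713 : Led Lsl_et (LP (LK LD1_c2 LD2_c32 LD3_c24)) = (LP (LK LD1_c2 LD2_c29 LD3_c27)) :=
  Lgr Lrot87 (Lpr_ef (f354703 IH) (Lpn (LP (LK LD1_c2 LD2_c29 LD3_c27))))
theorem f250345 : Led Lsl_dt (LP (LK LD1_c5 LD2_c9 LD3_c50)) = (LP (LK LD1_c7 LD2_c58 LD3_c51)) :=
  Lgr Lrot42 (Lpr_df (K14.f250342 IH) (Lpn (LP (LK LD1_c7 LD2_c58 LD3_c51))))
theorem f354721 : Led Lsl_gf (LP (LK LD1_c5 LD2_c10 LD3_c49)) = (LP (LK LD1_c7 LD2_c58 LD3_c51)) :=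
  Lgr Lrot134 (Lpe (f253530 IH) (Lpr_et (f354713 IH) (Lpr_gt (f166710 IH) (Lpe (K10.f166685 IH) (Lpe (K14.f165843 IH) (Lpr_gt (K12.f186719 IH) (Lpe (K10.f22021 IH) (Lpr_et (K13.f22023 IH) (Lpr_gt (K14.f22045 IH) (Lpr_dt (f250345 IH) (Lpn (LP (LK LD1_c7 LD2_c58 LD3_c51)))))))))))))
theorem f327020 : Led Lsl_dt (LP (LK LD1_c5 LD2_c10 LD3_c49)) = (LP (LK LD1_c2 LD2_c32 LD3_c24)) :=
  Lre_d IH (LK LD1_c5 LD2_c10 LD3_c49) (LK LD1_c2 LD2_c32 LD3_c24) Lrfl Lrfl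
theorem f336030 : Led Lsl_dt (LP (LK LD1_c10 LD2_c12 LD3_c15)) = (LP (LK LD1_c5 LD2_c10 LD3_c48)) :=
  Lre_d IH (LK LD1_c10 LD2_c12 LD3_c15) (LK LD1_c5 LD2_c10 LD3_c48) Lrfl Lrfl
theorem f185371 : Led Lsl_dt (LP (LK LD1_c10 LD2_c10 LD3_c26)) = (LP (LK LD1_c18 LD2_c32 LD3_c8)) :=
  Lre_d IH (LK LD1_c10 LD2_c10 LD3_c26) (LK LD1_c18 LD2_c32 LD3_c8) Lrfl Lrfl
theorem f354725 : Led Lsl_gf (LP (LK LD1_c10 LD2_c12 LD3_c15)) = (LP (LK LD1_c18 LD2_c32 LD3_c8)) :=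
  Lgr Lrot143 (Lpr_dt (f336030 IH) (Lpe (K22.f326928 IH) (Lpe (f327020 IH) (Lpr_gf (f354721 IH) (Lpe (f250345 IH) (Lpe (K14.f22045 IH) (Lpe (K19.f22037 IH) (Lpr_gt (K22.f185367 IH) (Lpr_dt (f185371 IH) (Lpn (LP (LK LD1_c18 LD2_c32 LD3_c8))))))))))))
theorem f336031 : Led Lsl_dt (LP (LK LD1_c5 LD2_c10 LD3_c48)) = (LP (LK LD1_c10 LD2_c12 LD3_c15)) :=
  Lre_d IH (LK LD1_c5 LD2_c10 LD3_c48) (LK LD1_c10 LD2_c12 LD3_c15) Lrfl Lrfl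
theorem f166713 : Led Lsl_ct (LP (LK LD1_c5 LD2_c4 LD3_c1)) = (LP (LK LD1_c2 LD2_c29 LD3_c27)) :=
  Lre_c IH (LK LD1_c5 LD2_c4 LD3_c1) (LK LD1_c2 LD2_c29 LD3_c27) Lrfl Lrfl
theorem f354711 : Led Lsl_et (LP (LK LD1_c5 LD2_c10 LD3_c48)) = (LP (LK LD1_c5 LD2_c4 LD3_c1)) :=
  Lgr Lrot158 (Lpe (K22.f326928 IH) (Lpr_ef (f354703 IH) (Lpe (f166713 IH) (Lpn (LP (LK LD1_c5 LD2_c4 LD3_c1))))))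
theorem f354729 : Led Lsl_gt (LP (LK LD1_c5 LD2_c4 LD3_c1)) = (LP (LK LD1_c2 LD2_c29 LD3_c34)) :=
  Lgr Lrot131 (Lpe (f354711 IH) (Lpr_dt (f336031 IH) (Lpr_gf (f354725 IH) (Lpe (f185371 IH) (Lpe (K22.f185367 IH) (Lpe (K22.f185364 IH) (Lpe (K14.f250057 IH) (Lpr_gf (K15.f250191 IH) (Lpe (K10.f165407 IH) (Lpr_et (K15.f165887 IH) (Lpn (LP (LK LD1_c2 LD2_c29 LD3_c34)))))))))))))
theorem f166711 : Led Lsl_ct (LP (LK LD1_c2 LD2_c29 LD3_c27)) = (LP (LK LD1_c5 LD2_c4 LD3_c1)) :=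
  Lre_c IH (LK LD1_c2 LD2_c29 LD3_c27) (LK LD1_c5 LD2_c4 LD3_c1) Lrfl Lrfl
theorem f342433 : Led Lsl_gf (LP (LK LD1_c8 LD2_c11 LD3_c59)) = (LP (LK LD1_c5 LD2_c10 LD3_c49)) :=
  Lgr Lrot134 (Lpe (K23.f226072 IH) (Lpr_et (K23.f342427 IH) (Lpr_gt (K23.f177566 IH) (Lpe (K10.f177370 IH) (Lpr_dt (K10.f177368 IH) (Lpr_gt (K14.f253519 IH) (Lpe (K19.f253498 IH) (Lpr_et (K14.f248706 IH) (Lpr_gt (K22.f253527 IH) (Lpr_dt (f253530 IH) (Lpn (LP (LK LD1_c5 LD2_c10 LD3_c49)))))))))))))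
theorem f354719 : Led Lsl_gt (LP (LK LD1_c2 LD2_c32 LD3_c34)) = (LP (LK LD1_c2 LD2_c29 LD3_c27)) :=
  Lgr Lrot131 (Lpe (K14.f248683 IH) (Lpe (K21.f287828 IH) (Lpe (K17.f177462 IH) (Lpe (K10.f177373 IH) (Lpe (K23.f177566 IH) (Lpe (K23.f342427 IH) (Lpr_dt (K23.f226072 IH) (Lpr_gf (f342433 IH) (Lpe (f253530 IH) (Lpr_et (f354713 IH) (Lpn (LP (LK LD1_c2 LD2_c29 LD3_c27)))))))))))))
theorem f171349 : Led Lsl_et (LP (LK LD1_c2 LD2_c6 LD3_c51)) = (LP (LK LD1_c4 LD2_c19 LD3_c3)) :=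
  Lre_e IH (LK LD1_c2 LD2_c6 LD3_c51) (LK LD1_c4 LD2_c19 LD3_c3) Lrfl Lrfl
theorem f21329 : Led Lsl_gt (LP (LK LD1_c1 LD2_c13 LD3_c3)) = (LP (LK LD1_c2 LD2_c32 LD3_c3)) :=
  Lre_g IH (LK LD1_c1 LD2_c13 LD3_c3) (LK LD1_c2 LD2_c32 LD3_c3) Lrfl Lrfl
theorem f166479 : Led Lsl_gt (LP (LK LD1_c2 LD2_c3 LD3_c39)) = (LP (LK LD1_c0 LD2_c58 LD3_c45)) :=
  Lre_g IH (LK LD1_c2 LD2_c3 LD3_c39) (LK LD1_c0 LD2_c58 LD3_c45) Lrfl Lrfl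
theorem f166720 : Led Lsl_dt (LP (LK LD1_c2 LD2_c32 LD3_c3)) = (LP (LK LD1_c2 LD2_c3 LD3_c39)) :=
  Lgr Lrot171 (Lpe (f21329 IH) (Lpe (K19.f21328 IH) (Lpr_dt (K10.f21327 IH) (Lpe (K9.f21326 IH) (Lpe (K8.f21325 IH) (Lpr_et (K0.f21281 IH) (Lpe (K8.f3102 IH) (Lpe (K19.f21330 IH) (Lpr_dt (K10.f166688 IH) (Lpe (f166479 IH) (Lpn (LP (LK LD1_c2 LD2_c3 LD3_c39)))))))))))))
theorem f166739 : Led Lsl_et (LP (LK LD1_c2 LD2_c32 LD3_c3)) = (LP (LK LD1_c2 LD2_c28 LD3_c54)) :=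
  Lgr Lrot122 (Lpr_dt (f166720 IH) (Lpr_gt (f166479 IH) (Lpe (K10.f166688 IH) (Lpr_et (K19.f21330 IH) (Lpr_gt (K8.f3102 IH) (Lpr_dt (K0.f3134 IH) (Lpr_gt (K8.f3145 IH) (Lpe (K9.f21993 IH) (Lpr_et (K11.f21994 IH) (Lpr_gt (K19.f21995 IH) (Lpn (LP (LK LD1_c2 LD2_c28 LD3_c54)))))))))))))
theorem f166728 : Led Lsl_df (LP (LK LD1_c2 LD2_c32 LD3_c3)) = (LP (LK LD1_c2 LD2_c3 LD3_c39)) :=
  Lgr Lrot38 (Lpr_dt (f166720 IH) (Lpn (LP (LK LD1_c2 LD2_c3 LD3_c39))))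
theorem f166480 : Led Lsl_et (LP (LK LD1_c4 LD2_c12 LD3_c52)) = (LP (LK LD1_c2 LD2_c3 LD3_c39)) :=
  Lre_e IH (LK LD1_c4 LD2_c12 LD3_c52) (LK LD1_c2 LD2_c3 LD3_c39) Lrfl Lrfl
theorem f171350 : Led Lsl_dt (LP (LK LD1_c4 LD2_c19 LD3_c3)) = (LP (LK LD1_c4 LD2_c12 LD3_c52)) :=
  Lgr Lrot77 (Lpe (f171349 IH) (Lpr_df (K19.f171342 IH) (Lpe (f166739 IH) (Lpr_df (f166728 IH) (Lpe (f166480 IH) (Lpn (LP (LK LD1_c4 LD2_c12 LD3_c52))))))))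
theorem f171359 : Led Lsl_df (LP (LK LD1_c4 LD2_c19 LD3_c3)) = (LP (LK LD1_c4 LD2_c12 LD3_c52)) :=
  Lgr Lrot38 (Lpr_dt (f171350 IH) (Lpn (LP (LK LD1_c4 LD2_c12 LD3_c52))))
theorem f1537 : Led Lsl_dt (LP (LK LD1_c2 LD2_c24 LD3_c6)) = (LP (LK LD1_c4 LD2_c52 LD3_c44)) :=
  Lre_d IH (LK LD1_c2 LD2_c24 LD3_c6) (LK LD1_c4 LD2_c52 LD3_c44) Lrfl Lrfl
theorem f171372 : Led Lsl_gf (LP (LK LD1_c4 LD2_c19 LD3_c3)) = (LP (LK LD1_c4 LD2_c52 LD3_c44)) :=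
  Lgr Lrot134 (Lpr_df (f171359 IH) (Lpr_et (f166480 IH) (Lpr_gt (f166479 IH) (Lpe (K19.f166478 IH) (Lpr_dt (K9.f53324 IH) (Lpr_gt (K9.f166442 IH) (Lpe (K0.f282 IH) (Lpr_et (K0.f1522 IH) (Lpr_gt (K21.f1536 IH) (Lpr_dt (f1537 IH) (Lpn (LP (LK LD1_c4 LD2_c52 LD3_c44)))))))))))))
theorem f306952 : Led Lsl_gt (LP (LK LD1_c4 LD2_c52 LD3_c17)) = (LP (LK LD1_c5 LD2_c39 LD3_c50)) :=
  Lgr Lrot139 (Lpe (K21.f306911 IH) (Lpe (K19.f306937 IH) (Lpr_ef (K19.f304942 IH) (Lpr_dt (K19.f306941 IH) (Lpe (K19.f300205 IH) (Lpe (K19.f171347 IH) (Lpr_et (f171349 IH) (Lpr_gf (f171372 IH) (Lpe (K21.f170092 IH) (Lpr_dt (f170082 IH) (Lpn (LP (LK LD1_c5 LD2_c39 LD3_c50)))))))))))))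
theorem f178461 : Led Lsl_dt (LP (LK LD1_c3 LD2_c58 LD3_c50)) = (LP (LK LD1_c5 LD2_c36 LD3_c27)) :=
  Lgr Lrot42 (Lpr_df (K19.f178459 IH) (Lpn (LP (LK LD1_c5 LD2_c36 LD3_c27))))
theorem f168894 : Led Lsl_dt (LP (LK LD1_c1 LD2_c10 LD3_c6)) = (LP (LK LD1_c1 LD2_c25 LD3_c32)) :=
  Lgr Lrot42 (Lpr_df (K14.f168883 IH) (Lpn (LP (LK LD1_c1 LD2_c25 LD3_c32))))
theorem f168901 : Led Lsl_gt (LP (LK LD1_c2 LD2_c59 LD3_c41)) = (LP (LK LD1_c1 LD2_c25 LD3_c32)) :=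
  Lre_g IH (LK LD1_c2 LD2_c59 LD3_c41) (LK LD1_c1 LD2_c25 LD3_c32) Lrfl Lrfl
theorem f169010 : Led Lsl_df (LP (LK LD1_c2 LD2_c59 LD3_c41)) = (LP (LK LD1_c2 LD2_c59 LD3_c40)) :=
  Lgr Lrot135 (Lpr_gt (f168901 IH) (Lpe (f168894 IH) (Lpr_et (K14.f41085 IH) (Lpr_gt (K9.f28238 IH) (Lpe (K1.f55313 IH) (Lpr_dt (K2.f55329 IH) (Lpr_gt (K9.f168994 IH) (Lpe (K9.f168977 IH) (Lpr_et (K14.f168882 IH) (Lpr_gt (K24.f168902 IH) (Lpn (LP (LK LD1_c2 LD2_c59 LD3_c40)))))))))))))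
theorem f169016 : Led Lsl_dt (LP (LK LD1_c2 LD2_c59 LD3_c41)) = (LP (LK LD1_c2 LD2_c59 LD3_c40)) :=
  Lgr Lrot42 (Lpr_df (f169010 IH) (Lpn (LP (LK LD1_c2 LD2_c59 LD3_c40))))
theorem f169018 : Led Lsl_et (LP (LK LD1_c2 LD2_c59 LD3_c41)) = (LP (LK LD1_c6 LD2_c7 LD3_c9)) :=
  Lre_e IH (LK LD1_c2 LD2_c59 LD3_c41) (LK LD1_c6 LD2_c7 LD3_c9) Lrfl Lrfl
theorem f178464 : Led Lsl_gt (LP (LK LD1_c6 LD2_c7 LD3_c9)) = (LP (LK LD1_c5 LD2_c36 LD3_c27)) :=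
  Lgr Lrot137 (Lpe (f169018 IH) (Lpr_dt (f169016 IH) (Lpe (K24.f168902 IH) (Lpe (f168894 IH) (Lpr_et (K14.f41085 IH) (Lpe (K9.f41074 IH) (Lpe (K1.f41084 IH) (Lpe (K1.f41321 IH) (Lpe (K19.f41328 IH) (Lpr_df (K19.f178459 IH) (Lpn (LP (LK LD1_c5 LD2_c36 LD3_c27)))))))))))))
theorem f169021 : Led Lsl_ef (LP (LK LD1_c2 LD2_c12 LD3_c25)) = (LP (LK LD1_c2 LD2_c59 LD3_c40)) :=
  Lgr Lrot17 (Lpe (K24.f167857 IH) (Lpe (K24.f167856 IH) (Lpr_dt (K12.f167855 IH) (Lpe (K9.f167832 IH) (Lpe (K1.f40993 IH) (Lpe (K9.f28238 IH) (Lpe (K14.f41085 IH) (Lpr_dt (f168894 IH) (Lpe (f168901 IH) (Lpr_df (f169010 IH) (Lpn (LP (LK LD1_c2 LD2_c59 LD3_c40)))))))))))))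
theorem f167887 : Led Lsl_et (LP (LK LD1_c2 LD2_c12 LD3_c26)) = (LP (LK LD1_c4 LD2_c30 LD3_c61)) :=
  Lre_e IH (LK LD1_c2 LD2_c12 LD3_c26) (LK LD1_c4 LD2_c30 LD3_c61) Lrfl Lrfl
theorem f168905 : Led Lsl_et (LP (LK LD1_c6 LD2_c7 LD3_c9)) = (LP (LK LD1_c2 LD2_c59 LD3_c41)) :=
  Lre_e IH (LK LD1_c6 LD2_c7 LD3_c9) (LK LD1_c2 LD2_c59 LD3_c41) Lrfl Lrfl
theorem f169025 : Led Lsl_dt (LP (LK LD1_c4 LD2_c30 LD3_c61)) = (LP (LK LD1_c6 LD2_c7 LD3_c9)) :=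
  Lgr Lrot77 (Lpe (f167887 IH) (Lpe (K24.f167879 IH) (Lpr_ef (f169021 IH) (Lpe (f169016 IH) (Lpe (f168905 IH) (Lpn (LP (LK LD1_c6 LD2_c7 LD3_c9))))))))
theorem f169008 : Led Lsl_et (LP (LK LD1_c2 LD2_c12 LD3_c25)) = (LP (LK LD1_c2 LD2_c59 LD3_c40)) :=
  Lgr Lrot122 (Lpr_dt (K24.f167879 IH) (Lpr_gt (K24.f167878 IH) (Lpe (K24.f167867 IH) (Lpr_et (K24.f167861 IH) (Lpr_gt (K9.f28226 IH) (Lpr_dt (K2.f55329 IH) (Lpr_gt (K9.f168994 IH) (Lpe (K9.f168977 IH) (Lpr_et (K14.f168882 IH) (Lpr_gt (K24.f168902 IH) (Lpn (LP (LK LD1_c2 LD2_c59 LD3_c40)))))))))))))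
theorem f167892 : Led Lsl_et (LP (LK LD1_c4 LD2_c30 LD3_c61)) = (LP (LK LD1_c2 LD2_c12 LD3_c26)) :=
  Lre_e IH (LK LD1_c4 LD2_c30 LD3_c61) (LK LD1_c2 LD2_c12 LD3_c26) Lrfl Lrfl
theorem f169019 : Led Lsl_dt (LP (LK LD1_c6 LD2_c7 LD3_c9)) = (LP (LK LD1_c4 LD2_c30 LD3_c61)) :=
  Lgr Lrot77 (Lpe (f169018 IH) (Lpr_df (f169010 IH) (Lpe (f169008 IH) (Lpr_df (K24.f167885 IH) (Lpe (f167892 IH) (Lpn (LP (LK LD1_c4 LD2_c30 LD3_c61))))))))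
theorem f169057 : Led Lsl_gt (LP (LK LD1_c4 LD2_c56 LD3_c32)) = (LP (LK LD1_c4 LD2_c30 LD3_c61)) :=
  Lgr Lrot139 (Lpe (K13.f54879 IH) (Lpr_gf (K13.f54869 IH) (Lpe (K9.f47911 IH) (Lpr_dt (K2.f47910 IH) (Lpr_gf (K9.f168996 IH) (Lpe (K9.f168977 IH) (Lpr_et (K14.f168882 IH) (Lpe (f168901 IH) (Lpe (f168905 IH) (Lpr_dt (f169019 IH) (Lpn (LP (LK LD1_c4 LD2_c30 LD3_c61)))))))))))))
theorem f337133 : Led Lsl_df (LP (LK LD1_c4 LD2_c52 LD3_c45)) = (LP (LK LD1_c4 LD2_c6 LD3_c57)) :=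
  Lgr Lrot70 (Lpr_et (K22.f2789 IH) (Lpr_dt (f1537 IH) (Lpe (K21.f170085 IH) (Lpr_dt (f170082 IH) (Lpr_et (K22.f337129 IH) (Lpn (LP (LK LD1_c4 LD2_c6 LD3_c57))))))))
theorem f337144 : Led Lsl_gf (LP (LK LD1_c4 LD2_c53 LD3_c28)) = (LP (LK LD1_c4 LD2_c52 LD3_c45)) :=
  Lgr Lrot145 (Lpe (K13.f179976 IH) (Lpr_et (K22.f180010 IH) (Lpr_gt (f169057 IH) (Lpr_dt (f169025 IH) (Lpr_gt (f178464 IH) (Lpe (f178461 IH) (Lpr_et (K19.f306915 IH) (Lpr_gt (f306952 IH) (Lpr_ef (K22.f337135 IH) (Lpe (f337133 IH) (Lpn (LP (LK LD1_c4 LD2_c52 LD3_c45)))))))))))))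
theorem f171390 : Led Lsl_gt (LP (LK LD1_c4 LD2_c19 LD3_c3)) = (LP (LK LD1_c4 LD2_c52 LD3_c44)) :=
  Lgr Lrot137 (Lpe (f171349 IH) (Lpr_dt (K19.f171347 IH) (Lpe (K19.f21995 IH) (Lpr_df (K11.f166592 IH) (Lpr_et (K11.f2790 IH) (Lpe (K9.f2214 IH) (Lpe (K0.f1523 IH) (Lpr_dt (K0.f1524 IH) (Lpe (K21.f2784 IH) (Lpe (K21.f1540 IH) (Lpn (LP (LK LD1_c4 LD2_c52 LD3_c44)))))))))))))
theorem f337147 : Led Lsl_gt (LP (LK LD1_c2 LD2_c6 LD3_c52)) = (LP (LK LD1_c2 LD2_c3 LD3_c39)) :=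
  Lgr Lrot131 (Lpr_ef (K19.f271152 IH) (Lpe (K19.f228861 IH) (Lpe (K21.f287814 IH) (Lpr_df (K13.f179972 IH) (Lpr_gf (f337144 IH) (Lpe (K22.f170100 IH) (Lpr_dt (f1537 IH) (Lpe (f171390 IH) (Lpr_df (f171359 IH) (Lpr_et (f166480 IH) (Lpn (LP (LK LD1_c2 LD2_c3 LD3_c39)))))))))))))
theorem f166727 : Led Lsl_ct (LP (LK LD1_c2 LD2_c3 LD3_c39)) = (LP (LK LD1_c4 LD2_c12 LD3_c51)) :=
  Lre_c IH (LK LD1_c2 LD2_c3 LD3_c39) (LK LD1_c4 LD2_c12 LD3_c51) Lrfl Lrfl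
theorem f169347 : Led Lsl_ct (LP (LK LD1_c2 LD2_c5 LD3_c54)) = (LP (LK LD1_c0 LD2_c59 LD3_c57)) :=
  Lre_c IH (LK LD1_c2 LD2_c5 LD3_c54) (LK LD1_c0 LD2_c59 LD3_c57) Lrfl Lrfl
theorem f354733 : Led Lsl_gt (LP (LK LD1_c4 LD2_c12 LD3_c51)) = (LP (LK LD1_c2 LD2_c5 LD3_c54)) :=
  Lgr Lrot150 (Lpe (f166727 IH) (Lpe (f337147 IH) (Lpr_df (K12.f171400 IH) (Lpr_gt (f354719 IH) (Lpr_ct (f166711 IH) (Lpr_gt (f354729 IH) (Lpe (K15.f165888 IH) (Lpe (K20.f169342 IH) (Lpe (f169347 IH) (Lpn (LP (LK LD1_c2 LD2_c5 LD3_c54))))))))))))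
theorem f166723 : Led Lsl_bt (LP (LK LD1_c2 LD2_c3 LD3_c39)) = (LP (LK LD1_c4 LD2_c12 LD3_c50)) :=
  Lre_b IH (LK LD1_c2 LD2_c3 LD3_c39) (LK LD1_c4 LD2_c12 LD3_c50) Lrfl Lrfl
theorem f354763 : Led Lsl_gf (LP (LK LD1_c4 LD2_c12 LD3_c50)) = (LP (LK LD1_c7 LD2_c56 LD3_c11)) :=
  Lgr Lrot124 (Lpe (f166723 IH) (Lpr_ct (f166727 IH) (Lpr_gt (f354733 IH) (Lpe (K22.f169341 IH) (Lpr_bt (K21.f169338 IH) (Lpr_gt (K20.f169386 IH) (Lpr_ct (K20.f169392 IH) (Lpr_gt (K20.f169393 IH) (Lpe (f321125 IH) (Lpr_bt (K17.f229548 IH) (Lpn (LP (LK LD1_c7 LD2_c56 LD3_c11)))))))))))))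
theorem f166799 : Led Lsl_et (LP (LK LD1_c8 LD2_c25 LD3_c4)) = (LP (LK LD1_c4 LD2_c12 LD3_c50)) :=
  Lre_e IH (LK LD1_c8 LD2_c25 LD3_c4) (LK LD1_c4 LD2_c12 LD3_c50) Lrfl Lrfl
theorem f171354 : Led Lsl_bt (LP (LK LD1_c8 LD2_c36 LD3_c41)) = (LP (LK LD1_c4 LD2_c19 LD3_c3)) :=
  Lre_b IH (LK LD1_c8 LD2_c36 LD3_c41) (LK LD1_c4 LD2_c19 LD3_c3) Lrfl Lrfl
theorem f171355 : Led Lsl_bt (LP (LK LD1_c4 LD2_c12 LD3_c52)) = (LP (LK LD1_c8 LD2_c25 LD3_c4)) :=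
  Lre_b IH (LK LD1_c4 LD2_c12 LD3_c52) (LK LD1_c8 LD2_c25 LD3_c4) Lrfl Lrfl
theorem f171356 : Led Lsl_df (LP (LK LD1_c8 LD2_c36 LD3_c41)) = (LP (LK LD1_c8 LD2_c25 LD3_c4)) :=
  Lgr Lrot12 (Lpr_bt (f171354 IH) (Lpr_dt (f171350 IH) (Lpr_bt (f171355 IH) (Lpn (LP (LK LD1_c8 LD2_c25 LD3_c4))))))
theorem f328104 : Led Lsl_gf (LP (LK LD1_c15 LD2_c22 LD3_c18)) = (LP (LK LD1_c9 LD2_c36 LD3_c29)) :=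
  Lgr Lrot144 (Lpr_dt (K14.f238343 IH) (Lpe (K18.f297993 IH) (Lpr_dt (K12.f200497 IH) (Lpe (K19.f200494 IH) (Lpe (K20.f200495 IH) (Lpr_gf (K18.f298022 IH) (Lpr_df (K19.f310483 IH) (Lpr_gf (K21.f328092 IH) (Lpe (K21.f279793 IH) (Lpn (LP (LK LD1_c9 LD2_c36 LD3_c29))))))))))))
theorem f1560 : Led Lsl_dt (LP (LK LD1_c4 LD2_c52 LD3_c4)) = (LP (LK LD1_c9 LD2_c36 LD3_c28)) :=
  Lre_d IH (LK LD1_c4 LD2_c52 LD3_c4) (LK LD1_c9 LD2_c36 LD3_c28) Lrfl Lrfl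
theorem f354770 : Led Lsl_gt (LP (LK LD1_c8 LD2_c36 LD3_c41)) = (LP (LK LD1_c9 LD2_c36 LD3_c28)) :=
  Lgr Lrot112 (Lpr_df (f171356 IH) (Lpr_et (f166799 IH) (Lpr_gf (f354763 IH) (Lpe (K23.f296928 IH) (Lpe (K12.f200450 IH) (Lpr_gf (K18.f297993 IH) (Lpe (K14.f238343 IH) (Lpr_gf (f328104 IH) (Lpe (K22.f315404 IH) (Lpr_dt (f1560 IH) (Lpn (LP (LK LD1_c9 LD2_c36 LD3_c28)))))))))))))
theorem f171374 : Led Lsl_ct (LP (LK LD1_c8 LD2_c36 LD3_c41)) = (LP (LK LD1_c16 LD2_c8 LD3_c8)) :=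
  Lre_c IH (LK LD1_c8 LD2_c36 LD3_c41) (LK LD1_c16 LD2_c8 LD3_c8) Lrfl Lrfl
theorem f354772 : Led Lsl_gt (LP (LK LD1_c16 LD2_c8 LD3_c8)) = (LP (LK LD1_c16 LD2_c18 LD3_c57)) :=
  Lgr Lrot94 (Lpe (f171374 IH) (Lpr_gt (f354770 IH) (Lpr_dt (K22.f1569 IH) (Lpr_gt (K21.f30686 IH) (Lpr_dt (K21.f29197 IH) (Lpe (K19.f29200 IH) (Lpe (K1.f29201 IH) (Lpr_gf (K23.f30653 IH) (Lpr_df (K23.f341515 IH) (Lpn (LP (LK LD1_c16 LD2_c18 LD3_c57))))))))))))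
theorem f39152 : Led Lsl_ct (LP (LK LD1_c16 LD2_c18 LD3_c57)) = (LP (LK LD1_c8 LD2_c42 LD3_c31)) :=
  Lre_c IH (LK LD1_c16 LD2_c18 LD3_c57) (LK LD1_c8 LD2_c42 LD3_c31) Lrfl Lrfl
theorem f39155 : Led Lsl_ct (LP (LK LD1_c8 LD2_c42 LD3_c30)) = (LP (LK LD1_c4 LD2_c22 LD3_c16)) :=
  Lre_c IH (LK LD1_c8 LD2_c42 LD3_c30) (LK LD1_c4 LD2_c22 LD3_c16) Lrfl Lrfl
theorem f354997 : Led Lsl_gf (LP (LK LD1_c8 LD2_c36 LD3_c41)) = (LP (LK LD1_c9 LD2_c36 LD3_c32)) :=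
  Lgr Lrot147 (Lpr_ct (f171374 IH) (Lpr_gt (f354772 IH) (Lpr_ct (f39152 IH) (Lpe (K22.f39151 IH) (Lpe (f39155 IH) (Lpr_gf (K19.f308743 IH) (Lpe (K1.f1545 IH) (Lpe (K18.f1557 IH) (Lpe (K18.f1558 IH) (Lpn (LP (LK LD1_c9 LD2_c36 LD3_c32))))))))))))
theorem f171369 : Led Lsl_bt (LP (LK LD1_c4 LD2_c19 LD3_c3)) = (LP (LK LD1_c8 LD2_c36 LD3_c41)) :=
  Lre_b IH (LK LD1_c4 LD2_c19 LD3_c3) (LK LD1_c8 LD2_c36 LD3_c41) Lrfl Lrfl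
theorem f171366 : Led Lsl_bt (LP (LK LD1_c8 LD2_c25 LD3_c4)) = (LP (LK LD1_c4 LD2_c12 LD3_c52)) :=
  Lre_b IH (LK LD1_c8 LD2_c25 LD3_c4) (LK LD1_c4 LD2_c12 LD3_c52) Lrfl Lrfl
theorem f171370 : Led Lsl_dt (LP (LK LD1_c8 LD2_c36 LD3_c41)) = (LP (LK LD1_c8 LD2_c25 LD3_c4)) :=
  Lgr Lrot79 (Lpe (f171369 IH) (Lpr_df (f171359 IH) (Lpe (f171366 IH) (Lpn (LP (LK LD1_c8 LD2_c25 LD3_c4))))))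
theorem f171377 : Led Lsl_et (LP (LK LD1_c4 LD2_c19 LD3_c2)) = (LP (LK LD1_c8 LD2_c36 LD3_c41)) :=
  Lre_e IH (LK LD1_c4 LD2_c19 LD3_c2) (LK LD1_c8 LD2_c36 LD3_c41) Lrfl Lrfl
theorem f171344 : Led Lsl_bt (LP (LK LD1_c2 LD2_c6 LD3_c51)) = (LP (LK LD1_c4 LD2_c19 LD3_c2)) :=
  Lre_b IH (LK LD1_c2 LD2_c6 LD3_c51) (LK LD1_c4 LD2_c19 LD3_c2) Lrfl Lrfl
theorem f166749 : Led Lsl_bt (LP (LK LD1_c5 LD2_c2 LD3_c42)) = (LP (LK LD1_c2 LD2_c28 LD3_c54)) :=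
  Lre_b IH (LK LD1_c5 LD2_c2 LD3_c42) (LK LD1_c2 LD2_c28 LD3_c54) Lrfl Lrfl
theorem f171345 : Led Lsl_dt (LP (LK LD1_c4 LD2_c19 LD3_c2)) = (LP (LK LD1_c5 LD2_c2 LD3_c42)) :=
  Lgr Lrot79 (Lpe (f171344 IH) (Lpr_df (K19.f171342 IH) (Lpe (f166749 IH) (Lpn (LP (LK LD1_c5 LD2_c2 LD3_c42))))))
theorem f354774 : Led Lsl_gf (LP (LK LD1_c5 LD2_c2 LD3_c42)) = (LP (LK LD1_c4 LD2_c1 LD3_c42)) :=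
  Lgr Lrot145 (Lpe (f171345 IH) (Lpr_et (f171377 IH) (Lpr_gt (f354770 IH) (Lpr_dt (K22.f1569 IH) (Lpr_gt (K21.f30686 IH) (Lpe (K21.f29197 IH) (Lpr_et (K9.f29196 IH) (Lpe (K12.f30683 IH) (Lpe (K16.f2452 IH) (Lpe (K16.f229260 IH) (Lpn (LP (LK LD1_c4 LD2_c1 LD3_c42)))))))))))))
theorem f166722 : Led Lsl_bt (LP (LK LD1_c5 LD2_c9 LD3_c61)) = (LP (LK LD1_c2 LD2_c32 LD3_c3)) :=
  Lre_b IH (LK LD1_c5 LD2_c9 LD3_c61) (LK LD1_c2 LD2_c32 LD3_c3) Lrfl Lrfl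
theorem f166724 : Led Lsl_df (LP (LK LD1_c5 LD2_c9 LD3_c61)) = (LP (LK LD1_c4 LD2_c12 LD3_c50)) :=
  Lgr Lrot12 (Lpr_bt (f166722 IH) (Lpr_dt (f166720 IH) (Lpr_bt (f166723 IH) (Lpn (LP (LK LD1_c4 LD2_c12 LD3_c50))))))
theorem f166746 : Led Lsl_ef (LP (LK LD1_c2 LD2_c32 LD3_c3)) = (LP (LK LD1_c2 LD2_c28 LD3_c54)) :=
  Lgr Lrot88 (Lpr_et (f166739 IH) (Lpn (LP (LK LD1_c2 LD2_c28 LD3_c54))))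
theorem f166748 : Led Lsl_bt (LP (LK LD1_c2 LD2_c32 LD3_c3)) = (LP (LK LD1_c5 LD2_c9 LD3_c61)) :=
  Lre_b IH (LK LD1_c2 LD2_c32 LD3_c3) (LK LD1_c5 LD2_c9 LD3_c61) Lrfl Lrfl
theorem f166750 : Led Lsl_et (LP (LK LD1_c5 LD2_c9 LD3_c61)) = (LP (LK LD1_c5 LD2_c2 LD3_c42)) :=
  Lgr Lrot74 (Lpe (f166748 IH) (Lpr_ef (f166746 IH) (Lpe (f166749 IH) (Lpn (LP (LK LD1_c5 LD2_c2 LD3_c42))))))
theorem f171378 : Led Lsl_df (LP (LK LD1_c4 LD2_c19 LD3_c2)) = (LP (LK LD1_c5 LD2_c2 LD3_c42)) :=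
  Lgr Lrot70 (Lpr_et (f171377 IH) (Lpr_dt (f171370 IH) (Lpr_et (f166799 IH) (Lpe (f166724 IH) (Lpr_et (f166750 IH) (Lpn (LP (LK LD1_c5 LD2_c2 LD3_c42))))))))
theorem f33852 : Led Lsl_et (LP (LK LD1_c0 LD2_c55 LD3_c48)) = (LP (LK LD1_c1 LD2_c11 LD3_c18)) :=
  Lgr Lrot158 (Lpe (K0.f33674 IH) (Lpr_ef (K0.f33842 IH) (Lpe (K0.f3317 IH) (Lpn (LP (LK LD1_c1 LD2_c11 LD3_c18))))))
theorem f354782 : Led Lsl_gt (LP (LK LD1_c4 LD2_c19 LD3_c2)) = (LP (LK LD1_c2 LD2_c23 LD3_c26)) :=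
  Lgr Lrot139 (Lpr_df (f171378 IH) (Lpr_gf (f354774 IH) (Lpe (K22.f184660 IH) (Lpr_dt (K12.f182047 IH) (Lpe (K10.f33560 IH) (Lpe (K0.f33553 IH) (Lpr_et (f33852 IH) (Lpe (K10.f33350 IH) (Lpe (K23.f33373 IH) (Lpr_dt (K22.f33374 IH) (Lpn (LP (LK LD1_c2 LD2_c23 LD3_c26)))))))))))))
theorem f166741 : Led Lsl_bt (LP (LK LD1_c2 LD2_c28 LD3_c54)) = (LP (LK LD1_c5 LD2_c2 LD3_c42)) :=
  Lre_b IH (LK LD1_c2 LD2_c28 LD3_c54) (LK LD1_c5 LD2_c2 LD3_c42) Lrfl Lrfl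
theorem f166742 : Led Lsl_ef (LP (LK LD1_c5 LD2_c9 LD3_c61)) = (LP (LK LD1_c5 LD2_c2 LD3_c42)) :=
  Lgr Lrot29 (Lpr_bt (f166722 IH) (Lpr_et (f166739 IH) (Lpr_bt (f166741 IH) (Lpn (LP (LK LD1_c5 LD2_c2 LD3_c42))))))
theorem f354794 : Led Lsl_gf (LP (LK LD1_c5 LD2_c9 LD3_c61)) = (LP (LK LD1_c4 LD2_c51 LD3_c47)) :=
  Lgr Lrot141 (Lpr_ef (f166742 IH) (Lpe (f171378 IH) (Lpr_gt (f354782 IH) (Lpe (K22.f33374 IH) (Lpr_et (K23.f33373 IH) (Lpr_gt (K10.f33350 IH) (Lpr_dt (K0.f3348 IH) (Lpr_gt (K10.f3720 IH) (Lpe (K13.f3336 IH) (Lpe (K13.f238235 IH) (Lpn (LP (LK LD1_c4 LD2_c51 LD3_c47)))))))))))))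
theorem f166804 : Led Lsl_et (LP (LK LD1_c4 LD2_c12 LD3_c50)) = (LP (LK LD1_c8 LD2_c25 LD3_c4)) :=
  Lre_e IH (LK LD1_c4 LD2_c12 LD3_c50) (LK LD1_c8 LD2_c25 LD3_c4) Lrfl Lrfl
theorem f1584 : Led Lsl_gt (LP (LK LD1_c2 LD2_c23 LD3_c19)) = (LP (LK LD1_c1 LD2_c8 LD3_c56)) :=
  Lre_g IH (LK LD1_c2 LD2_c23 LD3_c19) (LK LD1_c1 LD2_c8 LD3_c56) Lrfl Lrfl
theorem f354800 : Led Lsl_gt (LP (LK LD1_c8 LD2_c25 LD3_c4)) = (LP (LK LD1_c9 LD2_c38 LD3_c37)) :=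
  Lgr Lrot137 (Lpe (f166804 IH) (Lpe (f166724 IH) (Lpr_gf (f354794 IH) (Lpe (K13.f1586 IH) (Lpr_et (K22.f1585 IH) (Lpe (f1584 IH) (Lpe (K0.f1579 IH) (Lpr_dt (K0.f1543 IH) (Lpr_gf (K23.f2463 IH) (Lpe (K19.f2424 IH) (Lpn (LP (LK LD1_c9 LD2_c38 LD3_c37)))))))))))))
theorem f171382 : Led Lsl_gt (LP (LK LD1_c8 LD2_c36 LD3_c38)) = (LP (LK LD1_c4 LD2_c19 LD3_c2)) :=
  Lre_g IH (LK LD1_c8 LD2_c36 LD3_c38) (LK LD1_c4 LD2_c19 LD3_c2) Lrfl Lrfl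
theorem f328061 : Led Lsl_af (LP (LK LD1_c2 LD2_c23 LD3_c26)) = (LP (LK LD1_c4 LD2_c50 LD3_c50)) :=
  Lgr Lrot117 (Lpr_dt (K10.f191683 IH) (Lpr_at (K21.f327985 IH) (Lpe (K21.f33310 IH) (Lpn (LP (LK LD1_c4 LD2_c50 LD3_c50))))))
theorem f354784 : Led Lsl_ft (LP (LK LD1_c8 LD2_c36 LD3_c38)) = (LP (LK LD1_c4 LD2_c50 LD3_c50)) :=
  Lgr Lrot2 (Lpr_gt (f171382 IH) (Lpr_gt (f354782 IH) (Lpr_af (f328061 IH) (Lpn (LP (LK LD1_c4 LD2_c50 LD3_c50))))))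
theorem f327927 : Led Lsl_ff (LP (LK LD1_c1 LD2_c8 LD3_c53)) = (LP (LK LD1_c2 LD2_c23 LD3_c12)) :=
  Lgr Lrot23 (Lpr_ct (K13.f29186 IH) (Lpr_ft (K21.f327921 IH) (Lpr_ct (K13.f167345 IH) (Lpn (LP (LK LD1_c2 LD2_c23 LD3_c12))))))
theorem f354867 : Led Lsl_ef (LP (LK LD1_c8 LD2_c36 LD3_c38)) = (LP (LK LD1_c4 LD2_c51 LD3_c30)) :=
  Lgr Lrot21 (Lpr_ft (f354784 IH) (Lpr_et (K21.f33308 IH) (Lpe (f327927 IH) (Lpr_et (K21.f2455 IH) (Lpr_ft (K15.f238102 IH) (Lpn (LP (LK LD1_c4 LD2_c51 LD3_c30))))))))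
theorem f171381 : Led Lsl_et (LP (LK LD1_c8 LD2_c36 LD3_c41)) = (LP (LK LD1_c4 LD2_c19 LD3_c2)) :=
  Lre_e IH (LK LD1_c8 LD2_c36 LD3_c41) (LK LD1_c4 LD2_c19 LD3_c2) Lrfl Lrfl
theorem f354975 : Led Lsl_gt (LP (LK LD1_c9 LD2_c38 LD3_c38)) = (LP (LK LD1_c11 LD2_c3 LD3_c8)) :=
  Lgr Lrot137 (Lpe (K19.f298941 IH) (Lpr_dt (K19.f2416 IH) (Lpe (f354800 IH) (Lpe (f171370 IH) (Lpr_et (f171381 IH) (Lpe (f171382 IH) (Lpr_ef (f354867 IH) (Lpe (K15.f238103 IH) (Lpr_gf (K20.f317265 IH) (Lpe (K14.f189427 IH) (Lpn (LP (LK LD1_c11 LD2_c3 LD3_c8)))))))))))))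
theorem f354999 : Led Lsl_gt (LP (LK LD1_c15 LD2_c6 LD3_c43)) = (LP (LK LD1_c15 LD2_c30 LD3_c7)) :=
  Lgr Lrot112 (Lpe (K21.f247101 IH) (Lpe (K14.f247102 IH) (Lpe (f354975 IH) (Lpe (K19.f298941 IH) (Lpr_dt (K19.f2416 IH) (Lpe (f354800 IH) (Lpe (f171370 IH) (Lpr_gf (f354997 IH) (Lpe (K18.f233948 IH) (Lpe (f314676 IH) (Lpn (LP (LK LD1_c15 LD2_c30 LD3_c7)))))))))))))
theorem f269905 : Led Lsl_ct (LP (LK LD1_c7 LD2_c55 LD3_c45)) = (LP (LK LD1_c14 LD2_c57 LD3_c26)) :=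
  Lre_c IH (LK LD1_c7 LD2_c55 LD3_c45) (LK LD1_c14 LD2_c57 LD3_c26) Lrfl Lrfl
theorem f270843 : Led Lsl_cf (LP (LK LD1_c4 LD2_c52 LD3_c58)) = (LP (LK LD1_c8 LD2_c41 LD3_c52)) :=
  Lgr Lrot1 (Lpr_at (K15.f247125 IH) (Lpr_ct (K16.f270841 IH) (Lpr_at (K22.f241677 IH) (Lpn (LP (LK LD1_c8 LD2_c41 LD3_c52))))))
theorem f312128 : Led Lsl_gt (LP (LK LD1_c14 LD2_c57 LD3_c26)) = (LP (LK LD1_c8 LD2_c41 LD3_c52)) :=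
  Lgr Lrot150 (Lpe (f269905 IH) (Lpe (K20.f227959 IH) (Lpe (K20.f274528 IH) (Lpr_gt (K19.f312122 IH) (Lpr_ct (K23.f279474 IH) (Lpe (K20.f300915 IH) (Lpr_ct (K18.f239866 IH) (Lpr_df (K16.f239871 IH) (Lpr_cf (f270843 IH) (Lpn (LP (LK LD1_c8 LD2_c41 LD3_c52))))))))))))
theorem f312130 : Led Lsl_gf (LP (LK LD1_c14 LD2_c57 LD3_c26)) = (LP (LK LD1_c7 LD2_c55 LD3_c52)) :=
  Lgr Lrot47 (Lpr_gt (f312128 IH) (Lpe (K22.f241677 IH) (Lpe (K16.f241654 IH) (Lpn (LP (LK LD1_c7 LD2_c55 LD3_c52))))))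
theorem f269903 : Led Lsl_ct (LP (LK LD1_c14 LD2_c57 LD3_c26)) = (LP (LK LD1_c7 LD2_c55 LD3_c45)) :=
  Lre_c IH (LK LD1_c14 LD2_c57 LD3_c26) (LK LD1_c7 LD2_c55 LD3_c45) Lrfl Lrfl
theorem f314738 : Led Lsl_ct (LP (LK LD1_c15 LD2_c30 LD3_c7)) = (LP (LK LD1_c25 LD2_c23 LD3_c26)) :=
  Lre_c IH (LK LD1_c15 LD2_c30 LD3_c7) (LK LD1_c25 LD2_c23 LD3_c26) Lrfl Lrfl
theorem f355001 : Led Lsl_gf (LP (LK LD1_c24 LD2_c44 LD3_c60)) = (LP (LK LD1_c25 LD2_c23 LD3_c26)) :=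
  Lgr Lrot104 (Lpr_ct (K23.f275900 IH) (Lpe (K20.f227960 IH) (Lpe (f269903 IH) (Lpr_gf (f312130 IH) (Lpr_cf (K16.f236486 IH) (Lpe (K14.f211489 IH) (Lpe (K14.f247090 IH) (Lpr_gt (f354999 IH) (Lpr_ct (f314738 IH) (Lpn (LP (LK LD1_c25 LD2_c23 LD3_c26))))))))))))
theorem f190472 : Led Lsl_ct (LP (LK LD1_c19 LD2_c0 LD3_c35)) = (LP (LK LD1_c28 LD2_c27 LD3_c33)) :=
  Lre_c IH (LK LD1_c19 LD2_c0 LD3_c35) (LK LD1_c28 LD2_c27 LD3_c33) Lrfl Lrfl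
theorem f320921 : Led Lsl_et (LP (LK LD1_c28 LD2_c27 LD3_c33)) = (LP (LK LD1_c24 LD2_c44 LD3_c60)) :=
  Lgr Lrot158 (Lpe (f190472 IH) (Lpr_ef (K20.f320915 IH) (Lpe (K23.f275900 IH) (Lpn (LP (LK LD1_c24 LD2_c44 LD3_c60))))))
theorem f242321 : Led Lsl_ct (LP (LK LD1_c28 LD2_c27 LD3_c33)) = (LP (LK LD1_c19 LD2_c0 LD3_c35)) :=
  Lre_c IH (LK LD1_c28 LD2_c27 LD3_c33) (LK LD1_c19 LD2_c0 LD3_c35) Lrfl Lrfl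
theorem f278019 : Led Lsl_gt (LP (LK LD1_c11 LD2_c3 LD3_c22)) = (LP (LK LD1_c19 LD2_c55 LD3_c15)) :=
  Lre_g IH (LK LD1_c11 LD2_c3 LD3_c22) (LK LD1_c19 LD2_c55 LD3_c15) Lrfl Lrfl
theorem f316668 : Led Lsl_df (LP (LK LD1_c28 LD2_c27 LD3_c33)) = (LP (LK LD1_c19 LD2_c55 LD3_c15)) :=
  Lgr Lrot174 (Lpr_ct (f242321 IH) (Lpe (K23.f190471 IH) (Lpe (K20.f190470 IH) (Lpr_df (K20.f242317 IH) (Lpe (K20.f314311 IH) (Lpr_ct (K20.f316633 IH) (Lpr_gt (K20.f246958 IH) (Lpr_dt (K20.f199525 IH) (Lpr_gt (f278019 IH) (Lpn (LP (LK LD1_c19 LD2_c55 LD3_c15))))))))))))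
theorem f316670 : Led Lsl_dt (LP (LK LD1_c28 LD2_c27 LD3_c33)) = (LP (LK LD1_c19 LD2_c55 LD3_c15)) :=
  Lgr Lrot42 (Lpr_df (f316668 IH) (Lpn (LP (LK LD1_c19 LD2_c55 LD3_c15))))
theorem f314741 : Led Lsl_et (LP (LK LD1_c15 LD2_c30 LD3_c6)) = (LP (LK LD1_c25 LD2_c23 LD3_c26)) :=
  Lre_e IH (LK LD1_c15 LD2_c30 LD3_c6) (LK LD1_c25 LD2_c23 LD3_c26) Lrfl Lrfl
theorem f314663 : Led Lsl_dt (LP (LK LD1_c15 LD2_c30 LD3_c6)) = (LP (LK LD1_c25 LD2_c23 LD3_c25)) :=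
  Lre_d IH (LK LD1_c15 LD2_c30 LD3_c6) (LK LD1_c25 LD2_c23 LD3_c25) Lrfl Lrfl
theorem f325866 : Led Lsl_dt (LP (LK LD1_c16 LD2_c50 LD3_c11)) = (LP (LK LD1_c26 LD2_c47 LD3_c34)) :=
  Lre_d IH (LK LD1_c16 LD2_c50 LD3_c11) (LK LD1_c26 LD2_c47 LD3_c34) Lrfl Lrfl
theorem f195566 : Led Lsl_ct (LP (LK LD1_c15 LD2_c30 LD3_c6)) = (LP (LK LD1_c8 LD2_c14 LD3_c23)) :=
  Lre_c IH (LK LD1_c15 LD2_c30 LD3_c6) (LK LD1_c8 LD2_c14 LD3_c23) Lrfl Lrfl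
theorem f314670 : Led Lsl_dt (LP (LK LD1_c25 LD2_c23 LD3_c25)) = (LP (LK LD1_c15 LD2_c30 LD3_c6)) :=
  Lre_d IH (LK LD1_c25 LD2_c23 LD3_c25) (LK LD1_c15 LD2_c30 LD3_c6) Lrfl Lrfl
theorem f325873 : Led Lsl_gt (LP (LK LD1_c26 LD2_c47 LD3_c34)) = (LP (LK LD1_c25 LD2_c23 LD3_c25)) :=
  Lgr Lrot49 (Lpe (f325866 IH) (Lpr_gf (K24.f325870 IH) (Lpe (K24.f222308 IH) (Lpe (K22.f317251 IH) (Lpr_dt (K22.f238200 IH) (Lpr_gt (f314671 IH) (Lpe (K20.f314656 IH) (Lpe (f195566 IH) (Lpe (f314670 IH) (Lpn (LP (LK LD1_c25 LD2_c23 LD3_c25))))))))))))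
theorem f320629 : Led Lsl_ef (LP (LK LD1_c11 LD2_c3 LD3_c6)) = (LP (LK LD1_c10 LD2_c15 LD3_c56)) :=
  Lgr Lrot28 (Lpr_ct (K20.f222300 IH) (Lpe (K21.f317239 IH) (Lpr_ct (K20.f320622 IH) (Lpn (LP (LK LD1_c10 LD2_c15 LD3_c56))))))
theorem f201744 : Led Lsl_dt (LP (LK LD1_c10 LD2_c15 LD3_c56)) = (LP (LK LD1_c18 LD2_c40 LD3_c21)) :=
  Lre_d IH (LK LD1_c10 LD2_c15 LD3_c56) (LK LD1_c18 LD2_c40 LD3_c21) Lrfl Lrfl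
theorem f355032 : Led Lsl_gt (LP (LK LD1_c19 LD2_c55 LD3_c15)) = (LP (LK LD1_c18 LD2_c40 LD3_c21)) :=
  Lgr Lrot112 (Lpe (f316670 IH) (Lpr_et (f320921 IH) (Lpr_gf (f355001 IH) (Lpe (f314741 IH) (Lpr_dt (f314663 IH) (Lpe (f325873 IH) (Lpe (f325866 IH) (Lpr_gf (K24.f325870 IH) (Lpr_ef (f320629 IH) (Lpr_dt (f201744 IH) (Lpn (LP (LK LD1_c18 LD2_c40 LD3_c21)))))))))))))
theorem f246952 : Led Lsl_ft (LP (LK LD1_c11 LD2_c3 LD3_c22)) = (LP (LK LD1_c19 LD2_c55 LD3_c18)) :=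
  Lre_f IH (LK LD1_c11 LD2_c3 LD3_c22) (LK LD1_c19 LD2_c55 LD3_c18) Lrfl Lrfl
theorem f355034 : Led Lsl_at (LP (LK LD1_c19 LD2_c55 LD3_c18)) = (LP (LK LD1_c18 LD2_c40 LD3_c21)) :=
  Lgr Lrot26 (Lpe (f246952 IH) (Lpr_gt (f278019 IH) (Lpr_gt (f355032 IH) (Lpn (LP (LK LD1_c18 LD2_c40 LD3_c21))))))
theorem f355048 : Led Lsl_af (LP (LK LD1_c19 LD2_c55 LD3_c18)) = (LP (LK LD1_c18 LD2_c40 LD3_c21)) :=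
  Lgr Lrot0 (Lpr_at (f355034 IH) (Lpn (LP (LK LD1_c18 LD2_c40 LD3_c21))))
theorem f246974 : Led Lsl_ft (LP (LK LD1_c19 LD2_c55 LD3_c18)) = (LP (LK LD1_c11 LD2_c3 LD3_c22)) :=
  Lre_f IH (LK LD1_c19 LD2_c55 LD3_c18) (LK LD1_c11 LD2_c3 LD3_c22) Lrfl Lrfl
theorem f234265 : Led Lsl_dt (LP (LK LD1_c16 LD2_c50 LD3_c0)) = (LP (LK LD1_c9 LD2_c0 LD3_c34)) :=
  Lre_d IH (LK LD1_c16 LD2_c50 LD3_c0) (LK LD1_c9 LD2_c0 LD3_c34) Lrfl Lrfl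
theorem f320658 : Led Lsl_at (LP (LK LD1_c11 LD2_c3 LD3_c22)) = (LP (LK LD1_c16 LD2_c50 LD3_c0)) :=
  Lgr Lrot51 (Lpe (K20.f199525 IH) (Lpr_af (K20.f320650 IH) (Lpe (f234265 IH) (Lpn (LP (LK LD1_c16 LD2_c50 LD3_c0))))))
theorem f355054 : Led Lsl_ft (LP (LK LD1_c16 LD2_c50 LD3_c0)) = (LP (LK LD1_c18 LD2_c40 LD3_c21)) :=
  Lgr Lrot101 (Lpe (f320658 IH) (Lpe (f246974 IH) (Lpr_af (f355048 IH) (Lpn (LP (LK LD1_c18 LD2_c40 LD3_c21))))))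
theorem f316741 : Led Lsl_gt (LP (LK LD1_c16 LD2_c50 LD3_c0)) = (LP (LK LD1_c26 LD2_c47 LD3_c14)) :=
  Lre_g IH (LK LD1_c16 LD2_c50 LD3_c0) (LK LD1_c26 LD2_c47 LD3_c14) Lrfl Lrfl
theorem f355056 : Led Lsl_gf (LP (LK LD1_c19 LD2_c55 LD3_c18)) = (LP (LK LD1_c26 LD2_c47 LD3_c14)) :=
  Lgr Lrot76 (Lpr_af (f355048 IH) (Lpe (f355054 IH) (Lpr_gt (f316741 IH) (Lpn (LP (LK LD1_c26 LD2_c47 LD3_c14))))))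
theorem f246968 : Led Lsl_dt (LP (LK LD1_c19 LD2_c55 LD3_c18)) = (LP (LK LD1_c11 LD2_c3 LD3_c23)) :=
  Lre_d IH (LK LD1_c19 LD2_c55 LD3_c18) (LK LD1_c11 LD2_c3 LD3_c23) Lrfl Lrfl
theorem f310536 : Led Lsl_et (LP (LK LD1_c2 LD2_c38 LD3_c49)) = (LP (LK LD1_c5 LD2_c24 LD3_c32)) :=
  Lre_e IH (LK LD1_c2 LD2_c38 LD3_c49) (LK LD1_c5 LD2_c24 LD3_c32) Lrfl Lrfl
theorem f310526 : Led Lsl_gt (LP (LK LD1_c5 LD2_c24 LD3_c32)) = (LP (LK LD1_c10 LD2_c39 LD3_c45)) :=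
  Lre_g IH (LK LD1_c5 LD2_c24 LD3_c32) (LK LD1_c10 LD2_c39 LD3_c45) Lrfl Lrfl
theorem f316732 : Led Lsl_et (LP (LK LD1_c19 LD2_c18 LD3_c34)) = (LP (LK LD1_c10 LD2_c39 LD3_c45)) :=
  Lre_e IH (LK LD1_c19 LD2_c18 LD3_c34) (LK LD1_c10 LD2_c39 LD3_c45) Lrfl Lrfl
theorem f310665 : Led Lsl_gf (LP (LK LD1_c4 LD2_c31 LD3_c18)) = (LP (LK LD1_c5 LD2_c23 LD3_c24)) :=
  Lgr Lrot47 (Lpr_gt (K12.f187036 IH) (Lpr_af (K19.f310658 IH) (Lpe (K17.f235634 IH) (Lpn (LP (LK LD1_c5 LD2_c23 LD3_c24))))))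
theorem f310836 : Led Lsl_gt (LP (LK LD1_c28 LD2_c40 LD3_c52)) = (LP (LK LD1_c19 LD2_c14 LD3_c30)) :=
  Lre_g IH (LK LD1_c28 LD2_c40 LD3_c52) (LK LD1_c19 LD2_c14 LD3_c30) Lrfl Lrfl
theorem f316733 : Led Lsl_dt (LP (LK LD1_c19 LD2_c18 LD3_c34)) = (LP (LK LD1_c28 LD2_c40 LD3_c52)) :=
  Lgr Lrot136 (Lpr_et (f316732 IH) (Lpe (f310526 IH) (Lpe (f310536 IH) (Lpr_dt (K19.f194428 IH) (Lpr_gf (K20.f316710 IH) (Lpe (K22.f187044 IH) (Lpr_gf (f310665 IH) (Lpe (K17.f279463 IH) (Lpr_dt (K23.f279460 IH) (Lpe (f310836 IH) (Lpn (LP (LK LD1_c28 LD2_c40 LD3_c52)))))))))))))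
theorem f279449 : Led Lsl_ct (LP (LK LD1_c16 LD2_c16 LD3_c30)) = (LP (LK LD1_c8 LD2_c41 LD3_c19)) :=
  Lre_c IH (LK LD1_c16 LD2_c16 LD3_c30) (LK LD1_c8 LD2_c41 LD3_c19) Lrfl Lrfl
theorem f316738 : Led Lsl_gf (LP (LK LD1_c19 LD2_c18 LD3_c34)) = (LP (LK LD1_c16 LD2_c16 LD3_c30)) :=
  Lgr Lrot144 (Lpr_dt (f316733 IH) (Lpr_gt (f310836 IH) (Lpr_dt (K21.f255789 IH) (Lpe (K23.f279474 IH) (Lpe (K19.f308883 IH) (Lpr_gf (K19.f311307 IH) (Lpe (K19.f310538 IH) (Lpr_gf (K23.f310540 IH) (Lpe (f279449 IH) (Lpn (LP (LK LD1_c16 LD2_c16 LD3_c30))))))))))))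
theorem f316740 : Led Lsl_et (LP (LK LD1_c26 LD2_c14 LD3_c30)) = (LP (LK LD1_c16 LD2_c16 LD3_c30)) :=
  Lre_e IH (LK LD1_c26 LD2_c14 LD3_c30) (LK LD1_c16 LD2_c16 LD3_c30) Lrfl Lrfl
theorem f187050 : Led Lsl_et (LP (LK LD1_c9 LD2_c0 LD3_c34)) = (LP (LK LD1_c4 LD2_c31 LD3_c18)) :=
  Lre_e IH (LK LD1_c9 LD2_c0 LD3_c34) (LK LD1_c4 LD2_c31 LD3_c18) Lrfl Lrfl
theorem f187051 : Led Lsl_dt (LP (LK LD1_c9 LD2_c0 LD3_c34)) = (LP (LK LD1_c16 LD2_c50 LD3_c0)) :=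
  Lre_d IH (LK LD1_c9 LD2_c0 LD3_c34) (LK LD1_c16 LD2_c50 LD3_c0) Lrfl Lrfl
theorem f316742 : Led Lsl_dt (LP (LK LD1_c26 LD2_c14 LD3_c30)) = (LP (LK LD1_c26 LD2_c47 LD3_c14)) :=
  Lgr Lrot37 (Lpr_et (f316740 IH) (Lpe (f316738 IH) (Lpr_dt (f316733 IH) (Lpr_gt (f310836 IH) (Lpe (K23.f279460 IH) (Lpr_et (K17.f279463 IH) (Lpe (f310665 IH) (Lpe (f187050 IH) (Lpr_dt (f187051 IH) (Lpr_gt (f316741 IH) (Lpn (LP (LK LD1_c26 LD2_c47 LD3_c14)))))))))))))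
theorem f235408 : Led Lsl_ct (LP (LK LD1_c15 LD2_c53 LD3_c43)) = (LP (LK LD1_c25 LD2_c49 LD3_c41)) :=
  Lre_c IH (LK LD1_c15 LD2_c53 LD3_c43) (LK LD1_c25 LD2_c49 LD3_c41) Lrfl Lrfl
theorem f227255 : Led Lsl_ct (LP (LK LD1_c26 LD2_c14 LD3_c30)) = (LP (LK LD1_c16 LD2_c16 LD3_c31)) :=
  Lre_c IH (LK LD1_c26 LD2_c14 LD3_c30) (LK LD1_c16 LD2_c16 LD3_c31) Lrfl Lrfl
theorem f344890 : Led Lsl_gt (LP (LK LD1_c25 LD2_c49 LD3_c41)) = (LP (LK LD1_c26 LD2_c14 LD3_c30)) :=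
  Lgr Lrot150 (Lpe (f235408 IH) (Lpr_gf (K23.f332915 IH) (Lpe (K23.f311563 IH) (Lpr_gt (K19.f311544 IH) (Lpr_ct (K23.f247827 IH) (Lpr_gt (K23.f265982 IH) (Lpr_ct (f344883 IH) (Lpr_df (K23.f310543 IH) (Lpe (f227255 IH) (Lpn (LP (LK LD1_c26 LD2_c14 LD3_c30))))))))))))
theorem f355058 : Led Lsl_gf (LP (LK LD1_c9 LD2_c53 LD3_c38)) = (LP (LK LD1_c15 LD2_c53 LD3_c43)) :=
  Lgr Lrot144 (Lpr_dt (K23.f320587 IH) (Lpe (K23.f320584 IH) (Lpe (K20.f246949 IH) (Lpe (f246969 IH) (Lpe (f246968 IH) (Lpr_gf (f355056 IH) (Lpe (f316742 IH) (Lpe (f344890 IH) (Lpe (f235408 IH) (Lpn (LP (LK LD1_c15 LD2_c53 LD3_c43))))))))))))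
theorem f344981 : Led Lsl_df (LP (LK LD1_c10 LD2_c8 LD3_c48)) = (LP (LK LD1_c9 LD2_c57 LD3_c21)) :=
  Lgr Lrot38 (Lpr_dt (K23.f344972 IH) (Lpn (LP (LK LD1_c9 LD2_c57 LD3_c21))))
theorem f355062 : Led Lsl_gt (LP (LK LD1_c10 LD2_c8 LD3_c48)) = (LP (LK LD1_c9 LD2_c54 LD3_c49)) :=
  Lgr Lrot139 (Lpr_df (f344981 IH) (Lpe (K23.f344968 IH) (Lpr_ef (K16.f247033 IH) (Lpr_dt (K15.f247086 IH) (Lpe (K24.f247145 IH) (Lpe (K23.f239876 IH) (Lpe (K23.f346561 IH) (Lpr_gf (f355058 IH) (Lpe (K13.f235405 IH) (Lpr_dt (K23.f239531 IH) (Lpn (LP (LK LD1_c9 LD2_c54 LD3_c49)))))))))))))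
theorem f344978 : Led Lsl_et (LP (LK LD1_c5 LD2_c9 LD3_c6)) = (LP (LK LD1_c10 LD2_c8 LD3_c48)) :=
  Lre_e IH (LK LD1_c5 LD2_c9 LD3_c6) (LK LD1_c10 LD2_c8 LD3_c48) Lrfl Lrfl
theorem f193291 : Led Lsl_dt (LP (LK LD1_c4 LD2_c51 LD3_c47)) = (LP (LK LD1_c2 LD2_c23 LD3_c42)) :=
  Lre_d IH (LK LD1_c4 LD2_c51 LD3_c47) (LK LD1_c2 LD2_c23 LD3_c42) Lrfl Lrfl
theorem f193292 : Led Lsl_gt (LP (LK LD1_c2 LD2_c23 LD3_c42)) = (LP (LK LD1_c4 LD2_c51 LD3_c45)) :=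
  Lre_g IH (LK LD1_c2 LD2_c23 LD3_c42) (LK LD1_c4 LD2_c51 LD3_c45) Lrfl Lrfl
theorem f355064 : Led Lsl_dt (LP (LK LD1_c5 LD2_c9 LD3_c6)) = (LP (LK LD1_c4 LD2_c51 LD3_c45)) :=
  Lgr Lrot37 (Lpr_et (f344978 IH) (Lpr_gt (f355062 IH) (Lpe (K13.f239539 IH) (Lpr_gt (K13.f235385 IH) (Lpe (K13.f235380 IH) (Lpr_et (K13.f239548 IH) (Lpr_gt (K13.f3393 IH) (Lpe (K13.f238229 IH) (Lpr_dt (f193291 IH) (Lpr_gt (f193292 IH) (Lpn (LP (LK LD1_c4 LD2_c51 LD3_c45)))))))))))))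
theorem f315354 : Led Lsl_et (LP (LK LD1_c4 LD2_c51 LD3_c45)) = (LP (LK LD1_c9 LD2_c35 LD3_c42)) :=
  Lre_e IH (LK LD1_c4 LD2_c51 LD3_c45) (LK LD1_c9 LD2_c35 LD3_c42) Lrfl Lrfl
theorem f189409 : Led Lsl_gt (LP (LK LD1_c5 LD2_c35 LD3_c29)) = (LP (LK LD1_c2 LD2_c43 LD3_c41)) :=
  Lre_g IH (LK LD1_c5 LD2_c35 LD3_c29) (LK LD1_c2 LD2_c43 LD3_c41) Lrfl Lrfl
theorem f315320 : Led Lsl_df (LP (LK LD1_c4 LD2_c4 LD3_c38)) = (LP (LK LD1_c4 LD2_c18 LD3_c59)) :=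
  Lgr Lrot38 (Lpr_dt (K20.f315318 IH) (Lpn (LP (LK LD1_c4 LD2_c18 LD3_c59))))
theorem f236439 : Led Lsl_dt (LP (LK LD1_c1 LD2_c8 LD3_c56)) = (LP (LK LD1_c2 LD2_c12 LD3_c43)) :=
  Lgr Lrot113 (Lpe (f1584 IH) (Lpe (K0.f1578 IH) (Lpe (K9.f1600 IH) (Lpr_ct (K10.f2107 IH) (Lpr_gt (K10.f186920 IH) (Lpr_dt (K1.f29137 IH) (Lpe (K13.f232392 IH) (Lpr_dt (K21.f232343 IH) (Lpr_ct (K13.f236418 IH) (Lpn (LP (LK LD1_c2 LD2_c12 LD3_c43))))))))))))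
theorem f238228 : Led Lsl_et (LP (LK LD1_c9 LD2_c35 LD3_c42)) = (LP (LK LD1_c4 LD2_c51 LD3_c45)) :=
  Lre_e IH (LK LD1_c9 LD2_c35 LD3_c42) (LK LD1_c4 LD2_c51 LD3_c45) Lrfl Lrfl
theorem f315349 : Led Lsl_df (LP (LK LD1_c5 LD2_c35 LD3_c29)) = (LP (LK LD1_c9 LD2_c35 LD3_c42)) :=
  Lgr Lrot170 (Lpr_gt (f189409 IH) (Lpr_df (K13.f189404 IH) (Lpr_et (K13.f167378 IH) (Lpr_gt (K20.f315336 IH) (Lpe (f315320 IH) (Lpe (K13.f238218 IH) (Lpe (f236439 IH) (Lpr_et (K13.f238217 IH) (Lpr_gt (f193292 IH) (Lpe (f238228 IH) (Lpn (LP (LK LD1_c9 LD2_c35 LD3_c42)))))))))))))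
theorem f355068 : Led Lsl_ef (LP (LK LD1_c9 LD2_c57 LD3_c21)) = (LP (LK LD1_c5 LD2_c35 LD3_c29)) :=
  Lgr Lrot73 (Lpe (f344981 IH) (Lpr_et (K23.f287121 IH) (Lpr_dt (f355064 IH) (Lpr_et (f315354 IH) (Lpe (f315349 IH) (Lpn (LP (LK LD1_c5 LD2_c35 LD3_c29))))))))
theorem f315352 : Led Lsl_dt (LP (LK LD1_c5 LD2_c35 LD3_c29)) = (LP (LK LD1_c9 LD2_c35 LD3_c42)) :=
  Lgr Lrot42 (Lpr_df (f315349 IH) (Lpn (LP (LK LD1_c9 LD2_c35 LD3_c42))))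
theorem f355074 : Led Lsl_gt (LP (LK LD1_c16 LD2_c9 LD3_c56)) = (LP (LK LD1_c9 LD2_c35 LD3_c42)) :=
  Lgr Lrot112 (Lpe (K23.f190027 IH) (Lpe (K23.f345201 IH) (Lpe (K23.f235443 IH) (Lpr_ef (K19.f235437 IH) (Lpr_dt (K23.f345003 IH) (Lpe (K23.f190247 IH) (Lpe (K14.f190246 IH) (Lpr_gf (K23.f344970 IH) (Lpr_ef (f355068 IH) (Lpr_dt (f315352 IH) (Lpn (LP (LK LD1_c9 LD2_c35 LD3_c42)))))))))))))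
theorem f189411 : Led Lsl_ct (LP (LK LD1_c11 LD2_c3 LD3_c10)) = (LP (LK LD1_c5 LD2_c35 LD3_c29)) :=
  Lre_c IH (LK LD1_c11 LD2_c3 LD3_c10) (LK LD1_c5 LD2_c35 LD3_c29) Lrfl Lrfl
theorem f315355 : Led Lsl_dt (LP (LK LD1_c19 LD2_c54 LD3_c50)) = (LP (LK LD1_c11 LD2_c3 LD3_c10)) :=
  Lre_d IH (LK LD1_c19 LD2_c54 LD3_c50) (LK LD1_c11 LD2_c3 LD3_c10) Lrfl Lrfl
theorem f355076 : Led Lsl_gt (LP (LK LD1_c26 LD2_c6 LD3_c35)) = (LP (LK LD1_c19 LD2_c54 LD3_c50)) :=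
  Lgr Lrot49 (Lpe (K23.f337402 IH) (Lpe (K23.f190015 IH) (Lpe (K21.f190012 IH) (Lpr_gt (K19.f190026 IH) (Lpr_dt (K23.f190027 IH) (Lpr_gt (f355074 IH) (Lpe (f315349 IH) (Lpe (f189411 IH) (Lpe (f315355 IH) (Lpn (LP (LK LD1_c19 LD2_c54 LD3_c50))))))))))))
theorem f315351 : Led Lsl_dt (LP (LK LD1_c11 LD2_c3 LD3_c10)) = (LP (LK LD1_c19 LD2_c54 LD3_c50)) :=
  Lre_d IH (LK LD1_c11 LD2_c3 LD3_c10) (LK LD1_c19 LD2_c54 LD3_c50) Lrfl Lrfl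
theorem f355078 : Led Lsl_ef (LP (LK LD1_c18 LD2_c13 LD3_c3)) = (LP (LK LD1_c11 LD2_c3 LD3_c10)) :=
  Lgr Lrot114 (Lpe (K23.f344965 IH) (Lpe (f231497 IH) (Lpe (K13.f231486 IH) (Lpe (K20.f201381 IH) (Lpr_df (K13.f240731 IH) (Lpr_et (K20.f235966 IH) (Lpr_gt (K23.f190015 IH) (Lpr_dt (K23.f337402 IH) (Lpr_gt (f355076 IH) (Lpe (f315351 IH) (Lpn (LP (LK LD1_c11 LD2_c3 LD3_c10)))))))))))))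
theorem f192626 : Led Lsl_ct (LP (LK LD1_c18 LD2_c17 LD3_c60)) = (LP (LK LD1_c10 LD2_c0 LD3_c54)) :=
  Lre_c IH (LK LD1_c18 LD2_c17 LD3_c60) (LK LD1_c10 LD2_c0 LD3_c54) Lrfl Lrfl
theorem f301556 : Led Lsl_et (LP (LK LD1_c15 LD2_c22 LD3_c53)) = (LP (LK LD1_c18 LD2_c17 LD3_c60)) :=
  Lgr Lrot158 (Lpr_cf (K18.f301549 IH) (Lpr_ef (K16.f273289 IH) (Lpe (f192626 IH) (Lpn (LP (LK LD1_c18 LD2_c17 LD3_c60))))))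
theorem f199369 : Led Lsl_dt (LP (LK LD1_c15 LD2_c22 LD3_c53)) = (LP (LK LD1_c25 LD2_c14 LD3_c44)) :=
  Lre_d IH (LK LD1_c15 LD2_c22 LD3_c53) (LK LD1_c25 LD2_c14 LD3_c44) Lrfl Lrfl
theorem f301560 : Led Lsl_dt (LP (LK LD1_c25 LD2_c14 LD3_c44)) = (LP (LK LD1_c15 LD2_c22 LD3_c53)) :=
  Lre_d IH (LK LD1_c25 LD2_c14 LD3_c44) (LK LD1_c15 LD2_c22 LD3_c53) Lrfl Lrfl
theorem f255595 : Led Lsl_cf (LP (LK LD1_c26 LD2_c6 LD3_c38)) = (LP (LK LD1_c16 LD2_c13 LD3_c3)) :=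
  Lgr Lrot11 (Lpr_ct (K14.f255593 IH) (Lpn (LP (LK LD1_c16 LD2_c13 LD3_c3))))
theorem f323234 : Led Lsl_et (LP (LK LD1_c15 LD2_c56 LD3_c4)) = (LP (LK LD1_c8 LD2_c29 LD3_c6)) :=
  Lre_e IH (LK LD1_c15 LD2_c56 LD3_c4) (LK LD1_c8 LD2_c29 LD3_c6) Lrfl Lrfl
theorem f323235 : Led Lsl_gt (LP (LK LD1_c4 LD2_c16 LD3_c11)) = (LP (LK LD1_c8 LD2_c29 LD3_c51)) :=
  Lgr Lrot139 (Lpe (K16.f273439 IH) (Lpe (K16.f167738 IH) (Lpe (K16.f167757 IH) (Lpr_dt (K12.f167731 IH) (Lpe (K10.f167754 IH) (Lpe (K12.f187241 IH) (Lpr_et (K12.f188749 IH) (Lpr_gf (K23.f323232 IH) (Lpe (f323234 IH) (Lpe (K20.f323230 IH) (Lpn (LP (LK LD1_c8 LD2_c29 LD3_c51)))))))))))))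
theorem f260447 : Led Lsl_bf (LP (LK LD1_c4 LD2_c16 LD3_c11)) = (LP (LK LD1_c4 LD2_c21 LD3_c53)) :=
  Lgr Lrot24 (Lpr_bt (K16.f260442 IH) (Lpn (LP (LK LD1_c4 LD2_c21 LD3_c53))))
theorem f170344 : Led Lsl_bt (LP (LK LD1_c4 LD2_c52 LD3_c54)) = (LP (LK LD1_c2 LD2_c24 LD3_c18)) :=
  Lre_b IH (LK LD1_c4 LD2_c52 LD3_c54) (LK LD1_c2 LD2_c24 LD3_c18) Lrfl Lrfl
theorem f170379 : Led Lsl_ct (LP (LK LD1_c4 LD2_c52 LD3_c55)) = (LP (LK LD1_c9 LD2_c37 LD3_c46)) :=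
  Lre_c IH (LK LD1_c4 LD2_c52 LD3_c55) (LK LD1_c9 LD2_c37 LD3_c46) Lrfl Lrfl
theorem f323237 : Led Lsl_gf (LP (LK LD1_c8 LD2_c41 LD3_c17)) = (LP (LK LD1_c9 LD2_c37 LD3_c46)) :=
  Lgr Lrot129 (Lpe (K16.f260451 IH) (Lpe (f260447 IH) (Lpr_gt (f323235 IH) (Lpe (K20.f298907 IH) (Lpr_ct (K20.f236209 IH) (Lpe (K20.f298752 IH) (Lpr_cf (K16.f170345 IH) (Lpr_bt (f170344 IH) (Lpr_gt (K23.f170358 IH) (Lpr_ct (f170379 IH) (Lpn (LP (LK LD1_c9 LD2_c37 LD3_c46)))))))))))))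
theorem f270394 : Led Lsl_ft (LP (LK LD1_c4 LD2_c53 LD3_c5)) = (LP (LK LD1_c9 LD2_c38 LD3_c7)) :=
  Lre_f IH (LK LD1_c4 LD2_c53 LD3_c5) (LK LD1_c9 LD2_c38 LD3_c7) Lrfl Lrfl
theorem f323239 : Led Lsl_gt (LP (LK LD1_c4 LD2_c53 LD3_c5)) = (LP (LK LD1_c9 LD2_c37 LD3_c46)) :=
  Lgr Lrot5 (Lpr_ft (f270394 IH) (Lpe (K16.f269976 IH) (Lpr_gf (f323237 IH) (Lpn (LP (LK LD1_c9 LD2_c37 LD3_c46))))))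
theorem f247147 : Led Lsl_ct (LP (LK LD1_c9 LD2_c37 LD3_c46)) = (LP (LK LD1_c4 LD2_c52 LD3_c55)) :=
  Lre_c IH (LK LD1_c9 LD2_c37 LD3_c46) (LK LD1_c4 LD2_c52 LD3_c55) Lrfl Lrfl
theorem f323242 : Led Lsl_ct (LP (LK LD1_c17 LD2_c43 LD3_c24)) = (LP (LK LD1_c9 LD2_c37 LD3_c47)) :=
  Lre_c IH (LK LD1_c17 LD2_c43 LD3_c24) (LK LD1_c9 LD2_c37 LD3_c47) Lrfl Lrfl
theorem f326792 : Led Lsl_gt (LP (LK LD1_c26 LD2_c6 LD3_c38)) = (LP (LK LD1_c17 LD2_c43 LD3_c24)) :=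
  Lgr Lrot150 (Lpr_cf (f255595 IH) (Lpr_gf (K21.f326788 IH) (Lpe (K20.f321023 IH) (Lpr_gt (K20.f227964 IH) (Lpr_ct (K16.f229272 IH) (Lpr_gt (f323239 IH) (Lpr_ct (f247147 IH) (Lpe (K23.f239876 IH) (Lpe (f323242 IH) (Lpn (LP (LK LD1_c17 LD2_c43 LD3_c24))))))))))))
theorem f326799 : Led Lsl_dt (LP (LK LD1_c17 LD2_c43 LD3_c24)) = (LP (LK LD1_c27 LD2_c30 LD3_c24)) :=
  Lre_d IH (LK LD1_c17 LD2_c43 LD3_c24) (LK LD1_c27 LD2_c30 LD3_c24) Lrfl Lrfl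
theorem f340774 : Led Lsl_gf (LP (LK LD1_c25 LD2_c14 LD3_c44)) = (LP (LK LD1_c27 LD2_c30 LD3_c24)) :=
  Lgr Lrot143 (Lpr_dt (f301560 IH) (Lpr_cf (K18.f301549 IH) (Lpe (K16.f260455 IH) (Lpr_gf (K23.f269900 IH) (Lpe (K20.f269904 IH) (Lpr_gf (K23.f340772 IH) (Lpe (K14.f255593 IH) (Lpr_gt (f326792 IH) (Lpr_dt (f326799 IH) (Lpn (LP (LK LD1_c27 LD2_c30 LD3_c24))))))))))))
theorem f235971 : Led Lsl_dt (LP (LK LD1_c16 LD2_c9 LD3_c53)) = (LP (LK LD1_c26 LD2_c6 LD3_c37)) :=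
  Lre_d IH (LK LD1_c16 LD2_c9 LD3_c53) (LK LD1_c26 LD2_c6 LD3_c37) Lrfl Lrfl
theorem f355081 : Led Lsl_gf (LP (LK LD1_c26 LD2_c6 LD3_c37)) = (LP (LK LD1_c19 LD2_c54 LD3_c50)) :=
  Lgr Lrot145 (Lpe (f235971 IH) (Lpr_et (K14.f235963 IH) (Lpr_gt (f326792 IH) (Lpr_dt (f326799 IH) (Lpe (f340774 IH) (Lpe (f199369 IH) (Lpr_et (f301556 IH) (Lpr_gt (K23.f344946 IH) (Lpr_ef (f355078 IH) (Lpr_dt (f315351 IH) (Lpn (LP (LK LD1_c19 LD2_c54 LD3_c50)))))))))))))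
theorem f235964 : Led Lsl_dt (LP (LK LD1_c26 LD2_c6 LD3_c37)) = (LP (LK LD1_c16 LD2_c9 LD3_c53)) :=
  Lre_d IH (LK LD1_c26 LD2_c6 LD3_c37) (LK LD1_c16 LD2_c9 LD3_c53) Lrfl Lrfl
theorem f255578 : Led Lsl_ct (LP (LK LD1_c16 LD2_c9 LD3_c53)) = (LP (LK LD1_c8 LD2_c39 LD3_c34)) :=
  Lgr Lrot8 (Lpr_gt (K14.f190013 IH) (Lpr_dt (K14.f191300 IH) (Lpr_gt (K14.f235943 IH) (Lpr_dt (K14.f235920 IH) (Lpe (K14.f235905 IH) (Lpr_df (K14.f235733 IH) (Lpe (K14.f255553 IH) (Lpr_df (K14.f255565 IH) (Lpe (K14.f255577 IH) (Lpn (LP (LK LD1_c8 LD2_c39 LD3_c34))))))))))))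
theorem f235888 : Led Lsl_ct (LP (LK LD1_c10 LD2_c46 LD3_c26)) = (LP (LK LD1_c5 LD2_c27 LD3_c42)) :=
  Lre_c IH (LK LD1_c10 LD2_c46 LD3_c26) (LK LD1_c5 LD2_c27 LD3_c42) Lrfl Lrfl
theorem f340477 : Led Lsl_ct (LP (LK LD1_c10 LD2_c15 LD3_c61)) = (LP (LK LD1_c16 LD2_c50 LD3_c30)) :=
  Lgr Lrot83 (Lpr_bf (K23.f340471 IH) (Lpe (f235888 IH) (Lpe (K21.f235887 IH) (Lpr_cf (K21.f235877 IH) (Lpe (K21.f235889 IH) (Lpn (LP (LK LD1_c16 LD2_c50 LD3_c30))))))))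
theorem f355083 : Led Lsl_gt (LP (LK LD1_c16 LD2_c50 LD3_c30)) = (LP (LK LD1_c11 LD2_c3 LD3_c10)) :=
  Lgr Lrot94 (Lpe (f340477 IH) (Lpe (K23.f328662 IH) (Lpe (K21.f325883 IH) (Lpr_gt (K23.f296367 IH) (Lpr_dt (K19.f279523 IH) (Lpe (f255578 IH) (Lpe (f235964 IH) (Lpr_gf (f355081 IH) (Lpe (f315351 IH) (Lpn (LP (LK LD1_c11 LD2_c3 LD3_c10))))))))))))
theorem f350042 : Led Lsl_bt (LP (LK LD1_c10 LD2_c34 LD3_c60)) = (LP (LK LD1_c16 LD2_c14 LD3_c25)) :=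
  Lgr Lrot127 (Lpr_bf (K24.f350040 IH) (Lpn (LP (LK LD1_c16 LD2_c14 LD3_c25))))
theorem f324612 : Led Lsl_ct (LP (LK LD1_c11 LD2_c3 LD3_c30)) = (LP (LK LD1_c19 LD2_c55 LD3_c32)) :=
  Lre_c IH (LK LD1_c11 LD2_c3 LD3_c30) (LK LD1_c19 LD2_c55 LD3_c32) Lrfl Lrfl
theorem f324611 : Led Lsl_bt (LP (LK LD1_c5 LD2_c35 LD3_c40)) = (LP (LK LD1_c11 LD2_c3 LD3_c30)) :=
  Lre_b IH (LK LD1_c5 LD2_c35 LD3_c40) (LK LD1_c11 LD2_c3 LD3_c30) Lrfl Lrfl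
theorem f344725 : Led Lsl_bf (LP (LK LD1_c8 LD2_c40 LD3_c18)) = (LP (LK LD1_c8 LD2_c20 LD3_c24)) :=
  Lgr Lrot90 (Lpr_ct (K21.f324608 IH) (Lpr_bt (f324611 IH) (Lpr_ct (f324612 IH) (Lpr_bt (K23.f344720 IH) (Lpr_ct (K23.f290811 IH) (Lpn (LP (LK LD1_c8 LD2_c20 LD3_c24))))))))
theorem f330915 : Led Lsl_ct (LP (LK LD1_c8 LD2_c37 LD3_c33)) = (LP (LK LD1_c16 LD2_c9 LD3_c32)) :=
  Lre_c IH (LK LD1_c8 LD2_c37 LD3_c33) (LK LD1_c16 LD2_c9 LD3_c32) Lrfl Lrfl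
theorem f331299 : Led Lsl_gt (LP (LK LD1_c16 LD2_c9 LD3_c32)) = (LP (LK LD1_c15 LD2_c41 LD3_c50)) :=
  Lgr Lrot150 (Lpe (f330915 IH) (Lpe (K21.f312546 IH) (Lpr_df (K21.f305868 IH) (Lpr_gt (K19.f250791 IH) (Lpr_ct (K21.f250784 IH) (Lpe (K22.f330910 IH) (Lpr_ct (K21.f292401 IH) (Lpr_df (K21.f331288 IH) (Lpe (K23.f290811 IH) (Lpn (LP (LK LD1_c15 LD2_c41 LD3_c50))))))))))))
theorem f350054 : Led Lsl_bf (LP (LK LD1_c15 LD2_c34 LD3_c56)) = (LP (LK LD1_c8 LD2_c37 LD3_c33)) :=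
  Lgr Lrot34 (Lpe (K24.f311823 IH) (Lpe (K21.f222299 IH) (Lpr_ct (K24.f222308 IH) (Lpr_gf (K24.f350046 IH) (Lpr_cf (K24.f350044 IH) (Lpe (K19.f255633 IH) (Lpr_bf (f344725 IH) (Lpr_ct (K23.f290810 IH) (Lpe (f331299 IH) (Lpe (f330915 IH) (Lpn (LP (LK LD1_c8 LD2_c37 LD3_c33)))))))))))))
theorem f350056 : Led Lsl_bt (LP (LK LD1_c15 LD2_c34 LD3_c56)) = (LP (LK LD1_c8 LD2_c37 LD3_c33)) :=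
  Lgr Lrot127 (Lpr_bf (f350054 IH) (Lpn (LP (LK LD1_c8 LD2_c37 LD3_c33))))
theorem f228799 : Led Lsl_gt (LP (LK LD1_c5 LD2_c36 LD3_c14)) = (LP (LK LD1_c11 LD2_c4 LD3_c42)) :=
  Lre_g IH (LK LD1_c5 LD2_c36 LD3_c14) (LK LD1_c11 LD2_c4 LD3_c42) Lrfl Lrfl
theorem f261197 : Led Lsl_gf (LP (LK LD1_c17 LD2_c49 LD3_c10)) = (LP (LK LD1_c11 LD2_c4 LD3_c42)) :=
  Lgr Lrot76 (Lpr_af (K15.f261187 IH) (Lpe (K15.f261194 IH) (Lpr_gt (f228799 IH) (Lpn (LP (LK LD1_c11 LD2_c4 LD3_c42))))))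
theorem f350069 : Led Lsl_ct (LP (LK LD1_c10 LD2_c34 LD3_c60)) = (LP (LK LD1_c11 LD2_c4 LD3_c42)) :=
  Lgr Lrot91 (Lpe (K14.f220647 IH) (Lpr_bf (K16.f220679 IH) (Lpr_ct (K20.f220681 IH) (Lpe (K24.f220714 IH) (Lpe (K24.f336689 IH) (Lpr_bt (f350056 IH) (Lpe (K21.f312546 IH) (Lpr_bf (K19.f221697 IH) (Lpr_ct (K15.f221709 IH) (Lpr_gf (f261197 IH) (Lpn (LP (LK LD1_c11 LD2_c4 LD3_c42)))))))))))))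
theorem f181884 : Led Lsl_gt (LP (LK LD1_c2 LD2_c44 LD3_c5)) = (LP (LK LD1_c1 LD2_c18 LD3_c24)) :=
  Lre_g IH (LK LD1_c2 LD2_c44 LD3_c5) (LK LD1_c1 LD2_c18 LD3_c24) Lrfl Lrfl
theorem f189410 : Led Lsl_ct (LP (LK LD1_c5 LD2_c35 LD3_c29)) = (LP (LK LD1_c11 LD2_c3 LD3_c10)) :=
  Lre_c IH (LK LD1_c5 LD2_c35 LD3_c29) (LK LD1_c11 LD2_c3 LD3_c10) Lrfl Lrfl
theorem f355089 : Led Lsl_bf (LP (LK LD1_c2 LD2_c44 LD3_c5)) = (LP (LK LD1_c5 LD2_c35 LD3_c29)) :=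
  Lgr Lrot156 (Lpr_gt (f181884 IH) (Lpe (K19.f228804 IH) (Lpr_ct (K19.f228802 IH) (Lpr_gt (f228799 IH) (Lpe (f350069 IH) (Lpr_bt (f350042 IH) (Lpr_gt (K21.f328654 IH) (Lpr_ct (f340477 IH) (Lpr_gt (f355083 IH) (Lpe (f189410 IH) (Lpn (LP (LK LD1_c5 LD2_c35 LD3_c29)))))))))))))
theorem f337393 : Led Lsl_af (LP (LK LD1_c5 LD2_c35 LD3_c40)) = (LP (LK LD1_c9 LD2_c0 LD3_c46)) :=
  Lgr Lrot117 (Lpr_dt (K24.f324615 IH) (Lpr_at (K22.f337385 IH) (Lpr_dt (K14.f235920 IH) (Lpn (LP (LK LD1_c9 LD2_c0 LD3_c46))))))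
theorem f355085 : Led Lsl_gf (LP (LK LD1_c5 LD2_c35 LD3_c40)) = (LP (LK LD1_c11 LD2_c3 LD3_c10)) :=
  Lgr Lrot76 (Lpr_af (f337393 IH) (Lpe (K21.f235988 IH) (Lpr_gt (f355083 IH) (Lpn (LP (LK LD1_c11 LD2_c3 LD3_c10))))))
theorem f331290 : Led Lsl_bt (LP (LK LD1_c8 LD2_c40 LD3_c18)) = (LP (LK LD1_c8 LD2_c20 LD3_c24)) :=
  Lgr Lrot95 (Lpe (K19.f233147 IH) (Lpr_bf (K22.f324652 IH) (Lpr_df (K21.f331288 IH) (Lpn (LP (LK LD1_c8 LD2_c20 LD3_c24))))))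
theorem f355096 : Led Lsl_gf (LP (LK LD1_c2 LD2_c44 LD3_c5)) = (LP (LK LD1_c4 LD2_c19 LD3_c48)) :=
  Lgr Lrot124 (Lpr_bf (f355089 IH) (Lpr_ct (f189410 IH) (Lpe (f355085 IH) (Lpe (K21.f324608 IH) (Lpr_bt (f331290 IH) (Lpr_gt (f331286 IH) (Lpr_ct (f279005 IH) (Lpr_gt (f336552 IH) (Lpe (K14.f254074 IH) (Lpr_bt (f254083 IH) (Lpn (LP (LK LD1_c4 LD2_c19 LD3_c48)))))))))))))
theorem f7764 : Led Lsl_gt (LP (LK LD1_c5 LD2_c28 LD3_c33)) = (LP (LK LD1_c2 LD2_c40 LD3_c34)) :=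
  Lre_g IH (LK LD1_c5 LD2_c28 LD3_c33) (LK LD1_c2 LD2_c40 LD3_c34) Lrfl Lrfl
theorem f355098 : Led Lsl_ct (LP (LK LD1_c2 LD2_c44 LD3_c5)) = (LP (LK LD1_c5 LD2_c28 LD3_c33)) :=
  Lgr Lrot91 (Lpr_gf (f355096 IH) (Lpe (f254083 IH) (Lpr_ct (K14.f254074 IH) (Lpe (f336552 IH) (Lpe (f279005 IH) (Lpr_bt (f279002 IH) (Lpe (K20.f7832 IH) (Lpe (K23.f7807 IH) (Lpr_ct (K23.f7856 IH) (Lpe (f7764 IH) (Lpn (LP (LK LD1_c5 LD2_c28 LD3_c33)))))))))))))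
theorem f7759 : Led Lsl_ct (LP (LK LD1_c2 LD2_c6 LD3_c7)) = (LP (LK LD1_c1 LD2_c0 LD3_c3)) :=
  Lre_c IH (LK LD1_c2 LD2_c6 LD3_c7) (LK LD1_c1 LD2_c0 LD3_c3) Lrfl Lrfl
theorem f260767 : Led Lsl_et (LP (LK LD1_c2 LD2_c3 LD3_c34)) = (LP (LK LD1_c4 LD2_c12 LD3_c45)) :=
  Lre_e IH (LK LD1_c2 LD2_c3 LD3_c34) (LK LD1_c4 LD2_c12 LD3_c45) Lrfl Lrfl
theorem f170182 : Led Lsl_et (LP (LK LD1_c1 LD2_c0 LD3_c2)) = (LP (LK LD1_c2 LD2_c6 LD3_c7)) :=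
  Lre_e IH (LK LD1_c1 LD2_c0 LD3_c2) (LK LD1_c2 LD2_c6 LD3_c7) Lrfl Lrfl
theorem f299368 : Led Lsl_gt (LP (LK LD1_c4 LD2_c12 LD3_c45)) = (LP (LK LD1_c2 LD2_c6 LD3_c7)) :=
  Lgr Lrot131 (Lpe (f260767 IH) (Lpr_dt (K15.f260748 IH) (Lpr_gf (K18.f299306 IH) (Lpr_df (K9.f170592 IH) (Lpr_gf (K9.f170590 IH) (Lpr_ef (K20.f2660 IH) (Lpe (K0.f2226 IH) (Lpe (K9.f167291 IH) (Lpe (K9.f170160 IH) (Lpr_et (f170182 IH) (Lpn (LP (LK LD1_c2 LD2_c6 LD3_c7)))))))))))))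
theorem f355105 : Led Lsl_gt (LP (LK LD1_c2 LD2_c7 LD3_c21)) = (LP (LK LD1_c2 LD2_c3 LD3_c35)) :=
  Lgr Lrot9 (Lpe (K18.f301708 IH) (Lpe (f355096 IH) (Lpr_ct (f355098 IH) (Lpr_gt (f7764 IH) (Lpr_ct (K20.f7745 IH) (Lpe (K19.f7747 IH) (Lpe (f7759 IH) (Lpe (f299368 IH) (Lpe (K22.f299371 IH) (Lpn (LP (LK LD1_c2 LD2_c3 LD3_c35))))))))))))
theorem f352108 : Led Lsl_ef (LP (LK LD1_c18 LD2_c22 LD3_c8)) = (LP (LK LD1_c16 LD2_c42 LD3_c36)) :=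
  Lgr Lrot88 (Lpr_et (f352102 IH) (Lpn (LP (LK LD1_c16 LD2_c42 LD3_c36))))
theorem f329907 : Led Lsl_et (LP (LK LD1_c20 LD2_c5 LD3_c19)) = (LP (LK LD1_c26 LD2_c41 LD3_c22)) :=
  Lgr Lrot87 (Lpr_ef (f329905 IH) (Lpn (LP (LK LD1_c26 LD2_c41 LD3_c22))))
theorem f352110 : Led Lsl_ct (LP (LK LD1_c18 LD2_c22 LD3_c8)) = (LP (LK LD1_c20 LD2_c5 LD3_c19)) :=
  Lgr Lrot15 (Lpr_ef (f352108 IH) (Lpe (f199138 IH) (Lpe (f329907 IH) (Lpn (LP (LK LD1_c20 LD2_c5 LD3_c19))))))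
theorem f305734 : Led Lsl_ct (LP (LK LD1_c5 LD2_c39 LD3_c42)) = (LP (LK LD1_c11 LD2_c10 LD3_c33)) :=
  Lre_c IH (LK LD1_c5 LD2_c39 LD3_c42) (LK LD1_c11 LD2_c10 LD3_c33) Lrfl Lrfl
theorem f352114 : Led Lsl_gf (LP (LK LD1_c5 LD2_c3 LD3_c15)) = (LP (LK LD1_c2 LD2_c45 LD3_c48)) :=
  Lgr Lrot124 (Lpe (K23.f171251 IH) (Lpr_ct (K23.f344945 IH) (Lpe (K23.f344965 IH) (Lpe (f275779 IH) (Lpr_bt (f271268 IH) (Lpe (f352100 IH) (Lpr_ct (f352110 IH) (Lpr_gt (f305826 IH) (Lpe (f305734 IH) (Lpr_bt (K19.f305731 IH) (Lpn (LP (LK LD1_c2 LD2_c45 LD3_c48)))))))))))))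
theorem f171237 : Led Lsl_gt (LP (LK LD1_c1 LD2_c13 LD3_c14)) = (LP (LK LD1_c2 LD2_c32 LD3_c32)) :=
  Lre_g IH (LK LD1_c1 LD2_c13 LD3_c14) (LK LD1_c2 LD2_c32 LD3_c32) Lrfl Lrfl
theorem f171238 : Led Lsl_et (LP (LK LD1_c5 LD2_c11 LD3_c7)) = (LP (LK LD1_c2 LD2_c32 LD3_c32)) :=
  Lre_e IH (LK LD1_c5 LD2_c11 LD3_c7) (LK LD1_c2 LD2_c32 LD3_c32) Lrfl Lrfl
theorem f171239 : Led Lsl_dt (LP (LK LD1_c5 LD2_c11 LD3_c7)) = (LP (LK LD1_c5 LD2_c3 LD3_c15)) :=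
  Lgr Lrot136 (Lpr_et (f171238 IH) (Lpe (f171237 IH) (Lpe (K12.f171218 IH) (Lpe (K9.f171214 IH) (Lpe (K9.f171223 IH) (Lpr_df (K9.f171233 IH) (Lpe (K9.f169830 IH) (Lpe (K21.f169641 IH) (Lpr_dt (K21.f169642 IH) (Lpe (K23.f169985 IH) (Lpn (LP (LK LD1_c5 LD2_c3 LD3_c15)))))))))))))
theorem f300121 : Led Lsl_gf (LP (LK LD1_c2 LD2_c28 LD3_c56)) = (LP (LK LD1_c2 LD2_c32 LD3_c3)) :=
  Lgr Lrot76 (Lpr_af (K22.f300112 IH) (Lpe (K23.f288308 IH) (Lpr_gt (f21329 IH) (Lpn (LP (LK LD1_c2 LD2_c32 LD3_c3))))))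
theorem f352116 : Led Lsl_gt (LP (LK LD1_c2 LD2_c32 LD3_c32)) = (LP (LK LD1_c2 LD2_c29 LD3_c28)) :=
  Lgr Lrot137 (Lpe (f171238 IH) (Lpr_dt (f171239 IH) (Lpr_gf (f352114 IH) (Lpr_df (K23.f306065 IH) (Lpr_et (K22.f299755 IH) (Lpr_gf (f300121 IH) (Lpr_ef (f166746 IH) (Lpe (K19.f171342 IH) (Lpr_gf (K19.f304983 IH) (Lpe (K10.f166811 IH) (Lpn (LP (LK LD1_c2 LD2_c29 LD3_c28)))))))))))))
theorem f337128 : Led Lsl_et (LP (LK LD1_c0 LD2_c58 LD3_c43)) = (LP (LK LD1_c2 LD2_c3 LD3_c35)) :=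
  Lre_e IH (LK LD1_c0 LD2_c58 LD3_c43) (LK LD1_c2 LD2_c3 LD3_c35) Lrfl Lrfl
theorem f313377 : Led Lsl_df (LP (LK LD1_c0 LD2_c36 LD3_c37)) = (LP (LK LD1_c0 LD2_c58 LD3_c43)) :=
  Lgr Lrot84 (Lpr_cf (K19.f313361 IH) (Lpe (K9.f9488 IH) (Lpe (K9.f179098 IH) (Lpe (K9.f3085 IH) (Lpe (K0.f3083 IH) (Lpe (K0.f281 IH) (Lpe (K9.f167236 IH) (Lpr_dt (K9.f51580 IH) (Lpe (K15.f178307 IH) (Lpn (LP (LK LD1_c0 LD2_c58 LD3_c43))))))))))))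
theorem f237789 : Led Lsl_dt (LP (LK LD1_c0 LD2_c27 LD3_c38)) = (LP (LK LD1_c0 LD2_c31 LD3_c32)) :=
  Lgr Lrot173 (Lpe (K14.f170287 IH) (Lpe (K9.f167311 IH) (Lpe (K12.f8004 IH) (Lpe (K9.f170286 IH) (Lpe (K12.f179543 IH) (Lpr_df (K9.f179536 IH) (Lpr_cf (K9.f171194 IH) (Lpe (K9.f179019 IH) (Lpe (K14.f6824 IH) (Lpe (K9.f6797 IH) (Lpe (K9.f53135 IH) (Lpe (K9.f171202 IH) (Lpe (K9.f171193 IH) (Lpr_df (K13.f237782 IH) (Lpe (K13.f237772 IH) (Lpn (LP (LK LD1_c0 LD2_c31 LD3_c32))))))))))))))))))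
theorem f313375 : Led Lsl_gt (LP (LK LD1_c0 LD2_c36 LD3_c37)) = (LP (LK LD1_c0 LD2_c27 LD3_c38)) :=
  Lgr Lrot94 (Lpr_cf (K19.f313361 IH) (Lpe (K9.f179080 IH) (Lpr_dt (K9.f266 IH) (Lpr_gt (K9.f262 IH) (Lpr_dt (K0.f244 IH) (Lpe (K9.f249 IH) (Lpe (K9.f250 IH) (Lpe (K13.f267 IH) (Lpe (f237789 IH) (Lpn (LP (LK LD1_c0 LD2_c27 LD3_c38))))))))))))
theorem f304948 : Led Lsl_et (LP (LK LD1_c0 LD2_c31 LD3_c32)) = (LP (LK LD1_c1 LD2_c9 LD3_c0)) :=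
  Lre_e IH (LK LD1_c0 LD2_c31 LD3_c32) (LK LD1_c1 LD2_c9 LD3_c0) Lrfl Lrfl
theorem f306962 : Led Lsl_gt (LP (LK LD1_c1 LD2_c9 LD3_c0)) = (LP (LK LD1_c2 LD2_c23 LD3_c58)) :=
  Lre_g IH (LK LD1_c1 LD2_c9 LD3_c0) (LK LD1_c2 LD2_c23 LD3_c58) Lrfl Lrfl
theorem f355117 : Led Lsl_df (LP (LK LD1_c2 LD2_c32 LD3_c32)) = (LP (LK LD1_c2 LD2_c23 LD3_c58)) :=
  Lgr Lrot135 (Lpr_gt (f352116 IH) (Lpr_df (K10.f166707 IH) (Lpe (K18.f301698 IH) (Lpr_gt (f355105 IH) (Lpe (f337128 IH) (Lpe (f313377 IH) (Lpr_gt (f313375 IH) (Lpr_df (K14.f180237 IH) (Lpr_et (f304948 IH) (Lpr_gt (f306962 IH) (Lpn (LP (LK LD1_c2 LD2_c23 LD3_c58)))))))))))))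
theorem f355119 : Led Lsl_dt (LP (LK LD1_c2 LD2_c32 LD3_c32)) = (LP (LK LD1_c2 LD2_c23 LD3_c58)) :=
  Lgr Lrot42 (Lpr_df (f355117 IH) (Lpn (LP (LK LD1_c2 LD2_c23 LD3_c58))))
theorem f171246 : Led Lsl_et (LP (LK LD1_c2 LD2_c32 LD3_c32)) = (LP (LK LD1_c5 LD2_c11 LD3_c7)) :=
  Lre_e IH (LK LD1_c2 LD2_c32 LD3_c32) (LK LD1_c5 LD2_c11 LD3_c7) Lrfl Lrfl
theorem f22049 : Led Lsl_et (LP (LK LD1_c1 LD2_c13 LD3_c3)) = (LP (LK LD1_c0 LD2_c33 LD3_c52)) :=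
  Lre_e IH (LK LD1_c1 LD2_c13 LD3_c3) (LK LD1_c0 LD2_c33 LD3_c52) Lrfl Lrfl
theorem f355128 : Led Lsl_gt (LP (LK LD1_c5 LD2_c11 LD3_c7)) = (LP (LK LD1_c4 LD2_c55 LD3_c59)) :=
  Lgr Lrot137 (Lpe (f171246 IH) (Lpr_dt (f355119 IH) (Lpe (f306962 IH) (Lpr_df (K19.f306950 IH) (Lpr_et (f22049 IH) (Lpe (K13.f165483 IH) (Lpe (K18.f181890 IH) (Lpr_dt (K13.f168762 IH) (Lpe (K18.f168773 IH) (Lpe (K18.f168792 IH) (Lpn (LP (LK LD1_c4 LD2_c55 LD3_c59)))))))))))))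
theorem f171244 : Led Lsl_df (LP (LK LD1_c5 LD2_c11 LD3_c7)) = (LP (LK LD1_c5 LD2_c3 LD3_c15)) :=
  Lgr Lrot38 (Lpr_dt (f171239 IH) (Lpn (LP (LK LD1_c5 LD2_c3 LD3_c15))))
theorem f331096 : Led Lsl_ff (LP (LK LD1_c2 LD2_c41 LD3_c33)) = (LP (LK LD1_c2 LD2_c45 LD3_c50)) :=
  Lgr Lrot52 (Lpr_at (K19.f306847 IH) (Lpr_gf (K19.f306781 IH) (Lpr_gf (f331067 IH) (Lpn (LP (LK LD1_c2 LD2_c45 LD3_c50))))))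
theorem f331106 : Led Lsl_ft (LP (LK LD1_c2 LD2_c41 LD3_c33)) = (LP (LK LD1_c2 LD2_c45 LD3_c50)) :=
  Lgr Lrot48 (Lpr_ff (f331096 IH) (Lpn (LP (LK LD1_c2 LD2_c45 LD3_c50))))
theorem f179967 : Led Lsl_ct (LP (LK LD1_c2 LD2_c45 LD3_c50)) = (LP (LK LD1_c1 LD2_c19 LD3_c16)) :=
  Lre_c IH (LK LD1_c2 LD2_c45 LD3_c50) (LK LD1_c1 LD2_c19 LD3_c16) Lrfl Lrfl
theorem f306943 : Led Lsl_et (LP (LK LD1_c2 LD2_c12 LD3_c46)) = (LP (LK LD1_c4 LD2_c31 LD3_c38)) :=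
  Lre_e IH (LK LD1_c2 LD2_c12 LD3_c46) (LK LD1_c4 LD2_c31 LD3_c38) Lrfl Lrfl
theorem f307030 : Led Lsl_ff (LP (LK LD1_c2 LD2_c12 LD3_c46)) = (LP (LK LD1_c1 LD2_c19 LD3_c16)) :=
  Lgr Lrot72 (Lpr_et (f306943 IH) (Lpr_ft (K19.f307024 IH) (Lpr_et (K14.f21306 IH) (Lpr_ft (K17.f291626 IH) (Lpe (K14.f180000 IH) (Lpn (LP (LK LD1_c1 LD2_c19 LD3_c16))))))))
theorem f331110 : Led Lsl_cf (LP (LK LD1_c2 LD2_c41 LD3_c33)) = (LP (LK LD1_c2 LD2_c12 LD3_c46)) :=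
  Lgr Lrot108 (Lpr_ft (f331106 IH) (Lpr_ct (f179967 IH) (Lpe (f307030 IH) (Lpn (LP (LK LD1_c2 LD2_c12 LD3_c46))))))
theorem f331146 : Led Lsl_at (LP (LK LD1_c1 LD2_c19 LD3_c15)) = (LP (LK LD1_c2 LD2_c12 LD3_c46)) :=
  Lgr Lrot107 (Lpe (K19.f245968 IH) (Lpe (K19.f306847 IH) (Lpr_cf (f331110 IH) (Lpn (LP (LK LD1_c2 LD2_c12 LD3_c46))))))
theorem f331156 : Led Lsl_af (LP (LK LD1_c2 LD2_c23 LD3_c54)) = (LP (LK LD1_c2 LD2_c24 LD3_c32)) :=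
  Lgr Lrot117 (Lpe (f306901 IH) (Lpr_at (f331146 IH) (Lpe (K19.f306939 IH) (Lpn (LP (LK LD1_c2 LD2_c24 LD3_c32))))))
theorem f331160 : Led Lsl_gf (LP (LK LD1_c2 LD2_c23 LD3_c54)) = (LP (LK LD1_c2 LD2_c24 LD3_c30)) :=
  Lgr Lrot76 (Lpr_af (f331156 IH) (Lpe (K19.f167012 IH) (Lpr_gt (K20.f167013 IH) (Lpn (LP (LK LD1_c2 LD2_c24 LD3_c30))))))
theorem f180002 : Led Lsl_dt (LP (LK LD1_c4 LD2_c53 LD3_c26)) = (LP (LK LD1_c2 LD2_c24 LD3_c30)) :=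
  Lre_d IH (LK LD1_c4 LD2_c53 LD3_c26) (LK LD1_c2 LD2_c24 LD3_c30) Lrfl Lrfl
theorem f342417 : Led Lsl_ef (LP (LK LD1_c5 LD2_c3 LD3_c38)) = (LP (LK LD1_c4 LD2_c53 LD3_c26)) :=
  Lgr Lrot167 (Lpr_gt (K23.f342414 IH) (Lpe (K23.f237817 IH) (Lpr_gt (K23.f177566 IH) (Lpr_df (K10.f177559 IH) (Lpr_et (K10.f177372 IH) (Lpr_gt (K15.f237809 IH) (Lpe (K13.f179962 IH) (Lpr_dt (K13.f179960 IH) (Lpr_gt (K20.f167013 IH) (Lpe (f180002 IH) (Lpn (LP (LK LD1_c4 LD2_c53 LD3_c26)))))))))))))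
theorem f355132 : Led Lsl_gf (LP (LK LD1_c5 LD2_c3 LD3_c38)) = (LP (LK LD1_c4 LD2_c55 LD3_c60)) :=
  Lgr Lrot141 (Lpr_ef (f342417 IH) (Lpr_dt (f180002 IH) (Lpe (f331160 IH) (Lpe (K22.f305700 IH) (Lpr_et (K22.f306067 IH) (Lpe (f352114 IH) (Lpe (f171244 IH) (Lpr_gt (f355128 IH) (Lpe (K19.f168791 IH) (Lpr_et (K18.f181909 IH) (Lpn (LP (LK LD1_c4 LD2_c55 LD3_c60)))))))))))))
theorem f248759 : Led Lsl_dt (LP (LK LD1_c5 LD2_c3 LD3_c38)) = (LP (LK LD1_c2 LD2_c29 LD3_c17)) :=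
  Lre_d IH (LK LD1_c5 LD2_c3 LD3_c38) (LK LD1_c2 LD2_c29 LD3_c17) Lrfl Lrfl
theorem f355134 : Led Lsl_et (LP (LK LD1_c5 LD2_c3 LD3_c15)) = (LP (LK LD1_c2 LD2_c44 LD3_c5)) :=
  Lgr Lrot122 (Lpe (f171244 IH) (Lpr_gt (f355128 IH) (Lpe (K19.f168791 IH) (Lpr_et (K18.f181909 IH) (Lpe (f355132 IH) (Lpr_dt (f248759 IH) (Lpr_gt (K23.f248754 IH) (Lpr_df (K14.f253671 IH) (Lpe (K18.f301685 IH) (Lpe (f355096 IH) (Lpn (LP (LK LD1_c2 LD2_c44 LD3_c5)))))))))))))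
theorem f355121 : Led Lsl_et (LP (LK LD1_c4 LD2_c52 LD3_c27)) = (LP (LK LD1_c2 LD2_c23 LD3_c58)) :=
  Lre_e IH (LK LD1_c4 LD2_c52 LD3_c27) (LK LD1_c2 LD2_c23 LD3_c58) Lrfl Lrfl
theorem f355136 : Led Lsl_df (LP (LK LD1_c4 LD2_c52 LD3_c27)) = (LP (LK LD1_c2 LD2_c44 LD3_c5)) :=
  Lgr Lrot70 (Lpr_et (f355121 IH) (Lpe (f355117 IH) (Lpr_et (f171246 IH) (Lpr_dt (f171239 IH) (Lpr_et (f355134 IH) (Lpn (LP (LK LD1_c2 LD2_c44 LD3_c5))))))))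
theorem f171326 : Led Lsl_dt (LP (LK LD1_c1 LD2_c0 LD3_c22)) = (LP (LK LD1_c1 LD2_c13 LD3_c14)) :=
  Lgr Lrot42 (Lpr_df (K12.f171219 IH) (Lpn (LP (LK LD1_c1 LD2_c13 LD3_c14))))
theorem f171362 : Led Lsl_et (LP (LK LD1_c4 LD2_c19 LD3_c3)) = (LP (LK LD1_c2 LD2_c6 LD3_c51)) :=
  Lre_e IH (LK LD1_c4 LD2_c19 LD3_c3) (LK LD1_c2 LD2_c6 LD3_c51) Lrfl Lrfl
theorem f2399 : Led Lsl_dt (LP (LK LD1_c2 LD2_c24 LD3_c41)) = (LP (LK LD1_c4 LD2_c53 LD3_c45)) :=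
  Lre_d IH (LK LD1_c2 LD2_c24 LD3_c41) (LK LD1_c4 LD2_c53 LD3_c45) Lrfl Lrfl
theorem f171363 : Led Lsl_gt (LP (LK LD1_c4 LD2_c53 LD3_c45)) = (LP (LK LD1_c4 LD2_c12 LD3_c52)) :=
  Lgr Lrot139 (Lpe (f2399 IH) (Lpe (K21.f2398 IH) (Lpe (K0.f2174 IH) (Lpr_dt (K0.f2161 IH) (Lpe (K10.f171187 IH) (Lpe (K9.f171202 IH) (Lpr_et (K19.f171203 IH) (Lpe (K19.f171341 IH) (Lpe (f171362 IH) (Lpr_dt (f171350 IH) (Lpn (LP (LK LD1_c4 LD2_c12 LD3_c52)))))))))))))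
theorem f171368 : Led Lsl_et (LP (LK LD1_c2 LD2_c24 LD3_c41)) = (LP (LK LD1_c4 LD2_c53 LD3_c46)) :=
  Lre_e IH (LK LD1_c2 LD2_c24 LD3_c41) (LK LD1_c4 LD2_c53 LD3_c46) Lrfl Lrfl
theorem f355123 : Led Lsl_et (LP (LK LD1_c2 LD2_c23 LD3_c58)) = (LP (LK LD1_c4 LD2_c52 LD3_c27)) :=
  Lre_e IH (LK LD1_c2 LD2_c23 LD3_c58) (LK LD1_c4 LD2_c52 LD3_c27) Lrfl Lrfl
theorem f355124 : Led Lsl_gf (LP (LK LD1_c4 LD2_c53 LD3_c46)) = (LP (LK LD1_c4 LD2_c52 LD3_c27)) :=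
  Lgr Lrot141 (Lpe (f171368 IH) (Lpr_dt (f2399 IH) (Lpr_gt (f171363 IH) (Lpe (f171350 IH) (Lpr_et (f171362 IH) (Lpr_gt (K19.f171341 IH) (Lpr_dt (f171326 IH) (Lpr_gt (f171237 IH) (Lpr_df (f355117 IH) (Lpr_et (f355123 IH) (Lpn (LP (LK LD1_c4 LD2_c52 LD3_c27)))))))))))))
theorem f237991 : Led Lsl_et (LP (LK LD1_c4 LD2_c5 LD3_c30)) = (LP (LK LD1_c8 LD2_c11 LD3_c58)) :=
  Lre_e IH (LK LD1_c4 LD2_c5 LD3_c30) (LK LD1_c8 LD2_c11 LD3_c58) Lrfl Lrfl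
theorem f355072 : Led Lsl_et (LP (LK LD1_c9 LD2_c57 LD3_c21)) = (LP (LK LD1_c5 LD2_c35 LD3_c29)) :=
  Lgr Lrot87 (Lpr_ef (f355068 IH) (Lpn (LP (LK LD1_c5 LD2_c35 LD3_c29))))
theorem f171242 : Led Lsl_bt (LP (LK LD1_c5 LD2_c3 LD3_c15)) = (LP (LK LD1_c9 LD2_c57 LD3_c21)) :=
  Lre_b IH (LK LD1_c5 LD2_c3 LD3_c15) (LK LD1_c9 LD2_c57 LD3_c21) Lrfl Lrfl
theorem f355094 : Led Lsl_et (LP (LK LD1_c2 LD2_c44 LD3_c5)) = (LP (LK LD1_c5 LD2_c3 LD3_c15)) :=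
  Lgr Lrot74 (Lpr_bf (f355089 IH) (Lpe (f355072 IH) (Lpe (f171242 IH) (Lpn (LP (LK LD1_c5 LD2_c3 LD3_c15))))))
theorem f355175 : Led Lsl_gt (LP (LK LD1_c8 LD2_c11 LD3_c58)) = (LP (LK LD1_c4 LD2_c53 LD3_c26)) :=
  Lgr Lrot137 (Lpe (f237991 IH) (Lpe (K21.f237989 IH) (Lpr_gf (f355124 IH) (Lpr_df (f355136 IH) (Lpr_et (f355094 IH) (Lpr_gf (f352114 IH) (Lpe (K22.f306067 IH) (Lpr_dt (K22.f305700 IH) (Lpr_gf (f331160 IH) (Lpe (f180002 IH) (Lpn (LP (LK LD1_c4 LD2_c53 LD3_c26)))))))))))))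
theorem f355205 : Led Lsl_et (LP (LK LD1_c5 LD2_c3 LD3_c38)) = (LP (LK LD1_c4 LD2_c53 LD3_c26)) :=
  Lgr Lrot122 (Lpr_dt (f248759 IH) (Lpr_gt (K23.f248754 IH) (Lpr_df (K14.f253671 IH) (Lpe (K18.f301685 IH) (Lpe (f355096 IH) (Lpe (f355136 IH) (Lpe (f355124 IH) (Lpr_df (K21.f237989 IH) (Lpr_et (f237991 IH) (Lpr_gt (f355175 IH) (Lpn (LP (LK LD1_c4 LD2_c53 LD3_c26)))))))))))))
theorem f355207 : Led Lsl_bt (LP (LK LD1_c4 LD2_c53 LD3_c26)) = (LP (LK LD1_c9 LD2_c38 LD3_c57)) :=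
  Lre_b IH (LK LD1_c4 LD2_c53 LD3_c26) (LK LD1_c9 LD2_c38 LD3_c57) Lrfl Lrfl
theorem f355208 : Led Lsl_ef (LP (LK LD1_c9 LD2_c58 LD3_c6)) = (LP (LK LD1_c9 LD2_c38 LD3_c57)) :=
  Lgr Lrot29 (Lpr_bt (K23.f340327 IH) (Lpr_et (f355205 IH) (Lpr_bt (f355207 IH) (Lpn (LP (LK LD1_c9 LD2_c38 LD3_c57))))))
theorem f338003 : Led Lsl_dt (LP (LK LD1_c5 LD2_c3 LD3_c36)) = (LP (LK LD1_c9 LD2_c58 LD3_c6)) :=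
  Lre_d IH (LK LD1_c5 LD2_c3 LD3_c36) (LK LD1_c9 LD2_c58 LD3_c6) Lrfl Lrfl
theorem f338004 : Led Lsl_gt (LP (LK LD1_c9 LD2_c58 LD3_c6)) = (LP (LK LD1_c11 LD2_c4 LD3_c23)) :=
  Lgr Lrot139 (Lpe (f338003 IH) (Lpe (K24.f336136 IH) (Lpe (K16.f260234 IH) (Lpr_dt (K16.f260247 IH) (Lpe (K15.f260214 IH) (Lpr_df (K19.f33149 IH) (Lpr_et (K19.f33154 IH) (Lpe (K22.f33171 IH) (Lpr_ef (K22.f337999 IH) (Lpr_dt (K22.f274720 IH) (Lpn (LP (LK LD1_c11 LD2_c4 LD3_c23)))))))))))))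
theorem f355228 : Led Lsl_dt (LP (LK LD1_c9 LD2_c38 LD3_c57)) = (LP (LK LD1_c4 LD2_c53 LD3_c25)) :=
  Lre_d IH (LK LD1_c9 LD2_c38 LD3_c57) (LK LD1_c4 LD2_c53 LD3_c25) Lrfl Lrfl
theorem f355229 : Led Lsl_gt (LP (LK LD1_c4 LD2_c50 LD3_c55)) = (LP (LK LD1_c4 LD2_c53 LD3_c25)) :=
  Lgr Lrot112 (Lpe (K14.f216442 IH) (Lpr_et (K13.f216444 IH) (Lpr_gf (K15.f265596 IH) (Lpe (K22.f265623 IH) (Lpe (K16.f274686 IH) (Lpe (K22.f263284 IH) (Lpr_df (K22.f274712 IH) (Lpe (f338004 IH) (Lpr_ef (f355208 IH) (Lpr_dt (f355228 IH) (Lpn (LP (LK LD1_c4 LD2_c53 LD3_c25)))))))))))))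
theorem f244066 : Led Lsl_et (LP (LK LD1_c4 LD2_c14 LD3_c43)) = (LP (LK LD1_c8 LD2_c28 LD3_c14)) :=
  Lre_e IH (LK LD1_c4 LD2_c14 LD3_c43) (LK LD1_c8 LD2_c28 LD3_c14) Lrfl Lrfl
theorem f244058 : Led Lsl_et (LP (LK LD1_c8 LD2_c28 LD3_c14)) = (LP (LK LD1_c4 LD2_c14 LD3_c43)) :=
  Lre_e IH (LK LD1_c8 LD2_c28 LD3_c14) (LK LD1_c4 LD2_c14 LD3_c43) Lrfl Lrfl
theorem f244059 : Led Lsl_df (LP (LK LD1_c8 LD2_c10 LD3_c18)) = (LP (LK LD1_c8 LD2_c28 LD3_c14)) :=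
  Lgr Lrot170 (Lpr_gt (K22.f199267 IH) (Lpe (K19.f199203 IH) (Lpr_et (K19.f223687 IH) (Lpr_gt (K19.f244048 IH) (Lpr_dt (K16.f226894 IH) (Lpe (K11.f211248 IH) (Lpr_df (K11.f211263 IH) (Lpr_et (K23.f211265 IH) (Lpr_gt (K19.f221030 IH) (Lpe (f244058 IH) (Lpn (LP (LK LD1_c8 LD2_c28 LD3_c14)))))))))))))
theorem f314523 : Led Lsl_et (LP (LK LD1_c8 LD2_c10 LD3_c18)) = (LP (LK LD1_c9 LD2_c34 LD3_c19)) :=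
  Lgr Lrot71 (Lpr_df (f244059 IH) (Lpe (f244066 IH) (Lpr_df (K19.f314516 IH) (Lpe (K22.f168971 IH) (Lpr_df (K22.f311627 IH) (Lpn (LP (LK LD1_c9 LD2_c34 LD3_c19))))))))
theorem f244064 : Led Lsl_dt (LP (LK LD1_c8 LD2_c10 LD3_c18)) = (LP (LK LD1_c8 LD2_c28 LD3_c14)) :=
  Lgr Lrot42 (Lpr_df (f244059 IH) (Lpn (LP (LK LD1_c8 LD2_c28 LD3_c14))))
theorem f355225 : Led Lsl_dt (LP (LK LD1_c4 LD2_c53 LD3_c25)) = (LP (LK LD1_c9 LD2_c38 LD3_c57)) :=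
  Lre_d IH (LK LD1_c4 LD2_c53 LD3_c25) (LK LD1_c9 LD2_c38 LD3_c57) Lrfl Lrfl
theorem f355234 : Led Lsl_gf (LP (LK LD1_c8 LD2_c28 LD3_c14)) = (LP (LK LD1_c9 LD2_c38 LD3_c57)) :=
  Lgr Lrot134 (Lpe (f244064 IH) (Lpr_et (f314523 IH) (Lpr_gt (K22.f199219 IH) (Lpe (K15.f199196 IH) (Lpe (K15.f199193 IH) (Lpr_gt (K13.f233935 IH) (Lpr_df (K13.f189244 IH) (Lpr_et (K13.f189248 IH) (Lpr_gt (f355229 IH) (Lpr_dt (f355225 IH) (Lpn (LP (LK LD1_c9 LD2_c38 LD3_c57)))))))))))))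
theorem f244062 : Led Lsl_ct (LP (LK LD1_c8 LD2_c10 LD3_c18)) = (LP (LK LD1_c15 LD2_c23 LD3_c22)) :=
  Lre_c IH (LK LD1_c8 LD2_c10 LD3_c18) (LK LD1_c15 LD2_c23 LD3_c22) Lrfl Lrfl
theorem f244067 : Led Lsl_dt (LP (LK LD1_c25 LD2_c15 LD3_c37)) = (LP (LK LD1_c15 LD2_c23 LD3_c22)) :=
  Lre_d IH (LK LD1_c25 LD2_c15 LD3_c37) (LK LD1_c15 LD2_c23 LD3_c22) Lrfl Lrfl
theorem f192427 : Led Lsl_gt (LP (LK LD1_c9 LD2_c33 LD3_c54)) = (LP (LK LD1_c17 LD2_c36 LD3_c48)) :=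
  Lre_g IH (LK LD1_c9 LD2_c33 LD3_c54) (LK LD1_c17 LD2_c36 LD3_c48) Lrfl Lrfl
theorem f192428 : Led Lsl_dt (LP (LK LD1_c17 LD2_c36 LD3_c48)) = (LP (LK LD1_c27 LD2_c25 LD3_c0)) :=
  Lre_d IH (LK LD1_c17 LD2_c36 LD3_c48) (LK LD1_c27 LD2_c25 LD3_c0) Lrfl Lrfl
theorem f355238 : Led Lsl_gf (LP (LK LD1_c25 LD2_c15 LD3_c37)) = (LP (LK LD1_c27 LD2_c25 LD3_c0)) :=
  Lgr Lrot143 (Lpr_dt (f244067 IH) (Lpe (f244062 IH) (Lpr_df (f244059 IH) (Lpr_gf (f355234 IH) (Lpe (f355225 IH) (Lpe (f355229 IH) (Lpe (K19.f192409 IH) (Lpr_gt (f192427 IH) (Lpr_dt (f192428 IH) (Lpn (LP (LK LD1_c27 LD2_c25 LD3_c0))))))))))))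
theorem f244063 : Led Lsl_dt (LP (LK LD1_c15 LD2_c23 LD3_c22)) = (LP (LK LD1_c25 LD2_c15 LD3_c37)) :=
  Lre_d IH (LK LD1_c15 LD2_c23 LD3_c22) (LK LD1_c25 LD2_c15 LD3_c37) Lrfl Lrfl
theorem f233969 : Led Lsl_et (LP (LK LD1_c4 LD2_c50 LD3_c54)) = (LP (LK LD1_c9 LD2_c33 LD3_c54)) :=
  Lre_e IH (LK LD1_c4 LD2_c50 LD3_c54) (LK LD1_c9 LD2_c33 LD3_c54) Lrfl Lrfl
theorem f347201 : Led Lsl_gt (LP (LK LD1_c17 LD2_c37 LD3_c31)) = (LP (LK LD1_c9 LD2_c34 LD3_c23)) :=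
  Lgr Lrot46 (Lpr_gf (K23.f347199 IH) (Lpe (K19.f308778 IH) (Lpr_at (K19.f308780 IH) (Lpn (LP (LK LD1_c9 LD2_c34 LD3_c23))))))
theorem f355240 : Led Lsl_et (LP (LK LD1_c15 LD2_c23 LD3_c22)) = (LP (LK LD1_c17 LD2_c37 LD3_c31)) :=
  Lgr Lrot185 (Lpr_dt (f244063 IH) (Lpr_gf (f355238 IH) (Lpe (f192428 IH) (Lpe (f192427 IH) (Lpe (f233969 IH) (Lpr_dt (K13.f189243 IH) (Lpe (K15.f233937 IH) (Lpe (K15.f199321 IH) (Lpr_et (K18.f233981 IH) (Lpe (f347201 IH) (Lpn (LP (LK LD1_c17 LD2_c37 LD3_c31)))))))))))))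
theorem f355242 : Led Lsl_ef (LP (LK LD1_c8 LD2_c10 LD3_c18)) = (LP (LK LD1_c9 LD2_c34 LD3_c19)) :=
  Lgr Lrot28 (Lpr_ct (f244062 IH) (Lpr_et (f355240 IH) (Lpr_ct (K23.f199221 IH) (Lpn (LP (LK LD1_c9 LD2_c34 LD3_c19))))))
theorem f244061 : Led Lsl_bt (LP (LK LD1_c8 LD2_c10 LD3_c18)) = (LP (LK LD1_c15 LD2_c23 LD3_c21)) :=
  Lre_b IH (LK LD1_c8 LD2_c10 LD3_c18) (LK LD1_c15 LD2_c23 LD3_c21) Lrfl Lrfl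
theorem f355246 : Led Lsl_et (LP (LK LD1_c15 LD2_c23 LD3_c21)) = (LP (LK LD1_c16 LD2_c8 LD3_c57)) :=
  Lgr Lrot74 (Lpe (f244061 IH) (Lpr_ef (f355242 IH) (Lpe (K22.f333785 IH) (Lpn (LP (LK LD1_c16 LD2_c8 LD3_c57))))))
theorem f355250 : Led Lsl_ef (LP (LK LD1_c15 LD2_c23 LD3_c21)) = (LP (LK LD1_c16 LD2_c8 LD3_c57)) :=
  Lgr Lrot88 (Lpr_et (f355246 IH) (Lpn (LP (LK LD1_c16 LD2_c8 LD3_c57))))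
theorem f355254 : Led Lsl_gt (LP (LK LD1_c15 LD2_c23 LD3_c21)) = (LP (LK LD1_c8 LD2_c25 LD3_c18)) :=
  Lgr Lrot131 (Lpr_ef (f355250 IH) (Lpr_dt (K22.f333791 IH) (Lpr_gf (K24.f351404 IH) (Lpe (K24.f251807 IH) (Lpe (K24.f251804 IH) (Lpe (K17.f251799 IH) (Lpe (K23.f257958 IH) (Lpe (K15.f246696 IH) (Lpr_df (K24.f246639 IH) (Lpr_et (K21.f220123 IH) (Lpn (LP (LK LD1_c8 LD2_c25 LD3_c18)))))))))))))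
theorem f266466 : Led Lsl_dt (LP (LK LD1_c4 LD2_c55 LD3_c5)) = (LP (LK LD1_c5 LD2_c29 LD3_c24)) :=
  Lgr Lrot42 (Lpr_df (K15.f266462 IH) (Lpn (LP (LK LD1_c5 LD2_c29 LD3_c24))))
theorem f236364 : Led Lsl_df (LP (LK LD1_c2 LD2_c41 LD3_c8)) = (LP (LK LD1_c2 LD2_c4 LD3_c29)) :=
  Lgr Lrot84 (Lpr_cf (K13.f236358 IH) (Lpe (K16.f170505 IH) (Lpr_gf (K10.f188731 IH) (Lpe (K10.f188594 IH) (Lpr_gf (K10.f188592 IH) (Lpe (K11.f188571 IH) (Lpr_gt (K12.f27516 IH) (Lpr_dt (K12.f27497 IH) (Lpr_gt (K12.f27506 IH) (Lpn (LP (LK LD1_c2 LD2_c4 LD3_c29))))))))))))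
theorem f223251 : Led Lsl_et (LP (LK LD1_c2 LD2_c4 LD3_c29)) = (LP (LK LD1_c4 LD2_c14 LD3_c13)) :=
  Lre_e IH (LK LD1_c2 LD2_c4 LD3_c29) (LK LD1_c4 LD2_c14 LD3_c13) Lrfl Lrfl
theorem f189757 : Led Lsl_gt (LP (LK LD1_c4 LD2_c14 LD3_c13)) = (LP (LK LD1_c8 LD2_c26 LD3_c60)) :=
  Lre_g IH (LK LD1_c4 LD2_c14 LD3_c13) (LK LD1_c8 LD2_c26 LD3_c60) Lrfl Lrfl
theorem f310859 : Led Lsl_et (LP (LK LD1_c15 LD2_c51 LD3_c53)) = (LP (LK LD1_c8 LD2_c26 LD3_c60)) :=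
  Lre_e IH (LK LD1_c15 LD2_c51 LD3_c53) (LK LD1_c8 LD2_c26 LD3_c60) Lrfl Lrfl
theorem f355256 : Led Lsl_df (LP (LK LD1_c15 LD2_c23 LD3_c21)) = (LP (LK LD1_c15 LD2_c51 LD3_c53)) :=
  Lgr Lrot170 (Lpr_gt (f355254 IH) (Lpr_df (K21.f310853 IH) (Lpr_et (K21.f246705 IH) (Lpr_gt (K15.f219083 IH) (Lpr_dt (f266466 IH) (Lpr_gt (K13.f220554 IH) (Lpr_df (f236364 IH) (Lpr_et (f223251 IH) (Lpr_gt (f189757 IH) (Lpe (f310859 IH) (Lpn (LP (LK LD1_c15 LD2_c51 LD3_c53)))))))))))))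
theorem f355262 : Led Lsl_et (LP (LK LD1_c8 LD2_c26 LD3_c60)) = (LP (LK LD1_c15 LD2_c51 LD3_c53)) :=
  Lre_e IH (LK LD1_c8 LD2_c26 LD3_c60) (LK LD1_c15 LD2_c51 LD3_c53) Lrfl Lrfl
theorem f355263 : Led Lsl_dt (LP (LK LD1_c9 LD2_c43 LD3_c53)) = (LP (LK LD1_c8 LD2_c26 LD3_c60)) :=
  Lgr Lrot77 (Lpe (K22.f333794 IH) (Lpe (K22.f333791 IH) (Lpe (f355246 IH) (Lpr_df (f355256 IH) (Lpe (f355262 IH) (Lpn (LP (LK LD1_c8 LD2_c26 LD3_c60))))))))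
theorem f257367 : Led Lsl_ct (LP (LK LD1_c4 LD2_c29 LD3_c52)) = (LP (LK LD1_c2 LD2_c11 LD3_c59)) :=
  Lre_c IH (LK LD1_c4 LD2_c29 LD3_c52) (LK LD1_c2 LD2_c11 LD3_c59) Lrfl Lrfl
theorem f264445 : Led Lsl_at (LP (LK LD1_c2 LD2_c11 LD3_c59)) = (LP (LK LD1_c4 LD2_c29 LD3_c49)) :=
  Lre_a IH (LK LD1_c2 LD2_c11 LD3_c59) (LK LD1_c4 LD2_c29 LD3_c49) Lrfl Lrfl
theorem f271732 : Led Lsl_ct (LP (LK LD1_c4 LD2_c29 LD3_c49)) = (LP (LK LD1_c8 LD2_c27 LD3_c4)) :=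
  Lgr Lrot111 (Lpe (f264445 IH) (Lpe (f257367 IH) (Lpr_af (K16.f271725 IH) (Lpn (LP (LK LD1_c8 LD2_c27 LD3_c4))))))
theorem f295131 : Led Lsl_ct (LP (LK LD1_c15 LD2_c51 LD3_c52)) = (LP (LK LD1_c8 LD2_c26 LD3_c60)) :=
  Lre_c IH (LK LD1_c15 LD2_c51 LD3_c52) (LK LD1_c8 LD2_c26 LD3_c60) Lrfl Lrfl
theorem f355269 : Led Lsl_gt (LP (LK LD1_c8 LD2_c27 LD3_c4)) = (LP (LK LD1_c15 LD2_c51 LD3_c52)) :=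
  Lgr Lrot187 (Lpe (f271732 IH) (Lpe (K17.f263043 IH) (Lpe (K17.f263033 IH) (Lpr_gt (K17.f258802 IH) (Lpr_ct (K22.f258855 IH) (Lpr_gt (K22.f258743 IH) (Lpr_ct (K22.f333803 IH) (Lpr_dt (f355263 IH) (Lpe (f295131 IH) (Lpn (LP (LK LD1_c15 LD2_c51 LD3_c52))))))))))))
theorem f271748 : Led Lsl_af (LP (LK LD1_c8 LD2_c57 LD3_c57)) = (LP (LK LD1_c15 LD2_c52 LD3_c3)) :=
  Lgr Lrot0 (Lpr_at (K16.f271738 IH) (Lpn (LP (LK LD1_c15 LD2_c52 LD3_c3))))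
theorem f355284 : Led Lsl_gf (LP (LK LD1_c8 LD2_c57 LD3_c57)) = (LP (LK LD1_c15 LD2_c51 LD3_c52)) :=
  Lgr Lrot76 (Lpr_af (f271748 IH) (Lpe (K16.f221336 IH) (Lpr_gt (f355269 IH) (Lpn (LP (LK LD1_c15 LD2_c51 LD3_c52))))))
theorem f264432 : Led Lsl_ct (LP (LK LD1_c11 LD2_c54 LD3_c42)) = (LP (LK LD1_c6 LD2_c5 LD3_c35)) :=
  Lre_c IH (LK LD1_c11 LD2_c54 LD3_c42) (LK LD1_c6 LD2_c5 LD3_c35) Lrfl Lrfl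
theorem f282411 : Led Lsl_gf (LP (LK LD1_c11 LD2_c54 LD3_c42)) = (LP (LK LD1_c15 LD2_c31 LD3_c12)) :=
  Lgr Lrot76 (Lpr_af (K17.f282404 IH) (Lpe (K17.f282392 IH) (Lpr_gt (f231758 IH) (Lpn (LP (LK LD1_c15 LD2_c31 LD3_c12))))))
theorem f221530 : Led Lsl_ct (LP (LK LD1_c8 LD2_c26 LD3_c60)) = (LP (LK LD1_c15 LD2_c51 LD3_c52)) :=
  Lre_c IH (LK LD1_c8 LD2_c26 LD3_c60) (LK LD1_c15 LD2_c51 LD3_c52) Lrfl Lrfl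
theorem f189746 : Led Lsl_dt (LP (LK LD1_c8 LD2_c27 LD3_c0)) = (LP (LK LD1_c4 LD2_c14 LD3_c13)) :=
  Lre_d IH (LK LD1_c8 LD2_c27 LD3_c0) (LK LD1_c4 LD2_c14 LD3_c13) Lrfl Lrfl
theorem f355286 : Led Lsl_gf (LP (LK LD1_c11 LD2_c4 LD3_c11)) = (LP (LK LD1_c8 LD2_c27 LD3_c0)) :=
  Lgr Lrot147 (Lpe (f352868 IH) (Lpe (f282411 IH) (Lpr_ct (f264432 IH) (Lpe (K15.f264433 IH) (Lpe (K16.f263041 IH) (Lpr_gf (f355284 IH) (Lpe (f221530 IH) (Lpe (f189757 IH) (Lpe (f189746 IH) (Lpn (LP (LK LD1_c8 LD2_c27 LD3_c0))))))))))))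
theorem f188548 : Led Lsl_gt (LP (LK LD1_c8 LD2_c26 LD3_c39)) = (LP (LK LD1_c4 LD2_c14 LD3_c0)) :=
  Lre_g IH (LK LD1_c8 LD2_c26 LD3_c39) (LK LD1_c4 LD2_c14 LD3_c0) Lrfl Lrfl
theorem f355311 : Led Lsl_dt (LP (LK LD1_c5 LD2_c35 LD3_c57)) = (LP (LK LD1_c8 LD2_c26 LD3_c39)) :=
  Lgr Lrot136 (Lpr_et (f352867 IH) (Lpr_gf (f355286 IH) (Lpe (K23.f223244 IH) (Lpr_dt (K12.f165866 IH) (Lpe (K9.f165855 IH) (Lpe (K9.f32427 IH) (Lpe (K10.f188518 IH) (Lpe (K23.f188058 IH) (Lpr_dt (K10.f188534 IH) (Lpe (f188548 IH) (Lpn (LP (LK LD1_c8 LD2_c26 LD3_c39)))))))))))))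
theorem f188121 : Led Lsl_dt (LP (LK LD1_c15 LD2_c32 LD3_c51)) = (LP (LK LD1_c8 LD2_c16 LD3_c10)) :=
  Lre_d IH (LK LD1_c15 LD2_c32 LD3_c51) (LK LD1_c8 LD2_c16 LD3_c10) Lrfl Lrfl
theorem f313171 : Led Lsl_ct (LP (LK LD1_c4 LD2_c4 LD3_c28)) = (LP (LK LD1_c8 LD2_c9 LD3_c54)) :=
  Lre_c IH (LK LD1_c4 LD2_c4 LD3_c28) (LK LD1_c8 LD2_c9 LD3_c54) Lrfl Lrfl
theorem f313174 : Led Lsl_bt (LP (LK LD1_c4 LD2_c4 LD3_c28)) = (LP (LK LD1_c8 LD2_c9 LD3_c53)) :=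
  Lre_b IH (LK LD1_c4 LD2_c4 LD3_c28) (LK LD1_c8 LD2_c9 LD3_c53) Lrfl Lrfl
theorem f353955 : Led Lsl_gf (LP (LK LD1_c8 LD2_c56 LD3_c3)) = (LP (LK LD1_c15 LD2_c33 LD3_c20)) :=
  Lgr Lrot126 (Lpe (f197549 IH) (Lpr_bt (f353945 IH) (Lpr_gt (K19.f256640 IH) (Lpr_ct (K15.f256636 IH) (Lpr_gt (K22.f313169 IH) (Lpe (f313171 IH) (Lpr_bt (f313174 IH) (Lpr_gt (f352231 IH) (Lpe (K12.f214023 IH) (Lpr_ct (f189674 IH) (Lpn (LP (LK LD1_c15 LD2_c33 LD3_c20)))))))))))))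
theorem f258724 : Led Lsl_dt (LP (LK LD1_c8 LD2_c56 LD3_c3)) = (LP (LK LD1_c16 LD2_c43 LD3_c24)) :=
  Lre_d IH (LK LD1_c8 LD2_c56 LD3_c3) (LK LD1_c16 LD2_c43 LD3_c24) Lrfl Lrfl
theorem f353959 : Led Lsl_gt (LP (LK LD1_c16 LD2_c43 LD3_c24)) = (LP (LK LD1_c15 LD2_c32 LD3_c51)) :=
  Lgr Lrot139 (Lpe (f258724 IH) (Lpr_gf (f353955 IH) (Lpe (K23.f234778 IH) (Lpr_dt (K14.f234758 IH) (Lpe (K13.f49335 IH) (Lpe (K12.f49328 IH) (Lpe (K9.f49297 IH) (Lpe (K10.f49332 IH) (Lpe (K23.f49333 IH) (Lpr_dt (K23.f49334 IH) (Lpn (LP (LK LD1_c15 LD2_c32 LD3_c51)))))))))))))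
theorem f355318 : Led Lsl_gf (LP (LK LD1_c5 LD2_c35 LD3_c57)) = (LP (LK LD1_c8 LD2_c16 LD3_c25)) :=
  Lgr Lrot144 (Lpr_dt (f355311 IH) (Lpr_gt (f188548 IH) (Lpe (K10.f188541 IH) (Lpe (K23.f188059 IH) (Lpe (f188121 IH) (Lpe (f353959 IH) (Lpe (f258724 IH) (Lpr_gf (f353955 IH) (Lpe (f189674 IH) (Lpn (LP (LK LD1_c8 LD2_c16 LD3_c25))))))))))))
theorem f189380 : Led Lsl_bt (LP (LK LD1_c2 LD2_c43 LD3_c50)) = (LP (LK LD1_c5 LD2_c35 LD3_c57)) :=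
  Lre_b IH (LK LD1_c2 LD2_c43 LD3_c50) (LK LD1_c5 LD2_c35 LD3_c57) Lrfl Lrfl
theorem f346456 : Led Lsl_ct (LP (LK LD1_c10 LD2_c30 LD3_c55)) = (LP (LK LD1_c11 LD2_c4 LD3_c12)) :=
  Lgr Lrot59 (Lpr_cf (K23.f346450 IH) (Lpn (LP (LK LD1_c11 LD2_c4 LD3_c12))))
theorem f214026 : Led Lsl_bf (LP (LK LD1_c8 LD2_c16 LD3_c25)) = (LP (LK LD1_c4 LD2_c54 LD3_c51)) :=
  Lgr Lrot24 (Lpr_bt (K12.f214023 IH) (Lpn (LP (LK LD1_c4 LD2_c54 LD3_c51))))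
theorem f333446 : Led Lsl_ct (LP (LK LD1_c10 LD2_c26 LD3_c29)) = (LP (LK LD1_c15 LD2_c11 LD3_c24)) :=
  Lgr Lrot59 (Lpr_cf (K22.f333444 IH) (Lpn (LP (LK LD1_c15 LD2_c11 LD3_c24))))
theorem f329916 : Led Lsl_df (LP (LK LD1_c24 LD2_c52 LD3_c18)) = (LP (LK LD1_c15 LD2_c11 LD3_c24)) :=
  Lgr Lrot38 (Lpr_dt (K22.f329911 IH) (Lpn (LP (LK LD1_c15 LD2_c11 LD3_c24))))
theorem f224159 : Led Lsl_et (LP (LK LD1_c10 LD2_c32 LD3_c23)) = (LP (LK LD1_c19 LD2_c5 LD3_c29)) :=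
  Lre_e IH (LK LD1_c10 LD2_c32 LD3_c23) (LK LD1_c19 LD2_c5 LD3_c29) Lrfl Lrfl
theorem f320518 : Led Lsl_cf (LP (LK LD1_c24 LD2_c52 LD3_c18)) = (LP (LK LD1_c19 LD2_c5 LD3_c29)) :=
  Lgr Lrot39 (Lpr_et (K22.f320517 IH) (Lpr_ct (K20.f320508 IH) (Lpr_et (f224159 IH) (Lpn (LP (LK LD1_c19 LD2_c5 LD3_c29))))))
theorem f275261 : Led Lsl_ct (LP (LK LD1_c16 LD2_c38 LD3_c27)) = (LP (LK LD1_c26 LD2_c36 LD3_c36)) :=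
  Lre_c IH (LK LD1_c16 LD2_c38 LD3_c27) (LK LD1_c26 LD2_c36 LD3_c36) Lrfl Lrfl
theorem f333459 : Led Lsl_gf (LP (LK LD1_c19 LD2_c5 LD3_c29)) = (LP (LK LD1_c26 LD2_c36 LD3_c36)) :=
  Lgr Lrot104 (Lpe (f320518 IH) (Lpr_df (f329916 IH) (Lpe (f333446 IH) (Lpr_gf (K23.f333454 IH) (Lpe (K19.f230594 IH) (Lpr_gf (K21.f268058 IH) (Lpe (K21.f268060 IH) (Lpe (K21.f325663 IH) (Lpr_ct (f275261 IH) (Lpn (LP (LK LD1_c26 LD2_c36 LD3_c36))))))))))))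
theorem f196051 : Led Lsl_et (LP (LK LD1_c19 LD2_c5 LD3_c29)) = (LP (LK LD1_c10 LD2_c32 LD3_c23)) :=
  Lre_e IH (LK LD1_c19 LD2_c5 LD3_c29) (LK LD1_c10 LD2_c32 LD3_c23) Lrfl Lrfl
theorem f224151 : Led Lsl_gt (LP (LK LD1_c19 LD2_c11 LD3_c54)) = (LP (LK LD1_c10 LD2_c36 LD3_c4)) :=
  Lre_g IH (LK LD1_c19 LD2_c11 LD3_c54) (LK LD1_c10 LD2_c36 LD3_c4) Lrfl Lrfl
theorem f224152 : Led Lsl_dt (LP (LK LD1_c19 LD2_c5 LD3_c29)) = (LP (LK LD1_c19 LD2_c11 LD3_c54)) :=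
  Lgr Lrot136 (Lpr_et (f196051 IH) (Lpe (K20.f223566 IH) (Lpe (K21.f224148 IH) (Lpr_dt (K14.f217676 IH) (Lpe (K13.f217449 IH) (Lpr_df (K13.f224064 IH) (Lpe (K13.f224144 IH) (Lpe (K16.f224149 IH) (Lpr_dt (K16.f224150 IH) (Lpe (f224151 IH) (Lpn (LP (LK LD1_c19 LD2_c11 LD3_c54)))))))))))))
theorem f224107 : Led Lsl_et (LP (LK LD1_c9 LD2_c41 LD3_c9)) = (LP (LK LD1_c4 LD2_c54 LD3_c50)) :=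
  Lre_e IH (LK LD1_c9 LD2_c41 LD3_c9) (LK LD1_c4 LD2_c54 LD3_c50) Lrfl Lrfl
theorem f333571 : Led Lsl_et (LP (LK LD1_c16 LD2_c38 LD3_c26)) = (LP (LK LD1_c26 LD2_c36 LD3_c36)) :=
  Lre_e IH (LK LD1_c16 LD2_c38 LD3_c26) (LK LD1_c26 LD2_c36 LD3_c36) Lrfl Lrfl
theorem f329666 : Led Lsl_dt (LP (LK LD1_c16 LD2_c38 LD3_c26)) = (LP (LK LD1_c26 LD2_c36 LD3_c35)) :=
  Lre_d IH (LK LD1_c16 LD2_c38 LD3_c26) (LK LD1_c26 LD2_c36 LD3_c35) Lrfl Lrfl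
theorem f333572 : Led Lsl_gt (LP (LK LD1_c17 LD2_c48 LD3_c60)) = (LP (LK LD1_c26 LD2_c36 LD3_c35)) :=
  Lgr Lrot112 (Lpe (K22.f224069 IH) (Lpr_et (f224107 IH) (Lpe (K13.f224144 IH) (Lpe (K16.f224149 IH) (Lpr_dt (K16.f224150 IH) (Lpe (f224151 IH) (Lpe (f224152 IH) (Lpr_gf (f333459 IH) (Lpe (f333571 IH) (Lpr_dt (f329666 IH) (Lpn (LP (LK LD1_c26 LD2_c36 LD3_c35)))))))))))))
theorem f329673 : Led Lsl_dt (LP (LK LD1_c26 LD2_c36 LD3_c35)) = (LP (LK LD1_c16 LD2_c38 LD3_c26)) :=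
  Lre_d IH (LK LD1_c26 LD2_c36 LD3_c35) (LK LD1_c16 LD2_c38 LD3_c26) Lrfl Lrfl
theorem f231374 : Led Lsl_ct (LP (LK LD1_c8 LD2_c53 LD3_c51)) = (LP (LK LD1_c16 LD2_c38 LD3_c26)) :=
  Lre_c IH (LK LD1_c8 LD2_c53 LD3_c51) (LK LD1_c16 LD2_c38 LD3_c26) Lrfl Lrfl
theorem f213522 : Led Lsl_dt (LP (LK LD1_c1 LD2_c15 LD3_c60)) = (LP (LK LD1_c2 LD2_c38 LD3_c5)) :=
  Lre_d IH (LK LD1_c1 LD2_c15 LD3_c60) (LK LD1_c2 LD2_c38 LD3_c5) Lrfl Lrfl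
theorem f42524 : Led Lsl_gt (LP (LK LD1_c2 LD2_c38 LD3_c4)) = (LP (LK LD1_c1 LD2_c15 LD3_c60)) :=
  Lre_g IH (LK LD1_c2 LD2_c38 LD3_c4) (LK LD1_c1 LD2_c15 LD3_c60) Lrfl Lrfl
theorem f329674 : Led Lsl_ct (LP (LK LD1_c5 LD2_c23 LD3_c13)) = (LP (LK LD1_c2 LD2_c38 LD3_c4)) :=
  Lre_c IH (LK LD1_c5 LD2_c23 LD3_c13) (LK LD1_c2 LD2_c38 LD3_c4) Lrfl Lrfl
theorem f333574 : Led Lsl_gf (LP (LK LD1_c9 LD2_c41 LD3_c9)) = (LP (LK LD1_c5 LD2_c23 LD3_c13)) :=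
  Lgr Lrot144 (Lpr_dt (K22.f224069 IH) (Lpr_gt (f333572 IH) (Lpr_dt (f329673 IH) (Lpe (f231374 IH) (Lpr_df (K21.f329664 IH) (Lpe (K21.f182835 IH) (Lpe (f213522 IH) (Lpe (f42524 IH) (Lpe (f329674 IH) (Lpn (LP (LK LD1_c5 LD2_c23 LD3_c13))))))))))))
theorem f329677 : Led Lsl_ct (LP (LK LD1_c2 LD2_c38 LD3_c4)) = (LP (LK LD1_c5 LD2_c23 LD3_c13)) :=
  Lre_c IH (LK LD1_c2 LD2_c38 LD3_c4) (LK LD1_c5 LD2_c23 LD3_c13) Lrfl Lrfl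
theorem f355324 : Led Lsl_gt (LP (LK LD1_c5 LD2_c20 LD3_c34)) = (LP (LK LD1_c2 LD2_c38 LD3_c4)) :=
  Lgr Lrot82 (Lpe (K23.f42419 IH) (Lpr_ct (f346456 IH) (Lpe (K23.f315627 IH) (Lpe (K23.f189381 IH) (Lpr_bt (f189380 IH) (Lpr_gf (f355318 IH) (Lpr_bf (f214026 IH) (Lpr_ct (K22.f214028 IH) (Lpr_gf (f333574 IH) (Lpe (f329677 IH) (Lpn (LP (LK LD1_c2 LD2_c38 LD3_c4)))))))))))))
theorem f42549 : Led Lsl_gt (LP (LK LD1_c5 LD2_c23 LD3_c16)) = (LP (LK LD1_c2 LD2_c38 LD3_c5)) :=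
  Lre_g IH (LK LD1_c5 LD2_c23 LD3_c16) (LK LD1_c2 LD2_c38 LD3_c5) Lrfl Lrfl
theorem f311243 : Led Lsl_gf (LP (LK LD1_c5 LD2_c23 LD3_c16)) = (LP (LK LD1_c6 LD2_c5 LD3_c8)) :=
  Lgr Lrot47 (Lpr_gt (f42549 IH) (Lpr_af (K19.f311103 IH) (Lpe (K15.f42280 IH) (Lpn (LP (LK LD1_c6 LD2_c5 LD3_c8))))))
theorem f311245 : Led Lsl_ct (LP (LK LD1_c5 LD2_c23 LD3_c16)) = (LP (LK LD1_c10 LD2_c37 LD3_c3)) :=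
  Lre_c IH (LK LD1_c5 LD2_c23 LD3_c16) (LK LD1_c10 LD2_c37 LD3_c3) Lrfl Lrfl
theorem f216318 : Led Lsl_ct (LP (LK LD1_c9 LD2_c41 LD3_c9)) = (LP (LK LD1_c4 LD2_c54 LD3_c51)) :=
  Lre_c IH (LK LD1_c9 LD2_c41 LD3_c9) (LK LD1_c4 LD2_c54 LD3_c51) Lrfl Lrfl
theorem f214063 : Led Lsl_et (LP (LK LD1_c6 LD2_c4 LD3_c29)) = (LP (LK LD1_c11 LD2_c52 LD3_c29)) :=
  Lre_e IH (LK LD1_c6 LD2_c4 LD3_c29) (LK LD1_c11 LD2_c52 LD3_c29) Lrfl Lrfl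
theorem f214064 : Led Lsl_ct (LP (LK LD1_c11 LD2_c52 LD3_c29)) = (LP (LK LD1_c9 LD2_c41 LD3_c11)) :=
  Lgr Lrot15 (Lpe (f214063 IH) (Lpr_cf (K12.f214055 IH) (Lpe (K12.f214050 IH) (Lpn (LP (LK LD1_c9 LD2_c41 LD3_c11))))))
theorem f355328 : Led Lsl_gt (LP (LK LD1_c10 LD2_c37 LD3_c3)) = (LP (LK LD1_c11 LD2_c52 LD3_c29)) :=
  Lgr Lrot150 (Lpe (f311245 IH) (Lpr_gf (f311243 IH) (Lpe (K15.f42281 IH) (Lpr_gt (f355324 IH) (Lpr_ct (f329677 IH) (Lpe (f333574 IH) (Lpr_ct (f216318 IH) (Lpe (K24.f214049 IH) (Lpe (f214064 IH) (Lpn (LP (LK LD1_c11 LD2_c52 LD3_c29))))))))))))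
theorem f305593 : Led Lsl_at (LP (LK LD1_c8 LD2_c6 LD3_c60)) = (LP (LK LD1_c11 LD2_c53 LD3_c28)) :=
  Lgr Lrot100 (Lpr_af (K19.f305591 IH) (Lpn (LP (LK LD1_c11 LD2_c53 LD3_c28))))
theorem f346435 : Led Lsl_cf (LP (LK LD1_c17 LD2_c36 LD3_c5)) = (LP (LK LD1_c11 LD2_c53 LD3_c28)) :=
  Lgr Lrot1 (Lpr_at (K23.f346431 IH) (Lpr_ct (K17.f194721 IH) (Lpr_at (f305593 IH) (Lpn (LP (LK LD1_c11 LD2_c53 LD3_c28))))))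
theorem f327399 : Led Lsl_bt (LP (LK LD1_c5 LD2_c36 LD3_c1)) = (LP (LK LD1_c11 LD2_c4 LD3_c21)) :=
  Lre_b IH (LK LD1_c5 LD2_c36 LD3_c1) (LK LD1_c11 LD2_c4 LD3_c21) Lrfl Lrfl
theorem f214031 : Led Lsl_bf (LP (LK LD1_c8 LD2_c26 LD3_c28)) = (LP (LK LD1_c9 LD2_c41 LD3_c11)) :=
  Lgr Lrot93 (Lpr_dt (K23.f189663 IH) (Lpr_bt (K12.f214023 IH) (Lpr_dt (f214030 IH) (Lpn (LP (LK LD1_c9 LD2_c41 LD3_c11))))))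
theorem f355542 : Led Lsl_gf (LP (LK LD1_c11 LD2_c4 LD3_c21)) = (LP (LK LD1_c8 LD2_c26 LD3_c28)) :=
  Lgr Lrot124 (Lpe (f327399 IH) (Lpr_ct (K22.f315600 IH) (Lpe (K23.f346448 IH) (Lpr_cf (f346435 IH) (Lpr_bt (K15.f42436 IH) (Lpe (f311243 IH) (Lpr_ct (f311245 IH) (Lpr_gt (f355328 IH) (Lpr_cf (K23.f343663 IH) (Lpe (f214031 IH) (Lpn (LP (LK LD1_c8 LD2_c26 LD3_c28)))))))))))))
theorem f355544 : Led Lsl_gt (LP (LK LD1_c11 LD2_c4 LD3_c21)) = (LP (LK LD1_c15 LD2_c25 LD3_c27)) :=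
  Lgr Lrot46 (Lpr_gf (f355542 IH) (Lpr_ft (K12.f189641 IH) (Lpr_at (K23.f317477 IH) (Lpn (LP (LK LD1_c15 LD2_c25 LD3_c27))))))
theorem f347306 : Led Lsl_gt (LP (LK LD1_c15 LD2_c1 LD3_c51)) = (LP (LK LD1_c8 LD2_c18 LD3_c10)) :=
  Lgr Lrot46 (Lpr_gf (K23.f347303 IH) (Lpe (K15.f263578 IH) (Lpr_at (K16.f273873 IH) (Lpn (LP (LK LD1_c8 LD2_c18 LD3_c10))))))
theorem f191732 : Led Lsl_et (LP (LK LD1_c2 LD2_c35 LD3_c28)) = (LP (LK LD1_c5 LD2_c17 LD3_c24)) :=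
  Lre_e IH (LK LD1_c2 LD2_c35 LD3_c28) (LK LD1_c5 LD2_c17 LD3_c24) Lrfl Lrfl
theorem f187692 : Led Lsl_gt (LP (LK LD1_c5 LD2_c17 LD3_c24)) = (LP (LK LD1_c10 LD2_c24 LD3_c19)) :=
  Lre_g IH (LK LD1_c5 LD2_c17 LD3_c24) (LK LD1_c10 LD2_c24 LD3_c19) Lrfl Lrfl
theorem f355546 : Led Lsl_df (LP (LK LD1_c11 LD2_c4 LD3_c21)) = (LP (LK LD1_c10 LD2_c24 LD3_c19)) :=
  Lgr Lrot135 (Lpr_gt (f355544 IH) (Lpr_df (K20.f247708 IH) (Lpe (K20.f317507 IH) (Lpr_gt (f347306 IH) (Lpe (K16.f273877 IH) (Lpe (K17.f266769 IH) (Lpe (K15.f257887 IH) (Lpe (K10.f191723 IH) (Lpr_et (f191732 IH) (Lpr_gt (f187692 IH) (Lpn (LP (LK LD1_c10 LD2_c24 LD3_c19)))))))))))))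
theorem f355553 : Led Lsl_dt (LP (LK LD1_c11 LD2_c4 LD3_c21)) = (LP (LK LD1_c10 LD2_c24 LD3_c19)) :=
  Lgr Lrot42 (Lpr_df (f355546 IH) (Lpn (LP (LK LD1_c10 LD2_c24 LD3_c19))))
theorem f340719 : Led Lsl_et (LP (LK LD1_c11 LD2_c4 LD3_c21)) = (LP (LK LD1_c19 LD2_c56 LD3_c57)) :=
  Lre_e IH (LK LD1_c11 LD2_c4 LD3_c21) (LK LD1_c19 LD2_c56 LD3_c57) Lrfl Lrfl
theorem f187211 : Led Lsl_et (LP (LK LD1_c8 LD2_c26 LD3_c22)) = (LP (LK LD1_c4 LD2_c13 LD3_c49)) :=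
  Lre_e IH (LK LD1_c8 LD2_c26 LD3_c22) (LK LD1_c4 LD2_c13 LD3_c49) Lrfl Lrfl
theorem f323613 : Led Lsl_gf (LP (LK LD1_c8 LD2_c26 LD3_c11)) = (LP (LK LD1_c9 LD2_c57 LD3_c39)) :=
  Lgr Lrot145 (Lpr_df (K16.f266780 IH) (Lpr_et (K16.f266789 IH) (Lpr_gt (K15.f266473 IH) (Lpr_dt (K10.f50876 IH) (Lpr_gt (K9.f53464 IH) (Lpe (K23.f27439 IH) (Lpr_et (K23.f27437 IH) (Lpr_gt (K21.f27442 IH) (Lpe (K22.f189713 IH) (Lpr_dt (K22.f323604 IH) (Lpn (LP (LK LD1_c9 LD2_c57 LD3_c39)))))))))))))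
theorem f355566 : Led Lsl_gt (LP (LK LD1_c19 LD2_c56 LD3_c57)) = (LP (LK LD1_c15 LD2_c52 LD3_c29)) :=
  Lgr Lrot137 (Lpe (f340719 IH) (Lpr_dt (f355553 IH) (Lpe (f187692 IH) (Lpr_df (K10.f191730 IH) (Lpr_et (f187211 IH) (Lpe (K15.f266473 IH) (Lpe (K16.f266789 IH) (Lpe (K16.f266780 IH) (Lpr_gf (f323613 IH) (Lpe (K22.f323604 IH) (Lpn (LP (LK LD1_c15 LD2_c52 LD3_c29)))))))))))))
theorem f274726 : Led Lsl_bt (LP (LK LD1_c11 LD2_c4 LD3_c23)) = (LP (LK LD1_c19 LD2_c56 LD3_c57)) :=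
  Lre_b IH (LK LD1_c11 LD2_c4 LD3_c23) (LK LD1_c19 LD2_c56 LD3_c57) Lrfl Lrfl
theorem f274728 : Led Lsl_ct (LP (LK LD1_c11 LD2_c4 LD3_c23)) = (LP (LK LD1_c19 LD2_c56 LD3_c59)) :=
  Lre_c IH (LK LD1_c11 LD2_c4 LD3_c23) (LK LD1_c19 LD2_c56 LD3_c59) Lrfl Lrfl
theorem f322903 : Led Lsl_cf (LP (LK LD1_c32 LD2_c15 LD3_c0)) = (LP (LK LD1_c28 LD2_c14 LD3_c48)) :=
  Lgr Lrot11 (Lpr_ct (K20.f322899 IH) (Lpn (LP (LK LD1_c28 LD2_c14 LD3_c48))))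
theorem f286427 : Led Lsl_af (LP (LK LD1_c5 LD2_c16 LD3_c0)) = (LP (LK LD1_c10 LD2_c8 LD3_c16)) :=
  Lgr Lrot68 (Lpe (K17.f184068 IH) (Lpr_at (K17.f286423 IH) (Lpr_ct (K17.f286321 IH) (Lpn (LP (LK LD1_c10 LD2_c8 LD3_c16))))))
theorem f286447 : Led Lsl_ft (LP (LK LD1_c18 LD2_c27 LD3_c57)) = (LP (LK LD1_c10 LD2_c8 LD3_c16)) :=
  Lre_f IH (LK LD1_c18 LD2_c27 LD3_c57) (LK LD1_c10 LD2_c8 LD3_c16) Lrfl Lrfl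
theorem f320039 : Led Lsl_gf (LP (LK LD1_c10 LD2_c21 LD3_c1)) = (LP (LK LD1_c18 LD2_c27 LD3_c57)) :=
  Lgr Lrot47 (Lpr_gt (K22.f320036 IH) (Lpr_af (f286427 IH) (Lpe (f286447 IH) (Lpn (LP (LK LD1_c18 LD2_c27 LD3_c57))))))
theorem f271606 : Led Lsl_ct (LP (LK LD1_c10 LD2_c21 LD3_c1)) = (LP (LK LD1_c5 LD2_c15 LD3_c50)) :=
  Lre_c IH (LK LD1_c10 LD2_c21 LD3_c1) (LK LD1_c5 LD2_c15 LD3_c50) Lrfl Lrfl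
theorem f271596 : Led Lsl_ct (LP (LK LD1_c18 LD2_c47 LD3_c0)) = (LP (LK LD1_c10 LD2_c20 LD3_c59)) :=
  Lre_c IH (LK LD1_c18 LD2_c47 LD3_c0) (LK LD1_c10 LD2_c20 LD3_c59) Lrfl Lrfl
theorem f320046 : Led Lsl_gt (LP (LK LD1_c28 LD2_c16 LD3_c42)) = (LP (LK LD1_c18 LD2_c47 LD3_c0)) :=
  Lre_g IH (LK LD1_c28 LD2_c16 LD3_c42) (LK LD1_c18 LD2_c47 LD3_c0) Lrfl Lrfl
theorem f286374 : Led Lsl_gt (LP (LK LD1_c28 LD2_c2 LD3_c49)) = (LP (LK LD1_c18 LD2_c47 LD3_c57)) :=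
  Lgr Lrot5 (Lpr_ft (K17.f286345 IH) (Lpr_at (K17.f286359 IH) (Lpe (K22.f45441 IH) (Lpn (LP (LK LD1_c18 LD2_c47 LD3_c57))))))
theorem f320047 : Led Lsl_cf (LP (LK LD1_c28 LD2_c16 LD3_c42)) = (LP (LK LD1_c18 LD2_c47 LD3_c57)) :=
  Lgr Lrot169 (Lpr_gt (f320046 IH) (Lpr_ct (f271596 IH) (Lpe (K23.f257805 IH) (Lpe (K23.f180924 IH) (Lpe (K21.f180951 IH) (Lpe (f271606 IH) (Lpr_gf (f320039 IH) (Lpe (K17.f286344 IH) (Lpr_gt (f286374 IH) (Lpn (LP (LK LD1_c18 LD2_c47 LD3_c57))))))))))))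
theorem f169506 : Led Lsl_ft (LP (LK LD1_c21 LD2_c0 LD3_c0)) = (LP (LK LD1_c11 LD2_c55 LD3_c9)) :=
  Lre_f IH (LK LD1_c21 LD2_c0 LD3_c0) (LK LD1_c11 LD2_c55 LD3_c9) Lrfl Lrfl
theorem f317981 : Led Lsl_at (LP (LK LD1_c11 LD2_c55 LD3_c9)) = (LP (LK LD1_c15 LD2_c56 LD3_c15)) :=
  Lgr Lrot66 (Lpe (f169506 IH) (Lpe (f317898 IH) (Lpr_ff (f317973 IH) (Lpn (LP (LK LD1_c15 LD2_c56 LD3_c15))))))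
theorem f48232 : Led Lsl_ct (LP (LK LD1_c25 LD2_c52 LD3_c40)) = (LP (LK LD1_c15 LD2_c56 LD3_c15)) :=
  Lre_c IH (LK LD1_c25 LD2_c52 LD3_c40) (LK LD1_c15 LD2_c56 LD3_c15) Lrfl Lrfl
theorem f320053 : Led Lsl_dt (LP (LK LD1_c28 LD2_c16 LD3_c42)) = (LP (LK LD1_c25 LD2_c52 LD3_c40)) :=
  Lgr Lrot120 (Lpr_cf (f320047 IH) (Lpe (K22.f319993 IH) (Lpe (K17.f169500 IH) (Lpe (K9.f169495 IH) (Lpe (K19.f169497 IH) (Lpe (f169498 IH) (Lpr_ft (f169506 IH) (Lpr_at (f317981 IH) (Lpe (f48232 IH) (Lpn (LP (LK LD1_c25 LD2_c52 LD3_c40))))))))))))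
theorem f48214 : Led Lsl_ct (LP (LK LD1_c15 LD2_c56 LD3_c15)) = (LP (LK LD1_c25 LD2_c52 LD3_c40)) :=
  Lre_c IH (LK LD1_c15 LD2_c56 LD3_c15) (LK LD1_c25 LD2_c52 LD3_c40) Lrfl Lrfl
theorem f217949 : Led Lsl_dt (LP (LK LD1_c4 LD2_c14 LD3_c17)) = (LP (LK LD1_c8 LD2_c27 LD3_c13)) :=
  Lre_d IH (LK LD1_c4 LD2_c14 LD3_c17) (LK LD1_c8 LD2_c27 LD3_c13) Lrfl Lrfl
theorem f245079 : Led Lsl_et (LP (LK LD1_c8 LD2_c56 LD3_c30)) = (LP (LK LD1_c4 LD2_c29 LD3_c7)) :=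
  Lre_e IH (LK LD1_c8 LD2_c56 LD3_c30) (LK LD1_c4 LD2_c29 LD3_c7) Lrfl Lrfl
theorem f245080 : Led Lsl_dt (LP (LK LD1_c8 LD2_c56 LD3_c30)) = (LP (LK LD1_c16 LD2_c44 LD3_c19)) :=
  Lre_d IH (LK LD1_c8 LD2_c56 LD3_c30) (LK LD1_c16 LD2_c44 LD3_c19) Lrfl Lrfl
theorem f310368 : Led Lsl_et (LP (LK LD1_c11 LD2_c2 LD3_c16)) = (LP (LK LD1_c5 LD2_c34 LD3_c60)) :=
  Lre_e IH (LK LD1_c11 LD2_c2 LD3_c16) (LK LD1_c5 LD2_c34 LD3_c60) Lrfl Lrfl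
theorem f310369 : Led Lsl_dt (LP (LK LD1_c11 LD2_c2 LD3_c16)) = (LP (LK LD1_c19 LD2_c53 LD3_c31)) :=
  Lre_d IH (LK LD1_c11 LD2_c2 LD3_c16) (LK LD1_c19 LD2_c53 LD3_c31) Lrfl Lrfl
theorem f310370 : Led Lsl_gf (LP (LK LD1_c16 LD2_c44 LD3_c19)) = (LP (LK LD1_c19 LD2_c53 LD3_c31)) :=
  Lgr Lrot145 (Lpe (f245080 IH) (Lpr_et (f245079 IH) (Lpe (K16.f245076 IH) (Lpr_dt (K13.f243626 IH) (Lpr_gt (K16.f271456 IH) (Lpe (f217949 IH) (Lpr_et (K21.f183777 IH) (Lpr_gt (K21.f310355 IH) (Lpe (f310368 IH) (Lpr_dt (f310369 IH) (Lpn (LP (LK LD1_c19 LD2_c53 LD3_c31)))))))))))))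
theorem f310374 : Led Lsl_ct (LP (LK LD1_c29 LD2_c9 LD3_c25)) = (LP (LK LD1_c19 LD2_c53 LD3_c31)) :=
  Lre_c IH (LK LD1_c29 LD2_c9 LD3_c25) (LK LD1_c19 LD2_c53 LD3_c31) Lrfl Lrfl
theorem f310372 : Led Lsl_gt (LP (LK LD1_c19 LD2_c30 LD3_c26)) = (LP (LK LD1_c19 LD2_c53 LD3_c31)) :=
  Lgr Lrot5 (Lpr_ft (K17.f261560 IH) (Lpe (K17.f286445 IH) (Lpr_gf (f310370 IH) (Lpn (LP (LK LD1_c19 LD2_c53 LD3_c31))))))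
theorem f271609 : Led Lsl_ct (LP (LK LD1_c26 LD2_c43 LD3_c2)) = (LP (LK LD1_c16 LD2_c44 LD3_c14)) :=
  Lre_c IH (LK LD1_c26 LD2_c43 LD3_c2) (LK LD1_c16 LD2_c44 LD3_c14) Lrfl Lrfl
theorem f310375 : Led Lsl_ct (LP (LK LD1_c19 LD2_c53 LD3_c31)) = (LP (LK LD1_c29 LD2_c9 LD3_c25)) :=
  Lre_c IH (LK LD1_c19 LD2_c53 LD3_c31) (LK LD1_c29 LD2_c9 LD3_c25) Lrfl Lrfl
theorem f310383 : Led Lsl_gf (LP (LK LD1_c26 LD2_c43 LD3_c2)) = (LP (LK LD1_c29 LD2_c9 LD3_c25)) :=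
  Lgr Lrot104 (Lpr_ct (f271609 IH) (Lpe (K20.f221240 IH) (Lpe (K20.f178018 IH) (Lpe (K23.f271586 IH) (Lpe (K19.f169497 IH) (Lpr_gf (K19.f286267 IH) (Lpe (K17.f261546 IH) (Lpr_gt (f310372 IH) (Lpr_ct (f310375 IH) (Lpn (LP (LK LD1_c29 LD2_c9 LD3_c25))))))))))))
theorem f320061 : Led Lsl_gf (LP (LK LD1_c28 LD2_c16 LD3_c42)) = (LP (LK LD1_c32 LD2_c15 LD3_c0)) :=
  Lgr Lrot143 (Lpr_dt (f320053 IH) (Lpe (f48214 IH) (Lpe (K19.f48213 IH) (Lpr_gf (K16.f275108 IH) (Lpe (K17.f274979 IH) (Lpr_gf (f310370 IH) (Lpe (f310374 IH) (Lpe (f310383 IH) (Lpr_dt (K20.f271598 IH) (Lpn (LP (LK LD1_c32 LD2_c15 LD3_c0))))))))))))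
theorem f320049 : Led Lsl_ct (LP (LK LD1_c28 LD2_c16 LD3_c42)) = (LP (LK LD1_c18 LD2_c47 LD3_c57)) :=
  Lgr Lrot59 (Lpr_cf (f320047 IH) (Lpn (LP (LK LD1_c18 LD2_c47 LD3_c57))))
theorem f257172 : Led Lsl_ct (LP (LK LD1_c18 LD2_c53 LD3_c7)) = (LP (LK LD1_c10 LD2_c24 LD3_c34)) :=
  Lre_c IH (LK LD1_c18 LD2_c53 LD3_c7) (LK LD1_c10 LD2_c24 LD3_c34) Lrfl Lrfl
theorem f340705 : Led Lsl_gt (LP (LK LD1_c10 LD2_c24 LD3_c39)) = (LP (LK LD1_c18 LD2_c53 LD3_c7)) :=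
  Lgr Lrot9 (Lpr_df (K23.f340694 IH) (Lpr_gt (K23.f322897 IH) (Lpe (f322903 IH) (Lpe (f320061 IH) (Lpr_ct (f320049 IH) (Lpe (K22.f319993 IH) (Lpe (K17.f169500 IH) (Lpr_gf (K22.f335548 IH) (Lpe (f257172 IH) (Lpn (LP (LK LD1_c18 LD2_c53 LD3_c7))))))))))))
theorem f252634 : Led Lsl_gt (LP (LK LD1_c18 LD2_c4 LD3_c16)) = (LP (LK LD1_c9 LD2_c52 LD3_c18)) :=
  Lre_g IH (LK LD1_c18 LD2_c4 LD3_c16) (LK LD1_c9 LD2_c52 LD3_c18) Lrfl Lrfl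
theorem f48226 : Led Lsl_ct (LP (LK LD1_c10 LD2_c24 LD3_c34)) = (LP (LK LD1_c18 LD2_c53 LD3_c7)) :=
  Lre_c IH (LK LD1_c10 LD2_c24 LD3_c34) (LK LD1_c18 LD2_c53 LD3_c7) Lrfl Lrfl
theorem f335865 : Led Lsl_gf (LP (LK LD1_c18 LD2_c45 LD3_c61)) = (LP (LK LD1_c18 LD2_c38 LD3_c37)) :=
  Lgr Lrot76 (Lpr_af (K22.f335861 IH) (Lpe (K22.f240276 IH) (Lpr_gt (K23.f240280 IH) (Lpn (LP (LK LD1_c18 LD2_c38 LD3_c37))))))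
theorem f340709 : Led Lsl_bf (LP (LK LD1_c18 LD2_c4 LD3_c16)) = (LP (LK LD1_c9 LD2_c52 LD3_c34)) :=
  Lgr Lrot165 (Lpr_gt (f252634 IH) (Lpe (K23.f259671 IH) (Lpr_gt (f340705 IH) (Lpe (f48226 IH) (Lpr_bt (K23.f339937 IH) (Lpe (f335865 IH) (Lpr_bf (K22.f312383 IH) (Lpr_ct (K21.f326770 IH) (Lpe (K22.f327088 IH) (Lpe (K22.f274715 IH) (Lpn (LP (LK LD1_c9 LD2_c52 LD3_c34)))))))))))))
theorem f274714 : Led Lsl_bt (LP (LK LD1_c19 LD2_c56 LD3_c57)) = (LP (LK LD1_c11 LD2_c4 LD3_c23)) :=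
  Lre_b IH (LK LD1_c19 LD2_c56 LD3_c57) (LK LD1_c11 LD2_c4 LD3_c23) Lrfl Lrfl
theorem f340714 : Led Lsl_dt (LP (LK LD1_c18 LD2_c4 LD3_c16)) = (LP (LK LD1_c19 LD2_c56 LD3_c57)) :=
  Lgr Lrot79 (Lpr_bf (f340709 IH) (Lpr_df (K22.f274712 IH) (Lpe (f274714 IH) (Lpn (LP (LK LD1_c19 LD2_c56 LD3_c57))))))
theorem f340716 : Led Lsl_df (LP (LK LD1_c18 LD2_c4 LD3_c16)) = (LP (LK LD1_c19 LD2_c56 LD3_c57)) :=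
  Lgr Lrot38 (Lpr_dt (f340714 IH) (Lpn (LP (LK LD1_c19 LD2_c56 LD3_c57))))
theorem f257164 : Led Lsl_ct (LP (LK LD1_c10 LD2_c54 LD3_c25)) = (LP (LK LD1_c5 LD2_c31 LD3_c25)) :=
  Lre_c IH (LK LD1_c10 LD2_c54 LD3_c25) (LK LD1_c5 LD2_c31 LD3_c25) Lrfl Lrfl
theorem f355568 : Led Lsl_gf (LP (LK LD1_c10 LD2_c54 LD3_c25)) = (LP (LK LD1_c19 LD2_c28 LD3_c17)) :=
  Lgr Lrot104 (Lpr_ct (f257164 IH) (Lpr_df (K22.f257167 IH) (Lpe (f257172 IH) (Lpe (f340705 IH) (Lpr_cf (K23.f259671 IH) (Lpe (f252634 IH) (Lpr_df (f340716 IH) (Lpr_gt (f355566 IH) (Lpe (K22.f324018 IH) (Lpn (LP (LK LD1_c19 LD2_c28 LD3_c17))))))))))))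
theorem f257176 : Led Lsl_ct (LP (LK LD1_c5 LD2_c31 LD3_c25)) = (LP (LK LD1_c10 LD2_c54 LD3_c25)) :=
  Lre_c IH (LK LD1_c5 LD2_c31 LD3_c25) (LK LD1_c10 LD2_c54 LD3_c25) Lrfl Lrfl
theorem f257175 : Led Lsl_bt (LP (LK LD1_c5 LD2_c31 LD3_c25)) = (LP (LK LD1_c10 LD2_c54 LD3_c22)) :=
  Lre_b IH (LK LD1_c5 LD2_c31 LD3_c25) (LK LD1_c10 LD2_c54 LD3_c22) Lrfl Lrfl
theorem f339949 : Led Lsl_gt (LP (LK LD1_c10 LD2_c54 LD3_c22)) = (LP (LK LD1_c19 LD2_c42 LD3_c20)) :=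
  Lre_g IH (LK LD1_c10 LD2_c54 LD3_c22) (LK LD1_c19 LD2_c42 LD3_c20) Lrfl Lrfl
theorem f355570 : Led Lsl_bt (LP (LK LD1_c15 LD2_c14 LD3_c9)) = (LP (LK LD1_c19 LD2_c42 LD3_c20)) :=
  Lgr Lrot92 (Lpr_ct (K22.f259114 IH) (Lpe (K22.f327386 IH) (Lpe (f274728 IH) (Lpr_bt (f274726 IH) (Lpr_gt (f355566 IH) (Lpe (K22.f324018 IH) (Lpe (f355568 IH) (Lpe (f257176 IH) (Lpr_bt (f257175 IH) (Lpr_gt (f339949 IH) (Lpn (LP (LK LD1_c19 LD2_c42 LD3_c20)))))))))))))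
theorem f355574 : Led Lsl_df (LP (LK LD1_c15 LD2_c14 LD3_c8)) = (LP (LK LD1_c19 LD2_c42 LD3_c20)) :=
  Lgr Lrot12 (Lpr_bt (K21.f275883 IH) (Lpr_dt (K20.f259112 IH) (Lpr_bt (f355570 IH) (Lpn (LP (LK LD1_c19 LD2_c42 LD3_c20))))))
theorem f322850 : Led Lsl_df (LP (LK LD1_c6 LD2_c5 LD3_c51)) = (LP (LK LD1_c5 LD2_c15 LD3_c51)) :=
  Lgr Lrot78 (Lpr_ft (K20.f322848 IH) (Lpe (K19.f271599 IH) (Lpr_ft (K20.f271603 IH) (Lpn (LP (LK LD1_c5 LD2_c15 LD3_c51))))))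
theorem f351261 : Led Lsl_et (LP (LK LD1_c5 LD2_c15 LD3_c51)) = (LP (LK LD1_c8 LD2_c17 LD3_c50)) :=
  Lgr Lrot121 (Lpe (f322850 IH) (Lpe (K20.f169526 IH) (Lpr_df (K9.f169503 IH) (Lpr_et (K17.f169534 IH) (Lpr_gf (K9.f183694 IH) (Lpr_ef (K16.f254561 IH) (Lpr_dt (K23.f611 IH) (Lpe (K23.f250642 IH) (Lpr_df (f348356 IH) (Lpr_gf (f351245 IH) (Lpn (LP (LK LD1_c8 LD2_c17 LD3_c50)))))))))))))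
theorem f47608 : Led Lsl_bt (LP (LK LD1_c5 LD2_c15 LD3_c59)) = (LP (LK LD1_c10 LD2_c21 LD3_c8)) :=
  Lre_b IH (LK LD1_c5 LD2_c15 LD3_c59) (LK LD1_c10 LD2_c21 LD3_c8) Lrfl Lrfl
theorem f320825 : Led Lsl_af (LP (LK LD1_c5 LD2_c15 LD3_c59)) = (LP (LK LD1_c8 LD2_c17 LD3_c50)) :=
  Lgr Lrot36 (Lpr_bt (f47608 IH) (Lpe (K19.f311407 IH) (Lpr_bt (K21.f187137 IH) (Lpr_at (K20.f320821 IH) (Lpe (f229011 IH) (Lpn (LP (LK LD1_c8 LD2_c17 LD3_c50))))))))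
theorem f328544 : Led Lsl_ef (LP (LK LD1_c10 LD2_c19 LD3_c39)) = (LP (LK LD1_c5 LD2_c15 LD3_c59)) :=
  Lgr Lrot73 (Lpe (K20.f317704 IH) (Lpe (K21.f324237 IH) (Lpr_dt (K20.f323216 IH) (Lpr_et (K21.f328540 IH) (Lpe (K12.f47591 IH) (Lpn (LP (LK LD1_c5 LD2_c15 LD3_c59))))))))
theorem f351263 : Led Lsl_af (LP (LK LD1_c5 LD2_c15 LD3_c51)) = (LP (LK LD1_c10 LD2_c19 LD3_c39)) :=
  Lgr Lrot50 (Lpr_et (f351261 IH) (Lpe (f320825 IH) (Lpe (f328544 IH) (Lpn (LP (LK LD1_c10 LD2_c19 LD3_c39))))))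
theorem f351265 : Led Lsl_gf (LP (LK LD1_c5 LD2_c15 LD3_c51)) = (LP (LK LD1_c5 LD2_c18 LD3_c26)) :=
  Lgr Lrot76 (Lpr_af (f351263 IH) (Lpe (K20.f214822 IH) (Lpe (K22.f333442 IH) (Lpn (LP (LK LD1_c5 LD2_c18 LD3_c26))))))
theorem f309758 : Led Lsl_dt (LP (LK LD1_c10 LD2_c26 LD3_c38)) = (LP (LK LD1_c5 LD2_c18 LD3_c26)) :=
  Lre_d IH (LK LD1_c10 LD2_c26 LD3_c38) (LK LD1_c5 LD2_c18 LD3_c26) Lrfl Lrfl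
theorem f263258 : Led Lsl_ct (LP (LK LD1_c11 LD2_c56 LD3_c1)) = (LP (LK LD1_c21 LD2_c0 LD3_c52)) :=
  Lre_c IH (LK LD1_c11 LD2_c56 LD3_c1) (LK LD1_c21 LD2_c0 LD3_c52) Lrfl Lrfl
theorem f335500 : Led Lsl_gt (LP (LK LD1_c21 LD2_c0 LD3_c52)) = (LP (LK LD1_c19 LD2_c28 LD3_c17)) :=
  Lgr Lrot94 (Lpe (f263258 IH) (Lpr_gt (K23.f335498 IH) (Lpr_dt (K21.f317711 IH) (Lpr_gt (K21.f214827 IH) (Lpe (K20.f317687 IH) (Lpe (K20.f282865 IH) (Lpe (K20.f282864 IH) (Lpe (K22.f282850 IH) (Lpr_df (K22.f282855 IH) (Lpn (LP (LK LD1_c19 LD2_c28 LD3_c17))))))))))))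
theorem f323603 : Led Lsl_ct (LP (LK LD1_c18 LD2_c13 LD3_c39)) = (LP (LK LD1_c9 LD2_c57 LD3_c39)) :=
  Lre_c IH (LK LD1_c18 LD2_c13 LD3_c39) (LK LD1_c9 LD2_c57 LD3_c39) Lrfl Lrfl
theorem f351269 : Led Lsl_gt (LP (LK LD1_c10 LD2_c20 LD3_c60)) = (LP (LK LD1_c18 LD2_c13 LD3_c39)) :=
  Lgr Lrot150 (Lpe (K20.f180976 IH) (Lpr_gf (f351265 IH) (Lpe (f309758 IH) (Lpe (K22.f335514 IH) (Lpr_ct (f263258 IH) (Lpr_gt (f335500 IH) (Lpr_ct (K22.f323956 IH) (Lpr_df (K22.f323601 IH) (Lpe (f323603 IH) (Lpn (LP (LK LD1_c18 LD2_c13 LD3_c39))))))))))))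
theorem f351300 : Led Lsl_gf (LP (LK LD1_c10 LD2_c19 LD3_c37)) = (LP (LK LD1_c18 LD2_c13 LD3_c39)) :=
  Lgr Lrot76 (Lpe (K20.f322869 IH) (Lpe (K20.f322868 IH) (Lpr_gt (f351269 IH) (Lpn (LP (LK LD1_c18 LD2_c13 LD3_c39))))))
theorem f323609 : Led Lsl_ct (LP (LK LD1_c9 LD2_c57 LD3_c39)) = (LP (LK LD1_c18 LD2_c13 LD3_c39)) :=
  Lre_c IH (LK LD1_c9 LD2_c57 LD3_c39) (LK LD1_c18 LD2_c13 LD3_c39) Lrfl Lrfl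
theorem f323608 : Led Lsl_bt (LP (LK LD1_c9 LD2_c57 LD3_c39)) = (LP (LK LD1_c5 LD2_c3 LD3_c22)) :=
  Lre_b IH (LK LD1_c9 LD2_c57 LD3_c39) (LK LD1_c5 LD2_c3 LD3_c22) Lrfl Lrfl
theorem f351310 : Led Lsl_gt (LP (LK LD1_c8 LD2_c52 LD3_c1)) = (LP (LK LD1_c15 LD2_c14 LD3_c8)) :=
  Lgr Lrot82 (Lpe (K14.f214801 IH) (Lpr_ct (K20.f214813 IH) (Lpr_gf (f351300 IH) (Lpe (f323609 IH) (Lpr_bt (f323608 IH) (Lpr_gf (K21.f326888 IH) (Lpr_bf (K14.f248749 IH) (Lpr_ct (K14.f249050 IH) (Lpe (K21.f249678 IH) (Lpe (K21.f326890 IH) (Lpn (LP (LK LD1_c15 LD2_c14 LD3_c8)))))))))))))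
theorem f351313 : Led Lsl_gf (LP (LK LD1_c10 LD2_c33 LD3_c2)) = (LP (LK LD1_c15 LD2_c14 LD3_c8)) :=
  Lgr Lrot76 (Lpe (K23.f340154 IH) (Lpe (K20.f214808 IH) (Lpr_gt (f351310 IH) (Lpn (LP (LK LD1_c15 LD2_c14 LD3_c8))))))
theorem f303359 : Led Lsl_gt (LP (LK LD1_c19 LD2_c29 LD3_c18)) = (LP (LK LD1_c28 LD2_c51 LD3_c33)) :=
  Lre_g IH (LK LD1_c19 LD2_c29 LD3_c18) (LK LD1_c28 LD2_c51 LD3_c33) Lrfl Lrfl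
theorem f303398 : Led Lsl_gt (LP (LK LD1_c28 LD2_c51 LD3_c33)) = (LP (LK LD1_c25 LD2_c20 LD3_c30)) :=
  Lgr Lrot46 (Lpe (f303359 IH) (Lpr_ft (K23.f303397 IH) (Lpr_at (K23.f303392 IH) (Lpn (LP (LK LD1_c25 LD2_c20 LD3_c30))))))
theorem f282886 : Led Lsl_dt (LP (LK LD1_c10 LD2_c46 LD3_c33)) = (LP (LK LD1_c19 LD2_c29 LD3_c18)) :=
  Lre_d IH (LK LD1_c10 LD2_c46 LD3_c33) (LK LD1_c19 LD2_c29 LD3_c18) Lrfl Lrfl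
theorem f254200 : Led Lsl_gt (LP (LK LD1_c5 LD2_c10 LD3_c29)) = (LP (LK LD1_c10 LD2_c11 LD3_c35)) :=
  Lre_g IH (LK LD1_c5 LD2_c10 LD3_c29) (LK LD1_c10 LD2_c11 LD3_c35) Lrfl Lrfl
theorem f307231 : Led Lsl_ct (LP (LK LD1_c28 LD2_c8 LD3_c17)) = (LP (LK LD1_c18 LD2_c34 LD3_c6)) :=
  Lre_c IH (LK LD1_c28 LD2_c8 LD3_c17) (LK LD1_c18 LD2_c34 LD3_c6) Lrfl Lrfl
theorem f317762 : Led Lsl_dt (LP (LK LD1_c28 LD2_c51 LD3_c33)) = (LP (LK LD1_c28 LD2_c8 LD3_c17)) :=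
  Lgr Lrot105 (Lpe (f303359 IH) (Lpe (f282886 IH) (Lpe (K20.f303351 IH) (Lpr_cf (K20.f317757 IH) (Lpr_gt (K23.f254198 IH) (Lpe (K14.f253614 IH) (Lpr_gt (f254200 IH) (Lpr_dt (K21.f256408 IH) (Lpe (f307231 IH) (Lpn (LP (LK LD1_c28 LD2_c8 LD3_c17))))))))))))
theorem f318008 : Led Lsl_df (LP (LK LD1_c28 LD2_c51 LD3_c33)) = (LP (LK LD1_c28 LD2_c8 LD3_c17)) :=
  Lgr Lrot38 (Lpr_dt (f317762 IH) (Lpn (LP (LK LD1_c28 LD2_c8 LD3_c17))))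
theorem f355581 : Led Lsl_gf (LP (LK LD1_c28 LD2_c8 LD3_c17)) = (LP (LK LD1_c19 LD2_c42 LD3_c18)) :=
  Lgr Lrot144 (Lpe (f318008 IH) (Lpr_gt (f303398 IH) (Lpr_dt (K23.f274208 IH) (Lpe (K23.f331332 IH) (Lpr_df (K21.f331326 IH) (Lpr_gf (f351313 IH) (Lpr_df (f355574 IH) (Lpe (f339949 IH) (Lpe (K23.f335533 IH) (Lpn (LP (LK LD1_c19 LD2_c42 LD3_c18))))))))))))
theorem f253681 : Led Lsl_ct (LP (LK LD1_c18 LD2_c34 LD3_c5)) = (LP (LK LD1_c10 LD2_c11 LD3_c35)) :=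
  Lre_c IH (LK LD1_c18 LD2_c34 LD3_c5) (LK LD1_c10 LD2_c11 LD3_c35) Lrfl Lrfl
theorem f254113 : Led Lsl_dt (LP (LK LD1_c11 LD2_c5 LD3_c14)) = (LP (LK LD1_c19 LD2_c58 LD3_c16)) :=
  Lre_d IH (LK LD1_c11 LD2_c5 LD3_c14) (LK LD1_c19 LD2_c58 LD3_c16) Lrfl Lrfl
theorem f240279 : Led Lsl_dt (LP (LK LD1_c20 LD2_c56 LD3_c16)) = (LP (LK LD1_c11 LD2_c53 LD3_c0)) :=
  Lre_d IH (LK LD1_c20 LD2_c56 LD3_c16) (LK LD1_c11 LD2_c53 LD3_c0) Lrfl Lrfl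
theorem f340055 : Led Lsl_ft (LP (LK LD1_c19 LD2_c58 LD3_c16)) = (LP (LK LD1_c20 LD2_c56 LD3_c16)) :=
  Lgr Lrot54 (Lpe (f254113 IH) (Lpr_ff (K23.f340053 IH) (Lpe (f240279 IH) (Lpn (LP (LK LD1_c20 LD2_c56 LD3_c16))))))
theorem f296229 : Led Lsl_dt (LP (LK LD1_c19 LD2_c58 LD3_c14)) = (LP (LK LD1_c11 LD2_c5 LD3_c13)) :=
  Lre_d IH (LK LD1_c19 LD2_c58 LD3_c14) (LK LD1_c11 LD2_c5 LD3_c13) Lrfl Lrfl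
theorem f312311 : Led Lsl_at (LP (LK LD1_c20 LD2_c56 LD3_c16)) = (LP (LK LD1_c19 LD2_c58 LD3_c14)) :=
  Lgr Lrot51 (Lpe (K23.f240272 IH) (Lpr_af (K19.f312305 IH) (Lpe (f296229 IH) (Lpn (LP (LK LD1_c19 LD2_c58 LD3_c14))))))
theorem f254203 : Led Lsl_dt (LP (LK LD1_c29 LD2_c13 LD3_c5)) = (LP (LK LD1_c19 LD2_c57 LD3_c52)) :=
  Lre_d IH (LK LD1_c29 LD2_c13 LD3_c5) (LK LD1_c19 LD2_c57 LD3_c52) Lrfl Lrfl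
theorem f253598 : Led Lsl_dt (LP (LK LD1_c11 LD2_c5 LD3_c13)) = (LP (LK LD1_c19 LD2_c58 LD3_c14)) :=
  Lre_d IH (LK LD1_c11 LD2_c5 LD3_c13) (LK LD1_c19 LD2_c58 LD3_c14) Lrfl Lrfl
theorem f312301 : Led Lsl_ff (LP (LK LD1_c29 LD2_c13 LD3_c5)) = (LP (LK LD1_c19 LD2_c58 LD3_c14)) :=
  Lgr Lrot19 (Lpr_dt (f254203 IH) (Lpr_ft (K19.f312297 IH) (Lpr_dt (f253598 IH) (Lpn (LP (LK LD1_c19 LD2_c58 LD3_c14))))))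
theorem f340133 : Led Lsl_af (LP (LK LD1_c19 LD2_c58 LD3_c16)) = (LP (LK LD1_c29 LD2_c13 LD3_c5)) :=
  Lgr Lrot45 (Lpr_ft (f340055 IH) (Lpr_at (f312311 IH) (Lpe (f312301 IH) (Lpn (LP (LK LD1_c29 LD2_c13 LD3_c5))))))
theorem f340143 : Led Lsl_at (LP (LK LD1_c19 LD2_c58 LD3_c16)) = (LP (LK LD1_c29 LD2_c13 LD3_c5)) :=
  Lgr Lrot100 (Lpr_af (f340133 IH) (Lpn (LP (LK LD1_c29 LD2_c13 LD3_c5))))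
theorem f337626 : Led Lsl_dt (LP (LK LD1_c19 LD2_c58 LD3_c16)) = (LP (LK LD1_c11 LD2_c5 LD3_c14)) :=
  Lre_d IH (LK LD1_c19 LD2_c58 LD3_c16) (LK LD1_c11 LD2_c5 LD3_c14) Lrfl Lrfl
theorem f340049 : Led Lsl_ff (LP (LK LD1_c19 LD2_c58 LD3_c16)) = (LP (LK LD1_c20 LD2_c56 LD3_c16)) :=
  Lgr Lrot19 (Lpr_dt (f337626 IH) (Lpr_ft (K23.f340044 IH) (Lpr_dt (K23.f240272 IH) (Lpn (LP (LK LD1_c20 LD2_c56 LD3_c16))))))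
theorem f340145 : Led Lsl_gt (LP (LK LD1_c29 LD2_c45 LD3_c7)) = (LP (LK LD1_c29 LD2_c13 LD3_c5)) :=
  Lgr Lrot46 (Lpe (K23.f274383 IH) (Lpe (f340049 IH) (Lpr_at (f340143 IH) (Lpn (LP (LK LD1_c29 LD2_c13 LD3_c5))))))
theorem f312396 : Led Lsl_ct (LP (LK LD1_c18 LD2_c32 LD3_c9)) = (LP (LK LD1_c10 LD2_c10 LD3_c29)) :=
  Lre_c IH (LK LD1_c18 LD2_c32 LD3_c9) (LK LD1_c10 LD2_c10 LD3_c29) Lrfl Lrfl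
theorem f228008 : Led Lsl_et (LP (LK LD1_c15 LD2_c29 LD3_c31)) = (LP (LK LD1_c25 LD2_c22 LD3_c41)) :=
  Lre_e IH (LK LD1_c15 LD2_c29 LD3_c31) (LK LD1_c25 LD2_c22 LD3_c41) Lrfl Lrfl
theorem f320453 : Led Lsl_cf (LP (LK LD1_c16 LD2_c42 LD3_c37)) = (LP (LK LD1_c25 LD2_c22 LD3_c41)) :=
  Lgr Lrot39 (Lpr_et (K22.f320452 IH) (Lpr_ct (K22.f320441 IH) (Lpr_et (f228008 IH) (Lpn (LP (LK LD1_c25 LD2_c22 LD3_c41))))))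
theorem f320460 : Led Lsl_ct (LP (LK LD1_c16 LD2_c42 LD3_c37)) = (LP (LK LD1_c25 LD2_c22 LD3_c41)) :=
  Lgr Lrot59 (Lpr_cf (f320453 IH) (Lpn (LP (LK LD1_c25 LD2_c22 LD3_c41))))
theorem f340131 : Led Lsl_gf (LP (LK LD1_c24 LD2_c50 LD3_c49)) = (LP (LK LD1_c25 LD2_c22 LD3_c41)) :=
  Lgr Lrot104 (Lpr_ct (K23.f312409 IH) (Lpe (K19.f312410 IH) (Lpe (f312396 IH) (Lpr_gf (K22.f335839 IH) (Lpe (K22.f240494 IH) (Lpe (K22.f240277 IH) (Lpe (f263513 IH) (Lpr_gt (f340127 IH) (Lpr_ct (f320460 IH) (Lpn (LP (LK LD1_c25 LD2_c22 LD3_c41))))))))))))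
theorem f339943 : Led Lsl_dt (LP (LK LD1_c10 LD2_c54 LD3_c22)) = (LP (LK LD1_c18 LD2_c38 LD3_c37)) :=
  Lgr Lrot42 (Lpr_df (K23.f339940 IH) (Lpn (LP (LK LD1_c18 LD2_c38 LD3_c37))))
theorem f340147 : Led Lsl_gt (LP (LK LD1_c16 LD2_c42 LD3_c37)) = (LP (LK LD1_c10 LD2_c54 LD3_c22)) :=
  Lgr Lrot94 (Lpr_cf (f320453 IH) (Lpe (f340131 IH) (Lpe (K23.f312462 IH) (Lpr_gt (f340145 IH) (Lpr_dt (f254203 IH) (Lpr_cf (K19.f312291 IH) (Lpe (K20.f312371 IH) (Lpr_gf (f335865 IH) (Lpe (f339943 IH) (Lpn (LP (LK LD1_c10 LD2_c54 LD3_c22))))))))))))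
theorem f355585 : Led Lsl_gf (LP (LK LD1_c18 LD2_c34 LD3_c5)) = (LP (LK LD1_c15 LD2_c0 LD3_c37)) :=
  Lgr Lrot104 (Lpr_ct (f253681 IH) (Lpe (K21.f253666 IH) (Lpe (f307231 IH) (Lpr_gf (f355581 IH) (Lpe (K23.f335535 IH) (Lpe (f340147 IH) (Lpe (K22.f329897 IH) (Lpr_gt (K22.f214815 IH) (Lpr_ct (K14.f214906 IH) (Lpn (LP (LK LD1_c15 LD2_c0 LD3_c37))))))))))))
theorem f336213 : Led Lsl_ff (LP (LK LD1_c18 LD2_c34 LD3_c37)) = (LP (LK LD1_c15 LD2_c0 LD3_c37)) :=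
  Lgr Lrot3 (Lpr_ft (K23.f336175 IH) (Lpn (LP (LK LD1_c15 LD2_c0 LD3_c37))))
theorem f340162 : Led Lsl_at (LP (LK LD1_c18 LD2_c34 LD3_c37)) = (LP (LK LD1_c19 LD2_c6 LD3_c27)) :=
  Lgr Lrot100 (Lpr_af (K23.f340160 IH) (Lpn (LP (LK LD1_c19 LD2_c6 LD3_c27))))
theorem f355593 : Led Lsl_gt (LP (LK LD1_c18 LD2_c34 LD3_c5)) = (LP (LK LD1_c19 LD2_c6 LD3_c27)) :=
  Lgr Lrot46 (Lpr_gf (f355585 IH) (Lpe (f336213 IH) (Lpr_at (f340162 IH) (Lpn (LP (LK LD1_c19 LD2_c6 LD3_c27))))))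
theorem f171454 : Led Lsl_ct (LP (LK LD1_c5 LD2_c10 LD3_c57)) = (LP (LK LD1_c10 LD2_c12 LD3_c35)) :=
  Lre_c IH (LK LD1_c5 LD2_c10 LD3_c57) (LK LD1_c10 LD2_c12 LD3_c35) Lrfl Lrfl
theorem f307222 : Led Lsl_et (LP (LK LD1_c10 LD2_c12 LD3_c35)) = (LP (LK LD1_c18 LD2_c34 LD3_c5)) :=
  Lgr Lrot158 (Lpe (f171454 IH) (Lpr_ef (K21.f307220 IH) (Lpe (f253681 IH) (Lpn (LP (LK LD1_c18 LD2_c34 LD3_c5))))))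
theorem f307179 : Led Lsl_dt (LP (LK LD1_c10 LD2_c12 LD3_c35)) = (LP (LK LD1_c18 LD2_c35 LD3_c34)) :=
  Lre_d IH (LK LD1_c10 LD2_c12 LD3_c35) (LK LD1_c18 LD2_c35 LD3_c34) Lrfl Lrfl
theorem f307183 : Led Lsl_dt (LP (LK LD1_c18 LD2_c35 LD3_c34)) = (LP (LK LD1_c10 LD2_c12 LD3_c35)) :=
  Lre_d IH (LK LD1_c18 LD2_c35 LD3_c34) (LK LD1_c10 LD2_c12 LD3_c35) Lrfl Lrfl
theorem f305949 : Led Lsl_ct (LP (LK LD1_c10 LD2_c10 LD3_c14)) = (LP (LK LD1_c5 LD2_c9 LD3_c43)) :=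
  Lre_c IH (LK LD1_c10 LD2_c10 LD3_c14) (LK LD1_c5 LD2_c9 LD3_c43) Lrfl Lrfl
theorem f306047 : Led Lsl_gt (LP (LK LD1_c10 LD2_c10 LD3_c14)) = (LP (LK LD1_c18 LD2_c31 LD3_c43)) :=
  Lre_g IH (LK LD1_c10 LD2_c10 LD3_c14) (LK LD1_c18 LD2_c31 LD3_c43) Lrfl Lrfl
theorem f306048 : Led Lsl_dt (LP (LK LD1_c18 LD2_c31 LD3_c43)) = (LP (LK LD1_c28 LD2_c6 LD3_c14)) :=
  Lre_d IH (LK LD1_c18 LD2_c31 LD3_c43) (LK LD1_c28 LD2_c6 LD3_c14) Lrfl Lrfl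
theorem f307184 : Led Lsl_gf (LP (LK LD1_c18 LD2_c35 LD3_c34)) = (LP (LK LD1_c28 LD2_c6 LD3_c14)) :=
  Lgr Lrot143 (Lpr_dt (f307183 IH) (Lpe (f171454 IH) (Lpr_df (K21.f307173 IH) (Lpe (K21.f307152 IH) (Lpe (K21.f307140 IH) (Lpe (K19.f300202 IH) (Lpe (f305949 IH) (Lpr_gt (f306047 IH) (Lpr_dt (f306048 IH) (Lpn (LP (LK LD1_c28 LD2_c6 LD3_c14))))))))))))
theorem f166660 : Led Lsl_ct (LP (LK LD1_c5 LD2_c2 LD3_c14)) = (LP (LK LD1_c9 LD2_c55 LD3_c18)) :=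
  Lre_c IH (LK LD1_c5 LD2_c2 LD3_c14) (LK LD1_c9 LD2_c55 LD3_c18) Lrfl Lrfl
theorem f305964 : Led Lsl_ef (LP (LK LD1_c10 LD2_c10 LD3_c14)) = (LP (LK LD1_c9 LD2_c55 LD3_c18)) :=
  Lgr Lrot28 (Lpr_ct (f305949 IH) (Lpr_et (K21.f305959 IH) (Lpr_ct (f166660 IH) (Lpn (LP (LK LD1_c9 LD2_c55 LD3_c18))))))
theorem f306021 : Led Lsl_dt (LP (LK LD1_c9 LD2_c55 LD3_c18)) = (LP (LK LD1_c18 LD2_c9 LD3_c52)) :=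
  Lre_d IH (LK LD1_c9 LD2_c55 LD3_c18) (LK LD1_c18 LD2_c9 LD3_c52) Lrfl Lrfl
theorem f306022 : Led Lsl_gt (LP (LK LD1_c27 LD2_c50 LD3_c21)) = (LP (LK LD1_c18 LD2_c9 LD3_c52)) :=
  Lre_g IH (LK LD1_c27 LD2_c50 LD3_c21) (LK LD1_c18 LD2_c9 LD3_c52) Lrfl Lrfl
theorem f191824 : Led Lsl_bt (LP (LK LD1_c31 LD2_c39 LD3_c22)) = (LP (LK LD1_c24 LD2_c48 LD3_c7)) :=
  Lre_b IH (LK LD1_c31 LD2_c39 LD3_c22) (LK LD1_c24 LD2_c48 LD3_c7) Lrfl Lrfl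
theorem f190517 : Led Lsl_bt (LP (LK LD1_c19 LD2_c6 LD3_c27)) = (LP (LK LD1_c27 LD2_c47 LD3_c54)) :=
  Lgr Lrot127 (Lpr_bf (K14.f190515 IH) (Lpn (LP (LK LD1_c27 LD2_c47 LD3_c54))))
theorem f343025 : Led Lsl_et (LP (LK LD1_c24 LD2_c48 LD3_c7)) = (LP (LK LD1_c19 LD2_c6 LD3_c27)) :=
  Lgr Lrot74 (Lpe (f191824 IH) (Lpr_ef (K23.f343020 IH) (Lpe (f190517 IH) (Lpn (LP (LK LD1_c19 LD2_c6 LD3_c27))))))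
theorem f355600 : Led Lsl_df (LP (LK LD1_c27 LD2_c50 LD3_c21)) = (LP (LK LD1_c24 LD2_c48 LD3_c7)) :=
  Lgr Lrot170 (Lpr_gt (f306022 IH) (Lpe (f306021 IH) (Lpe (f305964 IH) (Lpr_gt (f306047 IH) (Lpr_dt (f306048 IH) (Lpe (f307184 IH) (Lpe (f307179 IH) (Lpr_et (f307222 IH) (Lpr_gt (f355593 IH) (Lpe (f343025 IH) (Lpn (LP (LK LD1_c24 LD2_c48 LD3_c7)))))))))))))
theorem f191825 : Led Lsl_ft (LP (LK LD1_c15 LD2_c0 LD3_c40)) = (LP (LK LD1_c24 LD2_c48 LD3_c7)) :=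
  Lre_f IH (LK LD1_c15 LD2_c0 LD3_c40) (LK LD1_c24 LD2_c48 LD3_c7) Lrfl Lrfl
theorem f191814 : Led Lsl_dt (LP (LK LD1_c24 LD2_c48 LD3_c6)) = (LP (LK LD1_c15 LD2_c0 LD3_c40)) :=
  Lre_d IH (LK LD1_c24 LD2_c48 LD3_c6) (LK LD1_c15 LD2_c0 LD3_c40) Lrfl Lrfl
theorem f355607 : Led Lsl_ft (LP (LK LD1_c27 LD2_c50 LD3_c21)) = (LP (LK LD1_c24 LD2_c48 LD3_c6)) :=
  Lgr Lrot54 (Lpr_df (f355600 IH) (Lpe (f191825 IH) (Lpe (f191814 IH) (Lpn (LP (LK LD1_c24 LD2_c48 LD3_c6))))))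
theorem f342703 : Led Lsl_af (LP (LK LD1_c7 LD2_c57 LD3_c32)) = (LP (LK LD1_c5 LD2_c15 LD3_c52)) :=
  Lgr Lrot117 (Lpr_dt (K23.f191783 IH) (Lpr_at (f342697 IH) (Lpr_dt (K14.f45406 IH) (Lpn (LP (LK LD1_c5 LD2_c15 LD3_c52))))))
theorem f214277 : Led Lsl_et (LP (LK LD1_c10 LD2_c21 LD3_c5)) = (LP (LK LD1_c5 LD2_c15 LD3_c52)) :=
  Lre_e IH (LK LD1_c10 LD2_c21 LD3_c5) (LK LD1_c5 LD2_c15 LD3_c52) Lrfl Lrfl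
theorem f342917 : Led Lsl_at (LP (LK LD1_c15 LD2_c0 LD3_c40)) = (LP (LK LD1_c10 LD2_c21 LD3_c5)) :=
  Lgr Lrot80 (Lpe (K23.f191784 IH) (Lpr_af (f342703 IH) (Lpe (f214277 IH) (Lpn (LP (LK LD1_c10 LD2_c21 LD3_c5))))))
theorem f47676 : Led Lsl_dt (LP (LK LD1_c10 LD2_c21 LD3_c5)) = (LP (LK LD1_c18 LD2_c47 LD3_c11)) :=
  Lre_d IH (LK LD1_c10 LD2_c21 LD3_c5) (LK LD1_c18 LD2_c47 LD3_c11) Lrfl Lrfl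
theorem f342923 : Led Lsl_af (LP (LK LD1_c24 LD2_c48 LD3_c6)) = (LP (LK LD1_c18 LD2_c47 LD3_c11)) :=
  Lgr Lrot117 (Lpr_dt (f191814 IH) (Lpr_at (f342917 IH) (Lpr_dt (f47676 IH) (Lpn (LP (LK LD1_c18 LD2_c47 LD3_c11))))))
theorem f342925 : Led Lsl_at (LP (LK LD1_c24 LD2_c48 LD3_c6)) = (LP (LK LD1_c18 LD2_c47 LD3_c11)) :=
  Lgr Lrot100 (Lpr_af (f342923 IH) (Lpn (LP (LK LD1_c18 LD2_c47 LD3_c11))))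
theorem f355621 : Led Lsl_gt (LP (LK LD1_c18 LD2_c9 LD3_c52)) = (LP (LK LD1_c18 LD2_c47 LD3_c11)) :=
  Lgr Lrot46 (Lpe (f306022 IH) (Lpr_ft (f355607 IH) (Lpr_at (f342925 IH) (Lpn (LP (LK LD1_c18 LD2_c47 LD3_c11))))))
theorem f47641 : Led Lsl_dt (LP (LK LD1_c18 LD2_c47 LD3_c11)) = (LP (LK LD1_c10 LD2_c21 LD3_c5)) :=
  Lre_d IH (LK LD1_c18 LD2_c47 LD3_c11) (LK LD1_c10 LD2_c21 LD3_c5) Lrfl Lrfl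
theorem f47675 : Led Lsl_ct (LP (LK LD1_c5 LD2_c15 LD3_c53)) = (LP (LK LD1_c10 LD2_c21 LD3_c5)) :=
  Lre_c IH (LK LD1_c5 LD2_c15 LD3_c53) (LK LD1_c10 LD2_c21 LD3_c5) Lrfl Lrfl
theorem f47577 : Led Lsl_bt (LP (LK LD1_c5 LD2_c15 LD3_c53)) = (LP (LK LD1_c2 LD2_c34 LD3_c48)) :=
  Lre_b IH (LK LD1_c5 LD2_c15 LD3_c53) (LK LD1_c2 LD2_c34 LD3_c48) Lrfl Lrfl
theorem f47578 : Led Lsl_bt (LP (LK LD1_c4 LD2_c8 LD3_c14)) = (LP (LK LD1_c8 LD2_c16 LD3_c23)) :=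
  Lre_b IH (LK LD1_c4 LD2_c8 LD3_c14) (LK LD1_c8 LD2_c16 LD3_c23) Lrfl Lrfl
theorem f47579 : Led Lsl_df (LP (LK LD1_c5 LD2_c15 LD3_c53)) = (LP (LK LD1_c8 LD2_c16 LD3_c23)) :=
  Lgr Lrot12 (Lpr_bt (f47577 IH) (Lpr_dt (K10.f47570 IH) (Lpr_bt (f47578 IH) (Lpn (LP (LK LD1_c8 LD2_c16 LD3_c23))))))
theorem f193015 : Led Lsl_ct (LP (LK LD1_c10 LD2_c28 LD3_c4)) = (LP (LK LD1_c5 LD2_c19 LD3_c9)) :=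
  Lre_c IH (LK LD1_c10 LD2_c28 LD3_c4) (LK LD1_c5 LD2_c19 LD3_c9) Lrfl Lrfl
theorem f355623 : Led Lsl_gf (LP (LK LD1_c9 LD2_c55 LD3_c18)) = (LP (LK LD1_c10 LD2_c28 LD3_c4)) :=
  Lgr Lrot144 (Lpr_dt (f306021 IH) (Lpr_gt (f355621 IH) (Lpr_dt (f47641 IH) (Lpe (f47675 IH) (Lpr_df (f47579 IH) (Lpe (K22.f47654 IH) (Lpe (K22.f331383 IH) (Lpr_gf (K22.f331391 IH) (Lpe (f193015 IH) (Lpn (LP (LK LD1_c10 LD2_c28 LD3_c4))))))))))))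
theorem f166661 : Led Lsl_gt (LP (LK LD1_c9 LD2_c55 LD3_c18)) = (LP (LK LD1_c18 LD2_c9 LD3_c50)) :=
  Lre_g IH (LK LD1_c9 LD2_c55 LD3_c18) (LK LD1_c18 LD2_c9 LD3_c50) Lrfl Lrfl
theorem f271328 : Led Lsl_ft (LP (LK LD1_c10 LD2_c28 LD3_c4)) = (LP (LK LD1_c18 LD2_c58 LD3_c22)) :=
  Lre_f IH (LK LD1_c10 LD2_c28 LD3_c4) (LK LD1_c18 LD2_c58 LD3_c22) Lrfl Lrfl
theorem f355647 : Led Lsl_af (LP (LK LD1_c18 LD2_c9 LD3_c50)) = (LP (LK LD1_c18 LD2_c58 LD3_c22)) :=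
  Lgr Lrot31 (Lpe (f166661 IH) (Lpr_gf (f355623 IH) (Lpr_ft (f271328 IH) (Lpn (LP (LK LD1_c18 LD2_c58 LD3_c22))))))
theorem f257068 : Led Lsl_et (LP (LK LD1_c10 LD2_c28 LD3_c4)) = (LP (LK LD1_c5 LD2_c19 LD3_c8)) :=
  Lre_e IH (LK LD1_c10 LD2_c28 LD3_c4) (LK LD1_c5 LD2_c19 LD3_c8) Lrfl Lrfl
theorem f271339 : Led Lsl_at (LP (LK LD1_c10 LD2_c27 LD3_c52)) = (LP (LK LD1_c10 LD2_c28 LD3_c4)) :=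
  Lgr Lrot80 (Lpe (K21.f248191 IH) (Lpr_af (K16.f271329 IH) (Lpe (f257068 IH) (Lpn (LP (LK LD1_c10 LD2_c28 LD3_c4))))))
theorem f355655 : Led Lsl_ft (LP (LK LD1_c18 LD2_c9 LD3_c50)) = (LP (LK LD1_c10 LD2_c27 LD3_c52)) :=
  Lgr Lrot101 (Lpr_af (f355647 IH) (Lpe (f271328 IH) (Lpe (f271339 IH) (Lpn (LP (LK LD1_c10 LD2_c27 LD3_c52))))))
theorem f254535 : Led Lsl_ft (LP (LK LD1_c5 LD2_c19 LD3_c0)) = (LP (LK LD1_c10 LD2_c27 LD3_c55)) :=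
  Lre_f IH (LK LD1_c5 LD2_c19 LD3_c0) (LK LD1_c10 LD2_c27 LD3_c55) Lrfl Lrfl
theorem f355657 : Led Lsl_cf (LP (LK LD1_c18 LD2_c9 LD3_c50)) = (LP (LK LD1_c10 LD2_c27 LD3_c55)) :=
  Lgr Lrot108 (Lpr_ft (f355655 IH) (Lpr_ct (K16.f45763 IH) (Lpr_ft (f254535 IH) (Lpn (LP (LK LD1_c10 LD2_c27 LD3_c55))))))
theorem f305961 : Led Lsl_bt (LP (LK LD1_c5 LD2_c2 LD3_c14)) = (LP (LK LD1_c9 LD2_c55 LD3_c17)) :=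
  Lre_b IH (LK LD1_c5 LD2_c2 LD3_c14) (LK LD1_c9 LD2_c55 LD3_c17) Lrfl Lrfl
theorem f254541 : Led Lsl_bt (LP (LK LD1_c10 LD2_c27 LD3_c55)) = (LP (LK LD1_c8 LD2_c31 LD3_c50)) :=
  Lgr Lrot95 (Lpr_df (K16.f254533 IH) (Lpe (K16.f254539 IH) (Lpe (K16.f254540 IH) (Lpn (LP (LK LD1_c8 LD2_c31 LD3_c50))))))
theorem f803 : Led Lsl_et (LP (LK LD1_c2 LD2_c1 LD3_c28)) = (LP (LK LD1_c4 LD2_c8 LD3_c14)) :=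
  Lre_e IH (LK LD1_c2 LD2_c1 LD3_c28) (LK LD1_c4 LD2_c8 LD3_c14) Lrfl Lrfl
theorem f167453 : Led Lsl_bt (LP (LK LD1_c5 LD2_c5 LD3_c48)) = (LP (LK LD1_c2 LD2_c30 LD3_c7)) :=
  Lre_b IH (LK LD1_c5 LD2_c5 LD3_c48) (LK LD1_c2 LD2_c30 LD3_c7) Lrfl Lrfl
theorem f167592 : Led Lsl_dt (LP (LK LD1_c4 LD2_c10 LD3_c34)) = (LP (LK LD1_c5 LD2_c5 LD3_c48)) :=
  Lgr Lrot79 (Lpe (K23.f167571 IH) (Lpr_df (K22.f167551 IH) (Lpe (f167453 IH) (Lpn (LP (LK LD1_c5 LD2_c5 LD3_c48))))))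
theorem f349879 : Led Lsl_gf (LP (LK LD1_c2 LD2_c34 LD3_c34)) = (LP (LK LD1_c5 LD2_c5 LD3_c48)) :=
  Lgr Lrot145 (Lpr_df (K13.f47547 IH) (Lpr_et (K13.f1330 IH) (Lpr_gt (K10.f1329 IH) (Lpr_dt (K9.f766 IH) (Lpr_gt (K12.f773 IH) (Lpe (K10.f802 IH) (Lpr_et (f803 IH) (Lpr_gt (K23.f349871 IH) (Lpe (K23.f167573 IH) (Lpr_dt (f167592 IH) (Lpn (LP (LK LD1_c5 LD2_c5 LD3_c48)))))))))))))
theorem f349883 : Led Lsl_gt (LP (LK LD1_c4 LD2_c15 LD3_c23)) = (LP (LK LD1_c4 LD2_c10 LD3_c34)) :=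
  Lgr Lrot137 (Lpe (K22.f1332 IH) (Lpr_dt (K10.f1331 IH) (Lpe (K14.f787 IH) (Lpe (K13.f782 IH) (Lpe (K13.f580 IH) (Lpe (K10.f1329 IH) (Lpe (K13.f1330 IH) (Lpe (K13.f47547 IH) (Lpr_gf (f349879 IH) (Lpe (f167592 IH) (Lpn (LP (LK LD1_c4 LD2_c10 LD3_c34)))))))))))))
theorem f167547 : Led Lsl_bt (LP (LK LD1_c4 LD2_c10 LD3_c34)) = (LP (LK LD1_c2 LD2_c2 LD3_c30)) :=
  Lre_b IH (LK LD1_c4 LD2_c10 LD3_c34) (LK LD1_c2 LD2_c2 LD3_c30) Lrfl Lrfl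
theorem f167548 : Led Lsl_bt (LP (LK LD1_c2 LD2_c30 LD3_c7)) = (LP (LK LD1_c5 LD2_c5 LD3_c48)) :=
  Lre_b IH (LK LD1_c2 LD2_c30 LD3_c7) (LK LD1_c5 LD2_c5 LD3_c48) Lrfl Lrfl
theorem f167549 : Led Lsl_df (LP (LK LD1_c4 LD2_c10 LD3_c34)) = (LP (LK LD1_c5 LD2_c5 LD3_c48)) :=
  Lgr Lrot12 (Lpr_bt (f167547 IH) (Lpr_dt (K22.f167545 IH) (Lpr_bt (f167548 IH) (Lpn (LP (LK LD1_c5 LD2_c5 LD3_c48))))))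
theorem f167595 : Led Lsl_et (LP (LK LD1_c5 LD2_c5 LD3_c48)) = (LP (LK LD1_c10 LD2_c2 LD3_c38)) :=
  Lre_e IH (LK LD1_c5 LD2_c5 LD3_c48) (LK LD1_c10 LD2_c2 LD3_c38) Lrfl Lrfl
theorem f349887 : Led Lsl_gf (LP (LK LD1_c10 LD2_c22 LD3_c4)) = (LP (LK LD1_c10 LD2_c2 LD3_c38)) :=
  Lgr Lrot138 (Lpr_dt (K23.f32397 IH) (Lpr_gt (K15.f48348 IH) (Lpe (K1.f32170 IH) (Lpr_et (K1.f32169 IH) (Lpr_gt (K9.f32179 IH) (Lpe (K10.f32190 IH) (Lpe (K10.f48265 IH) (Lpr_gt (f349883 IH) (Lpr_df (f167549 IH) (Lpr_et (f167595 IH) (Lpn (LP (LK LD1_c10 LD2_c2 LD3_c38)))))))))))))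
theorem f273392 : Led Lsl_at (LP (LK LD1_c5 LD2_c17 LD3_c46)) = (LP (LK LD1_c5 LD2_c25 LD3_c51)) :=
  Lgr Lrot51 (Lpe (K22.f250174 IH) (Lpr_af (K16.f273384 IH) (Lpr_df (K15.f237849 IH) (Lpn (LP (LK LD1_c5 LD2_c25 LD3_c51))))))
theorem f273408 : Led Lsl_at (LP (LK LD1_c8 LD2_c56 LD3_c42)) = (LP (LK LD1_c10 LD2_c25 LD3_c11)) :=
  Lgr Lrot66 (Lpr_ff (K16.f273405 IH) (Lpe (f273392 IH) (Lpe (K22.f273407 IH) (Lpn (LP (LK LD1_c10 LD2_c25 LD3_c11))))))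
theorem f273419 : Led Lsl_gf (LP (LK LD1_c10 LD2_c25 LD3_c11)) = (LP (LK LD1_c10 LD2_c42 LD3_c57)) :=
  Lgr Lrot76 (Lpe (f273408 IH) (Lpr_ff (K16.f273405 IH) (Lpr_gt (K23.f237851 IH) (Lpn (LP (LK LD1_c10 LD2_c42 LD3_c57))))))
theorem f200310 : Led Lsl_bt (LP (LK LD1_c5 LD2_c12 LD3_c24)) = (LP (LK LD1_c10 LD2_c15 LD3_c22)) :=
  Lre_b IH (LK LD1_c5 LD2_c12 LD3_c24) (LK LD1_c10 LD2_c15 LD3_c22) Lrfl Lrfl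
theorem f178577 : Led Lsl_bt (LP (LK LD1_c10 LD2_c2 LD3_c38)) = (LP (LK LD1_c5 LD2_c5 LD3_c50)) :=
  Lre_b IH (LK LD1_c10 LD2_c2 LD3_c38) (LK LD1_c5 LD2_c5 LD3_c50) Lrfl Lrfl
theorem f200311 : Led Lsl_dt (LP (LK LD1_c10 LD2_c15 LD3_c22)) = (LP (LK LD1_c10 LD2_c2 LD3_c38)) :=
  Lgr Lrot79 (Lpe (f200310 IH) (Lpr_df (K22.f200305 IH) (Lpe (f178577 IH) (Lpn (LP (LK LD1_c10 LD2_c2 LD3_c38))))))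
theorem f200326 : Led Lsl_et (LP (LK LD1_c10 LD2_c15 LD3_c22)) = (LP (LK LD1_c5 LD2_c12 LD3_c23)) :=
  Lre_e IH (LK LD1_c10 LD2_c15 LD3_c22) (LK LD1_c5 LD2_c12 LD3_c23) Lrfl Lrfl
theorem f349889 : Led Lsl_gt (LP (LK LD1_c8 LD2_c31 LD3_c50)) = (LP (LK LD1_c5 LD2_c12 LD3_c23)) :=
  Lgr Lrot131 (Lpr_ef (K21.f275709 IH) (Lpr_dt (f273426 IH) (Lpr_gf (f273419 IH) (Lpr_df (K23.f259215 IH) (Lpr_gf (f348010 IH) (Lpe (K23.f263057 IH) (Lpr_dt (f32384 IH) (Lpr_gf (f349887 IH) (Lpe (f200311 IH) (Lpr_et (f200326 IH) (Lpn (LP (LK LD1_c5 LD2_c12 LD3_c23)))))))))))))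
theorem f200328 : Led Lsl_ct (LP (LK LD1_c5 LD2_c12 LD3_c23)) = (LP (LK LD1_c10 LD2_c15 LD3_c21)) :=
  Lre_c IH (LK LD1_c5 LD2_c12 LD3_c23) (LK LD1_c10 LD2_c15 LD3_c21) Lrfl Lrfl
theorem f349885 : Led Lsl_gf (LP (LK LD1_c4 LD2_c15 LD3_c49)) = (LP (LK LD1_c4 LD2_c10 LD3_c34)) :=
  Lgr Lrot76 (Lpr_af (f251136 IH) (Lpe (K14.f48282 IH) (Lpr_gt (f349883 IH) (Lpn (LP (LK LD1_c4 LD2_c10 LD3_c34))))))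
theorem f243131 : Led Lsl_ft (LP (LK LD1_c4 LD2_c15 LD3_c48)) = (LP (LK LD1_c8 LD2_c30 LD3_c43)) :=
  Lre_f IH (LK LD1_c4 LD2_c15 LD3_c48) (LK LD1_c8 LD2_c30 LD3_c43) Lrfl Lrfl
theorem f251197 : Led Lsl_et (LP (LK LD1_c8 LD2_c30 LD3_c43)) = (LP (LK LD1_c5 LD2_c17 LD3_c55)) :=
  Lgr Lrot69 (Lpe (f243131 IH) (Lpe (K13.f197058 IH) (Lpr_ff (K14.f251190 IH) (Lpe (K14.f32191 IH) (Lpe (K15.f251196 IH) (Lpn (LP (LK LD1_c5 LD2_c17 LD3_c55))))))))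
theorem f259327 : Led Lsl_dt (LP (LK LD1_c10 LD2_c20 LD3_c2)) = (LP (LK LD1_c8 LD2_c57 LD3_c17)) :=
  Lgr Lrot77 (Lpr_ef (K23.f259325 IH) (Lpe (K24.f48924 IH) (Lpr_ef (K23.f250071 IH) (Lpe (f250080 IH) (Lpe (f250081 IH) (Lpn (LP (LK LD1_c8 LD2_c57 LD3_c17))))))))
theorem f349893 : Led Lsl_gt (LP (LK LD1_c10 LD2_c22 LD3_c8)) = (LP (LK LD1_c10 LD2_c2 LD3_c38)) :=
  Lgr Lrot131 (Lpe (K23.f259329 IH) (Lpr_dt (f259327 IH) (Lpe (f340828 IH) (Lpr_df (K23.f254491 IH) (Lpr_gf (K23.f324045 IH) (Lpe (f251197 IH) (Lpr_dt (K14.f243123 IH) (Lpr_gf (f349885 IH) (Lpr_df (f167549 IH) (Lpr_et (f167595 IH) (Lpn (LP (LK LD1_c10 LD2_c2 LD3_c38)))))))))))))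
theorem f32380 : Led Lsl_at (LP (LK LD1_c10 LD2_c19 LD3_c50)) = (LP (LK LD1_c5 LD2_c16 LD3_c14)) :=
  Lre_a IH (LK LD1_c10 LD2_c19 LD3_c50) (LK LD1_c5 LD2_c16 LD3_c14) Lrfl Lrfl
theorem f48371 : Led Lsl_ff (LP (LK LD1_c10 LD2_c19 LD3_c50)) = (LP (LK LD1_c10 LD2_c23 LD3_c61)) :=
  Lgr Lrot30 (Lpr_at (f32380 IH) (Lpr_ft (K10.f48368 IH) (Lpr_at (K10.f32188 IH) (Lpn (LP (LK LD1_c10 LD2_c23 LD3_c61))))))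
theorem f32392 : Led Lsl_gt (LP (LK LD1_c10 LD2_c22 LD3_c1)) = (LP (LK LD1_c5 LD2_c16 LD3_c14)) :=
  Lre_g IH (LK LD1_c10 LD2_c22 LD3_c1) (LK LD1_c5 LD2_c16 LD3_c14) Lrfl Lrfl
theorem f48868 : Led Lsl_gf (LP (LK LD1_c10 LD2_c22 LD3_c1)) = (LP (LK LD1_c10 LD2_c23 LD3_c61)) :=
  Lgr Lrot47 (Lpr_gt (f32392 IH) (Lpe (f32380 IH) (Lpr_ff (f48371 IH) (Lpn (LP (LK LD1_c10 LD2_c23 LD3_c61))))))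
theorem f48870 : Led Lsl_dt (LP (LK LD1_c10 LD2_c22 LD3_c1)) = (LP (LK LD1_c18 LD2_c49 LD3_c2)) :=
  Lre_d IH (LK LD1_c10 LD2_c22 LD3_c1) (LK LD1_c18 LD2_c49 LD3_c2) Lrfl Lrfl
theorem f200301 : Led Lsl_bt (LP (LK LD1_c10 LD2_c15 LD3_c22)) = (LP (LK LD1_c5 LD2_c12 LD3_c24)) :=
  Lre_b IH (LK LD1_c10 LD2_c15 LD3_c22) (LK LD1_c5 LD2_c12 LD3_c24) Lrfl Lrfl
theorem f200302 : Led Lsl_bt (LP (LK LD1_c5 LD2_c5 LD3_c50)) = (LP (LK LD1_c10 LD2_c2 LD3_c38)) :=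
  Lre_b IH (LK LD1_c5 LD2_c5 LD3_c50) (LK LD1_c10 LD2_c2 LD3_c38) Lrfl Lrfl
theorem f200303 : Led Lsl_df (LP (LK LD1_c10 LD2_c15 LD3_c22)) = (LP (LK LD1_c10 LD2_c2 LD3_c38)) :=
  Lgr Lrot12 (Lpr_bt (f200301 IH) (Lpr_dt (K22.f200297 IH) (Lpr_bt (f200302 IH) (Lpn (LP (LK LD1_c10 LD2_c2 LD3_c38))))))
theorem f200319 : Led Lsl_ct (LP (LK LD1_c18 LD2_c39 LD3_c31)) = (LP (LK LD1_c10 LD2_c15 LD3_c22)) :=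
  Lre_c IH (LK LD1_c18 LD2_c39 LD3_c31) (LK LD1_c10 LD2_c15 LD3_c22) Lrfl Lrfl
theorem f200320 : Led Lsl_dt (LP (LK LD1_c28 LD2_c11 LD3_c17)) = (LP (LK LD1_c18 LD2_c39 LD3_c31)) :=
  Lre_d IH (LK LD1_c28 LD2_c11 LD3_c17) (LK LD1_c18 LD2_c39 LD3_c31) Lrfl Lrfl
theorem f349895 : Led Lsl_gt (LP (LK LD1_c18 LD2_c49 LD3_c2)) = (LP (LK LD1_c28 LD2_c11 LD3_c17)) :=
  Lgr Lrot49 (Lpe (f48870 IH) (Lpr_gf (f48868 IH) (Lpe (K10.f32186 IH) (Lpe (K23.f48922 IH) (Lpr_dt (K24.f48924 IH) (Lpr_gt (f349893 IH) (Lpe (f200303 IH) (Lpe (f200319 IH) (Lpe (f200320 IH) (Lpn (LP (LK LD1_c28 LD2_c11 LD3_c17))))))))))))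
theorem f48390 : Led Lsl_et (LP (LK LD1_c5 LD2_c17 LD3_c9)) = (LP (LK LD1_c10 LD2_c23 LD3_c61)) :=
  Lre_e IH (LK LD1_c5 LD2_c17 LD3_c9) (LK LD1_c10 LD2_c23 LD3_c61) Lrfl Lrfl
theorem f191535 : Led Lsl_et (LP (LK LD1_c8 LD2_c15 LD3_c1)) = (LP (LK LD1_c15 LD2_c30 LD3_c50)) :=
  Lre_e IH (LK LD1_c8 LD2_c15 LD3_c1) (LK LD1_c15 LD2_c30 LD3_c50) Lrfl Lrfl
theorem f200334 : Led Lsl_dt (LP (LK LD1_c18 LD2_c39 LD3_c31)) = (LP (LK LD1_c28 LD2_c11 LD3_c17)) :=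
  Lre_d IH (LK LD1_c18 LD2_c39 LD3_c31) (LK LD1_c28 LD2_c11 LD3_c17) Lrfl Lrfl
theorem f349900 : Led Lsl_et (LP (LK LD1_c18 LD2_c39 LD3_c31)) = (LP (LK LD1_c10 LD2_c15 LD3_c21)) :=
  Lre_e IH (LK LD1_c18 LD2_c39 LD3_c31) (LK LD1_c10 LD2_c15 LD3_c21) Lrfl Lrfl
theorem f349901 : Led Lsl_gf (LP (LK LD1_c15 LD2_c30 LD3_c50)) = (LP (LK LD1_c10 LD2_c15 LD3_c21)) :=
  Lgr Lrot141 (Lpe (f191535 IH) (Lpr_dt (K14.f191533 IH) (Lpr_gt (K14.f32861 IH) (Lpe (K10.f48391 IH) (Lpr_et (f48390 IH) (Lpe (f48868 IH) (Lpr_dt (f48870 IH) (Lpr_gt (f349895 IH) (Lpe (f200334 IH) (Lpr_et (f349900 IH) (Lpn (LP (LK LD1_c10 LD2_c15 LD3_c21)))))))))))))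
theorem f191080 : Led Lsl_ct (LP (LK LD1_c8 LD2_c15 LD3_c2)) = (LP (LK LD1_c15 LD2_c30 LD3_c50)) :=
  Lre_c IH (LK LD1_c8 LD2_c15 LD3_c2) (LK LD1_c15 LD2_c30 LD3_c50) Lrfl Lrfl
theorem f191068 : Led Lsl_et (LP (LK LD1_c8 LD2_c11 LD3_c5)) = (LP (LK LD1_c4 LD2_c5 LD3_c9)) :=
  Lre_e IH (LK LD1_c8 LD2_c11 LD3_c5) (LK LD1_c4 LD2_c5 LD3_c9) Lrfl Lrfl
theorem f191069 : Led Lsl_bt (LP (LK LD1_c8 LD2_c15 LD3_c2)) = (LP (LK LD1_c8 LD2_c11 LD3_c5)) :=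
  Lgr Lrot119 (Lpe (K23.f44991 IH) (Lpr_bf (K14.f191051 IH) (Lpe (f191068 IH) (Lpn (LP (LK LD1_c8 LD2_c11 LD3_c5))))))
theorem f355668 : Led Lsl_gf (LP (LK LD1_c9 LD2_c55 LD3_c17)) = (LP (LK LD1_c8 LD2_c11 LD3_c5)) :=
  Lgr Lrot124 (Lpe (f305961 IH) (Lpr_ct (f166660 IH) (Lpr_gt (f166661 IH) (Lpr_cf (f355657 IH) (Lpr_bt (f254541 IH) (Lpr_gt (f349889 IH) (Lpr_ct (f200328 IH) (Lpe (f349901 IH) (Lpe (f191080 IH) (Lpr_bt (f191069 IH) (Lpn (LP (LK LD1_c8 LD2_c11 LD3_c5)))))))))))))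
theorem f187892 : Led Lsl_et (LP (LK LD1_c4 LD2_c5 LD3_c9)) = (LP (LK LD1_c8 LD2_c11 LD3_c5)) :=
  Lre_e IH (LK LD1_c4 LD2_c5 LD3_c9) (LK LD1_c8 LD2_c11 LD3_c5) Lrfl Lrfl
theorem f229538 : Led Lsl_gt (LP (LK LD1_c14 LD2_c58 LD3_c12)) = (LP (LK LD1_c7 LD2_c56 LD3_c6)) :=
  Lre_g IH (LK LD1_c14 LD2_c58 LD3_c12) (LK LD1_c7 LD2_c56 LD3_c6) Lrfl Lrfl
theorem f355670 : Led Lsl_dt (LP (LK LD1_c9 LD2_c55 LD3_c17)) = (LP (LK LD1_c14 LD2_c58 LD3_c12)) :=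
  Lgr Lrot171 (Lpr_gf (f355668 IH) (Lpe (f187892 IH) (Lpr_dt (K19.f187891 IH) (Lpe (K10.f187875 IH) (Lpe (K9.f44570 IH) (Lpe (K9.f50046 IH) (Lpr_gf (K12.f212308 IH) (Lpe (K15.f212312 IH) (Lpe (K15.f229512 IH) (Lpe (f229538 IH) (Lpn (LP (LK LD1_c14 LD2_c58 LD3_c12)))))))))))))
theorem f300203 : Led Lsl_bt (LP (LK LD1_c10 LD2_c10 LD3_c13)) = (LP (LK LD1_c5 LD2_c9 LD3_c43)) :=
  Lre_b IH (LK LD1_c10 LD2_c10 LD3_c13) (LK LD1_c5 LD2_c9 LD3_c43) Lrfl Lrfl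
theorem f305962 : Led Lsl_ef (LP (LK LD1_c10 LD2_c10 LD3_c13)) = (LP (LK LD1_c9 LD2_c55 LD3_c17)) :=
  Lgr Lrot29 (Lpr_bt (f300203 IH) (Lpr_et (K21.f305959 IH) (Lpr_bt (f305961 IH) (Lpn (LP (LK LD1_c9 LD2_c55 LD3_c17))))))
theorem f355681 : Led Lsl_gf (LP (LK LD1_c10 LD2_c10 LD3_c13)) = (LP (LK LD1_c9 LD2_c39 LD3_c30)) :=
  Lgr Lrot141 (Lpr_ef (f305962 IH) (Lpr_dt (f355670 IH) (Lpr_gt (f229538 IH) (Lpr_df (K15.f229512 IH) (Lpr_et (K15.f212312 IH) (Lpe (K12.f212308 IH) (Lpr_dt (K9.f43408 IH) (Lpr_gt (K9.f43820 IH) (Lpe (K14.f43823 IH) (Lpr_et (f43826 IH) (Lpn (LP (LK LD1_c9 LD2_c39 LD3_c30)))))))))))))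
theorem f327479 : Led Lsl_df (LP (LK LD1_c15 LD2_c42 LD3_c51)) = (LP (LK LD1_c17 LD2_c45 LD3_c45)) :=
  Lgr Lrot38 (Lpr_dt (K22.f327477 IH) (Lpn (LP (LK LD1_c17 LD2_c45 LD3_c45))))
theorem f316124 : Led Lsl_dt (LP (LK LD1_c15 LD2_c42 LD3_c52)) = (LP (LK LD1_c8 LD2_c20 LD3_c54)) :=
  Lre_d IH (LK LD1_c15 LD2_c42 LD3_c52) (LK LD1_c8 LD2_c20 LD3_c54) Lrfl Lrfl
theorem f200254 : Led Lsl_at (LP (LK LD1_c8 LD2_c22 LD3_c49)) = (LP (LK LD1_c15 LD2_c45 LD3_c39)) :=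
  Lre_a IH (LK LD1_c8 LD2_c22 LD3_c49) (LK LD1_c15 LD2_c45 LD3_c39) Lrfl Lrfl
theorem f200253 : Led Lsl_ft (LP (LK LD1_c15 LD2_c46 LD3_c7)) = (LP (LK LD1_c8 LD2_c22 LD3_c49)) :=
  Lre_f IH (LK LD1_c15 LD2_c46 LD3_c7) (LK LD1_c8 LD2_c22 LD3_c49) Lrfl Lrfl
theorem f316156 : Led Lsl_gt (LP (LK LD1_c15 LD2_c46 LD3_c7)) = (LP (LK LD1_c15 LD2_c42 LD3_c52)) :=
  Lgr Lrot5 (Lpr_ft (f200253 IH) (Lpr_at (f200254 IH) (Lpr_gf (K20.f316076 IH) (Lpn (LP (LK LD1_c15 LD2_c42 LD3_c52))))))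
theorem f200233 : Led Lsl_dt (LP (LK LD1_c8 LD2_c22 LD3_c50)) = (LP (LK LD1_c15 LD2_c46 LD3_c7)) :=
  Lre_d IH (LK LD1_c8 LD2_c22 LD3_c50) (LK LD1_c15 LD2_c46 LD3_c7) Lrfl Lrfl
theorem f200264 : Led Lsl_gt (LP (LK LD1_c15 LD2_c45 LD3_c38)) = (LP (LK LD1_c8 LD2_c22 LD3_c50)) :=
  Lre_g IH (LK LD1_c15 LD2_c45 LD3_c38) (LK LD1_c8 LD2_c22 LD3_c50) Lrfl Lrfl
theorem f336443 : Led Lsl_ct (LP (LK LD1_c9 LD2_c37 LD3_c5)) = (LP (LK LD1_c15 LD2_c45 LD3_c38)) :=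
  Lgr Lrot8 (Lpr_gt (K22.f336437 IH) (Lpe (K16.f279351 IH) (Lpe (K22.f331433 IH) (Lpe (f327479 IH) (Lpe (K22.f182233 IH) (Lpe (f316124 IH) (Lpe (f316156 IH) (Lpe (f200233 IH) (Lpe (f200264 IH) (Lpn (LP (LK LD1_c15 LD2_c45 LD3_c38))))))))))))
theorem f200231 : Led Lsl_ct (LP (LK LD1_c10 LD2_c15 LD3_c0)) = (LP (LK LD1_c5 LD2_c12 LD3_c8)) :=
  Lre_c IH (LK LD1_c10 LD2_c15 LD3_c0) (LK LD1_c5 LD2_c12 LD3_c8) Lrfl Lrfl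
theorem f300408 : Led Lsl_gt (LP (LK LD1_c18 LD2_c39 LD3_c1)) = (LP (LK LD1_c18 LD2_c58 LD3_c51)) :=
  Lgr Lrot5 (Lpr_ft (K18.f200350 IH) (Lpr_at (K18.f300399 IH) (Lpe (K22.f182240 IH) (Lpn (LP (LK LD1_c18 LD2_c58 LD3_c51))))))
theorem f248358 : Led Lsl_dt (LP (LK LD1_c10 LD2_c29 LD3_c51)) = (LP (LK LD1_c19 LD2_c1 LD3_c30)) :=
  Lre_d IH (LK LD1_c10 LD2_c29 LD3_c51) (LK LD1_c19 LD2_c1 LD3_c30) Lrfl Lrfl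
theorem f165980 : Led Lsl_dt (LP (LK LD1_c5 LD2_c16 LD3_c28)) = (LP (LK LD1_c10 LD2_c22 LD3_c29)) :=
  Lre_d IH (LK LD1_c5 LD2_c16 LD3_c28) (LK LD1_c10 LD2_c22 LD3_c29) Lrfl Lrfl
theorem f307634 : Led Lsl_af (LP (LK LD1_c10 LD2_c29 LD3_c50)) = (LP (LK LD1_c10 LD2_c22 LD3_c29)) :=
  Lgr Lrot117 (Lpr_dt (K21.f248314 IH) (Lpr_at (K19.f307622 IH) (Lpr_dt (f165980 IH) (Lpn (LP (LK LD1_c10 LD2_c22 LD3_c29))))))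
theorem f307638 : Led Lsl_at (LP (LK LD1_c10 LD2_c29 LD3_c50)) = (LP (LK LD1_c10 LD2_c22 LD3_c29)) :=
  Lgr Lrot100 (Lpr_af (f307634 IH) (Lpn (LP (LK LD1_c10 LD2_c22 LD3_c29))))
theorem f248353 : Led Lsl_ft (LP (LK LD1_c19 LD2_c1 LD3_c30)) = (LP (LK LD1_c10 LD2_c29 LD3_c50)) :=
  Lre_f IH (LK LD1_c19 LD2_c1 LD3_c30) (LK LD1_c10 LD2_c29 LD3_c50) Lrfl Lrfl
theorem f166048 : Led Lsl_gt (LP (LK LD1_c18 LD2_c49 LD3_c41)) = (LP (LK LD1_c10 LD2_c22 LD3_c29)) :=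
  Lre_g IH (LK LD1_c18 LD2_c49 LD3_c41) (LK LD1_c10 LD2_c22 LD3_c29) Lrfl Lrfl
theorem f307675 : Led Lsl_gt (LP (LK LD1_c19 LD2_c1 LD3_c30)) = (LP (LK LD1_c18 LD2_c49 LD3_c41)) :=
  Lgr Lrot5 (Lpr_ft (f248353 IH) (Lpr_at (f307638 IH) (Lpe (f166048 IH) (Lpn (LP (LK LD1_c18 LD2_c49 LD3_c41))))))
theorem f166042 : Led Lsl_dt (LP (LK LD1_c10 LD2_c22 LD3_c29)) = (LP (LK LD1_c5 LD2_c16 LD3_c28)) :=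
  Lre_d IH (LK LD1_c10 LD2_c22 LD3_c29) (LK LD1_c5 LD2_c16 LD3_c28) Lrfl Lrfl
theorem f184422 : Led Lsl_ct (LP (LK LD1_c8 LD2_c52 LD3_c7)) = (LP (LK LD1_c4 LD2_c27 LD3_c13)) :=
  Lre_c IH (LK LD1_c8 LD2_c52 LD3_c7) (LK LD1_c4 LD2_c27 LD3_c13) Lrfl Lrfl
theorem f184423 : Led Lsl_gt (LP (LK LD1_c8 LD2_c52 LD3_c7)) = (LP (LK LD1_c16 LD2_c34 LD3_c52)) :=
  Lre_g IH (LK LD1_c8 LD2_c52 LD3_c7) (LK LD1_c16 LD2_c34 LD3_c52) Lrfl Lrfl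
theorem f184424 : Led Lsl_df (LP (LK LD1_c18 LD2_c49 LD3_c41)) = (LP (LK LD1_c16 LD2_c34 LD3_c52)) :=
  Lgr Lrot153 (Lpr_gt (f166048 IH) (Lpr_dt (f166042 IH) (Lpe (K23.f165934 IH) (Lpe (K21.f169339 IH) (Lpe (K18.f169398 IH) (Lpe (K18.f169399 IH) (Lpr_gf (K18.f184235 IH) (Lpe (f184422 IH) (Lpr_gt (f184423 IH) (Lpn (LP (LK LD1_c16 LD2_c34 LD3_c52))))))))))))
theorem f184499 : Led Lsl_ef (LP (LK LD1_c10 LD2_c28 LD3_c20)) = (LP (LK LD1_c16 LD2_c34 LD3_c52)) :=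
  Lgr Lrot17 (Lpe (K9.f182227 IH) (Lpe (K9.f182244 IH) (Lpr_dt (K9.f182245 IH) (Lpe (K9.f183983 IH) (Lpe (K9.f43513 IH) (Lpe (K9.f184102 IH) (Lpe (K19.f165984 IH) (Lpr_dt (f165980 IH) (Lpe (f166048 IH) (Lpr_df (f184424 IH) (Lpn (LP (LK LD1_c16 LD2_c34 LD3_c52)))))))))))))
theorem f335334 : Led Lsl_gf (LP (LK LD1_c10 LD2_c15 LD3_c0)) = (LP (LK LD1_c10 LD2_c28 LD3_c20)) :=
  Lgr Lrot138 (Lpr_dt (K18.f200238 IH) (Lpr_gt (f300408 IH) (Lpr_df (K22.f325700 IH) (Lpe (K22.f325705 IH) (Lpr_gt (K24.f335305 IH) (Lpr_ef (K19.f288923 IH) (Lpr_dt (f248358 IH) (Lpr_gt (f307675 IH) (Lpr_df (f184424 IH) (Lpe (f184499 IH) (Lpn (LP (LK LD1_c10 LD2_c28 LD3_c20)))))))))))))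
theorem f355685 : Led Lsl_ct (LP (LK LD1_c10 LD2_c10 LD3_c13)) = (LP (LK LD1_c10 LD2_c28 LD3_c20)) :=
  Lgr Lrot152 (Lpr_gf (f355681 IH) (Lpe (K17.f282097 IH) (Lpe (K22.f336441 IH) (Lpr_ct (f336443 IH) (Lpr_gt (f200264 IH) (Lpr_ct (K22.f200251 IH) (Lpe (K18.f200166 IH) (Lpe (f200231 IH) (Lpr_gf (f335334 IH) (Lpn (LP (LK LD1_c10 LD2_c28 LD3_c20))))))))))))
theorem f166731 : Led Lsl_ct (LP (LK LD1_c1 LD2_c13 LD3_c3)) = (LP (LK LD1_c2 LD2_c32 LD3_c2)) :=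
  Lre_c IH (LK LD1_c1 LD2_c13 LD3_c3) (LK LD1_c2 LD2_c32 LD3_c2) Lrfl Lrfl
theorem f167450 : Led Lsl_ct (LP (LK LD1_c2 LD2_c30 LD3_c7)) = (LP (LK LD1_c5 LD2_c5 LD3_c49)) :=
  Lre_c IH (LK LD1_c2 LD2_c30 LD3_c7) (LK LD1_c5 LD2_c5 LD3_c49) Lrfl Lrfl
theorem f355833 : Led Lsl_gf (LP (LK LD1_c2 LD2_c32 LD3_c2)) = (LP (LK LD1_c5 LD2_c5 LD3_c49)) :=
  Lgr Lrot129 (Lpe (f166731 IH) (Lpr_bt (K21.f300124 IH) (Lpr_gt (K19.f192575 IH) (Lpe (f300203 IH) (Lpr_ct (f355685 IH) (Lpe (f335334 IH) (Lpe (K18.f200244 IH) (Lpr_bt (K22.f200256 IH) (Lpe (K22.f333395 IH) (Lpr_ct (f167450 IH) (Lpn (LP (LK LD1_c5 LD2_c5 LD3_c49)))))))))))))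
theorem f288257 : Led Lsl_ft (LP (LK LD1_c5 LD2_c2 LD3_c41)) = (LP (LK LD1_c2 LD2_c28 LD3_c53)) :=
  Lre_f IH (LK LD1_c5 LD2_c2 LD3_c41) (LK LD1_c2 LD2_c28 LD3_c53) Lrfl Lrfl
theorem f288281 : Led Lsl_ft (LP (LK LD1_c2 LD2_c32 LD3_c2)) = (LP (LK LD1_c5 LD2_c9 LD3_c60)) :=
  Lre_f IH (LK LD1_c2 LD2_c32 LD3_c2) (LK LD1_c5 LD2_c9 LD3_c60) Lrfl Lrfl
theorem f300138 : Led Lsl_at (LP (LK LD1_c2 LD2_c28 LD3_c53)) = (LP (LK LD1_c2 LD2_c32 LD3_c2)) :=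
  Lgr Lrot66 (Lpe (f288257 IH) (Lpr_af (K22.f300130 IH) (Lpe (f288281 IH) (Lpn (LP (LK LD1_c2 LD2_c32 LD3_c2))))))
theorem f355835 : Led Lsl_gt (LP (LK LD1_c5 LD2_c2 LD3_c41)) = (LP (LK LD1_c5 LD2_c5 LD3_c49)) :=
  Lgr Lrot5 (Lpr_ft (f288257 IH) (Lpr_at (f300138 IH) (Lpr_gf (f355833 IH) (Lpn (LP (LK LD1_c5 LD2_c5 LD3_c49))))))
theorem f166788 : Led Lsl_ct (LP (LK LD1_c5 LD2_c9 LD3_c61)) = (LP (LK LD1_c10 LD2_c10 LD3_c48)) :=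
  Lre_c IH (LK LD1_c5 LD2_c9 LD3_c61) (LK LD1_c10 LD2_c10 LD3_c48) Lrfl Lrfl
theorem f47714 : Led Lsl_bt (LP (LK LD1_c5 LD2_c15 LD3_c13)) = (LP (LK LD1_c2 LD2_c34 LD3_c34)) :=
  Lre_b IH (LK LD1_c5 LD2_c15 LD3_c13) (LK LD1_c2 LD2_c34 LD3_c34) Lrfl Lrfl
theorem f229700 : Led Lsl_ct (LP (LK LD1_c5 LD2_c15 LD3_c13)) = (LP (LK LD1_c10 LD2_c19 LD3_c52)) :=
  Lre_c IH (LK LD1_c5 LD2_c15 LD3_c13) (LK LD1_c10 LD2_c19 LD3_c52) Lrfl Lrfl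
theorem f355840 : Led Lsl_gf (LP (LK LD1_c10 LD2_c10 LD3_c48)) = (LP (LK LD1_c10 LD2_c19 LD3_c52)) :=
  Lgr Lrot126 (Lpe (f166788 IH) (Lpr_bt (f166722 IH) (Lpe (f300121 IH) (Lpr_ct (K22.f289872 IH) (Lpr_gt (f355835 IH) (Lpe (f167450 IH) (Lpr_bt (f167548 IH) (Lpe (f349879 IH) (Lpe (f47714 IH) (Lpr_ct (f229700 IH) (Lpn (LP (LK LD1_c10 LD2_c19 LD3_c52)))))))))))))
theorem f166794 : Led Lsl_ct (LP (LK LD1_c10 LD2_c10 LD3_c48)) = (LP (LK LD1_c5 LD2_c9 LD3_c61)) :=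
  Lre_c IH (LK LD1_c10 LD2_c10 LD3_c48) (LK LD1_c5 LD2_c9 LD3_c61) Lrfl Lrfl
theorem f166800 : Led Lsl_bt (LP (LK LD1_c4 LD2_c12 LD3_c50)) = (LP (LK LD1_c2 LD2_c3 LD3_c39)) :=
  Lre_b IH (LK LD1_c4 LD2_c12 LD3_c50) (LK LD1_c2 LD2_c3 LD3_c39) Lrfl Lrfl
theorem f166801 : Led Lsl_dt (LP (LK LD1_c5 LD2_c9 LD3_c61)) = (LP (LK LD1_c4 LD2_c12 LD3_c50)) :=
  Lgr Lrot79 (Lpe (f166748 IH) (Lpr_df (f166728 IH) (Lpe (f166800 IH) (Lpn (LP (LK LD1_c4 LD2_c12 LD3_c50))))))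
theorem f166805 : Led Lsl_ct (LP (LK LD1_c8 LD2_c25 LD3_c3)) = (LP (LK LD1_c4 LD2_c12 LD3_c50)) :=
  Lre_c IH (LK LD1_c8 LD2_c25 LD3_c3) (LK LD1_c4 LD2_c12 LD3_c50) Lrfl Lrfl
theorem f355842 : Led Lsl_gf (LP (LK LD1_c8 LD2_c25 LD3_c3)) = (LP (LK LD1_c8 LD2_c40 LD3_c46)) :=
  Lgr Lrot104 (Lpr_ct (f166805 IH) (Lpe (f166801 IH) (Lpe (f166794 IH) (Lpr_gf (f355840 IH) (Lpe (f229700 IH) (Lpe (K21.f186863 IH) (Lpe (K21.f232371 IH) (Lpe (K18.f262562 IH) (Lpr_ct (K13.f243100 IH) (Lpn (LP (LK LD1_c8 LD2_c40 LD3_c46))))))))))))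
theorem f262601 : Led Lsl_ft (LP (LK LD1_c8 LD2_c40 LD3_c46)) = (LP (LK LD1_c4 LD2_c21 LD3_c34)) :=
  Lre_f IH (LK LD1_c8 LD2_c40 LD3_c46) (LK LD1_c4 LD2_c21 LD3_c34) Lrfl Lrfl
theorem f262570 : Led Lsl_at (LP (LK LD1_c4 LD2_c21 LD3_c34)) = (LP (LK LD1_c7 LD2_c55 LD3_c34)) :=
  Lgr Lrot100 (Lpr_af (K15.f262568 IH) (Lpn (LP (LK LD1_c7 LD2_c55 LD3_c34))))
theorem f355844 : Led Lsl_gt (LP (LK LD1_c8 LD2_c25 LD3_c3)) = (LP (LK LD1_c7 LD2_c55 LD3_c34)) :=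
  Lgr Lrot46 (Lpr_gf (f355842 IH) (Lpr_ft (f262601 IH) (Lpr_at (f262570 IH) (Lpn (LP (LK LD1_c7 LD2_c55 LD3_c34))))))
theorem f166803 : Led Lsl_ct (LP (LK LD1_c4 LD2_c12 LD3_c50)) = (LP (LK LD1_c8 LD2_c25 LD3_c3)) :=
  Lre_c IH (LK LD1_c4 LD2_c12 LD3_c50) (LK LD1_c8 LD2_c25 LD3_c3) Lrfl Lrfl
theorem f316080 : Led Lsl_bt (LP (LK LD1_c4 LD2_c16 LD3_c56)) = (LP (LK LD1_c8 LD2_c33 LD3_c15)) :=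
  Lre_b IH (LK LD1_c4 LD2_c16 LD3_c56) (LK LD1_c8 LD2_c33 LD3_c15) Lrfl Lrfl
theorem f229685 : Led Lsl_ct (LP (LK LD1_c3 LD2_c56 LD3_c60)) = (LP (LK LD1_c7 LD2_c55 LD3_c34)) :=
  Lre_c IH (LK LD1_c3 LD2_c56 LD3_c60) (LK LD1_c7 LD2_c55 LD3_c34) Lrfl Lrfl
theorem f229684 : Led Lsl_bt (LP (LK LD1_c3 LD2_c56 LD3_c60)) = (LP (LK LD1_c7 LD2_c55 LD3_c31)) :=
  Lre_b IH (LK LD1_c3 LD2_c56 LD3_c60) (LK LD1_c7 LD2_c55 LD3_c31) Lrfl Lrfl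
theorem f355859 : Led Lsl_gf (LP (LK LD1_c8 LD2_c33 LD3_c15)) = (LP (LK LD1_c7 LD2_c55 LD3_c31)) :=
  Lgr Lrot124 (Lpe (f316080 IH) (Lpr_ct (K20.f169392 IH) (Lpr_gt (K20.f169393 IH) (Lpe (f321125 IH) (Lpr_bt (K17.f229548 IH) (Lpe (f354763 IH) (Lpr_ct (f166803 IH) (Lpr_gt (f355844 IH) (Lpe (f229685 IH) (Lpr_bt (f229684 IH) (Lpn (LP (LK LD1_c7 LD2_c55 LD3_c31)))))))))))))
theorem f230993 : Led Lsl_bt (LP (LK LD1_c8 LD2_c33 LD3_c15)) = (LP (LK LD1_c4 LD2_c16 LD3_c56)) :=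
  Lre_b IH (LK LD1_c8 LD2_c33 LD3_c15) (LK LD1_c4 LD2_c16 LD3_c56) Lrfl Lrfl
theorem f316065 : Led Lsl_bt (LP (LK LD1_c4 LD2_c10 LD3_c20)) = (LP (LK LD1_c8 LD2_c20 LD3_c58)) :=
  Lre_b IH (LK LD1_c4 LD2_c10 LD3_c20) (LK LD1_c8 LD2_c20 LD3_c58) Lrfl Lrfl
theorem f316089 : Led Lsl_ef (LP (LK LD1_c8 LD2_c33 LD3_c15)) = (LP (LK LD1_c8 LD2_c20 LD3_c58)) :=
  Lgr Lrot29 (Lpr_bt (f230993 IH) (Lpr_et (K20.f316087 IH) (Lpr_bt (f316065 IH) (Lpn (LP (LK LD1_c8 LD2_c20 LD3_c58))))))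
theorem f46366 : Led Lsl_gt (LP (LK LD1_c10 LD2_c27 LD3_c54)) = (LP (LK LD1_c5 LD2_c19 LD3_c0)) :=
  Lre_g IH (LK LD1_c10 LD2_c27 LD3_c54) (LK LD1_c5 LD2_c19 LD3_c0) Lrfl Lrfl
theorem f355865 : Led Lsl_dt (LP (LK LD1_c8 LD2_c20 LD3_c58)) = (LP (LK LD1_c10 LD2_c27 LD3_c54)) :=
  Lgr Lrot136 (Lpe (f316089 IH) (Lpr_gf (f355859 IH) (Lpe (K15.f229644 IH) (Lpr_dt (K13.f229643 IH) (Lpe (K12.f229627 IH) (Lpe (K13.f29018 IH) (Lpr_gf (K17.f250834 IH) (Lpe (K16.f250839 IH) (Lpe (K24.f254529 IH) (Lpe (f46366 IH) (Lpn (LP (LK LD1_c10 LD2_c27 LD3_c54)))))))))))))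
theorem f254536 : Led Lsl_ct (LP (LK LD1_c8 LD2_c31 LD3_c32)) = (LP (LK LD1_c4 LD2_c16 LD3_c13)) :=
  Lre_c IH (LK LD1_c8 LD2_c31 LD3_c32) (LK LD1_c4 LD2_c16 LD3_c13) Lrfl Lrfl
theorem f254537 : Led Lsl_dt (LP (LK LD1_c16 LD2_c0 LD3_c13)) = (LP (LK LD1_c8 LD2_c31 LD3_c32)) :=
  Lre_d IH (LK LD1_c16 LD2_c0 LD3_c13) (LK LD1_c8 LD2_c31 LD3_c32) Lrfl Lrfl
theorem f304626 : Led Lsl_dt (LP (LK LD1_c8 LD2_c24 LD3_c39)) = (LP (LK LD1_c15 LD2_c48 LD3_c45)) :=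
  Lre_d IH (LK LD1_c8 LD2_c24 LD3_c39) (LK LD1_c15 LD2_c48 LD3_c45) Lrfl Lrfl
theorem f219700 : Led Lsl_et (LP (LK LD1_c4 LD2_c21 LD3_c6)) = (LP (LK LD1_c8 LD2_c39 LD3_c55)) :=
  Lre_e IH (LK LD1_c4 LD2_c21 LD3_c6) (LK LD1_c8 LD2_c39 LD3_c55) Lrfl Lrfl
theorem f221823 : Led Lsl_et (LP (LK LD1_c8 LD2_c31 LD3_c32)) = (LP (LK LD1_c4 LD2_c16 LD3_c12)) :=
  Lre_e IH (LK LD1_c8 LD2_c31 LD3_c32) (LK LD1_c4 LD2_c16 LD3_c12) Lrfl Lrfl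
theorem f221824 : Led Lsl_dt (LP (LK LD1_c8 LD2_c31 LD3_c32)) = (LP (LK LD1_c16 LD2_c0 LD3_c13)) :=
  Lre_d IH (LK LD1_c8 LD2_c31 LD3_c32) (LK LD1_c16 LD2_c0 LD3_c13) Lrfl Lrfl
theorem f332968 : Led Lsl_gt (LP (LK LD1_c15 LD2_c48 LD3_c45)) = (LP (LK LD1_c16 LD2_c0 LD3_c13)) :=
  Lgr Lrot139 (Lpe (f304626 IH) (Lpr_gf (f332964 IH) (Lpe (f219700 IH) (Lpr_dt (K23.f191843 IH) (Lpr_gf (K23.f278802 IH) (Lpe (K16.f53962 IH) (Lpe (K12.f53981 IH) (Lpr_gf (K12.f221805 IH) (Lpe (f221823 IH) (Lpr_dt (f221824 IH) (Lpn (LP (LK LD1_c16 LD2_c0 LD3_c13)))))))))))))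
theorem f355872 : Led Lsl_gf (LP (LK LD1_c8 LD2_c20 LD3_c58)) = (LP (LK LD1_c4 LD2_c21 LD3_c7)) :=
  Lgr Lrot144 (Lpr_dt (f355865 IH) (Lpr_gt (f46366 IH) (Lpr_dt (K16.f254520 IH) (Lpe (f254536 IH) (Lpe (f254537 IH) (Lpe (f332968 IH) (Lpe (f304626 IH) (Lpr_gf (f332964 IH) (Lpe (f45764 IH) (Lpn (LP (LK LD1_c4 LD2_c21 LD3_c7))))))))))))
theorem f355869 : Led Lsl_df (LP (LK LD1_c8 LD2_c20 LD3_c58)) = (LP (LK LD1_c10 LD2_c27 LD3_c54)) :=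
  Lgr Lrot38 (Lpr_dt (f355865 IH) (Lpn (LP (LK LD1_c10 LD2_c27 LD3_c54))))
theorem f355871 : Led Lsl_et (LP (LK LD1_c10 LD2_c27 LD3_c54)) = (LP (LK LD1_c18 LD2_c58 LD3_c13)) :=
  Lre_e IH (LK LD1_c10 LD2_c27 LD3_c54) (LK LD1_c18 LD2_c58 LD3_c13) Lrfl Lrfl
theorem f355928 : Led Lsl_gt (LP (LK LD1_c18 LD2_c58 LD3_c13)) = (LP (LK LD1_c18 LD2_c49 LD3_c10)) :=
  Lgr Lrot137 (Lpe (f355871 IH) (Lpe (f355869 IH) (Lpr_gf (f355872 IH) (Lpe (K24.f45753 IH) (Lpr_et (K23.f45752 IH) (Lpr_gf (K10.f46405 IH) (Lpe (K19.f43951 IH) (Lpe (K19.f46090 IH) (Lpr_gf (K23.f342622 IH) (Lpe (K23.f250100 IH) (Lpn (LP (LK LD1_c18 LD2_c49 LD3_c10)))))))))))))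
theorem f355861 : Led Lsl_gt (LP (LK LD1_c8 LD2_c33 LD3_c15)) = (LP (LK LD1_c15 LD2_c56 LD3_c47)) :=
  Lgr Lrot46 (Lpr_gf (f355859 IH) (Lpr_ft (K13.f229664 IH) (Lpe (K18.f287652 IH) (Lpn (LP (LK LD1_c15 LD2_c56 LD3_c47))))))
theorem f306487 : Led Lsl_gt (LP (LK LD1_c18 LD2_c47 LD3_c12)) = (LP (LK LD1_c10 LD2_c38 LD3_c55)) :=
  Lgr Lrot137 (Lpe (f291275 IH) (Lpr_dt (K19.f294173 IH) (Lpe (K19.f716 IH) (Lpe (K16.f254520 IH) (Lpr_et (K21.f189537 IH) (Lpe (K14.f249429 IH) (Lpr_ef (K19.f306479 IH) (Lpr_dt (K18.f223859 IH) (Lpe (K18.f251016 IH) (Lpe (K19.f251022 IH) (Lpn (LP (LK LD1_c10 LD2_c38 LD3_c55)))))))))))))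
theorem f325714 : Led Lsl_dt (LP (LK LD1_c10 LD2_c26 LD3_c32)) = (LP (LK LD1_c18 LD2_c56 LD3_c20)) :=
  Lre_d IH (LK LD1_c10 LD2_c26 LD3_c32) (LK LD1_c18 LD2_c56 LD3_c20) Lrfl Lrfl
theorem f331352 : Led Lsl_gf (LP (LK LD1_c18 LD2_c56 LD3_c20)) = (LP (LK LD1_c10 LD2_c38 LD3_c56)) :=
  Lgr Lrot134 (Lpe (f325714 IH) (Lpr_et (K21.f331346 IH) (Lpr_gt (K21.f47650 IH) (Lpe (K12.f47643 IH) (Lpr_dt (K12.f47561 IH) (Lpr_gt (K16.f256302 IH) (Lpe (K9.f183920 IH) (Lpr_et (K18.f242414 IH) (Lpr_gt (K18.f242390 IH) (Lpe (K23.f251019 IH) (Lpn (LP (LK LD1_c10 LD2_c38 LD3_c56)))))))))))))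
theorem f352084 : Led Lsl_gt (LP (LK LD1_c10 LD2_c35 LD3_c0)) = (LP (LK LD1_c10 LD2_c35 LD3_c25)) :=
  Lgr Lrot131 (Lpr_ef (K24.f254484 IH) (Lpr_dt (K18.f254476 IH) (Lpe (K24.f326947 IH) (Lpe (K23.f325715 IH) (Lpr_gf (f331352 IH) (Lpe (K23.f251021 IH) (Lpr_dt (K23.f224814 IH) (Lpe (f306487 IH) (Lpe (f291273 IH) (Lpr_et (f352076 IH) (Lpn (LP (LK LD1_c10 LD2_c35 LD3_c25)))))))))))))
theorem f352610 : Led Lsl_df (LP (LK LD1_c10 LD2_c35 LD3_c25)) = (LP (LK LD1_c16 LD2_c0 LD3_c15)) :=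
  Lgr Lrot135 (Lpr_gt (f196640 IH) (Lpr_df (K22.f196633 IH) (Lpr_et (K13.f196620 IH) (Lpr_gt (K19.f187077 IH) (Lpe (K19.f311385 IH) (Lpr_dt (K22.f311383 IH) (Lpr_gt (K23.f311395 IH) (Lpe (f311396 IH) (Lpe (f352603 IH) (Lpr_gt (f352608 IH) (Lpn (LP (LK LD1_c16 LD2_c0 LD3_c15)))))))))))))
theorem f355874 : Led Lsl_gt (LP (LK LD1_c10 LD2_c28 LD3_c6)) = (LP (LK LD1_c10 LD2_c27 LD3_c54)) :=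
  Lgr Lrot139 (Lpr_df (K16.f216761 IH) (Lpe (K19.f271412 IH) (Lpe (f254524 IH) (Lpe (f352610 IH) (Lpe (f352084 IH) (Lpr_df (K13.f220668 IH) (Lpr_et (K24.f251058 IH) (Lpe (f355861 IH) (Lpr_ef (f316089 IH) (Lpr_dt (f355865 IH) (Lpn (LP (LK LD1_c10 LD2_c27 LD3_c54)))))))))))))
theorem f166795 : Led Lsl_ct (LP (LK LD1_c5 LD2_c2 LD3_c42)) = (LP (LK LD1_c9 LD2_c56 LD3_c19)) :=
  Lre_c IH (LK LD1_c5 LD2_c2 LD3_c42) (LK LD1_c9 LD2_c56 LD3_c19) Lrfl Lrfl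
theorem f193030 : Led Lsl_ct (LP (LK LD1_c15 LD2_c9 LD3_c47)) = (LP (LK LD1_c8 LD2_c3 LD3_c13)) :=
  Lre_c IH (LK LD1_c15 LD2_c9 LD3_c47) (LK LD1_c8 LD2_c3 LD3_c13) Lrfl Lrfl
theorem f354778 : Led Lsl_gt (LP (LK LD1_c9 LD2_c56 LD3_c19)) = (LP (LK LD1_c15 LD2_c9 LD3_c47)) :=
  Lgr Lrot150 (Lpe (f166795 IH) (Lpr_gf (f354774 IH) (Lpr_df (K16.f229260 IH) (Lpr_gt (K21.f237518 IH) (Lpr_ct (K24.f237545 IH) (Lpr_gt (K24.f349988 IH) (Lpr_ct (K16.f216772 IH) (Lpe (K16.f216764 IH) (Lpe (f193030 IH) (Lpn (LP (LK LD1_c15 LD2_c9 LD3_c47))))))))))))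
theorem f279369 : Led Lsl_bt (LP (LK LD1_c8 LD2_c3 LD3_c58)) = (LP (LK LD1_c4 LD2_c1 LD3_c42)) :=
  Lre_b IH (LK LD1_c8 LD2_c3 LD3_c58) (LK LD1_c4 LD2_c1 LD3_c42) Lrfl Lrfl
theorem f325680 : Led Lsl_gt (LP (LK LD1_c4 LD2_c11 LD3_c33)) = (LP (LK LD1_c8 LD2_c22 LD3_c17)) :=
  Lgr Lrot112 (Lpe (K18.f200166 IH) (Lpr_et (K19.f300680 IH) (Lpe (K20.f302798 IH) (Lpr_ef (K20.f293816 IH) (Lpe (K20.f265357 IH) (Lpe (K20.f302841 IH) (Lpe (K15.f230596 IH) (Lpr_gf (K21.f268058 IH) (Lpr_ef (K21.f325675 IH) (Lpe (K22.f325673 IH) (Lpn (LP (LK LD1_c8 LD2_c22 LD3_c17)))))))))))))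
theorem f300472 : Led Lsl_ct (LP (LK LD1_c5 LD2_c19 LD3_c19)) = (LP (LK LD1_c10 LD2_c28 LD3_c25)) :=
  Lre_c IH (LK LD1_c5 LD2_c19 LD3_c19) (LK LD1_c10 LD2_c28 LD3_c25) Lrfl Lrfl
theorem f349986 : Led Lsl_gf (LP (LK LD1_c15 LD2_c11 LD3_c1)) = (LP (LK LD1_c10 LD2_c28 LD3_c25)) :=
  Lgr Lrot104 (Lpr_ct (K20.f193182 IH) (Lpr_df (K22.f256021 IH) (Lpe (K24.f237507 IH) (Lpr_gf (K24.f349979 IH) (Lpe (K24.f325682 IH) (Lpe (f325680 IH) (Lpe (K18.f200166 IH) (Lpr_gt (K20.f300470 IH) (Lpr_ct (f300472 IH) (Lpn (LP (LK LD1_c10 LD2_c28 LD3_c25))))))))))))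
theorem f355878 : Led Lsl_bt (LP (LK LD1_c5 LD2_c19 LD3_c19)) = (LP (LK LD1_c10 LD2_c27 LD3_c54)) :=
  Lgr Lrot92 (Lpr_ct (f300472 IH) (Lpe (f349986 IH) (Lpe (K20.f193183 IH) (Lpr_bt (f279369 IH) (Lpe (f354774 IH) (Lpr_ct (f166795 IH) (Lpr_gt (f354778 IH) (Lpe (K16.f193034 IH) (Lpr_bt (K16.f193021 IH) (Lpr_gt (f355874 IH) (Lpn (LP (LK LD1_c10 LD2_c27 LD3_c54)))))))))))))
theorem f300475 : Led Lsl_ct (LP (LK LD1_c10 LD2_c28 LD3_c25)) = (LP (LK LD1_c5 LD2_c19 LD3_c19)) :=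
  Lre_c IH (LK LD1_c10 LD2_c28 LD3_c25) (LK LD1_c5 LD2_c19 LD3_c19) Lrfl Lrfl
theorem f355880 : Led Lsl_bt (LP (LK LD1_c18 LD2_c58 LD3_c57)) = (LP (LK LD1_c10 LD2_c28 LD3_c25)) :=
  Lre_b IH (LK LD1_c18 LD2_c58 LD3_c57) (LK LD1_c10 LD2_c28 LD3_c25) Lrfl Lrfl
theorem f166669 : Led Lsl_ct (LP (LK LD1_c2 LD2_c28 LD3_c43)) = (LP (LK LD1_c5 LD2_c2 LD3_c13)) :=
  Lre_c IH (LK LD1_c2 LD2_c28 LD3_c43) (LK LD1_c5 LD2_c2 LD3_c13) Lrfl Lrfl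
theorem f166663 : Led Lsl_gt (LP (LK LD1_c9 LD2_c55 LD3_c14)) = (LP (LK LD1_c5 LD2_c2 LD3_c13)) :=
  Lre_g IH (LK LD1_c9 LD2_c55 LD3_c14) (LK LD1_c5 LD2_c2 LD3_c13) Lrfl Lrfl
theorem f355876 : Led Lsl_cf (LP (LK LD1_c9 LD2_c55 LD3_c14)) = (LP (LK LD1_c10 LD2_c27 LD3_c54)) :=
  Lgr Lrot125 (Lpr_gt (f166663 IH) (Lpe (f166669 IH) (Lpr_bt (K21.f166587 IH) (Lpr_gt (K19.f21995 IH) (Lpe (f166749 IH) (Lpr_ct (f166795 IH) (Lpr_gt (f354778 IH) (Lpe (K16.f193034 IH) (Lpr_bt (K16.f193021 IH) (Lpr_gt (f355874 IH) (Lpn (LP (LK LD1_c10 LD2_c27 LD3_c54)))))))))))))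
theorem f355881 : Led Lsl_bt (LP (LK LD1_c9 LD2_c55 LD3_c14)) = (LP (LK LD1_c18 LD2_c9 LD3_c43)) :=
  Lre_b IH (LK LD1_c9 LD2_c55 LD3_c14) (LK LD1_c18 LD2_c9 LD3_c43) Lrfl Lrfl
theorem f355882 : Led Lsl_cf (LP (LK LD1_c18 LD2_c58 LD3_c57)) = (LP (LK LD1_c18 LD2_c9 LD3_c43)) :=
  Lgr Lrot97 (Lpr_bt (f355880 IH) (Lpr_ct (f300475 IH) (Lpr_bt (f355878 IH) (Lpe (f355876 IH) (Lpr_bt (f355881 IH) (Lpn (LP (LK LD1_c18 LD2_c9 LD3_c43))))))))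
theorem f355888 : Led Lsl_ct (LP (LK LD1_c18 LD2_c58 LD3_c57)) = (LP (LK LD1_c18 LD2_c9 LD3_c43)) :=
  Lgr Lrot59 (Lpr_cf (f355882 IH) (Lpn (LP (LK LD1_c18 LD2_c9 LD3_c43))))
theorem f300476 : Led Lsl_bt (LP (LK LD1_c10 LD2_c28 LD3_c25)) = (LP (LK LD1_c18 LD2_c58 LD3_c57)) :=
  Lre_b IH (LK LD1_c10 LD2_c28 LD3_c25) (LK LD1_c18 LD2_c58 LD3_c57) Lrfl Lrfl
theorem f355867 : Led Lsl_bf (LP (LK LD1_c5 LD2_c19 LD3_c19)) = (LP (LK LD1_c10 LD2_c27 LD3_c54)) :=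
  Lgr Lrot93 (Lpr_dt (K20.f316063 IH) (Lpr_bt (f316065 IH) (Lpr_dt (f355865 IH) (Lpn (LP (LK LD1_c10 LD2_c27 LD3_c54))))))
theorem f355892 : Led Lsl_bt (LP (LK LD1_c18 LD2_c9 LD3_c43)) = (LP (LK LD1_c9 LD2_c55 LD3_c14)) :=
  Lre_b IH (LK LD1_c18 LD2_c9 LD3_c43) (LK LD1_c9 LD2_c55 LD3_c14) Lrfl Lrfl
theorem f355894 : Led Lsl_cf (LP (LK LD1_c10 LD2_c27 LD3_c54)) = (LP (LK LD1_c9 LD2_c55 LD3_c14)) :=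
  Lgr Lrot97 (Lpe (f355867 IH) (Lpr_ct (f300472 IH) (Lpr_bt (f300476 IH) (Lpr_ct (f355888 IH) (Lpr_bt (f355892 IH) (Lpn (LP (LK LD1_c9 LD2_c55 LD3_c14))))))))
theorem f249436 : Led Lsl_et (LP (LK LD1_c18 LD2_c9 LD3_c45)) = (LP (LK LD1_c9 LD2_c55 LD3_c14)) :=
  Lre_e IH (LK LD1_c18 LD2_c9 LD3_c45) (LK LD1_c9 LD2_c55 LD3_c14) Lrfl Lrfl
theorem f355899 : Led Lsl_ct (LP (LK LD1_c18 LD2_c58 LD3_c13)) = (LP (LK LD1_c18 LD2_c9 LD3_c45)) :=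
  Lgr Lrot15 (Lpe (f355871 IH) (Lpr_cf (f355894 IH) (Lpe (f249436 IH) (Lpn (LP (LK LD1_c18 LD2_c9 LD3_c45))))))
theorem f355902 : Led Lsl_cf (LP (LK LD1_c18 LD2_c58 LD3_c13)) = (LP (LK LD1_c18 LD2_c9 LD3_c45)) :=
  Lgr Lrot11 (Lpr_ct (f355899 IH) (Lpn (LP (LK LD1_c18 LD2_c9 LD3_c45))))
theorem f289879 : Led Lsl_ct (LP (LK LD1_c9 LD2_c39 LD3_c38)) = (LP (LK LD1_c17 LD2_c45 LD3_c60)) :=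
  Lre_c IH (LK LD1_c9 LD2_c39 LD3_c38) (LK LD1_c17 LD2_c45 LD3_c60) Lrfl Lrfl
theorem f355907 : Led Lsl_gf (LP (LK LD1_c9 LD2_c55 LD3_c14)) = (LP (LK LD1_c17 LD2_c45 LD3_c60)) :=
  Lgr Lrot126 (Lpr_cf (f355876 IH) (Lpe (f355867 IH) (Lpr_gt (K20.f230536 IH) (Lpr_ct (K9.f182226 IH) (Lpr_gt (K9.f182227 IH) (Lpe (f355685 IH) (Lpr_bt (f300203 IH) (Lpr_gt (K19.f300202 IH) (Lpe (K19.f300083 IH) (Lpr_ct (f289879 IH) (Lpn (LP (LK LD1_c17 LD2_c45 LD3_c60)))))))))))))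
theorem f355906 : Led Lsl_dt (LP (LK LD1_c9 LD2_c55 LD3_c14)) = (LP (LK LD1_c18 LD2_c9 LD3_c44)) :=
  Lre_d IH (LK LD1_c9 LD2_c55 LD3_c14) (LK LD1_c18 LD2_c9 LD3_c44) Lrfl Lrfl
theorem f166837 : Led Lsl_ct (LP (LK LD1_c9 LD2_c58 LD3_c31)) = (LP (LK LD1_c5 LD2_c3 LD3_c50)) :=
  Lre_c IH (LK LD1_c9 LD2_c58 LD3_c31) (LK LD1_c5 LD2_c3 LD3_c50) Lrfl Lrfl
theorem f166835 : Led Lsl_dt (LP (LK LD1_c18 LD2_c14 LD3_c59)) = (LP (LK LD1_c9 LD2_c58 LD3_c31)) :=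
  Lre_d IH (LK LD1_c18 LD2_c14 LD3_c59) (LK LD1_c9 LD2_c58 LD3_c31) Lrfl Lrfl
theorem f355909 : Led Lsl_gt (LP (LK LD1_c18 LD2_c9 LD3_c44)) = (LP (LK LD1_c18 LD2_c14 LD3_c59)) :=
  Lgr Lrot49 (Lpe (f355906 IH) (Lpr_gf (f355907 IH) (Lpe (f289879 IH) (Lpe (K21.f306573 IH) (Lpr_dt (K21.f260924 IH) (Lpr_gt (K21.f166836 IH) (Lpe (K10.f166817 IH) (Lpe (f166837 IH) (Lpe (f166835 IH) (Lpn (LP (LK LD1_c18 LD2_c14 LD3_c59))))))))))))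
theorem f355905 : Led Lsl_et (LP (LK LD1_c9 LD2_c55 LD3_c14)) = (LP (LK LD1_c18 LD2_c9 LD3_c45)) :=
  Lre_e IH (LK LD1_c9 LD2_c55 LD3_c14) (LK LD1_c18 LD2_c9 LD3_c45) Lrfl Lrfl
theorem f166824 : Led Lsl_dt (LP (LK LD1_c9 LD2_c58 LD3_c31)) = (LP (LK LD1_c18 LD2_c14 LD3_c59)) :=
  Lre_d IH (LK LD1_c9 LD2_c58 LD3_c31) (LK LD1_c18 LD2_c14 LD3_c59) Lrfl Lrfl
theorem f249666 : Led Lsl_ef (LP (LK LD1_c9 LD2_c58 LD3_c17)) = (LP (LK LD1_c10 LD2_c11 LD3_c37)) :=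
  Lgr Lrot88 (Lpr_et (K14.f249662 IH) (Lpn (LP (LK LD1_c10 LD2_c11 LD3_c37))))
theorem f249669 : Led Lsl_ct (LP (LK LD1_c18 LD2_c34 LD3_c4)) = (LP (LK LD1_c10 LD2_c11 LD3_c37)) :=
  Lre_c IH (LK LD1_c18 LD2_c34 LD3_c4) (LK LD1_c10 LD2_c11 LD3_c37) Lrfl Lrfl
theorem f249670 : Led Lsl_et (LP (LK LD1_c18 LD2_c14 LD3_c26)) = (LP (LK LD1_c18 LD2_c34 LD3_c4)) :=
  Lgr Lrot158 (Lpe (K22.f166940 IH) (Lpr_ef (f249666 IH) (Lpe (f249669 IH) (Lpn (LP (LK LD1_c18 LD2_c34 LD3_c4))))))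
theorem f166941 : Led Lsl_at (LP (LK LD1_c9 LD2_c58 LD3_c31)) = (LP (LK LD1_c18 LD2_c14 LD3_c26)) :=
  Lre_a IH (LK LD1_c9 LD2_c58 LD3_c31) (LK LD1_c18 LD2_c14 LD3_c26) Lrfl Lrfl
theorem f249673 : Led Lsl_at (LP (LK LD1_c18 LD2_c34 LD3_c4)) = (LP (LK LD1_c10 LD2_c11 LD3_c49)) :=
  Lre_a IH (LK LD1_c18 LD2_c34 LD3_c4) (LK LD1_c10 LD2_c11 LD3_c49) Lrfl Lrfl
theorem f249674 : Led Lsl_ef (LP (LK LD1_c9 LD2_c58 LD3_c31)) = (LP (LK LD1_c10 LD2_c11 LD3_c49)) :=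
  Lgr Lrot20 (Lpr_at (f166941 IH) (Lpr_et (f249670 IH) (Lpr_at (f249673 IH) (Lpn (LP (LK LD1_c10 LD2_c11 LD3_c49))))))
theorem f249683 : Led Lsl_et (LP (LK LD1_c9 LD2_c58 LD3_c31)) = (LP (LK LD1_c10 LD2_c11 LD3_c49)) :=
  Lgr Lrot87 (Lpr_ef (f249674 IH) (Lpn (LP (LK LD1_c10 LD2_c11 LD3_c49))))
theorem f249692 : Led Lsl_dt (LP (LK LD1_c18 LD2_c34 LD3_c2)) = (LP (LK LD1_c28 LD2_c8 LD3_c14)) :=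
  Lre_d IH (LK LD1_c18 LD2_c34 LD3_c2) (LK LD1_c28 LD2_c8 LD3_c14) Lrfl Lrfl
theorem f251657 : Led Lsl_dt (LP (LK LD1_c27 LD2_c49 LD3_c23)) = (LP (LK LD1_c18 LD2_c8 LD3_c61)) :=
  Lre_d IH (LK LD1_c27 LD2_c49 LD3_c23) (LK LD1_c18 LD2_c8 LD3_c61) Lrfl Lrfl
theorem f307288 : Led Lsl_gt (LP (LK LD1_c28 LD2_c8 LD3_c14)) = (LP (LK LD1_c27 LD2_c49 LD3_c23)) :=
  Lgr Lrot49 (Lpe (f249692 IH) (Lpe (K23.f248768 IH) (Lpe (K22.f248737 IH) (Lpr_gt (K14.f253662 IH) (Lpr_dt (K23.f254184 IH) (Lpr_gt (f307286 IH) (Lpr_dt (K14.f251644 IH) (Lpe (K22.f251641 IH) (Lpe (f251657 IH) (Lpn (LP (LK LD1_c27 LD2_c49 LD3_c23))))))))))))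
theorem f250128 : Led Lsl_ct (LP (LK LD1_c9 LD2_c54 LD3_c54)) = (LP (LK LD1_c18 LD2_c8 LD3_c61)) :=
  Lre_c IH (LK LD1_c9 LD2_c54 LD3_c54) (LK LD1_c18 LD2_c8 LD3_c61) Lrfl Lrfl
theorem f214981 : Led Lsl_ct (LP (LK LD1_c27 LD2_c35 LD3_c22)) = (LP (LK LD1_c17 LD2_c48 LD3_c0)) :=
  Lre_c IH (LK LD1_c27 LD2_c35 LD3_c22) (LK LD1_c17 LD2_c48 LD3_c0) Lrfl Lrfl
theorem f251635 : Led Lsl_et (LP (LK LD1_c18 LD2_c8 LD3_c61)) = (LP (LK LD1_c27 LD2_c35 LD3_c22)) :=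
  Lgr Lrot158 (Lpe (f250128 IH) (Lpr_ef (K14.f251633 IH) (Lpe (f214981 IH) (Lpn (LP (LK LD1_c27 LD2_c35 LD3_c22))))))
theorem f355916 : Led Lsl_gf (LP (LK LD1_c18 LD2_c9 LD3_c45)) = (LP (LK LD1_c27 LD2_c35 LD3_c22)) :=
  Lgr Lrot141 (Lpe (f355905 IH) (Lpr_dt (f355906 IH) (Lpr_gt (f355909 IH) (Lpe (f166824 IH) (Lpr_et (f249683 IH) (Lpr_gt (K23.f248768 IH) (Lpr_dt (f249692 IH) (Lpr_gt (f307288 IH) (Lpe (K22.f251651 IH) (Lpr_et (f251635 IH) (Lpn (LP (LK LD1_c27 LD2_c35 LD3_c22)))))))))))))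
theorem f342659 : Led Lsl_ct (LP (LK LD1_c18 LD2_c49 LD3_c10)) = (LP (LK LD1_c28 LD2_c5 LD3_c2)) :=
  Lgr Lrot59 (Lpr_cf (K23.f342654 IH) (Lpn (LP (LK LD1_c28 LD2_c5 LD3_c2))))
theorem f342670 : Led Lsl_dt (LP (LK LD1_c27 LD2_c33 LD3_c33)) = (LP (LK LD1_c28 LD2_c5 LD3_c2)) :=
  Lgr Lrot42 (Lpr_df (K23.f342664 IH) (Lpn (LP (LK LD1_c28 LD2_c5 LD3_c2))))
theorem f214996 : Led Lsl_ct (LP (LK LD1_c32 LD2_c26 LD3_c22)) = (LP (LK LD1_c27 LD2_c33 LD3_c33)) :=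
  Lre_c IH (LK LD1_c32 LD2_c26 LD3_c22) (LK LD1_c27 LD2_c33 LD3_c33) Lrfl Lrfl
theorem f355932 : Led Lsl_gt (LP (LK LD1_c28 LD2_c9 LD3_c22)) = (LP (LK LD1_c32 LD2_c26 LD3_c22)) :=
  Lgr Lrot150 (Lpe (K22.f212367 IH) (Lpe (K22.f233636 IH) (Lpe (K22.f330768 IH) (Lpe (f355916 IH) (Lpe (f355902 IH) (Lpr_gt (f355928 IH) (Lpr_ct (f342659 IH) (Lpe (f342670 IH) (Lpe (f214996 IH) (Lpn (LP (LK LD1_c32 LD2_c26 LD3_c22))))))))))))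
theorem f43368 : Led Lsl_dt (LP (LK LD1_c9 LD2_c39 LD3_c61)) = (LP (LK LD1_c17 LD2_c46 LD3_c48)) :=
  Lre_d IH (LK LD1_c9 LD2_c39 LD3_c61) (LK LD1_c17 LD2_c46 LD3_c48) Lrfl Lrfl
theorem f214377 : Led Lsl_df (LP (LK LD1_c27 LD2_c51 LD3_c38)) = (LP (LK LD1_c27 LD2_c33 LD3_c35)) :=
  Lgr Lrot43 (Lpr_ct (K13.f214143 IH) (Lpr_dt (K12.f214142 IH) (Lpr_ct (K13.f214141 IH) (Lpr_dt (K13.f192558 IH) (Lpr_ct (K12.f214138 IH) (Lpr_dt (K13.f214257 IH) (Lpr_ct (K13.f214157 IH) (Lpr_dt (K13.f214373 IH) (Lpr_ct (K13.f43366 IH) (Lpr_dt (K13.f43365 IH) (Lpr_ct (K13.f43364 IH) (Lpr_dt (K13.f43358 IH) (Lpr_ct (K13.f43367 IH) (Lpr_dt (f43368 IH) (Lpr_ct (K13.f43369 IH) (Lpn (LP (LK LD1_c27 LD2_c33 LD3_c35))))))))))))))))))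
theorem f43373 : Led Lsl_gt (LP (LK LD1_c27 LD2_c33 LD3_c34)) = (LP (LK LD1_c17 LD2_c46 LD3_c48)) :=
  Lre_g IH (LK LD1_c27 LD2_c33 LD3_c34) (LK LD1_c17 LD2_c46 LD3_c48) Lrfl Lrfl
theorem f214384 : Led Lsl_ct (LP (LK LD1_c32 LD2_c26 LD3_c23)) = (LP (LK LD1_c27 LD2_c33 LD3_c34)) :=
  Lre_c IH (LK LD1_c32 LD2_c26 LD3_c23) (LK LD1_c27 LD2_c33 LD3_c34) Lrfl Lrfl
theorem f355934 : Led Lsl_gt (LP (LK LD1_c28 LD2_c8 LD3_c22)) = (LP (LK LD1_c32 LD2_c26 LD3_c23)) :=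
  Lgr Lrot9 (Lpr_df (K22.f233625 IH) (Lpr_gt (f355932 IH) (Lpr_ct (f214996 IH) (Lpe (K23.f214994 IH) (Lpr_ct (K13.f214157 IH) (Lpr_df (f214377 IH) (Lpe (K13.f43369 IH) (Lpe (f43373 IH) (Lpe (f214384 IH) (Lpn (LP (LK LD1_c32 LD2_c26 LD3_c23))))))))))))
theorem f233479 : Led Lsl_ct (LP (LK LD1_c27 LD2_c53 LD3_c41)) = (LP (LK LD1_c18 LD2_c13 LD3_c7)) :=
  Lre_c IH (LK LD1_c27 LD2_c53 LD3_c41) (LK LD1_c18 LD2_c13 LD3_c7) Lrfl Lrfl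
theorem f233600 : Led Lsl_ft (LP (LK LD1_c28 LD2_c8 LD3_c22)) = (LP (LK LD1_c27 LD2_c53 LD3_c41)) :=
  Lgr Lrot4 (Lpe (K19.f233491 IH) (Lpr_ff (K19.f233487 IH) (Lpe (f233479 IH) (Lpn (LP (LK LD1_c27 LD2_c53 LD3_c41))))))
theorem f233654 : Led Lsl_af (LP (LK LD1_c28 LD2_c9 LD3_c22)) = (LP (LK LD1_c27 LD2_c53 LD3_c41)) :=
  Lgr Lrot109 (Lpe (K22.f212367 IH) (Lpe (K19.f212354 IH) (Lpr_cf (K22.f233648 IH) (Lpe (K1.f46115 IH) (Lpr_cf (K19.f212333 IH) (Lpe (K19.f212366 IH) (Lpe (K19.f212363 IH) (Lpe (K19.f233620 IH) (Lpr_ft (f233600 IH) (Lpn (LP (LK LD1_c27 LD2_c53 LD3_c41))))))))))))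
theorem f355936 : Led Lsl_gf (LP (LK LD1_c28 LD2_c9 LD3_c22)) = (LP (LK LD1_c32 LD2_c26 LD3_c23)) :=
  Lgr Lrot76 (Lpr_af (f233654 IH) (Lpe (f233600 IH) (Lpr_gt (f355934 IH) (Lpn (LP (LK LD1_c32 LD2_c26 LD3_c23))))))
theorem f46121 : Led Lsl_gt (LP (LK LD1_c10 LD2_c28 LD3_c2)) = (LP (LK LD1_c5 LD2_c19 LD3_c7)) :=
  Lre_g IH (LK LD1_c10 LD2_c28 LD3_c2) (LK LD1_c5 LD2_c19 LD3_c7) Lrfl Lrfl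
theorem f214394 : Led Lsl_ct (LP (LK LD1_c27 LD2_c33 LD3_c34)) = (LP (LK LD1_c32 LD2_c26 LD3_c23)) :=
  Lre_c IH (LK LD1_c27 LD2_c33 LD3_c34) (LK LD1_c32 LD2_c26 LD3_c23) Lrfl Lrfl
theorem f214392 : Led Lsl_gt (LP (LK LD1_c18 LD2_c11 LD3_c20)) = (LP (LK LD1_c27 LD2_c33 LD3_c34)) :=
  Lgr Lrot5 (Lpr_ft (K13.f214381 IH) (Lpr_at (K13.f43647 IH) (Lpe (f43373 IH) (Lpn (LP (LK LD1_c27 LD2_c33 LD3_c34))))))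
theorem f355938 : Led Lsl_cf (LP (LK LD1_c10 LD2_c28 LD3_c2)) = (LP (LK LD1_c17 LD2_c46 LD3_c47)) :=
  Lgr Lrot169 (Lpr_gt (f46121 IH) (Lpe (K22.f233648 IH) (Lpe (K19.f212366 IH) (Lpe (K19.f212363 IH) (Lpr_gf (f355936 IH) (Lpe (f214394 IH) (Lpe (f214392 IH) (Lpe (K13.f214257 IH) (Lpr_gt (K19.f214371 IH) (Lpn (LP (LK LD1_c17 LD2_c46 LD3_c47))))))))))))
theorem f233656 : Led Lsl_dt (LP (LK LD1_c10 LD2_c28 LD3_c2)) = (LP (LK LD1_c18 LD2_c58 LD3_c18)) :=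
  Lre_d IH (LK LD1_c10 LD2_c28 LD3_c2) (LK LD1_c18 LD2_c58 LD3_c18) Lrfl Lrfl
theorem f307279 : Led Lsl_ct (LP (LK LD1_c10 LD2_c10 LD3_c17)) = (LP (LK LD1_c18 LD2_c31 LD3_c49)) :=
  Lre_c IH (LK LD1_c10 LD2_c10 LD3_c17) (LK LD1_c18 LD2_c31 LD3_c49) Lrfl Lrfl
theorem f307292 : Led Lsl_gt (LP (LK LD1_c18 LD2_c31 LD3_c49)) = (LP (LK LD1_c28 LD2_c6 LD3_c23)) :=
  Lre_g IH (LK LD1_c18 LD2_c31 LD3_c49) (LK LD1_c28 LD2_c6 LD3_c23) Lrfl Lrfl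
theorem f355942 : Led Lsl_cf (LP (LK LD1_c18 LD2_c58 LD3_c18)) = (LP (LK LD1_c28 LD2_c6 LD3_c23)) :=
  Lgr Lrot99 (Lpe (f233656 IH) (Lpr_cf (f355938 IH) (Lpe (K19.f214371 IH) (Lpe (K12.f214138 IH) (Lpr_gf (K15.f214553 IH) (Lpe (K15.f43380 IH) (Lpr_gt (K21.f307307 IH) (Lpr_ct (f307279 IH) (Lpr_gt (f307292 IH) (Lpn (LP (LK LD1_c28 LD2_c6 LD3_c23))))))))))))
theorem f307125 : Led Lsl_et (LP (LK LD1_c5 LD2_c10 LD3_c34)) = (LP (LK LD1_c9 LD2_c40 LD3_c16)) :=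
  Lgr Lrot87 (Lpr_ef (K19.f307118 IH) (Lpn (LP (LK LD1_c9 LD2_c40 LD3_c16))))
theorem f254278 : Led Lsl_dt (LP (LK LD1_c5 LD2_c10 LD3_c34)) = (LP (LK LD1_c10 LD2_c11 LD3_c52)) :=
  Lre_d IH (LK LD1_c5 LD2_c10 LD3_c34) (LK LD1_c10 LD2_c11 LD3_c52) Lrfl Lrfl
theorem f312418 : Led Lsl_gf (LP (LK LD1_c10 LD2_c11 LD3_c52)) = (LP (LK LD1_c15 LD2_c2 LD3_c17)) :=
  Lgr Lrot134 (Lpe (f254278 IH) (Lpr_et (f307125 IH) (Lpr_gt (K19.f249656 IH) (Lpe (K14.f246669 IH) (Lpe (K14.f246667 IH) (Lpe (K14.f255923 IH) (Lpe (K15.f248042 IH) (Lpr_et (K19.f248025 IH) (Lpe (K19.f312399 IH) (Lpr_dt (K19.f312410 IH) (Lpn (LP (LK LD1_c15 LD2_c2 LD3_c17)))))))))))))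
theorem f312420 : Led Lsl_dt (LP (LK LD1_c10 LD2_c11 LD3_c52)) = (LP (LK LD1_c5 LD2_c10 LD3_c34)) :=
  Lre_d IH (LK LD1_c10 LD2_c11 LD3_c52) (LK LD1_c5 LD2_c10 LD3_c34) Lrfl Lrfl
theorem f312421 : Led Lsl_dt (LP (LK LD1_c18 LD2_c34 LD3_c39)) = (LP (LK LD1_c10 LD2_c11 LD3_c51)) :=
  Lre_d IH (LK LD1_c18 LD2_c34 LD3_c39) (LK LD1_c10 LD2_c11 LD3_c51) Lrfl Lrfl
theorem f247989 : Led Lsl_ct (LP (LK LD1_c10 LD2_c10 LD3_c56)) = (LP (LK LD1_c5 LD2_c10 LD3_c6)) :=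
  Lre_c IH (LK LD1_c10 LD2_c10 LD3_c56) (LK LD1_c5 LD2_c10 LD3_c6) Lrfl Lrfl
theorem f247986 : Led Lsl_gt (LP (LK LD1_c10 LD2_c10 LD3_c56)) = (LP (LK LD1_c18 LD2_c32 LD3_c52)) :=
  Lre_g IH (LK LD1_c10 LD2_c10 LD3_c56) (LK LD1_c18 LD2_c32 LD3_c52) Lrfl Lrfl
theorem f247987 : Led Lsl_dt (LP (LK LD1_c18 LD2_c32 LD3_c52)) = (LP (LK LD1_c28 LD2_c7 LD3_c12)) :=
  Lre_d IH (LK LD1_c18 LD2_c32 LD3_c52) (LK LD1_c28 LD2_c7 LD3_c12) Lrfl Lrfl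
theorem f312422 : Led Lsl_gf (LP (LK LD1_c18 LD2_c34 LD3_c39)) = (LP (LK LD1_c28 LD2_c7 LD3_c12)) :=
  Lgr Lrot143 (Lpr_dt (f312421 IH) (Lpe (K22.f253635 IH) (Lpe (f312420 IH) (Lpr_gf (f312418 IH) (Lpe (K19.f312410 IH) (Lpr_gf (K19.f312399 IH) (Lpe (f247989 IH) (Lpr_gt (f247986 IH) (Lpr_dt (f247987 IH) (Lpn (LP (LK LD1_c28 LD2_c7 LD3_c12))))))))))))
theorem f312437 : Led Lsl_dt (LP (LK LD1_c10 LD2_c11 LD3_c51)) = (LP (LK LD1_c18 LD2_c34 LD3_c39)) :=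
  Lre_d IH (LK LD1_c10 LD2_c11 LD3_c51) (LK LD1_c18 LD2_c34 LD3_c39) Lrfl Lrfl
theorem f305946 : Led Lsl_ct (LP (LK LD1_c17 LD2_c47 LD3_c21)) = (LP (LK LD1_c9 LD2_c40 LD3_c16)) :=
  Lre_c IH (LK LD1_c17 LD2_c47 LD3_c21) (LK LD1_c9 LD2_c40 LD3_c16) Lrfl Lrfl
theorem f307121 : Led Lsl_et (LP (LK LD1_c10 LD2_c11 LD3_c51)) = (LP (LK LD1_c17 LD2_c47 LD3_c21)) :=
  Lgr Lrot158 (Lpe (K22.f253635 IH) (Lpr_ef (K19.f307118 IH) (Lpe (f305946 IH) (Lpn (LP (LK LD1_c17 LD2_c47 LD3_c21))))))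
theorem f255925 : Led Lsl_et (LP (LK LD1_c5 LD2_c10 LD3_c5)) = (LP (LK LD1_c10 LD2_c10 LD3_c56)) :=
  Lre_e IH (LK LD1_c5 LD2_c10 LD3_c5) (LK LD1_c10 LD2_c10 LD3_c56) Lrfl Lrfl
theorem f184058 : Led Lsl_et (LP (LK LD1_c4 LD2_c54 LD3_c25)) = (LP (LK LD1_c9 LD2_c40 LD3_c23)) :=
  Lre_e IH (LK LD1_c4 LD2_c54 LD3_c25) (LK LD1_c9 LD2_c40 LD3_c23) Lrfl Lrfl
theorem f312439 : Led Lsl_gt (LP (LK LD1_c17 LD2_c47 LD3_c21)) = (LP (LK LD1_c9 LD2_c40 LD3_c23)) :=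
  Lgr Lrot131 (Lpe (f307121 IH) (Lpr_dt (f312437 IH) (Lpr_gf (f312422 IH) (Lpe (f247987 IH) (Lpe (f247986 IH) (Lpe (f255925 IH) (Lpr_dt (K14.f247992 IH) (Lpr_gf (K14.f255903 IH) (Lpe (K14.f43771 IH) (Lpr_et (f184058 IH) (Lpn (LP (LK LD1_c9 LD2_c40 LD3_c23)))))))))))))
theorem f43777 : Led Lsl_dt (LP (LK LD1_c9 LD2_c40 LD3_c23)) = (LP (LK LD1_c17 LD2_c47 LD3_c35)) :=
  Lre_d IH (LK LD1_c9 LD2_c40 LD3_c23) (LK LD1_c17 LD2_c47 LD3_c35) Lrfl Lrfl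
theorem f259793 : Led Lsl_ct (LP (LK LD1_c5 LD2_c9 LD3_c44)) = (LP (LK LD1_c10 LD2_c10 LD3_c16)) :=
  Lre_c IH (LK LD1_c5 LD2_c9 LD3_c44) (LK LD1_c10 LD2_c10 LD3_c16) Lrfl Lrfl
theorem f259794 : Led Lsl_dt (LP (LK LD1_c18 LD2_c31 LD3_c48)) = (LP (LK LD1_c10 LD2_c10 LD3_c16)) :=
  Lre_d IH (LK LD1_c18 LD2_c31 LD3_c48) (LK LD1_c10 LD2_c10 LD3_c16) Lrfl Lrfl
theorem f312443 : Led Lsl_gf (LP (LK LD1_c18 LD2_c31 LD3_c48)) = (LP (LK LD1_c17 LD2_c47 LD3_c35)) :=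
  Lgr Lrot143 (Lpr_dt (f259794 IH) (Lpe (f259793 IH) (Lpe (K21.f307253 IH) (Lpe (K21.f260930 IH) (Lpr_df (K21.f246670 IH) (Lpe (K19.f249656 IH) (Lpe (f305946 IH) (Lpr_gt (f312439 IH) (Lpr_dt (f43777 IH) (Lpn (LP (LK LD1_c17 LD2_c47 LD3_c35))))))))))))
theorem f259796 : Led Lsl_dt (LP (LK LD1_c10 LD2_c10 LD3_c16)) = (LP (LK LD1_c18 LD2_c31 LD3_c48)) :=
  Lre_d IH (LK LD1_c10 LD2_c10 LD3_c16) (LK LD1_c18 LD2_c31 LD3_c48) Lrfl Lrfl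
theorem f312448 : Led Lsl_et (LP (LK LD1_c10 LD2_c10 LD3_c16)) = (LP (LK LD1_c18 LD2_c31 LD3_c49)) :=
  Lre_e IH (LK LD1_c10 LD2_c10 LD3_c16) (LK LD1_c18 LD2_c31 LD3_c49) Lrfl Lrfl
theorem f312449 : Led Lsl_et (LP (LK LD1_c18 LD2_c32 LD3_c52)) = (LP (LK LD1_c28 LD2_c6 LD3_c23)) :=
  Lgr Lrot122 (Lpr_dt (f247987 IH) (Lpe (f312422 IH) (Lpe (f312437 IH) (Lpr_et (f307121 IH) (Lpr_gt (f312439 IH) (Lpr_dt (f43777 IH) (Lpe (f312443 IH) (Lpe (f259796 IH) (Lpr_et (f312448 IH) (Lpr_gt (f307292 IH) (Lpn (LP (LK LD1_c28 LD2_c6 LD3_c23)))))))))))))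
theorem f312451 : Led Lsl_ef (LP (LK LD1_c18 LD2_c32 LD3_c52)) = (LP (LK LD1_c28 LD2_c6 LD3_c23)) :=
  Lgr Lrot88 (Lpr_et (f312449 IH) (Lpn (LP (LK LD1_c28 LD2_c6 LD3_c23))))
theorem f43725 : Led Lsl_et (LP (LK LD1_c9 LD2_c39 LD3_c61)) = (LP (LK LD1_c4 LD2_c54 LD3_c13)) :=
  Lre_e IH (LK LD1_c9 LD2_c39 LD3_c61) (LK LD1_c4 LD2_c54 LD3_c13) Lrfl Lrfl
theorem f312453 : Led Lsl_df (LP (LK LD1_c27 LD2_c33 LD3_c34)) = (LP (LK LD1_c28 LD2_c6 LD3_c23)) :=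
  Lgr Lrot170 (Lpr_gt (f43373 IH) (Lpe (f43368 IH) (Lpr_et (f43725 IH) (Lpe (K9.f43769 IH) (Lpr_dt (K14.f43771 IH) (Lpe (K14.f255903 IH) (Lpe (K14.f247992 IH) (Lpr_et (f255925 IH) (Lpr_gt (f247986 IH) (Lpr_ef (f312451 IH) (Lpn (LP (LK LD1_c28 LD2_c6 LD3_c23)))))))))))))
theorem f312455 : Led Lsl_dt (LP (LK LD1_c27 LD2_c33 LD3_c34)) = (LP (LK LD1_c28 LD2_c6 LD3_c23)) :=
  Lgr Lrot42 (Lpr_df (f312453 IH) (Lpn (LP (LK LD1_c28 LD2_c6 LD3_c23))))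
theorem f355947 : Led Lsl_gf (LP (LK LD1_c10 LD2_c28 LD3_c2)) = (LP (LK LD1_c5 LD2_c21 LD3_c25)) :=
  Lgr Lrot143 (Lpr_dt (f233656 IH) (Lpr_cf (f355942 IH) (Lpe (f312455 IH) (Lpe (f214392 IH) (Lpe (K13.f214257 IH) (Lpr_gf (K23.f215015 IH) (Lpe (K23.f342536 IH) (Lpe (K23.f342622 IH) (Lpe (K19.f46090 IH) (Lpn (LP (LK LD1_c5 LD2_c21 LD3_c25))))))))))))
theorem f192910 : Led Lsl_cf (LP (LK LD1_c2 LD2_c37 LD3_c18)) = (LP (LK LD1_c5 LD2_c10 LD3_c30)) :=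
  Lgr Lrot11 (Lpr_ct (K10.f192903 IH) (Lpn (LP (LK LD1_c5 LD2_c10 LD3_c30))))
theorem f259976 : Led Lsl_gf (LP (LK LD1_c4 LD2_c27 LD3_c7)) = (LP (LK LD1_c5 LD2_c13 LD3_c3)) :=
  Lgr Lrot144 (Lpr_dt (K14.f44285 IH) (Lpr_gt (K9.f46478 IH) (Lpr_dt (K10.f45985 IH) (Lpr_cf (f192910 IH) (Lpr_df (K15.f259804 IH) (Lpe (K15.f165546 IH) (Lpe (K19.f165545 IH) (Lpe (K17.f165522 IH) (Lpr_cf (K17.f165527 IH) (Lpn (LP (LK LD1_c5 LD2_c13 LD3_c3))))))))))))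
theorem f294171 : Led Lsl_ef (LP (LK LD1_c5 LD2_c13 LD3_c3)) = (LP (LK LD1_c8 LD2_c54 LD3_c12)) :=
  Lgr Lrot88 (Lpr_et (K18.f294158 IH) (Lpn (LP (LK LD1_c8 LD2_c54 LD3_c12))))
theorem f275649 : Led Lsl_dt (LP (LK LD1_c16 LD2_c39 LD3_c18)) = (LP (LK LD1_c8 LD2_c54 LD3_c11)) :=
  Lre_d IH (LK LD1_c16 LD2_c39 LD3_c18) (LK LD1_c8 LD2_c54 LD3_c11) Lrfl Lrfl
theorem f355952 : Led Lsl_ef (LP (LK LD1_c10 LD2_c28 LD3_c2)) = (LP (LK LD1_c16 LD2_c39 LD3_c18)) :=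
  Lgr Lrot17 (Lpr_gf (f355947 IH) (Lpe (K1.f43938 IH) (Lpr_dt (K1.f45816 IH) (Lpe (K9.f46478 IH) (Lpe (K14.f44285 IH) (Lpr_gf (f259976 IH) (Lpr_ef (f294171 IH) (Lpr_dt (f275635 IH) (Lpe (K22.f275634 IH) (Lpe (f275649 IH) (Lpn (LP (LK LD1_c16 LD2_c39 LD3_c18)))))))))))))
theorem f46385 : Led Lsl_at (LP (LK LD1_c8 LD2_c52 LD3_c4)) = (LP (LK LD1_c5 LD2_c21 LD3_c25)) :=
  Lgr Lrot100 (Lpr_af (K1.f46383 IH) (Lpn (LP (LK LD1_c5 LD2_c21 LD3_c25))))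
theorem f342624 : Led Lsl_gt (LP (LK LD1_c5 LD2_c19 LD3_c7)) = (LP (LK LD1_c10 LD2_c22 LD3_c6)) :=
  Lgr Lrot5 (Lpr_ft (K1.f44082 IH) (Lpr_at (f46385 IH) (Lpr_gf (K23.f342622 IH) (Lpn (LP (LK LD1_c10 LD2_c22 LD3_c6))))))
theorem f342640 : Led Lsl_gt (LP (LK LD1_c18 LD2_c19 LD3_c27)) = (LP (LK LD1_c18 LD2_c39 LD3_c52)) :=
  Lgr Lrot137 (Lpr_ef (K23.f342632 IH) (Lpr_dt (K23.f250100 IH) (Lpe (f342624 IH) (Lpe (K1.f46115 IH) (Lpr_et (K1.f44233 IH) (Lpr_gf (K14.f46375 IH) (Lpe (K18.f43965 IH) (Lpe (K18.f246384 IH) (Lpe (K18.f304105 IH) (Lpe (K18.f242406 IH) (Lpn (LP (LK LD1_c18 LD2_c39 LD3_c52)))))))))))))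
theorem f304115 : Led Lsl_df (LP (LK LD1_c15 LD2_c9 LD3_c10)) = (LP (LK LD1_c10 LD2_c24 LD3_c57)) :=
  Lgr Lrot70 (Lpe (K17.f293148 IH) (Lpr_dt (K11.f211343 IH) (Lpe (K18.f303623 IH) (Lpr_dt (K19.f242402 IH) (Lpr_et (K18.f304109 IH) (Lpn (LP (LK LD1_c10 LD2_c24 LD3_c57))))))))
theorem f355960 : Led Lsl_gt (LP (LK LD1_c15 LD2_c9 LD3_c10)) = (LP (LK LD1_c8 LD2_c54 LD3_c11)) :=
  Lgr Lrot112 (Lpr_df (f304115 IH) (Lpe (K19.f304117 IH) (Lpe (f342640 IH) (Lpr_ef (K23.f342632 IH) (Lpr_dt (K23.f250100 IH) (Lpe (f342624 IH) (Lpe (K1.f46115 IH) (Lpe (f46121 IH) (Lpr_ef (f355952 IH) (Lpr_dt (f275649 IH) (Lpn (LP (LK LD1_c8 LD2_c54 LD3_c11)))))))))))))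
theorem f218990 : Led Lsl_ct (LP (LK LD1_c8 LD2_c2 LD3_c59)) = (LP (LK LD1_c15 LD2_c9 LD3_c15)) :=
  Lre_c IH (LK LD1_c8 LD2_c2 LD3_c59) (LK LD1_c15 LD2_c9 LD3_c15) Lrfl Lrfl
theorem f269317 : Led Lsl_gf (LP (LK LD1_c15 LD2_c9 LD3_c15)) = (LP (LK LD1_c8 LD2_c8 LD3_c20)) :=
  Lgr Lrot76 (Lpr_af (K16.f269296 IH) (Lpe (K16.f269314 IH) (Lpr_gt (K23.f227075 IH) (Lpn (LP (LK LD1_c8 LD2_c8 LD3_c20))))))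
theorem f293581 : Led Lsl_ct (LP (LK LD1_c9 LD2_c53 LD3_c9)) = (LP (LK LD1_c15 LD2_c9 LD3_c20)) :=
  Lgr Lrot40 (Lpe (K18.f293554 IH) (Lpr_cf (K23.f293578 IH) (Lpe (K16.f269256 IH) (Lpn (LP (LK LD1_c15 LD2_c9 LD3_c20))))))
theorem f293583 : Led Lsl_ct (LP (LK LD1_c4 LD2_c14 LD3_c38)) = (LP (LK LD1_c8 LD2_c8 LD3_c20)) :=
  Lgr Lrot152 (Lpe (K22.f216422 IH) (Lpe (K13.f228346 IH) (Lpr_gt (K14.f253117 IH) (Lpr_ct (K19.f247910 IH) (Lpr_gt (K18.f247814 IH) (Lpr_ct (f293581 IH) (Lpe (K19.f269276 IH) (Lpe (K16.f218985 IH) (Lpr_gf (f269317 IH) (Lpn (LP (LK LD1_c8 LD2_c8 LD3_c20))))))))))))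
theorem f293591 : Led Lsl_bt (LP (LK LD1_c4 LD2_c14 LD3_c38)) = (LP (LK LD1_c8 LD2_c28 LD3_c3)) :=
  Lre_b IH (LK LD1_c4 LD2_c14 LD3_c38) (LK LD1_c8 LD2_c28 LD3_c3) Lrfl Lrfl
theorem f247911 : Led Lsl_bt (LP (LK LD1_c2 LD2_c28 LD3_c26)) = (LP (LK LD1_c5 LD2_c1 LD3_c18)) :=
  Lre_b IH (LK LD1_c2 LD2_c28 LD3_c26) (LK LD1_c5 LD2_c1 LD3_c18) Lrfl Lrfl
theorem f192494 : Led Lsl_gt (LP (LK LD1_c9 LD2_c52 LD3_c60)) = (LP (LK LD1_c5 LD2_c1 LD3_c18)) :=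
  Lre_g IH (LK LD1_c9 LD2_c52 LD3_c60) (LK LD1_c5 LD2_c1 LD3_c18) Lrfl Lrfl
theorem f192493 : Led Lsl_et (LP (LK LD1_c2 LD2_c28 LD3_c21)) = (LP (LK LD1_c5 LD2_c1 LD3_c18)) :=
  Lre_e IH (LK LD1_c2 LD2_c28 LD3_c21) (LK LD1_c5 LD2_c1 LD3_c18) Lrfl Lrfl
theorem f257576 : Led Lsl_et (LP (LK LD1_c5 LD2_c2 LD3_c50)) = (LP (LK LD1_c9 LD2_c52 LD3_c60)) :=
  Lgr Lrot185 (Lpr_dt (K15.f257568 IH) (Lpr_gf (K12.f230324 IH) (Lpe (K14.f229937 IH) (Lpe (K9.f43810 IH) (Lpr_ef (K9.f50046 IH) (Lpr_dt (K9.f44570 IH) (Lpr_gf (K10.f192477 IH) (Lpe (K14.f192483 IH) (Lpr_et (f192493 IH) (Lpe (f192494 IH) (Lpn (LP (LK LD1_c9 LD2_c52 LD3_c60)))))))))))))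
theorem f257586 : Led Lsl_ef (LP (LK LD1_c5 LD2_c2 LD3_c50)) = (LP (LK LD1_c9 LD2_c52 LD3_c60)) :=
  Lgr Lrot88 (Lpr_et (f257576 IH) (Lpn (LP (LK LD1_c9 LD2_c52 LD3_c60))))
theorem f257590 : Led Lsl_bt (LP (LK LD1_c5 LD2_c2 LD3_c52)) = (LP (LK LD1_c9 LD2_c52 LD3_c60)) :=
  Lgr Lrot119 (Lpe (K19.f257589 IH) (Lpe (K14.f212226 IH) (Lpr_ef (f257586 IH) (Lpn (LP (LK LD1_c9 LD2_c52 LD3_c60))))))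
theorem f246207 : Led Lsl_gt (LP (LK LD1_c18 LD2_c11 LD3_c33)) = (LP (LK LD1_c9 LD2_c56 LD3_c31)) :=
  Lre_g IH (LK LD1_c18 LD2_c11 LD3_c33) (LK LD1_c9 LD2_c56 LD3_c31) Lrfl Lrfl
theorem f304149 : Led Lsl_cf (LP (LK LD1_c18 LD2_c11 LD3_c33)) = (LP (LK LD1_c10 LD2_c27 LD3_c58)) :=
  Lgr Lrot125 (Lpr_gt (f246207 IH) (Lpe (K19.f246208 IH) (Lpr_bt (f257590 IH) (Lpr_gt (f192494 IH) (Lpe (f247911 IH) (Lpr_ct (K19.f247910 IH) (Lpr_gt (K18.f247814 IH) (Lpe (K19.f269285 IH) (Lpr_bt (K19.f304121 IH) (Lpe (K19.f271298 IH) (Lpn (LP (LK LD1_c10 LD2_c27 LD3_c58)))))))))))))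
theorem f246210 : Led Lsl_ct (LP (LK LD1_c9 LD2_c56 LD3_c31)) = (LP (LK LD1_c5 LD2_c2 LD3_c52)) :=
  Lre_c IH (LK LD1_c9 LD2_c56 LD3_c31) (LK LD1_c5 LD2_c2 LD3_c52) Lrfl Lrfl
theorem f266898 : Led Lsl_dt (LP (LK LD1_c5 LD2_c2 LD3_c52)) = (LP (LK LD1_c3 LD2_c58 LD3_c26)) :=
  Lgr Lrot77 (Lpe (K19.f257589 IH) (Lpr_df (K15.f257572 IH) (Lpr_ef (K15.f266894 IH) (Lpe (K15.f266870 IH) (Lpe (K19.f41362 IH) (Lpn (LP (LK LD1_c3 LD2_c58 LD3_c26))))))))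
theorem f167978 : Led Lsl_ct (LP (LK LD1_c7 LD2_c58 LD3_c14)) = (LP (LK LD1_c3 LD2_c58 LD3_c26)) :=
  Lre_c IH (LK LD1_c7 LD2_c58 LD3_c14) (LK LD1_c3 LD2_c58 LD3_c26) Lrfl Lrfl
theorem f168040 : Led Lsl_gt (LP (LK LD1_c15 LD2_c2 LD3_c12)) = (LP (LK LD1_c7 LD2_c58 LD3_c14)) :=
  Lre_g IH (LK LD1_c15 LD2_c2 LD3_c12) (LK LD1_c7 LD2_c58 LD3_c14) Lrfl Lrfl
theorem f355962 : Led Lsl_cf (LP (LK LD1_c15 LD2_c2 LD3_c12)) = (LP (LK LD1_c8 LD2_c54 LD3_c11)) :=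
  Lgr Lrot169 (Lpr_gt (f168040 IH) (Lpr_ct (f167978 IH) (Lpe (f266898 IH) (Lpe (f246210 IH) (Lpe (f246207 IH) (Lpr_cf (f304149 IH) (Lpr_gf (K19.f271298 IH) (Lpe (K21.f304123 IH) (Lpr_gt (f355960 IH) (Lpn (LP (LK LD1_c8 LD2_c54 LD3_c11))))))))))))
theorem f167964 : Led Lsl_ct (LP (LK LD1_c3 LD2_c58 LD3_c26)) = (LP (LK LD1_c7 LD2_c58 LD3_c14)) :=
  Lre_c IH (LK LD1_c3 LD2_c58 LD3_c26) (LK LD1_c7 LD2_c58 LD3_c14) Lrfl Lrfl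
theorem f167977 : Led Lsl_bt (LP (LK LD1_c3 LD2_c58 LD3_c26)) = (LP (LK LD1_c7 LD2_c58 LD3_c10)) :=
  Lre_b IH (LK LD1_c3 LD2_c58 LD3_c26) (LK LD1_c7 LD2_c58 LD3_c10) Lrfl Lrfl
theorem f355964 : Led Lsl_gf (LP (LK LD1_c8 LD2_c28 LD3_c3)) = (LP (LK LD1_c7 LD2_c58 LD3_c10)) :=
  Lgr Lrot124 (Lpe (f293591 IH) (Lpr_ct (f293583 IH) (Lpe (f269317 IH) (Lpe (f218990 IH) (Lpr_bt (K24.f218984 IH) (Lpr_gt (f355960 IH) (Lpe (f355962 IH) (Lpr_gt (f168040 IH) (Lpe (f167964 IH) (Lpr_bt (f167977 IH) (Lpn (LP (LK LD1_c7 LD2_c58 LD3_c10)))))))))))))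
theorem f355966 : Led Lsl_bf (LP (LK LD1_c16 LD2_c12 LD3_c59)) = (LP (LK LD1_c8 LD2_c54 LD3_c11)) :=
  Lgr Lrot34 (Lpe (K21.f330250 IH) (Lpe (K22.f235151 IH) (Lpr_ct (K22.f235156 IH) (Lpe (K22.f338016 IH) (Lpr_cf (K22.f338008 IH) (Lpr_gf (f355964 IH) (Lpe (f167977 IH) (Lpr_ct (f167964 IH) (Lpe (f168040 IH) (Lpr_cf (f355962 IH) (Lpn (LP (LK LD1_c8 LD2_c54 LD3_c11)))))))))))))
theorem f355970 : Led Lsl_bt (LP (LK LD1_c25 LD2_c1 LD3_c28)) = (LP (LK LD1_c16 LD2_c39 LD3_c19)) :=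
  Lgr Lrot119 (Lpe (K23.f293397 IH) (Lpr_bf (f355966 IH) (Lpe (K22.f275643 IH) (Lpn (LP (LK LD1_c16 LD2_c39 LD3_c19))))))
theorem f355974 : Led Lsl_bf (LP (LK LD1_c15 LD2_c12 LD3_c29)) = (LP (LK LD1_c18 LD2_c58 LD3_c7)) :=
  Lgr Lrot93 (Lpr_dt (K21.f240203 IH) (Lpr_bt (f355970 IH) (Lpr_dt (K22.f275644 IH) (Lpn (LP (LK LD1_c18 LD2_c58 LD3_c7))))))
theorem f330264 : Led Lsl_ef (LP (LK LD1_c15 LD2_c14 LD3_c61)) = (LP (LK LD1_c15 LD2_c12 LD3_c29)) :=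
  Lgr Lrot88 (Lpr_et (K23.f330258 IH) (Lpn (LP (LK LD1_c15 LD2_c12 LD3_c29))))
theorem f275651 : Led Lsl_dt (LP (LK LD1_c8 LD2_c54 LD3_c11)) = (LP (LK LD1_c16 LD2_c39 LD3_c18)) :=
  Lre_d IH (LK LD1_c8 LD2_c54 LD3_c11) (LK LD1_c16 LD2_c39 LD3_c18) Lrfl Lrfl
theorem f355956 : Led Lsl_et (LP (LK LD1_c18 LD2_c58 LD3_c18)) = (LP (LK LD1_c18 LD2_c58 LD3_c7)) :=
  Lgr Lrot71 (Lpe (f233656 IH) (Lpr_ef (f355952 IH) (Lpe (f275651 IH) (Lpe (K22.f275643 IH) (Lpr_df (K22.f275646 IH) (Lpn (LP (LK LD1_c18 LD2_c58 LD3_c7))))))))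
theorem f356233 : Led Lsl_bt (LP (LK LD1_c15 LD2_c14 LD3_c61)) = (LP (LK LD1_c18 LD2_c58 LD3_c18)) :=
  Lgr Lrot119 (Lpr_ef (f330264 IH) (Lpr_bf (f355974 IH) (Lpe (f355956 IH) (Lpn (LP (LK LD1_c18 LD2_c58 LD3_c18))))))
theorem f356235 : Led Lsl_bf (LP (LK LD1_c15 LD2_c14 LD3_c61)) = (LP (LK LD1_c18 LD2_c58 LD3_c18)) :=
  Lgr Lrot24 (Lpr_bt (f356233 IH) (Lpn (LP (LK LD1_c18 LD2_c58 LD3_c18))))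
theorem f356231 : Led Lsl_bt (LP (LK LD1_c15 LD2_c12 LD3_c29)) = (LP (LK LD1_c18 LD2_c58 LD3_c7)) :=
  Lgr Lrot127 (Lpr_bf (f355974 IH) (Lpn (LP (LK LD1_c18 LD2_c58 LD3_c7))))
theorem f356244 : Led Lsl_et (LP (LK LD1_c18 LD2_c58 LD3_c7)) = (LP (LK LD1_c18 LD2_c58 LD3_c18)) :=
  Lgr Lrot74 (Lpe (f356231 IH) (Lpe (K23.f330258 IH) (Lpr_bf (f356235 IH) (Lpn (LP (LK LD1_c18 LD2_c58 LD3_c18))))))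
theorem f355945 : Led Lsl_ct (LP (LK LD1_c18 LD2_c58 LD3_c18)) = (LP (LK LD1_c28 LD2_c6 LD3_c23)) :=
  Lgr Lrot59 (Lpr_cf (f355942 IH) (Lpn (LP (LK LD1_c28 LD2_c6 LD3_c23))))
theorem f356246 : Led Lsl_cf (LP (LK LD1_c18 LD2_c58 LD3_c7)) = (LP (LK LD1_c18 LD2_c32 LD3_c52)) :=
  Lgr Lrot39 (Lpr_et (f356244 IH) (Lpr_ct (f355945 IH) (Lpe (f312451 IH) (Lpn (LP (LK LD1_c18 LD2_c32 LD3_c52))))))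
theorem f356248 : Led Lsl_ct (LP (LK LD1_c18 LD2_c58 LD3_c7)) = (LP (LK LD1_c18 LD2_c32 LD3_c52)) :=
  Lgr Lrot59 (Lpr_cf (f356246 IH) (Lpn (LP (LK LD1_c18 LD2_c32 LD3_c52))))
theorem f248609 : Led Lsl_dt (LP (LK LD1_c18 LD2_c13 LD3_c33)) = (LP (LK LD1_c9 LD2_c57 LD3_c34)) :=
  Lre_d IH (LK LD1_c18 LD2_c13 LD3_c33) (LK LD1_c9 LD2_c57 LD3_c34) Lrfl Lrfl
theorem f248608 : Led Lsl_ct (LP (LK LD1_c9 LD2_c57 LD3_c34)) = (LP (LK LD1_c5 LD2_c3 LD3_c23)) :=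
  Lre_c IH (LK LD1_c9 LD2_c57 LD3_c34) (LK LD1_c5 LD2_c3 LD3_c23) Lrfl Lrfl
theorem f278234 : Led Lsl_gt (LP (LK LD1_c9 LD2_c56 LD3_c35)) = (LP (LK LD1_c5 LD2_c2 LD3_c54)) :=
  Lre_g IH (LK LD1_c9 LD2_c56 LD3_c35) (LK LD1_c5 LD2_c2 LD3_c54) Lrfl Lrfl
theorem f278238 : Led Lsl_ct (LP (LK LD1_c9 LD2_c56 LD3_c35)) = (LP (LK LD1_c18 LD2_c11 LD3_c45)) :=
  Lre_c IH (LK LD1_c9 LD2_c56 LD3_c35) (LK LD1_c18 LD2_c11 LD3_c45) Lrfl Lrfl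
theorem f307469 : Led Lsl_gt (LP (LK LD1_c18 LD2_c11 LD3_c45)) = (LP (LK LD1_c9 LD2_c56 LD3_c42)) :=
  Lgr Lrot94 (Lpe (f278238 IH) (Lpr_gt (f278234 IH) (Lpe (K16.f278217 IH) (Lpe (K19.f307421 IH) (Lpr_dt (K19.f307408 IH) (Lpe (f248608 IH) (Lpe (f248609 IH) (Lpr_gf (K19.f307440 IH) (Lpe (K19.f169945 IH) (Lpn (LP (LK LD1_c9 LD2_c56 LD3_c42))))))))))))
theorem f307471 : Led Lsl_gf (LP (LK LD1_c18 LD2_c11 LD3_c45)) = (LP (LK LD1_c18 LD2_c31 LD3_c11)) :=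
  Lgr Lrot47 (Lpr_gt (f307469 IH) (Lpr_af (K19.f306177 IH) (Lpe (K19.f242387 IH) (Lpn (LP (LK LD1_c18 LD2_c31 LD3_c11))))))
theorem f248011 : Led Lsl_gt (LP (LK LD1_c10 LD2_c10 LD3_c57)) = (LP (LK LD1_c5 LD2_c10 LD3_c6)) :=
  Lre_g IH (LK LD1_c10 LD2_c10 LD3_c57) (LK LD1_c5 LD2_c10 LD3_c6) Lrfl Lrfl
theorem f356250 : Led Lsl_bt (LP (LK LD1_c9 LD2_c56 LD3_c35)) = (LP (LK LD1_c10 LD2_c10 LD3_c57)) :=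
  Lgr Lrot130 (Lpr_ct (f278238 IH) (Lpr_gf (f307471 IH) (Lpe (K19.f242388 IH) (Lpr_bt (K19.f242404 IH) (Lpr_gf (K23.f330256 IH) (Lpr_bf (f355974 IH) (Lpr_ct (f356248 IH) (Lpe (f247986 IH) (Lpe (K20.f247988 IH) (Lpe (f248011 IH) (Lpn (LP (LK LD1_c10 LD2_c10 LD3_c57)))))))))))))
theorem f278235 : Led Lsl_dt (LP (LK LD1_c18 LD2_c11 LD3_c46)) = (LP (LK LD1_c9 LD2_c56 LD3_c35)) :=
  Lre_d IH (LK LD1_c18 LD2_c11 LD3_c46) (LK LD1_c9 LD2_c56 LD3_c35) Lrfl Lrfl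
theorem f213972 : Led Lsl_gt (LP (LK LD1_c4 LD2_c55 LD3_c0)) = (LP (LK LD1_c9 LD2_c41 LD3_c37)) :=
  Lre_g IH (LK LD1_c4 LD2_c55 LD3_c0) (LK LD1_c9 LD2_c41 LD3_c37) Lrfl Lrfl
theorem f216287 : Led Lsl_et (LP (LK LD1_c17 LD2_c49 LD3_c56)) = (LP (LK LD1_c9 LD2_c41 LD3_c37)) :=
  Lre_e IH (LK LD1_c17 LD2_c49 LD3_c56) (LK LD1_c9 LD2_c41 LD3_c37) Lrfl Lrfl
theorem f252597 : Led Lsl_df (LP (LK LD1_c10 LD2_c10 LD3_c57)) = (LP (LK LD1_c17 LD2_c49 LD3_c56)) :=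
  Lgr Lrot170 (Lpr_gt (f248011 IH) (Lpr_df (K15.f248023 IH) (Lpr_et (K19.f248027 IH) (Lpr_gt (K14.f252587 IH) (Lpe (K14.f252110 IH) (Lpr_gt (K14.f216284 IH) (Lpe (K12.f213915 IH) (Lpr_et (K21.f213987 IH) (Lpr_gt (f213972 IH) (Lpe (f216287 IH) (Lpn (LP (LK LD1_c17 LD2_c49 LD3_c56)))))))))))))
theorem f252602 : Led Lsl_dt (LP (LK LD1_c10 LD2_c10 LD3_c57)) = (LP (LK LD1_c17 LD2_c49 LD3_c56)) :=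
  Lgr Lrot42 (Lpr_df (f252597 IH) (Lpn (LP (LK LD1_c17 LD2_c49 LD3_c56))))
theorem f356256 : Led Lsl_bf (LP (LK LD1_c18 LD2_c11 LD3_c46)) = (LP (LK LD1_c17 LD2_c49 LD3_c56)) :=
  Lgr Lrot93 (Lpr_dt (f278235 IH) (Lpr_bt (f356250 IH) (Lpr_dt (f252602 IH) (Lpn (LP (LK LD1_c17 LD2_c49 LD3_c56))))))
theorem f187298 : Led Lsl_et (LP (LK LD1_c3 LD2_c58 LD3_c19)) = (LP (LK LD1_c7 LD2_c58 LD3_c0)) :=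
  Lre_e IH (LK LD1_c3 LD2_c58 LD3_c19) (LK LD1_c7 LD2_c58 LD3_c0) Lrfl Lrfl
theorem f187295 : Led Lsl_gt (LP (LK LD1_c7 LD2_c58 LD3_c0)) = (LP (LK LD1_c15 LD2_c1 LD3_c45)) :=
  Lre_g IH (LK LD1_c7 LD2_c58 LD3_c0) (LK LD1_c15 LD2_c1 LD3_c45) Lrfl Lrfl
theorem f278409 : Led Lsl_ef (LP (LK LD1_c15 LD2_c1 LD3_c45)) = (LP (LK LD1_c18 LD2_c11 LD3_c46)) :=
  Lgr Lrot17 (Lpe (f187295 IH) (Lpe (f187298 IH) (Lpr_dt (K10.f47966 IH) (Lpe (K14.f253942 IH) (Lpe (K14.f180036 IH) (Lpe (K15.f237825 IH) (Lpe (K16.f188099 IH) (Lpr_dt (K23.f278225 IH) (Lpe (f278234 IH) (Lpe (f278235 IH) (Lpn (LP (LK LD1_c18 LD2_c11 LD3_c46)))))))))))))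
theorem f252604 : Led Lsl_et (LP (LK LD1_c9 LD2_c41 LD3_c37)) = (LP (LK LD1_c17 LD2_c49 LD3_c56)) :=
  Lre_e IH (LK LD1_c9 LD2_c41 LD3_c37) (LK LD1_c17 LD2_c49 LD3_c56) Lrfl Lrfl
theorem f356260 : Led Lsl_bt (LP (LK LD1_c15 LD2_c1 LD3_c45)) = (LP (LK LD1_c9 LD2_c41 LD3_c37)) :=
  Lgr Lrot119 (Lpr_ef (f278409 IH) (Lpr_bf (f356256 IH) (Lpe (f252604 IH) (Lpn (LP (LK LD1_c9 LD2_c41 LD3_c37))))))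
theorem f356262 : Led Lsl_bf (LP (LK LD1_c15 LD2_c1 LD3_c45)) = (LP (LK LD1_c9 LD2_c41 LD3_c37)) :=
  Lgr Lrot24 (Lpr_bt (f356260 IH) (Lpn (LP (LK LD1_c9 LD2_c41 LD3_c37))))
theorem f191896 : Led Lsl_et (LP (LK LD1_c6 LD2_c5 LD3_c14)) = (LP (LK LD1_c2 LD2_c58 LD3_c46)) :=
  Lre_e IH (LK LD1_c6 LD2_c5 LD3_c14) (LK LD1_c2 LD2_c58 LD3_c46) Lrfl Lrfl
theorem f324830 : Led Lsl_ft (LP (LK LD1_c11 LD2_c53 LD3_c58)) = (LP (LK LD1_c6 LD2_c5 LD3_c14)) :=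
  Lre_f IH (LK LD1_c11 LD2_c53 LD3_c58) (LK LD1_c6 LD2_c5 LD3_c14) Lrfl Lrfl
theorem f324831 : Led Lsl_et (LP (LK LD1_c20 LD2_c55 LD3_c20)) = (LP (LK LD1_c11 LD2_c53 LD3_c58)) :=
  Lgr Lrot69 (Lpe (K23.f182959 IH) (Lpe (K21.f182564 IH) (Lpr_ff (K21.f324822 IH) (Lpe (f191896 IH) (Lpe (f324830 IH) (Lpn (LP (LK LD1_c11 LD2_c53 LD3_c58))))))))
theorem f351524 : Led Lsl_ct (LP (LK LD1_c11 LD2_c53 LD3_c58)) = (LP (LK LD1_c16 LD2_c11 LD3_c8)) :=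
  Lgr Lrot15 (Lpe (f324831 IH) (Lpr_cf (K21.f182936 IH) (Lpr_ef (f351520 IH) (Lpn (LP (LK LD1_c16 LD2_c11 LD3_c8))))))
theorem f351533 : Led Lsl_cf (LP (LK LD1_c6 LD2_c5 LD3_c14)) = (LP (LK LD1_c8 LD2_c38 LD3_c32)) :=
  Lgr Lrot108 (Lpr_ft (f324841 IH) (Lpr_ct (f351524 IH) (Lpr_ft (K10.f187267 IH) (Lpn (LP (LK LD1_c8 LD2_c38 LD3_c32))))))
theorem f182853 : Led Lsl_bt (LP (LK LD1_c10 LD2_c35 LD3_c15)) = (LP (LK LD1_c5 LD2_c23 LD3_c18)) :=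
  Lre_b IH (LK LD1_c10 LD2_c35 LD3_c15) (LK LD1_c5 LD2_c23 LD3_c18) Lrfl Lrfl
theorem f213973 : Led Lsl_ct (LP (LK LD1_c9 LD2_c41 LD3_c37)) = (LP (LK LD1_c17 LD2_c49 LD3_c55)) :=
  Lre_c IH (LK LD1_c9 LD2_c41 LD3_c37) (LK LD1_c17 LD2_c49 LD3_c55) Lrfl Lrfl
theorem f356265 : Led Lsl_gf (LP (LK LD1_c15 LD2_c29 LD3_c7)) = (LP (LK LD1_c17 LD2_c49 LD3_c55)) :=
  Lgr Lrot126 (Lpe (K19.f182828 IH) (Lpr_bt (f182853 IH) (Lpr_gt (f345350 IH) (Lpr_ct (f42290 IH) (Lpe (f345355 IH) (Lpr_cf (f351533 IH) (Lpe (K10.f187288 IH) (Lpr_gt (f187295 IH) (Lpr_bf (f356262 IH) (Lpr_ct (f213973 IH) (Lpn (LP (LK LD1_c17 LD2_c49 LD3_c55)))))))))))))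
theorem f214083 : Led Lsl_gt (LP (LK LD1_c2 LD2_c25 LD3_c22)) = (LP (LK LD1_c4 LD2_c54 LD3_c61)) :=
  Lre_g IH (LK LD1_c2 LD2_c25 LD3_c22) (LK LD1_c4 LD2_c54 LD3_c61) Lrfl Lrfl
theorem f291812 : Led Lsl_ct (LP (LK LD1_c4 LD2_c54 LD3_c61)) = (LP (LK LD1_c9 LD2_c41 LD3_c36)) :=
  Lre_c IH (LK LD1_c4 LD2_c54 LD3_c61) (LK LD1_c9 LD2_c41 LD3_c36) Lrfl Lrfl
theorem f356269 : Led Lsl_gf (LP (LK LD1_c10 LD2_c35 LD3_c11)) = (LP (LK LD1_c9 LD2_c41 LD3_c36)) :=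
  Lgr Lrot104 (Lpr_ct (K19.f182849 IH) (Lpe (K24.f182859 IH) (Lpr_cf (K19.f182846 IH) (Lpr_gf (f356265 IH) (Lpe (f213973 IH) (Lpe (f213972 IH) (Lpe (f213929 IH) (Lpr_gt (f214083 IH) (Lpr_ct (f291812 IH) (Lpn (LP (LK LD1_c9 LD2_c41 LD3_c36))))))))))))
theorem f213932 : Led Lsl_ct (LP (LK LD1_c4 LD2_c54 LD3_c45)) = (LP (LK LD1_c9 LD2_c41 LD3_c2)) :=
  Lre_c IH (LK LD1_c4 LD2_c54 LD3_c45) (LK LD1_c9 LD2_c41 LD3_c2) Lrfl Lrfl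
theorem f356276 : Led Lsl_bf (LP (LK LD1_c5 LD2_c20 LD3_c33)) = (LP (LK LD1_c5 LD2_c23 LD3_c12)) :=
  Lgr Lrot34 (Lpe (K22.f311253 IH) (Lpe (K19.f310934 IH) (Lpr_ct (K24.f182860 IH) (Lpr_gf (f356269 IH) (Lpe (f291812 IH) (Lpe (f214083 IH) (Lpe (f213928 IH) (Lpr_ct (f213932 IH) (Lpr_gf (f341160 IH) (Lpe (f199048 IH) (Lpn (LP (LK LD1_c5 LD2_c23 LD3_c12)))))))))))))
theorem f356278 : Led Lsl_bt (LP (LK LD1_c5 LD2_c20 LD3_c33)) = (LP (LK LD1_c5 LD2_c23 LD3_c12)) :=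
  Lgr Lrot127 (Lpr_bf (f356276 IH) (Lpn (LP (LK LD1_c5 LD2_c23 LD3_c12))))
theorem f187262 : Led Lsl_ct (LP (LK LD1_c7 LD2_c57 LD3_c50)) = (LP (LK LD1_c15 LD2_c1 LD3_c15)) :=
  Lre_c IH (LK LD1_c7 LD2_c57 LD3_c50) (LK LD1_c15 LD2_c1 LD3_c15) Lrfl Lrfl
theorem f187258 : Led Lsl_bt (LP (LK LD1_c7 LD2_c57 LD3_c50)) = (LP (LK LD1_c3 LD2_c58 LD3_c18)) :=
  Lre_b IH (LK LD1_c7 LD2_c57 LD3_c50) (LK LD1_c3 LD2_c58 LD3_c18) Lrfl Lrfl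
theorem f47982 : Led Lsl_gt (LP (LK LD1_c3 LD2_c58 LD3_c18)) = (LP (LK LD1_c7 LD2_c57 LD3_c61)) :=
  Lre_g IH (LK LD1_c3 LD2_c58 LD3_c18) (LK LD1_c7 LD2_c57 LD3_c61) Lrfl Lrfl
theorem f316537 : Led Lsl_ct (LP (LK LD1_c7 LD2_c57 LD3_c61)) = (LP (LK LD1_c15 LD2_c1 LD3_c44)) :=
  Lre_c IH (LK LD1_c7 LD2_c57 LD3_c61) (LK LD1_c15 LD2_c1 LD3_c44) Lrfl Lrfl
theorem f356331 : Led Lsl_gt (LP (LK LD1_c15 LD2_c1 LD3_c44)) = (LP (LK LD1_c11 LD2_c6 LD3_c0)) :=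
  Lgr Lrot149 (Lpe (f316537 IH) (Lpe (f47982 IH) (Lpe (f187258 IH) (Lpr_ct (f187262 IH) (Lpr_gf (f316535 IH) (Lpe (f42381 IH) (Lpr_bt (f356278 IH) (Lpr_gf (K23.f343820 IH) (Lpe (K13.f231359 IH) (Lpr_ct (K24.f338669 IH) (Lpn (LP (LK LD1_c11 LD2_c6 LD3_c0)))))))))))))
theorem f305658 : Led Lsl_ft (LP (LK LD1_c8 LD2_c20 LD3_c26)) = (LP (LK LD1_c15 LD2_c41 LD3_c58)) :=
  Lre_f IH (LK LD1_c8 LD2_c20 LD3_c26) (LK LD1_c15 LD2_c41 LD3_c58) Lrfl Lrfl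
theorem f338694 : Led Lsl_at (LP (LK LD1_c15 LD2_c41 LD3_c58)) = (LP (LK LD1_c11 LD2_c6 LD3_c0)) :=
  Lgr Lrot66 (Lpe (f305658 IH) (Lpe (f276339 IH) (Lpr_ff (K24.f338688 IH) (Lpn (LP (LK LD1_c11 LD2_c6 LD3_c0))))))
theorem f356333 : Led Lsl_gf (LP (LK LD1_c15 LD2_c1 LD3_c44)) = (LP (LK LD1_c8 LD2_c20 LD3_c26)) :=
  Lgr Lrot47 (Lpr_gt (f356331 IH) (Lpe (f338694 IH) (Lpe (f305658 IH) (Lpn (LP (LK LD1_c8 LD2_c20 LD3_c26))))))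
theorem f353658 : Led Lsl_dt (LP (LK LD1_c15 LD2_c1 LD3_c44)) = (LP (LK LD1_c24 LD2_c49 LD3_c59)) :=
  Lre_d IH (LK LD1_c15 LD2_c1 LD3_c44) (LK LD1_c24 LD2_c49 LD3_c59) Lrfl Lrfl
theorem f182824 : Led Lsl_dt (LP (LK LD1_c15 LD2_c29 LD3_c6)) = (LP (LK LD1_c8 LD2_c13 LD3_c54)) :=
  Lre_d IH (LK LD1_c15 LD2_c29 LD3_c6) (LK LD1_c8 LD2_c13 LD3_c54) Lrfl Lrfl
theorem f356383 : Led Lsl_gt (LP (LK LD1_c24 LD2_c49 LD3_c59)) = (LP (LK LD1_c15 LD2_c29 LD3_c6)) :=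
  Lgr Lrot49 (Lpe (f353658 IH) (Lpr_gf (f356333 IH) (Lpe (K17.f170728 IH) (Lpr_gt (K24.f170829 IH) (Lpr_dt (K24.f222167 IH) (Lpr_gt (K24.f182165 IH) (Lpr_dt (K23.f182832 IH) (Lpr_cf (K19.f182580 IH) (Lpe (f182824 IH) (Lpn (LP (LK LD1_c15 LD2_c29 LD3_c6))))))))))))
theorem f178226 : Led Lsl_at (LP (LK LD1_c11 LD2_c5 LD3_c60)) = (LP (LK LD1_c5 LD2_c36 LD3_c57)) :=
  Lre_a IH (LK LD1_c11 LD2_c5 LD3_c60) (LK LD1_c5 LD2_c36 LD3_c57) Lrfl Lrfl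
theorem f356335 : Led Lsl_ft (LP (LK LD1_c15 LD2_c1 LD3_c44)) = (LP (LK LD1_c11 LD2_c5 LD3_c60)) :=
  Lgr Lrot2 (Lpr_gt (f356331 IH) (Lpr_gt (K24.f178229 IH) (Lpe (f178226 IH) (Lpn (LP (LK LD1_c11 LD2_c5 LD3_c60))))))
theorem f356352 : Led Lsl_ff (LP (LK LD1_c15 LD2_c1 LD3_c44)) = (LP (LK LD1_c11 LD2_c5 LD3_c60)) :=
  Lgr Lrot3 (Lpr_ft (f356335 IH) (Lpn (LP (LK LD1_c11 LD2_c5 LD3_c60))))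
theorem f356362 : Led Lsl_dt (LP (LK LD1_c19 LD2_c59 LD3_c22)) = (LP (LK LD1_c11 LD2_c5 LD3_c60)) :=
  Lre_d IH (LK LD1_c19 LD2_c59 LD3_c22) (LK LD1_c11 LD2_c5 LD3_c60) Lrfl Lrfl
theorem f356363 : Led Lsl_ft (LP (LK LD1_c24 LD2_c49 LD3_c59)) = (LP (LK LD1_c19 LD2_c59 LD3_c22)) :=
  Lgr Lrot54 (Lpe (f353658 IH) (Lpr_ff (f356352 IH) (Lpe (f356362 IH) (Lpn (LP (LK LD1_c19 LD2_c59 LD3_c22))))))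
theorem f356365 : Led Lsl_at (LP (LK LD1_c19 LD2_c59 LD3_c22)) = (LP (LK LD1_c11 LD2_c6 LD3_c1)) :=
  Lre_a IH (LK LD1_c19 LD2_c59 LD3_c22) (LK LD1_c11 LD2_c6 LD3_c1) Lrfl Lrfl
theorem f356385 : Led Lsl_gf (LP (LK LD1_c11 LD2_c6 LD3_c1)) = (LP (LK LD1_c15 LD2_c29 LD3_c6)) :=
  Lgr Lrot76 (Lpe (f356365 IH) (Lpe (f356363 IH) (Lpr_gt (f356383 IH) (Lpn (LP (LK LD1_c15 LD2_c29 LD3_c6))))))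
theorem f178227 : Led Lsl_dt (LP (LK LD1_c11 LD2_c6 LD3_c1)) = (LP (LK LD1_c5 LD2_c36 LD3_c57)) :=
  Lre_d IH (LK LD1_c11 LD2_c6 LD3_c1) (LK LD1_c5 LD2_c36 LD3_c57) Lrfl Lrfl
theorem f187334 : Led Lsl_ct (LP (LK LD1_c8 LD2_c13 LD3_c48)) = (LP (LK LD1_c15 LD2_c28 LD3_c58)) :=
  Lre_c IH (LK LD1_c8 LD2_c13 LD3_c48) (LK LD1_c15 LD2_c28 LD3_c58) Lrfl Lrfl
theorem f54963 : Led Lsl_dt (LP (LK LD1_c8 LD2_c13 LD3_c54)) = (LP (LK LD1_c15 LD2_c29 LD3_c6)) :=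
  Lre_d IH (LK LD1_c8 LD2_c13 LD3_c54) (LK LD1_c15 LD2_c29 LD3_c6) Lrfl Lrfl
theorem f356394 : Led Lsl_gt (LP (LK LD1_c15 LD2_c28 LD3_c58)) = (LP (LK LD1_c8 LD2_c13 LD3_c54)) :=
  Lgr Lrot94 (Lpe (f187334 IH) (Lpr_gt (f187310 IH) (Lpe (K10.f187317 IH) (Lpr_gt (f342393 IH) (Lpe (f178216 IH) (Lpe (K24.f178228 IH) (Lpe (f178227 IH) (Lpr_gf (f356385 IH) (Lpe (f54963 IH) (Lpn (LP (LK LD1_c8 LD2_c13 LD3_c54))))))))))))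
theorem f249264 : Led Lsl_ct (LP (LK LD1_c5 LD2_c19 LD3_c53)) = (LP (LK LD1_c10 LD2_c29 LD3_c33)) :=
  Lre_c IH (LK LD1_c5 LD2_c19 LD3_c53) (LK LD1_c10 LD2_c29 LD3_c33) Lrfl Lrfl
theorem f230892 : Led Lsl_bt (LP (LK LD1_c8 LD2_c13 LD3_c18)) = (LP (LK LD1_c8 LD2_c11 LD3_c8)) :=
  Lgr Lrot119 (Lpe (K17.f230891 IH) (Lpr_bf (K15.f230881 IH) (Lpe (K17.f188097 IH) (Lpn (LP (LK LD1_c8 LD2_c11 LD3_c8))))))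
theorem f230894 : Led Lsl_bf (LP (LK LD1_c8 LD2_c13 LD3_c18)) = (LP (LK LD1_c8 LD2_c11 LD3_c8)) :=
  Lgr Lrot24 (Lpr_bt (f230892 IH) (Lpn (LP (LK LD1_c8 LD2_c11 LD3_c8))))
theorem f284031 : Led Lsl_bt (LP (LK LD1_c4 LD2_c54 LD3_c21)) = (LP (LK LD1_c5 LD2_c2 LD3_c49)) :=
  Lgr Lrot95 (Lpe (K19.f250460 IH) (Lpr_bf (f230894 IH) (Lpr_df (K17.f284017 IH) (Lpn (LP (LK LD1_c5 LD2_c2 LD3_c49))))))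
theorem f325420 : Led Lsl_gt (LP (LK LD1_c10 LD2_c29 LD3_c33)) = (LP (LK LD1_c10 LD2_c1 LD3_c53)) :=
  Lgr Lrot149 (Lpe (f249264 IH) (Lpr_gf (K21.f325416 IH) (Lpe (K18.f198606 IH) (Lpr_ct (K19.f306070 IH) (Lpe (K19.f233451 IH) (Lpe (K22.f250465 IH) (Lpr_bt (f284031 IH) (Lpe (K17.f283978 IH) (Lpe (K14.f251337 IH) (Lpe (K22.f251381 IH) (Lpn (LP (LK LD1_c10 LD2_c1 LD3_c53)))))))))))))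
theorem f242943 : Led Lsl_ct (LP (LK LD1_c8 LD2_c8 LD3_c14)) = (LP (LK LD1_c15 LD2_c19 LD3_c19)) :=
  Lre_c IH (LK LD1_c8 LD2_c8 LD3_c14) (LK LD1_c15 LD2_c19 LD3_c19) Lrfl Lrfl
theorem f251386 : Led Lsl_ct (LP (LK LD1_c10 LD2_c1 LD3_c53)) = (LP (LK LD1_c9 LD2_c42 LD3_c4)) :=
  Lgr Lrot59 (Lpr_cf (K22.f251381 IH) (Lpn (LP (LK LD1_c9 LD2_c42 LD3_c4))))
theorem f168072 : Led Lsl_et (LP (LK LD1_c4 LD2_c27 LD3_c36)) = (LP (LK LD1_c8 LD2_c53 LD3_c3)) :=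
  Lre_e IH (LK LD1_c4 LD2_c27 LD3_c36) (LK LD1_c8 LD2_c53 LD3_c3) Lrfl Lrfl
theorem f168073 : Led Lsl_cf (LP (LK LD1_c4 LD2_c55 LD3_c16)) = (LP (LK LD1_c8 LD2_c53 LD3_c3)) :=
  Lgr Lrot39 (Lpr_et (K14.f168071 IH) (Lpr_ct (K9.f167941 IH) (Lpr_et (f168072 IH) (Lpn (LP (LK LD1_c8 LD2_c53 LD3_c3))))))
theorem f325569 : Led Lsl_gt (LP (LK LD1_c15 LD2_c19 LD3_c19)) = (LP (LK LD1_c8 LD2_c53 LD3_c3)) :=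
  Lgr Lrot150 (Lpe (f242943 IH) (Lpr_gf (K23.f293964 IH) (Lpe (K18.f293781 IH) (Lpe (K21.f325416 IH) (Lpr_ct (f249264 IH) (Lpr_gt (f325420 IH) (Lpr_ct (f251386 IH) (Lpe (K14.f168567 IH) (Lpr_cf (f168073 IH) (Lpn (LP (LK LD1_c8 LD2_c53 LD3_c3))))))))))))
theorem f168565 : Led Lsl_ct (LP (LK LD1_c4 LD2_c55 LD3_c16)) = (LP (LK LD1_c8 LD2_c53 LD3_c3)) :=
  Lgr Lrot59 (Lpr_cf (f168073 IH) (Lpn (LP (LK LD1_c8 LD2_c53 LD3_c3))))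
theorem f168563 : Led Lsl_bt (LP (LK LD1_c4 LD2_c55 LD3_c16)) = (LP (LK LD1_c2 LD2_c25 LD3_c34)) :=
  Lre_b IH (LK LD1_c4 LD2_c55 LD3_c16) (LK LD1_c2 LD2_c25 LD3_c34) Lrfl Lrfl
theorem f168574 : Led Lsl_gt (LP (LK LD1_c2 LD2_c25 LD3_c34)) = (LP (LK LD1_c4 LD2_c55 LD3_c21)) :=
  Lre_g IH (LK LD1_c2 LD2_c25 LD3_c34) (LK LD1_c4 LD2_c55 LD3_c21) Lrfl Lrfl
theorem f325571 : Led Lsl_bt (LP (LK LD1_c7 LD2_c58 LD3_c15)) = (LP (LK LD1_c4 LD2_c55 LD3_c21)) :=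
  Lgr Lrot92 (Lpr_ct (K22.f167985 IH) (Lpe (K22.f306533 IH) (Lpe (K17.f293100 IH) (Lpr_bt (K22.f293099 IH) (Lpe (K23.f293964 IH) (Lpr_ct (f242943 IH) (Lpr_gt (f325569 IH) (Lpe (f168565 IH) (Lpr_bt (f168563 IH) (Lpr_gt (f168574 IH) (Lpn (LP (LK LD1_c4 LD2_c55 LD3_c21)))))))))))))
theorem f325573 : Led Lsl_bf (LP (LK LD1_c7 LD2_c58 LD3_c15)) = (LP (LK LD1_c4 LD2_c55 LD3_c21)) :=
  Lgr Lrot24 (Lpr_bt (f325571 IH) (Lpn (LP (LK LD1_c4 LD2_c55 LD3_c21))))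
theorem f187326 : Led Lsl_et (LP (LK LD1_c4 LD2_c54 LD3_c31)) = (LP (LK LD1_c2 LD2_c25 LD3_c8)) :=
  Lre_e IH (LK LD1_c4 LD2_c54 LD3_c31) (LK LD1_c2 LD2_c25 LD3_c8) Lrfl Lrfl
theorem f351835 : Led Lsl_et (LP (LK LD1_c8 LD2_c11 LD3_c37)) = (LP (LK LD1_c4 LD2_c55 LD3_c21)) :=
  Lgr Lrot122 (Lpr_dt (f351822 IH) (Lpr_gt (f187310 IH) (Lpe (K10.f187307 IH) (Lpr_et (f187326 IH) (Lpe (K12.f228792 IH) (Lpr_dt (K12.f178288 IH) (Lpr_gt (K13.f173279 IH) (Lpe (K23.f246593 IH) (Lpr_et (K14.f246630 IH) (Lpr_gt (f168574 IH) (Lpn (LP (LK LD1_c4 LD2_c55 LD3_c21)))))))))))))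
theorem f351851 : Led Lsl_bf (LP (LK LD1_c8 LD2_c11 LD3_c37)) = (LP (LK LD1_c8 LD2_c13 LD3_c48)) :=
  Lgr Lrot96 (Lpr_et (f351835 IH) (Lpe (f325573 IH) (Lpr_et (f351849 IH) (Lpn (LP (LK LD1_c8 LD2_c13 LD3_c48))))))
theorem f187277 : Led Lsl_bf (LP (LK LD1_c15 LD2_c1 LD3_c47)) = (LP (LK LD1_c16 LD2_c11 LD3_c8)) :=
  Lgr Lrot93 (Lpr_dt (f187276 IH) (Lpr_bt (f187275 IH) (Lpr_dt (K10.f187268 IH) (Lpn (LP (LK LD1_c16 LD2_c11 LD3_c8))))))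
theorem f351518 : Led Lsl_cf (LP (LK LD1_c11 LD2_c53 LD3_c58)) = (LP (LK LD1_c16 LD2_c11 LD3_c8)) :=
  Lgr Lrot1 (Lpe (f324856 IH) (Lpr_ct (K23.f343673 IH) (Lpr_at (f351514 IH) (Lpn (LP (LK LD1_c16 LD2_c11 LD3_c8))))))
theorem f182818 : Led Lsl_ct (LP (LK LD1_c5 LD2_c22 LD3_c24)) = (LP (LK LD1_c8 LD2_c13 LD3_c54)) :=
  Lgr Lrot59 (Lpr_cf (K19.f182580 IH) (Lpn (LP (LK LD1_c8 LD2_c13 LD3_c54))))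
theorem f182812 : Led Lsl_bt (LP (LK LD1_c5 LD2_c22 LD3_c24)) = (LP (LK LD1_c2 LD2_c38 LD3_c5)) :=
  Lre_b IH (LK LD1_c5 LD2_c22 LD3_c24) (LK LD1_c2 LD2_c38 LD3_c5) Lrfl Lrfl
theorem f182914 : Led Lsl_ct (LP (LK LD1_c5 LD2_c23 LD3_c15)) = (LP (LK LD1_c10 LD2_c37 LD3_c1)) :=
  Lre_c IH (LK LD1_c5 LD2_c23 LD3_c15) (LK LD1_c10 LD2_c37 LD3_c1) Lrfl Lrfl
theorem f356414 : Led Lsl_gf (LP (LK LD1_c11 LD2_c53 LD3_c58)) = (LP (LK LD1_c10 LD2_c37 LD3_c1)) :=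
  Lgr Lrot129 (Lpr_cf (f351518 IH) (Lpe (f187277 IH) (Lpe (f351765 IH) (Lpr_bf (f351851 IH) (Lpr_ct (f187334 IH) (Lpr_gt (f356394 IH) (Lpe (f182818 IH) (Lpr_bt (f182812 IH) (Lpr_gt (K21.f182835 IH) (Lpr_ct (f182914 IH) (Lpn (LP (LK LD1_c10 LD2_c37 LD3_c1)))))))))))))
theorem f330467 : Led Lsl_gt (LP (LK LD1_c5 LD2_c23 LD3_c11)) = (LP (LK LD1_c10 LD2_c36 LD3_c56)) :=
  Lre_g IH (LK LD1_c5 LD2_c23 LD3_c11) (LK LD1_c10 LD2_c36 LD3_c56) Lrfl Lrfl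
theorem f356418 : Led Lsl_cf (LP (LK LD1_c15 LD2_c1 LD3_c16)) = (LP (LK LD1_c10 LD2_c36 LD3_c56)) :=
  Lgr Lrot99 (Lpr_df (K10.f187279 IH) (Lpe (f351524 IH) (Lpr_gf (f356414 IH) (Lpe (f182914 IH) (Lpe (K21.f182835 IH) (Lpe (f213522 IH) (Lpr_gt (K12.f42540 IH) (Lpr_ct (K23.f330469 IH) (Lpr_gt (f330467 IH) (Lpn (LP (LK LD1_c10 LD2_c36 LD3_c56))))))))))))
theorem f356436 : Led Lsl_dt (LP (LK LD1_c10 LD2_c31 LD3_c6)) = (LP (LK LD1_c19 LD2_c3 LD3_c53)) :=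
  Lre_d IH (LK LD1_c10 LD2_c31 LD3_c6) (LK LD1_c19 LD2_c3 LD3_c53) Lrfl Lrfl
theorem f352275 : Led Lsl_ct (LP (LK LD1_c28 LD2_c30 LD3_c1)) = (LP (LK LD1_c19 LD2_c3 LD3_c53)) :=
  Lre_c IH (LK LD1_c28 LD2_c30 LD3_c1) (LK LD1_c19 LD2_c3 LD3_c53) Lrfl Lrfl
theorem f356282 : Led Lsl_bt (LP (LK LD1_c10 LD2_c31 LD3_c10)) = (LP (LK LD1_c10 LD2_c36 LD3_c60)) :=
  Lgr Lrot119 (Lpe (K21.f42313 IH) (Lpr_bf (f356276 IH) (Lpe (K23.f44718 IH) (Lpn (LP (LK LD1_c10 LD2_c36 LD3_c60))))))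
theorem f356286 : Led Lsl_bf (LP (LK LD1_c10 LD2_c42 LD3_c47)) = (LP (LK LD1_c10 LD2_c40 LD3_c13)) :=
  Lgr Lrot93 (Lpr_dt (K21.f42352 IH) (Lpr_bt (f356282 IH) (Lpr_dt (K22.f42548 IH) (Lpn (LP (LK LD1_c10 LD2_c40 LD3_c13))))))
theorem f356290 : Led Lsl_bt (LP (LK LD1_c8 LD2_c54 LD3_c48)) = (LP (LK LD1_c5 LD2_c24 LD3_c48)) :=
  Lgr Lrot119 (Lpr_ef (K21.f42347 IH) (Lpr_bf (f356286 IH) (Lpe (K22.f44676 IH) (Lpn (LP (LK LD1_c5 LD2_c24 LD3_c48))))))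
theorem f356294 : Led Lsl_bf (LP (LK LD1_c6 LD2_c4 LD3_c42)) = (LP (LK LD1_c5 LD2_c21 LD3_c36)) :=
  Lgr Lrot93 (Lpe (K21.f42317 IH) (Lpr_bt (f356290 IH) (Lpr_dt (K22.f44675 IH) (Lpn (LP (LK LD1_c5 LD2_c21 LD3_c36))))))
theorem f345223 : Led Lsl_gt (LP (LK LD1_c15 LD2_c16 LD3_c19)) = (LP (LK LD1_c11 LD2_c57 LD3_c2)) :=
  Lgr Lrot5 (Lpr_ft (K22.f338379 IH) (Lpe (K22.f338390 IH) (Lpr_gf (f345218 IH) (Lpn (LP (LK LD1_c11 LD2_c57 LD3_c2))))))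
theorem f235115 : Led Lsl_bt (LP (LK LD1_c6 LD2_c7 LD3_c1)) = (LP (LK LD1_c11 LD2_c57 LD3_c1)) :=
  Lre_b IH (LK LD1_c6 LD2_c7 LD3_c1) (LK LD1_c11 LD2_c57 LD3_c1) Lrfl Lrfl
theorem f220866 : Led Lsl_et (LP (LK LD1_c8 LD2_c26 LD3_c56)) = (LP (LK LD1_c4 LD2_c14 LD3_c11)) :=
  Lre_e IH (LK LD1_c8 LD2_c26 LD3_c56) (LK LD1_c4 LD2_c14 LD3_c11) Lrfl Lrfl
theorem f352258 : Led Lsl_gt (LP (LK LD1_c11 LD2_c57 LD3_c1)) = (LP (LK LD1_c9 LD2_c33 LD3_c15)) :=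
  Lgr Lrot139 (Lpr_df (f352252 IH) (Lpe (f191108 IH) (Lpe (f191107 IH) (Lpr_dt (K15.f182527 IH) (Lpe (K10.f191098 IH) (Lpe (K9.f47790 IH) (Lpr_et (K14.f54085 IH) (Lpr_gf (K12.f223207 IH) (Lpe (f220866 IH) (Lpe (K23.f223221 IH) (Lpn (LP (LK LD1_c9 LD2_c33 LD3_c15)))))))))))))
theorem f223225 : Led Lsl_ct (LP (LK LD1_c9 LD2_c33 LD3_c15)) = (LP (LK LD1_c17 LD2_c35 LD3_c39)) :=
  Lre_c IH (LK LD1_c9 LD2_c33 LD3_c15) (LK LD1_c17 LD2_c35 LD3_c39) Lrfl Lrfl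
theorem f44670 : Led Lsl_ct (LP (LK LD1_c5 LD2_c21 LD3_c36)) = (LP (LK LD1_c10 LD2_c33 LD3_c32)) :=
  Lre_c IH (LK LD1_c5 LD2_c21 LD3_c36) (LK LD1_c10 LD2_c33 LD3_c32) Lrfl Lrfl
theorem f356298 : Led Lsl_gt (LP (LK LD1_c17 LD2_c35 LD3_c39)) = (LP (LK LD1_c10 LD2_c33 LD3_c32)) :=
  Lgr Lrot149 (Lpe (f223225 IH) (Lpe (f352258 IH) (Lpe (f235115 IH) (Lpr_ct (f168954 IH) (Lpe (f345223 IH) (Lpe (K22.f194508 IH) (Lpe (K21.f194506 IH) (Lpe (K22.f335286 IH) (Lpr_bf (f356294 IH) (Lpr_ct (f44670 IH) (Lpn (LP (LK LD1_c10 LD2_c33 LD3_c32)))))))))))))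
theorem f215441 : Led Lsl_et (LP (LK LD1_c9 LD2_c33 LD3_c14)) = (LP (LK LD1_c17 LD2_c35 LD3_c39)) :=
  Lre_e IH (LK LD1_c9 LD2_c33 LD3_c14) (LK LD1_c17 LD2_c35 LD3_c39) Lrfl Lrfl
theorem f215442 : Led Lsl_et (LP (LK LD1_c5 LD2_c22 LD3_c3)) = (LP (LK LD1_c2 LD2_c37 LD3_c33)) :=
  Lre_e IH (LK LD1_c5 LD2_c22 LD3_c3) (LK LD1_c2 LD2_c37 LD3_c33) Lrfl Lrfl
theorem f343844 : Led Lsl_et (LP (LK LD1_c5 LD2_c23 LD3_c11)) = (LP (LK LD1_c10 LD2_c33 LD3_c32)) :=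
  Lre_e IH (LK LD1_c5 LD2_c23 LD3_c11) (LK LD1_c10 LD2_c33 LD3_c32) Lrfl Lrfl
theorem f356300 : Led Lsl_gf (LP (LK LD1_c10 LD2_c34 LD3_c30)) = (LP (LK LD1_c10 LD2_c36 LD3_c58)) :=
  Lgr Lrot145 (Lpe (K23.f215443 IH) (Lpr_et (f215442 IH) (Lpr_gt (K12.f183071 IH) (Lpr_dt (K14.f46471 IH) (Lpr_gt (K14.f194900 IH) (Lpr_df (K14.f215426 IH) (Lpr_et (f215441 IH) (Lpr_gt (f356298 IH) (Lpe (f343844 IH) (Lpr_dt (f343843 IH) (Lpn (LP (LK LD1_c10 LD2_c36 LD3_c58)))))))))))))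
theorem f356437 : Led Lsl_gf (LP (LK LD1_c28 LD2_c30 LD3_c1)) = (LP (LK LD1_c19 LD2_c9 LD3_c28)) :=
  Lgr Lrot104 (Lpr_ct (f352275 IH) (Lpe (f356436 IH) (Lpe (f352235 IH) (Lpr_gf (f352233 IH) (Lpr_cf (f356418 IH) (Lpe (f330467 IH) (Lpe (K23.f343822 IH) (Lpe (f356300 IH) (Lpr_ct (K22.f216081 IH) (Lpn (LP (LK LD1_c19 LD2_c9 LD3_c28))))))))))))
theorem f336855 : Led Lsl_ft (LP (LK LD1_c19 LD2_c9 LD3_c28)) = (LP (LK LD1_c28 LD2_c35 LD3_c19)) :=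
  Lre_f IH (LK LD1_c19 LD2_c9 LD3_c28) (LK LD1_c28 LD2_c35 LD3_c19) Lrfl Lrfl
theorem f343856 : Led Lsl_af (LP (LK LD1_c28 LD2_c40 LD3_c7)) = (LP (LK LD1_c28 LD2_c35 LD3_c19)) :=
  Lgr Lrot45 (Lpr_ft (K23.f343853 IH) (Lpe (K23.f336843 IH) (Lpr_ft (f336855 IH) (Lpn (LP (LK LD1_c28 LD2_c35 LD3_c19))))))
theorem f356442 : Led Lsl_gt (LP (LK LD1_c28 LD2_c30 LD3_c1)) = (LP (LK LD1_c28 LD2_c40 LD3_c7)) :=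
  Lgr Lrot46 (Lpr_gf (f356437 IH) (Lpr_ft (f336855 IH) (Lpe (f343856 IH) (Lpn (LP (LK LD1_c28 LD2_c40 LD3_c7))))))
theorem f356446 : Led Lsl_ct (LP (LK LD1_c19 LD2_c3 LD3_c53)) = (LP (LK LD1_c28 LD2_c30 LD3_c1)) :=
  Lre_c IH (LK LD1_c19 LD2_c3 LD3_c53) (LK LD1_c28 LD2_c30 LD3_c1) Lrfl Lrfl
theorem f343840 : Led Lsl_ct (LP (LK LD1_c28 LD2_c40 LD3_c7)) = (LP (LK LD1_c19 LD2_c13 LD3_c49)) :=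
  Lre_c IH (LK LD1_c28 LD2_c40 LD3_c7) (LK LD1_c19 LD2_c13 LD3_c49) Lrfl Lrfl
theorem f42288 : Led Lsl_ct (LP (LK LD1_c11 LD2_c53 LD3_c41)) = (LP (LK LD1_c6 LD2_c5 LD3_c7)) :=
  Lre_c IH (LK LD1_c11 LD2_c53 LD3_c41) (LK LD1_c6 LD2_c5 LD3_c7) Lrfl Lrfl
theorem f352167 : Led Lsl_gt (LP (LK LD1_c17 LD2_c35 LD3_c45)) = (LP (LK LD1_c18 LD2_c52 LD3_c39)) :=
  Lgr Lrot146 (Lpr_dt (f352160 IH) (Lpe (f352153 IH) (Lpe (f343675 IH) (Lpr_gt (f345379 IH) (Lpr_ct (f42288 IH) (Lpe (f345352 IH) (Lpe (f199030 IH) (Lpr_gf (f345418 IH) (Lpr_cf (K22.f187689 IH) (Lpn (LP (LK LD1_c18 LD2_c52 LD3_c39))))))))))))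
theorem f352178 : Led Lsl_cf (LP (LK LD1_c17 LD2_c35 LD3_c45)) = (LP (LK LD1_c16 LD2_c38 LD3_c28)) :=
  Lgr Lrot11 (Lpr_ct (f352173 IH) (Lpn (LP (LK LD1_c16 LD2_c38 LD3_c28))))
theorem f356451 : Led Lsl_gf (LP (LK LD1_c19 LD2_c3 LD3_c53)) = (LP (LK LD1_c16 LD2_c38 LD3_c30)) :=
  Lgr Lrot147 (Lpr_ct (f356446 IH) (Lpr_gt (f356442 IH) (Lpr_ct (f343840 IH) (Lpr_df (K23.f343824 IH) (Lpr_cf (K22.f187689 IH) (Lpe (f352167 IH) (Lpr_cf (f352178 IH) (Lpe (f275201 IH) (Lpe (K17.f284299 IH) (Lpn (LP (LK LD1_c16 LD2_c38 LD3_c30))))))))))))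
theorem f284280 : Led Lsl_af (LP (LK LD1_c16 LD2_c38 LD3_c30)) = (LP (LK LD1_c10 LD2_c34 LD3_c10)) :=
  Lgr Lrot0 (Lpr_at (K17.f284278 IH) (Lpn (LP (LK LD1_c10 LD2_c34 LD3_c10))))
theorem f198997 : Led Lsl_ft (LP (LK LD1_c19 LD2_c8 LD3_c43)) = (LP (LK LD1_c10 LD2_c34 LD3_c10)) :=
  Lre_f IH (LK LD1_c19 LD2_c8 LD3_c43) (LK LD1_c10 LD2_c34 LD3_c10) Lrfl Lrfl
theorem f284306 : Led Lsl_af (LP (LK LD1_c19 LD2_c8 LD3_c43)) = (LP (LK LD1_c19 LD2_c13 LD3_c25)) :=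
  Lgr Lrot45 (Lpr_ft (f198997 IH) (Lpe (f284280 IH) (Lpr_ft (K17.f284304 IH) (Lpn (LP (LK LD1_c19 LD2_c13 LD3_c25))))))
theorem f356454 : Led Lsl_gt (LP (LK LD1_c19 LD2_c3 LD3_c53)) = (LP (LK LD1_c19 LD2_c8 LD3_c43)) :=
  Lgr Lrot46 (Lpr_gf (f356451 IH) (Lpr_ft (K17.f284304 IH) (Lpe (f284306 IH) (Lpn (LP (LK LD1_c19 LD2_c8 LD3_c43))))))
theorem f216082 : Led Lsl_dt (LP (LK LD1_c19 LD2_c9 LD3_c28)) = (LP (LK LD1_c28 LD2_c35 LD3_c18)) :=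
  Lre_d IH (LK LD1_c19 LD2_c9 LD3_c28) (LK LD1_c28 LD2_c35 LD3_c18) Lrfl Lrfl
theorem f284268 : Led Lsl_dt (LP (LK LD1_c16 LD2_c38 LD3_c19)) = (LP (LK LD1_c26 LD2_c36 LD3_c23)) :=
  Lre_d IH (LK LD1_c16 LD2_c38 LD3_c19) (LK LD1_c26 LD2_c36 LD3_c23) Lrfl Lrfl
theorem f284270 : Led Lsl_ct (LP (LK LD1_c8 LD2_c53 LD3_c46)) = (LP (LK LD1_c16 LD2_c38 LD3_c19)) :=
  Lre_c IH (LK LD1_c8 LD2_c53 LD3_c46) (LK LD1_c16 LD2_c38 LD3_c19) Lrfl Lrfl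
theorem f231265 : Led Lsl_gt (LP (LK LD1_c16 LD2_c38 LD3_c18)) = (LP (LK LD1_c8 LD2_c53 LD3_c46)) :=
  Lre_g IH (LK LD1_c16 LD2_c38 LD3_c18) (LK LD1_c8 LD2_c53 LD3_c46) Lrfl Lrfl
theorem f284271 : Led Lsl_ct (LP (LK LD1_c26 LD2_c36 LD3_c18)) = (LP (LK LD1_c16 LD2_c38 LD3_c18)) :=
  Lre_c IH (LK LD1_c26 LD2_c36 LD3_c18) (LK LD1_c16 LD2_c38 LD3_c18) Lrfl Lrfl
theorem f356462 : Led Lsl_gt (LP (LK LD1_c28 LD2_c35 LD3_c18)) = (LP (LK LD1_c26 LD2_c36 LD3_c18)) :=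
  Lgr Lrot9 (Lpe (f216082 IH) (Lpe (f356437 IH) (Lpr_ct (f352275 IH) (Lpr_gt (f356454 IH) (Lpe (K17.f284255 IH) (Lpe (f284268 IH) (Lpe (f284270 IH) (Lpe (f231265 IH) (Lpe (f284271 IH) (Lpn (LP (LK LD1_c26 LD2_c36 LD3_c18))))))))))))
theorem f215939 : Led Lsl_dt (LP (LK LD1_c10 LD2_c34 LD3_c30)) = (LP (LK LD1_c5 LD2_c22 LD3_c3)) :=
  Lre_d IH (LK LD1_c10 LD2_c34 LD3_c30) (LK LD1_c5 LD2_c22 LD3_c3) Lrfl Lrfl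
theorem f215940 : Led Lsl_ct (LP (LK LD1_c19 LD2_c9 LD3_c28)) = (LP (LK LD1_c10 LD2_c34 LD3_c30)) :=
  Lre_c IH (LK LD1_c19 LD2_c9 LD3_c28) (LK LD1_c10 LD2_c34 LD3_c30) Lrfl Lrfl
theorem f215941 : Led Lsl_dt (LP (LK LD1_c28 LD2_c35 LD3_c18)) = (LP (LK LD1_c19 LD2_c9 LD3_c28)) :=
  Lre_d IH (LK LD1_c28 LD2_c35 LD3_c18) (LK LD1_c19 LD2_c9 LD3_c28) Lrfl Lrfl
theorem f343889 : Led Lsl_ft (LP (LK LD1_c28 LD2_c35 LD3_c18)) = (LP (LK LD1_c32 LD2_c5 LD3_c25)) :=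
  Lgr Lrot142 (Lpr_dt (f215941 IH) (Lpr_ct (f215940 IH) (Lpr_dt (f215939 IH) (Lpr_ct (K22.f214090 IH) (Lpr_dt (K13.f213923 IH) (Lpr_ct (f213932 IH) (Lpr_dt (K23.f213933 IH) (Lpr_ct (K23.f213934 IH) (Lpr_af (K23.f343868 IH) (Lpn (LP (LK LD1_c32 LD2_c5 LD3_c25))))))))))))
theorem f356465 : Led Lsl_gf (LP (LK LD1_c27 LD2_c35 LD3_c58)) = (LP (LK LD1_c26 LD2_c36 LD3_c18)) :=
  Lgr Lrot76 (Lpr_af (K23.f343868 IH) (Lpe (f343889 IH) (Lpr_gt (f356462 IH) (Lpn (LP (LK LD1_c26 LD2_c36 LD3_c18))))))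
theorem f293411 : Led Lsl_ct (LP (LK LD1_c25 LD2_c1 LD3_c28)) = (LP (LK LD1_c25 LD2_c49 LD3_c37)) :=
  Lgr Lrot59 (Lpr_cf (K21.f293408 IH) (Lpn (LP (LK LD1_c25 LD2_c49 LD3_c37))))
theorem f345727 : Led Lsl_df (LP (LK LD1_c25 LD2_c41 LD3_c49)) = (LP (LK LD1_c16 LD2_c9 LD3_c29)) :=
  Lgr Lrot38 (Lpr_dt (f345598 IH) (Lpn (LP (LK LD1_c16 LD2_c9 LD3_c29))))
theorem f301249 : Led Lsl_bt (LP (LK LD1_c8 LD2_c37 LD3_c32)) = (LP (LK LD1_c16 LD2_c9 LD3_c29)) :=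
  Lre_b IH (LK LD1_c8 LD2_c37 LD3_c32) (LK LD1_c16 LD2_c9 LD3_c29) Lrfl Lrfl
theorem f345736 : Led Lsl_bt (LP (LK LD1_c25 LD2_c41 LD3_c49)) = (LP (LK LD1_c16 LD2_c9 LD3_c31)) :=
  Lgr Lrot95 (Lpr_df (f345727 IH) (Lpe (f301249 IH) (Lpe (K19.f301196 IH) (Lpn (LP (LK LD1_c16 LD2_c9 LD3_c31))))))
theorem f345738 : Led Lsl_bf (LP (LK LD1_c15 LD2_c45 LD3_c5)) = (LP (LK LD1_c9 LD2_c36 LD3_c37)) :=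
  Lgr Lrot96 (Lpr_et (f345597 IH) (Lpr_bt (f345736 IH) (Lpr_et (K19.f301217 IH) (Lpn (LP (LK LD1_c9 LD2_c36 LD3_c37))))))
theorem f345587 : Led Lsl_dt (LP (LK LD1_c15 LD2_c45 LD3_c5)) = (LP (LK LD1_c19 LD2_c23 LD3_c22)) :=
  Lgr Lrot27 (Lpe (f287786 IH) (Lpe (f215541 IH) (Lpe (K19.f215496 IH) (Lpe (K21.f215515 IH) (Lpe (K21.f215471 IH) (Lpe (f345512 IH) (Lpr_ct (f345525 IH) (Lpr_gt (f345561 IH) (Lpr_ct (f307824 IH) (Lpn (LP (LK LD1_c19 LD2_c23 LD3_c22))))))))))))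
theorem f345740 : Led Lsl_bt (LP (LK LD1_c19 LD2_c23 LD3_c22)) = (LP (LK LD1_c15 LD2_c29 LD3_c35)) :=
  Lgr Lrot95 (Lpe (f345587 IH) (Lpr_bf (f345738 IH) (Lpr_df (K19.f301234 IH) (Lpn (LP (LK LD1_c15 LD2_c29 LD3_c35))))))
theorem f307825 : Led Lsl_ct (LP (LK LD1_c19 LD2_c23 LD3_c22)) = (LP (LK LD1_c10 LD2_c42 LD3_c37)) :=
  Lre_c IH (LK LD1_c19 LD2_c23 LD3_c22) (LK LD1_c10 LD2_c42 LD3_c37) Lrfl Lrfl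
theorem f237941 : Led Lsl_ct (LP (LK LD1_c25 LD2_c15 LD3_c35)) = (LP (LK LD1_c15 LD2_c23 LD3_c20)) :=
  Lre_c IH (LK LD1_c25 LD2_c15 LD3_c35) (LK LD1_c15 LD2_c23 LD3_c20) Lrfl Lrfl
theorem f323727 : Led Lsl_cf (LP (LK LD1_c8 LD2_c3 LD3_c7)) = (LP (LK LD1_c8 LD2_c28 LD3_c33)) :=
  Lgr Lrot166 (Lpr_gt (K19.f28108 IH) (Lpe (K19.f27980 IH) (Lpr_gt (K19.f28109 IH) (Lpr_dt (K21.f28110 IH) (Lpr_ct (f28111 IH) (Lpr_df (K22.f323700 IH) (Lpe (K22.f52621 IH) (Lpe (K19.f52885 IH) (Lpe (K22.f52887 IH) (Lpn (LP (LK LD1_c8 LD2_c28 LD3_c33))))))))))))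
theorem f52896 : Led Lsl_et (LP (LK LD1_c15 LD2_c54 LD3_c58)) = (LP (LK LD1_c8 LD2_c28 LD3_c33)) :=
  Lre_e IH (LK LD1_c15 LD2_c54 LD3_c58) (LK LD1_c8 LD2_c28 LD3_c33) Lrfl Lrfl
theorem f323729 : Led Lsl_ct (LP (LK LD1_c15 LD2_c9 LD3_c40)) = (LP (LK LD1_c15 LD2_c54 LD3_c58)) :=
  Lgr Lrot15 (Lpe (K22.f299098 IH) (Lpr_cf (f323727 IH) (Lpe (f52896 IH) (Lpn (LP (LK LD1_c15 LD2_c54 LD3_c58))))))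
theorem f329849 : Led Lsl_gf (LP (LK LD1_c25 LD2_c15 LD3_c35)) = (LP (LK LD1_c15 LD2_c54 LD3_c58)) :=
  Lgr Lrot104 (Lpr_ct (f237941 IH) (Lpe (K19.f199261 IH) (Lpe (K21.f247230 IH) (Lpr_gf (K21.f325946 IH) (Lpe (K18.f238551 IH) (Lpe (K20.f227962 IH) (Lpr_df (K20.f243965 IH) (Lpr_gt (K21.f329847 IH) (Lpr_ct (f323729 IH) (Lpn (LP (LK LD1_c15 LD2_c54 LD3_c58))))))))))))
theorem f310504 : Led Lsl_bt (LP (LK LD1_c15 LD2_c9 LD3_c40)) = (LP (LK LD1_c8 LD2_c34 LD3_c38)) :=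
  Lgr Lrot95 (Lpr_df (K19.f310500 IH) (Lpe (K24.f310502 IH) (Lpe (K22.f310503 IH) (Lpn (LP (LK LD1_c8 LD2_c34 LD3_c38))))))
theorem f345526 : Led Lsl_bt (LP (LK LD1_c10 LD2_c31 LD3_c54)) = (LP (LK LD1_c16 LD2_c4 LD3_c29)) :=
  Lgr Lrot22 (Lpr_ct (f345525 IH) (Lpe (K24.f345516 IH) (Lpr_cf (K24.f345517 IH) (Lpr_gf (K24.f336312 IH) (Lpe (K20.f237946 IH) (Lpr_ct (K19.f199262 IH) (Lpr_gf (f329849 IH) (Lpe (f323729 IH) (Lpr_bt (f310504 IH) (Lpr_gf (K23.f343724 IH) (Lpn (LP (LK LD1_c16 LD2_c4 LD3_c29)))))))))))))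
theorem f307744 : Led Lsl_ct (LP (LK LD1_c16 LD2_c5 LD3_c38)) = (LP (LK LD1_c26 LD2_c2 LD3_c45)) :=
  Lre_c IH (LK LD1_c16 LD2_c5 LD3_c38) (LK LD1_c26 LD2_c2 LD3_c45) Lrfl Lrfl
theorem f167130 : Led Lsl_ct (LP (LK LD1_c15 LD2_c48 LD3_c5)) = (LP (LK LD1_c25 LD2_c44 LD3_c48)) :=
  Lre_c IH (LK LD1_c15 LD2_c48 LD3_c5) (LK LD1_c25 LD2_c44 LD3_c48) Lrfl Lrfl
theorem f345745 : Led Lsl_gf (LP (LK LD1_c26 LD2_c2 LD3_c45)) = (LP (LK LD1_c25 LD2_c44 LD3_c48)) :=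
  Lgr Lrot129 (Lpe (f307744 IH) (Lpr_bt (K23.f307707 IH) (Lpr_gt (K19.f307755 IH) (Lpe (f345526 IH) (Lpr_ct (f345525 IH) (Lpr_gt (f345561 IH) (Lpe (f307825 IH) (Lpr_bt (f345740 IH) (Lpr_gt (f326845 IH) (Lpr_ct (f167130 IH) (Lpn (LP (LK LD1_c25 LD2_c44 LD3_c48)))))))))))))
theorem f307192 : Led Lsl_et (LP (LK LD1_c9 LD2_c36 LD3_c36)) = (LP (LK LD1_c4 LD2_c52 LD3_c25)) :=
  Lgr Lrot87 (Lpr_ef (K21.f307188 IH) (Lpn (LP (LK LD1_c4 LD2_c52 LD3_c25))))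
theorem f307197 : Led Lsl_gf (LP (LK LD1_c17 LD2_c41 LD3_c53)) = (LP (LK LD1_c15 LD2_c48 LD3_c5)) :=
  Lgr Lrot134 (Lpe (K21.f222120 IH) (Lpr_et (f307192 IH) (Lpr_gt (K21.f305955 IH) (Lpe (K21.f270919 IH) (Lpr_dt (K16.f270917 IH) (Lpr_gt (K14.f170291 IH) (Lpr_df (K15.f246737 IH) (Lpr_et (K14.f246739 IH) (Lpr_gt (K16.f167128 IH) (Lpr_dt (f167129 IH) (Lpn (LP (LK LD1_c15 LD2_c48 LD3_c5)))))))))))))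
theorem f305711 : Led Lsl_ct (LP (LK LD1_c5 LD2_c39 LD3_c41)) = (LP (LK LD1_c2 LD2_c45 LD3_c46)) :=
  Lre_c IH (LK LD1_c5 LD2_c39 LD3_c41) (LK LD1_c2 LD2_c45 LD3_c46) Lrfl Lrfl
theorem f305673 : Led Lsl_dt (LP (LK LD1_c11 LD2_c10 LD3_c32)) = (LP (LK LD1_c5 LD2_c39 LD3_c41)) :=
  Lre_d IH (LK LD1_c11 LD2_c10 LD3_c32) (LK LD1_c5 LD2_c39 LD3_c41) Lrfl Lrfl
theorem f305695 : Led Lsl_gt (LP (LK LD1_c20 LD2_c5 LD3_c15)) = (LP (LK LD1_c11 LD2_c10 LD3_c32)) :=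
  Lre_g IH (LK LD1_c20 LD2_c5 LD3_c15) (LK LD1_c11 LD2_c10 LD3_c32) Lrfl Lrfl
theorem f345747 : Led Lsl_dt (LP (LK LD1_c26 LD2_c2 LD3_c45)) = (LP (LK LD1_c20 LD2_c5 LD3_c15)) :=
  Lgr Lrot57 (Lpr_gf (f345745 IH) (Lpe (f167130 IH) (Lpe (f307197 IH) (Lpr_dt (K21.f301233 IH) (Lpr_gt (K21.f305708 IH) (Lpe (K19.f305693 IH) (Lpe (f305711 IH) (Lpe (f305673 IH) (Lpe (f305695 IH) (Lpn (LP (LK LD1_c20 LD2_c5 LD3_c15))))))))))))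
theorem f307736 : Led Lsl_ef (LP (LK LD1_c32 LD2_c3 LD3_c33)) = (LP (LK LD1_c32 LD2_c33 LD3_c37)) :=
  Lgr Lrot88 (Lpr_et (K22.f307729 IH) (Lpn (LP (LK LD1_c32 LD2_c33 LD3_c37))))
theorem f307738 : Led Lsl_bt (LP (LK LD1_c32 LD2_c3 LD3_c33)) = (LP (LK LD1_c26 LD2_c2 LD3_c45)) :=
  Lre_b IH (LK LD1_c32 LD2_c3 LD3_c33) (LK LD1_c26 LD2_c2 LD3_c45) Lrfl Lrfl
theorem f307739 : Led Lsl_bt (LP (LK LD1_c28 LD2_c18 LD3_c45)) = (LP (LK LD1_c32 LD2_c33 LD3_c37)) :=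
  Lre_b IH (LK LD1_c28 LD2_c18 LD3_c45) (LK LD1_c32 LD2_c33 LD3_c37) Lrfl Lrfl
theorem f307740 : Led Lsl_et (LP (LK LD1_c26 LD2_c2 LD3_c45)) = (LP (LK LD1_c28 LD2_c18 LD3_c45)) :=
  Lgr Lrot74 (Lpe (f307738 IH) (Lpr_ef (f307736 IH) (Lpe (f307739 IH) (Lpn (LP (LK LD1_c28 LD2_c18 LD3_c45))))))
theorem f306615 : Led Lsl_dt (LP (LK LD1_c20 LD2_c5 LD3_c9)) = (LP (LK LD1_c11 LD2_c10 LD3_c28)) :=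
  Lre_d IH (LK LD1_c20 LD2_c5 LD3_c9) (LK LD1_c11 LD2_c10 LD3_c28) Lrfl Lrfl
theorem f301201 : Led Lsl_dt (LP (LK LD1_c15 LD2_c2 LD3_c0)) = (LP (LK LD1_c24 LD2_c50 LD3_c29)) :=
  Lre_d IH (LK LD1_c15 LD2_c2 LD3_c0) (LK LD1_c24 LD2_c50 LD3_c29) Lrfl Lrfl
theorem f306633 : Led Lsl_ff (LP (LK LD1_c20 LD2_c5 LD3_c9)) = (LP (LK LD1_c24 LD2_c50 LD3_c29)) :=
  Lgr Lrot19 (Lpr_dt (f306615 IH) (Lpr_ft (K21.f306626 IH) (Lpr_dt (f301201 IH) (Lpn (LP (LK LD1_c24 LD2_c50 LD3_c29))))))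
theorem f306646 : Led Lsl_at (LP (LK LD1_c20 LD2_c5 LD3_c9)) = (LP (LK LD1_c11 LD2_c10 LD3_c32)) :=
  Lre_a IH (LK LD1_c20 LD2_c5 LD3_c9) (LK LD1_c11 LD2_c10 LD3_c32) Lrfl Lrfl
theorem f306649 : Led Lsl_gf (LP (LK LD1_c20 LD2_c5 LD3_c15)) = (LP (LK LD1_c24 LD2_c50 LD3_c29)) :=
  Lgr Lrot47 (Lpr_gt (f305695 IH) (Lpe (f306646 IH) (Lpr_ff (f306633 IH) (Lpn (LP (LK LD1_c24 LD2_c50 LD3_c29))))))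
theorem f296230 : Led Lsl_gt (LP (LK LD1_c29 LD2_c13 LD3_c30)) = (LP (LK LD1_c19 LD2_c58 LD3_c14)) :=
  Lre_g IH (LK LD1_c29 LD2_c13 LD3_c30) (LK LD1_c19 LD2_c58 LD3_c14) Lrfl Lrfl
theorem f340135 : Led Lsl_gt (LP (LK LD1_c19 LD2_c58 LD3_c16)) = (LP (LK LD1_c29 LD2_c13 LD3_c30)) :=
  Lgr Lrot5 (Lpr_ft (f340055 IH) (Lpr_at (f312311 IH) (Lpe (f296230 IH) (Lpn (LP (LK LD1_c29 LD2_c13 LD3_c30))))))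
theorem f253601 : Led Lsl_gt (LP (LK LD1_c19 LD2_c57 LD3_c54)) = (LP (LK LD1_c11 LD2_c5 LD3_c14)) :=
  Lre_g IH (LK LD1_c19 LD2_c57 LD3_c54) (LK LD1_c11 LD2_c5 LD3_c14) Lrfl Lrfl
theorem f283570 : Led Lsl_gf (LP (LK LD1_c29 LD2_c45 LD3_c43)) = (LP (LK LD1_c25 LD2_c21 LD3_c43)) :=
  Lgr Lrot47 (Lpr_gt (K22.f177489 IH) (Lpr_af (K17.f283557 IH) (Lpe (K17.f283556 IH) (Lpn (LP (LK LD1_c25 LD2_c21 LD3_c43))))))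
theorem f338649 : Led Lsl_et (LP (LK LD1_c19 LD2_c59 LD3_c35)) = (LP (LK LD1_c11 LD2_c6 LD3_c6)) :=
  Lre_e IH (LK LD1_c19 LD2_c59 LD3_c35) (LK LD1_c11 LD2_c6 LD3_c6) Lrfl Lrfl
theorem f340137 : Led Lsl_dt (LP (LK LD1_c19 LD2_c59 LD3_c35)) = (LP (LK LD1_c29 LD2_c13 LD3_c30)) :=
  Lgr Lrot56 (Lpr_et (f338649 IH) (Lpe (K23.f338642 IH) (Lpr_ef (K23.f283643 IH) (Lpr_dt (K17.f283519 IH) (Lpe (f283570 IH) (Lpe (K22.f296162 IH) (Lpe (K14.f254092 IH) (Lpr_gt (f253601 IH) (Lpr_dt (f254113 IH) (Lpr_gt (f340135 IH) (Lpn (LP (LK LD1_c29 LD2_c13 LD3_c30)))))))))))))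
theorem f345750 : Led Lsl_gt (LP (LK LD1_c28 LD2_c18 LD3_c45)) = (LP (LK LD1_c19 LD2_c59 LD3_c35)) :=
  Lgr Lrot137 (Lpe (f307740 IH) (Lpr_dt (f345747 IH) (Lpr_gf (f306649 IH) (Lpe (f301201 IH) (Lpr_et (K19.f301268 IH) (Lpr_gf (K17.f291371 IH) (Lpe (K18.f296160 IH) (Lpr_dt (f253598 IH) (Lpe (f296230 IH) (Lpe (f340137 IH) (Lpn (LP (LK LD1_c19 LD2_c59 LD3_c35)))))))))))))
theorem f167872 : Led Lsl_df (LP (LK LD1_c1 LD2_c59 LD3_c57)) = (LP (LK LD1_c1 LD2_c3 LD3_c10)) :=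
  Lgr Lrot38 (Lpr_dt (K24.f167867 IH) (Lpn (LP (LK LD1_c1 LD2_c3 LD3_c10))))
theorem f311547 : Led Lsl_ct (LP (LK LD1_c5 LD2_c1 LD3_c38)) = (LP (LK LD1_c9 LD2_c53 LD3_c39)) :=
  Lre_c IH (LK LD1_c5 LD2_c1 LD3_c38) (LK LD1_c9 LD2_c53 LD3_c39) Lrfl Lrfl
theorem f335743 : Led Lsl_bf (LP (LK LD1_c2 LD2_c29 LD3_c18)) = (LP (LK LD1_c5 LD2_c1 LD3_c38)) :=
  Lgr Lrot34 (Lpr_gf (K19.f248723 IH) (Lpe (K18.f248734 IH) (Lpr_ct (K22.f248737 IH) (Lpe (K22.f248738 IH) (Lpr_cf (K22.f250362 IH) (Lpr_gf (K23.f335739 IH) (Lpr_bf (K20.f190462 IH) (Lpr_ct (K14.f190531 IH) (Lpe (K19.f311574 IH) (Lpe (f311547 IH) (Lpn (LP (LK LD1_c5 LD2_c1 LD3_c38)))))))))))))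
theorem f335750 : Led Lsl_bt (LP (LK LD1_c5 LD2_c3 LD3_c40)) = (LP (LK LD1_c9 LD2_c53 LD3_c40)) :=
  Lgr Lrot95 (Lpe (K19.f248728 IH) (Lpr_bf (f335743 IH) (Lpe (K20.f311545 IH) (Lpn (LP (LK LD1_c9 LD2_c53 LD3_c40))))))
theorem f320531 : Led Lsl_bt (LP (LK LD1_c7 LD2_c59 LD3_c5)) = (LP (LK LD1_c3 LD2_c58 LD3_c49)) :=
  Lre_b IH (LK LD1_c7 LD2_c59 LD3_c5) (LK LD1_c3 LD2_c58 LD3_c49) Lrfl Lrfl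
theorem f335763 : Led Lsl_ef (LP (LK LD1_c5 LD2_c3 LD3_c40)) = (LP (LK LD1_c3 LD2_c58 LD3_c49)) :=
  Lgr Lrot29 (Lpr_bt (f335750 IH) (Lpe (K20.f320555 IH) (Lpr_bt (f320531 IH) (Lpn (LP (LK LD1_c3 LD2_c58 LD3_c49))))))
theorem f177885 : Led Lsl_gt (LP (LK LD1_c2 LD2_c44 LD3_c21)) = (LP (LK LD1_c5 LD2_c36 LD3_c59)) :=
  Lre_g IH (LK LD1_c2 LD2_c44 LD3_c21) (LK LD1_c5 LD2_c36 LD3_c59) Lrfl Lrfl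
theorem f335769 : Led Lsl_df (LP (LK LD1_c5 LD2_c36 LD3_c59)) = (LP (LK LD1_c3 LD2_c58 LD3_c49)) :=
  Lgr Lrot132 (Lpe (f177885 IH) (Lpe (K23.f177884 IH) (Lpe (K23.f177881 IH) (Lpr_ef (K21.f307049 IH) (Lpr_dt (K21.f326912 IH) (Lpe (K23.f326921 IH) (Lpe (K19.f168791 IH) (Lpr_et (K18.f181909 IH) (Lpe (K19.f306989 IH) (Lpr_ef (f335763 IH) (Lpn (LP (LK LD1_c3 LD2_c58 LD3_c49)))))))))))))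
theorem f335777 : Led Lsl_gt (LP (LK LD1_c5 LD2_c36 LD3_c59)) = (LP (LK LD1_c6 LD2_c7 LD3_c9)) :=
  Lgr Lrot139 (Lpr_df (f335769 IH) (Lpe (K20.f41329 IH) (Lpe (K1.f41092 IH) (Lpr_dt (K1.f41076 IH) (Lpr_gf (K9.f167835 IH) (Lpe (K12.f167855 IH) (Lpr_et (K24.f167856 IH) (Lpe (K24.f167878 IH) (Lpe (f167892 IH) (Lpr_dt (f169025 IH) (Lpn (LP (LK LD1_c6 LD2_c7 LD3_c9)))))))))))))
theorem f237822 : Led Lsl_et (LP (LK LD1_c2 LD2_c44 LD3_c22)) = (LP (LK LD1_c5 LD2_c37 LD3_c0)) :=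
  Lre_e IH (LK LD1_c2 LD2_c44 LD3_c22) (LK LD1_c5 LD2_c37 LD3_c0) Lrfl Lrfl
theorem f342450 : Led Lsl_gf (LP (LK LD1_c5 LD2_c3 LD3_c40)) = (LP (LK LD1_c5 LD2_c37 LD3_c0)) :=
  Lgr Lrot141 (Lpr_ef (f335763 IH) (Lpe (f335769 IH) (Lpr_gt (f335777 IH) (Lpe (f169025 IH) (Lpr_et (f167892 IH) (Lpr_gt (K24.f167878 IH) (Lpe (f167872 IH) (Lpr_gt (K23.f167876 IH) (Lpr_df (K23.f342431 IH) (Lpr_et (f237822 IH) (Lpn (LP (LK LD1_c5 LD2_c37 LD3_c0)))))))))))))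
theorem f335761 : Led Lsl_bf (LP (LK LD1_c5 LD2_c3 LD3_c40)) = (LP (LK LD1_c9 LD2_c53 LD3_c40)) :=
  Lgr Lrot24 (Lpr_bt (f335750 IH) (Lpn (LP (LK LD1_c9 LD2_c53 LD3_c40))))
theorem f320566 : Led Lsl_ct (LP (LK LD1_c9 LD2_c53 LD3_c40)) = (LP (LK LD1_c18 LD2_c6 LD3_c21)) :=
  Lre_c IH (LK LD1_c9 LD2_c53 LD3_c40) (LK LD1_c18 LD2_c6 LD3_c21) Lrfl Lrfl
theorem f355976 : Led Lsl_gf (LP (LK LD1_c25 LD2_c49 LD3_c37)) = (LP (LK LD1_c18 LD2_c6 LD3_c21)) :=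
  Lgr Lrot126 (Lpe (f293411 IH) (Lpr_bt (f355970 IH) (Lpe (K22.f335818 IH) (Lpr_ct (K22.f250377 IH) (Lpr_gt (f345750 IH) (Lpe (K23.f340139 IH) (Lpr_bt (K23.f237819 IH) (Lpe (f342450 IH) (Lpr_bf (f335761 IH) (Lpr_ct (f320566 IH) (Lpn (LP (LK LD1_c18 LD2_c6 LD3_c21)))))))))))))
theorem f244171 : Led Lsl_ct (LP (LK LD1_c2 LD2_c58 LD3_c38)) = (LP (LK LD1_c6 LD2_c4 LD3_c52)) :=
  Lre_c IH (LK LD1_c2 LD2_c58 LD3_c38) (LK LD1_c6 LD2_c4 LD3_c52) Lrfl Lrfl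
theorem f266754 : Led Lsl_dt (LP (LK LD1_c11 LD2_c53 LD3_c7)) = (LP (LK LD1_c6 LD2_c4 LD3_c52)) :=
  Lre_d IH (LK LD1_c11 LD2_c53 LD3_c7) (LK LD1_c6 LD2_c4 LD3_c52) Lrfl Lrfl
theorem f266743 : Led Lsl_gt (LP (LK LD1_c20 LD2_c56 LD3_c34)) = (LP (LK LD1_c11 LD2_c53 LD3_c7)) :=
  Lre_g IH (LK LD1_c20 LD2_c56 LD3_c34) (LK LD1_c11 LD2_c53 LD3_c7) Lrfl Lrfl
theorem f182895 : Led Lsl_gt (LP (LK LD1_c5 LD2_c23 LD3_c17)) = (LP (LK LD1_c10 LD2_c37 LD3_c4)) :=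
  Lre_g IH (LK LD1_c5 LD2_c23 LD3_c17) (LK LD1_c10 LD2_c37 LD3_c4) Lrfl Lrfl
theorem f266742 : Led Lsl_et (LP (LK LD1_c19 LD2_c13 LD3_c61)) = (LP (LK LD1_c10 LD2_c37 LD3_c4)) :=
  Lre_e IH (LK LD1_c19 LD2_c13 LD3_c61) (LK LD1_c10 LD2_c37 LD3_c4) Lrfl Lrfl
theorem f266744 : Led Lsl_dt (LP (LK LD1_c19 LD2_c13 LD3_c61)) = (LP (LK LD1_c20 LD2_c56 LD3_c34)) :=
  Lgr Lrot136 (Lpr_et (f266742 IH) (Lpe (f182895 IH) (Lpe (K17.f256896 IH) (Lpr_dt (K15.f42529 IH) (Lpe (K15.f182161 IH) (Lpr_df (K15.f266728 IH) (Lpe (K15.f266740 IH) (Lpe (K22.f256868 IH) (Lpr_dt (K22.f256869 IH) (Lpe (f266743 IH) (Lpn (LP (LK LD1_c20 LD2_c56 LD3_c34)))))))))))))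
theorem f307725 : Led Lsl_ct (LP (LK LD1_c18 LD2_c49 LD3_c24)) = (LP (LK LD1_c10 LD2_c22 LD3_c17)) :=
  Lre_c IH (LK LD1_c18 LD2_c49 LD3_c24) (LK LD1_c10 LD2_c22 LD3_c17) Lrfl Lrfl
theorem f329733 : Led Lsl_gf (LP (LK LD1_c19 LD2_c13 LD3_c61)) = (LP (LK LD1_c18 LD2_c49 LD3_c24)) :=
  Lgr Lrot144 (Lpr_dt (f266744 IH) (Lpr_gt (f266743 IH) (Lpr_dt (f266754 IH) (Lpe (f244171 IH) (Lpr_df (K21.f320939 IH) (Lpe (K21.f251498 IH) (Lpr_df (K21.f329731 IH) (Lpe (K21.f329679 IH) (Lpe (f307725 IH) (Lpn (LP (LK LD1_c18 LD2_c49 LD3_c24))))))))))))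
theorem f347095 : Led Lsl_gf (LP (LK LD1_c9 LD2_c53 LD3_c40)) = (LP (LK LD1_c15 LD2_c53 LD3_c26)) :=
  Lgr Lrot141 (Lpe (K23.f320560 IH) (Lpe (K23.f332917 IH) (Lpr_gt (K23.f347086 IH) (Lpe (K23.f347058 IH) (Lpr_et (K23.f320554 IH) (Lpr_gt (K23.f320553 IH) (Lpe (K23.f315579 IH) (Lpr_gt (K23.f231569 IH) (Lpe (f346531 IH) (Lpr_et (K23.f346533 IH) (Lpn (LP (LK LD1_c15 LD2_c53 LD3_c26)))))))))))))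
theorem f346545 : Led Lsl_bt (LP (LK LD1_c25 LD2_c49 LD3_c29)) = (LP (LK LD1_c15 LD2_c53 LD3_c26)) :=
  Lre_b IH (LK LD1_c25 LD2_c49 LD3_c29) (LK LD1_c15 LD2_c53 LD3_c26) Lrfl Lrfl
theorem f355980 : Led Lsl_cf (LP (LK LD1_c19 LD2_c13 LD3_c61)) = (LP (LK LD1_c25 LD2_c49 LD3_c29)) :=
  Lgr Lrot58 (Lpr_gf (f329733 IH) (Lpe (K22.f170019 IH) (Lpr_bt (K23.f307708 IH) (Lpr_gf (K22.f335818 IH) (Lpe (f355970 IH) (Lpr_ct (f293411 IH) (Lpr_gf (f355976 IH) (Lpe (f320566 IH) (Lpr_gf (f347095 IH) (Lpe (f346545 IH) (Lpn (LP (LK LD1_c25 LD2_c49 LD3_c29)))))))))))))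
theorem f343050 : Led Lsl_bt (LP (LK LD1_c10 LD2_c8 LD3_c33)) = (LP (LK LD1_c9 LD2_c53 LD3_c38)) :=
  Lgr Lrot95 (Lpe (K22.f296844 IH) (Lpr_bf (K23.f343043 IH) (Lpe (K23.f320587 IH) (Lpn (LP (LK LD1_c9 LD2_c53 LD3_c38))))))
theorem f278575 : Led Lsl_ct (LP (LK LD1_c10 LD2_c22 LD3_c19)) = (LP (LK LD1_c18 LD2_c49 LD3_c28)) :=
  Lre_c IH (LK LD1_c10 LD2_c22 LD3_c19) (LK LD1_c18 LD2_c49 LD3_c28) Lrfl Lrfl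
theorem f355988 : Led Lsl_gt (LP (LK LD1_c19 LD2_c13 LD3_c61)) = (LP (LK LD1_c18 LD2_c49 LD3_c28)) :=
  Lgr Lrot65 (Lpr_cf (f355980 IH) (Lpr_bt (f346545 IH) (Lpr_gf (K23.f346557 IH) (Lpe (f343050 IH) (Lpr_ct (K21.f296845 IH) (Lpe (K21.f327409 IH) (Lpe (K21.f314292 IH) (Lpr_gf (K21.f327365 IH) (Lpr_bf (K24.f310404 IH) (Lpr_ct (f278575 IH) (Lpn (LP (LK LD1_c18 LD2_c49 LD3_c28)))))))))))))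
theorem f266752 : Led Lsl_et (LP (LK LD1_c10 LD2_c37 LD3_c4)) = (LP (LK LD1_c19 LD2_c13 LD3_c61)) :=
  Lre_e IH (LK LD1_c10 LD2_c37 LD3_c4) (LK LD1_c19 LD2_c13 LD3_c61) Lrfl Lrfl
theorem f321453 : Led Lsl_at (LP (LK LD1_c16 LD2_c38 LD3_c20)) = (LP (LK LD1_c25 LD2_c8 LD3_c19)) :=
  Lgr Lrot51 (Lpe (K17.f284318 IH) (Lpr_af (K22.f321443 IH) (Lpe (f198980 IH) (Lpn (LP (LK LD1_c25 LD2_c8 LD3_c19))))))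
theorem f321461 : Led Lsl_ft (LP (LK LD1_c8 LD2_c53 LD3_c46)) = (LP (LK LD1_c16 LD2_c38 LD3_c20)) :=
  Lre_f IH (LK LD1_c8 LD2_c53 LD3_c46) (LK LD1_c16 LD2_c38 LD3_c20) Lrfl Lrfl
theorem f321462 : Led Lsl_gt (LP (LK LD1_c8 LD2_c53 LD3_c46)) = (LP (LK LD1_c16 LD2_c38 LD3_c17)) :=
  Lre_g IH (LK LD1_c8 LD2_c53 LD3_c46) (LK LD1_c16 LD2_c38 LD3_c17) Lrfl Lrfl
theorem f321463 : Led Lsl_gt (LP (LK LD1_c16 LD2_c38 LD3_c17)) = (LP (LK LD1_c25 LD2_c8 LD3_c19)) :=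
  Lgr Lrot46 (Lpe (f321462 IH) (Lpr_ft (f321461 IH) (Lpr_at (f321453 IH) (Lpn (LP (LK LD1_c25 LD2_c8 LD3_c19))))))
theorem f182876 : Led Lsl_ct (LP (LK LD1_c5 LD2_c23 LD3_c17)) = (LP (LK LD1_c2 LD2_c38 LD3_c5)) :=
  Lre_c IH (LK LD1_c5 LD2_c23 LD3_c17) (LK LD1_c2 LD2_c38 LD3_c5) Lrfl Lrfl
theorem f329675 : Led Lsl_df (LP (LK LD1_c16 LD2_c38 LD3_c17)) = (LP (LK LD1_c10 LD2_c37 LD3_c4)) :=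
  Lgr Lrot153 (Lpr_gt (f321463 IH) (Lpr_dt (f198980 IH) (Lpe (K17.f198992 IH) (Lpr_df (K12.f198983 IH) (Lpe (K21.f305401 IH) (Lpr_df (K21.f329664 IH) (Lpe (K21.f182835 IH) (Lpe (f182876 IH) (Lpr_gt (f182895 IH) (Lpn (LP (LK LD1_c10 LD2_c37 LD3_c4))))))))))))
theorem f284315 : Led Lsl_dt (LP (LK LD1_c4 LD2_c27 LD3_c54)) = (LP (LK LD1_c8 LD2_c53 LD3_c46)) :=
  Lre_d IH (LK LD1_c4 LD2_c27 LD3_c54) (LK LD1_c8 LD2_c53 LD3_c46) Lrfl Lrfl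
theorem f329695 : Led Lsl_gt (LP (LK LD1_c8 LD2_c53 LD3_c45)) = (LP (LK LD1_c4 LD2_c27 LD3_c54)) :=
  Lre_g IH (LK LD1_c8 LD2_c53 LD3_c45) (LK LD1_c4 LD2_c27 LD3_c54) Lrfl Lrfl
theorem f329696 : Led Lsl_et (LP (LK LD1_c16 LD2_c38 LD3_c16)) = (LP (LK LD1_c8 LD2_c53 LD3_c45)) :=
  Lre_e IH (LK LD1_c16 LD2_c38 LD3_c16) (LK LD1_c8 LD2_c53 LD3_c45) Lrfl Lrfl
theorem f329697 : Led Lsl_dt (LP (LK LD1_c16 LD2_c38 LD3_c16)) = (LP (LK LD1_c26 LD2_c36 LD3_c13)) :=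
  Lre_d IH (LK LD1_c16 LD2_c38 LD3_c16) (LK LD1_c26 LD2_c36 LD3_c13) Lrfl Lrfl
theorem f41718 : Led Lsl_ct (LP (LK LD1_c6 LD2_c5 LD3_c27)) = (LP (LK LD1_c11 LD2_c54 LD3_c29)) :=
  Lre_c IH (LK LD1_c6 LD2_c5 LD3_c27) (LK LD1_c11 LD2_c54 LD3_c29) Lrfl Lrfl
theorem f278580 : Led Lsl_ct (LP (LK LD1_c18 LD2_c49 LD3_c28)) = (LP (LK LD1_c10 LD2_c22 LD3_c19)) :=
  Lre_c IH (LK LD1_c18 LD2_c49 LD3_c28) (LK LD1_c10 LD2_c22 LD3_c19) Lrfl Lrfl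
theorem f278581 : Led Lsl_et (LP (LK LD1_c11 LD2_c54 LD3_c29)) = (LP (LK LD1_c18 LD2_c49 LD3_c28)) :=
  Lgr Lrot158 (Lpe (f41718 IH) (Lpr_ef (K20.f278578 IH) (Lpe (f278580 IH) (Lpn (LP (LK LD1_c18 LD2_c49 LD3_c28))))))
theorem f41721 : Led Lsl_dt (LP (LK LD1_c11 LD2_c54 LD3_c29)) = (LP (LK LD1_c20 LD2_c58 LD3_c59)) :=
  Lre_d IH (LK LD1_c11 LD2_c54 LD3_c29) (LK LD1_c20 LD2_c58 LD3_c59) Lrfl Lrfl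
theorem f355990 : Led Lsl_gf (LP (LK LD1_c26 LD2_c36 LD3_c13)) = (LP (LK LD1_c20 LD2_c58 LD3_c59)) :=
  Lgr Lrot145 (Lpe (f329697 IH) (Lpr_et (f329696 IH) (Lpr_gt (f329695 IH) (Lpr_dt (f284315 IH) (Lpr_gt (f321462 IH) (Lpr_df (f329675 IH) (Lpr_et (f266752 IH) (Lpr_gt (f355988 IH) (Lpe (f278581 IH) (Lpr_dt (f41721 IH) (Lpn (LP (LK LD1_c20 LD2_c58 LD3_c59)))))))))))))
theorem f42416 : Led Lsl_et (LP (LK LD1_c2 LD2_c11 LD3_c5)) = (LP (LK LD1_c4 LD2_c27 LD3_c54)) :=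
  Lre_e IH (LK LD1_c2 LD2_c11 LD3_c5) (LK LD1_c4 LD2_c27 LD3_c54) Lrfl Lrfl
theorem f292554 : Led Lsl_et (LP (LK LD1_c4 LD2_c28 LD3_c6)) = (LP (LK LD1_c8 LD2_c54 LD3_c15)) :=
  Lre_e IH (LK LD1_c4 LD2_c28 LD3_c6) (LK LD1_c8 LD2_c54 LD3_c15) Lrfl Lrfl
theorem f355993 : Led Lsl_gt (LP (LK LD1_c8 LD2_c54 LD3_c15)) = (LP (LK LD1_c11 LD2_c54 LD3_c29)) :=
  Lgr Lrot137 (Lpe (f292554 IH) (Lpe (K20.f292776 IH) (Lpe (K17.f267110 IH) (Lpe (K16.f42417 IH) (Lpr_et (f42416 IH) (Lpe (f329695 IH) (Lpe (f329696 IH) (Lpr_dt (f329697 IH) (Lpr_gf (f355990 IH) (Lpe (f41721 IH) (Lpn (LP (LK LD1_c11 LD2_c54 LD3_c29)))))))))))))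
theorem f355992 : Led Lsl_dt (LP (LK LD1_c26 LD2_c36 LD3_c13)) = (LP (LK LD1_c16 LD2_c38 LD3_c16)) :=
  Lre_d IH (LK LD1_c26 LD2_c36 LD3_c13) (LK LD1_c16 LD2_c38 LD3_c16) Lrfl Lrfl
theorem f355997 : Led Lsl_cf (LP (LK LD1_c17 LD2_c48 LD3_c53)) = (LP (LK LD1_c16 LD2_c38 LD3_c16)) :=
  Lgr Lrot14 (Lpr_df (K24.f223938 IH) (Lpr_gf (K24.f350689 IH) (Lpe (K24.f350669 IH) (Lpe (K20.f292497 IH) (Lpr_ct (K20.f292573 IH) (Lpr_gt (f355993 IH) (Lpr_dt (f41721 IH) (Lpe (f355990 IH) (Lpr_dt (f355992 IH) (Lpn (LP (LK LD1_c16 LD2_c38 LD3_c16))))))))))))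
theorem f356004 : Led Lsl_et (LP (LK LD1_c8 LD2_c53 LD3_c45)) = (LP (LK LD1_c16 LD2_c38 LD3_c16)) :=
  Lre_e IH (LK LD1_c8 LD2_c53 LD3_c45) (LK LD1_c16 LD2_c38 LD3_c16) Lrfl Lrfl
theorem f356005 : Led Lsl_ct (LP (LK LD1_c9 LD2_c41 LD3_c4)) = (LP (LK LD1_c8 LD2_c53 LD3_c45)) :=
  Lgr Lrot15 (Lpe (K24.f213982 IH) (Lpr_cf (f355997 IH) (Lpe (f356004 IH) (Lpn (LP (LK LD1_c8 LD2_c53 LD3_c45))))))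
theorem f356011 : Led Lsl_cf (LP (LK LD1_c9 LD2_c41 LD3_c4)) = (LP (LK LD1_c8 LD2_c53 LD3_c45)) :=
  Lgr Lrot11 (Lpr_ct (f356005 IH) (Lpn (LP (LK LD1_c8 LD2_c53 LD3_c45))))
theorem f352538 : Led Lsl_ct (LP (LK LD1_c10 LD2_c31 LD3_c5)) = (LP (LK LD1_c9 LD2_c41 LD3_c10)) :=
  Lgr Lrot8 (Lpe (f310977 IH) (Lpr_dt (K19.f310947 IH) (Lpr_gt (f311059 IH) (Lpe (f352382 IH) (Lpr_cf (f352395 IH) (Lpr_df (f315623 IH) (Lpr_gf (f352534 IH) (Lpe (K10.f187268 IH) (Lpr_gf (f339468 IH) (Lpn (LP (LK LD1_c9 LD2_c41 LD3_c10))))))))))))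
theorem f356043 : Led Lsl_gt (LP (LK LD1_c15 LD2_c17 LD3_c44)) = (LP (LK LD1_c8 LD2_c53 LD3_c45)) :=
  Lgr Lrot150 (Lpe (K17.f198992 IH) (Lpe (K22.f322513 IH) (Lpr_df (K22.f42354 IH) (Lpr_gt (K21.f42296 IH) (Lpr_ct (f42270 IH) (Lpr_gt (f42372 IH) (Lpr_ct (f352538 IH) (Lpe (K24.f216315 IH) (Lpr_cf (f356011 IH) (Lpn (LP (LK LD1_c8 LD2_c53 LD3_c45))))))))))))
theorem f356467 : Led Lsl_ct (LP (LK LD1_c16 LD2_c38 LD3_c18)) = (LP (LK LD1_c26 LD2_c36 LD3_c18)) :=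
  Lre_c IH (LK LD1_c16 LD2_c38 LD3_c18) (LK LD1_c26 LD2_c36 LD3_c18) Lrfl Lrfl
theorem f356471 : Led Lsl_gt (LP (LK LD1_c25 LD2_c8 LD3_c19)) = (LP (LK LD1_c16 LD2_c38 LD3_c18)) :=
  Lgr Lrot9 (Lpe (K17.f198993 IH) (Lpr_gt (f356043 IH) (Lpe (f356011 IH) (Lpr_gt (K24.f213946 IH) (Lpr_ct (f213932 IH) (Lpe (K23.f213943 IH) (Lpe (K23.f213981 IH) (Lpr_gf (f356465 IH) (Lpe (f356467 IH) (Lpn (LP (LK LD1_c16 LD2_c38 LD3_c18))))))))))))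
theorem f284331 : Led Lsl_df (LP (LK LD1_c26 LD2_c36 LD3_c24)) = (LP (LK LD1_c19 LD2_c8 LD3_c42)) :=
  Lgr Lrot38 (Lpr_dt (K17.f284322 IH) (Lpn (LP (LK LD1_c19 LD2_c8 LD3_c42))))
theorem f284407 : Led Lsl_af (LP (LK LD1_c31 LD2_c47 LD3_c5)) = (LP (LK LD1_c26 LD2_c36 LD3_c24)) :=
  Lgr Lrot117 (Lpe (K17.f284402 IH) (Lpr_at (f284404 IH) (Lpe (f284331 IH) (Lpn (LP (LK LD1_c26 LD2_c36 LD3_c24))))))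
theorem f284335 : Led Lsl_ft (LP (LK LD1_c16 LD2_c38 LD3_c19)) = (LP (LK LD1_c26 LD2_c36 LD3_c24)) :=
  Lre_f IH (LK LD1_c16 LD2_c38 LD3_c19) (LK LD1_c26 LD2_c36 LD3_c24) Lrfl Lrfl
theorem f284435 : Led Lsl_gt (LP (LK LD1_c16 LD2_c38 LD3_c19)) = (LP (LK LD1_c26 LD2_c36 LD3_c20)) :=
  Lre_g IH (LK LD1_c16 LD2_c38 LD3_c19) (LK LD1_c26 LD2_c36 LD3_c20) Lrfl Lrfl
theorem f284436 : Led Lsl_gf (LP (LK LD1_c31 LD2_c47 LD3_c5)) = (LP (LK LD1_c26 LD2_c36 LD3_c20)) :=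
  Lgr Lrot76 (Lpr_af (f284407 IH) (Lpe (f284335 IH) (Lpr_gt (f284435 IH) (Lpn (LP (LK LD1_c26 LD2_c36 LD3_c20))))))
theorem f329690 : Led Lsl_dt (LP (LK LD1_c16 LD2_c38 LD3_c17)) = (LP (LK LD1_c10 LD2_c37 LD3_c4)) :=
  Lgr Lrot42 (Lpr_df (f329675 IH) (Lpn (LP (LK LD1_c10 LD2_c37 LD3_c4))))
theorem f356041 : Led Lsl_ct (LP (LK LD1_c15 LD2_c53 LD3_c25)) = (LP (LK LD1_c10 LD2_c37 LD3_c4)) :=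
  Lgr Lrot7 (Lpe (f352160 IH) (Lpe (f213944 IH) (Lpr_df (K23.f213935 IH) (Lpe (K24.f213946 IH) (Lpr_cf (f356011 IH) (Lpr_gt (f329695 IH) (Lpr_dt (f284315 IH) (Lpr_gt (f321462 IH) (Lpr_dt (f329690 IH) (Lpn (LP (LK LD1_c10 LD2_c37 LD3_c4))))))))))))
theorem f339464 : Led Lsl_at (LP (LK LD1_c16 LD2_c11 LD3_c8)) = (LP (LK LD1_c17 LD2_c49 LD3_c0)) :=
  Lgr Lrot51 (Lpe (K10.f187268 IH) (Lpr_af (K22.f339460 IH) (Lpe (K12.f214039 IH) (Lpn (LP (LK LD1_c17 LD2_c49 LD3_c0))))))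
theorem f187270 : Led Lsl_ft (LP (LK LD1_c8 LD2_c38 LD3_c32)) = (LP (LK LD1_c16 LD2_c11 LD3_c8)) :=
  Lre_f IH (LK LD1_c8 LD2_c38 LD3_c32) (LK LD1_c16 LD2_c11 LD3_c8) Lrfl Lrfl
theorem f352155 : Led Lsl_gt (LP (LK LD1_c8 LD2_c38 LD3_c32)) = (LP (LK LD1_c15 LD2_c53 LD3_c25)) :=
  Lgr Lrot5 (Lpr_ft (f187270 IH) (Lpr_at (f339464 IH) (Lpr_gf (f352153 IH) (Lpn (LP (LK LD1_c15 LD2_c53 LD3_c25))))))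
theorem f187292 : Led Lsl_bt (LP (LK LD1_c3 LD2_c58 LD3_c18)) = (LP (LK LD1_c7 LD2_c57 LD3_c50)) :=
  Lre_b IH (LK LD1_c3 LD2_c58 LD3_c18) (LK LD1_c7 LD2_c57 LD3_c50) Lrfl Lrfl
theorem f223158 : Led Lsl_ct (LP (LK LD1_c3 LD2_c58 LD3_c18)) = (LP (LK LD1_c7 LD2_c57 LD3_c60)) :=
  Lre_c IH (LK LD1_c3 LD2_c58 LD3_c18) (LK LD1_c7 LD2_c57 LD3_c60) Lrfl Lrfl
theorem f351475 : Led Lsl_ct (LP (LK LD1_c8 LD2_c53 LD3_c19)) = (LP (LK LD1_c15 LD2_c1 LD3_c41)) :=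
  Lgr Lrot91 (Lpr_gf (K24.f284564 IH) (Lpr_bf (K10.f170723 IH) (Lpr_ct (K23.f170740 IH) (Lpr_gf (f256656 IH) (Lpr_cf (f351469 IH) (Lpr_bt (K24.f189197 IH) (Lpe (K24.f350659 IH) (Lpe (f187292 IH) (Lpr_ct (f223158 IH) (Lpe (f323943 IH) (Lpn (LP (LK LD1_c15 LD2_c1 LD3_c41)))))))))))))
theorem f350620 : Led Lsl_bf (LP (LK LD1_c8 LD2_c7 LD3_c37)) = (LP (LK LD1_c8 LD2_c53 LD3_c19)) :=
  Lgr Lrot93 (Lpr_dt (K21.f31196 IH) (Lpr_bt (K24.f350614 IH) (Lpr_dt (K24.f231325 IH) (Lpn (LP (LK LD1_c8 LD2_c53 LD3_c19))))))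
theorem f352494 : Led Lsl_gf (LP (LK LD1_c10 LD2_c31 LD3_c8)) = (LP (LK LD1_c5 LD2_c23 LD3_c7)) :=
  Lgr Lrot129 (Lpe (K18.f42439 IH) (Lpr_bt (K15.f42435 IH) (Lpe (K23.f346991 IH) (Lpr_bf (f350620 IH) (Lpr_ct (f351475 IH) (Lpr_gt (f323943 IH) (Lpe (f223158 IH) (Lpr_bt (f187292 IH) (Lpr_gt (K24.f350659 IH) (Lpr_ct (f352465 IH) (Lpn (LP (LK LD1_c5 LD2_c23 LD3_c7)))))))))))))
theorem f42432 : Led Lsl_ct (LP (LK LD1_c11 LD2_c53 LD3_c38)) = (LP (LK LD1_c6 LD2_c5 LD3_c8)) :=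
  Lre_c IH (LK LD1_c11 LD2_c53 LD3_c38) (LK LD1_c6 LD2_c5 LD3_c8) Lrfl Lrfl
theorem f356190 : Led Lsl_gf (LP (LK LD1_c11 LD2_c53 LD3_c38)) = (LP (LK LD1_c10 LD2_c37 LD3_c4)) :=
  Lgr Lrot104 (Lpr_ct (f42432 IH) (Lpe (K15.f42281 IH) (Lpe (K21.f42423 IH) (Lpr_gf (f352494 IH) (Lpe (f352465 IH) (Lpe (K24.f350659 IH) (Lpr_df (K10.f187256 IH) (Lpr_gt (f352155 IH) (Lpr_ct (f356041 IH) (Lpn (LP (LK LD1_c10 LD2_c37 LD3_c4))))))))))))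
theorem f42427 : Led Lsl_dt (LP (LK LD1_c11 LD2_c53 LD3_c38)) = (LP (LK LD1_c20 LD2_c57 LD3_c20)) :=
  Lre_d IH (LK LD1_c11 LD2_c53 LD3_c38) (LK LD1_c20 LD2_c57 LD3_c20) Lrfl Lrfl
theorem f311145 : Led Lsl_ct (LP (LK LD1_c19 LD2_c14 LD3_c8)) = (LP (LK LD1_c10 LD2_c37 LD3_c7)) :=
  Lre_c IH (LK LD1_c19 LD2_c14 LD3_c8) (LK LD1_c10 LD2_c37 LD3_c7) Lrfl Lrfl
theorem f311146 : Led Lsl_af (LP (LK LD1_c19 LD2_c14 LD3_c8)) = (LP (LK LD1_c20 LD2_c57 LD3_c19)) :=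
  Lgr Lrot68 (Lpr_ct (f311145 IH) (Lpr_at (f311138 IH) (Lpr_ct (K19.f42400 IH) (Lpn (LP (LK LD1_c20 LD2_c57 LD3_c19))))))
theorem f311156 : Led Lsl_dt (LP (LK LD1_c19 LD2_c14 LD3_c8)) = (LP (LK LD1_c28 LD2_c30 LD3_c11)) :=
  Lgr Lrot44 (Lpr_af (f311146 IH) (Lpe (f310985 IH) (Lpr_af (K19.f310993 IH) (Lpn (LP (LK LD1_c28 LD2_c30 LD3_c11))))))
theorem f213523 : Led Lsl_ct (LP (LK LD1_c10 LD2_c37 LD3_c7)) = (LP (LK LD1_c19 LD2_c14 LD3_c8)) :=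
  Lre_c IH (LK LD1_c10 LD2_c37 LD3_c7) (LK LD1_c19 LD2_c14 LD3_c8) Lrfl Lrfl
theorem f190215 : Led Lsl_dt (LP (LK LD1_c5 LD2_c23 LD3_c17)) = (LP (LK LD1_c10 LD2_c37 LD3_c7)) :=
  Lre_d IH (LK LD1_c5 LD2_c23 LD3_c17) (LK LD1_c10 LD2_c37 LD3_c7) Lrfl Lrfl
theorem f311161 : Led Lsl_dt (LP (LK LD1_c5 LD2_c23 LD3_c9)) = (LP (LK LD1_c2 LD2_c38 LD3_c2)) :=
  Lre_d IH (LK LD1_c5 LD2_c23 LD3_c9) (LK LD1_c2 LD2_c38 LD3_c2) Lrfl Lrfl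
theorem f311053 : Led Lsl_ct (LP (LK LD1_c10 LD2_c36 LD3_c54)) = (LP (LK LD1_c5 LD2_c23 LD3_c9)) :=
  Lre_c IH (LK LD1_c10 LD2_c36 LD3_c54) (LK LD1_c5 LD2_c23 LD3_c9) Lrfl Lrfl
theorem f311022 : Led Lsl_dt (LP (LK LD1_c19 LD2_c13 LD3_c42)) = (LP (LK LD1_c10 LD2_c36 LD3_c54)) :=
  Lre_d IH (LK LD1_c19 LD2_c13 LD3_c42) (LK LD1_c10 LD2_c36 LD3_c54) Lrfl Lrfl
theorem f42425 : Led Lsl_ct (LP (LK LD1_c28 LD2_c30 LD3_c11)) = (LP (LK LD1_c19 LD2_c3 LD3_c57)) :=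
  Lre_c IH (LK LD1_c28 LD2_c30 LD3_c11) (LK LD1_c19 LD2_c3 LD3_c57) Lrfl Lrfl
theorem f42424 : Led Lsl_dt (LP (LK LD1_c19 LD2_c3 LD3_c57)) = (LP (LK LD1_c10 LD2_c31 LD3_c8)) :=
  Lre_d IH (LK LD1_c19 LD2_c3 LD3_c57) (LK LD1_c10 LD2_c31 LD3_c8) Lrfl Lrfl
theorem f42426 : Led Lsl_ct (LP (LK LD1_c6 LD2_c5 LD3_c8)) = (LP (LK LD1_c11 LD2_c53 LD3_c38)) :=
  Lre_c IH (LK LD1_c6 LD2_c5 LD3_c8) (LK LD1_c11 LD2_c53 LD3_c38) Lrfl Lrfl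
theorem f311182 : Led Lsl_cf (LP (LK LD1_c19 LD2_c13 LD3_c42)) = (LP (LK LD1_c20 LD2_c57 LD3_c20)) :=
  Lgr Lrot55 (Lpr_dt (f311022 IH) (Lpr_ct (f311053 IH) (Lpr_dt (f311161 IH) (Lpr_ct (K12.f199042 IH) (Lpr_dt (f213522 IH) (Lpr_ct (K19.f182813 IH) (Lpr_dt (f190215 IH) (Lpr_ct (f213523 IH) (Lpr_dt (f311156 IH) (Lpr_ct (f42425 IH) (Lpr_dt (f42424 IH) (Lpr_ct (K21.f42423 IH) (Lpr_dt (K15.f42281 IH) (Lpr_ct (f42426 IH) (Lpr_dt (f42427 IH) (Lpn (LP (LK LD1_c20 LD2_c57 LD3_c20))))))))))))))))))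
theorem f311077 : Led Lsl_dt (LP (LK LD1_c10 LD2_c36 LD3_c54)) = (LP (LK LD1_c19 LD2_c13 LD3_c42)) :=
  Lre_d IH (LK LD1_c10 LD2_c36 LD3_c54) (LK LD1_c19 LD2_c13 LD3_c42) Lrfl Lrfl
theorem f311203 : Led Lsl_gt (LP (LK LD1_c19 LD2_c13 LD3_c40)) = (LP (LK LD1_c10 LD2_c36 LD3_c54)) :=
  Lre_g IH (LK LD1_c19 LD2_c13 LD3_c40) (LK LD1_c10 LD2_c36 LD3_c54) Lrfl Lrfl
theorem f356194 : Led Lsl_df (LP (LK LD1_c19 LD2_c13 LD3_c40)) = (LP (LK LD1_c26 LD2_c36 LD3_c20)) :=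
  Lgr Lrot153 (Lpr_gt (f311203 IH) (Lpr_dt (f311077 IH) (Lpr_cf (f311182 IH) (Lpe (f42427 IH) (Lpr_gf (f356190 IH) (Lpe (f329690 IH) (Lpe (f321462 IH) (Lpe (K17.f284253 IH) (Lpr_gt (f284435 IH) (Lpn (LP (LK LD1_c26 LD2_c36 LD3_c20))))))))))))
theorem f337930 : Led Lsl_gt (LP (LK LD1_c5 LD2_c23 LD3_c9)) = (LP (LK LD1_c10 LD2_c36 LD3_c52)) :=
  Lre_g IH (LK LD1_c5 LD2_c23 LD3_c9) (LK LD1_c10 LD2_c36 LD3_c52) Lrfl Lrfl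
theorem f352472 : Led Lsl_ct (LP (LK LD1_c10 LD2_c36 LD3_c52)) = (LP (LK LD1_c19 LD2_c13 LD3_c35)) :=
  Lre_c IH (LK LD1_c10 LD2_c36 LD3_c52) (LK LD1_c19 LD2_c13 LD3_c35) Lrfl Lrfl
theorem f356473 : Led Lsl_dt (LP (LK LD1_c19 LD2_c13 LD3_c35)) = (LP (LK LD1_c26 LD2_c36 LD3_c18)) :=
  Lgr Lrot27 (Lpe (f352472 IH) (Lpe (f337930 IH) (Lpe (f311053 IH) (Lpe (f311203 IH) (Lpr_df (f356194 IH) (Lpe (f284436 IH) (Lpr_ct (f198981 IH) (Lpr_gt (f356471 IH) (Lpr_ct (f356467 IH) (Lpn (LP (LK LD1_c26 LD2_c36 LD3_c18))))))))))))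
theorem f356486 : Led Lsl_gt (LP (LK LD1_c28 LD2_c39 LD3_c42)) = (LP (LK LD1_c19 LD2_c13 LD3_c35)) :=
  Lre_g IH (LK LD1_c28 LD2_c39 LD3_c42) (LK LD1_c19 LD2_c13 LD3_c35) Lrfl Lrfl
theorem f356499 : Led Lsl_cf (LP (LK LD1_c28 LD2_c39 LD3_c42)) = (LP (LK LD1_c24 LD2_c49 LD3_c9)) :=
  Lgr Lrot166 (Lpr_gt (f356486 IH) (Lpr_dt (f356473 IH) (Lpe (f356465 IH) (Lpe (K23.f343850 IH) (Lpr_ct (f343840 IH) (Lpr_df (K23.f343824 IH) (Lpe (K23.f336746 IH) (Lpe (f316519 IH) (Lpe (f316532 IH) (Lpn (LP (LK LD1_c24 LD2_c49 LD3_c9))))))))))))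
theorem f356483 : Led Lsl_ct (LP (LK LD1_c19 LD2_c13 LD3_c35)) = (LP (LK LD1_c10 LD2_c36 LD3_c52)) :=
  Lre_c IH (LK LD1_c19 LD2_c13 LD3_c35) (LK LD1_c10 LD2_c36 LD3_c52) Lrfl Lrfl
theorem f345372 : Led Lsl_dt (LP (LK LD1_c10 LD2_c34 LD3_c14)) = (LP (LK LD1_c19 LD2_c8 LD3_c47)) :=
  Lre_d IH (LK LD1_c10 LD2_c34 LD3_c14) (LK LD1_c19 LD2_c8 LD3_c47) Lrfl Lrfl
theorem f345424 : Led Lsl_gt (LP (LK LD1_c19 LD2_c8 LD3_c47)) = (LP (LK LD1_c24 LD2_c49 LD3_c9)) :=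
  Lgr Lrot139 (Lpe (f345372 IH) (Lpr_gf (f345418 IH) (Lpe (K22.f336742 IH) (Lpr_dt (K21.f224379 IH) (Lpr_gf (K21.f328938 IH) (Lpe (K18.f226939 IH) (Lpr_et (K22.f226938 IH) (Lpr_gf (K14.f226913 IH) (Lpe (f221627 IH) (Lpr_dt (K22.f187263 IH) (Lpn (LP (LK LD1_c24 LD2_c49 LD3_c9)))))))))))))
theorem f345354 : Led Lsl_dt (LP (LK LD1_c19 LD2_c8 LD3_c47)) = (LP (LK LD1_c10 LD2_c34 LD3_c14)) :=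
  Lre_d IH (LK LD1_c19 LD2_c8 LD3_c47) (LK LD1_c10 LD2_c34 LD3_c14) Lrfl Lrfl
theorem f356509 : Led Lsl_df (LP (LK LD1_c10 LD2_c36 LD3_c52)) = (LP (LK LD1_c16 LD2_c38 LD3_c28)) :=
  Lgr Lrot162 (Lpe (f356483 IH) (Lpe (f356486 IH) (Lpr_cf (f356499 IH) (Lpe (f345424 IH) (Lpr_dt (f345354 IH) (Lpr_gt (f345395 IH) (Lpr_ct (K22.f214090 IH) (Lpr_gt (f213944 IH) (Lpr_ct (f352173 IH) (Lpn (LP (LK LD1_c16 LD2_c38 LD3_c28))))))))))))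
theorem f250519 : Led Lsl_cf (LP (LK LD1_c16 LD2_c1 LD3_c6)) = (LP (LK LD1_c10 LD2_c32 LD3_c46)) :=
  Lgr Lrot39 (Lpr_et (K20.f221840 IH) (Lpr_ct (K14.f250511 IH) (Lpr_et (K20.f250518 IH) (Lpn (LP (LK LD1_c10 LD2_c32 LD3_c46))))))
theorem f322655 : Led Lsl_gt (LP (LK LD1_c5 LD2_c23 LD3_c49)) = (LP (LK LD1_c10 LD2_c31 LD3_c21)) :=
  Lgr Lrot150 (Lpe (K18.f300885 IH) (Lpr_gf (K18.f303009 IH) (Lpr_df (K19.f215498 IH) (Lpr_gt (K17.f215489 IH) (Lpr_ct (K20.f215475 IH) (Lpe (K20.f258417 IH) (Lpe (f250519 IH) (Lpr_df (K20.f246777 IH) (Lpr_cf (K20.f322649 IH) (Lpn (LP (LK LD1_c10 LD2_c31 LD3_c21))))))))))))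
theorem f42440 : Led Lsl_dt (LP (LK LD1_c10 LD2_c31 LD3_c8)) = (LP (LK LD1_c19 LD2_c3 LD3_c57)) :=
  Lre_d IH (LK LD1_c10 LD2_c31 LD3_c8) (LK LD1_c19 LD2_c3 LD3_c57) Lrfl Lrfl
theorem f356517 : Led Lsl_gt (LP (LK LD1_c10 LD2_c36 LD3_c52)) = (LP (LK LD1_c19 LD2_c3 LD3_c57)) :=
  Lgr Lrot139 (Lpr_df (f356509 IH) (Lpe (f275201 IH) (Lpe (K14.f253370 IH) (Lpr_dt (K14.f231402 IH) (Lpe (K16.f275185 IH) (Lpe (K16.f215894 IH) (Lpr_et (K20.f277860 IH) (Lpe (f322655 IH) (Lpr_ef (K18.f303241 IH) (Lpr_dt (f42440 IH) (Lpn (LP (LK LD1_c19 LD2_c3 LD3_c57)))))))))))))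
theorem f329669 : Led Lsl_dt (LP (LK LD1_c8 LD2_c53 LD3_c51)) = (LP (LK LD1_c5 LD2_c23 LD3_c15)) :=
  Lgr Lrot42 (Lpr_df (K21.f329664 IH) (Lpn (LP (LK LD1_c5 LD2_c23 LD3_c15))))
theorem f356527 : Led Lsl_gt (LP (LK LD1_c5 LD2_c23 LD3_c15)) = (LP (LK LD1_c6 LD2_c5 LD3_c8)) :=
  Lgr Lrot49 (Lpe (f329669 IH) (Lpe (K21.f231373 IH) (Lpe (K17.f284277 IH) (Lpr_gt (f275201 IH) (Lpe (f356509 IH) (Lpr_gt (f356517 IH) (Lpr_dt (f42424 IH) (Lpe (K18.f42439 IH) (Lpr_df (K15.f42428 IH) (Lpn (LP (LK LD1_c6 LD2_c5 LD3_c8))))))))))))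
theorem f356536 : Led Lsl_gf (LP (LK LD1_c10 LD2_c3 LD3_c11)) = (LP (LK LD1_c10 LD2_c14 LD3_c47)) :=
  Lgr Lrot134 (Lpr_df (K21.f329731 IH) (Lpr_et (K21.f252614 IH) (Lpr_gt (f356527 IH) (Lpe (K21.f283358 IH) (Lpr_dt (K22.f309068 IH) (Lpe (K20.f315956 IH) (Lpr_df (K20.f7770 IH) (Lpr_et (K20.f315961 IH) (Lpe (K22.f336011 IH) (Lpe (K23.f274420 IH) (Lpn (LP (LK LD1_c10 LD2_c14 LD3_c47)))))))))))))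
theorem f240505 : Led Lsl_bt (LP (LK LD1_c18 LD2_c38 LD3_c39)) = (LP (LK LD1_c10 LD2_c14 LD3_c47)) :=
  Lre_b IH (LK LD1_c18 LD2_c38 LD3_c39) (LK LD1_c10 LD2_c14 LD3_c47) Lrfl Lrfl
theorem f257721 : Led Lsl_ft (LP (LK LD1_c27 LD2_c49 LD3_c38)) = (LP (LK LD1_c18 LD2_c11 LD3_c27)) :=
  Lgr Lrot48 (Lpr_ff (f257711 IH) (Lpn (LP (LK LD1_c18 LD2_c11 LD3_c27))))
theorem f257731 : Led Lsl_at (LP (LK LD1_c18 LD2_c11 LD3_c27)) = (LP (LK LD1_c9 LD2_c56 LD3_c50)) :=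
  Lre_a IH (LK LD1_c18 LD2_c11 LD3_c27) (LK LD1_c9 LD2_c56 LD3_c50) Lrfl Lrfl
theorem f257732 : Led Lsl_ft (LP (LK LD1_c9 LD2_c56 LD3_c50)) = (LP (LK LD1_c18 LD2_c12 LD3_c25)) :=
  Lre_f IH (LK LD1_c9 LD2_c56 LD3_c50) (LK LD1_c18 LD2_c12 LD3_c25) Lrfl Lrfl
theorem f257733 : Led Lsl_af (LP (LK LD1_c27 LD2_c49 LD3_c38)) = (LP (LK LD1_c18 LD2_c12 LD3_c25)) :=
  Lgr Lrot45 (Lpr_ft (f257721 IH) (Lpr_at (f257731 IH) (Lpr_ft (f257732 IH) (Lpn (LP (LK LD1_c18 LD2_c12 LD3_c25))))))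
theorem f257730 : Led Lsl_dt (LP (LK LD1_c9 LD2_c56 LD3_c51)) = (LP (LK LD1_c18 LD2_c12 LD3_c25)) :=
  Lre_d IH (LK LD1_c9 LD2_c56 LD3_c51) (LK LD1_c18 LD2_c12 LD3_c25) Lrfl Lrfl
theorem f257743 : Led Lsl_at (LP (LK LD1_c18 LD2_c9 LD3_c11)) = (LP (LK LD1_c9 LD2_c56 LD3_c51)) :=
  Lgr Lrot51 (Lpe (f257709 IH) (Lpr_af (f257733 IH) (Lpe (f257730 IH) (Lpn (LP (LK LD1_c9 LD2_c56 LD3_c51))))))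
theorem f257684 : Led Lsl_ct (LP (LK LD1_c5 LD2_c2 LD3_c49)) = (LP (LK LD1_c9 LD2_c56 LD3_c28)) :=
  Lre_c IH (LK LD1_c5 LD2_c2 LD3_c49) (LK LD1_c9 LD2_c56 LD3_c28) Lrfl Lrfl
theorem f257685 : Led Lsl_ff (LP (LK LD1_c18 LD2_c9 LD3_c11)) = (LP (LK LD1_c9 LD2_c56 LD3_c28)) :=
  Lgr Lrot23 (Lpr_ct (K23.f257683 IH) (Lpr_ft (K18.f257605 IH) (Lpr_ct (f257684 IH) (Lpn (LP (LK LD1_c9 LD2_c56 LD3_c28))))))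
theorem f345929 : Led Lsl_gf (LP (LK LD1_c18 LD2_c9 LD3_c20)) = (LP (LK LD1_c9 LD2_c56 LD3_c28)) :=
  Lgr Lrot47 (Lpr_gt (K23.f345927 IH) (Lpe (f257743 IH) (Lpr_ff (f257685 IH) (Lpn (LP (LK LD1_c9 LD2_c56 LD3_c28))))))
theorem f335867 : Led Lsl_ef (LP (LK LD1_c18 LD2_c9 LD3_c20)) = (LP (LK LD1_c18 LD2_c33 LD3_c0)) :=
  Lgr Lrot28 (Lpr_ct (K22.f330492 IH) (Lpr_et (K22.f335863 IH) (Lpr_ct (K23.f240499 IH) (Lpn (LP (LK LD1_c18 LD2_c33 LD3_c0))))))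
theorem f257771 : Led Lsl_et (LP (LK LD1_c5 LD2_c2 LD3_c48)) = (LP (LK LD1_c9 LD2_c56 LD3_c28)) :=
  Lre_e IH (LK LD1_c5 LD2_c2 LD3_c48) (LK LD1_c9 LD2_c56 LD3_c28) Lrfl Lrfl
theorem f283828 : Led Lsl_dt (LP (LK LD1_c9 LD2_c56 LD3_c27)) = (LP (LK LD1_c5 LD2_c2 LD3_c48)) :=
  Lre_d IH (LK LD1_c9 LD2_c56 LD3_c27) (LK LD1_c5 LD2_c2 LD3_c48) Lrfl Lrfl
theorem f256485 : Led Lsl_df (LP (LK LD1_c5 LD2_c13 LD3_c3)) = (LP (LK LD1_c8 LD2_c7 LD3_c20)) :=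
  Lgr Lrot38 (Lpr_dt (K15.f256478 IH) (Lpn (LP (LK LD1_c8 LD2_c7 LD3_c20))))
theorem f288421 : Led Lsl_cf (LP (LK LD1_c10 LD2_c16 LD3_c51)) = (LP (LK LD1_c9 LD2_c58 LD3_c26)) :=
  Lgr Lrot55 (Lpr_dt (K14.f183928 IH) (Lpr_ct (K14.f183932 IH) (Lpr_dt (K9.f183918 IH) (Lpr_ct (K14.f183924 IH) (Lpr_dt (K9.f183945 IH) (Lpr_ct (K14.f242345 IH) (Lpr_dt (K14.f256371 IH) (Lpe (K14.f256329 IH) (Lpr_dt (K14.f256320 IH) (Lpr_ct (K14.f192855 IH) (Lpr_dt (K15.f256489 IH) (Lpr_ct (K14.f199116 IH) (Lpe (f256485 IH) (Lpe (K17.f165527 IH) (Lpr_dt (K17.f288406 IH) (Lpn (LP (LK LD1_c9 LD2_c58 LD3_c26))))))))))))))))))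
theorem f288429 : Led Lsl_gf (LP (LK LD1_c9 LD2_c56 LD3_c27)) = (LP (LK LD1_c10 LD2_c10 LD3_c6)) :=
  Lgr Lrot148 (Lpr_dt (f283828 IH) (Lpe (K17.f288404 IH) (Lpr_dt (K17.f288406 IH) (Lpe (f288421 IH) (Lpe (K16.f183929 IH) (Lpr_gf (K15.f252118 IH) (Lpe (K14.f191827 IH) (Lpe (K14.f182755 IH) (Lpr_ct (K17.f259811 IH) (Lpn (LP (LK LD1_c10 LD2_c10 LD3_c6))))))))))))
theorem f192938 : Led Lsl_et (LP (LK LD1_c5 LD2_c10 LD3_c33)) = (LP (LK LD1_c2 LD2_c32 LD3_c19)) :=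
  Lre_e IH (LK LD1_c5 LD2_c10 LD3_c33) (LK LD1_c2 LD2_c32 LD3_c19) Lrfl Lrfl
theorem f192939 : Led Lsl_dt (LP (LK LD1_c5 LD2_c10 LD3_c33)) = (LP (LK LD1_c10 LD2_c11 LD3_c48)) :=
  Lre_d IH (LK LD1_c5 LD2_c10 LD3_c33) (LK LD1_c10 LD2_c11 LD3_c48) Lrfl Lrfl
theorem f259834 : Led Lsl_gt (LP (LK LD1_c18 LD2_c34 LD3_c33)) = (LP (LK LD1_c10 LD2_c11 LD3_c48)) :=
  Lre_g IH (LK LD1_c18 LD2_c34 LD3_c33) (LK LD1_c10 LD2_c11 LD3_c48) Lrfl Lrfl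
theorem f346123 : Led Lsl_dt (LP (LK LD1_c18 LD2_c33 LD3_c0)) = (LP (LK LD1_c18 LD2_c34 LD3_c33)) :=
  Lgr Lrot136 (Lpe (f335867 IH) (Lpr_gf (f345929 IH) (Lpe (f257771 IH) (Lpr_dt (K19.f283844 IH) (Lpr_gf (f288429 IH) (Lpe (K17.f259820 IH) (Lpe (K10.f192902 IH) (Lpe (f192938 IH) (Lpr_dt (f192939 IH) (Lpe (f259834 IH) (Lpn (LP (LK LD1_c18 LD2_c34 LD3_c33)))))))))))))
theorem f346134 : Led Lsl_gf (LP (LK LD1_c18 LD2_c33 LD3_c0)) = (LP (LK LD1_c18 LD2_c8 LD3_c61)) :=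
  Lgr Lrot138 (Lpr_dt (f346123 IH) (Lpr_gt (f259834 IH) (Lpe (f192939 IH) (Lpr_et (f192938 IH) (Lpr_gt (K10.f192902 IH) (Lpe (K14.f233462 IH) (Lpr_dt (K19.f233470 IH) (Lpr_gt (K22.f233635 IH) (Lpe (K22.f330768 IH) (Lpe (K22.f251642 IH) (Lpn (LP (LK LD1_c18 LD2_c8 LD3_c61)))))))))))))
theorem f356538 : Led Lsl_bf (LP (LK LD1_c10 LD2_c3 LD3_c11)) = (LP (LK LD1_c10 LD2_c16 LD3_c30)) :=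
  Lgr Lrot34 (Lpr_gf (f356536 IH) (Lpe (f240505 IH) (Lpr_ct (K23.f240499 IH) (Lpr_gf (f346134 IH) (Lpe (f250128 IH) (Lpe (K14.f250125 IH) (Lpe (K14.f250115 IH) (Lpr_ct (K22.f230751 IH) (Lpr_gf (K22.f293758 IH) (Lpe (K22.f268067 IH) (Lpn (LP (LK LD1_c10 LD2_c16 LD3_c30)))))))))))))
theorem f356548 : Led Lsl_bt (LP (LK LD1_c10 LD2_c37 LD3_c2)) = (LP (LK LD1_c16 LD2_c38 LD3_c27)) :=
  Lgr Lrot95 (Lpe (K21.f329671 IH) (Lpr_bf (f356538 IH) (Lpr_df (K21.f275255 IH) (Lpn (LP (LK LD1_c16 LD2_c38 LD3_c27))))))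
theorem f356554 : Led Lsl_bf (LP (LK LD1_c5 LD2_c23 LD3_c15)) = (LP (LK LD1_c8 LD2_c53 LD3_c51)) :=
  Lgr Lrot96 (Lpr_et (K21.f329678 IH) (Lpr_bt (f356548 IH) (Lpr_et (K21.f275254 IH) (Lpn (LP (LK LD1_c8 LD2_c53 LD3_c51))))))
theorem f325035 : Led Lsl_gf (LP (LK LD1_c8 LD2_c13 LD3_c48)) = (LP (LK LD1_c9 LD2_c41 LD3_c39)) :=
  Lgr Lrot47 (Lpr_gt (f187310 IH) (Lpr_af (K21.f325025 IH) (Lpe (K21.f213980 IH) (Lpn (LP (LK LD1_c9 LD2_c41 LD3_c39))))))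
theorem f356563 : Led Lsl_gf (LP (LK LD1_c10 LD2_c34 LD3_c31)) = (LP (LK LD1_c16 LD2_c38 LD3_c26)) :=
  Lgr Lrot126 (Lpr_cf (K22.f215943 IH) (Lpr_bt (f213949 IH) (Lpe (f325035 IH) (Lpr_ct (f187334 IH) (Lpr_gt (f356394 IH) (Lpe (f182818 IH) (Lpr_bt (f182812 IH) (Lpr_gt (K21.f182835 IH) (Lpr_bf (f356554 IH) (Lpr_ct (f231374 IH) (Lpn (LP (LK LD1_c16 LD2_c38 LD3_c26)))))))))))))
theorem f42309 : Led Lsl_ct (LP (LK LD1_c4 LD2_c27 LD3_c55)) = (LP (LK LD1_c8 LD2_c53 LD3_c48)) :=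
  Lre_c IH (LK LD1_c4 LD2_c27 LD3_c55) (LK LD1_c8 LD2_c53 LD3_c48) Lrfl Lrfl
theorem f42379 : Led Lsl_gt (LP (LK LD1_c8 LD2_c53 LD3_c48)) = (LP (LK LD1_c16 LD2_c38 LD3_c21)) :=
  Lre_g IH (LK LD1_c8 LD2_c53 LD3_c48) (LK LD1_c16 LD2_c38 LD3_c21) Lrfl Lrfl
theorem f356567 : Led Lsl_cf (LP (LK LD1_c9 LD2_c41 LD3_c5)) = (LP (LK LD1_c16 LD2_c38 LD3_c21)) :=
  Lgr Lrot99 (Lpe (K13.f213951 IH) (Lpe (f215954 IH) (Lpr_gf (f356563 IH) (Lpe (f231374 IH) (Lpe (K21.f231373 IH) (Lpe (K17.f231308 IH) (Lpr_gt (K21.f42299 IH) (Lpr_ct (f42309 IH) (Lpr_gt (f42379 IH) (Lpn (LP (LK LD1_c16 LD2_c38 LD3_c21))))))))))))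
theorem f356573 : Led Lsl_dt (LP (LK LD1_c26 LD2_c36 LD3_c26)) = (LP (LK LD1_c16 LD2_c38 LD3_c21)) :=
  Lre_d IH (LK LD1_c26 LD2_c36 LD3_c26) (LK LD1_c16 LD2_c38 LD3_c21) Lrfl Lrfl
theorem f356574 : Led Lsl_ct (LP (LK LD1_c32 LD2_c12 LD3_c35)) = (LP (LK LD1_c26 LD2_c36 LD3_c26)) :=
  Lre_c IH (LK LD1_c32 LD2_c12 LD3_c35) (LK LD1_c26 LD2_c36 LD3_c26) Lrfl Lrfl
theorem f356575 : Led Lsl_dt (LP (LK LD1_c28 LD2_c29 LD3_c22)) = (LP (LK LD1_c32 LD2_c12 LD3_c35)) :=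
  Lgr Lrot173 (Lpe (K22.f187705 IH) (Lpe (K22.f187704 IH) (Lpr_cf (K22.f187683 IH) (Lpr_df (K10.f191748 IH) (Lpe (K22.f187209 IH) (Lpe (K22.f187212 IH) (Lpe (K22.f191750 IH) (Lpe (K22.f336849 IH) (Lpe (K22.f215957 IH) (Lpe (K22.f215956 IH) (Lpr_cf (K22.f215943 IH) (Lpr_df (K13.f213939 IH) (Lpr_cf (f356567 IH) (Lpe (f356573 IH) (Lpe (f356574 IH) (Lpn (LP (LK LD1_c32 LD2_c12 LD3_c35))))))))))))))))))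
theorem f352443 : Led Lsl_dt (LP (LK LD1_c28 LD2_c39 LD3_c30)) = (LP (LK LD1_c19 LD2_c13 LD3_c26)) :=
  Lre_d IH (LK LD1_c28 LD2_c39 LD3_c30) (LK LD1_c19 LD2_c13 LD3_c26) Lrfl Lrfl
theorem f356328 : Led Lsl_ct (LP (LK LD1_c26 LD2_c36 LD3_c26)) = (LP (LK LD1_c32 LD2_c12 LD3_c35)) :=
  Lre_c IH (LK LD1_c26 LD2_c36 LD3_c26) (LK LD1_c32 LD2_c12 LD3_c35) Lrfl Lrfl
theorem f42380 : Led Lsl_dt (LP (LK LD1_c16 LD2_c38 LD3_c21)) = (LP (LK LD1_c26 LD2_c36 LD3_c26)) :=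
  Lre_d IH (LK LD1_c16 LD2_c38 LD3_c21) (LK LD1_c26 LD2_c36 LD3_c26) Lrfl Lrfl
theorem f42370 : Led Lsl_dt (LP (LK LD1_c16 LD2_c38 LD3_c23)) = (LP (LK LD1_c8 LD2_c53 LD3_c48)) :=
  Lre_d IH (LK LD1_c16 LD2_c38 LD3_c23) (LK LD1_c8 LD2_c53 LD3_c48) Lrfl Lrfl
theorem f42371 : Led Lsl_gt (LP (LK LD1_c26 LD2_c36 LD3_c29)) = (LP (LK LD1_c16 LD2_c38 LD3_c23)) :=
  Lre_g IH (LK LD1_c26 LD2_c36 LD3_c29) (LK LD1_c16 LD2_c38 LD3_c23) Lrfl Lrfl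
theorem f356649 : Led Lsl_ct (LP (LK LD1_c32 LD2_c12 LD3_c38)) = (LP (LK LD1_c26 LD2_c36 LD3_c29)) :=
  Lre_c IH (LK LD1_c32 LD2_c12 LD3_c38) (LK LD1_c26 LD2_c36 LD3_c29) Lrfl Lrfl
theorem f356650 : Led Lsl_gf (LP (LK LD1_c28 LD2_c39 LD3_c30)) = (LP (LK LD1_c32 LD2_c12 LD3_c38)) :=
  Lgr Lrot144 (Lpr_dt (f352443 IH) (Lpe (f352429 IH) (Lpr_dt (f356575 IH) (Lpe (f356328 IH) (Lpe (f42380 IH) (Lpe (f42379 IH) (Lpe (f42370 IH) (Lpe (f42371 IH) (Lpe (f356649 IH) (Lpn (LP (LK LD1_c32 LD2_c12 LD3_c38))))))))))))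
theorem f336852 : Led Lsl_df (LP (LK LD1_c28 LD2_c35 LD3_c19)) = (LP (LK LD1_c32 LD2_c5 LD3_c25)) :=
  Lgr Lrot38 (Lpr_dt (K22.f336849 IH) (Lpn (LP (LK LD1_c32 LD2_c5 LD3_c25))))
theorem f187200 : Led Lsl_ct (LP (LK LD1_c8 LD2_c39 LD3_c52)) = (LP (LK LD1_c16 LD2_c13 LD3_c37)) :=
  Lre_c IH (LK LD1_c8 LD2_c39 LD3_c52) (LK LD1_c16 LD2_c13 LD3_c37) Lrfl Lrfl
theorem f189233 : Led Lsl_ct (LP (LK LD1_c11 LD2_c4 LD3_c14)) = (LP (LK LD1_c5 LD2_c35 LD3_c60)) :=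
  Lre_c IH (LK LD1_c11 LD2_c4 LD3_c14) (LK LD1_c5 LD2_c35 LD3_c60) Lrfl Lrfl
theorem f42390 : Led Lsl_ct (LP (LK LD1_c2 LD2_c11 LD3_c6)) = (LP (LK LD1_c4 LD2_c27 LD3_c54)) :=
  Lre_c IH (LK LD1_c2 LD2_c11 LD3_c6) (LK LD1_c4 LD2_c27 LD3_c54) Lrfl Lrfl
theorem f284245 : Led Lsl_at (LP (LK LD1_c4 LD2_c27 LD3_c54)) = (LP (LK LD1_c8 LD2_c7 LD3_c18)) :=
  Lgr Lrot107 (Lpe (f42390 IH) (Lpr_af (K17.f284232 IH) (Lpe (f199000 IH) (Lpn (LP (LK LD1_c8 LD2_c7 LD3_c18))))))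
theorem f284341 : Led Lsl_ft (LP (LK LD1_c8 LD2_c53 LD3_c47)) = (LP (LK LD1_c4 LD2_c27 LD3_c54)) :=
  Lre_f IH (LK LD1_c8 LD2_c53 LD3_c47) (LK LD1_c4 LD2_c27 LD3_c54) Lrfl Lrfl
theorem f350632 : Led Lsl_gt (LP (LK LD1_c8 LD2_c53 LD3_c47)) = (LP (LK LD1_c11 LD2_c4 LD3_c14)) :=
  Lgr Lrot5 (Lpr_ft (f284341 IH) (Lpr_at (f284245 IH) (Lpr_gf (K24.f350630 IH) (Lpn (LP (LK LD1_c11 LD2_c4 LD3_c14))))))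
theorem f350657 : Led Lsl_gf (LP (LK LD1_c32 LD2_c5 LD3_c25)) = (LP (LK LD1_c29 LD2_c46 LD3_c12)) :=
  Lgr Lrot104 (Lpr_ct (K22.f191750 IH) (Lpe (K23.f191847 IH) (Lpe (f187200 IH) (Lpr_gf (K24.f350653 IH) (Lpe (f189233 IH) (Lpe (f350632 IH) (Lpe (K17.f284396 IH) (Lpe (K22.f325803 IH) (Lpr_ct (f311113 IH) (Lpn (LP (LK LD1_c29 LD2_c46 LD3_c12))))))))))))
theorem f213508 : Led Lsl_et (LP (LK LD1_c15 LD2_c17 LD3_c42)) = (LP (LK LD1_c10 LD2_c40 LD3_c14)) :=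
  Lgr Lrot87 (Lpr_ef (K22.f213502 IH) (Lpn (LP (LK LD1_c10 LD2_c40 LD3_c14))))
theorem f42565 : Led Lsl_ef (LP (LK LD1_c5 LD2_c24 LD3_c49)) = (LP (LK LD1_c6 LD2_c4 LD3_c23)) :=
  Lgr Lrot28 (Lpr_ct (K22.f42564 IH) (Lpr_et (K20.f42562 IH) (Lpr_ct (K17.f42503 IH) (Lpn (LP (LK LD1_c6 LD2_c4 LD3_c23))))))
theorem f42500 : Led Lsl_dt (LP (LK LD1_c11 LD2_c52 LD3_c15)) = (LP (LK LD1_c6 LD2_c4 LD3_c23)) :=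
  Lre_d IH (LK LD1_c11 LD2_c52 LD3_c15) (LK LD1_c6 LD2_c4 LD3_c23) Lrfl Lrfl
theorem f190210 : Led Lsl_gf (LP (LK LD1_c11 LD2_c52 LD3_c15)) = (LP (LK LD1_c8 LD2_c38 LD3_c34)) :=
  Lgr Lrot143 (Lpr_dt (f42500 IH) (Lpe (K17.f42503 IH) (Lpe (K10.f41785 IH) (Lpe (K1.f41756 IH) (Lpe (K1.f41751 IH) (Lpe (K1.f42491 IH) (Lpe (K15.f42502 IH) (Lpr_gt (K10.f190208 IH) (Lpr_dt (K16.f28717 IH) (Lpn (LP (LK LD1_c8 LD2_c38 LD3_c34))))))))))))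
theorem f190214 : Led Lsl_et (LP (LK LD1_c5 LD2_c23 LD3_c17)) = (LP (LK LD1_c2 LD2_c38 LD3_c8)) :=
  Lre_e IH (LK LD1_c5 LD2_c23 LD3_c17) (LK LD1_c2 LD2_c38 LD3_c8) Lrfl Lrfl
theorem f190216 : Led Lsl_gt (LP (LK LD1_c19 LD2_c14 LD3_c7)) = (LP (LK LD1_c10 LD2_c37 LD3_c7)) :=
  Lre_g IH (LK LD1_c19 LD2_c14 LD3_c7) (LK LD1_c10 LD2_c37 LD3_c7) Lrfl Lrfl
theorem f213514 : Led Lsl_dt (LP (LK LD1_c15 LD2_c17 LD3_c42)) = (LP (LK LD1_c19 LD2_c14 LD3_c7)) :=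
  Lgr Lrot136 (Lpr_et (f213508 IH) (Lpe (K22.f42582 IH) (Lpr_ef (f42565 IH) (Lpr_dt (K16.f42584 IH) (Lpr_gf (f190210 IH) (Lpe (K16.f28717 IH) (Lpe (K10.f190208 IH) (Lpe (f190214 IH) (Lpr_dt (f190215 IH) (Lpe (f190216 IH) (Lpn (LP (LK LD1_c19 LD2_c14 LD3_c7)))))))))))))
theorem f352444 : Led Lsl_dt (LP (LK LD1_c19 LD2_c13 LD3_c26)) = (LP (LK LD1_c28 LD2_c39 LD3_c30)) :=
  Lre_d IH (LK LD1_c19 LD2_c13 LD3_c26) (LK LD1_c28 LD2_c39 LD3_c30) Lrfl Lrfl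
theorem f352452 : Led Lsl_cf (LP (LK LD1_c19 LD2_c14 LD3_c7)) = (LP (LK LD1_c28 LD2_c39 LD3_c30)) :=
  Lgr Lrot14 (Lpe (f213514 IH) (Lpe (K22.f199049 IH) (Lpe (f199001 IH) (Lpe (K22.f325801 IH) (Lpr_ct (f311113 IH) (Lpe (f350657 IH) (Lpe (f336852 IH) (Lpr_gt (f352441 IH) (Lpr_dt (f352444 IH) (Lpn (LP (LK LD1_c28 LD2_c39 LD3_c30))))))))))))
theorem f311184 : Led Lsl_df (LP (LK LD1_c19 LD2_c14 LD3_c8)) = (LP (LK LD1_c28 LD2_c30 LD3_c11)) :=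
  Lgr Lrot38 (Lpr_dt (f311156 IH) (Lpn (LP (LK LD1_c28 LD2_c30 LD3_c11))))
theorem f42441 : Led Lsl_ct (LP (LK LD1_c19 LD2_c3 LD3_c57)) = (LP (LK LD1_c28 LD2_c30 LD3_c11)) :=
  Lre_c IH (LK LD1_c19 LD2_c3 LD3_c57) (LK LD1_c28 LD2_c30 LD3_c11) Lrfl Lrfl
theorem f356656 : Led Lsl_df (LP (LK LD1_c28 LD2_c39 LD3_c42)) = (LP (LK LD1_c32 LD2_c12 LD3_c38)) :=
  Lgr Lrot155 (Lpr_gt (f356486 IH) (Lpr_ct (f356483 IH) (Lpr_gt (f356517 IH) (Lpr_ct (f42441 IH) (Lpe (f311184 IH) (Lpe (f213523 IH) (Lpe (f190216 IH) (Lpr_cf (f352452 IH) (Lpr_gf (f356650 IH) (Lpn (LP (LK LD1_c32 LD2_c12 LD3_c38))))))))))))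
theorem f345397 : Led Lsl_cf (LP (LK LD1_c19 LD2_c8 LD3_c47)) = (LP (LK LD1_c28 LD2_c30 LD3_c8)) :=
  Lgr Lrot99 (Lpe (f345372 IH) (Lpe (f199031 IH) (Lpr_gf (f345393 IH) (Lpe (K17.f231363 IH) (Lpe (f345373 IH) (Lpr_df (f315861 IH) (Lpe (K22.f311069 IH) (Lpr_ct (K19.f310984 IH) (Lpr_gt (f311029 IH) (Lpn (LP (LK LD1_c28 LD2_c30 LD3_c8))))))))))))
theorem f41728 : Led Lsl_gt (LP (LK LD1_c4 LD2_c27 LD3_c56)) = (LP (LK LD1_c2 LD2_c11 LD3_c6)) :=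
  Lre_g IH (LK LD1_c4 LD2_c27 LD3_c56) (LK LD1_c2 LD2_c11 LD3_c6) Lrfl Lrfl
theorem f284251 : Led Lsl_gf (LP (LK LD1_c4 LD2_c27 LD3_c56)) = (LP (LK LD1_c8 LD2_c7 LD3_c19)) :=
  Lgr Lrot47 (Lpr_gt (f41728 IH) (Lpr_af (K17.f284232 IH) (Lpe (K12.f198987 IH) (Lpn (LP (LK LD1_c8 LD2_c7 LD3_c19))))))
theorem f321483 : Led Lsl_ct (LP (LK LD1_c4 LD2_c27 LD3_c56)) = (LP (LK LD1_c8 LD2_c53 LD3_c49)) :=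
  Lre_c IH (LK LD1_c4 LD2_c27 LD3_c56) (LK LD1_c8 LD2_c53 LD3_c49) Lrfl Lrfl
theorem f321484 : Led Lsl_dt (LP (LK LD1_c16 LD2_c38 LD3_c24)) = (LP (LK LD1_c8 LD2_c53 LD3_c49)) :=
  Lre_d IH (LK LD1_c16 LD2_c38 LD3_c24) (LK LD1_c8 LD2_c53 LD3_c49) Lrfl Lrfl
theorem f321485 : Led Lsl_ct (LP (LK LD1_c26 LD2_c36 LD3_c30)) = (LP (LK LD1_c16 LD2_c38 LD3_c24)) :=
  Lre_c IH (LK LD1_c26 LD2_c36 LD3_c30) (LK LD1_c16 LD2_c38 LD3_c24) Lrfl Lrfl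
theorem f321486 : Led Lsl_gt (LP (LK LD1_c20 LD2_c57 LD3_c19)) = (LP (LK LD1_c26 LD2_c36 LD3_c30)) :=
  Lgr Lrot150 (Lpe (K19.f42400 IH) (Lpr_gf (f42388 IH) (Lpe (f42387 IH) (Lpr_gt (f321481 IH) (Lpr_ct (f198979 IH) (Lpe (f284251 IH) (Lpr_ct (f321483 IH) (Lpe (f321484 IH) (Lpe (f321485 IH) (Lpn (LP (LK LD1_c26 LD2_c36 LD3_c30))))))))))))
theorem f356652 : Led Lsl_ct (LP (LK LD1_c26 LD2_c36 LD3_c29)) = (LP (LK LD1_c32 LD2_c12 LD3_c38)) :=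
  Lre_c IH (LK LD1_c26 LD2_c36 LD3_c29) (LK LD1_c32 LD2_c12 LD3_c38) Lrfl Lrfl
theorem f356662 : Led Lsl_gt (LP (LK LD1_c16 LD2_c38 LD3_c24)) = (LP (LK LD1_c26 LD2_c36 LD3_c29)) :=
  Lgr Lrot150 (Lpe (f321485 IH) (Lpe (f321486 IH) (Lpe (f310985 IH) (Lpr_gt (f311029 IH) (Lpe (f345397 IH) (Lpr_gt (f345424 IH) (Lpe (f356499 IH) (Lpr_df (f356656 IH) (Lpe (f356652 IH) (Lpn (LP (LK LD1_c26 LD2_c36 LD3_c29))))))))))))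
theorem f321488 : Led Lsl_dt (LP (LK LD1_c8 LD2_c53 LD3_c49)) = (LP (LK LD1_c16 LD2_c38 LD3_c24)) :=
  Lre_d IH (LK LD1_c8 LD2_c53 LD3_c49) (LK LD1_c16 LD2_c38 LD3_c24) Lrfl Lrfl
theorem f321492 : Led Lsl_ct (LP (LK LD1_c16 LD2_c38 LD3_c24)) = (LP (LK LD1_c26 LD2_c36 LD3_c30)) :=
  Lre_c IH (LK LD1_c16 LD2_c38 LD3_c24) (LK LD1_c26 LD2_c36 LD3_c30) Lrfl Lrfl
theorem f213521 : Led Lsl_dt (LP (LK LD1_c10 LD2_c37 LD3_c7)) = (LP (LK LD1_c5 LD2_c23 LD3_c17)) :=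
  Lre_d IH (LK LD1_c10 LD2_c37 LD3_c7) (LK LD1_c5 LD2_c23 LD3_c17) Lrfl Lrfl
theorem f254350 : Led Lsl_dt (LP (LK LD1_c2 LD2_c38 LD3_c2)) = (LP (LK LD1_c5 LD2_c23 LD3_c9)) :=
  Lre_d IH (LK LD1_c2 LD2_c38 LD3_c2) (LK LD1_c5 LD2_c23 LD3_c9) Lrfl Lrfl
theorem f311019 : Led Lsl_ct (LP (LK LD1_c5 LD2_c23 LD3_c9)) = (LP (LK LD1_c10 LD2_c36 LD3_c54)) :=
  Lre_c IH (LK LD1_c5 LD2_c23 LD3_c9) (LK LD1_c10 LD2_c36 LD3_c54) Lrfl Lrfl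
theorem f42433 : Led Lsl_dt (LP (LK LD1_c20 LD2_c57 LD3_c20)) = (LP (LK LD1_c11 LD2_c53 LD3_c38)) :=
  Lre_d IH (LK LD1_c20 LD2_c57 LD3_c20) (LK LD1_c11 LD2_c53 LD3_c38) Lrfl Lrfl
theorem f311191 : Led Lsl_ct (LP (LK LD1_c19 LD2_c13 LD3_c42)) = (LP (LK LD1_c20 LD2_c57 LD3_c20)) :=
  Lgr Lrot176 (Lpe (f311077 IH) (Lpe (f311019 IH) (Lpe (f254350 IH) (Lpe (f199047 IH) (Lpe (K19.f42523 IH) (Lpe (f182876 IH) (Lpe (f213521 IH) (Lpe (f311145 IH) (Lpr_df (f311184 IH) (Lpe (f42441 IH) (Lpe (f42440 IH) (Lpe (K18.f42439 IH) (Lpr_df (K15.f42428 IH) (Lpe (f42432 IH) (Lpe (f42433 IH) (Lpn (LP (LK LD1_c20 LD2_c57 LD3_c20))))))))))))))))))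
theorem f42442 : Led Lsl_ft (LP (LK LD1_c20 LD2_c57 LD3_c20)) = (LP (LK LD1_c11 LD2_c53 LD3_c37)) :=
  Lre_f IH (LK LD1_c20 LD2_c57 LD3_c20) (LK LD1_c11 LD2_c53 LD3_c37) Lrfl Lrfl
theorem f311200 : Led Lsl_ff (LP (LK LD1_c19 LD2_c13 LD3_c42)) = (LP (LK LD1_c20 LD2_c57 LD3_c19)) :=
  Lgr Lrot23 (Lpr_ct (f311191 IH) (Lpr_ft (f42442 IH) (Lpr_ct (K19.f42400 IH) (Lpn (LP (LK LD1_c20 LD2_c57 LD3_c19))))))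
theorem f311153 : Led Lsl_at (LP (LK LD1_c19 LD2_c14 LD3_c8)) = (LP (LK LD1_c20 LD2_c57 LD3_c19)) :=
  Lgr Lrot100 (Lpr_af (f311146 IH) (Lpn (LP (LK LD1_c20 LD2_c57 LD3_c19))))
theorem f311186 : Led Lsl_ft (LP (LK LD1_c28 LD2_c30 LD3_c11)) = (LP (LK LD1_c19 LD2_c3 LD3_c56)) :=
  Lre_f IH (LK LD1_c28 LD2_c30 LD3_c11) (LK LD1_c19 LD2_c3 LD3_c56) Lrfl Lrfl
theorem f311187 : Led Lsl_ff (LP (LK LD1_c19 LD2_c14 LD3_c8)) = (LP (LK LD1_c28 LD2_c30 LD3_c10)) :=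
  Lgr Lrot19 (Lpr_dt (f311156 IH) (Lpr_ft (f311186 IH) (Lpr_dt (K19.f42273 IH) (Lpn (LP (LK LD1_c28 LD2_c30 LD3_c10))))))
theorem f311210 : Led Lsl_at (LP (LK LD1_c19 LD2_c13 LD3_c42)) = (LP (LK LD1_c28 LD2_c30 LD3_c10)) :=
  Lgr Lrot66 (Lpr_ff (f311200 IH) (Lpe (f311153 IH) (Lpr_ff (f311187 IH) (Lpn (LP (LK LD1_c28 LD2_c30 LD3_c10))))))
theorem f321490 : Led Lsl_gf (LP (LK LD1_c28 LD2_c30 LD3_c10)) = (LP (LK LD1_c26 LD2_c36 LD3_c30)) :=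
  Lgr Lrot76 (Lpe (f311210 IH) (Lpr_ff (f311200 IH) (Lpr_gt (f321486 IH) (Lpn (LP (LK LD1_c26 LD2_c36 LD3_c30))))))
theorem f42464 : Led Lsl_dt (LP (LK LD1_c28 LD2_c30 LD3_c10)) = (LP (LK LD1_c19 LD2_c3 LD3_c56)) :=
  Lre_d IH (LK LD1_c28 LD2_c30 LD3_c10) (LK LD1_c19 LD2_c3 LD3_c56) Lrfl Lrfl
theorem f345361 : Led Lsl_dt (LP (LK LD1_c11 LD2_c53 LD3_c41)) = (LP (LK LD1_c20 LD2_c57 LD3_c24)) :=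
  Lre_d IH (LK LD1_c11 LD2_c53 LD3_c41) (LK LD1_c20 LD2_c57 LD3_c24) Lrfl Lrfl
theorem f356664 : Led Lsl_df (LP (LK LD1_c20 LD2_c55 LD3_c23)) = (LP (LK LD1_c26 LD2_c36 LD3_c29)) :=
  Lgr Lrot153 (Lpr_gt (f345379 IH) (Lpr_dt (f345361 IH) (Lpe (f345358 IH) (Lpe (f345370 IH) (Lpe (f311005 IH) (Lpe (f42464 IH) (Lpr_gf (f321490 IH) (Lpe (f321492 IH) (Lpr_gt (f356662 IH) (Lpn (LP (LK LD1_c26 LD2_c36 LD3_c29))))))))))))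
theorem f356666 : Led Lsl_gf (LP (LK LD1_c8 LD2_c53 LD3_c49)) = (LP (LK LD1_c16 LD2_c38 LD3_c21)) :=
  Lgr Lrot144 (Lpr_dt (f321488 IH) (Lpr_gt (f356662 IH) (Lpe (f356664 IH) (Lpr_cf (f343675 IH) (Lpe (f214045 IH) (Lpr_gf (f350661 IH) (Lpe (K24.f189166 IH) (Lpe (f350655 IH) (Lpr_cf (f356567 IH) (Lpn (LP (LK LD1_c16 LD2_c38 LD3_c21))))))))))))
theorem f356571 : Led Lsl_ct (LP (LK LD1_c9 LD2_c41 LD3_c5)) = (LP (LK LD1_c16 LD2_c38 LD3_c21)) :=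
  Lgr Lrot59 (Lpr_cf (f356567 IH) (Lpn (LP (LK LD1_c16 LD2_c38 LD3_c21))))
theorem f232181 : Led Lsl_bt (LP (LK LD1_c8 LD2_c17 LD3_c14)) = (LP (LK LD1_c15 LD2_c35 LD3_c2)) :=
  Lre_b IH (LK LD1_c8 LD2_c17 LD3_c14) (LK LD1_c15 LD2_c35 LD3_c2) Lrfl Lrfl
theorem f347923 : Led Lsl_ct (LP (LK LD1_c8 LD2_c17 LD3_c14)) = (LP (LK LD1_c8 LD2_c55 LD3_c61)) :=
  Lgr Lrot59 (Lpr_cf (f347921 IH) (Lpn (LP (LK LD1_c8 LD2_c55 LD3_c61))))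
theorem f356691 : Led Lsl_bt (LP (LK LD1_c4 LD2_c27 LD3_c56)) = (LP (LK LD1_c2 LD2_c11 LD3_c36)) :=
  Lgr Lrot22 (Lpr_ct (f321483 IH) (Lpr_gf (f356666 IH) (Lpe (f356571 IH) (Lpr_gf (f351495 IH) (Lpe (f232181 IH) (Lpr_ct (f347923 IH) (Lpe (f258668 IH) (Lpe (f197532 IH) (Lpr_bt (K19.f197526 IH) (Lpe (K19.f197584 IH) (Lpn (LP (LK LD1_c2 LD2_c11 LD3_c36)))))))))))))
theorem f41729 : Led Lsl_et (LP (LK LD1_c8 LD2_c53 LD3_c50)) = (LP (LK LD1_c4 LD2_c27 LD3_c56)) :=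
  Lre_e IH (LK LD1_c8 LD2_c53 LD3_c50) (LK LD1_c4 LD2_c27 LD3_c56) Lrfl Lrfl
theorem f356697 : Led Lsl_bf (LP (LK LD1_c8 LD2_c53 LD3_c50)) = (LP (LK LD1_c4 LD2_c29 LD3_c0)) :=
  Lgr Lrot96 (Lpr_et (f41729 IH) (Lpr_bt (f356691 IH) (Lpr_et (K22.f264549 IH) (Lpn (LP (LK LD1_c4 LD2_c29 LD3_c0))))))
theorem f264553 : Led Lsl_bt (LP (LK LD1_c11 LD2_c2 LD3_c21)) = (LP (LK LD1_c5 LD2_c35 LD3_c3)) :=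
  Lre_b IH (LK LD1_c11 LD2_c2 LD3_c21) (LK LD1_c5 LD2_c35 LD3_c3) Lrfl Lrfl
theorem f356701 : Led Lsl_dt (LP (LK LD1_c8 LD2_c53 LD3_c50)) = (LP (LK LD1_c11 LD2_c2 LD3_c21)) :=
  Lgr Lrot79 (Lpr_bf (f356697 IH) (Lpe (K22.f264556 IH) (Lpe (f264553 IH) (Lpn (LP (LK LD1_c11 LD2_c2 LD3_c21))))))
theorem f356708 : Led Lsl_gf (LP (LK LD1_c10 LD2_c47 LD3_c57)) = (LP (LK LD1_c11 LD2_c2 LD3_c21)) :=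
  Lgr Lrot145 (Lpr_df (K22.f316021 IH) (Lpr_et (K20.f316023 IH) (Lpe (K22.f316048 IH) (Lpr_dt (K21.f182312 IH) (Lpe (K21.f267038 IH) (Lpr_df (K14.f247373 IH) (Lpr_et (K22.f267079 IH) (Lpe (f284251 IH) (Lpe (f41729 IH) (Lpr_dt (f356701 IH) (Lpn (LP (LK LD1_c11 LD2_c2 LD3_c21)))))))))))))
theorem f316026 : Led Lsl_dt (LP (LK LD1_c20 LD2_c58 LD3_c56)) = (LP (LK LD1_c11 LD2_c54 LD3_c27)) :=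
  Lre_d IH (LK LD1_c20 LD2_c58 LD3_c56) (LK LD1_c11 LD2_c54 LD3_c27) Lrfl Lrfl
theorem f247385 : Led Lsl_dt (LP (LK LD1_c8 LD2_c54 LD3_c4)) = (LP (LK LD1_c16 LD2_c39 LD3_c6)) :=
  Lre_d IH (LK LD1_c8 LD2_c54 LD3_c4) (LK LD1_c16 LD2_c39 LD3_c6) Lrfl Lrfl
theorem f316040 : Led Lsl_ct (LP (LK LD1_c20 LD2_c58 LD3_c57)) = (LP (LK LD1_c11 LD2_c54 LD3_c28)) :=
  Lre_c IH (LK LD1_c20 LD2_c58 LD3_c57) (LK LD1_c11 LD2_c54 LD3_c28) Lrfl Lrfl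
theorem f247379 : Led Lsl_dt (LP (LK LD1_c16 LD2_c39 LD3_c6)) = (LP (LK LD1_c8 LD2_c54 LD3_c4)) :=
  Lre_d IH (LK LD1_c16 LD2_c39 LD3_c6) (LK LD1_c8 LD2_c54 LD3_c4) Lrfl Lrfl
theorem f354680 : Led Lsl_gf (LP (LK LD1_c16 LD2_c39 LD3_c6)) = (LP (LK LD1_c26 LD2_c33 LD3_c13)) :=
  Lgr Lrot143 (Lpr_dt (f247379 IH) (Lpe (f247369 IH) (Lpe (K14.f247381 IH) (Lpr_gf (K21.f267038 IH) (Lpe (K21.f182312 IH) (Lpr_gf (K22.f316048 IH) (Lpe (f316040 IH) (Lpr_gt (f354677 IH) (Lpe (f267294 IH) (Lpn (LP (LK LD1_c26 LD2_c33 LD3_c13))))))))))))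
theorem f354684 : Led Lsl_et (LP (LK LD1_c11 LD2_c54 LD3_c27)) = (LP (LK LD1_c20 LD2_c58 LD3_c57)) :=
  Lre_e IH (LK LD1_c11 LD2_c54 LD3_c27) (LK LD1_c20 LD2_c58 LD3_c57) Lrfl Lrfl
theorem f316019 : Led Lsl_dt (LP (LK LD1_c11 LD2_c54 LD3_c27)) = (LP (LK LD1_c20 LD2_c58 LD3_c56)) :=
  Lre_d IH (LK LD1_c11 LD2_c54 LD3_c27) (LK LD1_c20 LD2_c58 LD3_c56) Lrfl Lrfl
theorem f356051 : Led Lsl_gf (LP (LK LD1_c20 LD2_c58 LD3_c56)) = (LP (LK LD1_c26 LD2_c36 LD3_c13)) :=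
  Lgr Lrot145 (Lpe (f316019 IH) (Lpr_et (f354684 IH) (Lpr_gt (f354677 IH) (Lpe (f267294 IH) (Lpe (f354680 IH) (Lpe (f247385 IH) (Lpr_et (K22.f321500 IH) (Lpr_gt (f356043 IH) (Lpe (f329696 IH) (Lpr_dt (f329697 IH) (Lpn (LP (LK LD1_c26 LD2_c36 LD3_c13)))))))))))))
theorem f355995 : Led Lsl_ct (LP (LK LD1_c17 LD2_c48 LD3_c53)) = (LP (LK LD1_c16 LD2_c38 LD3_c16)) :=
  Lgr Lrot7 (Lpr_df (K24.f223938 IH) (Lpr_gf (K24.f350689 IH) (Lpe (K24.f350669 IH) (Lpe (K20.f292497 IH) (Lpr_cf (K20.f292568 IH) (Lpr_gt (f355993 IH) (Lpr_dt (f41721 IH) (Lpe (f355990 IH) (Lpr_dt (f355992 IH) (Lpn (LP (LK LD1_c16 LD2_c38 LD3_c16))))))))))))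
theorem f352910 : Led Lsl_bf (LP (LK LD1_c25 LD2_c26 LD3_c55)) = (LP (LK LD1_c17 LD2_c48 LD3_c53)) :=
  Lgr Lrot93 (Lpr_dt (K23.f189755 IH) (Lpr_bt (f352906 IH) (Lpe (K24.f223938 IH) (Lpn (LP (LK LD1_c17 LD2_c48 LD3_c53))))))
theorem f189682 : Led Lsl_gf (LP (LK LD1_c18 LD2_c52 LD3_c59)) = (LP (LK LD1_c25 LD2_c26 LD3_c55)) :=
  Lgr Lrot138 (Lpr_dt (K15.f32945 IH) (Lpr_gt (K15.f32942 IH) (Lpe (K10.f32119 IH) (Lpr_et (K10.f32118 IH) (Lpe (K10.f188520 IH) (Lpe (K23.f188058 IH) (Lpr_dt (K10.f188534 IH) (Lpr_gt (K23.f188546 IH) (Lpr_df (K23.f189679 IH) (Lpr_et (K23.f189681 IH) (Lpn (LP (LK LD1_c25 LD2_c26 LD3_c55)))))))))))))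
theorem f337808 : Led Lsl_ct (LP (LK LD1_c18 LD2_c52 LD3_c59)) = (LP (LK LD1_c26 LD2_c42 LD3_c15)) :=
  Lgr Lrot59 (Lpr_cf (K23.f337806 IH) (Lpn (LP (LK LD1_c26 LD2_c42 LD3_c15))))
theorem f337697 : Led Lsl_dt (LP (LK LD1_c19 LD2_c23 LD3_c16)) = (LP (LK LD1_c10 LD2_c42 LD3_c31)) :=
  Lre_d IH (LK LD1_c19 LD2_c23 LD3_c16) (LK LD1_c10 LD2_c42 LD3_c31) Lrfl Lrfl
theorem f352278 : Led Lsl_gt (LP (LK LD1_c15 LD2_c22 LD3_c39)) = (LP (LK LD1_c19 LD2_c23 LD3_c16)) :=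
  Lgr Lrot137 (Lpe (f313204 IH) (Lpr_dt (f352256 IH) (Lpe (f213910 IH) (Lpe (K13.f213923 IH) (Lpr_et (K22.f27732 IH) (Lpe (K12.f214094 IH) (Lpe (K12.f195839 IH) (Lpe (K20.f195944 IH) (Lpe (K22.f337775 IH) (Lpe (f337697 IH) (Lpn (LP (LK LD1_c19 LD2_c23 LD3_c16)))))))))))))
theorem f52992 : Led Lsl_dt (LP (LK LD1_c15 LD2_c22 LD3_c7)) = (LP (LK LD1_c8 LD2_c9 LD3_c32)) :=
  Lre_d IH (LK LD1_c15 LD2_c22 LD3_c7) (LK LD1_c8 LD2_c9 LD3_c32) Lrfl Lrfl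
theorem f238732 : Led Lsl_gt (LP (LK LD1_c26 LD2_c12 LD3_c18)) = (LP (LK LD1_c16 LD2_c14 LD3_c54)) :=
  Lre_g IH (LK LD1_c26 LD2_c12 LD3_c18) (LK LD1_c16 LD2_c14 LD3_c54) Lrfl Lrfl
theorem f328736 : Led Lsl_et (LP (LK LD1_c17 LD2_c41 LD3_c49)) = (LP (LK LD1_c9 LD2_c36 LD3_c31)) :=
  Lre_e IH (LK LD1_c17 LD2_c41 LD3_c49) (LK LD1_c9 LD2_c36 LD3_c31) Lrfl Lrfl
theorem f328737 : Led Lsl_df (LP (LK LD1_c26 LD2_c12 LD3_c18)) = (LP (LK LD1_c17 LD2_c41 LD3_c49)) :=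
  Lgr Lrot170 (Lpr_gt (f238732 IH) (Lpe (K16.f238731 IH) (Lpr_et (K23.f238730 IH) (Lpr_gt (K13.f238725 IH) (Lpe (K13.f238617 IH) (Lpe (K13.f39429 IH) (Lpe (K13.f38946 IH) (Lpr_et (K9.f38993 IH) (Lpr_gt (K22.f328693 IH) (Lpe (f328736 IH) (Lpn (LP (LK LD1_c17 LD2_c41 LD3_c49)))))))))))))
theorem f269568 : Led Lsl_gf (LP (LK LD1_c26 LD2_c12 LD3_c18)) = (LP (LK LD1_c27 LD2_c24 LD3_c53)) :=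
  Lgr Lrot47 (Lpr_gt (f238732 IH) (Lpr_af (K16.f269556 IH) (Lpe (K16.f269529 IH) (Lpn (LP (LK LD1_c27 LD2_c24 LD3_c53))))))
theorem f1561 : Led Lsl_ct (LP (LK LD1_c9 LD2_c36 LD3_c28)) = (LP (LK LD1_c17 LD2_c41 LD3_c44)) :=
  Lre_c IH (LK LD1_c9 LD2_c36 LD3_c28) (LK LD1_c17 LD2_c41 LD3_c44) Lrfl Lrfl
theorem f315408 : Led Lsl_ef (LP (LK LD1_c11 LD2_c9 LD3_c33)) = (LP (LK LD1_c17 LD2_c41 LD3_c44)) :=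
  Lgr Lrot28 (Lpr_ct (K22.f227026 IH) (Lpr_et (K22.f315405 IH) (Lpr_ct (f1561 IH) (Lpn (LP (LK LD1_c17 LD2_c41 LD3_c44))))))
theorem f39043 : Led Lsl_gt (LP (LK LD1_c24 LD2_c45 LD3_c41)) = (LP (LK LD1_c14 LD2_c58 LD3_c3)) :=
  Lre_g IH (LK LD1_c24 LD2_c45 LD3_c41) (LK LD1_c14 LD2_c58 LD3_c3) Lrfl Lrfl
theorem f39596 : Led Lsl_gf (LP (LK LD1_c24 LD2_c45 LD3_c41)) = (LP (LK LD1_c16 LD2_c14 LD3_c51)) :=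
  Lgr Lrot47 (Lpr_gt (f39043 IH) (Lpr_af (K9.f39581 IH) (Lpe (K18.f39561 IH) (Lpn (LP (LK LD1_c16 LD2_c14 LD3_c51))))))
theorem f328742 : Led Lsl_dt (LP (LK LD1_c17 LD2_c41 LD3_c44)) = (LP (LK LD1_c24 LD2_c45 LD3_c41)) :=
  Lgr Lrot56 (Lpe (f315408 IH) (Lpe (K22.f315828 IH) (Lpr_ef (K16.f269427 IH) (Lpr_dt (K16.f232338 IH) (Lpe (f269568 IH) (Lpr_df (f328737 IH) (Lpr_et (f328736 IH) (Lpe (K22.f328726 IH) (Lpr_dt (K13.f39111 IH) (Lpe (f39596 IH) (Lpn (LP (LK LD1_c24 LD2_c45 LD3_c41)))))))))))))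
theorem f237213 : Led Lsl_et (LP (LK LD1_c4 LD2_c3 LD3_c52)) = (LP (LK LD1_c8 LD2_c8 LD3_c6)) :=
  Lre_e IH (LK LD1_c4 LD2_c3 LD3_c52) (LK LD1_c8 LD2_c8 LD3_c6) Lrfl Lrfl
theorem f328749 : Led Lsl_gf (LP (LK LD1_c11 LD2_c9 LD3_c33)) = (LP (LK LD1_c8 LD2_c8 LD3_c6)) :=
  Lgr Lrot141 (Lpr_ef (f315408 IH) (Lpr_dt (f328742 IH) (Lpr_gt (f39043 IH) (Lpe (K9.f39017 IH) (Lpr_et (K18.f39016 IH) (Lpr_gt (K13.f39038 IH) (Lpr_dt (K13.f39040 IH) (Lpr_gt (K13.f237216 IH) (Lpe (K13.f229895 IH) (Lpr_et (f237213 IH) (Lpn (LP (LK LD1_c8 LD2_c8 LD3_c6)))))))))))))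
theorem f238543 : Led Lsl_ct (LP (LK LD1_c8 LD2_c9 LD3_c34)) = (LP (LK LD1_c15 LD2_c22 LD3_c8)) :=
  Lre_c IH (LK LD1_c8 LD2_c9 LD3_c34) (LK LD1_c15 LD2_c22 LD3_c8) Lrfl Lrfl
theorem f328753 : Led Lsl_gf (LP (LK LD1_c20 LD2_c3 LD3_c60)) = (LP (LK LD1_c15 LD2_c22 LD3_c8)) :=
  Lgr Lrot104 (Lpr_ct (K23.f200472 IH) (Lpe (K18.f179743 IH) (Lpe (K22.f227026 IH) (Lpr_gf (f328749 IH) (Lpe (K16.f226875 IH) (Lpe (K19.f226861 IH) (Lpr_df (K19.f226862 IH) (Lpe (K24.f310547 IH) (Lpr_ct (f238543 IH) (Lpn (LP (LK LD1_c15 LD2_c22 LD3_c8))))))))))))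
theorem f328755 : Led Lsl_gt (LP (LK LD1_c15 LD2_c18 LD3_c50)) = (LP (LK LD1_c16 LD2_c8 LD3_c24)) :=
  Lgr Lrot49 (Lpe (K18.f227017 IH) (Lpr_gf (f328753 IH) (Lpe (f238543 IH) (Lpe (K22.f328695 IH) (Lpe (K18.f227197 IH) (Lpe (K19.f269384 IH) (Lpr_dt (K14.f238712 IH) (Lpe (K16.f247367 IH) (Lpe (K16.f247375 IH) (Lpn (LP (LK LD1_c16 LD2_c8 LD3_c24))))))))))))
theorem f256702 : Led Lsl_et (LP (LK LD1_c8 LD2_c36 LD3_c52)) = (LP (LK LD1_c8 LD2_c7 LD3_c35)) :=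
  Lgr Lrot69 (Lpe (K23.f256700 IH) (Lpe (K16.f223603 IH) (Lpr_ff (K15.f256692 IH) (Lpe (K15.f200921 IH) (Lpe (K22.f256701 IH) (Lpn (LP (LK LD1_c8 LD2_c7 LD3_c35))))))))
theorem f327003 : Led Lsl_et (LP (LK LD1_c8 LD2_c9 LD3_c32)) = (LP (LK LD1_c15 LD2_c22 LD3_c8)) :=
  Lre_e IH (LK LD1_c8 LD2_c9 LD3_c32) (LK LD1_c15 LD2_c22 LD3_c8) Lrfl Lrfl
theorem f52994 : Led Lsl_dt (LP (LK LD1_c8 LD2_c9 LD3_c32)) = (LP (LK LD1_c15 LD2_c22 LD3_c7)) :=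
  Lre_d IH (LK LD1_c8 LD2_c9 LD3_c32) (LK LD1_c15 LD2_c22 LD3_c7) Lrfl Lrfl
theorem f328757 : Led Lsl_gt (LP (LK LD1_c25 LD2_c13 LD3_c40)) = (LP (LK LD1_c15 LD2_c22 LD3_c7)) :=
  Lgr Lrot112 (Lpr_df (K22.f313156 IH) (Lpr_et (K22.f313158 IH) (Lpe (K22.f313169 IH) (Lpe (f256702 IH) (Lpr_dt (K16.f269402 IH) (Lpe (f328755 IH) (Lpe (K18.f227017 IH) (Lpr_gf (f328753 IH) (Lpe (f327003 IH) (Lpr_dt (f52994 IH) (Lpn (LP (LK LD1_c15 LD2_c22 LD3_c7)))))))))))))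
theorem f338609 : Led Lsl_gf (LP (LK LD1_c15 LD2_c22 LD3_c42)) = (LP (LK LD1_c24 LD2_c58 LD3_c46)) :=
  Lgr Lrot144 (Lpe (K22.f313156 IH) (Lpr_gt (f328757 IH) (Lpr_dt (f52992 IH) (Lpe (K21.f27999 IH) (Lpe (K15.f28003 IH) (Lpe (K22.f328697 IH) (Lpr_df (K21.f310587 IH) (Lpr_gf (K22.f338607 IH) (Lpe (K19.f28040 IH) (Lpn (LP (LK LD1_c24 LD2_c58 LD3_c46))))))))))))
theorem f350327 : Led Lsl_bt (LP (LK LD1_c15 LD2_c31 LD3_c18)) = (LP (LK LD1_c15 LD2_c16 LD3_c20)) :=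
  Lgr Lrot127 (Lpr_bf (K24.f350325 IH) (Lpn (LP (LK LD1_c15 LD2_c16 LD3_c20))))
theorem f324172 : Led Lsl_ct (LP (LK LD1_c15 LD2_c31 LD3_c18)) = (LP (LK LD1_c25 LD2_c24 LD3_c21)) :=
  Lre_c IH (LK LD1_c15 LD2_c31 LD3_c18) (LK LD1_c25 LD2_c24 LD3_c21) Lrfl Lrfl
theorem f337698 : Led Lsl_bf (LP (LK LD1_c19 LD2_c23 LD3_c16)) = (LP (LK LD1_c18 LD2_c52 LD3_c59)) :=
  Lgr Lrot93 (Lpr_dt (f337697 IH) (Lpr_bt (K23.f337690 IH) (Lpr_dt (K23.f189684 IH) (Lpn (LP (LK LD1_c18 LD2_c52 LD3_c59))))))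
theorem f352280 : Led Lsl_gf (LP (LK LD1_c25 LD2_c24 LD3_c21)) = (LP (LK LD1_c26 LD2_c42 LD3_c15)) :=
  Lgr Lrot126 (Lpe (f324172 IH) (Lpr_bt (f350327 IH) (Lpe (K22.f328122 IH) (Lpr_ct (K19.f28039 IH) (Lpe (f338609 IH) (Lpe (K22.f313125 IH) (Lpr_bt (f313161 IH) (Lpr_gt (f352278 IH) (Lpr_bf (f337698 IH) (Lpr_ct (f337808 IH) (Lpn (LP (LK LD1_c26 LD2_c42 LD3_c15)))))))))))))
theorem f28044 : Led Lsl_dt (LP (LK LD1_c15 LD2_c9 LD3_c39)) = (LP (LK LD1_c8 LD2_c3 LD3_c7)) :=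
  Lre_d IH (LK LD1_c15 LD2_c9 LD3_c39) (LK LD1_c8 LD2_c3 LD3_c7) Lrfl Lrfl
theorem f329948 : Led Lsl_bt (LP (LK LD1_c8 LD2_c55 LD3_c41)) = (LP (LK LD1_c15 LD2_c9 LD3_c39)) :=
  Lgr Lrot95 (Lpe (K22.f44717 IH) (Lpr_bf (K22.f329942 IH) (Lpe (f28044 IH) (Lpn (LP (LK LD1_c15 LD2_c9 LD3_c39))))))
theorem f44713 : Led Lsl_ct (LP (LK LD1_c8 LD2_c55 LD3_c41)) = (LP (LK LD1_c16 LD2_c42 LD3_c44)) :=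
  Lre_c IH (LK LD1_c8 LD2_c55 LD3_c41) (LK LD1_c16 LD2_c42 LD3_c44) Lrfl Lrfl
theorem f356221 : Led Lsl_gt (LP (LK LD1_c16 LD2_c42 LD3_c44)) = (LP (LK LD1_c16 LD2_c38 LD3_c16)) :=
  Lgr Lrot65 (Lpe (f44713 IH) (Lpr_bt (f329948 IH) (Lpr_gf (K22.f328122 IH) (Lpe (f350327 IH) (Lpr_ct (f324172 IH) (Lpr_gf (f352280 IH) (Lpe (f337808 IH) (Lpr_gf (f189682 IH) (Lpr_bf (f352910 IH) (Lpr_ct (f355995 IH) (Lpn (LP (LK LD1_c16 LD2_c38 LD3_c16)))))))))))))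
theorem f44715 : Led Lsl_ct (LP (LK LD1_c16 LD2_c42 LD3_c44)) = (LP (LK LD1_c8 LD2_c55 LD3_c41)) :=
  Lre_c IH (LK LD1_c16 LD2_c42 LD3_c44) (LK LD1_c8 LD2_c55 LD3_c41) Lrfl Lrfl
theorem f356710 : Led Lsl_gt (LP (LK LD1_c8 LD2_c55 LD3_c41)) = (LP (LK LD1_c8 LD2_c53 LD3_c50)) :=
  Lgr Lrot94 (Lpe (f44715 IH) (Lpr_gt (f356221 IH) (Lpr_dt (f329697 IH) (Lpe (f356051 IH) (Lpr_dt (f316026 IH) (Lpe (K20.f8680 IH) (Lpe (K20.f316015 IH) (Lpr_gf (f356708 IH) (Lpe (f356701 IH) (Lpn (LP (LK LD1_c8 LD2_c53 LD3_c50))))))))))))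
theorem f41773 : Led Lsl_et (LP (LK LD1_c2 LD2_c58 LD3_c27)) = (LP (LK LD1_c6 LD2_c4 LD3_c33)) :=
  Lre_e IH (LK LD1_c2 LD2_c58 LD3_c27) (LK LD1_c6 LD2_c4 LD3_c33) Lrfl Lrfl
theorem f42210 : Led Lsl_gt (LP (LK LD1_c6 LD2_c4 LD3_c43)) = (LP (LK LD1_c2 LD2_c58 LD3_c32)) :=
  Lre_g IH (LK LD1_c6 LD2_c4 LD3_c43) (LK LD1_c2 LD2_c58 LD3_c32) Lrfl Lrfl
theorem f356703 : Led Lsl_df (LP (LK LD1_c8 LD2_c53 LD3_c50)) = (LP (LK LD1_c11 LD2_c2 LD3_c21)) :=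
  Lgr Lrot38 (Lpr_dt (f356701 IH) (Lpn (LP (LK LD1_c11 LD2_c2 LD3_c21))))
theorem f356714 : Led Lsl_ef (LP (LK LD1_c6 LD2_c4 LD3_c43)) = (LP (LK LD1_c11 LD2_c2 LD3_c21)) :=
  Lgr Lrot114 (Lpr_gt (f42210 IH) (Lpe (K20.f42249 IH) (Lpr_dt (K16.f42170 IH) (Lpr_gt (K9.f41808 IH) (Lpe (K20.f41805 IH) (Lpr_et (f41773 IH) (Lpe (K22.f329974 IH) (Lpr_dt (K22.f44717 IH) (Lpr_gt (f356710 IH) (Lpr_df (f356703 IH) (Lpn (LP (LK LD1_c11 LD2_c2 LD3_c21)))))))))))))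
theorem f356722 : Led Lsl_et (LP (LK LD1_c6 LD2_c4 LD3_c43)) = (LP (LK LD1_c11 LD2_c2 LD3_c21)) :=
  Lgr Lrot87 (Lpr_ef (f356714 IH) (Lpn (LP (LK LD1_c11 LD2_c2 LD3_c21))))
theorem f356705 : Led Lsl_et (LP (LK LD1_c4 LD2_c27 LD3_c56)) = (LP (LK LD1_c8 LD2_c53 LD3_c50)) :=
  Lre_e IH (LK LD1_c4 LD2_c27 LD3_c56) (LK LD1_c8 LD2_c53 LD3_c50) Lrfl Lrfl
theorem f264536 : Led Lsl_bt (LP (LK LD1_c2 LD2_c11 LD3_c35)) = (LP (LK LD1_c4 LD2_c28 LD3_c61)) :=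
  Lre_b IH (LK LD1_c2 LD2_c11 LD3_c35) (LK LD1_c4 LD2_c28 LD3_c61) Lrfl Lrfl
theorem f356695 : Led Lsl_df (LP (LK LD1_c4 LD2_c27 LD3_c56)) = (LP (LK LD1_c4 LD2_c28 LD3_c61)) :=
  Lgr Lrot12 (Lpr_bt (f356691 IH) (Lpr_dt (K22.f264547 IH) (Lpr_bt (f264536 IH) (Lpn (LP (LK LD1_c4 LD2_c28 LD3_c61))))))
theorem f264541 : Led Lsl_bt (LP (LK LD1_c2 LD2_c58 LD3_c56)) = (LP (LK LD1_c6 LD2_c5 LD3_c41)) :=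
  Lre_b IH (LK LD1_c2 LD2_c58 LD3_c56) (LK LD1_c6 LD2_c5 LD3_c41) Lrfl Lrfl
theorem f264542 : Led Lsl_bt (LP (LK LD1_c4 LD2_c28 LD3_c61)) = (LP (LK LD1_c2 LD2_c11 LD3_c35)) :=
  Lre_b IH (LK LD1_c4 LD2_c28 LD3_c61) (LK LD1_c2 LD2_c11 LD3_c35) Lrfl Lrfl
theorem f264543 : Led Lsl_et (LP (LK LD1_c6 LD2_c5 LD3_c41)) = (LP (LK LD1_c4 LD2_c28 LD3_c61)) :=
  Lgr Lrot74 (Lpe (f264541 IH) (Lpr_ef (K22.f264539 IH) (Lpe (f264542 IH) (Lpn (LP (LK LD1_c4 LD2_c28 LD3_c61))))))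
theorem f356720 : Led Lsl_dt (LP (LK LD1_c6 LD2_c4 LD3_c43)) = (LP (LK LD1_c6 LD2_c5 LD3_c41)) :=
  Lgr Lrot77 (Lpr_ef (f356714 IH) (Lpe (f356701 IH) (Lpe (f356705 IH) (Lpr_df (f356695 IH) (Lpe (f264543 IH) (Lpn (LP (LK LD1_c6 LD2_c5 LD3_c41))))))))
theorem f356730 : Led Lsl_gf (LP (LK LD1_c6 LD2_c5 LD3_c41)) = (LP (LK LD1_c4 LD2_c28 LD3_c20)) :=
  Lgr Lrot134 (Lpe (f356720 IH) (Lpr_et (f356722 IH) (Lpe (f356708 IH) (Lpe (K20.f310323 IH) (Lpr_dt (K22.f7869 IH) (Lpe (K22.f335994 IH) (Lpe (K21.f274555 IH) (Lpr_et (K22.f335998 IH) (Lpr_gt (K22.f223407 IH) (Lpr_dt (K17.f41557 IH) (Lpn (LP (LK LD1_c4 LD2_c28 LD3_c20)))))))))))))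
theorem f356732 : Led Lsl_dt (LP (LK LD1_c6 LD2_c5 LD3_c41)) = (LP (LK LD1_c6 LD2_c4 LD3_c43)) :=
  Lgr Lrot171 (Lpr_gf (f356730 IH) (Lpr_ef (K16.f223562 IH) (Lpr_dt (K14.f165487 IH) (Lpe (K9.f183910 IH) (Lpe (K10.f42211 IH) (Lpr_et (K13.f41760 IH) (Lpe (K9.f41271 IH) (Lpe (K21.f42208 IH) (Lpr_dt (K20.f42172 IH) (Lpe (f42210 IH) (Lpn (LP (LK LD1_c6 LD2_c4 LD3_c43)))))))))))))
theorem f42209 : Led Lsl_et (LP (LK LD1_c1 LD2_c15 LD3_c26)) = (LP (LK LD1_c2 LD2_c36 LD3_c55)) :=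
  Lre_e IH (LK LD1_c1 LD2_c15 LD3_c26) (LK LD1_c2 LD2_c36 LD3_c55) Lrfl Lrfl
theorem f356736 : Led Lsl_gf (LP (LK LD1_c4 LD2_c28 LD3_c61)) = (LP (LK LD1_c2 LD2_c36 LD3_c55)) :=
  Lgr Lrot141 (Lpe (f264543 IH) (Lpr_dt (f356732 IH) (Lpr_gt (f42210 IH) (Lpe (K20.f42172 IH) (Lpr_et (K21.f42208 IH) (Lpr_gt (K9.f41271 IH) (Lpr_dt (K12.f41270 IH) (Lpr_gt (K9.f41277 IH) (Lpe (K12.f42146 IH) (Lpr_et (f42209 IH) (Lpn (LP (LK LD1_c2 LD2_c36 LD3_c55)))))))))))))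
theorem f264530 : Led Lsl_bt (LP (LK LD1_c6 LD2_c5 LD3_c41)) = (LP (LK LD1_c2 LD2_c58 LD3_c56)) :=
  Lre_b IH (LK LD1_c6 LD2_c5 LD3_c41) (LK LD1_c2 LD2_c58 LD3_c56) Lrfl Lrfl
theorem f264537 : Led Lsl_ef (LP (LK LD1_c6 LD2_c5 LD3_c41)) = (LP (LK LD1_c4 LD2_c28 LD3_c61)) :=
  Lgr Lrot29 (Lpr_bt (f264530 IH) (Lpr_et (K22.f264534 IH) (Lpr_bt (f264536 IH) (Lpn (LP (LK LD1_c4 LD2_c28 LD3_c61))))))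
theorem f356734 : Led Lsl_df (LP (LK LD1_c4 LD2_c28 LD3_c61)) = (LP (LK LD1_c4 LD2_c27 LD3_c56)) :=
  Lgr Lrot70 (Lpe (f264537 IH) (Lpr_dt (f356732 IH) (Lpr_et (f356722 IH) (Lpe (f356703 IH) (Lpr_et (f41729 IH) (Lpn (LP (LK LD1_c4 LD2_c27 LD3_c56))))))))
theorem f41597 : Led Lsl_dt (LP (LK LD1_c8 LD2_c55 LD3_c38)) = (LP (LK LD1_c4 LD2_c28 LD3_c41)) :=
  Lre_d IH (LK LD1_c8 LD2_c55 LD3_c38) (LK LD1_c4 LD2_c28 LD3_c41) Lrfl Lrfl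
theorem f356748 : Led Lsl_gt (LP (LK LD1_c8 LD2_c53 LD3_c50)) = (LP (LK LD1_c8 LD2_c55 LD3_c38)) :=
  Lgr Lrot137 (Lpe (f356705 IH) (Lpe (f356734 IH) (Lpr_gf (f356736 IH) (Lpr_df (K15.f42149 IH) (Lpr_et (K21.f42295 IH) (Lpe (K9.f41807 IH) (Lpe (K1.f41708 IH) (Lpe (K1.f41608 IH) (Lpe (K22.f337684 IH) (Lpe (f41597 IH) (Lpn (LP (LK LD1_c8 LD2_c55 LD3_c38)))))))))))))
theorem f284210 : Led Lsl_et (LP (LK LD1_c2 LD2_c11 LD3_c6)) = (LP (LK LD1_c1 LD2_c2 LD3_c34)) :=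
  Lre_e IH (LK LD1_c2 LD2_c11 LD3_c6) (LK LD1_c1 LD2_c2 LD3_c34) Lrfl Lrfl
theorem f329681 : Led Lsl_gf (LP (LK LD1_c10 LD2_c22 LD3_c19)) = (LP (LK LD1_c10 LD2_c37 LD3_c2)) :=
  Lgr Lrot138 (Lpr_dt (K20.f278572 IH) (Lpr_gt (K20.f170046 IH) (Lpe (K19.f255000 IH) (Lpr_et (K19.f41732 IH) (Lpr_gt (K14.f41731 IH) (Lpe (f284210 IH) (Lpr_dt (K17.f231308 IH) (Lpr_gt (K21.f231373 IH) (Lpr_df (K21.f329664 IH) (Lpr_et (K21.f329678 IH) (Lpn (LP (LK LD1_c10 LD2_c37 LD3_c2)))))))))))))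
theorem f356706 : Led Lsl_gt (LP (LK LD1_c11 LD2_c54 LD3_c30)) = (LP (LK LD1_c11 LD2_c2 LD3_c21)) :=
  Lgr Lrot112 (Lpe (K20.f41715 IH) (Lpr_et (K20.f278573 IH) (Lpr_gf (f329681 IH) (Lpe (K21.f329678 IH) (Lpe (K21.f329664 IH) (Lpe (K21.f231373 IH) (Lpe (K17.f231308 IH) (Lpe (f41728 IH) (Lpe (f41729 IH) (Lpr_dt (f356701 IH) (Lpn (LP (LK LD1_c11 LD2_c2 LD3_c21)))))))))))))
theorem f278569 : Led Lsl_dt (LP (LK LD1_c10 LD2_c29 LD3_c35)) = (LP (LK LD1_c10 LD2_c22 LD3_c20)) :=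
  Lgr Lrot42 (Lpr_df (K20.f278566 IH) (Lpn (LP (LK LD1_c10 LD2_c22 LD3_c20))))
theorem f169395 : Led Lsl_dt (LP (LK LD1_c8 LD2_c33 LD3_c17)) = (LP (LK LD1_c4 LD2_c16 LD3_c56)) :=
  Lre_d IH (LK LD1_c8 LD2_c33 LD3_c17) (LK LD1_c4 LD2_c16 LD3_c56) Lrfl Lrfl
theorem f316093 : Led Lsl_et (LP (LK LD1_c16 LD2_c3 LD3_c34)) = (LP (LK LD1_c8 LD2_c33 LD3_c17)) :=
  Lre_e IH (LK LD1_c16 LD2_c3 LD3_c34) (LK LD1_c8 LD2_c33 LD3_c17) Lrfl Lrfl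
theorem f316072 : Led Lsl_et (LP (LK LD1_c5 LD2_c19 LD3_c19)) = (LP (LK LD1_c10 LD2_c28 LD3_c26)) :=
  Lre_e IH (LK LD1_c5 LD2_c19 LD3_c19) (LK LD1_c10 LD2_c28 LD3_c26) Lrfl Lrfl
theorem f316094 : Led Lsl_df (LP (LK LD1_c16 LD2_c3 LD3_c34)) = (LP (LK LD1_c10 LD2_c28 LD3_c26)) :=
  Lgr Lrot70 (Lpr_et (f316093 IH) (Lpr_dt (f169395 IH) (Lpr_et (K20.f316087 IH) (Lpe (K20.f316067 IH) (Lpr_et (f316072 IH) (Lpn (LP (LK LD1_c10 LD2_c28 LD3_c26))))))))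
theorem f169396 : Led Lsl_et (LP (LK LD1_c8 LD2_c33 LD3_c17)) = (LP (LK LD1_c16 LD2_c3 LD3_c34)) :=
  Lre_e IH (LK LD1_c8 LD2_c33 LD3_c17) (LK LD1_c16 LD2_c3 LD3_c34) Lrfl Lrfl
theorem f184524 : Led Lsl_gt (LP (LK LD1_c16 LD2_c3 LD3_c34)) = (LP (LK LD1_c10 LD2_c30 LD3_c28)) :=
  Lgr Lrot137 (Lpe (f169396 IH) (Lpr_dt (f169395 IH) (Lpe (K20.f169386 IH) (Lpr_df (K10.f169360 IH) (Lpr_et (K18.f169397 IH) (Lpr_gf (K9.f184226 IH) (Lpe (K1.f44751 IH) (Lpe (K1.f46064 IH) (Lpe (K20.f46071 IH) (Lpe (K20.f46072 IH) (Lpn (LP (LK LD1_c10 LD2_c30 LD3_c28)))))))))))))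
theorem f184526 : Led Lsl_et (LP (LK LD1_c5 LD2_c20 LD3_c14)) = (LP (LK LD1_c10 LD2_c30 LD3_c29)) :=
  Lre_e IH (LK LD1_c5 LD2_c20 LD3_c14) (LK LD1_c10 LD2_c30 LD3_c29) Lrfl Lrfl
theorem f300477 : Led Lsl_et (LP (LK LD1_c10 LD2_c28 LD3_c26)) = (LP (LK LD1_c5 LD2_c19 LD3_c19)) :=
  Lre_e IH (LK LD1_c10 LD2_c28 LD3_c26) (LK LD1_c5 LD2_c19 LD3_c19) Lrfl Lrfl
theorem f316143 : Led Lsl_gt (LP (LK LD1_c10 LD2_c30 LD3_c29)) = (LP (LK LD1_c10 LD2_c22 LD3_c20)) :=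
  Lgr Lrot137 (Lpe (f184526 IH) (Lpr_dt (K20.f46317 IH) (Lpe (f184524 IH) (Lpr_df (f316094 IH) (Lpr_et (f300477 IH) (Lpe (K20.f300470 IH) (Lpr_ef (K18.f300673 IH) (Lpr_dt (K19.f302833 IH) (Lpe (K19.f302812 IH) (Lpr_df (K20.f278566 IH) (Lpn (LP (LK LD1_c10 LD2_c22 LD3_c20)))))))))))))
theorem f356750 : Led Lsl_gf (LP (LK LD1_c15 LD2_c19 LD3_c20)) = (LP (LK LD1_c8 LD2_c55 LD3_c39)) :=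
  Lgr Lrot141 (Lpe (K20.f242956 IH) (Lpe (K20.f242954 IH) (Lpr_gt (f316143 IH) (Lpe (f278569 IH) (Lpr_et (K20.f256101 IH) (Lpr_gt (f356706 IH) (Lpe (f356703 IH) (Lpr_gt (f356748 IH) (Lpe (f41588 IH) (Lpr_et (f199141 IH) (Lpn (LP (LK LD1_c8 LD2_c55 LD3_c39)))))))))))))
theorem f266150 : Led Lsl_df (LP (LK LD1_c10 LD2_c14 LD3_c45)) = (LP (LK LD1_c15 LD2_c19 LD3_c20)) :=
  Lgr Lrot70 (Lpr_et (K23.f266148 IH) (Lpr_dt (K20.f46072 IH) (Lpr_et (f184526 IH) (Lpr_dt (K20.f242951 IH) (Lpr_et (K20.f242956 IH) (Lpn (LP (LK LD1_c15 LD2_c19 LD3_c20))))))))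
theorem f330410 : Led Lsl_gf (LP (LK LD1_c10 LD2_c3 LD3_c12)) = (LP (LK LD1_c10 LD2_c14 LD3_c45)) :=
  Lgr Lrot138 (Lpr_dt (K21.f329740 IH) (Lpr_gt (K21.f330403 IH) (Lpe (K20.f278563 IH) (Lpr_et (K20.f190746 IH) (Lpe (K10.f190742 IH) (Lpe (K22.f44101 IH) (Lpr_dt (K22.f46123 IH) (Lpe (K20.f46315 IH) (Lpe (K20.f46072 IH) (Lpe (K20.f266144 IH) (Lpn (LP (LK LD1_c10 LD2_c14 LD3_c45)))))))))))))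
theorem f356752 : Led Lsl_gf (LP (LK LD1_c6 LD2_c4 LD3_c43)) = (LP (LK LD1_c5 LD2_c24 LD3_c50)) :=
  Lgr Lrot141 (Lpr_ef (f356714 IH) (Lpe (f356703 IH) (Lpr_gt (f356748 IH) (Lpe (f41588 IH) (Lpr_et (f199141 IH) (Lpe (f356750 IH) (Lpe (f266150 IH) (Lpe (f330410 IH) (Lpr_df (K22.f329751 IH) (Lpe (K22.f330424 IH) (Lpn (LP (LK LD1_c5 LD2_c24 LD3_c50)))))))))))))
theorem f42251 : Led Lsl_ct (LP (LK LD1_c6 LD2_c4 LD3_c43)) = (LP (LK LD1_c11 LD2_c52 LD3_c60)) :=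
  Lre_c IH (LK LD1_c6 LD2_c4 LD3_c43) (LK LD1_c11 LD2_c52 LD3_c60) Lrfl Lrfl
theorem f318193 : Led Lsl_af (LP (LK LD1_c2 LD2_c37 LD3_c4)) = (LP (LK LD1_c1 LD2_c16 LD3_c19)) :=
  Lgr Lrot117 (Lpr_dt (K20.f42172 IH) (Lpr_at (K20.f318187 IH) (Lpr_dt (K21.f42552 IH) (Lpn (LP (LK LD1_c1 LD2_c16 LD3_c19))))))
theorem f318216 : Led Lsl_ft (LP (LK LD1_c2 LD2_c38 LD3_c58)) = (LP (LK LD1_c1 LD2_c16 LD3_c19)) :=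
  Lre_f IH (LK LD1_c2 LD2_c38 LD3_c58) (LK LD1_c1 LD2_c16 LD3_c19) Lrfl Lrfl
theorem f333836 : Led Lsl_gf (LP (LK LD1_c4 LD2_c30 LD3_c2)) = (LP (LK LD1_c2 LD2_c38 LD3_c58)) :=
  Lgr Lrot47 (Lpr_gt (K22.f333834 IH) (Lpr_af (f318193 IH) (Lpe (f318216 IH) (Lpn (LP (LK LD1_c2 LD2_c38 LD3_c58))))))
theorem f220781 : Led Lsl_ct (LP (LK LD1_c5 LD2_c20 LD3_c61)) = (LP (LK LD1_c10 LD2_c32 LD3_c2)) :=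
  Lre_c IH (LK LD1_c5 LD2_c20 LD3_c61) (LK LD1_c10 LD2_c32 LD3_c2) Lrfl Lrfl
theorem f220782 : Led Lsl_dt (LP (LK LD1_c8 LD2_c13 LD3_c16)) = (LP (LK LD1_c10 LD2_c32 LD3_c2)) :=
  Lgr Lrot42 (Lpr_df (K22.f220778 IH) (Lpn (LP (LK LD1_c10 LD2_c32 LD3_c2))))
theorem f220785 : Led Lsl_ct (LP (LK LD1_c15 LD2_c27 LD3_c48)) = (LP (LK LD1_c8 LD2_c13 LD3_c16)) :=
  Lre_c IH (LK LD1_c15 LD2_c27 LD3_c48) (LK LD1_c8 LD2_c13 LD3_c16) Lrfl Lrfl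
theorem f356754 : Led Lsl_gt (LP (LK LD1_c11 LD2_c52 LD3_c60)) = (LP (LK LD1_c15 LD2_c27 LD3_c48)) :=
  Lgr Lrot150 (Lpe (f42251 IH) (Lpr_gf (f356752 IH) (Lpe (K20.f194492 IH) (Lpe (f333836 IH) (Lpr_ct (K22.f264603 IH) (Lpr_gt (K22.f333814 IH) (Lpr_ct (f220781 IH) (Lpe (f220782 IH) (Lpe (f220785 IH) (Lpn (LP (LK LD1_c15 LD2_c27 LD3_c48))))))))))))
theorem f220780 : Led Lsl_ct (LP (LK LD1_c8 LD2_c13 LD3_c16)) = (LP (LK LD1_c15 LD2_c27 LD3_c48)) :=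
  Lre_c IH (LK LD1_c8 LD2_c13 LD3_c16) (LK LD1_c15 LD2_c27 LD3_c48) Lrfl Lrfl
theorem f347063 : Led Lsl_bt (LP (LK LD1_c6 LD2_c7 LD3_c0)) = (LP (LK LD1_c11 LD2_c56 LD3_c61)) :=
  Lre_b IH (LK LD1_c6 LD2_c7 LD3_c0) (LK LD1_c11 LD2_c56 LD3_c61) Lrfl Lrfl
theorem f356756 : Led Lsl_gt (LP (LK LD1_c10 LD2_c19 LD3_c29)) = (LP (LK LD1_c11 LD2_c56 LD3_c61)) :=
  Lgr Lrot164 (Lpr_bf (K22.f263522 IH) (Lpr_ct (f220780 IH) (Lpe (f356754 IH) (Lpe (f42251 IH) (Lpr_gf (f356752 IH) (Lpr_bf (K21.f194506 IH) (Lpr_ct (K22.f194508 IH) (Lpe (K23.f347169 IH) (Lpe (K23.f168957 IH) (Lpr_bt (f347063 IH) (Lpn (LP (LK LD1_c11 LD2_c56 LD3_c61)))))))))))))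
theorem f212253 : Led Lsl_et (LP (LK LD1_c5 LD2_c15 LD3_c0)) = (LP (LK LD1_c10 LD2_c19 LD3_c29)) :=
  Lre_e IH (LK LD1_c5 LD2_c15 LD3_c0) (LK LD1_c10 LD2_c19 LD3_c29) Lrfl Lrfl
theorem f199761 : Led Lsl_et (LP (LK LD1_c0 LD2_c57 LD3_c52)) = (LP (LK LD1_c2 LD2_c1 LD3_c40)) :=
  Lre_e IH (LK LD1_c0 LD2_c57 LD3_c52) (LK LD1_c2 LD2_c1 LD3_c40) Lrfl Lrfl
theorem f232138 : Led Lsl_dt (LP (LK LD1_c8 LD2_c11 LD3_c32)) = (LP (LK LD1_c4 LD2_c8 LD3_c35)) :=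
  Lgr Lrot77 (Lpe (K21.f194302 IH) (Lpr_df (K13.f232136 IH) (Lpe (f199761 IH) (Lpe (K13.f199687 IH) (Lpe (K20.f199749 IH) (Lpn (LP (LK LD1_c4 LD2_c8 LD3_c35))))))))
theorem f199754 : Led Lsl_gt (LP (LK LD1_c8 LD2_c17 LD3_c15)) = (LP (LK LD1_c4 LD2_c8 LD3_c35)) :=
  Lre_g IH (LK LD1_c8 LD2_c17 LD3_c15) (LK LD1_c4 LD2_c8 LD3_c35) Lrfl Lrfl
theorem f347051 : Led Lsl_bt (LP (LK LD1_c4 LD2_c4 LD3_c27)) = (LP (LK LD1_c8 LD2_c9 LD3_c51)) :=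
  Lre_b IH (LK LD1_c4 LD2_c4 LD3_c27) (LK LD1_c8 LD2_c9 LD3_c51) Lrfl Lrfl
theorem f347044 : Led Lsl_bt (LP (LK LD1_c11 LD2_c56 LD3_c61)) = (LP (LK LD1_c6 LD2_c7 LD3_c0)) :=
  Lre_b IH (LK LD1_c11 LD2_c56 LD3_c61) (LK LD1_c6 LD2_c7 LD3_c0) Lrfl Lrfl
theorem f347052 : Led Lsl_et (LP (LK LD1_c8 LD2_c9 LD3_c51)) = (LP (LK LD1_c11 LD2_c56 LD3_c61)) :=
  Lgr Lrot74 (Lpe (f347051 IH) (Lpr_ef (K23.f347049 IH) (Lpe (f347044 IH) (Lpn (LP (LK LD1_c11 LD2_c56 LD3_c61))))))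
theorem f356760 : Led Lsl_df (LP (LK LD1_c8 LD2_c17 LD3_c15)) = (LP (LK LD1_c8 LD2_c9 LD3_c51)) :=
  Lgr Lrot170 (Lpr_gt (f199754 IH) (Lpe (f232138 IH) (Lpr_et (K20.f194234 IH) (Lpr_gt (K13.f216136 IH) (Lpr_dt (K11.f49525 IH) (Lpr_gt (K12.f212245 IH) (Lpe (K15.f212244 IH) (Lpr_et (f212253 IH) (Lpr_gt (f356756 IH) (Lpe (f347052 IH) (Lpn (LP (LK LD1_c8 LD2_c9 LD3_c51)))))))))))))
theorem f356765 : Led Lsl_gt (LP (LK LD1_c8 LD2_c26 LD3_c22)) = (LP (LK LD1_c8 LD2_c9 LD3_c51)) :=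
  Lgr Lrot137 (Lpe (K10.f50877 IH) (Lpr_dt (K10.f50876 IH) (Lpe (K9.f45094 IH) (Lpe (K11.f45084 IH) (Lpr_et (K11.f50871 IH) (Lpe (K13.f216136 IH) (Lpe (K20.f194234 IH) (Lpr_dt (f232138 IH) (Lpe (f199754 IH) (Lpr_df (f356760 IH) (Lpn (LP (LK LD1_c8 LD2_c9 LD3_c51)))))))))))))
theorem f356668 : Led Lsl_gt (LP (LK LD1_c8 LD2_c53 LD3_c49)) = (LP (LK LD1_c16 LD2_c13 LD3_c37)) :=
  Lgr Lrot9 (Lpe (f321484 IH) (Lpr_gt (f356662 IH) (Lpr_ct (f356652 IH) (Lpe (f356650 IH) (Lpe (f352452 IH) (Lpe (f213514 IH) (Lpr_cf (f351489 IH) (Lpe (f351497 IH) (Lpe (K22.f187209 IH) (Lpn (LP (LK LD1_c16 LD2_c13 LD3_c37))))))))))))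
theorem f347054 : Led Lsl_ct (LP (LK LD1_c4 LD2_c4 LD3_c27)) = (LP (LK LD1_c8 LD2_c9 LD3_c52)) :=
  Lre_c IH (LK LD1_c4 LD2_c4 LD3_c27) (LK LD1_c8 LD2_c9 LD3_c52) Lrfl Lrfl
theorem f356771 : Led Lsl_gf (LP (LK LD1_c8 LD2_c7 LD3_c35)) = (LP (LK LD1_c8 LD2_c9 LD3_c52)) :=
  Lgr Lrot126 (Lpe (K15.f256636 IH) (Lpr_bt (K12.f198974 IH) (Lpe (f284251 IH) (Lpr_ct (f321483 IH) (Lpr_gt (f356668 IH) (Lpe (f187200 IH) (Lpr_bt (K24.f187198 IH) (Lpr_gt (f356765 IH) (Lpe (f347051 IH) (Lpr_ct (f347054 IH) (Lpn (LP (LK LD1_c8 LD2_c9 LD3_c52)))))))))))))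
theorem f256724 : Led Lsl_ft (LP (LK LD1_c4 LD2_c52 LD3_c47)) = (LP (LK LD1_c9 LD2_c37 LD3_c37)) :=
  Lre_f IH (LK LD1_c4 LD2_c52 LD3_c47) (LK LD1_c9 LD2_c37 LD3_c37) Lrfl Lrfl
theorem f356775 : Led Lsl_gt (LP (LK LD1_c4 LD2_c52 LD3_c47)) = (LP (LK LD1_c8 LD2_c9 LD3_c52)) :=
  Lgr Lrot5 (Lpr_ft (f256724 IH) (Lpr_at (K23.f256647 IH) (Lpr_gf (f356771 IH) (Lpn (LP (LK LD1_c8 LD2_c9 LD3_c52))))))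
theorem f170716 : Led Lsl_ct (LP (LK LD1_c2 LD2_c24 LD3_c8)) = (LP (LK LD1_c4 LD2_c52 LD3_c47)) :=
  Lre_c IH (LK LD1_c2 LD2_c24 LD3_c8) (LK LD1_c4 LD2_c52 LD3_c47) Lrfl Lrfl
theorem f347066 : Led Lsl_ct (LP (LK LD1_c8 LD2_c9 LD3_c52)) = (LP (LK LD1_c4 LD2_c4 LD3_c27)) :=
  Lre_c IH (LK LD1_c8 LD2_c9 LD3_c52) (LK LD1_c4 LD2_c4 LD3_c27) Lrfl Lrfl
theorem f346536 : Led Lsl_ct (LP (LK LD1_c11 LD2_c2 LD3_c54)) = (LP (LK LD1_c5 LD2_c35 LD3_c22)) :=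
  Lre_c IH (LK LD1_c11 LD2_c2 LD3_c54) (LK LD1_c5 LD2_c35 LD3_c22) Lrfl Lrfl
theorem f356779 : Led Lsl_gt (LP (LK LD1_c19 LD2_c10 LD3_c48)) = (LP (LK LD1_c11 LD2_c2 LD3_c54)) :=
  Lgr Lrot187 (Lpe (K19.f194741 IH) (Lpe (K19.f310567 IH) (Lpr_dt (K19.f187946 IH) (Lpr_gt (K19.f170729 IH) (Lpr_ct (f170716 IH) (Lpr_gt (f356775 IH) (Lpr_ct (f347066 IH) (Lpr_dt (K23.f347018 IH) (Lpe (f346536 IH) (Lpn (LP (LK LD1_c11 LD2_c2 LD3_c54))))))))))))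
theorem f194740 : Led Lsl_bt (LP (LK LD1_c10 LD2_c35 LD3_c21)) = (LP (LK LD1_c5 LD2_c22 LD3_c41)) :=
  Lre_b IH (LK LD1_c10 LD2_c35 LD3_c21) (LK LD1_c5 LD2_c22 LD3_c41) Lrfl Lrfl
theorem f42215 : Led Lsl_bt (LP (LK LD1_c11 LD2_c52 LD3_c43)) = (LP (LK LD1_c6 LD2_c4 LD3_c44)) :=
  Lre_b IH (LK LD1_c11 LD2_c52 LD3_c43) (LK LD1_c6 LD2_c4 LD3_c44) Lrfl Lrfl
theorem f42216 : Led Lsl_dt (LP (LK LD1_c10 LD2_c31 LD3_c43)) = (LP (LK LD1_c11 LD2_c52 LD3_c43)) :=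
  Lgr Lrot79 (Lpe (K20.f42214 IH) (Lpr_df (K20.f42192 IH) (Lpe (f42215 IH) (Lpn (LP (LK LD1_c11 LD2_c52 LD3_c43))))))
theorem f352734 : Led Lsl_gf (LP (LK LD1_c5 LD2_c22 LD3_c41)) = (LP (LK LD1_c5 LD2_c22 LD3_c22)) :=
  Lgr Lrot138 (Lpr_dt (K19.f194739 IH) (Lpe (f346479 IH) (Lpr_df (K23.f346249 IH) (Lpe (K23.f346207 IH) (Lpr_gt (K23.f346030 IH) (Lpe (K20.f318330 IH) (Lpr_dt (f42216 IH) (Lpe (f352616 IH) (Lpr_df (f352728 IH) (Lpr_et (f352730 IH) (Lpn (LP (LK LD1_c5 LD2_c22 LD3_c22)))))))))))))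
theorem f282963 : Led Lsl_ct (LP (LK LD1_c5 LD2_c28 LD3_c9)) = (LP (LK LD1_c10 LD2_c47 LD3_c35)) :=
  Lre_c IH (LK LD1_c5 LD2_c28 LD3_c9) (LK LD1_c10 LD2_c47 LD3_c35) Lrfl Lrfl
theorem f346383 : Led Lsl_ct (LP (LK LD1_c5 LD2_c35 LD3_c22)) = (LP (LK LD1_c11 LD2_c2 LD3_c54)) :=
  Lre_c IH (LK LD1_c5 LD2_c35 LD3_c22) (LK LD1_c11 LD2_c2 LD3_c54) Lrfl Lrfl
theorem f222169 : Led Lsl_ct (LP (LK LD1_c15 LD2_c41 LD3_c59)) = (LP (LK LD1_c8 LD2_c20 LD3_c27)) :=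
  Lre_c IH (LK LD1_c15 LD2_c41 LD3_c59) (LK LD1_c8 LD2_c20 LD3_c27) Lrfl Lrfl
theorem f222170 : Led Lsl_dt (LP (LK LD1_c25 LD2_c37 LD3_c39)) = (LP (LK LD1_c15 LD2_c41 LD3_c59)) :=
  Lre_d IH (LK LD1_c25 LD2_c37 LD3_c39) (LK LD1_c15 LD2_c41 LD3_c59) Lrfl Lrfl
theorem f353598 : Led Lsl_gt (LP (LK LD1_c25 LD2_c21 LD3_c24)) = (LP (LK LD1_c25 LD2_c37 LD3_c39)) :=
  Lgr Lrot49 (Lpe (K21.f325048 IH) (Lpr_gf (f325053 IH) (Lpr_cf (f353591 IH) (Lpr_gt (K19.f310794 IH) (Lpr_dt (K10.f194727 IH) (Lpr_gt (f339578 IH) (Lpe (K24.f222171 IH) (Lpe (f222169 IH) (Lpe (f222170 IH) (Lpn (LP (LK LD1_c25 LD2_c37 LD3_c39))))))))))))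
theorem f353600 : Led Lsl_ft (LP (LK LD1_c25 LD2_c21 LD3_c24)) = (LP (LK LD1_c15 LD2_c28 LD3_c56)) :=
  Lre_f IH (LK LD1_c25 LD2_c21 LD3_c24) (LK LD1_c15 LD2_c28 LD3_c56) Lrfl Lrfl
theorem f325069 : Led Lsl_at (LP (LK LD1_c15 LD2_c28 LD3_c56)) = (LP (LK LD1_c17 LD2_c49 LD3_c60)) :=
  Lgr Lrot100 (Lpr_af (K21.f325067 IH) (Lpn (LP (LK LD1_c17 LD2_c49 LD3_c60))))
theorem f353601 : Led Lsl_gf (LP (LK LD1_c17 LD2_c49 LD3_c60)) = (LP (LK LD1_c25 LD2_c37 LD3_c39)) :=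
  Lgr Lrot76 (Lpe (f325069 IH) (Lpe (f353600 IH) (Lpr_gt (f353598 IH) (Lpn (LP (LK LD1_c25 LD2_c37 LD3_c39))))))
theorem f216114 : Led Lsl_dt (LP (LK LD1_c9 LD2_c41 LD3_c38)) = (LP (LK LD1_c17 LD2_c49 LD3_c60)) :=
  Lre_d IH (LK LD1_c9 LD2_c41 LD3_c38) (LK LD1_c17 LD2_c49 LD3_c60) Lrfl Lrfl
theorem f253207 : Led Lsl_et (LP (LK LD1_c7 LD2_c57 LD3_c37)) = (LP (LK LD1_c15 LD2_c0 LD3_c56)) :=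
  Lre_e IH (LK LD1_c7 LD2_c57 LD3_c37) (LK LD1_c15 LD2_c0 LD3_c56) Lrfl Lrfl
theorem f222179 : Led Lsl_dt (LP (LK LD1_c15 LD2_c41 LD3_c59)) = (LP (LK LD1_c25 LD2_c37 LD3_c39)) :=
  Lre_d IH (LK LD1_c15 LD2_c41 LD3_c59) (LK LD1_c25 LD2_c37 LD3_c39) Lrfl Lrfl
theorem f353605 : Led Lsl_gt (LP (LK LD1_c15 LD2_c0 LD3_c56)) = (LP (LK LD1_c15 LD2_c41 LD3_c59)) :=
  Lgr Lrot137 (Lpe (f253207 IH) (Lpr_dt (K18.f199611 IH) (Lpr_gf (K16.f253203 IH) (Lpe (K16.f48084 IH) (Lpr_et (K11.f54380 IH) (Lpr_gf (K13.f214077 IH) (Lpe (K21.f216113 IH) (Lpr_dt (f216114 IH) (Lpr_gf (f353601 IH) (Lpe (f222179 IH) (Lpn (LP (LK LD1_c15 LD2_c41 LD3_c59)))))))))))))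
theorem f356785 : Led Lsl_bf (LP (LK LD1_c8 LD2_c17 LD3_c15)) = (LP (LK LD1_c5 LD2_c35 LD3_c22)) :=
  Lgr Lrot156 (Lpr_gt (f199754 IH) (Lpe (K20.f199706 IH) (Lpr_ct (f199708 IH) (Lpr_gt (f353605 IH) (Lpe (f170833 IH) (Lpr_bt (f352521 IH) (Lpr_gt (K19.f310567 IH) (Lpr_ct (K19.f194741 IH) (Lpr_gt (f356779 IH) (Lpe (f346383 IH) (Lpn (LP (LK LD1_c5 LD2_c35 LD3_c22)))))))))))))
theorem f199716 : Led Lsl_ct (LP (LK LD1_c4 LD2_c8 LD3_c35)) = (LP (LK LD1_c8 LD2_c17 LD3_c13)) :=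
  Lre_c IH (LK LD1_c4 LD2_c8 LD3_c35) (LK LD1_c8 LD2_c17 LD3_c13) Lrfl Lrfl
theorem f356787 : Led Lsl_gf (LP (LK LD1_c10 LD2_c47 LD3_c35)) = (LP (LK LD1_c8 LD2_c17 LD3_c13)) :=
  Lgr Lrot129 (Lpe (f282963 IH) (Lpr_bt (f352746 IH) (Lpe (f352734 IH) (Lpe (f194740 IH) (Lpr_ct (K19.f194741 IH) (Lpr_gt (f356779 IH) (Lpe (f346383 IH) (Lpe (f356785 IH) (Lpr_gt (f199754 IH) (Lpr_ct (f199716 IH) (Lpn (LP (LK LD1_c8 LD2_c17 LD3_c13)))))))))))))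
theorem f282964 : Led Lsl_ct (LP (LK LD1_c10 LD2_c47 LD3_c35)) = (LP (LK LD1_c5 LD2_c28 LD3_c9)) :=
  Lre_c IH (LK LD1_c10 LD2_c47 LD3_c35) (LK LD1_c5 LD2_c28 LD3_c9) Lrfl Lrfl
theorem f231741 : Led Lsl_ct (LP (LK LD1_c8 LD2_c15 LD3_c14)) = (LP (LK LD1_c15 LD2_c31 LD3_c16)) :=
  Lre_c IH (LK LD1_c8 LD2_c15 LD3_c14) (LK LD1_c15 LD2_c31 LD3_c16) Lrfl Lrfl
theorem f283072 : Led Lsl_ef (LP (LK LD1_c10 LD2_c47 LD3_c35)) = (LP (LK LD1_c15 LD2_c31 LD3_c16)) :=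
  Lgr Lrot28 (Lpr_ct (f282964 IH) (Lpr_et (K23.f283070 IH) (Lpr_ct (f231741 IH) (Lpn (LP (LK LD1_c15 LD2_c31 LD3_c16))))))
theorem f234116 : Led Lsl_et (LP (LK LD1_c4 LD2_c8 LD3_c34)) = (LP (LK LD1_c8 LD2_c17 LD3_c13)) :=
  Lre_e IH (LK LD1_c4 LD2_c8 LD3_c34) (LK LD1_c8 LD2_c17 LD3_c13) Lrfl Lrfl
theorem f50205 : Led Lsl_et (LP (LK LD1_c8 LD2_c6 LD3_c19)) = (LP (LK LD1_c4 LD2_c2 LD3_c52)) :=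
  Lre_e IH (LK LD1_c8 LD2_c6 LD3_c19) (LK LD1_c4 LD2_c2 LD3_c52) Lrfl Lrfl
theorem f50206 : Led Lsl_dt (LP (LK LD1_c8 LD2_c6 LD3_c19)) = (LP (LK LD1_c15 LD2_c15 LD3_c37)) :=
  Lre_d IH (LK LD1_c8 LD2_c6 LD3_c19) (LK LD1_c15 LD2_c15 LD3_c37) Lrfl Lrfl
theorem f50207 : Led Lsl_gt (LP (LK LD1_c25 LD2_c5 LD3_c3)) = (LP (LK LD1_c15 LD2_c15 LD3_c37)) :=
  Lre_g IH (LK LD1_c25 LD2_c5 LD3_c3) (LK LD1_c15 LD2_c15 LD3_c37) Lrfl Lrfl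
theorem f356790 : Led Lsl_dt (LP (LK LD1_c15 LD2_c31 LD3_c16)) = (LP (LK LD1_c25 LD2_c5 LD3_c3)) :=
  Lgr Lrot136 (Lpe (f283072 IH) (Lpr_gf (f356787 IH) (Lpe (f234116 IH) (Lpr_dt (K13.f233929 IH) (Lpe (K13.f51391 IH) (Lpe (K12.f50189 IH) (Lpe (K13.f50204 IH) (Lpe (f50205 IH) (Lpr_dt (f50206 IH) (Lpe (f50207 IH) (Lpn (LP (LK LD1_c25 LD2_c5 LD3_c3)))))))))))))
theorem f214720 : Led Lsl_et (LP (LK LD1_c5 LD2_c17 LD3_c15)) = (LP (LK LD1_c10 LD2_c24 LD3_c5)) :=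
  Lre_e IH (LK LD1_c5 LD2_c17 LD3_c15) (LK LD1_c10 LD2_c24 LD3_c5) Lrfl Lrfl
theorem f356799 : Led Lsl_gf (LP (LK LD1_c15 LD2_c31 LD3_c16)) = (LP (LK LD1_c10 LD2_c24 LD3_c5)) :=
  Lgr Lrot138 (Lpr_dt (f356790 IH) (Lpr_gt (f50207 IH) (Lpe (f50206 IH) (Lpr_et (f50205 IH) (Lpr_gt (K13.f50204 IH) (Lpr_ef (K9.f50164 IH) (Lpr_dt (K9.f49790 IH) (Lpr_gt (K10.f49673 IH) (Lpr_df (K13.f214711 IH) (Lpr_et (f214720 IH) (Lpn (LP (LK LD1_c10 LD2_c24 LD3_c5)))))))))))))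
theorem f348308 : Led Lsl_dt (LP (LK LD1_c15 LD2_c15 LD3_c37)) = (LP (LK LD1_c8 LD2_c6 LD3_c19)) :=
  Lre_d IH (LK LD1_c15 LD2_c15 LD3_c37) (LK LD1_c8 LD2_c6 LD3_c19) Lrfl Lrfl
theorem f356804 : Led Lsl_cf (LP (LK LD1_c8 LD2_c6 LD3_c19)) = (LP (LK LD1_c9 LD2_c51 LD3_c28)) :=
  Lgr Lrot14 (Lpe (f348308 IH) (Lpe (f50207 IH) (Lpe (f356790 IH) (Lpr_gf (f356799 IH) (Lpr_ct (K24.f217516 IH) (Lpr_gt (K23.f54045 IH) (Lpr_dt (K23.f232119 IH) (Lpr_gt (K23.f212256 IH) (Lpe (K22.f232110 IH) (Lpn (LP (LK LD1_c9 LD2_c51 LD3_c28))))))))))))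
theorem f348195 : Led Lsl_bt (LP (LK LD1_c4 LD2_c10 LD3_c59)) = (LP (LK LD1_c8 LD2_c21 LD3_c46)) :=
  Lre_b IH (LK LD1_c4 LD2_c10 LD3_c59) (LK LD1_c8 LD2_c21 LD3_c46) Lrfl Lrfl
theorem f348250 : Led Lsl_gt (LP (LK LD1_c5 LD2_c28 LD3_c55)) = (LP (LK LD1_c5 LD2_c36 LD3_c23)) :=
  Lgr Lrot149 (Lpr_cf (K19.f305095 IH) (Lpe (K19.f305098 IH) (Lpe (K19.f305100 IH) (Lpr_ct (K19.f305103 IH) (Lpr_gf (K21.f309970 IH) (Lpr_cf (K12.f228143 IH) (Lpr_bt (K12.f228042 IH) (Lpr_gf (f348246 IH) (Lpe (f348195 IH) (Lpr_ct (K23.f348208 IH) (Lpn (LP (LK LD1_c5 LD2_c36 LD3_c23)))))))))))))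
theorem f344775 : Led Lsl_bt (LP (LK LD1_c11 LD2_c2 LD3_c56)) = (LP (LK LD1_c15 LD2_c1 LD3_c24)) :=
  Lgr Lrot127 (Lpr_bf (K23.f344773 IH) (Lpn (LP (LK LD1_c15 LD2_c1 LD3_c24))))
theorem f228082 : Led Lsl_gt (LP (LK LD1_c8 LD2_c55 LD3_c44)) = (LP (LK LD1_c16 LD2_c42 LD3_c50)) :=
  Lre_g IH (LK LD1_c8 LD2_c55 LD3_c44) (LK LD1_c16 LD2_c42 LD3_c50) Lrfl Lrfl
theorem f348277 : Led Lsl_ct (LP (LK LD1_c11 LD2_c2 LD3_c56)) = (LP (LK LD1_c16 LD2_c42 LD3_c50)) :=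
  Lgr Lrot63 (Lpr_bt (f344775 IH) (Lpe (f254086 IH) (Lpe (K18.f254079 IH) (Lpe (K19.f305095 IH) (Lpr_gt (f348250 IH) (Lpe (K23.f348208 IH) (Lpr_bt (f348195 IH) (Lpe (f348246 IH) (Lpr_ct (K15.f197620 IH) (Lpr_gt (f228082 IH) (Lpn (LP (LK LD1_c16 LD2_c42 LD3_c50)))))))))))))
theorem f344782 : Led Lsl_dt (LP (LK LD1_c9 LD2_c36 LD3_c50)) = (LP (LK LD1_c17 LD2_c42 LD3_c13)) :=
  Lre_d IH (LK LD1_c9 LD2_c36 LD3_c50) (LK LD1_c17 LD2_c42 LD3_c13) Lrfl Lrfl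
theorem f344800 : Led Lsl_et (LP (LK LD1_c18 LD2_c52 LD3_c58)) = (LP (LK LD1_c11 LD2_c2 LD3_c56)) :=
  Lgr Lrot71 (Lpe (K23.f32944 IH) (Lpr_ef (K23.f344794 IH) (Lpe (f344782 IH) (Lpe (K23.f344781 IH) (Lpe (K23.f344777 IH) (Lpn (LP (LK LD1_c11 LD2_c2 LD3_c56))))))))
theorem f348284 : Led Lsl_et (LP (LK LD1_c16 LD2_c42 LD3_c50)) = (LP (LK LD1_c26 LD2_c41 LD3_c37)) :=
  Lre_e IH (LK LD1_c16 LD2_c42 LD3_c50) (LK LD1_c26 LD2_c41 LD3_c37) Lrfl Lrfl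
theorem f348285 : Led Lsl_cf (LP (LK LD1_c18 LD2_c52 LD3_c58)) = (LP (LK LD1_c26 LD2_c41 LD3_c37)) :=
  Lgr Lrot39 (Lpr_et (f344800 IH) (Lpr_ct (f348277 IH) (Lpr_et (f348284 IH) (Lpn (LP (LK LD1_c26 LD2_c41 LD3_c37))))))
theorem f337794 : Led Lsl_gf (LP (LK LD1_c8 LD2_c15 LD3_c38)) = (LP (LK LD1_c10 LD2_c49 LD3_c59)) :=
  Lgr Lrot129 (Lpe (K12.f49776 IH) (Lpe (K9.f50354 IH) (Lpr_gt (K19.f28037 IH) (Lpe (K23.f329944 IH) (Lpr_ct (K23.f41592 IH) (Lpr_gt (K23.f329994 IH) (Lpr_cf (K17.f220811 IH) (Lpe (K23.f222442 IH) (Lpr_gt (K15.f222446 IH) (Lpr_ct (K23.f337782 IH) (Lpn (LP (LK LD1_c10 LD2_c49 LD3_c59)))))))))))))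
theorem f217273 : Led Lsl_at (LP (LK LD1_c15 LD2_c16 LD3_c2)) = (LP (LK LD1_c10 LD2_c49 LD3_c61)) :=
  Lgr Lrot100 (Lpr_af (K20.f217202 IH) (Lpn (LP (LK LD1_c10 LD2_c49 LD3_c61))))
theorem f50213 : Led Lsl_ff (LP (LK LD1_c15 LD2_c16 LD3_c2)) = (LP (LK LD1_c15 LD2_c31 LD3_c61)) :=
  Lgr Lrot19 (Lpr_dt (K9.f28088 IH) (Lpr_ft (K9.f50198 IH) (Lpr_dt (K9.f49756 IH) (Lpn (LP (LK LD1_c15 LD2_c31 LD3_c61))))))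
theorem f216898 : Led Lsl_gt (LP (LK LD1_c19 LD2_c34 LD3_c60)) = (LP (LK LD1_c10 LD2_c49 LD3_c61)) :=
  Lre_g IH (LK LD1_c19 LD2_c34 LD3_c60) (LK LD1_c10 LD2_c49 LD3_c61) Lrfl Lrfl
theorem f217285 : Led Lsl_gt (LP (LK LD1_c15 LD2_c31 LD3_c61)) = (LP (LK LD1_c19 LD2_c34 LD3_c60)) :=
  Lgr Lrot5 (Lpe (f50213 IH) (Lpr_at (f217273 IH) (Lpe (f216898 IH) (Lpn (LP (LK LD1_c19 LD2_c34 LD3_c60))))))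
theorem f348289 : Led Lsl_dt (LP (LK LD1_c19 LD2_c34 LD3_c60)) = (LP (LK LD1_c26 LD2_c41 LD3_c37)) :=
  Lgr Lrot105 (Lpe (f217285 IH) (Lpe (K9.f49756 IH) (Lpr_gf (f337794 IH) (Lpe (K23.f337782 IH) (Lpr_gt (K15.f32942 IH) (Lpr_dt (K10.f32119 IH) (Lpr_gt (K23.f32943 IH) (Lpr_dt (K23.f32944 IH) (Lpr_cf (f348285 IH) (Lpn (LP (LK LD1_c26 LD2_c41 LD3_c37))))))))))))
theorem f348291 : Led Lsl_df (LP (LK LD1_c19 LD2_c34 LD3_c60)) = (LP (LK LD1_c26 LD2_c41 LD3_c37)) :=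
  Lgr Lrot38 (Lpr_dt (f348289 IH) (Lpn (LP (LK LD1_c26 LD2_c41 LD3_c37))))
theorem f216902 : Led Lsl_gt (LP (LK LD1_c15 LD2_c15 LD3_c37)) = (LP (LK LD1_c25 LD2_c5 LD3_c2)) :=
  Lre_g IH (LK LD1_c15 LD2_c15 LD3_c37) (LK LD1_c25 LD2_c5 LD3_c2) Lrfl Lrfl
theorem f196390 : Led Lsl_gt (LP (LK LD1_c2 LD2_c39 LD3_c21)) = (LP (LK LD1_c5 LD2_c25 LD3_c58)) :=
  Lre_g IH (LK LD1_c2 LD2_c39 LD3_c21) (LK LD1_c5 LD2_c25 LD3_c58) Lrfl Lrfl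
theorem f323437 : Led Lsl_dt (LP (LK LD1_c2 LD2_c40 LD3_c21)) = (LP (LK LD1_c5 LD2_c28 LD3_c6)) :=
  Lre_d IH (LK LD1_c2 LD2_c40 LD3_c21) (LK LD1_c5 LD2_c28 LD3_c6) Lrfl Lrfl
theorem f340837 : Led Lsl_ef (LP (LK LD1_c5 LD2_c25 LD3_c58)) = (LP (LK LD1_c2 LD2_c40 LD3_c21)) :=
  Lgr Lrot17 (Lpe (f196390 IH) (Lpe (K15.f196389 IH) (Lpr_dt (K15.f190963 IH) (Lpe (K10.f196357 IH) (Lpe (K14.f45101 IH) (Lpe (K10.f753 IH) (Lpe (K17.f45377 IH) (Lpe (K17.f220593 IH) (Lpr_gf (f340832 IH) (Lpe (f323437 IH) (Lpn (LP (LK LD1_c2 LD2_c40 LD3_c21)))))))))))))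
theorem f295748 : Led Lsl_dt (LP (LK LD1_c2 LD2_c41 LD3_c24)) = (LP (LK LD1_c5 LD2_c30 LD3_c17)) :=
  Lre_d IH (LK LD1_c2 LD2_c41 LD3_c24) (LK LD1_c5 LD2_c30 LD3_c17) Lrfl Lrfl
theorem f245815 : Led Lsl_ct (LP (LK LD1_c5 LD2_c30 LD3_c9)) = (LP (LK LD1_c2 LD2_c41 LD3_c24)) :=
  Lre_c IH (LK LD1_c5 LD2_c30 LD3_c9) (LK LD1_c2 LD2_c41 LD3_c24) Lrfl Lrfl
theorem f197568 : Led Lsl_ct (LP (LK LD1_c4 LD2_c28 LD3_c54)) = (LP (LK LD1_c8 LD2_c56 LD3_c2)) :=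
  Lre_c IH (LK LD1_c4 LD2_c28 LD3_c54) (LK LD1_c8 LD2_c56 LD3_c2) Lrfl Lrfl
theorem f309493 : Led Lsl_et (LP (LK LD1_c2 LD2_c41 LD3_c24)) = (LP (LK LD1_c4 LD2_c28 LD3_c54)) :=
  Lgr Lrot158 (Lpe (f245815 IH) (Lpr_ef (K19.f309490 IH) (Lpe (f197568 IH) (Lpn (LP (LK LD1_c4 LD2_c28 LD3_c54))))))
theorem f323428 : Led Lsl_gt (LP (LK LD1_c4 LD2_c28 LD3_c54)) = (LP (LK LD1_c5 LD2_c28 LD3_c6)) :=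
  Lgr Lrot137 (Lpe (f309493 IH) (Lpr_dt (f295748 IH) (Lpr_gf (K21.f323424 IH) (Lpe (K21.f323405 IH) (Lpr_et (K21.f220176 IH) (Lpe (K17.f283094 IH) (Lpr_ef (K17.f283014 IH) (Lpe (K18.f282938 IH) (Lpe (K23.f244893 IH) (Lpe (K23.f282967 IH) (Lpn (LP (LK LD1_c5 LD2_c28 LD3_c6)))))))))))))
theorem f340845 : Led Lsl_gt (LP (LK LD1_c5 LD2_c25 LD3_c58)) = (LP (LK LD1_c8 LD2_c28 LD3_c45)) :=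
  Lgr Lrot137 (Lpr_ef (f340837 IH) (Lpr_dt (f323437 IH) (Lpe (f323428 IH) (Lpe (K19.f197559 IH) (Lpr_et (K23.f285724 IH) (Lpe (f339227 IH) (Lpr_ef (K20.f282552 IH) (Lpe (K20.f282502 IH) (Lpe (K20.f213272 IH) (Lpr_df (K23.f258794 IH) (Lpn (LP (LK LD1_c8 LD2_c28 LD3_c45)))))))))))))
theorem f213372 : Led Lsl_gt (LP (LK LD1_c10 LD2_c56 LD3_c41)) = (LP (LK LD1_c19 LD2_c44 LD3_c45)) :=
  Lre_g IH (LK LD1_c10 LD2_c56 LD3_c41) (LK LD1_c19 LD2_c44 LD3_c45) Lrfl Lrfl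
theorem f340847 : Led Lsl_df (LP (LK LD1_c5 LD2_c25 LD3_c58)) = (LP (LK LD1_c8 LD2_c15 LD3_c15)) :=
  Lgr Lrot153 (Lpr_gt (f340845 IH) (Lpe (K23.f258794 IH) (Lpe (K20.f213247 IH) (Lpe (K20.f213370 IH) (Lpe (f213372 IH) (Lpr_df (K23.f337732 IH) (Lpe (K23.f282406 IH) (Lpe (K17.f264425 IH) (Lpr_gt (K24.f282433 IH) (Lpn (LP (LK LD1_c8 LD2_c15 LD3_c15))))))))))))
theorem f216954 : Led Lsl_et (LP (LK LD1_c2 LD2_c40 LD3_c56)) = (LP (LK LD1_c1 LD2_c17 LD3_c10)) :=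
  Lre_e IH (LK LD1_c2 LD2_c40 LD3_c56) (LK LD1_c1 LD2_c17 LD3_c10) Lrfl Lrfl
theorem f324171 : Led Lsl_et (LP (LK LD1_c8 LD2_c15 LD3_c15)) = (LP (LK LD1_c15 LD2_c31 LD3_c18)) :=
  Lre_e IH (LK LD1_c8 LD2_c15 LD3_c15) (LK LD1_c15 LD2_c31 LD3_c18) Lrfl Lrfl
theorem f340852 : Led Lsl_gf (LP (LK LD1_c10 LD2_c50 LD3_c1)) = (LP (LK LD1_c15 LD2_c31 LD3_c18)) :=
  Lgr Lrot138 (Lpr_dt (K23.f330144 IH) (Lpr_gt (K23.f217333 IH) (Lpe (K12.f217169 IH) (Lpr_et (f216954 IH) (Lpe (K12.f216940 IH) (Lpe (K17.f196403 IH) (Lpe (K23.f264692 IH) (Lpr_gt (f196390 IH) (Lpr_df (f340847 IH) (Lpr_et (f324171 IH) (Lpn (LP (LK LD1_c15 LD2_c31 LD3_c18)))))))))))))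
theorem f348293 : Led Lsl_gt (LP (LK LD1_c25 LD2_c24 LD3_c21)) = (LP (LK LD1_c26 LD2_c41 LD3_c37)) :=
  Lgr Lrot94 (Lpe (f324172 IH) (Lpe (f340852 IH) (Lpr_dt (K23.f330144 IH) (Lpr_gt (K23.f217333 IH) (Lpr_dt (K12.f217169 IH) (Lpe (K23.f217166 IH) (Lpe (K23.f217183 IH) (Lpe (f216898 IH) (Lpr_df (f348291 IH) (Lpn (LP (LK LD1_c26 LD2_c41 LD3_c37))))))))))))
theorem f348295 : Led Lsl_et (LP (LK LD1_c15 LD2_c31 LD3_c17)) = (LP (LK LD1_c25 LD2_c24 LD3_c21)) :=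
  Lre_e IH (LK LD1_c15 LD2_c31 LD3_c17) (LK LD1_c25 LD2_c24 LD3_c21) Lrfl Lrfl
theorem f348296 : Led Lsl_df (LP (LK LD1_c25 LD2_c5 LD3_c2)) = (LP (LK LD1_c15 LD2_c31 LD3_c17)) :=
  Lgr Lrot168 (Lpe (f216902 IH) (Lpe (f50206 IH) (Lpr_et (f50205 IH) (Lpe (K14.f216895 IH) (Lpe (K23.f216882 IH) (Lpr_dt (K12.f216883 IH) (Lpe (f216898 IH) (Lpr_df (f348291 IH) (Lpe (f348293 IH) (Lpe (f348295 IH) (Lpn (LP (LK LD1_c15 LD2_c31 LD3_c17)))))))))))))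
theorem f348298 : Led Lsl_dt (LP (LK LD1_c25 LD2_c5 LD3_c2)) = (LP (LK LD1_c15 LD2_c31 LD3_c17)) :=
  Lgr Lrot42 (Lpr_df (f348296 IH) (Lpn (LP (LK LD1_c15 LD2_c31 LD3_c17))))
theorem f340841 : Led Lsl_dt (LP (LK LD1_c5 LD2_c25 LD3_c58)) = (LP (LK LD1_c8 LD2_c15 LD3_c15)) :=
  Lgr Lrot77 (Lpr_ef (f340837 IH) (Lpe (K23.f282967 IH) (Lpe (f323430 IH) (Lpr_df (K24.f324166 IH) (Lpe (f324171 IH) (Lpn (LP (LK LD1_c8 LD2_c15 LD3_c15))))))))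
theorem f282498 : Led Lsl_ct (LP (LK LD1_c5 LD2_c32 LD3_c32)) = (LP (LK LD1_c2 LD2_c42 LD3_c25)) :=
  Lre_c IH (LK LD1_c5 LD2_c32 LD3_c32) (LK LD1_c2 LD2_c42 LD3_c25) Lrfl Lrfl
theorem f348303 : Led Lsl_gf (LP (LK LD1_c8 LD2_c6 LD3_c19)) = (LP (LK LD1_c5 LD2_c32 LD3_c32)) :=
  Lgr Lrot144 (Lpr_dt (f50206 IH) (Lpr_gt (f216902 IH) (Lpr_dt (f348298 IH) (Lpe (K24.f282436 IH) (Lpe (f340841 IH) (Lpe (f196390 IH) (Lpr_df (K23.f264692 IH) (Lpe (K20.f264715 IH) (Lpe (f282498 IH) (Lpn (LP (LK LD1_c5 LD2_c32 LD3_c32))))))))))))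
theorem f258852 : Led Lsl_ct (LP (LK LD1_c2 LD2_c42 LD3_c25)) = (LP (LK LD1_c5 LD2_c32 LD3_c32)) :=
  Lre_c IH (LK LD1_c2 LD2_c42 LD3_c25) (LK LD1_c5 LD2_c32 LD3_c32) Lrfl Lrfl
theorem f42218 : Led Lsl_ct (LP (LK LD1_c5 LD2_c20 LD3_c54)) = (LP (LK LD1_c10 LD2_c31 LD3_c52)) :=
  Lre_c IH (LK LD1_c5 LD2_c20 LD3_c54) (LK LD1_c10 LD2_c31 LD3_c52) Lrfl Lrfl
theorem f318227 : Led Lsl_gt (LP (LK LD1_c2 LD2_c38 LD3_c53)) = (LP (LK LD1_c5 LD2_c24 LD3_c41)) :=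
  Lre_g IH (LK LD1_c2 LD2_c38 LD3_c53) (LK LD1_c5 LD2_c24 LD3_c41) Lrfl Lrfl
theorem f318228 : Led Lsl_gf (LP (LK LD1_c10 LD2_c31 LD3_c52)) = (LP (LK LD1_c5 LD2_c24 LD3_c41)) :=
  Lgr Lrot76 (Lpr_af (K20.f318214 IH) (Lpe (K20.f318224 IH) (Lpr_gt (f318227 IH) (Lpn (LP (LK LD1_c5 LD2_c24 LD3_c41))))))
theorem f318230 : Led Lsl_ct (LP (LK LD1_c10 LD2_c40 LD3_c1)) = (LP (LK LD1_c5 LD2_c24 LD3_c41)) :=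
  Lre_c IH (LK LD1_c10 LD2_c40 LD3_c1) (LK LD1_c5 LD2_c24 LD3_c41) Lrfl Lrfl
theorem f352618 : Led Lsl_bf (LP (LK LD1_c9 LD2_c42 LD3_c27)) = (LP (LK LD1_c10 LD2_c40 LD3_c1)) :=
  Lgr Lrot34 (Lpe (K23.f217517 IH) (Lpe (K15.f217501 IH) (Lpr_ct (f291774 IH) (Lpe (f341045 IH) (Lpr_cf (f347882 IH) (Lpr_gf (f352612 IH) (Lpe (K20.f42214 IH) (Lpr_ct (f42218 IH) (Lpr_gf (f318228 IH) (Lpe (f318230 IH) (Lpn (LP (LK LD1_c10 LD2_c40 LD3_c1)))))))))))))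
theorem f352658 : Led Lsl_bt (LP (LK LD1_c9 LD2_c42 LD3_c27)) = (LP (LK LD1_c10 LD2_c40 LD3_c1)) :=
  Lgr Lrot127 (Lpr_bf (f352618 IH) (Lpn (LP (LK LD1_c10 LD2_c40 LD3_c1))))
theorem f356806 : Led Lsl_gf (LP (LK LD1_c10 LD2_c40 LD3_c1)) = (LP (LK LD1_c10 LD2_c32 LD3_c2)) :=
  Lgr Lrot124 (Lpe (f352658 IH) (Lpr_ct (f347874 IH) (Lpr_gt (f271755 IH) (Lpr_cf (K23.f282548 IH) (Lpe (f317939 IH) (Lpr_gt (K20.f213272 IH) (Lpr_ct (f258852 IH) (Lpe (f348303 IH) (Lpr_cf (f356804 IH) (Lpr_bt (K22.f263529 IH) (Lpn (LP (LK LD1_c10 LD2_c32 LD3_c2)))))))))))))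
theorem f352664 : Led Lsl_et (LP (LK LD1_c19 LD2_c19 LD3_c0)) = (LP (LK LD1_c10 LD2_c40 LD3_c1)) :=
  Lre_e IH (LK LD1_c19 LD2_c19 LD3_c0) (LK LD1_c10 LD2_c40 LD3_c1) Lrfl Lrfl
theorem f356813 : Led Lsl_dt (LP (LK LD1_c19 LD2_c19 LD3_c0)) = (LP (LK LD1_c15 LD2_c47 LD3_c54)) :=
  Lgr Lrot136 (Lpr_et (f352664 IH) (Lpr_gf (f356806 IH) (Lpe (K22.f220777 IH) (Lpe (f220765 IH) (Lpe (K15.f246372 IH) (Lpe (K15.f226892 IH) (Lpr_gf (K16.f246389 IH) (Lpe (K14.f171972 IH) (Lpr_dt (K20.f246742 IH) (Lpe (K22.f167132 IH) (Lpn (LP (LK LD1_c15 LD2_c47 LD3_c54)))))))))))))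
theorem f352673 : Led Lsl_et (LP (LK LD1_c10 LD2_c40 LD3_c1)) = (LP (LK LD1_c19 LD2_c19 LD3_c0)) :=
  Lre_e IH (LK LD1_c10 LD2_c40 LD3_c1) (LK LD1_c19 LD2_c19 LD3_c0) Lrfl Lrfl
theorem f262925 : Led Lsl_et (LP (LK LD1_c4 LD2_c14 LD3_c12)) = (LP (LK LD1_c8 LD2_c26 LD3_c59)) :=
  Lre_e IH (LK LD1_c4 LD2_c14 LD3_c12) (LK LD1_c8 LD2_c26 LD3_c59) Lrfl Lrfl
theorem f235912 : Led Lsl_dt (LP (LK LD1_c10 LD2_c46 LD3_c23)) = (LP (LK LD1_c19 LD2_c28 LD3_c60)) :=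
  Lre_d IH (LK LD1_c10 LD2_c46 LD3_c23) (LK LD1_c19 LD2_c28 LD3_c60) Lrfl Lrfl
theorem f213274 : Led Lsl_dt (LP (LK LD1_c5 LD2_c32 LD3_c33)) = (LP (LK LD1_c10 LD2_c56 LD3_c52)) :=
  Lre_d IH (LK LD1_c5 LD2_c32 LD3_c33) (LK LD1_c10 LD2_c56 LD3_c52) Lrfl Lrfl
theorem f282563 : Led Lsl_df (LP (LK LD1_c8 LD2_c28 LD3_c49)) = (LP (LK LD1_c15 LD2_c39 LD3_c5)) :=
  Lgr Lrot70 (Lpr_et (K20.f282558 IH) (Lpe (K20.f282502 IH) (Lpr_et (K20.f282508 IH) (Lpr_dt (f213274 IH) (Lpr_et (K21.f282516 IH) (Lpn (LP (LK LD1_c15 LD2_c39 LD3_c5))))))))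
theorem f282567 : Led Lsl_dt (LP (LK LD1_c25 LD2_c51 LD3_c41)) = (LP (LK LD1_c15 LD2_c55 LD3_c24)) :=
  Lre_d IH (LK LD1_c25 LD2_c51 LD3_c41) (LK LD1_c15 LD2_c55 LD3_c24) Lrfl Lrfl
theorem f282568 : Led Lsl_gf (LP (LK LD1_c25 LD2_c51 LD3_c41)) = (LP (LK LD1_c19 LD2_c28 LD3_c60)) :=
  Lgr Lrot143 (Lpr_dt (f282567 IH) (Lpe (K23.f231679 IH) (Lpr_df (f282563 IH) (Lpr_gf (K21.f282565 IH) (Lpe (K21.f235805 IH) (Lpe (K20.f235804 IH) (Lpe (K14.f235810 IH) (Lpr_gt (K22.f235815 IH) (Lpr_dt (f235912 IH) (Lpn (LP (LK LD1_c19 LD2_c28 LD3_c60))))))))))))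
theorem f282575 : Led Lsl_dt (LP (LK LD1_c15 LD2_c55 LD3_c24)) = (LP (LK LD1_c25 LD2_c51 LD3_c41)) :=
  Lre_d IH (LK LD1_c15 LD2_c55 LD3_c24) (LK LD1_c25 LD2_c51 LD3_c41) Lrfl Lrfl
theorem f264515 : Led Lsl_ct (LP (LK LD1_c8 LD2_c57 LD3_c60)) = (LP (LK LD1_c4 LD2_c29 LD3_c54)) :=
  Lre_c IH (LK LD1_c8 LD2_c57 LD3_c60) (LK LD1_c4 LD2_c29 LD3_c54) Lrfl Lrfl
theorem f282554 : Led Lsl_et (LP (LK LD1_c15 LD2_c55 LD3_c24)) = (LP (LK LD1_c8 LD2_c57 LD3_c60)) :=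
  Lgr Lrot158 (Lpe (K23.f231679 IH) (Lpr_ef (K20.f282552 IH) (Lpe (f264515 IH) (Lpn (LP (LK LD1_c8 LD2_c57 LD3_c60))))))
theorem f295127 : Led Lsl_gf (LP (LK LD1_c8 LD2_c26 LD3_c59)) = (LP (LK LD1_c8 LD2_c57 LD3_c60)) :=
  Lgr Lrot141 (Lpe (f262925 IH) (Lpr_dt (K17.f188903 IH) (Lpr_gt (K18.f295113 IH) (Lpe (K16.f235777 IH) (Lpr_et (K22.f282577 IH) (Lpr_gt (K22.f235815 IH) (Lpr_dt (f235912 IH) (Lpe (f282568 IH) (Lpe (f282575 IH) (Lpr_et (f282554 IH) (Lpn (LP (LK LD1_c8 LD2_c57 LD3_c60)))))))))))))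
theorem f189747 : Led Lsl_ct (LP (LK LD1_c4 LD2_c14 LD3_c13)) = (LP (LK LD1_c8 LD2_c26 LD3_c59)) :=
  Lre_c IH (LK LD1_c4 LD2_c14 LD3_c13) (LK LD1_c8 LD2_c26 LD3_c59) Lrfl Lrfl
theorem f221484 : Led Lsl_bt (LP (LK LD1_c4 LD2_c14 LD3_c13)) = (LP (LK LD1_c8 LD2_c26 LD3_c56)) :=
  Lre_b IH (LK LD1_c4 LD2_c14 LD3_c13) (LK LD1_c8 LD2_c26 LD3_c56) Lrfl Lrfl
theorem f221448 : Led Lsl_gt (LP (LK LD1_c8 LD2_c26 LD3_c56)) = (LP (LK LD1_c15 LD2_c51 LD3_c43)) :=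
  Lre_g IH (LK LD1_c8 LD2_c26 LD3_c56) (LK LD1_c15 LD2_c51 LD3_c43) Lrfl Lrfl
theorem f264514 : Led Lsl_ct (LP (LK LD1_c4 LD2_c29 LD3_c54)) = (LP (LK LD1_c8 LD2_c57 LD3_c60)) :=
  Lre_c IH (LK LD1_c4 LD2_c29 LD3_c54) (LK LD1_c8 LD2_c57 LD3_c60) Lrfl Lrfl
theorem f295132 : Led Lsl_bf (LP (LK LD1_c15 LD2_c51 LD3_c43)) = (LP (LK LD1_c10 LD2_c56 LD3_c34)) :=
  Lgr Lrot34 (Lpe (f221448 IH) (Lpe (f221484 IH) (Lpr_ct (f189747 IH) (Lpr_gf (f295127 IH) (Lpe (f264514 IH) (Lpe (K21.f271759 IH) (Lpr_bf (f264607 IH) (Lpr_ct (K23.f213265 IH) (Lpe (K23.f213252 IH) (Lpe (K23.f258853 IH) (Lpn (LP (LK LD1_c10 LD2_c56 LD3_c34)))))))))))))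
theorem f352662 : Led Lsl_dt (LP (LK LD1_c15 LD2_c51 LD3_c43)) = (LP (LK LD1_c10 LD2_c40 LD3_c1)) :=
  Lgr Lrot79 (Lpr_bf (f295132 IH) (Lpe (K23.f347870 IH) (Lpr_bf (f352618 IH) (Lpn (LP (LK LD1_c10 LD2_c40 LD3_c1))))))
theorem f223253 : Led Lsl_et (LP (LK LD1_c25 LD2_c47 LD3_c27)) = (LP (LK LD1_c15 LD2_c51 LD3_c43)) :=
  Lre_e IH (LK LD1_c25 LD2_c47 LD3_c27) (LK LD1_c15 LD2_c51 LD3_c43) Lrfl Lrfl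
theorem f179651 : Led Lsl_gt (LP (LK LD1_c16 LD2_c7 LD3_c24)) = (LP (LK LD1_c8 LD2_c36 LD3_c3)) :=
  Lre_g IH (LK LD1_c16 LD2_c7 LD3_c24) (LK LD1_c8 LD2_c36 LD3_c3) Lrfl Lrfl
theorem f271002 : Led Lsl_dt (LP (LK LD1_c25 LD2_c47 LD3_c27)) = (LP (LK LD1_c16 LD2_c7 LD3_c24)) :=
  Lgr Lrot136 (Lpr_et (f223253 IH) (Lpe (f221448 IH) (Lpe (K23.f221528 IH) (Lpe (K17.f223219 IH) (Lpr_gf (K16.f270923 IH) (Lpe (K17.f270998 IH) (Lpr_gf (K17.f219291 IH) (Lpe (K16.f219304 IH) (Lpe (K16.f219309 IH) (Lpe (f179651 IH) (Lpn (LP (LK LD1_c16 LD2_c7 LD3_c24)))))))))))))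
theorem f271004 : Led Lsl_df (LP (LK LD1_c25 LD2_c47 LD3_c27)) = (LP (LK LD1_c16 LD2_c7 LD3_c24)) :=
  Lgr Lrot38 (Lpr_dt (f271002 IH) (Lpn (LP (LK LD1_c16 LD2_c7 LD3_c24))))
theorem f356819 : Led Lsl_ef (LP (LK LD1_c16 LD2_c7 LD3_c24)) = (LP (LK LD1_c15 LD2_c47 LD3_c54)) :=
  Lgr Lrot73 (Lpe (f271004 IH) (Lpr_et (f223253 IH) (Lpr_dt (f352662 IH) (Lpr_et (f352673 IH) (Lpr_dt (f356813 IH) (Lpn (LP (LK LD1_c15 LD2_c47 LD3_c54))))))))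
theorem f336725 : Led Lsl_gf (LP (LK LD1_c16 LD2_c7 LD3_c24)) = (LP (LK LD1_c16 LD2_c19 LD3_c61)) :=
  Lgr Lrot47 (Lpr_gt (f179651 IH) (Lpe (K21.f329507 IH) (Lpr_ff (K22.f336715 IH) (Lpn (LP (LK LD1_c16 LD2_c19 LD3_c61))))))
theorem f311765 : Led Lsl_dt (LP (LK LD1_c25 LD2_c20 LD3_c35)) = (LP (LK LD1_c15 LD2_c28 LD3_c25)) :=
  Lre_d IH (LK LD1_c25 LD2_c20 LD3_c35) (LK LD1_c15 LD2_c28 LD3_c25) Lrfl Lrfl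
theorem f356817 : Led Lsl_df (LP (LK LD1_c19 LD2_c19 LD3_c0)) = (LP (LK LD1_c15 LD2_c47 LD3_c54)) :=
  Lgr Lrot38 (Lpr_dt (f356813 IH) (Lpn (LP (LK LD1_c15 LD2_c47 LD3_c54))))
theorem f352676 : Led Lsl_df (LP (LK LD1_c15 LD2_c51 LD3_c43)) = (LP (LK LD1_c10 LD2_c40 LD3_c1)) :=
  Lgr Lrot38 (Lpr_dt (f352662 IH) (Lpn (LP (LK LD1_c10 LD2_c40 LD3_c1))))
theorem f223226 : Led Lsl_dt (LP (LK LD1_c9 LD2_c33 LD3_c15)) = (LP (LK LD1_c8 LD2_c26 LD3_c56)) :=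
  Lgr Lrot42 (Lpr_df (K23.f223221 IH) (Lpn (LP (LK LD1_c8 LD2_c26 LD3_c56))))
theorem f310395 : Led Lsl_dt (LP (LK LD1_c10 LD2_c42 LD3_c35)) = (LP (LK LD1_c19 LD2_c23 LD3_c21)) :=
  Lre_d IH (LK LD1_c10 LD2_c42 LD3_c35) (LK LD1_c19 LD2_c23 LD3_c21) Lrfl Lrfl
theorem f352260 : Led Lsl_gf (LP (LK LD1_c15 LD2_c22 LD3_c39)) = (LP (LK LD1_c19 LD2_c23 LD3_c21)) :=
  Lgr Lrot134 (Lpr_df (f313116 IH) (Lpr_et (f313205 IH) (Lpr_gt (f352258 IH) (Lpe (K24.f27712 IH) (Lpr_dt (K14.f27711 IH) (Lpe (K12.f214099 IH) (Lpe (K11.f190985 IH) (Lpr_et (K12.f191028 IH) (Lpr_gt (K21.f310391 IH) (Lpr_dt (f310395 IH) (Lpn (LP (LK LD1_c19 LD2_c23 LD3_c21)))))))))))))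
theorem f352709 : Led Lsl_gf (LP (LK LD1_c19 LD2_c23 LD3_c22)) = (LP (LK LD1_c19 LD2_c19 LD3_c0)) :=
  Lgr Lrot141 (Lpe (f341078 IH) (Lpr_dt (f310395 IH) (Lpe (f352260 IH) (Lpr_df (f313116 IH) (Lpr_et (f313205 IH) (Lpr_gt (f352258 IH) (Lpr_dt (f223226 IH) (Lpr_gt (f221448 IH) (Lpr_df (f352676 IH) (Lpr_et (f352673 IH) (Lpn (LP (LK LD1_c19 LD2_c19 LD3_c0)))))))))))))
theorem f356830 : Led Lsl_gf (LP (LK LD1_c25 LD2_c20 LD3_c35)) = (LP (LK LD1_c25 LD2_c41 LD3_c49)) :=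
  Lgr Lrot138 (Lpr_dt (f311765 IH) (Lpr_gt (K22.f336585 IH) (Lpe (K22.f200533 IH) (Lpr_et (K22.f336592 IH) (Lpe (f336725 IH) (Lpr_ef (f356819 IH) (Lpe (f356817 IH) (Lpe (f352709 IH) (Lpe (f345587 IH) (Lpr_et (f345597 IH) (Lpn (LP (LK LD1_c25 LD2_c41 LD3_c49)))))))))))))
theorem f289026 : Led Lsl_dt (LP (LK LD1_c15 LD2_c43 LD3_c59)) = (LP (LK LD1_c25 LD2_c40 LD3_c22)) :=
  Lre_d IH (LK LD1_c15 LD2_c43 LD3_c59) (LK LD1_c25 LD2_c40 LD3_c22) Lrfl Lrfl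
theorem f356832 : Led Lsl_gf (LP (LK LD1_c19 LD2_c8 LD3_c12)) = (LP (LK LD1_c25 LD2_c40 LD3_c22)) :=
  Lgr Lrot143 (Lpr_dt (f254341 IH) (Lpe (K21.f325232 IH) (Lpe (f311765 IH) (Lpr_gf (f356830 IH) (Lpr_df (f345727 IH) (Lpe (f341070 IH) (Lpe (K19.f286983 IH) (Lpr_gt (K18.f297793 IH) (Lpr_dt (f289026 IH) (Lpn (LP (LK LD1_c25 LD2_c40 LD3_c22))))))))))))
theorem f277820 : Led Lsl_et (LP (LK LD1_c5 LD2_c20 LD3_c28)) = (LP (LK LD1_c10 LD2_c30 LD3_c58)) :=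
  Lre_e IH (LK LD1_c5 LD2_c20 LD3_c28) (LK LD1_c10 LD2_c30 LD3_c58) Lrfl Lrfl
theorem f221548 : Led Lsl_ct (LP (LK LD1_c9 LD2_c40 LD3_c47)) = (LP (LK LD1_c5 LD2_c20 LD3_c56)) :=
  Lgr Lrot7 (Lpe (K16.f187345 IH) (Lpr_gf (K12.f218754 IH) (Lpe (K12.f196828 IH) (Lpr_gf (K13.f221545 IH) (Lpr_cf (K12.f218770 IH) (Lpr_gt (K12.f217326 IH) (Lpr_dt (K12.f168041 IH) (Lpr_gt (K12.f42177 IH) (Lpr_dt (K16.f167952 IH) (Lpn (LP (LK LD1_c5 LD2_c20 LD3_c56))))))))))))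
theorem f286858 : Led Lsl_gt (LP (LK LD1_c2 LD2_c38 LD3_c52)) = (LP (LK LD1_c5 LD2_c24 LD3_c16)) :=
  Lgr Lrot9 (Lpe (K20.f194615 IH) (Lpe (K12.f217657 IH) (Lpr_ct (K12.f217628 IH) (Lpe (K12.f187244 IH) (Lpr_ct (K12.f167943 IH) (Lpe (K16.f167959 IH) (Lpe (f221548 IH) (Lpe (K16.f263726 IH) (Lpr_cf (K17.f286850 IH) (Lpn (LP (LK LD1_c5 LD2_c24 LD3_c16))))))))))))
theorem f286872 : Led Lsl_et (LP (LK LD1_c1 LD2_c16 LD3_c17)) = (LP (LK LD1_c2 LD2_c38 LD3_c53)) :=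
  Lre_e IH (LK LD1_c1 LD2_c16 LD3_c17) (LK LD1_c2 LD2_c38 LD3_c53) Lrfl Lrfl
theorem f286873 : Led Lsl_gt (LP (LK LD1_c5 LD2_c24 LD3_c42)) = (LP (LK LD1_c2 LD2_c38 LD3_c53)) :=
  Lre_g IH (LK LD1_c5 LD2_c24 LD3_c42) (LK LD1_c2 LD2_c38 LD3_c53) Lrfl Lrfl
theorem f356844 : Led Lsl_et (LP (LK LD1_c10 LD2_c33 LD3_c56)) = (LP (LK LD1_c5 LD2_c24 LD3_c42)) :=
  Lgr Lrot185 (Lpr_dt (f254342 IH) (Lpr_gf (f356832 IH) (Lpe (f289026 IH) (Lpe (K18.f297793 IH) (Lpe (f277820 IH) (Lpr_dt (K17.f277835 IH) (Lpe (f286858 IH) (Lpe (K20.f194615 IH) (Lpr_et (f286872 IH) (Lpe (f286873 IH) (Lpn (LP (LK LD1_c5 LD2_c24 LD3_c42)))))))))))))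
theorem f356851 : Led Lsl_ef (LP (LK LD1_c10 LD2_c33 LD3_c56)) = (LP (LK LD1_c5 LD2_c24 LD3_c42)) :=
  Lgr Lrot88 (Lpr_et (f356844 IH) (Lpn (LP (LK LD1_c5 LD2_c24 LD3_c42))))
theorem f325235 : Led Lsl_cf (LP (LK LD1_c15 LD2_c28 LD3_c25)) = (LP (LK LD1_c10 LD2_c33 LD3_c56)) :=
  Lgr Lrot11 (Lpr_ct (K21.f325232 IH) (Lpn (LP (LK LD1_c10 LD2_c33 LD3_c56))))
theorem f345206 : Led Lsl_bt (LP (LK LD1_c8 LD2_c28 LD3_c15)) = (LP (LK LD1_c4 LD2_c14 LD3_c44)) :=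
  Lre_b IH (LK LD1_c8 LD2_c28 LD3_c15) (LK LD1_c4 LD2_c14 LD3_c44) Lrfl Lrfl
theorem f347120 : Led Lsl_ef (LP (LK LD1_c8 LD2_c28 LD3_c15)) = (LP (LK LD1_c15 LD2_c28 LD3_c25)) :=
  Lgr Lrot29 (Lpr_bt (f345206 IH) (Lpr_et (K23.f347116 IH) (Lpe (K22.f325240 IH) (Lpn (LP (LK LD1_c15 LD2_c28 LD3_c25))))))
theorem f356855 : Led Lsl_ct (LP (LK LD1_c8 LD2_c28 LD3_c15)) = (LP (LK LD1_c5 LD2_c24 LD3_c42)) :=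
  Lgr Lrot15 (Lpr_ef (f347120 IH) (Lpr_cf (f325235 IH) (Lpr_ef (f356851 IH) (Lpn (LP (LK LD1_c5 LD2_c24 LD3_c42))))))
theorem f348718 : Led Lsl_ct (LP (LK LD1_c8 LD2_c3 LD3_c0)) = (LP (LK LD1_c8 LD2_c28 LD3_c10)) :=
  Lgr Lrot59 (Lpr_cf (K24.f348714 IH) (Lpn (LP (LK LD1_c8 LD2_c28 LD3_c10))))
theorem f227006 : Led Lsl_ct (LP (LK LD1_c8 LD2_c8 LD3_c0)) = (LP (LK LD1_c4 LD2_c3 LD3_c48)) :=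
  Lre_c IH (LK LD1_c8 LD2_c8 LD3_c0) (LK LD1_c4 LD2_c3 LD3_c48) Lrfl Lrfl
theorem f244353 : Led Lsl_et (LP (LK LD1_c4 LD2_c4 LD3_c40)) = (LP (LK LD1_c1 LD2_c59 LD3_c20)) :=
  Lre_e IH (LK LD1_c4 LD2_c4 LD3_c40) (LK LD1_c1 LD2_c59 LD3_c20) Lrfl Lrfl
theorem f244069 : Led Lsl_gt (LP (LK LD1_c15 LD2_c23 LD3_c6)) = (LP (LK LD1_c8 LD2_c10 LD3_c9)) :=
  Lre_g IH (LK LD1_c15 LD2_c23 LD3_c6) (LK LD1_c8 LD2_c10 LD3_c9) Lrfl Lrfl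
theorem f244355 : Led Lsl_df (LP (LK LD1_c15 LD2_c23 LD3_c6)) = (LP (LK LD1_c15 LD2_c54 LD3_c7)) :=
  Lgr Lrot170 (Lpr_gt (f244069 IH) (Lpe (K19.f244354 IH) (Lpr_et (f244353 IH) (Lpr_gt (K13.f223700 IH) (Lpe (K17.f243911 IH) (Lpr_gt (K15.f243918 IH) (Lpr_df (K19.f238350 IH) (Lpr_et (K19.f221026 IH) (Lpr_gt (K19.f220969 IH) (Lpe (K24.f238433 IH) (Lpn (LP (LK LD1_c15 LD2_c54 LD3_c7)))))))))))))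
theorem f244361 : Led Lsl_dt (LP (LK LD1_c15 LD2_c23 LD3_c6)) = (LP (LK LD1_c15 LD2_c54 LD3_c7)) :=
  Lgr Lrot42 (Lpr_df (f244355 IH) (Lpn (LP (LK LD1_c15 LD2_c54 LD3_c7))))
theorem f348725 : Led Lsl_gt (LP (LK LD1_c11 LD2_c9 LD3_c25)) = (LP (LK LD1_c15 LD2_c23 LD3_c6)) :=
  Lgr Lrot189 (Lpe (K19.f314853 IH) (Lpr_gf (K21.f326580 IH) (Lpr_ct (f227006 IH) (Lpr_gt (K19.f310514 IH) (Lpr_dt (K16.f238659 IH) (Lpr_gt (K19.f269400 IH) (Lpr_dt (K19.f226865 IH) (Lpr_ct (K24.f348720 IH) (Lpe (f244361 IH) (Lpn (LP (LK LD1_c15 LD2_c23 LD3_c6))))))))))))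
theorem f326602 : Led Lsl_et (LP (LK LD1_c15 LD2_c18 LD3_c55)) = (LP (LK LD1_c8 LD2_c8 LD3_c0)) :=
  Lre_e IH (LK LD1_c15 LD2_c18 LD3_c55) (LK LD1_c8 LD2_c8 LD3_c0) Lrfl Lrfl
theorem f53076 : Led Lsl_gt (LP (LK LD1_c15 LD2_c20 LD3_c39)) = (LP (LK LD1_c8 LD2_c8 LD3_c58)) :=
  Lre_g IH (LK LD1_c15 LD2_c20 LD3_c39) (LK LD1_c8 LD2_c8 LD3_c58) Lrfl Lrfl
theorem f342112 : Led Lsl_dt (LP (LK LD1_c15 LD2_c18 LD3_c55)) = (LP (LK LD1_c15 LD2_c20 LD3_c39)) :=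
  Lgr Lrot171 (Lpr_gf (K23.f342103 IH) (Lpr_ef (K23.f189287 IH) (Lpe (K22.f338623 IH) (Lpe (K22.f52395 IH) (Lpe (K10.f52305 IH) (Lpr_et (K22.f52282 IH) (Lpe (K10.f53069 IH) (Lpe (K20.f53074 IH) (Lpr_dt (K22.f53075 IH) (Lpe (f53076 IH) (Lpn (LP (LK LD1_c15 LD2_c20 LD3_c39)))))))))))))
theorem f339723 : Led Lsl_gf (LP (LK LD1_c15 LD2_c20 LD3_c39)) = (LP (LK LD1_c15 LD2_c54 LD3_c0)) :=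
  Lgr Lrot47 (Lpr_gt (f53076 IH) (Lpr_af (K22.f339711 IH) (Lpe (K22.f339710 IH) (Lpn (LP (LK LD1_c15 LD2_c54 LD3_c0))))))
theorem f348736 : Led Lsl_gf (LP (LK LD1_c8 LD2_c9 LD3_c4)) = (LP (LK LD1_c8 LD2_c28 LD3_c10)) :=
  Lgr Lrot141 (Lpe (K20.f314426 IH) (Lpr_dt (K22.f314137 IH) (Lpe (f339723 IH) (Lpe (f342112 IH) (Lpr_et (f326602 IH) (Lpe (K21.f326580 IH) (Lpr_dt (K19.f314853 IH) (Lpr_gt (f348725 IH) (Lpr_df (f244355 IH) (Lpr_et (K24.f238433 IH) (Lpn (LP (LK LD1_c8 LD2_c28 LD3_c10)))))))))))))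
theorem f346042 : Led Lsl_bt (LP (LK LD1_c8 LD2_c39 LD3_c30)) = (LP (LK LD1_c5 LD2_c23 LD3_c61)) :=
  Lgr Lrot22 (Lpe (K23.f213453 IH) (Lpe (K23.f316921 IH) (Lpe (K23.f246866 IH) (Lpe (K23.f345185 IH) (Lpe (K19.f235439 IH) (Lpr_ct (K20.f314136 IH) (Lpe (K23.f345936 IH) (Lpe (K23.f246108 IH) (Lpr_bt (K23.f345947 IH) (Lpr_gf (K23.f346036 IH) (Lpn (LP (LK LD1_c5 LD2_c23 LD3_c61)))))))))))))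
theorem f331530 : Led Lsl_bt (LP (LK LD1_c4 LD2_c55 LD3_c36)) = (LP (LK LD1_c9 LD2_c42 LD3_c51)) :=
  Lre_b IH (LK LD1_c4 LD2_c55 LD3_c36) (LK LD1_c9 LD2_c42 LD3_c51) Lrfl Lrfl
theorem f330763 : Led Lsl_ct (LP (LK LD1_c9 LD2_c42 LD3_c51)) = (LP (LK LD1_c17 LD2_c51 LD3_c52)) :=
  Lre_c IH (LK LD1_c9 LD2_c42 LD3_c51) (LK LD1_c17 LD2_c51 LD3_c52) Lrfl Lrfl
theorem f346045 : Led Lsl_bf (LP (LK LD1_c9 LD2_c51 LD3_c45)) = (LP (LK LD1_c17 LD2_c51 LD3_c52)) :=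
  Lgr Lrot90 (Lpr_ct (K22.f213451 IH) (Lpr_bt (f346042 IH) (Lpe (K22.f318366 IH) (Lpr_bt (f331530 IH) (Lpr_ct (f330763 IH) (Lpn (LP (LK LD1_c17 LD2_c51 LD3_c52))))))))
theorem f346049 : Led Lsl_et (LP (LK LD1_c9 LD2_c42 LD3_c49)) = (LP (LK LD1_c17 LD2_c51 LD3_c52)) :=
  Lre_e IH (LK LD1_c9 LD2_c42 LD3_c49) (LK LD1_c17 LD2_c51 LD3_c52) Lrfl Lrfl
theorem f346050 : Led Lsl_bt (LP (LK LD1_c5 LD2_c0 LD3_c42)) = (LP (LK LD1_c9 LD2_c42 LD3_c49)) :=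
  Lgr Lrot119 (Lpe (K23.f54257 IH) (Lpr_bf (f346045 IH) (Lpe (f346049 IH) (Lpn (LP (LK LD1_c9 LD2_c42 LD3_c49))))))
theorem f212663 : Led Lsl_bt (LP (LK LD1_c9 LD2_c51 LD3_c32)) = (LP (LK LD1_c5 LD2_c0 LD3_c38)) :=
  Lre_b IH (LK LD1_c9 LD2_c51 LD3_c32) (LK LD1_c5 LD2_c0 LD3_c38) Lrfl Lrfl
theorem f346055 : Led Lsl_ff (LP (LK LD1_c9 LD2_c51 LD3_c32)) = (LP (LK LD1_c9 LD2_c42 LD3_c49)) :=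
  Lgr Lrot25 (Lpr_bt (f212663 IH) (Lpr_ft (K23.f329827 IH) (Lpr_bt (f346050 IH) (Lpn (LP (LK LD1_c9 LD2_c42 LD3_c49))))))
theorem f346063 : Led Lsl_ft (LP (LK LD1_c9 LD2_c51 LD3_c32)) = (LP (LK LD1_c9 LD2_c42 LD3_c49)) :=
  Lgr Lrot48 (Lpr_ff (f346055 IH) (Lpn (LP (LK LD1_c9 LD2_c42 LD3_c49))))
theorem f277386 : Led Lsl_ct (LP (LK LD1_c9 LD2_c42 LD3_c49)) = (LP (LK LD1_c4 LD2_c55 LD3_c34)) :=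
  Lre_c IH (LK LD1_c9 LD2_c42 LD3_c49) (LK LD1_c4 LD2_c55 LD3_c34) Lrfl Lrfl
theorem f346068 : Led Lsl_cf (LP (LK LD1_c9 LD2_c51 LD3_c32)) = (LP (LK LD1_c9 LD2_c40 LD3_c51)) :=
  Lgr Lrot108 (Lpr_ft (f346063 IH) (Lpr_ct (f277386 IH) (Lpe (K22.f331675 IH) (Lpn (LP (LK LD1_c9 LD2_c40 LD3_c51))))))
theorem f346061 : Led Lsl_et (LP (LK LD1_c9 LD2_c51 LD3_c32)) = (LP (LK LD1_c18 LD2_c2 LD3_c48)) :=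
  Lre_e IH (LK LD1_c9 LD2_c51 LD3_c32) (LK LD1_c18 LD2_c2 LD3_c48) Lrfl Lrfl
theorem f346099 : Led Lsl_et (LP (LK LD1_c17 LD2_c48 LD3_c30)) = (LP (LK LD1_c9 LD2_c40 LD3_c51)) :=
  Lre_e IH (LK LD1_c17 LD2_c48 LD3_c30) (LK LD1_c9 LD2_c40 LD3_c51) Lrfl Lrfl
theorem f346100 : Led Lsl_ct (LP (LK LD1_c18 LD2_c2 LD3_c48)) = (LP (LK LD1_c17 LD2_c48 LD3_c30)) :=
  Lgr Lrot15 (Lpe (f346061 IH) (Lpr_cf (f346068 IH) (Lpe (f346099 IH) (Lpn (LP (LK LD1_c17 LD2_c48 LD3_c30))))))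
theorem f329856 : Led Lsl_bt (LP (LK LD1_c9 LD2_c51 LD3_c34)) = (LP (LK LD1_c18 LD2_c2 LD3_c48)) :=
  Lre_b IH (LK LD1_c9 LD2_c51 LD3_c34) (LK LD1_c18 LD2_c2 LD3_c48) Lrfl Lrfl
theorem f224779 : Led Lsl_bt (LP (LK LD1_c17 LD2_c48 LD3_c30)) = (LP (LK LD1_c9 LD2_c40 LD3_c53)) :=
  Lre_b IH (LK LD1_c17 LD2_c48 LD3_c30) (LK LD1_c9 LD2_c40 LD3_c53) Lrfl Lrfl
theorem f224771 : Led Lsl_ct (LP (LK LD1_c9 LD2_c40 LD3_c53)) = (LP (LK LD1_c8 LD2_c2 LD3_c43)) :=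
  Lgr Lrot59 (Lpr_cf (K24.f224765 IH) (Lpn (LP (LK LD1_c8 LD2_c2 LD3_c43))))
theorem f346110 : Led Lsl_cf (LP (LK LD1_c9 LD2_c51 LD3_c34)) = (LP (LK LD1_c5 LD2_c24 LD3_c29)) :=
  Lgr Lrot97 (Lpr_bt (f329856 IH) (Lpr_ct (f346100 IH) (Lpr_bt (f224779 IH) (Lpr_ct (f224771 IH) (Lpr_bt (K21.f329804 IH) (Lpn (LP (LK LD1_c5 LD2_c24 LD3_c29))))))))
theorem f329788 : Led Lsl_bf (LP (LK LD1_c8 LD2_c2 LD3_c43)) = (LP (LK LD1_c5 LD2_c24 LD3_c29)) :=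
  Lgr Lrot93 (Lpe (K19.f196777 IH) (Lpr_bt (f253011 IH) (Lpr_dt (K21.f329784 IH) (Lpn (LP (LK LD1_c5 LD2_c24 LD3_c29))))))
theorem f196788 : Led Lsl_gt (LP (LK LD1_c8 LD2_c2 LD3_c43)) = (LP (LK LD1_c15 LD2_c8 LD3_c54)) :=
  Lre_g IH (LK LD1_c8 LD2_c2 LD3_c43) (LK LD1_c15 LD2_c8 LD3_c54) Lrfl Lrfl
theorem f348740 : Led Lsl_bf (LP (LK LD1_c15 LD2_c8 LD3_c54)) = (LP (LK LD1_c8 LD2_c3 LD3_c0)) :=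
  Lgr Lrot34 (Lpe (f196788 IH) (Lpr_bf (f329788 IH) (Lpe (f346110 IH) (Lpr_gf (K23.f345216 IH) (Lpe (K23.f168989 IH) (Lpe (K23.f235443 IH) (Lpr_bf (K22.f314420 IH) (Lpr_ct (K19.f200744 IH) (Lpr_gf (f348736 IH) (Lpe (f348718 IH) (Lpn (LP (LK LD1_c8 LD2_c3 LD3_c0)))))))))))))
theorem f318240 : Led Lsl_gt (LP (LK LD1_c10 LD2_c31 LD3_c52)) = (LP (LK LD1_c5 LD2_c24 LD3_c42)) :=
  Lgr Lrot5 (Lpr_ft (K20.f318223 IH) (Lpr_at (K20.f318225 IH) (Lpe (f286873 IH) (Lpn (LP (LK LD1_c5 LD2_c24 LD3_c42))))))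
theorem f356859 : Led Lsl_gt (LP (LK LD1_c15 LD2_c8 LD3_c54)) = (LP (LK LD1_c10 LD2_c31 LD3_c43)) :=
  Lgr Lrot164 (Lpr_bf (f348740 IH) (Lpr_ct (f348718 IH) (Lpe (K19.f220969 IH) (Lpe (K19.f221024 IH) (Lpe (K23.f211274 IH) (Lpe (f345206 IH) (Lpr_ct (f356855 IH) (Lpe (f318240 IH) (Lpe (f42218 IH) (Lpr_bt (K20.f42214 IH) (Lpn (LP (LK LD1_c10 LD2_c31 LD3_c43)))))))))))))
theorem f318022 : Led Lsl_gf (LP (LK LD1_c2 LD2_c4 LD3_c49)) = (LP (LK LD1_c4 LD2_c8 LD3_c61)) :=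
  Lgr Lrot147 (Lpr_ct (K17.f211389 IH) (Lpr_gt (K14.f253988 IH) (Lpe (K14.f253992 IH) (Lpr_df (K14.f254012 IH) (Lpe (K16.f221737 IH) (Lpe (K16.f261273 IH) (Lpe (K12.f170699 IH) (Lpe (K18.f284566 IH) (Lpr_df (K20.f317752 IH) (Lpn (LP (LK LD1_c4 LD2_c8 LD3_c61))))))))))))
theorem f211369 : Led Lsl_gt (LP (LK LD1_c4 LD2_c4 LD3_c1)) = (LP (LK LD1_c8 LD2_c8 LD3_c37)) :=
  Lre_g IH (LK LD1_c4 LD2_c4 LD3_c1) (LK LD1_c8 LD2_c8 LD3_c37) Lrfl Lrfl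
theorem f356863 : Led Lsl_df (LP (LK LD1_c15 LD2_c8 LD3_c54)) = (LP (LK LD1_c8 LD2_c8 LD3_c37)) :=
  Lgr Lrot135 (Lpr_gt (f356859 IH) (Lpr_df (K23.f42226 IH) (Lpe (K23.f340063 IH) (Lpr_gt (K22.f303360 IH) (Lpe (K20.f317751 IH) (Lpe (K23.f317665 IH) (Lpe (f318022 IH) (Lpr_df (K11.f211285 IH) (Lpr_et (f211386 IH) (Lpr_gt (f211369 IH) (Lpn (LP (LK LD1_c8 LD2_c8 LD3_c37)))))))))))))
theorem f356865 : Led Lsl_et (LP (LK LD1_c8 LD2_c8 LD3_c37)) = (LP (LK LD1_c15 LD2_c20 LD3_c4)) :=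
  Lre_e IH (LK LD1_c8 LD2_c8 LD3_c37) (LK LD1_c15 LD2_c20 LD3_c4) Lrfl Lrfl
theorem f356866 : Led Lsl_gt (LP (LK LD1_c25 LD2_c11 LD3_c17)) = (LP (LK LD1_c15 LD2_c20 LD3_c4)) :=
  Lre_g IH (LK LD1_c25 LD2_c11 LD3_c17) (LK LD1_c15 LD2_c20 LD3_c4) Lrfl Lrfl
theorem f356867 : Led Lsl_ef (LP (LK LD1_c25 LD2_c11 LD3_c17)) = (LP (LK LD1_c19 LD2_c42 LD3_c20)) :=
  Lgr Lrot114 (Lpr_gt (f356866 IH) (Lpe (f356865 IH) (Lpe (f356863 IH) (Lpr_gt (f356859 IH) (Lpr_df (K23.f42226 IH) (Lpe (K23.f340063 IH) (Lpr_gt (K22.f303360 IH) (Lpr_dt (K20.f317747 IH) (Lpr_gt (f351310 IH) (Lpr_df (f355574 IH) (Lpn (LP (LK LD1_c19 LD2_c42 LD3_c20)))))))))))))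
theorem f260811 : Led Lsl_gt (LP (LK LD1_c15 LD2_c36 LD3_c28)) = (LP (LK LD1_c8 LD2_c17 LD3_c60)) :=
  Lre_g IH (LK LD1_c15 LD2_c36 LD3_c28) (LK LD1_c8 LD2_c17 LD3_c60) Lrfl Lrfl
theorem f356873 : Led Lsl_dt (LP (LK LD1_c15 LD2_c20 LD3_c4)) = (LP (LK LD1_c15 LD2_c36 LD3_c28)) :=
  Lgr Lrot171 (Lpe (f356866 IH) (Lpr_ef (f356867 IH) (Lpe (f355574 IH) (Lpe (f351310 IH) (Lpe (K20.f317747 IH) (Lpr_et (K22.f282879 IH) (Lpr_gf (K18.f282846 IH) (Lpe (K15.f256777 IH) (Lpr_dt (K24.f261023 IH) (Lpe (f260811 IH) (Lpn (LP (LK LD1_c15 LD2_c36 LD3_c28)))))))))))))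
theorem f303582 : Led Lsl_et (LP (LK LD1_c15 LD2_c20 LD3_c4)) = (LP (LK LD1_c8 LD2_c8 LD3_c37)) :=
  Lre_e IH (LK LD1_c15 LD2_c20 LD3_c4) (LK LD1_c8 LD2_c8 LD3_c37) Lrfl Lrfl
theorem f290758 : Led Lsl_gt (LP (LK LD1_c8 LD2_c8 LD3_c37)) = (LP (LK LD1_c15 LD2_c19 LD3_c56)) :=
  Lre_g IH (LK LD1_c8 LD2_c8 LD3_c37) (LK LD1_c15 LD2_c19 LD3_c56) Lrfl Lrfl
theorem f356877 : Led Lsl_gt (LP (LK LD1_c15 LD2_c18 LD3_c42)) = (LP (LK LD1_c15 LD2_c36 LD3_c28)) :=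
  Lgr Lrot112 (Lpe (K17.f237152 IH) (Lpe (K18.f256745 IH) (Lpe (K23.f284560 IH) (Lpe (K23.f231271 IH) (Lpr_dt (K23.f231273 IH) (Lpe (K23.f340113 IH) (Lpr_df (K18.f303572 IH) (Lpe (f290758 IH) (Lpe (f303582 IH) (Lpr_dt (f356873 IH) (Lpn (LP (LK LD1_c15 LD2_c36 LD3_c28)))))))))))))
theorem f237148 : Led Lsl_bt (LP (LK LD1_c8 LD2_c8 LD3_c7)) = (LP (LK LD1_c15 LD2_c18 LD3_c42)) :=
  Lre_b IH (LK LD1_c8 LD2_c8 LD3_c7) (LK LD1_c15 LD2_c18 LD3_c42) Lrfl Lrfl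
theorem f237157 : Led Lsl_ct (LP (LK LD1_c8 LD2_c8 LD3_c7)) = (LP (LK LD1_c15 LD2_c19 LD3_c2)) :=
  Lre_c IH (LK LD1_c8 LD2_c8 LD3_c7) (LK LD1_c15 LD2_c19 LD3_c2) Lrfl Lrfl
theorem f356883 : Led Lsl_bt (LP (LK LD1_c15 LD2_c18 LD3_c61)) = (LP (LK LD1_c15 LD2_c36 LD3_c28)) :=
  Lgr Lrot92 (Lpe (K22.f326000 IH) (Lpr_gt (K22.f199226 IH) (Lpe (K22.f199265 IH) (Lpe (K15.f199246 IH) (Lpr_gt (K19.f199260 IH) (Lpr_ct (K21.f199264 IH) (Lpr_gt (K21.f325948 IH) (Lpe (f237157 IH) (Lpr_bt (f237148 IH) (Lpr_gt (f356877 IH) (Lpn (LP (LK LD1_c15 LD2_c36 LD3_c28)))))))))))))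
theorem f212586 : Led Lsl_ct (LP (LK LD1_c8 LD2_c24 LD3_c51)) = (LP (LK LD1_c15 LD2_c48 LD3_c61)) :=
  Lre_c IH (LK LD1_c8 LD2_c24 LD3_c51) (LK LD1_c15 LD2_c48 LD3_c61) Lrfl Lrfl
theorem f356891 : Led Lsl_gf (LP (LK LD1_c17 LD2_c37 LD3_c28)) = (LP (LK LD1_c15 LD2_c48 LD3_c61)) :=
  Lgr Lrot129 (Lpr_cf (K22.f326000 IH) (Lpr_bt (f356883 IH) (Lpr_gt (f260811 IH) (Lpe (K15.f260802 IH) (Lpr_ct (K23.f182304 IH) (Lpr_gt (f260810 IH) (Lpr_cf (f354214 IH) (Lpe (f348582 IH) (Lpe (f354208 IH) (Lpr_ct (f212586 IH) (Lpn (LP (LK LD1_c15 LD2_c48 LD3_c61)))))))))))))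
theorem f326301 : Led Lsl_ct (LP (LK LD1_c17 LD2_c37 LD3_c28)) = (LP (LK LD1_c15 LD2_c18 LD3_c61)) :=
  Lgr Lrot59 (Lpr_cf (K22.f326000 IH) (Lpn (LP (LK LD1_c15 LD2_c18 LD3_c61))))
theorem f279622 : Led Lsl_et (LP (LK LD1_c17 LD2_c53 LD3_c7)) = (LP (LK LD1_c9 LD2_c43 LD3_c49)) :=
  Lre_e IH (LK LD1_c17 LD2_c53 LD3_c7) (LK LD1_c9 LD2_c43 LD3_c49) Lrfl Lrfl
theorem f348712 : Led Lsl_ct (LP (LK LD1_c10 LD2_c39 LD3_c49)) = (LP (LK LD1_c17 LD2_c53 LD3_c7)) :=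
  Lgr Lrot15 (Lpe (K19.f310532 IH) (Lpr_cf (K24.f348707 IH) (Lpe (f279622 IH) (Lpn (LP (LK LD1_c17 LD2_c53 LD3_c7))))))
theorem f348809 : Led Lsl_cf (LP (LK LD1_c10 LD2_c39 LD3_c49)) = (LP (LK LD1_c17 LD2_c53 LD3_c7)) :=
  Lgr Lrot11 (Lpr_ct (f348712 IH) (Lpn (LP (LK LD1_c17 LD2_c53 LD3_c7))))
theorem f321081 : Led Lsl_ct (LP (LK LD1_c9 LD2_c36 LD3_c54)) = (LP (LK LD1_c17 LD2_c42 LD3_c18)) :=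
  Lre_c IH (LK LD1_c9 LD2_c36 LD3_c54) (LK LD1_c17 LD2_c42 LD3_c18) Lrfl Lrfl
theorem f356898 : Led Lsl_gf (LP (LK LD1_c17 LD2_c53 LD3_c7)) = (LP (LK LD1_c17 LD2_c42 LD3_c18)) :=
  Lgr Lrot104 (Lpe (f348809 IH) (Lpr_df (K19.f310524 IH) (Lpe (f326301 IH) (Lpr_gf (f356891 IH) (Lpe (f212586 IH) (Lpr_gf (f354208 IH) (Lpe (K20.f314668 IH) (Lpe (f321086 IH) (Lpr_ct (f321081 IH) (Lpn (LP (LK LD1_c17 LD2_c42 LD3_c18))))))))))))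
theorem f314528 : Led Lsl_et (LP (LK LD1_c9 LD2_c43 LD3_c49)) = (LP (LK LD1_c17 LD2_c53 LD3_c7)) :=
  Lre_e IH (LK LD1_c9 LD2_c43 LD3_c49) (LK LD1_c17 LD2_c53 LD3_c7) Lrfl Lrfl
theorem f199536 : Led Lsl_gt (LP (LK LD1_c11 LD2_c3 LD3_c40)) = (LP (LK LD1_c19 LD2_c56 LD3_c1)) :=
  Lre_g IH (LK LD1_c11 LD2_c3 LD3_c40) (LK LD1_c19 LD2_c56 LD3_c1) Lrfl Lrfl
theorem f321082 : Led Lsl_ct (LP (LK LD1_c17 LD2_c42 LD3_c18)) = (LP (LK LD1_c9 LD2_c36 LD3_c54)) :=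
  Lre_c IH (LK LD1_c17 LD2_c42 LD3_c18) (LK LD1_c9 LD2_c36 LD3_c54) Lrfl Lrfl
theorem f337653 : Led Lsl_ct (LP (LK LD1_c10 LD2_c12 LD3_c13)) = (LP (LK LD1_c18 LD2_c35 LD3_c8)) :=
  Lre_c IH (LK LD1_c10 LD2_c12 LD3_c13) (LK LD1_c18 LD2_c35 LD3_c8) Lrfl Lrfl
theorem f337987 : Led Lsl_ef (LP (LK LD1_c17 LD2_c42 LD3_c18)) = (LP (LK LD1_c18 LD2_c35 LD3_c8)) :=
  Lgr Lrot28 (Lpr_ct (f321082 IH) (Lpr_et (K22.f337982 IH) (Lpr_ct (f337653 IH) (Lpn (LP (LK LD1_c18 LD2_c35 LD3_c8))))))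
theorem f356902 : Led Lsl_df (LP (LK LD1_c19 LD2_c56 LD3_c1)) = (LP (LK LD1_c18 LD2_c35 LD3_c8)) :=
  Lgr Lrot132 (Lpe (f199536 IH) (Lpe (f199535 IH) (Lpe (K19.f314529 IH) (Lpr_ef (K19.f314441 IH) (Lpr_dt (K19.f189917 IH) (Lpr_gf (K19.f314525 IH) (Lpe (K19.f279621 IH) (Lpr_et (f314528 IH) (Lpr_gf (f356898 IH) (Lpr_ef (f337987 IH) (Lpn (LP (LK LD1_c18 LD2_c35 LD3_c8)))))))))))))
theorem f346987 : Led Lsl_gt (LP (LK LD1_c16 LD2_c12 LD3_c51)) = (LP (LK LD1_c18 LD2_c40 LD3_c28)) :=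
  Lgr Lrot137 (Lpe (K19.f31201 IH) (Lpr_dt (K23.f31200 IH) (Lpr_gf (K24.f31198 IH) (Lpr_df (K21.f259175 IH) (Lpr_et (K21.f31642 IH) (Lpr_gf (K21.f326812 IH) (Lpr_ef (K17.f293218 IH) (Lpr_dt (K17.f265355 IH) (Lpr_gf (K23.f346983 IH) (Lpe (K23.f320901 IH) (Lpn (LP (LK LD1_c18 LD2_c40 LD3_c28)))))))))))))
theorem f320872 : Led Lsl_at (LP (LK LD1_c18 LD2_c3 LD3_c48)) = (LP (LK LD1_c9 LD2_c54 LD3_c6)) :=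
  Lgr Lrot100 (Lpr_af (K20.f320864 IH) (Lpn (LP (LK LD1_c9 LD2_c54 LD3_c6))))
theorem f337640 : Led Lsl_gt (LP (LK LD1_c9 LD2_c52 LD3_c4)) = (LP (LK LD1_c10 LD2_c12 LD3_c12)) :=
  Lgr Lrot5 (Lpr_ft (K20.f180949 IH) (Lpr_at (f320872 IH) (Lpr_gf (K22.f337638 IH) (Lpn (LP (LK LD1_c10 LD2_c12 LD3_c12))))))
theorem f336038 : Led Lsl_ct (LP (LK LD1_c10 LD2_c12 LD3_c12)) = (LP (LK LD1_c5 LD2_c10 LD3_c47)) :=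
  Lre_c IH (LK LD1_c10 LD2_c12 LD3_c12) (LK LD1_c5 LD2_c10 LD3_c47) Lrfl Lrfl
theorem f337649 : Led Lsl_dt (LP (LK LD1_c5 LD2_c10 LD3_c47)) = (LP (LK LD1_c10 LD2_c12 LD3_c13)) :=
  Lre_d IH (LK LD1_c5 LD2_c10 LD3_c47) (LK LD1_c10 LD2_c12 LD3_c13) Lrfl Lrfl
theorem f337650 : Led Lsl_ct (LP (LK LD1_c18 LD2_c35 LD3_c8)) = (LP (LK LD1_c10 LD2_c12 LD3_c13)) :=
  Lre_c IH (LK LD1_c18 LD2_c35 LD3_c8) (LK LD1_c10 LD2_c12 LD3_c13) Lrfl Lrfl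
theorem f346989 : Led Lsl_gf (LP (LK LD1_c18 LD2_c35 LD3_c8)) = (LP (LK LD1_c24 LD2_c52 LD3_c27)) :=
  Lgr Lrot104 (Lpr_ct (f337650 IH) (Lpe (f337649 IH) (Lpe (f336038 IH) (Lpe (f337640 IH) (Lpe (K20.f180929 IH) (Lpe (K19.f180940 IH) (Lpr_df (K19.f293374 IH) (Lpr_gt (f346987 IH) (Lpr_ct (K23.f320899 IH) (Lpn (LP (LK LD1_c24 LD2_c52 LD3_c27))))))))))))
theorem f356907 : Led Lsl_gt (LP (LK LD1_c19 LD2_c56 LD3_c1)) = (LP (LK LD1_c21 LD2_c2 LD3_c25)) :=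
  Lgr Lrot49 (Lpr_df (f356902 IH) (Lpr_gf (f346989 IH) (Lpe (K23.f320899 IH) (Lpr_gt (f353430 IH) (Lpe (K23.f310543 IH) (Lpe (K23.f340674 IH) (Lpr_dt (K20.f320769 IH) (Lpr_cf (K22.f322831 IH) (Lpe (K23.f322811 IH) (Lpn (LP (LK LD1_c21 LD2_c2 LD3_c25))))))))))))
theorem f314629 : Led Lsl_dt (LP (LK LD1_c16 LD2_c50 LD3_c14)) = (LP (LK LD1_c26 LD2_c47 LD3_c37)) :=
  Lre_d IH (LK LD1_c16 LD2_c50 LD3_c14) (LK LD1_c26 LD2_c47 LD3_c37) Lrfl Lrfl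
theorem f324618 : Led Lsl_dt (LP (LK LD1_c11 LD2_c3 LD3_c32)) = (LP (LK LD1_c5 LD2_c35 LD3_c40)) :=
  Lre_d IH (LK LD1_c11 LD2_c3 LD3_c32) (LK LD1_c5 LD2_c35 LD3_c40) Lrfl Lrfl
theorem f182598 : Led Lsl_dt (LP (LK LD1_c8 LD2_c14 LD3_c21)) = (LP (LK LD1_c15 LD2_c30 LD3_c0)) :=
  Lre_d IH (LK LD1_c8 LD2_c14 LD3_c21) (LK LD1_c15 LD2_c30 LD3_c0) Lrfl Lrfl
theorem f195508 : Led Lsl_gt (LP (LK LD1_c15 LD2_c29 LD3_c61)) = (LP (LK LD1_c8 LD2_c14 LD3_c21)) :=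
  Lre_g IH (LK LD1_c15 LD2_c29 LD3_c61) (LK LD1_c8 LD2_c14 LD3_c21) Lrfl Lrfl
theorem f340526 : Led Lsl_cf (LP (LK LD1_c8 LD2_c39 LD3_c13)) = (LP (LK LD1_c15 LD2_c29 LD3_c61)) :=
  Lgr Lrot166 (Lpr_gt (K21.f231447 IH) (Lpr_dt (K19.f275289 IH) (Lpe (K19.f255641 IH) (Lpr_dt (K19.f233147 IH) (Lpr_ct (K21.f324608 IH) (Lpe (f324618 IH) (Lpr_gf (K24.f340522 IH) (Lpe (f182598 IH) (Lpe (f195508 IH) (Lpn (LP (LK LD1_c15 LD2_c29 LD3_c61))))))))))))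
theorem f340531 : Led Lsl_dt (LP (LK LD1_c25 LD2_c23 LD3_c15)) = (LP (LK LD1_c15 LD2_c29 LD3_c61)) :=
  Lre_d IH (LK LD1_c25 LD2_c23 LD3_c15) (LK LD1_c15 LD2_c29 LD3_c61) Lrfl Lrfl
theorem f340672 : Led Lsl_gt (LP (LK LD1_c26 LD2_c47 LD3_c37)) = (LP (LK LD1_c25 LD2_c23 LD3_c15)) :=
  Lgr Lrot49 (Lpe (f314629 IH) (Lpe (K24.f340491 IH) (Lpe (K21.f324605 IH) (Lpr_gt (K23.f340670 IH) (Lpr_dt (K21.f311300 IH) (Lpe (K21.f323805 IH) (Lpe (K21.f305477 IH) (Lpr_cf (f340526 IH) (Lpe (f340531 IH) (Lpn (LP (LK LD1_c25 LD2_c23 LD3_c15))))))))))))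
theorem f340538 : Led Lsl_dt (LP (LK LD1_c15 LD2_c29 LD3_c61)) = (LP (LK LD1_c25 LD2_c23 LD3_c15)) :=
  Lre_d IH (LK LD1_c15 LD2_c29 LD3_c61) (LK LD1_c25 LD2_c23 LD3_c15) Lrfl Lrfl
theorem f340537 : Led Lsl_et (LP (LK LD1_c15 LD2_c29 LD3_c61)) = (LP (LK LD1_c25 LD2_c23 LD3_c16)) :=
  Lre_e IH (LK LD1_c15 LD2_c29 LD3_c61) (LK LD1_c25 LD2_c23 LD3_c16) Lrfl Lrfl
theorem f356909 : Led Lsl_gt (LP (LK LD1_c25 LD2_c23 LD3_c16)) = (LP (LK LD1_c17 LD2_c42 LD3_c18)) :=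
  Lgr Lrot131 (Lpe (f340537 IH) (Lpr_dt (f340538 IH) (Lpe (f340672 IH) (Lpe (f314629 IH) (Lpe (K24.f340491 IH) (Lpe (K21.f324562 IH) (Lpr_dt (f191295 IH) (Lpe (f356907 IH) (Lpr_df (f356902 IH) (Lpe (f337987 IH) (Lpn (LP (LK LD1_c17 LD2_c42 LD3_c18)))))))))))))
theorem f340530 : Led Lsl_et (LP (LK LD1_c25 LD2_c23 LD3_c16)) = (LP (LK LD1_c15 LD2_c29 LD3_c61)) :=
  Lre_e IH (LK LD1_c25 LD2_c23 LD3_c16) (LK LD1_c15 LD2_c29 LD3_c61) Lrfl Lrfl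
theorem f340532 : Led Lsl_ct (LP (LK LD1_c16 LD2_c12 LD3_c29)) = (LP (LK LD1_c25 LD2_c23 LD3_c16)) :=
  Lgr Lrot15 (Lpe (K23.f305482 IH) (Lpr_cf (f340526 IH) (Lpe (f340530 IH) (Lpn (LP (LK LD1_c25 LD2_c23 LD3_c16))))))
theorem f259180 : Led Lsl_dt (LP (LK LD1_c15 LD2_c18 LD3_c16)) = (LP (LK LD1_c10 LD2_c1 LD3_c15)) :=
  Lgr Lrot42 (Lpr_df (K21.f259175 IH) (Lpn (LP (LK LD1_c10 LD2_c1 LD3_c15))))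
theorem f259186 : Led Lsl_gf (LP (LK LD1_c16 LD2_c13 LD3_c23)) = (LP (LK LD1_c10 LD2_c1 LD3_c15)) :=
  Lgr Lrot138 (Lpr_dt (K21.f31241 IH) (Lpe (K17.f235617 IH) (Lpr_df (K17.f235583 IH) (Lpr_et (K17.f234102 IH) (Lpr_gt (K13.f235571 IH) (Lpe (K21.f194447 IH) (Lpr_dt (K19.f194434 IH) (Lpr_gt (K21.f194484 IH) (Lpr_df (K23.f259172 IH) (Lpr_et (K21.f259174 IH) (Lpn (LP (LK LD1_c10 LD2_c1 LD3_c15)))))))))))))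
theorem f31236 : Led Lsl_dt (LP (LK LD1_c8 LD2_c39 LD3_c43)) = (LP (LK LD1_c16 LD2_c13 LD3_c23)) :=
  Lre_d IH (LK LD1_c8 LD2_c39 LD3_c43) (LK LD1_c16 LD2_c13 LD3_c23) Lrfl Lrfl
theorem f326807 : Led Lsl_gt (LP (LK LD1_c8 LD2_c41 LD3_c21)) = (LP (LK LD1_c16 LD2_c12 LD3_c29)) :=
  Lgr Lrot131 (Lpe (K21.f227241 IH) (Lpr_dt (f31236 IH) (Lpr_gf (f259186 IH) (Lpe (f259180 IH) (Lpr_gf (K21.f326804 IH) (Lpr_ef (K21.f276777 IH) (Lpe (K20.f321031 IH) (Lpe (K21.f326794 IH) (Lpe (K21.f305480 IH) (Lpr_et (K23.f305482 IH) (Lpn (LP (LK LD1_c16 LD2_c12 LD3_c29)))))))))))))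
theorem f237753 : Led Lsl_gt (LP (LK LD1_c4 LD2_c21 LD3_c49)) = (LP (LK LD1_c8 LD2_c41 LD3_c14)) :=
  Lre_g IH (LK LD1_c4 LD2_c21 LD3_c49) (LK LD1_c8 LD2_c41 LD3_c14) Lrfl Lrfl
theorem f321080 : Led Lsl_dt (LP (LK LD1_c4 LD2_c52 LD3_c15)) = (LP (LK LD1_c9 LD2_c36 LD3_c54)) :=
  Lre_d IH (LK LD1_c4 LD2_c52 LD3_c15) (LK LD1_c9 LD2_c36 LD3_c54) Lrfl Lrfl
theorem f356911 : Led Lsl_ct (LP (LK LD1_c8 LD2_c41 LD3_c14)) = (LP (LK LD1_c4 LD2_c52 LD3_c15)) :=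
  Lgr Lrot110 (Lpe (f237753 IH) (Lpe (K16.f43137 IH) (Lpe (K16.f227234 IH) (Lpe (K17.f227235 IH) (Lpr_gt (f326807 IH) (Lpr_ct (f340532 IH) (Lpr_gt (f356909 IH) (Lpr_ct (f321082 IH) (Lpe (f321080 IH) (Lpn (LP (LK LD1_c4 LD2_c52 LD3_c15))))))))))))
theorem f356913 : Led Lsl_cf (LP (LK LD1_c8 LD2_c41 LD3_c14)) = (LP (LK LD1_c4 LD2_c52 LD3_c15)) :=
  Lgr Lrot11 (Lpr_ct (f356911 IH) (Lpn (LP (LK LD1_c4 LD2_c52 LD3_c15))))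
theorem f301581 : Led Lsl_ct (LP (LK LD1_c9 LD2_c0 LD3_c54)) = (LP (LK LD1_c5 LD2_c23 LD3_c30)) :=
  Lgr Lrot59 (Lpr_cf (K18.f301576 IH) (Lpn (LP (LK LD1_c5 LD2_c23 LD3_c30))))
theorem f356928 : Led Lsl_gt (LP (LK LD1_c8 LD2_c41 LD3_c14)) = (LP (LK LD1_c9 LD2_c38 LD3_c7)) :=
  Lgr Lrot150 (Lpr_cf (f356913 IH) (Lpr_gf (K21.f321075 IH) (Lpe (K14.f247083 IH) (Lpr_gt (K14.f212545 IH) (Lpr_ct (K18.f212558 IH) (Lpr_gt (K18.f235340 IH) (Lpr_ct (f301581 IH) (Lpe (K16.f275727 IH) (Lpr_cf (K18.f270362 IH) (Lpn (LP (LK LD1_c9 LD2_c38 LD3_c7))))))))))))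
theorem f349666 : Led Lsl_et (LP (LK LD1_c8 LD2_c41 LD3_c1)) = (LP (LK LD1_c16 LD2_c15 LD3_c55)) :=
  Lre_e IH (LK LD1_c8 LD2_c41 LD3_c1) (LK LD1_c16 LD2_c15 LD3_c55) Lrfl Lrfl
theorem f349667 : Led Lsl_ct (LP (LK LD1_c16 LD2_c15 LD3_c55)) = (LP (LK LD1_c9 LD2_c34 LD3_c20)) :=
  Lgr Lrot15 (Lpe (f349666 IH) (Lpr_cf (K23.f348964 IH) (Lpe (K20.f315449 IH) (Lpn (LP (LK LD1_c9 LD2_c34 LD3_c20))))))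
theorem f43134 : Led Lsl_gt (LP (LK LD1_c16 LD2_c16 LD3_c25)) = (LP (LK LD1_c8 LD2_c41 LD3_c16)) :=
  Lre_g IH (LK LD1_c16 LD2_c16 LD3_c25) (LK LD1_c8 LD2_c41 LD3_c16) Lrfl Lrfl
theorem f269991 : Led Lsl_gf (LP (LK LD1_c16 LD2_c16 LD3_c25)) = (LP (LK LD1_c17 LD2_c43 LD3_c58)) :=
  Lgr Lrot47 (Lpr_gt (f43134 IH) (Lpr_af (K16.f269979 IH) (Lpe (K16.f269978 IH) (Lpn (LP (LK LD1_c17 LD2_c43 LD3_c58))))))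
theorem f356930 : Led Lsl_df (LP (LK LD1_c16 LD2_c15 LD3_c55)) = (LP (LK LD1_c16 LD2_c16 LD3_c25)) :=
  Lgr Lrot174 (Lpr_ct (f349667 IH) (Lpe (K15.f199215 IH) (Lpr_gf (K22.f332759 IH) (Lpr_df (K16.f239871 IH) (Lpe (K21.f321078 IH) (Lpe (f356913 IH) (Lpr_gt (f356928 IH) (Lpr_dt (K16.f269935 IH) (Lpe (f269991 IH) (Lpn (LP (LK LD1_c16 LD2_c16 LD3_c25))))))))))))
theorem f356936 : Led Lsl_cf (LP (LK LD1_c16 LD2_c15 LD3_c55)) = (LP (LK LD1_c9 LD2_c34 LD3_c20)) :=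
  Lgr Lrot14 (Lpr_df (f356930 IH) (Lpr_gf (f269991 IH) (Lpe (K16.f269935 IH) (Lpe (f356928 IH) (Lpr_ct (f356911 IH) (Lpr_gt (K21.f321078 IH) (Lpe (K16.f239871 IH) (Lpe (K22.f332759 IH) (Lpr_dt (K15.f199215 IH) (Lpn (LP (LK LD1_c9 LD2_c34 LD3_c20))))))))))))
theorem f356941 : Led Lsl_ft (LP (LK LD1_c16 LD2_c15 LD3_c55)) = (LP (LK LD1_c9 LD2_c34 LD3_c17)) :=
  Lgr Lrot4 (Lpr_cf (f356936 IH) (Lpe (K20.f199217 IH) (Lpe (K22.f199209 IH) (Lpn (LP (LK LD1_c9 LD2_c34 LD3_c17))))))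
theorem f356947 : Led Lsl_ff (LP (LK LD1_c16 LD2_c15 LD3_c55)) = (LP (LK LD1_c9 LD2_c34 LD3_c17)) :=
  Lgr Lrot3 (Lpr_ft (f356941 IH) (Lpn (LP (LK LD1_c9 LD2_c34 LD3_c17))))
theorem f305092 : Led Lsl_at (LP (LK LD1_c4 LD2_c19 LD3_c45)) = (LP (LK LD1_c8 LD2_c37 LD3_c38)) :=
  Lre_a IH (LK LD1_c4 LD2_c19 LD3_c45) (LK LD1_c8 LD2_c37 LD3_c38) Lrfl Lrfl
theorem f337163 : Led Lsl_af (LP (LK LD1_c4 LD2_c13 LD3_c20)) = (LP (LK LD1_c4 LD2_c56 LD3_c49)) :=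
  Lgr Lrot36 (Lpr_bt (K21.f309990 IH) (Lpr_at (K22.f337161 IH) (Lpr_bt (K22.f305063 IH) (Lpr_at (f305092 IH) (Lpr_bt (K22.f315439 IH) (Lpn (LP (LK LD1_c4 LD2_c56 LD3_c49))))))))
theorem f354198 : Led Lsl_at (LP (LK LD1_c8 LD2_c24 LD3_c51)) = (LP (LK LD1_c9 LD2_c34 LD3_c20)) :=
  Lgr Lrot80 (Lpr_ef (f354196 IH) (Lpr_af (f337163 IH) (Lpe (K20.f315449 IH) (Lpn (LP (LK LD1_c9 LD2_c34 LD3_c20))))))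
theorem f212591 : Led Lsl_ct (LP (LK LD1_c15 LD2_c48 LD3_c61)) = (LP (LK LD1_c8 LD2_c24 LD3_c51)) :=
  Lre_c IH (LK LD1_c15 LD2_c48 LD3_c61) (LK LD1_c8 LD2_c24 LD3_c51) Lrfl Lrfl
theorem f356939 : Led Lsl_at (LP (LK LD1_c16 LD2_c15 LD3_c55)) = (LP (LK LD1_c15 LD2_c48 LD3_c61)) :=
  Lgr Lrot107 (Lpr_cf (f356936 IH) (Lpe (f354198 IH) (Lpe (f212591 IH) (Lpn (LP (LK LD1_c15 LD2_c48 LD3_c61))))))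
theorem f356953 : Led Lsl_gf (LP (LK LD1_c15 LD2_c48 LD3_c61)) = (LP (LK LD1_c17 LD2_c37 LD3_c27)) :=
  Lgr Lrot76 (Lpe (f356939 IH) (Lpr_ff (f356947 IH) (Lpr_gt (K22.f199269 IH) (Lpn (LP (LK LD1_c17 LD2_c37 LD3_c27))))))
theorem f212587 : Led Lsl_ct (LP (LK LD1_c9 LD2_c0 LD3_c56)) = (LP (LK LD1_c4 LD2_c31 LD3_c30)) :=
  Lre_c IH (LK LD1_c9 LD2_c0 LD3_c56) (LK LD1_c4 LD2_c31 LD3_c30) Lrfl Lrfl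
theorem f308879 : Led Lsl_df (LP (LK LD1_c9 LD2_c34 LD3_c10)) = (LP (LK LD1_c5 LD2_c23 LD3_c25)) :=
  Lgr Lrot18 (Lpr_at (K19.f308871 IH) (Lpr_dt (K14.f235603 IH) (Lpr_at (K20.f255787 IH) (Lpn (LP (LK LD1_c5 LD2_c23 LD3_c25))))))
theorem f356955 : Led Lsl_gt (LP (LK LD1_c9 LD2_c34 LD3_c10)) = (LP (LK LD1_c16 LD2_c3 LD3_c44)) :=
  Lgr Lrot9 (Lpr_df (f308879 IH) (Lpe (K19.f312126 IH) (Lpe (K18.f301549 IH) (Lpe (f354256 IH) (Lpr_ct (f212587 IH) (Lpe (f212588 IH) (Lpe (f212591 IH) (Lpr_gf (f356953 IH) (Lpe (K22.f333777 IH) (Lpn (LP (LK LD1_c16 LD2_c3 LD3_c44))))))))))))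
theorem f356961 : Led Lsl_et (LP (LK LD1_c8 LD2_c42 LD3_c28)) = (LP (LK LD1_c16 LD2_c3 LD3_c44)) :=
  Lgr Lrot122 (Lpr_dt (K21.f43071 IH) (Lpr_gt (K21.f308700 IH) (Lpr_df (K13.f42910 IH) (Lpr_et (K11.f43062 IH) (Lpe (K14.f233406 IH) (Lpe (K13.f184772 IH) (Lpe (K21.f311292 IH) (Lpe (K19.f308869 IH) (Lpr_et (K19.f308843 IH) (Lpr_gt (f356955 IH) (Lpn (LP (LK LD1_c16 LD2_c3 LD3_c44)))))))))))))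
theorem f356969 : Led Lsl_ef (LP (LK LD1_c8 LD2_c42 LD3_c28)) = (LP (LK LD1_c16 LD2_c3 LD3_c44)) :=
  Lgr Lrot88 (Lpr_et (f356961 IH) (Lpn (LP (LK LD1_c16 LD2_c3 LD3_c44))))
theorem f43068 : Led Lsl_ct (LP (LK LD1_c8 LD2_c42 LD3_c28)) = (LP (LK LD1_c16 LD2_c18 LD3_c54)) :=
  Lre_c IH (LK LD1_c8 LD2_c42 LD3_c28) (LK LD1_c16 LD2_c18 LD3_c54) Lrfl Lrfl
theorem f333783 : Led Lsl_cf (LP (LK LD1_c16 LD2_c3 LD3_c44)) = (LP (LK LD1_c17 LD2_c37 LD3_c27)) :=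
  Lgr Lrot11 (Lpr_ct (K22.f333777 IH) (Lpn (LP (LK LD1_c17 LD2_c37 LD3_c27))))
theorem f356971 : Led Lsl_et (LP (LK LD1_c16 LD2_c18 LD3_c54)) = (LP (LK LD1_c17 LD2_c37 LD3_c27)) :=
  Lgr Lrot158 (Lpe (f43068 IH) (Lpr_ef (f356969 IH) (Lpr_cf (f333783 IH) (Lpn (LP (LK LD1_c17 LD2_c37 LD3_c27))))))
theorem f233960 : Led Lsl_et (LP (LK LD1_c4 LD2_c51 LD3_c8)) = (LP (LK LD1_c9 LD2_c34 LD3_c17)) :=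
  Lre_e IH (LK LD1_c4 LD2_c51 LD3_c8) (LK LD1_c9 LD2_c34 LD3_c17) Lrfl Lrfl
theorem f1556 : Led Lsl_gt (LP (LK LD1_c17 LD2_c41 LD3_c37)) = (LP (LK LD1_c9 LD2_c36 LD3_c25)) :=
  Lre_g IH (LK LD1_c17 LD2_c41 LD3_c37) (LK LD1_c9 LD2_c36 LD3_c25) Lrfl Lrfl
theorem f356978 : Led Lsl_dt (LP (LK LD1_c16 LD2_c18 LD3_c54)) = (LP (LK LD1_c17 LD2_c41 LD3_c37)) :=
  Lgr Lrot136 (Lpr_et (f356971 IH) (Lpe (K22.f199269 IH) (Lpe (f233960 IH) (Lpr_dt (K13.f2093 IH) (Lpr_gf (K13.f233941 IH) (Lpe (K13.f184771 IH) (Lpr_gf (K13.f233404 IH) (Lpe (K1.f2474 IH) (Lpr_dt (K23.f1546 IH) (Lpe (f1556 IH) (Lpn (LP (LK LD1_c17 LD2_c41 LD3_c37)))))))))))))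
theorem f243083 : Led Lsl_ct (LP (LK LD1_c16 LD2_c15 LD3_c24)) = (LP (LK LD1_c8 LD2_c40 LD3_c51)) :=
  Lre_c IH (LK LD1_c16 LD2_c15 LD3_c24) (LK LD1_c8 LD2_c40 LD3_c51) Lrfl Lrfl
theorem f354792 : Led Lsl_gf (LP (LK LD1_c8 LD2_c25 LD3_c4)) = (LP (LK LD1_c9 LD2_c38 LD3_c40)) :=
  Lgr Lrot145 (Lpe (f171370 IH) (Lpr_et (f171381 IH) (Lpr_gt (f354782 IH) (Lpr_dt (K10.f191683 IH) (Lpr_gt (K21.f191966 IH) (Lpr_df (K21.f280230 IH) (Lpe (K21.f313443 IH) (Lpr_gt (K23.f313445 IH) (Lpe (K20.f299320 IH) (Lpr_dt (K21.f29797 IH) (Lpn (LP (LK LD1_c9 LD2_c38 LD3_c40)))))))))))))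
theorem f279785 : Led Lsl_dt (LP (LK LD1_c17 LD2_c41 LD3_c42)) = (LP (LK LD1_c9 LD2_c36 LD3_c27)) :=
  Lre_d IH (LK LD1_c17 LD2_c41 LD3_c42) (LK LD1_c9 LD2_c36 LD3_c27) Lrfl Lrfl
theorem f229552 : Led Lsl_ct (LP (LK LD1_c14 LD2_c58 LD3_c19)) = (LP (LK LD1_c7 LD2_c56 LD3_c11)) :=
  Lre_c IH (LK LD1_c14 LD2_c58 LD3_c19) (LK LD1_c7 LD2_c56 LD3_c11) Lrfl Lrfl
theorem f296926 : Led Lsl_et (LP (LK LD1_c8 LD2_c43 LD3_c20)) = (LP (LK LD1_c14 LD2_c58 LD3_c19)) :=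
  Lgr Lrot158 (Lpe (K18.f200509 IH) (Lpr_ef (K18.f296901 IH) (Lpe (f229552 IH) (Lpn (LP (LK LD1_c14 LD2_c58 LD3_c19))))))
theorem f279796 : Led Lsl_et (LP (LK LD1_c9 LD2_c36 LD3_c27)) = (LP (LK LD1_c17 LD2_c41 LD3_c43)) :=
  Lre_e IH (LK LD1_c9 LD2_c36 LD3_c27) (LK LD1_c17 LD2_c41 LD3_c43) Lrfl Lrfl
theorem f279786 : Led Lsl_dt (LP (LK LD1_c9 LD2_c36 LD3_c27)) = (LP (LK LD1_c17 LD2_c41 LD3_c42)) :=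
  Lre_d IH (LK LD1_c9 LD2_c36 LD3_c27) (LK LD1_c17 LD2_c41 LD3_c42) Lrfl Lrfl
theorem f328772 : Led Lsl_gf (LP (LK LD1_c17 LD2_c41 LD3_c42)) = (LP (LK LD1_c26 LD2_c12 LD3_c57)) :=
  Lgr Lrot145 (Lpe (f279786 IH) (Lpr_et (f279796 IH) (Lpe (K21.f328092 IH) (Lpe (K19.f310483 IH) (Lpe (K18.f298022 IH) (Lpe (K18.f200510 IH) (Lpr_et (f296926 IH) (Lpr_gt (K24.f328762 IH) (Lpe (K24.f328732 IH) (Lpr_dt (K24.f243091 IH) (Lpn (LP (LK LD1_c26 LD2_c12 LD3_c57)))))))))))))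
theorem f354811 : Led Lsl_gf (LP (LK LD1_c16 LD2_c15 LD3_c24)) = (LP (LK LD1_c17 LD2_c44 LD3_c59)) :=
  Lgr Lrot144 (Lpr_dt (K24.f243091 IH) (Lpe (f328772 IH) (Lpr_dt (f279785 IH) (Lpe (K22.f1565 IH) (Lpe (K22.f1569 IH) (Lpe (f354770 IH) (Lpr_df (f171356 IH) (Lpr_gf (f354792 IH) (Lpe (K21.f29799 IH) (Lpn (LP (LK LD1_c17 LD2_c44 LD3_c59))))))))))))
theorem f325943 : Led Lsl_df (LP (LK LD1_c17 LD2_c44 LD3_c59)) = (LP (LK LD1_c16 LD2_c18 LD3_c50)) :=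
  Lgr Lrot38 (Lpr_dt (K21.f325940 IH) (Lpn (LP (LK LD1_c16 LD2_c18 LD3_c50))))
theorem f39575 : Led Lsl_gt (LP (LK LD1_c16 LD2_c18 LD3_c51)) = (LP (LK LD1_c26 LD2_c16 LD3_c41)) :=
  Lre_g IH (LK LD1_c16 LD2_c18 LD3_c51) (LK LD1_c26 LD2_c16 LD3_c41) Lrfl Lrfl
theorem f356982 : Led Lsl_ct (LP (LK LD1_c26 LD2_c16 LD3_c41)) = (LP (LK LD1_c17 LD2_c41 LD3_c37)) :=
  Lgr Lrot151 (Lpe (f39575 IH) (Lpe (K13.f39576 IH) (Lpe (K21.f39587 IH) (Lpe (f325943 IH) (Lpe (f354811 IH) (Lpr_ct (f243083 IH) (Lpe (K21.f308704 IH) (Lpr_ct (f43068 IH) (Lpr_dt (f356978 IH) (Lpn (LP (LK LD1_c17 LD2_c41 LD3_c37))))))))))))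
theorem f356984 : Led Lsl_cf (LP (LK LD1_c26 LD2_c16 LD3_c41)) = (LP (LK LD1_c17 LD2_c41 LD3_c37)) :=
  Lgr Lrot11 (Lpr_ct (f356982 IH) (Lpn (LP (LK LD1_c17 LD2_c41 LD3_c37))))
theorem f43051 : Led Lsl_gt (LP (LK LD1_c26 LD2_c16 LD3_c41)) = (LP (LK LD1_c26 LD2_c16 LD3_c43)) :=
  Lgr Lrot46 (Lpe (f39575 IH) (Lpr_ft (K9.f39573 IH) (Lpr_at (K13.f42934 IH) (Lpn (LP (LK LD1_c26 LD2_c16 LD3_c43))))))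
theorem f341523 : Led Lsl_gt (LP (LK LD1_c8 LD2_c1 LD3_c40)) = (LP (LK LD1_c8 LD2_c42 LD3_c27)) :=
  Lgr Lrot5 (Lpr_ft (K1.f29783 IH) (Lpr_at (K1.f1555 IH) (Lpr_gf (K23.f341521 IH) (Lpn (LP (LK LD1_c8 LD2_c42 LD3_c27))))))
theorem f356986 : Led Lsl_gt (LP (LK LD1_c15 LD2_c7 LD3_c3)) = (LP (LK LD1_c17 LD2_c41 LD3_c37)) :=
  Lgr Lrot9 (Lpe (K1.f29203 IH) (Lpr_gt (f341523 IH) (Lpr_ct (K23.f308702 IH) (Lpr_gt (K21.f308700 IH) (Lpr_ct (K13.f200056 IH) (Lpe (K13.f200059 IH) (Lpe (K13.f200063 IH) (Lpe (f43051 IH) (Lpr_cf (f356984 IH) (Lpn (LP (LK LD1_c17 LD2_c41 LD3_c37))))))))))))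
theorem f30700 : Led Lsl_gt (LP (LK LD1_c17 LD2_c43 LD3_c56)) = (LP (LK LD1_c9 LD2_c38 LD3_c6)) :=
  Lre_g IH (LK LD1_c17 LD2_c43 LD3_c56) (LK LD1_c9 LD2_c38 LD3_c6) Lrfl Lrfl
theorem f356990 : Led Lsl_df (LP (LK LD1_c17 LD2_c43 LD3_c56)) = (LP (LK LD1_c15 LD2_c48 LD3_c61)) :=
  Lgr Lrot135 (Lpr_gt (f30700 IH) (Lpe (K22.f2502 IH) (Lpr_et (K16.f2501 IH) (Lpr_gt (K13.f30692 IH) (Lpe (K1.f29685 IH) (Lpr_dt (K1.f29203 IH) (Lpr_gt (f356986 IH) (Lpe (f356978 IH) (Lpr_et (f356971 IH) (Lpe (f356953 IH) (Lpn (LP (LK LD1_c15 LD2_c48 LD3_c61)))))))))))))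
theorem f354200 : Led Lsl_et (LP (LK LD1_c15 LD2_c48 LD3_c61)) = (LP (LK LD1_c8 LD2_c25 LD3_c45)) :=
  Lgr Lrot158 (Lpe (f212586 IH) (Lpr_ef (f354196 IH) (Lpe (f325295 IH) (Lpn (LP (LK LD1_c8 LD2_c25 LD3_c45))))))
theorem f269802 : Led Lsl_ft (LP (LK LD1_c4 LD2_c21 LD3_c58)) = (LP (LK LD1_c8 LD2_c41 LD3_c39)) :=
  Lre_f IH (LK LD1_c4 LD2_c21 LD3_c58) (LK LD1_c8 LD2_c41 LD3_c39) Lrfl Lrfl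
theorem f269803 : Led Lsl_gt (LP (LK LD1_c8 LD2_c41 LD3_c36)) = (LP (LK LD1_c9 LD2_c38 LD3_c15)) :=
  Lgr Lrot46 (Lpe (K21.f269650 IH) (Lpr_ft (f269802 IH) (Lpr_at (K16.f269786 IH) (Lpn (LP (LK LD1_c9 LD2_c38 LD3_c15))))))
theorem f356999 : Led Lsl_gf (LP (LK LD1_c17 LD2_c43 LD3_c56)) = (LP (LK LD1_c16 LD2_c16 LD3_c27)) :=
  Lgr Lrot145 (Lpr_df (f356990 IH) (Lpr_et (f354200 IH) (Lpr_gt (K21.f309992 IH) (Lpr_dt (K15.f28892 IH) (Lpe (K21.f325291 IH) (Lpr_df (K21.f269652 IH) (Lpr_et (K21.f269651 IH) (Lpr_gt (f269803 IH) (Lpr_ef (K16.f270395 IH) (Lpr_dt (K16.f269906 IH) (Lpn (LP (LK LD1_c16 LD2_c16 LD3_c27)))))))))))))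
theorem f356943 : Led Lsl_ff (LP (LK LD1_c16 LD2_c16 LD3_c25)) = (LP (LK LD1_c17 LD2_c37 LD3_c29)) :=
  Lgr Lrot19 (Lpe (f356930 IH) (Lpr_ft (f356941 IH) (Lpr_dt (K22.f2100 IH) (Lpn (LP (LK LD1_c17 LD2_c37 LD3_c29))))))
theorem f357001 : Led Lsl_af (LP (LK LD1_c17 LD2_c43 LD3_c56)) = (LP (LK LD1_c16 LD2_c16 LD3_c25)) :=
  Lgr Lrot31 (Lpr_gf (f356999 IH) (Lpe (K22.f326305 IH) (Lpe (f356943 IH) (Lpn (LP (LK LD1_c16 LD2_c16 LD3_c25))))))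
theorem f356996 : Led Lsl_ft (LP (LK LD1_c8 LD2_c24 LD3_c48)) = (LP (LK LD1_c15 LD2_c48 LD3_c61)) :=
  Lre_f IH (LK LD1_c8 LD2_c24 LD3_c48) (LK LD1_c15 LD2_c48 LD3_c61) Lrfl Lrfl
theorem f356997 : Led Lsl_ft (LP (LK LD1_c17 LD2_c43 LD3_c56)) = (LP (LK LD1_c15 LD2_c48 LD3_c60)) :=
  Lgr Lrot54 (Lpr_df (f356990 IH) (Lpe (f356996 IH) (Lpe (K22.f212557 IH) (Lpn (LP (LK LD1_c15 LD2_c48 LD3_c60))))))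
theorem f357005 : Led Lsl_at (LP (LK LD1_c15 LD2_c48 LD3_c60)) = (LP (LK LD1_c17 LD2_c37 LD3_c29)) :=
  Lgr Lrot66 (Lpe (f356997 IH) (Lpr_af (f357001 IH) (Lpr_ff (f356943 IH) (Lpn (LP (LK LD1_c17 LD2_c37 LD3_c29))))))
theorem f357009 : Led Lsl_af (LP (LK LD1_c8 LD2_c24 LD3_c48)) = (LP (LK LD1_c9 LD2_c34 LD3_c17)) :=
  Lgr Lrot117 (Lpr_dt (K21.f199680 IH) (Lpr_at (f357005 IH) (Lpr_dt (K22.f199210 IH) (Lpn (LP (LK LD1_c9 LD2_c34 LD3_c17))))))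
theorem f357013 : Led Lsl_at (LP (LK LD1_c4 LD2_c12 LD3_c35)) = (LP (LK LD1_c4 LD2_c51 LD3_c8)) :=
  Lgr Lrot80 (Lpe (K21.f199679 IH) (Lpr_af (f357009 IH) (Lpe (f233960 IH) (Lpn (LP (LK LD1_c4 LD2_c51 LD3_c8))))))
theorem f357023 : Led Lsl_af (LP (LK LD1_c2 LD2_c3 LD3_c30)) = (LP (LK LD1_c2 LD2_c23 LD3_c24)) :=
  Lgr Lrot68 (Lpr_ct (K13.f166520 IH) (Lpr_at (f357013 IH) (Lpr_ct (K14.f2091 IH) (Lpn (LP (LK LD1_c2 LD2_c23 LD3_c24))))))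
theorem f357205 : Led Lsl_at (LP (LK LD1_c0 LD2_c58 LD3_c42)) = (LP (LK LD1_c0 LD2_c36 LD3_c36)) :=
  Lgr Lrot67 (Lpe (K13.f166519 IH) (Lpr_af (f357023 IH) (Lpe (K15.f199258 IH) (Lpe (K19.f315051 IH) (Lpe (K12.f178389 IH) (Lpn (LP (LK LD1_c0 LD2_c36 LD3_c36))))))))
theorem f166972 : Led Lsl_et (LP (LK LD1_c2 LD2_c3 LD3_c32)) = (LP (LK LD1_c0 LD2_c58 LD3_c42)) :=
  Lre_e IH (LK LD1_c2 LD2_c3 LD3_c32) (LK LD1_c0 LD2_c58 LD3_c42) Lrfl Lrfl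
theorem f357209 : Led Lsl_af (LP (LK LD1_c2 LD2_c3 LD3_c32)) = (LP (LK LD1_c1 LD2_c19 LD3_c17)) :=
  Lgr Lrot50 (Lpr_et (f166972 IH) (Lpr_at (f357205 IH) (Lpr_et (K21.f170080 IH) (Lpn (LP (LK LD1_c1 LD2_c19 LD3_c17))))))
theorem f170932 : Led Lsl_gt (LP (LK LD1_c4 LD2_c12 LD3_c40)) = (LP (LK LD1_c2 LD2_c3 LD3_c32)) :=
  Lre_g IH (LK LD1_c4 LD2_c12 LD3_c40) (LK LD1_c2 LD2_c3 LD3_c32) Lrfl Lrfl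
theorem f357211 : Led Lsl_ft (LP (LK LD1_c2 LD2_c45 LD3_c54)) = (LP (LK LD1_c1 LD2_c19 LD3_c17)) :=
  Lre_f IH (LK LD1_c2 LD2_c45 LD3_c54) (LK LD1_c1 LD2_c19 LD3_c17) Lrfl Lrfl
theorem f357214 : Led Lsl_gf (LP (LK LD1_c4 LD2_c12 LD3_c40)) = (LP (LK LD1_c2 LD2_c45 LD3_c54)) :=
  Lgr Lrot47 (Lpr_gt (f170932 IH) (Lpr_af (f357209 IH) (Lpe (f357211 IH) (Lpn (LP (LK LD1_c2 LD2_c45 LD3_c54))))))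
theorem f245770 : Led Lsl_ct (LP (LK LD1_c1 LD2_c17 LD3_c27)) = (LP (LK LD1_c0 LD2_c35 LD3_c48)) :=
  Lre_c IH (LK LD1_c1 LD2_c17 LD3_c27) (LK LD1_c0 LD2_c35 LD3_c48) Lrfl Lrfl
theorem f245914 : Led Lsl_ct (LP (LK LD1_c2 LD2_c41 LD3_c43)) = (LP (LK LD1_c1 LD2_c17 LD3_c30)) :=
  Lre_c IH (LK LD1_c2 LD2_c41 LD3_c43) (LK LD1_c1 LD2_c17 LD3_c30) Lrfl Lrfl
theorem f260751 : Led Lsl_gt (LP (LK LD1_c5 LD2_c30 LD3_c57)) = (LP (LK LD1_c2 LD2_c41 LD3_c43)) :=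
  Lre_g IH (LK LD1_c5 LD2_c30 LD3_c57) (LK LD1_c2 LD2_c41 LD3_c43) Lrfl Lrfl
theorem f357216 : Led Lsl_ct (LP (LK LD1_c4 LD2_c12 LD3_c40)) = (LP (LK LD1_c5 LD2_c30 LD3_c57)) :=
  Lgr Lrot152 (Lpr_gf (f357214 IH) (Lpe (K22.f326523 IH) (Lpr_gt (K21.f326576 IH) (Lpe (K19.f306871 IH) (Lpr_gt (K19.f175278 IH) (Lpr_ct (f245770 IH) (Lpe (K13.f178519 IH) (Lpe (f245914 IH) (Lpe (f260751 IH) (Lpn (LP (LK LD1_c5 LD2_c30 LD3_c57))))))))))))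
theorem f245792 : Led Lsl_ct (LP (LK LD1_c1 LD2_c17 LD3_c30)) = (LP (LK LD1_c2 LD2_c41 LD3_c43)) :=
  Lre_c IH (LK LD1_c1 LD2_c17 LD3_c30) (LK LD1_c2 LD2_c41 LD3_c43) Lrfl Lrfl
theorem f347763 : Led Lsl_bt (LP (LK LD1_c1 LD2_c17 LD3_c30)) = (LP (LK LD1_c2 LD2_c41 LD3_c23)) :=
  Lre_b IH (LK LD1_c1 LD2_c17 LD3_c30) (LK LD1_c2 LD2_c41 LD3_c23) Lrfl Lrfl
theorem f326586 : Led Lsl_bt (LP (LK LD1_c5 LD2_c39 LD3_c20)) = (LP (LK LD1_c2 LD2_c45 LD3_c54)) :=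
  Lre_b IH (LK LD1_c5 LD2_c39 LD3_c20) (LK LD1_c2 LD2_c45 LD3_c54) Lrfl Lrfl
theorem f315047 : Led Lsl_ct (LP (LK LD1_c5 LD2_c39 LD3_c20)) = (LP (LK LD1_c11 LD2_c9 LD3_c42)) :=
  Lre_c IH (LK LD1_c5 LD2_c39 LD3_c20) (LK LD1_c11 LD2_c9 LD3_c42) Lrfl Lrfl
theorem f314835 : Led Lsl_ct (LP (LK LD1_c5 LD2_c39 LD3_c11)) = (LP (LK LD1_c2 LD2_c45 LD3_c36)) :=
  Lre_c IH (LK LD1_c5 LD2_c39 LD3_c11) (LK LD1_c2 LD2_c45 LD3_c36) Lrfl Lrfl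
theorem f314841 : Led Lsl_dt (LP (LK LD1_c2 LD2_c45 LD3_c36)) = (LP (LK LD1_c5 LD2_c39 LD3_c20)) :=
  Lre_d IH (LK LD1_c2 LD2_c45 LD3_c36) (LK LD1_c5 LD2_c39 LD3_c20) Lrfl Lrfl
theorem f315028 : Led Lsl_ct (LP (LK LD1_c11 LD2_c9 LD3_c42)) = (LP (LK LD1_c5 LD2_c39 LD3_c20)) :=
  Lre_c IH (LK LD1_c11 LD2_c9 LD3_c42) (LK LD1_c5 LD2_c39 LD3_c20) Lrfl Lrfl
theorem f227199 : Led Lsl_ct (LP (LK LD1_c8 LD2_c8 LD3_c4)) = (LP (LK LD1_c15 LD2_c18 LD3_c59)) :=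
  Lre_c IH (LK LD1_c8 LD2_c8 LD3_c4) (LK LD1_c15 LD2_c18 LD3_c59) Lrfl Lrfl
theorem f326597 : Led Lsl_gf (LP (LK LD1_c11 LD2_c9 LD3_c42)) = (LP (LK LD1_c15 LD2_c18 LD3_c59)) :=
  Lgr Lrot104 (Lpr_ct (f315028 IH) (Lpe (f314841 IH) (Lpe (f314835 IH) (Lpr_gf (K21.f326580 IH) (Lpe (K21.f227001 IH) (Lpe (K21.f227000 IH) (Lpe (K17.f226869 IH) (Lpr_gt (K18.f227194 IH) (Lpr_ct (f227199 IH) (Lpn (LP (LK LD1_c15 LD2_c18 LD3_c59))))))))))))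
theorem f357218 : Led Lsl_bf (LP (LK LD1_c5 LD2_c30 LD3_c14)) = (LP (LK LD1_c8 LD2_c8 LD3_c4)) :=
  Lgr Lrot34 (Lpe (K14.f236153 IH) (Lpe (f347763 IH) (Lpr_ct (f245792 IH) (Lpe (f260751 IH) (Lpe (f357216 IH) (Lpr_gf (f357214 IH) (Lpe (f326586 IH) (Lpr_ct (f315047 IH) (Lpr_gf (f326597 IH) (Lpe (f227199 IH) (Lpn (LP (LK LD1_c8 LD2_c8 LD3_c4)))))))))))))
theorem f199202 : Led Lsl_bt (LP (LK LD1_c4 LD2_c4 LD3_c37)) = (LP (LK LD1_c1 LD2_c59 LD3_c21)) :=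
  Lre_b IH (LK LD1_c4 LD2_c4 LD3_c37) (LK LD1_c1 LD2_c59 LD3_c21) Lrfl Lrfl
theorem f199204 : Led Lsl_bt (LP (LK LD1_c4 LD2_c4 LD3_c43)) = (LP (LK LD1_c4 LD2_c51 LD3_c9)) :=
  Lgr Lrot95 (Lpe (K19.f199203 IH) (Lpe (f199202 IH) (Lpr_df (K15.f199197 IH) (Lpn (LP (LK LD1_c4 LD2_c51 LD3_c9))))))
theorem f199250 : Led Lsl_ct (LP (LK LD1_c4 LD2_c4 LD3_c43)) = (LP (LK LD1_c8 LD2_c10 LD3_c19)) :=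
  Lre_c IH (LK LD1_c4 LD2_c4 LD3_c43) (LK LD1_c8 LD2_c10 LD3_c19) Lrfl Lrfl
theorem f357226 : Led Lsl_gt (LP (LK LD1_c8 LD2_c10 LD3_c19)) = (LP (LK LD1_c15 LD2_c18 LD3_c59)) :=
  Lgr Lrot65 (Lpe (f199250 IH) (Lpr_bt (f199204 IH) (Lpe (K22.f199219 IH) (Lpe (K22.f333785 IH) (Lpe (K20.f301131 IH) (Lpr_gf (K22.f295718 IH) (Lpe (K18.f295724 IH) (Lpe (K21.f295761 IH) (Lpr_bf (f357218 IH) (Lpr_ct (f227199 IH) (Lpn (LP (LK LD1_c15 LD2_c18 LD3_c59)))))))))))))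
theorem f346621 : Led Lsl_ft (LP (LK LD1_c8 LD2_c10 LD3_c19)) = (LP (LK LD1_c15 LD2_c23 LD3_c25)) :=
  Lre_f IH (LK LD1_c8 LD2_c10 LD3_c19) (LK LD1_c15 LD2_c23 LD3_c25) Lrfl Lrfl
theorem f357228 : Led Lsl_at (LP (LK LD1_c15 LD2_c23 LD3_c25)) = (LP (LK LD1_c11 LD2_c9 LD3_c42)) :=
  Lgr Lrot26 (Lpe (f346621 IH) (Lpr_gt (f357226 IH) (Lpe (f326597 IH) (Lpn (LP (LK LD1_c11 LD2_c9 LD3_c42))))))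
theorem f233320 : Led Lsl_et (LP (LK LD1_c4 LD2_c21 LD3_c18)) = (LP (LK LD1_c8 LD2_c40 LD3_c16)) :=
  Lre_e IH (LK LD1_c4 LD2_c21 LD3_c18) (LK LD1_c8 LD2_c40 LD3_c16) Lrfl Lrfl
theorem f346617 : Led Lsl_ef (LP (LK LD1_c16 LD2_c9 LD3_c40)) = (LP (LK LD1_c15 LD2_c23 LD3_c25)) :=
  Lgr Lrot17 (Lpe (K22.f331284 IH) (Lpe (f233320 IH) (Lpr_dt (K13.f184367 IH) (Lpe (K13.f233260 IH) (Lpe (K0.f1716 IH) (Lpe (K9.f167238 IH) (Lpe (K21.f167268 IH) (Lpr_dt (K21.f167269 IH) (Lpr_gf (K23.f346612 IH) (Lpe (K23.f314970 IH) (Lpn (LP (LK LD1_c15 LD2_c23 LD3_c25)))))))))))))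
theorem f346619 : Led Lsl_et (LP (LK LD1_c16 LD2_c9 LD3_c40)) = (LP (LK LD1_c15 LD2_c23 LD3_c25)) :=
  Lgr Lrot87 (Lpr_ef (f346617 IH) (Lpn (LP (LK LD1_c15 LD2_c23 LD3_c25))))
theorem f305052 : Led Lsl_at (LP (LK LD1_c8 LD2_c37 LD3_c39)) = (LP (LK LD1_c16 LD2_c9 LD3_c40)) :=
  Lre_a IH (LK LD1_c8 LD2_c37 LD3_c39) (LK LD1_c16 LD2_c9 LD3_c40) Lrfl Lrfl
theorem f357238 : Led Lsl_ef (LP (LK LD1_c8 LD2_c37 LD3_c39)) = (LP (LK LD1_c11 LD2_c9 LD3_c42)) :=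
  Lgr Lrot20 (Lpr_at (f305052 IH) (Lpr_et (f346619 IH) (Lpr_at (f357228 IH) (Lpn (LP (LK LD1_c11 LD2_c9 LD3_c42))))))
theorem f1814 : Led Lsl_gt (LP (LK LD1_c17 LD2_c40 LD3_c13)) = (LP (LK LD1_c9 LD2_c35 LD3_c53)) :=
  Lre_g IH (LK LD1_c17 LD2_c40 LD3_c13) (LK LD1_c9 LD2_c35 LD3_c53) Lrfl Lrfl
theorem f357241 : Led Lsl_df (LP (LK LD1_c17 LD2_c40 LD3_c13)) = (LP (LK LD1_c11 LD2_c9 LD3_c42)) :=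
  Lgr Lrot170 (Lpr_gt (f1814 IH) (Lpe (K19.f1813 IH) (Lpr_et (K19.f1812 IH) (Lpr_gt (K12.f1800 IH) (Lpe (K13.f1787 IH) (Lpr_gt (K13.f1795 IH) (Lpr_df (K13.f233205 IH) (Lpr_et (K19.f233207 IH) (Lpr_gt (K19.f305003 IH) (Lpr_ef (f357238 IH) (Lpn (LP (LK LD1_c11 LD2_c9 LD3_c42)))))))))))))
theorem f186914 : Led Lsl_dt (LP (LK LD1_c9 LD2_c34 LD3_c12)) = (LP (LK LD1_c17 LD2_c37 LD3_c20)) :=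
  Lre_d IH (LK LD1_c9 LD2_c34 LD3_c12) (LK LD1_c17 LD2_c37 LD3_c20) Lrfl Lrfl
theorem f327806 : Led Lsl_at (LP (LK LD1_c17 LD2_c37 LD3_c20)) = (LP (LK LD1_c15 LD2_c34 LD3_c51)) :=
  Lgr Lrot51 (Lpe (f186914 IH) (Lpr_af (K21.f327802 IH) (Lpe (K24.f228988 IH) (Lpn (LP (LK LD1_c15 LD2_c34 LD3_c51))))))
theorem f186898 : Led Lsl_dt (LP (LK LD1_c17 LD2_c37 LD3_c20)) = (LP (LK LD1_c9 LD2_c34 LD3_c12)) :=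
  Lre_d IH (LK LD1_c17 LD2_c37 LD3_c20) (LK LD1_c9 LD2_c34 LD3_c12) Lrfl Lrfl
theorem f327804 : Led Lsl_ff (LP (LK LD1_c17 LD2_c37 LD3_c20)) = (LP (LK LD1_c25 LD2_c45 LD3_c32)) :=
  Lgr Lrot19 (Lpr_dt (f186898 IH) (Lpr_ft (K21.f327798 IH) (Lpr_dt (K24.f171744 IH) (Lpn (LP (LK LD1_c25 LD2_c45 LD3_c32))))))
theorem f350005 : Led Lsl_gt (LP (LK LD1_c25 LD2_c45 LD3_c32)) = (LP (LK LD1_c17 LD2_c43 LD3_c37)) :=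
  Lgr Lrot5 (Lpe (f327804 IH) (Lpr_at (f327806 IH) (Lpr_gf (K24.f350003 IH) (Lpn (LP (LK LD1_c17 LD2_c43 LD3_c37))))))
theorem f186959 : Led Lsl_ft (LP (LK LD1_c4 LD2_c51 LD3_c51)) = (LP (LK LD1_c9 LD2_c35 LD3_c54)) :=
  Lre_f IH (LK LD1_c4 LD2_c51 LD3_c51) (LK LD1_c9 LD2_c35 LD3_c54) Lrfl Lrfl
theorem f53077 : Led Lsl_gt (LP (LK LD1_c8 LD2_c6 LD3_c61)) = (LP (LK LD1_c15 LD2_c16 LD3_c60)) :=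
  Lre_g IH (LK LD1_c8 LD2_c6 LD3_c61) (LK LD1_c15 LD2_c16 LD3_c60) Lrfl Lrfl
theorem f290978 : Led Lsl_dt (LP (LK LD1_c15 LD2_c16 LD3_c60)) = (LP (LK LD1_c8 LD2_c14 LD3_c11)) :=
  Lgr Lrot115 (Lpe (f53077 IH) (Lpr_ct (K19.f290970 IH) (Lpr_gt (K19.f290905 IH) (Lpe (K19.f290911 IH) (Lpr_gt (K14.f190944 IH) (Lpr_dt (K15.f190943 IH) (Lpr_ct (K15.f233751 IH) (Lpe (K15.f189202 IH) (Lpr_gf (K23.f265723 IH) (Lpn (LP (LK LD1_c8 LD2_c14 LD3_c11))))))))))))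
theorem f291118 : Led Lsl_df (LP (LK LD1_c15 LD2_c16 LD3_c60)) = (LP (LK LD1_c8 LD2_c14 LD3_c11)) :=
  Lgr Lrot38 (Lpr_dt (f290978 IH) (Lpn (LP (LK LD1_c8 LD2_c14 LD3_c11))))
theorem f291146 : Led Lsl_et (LP (LK LD1_c1 LD2_c59 LD3_c20)) = (LP (LK LD1_c4 LD2_c4 LD3_c40)) :=
  Lre_e IH (LK LD1_c1 LD2_c59 LD3_c20) (LK LD1_c4 LD2_c4 LD3_c40) Lrfl Lrfl
theorem f291147 : Led Lsl_gf (LP (LK LD1_c4 LD2_c4 LD3_c40)) = (LP (LK LD1_c8 LD2_c8 LD3_c3)) :=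
  Lgr Lrot141 (Lpe (f291146 IH) (Lpe (K22.f227186 IH) (Lpr_gt (K10.f53069 IH) (Lpe (K10.f52265 IH) (Lpr_et (K23.f52311 IH) (Lpr_gt (K15.f50323 IH) (Lpr_dt (K20.f51361 IH) (Lpr_gt (f53077 IH) (Lpr_df (f291118 IH) (Lpe (K20.f265754 IH) (Lpn (LP (LK LD1_c8 LD2_c8 LD3_c3)))))))))))))
theorem f244071 : Led Lsl_ct (LP (LK LD1_c4 LD2_c4 LD3_c40)) = (LP (LK LD1_c1 LD2_c59 LD3_c21)) :=
  Lre_c IH (LK LD1_c4 LD2_c4 LD3_c40) (LK LD1_c1 LD2_c59 LD3_c21) Lrfl Lrfl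
theorem f226864 : Led Lsl_ct (LP (LK LD1_c8 LD2_c8 LD3_c5)) = (LP (LK LD1_c15 LD2_c18 LD3_c60)) :=
  Lre_c IH (LK LD1_c8 LD2_c8 LD3_c5) (LK LD1_c15 LD2_c18 LD3_c60) Lrfl Lrfl
theorem f291154 : Led Lsl_gf (LP (LK LD1_c8 LD2_c10 LD3_c19)) = (LP (LK LD1_c15 LD2_c18 LD3_c60)) :=
  Lgr Lrot104 (Lpr_ct (K19.f199306 IH) (Lpe (K19.f199203 IH) (Lpe (f244071 IH) (Lpr_gf (f291147 IH) (Lpe (K20.f227206 IH) (Lpe (K19.f269387 IH) (Lpe (K14.f238712 IH) (Lpr_gt (K19.f269400 IH) (Lpr_ct (f226864 IH) (Lpn (LP (LK LD1_c15 LD2_c18 LD3_c60))))))))))))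
theorem f291163 : Led Lsl_ct (LP (LK LD1_c15 LD2_c18 LD3_c56)) = (LP (LK LD1_c8 LD2_c8 LD3_c1)) :=
  Lre_c IH (LK LD1_c15 LD2_c18 LD3_c56) (LK LD1_c8 LD2_c8 LD3_c1) Lrfl Lrfl
theorem f291164 : Led Lsl_dt (LP (LK LD1_c25 LD2_c9 LD3_c56)) = (LP (LK LD1_c15 LD2_c18 LD3_c56)) :=
  Lre_d IH (LK LD1_c25 LD2_c9 LD3_c56) (LK LD1_c15 LD2_c18 LD3_c56) Lrfl Lrfl
theorem f291165 : Led Lsl_gt (LP (LK LD1_c15 LD2_c23 LD3_c24)) = (LP (LK LD1_c25 LD2_c9 LD3_c56)) :=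
  Lgr Lrot49 (Lpe (K19.f197715 IH) (Lpr_gf (f291154 IH) (Lpe (f226864 IH) (Lpr_gt (K19.f226861 IH) (Lpr_dt (K17.f226869 IH) (Lpr_gt (K21.f227000 IH) (Lpr_dt (K19.f291162 IH) (Lpe (f291163 IH) (Lpe (f291164 IH) (Lpn (LP (LK LD1_c25 LD2_c9 LD3_c56))))))))))))
theorem f186953 : Led Lsl_ft (LP (LK LD1_c9 LD2_c35 LD3_c53)) = (LP (LK LD1_c17 LD2_c40 LD3_c15)) :=
  Lre_f IH (LK LD1_c9 LD2_c35 LD3_c53) (LK LD1_c17 LD2_c40 LD3_c15) Lrfl Lrfl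
theorem f291172 : Led Lsl_at (LP (LK LD1_c17 LD2_c40 LD3_c15)) = (LP (LK LD1_c25 LD2_c9 LD3_c56)) :=
  Lgr Lrot26 (Lpe (f186953 IH) (Lpe (K19.f224923 IH) (Lpr_gt (f291165 IH) (Lpn (LP (LK LD1_c25 LD2_c9 LD3_c56))))))
theorem f291177 : Led Lsl_dt (LP (LK LD1_c9 LD2_c35 LD3_c54)) = (LP (LK LD1_c17 LD2_c40 LD3_c15)) :=
  Lre_d IH (LK LD1_c9 LD2_c35 LD3_c54) (LK LD1_c17 LD2_c40 LD3_c15) Lrfl Lrfl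
theorem f291178 : Led Lsl_af (LP (LK LD1_c9 LD2_c35 LD3_c54)) = (LP (LK LD1_c15 LD2_c18 LD3_c56)) :=
  Lgr Lrot117 (Lpr_dt (f291177 IH) (Lpr_at (f291172 IH) (Lpr_dt (f291164 IH) (Lpn (LP (LK LD1_c15 LD2_c18 LD3_c56))))))
theorem f291180 : Led Lsl_at (LP (LK LD1_c9 LD2_c35 LD3_c54)) = (LP (LK LD1_c15 LD2_c18 LD3_c56)) :=
  Lgr Lrot100 (Lpr_af (f291178 IH) (Lpn (LP (LK LD1_c15 LD2_c18 LD3_c56))))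
theorem f350009 : Led Lsl_gf (LP (LK LD1_c15 LD2_c18 LD3_c56)) = (LP (LK LD1_c9 LD2_c35 LD3_c20)) :=
  Lgr Lrot76 (Lpe (f291180 IH) (Lpe (f186959 IH) (Lpr_gt (K24.f350007 IH) (Lpn (LP (LK LD1_c9 LD2_c35 LD3_c20))))))
theorem f291169 : Led Lsl_dt (LP (LK LD1_c15 LD2_c18 LD3_c56)) = (LP (LK LD1_c25 LD2_c9 LD3_c56)) :=
  Lre_d IH (LK LD1_c15 LD2_c18 LD3_c56) (LK LD1_c25 LD2_c9 LD3_c56) Lrfl Lrfl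
theorem f357255 : Led Lsl_gf (LP (LK LD1_c17 LD2_c40 LD3_c13)) = (LP (LK LD1_c25 LD2_c9 LD3_c56)) :=
  Lgr Lrot134 (Lpr_df (f357241 IH) (Lpe (f357238 IH) (Lpr_gt (K22.f305008 IH) (Lpr_ef (K24.f337327 IH) (Lpr_dt (K24.f171744 IH) (Lpr_gt (f350005 IH) (Lpe (K24.f279406 IH) (Lpr_et (K24.f327519 IH) (Lpe (f350009 IH) (Lpr_dt (f291169 IH) (Lpn (LP (LK LD1_c25 LD2_c9 LD3_c56)))))))))))))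
theorem f291174 : Led Lsl_ft (LP (LK LD1_c15 LD2_c23 LD3_c24)) = (LP (LK LD1_c25 LD2_c15 LD3_c41)) :=
  Lre_f IH (LK LD1_c15 LD2_c23 LD3_c24) (LK LD1_c25 LD2_c15 LD3_c41) Lrfl Lrfl
theorem f357257 : Led Lsl_af (LP (LK LD1_c17 LD2_c40 LD3_c13)) = (LP (LK LD1_c25 LD2_c15 LD3_c41)) :=
  Lgr Lrot31 (Lpr_gf (f357255 IH) (Lpe (f291165 IH) (Lpr_ft (f291174 IH) (Lpn (LP (LK LD1_c25 LD2_c15 LD3_c41))))))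
theorem f244365 : Led Lsl_ct (LP (LK LD1_c8 LD2_c10 LD3_c9)) = (LP (LK LD1_c15 LD2_c23 LD3_c7)) :=
  Lre_c IH (LK LD1_c8 LD2_c10 LD3_c9) (LK LD1_c15 LD2_c23 LD3_c7) Lrfl Lrfl
theorem f314977 : Led Lsl_dt (LP (LK LD1_c15 LD2_c23 LD3_c7)) = (LP (LK LD1_c25 LD2_c15 LD3_c17)) :=
  Lre_d IH (LK LD1_c15 LD2_c23 LD3_c7) (LK LD1_c25 LD2_c15 LD3_c17) Lrfl Lrfl
theorem f357259 : Led Lsl_cf (LP (LK LD1_c17 LD2_c40 LD3_c13)) = (LP (LK LD1_c25 LD2_c15 LD3_c17)) :=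
  Lgr Lrot102 (Lpr_af (f357257 IH) (Lpe (f291174 IH) (Lpr_dt (K19.f199319 IH) (Lpr_ct (K19.f199306 IH) (Lpr_dt (K19.f199255 IH) (Lpr_ct (K19.f224906 IH) (Lpr_dt (K19.f244354 IH) (Lpr_ct (f244365 IH) (Lpr_dt (f314977 IH) (Lpn (LP (LK LD1_c25 LD2_c15 LD3_c17))))))))))))
theorem f314980 : Led Lsl_ft (LP (LK LD1_c5 LD2_c39 LD3_c19)) = (LP (LK LD1_c11 LD2_c9 LD3_c42)) :=
  Lre_f IH (LK LD1_c5 LD2_c39 LD3_c19) (LK LD1_c11 LD2_c9 LD3_c42) Lrfl Lrfl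
theorem f357249 : Led Lsl_ft (LP (LK LD1_c17 LD2_c40 LD3_c13)) = (LP (LK LD1_c11 LD2_c9 LD3_c41)) :=
  Lgr Lrot54 (Lpr_df (f357241 IH) (Lpe (f314980 IH) (Lpe (K21.f216448 IH) (Lpn (LP (LK LD1_c11 LD2_c9 LD3_c41))))))
theorem f357261 : Led Lsl_ft (LP (LK LD1_c20 LD2_c4 LD3_c9)) = (LP (LK LD1_c25 LD2_c15 LD3_c17)) :=
  Lgr Lrot4 (Lpe (K19.f216617 IH) (Lpe (f357249 IH) (Lpr_cf (f357259 IH) (Lpn (LP (LK LD1_c25 LD2_c15 LD3_c17))))))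
theorem f314969 : Led Lsl_dt (LP (LK LD1_c20 LD2_c3 LD3_c42)) = (LP (LK LD1_c11 LD2_c9 LD3_c24)) :=
  Lre_d IH (LK LD1_c20 LD2_c3 LD3_c42) (LK LD1_c11 LD2_c9 LD3_c24) Lrfl Lrfl
theorem f314971 : Led Lsl_cf (LP (LK LD1_c20 LD2_c3 LD3_c42)) = (LP (LK LD1_c25 LD2_c15 LD3_c41)) :=
  Lgr Lrot55 (Lpr_dt (f314969 IH) (Lpr_ct (K24.f269452 IH) (Lpr_dt (K19.f228263 IH) (Lpr_ct (K19.f228314 IH) (Lpr_dt (K13.f200468 IH) (Lpr_ct (K19.f216447 IH) (Lpr_dt (K19.f196976 IH) (Lpr_ct (K19.f216617 IH) (Lpr_dt (K19.f314966 IH) (Lpr_ct (K19.f314965 IH) (Lpr_dt (K19.f314964 IH) (Lpr_ct (K19.f314963 IH) (Lpr_dt (K15.f199239 IH) (Lpr_ct (K23.f199249 IH) (Lpr_dt (K23.f314970 IH) (Lpn (LP (LK LD1_c25 LD2_c15 LD3_c41))))))))))))))))))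
theorem f357263 : Led Lsl_af (LP (LK LD1_c20 LD2_c3 LD3_c42)) = (LP (LK LD1_c25 LD2_c15 LD3_c17)) :=
  Lgr Lrot109 (Lpr_cf (f314971 IH) (Lpe (K23.f314970 IH) (Lpe (K23.f199249 IH) (Lpe (K15.f199239 IH) (Lpe (K19.f314963 IH) (Lpe (K19.f314964 IH) (Lpe (K19.f314965 IH) (Lpe (K19.f314966 IH) (Lpr_ft (f357261 IH) (Lpn (LP (LK LD1_c25 LD2_c15 LD3_c17))))))))))))
theorem f314850 : Led Lsl_dt (LP (LK LD1_c11 LD2_c9 LD3_c25)) = (LP (LK LD1_c5 LD2_c39 LD3_c11)) :=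
  Lre_d IH (LK LD1_c11 LD2_c9 LD3_c25) (LK LD1_c5 LD2_c39 LD3_c11) Lrfl Lrfl
theorem f314992 : Led Lsl_ct (LP (LK LD1_c20 LD2_c3 LD3_c43)) = (LP (LK LD1_c11 LD2_c9 LD3_c25)) :=
  Lre_c IH (LK LD1_c20 LD2_c3 LD3_c43) (LK LD1_c11 LD2_c9 LD3_c25) Lrfl Lrfl
theorem f315029 : Led Lsl_df (LP (LK LD1_c20 LD2_c3 LD3_c43)) = (LP (LK LD1_c25 LD2_c15 LD3_c39)) :=
  Lgr Lrot38 (Lpr_dt (K19.f315024 IH) (Lpn (LP (LK LD1_c25 LD2_c15 LD3_c39))))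
theorem f224927 : Led Lsl_ct (LP (LK LD1_c15 LD2_c23 LD3_c24)) = (LP (LK LD1_c25 LD2_c15 LD3_c39)) :=
  Lre_c IH (LK LD1_c15 LD2_c23 LD3_c24) (LK LD1_c25 LD2_c15 LD3_c39) Lrfl Lrfl
theorem f244068 : Led Lsl_dt (LP (LK LD1_c8 LD2_c10 LD3_c9)) = (LP (LK LD1_c4 LD2_c4 LD3_c40)) :=
  Lre_d IH (LK LD1_c8 LD2_c10 LD3_c9) (LK LD1_c4 LD2_c4 LD3_c40) Lrfl Lrfl
theorem f291149 : Led Lsl_dt (LP (LK LD1_c25 LD2_c15 LD3_c17)) = (LP (LK LD1_c15 LD2_c23 LD3_c7)) :=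
  Lre_d IH (LK LD1_c25 LD2_c15 LD3_c17) (LK LD1_c15 LD2_c23 LD3_c7) Lrfl Lrfl
theorem f357245 : Led Lsl_ct (LP (LK LD1_c17 LD2_c40 LD3_c13)) = (LP (LK LD1_c25 LD2_c15 LD3_c17)) :=
  Lgr Lrot176 (Lpr_df (f357241 IH) (Lpe (f315047 IH) (Lpe (f314841 IH) (Lpe (f314835 IH) (Lpe (f314850 IH) (Lpe (f314992 IH) (Lpr_df (f315029 IH) (Lpe (f224927 IH) (Lpe (K19.f197715 IH) (Lpe (f199250 IH) (Lpe (K19.f199203 IH) (Lpe (f244071 IH) (Lpe (f244068 IH) (Lpe (K24.f291150 IH) (Lpe (f291149 IH) (Lpn (LP (LK LD1_c25 LD2_c15 LD3_c17))))))))))))))))))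
theorem f357265 : Led Lsl_ct (LP (LK LD1_c20 LD2_c3 LD3_c42)) = (LP (LK LD1_c25 LD2_c15 LD3_c41)) :=
  Lgr Lrot111 (Lpr_af (f357263 IH) (Lpe (f357245 IH) (Lpr_af (f357257 IH) (Lpn (LP (LK LD1_c25 LD2_c15 LD3_c41))))))
theorem f269464 : Led Lsl_dt (LP (LK LD1_c11 LD2_c9 LD3_c24)) = (LP (LK LD1_c20 LD2_c3 LD3_c42)) :=
  Lre_d IH (LK LD1_c11 LD2_c9 LD3_c24) (LK LD1_c20 LD2_c3 LD3_c42) Lrfl Lrfl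
theorem f315032 : Led Lsl_ft (LP (LK LD1_c11 LD2_c9 LD3_c24)) = (LP (LK LD1_c20 LD2_c3 LD3_c43)) :=
  Lre_f IH (LK LD1_c11 LD2_c9 LD3_c24) (LK LD1_c20 LD2_c3 LD3_c43) Lrfl Lrfl
theorem f199248 : Led Lsl_dt (LP (LK LD1_c25 LD2_c15 LD3_c41)) = (LP (LK LD1_c15 LD2_c23 LD3_c25)) :=
  Lre_d IH (LK LD1_c25 LD2_c15 LD3_c41) (LK LD1_c15 LD2_c23 LD3_c25) Lrfl Lrfl
theorem f199243 : Led Lsl_ct (LP (LK LD1_c15 LD2_c23 LD3_c25)) = (LP (LK LD1_c8 LD2_c10 LD3_c20)) :=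
  Lre_c IH (LK LD1_c15 LD2_c23 LD3_c25) (LK LD1_c8 LD2_c10 LD3_c20) Lrfl Lrfl
theorem f314954 : Led Lsl_ct (LP (LK LD1_c4 LD2_c4 LD3_c44)) = (LP (LK LD1_c8 LD2_c10 LD3_c10)) :=
  Lre_c IH (LK LD1_c4 LD2_c4 LD3_c44) (LK LD1_c8 LD2_c10 LD3_c10) Lrfl Lrfl
theorem f314986 : Led Lsl_ct (LP (LK LD1_c15 LD2_c23 LD3_c8)) = (LP (LK LD1_c25 LD2_c15 LD3_c18)) :=
  Lre_c IH (LK LD1_c15 LD2_c23 LD3_c8) (LK LD1_c25 LD2_c15 LD3_c18) Lrfl Lrfl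
theorem f357271 : Led Lsl_at (LP (LK LD1_c20 LD2_c3 LD3_c43)) = (LP (LK LD1_c25 LD2_c15 LD3_c18)) :=
  Lgr Lrot33 (Lpe (f315032 IH) (Lpr_dt (f269464 IH) (Lpr_ct (f357265 IH) (Lpr_dt (f199248 IH) (Lpr_ct (f199243 IH) (Lpr_dt (K20.f199231 IH) (Lpr_ct (f314954 IH) (Lpr_dt (K24.f314987 IH) (Lpr_ct (f314986 IH) (Lpn (LP (LK LD1_c25 LD2_c15 LD3_c18))))))))))))
theorem f314976 : Led Lsl_ft (LP (LK LD1_c25 LD2_c15 LD3_c18)) = (LP (LK LD1_c15 LD2_c23 LD3_c7)) :=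
  Lre_f IH (LK LD1_c25 LD2_c15 LD3_c18) (LK LD1_c15 LD2_c23 LD3_c7) Lrfl Lrfl
theorem f357273 : Led Lsl_af (LP (LK LD1_c11 LD2_c9 LD3_c24)) = (LP (LK LD1_c15 LD2_c23 LD3_c7)) :=
  Lgr Lrot45 (Lpr_ft (f315032 IH) (Lpr_at (f357271 IH) (Lpr_ft (f314976 IH) (Lpn (LP (LK LD1_c15 LD2_c23 LD3_c7))))))
theorem f269453 : Led Lsl_gt (LP (LK LD1_c20 LD2_c3 LD3_c41)) = (LP (LK LD1_c11 LD2_c9 LD3_c24)) :=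
  Lre_g IH (LK LD1_c20 LD2_c3 LD3_c41) (LK LD1_c11 LD2_c9 LD3_c24) Lrfl Lrfl
theorem f357281 : Led Lsl_gf (LP (LK LD1_c20 LD2_c3 LD3_c41)) = (LP (LK LD1_c25 LD2_c15 LD3_c18)) :=
  Lgr Lrot47 (Lpr_gt (f269453 IH) (Lpr_af (f357273 IH) (Lpe (f314976 IH) (Lpn (LP (LK LD1_c25 LD2_c15 LD3_c18))))))
theorem f226872 : Led Lsl_gt (LP (LK LD1_c15 LD2_c18 LD3_c51)) = (LP (LK LD1_c8 LD2_c7 LD3_c60)) :=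
  Lre_g IH (LK LD1_c15 LD2_c18 LD3_c51) (LK LD1_c8 LD2_c7 LD3_c60) Lrfl Lrfl
theorem f269343 : Led Lsl_gt (LP (LK LD1_c16 LD2_c8 LD3_c24)) = (LP (LK LD1_c15 LD2_c18 LD3_c51)) :=
  Lgr Lrot5 (Lpr_ft (K16.f223617 IH) (Lpr_at (K16.f269334 IH) (Lpe (f226872 IH) (Lpn (LP (LK LD1_c15 LD2_c18 LD3_c51))))))
theorem f269454 : Led Lsl_ct (LP (LK LD1_c15 LD2_c18 LD3_c51)) = (LP (LK LD1_c20 LD2_c3 LD3_c41)) :=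
  Lgr Lrot152 (Lpe (f269343 IH) (Lpe (K16.f269402 IH) (Lpr_gt (K19.f269450 IH) (Lpr_ct (K18.f216449 IH) (Lpr_gt (K13.f196955 IH) (Lpr_ct (K19.f216451 IH) (Lpe (K19.f228263 IH) (Lpe (K24.f269452 IH) (Lpe (f269453 IH) (Lpn (LP (LK LD1_c20 LD2_c3 LD3_c41))))))))))))
theorem f269461 : Led Lsl_cf (LP (LK LD1_c15 LD2_c18 LD3_c51)) = (LP (LK LD1_c20 LD2_c3 LD3_c41)) :=
  Lgr Lrot11 (Lpr_ct (f269454 IH) (Lpn (LP (LK LD1_c20 LD2_c3 LD3_c41))))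
theorem f228293 : Led Lsl_cf (LP (LK LD1_c20 LD2_c3 LD3_c39)) = (LP (LK LD1_c16 LD2_c8 LD3_c26)) :=
  Lgr Lrot39 (Lpr_et (K19.f228290 IH) (Lpe (K21.f228282 IH) (Lpe (K13.f228076 IH) (Lpn (LP (LK LD1_c16 LD2_c8 LD3_c26))))))
theorem f224913 : Led Lsl_ct (LP (LK LD1_c17 LD2_c39 LD3_c31)) = (LP (LK LD1_c9 LD2_c35 LD3_c21)) :=
  Lre_c IH (LK LD1_c17 LD2_c39 LD3_c31) (LK LD1_c9 LD2_c35 LD3_c21) Lrfl Lrfl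
theorem f350015 : Led Lsl_gt (LP (LK LD1_c20 LD2_c3 LD3_c39)) = (LP (LK LD1_c17 LD2_c39 LD3_c31)) :=
  Lgr Lrot150 (Lpr_cf (f228293 IH) (Lpr_gf (K22.f338586 IH) (Lpr_df (K19.f310500 IH) (Lpe (K21.f310474 IH) (Lpe (K24.f186948 IH) (Lpr_gt (K24.f350007 IH) (Lpr_ct (K23.f327518 IH) (Lpe (K22.f224914 IH) (Lpe (f224913 IH) (Lpn (LP (LK LD1_c17 LD2_c39 LD3_c31))))))))))))
theorem f346598 : Led Lsl_gt (LP (LK LD1_c9 LD2_c35 LD3_c21)) = (LP (LK LD1_c11 LD2_c9 LD3_c37)) :=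
  Lgr Lrot112 (Lpe (K22.f171065 IH) (Lpe (K22.f327516 IH) (Lpr_gf (K21.f279403 IH) (Lpe (K21.f280223 IH) (Lpe (K16.f239871 IH) (Lpe (K13.f212570 IH) (Lpe (K14.f212551 IH) (Lpe (K23.f212568 IH) (Lpr_ef (K23.f346587 IH) (Lpr_dt (K23.f243723 IH) (Lpn (LP (LK LD1_c11 LD2_c9 LD3_c37)))))))))))))
theorem f243726 : Led Lsl_ct (LP (LK LD1_c11 LD2_c9 LD3_c37)) = (LP (LK LD1_c20 LD2_c4 LD3_c1)) :=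
  Lre_c IH (LK LD1_c11 LD2_c9 LD3_c37) (LK LD1_c20 LD2_c4 LD3_c1) Lrfl Lrfl
theorem f357285 : Led Lsl_df (LP (LK LD1_c15 LD2_c18 LD3_c51)) = (LP (LK LD1_c20 LD2_c4 LD3_c1)) :=
  Lgr Lrot162 (Lpr_cf (f269461 IH) (Lpr_gf (f357281 IH) (Lpe (f314986 IH) (Lpe (K23.f314999 IH) (Lpr_dt (K19.f228295 IH) (Lpr_gt (f350015 IH) (Lpr_ct (f224913 IH) (Lpr_gt (f346598 IH) (Lpr_ct (f243726 IH) (Lpn (LP (LK LD1_c20 LD2_c4 LD3_c1))))))))))))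
theorem f329590 : Led Lsl_et (LP (LK LD1_c11 LD2_c9 LD3_c30)) = (LP (LK LD1_c5 LD2_c39 LD3_c13)) :=
  Lre_e IH (LK LD1_c11 LD2_c9 LD3_c30) (LK LD1_c5 LD2_c39 LD3_c13) Lrfl Lrfl
theorem f200814 : Led Lsl_et (LP (LK LD1_c4 LD2_c3 LD3_c56)) = (LP (LK LD1_c1 LD2_c58 LD3_c57)) :=
  Lre_e IH (LK LD1_c4 LD2_c3 LD3_c56) (LK LD1_c1 LD2_c58 LD3_c57) Lrfl Lrfl
theorem f200816 : Led Lsl_gt (LP (LK LD1_c15 LD2_c19 LD3_c36)) = (LP (LK LD1_c8 LD2_c8 LD3_c22)) :=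
  Lre_g IH (LK LD1_c15 LD2_c19 LD3_c36) (LK LD1_c8 LD2_c8 LD3_c22) Lrfl Lrfl
theorem f329605 : Led Lsl_dt (LP (LK LD1_c11 LD2_c9 LD3_c30)) = (LP (LK LD1_c15 LD2_c19 LD3_c36)) :=
  Lgr Lrot136 (Lpr_et (f329590 IH) (Lpr_gf (K22.f329577 IH) (Lpe (K15.f226990 IH) (Lpe (K13.f226901 IH) (Lpe (K11.f200796 IH) (Lpe (K10.f52655 IH) (Lpr_gf (K11.f200798 IH) (Lpe (f200814 IH) (Lpr_dt (K16.f200815 IH) (Lpe (f200816 IH) (Lpn (LP (LK LD1_c15 LD2_c19 LD3_c36)))))))))))))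
theorem f223408 : Led Lsl_gt (LP (LK LD1_c8 LD2_c2 LD3_c61)) = (LP (LK LD1_c15 LD2_c9 LD3_c25)) :=
  Lre_g IH (LK LD1_c8 LD2_c2 LD3_c61) (LK LD1_c15 LD2_c9 LD3_c25) Lrfl Lrfl
theorem f357292 : Led Lsl_ef (LP (LK LD1_c15 LD2_c9 LD3_c25)) = (LP (LK LD1_c20 LD2_c4 LD3_c1)) :=
  Lgr Lrot17 (Lpe (f223408 IH) (Lpe (K17.f244013 IH) (Lpe (K13.f223588 IH) (Lpr_gf (K15.f244042 IH) (Lpe (K16.f243654 IH) (Lpr_gf (K13.f243650 IH) (Lpe (K16.f226981 IH) (Lpr_dt (K18.f226993 IH) (Lpe (f226872 IH) (Lpr_df (f357285 IH) (Lpn (LP (LK LD1_c20 LD2_c4 LD3_c1)))))))))))))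
theorem f293252 : Led Lsl_gf (LP (LK LD1_c8 LD2_c8 LD3_c47)) = (LP (LK LD1_c15 LD2_c9 LD3_c25)) :=
  Lgr Lrot76 (Lpr_af (K17.f293238 IH) (Lpe (K17.f293237 IH) (Lpr_gt (f223408 IH) (Lpn (LP (LK LD1_c15 LD2_c9 LD3_c25))))))
theorem f283788 : Led Lsl_dt (LP (LK LD1_c8 LD2_c6 LD3_c32)) = (LP (LK LD1_c8 LD2_c5 LD3_c42)) :=
  Lgr Lrot77 (Lpe (K19.f283776 IH) (Lpr_df (K17.f283784 IH) (Lpe (K17.f283774 IH) (Lpe (K17.f45887 IH) (Lpe (K19.f266005 IH) (Lpn (LP (LK LD1_c8 LD2_c5 LD3_c42))))))))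
theorem f269291 : Led Lsl_dt (LP (LK LD1_c24 LD2_c58 LD3_c16)) = (LP (LK LD1_c15 LD2_c9 LD3_c15)) :=
  Lre_d IH (LK LD1_c24 LD2_c58 LD3_c16) (LK LD1_c15 LD2_c9 LD3_c15) Lrfl Lrfl
theorem f200817 : Led Lsl_gt (LP (LK LD1_c8 LD2_c8 LD3_c22)) = (LP (LK LD1_c15 LD2_c19 LD3_c35)) :=
  Lre_g IH (LK LD1_c8 LD2_c8 LD3_c22) (LK LD1_c15 LD2_c19 LD3_c35) Lrfl Lrfl
theorem f253047 : Led Lsl_et (LP (LK LD1_c9 LD2_c53 LD3_c15)) = (LP (LK LD1_c5 LD2_c1 LD3_c30)) :=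
  Lre_e IH (LK LD1_c9 LD2_c53 LD3_c15) (LK LD1_c5 LD2_c1 LD3_c30) Lrfl Lrfl
theorem f253048 : Led Lsl_df (LP (LK LD1_c15 LD2_c19 LD3_c35)) = (LP (LK LD1_c9 LD2_c53 LD3_c15)) :=
  Lgr Lrot168 (Lpe (f200817 IH) (Lpe (K16.f200815 IH) (Lpr_et (f200814 IH) (Lpe (K11.f200796 IH) (Lpe (K0.f27651 IH) (Lpr_dt (K10.f27600 IH) (Lpr_gf (K14.f216254 IH) (Lpe (K14.f194397 IH) (Lpr_gf (K14.f253033 IH) (Lpe (f253047 IH) (Lpn (LP (LK LD1_c9 LD2_c53 LD3_c15)))))))))))))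
theorem f339076 : Led Lsl_gf (LP (LK LD1_c24 LD2_c58 LD3_c16)) = (LP (LK LD1_c15 LD2_c19 LD3_c35)) :=
  Lgr Lrot154 (Lpr_dt (f269291 IH) (Lpr_ct (K16.f218985 IH) (Lpe (K16.f269260 IH) (Lpr_gf (K19.f269289 IH) (Lpe (f283788 IH) (Lpe (f283777 IH) (Lpr_ct (f339072 IH) (Lpr_gt (f247905 IH) (Lpe (f253048 IH) (Lpn (LP (LK LD1_c15 LD2_c19 LD3_c35))))))))))))
theorem f339080 : Led Lsl_et (LP (LK LD1_c15 LD2_c9 LD3_c15)) = (LP (LK LD1_c8 LD2_c8 LD3_c47)) :=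
  Lgr Lrot121 (Lpr_dt (K23.f269275 IH) (Lpr_gf (f339076 IH) (Lpr_df (f253048 IH) (Lpr_et (f253047 IH) (Lpe (K15.f259139 IH) (Lpe (K19.f259144 IH) (Lpr_dt (K19.f194473 IH) (Lpr_gf (K19.f312169 IH) (Lpe (K19.f293268 IH) (Lpe (K19.f293266 IH) (Lpn (LP (LK LD1_c8 LD2_c8 LD3_c47)))))))))))))
theorem f357294 : Led Lsl_gf (LP (LK LD1_c15 LD2_c19 LD3_c36)) = (LP (LK LD1_c24 LD2_c58 LD3_c16)) :=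
  Lgr Lrot145 (Lpe (f329605 IH) (Lpr_et (f329590 IH) (Lpr_gt (K22.f329575 IH) (Lpr_dt (K16.f269402 IH) (Lpr_gt (f269343 IH) (Lpr_df (f357285 IH) (Lpe (f357292 IH) (Lpe (f293252 IH) (Lpe (f339080 IH) (Lpr_dt (K23.f269275 IH) (Lpn (LP (LK LD1_c24 LD2_c58 LD3_c16)))))))))))))
theorem f256644 : Led Lsl_dt (LP (LK LD1_c8 LD2_c7 LD3_c35)) = (LP (LK LD1_c15 LD2_c18 LD3_c13)) :=
  Lre_d IH (LK LD1_c8 LD2_c7 LD3_c35) (LK LD1_c15 LD2_c18 LD3_c13) Lrfl Lrfl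
theorem f293586 : Led Lsl_cf (LP (LK LD1_c4 LD2_c14 LD3_c38)) = (LP (LK LD1_c8 LD2_c8 LD3_c20)) :=
  Lgr Lrot11 (Lpr_ct (f293583 IH) (Lpn (LP (LK LD1_c8 LD2_c8 LD3_c20))))
theorem f315640 : Led Lsl_et (LP (LK LD1_c11 LD2_c4 LD3_c25)) = (LP (LK LD1_c8 LD2_c8 LD3_c20)) :=
  Lgr Lrot158 (Lpe (f189374 IH) (Lpr_ef (K22.f315636 IH) (Lpr_cf (f293586 IH) (Lpn (LP (LK LD1_c8 LD2_c8 LD3_c20))))))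
theorem f170831 : Led Lsl_gt (LP (LK LD1_c17 LD2_c43 LD3_c16)) = (LP (LK LD1_c9 LD2_c37 LD3_c36)) :=
  Lre_g IH (LK LD1_c17 LD2_c43 LD3_c16) (LK LD1_c9 LD2_c37 LD3_c36) Lrfl Lrfl
theorem f315646 : Led Lsl_dt (LP (LK LD1_c11 LD2_c4 LD3_c25)) = (LP (LK LD1_c17 LD2_c43 LD3_c16)) :=
  Lgr Lrot136 (Lpr_et (f315640 IH) (Lpe (K23.f227075 IH) (Lpe (K16.f226980 IH) (Lpe (K11.f200801 IH) (Lpe (K13.f226984 IH) (Lpe (K15.f238498 IH) (Lpe (K15.f243960 IH) (Lpe (K15.f244012 IH) (Lpr_dt (K22.f187937 IH) (Lpe (f170831 IH) (Lpn (LP (LK LD1_c17 LD2_c43 LD3_c16)))))))))))))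
theorem f357296 : Led Lsl_gt (LP (LK LD1_c15 LD2_c18 LD3_c13)) = (LP (LK LD1_c17 LD2_c43 LD3_c16)) :=
  Lgr Lrot112 (Lpe (f256644 IH) (Lpe (K23.f256690 IH) (Lpe (K22.f329575 IH) (Lpe (f329590 IH) (Lpr_dt (f329605 IH) (Lpr_gf (f357294 IH) (Lpe (K23.f269275 IH) (Lpr_gf (f269317 IH) (Lpe (f315640 IH) (Lpr_dt (f315646 IH) (Lpn (LP (LK LD1_c17 LD2_c43 LD3_c16)))))))))))))
theorem f315651 : Led Lsl_df (LP (LK LD1_c11 LD2_c4 LD3_c25)) = (LP (LK LD1_c17 LD2_c43 LD3_c16)) :=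
  Lgr Lrot38 (Lpr_dt (f315646 IH) (Lpn (LP (LK LD1_c17 LD2_c43 LD3_c16))))
theorem f189416 : Led Lsl_et (LP (LK LD1_c1 LD2_c18 LD3_c17)) = (LP (LK LD1_c0 LD2_c36 LD3_c4)) :=
  Lre_e IH (LK LD1_c1 LD2_c18 LD3_c17) (LK LD1_c0 LD2_c36 LD3_c4) Lrfl Lrfl
theorem f315825 : Led Lsl_gf (LP (LK LD1_c8 LD2_c9 LD3_c57)) = (LP (LK LD1_c8 LD2_c27 LD3_c48)) :=
  Lgr Lrot138 (Lpe (f315625 IH) (Lpr_gt (K22.f189373 IH) (Lpe (K23.f189176 IH) (Lpr_et (f189416 IH) (Lpr_gt (K13.f178050 IH) (Lpe (K20.f189415 IH) (Lpr_dt (K13.f189394 IH) (Lpr_gt (K20.f315817 IH) (Lpe (K22.f305093 IH) (Lpe (K20.f315666 IH) (Lpn (LP (LK LD1_c8 LD2_c27 LD3_c48)))))))))))))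
theorem f231565 : Led Lsl_dt (LP (LK LD1_c4 LD2_c14 LD3_c32)) = (LP (LK LD1_c8 LD2_c27 LD3_c48)) :=
  Lre_d IH (LK LD1_c4 LD2_c14 LD3_c32) (LK LD1_c8 LD2_c27 LD3_c48) Lrfl Lrfl
theorem f357298 : Led Lsl_gt (LP (LK LD1_c4 LD2_c4 LD3_c27)) = (LP (LK LD1_c4 LD2_c14 LD3_c32)) :=
  Lgr Lrot94 (Lpe (f347066 IH) (Lpe (f356771 IH) (Lpr_dt (f256644 IH) (Lpr_gt (f357296 IH) (Lpe (f315651 IH) (Lpe (f189374 IH) (Lpr_df (f315625 IH) (Lpr_gf (f315825 IH) (Lpe (f231565 IH) (Lpn (LP (LK LD1_c4 LD2_c14 LD3_c32))))))))))))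
theorem f357302 : Led Lsl_gf (LP (LK LD1_c8 LD2_c37 LD3_c46)) = (LP (LK LD1_c8 LD2_c14 LD3_c10)) :=
  Lgr Lrot145 (Lpr_df (K23.f347041 IH) (Lpe (K23.f347049 IH) (Lpr_gt (f357298 IH) (Lpr_dt (f231565 IH) (Lpe (f315825 IH) (Lpe (K22.f315620 IH) (Lpr_et (K22.f315630 IH) (Lpe (K22.f338006 IH) (Lpe (K23.f342167 IH) (Lpe (K23.f348944 IH) (Lpn (LP (LK LD1_c8 LD2_c14 LD3_c10)))))))))))))
theorem f189903 : Led Lsl_dt (LP (LK LD1_c16 LD2_c9 LD3_c47)) = (LP (LK LD1_c8 LD2_c37 LD3_c44)) :=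
  Lre_d IH (LK LD1_c16 LD2_c9 LD3_c47) (LK LD1_c8 LD2_c37 LD3_c44) Lrfl Lrfl
theorem f189906 : Led Lsl_ct (LP (LK LD1_c8 LD2_c37 LD3_c44)) = (LP (LK LD1_c4 LD2_c19 LD3_c55)) :=
  Lre_c IH (LK LD1_c8 LD2_c37 LD3_c44) (LK LD1_c4 LD2_c19 LD3_c55) Lrfl Lrfl
theorem f168973 : Led Lsl_ct (LP (LK LD1_c4 LD2_c56 LD3_c7)) = (LP (LK LD1_c9 LD2_c43 LD3_c52)) :=
  Lre_c IH (LK LD1_c4 LD2_c56 LD3_c7) (LK LD1_c9 LD2_c43 LD3_c52) Lrfl Lrfl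
theorem f350155 : Led Lsl_gt (LP (LK LD1_c9 LD2_c43 LD3_c52)) = (LP (LK LD1_c15 LD2_c20 LD3_c30)) :=
  Lgr Lrot94 (Lpe (f168973 IH) (Lpr_gt (K21.f168932 IH) (Lpe (K19.f314581 IH) (Lpr_gt (K19.f189904 IH) (Lpe (K19.f189891 IH) (Lpe (f189906 IH) (Lpe (f189903 IH) (Lpr_gf (K24.f350150 IH) (Lpe (K24.f329783 IH) (Lpn (LP (LK LD1_c15 LD2_c20 LD3_c30))))))))))))
theorem f326995 : Led Lsl_df (LP (LK LD1_c8 LD2_c10 LD3_c23)) = (LP (LK LD1_c9 LD2_c43 LD3_c43)) :=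
  Lgr Lrot38 (Lpr_dt (K23.f326993 IH) (Lpn (LP (LK LD1_c9 LD2_c43 LD3_c43))))
theorem f293297 : Led Lsl_ct (LP (LK LD1_c15 LD2_c20 LD3_c30)) = (LP (LK LD1_c8 LD2_c8 LD3_c53)) :=
  Lre_c IH (LK LD1_c15 LD2_c20 LD3_c30) (LK LD1_c8 LD2_c8 LD3_c53) Lrfl Lrfl
theorem f350159 : Led Lsl_gt (LP (LK LD1_c8 LD2_c10 LD3_c23)) = (LP (LK LD1_c4 LD2_c14 LD3_c45)) :=
  Lgr Lrot9 (Lpr_df (f326995 IH) (Lpr_gt (K23.f168929 IH) (Lpr_ct (f168973 IH) (Lpr_gt (f350155 IH) (Lpr_ct (f293297 IH) (Lpe (K21.f293294 IH) (Lpe (K21.f293302 IH) (Lpr_gf (K21.f328150 IH) (Lpe (K21.f220983 IH) (Lpn (LP (LK LD1_c4 LD2_c14 LD3_c45))))))))))))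
theorem f357304 : Led Lsl_gf (LP (LK LD1_c5 LD2_c39 LD3_c18)) = (LP (LK LD1_c8 LD2_c10 LD3_c20)) :=
  Lgr Lrot145 (Lpe (K23.f243719 IH) (Lpr_et (K23.f243720 IH) (Lpr_gt (f350159 IH) (Lpe (K23.f348944 IH) (Lpe (f357302 IH) (Lpr_df (K23.f347041 IH) (Lpe (K23.f347049 IH) (Lpr_gt (f357298 IH) (Lpe (K19.f314801 IH) (Lpr_dt (K15.f199239 IH) (Lpn (LP (LK LD1_c8 LD2_c10 LD3_c20)))))))))))))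
theorem f346582 : Led Lsl_ct (LP (LK LD1_c5 LD2_c39 LD3_c18)) = (LP (LK LD1_c11 LD2_c9 LD3_c36)) :=
  Lre_c IH (LK LD1_c5 LD2_c39 LD3_c18) (LK LD1_c11 LD2_c9 LD3_c36) Lrfl Lrfl
theorem f357308 : Led Lsl_gt (LP (LK LD1_c11 LD2_c9 LD3_c36)) = (LP (LK LD1_c8 LD2_c8 LD3_c6)) :=
  Lgr Lrot150 (Lpe (f346582 IH) (Lpr_gf (f357304 IH) (Lpe (K15.f199239 IH) (Lpe (K20.f315823 IH) (Lpr_ct (K20.f216437 IH) (Lpr_gt (K18.f226991 IH) (Lpr_ct (K16.f226874 IH) (Lpe (K17.f226869 IH) (Lpe (K16.f227004 IH) (Lpn (LP (LK LD1_c8 LD2_c8 LD3_c6))))))))))))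
theorem f346579 : Led Lsl_bt (LP (LK LD1_c5 LD2_c39 LD3_c18)) = (LP (LK LD1_c11 LD2_c9 LD3_c35)) :=
  Lre_b IH (LK LD1_c5 LD2_c39 LD3_c18) (LK LD1_c11 LD2_c9 LD3_c35) Lrfl Lrfl
theorem f236904 : Led Lsl_bt (LP (LK LD1_c4 LD2_c3 LD3_c50)) = (LP (LK LD1_c8 LD2_c7 LD3_c54)) :=
  Lre_b IH (LK LD1_c4 LD2_c3 LD3_c50) (LK LD1_c8 LD2_c7 LD3_c54) Lrfl Lrfl
theorem f167143 : Led Lsl_ct (LP (LK LD1_c8 LD2_c24 LD3_c15)) = (LP (LK LD1_c15 LD2_c48 LD3_c3)) :=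
  Lre_c IH (LK LD1_c8 LD2_c24 LD3_c15) (LK LD1_c15 LD2_c48 LD3_c3) Lrfl Lrfl
theorem f167134 : Led Lsl_bt (LP (LK LD1_c8 LD2_c24 LD3_c15)) = (LP (LK LD1_c15 LD2_c47 LD3_c55)) :=
  Lre_b IH (LK LD1_c8 LD2_c24 LD3_c15) (LK LD1_c15 LD2_c47 LD3_c55) Lrfl Lrfl
theorem f357315 : Led Lsl_gf (LP (LK LD1_c11 LD2_c9 LD3_c35)) = (LP (LK LD1_c15 LD2_c47 LD3_c55)) :=
  Lgr Lrot124 (Lpe (f346579 IH) (Lpr_ct (f346582 IH) (Lpr_gt (f357308 IH) (Lpe (K16.f226875 IH) (Lpr_bt (f236904 IH) (Lpr_gt (K21.f236905 IH) (Lpe (K23.f347205 IH) (Lpr_gt (K23.f347209 IH) (Lpe (f167143 IH) (Lpr_bt (f167134 IH) (Lpn (LP (LK LD1_c15 LD2_c47 LD3_c55)))))))))))))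
theorem f270370 : Led Lsl_ct (LP (LK LD1_c2 LD2_c38 LD3_c26)) = (LP (LK LD1_c1 LD2_c16 LD3_c9)) :=
  Lre_c IH (LK LD1_c2 LD2_c38 LD3_c26) (LK LD1_c1 LD2_c16 LD3_c9) Lrfl Lrfl
theorem f255859 : Led Lsl_gt (LP (LK LD1_c10 LD2_c38 LD3_c26)) = (LP (LK LD1_c5 LD2_c23 LD3_c55)) :=
  Lre_g IH (LK LD1_c10 LD2_c38 LD3_c26) (LK LD1_c5 LD2_c23 LD3_c55) Lrfl Lrfl
theorem f357319 : Led Lsl_ct (LP (LK LD1_c11 LD2_c9 LD3_c35)) = (LP (LK LD1_c10 LD2_c38 LD3_c26)) :=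
  Lgr Lrot152 (Lpr_gf (f357315 IH) (Lpe (K23.f246761 IH) (Lpr_gt (K24.f339509 IH) (Lpr_ct (K20.f315833 IH) (Lpr_gt (K20.f217851 IH) (Lpr_ct (f270370 IH) (Lpe (K18.f255874 IH) (Lpe (K18.f255590 IH) (Lpe (f255859 IH) (Lpn (LP (LK LD1_c10 LD2_c38 LD3_c26))))))))))))
theorem f357325 : Led Lsl_cf (LP (LK LD1_c11 LD2_c9 LD3_c35)) = (LP (LK LD1_c10 LD2_c38 LD3_c26)) :=
  Lgr Lrot11 (Lpr_ct (f357319 IH) (Lpn (LP (LK LD1_c10 LD2_c38 LD3_c26))))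
theorem f346580 : Led Lsl_ef (LP (LK LD1_c15 LD2_c49 LD3_c2)) = (LP (LK LD1_c11 LD2_c9 LD3_c35)) :=
  Lgr Lrot29 (Lpr_bt (K23.f212579 IH) (Lpr_et (K23.f346577 IH) (Lpr_bt (f346579 IH) (Lpn (LP (LK LD1_c11 LD2_c9 LD3_c35))))))
theorem f357329 : Led Lsl_et (LP (LK LD1_c16 LD2_c4 LD3_c25)) = (LP (LK LD1_c10 LD2_c38 LD3_c26)) :=
  Lgr Lrot158 (Lpe (K23.f343818 IH) (Lpr_ef (f346580 IH) (Lpr_cf (f357325 IH) (Lpn (LP (LK LD1_c10 LD2_c38 LD3_c26))))))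
theorem f357332 : Led Lsl_ef (LP (LK LD1_c16 LD2_c4 LD3_c25)) = (LP (LK LD1_c10 LD2_c38 LD3_c26)) :=
  Lgr Lrot88 (Lpr_et (f357329 IH) (Lpn (LP (LK LD1_c10 LD2_c38 LD3_c26))))
theorem f346589 : Led Lsl_bt (LP (LK LD1_c8 LD2_c24 LD3_c50)) = (LP (LK LD1_c15 LD2_c49 LD3_c2)) :=
  Lre_b IH (LK LD1_c8 LD2_c24 LD3_c50) (LK LD1_c15 LD2_c49 LD3_c2) Lrfl Lrfl
theorem f346590 : Led Lsl_bt (LP (LK LD1_c11 LD2_c9 LD3_c35)) = (LP (LK LD1_c5 LD2_c39 LD3_c18)) :=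
  Lre_b IH (LK LD1_c11 LD2_c9 LD3_c35) (LK LD1_c5 LD2_c39 LD3_c18) Lrfl Lrfl
theorem f346591 : Led Lsl_et (LP (LK LD1_c15 LD2_c49 LD3_c2)) = (LP (LK LD1_c11 LD2_c9 LD3_c35)) :=
  Lgr Lrot74 (Lpe (f346589 IH) (Lpr_ef (K23.f346587 IH) (Lpe (f346590 IH) (Lpn (LP (LK LD1_c11 LD2_c9 LD3_c35))))))
theorem f357334 : Led Lsl_ct (LP (LK LD1_c16 LD2_c4 LD3_c25)) = (LP (LK LD1_c15 LD2_c49 LD3_c2)) :=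
  Lgr Lrot15 (Lpr_ef (f357332 IH) (Lpe (f357319 IH) (Lpe (f346591 IH) (Lpn (LP (LK LD1_c15 LD2_c49 LD3_c2))))))
theorem f321101 : Led Lsl_ff (LP (LK LD1_c26 LD2_c1 LD3_c39)) = (LP (LK LD1_c20 LD2_c54 LD3_c51)) :=
  Lgr Lrot3 (Lpr_ft (K20.f321097 IH) (Lpn (LP (LK LD1_c20 LD2_c54 LD3_c51))))
theorem f321103 : Led Lsl_dt (LP (LK LD1_c26 LD2_c1 LD3_c39)) = (LP (LK LD1_c20 LD2_c54 LD3_c52)) :=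
  Lgr Lrot60 (Lpr_ff (f321101 IH) (Lpe (K20.f42665 IH) (Lpe (K15.f258446 IH) (Lpn (LP (LK LD1_c20 LD2_c54 LD3_c52))))))
theorem f357453 : Led Lsl_gf (LP (LK LD1_c10 LD2_c50 LD3_c24)) = (LP (LK LD1_c15 LD2_c49 LD3_c2)) :=
  Lgr Lrot148 (Lpr_dt (K20.f260960 IH) (Lpr_gt (K16.f260943 IH) (Lpe (K17.f260949 IH) (Lpe (K15.f258448 IH) (Lpe (f321103 IH) (Lpe (K20.f267025 IH) (Lpe (K20.f247390 IH) (Lpe (K23.f238649 IH) (Lpr_ct (f357334 IH) (Lpn (LP (LK LD1_c15 LD2_c49 LD3_c2))))))))))))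
theorem f278933 : Led Lsl_gf (LP (LK LD1_c4 LD2_c54 LD3_c43)) = (LP (LK LD1_c4 LD2_c14 LD3_c2)) :=
  Lgr Lrot147 (Lpr_ct (K16.f278909 IH) (Lpr_gt (K16.f260913 IH) (Lpr_ct (K15.f254898 IH) (Lpe (K14.f219627 IH) (Lpe (K15.f253416 IH) (Lpe (K15.f260908 IH) (Lpe (K10.f44499 IH) (Lpr_gf (K16.f260918 IH) (Lpe (K16.f260935 IH) (Lpn (LP (LK LD1_c4 LD2_c14 LD3_c2))))))))))))
theorem f187424 : Led Lsl_gt (LP (LK LD1_c8 LD2_c55 LD3_c1)) = (LP (LK LD1_c16 LD2_c41 LD3_c1)) :=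
  Lre_g IH (LK LD1_c8 LD2_c55 LD3_c1) (LK LD1_c16 LD2_c41 LD3_c1) Lrfl Lrfl
theorem f357455 : Led Lsl_dt (LP (LK LD1_c25 LD2_c45 LD3_c29)) = (LP (LK LD1_c15 LD2_c49 LD3_c2)) :=
  Lre_d IH (LK LD1_c25 LD2_c45 LD3_c29) (LK LD1_c15 LD2_c49 LD3_c2) Lrfl Lrfl
theorem f357467 : Led Lsl_ef (LP (LK LD1_c16 LD2_c41 LD3_c1)) = (LP (LK LD1_c25 LD2_c45 LD3_c29)) :=
  Lgr Lrot17 (Lpe (f187424 IH) (Lpe (K12.f187412 IH) (Lpr_dt (K15.f187343 IH) (Lpr_gf (K14.f256060 IH) (Lpe (K17.f274874 IH) (Lpr_gf (f278933 IH) (Lpe (K20.f260959 IH) (Lpe (K20.f260964 IH) (Lpr_gf (f357453 IH) (Lpe (f357455 IH) (Lpn (LP (LK LD1_c25 LD2_c45 LD3_c29)))))))))))))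
theorem f357473 : Led Lsl_et (LP (LK LD1_c16 LD2_c41 LD3_c1)) = (LP (LK LD1_c25 LD2_c45 LD3_c29)) :=
  Lgr Lrot87 (Lpr_ef (f357467 IH) (Lpn (LP (LK LD1_c25 LD2_c45 LD3_c29))))
theorem f221879 : Led Lsl_at (LP (LK LD1_c15 LD2_c44 LD3_c42)) = (LP (LK LD1_c16 LD2_c6 LD3_c15)) :=
  Lgr Lrot51 (Lpe (K23.f219847 IH) (Lpr_af (K18.f221862 IH) (Lpe (K20.f221860 IH) (Lpn (LP (LK LD1_c16 LD2_c6 LD3_c15))))))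
theorem f219849 : Led Lsl_dt (LP (LK LD1_c15 LD2_c44 LD3_c42)) = (LP (LK LD1_c8 LD2_c22 LD3_c0)) :=
  Lre_d IH (LK LD1_c15 LD2_c44 LD3_c42) (LK LD1_c8 LD2_c22 LD3_c0) Lrfl Lrfl
theorem f219859 : Led Lsl_ff (LP (LK LD1_c15 LD2_c44 LD3_c42)) = (LP (LK LD1_c16 LD2_c5 LD3_c16)) :=
  Lgr Lrot19 (Lpr_dt (f219849 IH) (Lpr_ft (K18.f219851 IH) (Lpr_dt (K22.f188821 IH) (Lpn (LP (LK LD1_c16 LD2_c5 LD3_c16))))))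
theorem f221895 : Led Lsl_gt (LP (LK LD1_c26 LD2_c2 LD3_c18)) = (LP (LK LD1_c16 LD2_c6 LD3_c15)) :=
  Lgr Lrot46 (Lpe (K22.f219893 IH) (Lpe (f219859 IH) (Lpr_at (f221879 IH) (Lpn (LP (LK LD1_c16 LD2_c6 LD3_c15))))))
theorem f221859 : Led Lsl_dt (LP (LK LD1_c8 LD2_c34 LD3_c58)) = (LP (LK LD1_c16 LD2_c6 LD3_c15)) :=
  Lre_d IH (LK LD1_c8 LD2_c34 LD3_c58) (LK LD1_c16 LD2_c6 LD3_c15) Lrfl Lrfl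
theorem f337025 : Led Lsl_gf (LP (LK LD1_c15 LD2_c42 LD3_c9)) = (LP (LK LD1_c8 LD2_c20 LD3_c42)) :=
  Lgr Lrot141 (Lpe (K22.f337019 IH) (Lpr_dt (K22.f337020 IH) (Lpr_gt (f221895 IH) (Lpe (f221859 IH) (Lpr_et (f221866 IH) (Lpr_gt (K12.f167529 IH) (Lpr_dt (K18.f170061 IH) (Lpe (K18.f299287 IH) (Lpe (K18.f171012 IH) (Lpr_et (K21.f220356 IH) (Lpn (LP (LK LD1_c8 LD2_c20 LD3_c42)))))))))))))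
theorem f182309 : Led Lsl_ct (LP (LK LD1_c25 LD2_c37 LD3_c54)) = (LP (LK LD1_c15 LD2_c42 LD3_c10)) :=
  Lre_c IH (LK LD1_c25 LD2_c37 LD3_c54) (LK LD1_c15 LD2_c42 LD3_c10) Lrfl Lrfl
theorem f275348 : Led Lsl_et (LP (LK LD1_c4 LD2_c17 LD3_c20)) = (LP (LK LD1_c8 LD2_c33 LD3_c48)) :=
  Lre_e IH (LK LD1_c4 LD2_c17 LD3_c20) (LK LD1_c8 LD2_c33 LD3_c48) Lrfl Lrfl
theorem f355786 : Led Lsl_dt (LP (LK LD1_c10 LD2_c38 LD3_c26)) = (LP (LK LD1_c19 LD2_c16 LD3_c35)) :=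
  Lre_d IH (LK LD1_c10 LD2_c38 LD3_c26) (LK LD1_c19 LD2_c16 LD3_c35) Lrfl Lrfl
theorem f349983 : Led Lsl_et (LP (LK LD1_c8 LD2_c22 LD3_c15)) = (LP (LK LD1_c15 LD2_c45 LD3_c16)) :=
  Lre_e IH (LK LD1_c8 LD2_c22 LD3_c15) (LK LD1_c15 LD2_c45 LD3_c16) Lrfl Lrfl
theorem f309918 : Led Lsl_dt (LP (LK LD1_c8 LD2_c22 LD3_c15)) = (LP (LK LD1_c15 LD2_c45 LD3_c15)) :=
  Lre_d IH (LK LD1_c8 LD2_c22 LD3_c15) (LK LD1_c15 LD2_c45 LD3_c15) Lrfl Lrfl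
theorem f357336 : Led Lsl_gt (LP (LK LD1_c15 LD2_c45 LD3_c15)) = (LP (LK LD1_c19 LD2_c16 LD3_c35)) :=
  Lgr Lrot112 (Lpe (f309918 IH) (Lpr_et (f349983 IH) (Lpe (K24.f349977 IH) (Lpe (K20.f270786 IH) (Lpe (K20.f321099 IH) (Lpe (K20.f267025 IH) (Lpe (K20.f247390 IH) (Lpe (K23.f238649 IH) (Lpr_ef (f357332 IH) (Lpr_dt (f355786 IH) (Lpn (LP (LK LD1_c19 LD2_c16 LD3_c35)))))))))))))
theorem f357338 : Led Lsl_gt (LP (LK LD1_c10 LD2_c32 LD3_c46)) = (LP (LK LD1_c8 LD2_c22 LD3_c15)) :=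
  Lgr Lrot137 (Lpe (K20.f250518 IH) (Lpr_dt (K18.f43200 IH) (Lpr_gf (K18.f295995 IH) (Lpe (K18.f247410 IH) (Lpr_et (f275348 IH) (Lpe (K23.f238649 IH) (Lpr_ef (f357332 IH) (Lpr_dt (f355786 IH) (Lpe (f357336 IH) (Lpe (f309918 IH) (Lpn (LP (LK LD1_c8 LD2_c22 LD3_c15)))))))))))))
theorem f250606 : Led Lsl_ft (LP (LK LD1_c10 LD2_c32 LD3_c46)) = (LP (LK LD1_c19 LD2_c5 LD3_c61)) :=
  Lre_f IH (LK LD1_c10 LD2_c32 LD3_c46) (LK LD1_c19 LD2_c5 LD3_c61) Lrfl Lrfl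
theorem f357340 : Led Lsl_at (LP (LK LD1_c19 LD2_c5 LD3_c61)) = (LP (LK LD1_c15 LD2_c45 LD3_c13)) :=
  Lgr Lrot26 (Lpe (f250606 IH) (Lpr_gt (f357338 IH) (Lpr_gt (K21.f215533 IH) (Lpn (LP (LK LD1_c15 LD2_c45 LD3_c13))))))
theorem f250605 : Led Lsl_ct (LP (LK LD1_c19 LD2_c5 LD3_c60)) = (LP (LK LD1_c28 LD2_c31 LD3_c23)) :=
  Lre_c IH (LK LD1_c19 LD2_c5 LD3_c60) (LK LD1_c28 LD2_c31 LD3_c23) Lrfl Lrfl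
theorem f215517 : Led Lsl_dt (LP (LK LD1_c19 LD2_c4 LD3_c15)) = (LP (LK LD1_c10 LD2_c31 LD3_c20)) :=
  Lre_d IH (LK LD1_c19 LD2_c4 LD3_c15) (LK LD1_c10 LD2_c31 LD3_c20) Lrfl Lrfl
theorem f215516 : Led Lsl_ct (LP (LK LD1_c28 LD2_c30 LD3_c30)) = (LP (LK LD1_c19 LD2_c4 LD3_c15)) :=
  Lre_c IH (LK LD1_c28 LD2_c30 LD3_c30) (LK LD1_c19 LD2_c4 LD3_c15) Lrfl Lrfl
theorem f357348 : Led Lsl_dt (LP (LK LD1_c28 LD2_c31 LD3_c23)) = (LP (LK LD1_c28 LD2_c30 LD3_c30)) :=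
  Lgr Lrot32 (Lpe (f250605 IH) (Lpe (K20.f43213 IH) (Lpr_ft (f250606 IH) (Lpr_at (f357340 IH) (Lpr_cf (K21.f309904 IH) (Lpe (K21.f309910 IH) (Lpe (K21.f309919 IH) (Lpe (f215517 IH) (Lpe (f215516 IH) (Lpn (LP (LK LD1_c28 LD2_c30 LD3_c30))))))))))))
theorem f357350 : Led Lsl_df (LP (LK LD1_c28 LD2_c31 LD3_c23)) = (LP (LK LD1_c28 LD2_c30 LD3_c30)) :=
  Lgr Lrot38 (Lpr_dt (f357348 IH) (Lpn (LP (LK LD1_c28 LD2_c30 LD3_c30))))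
theorem f307829 : Led Lsl_ft (LP (LK LD1_c10 LD2_c38 LD3_c22)) = (LP (LK LD1_c19 LD2_c4 LD3_c22)) :=
  Lgr Lrot48 (Lpr_ff (K24.f307822 IH) (Lpn (LP (LK LD1_c19 LD2_c4 LD3_c22))))
theorem f307831 : Led Lsl_af (LP (LK LD1_c10 LD2_c38 LD3_c19)) = (LP (LK LD1_c19 LD2_c4 LD3_c22)) :=
  Lgr Lrot45 (Lpe (K21.f307811 IH) (Lpr_at (K21.f303004 IH) (Lpr_ft (f307829 IH) (Lpn (LP (LK LD1_c19 LD2_c4 LD3_c22))))))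
theorem f307780 : Led Lsl_gt (LP (LK LD1_c19 LD2_c16 LD3_c26)) = (LP (LK LD1_c10 LD2_c38 LD3_c19)) :=
  Lre_g IH (LK LD1_c19 LD2_c16 LD3_c26) (LK LD1_c10 LD2_c38 LD3_c19) Lrfl Lrfl
theorem f307833 : Led Lsl_gt (LP (LK LD1_c10 LD2_c38 LD3_c22)) = (LP (LK LD1_c19 LD2_c16 LD3_c26)) :=
  Lgr Lrot5 (Lpr_ft (f307829 IH) (Lpe (f307831 IH) (Lpe (f307780 IH) (Lpn (LP (LK LD1_c19 LD2_c16 LD3_c26))))))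
theorem f307835 : Led Lsl_ct (LP (LK LD1_c19 LD2_c16 LD3_c26)) = (LP (LK LD1_c28 LD2_c42 LD3_c37)) :=
  Lre_c IH (LK LD1_c19 LD2_c16 LD3_c26) (LK LD1_c28 LD2_c42 LD3_c37) Lrfl Lrfl
theorem f325991 : Led Lsl_gf (LP (LK LD1_c28 LD2_c30 LD3_c30)) = (LP (LK LD1_c28 LD2_c42 LD3_c37)) :=
  Lgr Lrot104 (Lpr_ct (f215516 IH) (Lpe (K20.f169221 IH) (Lpr_cf (K21.f309926 IH) (Lpr_gf (K21.f325984 IH) (Lpe (K21.f171931 IH) (Lpr_gf (K16.f256528 IH) (Lpe (K22.f256532 IH) (Lpr_gt (f307833 IH) (Lpr_ct (f307835 IH) (Lpn (LP (LK LD1_c28 LD2_c42 LD3_c37))))))))))))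
theorem f326346 : Led Lsl_ct (LP (LK LD1_c28 LD2_c42 LD3_c30)) = (LP (LK LD1_c19 LD2_c16 LD3_c21)) :=
  Lre_c IH (LK LD1_c28 LD2_c42 LD3_c30) (LK LD1_c19 LD2_c16 LD3_c21) Lrfl Lrfl
theorem f339519 : Led Lsl_dt (LP (LK LD1_c25 LD2_c39 LD3_c49)) = (LP (LK LD1_c28 LD2_c42 LD3_c30)) :=
  Lgr Lrot42 (Lpr_df (K23.f339517 IH) (Lpn (LP (LK LD1_c28 LD2_c42 LD3_c30))))
theorem f357354 : Led Lsl_gt (LP (LK LD1_c28 LD2_c31 LD3_c23)) = (LP (LK LD1_c25 LD2_c39 LD3_c49)) :=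
  Lgr Lrot49 (Lpr_df (f357350 IH) (Lpr_gf (f325991 IH) (Lpe (f307835 IH) (Lpr_gt (f307780 IH) (Lpr_dt (K24.f288688 IH) (Lpr_gt (K21.f241961 IH) (Lpr_dt (K23.f307805 IH) (Lpe (f326346 IH) (Lpe (f339519 IH) (Lpn (LP (LK LD1_c25 LD2_c39 LD3_c49))))))))))))
theorem f300897 : Led Lsl_dt (LP (LK LD1_c19 LD2_c16 LD3_c44)) = (LP (LK LD1_c10 LD2_c38 LD3_c29)) :=
  Lre_d IH (LK LD1_c19 LD2_c16 LD3_c44) (LK LD1_c10 LD2_c38 LD3_c29) Lrfl Lrfl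
theorem f309092 : Led Lsl_ft (LP (LK LD1_c10 LD2_c38 LD3_c29)) = (LP (LK LD1_c5 LD2_c23 LD3_c55)) :=
  Lre_f IH (LK LD1_c10 LD2_c38 LD3_c29) (LK LD1_c5 LD2_c23 LD3_c55) Lrfl Lrfl
theorem f326015 : Led Lsl_gf (LP (LK LD1_c16 LD2_c2 LD3_c51)) = (LP (LK LD1_c10 LD2_c38 LD3_c29)) :=
  Lgr Lrot47 (Lpr_gt (K22.f184275 IH) (Lpr_af (K23.f326009 IH) (Lpe (f309092 IH) (Lpn (LP (LK LD1_c10 LD2_c38 LD3_c29))))))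
theorem f167120 : Led Lsl_cf (LP (LK LD1_c8 LD2_c21 LD3_c23)) = (LP (LK LD1_c8 LD2_c24 LD3_c9)) :=
  Lgr Lrot11 (Lpr_ct (K20.f167105 IH) (Lpn (LP (LK LD1_c8 LD2_c24 LD3_c9))))
theorem f357356 : Led Lsl_ct (LP (LK LD1_c16 LD2_c2 LD3_c51)) = (LP (LK LD1_c15 LD2_c47 LD3_c54)) :=
  Lgr Lrot152 (Lpr_gf (f326015 IH) (Lpe (f300897 IH) (Lpe (K21.f326002 IH) (Lpr_ct (f250605 IH) (Lpr_gt (f357354 IH) (Lpr_ct (K23.f167123 IH) (Lpe (K20.f167197 IH) (Lpr_cf (f167120 IH) (Lpe (K22.f167132 IH) (Lpn (LP (LK LD1_c15 LD2_c47 LD3_c54))))))))))))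
theorem f316375 : Led Lsl_gf (LP (LK LD1_c10 LD2_c40 LD3_c9)) = (LP (LK LD1_c16 LD2_c2 LD3_c55)) :=
  Lgr Lrot134 (Lpr_df (K22.f316358 IH) (Lpe (K20.f316321 IH) (Lpr_gt (K20.f170637 IH) (Lpe (K18.f170634 IH) (Lpr_dt (K15.f170627 IH) (Lpe (K16.f258313 IH) (Lpe (K16.f184249 IH) (Lpr_et (K15.f184251 IH) (Lpr_gt (K16.f184273 IH) (Lpr_dt (K21.f184331 IH) (Lpn (LP (LK LD1_c16 LD2_c2 LD3_c55)))))))))))))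
theorem f352671 : Led Lsl_ct (LP (LK LD1_c10 LD2_c40 LD3_c3)) = (LP (LK LD1_c19 LD2_c19 LD3_c0)) :=
  Lre_c IH (LK LD1_c10 LD2_c40 LD3_c3) (LK LD1_c19 LD2_c19 LD3_c0) Lrfl Lrfl
theorem f352674 : Led Lsl_gt (LP (LK LD1_c19 LD2_c19 LD3_c2)) = (LP (LK LD1_c10 LD2_c40 LD3_c3)) :=
  Lre_g IH (LK LD1_c19 LD2_c19 LD3_c2) (LK LD1_c10 LD2_c40 LD3_c3) Lrfl Lrfl
theorem f357362 : Led Lsl_ct (LP (LK LD1_c10 LD2_c40 LD3_c9)) = (LP (LK LD1_c19 LD2_c19 LD3_c2)) :=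
  Lgr Lrot152 (Lpr_gf (f316375 IH) (Lpe (K21.f184331 IH) (Lpr_gt (K18.f300895 IH) (Lpr_ct (K22.f255794 IH) (Lpe (f326015 IH) (Lpr_ct (f357356 IH) (Lpe (f356813 IH) (Lpe (f352671 IH) (Lpe (f352674 IH) (Lpn (LP (LK LD1_c19 LD2_c19 LD3_c2))))))))))))
theorem f336597 : Led Lsl_bt (LP (LK LD1_c15 LD2_c42 LD3_c10)) = (LP (LK LD1_c16 LD2_c2 LD3_c55)) :=
  Lgr Lrot119 (Lpe (K21.f302875 IH) (Lpr_bf (K22.f336589 IH) (Lpr_ef (K16.f275271 IH) (Lpn (LP (LK LD1_c16 LD2_c2 LD3_c55))))))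
theorem f182310 : Led Lsl_ct (LP (LK LD1_c15 LD2_c42 LD3_c10)) = (LP (LK LD1_c25 LD2_c37 LD3_c54)) :=
  Lre_c IH (LK LD1_c15 LD2_c42 LD3_c10) (LK LD1_c25 LD2_c37 LD3_c54) Lrfl Lrfl
theorem f352669 : Led Lsl_ct (LP (LK LD1_c19 LD2_c19 LD3_c0)) = (LP (LK LD1_c10 LD2_c40 LD3_c3)) :=
  Lre_c IH (LK LD1_c19 LD2_c19 LD3_c0) (LK LD1_c10 LD2_c40 LD3_c3) Lrfl Lrfl
theorem f352665 : Led Lsl_bt (LP (LK LD1_c17 LD2_c51 LD3_c14)) = (LP (LK LD1_c19 LD2_c19 LD3_c0)) :=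
  Lgr Lrot119 (Lpe (K23.f312042 IH) (Lpr_bf (f352618 IH) (Lpe (f352664 IH) (Lpn (LP (LK LD1_c19 LD2_c19 LD3_c0))))))
theorem f352667 : Led Lsl_bf (LP (LK LD1_c17 LD2_c51 LD3_c14)) = (LP (LK LD1_c19 LD2_c19 LD3_c0)) :=
  Lgr Lrot24 (Lpr_bt (f352665 IH) (Lpn (LP (LK LD1_c19 LD2_c19 LD3_c0))))
theorem f324127 : Led Lsl_bf (LP (LK LD1_c15 LD2_c52 LD3_c31)) = (LP (LK LD1_c25 LD2_c44 LD3_c19)) :=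
  Lgr Lrot24 (Lpr_bt (K21.f324123 IH) (Lpn (LP (LK LD1_c25 LD2_c44 LD3_c19))))
theorem f324140 : Led Lsl_et (LP (LK LD1_c11 LD2_c54 LD3_c23)) = (LP (LK LD1_c20 LD2_c58 LD3_c47)) :=
  Lre_e IH (LK LD1_c11 LD2_c54 LD3_c23) (LK LD1_c20 LD2_c58 LD3_c47) Lrfl Lrfl
theorem f324141 : Led Lsl_ct (LP (LK LD1_c20 LD2_c58 LD3_c47)) = (LP (LK LD1_c25 LD2_c44 LD3_c19)) :=
  Lgr Lrot15 (Lpe (f324140 IH) (Lpr_cf (K22.f324135 IH) (Lpe (K21.f219349 IH) (Lpn (LP (LK LD1_c25 LD2_c44 LD3_c19))))))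
theorem f324143 : Led Lsl_cf (LP (LK LD1_c20 LD2_c58 LD3_c47)) = (LP (LK LD1_c25 LD2_c44 LD3_c19)) :=
  Lgr Lrot11 (Lpr_ct (f324141 IH) (Lpn (LP (LK LD1_c25 LD2_c44 LD3_c19))))
theorem f357372 : Led Lsl_gf (LP (LK LD1_c25 LD2_c37 LD3_c54)) = (LP (LK LD1_c20 LD2_c58 LD3_c47)) :=
  Lgr Lrot126 (Lpe (f182310 IH) (Lpr_bt (f336597 IH) (Lpe (f316375 IH) (Lpr_ct (f357362 IH) (Lpr_gt (f352674 IH) (Lpe (f352669 IH) (Lpe (f352667 IH) (Lpr_gt (K23.f329515 IH) (Lpr_bf (f324127 IH) (Lpe (f324143 IH) (Lpn (LP (LK LD1_c20 LD2_c58 LD3_c47)))))))))))))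
theorem f357465 : Led Lsl_gf (LP (LK LD1_c25 LD2_c44 LD3_c19)) = (LP (LK LD1_c25 LD2_c45 LD3_c29)) :=
  Lgr Lrot147 (Lpe (f324143 IH) (Lpe (f357372 IH) (Lpr_ct (f182309 IH) (Lpe (K22.f182308 IH) (Lpe (K22.f267040 IH) (Lpr_gf (f337025 IH) (Lpr_cf (K21.f220368 IH) (Lpr_gf (f357453 IH) (Lpe (f357455 IH) (Lpn (LP (LK LD1_c25 LD2_c45 LD3_c29))))))))))))
theorem f220840 : Led Lsl_dt (LP (LK LD1_c15 LD2_c47 LD3_c35)) = (LP (LK LD1_c25 LD2_c44 LD3_c18)) :=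
  Lre_d IH (LK LD1_c15 LD2_c47 LD3_c35) (LK LD1_c25 LD2_c44 LD3_c18) Lrfl Lrfl
theorem f292531 : Led Lsl_gf (LP (LK LD1_c17 LD2_c48 LD3_c53)) = (LP (LK LD1_c25 LD2_c44 LD3_c18)) :=
  Lgr Lrot134 (Lpr_df (K24.f223938 IH) (Lpr_et (f223943 IH) (Lpr_gt (K24.f223932 IH) (Lpe (f191107 IH) (Lpr_dt (K15.f182527 IH) (Lpr_gt (K10.f183908 IH) (Lpe (K10.f28689 IH) (Lpr_et (K10.f31094 IH) (Lpr_gt (K21.f292529 IH) (Lpr_dt (f220840 IH) (Lpn (LP (LK LD1_c25 LD2_c44 LD3_c18)))))))))))))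
theorem f223922 : Led Lsl_df (LP (LK LD1_c5 LD2_c25 LD3_c7)) = (LP (LK LD1_c8 LD2_c11 LD3_c2)) :=
  Lgr Lrot38 (Lpr_dt (K15.f223913 IH) (Lpn (LP (LK LD1_c8 LD2_c11 LD3_c2))))
theorem f223931 : Led Lsl_gt (LP (LK LD1_c5 LD2_c25 LD3_c7)) = (LP (LK LD1_c10 LD2_c41 LD3_c2)) :=
  Lre_g IH (LK LD1_c5 LD2_c25 LD3_c7) (LK LD1_c10 LD2_c41 LD3_c2) Lrfl Lrfl
theorem f357479 : Led Lsl_dt (LP (LK LD1_c16 LD2_c41 LD3_c1)) = (LP (LK LD1_c10 LD2_c41 LD3_c2)) :=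
  Lgr Lrot56 (Lpr_et (f357473 IH) (Lpe (f357465 IH) (Lpe (K21.f292533 IH) (Lpr_dt (f220840 IH) (Lpe (f292531 IH) (Lpr_df (K24.f223938 IH) (Lpr_et (f223943 IH) (Lpr_gt (K24.f223932 IH) (Lpe (f223922 IH) (Lpr_gt (f223931 IH) (Lpn (LP (LK LD1_c10 LD2_c41 LD3_c2)))))))))))))
theorem f357456 : Led Lsl_ct (LP (LK LD1_c26 LD2_c2 LD3_c47)) = (LP (LK LD1_c25 LD2_c45 LD3_c29)) :=
  Lgr Lrot110 (Lpe (K22.f307720 IH) (Lpe (K22.f307724 IH) (Lpe (K21.f325379 IH) (Lpr_df (K21.f325374 IH) (Lpr_gt (K23.f343814 IH) (Lpr_ct (K23.f182292 IH) (Lpe (K23.f267007 IH) (Lpr_ct (f357334 IH) (Lpe (f357455 IH) (Lpn (LP (LK LD1_c25 LD2_c45 LD3_c29))))))))))))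
theorem f357458 : Led Lsl_cf (LP (LK LD1_c26 LD2_c2 LD3_c47)) = (LP (LK LD1_c25 LD2_c45 LD3_c29)) :=
  Lgr Lrot11 (Lpr_ct (f357456 IH) (Lpn (LP (LK LD1_c25 LD2_c45 LD3_c29))))
theorem f357477 : Led Lsl_cf (LP (LK LD1_c16 LD2_c41 LD3_c1)) = (LP (LK LD1_c16 LD2_c36 LD3_c27)) :=
  Lgr Lrot39 (Lpr_et (f357473 IH) (Lpe (f357458 IH) (Lpr_et (K22.f307909 IH) (Lpn (LP (LK LD1_c16 LD2_c36 LD3_c27))))))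
theorem f42248 : Led Lsl_ct (LP (LK LD1_c2 LD2_c37 LD3_c4)) = (LP (LK LD1_c5 LD2_c20 LD3_c52)) :=
  Lre_c IH (LK LD1_c2 LD2_c37 LD3_c4) (LK LD1_c5 LD2_c20 LD3_c52) Lrfl Lrfl
theorem f168700 : Led Lsl_gt (LP (LK LD1_c5 LD2_c20 LD3_c52)) = (LP (LK LD1_c10 LD2_c31 LD3_c50)) :=
  Lre_g IH (LK LD1_c5 LD2_c20 LD3_c52) (LK LD1_c10 LD2_c31 LD3_c50) Lrfl Lrfl
theorem f357488 : Led Lsl_ct (LP (LK LD1_c10 LD2_c31 LD3_c50)) = (LP (LK LD1_c10 LD2_c41 LD3_c2)) :=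
  Lgr Lrot151 (Lpe (f168700 IH) (Lpe (f42248 IH) (Lpe (K22.f333834 IH) (Lpr_dt (f281030 IH) (Lpr_gt (K23.f333840 IH) (Lpr_ct (K22.f44689 IH) (Lpr_gt (K22.f44694 IH) (Lpe (f357477 IH) (Lpr_dt (f357479 IH) (Lpn (LP (LK LD1_c10 LD2_c41 LD3_c2))))))))))))
theorem f357490 : Led Lsl_cf (LP (LK LD1_c10 LD2_c31 LD3_c50)) = (LP (LK LD1_c10 LD2_c41 LD3_c2)) :=
  Lgr Lrot11 (Lpr_ct (f357488 IH) (Lpn (LP (LK LD1_c10 LD2_c41 LD3_c2))))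
theorem f346575 : Led Lsl_bt (LP (LK LD1_c25 LD2_c45 LD3_c29)) = (LP (LK LD1_c15 LD2_c49 LD3_c4)) :=
  Lre_b IH (LK LD1_c25 LD2_c45 LD3_c29) (LK LD1_c15 LD2_c49 LD3_c4) Lrfl Lrfl
theorem f346596 : Led Lsl_et (LP (LK LD1_c15 LD2_c49 LD3_c4)) = (LP (LK LD1_c9 LD2_c43 LD3_c43)) :=
  Lgr Lrot71 (Lpe (K23.f346576 IH) (Lpr_ef (K23.f346587 IH) (Lpe (K23.f243719 IH) (Lpr_ef (K23.f243724 IH) (Lpr_df (f326995 IH) (Lpn (LP (LK LD1_c9 LD2_c43 LD3_c43))))))))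
theorem f357475 : Led Lsl_bf (LP (LK LD1_c16 LD2_c41 LD3_c1)) = (LP (LK LD1_c9 LD2_c43 LD3_c43)) :=
  Lgr Lrot96 (Lpr_et (f357473 IH) (Lpr_bt (f346575 IH) (Lpr_et (f346596 IH) (Lpn (LP (LK LD1_c9 LD2_c43 LD3_c43))))))
theorem f357481 : Led Lsl_bf (LP (LK LD1_c8 LD2_c10 LD3_c23)) = (LP (LK LD1_c10 LD2_c41 LD3_c2)) :=
  Lgr Lrot93 (Lpr_dt (K23.f326993 IH) (Lpe (f357475 IH) (Lpr_dt (f357479 IH) (Lpn (LP (LK LD1_c10 LD2_c41 LD3_c2))))))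
theorem f293298 : Led Lsl_ct (LP (LK LD1_c4 LD2_c4 LD3_c5)) = (LP (LK LD1_c8 LD2_c8 LD3_c52)) :=
  Lre_c IH (LK LD1_c4 LD2_c4 LD3_c5) (LK LD1_c8 LD2_c8 LD3_c52) Lrfl Lrfl
theorem f328124 : Led Lsl_bt (LP (LK LD1_c4 LD2_c4 LD3_c5)) = (LP (LK LD1_c8 LD2_c8 LD3_c51)) :=
  Lre_b IH (LK LD1_c4 LD2_c4 LD3_c5) (LK LD1_c8 LD2_c8 LD3_c51) Lrfl Lrfl
theorem f357542 : Led Lsl_gf (LP (LK LD1_c5 LD2_c20 LD3_c49)) = (LP (LK LD1_c8 LD2_c8 LD3_c51)) :=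
  Lgr Lrot124 (Lpe (K18.f42235 IH) (Lpr_ct (f42248 IH) (Lpr_gt (f168700 IH) (Lpr_cf (f357490 IH) (Lpe (f357481 IH) (Lpr_gt (f350159 IH) (Lpr_ct (K21.f220983 IH) (Lpe (K21.f328150 IH) (Lpe (f293298 IH) (Lpr_bt (f328124 IH) (Lpn (LP (LK LD1_c8 LD2_c8 LD3_c51)))))))))))))
theorem f42181 : Led Lsl_bt (LP (LK LD1_c5 LD2_c20 LD3_c49)) = (LP (LK LD1_c2 LD2_c37 LD3_c4)) :=
  Lre_b IH (LK LD1_c5 LD2_c20 LD3_c49) (LK LD1_c2 LD2_c37 LD3_c4) Lrfl Lrfl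
theorem f42183 : Led Lsl_df (LP (LK LD1_c5 LD2_c20 LD3_c49)) = (LP (LK LD1_c6 LD2_c4 LD3_c35)) :=
  Lgr Lrot12 (Lpr_bt (f42181 IH) (Lpr_dt (K20.f42172 IH) (Lpr_bt (f42182 IH) (Lpn (LP (LK LD1_c6 LD2_c4 LD3_c35))))))
theorem f42240 : Led Lsl_et (LP (LK LD1_c6 LD2_c4 LD3_c35)) = (LP (LK LD1_c2 LD2_c58 LD3_c28)) :=
  Lre_e IH (LK LD1_c6 LD2_c4 LD3_c35) (LK LD1_c2 LD2_c58 LD3_c28) Lrfl Lrfl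
theorem f211360 : Led Lsl_gt (LP (LK LD1_c8 LD2_c8 LD3_c39)) = (LP (LK LD1_c15 LD2_c19 LD3_c55)) :=
  Lre_g IH (LK LD1_c8 LD2_c8 LD3_c39) (LK LD1_c15 LD2_c19 LD3_c55) Lrfl Lrfl
theorem f357547 : Led Lsl_dt (LP (LK LD1_c15 LD2_c19 LD3_c55)) = (LP (LK LD1_c8 LD2_c8 LD3_c51)) :=
  Lgr Lrot171 (Lpe (f211360 IH) (Lpr_ef (K17.f293148 IH) (Lpr_dt (K21.f304123 IH) (Lpe (K18.f184840 IH) (Lpe (K16.f246213 IH) (Lpr_et (K16.f260358 IH) (Lpr_gf (K15.f194184 IH) (Lpe (f42240 IH) (Lpe (f42183 IH) (Lpr_gf (f357542 IH) (Lpn (LP (LK LD1_c8 LD2_c8 LD3_c51)))))))))))))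
theorem f293304 : Led Lsl_bt (LP (LK LD1_c8 LD2_c8 LD3_c51)) = (LP (LK LD1_c4 LD2_c4 LD3_c5)) :=
  Lre_b IH (LK LD1_c8 LD2_c8 LD3_c51) (LK LD1_c4 LD2_c4 LD3_c5) Lrfl Lrfl
theorem f357549 : Led Lsl_bf (LP (LK LD1_c15 LD2_c19 LD3_c55)) = (LP (LK LD1_c8 LD2_c8 LD3_c53)) :=
  Lgr Lrot93 (Lpr_dt (f357547 IH) (Lpr_bt (f293304 IH) (Lpr_dt (K21.f293294 IH) (Lpn (LP (LK LD1_c8 LD2_c8 LD3_c53))))))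
theorem f290768 : Led Lsl_gt (LP (LK LD1_c15 LD2_c19 LD3_c55)) = (LP (LK LD1_c8 LD2_c8 LD3_c33)) :=
  Lre_g IH (LK LD1_c15 LD2_c19 LD3_c55) (LK LD1_c8 LD2_c8 LD3_c33) Lrfl Lrfl
theorem f258701 : Led Lsl_ct (LP (LK LD1_c8 LD2_c28 LD3_c44)) = (LP (LK LD1_c15 LD2_c55 LD3_c13)) :=
  Lre_c IH (LK LD1_c8 LD2_c28 LD3_c44) (LK LD1_c15 LD2_c55 LD3_c13) Lrfl Lrfl
theorem f264470 : Led Lsl_dt (LP (LK LD1_c20 LD2_c59 LD3_c22)) = (LP (LK LD1_c11 LD2_c54 LD3_c44)) :=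
  Lre_d IH (LK LD1_c20 LD2_c59 LD3_c22) (LK LD1_c11 LD2_c54 LD3_c44) Lrfl Lrfl
theorem f264459 : Led Lsl_ct (LP (LK LD1_c11 LD2_c54 LD3_c44)) = (LP (LK LD1_c6 LD2_c5 LD3_c34)) :=
  Lre_c IH (LK LD1_c11 LD2_c54 LD3_c44) (LK LD1_c6 LD2_c5 LD3_c34) Lrfl Lrfl
theorem f258803 : Led Lsl_ct (LP (LK LD1_c5 LD2_c32 LD3_c12)) = (LP (LK LD1_c10 LD2_c56 LD3_c4)) :=
  Lre_c IH (LK LD1_c5 LD2_c32 LD3_c12) (LK LD1_c10 LD2_c56 LD3_c4) Lrfl Lrfl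
theorem f323537 : Led Lsl_gt (LP (LK LD1_c10 LD2_c56 LD3_c4)) = (LP (LK LD1_c10 LD2_c23 LD3_c28)) :=
  Lgr Lrot94 (Lpe (f258803 IH) (Lpr_gt (K17.f258802 IH) (Lpr_dt (K15.f258689 IH) (Lpr_gt (K21.f54369 IH) (Lpr_dt (K21.f264456 IH) (Lpe (f264459 IH) (Lpe (f264470 IH) (Lpr_gf (K23.f323535 IH) (Lpe (K23.f49350 IH) (Lpn (LP (LK LD1_c10 LD2_c23 LD3_c28))))))))))))
theorem f189749 : Led Lsl_ct (LP (LK LD1_c10 LD2_c19 LD3_c59)) = (LP (LK LD1_c5 LD2_c15 LD3_c19)) :=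
  Lre_c IH (LK LD1_c10 LD2_c19 LD3_c59) (LK LD1_c5 LD2_c15 LD3_c19) Lrfl Lrfl
theorem f323545 : Led Lsl_gt (LP (LK LD1_c15 LD2_c55 LD3_c13)) = (LP (LK LD1_c10 LD2_c19 LD3_c59)) :=
  Lgr Lrot150 (Lpe (f258701 IH) (Lpe (K22.f264820 IH) (Lpr_df (K23.f264625 IH) (Lpr_gt (K17.f263046 IH) (Lpr_ct (f258803 IH) (Lpr_gt (f323537 IH) (Lpe (K23.f218721 IH) (Lpr_df (K23.f223097 IH) (Lpe (f189749 IH) (Lpn (LP (LK LD1_c10 LD2_c19 LD3_c59))))))))))))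
theorem f189751 : Led Lsl_ct (LP (LK LD1_c5 LD2_c15 LD3_c19)) = (LP (LK LD1_c10 LD2_c19 LD3_c59)) :=
  Lre_c IH (LK LD1_c5 LD2_c15 LD3_c19) (LK LD1_c10 LD2_c19 LD3_c59) Lrfl Lrfl
theorem f223092 : Led Lsl_dt (LP (LK LD1_c7 LD2_c58 LD3_c24)) = (LP (LK LD1_c3 LD2_c58 LD3_c29)) :=
  Lre_d IH (LK LD1_c7 LD2_c58 LD3_c24) (LK LD1_c3 LD2_c58 LD3_c29) Lrfl Lrfl
theorem f223093 : Led Lsl_bf (LP (LK LD1_c7 LD2_c58 LD3_c24)) = (LP (LK LD1_c5 LD2_c15 LD3_c19)) :=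
  Lgr Lrot93 (Lpr_dt (f223092 IH) (Lpr_bt (f218913 IH) (Lpr_dt (K23.f223090 IH) (Lpn (LP (LK LD1_c5 LD2_c15 LD3_c19))))))
theorem f178213 : Led Lsl_ct (LP (LK LD1_c5 LD2_c36 LD3_c54)) = (LP (LK LD1_c11 LD2_c5 LD3_c58)) :=
  Lre_c IH (LK LD1_c5 LD2_c36 LD3_c54) (LK LD1_c11 LD2_c5 LD3_c58) Lrfl Lrfl
theorem f211351 : Led Lsl_ct (LP (LK LD1_c10 LD2_c0 LD3_c48)) = (LP (LK LD1_c18 LD2_c17 LD3_c48)) :=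
  Lre_c IH (LK LD1_c10 LD2_c0 LD3_c48) (LK LD1_c18 LD2_c17 LD3_c48) Lrfl Lrfl
theorem f353974 : Led Lsl_gt (LP (LK LD1_c11 LD2_c5 LD3_c58)) = (LP (LK LD1_c18 LD2_c17 LD3_c48)) :=
  Lgr Lrot149 (Lpe (f178213 IH) (Lpe (f351889 IH) (Lpr_bf (f223093 IH) (Lpr_ct (f189751 IH) (Lpe (f323545 IH) (Lpe (f258701 IH) (Lpr_bt (f353968 IH) (Lpe (K19.f293314 IH) (Lpe (K11.f211342 IH) (Lpr_ct (f211351 IH) (Lpn (LP (LK LD1_c18 LD2_c17 LD3_c48)))))))))))))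
theorem f218910 : Led Lsl_gt (LP (LK LD1_c3 LD2_c58 LD3_c29)) = (LP (LK LD1_c7 LD2_c58 LD3_c22)) :=
  Lre_g IH (LK LD1_c3 LD2_c58 LD3_c29) (LK LD1_c7 LD2_c58 LD3_c22) Lrfl Lrfl
theorem f218921 : Led Lsl_ct (LP (LK LD1_c7 LD2_c58 LD3_c22)) = (LP (LK LD1_c15 LD2_c2 LD3_c29)) :=
  Lre_c IH (LK LD1_c7 LD2_c58 LD3_c22) (LK LD1_c15 LD2_c2 LD3_c29) Lrfl Lrfl
theorem f211359 : Led Lsl_ct (LP (LK LD1_c18 LD2_c17 LD3_c48)) = (LP (LK LD1_c10 LD2_c0 LD3_c48)) :=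
  Lre_c IH (LK LD1_c18 LD2_c17 LD3_c48) (LK LD1_c10 LD2_c0 LD3_c48) Lrfl Lrfl
theorem f353976 : Led Lsl_gt (LP (LK LD1_c15 LD2_c2 LD3_c29)) = (LP (LK LD1_c15 LD2_c20 LD3_c3)) :=
  Lgr Lrot150 (Lpe (f218921 IH) (Lpe (f218910 IH) (Lpe (f223092 IH) (Lpr_gt (f351889 IH) (Lpr_ct (f178213 IH) (Lpr_gt (f353974 IH) (Lpr_ct (f211359 IH) (Lpe (K11.f211343 IH) (Lpe (K17.f211350 IH) (Lpn (LP (LK LD1_c15 LD2_c20 LD3_c3))))))))))))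
theorem f353979 : Led Lsl_gf (LP (LK LD1_c15 LD2_c2 LD3_c29)) = (LP (LK LD1_c7 LD2_c58 LD3_c31)) :=
  Lgr Lrot47 (Lpr_gt (f353976 IH) (Lpr_af (K17.f290739 IH) (Lpe (K17.f290738 IH) (Lpn (LP (LK LD1_c7 LD2_c58 LD3_c31))))))
theorem f335467 : Led Lsl_gt (LP (LK LD1_c1 LD2_c56 LD3_c5)) = (LP (LK LD1_c3 LD2_c58 LD3_c41)) :=
  Lre_g IH (LK LD1_c1 LD2_c56 LD3_c5) (LK LD1_c3 LD2_c58 LD3_c41) Lrfl Lrfl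
theorem f353981 : Led Lsl_bt (LP (LK LD1_c7 LD2_c58 LD3_c22)) = (LP (LK LD1_c3 LD2_c58 LD3_c41)) :=
  Lgr Lrot92 (Lpr_ct (f218921 IH) (Lpr_gt (f353976 IH) (Lpe (K17.f290749 IH) (Lpr_bt (K18.f211327 IH) (Lpe (K19.f312167 IH) (Lpe (K22.f339684 IH) (Lpr_gt (K22.f220975 IH) (Lpe (K19.f221024 IH) (Lpr_bt (K23.f342177 IH) (Lpr_gt (f335467 IH) (Lpn (LP (LK LD1_c3 LD2_c58 LD3_c41)))))))))))))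
theorem f358428 : Led Lsl_gt (LP (LK LD1_c3 LD2_c58 LD3_c41)) = (LP (LK LD1_c2 LD2_c25 LD3_c54)) :=
  Lgr Lrot164 (Lpe (f353981 IH) (Lpr_ct (f218921 IH) (Lpr_gf (f353979 IH) (Lpe (K17.f290761 IH) (Lpe (f290768 IH) (Lpr_bf (f357549 IH) (Lpr_ct (K24.f293295 IH) (Lpe (f350155 IH) (Lpe (f168973 IH) (Lpr_bt (K21.f168907 IH) (Lpn (LP (LK LD1_c2 LD2_c25 LD3_c54)))))))))))))
theorem f287839 : Led Lsl_bt (LP (LK LD1_c2 LD2_c44 LD3_c12)) = (LP (LK LD1_c5 LD2_c36 LD3_c44)) :=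
  Lre_b IH (LK LD1_c2 LD2_c44 LD3_c12) (LK LD1_c5 LD2_c36 LD3_c44) Lrfl Lrfl
theorem f327004 : Led Lsl_ef (LP (LK LD1_c2 LD2_c44 LD3_c12)) = (LP (LK LD1_c2 LD2_c59 LD3_c42)) :=
  Lgr Lrot29 (Lpr_bt (f287839 IH) (Lpr_et (K21.f326991 IH) (Lpr_bt (K14.f168915 IH) (Lpn (LP (LK LD1_c2 LD2_c59 LD3_c42))))))
theorem f253535 : Led Lsl_dt (LP (LK LD1_c0 LD2_c36 LD3_c7)) = (LP (LK LD1_c1 LD2_c0 LD3_c43)) :=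
  Lgr Lrot42 (Lpr_df (K14.f253528 IH) (Lpn (LP (LK LD1_c1 LD2_c0 LD3_c43))))
theorem f168886 : Led Lsl_gt (LP (LK LD1_c1 LD2_c10 LD3_c6)) = (LP (LK LD1_c2 LD2_c25 LD3_c52)) :=
  Lre_g IH (LK LD1_c1 LD2_c10 LD3_c6) (LK LD1_c2 LD2_c25 LD3_c52) Lrfl Lrfl
theorem f358434 : Led Lsl_df (LP (LK LD1_c3 LD2_c58 LD3_c41)) = (LP (LK LD1_c2 LD2_c25 LD3_c52)) :=
  Lgr Lrot135 (Lpr_gt (f358428 IH) (Lpr_df (K14.f168911 IH) (Lpe (f327004 IH) (Lpr_gt (K18.f183138 IH) (Lpe (K14.f253537 IH) (Lpr_dt (f253535 IH) (Lpe (K23.f253546 IH) (Lpe (K9.f168824 IH) (Lpr_et (K23.f168885 IH) (Lpr_gt (f168886 IH) (Lpn (LP (LK LD1_c2 LD2_c25 LD3_c52)))))))))))))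
theorem f358464 : Led Lsl_dt (LP (LK LD1_c3 LD2_c58 LD3_c41)) = (LP (LK LD1_c2 LD2_c25 LD3_c52)) :=
  Lgr Lrot42 (Lpr_df (f358434 IH) (Lpn (LP (LK LD1_c2 LD2_c25 LD3_c52))))
theorem f353155 : Led Lsl_ct (LP (LK LD1_c15 LD2_c2 LD3_c29)) = (LP (LK LD1_c7 LD2_c58 LD3_c22)) :=
  Lre_c IH (LK LD1_c15 LD2_c2 LD3_c29) (LK LD1_c7 LD2_c58 LD3_c22) Lrfl Lrfl
theorem f348632 : Led Lsl_gt (LP (LK LD1_c4 LD2_c55 LD3_c39)) = (LP (LK LD1_c9 LD2_c42 LD3_c40)) :=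
  Lgr Lrot5 (Lpr_ft (K22.f168690 IH) (Lpe (K22.f331591 IH) (Lpr_gf (K24.f348630 IH) (Lpn (LP (LK LD1_c9 LD2_c42 LD3_c40))))))
theorem f347916 : Led Lsl_ct (LP (LK LD1_c9 LD2_c42 LD3_c40)) = (LP (LK LD1_c4 LD2_c55 LD3_c30)) :=
  Lre_c IH (LK LD1_c9 LD2_c42 LD3_c40) (LK LD1_c4 LD2_c55 LD3_c30) Lrfl Lrfl
theorem f357553 : Led Lsl_df (LP (LK LD1_c7 LD2_c58 LD3_c22)) = (LP (LK LD1_c4 LD2_c55 LD3_c30)) :=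
  Lgr Lrot162 (Lpe (f353155 IH) (Lpr_gf (f353979 IH) (Lpe (K17.f290761 IH) (Lpe (f290768 IH) (Lpr_dt (f357547 IH) (Lpe (f357542 IH) (Lpe (K18.f168677 IH) (Lpr_gt (f348632 IH) (Lpr_ct (f347916 IH) (Lpn (LP (LK LD1_c4 LD2_c55 LD3_c30))))))))))))
theorem f358466 : Led Lsl_bf (LP (LK LD1_c4 LD2_c55 LD3_c30)) = (LP (LK LD1_c2 LD2_c25 LD3_c52)) :=
  Lgr Lrot93 (Lpe (f357553 IH) (Lpr_bt (f353981 IH) (Lpr_dt (f358464 IH) (Lpn (LP (LK LD1_c2 LD2_c25 LD3_c52))))))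
theorem f358391 : Led Lsl_et (LP (LK LD1_c4 LD2_c55 LD3_c30)) = (LP (LK LD1_c9 LD2_c42 LD3_c41)) :=
  Lre_e IH (LK LD1_c4 LD2_c55 LD3_c30) (LK LD1_c9 LD2_c42 LD3_c41) Lrfl Lrfl
theorem f168887 : Led Lsl_et (LP (LK LD1_c4 LD2_c56 LD3_c8)) = (LP (LK LD1_c2 LD2_c25 LD3_c52)) :=
  Lre_e IH (LK LD1_c4 LD2_c56 LD3_c8) (LK LD1_c2 LD2_c25 LD3_c52) Lrfl Lrfl
theorem f358474 : Led Lsl_bt (LP (LK LD1_c9 LD2_c42 LD3_c41)) = (LP (LK LD1_c4 LD2_c56 LD3_c8)) :=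
  Lgr Lrot119 (Lpe (f358391 IH) (Lpr_bf (f358466 IH) (Lpe (f168887 IH) (Lpn (LP (LK LD1_c4 LD2_c56 LD3_c8))))))
theorem f358436 : Led Lsl_et (LP (LK LD1_c2 LD2_c25 LD3_c52)) = (LP (LK LD1_c4 LD2_c56 LD3_c8)) :=
  Lre_e IH (LK LD1_c2 LD2_c25 LD3_c52) (LK LD1_c4 LD2_c56 LD3_c8) Lrfl Lrfl
theorem f358437 : Led Lsl_gf (LP (LK LD1_c4 LD2_c56 LD3_c8)) = (LP (LK LD1_c4 LD2_c52 LD3_c16)) :=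
  Lgr Lrot141 (Lpe (f358436 IH) (Lpe (f358434 IH) (Lpr_gt (f358428 IH) (Lpr_df (K14.f168911 IH) (Lpe (f327004 IH) (Lpr_gt (K18.f183138 IH) (Lpr_dt (K19.f253538 IH) (Lpr_gt (K22.f253527 IH) (Lpe (f327020 IH) (Lpe (f337985 IH) (Lpn (LP (LK LD1_c4 LD2_c52 LD3_c16)))))))))))))
theorem f177883 : Led Lsl_et (LP (LK LD1_c1 LD2_c18 LD3_c27)) = (LP (LK LD1_c0 LD2_c36 LD3_c7)) :=
  Lre_e IH (LK LD1_c1 LD2_c18 LD3_c27) (LK LD1_c0 LD2_c36 LD3_c7) Lrfl Lrfl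
theorem f178128 : Led Lsl_gt (LP (LK LD1_c2 LD2_c45 LD3_c52)) = (LP (LK LD1_c1 LD2_c19 LD3_c17)) :=
  Lre_g IH (LK LD1_c2 LD2_c45 LD3_c52) (LK LD1_c1 LD2_c19 LD3_c17) Lrfl Lrfl
theorem f358439 : Led Lsl_dt (LP (LK LD1_c4 LD2_c56 LD3_c8)) = (LP (LK LD1_c2 LD2_c45 LD3_c52)) :=
  Lgr Lrot171 (Lpr_gf (f358437 IH) (Lpr_ef (f337985 IH) (Lpr_dt (f327020 IH) (Lpe (K22.f253527 IH) (Lpe (K19.f253538 IH) (Lpr_et (f177883 IH) (Lpe (K12.f178096 IH) (Lpe (K22.f178085 IH) (Lpr_dt (K22.f178086 IH) (Lpe (f178128 IH) (Lpn (LP (LK LD1_c2 LD2_c45 LD3_c52)))))))))))))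
theorem f358441 : Led Lsl_bt (LP (LK LD1_c2 LD2_c45 LD3_c52)) = (LP (LK LD1_c5 LD2_c39 LD3_c51)) :=
  Lre_b IH (LK LD1_c2 LD2_c45 LD3_c52) (LK LD1_c5 LD2_c39 LD3_c51) Lrfl Lrfl
theorem f358478 : Led Lsl_df (LP (LK LD1_c9 LD2_c42 LD3_c41)) = (LP (LK LD1_c5 LD2_c39 LD3_c51)) :=
  Lgr Lrot12 (Lpr_bt (f358474 IH) (Lpr_dt (f358439 IH) (Lpr_bt (f358441 IH) (Lpn (LP (LK LD1_c5 LD2_c39 LD3_c51))))))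
theorem f358480 : Led Lsl_dt (LP (LK LD1_c9 LD2_c42 LD3_c41)) = (LP (LK LD1_c5 LD2_c39 LD3_c51)) :=
  Lgr Lrot42 (Lpr_df (f358478 IH) (Lpn (LP (LK LD1_c5 LD2_c39 LD3_c51))))
theorem f300739 : Led Lsl_et (LP (LK LD1_c9 LD2_c42 LD3_c41)) = (LP (LK LD1_c4 LD2_c55 LD3_c30)) :=
  Lre_e IH (LK LD1_c9 LD2_c42 LD3_c41) (LK LD1_c4 LD2_c55 LD3_c30) Lrfl Lrfl
theorem f217562 : Led Lsl_et (LP (LK LD1_c1 LD2_c10 LD3_c0)) = (LP (LK LD1_c2 LD2_c25 LD3_c37)) :=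
  Lre_e IH (LK LD1_c1 LD2_c10 LD3_c0) (LK LD1_c2 LD2_c25 LD3_c37) Lrfl Lrfl
theorem f217552 : Led Lsl_et (LP (LK LD1_c2 LD2_c25 LD3_c37)) = (LP (LK LD1_c1 LD2_c10 LD3_c0)) :=
  Lre_e IH (LK LD1_c2 LD2_c25 LD3_c37) (LK LD1_c1 LD2_c10 LD3_c0) Lrfl Lrfl
theorem f300737 : Led Lsl_dt (LP (LK LD1_c1 LD2_c10 LD3_c0)) = (LP (LK LD1_c2 LD2_c3 LD3_c53)) :=
  Lgr Lrot77 (Lpe (f217552 IH) (Lpe (K15.f217502 IH) (Lpr_ef (K15.f217544 IH) (Lpe (K10.f182211 IH) (Lpr_ef (K18.f300733 IH) (Lpn (LP (LK LD1_c2 LD2_c3 LD3_c53))))))))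
theorem f358482 : Led Lsl_gf (LP (LK LD1_c4 LD2_c18 LD3_c44)) = (LP (LK LD1_c5 LD2_c39 LD3_c51)) :=
  Lgr Lrot145 (Lpe (K16.f254915 IH) (Lpr_et (K16.f228739 IH) (Lpr_gt (K15.f258286 IH) (Lpe (K15.f250412 IH) (Lpr_gt (K18.f253921 IH) (Lpe (f300737 IH) (Lpr_et (f217562 IH) (Lpr_gt (K24.f217563 IH) (Lpe (f300739 IH) (Lpr_dt (f358480 IH) (Lpn (LP (LK LD1_c5 LD2_c39 LD3_c51)))))))))))))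
theorem f278248 : Led Lsl_dt (LP (LK LD1_c8 LD2_c11 LD3_c22)) = (LP (LK LD1_c4 LD2_c54 LD3_c8)) :=
  Lgr Lrot42 (Lpr_df (K23.f278242 IH) (Lpn (LP (LK LD1_c4 LD2_c54 LD3_c8))))
theorem f333523 : Led Lsl_ef (LP (LK LD1_c4 LD2_c53 LD3_c34)) = (LP (LK LD1_c9 LD2_c38 LD3_c42)) :=
  Lgr Lrot88 (Lpr_et (K23.f333519 IH) (Lpn (LP (LK LD1_c9 LD2_c38 LD3_c42))))
theorem f333525 : Led Lsl_et (LP (LK LD1_c17 LD2_c46 LD3_c10)) = (LP (LK LD1_c17 LD2_c44 LD3_c60)) :=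
  Lgr Lrot71 (Lpe (K23.f230275 IH) (Lpr_ef (K23.f333489 IH) (Lpe (K23.f333487 IH) (Lpr_ef (f333523 IH) (Lpe (K23.f307069 IH) (Lpn (LP (LK LD1_c17 LD2_c44 LD3_c60))))))))
theorem f358486 : Led Lsl_gt (LP (LK LD1_c17 LD2_c44 LD3_c60)) = (LP (LK LD1_c9 LD2_c42 LD3_c41)) :=
  Lgr Lrot137 (Lpe (f333525 IH) (Lpr_dt (K23.f248612 IH) (Lpe (K23.f230274 IH) (Lpe (f278248 IH) (Lpr_et (K23.f278250 IH) (Lpe (K15.f258286 IH) (Lpe (K16.f228739 IH) (Lpr_dt (K16.f254915 IH) (Lpr_gf (f358482 IH) (Lpe (f358480 IH) (Lpn (LP (LK LD1_c9 LD2_c42 LD3_c41)))))))))))))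
theorem f167201 : Led Lsl_gt (LP (LK LD1_c8 LD2_c24 LD3_c14)) = (LP (LK LD1_c4 LD2_c12 LD3_c20)) :=
  Lre_g IH (LK LD1_c8 LD2_c24 LD3_c14) (LK LD1_c4 LD2_c12 LD3_c20) Lrfl Lrfl
theorem f358488 : Led Lsl_ef (LP (LK LD1_c8 LD2_c24 LD3_c14)) = (LP (LK LD1_c5 LD2_c39 LD3_c51)) :=
  Lgr Lrot114 (Lpr_gt (f167201 IH) (Lpe (K14.f246739 IH) (Lpe (K15.f246737 IH) (Lpe (K16.f276652 IH) (Lpr_df (K16.f180081 IH) (Lpr_et (K19.f180088 IH) (Lpr_gt (K23.f180090 IH) (Lpr_dt (K23.f180091 IH) (Lpr_gt (f358486 IH) (Lpr_df (f358478 IH) (Lpn (LP (LK LD1_c5 LD2_c39 LD3_c51)))))))))))))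
theorem f358496 : Led Lsl_et (LP (LK LD1_c8 LD2_c24 LD3_c14)) = (LP (LK LD1_c5 LD2_c39 LD3_c51)) :=
  Lgr Lrot87 (Lpr_ef (f358488 IH) (Lpn (LP (LK LD1_c5 LD2_c39 LD3_c51))))
theorem f358389 : Led Lsl_dt (LP (LK LD1_c7 LD2_c58 LD3_c22)) = (LP (LK LD1_c4 LD2_c55 LD3_c30)) :=
  Lgr Lrot42 (Lpr_df (f357553 IH) (Lpn (LP (LK LD1_c4 LD2_c55 LD3_c30))))
theorem f353986 : Led Lsl_et (LP (LK LD1_c15 LD2_c2 LD3_c30)) = (LP (LK LD1_c7 LD2_c58 LD3_c22)) :=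
  Lre_e IH (LK LD1_c15 LD2_c2 LD3_c30) (LK LD1_c7 LD2_c58 LD3_c22) Lrfl Lrfl
theorem f358494 : Led Lsl_dt (LP (LK LD1_c8 LD2_c24 LD3_c14)) = (LP (LK LD1_c15 LD2_c2 LD3_c30)) :=
  Lgr Lrot77 (Lpr_ef (f358488 IH) (Lpe (f358480 IH) (Lpe (f358391 IH) (Lpe (f358389 IH) (Lpe (f353986 IH) (Lpn (LP (LK LD1_c15 LD2_c2 LD3_c30))))))))
theorem f353994 : Led Lsl_et (LP (LK LD1_c7 LD2_c58 LD3_c22)) = (LP (LK LD1_c15 LD2_c2 LD3_c30)) :=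
  Lre_e IH (LK LD1_c7 LD2_c58 LD3_c22) (LK LD1_c15 LD2_c2 LD3_c30) Lrfl Lrfl

end

end K25

end

end Cfsg.Agent.Helper28.S1692
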