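import Cfsg.Agent.Lib.Helper28.S1692.Seeds25

set_option autoImplicit false
set_option maxRecDepth 100000
set_option linter.all false

namespace Cfsg.Agent.Helper28.S1692

open Cfsg.Agent.Helper28
open Cfsg.Spor.ON (Gen)

noncomputable section

namespace K26
abbrev LD1_c0 := D1.c0
abbrev LD1_c1 := D1.c1
abbrev LD1_c2 := D1.c2
abbrev LD1_c3 := D1.c3
abbrev LD1_c4 := D1.c4
abbrev LD1_c5 := D1.c5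
abbrev LD1_c6 := D1.c6
abbrev LD1_c7 := D1.c7
abbrev LD1_c8 := D1.c8
abbrev LD1_c9 := D1.c9
abbrev LD1_c10 := D1.c10
abbrev LD1_c11 := D1.c11
abbrev LD1_c12 := D1.c12
abbrev LD1_c13 := D1.c13
abbrev LD1_c14 := D1.c14
abbrev LD1_c15 := D1.c15
abbrev LD1_c16 := D1.c16
abbrev LD1_c17 := D1.c17
abbrev LD1_c18 := D1.c18
abbrev LD1_c19 := D1.c19
abbrev LD1_c20 := D1.c20
abbrev LD1_c21 := D1.c21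
abbrev LD1_c22 := D1.c22
abbrev LD1_c23 := D1.c23
abbrev LD1_c24 := D1.c24
abbrev LD1_c25 := D1.c25
abbrev LD1_c26 := D1.c26
abbrev LD1_c27 := D1.c27
abbrev LD1_c28 := D1.c28
abbrev LD1_c29 := D1.c29
abbrev LD1_c30 := D1.c30
abbrev LD1_c31 := D1.c31
abbrev LD1_c32 := D1.c32
abbrev LD2_c0 := D2.c0
abbrev LD2_c1 := D2.c1
abbrev LD2_c2 := D2.c2
abbrev LD2_c3 := D2.c3
abbrev LD2_c4 := D2.c4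
abbrev LD2_c5 := D2.c5
abbrev LD2_c6 := D2.c6
abbrev LD2_c7 := D2.c7
abbrev LD2_c8 := D2.c8
abbrev LD2_c9 := D2.c9
abbrev LD2_c10 := D2.c10
abbrev LD2_c11 := D2.c11
abbrev LD2_c12 := D2.c12
abbrev LD2_c13 := D2.c13
abbrev LD2_c14 := D2.c14
abbrev LD2_c15 := D2.c15
abbrev LD2_c16 := D2.c16
abbrev LD2_c17 := D2.c17
abbrev LD2_c18 := D2.c18
abbrev LD2_c19 := D2.c19
abbrev LD2_c20 := D2.c20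
abbrev LD2_c21 := D2.c21
abbrev LD2_c22 := D2.c22
abbrev LD2_c23 := D2.c23
abbrev LD2_c24 := D2.c24
abbrev LD2_c25 := D2.c25
abbrev LD2_c26 := D2.c26
abbrev LD2_c27 := D2.c27
abbrev LD2_c28 := D2.c28
abbrev LD2_c29 := D2.c29
abbrev LD2_c30 := D2.c30
abbrev LD2_c31 := D2.c31
abbrev LD2_c32 := D2.c32
abbrev LD2_c33 := D2.c33
abbrev LD2_c34 := D2.c34
abbrev LD2_c35 := D2.c35
abbrev LD2_c36 := D2.c36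
abbrev LD2_c37 := D2.c37
abbrev LD2_c38 := D2.c38
abbrev LD2_c39 := D2.c39
abbrev LD2_c40 := D2.c40
abbrev LD2_c41 := D2.c41
abbrev LD2_c42 := D2.c42
abbrev LD2_c43 := D2.c43
abbrev LD2_c44 := D2.c44
abbrev LD2_c45 := D2.c45
abbrev LD2_c46 := D2.c46
abbrev LD2_c47 := D2.c47
abbrev LD2_c48 := D2.c48
abbrev LD2_c49 := D2.c49
abbrev LD2_c50 := D2.c50
abbrev LD2_c51 := D2.c51
abbrev LD2_c52 := D2.c52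
abbrev LD2_c53 := D2.c53
abbrev LD2_c54 := D2.c54
abbrev LD2_c55 := D2.c55
abbrev LD2_c56 := D2.c56
abbrev LD2_c57 := D2.c57
abbrev LD2_c58 := D2.c58
abbrev LD2_c59 := D2.c59
abbrev LD3_c0 := D3.c0
abbrev LD3_c1 := D3.c1
abbrev LD3_c2 := D3.c2
abbrev LD3_c3 := D3.c3
abbrev LD3_c4 := D3.c4
abbrev LD3_c5 := D3.c5
abbrev LD3_c6 := D3.c6
abbrev LD3_c7 := D3.c7
abbrev LD3_c8 := D3.c8
abbrev LD3_c9 := D3.c9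
abbrev LD3_c10 := D3.c10
abbrev LD3_c11 := D3.c11
abbrev LD3_c12 := D3.c12
abbrev LD3_c13 := D3.c13
abbrev LD3_c14 := D3.c14
abbrev LD3_c15 := D3.c15
abbrev LD3_c16 := D3.c16
abbrev LD3_c17 := D3.c17
abbrev LD3_c18 := D3.c18
abbrev LD3_c19 := D3.c19
abbrev LD3_c20 := D3.c20
abbrev LD3_c21 := D3.c21
abbrev LD3_c22 := D3.c22
abbrev LD3_c23 := D3.c23
abbrev LD3_c24 := D3.c24
abbrev LD3_c25 := D3.c25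
abbrev LD3_c26 := D3.c26
abbrev LD3_c27 := D3.c27
abbrev LD3_c28 := D3.c28
abbrev LD3_c29 := D3.c29
abbrev LD3_c30 := D3.c30
abbrev LD3_c31 := D3.c31
abbrev LD3_c32 := D3.c32
abbrev LD3_c33 := D3.c33
abbrev LD3_c34 := D3.c34
abbrev LD3_c35 := D3.c35
abbrev LD3_c36 := D3.c36
abbrev LD3_c37 := D3.c37
abbrev LD3_c38 := D3.c38
abbrev LD3_c39 := D3.c39
abbrev LD3_c40 := D3.c40
abbrev LD3_c41 := D3.c41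
abbrev LD3_c42 := D3.c42
abbrev LD3_c43 := D3.c43
abbrev LD3_c44 := D3.c44
abbrev LD3_c45 := D3.c45
abbrev LD3_c46 := D3.c46
abbrev LD3_c47 := D3.c47
abbrev LD3_c48 := D3.c48
abbrev LD3_c49 := D3.c49
abbrev LD3_c50 := D3.c50
abbrev LD3_c51 := D3.c51
abbrev LD3_c52 := D3.c52
abbrev LD3_c53 := D3.c53
abbrev LD3_c54 := D3.c54
abbrev LD3_c55 := D3.c55
abbrev LD3_c56 := D3.c56
abbrev LD3_c57 := D3.c57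
abbrev LD3_c58 := D3.c58
abbrev LD3_c59 := D3.c59
abbrev LD3_c60 := D3.c60
abbrev LD3_c61 := D3.c61
abbrev LG_g := Gen.g
abbrev Lsl_gt : Gen × Bool := sl_gt
alias Lfl_gt := fl_gt
alias Lpr_gt := pr_gt
abbrev Lsl_gf : Gen × Bool := sl_gf
alias Lfl_gf := fl_gf
alias Lpr_gf := pr_gf
alias Lre_g := re_g
alias Leoe_g := eoe_g
abbrev LG_a := Gen.a
abbrev Lsl_at : Gen × Bool := sl_at
alias Lfl_at := fl_at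
alias Lpr_at := pr_at
abbrev Lsl_af : Gen × Bool := sl_af
alias Lfl_af := fl_af
alias Lpr_af := pr_af
alias Lre_a := re_a
alias Leoe_a := eoe_a
abbrev LG_b := Gen.b
abbrev Lsl_bt : Gen × Bool := sl_bt
alias Lfl_bt := fl_bt
alias Lpr_bt := pr_bt
abbrev Lsl_bf : Gen × Bool := sl_bf
alias Lfl_bf := fl_bf
alias Lpr_bf := pr_bf
alias Lre_b := re_b
alias Leoe_b := eoe_b
abbrev LG_c := Gen.c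
abbrev Lsl_ct : Gen × Bool := sl_ct
alias Lfl_ct := fl_ct
alias Lpr_ct := pr_ct
abbrev Lsl_cf : Gen × Bool := sl_cf
alias Lfl_cf := fl_cf
alias Lpr_cf := pr_cf
alias Lre_c := re_c
alias Leoe_c := eoe_c
abbrev LG_d := Gen.d
abbrev Lsl_dt : Gen × Bool := sl_dt
alias Lfl_dt := fl_dt
alias Lpr_dt := pr_dt
abbrev Lsl_df : Gen × Bool := sl_df
alias Lfl_df := fl_df
alias Lpr_df := pr_df
alias Lre_d := re_d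
alias Leoe_d := eoe_d
abbrev LG_e := Gen.e
abbrev Lsl_et : Gen × Bool := sl_et
alias Lfl_et := fl_et
alias Lpr_et := pr_et
abbrev Lsl_ef : Gen × Bool := sl_ef
alias Lfl_ef := fl_ef
alias Lpr_ef := pr_ef
alias Lre_e := re_e
alias Leoe_e := eoe_e
abbrev LG_f := Gen.f
abbrev Lsl_ft : Gen × Bool := sl_ft
alias Lfl_ft := fl_ft
alias Lpr_ft := pr_ft
abbrev Lsl_ff : Gen × Bool := sl_ff
alias Lfl_ff := fl_ff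
alias Lpr_ff := pr_ff
alias Lre_f := re_f
alias Leoe_f := eoe_f
abbrev LK := Pt.mk
abbrev LQ : Type := Qt rels S
abbrev LP (p : Pt) : LQ := P p
abbrev Led (l : Gen × Bool) (c : LQ) : LQ := ed l c
abbrev LEOK (x : Gen) (p : Pt) : Prop := EntryOK rels S fwd inv o plet idx x p
alias Lpe := pe
alias Lpn := pn
alias Lgr := gr
alias Lpq := pq
alias Lpqs := pqs
alias Llr := lr
alias Leop := eop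
alias Lefun := efun
alias Lecon := econ
theorem Lrfl {α : Sort _} {a : α} : a = a := rfl
alias Lrot0 := rot0
alias Lrot1 := rot1
alias Lrot2 := rot2
alias Lrot3 := rot3
alias Lrot4 := rot4
alias Lrot5 := rot5
alias Lrot6 := rot6
alias Lrot7 := rot7
alias Lrot8 := rot8
alias Lrot9 := rot9
alias Lrot10 := rot10
alias Lrot11 := rot11
alias Lrot12 := rot12
alias Lrot14 := rot14
alias Lrot15 := rot15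
alias Lrot17 := rot17
alias Lrot18 := rot18
alias Lrot19 := rot19
alias Lrot20 := rot20
alias Lrot21 := rot21
alias Lrot22 := rot22
alias Lrot23 := rot23
alias Lrot24 := rot24
alias Lrot25 := rot25
alias Lrot26 := rot26
alias Lrot27 := rot27
alias Lrot28 := rot28
alias Lrot29 := rot29
alias Lrot30 := rot30
alias Lrot31 := rot31
alias Lrot32 := rot32
alias Lrot33 := rot33
alias Lrot34 := rot34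
alias Lrot35 := rot35
alias Lrot36 := rot36
alias Lrot37 := rot37
alias Lrot38 := rot38
alias Lrot39 := rot39
alias Lrot40 := rot40
alias Lrot42 := rot42
alias Lrot43 := rot43
alias Lrot44 := rot44
alias Lrot45 := rot45
alias Lrot46 := rot46
alias Lrot47 := rot47
alias Lrot48 := rot48
alias Lrot49 := rot49
alias Lrot50 := rot50
alias Lrot51 := rot51
alias Lrot52 := rot52
alias Lrot53 := rot53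
alias Lrot54 := rot54
alias Lrot55 := rot55
alias Lrot56 := rot56
alias Lrot57 := rot57
alias Lrot58 := rot58
alias Lrot59 := rot59
alias Lrot60 := rot60
alias Lrot61 := rot61
alias Lrot62 := rot62
alias Lrot63 := rot63
alias Lrot64 := rot64
alias Lrot65 := rot65
alias Lrot66 := rot66
alias Lrot67 := rot67
alias Lrot68 := rot68
alias Lrot69 := rot69
alias Lrot70 := rot70
alias Lrot71 := rot71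
alias Lrot72 := rot72
alias Lrot73 := rot73
alias Lrot74 := rot74
alias Lrot75 := rot75
alias Lrot76 := rot76
alias Lrot77 := rot77
alias Lrot78 := rot78
alias Lrot79 := rot79
alias Lrot80 := rot80
alias Lrot81 := rot81
alias Lrot82 := rot82
alias Lrot83 := rot83
alias Lrot84 := rot84
alias Lrot86 := rot86
alias Lrot87 := rot87
alias Lrot88 := rot88
alias Lrot90 := rot90
alias Lrot91 := rot91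
alias Lrot92 := rot92
alias Lrot93 := rot93
alias Lrot94 := rot94
alias Lrot95 := rot95
alias Lrot96 := rot96
alias Lrot97 := rot97
alias Lrot99 := rot99
alias Lrot100 := rot100
alias Lrot101 := rot101
alias Lrot102 := rot102
alias Lrot103 := rot103
alias Lrot104 := rot104
alias Lrot105 := rot105
alias Lrot106 := rot106
alias Lrot107 := rot107
alias Lrot108 := rot108
alias Lrot109 := rot109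
alias Lrot110 := rot110
alias Lrot111 := rot111
alias Lrot112 := rot112
alias Lrot114 := rot114
alias Lrot117 := rot117
alias Lrot119 := rot119
alias Lrot120 := rot120
alias Lrot121 := rot121
alias Lrot122 := rot122
alias Lrot123 := rot123
alias Lrot124 := rot124
alias Lrot125 := rot125
alias Lrot126 := rot126
alias Lrot127 := rot127
alias Lrot128 := rot128
alias Lrot129 := rot129
alias Lrot130 := rot130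
alias Lrot131 := rot131
alias Lrot132 := rot132
alias Lrot134 := rot134
alias Lrot135 := rot135
alias Lrot136 := rot136
alias Lrot137 := rot137
alias Lrot138 := rot138
alias Lrot139 := rot139
alias Lrot141 := rot141
alias Lrot142 := rot142
alias Lrot143 := rot143
alias Lrot144 := rot144
alias Lrot145 := rot145
alias Lrot146 := rot146
alias Lrot147 := rot147
alias Lrot148 := rot148
alias Lrot149 := rot149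
alias Lrot150 := rot150
alias Lrot151 := rot151
alias Lrot152 := rot152
alias Lrot153 := rot153
alias Lrot154 := rot154
alias Lrot155 := rot155
alias Lrot156 := rot156
alias Lrot157 := rot157
alias Lrot158 := rot158
alias Lrot160 := rot160
alias Lrot162 := rot162
alias Lrot163 := rot163
alias Lrot164 := rot164
alias Lrot165 := rot165
alias Lrot166 := rot166
alias Lrot167 := rot167
alias Lrot168 := rot168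
alias Lrot169 := rot169
alias Lrot170 := rot170
alias Lrot171 := rot171
alias Lrot172 := rot172
alias Lrot173 := rot173
alias Lrot174 := rot174
alias Lrot176 := rot176
alias Lrot179 := rot179
alias Lrot180 := rot180
alias Lrot181 := rot181
alias Lrot185 := rot185
alias Lrot186 := rot186
alias Lrot187 := rot187
alias Lrot188 := rot188
alias Lrot189 := rot189

section
variable (IH : IHT)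
include IH

theorem f358394 : Led Lsl_gt (LP (LK LD1_c15 LD2_c2 LD3_c30)) = (LP (LK LD1_c15 LD2_c29 LD3_c35)) :=
  Lgr Lrot137 (Lpe (K25.f353994 IH) (Lpr_dt (K25.f358389 IH) (Lpe (K24.f217563 IH) (Lpe (K15.f217502 IH) (Lpr_et (K15.f217553 IH) (Lpe (K17.f182530 IH) (Lpe (K19.f301206 IH) (Lpr_dt (K19.f301204 IH) (Lpe (K19.f222121 IH) (Lpr_df (K19.f301234 IH) (Lpn (LP (LK LD1_c15 LD2_c29 LD3_c35)))))))))))))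
theorem f358484 : Led Lsl_gt (LP (LK LD1_c8 LD2_c25 LD3_c23)) = (LP (LK LD1_c5 LD2_c39 LD3_c51)) :=
  Lgr Lrot5 (Lpr_ft (K21.f310873 IH) (Lpr_at (K21.f329433 IH) (Lpr_gf (K25.f358482 IH) (Lpn (LP (LK LD1_c5 LD2_c39 LD3_c51))))))
theorem f324998 : Led Lsl_gf (LP (LK LD1_c15 LD2_c27 LD3_c34)) = (LP (LK LD1_c8 LD2_c13 LD3_c41)) :=
  Lgr Lrot76 (Lpr_af (K21.f324980 IH) (Lpe (K21.f301678 IH) (Lpr_gt (K22.f182632 IH) (Lpn (LP (LK LD1_c8 LD2_c13 LD3_c41))))))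
theorem f325001 : Led Lsl_dt (LP (LK LD1_c15 LD2_c28 LD3_c43)) = (LP (LK LD1_c8 LD2_c13 LD3_c41)) :=
  Lre_d IH (LK LD1_c15 LD2_c28 LD3_c43) (LK LD1_c8 LD2_c13 LD3_c41) Lrfl Lrfl
theorem f358504 : Led Lsl_gt (LP (LK LD1_c16 LD2_c9 LD3_c31)) = (LP (LK LD1_c15 LD2_c28 LD3_c43)) :=
  Lgr Lrot137 (Lpr_ef (K19.f301223 IH) (Lpr_dt (K25.f301237 IH) (Lpe (f358394 IH) (Lpe (K25.f358494 IH) (Lpr_et (K25.f358496 IH) (Lpe (f358484 IH) (Lpr_ef (K21.f329453 IH) (Lpe (K21.f251707 IH) (Lpr_gf (f324998 IH) (Lpe (f325001 IH) (Lpn (LP (LK LD1_c15 LD2_c28 LD3_c43)))))))))))))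
theorem f301222 : Led Lsl_dt (LP (LK LD1_c8 LD2_c37 LD3_c32)) = (LP (LK LD1_c16 LD2_c9 LD3_c31)) :=
  Lre_d IH (LK LD1_c8 LD2_c37 LD3_c32) (LK LD1_c16 LD2_c9 LD3_c31) Lrfl Lrfl
theorem f266916 : Led Lsl_dt (LP (LK LD1_c1 LD2_c56 LD3_c0)) = (LP (LK LD1_c2 LD2_c7 LD3_c14)) :=
  Lgr Lrot42 (Lpr_df (K15.f266913 IH) (Lpn (LP (LK LD1_c2 LD2_c7 LD3_c14))))
theorem f223125 : Led Lsl_et (LP (LK LD1_c1 LD2_c56 LD3_c0)) = (LP (LK LD1_c3 LD2_c58 LD3_c29)) :=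
  Lre_e IH (LK LD1_c1 LD2_c56 LD3_c0) (LK LD1_c3 LD2_c58 LD3_c29) Lrfl Lrfl
theorem f218922 : Led Lsl_gt (LP (LK LD1_c7 LD2_c58 LD3_c23)) = (LP (LK LD1_c3 LD2_c58 LD3_c29)) :=
  Lre_g IH (LK LD1_c7 LD2_c58 LD3_c23) (LK LD1_c3 LD2_c58 LD3_c29) Lrfl Lrfl
theorem f182633 : Led Lsl_dt (LP (LK LD1_c8 LD2_c13 LD3_c41)) = (LP (LK LD1_c15 LD2_c28 LD3_c43)) :=
  Lre_d IH (LK LD1_c8 LD2_c13 LD3_c41) (LK LD1_c15 LD2_c28 LD3_c43) Lrfl Lrfl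
theorem f358510 : Led Lsl_ef (LP (LK LD1_c7 LD2_c58 LD3_c23)) = (LP (LK LD1_c8 LD2_c13 LD3_c41)) :=
  Lgr Lrot114 (Lpr_gt (f218922 IH) (Lpe (f223125 IH) (Lpr_dt (f266916 IH) (Lpr_gt (K15.f170320 IH) (Lpe (K18.f226842 IH) (Lpr_et (K14.f254065 IH) (Lpr_gt (K19.f301195 IH) (Lpr_dt (f301222 IH) (Lpr_gt (f358504 IH) (Lpe (f182633 IH) (Lpn (LP (LK LD1_c8 LD2_c13 LD3_c41)))))))))))))
theorem f358514 : Led Lsl_et (LP (LK LD1_c7 LD2_c58 LD3_c23)) = (LP (LK LD1_c8 LD2_c13 LD3_c41)) :=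
  Lgr Lrot87 (Lpr_ef (f358510 IH) (Lpn (LP (LK LD1_c8 LD2_c13 LD3_c41))))
theorem f301675 : Led Lsl_et (LP (LK LD1_c2 LD2_c0 LD3_c37)) = (LP (LK LD1_c4 LD2_c6 LD3_c34)) :=
  Lre_e IH (LK LD1_c2 LD2_c0 LD3_c37) (LK LD1_c4 LD2_c6 LD3_c34) Lrfl Lrfl
theorem f321253 : Led Lsl_dt (LP (LK LD1_c2 LD2_c0 LD3_c37)) = (LP (LK LD1_c2 LD2_c25 LD3_c24)) :=
  Lgr Lrot57 (Lpe (K9.f55009 IH) (Lpe (K10.f54955 IH) (Lpr_gt (K16.f54964 IH) (Lpr_dt (K17.f54967 IH) (Lpr_gt (K17.f54968 IH) (Lpr_dt (K17.f274275 IH) (Lpr_cf (K17.f265233 IH) (Lpe (K18.f290006 IH) (Lpr_gf (K20.f321246 IH) (Lpn (LP (LK LD1_c2 LD2_c25 LD3_c24))))))))))))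
theorem f275246 : Led Lsl_bf (LP (LK LD1_c1 LD2_c2 LD3_c47)) = (LP (LK LD1_c2 LD2_c11 LD3_c7)) :=
  Lgr Lrot93 (Lpe (K14.f195712 IH) (Lpe (K14.f215452 IH) (Lpr_dt (K16.f275192 IH) (Lpn (LP (LK LD1_c2 LD2_c11 LD3_c7))))))
theorem f321244 : Led Lsl_gt (LP (LK LD1_c1 LD2_c13 LD3_c5)) = (LP (LK LD1_c2 LD2_c25 LD3_c24)) :=
  Lgr Lrot164 (Lpe (K11.f204876 IH) (Lpe (K11.f186717 IH) (Lpr_gf (K14.f210481 IH) (Lpr_cf (K14.f173189 IH) (Lpe (K9.f173196 IH) (Lpr_bf (f275246 IH) (Lpe (K17.f275267 IH) (Lpe (K17.f288551 IH) (Lpr_cf (K20.f321230 IH) (Lpr_bt (K20.f265105 IH) (Lpn (LP (LK LD1_c2 LD2_c25 LD3_c24)))))))))))))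
theorem f217564 : Led Lsl_gt (LP (LK LD1_c4 LD2_c55 LD3_c31)) = (LP (LK LD1_c2 LD2_c25 LD3_c37)) :=
  Lre_g IH (LK LD1_c4 LD2_c55 LD3_c31) (LK LD1_c2 LD2_c25 LD3_c37) Lrfl Lrfl
theorem f358518 : Led Lsl_dt (LP (LK LD1_c7 LD2_c58 LD3_c23)) = (LP (LK LD1_c4 LD2_c55 LD3_c31)) :=
  Lgr Lrot136 (Lpr_et (f358514 IH) (Lpe (K22.f182632 IH) (Lpe (f301675 IH) (Lpr_dt (f321253 IH) (Lpe (f321244 IH) (Lpe (K10.f189564 IH) (Lpr_gf (K10.f189561 IH) (Lpe (K15.f217553 IH) (Lpr_dt (K15.f217502 IH) (Lpe (f217564 IH) (Lpn (LP (LK LD1_c4 LD2_c55 LD3_c31)))))))))))))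
theorem f358523 : Led Lsl_df (LP (LK LD1_c7 LD2_c58 LD3_c23)) = (LP (LK LD1_c4 LD2_c55 LD3_c31)) :=
  Lgr Lrot38 (Lpr_dt (f358518 IH) (Lpn (LP (LK LD1_c4 LD2_c55 LD3_c31))))
theorem f223121 : Led Lsl_et (LP (LK LD1_c7 LD2_c58 LD3_c24)) = (LP (LK LD1_c4 LD2_c5 LD3_c2)) :=
  Lgr Lrot87 (Lpr_ef (K25.f223116 IH) (Lpn (LP (LK LD1_c4 LD2_c5 LD3_c2))))
theorem f322260 : Led Lsl_et (LP (LK LD1_c1 LD2_c59 LD3_c51)) = (LP (LK LD1_c4 LD2_c5 LD3_c19)) :=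
  Lre_e IH (LK LD1_c1 LD2_c59 LD3_c51) (LK LD1_c4 LD2_c5 LD3_c19) Lrfl Lrfl
theorem f358532 : Led Lsl_ef (LP (LK LD1_c8 LD2_c11 LD3_c29)) = (LP (LK LD1_c4 LD2_c55 LD3_c31)) :=
  Lgr Lrot17 (Lpe (K22.f182939 IH) (Lpe (f322260 IH) (Lpr_dt (K17.f251594 IH) (Lpe (K14.f28361 IH) (Lpe (K15.f192139 IH) (Lpe (K10.f192136 IH) (Lpe (f223121 IH) (Lpr_dt (K25.f223092 IH) (Lpe (f218922 IH) (Lpr_df (f358523 IH) (Lpn (LP (LK LD1_c4 LD2_c55 LD3_c31)))))))))))))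
theorem f358540 : Led Lsl_et (LP (LK LD1_c8 LD2_c11 LD3_c29)) = (LP (LK LD1_c4 LD2_c55 LD3_c31)) :=
  Lgr Lrot87 (Lpr_ef (f358532 IH) (Lpn (LP (LK LD1_c4 LD2_c55 LD3_c31))))
theorem f182940 : Led Lsl_dt (LP (LK LD1_c8 LD2_c11 LD3_c29)) = (LP (LK LD1_c15 LD2_c25 LD3_c24)) :=
  Lre_d IH (LK LD1_c8 LD2_c11 LD3_c29) (LK LD1_c15 LD2_c25 LD3_c24) Lrfl Lrfl
theorem f181258 : Led Lsl_dt (LP (LK LD1_c5 LD2_c36 LD3_c15)) = (LP (LK LD1_c11 LD2_c4 LD3_c48)) :=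
  Lre_d IH (LK LD1_c5 LD2_c36 LD3_c15) (LK LD1_c11 LD2_c4 LD3_c48) Lrfl Lrfl
theorem f358548 : Led Lsl_gf (LP (LK LD1_c15 LD2_c25 LD3_c24)) = (LP (LK LD1_c11 LD2_c4 LD3_c48)) :=
  Lgr Lrot134 (Lpe (f182940 IH) (Lpr_et (f358540 IH) (Lpr_gt (f217564 IH) (Lpe (K25.f217562 IH) (Lpr_dt (K25.f300737 IH) (Lpr_gt (K18.f228821 IH) (Lpe (K12.f178288 IH) (Lpr_et (K15.f228813 IH) (Lpr_gt (K19.f181257 IH) (Lpr_dt (f181258 IH) (Lpn (LP (LK LD1_c11 LD2_c4 LD3_c48)))))))))))))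
theorem f169012 : Led Lsl_bt (LP (LK LD1_c2 LD2_c59 LD3_c41)) = (LP (LK LD1_c6 LD2_c7 LD3_c8)) :=
  Lre_b IH (LK LD1_c2 LD2_c59 LD3_c41) (LK LD1_c6 LD2_c7 LD3_c8) Lrfl Lrfl
theorem f169014 : Led Lsl_dt (LP (LK LD1_c6 LD2_c7 LD3_c8)) = (LP (LK LD1_c6 LD2_c7 LD3_c7)) :=
  Lgr Lrot79 (Lpe (f169012 IH) (Lpr_df (K25.f169010 IH) (Lpe (K24.f169013 IH) (Lpn (LP (LK LD1_c6 LD2_c7 LD3_c7))))))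
theorem f169034 : Led Lsl_et (LP (LK LD1_c6 LD2_c7 LD3_c8)) = (LP (LK LD1_c11 LD2_c57 LD3_c12)) :=
  Lre_e IH (LK LD1_c6 LD2_c7 LD3_c8) (LK LD1_c11 LD2_c57 LD3_c12) Lrfl Lrfl
theorem f358550 : Led Lsl_gf (LP (LK LD1_c11 LD2_c4 LD3_c49)) = (LP (LK LD1_c11 LD2_c57 LD3_c12)) :=
  Lgr Lrot141 (Lpe (K21.f312581 IH) (Lpr_dt (f181258 IH) (Lpe (f358548 IH) (Lpe (f182940 IH) (Lpr_et (f358540 IH) (Lpr_gt (f217564 IH) (Lpr_dt (K25.f217542 IH) (Lpe (K24.f350315 IH) (Lpe (f169014 IH) (Lpr_et (f169034 IH) (Lpn (LP (LK LD1_c11 LD2_c57 LD3_c12)))))))))))))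
theorem f312590 : Led Lsl_df (LP (LK LD1_c11 LD2_c4 LD3_c49)) = (LP (LK LD1_c8 LD2_c11 LD3_c51)) :=
  Lgr Lrot38 (Lpr_dt (K21.f312583 IH) (Lpn (LP (LK LD1_c8 LD2_c11 LD3_c51))))
theorem f312579 : Led Lsl_dt (LP (LK LD1_c9 LD2_c38 LD3_c43)) = (LP (LK LD1_c15 LD2_c25 LD3_c59)) :=
  Lgr Lrot42 (Lpr_df (K21.f312576 IH) (Lpn (LP (LK LD1_c15 LD2_c25 LD3_c59))))
theorem f179648 : Led Lsl_dt (LP (LK LD1_c8 LD2_c36 LD3_c7)) = (LP (LK LD1_c16 LD2_c7 LD3_c31)) :=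
  Lre_d IH (LK LD1_c8 LD2_c36 LD3_c7) (LK LD1_c16 LD2_c7 LD3_c31) Lrfl Lrfl
theorem f312595 : Led Lsl_gf (LP (LK LD1_c16 LD2_c7 LD3_c31)) = (LP (LK LD1_c15 LD2_c25 LD3_c59)) :=
  Lgr Lrot134 (Lpe (f179648 IH) (Lpr_et (K21.f305905 IH) (Lpr_gt (K21.f305813 IH) (Lpe (K25.f305777 IH) (Lpr_dt (K19.f248590 IH) (Lpe (K19.f305782 IH) (Lpr_df (K19.f312541 IH) (Lpe (K19.f304940 IH) (Lpr_gt (K19.f304957 IH) (Lpr_dt (f312579 IH) (Lpn (LP (LK LD1_c15 LD2_c25 LD3_c59)))))))))))))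
theorem f310860 : Led Lsl_bt (LP (LK LD1_c9 LD2_c41 LD3_c48)) = (LP (LK LD1_c4 LD2_c55 LD3_c15)) :=
  Lre_b IH (LK LD1_c9 LD2_c41 LD3_c48) (LK LD1_c4 LD2_c55 LD3_c15) Lrfl Lrfl
theorem f310861 : Led Lsl_df (LP (LK LD1_c8 LD2_c25 LD3_c23)) = (LP (LK LD1_c4 LD2_c55 LD3_c15)) :=
  Lgr Lrot12 (Lpr_bt (K21.f220112 IH) (Lpr_dt (K21.f310856 IH) (Lpr_bt (f310860 IH) (Lpn (LP (LK LD1_c4 LD2_c55 LD3_c15))))))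
theorem f169027 : Led Lsl_bt (LP (LK LD1_c9 LD2_c0 LD3_c6)) = (LP (LK LD1_c4 LD2_c30 LD3_c61)) :=
  Lre_b IH (LK LD1_c9 LD2_c0 LD3_c6) (LK LD1_c4 LD2_c30 LD3_c61) Lrfl Lrfl
theorem f169028 : Led Lsl_bt (LP (LK LD1_c6 LD2_c7 LD3_c9)) = (LP (LK LD1_c11 LD2_c57 LD3_c12)) :=
  Lre_b IH (LK LD1_c6 LD2_c7 LD3_c9) (LK LD1_c11 LD2_c57 LD3_c12) Lrfl Lrfl
theorem f169029 : Led Lsl_df (LP (LK LD1_c9 LD2_c0 LD3_c6)) = (LP (LK LD1_c11 LD2_c57 LD3_c12)) :=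
  Lgr Lrot12 (Lpr_bt (f169027 IH) (Lpr_dt (K25.f169025 IH) (Lpr_bt (f169028 IH) (Lpn (LP (LK LD1_c11 LD2_c57 LD3_c12))))))
theorem f169032 : Led Lsl_dt (LP (LK LD1_c9 LD2_c0 LD3_c6)) = (LP (LK LD1_c11 LD2_c57 LD3_c12)) :=
  Lgr Lrot42 (Lpr_df (f169029 IH) (Lpn (LP (LK LD1_c11 LD2_c57 LD3_c12))))
theorem f167905 : Led Lsl_et (LP (LK LD1_c9 LD2_c0 LD3_c6)) = (LP (LK LD1_c4 LD2_c30 LD3_c60)) :=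
  Lre_e IH (LK LD1_c9 LD2_c0 LD3_c6) (LK LD1_c4 LD2_c30 LD3_c60) Lrfl Lrfl
theorem f167900 : Led Lsl_gt (LP (LK LD1_c9 LD2_c0 LD3_c3)) = (LP (LK LD1_c4 LD2_c30 LD3_c60)) :=
  Lre_g IH (LK LD1_c9 LD2_c0 LD3_c3) (LK LD1_c4 LD2_c30 LD3_c60) Lrfl Lrfl
theorem f358552 : Led Lsl_et (LP (LK LD1_c4 LD2_c55 LD3_c15)) = (LP (LK LD1_c9 LD2_c0 LD3_c3)) :=
  Lgr Lrot185 (Lpe (f310861 IH) (Lpr_gf (K21.f329449 IH) (Lpe (K16.f254921 IH) (Lpr_gf (f312595 IH) (Lpe (K21.f312582 IH) (Lpe (f312590 IH) (Lpr_gf (f358550 IH) (Lpe (f169032 IH) (Lpr_et (f167905 IH) (Lpe (f167900 IH) (Lpn (LP (LK LD1_c9 LD2_c0 LD3_c3)))))))))))))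
theorem f307102 : Led Lsl_ft (LP (LK LD1_c2 LD2_c25 LD3_c31)) = (LP (LK LD1_c4 LD2_c55 LD3_c15)) :=
  Lre_f IH (LK LD1_c2 LD2_c25 LD3_c31) (LK LD1_c4 LD2_c55 LD3_c15) Lrfl Lrfl
theorem f325318 : Led Lsl_ct (LP (LK LD1_c4 LD2_c16 LD3_c50)) = (LP (LK LD1_c8 LD2_c32 LD3_c60)) :=
  Lre_c IH (LK LD1_c4 LD2_c16 LD3_c50) (LK LD1_c8 LD2_c32 LD3_c60) Lrfl Lrfl
theorem f325319 : Led Lsl_gt (LP (LK LD1_c16 LD2_c2 LD3_c61)) = (LP (LK LD1_c8 LD2_c32 LD3_c60)) :=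
  Lre_g IH (LK LD1_c16 LD2_c2 LD3_c61) (LK LD1_c8 LD2_c32 LD3_c60) Lrfl Lrfl
theorem f348966 : Led Lsl_ct (LP (LK LD1_c9 LD2_c34 LD3_c50)) = (LP (LK LD1_c16 LD2_c2 LD3_c61)) :=
  Lgr Lrot64 (Lpr_bt (K21.f238151 IH) (Lpr_gf (K23.f348962 IH) (Lpr_bf (K23.f315443 IH) (Lpe (K23.f348964 IH) (Lpe (K23.f237235 IH) (Lpe (K17.f28843 IH) (Lpe (K18.f28876 IH) (Lpr_bf (K20.f299269 IH) (Lpr_ct (f325318 IH) (Lpe (f325319 IH) (Lpn (LP (LK LD1_c16 LD2_c2 LD3_c61)))))))))))))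
theorem f238186 : Led Lsl_ct (LP (LK LD1_c9 LD2_c34 LD3_c48)) = (LP (LK LD1_c4 LD2_c51 LD3_c22)) :=
  Lre_c IH (LK LD1_c9 LD2_c34 LD3_c48) (LK LD1_c4 LD2_c51 LD3_c22) Lrfl Lrfl
theorem f348970 : Led Lsl_ff (LP (LK LD1_c9 LD2_c34 LD3_c48)) = (LP (LK LD1_c16 LD2_c2 LD3_c61)) :=
  Lgr Lrot23 (Lpr_ct (f238186 IH) (Lpr_ft (K15.f238171 IH) (Lpr_ct (f348966 IH) (Lpn (LP (LK LD1_c16 LD2_c2 LD3_c61))))))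
theorem f321077 : Led Lsl_gt (LP (LK LD1_c8 LD2_c32 LD3_c60)) = (LP (LK LD1_c16 LD2_c2 LD3_c60)) :=
  Lre_g IH (LK LD1_c8 LD2_c32 LD3_c60) (LK LD1_c16 LD2_c2 LD3_c60) Lrfl Lrfl
theorem f348976 : Led Lsl_at (LP (LK LD1_c9 LD2_c34 LD3_c48)) = (LP (LK LD1_c16 LD2_c2 LD3_c60)) :=
  Lgr Lrot26 (Lpr_ff (f348970 IH) (Lpr_gt (f325319 IH) (Lpr_gt (f321077 IH) (Lpn (LP (LK LD1_c16 LD2_c2 LD3_c60))))))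
theorem f348978 : Led Lsl_af (LP (LK LD1_c9 LD2_c34 LD3_c48)) = (LP (LK LD1_c16 LD2_c2 LD3_c60)) :=
  Lgr Lrot0 (Lpr_at (f348976 IH) (Lpn (LP (LK LD1_c16 LD2_c2 LD3_c60))))
theorem f260895 : Led Lsl_et (LP (LK LD1_c9 LD2_c34 LD3_c48)) = (LP (LK LD1_c4 LD2_c51 LD3_c21)) :=
  Lre_e IH (LK LD1_c9 LD2_c34 LD3_c48) (LK LD1_c4 LD2_c51 LD3_c21) Lrfl Lrfl
theorem f311734 : Led Lsl_at (LP (LK LD1_c4 LD2_c51 LD3_c21)) = (LP (LK LD1_c8 LD2_c33 LD3_c42)) :=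
  Lgr Lrot107 (Lpe (K15.f229619 IH) (Lpe (K15.f267575 IH) (Lpr_cf (K19.f311732 IH) (Lpn (LP (LK LD1_c8 LD2_c33 LD3_c42))))))
theorem f348982 : Led Lsl_et (LP (LK LD1_c8 LD2_c33 LD3_c42)) = (LP (LK LD1_c16 LD2_c2 LD3_c60)) :=
  Lgr Lrot123 (Lpe (f311734 IH) (Lpe (f260895 IH) (Lpr_af (f348978 IH) (Lpn (LP (LK LD1_c16 LD2_c2 LD3_c60))))))
theorem f166546 : Led Lsl_bt (LP (LK LD1_c16 LD2_c4 LD3_c10)) = (LP (LK LD1_c8 LD2_c33 LD3_c42)) :=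
  Lre_b IH (LK LD1_c16 LD2_c4 LD3_c10) (LK LD1_c8 LD2_c33 LD3_c42) Lrfl Lrfl
theorem f330902 : Led Lsl_bt (LP (LK LD1_c16 LD2_c2 LD3_c60)) = (LP (LK LD1_c26 LD2_c0 LD3_c27)) :=
  Lre_b IH (LK LD1_c16 LD2_c2 LD3_c60) (LK LD1_c26 LD2_c0 LD3_c27) Lrfl Lrfl
theorem f348984 : Led Lsl_ef (LP (LK LD1_c16 LD2_c4 LD3_c10)) = (LP (LK LD1_c26 LD2_c0 LD3_c27)) :=
  Lgr Lrot29 (Lpr_bt (f166546 IH) (Lpr_et (f348982 IH) (Lpr_bt (f330902 IH) (Lpn (LP (LK LD1_c26 LD2_c0 LD3_c27))))))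
theorem f311722 : Led Lsl_ct (LP (LK LD1_c4 LD2_c51 LD3_c19)) = (LP (LK LD1_c8 LD2_c33 LD3_c42)) :=
  Lgr Lrot176 (Lpe (K19.f311721 IH) (Lpr_cf (K19.f311713 IH) (Lpe (K14.f41972 IH) (Lpe (K18.f171919 IH) (Lpe (K17.f171927 IH) (Lpe (K17.f290804 IH) (Lpe (K19.f290844 IH) (Lpr_cf (K13.f199628 IH) (Lpe (K17.f199620 IH) (Lpe (K13.f199609 IH) (Lpe (K13.f55005 IH) (Lpe (K18.f199614 IH) (Lpe (K16.f199619 IH) (Lpr_cf (K16.f278148 IH) (Lpr_df (K19.f300827 IH) (Lpn (LP (LK LD1_c8 LD2_c33 LD3_c42))))))))))))))))))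
theorem f311747 : Led Lsl_bt (LP (LK LD1_c8 LD2_c33 LD3_c42)) = (LP (LK LD1_c16 LD2_c4 LD3_c10)) :=
  Lre_b IH (LK LD1_c8 LD2_c33 LD3_c42) (LK LD1_c16 LD2_c4 LD3_c10) Lrfl Lrfl
theorem f219097 : Led Lsl_bt (LP (LK LD1_c10 LD2_c52 LD3_c0)) = (LP (LK LD1_c5 LD2_c30 LD3_c18)) :=
  Lre_b IH (LK LD1_c10 LD2_c52 LD3_c0) (LK LD1_c5 LD2_c30 LD3_c18) Lrfl Lrfl
theorem f311768 : Led Lsl_ct (LP (LK LD1_c16 LD2_c4 LD3_c10)) = (LP (LK LD1_c10 LD2_c52 LD3_c0)) :=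
  Lgr Lrot83 (Lpe (f311747 IH) (Lpe (f311722 IH) (Lpr_bf (K19.f311762 IH) (Lpr_cf (K16.f219087 IH) (Lpe (f219097 IH) (Lpn (LP (LK LD1_c10 LD2_c52 LD3_c0))))))))
theorem f349005 : Led Lsl_et (LP (LK LD1_c10 LD2_c52 LD3_c0)) = (LP (LK LD1_c19 LD2_c38 LD3_c53)) :=
  Lre_e IH (LK LD1_c10 LD2_c52 LD3_c0) (LK LD1_c19 LD2_c38 LD3_c53) Lrfl Lrfl
theorem f349006 : Led Lsl_ct (LP (LK LD1_c19 LD2_c38 LD3_c53)) = (LP (LK LD1_c26 LD2_c0 LD3_c27)) :=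
  Lgr Lrot15 (Lpe (f349005 IH) (Lpe (f311768 IH) (Lpr_ef (f348984 IH) (Lpn (LP (LK LD1_c26 LD2_c0 LD3_c27))))))
theorem f349008 : Led Lsl_cf (LP (LK LD1_c19 LD2_c38 LD3_c53)) = (LP (LK LD1_c26 LD2_c0 LD3_c27)) :=
  Lgr Lrot11 (Lpr_ct (f349006 IH) (Lpn (LP (LK LD1_c26 LD2_c0 LD3_c27))))
theorem f349010 : Led Lsl_et (LP (LK LD1_c19 LD2_c38 LD3_c53)) = (LP (LK LD1_c10 LD2_c52 LD3_c0)) :=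
  Lre_e IH (LK LD1_c19 LD2_c38 LD3_c53) (LK LD1_c10 LD2_c52 LD3_c0) Lrfl Lrfl
theorem f348986 : Led Lsl_ef (LP (LK LD1_c8 LD2_c33 LD3_c42)) = (LP (LK LD1_c16 LD2_c2 LD3_c60)) :=
  Lgr Lrot88 (Lpr_et (f348982 IH) (Lpn (LP (LK LD1_c16 LD2_c2 LD3_c60))))
theorem f326343 : Led Lsl_bt (LP (LK LD1_c26 LD2_c0 LD3_c27)) = (LP (LK LD1_c16 LD2_c2 LD3_c60)) :=
  Lre_b IH (LK LD1_c26 LD2_c0 LD3_c27) (LK LD1_c16 LD2_c2 LD3_c60) Lrfl Lrfl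
theorem f348990 : Led Lsl_et (LP (LK LD1_c16 LD2_c4 LD3_c10)) = (LP (LK LD1_c26 LD2_c0 LD3_c27)) :=
  Lgr Lrot74 (Lpe (f311747 IH) (Lpr_ef (f348986 IH) (Lpe (f326343 IH) (Lpn (LP (LK LD1_c26 LD2_c0 LD3_c27))))))
theorem f349011 : Led Lsl_ct (LP (LK LD1_c10 LD2_c52 LD3_c0)) = (LP (LK LD1_c16 LD2_c4 LD3_c10)) :=
  Lgr Lrot15 (Lpe (f349010 IH) (Lpr_cf (f349008 IH) (Lpe (f348990 IH) (Lpn (LP (LK LD1_c16 LD2_c4 LD3_c10))))))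
theorem f349013 : Led Lsl_at (LP (LK LD1_c19 LD2_c38 LD3_c52)) = (LP (LK LD1_c10 LD2_c52 LD3_c0)) :=
  Lre_a IH (LK LD1_c19 LD2_c38 LD3_c52) (LK LD1_c10 LD2_c52 LD3_c0) Lrfl Lrfl
theorem f349003 : Led Lsl_at (LP (LK LD1_c16 LD2_c4 LD3_c10)) = (LP (LK LD1_c26 LD2_c1 LD3_c23)) :=
  Lre_a IH (LK LD1_c16 LD2_c4 LD3_c10) (LK LD1_c26 LD2_c1 LD3_c23) Lrfl Lrfl
theorem f349014 : Led Lsl_cf (LP (LK LD1_c19 LD2_c38 LD3_c52)) = (LP (LK LD1_c26 LD2_c1 LD3_c23)) :=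
  Lgr Lrot1 (Lpr_at (f349013 IH) (Lpr_ct (f349011 IH) (Lpr_at (f349003 IH) (Lpn (LP (LK LD1_c26 LD2_c1 LD3_c23))))))
theorem f267564 : Led Lsl_et (LP (LK LD1_c4 LD2_c51 LD3_c21)) = (LP (LK LD1_c9 LD2_c34 LD3_c48)) :=
  Lre_e IH (LK LD1_c4 LD2_c51 LD3_c21) (LK LD1_c9 LD2_c34 LD3_c48) Lrfl Lrfl
theorem f348988 : Led Lsl_at (LP (LK LD1_c8 LD2_c33 LD3_c42)) = (LP (LK LD1_c4 LD2_c51 LD3_c21)) :=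
  Lgr Lrot80 (Lpr_ef (f348986 IH) (Lpe (f348976 IH) (Lpe (f267564 IH) (Lpn (LP (LK LD1_c4 LD2_c51 LD3_c21))))))
theorem f348992 : Led Lsl_at (LP (LK LD1_c26 LD2_c1 LD3_c23)) = (LP (LK LD1_c16 LD2_c4 LD3_c10)) :=
  Lre_a IH (LK LD1_c26 LD2_c1 LD3_c23) (LK LD1_c16 LD2_c4 LD3_c10) Lrfl Lrfl
theorem f229624 : Led Lsl_bt (LP (LK LD1_c4 LD2_c51 LD3_c21)) = (LP (LK LD1_c9 LD2_c34 LD3_c46)) :=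
  Lre_b IH (LK LD1_c4 LD2_c51 LD3_c21) (LK LD1_c9 LD2_c34 LD3_c46) Lrfl Lrfl
theorem f348993 : Led Lsl_at (LP (LK LD1_c9 LD2_c34 LD3_c46)) = (LP (LK LD1_c17 LD2_c38 LD3_c24)) :=
  Lre_a IH (LK LD1_c9 LD2_c34 LD3_c46) (LK LD1_c17 LD2_c38 LD3_c24) Lrfl Lrfl
theorem f348994 : Led Lsl_bf (LP (LK LD1_c26 LD2_c1 LD3_c23)) = (LP (LK LD1_c17 LD2_c38 LD3_c24)) :=
  Lgr Lrot81 (Lpr_at (f348992 IH) (Lpr_bt (f166546 IH) (Lpr_at (f348988 IH) (Lpr_bt (f229624 IH) (Lpr_at (f348993 IH) (Lpn (LP (LK LD1_c17 LD2_c38 LD3_c24))))))))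
theorem f349000 : Led Lsl_ct (LP (LK LD1_c9 LD2_c34 LD3_c57)) = (LP (LK LD1_c17 LD2_c38 LD3_c24)) :=
  Lre_c IH (LK LD1_c9 LD2_c34 LD3_c57) (LK LD1_c17 LD2_c38 LD3_c24) Lrfl Lrfl
theorem f255678 : Led Lsl_bt (LP (LK LD1_c4 LD2_c51 LD3_c26)) = (LP (LK LD1_c2 LD2_c23 LD3_c34)) :=
  Lre_b IH (LK LD1_c4 LD2_c51 LD3_c26) (LK LD1_c2 LD2_c23 LD3_c34) Lrfl Lrfl
theorem f327941 : Led Lsl_at (LP (LK LD1_c9 LD2_c34 LD3_c57)) = (LP (LK LD1_c4 LD2_c51 LD3_c26)) :=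
  Lre_a IH (LK LD1_c9 LD2_c34 LD3_c57) (LK LD1_c4 LD2_c51 LD3_c26) Lrfl Lrfl
theorem f289 : Led Lsl_bt (LP (LK LD1_c4 LD2_c50 LD3_c51)) = (LP (LK LD1_c9 LD2_c33 LD3_c48)) :=
  Lre_b IH (LK LD1_c4 LD2_c50 LD3_c51) (LK LD1_c9 LD2_c33 LD3_c48) Lrfl Lrfl
theorem f167394 : Led Lsl_at (LP (LK LD1_c9 LD2_c33 LD3_c48)) = (LP (LK LD1_c17 LD2_c36 LD3_c36)) :=
  Lre_a IH (LK LD1_c9 LD2_c33 LD3_c48) (LK LD1_c17 LD2_c36 LD3_c36) Lrfl Lrfl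
theorem f327942 : Led Lsl_bf (LP (LK LD1_c9 LD2_c34 LD3_c57)) = (LP (LK LD1_c17 LD2_c36 LD3_c36)) :=
  Lgr Lrot81 (Lpr_at (f327941 IH) (Lpr_bt (f255678 IH) (Lpr_at (K21.f327939 IH) (Lpr_bt (f289 IH) (Lpr_at (f167394 IH) (Lpn (LP (LK LD1_c17 LD2_c36 LD3_c36))))))))
theorem f167372 : Led Lsl_bt (LP (LK LD1_c8 LD2_c26 LD3_c42)) = (LP (LK LD1_c15 LD2_c51 LD3_c28)) :=
  Lre_b IH (LK LD1_c8 LD2_c26 LD3_c42) (LK LD1_c15 LD2_c51 LD3_c28) Lrfl Lrfl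
theorem f167374 : Led Lsl_bt (LP (LK LD1_c9 LD2_c33 LD3_c48)) = (LP (LK LD1_c4 LD2_c50 LD3_c51)) :=
  Lre_b IH (LK LD1_c9 LD2_c33 LD3_c48) (LK LD1_c4 LD2_c50 LD3_c51) Lrfl Lrfl
theorem f167375 : Led Lsl_ct (LP (LK LD1_c15 LD2_c51 LD3_c28)) = (LP (LK LD1_c9 LD2_c33 LD3_c48)) :=
  Lgr Lrot83 (Lpe (f167372 IH) (Lpe (K13.f167371 IH) (Lpr_bf (K13.f167322 IH) (Lpe (K13.f167373 IH) (Lpe (f167374 IH) (Lpn (LP (LK LD1_c9 LD2_c33 LD3_c48))))))))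
theorem f167397 : Led Lsl_cf (LP (LK LD1_c15 LD2_c51 LD3_c28)) = (LP (LK LD1_c9 LD2_c33 LD3_c48)) :=
  Lgr Lrot11 (Lpr_ct (f167375 IH) (Lpn (LP (LK LD1_c9 LD2_c33 LD3_c48))))
theorem f167410 : Led Lsl_at (LP (LK LD1_c15 LD2_c51 LD3_c28)) = (LP (LK LD1_c25 LD2_c47 LD3_c18)) :=
  Lre_a IH (LK LD1_c15 LD2_c51 LD3_c28) (LK LD1_c25 LD2_c47 LD3_c18) Lrfl Lrfl
theorem f167401 : Led Lsl_at (LP (LK LD1_c17 LD2_c36 LD3_c36)) = (LP (LK LD1_c9 LD2_c33 LD3_c48)) :=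
  Lre_a IH (LK LD1_c17 LD2_c36 LD3_c36) (LK LD1_c9 LD2_c33 LD3_c48) Lrfl Lrfl
theorem f167411 : Led Lsl_ct (LP (LK LD1_c25 LD2_c47 LD3_c18)) = (LP (LK LD1_c17 LD2_c36 LD3_c36)) :=
  Lgr Lrot111 (Lpe (f167410 IH) (Lpr_cf (f167397 IH) (Lpe (f167401 IH) (Lpn (LP (LK LD1_c17 LD2_c36 LD3_c36))))))
theorem f349022 : Led Lsl_bt (LP (LK LD1_c19 LD2_c38 LD3_c52)) = (LP (LK LD1_c25 LD2_c47 LD3_c18)) :=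
  Lgr Lrot128 (Lpr_cf (f349014 IH) (Lpr_bf (f348994 IH) (Lpe (f349000 IH) (Lpr_bf (f327942 IH) (Lpe (f167411 IH) (Lpn (LP (LK LD1_c25 LD2_c47 LD3_c18))))))))
theorem f349027 : Led Lsl_bf (LP (LK LD1_c19 LD2_c38 LD3_c52)) = (LP (LK LD1_c25 LD2_c47 LD3_c18)) :=
  Lgr Lrot24 (Lpr_bt (f349022 IH) (Lpn (LP (LK LD1_c25 LD2_c47 LD3_c18))))
theorem f349024 : Led Lsl_ct (LP (LK LD1_c19 LD2_c38 LD3_c52)) = (LP (LK LD1_c26 LD2_c1 LD3_c23)) :=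
  Lgr Lrot59 (Lpr_cf (f349014 IH) (Lpn (LP (LK LD1_c26 LD2_c1 LD3_c23))))
theorem f348998 : Led Lsl_bt (LP (LK LD1_c26 LD2_c1 LD3_c23)) = (LP (LK LD1_c17 LD2_c38 LD3_c24)) :=
  Lgr Lrot127 (Lpr_bf (f348994 IH) (Lpn (LP (LK LD1_c17 LD2_c38 LD3_c24))))
theorem f349002 : Led Lsl_ct (LP (LK LD1_c17 LD2_c38 LD3_c24)) = (LP (LK LD1_c9 LD2_c34 LD3_c57)) :=
  Lre_c IH (LK LD1_c17 LD2_c38 LD3_c24) (LK LD1_c9 LD2_c34 LD3_c57) Lrfl Lrfl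
theorem f167393 : Led Lsl_at (LP (LK LD1_c25 LD2_c47 LD3_c18)) = (LP (LK LD1_c15 LD2_c51 LD3_c28)) :=
  Lre_a IH (LK LD1_c25 LD2_c47 LD3_c18) (LK LD1_c15 LD2_c51 LD3_c28) Lrfl Lrfl
theorem f167395 : Led Lsl_cf (LP (LK LD1_c25 LD2_c47 LD3_c18)) = (LP (LK LD1_c17 LD2_c36 LD3_c36)) :=
  Lgr Lrot1 (Lpr_at (f167393 IH) (Lpr_ct (f167375 IH) (Lpr_at (f167394 IH) (Lpn (LP (LK LD1_c17 LD2_c36 LD3_c36))))))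
theorem f349031 : Led Lsl_bt (LP (LK LD1_c9 LD2_c34 LD3_c57)) = (LP (LK LD1_c17 LD2_c36 LD3_c36)) :=
  Lgr Lrot128 (Lpe (f349002 IH) (Lpe (f348998 IH) (Lpe (f349024 IH) (Lpr_bf (f349027 IH) (Lpr_cf (f167395 IH) (Lpn (LP (LK LD1_c17 LD2_c36 LD3_c36))))))))
theorem f349036 : Led Lsl_et (LP (LK LD1_c17 LD2_c38 LD3_c39)) = (LP (LK LD1_c9 LD2_c34 LD3_c57)) :=
  Lre_e IH (LK LD1_c17 LD2_c38 LD3_c39) (LK LD1_c9 LD2_c34 LD3_c57) Lrfl Lrfl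
theorem f167417 : Led Lsl_et (LP (LK LD1_c17 LD2_c36 LD3_c36)) = (LP (LK LD1_c27 LD2_c24 LD3_c48)) :=
  Lre_e IH (LK LD1_c17 LD2_c36 LD3_c36) (LK LD1_c27 LD2_c24 LD3_c48) Lrfl Lrfl
theorem f349037 : Led Lsl_bf (LP (LK LD1_c17 LD2_c38 LD3_c39)) = (LP (LK LD1_c27 LD2_c24 LD3_c48)) :=
  Lgr Lrot96 (Lpr_et (f349036 IH) (Lpr_bt (f349031 IH) (Lpr_et (f167417 IH) (Lpn (LP (LK LD1_c27 LD2_c24 LD3_c48))))))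
theorem f349039 : Led Lsl_at (LP (LK LD1_c17 LD2_c38 LD3_c39)) = (LP (LK LD1_c9 LD2_c34 LD3_c59)) :=
  Lre_a IH (LK LD1_c17 LD2_c38 LD3_c39) (LK LD1_c9 LD2_c34 LD3_c59) Lrfl Lrfl
theorem f255760 : Led Lsl_bt (LP (LK LD1_c9 LD2_c34 LD3_c59)) = (LP (LK LD1_c4 LD2_c51 LD3_c28)) :=
  Lre_b IH (LK LD1_c9 LD2_c34 LD3_c59) (LK LD1_c4 LD2_c51 LD3_c28) Lrfl Lrfl
theorem f349040 : Led Lsl_at (LP (LK LD1_c17 LD2_c36 LD3_c38)) = (LP (LK LD1_c27 LD2_c24 LD3_c48)) :=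
  Lre_a IH (LK LD1_c17 LD2_c36 LD3_c38) (LK LD1_c27 LD2_c24 LD3_c48) Lrfl Lrfl
theorem f167386 : Led Lsl_bt (LP (LK LD1_c9 LD2_c33 LD3_c50)) = (LP (LK LD1_c17 LD2_c36 LD3_c38)) :=
  Lre_b IH (LK LD1_c9 LD2_c33 LD3_c50) (LK LD1_c17 LD2_c36 LD3_c38) Lrfl Lrfl
theorem f349041 : Led Lsl_at (LP (LK LD1_c4 LD2_c51 LD3_c28)) = (LP (LK LD1_c9 LD2_c33 LD3_c50)) :=
  Lgr Lrot67 (Lpe (f255760 IH) (Lpe (f349039 IH) (Lpr_bf (f349037 IH) (Lpe (f349040 IH) (Lpe (f167386 IH) (Lpn (LP (LK LD1_c9 LD2_c33 LD3_c50))))))))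
theorem f238110 : Led Lsl_dt (LP (LK LD1_c9 LD2_c35 LD3_c1)) = (LP (LK LD1_c4 LD2_c51 LD3_c28)) :=
  Lre_d IH (LK LD1_c9 LD2_c35 LD3_c1) (LK LD1_c4 LD2_c51 LD3_c28) Lrfl Lrfl
theorem f189403 : Led Lsl_dt (LP (LK LD1_c9 LD2_c33 LD3_c50)) = (LP (LK LD1_c17 LD2_c36 LD3_c41)) :=
  Lre_d IH (LK LD1_c9 LD2_c33 LD3_c50) (LK LD1_c17 LD2_c36 LD3_c41) Lrfl Lrfl
theorem f349050 : Led Lsl_af (LP (LK LD1_c9 LD2_c35 LD3_c1)) = (LP (LK LD1_c17 LD2_c36 LD3_c41)) :=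
  Lgr Lrot117 (Lpr_dt (f238110 IH) (Lpr_at (f349041 IH) (Lpr_dt (f189403 IH) (Lpn (LP (LK LD1_c17 LD2_c36 LD3_c41))))))
theorem f238197 : Led Lsl_ft (LP (LK LD1_c9 LD2_c35 LD3_c1)) = (LP (LK LD1_c17 LD2_c38 LD3_c55)) :=
  Lre_f IH (LK LD1_c9 LD2_c35 LD3_c1) (LK LD1_c17 LD2_c38 LD3_c55) Lrfl Lrfl
theorem f238168 : Led Lsl_dt (LP (LK LD1_c9 LD2_c35 LD3_c2)) = (LP (LK LD1_c17 LD2_c38 LD3_c55)) :=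
  Lre_d IH (LK LD1_c9 LD2_c35 LD3_c2) (LK LD1_c17 LD2_c38 LD3_c55) Lrfl Lrfl
theorem f305013 : Led Lsl_dt (LP (LK LD1_c26 LD2_c6 LD3_c24)) = (LP (LK LD1_c16 LD2_c9 LD3_c39)) :=
  Lre_d IH (LK LD1_c26 LD2_c6 LD3_c24) (LK LD1_c16 LD2_c9 LD3_c39) Lrfl Lrfl
theorem f305072 : Led Lsl_at (LP (LK LD1_c17 LD2_c38 LD3_c55)) = (LP (LK LD1_c26 LD2_c6 LD3_c24)) :=
  Lgr Lrot51 (Lpe (f238168 IH) (Lpr_af (K22.f305067 IH) (Lpe (f305013 IH) (Lpn (LP (LK LD1_c26 LD2_c6 LD3_c24))))))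
theorem f349056 : Led Lsl_ft (LP (LK LD1_c26 LD2_c6 LD3_c24)) = (LP (LK LD1_c17 LD2_c36 LD3_c41)) :=
  Lgr Lrot101 (Lpe (f305072 IH) (Lpe (f238197 IH) (Lpr_af (f349050 IH) (Lpn (LP (LK LD1_c17 LD2_c36 LD3_c41))))))
theorem f349058 : Led Lsl_ff (LP (LK LD1_c26 LD2_c6 LD3_c24)) = (LP (LK LD1_c17 LD2_c36 LD3_c41)) :=
  Lgr Lrot3 (Lpr_ft (f349056 IH) (Lpn (LP (LK LD1_c17 LD2_c36 LD3_c41))))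
theorem f349060 : Led Lsl_ft (LP (LK LD1_c16 LD2_c9 LD3_c39)) = (LP (LK LD1_c9 LD2_c33 LD3_c50)) :=
  Lgr Lrot54 (Lpe (f305013 IH) (Lpr_ff (f349058 IH) (Lpe (f189403 IH) (Lpn (LP (LK LD1_c9 LD2_c33 LD3_c50))))))
theorem f305071 : Led Lsl_bt (LP (LK LD1_c26 LD2_c6 LD3_c23)) = (LP (LK LD1_c16 LD2_c9 LD3_c39)) :=
  Lre_b IH (LK LD1_c26 LD2_c6 LD3_c23) (LK LD1_c16 LD2_c9 LD3_c39) Lrfl Lrfl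
theorem f349062 : Led Lsl_ff (LP (LK LD1_c26 LD2_c6 LD3_c23)) = (LP (LK LD1_c17 LD2_c36 LD3_c38)) :=
  Lgr Lrot25 (Lpr_bt (f305071 IH) (Lpr_ft (f349060 IH) (Lpr_bt (f167386 IH) (Lpn (LP (LK LD1_c17 LD2_c36 LD3_c38))))))
theorem f167400 : Led Lsl_et (LP (LK LD1_c9 LD2_c33 LD3_c48)) = (LP (LK LD1_c17 LD2_c36 LD3_c38)) :=
  Lre_e IH (LK LD1_c9 LD2_c33 LD3_c48) (LK LD1_c17 LD2_c36 LD3_c38) Lrfl Lrfl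
theorem f273 : Led Lsl_bt (LP (LK LD1_c2 LD2_c23 LD3_c25)) = (LP (LK LD1_c4 LD2_c51 LD3_c12)) :=
  Lre_b IH (LK LD1_c2 LD2_c23 LD3_c25) (LK LD1_c4 LD2_c51 LD3_c12) Lrfl Lrfl
theorem f327948 : Led Lsl_ft (LP (LK LD1_c4 LD2_c51 LD3_c12)) = (LP (LK LD1_c9 LD2_c33 LD3_c48)) :=
  Lgr Lrot75 (Lpe (f273 IH) (Lpr_ff (K21.f327946 IH) (Lpe (f167374 IH) (Lpn (LP (LK LD1_c9 LD2_c33 LD3_c48))))))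
theorem f349064 : Led Lsl_et (LP (LK LD1_c9 LD2_c34 LD3_c31)) = (LP (LK LD1_c4 LD2_c51 LD3_c12)) :=
  Lre_e IH (LK LD1_c9 LD2_c34 LD3_c31) (LK LD1_c4 LD2_c51 LD3_c12) Lrfl Lrfl
theorem f349065 : Led Lsl_ft (LP (LK LD1_c17 LD2_c38 LD3_c1)) = (LP (LK LD1_c9 LD2_c34 LD3_c31)) :=
  Lre_f IH (LK LD1_c17 LD2_c38 LD3_c1) (LK LD1_c9 LD2_c34 LD3_c31) Lrfl Lrfl
theorem f349066 : Led Lsl_et (LP (LK LD1_c26 LD2_c6 LD3_c23)) = (LP (LK LD1_c17 LD2_c38 LD3_c1)) :=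
  Lgr Lrot69 (Lpr_ff (f349062 IH) (Lpe (f167400 IH) (Lpe (f327948 IH) (Lpe (f349064 IH) (Lpe (f349065 IH) (Lpn (LP (LK LD1_c17 LD2_c38 LD3_c1))))))))
theorem f349072 : Led Lsl_ef (LP (LK LD1_c26 LD2_c6 LD3_c23)) = (LP (LK LD1_c17 LD2_c38 LD3_c1)) :=
  Lgr Lrot88 (Lpr_et (f349066 IH) (Lpn (LP (LK LD1_c17 LD2_c38 LD3_c1))))
theorem f349068 : Led Lsl_ft (LP (LK LD1_c26 LD2_c6 LD3_c23)) = (LP (LK LD1_c17 LD2_c36 LD3_c38)) :=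
  Lgr Lrot48 (Lpr_ff (f349062 IH) (Lpn (LP (LK LD1_c17 LD2_c36 LD3_c38))))
theorem f167414 : Led Lsl_et (LP (LK LD1_c17 LD2_c36 LD3_c38)) = (LP (LK LD1_c9 LD2_c33 LD3_c48)) :=
  Lre_e IH (LK LD1_c17 LD2_c36 LD3_c38) (LK LD1_c9 LD2_c33 LD3_c48) Lrfl Lrfl
theorem f349077 : Led Lsl_ft (LP (LK LD1_c9 LD2_c34 LD3_c31)) = (LP (LK LD1_c17 LD2_c38 LD3_c1)) :=
  Lre_f IH (LK LD1_c9 LD2_c34 LD3_c31) (LK LD1_c17 LD2_c38 LD3_c1) Lrfl Lrfl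
theorem f349078 : Led Lsl_et (LP (LK LD1_c4 LD2_c51 LD3_c12)) = (LP (LK LD1_c9 LD2_c34 LD3_c31)) :=
  Lre_e IH (LK LD1_c4 LD2_c51 LD3_c12) (LK LD1_c9 LD2_c34 LD3_c31) Lrfl Lrfl
theorem f349079 : Led Lsl_ft (LP (LK LD1_c9 LD2_c33 LD3_c48)) = (LP (LK LD1_c4 LD2_c51 LD3_c12)) :=
  Lgr Lrot86 (Lpe (f167414 IH) (Lpe (f349068 IH) (Lpr_ef (f349072 IH) (Lpe (f349077 IH) (Lpe (f349078 IH) (Lpn (LP (LK LD1_c4 LD2_c51 LD3_c12))))))))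
theorem f255627 : Led Lsl_ct (LP (LK LD1_c4 LD2_c51 LD3_c12)) = (LP (LK LD1_c9 LD2_c34 LD3_c5)) :=
  Lre_c IH (LK LD1_c4 LD2_c51 LD3_c12) (LK LD1_c9 LD2_c34 LD3_c5) Lrfl Lrfl
theorem f349083 : Led Lsl_ff (LP (LK LD1_c15 LD2_c51 LD3_c28)) = (LP (LK LD1_c9 LD2_c34 LD3_c5)) :=
  Lgr Lrot23 (Lpr_ct (f167375 IH) (Lpr_ft (f349079 IH) (Lpr_ct (f255627 IH) (Lpn (LP (LK LD1_c9 LD2_c34 LD3_c5))))))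
theorem f349101 : Led Lsl_ft (LP (LK LD1_c15 LD2_c51 LD3_c28)) = (LP (LK LD1_c9 LD2_c34 LD3_c5)) :=
  Lgr Lrot48 (Lpr_ff (f349083 IH) (Lpn (LP (LK LD1_c9 LD2_c34 LD3_c5))))
theorem f295085 : Led Lsl_bt (LP (LK LD1_c9 LD2_c34 LD3_c5)) = (LP (LK LD1_c4 LD2_c51 LD3_c1)) :=
  Lre_b IH (LK LD1_c9 LD2_c34 LD3_c5) (LK LD1_c4 LD2_c51 LD3_c1) Lrfl Lrfl
theorem f349108 : Led Lsl_ff (LP (LK LD1_c8 LD2_c26 LD3_c42)) = (LP (LK LD1_c4 LD2_c51 LD3_c1)) :=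
  Lgr Lrot25 (Lpr_bt (f167372 IH) (Lpr_ft (f349101 IH) (Lpr_bt (f295085 IH) (Lpn (LP (LK LD1_c4 LD2_c51 LD3_c1))))))
theorem f295083 : Led Lsl_df (LP (LK LD1_c4 LD2_c51 LD3_c1)) = (LP (LK LD1_c8 LD2_c30 LD3_c7)) :=
  Lgr Lrot155 (Lpr_gt (K18.f295077 IH) (Lpr_ct (K16.f178842 IH) (Lpe (K13.f236220 IH) (Lpr_ct (K15.f51600 IH) (Lpr_dt (K15.f187234 IH) (Lpe (K13.f245030 IH) (Lpe (K18.f261474 IH) (Lpe (K18.f51916 IH) (Lpe (K18.f51932 IH) (Lpn (LP (LK LD1_c8 LD2_c30 LD3_c7))))))))))))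
theorem f349117 : Led Lsl_ft (LP (LK LD1_c4 LD2_c16 LD3_c34)) = (LP (LK LD1_c8 LD2_c30 LD3_c7)) :=
  Lgr Lrot54 (Lpe (K15.f243304 IH) (Lpr_ff (f349108 IH) (Lpr_df (f295083 IH) (Lpn (LP (LK LD1_c8 LD2_c30 LD3_c7))))))
theorem f349125 : Led Lsl_af (LP (LK LD1_c4 LD2_c16 LD3_c33)) = (LP (LK LD1_c8 LD2_c30 LD3_c7)) :=
  Lgr Lrot31 (Lpe (K16.f1024 IH) (Lpe (K12.f1021 IH) (Lpr_ft (f349117 IH) (Lpn (LP (LK LD1_c8 LD2_c30 LD3_c7))))))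
theorem f349129 : Led Lsl_at (LP (LK LD1_c8 LD2_c26 LD3_c45)) = (LP (LK LD1_c9 LD2_c41 LD3_c45)) :=
  Lgr Lrot107 (Lpr_cf (K15.f188954 IH) (Lpr_af (f349125 IH) (Lpr_cf (K18.f295117 IH) (Lpn (LP (LK LD1_c9 LD2_c41 LD3_c45))))))
theorem f349146 : Led Lsl_ff (LP (LK LD1_c8 LD2_c26 LD3_c45)) = (LP (LK LD1_c10 LD2_c19 LD3_c26)) :=
  Lgr Lrot52 (Lpr_at (f349129 IH) (Lpr_gf (K18.f295286 IH) (Lpr_gf (K18.f282831 IH) (Lpn (LP (LK LD1_c10 LD2_c19 LD3_c26))))))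
theorem f349154 : Led Lsl_ft (LP (LK LD1_c8 LD2_c26 LD3_c45)) = (LP (LK LD1_c10 LD2_c19 LD3_c26)) :=
  Lgr Lrot48 (Lpr_ff (f349146 IH) (Lpn (LP (LK LD1_c10 LD2_c19 LD3_c26))))
theorem f349160 : Led Lsl_af (LP (LK LD1_c8 LD2_c26 LD3_c36)) = (LP (LK LD1_c10 LD2_c19 LD3_c26)) :=
  Lgr Lrot31 (Lpr_gf (K12.f188900 IH) (Lpe (K16.f189063 IH) (Lpr_ft (f349154 IH) (Lpn (LP (LK LD1_c10 LD2_c19 LD3_c26))))))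
theorem f349141 : Led Lsl_af (LP (LK LD1_c8 LD2_c26 LD3_c45)) = (LP (LK LD1_c9 LD2_c41 LD3_c45)) :=
  Lgr Lrot0 (Lpr_at (f349129 IH) (Lpn (LP (LK LD1_c9 LD2_c41 LD3_c45))))
theorem f349164 : Led Lsl_ft (LP (LK LD1_c8 LD2_c26 LD3_c36)) = (LP (LK LD1_c9 LD2_c41 LD3_c45)) :=
  Lgr Lrot101 (Lpr_af (f349160 IH) (Lpe (f349154 IH) (Lpr_af (f349141 IH) (Lpn (LP (LK LD1_c9 LD2_c41 LD3_c45))))))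
theorem f349166 : Led Lsl_ff (LP (LK LD1_c4 LD2_c13 LD3_c61)) = (LP (LK LD1_c4 LD2_c55 LD3_c6)) :=
  Lgr Lrot19 (Lpr_dt (K13.f188910 IH) (Lpr_ft (f349164 IH) (Lpr_dt (K19.f219084 IH) (Lpn (LP (LK LD1_c4 LD2_c55 LD3_c6))))))
theorem f349172 : Led Lsl_ft (LP (LK LD1_c4 LD2_c13 LD3_c61)) = (LP (LK LD1_c4 LD2_c55 LD3_c6)) :=
  Lgr Lrot48 (Lpr_ff (f349166 IH) (Lpn (LP (LK LD1_c4 LD2_c55 LD3_c6))))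
theorem f219090 : Led Lsl_bt (LP (LK LD1_c4 LD2_c55 LD3_c6)) = (LP (LK LD1_c9 LD2_c41 LD3_c44)) :=
  Lre_b IH (LK LD1_c4 LD2_c55 LD3_c6) (LK LD1_c9 LD2_c41 LD3_c44) Lrfl Lrfl
theorem f349176 : Led Lsl_ff (LP (LK LD1_c8 LD2_c26 LD3_c35)) = (LP (LK LD1_c9 LD2_c41 LD3_c44)) :=
  Lgr Lrot25 (Lpr_bt (K16.f188562 IH) (Lpr_ft (f349172 IH) (Lpr_bt (f219090 IH) (Lpn (LP (LK LD1_c9 LD2_c41 LD3_c44))))))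
theorem f188705 : Led Lsl_cf (LP (LK LD1_c9 LD2_c40 LD3_c36)) = (LP (LK LD1_c8 LD2_c26 LD3_c35)) :=
  Lgr Lrot11 (Lpr_ct (K16.f188563 IH) (Lpn (LP (LK LD1_c8 LD2_c26 LD3_c35))))
theorem f263733 : Led Lsl_ct (LP (LK LD1_c4 LD2_c55 LD3_c11)) = (LP (LK LD1_c9 LD2_c41 LD3_c44)) :=
  Lre_c IH (LK LD1_c4 LD2_c55 LD3_c11) (LK LD1_c9 LD2_c41 LD3_c44) Lrfl Lrfl
theorem f349178 : Led Lsl_ft (LP (LK LD1_c9 LD2_c40 LD3_c36)) = (LP (LK LD1_c4 LD2_c55 LD3_c11)) :=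
  Lgr Lrot4 (Lpr_cf (f188705 IH) (Lpr_ff (f349176 IH) (Lpe (f263733 IH) (Lpn (LP (LK LD1_c4 LD2_c55 LD3_c11))))))
theorem f349188 : Led Lsl_ff (LP (LK LD1_c9 LD2_c40 LD3_c36)) = (LP (LK LD1_c4 LD2_c55 LD3_c11)) :=
  Lgr Lrot3 (Lpr_ft (f349178 IH) (Lpn (LP (LK LD1_c4 LD2_c55 LD3_c11))))
theorem f218575 : Led Lsl_bt (LP (LK LD1_c2 LD2_c25 LD3_c30)) = (LP (LK LD1_c4 LD2_c55 LD3_c11)) :=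
  Lre_b IH (LK LD1_c2 LD2_c25 LD3_c30) (LK LD1_c4 LD2_c55 LD3_c11) Lrfl Lrfl
theorem f349200 : Led Lsl_ft (LP (LK LD1_c4 LD2_c54 LD3_c30)) = (LP (LK LD1_c2 LD2_c25 LD3_c30)) :=
  Lgr Lrot75 (Lpe (K16.f188711 IH) (Lpr_ff (f349188 IH) (Lpe (f218575 IH) (Lpn (LP (LK LD1_c2 LD2_c25 LD3_c30))))))
theorem f349215 : Led Lsl_ff (LP (LK LD1_c2 LD2_c25 LD3_c8)) = (LP (LK LD1_c1 LD2_c9 LD3_c59)) :=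
  Lgr Lrot23 (Lpr_ct (K12.f41909 IH) (Lpr_ft (f349200 IH) (Lpr_ct (K15.f218574 IH) (Lpn (LP (LK LD1_c1 LD2_c9 LD3_c59))))))
theorem f349217 : Led Lsl_ft (LP (LK LD1_c2 LD2_c25 LD3_c8)) = (LP (LK LD1_c1 LD2_c9 LD3_c59)) :=
  Lgr Lrot48 (Lpr_ff (f349215 IH) (Lpn (LP (LK LD1_c1 LD2_c9 LD3_c59))))
theorem f358562 : Led Lsl_ff (LP (LK LD1_c4 LD2_c54 LD3_c31)) = (LP (LK LD1_c9 LD2_c0 LD3_c3)) :=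
  Lgr Lrot72 (Lpr_et (K25.f187326 IH) (Lpr_ft (f349217 IH) (Lpr_et (K19.f307096 IH) (Lpr_ft (f307102 IH) (Lpr_et (f358552 IH) (Lpn (LP (LK LD1_c9 LD2_c0 LD3_c3))))))))
theorem f325031 : Led Lsl_at (LP (LK LD1_c4 LD2_c54 LD3_c31)) = (LP (LK LD1_c2 LD2_c25 LD3_c22)) :=
  Lgr Lrot51 (Lpr_df (K10.f187317 IH) (Lpr_af (K21.f325025 IH) (Lpe (K25.f213929 IH) (Lpn (LP (LK LD1_c2 LD2_c25 LD3_c22))))))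
theorem f331011 : Led Lsl_ft (LP (LK LD1_c2 LD2_c25 LD3_c22)) = (LP (LK LD1_c4 LD2_c55 LD3_c1)) :=
  Lre_f IH (LK LD1_c2 LD2_c25 LD3_c22) (LK LD1_c4 LD2_c55 LD3_c1) Lrfl Lrfl
theorem f358622 : Led Lsl_at (LP (LK LD1_c4 LD2_c55 LD3_c1)) = (LP (LK LD1_c9 LD2_c0 LD3_c3)) :=
  Lgr Lrot66 (Lpe (f331011 IH) (Lpe (f325031 IH) (Lpr_ff (f358562 IH) (Lpn (LP (LK LD1_c9 LD2_c0 LD3_c3))))))
theorem f358668 : Led Lsl_gt (LP (LK LD1_c4 LD2_c54 LD3_c61)) = (LP (LK LD1_c9 LD2_c0 LD3_c3)) :=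
  Lgr Lrot46 (Lpe (K25.f214083 IH) (Lpr_ft (f331011 IH) (Lpr_at (f358622 IH) (Lpn (LP (LK LD1_c9 LD2_c0 LD3_c3))))))
theorem f167901 : Led Lsl_at (LP (LK LD1_c9 LD2_c0 LD3_c4)) = (LP (LK LD1_c4 LD2_c30 LD3_c60)) :=
  Lre_a IH (LK LD1_c9 LD2_c0 LD3_c4) (LK LD1_c4 LD2_c30 LD3_c60) Lrfl Lrfl
theorem f358670 : Led Lsl_ft (LP (LK LD1_c4 LD2_c54 LD3_c61)) = (LP (LK LD1_c9 LD2_c0 LD3_c4)) :=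
  Lgr Lrot2 (Lpr_gt (f358668 IH) (Lpr_gt (f167900 IH) (Lpe (f167901 IH) (Lpn (LP (LK LD1_c9 LD2_c0 LD3_c4))))))
theorem f358676 : Led Lsl_ff (LP (LK LD1_c4 LD2_c54 LD3_c61)) = (LP (LK LD1_c9 LD2_c0 LD3_c4)) :=
  Lgr Lrot3 (Lpr_ft (f358670 IH) (Lpn (LP (LK LD1_c9 LD2_c0 LD3_c4))))
theorem f356274 : Led Lsl_bf (LP (LK LD1_c7 LD2_c57 LD3_c61)) = (LP (LK LD1_c4 LD2_c54 LD3_c61)) :=
  Lgr Lrot34 (Lpe (K25.f47982 IH) (Lpe (K25.f187258 IH) (Lpr_ct (K25.f187262 IH) (Lpr_gf (K25.f316535 IH) (Lpe (K25.f42381 IH) (Lpe (K22.f311253 IH) (Lpe (K19.f310934 IH) (Lpr_ct (K24.f182860 IH) (Lpr_gf (K25.f356269 IH) (Lpe (K25.f291812 IH) (Lpn (LP (LK LD1_c4 LD2_c54 LD3_c61)))))))))))))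
theorem f356337 : Led Lsl_ct (LP (LK LD1_c15 LD2_c1 LD3_c44)) = (LP (LK LD1_c7 LD2_c57 LD3_c61)) :=
  Lre_c IH (LK LD1_c15 LD2_c1 LD3_c44) (LK LD1_c7 LD2_c57 LD3_c61) Lrfl Lrfl
theorem f356359 : Led Lsl_ct (LP (LK LD1_c5 LD2_c36 LD3_c56)) = (LP (LK LD1_c11 LD2_c5 LD3_c60)) :=
  Lre_c IH (LK LD1_c5 LD2_c36 LD3_c56) (LK LD1_c11 LD2_c5 LD3_c60) Lrfl Lrfl
theorem f356360 : Led Lsl_ft (LP (LK LD1_c7 LD2_c57 LD3_c61)) = (LP (LK LD1_c5 LD2_c36 LD3_c56)) :=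
  Lgr Lrot4 (Lpe (f356337 IH) (Lpr_ff (K25.f356352 IH) (Lpe (f356359 IH) (Lpn (LP (LK LD1_c5 LD2_c36 LD3_c56))))))
theorem f358678 : Led Lsl_bt (LP (LK LD1_c5 LD2_c36 LD3_c56)) = (LP (LK LD1_c9 LD2_c0 LD3_c4)) :=
  Lgr Lrot35 (Lpe (f356360 IH) (Lpr_bf (f356274 IH) (Lpr_ff (f358676 IH) (Lpn (LP (LK LD1_c9 LD2_c0 LD3_c4))))))
theorem f351961 : Led Lsl_et (LP (LK LD1_c11 LD2_c5 LD3_c61)) = (LP (LK LD1_c5 LD2_c36 LD3_c56)) :=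
  Lre_e IH (LK LD1_c11 LD2_c5 LD3_c61) (LK LD1_c5 LD2_c36 LD3_c56) Lrfl Lrfl
theorem f358675 : Led Lsl_et (LP (LK LD1_c9 LD2_c0 LD3_c4)) = (LP (LK LD1_c16 LD2_c49 LD3_c34)) :=
  Lre_e IH (LK LD1_c9 LD2_c0 LD3_c4) (LK LD1_c16 LD2_c49 LD3_c34) Lrfl Lrfl
theorem f358683 : Led Lsl_bf (LP (LK LD1_c11 LD2_c5 LD3_c61)) = (LP (LK LD1_c16 LD2_c49 LD3_c34)) :=
  Lgr Lrot96 (Lpr_et (f351961 IH) (Lpr_bt (f358678 IH) (Lpr_et (f358675 IH) (Lpn (LP (LK LD1_c16 LD2_c49 LD3_c34))))))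
theorem f358687 : Led Lsl_bt (LP (LK LD1_c11 LD2_c5 LD3_c61)) = (LP (LK LD1_c16 LD2_c49 LD3_c34)) :=
  Lgr Lrot127 (Lpr_bf (f358683 IH) (Lpn (LP (LK LD1_c16 LD2_c49 LD3_c34))))
theorem f351964 : Led Lsl_at (LP (LK LD1_c5 LD2_c36 LD3_c58)) = (LP (LK LD1_c11 LD2_c5 LD3_c61)) :=
  Lre_a IH (LK LD1_c5 LD2_c36 LD3_c58) (LK LD1_c11 LD2_c5 LD3_c61) Lrfl Lrfl
theorem f351950 : Led Lsl_bt (LP (LK LD1_c2 LD2_c44 LD3_c21)) = (LP (LK LD1_c5 LD2_c36 LD3_c58)) :=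
  Lre_b IH (LK LD1_c2 LD2_c44 LD3_c21) (LK LD1_c5 LD2_c36 LD3_c58) Lrfl Lrfl
theorem f169044 : Led Lsl_at (LP (LK LD1_c16 LD2_c49 LD3_c34)) = (LP (LK LD1_c9 LD2_c0 LD3_c6)) :=
  Lre_a IH (LK LD1_c16 LD2_c49 LD3_c34) (LK LD1_c9 LD2_c0 LD3_c6) Lrfl Lrfl
theorem f358689 : Led Lsl_af (LP (LK LD1_c2 LD2_c44 LD3_c21)) = (LP (LK LD1_c4 LD2_c30 LD3_c61)) :=
  Lgr Lrot36 (Lpr_bt (f351950 IH) (Lpr_at (f351964 IH) (Lpr_bt (f358687 IH) (Lpr_at (f169044 IH) (Lpr_bt (f169027 IH) (Lpn (LP (LK LD1_c4 LD2_c30 LD3_c61))))))))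
theorem f277646 : Led Lsl_et (LP (LK LD1_c19 LD2_c4 LD3_c43)) = (LP (LK LD1_c10 LD2_c31 LD3_c50)) :=
  Lre_e IH (LK LD1_c19 LD2_c4 LD3_c43) (LK LD1_c10 LD2_c31 LD3_c50) Lrfl Lrfl
theorem f357485 : Led Lsl_et (LP (LK LD1_c10 LD2_c41 LD3_c2)) = (LP (LK LD1_c19 LD2_c20 LD3_c37)) :=
  Lre_e IH (LK LD1_c10 LD2_c41 LD3_c2) (LK LD1_c19 LD2_c20 LD3_c37) Lrfl Lrfl
theorem f357492 : Led Lsl_cf (LP (LK LD1_c19 LD2_c4 LD3_c43)) = (LP (LK LD1_c19 LD2_c20 LD3_c37)) :=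
  Lgr Lrot39 (Lpr_et (f277646 IH) (Lpr_ct (K25.f357488 IH) (Lpr_et (f357485 IH) (Lpn (LP (LK LD1_c19 LD2_c20 LD3_c37))))))
theorem f246415 : Led Lsl_dt (LP (LK LD1_c4 LD2_c55 LD3_c17)) = (LP (LK LD1_c9 LD2_c41 LD3_c30)) :=
  Lgr Lrot42 (Lpr_df (K14.f246405 IH) (Lpn (LP (LK LD1_c9 LD2_c41 LD3_c30))))
theorem f246413 : Led Lsl_ct (LP (LK LD1_c8 LD2_c25 LD3_c47)) = (LP (LK LD1_c9 LD2_c41 LD3_c30)) :=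
  Lgr Lrot176 (Lpe (K12.f51209 IH) (Lpe (K12.f27698 IH) (Lpe (K0.f27724 IH) (Lpe (K12.f44564 IH) (Lpe (K9.f30858 IH) (Lpe (K9.f30880 IH) (Lpe (K12.f30904 IH) (Lpe (K15.f223811 IH) (Lpr_df (K12.f224548 IH) (Lpr_cf (K12.f224435 IH) (Lpe (K13.f214015 IH) (Lpe (K14.f223878 IH) (Lpe (K12.f196585 IH) (Lpr_cf (K12.f217302 IH) (Lpr_df (K14.f246405 IH) (Lpn (LP (LK LD1_c9 LD2_c41 LD3_c30))))))))))))))))))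
theorem f277640 : Led Lsl_gt (LP (LK LD1_c5 LD2_c22 LD3_c59)) = (LP (LK LD1_c5 LD2_c20 LD3_c51)) :=
  Lgr Lrot94 (Lpr_cf (K16.f277631 IH) (Lpr_gt (K15.f246426 IH) (Lpr_dt (K16.f217345 IH) (Lpr_gt (K12.f168112 IH) (Lpr_dt (f246415 IH) (Lpe (f246413 IH) (Lpe (K12.f51209 IH) (Lpe (K12.f223748 IH) (Lpe (K12.f42174 IH) (Lpn (LP (LK LD1_c5 LD2_c20 LD3_c51))))))))))))
theorem f220740 : Led Lsl_dt (LP (LK LD1_c2 LD2_c37 LD3_c61)) = (LP (LK LD1_c5 LD2_c22 LD3_c59)) :=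
  Lre_d IH (LK LD1_c2 LD2_c37 LD3_c61) (LK LD1_c5 LD2_c22 LD3_c59) Lrfl Lrfl
theorem f221612 : Led Lsl_gt (LP (LK LD1_c10 LD2_c38 LD3_c14)) = (LP (LK LD1_c5 LD2_c23 LD3_c48)) :=
  Lre_g IH (LK LD1_c10 LD2_c38 LD3_c14) (LK LD1_c5 LD2_c23 LD3_c48) Lrfl Lrfl
theorem f277647 : Led Lsl_df (LP (LK LD1_c10 LD2_c38 LD3_c14)) = (LP (LK LD1_c19 LD2_c4 LD3_c43)) :=
  Lgr Lrot170 (Lpr_gt (f221612 IH) (Lpe (K18.f221611 IH) (Lpr_et (K25.f221610 IH) (Lpe (K15.f221599 IH) (Lpr_dt (f220740 IH) (Lpr_gt (f277640 IH) (Lpe (K12.f42164 IH) (Lpr_et (K20.f264035 IH) (Lpr_gt (K25.f168700 IH) (Lpe (f277646 IH) (Lpn (LP (LK LD1_c19 LD2_c4 LD3_c43)))))))))))))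
theorem f277655 : Led Lsl_dt (LP (LK LD1_c10 LD2_c38 LD3_c14)) = (LP (LK LD1_c19 LD2_c4 LD3_c43)) :=
  Lgr Lrot42 (Lpr_df (f277647 IH) (Lpn (LP (LK LD1_c19 LD2_c4 LD3_c43))))
theorem f303117 : Led Lsl_gf (LP (LK LD1_c10 LD2_c38 LD3_c14)) = (LP (LK LD1_c19 LD2_c4 LD3_c20)) :=
  Lgr Lrot47 (Lpr_gt (f221612 IH) (Lpr_af (K18.f303101 IH) (Lpe (K18.f184282 IH) (Lpn (LP (LK LD1_c19 LD2_c4 LD3_c20))))))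
theorem f303030 : Led Lsl_gt (LP (LK LD1_c5 LD2_c23 LD3_c46)) = (LP (LK LD1_c10 LD2_c31 LD3_c23)) :=
  Lgr Lrot46 (Lpe (K24.f217756 IH) (Lpr_ft (K18.f303026 IH) (Lpr_at (K18.f303019 IH) (Lpn (LP (LK LD1_c10 LD2_c31 LD3_c23))))))
theorem f303033 : Led Lsl_ct (LP (LK LD1_c5 LD2_c23 LD3_c46)) = (LP (LK LD1_c10 LD2_c38 LD3_c8)) :=
  Lre_c IH (LK LD1_c5 LD2_c23 LD3_c46) (LK LD1_c10 LD2_c38 LD3_c8) Lrfl Lrfl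
theorem f309856 : Led Lsl_et (LP (LK LD1_c19 LD2_c23 LD3_c22)) = (LP (LK LD1_c10 LD2_c42 LD3_c35)) :=
  Lre_e IH (LK LD1_c19 LD2_c23 LD3_c22) (LK LD1_c10 LD2_c42 LD3_c35) Lrfl Lrfl
theorem f345601 : Led Lsl_gt (LP (LK LD1_c15 LD2_c45 LD3_c5)) = (LP (LK LD1_c9 LD2_c33 LD3_c51)) :=
  Lgr Lrot112 (Lpr_df (K25.f345589 IH) (Lpr_et (f309856 IH) (Lpe (K21.f310391 IH) (Lpe (K12.f191028 IH) (Lpr_dt (K11.f190985 IH) (Lpr_gf (K12.f214099 IH) (Lpe (K14.f27711 IH) (Lpe (K15.f261321 IH) (Lpe (K19.f216464 IH) (Lpr_dt (K19.f216435 IH) (Lpn (LP (LK LD1_c9 LD2_c33 LD3_c51)))))))))))))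
theorem f344310 : Led Lsl_ct (LP (LK LD1_c15 LD2_c45 LD3_c9)) = (LP (LK LD1_c25 LD2_c41 LD3_c53)) :=
  Lre_c IH (LK LD1_c15 LD2_c45 LD3_c9) (LK LD1_c25 LD2_c41 LD3_c53) Lrfl Lrfl
theorem f192401 : Led Lsl_cf (LP (LK LD1_c10 LD2_c32 LD3_c34)) = (LP (LK LD1_c9 LD2_c33 LD3_c51)) :=
  Lgr Lrot11 (Lpr_ct (K20.f192392 IH) (Lpn (LP (LK LD1_c9 LD2_c33 LD3_c51))))
theorem f192403 : Led Lsl_dt (LP (LK LD1_c19 LD2_c5 LD3_c41)) = (LP (LK LD1_c10 LD2_c32 LD3_c34)) :=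
  Lre_d IH (LK LD1_c19 LD2_c5 LD3_c41) (LK LD1_c10 LD2_c32 LD3_c34) Lrfl Lrfl
theorem f192404 : Led Lsl_ct (LP (LK LD1_c28 LD2_c31 LD3_c14)) = (LP (LK LD1_c19 LD2_c5 LD3_c41)) :=
  Lre_c IH (LK LD1_c28 LD2_c31 LD3_c14) (LK LD1_c19 LD2_c5 LD3_c41) Lrfl Lrfl
theorem f345603 : Led Lsl_gt (LP (LK LD1_c25 LD2_c41 LD3_c53)) = (LP (LK LD1_c28 LD2_c31 LD3_c14)) :=
  Lgr Lrot150 (Lpe (f344310 IH) (Lpe (K23.f316494 IH) (Lpe (K21.f215497 IH) (Lpr_gt (K25.f215541 IH) (Lpr_ct (K25.f287786 IH) (Lpr_gt (f345601 IH) (Lpe (f192401 IH) (Lpe (f192403 IH) (Lpe (f192404 IH) (Lpn (LP (LK LD1_c28 LD2_c31 LD3_c14))))))))))))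
theorem f303062 : Led Lsl_ct (LP (LK LD1_c10 LD2_c38 LD3_c28)) = (LP (LK LD1_c19 LD2_c16 LD3_c42)) :=
  Lre_c IH (LK LD1_c10 LD2_c38 LD3_c28) (LK LD1_c19 LD2_c16 LD3_c42) Lrfl Lrfl
theorem f303054 : Led Lsl_dt (LP (LK LD1_c19 LD2_c16 LD3_c42)) = (LP (LK LD1_c28 LD2_c30 LD3_c38)) :=
  Lgr Lrot42 (Lpr_df (K18.f303052 IH) (Lpn (LP (LK LD1_c28 LD2_c30 LD3_c38))))
theorem f228462 : Led Lsl_ct (LP (LK LD1_c19 LD2_c16 LD3_c9)) = (LP (LK LD1_c10 LD2_c38 LD3_c13)) :=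
  Lre_c IH (LK LD1_c19 LD2_c16 LD3_c9) (LK LD1_c10 LD2_c38 LD3_c13) Lrfl Lrfl
theorem f228463 : Led Lsl_gt (LP (LK LD1_c28 LD2_c42 LD3_c8)) = (LP (LK LD1_c19 LD2_c16 LD3_c9)) :=
  Lre_g IH (LK LD1_c28 LD2_c42 LD3_c8) (LK LD1_c19 LD2_c16 LD3_c9) Lrfl Lrfl
theorem f345608 : Led Lsl_df (LP (LK LD1_c25 LD2_c41 LD3_c53)) = (LP (LK LD1_c28 LD2_c42 LD3_c8)) :=
  Lgr Lrot155 (Lpr_gt (f345603 IH) (Lpr_ct (f192404 IH) (Lpr_gt (K20.f309146 IH) (Lpr_ct (f303062 IH) (Lpr_dt (f303054 IH) (Lpe (K18.f184287 IH) (Lpe (K25.f303103 IH) (Lpe (f228462 IH) (Lpe (f228463 IH) (Lpn (LP (LK LD1_c28 LD2_c42 LD3_c8))))))))))))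
theorem f344311 : Led Lsl_ct (LP (LK LD1_c25 LD2_c41 LD3_c53)) = (LP (LK LD1_c15 LD2_c45 LD3_c9)) :=
  Lre_c IH (LK LD1_c25 LD2_c41 LD3_c53) (LK LD1_c15 LD2_c45 LD3_c9) Lrfl Lrfl
theorem f344482 : Led Lsl_ft (LP (LK LD1_c15 LD2_c45 LD3_c8)) = (LP (LK LD1_c25 LD2_c40 LD3_c56)) :=
  Lgr Lrot54 (Lpr_df (K21.f287773 IH) (Lpe (K23.f287780 IH) (Lpr_df (K23.f344476 IH) (Lpn (LP (LK LD1_c25 LD2_c40 LD3_c56))))))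
theorem f344348 : Led Lsl_ff (LP (LK LD1_c15 LD2_c43 LD3_c37)) = (LP (LK LD1_c15 LD2_c45 LD3_c9)) :=
  Lgr Lrot19 (Lpr_dt (K20.f167122 IH) (Lpr_ft (K23.f167147 IH) (Lpr_dt (K23.f344308 IH) (Lpn (LP (LK LD1_c15 LD2_c45 LD3_c9))))))
theorem f344486 : Led Lsl_af (LP (LK LD1_c15 LD2_c45 LD3_c9)) = (LP (LK LD1_c25 LD2_c40 LD3_c56)) :=
  Lgr Lrot45 (Lpe (f344348 IH) (Lpr_at (K23.f344468 IH) (Lpr_ft (f344482 IH) (Lpn (LP (LK LD1_c25 LD2_c40 LD3_c56))))))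
theorem f229592 : Led Lsl_ct (LP (LK LD1_c15 LD2_c36 LD3_c42)) = (LP (LK LD1_c8 LD2_c18 LD3_c6)) :=
  Lre_c IH (LK LD1_c15 LD2_c36 LD3_c42) (LK LD1_c8 LD2_c18 LD3_c6) Lrfl Lrfl
theorem f184271 : Led Lsl_ct (LP (LK LD1_c8 LD2_c32 LD3_c55)) = (LP (LK LD1_c16 LD2_c2 LD3_c56)) :=
  Lre_c IH (LK LD1_c8 LD2_c32 LD3_c55) (LK LD1_c16 LD2_c2 LD3_c56) Lrfl Lrfl
theorem f215509 : Led Lsl_dt (LP (LK LD1_c25 LD2_c40 LD3_c58)) = (LP (LK LD1_c15 LD2_c44 LD3_c35)) :=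
  Lre_d IH (LK LD1_c25 LD2_c40 LD3_c58) (LK LD1_c15 LD2_c44 LD3_c35) Lrfl Lrfl
theorem f287782 : Led Lsl_gt (LP (LK LD1_c16 LD2_c2 LD3_c56)) = (LP (LK LD1_c8 LD2_c33 LD3_c2)) :=
  Lgr Lrot94 (Lpe (f184271 IH) (Lpr_gt (K20.f184270 IH) (Lpr_dt (K15.f184252 IH) (Lpr_gt (K17.f169187 IH) (Lpr_dt (K17.f215491 IH) (Lpe (K19.f215508 IH) (Lpe (f215509 IH) (Lpe (K21.f215510 IH) (Lpr_df (K21.f287773 IH) (Lpn (LP (LK LD1_c8 LD2_c33 LD3_c2))))))))))))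
theorem f300924 : Led Lsl_cf (LP (LK LD1_c14 LD2_c58 LD3_c10)) = (LP (LK LD1_c8 LD2_c33 LD3_c2)) :=
  Lgr Lrot99 (Lpr_df (K22.f229590 IH) (Lpe (f229592 IH) (Lpr_gf (K18.f300922 IH) (Lpe (K18.f167692 IH) (Lpr_gf (K18.f300902 IH) (Lpe (K18.f300884 IH) (Lpe (K22.f300882 IH) (Lpr_ct (f184271 IH) (Lpr_gt (f287782 IH) (Lpn (LP (LK LD1_c8 LD2_c33 LD3_c2))))))))))))
theorem f345610 : Led Lsl_ct (LP (LK LD1_c25 LD2_c31 LD3_c17)) = (LP (LK LD1_c28 LD2_c42 LD3_c8)) :=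
  Lgr Lrot53 (Lpe (K23.f221775 IH) (Lpe (K18.f229589 IH) (Lpe (K19.f229583 IH) (Lpr_cf (f300924 IH) (Lpe (K23.f287777 IH) (Lpr_ft (f344482 IH) (Lpe (f344486 IH) (Lpe (f344311 IH) (Lpr_df (f345608 IH) (Lpn (LP (LK LD1_c28 LD2_c42 LD3_c8))))))))))))
theorem f339505 : Led Lsl_af (LP (LK LD1_c9 LD2_c41 LD3_c50)) = (LP (LK LD1_c15 LD2_c36 LD3_c42)) :=
  Lgr Lrot68 (Lpr_ct (K21.f171931 IH) (Lpr_at (K22.f339501 IH) (Lpr_ct (K18.f229589 IH) (Lpn (LP (LK LD1_c15 LD2_c36 LD3_c42))))))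
theorem f326368 : Led Lsl_ft (LP (LK LD1_c10 LD2_c38 LD3_c17)) = (LP (LK LD1_c15 LD2_c36 LD3_c42)) :=
  Lgr Lrot4 (Lpe (K21.f326349 IH) (Lpr_ff (K21.f326366 IH) (Lpe (f229592 IH) (Lpn (LP (LK LD1_c15 LD2_c36 LD3_c42))))))
theorem f344249 : Led Lsl_af (LP (LK LD1_c10 LD2_c38 LD3_c17)) = (LP (LK LD1_c15 LD2_c45 LD3_c21)) :=
  Lgr Lrot45 (Lpr_ft (f326368 IH) (Lpe (f339505 IH) (Lpr_ft (K23.f344247 IH) (Lpn (LP (LK LD1_c15 LD2_c45 LD3_c21))))))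
theorem f258405 : Led Lsl_dt (LP (LK LD1_c25 LD2_c42 LD3_c4)) = (LP (LK LD1_c15 LD2_c45 LD3_c21)) :=
  Lre_d IH (LK LD1_c25 LD2_c42 LD3_c4) (LK LD1_c15 LD2_c45 LD3_c21) Lrfl Lrfl
theorem f344276 : Led Lsl_at (LP (LK LD1_c19 LD2_c16 LD3_c21)) = (LP (LK LD1_c25 LD2_c42 LD3_c4)) :=
  Lgr Lrot51 (Lpe (K23.f307805 IH) (Lpr_af (f344249 IH) (Lpe (f258405 IH) (Lpn (LP (LK LD1_c25 LD2_c42 LD3_c4))))))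
theorem f258403 : Led Lsl_dt (LP (LK LD1_c15 LD2_c45 LD3_c21)) = (LP (LK LD1_c25 LD2_c42 LD3_c4)) :=
  Lre_d IH (LK LD1_c15 LD2_c45 LD3_c21) (LK LD1_c25 LD2_c42 LD3_c4) Lrfl Lrfl
theorem f344256 : Led Lsl_ff (LP (LK LD1_c17 LD2_c50 LD3_c13)) = (LP (LK LD1_c25 LD2_c42 LD3_c4)) :=
  Lgr Lrot19 (Lpr_dt (K23.f171938 IH) (Lpr_ft (K23.f344247 IH) (Lpr_dt (f258403 IH) (Lpn (LP (LK LD1_c25 LD2_c42 LD3_c4))))))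
theorem f344231 : Led Lsl_at (LP (LK LD1_c17 LD2_c50 LD3_c13)) = (LP (LK LD1_c25 LD2_c31 LD3_c17)) :=
  Lgr Lrot100 (Lpr_af (K23.f344227 IH) (Lpn (LP (LK LD1_c25 LD2_c31 LD3_c17))))
theorem f344281 : Led Lsl_ff (LP (LK LD1_c19 LD2_c16 LD3_c21)) = (LP (LK LD1_c25 LD2_c31 LD3_c17)) :=
  Lgr Lrot30 (Lpr_at (f344276 IH) (Lpe (f344256 IH) (Lpr_at (f344231 IH) (Lpn (LP (LK LD1_c25 LD2_c31 LD3_c17))))))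
theorem f344283 : Led Lsl_ft (LP (LK LD1_c19 LD2_c16 LD3_c21)) = (LP (LK LD1_c25 LD2_c31 LD3_c17)) :=
  Lgr Lrot48 (Lpr_ff (f344281 IH) (Lpn (LP (LK LD1_c25 LD2_c31 LD3_c17))))
theorem f345616 : Led Lsl_ff (LP (LK LD1_c28 LD2_c42 LD3_c30)) = (LP (LK LD1_c28 LD2_c42 LD3_c8)) :=
  Lgr Lrot23 (Lpr_ct (K25.f326346 IH) (Lpr_ft (f344283 IH) (Lpr_ct (f345610 IH) (Lpn (LP (LK LD1_c28 LD2_c42 LD3_c8))))))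
theorem f303105 : Led Lsl_gt (LP (LK LD1_c19 LD2_c16 LD3_c9)) = (LP (LK LD1_c28 LD2_c42 LD3_c7)) :=
  Lre_g IH (LK LD1_c19 LD2_c16 LD3_c9) (LK LD1_c28 LD2_c42 LD3_c7) Lrfl Lrfl
theorem f345622 : Led Lsl_at (LP (LK LD1_c28 LD2_c42 LD3_c30)) = (LP (LK LD1_c28 LD2_c42 LD3_c7)) :=
  Lgr Lrot26 (Lpr_ff (f345616 IH) (Lpr_gt (f228463 IH) (Lpr_gt (f303105 IH) (Lpn (LP (LK LD1_c28 LD2_c42 LD3_c7))))))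
theorem f344346 : Led Lsl_df (LP (LK LD1_c15 LD2_c43 LD3_c38)) = (LP (LK LD1_c15 LD2_c45 LD3_c9)) :=
  Lgr Lrot38 (Lpr_dt (K23.f344308 IH) (Lpn (LP (LK LD1_c15 LD2_c45 LD3_c9))))
theorem f246763 : Led Lsl_df (LP (LK LD1_c9 LD2_c41 LD3_c52)) = (LP (LK LD1_c15 LD2_c47 LD3_c55)) :=
  Lgr Lrot38 (Lpr_dt (K23.f246761 IH) (Lpn (LP (LK LD1_c15 LD2_c47 LD3_c55))))
theorem f345624 : Led Lsl_cf (LP (LK LD1_c28 LD2_c42 LD3_c7)) = (LP (LK LD1_c25 LD2_c42 LD3_c4)) :=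
  Lgr Lrot102 (Lpe (f345622 IH) (Lpr_ff (f345616 IH) (Lpe (f345608 IH) (Lpr_ct (f344311 IH) (Lpe (f344346 IH) (Lpr_ct (K23.f167139 IH) (Lpe (f246763 IH) (Lpr_ct (K23.f344243 IH) (Lpr_dt (f258403 IH) (Lpn (LP (LK LD1_c25 LD2_c42 LD3_c4))))))))))))
theorem f345628 : Led Lsl_ct (LP (LK LD1_c28 LD2_c42 LD3_c7)) = (LP (LK LD1_c25 LD2_c42 LD3_c4)) :=
  Lgr Lrot59 (Lpr_cf (f345624 IH) (Lpn (LP (LK LD1_c25 LD2_c42 LD3_c4))))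
theorem f228451 : Led Lsl_ct (LP (LK LD1_c10 LD2_c38 LD3_c13)) = (LP (LK LD1_c19 LD2_c16 LD3_c9)) :=
  Lre_c IH (LK LD1_c10 LD2_c38 LD3_c13) (LK LD1_c19 LD2_c16 LD3_c9) Lrfl Lrfl
theorem f270371 : Led Lsl_dt (LP (LK LD1_c5 LD2_c23 LD3_c48)) = (LP (LK LD1_c2 LD2_c38 LD3_c26)) :=
  Lre_d IH (LK LD1_c5 LD2_c23 LD3_c48) (LK LD1_c2 LD2_c38 LD3_c26) Lrfl Lrfl
theorem f345631 : Led Lsl_gt (LP (LK LD1_c10 LD2_c38 LD3_c8)) = (LP (LK LD1_c9 LD2_c41 LD3_c52)) :=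
  Lgr Lrot150 (Lpe (f303033 IH) (Lpe (K24.f217756 IH) (Lpe (f270371 IH) (Lpr_gt (K25.f228441 IH) (Lpr_ct (f228451 IH) (Lpr_gt (f303105 IH) (Lpr_ct (f345628 IH) (Lpe (f258403 IH) (Lpe (K23.f344243 IH) (Lpn (LP (LK LD1_c9 LD2_c41 LD3_c52))))))))))))
theorem f357499 : Led Lsl_dt (LP (LK LD1_c11 LD2_c9 LD3_c35)) = (LP (LK LD1_c19 LD2_c20 LD3_c37)) :=
  Lgr Lrot105 (Lpr_gf (K25.f357315 IH) (Lpe (K23.f246761 IH) (Lpe (f345631 IH) (Lpe (f303033 IH) (Lpr_gt (f303030 IH) (Lpr_dt (K18.f184286 IH) (Lpe (f303117 IH) (Lpr_dt (f277655 IH) (Lpr_cf (f357492 IH) (Lpn (LP (LK LD1_c19 LD2_c20 LD3_c37))))))))))))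
theorem f357495 : Led Lsl_ct (LP (LK LD1_c19 LD2_c4 LD3_c43)) = (LP (LK LD1_c19 LD2_c20 LD3_c37)) :=
  Lgr Lrot59 (Lpr_cf (f357492 IH) (Lpn (LP (LK LD1_c19 LD2_c20 LD3_c37))))
theorem f300911 : Led Lsl_ct (LP (LK LD1_c15 LD2_c45 LD3_c17)) = (LP (LK LD1_c8 LD2_c22 LD3_c16)) :=
  Lre_c IH (LK LD1_c15 LD2_c45 LD3_c17) (LK LD1_c8 LD2_c22 LD3_c16) Lrfl Lrfl
theorem f345514 : Led Lsl_gt (LP (LK LD1_c15 LD2_c45 LD3_c17)) = (LP (LK LD1_c19 LD2_c4 LD3_c43)) :=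
  Lgr Lrot180 (Lpr_ct (f300911 IH) (Lpe (K25.f345512 IH) (Lpr_dt (K24.f345504 IH) (Lpr_gt (K19.f224205 IH) (Lpr_dt (K18.f255874 IH) (Lpr_ct (K18.f255611 IH) (Lpe (f270371 IH) (Lpe (f221612 IH) (Lpr_df (f277647 IH) (Lpn (LP (LK LD1_c19 LD2_c4 LD3_c43))))))))))))
theorem f300908 : Led Lsl_ct (LP (LK LD1_c8 LD2_c22 LD3_c16)) = (LP (LK LD1_c15 LD2_c45 LD3_c17)) :=
  Lre_c IH (LK LD1_c8 LD2_c22 LD3_c16) (LK LD1_c15 LD2_c45 LD3_c17) Lrfl Lrfl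
theorem f184278 : Led Lsl_ct (LP (LK LD1_c8 LD2_c32 LD3_c56)) = (LP (LK LD1_c16 LD2_c2 LD3_c53)) :=
  Lre_c IH (LK LD1_c8 LD2_c32 LD3_c56) (LK LD1_c16 LD2_c2 LD3_c53) Lrfl Lrfl
theorem f357517 : Led Lsl_gf (LP (LK LD1_c10 LD2_c38 LD3_c26)) = (LP (LK LD1_c16 LD2_c2 LD3_c53)) :=
  Lgr Lrot172 (Lpe (K25.f357325 IH) (Lpr_dt (f357499 IH) (Lpe (f357495 IH) (Lpe (f345514 IH) (Lpe (f300908 IH) (Lpr_gf (K21.f325642 IH) (Lpr_dt (K16.f256509 IH) (Lpe (K22.f322515 IH) (Lpr_ct (f184278 IH) (Lpn (LP (LK LD1_c16 LD2_c2 LD3_c53))))))))))))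
theorem f245905 : Led Lsl_ct (LP (LK LD1_c2 LD2_c41 LD3_c41)) = (LP (LK LD1_c5 LD2_c30 LD3_c53)) :=
  Lre_c IH (LK LD1_c2 LD2_c41 LD3_c41) (LK LD1_c5 LD2_c30 LD3_c53) Lrfl Lrfl
theorem f357522 : Led Lsl_gt (LP (LK LD1_c2 LD2_c45 LD3_c53)) = (LP (LK LD1_c5 LD2_c30 LD3_c53)) :=
  Lgr Lrot65 (Lpe (K22.f179740 IH) (Lpr_bt (K22.f179741 IH) (Lpe (K23.f200572 IH) (Lpe (K25.f346590 IH) (Lpr_ct (K25.f357319 IH) (Lpr_gf (f357517 IH) (Lpe (f184278 IH) (Lpr_gf (K22.f322515 IH) (Lpe (K20.f314705 IH) (Lpr_ct (f245905 IH) (Lpn (LP (LK LD1_c5 LD2_c30 LD3_c53)))))))))))))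
theorem f245910 : Led Lsl_ct (LP (LK LD1_c5 LD2_c30 LD3_c53)) = (LP (LK LD1_c2 LD2_c41 LD3_c41)) :=
  Lre_c IH (LK LD1_c5 LD2_c30 LD3_c53) (LK LD1_c2 LD2_c41 LD3_c41) Lrfl Lrfl
theorem f314701 : Led Lsl_bt (LP (LK LD1_c5 LD2_c26 LD3_c42)) = (LP (LK LD1_c10 LD2_c34 LD3_c1)) :=
  Lgr Lrot127 (Lpr_bf (K20.f314699 IH) (Lpn (LP (LK LD1_c10 LD2_c34 LD3_c1))))
theorem f245912 : Led Lsl_ct (LP (LK LD1_c5 LD2_c26 LD3_c42)) = (LP (LK LD1_c10 LD2_c44 LD3_c31)) :=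
  Lre_c IH (LK LD1_c5 LD2_c26 LD3_c42) (LK LD1_c10 LD2_c44 LD3_c31) Lrfl Lrfl
theorem f288687 : Led Lsl_ct (LP (LK LD1_c5 LD2_c23 LD3_c50)) = (LP (LK LD1_c2 LD2_c38 LD3_c27)) :=
  Lre_c IH (LK LD1_c5 LD2_c23 LD3_c50) (LK LD1_c2 LD2_c38 LD3_c27) Lrfl Lrfl
theorem f184279 : Led Lsl_ct (LP (LK LD1_c28 LD2_c30 LD3_c38)) = (LP (LK LD1_c19 LD2_c4 LD3_c20)) :=
  Lre_c IH (LK LD1_c28 LD2_c30 LD3_c38) (LK LD1_c19 LD2_c4 LD3_c20) Lrfl Lrfl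
theorem f228483 : Led Lsl_gt (LP (LK LD1_c10 LD2_c38 LD3_c15)) = (LP (LK LD1_c19 LD2_c16 LD3_c14)) :=
  Lre_g IH (LK LD1_c10 LD2_c38 LD3_c15) (LK LD1_c19 LD2_c16 LD3_c14) Lrfl Lrfl
theorem f303084 : Led Lsl_gt (LP (LK LD1_c19 LD2_c16 LD3_c14)) = (LP (LK LD1_c28 LD2_c30 LD3_c38)) :=
  Lgr Lrot46 (Lpe (f228483 IH) (Lpr_ft (K18.f303073 IH) (Lpr_at (K18.f303074 IH) (Lpn (LP (LK LD1_c28 LD2_c30 LD3_c38))))))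
theorem f315900 : Led Lsl_ct (LP (LK LD1_c27 LD2_c37 LD3_c23)) = (LP (LK LD1_c19 LD2_c16 LD3_c14)) :=
  Lgr Lrot152 (Lpe (K16.f224313 IH) (Lpe (K16.f224269 IH) (Lpr_gt (K21.f307858 IH) (Lpr_ct (f288687 IH) (Lpr_gt (K20.f315894 IH) (Lpr_ct (K19.f169196 IH) (Lpe (K25.f169195 IH) (Lpe (f184279 IH) (Lpe (f303084 IH) (Lpn (LP (LK LD1_c19 LD2_c16 LD3_c14))))))))))))
theorem f315903 : Led Lsl_cf (LP (LK LD1_c27 LD2_c37 LD3_c23)) = (LP (LK LD1_c19 LD2_c16 LD3_c14)) :=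
  Lgr Lrot11 (Lpr_ct (f315900 IH) (Lpn (LP (LK LD1_c19 LD2_c16 LD3_c14))))
theorem f322524 : Led Lsl_gf (LP (LK LD1_c10 LD2_c42 LD3_c52)) = (LP (LK LD1_c19 LD2_c4 LD3_c43)) :=
  Lgr Lrot147 (Lpr_ct (K20.f215473 IH) (Lpr_gt (K21.f322511 IH) (Lpr_ct (K24.f256519 IH) (Lpe (K16.f256530 IH) (Lpr_cf (f315903 IH) (Lpe (f228483 IH) (Lpe (K18.f228482 IH) (Lpe (f221612 IH) (Lpr_df (f277647 IH) (Lpn (LP (LK LD1_c19 LD2_c4 LD3_c43))))))))))))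
theorem f215518 : Led Lsl_bt (LP (LK LD1_c5 LD2_c25 LD3_c49)) = (LP (LK LD1_c10 LD2_c42 LD3_c51)) :=
  Lre_b IH (LK LD1_c5 LD2_c25 LD3_c49) (LK LD1_c10 LD2_c42 LD3_c51) Lrfl Lrfl
theorem f170360 : Led Lsl_ct (LP (LK LD1_c9 LD2_c37 LD3_c47)) = (LP (LK LD1_c17 LD2_c43 LD3_c24)) :=
  Lre_c IH (LK LD1_c9 LD2_c37 LD3_c47) (LK LD1_c17 LD2_c43 LD3_c24) Lrfl Lrfl
theorem f327553 : Led Lsl_et (LP (LK LD1_c9 LD2_c35 LD3_c21)) = (LP (LK LD1_c10 LD2_c8 LD3_c33)) :=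
  Lgr Lrot71 (Lpe (K22.f171065 IH) (Lpe (K22.f327512 IH) (Lpe (K21.f327538 IH) (Lpr_ef (K21.f327549 IH) (Lpe (K21.f296848 IH) (Lpn (LP (LK LD1_c10 LD2_c8 LD3_c33))))))))
theorem f346569 : Led Lsl_bf (LP (LK LD1_c9 LD2_c35 LD3_c21)) = (LP (LK LD1_c9 LD2_c37 LD3_c47)) :=
  Lgr Lrot96 (Lpr_et (f327553 IH) (Lpr_bt (K25.f343050 IH) (Lpr_et (K23.f346567 IH) (Lpn (LP (LK LD1_c9 LD2_c37 LD3_c47))))))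
theorem f357501 : Led Lsl_bf (LP (LK LD1_c11 LD2_c9 LD3_c37)) = (LP (LK LD1_c19 LD2_c20 LD3_c37)) :=
  Lgr Lrot34 (Lpe (K25.f346598 IH) (Lpr_bf (f346569 IH) (Lpr_ct (f170360 IH) (Lpe (K25.f326792 IH) (Lpr_cf (K25.f255595 IH) (Lpr_gf (K21.f326788 IH) (Lpe (f215518 IH) (Lpr_ct (K25.f215511 IH) (Lpr_gf (f322524 IH) (Lpr_cf (f357492 IH) (Lpn (LP (LK LD1_c19 LD2_c20 LD3_c37)))))))))))))
theorem f357503 : Led Lsl_gf (LP (LK LD1_c10 LD2_c44 LD3_c31)) = (LP (LK LD1_c5 LD2_c34 LD3_c56)) :=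
  Lgr Lrot126 (Lpe (f245912 IH) (Lpr_bt (f314701 IH) (Lpe (K21.f325642 IH) (Lpr_ct (f300908 IH) (Lpr_gt (f345514 IH) (Lpr_cf (f357492 IH) (Lpe (f357501 IH) (Lpr_gt (K23.f326997 IH) (Lpe (K23.f309896 IH) (Lpe (K23.f341469 IH) (Lpn (LP (LK LD1_c5 LD2_c34 LD3_c56)))))))))))))
theorem f358446 : Led Lsl_gt (LP (LK LD1_c4 LD2_c56 LD3_c8)) = (LP (LK LD1_c4 LD2_c52 LD3_c17)) :=
  Lgr Lrot146 (Lpr_dt (K25.f358439 IH) (Lpr_gt (K25.f178128 IH) (Lpr_ct (K22.f179740 IH) (Lpr_gt (f357522 IH) (Lpr_ct (f245910 IH) (Lpr_dt (K22.f245907 IH) (Lpe (K22.f245906 IH) (Lpr_gf (f357503 IH) (Lpr_cf (K23.f341469 IH) (Lpn (LP (LK LD1_c4 LD2_c52 LD3_c17))))))))))))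
theorem f342187 : Led Lsl_dt (LP (LK LD1_c2 LD2_c0 LD3_c44)) = (LP (LK LD1_c1 LD2_c56 LD3_c5)) :=
  Lgr Lrot42 (Lpr_df (K23.f342183 IH) (Lpn (LP (LK LD1_c1 LD2_c56 LD3_c5))))
theorem f342199 : Led Lsl_ef (LP (LK LD1_c4 LD2_c6 LD3_c47)) = (LP (LK LD1_c5 LD2_c36 LD3_c60)) :=
  Lgr Lrot88 (Lpr_et (K23.f342196 IH) (Lpn (LP (LK LD1_c5 LD2_c36 LD3_c60))))
theorem f358448 : Led Lsl_gf (LP (LK LD1_c2 LD2_c44 LD3_c21)) = (LP (LK LD1_c5 LD2_c36 LD3_c27)) :=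
  Lgr Lrot145 (Lpe (K23.f177884 IH) (Lpe (f342199 IH) (Lpr_gt (K23.f178205 IH) (Lpr_dt (f342187 IH) (Lpr_gt (K25.f335467 IH) (Lpr_df (K25.f358434 IH) (Lpr_et (K25.f358436 IH) (Lpr_gt (f358446 IH) (Lpe (K19.f306915 IH) (Lpr_dt (K25.f178461 IH) (Lpn (LP (LK LD1_c5 LD2_c36 LD3_c27)))))))))))))
theorem f358695 : Led Lsl_ft (LP (LK LD1_c6 LD2_c7 LD3_c9)) = (LP (LK LD1_c4 LD2_c30 LD3_c61)) :=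
  Lgr Lrot2 (Lpr_gt (K25.f178464 IH) (Lpe (f358448 IH) (Lpr_af (f358689 IH) (Lpn (LP (LK LD1_c4 LD2_c30 LD3_c61))))))
theorem f358701 : Led Lsl_ff (LP (LK LD1_c6 LD2_c7 LD3_c9)) = (LP (LK LD1_c4 LD2_c30 LD3_c61)) :=
  Lgr Lrot3 (Lpr_ft (f358695 IH) (Lpn (LP (LK LD1_c4 LD2_c30 LD3_c61))))
theorem f169135 : Led Lsl_gf (LP (LK LD1_c4 LD2_c56 LD3_c29)) = (LP (LK LD1_c4 LD2_c30 LD3_c61)) :=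
  Lgr Lrot138 (Lpr_dt (K21.f55318 IH) (Lpe (K21.f55316 IH) (Lpr_df (K9.f47876 IH) (Lpr_et (K9.f47909 IH) (Lpr_gt (K9.f169082 IH) (Lpe (K24.f167861 IH) (Lpr_dt (K24.f167867 IH) (Lpr_gt (K24.f167857 IH) (Lpr_df (K24.f167885 IH) (Lpr_et (K25.f167887 IH) (Lpn (LP (LK LD1_c4 LD2_c30 LD3_c61)))))))))))))
theorem f358705 : Led Lsl_at (LP (LK LD1_c6 LD2_c7 LD3_c9)) = (LP (LK LD1_c5 LD2_c36 LD3_c60)) :=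
  Lgr Lrot26 (Lpr_ff (f358701 IH) (Lpe (f169135 IH) (Lpr_gt (K23.f177881 IH) (Lpn (LP (LK LD1_c5 LD2_c36 LD3_c60))))))
theorem f335792 : Led Lsl_bt (LP (LK LD1_c5 LD2_c36 LD3_c58)) = (LP (LK LD1_c2 LD2_c44 LD3_c21)) :=
  Lre_b IH (LK LD1_c5 LD2_c36 LD3_c58) (LK LD1_c2 LD2_c44 LD3_c21) Lrfl Lrfl
theorem f169031 : Led Lsl_at (LP (LK LD1_c9 LD2_c0 LD3_c6)) = (LP (LK LD1_c16 LD2_c49 LD3_c34)) :=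
  Lre_a IH (LK LD1_c9 LD2_c0 LD3_c6) (LK LD1_c16 LD2_c49 LD3_c34) Lrfl Lrfl
theorem f169045 : Led Lsl_bt (LP (LK LD1_c4 LD2_c30 LD3_c61)) = (LP (LK LD1_c9 LD2_c0 LD3_c6)) :=
  Lre_b IH (LK LD1_c4 LD2_c30 LD3_c61) (LK LD1_c9 LD2_c0 LD3_c6) Lrfl Lrfl
theorem f358685 : Led Lsl_at (LP (LK LD1_c2 LD2_c44 LD3_c21)) = (LP (LK LD1_c4 LD2_c30 LD3_c61)) :=
  Lgr Lrot67 (Lpe (f335792 IH) (Lpe (K25.f351953 IH) (Lpr_bf (f358683 IH) (Lpe (f169031 IH) (Lpe (f169045 IH) (Lpn (LP (LK LD1_c4 LD2_c30 LD3_c61))))))))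
theorem f358709 : Led Lsl_ff (LP (LK LD1_c2 LD2_c44 LD3_c21)) = (LP (LK LD1_c5 LD2_c36 LD3_c60)) :=
  Lgr Lrot30 (Lpr_at (f358685 IH) (Lpe (f358701 IH) (Lpr_at (f358705 IH) (Lpn (LP (LK LD1_c5 LD2_c36 LD3_c60))))))
theorem f177887 : Led Lsl_bt (LP (LK LD1_c11 LD2_c6 LD3_c5)) = (LP (LK LD1_c5 LD2_c36 LD3_c60)) :=
  Lre_b IH (LK LD1_c11 LD2_c6 LD3_c5) (LK LD1_c5 LD2_c36 LD3_c60) Lrfl Lrfl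
theorem f358711 : Led Lsl_ft (LP (LK LD1_c5 LD2_c36 LD3_c58)) = (LP (LK LD1_c11 LD2_c6 LD3_c5)) :=
  Lgr Lrot75 (Lpe (f351950 IH) (Lpr_ff (f358709 IH) (Lpe (f177887 IH) (Lpn (LP (LK LD1_c11 LD2_c6 LD3_c5))))))
theorem f358718 : Led Lsl_ff (LP (LK LD1_c5 LD2_c36 LD3_c58)) = (LP (LK LD1_c11 LD2_c6 LD3_c5)) :=
  Lgr Lrot3 (Lpr_ft (f358711 IH) (Lpn (LP (LK LD1_c11 LD2_c6 LD3_c5))))
theorem f358724 : Led Lsl_gf (LP (LK LD1_c11 LD2_c5 LD3_c61)) = (LP (LK LD1_c15 LD2_c29 LD3_c34)) :=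
  Lgr Lrot76 (Lpe (f351964 IH) (Lpr_ff (f358718 IH) (Lpe (K25.f351906 IH) (Lpn (LP (LK LD1_c15 LD2_c29 LD3_c34))))))
theorem f217557 : Led Lsl_et (LP (LK LD1_c17 LD2_c51 LD3_c35)) = (LP (LK LD1_c9 LD2_c42 LD3_c43)) :=
  Lre_e IH (LK LD1_c17 LD2_c51 LD3_c35) (LK LD1_c9 LD2_c42 LD3_c43) Lrfl Lrfl
theorem f358728 : Led Lsl_df (LP (LK LD1_c11 LD2_c5 LD3_c61)) = (LP (LK LD1_c17 LD2_c51 LD3_c35)) :=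
  Lgr Lrot168 (Lpr_gf (f358724 IH) (Lpe (K25.f47890 IH) (Lpr_et (K19.f301239 IH) (Lpe (f358394 IH) (Lpe (K25.f353994 IH) (Lpr_dt (K25.f358389 IH) (Lpe (K24.f217563 IH) (Lpe (K15.f217502 IH) (Lpe (K25.f217556 IH) (Lpe (f217557 IH) (Lpn (LP (LK LD1_c17 LD2_c51 LD3_c35)))))))))))))
theorem f55083 : Led Lsl_et (LP (LK LD1_c1 LD2_c9 LD3_c55)) = (LP (LK LD1_c2 LD2_c25 LD3_c22)) :=
  Lre_e IH (LK LD1_c1 LD2_c9 LD3_c55) (LK LD1_c2 LD2_c25 LD3_c22) Lrfl Lrfl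
theorem f291810 : Led Lsl_et (LP (LK LD1_c8 LD2_c11 LD3_c14)) = (LP (LK LD1_c4 LD2_c54 LD3_c61)) :=
  Lgr Lrot122 (Lpr_dt (K25.f291775 IH) (Lpr_gt (K25.f217556 IH) (Lpe (K25.f217542 IH) (Lpr_et (K25.f217552 IH) (Lpr_gt (K12.f44326 IH) (Lpr_dt (K12.f167938 IH) (Lpr_gt (K12.f168191 IH) (Lpe (K14.f55082 IH) (Lpr_et (f55083 IH) (Lpr_gt (K25.f214083 IH) (Lpn (LP (LK LD1_c4 LD2_c54 LD3_c61)))))))))))))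
theorem f291815 : Led Lsl_ef (LP (LK LD1_c8 LD2_c11 LD3_c14)) = (LP (LK LD1_c4 LD2_c54 LD3_c61)) :=
  Lgr Lrot88 (Lpr_et (f291810 IH) (Lpn (LP (LK LD1_c4 LD2_c54 LD3_c61))))
theorem f358732 : Led Lsl_dt (LP (LK LD1_c5 LD2_c36 LD3_c56)) = (LP (LK LD1_c4 LD2_c54 LD3_c61)) :=
  Lgr Lrot77 (Lpe (f351961 IH) (Lpr_df (f358728 IH) (Lpe (K25.f291807 IH) (Lpe (K25.f291775 IH) (Lpr_ef (f291815 IH) (Lpn (LP (LK LD1_c4 LD2_c54 LD3_c61))))))))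
theorem f351968 : Led Lsl_et (LP (LK LD1_c5 LD2_c36 LD3_c56)) = (LP (LK LD1_c11 LD2_c5 LD3_c61)) :=
  Lre_e IH (LK LD1_c5 LD2_c36 LD3_c56) (LK LD1_c11 LD2_c5 LD3_c61) Lrfl Lrfl
theorem f358626 : Led Lsl_dt (LP (LK LD1_c8 LD2_c13 LD3_c49)) = (LP (LK LD1_c9 LD2_c0 LD3_c3)) :=
  Lgr Lrot60 (Lpe (K21.f187319 IH) (Lpe (K10.f187307 IH) (Lpr_ff (f358562 IH) (Lpn (LP (LK LD1_c9 LD2_c0 LD3_c3))))))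
theorem f358749 : Led Lsl_df (LP (LK LD1_c9 LD2_c37 LD3_c31)) = (LP (LK LD1_c8 LD2_c13 LD3_c42)) :=
  Lgr Lrot135 (Lpr_gt (K25.f326843 IH) (Lpe (f301222 IH) (Lpr_et (K19.f301240 IH) (Lpe (f358724 IH) (Lpe (f351968 IH) (Lpr_dt (f358732 IH) (Lpr_gt (f358668 IH) (Lpe (f358626 IH) (Lpe (K21.f325178 IH) (Lpr_gt (K21.f325009 IH) (Lpn (LP (LK LD1_c8 LD2_c13 LD3_c42)))))))))))))
theorem f358730 : Led Lsl_dt (LP (LK LD1_c11 LD2_c5 LD3_c61)) = (LP (LK LD1_c17 LD2_c51 LD3_c35)) :=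
  Lgr Lrot42 (Lpr_df (f358728 IH) (Lpn (LP (LK LD1_c17 LD2_c51 LD3_c35))))
theorem f351920 : Led Lsl_ef (LP (LK LD1_c15 LD2_c1 LD3_c24)) = (LP (LK LD1_c11 LD2_c6 LD3_c4)) :=
  Lgr Lrot88 (Lpr_et (K25.f351912 IH) (Lpn (LP (LK LD1_c11 LD2_c6 LD3_c4))))
theorem f306053 : Led Lsl_dt (LP (LK LD1_c4 LD2_c52 LD3_c13)) = (LP (LK LD1_c9 LD2_c36 LD3_c52)) :=
  Lre_d IH (LK LD1_c4 LD2_c52 LD3_c13) (LK LD1_c9 LD2_c36 LD3_c52) Lrfl Lrfl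
theorem f351941 : Led Lsl_dt (LP (LK LD1_c7 LD2_c58 LD3_c43)) = (LP (LK LD1_c11 LD2_c6 LD3_c4)) :=
  Lgr Lrot77 (Lpr_ef (K23.f320327 IH) (Lpe (f306053 IH) (Lpe (K18.f222112 IH) (Lpr_df (K25.f301653 IH) (Lpr_ef (f351920 IH) (Lpn (LP (LK LD1_c11 LD2_c6 LD3_c4))))))))
theorem f223246 : Led Lsl_ef (LP (LK LD1_c5 LD2_c0 LD3_c57)) = (LP (LK LD1_c8 LD2_c27 LD3_c0)) :=
  Lgr Lrot88 (Lpr_et (K23.f223244 IH) (Lpn (LP (LK LD1_c8 LD2_c27 LD3_c0))))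
theorem f355271 : Led Lsl_gt (LP (LK LD1_c17 LD2_c53 LD3_c10)) = (LP (LK LD1_c17 LD2_c42 LD3_c13)) :=
  Lgr Lrot137 (Lpe (K22.f333793 IH) (Lpr_dt (K25.f355263 IH) (Lpe (K25.f189757 IH) (Lpe (K25.f189746 IH) (Lpe (f223246 IH) (Lpr_gf (K15.f266764 IH) (Lpr_ef (K16.f273867 IH) (Lpr_dt (K18.f251797 IH) (Lpr_gf (K23.f344786 IH) (Lpe (K23.f344785 IH) (Lpn (LP (LK LD1_c17 LD2_c42 LD3_c13)))))))))))))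
theorem f328798 : Led Lsl_bt (LP (LK LD1_c20 LD2_c56 LD3_c46)) = (LP (LK LD1_c16 LD2_c13 LD3_c3)) :=
  Lgr Lrot95 (Lpr_df (K21.f274492 IH) (Lpr_bf (K23.f328794 IH) (Lpr_df (K14.f255584 IH) (Lpn (LP (LK LD1_c16 LD2_c13 LD3_c3))))))
theorem f301382 : Led Lsl_ct (LP (LK LD1_c20 LD2_c56 LD3_c46)) = (LP (LK LD1_c25 LD2_c21 LD3_c1)) :=
  Lgr Lrot7 (Lpr_df (K21.f274492 IH) (Lpe (K21.f236905 IH) (Lpe (K20.f237144 IH) (Lpe (K16.f212498 IH) (Lpe (K21.f301347 IH) (Lpr_gt (K18.f301088 IH) (Lpr_dt (K21.f301181 IH) (Lpr_gt (K21.f301351 IH) (Lpr_dt (K21.f301362 IH) (Lpn (LP (LK LD1_c25 LD2_c21 LD3_c1))))))))))))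
theorem f320336 : Led Lsl_bt (LP (LK LD1_c9 LD2_c36 LD3_c52)) = (LP (LK LD1_c17 LD2_c42 LD3_c13)) :=
  Lre_b IH (LK LD1_c9 LD2_c36 LD3_c52) (LK LD1_c17 LD2_c42 LD3_c13) Lrfl Lrfl
theorem f320322 : Led Lsl_ct (LP (LK LD1_c9 LD2_c36 LD3_c52)) = (LP (LK LD1_c17 LD2_c42 LD3_c17)) :=
  Lre_c IH (LK LD1_c9 LD2_c36 LD3_c52) (LK LD1_c17 LD2_c42 LD3_c17) Lrfl Lrfl
theorem f355275 : Led Lsl_gf (LP (LK LD1_c25 LD2_c21 LD3_c1)) = (LP (LK LD1_c17 LD2_c42 LD3_c17)) :=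
  Lgr Lrot126 (Lpe (f301382 IH) (Lpr_bt (f328798 IH) (Lpe (K23.f340772 IH) (Lpr_ct (K23.f275898 IH) (Lpe (K23.f347197 IH) (Lpe (K24.f311631 IH) (Lpr_bt (K22.f311630 IH) (Lpr_gt (f355271 IH) (Lpe (f320336 IH) (Lpr_ct (f320322 IH) (Lpn (LP (LK LD1_c17 LD2_c42 LD3_c17)))))))))))))
theorem f306759 : Led Lsl_ft (LP (LK LD1_c15 LD2_c1 LD3_c60)) = (LP (LK LD1_c24 LD2_c50 LD3_c27)) :=
  Lre_f IH (LK LD1_c15 LD2_c1 LD3_c60) (LK LD1_c24 LD2_c50 LD3_c27) Lrfl Lrfl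
theorem f306760 : Led Lsl_gf (LP (LK LD1_c20 LD2_c5 LD3_c7)) = (LP (LK LD1_c24 LD2_c50 LD3_c24)) :=
  Lgr Lrot76 (Lpr_af (K23.f306752 IH) (Lpe (f306759 IH) (Lpr_gt (K21.f301351 IH) (Lpn (LP (LK LD1_c24 LD2_c50 LD3_c24))))))
theorem f170107 : Led Lsl_dt (LP (LK LD1_c11 LD2_c10 LD3_c44)) = (LP (LK LD1_c5 LD2_c39 LD3_c48)) :=
  Lre_d IH (LK LD1_c11 LD2_c10 LD3_c44) (LK LD1_c5 LD2_c39 LD3_c48) Lrfl Lrfl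
theorem f355277 : Led Lsl_gf (LP (LK LD1_c11 LD2_c10 LD3_c44)) = (LP (LK LD1_c9 LD2_c36 LD3_c52)) :=
  Lgr Lrot144 (Lpr_dt (f170107 IH) (Lpr_gt (K21.f326854 IH) (Lpe (K21.f326862 IH) (Lpe (K23.f305725 IH) (Lpe (K23.f306743 IH) (Lpr_gf (f306760 IH) (Lpr_df (K21.f301357 IH) (Lpr_gf (f355275 IH) (Lpe (f320322 IH) (Lpn (LP (LK LD1_c9 LD2_c36 LD3_c52))))))))))))
theorem f358755 : Led Lsl_ef (LP (LK LD1_c11 LD2_c10 LD3_c44)) = (LP (LK LD1_c8 LD2_c13 LD3_c42)) :=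
  Lgr Lrot17 (Lpr_gf (f355277 IH) (Lpe (K25.f320334 IH) (Lpr_dt (f351941 IH) (Lpe (K25.f351951 IH) (Lpe (f358730 IH) (Lpr_gf (f358724 IH) (Lpe (K19.f301240 IH) (Lpr_dt (f301222 IH) (Lpe (K25.f326843 IH) (Lpr_df (f358749 IH) (Lpn (LP (LK LD1_c8 LD2_c13 LD3_c42)))))))))))))
theorem f170102 : Led Lsl_dt (LP (LK LD1_c5 LD2_c39 LD3_c48)) = (LP (LK LD1_c11 LD2_c10 LD3_c44)) :=
  Lre_d IH (LK LD1_c5 LD2_c39 LD3_c48) (LK LD1_c11 LD2_c10 LD3_c44) Lrfl Lrfl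
theorem f305943 : Led Lsl_et (LP (LK LD1_c4 LD2_c52 LD3_c12)) = (LP (LK LD1_c9 LD2_c36 LD3_c49)) :=
  Lre_e IH (LK LD1_c4 LD2_c52 LD3_c12) (LK LD1_c9 LD2_c36 LD3_c49) Lrfl Lrfl
theorem f222109 : Led Lsl_dt (LP (LK LD1_c4 LD2_c52 LD3_c12)) = (LP (LK LD1_c9 LD2_c36 LD3_c48)) :=
  Lre_d IH (LK LD1_c4 LD2_c52 LD3_c12) (LK LD1_c9 LD2_c36 LD3_c48) Lrfl Lrfl
theorem f326832 : Led Lsl_gt (LP (LK LD1_c11 LD2_c10 LD3_c44)) = (LP (LK LD1_c9 LD2_c36 LD3_c48)) :=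
  Lgr Lrot139 (Lpe (f170102 IH) (Lpr_gf (K21.f326826 IH) (Lpe (K21.f267194 IH) (Lpe (K15.f267181 IH) (Lpr_gf (K16.f278636 IH) (Lpe (K16.f270915 IH) (Lpr_et (K19.f276634 IH) (Lpr_gf (K19.f307116 IH) (Lpe (f305943 IH) (Lpr_dt (f222109 IH) (Lpn (LP (LK LD1_c9 LD2_c36 LD3_c48)))))))))))))
theorem f305944 : Led Lsl_dt (LP (LK LD1_c9 LD2_c36 LD3_c48)) = (LP (LK LD1_c4 LD2_c52 LD3_c12)) :=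
  Lre_d IH (LK LD1_c9 LD2_c36 LD3_c48) (LK LD1_c4 LD2_c52 LD3_c12) Lrfl Lrfl
theorem f307123 : Led Lsl_et (LP (LK LD1_c10 LD2_c11 LD3_c52)) = (LP (LK LD1_c9 LD2_c36 LD3_c48)) :=
  Lgr Lrot71 (Lpe (K25.f254278 IH) (Lpr_ef (K19.f307118 IH) (Lpr_df (K19.f305937 IH) (Lpe (f305943 IH) (Lpe (f305944 IH) (Lpn (LP (LK LD1_c9 LD2_c36 LD3_c48))))))))
theorem f276683 : Led Lsl_dt (LP (LK LD1_c8 LD2_c37 LD3_c33)) = (LP (LK LD1_c16 LD2_c9 LD3_c33)) :=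
  Lre_d IH (LK LD1_c8 LD2_c37 LD3_c33) (LK LD1_c16 LD2_c9 LD3_c33) Lrfl Lrfl
theorem f358757 : Led Lsl_gf (LP (LK LD1_c9 LD2_c37 LD3_c31)) = (LP (LK LD1_c16 LD2_c9 LD3_c33)) :=
  Lgr Lrot134 (Lpr_df (f358749 IH) (Lpe (f358755 IH) (Lpr_gt (f326832 IH) (Lpe (f307123 IH) (Lpr_dt (K25.f312420 IH) (Lpr_gt (K19.f249054 IH) (Lpr_df (K19.f253668 IH) (Lpr_et (K19.f254105 IH) (Lpr_gt (K21.f312546 IH) (Lpr_dt (f276683 IH) (Lpn (LP (LK LD1_c16 LD2_c9 LD3_c33)))))))))))))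
theorem f249654 : Led Lsl_gt (LP (LK LD1_c4 LD2_c54 LD3_c23)) = (LP (LK LD1_c9 LD2_c40 LD3_c15)) :=
  Lre_g IH (LK LD1_c4 LD2_c54 LD3_c23) (LK LD1_c9 LD2_c40 LD3_c15) Lrfl Lrfl
theorem f276684 : Led Lsl_ef (LP (LK LD1_c16 LD2_c9 LD3_c33)) = (LP (LK LD1_c9 LD2_c36 LD3_c59)) :=
  Lgr Lrot88 (Lpr_et (K21.f276680 IH) (Lpn (LP (LK LD1_c9 LD2_c36 LD3_c59))))
theorem f358759 : Led Lsl_df (LP (LK LD1_c9 LD2_c40 LD3_c15)) = (LP (LK LD1_c9 LD2_c36 LD3_c59)) :=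
  Lgr Lrot168 (Lpe (f249654 IH) (Lpr_df (K19.f305931 IH) (Lpr_et (K16.f246658 IH) (Lpr_gf (K14.f246680 IH) (Lpe (K21.f228878 IH) (Lpr_dt (K21.f301673 IH) (Lpe (K21.f182744 IH) (Lpe (K21.f326852 IH) (Lpr_gf (f358757 IH) (Lpr_ef (f276684 IH) (Lpn (LP (LK LD1_c9 LD2_c36 LD3_c59)))))))))))))
theorem f249657 : Led Lsl_ct (LP (LK LD1_c9 LD2_c40 LD3_c15)) = (LP (LK LD1_c17 LD2_c47 LD3_c19)) :=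
  Lre_c IH (LK LD1_c9 LD2_c40 LD3_c15) (LK LD1_c17 LD2_c47 LD3_c19) Lrfl Lrfl
theorem f307438 : Led Lsl_dt (LP (LK LD1_c27 LD2_c34 LD3_c19)) = (LP (LK LD1_c17 LD2_c47 LD3_c19)) :=
  Lre_d IH (LK LD1_c27 LD2_c34 LD3_c19) (LK LD1_c17 LD2_c47 LD3_c19) Lrfl Lrfl
theorem f171453 : Led Lsl_ct (LP (LK LD1_c16 LD2_c7 LD3_c58)) = (LP (LK LD1_c8 LD2_c36 LD3_c28)) :=
  Lre_c IH (LK LD1_c16 LD2_c7 LD3_c58) (LK LD1_c8 LD2_c36 LD3_c28) Lrfl Lrfl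
theorem f232077 : Led Lsl_dt (LP (LK LD1_c15 LD2_c38 LD3_c40)) = (LP (LK LD1_c25 LD2_c34 LD3_c0)) :=
  Lre_d IH (LK LD1_c15 LD2_c38 LD3_c40) (LK LD1_c25 LD2_c34 LD3_c0) Lrfl Lrfl
theorem f358765 : Led Lsl_gf (LP (LK LD1_c27 LD2_c34 LD3_c19)) = (LP (LK LD1_c25 LD2_c34 LD3_c0)) :=
  Lgr Lrot143 (Lpr_dt (f307438 IH) (Lpe (f249657 IH) (Lpr_df (f358759 IH) (Lpe (K21.f276679 IH) (Lpe (K19.f307127 IH) (Lpr_gf (K19.f304604 IH) (Lpe (f171453 IH) (Lpe (K19.f312527 IH) (Lpr_dt (f232077 IH) (Lpn (LP (LK LD1_c25 LD2_c34 LD3_c0))))))))))))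
theorem f307437 : Led Lsl_dt (LP (LK LD1_c17 LD2_c47 LD3_c19)) = (LP (LK LD1_c27 LD2_c34 LD3_c19)) :=
  Lre_d IH (LK LD1_c17 LD2_c47 LD3_c19) (LK LD1_c27 LD2_c34 LD3_c19) Lrfl Lrfl
theorem f359096 : Led Lsl_et (LP (LK LD1_c17 LD2_c47 LD3_c19)) = (LP (LK LD1_c27 LD2_c34 LD3_c20)) :=
  Lre_e IH (LK LD1_c17 LD2_c47 LD3_c19) (LK LD1_c27 LD2_c34 LD3_c20) Lrfl Lrfl
theorem f355940 : Led Lsl_ct (LP (LK LD1_c10 LD2_c28 LD3_c2)) = (LP (LK LD1_c17 LD2_c46 LD3_c47)) :=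
  Lgr Lrot59 (Lpr_cf (K25.f355938 IH) (Lpn (LP (LK LD1_c17 LD2_c46 LD3_c47))))
theorem f294183 : Led Lsl_ct (LP (LK LD1_c26 LD2_c37 LD3_c45)) = (LP (LK LD1_c16 LD2_c39 LD3_c18)) :=
  Lre_c IH (LK LD1_c26 LD2_c37 LD3_c45) (LK LD1_c16 LD2_c39 LD3_c18) Lrfl Lrfl
theorem f355954 : Led Lsl_et (LP (LK LD1_c17 LD2_c46 LD3_c47)) = (LP (LK LD1_c26 LD2_c37 LD3_c45)) :=
  Lgr Lrot158 (Lpe (f355940 IH) (Lpr_ef (K25.f355952 IH) (Lpe (f294183 IH) (Lpn (LP (LK LD1_c26 LD2_c37 LD3_c45))))))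
theorem f359097 : Led Lsl_gt (LP (LK LD1_c27 LD2_c34 LD3_c20)) = (LP (LK LD1_c26 LD2_c37 LD3_c45)) :=
  Lgr Lrot131 (Lpe (f359096 IH) (Lpr_dt (f307437 IH) (Lpr_gf (f358765 IH) (Lpe (f232077 IH) (Lpr_gf (K19.f312527 IH) (Lpe (K19.f312526 IH) (Lpr_dt (K19.f304618 IH) (Lpe (K19.f312515 IH) (Lpe (K19.f214533 IH) (Lpr_et (f355954 IH) (Lpn (LP (LK LD1_c26 LD2_c37 LD3_c45)))))))))))))
theorem f46246 : Led Lsl_bt (LP (LK LD1_c8 LD2_c51 LD3_c60)) = (LP (LK LD1_c16 LD2_c34 LD3_c40)) :=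
  Lre_b IH (LK LD1_c8 LD2_c51 LD3_c60) (LK LD1_c16 LD2_c34 LD3_c40) Lrfl Lrfl
theorem f232060 : Led Lsl_bt (LP (LK LD1_c25 LD2_c33 LD3_c61)) = (LP (LK LD1_c15 LD2_c38 LD3_c40)) :=
  Lre_b IH (LK LD1_c25 LD2_c33 LD3_c61) (LK LD1_c15 LD2_c38 LD3_c40) Lrfl Lrfl
theorem f232061 : Led Lsl_ef (LP (LK LD1_c8 LD2_c51 LD3_c60)) = (LP (LK LD1_c15 LD2_c38 LD3_c40)) :=
  Lgr Lrot29 (Lpr_bt (f46246 IH) (Lpr_et (K14.f232058 IH) (Lpr_bt (f232060 IH) (Lpn (LP (LK LD1_c15 LD2_c38 LD3_c40))))))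
theorem f215786 : Led Lsl_et (LP (LK LD1_c9 LD2_c56 LD3_c31)) = (LP (LK LD1_c5 LD2_c2 LD3_c51)) :=
  Lre_e IH (LK LD1_c9 LD2_c56 LD3_c31) (LK LD1_c5 LD2_c2 LD3_c51) Lrfl Lrfl
theorem f215787 : Led Lsl_dt (LP (LK LD1_c9 LD2_c56 LD3_c31)) = (LP (LK LD1_c18 LD2_c11 LD3_c34)) :=
  Lre_d IH (LK LD1_c9 LD2_c56 LD3_c31) (LK LD1_c18 LD2_c11 LD3_c34) Lrfl Lrfl
theorem f215788 : Led Lsl_gt (LP (LK LD1_c27 LD2_c52 LD3_c5)) = (LP (LK LD1_c18 LD2_c11 LD3_c34)) :=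
  Lre_g IH (LK LD1_c27 LD2_c52 LD3_c5) (LK LD1_c18 LD2_c11 LD3_c34) Lrfl Lrfl
theorem f359101 : Led Lsl_df (LP (LK LD1_c27 LD2_c52 LD3_c5)) = (LP (LK LD1_c26 LD2_c37 LD3_c45)) :=
  Lgr Lrot135 (Lpr_gt (f215788 IH) (Lpe (f215787 IH) (Lpr_et (f215786 IH) (Lpe (K12.f192129 IH) (Lpr_ef (f232061 IH) (Lpr_dt (f232077 IH) (Lpe (f358765 IH) (Lpe (f307437 IH) (Lpr_et (f359096 IH) (Lpr_gt (f359097 IH) (Lpn (LP (LK LD1_c26 LD2_c37 LD3_c45)))))))))))))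
theorem f246209 : Led Lsl_dt (LP (LK LD1_c18 LD2_c11 LD3_c34)) = (LP (LK LD1_c9 LD2_c56 LD3_c31)) :=
  Lre_d IH (LK LD1_c18 LD2_c11 LD3_c34) (LK LD1_c9 LD2_c56 LD3_c31) Lrfl Lrfl
theorem f312485 : Led Lsl_dt (LP (LK LD1_c10 LD2_c14 LD3_c39)) = (LP (LK LD1_c7 LD2_c58 LD3_c16)) :=
  Lgr Lrot42 (Lpr_df (K19.f312483 IH) (Lpn (LP (LK LD1_c7 LD2_c58 LD3_c16))))
theorem f251336 : Led Lsl_ct (LP (LK LD1_c17 LD2_c47 LD3_c20)) = (LP (LK LD1_c27 LD2_c34 LD3_c20)) :=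
  Lre_c IH (LK LD1_c17 LD2_c47 LD3_c20) (LK LD1_c27 LD2_c34 LD3_c20) Lrfl Lrfl
theorem f359105 : Led Lsl_gf (LP (LK LD1_c10 LD2_c14 LD3_c39)) = (LP (LK LD1_c17 LD2_c47 LD3_c20)) :=
  Lgr Lrot144 (Lpr_dt (f312485 IH) (Lpr_gt (K19.f167986 IH) (Lpr_dt (K19.f300193 IH) (Lpe (K25.f246210 IH) (Lpe (f246209 IH) (Lpe (f215788 IH) (Lpr_df (f359101 IH) (Lpe (f359097 IH) (Lpe (f251336 IH) (Lpn (LP (LK LD1_c17 LD2_c47 LD3_c20))))))))))))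
theorem f251317 : Led Lsl_gt (LP (LK LD1_c10 LD2_c11 LD3_c11)) = (LP (LK LD1_c5 LD2_c10 LD3_c13)) :=
  Lre_g IH (LK LD1_c10 LD2_c11 LD3_c11) (LK LD1_c5 LD2_c10 LD3_c13) Lrfl Lrfl
theorem f251318 : Led Lsl_et (LP (LK LD1_c17 LD2_c47 LD3_c20)) = (LP (LK LD1_c9 LD2_c40 LD3_c15)) :=
  Lre_e IH (LK LD1_c17 LD2_c47 LD3_c20) (LK LD1_c9 LD2_c40 LD3_c15) Lrfl Lrfl
theorem f251319 : Led Lsl_df (LP (LK LD1_c10 LD2_c11 LD3_c11)) = (LP (LK LD1_c17 LD2_c47 LD3_c20)) :=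
  Lgr Lrot170 (Lpr_gt (f251317 IH) (Lpe (K14.f248038 IH) (Lpr_et (K14.f248037 IH) (Lpr_gt (K10.f186731 IH) (Lpr_dt (K14.f251307 IH) (Lpe (K14.f246659 IH) (Lpr_df (K14.f246667 IH) (Lpr_et (K14.f246669 IH) (Lpr_gt (f249654 IH) (Lpe (f251318 IH) (Lpn (LP (LK LD1_c17 LD2_c47 LD3_c20)))))))))))))
theorem f251324 : Led Lsl_dt (LP (LK LD1_c10 LD2_c11 LD3_c11)) = (LP (LK LD1_c17 LD2_c47 LD3_c20)) :=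
  Lgr Lrot42 (Lpr_df (f251319 IH) (Lpn (LP (LK LD1_c17 LD2_c47 LD3_c20))))
theorem f171395 : Led Lsl_bt (LP (LK LD1_c4 LD2_c18 LD3_c54)) = (LP (LK LD1_c2 LD2_c6 LD3_c52)) :=
  Lre_b IH (LK LD1_c4 LD2_c18 LD3_c54) (LK LD1_c2 LD2_c6 LD3_c52) Lrfl Lrfl
theorem f171397 : Led Lsl_df (LP (LK LD1_c4 LD2_c18 LD3_c54)) = (LP (LK LD1_c5 LD2_c10 LD3_c58)) :=
  Lgr Lrot12 (Lpr_bt (f171395 IH) (Lpr_dt (K12.f171330 IH) (Lpr_bt (K14.f171396 IH) (Lpn (LP (LK LD1_c5 LD2_c10 LD3_c58))))))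
theorem f307415 : Led Lsl_ef (LP (LK LD1_c6 LD2_c7 LD3_c22)) = (LP (LK LD1_c5 LD2_c36 LD3_c17)) :=
  Lgr Lrot73 (Lpr_dt (K19.f307408 IH) (Lpe (K14.f248495 IH) (Lpe (f171397 IH) (Lpr_et (K16.f271149 IH) (Lpe (K17.f228833 IH) (Lpn (LP (LK LD1_c5 LD2_c36 LD3_c17))))))))
theorem f322267 : Led Lsl_gt (LP (LK LD1_c4 LD2_c13 LD3_c12)) = (LP (LK LD1_c4 LD2_c19 LD3_c29)) :=
  Lgr Lrot112 (Lpe (K19.f228854 IH) (Lpe (f307415 IH) (Lpr_gf (K19.f307421 IH) (Lpe (K19.f55276 IH) (Lpr_dt (K15.f47420 IH) (Lpe (K10.f46214 IH) (Lpe (K1.f46216 IH) (Lpe (K9.f46217 IH) (Lpe (K20.f218584 IH) (Lpr_dt (K20.f322252 IH) (Lpn (LP (LK LD1_c4 LD2_c19 LD3_c29)))))))))))))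
theorem f358767 : Led Lsl_gt (LP (LK LD1_c9 LD2_c40 LD3_c15)) = (LP (LK LD1_c5 LD2_c10 LD3_c58)) :=
  Lgr Lrot139 (Lpr_df (f358759 IH) (Lpe (K21.f276679 IH) (Lpe (K19.f276634 IH) (Lpr_dt (K16.f270915 IH) (Lpe (K16.f276668 IH) (Lpr_df (K16.f276672 IH) (Lpr_et (K20.f276682 IH) (Lpe (f322267 IH) (Lpe (K16.f271149 IH) (Lpr_dt (K12.f171407 IH) (Lpn (LP (LK LD1_c5 LD2_c10 LD3_c58)))))))))))))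
theorem f336617 : Led Lsl_dt (LP (LK LD1_c15 LD2_c25 LD3_c24)) = (LP (LK LD1_c8 LD2_c11 LD3_c29)) :=
  Lre_d IH (LK LD1_c15 LD2_c25 LD3_c24) (LK LD1_c8 LD2_c11 LD3_c29) Lrfl Lrfl
theorem f358538 : Led Lsl_et (LP (LK LD1_c15 LD2_c25 LD3_c24)) = (LP (LK LD1_c15 LD2_c28 LD3_c43)) :=
  Lgr Lrot71 (Lpe (f182940 IH) (Lpr_ef (f358532 IH) (Lpe (f358518 IH) (Lpr_ef (f358510 IH) (Lpe (f325001 IH) (Lpn (LP (LK LD1_c15 LD2_c28 LD3_c43))))))))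
theorem f358769 : Led Lsl_gt (LP (LK LD1_c15 LD2_c28 LD3_c43)) = (LP (LK LD1_c16 LD2_c9 LD3_c33)) :=
  Lgr Lrot131 (Lpe (f358538 IH) (Lpr_dt (f336617 IH) (Lpe (K22.f182939 IH) (Lpe (K20.f278202 IH) (Lpe (f322267 IH) (Lpe (K16.f271149 IH) (Lpr_dt (K12.f171407 IH) (Lpe (f358767 IH) (Lpr_df (f358759 IH) (Lpe (f276684 IH) (Lpn (LP (LK LD1_c16 LD2_c9 LD3_c33)))))))))))))
theorem f358773 : Led Lsl_ef (LP (LK LD1_c10 LD2_c11 LD3_c11)) = (LP (LK LD1_c8 LD2_c37 LD3_c33)) :=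
  Lgr Lrot114 (Lpr_gt (f251317 IH) (Lpe (K19.f253944 IH) (Lpr_dt (K10.f189564 IH) (Lpr_gt (f321244 IH) (Lpe (f321253 IH) (Lpr_et (f301675 IH) (Lpr_gt (K22.f182632 IH) (Lpr_dt (f182633 IH) (Lpr_gt (f358769 IH) (Lpe (f276683 IH) (Lpn (LP (LK LD1_c8 LD2_c37 LD3_c33)))))))))))))
theorem f305948 : Led Lsl_gt (LP (LK LD1_c4 LD2_c52 LD3_c12)) = (LP (LK LD1_c9 LD2_c36 LD3_c38)) :=
  Lre_g IH (LK LD1_c4 LD2_c52 LD3_c12) (LK LD1_c9 LD2_c36 LD3_c38) Lrfl Lrfl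
theorem f358779 : Led Lsl_gf (LP (LK LD1_c10 LD2_c11 LD3_c11)) = (LP (LK LD1_c11 LD2_c10 LD3_c29)) :=
  Lgr Lrot141 (Lpr_ef (f358773 IH) (Lpr_dt (f276683 IH) (Lpe (f358757 IH) (Lpr_df (f358749 IH) (Lpe (f358755 IH) (Lpr_gt (f326832 IH) (Lpr_dt (f305944 IH) (Lpr_gt (f305948 IH) (Lpe (K23.f305698 IH) (Lpr_et (K21.f305748 IH) (Lpn (LP (LK LD1_c11 LD2_c10 LD3_c29)))))))))))))
theorem f359119 : Led Lsl_ef (LP (LK LD1_c10 LD2_c11 LD3_c52)) = (LP (LK LD1_c9 LD2_c36 LD3_c48)) :=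
  Lgr Lrot17 (Lpr_gf (K25.f312418 IH) (Lpe (K19.f312412 IH) (Lpe (K19.f312483 IH) (Lpr_gf (f359105 IH) (Lpe (f251324 IH) (Lpr_gf (f358779 IH) (Lpe (K21.f305748 IH) (Lpr_dt (K23.f305698 IH) (Lpe (f305948 IH) (Lpe (f305944 IH) (Lpn (LP (LK LD1_c9 LD2_c36 LD3_c48)))))))))))))
theorem f359127 : Led Lsl_gt (LP (LK LD1_c10 LD2_c11 LD3_c52)) = (LP (LK LD1_c17 LD2_c49 LD3_c56)) :=
  Lgr Lrot137 (Lpr_ef (f359119 IH) (Lpr_dt (f305944 IH) (Lpe (K18.f222108 IH) (Lpe (K18.f301635 IH) (Lpr_et (K19.f301616 IH) (Lpe (K14.f252587 IH) (Lpe (K19.f248027 IH) (Lpe (K15.f248023 IH) (Lpe (K25.f248011 IH) (Lpr_df (K25.f252597 IH) (Lpn (LP (LK LD1_c17 LD2_c49 LD3_c56)))))))))))))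
theorem f359137 : Led Lsl_ef (LP (LK LD1_c9 LD2_c56 LD3_c35)) = (LP (LK LD1_c10 LD2_c10 LD3_c57)) :=
  Lgr Lrot114 (Lpr_gt (K25.f278234 IH) (Lpe (K16.f278216 IH) (Lpe (K16.f278214 IH) (Lpe (K14.f254266 IH) (Lpr_df (K14.f249601 IH) (Lpr_et (K16.f249603 IH) (Lpr_gt (K19.f253634 IH) (Lpr_dt (K25.f254278 IH) (Lpr_gt (f359127 IH) (Lpe (K25.f252602 IH) (Lpn (LP (LK LD1_c10 LD2_c10 LD3_c57)))))))))))))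
theorem f359143 : Led Lsl_et (LP (LK LD1_c9 LD2_c56 LD3_c35)) = (LP (LK LD1_c10 LD2_c10 LD3_c57)) :=
  Lgr Lrot87 (Lpr_ef (f359137 IH) (Lpn (LP (LK LD1_c10 LD2_c10 LD3_c57))))
theorem f278411 : Led Lsl_dt (LP (LK LD1_c9 LD2_c56 LD3_c35)) = (LP (LK LD1_c18 LD2_c11 LD3_c46)) :=
  Lre_d IH (LK LD1_c9 LD2_c56 LD3_c35) (LK LD1_c18 LD2_c11 LD3_c46) Lrfl Lrfl
theorem f248487 : Led Lsl_gt (LP (LK LD1_c2 LD2_c29 LD3_c13)) = (LP (LK LD1_c5 LD2_c3 LD3_c21)) :=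
  Lre_g IH (LK LD1_c2 LD2_c29 LD3_c13) (LK LD1_c5 LD2_c3 LD3_c21) Lrfl Lrfl
theorem f248489 : Led Lsl_dt (LP (LK LD1_c5 LD2_c3 LD3_c21)) = (LP (LK LD1_c9 LD2_c57 LD3_c37)) :=
  Lre_d IH (LK LD1_c5 LD2_c3 LD3_c21) (LK LD1_c9 LD2_c57 LD3_c37) Lrfl Lrfl
theorem f359149 : Led Lsl_gf (LP (LK LD1_c18 LD2_c11 LD3_c46)) = (LP (LK LD1_c9 LD2_c57 LD3_c37)) :=
  Lgr Lrot134 (Lpe (f278411 IH) (Lpr_et (f359143 IH) (Lpr_gt (K25.f248011 IH) (Lpe (K19.f248025 IH) (Lpr_dt (K15.f248042 IH) (Lpr_gt (K15.f255926 IH) (Lpr_df (K14.f248470 IH) (Lpr_et (K14.f248484 IH) (Lpr_gt (f248487 IH) (Lpr_dt (f248489 IH) (Lpn (LP (LK LD1_c9 LD2_c57 LD3_c37)))))))))))))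
theorem f359151 : Led Lsl_et (LP (LK LD1_c5 LD2_c3 LD3_c21)) = (LP (LK LD1_c9 LD2_c57 LD3_c38)) :=
  Lre_e IH (LK LD1_c5 LD2_c3 LD3_c21) (LK LD1_c9 LD2_c57 LD3_c38) Lrfl Lrfl
theorem f249604 : Led Lsl_ft (LP (LK LD1_c2 LD2_c32 LD3_c20)) = (LP (LK LD1_c5 LD2_c10 LD3_c36)) :=
  Lre_f IH (LK LD1_c2 LD2_c32 LD3_c20) (LK LD1_c5 LD2_c10 LD3_c36) Lrfl Lrfl
theorem f249605 : Led Lsl_ef (LP (LK LD1_c5 LD2_c3 LD3_c50)) = (LP (LK LD1_c5 LD2_c10 LD3_c36)) :=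
  Lgr Lrot21 (Lpr_ft (K10.f166825 IH) (Lpr_et (K14.f166876 IH) (Lpr_ft (K14.f249593 IH) (Lpr_et (K16.f249603 IH) (Lpr_ft (f249604 IH) (Lpn (LP (LK LD1_c5 LD2_c10 LD3_c36))))))))
theorem f359152 : Led Lsl_gf (LP (LK LD1_c9 LD2_c57 LD3_c38)) = (LP (LK LD1_c5 LD2_c3 LD3_c50)) :=
  Lgr Lrot141 (Lpe (f359151 IH) (Lpr_dt (f248489 IH) (Lpe (f359149 IH) (Lpe (f278411 IH) (Lpr_et (f359143 IH) (Lpr_gt (K25.f248011 IH) (Lpr_dt (K14.f248006 IH) (Lpe (K14.f254189 IH) (Lpe (K14.f253655 IH) (Lpe (f249605 IH) (Lpn (LP (LK LD1_c5 LD2_c3 LD3_c50)))))))))))))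
theorem f166810 : Led Lsl_ct (LP (LK LD1_c2 LD2_c29 LD3_c28)) = (LP (LK LD1_c5 LD2_c3 LD3_c59)) :=
  Lre_c IH (LK LD1_c2 LD2_c29 LD3_c28) (LK LD1_c5 LD2_c3 LD3_c59) Lrfl Lrfl
theorem f250040 : Led Lsl_gt (LP (LK LD1_c2 LD2_c32 LD3_c31)) = (LP (LK LD1_c5 LD2_c11 LD3_c3)) :=
  Lre_g IH (LK LD1_c2 LD2_c32 LD3_c31) (LK LD1_c5 LD2_c11 LD3_c3) Lrfl Lrfl
theorem f301728 : Led Lsl_gt (LP (LK LD1_c5 LD2_c11 LD3_c3)) = (LP (LK LD1_c5 LD2_c3 LD3_c59)) :=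
  Lgr Lrot46 (Lpe (f250040 IH) (Lpr_ft (K18.f301725 IH) (Lpr_at (K18.f301721 IH) (Lpn (LP (LK LD1_c5 LD2_c3 LD3_c59))))))
theorem f359156 : Led Lsl_ct (LP (LK LD1_c9 LD2_c57 LD3_c38)) = (LP (LK LD1_c18 LD2_c13 LD3_c37)) :=
  Lre_c IH (LK LD1_c9 LD2_c57 LD3_c38) (LK LD1_c18 LD2_c13 LD3_c37) Lrfl Lrfl
theorem f166839 : Led Lsl_ct (LP (LK LD1_c8 LD2_c24 LD3_c7)) = (LP (LK LD1_c15 LD2_c47 LD3_c52)) :=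
  Lre_c IH (LK LD1_c8 LD2_c24 LD3_c7) (LK LD1_c15 LD2_c47 LD3_c52) Lrfl Lrfl
theorem f200252 : Led Lsl_dt (LP (LK LD1_c15 LD2_c46 LD3_c7)) = (LP (LK LD1_c8 LD2_c22 LD3_c50)) :=
  Lre_d IH (LK LD1_c15 LD2_c46 LD3_c7) (LK LD1_c8 LD2_c22 LD3_c50) Lrfl Lrfl
theorem f182253 : Led Lsl_gt (LP (LK LD1_c15 LD2_c41 LD3_c43)) = (LP (LK LD1_c8 LD2_c20 LD3_c55)) :=
  Lre_g IH (LK LD1_c15 LD2_c41 LD3_c43) (LK LD1_c8 LD2_c20 LD3_c55) Lrfl Lrfl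
theorem f182254 : Led Lsl_dt (LP (LK LD1_c8 LD2_c20 LD3_c55)) = (LP (LK LD1_c15 LD2_c42 LD3_c55)) :=
  Lre_d IH (LK LD1_c8 LD2_c20 LD3_c55) (LK LD1_c15 LD2_c42 LD3_c55) Lrfl Lrfl
theorem f300446 : Led Lsl_gf (LP (LK LD1_c15 LD2_c46 LD3_c7)) = (LP (LK LD1_c15 LD2_c42 LD3_c55)) :=
  Lgr Lrot143 (Lpr_dt (f200252 IH) (Lpe (K19.f200232 IH) (Lpe (K18.f200166 IH) (Lpr_gf (K20.f300444 IH) (Lpr_df (K21.f182223 IH) (Lpe (K21.f182235 IH) (Lpe (K21.f178731 IH) (Lpr_gt (f182253 IH) (Lpr_dt (f182254 IH) (Lpn (LP (LK LD1_c15 LD2_c42 LD3_c55))))))))))))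
theorem f200190 : Led Lsl_at (LP (LK LD1_c25 LD2_c42 LD3_c18)) = (LP (LK LD1_c15 LD2_c46 LD3_c7)) :=
  Lre_a IH (LK LD1_c25 LD2_c42 LD3_c18) (LK LD1_c15 LD2_c46 LD3_c7) Lrfl Lrfl
theorem f200218 : Led Lsl_ft (LP (LK LD1_c15 LD2_c45 LD3_c39)) = (LP (LK LD1_c25 LD2_c42 LD3_c18)) :=
  Lre_f IH (LK LD1_c15 LD2_c45 LD3_c39) (LK LD1_c25 LD2_c42 LD3_c18) Lrfl Lrfl
theorem f300448 : Led Lsl_gt (LP (LK LD1_c15 LD2_c45 LD3_c39)) = (LP (LK LD1_c15 LD2_c42 LD3_c55)) :=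
  Lgr Lrot5 (Lpr_ft (f200218 IH) (Lpr_at (f200190 IH) (Lpr_gf (f300446 IH) (Lpn (LP (LK LD1_c15 LD2_c42 LD3_c55))))))
theorem f178694 : Led Lsl_dt (LP (LK LD1_c15 LD2_c42 LD3_c55)) = (LP (LK LD1_c8 LD2_c20 LD3_c55)) :=
  Lre_d IH (LK LD1_c15 LD2_c42 LD3_c55) (LK LD1_c8 LD2_c20 LD3_c55) Lrfl Lrfl
theorem f178714 : Led Lsl_ct (LP (LK LD1_c15 LD2_c42 LD3_c54)) = (LP (LK LD1_c8 LD2_c20 LD3_c55)) :=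
  Lre_c IH (LK LD1_c15 LD2_c42 LD3_c54) (LK LD1_c8 LD2_c20 LD3_c55) Lrfl Lrfl
theorem f355683 : Led Lsl_dt (LP (LK LD1_c10 LD2_c10 LD3_c13)) = (LP (LK LD1_c15 LD2_c42 LD3_c54)) :=
  Lgr Lrot105 (Lpr_gf (K25.f355681 IH) (Lpe (K17.f282097 IH) (Lpe (K24.f270893 IH) (Lpe (K22.f336306 IH) (Lpr_gt (K22.f336288 IH) (Lpr_dt (K20.f200234 IH) (Lpr_gt (f300448 IH) (Lpr_dt (f178694 IH) (Lpe (f178714 IH) (Lpn (LP (LK LD1_c15 LD2_c42 LD3_c54))))))))))))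
theorem f247724 : Led Lsl_et (LP (LK LD1_c5 LD2_c1 LD3_c40)) = (LP (LK LD1_c2 LD2_c28 LD3_c31)) :=
  Lre_e IH (LK LD1_c5 LD2_c1 LD3_c40) (LK LD1_c2 LD2_c28 LD3_c31) Lrfl Lrfl
theorem f355690 : Led Lsl_gt (LP (LK LD1_c15 LD2_c42 LD3_c54)) = (LP (LK LD1_c9 LD2_c33 LD3_c43)) :=
  Lgr Lrot139 (Lpe (f355683 IH) (Lpr_gf (K25.f355681 IH) (Lpe (K25.f43826 IH) (Lpr_dt (K14.f43823 IH) (Lpe (K9.f43820 IH) (Lpe (K9.f43408 IH) (Lpe (K9.f44571 IH) (Lpr_gf (K14.f247716 IH) (Lpe (f247724 IH) (Lpr_dt (K21.f251580 IH) (Lpn (LP (LK LD1_c9 LD2_c33 LD3_c43)))))))))))))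
theorem f330851 : Led Lsl_at (LP (LK LD1_c7 LD2_c57 LD3_c52)) = (LP (LK LD1_c9 LD2_c33 LD3_c43)) :=
  Lgr Lrot66 (Lpe (K20.f188654 IH) (Lpe (K21.f330843 IH) (Lpr_ff (K21.f330849 IH) (Lpn (LP (LK LD1_c9 LD2_c33 LD3_c43))))))
theorem f355692 : Led Lsl_gf (LP (LK LD1_c15 LD2_c42 LD3_c54)) = (LP (LK LD1_c15 LD2_c1 LD3_c20)) :=
  Lgr Lrot47 (Lpr_gt (f355690 IH) (Lpe (f330851 IH) (Lpe (K20.f188654 IH) (Lpn (LP (LK LD1_c15 LD2_c1 LD3_c20))))))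
theorem f178693 : Led Lsl_gt (LP (LK LD1_c8 LD2_c20 LD3_c55)) = (LP (LK LD1_c4 LD2_c10 LD3_c19)) :=
  Lre_g IH (LK LD1_c8 LD2_c20 LD3_c55) (LK LD1_c4 LD2_c10 LD3_c19) Lrfl Lrfl
theorem f167557 : Led Lsl_bt (LP (LK LD1_c2 LD2_c2 LD3_c21)) = (LP (LK LD1_c0 LD2_c58 LD3_c8)) :=
  Lre_b IH (LK LD1_c2 LD2_c2 LD3_c21) (LK LD1_c0 LD2_c58 LD3_c8) Lrfl Lrfl
theorem f167587 : Led Lsl_ct (LP (LK LD1_c4 LD2_c10 LD3_c34)) = (LP (LK LD1_c8 LD2_c21 LD3_c10)) :=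
  Lre_c IH (LK LD1_c4 LD2_c10 LD3_c34) (LK LD1_c8 LD2_c21 LD3_c10) Lrfl Lrfl
theorem f167585 : Led Lsl_gt (LP (LK LD1_c8 LD2_c21 LD3_c10)) = (LP (LK LD1_c15 LD2_c43 LD3_c17)) :=
  Lre_g IH (LK LD1_c8 LD2_c21 LD3_c10) (LK LD1_c15 LD2_c43 LD3_c17) Lrfl Lrfl
theorem f355703 : Led Lsl_cf (LP (LK LD1_c15 LD2_c43 LD3_c17)) = (LP (LK LD1_c15 LD2_c51 LD3_c20)) :=
  Lgr Lrot58 (Lpe (f167585 IH) (Lpe (f167587 IH) (Lpr_bt (K25.f167547 IH) (Lpe (K22.f521 IH) (Lpe (f167557 IH) (Lpr_ct (K20.f178670 IH) (Lpe (f178693 IH) (Lpe (f178714 IH) (Lpr_gf (f355692 IH) (Lpr_bf (K20.f188656 IH) (Lpn (LP (LK LD1_c15 LD2_c51 LD3_c20)))))))))))))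
theorem f49016 : Led Lsl_bt (LP (LK LD1_c8 LD2_c29 LD3_c34)) = (LP (LK LD1_c4 LD2_c15 LD3_c23)) :=
  Lre_b IH (LK LD1_c8 LD2_c29 LD3_c34) (LK LD1_c4 LD2_c15 LD3_c23) Lrfl Lrfl
theorem f213866 : Led Lsl_et (LP (LK LD1_c8 LD2_c25 LD3_c14)) = (LP (LK LD1_c15 LD2_c49 LD3_c20)) :=
  Lre_e IH (LK LD1_c8 LD2_c25 LD3_c14) (LK LD1_c15 LD2_c49 LD3_c20) Lrfl Lrfl
theorem f213867 : Led Lsl_cf (LP (LK LD1_c8 LD2_c29 LD3_c34)) = (LP (LK LD1_c15 LD2_c49 LD3_c20)) :=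
  Lgr Lrot39 (Lpr_et (K14.f49018 IH) (Lpr_ct (K14.f213852 IH) (Lpr_et (f213866 IH) (Lpn (LP (LK LD1_c15 LD2_c49 LD3_c20))))))
theorem f213872 : Led Lsl_ct (LP (LK LD1_c8 LD2_c29 LD3_c34)) = (LP (LK LD1_c15 LD2_c49 LD3_c20)) :=
  Lgr Lrot59 (Lpr_cf (f213867 IH) (Lpn (LP (LK LD1_c15 LD2_c49 LD3_c20))))
theorem f305939 : Led Lsl_ct (LP (LK LD1_c9 LD2_c40 LD3_c16)) = (LP (LK LD1_c17 LD2_c47 LD3_c21)) :=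
  Lre_c IH (LK LD1_c9 LD2_c40 LD3_c16) (LK LD1_c17 LD2_c47 LD3_c21) Lrfl Lrfl
theorem f171425 : Led Lsl_ct (LP (LK LD1_c8 LD2_c36 LD3_c1)) = (LP (LK LD1_c16 LD2_c7 LD3_c21)) :=
  Lre_c IH (LK LD1_c8 LD2_c36 LD3_c1) (LK LD1_c16 LD2_c7 LD3_c21) Lrfl Lrfl
theorem f184059 : Led Lsl_ct (LP (LK LD1_c9 LD2_c40 LD3_c23)) = (LP (LK LD1_c5 LD2_c17 LD3_c56)) :=
  Lgr Lrot15 (Lpe (K25.f184058 IH) (Lpr_cf (K9.f184048 IH) (Lpe (K17.f49028 IH) (Lpn (LP (LK LD1_c5 LD2_c17 LD3_c56))))))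
theorem f312445 : Led Lsl_gt (LP (LK LD1_c16 LD2_c7 LD3_c21)) = (LP (LK LD1_c15 LD2_c49 LD3_c20)) :=
  Lgr Lrot150 (Lpe (f171425 IH) (Lpe (K19.f171424 IH) (Lpr_df (f171397 IH) (Lpr_gt (K19.f307430 IH) (Lpr_ct (f305939 IH) (Lpr_gt (K25.f312439 IH) (Lpr_ct (f184059 IH) (Lpe (K22.f48275 IH) (Lpr_cf (f213867 IH) (Lpn (LP (LK LD1_c15 LD2_c49 LD3_c20))))))))))))
theorem f355705 : Led Lsl_bf (LP (LK LD1_c15 LD2_c42 LD3_c54)) = (LP (LK LD1_c8 LD2_c36 LD3_c1)) :=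
  Lgr Lrot34 (Lpr_gf (f355692 IH) (Lpr_bf (K20.f188656 IH) (Lpe (f355703 IH) (Lpe (f167585 IH) (Lpe (f167587 IH) (Lpe (K25.f349883 IH) (Lpe (f49016 IH) (Lpr_ct (f213872 IH) (Lpe (f312445 IH) (Lpe (f171425 IH) (Lpn (LP (LK LD1_c8 LD2_c36 LD3_c1)))))))))))))
theorem f355713 : Led Lsl_et (LP (LK LD1_c15 LD2_c42 LD3_c54)) = (LP (LK LD1_c25 LD2_c39 LD3_c0)) :=
  Lre_e IH (LK LD1_c15 LD2_c42 LD3_c54) (LK LD1_c25 LD2_c39 LD3_c0) Lrfl Lrfl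
theorem f355794 : Led Lsl_bt (LP (LK LD1_c25 LD2_c39 LD3_c0)) = (LP (LK LD1_c16 LD2_c7 LD3_c22)) :=
  Lgr Lrot119 (Lpe (f355713 IH) (Lpr_bf (f355705 IH) (Lpe (K25.f246686 IH) (Lpn (LP (LK LD1_c16 LD2_c7 LD3_c22))))))
theorem f355677 : Led Lsl_gt (LP (LK LD1_c10 LD2_c10 LD3_c13)) = (LP (LK LD1_c15 LD2_c11 LD3_c4)) :=
  Lgr Lrot137 (Lpr_ef (K25.f305962 IH) (Lpr_dt (K25.f355670 IH) (Lpe (K23.f266229 IH) (Lpr_df (K15.f266225 IH) (Lpe (K20.f294814 IH) (Lpr_gf (K25.f336531 IH) (Lpe (K22.f336322 IH) (Lpr_dt (K22.f336316 IH) (Lpe (K22.f237532 IH) (Lpe (K22.f279344 IH) (Lpn (LP (LK LD1_c15 LD2_c11 LD3_c4)))))))))))))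
theorem f355707 : Led Lsl_dt (LP (LK LD1_c15 LD2_c42 LD3_c54)) = (LP (LK LD1_c10 LD2_c10 LD3_c13)) :=
  Lgr Lrot171 (Lpr_gf (f355692 IH) (Lpe (K20.f322154 IH) (Lpr_dt (K20.f322152 IH) (Lpe (K21.f324113 IH) (Lpe (K20.f238206 IH) (Lpr_et (K20.f321360 IH) (Lpr_gf (K25.f324125 IH) (Lpr_ef (K16.f270853 IH) (Lpe (K16.f279351 IH) (Lpe (f355677 IH) (Lpn (LP (LK LD1_c10 LD2_c10 LD3_c13)))))))))))))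
theorem f355696 : Led Lsl_et (LP (LK LD1_c25 LD2_c39 LD3_c0)) = (LP (LK LD1_c15 LD2_c42 LD3_c54)) :=
  Lre_e IH (LK LD1_c25 LD2_c39 LD3_c0) (LK LD1_c15 LD2_c42 LD3_c54) Lrfl Lrfl
theorem f305968 : Led Lsl_bt (LP (LK LD1_c5 LD2_c9 LD3_c43)) = (LP (LK LD1_c10 LD2_c10 LD3_c13)) :=
  Lre_b IH (LK LD1_c5 LD2_c9 LD3_c43) (LK LD1_c10 LD2_c10 LD3_c13) Lrfl Lrfl
theorem f305969 : Led Lsl_bt (LP (LK LD1_c9 LD2_c55 LD3_c17)) = (LP (LK LD1_c5 LD2_c2 LD3_c14)) :=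
  Lre_b IH (LK LD1_c9 LD2_c55 LD3_c17) (LK LD1_c5 LD2_c2 LD3_c14) Lrfl Lrfl
theorem f305970 : Led Lsl_et (LP (LK LD1_c10 LD2_c10 LD3_c13)) = (LP (LK LD1_c9 LD2_c55 LD3_c17)) :=
  Lgr Lrot74 (Lpe (f305968 IH) (Lpr_ef (K21.f305966 IH) (Lpe (f305969 IH) (Lpn (LP (LK LD1_c9 LD2_c55 LD3_c17))))))
theorem f355676 : Led Lsl_et (LP (LK LD1_c14 LD2_c58 LD3_c12)) = (LP (LK LD1_c24 LD2_c45 LD3_c47)) :=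
  Lre_e IH (LK LD1_c14 LD2_c58 LD3_c12) (LK LD1_c24 LD2_c45 LD3_c47) Lrfl Lrfl
theorem f355709 : Led Lsl_df (LP (LK LD1_c25 LD2_c39 LD3_c0)) = (LP (LK LD1_c24 LD2_c45 LD3_c47)) :=
  Lgr Lrot70 (Lpr_et (f355696 IH) (Lpr_dt (f355707 IH) (Lpr_et (f305970 IH) (Lpr_dt (K25.f355670 IH) (Lpr_et (f355676 IH) (Lpn (LP (LK LD1_c24 LD2_c45 LD3_c47))))))))
theorem f306018 : Led Lsl_df (LP (LK LD1_c15 LD2_c47 LD3_c53)) = (LP (LK LD1_c16 LD2_c7 LD3_c22)) :=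
  Lgr Lrot38 (Lpr_dt (K25.f305982 IH) (Lpn (LP (LK LD1_c16 LD2_c7 LD3_c22))))
theorem f355798 : Led Lsl_bf (LP (LK LD1_c24 LD2_c45 LD3_c47)) = (LP (LK LD1_c15 LD2_c47 LD3_c53)) :=
  Lgr Lrot93 (Lpe (f355709 IH) (Lpr_bt (f355794 IH) (Lpe (f306018 IH) (Lpn (LP (LK LD1_c15 LD2_c47 LD3_c53))))))
theorem f355800 : Led Lsl_bt (LP (LK LD1_c24 LD2_c45 LD3_c47)) = (LP (LK LD1_c15 LD2_c47 LD3_c53)) :=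
  Lgr Lrot127 (Lpr_bf (f355798 IH) (Lpn (LP (LK LD1_c15 LD2_c47 LD3_c53))))
theorem f355803 : Led Lsl_bf (LP (LK LD1_c14 LD2_c58 LD3_c12)) = (LP (LK LD1_c8 LD2_c24 LD3_c7)) :=
  Lgr Lrot96 (Lpr_et (f355676 IH) (Lpr_bt (f355800 IH) (Lpr_et (K25.f166959 IH) (Lpn (LP (LK LD1_c8 LD2_c24 LD3_c7))))))
theorem f47642 : Led Lsl_ct (LP (LK LD1_c8 LD2_c16 LD3_c23)) = (LP (LK LD1_c15 LD2_c33 LD3_c16)) :=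
  Lre_c IH (LK LD1_c8 LD2_c16 LD3_c23) (LK LD1_c15 LD2_c33 LD3_c16) Lrfl Lrfl
theorem f355805 : Led Lsl_gf (LP (LK LD1_c15 LD2_c33 LD3_c16)) = (LP (LK LD1_c15 LD2_c47 LD3_c52)) :=
  Lgr Lrot126 (Lpe (f47642 IH) (Lpr_bt (K21.f47639 IH) (Lpr_gt (K23.f349871 IH) (Lpr_ct (K23.f167576 IH) (Lpr_gt (K23.f167591 IH) (Lpr_cf (K23.f349839 IH) (Lpr_bt (K17.f287014 IH) (Lpr_gt (K23.f266229 IH) (Lpr_bf (f355803 IH) (Lpr_ct (f166839 IH) (Lpn (LP (LK LD1_c15 LD2_c47 LD3_c52)))))))))))))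
theorem f47651 : Led Lsl_ct (LP (LK LD1_c15 LD2_c33 LD3_c16)) = (LP (LK LD1_c8 LD2_c16 LD3_c23)) :=
  Lre_c IH (LK LD1_c15 LD2_c33 LD3_c16) (LK LD1_c8 LD2_c16 LD3_c23) Lrfl Lrfl
theorem f47640 : Led Lsl_ct (LP (LK LD1_c10 LD2_c21 LD3_c5)) = (LP (LK LD1_c5 LD2_c15 LD3_c53)) :=
  Lre_c IH (LK LD1_c10 LD2_c21 LD3_c5) (LK LD1_c5 LD2_c15 LD3_c53) Lrfl Lrfl
theorem f359157 : Led Lsl_gt (LP (LK LD1_c18 LD2_c13 LD3_c37)) = (LP (LK LD1_c10 LD2_c21 LD3_c5)) :=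
  Lgr Lrot150 (Lpe (f359156 IH) (Lpr_gf (f359152 IH) (Lpr_df (K10.f166817 IH) (Lpr_gt (K21.f166838 IH) (Lpr_ct (f166839 IH) (Lpe (f355805 IH) (Lpr_ct (f47651 IH) (Lpe (K12.f47635 IH) (Lpe (f47640 IH) (Lpn (LP (LK LD1_c10 LD2_c21 LD3_c5))))))))))))
theorem f359160 : Led Lsl_ct (LP (LK LD1_c2 LD2_c35 LD3_c0)) = (LP (LK LD1_c5 LD2_c11 LD3_c3)) :=
  Lgr Lrot64 (Lpr_bt (K23.f348425 IH) (Lpe (K23.f47600 IH) (Lpe (K25.f47577 IH) (Lpr_ct (K25.f47675 IH) (Lpe (f359157 IH) (Lpe (f359156 IH) (Lpr_gf (f359152 IH) (Lpe (K21.f166806 IH) (Lpr_ct (f166810 IH) (Lpe (f301728 IH) (Lpn (LP (LK LD1_c5 LD2_c11 LD3_c3)))))))))))))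
theorem f359164 : Led Lsl_bf (LP (LK LD1_c9 LD2_c57 LD3_c38)) = (LP (LK LD1_c10 LD2_c8 LD3_c37)) :=
  Lgr Lrot34 (Lpr_gf (f359152 IH) (Lpe (K21.f166806 IH) (Lpr_ct (f166810 IH) (Lpe (f301728 IH) (Lpe (f359160 IH) (Lpe (K20.f165946 IH) (Lpe (K21.f165978 IH) (Lpr_ct (K23.f165934 IH) (Lpe (K23.f165991 IH) (Lpr_cf (K23.f349865 IH) (Lpn (LP (LK LD1_c10 LD2_c8 LD3_c37)))))))))))))
theorem f359166 : Led Lsl_bt (LP (LK LD1_c9 LD2_c57 LD3_c38)) = (LP (LK LD1_c10 LD2_c8 LD3_c37)) :=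
  Lgr Lrot127 (Lpr_bf (f359164 IH) (Lpn (LP (LK LD1_c10 LD2_c8 LD3_c37))))
theorem f259001 : Led Lsl_dt (LP (LK LD1_c10 LD2_c28 LD3_c51)) = (LP (LK LD1_c18 LD2_c59 LD3_c42)) :=
  Lre_d IH (LK LD1_c10 LD2_c28 LD3_c51) (LK LD1_c18 LD2_c59 LD3_c42) Lrfl Lrfl
theorem f294702 : Led Lsl_at (LP (LK LD1_c10 LD2_c30 LD3_c0)) = (LP (LK LD1_c10 LD2_c28 LD3_c51)) :=
  Lgr Lrot51 (Lpe (K18.f294694 IH) (Lpr_af (K18.f294690 IH) (Lpe (f259001 IH) (Lpn (LP (LK LD1_c10 LD2_c28 LD3_c51))))))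
theorem f321760 : Led Lsl_at (LP (LK LD1_c10 LD2_c30 LD3_c7)) = (LP (LK LD1_c10 LD2_c28 LD3_c59)) :=
  Lgr Lrot80 (Lpr_ef (K20.f321758 IH) (Lpe (f294702 IH) (Lpr_ef (K18.f294719 IH) (Lpn (LP (LK LD1_c10 LD2_c28 LD3_c59))))))
theorem f350759 : Led Lsl_gf (LP (LK LD1_c10 LD2_c29 LD3_c52)) = (LP (LK LD1_c5 LD2_c20 LD3_c5)) :=
  Lgr Lrot47 (Lpr_gt (K24.f350757 IH) (Lpe (f321760 IH) (Lpe (K20.f321748 IH) (Lpn (LP (LK LD1_c5 LD2_c20 LD3_c5))))))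
theorem f359190 : Led Lsl_gf (LP (LK LD1_c18 LD2_c13 LD3_c37)) = (LP (LK LD1_c24 LD2_c48 LD3_c7)) :=
  Lgr Lrot126 (Lpe (f359156 IH) (Lpr_bt (f359166 IH) (Lpr_gt (K23.f229537 IH) (Lpe (K20.f321770 IH) (Lpe (f350759 IH) (Lpe (K24.f248342 IH) (Lpe (K24.f336298 IH) (Lpr_gt (K24.f349997 IH) (Lpe (K21.f187137 IH) (Lpr_ct (K23.f191816 IH) (Lpn (LP (LK LD1_c24 LD2_c48 LD3_c7)))))))))))))
theorem f283998 : Led Lsl_dt (LP (LK LD1_c18 LD2_c13 LD3_c37)) = (LP (LK LD1_c27 LD2_c54 LD3_c5)) :=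
  Lre_d IH (LK LD1_c18 LD2_c13 LD3_c37) (LK LD1_c27 LD2_c54 LD3_c5) Lrfl Lrfl
theorem f359192 : Led Lsl_gt (LP (LK LD1_c27 LD2_c54 LD3_c5)) = (LP (LK LD1_c18 LD2_c58 LD3_c12)) :=
  Lgr Lrot49 (Lpe (f283998 IH) (Lpr_gf (f359190 IH) (Lpe (K23.f191816 IH) (Lpr_gt (K21.f311423 IH) (Lpe (K21.f331334 IH) (Lpr_gt (K21.f254523 IH) (Lpe (K24.f254529 IH) (Lpe (K16.f45763 IH) (Lpe (K16.f248186 IH) (Lpn (LP (LK LD1_c18 LD2_c58 LD3_c12))))))))))))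
theorem f283997 : Led Lsl_et (LP (LK LD1_c18 LD2_c13 LD3_c37)) = (LP (LK LD1_c9 LD2_c57 LD3_c36)) :=
  Lre_e IH (LK LD1_c18 LD2_c13 LD3_c37) (LK LD1_c9 LD2_c57 LD3_c36) Lrfl Lrfl
theorem f359195 : Led Lsl_gf (LP (LK LD1_c9 LD2_c57 LD3_c36)) = (LP (LK LD1_c9 LD2_c40 LD3_c20)) :=
  Lgr Lrot141 (Lpe (f283997 IH) (Lpr_dt (f283998 IH) (Lpr_gt (f359192 IH) (Lpe (K16.f189547 IH) (Lpr_et (K16.f189546 IH) (Lpr_gt (K14.f248176 IH) (Lpr_dt (K14.f247992 IH) (Lpr_gt (K15.f255901 IH) (Lpe (K15.f43747 IH) (Lpr_et (K18.f193109 IH) (Lpn (LP (LK LD1_c9 LD2_c40 LD3_c20)))))))))))))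
theorem f250394 : Led Lsl_ct (LP (LK LD1_c5 LD2_c3 LD3_c21)) = (LP (LK LD1_c9 LD2_c57 LD3_c36)) :=
  Lre_c IH (LK LD1_c5 LD2_c3 LD3_c21) (LK LD1_c9 LD2_c57 LD3_c36) Lrfl Lrfl
theorem f283996 : Led Lsl_bt (LP (LK LD1_c5 LD2_c3 LD3_c21)) = (LP (LK LD1_c9 LD2_c57 LD3_c35)) :=
  Lre_b IH (LK LD1_c5 LD2_c3 LD3_c21) (LK LD1_c9 LD2_c57 LD3_c35) Lrfl Lrfl
theorem f247008 : Led Lsl_bt (LP (LK LD1_c9 LD2_c52 LD3_c1)) = (LP (LK LD1_c17 LD2_c45 LD3_c37)) :=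
  Lgr Lrot95 (Lpe (K20.f246965 IH) (Lpe (K22.f246972 IH) (Lpr_df (K21.f247000 IH) (Lpn (LP (LK LD1_c17 LD2_c45 LD3_c37))))))
theorem f359199 : Led Lsl_gt (LP (LK LD1_c9 LD2_c57 LD3_c35)) = (LP (LK LD1_c17 LD2_c45 LD3_c37)) :=
  Lgr Lrot164 (Lpe (f283996 IH) (Lpr_ct (f250394 IH) (Lpr_gf (f359195 IH) (Lpr_cf (K21.f193157 IH) (Lpe (K18.f193166 IH) (Lpe (K23.f344856 IH) (Lpr_ct (K23.f293359 IH) (Lpr_gf (K23.f344864 IH) (Lpe (K23.f246973 IH) (Lpr_bt (f247008 IH) (Lpn (LP (LK LD1_c17 LD2_c45 LD3_c37)))))))))))))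
theorem f247013 : Led Lsl_ft (LP (LK LD1_c17 LD2_c45 LD3_c37)) = (LP (LK LD1_c9 LD2_c39 LD3_c24)) :=
  Lre_f IH (LK LD1_c17 LD2_c45 LD3_c37) (LK LD1_c9 LD2_c39 LD3_c24) Lrfl Lrfl
theorem f317306 : Led Lsl_af (LP (LK LD1_c17 LD2_c45 LD3_c37)) = (LP (LK LD1_c25 LD2_c23 LD3_c55)) :=
  Lgr Lrot45 (Lpr_ft (f247013 IH) (Lpr_at (K20.f317298 IH) (Lpr_ft (K21.f215075 IH) (Lpn (LP (LK LD1_c25 LD2_c23 LD3_c55))))))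
theorem f359201 : Led Lsl_gf (LP (LK LD1_c9 LD2_c57 LD3_c35)) = (LP (LK LD1_c15 LD2_c30 LD3_c57)) :=
  Lgr Lrot47 (Lpr_gt (f359199 IH) (Lpr_af (f317306 IH) (Lpe (K21.f215075 IH) (Lpn (LP (LK LD1_c15 LD2_c30 LD3_c57))))))
theorem f248488 : Led Lsl_et (LP (LK LD1_c9 LD2_c57 LD3_c38)) = (LP (LK LD1_c5 LD2_c3 LD3_c21)) :=
  Lre_e IH (LK LD1_c9 LD2_c57 LD3_c38) (LK LD1_c5 LD2_c3 LD3_c21) Lrfl Lrfl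
theorem f359170 : Led Lsl_et (LP (LK LD1_c9 LD2_c57 LD3_c35)) = (LP (LK LD1_c10 LD2_c8 LD3_c37)) :=
  Lgr Lrot74 (Lpe (f283996 IH) (Lpe (f248488 IH) (Lpr_bf (f359164 IH) (Lpn (LP (LK LD1_c10 LD2_c8 LD3_c37))))))
theorem f359175 : Led Lsl_ef (LP (LK LD1_c9 LD2_c57 LD3_c35)) = (LP (LK LD1_c10 LD2_c8 LD3_c37)) :=
  Lgr Lrot88 (Lpr_et (f359170 IH) (Lpn (LP (LK LD1_c10 LD2_c8 LD3_c37))))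
theorem f215087 : Led Lsl_et (LP (LK LD1_c8 LD2_c15 LD3_c5)) = (LP (LK LD1_c15 LD2_c30 LD3_c57)) :=
  Lre_e IH (LK LD1_c8 LD2_c15 LD3_c5) (LK LD1_c15 LD2_c30 LD3_c57) Lrfl Lrfl
theorem f238275 : Led Lsl_gt (LP (LK LD1_c9 LD2_c35 LD3_c29)) = (LP (LK LD1_c4 LD2_c51 LD3_c41)) :=
  Lre_g IH (LK LD1_c9 LD2_c35 LD3_c29) (LK LD1_c4 LD2_c51 LD3_c41) Lrfl Lrfl
theorem f359205 : Led Lsl_dt (LP (LK LD1_c10 LD2_c8 LD3_c37)) = (LP (LK LD1_c9 LD2_c35 LD3_c29)) :=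
  Lgr Lrot136 (Lpe (f359175 IH) (Lpr_gf (f359201 IH) (Lpe (f215087 IH) (Lpr_dt (K14.f251587 IH) (Lpe (K16.f274860 IH) (Lpr_df (K16.f191771 IH) (Lpe (K16.f44457 IH) (Lpe (K13.f238259 IH) (Lpr_dt (K18.f238258 IH) (Lpe (f238275 IH) (Lpn (LP (LK LD1_c9 LD2_c35 LD3_c29)))))))))))))
theorem f325410 : Led Lsl_ct (LP (LK LD1_c10 LD2_c29 LD3_c52)) = (LP (LK LD1_c5 LD2_c19 LD3_c59)) :=
  Lre_c IH (LK LD1_c10 LD2_c29 LD3_c52) (LK LD1_c5 LD2_c19 LD3_c59) Lrfl Lrfl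
theorem f167490 : Led Lsl_ct (LP (LK LD1_c16 LD2_c6 LD3_c7)) = (LP (LK LD1_c8 LD2_c34 LD3_c54)) :=
  Lre_c IH (LK LD1_c16 LD2_c6 LD3_c7) (LK LD1_c8 LD2_c34 LD3_c54) Lrfl Lrfl
theorem f297713 : Led Lsl_ct (LP (LK LD1_c4 LD2_c51 LD3_c41)) = (LP (LK LD1_c9 LD2_c35 LD3_c27)) :=
  Lre_c IH (LK LD1_c4 LD2_c51 LD3_c41) (LK LD1_c9 LD2_c35 LD3_c27) Lrfl Lrfl
theorem f359209 : Led Lsl_gf (LP (LK LD1_c16 LD2_c6 LD3_c7)) = (LP (LK LD1_c9 LD2_c35 LD3_c27)) :=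
  Lgr Lrot172 (Lpr_ct (f167490 IH) (Lpe (K21.f325387 IH) (Lpe (f325410 IH) (Lpr_gf (f350759 IH) (Lpr_cf (K20.f321770 IH) (Lpe (K23.f229537 IH) (Lpr_dt (f359205 IH) (Lpr_gt (f238275 IH) (Lpr_ct (f297713 IH) (Lpn (LP (LK LD1_c9 LD2_c35 LD3_c27))))))))))))
theorem f167487 : Led Lsl_ct (LP (LK LD1_c8 LD2_c34 LD3_c54)) = (LP (LK LD1_c16 LD2_c6 LD3_c7)) :=
  Lre_c IH (LK LD1_c8 LD2_c34 LD3_c54) (LK LD1_c16 LD2_c6 LD3_c7) Lrfl Lrfl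
theorem f336296 : Led Lsl_bf (LP (LK LD1_c7 LD2_c55 LD3_c48)) = (LP (LK LD1_c8 LD2_c34 LD3_c54)) :=
  Lgr Lrot24 (Lpr_bt (K24.f336293 IH) (Lpn (LP (LK LD1_c8 LD2_c34 LD3_c54))))
theorem f322604 : Led Lsl_bt (LP (LK LD1_c4 LD2_c51 LD3_c41)) = (LP (LK LD1_c2 LD2_c23 LD3_c42)) :=
  Lre_b IH (LK LD1_c4 LD2_c51 LD3_c41) (LK LD1_c2 LD2_c23 LD3_c42) Lrfl Lrfl
theorem f238238 : Led Lsl_gt (LP (LK LD1_c4 LD2_c51 LD3_c46)) = (LP (LK LD1_c2 LD2_c23 LD3_c42)) :=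
  Lre_g IH (LK LD1_c4 LD2_c51 LD3_c46) (LK LD1_c2 LD2_c23 LD3_c42) Lrfl Lrfl
theorem f359217 : Led Lsl_bt (LP (LK LD1_c4 LD2_c53 LD3_c1)) = (LP (LK LD1_c4 LD2_c51 LD3_c46)) :=
  Lgr Lrot22 (Lpr_ct (K23.f279405 IH) (Lpe (K24.f349999 IH) (Lpe (K16.f216766 IH) (Lpr_gf (K18.f269812 IH) (Lpr_bf (f336296 IH) (Lpr_ct (f167487 IH) (Lpr_gf (f359209 IH) (Lpe (f297713 IH) (Lpr_bt (f322604 IH) (Lpe (f238238 IH) (Lpn (LP (LK LD1_c4 LD2_c51 LD3_c46)))))))))))))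
theorem f359219 : Led Lsl_bf (LP (LK LD1_c4 LD2_c53 LD3_c1)) = (LP (LK LD1_c4 LD2_c51 LD3_c46)) :=
  Lgr Lrot24 (Lpr_bt (f359217 IH) (Lpn (LP (LK LD1_c4 LD2_c51 LD3_c46))))
theorem f359268 : Led Lsl_et (LP (LK LD1_c4 LD2_c52 LD3_c55)) = (LP (LK LD1_c4 LD2_c51 LD3_c46)) :=
  Lgr Lrot74 (Lpr_bf (K24.f350017 IH) (Lpe (K22.f327512 IH) (Lpr_bf (f359219 IH) (Lpn (LP (LK LD1_c4 LD2_c51 LD3_c46))))))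
theorem f359277 : Led Lsl_gf (LP (LK LD1_c9 LD2_c37 LD3_c47)) = (LP (LK LD1_c15 LD2_c49 LD3_c1)) :=
  Lgr Lrot134 (Lpe (K23.f170359 IH) (Lpr_et (f359268 IH) (Lpr_gt (f238238 IH) (Lpe (K13.f238217 IH) (Lpr_dt (K25.f236439 IH) (Lpr_gt (K13.f177910 IH) (Lpe (K13.f181941 IH) (Lpr_et (K14.f212549 IH) (Lpr_gt (K19.f170936 IH) (Lpr_dt (K23.f170937 IH) (Lpn (LP (LK LD1_c15 LD2_c49 LD3_c1)))))))))))))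
theorem f343054 : Led Lsl_bf (LP (LK LD1_c10 LD2_c8 LD3_c33)) = (LP (LK LD1_c9 LD2_c53 LD3_c38)) :=
  Lgr Lrot24 (Lpr_bt (K25.f343050 IH) (Lpn (LP (LK LD1_c9 LD2_c53 LD3_c38))))
theorem f346563 : Led Lsl_bt (LP (LK LD1_c9 LD2_c35 LD3_c21)) = (LP (LK LD1_c9 LD2_c37 LD3_c47)) :=
  Lgr Lrot119 (Lpr_ef (K22.f327547 IH) (Lpr_bf (f343054 IH) (Lpr_ef (K23.f346561 IH) (Lpn (LP (LK LD1_c9 LD2_c37 LD3_c47))))))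
theorem f171066 : Led Lsl_ct (LP (LK LD1_c9 LD2_c35 LD3_c21)) = (LP (LK LD1_c17 LD2_c39 LD3_c31)) :=
  Lre_c IH (LK LD1_c9 LD2_c35 LD3_c21) (LK LD1_c17 LD2_c39 LD3_c31) Lrfl Lrfl
theorem f350180 : Led Lsl_gt (LP (LK LD1_c17 LD2_c39 LD3_c31)) = (LP (LK LD1_c15 LD2_c20 LD3_c23)) :=
  Lgr Lrot94 (Lpe (f171066 IH) (Lpr_gt (K25.f346598 IH) (Lpr_dt (K23.f243719 IH) (Lpr_gt (K23.f200572 IH) (Lpr_dt (K13.f196971 IH) (Lpe (K19.f228314 IH) (Lpe (K19.f228263 IH) (Lpe (K24.f243924 IH) (Lpr_df (K24.f350176 IH) (Lpn (LP (LK LD1_c15 LD2_c20 LD3_c23))))))))))))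
theorem f243973 : Led Lsl_ct (LP (LK LD1_c8 LD2_c8 LD3_c50)) = (LP (LK LD1_c15 LD2_c20 LD3_c23)) :=
  Lre_c IH (LK LD1_c8 LD2_c8 LD3_c50) (LK LD1_c15 LD2_c20 LD3_c23) Lrfl Lrfl
theorem f340854 : Led Lsl_gt (LP (LK LD1_c10 LD2_c50 LD3_c2)) = (LP (LK LD1_c11 LD2_c55 LD3_c35)) :=
  Lgr Lrot137 (Lpe (K23.f330153 IH) (Lpr_dt (K23.f330131 IH) (Lpr_gf (K25.f340852 IH) (Lpe (K25.f324169 IH) (Lpr_et (K25.f323430 IH) (Lpe (K25.f323428 IH) (Lpe (K25.f309493 IH) (Lpr_dt (K25.f295748 IH) (Lpr_gf (K21.f323424 IH) (Lpe (K21.f323405 IH) (Lpn (LP (LK LD1_c11 LD2_c55 LD3_c35)))))))))))))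
theorem f330160 : Led Lsl_ct (LP (LK LD1_c10 LD2_c50 LD3_c2)) = (LP (LK LD1_c19 LD2_c35 LD3_c2)) :=
  Lre_c IH (LK LD1_c10 LD2_c50 LD3_c2) (LK LD1_c19 LD2_c35 LD3_c2) Lrfl Lrfl
theorem f245816 : Led Lsl_dt (LP (LK LD1_c10 LD2_c51 LD3_c45)) = (LP (LK LD1_c5 LD2_c30 LD3_c9)) :=
  Lre_d IH (LK LD1_c10 LD2_c51 LD3_c45) (LK LD1_c5 LD2_c30 LD3_c9) Lrfl Lrfl
theorem f245817 : Led Lsl_gt (LP (LK LD1_c19 LD2_c35 LD3_c30)) = (LP (LK LD1_c10 LD2_c51 LD3_c45)) :=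
  Lre_g IH (LK LD1_c19 LD2_c35 LD3_c30) (LK LD1_c10 LD2_c51 LD3_c45) Lrfl Lrfl
theorem f340858 : Led Lsl_gt (LP (LK LD1_c19 LD2_c35 LD3_c2)) = (LP (LK LD1_c21 LD2_c0 LD3_c24)) :=
  Lgr Lrot94 (Lpe (f330160 IH) (Lpr_gt (f340854 IH) (Lpr_dt (K21.f323405 IH) (Lpe (K21.f323424 IH) (Lpr_dt (K21.f295740 IH) (Lpe (K25.f245815 IH) (Lpe (f245816 IH) (Lpe (f245817 IH) (Lpe (K23.f300968 IH) (Lpn (LP (LK LD1_c21 LD2_c0 LD3_c24))))))))))))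
theorem f317928 : Led Lsl_et (LP (LK LD1_c2 LD2_c42 LD3_c24)) = (LP (LK LD1_c5 LD2_c32 LD3_c30)) :=
  Lre_e IH (LK LD1_c2 LD2_c42 LD3_c24) (LK LD1_c5 LD2_c32 LD3_c30) Lrfl Lrfl
theorem f330156 : Led Lsl_gf (LP (LK LD1_c10 LD2_c50 LD3_c2)) = (LP (LK LD1_c5 LD2_c32 LD3_c30)) :=
  Lgr Lrot138 (Lpr_dt (K23.f330146 IH) (Lpr_gt (K15.f236197 IH) (Lpr_df (K23.f236186 IH) (Lpe (K13.f236188 IH) (Lpe (K15.f261382 IH) (Lpe (K20.f252591 IH) (Lpe (K15.f264443 IH) (Lpr_gt (K20.f264458 IH) (Lpe (K21.f317926 IH) (Lpr_et (f317928 IH) (Lpn (LP (LK LD1_c5 LD2_c32 LD3_c30)))))))))))))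
theorem f359285 : Led Lsl_bt (LP (LK LD1_c8 LD2_c8 LD3_c50)) = (LP (LK LD1_c5 LD2_c32 LD3_c30)) :=
  Lgr Lrot130 (Lpr_ct (f243973 IH) (Lpe (f350180 IH) (Lpe (f171066 IH) (Lpr_bt (f346563 IH) (Lpr_gf (f359277 IH) (Lpe (K23.f343746 IH) (Lpe (K23.f301113 IH) (Lpe (f340858 IH) (Lpe (f330160 IH) (Lpr_gf (f330156 IH) (Lpn (LP (LK LD1_c5 LD2_c32 LD3_c30)))))))))))))
theorem f213271 : Led Lsl_et (LP (LK LD1_c5 LD2_c32 LD3_c30)) = (LP (LK LD1_c2 LD2_c42 LD3_c24)) :=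
  Lre_e IH (LK LD1_c5 LD2_c32 LD3_c30) (LK LD1_c2 LD2_c42 LD3_c24) Lrfl Lrfl
theorem f359293 : Led Lsl_bf (LP (LK LD1_c4 LD2_c4 LD3_c4)) = (LP (LK LD1_c2 LD2_c42 LD3_c24)) :=
  Lgr Lrot96 (Lpr_et (K20.f243970 IH) (Lpr_bt (f359285 IH) (Lpr_et (f213271 IH) (Lpn (LP (LK LD1_c2 LD2_c42 LD3_c24))))))
theorem f296389 : Led Lsl_dt (LP (LK LD1_c25 LD2_c13 LD3_c60)) = (LP (LK LD1_c15 LD2_c22 LD3_c15)) :=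
  Lre_d IH (LK LD1_c25 LD2_c13 LD3_c60) (LK LD1_c15 LD2_c22 LD3_c15) Lrfl Lrfl
theorem f328673 : Led Lsl_gf (LP (LK LD1_c25 LD2_c13 LD3_c60)) = (LP (LK LD1_c25 LD2_c6 LD3_c40)) :=
  Lgr Lrot143 (Lpr_dt (f296389 IH) (Lpr_cf (K18.f296354 IH) (Lpe (K23.f328671 IH) (Lpr_gf (K21.f328669 IH) (Lpe (K21.f259093 IH) (Lpe (K21.f259092 IH) (Lpe (K18.f227044 IH) (Lpr_gt (K21.f216506 IH) (Lpr_dt (K23.f216508 IH) (Lpn (LP (LK LD1_c25 LD2_c6 LD3_c40))))))))))))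
theorem f269303 : Led Lsl_dt (LP (LK LD1_c8 LD2_c8 LD3_c23)) = (LP (LK LD1_c15 LD2_c19 LD3_c38)) :=
  Lre_d IH (LK LD1_c8 LD2_c8 LD3_c23) (LK LD1_c15 LD2_c19 LD3_c38) Lrfl Lrfl
theorem f347149 : Led Lsl_gf (LP (LK LD1_c8 LD2_c8 LD3_c45)) = (LP (LK LD1_c15 LD2_c9 LD3_c28)) :=
  Lgr Lrot141 (Lpr_ef (K23.f347139 IH) (Lpr_dt (K23.f216508 IH) (Lpe (f328673 IH) (Lpe (K23.f296388 IH) (Lpr_et (K23.f341915 IH) (Lpr_gt (K23.f216507 IH) (Lpr_dt (K16.f259097 IH) (Lpr_gt (K23.f274749 IH) (Lpe (f269303 IH) (Lpr_et (K17.f293234 IH) (Lpn (LP (LK LD1_c15 LD2_c9 LD3_c28)))))))))))))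
theorem f345189 : Led Lsl_bt (LP (LK LD1_c4 LD2_c14 LD3_c44)) = (LP (LK LD1_c8 LD2_c28 LD3_c15)) :=
  Lre_b IH (LK LD1_c4 LD2_c14 LD3_c44) (LK LD1_c8 LD2_c28 LD3_c15) Lrfl Lrfl
theorem f182631 : Led Lsl_dt (LP (LK LD1_c15 LD2_c28 LD3_c25)) = (LP (LK LD1_c25 LD2_c20 LD3_c35)) :=
  Lre_d IH (LK LD1_c15 LD2_c28 LD3_c25) (LK LD1_c25 LD2_c20 LD3_c35) Lrfl Lrfl
theorem f356834 : Led Lsl_gt (LP (LK LD1_c8 LD2_c28 LD3_c15)) = (LP (LK LD1_c10 LD2_c32 LD3_c2)) :=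
  Lgr Lrot131 (Lpr_ef (K25.f347120 IH) (Lpr_dt (f182631 IH) (Lpr_gf (K25.f356830 IH) (Lpr_df (K25.f345727 IH) (Lpe (K25.f341070 IH) (Lpe (K17.f220620 IH) (Lpr_dt (K12.f220618 IH) (Lpe (K14.f250476 IH) (Lpr_df (K25.f220765 IH) (Lpr_et (K22.f220777 IH) (Lpn (LP (LK LD1_c10 LD2_c32 LD3_c2)))))))))))))
theorem f258848 : Led Lsl_ct (LP (LK LD1_c2 LD2_c42 LD3_c24)) = (LP (LK LD1_c5 LD2_c32 LD3_c29)) :=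
  Lre_c IH (LK LD1_c2 LD2_c42 LD3_c24) (LK LD1_c5 LD2_c32 LD3_c29) Lrfl Lrfl
theorem f359300 : Led Lsl_gt (LP (LK LD1_c8 LD2_c6 LD3_c19)) = (LP (LK LD1_c5 LD2_c32 LD3_c29)) :=
  Lgr Lrot65 (Lpr_cf (K25.f356804 IH) (Lpr_bt (K22.f263529 IH) (Lpe (f356834 IH) (Lpe (f345189 IH) (Lpe (K24.f347164 IH) (Lpr_gf (f347149 IH) (Lpe (K17.f223413 IH) (Lpr_gf (K21.f320917 IH) (Lpr_bf (f359293 IH) (Lpr_ct (f258848 IH) (Lpn (LP (LK LD1_c5 LD2_c32 LD3_c29)))))))))))))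
theorem f348310 : Led Lsl_et (LP (LK LD1_c4 LD2_c2 LD3_c52)) = (LP (LK LD1_c8 LD2_c6 LD3_c19)) :=
  Lre_e IH (LK LD1_c4 LD2_c2 LD3_c52) (LK LD1_c8 LD2_c6 LD3_c19) Lrfl Lrfl
theorem f221804 : Led Lsl_dt (LP (LK LD1_c4 LD2_c9 LD3_c42)) = (LP (LK LD1_c2 LD2_c2 LD3_c6)) :=
  Lre_d IH (LK LD1_c4 LD2_c9 LD3_c42) (LK LD1_c2 LD2_c2 LD3_c6) Lrfl Lrfl
theorem f254714 : Led Lsl_gf (LP (LK LD1_c8 LD2_c6 LD3_c18)) = (LP (LK LD1_c8 LD2_c55 LD3_c48)) :=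
  Lgr Lrot144 (Lpr_dt (K14.f213210 IH) (Lpr_gt (K13.f50204 IH) (Lpr_dt (K12.f50189 IH) (Lpe (K12.f50438 IH) (Lpe (K12.f856 IH) (Lpe (K12.f51487 IH) (Lpe (f221804 IH) (Lpe (K14.f234891 IH) (Lpr_cf (K14.f254698 IH) (Lpn (LP (LK LD1_c8 LD2_c55 LD3_c48))))))))))))
theorem f228034 : Led Lsl_et (LP (LK LD1_c15 LD2_c1 LD3_c50)) = (LP (LK LD1_c7 LD2_c58 LD3_c3)) :=
  Lre_e IH (LK LD1_c15 LD2_c1 LD3_c50) (LK LD1_c7 LD2_c58 LD3_c3) Lrfl Lrfl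
theorem f228035 : Led Lsl_dt (LP (LK LD1_c15 LD2_c1 LD3_c50)) = (LP (LK LD1_c24 LD2_c50 LD3_c5)) :=
  Lre_d IH (LK LD1_c15 LD2_c1 LD3_c50) (LK LD1_c24 LD2_c50 LD3_c5) Lrfl Lrfl
theorem f359308 : Led Lsl_et (LP (LK LD1_c10 LD2_c56 LD3_c48)) = (LP (LK LD1_c5 LD2_c32 LD3_c29)) :=
  Lre_e IH (LK LD1_c10 LD2_c56 LD3_c48) (LK LD1_c5 LD2_c32 LD3_c29) Lrfl Lrfl
theorem f348321 : Led Lsl_dt (LP (LK LD1_c10 LD2_c56 LD3_c48)) = (LP (LK LD1_c19 LD2_c46 LD3_c25)) :=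
  Lre_d IH (LK LD1_c10 LD2_c56 LD3_c48) (LK LD1_c19 LD2_c46 LD3_c25) Lrfl Lrfl
theorem f359309 : Led Lsl_gf (LP (LK LD1_c24 LD2_c50 LD3_c5)) = (LP (LK LD1_c19 LD2_c46 LD3_c25)) :=
  Lgr Lrot145 (Lpe (f228035 IH) (Lpr_et (f228034 IH) (Lpe (K14.f251775 IH) (Lpr_dt (K14.f234840 IH) (Lpe (f254714 IH) (Lpe (K14.f213209 IH) (Lpr_et (f348310 IH) (Lpr_gt (f359300 IH) (Lpe (f359308 IH) (Lpr_dt (f348321 IH) (Lpn (LP (LK LD1_c19 LD2_c46 LD3_c25)))))))))))))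
theorem f337817 : Led Lsl_dt (LP (LK LD1_c19 LD2_c34 LD3_c59)) = (LP (LK LD1_c26 LD2_c42 LD3_c15)) :=
  Lgr Lrot42 (Lpr_df (K23.f337815 IH) (Lpn (LP (LK LD1_c26 LD2_c42 LD3_c15))))
theorem f217199 : Led Lsl_gt (LP (LK LD1_c10 LD2_c49 LD3_c60)) = (LP (LK LD1_c5 LD2_c29 LD3_c19)) :=
  Lre_g IH (LK LD1_c10 LD2_c49 LD3_c60) (LK LD1_c5 LD2_c29 LD3_c19) Lrfl Lrfl
theorem f337832 : Led Lsl_ct (LP (LK LD1_c10 LD2_c49 LD3_c60)) = (LP (LK LD1_c10 LD2_c24 LD3_c29)) :=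
  Lgr Lrot8 (Lpr_gt (f217199 IH) (Lpr_dt (K12.f216883 IH) (Lpr_gt (K23.f216884 IH) (Lpr_dt (f337817 IH) (Lpe (K25.f337808 IH) (Lpe (K23.f189684 IH) (Lpe (K15.f222446 IH) (Lpe (K15.f222454 IH) (Lpr_gf (K23.f222466 IH) (Lpn (LP (LK LD1_c10 LD2_c24 LD3_c29))))))))))))
theorem f348311 : Led Lsl_gt (LP (LK LD1_c8 LD2_c15 LD3_c38)) = (LP (LK LD1_c10 LD2_c49 LD3_c60)) :=
  Lgr Lrot150 (Lpe (K12.f49776 IH) (Lpe (K23.f340333 IH) (Lpe (K23.f198699 IH) (Lpr_gt (K25.f340830 IH) (Lpr_ct (K25.f324172 IH) (Lpr_gt (K25.f348293 IH) (Lpe (K25.f348285 IH) (Lpe (K23.f32944 IH) (Lpe (f337832 IH) (Lpn (LP (LK LD1_c10 LD2_c49 LD3_c60))))))))))))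
theorem f51384 : Led Lsl_et (LP (LK LD1_c4 LD2_c7 LD3_c45)) = (LP (LK LD1_c8 LD2_c15 LD3_c38)) :=
  Lre_e IH (LK LD1_c4 LD2_c7 LD3_c45) (LK LD1_c8 LD2_c15 LD3_c38) Lrfl Lrfl
theorem f261386 : Led Lsl_df (LP (LK LD1_c8 LD2_c16 LD3_c16)) = (LP (LK LD1_c9 LD2_c52 LD3_c17)) :=
  Lgr Lrot153 (Lpe (K10.f53567 IH) (Lpr_dt (K10.f49783 IH) (Lpe (K9.f49563 IH) (Lpe (K9.f49562 IH) (Lpr_gf (K10.f192533 IH) (Lpe (K20.f182064 IH) (Lpr_gf (K15.f261382 IH) (Lpe (K15.f236148 IH) (Lpe (K15.f259335 IH) (Lpn (LP (LK LD1_c9 LD2_c52 LD3_c17))))))))))))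
theorem f236184 : Led Lsl_ef (LP (LK LD1_c5 LD2_c28 LD3_c18)) = (LP (LK LD1_c5 LD2_c30 LD3_c13)) :=
  Lgr Lrot28 (Lpr_ct (K15.f236148 IH) (Lpr_et (K13.f236150 IH) (Lpr_ct (K23.f236183 IH) (Lpn (LP (LK LD1_c5 LD2_c30 LD3_c13))))))
theorem f236204 : Led Lsl_dt (LP (LK LD1_c5 LD2_c30 LD3_c13)) = (LP (LK LD1_c10 LD2_c51 LD3_c51)) :=
  Lre_d IH (LK LD1_c5 LD2_c30 LD3_c13) (LK LD1_c10 LD2_c51 LD3_c51) Lrfl Lrfl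
theorem f326698 : Led Lsl_et (LP (LK LD1_c19 LD2_c34 LD3_c58)) = (LP (LK LD1_c10 LD2_c49 LD3_c60)) :=
  Lre_e IH (LK LD1_c19 LD2_c34 LD3_c58) (LK LD1_c10 LD2_c49 LD3_c60) Lrfl Lrfl
theorem f326643 : Led Lsl_dt (LP (LK LD1_c5 LD2_c30 LD3_c10)) = (LP (LK LD1_c10 LD2_c51 LD3_c48)) :=
  Lre_d IH (LK LD1_c5 LD2_c30 LD3_c10) (LK LD1_c10 LD2_c51 LD3_c48) Lrfl Lrfl
theorem f326644 : Led Lsl_gt (LP (LK LD1_c10 LD2_c51 LD3_c48)) = (LP (LK LD1_c19 LD2_c38 LD3_c27)) :=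
  Lre_g IH (LK LD1_c10 LD2_c51 LD3_c48) (LK LD1_c19 LD2_c38 LD3_c27) Lrfl Lrfl
theorem f216871 : Led Lsl_et (LP (LK LD1_c2 LD2_c40 LD3_c55)) = (LP (LK LD1_c5 LD2_c29 LD3_c19)) :=
  Lre_e IH (LK LD1_c2 LD2_c40 LD3_c55) (LK LD1_c5 LD2_c29 LD3_c19) Lrfl Lrfl
theorem f326699 : Led Lsl_df (LP (LK LD1_c19 LD2_c38 LD3_c27)) = (LP (LK LD1_c19 LD2_c34 LD3_c58)) :=
  Lgr Lrot132 (Lpe (f326644 IH) (Lpe (f326643 IH) (Lpr_gf (K21.f326684 IH) (Lpe (K21.f233920 IH) (Lpr_dt (K14.f233918 IH) (Lpe (K12.f50514 IH) (Lpe (K13.f216835 IH) (Lpr_et (f216871 IH) (Lpe (f217199 IH) (Lpe (f326698 IH) (Lpn (LP (LK LD1_c19 LD2_c34 LD3_c58)))))))))))))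
theorem f348313 : Led Lsl_gf (LP (LK LD1_c10 LD2_c51 LD3_c51)) = (LP (LK LD1_c19 LD2_c38 LD3_c27)) :=
  Lgr Lrot145 (Lpe (f236204 IH) (Lpe (f236184 IH) (Lpe (K15.f259335 IH) (Lpe (f261386 IH) (Lpe (K10.f53567 IH) (Lpe (K9.f49564 IH) (Lpr_et (f51384 IH) (Lpr_gt (f348311 IH) (Lpe (f326698 IH) (Lpe (f326699 IH) (Lpn (LP (LK LD1_c19 LD2_c38 LD3_c27)))))))))))))
theorem f236212 : Led Lsl_dt (LP (LK LD1_c10 LD2_c51 LD3_c51)) = (LP (LK LD1_c5 LD2_c30 LD3_c13)) :=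
  Lre_d IH (LK LD1_c10 LD2_c51 LD3_c51) (LK LD1_c5 LD2_c30 LD3_c13) Lrfl Lrfl
theorem f236192 : Led Lsl_ct (LP (LK LD1_c5 LD2_c30 LD3_c13)) = (LP (LK LD1_c2 LD2_c41 LD3_c22)) :=
  Lre_c IH (LK LD1_c5 LD2_c30 LD3_c13) (LK LD1_c2 LD2_c41 LD3_c22) Lrfl Lrfl
theorem f330159 : Led Lsl_ct (LP (LK LD1_c5 LD2_c32 LD3_c30)) = (LP (LK LD1_c10 LD2_c56 LD3_c48)) :=
  Lre_c IH (LK LD1_c5 LD2_c32 LD3_c30) (LK LD1_c10 LD2_c56 LD3_c48) Lrfl Lrfl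
theorem f348315 : Led Lsl_gt (LP (LK LD1_c10 LD2_c56 LD3_c48)) = (LP (LK LD1_c19 LD2_c34 LD3_c58)) :=
  Lgr Lrot94 (Lpe (f330159 IH) (Lpe (f330156 IH) (Lpr_dt (K23.f330146 IH) (Lpr_gt (K15.f236197 IH) (Lpr_dt (K13.f236195 IH) (Lpe (f236192 IH) (Lpe (f236212 IH) (Lpr_gf (f348313 IH) (Lpr_df (f326699 IH) (Lpn (LP (LK LD1_c19 LD2_c34 LD3_c58))))))))))))
theorem f337834 : Led Lsl_cf (LP (LK LD1_c10 LD2_c49 LD3_c60)) = (LP (LK LD1_c10 LD2_c24 LD3_c29)) :=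
  Lgr Lrot166 (Lpr_gt (f217199 IH) (Lpr_dt (K12.f216883 IH) (Lpr_gt (K23.f216884 IH) (Lpr_dt (f337817 IH) (Lpe (K23.f337806 IH) (Lpe (K23.f189684 IH) (Lpe (K15.f222446 IH) (Lpe (K15.f222454 IH) (Lpr_gf (K23.f222466 IH) (Lpn (LP (LK LD1_c10 LD2_c24 LD3_c29))))))))))))
theorem f337838 : Led Lsl_et (LP (LK LD1_c10 LD2_c49 LD3_c60)) = (LP (LK LD1_c19 LD2_c34 LD3_c58)) :=
  Lre_e IH (LK LD1_c10 LD2_c49 LD3_c60) (LK LD1_c19 LD2_c34 LD3_c58) Lrfl Lrfl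
theorem f344798 : Led Lsl_ct (LP (LK LD1_c19 LD2_c34 LD3_c58)) = (LP (LK LD1_c17 LD2_c42 LD3_c13)) :=
  Lgr Lrot15 (Lpe (f337838 IH) (Lpr_cf (f337834 IH) (Lpr_ef (K23.f344794 IH) (Lpn (LP (LK LD1_c17 LD2_c42 LD3_c13))))))
theorem f191707 : Led Lsl_et (LP (LK LD1_c9 LD2_c34 LD3_c8)) = (LP (LK LD1_c17 LD2_c37 LD3_c16)) :=
  Lre_e IH (LK LD1_c9 LD2_c34 LD3_c8) (LK LD1_c17 LD2_c37 LD3_c16) Lrfl Lrfl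
theorem f349743 : Led Lsl_ef (LP (LK LD1_c25 LD2_c36 LD3_c40)) = (LP (LK LD1_c16 LD2_c8 LD3_c56)) :=
  Lgr Lrot88 (Lpr_et (K23.f349736 IH) (Lpn (LP (LK LD1_c16 LD2_c8 LD3_c56))))
theorem f353566 : Led Lsl_gt (LP (LK LD1_c17 LD2_c42 LD3_c13)) = (LP (LK LD1_c26 LD2_c5 LD3_c44)) :=
  Lgr Lrot139 (Lpe (K25.f344782 IH) (Lpe (K25.f344788 IH) (Lpr_ef (K24.f263599 IH) (Lpr_dt (K15.f33229 IH) (Lpr_gf (K25.f353562 IH) (Lpr_df (K23.f191705 IH) (Lpr_et (f191707 IH) (Lpe (K23.f349753 IH) (Lpr_ef (f349743 IH) (Lpr_dt (K23.f243417 IH) (Lpn (LP (LK LD1_c26 LD2_c5 LD3_c44)))))))))))))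
theorem f301167 : Led Lsl_cf (LP (LK LD1_c19 LD2_c38 LD3_c10)) = (LP (LK LD1_c26 LD2_c5 LD3_c44)) :=
  Lgr Lrot14 (Lpe (K23.f273668 IH) (Lpe (K23.f273664 IH) (Lpe (K22.f258746 IH) (Lpe (K16.f222522 IH) (Lpr_ct (K17.f273677 IH) (Lpe (K18.f301077 IH) (Lpr_dt (K19.f301127 IH) (Lpr_gt (K23.f243416 IH) (Lpr_dt (K23.f243417 IH) (Lpn (LP (LK LD1_c26 LD2_c5 LD3_c44))))))))))))
theorem f273716 : Led Lsl_ct (LP (LK LD1_c19 LD2_c38 LD3_c9)) = (LP (LK LD1_c10 LD2_c51 LD3_c42)) :=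
  Lre_c IH (LK LD1_c19 LD2_c38 LD3_c9) (LK LD1_c10 LD2_c51 LD3_c42) Lrfl Lrfl
theorem f298754 : Led Lsl_gt (LP (LK LD1_c28 LD2_c59 LD3_c43)) = (LP (LK LD1_c19 LD2_c38 LD3_c9)) :=
  Lre_g IH (LK LD1_c28 LD2_c59 LD3_c43) (LK LD1_c19 LD2_c38 LD3_c9) Lrfl Lrfl
theorem f359316 : Led Lsl_ct (LP (LK LD1_c24 LD2_c50 LD3_c5)) = (LP (LK LD1_c28 LD2_c59 LD3_c43)) :=
  Lgr Lrot152 (Lpr_gf (f359309 IH) (Lpe (f348321 IH) (Lpr_gt (f348315 IH) (Lpr_ct (f344798 IH) (Lpr_gt (f353566 IH) (Lpe (f301167 IH) (Lpe (K23.f273668 IH) (Lpe (f273716 IH) (Lpe (f298754 IH) (Lpn (LP (LK LD1_c28 LD2_c59 LD3_c43))))))))))))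
theorem f301080 : Led Lsl_ct (LP (LK LD1_c7 LD2_c58 LD3_c4)) = (LP (LK LD1_c15 LD2_c1 LD3_c50)) :=
  Lre_c IH (LK LD1_c7 LD2_c58 LD3_c4) (LK LD1_c15 LD2_c1 LD3_c50) Lrfl Lrfl
theorem f243551 : Led Lsl_gt (LP (LK LD1_c8 LD2_c18 LD3_c50)) = (LP (LK LD1_c15 LD2_c38 LD3_c18)) :=
  Lre_g IH (LK LD1_c8 LD2_c18 LD3_c50) (LK LD1_c15 LD2_c38 LD3_c18) Lrfl Lrfl
theorem f321616 : Led Lsl_df (LP (LK LD1_c8 LD2_c30 LD3_c22)) = (LP (LK LD1_c15 LD2_c38 LD3_c18)) :=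
  Lgr Lrot174 (Lpr_ct (K23.f243402 IH) (Lpe (K19.f301127 IH) (Lpr_gf (K18.f301077 IH) (Lpe (K15.f170349 IH) (Lpe (K19.f170364 IH) (Lpr_ct (K20.f321606 IH) (Lpr_gt (K20.f254752 IH) (Lpr_dt (K21.f234453 IH) (Lpr_gt (f243551 IH) (Lpn (LP (LK LD1_c15 LD2_c38 LD3_c18))))))))))))
theorem f347790 : Led Lsl_ct (LP (LK LD1_c25 LD2_c33 LD3_c39)) = (LP (LK LD1_c15 LD2_c38 LD3_c18)) :=
  Lre_c IH (LK LD1_c25 LD2_c33 LD3_c39) (LK LD1_c15 LD2_c38 LD3_c18) Lrfl Lrfl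
theorem f250650 : Led Lsl_ct (LP (LK LD1_c10 LD2_c51 LD3_c52)) = (LP (LK LD1_c5 LD2_c30 LD3_c14)) :=
  Lre_c IH (LK LD1_c10 LD2_c51 LD3_c52) (LK LD1_c5 LD2_c30 LD3_c14) Lrfl Lrfl
theorem f270965 : Led Lsl_ct (LP (LK LD1_c4 LD2_c8 LD3_c19)) = (LP (LK LD1_c8 LD2_c16 LD3_c40)) :=
  Lre_c IH (LK LD1_c4 LD2_c8 LD3_c19) (LK LD1_c8 LD2_c16 LD3_c40) Lrfl Lrfl
theorem f236202 : Led Lsl_dt (LP (LK LD1_c15 LD2_c33 LD3_c54)) = (LP (LK LD1_c8 LD2_c16 LD3_c40)) :=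
  Lre_d IH (LK LD1_c15 LD2_c33 LD3_c54) (LK LD1_c8 LD2_c16 LD3_c40) Lrfl Lrfl
theorem f222262 : Led Lsl_gt (LP (LK LD1_c25 LD2_c27 LD3_c36)) = (LP (LK LD1_c15 LD2_c33 LD3_c54)) :=
  Lre_g IH (LK LD1_c25 LD2_c27 LD3_c36) (LK LD1_c15 LD2_c33 LD3_c54) Lrfl Lrfl
theorem f347766 : Led Lsl_df (LP (LK LD1_c25 LD2_c27 LD3_c36)) = (LP (LK LD1_c15 LD2_c58 LD3_c23)) :=
  Lgr Lrot153 (Lpr_gt (f222262 IH) (Lpr_dt (f236202 IH) (Lpe (f270965 IH) (Lpr_df (K23.f236186 IH) (Lpe (K18.f222655 IH) (Lpr_df (K18.f295741 IH) (Lpe (K21.f295761 IH) (Lpe (f250650 IH) (Lpr_gt (K23.f347754 IH) (Lpn (LP (LK LD1_c15 LD2_c58 LD3_c23))))))))))))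
theorem f347775 : Led Lsl_ft (LP (LK LD1_c25 LD2_c27 LD3_c36)) = (LP (LK LD1_c15 LD2_c38 LD3_c18)) :=
  Lgr Lrot54 (Lpr_df (f347766 IH) (Lpe (K23.f243428 IH) (Lpr_df (f321616 IH) (Lpn (LP (LK LD1_c15 LD2_c38 LD3_c18))))))
theorem f222920 : Led Lsl_gt (LP (LK LD1_c15 LD2_c33 LD3_c54)) = (LP (LK LD1_c25 LD2_c27 LD3_c35)) :=
  Lre_g IH (LK LD1_c15 LD2_c33 LD3_c54) (LK LD1_c25 LD2_c27 LD3_c35) Lrfl Lrfl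
theorem f347785 : Led Lsl_af (LP (LK LD1_c25 LD2_c27 LD3_c35)) = (LP (LK LD1_c15 LD2_c38 LD3_c18)) :=
  Lgr Lrot31 (Lpe (f222920 IH) (Lpe (f222262 IH) (Lpr_ft (f347775 IH) (Lpn (LP (LK LD1_c15 LD2_c38 LD3_c18))))))
theorem f347787 : Led Lsl_at (LP (LK LD1_c25 LD2_c27 LD3_c35)) = (LP (LK LD1_c15 LD2_c38 LD3_c18)) :=
  Lgr Lrot100 (Lpr_af (f347785 IH) (Lpn (LP (LK LD1_c15 LD2_c38 LD3_c18))))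
theorem f347783 : Led Lsl_ff (LP (LK LD1_c25 LD2_c27 LD3_c36)) = (LP (LK LD1_c15 LD2_c38 LD3_c18)) :=
  Lgr Lrot3 (Lpr_ft (f347775 IH) (Lpn (LP (LK LD1_c15 LD2_c38 LD3_c18))))
theorem f234462 : Led Lsl_df (LP (LK LD1_c15 LD2_c37 LD3_c16)) = (LP (LK LD1_c15 LD2_c38 LD3_c19)) :=
  Lgr Lrot38 (Lpr_dt (K21.f234455 IH) (Lpn (LP (LK LD1_c15 LD2_c38 LD3_c19))))
theorem f347768 : Led Lsl_at (LP (LK LD1_c25 LD2_c27 LD3_c36)) = (LP (LK LD1_c15 LD2_c38 LD3_c19)) :=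
  Lgr Lrot51 (Lpr_df (f347766 IH) (Lpe (K23.f331188 IH) (Lpr_df (f234462 IH) (Lpn (LP (LK LD1_c15 LD2_c38 LD3_c19))))))
theorem f347794 : Led Lsl_ff (LP (LK LD1_c25 LD2_c27 LD3_c35)) = (LP (LK LD1_c15 LD2_c38 LD3_c19)) :=
  Lgr Lrot30 (Lpr_at (f347787 IH) (Lpe (f347783 IH) (Lpr_at (f347768 IH) (Lpn (LP (LK LD1_c15 LD2_c38 LD3_c19))))))
theorem f317566 : Led Lsl_dt (LP (LK LD1_c15 LD2_c36 LD3_c48)) = (LP (LK LD1_c25 LD2_c31 LD3_c23)) :=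
  Lre_d IH (LK LD1_c15 LD2_c36 LD3_c48) (LK LD1_c25 LD2_c31 LD3_c23) Lrfl Lrfl
theorem f273714 : Led Lsl_ct (LP (LK LD1_c10 LD2_c51 LD3_c42)) = (LP (LK LD1_c19 LD2_c38 LD3_c9)) :=
  Lre_c IH (LK LD1_c10 LD2_c51 LD3_c42) (LK LD1_c19 LD2_c38 LD3_c9) Lrfl Lrfl
theorem f273715 : Led Lsl_gt (LP (LK LD1_c19 LD2_c38 LD3_c9)) = (LP (LK LD1_c28 LD2_c59 LD3_c42)) :=
  Lre_g IH (LK LD1_c19 LD2_c38 LD3_c9) (LK LD1_c28 LD2_c59 LD3_c42) Lrfl Lrfl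
theorem f317561 : Led Lsl_dt (LP (LK LD1_c25 LD2_c31 LD3_c23)) = (LP (LK LD1_c15 LD2_c36 LD3_c48)) :=
  Lre_d IH (LK LD1_c25 LD2_c31 LD3_c23) (LK LD1_c15 LD2_c36 LD3_c48) Lrfl Lrfl
theorem f317564 : Led Lsl_ct (LP (LK LD1_c28 LD2_c59 LD3_c42)) = (LP (LK LD1_c25 LD2_c31 LD3_c23)) :=
  Lgr Lrot110 (Lpe (f273715 IH) (Lpe (f273714 IH) (Lpe (K23.f273664 IH) (Lpe (K22.f258746 IH) (Lpr_gt (K18.f216987 IH) (Lpr_ct (K22.f236216 IH) (Lpr_gt (K20.f317559 IH) (Lpr_ct (K20.f317558 IH) (Lpe (f317561 IH) (Lpn (LP (LK LD1_c25 LD2_c31 LD3_c23))))))))))))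
theorem f317571 : Led Lsl_cf (LP (LK LD1_c28 LD2_c59 LD3_c42)) = (LP (LK LD1_c25 LD2_c31 LD3_c23)) :=
  Lgr Lrot11 (Lpr_ct (f317564 IH) (Lpn (LP (LK LD1_c25 LD2_c31 LD3_c23))))
theorem f347796 : Led Lsl_dt (LP (LK LD1_c28 LD2_c59 LD3_c42)) = (LP (LK LD1_c25 LD2_c33 LD3_c39)) :=
  Lgr Lrot120 (Lpr_cf (f317571 IH) (Lpe (f317566 IH) (Lpe (K20.f317558 IH) (Lpe (K20.f317554 IH) (Lpe (K21.f331180 IH) (Lpr_df (f234462 IH) (Lpe (f347794 IH) (Lpr_at (f347787 IH) (Lpe (f347790 IH) (Lpn (LP (LK LD1_c25 LD2_c33 LD3_c39))))))))))))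
theorem f234473 : Led Lsl_ct (LP (LK LD1_c25 LD2_c33 LD3_c42)) = (LP (LK LD1_c15 LD2_c38 LD3_c19)) :=
  Lre_c IH (LK LD1_c25 LD2_c33 LD3_c42) (LK LD1_c15 LD2_c38 LD3_c19) Lrfl Lrfl
theorem f359320 : Led Lsl_df (LP (LK LD1_c25 LD2_c33 LD3_c42)) = (LP (LK LD1_c28 LD2_c59 LD3_c43)) :=
  Lgr Lrot43 (Lpr_ct (f234473 IH) (Lpe (f234462 IH) (Lpr_ct (K21.f331180 IH) (Lpr_dt (K20.f317554 IH) (Lpr_ct (K20.f317558 IH) (Lpr_dt (f317566 IH) (Lpe (f317571 IH) (Lpr_dt (f347796 IH) (Lpr_ct (f347790 IH) (Lpe (f321616 IH) (Lpr_ct (K23.f243402 IH) (Lpe (K19.f301095 IH) (Lpr_ct (f301080 IH) (Lpr_dt (f228035 IH) (Lpr_ct (f359316 IH) (Lpn (LP (LK LD1_c28 LD2_c59 LD3_c43))))))))))))))))))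
theorem f317556 : Led Lsl_af (LP (LK LD1_c15 LD2_c1 LD3_c51)) = (LP (LK LD1_c8 LD2_c18 LD3_c12)) :=
  Lgr Lrot0 (Lpr_at (K20.f317551 IH) (Lpn (LP (LK LD1_c8 LD2_c18 LD3_c12))))
theorem f347280 : Led Lsl_at (LP (LK LD1_c10 LD2_c51 LD3_c46)) = (LP (LK LD1_c15 LD2_c36 LD3_c48)) :=
  Lgr Lrot107 (Lpr_cf (K23.f347278 IH) (Lpr_af (f317556 IH) (Lpe (K21.f317553 IH) (Lpn (LP (LK LD1_c15 LD2_c36 LD3_c48))))))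
theorem f359324 : Led Lsl_ft (LP (LK LD1_c15 LD2_c1 LD3_c50)) = (LP (LK LD1_c10 LD2_c51 LD3_c46)) :=
  Lgr Lrot142 (Lpr_dt (f228035 IH) (Lpr_ct (f359316 IH) (Lpe (f359320 IH) (Lpr_ct (f234473 IH) (Lpe (f234462 IH) (Lpr_ct (K21.f331180 IH) (Lpr_dt (K20.f317554 IH) (Lpr_ct (K20.f317558 IH) (Lpe (f347280 IH) (Lpn (LP (LK LD1_c10 LD2_c51 LD3_c46))))))))))))
theorem f359330 : Led Lsl_gt (LP (LK LD1_c15 LD2_c1 LD3_c50)) = (LP (LK LD1_c10 LD2_c50 LD3_c16)) :=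
  Lgr Lrot5 (Lpr_ft (f359324 IH) (Lpr_at (f347280 IH) (Lpe (K21.f331178 IH) (Lpn (LP (LK LD1_c10 LD2_c50 LD3_c16))))))
theorem f199256 : Led Lsl_bt (LP (LK LD1_c1 LD2_c59 LD3_c21)) = (LP (LK LD1_c4 LD2_c4 LD3_c37)) :=
  Lre_b IH (LK LD1_c1 LD2_c59 LD3_c21) (LK LD1_c4 LD2_c4 LD3_c37) Lrfl Lrfl
theorem f310800 : Led Lsl_bt (LP (LK LD1_c8 LD2_c41 LD3_c23)) = (LP (LK LD1_c10 LD2_c31 LD3_c13)) :=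
  Lgr Lrot22 (Lpr_ct (K17.f43126 IH) (Lpr_gf (K18.f279754 IH) (Lpr_cf (K18.f247031 IH) (Lpe (K14.f199220 IH) (Lpe (f199256 IH) (Lpr_ct (K19.f224906 IH) (Lpr_gf (K25.f291147 IH) (Lpe (K20.f227206 IH) (Lpr_bt (K17.f265801 IH) (Lpr_gf (K19.f310796 IH) (Lpn (LP (LK LD1_c10 LD2_c31 LD3_c13)))))))))))))
theorem f359336 : Led Lsl_gf (LP (LK LD1_c10 LD2_c31 LD3_c13)) = (LP (LK LD1_c5 LD2_c23 LD3_c35)) :=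
  Lgr Lrot124 (Lpe (f310800 IH) (Lpr_ct (K17.f43126 IH) (Lpr_gt (K17.f279435 IH) (Lpe (K17.f239867 IH) (Lpr_bt (K15.f239865 IH) (Lpe (K18.f301077 IH) (Lpr_ct (f301080 IH) (Lpr_gt (f359330 IH) (Lpe (K21.f282906 IH) (Lpr_bt (K21.f331060 IH) (Lpn (LP (LK LD1_c5 LD2_c23 LD3_c35)))))))))))))
theorem f331336 : Led Lsl_dt (LP (LK LD1_c8 LD2_c31 LD3_c34)) = (LP (LK LD1_c10 LD2_c21 LD3_c7)) :=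
  Lgr Lrot42 (Lpr_df (K21.f331334 IH) (Lpn (LP (LK LD1_c10 LD2_c21 LD3_c7))))
theorem f229916 : Led Lsl_dt (LP (LK LD1_c10 LD2_c37 LD3_c42)) = (LP (LK LD1_c5 LD2_c23 LD3_c35)) :=
  Lre_d IH (LK LD1_c10 LD2_c37 LD3_c42) (LK LD1_c5 LD2_c23 LD3_c35) Lrfl Lrfl
theorem f359338 : Led Lsl_gt (LP (LK LD1_c8 LD2_c22 LD3_c14)) = (LP (LK LD1_c10 LD2_c37 LD3_c42)) :=
  Lgr Lrot137 (Lpr_ef (K24.f331350 IH) (Lpr_dt (f331336 IH) (Lpe (K21.f311423 IH) (Lpe (K19.f187145 IH) (Lpr_et (K19.f219688 IH) (Lpe (K19.f219693 IH) (Lpe (K19.f219694 IH) (Lpr_dt (K19.f310802 IH) (Lpr_gf (f359336 IH) (Lpe (f229916 IH) (Lpn (LP (LK LD1_c10 LD2_c37 LD3_c42)))))))))))))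
theorem f309911 : Led Lsl_bt (LP (LK LD1_c4 LD2_c11 LD3_c8)) = (LP (LK LD1_c8 LD2_c22 LD3_c14)) :=
  Lre_b IH (LK LD1_c4 LD2_c11 LD3_c8) (LK LD1_c8 LD2_c22 LD3_c14) Lrfl Lrfl
theorem f309912 : Led Lsl_gf (LP (LK LD1_c8 LD2_c22 LD3_c14)) = (LP (LK LD1_c4 LD2_c21 LD3_c12)) :=
  Lgr Lrot124 (Lpe (f309911 IH) (Lpr_ct (K21.f215535 IH) (Lpr_gt (K21.f215533 IH) (Lpr_cf (K21.f309904 IH) (Lpr_bt (K21.f291043 IH) (Lpe (K21.f291031 IH) (Lpr_ct (K19.f224905 IH) (Lpr_gt (K19.f224925 IH) (Lpr_cf (K24.f186948 IH) (Lpe (K17.f219477 IH) (Lpn (LP (LK LD1_c4 LD2_c21 LD3_c12)))))))))))))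
theorem f219482 : Led Lsl_ft (LP (LK LD1_c4 LD2_c21 LD3_c12)) = (LP (LK LD1_c8 LD2_c40 LD3_c1)) :=
  Lre_f IH (LK LD1_c4 LD2_c21 LD3_c12) (LK LD1_c8 LD2_c40 LD3_c1) Lrfl Lrfl
theorem f359340 : Led Lsl_at (LP (LK LD1_c8 LD2_c40 LD3_c1)) = (LP (LK LD1_c10 LD2_c37 LD3_c42)) :=
  Lgr Lrot26 (Lpe (f219482 IH) (Lpe (f309912 IH) (Lpr_gt (f359338 IH) (Lpn (LP (LK LD1_c10 LD2_c37 LD3_c42))))))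
theorem f359345 : Led Lsl_af (LP (LK LD1_c8 LD2_c40 LD3_c1)) = (LP (LK LD1_c10 LD2_c37 LD3_c42)) :=
  Lgr Lrot0 (Lpr_at (f359340 IH) (Lpn (LP (LK LD1_c10 LD2_c37 LD3_c42))))
theorem f359348 : Led Lsl_ct (LP (LK LD1_c8 LD2_c40 LD3_c1)) = (LP (LK LD1_c16 LD2_c13 LD3_c48)) :=
  Lre_c IH (LK LD1_c8 LD2_c40 LD3_c1) (LK LD1_c16 LD2_c13 LD3_c48) Lrfl Lrfl
theorem f167015 : Led Lsl_gt (LP (LK LD1_c2 LD2_c24 LD3_c29)) = (LP (LK LD1_c4 LD2_c53 LD3_c22)) :=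
  Lre_g IH (LK LD1_c2 LD2_c24 LD3_c29) (LK LD1_c4 LD2_c53 LD3_c22) Lrfl Lrfl
theorem f167028 : Led Lsl_ct (LP (LK LD1_c4 LD2_c53 LD3_c22)) = (LP (LK LD1_c9 LD2_c38 LD3_c50)) :=
  Lre_c IH (LK LD1_c4 LD2_c53 LD3_c22) (LK LD1_c9 LD2_c38 LD3_c50) Lrfl Lrfl
theorem f167029 : Led Lsl_gt (LP (LK LD1_c9 LD2_c38 LD3_c50)) = (LP (LK LD1_c17 LD2_c45 LD3_c3)) :=
  Lre_g IH (LK LD1_c9 LD2_c38 LD3_c50) (LK LD1_c17 LD2_c45 LD3_c3) Lrfl Lrfl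
theorem f312662 : Led Lsl_ct (LP (LK LD1_c10 LD2_c37 LD3_c41)) = (LP (LK LD1_c5 LD2_c23 LD3_c35)) :=
  Lre_c IH (LK LD1_c10 LD2_c37 LD3_c41) (LK LD1_c5 LD2_c23 LD3_c35) Lrfl Lrfl
theorem f331056 : Led Lsl_ct (LP (LK LD1_c17 LD2_c45 LD3_c3)) = (LP (LK LD1_c10 LD2_c37 LD3_c42)) :=
  Lgr Lrot110 (Lpe (f167029 IH) (Lpe (f167028 IH) (Lpe (f167015 IH) (Lpe (K16.f179956 IH) (Lpe (K16.f271171 IH) (Lpr_ct (K21.f254914 IH) (Lpr_gt (K21.f331054 IH) (Lpr_ct (f312662 IH) (Lpe (f229916 IH) (Lpn (LP (LK LD1_c10 LD2_c37 LD3_c42))))))))))))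
theorem f359349 : Led Lsl_at (LP (LK LD1_c16 LD2_c13 LD3_c48)) = (LP (LK LD1_c17 LD2_c45 LD3_c3)) :=
  Lgr Lrot107 (Lpe (f359348 IH) (Lpr_af (f359345 IH) (Lpe (f331056 IH) (Lpn (LP (LK LD1_c17 LD2_c45 LD3_c3))))))
theorem f359353 : Led Lsl_ft (LP (LK LD1_c8 LD2_c39 LD3_c61)) = (LP (LK LD1_c16 LD2_c13 LD3_c48)) :=
  Lre_f IH (LK LD1_c8 LD2_c39 LD3_c61) (LK LD1_c16 LD2_c13 LD3_c48) Lrfl Lrfl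
theorem f359354 : Led Lsl_gt (LP (LK LD1_c8 LD2_c39 LD3_c61)) = (LP (LK LD1_c9 LD2_c38 LD3_c50)) :=
  Lgr Lrot5 (Lpr_ft (f359353 IH) (Lpr_at (f359349 IH) (Lpe (f167029 IH) (Lpn (LP (LK LD1_c9 LD2_c38 LD3_c50))))))
theorem f219481 : Led Lsl_ct (LP (LK LD1_c4 LD2_c21 LD3_c12)) = (LP (LK LD1_c8 LD2_c39 LD3_c61)) :=
  Lre_c IH (LK LD1_c4 LD2_c21 LD3_c12) (LK LD1_c8 LD2_c39 LD3_c61) Lrfl Lrfl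
theorem f359356 : Led Lsl_bt (LP (LK LD1_c4 LD2_c53 LD3_c22)) = (LP (LK LD1_c9 LD2_c38 LD3_c49)) :=
  Lre_b IH (LK LD1_c4 LD2_c53 LD3_c22) (LK LD1_c9 LD2_c38 LD3_c49) Lrfl Lrfl
theorem f359357 : Led Lsl_gf (LP (LK LD1_c15 LD2_c6 LD3_c42)) = (LP (LK LD1_c9 LD2_c38 LD3_c49)) :=
  Lgr Lrot124 (Lpe (K17.f247120 IH) (Lpr_ct (K16.f270841 IH) (Lpe (K24.f255704 IH) (Lpe (K17.f255604 IH) (Lpe (K24.f350019 IH) (Lpr_gt (K24.f219483 IH) (Lpr_ct (f219481 IH) (Lpr_gt (f359354 IH) (Lpe (f167028 IH) (Lpr_bt (f359356 IH) (Lpn (LP (LK LD1_c9 LD2_c38 LD3_c49)))))))))))))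
theorem f229521 : Led Lsl_et (LP (LK LD1_c18 LD2_c28 LD3_c35)) = (LP (LK LD1_c10 LD2_c8 LD3_c36)) :=
  Lre_e IH (LK LD1_c18 LD2_c28 LD3_c35) (LK LD1_c10 LD2_c8 LD3_c36) Lrfl Lrfl
theorem f192288 : Led Lsl_gt (LP (LK LD1_c25 LD2_c19 LD3_c38)) = (LP (LK LD1_c15 LD2_c27 LD3_c46)) :=
  Lre_g IH (LK LD1_c25 LD2_c19 LD3_c38) (LK LD1_c15 LD2_c27 LD3_c46) Lrfl Lrfl
theorem f257578 : Led Lsl_df (LP (LK LD1_c25 LD2_c19 LD3_c38)) = (LP (LK LD1_c18 LD2_c28 LD3_c35)) :=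
  Lgr Lrot170 (Lpr_gt (f192288 IH) (Lpr_df (K15.f192281 IH) (Lpr_et (K14.f192275 IH) (Lpe (K15.f212240 IH) (Lpr_dt (K15.f257568 IH) (Lpe (K12.f229516 IH) (Lpe (K12.f196334 IH) (Lpr_et (K15.f229511 IH) (Lpr_gt (K25.f229520 IH) (Lpe (f229521 IH) (Lpn (LP (LK LD1_c18 LD2_c28 LD3_c35)))))))))))))
theorem f355679 : Led Lsl_gt (LP (LK LD1_c18 LD2_c27 LD3_c21)) = (LP (LK LD1_c25 LD2_c19 LD3_c38)) :=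
  Lgr Lrot112 (Lpe (K14.f247046 IH) (Lpe (K16.f279339 IH) (Lpe (f355677 IH) (Lpr_ef (K25.f305962 IH) (Lpr_dt (K25.f355670 IH) (Lpe (K23.f266229 IH) (Lpr_df (K15.f266225 IH) (Lpe (K25.f266227 IH) (Lpe (f229521 IH) (Lpe (f257578 IH) (Lpn (LP (LK LD1_c25 LD2_c19 LD3_c38)))))))))))))
theorem f257580 : Led Lsl_dt (LP (LK LD1_c25 LD2_c19 LD3_c38)) = (LP (LK LD1_c18 LD2_c28 LD3_c35)) :=
  Lgr Lrot42 (Lpr_df (f257578 IH) (Lpn (LP (LK LD1_c18 LD2_c28 LD3_c35))))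
theorem f257582 : Led Lsl_et (LP (LK LD1_c10 LD2_c8 LD3_c36)) = (LP (LK LD1_c18 LD2_c28 LD3_c35)) :=
  Lre_e IH (LK LD1_c10 LD2_c8 LD3_c36) (LK LD1_c18 LD2_c28 LD3_c35) Lrfl Lrfl
theorem f297716 : Led Lsl_gt (LP (LK LD1_c18 LD2_c28 LD3_c35)) = (LP (LK LD1_c17 LD2_c50 LD3_c36)) :=
  Lgr Lrot137 (Lpe (f257582 IH) (Lpr_dt (K25.f297710 IH) (Lpe (K25.f238274 IH) (Lpe (K18.f238258 IH) (Lpr_et (K13.f238259 IH) (Lpr_gf (K14.f247521 IH) (Lpr_ef (K14.f251347 IH) (Lpr_dt (K14.f168573 IH) (Lpe (K14.f168578 IH) (Lpe (K14.f168592 IH) (Lpn (LP (LK LD1_c17 LD2_c50 LD3_c36)))))))))))))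
theorem f168591 : Led Lsl_dt (LP (LK LD1_c9 LD2_c42 LD3_c3)) = (LP (LK LD1_c17 LD2_c50 LD3_c36)) :=
  Lre_d IH (LK LD1_c9 LD2_c42 LD3_c3) (LK LD1_c17 LD2_c50 LD3_c36) Lrfl Lrfl
theorem f359177 : Led Lsl_dt (LP (LK LD1_c9 LD2_c57 LD3_c35)) = (LP (LK LD1_c18 LD2_c13 LD3_c34)) :=
  Lre_d IH (LK LD1_c9 LD2_c57 LD3_c35) (LK LD1_c18 LD2_c13 LD3_c34) Lrfl Lrfl
theorem f251607 : Led Lsl_dt (LP (LK LD1_c25 LD2_c0 LD3_c11)) = (LP (LK LD1_c17 LD2_c50 LD3_c37)) :=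
  Lgr Lrot42 (Lpr_df (K14.f251605 IH) (Lpn (LP (LK LD1_c17 LD2_c50 LD3_c37))))
theorem f359178 : Led Lsl_gf (LP (LK LD1_c18 LD2_c13 LD3_c34)) = (LP (LK LD1_c17 LD2_c50 LD3_c37)) :=
  Lgr Lrot134 (Lpe (f359177 IH) (Lpr_et (f359170 IH) (Lpr_gt (K23.f229537 IH) (Lpe (K15.f229511 IH) (Lpr_dt (K12.f196334 IH) (Lpr_gt (K12.f230412 IH) (Lpe (K14.f251613 IH) (Lpr_et (K14.f237079 IH) (Lpr_gt (K14.f237095 IH) (Lpr_dt (f251607 IH) (Lpn (LP (LK LD1_c17 LD2_c50 LD3_c37)))))))))))))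
theorem f359362 : Led Lsl_dt (LP (LK LD1_c17 LD2_c45 LD3_c2)) = (LP (LK LD1_c9 LD2_c38 LD3_c49)) :=
  Lre_d IH (LK LD1_c17 LD2_c45 LD3_c2) (LK LD1_c9 LD2_c38 LD3_c49) Lrfl Lrfl
theorem f359370 : Led Lsl_ef (LP (LK LD1_c18 LD2_c13 LD3_c34)) = (LP (LK LD1_c17 LD2_c45 LD3_c2)) :=
  Lgr Lrot17 (Lpr_gf (f359178 IH) (Lpe (K14.f251395 IH) (Lpr_dt (f168591 IH) (Lpe (f297716 IH) (Lpe (f257580 IH) (Lpe (f355679 IH) (Lpr_ef (K22.f247029 IH) (Lpr_dt (K16.f247128 IH) (Lpr_gf (f359357 IH) (Lpe (f359362 IH) (Lpn (LP (LK LD1_c17 LD2_c45 LD3_c2)))))))))))))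
theorem f359376 : Led Lsl_et (LP (LK LD1_c18 LD2_c13 LD3_c34)) = (LP (LK LD1_c17 LD2_c45 LD3_c2)) :=
  Lgr Lrot87 (Lpr_ef (f359370 IH) (Lpn (LP (LK LD1_c17 LD2_c45 LD3_c2))))
theorem f359207 : Led Lsl_df (LP (LK LD1_c10 LD2_c8 LD3_c37)) = (LP (LK LD1_c9 LD2_c35 LD3_c29)) :=
  Lgr Lrot38 (Lpr_dt (f359205 IH) (Lpn (LP (LK LD1_c9 LD2_c35 LD3_c29))))
theorem f359383 : Led Lsl_ef (LP (LK LD1_c9 LD2_c35 LD3_c29)) = (LP (LK LD1_c9 LD2_c38 LD3_c49)) :=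
  Lgr Lrot73 (Lpe (f359207 IH) (Lpe (f359175 IH) (Lpr_dt (f359177 IH) (Lpr_et (f359376 IH) (Lpr_dt (f359362 IH) (Lpn (LP (LK LD1_c9 LD2_c38 LD3_c49))))))))
theorem f359213 : Led Lsl_gt (LP (LK LD1_c17 LD2_c39 LD3_c35)) = (LP (LK LD1_c9 LD2_c35 LD3_c29)) :=
  Lre_g IH (LK LD1_c17 LD2_c39 LD3_c35) (LK LD1_c9 LD2_c35 LD3_c29) Lrfl Lrfl
theorem f359367 : Led Lsl_dt (LP (LK LD1_c9 LD2_c38 LD3_c49)) = (LP (LK LD1_c17 LD2_c45 LD3_c2)) :=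
  Lre_d IH (LK LD1_c9 LD2_c38 LD3_c49) (LK LD1_c17 LD2_c45 LD3_c2) Lrfl Lrfl
theorem f329568 : Led Lsl_ct (LP (LK LD1_c8 LD2_c34 LD3_c37)) = (LP (LK LD1_c4 LD2_c17 LD3_c45)) :=
  Lre_c IH (LK LD1_c8 LD2_c34 LD3_c37) (LK LD1_c4 LD2_c17 LD3_c45) Lrfl Lrfl
theorem f357463 : Led Lsl_gt (LP (LK LD1_c26 LD2_c2 LD3_c47)) = (LP (LK LD1_c16 LD2_c5 LD3_c49)) :=
  Lgr Lrot65 (Lpr_cf (K25.f357458 IH) (Lpr_bt (K25.f346575 IH) (Lpr_gf (K23.f346573 IH) (Lpe (f346563 IH) (Lpr_ct (f171066 IH) (Lpe (K25.f350015 IH) (Lpr_cf (K25.f228293 IH) (Lpr_gf (K22.f338586 IH) (Lpr_bf (K22.f310509 IH) (Lpr_ct (K23.f310467 IH) (Lpn (LP (LK LD1_c16 LD2_c5 LD3_c49)))))))))))))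
theorem f359365 : Led Lsl_gf (LP (LK LD1_c25 LD2_c45 LD3_c29)) = (LP (LK LD1_c17 LD2_c45 LD3_c2)) :=
  Lgr Lrot147 (Lpe (K25.f357458 IH) (Lpr_gt (f357463 IH) (Lpr_ct (K23.f323736 IH) (Lpe (K22.f310466 IH) (Lpe (f329568 IH) (Lpe (K24.f335706 IH) (Lpr_cf (K22.f335704 IH) (Lpr_gf (f359357 IH) (Lpe (f359362 IH) (Lpn (LP (LK LD1_c17 LD2_c45 LD3_c2))))))))))))
theorem f357321 : Led Lsl_dt (LP (LK LD1_c15 LD2_c49 LD3_c2)) = (LP (LK LD1_c25 LD2_c45 LD3_c29)) :=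
  Lre_d IH (LK LD1_c15 LD2_c49 LD3_c2) (LK LD1_c25 LD2_c45 LD3_c29) Lrfl Lrfl
theorem f339511 : Led Lsl_at (LP (LK LD1_c8 LD2_c24 LD3_c9)) = (LP (LK LD1_c14 LD2_c58 LD3_c10)) :=
  Lgr Lrot100 (Lpr_af (K22.f339507 IH) (Lpn (LP (LK LD1_c14 LD2_c58 LD3_c10))))
theorem f357317 : Led Lsl_gt (LP (LK LD1_c11 LD2_c9 LD3_c35)) = (LP (LK LD1_c14 LD2_c58 LD3_c10)) :=
  Lgr Lrot46 (Lpr_gf (K25.f357315 IH) (Lpr_ft (K21.f167148 IH) (Lpr_at (f339511 IH) (Lpn (LP (LK LD1_c14 LD2_c58 LD3_c10))))))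
theorem f326397 : Led Lsl_af (LP (LK LD1_c9 LD2_c41 LD3_c52)) = (LP (LK LD1_c15 LD2_c23 LD3_c9)) :=
  Lgr Lrot117 (Lpr_dt (K23.f246761 IH) (Lpr_at (K21.f326393 IH) (Lpe (K21.f326382 IH) (Lpn (LP (LK LD1_c15 LD2_c23 LD3_c9))))))
theorem f345633 : Led Lsl_gf (LP (LK LD1_c10 LD2_c38 LD3_c8)) = (LP (LK LD1_c8 LD2_c18 LD3_c6)) :=
  Lgr Lrot47 (Lpr_gt (f345631 IH) (Lpr_af (f326397 IH) (Lpr_ff (K21.f326366 IH) (Lpn (LP (LK LD1_c8 LD2_c18 LD3_c6))))))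
theorem f339603 : Led Lsl_dt (LP (LK LD1_c19 LD2_c15 LD3_c59)) = (LP (LK LD1_c10 LD2_c38 LD3_c8)) :=
  Lre_d IH (LK LD1_c19 LD2_c15 LD3_c59) (LK LD1_c10 LD2_c38 LD3_c8) Lrfl Lrfl
theorem f359390 : Led Lsl_ef (LP (LK LD1_c17 LD2_c39 LD3_c35)) = (LP (LK LD1_c19 LD2_c15 LD3_c59)) :=
  Lgr Lrot114 (Lpr_gt (f359213 IH) (Lpr_ef (f359383 IH) (Lpr_dt (f359367 IH) (Lpe (f359365 IH) (Lpe (f357321 IH) (Lpr_et (K25.f346591 IH) (Lpr_gt (f357317 IH) (Lpr_dt (K19.f229583 IH) (Lpe (f345633 IH) (Lpe (f339603 IH) (Lpn (LP (LK LD1_c19 LD2_c15 LD3_c59)))))))))))))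
theorem f359393 : Led Lsl_et (LP (LK LD1_c17 LD2_c39 LD3_c35)) = (LP (LK LD1_c19 LD2_c15 LD3_c59)) :=
  Lgr Lrot87 (Lpr_ef (f359390 IH) (Lpn (LP (LK LD1_c19 LD2_c15 LD3_c59))))
theorem f359398 : Led Lsl_ft (LP (LK LD1_c9 LD2_c35 LD3_c24)) = (LP (LK LD1_c17 LD2_c39 LD3_c35)) :=
  Lre_f IH (LK LD1_c9 LD2_c35 LD3_c24) (LK LD1_c17 LD2_c39 LD3_c35) Lrfl Lrfl
theorem f359399 : Led Lsl_et (LP (LK LD1_c4 LD2_c51 LD3_c39)) = (LP (LK LD1_c9 LD2_c35 LD3_c24)) :=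
  Lre_e IH (LK LD1_c4 LD2_c51 LD3_c39) (LK LD1_c9 LD2_c35 LD3_c24) Lrfl Lrfl
theorem f266932 : Led Lsl_at (LP (LK LD1_c4 LD2_c51 LD3_c39)) = (LP (LK LD1_c2 LD2_c23 LD3_c40)) :=
  Lre_a IH (LK LD1_c4 LD2_c51 LD3_c39) (LK LD1_c2 LD2_c23 LD3_c40) Lrfl Lrfl
theorem f295982 : Led Lsl_ff (LP (LK LD1_c4 LD2_c51 LD3_c39)) = (LP (LK LD1_c8 LD2_c31 LD3_c57)) :=
  Lgr Lrot103 (Lpr_at (f266932 IH) (Lpe (K15.f2113 IH) (Lpe (K18.f2114 IH) (Lpr_cf (K18.f295940 IH) (Lpe (K18.f218076 IH) (Lpe (K12.f168005 IH) (Lpr_df (K16.f266875 IH) (Lpe (K15.f254173 IH) (Lpe (K15.f266879 IH) (Lpn (LP (LK LD1_c8 LD2_c31 LD3_c57))))))))))))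
theorem f359400 : Led Lsl_ff (LP (LK LD1_c16 LD2_c1 LD3_c6)) = (LP (LK LD1_c19 LD2_c15 LD3_c59)) :=
  Lgr Lrot72 (Lpr_et (K20.f221840 IH) (Lpe (f295982 IH) (Lpr_et (f359399 IH) (Lpr_ft (f359398 IH) (Lpr_et (f359393 IH) (Lpn (LP (LK LD1_c19 LD2_c15 LD3_c59))))))))
theorem f339618 : Led Lsl_dt (LP (LK LD1_c10 LD2_c38 LD3_c8)) = (LP (LK LD1_c19 LD2_c15 LD3_c59)) :=
  Lre_d IH (LK LD1_c10 LD2_c38 LD3_c8) (LK LD1_c19 LD2_c15 LD3_c59) Lrfl Lrfl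
theorem f278493 : Led Lsl_gt (LP (LK LD1_c8 LD2_c22 LD3_c11)) = (LP (LK LD1_c4 LD2_c11 LD3_c7)) :=
  Lre_g IH (LK LD1_c8 LD2_c22 LD3_c11) (LK LD1_c4 LD2_c11 LD3_c7) Lrfl Lrfl
theorem f287787 : Led Lsl_ct (LP (LK LD1_c15 LD2_c45 LD3_c5)) = (LP (LK LD1_c8 LD2_c22 LD3_c11)) :=
  Lre_c IH (LK LD1_c15 LD2_c45 LD3_c5) (LK LD1_c8 LD2_c22 LD3_c11) Lrfl Lrfl
theorem f345637 : Led Lsl_gt (LP (LK LD1_c19 LD2_c15 LD3_c59)) = (LP (LK LD1_c15 LD2_c45 LD3_c5)) :=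
  Lgr Lrot9 (Lpe (f339618 IH) (Lpr_gt (f345631 IH) (Lpr_ct (K23.f344243 IH) (Lpr_gt (K23.f167693 IH) (Lpr_ct (K18.f167690 IH) (Lpe (K16.f215461 IH) (Lpe (K23.f215530 IH) (Lpe (f278493 IH) (Lpe (f287787 IH) (Lpn (LP (LK LD1_c15 LD2_c45 LD3_c5))))))))))))
theorem f359410 : Led Lsl_at (LP (LK LD1_c16 LD2_c1 LD3_c6)) = (LP (LK LD1_c9 LD2_c33 LD3_c51)) :=
  Lgr Lrot26 (Lpr_ff (f359400 IH) (Lpr_gt (f345637 IH) (Lpr_gt (f345601 IH) (Lpn (LP (LK LD1_c9 LD2_c33 LD3_c51))))))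
theorem f359418 : Led Lsl_af (LP (LK LD1_c8 LD2_c31 LD3_c57)) = (LP (LK LD1_c4 LD2_c50 LD3_c53)) :=
  Lgr Lrot50 (Lpr_et (K20.f246779 IH) (Lpr_at (f359410 IH) (Lpr_et (K19.f189264 IH) (Lpn (LP (LK LD1_c4 LD2_c50 LD3_c53))))))
theorem f359426 : Led Lsl_ft (LP (LK LD1_c2 LD2_c23 LD3_c40)) = (LP (LK LD1_c4 LD2_c50 LD3_c53)) :=
  Lgr Lrot101 (Lpe (f266932 IH) (Lpr_ff (f295982 IH) (Lpr_af (f359418 IH) (Lpn (LP (LK LD1_c4 LD2_c50 LD3_c53))))))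
theorem f359435 : Led Lsl_ff (LP (LK LD1_c2 LD2_c23 LD3_c40)) = (LP (LK LD1_c4 LD2_c50 LD3_c53)) :=
  Lgr Lrot3 (Lpr_ft (f359426 IH) (Lpn (LP (LK LD1_c4 LD2_c50 LD3_c53))))
theorem f266936 : Led Lsl_at (LP (LK LD1_c2 LD2_c23 LD3_c40)) = (LP (LK LD1_c4 LD2_c51 LD3_c39)) :=
  Lre_a IH (LK LD1_c2 LD2_c23 LD3_c40) (LK LD1_c4 LD2_c51 LD3_c39) Lrfl Lrfl
theorem f267569 : Led Lsl_cf (LP (LK LD1_c7 LD2_c57 LD3_c59)) = (LP (LK LD1_c9 LD2_c34 LD3_c47)) :=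
  Lgr Lrot11 (Lpr_ct (K15.f267560 IH) (Lpn (LP (LK LD1_c9 LD2_c34 LD3_c47))))
theorem f336264 : Led Lsl_cf (LP (LK LD1_c10 LD2_c32 LD3_c36)) = (LP (LK LD1_c15 LD2_c0 LD3_c61)) :=
  Lgr Lrot166 (Lpr_gt (K18.f253990 IH) (Lpr_dt (K15.f182267 IH) (Lpr_gt (K15.f260886 IH) (Lpr_dt (K15.f260888 IH) (Lpe (f267569 IH) (Lpe (K15.f223135 IH) (Lpe (K18.f190816 IH) (Lpe (K18.f226815 IH) (Lpr_gf (K22.f336260 IH) (Lpn (LP (LK LD1_c15 LD2_c0 LD3_c61))))))))))))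
theorem f359448 : Led Lsl_cf (LP (LK LD1_c4 LD2_c51 LD3_c39)) = (LP (LK LD1_c5 LD2_c21 LD3_c12)) :=
  Lgr Lrot102 (Lpe (f266936 IH) (Lpr_ff (f359435 IH) (Lpe (K14.f189241 IH) (Lpr_ct (K13.f219195 IH) (Lpr_dt (K13.f189453 IH) (Lpr_ct (K16.f189484 IH) (Lpr_dt (K22.f189485 IH) (Lpe (f336264 IH) (Lpr_dt (K18.f41927 IH) (Lpn (LP (LK LD1_c5 LD2_c21 LD3_c12))))))))))))
theorem f359462 : Led Lsl_df (LP (LK LD1_c4 LD2_c51 LD3_c39)) = (LP (LK LD1_c4 LD2_c5 LD3_c10)) :=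
  Lgr Lrot84 (Lpr_cf (f359448 IH) (Lpe (K18.f41927 IH) (Lpe (K22.f336266 IH) (Lpe (K16.f233312 IH) (Lpr_gf (K15.f246813 IH) (Lpe (K15.f229619 IH) (Lpr_gt (K14.f229618 IH) (Lpe (K18.f278422 IH) (Lpr_gt (K16.f191062 IH) (Lpn (LP (LK LD1_c4 LD2_c5 LD3_c10))))))))))))
theorem f359452 : Led Lsl_ct (LP (LK LD1_c4 LD2_c51 LD3_c39)) = (LP (LK LD1_c5 LD2_c21 LD3_c12)) :=
  Lgr Lrot59 (Lpr_cf (f359448 IH) (Lpn (LP (LK LD1_c5 LD2_c21 LD3_c12))))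
theorem f189490 : Led Lsl_dt (LP (LK LD1_c15 LD2_c0 LD3_c61)) = (LP (LK LD1_c7 LD2_c57 LD3_c41)) :=
  Lre_d IH (LK LD1_c15 LD2_c0 LD3_c61) (LK LD1_c7 LD2_c57 LD3_c41) Lrfl Lrfl
theorem f359424 : Led Lsl_at (LP (LK LD1_c4 LD2_c19 LD3_c42)) = (LP (LK LD1_c5 LD2_c36 LD3_c9)) :=
  Lgr Lrot51 (Lpe (K15.f266879 IH) (Lpr_af (f359418 IH) (Lpe (K13.f189255 IH) (Lpn (LP (LK LD1_c5 LD2_c36 LD3_c9))))))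
theorem f359483 : Led Lsl_ff (LP (LK LD1_c4 LD2_c19 LD3_c42)) = (LP (LK LD1_c4 LD2_c5 LD3_c10)) :=
  Lgr Lrot103 (Lpr_at (f359424 IH) (Lpr_cf (K13.f219197 IH) (Lpr_df (K14.f189486 IH) (Lpe (K13.f41969 IH) (Lpe (f189490 IH) (Lpe (K22.f336262 IH) (Lpe (K18.f199798 IH) (Lpe (f359452 IH) (Lpr_df (f359462 IH) (Lpn (LP (LK LD1_c4 LD2_c5 LD3_c10))))))))))))
theorem f359487 : Led Lsl_ft (LP (LK LD1_c2 LD2_c7 LD3_c13)) = (LP (LK LD1_c1 LD2_c59 LD3_c47)) :=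
  Lgr Lrot4 (Lpe (K15.f254173 IH) (Lpr_ff (f359483 IH) (Lpe (K15.f191058 IH) (Lpn (LP (LK LD1_c1 LD2_c59 LD3_c47))))))
theorem f359495 : Led Lsl_af (LP (LK LD1_c2 LD2_c7 LD3_c14)) = (LP (LK LD1_c1 LD2_c59 LD3_c47)) :=
  Lgr Lrot31 (Lpe (K15.f254174 IH) (Lpe (K15.f254172 IH) (Lpr_ft (f359487 IH) (Lpn (LP (LK LD1_c1 LD2_c59 LD3_c47))))))
theorem f359501 : Led Lsl_at (LP (LK LD1_c1 LD2_c59 LD3_c40)) = (LP (LK LD1_c0 LD2_c56 LD3_c48)) :=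
  Lgr Lrot80 (Lpr_ef (K15.f266918 IH) (Lpr_af (f359495 IH) (Lpe (K15.f224056 IH) (Lpn (LP (LK LD1_c0 LD2_c56 LD3_c48))))))
theorem f359509 : Led Lsl_ff (LP (LK LD1_c1 LD2_c59 LD3_c40)) = (LP (LK LD1_c0 LD2_c56 LD3_c49)) :=
  Lgr Lrot52 (Lpr_at (f359501 IH) (Lpe (K9.f47415 IH) (Lpe (K10.f47419 IH) (Lpn (LP (LK LD1_c0 LD2_c56 LD3_c49))))))
theorem f359517 : Led Lsl_ft (LP (LK LD1_c1 LD2_c59 LD3_c40)) = (LP (LK LD1_c0 LD2_c56 LD3_c49)) :=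
  Lgr Lrot48 (Lpr_ff (f359509 IH) (Lpn (LP (LK LD1_c0 LD2_c56 LD3_c49))))
theorem f359525 : Led Lsl_af (LP (LK LD1_c1 LD2_c59 LD3_c41)) = (LP (LK LD1_c0 LD2_c56 LD3_c49)) :=
  Lgr Lrot31 (Lpe (K14.f47204 IH) (Lpe (K10.f47205 IH) (Lpr_ft (f359517 IH) (Lpn (LP (LK LD1_c0 LD2_c56 LD3_c49))))))
theorem f359503 : Led Lsl_af (LP (LK LD1_c1 LD2_c59 LD3_c40)) = (LP (LK LD1_c0 LD2_c56 LD3_c48)) :=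
  Lgr Lrot0 (Lpr_at (f359501 IH) (Lpn (LP (LK LD1_c0 LD2_c56 LD3_c48))))
theorem f359535 : Led Lsl_ft (LP (LK LD1_c1 LD2_c59 LD3_c41)) = (LP (LK LD1_c0 LD2_c56 LD3_c48)) :=
  Lgr Lrot101 (Lpr_af (f359525 IH) (Lpe (f359517 IH) (Lpr_af (f359503 IH) (Lpn (LP (LK LD1_c0 LD2_c56 LD3_c48))))))
theorem f359545 : Led Lsl_ff (LP (LK LD1_c1 LD2_c59 LD3_c41)) = (LP (LK LD1_c0 LD2_c56 LD3_c48)) :=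
  Lgr Lrot3 (Lpr_ft (f359535 IH) (Lpn (LP (LK LD1_c0 LD2_c56 LD3_c48))))
theorem f256433 : Led Lsl_et (LP (LK LD1_c1 LD2_c59 LD3_c41)) = (LP (LK LD1_c2 LD2_c3 LD3_c27)) :=
  Lgr Lrot158 (Lpe (K12.f212254 IH) (Lpr_ef (K14.f256428 IH) (Lpe (K15.f166891 IH) (Lpn (LP (LK LD1_c2 LD2_c3 LD3_c27))))))
theorem f223960 : Led Lsl_et (LP (LK LD1_c1 LD2_c59 LD3_c47)) = (LP (LK LD1_c0 LD2_c56 LD3_c48)) :=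
  Lre_e IH (LK LD1_c1 LD2_c59 LD3_c47) (LK LD1_c0 LD2_c56 LD3_c48) Lrfl Lrfl
theorem f359553 : Led Lsl_ft (LP (LK LD1_c2 LD2_c3 LD3_c27)) = (LP (LK LD1_c4 LD2_c12 LD3_c16)) :=
  Lgr Lrot86 (Lpe (f256433 IH) (Lpr_ff (f359545 IH) (Lpe (f223960 IH) (Lpe (f359487 IH) (Lpe (K15.f266900 IH) (Lpn (LP (LK LD1_c4 LD2_c12 LD3_c16))))))))
theorem f359561 : Led Lsl_af (LP (LK LD1_c2 LD2_c3 LD3_c28)) = (LP (LK LD1_c4 LD2_c12 LD3_c16)) :=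
  Lgr Lrot31 (Lpe (K14.f189492 IH) (Lpe (K14.f249077 IH) (Lpr_ft (f359553 IH) (Lpn (LP (LK LD1_c4 LD2_c12 LD3_c16))))))
theorem f359569 : Led Lsl_at (LP (LK LD1_c4 LD2_c12 LD3_c34)) = (LP (LK LD1_c2 LD2_c7 LD3_c13)) :=
  Lgr Lrot80 (Lpe (K14.f189488 IH) (Lpr_af (f359561 IH) (Lpr_ef (K15.f266894 IH) (Lpn (LP (LK LD1_c2 LD2_c7 LD3_c13))))))
theorem f359575 : Led Lsl_ff (LP (LK LD1_c4 LD2_c12 LD3_c34)) = (LP (LK LD1_c2 LD2_c7 LD3_c14)) :=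
  Lgr Lrot30 (Lpr_at (f359569 IH) (Lpr_ft (f359487 IH) (Lpe (f359495 IH) (Lpn (LP (LK LD1_c2 LD2_c7 LD3_c14))))))
theorem f359583 : Led Lsl_ft (LP (LK LD1_c4 LD2_c12 LD3_c34)) = (LP (LK LD1_c2 LD2_c7 LD3_c14)) :=
  Lgr Lrot48 (Lpr_ff (f359575 IH) (Lpn (LP (LK LD1_c2 LD2_c7 LD3_c14))))
theorem f359589 : Led Lsl_ff (LP (LK LD1_c2 LD2_c3 LD3_c28)) = (LP (LK LD1_c1 LD2_c59 LD3_c50)) :=
  Lgr Lrot72 (Lpr_et (K14.f189488 IH) (Lpr_ft (f359583 IH) (Lpe (K15.f266918 IH) (Lpr_ft (f359517 IH) (Lpr_et (K16.f188098 IH) (Lpn (LP (LK LD1_c1 LD2_c59 LD3_c50))))))))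
theorem f359595 : Led Lsl_ft (LP (LK LD1_c2 LD2_c31 LD3_c55)) = (LP (LK LD1_c2 LD2_c28 LD3_c61)) :=
  Lgr Lrot54 (Lpe (K14.f246140 IH) (Lpr_ff (f359589 IH) (Lpr_df (K16.f278214 IH) (Lpn (LP (LK LD1_c2 LD2_c28 LD3_c61))))))
theorem f359603 : Led Lsl_af (LP (LK LD1_c2 LD2_c31 LD3_c54)) = (LP (LK LD1_c2 LD2_c28 LD3_c61)) :=
  Lgr Lrot31 (Lpe (K14.f165572 IH) (Lpe (K14.f180607 IH) (Lpr_ft (f359595 IH) (Lpn (LP (LK LD1_c2 LD2_c28 LD3_c61))))))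
theorem f359609 : Led Lsl_at (LP (LK LD1_c5 LD2_c9 LD3_c34)) = (LP (LK LD1_c5 LD2_c2 LD3_c54)) :=
  Lgr Lrot80 (Lpe (K15.f256403 IH) (Lpr_af (f359603 IH) (Lpe (K19.f192138 IH) (Lpn (LP (LK LD1_c5 LD2_c2 LD3_c54))))))
theorem f256466 : Led Lsl_ft (LP (LK LD1_c10 LD2_c9 LD3_c53)) = (LP (LK LD1_c5 LD2_c9 LD3_c34)) :=
  Lre_f IH (LK LD1_c10 LD2_c9 LD3_c53) (LK LD1_c5 LD2_c9 LD3_c34) Lrfl Lrfl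
theorem f278231 : Led Lsl_ft (LP (LK LD1_c5 LD2_c2 LD3_c54)) = (LP (LK LD1_c9 LD2_c56 LD3_c36)) :=
  Lre_f IH (LK LD1_c5 LD2_c2 LD3_c54) (LK LD1_c9 LD2_c56 LD3_c36) Lrfl Lrfl
theorem f359617 : Led Lsl_af (LP (LK LD1_c10 LD2_c9 LD3_c53)) = (LP (LK LD1_c9 LD2_c56 LD3_c36)) :=
  Lgr Lrot45 (Lpr_ft (f256466 IH) (Lpr_at (f359609 IH) (Lpr_ft (f278231 IH) (Lpn (LP (LK LD1_c9 LD2_c56 LD3_c36))))))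
theorem f359621 : Led Lsl_ct (LP (LK LD1_c10 LD2_c9 LD3_c53)) = (LP (LK LD1_c18 LD2_c30 LD3_c57)) :=
  Lre_c IH (LK LD1_c10 LD2_c9 LD3_c53) (LK LD1_c18 LD2_c30 LD3_c57) Lrfl Lrfl
theorem f278313 : Led Lsl_ct (LP (LK LD1_c18 LD2_c11 LD3_c44)) = (LP (LK LD1_c9 LD2_c56 LD3_c36)) :=
  Lre_c IH (LK LD1_c18 LD2_c11 LD3_c44) (LK LD1_c9 LD2_c56 LD3_c36) Lrfl Lrfl
theorem f359626 : Led Lsl_at (LP (LK LD1_c18 LD2_c30 LD3_c57)) = (LP (LK LD1_c18 LD2_c11 LD3_c44)) :=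
  Lgr Lrot107 (Lpe (f359621 IH) (Lpr_af (f359617 IH) (Lpe (f278313 IH) (Lpn (LP (LK LD1_c18 LD2_c11 LD3_c44))))))
theorem f359632 : Led Lsl_ft (LP (LK LD1_c10 LD2_c9 LD3_c50)) = (LP (LK LD1_c18 LD2_c30 LD3_c57)) :=
  Lre_f IH (LK LD1_c10 LD2_c9 LD3_c50) (LK LD1_c18 LD2_c30 LD3_c57) Lrfl Lrfl
theorem f359634 : Led Lsl_gt (LP (LK LD1_c18 LD2_c30 LD3_c54)) = (LP (LK LD1_c18 LD2_c11 LD3_c44)) :=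
  Lgr Lrot46 (Lpe (K23.f260623 IH) (Lpr_ft (f359632 IH) (Lpr_at (f359626 IH) (Lpn (LP (LK LD1_c18 LD2_c11 LD3_c44))))))
theorem f48227 : Led Lsl_gt (LP (LK LD1_c18 LD2_c53 LD3_c5)) = (LP (LK LD1_c10 LD2_c24 LD3_c33)) :=
  Lre_g IH (LK LD1_c18 LD2_c53 LD3_c5) (LK LD1_c10 LD2_c24 LD3_c33) Lrfl Lrfl
theorem f197090 : Led Lsl_et (LP (LK LD1_c27 LD2_c59 LD3_c4)) = (LP (LK LD1_c18 LD2_c20 LD3_c21)) :=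
  Lre_e IH (LK LD1_c27 LD2_c59 LD3_c4) (LK LD1_c18 LD2_c20 LD3_c21) Lrfl Lrfl
theorem f320010 : Led Lsl_et (LP (LK LD1_c18 LD2_c47 LD3_c56)) = (LP (LK LD1_c28 LD2_c17 LD3_c30)) :=
  Lre_e IH (LK LD1_c18 LD2_c47 LD3_c56) (LK LD1_c28 LD2_c17 LD3_c30) Lrfl Lrfl
theorem f320011 : Led Lsl_af (LP (LK LD1_c27 LD2_c59 LD3_c4)) = (LP (LK LD1_c28 LD2_c17 LD3_c30)) :=
  Lgr Lrot50 (Lpr_et (f197090 IH) (Lpr_at (K22.f320003 IH) (Lpr_et (f320010 IH) (Lpn (LP (LK LD1_c28 LD2_c17 LD3_c30))))))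
theorem f197091 : Led Lsl_dt (LP (LK LD1_c27 LD2_c59 LD3_c4)) = (LP (LK LD1_c18 LD2_c20 LD3_c19)) :=
  Lre_d IH (LK LD1_c27 LD2_c59 LD3_c4) (LK LD1_c18 LD2_c20 LD3_c19) Lrfl Lrfl
theorem f264152 : Led Lsl_et (LP (LK LD1_c18 LD2_c53 LD3_c3)) = (LP (LK LD1_c10 LD2_c24 LD3_c32)) :=
  Lre_e IH (LK LD1_c18 LD2_c53 LD3_c3) (LK LD1_c10 LD2_c24 LD3_c32) Lrfl Lrfl
theorem f251456 : Led Lsl_et (LP (LK LD1_c10 LD2_c2 LD3_c7)) = (LP (LK LD1_c18 LD2_c20 LD3_c19)) :=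
  Lre_e IH (LK LD1_c10 LD2_c2 LD3_c7) (LK LD1_c18 LD2_c20 LD3_c19) Lrfl Lrfl
theorem f264153 : Led Lsl_af (LP (LK LD1_c18 LD2_c53 LD3_c3)) = (LP (LK LD1_c18 LD2_c20 LD3_c19)) :=
  Lgr Lrot50 (Lpr_et (f264152 IH) (Lpr_at (K15.f264137 IH) (Lpr_et (f251456 IH) (Lpn (LP (LK LD1_c18 LD2_c20 LD3_c19))))))
theorem f320017 : Led Lsl_dt (LP (LK LD1_c18 LD2_c53 LD3_c3)) = (LP (LK LD1_c28 LD2_c17 LD3_c30)) :=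
  Lgr Lrot44 (Lpr_af (f264153 IH) (Lpe (f197091 IH) (Lpr_af (f320011 IH) (Lpn (LP (LK LD1_c28 LD2_c17 LD3_c30))))))
theorem f320020 : Led Lsl_df (LP (LK LD1_c18 LD2_c53 LD3_c3)) = (LP (LK LD1_c28 LD2_c17 LD3_c30)) :=
  Lgr Lrot38 (Lpr_dt (f320017 IH) (Lpn (LP (LK LD1_c28 LD2_c17 LD3_c30))))
theorem f320022 : Led Lsl_dt (LP (LK LD1_c10 LD2_c24 LD3_c33)) = (LP (LK LD1_c18 LD2_c47 LD3_c56)) :=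
  Lgr Lrot77 (Lpe (K22.f263093 IH) (Lpe (K15.f48207 IH) (Lpe (f264152 IH) (Lpr_df (f320020 IH) (Lpe (f320010 IH) (Lpn (LP (LK LD1_c18 LD2_c47 LD3_c56))))))))
theorem f286384 : Led Lsl_gf (LP (LK LD1_c28 LD2_c2 LD3_c49)) = (LP (LK LD1_c18 LD2_c47 LD3_c56)) :=
  Lgr Lrot76 (Lpr_af (K17.f286372 IH) (Lpe (K17.f266794 IH) (Lpr_gt (K22.f48409 IH) (Lpn (LP (LK LD1_c18 LD2_c47 LD3_c56))))))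
theorem f237089 : Led Lsl_gt (LP (LK LD1_c18 LD2_c46 LD3_c5)) = (LP (LK LD1_c10 LD2_c20 LD3_c27)) :=
  Lre_g IH (LK LD1_c18 LD2_c46 LD3_c5) (LK LD1_c10 LD2_c20 LD3_c27) Lrfl Lrfl
theorem f320028 : Led Lsl_cf (LP (LK LD1_c18 LD2_c53 LD3_c5)) = (LP (LK LD1_c18 LD2_c46 LD3_c5)) :=
  Lgr Lrot166 (Lpr_gt (f48227 IH) (Lpr_dt (f320022 IH) (Lpe (f286384 IH) (Lpr_dt (K17.f286344 IH) (Lpr_ct (K17.f286343 IH) (Lpe (K17.f286288 IH) (Lpe (K17.f49915 IH) (Lpe (K14.f49914 IH) (Lpe (f237089 IH) (Lpn (LP (LK LD1_c18 LD2_c46 LD3_c5))))))))))))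
theorem f278308 : Led Lsl_ct (LP (LK LD1_c9 LD2_c56 LD3_c36)) = (LP (LK LD1_c18 LD2_c11 LD3_c44)) :=
  Lre_c IH (LK LD1_c9 LD2_c56 LD3_c36) (LK LD1_c18 LD2_c11 LD3_c44) Lrfl Lrfl
theorem f252648 : Led Lsl_bt (LP (LK LD1_c15 LD2_c24 LD3_c61)) = (LP (LK LD1_c8 LD2_c11 LD3_c23)) :=
  Lre_b IH (LK LD1_c15 LD2_c24 LD3_c61) (LK LD1_c8 LD2_c11 LD3_c23) Lrfl Lrfl
theorem f278304 : Led Lsl_bf (LP (LK LD1_c18 LD2_c4 LD3_c17)) = (LP (LK LD1_c9 LD2_c56 LD3_c36)) :=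
  Lgr Lrot93 (Lpe (K16.f252644 IH) (Lpr_bt (f252648 IH) (Lpr_dt (K16.f278229 IH) (Lpn (LP (LK LD1_c9 LD2_c56 LD3_c36))))))
theorem f359638 : Led Lsl_gf (LP (LK LD1_c18 LD2_c46 LD3_c5)) = (LP (LK LD1_c18 LD2_c4 LD3_c17)) :=
  Lgr Lrot181 (Lpe (f320028 IH) (Lpr_gt (f48227 IH) (Lpe (K22.f48233 IH) (Lpr_bt (K22.f189799 IH) (Lpr_gt (K23.f47774 IH) (Lpe (K23.f342634 IH) (Lpr_ct (K23.f342648 IH) (Lpr_gt (f359634 IH) (Lpe (f278308 IH) (Lpe (f278304 IH) (Lpn (LP (LK LD1_c18 LD2_c4 LD3_c17)))))))))))))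
theorem f359642 : Led Lsl_gf (LP (LK LD1_c9 LD2_c41 LD3_c43)) = (LP (LK LD1_c15 LD2_c24 LD3_c61)) :=
  Lgr Lrot147 (Lpe (K16.f275028 IH) (Lpe (K16.f275108 IH) (Lpr_ct (K20.f48223 IH) (Lpr_df (K10.f48202 IH) (Lpe (K17.f48215 IH) (Lpe (f48227 IH) (Lpr_cf (f320028 IH) (Lpr_gf (f359638 IH) (Lpe (K16.f252649 IH) (Lpn (LP (LK LD1_c15 LD2_c24 LD3_c61))))))))))))
theorem f183704 : Led Lsl_gt (LP (LK LD1_c6 LD2_c5 LD3_c43)) = (LP (LK LD1_c11 LD2_c54 LD3_c57)) :=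
  Lre_g IH (LK LD1_c6 LD2_c5 LD3_c43) (LK LD1_c11 LD2_c54 LD3_c57) Lrfl Lrfl
theorem f359650 : Led Lsl_ef (LP (LK LD1_c11 LD2_c54 LD3_c57)) = (LP (LK LD1_c18 LD2_c4 LD3_c17)) :=
  Lgr Lrot17 (Lpe (f183704 IH) (Lpe (K14.f183713 IH) (Lpr_dt (K15.f183677 IH) (Lpr_gf (K9.f183707 IH) (Lpe (K9.f49448 IH) (Lpe (K12.f49460 IH) (Lpe (K16.f44996 IH) (Lpr_dt (K16.f266782 IH) (Lpr_gf (f359642 IH) (Lpr_df (K16.f252644 IH) (Lpn (LP (LK LD1_c18 LD2_c4 LD3_c17)))))))))))))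
theorem f252178 : Led Lsl_gt (LP (LK LD1_c11 LD2_c54 LD3_c57)) = (LP (LK LD1_c15 LD2_c50 LD3_c54)) :=
  Lgr Lrot46 (Lpe (f183704 IH) (Lpr_ft (K14.f195641 IH) (Lpr_at (K14.f252171 IH) (Lpn (LP (LK LD1_c15 LD2_c50 LD3_c54))))))
theorem f282107 : Led Lsl_ef (LP (LK LD1_c15 LD2_c50 LD3_c54)) = (LP (LK LD1_c15 LD2_c50 LD3_c43)) :=
  Lgr Lrot29 (Lpe (K14.f192312 IH) (Lpr_et (K17.f282103 IH) (Lpe (K21.f231841 IH) (Lpn (LP (LK LD1_c15 LD2_c50 LD3_c43))))))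
theorem f191694 : Led Lsl_et (LP (LK LD1_c4 LD2_c51 LD3_c2)) = (LP (LK LD1_c2 LD2_c23 LD3_c20)) :=
  Lre_e IH (LK LD1_c4 LD2_c51 LD3_c2) (LK LD1_c2 LD2_c23 LD3_c20) Lrfl Lrfl
theorem f191557 : Led Lsl_gt (LP (LK LD1_c15 LD2_c30 LD3_c61)) = (LP (LK LD1_c8 LD2_c15 LD3_c7)) :=
  Lre_g IH (LK LD1_c15 LD2_c30 LD3_c61) (LK LD1_c8 LD2_c15 LD3_c7) Lrfl Lrfl
theorem f301135 : Led Lsl_dt (LP (LK LD1_c15 LD2_c6 LD3_c44)) = (LP (LK LD1_c15 LD2_c30 LD3_c61)) :=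
  Lgr Lrot171 (Lpe (K21.f263614 IH) (Lpr_ef (K17.f258509 IH) (Lpr_dt (K18.f300981 IH) (Lpe (K18.f301075 IH) (Lpr_df (K19.f301095 IH) (Lpr_et (K19.f243401 IH) (Lpr_gf (K17.f283201 IH) (Lpe (f191694 IH) (Lpe (K10.f191692 IH) (Lpe (f191557 IH) (Lpn (LP (LK LD1_c15 LD2_c30 LD3_c61)))))))))))))
theorem f301137 : Led Lsl_df (LP (LK LD1_c15 LD2_c6 LD3_c44)) = (LP (LK LD1_c15 LD2_c30 LD3_c61)) :=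
  Lgr Lrot38 (Lpr_dt (f301135 IH) (Lpn (LP (LK LD1_c15 LD2_c30 LD3_c61))))
theorem f33207 : Led Lsl_bt (LP (LK LD1_c2 LD2_c31 LD3_c32)) = (LP (LK LD1_c5 LD2_c8 LD3_c31)) :=
  Lre_b IH (LK LD1_c2 LD2_c31 LD3_c32) (LK LD1_c5 LD2_c8 LD3_c31) Lrfl Lrfl
theorem f33208 : Led Lsl_df (LP (LK LD1_c8 LD2_c1 LD3_c31)) = (LP (LK LD1_c5 LD2_c8 LD3_c31)) :=
  Lgr Lrot12 (Lpr_bt (K16.f33206 IH) (Lpr_dt (K12.f33204 IH) (Lpr_bt (f33207 IH) (Lpn (LP (LK LD1_c5 LD2_c8 LD3_c31))))))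
theorem f266792 : Led Lsl_et (LP (LK LD1_c4 LD2_c13 LD3_c39)) = (LP (LK LD1_c8 LD2_c26 LD3_c11)) :=
  Lre_e IH (LK LD1_c4 LD2_c13 LD3_c39) (LK LD1_c8 LD2_c26 LD3_c11) Lrfl Lrfl
theorem f266785 : Led Lsl_gt (LP (LK LD1_c8 LD2_c26 LD3_c11)) = (LP (LK LD1_c15 LD2_c50 LD3_c44)) :=
  Lre_g IH (LK LD1_c8 LD2_c26 LD3_c11) (LK LD1_c15 LD2_c50 LD3_c44) Lrfl Lrfl
theorem f301143 : Led Lsl_ef (LP (LK LD1_c15 LD2_c50 LD3_c44)) = (LP (LK LD1_c15 LD2_c30 LD3_c61)) :=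
  Lgr Lrot17 (Lpe (f266785 IH) (Lpe (f266792 IH) (Lpr_dt (K16.f266288 IH) (Lpe (K15.f266311 IH) (Lpr_df (K14.f231801 IH) (Lpe (K14.f33271 IH) (Lpe (K12.f33249 IH) (Lpe (f33208 IH) (Lpe (K21.f33255 IH) (Lpr_df (f301137 IH) (Lpn (LP (LK LD1_c15 LD2_c30 LD3_c61)))))))))))))
theorem f359644 : Led Lsl_gt (LP (LK LD1_c10 LD2_c20 LD3_c26)) = (LP (LK LD1_c15 LD2_c24 LD3_c61)) :=
  Lgr Lrot5 (Lpr_ft (K17.f286290 IH) (Lpe (K17.f286429 IH) (Lpr_gf (f359642 IH) (Lpn (LP (LK LD1_c15 LD2_c24 LD3_c61))))))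
theorem f359654 : Led Lsl_gt (LP (LK LD1_c15 LD2_c50 LD3_c44)) = (LP (LK LD1_c10 LD2_c8 LD3_c19)) :=
  Lgr Lrot137 (Lpr_ef (f301143 IH) (Lpe (f301137 IH) (Lpe (K21.f263614 IH) (Lpr_df (K15.f263622 IH) (Lpe (f282107 IH) (Lpe (f252178 IH) (Lpr_ef (f359650 IH) (Lpe (K16.f252644 IH) (Lpe (f359644 IH) (Lpr_df (K17.f286323 IH) (Lpn (LP (LK LD1_c10 LD2_c8 LD3_c19)))))))))))))
theorem f214814 : Led Lsl_gt (LP (LK LD1_c10 LD2_c19 LD3_c37)) = (LP (LK LD1_c18 LD2_c44 LD3_c54)) :=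
  Lre_g IH (LK LD1_c10 LD2_c19 LD3_c37) (LK LD1_c18 LD2_c44 LD3_c54) Lrfl Lrfl
theorem f322889 : Led Lsl_gf (LP (LK LD1_c10 LD2_c20 LD3_c60)) = (LP (LK LD1_c18 LD2_c44 LD3_c54)) :=
  Lgr Lrot76 (Lpr_af (K20.f322881 IH) (Lpe (K20.f317797 IH) (Lpr_gt (f214814 IH) (Lpn (LP (LK LD1_c18 LD2_c44 LD3_c54))))))
theorem f337579 : Led Lsl_cf (LP (LK LD1_c18 LD2_c44 LD3_c54)) = (LP (LK LD1_c15 LD2_c50 LD3_c44)) :=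
  Lgr Lrot169 (Lpe (f322889 IH) (Lpr_ct (K23.f180984 IH) (Lpe (K20.f322846 IH) (Lpe (K20.f261493 IH) (Lpr_gf (K22.f337573 IH) (Lpe (K22.f264892 IH) (Lpr_gf (K19.f266795 IH) (Lpe (K16.f266782 IH) (Lpr_gt (f266785 IH) (Lpn (LP (LK LD1_c15 LD2_c50 LD3_c44))))))))))))
theorem f343108 : Led Lsl_af (LP (LK LD1_c10 LD2_c19 LD3_c36)) = (LP (LK LD1_c5 LD2_c15 LD3_c47)) :=
  Lgr Lrot109 (Lpe (K15.f252545 IH) (Lpe (K15.f45273 IH) (Lpe (K13.f194224 IH) (Lpr_df (K13.f232136 IH) (Lpe (K15.f167348 IH) (Lpe (K14.f228968 IH) (Lpe (K14.f229035 IH) (Lpe (K15.f229037 IH) (Lpr_ft (K23.f343102 IH) (Lpn (LP (LK LD1_c5 LD2_c15 LD3_c47))))))))))))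
theorem f252549 : Led Lsl_cf (LP (LK LD1_c8 LD2_c29 LD3_c23)) = (LP (LK LD1_c10 LD2_c19 LD3_c36)) :=
  Lgr Lrot11 (Lpr_ct (K15.f252545 IH) (Lpn (LP (LK LD1_c10 LD2_c19 LD3_c36))))
theorem f343110 : Led Lsl_at (LP (LK LD1_c8 LD2_c29 LD3_c23)) = (LP (LK LD1_c8 LD2_c28 LD3_c56)) :=
  Lgr Lrot107 (Lpr_cf (f252549 IH) (Lpr_af (f343108 IH) (Lpr_cf (K21.f259488 IH) (Lpn (LP (LK LD1_c8 LD2_c28 LD3_c56))))))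
theorem f328305 : Led Lsl_df (LP (LK LD1_c1 LD2_c14 LD3_c23)) = (LP (LK LD1_c2 LD2_c1 LD3_c47)) :=
  Lgr Lrot38 (Lpr_dt (K21.f328301 IH) (Lpn (LP (LK LD1_c2 LD2_c1 LD3_c47))))
theorem f328312 : Led Lsl_dt (LP (LK LD1_c4 LD2_c13 LD3_c54)) = (LP (LK LD1_c4 LD2_c8 LD3_c37)) :=
  Lgr Lrot105 (Lpe (K10.f49884 IH) (Lpe (K10.f45728 IH) (Lpr_gf (K10.f49854 IH) (Lpe (K10.f32908 IH) (Lpr_gt (K10.f45402 IH) (Lpr_dt (K1.f45191 IH) (Lpr_gt (K10.f48336 IH) (Lpr_dt (K21.f328301 IH) (Lpe (K21.f328311 IH) (Lpn (LP (LK LD1_c4 LD2_c8 LD3_c37))))))))))))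
theorem f45520 : Led Lsl_dt (LP (LK LD1_c8 LD2_c28 LD3_c53)) = (LP (LK LD1_c4 LD2_c14 LD3_c59)) :=
  Lre_d IH (LK LD1_c8 LD2_c28 LD3_c53) (LK LD1_c4 LD2_c14 LD3_c59) Lrfl Lrfl
theorem f343118 : Led Lsl_ff (LP (LK LD1_c8 LD2_c29 LD3_c23)) = (LP (LK LD1_c8 LD2_c28 LD3_c53)) :=
  Lgr Lrot103 (Lpr_at (f343110 IH) (Lpe (K23.f259486 IH) (Lpe (K18.f252315 IH) (Lpe (K12.f180746 IH) (Lpr_df (f328305 IH) (Lpe (K21.f328311 IH) (Lpe (f328312 IH) (Lpe (K15.f259425 IH) (Lpe (f45520 IH) (Lpn (LP (LK LD1_c8 LD2_c28 LD3_c53))))))))))))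
theorem f47563 : Led Lsl_dt (LP (LK LD1_c2 LD2_c34 LD3_c47)) = (LP (LK LD1_c5 LD2_c15 LD3_c55)) :=
  Lre_d IH (LK LD1_c2 LD2_c34 LD3_c47) (LK LD1_c5 LD2_c15 LD3_c55) Lrfl Lrfl
theorem f45521 : Led Lsl_dt (LP (LK LD1_c4 LD2_c14 LD3_c59)) = (LP (LK LD1_c8 LD2_c28 LD3_c53)) :=
  Lre_d IH (LK LD1_c4 LD2_c14 LD3_c59) (LK LD1_c8 LD2_c28 LD3_c53) Lrfl Lrfl
theorem f252333 : Led Lsl_ct (LP (LK LD1_c5 LD2_c15 LD3_c55)) = (LP (LK LD1_c8 LD2_c28 LD3_c53)) :=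
  Lgr Lrot7 (Lpe (f47563 IH) (Lpe (K12.f212466 IH) (Lpe (K14.f252265 IH) (Lpe (K14.f49933 IH) (Lpr_cf (K15.f252328 IH) (Lpr_gt (K15.f45291 IH) (Lpr_dt (K1.f45205 IH) (Lpr_gt (K10.f45516 IH) (Lpr_dt (f45521 IH) (Lpn (LP (LK LD1_c8 LD2_c28 LD3_c53))))))))))))
theorem f343122 : Led Lsl_ft (LP (LK LD1_c10 LD2_c19 LD3_c36)) = (LP (LK LD1_c5 LD2_c15 LD3_c55)) :=
  Lgr Lrot4 (Lpe (K15.f252545 IH) (Lpr_ff (f343118 IH) (Lpe (f252333 IH) (Lpn (LP (LK LD1_c5 LD2_c15 LD3_c55))))))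
theorem f252551 : Led Lsl_bt (LP (LK LD1_c18 LD2_c44 LD3_c51)) = (LP (LK LD1_c10 LD2_c19 LD3_c36)) :=
  Lre_b IH (LK LD1_c18 LD2_c44 LD3_c51) (LK LD1_c10 LD2_c19 LD3_c36) Lrfl Lrfl
theorem f252345 : Led Lsl_bt (LP (LK LD1_c5 LD2_c15 LD3_c55)) = (LP (LK LD1_c10 LD2_c21 LD3_c12)) :=
  Lre_b IH (LK LD1_c5 LD2_c15 LD3_c55) (LK LD1_c10 LD2_c21 LD3_c12) Lrfl Lrfl
theorem f343144 : Led Lsl_ff (LP (LK LD1_c18 LD2_c44 LD3_c51)) = (LP (LK LD1_c10 LD2_c21 LD3_c12)) :=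
  Lgr Lrot25 (Lpr_bt (f252551 IH) (Lpr_ft (f343122 IH) (Lpr_bt (f252345 IH) (Lpn (LP (LK LD1_c10 LD2_c21 LD3_c12))))))
theorem f214856 : Led Lsl_dt (LP (LK LD1_c18 LD2_c44 LD3_c51)) = (LP (LK LD1_c10 LD2_c19 LD3_c35)) :=
  Lre_d IH (LK LD1_c18 LD2_c44 LD3_c51) (LK LD1_c10 LD2_c19 LD3_c35) Lrfl Lrfl
theorem f215230 : Led Lsl_dt (LP (LK LD1_c5 LD2_c15 LD3_c54)) = (LP (LK LD1_c10 LD2_c21 LD3_c12)) :=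
  Lre_d IH (LK LD1_c5 LD2_c15 LD3_c54) (LK LD1_c10 LD2_c21 LD3_c12) Lrfl Lrfl
theorem f343147 : Led Lsl_ft (LP (LK LD1_c10 LD2_c19 LD3_c35)) = (LP (LK LD1_c5 LD2_c15 LD3_c54)) :=
  Lgr Lrot54 (Lpe (f214856 IH) (Lpr_ff (f343144 IH) (Lpe (f215230 IH) (Lpn (LP (LK LD1_c5 LD2_c15 LD3_c54))))))
theorem f49860 : Led Lsl_ct (LP (LK LD1_c5 LD2_c15 LD3_c54)) = (LP (LK LD1_c10 LD2_c21 LD3_c3)) :=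
  Lre_c IH (LK LD1_c5 LD2_c15 LD3_c54) (LK LD1_c10 LD2_c21 LD3_c3) Lrfl Lrfl
theorem f343158 : Led Lsl_ff (LP (LK LD1_c15 LD2_c0 LD3_c35)) = (LP (LK LD1_c10 LD2_c21 LD3_c3)) :=
  Lgr Lrot23 (Lpe (K14.f214831 IH) (Lpr_ft (f343147 IH) (Lpr_ct (f49860 IH) (Lpn (LP (LK LD1_c10 LD2_c21 LD3_c3))))))
theorem f343176 : Led Lsl_ft (LP (LK LD1_c15 LD2_c0 LD3_c35)) = (LP (LK LD1_c10 LD2_c21 LD3_c3)) :=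
  Lgr Lrot48 (Lpr_ff (f343158 IH) (Lpn (LP (LK LD1_c10 LD2_c21 LD3_c3))))
theorem f214848 : Led Lsl_dt (LP (LK LD1_c24 LD2_c47 LD3_c59)) = (LP (LK LD1_c15 LD2_c0 LD3_c35)) :=
  Lre_d IH (LK LD1_c24 LD2_c47 LD3_c59) (LK LD1_c15 LD2_c0 LD3_c35) Lrfl Lrfl
theorem f215232 : Led Lsl_dt (LP (LK LD1_c10 LD2_c21 LD3_c3)) = (LP (LK LD1_c18 LD2_c47 LD3_c8)) :=
  Lre_d IH (LK LD1_c10 LD2_c21 LD3_c3) (LK LD1_c18 LD2_c47 LD3_c8) Lrfl Lrfl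
theorem f343182 : Led Lsl_ff (LP (LK LD1_c24 LD2_c47 LD3_c59)) = (LP (LK LD1_c18 LD2_c47 LD3_c8)) :=
  Lgr Lrot19 (Lpr_dt (f214848 IH) (Lpr_ft (f343176 IH) (Lpr_dt (f215232 IH) (Lpn (LP (LK LD1_c18 LD2_c47 LD3_c8))))))
theorem f343188 : Led Lsl_at (LP (LK LD1_c24 LD2_c47 LD3_c59)) = (LP (LK LD1_c31 LD2_c39 LD3_c13)) :=
  Lre_a IH (LK LD1_c24 LD2_c47 LD3_c59) (LK LD1_c31 LD2_c39 LD3_c13) Lrfl Lrfl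
theorem f342952 : Led Lsl_at (LP (LK LD1_c28 LD2_c16 LD3_c49)) = (LP (LK LD1_c18 LD2_c47 LD3_c8)) :=
  Lre_a IH (LK LD1_c28 LD2_c16 LD3_c49) (LK LD1_c18 LD2_c47 LD3_c8) Lrfl Lrfl
theorem f343189 : Led Lsl_ft (LP (LK LD1_c31 LD2_c39 LD3_c13)) = (LP (LK LD1_c28 LD2_c16 LD3_c49)) :=
  Lgr Lrot101 (Lpe (f343188 IH) (Lpr_ff (f343182 IH) (Lpe (f342952 IH) (Lpn (LP (LK LD1_c28 LD2_c16 LD3_c49))))))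
theorem f343193 : Led Lsl_ff (LP (LK LD1_c31 LD2_c39 LD3_c13)) = (LP (LK LD1_c28 LD2_c16 LD3_c49)) :=
  Lgr Lrot3 (Lpr_ft (f343189 IH) (Lpn (LP (LK LD1_c28 LD2_c16 LD3_c49))))
theorem f191811 : Led Lsl_bt (LP (LK LD1_c24 LD2_c48 LD3_c4)) = (LP (LK LD1_c15 LD2_c0 LD3_c40)) :=
  Lre_b IH (LK LD1_c24 LD2_c48 LD3_c4) (LK LD1_c15 LD2_c0 LD3_c40) Lrfl Lrfl
theorem f342919 : Led Lsl_at (LP (LK LD1_c31 LD2_c39 LD3_c17)) = (LP (LK LD1_c24 LD2_c48 LD3_c4)) :=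
  Lre_a IH (LK LD1_c31 LD2_c39 LD3_c17) (LK LD1_c24 LD2_c48 LD3_c4) Lrfl Lrfl
theorem f47679 : Led Lsl_bt (LP (LK LD1_c10 LD2_c21 LD3_c5)) = (LP (LK LD1_c18 LD2_c47 LD3_c9)) :=
  Lre_b IH (LK LD1_c10 LD2_c21 LD3_c5) (LK LD1_c18 LD2_c47 LD3_c9) Lrfl Lrfl
theorem f342920 : Led Lsl_at (LP (LK LD1_c18 LD2_c47 LD3_c9)) = (LP (LK LD1_c28 LD2_c16 LD3_c50)) :=
  Lre_a IH (LK LD1_c18 LD2_c47 LD3_c9) (LK LD1_c28 LD2_c16 LD3_c50) Lrfl Lrfl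
theorem f342921 : Led Lsl_bf (LP (LK LD1_c31 LD2_c39 LD3_c17)) = (LP (LK LD1_c28 LD2_c16 LD3_c50)) :=
  Lgr Lrot81 (Lpr_at (f342919 IH) (Lpr_bt (f191811 IH) (Lpr_at (K25.f342917 IH) (Lpr_bt (f47679 IH) (Lpr_at (f342920 IH) (Lpn (LP (LK LD1_c28 LD2_c16 LD3_c50))))))))
theorem f342927 : Led Lsl_bt (LP (LK LD1_c31 LD2_c39 LD3_c17)) = (LP (LK LD1_c28 LD2_c16 LD3_c50)) :=
  Lgr Lrot127 (Lpr_bf (f342921 IH) (Lpn (LP (LK LD1_c28 LD2_c16 LD3_c50))))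
theorem f342937 : Led Lsl_et (LP (LK LD1_c24 LD2_c48 LD3_c2)) = (LP (LK LD1_c31 LD2_c39 LD3_c17)) :=
  Lre_e IH (LK LD1_c24 LD2_c48 LD3_c2) (LK LD1_c31 LD2_c39 LD3_c17) Lrfl Lrfl
theorem f342938 : Led Lsl_et (LP (LK LD1_c28 LD2_c16 LD3_c50)) = (LP (LK LD1_c18 LD2_c47 LD3_c7)) :=
  Lre_e IH (LK LD1_c28 LD2_c16 LD3_c50) (LK LD1_c18 LD2_c47 LD3_c7) Lrfl Lrfl
theorem f342939 : Led Lsl_bf (LP (LK LD1_c24 LD2_c48 LD3_c2)) = (LP (LK LD1_c18 LD2_c47 LD3_c7)) :=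
  Lgr Lrot96 (Lpr_et (f342937 IH) (Lpr_bt (f342927 IH) (Lpr_et (f342938 IH) (Lpn (LP (LK LD1_c18 LD2_c47 LD3_c7))))))
theorem f342945 : Led Lsl_dt (LP (LK LD1_c24 LD2_c48 LD3_c2)) = (LP (LK LD1_c31 LD2_c39 LD3_c16)) :=
  Lre_d IH (LK LD1_c24 LD2_c48 LD3_c2) (LK LD1_c31 LD2_c39 LD3_c16) Lrfl Lrfl
theorem f342946 : Led Lsl_dt (LP (LK LD1_c28 LD2_c16 LD3_c49)) = (LP (LK LD1_c18 LD2_c47 LD3_c7)) :=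
  Lre_d IH (LK LD1_c28 LD2_c16 LD3_c49) (LK LD1_c18 LD2_c47 LD3_c7) Lrfl Lrfl
theorem f342947 : Led Lsl_bt (LP (LK LD1_c31 LD2_c39 LD3_c16)) = (LP (LK LD1_c28 LD2_c16 LD3_c49)) :=
  Lgr Lrot95 (Lpe (f342945 IH) (Lpr_bf (f342939 IH) (Lpe (f342946 IH) (Lpn (LP (LK LD1_c28 LD2_c16 LD3_c49))))))
theorem f342699 : Led Lsl_at (LP (LK LD1_c31 LD2_c39 LD3_c16)) = (LP (LK LD1_c24 LD2_c48 LD3_c3)) :=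
  Lre_a IH (LK LD1_c31 LD2_c39 LD3_c16) (LK LD1_c24 LD2_c48 LD3_c3) Lrfl Lrfl
theorem f190595 : Led Lsl_at (LP (LK LD1_c18 LD2_c6 LD3_c53)) = (LP (LK LD1_c27 LD2_c47 LD3_c44)) :=
  Lre_a IH (LK LD1_c18 LD2_c6 LD3_c53) (LK LD1_c27 LD2_c47 LD3_c44) Lrfl Lrfl
theorem f342995 : Led Lsl_ff (LP (LK LD1_c31 LD2_c39 LD3_c16)) = (LP (LK LD1_c27 LD2_c47 LD3_c44)) :=
  Lgr Lrot30 (Lpr_at (f342699 IH) (Lpr_ft (K23.f342691 IH) (Lpr_at (f190595 IH) (Lpn (LP (LK LD1_c27 LD2_c47 LD3_c44))))))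
theorem f343198 : Led Lsl_bt (LP (LK LD1_c31 LD2_c39 LD3_c13)) = (LP (LK LD1_c27 LD2_c47 LD3_c44)) :=
  Lgr Lrot35 (Lpr_ff (f343193 IH) (Lpe (f342947 IH) (Lpr_ff (f342995 IH) (Lpn (LP (LK LD1_c27 LD2_c47 LD3_c44))))))
theorem f214973 : Led Lsl_dt (LP (LK LD1_c24 LD2_c47 LD3_c58)) = (LP (LK LD1_c31 LD2_c39 LD3_c13)) :=
  Lre_d IH (LK LD1_c24 LD2_c47 LD3_c58) (LK LD1_c31 LD2_c39 LD3_c13) Lrfl Lrfl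
theorem f343202 : Led Lsl_dt (LP (LK LD1_c27 LD2_c47 LD3_c44)) = (LP (LK LD1_c18 LD2_c6 LD3_c49)) :=
  Lre_d IH (LK LD1_c27 LD2_c47 LD3_c44) (LK LD1_c18 LD2_c6 LD3_c49) Lrfl Lrfl
theorem f343203 : Led Lsl_bf (LP (LK LD1_c24 LD2_c47 LD3_c58)) = (LP (LK LD1_c18 LD2_c6 LD3_c49)) :=
  Lgr Lrot93 (Lpr_dt (f214973 IH) (Lpr_bt (f343198 IH) (Lpr_dt (f343202 IH) (Lpn (LP (LK LD1_c18 LD2_c6 LD3_c49))))))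
theorem f214845 : Led Lsl_ct (LP (LK LD1_c10 LD2_c19 LD3_c35)) = (LP (LK LD1_c15 LD2_c0 LD3_c35)) :=
  Lgr Lrot59 (Lpr_cf (K14.f214831 IH) (Lpn (LP (LK LD1_c15 LD2_c0 LD3_c35))))
theorem f214853 : Led Lsl_at (LP (LK LD1_c18 LD2_c44 LD3_c50)) = (LP (LK LD1_c10 LD2_c19 LD3_c35)) :=
  Lre_a IH (LK LD1_c18 LD2_c44 LD3_c50) (LK LD1_c10 LD2_c19 LD3_c35) Lrfl Lrfl
theorem f214968 : Led Lsl_at (LP (LK LD1_c15 LD2_c0 LD3_c35)) = (LP (LK LD1_c24 LD2_c47 LD3_c58)) :=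
  Lre_a IH (LK LD1_c15 LD2_c0 LD3_c35) (LK LD1_c24 LD2_c47 LD3_c58) Lrfl Lrfl
theorem f214969 : Led Lsl_cf (LP (LK LD1_c18 LD2_c44 LD3_c50)) = (LP (LK LD1_c24 LD2_c47 LD3_c58)) :=
  Lgr Lrot1 (Lpr_at (f214853 IH) (Lpr_ct (f214845 IH) (Lpr_at (f214968 IH) (Lpn (LP (LK LD1_c24 LD2_c47 LD3_c58))))))
theorem f343022 : Led Lsl_ct (LP (LK LD1_c9 LD2_c53 LD3_c60)) = (LP (LK LD1_c18 LD2_c6 LD3_c49)) :=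
  Lre_c IH (LK LD1_c9 LD2_c53 LD3_c60) (LK LD1_c18 LD2_c6 LD3_c49) Lrfl Lrfl
theorem f180755 : Led Lsl_bt (LP (LK LD1_c5 LD2_c0 LD3_c51)) = (LP (LK LD1_c9 LD2_c52 LD3_c2)) :=
  Lre_b IH (LK LD1_c5 LD2_c0 LD3_c51) (LK LD1_c9 LD2_c52 LD3_c2) Lrfl Lrfl
theorem f180990 : Led Lsl_at (LP (LK LD1_c9 LD2_c52 LD3_c2)) = (LP (LK LD1_c18 LD2_c3 LD3_c43)) :=
  Lre_a IH (LK LD1_c9 LD2_c52 LD3_c2) (LK LD1_c18 LD2_c3 LD3_c43) Lrfl Lrfl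
theorem f3588 : Led Lsl_bt (LP (LK LD1_c5 LD2_c1 LD3_c47)) = (LP (LK LD1_c2 LD2_c28 LD3_c34)) :=
  Lre_b IH (LK LD1_c5 LD2_c1 LD3_c47) (LK LD1_c2 LD2_c28 LD3_c34) Lrfl Lrfl
theorem f320852 : Led Lsl_at (LP (LK LD1_c9 LD2_c53 LD3_c60)) = (LP (LK LD1_c5 LD2_c1 LD3_c47)) :=
  Lre_a IH (LK LD1_c9 LD2_c53 LD3_c60) (LK LD1_c5 LD2_c1 LD3_c47) Lrfl Lrfl
theorem f320853 : Led Lsl_bt (LP (LK LD1_c18 LD2_c3 LD3_c43)) = (LP (LK LD1_c9 LD2_c53 LD3_c60)) :=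
  Lgr Lrot62 (Lpe (f180990 IH) (Lpe (f180755 IH) (Lpr_af (K20.f320850 IH) (Lpe (f3588 IH) (Lpe (f320852 IH) (Lpn (LP (LK LD1_c9 LD2_c53 LD3_c60))))))))
theorem f180989 : Led Lsl_at (LP (LK LD1_c10 LD2_c20 LD3_c52)) = (LP (LK LD1_c5 LD2_c15 LD3_c46)) :=
  Lre_a IH (LK LD1_c10 LD2_c20 LD3_c52) (LK LD1_c5 LD2_c15 LD3_c46) Lrfl Lrfl
theorem f180991 : Led Lsl_cf (LP (LK LD1_c10 LD2_c20 LD3_c52)) = (LP (LK LD1_c18 LD2_c3 LD3_c43)) :=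
  Lgr Lrot1 (Lpr_at (f180989 IH) (Lpr_ct (K23.f180961 IH) (Lpr_at (f180990 IH) (Lpn (LP (LK LD1_c18 LD2_c3 LD3_c43))))))
theorem f181008 : Led Lsl_ct (LP (LK LD1_c10 LD2_c20 LD3_c52)) = (LP (LK LD1_c18 LD2_c3 LD3_c43)) :=
  Lgr Lrot59 (Lpr_cf (f180991 IH) (Lpn (LP (LK LD1_c18 LD2_c3 LD3_c43))))
theorem f343209 : Led Lsl_bt (LP (LK LD1_c18 LD2_c44 LD3_c50)) = (LP (LK LD1_c10 LD2_c20 LD3_c52)) :=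
  Lgr Lrot128 (Lpr_cf (f214969 IH) (Lpr_bf (f343203 IH) (Lpe (f343022 IH) (Lpe (f320853 IH) (Lpe (f181008 IH) (Lpn (LP (LK LD1_c10 LD2_c20 LD3_c52))))))))
theorem f214974 : Led Lsl_et (LP (LK LD1_c28 LD2_c14 LD3_c41)) = (LP (LK LD1_c18 LD2_c44 LD3_c50)) :=
  Lre_e IH (LK LD1_c28 LD2_c14 LD3_c41) (LK LD1_c18 LD2_c44 LD3_c50) Lrfl Lrfl
theorem f181011 : Led Lsl_et (LP (LK LD1_c10 LD2_c20 LD3_c52)) = (LP (LK LD1_c18 LD2_c46 LD3_c46)) :=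
  Lre_e IH (LK LD1_c10 LD2_c20 LD3_c52) (LK LD1_c18 LD2_c46 LD3_c46) Lrfl Lrfl
theorem f343215 : Led Lsl_bf (LP (LK LD1_c28 LD2_c14 LD3_c41)) = (LP (LK LD1_c18 LD2_c46 LD3_c46)) :=
  Lgr Lrot96 (Lpr_et (f214974 IH) (Lpr_bt (f343209 IH) (Lpr_et (f181011 IH) (Lpn (LP (LK LD1_c18 LD2_c46 LD3_c46))))))
theorem f343218 : Led Lsl_dt (LP (LK LD1_c28 LD2_c14 LD3_c41)) = (LP (LK LD1_c32 LD2_c32 LD3_c56)) :=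
  Lre_d IH (LK LD1_c28 LD2_c14 LD3_c41) (LK LD1_c32 LD2_c32 LD3_c56) Lrfl Lrfl
theorem f181021 : Led Lsl_dt (LP (LK LD1_c28 LD2_c16 LD3_c20)) = (LP (LK LD1_c18 LD2_c46 LD3_c46)) :=
  Lre_d IH (LK LD1_c28 LD2_c16 LD3_c20) (LK LD1_c18 LD2_c46 LD3_c46) Lrfl Lrfl
theorem f343219 : Led Lsl_bt (LP (LK LD1_c32 LD2_c32 LD3_c56)) = (LP (LK LD1_c28 LD2_c16 LD3_c20)) :=
  Lgr Lrot95 (Lpe (f343218 IH) (Lpr_bf (f343215 IH) (Lpe (f181021 IH) (Lpn (LP (LK LD1_c28 LD2_c16 LD3_c20))))))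
theorem f336221 : Led Lsl_at (LP (LK LD1_c28 LD2_c14 LD3_c44)) = (LP (LK LD1_c32 LD2_c32 LD3_c56)) :=
  Lre_a IH (LK LD1_c28 LD2_c14 LD3_c44) (LK LD1_c32 LD2_c32 LD3_c56) Lrfl Lrfl
theorem f317859 : Led Lsl_bt (LP (LK LD1_c18 LD2_c44 LD3_c55)) = (LP (LK LD1_c28 LD2_c14 LD3_c44)) :=
  Lre_b IH (LK LD1_c18 LD2_c44 LD3_c55) (LK LD1_c28 LD2_c14 LD3_c44) Lrfl Lrfl
theorem f343221 : Led Lsl_at (LP (LK LD1_c28 LD2_c16 LD3_c20)) = (LP (LK LD1_c18 LD2_c46 LD3_c50)) :=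
  Lre_a IH (LK LD1_c28 LD2_c16 LD3_c20) (LK LD1_c18 LD2_c46 LD3_c50) Lrfl Lrfl
theorem f340707 : Led Lsl_bt (LP (LK LD1_c18 LD2_c46 LD3_c50)) = (LP (LK LD1_c10 LD2_c20 LD3_c59)) :=
  Lre_b IH (LK LD1_c18 LD2_c46 LD3_c50) (LK LD1_c10 LD2_c20 LD3_c59) Lrfl Lrfl
theorem f343222 : Led Lsl_af (LP (LK LD1_c18 LD2_c44 LD3_c55)) = (LP (LK LD1_c10 LD2_c20 LD3_c59)) :=
  Lgr Lrot36 (Lpr_bt (f317859 IH) (Lpr_at (f336221 IH) (Lpr_bt (f343219 IH) (Lpr_at (f343221 IH) (Lpr_bt (f340707 IH) (Lpn (LP (LK LD1_c10 LD2_c20 LD3_c59))))))))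
theorem f214812 : Led Lsl_gt (LP (LK LD1_c28 LD2_c14 LD3_c46)) = (LP (LK LD1_c18 LD2_c44 LD3_c55)) :=
  Lre_g IH (LK LD1_c28 LD2_c14 LD3_c46) (LK LD1_c18 LD2_c44 LD3_c55) Lrfl Lrfl
theorem f343229 : Led Lsl_ft (LP (LK LD1_c18 LD2_c47 LD3_c1)) = (LP (LK LD1_c10 LD2_c20 LD3_c59)) :=
  Lre_f IH (LK LD1_c18 LD2_c47 LD3_c1) (LK LD1_c10 LD2_c20 LD3_c59) Lrfl Lrfl
theorem f343230 : Led Lsl_gf (LP (LK LD1_c28 LD2_c14 LD3_c46)) = (LP (LK LD1_c18 LD2_c47 LD3_c1)) :=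
  Lgr Lrot47 (Lpr_gt (f214812 IH) (Lpr_af (f343222 IH) (Lpe (f343229 IH) (Lpn (LP (LK LD1_c18 LD2_c47 LD3_c1))))))
theorem f278392 : Led Lsl_ft (LP (LK LD1_c18 LD2_c53 LD3_c15)) = (LP (LK LD1_c10 LD2_c24 LD3_c39)) :=
  Lre_f IH (LK LD1_c18 LD2_c53 LD3_c15) (LK LD1_c10 LD2_c24 LD3_c39) Lrfl Lrfl
theorem f278393 : Led Lsl_cf (LP (LK LD1_c18 LD2_c53 LD3_c15)) = (LP (LK LD1_c18 LD2_c4 LD3_c17)) :=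
  Lgr Lrot108 (Lpr_ft (f278392 IH) (Lpr_ct (K23.f278383 IH) (Lpr_ft (K16.f252643 IH) (Lpn (LP (LK LD1_c18 LD2_c4 LD3_c17))))))
theorem f278396 : Led Lsl_ct (LP (LK LD1_c18 LD2_c53 LD3_c15)) = (LP (LK LD1_c18 LD2_c4 LD3_c17)) :=
  Lgr Lrot59 (Lpr_cf (f278393 IH) (Lpn (LP (LK LD1_c18 LD2_c4 LD3_c17))))
theorem f359656 : Led Lsl_dt (LP (LK LD1_c28 LD2_c14 LD3_c46)) = (LP (LK LD1_c18 LD2_c53 LD3_c15)) :=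
  Lgr Lrot105 (Lpr_gf (f343230 IH) (Lpe (K20.f322854 IH) (Lpr_gf (f322889 IH) (Lpr_cf (f337579 IH) (Lpr_gt (f359654 IH) (Lpe (K17.f286323 IH) (Lpr_gt (f359644 IH) (Lpr_dt (K16.f252649 IH) (Lpe (f278396 IH) (Lpn (LP (LK LD1_c18 LD2_c53 LD3_c15))))))))))))
theorem f359666 : Led Lsl_df (LP (LK LD1_c28 LD2_c14 LD3_c46)) = (LP (LK LD1_c18 LD2_c53 LD3_c15)) :=
  Lgr Lrot38 (Lpr_dt (f359656 IH) (Lpn (LP (LK LD1_c18 LD2_c53 LD3_c15))))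
theorem f252536 : Led Lsl_et (LP (LK LD1_c5 LD2_c15 LD3_c2)) = (LP (LK LD1_c10 LD2_c19 LD3_c34)) :=
  Lre_e IH (LK LD1_c5 LD2_c15 LD3_c2) (LK LD1_c10 LD2_c19 LD3_c34) Lrfl Lrfl
theorem f252537 : Led Lsl_gt (LP (LK LD1_c10 LD2_c19 LD3_c34)) = (LP (LK LD1_c18 LD2_c44 LD3_c47)) :=
  Lre_g IH (LK LD1_c10 LD2_c19 LD3_c34) (LK LD1_c18 LD2_c44 LD3_c47) Lrfl Lrfl
theorem f359712 : Led Lsl_ef (LP (LK LD1_c18 LD2_c44 LD3_c47)) = (LP (LK LD1_c18 LD2_c53 LD3_c15)) :=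
  Lgr Lrot17 (Lpe (f252537 IH) (Lpe (f252536 IH) (Lpr_dt (K14.f192458 IH) (Lpe (K14.f252534 IH) (Lpe (K13.f231970 IH) (Lpr_gf (K14.f252515 IH) (Lpe (K21.f214839 IH) (Lpr_dt (K20.f214840 IH) (Lpe (f214812 IH) (Lpr_df (f359666 IH) (Lpn (LP (LK LD1_c18 LD2_c53 LD3_c15)))))))))))))
theorem f359716 : Led Lsl_et (LP (LK LD1_c18 LD2_c44 LD3_c47)) = (LP (LK LD1_c18 LD2_c53 LD3_c15)) :=
  Lgr Lrot87 (Lpr_ef (f359712 IH) (Lpn (LP (LK LD1_c18 LD2_c53 LD3_c15))))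
theorem f359718 : Led Lsl_cf (LP (LK LD1_c18 LD2_c44 LD3_c47)) = (LP (LK LD1_c11 LD2_c54 LD3_c57)) :=
  Lgr Lrot39 (Lpr_et (f359716 IH) (Lpr_ct (f278396 IH) (Lpe (f359650 IH) (Lpn (LP (LK LD1_c11 LD2_c54 LD3_c57))))))
theorem f252699 : Led Lsl_ct (LP (LK LD1_c5 LD2_c15 LD3_c3)) = (LP (LK LD1_c10 LD2_c19 LD3_c34)) :=
  Lre_c IH (LK LD1_c5 LD2_c15 LD3_c3) (LK LD1_c10 LD2_c19 LD3_c34) Lrfl Lrfl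
theorem f43841 : Led Lsl_gt (LP (LK LD1_c4 LD2_c54 LD3_c21)) = (LP (LK LD1_c9 LD2_c40 LD3_c10)) :=
  Lre_g IH (LK LD1_c4 LD2_c54 LD3_c21) (LK LD1_c9 LD2_c40 LD3_c10) Lrfl Lrfl
theorem f289944 : Led Lsl_gt (LP (LK LD1_c9 LD2_c40 LD3_c10)) = (LP (LK LD1_c5 LD2_c10 LD3_c14)) :=
  Lgr Lrot46 (Lpe (f43841 IH) (Lpr_ft (K17.f250463 IH) (Lpr_at (K17.f289929 IH) (Lpn (LP (LK LD1_c5 LD2_c10 LD3_c14))))))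
theorem f359720 : Led Lsl_bf (LP (LK LD1_c9 LD2_c40 LD3_c10)) = (LP (LK LD1_c11 LD2_c54 LD3_c57)) :=
  Lgr Lrot156 (Lpr_gt (f289944 IH) (Lpe (K19.f289951 IH) (Lpr_ct (K19.f289952 IH) (Lpr_gt (K19.f300181 IH) (Lpe (K18.f185009 IH) (Lpr_bt (K15.f185005 IH) (Lpe (K15.f259202 IH) (Lpr_ct (f252699 IH) (Lpr_gt (f252537 IH) (Lpr_cf (f359718 IH) (Lpn (LP (LK LD1_c11 LD2_c54 LD3_c57)))))))))))))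
theorem f359724 : Led Lsl_et (LP (LK LD1_c9 LD2_c40 LD3_c10)) = (LP (LK LD1_c9 LD2_c56 LD3_c36)) :=
  Lgr Lrot74 (Lpr_bf (f359720 IH) (Lpr_ef (f359650 IH) (Lpr_bf (f278304 IH) (Lpn (LP (LK LD1_c9 LD2_c56 LD3_c36))))))
theorem f359601 : Led Lsl_ff (LP (LK LD1_c2 LD2_c31 LD3_c55)) = (LP (LK LD1_c2 LD2_c28 LD3_c61)) :=
  Lgr Lrot3 (Lpr_ft (f359595 IH) (Lpn (LP (LK LD1_c2 LD2_c28 LD3_c61))))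
theorem f359730 : Led Lsl_ff (LP (LK LD1_c9 LD2_c40 LD3_c10)) = (LP (LK LD1_c5 LD2_c9 LD3_c37)) :=
  Lgr Lrot72 (Lpr_et (f359724 IH) (Lpr_ft (K16.f278228 IH) (Lpr_et (K19.f192138 IH) (Lpe (f359601 IH) (Lpr_et (K14.f246163 IH) (Lpn (LP (LK LD1_c5 LD2_c9 LD3_c37))))))))
theorem f189577 : Led Lsl_gt (LP (LK LD1_c2 LD2_c32 LD3_c9)) = (LP (LK LD1_c5 LD2_c10 LD3_c12)) :=
  Lre_g IH (LK LD1_c2 LD2_c32 LD3_c9) (LK LD1_c5 LD2_c10 LD3_c12) Lrfl Lrfl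
theorem f359740 : Led Lsl_at (LP (LK LD1_c9 LD2_c40 LD3_c10)) = (LP (LK LD1_c5 LD2_c10 LD3_c12)) :=
  Lgr Lrot26 (Lpr_ff (f359730 IH) (Lpe (K14.f254218 IH) (Lpr_gt (f189577 IH) (Lpn (LP (LK LD1_c5 LD2_c10 LD3_c12))))))
theorem f359728 : Led Lsl_ef (LP (LK LD1_c9 LD2_c40 LD3_c10)) = (LP (LK LD1_c9 LD2_c56 LD3_c36)) :=
  Lgr Lrot88 (Lpr_et (f359724 IH) (Lpn (LP (LK LD1_c9 LD2_c56 LD3_c36))))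
theorem f359624 : Led Lsl_at (LP (LK LD1_c10 LD2_c9 LD3_c53)) = (LP (LK LD1_c9 LD2_c56 LD3_c36)) :=
  Lgr Lrot100 (Lpr_af (f359617 IH) (Lpn (LP (LK LD1_c9 LD2_c56 LD3_c36))))
theorem f359746 : Led Lsl_ef (LP (LK LD1_c10 LD2_c9 LD3_c53)) = (LP (LK LD1_c5 LD2_c10 LD3_c12)) :=
  Lgr Lrot20 (Lpr_at (f359624 IH) (Lpe (f359728 IH) (Lpr_at (f359740 IH) (Lpn (LP (LK LD1_c5 LD2_c10 LD3_c12))))))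
theorem f359750 : Led Lsl_et (LP (LK LD1_c10 LD2_c9 LD3_c53)) = (LP (LK LD1_c5 LD2_c10 LD3_c12)) :=
  Lgr Lrot87 (Lpr_ef (f359746 IH) (Lpn (LP (LK LD1_c5 LD2_c10 LD3_c12))))
theorem f256461 : Led Lsl_ft (LP (LK LD1_c5 LD2_c9 LD3_c34)) = (LP (LK LD1_c10 LD2_c9 LD3_c53)) :=
  Lre_f IH (LK LD1_c5 LD2_c9 LD3_c34) (LK LD1_c10 LD2_c9 LD3_c53) Lrfl Lrfl
theorem f359559 : Led Lsl_ff (LP (LK LD1_c2 LD2_c31 LD3_c54)) = (LP (LK LD1_c2 LD2_c28 LD3_c60)) :=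
  Lgr Lrot19 (Lpr_dt (K14.f256393 IH) (Lpr_ft (f359553 IH) (Lpe (K15.f257572 IH) (Lpn (LP (LK LD1_c2 LD2_c28 LD3_c60))))))
theorem f257583 : Led Lsl_et (LP (LK LD1_c5 LD2_c2 LD3_c52)) = (LP (LK LD1_c2 LD2_c28 LD3_c60)) :=
  Lre_e IH (LK LD1_c5 LD2_c2 LD3_c52) (LK LD1_c2 LD2_c28 LD3_c60) Lrfl Lrfl
theorem f359754 : Led Lsl_ff (LP (LK LD1_c5 LD2_c2 LD3_c52)) = (LP (LK LD1_c5 LD2_c10 LD3_c12)) :=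
  Lgr Lrot72 (Lpr_et (f257583 IH) (Lpe (f359559 IH) (Lpr_et (K15.f256403 IH) (Lpr_ft (f256461 IH) (Lpr_et (f359750 IH) (Lpn (LP (LK LD1_c5 LD2_c10 LD3_c12))))))))
theorem f359756 : Led Lsl_at (LP (LK LD1_c5 LD2_c2 LD3_c52)) = (LP (LK LD1_c5 LD2_c9 LD3_c37)) :=
  Lgr Lrot66 (Lpr_ff (f359754 IH) (Lpe (f359740 IH) (Lpr_ff (f359730 IH) (Lpn (LP (LK LD1_c5 LD2_c9 LD3_c37))))))
theorem f359764 : Led Lsl_gf (LP (LK LD1_c9 LD2_c40 LD3_c11)) = (LP (LK LD1_c5 LD2_c10 LD3_c12)) :=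
  Lgr Lrot47 (Lpe (K21.f320329 IH) (Lpe (f359756 IH) (Lpr_ff (f359754 IH) (Lpn (LP (LK LD1_c5 LD2_c10 LD3_c12))))))
theorem f307418 : Led Lsl_gt (LP (LK LD1_c6 LD2_c7 LD3_c22)) = (LP (LK LD1_c11 LD2_c57 LD3_c28)) :=
  Lre_g IH (LK LD1_c6 LD2_c7 LD3_c22) (LK LD1_c11 LD2_c57 LD3_c28) Lrfl Lrfl
theorem f359766 : Led Lsl_df (LP (LK LD1_c11 LD2_c57 LD3_c28)) = (LP (LK LD1_c10 LD2_c9 LD3_c53)) :=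
  Lgr Lrot168 (Lpe (f307418 IH) (Lpr_df (K19.f307413 IH) (Lpe (K14.f248495 IH) (Lpe (f358767 IH) (Lpe (f251318 IH) (Lpe (f251319 IH) (Lpr_gf (f358779 IH) (Lpr_df (K21.f306567 IH) (Lpr_gf (f359764 IH) (Lpe (f359750 IH) (Lpn (LP (LK LD1_c10 LD2_c9 LD3_c53)))))))))))))
theorem f359628 : Led Lsl_gf (LP (LK LD1_c10 LD2_c9 LD3_c53)) = (LP (LK LD1_c9 LD2_c55 LD3_c37)) :=
  Lgr Lrot76 (Lpr_af (f359617 IH) (Lpe (f278231 IH) (Lpr_gt (K23.f330645 IH) (Lpn (LP (LK LD1_c9 LD2_c55 LD3_c37))))))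
theorem f185919 : Led Lsl_ct (LP (LK LD1_c18 LD2_c10 LD3_c14)) = (LP (LK LD1_c9 LD2_c55 LD3_c37)) :=
  Lre_c IH (LK LD1_c18 LD2_c10 LD3_c14) (LK LD1_c9 LD2_c55 LD3_c37) Lrfl Lrfl
theorem f248627 : Led Lsl_dt (LP (LK LD1_c17 LD2_c46 LD3_c7)) = (LP (LK LD1_c9 LD2_c39 LD3_c41)) :=
  Lre_d IH (LK LD1_c17 LD2_c46 LD3_c7) (LK LD1_c9 LD2_c39 LD3_c41) Lrfl Lrfl
theorem f359774 : Led Lsl_gt (LP (LK LD1_c11 LD2_c57 LD3_c28)) = (LP (LK LD1_c8 LD2_c11 LD3_c22)) :=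
  Lgr Lrot49 (Lpr_df (f359766 IH) (Lpr_gf (f359628 IH) (Lpe (f185919 IH) (Lpe (K19.f293520 IH) (Lpe (K19.f306194 IH) (Lpr_gt (K19.f248283 IH) (Lpr_dt (f248627 IH) (Lpe (K14.f248621 IH) (Lpe (K25.f278248 IH) (Lpn (LP (LK LD1_c8 LD2_c11 LD3_c22))))))))))))
theorem f359772 : Led Lsl_ft (LP (LK LD1_c11 LD2_c57 LD3_c28)) = (LP (LK LD1_c8 LD2_c10 LD3_c54)) :=
  Lgr Lrot54 (Lpr_df (f359766 IH) (Lpe (f256461 IH) (Lpe (K15.f256455 IH) (Lpn (LP (LK LD1_c8 LD2_c10 LD3_c54))))))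
theorem f359776 : Led Lsl_at (LP (LK LD1_c8 LD2_c10 LD3_c54)) = (LP (LK LD1_c4 LD2_c5 LD3_c16)) :=
  Lgr Lrot26 (Lpe (f359772 IH) (Lpr_gt (f359774 IH) (Lpr_gt (K23.f278241 IH) (Lpn (LP (LK LD1_c4 LD2_c5 LD3_c16))))))
theorem f359782 : Led Lsl_af (LP (LK LD1_c4 LD2_c5 LD3_c3)) = (LP (LK LD1_c1 LD2_c59 LD3_c49)) :=
  Lgr Lrot50 (Lpr_et (K15.f55096 IH) (Lpr_at (f359776 IH) (Lpr_et (K16.f188099 IH) (Lpn (LP (LK LD1_c1 LD2_c59 LD3_c49))))))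
theorem f359784 : Led Lsl_at (LP (LK LD1_c8 LD2_c10 LD3_c53)) = (LP (LK LD1_c4 LD2_c5 LD3_c15)) :=
  Lgr Lrot107 (Lpe (K15.f55607 IH) (Lpr_af (f359782 IH) (Lpe (K21.f188092 IH) (Lpn (LP (LK LD1_c4 LD2_c5 LD3_c15))))))
theorem f359790 : Led Lsl_ff (LP (LK LD1_c8 LD2_c10 LD3_c53)) = (LP (LK LD1_c4 LD2_c5 LD3_c12)) :=
  Lgr Lrot52 (Lpr_at (f359784 IH) (Lpe (K21.f291845 IH) (Lpe (K20.f264087 IH) (Lpn (LP (LK LD1_c4 LD2_c5 LD3_c12))))))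
theorem f359797 : Led Lsl_ft (LP (LK LD1_c8 LD2_c10 LD3_c53)) = (LP (LK LD1_c4 LD2_c5 LD3_c12)) :=
  Lgr Lrot48 (Lpr_ff (f359790 IH) (Lpn (LP (LK LD1_c4 LD2_c5 LD3_c12))))
theorem f47963 : Led Lsl_ct (LP (LK LD1_c8 LD2_c10 LD3_c52)) = (LP (LK LD1_c4 LD2_c5 LD3_c2)) :=
  Lre_c IH (LK LD1_c8 LD2_c10 LD3_c52) (LK LD1_c4 LD2_c5 LD3_c2) Lrfl Lrfl
theorem f261347 : Led Lsl_gt (LP (LK LD1_c10 LD2_c0 LD3_c43)) = (LP (LK LD1_c8 LD2_c10 LD3_c52)) :=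
  Lgr Lrot150 (Lpe (K15.f259586 IH) (Lpr_gf (K15.f261343 IH) (Lpe (K14.f50753 IH) (Lpr_gt (K9.f49221 IH) (Lpr_ct (K9.f50749 IH) (Lpr_gt (K10.f44455 IH) (Lpe (K10.f190865 IH) (Lpe (K10.f47970 IH) (Lpe (f47963 IH) (Lpn (LP (LK LD1_c8 LD2_c10 LD3_c52))))))))))))
theorem f359804 : Led Lsl_af (LP (LK LD1_c8 LD2_c10 LD3_c52)) = (LP (LK LD1_c4 LD2_c5 LD3_c12)) :=
  Lgr Lrot31 (Lpe (f261347 IH) (Lpr_gf (K15.f259582 IH) (Lpr_ft (f359797 IH) (Lpn (LP (LK LD1_c4 LD2_c5 LD3_c12))))))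
theorem f223123 : Led Lsl_ef (LP (LK LD1_c15 LD2_c2 LD3_c32)) = (LP (LK LD1_c8 LD2_c10 LD3_c52)) :=
  Lgr Lrot28 (Lpr_ct (K25.f223115 IH) (Lpr_et (f223121 IH) (Lpr_ct (K17.f47965 IH) (Lpn (LP (LK LD1_c8 LD2_c10 LD3_c52))))))
theorem f265827 : Led Lsl_et (LP (LK LD1_c8 LD2_c11 LD3_c13)) = (LP (LK LD1_c4 LD2_c5 LD3_c12)) :=
  Lre_e IH (LK LD1_c8 LD2_c11 LD3_c13) (LK LD1_c4 LD2_c5 LD3_c12) Lrfl Lrfl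
theorem f359810 : Led Lsl_at (LP (LK LD1_c15 LD2_c2 LD3_c32)) = (LP (LK LD1_c8 LD2_c11 LD3_c13)) :=
  Lgr Lrot80 (Lpr_ef (f223123 IH) (Lpr_af (f359804 IH) (Lpe (f265827 IH) (Lpn (LP (LK LD1_c8 LD2_c11 LD3_c13))))))
theorem f359818 : Led Lsl_af (LP (LK LD1_c7 LD2_c58 LD3_c24)) = (LP (LK LD1_c4 LD2_c5 LD3_c13)) :=
  Lgr Lrot68 (Lpr_ct (K25.f223118 IH) (Lpr_at (f359810 IH) (Lpr_ct (K25.f223957 IH) (Lpn (LP (LK LD1_c4 LD2_c5 LD3_c13))))))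
theorem f359822 : Led Lsl_at (LP (LK LD1_c3 LD2_c58 LD3_c29)) = (LP (LK LD1_c7 LD2_c57 LD3_c44)) :=
  Lgr Lrot51 (Lpe (K25.f223092 IH) (Lpr_af (f359818 IH) (Lpe (K15.f223958 IH) (Lpn (LP (LK LD1_c7 LD2_c57 LD3_c44))))))
theorem f359830 : Led Lsl_ft (LP (LK LD1_c7 LD2_c58 LD3_c25)) = (LP (LK LD1_c3 LD2_c58 LD3_c29)) :=
  Lre_f IH (LK LD1_c7 LD2_c58 LD3_c25) (LK LD1_c3 LD2_c58 LD3_c29) Lrfl Lrfl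
theorem f223962 : Led Lsl_ft (LP (LK LD1_c7 LD2_c57 LD3_c44)) = (LP (LK LD1_c15 LD2_c1 LD3_c6)) :=
  Lre_f IH (LK LD1_c7 LD2_c57 LD3_c44) (LK LD1_c15 LD2_c1 LD3_c6) Lrfl Lrfl
theorem f359831 : Led Lsl_af (LP (LK LD1_c7 LD2_c58 LD3_c25)) = (LP (LK LD1_c15 LD2_c1 LD3_c6)) :=
  Lgr Lrot45 (Lpr_ft (f359830 IH) (Lpr_at (f359822 IH) (Lpr_ft (f223962 IH) (Lpn (LP (LK LD1_c15 LD2_c1 LD3_c6))))))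
theorem f359835 : Led Lsl_ct (LP (LK LD1_c7 LD2_c58 LD3_c25)) = (LP (LK LD1_c15 LD2_c2 LD3_c28)) :=
  Lre_c IH (LK LD1_c7 LD2_c58 LD3_c25) (LK LD1_c15 LD2_c2 LD3_c28) Lrfl Lrfl
theorem f223977 : Led Lsl_ct (LP (LK LD1_c24 LD2_c48 LD3_c51)) = (LP (LK LD1_c15 LD2_c1 LD3_c6)) :=
  Lre_c IH (LK LD1_c24 LD2_c48 LD3_c51) (LK LD1_c15 LD2_c1 LD3_c6) Lrfl Lrfl
theorem f359836 : Led Lsl_at (LP (LK LD1_c15 LD2_c2 LD3_c28)) = (LP (LK LD1_c24 LD2_c48 LD3_c51)) :=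
  Lgr Lrot107 (Lpe (f359835 IH) (Lpr_af (f359831 IH) (Lpe (f223977 IH) (Lpn (LP (LK LD1_c24 LD2_c48 LD3_c51))))))
theorem f359844 : Led Lsl_af (LP (LK LD1_c15 LD2_c2 LD3_c28)) = (LP (LK LD1_c24 LD2_c48 LD3_c51)) :=
  Lgr Lrot0 (Lpr_at (f359836 IH) (Lpn (LP (LK LD1_c24 LD2_c48 LD3_c51))))
theorem f359852 : Led Lsl_ft (LP (LK LD1_c15 LD2_c2 LD3_c28)) = (LP (LK LD1_c7 LD2_c58 LD3_c21)) :=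
  Lre_f IH (LK LD1_c15 LD2_c2 LD3_c28) (LK LD1_c7 LD2_c58 LD3_c21) Lrfl Lrfl
theorem f224043 : Led Lsl_ft (LP (LK LD1_c15 LD2_c1 LD3_c4)) = (LP (LK LD1_c24 LD2_c48 LD3_c51)) :=
  Lre_f IH (LK LD1_c15 LD2_c1 LD3_c4) (LK LD1_c24 LD2_c48 LD3_c51) Lrfl Lrfl
theorem f359853 : Led Lsl_at (LP (LK LD1_c7 LD2_c58 LD3_c21)) = (LP (LK LD1_c15 LD2_c1 LD3_c4)) :=
  Lgr Lrot66 (Lpe (f359852 IH) (Lpr_af (f359844 IH) (Lpe (f224043 IH) (Lpn (LP (LK LD1_c15 LD2_c1 LD3_c4))))))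
theorem f223972 : Led Lsl_gt (LP (LK LD1_c24 LD2_c48 LD3_c49)) = (LP (LK LD1_c15 LD2_c1 LD3_c4)) :=
  Lre_g IH (LK LD1_c24 LD2_c48 LD3_c49) (LK LD1_c15 LD2_c1 LD3_c4) Lrfl Lrfl
theorem f359861 : Led Lsl_gt (LP (LK LD1_c15 LD2_c2 LD3_c28)) = (LP (LK LD1_c24 LD2_c48 LD3_c49)) :=
  Lgr Lrot5 (Lpr_ft (f359852 IH) (Lpr_at (f359853 IH) (Lpe (f223972 IH) (Lpn (LP (LK LD1_c24 LD2_c48 LD3_c49))))))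
theorem f223110 : Led Lsl_bt (LP (LK LD1_c7 LD2_c58 LD3_c25)) = (LP (LK LD1_c15 LD2_c2 LD3_c18)) :=
  Lre_b IH (LK LD1_c7 LD2_c58 LD3_c25) (LK LD1_c15 LD2_c2 LD3_c18) Lrfl Lrfl
theorem f335967 : Led Lsl_af (LP (LK LD1_c5 LD2_c20 LD3_c49)) = (LP (LK LD1_c8 LD2_c2 LD3_c43)) :=
  Lgr Lrot36 (Lpr_bt (K25.f42181 IH) (Lpr_at (K22.f335965 IH) (Lpr_bt (K25.f194467 IH) (Lpr_at (K21.f194510 IH) (Lpe (K25.f329788 IH) (Lpn (LP (LK LD1_c8 LD2_c2 LD3_c43))))))))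
theorem f357544 : Led Lsl_gt (LP (LK LD1_c15 LD2_c8 LD3_c55)) = (LP (LK LD1_c8 LD2_c8 LD3_c51)) :=
  Lgr Lrot5 (Lpr_ft (K19.f196783 IH) (Lpe (f335967 IH) (Lpr_gf (K25.f357542 IH) (Lpn (LP (LK LD1_c8 LD2_c8 LD3_c51))))))
theorem f311375 : Led Lsl_ff (LP (LK LD1_c15 LD2_c36 LD3_c39)) = (LP (LK LD1_c8 LD2_c29 LD3_c7)) :=
  Lgr Lrot19 (Lpr_dt (K25.f292422 IH) (Lpr_ft (K19.f311371 IH) (Lpr_dt (K22.f283247 IH) (Lpn (LP (LK LD1_c8 LD2_c29 LD3_c7))))))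
theorem f194260 : Led Lsl_gt (LP (LK LD1_c8 LD2_c29 LD3_c7)) = (LP (LK LD1_c15 LD2_c56 LD3_c5)) :=
  Lre_g IH (LK LD1_c8 LD2_c29 LD3_c7) (LK LD1_c15 LD2_c56 LD3_c5) Lrfl Lrfl
theorem f339634 : Led Lsl_gf (LP (LK LD1_c11 LD2_c53 LD3_c14)) = (LP (LK LD1_c15 LD2_c56 LD3_c5)) :=
  Lgr Lrot76 (Lpr_af (K22.f339625 IH) (Lpr_ff (f311375 IH) (Lpr_gt (f194260 IH) (Lpn (LP (LK LD1_c15 LD2_c56 LD3_c5))))))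
theorem f357555 : Led Lsl_et (LP (LK LD1_c15 LD2_c19 LD3_c55)) = (LP (LK LD1_c15 LD2_c56 LD3_c5)) :=
  Lgr Lrot185 (Lpr_dt (K25.f357547 IH) (Lpe (f357544 IH) (Lpe (K19.f196784 IH) (Lpr_gf (K23.f340109 IH) (Lpr_ef (K23.f231268 IH) (Lpe (K23.f231251 IH) (Lpe (K25.f310750 IH) (Lpe (K24.f182859 IH) (Lpr_et (K17.f283470 IH) (Lpr_gf (f339634 IH) (Lpn (LP (LK LD1_c15 LD2_c56 LD3_c5)))))))))))))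
theorem f357557 : Led Lsl_ef (LP (LK LD1_c15 LD2_c19 LD3_c55)) = (LP (LK LD1_c15 LD2_c56 LD3_c5)) :=
  Lgr Lrot88 (Lpr_et (f357555 IH) (Lpn (LP (LK LD1_c15 LD2_c56 LD3_c5))))
theorem f356013 : Led Lsl_dt (LP (LK LD1_c8 LD2_c53 LD3_c45)) = (LP (LK LD1_c16 LD2_c38 LD3_c15)) :=
  Lre_d IH (LK LD1_c8 LD2_c53 LD3_c45) (LK LD1_c16 LD2_c38 LD3_c15) Lrfl Lrfl
theorem f343671 : Led Lsl_at (LP (LK LD1_c8 LD2_c38 LD3_c32)) = (LP (LK LD1_c9 LD2_c41 LD3_c11)) :=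
  Lgr Lrot107 (Lpe (K25.f187483 IH) (Lpe (K25.f324860 IH) (Lpr_cf (K23.f343663 IH) (Lpn (LP (LK LD1_c9 LD2_c41 LD3_c11))))))
theorem f352536 : Led Lsl_gt (LP (LK LD1_c15 LD2_c22 LD3_c44)) = (LP (LK LD1_c9 LD2_c41 LD3_c11)) :=
  Lgr Lrot46 (Lpr_gf (K25.f352534 IH) (Lpr_ft (K10.f187267 IH) (Lpr_at (f343671 IH) (Lpn (LP (LK LD1_c9 LD2_c41 LD3_c11))))))
theorem f356015 : Led Lsl_dt (LP (LK LD1_c16 LD2_c38 LD3_c15)) = (LP (LK LD1_c8 LD2_c53 LD3_c45)) :=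
  Lre_d IH (LK LD1_c16 LD2_c38 LD3_c15) (LK LD1_c8 LD2_c53 LD3_c45) Lrfl Lrfl
theorem f356016 : Led Lsl_gt (LP (LK LD1_c11 LD2_c53 LD3_c37)) = (LP (LK LD1_c16 LD2_c38 LD3_c15)) :=
  Lgr Lrot189 (Lpe (K19.f42410 IH) (Lpe (K22.f42294 IH) (Lpe (K25.f339854 IH) (Lpr_gt (f352536 IH) (Lpr_dt (K24.f214049 IH) (Lpr_gt (K24.f214036 IH) (Lpe (K24.f216313 IH) (Lpr_ct (K25.f356005 IH) (Lpe (f356015 IH) (Lpn (LP (LK LD1_c16 LD2_c38 LD3_c15))))))))))))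
theorem f42283 : Led Lsl_ft (LP (LK LD1_c11 LD2_c53 LD3_c37)) = (LP (LK LD1_c20 LD2_c57 LD3_c20)) :=
  Lre_f IH (LK LD1_c11 LD2_c53 LD3_c37) (LK LD1_c20 LD2_c57 LD3_c20) Lrfl Lrfl
theorem f310990 : Led Lsl_af (LP (LK LD1_c19 LD2_c14 LD3_c10)) = (LP (LK LD1_c20 LD2_c57 LD3_c20)) :=
  Lgr Lrot109 (Lpr_cf (K19.f310979 IH) (Lpe (K19.f42273 IH) (Lpe (K19.f42272 IH) (Lpe (K19.f42271 IH) (Lpe (K25.f42270 IH) (Lpr_df (K15.f42149 IH) (Lpe (K19.f42274 IH) (Lpe (K25.f42275 IH) (Lpr_ft (f42283 IH) (Lpn (LP (LK LD1_c20 LD2_c57 LD3_c20))))))))))))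
theorem f356019 : Led Lsl_gf (LP (LK LD1_c19 LD2_c14 LD3_c10)) = (LP (LK LD1_c16 LD2_c38 LD3_c15)) :=
  Lgr Lrot76 (Lpr_af (f310990 IH) (Lpe (f42283 IH) (Lpr_gt (f356016 IH) (Lpn (LP (LK LD1_c16 LD2_c38 LD3_c15))))))
theorem f356048 : Led Lsl_gf (LP (LK LD1_c20 LD2_c55 LD3_c10)) = (LP (LK LD1_c11 LD2_c53 LD3_c21)) :=
  Lgr Lrot141 (Lpe (K25.f267293 IH) (Lpe (K25.f267294 IH) (Lpe (K25.f354680 IH) (Lpe (K25.f247385 IH) (Lpr_et (K22.f321500 IH) (Lpr_gt (K25.f356043 IH) (Lpr_dt (f356013 IH) (Lpe (f356019 IH) (Lpe (K25.f283455 IH) (Lpr_et (K17.f283442 IH) (Lpn (LP (LK LD1_c11 LD2_c53 LD3_c21)))))))))))))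
theorem f348549 : Led Lsl_ct (LP (LK LD1_c15 LD2_c30 LD3_c5)) = (LP (LK LD1_c20 LD2_c55 LD3_c10)) :=
  Lgr Lrot8 (Lpr_gt (K23.f348545 IH) (Lpe (K21.f322361 IH) (Lpr_gt (K21.f330896 IH) (Lpe (K20.f322166 IH) (Lpe (K22.f254840 IH) (Lpe (K22.f254844 IH) (Lpr_gf (K22.f267287 IH) (Lpe (K22.f190120 IH) (Lpe (K25.f267289 IH) (Lpn (LP (LK LD1_c20 LD2_c55 LD3_c10))))))))))))
theorem f350143 : Led Lsl_cf (LP (LK LD1_c15 LD2_c29 LD3_c60)) = (LP (LK LD1_c8 LD2_c39 LD3_c12)) :=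
  Lgr Lrot11 (Lpr_ct (K24.f350141 IH) (Lpn (LP (LK LD1_c8 LD2_c39 LD3_c12))))
theorem f328384 : Led Lsl_bt (LP (LK LD1_c6 LD2_c5 LD3_c1)) = (LP (LK LD1_c11 LD2_c53 LD3_c14)) :=
  Lre_b IH (LK LD1_c6 LD2_c5 LD3_c1) (LK LD1_c11 LD2_c53 LD3_c14) Lrfl Lrfl
theorem f356054 : Led Lsl_bt (LP (LK LD1_c8 LD2_c39 LD3_c12)) = (LP (LK LD1_c15 LD2_c56 LD3_c5)) :=
  Lgr Lrot22 (Lpe (f350143 IH) (Lpe (K24.f195503 IH) (Lpe (K20.f195464 IH) (Lpe (K20.f195493 IH) (Lpe (K25.f195494 IH) (Lpr_ct (f348549 IH) (Lpr_gf (f356048 IH) (Lpe (K23.f283456 IH) (Lpr_bt (f328384 IH) (Lpr_gf (f339634 IH) (Lpn (LP (LK LD1_c15 LD2_c56 LD3_c5)))))))))))))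
theorem f328129 : Led Lsl_et (LP (LK LD1_c8 LD2_c8 LD3_c53)) = (LP (LK LD1_c8 LD2_c39 LD3_c12)) :=
  Lgr Lrot71 (Lpe (K21.f293294 IH) (Lpr_ef (K21.f328120 IH) (Lpe (K21.f299266 IH) (Lpe (K21.f323824 IH) (Lpe (K21.f231444 IH) (Lpn (LP (LK LD1_c8 LD2_c39 LD3_c12))))))))
theorem f357559 : Led Lsl_bt (LP (LK LD1_c15 LD2_c19 LD3_c55)) = (LP (LK LD1_c8 LD2_c8 LD3_c53)) :=
  Lgr Lrot119 (Lpr_ef (f357557 IH) (Lpe (f356054 IH) (Lpe (f328129 IH) (Lpn (LP (LK LD1_c8 LD2_c8 LD3_c53))))))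
theorem f314411 : Led Lsl_bt (LP (LK LD1_c4 LD2_c56 LD3_c1)) = (LP (LK LD1_c4 LD2_c4 LD3_c47)) :=
  Lgr Lrot127 (Lpr_bf (K19.f314409 IH) (Lpn (LP (LK LD1_c4 LD2_c4 LD3_c47))))
theorem f314413 : Led Lsl_ct (LP (LK LD1_c4 LD2_c56 LD3_c1)) = (LP (LK LD1_c9 LD2_c43 LD3_c42)) :=
  Lre_c IH (LK LD1_c4 LD2_c56 LD3_c1) (LK LD1_c9 LD2_c43 LD3_c42) Lrfl Lrfl
theorem f314573 : Led Lsl_ft (LP (LK LD1_c9 LD2_c43 LD3_c52)) = (LP (LK LD1_c4 LD2_c56 LD3_c4)) :=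
  Lre_f IH (LK LD1_c9 LD2_c43 LD3_c52) (LK LD1_c4 LD2_c56 LD3_c4) Lrfl Lrfl
theorem f314572 : Led Lsl_at (LP (LK LD1_c4 LD2_c56 LD3_c4)) = (LP (LK LD1_c9 LD2_c43 LD3_c42)) :=
  Lre_a IH (LK LD1_c4 LD2_c56 LD3_c4) (LK LD1_c9 LD2_c43 LD3_c42) Lrfl Lrfl
theorem f350157 : Led Lsl_gf (LP (LK LD1_c9 LD2_c43 LD3_c42)) = (LP (LK LD1_c15 LD2_c20 LD3_c30)) :=
  Lgr Lrot76 (Lpe (f314572 IH) (Lpe (f314573 IH) (Lpr_gt (K25.f350155 IH) (Lpn (LP (LK LD1_c15 LD2_c20 LD3_c30))))))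
theorem f357540 : Led Lsl_gt (LP (LK LD1_c10 LD2_c31 LD3_c50)) = (LP (LK LD1_c5 LD2_c24 LD3_c43)) :=
  Lgr Lrot65 (Lpr_cf (K25.f357490 IH) (Lpe (K25.f357481 IH) (Lpe (K23.f189908 IH) (Lpe (f314411 IH) (Lpr_ct (f314413 IH) (Lpr_gf (f350157 IH) (Lpe (K24.f293295 IH) (Lpr_gf (K21.f329779 IH) (Lpe (K21.f194504 IH) (Lpr_ct (K20.f318213 IH) (Lpn (LP (LK LD1_c5 LD2_c24 LD3_c43)))))))))))))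
theorem f223955 : Led Lsl_ct (LP (LK LD1_c7 LD2_c57 LD3_c44)) = (LP (LK LD1_c15 LD2_c1 LD3_c4)) :=
  Lre_c IH (LK LD1_c7 LD2_c57 LD3_c44) (LK LD1_c15 LD2_c1 LD3_c4) Lrfl Lrfl
theorem f357561 : Led Lsl_ct (LP (LK LD1_c15 LD2_c19 LD3_c55)) = (LP (LK LD1_c24 LD2_c48 LD3_c49)) :=
  Lgr Lrot64 (Lpr_bt (f357559 IH) (Lpr_gf (K21.f329779 IH) (Lpe (K21.f194504 IH) (Lpr_ct (K20.f318213 IH) (Lpe (f357540 IH) (Lpr_cf (K25.f357490 IH) (Lpe (K25.f223931 IH) (Lpe (K15.f173101 IH) (Lpr_ct (f223955 IH) (Lpe (f223972 IH) (Lpn (LP (LK LD1_c24 LD2_c48 LD3_c49)))))))))))))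
theorem f333797 : Led Lsl_bt (LP (LK LD1_c4 LD2_c56 LD3_c5)) = (LP (LK LD1_c9 LD2_c43 LD3_c53)) :=
  Lre_b IH (LK LD1_c4 LD2_c56 LD3_c5) (LK LD1_c9 LD2_c43 LD3_c53) Lrfl Lrfl
theorem f359863 : Led Lsl_gf (LP (LK LD1_c15 LD2_c2 LD3_c18)) = (LP (LK LD1_c9 LD2_c43 LD3_c53)) :=
  Lgr Lrot124 (Lpe (f223110 IH) (Lpr_ct (f359835 IH) (Lpr_gt (f359861 IH) (Lpe (f357561 IH) (Lpr_bt (f357559 IH) (Lpr_gt (K21.f329781 IH) (Lpe (K25.f346110 IH) (Lpe (K23.f347182 IH) (Lpe (K23.f168955 IH) (Lpr_bt (f333797 IH) (Lpn (LP (LK LD1_c9 LD2_c43 LD3_c53)))))))))))))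
theorem f218920 : Led Lsl_ft (LP (LK LD1_c15 LD2_c2 LD3_c18)) = (LP (LK LD1_c7 LD2_c58 LD3_c18)) :=
  Lre_f IH (LK LD1_c15 LD2_c2 LD3_c18) (LK LD1_c7 LD2_c58 LD3_c18) Lrfl Lrfl
theorem f223099 : Led Lsl_ft (LP (LK LD1_c5 LD2_c15 LD3_c19)) = (LP (LK LD1_c10 LD2_c20 LD3_c0)) :=
  Lre_f IH (LK LD1_c5 LD2_c15 LD3_c19) (LK LD1_c10 LD2_c20 LD3_c0) Lrfl Lrfl
theorem f223100 : Led Lsl_df (LP (LK LD1_c15 LD2_c2 LD3_c18)) = (LP (LK LD1_c10 LD2_c20 LD3_c0)) :=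
  Lgr Lrot78 (Lpr_ft (f218920 IH) (Lpr_dt (K23.f223090 IH) (Lpr_ft (f223099 IH) (Lpn (LP (LK LD1_c10 LD2_c20 LD3_c0))))))
theorem f355267 : Led Lsl_df (LP (LK LD1_c9 LD2_c43 LD3_c53)) = (LP (LK LD1_c8 LD2_c26 LD3_c60)) :=
  Lgr Lrot38 (Lpr_dt (K25.f355263 IH) (Lpn (LP (LK LD1_c8 LD2_c26 LD3_c60))))
theorem f359869 : Led Lsl_et (LP (LK LD1_c10 LD2_c20 LD3_c0)) = (LP (LK LD1_c15 LD2_c24 LD3_c61)) :=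
  Lgr Lrot185 (Lpe (f223100 IH) (Lpr_gf (f359863 IH) (Lpr_df (f355267 IH) (Lpe (K25.f189757 IH) (Lpe (K25.f223251 IH) (Lpe (K25.f236364 IH) (Lpe (K13.f220554 IH) (Lpe (K25.f266466 IH) (Lpr_et (K16.f266468 IH) (Lpr_gf (f359642 IH) (Lpn (LP (LK LD1_c15 LD2_c24 LD3_c61)))))))))))))
theorem f252647 : Led Lsl_et (LP (LK LD1_c8 LD2_c11 LD3_c18)) = (LP (LK LD1_c4 LD2_c5 LD3_c14)) :=
  Lre_e IH (LK LD1_c8 LD2_c11 LD3_c18) (LK LD1_c4 LD2_c5 LD3_c14) Lrfl Lrfl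
theorem f359873 : Led Lsl_ff (LP (LK LD1_c2 LD2_c34 LD3_c30)) = (LP (LK LD1_c4 LD2_c5 LD3_c14)) :=
  Lgr Lrot72 (Lpr_et (K23.f189705 IH) (Lpr_ft (f223099 IH) (Lpr_et (f359869 IH) (Lpr_ft (K16.f252642 IH) (Lpr_et (f252647 IH) (Lpn (LP (LK LD1_c4 LD2_c5 LD3_c14))))))))
theorem f275156 : Led Lsl_gt (LP (LK LD1_c8 LD2_c11 LD3_c16)) = (LP (LK LD1_c5 LD2_c15 LD3_c0)) :=
  Lgr Lrot180 (Lpr_ct (K16.f275150 IH) (Lpe (K16.f275148 IH) (Lpr_dt (K15.f231868 IH) (Lpe (K15.f231913 IH) (Lpr_dt (K15.f231872 IH) (Lpr_ct (K13.f183785 IH) (Lpe (K11.f27415 IH) (Lpr_gf (K12.f212247 IH) (Lpe (K15.f212244 IH) (Lpn (LP (LK LD1_c5 LD2_c15 LD3_c0))))))))))))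
theorem f359879 : Led Lsl_at (LP (LK LD1_c2 LD2_c34 LD3_c30)) = (LP (LK LD1_c5 LD2_c15 LD3_c0)) :=
  Lgr Lrot26 (Lpr_ff (f359873 IH) (Lpr_gt (K16.f216140 IH) (Lpr_gt (f275156 IH) (Lpn (LP (LK LD1_c5 LD2_c15 LD3_c0))))))
theorem f359889 : Led Lsl_af (LP (LK LD1_c5 LD2_c15 LD3_c19)) = (LP (LK LD1_c10 LD2_c19 LD3_c29)) :=
  Lgr Lrot50 (Lpr_et (K23.f189773 IH) (Lpr_at (f359879 IH) (Lpr_et (K25.f212253 IH) (Lpn (LP (LK LD1_c10 LD2_c19 LD3_c29))))))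
theorem f189706 : Led Lsl_gt (LP (LK LD1_c10 LD2_c19 LD3_c61)) = (LP (LK LD1_c5 LD2_c15 LD3_c19)) :=
  Lre_g IH (LK LD1_c10 LD2_c19 LD3_c61) (LK LD1_c5 LD2_c15 LD3_c19) Lrfl Lrfl
theorem f232125 : Led Lsl_ft (LP (LK LD1_c18 LD2_c44 LD3_c38)) = (LP (LK LD1_c10 LD2_c19 LD3_c29)) :=
  Lre_f IH (LK LD1_c18 LD2_c44 LD3_c38) (LK LD1_c10 LD2_c19 LD3_c29) Lrfl Lrfl
theorem f359901 : Led Lsl_gf (LP (LK LD1_c10 LD2_c19 LD3_c61)) = (LP (LK LD1_c18 LD2_c44 LD3_c38)) :=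
  Lgr Lrot47 (Lpr_gt (f189706 IH) (Lpr_af (f359889 IH) (Lpe (f232125 IH) (Lpn (LP (LK LD1_c18 LD2_c44 LD3_c38))))))
theorem f355309 : Led Lsl_dt (LP (LK LD1_c11 LD2_c4 LD3_c11)) = (LP (LK LD1_c10 LD2_c19 LD3_c61)) :=
  Lgr Lrot171 (Lpr_gf (K25.f355286 IH) (Lpe (K23.f223244 IH) (Lpr_dt (K12.f165866 IH) (Lpe (K9.f165855 IH) (Lpe (K9.f32427 IH) (Lpr_et (K9.f54051 IH) (Lpe (K12.f223082 IH) (Lpe (K23.f218719 IH) (Lpr_dt (K23.f223090 IH) (Lpe (f189706 IH) (Lpn (LP (LK LD1_c10 LD2_c19 LD3_c61)))))))))))))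
theorem f352860 : Led Lsl_et (LP (LK LD1_c11 LD2_c4 LD3_c11)) = (LP (LK LD1_c5 LD2_c35 LD3_c57)) :=
  Lre_e IH (LK LD1_c11 LD2_c4 LD3_c11) (LK LD1_c5 LD2_c35 LD3_c57) Lrfl Lrfl
theorem f355320 : Led Lsl_gt (LP (LK LD1_c5 LD2_c35 LD3_c57)) = (LP (LK LD1_c8 LD2_c17 LD3_c16)) :=
  Lgr Lrot46 (Lpr_gf (K25.f355318 IH) (Lpr_ft (K21.f189668 IH) (Lpr_at (K20.f317479 IH) (Lpn (LP (LK LD1_c8 LD2_c17 LD3_c16))))))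
theorem f347866 : Led Lsl_ef (LP (LK LD1_c10 LD2_c50 LD3_c28)) = (LP (LK LD1_c15 LD2_c36 LD3_c51)) :=
  Lgr Lrot88 (Lpr_et (K23.f347862 IH) (Lpn (LP (LK LD1_c15 LD2_c36 LD3_c51))))
theorem f295141 : Led Lsl_et (LP (LK LD1_c10 LD2_c56 LD3_c34)) = (LP (LK LD1_c19 LD2_c45 LD3_c56)) :=
  Lre_e IH (LK LD1_c10 LD2_c56 LD3_c34) (LK LD1_c19 LD2_c45 LD3_c56) Lrfl Lrfl
theorem f347952 : Led Lsl_df (LP (LK LD1_c15 LD2_c36 LD3_c51)) = (LP (LK LD1_c19 LD2_c45 LD3_c56)) :=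
  Lgr Lrot70 (Lpe (f347866 IH) (Lpr_dt (K23.f312040 IH) (Lpr_et (K23.f217619 IH) (Lpr_dt (K23.f347870 IH) (Lpr_et (f295141 IH) (Lpn (LP (LK LD1_c19 LD2_c45 LD3_c56))))))))
theorem f232112 : Led Lsl_ft (LP (LK LD1_c18 LD2_c2 LD3_c40)) = (LP (LK LD1_c9 LD2_c51 LD3_c28)) :=
  Lre_f IH (LK LD1_c18 LD2_c2 LD3_c40) (LK LD1_c9 LD2_c51 LD3_c28) Lrfl Lrfl
theorem f232113 : Led Lsl_ft (LP (LK LD1_c10 LD2_c19 LD3_c29)) = (LP (LK LD1_c18 LD2_c44 LD3_c38)) :=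
  Lre_f IH (LK LD1_c10 LD2_c19 LD3_c29) (LK LD1_c18 LD2_c44 LD3_c38) Lrfl Lrfl
theorem f232114 : Led Lsl_df (LP (LK LD1_c18 LD2_c2 LD3_c40)) = (LP (LK LD1_c18 LD2_c44 LD3_c38)) :=
  Lgr Lrot78 (Lpr_ft (f232112 IH) (Lpr_dt (K22.f232107 IH) (Lpr_ft (f232113 IH) (Lpn (LP (LK LD1_c18 LD2_c44 LD3_c38))))))
theorem f232123 : Led Lsl_dt (LP (LK LD1_c18 LD2_c2 LD3_c40)) = (LP (LK LD1_c18 LD2_c44 LD3_c38)) :=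
  Lgr Lrot42 (Lpr_df (f232114 IH) (Lpn (LP (LK LD1_c18 LD2_c44 LD3_c38))))
theorem f359908 : Led Lsl_gt (LP (LK LD1_c10 LD2_c56 LD3_c34)) = (LP (LK LD1_c18 LD2_c2 LD3_c40)) :=
  Lgr Lrot137 (Lpe (K23.f295136 IH) (Lpe (f347952 IH) (Lpe (K23.f347854 IH) (Lpr_df (K23.f347756 IH) (Lpr_et (K23.f317517 IH) (Lpe (f355320 IH) (Lpe (f352860 IH) (Lpr_dt (f355309 IH) (Lpr_gf (f359901 IH) (Lpe (f232123 IH) (Lpn (LP (LK LD1_c18 LD2_c2 LD3_c40)))))))))))))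
theorem f282602 : Led Lsl_dt (LP (LK LD1_c16 LD2_c46 LD3_c27)) = (LP (LK LD1_c26 LD2_c44 LD3_c55)) :=
  Lre_d IH (LK LD1_c16 LD2_c46 LD3_c27) (LK LD1_c26 LD2_c44 LD3_c55) Lrfl Lrfl
theorem f312050 : Led Lsl_et (LP (LK LD1_c4 LD2_c29 LD3_c5)) = (LP (LK LD1_c8 LD2_c56 LD3_c28)) :=
  Lre_e IH (LK LD1_c4 LD2_c29 LD3_c5) (LK LD1_c8 LD2_c56 LD3_c28) Lrfl Lrfl
theorem f178023 : Led Lsl_gt (LP (LK LD1_c16 LD2_c44 LD3_c13)) = (LP (LK LD1_c8 LD2_c56 LD3_c28)) :=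
  Lre_g IH (LK LD1_c16 LD2_c44 LD3_c13) (LK LD1_c8 LD2_c56 LD3_c28) Lrfl Lrfl
theorem f341770 : Led Lsl_gt (LP (LK LD1_c18 LD2_c30 LD3_c20)) = (LP (LK LD1_c18 LD2_c31 LD3_c46)) :=
  Lgr Lrot139 (Lpe (K19.f306463 IH) (Lpe (K19.f309536 IH) (Lpe (K9.f49456 IH) (Lpr_dt (K9.f49448 IH) (Lpe (K13.f49544 IH) (Lpe (K14.f45014 IH) (Lpr_et (K17.f45015 IH) (Lpr_gf (K24.f341750 IH) (Lpe (K24.f307346 IH) (Lpr_dt (K24.f307265 IH) (Lpn (LP (LK LD1_c18 LD2_c31 LD3_c46)))))))))))))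
theorem f253121 : Led Lsl_bt (LP (LK LD1_c10 LD2_c10 LD3_c20)) = (LP (LK LD1_c18 LD2_c31 LD3_c57)) :=
  Lre_b IH (LK LD1_c10 LD2_c10 LD3_c20) (LK LD1_c18 LD2_c31 LD3_c57) Lrfl Lrfl
theorem f253159 : Led Lsl_bt (LP (LK LD1_c18 LD2_c30 LD3_c20)) = (LP (LK LD1_c10 LD2_c9 LD3_c31)) :=
  Lre_b IH (LK LD1_c18 LD2_c30 LD3_c20) (LK LD1_c10 LD2_c9 LD3_c31) Lrfl Lrfl
theorem f253160 : Led Lsl_et (LP (LK LD1_c18 LD2_c31 LD3_c57)) = (LP (LK LD1_c18 LD2_c30 LD3_c20)) :=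
  Lgr Lrot74 (Lpe (f253121 IH) (Lpr_ef (K14.f253157 IH) (Lpe (f253159 IH) (Lpn (LP (LK LD1_c18 LD2_c30 LD3_c20))))))
theorem f341799 : Led Lsl_gf (LP (LK LD1_c15 LD2_c51 LD3_c42)) = (LP (LK LD1_c18 LD2_c27 LD3_c60)) :=
  Lgr Lrot134 (Lpr_df (K19.f309554 IH) (Lpr_et (f253160 IH) (Lpr_gt (f341770 IH) (Lpe (K24.f307347 IH) (Lpr_dt (K24.f341788 IH) (Lpe (K24.f297695 IH) (Lpr_df (K17.f287018 IH) (Lpe (K17.f287022 IH) (Lpr_gt (K20.f286311 IH) (Lpr_dt (K20.f286310 IH) (Lpn (LP (LK LD1_c18 LD2_c27 LD3_c60)))))))))))))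
theorem f333387 : Led Lsl_ct (LP (LK LD1_c10 LD2_c26 LD3_c37)) = (LP (LK LD1_c5 LD2_c18 LD3_c26)) :=
  Lre_c IH (LK LD1_c10 LD2_c26 LD3_c37) (LK LD1_c5 LD2_c18 LD3_c26) Lrfl Lrfl
theorem f309720 : Led Lsl_ct (LP (LK LD1_c18 LD2_c56 LD3_c26)) = (LP (LK LD1_c10 LD2_c26 LD3_c38)) :=
  Lre_c IH (LK LD1_c18 LD2_c56 LD3_c26) (LK LD1_c10 LD2_c26 LD3_c38) Lrfl Lrfl
theorem f341801 : Led Lsl_gt (LP (LK LD1_c10 LD2_c54 LD3_c9)) = (LP (LK LD1_c18 LD2_c56 LD3_c26)) :=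
  Lgr Lrot150 (Lpe (K23.f309571 IH) (Lpr_gf (f341799 IH) (Lpe (K20.f286310 IH) (Lpr_gt (K17.f286294 IH) (Lpr_ct (K17.f286321 IH) (Lpe (K22.f333436 IH) (Lpr_ct (f333387 IH) (Lpe (K25.f309758 IH) (Lpe (f309720 IH) (Lpn (LP (LK LD1_c18 LD2_c56 LD3_c26))))))))))))
theorem f169548 : Led Lsl_ct (LP (LK LD1_c21 LD2_c0 LD3_c0)) = (LP (LK LD1_c29 LD2_c48 LD3_c23)) :=
  Lre_c IH (LK LD1_c21 LD2_c0 LD3_c0) (LK LD1_c29 LD2_c48 LD3_c23) Lrfl Lrfl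
theorem f317904 : Led Lsl_ct (LP (LK LD1_c19 LD2_c29 LD3_c46)) = (LP (LK LD1_c28 LD2_c52 LD3_c10)) :=
  Lre_c IH (LK LD1_c19 LD2_c29 LD3_c46) (LK LD1_c28 LD2_c52 LD3_c10) Lrfl Lrfl
theorem f317983 : Led Lsl_ft (LP (LK LD1_c28 LD2_c52 LD3_c10)) = (LP (LK LD1_c25 LD2_c52 LD3_c40)) :=
  Lgr Lrot4 (Lpe (f317904 IH) (Lpr_ff (K25.f317973 IH) (Lpe (K25.f48232 IH) (Lpn (LP (LK LD1_c25 LD2_c52 LD3_c40))))))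
theorem f317905 : Led Lsl_ct (LP (LK LD1_c28 LD2_c52 LD3_c10)) = (LP (LK LD1_c19 LD2_c29 LD3_c46)) :=
  Lre_c IH (LK LD1_c28 LD2_c52 LD3_c10) (LK LD1_c19 LD2_c29 LD3_c46) Lrfl Lrfl
theorem f317949 : Led Lsl_af (LP (LK LD1_c28 LD2_c52 LD3_c10)) = (LP (LK LD1_c29 LD2_c48 LD3_c23)) :=
  Lgr Lrot68 (Lpr_ct (f317905 IH) (Lpr_at (K25.f317898 IH) (Lpr_ct (f169548 IH) (Lpn (LP (LK LD1_c29 LD2_c48 LD3_c23))))))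
theorem f317954 : Led Lsl_ft (LP (LK LD1_c20 LD2_c59 LD3_c61)) = (LP (LK LD1_c29 LD2_c48 LD3_c23)) :=
  Lre_f IH (LK LD1_c20 LD2_c59 LD3_c61) (LK LD1_c29 LD2_c48 LD3_c23) Lrfl Lrfl
theorem f317987 : Led Lsl_af (LP (LK LD1_c20 LD2_c59 LD3_c61)) = (LP (LK LD1_c25 LD2_c52 LD3_c40)) :=
  Lgr Lrot45 (Lpr_ft (f317954 IH) (Lpe (f317949 IH) (Lpr_ft (f317983 IH) (Lpn (LP (LK LD1_c25 LD2_c52 LD3_c40))))))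
theorem f317991 : Led Lsl_at (LP (LK LD1_c20 LD2_c59 LD3_c61)) = (LP (LK LD1_c25 LD2_c52 LD3_c40)) :=
  Lgr Lrot100 (Lpr_af (f317987 IH) (Lpn (LP (LK LD1_c25 LD2_c52 LD3_c40))))
theorem f317959 : Led Lsl_ft (LP (LK LD1_c29 LD2_c48 LD3_c23)) = (LP (LK LD1_c20 LD2_c59 LD3_c61)) :=
  Lre_f IH (LK LD1_c29 LD2_c48 LD3_c23) (LK LD1_c20 LD2_c59 LD3_c61) Lrfl Lrfl
theorem f271588 : Led Lsl_gt (LP (LK LD1_c32 LD2_c0 LD3_c59)) = (LP (LK LD1_c25 LD2_c52 LD3_c40)) :=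
  Lre_g IH (LK LD1_c32 LD2_c0 LD3_c59) (LK LD1_c25 LD2_c52 LD3_c40) Lrfl Lrfl
theorem f317996 : Led Lsl_gt (LP (LK LD1_c29 LD2_c48 LD3_c23)) = (LP (LK LD1_c32 LD2_c0 LD3_c59)) :=
  Lgr Lrot5 (Lpr_ft (f317959 IH) (Lpr_at (f317991 IH) (Lpe (f271588 IH) (Lpn (LP (LK LD1_c32 LD2_c0 LD3_c59))))))
theorem f263254 : Led Lsl_dt (LP (LK LD1_c29 LD2_c48 LD3_c47)) = (LP (LK LD1_c21 LD2_c0 LD3_c52)) :=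
  Lre_d IH (LK LD1_c29 LD2_c48 LD3_c47) (LK LD1_c21 LD2_c0 LD3_c52) Lrfl Lrfl
theorem f341858 : Led Lsl_ct (LP (LK LD1_c32 LD2_c0 LD3_c59)) = (LP (LK LD1_c29 LD2_c48 LD3_c47)) :=
  Lgr Lrot110 (Lpe (f317996 IH) (Lpe (f169548 IH) (Lpr_gf (K25.f317985 IH) (Lpe (K19.f221351 IH) (Lpr_gt (f341801 IH) (Lpr_ct (f309720 IH) (Lpe (K22.f335514 IH) (Lpr_ct (K25.f263258 IH) (Lpe (f263254 IH) (Lpn (LP (LK LD1_c29 LD2_c48 LD3_c47))))))))))))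
theorem f341860 : Led Lsl_cf (LP (LK LD1_c32 LD2_c0 LD3_c59)) = (LP (LK LD1_c29 LD2_c48 LD3_c47)) :=
  Lgr Lrot11 (Lpr_ct (f341858 IH) (Lpn (LP (LK LD1_c29 LD2_c48 LD3_c47))))
theorem f48220 : Led Lsl_dt (LP (LK LD1_c15 LD2_c56 LD3_c15)) = (LP (LK LD1_c8 LD2_c29 LD3_c13)) :=
  Lre_d IH (LK LD1_c15 LD2_c56 LD3_c15) (LK LD1_c8 LD2_c29 LD3_c13) Lrfl Lrfl
theorem f177994 : Led Lsl_ct (LP (LK LD1_c8 LD2_c56 LD3_c28)) = (LP (LK LD1_c4 LD2_c29 LD3_c6)) :=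
  Lre_c IH (LK LD1_c8 LD2_c56 LD3_c28) (LK LD1_c4 LD2_c29 LD3_c6) Lrfl Lrfl
theorem f271590 : Led Lsl_dt (LP (LK LD1_c16 LD2_c44 LD3_c13)) = (LP (LK LD1_c26 LD2_c43 LD3_c0)) :=
  Lre_d IH (LK LD1_c16 LD2_c44 LD3_c13) (LK LD1_c26 LD2_c43 LD3_c0) Lrfl Lrfl
theorem f341865 : Led Lsl_gt (LP (LK LD1_c26 LD2_c43 LD3_c0)) = (LP (LK LD1_c29 LD2_c48 LD3_c47)) :=
  Lgr Lrot9 (Lpe (f271590 IH) (Lpr_gt (f178023 IH) (Lpr_ct (f177994 IH) (Lpe (K19.f271584 IH) (Lpr_ct (K19.f48212 IH) (Lpe (f48220 IH) (Lpe (K25.f48232 IH) (Lpe (f271588 IH) (Lpr_cf (f341860 IH) (Lpn (LP (LK LD1_c29 LD2_c48 LD3_c47))))))))))))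
theorem f317874 : Led Lsl_at (LP (LK LD1_c5 LD2_c27 LD3_c48)) = (LP (LK LD1_c6 LD2_c5 LD3_c52)) :=
  Lgr Lrot66 (Lpr_ff (K20.f317872 IH) (Lpr_af (K23.f264360 IH) (Lpe (K23.f169505 IH) (Lpn (LP (LK LD1_c6 LD2_c5 LD3_c52))))))
theorem f324326 : Led Lsl_gf (LP (LK LD1_c6 LD2_c5 LD3_c52)) = (LP (LK LD1_c5 LD2_c27 LD3_c49)) :=
  Lgr Lrot76 (Lpe (f317874 IH) (Lpr_ff (K20.f317872 IH) (Lpr_gt (K21.f324324 IH) (Lpn (LP (LK LD1_c5 LD2_c27 LD3_c49))))))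
theorem f341870 : Led Lsl_gf (LP (LK LD1_c16 LD2_c44 LD3_c13)) = (LP (LK LD1_c10 LD2_c46 LD3_c44)) :=
  Lgr Lrot144 (Lpr_dt (f271590 IH) (Lpr_gt (f341865 IH) (Lpr_dt (f263254 IH) (Lpe (K25.f263258 IH) (Lpe (K22.f263255 IH) (Lpe (K23.f340746 IH) (Lpe (K9.f169495 IH) (Lpr_gf (f324326 IH) (Lpe (K23.f317737 IH) (Lpn (LP (LK LD1_c10 LD2_c46 LD3_c44))))))))))))
theorem f324338 : Led Lsl_et (LP (LK LD1_c15 LD2_c37 LD3_c33)) = (LP (LK LD1_c10 LD2_c46 LD3_c44)) :=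
  Lgr Lrot87 (Lpr_ef (K21.f324332 IH) (Lpn (LP (LK LD1_c10 LD2_c46 LD3_c44))))
theorem f339250 : Led Lsl_gt (LP (LK LD1_c10 LD2_c44 LD3_c7)) = (LP (LK LD1_c15 LD2_c55 LD3_c34)) :=
  Lgr Lrot94 (Lpe (K23.f285676 IH) (Lpe (K21.f324187 IH) (Lpe (K21.f295778 IH) (Lpe (K20.f323210 IH) (Lpr_dt (K20.f323178 IH) (Lpe (K21.f323157 IH) (Lpe (K23.f323159 IH) (Lpr_gf (K22.f339244 IH) (Lpe (K22.f339168 IH) (Lpn (LP (LK LD1_c15 LD2_c55 LD3_c34))))))))))))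
theorem f263048 : Led Lsl_dt (LP (LK LD1_c16 LD2_c46 LD3_c28)) = (LP (LK LD1_c26 LD2_c44 LD3_c57)) :=
  Lre_d IH (LK LD1_c16 LD2_c46 LD3_c28) (LK LD1_c26 LD2_c44 LD3_c57) Lrfl Lrfl
theorem f263037 : Led Lsl_dt (LP (LK LD1_c26 LD2_c44 LD3_c57)) = (LP (LK LD1_c16 LD2_c46 LD3_c28)) :=
  Lre_d IH (LK LD1_c26 LD2_c44 LD3_c57) (LK LD1_c16 LD2_c46 LD3_c28) Lrfl Lrfl
theorem f264466 : Led Lsl_ct (LP (LK LD1_c15 LD2_c55 LD3_c12)) = (LP (LK LD1_c8 LD2_c28 LD3_c43)) :=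
  Lre_c IH (LK LD1_c15 LD2_c55 LD3_c12) (LK LD1_c8 LD2_c28 LD3_c43) Lrfl Lrfl
theorem f231789 : Led Lsl_gt (LP (LK LD1_c15 LD2_c55 LD3_c12)) = (LP (LK LD1_c25 LD2_c51 LD3_c28)) :=
  Lre_g IH (LK LD1_c15 LD2_c55 LD3_c12) (LK LD1_c25 LD2_c51 LD3_c28) Lrfl Lrfl
theorem f264505 : Led Lsl_dt (LP (LK LD1_c25 LD2_c51 LD3_c28)) = (LP (LK LD1_c32 LD2_c0 LD3_c49)) :=
  Lre_d IH (LK LD1_c25 LD2_c51 LD3_c28) (LK LD1_c32 LD2_c0 LD3_c49) Lrfl Lrfl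
theorem f264810 : Led Lsl_gf (LP (LK LD1_c26 LD2_c44 LD3_c57)) = (LP (LK LD1_c32 LD2_c0 LD3_c49)) :=
  Lgr Lrot143 (Lpr_dt (f263037 IH) (Lpe (K24.f263047 IH) (Lpe (K17.f263038 IH) (Lpe (K17.f263046 IH) (Lpe (K21.f264619 IH) (Lpr_gf (K21.f264808 IH) (Lpe (f264466 IH) (Lpr_gt (f231789 IH) (Lpr_dt (f264505 IH) (Lpn (LP (LK LD1_c32 LD2_c0 LD3_c49))))))))))))
theorem f341872 : Led Lsl_ef (LP (LK LD1_c16 LD2_c44 LD3_c13)) = (LP (LK LD1_c25 LD2_c51 LD3_c28)) :=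
  Lgr Lrot17 (Lpr_gf (f341870 IH) (Lpe (f324338 IH) (Lpr_dt (K22.f323156 IH) (Lpr_gf (K22.f339244 IH) (Lpe (K22.f339168 IH) (Lpe (f339250 IH) (Lpr_ef (K24.f285664 IH) (Lpr_dt (f263048 IH) (Lpr_gf (f264810 IH) (Lpe (f264505 IH) (Lpn (LP (LK LD1_c25 LD2_c51 LD3_c28)))))))))))))
theorem f348086 : Led Lsl_gt (LP (LK LD1_c26 LD2_c44 LD3_c55)) = (LP (LK LD1_c32 LD2_c0 LD3_c49)) :=
  Lgr Lrot139 (Lpe (f282602 IH) (Lpr_gf (K23.f348079 IH) (Lpe (K24.f301453 IH) (Lpr_dt (K18.f217487 IH) (Lpe (K19.f312030 IH) (Lpe (K17.f245143 IH) (Lpr_et (f312050 IH) (Lpe (f178023 IH) (Lpr_ef (f341872 IH) (Lpr_dt (f264505 IH) (Lpn (LP (LK LD1_c32 LD2_c0 LD3_c49)))))))))))))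
theorem f264815 : Led Lsl_dt (LP (LK LD1_c32 LD2_c0 LD3_c49)) = (LP (LK LD1_c25 LD2_c51 LD3_c28)) :=
  Lre_d IH (LK LD1_c32 LD2_c0 LD3_c49) (LK LD1_c25 LD2_c51 LD3_c28) Lrfl Lrfl
theorem f359916 : Led Lsl_cf (LP (LK LD1_c25 LD2_c51 LD3_c28)) = (LP (LK LD1_c18 LD2_c44 LD3_c38)) :=
  Lgr Lrot14 (Lpe (f264815 IH) (Lpe (f348086 IH) (Lpe (f282602 IH) (Lpr_gf (K23.f348079 IH) (Lpr_ct (K24.f217505 IH) (Lpr_gt (K23.f217517 IH) (Lpr_dt (K23.f347870 IH) (Lpr_gt (f359908 IH) (Lpr_dt (f232123 IH) (Lpn (LP (LK LD1_c18 LD2_c44 LD3_c38))))))))))))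
theorem f231788 : Led Lsl_ct (LP (LK LD1_c8 LD2_c28 LD3_c43)) = (LP (LK LD1_c15 LD2_c55 LD3_c12)) :=
  Lre_c IH (LK LD1_c8 LD2_c28 LD3_c43) (LK LD1_c15 LD2_c55 LD3_c12) Lrfl Lrfl
theorem f352914 : Led Lsl_bt (LP (LK LD1_c15 LD2_c51 LD3_c56)) = (LP (LK LD1_c15 LD2_c24 LD3_c33)) :=
  Lgr Lrot127 (Lpr_bf (K25.f352912 IH) (Lpn (LP (LK LD1_c15 LD2_c24 LD3_c33))))
theorem f220789 : Led Lsl_ft (LP (LK LD1_c15 LD2_c27 LD3_c51)) = (LP (LK LD1_c8 LD2_c13 LD3_c16)) :=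
  Lre_f IH (LK LD1_c15 LD2_c27 LD3_c51) (LK LD1_c8 LD2_c13 LD3_c16) Lrfl Lrfl
theorem f263531 : Led Lsl_bt (LP (LK LD1_c18 LD2_c44 LD3_c38)) = (LP (LK LD1_c15 LD2_c27 LD3_c51)) :=
  Lgr Lrot35 (Lpe (f232113 IH) (Lpr_bf (K22.f263522 IH) (Lpe (f220789 IH) (Lpn (LP (LK LD1_c15 LD2_c27 LD3_c51))))))
theorem f359922 : Led Lsl_gf (LP (LK LD1_c15 LD2_c24 LD3_c33)) = (LP (LK LD1_c15 LD2_c27 LD3_c51)) :=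
  Lgr Lrot124 (Lpe (f352914 IH) (Lpr_ct (K23.f337723 IH) (Lpr_gt (K23.f231757 IH) (Lpe (K17.f231729 IH) (Lpe (K25.f231725 IH) (Lpr_gt (K21.f54369 IH) (Lpr_ct (f231788 IH) (Lpr_gt (f231789 IH) (Lpr_cf (f359916 IH) (Lpr_bt (f263531 IH) (Lpn (LP (LK LD1_c15 LD2_c27 LD3_c51)))))))))))))
theorem f359956 : Led Lsl_af (LP (LK LD1_c8 LD2_c11 LD3_c2)) = (LP (LK LD1_c8 LD2_c13 LD3_c16)) :=
  Lgr Lrot31 (Lpe (K24.f223932 IH) (Lpr_gf (f359922 IH) (Lpr_ft (f220789 IH) (Lpn (LP (LK LD1_c8 LD2_c13 LD3_c16))))))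
theorem f223925 : Led Lsl_ft (LP (LK LD1_c8 LD2_c11 LD3_c2)) = (LP (LK LD1_c15 LD2_c24 LD3_c34)) :=
  Lre_f IH (LK LD1_c8 LD2_c11 LD3_c2) (LK LD1_c15 LD2_c24 LD3_c34) Lrfl Lrfl
theorem f359964 : Led Lsl_at (LP (LK LD1_c15 LD2_c24 LD3_c34)) = (LP (LK LD1_c15 LD2_c27 LD3_c51)) :=
  Lgr Lrot66 (Lpe (f223925 IH) (Lpr_af (f359956 IH) (Lpe (f220789 IH) (Lpn (LP (LK LD1_c15 LD2_c27 LD3_c51))))))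
theorem f359968 : Led Lsl_gt (LP (LK LD1_c15 LD2_c24 LD3_c32)) = (LP (LK LD1_c15 LD2_c27 LD3_c51)) :=
  Lgr Lrot46 (Lpe (K25.f191108 IH) (Lpr_ft (f223925 IH) (Lpr_at (f359964 IH) (Lpn (LP (LK LD1_c15 LD2_c27 LD3_c51))))))
theorem f168960 : Led Lsl_bt (LP (LK LD1_c11 LD2_c57 LD3_c1)) = (LP (LK LD1_c6 LD2_c7 LD3_c1)) :=
  Lre_b IH (LK LD1_c11 LD2_c57 LD3_c1) (LK LD1_c6 LD2_c7 LD3_c1) Lrfl Lrfl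
theorem f352254 : Led Lsl_bt (LP (LK LD1_c8 LD2_c37 LD3_c45)) = (LP (LK LD1_c15 LD2_c24 LD3_c32)) :=
  Lgr Lrot95 (Lpr_df (K20.f235118 IH) (Lpe (f168960 IH) (Lpr_df (K25.f352252 IH) (Lpn (LP (LK LD1_c15 LD2_c24 LD3_c32))))))
theorem f189907 : Led Lsl_ct (LP (LK LD1_c8 LD2_c37 LD3_c45)) = (LP (LK LD1_c16 LD2_c9 LD3_c49)) :=
  Lre_c IH (LK LD1_c8 LD2_c37 LD3_c45) (LK LD1_c16 LD2_c9 LD3_c49) Lrfl Lrfl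
theorem f223561 : Led Lsl_ct (LP (LK LD1_c4 LD2_c20 LD3_c3)) = (LP (LK LD1_c8 LD2_c38 LD3_c3)) :=
  Lre_c IH (LK LD1_c4 LD2_c20 LD3_c3) (LK LD1_c8 LD2_c38 LD3_c3) Lrfl Lrfl
theorem f168952 : Led Lsl_ct (LP (LK LD1_c11 LD2_c57 LD3_c2)) = (LP (LK LD1_c6 LD2_c7 LD3_c1)) :=
  Lre_c IH (LK LD1_c11 LD2_c57 LD3_c2) (LK LD1_c6 LD2_c7 LD3_c1) Lrfl Lrfl
theorem f235116 : Led Lsl_ct (LP (LK LD1_c16 LD2_c9 LD3_c49)) = (LP (LK LD1_c8 LD2_c37 LD3_c45)) :=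
  Lre_c IH (LK LD1_c16 LD2_c9 LD3_c49) (LK LD1_c8 LD2_c37 LD3_c45) Lrfl Lrfl
theorem f345229 : Led Lsl_gt (LP (LK LD1_c8 LD2_c38 LD3_c3)) = (LP (LK LD1_c16 LD2_c9 LD3_c49)) :=
  Lgr Lrot150 (Lpe (f223561 IH) (Lpe (K19.f187903 IH) (Lpr_df (K19.f310518 IH) (Lpr_gt (K21.f329775 IH) (Lpr_ct (K22.f194508 IH) (Lpr_gt (K25.f345223 IH) (Lpr_ct (f168952 IH) (Lpe (K20.f235113 IH) (Lpe (f235116 IH) (Lpn (LP (LK LD1_c16 LD2_c9 LD3_c49))))))))))))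
theorem f359970 : Led Lsl_gf (LP (LK LD1_c15 LD2_c55 LD3_c13)) = (LP (LK LD1_c25 LD2_c51 LD3_c28)) :=
  Lgr Lrot126 (Lpe (K25.f258701 IH) (Lpr_bt (K25.f353968 IH) (Lpr_gt (K19.f187903 IH) (Lpr_ct (f223561 IH) (Lpr_gt (f345229 IH) (Lpe (f189907 IH) (Lpr_bt (f352254 IH) (Lpr_gt (f359968 IH) (Lpe (f263531 IH) (Lpe (f359916 IH) (Lpn (LP (LK LD1_c25 LD2_c51 LD3_c28)))))))))))))
theorem f232117 : Led Lsl_ct (LP (LK LD1_c18 LD2_c44 LD3_c36)) = (LP (LK LD1_c10 LD2_c19 LD3_c29)) :=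
  Lre_c IH (LK LD1_c18 LD2_c44 LD3_c36) (LK LD1_c10 LD2_c19 LD3_c29) Lrfl Lrfl
theorem f359920 : Led Lsl_ft (LP (LK LD1_c25 LD2_c51 LD3_c28)) = (LP (LK LD1_c18 LD2_c44 LD3_c36)) :=
  Lgr Lrot4 (Lpr_cf (f359916 IH) (Lpe (f232113 IH) (Lpe (f232117 IH) (Lpn (LP (LK LD1_c18 LD2_c44 LD3_c36))))))
theorem f359972 : Led Lsl_af (LP (LK LD1_c10 LD2_c19 LD3_c59)) = (LP (LK LD1_c18 LD2_c44 LD3_c36)) :=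
  Lgr Lrot31 (Lpe (K25.f323545 IH) (Lpr_gf (f359970 IH) (Lpr_ft (f359920 IH) (Lpn (LP (LK LD1_c18 LD2_c44 LD3_c36))))))
theorem f359978 : Led Lsl_ft (LP (LK LD1_c10 LD2_c19 LD3_c59)) = (LP (LK LD1_c18 LD2_c45 LD3_c31)) :=
  Lre_f IH (LK LD1_c10 LD2_c19 LD3_c59) (LK LD1_c18 LD2_c45 LD3_c31) Lrfl Lrfl
theorem f359979 : Led Lsl_at (LP (LK LD1_c18 LD2_c45 LD3_c31)) = (LP (LK LD1_c25 LD2_c51 LD3_c28)) :=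
  Lgr Lrot66 (Lpe (f359978 IH) (Lpr_af (f359972 IH) (Lpe (f359920 IH) (Lpn (LP (LK LD1_c25 LD2_c51 LD3_c28))))))
theorem f359983 : Led Lsl_gt (LP (LK LD1_c10 LD2_c19 LD3_c59)) = (LP (LK LD1_c15 LD2_c55 LD3_c12)) :=
  Lgr Lrot5 (Lpr_ft (f359978 IH) (Lpr_at (f359979 IH) (Lpe (f231789 IH) (Lpn (LP (LK LD1_c15 LD2_c55 LD3_c12))))))
theorem f352568 : Led Lsl_bf (LP (LK LD1_c11 LD2_c52 LD3_c42)) = (LP (LK LD1_c8 LD2_c28 LD3_c43)) :=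
  Lgr Lrot93 (Lpr_dt (K23.f231273 IH) (Lpr_bt (K25.f352561 IH) (Lpe (K21.f264468 IH) (Lpn (LP (LK LD1_c8 LD2_c28 LD3_c43))))))
theorem f338375 : Led Lsl_at (LP (LK LD1_c15 LD2_c16 LD3_c19)) = (LP (LK LD1_c20 LD2_c2 LD3_c23)) :=
  Lgr Lrot100 (Lpr_af (K22.f338373 IH) (Lpn (LP (LK LD1_c20 LD2_c2 LD3_c23))))
theorem f338351 : Led Lsl_ft (LP (LK LD1_c8 LD2_c6 LD3_c36)) = (LP (LK LD1_c15 LD2_c16 LD3_c19)) :=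
  Lre_f IH (LK LD1_c8 LD2_c6 LD3_c36) (LK LD1_c15 LD2_c16 LD3_c19) Lrfl Lrfl
theorem f338382 : Led Lsl_at (LP (LK LD1_c15 LD2_c9 LD3_c0)) = (LP (LK LD1_c8 LD2_c6 LD3_c36)) :=
  Lgr Lrot66 (Lpr_ff (K22.f338380 IH) (Lpe (f338375 IH) (Lpe (f338351 IH) (Lpn (LP (LK LD1_c8 LD2_c6 LD3_c36))))))
theorem f194489 : Led Lsl_gt (LP (LK LD1_c15 LD2_c16 LD3_c17)) = (LP (LK LD1_c8 LD2_c6 LD3_c36)) :=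
  Lre_g IH (LK LD1_c15 LD2_c16 LD3_c17) (LK LD1_c8 LD2_c6 LD3_c36) Lrfl Lrfl
theorem f338388 : Led Lsl_gf (LP (LK LD1_c15 LD2_c16 LD3_c17)) = (LP (LK LD1_c20 LD2_c2 LD3_c23)) :=
  Lgr Lrot47 (Lpr_gt (f194489 IH) (Lpe (f338382 IH) (Lpr_ff (K22.f338380 IH) (Lpn (LP (LK LD1_c20 LD2_c2 LD3_c23))))))
theorem f357513 : Led Lsl_bt (LP (LK LD1_c8 LD2_c10 LD3_c23)) = (LP (LK LD1_c10 LD2_c41 LD3_c2)) :=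
  Lgr Lrot119 (Lpe (K23.f243720 IH) (Lpr_bf (f357501 IH) (Lpe (f357485 IH) (Lpn (LP (LK LD1_c10 LD2_c41 LD3_c2))))))
theorem f357569 : Led Lsl_cf (LP (LK LD1_c15 LD2_c9 LD3_c25)) = (LP (LK LD1_c8 LD2_c10 LD3_c23)) :=
  Lgr Lrot160 (Lpe (K25.f293252 IH) (Lpe (K17.f211345 IH) (Lpr_bt (K11.f211341 IH) (Lpr_gt (K25.f211360 IH) (Lpr_ct (f357561 IH) (Lpr_gt (f223972 IH) (Lpe (f223955 IH) (Lpr_bt (K15.f173101 IH) (Lpr_gt (K25.f223931 IH) (Lpe (f357513 IH) (Lpn (LP (LK LD1_c8 LD2_c10 LD3_c23)))))))))))))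
theorem f211338 : Led Lsl_ct (LP (LK LD1_c10 LD2_c1 LD3_c11)) = (LP (LK LD1_c5 LD2_c5 LD3_c3)) :=
  Lre_c IH (LK LD1_c10 LD2_c1 LD3_c11) (LK LD1_c5 LD2_c5 LD3_c3) Lrfl Lrfl
theorem f357578 : Led Lsl_gf (LP (LK LD1_c10 LD2_c1 LD3_c11)) = (LP (LK LD1_c16 LD2_c9 LD3_c49)) :=
  Lgr Lrot104 (Lpr_ct (f211338 IH) (Lpe (K11.f211307 IH) (Lpe (K19.f211331 IH) (Lpr_gf (K25.f293252 IH) (Lpr_cf (f357569 IH) (Lpe (K23.f189908 IH) (Lpe (K19.f189896 IH) (Lpr_gt (K20.f189905 IH) (Lpr_ct (f189907 IH) (Lpn (LP (LK LD1_c16 LD2_c9 LD3_c49))))))))))))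
theorem f211333 : Led Lsl_ct (LP (LK LD1_c5 LD2_c5 LD3_c3)) = (LP (LK LD1_c10 LD2_c1 LD3_c11)) :=
  Lre_c IH (LK LD1_c5 LD2_c5 LD3_c3) (LK LD1_c10 LD2_c1 LD3_c11) Lrfl Lrfl
theorem f188013 : Led Lsl_gt (LP (LK LD1_c10 LD2_c33 LD3_c11)) = (LP (LK LD1_c5 LD2_c21 LD3_c27)) :=
  Lre_g IH (LK LD1_c10 LD2_c33 LD3_c11) (LK LD1_c5 LD2_c21 LD3_c27) Lrfl Lrfl
theorem f303591 : Led Lsl_gf (LP (LK LD1_c10 LD2_c33 LD3_c11)) = (LP (LK LD1_c10 LD2_c0 LD3_c48)) :=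
  Lgr Lrot47 (Lpr_gt (f188013 IH) (Lpr_af (K18.f303583 IH) (Lpe (K11.f211353 IH) (Lpn (LP (LK LD1_c10 LD2_c0 LD3_c48))))))
theorem f320919 : Led Lsl_ct (LP (LK LD1_c8 LD2_c8 LD3_c48)) = (LP (LK LD1_c4 LD2_c4 LD3_c4)) :=
  Lre_c IH (LK LD1_c8 LD2_c8 LD3_c48) (LK LD1_c4 LD2_c4 LD3_c4) Lrfl Lrfl
theorem f342128 : Led Lsl_ct (LP (LK LD1_c15 LD2_c9 LD3_c1)) = (LP (LK LD1_c15 LD2_c52 LD3_c38)) :=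
  Lgr Lrot8 (Lpr_gt (K22.f253024 IH) (Lpr_dt (K21.f329784 IH) (Lpe (K21.f329851 IH) (Lpr_dt (K20.f211323 IH) (Lpe (f320919 IH) (Lpe (K23.f329855 IH) (Lpr_gf (K23.f342124 IH) (Lpe (K21.f259194 IH) (Lpe (K23.f189270 IH) (Lpn (LP (LK LD1_c15 LD2_c52 LD3_c38))))))))))))
theorem f357580 : Led Lsl_bf (LP (LK LD1_c10 LD2_c33 LD3_c11)) = (LP (LK LD1_c15 LD2_c9 LD3_c1)) :=
  Lgr Lrot34 (Lpr_gf (f303591 IH) (Lpe (K18.f211328 IH) (Lpr_ct (f211333 IH) (Lpr_gf (f357578 IH) (Lpe (f189907 IH) (Lpe (K20.f189905 IH) (Lpe (K21.f189931 IH) (Lpr_ct (K25.f189933 IH) (Lpe (K23.f189270 IH) (Lpe (f342128 IH) (Lpn (LP (LK LD1_c15 LD2_c9 LD3_c1)))))))))))))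
theorem f303586 : Led Lsl_ct (LP (LK LD1_c5 LD2_c21 LD3_c27)) = (LP (LK LD1_c10 LD2_c33 LD3_c9)) :=
  Lre_c IH (LK LD1_c5 LD2_c21 LD3_c27) (LK LD1_c10 LD2_c33 LD3_c9) Lrfl Lrfl
theorem f178212 : Led Lsl_bt (LP (LK LD1_c5 LD2_c36 LD3_c54)) = (LP (LK LD1_c2 LD2_c44 LD3_c19)) :=
  Lre_b IH (LK LD1_c5 LD2_c36 LD3_c54) (LK LD1_c2 LD2_c44 LD3_c19) Lrfl Lrfl
theorem f357582 : Led Lsl_gt (LP (LK LD1_c10 LD2_c33 LD3_c9)) = (LP (LK LD1_c11 LD2_c5 LD3_c58)) :=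
  Lgr Lrot149 (Lpe (f303586 IH) (Lpe (f188013 IH) (Lpr_bf (f357580 IH) (Lpr_ct (f342128 IH) (Lpe (K23.f327146 IH) (Lpe (K21.f168920 IH) (Lpr_bt (K14.f168915 IH) (Lpe (K23.f342201 IH) (Lpe (f178212 IH) (Lpr_ct (K25.f178213 IH) (Lpn (LP (LK LD1_c11 LD2_c5 LD3_c58)))))))))))))
theorem f304131 : Led Lsl_df (LP (LK LD1_c10 LD2_c33 LD3_c11)) = (LP (LK LD1_c11 LD2_c52 LD3_c46)) :=
  Lgr Lrot132 (Lpr_gf (f303591 IH) (Lpe (K11.f211343 IH) (Lpe (K23.f211358 IH) (Lpr_ef (K23.f304127 IH) (Lpr_dt (K23.f237172 IH) (Lpe (K23.f284503 IH) (Lpe (K15.f261026 IH) (Lpe (K25.f284187 IH) (Lpr_gf (K24.f284535 IH) (Lpr_ef (K25.f222177 IH) (Lpn (LP (LK LD1_c11 LD2_c52 LD3_c46)))))))))))))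
theorem f304133 : Led Lsl_dt (LP (LK LD1_c10 LD2_c33 LD3_c11)) = (LP (LK LD1_c11 LD2_c52 LD3_c46)) :=
  Lgr Lrot42 (Lpr_df (f304131 IH) (Lpn (LP (LK LD1_c11 LD2_c52 LD3_c46))))
theorem f340073 : Led Lsl_gt (LP (LK LD1_c11 LD2_c52 LD3_c46)) = (LP (LK LD1_c11 LD2_c52 LD3_c43)) :=
  Lgr Lrot46 (Lpe (K25.f182166 IH) (Lpr_ft (K19.f196782 IH) (Lpr_at (K23.f340065 IH) (Lpn (LP (LK LD1_c11 LD2_c52 LD3_c43))))))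
theorem f342207 : Led Lsl_ct (LP (LK LD1_c11 LD2_c5 LD3_c58)) = (LP (LK LD1_c5 LD2_c36 LD3_c54)) :=
  Lre_c IH (LK LD1_c11 LD2_c5 LD3_c58) (LK LD1_c5 LD2_c36 LD3_c54) Lrfl Lrfl
theorem f187403 : Led Lsl_ct (LP (LK LD1_c15 LD2_c28 LD3_c12)) = (LP (LK LD1_c8 LD2_c13 LD3_c26)) :=
  Lre_c IH (LK LD1_c15 LD2_c28 LD3_c12) (LK LD1_c8 LD2_c13 LD3_c26) Lrfl Lrfl
theorem f357584 : Led Lsl_gt (LP (LK LD1_c19 LD2_c58 LD3_c17)) = (LP (LK LD1_c15 LD2_c28 LD3_c12)) :=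
  Lgr Lrot150 (Lpr_cf (K23.f340059 IH) (Lpe (f340073 IH) (Lpe (f304133 IH) (Lpr_gt (f188013 IH) (Lpr_ct (f303586 IH) (Lpr_gt (f357582 IH) (Lpr_ct (f342207 IH) (Lpe (K25.f351898 IH) (Lpe (f187403 IH) (Lpn (LP (LK LD1_c15 LD2_c28 LD3_c12))))))))))))
theorem f187404 : Led Lsl_ct (LP (LK LD1_c8 LD2_c13 LD3_c26)) = (LP (LK LD1_c15 LD2_c28 LD3_c12)) :=
  Lre_c IH (LK LD1_c8 LD2_c13 LD3_c26) (LK LD1_c15 LD2_c28 LD3_c12) Lrfl Lrfl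
theorem f351893 : Led Lsl_bt (LP (LK LD1_c2 LD2_c44 LD3_c19)) = (LP (LK LD1_c5 LD2_c36 LD3_c54)) :=
  Lre_b IH (LK LD1_c2 LD2_c44 LD3_c19) (LK LD1_c5 LD2_c36 LD3_c54) Lrfl Lrfl
theorem f351896 : Led Lsl_bt (LP (LK LD1_c8 LD2_c13 LD3_c26)) = (LP (LK LD1_c4 LD2_c6 LD3_c47)) :=
  Lgr Lrot95 (Lpr_df (K25.f351894 IH) (Lpe (f351893 IH) (Lpe (K23.f342194 IH) (Lpn (LP (LK LD1_c4 LD2_c6 LD3_c47))))))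
theorem f178207 : Led Lsl_bt (LP (LK LD1_c4 LD2_c6 LD3_c45)) = (LP (LK LD1_c2 LD2_c0 LD3_c44)) :=
  Lre_b IH (LK LD1_c4 LD2_c6 LD3_c45) (LK LD1_c2 LD2_c0 LD3_c44) Lrfl Lrfl
theorem f178210 : Led Lsl_ct (LP (LK LD1_c4 LD2_c6 LD3_c45)) = (LP (LK LD1_c8 LD2_c14 LD3_c8)) :=
  Lre_c IH (LK LD1_c4 LD2_c6 LD3_c45) (LK LD1_c8 LD2_c14 LD3_c8) Lrfl Lrfl
theorem f357588 : Led Lsl_gf (LP (LK LD1_c11 LD2_c4 LD3_c2)) = (LP (LK LD1_c8 LD2_c14 LD3_c8)) :=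
  Lgr Lrot126 (Lpr_cf (K25.f352504 IH) (Lpe (K25.f352514 IH) (Lpr_gt (f340073 IH) (Lpe (K23.f340059 IH) (Lpr_gt (f357584 IH) (Lpe (f187404 IH) (Lpr_bt (f351896 IH) (Lpr_gt (K23.f178205 IH) (Lpe (f178207 IH) (Lpr_ct (f178210 IH) (Lpn (LP (LK LD1_c8 LD2_c14 LD3_c8)))))))))))))
theorem f352510 : Led Lsl_ct (LP (LK LD1_c11 LD2_c4 LD3_c2)) = (LP (LK LD1_c8 LD2_c38 LD3_c4)) :=
  Lgr Lrot59 (Lpr_cf (K25.f352504 IH) (Lpn (LP (LK LD1_c8 LD2_c38 LD3_c4))))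
theorem f189155 : Led Lsl_gt (LP (LK LD1_c4 LD2_c14 LD3_c20)) = (LP (LK LD1_c8 LD2_c27 LD3_c20)) :=
  Lre_g IH (LK LD1_c4 LD2_c14 LD3_c20) (LK LD1_c8 LD2_c27 LD3_c20) Lrfl Lrfl
theorem f189190 : Led Lsl_ef (LP (LK LD1_c8 LD2_c27 LD3_c20)) = (LP (LK LD1_c4 LD2_c14 LD3_c29)) :=
  Lgr Lrot17 (Lpe (f189155 IH) (Lpe (K22.f27606 IH) (Lpr_dt (K14.f27602 IH) (Lpe (K10.f27596 IH) (Lpe (K10.f50907 IH) (Lpe (K10.f189141 IH) (Lpe (K22.f189152 IH) (Lpr_dt (K22.f189153 IH) (Lpe (K23.f189154 IH) (Lpr_df (K24.f189162 IH) (Lpn (LP (LK LD1_c4 LD2_c14 LD3_c29)))))))))))))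
theorem f315668 : Led Lsl_gt (LP (LK LD1_c8 LD2_c27 LD3_c20)) = (LP (LK LD1_c6 LD2_c7 LD3_c2)) :=
  Lgr Lrot137 (Lpr_ef (f189190 IH) (Lpe (K24.f189162 IH) (Lpe (K24.f189192 IH) (Lpe (K20.f315593 IH) (Lpr_et (K20.f315618 IH) (Lpe (K21.f315463 IH) (Lpr_ef (K19.f312200 IH) (Lpr_dt (K19.f314574 IH) (Lpe (K21.f168932 IH) (Lpr_df (K21.f168909 IH) (Lpn (LP (LK LD1_c6 LD2_c7 LD3_c2)))))))))))))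
theorem f357592 : Led Lsl_df (LP (LK LD1_c8 LD2_c27 LD3_c20)) = (LP (LK LD1_c8 LD2_c14 LD3_c9)) :=
  Lgr Lrot155 (Lpr_gt (f315668 IH) (Lpr_ct (K21.f168920 IH) (Lpr_gt (K23.f327146 IH) (Lpe (K23.f342130 IH) (Lpe (K22.f338615 IH) (Lpe (f352510 IH) (Lpr_gf (f357588 IH) (Lpe (f178210 IH) (Lpe (K24.f190238 IH) (Lpn (LP (LK LD1_c8 LD2_c14 LD3_c9))))))))))))
theorem f246858 : Led Lsl_ft (LP (LK LD1_c3 LD2_c58 LD3_c37)) = (LP (LK LD1_c7 LD2_c58 LD3_c48)) :=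
  Lre_f IH (LK LD1_c3 LD2_c58 LD3_c37) (LK LD1_c7 LD2_c58 LD3_c48) Lrfl Lrfl
theorem f339782 : Led Lsl_df (LP (LK LD1_c5 LD2_c8 LD3_c51)) = (LP (LK LD1_c7 LD2_c58 LD3_c48)) :=
  Lgr Lrot78 (Lpr_ft (K22.f339777 IH) (Lpe (K14.f246829 IH) (Lpr_ft (f246858 IH) (Lpn (LP (LK LD1_c7 LD2_c58 LD3_c48))))))
theorem f339799 : Led Lsl_ef (LP (LK LD1_c7 LD2_c58 LD3_c48)) = (LP (LK LD1_c4 LD2_c56 LD3_c7)) :=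
  Lgr Lrot73 (Lpe (f339782 IH) (Lpr_et (K22.f339774 IH) (Lpr_dt (K22.f339788 IH) (Lpr_et (K21.f326991 IH) (Lpe (K21.f168909 IH) (Lpn (LP (LK LD1_c4 LD2_c56 LD3_c7))))))))
theorem f357597 : Led Lsl_ef (LP (LK LD1_c11 LD2_c4 LD3_c20)) = (LP (LK LD1_c8 LD2_c14 LD3_c9)) :=
  Lgr Lrot17 (Lpe (K23.f212889 IH) (Lpe (K16.f225649 IH) (Lpr_dt (K23.f246927 IH) (Lpr_gf (K23.f327769 IH) (Lpe (K23.f239531 IH) (Lpe (K22.f339821 IH) (Lpr_ef (f339799 IH) (Lpr_dt (K14.f168916 IH) (Lpe (f315668 IH) (Lpr_df (f357592 IH) (Lpn (LP (LK LD1_c8 LD2_c14 LD3_c9)))))))))))))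
theorem f351427 : Led Lsl_cf (LP (LK LD1_c8 LD2_c14 LD3_c9)) = (LP (LK LD1_c10 LD2_c1 LD3_c9)) :=
  Lgr Lrot166 (Lpr_gt (K24.f190238 IH) (Lpe (K23.f339701 IH) (Lpr_gt (K19.f221030 IH) (Lpr_dt (K19.f314521 IH) (Lpr_ct (K23.f168955 IH) (Lpe (K24.f314520 IH) (Lpr_gf (K24.f351418 IH) (Lpe (K23.f266639 IH) (Lpe (K24.f211320 IH) (Lpn (LP (LK LD1_c10 LD2_c1 LD3_c9))))))))))))
theorem f351420 : Led Lsl_et (LP (LK LD1_c18 LD2_c18 LD3_c40)) = (LP (LK LD1_c10 LD2_c1 LD3_c9)) :=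
  Lre_e IH (LK LD1_c18 LD2_c18 LD3_c40) (LK LD1_c10 LD2_c1 LD3_c9) Lrfl Lrfl
theorem f357604 : Led Lsl_ct (LP (LK LD1_c11 LD2_c4 LD3_c20)) = (LP (LK LD1_c18 LD2_c18 LD3_c40)) :=
  Lgr Lrot15 (Lpr_ef (f357597 IH) (Lpr_cf (f351427 IH) (Lpe (f351420 IH) (Lpn (LP (LK LD1_c18 LD2_c18 LD3_c40))))))
theorem f337966 : Led Lsl_gt (LP (LK LD1_c4 LD2_c56 LD3_c31)) = (LP (LK LD1_c2 LD2_c43 LD3_c34)) :=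
  Lgr Lrot46 (Lpr_gf (K22.f337964 IH) (Lpr_ft (K14.f212681 IH) (Lpr_at (K23.f212876 IH) (Lpn (LP (LK LD1_c2 LD2_c43 LD3_c34))))))
theorem f357599 : Led Lsl_gf (LP (LK LD1_c9 LD2_c44 LD3_c32)) = (LP (LK LD1_c11 LD2_c4 LD3_c20)) :=
  Lgr Lrot138 (Lpr_dt (K22.f180021 IH) (Lpr_gt (f337966 IH) (Lpr_df (K14.f212901 IH) (Lpr_et (K14.f212903 IH) (Lpr_gt (K22.f316810 IH) (Lpe (K19.f235442 IH) (Lpr_dt (K21.f314414 IH) (Lpr_gt (f189155 IH) (Lpr_df (f357592 IH) (Lpe (f357597 IH) (Lpn (LP (LK LD1_c11 LD2_c4 LD3_c20)))))))))))))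
theorem f212878 : Led Lsl_ct (LP (LK LD1_c5 LD2_c35 LD3_c16)) = (LP (LK LD1_c2 LD2_c43 LD3_c34)) :=
  Lre_c IH (LK LD1_c5 LD2_c35 LD3_c16) (LK LD1_c2 LD2_c43 LD3_c34) Lrfl Lrfl
theorem f212908 : Led Lsl_dt (LP (LK LD1_c11 LD2_c2 LD3_c41)) = (LP (LK LD1_c5 LD2_c35 LD3_c16)) :=
  Lre_d IH (LK LD1_c11 LD2_c2 LD3_c41) (LK LD1_c5 LD2_c35 LD3_c16) Lrfl Lrfl
theorem f212909 : Led Lsl_gt (LP (LK LD1_c19 LD2_c54 LD3_c5)) = (LP (LK LD1_c11 LD2_c2 LD3_c41)) :=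
  Lre_g IH (LK LD1_c19 LD2_c54 LD3_c5) (LK LD1_c11 LD2_c2 LD3_c41) Lrfl Lrfl
theorem f350052 : Led Lsl_cf (LP (LK LD1_c16 LD2_c14 LD3_c25)) = (LP (LK LD1_c16 LD2_c50 LD3_c10)) :=
  Lgr Lrot166 (Lpr_gt (K21.f328654 IH) (Lpr_dt (K21.f328652 IH) (Lpe (K21.f328658 IH) (Lpe (K19.f305468 IH) (Lpr_ct (K21.f231459 IH) (Lpe (K19.f201775 IH) (Lpe (K24.f350050 IH) (Lpe (K24.f308294 IH) (Lpr_gf (K24.f350046 IH) (Lpn (LP (LK LD1_c16 LD2_c50 LD3_c10))))))))))))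
theorem f31237 : Led Lsl_ct (LP (LK LD1_c16 LD2_c13 LD3_c23)) = (LP (LK LD1_c26 LD2_c10 LD3_c20)) :=
  Lre_c IH (LK LD1_c16 LD2_c13 LD3_c23) (LK LD1_c26 LD2_c10 LD3_c20) Lrfl Lrfl
theorem f350099 : Led Lsl_et (LP (LK LD1_c26 LD2_c10 LD3_c20)) = (LP (LK LD1_c16 LD2_c50 LD3_c10)) :=
  Lgr Lrot158 (Lpe (f31237 IH) (Lpe (K21.f255639 IH) (Lpr_cf (f350052 IH) (Lpn (LP (LK LD1_c16 LD2_c50 LD3_c10))))))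
theorem f293498 : Led Lsl_et (LP (LK LD1_c4 LD2_c31 LD3_c21)) = (LP (LK LD1_c9 LD2_c0 LD3_c38)) :=
  Lre_e IH (LK LD1_c4 LD2_c31 LD3_c21) (LK LD1_c9 LD2_c0 LD3_c38) Lrfl Lrfl
theorem f212949 : Led Lsl_et (LP (LK LD1_c5 LD2_c35 LD3_c16)) = (LP (LK LD1_c2 LD2_c43 LD3_c33)) :=
  Lre_e IH (LK LD1_c5 LD2_c35 LD3_c16) (LK LD1_c2 LD2_c43 LD3_c33) Lrfl Lrfl
theorem f212907 : Led Lsl_dt (LP (LK LD1_c5 LD2_c35 LD3_c16)) = (LP (LK LD1_c11 LD2_c2 LD3_c41)) :=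
  Lre_d IH (LK LD1_c5 LD2_c35 LD3_c16) (LK LD1_c11 LD2_c2 LD3_c41) Lrfl Lrfl
theorem f350107 : Led Lsl_dt (LP (LK LD1_c26 LD2_c10 LD3_c20)) = (LP (LK LD1_c19 LD2_c54 LD3_c5)) :=
  Lgr Lrot136 (Lpr_et (f350099 IH) (Lpe (K24.f310697 IH) (Lpe (f293498 IH) (Lpr_dt (K20.f238076 IH) (Lpe (K20.f316706 IH) (Lpe (K19.f194428 IH) (Lpe (K12.f212996 IH) (Lpe (f212949 IH) (Lpr_dt (f212907 IH) (Lpe (f212909 IH) (Lpn (LP (LK LD1_c19 LD2_c54 LD3_c5)))))))))))))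
theorem f357609 : Led Lsl_gf (LP (LK LD1_c26 LD2_c10 LD3_c20)) = (LP (LK LD1_c18 LD2_c18 LD3_c40)) :=
  Lgr Lrot148 (Lpr_dt (f350107 IH) (Lpr_gt (f212909 IH) (Lpr_dt (f212908 IH) (Lpr_ct (f212878 IH) (Lpr_df (K14.f212901 IH) (Lpe (f337966 IH) (Lpe (K22.f180021 IH) (Lpr_gf (f357599 IH) (Lpr_ct (f357604 IH) (Lpn (LP (LK LD1_c18 LD2_c18 LD3_c40))))))))))))
theorem f213011 : Led Lsl_et (LP (LK LD1_c5 LD2_c24 LD3_c32)) = (LP (LK LD1_c2 LD2_c38 LD3_c49)) :=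
  Lre_e IH (LK LD1_c5 LD2_c24 LD3_c32) (LK LD1_c2 LD2_c38 LD3_c49) Lrfl Lrfl
theorem f194587 : Led Lsl_dt (LP (LK LD1_c5 LD2_c24 LD3_c32)) = (LP (LK LD1_c10 LD2_c39 LD3_c47)) :=
  Lre_d IH (LK LD1_c5 LD2_c24 LD3_c32) (LK LD1_c10 LD2_c39 LD3_c47) Lrfl Lrfl
theorem f351434 : Led Lsl_et (LP (LK LD1_c10 LD2_c1 LD3_c9)) = (LP (LK LD1_c18 LD2_c18 LD3_c40)) :=
  Lre_e IH (LK LD1_c10 LD2_c1 LD3_c9) (LK LD1_c18 LD2_c18 LD3_c40) Lrfl Lrfl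
theorem f351433 : Led Lsl_dt (LP (LK LD1_c10 LD2_c1 LD3_c9)) = (LP (LK LD1_c18 LD2_c18 LD3_c39)) :=
  Lre_d IH (LK LD1_c10 LD2_c1 LD3_c9) (LK LD1_c18 LD2_c18 LD3_c39) Lrfl Lrfl
theorem f358226 : Led Lsl_gt (LP (LK LD1_c10 LD2_c39 LD3_c47)) = (LP (LK LD1_c18 LD2_c18 LD3_c39)) :=
  Lgr Lrot112 (Lpe (f194587 IH) (Lpr_et (f213011 IH) (Lpe (K12.f212996 IH) (Lpe (f212949 IH) (Lpr_dt (f212907 IH) (Lpe (f212909 IH) (Lpe (f350107 IH) (Lpr_gf (f357609 IH) (Lpe (f351434 IH) (Lpr_dt (f351433 IH) (Lpn (LP (LK LD1_c18 LD2_c18 LD3_c39)))))))))))))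
theorem f194488 : Led Lsl_gt (LP (LK LD1_c10 LD2_c39 LD3_c46)) = (LP (LK LD1_c5 LD2_c24 LD3_c32)) :=
  Lre_g IH (LK LD1_c10 LD2_c39 LD3_c46) (LK LD1_c5 LD2_c24 LD3_c32) Lrfl Lrfl
theorem f351431 : Led Lsl_dt (LP (LK LD1_c18 LD2_c18 LD3_c39)) = (LP (LK LD1_c10 LD2_c1 LD3_c9)) :=
  Lre_d IH (LK LD1_c18 LD2_c18 LD3_c39) (LK LD1_c10 LD2_c1 LD3_c9) Lrfl Lrfl
theorem f357590 : Led Lsl_dt (LP (LK LD1_c8 LD2_c27 LD3_c20)) = (LP (LK LD1_c8 LD2_c14 LD3_c9)) :=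
  Lgr Lrot6 (Lpr_gt (f315668 IH) (Lpr_ct (K21.f168920 IH) (Lpr_gt (K23.f327146 IH) (Lpe (K23.f342130 IH) (Lpe (K23.f338621 IH) (Lpe (f352510 IH) (Lpr_gf (f357588 IH) (Lpe (f178210 IH) (Lpe (K24.f190238 IH) (Lpn (LP (LK LD1_c8 LD2_c14 LD3_c9))))))))))))
theorem f358230 : Led Lsl_cf (LP (LK LD1_c10 LD2_c39 LD3_c46)) = (LP (LK LD1_c9 LD2_c43 LD3_c44)) :=
  Lgr Lrot166 (Lpr_gt (f194488 IH) (Lpr_dt (f194587 IH) (Lpr_gt (f358226 IH) (Lpr_dt (f351431 IH) (Lpe (f351427 IH) (Lpe (f357590 IH) (Lpe (f189155 IH) (Lpe (K21.f314414 IH) (Lpe (K19.f314419 IH) (Lpn (LP (LK LD1_c9 LD2_c43 LD3_c44))))))))))))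
theorem f194470 : Led Lsl_ct (LP (LK LD1_c5 LD2_c24 LD3_c32)) = (LP (LK LD1_c2 LD2_c38 LD3_c50)) :=
  Lre_c IH (LK LD1_c5 LD2_c24 LD3_c32) (LK LD1_c2 LD2_c38 LD3_c50) Lrfl Lrfl
theorem f358241 : Led Lsl_cf (LP (LK LD1_c15 LD2_c16 LD3_c17)) = (LP (LK LD1_c8 LD2_c27 LD3_c21)) :=
  Lgr Lrot169 (Lpr_gt (f194489 IH) (Lpr_ct (K21.f194485 IH) (Lpe (K19.f194434 IH) (Lpe (f194470 IH) (Lpe (f194488 IH) (Lpr_cf (f358230 IH) (Lpe (K21.f168932 IH) (Lpr_df (K21.f168909 IH) (Lpe (K25.f354024 IH) (Lpn (LP (LK LD1_c8 LD2_c27 LD3_c21))))))))))))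
theorem f359985 : Led Lsl_bf (LP (LK LD1_c10 LD2_c19 LD3_c61)) = (LP (LK LD1_c8 LD2_c27 LD3_c21)) :=
  Lgr Lrot165 (Lpr_gt (f189706 IH) (Lpr_ct (K25.f189751 IH) (Lpr_gt (f359983 IH) (Lpe (f231788 IH) (Lpe (f352568 IH) (Lpe (K23.f340109 IH) (Lpr_bf (K22.f253018 IH) (Lpr_ct (K22.f338377 IH) (Lpe (f338388 IH) (Lpr_cf (f358241 IH) (Lpn (LP (LK LD1_c8 LD2_c27 LD3_c21)))))))))))))
theorem f263533 : Led Lsl_bf (LP (LK LD1_c18 LD2_c44 LD3_c38)) = (LP (LK LD1_c15 LD2_c27 LD3_c51)) :=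
  Lgr Lrot24 (Lpr_bt (f263531 IH) (Lpn (LP (LK LD1_c15 LD2_c27 LD3_c51))))
theorem f44703 : Led Lsl_ct (LP (LK LD1_c5 LD2_c24 LD3_c47)) = (LP (LK LD1_c10 LD2_c40 LD3_c11)) :=
  Lre_c IH (LK LD1_c5 LD2_c24 LD3_c47) (LK LD1_c10 LD2_c40 LD3_c11) Lrfl Lrfl
theorem f194593 : Led Lsl_gt (LP (LK LD1_c10 LD2_c40 LD3_c11)) = (LP (LK LD1_c19 LD2_c19 LD3_c14)) :=
  Lre_g IH (LK LD1_c10 LD2_c40 LD3_c11) (LK LD1_c19 LD2_c19 LD3_c14) Lrfl Lrfl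
theorem f359996 : Led Lsl_ct (LP (LK LD1_c15 LD2_c27 LD3_c51)) = (LP (LK LD1_c19 LD2_c19 LD3_c14)) :=
  Lgr Lrot63 (Lpe (f263533 IH) (Lpe (f359901 IH) (Lpr_bf (f359985 IH) (Lpe (f358241 IH) (Lpr_gt (f194489 IH) (Lpe (K19.f194458 IH) (Lpe (K25.f194468 IH) (Lpr_gt (K22.f41479 IH) (Lpr_ct (f44703 IH) (Lpr_gt (f194593 IH) (Lpn (LP (LK LD1_c19 LD2_c19 LD3_c14)))))))))))))
theorem f220784 : Led Lsl_ft (LP (LK LD1_c8 LD2_c13 LD3_c16)) = (LP (LK LD1_c15 LD2_c27 LD3_c51)) :=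
  Lre_f IH (LK LD1_c8 LD2_c13 LD3_c16) (LK LD1_c15 LD2_c27 LD3_c51) Lrfl Lrfl
theorem f360003 : Led Lsl_ff (LP (LK LD1_c15 LD2_c27 LD3_c48)) = (LP (LK LD1_c19 LD2_c19 LD3_c14)) :=
  Lgr Lrot23 (Lpr_ct (K25.f220785 IH) (Lpr_ft (f220784 IH) (Lpr_ct (f359996 IH) (Lpn (LP (LK LD1_c19 LD2_c19 LD3_c14))))))
theorem f360354 : Led Lsl_ft (LP (LK LD1_c15 LD2_c27 LD3_c48)) = (LP (LK LD1_c19 LD2_c19 LD3_c14)) :=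
  Lgr Lrot48 (Lpr_ff (f360003 IH) (Lpn (LP (LK LD1_c19 LD2_c19 LD3_c14))))
theorem f351424 : Led Lsl_dt (LP (LK LD1_c27 LD2_c57 LD3_c23)) = (LP (LK LD1_c18 LD2_c18 LD3_c40)) :=
  Lre_d IH (LK LD1_c27 LD2_c57 LD3_c23) (LK LD1_c18 LD2_c18 LD3_c40) Lrfl Lrfl
theorem f351421 : Led Lsl_dt (LP (LK LD1_c18 LD2_c18 LD3_c40)) = (LP (LK LD1_c27 LD2_c57 LD3_c23)) :=
  Lre_d IH (LK LD1_c18 LD2_c18 LD3_c40) (LK LD1_c27 LD2_c57 LD3_c23) Lrfl Lrfl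
theorem f321021 : Led Lsl_et (LP (LK LD1_c10 LD2_c42 LD3_c49)) = (LP (LK LD1_c19 LD2_c23 LD3_c34)) :=
  Lre_e IH (LK LD1_c10 LD2_c42 LD3_c49) (LK LD1_c19 LD2_c23 LD3_c34) Lrfl Lrfl
theorem f321012 : Led Lsl_dt (LP (LK LD1_c10 LD2_c42 LD3_c49)) = (LP (LK LD1_c19 LD2_c23 LD3_c33)) :=
  Lre_d IH (LK LD1_c10 LD2_c42 LD3_c49) (LK LD1_c19 LD2_c23 LD3_c33) Lrfl Lrfl
theorem f351422 : Led Lsl_gf (LP (LK LD1_c27 LD2_c57 LD3_c23)) = (LP (LK LD1_c19 LD2_c23 LD3_c33)) :=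
  Lgr Lrot145 (Lpe (f351421 IH) (Lpr_et (f351420 IH) (Lpr_gt (K24.f211320 IH) (Lpr_dt (K23.f266639 IH) (Lpe (K24.f351418 IH) (Lpe (K24.f347184 IH) (Lpr_et (K24.f347196 IH) (Lpr_gt (K24.f351410 IH) (Lpe (f321021 IH) (Lpr_dt (f321012 IH) (Lpn (LP (LK LD1_c19 LD2_c23 LD3_c33)))))))))))))
theorem f213437 : Led Lsl_af (LP (LK LD1_c9 LD2_c0 LD3_c31)) = (LP (LK LD1_c5 LD2_c35 LD3_c16)) :=
  Lgr Lrot50 (Lpr_et (K20.f212654 IH) (Lpr_at (K12.f212942 IH) (Lpr_et (K12.f212918 IH) (Lpn (LP (LK LD1_c5 LD2_c35 LD3_c16))))))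
theorem f212879 : Led Lsl_ft (LP (LK LD1_c8 LD2_c38 LD3_c0)) = (LP (LK LD1_c5 LD2_c35 LD3_c16)) :=
  Lgr Lrot4 (Lpe (K23.f28496 IH) (Lpr_ff (K12.f212874 IH) (Lpe (f212878 IH) (Lpn (LP (LK LD1_c5 LD2_c35 LD3_c16))))))
theorem f321008 : Led Lsl_gt (LP (LK LD1_c8 LD2_c38 LD3_c0)) = (LP (LK LD1_c10 LD2_c42 LD3_c49)) :=
  Lgr Lrot5 (Lpr_ft (f212879 IH) (Lpe (f213437 IH) (Lpr_gf (K20.f321006 IH) (Lpn (LP (LK LD1_c10 LD2_c42 LD3_c49))))))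
theorem f357611 : Led Lsl_gf (LP (LK LD1_c5 LD2_c36 LD3_c0)) = (LP (LK LD1_c11 LD2_c3 LD3_c9)) :=
  Lgr Lrot154 (Lpr_dt (K23.f189173 IH) (Lpr_ct (f357604 IH) (Lpe (f351424 IH) (Lpr_gf (f351422 IH) (Lpe (f321012 IH) (Lpe (f321008 IH) (Lpr_ct (K12.f28497 IH) (Lpr_gt (K14.f28498 IH) (Lpr_dt (K21.f247165 IH) (Lpn (LP (LK LD1_c11 LD2_c3 LD3_c9))))))))))))
theorem f332927 : Led Lsl_bt (LP (LK LD1_c11 LD2_c4 LD3_c15)) = (LP (LK LD1_c5 LD2_c36 LD3_c0)) :=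
  Lre_b IH (LK LD1_c11 LD2_c4 LD3_c15) (LK LD1_c5 LD2_c36 LD3_c0) Lrfl Lrfl
theorem f323347 : Led Lsl_bt (LP (LK LD1_c11 LD2_c8 LD3_c37)) = (LP (LK LD1_c11 LD2_c3 LD3_c9)) :=
  Lgr Lrot127 (Lpr_bf (K21.f323345 IH) (Lpn (LP (LK LD1_c11 LD2_c3 LD3_c9))))
theorem f224242 : Led Lsl_ct (LP (LK LD1_c11 LD2_c8 LD3_c37)) = (LP (LK LD1_c20 LD2_c2 LD3_c9)) :=
  Lre_c IH (LK LD1_c11 LD2_c8 LD3_c37) (LK LD1_c20 LD2_c2 LD3_c9) Lrfl Lrfl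
theorem f310402 : Led Lsl_bf (LP (LK LD1_c8 LD2_c9 LD3_c29)) = (LP (LK LD1_c11 LD2_c54 LD3_c30)) :=
  Lgr Lrot93 (Lpr_dt (K15.f28016 IH) (Lpr_bt (K21.f310353 IH) (Lpr_dt (K20.f41715 IH) (Lpn (LP (LK LD1_c11 LD2_c54 LD3_c30))))))
theorem f357617 : Led Lsl_gt (LP (LK LD1_c19 LD2_c56 LD3_c48)) = (LP (LK LD1_c20 LD2_c58 LD3_c60)) :=
  Lgr Lrot65 (Lpe (K24.f335796 IH) (Lpr_bt (f332927 IH) (Lpr_gf (f357611 IH) (Lpe (f323347 IH) (Lpr_ct (f224242 IH) (Lpe (K23.f328699 IH) (Lpe (K23.f52353 IH) (Lpe (K21.f52352 IH) (Lpr_bf (f310402 IH) (Lpr_ct (K20.f41717 IH) (Lpn (LP (LK LD1_c20 LD2_c58 LD3_c60)))))))))))))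
theorem f350642 : Led Lsl_et (LP (LK LD1_c11 LD2_c4 LD3_c14)) = (LP (LK LD1_c19 LD2_c56 LD3_c48)) :=
  Lre_e IH (LK LD1_c11 LD2_c4 LD3_c14) (LK LD1_c19 LD2_c56 LD3_c48) Lrfl Lrfl
theorem f332928 : Led Lsl_ct (LP (LK LD1_c19 LD2_c56 LD3_c48)) = (LP (LK LD1_c11 LD2_c4 LD3_c15)) :=
  Lre_c IH (LK LD1_c19 LD2_c56 LD3_c48) (LK LD1_c11 LD2_c4 LD3_c15) Lrfl Lrfl
theorem f190138 : Led Lsl_dt (LP (LK LD1_c19 LD2_c14 LD3_c17)) = (LP (LK LD1_c10 LD2_c37 LD3_c12)) :=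
  Lre_d IH (LK LD1_c19 LD2_c14 LD3_c17) (LK LD1_c10 LD2_c37 LD3_c12) Lrfl Lrfl
theorem f357619 : Led Lsl_gf (LP (LK LD1_c19 LD2_c14 LD3_c17)) = (LP (LK LD1_c26 LD2_c37 LD3_c49)) :=
  Lgr Lrot143 (Lpr_dt (f190138 IH) (Lpr_cf (K10.f190136 IH) (Lpe (K10.f183656 IH) (Lpr_gf (K20.f292534 IH) (Lpr_df (K24.f350664 IH) (Lpe (K24.f189237 IH) (Lpe (f332928 IH) (Lpr_gt (f357617 IH) (Lpr_dt (K20.f302821 IH) (Lpn (LP (LK LD1_c26 LD2_c37 LD3_c49))))))))))))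
theorem f356224 : Led Lsl_gt (LP (LK LD1_c10 LD2_c37 LD3_c7)) = (LP (LK LD1_c19 LD2_c14 LD3_c6)) :=
  Lre_g IH (LK LD1_c10 LD2_c37 LD3_c7) (LK LD1_c19 LD2_c14 LD3_c6) Lrfl Lrfl
theorem f357625 : Led Lsl_dt (LP (LK LD1_c11 LD2_c4 LD3_c14)) = (LP (LK LD1_c19 LD2_c14 LD3_c6)) :=
  Lgr Lrot37 (Lpr_et (f350642 IH) (Lpr_gt (f357617 IH) (Lpr_dt (K20.f302821 IH) (Lpe (f357619 IH) (Lpe (K22.f190123 IH) (Lpr_et (K22.f190122 IH) (Lpr_gt (K10.f42506 IH) (Lpe (K25.f190214 IH) (Lpr_dt (K25.f190215 IH) (Lpr_gt (f356224 IH) (Lpn (LP (LK LD1_c19 LD2_c14 LD3_c6)))))))))))))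
theorem f356416 : Led Lsl_gt (LP (LK LD1_c11 LD2_c52 LD3_c29)) = (LP (LK LD1_c10 LD2_c37 LD3_c1)) :=
  Lgr Lrot5 (Lpr_ft (K23.f324808 IH) (Lpr_at (K25.f324844 IH) (Lpr_gf (K25.f356414 IH) (Lpn (LP (LK LD1_c10 LD2_c37 LD3_c1))))))
theorem f356420 : Led Lsl_dt (LP (LK LD1_c10 LD2_c37 LD3_c1)) = (LP (LK LD1_c19 LD2_c13 LD3_c57)) :=
  Lre_d IH (LK LD1_c10 LD2_c37 LD3_c1) (LK LD1_c19 LD2_c13 LD3_c57) Lrfl Lrfl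
theorem f356583 : Led Lsl_gt (LP (LK LD1_c19 LD2_c13 LD3_c57)) = (LP (LK LD1_c26 LD2_c36 LD3_c26)) :=
  Lgr Lrot49 (Lpe (f356420 IH) (Lpe (f356416 IH) (Lpr_cf (K23.f343663 IH) (Lpr_gt (K25.f214053 IH) (Lpe (K25.f351510 IH) (Lpe (K25.f352461 IH) (Lpr_dt (K13.f213951 IH) (Lpr_cf (K25.f356567 IH) (Lpe (K25.f356573 IH) (Lpn (LP (LK LD1_c26 LD2_c36 LD3_c26))))))))))))
theorem f329668 : Led Lsl_dt (LP (LK LD1_c19 LD2_c13 LD3_c57)) = (LP (LK LD1_c10 LD2_c37 LD3_c1)) :=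
  Lre_d IH (LK LD1_c19 LD2_c13 LD3_c57) (LK LD1_c10 LD2_c37 LD3_c1) Lrfl Lrfl
theorem f356586 : Led Lsl_gf (LP (LK LD1_c29 LD2_c46 LD3_c12)) = (LP (LK LD1_c32 LD2_c12 LD3_c35)) :=
  Lgr Lrot104 (Lpr_ct (K25.f311112 IH) (Lpe (K22.f311111 IH) (Lpe (K25.f339862 IH) (Lpr_gf (K25.f352534 IH) (Lpe (K25.f351524 IH) (Lpr_gf (K25.f356414 IH) (Lpe (f329668 IH) (Lpr_gt (f356583 IH) (Lpr_ct (K25.f356328 IH) (Lpn (LP (LK LD1_c32 LD2_c12 LD3_c35))))))))))))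
theorem f352459 : Led Lsl_gt (LP (LK LD1_c28 LD2_c29 LD3_c22)) = (LP (LK LD1_c19 LD2_c13 LD3_c32)) :=
  Lgr Lrot5 (Lpe (K23.f343860 IH) (Lpr_at (K23.f343862 IH) (Lpr_gf (K25.f352457 IH) (Lpn (LP (LK LD1_c19 LD2_c13 LD3_c32))))))
theorem f356602 : Led Lsl_df (LP (LK LD1_c28 LD2_c29 LD3_c22)) = (LP (LK LD1_c32 LD2_c12 LD3_c35)) :=
  Lgr Lrot155 (Lpr_gt (f352459 IH) (Lpr_ct (K25.f345446 IH) (Lpe (K25.f345440 IH) (Lpr_ct (K17.f284308 IH) (Lpr_dt (K17.f284397 IH) (Lpe (K17.f199025 IH) (Lpe (K22.f325801 IH) (Lpe (K25.f311112 IH) (Lpr_gf (f356586 IH) (Lpn (LP (LK LD1_c32 LD2_c12 LD3_c35))))))))))))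
theorem f356605 : Led Lsl_at (LP (LK LD1_c28 LD2_c35 LD3_c18)) = (LP (LK LD1_c32 LD2_c12 LD3_c35)) :=
  Lgr Lrot51 (Lpe (K25.f216082 IH) (Lpr_af (K23.f336843 IH) (Lpr_df (f356602 IH) (Lpn (LP (LK LD1_c32 LD2_c12 LD3_c35))))))
theorem f336856 : Led Lsl_ff (LP (LK LD1_c28 LD2_c35 LD3_c18)) = (LP (LK LD1_c32 LD2_c5 LD3_c25)) :=
  Lgr Lrot19 (Lpr_dt (K25.f215941 IH) (Lpr_ft (K25.f336855 IH) (Lpr_dt (K22.f336849 IH) (Lpn (LP (LK LD1_c32 LD2_c5 LD3_c25))))))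
theorem f356636 : Led Lsl_gt (LP (LK LD1_c29 LD2_c46 LD3_c9)) = (LP (LK LD1_c32 LD2_c12 LD3_c35)) :=
  Lgr Lrot46 (Lpe (K25.f352454 IH) (Lpe (f336856 IH) (Lpr_at (f356605 IH) (Lpn (LP (LK LD1_c32 LD2_c12 LD3_c35))))))
theorem f345464 : Led Lsl_dt (LP (LK LD1_c19 LD2_c13 LD3_c32)) = (LP (LK LD1_c28 LD2_c39 LD3_c38)) :=
  Lre_d IH (LK LD1_c19 LD2_c13 LD3_c32) (LK LD1_c28 LD2_c39 LD3_c38) Lrfl Lrfl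
theorem f357636 : Led Lsl_cf (LP (LK LD1_c28 LD2_c39 LD3_c38)) = (LP (LK LD1_c19 LD2_c14 LD3_c6)) :=
  Lgr Lrot14 (Lpe (f345464 IH) (Lpe (f352459 IH) (Lpr_df (f356602 IH) (Lpe (f356636 IH) (Lpr_ct (K25.f42398 IH) (Lpr_gt (K25.f316544 IH) (Lpr_dt (K17.f284396 IH) (Lpr_gt (K25.f350632 IH) (Lpr_dt (f357625 IH) (Lpn (LP (LK LD1_c19 LD2_c14 LD3_c6))))))))))))
theorem f352166 : Led Lsl_et (LP (LK LD1_c15 LD2_c53 LD3_c25)) = (LP (LK LD1_c25 LD2_c49 LD3_c29)) :=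
  Lre_e IH (LK LD1_c15 LD2_c53 LD3_c25) (LK LD1_c25 LD2_c49 LD3_c29) Lrfl Lrfl
theorem f355986 : Led Lsl_ct (LP (LK LD1_c10 LD2_c37 LD3_c4)) = (LP (LK LD1_c15 LD2_c53 LD3_c25)) :=
  Lgr Lrot15 (Lpe (K25.f266742 IH) (Lpr_cf (K25.f355980 IH) (Lpe (f352166 IH) (Lpn (LP (LK LD1_c15 LD2_c53 LD3_c25))))))
theorem f357662 : Led Lsl_gt (LP (LK LD1_c28 LD2_c39 LD3_c38)) = (LP (LK LD1_c32 LD2_c12 LD3_c38)) :=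
  Lgr Lrot150 (Lpr_cf (f357636 IH) (Lpe (f356224 IH) (Lpe (K25.f190215 IH) (Lpr_gt (K25.f182895 IH) (Lpr_ct (f355986 IH) (Lpe (K25.f352153 IH) (Lpe (K25.f343675 IH) (Lpr_df (K25.f356664 IH) (Lpe (K25.f356649 IH) (Lpn (LP (LK LD1_c32 LD2_c12 LD3_c38))))))))))))
theorem f42368 : Led Lsl_dt (LP (LK LD1_c19 LD2_c3 LD3_c58)) = (LP (LK LD1_c10 LD2_c31 LD3_c9)) :=
  Lre_d IH (LK LD1_c19 LD2_c3 LD3_c58) (LK LD1_c10 LD2_c31 LD3_c9) Lrfl Lrfl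
theorem f357664 : Led Lsl_gt (LP (LK LD1_c19 LD2_c2 LD3_c61)) = (LP (LK LD1_c19 LD2_c3 LD3_c58)) :=
  Lgr Lrot94 (Lpe (K22.f187686 IH) (Lpr_gt (f352459 IH) (Lpr_dt (f345464 IH) (Lpr_gt (f357662 IH) (Lpe (K25.f356656 IH) (Lpr_cf (K25.f356499 IH) (Lpe (K22.f187263 IH) (Lpr_gf (K25.f316535 IH) (Lpe (f42368 IH) (Lpn (LP (LK LD1_c19 LD2_c3 LD3_c58))))))))))))
theorem f187685 : Led Lsl_dt (LP (LK LD1_c19 LD2_c2 LD3_c61)) = (LP (LK LD1_c10 LD2_c30 LD3_c42)) :=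
  Lre_d IH (LK LD1_c19 LD2_c2 LD3_c61) (LK LD1_c10 LD2_c30 LD3_c42) Lrfl Lrfl
theorem f315467 : Led Lsl_gf (LP (LK LD1_c25 LD2_c6 LD3_c45)) = (LP (LK LD1_c15 LD2_c22 LD3_c16)) :=
  Lgr Lrot47 (Lpr_gt (K23.f315465 IH) (Lpe (K18.f297903 IH) (Lpr_ff (K18.f297901 IH) (Lpn (LP (LK LD1_c15 LD2_c22 LD3_c16))))))
theorem f346446 : Led Lsl_gt (LP (LK LD1_c17 LD2_c36 LD3_c5)) = (LP (LK LD1_c11 LD2_c4 LD3_c25)) :=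
  Lgr Lrot137 (Lpr_ef (K23.f346437 IH) (Lpr_dt (K23.f227069 IH) (Lpr_gf (f315467 IH) (Lpe (K18.f200717 IH) (Lpr_et (K18.f200716 IH) (Lpe (K15.f243960 IH) (Lpe (K15.f244012 IH) (Lpr_dt (K22.f187937 IH) (Lpe (K25.f170831 IH) (Lpe (K25.f315646 IH) (Lpn (LP (LK LD1_c11 LD2_c4 LD3_c25)))))))))))))
theorem f356561 : Led Lsl_gt (LP (LK LD1_c10 LD2_c30 LD3_c42)) = (LP (LK LD1_c16 LD2_c38 LD3_c26)) :=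
  Lgr Lrot149 (Lpr_cf (K22.f187683 IH) (Lpe (K25.f339858 IH) (Lpe (K25.f315613 IH) (Lpr_ct (K25.f189374 IH) (Lpe (f346446 IH) (Lpr_cf (K25.f346435 IH) (Lpr_bt (K15.f42436 IH) (Lpe (K25.f356527 IH) (Lpr_bf (K25.f356554 IH) (Lpr_ct (K25.f231374 IH) (Lpn (LP (LK LD1_c16 LD2_c38 LD3_c26)))))))))))))
theorem f305403 : Led Lsl_ct (LP (LK LD1_c16 LD2_c38 LD3_c26)) = (LP (LK LD1_c8 LD2_c53 LD3_c51)) :=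
  Lre_c IH (LK LD1_c16 LD2_c38 LD3_c26) (LK LD1_c8 LD2_c53 LD3_c51) Lrfl Lrfl
theorem f284257 : Led Lsl_ct (LP (LK LD1_c26 LD2_c36 LD3_c23)) = (LP (LK LD1_c19 LD2_c8 LD3_c43)) :=
  Lgr Lrot59 (Lpr_cf (K17.f284255 IH) (Lpn (LP (LK LD1_c19 LD2_c8 LD3_c43))))
theorem f42383 : Led Lsl_ct (LP (LK LD1_c19 LD2_c3 LD3_c58)) = (LP (LK LD1_c28 LD2_c30 LD3_c13)) :=
  Lre_c IH (LK LD1_c19 LD2_c3 LD3_c58) (LK LD1_c28 LD2_c30 LD3_c13) Lrfl Lrfl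
theorem f357666 : Led Lsl_gf (LP (LK LD1_c26 LD2_c36 LD3_c23)) = (LP (LK LD1_c28 LD2_c30 LD3_c13)) :=
  Lgr Lrot104 (Lpr_ct (f284257 IH) (Lpe (K17.f198982 IH) (Lpe (K16.f198978 IH) (Lpe (K21.f305401 IH) (Lpe (f305403 IH) (Lpe (f356561 IH) (Lpe (f187685 IH) (Lpr_gt (f357664 IH) (Lpr_ct (f42383 IH) (Lpn (LP (LK LD1_c28 LD2_c30 LD3_c13))))))))))))
theorem f357671 : Led Lsl_dt (LP (LK LD1_c26 LD2_c36 LD3_c30)) = (LP (LK LD1_c28 LD2_c30 LD3_c13)) :=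
  Lgr Lrot57 (Lpe (K25.f321486 IH) (Lpe (K19.f42400 IH) (Lpr_gt (f356016 IH) (Lpr_dt (f356015 IH) (Lpr_gt (K25.f329695 IH) (Lpr_dt (K25.f284315 IH) (Lpe (K17.f284253 IH) (Lpe (K17.f284254 IH) (Lpr_gf (f357666 IH) (Lpn (LP (LK LD1_c28 LD2_c30 LD3_c13))))))))))))
theorem f357679 : Led Lsl_df (LP (LK LD1_c26 LD2_c36 LD3_c30)) = (LP (LK LD1_c28 LD2_c30 LD3_c13)) :=
  Lgr Lrot38 (Lpr_dt (f357671 IH) (Lpn (LP (LK LD1_c28 LD2_c30 LD3_c13))))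
theorem f284347 : Led Lsl_af (LP (LK LD1_c26 LD2_c36 LD3_c23)) = (LP (LK LD1_c28 LD2_c39 LD3_c27)) :=
  Lgr Lrot117 (Lpr_dt (K17.f284254 IH) (Lpr_at (K17.f284339 IH) (Lpe (K25.f284329 IH) (Lpn (LP (LK LD1_c28 LD2_c39 LD3_c27))))))
theorem f357669 : Led Lsl_gt (LP (LK LD1_c26 LD2_c36 LD3_c44)) = (LP (LK LD1_c28 LD2_c30 LD3_c13)) :=
  Lgr Lrot5 (Lpr_ft (K17.f284297 IH) (Lpe (f284347 IH) (Lpr_gf (f357666 IH) (Lpn (LP (LK LD1_c28 LD2_c30 LD3_c13))))))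
theorem f357692 : Led Lsl_cf (LP (LK LD1_c19 LD2_c13 LD3_c57)) = (LP (LK LD1_c26 LD2_c36 LD3_c20)) :=
  Lgr Lrot166 (Lpr_gt (f356583 IH) (Lpr_dt (K25.f356573 IH) (Lpe (K25.f356666 IH) (Lpr_dt (K25.f321488 IH) (Lpr_ct (K25.f321492 IH) (Lpr_df (f357679 IH) (Lpe (f357669 IH) (Lpr_df (K17.f284402 IH) (Lpr_gf (K25.f284436 IH) (Lpn (LP (LK LD1_c26 LD2_c36 LD3_c20))))))))))))
theorem f264571 : Led Lsl_ct (LP (LK LD1_c4 LD2_c28 LD3_c61)) = (LP (LK LD1_c8 LD2_c56 LD3_c21)) :=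
  Lre_c IH (LK LD1_c4 LD2_c28 LD3_c61) (LK LD1_c8 LD2_c56 LD3_c21) Lrfl Lrfl
theorem f264578 : Led Lsl_dt (LP (LK LD1_c8 LD2_c56 LD3_c21)) = (LP (LK LD1_c16 LD2_c43 LD3_c61)) :=
  Lre_d IH (LK LD1_c8 LD2_c56 LD3_c21) (LK LD1_c16 LD2_c43 LD3_c61) Lrfl Lrfl
theorem f356744 : Led Lsl_ct (LP (LK LD1_c26 LD2_c42 LD3_c39)) = (LP (LK LD1_c16 LD2_c43 LD3_c61)) :=
  Lre_c IH (LK LD1_c26 LD2_c42 LD3_c39) (LK LD1_c16 LD2_c43 LD3_c61) Lrfl Lrfl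
theorem f321494 : Led Lsl_dt (LP (LK LD1_c19 LD2_c3 LD3_c53)) = (LP (LK LD1_c10 LD2_c31 LD3_c6)) :=
  Lre_d IH (LK LD1_c19 LD2_c3 LD3_c53) (LK LD1_c10 LD2_c31 LD3_c6) Lrfl Lrfl
theorem f356745 : Led Lsl_gf (LP (LK LD1_c26 LD2_c42 LD3_c39)) = (LP (LK LD1_c26 LD2_c36 LD3_c23)) :=
  Lgr Lrot104 (Lpr_ct (f356744 IH) (Lpe (f264578 IH) (Lpe (f264571 IH) (Lpr_gf (K25.f356736 IH) (Lpe (K19.f42289 IH) (Lpe (K25.f42293 IH) (Lpe (f321494 IH) (Lpr_gt (K25.f356454 IH) (Lpe (K17.f284255 IH) (Lpn (LP (LK LD1_c26 LD2_c36 LD3_c23))))))))))))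
theorem f357697 : Led Lsl_gf (LP (LK LD1_c19 LD2_c2 LD3_c61)) = (LP (LK LD1_c16 LD2_c43 LD3_c61)) :=
  Lgr Lrot104 (Lpr_ct (K22.f187705 IH) (Lpr_df (f356602 IH) (Lpe (K25.f356328 IH) (Lpe (f356583 IH) (Lpr_cf (f357692 IH) (Lpe (K25.f284435 IH) (Lpe (K17.f284254 IH) (Lpe (f356745 IH) (Lpr_ct (f356744 IH) (Lpn (LP (LK LD1_c16 LD2_c43 LD3_c61))))))))))))
theorem f357712 : Led Lsl_gt (LP (LK LD1_c15 LD2_c1 LD3_c15)) = (LP (LK LD1_c8 LD2_c56 LD3_c21)) :=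
  Lgr Lrot94 (Lpe (K25.f187262 IH) (Lpr_gt (K24.f350659 IH) (Lpe (K24.f189223 IH) (Lpe (K24.f350653 IH) (Lpe (K10.f191748 IH) (Lpe (K22.f187676 IH) (Lpe (f187685 IH) (Lpr_gf (f357697 IH) (Lpe (f264578 IH) (Lpn (LP (LK LD1_c8 LD2_c56 LD3_c21))))))))))))
theorem f264580 : Led Lsl_ct (LP (LK LD1_c8 LD2_c56 LD3_c21)) = (LP (LK LD1_c4 LD2_c28 LD3_c61)) :=
  Lre_c IH (LK LD1_c8 LD2_c56 LD3_c21) (LK LD1_c4 LD2_c28 LD3_c61) Lrfl Lrfl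
theorem f321489 : Led Lsl_ct (LP (LK LD1_c8 LD2_c53 LD3_c49)) = (LP (LK LD1_c4 LD2_c27 LD3_c56)) :=
  Lre_c IH (LK LD1_c8 LD2_c53 LD3_c49) (LK LD1_c4 LD2_c27 LD3_c56) Lrfl Lrfl
theorem f345454 : Led Lsl_dt (LP (LK LD1_c28 LD2_c39 LD3_c38)) = (LP (LK LD1_c19 LD2_c13 LD3_c32)) :=
  Lre_d IH (LK LD1_c28 LD2_c39 LD3_c38) (LK LD1_c19 LD2_c13 LD3_c32) Lrfl Lrfl
theorem f345455 : Led Lsl_ct (LP (LK LD1_c5 LD2_c23 LD3_c8)) = (LP (LK LD1_c10 LD2_c36 LD3_c49)) :=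
  Lre_c IH (LK LD1_c5 LD2_c23 LD3_c8) (LK LD1_c10 LD2_c36 LD3_c49) Lrfl Lrfl
theorem f352467 : Led Lsl_cf (LP (LK LD1_c8 LD2_c27 LD3_c43)) = (LP (LK LD1_c5 LD2_c23 LD3_c7)) :=
  Lgr Lrot14 (Lpe (K24.f189166 IH) (Lpe (K25.f350655 IH) (Lpe (K13.f213951 IH) (Lpr_gf (K25.f352461 IH) (Lpr_ct (K25.f351500 IH) (Lpr_gt (K25.f345373 IH) (Lpr_dt (K17.f284300 IH) (Lpr_gt (K17.f199053 IH) (Lpr_dt (K25.f199057 IH) (Lpn (LP (LK LD1_c5 LD2_c23 LD3_c7))))))))))))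
theorem f352450 : Led Lsl_ct (LP (LK LD1_c19 LD2_c14 LD3_c7)) = (LP (LK LD1_c28 LD2_c39 LD3_c30)) :=
  Lgr Lrot7 (Lpe (K25.f213514 IH) (Lpe (K22.f199049 IH) (Lpe (K25.f199001 IH) (Lpe (K22.f325801 IH) (Lpe (K25.f311112 IH) (Lpe (K25.f350657 IH) (Lpe (K25.f336852 IH) (Lpr_gt (K25.f352441 IH) (Lpr_dt (K25.f352444 IH) (Lpn (LP (LK LD1_c28 LD2_c39 LD3_c30))))))))))))
theorem f357660 : Led Lsl_dt (LP (LK LD1_c10 LD2_c36 LD3_c49)) = (LP (LK LD1_c15 LD2_c35 LD3_c2)) :=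
  Lgr Lrot173 (Lpe (f345455 IH) (Lpe (K25.f345439 IH) (Lpe (K25.f345446 IH) (Lpe (f345454 IH) (Lpr_cf (f357636 IH) (Lpe (f357625 IH) (Lpe (K24.f189230 IH) (Lpr_df (K24.f189223 IH) (Lpr_cf (f352467 IH) (Lpe (K25.f199057 IH) (Lpe (K25.f199055 IH) (Lpe (K25.f352443 IH) (Lpe (f352450 IH) (Lpe (K25.f213514 IH) (Lpr_cf (K25.f351489 IH) (Lpn (LP (LK LD1_c15 LD2_c35 LD3_c2))))))))))))))))))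
theorem f357718 : Led Lsl_gf (LP (LK LD1_c7 LD2_c57 LD3_c50)) = (LP (LK LD1_c10 LD2_c36 LD3_c49)) :=
  Lgr Lrot147 (Lpr_ct (K25.f187262 IH) (Lpr_gt (f357712 IH) (Lpr_ct (f264580 IH) (Lpr_df (K25.f356734 IH) (Lpe (f321489 IH) (Lpr_gf (K25.f356666 IH) (Lpe (K25.f356571 IH) (Lpr_gf (K25.f351495 IH) (Lpe (f357660 IH) (Lpn (LP (LK LD1_c10 LD2_c36 LD3_c49))))))))))))
theorem f335594 : Led Lsl_bt (LP (LK LD1_c2 LD2_c40 LD3_c23)) = (LP (LK LD1_c1 LD2_c17 LD3_c8)) :=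
  Lre_b IH (LK LD1_c2 LD2_c40 LD3_c23) (LK LD1_c1 LD2_c17 LD3_c8) Lrfl Lrfl
theorem f357724 : Led Lsl_bf (LP (LK LD1_c10 LD2_c36 LD3_c49)) = (LP (LK LD1_c15 LD2_c35 LD3_c3)) :=
  Lgr Lrot165 (Lpe (f357718 IH) (Lpr_ct (K25.f187262 IH) (Lpr_gt (f357712 IH) (Lpe (f264571 IH) (Lpr_bt (K25.f264542 IH) (Lpe (K22.f335657 IH) (Lpe (f335594 IH) (Lpr_ct (K25.f264494 IH) (Lpr_gt (K25.f264495 IH) (Lpe (K25.f347928 IH) (Lpn (LP (LK LD1_c15 LD2_c35 LD3_c3)))))))))))))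
theorem f357726 : Led Lsl_bt (LP (LK LD1_c10 LD2_c36 LD3_c49)) = (LP (LK LD1_c15 LD2_c35 LD3_c3)) :=
  Lgr Lrot127 (Lpr_bf (f357724 IH) (Lpn (LP (LK LD1_c15 LD2_c35 LD3_c3))))
theorem f345456 : Led Lsl_ct (LP (LK LD1_c10 LD2_c36 LD3_c49)) = (LP (LK LD1_c5 LD2_c23 LD3_c8)) :=
  Lre_c IH (LK LD1_c10 LD2_c36 LD3_c49) (LK LD1_c5 LD2_c23 LD3_c8) Lrfl Lrfl
theorem f322647 : Led Lsl_cf (LP (LK LD1_c25 LD2_c15 LD3_c32)) = (LP (LK LD1_c28 LD2_c28 LD3_c59)) :=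
  Lgr Lrot11 (Lpr_ct (K20.f322643 IH) (Lpn (LP (LK LD1_c28 LD2_c28 LD3_c59))))
theorem f289028 : Led Lsl_ct (LP (LK LD1_c10 LD2_c32 LD3_c31)) = (LP (LK LD1_c19 LD2_c5 LD3_c36)) :=
  Lre_c IH (LK LD1_c10 LD2_c32 LD3_c31) (LK LD1_c19 LD2_c5 LD3_c36) Lrfl Lrfl
theorem f325399 : Led Lsl_gf (LP (LK LD1_c28 LD2_c28 LD3_c59)) = (LP (LK LD1_c19 LD2_c5 LD3_c36)) :=
  Lgr Lrot104 (Lpe (f322647 IH) (Lpe (K20.f237964 IH) (Lpr_cf (K21.f325397 IH) (Lpe (K21.f184298 IH) (Lpe (K20.f184297 IH) (Lpe (K20.f184270 IH) (Lpe (K20.f258258 IH) (Lpr_gt (K22.f322676 IH) (Lpr_ct (f289028 IH) (Lpn (LP (LK LD1_c19 LD2_c5 LD3_c36))))))))))))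
theorem f300899 : Led Lsl_dt (LP (LK LD1_c10 LD2_c38 LD3_c16)) = (LP (LK LD1_c5 LD2_c23 LD3_c49)) :=
  Lre_d IH (LK LD1_c10 LD2_c38 LD3_c16) (LK LD1_c5 LD2_c23 LD3_c49) Lrfl Lrfl
theorem f325401 : Led Lsl_gt (LP (LK LD1_c19 LD2_c4 LD3_c17)) = (LP (LK LD1_c10 LD2_c38 LD3_c16)) :=
  Lgr Lrot49 (Lpe (K20.f277846 IH) (Lpr_gf (f325399 IH) (Lpe (f289028 IH) (Lpe (K21.f299464 IH) (Lpr_dt (K16.f184363 IH) (Lpr_gt (K18.f300895 IH) (Lpr_dt (K18.f300884 IH) (Lpe (K18.f300898 IH) (Lpe (f300899 IH) (Lpn (LP (LK LD1_c10 LD2_c38 LD3_c16))))))))))))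
theorem f300886 : Led Lsl_dt (LP (LK LD1_c5 LD2_c23 LD3_c49)) = (LP (LK LD1_c10 LD2_c38 LD3_c16)) :=
  Lre_d IH (LK LD1_c5 LD2_c23 LD3_c49) (LK LD1_c10 LD2_c38 LD3_c16) Lrfl Lrfl
theorem f345442 : Led Lsl_dt (LP (LK LD1_c5 LD2_c23 LD3_c8)) = (LP (LK LD1_c10 LD2_c36 LD3_c50)) :=
  Lre_d IH (LK LD1_c5 LD2_c23 LD3_c8) (LK LD1_c10 LD2_c36 LD3_c50) Lrfl Lrfl
theorem f345452 : Led Lsl_gt (LP (LK LD1_c10 LD2_c31 LD3_c8)) = (LP (LK LD1_c5 LD2_c23 LD3_c8)) :=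
  Lgr Lrot137 (Lpe (K18.f303234 IH) (Lpr_dt (f300886 IH) (Lpe (f325401 IH) (Lpe (K20.f277846 IH) (Lpr_et (K20.f277844 IH) (Lpr_gf (K21.f322634 IH) (Lpe (K14.f253361 IH) (Lpr_dt (K17.f284300 IH) (Lpr_gf (K25.f345440 IH) (Lpe (f345442 IH) (Lpn (LP (LK LD1_c5 LD2_c23 LD3_c8)))))))))))))
theorem f318197 : Led Lsl_gt (LP (LK LD1_c6 LD2_c4 LD3_c44)) = (LP (LK LD1_c5 LD2_c24 LD3_c48)) :=
  Lgr Lrot5 (Lpr_ft (K20.f42222 IH) (Lpr_at (K20.f318187 IH) (Lpe (K22.f42635 IH) (Lpn (LP (LK LD1_c5 LD2_c24 LD3_c48))))))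
theorem f44665 : Led Lsl_dt (LP (LK LD1_c5 LD2_c21 LD3_c36)) = (LP (LK LD1_c5 LD2_c24 LD3_c48)) :=
  Lre_d IH (LK LD1_c5 LD2_c21 LD3_c36) (LK LD1_c5 LD2_c24 LD3_c48) Lrfl Lrfl
theorem f318201 : Led Lsl_et (LP (LK LD1_c5 LD2_c21 LD3_c36)) = (LP (LK LD1_c2 LD2_c38 LD3_c3)) :=
  Lre_e IH (LK LD1_c5 LD2_c21 LD3_c36) (LK LD1_c2 LD2_c38 LD3_c3) Lrfl Lrfl
theorem f330464 : Led Lsl_gf (LP (LK LD1_c5 LD2_c20 LD3_c34)) = (LP (LK LD1_c2 LD2_c38 LD3_c3)) :=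
  Lgr Lrot141 (Lpe (K18.f303243 IH) (Lpr_dt (K21.f300888 IH) (Lpe (K22.f300882 IH) (Lpe (K20.f258258 IH) (Lpr_et (K20.f258257 IH) (Lpr_gt (K23.f330461 IH) (Lpr_dt (K23.f42220 IH) (Lpr_gt (f318197 IH) (Lpe (f44665 IH) (Lpr_et (f318201 IH) (Lpn (LP (LK LD1_c2 LD2_c38 LD3_c3)))))))))))))
theorem f356280 : Led Lsl_bt (LP (LK LD1_c4 LD2_c27 LD3_c55)) = (LP (LK LD1_c2 LD2_c38 LD3_c3)) :=
  Lgr Lrot95 (Lpr_df (K22.f42354 IH) (Lpr_bf (K25.f356276 IH) (Lpe (K12.f199037 IH) (Lpn (LP (LK LD1_c2 LD2_c38 LD3_c3))))))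
theorem f357766 : Led Lsl_gf (LP (LK LD1_c8 LD2_c53 LD3_c48)) = (LP (LK LD1_c16 LD2_c13 LD3_c37)) :=
  Lgr Lrot126 (Lpe (K25.f42309 IH) (Lpr_bt (f356280 IH) (Lpe (f330464 IH) (Lpr_ct (K18.f42439 IH) (Lpr_gt (f345452 IH) (Lpe (f345456 IH) (Lpr_bt (f357726 IH) (Lpe (K23.f232162 IH) (Lpe (K24.f187198 IH) (Lpr_ct (K25.f187200 IH) (Lpn (LP (LK LD1_c16 LD2_c13 LD3_c37)))))))))))))
theorem f42304 : Led Lsl_ct (LP (LK LD1_c8 LD2_c53 LD3_c48)) = (LP (LK LD1_c4 LD2_c27 LD3_c55)) :=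
  Lre_c IH (LK LD1_c8 LD2_c53 LD3_c48) (LK LD1_c4 LD2_c27 LD3_c55) Lrfl Lrfl
theorem f42201 : Led Lsl_ct (LP (LK LD1_c6 LD2_c4 LD3_c42)) = (LP (LK LD1_c11 LD2_c52 LD3_c59)) :=
  Lre_c IH (LK LD1_c6 LD2_c4 LD3_c42) (LK LD1_c11 LD2_c52 LD3_c59) Lrfl Lrfl
theorem f42305 : Led Lsl_ef (LP (LK LD1_c8 LD2_c53 LD3_c48)) = (LP (LK LD1_c11 LD2_c52 LD3_c59)) :=
  Lgr Lrot28 (Lpr_ct (f42304 IH) (Lpr_et (K21.f42302 IH) (Lpr_ct (f42201 IH) (Lpn (LP (LK LD1_c11 LD2_c52 LD3_c59))))))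
theorem f191898 : Led Lsl_et (LP (LK LD1_c4 LD2_c28 LD3_c29)) = (LP (LK LD1_c2 LD2_c11 LD3_c19)) :=
  Lre_e IH (LK LD1_c4 LD2_c28 LD3_c29) (LK LD1_c2 LD2_c11 LD3_c19) Lrfl Lrfl
theorem f187469 : Led Lsl_dt (LP (LK LD1_c4 LD2_c28 LD3_c29)) = (LP (LK LD1_c8 LD2_c55 LD3_c3)) :=
  Lre_d IH (LK LD1_c4 LD2_c28 LD3_c29) (LK LD1_c8 LD2_c55 LD3_c3) Lrfl Lrfl
theorem f187440 : Led Lsl_gt (LP (LK LD1_c16 LD2_c41 LD3_c6)) = (LP (LK LD1_c8 LD2_c55 LD3_c3)) :=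
  Lre_g IH (LK LD1_c16 LD2_c41 LD3_c6) (LK LD1_c8 LD2_c55 LD3_c3) Lrfl Lrfl
theorem f357772 : Led Lsl_dt (LP (LK LD1_c11 LD2_c52 LD3_c59)) = (LP (LK LD1_c16 LD2_c41 LD3_c6)) :=
  Lgr Lrot136 (Lpe (f42305 IH) (Lpr_gf (f357766 IH) (Lpe (K23.f191846 IH) (Lpr_dt (K14.f191844 IH) (Lpe (K14.f187451 IH) (Lpe (K14.f187450 IH) (Lpe (K9.f173159 IH) (Lpe (f191898 IH) (Lpr_dt (f187469 IH) (Lpe (f187440 IH) (Lpn (LP (LK LD1_c16 LD2_c41 LD3_c6)))))))))))))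
theorem f41628 : Led Lsl_et (LP (LK LD1_c2 LD2_c11 LD3_c22)) = (LP (LK LD1_c4 LD2_c28 LD3_c40)) :=
  Lre_e IH (LK LD1_c2 LD2_c11 LD3_c22) (LK LD1_c4 LD2_c28 LD3_c40) Lrfl Lrfl
theorem f41629 : Led Lsl_ft (LP (LK LD1_c1 LD2_c2 LD3_c40)) = (LP (LK LD1_c2 LD2_c11 LD3_c22)) :=
  Lre_f IH (LK LD1_c1 LD2_c2 LD3_c40) (LK LD1_c2 LD2_c11 LD3_c22) Lrfl Lrfl
theorem f41630 : Led Lsl_et (LP (LK LD1_c6 LD2_c5 LD3_c25)) = (LP (LK LD1_c2 LD2_c58 LD3_c49)) :=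
  Lre_e IH (LK LD1_c6 LD2_c5 LD3_c25) (LK LD1_c2 LD2_c58 LD3_c49) Lrfl Lrfl
theorem f41631 : Led Lsl_ft (LP (LK LD1_c2 LD2_c58 LD3_c49)) = (LP (LK LD1_c1 LD2_c25 LD3_c6)) :=
  Lre_f IH (LK LD1_c2 LD2_c58 LD3_c49) (LK LD1_c1 LD2_c25 LD3_c6) Lrfl Lrfl
theorem f41632 : Led Lsl_ef (LP (LK LD1_c1 LD2_c2 LD3_c40)) = (LP (LK LD1_c1 LD2_c25 LD3_c6)) :=
  Lgr Lrot21 (Lpr_ft (f41629 IH) (Lpr_et (f41628 IH) (Lpr_ft (K1.f41616 IH) (Lpr_et (f41630 IH) (Lpr_ft (f41631 IH) (Lpn (LP (LK LD1_c1 LD2_c25 LD3_c6))))))))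
theorem f274180 : Led Lsl_et (LP (LK LD1_c8 LD2_c13 LD3_c15)) = (LP (LK LD1_c15 LD2_c27 LD3_c48)) :=
  Lre_e IH (LK LD1_c8 LD2_c13 LD3_c15) (LK LD1_c15 LD2_c27 LD3_c48) Lrfl Lrfl
theorem f357776 : Led Lsl_gf (LP (LK LD1_c11 LD2_c52 LD3_c59)) = (LP (LK LD1_c15 LD2_c27 LD3_c48)) :=
  Lgr Lrot138 (Lpr_dt (f357772 IH) (Lpr_gt (f187440 IH) (Lpe (f187469 IH) (Lpr_et (f191898 IH) (Lpr_gt (K9.f173159 IH) (Lpr_ef (f41632 IH) (Lpr_dt (K16.f187485 IH) (Lpr_gt (K16.f187486 IH) (Lpe (K16.f274130 IH) (Lpr_et (f274180 IH) (Lpn (LP (LK LD1_c15 LD2_c27 LD3_c48)))))))))))))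
theorem f42202 : Led Lsl_gt (LP (LK LD1_c11 LD2_c52 LD3_c59)) = (LP (LK LD1_c20 LD2_c56 LD3_c14)) :=
  Lre_g IH (LK LD1_c11 LD2_c52 LD3_c59) (LK LD1_c20 LD2_c56 LD3_c14) Lrfl Lrfl
theorem f360358 : Led Lsl_af (LP (LK LD1_c20 LD2_c56 LD3_c14)) = (LP (LK LD1_c19 LD2_c19 LD3_c14)) :=
  Lgr Lrot31 (Lpe (f42202 IH) (Lpr_gf (f357776 IH) (Lpr_ft (f360354 IH) (Lpn (LP (LK LD1_c19 LD2_c19 LD3_c14))))))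
theorem f223921 : Led Lsl_ct (LP (LK LD1_c8 LD2_c11 LD3_c2)) = (LP (LK LD1_c15 LD2_c24 LD3_c31)) :=
  Lre_c IH (LK LD1_c8 LD2_c11 LD3_c2) (LK LD1_c15 LD2_c24 LD3_c31) Lrfl Lrfl
theorem f359958 : Led Lsl_at (LP (LK LD1_c15 LD2_c24 LD3_c31)) = (LP (LK LD1_c15 LD2_c27 LD3_c48)) :=
  Lgr Lrot107 (Lpe (f223921 IH) (Lpr_af (f359956 IH) (Lpe (K25.f220785 IH) (Lpn (LP (LK LD1_c15 LD2_c27 LD3_c48))))))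
theorem f360364 : Led Lsl_ft (LP (LK LD1_c20 LD2_c56 LD3_c14)) = (LP (LK LD1_c15 LD2_c24 LD3_c31)) :=
  Lgr Lrot101 (Lpr_af (f360358 IH) (Lpe (f360354 IH) (Lpe (f359958 IH) (Lpn (LP (LK LD1_c15 LD2_c24 LD3_c31))))))
theorem f360370 : Led Lsl_gt (LP (LK LD1_c20 LD2_c56 LD3_c14)) = (LP (LK LD1_c11 LD2_c52 LD3_c60)) :=
  Lgr Lrot5 (Lpr_ft (f360364 IH) (Lpr_at (f359958 IH) (Lpe (K25.f356754 IH) (Lpn (LP (LK LD1_c11 LD2_c52 LD3_c60))))))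
theorem f223930 : Led Lsl_ct (LP (LK LD1_c15 LD2_c24 LD3_c31)) = (LP (LK LD1_c8 LD2_c11 LD3_c2)) :=
  Lre_c IH (LK LD1_c15 LD2_c24 LD3_c31) (LK LD1_c8 LD2_c11 LD3_c2) Lrfl Lrfl
theorem f360366 : Led Lsl_cf (LP (LK LD1_c20 LD2_c56 LD3_c14)) = (LP (LK LD1_c15 LD2_c24 LD3_c34)) :=
  Lgr Lrot108 (Lpr_ft (f360364 IH) (Lpr_ct (f223930 IH) (Lpr_ft (f223925 IH) (Lpn (LP (LK LD1_c15 LD2_c24 LD3_c34))))))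
theorem f264562 : Led Lsl_bt (LP (LK LD1_c5 LD2_c35 LD3_c3)) = (LP (LK LD1_c11 LD2_c2 LD3_c21)) :=
  Lre_b IH (LK LD1_c5 LD2_c35 LD3_c3) (LK LD1_c11 LD2_c2 LD3_c21) Lrfl Lrfl
theorem f356716 : Led Lsl_bt (LP (LK LD1_c6 LD2_c4 LD3_c43)) = (LP (LK LD1_c2 LD2_c58 LD3_c57)) :=
  Lgr Lrot119 (Lpr_ef (K25.f356714 IH) (Lpe (f264562 IH) (Lpr_ef (K22.f264554 IH) (Lpn (LP (LK LD1_c2 LD2_c58 LD3_c57))))))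
theorem f264508 : Led Lsl_bt (LP (LK LD1_c2 LD2_c58 LD3_c52)) = (LP (LK LD1_c1 LD2_c25 LD3_c11)) :=
  Lre_b IH (LK LD1_c2 LD2_c58 LD3_c52) (LK LD1_c1 LD2_c25 LD3_c11) Lrfl Lrfl
theorem f258708 : Led Lsl_ct (LP (LK LD1_c2 LD2_c58 LD3_c52)) = (LP (LK LD1_c6 LD2_c5 LD3_c32)) :=
  Lre_c IH (LK LD1_c2 LD2_c58 LD3_c52) (LK LD1_c6 LD2_c5 LD3_c32) Lrfl Lrfl
theorem f357720 : Led Lsl_df (LP (LK LD1_c10 LD2_c36 LD3_c49)) = (LP (LK LD1_c15 LD2_c35 LD3_c2)) :=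
  Lgr Lrot155 (Lpe (f357718 IH) (Lpr_ct (K25.f187262 IH) (Lpr_gt (f357712 IH) (Lpr_ct (f264580 IH) (Lpe (K25.f356695 IH) (Lpe (f321489 IH) (Lpr_gf (K25.f356666 IH) (Lpe (K25.f356571 IH) (Lpr_gf (K25.f351495 IH) (Lpn (LP (LK LD1_c15 LD2_c35 LD3_c2))))))))))))
theorem f192269 : Led Lsl_gt (LP (LK LD1_c8 LD2_c13 LD3_c16)) = (LP (LK LD1_c15 LD2_c27 LD3_c49)) :=
  Lre_g IH (LK LD1_c8 LD2_c13 LD3_c16) (LK LD1_c15 LD2_c27 LD3_c49) Lrfl Lrfl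
theorem f358016 : Led Lsl_ef (LP (LK LD1_c15 LD2_c27 LD3_c49)) = (LP (LK LD1_c15 LD2_c35 LD3_c2)) :=
  Lgr Lrot17 (Lpe (f192269 IH) (Lpe (K22.f192268 IH) (Lpr_dt (K14.f183628 IH) (Lpr_gf (K10.f192221 IH) (Lpe (K10.f28660 IH) (Lpe (K10.f28673 IH) (Lpe (K24.f54093 IH) (Lpe (K10.f187256 IH) (Lpr_gf (f357718 IH) (Lpr_df (f357720 IH) (Lpn (LP (LK LD1_c15 LD2_c35 LD3_c2)))))))))))))
theorem f358020 : Led Lsl_et (LP (LK LD1_c15 LD2_c27 LD3_c49)) = (LP (LK LD1_c15 LD2_c35 LD3_c2)) :=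
  Lgr Lrot87 (Lpr_ef (f358016 IH) (Lpn (LP (LK LD1_c15 LD2_c35 LD3_c2))))
theorem f358022 : Led Lsl_bf (LP (LK LD1_c15 LD2_c27 LD3_c49)) = (LP (LK LD1_c10 LD2_c24 LD3_c6)) :=
  Lgr Lrot96 (Lpr_et (f358020 IH) (Lpr_bt (K25.f199755 IH) (Lpe (K25.f232166 IH) (Lpn (LP (LK LD1_c10 LD2_c24 LD3_c6))))))
theorem f360373 : Led Lsl_gf (LP (LK LD1_c15 LD2_c24 LD3_c34)) = (LP (LK LD1_c15 LD2_c27 LD3_c49)) :=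
  Lgr Lrot181 (Lpe (f360366 IH) (Lpr_gt (f360370 IH) (Lpe (K25.f42251 IH) (Lpr_bt (f356716 IH) (Lpr_gt (K22.f181198 IH) (Lpe (f264508 IH) (Lpr_ct (f258708 IH) (Lpr_gt (K23.f257813 IH) (Lpe (K25.f347880 IH) (Lpe (f358022 IH) (Lpn (LP (LK LD1_c15 LD2_c27 LD3_c49)))))))))))))
theorem f223944 : Led Lsl_bt (LP (LK LD1_c8 LD2_c11 LD3_c15)) = (LP (LK LD1_c15 LD2_c24 LD3_c34)) :=
  Lre_b IH (LK LD1_c8 LD2_c11 LD3_c15) (LK LD1_c15 LD2_c24 LD3_c34) Lrfl Lrfl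
theorem f223978 : Led Lsl_ct (LP (LK LD1_c8 LD2_c11 LD3_c15)) = (LP (LK LD1_c15 LD2_c24 LD3_c56)) :=
  Lre_c IH (LK LD1_c8 LD2_c11 LD3_c15) (LK LD1_c15 LD2_c24 LD3_c56) Lrfl Lrfl
theorem f360375 : Led Lsl_gt (LP (LK LD1_c15 LD2_c24 LD3_c56)) = (LP (LK LD1_c18 LD2_c17 LD3_c50)) :=
  Lgr Lrot65 (Lpe (f223978 IH) (Lpr_bt (f223944 IH) (Lpr_gf (f360373 IH) (Lpr_bf (f358022 IH) (Lpr_ct (K25.f347880 IH) (Lpe (K23.f257813 IH) (Lpe (f258708 IH) (Lpe (K21.f192541 IH) (Lpe (K25.f352561 IH) (Lpr_ct (K25.f211372 IH) (Lpn (LP (LK LD1_c18 LD2_c17 LD3_c50)))))))))))))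
theorem f211370 : Led Lsl_ct (LP (LK LD1_c18 LD2_c17 LD3_c50)) = (LP (LK LD1_c10 LD2_c0 LD3_c47)) :=
  Lre_c IH (LK LD1_c18 LD2_c17 LD3_c50) (LK LD1_c10 LD2_c0 LD3_c47) Lrfl Lrfl
theorem f223132 : Led Lsl_et (LP (LK LD1_c7 LD2_c58 LD3_c21)) = (LP (LK LD1_c3 LD2_c58 LD3_c28)) :=
  Lre_e IH (LK LD1_c7 LD2_c58 LD3_c21) (LK LD1_c3 LD2_c58 LD3_c28) Lrfl Lrfl
theorem f223133 : Led Lsl_dt (LP (LK LD1_c7 LD2_c58 LD3_c21)) = (LP (LK LD1_c15 LD2_c2 LD3_c27)) :=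
  Lre_d IH (LK LD1_c7 LD2_c58 LD3_c21) (LK LD1_c15 LD2_c2 LD3_c27) Lrfl Lrfl
theorem f223134 : Led Lsl_gt (LP (LK LD1_c24 LD2_c51 LD3_c8)) = (LP (LK LD1_c15 LD2_c2 LD3_c27)) :=
  Lre_g IH (LK LD1_c24 LD2_c51 LD3_c8) (LK LD1_c15 LD2_c2 LD3_c27) Lrfl Lrfl
theorem f194338 : Led Lsl_et (LP (LK LD1_c4 LD2_c6 LD3_c24)) = (LP (LK LD1_c8 LD2_c13 LD3_c24)) :=
  Lre_e IH (LK LD1_c4 LD2_c6 LD3_c24) (LK LD1_c8 LD2_c13 LD3_c24) Lrfl Lrfl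
theorem f194339 : Led Lsl_gt (LP (LK LD1_c8 LD2_c13 LD3_c24)) = (LP (LK LD1_c15 LD2_c28 LD3_c7)) :=
  Lre_g IH (LK LD1_c8 LD2_c13 LD3_c24) (LK LD1_c15 LD2_c28 LD3_c7) Lrfl Lrfl
theorem f223138 : Led Lsl_df (LP (LK LD1_c24 LD2_c51 LD3_c8)) = (LP (LK LD1_c15 LD2_c28 LD3_c7)) :=
  Lgr Lrot135 (Lpr_gt (f223134 IH) (Lpe (f223133 IH) (Lpr_et (f223132 IH) (Lpr_gt (K12.f223086 IH) (Lpr_ef (K11.f48105 IH) (Lpr_dt (K12.f28665 IH) (Lpe (K16.f194331 IH) (Lpe (K16.f194337 IH) (Lpr_et (f194338 IH) (Lpr_gt (f194339 IH) (Lpn (LP (LK LD1_c15 LD2_c28 LD3_c7)))))))))))))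
theorem f223136 : Led Lsl_et (LP (LK LD1_c3 LD2_c58 LD3_c17)) = (LP (LK LD1_c7 LD2_c57 LD3_c60)) :=
  Lre_e IH (LK LD1_c3 LD2_c58 LD3_c17) (LK LD1_c7 LD2_c57 LD3_c60) Lrfl Lrfl
theorem f223137 : Led Lsl_gt (LP (LK LD1_c7 LD2_c57 LD3_c60)) = (LP (LK LD1_c15 LD2_c1 LD3_c40)) :=
  Lre_g IH (LK LD1_c7 LD2_c57 LD3_c60) (LK LD1_c15 LD2_c1 LD3_c40) Lrfl Lrfl
theorem f223147 : Led Lsl_ef (LP (LK LD1_c15 LD2_c1 LD3_c40)) = (LP (LK LD1_c15 LD2_c28 LD3_c7)) :=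
  Lgr Lrot17 (Lpe (f223137 IH) (Lpe (f223136 IH) (Lpr_dt (K15.f223135 IH) (Lpr_gf (K15.f223128 IH) (Lpe (K12.f48065 IH) (Lpe (K12.f223086 IH) (Lpe (f223132 IH) (Lpr_dt (f223133 IH) (Lpe (f223134 IH) (Lpr_df (f223138 IH) (Lpn (LP (LK LD1_c15 LD2_c28 LD3_c7)))))))))))))
theorem f223150 : Led Lsl_et (LP (LK LD1_c15 LD2_c1 LD3_c40)) = (LP (LK LD1_c15 LD2_c28 LD3_c7)) :=
  Lgr Lrot87 (Lpr_ef (f223147 IH) (Lpn (LP (LK LD1_c15 LD2_c28 LD3_c7))))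
theorem f223149 : Led Lsl_dt (LP (LK LD1_c15 LD2_c1 LD3_c40)) = (LP (LK LD1_c24 LD2_c49 LD3_c51)) :=
  Lre_d IH (LK LD1_c15 LD2_c1 LD3_c40) (LK LD1_c24 LD2_c49 LD3_c51) Lrfl Lrfl
theorem f194336 : Led Lsl_et (LP (LK LD1_c8 LD2_c13 LD3_c47)) = (LP (LK LD1_c4 LD2_c6 LD3_c36)) :=
  Lre_e IH (LK LD1_c8 LD2_c13 LD3_c47) (LK LD1_c4 LD2_c6 LD3_c36) Lrfl Lrfl
theorem f223154 : Led Lsl_gt (LP (LK LD1_c24 LD2_c49 LD3_c51)) = (LP (LK LD1_c15 LD2_c28 LD3_c56)) :=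
  Lgr Lrot112 (Lpe (f223149 IH) (Lpr_et (f223150 IH) (Lpe (f194339 IH) (Lpe (f194338 IH) (Lpr_dt (K16.f194337 IH) (Lpr_gf (K16.f194331 IH) (Lpe (K12.f28665 IH) (Lpe (K10.f194222 IH) (Lpe (f194336 IH) (Lpr_dt (K25.f187315 IH) (Lpn (LP (LK LD1_c15 LD2_c28 LD3_c56)))))))))))))
theorem f325080 : Led Lsl_gf (LP (LK LD1_c24 LD2_c49 LD3_c51)) = (LP (LK LD1_c27 LD2_c37 LD3_c8)) :=
  Lgr Lrot47 (Lpr_gt (f223154 IH) (Lpr_af (K21.f325067 IH) (Lpe (K21.f325066 IH) (Lpn (LP (LK LD1_c27 LD2_c37 LD3_c8))))))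
theorem f223153 : Led Lsl_dt (LP (LK LD1_c24 LD2_c49 LD3_c51)) = (LP (LK LD1_c15 LD2_c1 LD3_c40)) :=
  Lre_d IH (LK LD1_c24 LD2_c49 LD3_c51) (LK LD1_c15 LD2_c1 LD3_c40) Lrfl Lrfl
theorem f353736 : Led Lsl_cf (LP (LK LD1_c8 LD2_c53 LD3_c18)) = (LP (LK LD1_c15 LD2_c1 LD3_c40)) :=
  Lgr Lrot14 (Lpe (K24.f231256 IH) (Lpe (K25.f310750 IH) (Lpe (K24.f182859 IH) (Lpe (K25.f340111 IH) (Lpe (K25.f353725 IH) (Lpr_gt (K25.f353732 IH) (Lpr_dt (K25.f325082 IH) (Lpe (f325080 IH) (Lpr_dt (f223153 IH) (Lpn (LP (LK LD1_c15 LD2_c1 LD3_c40))))))))))))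
theorem f353892 : Led Lsl_ct (LP (LK LD1_c11 LD2_c52 LD3_c42)) = (LP (LK LD1_c15 LD2_c28 LD3_c7)) :=
  Lgr Lrot15 (Lpr_ef (K23.f231268 IH) (Lpr_cf (f353736 IH) (Lpr_ef (f223147 IH) (Lpn (LP (LK LD1_c15 LD2_c28 LD3_c7))))))
theorem f353897 : Led Lsl_cf (LP (LK LD1_c11 LD2_c52 LD3_c42)) = (LP (LK LD1_c15 LD2_c28 LD3_c7)) :=
  Lgr Lrot11 (Lpr_ct (f353892 IH) (Lpn (LP (LK LD1_c15 LD2_c28 LD3_c7))))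
theorem f187359 : Led Lsl_ct (LP (LK LD1_c4 LD2_c6 LD3_c25)) = (LP (LK LD1_c8 LD2_c13 LD3_c24)) :=
  Lre_c IH (LK LD1_c4 LD2_c6 LD3_c25) (LK LD1_c8 LD2_c13 LD3_c24) Lrfl Lrfl
theorem f360377 : Led Lsl_gf (LP (LK LD1_c8 LD2_c11 LD3_c15)) = (LP (LK LD1_c5 LD2_c36 LD3_c54)) :=
  Lgr Lrot147 (Lpr_ct (f223978 IH) (Lpr_gt (f360375 IH) (Lpr_ct (f211370 IH) (Lpe (K23.f231273 IH) (Lpr_cf (f353897 IH) (Lpe (f194339 IH) (Lpe (f187359 IH) (Lpe (K25.f54552 IH) (Lpr_df (K25.f351894 IH) (Lpn (LP (LK LD1_c5 LD2_c36 LD3_c54))))))))))))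
theorem f223963 : Led Lsl_ft (LP (LK LD1_c8 LD2_c11 LD3_c15)) = (LP (LK LD1_c4 LD2_c5 LD3_c13)) :=
  Lre_f IH (LK LD1_c8 LD2_c11 LD3_c15) (LK LD1_c4 LD2_c5 LD3_c13) Lrfl Lrfl
theorem f223964 : Led Lsl_dt (LP (LK LD1_c15 LD2_c1 LD3_c6)) = (LP (LK LD1_c8 LD2_c11 LD3_c15)) :=
  Lgr Lrot60 (Lpe (f223962 IH) (Lpr_df (K15.f223917 IH) (Lpe (f223963 IH) (Lpn (LP (LK LD1_c8 LD2_c11 LD3_c15))))))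
theorem f223979 : Led Lsl_df (LP (LK LD1_c15 LD2_c1 LD3_c6)) = (LP (LK LD1_c8 LD2_c11 LD3_c15)) :=
  Lgr Lrot38 (Lpr_dt (f223964 IH) (Lpn (LP (LK LD1_c8 LD2_c11 LD3_c15))))
theorem f353943 : Led Lsl_dt (LP (LK LD1_c8 LD2_c11 LD3_c38)) = (LP (LK LD1_c5 LD2_c36 LD3_c55)) :=
  Lgr Lrot42 (Lpr_df (K25.f353937 IH) (Lpn (LP (LK LD1_c5 LD2_c36 LD3_c55))))
theorem f317433 : Led Lsl_ct (LP (LK LD1_c15 LD2_c24 LD3_c24)) = (LP (LK LD1_c25 LD2_c16 LD3_c49)) :=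
  Lre_c IH (LK LD1_c15 LD2_c24 LD3_c24) (LK LD1_c25 LD2_c16 LD3_c49) Lrfl Lrfl
theorem f317434 : Led Lsl_ct (LP (LK LD1_c15 LD2_c25 LD3_c35)) = (LP (LK LD1_c8 LD2_c11 LD3_c38)) :=
  Lre_c IH (LK LD1_c15 LD2_c25 LD3_c35) (LK LD1_c8 LD2_c11 LD3_c38) Lrfl Lrfl
theorem f317435 : Led Lsl_ef (LP (LK LD1_c15 LD2_c24 LD3_c24)) = (LP (LK LD1_c8 LD2_c11 LD3_c38)) :=
  Lgr Lrot28 (Lpr_ct (f317433 IH) (Lpr_et (K20.f317431 IH) (Lpr_ct (f317434 IH) (Lpn (LP (LK LD1_c8 LD2_c11 LD3_c38))))))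
theorem f283528 : Led Lsl_af (LP (LK LD1_c20 LD2_c56 LD3_c43)) = (LP (LK LD1_c15 LD2_c29 LD3_c4)) :=
  Lgr Lrot0 (Lpr_at (K17.f283514 IH) (Lpn (LP (LK LD1_c15 LD2_c29 LD3_c4))))
theorem f336601 : Led Lsl_gt (LP (LK LD1_c8 LD2_c13 LD3_c52)) = (LP (LK LD1_c15 LD2_c28 LD3_c42)) :=
  Lgr Lrot5 (Lpr_ft (K23.f194277 IH) (Lpe (f283528 IH) (Lpr_gf (K22.f336599 IH) (Lpn (LP (LK LD1_c15 LD2_c28 LD3_c42))))))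
theorem f308724 : Led Lsl_bf (LP (LK LD1_c15 LD2_c9 LD3_c3)) = (LP (LK LD1_c10 LD2_c33 LD3_c43)) :=
  Lgr Lrot24 (Lpr_bt (K19.f308722 IH) (Lpn (LP (LK LD1_c10 LD2_c33 LD3_c43))))
theorem f182970 : Led Lsl_ct (LP (LK LD1_c8 LD2_c11 LD3_c28)) = (LP (LK LD1_c4 LD2_c5 LD3_c19)) :=
  Lre_c IH (LK LD1_c8 LD2_c11 LD3_c28) (LK LD1_c4 LD2_c5 LD3_c19) Lrfl Lrfl
theorem f183016 : Led Lsl_gt (LP (LK LD1_c15 LD2_c25 LD3_c20)) = (LP (LK LD1_c8 LD2_c11 LD3_c28)) :=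
  Lre_g IH (LK LD1_c15 LD2_c25 LD3_c20) (LK LD1_c8 LD2_c11 LD3_c28) Lrfl Lrfl
theorem f322264 : Led Lsl_cf (LP (LK LD1_c15 LD2_c25 LD3_c20)) = (LP (LK LD1_c10 LD2_c33 LD3_c43)) :=
  Lgr Lrot188 (Lpr_gt (f183016 IH) (Lpr_ct (f182970 IH) (Lpr_dt (K20.f322252 IH) (Lpe (K23.f321375 IH) (Lpe (K20.f321378 IH) (Lpe (K20.f321379 IH) (Lpr_gf (K25.f246345 IH) (Lpe (K17.f284481 IH) (Lpr_gt (K17.f284479 IH) (Lpn (LP (LK LD1_c10 LD2_c33 LD3_c43))))))))))))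
theorem f328223 : Led Lsl_bf (LP (LK LD1_c10 LD2_c50 LD3_c37)) = (LP (LK LD1_c15 LD2_c24 LD3_c24)) :=
  Lgr Lrot24 (Lpr_bt (K21.f328221 IH) (Lpn (LP (LK LD1_c15 LD2_c24 LD3_c24))))
theorem f328358 : Led Lsl_gf (LP (LK LD1_c15 LD2_c25 LD3_c20)) = (LP (LK LD1_c25 LD2_c16 LD3_c49)) :=
  Lgr Lrot126 (Lpr_cf (f322264 IH) (Lpe (f308724 IH) (Lpr_gt (K13.f194265 IH) (Lpr_ct (K20.f216213 IH) (Lpe (K19.f308931 IH) (Lpe (K19.f237933 IH) (Lpr_bt (K22.f308934 IH) (Lpr_gt (K22.f328354 IH) (Lpr_bf (f328223 IH) (Lpr_ct (f317433 IH) (Lpn (LP (LK LD1_c25 LD2_c16 LD3_c49)))))))))))))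
theorem f336615 : Led Lsl_gt (LP (LK LD1_c8 LD2_c11 LD3_c29)) = (LP (LK LD1_c15 LD2_c24 LD3_c24)) :=
  Lgr Lrot82 (Lpr_bf (K22.f336606 IH) (Lpr_ct (K22.f182745 IH) (Lpe (f336601 IH) (Lpr_cf (K17.f194266 IH) (Lpe (K22.f194258 IH) (Lpe (K13.f194265 IH) (Lpr_bf (f308724 IH) (Lpe (f322264 IH) (Lpr_gf (f328358 IH) (Lpe (f317433 IH) (Lpn (LP (LK LD1_c15 LD2_c24 LD3_c24)))))))))))))
theorem f360380 : Led Lsl_gt (LP (LK LD1_c15 LD2_c1 LD3_c6)) = (LP (LK LD1_c7 LD2_c58 LD3_c23)) :=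
  Lgr Lrot139 (Lpr_df (f223979 IH) (Lpr_gf (f360377 IH) (Lpe (K25.f178230 IH) (Lpe (K25.f178216 IH) (Lpe (K25.f178231 IH) (Lpe (f353943 IH) (Lpe (f317435 IH) (Lpe (f336615 IH) (Lpr_ef (f358532 IH) (Lpe (f358523 IH) (Lpn (LP (LK LD1_c7 LD2_c58 LD3_c23)))))))))))))
theorem f360386 : Led Lsl_et (LP (LK LD1_c8 LD2_c11 LD3_c15)) = (LP (LK LD1_c11 LD2_c57 LD3_c28)) :=
  Lgr Lrot122 (Lpe (f223979 IH) (Lpr_gt (f360380 IH) (Lpr_df (f358523 IH) (Lpe (f358532 IH) (Lpr_gt (f336615 IH) (Lpe (K21.f328217 IH) (Lpe (K21.f322278 IH) (Lpe (K19.f228854 IH) (Lpe (f307415 IH) (Lpr_gt (f307418 IH) (Lpn (LP (LK LD1_c11 LD2_c57 LD3_c28)))))))))))))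
theorem f360394 : Led Lsl_ef (LP (LK LD1_c8 LD2_c11 LD3_c15)) = (LP (LK LD1_c11 LD2_c57 LD3_c28)) :=
  Lgr Lrot88 (Lpr_et (f360386 IH) (Lpn (LP (LK LD1_c11 LD2_c57 LD3_c28))))
theorem f359541 : Led Lsl_ff (LP (LK LD1_c4 LD2_c5 LD3_c3)) = (LP (LK LD1_c1 LD2_c59 LD3_c46)) :=
  Lgr Lrot19 (Lpr_dt (K15.f46245 IH) (Lpr_ft (f359535 IH) (Lpr_dt (K17.f47416 IH) (Lpn (LP (LK LD1_c1 LD2_c59 LD3_c46))))))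
theorem f360437 : Led Lsl_ft (LP (LK LD1_c8 LD2_c10 LD3_c54)) = (LP (LK LD1_c11 LD2_c57 LD3_c28)) :=
  Lgr Lrot86 (Lpe (K15.f55096 IH) (Lpr_ff (f359541 IH) (Lpe (K15.f223974 IH) (Lpe (f223963 IH) (Lpr_ef (f360394 IH) (Lpn (LP (LK LD1_c11 LD2_c57 LD3_c28))))))))
theorem f359768 : Led Lsl_at (LP (LK LD1_c11 LD2_c57 LD3_c28)) = (LP (LK LD1_c8 LD2_c11 LD3_c23)) :=
  Lgr Lrot51 (Lpr_df (f359766 IH) (Lpr_af (f359617 IH) (Lpe (K16.f278229 IH) (Lpn (LP (LK LD1_c8 LD2_c11 LD3_c23))))))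
theorem f360445 : Led Lsl_gt (LP (LK LD1_c11 LD2_c57 LD3_c29)) = (LP (LK LD1_c8 LD2_c11 LD3_c23)) :=
  Lgr Lrot46 (Lpe (K21.f326873 IH) (Lpr_ft (f360437 IH) (Lpr_at (f359768 IH) (Lpn (LP (LK LD1_c8 LD2_c11 LD3_c23))))))
theorem f360453 : Led Lsl_gf (LP (LK LD1_c10 LD2_c9 LD3_c52)) = (LP (LK LD1_c9 LD2_c56 LD3_c36)) :=
  Lgr Lrot134 (Lpr_df (K23.f291362 IH) (Lpr_et (K23.f247648 IH) (Lpr_gt (K25.f351607 IH) (Lpe (K25.f351522 IH) (Lpr_dt (K20.f322236 IH) (Lpe (K20.f322238 IH) (Lpe (K21.f271132 IH) (Lpr_et (K21.f326876 IH) (Lpr_gt (f360445 IH) (Lpr_dt (K16.f278229 IH) (Lpn (LP (LK LD1_c9 LD2_c56 LD3_c36)))))))))))))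
theorem f342403 : Led Lsl_dt (LP (LK LD1_c9 LD2_c54 LD3_c55)) = (LP (LK LD1_c11 LD2_c6 LD3_c7)) :=
  Lgr Lrot42 (Lpr_df (K23.f342399 IH) (Lpn (LP (LK LD1_c11 LD2_c6 LD3_c7))))
theorem f351617 : Led Lsl_gf (LP (LK LD1_c15 LD2_c3 LD3_c12)) = (LP (LK LD1_c11 LD2_c6 LD3_c7)) :=
  Lgr Lrot138 (Lpe (K14.f254179 IH) (Lpr_gt (K14.f250374 IH) (Lpr_df (K14.f253614 IH) (Lpr_et (K14.f254166 IH) (Lpr_gt (K14.f254170 IH) (Lpe (K20.f199699 IH) (Lpe (K25.f247689 IH) (Lpr_gt (K23.f194299 IH) (Lpr_df (K25.f351613 IH) (Lpr_et (K23.f342405 IH) (Lpn (LP (LK LD1_c11 LD2_c6 LD3_c7)))))))))))))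
theorem f254216 : Led Lsl_ef (LP (LK LD1_c18 LD2_c33 LD3_c27)) = (LP (LK LD1_c10 LD2_c11 LD3_c36)) :=
  Lgr Lrot88 (Lpr_et (K14.f254214 IH) (Lpn (LP (LK LD1_c10 LD2_c11 LD3_c36))))
theorem f300189 : Led Lsl_dt (LP (LK LD1_c15 LD2_c2 LD3_c15)) = (LP (LK LD1_c7 LD2_c58 LD3_c15)) :=
  Lre_d IH (LK LD1_c15 LD2_c2 LD3_c15) (LK LD1_c7 LD2_c58 LD3_c15) Lrfl Lrfl
theorem f233871 : Led Lsl_ft (LP (LK LD1_c15 LD2_c1 LD3_c2)) = (LP (LK LD1_c7 LD2_c57 LD3_c42)) :=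
  Lre_f IH (LK LD1_c15 LD2_c1 LD3_c2) (LK LD1_c7 LD2_c57 LD3_c42) Lrfl Lrfl
theorem f359736 : Led Lsl_dt (LP (LK LD1_c9 LD2_c40 LD3_c10)) = (LP (LK LD1_c15 LD2_c1 LD3_c2)) :=
  Lgr Lrot60 (Lpr_ff (f359730 IH) (Lpe (K14.f246161 IH) (Lpe (f233871 IH) (Lpn (LP (LK LD1_c15 LD2_c1 LD3_c2))))))
theorem f360457 : Led Lsl_gt (LP (LK LD1_c7 LD2_c58 LD3_c15)) = (LP (LK LD1_c15 LD2_c1 LD3_c2)) :=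
  Lgr Lrot139 (Lpe (f300189 IH) (Lpr_gf (K25.f351857 IH) (Lpr_ef (f254216 IH) (Lpr_dt (K23.f254184 IH) (Lpr_gf (f351617 IH) (Lpe (f342403 IH) (Lpr_et (K23.f333539 IH) (Lpr_gf (f360453 IH) (Lpe (f359724 IH) (Lpr_dt (f359736 IH) (Lpn (LP (LK LD1_c15 LD2_c1 LD3_c2)))))))))))))
theorem f360463 : Led Lsl_df (LP (LK LD1_c9 LD2_c40 LD3_c10)) = (LP (LK LD1_c15 LD2_c1 LD3_c2)) :=
  Lgr Lrot135 (Lpr_gt (f289944 IH) (Lpe (K19.f305737 IH) (Lpr_et (K19.f305720 IH) (Lpr_gt (K19.f305709 IH) (Lpr_ef (K25.f351597 IH) (Lpr_dt (K10.f187283 IH) (Lpe (K25.f351765 IH) (Lpr_df (K25.f351833 IH) (Lpe (K25.f351841 IH) (Lpr_gt (f360457 IH) (Lpn (LP (LK LD1_c15 LD2_c1 LD3_c2)))))))))))))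
theorem f360469 : Led Lsl_gf (LP (LK LD1_c7 LD2_c58 LD3_c16)) = (LP (LK LD1_c15 LD2_c1 LD3_c2)) :=
  Lgr Lrot147 (Lpr_ct (K23.f300197 IH) (Lpe (K23.f312471 IH) (Lpr_ct (K17.f218705 IH) (Lpe (K18.f294214 IH) (Lpr_cf (K18.f288507 IH) (Lpr_gf (K20.f306092 IH) (Lpe (K19.f289938 IH) (Lpe (f289944 IH) (Lpr_df (f360463 IH) (Lpn (LP (LK LD1_c15 LD2_c1 LD3_c2))))))))))))
theorem f360475 : Led Lsl_gt (LP (LK LD1_c10 LD2_c9 LD3_c51)) = (LP (LK LD1_c9 LD2_c56 LD3_c36)) :=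
  Lgr Lrot131 (Lpr_ef (K15.f256405 IH) (Lpr_dt (K15.f43380 IH) (Lpe (K15.f43370 IH) (Lpe (K13.f43358 IH) (Lpe (K19.f312497 IH) (Lpe (K19.f312487 IH) (Lpr_dt (f312485 IH) (Lpr_gf (f360469 IH) (Lpe (f359736 IH) (Lpr_et (f359724 IH) (Lpn (LP (LK LD1_c9 LD2_c56 LD3_c36)))))))))))))
theorem f259599 : Led Lsl_df (LP (LK LD1_c17 LD2_c48 LD3_c20)) = (LP (LK LD1_c10 LD2_c9 LD3_c51)) :=
  Lgr Lrot38 (Lpr_dt (K15.f259597 IH) (Lpn (LP (LK LD1_c10 LD2_c9 LD3_c51))))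
theorem f307256 : Led Lsl_df (LP (LK LD1_c8 LD2_c36 LD3_c0)) = (LP (LK LD1_c5 LD2_c9 LD3_c44)) :=
  Lgr Lrot38 (Lpr_dt (K21.f307253 IH) (Lpn (LP (LK LD1_c5 LD2_c9 LD3_c44))))
theorem f171420 : Led Lsl_gt (LP (LK LD1_c8 LD2_c36 LD3_c0)) = (LP (LK LD1_c4 LD2_c18 LD3_c54)) :=
  Lre_g IH (LK LD1_c8 LD2_c36 LD3_c0) (LK LD1_c4 LD2_c18 LD3_c54) Lrfl Lrfl
theorem f257640 : Led Lsl_dt (LP (LK LD1_c9 LD2_c39 LD3_c43)) = (LP (LK LD1_c9 LD2_c43 LD3_c25)) :=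
  Lgr Lrot42 (Lpr_df (K19.f257635 IH) (Lpn (LP (LK LD1_c9 LD2_c43 LD3_c25))))
theorem f307311 : Led Lsl_gf (LP (LK LD1_c17 LD2_c48 LD3_c20)) = (LP (LK LD1_c9 LD2_c43 LD3_c25)) :=
  Lgr Lrot134 (Lpr_df (f259599 IH) (Lpr_et (K15.f256412 IH) (Lpr_gt (K21.f307307 IH) (Lpe (K21.f307258 IH) (Lpe (f307256 IH) (Lpr_gt (f171420 IH) (Lpr_df (f171397 IH) (Lpe (K14.f248677 IH) (Lpr_gt (K19.f248624 IH) (Lpr_dt (f257640 IH) (Lpn (LP (LK LD1_c9 LD2_c43 LD3_c25)))))))))))))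
theorem f55272 : Led Lsl_dt (LP (LK LD1_c4 LD2_c55 LD3_c51)) = (LP (LK LD1_c9 LD2_c43 LD3_c24)) :=
  Lre_d IH (LK LD1_c4 LD2_c55 LD3_c51) (LK LD1_c9 LD2_c43 LD3_c24) Lrfl Lrfl
theorem f167882 : Led Lsl_bt (LP (LK LD1_c2 LD2_c12 LD3_c26)) = (LP (LK LD1_c4 LD2_c30 LD3_c60)) :=
  Lre_b IH (LK LD1_c2 LD2_c12 LD3_c26) (LK LD1_c4 LD2_c30 LD3_c60) Lrfl Lrfl
theorem f167883 : Led Lsl_df (LP (LK LD1_c4 LD2_c30 LD3_c59)) = (LP (LK LD1_c4 LD2_c30 LD3_c60)) :=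
  Lgr Lrot12 (Lpr_bt (K24.f167881 IH) (Lpr_dt (K24.f167879 IH) (Lpr_bt (f167882 IH) (Lpn (LP (LK LD1_c4 LD2_c30 LD3_c60))))))
theorem f358564 : Led Lsl_gf (LP (LK LD1_c7 LD2_c58 LD3_c1)) = (LP (LK LD1_c4 LD2_c30 LD3_c59)) :=
  Lgr Lrot134 (Lpe (K25.f187276 IH) (Lpe (K25.f351599 IH) (Lpe (K20.f322240 IH) (Lpe (K16.f271100 IH) (Lpr_dt (K16.f254921 IH) (Lpe (K21.f329449 IH) (Lpr_df (f310861 IH) (Lpr_et (f358552 IH) (Lpr_gt (f167900 IH) (Lpe (f167883 IH) (Lpn (LP (LK LD1_c4 LD2_c30 LD3_c59)))))))))))))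
theorem f247692 : Led Lsl_ct (LP (LK LD1_c31 LD2_c39 LD3_c38)) = (LP (LK LD1_c24 LD2_c48 LD3_c36)) :=
  Lre_c IH (LK LD1_c31 LD2_c39 LD3_c38) (LK LD1_c24 LD2_c48 LD3_c36) Lrfl Lrfl
theorem f351781 : Led Lsl_ct (LP (LK LD1_c15 LD2_c1 LD3_c42)) = (LP (LK LD1_c24 LD2_c49 LD3_c56)) :=
  Lre_c IH (LK LD1_c15 LD2_c1 LD3_c42) (LK LD1_c24 LD2_c49 LD3_c56) Lrfl Lrfl
theorem f351782 : Led Lsl_at (LP (LK LD1_c24 LD2_c48 LD3_c36)) = (LP (LK LD1_c15 LD2_c1 LD3_c42)) :=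
  Lgr Lrot107 (Lpe (f247692 IH) (Lpr_af (K25.f351776 IH) (Lpe (f351781 IH) (Lpn (LP (LK LD1_c15 LD2_c1 LD3_c42))))))
theorem f351784 : Led Lsl_af (LP (LK LD1_c24 LD2_c48 LD3_c36)) = (LP (LK LD1_c15 LD2_c1 LD3_c42)) :=
  Lgr Lrot0 (Lpr_at (f351782 IH) (Lpn (LP (LK LD1_c15 LD2_c1 LD3_c42))))
theorem f351793 : Led Lsl_at (LP (LK LD1_c15 LD2_c0 LD3_c56)) = (LP (LK LD1_c7 LD2_c57 LD3_c60)) :=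
  Lgr Lrot51 (Lpe (K25.f199751 IH) (Lpr_af (f351784 IH) (Lpe (K25.f254035 IH) (Lpn (LP (LK LD1_c7 LD2_c57 LD3_c60))))))
theorem f223157 : Led Lsl_ct (LP (LK LD1_c7 LD2_c57 LD3_c60)) = (LP (LK LD1_c3 LD2_c58 LD3_c18)) :=
  Lre_c IH (LK LD1_c7 LD2_c57 LD3_c60) (LK LD1_c3 LD2_c58 LD3_c18) Lrfl Lrfl
theorem f351799 : Led Lsl_af (LP (LK LD1_c7 LD2_c57 LD3_c38)) = (LP (LK LD1_c3 LD2_c58 LD3_c18)) :=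
  Lgr Lrot68 (Lpr_ct (K25.f199708 IH) (Lpr_at (f351793 IH) (Lpr_ct (f223157 IH) (Lpn (LP (LK LD1_c3 LD2_c58 LD3_c18))))))
theorem f351801 : Led Lsl_ft (LP (LK LD1_c7 LD2_c58 LD3_c1)) = (LP (LK LD1_c3 LD2_c58 LD3_c18)) :=
  Lre_f IH (LK LD1_c7 LD2_c58 LD3_c1) (LK LD1_c3 LD2_c58 LD3_c18) Lrfl Lrfl
theorem f353933 : Led Lsl_af (LP (LK LD1_c7 LD2_c58 LD3_c1)) = (LP (LK LD1_c5 LD2_c36 LD3_c55)) :=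
  Lgr Lrot45 (Lpr_ft (f351801 IH) (Lpe (f351799 IH) (Lpr_ft (K25.f353681 IH) (Lpn (LP (LK LD1_c5 LD2_c36 LD3_c55))))))
theorem f358566 : Led Lsl_gt (LP (LK LD1_c7 LD2_c57 LD3_c38)) = (LP (LK LD1_c4 LD2_c30 LD3_c59)) :=
  Lgr Lrot5 (Lpr_ft (K25.f353681 IH) (Lpe (f353933 IH) (Lpr_gf (f358564 IH) (Lpn (LP (LK LD1_c4 LD2_c30 LD3_c59))))))
theorem f351837 : Led Lsl_ef (LP (LK LD1_c8 LD2_c11 LD3_c37)) = (LP (LK LD1_c4 LD2_c55 LD3_c21)) :=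
  Lgr Lrot88 (Lpr_et (K25.f351835 IH) (Lpn (LP (LK LD1_c4 LD2_c55 LD3_c21))))
theorem f168575 : Led Lsl_dt (LP (LK LD1_c4 LD2_c55 LD3_c21)) = (LP (LK LD1_c9 LD2_c42 LD3_c19)) :=
  Lre_d IH (LK LD1_c4 LD2_c55 LD3_c21) (LK LD1_c9 LD2_c42 LD3_c19) Lrfl Lrfl
theorem f257632 : Led Lsl_df (LP (LK LD1_c17 LD2_c46 LD3_c12)) = (LP (LK LD1_c9 LD2_c56 LD3_c54)) :=
  Lgr Lrot38 (Lpr_dt (K19.f257629 IH) (Lpn (LP (LK LD1_c9 LD2_c56 LD3_c54))))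
theorem f351839 : Led Lsl_gt (LP (LK LD1_c17 LD2_c46 LD3_c12)) = (LP (LK LD1_c9 LD2_c42 LD3_c19)) :=
  Lgr Lrot139 (Lpr_df (f257632 IH) (Lpe (K19.f247644 IH) (Lpe (K19.f247643 IH) (Lpr_dt (K15.f192139 IH) (Lpe (K14.f28380 IH) (Lpr_df (K14.f247637 IH) (Lpr_et (K20.f247647 IH) (Lpe (K25.f194304 IH) (Lpr_ef (f351837 IH) (Lpr_dt (f168575 IH) (Lpn (LP (LK LD1_c9 LD2_c42 LD3_c19)))))))))))))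
theorem f167898 : Led Lsl_et (LP (LK LD1_c4 LD2_c30 LD3_c60)) = (LP (LK LD1_c9 LD2_c0 LD3_c6)) :=
  Lre_e IH (LK LD1_c4 LD2_c30 LD3_c60) (LK LD1_c9 LD2_c0 LD3_c6) Lrfl Lrfl
theorem f358588 : Led Lsl_gf (LP (LK LD1_c9 LD2_c43 LD3_c24)) = (LP (LK LD1_c9 LD2_c0 LD3_c6)) :=
  Lgr Lrot141 (Lpe (K19.f247656 IH) (Lpe (f257632 IH) (Lpr_gt (f351839 IH) (Lpe (f168575 IH) (Lpe (f351837 IH) (Lpr_gt (K25.f194304 IH) (Lpr_dt (K20.f247684 IH) (Lpr_gt (f358566 IH) (Lpr_df (f167883 IH) (Lpr_et (f167898 IH) (Lpn (LP (LK LD1_c9 LD2_c0 LD3_c6)))))))))))))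
theorem f169037 : Led Lsl_et (LP (LK LD1_c11 LD2_c57 LD3_c12)) = (LP (LK LD1_c6 LD2_c7 LD3_c8)) :=
  Lre_e IH (LK LD1_c11 LD2_c57 LD3_c12) (LK LD1_c6 LD2_c7 LD3_c8) Lrfl Lrfl
theorem f169038 : Led Lsl_gt (LP (LK LD1_c11 LD2_c57 LD3_c9)) = (LP (LK LD1_c6 LD2_c7 LD3_c8)) :=
  Lre_g IH (LK LD1_c11 LD2_c57 LD3_c9) (LK LD1_c6 LD2_c7 LD3_c8) Lrfl Lrfl
theorem f360477 : Led Lsl_ef (LP (LK LD1_c11 LD2_c57 LD3_c9)) = (LP (LK LD1_c8 LD2_c11 LD3_c23)) :=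
  Lgr Lrot114 (Lpr_gt (f169038 IH) (Lpe (f169037 IH) (Lpe (f169029 IH) (Lpe (f358588 IH) (Lpe (f55272 IH) (Lpr_et (K19.f247665 IH) (Lpe (f307311 IH) (Lpr_dt (K15.f259597 IH) (Lpr_gt (f360475 IH) (Lpe (K16.f278229 IH) (Lpn (LP (LK LD1_c8 LD2_c11 LD3_c23)))))))))))))
theorem f267190 : Led Lsl_dt (LP (LK LD1_c3 LD2_c58 LD3_c23)) = (LP (LK LD1_c4 LD2_c19 LD3_c32)) :=
  Lgr Lrot77 (Lpe (K19.f55004 IH) (Lpe (K12.f41374 IH) (Lpe (K15.f41373 IH) (Lpr_df (K15.f267181 IH) (Lpe (K19.f267189 IH) (Lpn (LP (LK LD1_c4 LD2_c19 LD3_c32))))))))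
theorem f228023 : Led Lsl_et (LP (LK LD1_c3 LD2_c58 LD3_c23)) = (LP (LK LD1_c1 LD2_c55 LD3_c59)) :=
  Lre_e IH (LK LD1_c3 LD2_c58 LD3_c23) (LK LD1_c1 LD2_c55 LD3_c59) Lrfl Lrfl
theorem f326834 : Led Lsl_et (LP (LK LD1_c11 LD2_c10 LD3_c44)) = (LP (LK LD1_c8 LD2_c13 LD3_c42)) :=
  Lgr Lrot121 (Lpr_dt (f170107 IH) (Lpr_gf (K21.f326826 IH) (Lpe (f267190 IH) (Lpr_et (f228023 IH) (Lpr_gf (K15.f261265 IH) (Lpe (K14.f221746 IH) (Lpe (K14.f254046 IH) (Lpe (K18.f301658 IH) (Lpr_df (K18.f301667 IH) (Lpe (K21.f182744 IH) (Lpn (LP (LK LD1_c8 LD2_c13 LD3_c42)))))))))))))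
theorem f344299 : Led Lsl_ef (LP (LK LD1_c7 LD2_c58 LD3_c1)) = (LP (LK LD1_c5 LD2_c39 LD3_c39)) :=
  Lgr Lrot29 (Lpr_bt (K25.f187275 IH) (Lpr_et (K22.f339466 IH) (Lpr_bt (K23.f344295 IH) (Lpn (LP (LK LD1_c5 LD2_c39 LD3_c39))))))
theorem f358747 : Led Lsl_gf (LP (LK LD1_c5 LD2_c36 LD3_c56)) = (LP (LK LD1_c7 LD2_c58 LD3_c1)) :=
  Lgr Lrot138 (Lpr_dt (f358732 IH) (Lpr_gt (f358668 IH) (Lpe (f358626 IH) (Lpe (K21.f325178 IH) (Lpr_gt (K21.f325009 IH) (Lpe (f326834 IH) (Lpr_dt (f170107 IH) (Lpr_gt (K21.f326854 IH) (Lpe (K25.f326864 IH) (Lpe (f344299 IH) (Lpn (LP (LK LD1_c7 LD2_c58 LD3_c1)))))))))))))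
theorem f358741 : Led Lsl_df (LP (LK LD1_c5 LD2_c36 LD3_c56)) = (LP (LK LD1_c4 LD2_c54 LD3_c61)) :=
  Lgr Lrot38 (Lpr_dt (f358732 IH) (Lpn (LP (LK LD1_c4 LD2_c54 LD3_c61))))
theorem f360489 : Led Lsl_gf (LP (LK LD1_c11 LD2_c57 LD3_c9)) = (LP (LK LD1_c8 LD2_c11 LD3_c14)) :=
  Lgr Lrot141 (Lpr_ef (f360477 IH) (Lpr_dt (K16.f278229 IH) (Lpe (f360453 IH) (Lpr_df (K23.f291362 IH) (Lpr_et (K23.f247648 IH) (Lpr_gt (K25.f351607 IH) (Lpr_dt (K25.f187276 IH) (Lpe (f358747 IH) (Lpr_df (f358741 IH) (Lpe (f291815 IH) (Lpn (LP (LK LD1_c8 LD2_c11 LD3_c14)))))))))))))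
theorem f169063 : Led Lsl_ct (LP (LK LD1_c11 LD2_c57 LD3_c9)) = (LP (LK LD1_c21 LD2_c2 LD3_c10)) :=
  Lre_c IH (LK LD1_c11 LD2_c57 LD3_c9) (LK LD1_c21 LD2_c2 LD3_c10) Lrfl Lrfl
theorem f217548 : Led Lsl_gt (LP (LK LD1_c9 LD2_c42 LD3_c44)) = (LP (LK LD1_c17 LD2_c51 LD3_c36)) :=
  Lre_g IH (LK LD1_c9 LD2_c42 LD3_c44) (LK LD1_c17 LD2_c51 LD3_c36) Lrfl Lrfl
theorem f217560 : Led Lsl_ef (LP (LK LD1_c9 LD2_c42 LD3_c44)) = (LP (LK LD1_c8 LD2_c13 LD3_c2)) :=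
  Lgr Lrot28 (Lpr_ct (K25.f217538 IH) (Lpr_et (K15.f217553 IH) (Lpr_ct (K15.f182212 IH) (Lpn (LP (LK LD1_c8 LD2_c13 LD3_c2))))))
theorem f353603 : Led Lsl_ef (LP (LK LD1_c17 LD2_c51 LD3_c36)) = (LP (LK LD1_c15 LD2_c41 LD3_c59)) :=
  Lgr Lrot17 (Lpe (f217548 IH) (Lpr_ef (f217560 IH) (Lpr_dt (K15.f182526 IH) (Lpe (K15.f216111 IH) (Lpe (K12.f54388 IH) (Lpr_gf (K13.f214077 IH) (Lpe (K21.f216113 IH) (Lpr_dt (K25.f216114 IH) (Lpr_gf (K25.f353601 IH) (Lpe (K25.f222179 IH) (Lpn (LP (LK LD1_c15 LD2_c41 LD3_c59)))))))))))))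
theorem f353610 : Led Lsl_ct (LP (LK LD1_c17 LD2_c51 LD3_c36)) = (LP (LK LD1_c11 LD2_c52 LD3_c46)) :=
  Lgr Lrot15 (Lpr_ef (f353603 IH) (Lpe (K25.f170833 IH) (Lpr_ef (K25.f222177 IH) (Lpn (LP (LK LD1_c11 LD2_c52 LD3_c46))))))
theorem f223969 : Led Lsl_ct (LP (LK LD1_c15 LD2_c1 LD3_c4)) = (LP (LK LD1_c7 LD2_c57 LD3_c44)) :=
  Lre_c IH (LK LD1_c15 LD2_c1 LD3_c4) (LK LD1_c7 LD2_c57 LD3_c44) Lrfl Lrfl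
theorem f223973 : Led Lsl_gt (LP (LK LD1_c15 LD2_c24 LD3_c55)) = (LP (LK LD1_c8 LD2_c11 LD3_c13)) :=
  Lre_g IH (LK LD1_c15 LD2_c24 LD3_c55) (LK LD1_c8 LD2_c11 LD3_c13) Lrfl Lrfl
theorem f357567 : Led Lsl_ct (LP (LK LD1_c10 LD2_c33 LD3_c11)) = (LP (LK LD1_c15 LD2_c24 LD3_c55)) :=
  Lgr Lrot152 (Lpr_gf (f303591 IH) (Lpe (K11.f211343 IH) (Lpr_gt (K25.f211360 IH) (Lpr_ct (f357561 IH) (Lpr_gt (f223972 IH) (Lpr_ct (f223969 IH) (Lpr_df (K15.f223917 IH) (Lpe (K25.f223957 IH) (Lpe (f223973 IH) (Lpn (LP (LK LD1_c15 LD2_c24 LD3_c55))))))))))))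
theorem f358367 : Led Lsl_cf (LP (LK LD1_c10 LD2_c33 LD3_c11)) = (LP (LK LD1_c15 LD2_c24 LD3_c55)) :=
  Lgr Lrot11 (Lpr_ct (f357567 IH) (Lpn (LP (LK LD1_c15 LD2_c24 LD3_c55))))
theorem f360495 : Led Lsl_gt (LP (LK LD1_c21 LD2_c2 LD3_c10)) = (LP (LK LD1_c15 LD2_c24 LD3_c55)) :=
  Lgr Lrot150 (Lpe (f169063 IH) (Lpr_gf (f360489 IH) (Lpr_df (K25.f291805 IH) (Lpr_gt (K25.f217556 IH) (Lpr_ct (K25.f217547 IH) (Lpr_gt (f217548 IH) (Lpr_ct (f353610 IH) (Lpe (f304133 IH) (Lpr_cf (f358367 IH) (Lpn (LP (LK LD1_c15 LD2_c24 LD3_c55))))))))))))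
theorem f360481 : Led Lsl_bt (LP (LK LD1_c11 LD2_c57 LD3_c9)) = (LP (LK LD1_c10 LD2_c20 LD3_c0)) :=
  Lgr Lrot119 (Lpr_ef (f360477 IH) (Lpe (f252648 IH) (Lpe (f359869 IH) (Lpn (LP (LK LD1_c10 LD2_c20 LD3_c0))))))
theorem f352519 : Led Lsl_bt (LP (LK LD1_c10 LD2_c33 LD3_c11)) = (LP (LK LD1_c15 LD2_c9 LD3_c1)) :=
  Lgr Lrot95 (Lpr_df (f304131 IH) (Lpr_bf (K25.f352514 IH) (Lpr_df (K22.f338615 IH) (Lpn (LP (LK LD1_c15 LD2_c9 LD3_c1))))))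
theorem f347178 : Led Lsl_gf (LP (LK LD1_c11 LD2_c57 LD3_c0)) = (LP (LK LD1_c15 LD2_c9 LD3_c0)) :=
  Lgr Lrot47 (Lpr_gt (K23.f347169 IH) (Lpr_af (K22.f338373 IH) (Lpe (K22.f338386 IH) (Lpn (LP (LK LD1_c15 LD2_c9 LD3_c0))))))
theorem f360499 : Led Lsl_gf (LP (LK LD1_c10 LD2_c20 LD3_c0)) = (LP (LK LD1_c11 LD2_c56 LD3_c61)) :=
  Lgr Lrot124 (Lpe (f360481 IH) (Lpr_ct (f169063 IH) (Lpr_gt (f360495 IH) (Lpe (f357567 IH) (Lpr_bt (f352519 IH) (Lpr_gt (K22.f253024 IH) (Lpr_ct (K25.f253017 IH) (Lpe (f347178 IH) (Lpe (K23.f168957 IH) (Lpr_bt (K25.f347063 IH) (Lpn (LP (LK LD1_c11 LD2_c56 LD3_c61)))))))))))))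
theorem f223111 : Led Lsl_ct (LP (LK LD1_c10 LD2_c20 LD3_c0)) = (LP (LK LD1_c18 LD2_c45 LD3_c31)) :=
  Lre_c IH (LK LD1_c10 LD2_c20 LD3_c0) (LK LD1_c18 LD2_c45 LD3_c31) Lrfl Lrfl
theorem f217519 : Led Lsl_gt (LP (LK LD1_c10 LD2_c24 LD3_c7)) = (LP (LK LD1_c5 LD2_c17 LD3_c16)) :=
  Lre_g IH (LK LD1_c10 LD2_c24 LD3_c7) (LK LD1_c5 LD2_c17 LD3_c16) Lrfl Lrfl
theorem f356758 : Led Lsl_df (LP (LK LD1_c10 LD2_c24 LD3_c7)) = (LP (LK LD1_c11 LD2_c56 LD3_c61)) :=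
  Lgr Lrot135 (Lpr_gt (f217519 IH) (Lpe (K15.f217499 IH) (Lpr_et (K23.f217495 IH) (Lpr_gt (K12.f217485 IH) (Lpr_ef (K11.f45086 IH) (Lpr_dt (K11.f49525 IH) (Lpr_gt (K12.f212245 IH) (Lpe (K15.f212244 IH) (Lpr_et (K25.f212253 IH) (Lpr_gt (K25.f356756 IH) (Lpn (LP (LK LD1_c11 LD2_c56 LD3_c61)))))))))))))
theorem f282429 : Led Lsl_ct (LP (LK LD1_c15 LD2_c31 LD3_c16)) = (LP (LK LD1_c8 LD2_c15 LD3_c14)) :=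
  Lre_c IH (LK LD1_c15 LD2_c31 LD3_c16) (LK LD1_c8 LD2_c15 LD3_c14) Lrfl Lrfl
theorem f264707 : Led Lsl_ct (LP (LK LD1_c10 LD2_c43 LD3_c11)) = (LP (LK LD1_c5 LD2_c25 LD3_c59)) :=
  Lre_c IH (LK LD1_c10 LD2_c43 LD3_c11) (LK LD1_c5 LD2_c25 LD3_c59) Lrfl Lrfl
theorem f360501 : Led Lsl_gt (LP (LK LD1_c18 LD2_c45 LD3_c31)) = (LP (LK LD1_c10 LD2_c43 LD3_c11)) :=
  Lgr Lrot187 (Lpe (f223111 IH) (Lpr_gf (f360499 IH) (Lpe (f356758 IH) (Lpr_gt (f217519 IH) (Lpr_ct (K24.f217507 IH) (Lpe (K25.f356799 IH) (Lpr_ct (f282429 IH) (Lpr_dt (K23.f347982 IH) (Lpe (f264707 IH) (Lpn (LP (LK LD1_c10 LD2_c43 LD3_c11))))))))))))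
theorem f360504 : Led Lsl_df (LP (LK LD1_c11 LD2_c56 LD3_c61)) = (LP (LK LD1_c10 LD2_c24 LD3_c7)) :=
  Lgr Lrot155 (Lpe (f360499 IH) (Lpr_ct (f223111 IH) (Lpr_gt (f360501 IH) (Lpr_ct (f264707 IH) (Lpe (K23.f347984 IH) (Lpe (f282429 IH) (Lpr_gf (K25.f356799 IH) (Lpe (K24.f217507 IH) (Lpe (f217519 IH) (Lpn (LP (LK LD1_c10 LD2_c24 LD3_c7))))))))))))
theorem f360506 : Led Lsl_bt (LP (LK LD1_c8 LD2_c37 LD3_c46)) = (LP (LK LD1_c10 LD2_c24 LD3_c7)) :=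
  Lgr Lrot95 (Lpr_df (K23.f347041 IH) (Lpe (K25.f347044 IH) (Lpr_df (f360504 IH) (Lpn (LP (LK LD1_c10 LD2_c24 LD3_c7))))))
theorem f189920 : Led Lsl_ct (LP (LK LD1_c8 LD2_c37 LD3_c46)) = (LP (LK LD1_c16 LD2_c9 LD3_c50)) :=
  Lre_c IH (LK LD1_c8 LD2_c37 LD3_c46) (LK LD1_c16 LD2_c9 LD3_c50) Lrfl Lrfl
theorem f353612 : Led Lsl_et (LP (LK LD1_c17 LD2_c51 LD3_c36)) = (LP (LK LD1_c15 LD2_c41 LD3_c59)) :=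
  Lgr Lrot87 (Lpr_ef (f353603 IH) (Lpn (LP (LK LD1_c15 LD2_c41 LD3_c59))))
theorem f353616 : Led Lsl_cf (LP (LK LD1_c17 LD2_c51 LD3_c36)) = (LP (LK LD1_c11 LD2_c52 LD3_c46)) :=
  Lgr Lrot39 (Lpr_et (f353612 IH) (Lpr_ct (K25.f222169 IH) (Lpr_et (K25.f222174 IH) (Lpn (LP (LK LD1_c11 LD2_c52 LD3_c46))))))
theorem f352516 : Led Lsl_bt (LP (LK LD1_c11 LD2_c52 LD3_c46)) = (LP (LK LD1_c8 LD2_c38 LD3_c4)) :=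
  Lgr Lrot127 (Lpr_bf (K25.f352514 IH) (Lpn (LP (LK LD1_c8 LD2_c38 LD3_c4))))
theorem f360533 : Led Lsl_gf (LP (LK LD1_c16 LD2_c9 LD3_c50)) = (LP (LK LD1_c10 LD2_c1 LD3_c11)) :=
  Lgr Lrot129 (Lpe (f189920 IH) (Lpr_bt (f360506 IH) (Lpr_gt (f217519 IH) (Lpe (K15.f217536 IH) (Lpr_ct (K25.f217547 IH) (Lpr_gt (f217548 IH) (Lpr_cf (f353616 IH) (Lpr_bt (f352516 IH) (Lpe (K19.f293320 IH) (Lpr_ct (f211333 IH) (Lpn (LP (LK LD1_c10 LD2_c1 LD3_c11)))))))))))))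
theorem f303795 : Led Lsl_ft (LP (LK LD1_c10 LD2_c1 LD3_c11)) = (LP (LK LD1_c5 LD2_c5 LD3_c0)) :=
  Lre_f IH (LK LD1_c10 LD2_c1 LD3_c11) (LK LD1_c5 LD2_c5 LD3_c0) Lrfl Lrfl
theorem f303625 : Led Lsl_ff (LP (LK LD1_c2 LD2_c33 LD3_c9)) = (LP (LK LD1_c2 LD2_c29 LD3_c45)) :=
  Lgr Lrot3 (Lpr_ft (K18.f303619 IH) (Lpn (LP (LK LD1_c2 LD2_c29 LD3_c45))))
theorem f303629 : Led Lsl_ft (LP (LK LD1_c5 LD2_c12 LD3_c36)) = (LP (LK LD1_c5 LD2_c4 LD3_c51)) :=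
  Lgr Lrot4 (Lpe (K13.f192144 IH) (Lpr_ff (f303625 IH) (Lpe (K15.f192363 IH) (Lpn (LP (LK LD1_c5 LD2_c4 LD3_c51))))))
theorem f225594 : Led Lsl_dt (LP (LK LD1_c10 LD2_c15 LD3_c36)) = (LP (LK LD1_c5 LD2_c12 LD3_c36)) :=
  Lre_d IH (LK LD1_c10 LD2_c15 LD3_c36) (LK LD1_c5 LD2_c12 LD3_c36) Lrfl Lrfl
theorem f291834 : Led Lsl_df (LP (LK LD1_c8 LD2_c11 LD3_c45)) = (LP (LK LD1_c5 LD2_c4 LD3_c51)) :=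
  Lgr Lrot38 (Lpr_dt (K20.f291829 IH) (Lpn (LP (LK LD1_c5 LD2_c4 LD3_c51))))
theorem f303637 : Led Lsl_ff (LP (LK LD1_c10 LD2_c15 LD3_c36)) = (LP (LK LD1_c8 LD2_c11 LD3_c45)) :=
  Lgr Lrot19 (Lpr_dt (f225594 IH) (Lpr_ft (f303629 IH) (Lpe (f291834 IH) (Lpn (LP (LK LD1_c8 LD2_c11 LD3_c45))))))
theorem f303643 : Led Lsl_ft (LP (LK LD1_c10 LD2_c15 LD3_c36)) = (LP (LK LD1_c8 LD2_c11 LD3_c45)) :=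
  Lgr Lrot48 (Lpr_ff (f303637 IH) (Lpn (LP (LK LD1_c8 LD2_c11 LD3_c45))))
theorem f230706 : Led Lsl_bt (LP (LK LD1_c18 LD2_c39 LD3_c47)) = (LP (LK LD1_c10 LD2_c15 LD3_c36)) :=
  Lre_b IH (LK LD1_c18 LD2_c39 LD3_c47) (LK LD1_c10 LD2_c15 LD3_c36) Lrfl Lrfl
theorem f292054 : Led Lsl_bt (LP (LK LD1_c8 LD2_c11 LD3_c45)) = (LP (LK LD1_c15 LD2_c25 LD3_c49)) :=
  Lre_b IH (LK LD1_c8 LD2_c11 LD3_c45) (LK LD1_c15 LD2_c25 LD3_c49) Lrfl Lrfl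
theorem f303675 : Led Lsl_ff (LP (LK LD1_c18 LD2_c39 LD3_c47)) = (LP (LK LD1_c15 LD2_c25 LD3_c49)) :=
  Lgr Lrot25 (Lpr_bt (f230706 IH) (Lpr_ft (f303643 IH) (Lpr_bt (f292054 IH) (Lpn (LP (LK LD1_c15 LD2_c25 LD3_c49))))))
theorem f240952 : Led Lsl_dt (LP (LK LD1_c18 LD2_c39 LD3_c47)) = (LP (LK LD1_c10 LD2_c15 LD3_c35)) :=
  Lre_d IH (LK LD1_c18 LD2_c39 LD3_c47) (LK LD1_c10 LD2_c15 LD3_c35) Lrfl Lrfl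
theorem f47405 : Led Lsl_bt (LP (LK LD1_c15 LD2_c25 LD3_c49)) = (LP (LK LD1_c8 LD2_c11 LD3_c45)) :=
  Lre_b IH (LK LD1_c15 LD2_c25 LD3_c49) (LK LD1_c8 LD2_c11 LD3_c45) Lrfl Lrfl
theorem f291831 : Led Lsl_bt (LP (LK LD1_c5 LD2_c4 LD3_c51)) = (LP (LK LD1_c10 LD2_c0 LD3_c44)) :=
  Lre_b IH (LK LD1_c5 LD2_c4 LD3_c51) (LK LD1_c10 LD2_c0 LD3_c44) Lrfl Lrfl
theorem f291832 : Led Lsl_df (LP (LK LD1_c15 LD2_c25 LD3_c49)) = (LP (LK LD1_c10 LD2_c0 LD3_c44)) :=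
  Lgr Lrot12 (Lpr_bt (f47405 IH) (Lpr_dt (K20.f291829 IH) (Lpr_bt (f291831 IH) (Lpn (LP (LK LD1_c10 LD2_c0 LD3_c44))))))
theorem f303677 : Led Lsl_ft (LP (LK LD1_c10 LD2_c15 LD3_c35)) = (LP (LK LD1_c10 LD2_c0 LD3_c44)) :=
  Lgr Lrot54 (Lpe (f240952 IH) (Lpr_ff (f303675 IH) (Lpr_df (f291832 IH) (Lpn (LP (LK LD1_c10 LD2_c0 LD3_c44))))))
theorem f191130 : Led Lsl_ct (LP (LK LD1_c5 LD2_c12 LD3_c44)) = (LP (LK LD1_c10 LD2_c15 LD3_c35)) :=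
  Lre_c IH (LK LD1_c5 LD2_c12 LD3_c44) (LK LD1_c10 LD2_c15 LD3_c35) Lrfl Lrfl
theorem f237829 : Led Lsl_ct (LP (LK LD1_c10 LD2_c0 LD3_c44)) = (LP (LK LD1_c5 LD2_c4 LD3_c60)) :=
  Lre_c IH (LK LD1_c10 LD2_c0 LD3_c44) (LK LD1_c5 LD2_c4 LD3_c60) Lrfl Lrfl
theorem f303679 : Led Lsl_ff (LP (LK LD1_c5 LD2_c12 LD3_c44)) = (LP (LK LD1_c5 LD2_c4 LD3_c60)) :=
  Lgr Lrot23 (Lpr_ct (f191130 IH) (Lpr_ft (f303677 IH) (Lpr_ct (f237829 IH) (Lpn (LP (LK LD1_c5 LD2_c4 LD3_c60))))))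
theorem f303699 : Led Lsl_ft (LP (LK LD1_c5 LD2_c12 LD3_c44)) = (LP (LK LD1_c5 LD2_c4 LD3_c60)) :=
  Lgr Lrot48 (Lpr_ff (f303679 IH) (Lpn (LP (LK LD1_c5 LD2_c4 LD3_c60))))
theorem f201881 : Led Lsl_dt (LP (LK LD1_c10 LD2_c15 LD3_c53)) = (LP (LK LD1_c5 LD2_c12 LD3_c44)) :=
  Lre_d IH (LK LD1_c10 LD2_c15 LD3_c53) (LK LD1_c5 LD2_c12 LD3_c44) Lrfl Lrfl
theorem f292058 : Led Lsl_dt (LP (LK LD1_c5 LD2_c4 LD3_c60)) = (LP (LK LD1_c10 LD2_c1 LD3_c5)) :=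
  Lre_d IH (LK LD1_c5 LD2_c4 LD3_c60) (LK LD1_c10 LD2_c1 LD3_c5) Lrfl Lrfl
theorem f303713 : Led Lsl_ff (LP (LK LD1_c10 LD2_c15 LD3_c53)) = (LP (LK LD1_c10 LD2_c1 LD3_c5)) :=
  Lgr Lrot19 (Lpr_dt (f201881 IH) (Lpr_ft (f303699 IH) (Lpr_dt (f292058 IH) (Lpn (LP (LK LD1_c10 LD2_c1 LD3_c5))))))
theorem f201680 : Led Lsl_bt (LP (LK LD1_c10 LD2_c15 LD3_c53)) = (LP (LK LD1_c5 LD2_c12 LD3_c45)) :=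
  Lre_b IH (LK LD1_c10 LD2_c15 LD3_c53) (LK LD1_c5 LD2_c12 LD3_c45) Lrfl Lrfl
theorem f255260 : Led Lsl_bt (LP (LK LD1_c5 LD2_c4 LD3_c61)) = (LP (LK LD1_c10 LD2_c1 LD3_c5)) :=
  Lre_b IH (LK LD1_c5 LD2_c4 LD3_c61) (LK LD1_c10 LD2_c1 LD3_c5) Lrfl Lrfl
theorem f303727 : Led Lsl_ft (LP (LK LD1_c5 LD2_c12 LD3_c45)) = (LP (LK LD1_c5 LD2_c4 LD3_c61)) :=
  Lgr Lrot75 (Lpe (f201680 IH) (Lpr_ff (f303713 IH) (Lpe (f255260 IH) (Lpn (LP (LK LD1_c5 LD2_c4 LD3_c61))))))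
theorem f303747 : Led Lsl_af (LP (LK LD1_c5 LD2_c13 LD3_c0)) = (LP (LK LD1_c5 LD2_c4 LD3_c61)) :=
  Lgr Lrot31 (Lpr_gf (K11.f201636 IH) (Lpe (K11.f201731 IH) (Lpr_ft (f303727 IH) (Lpn (LP (LK LD1_c5 LD2_c4 LD3_c61))))))
theorem f201666 : Led Lsl_et (LP (LK LD1_c5 LD2_c13 LD3_c0)) = (LP (LK LD1_c10 LD2_c16 LD3_c20)) :=
  Lre_e IH (LK LD1_c5 LD2_c13 LD3_c0) (LK LD1_c10 LD2_c16 LD3_c20) Lrfl Lrfl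
theorem f266527 : Led Lsl_et (LP (LK LD1_c10 LD2_c1 LD3_c7)) = (LP (LK LD1_c5 LD2_c4 LD3_c61)) :=
  Lre_e IH (LK LD1_c10 LD2_c1 LD3_c7) (LK LD1_c5 LD2_c4 LD3_c61) Lrfl Lrfl
theorem f303753 : Led Lsl_at (LP (LK LD1_c10 LD2_c16 LD3_c20)) = (LP (LK LD1_c10 LD2_c1 LD3_c7)) :=
  Lgr Lrot80 (Lpe (f201666 IH) (Lpr_af (f303747 IH) (Lpe (f266527 IH) (Lpn (LP (LK LD1_c10 LD2_c1 LD3_c7))))))
theorem f201661 : Led Lsl_dt (LP (LK LD1_c18 LD2_c40 LD3_c59)) = (LP (LK LD1_c10 LD2_c16 LD3_c20)) :=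
  Lre_d IH (LK LD1_c18 LD2_c40 LD3_c59) (LK LD1_c10 LD2_c16 LD3_c20) Lrfl Lrfl
theorem f266528 : Led Lsl_dt (LP (LK LD1_c10 LD2_c1 LD3_c7)) = (LP (LK LD1_c18 LD2_c18 LD3_c36)) :=
  Lre_d IH (LK LD1_c10 LD2_c1 LD3_c7) (LK LD1_c18 LD2_c18 LD3_c36) Lrfl Lrfl
theorem f303761 : Led Lsl_af (LP (LK LD1_c18 LD2_c40 LD3_c59)) = (LP (LK LD1_c18 LD2_c18 LD3_c36)) :=
  Lgr Lrot117 (Lpr_dt (f201661 IH) (Lpr_at (f303753 IH) (Lpr_dt (f266528 IH) (Lpn (LP (LK LD1_c18 LD2_c18 LD3_c36))))))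
theorem f201647 : Led Lsl_et (LP (LK LD1_c10 LD2_c16 LD3_c20)) = (LP (LK LD1_c5 LD2_c13 LD3_c0)) :=
  Lre_e IH (LK LD1_c10 LD2_c16 LD3_c20) (LK LD1_c5 LD2_c13 LD3_c0) Lrfl Lrfl
theorem f201662 : Led Lsl_et (LP (LK LD1_c4 LD2_c20 LD3_c2)) = (LP (LK LD1_c8 LD2_c38 LD3_c3)) :=
  Lre_e IH (LK LD1_c4 LD2_c20 LD3_c2) (LK LD1_c8 LD2_c38 LD3_c3) Lrfl Lrfl
theorem f201663 : Led Lsl_dt (LP (LK LD1_c8 LD2_c38 LD3_c3)) = (LP (LK LD1_c16 LD2_c10 LD3_c23)) :=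
  Lre_d IH (LK LD1_c8 LD2_c38 LD3_c3) (LK LD1_c16 LD2_c10 LD3_c23) Lrfl Lrfl
theorem f201664 : Led Lsl_ef (LP (LK LD1_c18 LD2_c40 LD3_c59)) = (LP (LK LD1_c16 LD2_c10 LD3_c23)) :=
  Lgr Lrot73 (Lpr_dt (f201661 IH) (Lpr_et (f201647 IH) (Lpr_dt (K11.f201650 IH) (Lpr_et (f201662 IH) (Lpr_dt (f201663 IH) (Lpn (LP (LK LD1_c16 LD2_c10 LD3_c23))))))))
theorem f201670 : Led Lsl_et (LP (LK LD1_c18 LD2_c40 LD3_c59)) = (LP (LK LD1_c16 LD2_c10 LD3_c23)) :=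
  Lgr Lrot87 (Lpr_ef (f201664 IH) (Lpn (LP (LK LD1_c16 LD2_c10 LD3_c23))))
theorem f303785 : Led Lsl_et (LP (LK LD1_c10 LD2_c1 LD3_c10)) = (LP (LK LD1_c18 LD2_c18 LD3_c36)) :=
  Lre_e IH (LK LD1_c10 LD2_c1 LD3_c10) (LK LD1_c18 LD2_c18 LD3_c36) Lrfl Lrfl
theorem f303786 : Led Lsl_at (LP (LK LD1_c16 LD2_c10 LD3_c23)) = (LP (LK LD1_c10 LD2_c1 LD3_c10)) :=
  Lgr Lrot80 (Lpe (f201670 IH) (Lpr_af (f303761 IH) (Lpe (f303785 IH) (Lpn (LP (LK LD1_c10 LD2_c1 LD3_c10))))))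
theorem f303792 : Led Lsl_af (LP (LK LD1_c8 LD2_c38 LD3_c3)) = (LP (LK LD1_c5 LD2_c5 LD3_c0)) :=
  Lgr Lrot117 (Lpr_dt (f201663 IH) (Lpr_at (f303786 IH) (Lpr_dt (K23.f211303 IH) (Lpn (LP (LK LD1_c5 LD2_c5 LD3_c0))))))
theorem f360535 : Led Lsl_gt (LP (LK LD1_c16 LD2_c9 LD3_c50)) = (LP (LK LD1_c8 LD2_c38 LD3_c3)) :=
  Lgr Lrot46 (Lpr_gf (f360533 IH) (Lpr_ft (f303795 IH) (Lpe (f303792 IH) (Lpn (LP (LK LD1_c8 LD2_c38 LD3_c3))))))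
theorem f360537 : Led Lsl_et (LP (LK LD1_c26 LD2_c6 LD3_c33)) = (LP (LK LD1_c16 LD2_c9 LD3_c50)) :=
  Lre_e IH (LK LD1_c26 LD2_c6 LD3_c33) (LK LD1_c16 LD2_c9 LD3_c50) Lrfl Lrfl
theorem f171683 : Led Lsl_bt (LP (LK LD1_c2 LD2_c33 LD3_c13)) = (LP (LK LD1_c5 LD2_c12 LD3_c44)) :=
  Lre_b IH (LK LD1_c2 LD2_c33 LD3_c13) (LK LD1_c5 LD2_c12 LD3_c44) Lrfl Lrfl
theorem f292064 : Led Lsl_bt (LP (LK LD1_c5 LD2_c4 LD3_c60)) = (LP (LK LD1_c2 LD2_c29 LD3_c48)) :=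
  Lre_b IH (LK LD1_c5 LD2_c4 LD3_c60) (LK LD1_c2 LD2_c29 LD3_c48) Lrfl Lrfl
theorem f303711 : Led Lsl_ff (LP (LK LD1_c2 LD2_c33 LD3_c13)) = (LP (LK LD1_c2 LD2_c29 LD3_c48)) :=
  Lgr Lrot25 (Lpr_bt (f171683 IH) (Lpr_ft (f303699 IH) (Lpr_bt (f292064 IH) (Lpn (LP (LK LD1_c2 LD2_c29 LD3_c48))))))
theorem f304055 : Led Lsl_ft (LP (LK LD1_c5 LD2_c12 LD3_c46)) = (LP (LK LD1_c10 LD2_c15 LD3_c58)) :=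
  Lre_f IH (LK LD1_c5 LD2_c12 LD3_c46) (LK LD1_c10 LD2_c15 LD3_c58) Lrfl Lrfl
theorem f304056 : Led Lsl_et (LP (LK LD1_c10 LD2_c15 LD3_c58)) = (LP (LK LD1_c10 LD2_c1 LD3_c11)) :=
  Lgr Lrot69 (Lpe (f304055 IH) (Lpe (K20.f201738 IH) (Lpr_ff (f303711 IH) (Lpe (K23.f266638 IH) (Lpe (f303795 IH) (Lpn (LP (LK LD1_c10 LD2_c1 LD3_c11))))))))
theorem f293345 : Led Lsl_dt (LP (LK LD1_c10 LD2_c15 LD3_c58)) = (LP (LK LD1_c18 LD2_c40 LD3_c25)) :=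
  Lre_d IH (LK LD1_c10 LD2_c15 LD3_c58) (LK LD1_c18 LD2_c40 LD3_c25) Lrfl Lrfl
theorem f310527 : Led Lsl_dt (LP (LK LD1_c10 LD2_c39 LD3_c45)) = (LP (LK LD1_c19 LD2_c18 LD3_c33)) :=
  Lre_d IH (LK LD1_c10 LD2_c39 LD3_c45) (LK LD1_c19 LD2_c18 LD3_c33) Lrfl Lrfl
theorem f194586 : Led Lsl_ct (LP (LK LD1_c2 LD2_c38 LD3_c50)) = (LP (LK LD1_c5 LD2_c24 LD3_c32)) :=
  Lre_c IH (LK LD1_c2 LD2_c38 LD3_c50) (LK LD1_c5 LD2_c24 LD3_c32) Lrfl Lrfl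
theorem f211339 : Led Lsl_dt (LP (LK LD1_c18 LD2_c18 LD3_c42)) = (LP (LK LD1_c10 LD2_c1 LD3_c11)) :=
  Lre_d IH (LK LD1_c18 LD2_c18 LD3_c42) (LK LD1_c10 LD2_c1 LD3_c11) Lrfl Lrfl
theorem f310528 : Led Lsl_gt (LP (LK LD1_c19 LD2_c18 LD3_c33)) = (LP (LK LD1_c18 LD2_c18 LD3_c42)) :=
  Lgr Lrot49 (Lpe (f310527 IH) (Lpe (K25.f310526 IH) (Lpe (f194586 IH) (Lpr_gt (K19.f194487 IH) (Lpr_dt (K19.f310520 IH) (Lpe (K19.f310516 IH) (Lpr_dt (K11.f211307 IH) (Lpe (f211338 IH) (Lpe (f211339 IH) (Lpn (LP (LK LD1_c18 LD2_c18 LD3_c42))))))))))))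
theorem f211334 : Led Lsl_dt (LP (LK LD1_c10 LD2_c1 LD3_c11)) = (LP (LK LD1_c18 LD2_c18 LD3_c42)) :=
  Lre_d IH (LK LD1_c10 LD2_c1 LD3_c11) (LK LD1_c18 LD2_c18 LD3_c42) Lrfl Lrfl
theorem f304058 : Led Lsl_ef (LP (LK LD1_c10 LD2_c15 LD3_c58)) = (LP (LK LD1_c10 LD2_c1 LD3_c11)) :=
  Lgr Lrot88 (Lpr_et (f304056 IH) (Lpn (LP (LK LD1_c10 LD2_c1 LD3_c11))))
theorem f316729 : Led Lsl_gt (LP (LK LD1_c10 LD2_c15 LD3_c58)) = (LP (LK LD1_c9 LD2_c0 LD3_c34)) :=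
  Lgr Lrot131 (Lpr_ef (f304058 IH) (Lpr_dt (f211334 IH) (Lpe (f310528 IH) (Lpe (f310527 IH) (Lpe (K25.f310526 IH) (Lpe (K25.f310536 IH) (Lpr_dt (K19.f194428 IH) (Lpr_gf (K20.f316710 IH) (Lpe (K22.f187044 IH) (Lpr_et (K20.f316728 IH) (Lpn (LP (LK LD1_c9 LD2_c0 LD3_c34)))))))))))))
theorem f304061 : Led Lsl_ft (LP (LK LD1_c10 LD2_c15 LD3_c58)) = (LP (LK LD1_c5 LD2_c12 LD3_c46)) :=
  Lre_f IH (LK LD1_c10 LD2_c15 LD3_c58) (LK LD1_c5 LD2_c12 LD3_c46) Lrfl Lrfl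
theorem f316903 : Led Lsl_at (LP (LK LD1_c5 LD2_c12 LD3_c46)) = (LP (LK LD1_c8 LD2_c38 LD3_c49)) :=
  Lgr Lrot26 (Lpe (f304061 IH) (Lpr_gt (f316729 IH) (Lpr_gt (K22.f316901 IH) (Lpn (LP (LK LD1_c8 LD2_c38 LD3_c49))))))
theorem f225604 : Led Lsl_dt (LP (LK LD1_c10 LD2_c15 LD3_c57)) = (LP (LK LD1_c5 LD2_c12 LD3_c46)) :=
  Lre_d IH (LK LD1_c10 LD2_c15 LD3_c57) (LK LD1_c5 LD2_c12 LD3_c46) Lrfl Lrfl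
theorem f316949 : Led Lsl_af (LP (LK LD1_c10 LD2_c15 LD3_c57)) = (LP (LK LD1_c16 LD2_c11 LD3_c46)) :=
  Lgr Lrot117 (Lpr_dt (f225604 IH) (Lpr_at (f316903 IH) (Lpr_dt (K23.f265321 IH) (Lpn (LP (LK LD1_c16 LD2_c11 LD3_c46))))))
theorem f316951 : Led Lsl_at (LP (LK LD1_c10 LD2_c15 LD3_c57)) = (LP (LK LD1_c16 LD2_c11 LD3_c46)) :=
  Lgr Lrot100 (Lpr_af (f316949 IH) (Lpn (LP (LK LD1_c16 LD2_c11 LD3_c46))))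
theorem f316961 : Led Lsl_ft (LP (LK LD1_c18 LD2_c40 LD3_c25)) = (LP (LK LD1_c10 LD2_c15 LD3_c57)) :=
  Lre_f IH (LK LD1_c18 LD2_c40 LD3_c25) (LK LD1_c10 LD2_c15 LD3_c57) Lrfl Lrfl
theorem f246987 : Led Lsl_dt (LP (LK LD1_c19 LD2_c55 LD3_c14)) = (LP (LK LD1_c11 LD2_c3 LD3_c21)) :=
  Lre_d IH (LK LD1_c19 LD2_c55 LD3_c14) (LK LD1_c11 LD2_c3 LD3_c21) Lrfl Lrfl
theorem f316679 : Led Lsl_ft (LP (LK LD1_c16 LD2_c11 LD3_c46)) = (LP (LK LD1_c19 LD2_c55 LD3_c14)) :=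
  Lgr Lrot54 (Lpe (K23.f265321 IH) (Lpr_ff (K20.f316666 IH) (Lpe (f246987 IH) (Lpn (LP (LK LD1_c19 LD2_c55 LD3_c14))))))
theorem f316962 : Led Lsl_af (LP (LK LD1_c18 LD2_c40 LD3_c25)) = (LP (LK LD1_c19 LD2_c55 LD3_c14)) :=
  Lgr Lrot45 (Lpr_ft (f316961 IH) (Lpr_at (f316951 IH) (Lpr_ft (f316679 IH) (Lpn (LP (LK LD1_c19 LD2_c55 LD3_c14))))))
theorem f316969 : Led Lsl_gf (LP (LK LD1_c18 LD2_c40 LD3_c25)) = (LP (LK LD1_c26 LD2_c8 LD3_c35)) :=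
  Lgr Lrot76 (Lpr_af (f316962 IH) (Lpe (f316679 IH) (Lpr_gt (K23.f316905 IH) (Lpn (LP (LK LD1_c26 LD2_c8 LD3_c35))))))
theorem f350109 : Led Lsl_df (LP (LK LD1_c26 LD2_c10 LD3_c20)) = (LP (LK LD1_c19 LD2_c54 LD3_c5)) :=
  Lgr Lrot38 (Lpr_dt (f350107 IH) (Lpn (LP (LK LD1_c19 LD2_c54 LD3_c5))))
theorem f212664 : Led Lsl_dt (LP (LK LD1_c9 LD2_c0 LD3_c31)) = (LP (LK LD1_c16 LD2_c49 LD3_c55)) :=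
  Lre_d IH (LK LD1_c9 LD2_c0 LD3_c31) (LK LD1_c16 LD2_c49 LD3_c55) Lrfl Lrfl
theorem f213460 : Led Lsl_at (LP (LK LD1_c16 LD2_c49 LD3_c55)) = (LP (LK LD1_c11 LD2_c2 LD3_c41)) :=
  Lgr Lrot51 (Lpe (f212664 IH) (Lpr_af (f213437 IH) (Lpe (f212908 IH) (Lpn (LP (LK LD1_c11 LD2_c2 LD3_c41))))))
theorem f31090 : Led Lsl_dt (LP (LK LD1_c8 LD2_c38 LD3_c47)) = (LP (LK LD1_c16 LD2_c11 LD3_c45)) :=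
  Lre_d IH (LK LD1_c8 LD2_c38 LD3_c47) (LK LD1_c16 LD2_c11 LD3_c45) Lrfl Lrfl
theorem f212683 : Led Lsl_dt (LP (LK LD1_c16 LD2_c49 LD3_c55)) = (LP (LK LD1_c9 LD2_c0 LD3_c31)) :=
  Lre_d IH (LK LD1_c16 LD2_c49 LD3_c55) (LK LD1_c9 LD2_c0 LD3_c31) Lrfl Lrfl
theorem f212684 : Led Lsl_ft (LP (LK LD1_c16 LD2_c11 LD3_c45)) = (LP (LK LD1_c16 LD2_c49 LD3_c55)) :=
  Lgr Lrot54 (Lpe (f31090 IH) (Lpr_ff (K14.f212675 IH) (Lpe (f212683 IH) (Lpn (LP (LK LD1_c16 LD2_c49 LD3_c55))))))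
theorem f213464 : Led Lsl_gt (LP (LK LD1_c16 LD2_c11 LD3_c45)) = (LP (LK LD1_c19 LD2_c54 LD3_c5)) :=
  Lgr Lrot5 (Lpr_ft (f212684 IH) (Lpr_at (f213460 IH) (Lpe (f212909 IH) (Lpn (LP (LK LD1_c19 LD2_c54 LD3_c5))))))
theorem f212922 : Led Lsl_gf (LP (LK LD1_c8 LD2_c38 LD3_c47)) = (LP (LK LD1_c11 LD2_c2 LD3_c39)) :=
  Lgr Lrot76 (Lpe (K20.f31836 IH) (Lpr_ff (K12.f212899 IH) (Lpr_gt (K24.f212921 IH) (Lpn (LP (LK LD1_c11 LD2_c2 LD3_c39))))))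
theorem f350114 : Led Lsl_cf (LP (LK LD1_c8 LD2_c39 LD3_c44)) = (LP (LK LD1_c11 LD2_c2 LD3_c39)) :=
  Lgr Lrot166 (Lpr_gt (K17.f31223 IH) (Lpe (K17.f31221 IH) (Lpr_gt (K17.f31235 IH) (Lpr_dt (K25.f31236 IH) (Lpr_ct (f31237 IH) (Lpr_df (f350109 IH) (Lpe (f213464 IH) (Lpe (f31090 IH) (Lpr_gf (f212922 IH) (Lpn (LP (LK LD1_c11 LD2_c2 LD3_c39))))))))))))
theorem f187954 : Led Lsl_et (LP (LK LD1_c8 LD2_c39 LD3_c44)) = (LP (LK LD1_c16 LD2_c13 LD3_c25)) :=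
  Lre_e IH (LK LD1_c8 LD2_c39 LD3_c44) (LK LD1_c16 LD2_c13 LD3_c25) Lrfl Lrfl
theorem f212928 : Led Lsl_et (LP (LK LD1_c19 LD2_c54 LD3_c1)) = (LP (LK LD1_c11 LD2_c2 LD3_c39)) :=
  Lre_e IH (LK LD1_c19 LD2_c54 LD3_c1) (LK LD1_c11 LD2_c2 LD3_c39) Lrfl Lrfl
theorem f350116 : Led Lsl_ct (LP (LK LD1_c16 LD2_c13 LD3_c25)) = (LP (LK LD1_c19 LD2_c54 LD3_c1)) :=
  Lgr Lrot15 (Lpe (f187954 IH) (Lpr_cf (f350114 IH) (Lpe (f212928 IH) (Lpn (LP (LK LD1_c19 LD2_c54 LD3_c1))))))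
theorem f187904 : Led Lsl_et (LP (LK LD1_c16 LD2_c10 LD3_c24)) = (LP (LK LD1_c8 LD2_c38 LD3_c5)) :=
  Lre_e IH (LK LD1_c16 LD2_c10 LD3_c24) (LK LD1_c8 LD2_c38 LD3_c5) Lrfl Lrfl
theorem f310553 : Led Lsl_dt (LP (LK LD1_c16 LD2_c10 LD3_c24)) = (LP (LK LD1_c17 LD2_c43 LD3_c18)) :=
  Lgr Lrot77 (Lpe (K21.f310552 IH) (Lpr_df (K19.f310518 IH) (Lpe (K19.f305506 IH) (Lpe (K19.f187949 IH) (Lpe (K23.f305507 IH) (Lpn (LP (LK LD1_c17 LD2_c43 LD3_c18))))))))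
theorem f187950 : Led Lsl_et (LP (LK LD1_c9 LD2_c37 LD3_c38)) = (LP (LK LD1_c17 LD2_c43 LD3_c18)) :=
  Lre_e IH (LK LD1_c9 LD2_c37 LD3_c38) (LK LD1_c17 LD2_c43 LD3_c18) Lrfl Lrfl
theorem f187951 : Led Lsl_gf (LP (LK LD1_c16 LD2_c13 LD3_c24)) = (LP (LK LD1_c17 LD2_c43 LD3_c18)) :=
  Lgr Lrot138 (Lpr_dt (K17.f31234 IH) (Lpr_gt (K17.f31223 IH) (Lpr_df (K17.f31221 IH) (Lpr_et (K10.f31209 IH) (Lpe (K10.f31421 IH) (Lpe (K19.f31423 IH) (Lpr_dt (K10.f187933 IH) (Lpr_gt (K19.f170726 IH) (Lpe (K19.f187949 IH) (Lpr_et (f187950 IH) (Lpn (LP (LK LD1_c17 LD2_c43 LD3_c18)))))))))))))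
theorem f187953 : Led Lsl_dt (LP (LK LD1_c8 LD2_c39 LD3_c44)) = (LP (LK LD1_c16 LD2_c13 LD3_c24)) :=
  Lre_d IH (LK LD1_c8 LD2_c39 LD3_c44) (LK LD1_c16 LD2_c13 LD3_c24) Lrfl Lrfl
theorem f330260 : Led Lsl_gt (LP (LK LD1_c16 LD2_c13 LD3_c25)) = (LP (LK LD1_c25 LD2_c1 LD3_c28)) :=
  Lgr Lrot137 (Lpe (f187954 IH) (Lpr_dt (f187953 IH) (Lpr_gf (f187951 IH) (Lpe (f310553 IH) (Lpr_et (f187904 IH) (Lpe (K19.f293314 IH) (Lpe (K20.f293336 IH) (Lpr_dt (K18.f269261 IH) (Lpr_gf (K23.f330256 IH) (Lpe (K19.f265352 IH) (Lpn (LP (LK LD1_c25 LD2_c1 LD3_c28)))))))))))))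
theorem f293343 : Led Lsl_dt (LP (LK LD1_c18 LD2_c40 LD3_c25)) = (LP (LK LD1_c10 LD2_c15 LD3_c58)) :=
  Lre_d IH (LK LD1_c18 LD2_c40 LD3_c25) (LK LD1_c10 LD2_c15 LD3_c58) Lrfl Lrfl
theorem f350120 : Led Lsl_gf (LP (LK LD1_c24 LD2_c52 LD3_c33)) = (LP (LK LD1_c19 LD2_c54 LD3_c1)) :=
  Lgr Lrot148 (Lpr_dt (K23.f316911 IH) (Lpe (f316969 IH) (Lpr_dt (f293343 IH) (Lpr_ct (K25.f293326 IH) (Lpe (K19.f269262 IH) (Lpr_gf (K23.f330256 IH) (Lpe (K19.f265352 IH) (Lpe (f330260 IH) (Lpr_ct (f350116 IH) (Lpn (LP (LK LD1_c19 LD2_c54 LD3_c1))))))))))))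
theorem f212976 : Led Lsl_et (LP (LK LD1_c11 LD2_c2 LD3_c39)) = (LP (LK LD1_c19 LD2_c54 LD3_c1)) :=
  Lre_e IH (LK LD1_c11 LD2_c2 LD3_c39) (LK LD1_c19 LD2_c54 LD3_c1) Lrfl Lrfl
theorem f212925 : Led Lsl_gt (LP (LK LD1_c29 LD2_c9 LD3_c40)) = (LP (LK LD1_c19 LD2_c54 LD3_c0)) :=
  Lre_g IH (LK LD1_c29 LD2_c9 LD3_c40) (LK LD1_c19 LD2_c54 LD3_c0) Lrfl Lrfl
theorem f360538 : Led Lsl_dt (LP (LK LD1_c26 LD2_c6 LD3_c33)) = (LP (LK LD1_c29 LD2_c9 LD3_c40)) :=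
  Lgr Lrot136 (Lpr_et (f360537 IH) (Lpr_gf (f360533 IH) (Lpe (f304056 IH) (Lpr_dt (f293345 IH) (Lpr_gf (f316969 IH) (Lpe (K23.f316911 IH) (Lpr_gf (f350120 IH) (Lpe (f212976 IH) (Lpr_dt (K24.f212927 IH) (Lpe (f212925 IH) (Lpn (LP (LK LD1_c29 LD2_c9 LD3_c40)))))))))))))
theorem f213754 : Led Lsl_dt (LP (LK LD1_c11 LD2_c2 LD3_c40)) = (LP (LK LD1_c19 LD2_c54 LD3_c3)) :=
  Lre_d IH (LK LD1_c11 LD2_c2 LD3_c40) (LK LD1_c19 LD2_c54 LD3_c3) Lrfl Lrfl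
theorem f360545 : Led Lsl_gt (LP (LK LD1_c19 LD2_c54 LD3_c3)) = (LP (LK LD1_c29 LD2_c9 LD3_c40)) :=
  Lgr Lrot139 (Lpe (f213754 IH) (Lpe (K20.f213752 IH) (Lpe (K20.f32007 IH) (Lpr_dt (K0.f31992 IH) (Lpe (K11.f201634 IH) (Lpr_df (K11.f201659 IH) (Lpr_et (f201662 IH) (Lpe (f360535 IH) (Lpe (f360537 IH) (Lpr_dt (f360538 IH) (Lpn (LP (LK LD1_c29 LD2_c9 LD3_c40)))))))))))))
theorem f189921 : Led Lsl_ct (LP (LK LD1_c16 LD2_c9 LD3_c50)) = (LP (LK LD1_c8 LD2_c37 LD3_c46)) :=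
  Lre_c IH (LK LD1_c16 LD2_c9 LD3_c50) (LK LD1_c8 LD2_c37 LD3_c46) Lrfl Lrfl
theorem f357574 : Led Lsl_ct (LP (LK LD1_c15 LD2_c9 LD3_c25)) = (LP (LK LD1_c8 LD2_c10 LD3_c23)) :=
  Lgr Lrot59 (Lpr_cf (f357569 IH) (Lpn (LP (LK LD1_c8 LD2_c10 LD3_c23))))
theorem f223405 : Led Lsl_ct (LP (LK LD1_c4 LD2_c1 LD3_c8)) = (LP (LK LD1_c8 LD2_c2 LD3_c61)) :=
  Lre_c IH (LK LD1_c4 LD2_c1 LD3_c8) (LK LD1_c8 LD2_c2 LD3_c61) Lrfl Lrfl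
theorem f358324 : Led Lsl_ct (LP (LK LD1_c10 LD2_c39 LD3_c45)) = (LP (LK LD1_c9 LD2_c43 LD3_c43)) :=
  Lgr Lrot110 (Lpe (K25.f310526 IH) (Lpe (f194586 IH) (Lpe (K19.f194483 IH) (Lpe (K19.f312156 IH) (Lpr_gt (K19.f211447 IH) (Lpr_ct (f223405 IH) (Lpr_gt (K25.f223408 IH) (Lpr_ct (f357574 IH) (Lpr_df (K25.f326995 IH) (Lpn (LP (LK LD1_c9 LD2_c43 LD3_c43))))))))))))
theorem f358327 : Led Lsl_cf (LP (LK LD1_c10 LD2_c39 LD3_c45)) = (LP (LK LD1_c9 LD2_c43 LD3_c43)) :=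
  Lgr Lrot11 (Lpr_ct (f358324 IH) (Lpn (LP (LK LD1_c9 LD2_c43 LD3_c43))))
theorem f310535 : Led Lsl_dt (LP (LK LD1_c19 LD2_c18 LD3_c33)) = (LP (LK LD1_c10 LD2_c39 LD3_c45)) :=
  Lre_d IH (LK LD1_c19 LD2_c18 LD3_c33) (LK LD1_c10 LD2_c39 LD3_c45) Lrfl Lrfl
theorem f360564 : Led Lsl_gf (LP (LK LD1_c19 LD2_c18 LD3_c33)) = (LP (LK LD1_c16 LD2_c10 LD3_c23)) :=
  Lgr Lrot143 (Lpr_dt (f310535 IH) (Lpr_cf (f358327 IH) (Lpe (K23.f326993 IH) (Lpe (K23.f189908 IH) (Lpe (K19.f189896 IH) (Lpe (K23.f32035 IH) (Lpe (f189921 IH) (Lpr_gt (f360535 IH) (Lpr_dt (f201663 IH) (Lpn (LP (LK LD1_c16 LD2_c10 LD3_c23))))))))))))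
theorem f310537 : Led Lsl_et (LP (LK LD1_c10 LD2_c39 LD3_c45)) = (LP (LK LD1_c19 LD2_c18 LD3_c34)) :=
  Lre_e IH (LK LD1_c10 LD2_c39 LD3_c45) (LK LD1_c19 LD2_c18 LD3_c34) Lrfl Lrfl
theorem f360566 : Led Lsl_gf (LP (LK LD1_c16 LD2_c16 LD3_c35)) = (LP (LK LD1_c19 LD2_c18 LD3_c34)) :=
  Lgr Lrot141 (Lpr_ef (K20.f275753 IH) (Lpr_dt (f213754 IH) (Lpr_gt (f360545 IH) (Lpe (f360538 IH) (Lpr_et (f360537 IH) (Lpr_gt (f360535 IH) (Lpr_dt (f201663 IH) (Lpe (f360564 IH) (Lpe (f310527 IH) (Lpr_et (f310537 IH) (Lpn (LP (LK LD1_c19 LD2_c18 LD3_c34)))))))))))))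
theorem f275755 : Led Lsl_gt (LP (LK LD1_c26 LD2_c14 LD3_c34)) = (LP (LK LD1_c17 LD2_c43 LD3_c29)) :=
  Lgr Lrot112 (Lpe (K20.f275744 IH) (Lpr_et (K20.f275745 IH) (Lpe (K20.f213752 IH) (Lpe (K20.f32007 IH) (Lpr_dt (K0.f31992 IH) (Lpe (K11.f201634 IH) (Lpr_df (K11.f201659 IH) (Lpe (K15.f241917 IH) (Lpr_ef (K17.f241924 IH) (Lpr_dt (K24.f239884 IH) (Lpn (LP (LK LD1_c17 LD2_c43 LD3_c29)))))))))))))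
theorem f239875 : Led Lsl_dt (LP (LK LD1_c9 LD2_c37 LD3_c49)) = (LP (LK LD1_c4 LD2_c52 LD3_c56)) :=
  Lre_d IH (LK LD1_c9 LD2_c37 LD3_c49) (LK LD1_c4 LD2_c52 LD3_c56) Lrfl Lrfl
theorem f255801 : Led Lsl_dt (LP (LK LD1_c10 LD2_c37 LD3_c31)) = (LP (LK LD1_c19 LD2_c14 LD3_c56)) :=
  Lre_d IH (LK LD1_c10 LD2_c37 LD3_c31) (LK LD1_c19 LD2_c14 LD3_c56) Lrfl Lrfl
theorem f279496 : Led Lsl_gt (LP (LK LD1_c19 LD2_c14 LD3_c56)) = (LP (LK LD1_c28 LD2_c40 LD3_c52)) :=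
  Lre_g IH (LK LD1_c19 LD2_c14 LD3_c56) (LK LD1_c28 LD2_c40 LD3_c52) Lrfl Lrfl
theorem f316736 : Led Lsl_df (LP (LK LD1_c19 LD2_c18 LD3_c34)) = (LP (LK LD1_c28 LD2_c40 LD3_c52)) :=
  Lgr Lrot38 (Lpr_dt (K25.f316733 IH) (Lpn (LP (LK LD1_c28 LD2_c40 LD3_c52))))
theorem f346604 : Led Lsl_ct (LP (LK LD1_c15 LD2_c49 LD3_c4)) = (LP (LK LD1_c19 LD2_c18 LD3_c34)) :=
  Lgr Lrot7 (Lpe (K23.f346576 IH) (Lpr_gf (K23.f346600 IH) (Lpe (K15.f199215 IH) (Lpr_gf (K22.f332759 IH) (Lpe (K18.f239866 IH) (Lpr_gt (K18.f300913 IH) (Lpr_dt (f255801 IH) (Lpr_gt (f279496 IH) (Lpe (f316736 IH) (Lpn (LP (LK LD1_c19 LD2_c18 LD3_c34))))))))))))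
theorem f360568 : Led Lsl_gf (LP (LK LD1_c9 LD2_c37 LD3_c49)) = (LP (LK LD1_c15 LD2_c49 LD3_c4)) :=
  Lgr Lrot144 (Lpr_dt (f239875 IH) (Lpr_gt (K22.f170378 IH) (Lpr_dt (K15.f2454 IH) (Lpe (K17.f239857 IH) (Lpe (K24.f239880 IH) (Lpe (f275755 IH) (Lpe (K20.f275744 IH) (Lpr_gf (f360566 IH) (Lpe (f346604 IH) (Lpn (LP (LK LD1_c15 LD2_c49 LD3_c4))))))))))))
theorem f346585 : Led Lsl_ef (LP (LK LD1_c15 LD2_c49 LD3_c4)) = (LP (LK LD1_c9 LD2_c43 LD3_c43)) :=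
  Lgr Lrot73 (Lpr_dt (K23.f212571 IH) (Lpr_et (K23.f346577 IH) (Lpr_dt (K23.f243723 IH) (Lpr_et (K23.f243720 IH) (Lpr_dt (K23.f326993 IH) (Lpn (LP (LK LD1_c9 LD2_c43 LD3_c43))))))))
theorem f347083 : Led Lsl_df (LP (LK LD1_c11 LD2_c2 LD3_c55)) = (LP (LK LD1_c16 LD2_c9 LD3_c51)) :=
  Lgr Lrot38 (Lpr_dt (K23.f347058 IH) (Lpn (LP (LK LD1_c16 LD2_c9 LD3_c51))))
theorem f180018 : Led Lsl_dt (LP (LK LD1_c4 LD2_c56 LD3_c31)) = (LP (LK LD1_c9 LD2_c44 LD3_c32)) :=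
  Lre_d IH (LK LD1_c4 LD2_c56 LD3_c31) (LK LD1_c9 LD2_c44 LD3_c32) Lrfl Lrfl
theorem f360540 : Led Lsl_df (LP (LK LD1_c26 LD2_c6 LD3_c33)) = (LP (LK LD1_c29 LD2_c9 LD3_c40)) :=
  Lgr Lrot38 (Lpr_dt (f360538 IH) (Lpn (LP (LK LD1_c29 LD2_c9 LD3_c40))))
theorem f347082 : Led Lsl_ct (LP (LK LD1_c16 LD2_c9 LD3_c51)) = (LP (LK LD1_c26 LD2_c6 LD3_c33)) :=
  Lre_c IH (LK LD1_c16 LD2_c9 LD3_c51) (LK LD1_c26 LD2_c6 LD3_c33) Lrfl Lrfl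
theorem f360547 : Led Lsl_gt (LP (LK LD1_c9 LD2_c44 LD3_c32)) = (LP (LK LD1_c11 LD2_c2 LD3_c55)) :=
  Lgr Lrot49 (Lpe (f180018 IH) (Lpr_gf (K22.f337964 IH) (Lpe (K14.f31087 IH) (Lpr_gt (K20.f213752 IH) (Lpr_dt (f213754 IH) (Lpr_gt (f360545 IH) (Lpe (f360540 IH) (Lpe (f347082 IH) (Lpe (K23.f347058 IH) (Lpn (LP (LK LD1_c11 LD2_c2 LD3_c55))))))))))))
theorem f360577 : Led Lsl_ef (LP (LK LD1_c9 LD2_c37 LD3_c49)) = (LP (LK LD1_c4 LD2_c56 LD3_c31)) :=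
  Lgr Lrot17 (Lpr_gf (f360568 IH) (Lpr_ef (f346585 IH) (Lpe (K25.f326995 IH) (Lpe (K23.f189908 IH) (Lpe (K19.f189896 IH) (Lpe (K23.f32035 IH) (Lpe (K23.f32036 IH) (Lpe (f347083 IH) (Lpe (f360547 IH) (Lpe (f180018 IH) (Lpn (LP (LK LD1_c4 LD2_c56 LD3_c31)))))))))))))
theorem f360579 : Led Lsl_bt (LP (LK LD1_c9 LD2_c37 LD3_c49)) = (LP (LK LD1_c4 LD2_c53 LD3_c27)) :=
  Lgr Lrot119 (Lpr_ef (f360577 IH) (Lpe (K22.f180005 IH) (Lpe (K13.f180003 IH) (Lpn (LP (LK LD1_c4 LD2_c53 LD3_c27))))))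
theorem f247152 : Led Lsl_ct (LP (LK LD1_c9 LD2_c37 LD3_c49)) = (LP (LK LD1_c17 LD2_c43 LD3_c27)) :=
  Lre_c IH (LK LD1_c9 LD2_c37 LD3_c49) (LK LD1_c17 LD2_c43 LD3_c27) Lrfl Lrfl
theorem f269917 : Led Lsl_at (LP (LK LD1_c4 LD2_c21 LD3_c49)) = (LP (LK LD1_c4 LD2_c53 LD3_c5)) :=
  Lgr Lrot100 (Lpr_af (K16.f269908 IH) (Lpn (LP (LK LD1_c4 LD2_c53 LD3_c5))))
theorem f326323 : Led Lsl_ft (LP (LK LD1_c8 LD2_c41 LD3_c17)) = (LP (LK LD1_c4 LD2_c21 LD3_c49)) :=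
  Lre_f IH (LK LD1_c8 LD2_c41 LD3_c17) (LK LD1_c4 LD2_c21 LD3_c49) Lrfl Lrfl
theorem f326324 : Led Lsl_gf (LP (LK LD1_c9 LD2_c37 LD3_c48)) = (LP (LK LD1_c8 LD2_c41 LD3_c17)) :=
  Lgr Lrot47 (Lpr_gt (K22.f326313 IH) (Lpe (f269917 IH) (Lpe (f326323 IH) (Lpn (LP (LK LD1_c8 LD2_c41 LD3_c17))))))
theorem f247157 : Led Lsl_ct (LP (LK LD1_c9 LD2_c37 LD3_c48)) = (LP (LK LD1_c4 LD2_c52 LD3_c56)) :=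
  Lre_c IH (LK LD1_c9 LD2_c37 LD3_c48) (LK LD1_c4 LD2_c52 LD3_c56) Lrfl Lrfl
theorem f247151 : Led Lsl_dt (LP (LK LD1_c4 LD2_c52 LD3_c56)) = (LP (LK LD1_c9 LD2_c37 LD3_c49)) :=
  Lre_d IH (LK LD1_c4 LD2_c52 LD3_c56) (LK LD1_c9 LD2_c37 LD3_c49) Lrfl Lrfl
theorem f247153 : Led Lsl_ct (LP (LK LD1_c17 LD2_c43 LD3_c27)) = (LP (LK LD1_c9 LD2_c37 LD3_c49)) :=
  Lre_c IH (LK LD1_c17 LD2_c43 LD3_c27) (LK LD1_c9 LD2_c37 LD3_c49) Lrfl Lrfl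
theorem f275901 : Led Lsl_ct (LP (LK LD1_c15 LD2_c20 LD3_c25)) = (LP (LK LD1_c25 LD2_c11 LD3_c43)) :=
  Lre_c IH (LK LD1_c15 LD2_c20 LD3_c25) (LK LD1_c25 LD2_c11 LD3_c43) Lrfl Lrfl
theorem f326326 : Led Lsl_gf (LP (LK LD1_c17 LD2_c43 LD3_c27)) = (LP (LK LD1_c25 LD2_c11 LD3_c43)) :=
  Lgr Lrot104 (Lpr_ct (f247153 IH) (Lpe (f247151 IH) (Lpe (f247157 IH) (Lpr_gf (f326324 IH) (Lpe (K16.f260451 IH) (Lpr_gf (K23.f269900 IH) (Lpe (K20.f269904 IH) (Lpr_gt (K20.f275896 IH) (Lpr_ct (f275901 IH) (Lpn (LP (LK LD1_c25 LD2_c11 LD3_c43))))))))))))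
theorem f29647 : Led Lsl_et (LP (LK LD1_c4 LD2_c0 LD3_c15)) = (LP (LK LD1_c1 LD2_c56 LD3_c54)) :=
  Lre_e IH (LK LD1_c4 LD2_c0 LD3_c15) (LK LD1_c1 LD2_c56 LD3_c54) Lrfl Lrfl
theorem f332778 : Led Lsl_gf (LP (LK LD1_c9 LD2_c34 LD3_c20)) = (LP (LK LD1_c8 LD2_c24 LD3_c49)) :=
  Lgr Lrot138 (Lpe (K15.f199235 IH) (Lpr_gt (K22.f332771 IH) (Lpr_df (K14.f247075 IH) (Lpr_et (f29647 IH) (Lpe (K12.f29644 IH) (Lpe (K0.f2410 IH) (Lpr_dt (K0.f2396 IH) (Lpr_gt (K19.f2415 IH) (Lpe (K19.f2424 IH) (Lpr_et (K23.f298948 IH) (Lpn (LP (LK LD1_c8 LD2_c24 LD3_c49)))))))))))))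
theorem f357015 : Led Lsl_gf (LP (LK LD1_c15 LD2_c48 LD3_c59)) = (LP (LK LD1_c16 LD2_c15 LD3_c55)) :=
  Lgr Lrot47 (Lpr_gt (K21.f212578 IH) (Lpr_af (K25.f357009 IH) (Lpe (K25.f356941 IH) (Lpn (LP (LK LD1_c16 LD2_c15 LD3_c55))))))
theorem f275902 : Led Lsl_ct (LP (LK LD1_c25 LD2_c11 LD3_c43)) = (LP (LK LD1_c15 LD2_c20 LD3_c25)) :=
  Lre_c IH (LK LD1_c25 LD2_c11 LD3_c43) (LK LD1_c15 LD2_c20 LD3_c25) Lrfl Lrfl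
theorem f359281 : Led Lsl_gt (LP (LK LD1_c17 LD2_c43 LD3_c24)) = (LP (LK LD1_c25 LD2_c11 LD3_c43)) :=
  Lgr Lrot150 (Lpe (f170360 IH) (Lpr_gf (f359277 IH) (Lpe (K23.f170937 IH) (Lpe (f332778 IH) (Lpe (K25.f356936 IH) (Lpe (f357015 IH) (Lpe (K21.f270368 IH) (Lpe (K20.f275894 IH) (Lpe (f275902 IH) (Lpn (LP (LK LD1_c25 LD2_c11 LD3_c43))))))))))))
theorem f330151 : Led Lsl_df (LP (LK LD1_c10 LD2_c50 LD3_c2)) = (LP (LK LD1_c8 LD2_c16 LD3_c41)) :=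
  Lgr Lrot38 (Lpr_dt (K23.f330146 IH) (Lpn (LP (LK LD1_c8 LD2_c16 LD3_c41))))
theorem f330214 : Led Lsl_bt (LP (LK LD1_c10 LD2_c50 LD3_c2)) = (LP (LK LD1_c15 LD2_c56 LD3_c4)) :=
  Lgr Lrot95 (Lpr_df (f330151 IH) (Lpr_bf (K20.f298905 IH) (Lpr_df (K20.f323230 IH) (Lpn (LP (LK LD1_c15 LD2_c56 LD3_c4))))))
theorem f359283 : Led Lsl_bt (LP (LK LD1_c15 LD2_c20 LD3_c25)) = (LP (LK LD1_c8 LD2_c57 LD3_c59)) :=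
  Lgr Lrot22 (Lpr_ct (f275901 IH) (Lpe (f359281 IH) (Lpe (f170360 IH) (Lpr_gf (f359277 IH) (Lpe (K23.f343746 IH) (Lpe (K23.f301113 IH) (Lpe (f340858 IH) (Lpe (f330160 IH) (Lpr_bt (f330214 IH) (Lpe (K20.f323246 IH) (Lpn (LP (LK LD1_c8 LD2_c57 LD3_c59)))))))))))))
theorem f342203 : Led Lsl_gf (LP (LK LD1_c4 LD2_c56 LD3_c32)) = (LP (LK LD1_c5 LD2_c36 LD3_c60)) :=
  Lgr Lrot138 (Lpr_dt (K13.f54884 IH) (Lpr_gt (K13.f41111 IH) (Lpe (K9.f41323 IH) (Lpr_et (K1.f41093 IH) (Lpe (K13.f238311 IH) (Lpe (K23.f54864 IH) (Lpe (K23.f342183 IH) (Lpr_gt (K23.f178203 IH) (Lpe (K23.f342194 IH) (Lpr_et (K23.f342196 IH) (Lpn (LP (LK LD1_c5 LD2_c36 LD3_c60)))))))))))))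
theorem f306913 : Led Lsl_dt (LP (LK LD1_c2 LD2_c44 LD3_c4)) = (LP (LK LD1_c4 LD2_c52 LD3_c18)) :=
  Lgr Lrot77 (Lpe (K19.f178458 IH) (Lpe (K25.f178461 IH) (Lpr_ef (K19.f306908 IH) (Lpe (K21.f306911 IH) (Lpe (K19.f306912 IH) (Lpn (LP (LK LD1_c4 LD2_c52 LD3_c18))))))))
theorem f2394 : Led Lsl_et (LP (LK LD1_c1 LD2_c9 LD3_c27)) = (LP (LK LD1_c0 LD2_c31 LD3_c56)) :=
  Lre_e IH (LK LD1_c1 LD2_c9 LD3_c27) (LK LD1_c0 LD2_c31 LD3_c56) Lrfl Lrfl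
theorem f2467 : Led Lsl_ff (LP (LK LD1_c1 LD2_c9 LD3_c4)) = (LP (LK LD1_c1 LD2_c9 LD3_c27)) :=
  Lgr Lrot25 (Lpr_bt (K0.f1531 IH) (Lpr_ft (K1.f2461 IH) (Lpr_bt (K0.f2395 IH) (Lpn (LP (LK LD1_c1 LD2_c9 LD3_c27))))))
theorem f2777 : Led Lsl_gf (LP (LK LD1_c1 LD2_c9 LD3_c27)) = (LP (LK LD1_c2 LD2_c24 LD3_c41)) :=
  Lgr Lrot76 (Lpe (K0.f2386 IH) (Lpr_ff (f2467 IH) (Lpr_gt (K21.f2398 IH) (Lpn (LP (LK LD1_c2 LD2_c24 LD3_c41))))))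
theorem f2401 : Led Lsl_dt (LP (LK LD1_c4 LD2_c53 LD3_c45)) = (LP (LK LD1_c2 LD2_c24 LD3_c41)) :=
  Lre_d IH (LK LD1_c4 LD2_c53 LD3_c45) (LK LD1_c2 LD2_c24 LD3_c41) Lrfl Lrfl
theorem f166730 : Led Lsl_et (LP (LK LD1_c2 LD2_c3 LD3_c39)) = (LP (LK LD1_c4 LD2_c12 LD3_c52)) :=
  Lre_e IH (LK LD1_c2 LD2_c3 LD3_c39) (LK LD1_c4 LD2_c12 LD3_c52) Lrfl Lrfl
theorem f306973 : Led Lsl_gf (LP (LK LD1_c4 LD2_c53 LD3_c45)) = (LP (LK LD1_c4 LD2_c12 LD3_c52)) :=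
  Lgr Lrot138 (Lpr_dt (f2401 IH) (Lpe (f2777 IH) (Lpr_df (K0.f2392 IH) (Lpr_et (f2394 IH) (Lpe (K13.f2861 IH) (Lpe (K19.f2800 IH) (Lpr_dt (K19.f306960 IH) (Lpr_gt (K25.f21329 IH) (Lpr_df (K25.f166728 IH) (Lpr_et (f166730 IH) (Lpn (LP (LK LD1_c4 LD2_c12 LD3_c52)))))))))))))
theorem f306975 : Led Lsl_gt (LP (LK LD1_c4 LD2_c53 LD3_c46)) = (LP (LK LD1_c4 LD2_c52 LD3_c18)) :=
  Lgr Lrot137 (Lpe (K25.f171368 IH) (Lpr_dt (K25.f2399 IH) (Lpr_gf (f306973 IH) (Lpe (K25.f171350 IH) (Lpr_et (K25.f171362 IH) (Lpr_gf (K19.f304983 IH) (Lpe (K18.f301704 IH) (Lpr_dt (K19.f301701 IH) (Lpe (K19.f305098 IH) (Lpr_df (K19.f306918 IH) (Lpn (LP (LK LD1_c4 LD2_c52 LD3_c18)))))))))))))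
theorem f358450 : Led Lsl_gt (LP (LK LD1_c4 LD2_c53 LD3_c27)) = (LP (LK LD1_c8 LD2_c11 LD3_c58)) :=
  Lgr Lrot131 (Lpr_ef (K22.f180008 IH) (Lpr_dt (K13.f54879 IH) (Lpr_gf (f342203 IH) (Lpe (K23.f177880 IH) (Lpr_gf (f358448 IH) (Lpe (K19.f178463 IH) (Lpr_dt (f306913 IH) (Lpe (f306975 IH) (Lpr_df (K21.f237989 IH) (Lpr_et (K25.f237991 IH) (Lpn (LP (LK LD1_c8 LD2_c11 LD3_c58)))))))))))))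
theorem f295006 : Led Lsl_bt (LP (LK LD1_c1 LD2_c16 LD3_c37)) = (LP (LK LD1_c2 LD2_c39 LD3_c39)) :=
  Lre_b IH (LK LD1_c1 LD2_c16 LD3_c37) (LK LD1_c2 LD2_c39 LD3_c39) Lrfl Lrfl
theorem f267655 : Led Lsl_ct (LP (LK LD1_c1 LD2_c16 LD3_c37)) = (LP (LK LD1_c2 LD2_c39 LD3_c42)) :=
  Lre_c IH (LK LD1_c1 LD2_c16 LD3_c37) (LK LD1_c2 LD2_c39 LD3_c42) Lrfl Lrfl
theorem f245937 : Led Lsl_gt (LP (LK LD1_c5 LD2_c26 LD3_c36)) = (LP (LK LD1_c2 LD2_c39 LD3_c42)) :=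
  Lre_g IH (LK LD1_c5 LD2_c26 LD3_c36) (LK LD1_c2 LD2_c39 LD3_c42) Lrfl Lrfl
theorem f188101 : Led Lsl_ct (LP (LK LD1_c8 LD2_c15 LD3_c42)) = (LP (LK LD1_c8 LD2_c11 LD3_c41)) :=
  Lgr Lrot59 (Lpr_cf (K17.f188069 IH) (Lpn (LP (LK LD1_c8 LD2_c11 LD3_c41))))
theorem f348649 : Led Lsl_gf (LP (LK LD1_c4 LD2_c5 LD3_c30)) = (LP (LK LD1_c4 LD2_c6 LD3_c58)) :=
  Lgr Lrot124 (Lpr_bf (K21.f328185 IH) (Lpr_ct (K21.f322262 IH) (Lpe (K21.f322274 IH) (Lpe (f188101 IH) (Lpr_bt (K21.f308691 IH) (Lpr_gt (K19.f255582 IH) (Lpr_ct (K23.f348638 IH) (Lpe (K23.f348645 IH) (Lpe (K22.f315802 IH) (Lpr_bt (K22.f315804 IH) (Lpn (LP (LK LD1_c4 LD2_c6 LD3_c58)))))))))))))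
theorem f348651 : Led Lsl_cf (LP (LK LD1_c5 LD2_c26 LD3_c36)) = (LP (LK LD1_c4 LD2_c5 LD3_c30)) :=
  Lgr Lrot125 (Lpr_gt (f245937 IH) (Lpe (f267655 IH) (Lpr_bt (f295006 IH) (Lpr_gt (K21.f285597 IH) (Lpe (K23.f348622 IH) (Lpr_ct (K23.f348638 IH) (Lpe (K23.f348645 IH) (Lpe (K22.f315802 IH) (Lpr_bt (K22.f315804 IH) (Lpe (f348649 IH) (Lpn (LP (LK LD1_c4 LD2_c5 LD3_c30)))))))))))))
theorem f348656 : Led Lsl_et (LP (LK LD1_c5 LD2_c26 LD3_c36)) = (LP (LK LD1_c10 LD2_c44 LD3_c24)) :=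
  Lre_e IH (LK LD1_c5 LD2_c26 LD3_c36) (LK LD1_c10 LD2_c44 LD3_c24) Lrfl Lrfl
theorem f237983 : Led Lsl_et (LP (LK LD1_c8 LD2_c11 LD3_c58)) = (LP (LK LD1_c4 LD2_c5 LD3_c30)) :=
  Lre_e IH (LK LD1_c8 LD2_c11 LD3_c58) (LK LD1_c4 LD2_c5 LD3_c30) Lrfl Lrfl
theorem f348657 : Led Lsl_ct (LP (LK LD1_c10 LD2_c44 LD3_c24)) = (LP (LK LD1_c8 LD2_c11 LD3_c58)) :=
  Lgr Lrot15 (Lpe (f348656 IH) (Lpr_cf (f348651 IH) (Lpe (f237983 IH) (Lpn (LP (LK LD1_c8 LD2_c11 LD3_c58))))))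
theorem f348666 : Led Lsl_cf (LP (LK LD1_c10 LD2_c44 LD3_c24)) = (LP (LK LD1_c8 LD2_c11 LD3_c58)) :=
  Lgr Lrot11 (Lpr_ct (f348657 IH) (Lpn (LP (LK LD1_c8 LD2_c11 LD3_c58))))
theorem f245960 : Led Lsl_dt (LP (LK LD1_c5 LD2_c39 LD3_c44)) = (LP (LK LD1_c2 LD2_c45 LD3_c47)) :=
  Lre_d IH (LK LD1_c5 LD2_c39 LD3_c44) (LK LD1_c2 LD2_c45 LD3_c47) Lrfl Lrfl
theorem f306862 : Led Lsl_gt (LP (LK LD1_c11 LD2_c10 LD3_c39)) = (LP (LK LD1_c5 LD2_c39 LD3_c44)) :=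
  Lre_g IH (LK LD1_c11 LD2_c10 LD3_c39) (LK LD1_c5 LD2_c39 LD3_c44) Lrfl Lrfl
theorem f175263 : Led Lsl_dt (LP (LK LD1_c5 LD2_c30 LD3_c41)) = (LP (LK LD1_c2 LD2_c41 LD3_c33)) :=
  Lre_d IH (LK LD1_c5 LD2_c30 LD3_c41) (LK LD1_c2 LD2_c41 LD3_c33) Lrfl Lrfl
theorem f179959 : Led Lsl_dt (LP (LK LD1_c2 LD2_c45 LD3_c50)) = (LP (LK LD1_c5 LD2_c39 LD3_c47)) :=
  Lre_d IH (LK LD1_c2 LD2_c45 LD3_c50) (LK LD1_c5 LD2_c39 LD3_c47) Lrfl Lrfl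
theorem f331112 : Led Lsl_ff (LP (LK LD1_c5 LD2_c30 LD3_c41)) = (LP (LK LD1_c5 LD2_c39 LD3_c47)) :=
  Lgr Lrot19 (Lpr_dt (f175263 IH) (Lpr_ft (K25.f331106 IH) (Lpr_dt (f179959 IH) (Lpn (LP (LK LD1_c5 LD2_c39 LD3_c47))))))
theorem f306853 : Led Lsl_af (LP (LK LD1_c5 LD2_c30 LD3_c41)) = (LP (LK LD1_c5 LD2_c39 LD3_c44)) :=
  Lgr Lrot117 (Lpr_dt (f175263 IH) (Lpr_at (K19.f306847 IH) (Lpr_dt (K21.f245962 IH) (Lpn (LP (LK LD1_c5 LD2_c39 LD3_c44))))))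
theorem f306855 : Led Lsl_at (LP (LK LD1_c5 LD2_c30 LD3_c41)) = (LP (LK LD1_c5 LD2_c39 LD3_c44)) :=
  Lgr Lrot100 (Lpr_af (f306853 IH) (Lpn (LP (LK LD1_c5 LD2_c39 LD3_c44))))
theorem f331128 : Led Lsl_gf (LP (LK LD1_c11 LD2_c10 LD3_c39)) = (LP (LK LD1_c5 LD2_c39 LD3_c47)) :=
  Lgr Lrot47 (Lpr_gt (f306862 IH) (Lpe (f306855 IH) (Lpr_ff (f331112 IH) (Lpn (LP (LK LD1_c5 LD2_c39 LD3_c47))))))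
theorem f245812 : Led Lsl_ct (LP (LK LD1_c8 LD2_c22 LD3_c28)) = (LP (LK LD1_c4 LD2_c11 LD3_c21)) :=
  Lre_c IH (LK LD1_c8 LD2_c22 LD3_c28) (LK LD1_c4 LD2_c11 LD3_c21) Lrfl Lrfl
theorem f331130 : Led Lsl_dt (LP (LK LD1_c11 LD2_c10 LD3_c39)) = (LP (LK LD1_c8 LD2_c22 LD3_c28)) :=
  Lgr Lrot105 (Lpr_gf (f331128 IH) (Lpe (f179959 IH) (Lpe (K22.f331065 IH) (Lpe (K22.f245803 IH) (Lpr_gt (K13.f245808 IH) (Lpr_dt (K21.f167688 IH) (Lpr_gt (K20.f167685 IH) (Lpr_dt (K22.f179760 IH) (Lpe (f245812 IH) (Lpn (LP (LK LD1_c8 LD2_c22 LD3_c28))))))))))))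
theorem f331135 : Led Lsl_df (LP (LK LD1_c11 LD2_c10 LD3_c39)) = (LP (LK LD1_c8 LD2_c22 LD3_c28)) :=
  Lgr Lrot38 (Lpr_dt (f331130 IH) (Lpn (LP (LK LD1_c8 LD2_c22 LD3_c28))))
theorem f355200 : Led Lsl_gt (LP (LK LD1_c10 LD2_c44 LD3_c24)) = (LP (LK LD1_c8 LD2_c22 LD3_c28)) :=
  Lgr Lrot94 (Lpr_cf (f348666 IH) (Lpr_gt (K25.f355175 IH) (Lpr_dt (K25.f180002 IH) (Lpe (K25.f331160 IH) (Lpe (K25.f306901 IH) (Lpe (K19.f245968 IH) (Lpe (f245960 IH) (Lpe (f306862 IH) (Lpr_df (f331135 IH) (Lpn (LP (LK LD1_c8 LD2_c22 LD3_c28))))))))))))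
theorem f245814 : Led Lsl_ct (LP (LK LD1_c4 LD2_c11 LD3_c21)) = (LP (LK LD1_c8 LD2_c22 LD3_c28)) :=
  Lre_c IH (LK LD1_c4 LD2_c11 LD3_c21) (LK LD1_c8 LD2_c22 LD3_c28) Lrfl Lrfl
theorem f360728 : Led Lsl_gf (LP (LK LD1_c8 LD2_c57 LD3_c59)) = (LP (LK LD1_c8 LD2_c22 LD3_c27)) :=
  Lgr Lrot124 (Lpe (f359283 IH) (Lpr_ct (f275901 IH) (Lpe (f326326 IH) (Lpe (f247152 IH) (Lpr_bt (f360579 IH) (Lpr_gt (f358450 IH) (Lpe (f348666 IH) (Lpr_gt (f355200 IH) (Lpe (f245814 IH) (Lpr_bt (K22.f309733 IH) (Lpn (LP (LK LD1_c8 LD2_c22 LD3_c27)))))))))))))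
theorem f335527 : Led Lsl_gf (LP (LK LD1_c4 LD2_c11 LD3_c20)) = (LP (LK LD1_c4 LD2_c15 LD3_c28)) :=
  Lgr Lrot47 (Lpr_gt (K22.f335525 IH) (Lpe (K16.f270510 IH) (Lpe (K16.f250749 IH) (Lpn (LP (LK LD1_c4 LD2_c15 LD3_c28))))))
theorem f262980 : Led Lsl_dt (LP (LK LD1_c2 LD2_c5 LD3_c6)) = (LP (LK LD1_c2 LD2_c40 LD3_c61)) :=
  Lgr Lrot105 (Lpe (K16.f807 IH) (Lpe (K10.f767 IH) (Lpe (K10.f785 IH) (Lpe (K10.f187226 IH) (Lpr_gt (K10.f188919 IH) (Lpr_dt (K12.f32315 IH) (Lpr_gt (K15.f262978 IH) (Lpr_dt (K17.f221426 IH) (Lpr_cf (K15.f259238 IH) (Lpn (LP (LK LD1_c2 LD2_c40 LD3_c61))))))))))))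
theorem f243369 : Led Lsl_gt (LP (LK LD1_c8 LD2_c30 LD3_c15)) = (LP (LK LD1_c4 LD2_c15 LD3_c38)) :=
  Lre_g IH (LK LD1_c8 LD2_c30 LD3_c15) (LK LD1_c4 LD2_c15 LD3_c38) Lrfl Lrfl
theorem f360730 : Led Lsl_et (LP (LK LD1_c8 LD2_c17 LD3_c21)) = (LP (LK LD1_c8 LD2_c30 LD3_c15)) :=
  Lgr Lrot185 (Lpr_dt (K20.f301539 IH) (Lpr_gf (f360728 IH) (Lpe (K22.f309759 IH) (Lpr_gf (f335527 IH) (Lpe (K16.f250740 IH) (Lpr_dt (f262980 IH) (Lpe (K15.f257934 IH) (Lpr_df (K18.f262855 IH) (Lpr_et (K18.f263149 IH) (Lpe (f243369 IH) (Lpn (LP (LK LD1_c8 LD2_c30 LD3_c15)))))))))))))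
theorem f360739 : Led Lsl_gt (LP (LK LD1_c5 LD2_c30 LD3_c17)) = (LP (LK LD1_c8 LD2_c30 LD3_c15)) :=
  Lgr Lrot131 (Lpr_ef (K21.f295823 IH) (Lpe (K21.f294988 IH) (Lpe (K25.f339227 IH) (Lpr_df (K25.f282563 IH) (Lpr_gf (K21.f282565 IH) (Lpr_ef (K20.f250738 IH) (Lpr_dt (K20.f323244 IH) (Lpe (K20.f323246 IH) (Lpe (K20.f301539 IH) (Lpr_et (f360730 IH) (Lpn (LP (LK LD1_c8 LD2_c30 LD3_c15)))))))))))))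
theorem f360735 : Led Lsl_df (LP (LK LD1_c5 LD2_c32 LD3_c30)) = (LP (LK LD1_c8 LD2_c30 LD3_c15)) :=
  Lgr Lrot70 (Lpr_et (f213271 IH) (Lpr_dt (K21.f317926 IH) (Lpr_et (K20.f301541 IH) (Lpe (K20.f301536 IH) (Lpr_et (f360730 IH) (Lpn (LP (LK LD1_c8 LD2_c30 LD3_c15))))))))
theorem f330158 : Led Lsl_ct (LP (LK LD1_c10 LD2_c56 LD3_c48)) = (LP (LK LD1_c5 LD2_c32 LD3_c30)) :=
  Lre_c IH (LK LD1_c10 LD2_c56 LD3_c48) (LK LD1_c5 LD2_c32 LD3_c30) Lrfl Lrfl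
theorem f348320 : Led Lsl_dt (LP (LK LD1_c19 LD2_c46 LD3_c25)) = (LP (LK LD1_c10 LD2_c56 LD3_c48)) :=
  Lre_d IH (LK LD1_c19 LD2_c46 LD3_c25) (LK LD1_c10 LD2_c56 LD3_c48) Lrfl Lrfl
theorem f360741 : Led Lsl_gt (LP (LK LD1_c25 LD2_c31 LD3_c23)) = (LP (LK LD1_c19 LD2_c46 LD3_c25)) :=
  Lgr Lrot49 (Lpe (f317566 IH) (Lpe (K21.f331178 IH) (Lpe (K21.f282906 IH) (Lpr_gt (K21.f298837 IH) (Lpr_dt (K25.f295748 IH) (Lpr_gt (f360739 IH) (Lpe (f360735 IH) (Lpe (f330158 IH) (Lpe (f348320 IH) (Lpn (LP (LK LD1_c19 LD2_c46 LD3_c25))))))))))))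
theorem f298822 : Led Lsl_ct (LP (LK LD1_c19 LD2_c35 LD3_c32)) = (LP (LK LD1_c10 LD2_c50 LD3_c14)) :=
  Lre_c IH (LK LD1_c19 LD2_c35 LD3_c32) (LK LD1_c10 LD2_c50 LD3_c14) Lrfl Lrfl
theorem f323402 : Led Lsl_gt (LP (LK LD1_c28 LD2_c57 LD3_c29)) = (LP (LK LD1_c19 LD2_c35 LD3_c32)) :=
  Lre_g IH (LK LD1_c28 LD2_c57 LD3_c29) (LK LD1_c19 LD2_c35 LD3_c32) Lrfl Lrfl
theorem f360866 : Led Lsl_cf (LP (LK LD1_c28 LD2_c57 LD3_c29)) = (LP (LK LD1_c19 LD2_c46 LD3_c25)) :=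
  Lgr Lrot169 (Lpr_gt (f323402 IH) (Lpr_ct (f298822 IH) (Lpe (K23.f266350 IH) (Lpe (K21.f266375 IH) (Lpe (K21.f323369 IH) (Lpe (K20.f238571 IH) (Lpe (K20.f321599 IH) (Lpe (f317561 IH) (Lpr_gt (f360741 IH) (Lpn (LP (LK LD1_c19 LD2_c46 LD3_c25))))))))))))
theorem f360876 : Led Lsl_ct (LP (LK LD1_c28 LD2_c57 LD3_c29)) = (LP (LK LD1_c19 LD2_c46 LD3_c25)) :=
  Lgr Lrot59 (Lpr_cf (f360866 IH) (Lpn (LP (LK LD1_c19 LD2_c46 LD3_c25))))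
theorem f266398 : Led Lsl_gt (LP (LK LD1_c19 LD2_c38 LD3_c19)) = (LP (LK LD1_c28 LD2_c57 LD3_c29)) :=
  Lre_g IH (LK LD1_c19 LD2_c38 LD3_c19) (LK LD1_c28 LD2_c57 LD3_c29) Lrfl Lrfl
theorem f266397 : Led Lsl_ct (LP (LK LD1_c10 LD2_c51 LD3_c45)) = (LP (LK LD1_c19 LD2_c38 LD3_c19)) :=
  Lre_c IH (LK LD1_c10 LD2_c51 LD3_c45) (LK LD1_c19 LD2_c38 LD3_c19) Lrfl Lrfl
theorem f360574 : Led Lsl_et (LP (LK LD1_c4 LD2_c52 LD3_c56)) = (LP (LK LD1_c9 LD2_c37 LD3_c50)) :=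
  Lre_e IH (LK LD1_c4 LD2_c52 LD3_c56) (LK LD1_c9 LD2_c37 LD3_c50) Lrfl Lrfl
theorem f180019 : Led Lsl_et (LP (LK LD1_c8 LD2_c37 LD3_c40)) = (LP (LK LD1_c9 LD2_c44 LD3_c32)) :=
  Lgr Lrot87 (Lpr_ef (K22.f180013 IH) (Lpn (LP (LK LD1_c9 LD2_c44 LD3_c32))))
theorem f360583 : Led Lsl_dt (LP (LK LD1_c9 LD2_c37 LD3_c50)) = (LP (LK LD1_c8 LD2_c37 LD3_c40)) :=
  Lgr Lrot77 (Lpe (f360574 IH) (Lpe (f239875 IH) (Lpr_ef (f360577 IH) (Lpe (K22.f180021 IH) (Lpe (f180019 IH) (Lpn (LP (LK LD1_c8 LD2_c37 LD3_c40))))))))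
theorem f360587 : Led Lsl_bf (LP (LK LD1_c9 LD2_c37 LD3_c50)) = (LP (LK LD1_c4 LD2_c53 LD3_c28)) :=
  Lgr Lrot93 (Lpr_dt (f360583 IH) (Lpr_bt (K22.f179979 IH) (Lpr_dt (K13.f179976 IH) (Lpn (LP (LK LD1_c4 LD2_c53 LD3_c28))))))
theorem f200570 : Led Lsl_et (LP (LK LD1_c9 LD2_c37 LD3_c50)) = (LP (LK LD1_c4 LD2_c52 LD3_c56)) :=
  Lre_e IH (LK LD1_c9 LD2_c37 LD3_c50) (LK LD1_c4 LD2_c52 LD3_c56) Lrfl Lrfl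
theorem f360647 : Led Lsl_bt (LP (LK LD1_c4 LD2_c52 LD3_c56)) = (LP (LK LD1_c2 LD2_c24 LD3_c31)) :=
  Lgr Lrot119 (Lpe (f200570 IH) (Lpr_bf (f360587 IH) (Lpe (K22.f179978 IH) (Lpn (LP (LK LD1_c2 LD2_c24 LD3_c31))))))
theorem f360649 : Led Lsl_bf (LP (LK LD1_c9 LD2_c37 LD3_c49)) = (LP (LK LD1_c4 LD2_c53 LD3_c27)) :=
  Lgr Lrot93 (Lpr_dt (f239875 IH) (Lpr_bt (f360647 IH) (Lpr_dt (K13.f167024 IH) (Lpn (LP (LK LD1_c4 LD2_c53 LD3_c27))))))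
theorem f199234 : Led Lsl_ct (LP (LK LD1_c15 LD2_c22 LD3_c55)) = (LP (LK LD1_c8 LD2_c10 LD3_c4)) :=
  Lre_c IH (LK LD1_c15 LD2_c22 LD3_c55) (LK LD1_c8 LD2_c10 LD3_c4) Lrfl Lrfl
theorem f199416 : Led Lsl_et (LP (LK LD1_c8 LD2_c10 LD3_c4)) = (LP (LK LD1_c5 LD2_c35 LD3_c23)) :=
  Lgr Lrot158 (Lpe (f199234 IH) (Lpr_ef (K25.f199410 IH) (Lpe (K25.f189225 IH) (Lpn (LP (LK LD1_c5 LD2_c35 LD3_c23))))))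
theorem f360585 : Led Lsl_gt (LP (LK LD1_c9 LD2_c37 LD3_c49)) = (LP (LK LD1_c15 LD2_c49 LD3_c1)) :=
  Lgr Lrot137 (Lpr_ef (f360577 IH) (Lpr_dt (f180018 IH) (Lpr_gf (f357599 IH) (Lpe (K23.f189173 IH) (Lpr_et (K23.f189193 IH) (Lpe (K24.f189192 IH) (Lpe (f199416 IH) (Lpr_dt (K15.f199215 IH) (Lpr_gf (f332778 IH) (Lpe (K19.f212618 IH) (Lpn (LP (LK LD1_c15 LD2_c49 LD3_c1)))))))))))))
theorem f241679 : Led Lsl_af (LP (LK LD1_c14 LD2_c57 LD3_c39)) = (LP (LK LD1_c8 LD2_c41 LD3_c52)) :=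
  Lgr Lrot0 (Lpr_at (K22.f241677 IH) (Lpn (LP (LK LD1_c8 LD2_c41 LD3_c52))))
theorem f353304 : Led Lsl_gt (LP (LK LD1_c4 LD2_c22 LD3_c2)) = (LP (LK LD1_c8 LD2_c41 LD3_c18)) :=
  Lgr Lrot5 (Lpr_ft (K16.f241682 IH) (Lpe (f241679 IH) (Lpr_gf (K25.f353302 IH) (Lpn (LP (LK LD1_c8 LD2_c41 LD3_c18))))))
theorem f179989 : Led Lsl_ct (LP (LK LD1_c1 LD2_c0 LD3_c8)) = (LP (LK LD1_c2 LD2_c6 LD3_c14)) :=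
  Lre_c IH (LK LD1_c1 LD2_c0 LD3_c8) (LK LD1_c2 LD2_c6 LD3_c14) Lrfl Lrfl
theorem f335712 : Led Lsl_bt (LP (LK LD1_c2 LD2_c24 LD3_c31)) = (LP (LK LD1_c4 LD2_c52 LD3_c56)) :=
  Lgr Lrot92 (Lpe (K25.f179968 IH) (Lpr_gt (K25.f170189 IH) (Lpe (f179989 IH) (Lpr_bt (K25.f179990 IH) (Lpr_gt (K19.f7964 IH) (Lpr_ct (K22.f179992 IH) (Lpr_gt (K22.f179993 IH) (Lpr_cf (K22.f335704 IH) (Lpr_bt (K16.f247127 IH) (Lpe (K22.f247149 IH) (Lpn (LP (LK LD1_c4 LD2_c52 LD3_c56)))))))))))))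
theorem f353318 : Led Lsl_gt (LP (LK LD1_c4 LD2_c11 LD3_c19)) = (LP (LK LD1_c4 LD2_c17 LD3_c52)) :=
  Lgr Lrot65 (Lpe (K18.f299443 IH) (Lpr_bt (K19.f289034 IH) (Lpe (K22.f299461 IH) (Lpr_bf (K25.f353308 IH) (Lpr_ct (K25.f255606 IH) (Lpe (f353304 IH) (Lpe (K25.f270839 IH) (Lpe (K22.f170378 IH) (Lpe (f335712 IH) (Lpe (K25.f179968 IH) (Lpn (LP (LK LD1_c4 LD2_c17 LD3_c52)))))))))))))
theorem f276166 : Led Lsl_ct (LP (LK LD1_c2 LD2_c42 LD3_c37)) = (LP (LK LD1_c5 LD2_c32 LD3_c52)) :=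
  Lre_c IH (LK LD1_c2 LD2_c42 LD3_c37) (LK LD1_c5 LD2_c32 LD3_c52) Lrfl Lrfl
theorem f179965 : Led Lsl_ct (LP (LK LD1_c4 LD2_c17 LD3_c52)) = (LP (LK LD1_c2 LD2_c24 LD3_c31)) :=
  Lgr Lrot8 (Lpr_gt (K25.f170189 IH) (Lpr_dt (K25.f167303 IH) (Lpe (K25.f179737 IH) (Lpr_dt (K25.f178402 IH) (Lpe (K22.f179740 IH) (Lpe (K22.f178086 IH) (Lpe (K13.f171765 IH) (Lpr_df (K13.f179847 IH) (Lpe (K13.f167018 IH) (Lpn (LP (LK LD1_c2 LD2_c24 LD3_c31))))))))))))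
theorem f320410 : Led Lsl_ct (LP (LK LD1_c8 LD2_c59 LD3_c43)) = (LP (LK LD1_c4 LD2_c53 LD3_c27)) :=
  Lgr Lrot7 (Lpr_df (K22.f320403 IH) (Lpe (K22.f320389 IH) (Lpe (K22.f320211 IH) (Lpe (K20.f320304 IH) (Lpe (K20.f179970 IH) (Lpr_gt (K19.f171489 IH) (Lpr_dt (K22.f305700 IH) (Lpr_gt (K22.f307047 IH) (Lpr_dt (K13.f167024 IH) (Lpn (LP (LK LD1_c4 LD2_c53 LD3_c27))))))))))))
theorem f353320 : Led Lsl_gt (LP (LK LD1_c5 LD2_c32 LD3_c52)) = (LP (LK LD1_c8 LD2_c59 LD3_c43)) :=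
  Lgr Lrot150 (Lpe (f276166 IH) (Lpe (K22.f333721 IH) (Lpe (K22.f7923 IH) (Lpe (K22.f321163 IH) (Lpr_ct (K18.f299443 IH) (Lpr_gt (f353318 IH) (Lpr_ct (f179965 IH) (Lpe (K13.f167023 IH) (Lpe (f320410 IH) (Lpn (LP (LK LD1_c8 LD2_c59 LD3_c43))))))))))))
theorem f333672 : Led Lsl_bt (LP (LK LD1_c8 LD2_c34 LD3_c47)) = (LP (LK LD1_c4 LD2_c17 LD3_c56)) :=
  Lre_b IH (LK LD1_c8 LD2_c34 LD3_c47) (LK LD1_c4 LD2_c17 LD3_c56) Lrfl Lrfl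
theorem f316225 : Led Lsl_ct (LP (LK LD1_c8 LD2_c34 LD3_c47)) = (LP (LK LD1_c16 LD2_c5 LD3_c57)) :=
  Lre_c IH (LK LD1_c8 LD2_c34 LD3_c47) (LK LD1_c16 LD2_c5 LD3_c57) Lrfl Lrfl
theorem f360651 : Led Lsl_gt (LP (LK LD1_c21 LD2_c0 LD3_c24)) = (LP (LK LD1_c16 LD2_c5 LD3_c57)) :=
  Lgr Lrot65 (Lpr_cf (K23.f301113 IH) (Lpr_bt (K23.f343746 IH) (Lpe (f360585 IH) (Lpr_bf (f360649 IH) (Lpe (K22.f320412 IH) (Lpe (f353320 IH) (Lpe (f276166 IH) (Lpe (K22.f333721 IH) (Lpe (f333672 IH) (Lpr_ct (f316225 IH) (Lpn (LP (LK LD1_c16 LD2_c5 LD3_c57)))))))))))))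
theorem f316226 : Led Lsl_ct (LP (LK LD1_c16 LD2_c5 LD3_c57)) = (LP (LK LD1_c8 LD2_c34 LD3_c47)) :=
  Lre_c IH (LK LD1_c16 LD2_c5 LD3_c57) (LK LD1_c8 LD2_c34 LD3_c47) Lrfl Lrfl
theorem f360885 : Led Lsl_gt (LP (LK LD1_c8 LD2_c34 LD3_c47)) = (LP (LK LD1_c5 LD2_c32 LD3_c30)) :=
  Lgr Lrot150 (Lpe (f316226 IH) (Lpe (f360651 IH) (Lpr_df (K23.f300971 IH) (Lpr_gt (f245817 IH) (Lpr_ct (f266397 IH) (Lpr_gt (f266398 IH) (Lpr_ct (f360876 IH) (Lpe (f348321 IH) (Lpe (f330159 IH) (Lpn (LP (LK LD1_c5 LD2_c32 LD3_c30))))))))))))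
theorem f360748 : Led Lsl_dt (LP (LK LD1_c5 LD2_c32 LD3_c30)) = (LP (LK LD1_c8 LD2_c30 LD3_c15)) :=
  Lgr Lrot37 (Lpr_et (f213271 IH) (Lpr_gt (K20.f213270 IH) (Lpr_dt (K20.f258843 IH) (Lpr_gt (K23.f347992 IH) (Lpe (K23.f347982 IH) (Lpe (K23.f283074 IH) (Lpe (K23.f301427 IH) (Lpe (K25.f309493 IH) (Lpr_dt (K25.f295748 IH) (Lpr_gt (f360739 IH) (Lpn (LP (LK LD1_c8 LD2_c30 LD3_c15)))))))))))))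
theorem f266373 : Led Lsl_ct (LP (LK LD1_c5 LD2_c29 LD3_c27)) = (LP (LK LD1_c2 LD2_c40 LD3_c60)) :=
  Lre_c IH (LK LD1_c5 LD2_c29 LD3_c27) (LK LD1_c2 LD2_c40 LD3_c60) Lrfl Lrfl
theorem f266372 : Led Lsl_dt (LP (LK LD1_c10 LD2_c50 LD3_c14)) = (LP (LK LD1_c5 LD2_c29 LD3_c27)) :=
  Lre_d IH (LK LD1_c10 LD2_c50 LD3_c14) (LK LD1_c5 LD2_c29 LD3_c27) Lrfl Lrfl
theorem f360887 : Led Lsl_gt (LP (LK LD1_c16 LD2_c5 LD3_c57)) = (LP (LK LD1_c10 LD2_c56 LD3_c36)) :=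
  Lgr Lrot94 (Lpe (f316225 IH) (Lpr_gt (f360885 IH) (Lpr_dt (f360748 IH) (Lpr_gt (f243369 IH) (Lpe (K21.f263150 IH) (Lpe (f266373 IH) (Lpe (f266372 IH) (Lpe (K23.f266351 IH) (Lpr_df (K23.f266354 IH) (Lpn (LP (LK LD1_c10 LD2_c56 LD3_c36))))))))))))
theorem f325376 : Led Lsl_bt (LP (LK LD1_c11 LD2_c53 LD3_c25)) = (LP (LK LD1_c6 LD2_c6 LD3_c15)) :=
  Lgr Lrot95 (Lpr_df (K21.f325374 IH) (Lpe (K21.f179780 IH) (Lpr_df (K13.f179778 IH) (Lpn (LP (LK LD1_c6 LD2_c6 LD3_c15))))))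
theorem f325378 : Led Lsl_ct (LP (LK LD1_c11 LD2_c53 LD3_c25)) = (LP (LK LD1_c20 LD2_c57 LD3_c1)) :=
  Lre_c IH (LK LD1_c11 LD2_c53 LD3_c25) (LK LD1_c20 LD2_c57 LD3_c1) Lrfl Lrfl
theorem f266363 : Led Lsl_ct (LP (LK LD1_c19 LD2_c45 LD3_c56)) = (LP (LK LD1_c10 LD2_c56 LD3_c36)) :=
  Lre_c IH (LK LD1_c19 LD2_c45 LD3_c56) (LK LD1_c10 LD2_c56 LD3_c36) Lrfl Lrfl
theorem f271006 : Led Lsl_et (LP (LK LD1_c15 LD2_c51 LD3_c43)) = (LP (LK LD1_c25 LD2_c47 LD3_c27)) :=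
  Lre_e IH (LK LD1_c15 LD2_c51 LD3_c43) (LK LD1_c25 LD2_c47 LD3_c27) Lrfl Lrfl
theorem f295137 : Led Lsl_bt (LP (LK LD1_c25 LD2_c47 LD3_c27)) = (LP (LK LD1_c19 LD2_c45 LD3_c56)) :=
  Lgr Lrot119 (Lpe (f271006 IH) (Lpr_bf (K25.f295132 IH) (Lpe (K23.f295136 IH) (Lpn (LP (LK LD1_c19 LD2_c45 LD3_c56))))))
theorem f295139 : Led Lsl_bf (LP (LK LD1_c25 LD2_c47 LD3_c27)) = (LP (LK LD1_c19 LD2_c45 LD3_c56)) :=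
  Lgr Lrot24 (Lpr_bt (f295137 IH) (Lpn (LP (LK LD1_c19 LD2_c45 LD3_c56))))
theorem f356811 : Led Lsl_gt (LP (LK LD1_c25 LD2_c47 LD3_c27)) = (LP (LK LD1_c24 LD2_c54 LD3_c46)) :=
  Lgr Lrot137 (Lpe (f271006 IH) (Lpr_dt (K25.f352662 IH) (Lpr_gf (K25.f356806 IH) (Lpe (K25.f220782 IH) (Lpr_et (K22.f192293 IH) (Lpe (K14.f252142 IH) (Lpe (K23.f247136 IH) (Lpr_dt (K20.f247080 IH) (Lpe (K21.f247139 IH) (Lpe (K23.f247140 IH) (Lpn (LP (LK LD1_c24 LD2_c54 LD3_c46)))))))))))))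
theorem f41594 : Led Lsl_gt (LP (LK LD1_c8 LD2_c55 LD3_c34)) = (LP (LK LD1_c4 LD2_c28 LD3_c40)) :=
  Lre_g IH (LK LD1_c8 LD2_c55 LD3_c34) (LK LD1_c4 LD2_c28 LD3_c40) Lrfl Lrfl
theorem f312587 : Led Lsl_bt (LP (LK LD1_c15 LD2_c25 LD3_c57)) = (LP (LK LD1_c8 LD2_c11 LD3_c51)) :=
  Lre_b IH (LK LD1_c15 LD2_c25 LD3_c57) (LK LD1_c8 LD2_c11 LD3_c51) Lrfl Lrfl
theorem f340380 : Led Lsl_cf (LP (LK LD1_c8 LD2_c55 LD3_c34)) = (LP (LK LD1_c15 LD2_c25 LD3_c57)) :=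
  Lgr Lrot160 (Lpr_gt (f41594 IH) (Lpe (K1.f41561 IH) (Lpr_bt (K22.f8611 IH) (Lpr_gt (K18.f8620 IH) (Lpr_ct (K23.f8625 IH) (Lpr_gt (K23.f340345 IH) (Lpe (K9.f55303 IH) (Lpr_bt (K21.f55052 IH) (Lpr_gt (K21.f173585 IH) (Lpe (f312587 IH) (Lpn (LP (LK LD1_c15 LD2_c25 LD3_c57)))))))))))))
theorem f340391 : Led Lsl_ct (LP (LK LD1_c8 LD2_c55 LD3_c34)) = (LP (LK LD1_c15 LD2_c25 LD3_c57)) :=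
  Lgr Lrot59 (Lpr_cf (f340380 IH) (Lpn (LP (LK LD1_c15 LD2_c25 LD3_c57))))
theorem f340397 : Led Lsl_et (LP (LK LD1_c16 LD2_c42 LD3_c32)) = (LP (LK LD1_c8 LD2_c55 LD3_c34)) :=
  Lre_e IH (LK LD1_c16 LD2_c42 LD3_c32) (LK LD1_c8 LD2_c55 LD3_c34) Lrfl Lrfl
theorem f341014 : Led Lsl_cf (LP (LK LD1_c16 LD2_c42 LD3_c32)) = (LP (LK LD1_c24 LD2_c54 LD3_c46)) :=
  Lgr Lrot39 (Lpr_et (f340397 IH) (Lpr_ct (f340391 IH) (Lpr_et (K23.f341010 IH) (Lpn (LP (LK LD1_c24 LD2_c54 LD3_c46))))))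
theorem f360976 : Led Lsl_gf (LP (LK LD1_c20 LD2_c57 LD3_c1)) = (LP (LK LD1_c16 LD2_c42 LD3_c32)) :=
  Lgr Lrot129 (Lpe (f325378 IH) (Lpr_bt (f325376 IH) (Lpe (K22.f333667 IH) (Lpe (f333672 IH) (Lpr_ct (f316225 IH) (Lpr_gt (f360887 IH) (Lpe (f266363 IH) (Lpe (f295139 IH) (Lpr_gt (f356811 IH) (Lpe (f341014 IH) (Lpn (LP (LK LD1_c16 LD2_c42 LD3_c32)))))))))))))
theorem f325373 : Led Lsl_ct (LP (LK LD1_c20 LD2_c57 LD3_c1)) = (LP (LK LD1_c11 LD2_c53 LD3_c25)) :=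
  Lre_c IH (LK LD1_c20 LD2_c57 LD3_c1) (LK LD1_c11 LD2_c53 LD3_c25) Lrfl Lrfl
theorem f179824 : Led Lsl_ct (LP (LK LD1_c16 LD2_c3 LD3_c47)) = (LP (LK LD1_c8 LD2_c33 LD3_c27)) :=
  Lre_c IH (LK LD1_c16 LD2_c3 LD3_c47) (LK LD1_c8 LD2_c33 LD3_c27) Lrfl Lrfl
theorem f360978 : Led Lsl_gf (LP (LK LD1_c16 LD2_c3 LD3_c47)) = (LP (LK LD1_c8 LD2_c33 LD3_c54)) :=
  Lgr Lrot104 (Lpr_ct (f179824 IH) (Lpe (K21.f325369 IH) (Lpe (f325373 IH) (Lpr_gf (f360976 IH) (Lpr_cf (f341014 IH) (Lpe (f356811 IH) (Lpr_df (K25.f271004 IH) (Lpr_gt (K25.f179651 IH) (Lpr_ct (K20.f179637 IH) (Lpn (LP (LK LD1_c8 LD2_c33 LD3_c54))))))))))))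
theorem f179825 : Led Lsl_ct (LP (LK LD1_c8 LD2_c35 LD3_c50)) = (LP (LK LD1_c16 LD2_c7 LD3_c10)) :=
  Lre_c IH (LK LD1_c8 LD2_c35 LD3_c50) (LK LD1_c16 LD2_c7 LD3_c10) Lrfl Lrfl
theorem f179826 : Led Lsl_ef (LP (LK LD1_c16 LD2_c3 LD3_c47)) = (LP (LK LD1_c16 LD2_c7 LD3_c10)) :=
  Lgr Lrot28 (Lpr_ct (f179824 IH) (Lpr_et (K21.f179822 IH) (Lpr_ct (f179825 IH) (Lpn (LP (LK LD1_c16 LD2_c7 LD3_c10))))))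
theorem f288837 : Led Lsl_dt (LP (LK LD1_c4 LD2_c17 LD3_c60)) = (LP (LK LD1_c8 LD2_c34 LD3_c52)) :=
  Lre_d IH (LK LD1_c4 LD2_c17 LD3_c60) (LK LD1_c8 LD2_c34 LD3_c52) Lrfl Lrfl
theorem f318088 : Led Lsl_gt (LP (LK LD1_c4 LD2_c11 LD3_c3)) = (LP (LK LD1_c4 LD2_c17 LD3_c60)) :=
  Lgr Lrot150 (Lpr_cf (K12.f219820 IH) (Lpe (K13.f219185 IH) (Lpe (K13.f189255 IH) (Lpe (K18.f278430 IH) (Lpe (K20.f318074 IH) (Lpr_gt (K20.f318084 IH) (Lpr_ct (K18.f187545 IH) (Lpr_df (K18.f300766 IH) (Lpe (K18.f288833 IH) (Lpn (LP (LK LD1_c4 LD2_c17 LD3_c60))))))))))))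
theorem f219853 : Led Lsl_gt (LP (LK LD1_c25 LD2_c41 LD3_c12)) = (LP (LK LD1_c15 LD2_c44 LD3_c42)) :=
  Lre_g IH (LK LD1_c25 LD2_c41 LD3_c12) (LK LD1_c15 LD2_c44 LD3_c42) Lrfl Lrfl
theorem f360982 : Led Lsl_dt (LP (LK LD1_c16 LD2_c7 LD3_c10)) = (LP (LK LD1_c25 LD2_c41 LD3_c12)) :=
  Lgr Lrot136 (Lpe (f179826 IH) (Lpr_gf (f360978 IH) (Lpe (K20.f179623 IH) (Lpe (K22.f336268 IH) (Lpr_gf (K18.f303304 IH) (Lpe (f288837 IH) (Lpe (f318088 IH) (Lpe (K18.f219822 IH) (Lpr_dt (K23.f219847 IH) (Lpe (f219853 IH) (Lpn (LP (LK LD1_c25 LD2_c41 LD3_c12)))))))))))))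
theorem f348560 : Led Lsl_gt (LP (LK LD1_c9 LD2_c36 LD3_c30)) = (LP (LK LD1_c10 LD2_c50 LD3_c17)) :=
  Lgr Lrot46 (Lpr_gf (K25.f348558 IH) (Lpe (K20.f219426 IH) (Lpr_at (K12.f218110 IH) (Lpn (LP (LK LD1_c10 LD2_c50 LD3_c17))))))
theorem f355714 : Led Lsl_gt (LP (LK LD1_c25 LD2_c39 LD3_c0)) = (LP (LK LD1_c17 LD2_c44 LD3_c57)) :=
  Lgr Lrot137 (Lpe (f355713 IH) (Lpr_dt (f355707 IH) (Lpr_gf (K25.f355681 IH) (Lpe (K17.f282097 IH) (Lpr_et (K16.f270873 IH) (Lpe (K19.f270888 IH) (Lpe (K18.f188775 IH) (Lpr_dt (K20.f188776 IH) (Lpe (K20.f322614 IH) (Lpe (K20.f299342 IH) (Lpn (LP (LK LD1_c17 LD2_c44 LD3_c57)))))))))))))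
theorem f229566 : Led Lsl_et (LP (LK LD1_c24 LD2_c45 LD3_c47)) = (LP (LK LD1_c14 LD2_c58 LD3_c12)) :=
  Lre_e IH (LK LD1_c24 LD2_c45 LD3_c47) (LK LD1_c14 LD2_c58 LD3_c12) Lrfl Lrfl
theorem f355719 : Led Lsl_gf (LP (LK LD1_c20 LD2_c2 LD3_c28)) = (LP (LK LD1_c17 LD2_c44 LD3_c58)) :=
  Lgr Lrot138 (Lpr_dt (K20.f200553 IH) (Lpr_gt (K20.f297767 IH) (Lpr_df (K20.f295918 IH) (Lpe (K18.f297697 IH) (Lpr_gt (K23.f266229 IH) (Lpe (f229566 IH) (Lpe (f355709 IH) (Lpr_gt (f355714 IH) (Lpe (K21.f299348 IH) (Lpr_et (K25.f299343 IH) (Lpn (LP (LK LD1_c17 LD2_c44 LD3_c58)))))))))))))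
theorem f352221 : Led Lsl_ct (LP (LK LD1_c19 LD2_c23 LD3_c30)) = (LP (LK LD1_c21 LD2_c2 LD3_c1)) :=
  Lgr Lrot59 (Lpr_cf (K25.f352219 IH) (Lpn (LP (LK LD1_c21 LD2_c2 LD3_c1))))
theorem f42362 : Led Lsl_dt (LP (LK LD1_c10 LD2_c42 LD3_c53)) = (LP (LK LD1_c19 LD2_c23 LD3_c37)) :=
  Lre_d IH (LK LD1_c10 LD2_c42 LD3_c53) (LK LD1_c19 LD2_c23 LD3_c37) Lrfl Lrfl
theorem f276773 : Led Lsl_et (LP (LK LD1_c10 LD2_c42 LD3_c53)) = (LP (LK LD1_c10 LD2_c35 LD3_c56)) :=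
  Lgr Lrot158 (Lpe (K25.f41505 IH) (Lpr_ef (K16.f276765 IH) (Lpe (K20.f276767 IH) (Lpn (LP (LK LD1_c10 LD2_c35 LD3_c56))))))
theorem f228663 : Led Lsl_et (LP (LK LD1_c2 LD2_c37 LD3_c60)) = (LP (LK LD1_c5 LD2_c22 LD3_c56)) :=
  Lre_e IH (LK LD1_c2 LD2_c37 LD3_c60) (LK LD1_c5 LD2_c22 LD3_c56) Lrfl Lrfl
theorem f224445 : Led Lsl_dt (LP (LK LD1_c10 LD2_c31 LD3_c30)) = (LP (LK LD1_c19 LD2_c4 LD3_c26)) :=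
  Lre_d IH (LK LD1_c10 LD2_c31 LD3_c30) (LK LD1_c19 LD2_c4 LD3_c26) Lrfl Lrfl
theorem f305459 : Led Lsl_gt (LP (LK LD1_c19 LD2_c23 LD3_c37)) = (LP (LK LD1_c19 LD2_c4 LD3_c26)) :=
  Lgr Lrot112 (Lpe (f42362 IH) (Lpr_et (f276773 IH) (Lpr_gf (K20.f305457 IH) (Lpe (f228663 IH) (Lpr_dt (K15.f217925 IH) (Lpr_gf (K15.f264026 IH) (Lpe (K12.f42164 IH) (Lpr_gf (K12.f224437 IH) (Lpe (K20.f224444 IH) (Lpr_dt (f224445 IH) (Lpn (LP (LK LD1_c19 LD2_c4 LD3_c26)))))))))))))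
theorem f224552 : Led Lsl_dt (LP (LK LD1_c19 LD2_c4 LD3_c26)) = (LP (LK LD1_c10 LD2_c31 LD3_c30)) :=
  Lre_d IH (LK LD1_c19 LD2_c4 LD3_c26) (LK LD1_c10 LD2_c31 LD3_c30) Lrfl Lrfl
theorem f352225 : Led Lsl_gt (LP (LK LD1_c21 LD2_c2 LD3_c1)) = (LP (LK LD1_c20 LD2_c2 LD3_c29)) :=
  Lgr Lrot94 (Lpe (f352221 IH) (Lpr_gt (K25.f352223 IH) (Lpr_dt (f42362 IH) (Lpr_gt (f305459 IH) (Lpr_dt (f224552 IH) (Lpe (K20.f224540 IH) (Lpr_df (K20.f224228 IH) (Lpe (K20.f224433 IH) (Lpe (K20.f264048 IH) (Lpn (LP (LK LD1_c20 LD2_c2 LD3_c29))))))))))))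
theorem f264050 : Led Lsl_df (LP (LK LD1_c20 LD2_c2 LD3_c29)) = (LP (LK LD1_c17 LD2_c35 LD3_c52)) :=
  Lgr Lrot38 (Lpr_dt (K20.f264048 IH) (Lpn (LP (LK LD1_c17 LD2_c35 LD3_c52))))
theorem f321189 : Led Lsl_et (LP (LK LD1_c15 LD2_c28 LD3_c26)) = (LP (LK LD1_c25 LD2_c20 LD3_c37)) :=
  Lre_e IH (LK LD1_c15 LD2_c28 LD3_c26) (LK LD1_c25 LD2_c20 LD3_c37) Lrfl Lrfl
theorem f352262 : Led Lsl_gt (LP (LK LD1_c27 LD2_c23 LD3_c59)) = (LP (LK LD1_c25 LD2_c20 LD3_c37)) :=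
  Lgr Lrot131 (Lpe (K20.f264053 IH) (Lpe (f264050 IH) (Lpe (f352225 IH) (Lpe (K25.f313198 IH) (Lpr_gf (K25.f352260 IH) (Lpr_ef (K25.f341074 IH) (Lpe (K25.f345727 IH) (Lpr_gf (K25.f345729 IH) (Lpe (K25.f182743 IH) (Lpr_et (f321189 IH) (Lpn (LP (LK LD1_c25 LD2_c20 LD3_c37)))))))))))))
theorem f345578 : Led Lsl_et (LP (LK LD1_c19 LD2_c16 LD3_c32)) = (LP (LK LD1_c25 LD2_c44 LD3_c17)) :=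
  Lgr Lrot87 (Lpr_ef (K25.f345571 IH) (Lpn (LP (LK LD1_c25 LD2_c44 LD3_c17))))
theorem f355725 : Led Lsl_gt (LP (LK LD1_c25 LD2_c44 LD3_c17)) = (LP (LK LD1_c24 LD2_c45 LD3_c47)) :=
  Lgr Lrot137 (Lpe (f345578 IH) (Lpr_dt (K25.f345563 IH) (Lpe (f352262 IH) (Lpe (K21.f322670 IH) (Lpr_et (K20.f322672 IH) (Lpr_gf (f355719 IH) (Lpe (K25.f299343 IH) (Lpr_dt (K21.f299348 IH) (Lpe (f355714 IH) (Lpr_df (f355709 IH) (Lpn (LP (LK LD1_c24 LD2_c45 LD3_c47)))))))))))))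
theorem f355729 : Led Lsl_dt (LP (LK LD1_c25 LD2_c39 LD3_c0)) = (LP (LK LD1_c24 LD2_c45 LD3_c47)) :=
  Lgr Lrot56 (Lpr_et (f355696 IH) (Lpr_gt (f355690 IH) (Lpe (K21.f199631 IH) (Lpr_dt (K13.f199612 IH) (Lpr_gt (K12.f218112 IH) (Lpe (K12.f212828 IH) (Lpr_et (K12.f212831 IH) (Lpr_gt (K25.f219541 IH) (Lpr_dt (K25.f219543 IH) (Lpr_gt (f355725 IH) (Lpn (LP (LK LD1_c24 LD2_c45 LD3_c47)))))))))))))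
theorem f348547 : Led Lsl_gf (LP (LK LD1_c15 LD2_c30 LD3_c5)) = (LP (LK LD1_c15 LD2_c25 LD3_c8)) :=
  Lgr Lrot47 (Lpr_gt (K23.f348545 IH) (Lpe (K21.f324756 IH) (Lpe (K21.f182960 IH) (Lpn (LP (LK LD1_c15 LD2_c25 LD3_c8))))))
theorem f314659 : Led Lsl_bt (LP (LK LD1_c17 LD2_c41 LD3_c46)) = (LP (LK LD1_c9 LD2_c36 LD3_c33)) :=
  Lre_b IH (LK LD1_c17 LD2_c41 LD3_c46) (LK LD1_c9 LD2_c36 LD3_c33) Lrfl Lrfl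
theorem f314660 : Led Lsl_dt (LP (LK LD1_c15 LD2_c30 LD3_c5)) = (LP (LK LD1_c17 LD2_c41 LD3_c46)) :=
  Lgr Lrot79 (Lpe (K23.f314658 IH) (Lpr_df (K20.f314656 IH) (Lpe (f314659 IH) (Lpn (LP (LK LD1_c17 LD2_c41 LD3_c46))))))
theorem f238205 : Led Lsl_dt (LP (LK LD1_c16 LD2_c50 LD3_c1)) = (LP (LK LD1_c26 LD2_c47 LD3_c17)) :=
  Lre_d IH (LK LD1_c16 LD2_c50 LD3_c1) (LK LD1_c26 LD2_c47 LD3_c17) Lrfl Lrfl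
theorem f351526 : Led Lsl_gt (LP (LK LD1_c17 LD2_c41 LD3_c46)) = (LP (LK LD1_c26 LD2_c47 LD3_c17)) :=
  Lgr Lrot139 (Lpe (f314660 IH) (Lpr_gf (f348547 IH) (Lpr_ef (K25.f351520 IH) (Lpe (K10.f187279 IH) (Lpr_gf (K25.f339468 IH) (Lpe (K24.f216315 IH) (Lpr_et (K24.f216317 IH) (Lpr_gf (K25.f292531 IH) (Lpe (K21.f324119 IH) (Lpr_dt (f238205 IH) (Lpn (LP (LK LD1_c26 LD2_c47 LD3_c17)))))))))))))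
theorem f305531 : Led Lsl_dt (LP (LK LD1_c9 LD2_c36 LD3_c30)) = (LP (LK LD1_c17 LD2_c41 LD3_c45)) :=
  Lre_d IH (LK LD1_c9 LD2_c36 LD3_c30) (LK LD1_c17 LD2_c41 LD3_c45) Lrfl Lrfl
theorem f355735 : Led Lsl_gf (LP (LK LD1_c17 LD2_c41 LD3_c45)) = (LP (LK LD1_c24 LD2_c45 LD3_c47)) :=
  Lgr Lrot145 (Lpe (f305531 IH) (Lpr_et (K25.f305532 IH) (Lpr_gt (f351526 IH) (Lpr_dt (K20.f238206 IH) (Lpr_gt (K21.f324113 IH) (Lpe (K20.f322152 IH) (Lpr_et (K20.f322154 IH) (Lpe (f355692 IH) (Lpe (f355696 IH) (Lpr_dt (f355729 IH) (Lpn (LP (LK LD1_c24 LD2_c45 LD3_c47)))))))))))))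
theorem f349860 : Led Lsl_et (LP (LK LD1_c8 LD2_c33 LD3_c13)) = (LP (LK LD1_c16 LD2_c3 LD3_c26)) :=
  Lre_e IH (LK LD1_c8 LD2_c33 LD3_c13) (LK LD1_c16 LD2_c3 LD3_c26) Lrfl Lrfl
theorem f349861 : Led Lsl_ct (LP (LK LD1_c16 LD2_c3 LD3_c26)) = (LP (LK LD1_c24 LD2_c45 LD3_c47)) :=
  Lgr Lrot15 (Lpe (f349860 IH) (Lpr_cf (K23.f349853 IH) (Lpe (f229566 IH) (Lpn (LP (LK LD1_c24 LD2_c45 LD3_c47))))))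
theorem f360986 : Led Lsl_gf (LP (LK LD1_c16 LD2_c7 LD3_c10)) = (LP (LK LD1_c16 LD2_c3 LD3_c26)) :=
  Lgr Lrot144 (Lpr_dt (f360982 IH) (Lpr_gt (f219853 IH) (Lpr_dt (K25.f219849 IH) (Lpr_cf (K18.f219823 IH) (Lpr_df (K23.f212832 IH) (Lpe (f348560 IH) (Lpe (K25.f305529 IH) (Lpr_gf (f355735 IH) (Lpe (f349861 IH) (Lpn (LP (LK LD1_c16 LD2_c3 LD3_c26))))))))))))
theorem f349858 : Led Lsl_dt (LP (LK LD1_c8 LD2_c33 LD3_c13)) = (LP (LK LD1_c16 LD2_c3 LD3_c25)) :=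
  Lre_d IH (LK LD1_c8 LD2_c33 LD3_c13) (LK LD1_c16 LD2_c3 LD3_c25) Lrfl Lrfl
theorem f360990 : Led Lsl_gf (LP (LK LD1_c16 LD2_c3 LD3_c25)) = (LP (LK LD1_c16 LD2_c6 LD3_c5)) :=
  Lgr Lrot145 (Lpe (f349858 IH) (Lpr_et (f349860 IH) (Lpe (f360986 IH) (Lpr_dt (f360982 IH) (Lpr_gt (f219853 IH) (Lpe (K23.f219847 IH) (Lpr_et (K18.f219822 IH) (Lpr_gt (f318088 IH) (Lpe (K22.f316108 IH) (Lpr_dt (K22.f167536 IH) (Lpn (LP (LK LD1_c16 LD2_c6 LD3_c5)))))))))))))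
theorem f349863 : Led Lsl_dt (LP (LK LD1_c16 LD2_c3 LD3_c25)) = (LP (LK LD1_c8 LD2_c33 LD3_c13)) :=
  Lre_d IH (LK LD1_c16 LD2_c3 LD3_c25) (LK LD1_c8 LD2_c33 LD3_c13) Lrfl Lrfl
theorem f359479 : Led Lsl_dt (LP (LK LD1_c9 LD2_c35 LD3_c24)) = (LP (LK LD1_c8 LD2_c11 LD3_c5)) :=
  Lgr Lrot77 (Lpe (f359399 IH) (Lpr_df (f359462 IH) (Lpe (K16.f191053 IH) (Lpe (K19.f187891 IH) (Lpe (K25.f191068 IH) (Lpn (LP (LK LD1_c8 LD2_c11 LD3_c5))))))))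
theorem f360992 : Led Lsl_gt (LP (LK LD1_c17 LD2_c39 LD3_c34)) = (LP (LK LD1_c9 LD2_c35 LD3_c24)) :=
  Lre_g IH (LK LD1_c17 LD2_c39 LD3_c34) (LK LD1_c9 LD2_c35 LD3_c24) Lrfl Lrfl
theorem f307881 : Led Lsl_et (LP (LK LD1_c5 LD2_c23 LD3_c54)) = (LP (LK LD1_c8 LD2_c33 LD3_c49)) :=
  Lgr Lrot87 (Lpr_ef (K19.f307766 IH) (Lpn (LP (LK LD1_c8 LD2_c33 LD3_c49))))
theorem f307883 : Led Lsl_ef (LP (LK LD1_c10 LD2_c38 LD3_c24)) = (LP (LK LD1_c16 LD2_c4 LD3_c28)) :=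
  Lgr Lrot28 (Lpr_ct (K24.f295970 IH) (Lpr_et (f307881 IH) (Lpr_ct (K20.f302920 IH) (Lpn (LP (LK LD1_c16 LD2_c4 LD3_c28))))))
theorem f295972 : Led Lsl_dt (LP (LK LD1_c8 LD2_c22 LD3_c13)) = (LP (LK LD1_c15 LD2_c45 LD3_c11)) :=
  Lre_d IH (LK LD1_c8 LD2_c22 LD3_c13) (LK LD1_c15 LD2_c45 LD3_c11) Lrfl Lrfl
theorem f167475 : Led Lsl_ct (LP (LK LD1_c8 LD2_c35 LD3_c6)) = (LP (LK LD1_c4 LD2_c18 LD3_c7)) :=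
  Lre_c IH (LK LD1_c8 LD2_c35 LD3_c6) (LK LD1_c4 LD2_c18 LD3_c7) Lrfl Lrfl
theorem f299456 : Led Lsl_et (LP (LK LD1_c8 LD2_c22 LD3_c13)) = (LP (LK LD1_c8 LD2_c35 LD3_c6)) :=
  Lgr Lrot158 (Lpe (K22.f289029 IH) (Lpr_ef (K18.f299451 IH) (Lpe (f167475 IH) (Lpn (LP (LK LD1_c8 LD2_c35 LD3_c6))))))
theorem f302922 : Led Lsl_dt (LP (LK LD1_c16 LD2_c4 LD3_c28)) = (LP (LK LD1_c26 LD2_c1 LD3_c41)) :=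
  Lre_d IH (LK LD1_c16 LD2_c4 LD3_c28) (LK LD1_c26 LD2_c1 LD3_c41) Lrfl Lrfl
theorem f300843 : Led Lsl_gt (LP (LK LD1_c4 LD2_c17 LD3_c43)) = (LP (LK LD1_c8 LD2_c34 LD3_c28)) :=
  Lre_g IH (LK LD1_c4 LD2_c17 LD3_c43) (LK LD1_c8 LD2_c34 LD3_c28) Lrfl Lrfl
theorem f307760 : Led Lsl_dt (LP (LK LD1_c8 LD2_c34 LD3_c28)) = (LP (LK LD1_c16 LD2_c5 LD3_c30)) :=
  Lre_d IH (LK LD1_c8 LD2_c34 LD3_c28) (LK LD1_c16 LD2_c5 LD3_c30) Lrfl Lrfl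
theorem f302921 : Led Lsl_dt (LP (LK LD1_c26 LD2_c1 LD3_c41)) = (LP (LK LD1_c16 LD2_c4 LD3_c28)) :=
  Lre_d IH (LK LD1_c26 LD2_c1 LD3_c41) (LK LD1_c16 LD2_c4 LD3_c28) Lrfl Lrfl
theorem f307761 : Led Lsl_gt (LP (LK LD1_c16 LD2_c5 LD3_c30)) = (LP (LK LD1_c26 LD2_c1 LD3_c41)) :=
  Lgr Lrot49 (Lpe (f307760 IH) (Lpe (f300843 IH) (Lpe (K22.f307759 IH) (Lpr_gt (K19.f7964 IH) (Lpr_dt (K19.f7965 IH) (Lpr_gt (K19.f307755 IH) (Lpr_dt (K19.f247402 IH) (Lpe (K20.f302923 IH) (Lpe (f302921 IH) (Lpn (LP (LK LD1_c26 LD2_c1 LD3_c41))))))))))))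
theorem f307885 : Led Lsl_et (LP (LK LD1_c8 LD2_c34 LD3_c28)) = (LP (LK LD1_c16 LD2_c5 LD3_c31)) :=
  Lre_e IH (LK LD1_c8 LD2_c34 LD3_c28) (LK LD1_c16 LD2_c5 LD3_c31) Lrfl Lrfl
theorem f307886 : Led Lsl_gt (LP (LK LD1_c8 LD2_c35 LD3_c6)) = (LP (LK LD1_c16 LD2_c5 LD3_c31)) :=
  Lgr Lrot131 (Lpe (f299456 IH) (Lpr_dt (f295972 IH) (Lpr_gf (K23.f295959 IH) (Lpe (K20.f167197 IH) (Lpe (K23.f295968 IH) (Lpr_ef (f307883 IH) (Lpr_dt (f302922 IH) (Lpe (f307761 IH) (Lpe (f307760 IH) (Lpr_et (f307885 IH) (Lpn (LP (LK LD1_c16 LD2_c5 LD3_c31)))))))))))))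
theorem f307888 : Led Lsl_ft (LP (LK LD1_c8 LD2_c35 LD3_c6)) = (LP (LK LD1_c4 LD2_c18 LD3_c4)) :=
  Lre_f IH (LK LD1_c8 LD2_c35 LD3_c6) (LK LD1_c4 LD2_c18 LD3_c4) Lrfl Lrfl
theorem f307889 : Led Lsl_at (LP (LK LD1_c4 LD2_c18 LD3_c4)) = (LP (LK LD1_c8 LD2_c34 LD3_c53)) :=
  Lre_a IH (LK LD1_c4 LD2_c18 LD3_c4) (LK LD1_c8 LD2_c34 LD3_c53) Lrfl Lrfl
theorem f307890 : Led Lsl_gf (LP (LK LD1_c8 LD2_c34 LD3_c53)) = (LP (LK LD1_c16 LD2_c5 LD3_c31)) :=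
  Lgr Lrot76 (Lpe (f307889 IH) (Lpe (f307888 IH) (Lpr_gt (f307886 IH) (Lpn (LP (LK LD1_c16 LD2_c5 LD3_c31))))))
theorem f360995 : Led Lsl_cf (LP (LK LD1_c17 LD2_c39 LD3_c34)) = (LP (LK LD1_c16 LD2_c5 LD3_c31)) :=
  Lgr Lrot166 (Lpr_gt (f360992 IH) (Lpr_dt (f359479 IH) (Lpe (K25.f355668 IH) (Lpr_dt (K25.f355670 IH) (Lpe (K23.f349853 IH) (Lpe (f349863 IH) (Lpr_gf (f360990 IH) (Lpe (K22.f167536 IH) (Lpr_gf (f307890 IH) (Lpn (LP (LK LD1_c16 LD2_c5 LD3_c31))))))))))))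
theorem f360998 : Led Lsl_et (LP (LK LD1_c17 LD2_c39 LD3_c34)) = (LP (LK LD1_c15 LD2_c6 LD3_c40)) :=
  Lgr Lrot158 (Lpr_cf (f360995 IH) (Lpe (f307885 IH) (Lpe (K20.f321052 IH) (Lpn (LP (LK LD1_c15 LD2_c6 LD3_c40))))))
theorem f230393 : Led Lsl_dt (LP (LK LD1_c3 LD2_c57 LD3_c11)) = (LP (LK LD1_c7 LD2_c56 LD3_c3)) :=
  Lre_d IH (LK LD1_c3 LD2_c57 LD3_c11) (LK LD1_c7 LD2_c56 LD3_c3) Lrfl Lrfl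
theorem f266251 : Led Lsl_gt (LP (LK LD1_c7 LD2_c56 LD3_c3)) = (LP (LK LD1_c4 LD2_c12 LD3_c18)) :=
  Lgr Lrot49 (Lpe (f230393 IH) (Lpr_gf (K15.f266247 IH) (Lpe (K10.f53816 IH) (Lpr_gt (K14.f231230 IH) (Lpr_dt (K14.f246649 IH) (Lpr_gt (K14.f246650 IH) (Lpe (K19.f246643 IH) (Lpe (K14.f246641 IH) (Lpr_df (K20.f246735 IH) (Lpn (LP (LK LD1_c4 LD2_c12 LD3_c18))))))))))))
theorem f230094 : Led Lsl_gt (LP (LK LD1_c17 LD2_c46 LD3_c55)) = (LP (LK LD1_c9 LD2_c40 LD3_c3)) :=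
  Lre_g IH (LK LD1_c17 LD2_c46 LD3_c55) (LK LD1_c9 LD2_c40 LD3_c3) Lrfl Lrfl
theorem f361006 : Led Lsl_dt (LP (LK LD1_c17 LD2_c39 LD3_c34)) = (LP (LK LD1_c17 LD2_c46 LD3_c55)) :=
  Lgr Lrot136 (Lpr_et (f360998 IH) (Lpe (K20.f247141 IH) (Lpe (K16.f223729 IH) (Lpe (K13.f211491 IH) (Lpr_gf (K14.f246718 IH) (Lpr_df (K20.f246735 IH) (Lpe (f266251 IH) (Lpe (K15.f230400 IH) (Lpr_dt (K22.f266217 IH) (Lpe (f230094 IH) (Lpn (LP (LK LD1_c17 LD2_c46 LD3_c55)))))))))))))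
theorem f166952 : Led Lsl_bt (LP (LK LD1_c8 LD2_c24 LD3_c38)) = (LP (LK LD1_c4 LD2_c12 LD3_c29)) :=
  Lre_b IH (LK LD1_c8 LD2_c24 LD3_c38) (LK LD1_c4 LD2_c12 LD3_c29) Lrfl Lrfl
theorem f304585 : Led Lsl_bt (LP (LK LD1_c4 LD2_c18 LD3_c52)) = (LP (LK LD1_c8 LD2_c36 LD3_c26)) :=
  Lre_b IH (LK LD1_c4 LD2_c18 LD3_c52) (LK LD1_c8 LD2_c36 LD3_c26) Lrfl Lrfl
theorem f304586 : Led Lsl_ef (LP (LK LD1_c8 LD2_c24 LD3_c38)) = (LP (LK LD1_c8 LD2_c36 LD3_c26)) :=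
  Lgr Lrot29 (Lpr_bt (f166952 IH) (Lpr_et (K19.f304583 IH) (Lpr_bt (f304585 IH) (Lpn (LP (LK LD1_c8 LD2_c36 LD3_c26))))))
theorem f361008 : Led Lsl_gf (LP (LK LD1_c17 LD2_c46 LD3_c55)) = (LP (LK LD1_c10 LD2_c8 LD3_c38)) :=
  Lgr Lrot134 (Lpe (f361006 IH) (Lpr_et (f360998 IH) (Lpr_gt (K20.f258454 IH) (Lpr_ef (K17.f270870 IH) (Lpr_dt (K22.f282101 IH) (Lpr_gt (K22.f330881 IH) (Lpe (K22.f330824 IH) (Lpe (f304586 IH) (Lpr_gt (K25.f330815 IH) (Lpr_dt (K15.f229533 IH) (Lpn (LP (LK LD1_c10 LD2_c8 LD3_c38)))))))))))))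
theorem f229553 : Led Lsl_ct (LP (LK LD1_c5 LD2_c9 LD3_c8)) = (LP (LK LD1_c10 LD2_c8 LD3_c46)) :=
  Lre_c IH (LK LD1_c5 LD2_c9 LD3_c8) (LK LD1_c10 LD2_c8 LD3_c46) Lrfl Lrfl
theorem f180843 : Led Lsl_gt (LP (LK LD1_c8 LD2_c4 LD3_c18)) = (LP (LK LD1_c15 LD2_c11 LD3_c47)) :=
  Lre_g IH (LK LD1_c8 LD2_c4 LD3_c18) (LK LD1_c15 LD2_c11 LD3_c47) Lrfl Lrfl
theorem f287128 : Led Lsl_gt (LP (LK LD1_c15 LD2_c11 LD3_c47)) = (LP (LK LD1_c10 LD2_c8 LD3_c46)) :=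
  Lgr Lrot46 (Lpe (f180843 IH) (Lpr_ft (K17.f287124 IH) (Lpr_at (K17.f287114 IH) (Lpn (LP (LK LD1_c10 LD2_c8 LD3_c46))))))
theorem f325893 : Led Lsl_bt (LP (LK LD1_c8 LD2_c5 LD3_c29)) = (LP (LK LD1_c8 LD2_c52 LD3_c35)) :=
  Lgr Lrot95 (Lpe (K21.f296361 IH) (Lpr_bf (K21.f325889 IH) (Lpe (K21.f302810 IH) (Lpn (LP (LK LD1_c8 LD2_c52 LD3_c35))))))
theorem f180791 : Led Lsl_ct (LP (LK LD1_c4 LD2_c1 LD3_c51)) = (LP (LK LD1_c8 LD2_c4 LD3_c18)) :=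
  Lre_c IH (LK LD1_c4 LD2_c1 LD3_c51) (LK LD1_c8 LD2_c4 LD3_c18) Lrfl Lrfl
theorem f350770 : Led Lsl_ct (LP (LK LD1_c8 LD2_c5 LD3_c29)) = (LP (LK LD1_c15 LD2_c11 LD3_c47)) :=
  Lgr Lrot10 (Lpr_bt (f325893 IH) (Lpr_gt (K22.f248397 IH) (Lpr_ct (K14.f178600 IH) (Lpe (K22.f248383 IH) (Lpe (K22.f336320 IH) (Lpr_bt (K24.f350763 IH) (Lpr_gt (K24.f180810 IH) (Lpe (K23.f180827 IH) (Lpr_ct (f180791 IH) (Lpr_gt (f180843 IH) (Lpn (LP (LK LD1_c15 LD2_c11 LD3_c47)))))))))))))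
theorem f248319 : Led Lsl_gt (LP (LK LD1_c10 LD2_c29 LD3_c49)) = (LP (LK LD1_c5 LD2_c19 LD3_c58)) :=
  Lre_g IH (LK LD1_c10 LD2_c29 LD3_c49) (LK LD1_c5 LD2_c19 LD3_c58) Lrfl Lrfl
theorem f361010 : Led Lsl_ct (LP (LK LD1_c17 LD2_c46 LD3_c55)) = (LP (LK LD1_c10 LD2_c29 LD3_c49)) :=
  Lgr Lrot91 (Lpr_gf (f361008 IH) (Lpe (K17.f229549 IH) (Lpr_ct (f229553 IH) (Lpe (f287128 IH) (Lpe (f350770 IH) (Lpr_bt (f325893 IH) (Lpe (K21.f248315 IH) (Lpe (K14.f248298 IH) (Lpr_ct (K19.f248316 IH) (Lpe (f248319 IH) (Lpn (LP (LK LD1_c10 LD2_c29 LD3_c49)))))))))))))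
theorem f361012 : Led Lsl_cf (LP (LK LD1_c17 LD2_c46 LD3_c55)) = (LP (LK LD1_c10 LD2_c29 LD3_c49)) :=
  Lgr Lrot11 (Lpr_ct (f361010 IH) (Lpn (LP (LK LD1_c10 LD2_c29 LD3_c49))))
theorem f167533 : Led Lsl_ct (LP (LK LD1_c4 LD2_c18 LD3_c7)) = (LP (LK LD1_c8 LD2_c35 LD3_c6)) :=
  Lre_c IH (LK LD1_c4 LD2_c18 LD3_c7) (LK LD1_c8 LD2_c35 LD3_c6) Lrfl Lrfl
theorem f325405 : Led Lsl_dt (LP (LK LD1_c5 LD2_c19 LD3_c59)) = (LP (LK LD1_c8 LD2_c34 LD3_c54)) :=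
  Lgr Lrot42 (Lpr_df (K21.f325387 IH) (Lpn (LP (LK LD1_c8 LD2_c34 LD3_c54))))
theorem f361017 : Led Lsl_gt (LP (LK LD1_c10 LD2_c22 LD3_c30)) = (LP (LK LD1_c10 LD2_c29 LD3_c49)) :=
  Lgr Lrot187 (Lpe (K19.f165963 IH) (Lpe (K21.f325412 IH) (Lpr_dt (f325405 IH) (Lpr_gt (K21.f167486 IH) (Lpr_ct (f167533 IH) (Lpr_gt (f307886 IH) (Lpe (f360995 IH) (Lpr_dt (f361006 IH) (Lpr_cf (f361012 IH) (Lpn (LP (LK LD1_c10 LD2_c29 LD3_c49))))))))))))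
theorem f361019 : Led Lsl_df (LP (LK LD1_c17 LD2_c39 LD3_c34)) = (LP (LK LD1_c17 LD2_c46 LD3_c55)) :=
  Lgr Lrot162 (Lpr_cf (f360995 IH) (Lpe (f307886 IH) (Lpe (f167533 IH) (Lpe (K21.f167486 IH) (Lpe (K21.f325387 IH) (Lpr_gt (K21.f325412 IH) (Lpr_ct (K19.f165963 IH) (Lpr_gt (f361017 IH) (Lpe (f361012 IH) (Lpn (LP (LK LD1_c17 LD2_c46 LD3_c55))))))))))))
theorem f277513 : Led Lsl_bt (LP (LK LD1_c15 LD2_c22 LD3_c20)) = (LP (LK LD1_c8 LD2_c9 LD3_c44)) :=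
  Lre_b IH (LK LD1_c15 LD2_c22 LD3_c20) (LK LD1_c8 LD2_c9 LD3_c44) Lrfl Lrfl
theorem f296895 : Led Lsl_df (LP (LK LD1_c15 LD2_c22 LD3_c20)) = (LP (LK LD1_c15 LD2_c11 LD3_c25)) :=
  Lgr Lrot12 (Lpr_bt (f277513 IH) (Lpr_dt (K18.f296891 IH) (Lpr_bt (K18.f258999 IH) (Lpn (LP (LK LD1_c15 LD2_c11 LD3_c25))))))
theorem f361023 : Led Lsl_df (LP (LK LD1_c9 LD2_c35 LD3_c24)) = (LP (LK LD1_c8 LD2_c11 LD3_c5)) :=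
  Lgr Lrot132 (Lpe (f360992 IH) (Lpr_df (f361019 IH) (Lpr_gf (f361008 IH) (Lpr_ef (K20.f321730 IH) (Lpe (f296895 IH) (Lpr_gf (K18.f297727 IH) (Lpr_df (K16.f254253 IH) (Lpr_et (K14.f192497 IH) (Lpe (K14.f250108 IH) (Lpe (K25.f191068 IH) (Lpn (LP (LK LD1_c8 LD2_c11 LD3_c5)))))))))))))
theorem f247004 : Led Lsl_gt (LP (LK LD1_c9 LD2_c39 LD3_c24)) = (LP (LK LD1_c17 LD2_c45 LD3_c35)) :=
  Lre_g IH (LK LD1_c9 LD2_c39 LD3_c24) (LK LD1_c17 LD2_c45 LD3_c35) Lrfl Lrfl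
theorem f361025 : Led Lsl_ef (LP (LK LD1_c17 LD2_c45 LD3_c35)) = (LP (LK LD1_c17 LD2_c46 LD3_c55)) :=
  Lgr Lrot17 (Lpe (f247004 IH) (Lpe (K16.f229046 IH) (Lpe (K15.f265017 IH) (Lpe (K14.f253977 IH) (Lpe (K14.f251664 IH) (Lpe (K14.f250108 IH) (Lpe (K25.f191068 IH) (Lpe (f361023 IH) (Lpe (f360992 IH) (Lpr_df (f361019 IH) (Lpn (LP (LK LD1_c17 LD2_c46 LD3_c55)))))))))))))
theorem f247005 : Led Lsl_dt (LP (LK LD1_c17 LD2_c45 LD3_c35)) = (LP (LK LD1_c27 LD2_c31 LD3_c59)) :=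
  Lre_d IH (LK LD1_c17 LD2_c45 LD3_c35) (LK LD1_c27 LD2_c31 LD3_c59) Lrfl Lrfl
theorem f361004 : Led Lsl_ef (LP (LK LD1_c17 LD2_c39 LD3_c34)) = (LP (LK LD1_c15 LD2_c6 LD3_c40)) :=
  Lgr Lrot88 (Lpr_et (f360998 IH) (Lpn (LP (LK LD1_c15 LD2_c6 LD3_c40))))
theorem f247142 : Led Lsl_dt (LP (LK LD1_c24 LD2_c54 LD3_c45)) = (LP (LK LD1_c15 LD2_c6 LD3_c40)) :=
  Lre_d IH (LK LD1_c24 LD2_c54 LD3_c45) (LK LD1_c15 LD2_c6 LD3_c40) Lrfl Lrfl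
theorem f361031 : Led Lsl_et (LP (LK LD1_c27 LD2_c31 LD3_c59)) = (LP (LK LD1_c24 LD2_c54 LD3_c45)) :=
  Lgr Lrot71 (Lpe (f247005 IH) (Lpr_ef (f361025 IH) (Lpe (f361006 IH) (Lpr_ef (f361004 IH) (Lpe (f247142 IH) (Lpn (LP (LK LD1_c24 LD2_c54 LD3_c45))))))))
theorem f247007 : Led Lsl_dt (LP (LK LD1_c27 LD2_c31 LD3_c59)) = (LP (LK LD1_c17 LD2_c45 LD3_c35)) :=
  Lre_d IH (LK LD1_c27 LD2_c31 LD3_c59) (LK LD1_c17 LD2_c45 LD3_c35) Lrfl Lrfl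
theorem f361060 : Led Lsl_gf (LP (LK LD1_c25 LD2_c47 LD3_c27)) = (LP (LK LD1_c24 LD2_c54 LD3_c45)) :=
  Lgr Lrot138 (Lpr_dt (K25.f271002 IH) (Lpr_gt (K25.f179651 IH) (Lpr_df (K16.f219309 IH) (Lpr_et (K16.f219304 IH) (Lpe (K17.f219291 IH) (Lpe (K21.f219319 IH) (Lpr_dt (K16.f246976 IH) (Lpr_gt (f247004 IH) (Lpe (f247007 IH) (Lpr_et (f361031 IH) (Lpn (LP (LK LD1_c24 LD2_c54 LD3_c45)))))))))))))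
theorem f356828 : Led Lsl_et (LP (LK LD1_c16 LD2_c7 LD3_c24)) = (LP (LK LD1_c15 LD2_c47 LD3_c54)) :=
  Lgr Lrot87 (Lpr_ef (K25.f356819 IH) (Lpn (LP (LK LD1_c15 LD2_c47 LD3_c54))))
theorem f258455 : Led Lsl_dt (LP (LK LD1_c15 LD2_c6 LD3_c40)) = (LP (LK LD1_c24 LD2_c54 LD3_c45)) :=
  Lre_d IH (LK LD1_c15 LD2_c6 LD3_c40) (LK LD1_c24 LD2_c54 LD3_c45) Lrfl Lrfl
theorem f361001 : Led Lsl_gt (LP (LK LD1_c9 LD2_c35 LD3_c31)) = (LP (LK LD1_c17 LD2_c39 LD3_c34)) :=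
  Lre_g IH (LK LD1_c9 LD2_c35 LD3_c31) (LK LD1_c17 LD2_c39 LD3_c34) Lrfl Lrfl
theorem f361064 : Led Lsl_et (LP (LK LD1_c15 LD2_c23 LD3_c10)) = (LP (LK LD1_c9 LD2_c35 LD3_c31)) :=
  Lgr Lrot185 (Lpr_dt (K21.f309917 IH) (Lpr_gf (K21.f325984 IH) (Lpr_df (K14.f246754 IH) (Lpe (K22.f167132 IH) (Lpe (f356828 IH) (Lpe (K25.f271004 IH) (Lpr_gf (f361060 IH) (Lpe (f258455 IH) (Lpe (f361004 IH) (Lpe (f361001 IH) (Lpn (LP (LK LD1_c9 LD2_c35 LD3_c31)))))))))))))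
theorem f333578 : Led Lsl_dt (LP (LK LD1_c10 LD2_c36 LD3_c61)) = (LP (LK LD1_c5 LD2_c23 LD3_c13)) :=
  Lre_d IH (LK LD1_c10 LD2_c36 LD3_c61) (LK LD1_c5 LD2_c23 LD3_c13) Lrfl Lrfl
theorem f355330 : Led Lsl_ct (LP (LK LD1_c19 LD2_c13 LD3_c54)) = (LP (LK LD1_c10 LD2_c36 LD3_c61)) :=
  Lre_c IH (LK LD1_c19 LD2_c13 LD3_c54) (LK LD1_c10 LD2_c36 LD3_c61) Lrfl Lrfl
theorem f355331 : Led Lsl_gt (LP (LK LD1_c19 LD2_c8 LD3_c42)) = (LP (LK LD1_c19 LD2_c13 LD3_c54)) :=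
  Lgr Lrot150 (Lpe (K25.f199003 IH) (Lpr_gf (K12.f199045 IH) (Lpe (K12.f199044 IH) (Lpe (K25.f352494 IH) (Lpr_ct (K21.f42423 IH) (Lpr_gt (K25.f355324 IH) (Lpr_ct (K25.f329677 IH) (Lpe (f333578 IH) (Lpe (f355330 IH) (Lpn (LP (LK LD1_c19 LD2_c13 LD3_c54))))))))))))
theorem f284336 : Led Lsl_ff (LP (LK LD1_c26 LD2_c36 LD3_c23)) = (LP (LK LD1_c19 LD2_c8 LD3_c42)) :=
  Lgr Lrot19 (Lpr_dt (K17.f284254 IH) (Lpr_ft (K25.f284335 IH) (Lpr_dt (K17.f284322 IH) (Lpn (LP (LK LD1_c19 LD2_c8 LD3_c42))))))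
theorem f284343 : Led Lsl_af (LP (LK LD1_c16 LD2_c38 LD3_c19)) = (LP (LK LD1_c25 LD2_c8 LD3_c18)) :=
  Lgr Lrot0 (Lpr_at (K17.f284339 IH) (Lpn (LP (LK LD1_c25 LD2_c8 LD3_c18))))
theorem f284399 : Led Lsl_af (LP (LK LD1_c28 LD2_c39 LD3_c27)) = (LP (LK LD1_c26 LD2_c36 LD3_c23)) :=
  Lgr Lrot117 (Lpr_dt (K17.f284397 IH) (Lpe (f284343 IH) (Lpr_dt (K25.f284268 IH) (Lpn (LP (LK LD1_c26 LD2_c36 LD3_c23))))))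
theorem f355344 : Led Lsl_gf (LP (LK LD1_c28 LD2_c39 LD3_c27)) = (LP (LK LD1_c19 LD2_c13 LD3_c54)) :=
  Lgr Lrot76 (Lpr_af (f284399 IH) (Lpr_ff (f284336 IH) (Lpr_gt (f355331 IH) (Lpn (LP (LK LD1_c19 LD2_c13 LD3_c54))))))
theorem f355348 : Led Lsl_ct (LP (LK LD1_c10 LD2_c36 LD3_c61)) = (LP (LK LD1_c19 LD2_c13 LD3_c54)) :=
  Lre_c IH (LK LD1_c10 LD2_c36 LD3_c61) (LK LD1_c19 LD2_c13 LD3_c54) Lrfl Lrfl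
theorem f355356 : Led Lsl_gf (LP (LK LD1_c19 LD2_c13 LD3_c49)) = (LP (LK LD1_c10 LD2_c36 LD3_c61)) :=
  Lgr Lrot144 (Lpr_dt (K25.f343831 IH) (Lpe (K25.f345418 IH) (Lpr_dt (K25.f345372 IH) (Lpr_cf (K25.f345397 IH) (Lpe (K25.f352349 IH) (Lpr_gf (K25.f325805 IH) (Lpe (K17.f284397 IH) (Lpr_gf (f355344 IH) (Lpe (f355348 IH) (Lpn (LP (LK LD1_c10 LD2_c36 LD3_c61))))))))))))
theorem f355369 : Led Lsl_gf (LP (LK LD1_c17 LD2_c48 LD3_c52)) = (LP (LK LD1_c20 LD2_c57 LD3_c24)) :=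
  Lgr Lrot104 (Lpr_ct (K23.f213934 IH) (Lpe (K23.f343838 IH) (Lpe (K23.f343830 IH) (Lpr_gf (f355356 IH) (Lpe (f355330 IH) (Lpe (f355331 IH) (Lpe (K17.f284322 IH) (Lpr_gt (K25.f345359 IH) (Lpr_ct (K25.f345358 IH) (Lpn (LP (LK LD1_c20 LD2_c57 LD3_c24))))))))))))
theorem f7864 : Led Lsl_dt (LP (LK LD1_c5 LD2_c28 LD3_c22)) = (LP (LK LD1_c10 LD2_c47 LD3_c52)) :=
  Lre_d IH (LK LD1_c5 LD2_c28 LD3_c22) (LK LD1_c10 LD2_c47 LD3_c52) Lrfl Lrfl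
theorem f274892 : Led Lsl_gt (LP (LK LD1_c10 LD2_c47 LD3_c52)) = (LP (LK LD1_c19 LD2_c31 LD3_c60)) :=
  Lre_g IH (LK LD1_c10 LD2_c47 LD3_c52) (LK LD1_c19 LD2_c31 LD3_c60) Lrfl Lrfl
theorem f355375 : Led Lsl_df (LP (LK LD1_c19 LD2_c31 LD3_c60)) = (LP (LK LD1_c11 LD2_c53 LD3_c49)) :=
  Lgr Lrot168 (Lpe (f274892 IH) (Lpe (f7864 IH) (Lpr_et (K16.f274891 IH) (Lpe (K16.f274879 IH) (Lpe (K25.f223280 IH) (Lpr_dt (K23.f213933 IH) (Lpr_gf (f355369 IH) (Lpe (K25.f345361 IH) (Lpe (K25.f345379 IH) (Lpr_ef (K23.f324800 IH) (Lpn (LP (LK LD1_c11 LD2_c53 LD3_c49)))))))))))))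
theorem f355380 : Led Lsl_dt (LP (LK LD1_c19 LD2_c31 LD3_c60)) = (LP (LK LD1_c11 LD2_c53 LD3_c49)) :=
  Lgr Lrot42 (Lpr_df (f355375 IH) (Lpn (LP (LK LD1_c11 LD2_c53 LD3_c49))))
theorem f7834 : Led Lsl_gt (LP (LK LD1_c10 LD2_c47 LD3_c51)) = (LP (LK LD1_c5 LD2_c28 LD3_c22)) :=
  Lre_g IH (LK LD1_c10 LD2_c47 LD3_c51) (LK LD1_c5 LD2_c28 LD3_c22) Lrfl Lrfl
theorem f238185 : Led Lsl_gt (LP (LK LD1_c16 LD2_c50 LD3_c2)) = (LP (LK LD1_c9 LD2_c0 LD3_c35)) :=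
  Lre_g IH (LK LD1_c16 LD2_c50 LD3_c2) (LK LD1_c9 LD2_c0 LD3_c35) Lrfl Lrfl
theorem f355506 : Led Lsl_cf (LP (LK LD1_c10 LD2_c47 LD3_c51)) = (LP (LK LD1_c16 LD2_c50 LD3_c2)) :=
  Lgr Lrot166 (Lpr_gt (f7834 IH) (Lpr_dt (f7864 IH) (Lpr_gt (f274892 IH) (Lpr_dt (f355380 IH) (Lpr_ct (K21.f257344 IH) (Lpr_df (K24.f326405 IH) (Lpe (K21.f229631 IH) (Lpe (K15.f238172 IH) (Lpe (f238185 IH) (Lpn (LP (LK LD1_c16 LD2_c50 LD3_c2))))))))))))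
theorem f7829 : Led Lsl_ct (LP (LK LD1_c4 LD2_c17 LD3_c26)) = (LP (LK LD1_c2 LD2_c6 LD3_c2)) :=
  Lre_c IH (LK LD1_c4 LD2_c17 LD3_c26) (LK LD1_c2 LD2_c6 LD3_c2) Lrfl Lrfl
theorem f344362 : Led Lsl_cf (LP (LK LD1_c8 LD2_c33 LD3_c4)) = (LP (LK LD1_c8 LD2_c37 LD3_c10)) :=
  Lgr Lrot1 (Lpr_at (K23.f344358 IH) (Lpr_ct (K20.f252046 IH) (Lpe (K21.f324750 IH) (Lpn (LP (LK LD1_c8 LD2_c37 LD3_c10))))))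
theorem f355509 : Led Lsl_gt (LP (LK LD1_c25 LD2_c28 LD3_c61)) = (LP (LK LD1_c16 LD2_c50 LD3_c2)) :=
  Lgr Lrot9 (Lpe (K20.f322152 IH) (Lpr_gt (K20.f321369 IH) (Lpe (f344362 IH) (Lpr_gt (K23.f296047 IH) (Lpr_ct (f7829 IH) (Lpr_df (K12.f7794 IH) (Lpe (K22.f7811 IH) (Lpe (f7834 IH) (Lpr_cf (f355506 IH) (Lpn (LP (LK LD1_c16 LD2_c50 LD3_c2))))))))))))
theorem f228864 : Led Lsl_ct (LP (LK LD1_c2 LD2_c44 LD3_c6)) = (LP (LK LD1_c5 LD2_c36 LD3_c25)) :=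
  Lre_c IH (LK LD1_c2 LD2_c44 LD3_c6) (LK LD1_c5 LD2_c36 LD3_c25) Lrfl Lrfl
theorem f166860 : Led Lsl_gt (LP (LK LD1_c5 LD2_c3 LD3_c49)) = (LP (LK LD1_c2 LD2_c29 LD3_c22)) :=
  Lre_g IH (LK LD1_c5 LD2_c3 LD3_c49) (LK LD1_c2 LD2_c29 LD3_c22) Lrfl Lrfl
theorem f333502 : Led Lsl_gf (LP (LK LD1_c17 LD2_c46 LD3_c10)) = (LP (LK LD1_c17 LD2_c48 LD3_c20)) :=
  Lgr Lrot134 (Lpe (K23.f230275 IH) (Lpr_et (K23.f333495 IH) (Lpr_gt (f166860 IH) (Lpe (K10.f166851 IH) (Lpr_dt (K14.f166683 IH) (Lpr_gt (K15.f53191 IH) (Lpe (K14.f256393 IH) (Lpr_et (K15.f256403 IH) (Lpr_gt (K15.f256404 IH) (Lpe (f259599 IH) (Lpn (LP (LK LD1_c17 LD2_c48 LD3_c20)))))))))))))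
theorem f248606 : Led Lsl_gf (LP (LK LD1_c5 LD2_c3 LD3_c23)) = (LP (LK LD1_c9 LD2_c39 LD3_c42)) :=
  Lgr Lrot76 (Lpr_af (K14.f248585 IH) (Lpe (K14.f248523 IH) (Lpr_gt (K23.f230274 IH) (Lpn (LP (LK LD1_c9 LD2_c39 LD3_c42))))))
theorem f259605 : Led Lsl_dt (LP (LK LD1_c9 LD2_c40 LD3_c45)) = (LP (LK LD1_c17 LD2_c46 LD3_c51)) :=
  Lgr Lrot42 (Lpr_df (K15.f259602 IH) (Lpn (LP (LK LD1_c17 LD2_c46 LD3_c51))))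
theorem f230901 : Led Lsl_gt (LP (LK LD1_c15 LD2_c24 LD3_c43)) = (LP (LK LD1_c8 LD2_c11 LD3_c8)) :=
  Lre_g IH (LK LD1_c15 LD2_c24 LD3_c43) (LK LD1_c8 LD2_c11 LD3_c8) Lrfl Lrfl
theorem f257687 : Led Lsl_et (LP (LK LD1_c5 LD2_c2 LD3_c49)) = (LP (LK LD1_c2 LD2_c28 LD3_c58)) :=
  Lre_e IH (LK LD1_c5 LD2_c2 LD3_c49) (LK LD1_c2 LD2_c28 LD3_c58) Lrfl Lrfl
theorem f166966 : Led Lsl_et (LP (LK LD1_c9 LD2_c58 LD3_c34)) = (LP (LK LD1_c5 LD2_c3 LD3_c48)) :=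
  Lre_e IH (LK LD1_c9 LD2_c58 LD3_c34) (LK LD1_c5 LD2_c3 LD3_c48) Lrfl Lrfl
theorem f284037 : Led Lsl_df (LP (LK LD1_c15 LD2_c24 LD3_c43)) = (LP (LK LD1_c9 LD2_c58 LD3_c34)) :=
  Lgr Lrot170 (Lpr_gt (f230901 IH) (Lpr_df (K17.f284017 IH) (Lpr_et (f257687 IH) (Lpe (K17.f283972 IH) (Lpe (K14.f246142 IH) (Lpr_gt (K13.f166890 IH) (Lpe (K14.f166683 IH) (Lpr_et (K10.f166851 IH) (Lpr_gt (K21.f166868 IH) (Lpe (f166966 IH) (Lpn (LP (LK LD1_c9 LD2_c58 LD3_c34)))))))))))))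
theorem f284042 : Led Lsl_dt (LP (LK LD1_c15 LD2_c24 LD3_c43)) = (LP (LK LD1_c9 LD2_c58 LD3_c34)) :=
  Lgr Lrot42 (Lpr_df (f284037 IH) (Lpn (LP (LK LD1_c9 LD2_c58 LD3_c34))))
theorem f166637 : Led Lsl_et (LP (LK LD1_c9 LD2_c39 LD3_c1)) = (LP (LK LD1_c4 LD2_c53 LD3_c33)) :=
  Lre_e IH (LK LD1_c9 LD2_c39 LD3_c1) (LK LD1_c4 LD2_c53 LD3_c33) Lrfl Lrfl
theorem f221702 : Led Lsl_gt (LP (LK LD1_c9 LD2_c41 LD3_c17)) = (LP (LK LD1_c4 LD2_c54 LD3_c55)) :=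
  Lre_g IH (LK LD1_c9 LD2_c41 LD3_c17) (LK LD1_c4 LD2_c54 LD3_c55) Lrfl Lrfl
theorem f261149 : Led Lsl_df (LP (LK LD1_c9 LD2_c41 LD3_c17)) = (LP (LK LD1_c9 LD2_c39 LD3_c1)) :=
  Lgr Lrot170 (Lpr_gt (f221702 IH) (Lpr_df (K15.f261145 IH) (Lpr_et (K15.f252096 IH) (Lpe (K15.f256124 IH) (Lpe (K14.f251687 IH) (Lpr_gt (K14.f166626 IH) (Lpe (K15.f166618 IH) (Lpr_et (K21.f166625 IH) (Lpr_gt (K21.f166636 IH) (Lpe (f166637 IH) (Lpn (LP (LK LD1_c9 LD2_c39 LD3_c1)))))))))))))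
theorem f261154 : Led Lsl_dt (LP (LK LD1_c9 LD2_c41 LD3_c17)) = (LP (LK LD1_c9 LD2_c39 LD3_c1)) :=
  Lgr Lrot42 (Lpr_df (f261149 IH) (Lpn (LP (LK LD1_c9 LD2_c39 LD3_c1))))
theorem f305894 : Led Lsl_et (LP (LK LD1_c15 LD2_c24 LD3_c43)) = (LP (LK LD1_c9 LD2_c41 LD3_c17)) :=
  Lgr Lrot71 (Lpr_df (f284037 IH) (Lpe (K21.f284044 IH) (Lpr_df (K21.f305884 IH) (Lpe (f166637 IH) (Lpe (f261154 IH) (Lpn (LP (LK LD1_c9 LD2_c41 LD3_c17))))))))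
theorem f333504 : Led Lsl_gt (LP (LK LD1_c5 LD2_c36 LD3_c17)) = (LP (LK LD1_c9 LD2_c41 LD3_c17)) :=
  Lgr Lrot131 (Lpe (K19.f287818 IH) (Lpr_dt (K19.f307408 IH) (Lpr_gf (f248606 IH) (Lpe (K23.f248612 IH) (Lpr_gf (f333502 IH) (Lpe (K15.f259601 IH) (Lpr_dt (f259605 IH) (Lpe (K21.f305919 IH) (Lpe (f284042 IH) (Lpr_et (f305894 IH) (Lpn (LP (LK LD1_c9 LD2_c41 LD3_c17)))))))))))))
theorem f355511 : Led Lsl_bf (LP (LK LD1_c9 LD2_c41 LD3_c17)) = (LP (LK LD1_c16 LD2_c50 LD3_c2)) :=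
  Lgr Lrot34 (Lpe (f333504 IH) (Lpe (K19.f228859 IH) (Lpr_ct (f228864 IH) (Lpe (K19.f305030 IH) (Lpe (K19.f7763 IH) (Lpe (K15.f7762 IH) (Lpe (K20.f7740 IH) (Lpr_ct (K21.f7863 IH) (Lpe (f7834 IH) (Lpr_cf (f355506 IH) (Lpn (LP (LK LD1_c16 LD2_c50 LD3_c2)))))))))))))
theorem f261158 : Led Lsl_bt (LP (LK LD1_c9 LD2_c39 LD3_c1)) = (LP (LK LD1_c17 LD2_c45 LD3_c14)) :=
  Lre_b IH (LK LD1_c9 LD2_c39 LD3_c1) (LK LD1_c17 LD2_c45 LD3_c14) Lrfl Lrfl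
theorem f355515 : Led Lsl_dt (LP (LK LD1_c17 LD2_c45 LD3_c14)) = (LP (LK LD1_c16 LD2_c50 LD3_c2)) :=
  Lgr Lrot79 (Lpe (f261158 IH) (Lpe (f261154 IH) (Lpr_bf (f355511 IH) (Lpn (LP (LK LD1_c16 LD2_c50 LD3_c2))))))
theorem f305924 : Led Lsl_et (LP (LK LD1_c17 LD2_c45 LD3_c14)) = (LP (LK LD1_c9 LD2_c38 LD3_c61)) :=
  Lre_e IH (LK LD1_c17 LD2_c45 LD3_c14) (LK LD1_c9 LD2_c38 LD3_c61) Lrfl Lrfl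
theorem f361076 : Led Lsl_gt (LP (LK LD1_c9 LD2_c38 LD3_c61)) = (LP (LK LD1_c9 LD2_c35 LD3_c31)) :=
  Lgr Lrot131 (Lpe (f305924 IH) (Lpr_dt (f355515 IH) (Lpe (f355509 IH) (Lpe (K20.f322152 IH) (Lpr_gf (K21.f326415 IH) (Lpe (K21.f229633 IH) (Lpe (K21.f326382 IH) (Lpe (K21.f309929 IH) (Lpe (K21.f309917 IH) (Lpr_et (f361064 IH) (Lpn (LP (LK LD1_c9 LD2_c35 LD3_c31)))))))))))))
theorem f330857 : Led Lsl_gf (LP (LK LD1_c15 LD2_c1 LD3_c20)) = (LP (LK LD1_c15 LD2_c42 LD3_c51)) :=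
  Lgr Lrot76 (Lpe (K21.f330843 IH) (Lpr_ff (K21.f330849 IH) (Lpe (K21.f327469 IH) (Lpn (LP (LK LD1_c15 LD2_c42 LD3_c51))))))
theorem f251335 : Led Lsl_bt (LP (LK LD1_c18 LD2_c33 LD3_c28)) = (LP (LK LD1_c10 LD2_c11 LD3_c11)) :=
  Lre_b IH (LK LD1_c18 LD2_c33 LD3_c28) (LK LD1_c10 LD2_c11 LD3_c11) Lrfl Lrfl
theorem f306565 : Led Lsl_bf (LP (LK LD1_c11 LD2_c10 LD3_c29)) = (LP (LK LD1_c15 LD2_c24 LD3_c44)) :=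
  Lgr Lrot93 (Lpr_dt (K21.f305819 IH) (Lpr_bt (K18.f300085 IH) (Lpe (K19.f284019 IH) (Lpn (LP (LK LD1_c15 LD2_c24 LD3_c44))))))
theorem f284023 : Led Lsl_ct (LP (LK LD1_c15 LD2_c24 LD3_c44)) = (LP (LK LD1_c25 LD2_c16 LD3_c58)) :=
  Lre_c IH (LK LD1_c15 LD2_c24 LD3_c44) (LK LD1_c25 LD2_c16 LD3_c58) Lrfl Lrfl
theorem f291679 : Led Lsl_bt (LP (LK LD1_c5 LD2_c15 LD3_c41)) = (LP (LK LD1_c10 LD2_c15 LD3_c33)) :=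
  Lgr Lrot127 (Lpr_bf (K18.f291674 IH) (Lpn (LP (LK LD1_c10 LD2_c15 LD3_c33))))
theorem f260615 : Led Lsl_ct (LP (LK LD1_c5 LD2_c15 LD3_c41)) = (LP (LK LD1_c10 LD2_c20 LD3_c42)) :=
  Lre_c IH (LK LD1_c5 LD2_c15 LD3_c41) (LK LD1_c10 LD2_c20 LD3_c42) Lrfl Lrfl
theorem f285438 : Led Lsl_gt (LP (LK LD1_c18 LD2_c46 LD3_c28)) = (LP (LK LD1_c10 LD2_c20 LD3_c42)) :=
  Lre_g IH (LK LD1_c18 LD2_c46 LD3_c28) (LK LD1_c10 LD2_c20 LD3_c42) Lrfl Lrfl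
theorem f358781 : Led Lsl_ct (LP (LK LD1_c18 LD2_c33 LD3_c28)) = (LP (LK LD1_c18 LD2_c46 LD3_c28)) :=
  Lgr Lrot64 (Lpr_bt (f251335 IH) (Lpr_gf (f358779 IH) (Lpr_bf (f306565 IH) (Lpr_ct (f284023 IH) (Lpe (K23.f312645 IH) (Lpr_cf (K23.f330500 IH) (Lpe (K18.f291690 IH) (Lpe (f291679 IH) (Lpr_ct (f260615 IH) (Lpe (f285438 IH) (Lpn (LP (LK LD1_c18 LD2_c46 LD3_c28)))))))))))))
theorem f291707 : Led Lsl_ct (LP (LK LD1_c10 LD2_c20 LD3_c42)) = (LP (LK LD1_c5 LD2_c15 LD3_c41)) :=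
  Lre_c IH (LK LD1_c10 LD2_c20 LD3_c42) (LK LD1_c5 LD2_c15 LD3_c41) Lrfl Lrfl
theorem f260611 : Led Lsl_ct (LP (LK LD1_c5 LD2_c15 LD3_c39)) = (LP (LK LD1_c2 LD2_c34 LD3_c41)) :=
  Lre_c IH (LK LD1_c5 LD2_c15 LD3_c39) (LK LD1_c2 LD2_c34 LD3_c41) Lrfl Lrfl
theorem f358789 : Led Lsl_gf (LP (LK LD1_c18 LD2_c33 LD3_c28)) = (LP (LK LD1_c15 LD2_c36 LD3_c49)) :=
  Lgr Lrot147 (Lpr_ct (f358781 IH) (Lpr_gt (f285438 IH) (Lpr_ct (f291707 IH) (Lpe (K21.f231954 IH) (Lpe (f260611 IH) (Lpe (K21.f259461 IH) (Lpe (K21.f330503 IH) (Lpr_gf (K15.f263557 IH) (Lpe (K15.f263559 IH) (Lpn (LP (LK LD1_c15 LD2_c36 LD3_c49))))))))))))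
theorem f358791 : Led Lsl_gt (LP (LK LD1_c18 LD2_c33 LD3_c28)) = (LP (LK LD1_c10 LD2_c24 LD3_c3)) :=
  Lgr Lrot46 (Lpr_gf (f358789 IH) (Lpe (K15.f263570 IH) (Lpr_at (K15.f252157 IH) (Lpn (LP (LK LD1_c10 LD2_c24 LD3_c3))))))
theorem f259693 : Led Lsl_dt (LP (LK LD1_c5 LD2_c8 LD3_c29)) = (LP (LK LD1_c4 LD2_c22 LD3_c20)) :=
  Lgr Lrot27 (Lpe (K15.f252260 IH) (Lpe (K15.f259457 IH) (Lpe (K15.f32900 IH) (Lpr_gf (K15.f231943 IH) (Lpe (K9.f47746 IH) (Lpr_gt (K15.f47760 IH) (Lpe (K15.f259685 IH) (Lpr_gt (K15.f259689 IH) (Lpe (K15.f232145 IH) (Lpn (LP (LK LD1_c4 LD2_c22 LD3_c20))))))))))))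
theorem f180834 : Led Lsl_et (LP (LK LD1_c4 LD2_c1 LD3_c49)) = (LP (LK LD1_c8 LD2_c4 LD3_c15)) :=
  Lre_e IH (LK LD1_c4 LD2_c1 LD3_c49) (LK LD1_c8 LD2_c4 LD3_c15) Lrfl Lrfl
theorem f180805 : Led Lsl_gt (LP (LK LD1_c8 LD2_c4 LD3_c15)) = (LP (LK LD1_c15 LD2_c11 LD3_c38)) :=
  Lre_g IH (LK LD1_c8 LD2_c4 LD3_c15) (LK LD1_c15 LD2_c11 LD3_c38) Lrfl Lrfl
theorem f193242 : Led Lsl_et (LP (LK LD1_c25 LD2_c0 LD3_c46)) = (LP (LK LD1_c15 LD2_c11 LD3_c38)) :=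
  Lre_e IH (LK LD1_c25 LD2_c0 LD3_c46) (LK LD1_c15 LD2_c11 LD3_c38) Lrfl Lrfl
theorem f358793 : Led Lsl_df (LP (LK LD1_c18 LD2_c33 LD3_c28)) = (LP (LK LD1_c25 LD2_c0 LD3_c46)) :=
  Lgr Lrot170 (Lpr_gt (f358791 IH) (Lpe (K21.f49172 IH) (Lpr_et (K14.f49167 IH) (Lpr_gt (K14.f252254 IH) (Lpr_dt (f259693 IH) (Lpr_gt (K15.f173253 IH) (Lpr_df (K14.f193234 IH) (Lpr_et (f180834 IH) (Lpr_gt (f180805 IH) (Lpe (f193242 IH) (Lpn (LP (LK LD1_c25 LD2_c0 LD3_c46)))))))))))))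
theorem f358797 : Led Lsl_dt (LP (LK LD1_c18 LD2_c33 LD3_c28)) = (LP (LK LD1_c25 LD2_c0 LD3_c46)) :=
  Lgr Lrot42 (Lpr_df (f358793 IH) (Lpn (LP (LK LD1_c25 LD2_c0 LD3_c46))))
theorem f251321 : Led Lsl_bt (LP (LK LD1_c10 LD2_c11 LD3_c11)) = (LP (LK LD1_c18 LD2_c33 LD3_c28)) :=
  Lre_b IH (LK LD1_c10 LD2_c11 LD3_c11) (LK LD1_c18 LD2_c33 LD3_c28) Lrfl Lrfl
theorem f358800 : Led Lsl_bf (LP (LK LD1_c17 LD2_c47 LD3_c20)) = (LP (LK LD1_c25 LD2_c0 LD3_c46)) :=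
  Lgr Lrot93 (Lpe (f251319 IH) (Lpr_bt (f251321 IH) (Lpr_dt (f358797 IH) (Lpn (LP (LK LD1_c25 LD2_c0 LD3_c46))))))
theorem f358799 : Led Lsl_et (LP (LK LD1_c15 LD2_c11 LD3_c38)) = (LP (LK LD1_c25 LD2_c0 LD3_c46)) :=
  Lre_e IH (LK LD1_c15 LD2_c11 LD3_c38) (LK LD1_c25 LD2_c0 LD3_c46) Lrfl Lrfl
theorem f358802 : Led Lsl_bt (LP (LK LD1_c9 LD2_c40 LD3_c15)) = (LP (LK LD1_c15 LD2_c11 LD3_c38)) :=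
  Lgr Lrot119 (Lpe (f251318 IH) (Lpr_bf (f358800 IH) (Lpe (f358799 IH) (Lpn (LP (LK LD1_c15 LD2_c11 LD3_c38))))))
theorem f180877 : Led Lsl_gt (LP (LK LD1_c15 LD2_c11 LD3_c48)) = (LP (LK LD1_c8 LD2_c4 LD3_c18)) :=
  Lre_g IH (LK LD1_c15 LD2_c11 LD3_c48) (LK LD1_c8 LD2_c4 LD3_c18) Lrfl Lrfl
theorem f193201 : Led Lsl_ct (LP (LK LD1_c4 LD2_c22 LD3_c23)) = (LP (LK LD1_c2 LD2_c8 LD3_c38)) :=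
  Lre_c IH (LK LD1_c4 LD2_c22 LD3_c23) (LK LD1_c2 LD2_c8 LD3_c38) Lrfl Lrfl
theorem f180828 : Led Lsl_ct (LP (LK LD1_c8 LD2_c4 LD3_c18)) = (LP (LK LD1_c4 LD2_c1 LD3_c51)) :=
  Lre_c IH (LK LD1_c8 LD2_c4 LD3_c18) (LK LD1_c4 LD2_c1 LD3_c51) Lrfl Lrfl
theorem f328764 : Led Lsl_cf (LP (LK LD1_c15 LD2_c11 LD3_c48)) = (LP (LK LD1_c8 LD2_c5 LD3_c30)) :=
  Lgr Lrot169 (Lpr_gt (f180877 IH) (Lpr_ct (f180828 IH) (Lpe (K14.f193193 IH) (Lpe (f193201 IH) (Lpr_gf (K24.f328733 IH) (Lpe (K24.f243076 IH) (Lpe (K21.f287637 IH) (Lpe (K15.f229671 IH) (Lpe (K23.f262545 IH) (Lpn (LP (LK LD1_c8 LD2_c5 LD3_c30))))))))))))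
theorem f43759 : Led Lsl_et (LP (LK LD1_c9 LD2_c39 LD3_c50)) = (LP (LK LD1_c4 LD2_c54 LD3_c10)) :=
  Lre_e IH (LK LD1_c9 LD2_c39 LD3_c50) (LK LD1_c4 LD2_c54 LD3_c10) Lrfl Lrfl
theorem f294310 : Led Lsl_ft (LP (LK LD1_c17 LD2_c46 LD3_c26)) = (LP (LK LD1_c9 LD2_c39 LD3_c50)) :=
  Lre_f IH (LK LD1_c17 LD2_c46 LD3_c26) (LK LD1_c9 LD2_c39 LD3_c50) Lrfl Lrfl
theorem f193171 : Led Lsl_ft (LP (LK LD1_c9 LD2_c40 LD3_c20)) = (LP (LK LD1_c17 LD2_c47 LD3_c28)) :=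
  Lre_f IH (LK LD1_c9 LD2_c40 LD3_c20) (LK LD1_c17 LD2_c47 LD3_c28) Lrfl Lrfl
theorem f294311 : Led Lsl_ef (LP (LK LD1_c17 LD2_c46 LD3_c26)) = (LP (LK LD1_c17 LD2_c47 LD3_c28)) :=
  Lgr Lrot21 (Lpr_ft (f294310 IH) (Lpr_et (f43759 IH) (Lpr_ft (K18.f294304 IH) (Lpr_et (K18.f193109 IH) (Lpr_ft (f193171 IH) (Lpn (LP (LK LD1_c17 LD2_c47 LD3_c28))))))))
theorem f294321 : Led Lsl_et (LP (LK LD1_c17 LD2_c46 LD3_c26)) = (LP (LK LD1_c17 LD2_c47 LD3_c28)) :=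
  Lgr Lrot87 (Lpr_ef (f294311 IH) (Lpn (LP (LK LD1_c17 LD2_c47 LD3_c28))))
theorem f294328 : Led Lsl_cf (LP (LK LD1_c17 LD2_c46 LD3_c26)) = (LP (LK LD1_c10 LD2_c28 LD3_c1)) :=
  Lgr Lrot39 (Lpr_et (f294321 IH) (Lpr_ct (K18.f193168 IH) (Lpe (K18.f294234 IH) (Lpn (LP (LK LD1_c10 LD2_c28 LD3_c1))))))
theorem f358807 : Led Lsl_gt (LP (LK LD1_c17 LD2_c47 LD3_c19)) = (LP (LK LD1_c17 LD2_c46 LD3_c26)) :=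
  Lgr Lrot65 (Lpe (f249657 IH) (Lpr_bt (f358802 IH) (Lpe (f180805 IH) (Lpe (K23.f180827 IH) (Lpr_ct (f180791 IH) (Lpe (f180877 IH) (Lpr_cf (f328764 IH) (Lpr_gf (K23.f262545 IH) (Lpr_bf (K13.f229071 IH) (Lpe (f294328 IH) (Lpn (LP (LK LD1_c17 LD2_c46 LD3_c26)))))))))))))
theorem f294251 : Led Lsl_af (LP (LK LD1_c17 LD2_c46 LD3_c20)) = (LP (LK LD1_c17 LD2_c47 LD3_c28)) :=
  Lgr Lrot0 (Lpr_at (K18.f294249 IH) (Lpn (LP (LK LD1_c17 LD2_c47 LD3_c28))))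
theorem f229977 : Led Lsl_et (LP (LK LD1_c4 LD2_c54 LD3_c9)) = (LP (LK LD1_c9 LD2_c39 LD3_c47)) :=
  Lre_e IH (LK LD1_c4 LD2_c54 LD3_c9) (LK LD1_c9 LD2_c39 LD3_c47) Lrfl Lrfl
theorem f43776 : Led Lsl_et (LP (LK LD1_c9 LD2_c40 LD3_c23)) = (LP (LK LD1_c4 LD2_c54 LD3_c25)) :=
  Lre_e IH (LK LD1_c9 LD2_c40 LD3_c23) (LK LD1_c4 LD2_c54 LD3_c25) Lrfl Lrfl
theorem f294282 : Led Lsl_ft (LP (LK LD1_c17 LD2_c47 LD3_c36)) = (LP (LK LD1_c9 LD2_c40 LD3_c23)) :=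
  Lre_f IH (LK LD1_c17 LD2_c47 LD3_c36) (LK LD1_c9 LD2_c40 LD3_c23) Lrfl Lrfl
theorem f294283 : Led Lsl_et (LP (LK LD1_c17 LD2_c46 LD3_c20)) = (LP (LK LD1_c17 LD2_c47 LD3_c36)) :=
  Lgr Lrot69 (Lpe (K18.f229965 IH) (Lpe (f229977 IH) (Lpr_ff (K18.f294274 IH) (Lpe (f43776 IH) (Lpe (f294282 IH) (Lpn (LP (LK LD1_c17 LD2_c47 LD3_c36))))))))
theorem f294323 : Led Lsl_af (LP (LK LD1_c17 LD2_c46 LD3_c26)) = (LP (LK LD1_c17 LD2_c47 LD3_c36)) :=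
  Lgr Lrot50 (Lpr_et (f294321 IH) (Lpe (f294251 IH) (Lpr_et (f294283 IH) (Lpn (LP (LK LD1_c17 LD2_c47 LD3_c36))))))
theorem f294291 : Led Lsl_ft (LP (LK LD1_c9 LD2_c40 LD3_c23)) = (LP (LK LD1_c17 LD2_c47 LD3_c36)) :=
  Lre_f IH (LK LD1_c9 LD2_c40 LD3_c23) (LK LD1_c17 LD2_c47 LD3_c36) Lrfl Lrfl
theorem f358809 : Led Lsl_gf (LP (LK LD1_c17 LD2_c47 LD3_c19)) = (LP (LK LD1_c9 LD2_c40 LD3_c23)) :=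
  Lgr Lrot47 (Lpr_gt (f358807 IH) (Lpr_af (f294323 IH) (Lpe (f294291 IH) (Lpn (LP (LK LD1_c9 LD2_c40 LD3_c23))))))
theorem f229975 : Led Lsl_ft (LP (LK LD1_c17 LD2_c46 LD3_c20)) = (LP (LK LD1_c9 LD2_c39 LD3_c47)) :=
  Lre_f IH (LK LD1_c17 LD2_c46 LD3_c20) (LK LD1_c9 LD2_c39 LD3_c47) Lrfl Lrfl
theorem f294292 : Led Lsl_ef (LP (LK LD1_c17 LD2_c46 LD3_c20)) = (LP (LK LD1_c17 LD2_c47 LD3_c36)) :=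
  Lgr Lrot21 (Lpr_ft (f229975 IH) (Lpr_et (K18.f43786 IH) (Lpr_ft (K18.f294285 IH) (Lpr_et (K25.f184058 IH) (Lpr_ft (f294291 IH) (Lpn (LP (LK LD1_c17 LD2_c47 LD3_c36))))))))
theorem f294313 : Led Lsl_at (LP (LK LD1_c17 LD2_c46 LD3_c26)) = (LP (LK LD1_c17 LD2_c47 LD3_c36)) :=
  Lgr Lrot80 (Lpr_ef (f294311 IH) (Lpe (K18.f294249 IH) (Lpr_ef (f294292 IH) (Lpn (LP (LK LD1_c17 LD2_c47 LD3_c36))))))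
theorem f294332 : Led Lsl_ct (LP (LK LD1_c17 LD2_c47 LD3_c36)) = (LP (LK LD1_c10 LD2_c25 LD3_c30)) :=
  Lgr Lrot111 (Lpe (f294313 IH) (Lpr_cf (f294328 IH) (Lpe (K18.f287656 IH) (Lpn (LP (LK LD1_c10 LD2_c25 LD3_c30))))))
theorem f294339 : Led Lsl_cf (LP (LK LD1_c9 LD2_c40 LD3_c23)) = (LP (LK LD1_c5 LD2_c17 LD3_c56)) :=
  Lgr Lrot108 (Lpr_ft (f294291 IH) (Lpr_ct (f294332 IH) (Lpr_ft (K14.f49012 IH) (Lpn (LP (LK LD1_c5 LD2_c17 LD3_c56))))))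
theorem f351321 : Led Lsl_bt (LP (LK LD1_c5 LD2_c15 LD3_c58)) = (LP (LK LD1_c5 LD2_c17 LD3_c61)) :=
  Lgr Lrot127 (Lpr_bf (K25.f351259 IH) (Lpn (LP (LK LD1_c5 LD2_c17 LD3_c61))))
theorem f47596 : Led Lsl_ct (LP (LK LD1_c5 LD2_c15 LD3_c58)) = (LP (LK LD1_c10 LD2_c21 LD3_c21)) :=
  Lre_c IH (LK LD1_c5 LD2_c15 LD3_c58) (LK LD1_c10 LD2_c21 LD3_c21) Lrfl Lrfl
theorem f193230 : Led Lsl_ct (LP (LK LD1_c8 LD2_c42 LD3_c35)) = (LP (LK LD1_c4 LD2_c22 LD3_c19)) :=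
  Lre_c IH (LK LD1_c8 LD2_c42 LD3_c35) (LK LD1_c4 LD2_c22 LD3_c19) Lrfl Lrfl
theorem f351257 : Led Lsl_gt (LP (LK LD1_c10 LD2_c21 LD3_c21)) = (LP (LK LD1_c5 LD2_c16 LD3_c3)) :=
  Lgr Lrot150 (Lpe (f47596 IH) (Lpr_gf (K25.f351245 IH) (Lpe (K12.f229018 IH) (Lpr_gt (K21.f328636 IH) (Lpr_ct (K23.f47667 IH) (Lpr_gt (K23.f333058 IH) (Lpr_ct (f193230 IH) (Lpr_df (K23.f193199 IH) (Lpe (K25.f180777 IH) (Lpn (LP (LK LD1_c5 LD2_c16 LD3_c3))))))))))))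
theorem f180824 : Led Lsl_ft (LP (LK LD1_c5 LD2_c16 LD3_c3)) = (LP (LK LD1_c10 LD2_c21 LD3_c38)) :=
  Lre_f IH (LK LD1_c5 LD2_c16 LD3_c3) (LK LD1_c10 LD2_c21 LD3_c38) Lrfl Lrfl
theorem f350774 : Led Lsl_af (LP (LK LD1_c18 LD2_c45 LD3_c3)) = (LP (LK LD1_c10 LD2_c21 LD3_c38)) :=
  Lgr Lrot31 (Lpe (K23.f349869 IH) (Lpr_gf (K25.f350772 IH) (Lpr_ft (f180824 IH) (Lpn (LP (LK LD1_c10 LD2_c21 LD3_c38))))))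
theorem f350780 : Led Lsl_at (LP (LK LD1_c10 LD2_c19 LD3_c42)) = (LP (LK LD1_c5 LD2_c16 LD3_c3)) :=
  Lgr Lrot66 (Lpe (K17.f49500 IH) (Lpr_af (f350774 IH) (Lpe (f180824 IH) (Lpn (LP (LK LD1_c5 LD2_c16 LD3_c3))))))
theorem f351344 : Led Lsl_gf (LP (LK LD1_c10 LD2_c21 LD3_c21)) = (LP (LK LD1_c18 LD2_c45 LD3_c3)) :=
  Lgr Lrot47 (Lpr_gt (f351257 IH) (Lpe (f350780 IH) (Lpe (K17.f49500 IH) (Lpn (LP (LK LD1_c18 LD2_c45 LD3_c3))))))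
theorem f358814 : Led Lsl_gt (LP (LK LD1_c15 LD2_c11 LD3_c38)) = (LP (LK LD1_c15 LD2_c50 LD3_c56)) :=
  Lgr Lrot82 (Lpe (f358802 IH) (Lpr_ct (f249657 IH) (Lpr_gf (f358809 IH) (Lpr_cf (f294339 IH) (Lpr_bt (K22.f48274 IH) (Lpe (K25.f48287 IH) (Lpe (f351321 IH) (Lpr_ct (f47596 IH) (Lpr_gf (f351344 IH) (Lpr_cf (K17.f49502 IH) (Lpn (LP (LK LD1_c15 LD2_c50 LD3_c56)))))))))))))
theorem f335737 : Led Lsl_bt (LP (LK LD1_c5 LD2_c19 LD3_c60)) = (LP (LK LD1_c10 LD2_c25 LD3_c29)) :=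
  Lgr Lrot119 (Lpr_ef (K21.f307698 IH) (Lpe (K22.f170045 IH) (Lpr_ef (K23.f335733 IH) (Lpn (LP (LK LD1_c10 LD2_c25 LD3_c29))))))
theorem f255998 : Led Lsl_ct (LP (LK LD1_c5 LD2_c19 LD3_c60)) = (LP (LK LD1_c10 LD2_c29 LD3_c54)) :=
  Lre_c IH (LK LD1_c5 LD2_c19 LD3_c60) (LK LD1_c10 LD2_c29 LD3_c54) Lrfl Lrfl
theorem f358816 : Led Lsl_gt (LP (LK LD1_c10 LD2_c28 LD3_c59)) = (LP (LK LD1_c10 LD2_c29 LD3_c54)) :=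
  Lgr Lrot65 (Lpr_cf (K17.f230089 IH) (Lpr_bt (K17.f230133 IH) (Lpe (f358814 IH) (Lpe (f358802 IH) (Lpr_ct (f249657 IH) (Lpr_gf (f358809 IH) (Lpr_cf (f294339 IH) (Lpe (K22.f49025 IH) (Lpe (f335737 IH) (Lpr_ct (f255998 IH) (Lpn (LP (LK LD1_c10 LD2_c29 LD3_c54)))))))))))))
theorem f321837 : Led Lsl_af (LP (LK LD1_c5 LD2_c20 LD3_c5)) = (LP (LK LD1_c5 LD2_c19 LD3_c33)) :=
  Lgr Lrot0 (Lpr_at (K20.f321786 IH) (Lpn (LP (LK LD1_c5 LD2_c19 LD3_c33))))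
theorem f358818 : Led Lsl_gf (LP (LK LD1_c5 LD2_c20 LD3_c5)) = (LP (LK LD1_c10 LD2_c29 LD3_c54)) :=
  Lgr Lrot76 (Lpr_af (f321837 IH) (Lpe (K17.f230087 IH) (Lpr_gt (f358816 IH) (Lpn (LP (LK LD1_c10 LD2_c29 LD3_c54))))))
theorem f212320 : Led Lsl_et (LP (LK LD1_c2 LD2_c36 LD3_c42)) = (LP (LK LD1_c5 LD2_c20 LD3_c5)) :=
  Lre_e IH (LK LD1_c2 LD2_c36 LD3_c42) (LK LD1_c5 LD2_c20 LD3_c5) Lrfl Lrfl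
theorem f212321 : Led Lsl_ct (LP (LK LD1_c5 LD2_c20 LD3_c5)) = (LP (LK LD1_c5 LD2_c9 LD3_c2)) :=
  Lgr Lrot15 (Lpe (f212320 IH) (Lpr_cf (K12.f212313 IH) (Lpe (K15.f212312 IH) (Lpn (LP (LK LD1_c5 LD2_c9 LD3_c2))))))
theorem f169371 : Led Lsl_ct (LP (LK LD1_c8 LD2_c32 LD3_c48)) = (LP (LK LD1_c16 LD2_c2 LD3_c46)) :=
  Lre_c IH (LK LD1_c8 LD2_c32 LD3_c48) (LK LD1_c16 LD2_c2 LD3_c46) Lrfl Lrfl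
theorem f358820 : Led Lsl_gf (LP (LK LD1_c10 LD2_c38 LD3_c35)) = (LP (LK LD1_c16 LD2_c2 LD3_c46)) :=
  Lgr Lrot104 (Lpr_ct (K19.f309320 IH) (Lpr_df (K15.f229512 IH) (Lpe (f212321 IH) (Lpr_gf (f358818 IH) (Lpe (f255998 IH) (Lpr_gf (K19.f307682 IH) (Lpe (K10.f169355 IH) (Lpr_gt (K21.f169370 IH) (Lpr_ct (f169371 IH) (Lpn (LP (LK LD1_c16 LD2_c2 LD3_c46))))))))))))
theorem f349793 : Led Lsl_ft (LP (LK LD1_c26 LD2_c0 LD3_c16)) = (LP (LK LD1_c16 LD2_c2 LD3_c48)) :=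
  Lgr Lrot4 (Lpr_cf (K23.f349785 IH) (Lpe (K15.f230396 IH) (Lpe (K19.f309316 IH) (Lpn (LP (LK LD1_c16 LD2_c2 LD3_c48))))))
theorem f358932 : Led Lsl_gt (LP (LK LD1_c26 LD2_c0 LD3_c16)) = (LP (LK LD1_c16 LD2_c2 LD3_c46)) :=
  Lgr Lrot5 (Lpr_ft (f349793 IH) (Lpr_at (K19.f309302 IH) (Lpr_gf (f358820 IH) (Lpn (LP (LK LD1_c16 LD2_c2 LD3_c46))))))
theorem f248341 : Led Lsl_ct (LP (LK LD1_c16 LD2_c2 LD3_c46)) = (LP (LK LD1_c8 LD2_c32 LD3_c48)) :=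
  Lre_c IH (LK LD1_c16 LD2_c2 LD3_c46) (LK LD1_c8 LD2_c32 LD3_c48) Lrfl Lrfl
theorem f249170 : Led Lsl_ct (LP (LK LD1_c10 LD2_c2 LD3_c3)) = (LP (LK LD1_c5 LD2_c5 LD3_c27)) :=
  Lre_c IH (LK LD1_c10 LD2_c2 LD3_c3) (LK LD1_c5 LD2_c5 LD3_c27) Lrfl Lrfl
theorem f347574 : Led Lsl_ft (LP (LK LD1_c8 LD2_c17 LD3_c42)) = (LP (LK LD1_c15 LD2_c36 LD3_c0)) :=
  Lre_f IH (LK LD1_c8 LD2_c17 LD3_c42) (LK LD1_c15 LD2_c36 LD3_c0) Lrfl Lrfl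
theorem f347575 : Led Lsl_at (LP (LK LD1_c15 LD2_c36 LD3_c0)) = (LP (LK LD1_c25 LD2_c27 LD3_c8)) :=
  Lgr Lrot66 (Lpe (f347574 IH) (Lpr_af (K23.f347562 IH) (Lpe (K23.f47619 IH) (Lpn (LP (LK LD1_c25 LD2_c27 LD3_c8))))))
theorem f347632 : Led Lsl_af (LP (LK LD1_c8 LD2_c17 LD3_c43)) = (LP (LK LD1_c15 LD2_c33 LD3_c33)) :=
  Lgr Lrot117 (Lpr_dt (K23.f328624 IH) (Lpr_at (f347575 IH) (Lpr_dt (K23.f47615 IH) (Lpn (LP (LK LD1_c15 LD2_c33 LD3_c33))))))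
theorem f48323 : Led Lsl_gt (LP (LK LD1_c8 LD2_c16 LD3_c29)) = (LP (LK LD1_c15 LD2_c33 LD3_c30)) :=
  Lre_g IH (LK LD1_c8 LD2_c16 LD3_c29) (LK LD1_c15 LD2_c33 LD3_c30) Lrfl Lrfl
theorem f347657 : Led Lsl_gf (LP (LK LD1_c8 LD2_c17 LD3_c43)) = (LP (LK LD1_c15 LD2_c33 LD3_c30)) :=
  Lgr Lrot76 (Lpr_af (f347632 IH) (Lpe (K21.f328535 IH) (Lpr_gt (f48323 IH) (Lpn (LP (LK LD1_c15 LD2_c33 LD3_c30))))))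
theorem f327617 : Led Lsl_bf (LP (LK LD1_c15 LD2_c42 LD3_c51)) = (LP (LK LD1_c15 LD2_c15 LD3_c3)) :=
  Lgr Lrot24 (Lpr_bt (K22.f327614 IH) (Lpn (LP (LK LD1_c15 LD2_c15 LD3_c3))))
theorem f347660 : Led Lsl_ct (LP (LK LD1_c15 LD2_c15 LD3_c3)) = (LP (LK LD1_c15 LD2_c33 LD3_c30)) :=
  Lgr Lrot64 (Lpe (f327617 IH) (Lpr_gf (K21.f327469 IH) (Lpe (K21.f199640 IH) (Lpr_ct (K21.f199651 IH) (Lpe (K21.f327475 IH) (Lpe (K21.f230991 IH) (Lpr_gf (K21.f327502 IH) (Lpe (K21.f229009 IH) (Lpr_ct (K23.f327506 IH) (Lpr_gf (f347657 IH) (Lpn (LP (LK LD1_c15 LD2_c33 LD3_c30)))))))))))))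
theorem f347667 : Led Lsl_cf (LP (LK LD1_c15 LD2_c15 LD3_c3)) = (LP (LK LD1_c15 LD2_c33 LD3_c30)) :=
  Lgr Lrot11 (Lpr_ct (f347660 IH) (Lpn (LP (LK LD1_c15 LD2_c33 LD3_c30))))
theorem f327619 : Led Lsl_bf (LP (LK LD1_c17 LD2_c45 LD3_c45)) = (LP (LK LD1_c9 LD2_c52 LD3_c25)) :=
  Lgr Lrot93 (Lpe (K25.f327479 IH) (Lpr_bt (K22.f327614 IH) (Lpe (K22.f219958 IH) (Lpn (LP (LK LD1_c9 LD2_c52 LD3_c25))))))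
theorem f49054 : Led Lsl_gt (LP (LK LD1_c10 LD2_c24 LD3_c50)) = (LP (LK LD1_c5 LD2_c17 LD3_c35)) :=
  Lre_g IH (LK LD1_c10 LD2_c24 LD3_c50) (LK LD1_c5 LD2_c17 LD3_c35) Lrfl Lrfl
theorem f331437 : Led Lsl_ct (LP (LK LD1_c9 LD2_c52 LD3_c25)) = (LP (LK LD1_c10 LD2_c24 LD3_c50)) :=
  Lgr Lrot64 (Lpe (f327619 IH) (Lpr_gf (K22.f331433 IH) (Lpe (K22.f279348 IH) (Lpr_ct (K22.f279366 IH) (Lpr_gf (K22.f331431 IH) (Lpe (K22.f331424 IH) (Lpe (K21.f229160 IH) (Lpr_bf (K15.f229149 IH) (Lpr_ct (K16.f48322 IH) (Lpe (f49054 IH) (Lpn (LP (LK LD1_c10 LD2_c24 LD3_c50)))))))))))))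
theorem f331442 : Led Lsl_cf (LP (LK LD1_c9 LD2_c52 LD3_c25)) = (LP (LK LD1_c10 LD2_c24 LD3_c50)) :=
  Lgr Lrot11 (Lpr_ct (f331437 IH) (Lpn (LP (LK LD1_c10 LD2_c24 LD3_c50))))
theorem f47584 : Led Lsl_ct (LP (LK LD1_c4 LD2_c8 LD3_c14)) = (LP (LK LD1_c8 LD2_c16 LD3_c29)) :=
  Lre_c IH (LK LD1_c4 LD2_c8 LD3_c14) (LK LD1_c8 LD2_c16 LD3_c29) Lrfl Lrfl
theorem f254557 : Led Lsl_ct (LP (LK LD1_c8 LD2_c31 LD3_c50)) = (LP (LK LD1_c16 LD2_c0 LD3_c45)) :=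
  Lre_c IH (LK LD1_c8 LD2_c31 LD3_c50) (LK LD1_c16 LD2_c0 LD3_c45) Lrfl Lrfl
theorem f347695 : Led Lsl_gf (LP (LK LD1_c10 LD2_c24 LD3_c50)) = (LP (LK LD1_c16 LD2_c0 LD3_c45)) :=
  Lgr Lrot104 (Lpe (f331442 IH) (Lpr_df (K22.f219958 IH) (Lpr_cf (f347667 IH) (Lpe (f48323 IH) (Lpe (f47584 IH) (Lpe (K10.f47607 IH) (Lpr_df (K10.f48311 IH) (Lpe (K21.f273564 IH) (Lpr_ct (f254557 IH) (Lpn (LP (LK LD1_c16 LD2_c0 LD3_c45))))))))))))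
theorem f331404 : Led Lsl_gt (LP (LK LD1_c10 LD2_c15 LD3_c1)) = (LP (LK LD1_c10 LD2_c27 LD3_c55)) :=
  Lgr Lrot46 (Lpr_gf (K22.f331391 IH) (Lpr_ft (K16.f193038 IH) (Lpe (K16.f271398 IH) (Lpn (LP (LK LD1_c10 LD2_c27 LD3_c55))))))
theorem f347698 : Led Lsl_gt (LP (LK LD1_c17 LD2_c45 LD3_c44)) = (LP (LK LD1_c10 LD2_c15 LD3_c2)) :=
  Lgr Lrot149 (Lpe (K22.f231837 IH) (Lpe (K22.f43827 IH) (Lpr_bf (f327619 IH) (Lpr_ct (f331437 IH) (Lpr_gf (f347695 IH) (Lpe (f254557 IH) (Lpe (K16.f254549 IH) (Lpe (f331404 IH) (Lpe (K22.f249166 IH) (Lpr_ct (K22.f200179 IH) (Lpn (LP (LK LD1_c10 LD2_c15 LD3_c2)))))))))))))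
theorem f249179 : Led Lsl_dt (LP (LK LD1_c10 LD2_c15 LD3_c2)) = (LP (LK LD1_c18 LD2_c39 LD3_c4)) :=
  Lre_d IH (LK LD1_c10 LD2_c15 LD3_c2) (LK LD1_c18 LD2_c39 LD3_c4) Lrfl Lrfl
theorem f291909 : Led Lsl_gf (LP (LK LD1_c8 LD2_c11 LD3_c47)) = (LP (LK LD1_c8 LD2_c52 LD3_c49)) :=
  Lgr Lrot143 (Lpr_dt (K1.f46181 IH) (Lpe (K13.f46171 IH) (Lpe (K13.f46135 IH) (Lpr_gf (K14.f192359 IH) (Lpe (K15.f31636 IH) (Lpe (K14.f31637 IH) (Lpe (K14.f242977 IH) (Lpr_gt (K15.f242995 IH) (Lpr_dt (K21.f291903 IH) (Lpn (LP (LK LD1_c8 LD2_c52 LD3_c49))))))))))))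
theorem f284781 : Led Lsl_dt (LP (LK LD1_c8 LD2_c52 LD3_c49)) = (LP (LK LD1_c8 LD2_c11 LD3_c4)) :=
  Lgr Lrot57 (Lpe (K20.f44819 IH) (Lpe (K15.f46186 IH) (Lpr_gt (K15.f47286 IH) (Lpe (K15.f188071 IH) (Lpe (K17.f230884 IH) (Lpr_dt (K17.f180043 IH) (Lpr_cf (K17.f284080 IH) (Lpe (K17.f230797 IH) (Lpr_gf (K17.f284779 IH) (Lpn (LP (LK LD1_c8 LD2_c11 LD3_c4))))))))))))
theorem f215057 : Led Lsl_ct (LP (LK LD1_c5 LD2_c1 LD3_c17)) = (LP (LK LD1_c2 LD2_c28 LD3_c21)) :=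
  Lre_c IH (LK LD1_c5 LD2_c1 LD3_c17) (LK LD1_c2 LD2_c28 LD3_c21) Lrfl Lrfl
theorem f291825 : Led Lsl_cf (LP (LK LD1_c8 LD2_c52 LD3_c49)) = (LP (LK LD1_c8 LD2_c11 LD3_c20)) :=
  Lgr Lrot55 (Lpr_dt (f284781 IH) (Lpr_ct (K15.f187880 IH) (Lpr_dt (K19.f187891 IH) (Lpr_ct (K10.f46221 IH) (Lpr_dt (K17.f47416 IH) (Lpr_ct (K13.f182447 IH) (Lpr_dt (K20.f265773 IH) (Lpr_ct (K20.f284719 IH) (Lpr_dt (K20.f291758 IH) (Lpr_ct (f215057 IH) (Lpr_dt (K14.f192483 IH) (Lpe (K10.f192452 IH) (Lpr_dt (K15.f46215 IH) (Lpr_ct (K20.f188089 IH) (Lpr_dt (K20.f188091 IH) (Lpn (LP (LK LD1_c8 LD2_c11 LD3_c20))))))))))))))))))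
theorem f291914 : Led Lsl_gt (LP (LK LD1_c15 LD2_c24 LD3_c53)) = (LP (LK LD1_c8 LD2_c11 LD3_c20)) :=
  Lgr Lrot146 (Lpr_dt (K20.f265775 IH) (Lpe (K13.f216151 IH) (Lpr_ct (K17.f194227 IH) (Lpr_gt (K13.f47418 IH) (Lpr_ct (K1.f46177 IH) (Lpr_dt (K1.f46178 IH) (Lpe (K15.f47214 IH) (Lpr_gf (f291909 IH) (Lpr_cf (f291825 IH) (Lpn (LP (LK LD1_c8 LD2_c11 LD3_c20))))))))))))
theorem f291922 : Led Lsl_cf (LP (LK LD1_c15 LD2_c24 LD3_c53)) = (LP (LK LD1_c10 LD2_c16 LD3_c42)) :=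
  Lgr Lrot169 (Lpr_gt (f291914 IH) (Lpe (f291825 IH) (Lpe (K21.f291903 IH) (Lpe (K15.f187881 IH) (Lpe (K17.f284783 IH) (Lpr_cf (K15.f265835 IH) (Lpe (K15.f185417 IH) (Lpe (K12.f183895 IH) (Lpr_gt (K12.f230678 IH) (Lpn (LP (LK LD1_c10 LD2_c16 LD3_c42))))))))))))
theorem f291929 : Led Lsl_ct (LP (LK LD1_c15 LD2_c24 LD3_c53)) = (LP (LK LD1_c10 LD2_c16 LD3_c42)) :=
  Lgr Lrot59 (Lpr_cf (f291922 IH) (Lpn (LP (LK LD1_c10 LD2_c16 LD3_c42))))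
theorem f191275 : Led Lsl_dt (LP (LK LD1_c4 LD2_c5 LD3_c18)) = (LP (LK LD1_c8 LD2_c11 LD3_c27)) :=
  Lre_d IH (LK LD1_c4 LD2_c5 LD3_c18) (LK LD1_c8 LD2_c11 LD3_c27) Lrfl Lrfl
theorem f291912 : Led Lsl_gt (LP (LK LD1_c4 LD2_c27 LD3_c20)) = (LP (LK LD1_c4 LD2_c27 LD3_c27)) :=
  Lgr Lrot49 (Lpe (K1.f46181 IH) (Lpr_gf (f291909 IH) (Lpr_cf (f291825 IH) (Lpe (K20.f291843 IH) (Lpr_dt (K14.f30892 IH) (Lpe (K11.f191273 IH) (Lpr_dt (f191275 IH) (Lpe (K17.f284685 IH) (Lpe (K17.f190747 IH) (Lpn (LP (LK LD1_c4 LD2_c27 LD3_c27))))))))))))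
theorem f230734 : Led Lsl_dt (LP (LK LD1_c5 LD2_c18 LD3_c29)) = (LP (LK LD1_c10 LD2_c16 LD3_c42)) :=
  Lgr Lrot42 (Lpr_df (K12.f230724 IH) (Lpn (LP (LK LD1_c10 LD2_c16 LD3_c42))))
theorem f291942 : Led Lsl_ct (LP (LK LD1_c4 LD2_c27 LD3_c27)) = (LP (LK LD1_c2 LD2_c28 LD3_c31)) :=
  Lgr Lrot152 (Lpe (f291912 IH) (Lpe (K1.f46181 IH) (Lpe (K20.f291827 IH) (Lpe (K21.f291905 IH) (Lpr_gt (K20.f265774 IH) (Lpr_ct (f291929 IH) (Lpe (f230734 IH) (Lpe (K10.f183970 IH) (Lpr_gf (K14.f247716 IH) (Lpn (LP (LK LD1_c2 LD2_c28 LD3_c31))))))))))))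
theorem f44786 : Led Lsl_et (LP (LK LD1_c8 LD2_c52 LD3_c43)) = (LP (LK LD1_c4 LD2_c27 LD3_c27)) :=
  Lre_e IH (LK LD1_c8 LD2_c52 LD3_c43) (LK LD1_c4 LD2_c27 LD3_c27) Lrfl Lrfl
theorem f291946 : Led Lsl_cf (LP (LK LD1_c8 LD2_c52 LD3_c43)) = (LP (LK LD1_c5 LD2_c1 LD3_c40)) :=
  Lgr Lrot39 (Lpr_et (f44786 IH) (Lpr_ct (f291942 IH) (Lpr_et (K21.f251578 IH) (Lpn (LP (LK LD1_c5 LD2_c1 LD3_c40))))))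
theorem f291951 : Led Lsl_ct (LP (LK LD1_c8 LD2_c52 LD3_c43)) = (LP (LK LD1_c5 LD2_c1 LD3_c40)) :=
  Lgr Lrot59 (Lpr_cf (f291946 IH) (Lpn (LP (LK LD1_c5 LD2_c1 LD3_c40))))
theorem f291955 : Led Lsl_dt (LP (LK LD1_c16 LD2_c35 LD3_c52)) = (LP (LK LD1_c8 LD2_c52 LD3_c43)) :=
  Lre_d IH (LK LD1_c16 LD2_c35 LD3_c52) (LK LD1_c8 LD2_c52 LD3_c43) Lrfl Lrfl
theorem f355694 : Led Lsl_gt (LP (LK LD1_c18 LD2_c39 LD3_c4)) = (LP (LK LD1_c16 LD2_c35 LD3_c52)) :=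
  Lgr Lrot49 (Lpe (f249179 IH) (Lpe (f347698 IH) (Lpe (K22.f231837 IH) (Lpe (K25.f355681 IH) (Lpr_dt (f355683 IH) (Lpr_gt (f355690 IH) (Lpe (K21.f327472 IH) (Lpe (f291951 IH) (Lpe (f291955 IH) (Lpn (LP (LK LD1_c16 LD2_c35 LD3_c52))))))))))))
theorem f249171 : Led Lsl_et (LP (LK LD1_c10 LD2_c15 LD3_c2)) = (LP (LK LD1_c10 LD2_c2 LD3_c3)) :=
  Lgr Lrot158 (Lpe (K22.f200179 IH) (Lpr_ef (K22.f249164 IH) (Lpe (f249170 IH) (Lpn (LP (LK LD1_c10 LD2_c2 LD3_c3))))))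
theorem f44787 : Led Lsl_dt (LP (LK LD1_c8 LD2_c52 LD3_c43)) = (LP (LK LD1_c16 LD2_c35 LD3_c52)) :=
  Lre_d IH (LK LD1_c8 LD2_c52 LD3_c43) (LK LD1_c16 LD2_c35 LD3_c52) Lrfl Lrfl
theorem f291911 : Led Lsl_et (LP (LK LD1_c8 LD2_c11 LD3_c4)) = (LP (LK LD1_c15 LD2_c24 LD3_c36)) :=
  Lre_e IH (LK LD1_c8 LD2_c11 LD3_c4) (LK LD1_c15 LD2_c24 LD3_c36) Lrfl Lrfl
theorem f355698 : Led Lsl_gf (LP (LK LD1_c10 LD2_c2 LD3_c3)) = (LP (LK LD1_c15 LD2_c24 LD3_c36)) :=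
  Lgr Lrot141 (Lpe (f249171 IH) (Lpr_dt (f249179 IH) (Lpr_gt (f355694 IH) (Lpe (f44787 IH) (Lpr_et (f44786 IH) (Lpr_gt (K15.f44785 IH) (Lpr_dt (K13.f44778 IH) (Lpr_gt (K20.f44819 IH) (Lpe (K21.f291903 IH) (Lpr_et (f291911 IH) (Lpn (LP (LK LD1_c15 LD2_c24 LD3_c36)))))))))))))
theorem f191074 : Led Lsl_ct (LP (LK LD1_c8 LD2_c11 LD3_c5)) = (LP (LK LD1_c15 LD2_c24 LD3_c36)) :=
  Lre_c IH (LK LD1_c8 LD2_c11 LD3_c5) (LK LD1_c15 LD2_c24 LD3_c36) Lrfl Lrfl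
theorem f191081 : Led Lsl_gt (LP (LK LD1_c15 LD2_c24 LD3_c37)) = (LP (LK LD1_c8 LD2_c11 LD3_c5)) :=
  Lre_g IH (LK LD1_c15 LD2_c24 LD3_c37) (LK LD1_c8 LD2_c11 LD3_c5) Lrfl Lrfl
theorem f358934 : Led Lsl_dt (LP (LK LD1_c14 LD2_c58 LD3_c11)) = (LP (LK LD1_c15 LD2_c24 LD3_c37)) :=
  Lgr Lrot6 (Lpr_gt (K22.f266232 IH) (Lpe (K23.f349785 IH) (Lpr_gt (f358932 IH) (Lpr_ct (f248341 IH) (Lpr_df (K21.f249120 IH) (Lpe (f249170 IH) (Lpr_gf (f355698 IH) (Lpe (f191074 IH) (Lpe (f191081 IH) (Lpn (LP (LK LD1_c15 LD2_c24 LD3_c37))))))))))))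
theorem f361071 : Led Lsl_dt (LP (LK LD1_c9 LD2_c35 LD3_c31)) = (LP (LK LD1_c17 LD2_c39 LD3_c43)) :=
  Lre_d IH (LK LD1_c9 LD2_c35 LD3_c31) (LK LD1_c17 LD2_c39 LD3_c43) Lrfl Lrfl
theorem f361081 : Led Lsl_gf (LP (LK LD1_c15 LD2_c24 LD3_c37)) = (LP (LK LD1_c17 LD2_c39 LD3_c43)) :=
  Lgr Lrot134 (Lpe (f358934 IH) (Lpe (K22.f327488 IH) (Lpe (f330857 IH) (Lpe (K20.f322154 IH) (Lpr_dt (K20.f322152 IH) (Lpr_gt (f355509 IH) (Lpe (f355515 IH) (Lpr_et (f305924 IH) (Lpr_gt (f361076 IH) (Lpr_dt (f361071 IH) (Lpn (LP (LK LD1_c17 LD2_c39 LD3_c43)))))))))))))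
theorem f238273 : Led Lsl_ft (LP (LK LD1_c17 LD2_c39 LD3_c43)) = (LP (LK LD1_c9 LD2_c35 LD3_c30)) :=
  Lre_f IH (LK LD1_c17 LD2_c39 LD3_c43) (LK LD1_c9 LD2_c35 LD3_c30) Lrfl Lrfl
theorem f361083 : Led Lsl_af (LP (LK LD1_c8 LD2_c11 LD3_c5)) = (LP (LK LD1_c9 LD2_c35 LD3_c30)) :=
  Lgr Lrot31 (Lpe (f191081 IH) (Lpr_gf (f361081 IH) (Lpr_ft (f238273 IH) (Lpn (LP (LK LD1_c9 LD2_c35 LD3_c30))))))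
theorem f191077 : Led Lsl_ft (LP (LK LD1_c8 LD2_c11 LD3_c5)) = (LP (LK LD1_c15 LD2_c24 LD3_c38)) :=
  Lre_f IH (LK LD1_c8 LD2_c11 LD3_c5) (LK LD1_c15 LD2_c24 LD3_c38) Lrfl Lrfl
theorem f361093 : Led Lsl_at (LP (LK LD1_c15 LD2_c24 LD3_c38)) = (LP (LK LD1_c17 LD2_c39 LD3_c43)) :=
  Lgr Lrot66 (Lpe (f191077 IH) (Lpr_af (f361083 IH) (Lpe (f238273 IH) (Lpn (LP (LK LD1_c17 LD2_c39 LD3_c43))))))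
theorem f361014 : Led Lsl_dt (LP (LK LD1_c17 LD2_c39 LD3_c43)) = (LP (LK LD1_c9 LD2_c35 LD3_c31)) :=
  Lre_d IH (LK LD1_c17 LD2_c39 LD3_c43) (LK LD1_c9 LD2_c35 LD3_c31) Lrfl Lrfl
theorem f359397 : Led Lsl_at (LP (LK LD1_c9 LD2_c35 LD3_c31)) = (LP (LK LD1_c17 LD2_c39 LD3_c35)) :=
  Lre_a IH (LK LD1_c9 LD2_c35 LD3_c31) (LK LD1_c17 LD2_c39 LD3_c35) Lrfl Lrfl
theorem f361098 : Led Lsl_df (LP (LK LD1_c15 LD2_c24 LD3_c38)) = (LP (LK LD1_c17 LD2_c39 LD3_c35)) :=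
  Lgr Lrot18 (Lpr_at (f361093 IH) (Lpr_dt (f361014 IH) (Lpr_at (f359397 IH) (Lpn (LP (LK LD1_c17 LD2_c39 LD3_c35))))))
theorem f345635 : Led Lsl_gf (LP (LK LD1_c19 LD2_c15 LD3_c59)) = (LP (LK LD1_c15 LD2_c45 LD3_c1)) :=
  Lgr Lrot144 (Lpr_dt (f339603 IH) (Lpr_gt (f345631 IH) (Lpr_dt (K23.f246761 IH) (Lpe (K23.f167139 IH) (Lpr_df (f344346 IH) (Lpe (K23.f316494 IH) (Lpe (K21.f215497 IH) (Lpe (K19.f215512 IH) (Lpe (K19.f215513 IH) (Lpn (LP (LK LD1_c15 LD2_c45 LD3_c1))))))))))))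
theorem f361112 : Led Lsl_gt (LP (LK LD1_c15 LD2_c24 LD3_c38)) = (LP (LK LD1_c15 LD2_c48 LD3_c42)) :=
  Lgr Lrot112 (Lpr_df (f361098 IH) (Lpr_et (f359393 IH) (Lpr_gf (f345635 IH) (Lpr_ef (K22.f336310 IH) (Lpe (K22.f336314 IH) (Lpr_gf (K22.f336336 IH) (Lpe (K22.f330853 IH) (Lpe (K21.f304636 IH) (Lpe (K21.f304596 IH) (Lpr_dt (K21.f304635 IH) (Lpn (LP (LK LD1_c15 LD2_c48 LD3_c42)))))))))))))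
theorem f361110 : Led Lsl_dt (LP (LK LD1_c15 LD2_c24 LD3_c38)) = (LP (LK LD1_c17 LD2_c39 LD3_c35)) :=
  Lgr Lrot42 (Lpr_df (f361098 IH) (Lpn (LP (LK LD1_c17 LD2_c39 LD3_c35))))
theorem f349867 : Led Lsl_ct (LP (LK LD1_c10 LD2_c22 LD3_c28)) = (LP (LK LD1_c10 LD2_c8 LD3_c37)) :=
  Lgr Lrot59 (Lpr_cf (K23.f349865 IH) (Lpn (LP (LK LD1_c10 LD2_c8 LD3_c37))))
theorem f307636 : Led Lsl_gt (LP (LK LD1_c10 LD2_c29 LD3_c51)) = (LP (LK LD1_c10 LD2_c22 LD3_c28)) :=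
  Lgr Lrot5 (Lpr_ft (K19.f288925 IH) (Lpr_at (K19.f307622 IH) (Lpe (K23.f165991 IH) (Lpn (LP (LK LD1_c10 LD2_c22 LD3_c28))))))
theorem f302864 : Led Lsl_gt (LP (LK LD1_c4 LD2_c18 LD3_c5)) = (LP (LK LD1_c8 LD2_c34 LD3_c55)) :=
  Lre_g IH (LK LD1_c4 LD2_c18 LD3_c5) (LK LD1_c8 LD2_c34 LD3_c55) Lrfl Lrfl
theorem f302865 : Led Lsl_ct (LP (LK LD1_c8 LD2_c34 LD3_c55)) = (LP (LK LD1_c16 LD2_c6 LD3_c6)) :=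
  Lre_c IH (LK LD1_c8 LD2_c34 LD3_c55) (LK LD1_c16 LD2_c6 LD3_c6) Lrfl Lrfl
theorem f359211 : Led Lsl_ct (LP (LK LD1_c8 LD2_c35 LD3_c4)) = (LP (LK LD1_c9 LD2_c35 LD3_c29)) :=
  Lgr Lrot151 (Lpe (K21.f302866 IH) (Lpe (f302865 IH) (Lpe (f302864 IH) (Lpe (K20.f302852 IH) (Lpr_gt (K20.f302839 IH) (Lpr_ct (K25.f248322 IH) (Lpr_gt (f307636 IH) (Lpr_ct (f349867 IH) (Lpr_dt (f359205 IH) (Lpn (LP (LK LD1_c9 LD2_c35 LD3_c29))))))))))))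
theorem f359214 : Led Lsl_cf (LP (LK LD1_c8 LD2_c35 LD3_c4)) = (LP (LK LD1_c9 LD2_c35 LD3_c29)) :=
  Lgr Lrot11 (Lpr_ct (f359211 IH) (Lpn (LP (LK LD1_c9 LD2_c35 LD3_c29))))
theorem f167520 : Led Lsl_gt (LP (LK LD1_c8 LD2_c35 LD3_c4)) = (LP (LK LD1_c4 LD2_c18 LD3_c4)) :=
  Lre_g IH (LK LD1_c8 LD2_c35 LD3_c4) (LK LD1_c4 LD2_c18 LD3_c4) Lrfl Lrfl
theorem f167514 : Led Lsl_ct (LP (LK LD1_c4 LD2_c18 LD3_c4)) = (LP (LK LD1_c2 LD2_c6 LD3_c20)) :=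
  Lre_c IH (LK LD1_c4 LD2_c18 LD3_c4) (LK LD1_c2 LD2_c6 LD3_c20) Lrfl Lrfl
theorem f167498 : Led Lsl_ct (LP (LK LD1_c5 LD2_c5 LD3_c26)) = (LP (LK LD1_c2 LD2_c29 LD3_c60)) :=
  Lre_c IH (LK LD1_c5 LD2_c5 LD3_c26) (LK LD1_c2 LD2_c29 LD3_c60) Lrfl Lrfl
theorem f167521 : Led Lsl_gt (LP (LK LD1_c10 LD2_c1 LD3_c61)) = (LP (LK LD1_c5 LD2_c5 LD3_c26)) :=
  Lre_g IH (LK LD1_c10 LD2_c1 LD3_c61) (LK LD1_c5 LD2_c5 LD3_c26) Lrfl Lrfl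
theorem f361114 : Led Lsl_cf (LP (LK LD1_c10 LD2_c1 LD3_c61)) = (LP (LK LD1_c15 LD2_c48 LD3_c42)) :=
  Lgr Lrot169 (Lpr_gt (f167521 IH) (Lpr_ct (f167498 IH) (Lpe (K19.f167435 IH) (Lpe (f167514 IH) (Lpe (f167520 IH) (Lpr_cf (f359214 IH) (Lpe (f359213 IH) (Lpe (f361110 IH) (Lpr_gt (f361112 IH) (Lpn (LP (LK LD1_c15 LD2_c48 LD3_c42))))))))))))
theorem f167452 : Led Lsl_ct (LP (LK LD1_c2 LD2_c30 LD3_c6)) = (LP (LK LD1_c5 LD2_c5 LD3_c47)) :=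
  Lre_c IH (LK LD1_c2 LD2_c30 LD3_c6) (LK LD1_c5 LD2_c5 LD3_c47) Lrfl Lrfl
theorem f304580 : Led Lsl_bt (LP (LK LD1_c15 LD2_c48 LD3_c42)) = (LP (LK LD1_c8 LD2_c24 LD3_c40)) :=
  Lre_b IH (LK LD1_c15 LD2_c48 LD3_c42) (LK LD1_c8 LD2_c24 LD3_c40) Lrfl Lrfl
theorem f361130 : Led Lsl_gt (LP (LK LD1_c5 LD2_c5 LD3_c47)) = (LP (LK LD1_c5 LD2_c2 LD3_c41)) :=
  Lgr Lrot149 (Lpe (f167452 IH) (Lpe (K20.f167451 IH) (Lpe (K19.f167434 IH) (Lpr_ct (K21.f167600 IH) (Lpe (f167521 IH) (Lpr_cf (f361114 IH) (Lpr_bt (f304580 IH) (Lpr_gf (K19.f304578 IH) (Lpe (K22.f289871 IH) (Lpr_ct (K22.f289872 IH) (Lpn (LP (LK LD1_c5 LD2_c2 LD3_c41)))))))))))))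
theorem f178567 : Led Lsl_bt (LP (LK LD1_c2 LD2_c30 LD3_c6)) = (LP (LK LD1_c5 LD2_c5 LD3_c46)) :=
  Lre_b IH (LK LD1_c2 LD2_c30 LD3_c6) (LK LD1_c5 LD2_c5 LD3_c46) Lrfl Lrfl
theorem f45761 : Led Lsl_ct (LP (LK LD1_c5 LD2_c19 LD3_c0)) = (LP (LK LD1_c10 LD2_c27 LD3_c52)) :=
  Lre_c IH (LK LD1_c5 LD2_c19 LD3_c0) (LK LD1_c10 LD2_c27 LD3_c52) Lrfl Lrfl
theorem f361205 : Led Lsl_gf (LP (LK LD1_c5 LD2_c5 LD3_c46)) = (LP (LK LD1_c4 LD2_c16 LD3_c19)) :=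
  Lgr Lrot124 (Lpe (f178567 IH) (Lpr_ct (f167452 IH) (Lpr_gt (f361130 IH) (Lpe (K22.f289872 IH) (Lpr_bt (K22.f289871 IH) (Lpe (K19.f304578 IH) (Lpr_ct (K21.f166867 IH) (Lpr_gt (K21.f330807 IH) (Lpe (f45761 IH) (Lpr_bt (K16.f254555 IH) (Lpn (LP (LK LD1_c4 LD2_c16 LD3_c19)))))))))))))
theorem f185593 : Led Lsl_bt (LP (LK LD1_c2 LD2_c32 LD3_c60)) = (LP (LK LD1_c5 LD2_c12 LD3_c22)) :=
  Lre_b IH (LK LD1_c2 LD2_c32 LD3_c60) (LK LD1_c5 LD2_c12 LD3_c22) Lrfl Lrfl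
theorem f178562 : Led Lsl_bt (LP (LK LD1_c5 LD2_c5 LD3_c46)) = (LP (LK LD1_c2 LD2_c30 LD3_c6)) :=
  Lre_b IH (LK LD1_c5 LD2_c5 LD3_c46) (LK LD1_c2 LD2_c30 LD3_c6) Lrfl Lrfl
theorem f185594 : Led Lsl_et (LP (LK LD1_c5 LD2_c12 LD3_c22)) = (LP (LK LD1_c5 LD2_c5 LD3_c46)) :=
  Lgr Lrot74 (Lpe (f185593 IH) (Lpr_ef (K20.f185591 IH) (Lpe (f178562 IH) (Lpn (LP (LK LD1_c5 LD2_c5 LD3_c46))))))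
theorem f246253 : Led Lsl_et (LP (LK LD1_c1 LD2_c17 LD3_c22)) = (LP (LK LD1_c1 LD2_c14 LD3_c38)) :=
  Lgr Lrot158 (Lpr_cf (K13.f246245 IH) (Lpe (K13.f49932 IH) (Lpe (K10.f189515 IH) (Lpn (LP (LK LD1_c1 LD2_c14 LD3_c38))))))
theorem f250634 : Led Lsl_ef (LP (LK LD1_c4 LD2_c16 LD3_c19)) = (LP (LK LD1_c2 LD2_c35 LD3_c15)) :=
  Lgr Lrot73 (Lpr_dt (K23.f611 IH) (Lpr_et (K13.f601 IH) (Lpr_dt (K14.f250628 IH) (Lpr_et (f246253 IH) (Lpr_dt (K9.f32917 IH) (Lpn (LP (LK LD1_c2 LD2_c35 LD3_c15))))))))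
theorem f835 : Led Lsl_gt (LP (LK LD1_c4 LD2_c15 LD3_c47)) = (LP (LK LD1_c2 LD2_c5 LD3_c13)) :=
  Lre_g IH (LK LD1_c4 LD2_c15 LD3_c47) (LK LD1_c2 LD2_c5 LD3_c13) Lrfl Lrfl
theorem f361217 : Led Lsl_dt (LP (LK LD1_c5 LD2_c12 LD3_c22)) = (LP (LK LD1_c4 LD2_c15 LD3_c47)) :=
  Lgr Lrot136 (Lpr_et (f185594 IH) (Lpr_gf (f361205 IH) (Lpr_ef (f250634 IH) (Lpr_dt (K10.f48722 IH) (Lpe (K9.f32916 IH) (Lpe (K2.f32422 IH) (Lpe (K10.f197028 IH) (Lpe (K15.f690 IH) (Lpr_dt (K22.f662 IH) (Lpe (f835 IH) (Lpn (LP (LK LD1_c4 LD2_c15 LD3_c47)))))))))))))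
theorem f232020 : Led Lsl_et (LP (LK LD1_c2 LD2_c34 LD3_c22)) = (LP (LK LD1_c4 LD2_c9 LD3_c38)) :=
  Lgr Lrot71 (Lpe (K12.f32429 IH) (Lpr_ef (K13.f232012 IH) (Lpe (K13.f51464 IH) (Lpe (K13.f652 IH) (Lpe (K13.f663 IH) (Lpn (LP (LK LD1_c4 LD2_c9 LD3_c38))))))))
theorem f361226 : Led Lsl_gf (LP (LK LD1_c5 LD2_c12 LD3_c22)) = (LP (LK LD1_c4 LD2_c9 LD3_c38)) :=
  Lgr Lrot138 (Lpr_dt (f361217 IH) (Lpr_gt (f835 IH) (Lpe (K22.f662 IH) (Lpr_et (K15.f690 IH) (Lpr_gt (K10.f197028 IH) (Lpe (K15.f48326 IH) (Lpr_dt (K1.f32847 IH) (Lpr_gt (K10.f32428 IH) (Lpe (K12.f48936 IH) (Lpr_et (f232020 IH) (Lpn (LP (LK LD1_c4 LD2_c9 LD3_c38)))))))))))))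
theorem f232092 : Led Lsl_ct (LP (LK LD1_c8 LD2_c19 LD3_c2)) = (LP (LK LD1_c15 LD2_c38 LD3_c40)) :=
  Lre_c IH (LK LD1_c8 LD2_c19 LD3_c2) (LK LD1_c15 LD2_c38 LD3_c40) Lrfl Lrfl
theorem f288313 : Led Lsl_ct (LP (LK LD1_c2 LD2_c32 LD3_c5)) = (LP (LK LD1_c5 LD2_c9 LD3_c60)) :=
  Lre_c IH (LK LD1_c2 LD2_c32 LD3_c5) (LK LD1_c5 LD2_c9 LD3_c60) Lrfl Lrfl
theorem f165620 : Led Lsl_gt (LP (LK LD1_c2 LD2_c28 LD3_c53)) = (LP (LK LD1_c5 LD2_c2 LD3_c39)) :=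
  Lre_g IH (LK LD1_c2 LD2_c28 LD3_c53) (LK LD1_c5 LD2_c2 LD3_c39) Lrfl Lrfl
theorem f300132 : Led Lsl_gt (LP (LK LD1_c5 LD2_c2 LD3_c39)) = (LP (LK LD1_c5 LD2_c9 LD3_c60)) :=
  Lgr Lrot46 (Lpe (f165620 IH) (Lpr_ft (K22.f288248 IH) (Lpr_at (K22.f300117 IH) (Lpn (LP (LK LD1_c5 LD2_c9 LD3_c60))))))
theorem f361231 : Led Lsl_ct (LP (LK LD1_c2 LD2_c32 LD3_c60)) = (LP (LK LD1_c5 LD2_c2 LD3_c39)) :=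
  Lgr Lrot64 (Lpr_bt (f185593 IH) (Lpr_gf (f361226 IH) (Lpe (K14.f232029 IH) (Lpr_ct (f232092 IH) (Lpr_gf (K19.f312527 IH) (Lpe (K19.f171449 IH) (Lpe (K19.f304607 IH) (Lpe (K17.f288310 IH) (Lpr_ct (f288313 IH) (Lpe (f300132 IH) (Lpn (LP (LK LD1_c5 LD2_c2 LD3_c39)))))))))))))
theorem f200183 : Led Lsl_gt (LP (LK LD1_c10 LD2_c14 LD3_c60)) = (LP (LK LD1_c5 LD2_c12 LD3_c5)) :=
  Lre_g IH (LK LD1_c10 LD2_c14 LD3_c60) (LK LD1_c5 LD2_c12 LD3_c5) Lrfl Lrfl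
theorem f330826 : Led Lsl_bf (LP (LK LD1_c8 LD2_c36 LD3_c28)) = (LP (LK LD1_c15 LD2_c11 LD3_c3)) :=
  Lgr Lrot93 (Lpr_dt (K19.f171462 IH) (Lpr_bt (f304585 IH) (Lpr_dt (K22.f330824 IH) (Lpn (LP (LK LD1_c15 LD2_c11 LD3_c3))))))
theorem f361243 : Led Lsl_cf (LP (LK LD1_c10 LD2_c14 LD3_c60)) = (LP (LK LD1_c15 LD2_c11 LD3_c3)) :=
  Lgr Lrot160 (Lpr_gt (f200183 IH) (Lpe (K18.f200156 IH) (Lpr_bt (K22.f185618 IH) (Lpr_gt (K20.f185588 IH) (Lpr_ct (f361231 IH) (Lpr_gt (f300132 IH) (Lpe (f288313 IH) (Lpr_bt (K17.f288310 IH) (Lpr_gt (K19.f304607 IH) (Lpr_bf (f330826 IH) (Lpn (LP (LK LD1_c15 LD2_c11 LD3_c3)))))))))))))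
theorem f200184 : Led Lsl_gt (LP (LK LD1_c8 LD2_c22 LD3_c48)) = (LP (LK LD1_c4 LD2_c11 LD3_c30)) :=
  Lre_g IH (LK LD1_c8 LD2_c22 LD3_c48) (LK LD1_c4 LD2_c11 LD3_c30) Lrfl Lrfl
theorem f270877 : Led Lsl_gt (LP (LK LD1_c17 LD2_c43 LD3_c31)) = (LP (LK LD1_c9 LD2_c37 LD3_c56)) :=
  Lre_g IH (LK LD1_c17 LD2_c43 LD3_c31) (LK LD1_c9 LD2_c37 LD3_c56) Lrfl Lrfl
theorem f361259 : Led Lsl_cf (LP (LK LD1_c8 LD2_c22 LD3_c48)) = (LP (LK LD1_c9 LD2_c37 LD3_c56)) :=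
  Lgr Lrot169 (Lpr_gt (f200184 IH) (Lpr_ct (K18.f200160 IH) (Lpe (K20.f200143 IH) (Lpe (K21.f185619 IH) (Lpe (f200183 IH) (Lpr_cf (f361243 IH) (Lpe (K22.f330881 IH) (Lpe (K22.f282101 IH) (Lpr_gt (f270877 IH) (Lpn (LP (LK LD1_c9 LD2_c37 LD3_c56))))))))))))
theorem f200204 : Led Lsl_ct (LP (LK LD1_c8 LD2_c22 LD3_c35)) = (LP (LK LD1_c15 LD2_c45 LD3_c40)) :=
  Lre_c IH (LK LD1_c8 LD2_c22 LD3_c35) (LK LD1_c15 LD2_c45 LD3_c40) Lrfl Lrfl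
theorem f336421 : Led Lsl_bt (LP (LK LD1_c8 LD2_c22 LD3_c35)) = (LP (LK LD1_c8 LD2_c34 LD3_c55)) :=
  Lgr Lrot22 (Lpr_ct (f200204 IH) (Lpe (K22.f200202 IH) (Lpr_cf (K22.f336367 IH) (Lpe (K22.f237524 IH) (Lpe (K17.f237523 IH) (Lpr_ct (K16.f237479 IH) (Lpe (K23.f328051 IH) (Lpe (K23.f216786 IH) (Lpe (K20.f321626 IH) (Lpe (K21.f316431 IH) (Lpn (LP (LK LD1_c8 LD2_c34 LD3_c55)))))))))))))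
theorem f302856 : Led Lsl_bt (LP (LK LD1_c8 LD2_c35 LD3_c7)) = (LP (LK LD1_c4 LD2_c18 LD3_c5)) :=
  Lre_b IH (LK LD1_c8 LD2_c35 LD3_c7) (LK LD1_c4 LD2_c18 LD3_c5) Lrfl Lrfl
theorem f302899 : Led Lsl_ct (LP (LK LD1_c8 LD2_c35 LD3_c7)) = (LP (LK LD1_c16 LD2_c6 LD3_c33)) :=
  Lre_c IH (LK LD1_c8 LD2_c35 LD3_c7) (LK LD1_c16 LD2_c6 LD3_c33) Lrfl Lrfl
theorem f248575 : Led Lsl_gt (LP (LK LD1_c9 LD2_c40 LD3_c14)) = (LP (LK LD1_c17 LD2_c47 LD3_c15)) :=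
  Lre_g IH (LK LD1_c9 LD2_c40 LD3_c14) (LK LD1_c17 LD2_c47 LD3_c15) Lrfl Lrfl
theorem f248576 : Led Lsl_gf (LP (LK LD1_c10 LD2_c12 LD3_c30)) = (LP (LK LD1_c17 LD2_c47 LD3_c15)) :=
  Lgr Lrot76 (Lpr_af (K14.f248561 IH) (Lpe (K14.f248528 IH) (Lpr_gt (f248575 IH) (Lpn (LP (LK LD1_c17 LD2_c47 LD3_c15))))))
theorem f165939 : Led Lsl_ct (LP (LK LD1_c1 LD2_c14 LD3_c30)) = (LP (LK LD1_c2 LD2_c29 LD3_c34)) :=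
  Lgr Lrot59 (Lpr_cf (K15.f165888 IH) (Lpn (LP (LK LD1_c2 LD2_c29 LD3_c34))))
theorem f166068 : Led Lsl_bt (LP (LK LD1_c10 LD2_c22 LD3_c31)) = (LP (LK LD1_c5 LD2_c16 LD3_c29)) :=
  Lre_b IH (LK LD1_c10 LD2_c22 LD3_c31) (LK LD1_c5 LD2_c16 LD3_c29) Lrfl Lrfl
theorem f354738 : Led Lsl_cf (LP (LK LD1_c17 LD2_c47 LD3_c15)) = (LP (LK LD1_c10 LD2_c22 LD3_c31)) :=
  Lgr Lrot160 (Lpe (f248576 IH) (Lpe (K19.f171410 IH) (Lpr_bt (K12.f171406 IH) (Lpr_gt (K25.f354719 IH) (Lpr_ct (K25.f166711 IH) (Lpr_gt (K25.f354729 IH) (Lpe (f165939 IH) (Lpr_bt (K19.f165933 IH) (Lpr_gt (K20.f165947 IH) (Lpe (f166068 IH) (Lpn (LP (LK LD1_c10 LD2_c22 LD3_c31)))))))))))))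
theorem f354753 : Led Lsl_ct (LP (LK LD1_c17 LD2_c47 LD3_c15)) = (LP (LK LD1_c10 LD2_c22 LD3_c31)) :=
  Lgr Lrot59 (Lpr_cf (f354738 IH) (Lpn (LP (LK LD1_c10 LD2_c22 LD3_c31))))
theorem f307132 : Led Lsl_ct (LP (LK LD1_c4 LD2_c52 LD3_c20)) = (LP (LK LD1_c9 LD2_c36 LD3_c58)) :=
  Lre_c IH (LK LD1_c4 LD2_c52 LD3_c20) (LK LD1_c9 LD2_c36 LD3_c58) Lrfl Lrfl
theorem f302889 : Led Lsl_bt (LP (LK LD1_c4 LD2_c18 LD3_c5)) = (LP (LK LD1_c8 LD2_c35 LD3_c7)) :=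
  Lre_b IH (LK LD1_c4 LD2_c18 LD3_c5) (LK LD1_c8 LD2_c35 LD3_c7) Lrfl Lrfl
theorem f302890 : Led Lsl_df (LP (LK LD1_c10 LD2_c22 LD3_c31)) = (LP (LK LD1_c8 LD2_c35 LD3_c7)) :=
  Lgr Lrot12 (Lpr_bt (f166068 IH) (Lpr_dt (K20.f302861 IH) (Lpr_bt (f302889 IH) (Lpn (LP (LK LD1_c8 LD2_c35 LD3_c7))))))
theorem f302895 : Led Lsl_ct (LP (LK LD1_c16 LD2_c6 LD3_c33)) = (LP (LK LD1_c8 LD2_c35 LD3_c7)) :=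
  Lre_c IH (LK LD1_c16 LD2_c6 LD3_c33) (LK LD1_c8 LD2_c35 LD3_c7) Lrfl Lrfl
theorem f354759 : Led Lsl_gt (LP (LK LD1_c9 LD2_c36 LD3_c58)) = (LP (LK LD1_c16 LD2_c6 LD3_c33)) :=
  Lgr Lrot150 (Lpe (f307132 IH) (Lpr_gf (K19.f307116 IH) (Lpe (K19.f305941 IH) (Lpr_gt (K19.f249656 IH) (Lpr_ct (K19.f248566 IH) (Lpr_gt (f248575 IH) (Lpr_ct (f354753 IH) (Lpr_df (f302890 IH) (Lpe (f302895 IH) (Lpn (LP (LK LD1_c16 LD2_c6 LD3_c33))))))))))))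
theorem f361274 : Led Lsl_bf (LP (LK LD1_c9 LD2_c36 LD3_c49)) = (LP (LK LD1_c9 LD2_c37 LD3_c56)) :=
  Lgr Lrot165 (Lpe (K19.f307116 IH) (Lpr_ct (f307132 IH) (Lpr_gt (f354759 IH) (Lpe (f302899 IH) (Lpr_bt (f302856 IH) (Lpr_gt (f302864 IH) (Lpe (f336421 IH) (Lpr_ct (f200204 IH) (Lpr_gt (K20.f316272 IH) (Lpr_cf (f361259 IH) (Lpn (LP (LK LD1_c9 LD2_c37 LD3_c56)))))))))))))
theorem f361280 : Led Lsl_bt (LP (LK LD1_c4 LD2_c52 LD3_c12)) = (LP (LK LD1_c9 LD2_c36 LD3_c46)) :=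
  Lre_b IH (LK LD1_c4 LD2_c52 LD3_c12) (LK LD1_c9 LD2_c36 LD3_c46) Lrfl Lrfl
theorem f361281 : Led Lsl_et (LP (LK LD1_c9 LD2_c36 LD3_c46)) = (LP (LK LD1_c9 LD2_c37 LD3_c56)) :=
  Lgr Lrot74 (Lpe (f361280 IH) (Lpe (K19.f222110 IH) (Lpr_bf (f361274 IH) (Lpn (LP (LK LD1_c9 LD2_c37 LD3_c56))))))
theorem f361288 : Led Lsl_dt (LP (LK LD1_c9 LD2_c36 LD3_c46)) = (LP (LK LD1_c17 LD2_c42 LD3_c8)) :=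
  Lre_d IH (LK LD1_c9 LD2_c36 LD3_c46) (LK LD1_c17 LD2_c42 LD3_c8) Lrfl Lrfl
theorem f361289 : Led Lsl_gt (LP (LK LD1_c17 LD2_c42 LD3_c8)) = (LP (LK LD1_c19 LD2_c20 LD3_c37)) :=
  Lgr Lrot112 (Lpe (f361288 IH) (Lpr_et (f361281 IH) (Lpe (f270877 IH) (Lpe (K16.f270863 IH) (Lpr_dt (K17.f260955 IH) (Lpe (K16.f260943 IH) (Lpe (K20.f260960 IH) (Lpr_gf (K25.f357453 IH) (Lpr_ef (K25.f346580 IH) (Lpr_dt (f357499 IH) (Lpn (LP (LK LD1_c19 LD2_c20 LD3_c37)))))))))))))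
theorem f357486 : Led Lsl_df (LP (LK LD1_c11 LD2_c9 LD3_c35)) = (LP (LK LD1_c19 LD2_c20 LD3_c37)) :=
  Lgr Lrot70 (Lpe (K25.f346580 IH) (Lpr_dt (f357321 IH) (Lpe (K25.f357467 IH) (Lpr_dt (K25.f357479 IH) (Lpr_et (f357485 IH) (Lpn (LP (LK LD1_c19 LD2_c20 LD3_c37))))))))
theorem f303061 : Led Lsl_dt (LP (LK LD1_c19 LD2_c16 LD3_c35)) = (LP (LK LD1_c10 LD2_c38 LD3_c26)) :=
  Lre_d IH (LK LD1_c19 LD2_c16 LD3_c35) (LK LD1_c10 LD2_c38 LD3_c26) Lrfl Lrfl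
theorem f361297 : Led Lsl_gf (LP (LK LD1_c9 LD2_c36 LD3_c46)) = (LP (LK LD1_c16 LD2_c1 LD3_c6)) :=
  Lgr Lrot144 (Lpr_dt (f361288 IH) (Lpr_gt (f361289 IH) (Lpe (f357486 IH) (Lpr_cf (K25.f357325 IH) (Lpe (f303061 IH) (Lpe (K25.f357336 IH) (Lpe (K25.f309918 IH) (Lpe (K25.f357338 IH) (Lpe (K20.f250601 IH) (Lpn (LP (LK LD1_c16 LD2_c1 LD3_c6))))))))))))
theorem f361286 : Led Lsl_ef (LP (LK LD1_c9 LD2_c36 LD3_c46)) = (LP (LK LD1_c9 LD2_c37 LD3_c56)) :=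
  Lgr Lrot88 (Lpr_et (f361281 IH) (Lpn (LP (LK LD1_c9 LD2_c37 LD3_c56))))
theorem f290842 : Led Lsl_gt (LP (LK LD1_c8 LD2_c33 LD3_c41)) = (LP (LK LD1_c4 LD2_c17 LD3_c20)) :=
  Lgr Lrot150 (Lpr_cf (K13.f199628 IH) (Lpr_gf (K17.f290833 IH) (Lpe (K17.f255980 IH) (Lpr_gt (K19.f266955 IH) (Lpr_ct (K15.f266915 IH) (Lpr_gt (K15.f170320 IH) (Lpe (K16.f266943 IH) (Lpe (K14.f247393 IH) (Lpe (K15.f199584 IH) (Lpn (LP (LK LD1_c4 LD2_c17 LD3_c20))))))))))))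
theorem f295998 : Led Lsl_gf (LP (LK LD1_c4 LD2_c19 LD3_c42)) = (LP (LK LD1_c4 LD2_c14 LD3_c3)) :=
  Lgr Lrot143 (Lpe (K15.f266886 IH) (Lpr_cf (K23.f250516 IH) (Lpe (K18.f219146 IH) (Lpr_gf (K18.f295995 IH) (Lpe (K18.f247410 IH) (Lpe (f290842 IH) (Lpr_cf (K13.f199628 IH) (Lpe (K14.f251872 IH) (Lpr_dt (K20.f220517 IH) (Lpn (LP (LK LD1_c4 LD2_c14 LD3_c3))))))))))))
theorem f290856 : Led Lsl_gt (LP (LK LD1_c9 LD2_c53 LD3_c43)) = (LP (LK LD1_c5 LD2_c1 LD3_c40)) :=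
  Lre_g IH (LK LD1_c9 LD2_c53 LD3_c43) (LK LD1_c5 LD2_c1 LD3_c40) Lrfl Lrfl
theorem f361319 : Led Lsl_dt (LP (LK LD1_c9 LD2_c37 LD3_c56)) = (LP (LK LD1_c9 LD2_c53 LD3_c43)) :=
  Lgr Lrot136 (Lpe (f361286 IH) (Lpr_gf (f361297 IH) (Lpe (K20.f246779 IH) (Lpr_dt (K15.f266879 IH) (Lpr_gf (f295998 IH) (Lpe (K20.f220517 IH) (Lpr_gf (K14.f251872 IH) (Lpe (K21.f199656 IH) (Lpe (K21.f327472 IH) (Lpe (f290856 IH) (Lpn (LP (LK LD1_c9 LD2_c53 LD3_c43)))))))))))))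
theorem f359408 : Led Lsl_ft (LP (LK LD1_c16 LD2_c1 LD3_c6)) = (LP (LK LD1_c19 LD2_c15 LD3_c59)) :=
  Lgr Lrot48 (Lpr_ff (f359400 IH) (Lpn (LP (LK LD1_c19 LD2_c15 LD3_c59))))
theorem f361066 : Led Lsl_af (LP (LK LD1_c15 LD2_c23 LD3_c10)) = (LP (LK LD1_c19 LD2_c15 LD3_c59)) :=
  Lgr Lrot50 (Lpr_et (f361064 IH) (Lpr_at (f359397 IH) (Lpr_et (f359393 IH) (Lpn (LP (LK LD1_c19 LD2_c15 LD3_c59))))))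
theorem f361311 : Led Lsl_gt (LP (LK LD1_c9 LD2_c36 LD3_c46)) = (LP (LK LD1_c15 LD2_c23 LD3_c10)) :=
  Lgr Lrot46 (Lpr_gf (f361297 IH) (Lpr_ft (f359408 IH) (Lpe (f361066 IH) (Lpn (LP (LK LD1_c15 LD2_c23 LD3_c10))))))
theorem f322158 : Led Lsl_ef (LP (LK LD1_c16 LD2_c8 LD3_c47)) = (LP (LK LD1_c15 LD2_c1 LD3_c20)) :=
  Lgr Lrot88 (Lpr_et (K20.f322154 IH) (Lpn (LP (LK LD1_c15 LD2_c1 LD3_c20))))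
theorem f361327 : Led Lsl_gt (LP (LK LD1_c17 LD2_c45 LD3_c39)) = (LP (LK LD1_c9 LD2_c53 LD3_c43)) :=
  Lgr Lrot112 (Lpe (K21.f190807 IH) (Lpe (f322158 IH) (Lpr_gf (K21.f326415 IH) (Lpe (K21.f229633 IH) (Lpe (K21.f326382 IH) (Lpe (K21.f309929 IH) (Lpe (K21.f309917 IH) (Lpe (f361311 IH) (Lpr_ef (f361286 IH) (Lpr_dt (f361319 IH) (Lpn (LP (LK LD1_c9 LD2_c53 LD3_c43)))))))))))))
theorem f178682 : Led Lsl_gt (LP (LK LD1_c10 LD2_c26 LD3_c46)) = (LP (LK LD1_c5 LD2_c18 LD3_c32)) :=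
  Lre_g IH (LK LD1_c10 LD2_c26 LD3_c46) (LK LD1_c5 LD2_c18 LD3_c32) Lrfl Lrfl
theorem f361329 : Led Lsl_cf (LP (LK LD1_c10 LD2_c26 LD3_c46)) = (LP (LK LD1_c9 LD2_c53 LD3_c43)) :=
  Lgr Lrot169 (Lpr_gt (f178682 IH) (Lpr_ct (K9.f178671 IH) (Lpe (K9.f178544 IH) (Lpe (K20.f167558 IH) (Lpe (f178693 IH) (Lpe (f178714 IH) (Lpr_gf (f355692 IH) (Lpr_df (K21.f190804 IH) (Lpr_gt (f361327 IH) (Lpn (LP (LK LD1_c9 LD2_c53 LD3_c43))))))))))))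
theorem f361276 : Led Lsl_bt (LP (LK LD1_c9 LD2_c36 LD3_c49)) = (LP (LK LD1_c9 LD2_c37 LD3_c56)) :=
  Lgr Lrot127 (Lpr_bf (f361274 IH) (Lpn (LP (LK LD1_c9 LD2_c37 LD3_c56))))
theorem f361321 : Led Lsl_bf (LP (LK LD1_c9 LD2_c40 LD3_c16)) = (LP (LK LD1_c9 LD2_c53 LD3_c43)) :=
  Lgr Lrot93 (Lpr_dt (K19.f305941 IH) (Lpr_bt (f361276 IH) (Lpr_dt (f361319 IH) (Lpn (LP (LK LD1_c9 LD2_c53 LD3_c43))))))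
theorem f361336 : Led Lsl_gf (LP (LK LD1_c10 LD2_c26 LD3_c46)) = (LP (LK LD1_c16 LD2_c35 LD3_c42)) :=
  Lgr Lrot126 (Lpr_cf (f361329 IH) (Lpe (f361321 IH) (Lpr_gt (K19.f249656 IH) (Lpr_ct (K19.f248566 IH) (Lpr_gt (f248575 IH) (Lpr_cf (f354738 IH) (Lpr_bt (f166068 IH) (Lpr_gt (K20.f302839 IH) (Lpr_bf (K14.f248312 IH) (Lpr_ct (K21.f248325 IH) (Lpn (LP (LK LD1_c16 LD2_c35 LD3_c42)))))))))))))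
theorem f361332 : Led Lsl_ct (LP (LK LD1_c10 LD2_c26 LD3_c46)) = (LP (LK LD1_c9 LD2_c53 LD3_c43)) :=
  Lgr Lrot59 (Lpr_cf (f361329 IH) (Lpn (LP (LK LD1_c9 LD2_c53 LD3_c43))))
theorem f361268 : Led Lsl_ct (LP (LK LD1_c8 LD2_c22 LD3_c48)) = (LP (LK LD1_c9 LD2_c37 LD3_c56)) :=
  Lgr Lrot59 (Lpr_cf (f361259 IH) (Lpn (LP (LK LD1_c9 LD2_c37 LD3_c56))))
theorem f178713 : Led Lsl_gt (LP (LK LD1_c2 LD2_c35 LD3_c56)) = (LP (LK LD1_c5 LD2_c18 LD3_c33)) :=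
  Lre_g IH (LK LD1_c2 LD2_c35 LD3_c56) (LK LD1_c5 LD2_c18 LD3_c33) Lrfl Lrfl
theorem f325588 : Led Lsl_df (LP (LK LD1_c4 LD2_c11 LD3_c31)) = (LP (LK LD1_c5 LD2_c18 LD3_c33)) :=
  Lgr Lrot135 (Lpr_gt (K23.f200205 IH) (Lpr_df (K22.f300352 IH) (Lpe (K23.f300484 IH) (Lpr_gt (K21.f325418 IH) (Lpe (K15.f242916 IH) (Lpr_dt (K14.f253972 IH) (Lpr_gt (K14.f170843 IH) (Lpr_df (K10.f178533 IH) (Lpr_et (K9.f178700 IH) (Lpr_gt (f178713 IH) (Lpn (LP (LK LD1_c5 LD2_c18 LD3_c33)))))))))))))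
theorem f361341 : Led Lsl_gt (LP (LK LD1_c5 LD2_c18 LD3_c33)) = (LP (LK LD1_c8 LD2_c52 LD3_c37)) :=
  Lgr Lrot146 (Lpe (f325588 IH) (Lpr_gt (K23.f200205 IH) (Lpr_ct (f200204 IH) (Lpr_gt (K20.f316272 IH) (Lpr_ct (f361268 IH) (Lpr_dt (f361319 IH) (Lpe (f361332 IH) (Lpr_gf (f361336 IH) (Lpe (K21.f248325 IH) (Lpn (LP (LK LD1_c8 LD2_c52 LD3_c37))))))))))))
theorem f361323 : Led Lsl_df (LP (LK LD1_c9 LD2_c37 LD3_c56)) = (LP (LK LD1_c9 LD2_c53 LD3_c43)) :=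
  Lgr Lrot38 (Lpr_dt (f361319 IH) (Lpn (LP (LK LD1_c9 LD2_c53 LD3_c43))))
theorem f361349 : Led Lsl_df (LP (LK LD1_c5 LD2_c18 LD3_c33)) = (LP (LK LD1_c4 LD2_c11 LD3_c31)) :=
  Lgr Lrot155 (Lpr_gt (f361341 IH) (Lpr_ct (K21.f248325 IH) (Lpe (f361336 IH) (Lpr_ct (f361332 IH) (Lpe (f361323 IH) (Lpe (f361268 IH) (Lpe (K20.f316272 IH) (Lpe (f200204 IH) (Lpe (K23.f200205 IH) (Lpn (LP (LK LD1_c4 LD2_c11 LD3_c31))))))))))))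
theorem f361351 : Led Lsl_et (LP (LK LD1_c4 LD2_c11 LD3_c31)) = (LP (LK LD1_c8 LD2_c22 LD3_c52)) :=
  Lre_e IH (LK LD1_c4 LD2_c11 LD3_c31) (LK LD1_c8 LD2_c22 LD3_c52) Lrfl Lrfl
theorem f325338 : Led Lsl_et (LP (LK LD1_c8 LD2_c20 LD3_c20)) = (LP (LK LD1_c8 LD2_c32 LD3_c61)) :=
  Lgr Lrot87 (Lpr_ef (K21.f325332 IH) (Lpn (LP (LK LD1_c8 LD2_c32 LD3_c61))))
theorem f361352 : Led Lsl_gf (LP (LK LD1_c8 LD2_c22 LD3_c52)) = (LP (LK LD1_c11 LD2_c55 LD3_c51)) :=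
  Lgr Lrot141 (Lpe (f361351 IH) (Lpe (f361349 IH) (Lpr_gt (f361341 IH) (Lpr_df (K21.f248349 IH) (Lpr_et (f325338 IH) (Lpr_gt (K21.f325312 IH) (Lpr_dt (K21.f290175 IH) (Lpr_gt (K23.f343695 IH) (Lpe (K23.f343704 IH) (Lpe (K25.f343711 IH) (Lpn (LP (LK LD1_c11 LD2_c55 LD3_c51)))))))))))))
theorem f361356 : Led Lsl_ct (LP (LK LD1_c8 LD2_c22 LD3_c52)) = (LP (LK LD1_c15 LD2_c46 LD3_c10)) :=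
  Lre_c IH (LK LD1_c8 LD2_c22 LD3_c52) (LK LD1_c15 LD2_c46 LD3_c10) Lrfl Lrfl
theorem f356083 : Led Lsl_bf (LP (LK LD1_c8 LD2_c39 LD3_c12)) = (LP (LK LD1_c15 LD2_c56 LD3_c5)) :=
  Lgr Lrot24 (Lpr_bt (f356054 IH) (Lpn (LP (LK LD1_c15 LD2_c56 LD3_c5))))
theorem f321198 : Led Lsl_af (LP (LK LD1_c9 LD2_c33 LD3_c18)) = (LP (LK LD1_c8 LD2_c13 LD3_c36)) :=
  Lgr Lrot0 (Lpr_at (K20.f321177 IH) (Lpn (LP (LK LD1_c8 LD2_c13 LD3_c36))))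
theorem f182652 : Led Lsl_ft (LP (LK LD1_c15 LD2_c28 LD3_c27)) = (LP (LK LD1_c8 LD2_c13 LD3_c36)) :=
  Lre_f IH (LK LD1_c15 LD2_c28 LD3_c27) (LK LD1_c8 LD2_c13 LD3_c36) Lrfl Lrfl
theorem f322628 : Led Lsl_gf (LP (LK LD1_c15 LD2_c26 LD3_c3)) = (LP (LK LD1_c15 LD2_c28 LD3_c27)) :=
  Lgr Lrot47 (Lpr_gt (K20.f322626 IH) (Lpr_af (f321198 IH) (Lpe (f182652 IH) (Lpn (LP (LK LD1_c15 LD2_c28 LD3_c27))))))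
theorem f182638 : Led Lsl_bt (LP (LK LD1_c8 LD2_c13 LD3_c43)) = (LP (LK LD1_c15 LD2_c28 LD3_c27)) :=
  Lre_b IH (LK LD1_c8 LD2_c13 LD3_c43) (LK LD1_c15 LD2_c28 LD3_c27) Lrfl Lrfl
theorem f310693 : Led Lsl_gf (LP (LK LD1_c16 LD2_c9 LD3_c57)) = (LP (LK LD1_c16 LD2_c11 LD3_c25)) :=
  Lgr Lrot47 (Lpr_gt (K23.f310691 IH) (Lpr_af (K21.f308306 IH) (Lpe (K21.f308305 IH) (Lpn (LP (LK LD1_c16 LD2_c11 LD3_c25))))))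
theorem f191421 : Led Lsl_gt (LP (LK LD1_c15 LD2_c27 LD3_c32)) = (LP (LK LD1_c25 LD2_c19 LD3_c17)) :=
  Lre_g IH (LK LD1_c15 LD2_c27 LD3_c32) (LK LD1_c25 LD2_c19 LD3_c17) Lrfl Lrfl
theorem f356089 : Led Lsl_cf (LP (LK LD1_c25 LD2_c19 LD3_c17)) = (LP (LK LD1_c15 LD2_c56 LD3_c5)) :=
  Lgr Lrot58 (Lpe (f191421 IH) (Lpe (K19.f191393 IH) (Lpe (K19.f191427 IH) (Lpe (K23.f191404 IH) (Lpr_bf (K23.f343738 IH) (Lpr_ct (K23.f238120 IH) (Lpr_gf (f310693 IH) (Lpe (K19.f308712 IH) (Lpr_gf (K21.f329845 IH) (Lpr_bf (f356083 IH) (Lpn (LP (LK LD1_c15 LD2_c56 LD3_c5)))))))))))))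
theorem f356091 : Led Lsl_gf (LP (LK LD1_c15 LD2_c28 LD3_c41)) = (LP (LK LD1_c25 LD2_c19 LD3_c17)) :=
  Lgr Lrot126 (Lpe (K21.f182647 IH) (Lpr_bt (f182638 IH) (Lpe (f322628 IH) (Lpr_ct (K21.f322630 IH) (Lpr_gt (K20.f231448 IH) (Lpe (K16.f231426 IH) (Lpr_bt (K19.f231424 IH) (Lpr_gt (K21.f231443 IH) (Lpr_bf (f356083 IH) (Lpe (f356089 IH) (Lpn (LP (LK LD1_c25 LD2_c19 LD3_c17)))))))))))))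
theorem f330930 : Led Lsl_df (LP (LK LD1_c4 LD2_c19 LD3_c38)) = (LP (LK LD1_c8 LD2_c13 LD3_c43)) :=
  Lgr Lrot43 (Lpr_ct (K21.f179595 IH) (Lpr_dt (K21.f330926 IH) (Lpr_ct (K21.f330927 IH) (Lpr_dt (K21.f330928 IH) (Lpr_ct (K21.f251714 IH) (Lpr_dt (K21.f191455 IH) (Lpr_ct (K19.f191426 IH) (Lpr_dt (K16.f251695 IH) (Lpr_ct (K21.f250784 IH) (Lpr_dt (K21.f250828 IH) (Lpr_ct (K21.f251715 IH) (Lpr_dt (K21.f324983 IH) (Lpr_ct (K21.f324982 IH) (Lpr_dt (K21.f324958 IH) (Lpr_ct (K21.f182639 IH) (Lpn (LP (LK LD1_c8 LD2_c13 LD3_c43))))))))))))))))))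
theorem f356094 : Led Lsl_gf (LP (LK LD1_c8 LD2_c37 LD3_c31)) = (LP (LK LD1_c15 LD2_c36 LD3_c23)) :=
  Lgr Lrot104 (Lpr_ct (K21.f306056 IH) (Lpr_df (f330930 IH) (Lpe (K21.f182639 IH) (Lpr_gf (f356091 IH) (Lpr_cf (f356089 IH) (Lpe (f194260 IH) (Lpe (K22.f283247 IH) (Lpe (K21.f331280 IH) (Lpr_ct (K22.f292411 IH) (Lpn (LP (LK LD1_c15 LD2_c36 LD3_c23))))))))))))
theorem f330993 : Led Lsl_bt (LP (LK LD1_c4 LD2_c19 LD3_c38)) = (LP (LK LD1_c8 LD2_c37 LD3_c30)) :=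
  Lre_b IH (LK LD1_c4 LD2_c19 LD3_c38) (LK LD1_c8 LD2_c37 LD3_c30) Lrfl Lrfl
theorem f236948 : Led Lsl_bt (LP (LK LD1_c4 LD2_c10 LD3_c14)) = (LP (LK LD1_c7 LD2_c55 LD3_c32)) :=
  Lgr Lrot127 (Lpr_bf (K19.f236946 IH) (Lpn (LP (LK LD1_c7 LD2_c55 LD3_c32))))
theorem f356096 : Led Lsl_gt (LP (LK LD1_c8 LD2_c37 LD3_c30)) = (LP (LK LD1_c8 LD2_c43 LD3_c14)) :=
  Lgr Lrot82 (Lpe (f330993 IH) (Lpr_ct (K21.f179595 IH) (Lpr_gf (f356094 IH) (Lpe (K22.f292411 IH) (Lpe (K22.f324652 IH) (Lpr_gf (K19.f255641 IH) (Lpe (f236948 IH) (Lpr_ct (K20.f233310 IH) (Lpe (K19.f236956 IH) (Lpe (K19.f305370 IH) (Lpn (LP (LK LD1_c8 LD2_c43 LD3_c14)))))))))))))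
theorem f231439 : Led Lsl_ct (LP (LK LD1_c10 LD2_c30 LD3_c34)) = (LP (LK LD1_c5 LD2_c20 LD3_c18)) :=
  Lre_c IH (LK LD1_c10 LD2_c30 LD3_c34) (LK LD1_c5 LD2_c20 LD3_c18) Lrfl Lrfl
theorem f356102 : Led Lsl_dt (LP (LK LD1_c8 LD2_c37 LD3_c30)) = (LP (LK LD1_c15 LD2_c28 LD3_c27)) :=
  Lgr Lrot6 (Lpr_gt (f356096 IH) (Lpr_ct (K19.f305370 IH) (Lpr_gt (K19.f236956 IH) (Lpr_ct (K16.f233308 IH) (Lpe (K21.f275292 IH) (Lpe (f231439 IH) (Lpe (K20.f231448 IH) (Lpe (K21.f322630 IH) (Lpr_gf (f322628 IH) (Lpn (LP (LK LD1_c15 LD2_c28 LD3_c27))))))))))))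
theorem f356098 : Led Lsl_gf (LP (LK LD1_c8 LD2_c37 LD3_c30)) = (LP (LK LD1_c8 LD2_c30 LD3_c46)) :=
  Lgr Lrot47 (Lpr_gt (f356096 IH) (Lpr_af (K18.f297705 IH) (Lpe (K18.f297703 IH) (Lpn (LP (LK LD1_c8 LD2_c30 LD3_c46))))))
theorem f200534 : Led Lsl_ct (LP (LK LD1_c8 LD2_c43 LD3_c12)) = (LP (LK LD1_c4 LD2_c22 LD3_c41)) :=
  Lre_c IH (LK LD1_c8 LD2_c43 LD3_c12) (LK LD1_c4 LD2_c22 LD3_c41) Lrfl Lrfl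
theorem f309205 : Led Lsl_ct (LP (LK LD1_c8 LD2_c30 LD3_c46)) = (LP (LK LD1_c10 LD2_c38 LD3_c32)) :=
  Lgr Lrot111 (Lpe (K18.f297718 IH) (Lpe (f200534 IH) (Lpr_af (K19.f309190 IH) (Lpn (LP (LK LD1_c10 LD2_c38 LD3_c32))))))
theorem f309166 : Led Lsl_gf (LP (LK LD1_c8 LD2_c21 LD3_c35)) = (LP (LK LD1_c10 LD2_c38 LD3_c32)) :=
  Lgr Lrot76 (Lpr_af (K19.f305348 IH) (Lpe (K19.f275340 IH) (Lpr_gt (K19.f309144 IH) (Lpn (LP (LK LD1_c10 LD2_c38 LD3_c32))))))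
theorem f295927 : Led Lsl_dt (LP (LK LD1_c8 LD2_c21 LD3_c35)) = (LP (LK LD1_c15 LD2_c43 LD3_c58)) :=
  Lre_d IH (LK LD1_c8 LD2_c21 LD3_c35) (LK LD1_c15 LD2_c43 LD3_c58) Lrfl Lrfl
theorem f233295 : Led Lsl_et (LP (LK LD1_c8 LD2_c20 LD3_c37)) = (LP (LK LD1_c4 LD2_c10 LD3_c13)) :=
  Lre_e IH (LK LD1_c8 LD2_c20 LD3_c37) (LK LD1_c4 LD2_c10 LD3_c13) Lrfl Lrfl
theorem f233296 : Led Lsl_dt (LP (LK LD1_c8 LD2_c20 LD3_c37)) = (LP (LK LD1_c15 LD2_c42 LD3_c19)) :=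
  Lre_d IH (LK LD1_c8 LD2_c20 LD3_c37) (LK LD1_c15 LD2_c42 LD3_c19) Lrfl Lrfl
theorem f219272 : Led Lsl_et (LP (LK LD1_c25 LD2_c37 LD3_c1)) = (LP (LK LD1_c15 LD2_c41 LD3_c29)) :=
  Lre_e IH (LK LD1_c25 LD2_c37 LD3_c1) (LK LD1_c15 LD2_c41 LD3_c29) Lrfl Lrfl
theorem f233298 : Led Lsl_df (LP (LK LD1_c25 LD2_c38 LD3_c1)) = (LP (LK LD1_c25 LD2_c37 LD3_c1)) :=
  Lgr Lrot170 (Lpr_gt (K19.f233297 IH) (Lpe (f233296 IH) (Lpr_et (f233295 IH) (Lpe (K15.f233291 IH) (Lpr_dt (K15.f233276 IH) (Lpe (K15.f219267 IH) (Lpr_df (K16.f219121 IH) (Lpr_et (K19.f184482 IH) (Lpr_gt (K20.f184468 IH) (Lpe (f219272 IH) (Lpn (LP (LK LD1_c25 LD2_c37 LD3_c1)))))))))))))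
theorem f233305 : Led Lsl_dt (LP (LK LD1_c25 LD2_c38 LD3_c1)) = (LP (LK LD1_c25 LD2_c37 LD3_c1)) :=
  Lgr Lrot42 (Lpr_df (f233298 IH) (Lpn (LP (LK LD1_c25 LD2_c37 LD3_c1))))
theorem f356108 : Led Lsl_ct (LP (LK LD1_c25 LD2_c37 LD3_c1)) = (LP (LK LD1_c17 LD2_c44 LD3_c58)) :=
  Lgr Lrot7 (Lpe (f233305 IH) (Lpe (K19.f305324 IH) (Lpe (f295927 IH) (Lpr_gf (f309166 IH) (Lpe (f309205 IH) (Lpe (f356098 IH) (Lpr_dt (f356102 IH) (Lpe (f322628 IH) (Lpr_dt (K25.f299315 IH) (Lpn (LP (LK LD1_c17 LD2_c44 LD3_c58))))))))))))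
theorem f361357 : Led Lsl_gt (LP (LK LD1_c15 LD2_c46 LD3_c10)) = (LP (LK LD1_c25 LD2_c37 LD3_c1)) :=
  Lgr Lrot150 (Lpe (f361356 IH) (Lpr_gf (f361352 IH) (Lpe (K22.f281023 IH) (Lpe (K23.f343726 IH) (Lpr_ct (K14.f253352 IH) (Lpe (K21.f322634 IH) (Lpe (K20.f322632 IH) (Lpr_df (K25.f299344 IH) (Lpe (f356108 IH) (Lpn (LP (LK LD1_c25 LD2_c37 LD3_c1))))))))))))
theorem f361359 : Led Lsl_dt (LP (LK LD1_c15 LD2_c46 LD3_c10)) = (LP (LK LD1_c25 LD2_c42 LD3_c58)) :=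
  Lre_d IH (LK LD1_c15 LD2_c46 LD3_c10) (LK LD1_c25 LD2_c42 LD3_c58) Lrfl Lrfl
theorem f295926 : Led Lsl_dt (LP (LK LD1_c15 LD2_c43 LD3_c53)) = (LP (LK LD1_c25 LD2_c40 LD3_c10)) :=
  Lre_d IH (LK LD1_c15 LD2_c43 LD3_c53) (LK LD1_c25 LD2_c40 LD3_c10) Lrfl Lrfl
theorem f321173 : Led Lsl_cf (LP (LK LD1_c25 LD2_c40 LD3_c10)) = (LP (LK LD1_c20 LD2_c2 LD3_c28)) :=
  Lgr Lrot14 (Lpe (f295926 IH) (Lpe (K20.f295925 IH) (Lpe (K17.f288883 IH) (Lpr_gf (K18.f295922 IH) (Lpr_ct (K18.f178769 IH) (Lpr_gt (K20.f321169 IH) (Lpe (K20.f200437 IH) (Lpr_gt (K20.f200536 IH) (Lpr_dt (K20.f200552 IH) (Lpn (LP (LK LD1_c20 LD2_c2 LD3_c28))))))))))))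
theorem f325830 : Led Lsl_ct (LP (LK LD1_c25 LD2_c40 LD3_c9)) = (LP (LK LD1_c15 LD2_c43 LD3_c53)) :=
  Lre_c IH (LK LD1_c25 LD2_c40 LD3_c9) (LK LD1_c15 LD2_c43 LD3_c53) Lrfl Lrfl
theorem f336530 : Led Lsl_dt (LP (LK LD1_c15 LD2_c44 LD3_c3)) = (LP (LK LD1_c25 LD2_c40 LD3_c29)) :=
  Lre_d IH (LK LD1_c15 LD2_c44 LD3_c3) (LK LD1_c25 LD2_c40 LD3_c29) Lrfl Lrfl
theorem f336445 : Led Lsl_cf (LP (LK LD1_c9 LD2_c37 LD3_c5)) = (LP (LK LD1_c15 LD2_c45 LD3_c38)) :=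
  Lgr Lrot166 (Lpr_gt (K22.f336437 IH) (Lpe (K16.f279351 IH) (Lpe (K22.f331433 IH) (Lpe (K25.f327479 IH) (Lpr_ct (K21.f230990 IH) (Lpe (K25.f316124 IH) (Lpe (K25.f316156 IH) (Lpe (K25.f200233 IH) (Lpe (K25.f200264 IH) (Lpn (LP (LK LD1_c15 LD2_c45 LD3_c38))))))))))))
theorem f231119 : Led Lsl_gt (LP (LK LD1_c15 LD2_c41 LD3_c42)) = (LP (LK LD1_c25 LD2_c37 LD3_c16)) :=
  Lre_g IH (LK LD1_c15 LD2_c41 LD3_c42) (LK LD1_c25 LD2_c37 LD3_c16) Lrfl Lrfl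
theorem f336451 : Led Lsl_dt (LP (LK LD1_c25 LD2_c37 LD3_c16)) = (LP (LK LD1_c15 LD2_c45 LD3_c38)) :=
  Lgr Lrot105 (Lpe (f231119 IH) (Lpe (K23.f178638 IH) (Lpe (K22.f178639 IH) (Lpr_cf (K22.f336338 IH) (Lpr_gt (K20.f188694 IH) (Lpr_dt (K12.f190797 IH) (Lpe (K22.f336433 IH) (Lpr_dt (K22.f307357 IH) (Lpr_cf (f336445 IH) (Lpn (LP (LK LD1_c15 LD2_c45 LD3_c38))))))))))))
theorem f336466 : Led Lsl_df (LP (LK LD1_c25 LD2_c37 LD3_c16)) = (LP (LK LD1_c15 LD2_c45 LD3_c38)) :=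
  Lgr Lrot38 (Lpr_dt (f336451 IH) (Lpn (LP (LK LD1_c15 LD2_c45 LD3_c38))))
theorem f310091 : Led Lsl_et (LP (LK LD1_c4 LD2_c11 LD3_c24)) = (LP (LK LD1_c8 LD2_c22 LD3_c33)) :=
  Lre_e IH (LK LD1_c4 LD2_c11 LD3_c24) (LK LD1_c8 LD2_c22 LD3_c33) Lrfl Lrfl
theorem f300462 : Led Lsl_gt (LP (LK LD1_c8 LD2_c22 LD3_c33)) = (LP (LK LD1_c15 LD2_c45 LD3_c38)) :=
  Lre_g IH (LK LD1_c8 LD2_c22 LD3_c33) (LK LD1_c15 LD2_c45 LD3_c38) Lrfl Lrfl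
theorem f310125 : Led Lsl_dt (LP (LK LD1_c25 LD2_c40 LD3_c14)) = (LP (LK LD1_c15 LD2_c43 LD3_c54)) :=
  Lre_d IH (LK LD1_c25 LD2_c40 LD3_c14) (LK LD1_c15 LD2_c43 LD3_c54) Lrfl Lrfl
theorem f310126 : Led Lsl_ef (LP (LK LD1_c15 LD2_c45 LD3_c38)) = (LP (LK LD1_c25 LD2_c40 LD3_c14)) :=
  Lgr Lrot17 (Lpe (f300462 IH) (Lpe (f310091 IH) (Lpr_dt (K19.f304508 IH) (Lpr_gf (K19.f310119 IH) (Lpe (K20.f170894 IH) (Lpe (K14.f170893 IH) (Lpe (K20.f252028 IH) (Lpr_dt (K17.f288883 IH) (Lpe (K21.f245988 IH) (Lpe (f310125 IH) (Lpn (LP (LK LD1_c25 LD2_c40 LD3_c14)))))))))))))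
theorem f310131 : Led Lsl_et (LP (LK LD1_c15 LD2_c45 LD3_c38)) = (LP (LK LD1_c25 LD2_c40 LD3_c14)) :=
  Lgr Lrot87 (Lpr_ef (f310126 IH) (Lpn (LP (LK LD1_c25 LD2_c40 LD3_c14))))
theorem f288879 : Led Lsl_ct (LP (LK LD1_c15 LD2_c43 LD3_c60)) = (LP (LK LD1_c25 LD2_c40 LD3_c23)) :=
  Lre_c IH (LK LD1_c15 LD2_c43 LD3_c60) (LK LD1_c25 LD2_c40 LD3_c23) Lrfl Lrfl
theorem f288894 : Led Lsl_ef (LP (LK LD1_c15 LD2_c44 LD3_c37)) = (LP (LK LD1_c25 LD2_c40 LD3_c23)) :=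
  Lgr Lrot28 (Lpr_ct (K20.f288893 IH) (Lpr_et (K21.f288890 IH) (Lpr_ct (f288879 IH) (Lpn (LP (LK LD1_c25 LD2_c40 LD3_c23))))))
theorem f309110 : Led Lsl_et (LP (LK LD1_c10 LD2_c38 LD3_c32)) = (LP (LK LD1_c5 LD2_c23 LD3_c57)) :=
  Lre_e IH (LK LD1_c10 LD2_c38 LD3_c32) (LK LD1_c5 LD2_c23 LD3_c57) Lrfl Lrfl
theorem f309152 : Led Lsl_gt (LP (LK LD1_c19 LD2_c16 LD3_c50)) = (LP (LK LD1_c28 LD2_c42 LD3_c48)) :=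
  Lre_g IH (LK LD1_c19 LD2_c16 LD3_c50) (LK LD1_c28 LD2_c42 LD3_c48) Lrfl Lrfl
theorem f309153 : Led Lsl_dt (LP (LK LD1_c25 LD2_c40 LD3_c23)) = (LP (LK LD1_c28 LD2_c42 LD3_c48)) :=
  Lgr Lrot37 (Lpe (f288894 IH) (Lpe (K20.f309149 IH) (Lpr_dt (K20.f192413 IH) (Lpr_gt (K20.f309146 IH) (Lpe (K20.f303060 IH) (Lpr_et (K20.f309091 IH) (Lpr_gt (K19.f235600 IH) (Lpe (f309110 IH) (Lpr_dt (K19.f309111 IH) (Lpr_gt (f309152 IH) (Lpn (LP (LK LD1_c28 LD2_c42 LD3_c48)))))))))))))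
theorem f322317 : Led Lsl_gf (LP (LK LD1_c25 LD2_c38 LD3_c0)) = (LP (LK LD1_c28 LD2_c42 LD3_c48)) :=
  Lgr Lrot76 (Lpr_af (K20.f322308 IH) (Lpe (K21.f322315 IH) (Lpr_gt (f309152 IH) (Lpn (LP (LK LD1_c28 LD2_c42 LD3_c48))))))
theorem f277886 : Led Lsl_ct (LP (LK LD1_c19 LD2_c3 LD3_c31)) = (LP (LK LD1_c28 LD2_c29 LD3_c45)) :=
  Lre_c IH (LK LD1_c19 LD2_c3 LD3_c31) (LK LD1_c28 LD2_c29 LD3_c45) Lrfl Lrfl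
theorem f297799 : Led Lsl_gt (LP (LK LD1_c15 LD2_c43 LD3_c55)) = (LP (LK LD1_c25 LD2_c40 LD3_c16)) :=
  Lre_g IH (LK LD1_c15 LD2_c43 LD3_c55) (LK LD1_c25 LD2_c40 LD3_c16) Lrfl Lrfl
theorem f322319 : Led Lsl_ct (LP (LK LD1_c25 LD2_c40 LD3_c16)) = (LP (LK LD1_c28 LD2_c42 LD3_c48)) :=
  Lgr Lrot152 (Lpe (f297799 IH) (Lpe (K17.f288909 IH) (Lpe (K18.f297797 IH) (Lpr_ct (K18.f254383 IH) (Lpe (K18.f277842 IH) (Lpr_ct (f277886 IH) (Lpr_df (K19.f305374 IH) (Lpe (K19.f305365 IH) (Lpr_gf (f322317 IH) (Lpn (LP (LK LD1_c28 LD2_c42 LD3_c48))))))))))))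
theorem f310129 : Led Lsl_dt (LP (LK LD1_c15 LD2_c43 LD3_c54)) = (LP (LK LD1_c25 LD2_c40 LD3_c14)) :=
  Lre_d IH (LK LD1_c15 LD2_c43 LD3_c54) (LK LD1_c25 LD2_c40 LD3_c14) Lrfl Lrfl
theorem f322485 : Led Lsl_ct (LP (LK LD1_c15 LD2_c47 LD3_c26)) = (LP (LK LD1_c8 LD2_c23 LD3_c50)) :=
  Lre_c IH (LK LD1_c15 LD2_c47 LD3_c26) (LK LD1_c8 LD2_c23 LD3_c50) Lrfl Lrfl
theorem f322509 : Led Lsl_gt (LP (LK LD1_c25 LD2_c40 LD3_c14)) = (LP (LK LD1_c15 LD2_c47 LD3_c26)) :=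
  Lgr Lrot9 (Lpe (f310129 IH) (Lpr_gt (K21.f245988 IH) (Lpr_ct (K17.f288995 IH) (Lpr_gt (f297799 IH) (Lpr_ct (f322319 IH) (Lpe (f309153 IH) (Lpe (f288879 IH) (Lpr_gf (K21.f322504 IH) (Lpe (f322485 IH) (Lpn (LP (LK LD1_c15 LD2_c47 LD3_c26))))))))))))
theorem f322551 : Led Lsl_dt (LP (LK LD1_c15 LD2_c47 LD3_c26)) = (LP (LK LD1_c25 LD2_c44 LD3_c11)) :=
  Lre_d IH (LK LD1_c15 LD2_c47 LD3_c26) (LK LD1_c25 LD2_c44 LD3_c11) Lrfl Lrfl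
theorem f336488 : Led Lsl_gf (LP (LK LD1_c16 LD2_c4 LD3_c34)) = (LP (LK LD1_c25 LD2_c44 LD3_c11)) :=
  Lgr Lrot134 (Lpe (K19.f231114 IH) (Lpr_et (K16.f231113 IH) (Lpr_gt (K14.f231106 IH) (Lpe (K23.f231118 IH) (Lpr_dt (K23.f178638 IH) (Lpr_gt (f231119 IH) (Lpr_df (f336466 IH) (Lpr_et (f310131 IH) (Lpr_gt (f322509 IH) (Lpr_dt (f322551 IH) (Lpn (LP (LK LD1_c25 LD2_c44 LD3_c11)))))))))))))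
theorem f336490 : Led Lsl_cf (LP (LK LD1_c17 LD2_c42 LD3_c36)) = (LP (LK LD1_c25 LD2_c40 LD3_c14)) :=
  Lgr Lrot166 (Lpr_gt (K25.f336439 IH) (Lpe (K25.f299344 IH) (Lpr_gt (K20.f322626 IH) (Lpe (K18.f278436 IH) (Lpe (K16.f234609 IH) (Lpe (K21.f234616 IH) (Lpr_gf (f336488 IH) (Lpe (f322551 IH) (Lpe (f322509 IH) (Lpn (LP (LK LD1_c25 LD2_c40 LD3_c14))))))))))))
theorem f328957 : Led Lsl_dt (LP (LK LD1_c31 LD2_c58 LD3_c7)) = (LP (LK LD1_c25 LD2_c40 LD3_c13)) :=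
  Lre_d IH (LK LD1_c31 LD2_c58 LD3_c7) (LK LD1_c25 LD2_c40 LD3_c13) Lrfl Lrfl
theorem f321192 : Led Lsl_gf (LP (LK LD1_c19 LD2_c12 LD3_c11)) = (LP (LK LD1_c28 LD2_c29 LD3_c14)) :=
  Lgr Lrot76 (Lpr_af (K21.f297821 IH) (Lpe (K21.f297781 IH) (Lpr_gt (K21.f321190 IH) (Lpn (LP (LK LD1_c28 LD2_c29 LD3_c14))))))
theorem f226953 : Led Lsl_dt (LP (LK LD1_c15 LD2_c44 LD3_c2)) = (LP (LK LD1_c25 LD2_c40 LD3_c26)) :=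
  Lre_d IH (LK LD1_c15 LD2_c44 LD3_c2) (LK LD1_c25 LD2_c40 LD3_c26) Lrfl Lrfl
theorem f328950 : Led Lsl_dt (LP (LK LD1_c25 LD2_c40 LD3_c13)) = (LP (LK LD1_c31 LD2_c58 LD3_c7)) :=
  Lre_d IH (LK LD1_c25 LD2_c40 LD3_c13) (LK LD1_c31 LD2_c58 LD3_c7) Lrfl Lrfl
theorem f328951 : Led Lsl_ct (LP (LK LD1_c25 LD2_c40 LD3_c26)) = (LP (LK LD1_c31 LD2_c58 LD3_c7)) :=
  Lgr Lrot7 (Lpe (f226953 IH) (Lpe (K16.f226952 IH) (Lpe (K16.f178863 IH) (Lpr_gf (K22.f226950 IH) (Lpe (K21.f182625 IH) (Lpe (f321192 IH) (Lpr_dt (K20.f228508 IH) (Lpr_gt (K21.f328946 IH) (Lpr_dt (f328950 IH) (Lpn (LP (LK LD1_c31 LD2_c58 LD3_c7))))))))))))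
theorem f321171 : Led Lsl_ct (LP (LK LD1_c25 LD2_c40 LD3_c10)) = (LP (LK LD1_c20 LD2_c2 LD3_c28)) :=
  Lgr Lrot7 (Lpe (f295926 IH) (Lpe (K20.f295925 IH) (Lpe (K17.f288883 IH) (Lpr_gf (K18.f295922 IH) (Lpr_cf (K18.f178782 IH) (Lpr_gt (K20.f321169 IH) (Lpe (K20.f200437 IH) (Lpr_gt (K20.f200536 IH) (Lpr_dt (K20.f200552 IH) (Lpn (LP (LK LD1_c20 LD2_c2 LD3_c28))))))))))))
theorem f325831 : Led Lsl_dt (LP (LK LD1_c31 LD2_c58 LD3_c5)) = (LP (LK LD1_c25 LD2_c40 LD3_c9)) :=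
  Lre_d IH (LK LD1_c31 LD2_c58 LD3_c5) (LK LD1_c25 LD2_c40 LD3_c9) Lrfl Lrfl
theorem f336544 : Led Lsl_ct (LP (LK LD1_c25 LD2_c40 LD3_c29)) = (LP (LK LD1_c31 LD2_c58 LD3_c5)) :=
  Lgr Lrot176 (Lpe (f336530 IH) (Lpr_cf (K22.f336527 IH) (Lpe (K22.f336519 IH) (Lpr_cf (f336490 IH) (Lpe (f310129 IH) (Lpe (K21.f288996 IH) (Lpe (f328957 IH) (Lpe (f328951 IH) (Lpe (f226953 IH) (Lpe (K21.f325779 IH) (Lpe (K20.f200553 IH) (Lpe (f321171 IH) (Lpe (f295926 IH) (Lpe (f325830 IH) (Lpe (f325831 IH) (Lpn (LP (LK LD1_c31 LD2_c58 LD3_c5))))))))))))))))))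
theorem f328959 : Led Lsl_dt (LP (LK LD1_c25 LD2_c40 LD3_c9)) = (LP (LK LD1_c31 LD2_c58 LD3_c5)) :=
  Lre_d IH (LK LD1_c25 LD2_c40 LD3_c9) (LK LD1_c31 LD2_c58 LD3_c5) Lrfl Lrfl
theorem f336560 : Led Lsl_gf (LP (LK LD1_c25 LD2_c40 LD3_c9)) = (LP (LK LD1_c26 LD2_c18 LD3_c0)) :=
  Lgr Lrot143 (Lpr_dt (f328959 IH) (Lpe (f336544 IH) (Lpe (f336530 IH) (Lpr_gf (K25.f336548 IH) (Lpe (K17.f276865 IH) (Lpe (K21.f328942 IH) (Lpe (K19.f224375 IH) (Lpr_gt (K21.f328932 IH) (Lpr_dt (K19.f254376 IH) (Lpn (LP (LK LD1_c26 LD2_c18 LD3_c0))))))))))))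
theorem f361364 : Led Lsl_gt (LP (LK LD1_c25 LD2_c42 LD3_c58)) = (LP (LK LD1_c16 LD2_c19 LD3_c59)) :=
  Lgr Lrot9 (Lpe (f361359 IH) (Lpr_gt (f361357 IH) (Lpr_ct (f356108 IH) (Lpe (f355719 IH) (Lpe (f321173 IH) (Lpe (f295926 IH) (Lpe (f325830 IH) (Lpr_gf (f336560 IH) (Lpe (K18.f200523 IH) (Lpn (LP (LK LD1_c16 LD2_c19 LD3_c59))))))))))))
theorem f361376 : Led Lsl_et (LP (LK LD1_c15 LD2_c46 LD3_c10)) = (LP (LK LD1_c8 LD2_c22 LD3_c51)) :=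
  Lre_e IH (LK LD1_c15 LD2_c46 LD3_c10) (LK LD1_c8 LD2_c22 LD3_c51) Lrfl Lrfl
theorem f361377 : Led Lsl_gf (LP (LK LD1_c8 LD2_c22 LD3_c51)) = (LP (LK LD1_c11 LD2_c52 LD3_c3)) :=
  Lgr Lrot141 (Lpe (f361376 IH) (Lpr_dt (f361359 IH) (Lpr_gt (f361364 IH) (Lpe (K18.f200522 IH) (Lpr_et (K19.f232269 IH) (Lpe (K17.f251830 IH) (Lpr_dt (K17.f251834 IH) (Lpe (K23.f326023 IH) (Lpe (K16.f199939 IH) (Lpr_et (K21.f258372 IH) (Lpn (LP (LK LD1_c11 LD2_c52 LD3_c3)))))))))))))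
theorem f200182 : Led Lsl_gt (LP (LK LD1_c8 LD2_c22 LD3_c51)) = (LP (LK LD1_c15 LD2_c46 LD3_c8)) :=
  Lre_g IH (LK LD1_c8 LD2_c22 LD3_c51) (LK LD1_c15 LD2_c46 LD3_c8) Lrfl Lrfl
theorem f361379 : Led Lsl_af (LP (LK LD1_c15 LD2_c46 LD3_c8)) = (LP (LK LD1_c20 LD2_c54 LD3_c49)) :=
  Lgr Lrot31 (Lpe (f200182 IH) (Lpr_gf (f361377 IH) (Lpr_ft (K21.f270791 IH) (Lpn (LP (LK LD1_c20 LD2_c54 LD3_c49))))))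
theorem f237555 : Led Lsl_et (LP (LK LD1_c4 LD2_c52 LD3_c60)) = (LP (LK LD1_c9 LD2_c37 LD3_c54)) :=
  Lre_e IH (LK LD1_c4 LD2_c52 LD3_c60) (LK LD1_c9 LD2_c37 LD3_c54) Lrfl Lrfl
theorem f270802 : Led Lsl_at (LP (LK LD1_c9 LD2_c37 LD3_c54)) = (LP (LK LD1_c11 LD2_c52 LD3_c3)) :=
  Lgr Lrot80 (Lpe (f237555 IH) (Lpr_af (K16.f270794 IH) (Lpe (K20.f42095 IH) (Lpn (LP (LK LD1_c11 LD2_c52 LD3_c3))))))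
theorem f361392 : Led Lsl_ft (LP (LK LD1_c15 LD2_c46 LD3_c8)) = (LP (LK LD1_c9 LD2_c37 LD3_c54)) :=
  Lgr Lrot101 (Lpr_af (f361379 IH) (Lpe (K21.f270791 IH) (Lpe (f270802 IH) (Lpn (LP (LK LD1_c9 LD2_c37 LD3_c54))))))
theorem f361370 : Led Lsl_dt (LP (LK LD1_c25 LD2_c42 LD3_c56)) = (LP (LK LD1_c15 LD2_c46 LD3_c8)) :=
  Lre_d IH (LK LD1_c25 LD2_c42 LD3_c56) (LK LD1_c15 LD2_c46 LD3_c8) Lrfl Lrfl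
theorem f186945 : Led Lsl_dt (LP (LK LD1_c9 LD2_c37 LD3_c54)) = (LP (LK LD1_c17 LD2_c43 LD3_c33)) :=
  Lre_d IH (LK LD1_c9 LD2_c37 LD3_c54) (LK LD1_c17 LD2_c43 LD3_c33) Lrfl Lrfl
theorem f361399 : Led Lsl_ff (LP (LK LD1_c25 LD2_c42 LD3_c56)) = (LP (LK LD1_c17 LD2_c43 LD3_c33)) :=
  Lgr Lrot19 (Lpr_dt (f361370 IH) (Lpr_ft (f361392 IH) (Lpr_dt (f186945 IH) (Lpn (LP (LK LD1_c17 LD2_c43 LD3_c33))))))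
theorem f300387 : Led Lsl_dt (LP (LK LD1_c15 LD2_c46 LD3_c8)) = (LP (LK LD1_c25 LD2_c42 LD3_c56)) :=
  Lre_d IH (LK LD1_c15 LD2_c46 LD3_c8) (LK LD1_c25 LD2_c42 LD3_c56) Lrfl Lrfl
theorem f321147 : Led Lsl_dt (LP (LK LD1_c25 LD2_c39 LD3_c15)) = (LP (LK LD1_c20 LD2_c54 LD3_c49)) :=
  Lgr Lrot42 (Lpr_df (K20.f321111 IH) (Lpn (LP (LK LD1_c20 LD2_c54 LD3_c49))))
theorem f361388 : Led Lsl_at (LP (LK LD1_c25 LD2_c42 LD3_c56)) = (LP (LK LD1_c25 LD2_c39 LD3_c15)) :=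
  Lgr Lrot51 (Lpe (f300387 IH) (Lpr_af (f361379 IH) (Lpe (f321147 IH) (Lpn (LP (LK LD1_c25 LD2_c39 LD3_c15))))))
theorem f258388 : Led Lsl_dt (LP (LK LD1_c20 LD2_c54 LD3_c48)) = (LP (LK LD1_c11 LD2_c52 LD3_c3)) :=
  Lre_d IH (LK LD1_c20 LD2_c54 LD3_c48) (LK LD1_c11 LD2_c52 LD3_c3) Lrfl Lrfl
theorem f321149 : Led Lsl_ft (LP (LK LD1_c25 LD2_c39 LD3_c15)) = (LP (LK LD1_c20 LD2_c54 LD3_c48)) :=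
  Lgr Lrot54 (Lpr_df (K20.f321111 IH) (Lpe (K21.f270791 IH) (Lpe (f258388 IH) (Lpn (LP (LK LD1_c20 LD2_c54 LD3_c48))))))
theorem f361427 : Led Lsl_at (LP (LK LD1_c20 LD2_c54 LD3_c48)) = (LP (LK LD1_c17 LD2_c43 LD3_c33)) :=
  Lgr Lrot66 (Lpe (f321149 IH) (Lpe (f361388 IH) (Lpr_ff (f361399 IH) (Lpn (LP (LK LD1_c17 LD2_c43 LD3_c33))))))
theorem f361464 : Led Lsl_gt (LP (LK LD1_c15 LD2_c43 LD3_c1)) = (LP (LK LD1_c17 LD2_c43 LD3_c33)) :=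
  Lgr Lrot46 (Lpe (K20.f316070 IH) (Lpr_ft (f321149 IH) (Lpr_at (f361427 IH) (Lpn (LP (LK LD1_c17 LD2_c43 LD3_c33))))))
theorem f237551 : Led Lsl_dt (LP (LK LD1_c17 LD2_c43 LD3_c33)) = (LP (LK LD1_c9 LD2_c37 LD3_c54)) :=
  Lre_d IH (LK LD1_c17 LD2_c43 LD3_c33) (LK LD1_c9 LD2_c37 LD3_c54) Lrfl Lrfl
theorem f270865 : Led Lsl_ft (LP (LK LD1_c4 LD2_c52 LD3_c61)) = (LP (LK LD1_c9 LD2_c37 LD3_c57)) :=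
  Lre_f IH (LK LD1_c4 LD2_c52 LD3_c61) (LK LD1_c9 LD2_c37 LD3_c57) Lrfl Lrfl
theorem f279356 : Led Lsl_dt (LP (LK LD1_c8 LD2_c3 LD3_c58)) = (LP (LK LD1_c4 LD2_c52 LD3_c61)) :=
  Lgr Lrot60 (Lpe (K16.f279338 IH) (Lpr_df (K16.f279351 IH) (Lpe (f270865 IH) (Lpn (LP (LK LD1_c4 LD2_c52 LD3_c61))))))
theorem f188648 : Led Lsl_ct (LP (LK LD1_c15 LD2_c1 LD3_c18)) = (LP (LK LD1_c7 LD2_c57 LD3_c52)) :=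
  Lre_c IH (LK LD1_c15 LD2_c1 LD3_c18) (LK LD1_c7 LD2_c57 LD3_c52) Lrfl Lrfl
theorem f361466 : Led Lsl_gf (LP (LK LD1_c8 LD2_c20 LD3_c59)) = (LP (LK LD1_c15 LD2_c1 LD3_c18)) :=
  Lgr Lrot144 (Lpr_dt (K20.f300454 IH) (Lpr_gt (f361464 IH) (Lpr_dt (f237551 IH) (Lpe (K24.f237538 IH) (Lpe (f279356 IH) (Lpe (K22.f192991 IH) (Lpe (K22.f330824 IH) (Lpr_gf (K21.f330820 IH) (Lpe (f188648 IH) (Lpn (LP (LK LD1_c15 LD2_c1 LD3_c18))))))))))))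
theorem f187144 : Led Lsl_ft (LP (LK LD1_c4 LD2_c21 LD3_c7)) = (LP (LK LD1_c8 LD2_c39 LD3_c58)) :=
  Lre_f IH (LK LD1_c4 LD2_c21 LD3_c7) (LK LD1_c8 LD2_c39 LD3_c58) Lrfl Lrfl
theorem f311411 : Led Lsl_at (LP (LK LD1_c8 LD2_c39 LD3_c58)) = (LP (LK LD1_c15 LD2_c33 LD3_c18)) :=
  Lgr Lrot51 (Lpe (K14.f187139 IH) (Lpr_af (K19.f311407 IH) (Lpr_df (K12.f47627 IH) (Lpn (LP (LK LD1_c15 LD2_c33 LD3_c18))))))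
theorem f355924 : Led Lsl_gt (LP (LK LD1_c8 LD2_c20 LD3_c58)) = (LP (LK LD1_c15 LD2_c33 LD3_c18)) :=
  Lgr Lrot46 (Lpr_gf (K25.f355872 IH) (Lpr_ft (f187144 IH) (Lpr_at (f311411 IH) (Lpn (LP (LK LD1_c15 LD2_c33 LD3_c18))))))
theorem f188660 : Led Lsl_ct (LP (LK LD1_c7 LD2_c57 LD3_c52)) = (LP (LK LD1_c15 LD2_c1 LD3_c18)) :=
  Lre_c IH (LK LD1_c7 LD2_c57 LD3_c52) (LK LD1_c15 LD2_c1 LD3_c18) Lrfl Lrfl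
theorem f349797 : Led Lsl_bf (LP (LK LD1_c15 LD2_c1 LD3_c19)) = (LP (LK LD1_c8 LD2_c42 LD3_c37)) :=
  Lgr Lrot24 (Lpr_bt (K23.f349795 IH) (Lpn (LP (LK LD1_c8 LD2_c42 LD3_c37))))
theorem f361564 : Led Lsl_gt (LP (LK LD1_c15 LD2_c33 LD3_c33)) = (LP (LK LD1_c8 LD2_c17 LD3_c41)) :=
  Lgr Lrot65 (Lpe (K21.f47629 IH) (Lpr_bt (K12.f47626 IH) (Lpe (f355924 IH) (Lpe (K25.f316065 IH) (Lpr_ct (K20.f178711 IH) (Lpr_gf (f361466 IH) (Lpe (f188660 IH) (Lpe (K20.f188694 IH) (Lpr_bf (f349797 IH) (Lpe (K23.f349775 IH) (Lpn (LP (LK LD1_c8 LD2_c17 LD3_c41)))))))))))))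
theorem f336199 : Led Lsl_gt (LP (LK LD1_c4 LD2_c8 LD3_c47)) = (LP (LK LD1_c8 LD2_c16 LD3_c31)) :=
  Lgr Lrot112 (Lpe (K23.f623 IH) (Lpr_et (K25.f650 IH) (Lpe (K25.f323332 IH) (Lpr_ef (K25.f263058 IH) (Lpr_dt (K25.f263006 IH) (Lpr_gf (K25.f336194 IH) (Lpr_df (K25.f324317 IH) (Lpe (K21.f324322 IH) (Lpr_ef (K25.f328544 IH) (Lpr_dt (K12.f47617 IH) (Lpn (LP (LK LD1_c8 LD2_c16 LD3_c31)))))))))))))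
theorem f624 : Led Lsl_ct (LP (LK LD1_c4 LD2_c16 LD3_c19)) = (LP (LK LD1_c8 LD2_c31 LD3_c49)) :=
  Lre_c IH (LK LD1_c4 LD2_c16 LD3_c19) (LK LD1_c8 LD2_c31 LD3_c49) Lrfl Lrfl
theorem f625 : Led Lsl_gt (LP (LK LD1_c8 LD2_c31 LD3_c49)) = (LP (LK LD1_c16 LD2_c0 LD3_c41)) :=
  Lre_g IH (LK LD1_c8 LD2_c31 LD3_c49) (LK LD1_c16 LD2_c0 LD3_c41) Lrfl Lrfl
theorem f361568 : Led Lsl_ct (LP (LK LD1_c16 LD2_c0 LD3_c41)) = (LP (LK LD1_c15 LD2_c30 LD3_c51)) :=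
  Lgr Lrot110 (Lpe (f625 IH) (Lpe (f624 IH) (Lpe (K13.f603 IH) (Lpe (K13.f599 IH) (Lpr_gt (f336199 IH) (Lpr_ct (K21.f47629 IH) (Lpr_gt (f361564 IH) (Lpr_ct (K23.f349771 IH) (Lpe (K23.f212514 IH) (Lpn (LP (LK LD1_c15 LD2_c30 LD3_c51))))))))))))
theorem f361573 : Led Lsl_cf (LP (LK LD1_c16 LD2_c0 LD3_c41)) = (LP (LK LD1_c15 LD2_c30 LD3_c51)) :=
  Lgr Lrot11 (Lpr_ct (f361568 IH) (Lpn (LP (LK LD1_c15 LD2_c30 LD3_c51))))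
theorem f229564 : Led Lsl_bt (LP (LK LD1_c5 LD2_c9 LD3_c2)) = (LP (LK LD1_c2 LD2_c31 LD3_c43)) :=
  Lre_b IH (LK LD1_c5 LD2_c9 LD3_c2) (LK LD1_c2 LD2_c31 LD3_c43) Lrfl Lrfl
theorem f229572 : Led Lsl_ct (LP (LK LD1_c5 LD2_c9 LD3_c6)) = (LP (LK LD1_c10 LD2_c8 LD3_c47)) :=
  Lre_c IH (LK LD1_c5 LD2_c9 LD3_c6) (LK LD1_c10 LD2_c8 LD3_c47) Lrfl Lrfl
theorem f294325 : Led Lsl_bt (LP (LK LD1_c27 LD2_c33 LD3_c5)) = (LP (LK LD1_c17 LD2_c46 LD3_c26)) :=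
  Lre_b IH (LK LD1_c27 LD2_c33 LD3_c5) (LK LD1_c17 LD2_c46 LD3_c26) Lrfl Lrfl
theorem f294326 : Led Lsl_ef (LP (LK LD1_c27 LD2_c33 LD3_c5)) = (LP (LK LD1_c27 LD2_c34 LD3_c27)) :=
  Lgr Lrot29 (Lpr_bt (f294325 IH) (Lpr_et (f294321 IH) (Lpr_bt (K21.f193167 IH) (Lpn (LP (LK LD1_c27 LD2_c34 LD3_c27))))))
theorem f229095 : Led Lsl_et (LP (LK LD1_c4 LD2_c1 LD3_c53)) = (LP (LK LD1_c8 LD2_c4 LD3_c26)) :=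
  Lre_e IH (LK LD1_c4 LD2_c1 LD3_c53) (LK LD1_c8 LD2_c4 LD3_c26) Lrfl Lrfl
theorem f262504 : Led Lsl_ft (LP (LK LD1_c8 LD2_c4 LD3_c26)) = (LP (LK LD1_c15 LD2_c12 LD3_c3)) :=
  Lre_f IH (LK LD1_c8 LD2_c4 LD3_c26) (LK LD1_c15 LD2_c12 LD3_c3) Lrfl Lrfl
theorem f262505 : Led Lsl_et (LP (LK LD1_c15 LD2_c12 LD3_c3)) = (LP (LK LD1_c10 LD2_c8 LD3_c56)) :=
  Lgr Lrot69 (Lpe (f262504 IH) (Lpe (f229095 IH) (Lpr_ff (K15.f262496 IH) (Lpe (K19.f21747 IH) (Lpe (K21.f260121 IH) (Lpn (LP (LK LD1_c10 LD2_c8 LD3_c56))))))))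
theorem f262507 : Led Lsl_bt (LP (LK LD1_c25 LD2_c0 LD3_c58)) = (LP (LK LD1_c15 LD2_c12 LD3_c3)) :=
  Lre_b IH (LK LD1_c25 LD2_c0 LD3_c58) (LK LD1_c15 LD2_c12 LD3_c3) Lrfl Lrfl
theorem f262508 : Led Lsl_ef (LP (LK LD1_c25 LD2_c0 LD3_c58)) = (LP (LK LD1_c18 LD2_c28 LD3_c61)) :=
  Lgr Lrot29 (Lpr_bt (f262507 IH) (Lpr_et (f262505 IH) (Lpr_bt (K23.f260075 IH) (Lpn (LP (LK LD1_c18 LD2_c28 LD3_c61))))))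
theorem f262510 : Led Lsl_et (LP (LK LD1_c25 LD2_c0 LD3_c58)) = (LP (LK LD1_c18 LD2_c28 LD3_c61)) :=
  Lgr Lrot87 (Lpr_ef (f262508 IH) (Lpn (LP (LK LD1_c18 LD2_c28 LD3_c61))))
theorem f294538 : Led Lsl_ct (LP (LK LD1_c27 LD2_c33 LD3_c5)) = (LP (LK LD1_c25 LD2_c0 LD3_c58)) :=
  Lgr Lrot15 (Lpr_ef (f294326 IH) (Lpr_cf (K23.f260073 IH) (Lpe (f262510 IH) (Lpn (LP (LK LD1_c25 LD2_c0 LD3_c58))))))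
theorem f294565 : Led Lsl_cf (LP (LK LD1_c27 LD2_c33 LD3_c5)) = (LP (LK LD1_c25 LD2_c0 LD3_c58)) :=
  Lgr Lrot11 (Lpr_ct (f294538 IH) (Lpn (LP (LK LD1_c25 LD2_c0 LD3_c58))))
theorem f294318 : Led Lsl_ct (LP (LK LD1_c17 LD2_c46 LD3_c26)) = (LP (LK LD1_c10 LD2_c28 LD3_c1)) :=
  Lgr Lrot15 (Lpr_ef (f294311 IH) (Lpr_cf (K18.f193162 IH) (Lpe (K18.f294240 IH) (Lpn (LP (LK LD1_c10 LD2_c28 LD3_c1))))))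
theorem f262514 : Led Lsl_bt (LP (LK LD1_c15 LD2_c12 LD3_c3)) = (LP (LK LD1_c25 LD2_c0 LD3_c58)) :=
  Lre_b IH (LK LD1_c15 LD2_c12 LD3_c3) (LK LD1_c25 LD2_c0 LD3_c58) Lrfl Lrfl
theorem f294611 : Led Lsl_ct (LP (LK LD1_c8 LD2_c5 LD3_c53)) = (LP (LK LD1_c15 LD2_c12 LD3_c3)) :=
  Lgr Lrot83 (Lpr_bf (K13.f229071 IH) (Lpe (f294318 IH) (Lpe (f294325 IH) (Lpr_cf (f294565 IH) (Lpe (f262514 IH) (Lpn (LP (LK LD1_c15 LD2_c12 LD3_c3))))))))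
theorem f358822 : Led Lsl_gt (LP (LK LD1_c10 LD2_c8 LD3_c47)) = (LP (LK LD1_c15 LD2_c12 LD3_c3)) :=
  Lgr Lrot149 (Lpe (f229572 IH) (Lpe (K23.f229570 IH) (Lpe (f229564 IH) (Lpe (K20.f321770 IH) (Lpr_gf (f358818 IH) (Lpe (f255998 IH) (Lpr_bt (f335737 IH) (Lpr_gf (K22.f287672 IH) (Lpe (K13.f229074 IH) (Lpr_ct (f294611 IH) (Lpn (LP (LK LD1_c15 LD2_c12 LD3_c3)))))))))))))
theorem f171741 : Led Lsl_ct (LP (LK LD1_c4 LD2_c19 LD3_c1)) = (LP (LK LD1_c8 LD2_c36 LD3_c37)) :=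
  Lre_c IH (LK LD1_c4 LD2_c19 LD3_c1) (LK LD1_c8 LD2_c36 LD3_c37) Lrfl Lrfl
theorem f294315 : Led Lsl_bt (LP (LK LD1_c17 LD2_c46 LD3_c26)) = (LP (LK LD1_c27 LD2_c33 LD3_c5)) :=
  Lre_b IH (LK LD1_c17 LD2_c46 LD3_c26) (LK LD1_c27 LD2_c33 LD3_c5) Lrfl Lrfl
theorem f294563 : Led Lsl_cf (LP (LK LD1_c8 LD2_c5 LD3_c53)) = (LP (LK LD1_c15 LD2_c12 LD3_c3)) :=
  Lgr Lrot97 (Lpr_bt (K13.f229074 IH) (Lpe (f294328 IH) (Lpr_bt (f294315 IH) (Lpr_ct (f294538 IH) (Lpr_bt (f262507 IH) (Lpn (LP (LK LD1_c15 LD2_c12 LD3_c3))))))))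
theorem f358824 : Led Lsl_gt (LP (LK LD1_c8 LD2_c36 LD3_c37)) = (LP (LK LD1_c14 LD2_c57 LD3_c12)) :=
  Lgr Lrot150 (Lpe (f171741 IH) (Lpe (K23.f327708 IH) (Lpe (K23.f196341 IH) (Lpr_gt (K23.f229570 IH) (Lpr_ct (f229572 IH) (Lpr_gt (f358822 IH) (Lpe (f294563 IH) (Lpr_df (K13.f229677 IH) (Lpe (K15.f229679 IH) (Lpn (LP (LK LD1_c14 LD2_c57 LD3_c12))))))))))))
theorem f171426 : Led Lsl_bt (LP (LK LD1_c2 LD2_c6 LD3_c42)) = (LP (LK LD1_c1 LD2_c0 LD3_c22)) :=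
  Lre_b IH (LK LD1_c2 LD2_c6 LD3_c42) (LK LD1_c1 LD2_c0 LD3_c22) Lrfl Lrfl
theorem f171428 : Led Lsl_ct (LP (LK LD1_c2 LD2_c6 LD3_c42)) = (LP (LK LD1_c4 LD2_c18 LD3_c51)) :=
  Lre_c IH (LK LD1_c2 LD2_c6 LD3_c42) (LK LD1_c4 LD2_c18 LD3_c51) Lrfl Lrfl
theorem f171459 : Led Lsl_gt (LP (LK LD1_c8 LD2_c36 LD3_c24)) = (LP (LK LD1_c4 LD2_c18 LD3_c51)) :=
  Lre_g IH (LK LD1_c8 LD2_c36 LD3_c24) (LK LD1_c4 LD2_c18 LD3_c51) Lrfl Lrfl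
theorem f229914 : Led Lsl_ct (LP (LK LD1_c7 LD2_c55 LD3_c37)) = (LP (LK LD1_c14 LD2_c57 LD3_c12)) :=
  Lre_c IH (LK LD1_c7 LD2_c55 LD3_c37) (LK LD1_c14 LD2_c57 LD3_c12) Lrfl Lrfl
theorem f249167 : Led Lsl_bt (LP (LK LD1_c10 LD2_c2 LD3_c2)) = (LP (LK LD1_c5 LD2_c5 LD3_c27)) :=
  Lre_b IH (LK LD1_c10 LD2_c2 LD3_c2) (LK LD1_c5 LD2_c5 LD3_c27) Lrfl Lrfl
theorem f249168 : Led Lsl_et (LP (LK LD1_c10 LD2_c15 LD3_c1)) = (LP (LK LD1_c10 LD2_c2 LD3_c2)) :=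
  Lgr Lrot74 (Lpe (K22.f249166 IH) (Lpr_ef (K22.f249164 IH) (Lpe (f249167 IH) (Lpn (LP (LK LD1_c10 LD2_c2 LD3_c2))))))
theorem f43963 : Led Lsl_et (LP (LK LD1_c2 LD2_c37 LD3_c14)) = (LP (LK LD1_c5 LD2_c21 LD3_c20)) :=
  Lre_e IH (LK LD1_c2 LD2_c37 LD3_c14) (LK LD1_c5 LD2_c21 LD3_c20) Lrfl Lrfl
theorem f331393 : Led Lsl_gf (LP (LK LD1_c10 LD2_c2 LD3_c2)) = (LP (LK LD1_c5 LD2_c21 LD3_c20)) :=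
  Lgr Lrot141 (Lpe (f249168 IH) (Lpr_dt (K22.f331383 IH) (Lpr_gt (K22.f47654 IH) (Lpe (K12.f47635 IH) (Lpr_et (K19.f47653 IH) (Lpe (K12.f212468 IH) (Lpr_dt (K1.f43922 IH) (Lpr_gt (K10.f43928 IH) (Lpe (K14.f43962 IH) (Lpr_et (f43963 IH) (Lpn (LP (LK LD1_c5 LD2_c21 LD3_c20)))))))))))))
theorem f49029 : Led Lsl_gt (LP (LK LD1_c15 LD2_c56 LD3_c46)) = (LP (LK LD1_c8 LD2_c29 LD3_c34)) :=
  Lre_g IH (LK LD1_c15 LD2_c56 LD3_c46) (LK LD1_c8 LD2_c29 LD3_c34) Lrfl Lrfl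
theorem f331396 : Led Lsl_dt (LP (LK LD1_c10 LD2_c2 LD3_c2)) = (LP (LK LD1_c15 LD2_c56 LD3_c46)) :=
  Lgr Lrot171 (Lpr_gf (f331393 IH) (Lpe (f43963 IH) (Lpr_dt (K14.f43962 IH) (Lpe (K10.f43928 IH) (Lpe (K1.f43922 IH) (Lpr_et (K1.f43935 IH) (Lpe (K13.f184862 IH) (Lpe (K17.f49028 IH) (Lpe (K14.f49013 IH) (Lpe (f49029 IH) (Lpn (LP (LK LD1_c15 LD2_c56 LD3_c46)))))))))))))
theorem f331400 : Led Lsl_df (LP (LK LD1_c10 LD2_c2 LD3_c2)) = (LP (LK LD1_c15 LD2_c56 LD3_c46)) :=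
  Lgr Lrot38 (Lpr_dt (f331396 IH) (Lpn (LP (LK LD1_c15 LD2_c56 LD3_c46))))
theorem f331402 : Led Lsl_bt (LP (LK LD1_c8 LD2_c32 LD3_c48)) = (LP (LK LD1_c15 LD2_c56 LD3_c46)) :=
  Lgr Lrot95 (Lpr_df (K21.f249120 IH) (Lpe (f249167 IH) (Lpr_df (f331400 IH) (Lpn (LP (LK LD1_c15 LD2_c56 LD3_c46))))))
theorem f358830 : Led Lsl_gf (LP (LK LD1_c15 LD2_c56 LD3_c46)) = (LP (LK LD1_c14 LD2_c57 LD3_c7)) :=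
  Lgr Lrot124 (Lpe (f331402 IH) (Lpr_ct (f169371 IH) (Lpe (f358820 IH) (Lpr_cf (K19.f309252 IH) (Lpr_bt (K19.f229523 IH) (Lpr_gt (K23.f327708 IH) (Lpr_ct (f171741 IH) (Lpr_gt (f358824 IH) (Lpe (f229914 IH) (Lpr_bt (K15.f229670 IH) (Lpn (LP (LK LD1_c14 LD2_c57 LD3_c7)))))))))))))
theorem f358832 : Led Lsl_cf (LP (LK LD1_c8 LD2_c36 LD3_c24)) = (LP (LK LD1_c15 LD2_c56 LD3_c46)) :=
  Lgr Lrot125 (Lpr_gt (f171459 IH) (Lpe (f171428 IH) (Lpr_bt (f171426 IH) (Lpr_gt (K19.f171204 IH) (Lpe (K23.f171717 IH) (Lpr_ct (f171741 IH) (Lpr_gt (f358824 IH) (Lpe (f229914 IH) (Lpr_bt (K15.f229670 IH) (Lpe (f358830 IH) (Lpn (LP (LK LD1_c15 LD2_c56 LD3_c46)))))))))))))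
theorem f171452 : Led Lsl_ct (LP (LK LD1_c4 LD2_c18 LD3_c51)) = (LP (LK LD1_c2 LD2_c6 LD3_c42)) :=
  Lre_c IH (LK LD1_c4 LD2_c18 LD3_c51) (LK LD1_c2 LD2_c6 LD3_c42) Lrfl Lrfl
theorem f171432 : Led Lsl_ct (LP (LK LD1_c5 LD2_c10 LD3_c55)) = (LP (LK LD1_c2 LD2_c32 LD3_c28)) :=
  Lre_c IH (LK LD1_c5 LD2_c10 LD3_c55) (LK LD1_c2 LD2_c32 LD3_c28) Lrfl Lrfl
theorem f171460 : Led Lsl_gt (LP (LK LD1_c10 LD2_c12 LD3_c28)) = (LP (LK LD1_c5 LD2_c10 LD3_c55)) :=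
  Lre_g IH (LK LD1_c10 LD2_c12 LD3_c28) (LK LD1_c5 LD2_c10 LD3_c55) Lrfl Lrfl
theorem f358841 : Led Lsl_cf (LP (LK LD1_c10 LD2_c12 LD3_c28)) = (LP (LK LD1_c10 LD2_c25 LD3_c29)) :=
  Lgr Lrot169 (Lpr_gt (f171460 IH) (Lpr_ct (f171432 IH) (Lpe (K21.f171322 IH) (Lpe (f171452 IH) (Lpe (f171459 IH) (Lpr_cf (f358832 IH) (Lpr_gf (f358830 IH) (Lpe (K13.f229673 IH) (Lpe (K22.f287672 IH) (Lpn (LP (LK LD1_c10 LD2_c25 LD3_c29))))))))))))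
theorem f171495 : Led Lsl_ct (LP (LK LD1_c2 LD2_c32 LD3_c28)) = (LP (LK LD1_c5 LD2_c10 LD3_c55)) :=
  Lre_c IH (LK LD1_c2 LD2_c32 LD3_c28) (LK LD1_c5 LD2_c10 LD3_c55) Lrfl Lrfl
theorem f171337 : Led Lsl_ct (LP (LK LD1_c2 LD2_c32 LD3_c32)) = (LP (LK LD1_c5 LD2_c11 LD3_c6)) :=
  Lre_c IH (LK LD1_c2 LD2_c32 LD3_c32) (LK LD1_c5 LD2_c11 LD3_c6) Lrfl Lrfl
theorem f335816 : Led Lsl_bf (LP (LK LD1_c5 LD2_c19 LD3_c60)) = (LP (LK LD1_c10 LD2_c25 LD3_c29)) :=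
  Lgr Lrot24 (Lpr_bt (f335737 IH) (Lpn (LP (LK LD1_c10 LD2_c25 LD3_c29))))
theorem f358849 : Led Lsl_gt (LP (LK LD1_c5 LD2_c11 LD3_c6)) = (LP (LK LD1_c5 LD2_c4 LD3_c20)) :=
  Lgr Lrot149 (Lpe (f171337 IH) (Lpe (K25.f171237 IH) (Lpe (K21.f171321 IH) (Lpr_ct (f171495 IH) (Lpe (f171460 IH) (Lpr_cf (f358841 IH) (Lpe (f335816 IH) (Lpr_gf (K19.f307682 IH) (Lpe (K19.f165962 IH) (Lpr_ct (K15.f165944 IH) (Lpn (LP (LK LD1_c5 LD2_c4 LD3_c20)))))))))))))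
theorem f358873 : Led Lsl_bt (LP (LK LD1_c2 LD2_c32 LD3_c32)) = (LP (LK LD1_c5 LD2_c9 LD3_c6)) :=
  Lgr Lrot92 (Lpr_ct (f171337 IH) (Lpr_gt (f358849 IH) (Lpe (K15.f165944 IH) (Lpr_bt (K19.f165962 IH) (Lpe (K19.f307682 IH) (Lpr_ct (f255998 IH) (Lpe (f358818 IH) (Lpr_cf (K20.f321770 IH) (Lpr_bt (f229564 IH) (Lpr_gt (K23.f229570 IH) (Lpn (LP (LK LD1_c5 LD2_c9 LD3_c6)))))))))))))
theorem f215179 : Led Lsl_ft (LP (LK LD1_c2 LD2_c32 LD3_c40)) = (LP (LK LD1_c5 LD2_c11 LD3_c27)) :=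
  Lre_f IH (LK LD1_c2 LD2_c32 LD3_c40) (LK LD1_c5 LD2_c11 LD3_c27) Lrfl Lrfl
theorem f358870 : Led Lsl_gf (LP (LK LD1_c5 LD2_c11 LD3_c6)) = (LP (LK LD1_c2 LD2_c32 LD3_c40)) :=
  Lgr Lrot47 (Lpr_gt (f358849 IH) (Lpe (K19.f307921 IH) (Lpe (f215179 IH) (Lpn (LP (LK LD1_c2 LD2_c32 LD3_c40))))))
theorem f22001 : Led Lsl_et (LP (LK LD1_c2 LD2_c32 LD3_c40)) = (LP (LK LD1_c1 LD2_c13 LD3_c16)) :=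
  Lre_e IH (LK LD1_c2 LD2_c32 LD3_c40) (LK LD1_c1 LD2_c13 LD3_c16) Lrfl Lrfl
theorem f186604 : Led Lsl_ct (LP (LK LD1_c1 LD2_c14 LD3_c60)) = (LP (LK LD1_c2 LD2_c32 LD3_c40)) :=
  Lgr Lrot15 (Lpe (K9.f178537 IH) (Lpr_cf (K10.f186576 IH) (Lpe (f22001 IH) (Lpn (LP (LK LD1_c2 LD2_c32 LD3_c40))))))
theorem f358882 : Led Lsl_gf (LP (LK LD1_c10 LD2_c8 LD3_c45)) = (LP (LK LD1_c15 LD2_c11 LD3_c49)) :=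
  Lgr Lrot129 (Lpr_cf (K25.f353481 IH) (Lpr_bt (K25.f353424 IH) (Lpr_gt (K20.f178707 IH) (Lpe (K19.f178697 IH) (Lpr_ct (f186604 IH) (Lpe (f358870 IH) (Lpe (f171337 IH) (Lpr_bt (f358873 IH) (Lpe (K23.f287116 IH) (Lpr_ct (K17.f180823 IH) (Lpn (LP (LK LD1_c15 LD2_c11 LD3_c49)))))))))))))
theorem f230083 : Led Lsl_cf (LP (LK LD1_c5 LD2_c19 LD3_c33)) = (LP (LK LD1_c9 LD2_c40 LD3_c3)) :=
  Lgr Lrot11 (Lpr_ct (K17.f229990 IH) (Lpn (LP (LK LD1_c9 LD2_c40 LD3_c3))))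
theorem f49504 : Led Lsl_gt (LP (LK LD1_c8 LD2_c26 LD3_c18)) = (LP (LK LD1_c15 LD2_c50 LD3_c55)) :=
  Lre_g IH (LK LD1_c8 LD2_c26 LD3_c18) (LK LD1_c15 LD2_c50 LD3_c55) Lrfl Lrfl
theorem f327605 : Led Lsl_bt (LP (LK LD1_c9 LD2_c53 LD3_c42)) = (LP (LK LD1_c15 LD2_c50 LD3_c55)) :=
  Lgr Lrot92 (Lpe (K21.f327464 IH) (Lpe (K21.f248393 IH) (Lpe (K21.f248325 IH) (Lpe (K14.f248312 IH) (Lpe (K20.f316416 IH) (Lpr_ct (K22.f169391 IH) (Lpr_gt (K22.f327598 IH) (Lpr_cf (f230083 IH) (Lpe (K17.f189504 IH) (Lpr_gt (f49504 IH) (Lpn (LP (LK LD1_c15 LD2_c50 LD3_c55)))))))))))))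
theorem f358884 : Led Lsl_gt (LP (LK LD1_c15 LD2_c50 LD3_c55)) = (LP (LK LD1_c15 LD2_c11 LD3_c40)) :=
  Lgr Lrot164 (Lpe (f327605 IH) (Lpe (K21.f327464 IH) (Lpe (K21.f215183 IH) (Lpe (K19.f178728 IH) (Lpe (K20.f178707 IH) (Lpe (K25.f353424 IH) (Lpe (K25.f353481 IH) (Lpr_gf (f358882 IH) (Lpe (K17.f180823 IH) (Lpr_bt (K14.f180813 IH) (Lpn (LP (LK LD1_c15 LD2_c11 LD3_c40)))))))))))))
theorem f348271 : Led Lsl_ct (LP (LK LD1_c8 LD2_c31 LD3_c42)) = (LP (LK LD1_c16 LD2_c0 LD3_c30)) :=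
  Lre_c IH (LK LD1_c8 LD2_c31 LD3_c42) (LK LD1_c16 LD2_c0 LD3_c30) Lrfl Lrfl
theorem f257392 : Led Lsl_gt (LP (LK LD1_c5 LD2_c15 LD3_c56)) = (LP (LK LD1_c10 LD2_c21 LD3_c15)) :=
  Lre_g IH (LK LD1_c5 LD2_c15 LD3_c56) (LK LD1_c10 LD2_c21 LD3_c15) Lrfl Lrfl
theorem f49512 : Led Lsl_ft (LP (LK LD1_c15 LD2_c50 LD3_c56)) = (LP (LK LD1_c8 LD2_c26 LD3_c18)) :=
  Lre_f IH (LK LD1_c15 LD2_c50 LD3_c56) (LK LD1_c8 LD2_c26 LD3_c18) Lrfl Lrfl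
theorem f230140 : Led Lsl_bf (LP (LK LD1_c9 LD2_c40 LD3_c3)) = (LP (LK LD1_c8 LD2_c26 LD3_c18)) :=
  Lgr Lrot61 (Lpr_ft (K17.f230088 IH) (Lpr_bt (K17.f230133 IH) (Lpr_ft (f49512 IH) (Lpn (LP (LK LD1_c8 LD2_c26 LD3_c18))))))
theorem f287011 : Led Lsl_dt (LP (LK LD1_c8 LD2_c6 LD3_c2)) = (LP (LK LD1_c8 LD2_c26 LD3_c18)) :=
  Lgr Lrot79 (Lpr_bf (K17.f287006 IH) (Lpr_df (K15.f266233 IH) (Lpr_bf (f230140 IH) (Lpn (LP (LK LD1_c8 LD2_c26 LD3_c18))))))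
theorem f229022 : Led Lsl_ct (LP (LK LD1_c15 LD2_c36 LD3_c14)) = (LP (LK LD1_c8 LD2_c17 LD3_c50)) :=
  Lre_c IH (LK LD1_c15 LD2_c36 LD3_c14) (LK LD1_c8 LD2_c17 LD3_c50) Lrfl Lrfl
theorem f328606 : Led Lsl_gf (LP (LK LD1_c15 LD2_c36 LD3_c14)) = (LP (LK LD1_c10 LD2_c21 LD3_c15)) :=
  Lgr Lrot76 (Lpr_af (K21.f328596 IH) (Lpe (K21.f328567 IH) (Lpr_gt (f257392 IH) (Lpn (LP (LK LD1_c10 LD2_c21 LD3_c15))))))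
theorem f347669 : Led Lsl_ct (LP (LK LD1_c15 LD2_c50 LD3_c55)) = (LP (LK LD1_c10 LD2_c21 LD3_c15)) :=
  Lgr Lrot152 (Lpe (f49504 IH) (Lpe (f287011 IH) (Lpr_gt (K22.f219955 IH) (Lpr_ct (f347660 IH) (Lpe (f347657 IH) (Lpr_ct (K21.f328608 IH) (Lpe (K25.f229010 IH) (Lpe (f229022 IH) (Lpr_gf (f328606 IH) (Lpn (LP (LK LD1_c10 LD2_c21 LD3_c15))))))))))))
theorem f347674 : Led Lsl_cf (LP (LK LD1_c15 LD2_c50 LD3_c55)) = (LP (LK LD1_c10 LD2_c21 LD3_c15)) :=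
  Lgr Lrot11 (Lpr_ct (f347669 IH) (Lpn (LP (LK LD1_c10 LD2_c21 LD3_c15))))
theorem f348360 : Led Lsl_df (LP (LK LD1_c16 LD2_c0 LD3_c30)) = (LP (LK LD1_c15 LD2_c50 LD3_c55)) :=
  Lgr Lrot162 (Lpe (f348271 IH) (Lpe (K24.f706 IH) (Lpe (K24.f622 IH) (Lpe (K23.f250642 IH) (Lpr_dt (K23.f348354 IH) (Lpr_gt (K23.f47595 IH) (Lpr_ct (K10.f47660 IH) (Lpr_gt (f257392 IH) (Lpe (f347674 IH) (Lpn (LP (LK LD1_c15 LD2_c50 LD3_c55))))))))))))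
theorem f348363 : Led Lsl_dt (LP (LK LD1_c16 LD2_c0 LD3_c30)) = (LP (LK LD1_c15 LD2_c50 LD3_c55)) :=
  Lgr Lrot42 (Lpr_df (f348360 IH) (Lpn (LP (LK LD1_c15 LD2_c50 LD3_c55))))
theorem f287058 : Led Lsl_et (LP (LK LD1_c8 LD2_c42 LD3_c38)) = (LP (LK LD1_c5 LD2_c29 LD3_c43)) :=
  Lgr Lrot71 (Lpr_df (K14.f193224 IH) (Lpr_ef (K17.f287050 IH) (Lpe (K17.f286288 IH) (Lpr_ef (K17.f271063 IH) (Lpe (K17.f168403 IH) (Lpn (LP (LK LD1_c5 LD2_c29 LD3_c43))))))))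
theorem f259717 : Led Lsl_et (LP (LK LD1_c5 LD2_c14 LD3_c58)) = (LP (LK LD1_c10 LD2_c19 LD3_c19)) :=
  Lre_e IH (LK LD1_c5 LD2_c14 LD3_c58) (LK LD1_c10 LD2_c19 LD3_c19) Lrfl Lrfl
theorem f358888 : Led Lsl_gf (LP (LK LD1_c16 LD2_c0 LD3_c30)) = (LP (LK LD1_c10 LD2_c19 LD3_c19)) :=
  Lgr Lrot138 (Lpr_dt (f348363 IH) (Lpr_gt (f358884 IH) (Lpe (K17.f193214 IH) (Lpr_et (f287058 IH) (Lpr_gt (K17.f271043 IH) (Lpe (K16.f259289 IH) (Lpe (K16.f259285 IH) (Lpe (K16.f271019 IH) (Lpr_df (K23.f259715 IH) (Lpr_et (f259717 IH) (Lpn (LP (LK LD1_c10 LD2_c19 LD3_c19)))))))))))))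
theorem f49061 : Led Lsl_ct (LP (LK LD1_c15 LD2_c57 LD3_c27)) = (LP (LK LD1_c8 LD2_c29 LD3_c57)) :=
  Lre_c IH (LK LD1_c15 LD2_c57 LD3_c27) (LK LD1_c8 LD2_c29 LD3_c57) Lrfl Lrfl
theorem f49057 : Led Lsl_ct (LP (LK LD1_c10 LD2_c24 LD3_c52)) = (LP (LK LD1_c5 LD2_c17 LD3_c37)) :=
  Lre_c IH (LK LD1_c10 LD2_c24 LD3_c52) (LK LD1_c5 LD2_c17 LD3_c37) Lrfl Lrfl
theorem f361580 : Led Lsl_gt (LP (LK LD1_c16 LD2_c0 LD3_c41)) = (LP (LK LD1_c10 LD2_c24 LD3_c52)) :=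
  Lgr Lrot150 (Lpr_cf (f361573 IH) (Lpe (K23.f44992 IH) (Lpr_df (K24.f259720 IH) (Lpe (f358888 IH) (Lpr_ct (K24.f331362 IH) (Lpe (K24.f349962 IH) (Lpr_ct (f49061 IH) (Lpr_df (K15.f49048 IH) (Lpe (f49057 IH) (Lpn (LP (LK LD1_c10 LD2_c24 LD3_c52))))))))))))
theorem f336371 : Led Lsl_bt (LP (LK LD1_c5 LD2_c5 LD3_c28)) = (LP (LK LD1_c8 LD2_c3 LD3_c12)) :=
  Lgr Lrot127 (Lpr_bf (K23.f336369 IH) (Lpn (LP (LK LD1_c8 LD2_c3 LD3_c12))))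
theorem f167515 : Led Lsl_ct (LP (LK LD1_c5 LD2_c5 LD3_c28)) = (LP (LK LD1_c10 LD2_c2 LD3_c4)) :=
  Lre_c IH (LK LD1_c5 LD2_c5 LD3_c28) (LK LD1_c10 LD2_c2 LD3_c4) Lrfl Lrfl
theorem f191071 : Led Lsl_bf (LP (LK LD1_c8 LD2_c15 LD3_c2)) = (LP (LK LD1_c8 LD2_c11 LD3_c5)) :=
  Lgr Lrot24 (Lpr_bt (K25.f191069 IH) (Lpn (LP (LK LD1_c8 LD2_c11 LD3_c5))))
theorem f361582 : Led Lsl_gt (LP (LK LD1_c10 LD2_c2 LD3_c4)) = (LP (LK LD1_c15 LD2_c24 LD3_c36)) :=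
  Lgr Lrot65 (Lpe (f167515 IH) (Lpr_bt (f336371 IH) (Lpr_gf (K23.f330268 IH) (Lpr_bf (K16.f229161 IH) (Lpr_ct (K16.f49063 IH) (Lpe (f361580 IH) (Lpr_cf (f361573 IH) (Lpe (K23.f44992 IH) (Lpr_bf (f191071 IH) (Lpr_ct (f191074 IH) (Lpn (LP (LK LD1_c15 LD2_c24 LD3_c36)))))))))))))
theorem f167605 : Led Lsl_ct (LP (LK LD1_c4 LD2_c18 LD3_c6)) = (LP (LK LD1_c8 LD2_c35 LD3_c10)) :=
  Lre_c IH (LK LD1_c4 LD2_c18 LD3_c6) (LK LD1_c8 LD2_c35 LD3_c10) Lrfl Lrfl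
theorem f354223 : Led Lsl_et (LP (LK LD1_c25 LD2_c37 LD3_c48)) = (LP (LK LD1_c15 LD2_c42 LD3_c5)) :=
  Lre_e IH (LK LD1_c25 LD2_c37 LD3_c48) (LK LD1_c15 LD2_c42 LD3_c5) Lrfl Lrfl
theorem f232766 : Led Lsl_gt (LP (LK LD1_c16 LD2_c2 LD3_c40)) = (LP (LK LD1_c26 LD2_c0 LD3_c14)) :=
  Lre_g IH (LK LD1_c16 LD2_c2 LD3_c40) (LK LD1_c26 LD2_c0 LD3_c14) Lrfl Lrfl
theorem f354224 : Led Lsl_dt (LP (LK LD1_c25 LD2_c37 LD3_c48)) = (LP (LK LD1_c26 LD2_c0 LD3_c14)) :=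
  Lgr Lrot37 (Lpr_et (f354223 IH) (Lpr_gt (K25.f354221 IH) (Lpr_dt (K25.f247377 IH) (Lpe (K20.f267567 IH) (Lpe (K20.f42665 IH) (Lpr_et (K20.f42664 IH) (Lpe (K15.f232848 IH) (Lpe (K13.f232779 IH) (Lpr_dt (K13.f232716 IH) (Lpr_gt (f232766 IH) (Lpn (LP (LK LD1_c26 LD2_c0 LD3_c14)))))))))))))
theorem f232767 : Led Lsl_gt (LP (LK LD1_c26 LD2_c0 LD3_c14)) = (LP (LK LD1_c16 LD2_c4 LD3_c3)) :=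
  Lgr Lrot46 (Lpe (f232766 IH) (Lpr_ft (K13.f232760 IH) (Lpr_at (K13.f219229 IH) (Lpn (LP (LK LD1_c16 LD2_c4 LD3_c3))))))
theorem f322536 : Led Lsl_ct (LP (LK LD1_c25 LD2_c44 LD3_c12)) = (LP (LK LD1_c15 LD2_c47 LD3_c27)) :=
  Lre_c IH (LK LD1_c25 LD2_c44 LD3_c12) (LK LD1_c15 LD2_c47 LD3_c27) Lrfl Lrfl
theorem f354228 : Led Lsl_gf (LP (LK LD1_c25 LD2_c37 LD3_c48)) = (LP (LK LD1_c25 LD2_c44 LD3_c12)) :=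
  Lgr Lrot144 (Lpr_dt (f354224 IH) (Lpr_gt (f232767 IH) (Lpr_dt (K13.f199845 IH) (Lpe (K13.f199846 IH) (Lpe (K13.f199843 IH) (Lpe (K21.f232746 IH) (Lpr_df (K21.f253994 IH) (Lpr_gf (K22.f322534 IH) (Lpe (f322536 IH) (Lpn (LP (LK LD1_c25 LD2_c44 LD3_c12))))))))))))
theorem f322537 : Led Lsl_et (LP (LK LD1_c16 LD2_c2 LD3_c46)) = (LP (LK LD1_c25 LD2_c44 LD3_c12)) :=
  Lgr Lrot158 (Lpe (f169371 IH) (Lpr_ef (K21.f322532 IH) (Lpe (f322536 IH) (Lpn (LP (LK LD1_c25 LD2_c44 LD3_c12))))))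
theorem f249201 : Led Lsl_dt (LP (LK LD1_c16 LD2_c2 LD3_c46)) = (LP (LK LD1_c26 LD2_c0 LD3_c19)) :=
  Lre_d IH (LK LD1_c16 LD2_c2 LD3_c46) (LK LD1_c26 LD2_c0 LD3_c19) Lrfl Lrfl
theorem f199800 : Led Lsl_dt (LP (LK LD1_c8 LD2_c33 LD3_c37)) = (LP (LK LD1_c16 LD2_c4 LD3_c3)) :=
  Lre_d IH (LK LD1_c8 LD2_c33 LD3_c37) (LK LD1_c16 LD2_c4 LD3_c3) Lrfl Lrfl
theorem f199802 : Led Lsl_et (LP (LK LD1_c10 LD2_c32 LD3_c37)) = (LP (LK LD1_c5 LD2_c21 LD3_c12)) :=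
  Lre_e IH (LK LD1_c10 LD2_c32 LD3_c37) (LK LD1_c5 LD2_c21 LD3_c12) Lrfl Lrfl
theorem f199803 : Led Lsl_dt (LP (LK LD1_c10 LD2_c32 LD3_c37)) = (LP (LK LD1_c19 LD2_c5 LD3_c45)) :=
  Lre_d IH (LK LD1_c10 LD2_c32 LD3_c37) (LK LD1_c19 LD2_c5 LD3_c45) Lrfl Lrfl
theorem f354230 : Led Lsl_gf (LP (LK LD1_c26 LD2_c0 LD3_c19)) = (LP (LK LD1_c19 LD2_c5 LD3_c45)) :=
  Lgr Lrot145 (Lpe (f249201 IH) (Lpr_et (f322537 IH) (Lpe (f354228 IH) (Lpr_dt (f354224 IH) (Lpr_gt (f232767 IH) (Lpe (f199800 IH) (Lpr_et (K19.f199793 IH) (Lpe (K18.f199796 IH) (Lpe (f199802 IH) (Lpr_dt (f199803 IH) (Lpn (LP (LK LD1_c19 LD2_c5 LD3_c45)))))))))))))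
theorem f249204 : Led Lsl_dt (LP (LK LD1_c26 LD2_c0 LD3_c19)) = (LP (LK LD1_c16 LD2_c2 LD3_c46)) :=
  Lre_d IH (LK LD1_c26 LD2_c0 LD3_c19) (LK LD1_c16 LD2_c2 LD3_c46) Lrfl Lrfl
theorem f354232 : Led Lsl_gt (LP (LK LD1_c8 LD2_c35 LD3_c10)) = (LP (LK LD1_c10 LD2_c32 LD3_c37)) :=
  Lgr Lrot94 (Lpe (f167605 IH) (Lpr_gt (K20.f167524 IH) (Lpr_dt (K19.f167435 IH) (Lpr_gt (K21.f167518 IH) (Lpe (K21.f249120 IH) (Lpe (f248341 IH) (Lpe (f249204 IH) (Lpr_gf (f354230 IH) (Lpe (f199803 IH) (Lpn (LP (LK LD1_c10 LD2_c32 LD3_c37))))))))))))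
theorem f191086 : Led Lsl_ct (LP (LK LD1_c15 LD2_c24 LD3_c36)) = (LP (LK LD1_c8 LD2_c11 LD3_c5)) :=
  Lre_c IH (LK LD1_c15 LD2_c24 LD3_c36) (LK LD1_c8 LD2_c11 LD3_c5) Lrfl Lrfl
theorem f361584 : Led Lsl_ct (LP (LK LD1_c10 LD2_c32 LD3_c37)) = (LP (LK LD1_c9 LD2_c35 LD3_c24)) :=
  Lgr Lrot110 (Lpe (f354232 IH) (Lpe (f167605 IH) (Lpe (K21.f316431 IH) (Lpe (K23.f325691 IH) (Lpr_gt (K23.f325684 IH) (Lpr_ct (f167515 IH) (Lpr_gt (f361582 IH) (Lpr_ct (f191086 IH) (Lpe (f359479 IH) (Lpn (LP (LK LD1_c9 LD2_c35 LD3_c24))))))))))))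
theorem f361592 : Led Lsl_ft (LP (LK LD1_c19 LD2_c5 LD3_c46)) = (LP (LK LD1_c10 LD2_c32 LD3_c37)) :=
  Lre_f IH (LK LD1_c19 LD2_c5 LD3_c46) (LK LD1_c10 LD2_c32 LD3_c37) Lrfl Lrfl
theorem f361593 : Led Lsl_cf (LP (LK LD1_c19 LD2_c5 LD3_c46)) = (LP (LK LD1_c17 LD2_c39 LD3_c35)) :=
  Lgr Lrot108 (Lpr_ft (f361592 IH) (Lpr_ct (f361584 IH) (Lpr_ft (f359398 IH) (Lpn (LP (LK LD1_c17 LD2_c39 LD3_c35))))))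
theorem f297714 : Led Lsl_gt (LP (LK LD1_c9 LD2_c35 LD3_c28)) = (LP (LK LD1_c17 LD2_c39 LD3_c35)) :=
  Lre_g IH (LK LD1_c9 LD2_c35 LD3_c28) (LK LD1_c17 LD2_c39 LD3_c35) Lrfl Lrfl
theorem f256004 : Led Lsl_ct (LP (LK LD1_c10 LD2_c29 LD3_c54)) = (LP (LK LD1_c5 LD2_c19 LD3_c60)) :=
  Lre_c IH (LK LD1_c10 LD2_c29 LD3_c54) (LK LD1_c5 LD2_c19 LD3_c60) Lrfl Lrfl
theorem f255996 : Led Lsl_ct (LP (LK LD1_c16 LD2_c5 LD3_c42)) = (LP (LK LD1_c8 LD2_c34 LD3_c35)) :=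
  Lre_c IH (LK LD1_c16 LD2_c5 LD3_c42) (LK LD1_c8 LD2_c34 LD3_c35) Lrfl Lrfl
theorem f361600 : Led Lsl_gt (LP (LK LD1_c19 LD2_c5 LD3_c46)) = (LP (LK LD1_c16 LD2_c5 LD3_c42)) :=
  Lgr Lrot150 (Lpr_cf (f361593 IH) (Lpe (f297714 IH) (Lpe (K25.f297710 IH) (Lpr_gt (K25.f266227 IH) (Lpe (K17.f230089 IH) (Lpr_gt (f358816 IH) (Lpr_ct (f256004 IH) (Lpe (K19.f255994 IH) (Lpe (f255996 IH) (Lpn (LP (LK LD1_c16 LD2_c5 LD3_c42))))))))))))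
theorem f256007 : Led Lsl_ct (LP (LK LD1_c8 LD2_c34 LD3_c35)) = (LP (LK LD1_c16 LD2_c5 LD3_c42)) :=
  Lre_c IH (LK LD1_c8 LD2_c34 LD3_c35) (LK LD1_c16 LD2_c5 LD3_c42) Lrfl Lrfl
theorem f179991 : Led Lsl_bt (LP (LK LD1_c8 LD2_c34 LD3_c32)) = (LP (LK LD1_c4 LD2_c17 LD3_c44)) :=
  Lre_b IH (LK LD1_c8 LD2_c34 LD3_c32) (LK LD1_c4 LD2_c17 LD3_c44) Lrfl Lrfl
theorem f335725 : Led Lsl_bt (LP (LK LD1_c8 LD2_c34 LD3_c35)) = (LP (LK LD1_c8 LD2_c19 LD3_c1)) :=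
  Lgr Lrot119 (Lpe (K19.f256002 IH) (Lpe (f179991 IH) (Lpr_ef (K22.f335721 IH) (Lpn (LP (LK LD1_c8 LD2_c19 LD3_c1))))))
theorem f254725 : Led Lsl_gt (LP (LK LD1_c4 LD2_c9 LD3_c34)) = (LP (LK LD1_c8 LD2_c19 LD3_c10)) :=
  Lre_g IH (LK LD1_c4 LD2_c9 LD3_c34) (LK LD1_c8 LD2_c19 LD3_c10) Lrfl Lrfl
theorem f361602 : Led Lsl_ct (LP (LK LD1_c15 LD2_c38 LD3_c59)) = (LP (LK LD1_c8 LD2_c19 LD3_c10)) :=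
  Lre_c IH (LK LD1_c15 LD2_c38 LD3_c59) (LK LD1_c8 LD2_c19 LD3_c10) Lrfl Lrfl
theorem f361603 : Led Lsl_bt (LP (LK LD1_c15 LD2_c38 LD3_c59)) = (LP (LK LD1_c9 LD2_c35 LD3_c28)) :=
  Lgr Lrot130 (Lpr_ct (f361602 IH) (Lpe (f254725 IH) (Lpe (K13.f664 IH) (Lpr_bt (K24.f287669 IH) (Lpe (K22.f232090 IH) (Lpe (f335725 IH) (Lpr_ct (f256007 IH) (Lpe (f361600 IH) (Lpr_cf (f361593 IH) (Lpe (f297714 IH) (Lpn (LP (LK LD1_c9 LD2_c35 LD3_c28)))))))))))))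
theorem f361605 : Led Lsl_bf (LP (LK LD1_c15 LD2_c38 LD3_c59)) = (LP (LK LD1_c9 LD2_c35 LD3_c28)) :=
  Lgr Lrot24 (Lpr_bt (f361603 IH) (Lpn (LP (LK LD1_c9 LD2_c35 LD3_c28))))
theorem f200255 : Led Lsl_at (LP (LK LD1_c8 LD2_c22 LD3_c35)) = (LP (LK LD1_c4 LD2_c11 LD3_c33)) :=
  Lre_a IH (LK LD1_c8 LD2_c22 LD3_c35) (LK LD1_c4 LD2_c11 LD3_c33) Lrfl Lrfl
theorem f304468 : Led Lsl_bt (LP (LK LD1_c8 LD2_c34 LD3_c55)) = (LP (LK LD1_c8 LD2_c22 LD3_c35)) :=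
  Lgr Lrot62 (Lpe (K21.f167532 IH) (Lpe (K18.f167469 IH) (Lpr_af (K18.f304464 IH) (Lpe (K22.f200341 IH) (Lpe (f200255 IH) (Lpn (LP (LK LD1_c8 LD2_c22 LD3_c35))))))))
theorem f361624 : Led Lsl_gf (LP (LK LD1_c15 LD2_c38 LD3_c59)) = (LP (LK LD1_c10 LD2_c24 LD3_c2)) :=
  Lgr Lrot124 (Lpr_bf (f361605 IH) (Lpr_ct (K25.f353498 IH) (Lpr_gt (K25.f316495 IH) (Lpe (f302865 IH) (Lpr_bt (f304468 IH) (Lpr_gt (K20.f258392 IH) (Lpr_ct (K25.f200178 IH) (Lpr_gt (K25.f258385 IH) (Lpe (K17.f282090 IH) (Lpr_bt (K17.f279397 IH) (Lpn (LP (LK LD1_c10 LD2_c24 LD3_c2)))))))))))))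
theorem f257939 : Led Lsl_et (LP (LK LD1_c5 LD2_c17 LD3_c12)) = (LP (LK LD1_c10 LD2_c24 LD3_c2)) :=
  Lre_e IH (LK LD1_c5 LD2_c17 LD3_c12) (LK LD1_c10 LD2_c24 LD3_c2) Lrfl Lrfl
theorem f168508 : Led Lsl_et (LP (LK LD1_c2 LD2_c41 LD3_c6)) = (LP (LK LD1_c1 LD2_c17 LD3_c15)) :=
  Lre_e IH (LK LD1_c2 LD2_c41 LD3_c6) (LK LD1_c1 LD2_c17 LD3_c15) Lrfl Lrfl
theorem f168506 : Led Lsl_dt (LP (LK LD1_c2 LD2_c41 LD3_c6)) = (LP (LK LD1_c5 LD2_c29 LD3_c42)) :=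
  Lre_d IH (LK LD1_c2 LD2_c41 LD3_c6) (LK LD1_c5 LD2_c29 LD3_c42) Lrfl Lrfl
theorem f213815 : Led Lsl_gt (LP (LK LD1_c10 LD2_c50 LD3_c41)) = (LP (LK LD1_c5 LD2_c29 LD3_c42)) :=
  Lre_g IH (LK LD1_c10 LD2_c50 LD3_c41) (LK LD1_c5 LD2_c29 LD3_c42) Lrfl Lrfl
theorem f213837 : Led Lsl_dt (LP (LK LD1_c19 LD2_c36 LD3_c9)) = (LP (LK LD1_c10 LD2_c50 LD3_c41)) :=
  Lre_d IH (LK LD1_c19 LD2_c36 LD3_c9) (LK LD1_c10 LD2_c50 LD3_c41) Lrfl Lrfl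
theorem f361626 : Led Lsl_ef (LP (LK LD1_c15 LD2_c38 LD3_c59)) = (LP (LK LD1_c19 LD2_c36 LD3_c9)) :=
  Lgr Lrot17 (Lpr_gf (f361624 IH) (Lpe (f257939 IH) (Lpr_dt (K15.f251771 IH) (Lpe (K15.f257912 IH) (Lpr_df (K14.f251685 IH) (Lpe (K14.f168370 IH) (Lpe (f168508 IH) (Lpr_dt (f168506 IH) (Lpe (f213815 IH) (Lpe (f213837 IH) (Lpn (LP (LK LD1_c19 LD2_c36 LD3_c9)))))))))))))
theorem f333431 : Led Lsl_ct (LP (LK LD1_c4 LD2_c18 LD3_c14)) = (LP (LK LD1_c8 LD2_c35 LD3_c16)) :=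
  Lre_c IH (LK LD1_c4 LD2_c18 LD3_c14) (LK LD1_c8 LD2_c35 LD3_c16) Lrfl Lrfl
theorem f336514 : Led Lsl_gf (LP (LK LD1_c8 LD2_c16 LD3_c53)) = (LP (LK LD1_c8 LD2_c35 LD3_c16)) :=
  Lgr Lrot126 (Lpe (K17.f273753 IH) (Lpe (K17.f282095 IH) (Lpe (K22.f336441 IH) (Lpr_ct (K25.f336443 IH) (Lpr_gt (K25.f200264 IH) (Lpe (K19.f200232 IH) (Lpr_bt (K22.f200341 IH) (Lpe (K22.f333429 IH) (Lpe (K22.f167540 IH) (Lpr_ct (f333431 IH) (Lpn (LP (LK LD1_c8 LD2_c35 LD3_c16)))))))))))))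
theorem f258533 : Led Lsl_af (LP (LK LD1_c8 LD2_c16 LD3_c53)) = (LP (LK LD1_c4 LD2_c9 LD3_c46)) :=
  Lgr Lrot50 (Lpr_et (K23.f1306 IH) (Lpr_at (K15.f258522 IH) (Lpr_et (K16.f170581 IH) (Lpn (LP (LK LD1_c4 LD2_c9 LD3_c46))))))
theorem f336516 : Led Lsl_gt (LP (LK LD1_c8 LD2_c19 LD3_c39)) = (LP (LK LD1_c8 LD2_c35 LD3_c16)) :=
  Lgr Lrot5 (Lpr_ft (K17.f236741 IH) (Lpe (f258533 IH) (Lpr_gf (f336514 IH) (Lpn (LP (LK LD1_c8 LD2_c35 LD3_c16))))))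
theorem f361622 : Led Lsl_gt (LP (LK LD1_c15 LD2_c38 LD3_c59)) = (LP (LK LD1_c15 LD2_c6 LD3_c45)) :=
  Lgr Lrot82 (Lpr_bf (f361605 IH) (Lpr_ct (K25.f353498 IH) (Lpe (K25.f302863 IH) (Lpe (K25.f167494 IH) (Lpr_bt (K24.f167492 IH) (Lpe (K22.f167432 IH) (Lpe (K22.f167540 IH) (Lpr_ct (f333431 IH) (Lpe (f336516 IH) (Lpr_cf (K17.f236734 IH) (Lpn (LP (LK LD1_c15 LD2_c6 LD3_c45)))))))))))))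
theorem f361634 : Led Lsl_gt (LP (LK LD1_c15 LD2_c51 LD3_c22)) = (LP (LK LD1_c10 LD2_c50 LD3_c41)) :=
  Lgr Lrot112 (Lpe (K17.f286120 IH) (Lpr_et (K17.f220507 IH) (Lpr_gf (K24.f297695 IH) (Lpe (K24.f341780 IH) (Lpr_dt (K24.f341772 IH) (Lpe (K24.f341748 IH) (Lpe (K15.f33229 IH) (Lpe (f361622 IH) (Lpr_ef (f361626 IH) (Lpr_dt (f213837 IH) (Lpn (LP (LK LD1_c10 LD2_c50 LD3_c41)))))))))))))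
theorem f339157 : Led Lsl_gf (LP (LK LD1_c28 LD2_c51 LD3_c12)) = (LP (LK LD1_c26 LD2_c43 LD3_c18)) :=
  Lgr Lrot47 (Lpr_gt (K22.f339155 IH) (Lpe (K22.f286066 IH) (Lpr_ff (K18.f286094 IH) (Lpn (LP (LK LD1_c26 LD2_c43 LD3_c18))))))
theorem f213809 : Led Lsl_at (LP (LK LD1_c28 LD2_c56 LD3_c58)) = (LP (LK LD1_c19 LD2_c36 LD3_c3)) :=
  Lre_a IH (LK LD1_c28 LD2_c56 LD3_c58) (LK LD1_c19 LD2_c36 LD3_c3) Lrfl Lrfl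
theorem f295864 : Led Lsl_ff (LP (LK LD1_c28 LD2_c56 LD3_c58)) = (LP (LK LD1_c31 LD2_c55 LD3_c30)) :=
  Lgr Lrot103 (Lpr_at (f213809 IH) (Lpe (K22.f213804 IH) (Lpe (K22.f213803 IH) (Lpe (K18.f168393 IH) (Lpe (K17.f168385 IH) (Lpe (K14.f213792 IH) (Lpe (K17.f213801 IH) (Lpe (K18.f213802 IH) (Lpr_df (K18.f295856 IH) (Lpn (LP (LK LD1_c31 LD2_c55 LD3_c30))))))))))))
theorem f295520 : Led Lsl_gt (LP (LK LD1_c28 LD2_c57 LD3_c61)) = (LP (LK LD1_c19 LD2_c36 LD3_c3)) :=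
  Lre_g IH (LK LD1_c28 LD2_c57 LD3_c61) (LK LD1_c19 LD2_c36 LD3_c3) Lrfl Lrfl
theorem f295868 : Led Lsl_gf (LP (LK LD1_c28 LD2_c57 LD3_c61)) = (LP (LK LD1_c31 LD2_c55 LD3_c30)) :=
  Lgr Lrot47 (Lpr_gt (f295520 IH) (Lpe (f213809 IH) (Lpr_ff (f295864 IH) (Lpn (LP (LK LD1_c31 LD2_c55 LD3_c30))))))
theorem f236037 : Led Lsl_ct (LP (LK LD1_c15 LD2_c33 LD3_c42)) = (LP (LK LD1_c25 LD2_c27 LD3_c22)) :=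
  Lre_c IH (LK LD1_c15 LD2_c33 LD3_c42) (LK LD1_c25 LD2_c27 LD3_c22) Lrfl Lrfl
theorem f234680 : Led Lsl_gt (LP (LK LD1_c25 LD2_c27 LD3_c21)) = (LP (LK LD1_c15 LD2_c33 LD3_c42)) :=
  Lre_g IH (LK LD1_c25 LD2_c27 LD3_c21) (LK LD1_c15 LD2_c33 LD3_c42) Lrfl Lrfl
theorem f339265 : Led Lsl_ct (LP (LK LD1_c28 LD2_c57 LD3_c61)) = (LP (LK LD1_c25 LD2_c27 LD3_c21)) :=
  Lgr Lrot186 (Lpr_gf (f295868 IH) (Lpe (K18.f295856 IH) (Lpe (f339157 IH) (Lpr_ct (K22.f339159 IH) (Lpe (K22.f339244 IH) (Lpr_ct (K22.f339252 IH) (Lpe (K22.f339257 IH) (Lpe (f236037 IH) (Lpe (f234680 IH) (Lpn (LP (LK LD1_c25 LD2_c27 LD3_c21))))))))))))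
theorem f339268 : Led Lsl_cf (LP (LK LD1_c28 LD2_c57 LD3_c61)) = (LP (LK LD1_c25 LD2_c27 LD3_c21)) :=
  Lgr Lrot11 (Lpr_ct (f339265 IH) (Lpn (LP (LK LD1_c25 LD2_c27 LD3_c21))))
theorem f339272 : Led Lsl_gt (LP (LK LD1_c15 LD2_c37 LD3_c22)) = (LP (LK LD1_c25 LD2_c27 LD3_c21)) :=
  Lgr Lrot9 (Lpe (K23.f323196 IH) (Lpr_gt (K21.f328426 IH) (Lpe (K21.f328410 IH) (Lpr_gt (K17.f168513 IH) (Lpr_ct (K18.f168393 IH) (Lpe (K23.f168391 IH) (Lpe (K22.f213833 IH) (Lpe (f295520 IH) (Lpr_cf (f339268 IH) (Lpn (LP (LK LD1_c25 LD2_c27 LD3_c21))))))))))))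
theorem f223068 : Led Lsl_dt (LP (LK LD1_c8 LD2_c16 LD3_c34)) = (LP (LK LD1_c15 LD2_c33 LD3_c42)) :=
  Lre_d IH (LK LD1_c8 LD2_c16 LD3_c34) (LK LD1_c15 LD2_c33 LD3_c42) Lrfl Lrfl
theorem f254724 : Led Lsl_et (LP (LK LD1_c2 LD2_c2 LD3_c3)) = (LP (LK LD1_c4 LD2_c9 LD3_c34)) :=
  Lre_e IH (LK LD1_c2 LD2_c2 LD3_c3) (LK LD1_c4 LD2_c9 LD3_c34) Lrfl Lrfl
theorem f254726 : Led Lsl_et (LP (LK LD1_c15 LD2_c38 LD3_c61)) = (LP (LK LD1_c8 LD2_c19 LD3_c10)) :=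
  Lre_e IH (LK LD1_c15 LD2_c38 LD3_c61) (LK LD1_c8 LD2_c19 LD3_c10) Lrfl Lrfl
theorem f254727 : Led Lsl_df (LP (LK LD1_c25 LD2_c27 LD3_c21)) = (LP (LK LD1_c15 LD2_c38 LD3_c61)) :=
  Lgr Lrot170 (Lpr_gt (f234680 IH) (Lpe (f223068 IH) (Lpr_et (K21.f223067 IH) (Lpe (K14.f234675 IH) (Lpe (K14.f254721 IH) (Lpr_gt (K14.f254718 IH) (Lpe (K14.f222799 IH) (Lpr_et (f254724 IH) (Lpr_gt (f254725 IH) (Lpe (f254726 IH) (Lpn (LP (LK LD1_c15 LD2_c38 LD3_c61)))))))))))))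
theorem f254731 : Led Lsl_dt (LP (LK LD1_c25 LD2_c27 LD3_c21)) = (LP (LK LD1_c15 LD2_c38 LD3_c61)) :=
  Lgr Lrot42 (Lpr_df (f254727 IH) (Lpn (LP (LK LD1_c15 LD2_c38 LD3_c61))))
theorem f213838 : Led Lsl_dt (LP (LK LD1_c10 LD2_c50 LD3_c41)) = (LP (LK LD1_c19 LD2_c36 LD3_c9)) :=
  Lre_d IH (LK LD1_c10 LD2_c50 LD3_c41) (LK LD1_c19 LD2_c36 LD3_c9) Lrfl Lrfl
theorem f361638 : Led Lsl_cf (LP (LK LD1_c15 LD2_c38 LD3_c61)) = (LP (LK LD1_c19 LD2_c36 LD3_c9)) :=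
  Lgr Lrot14 (Lpe (f254731 IH) (Lpe (f339272 IH) (Lpe (K23.f323196 IH) (Lpr_gf (K21.f331269 IH) (Lpr_ct (K21.f283209 IH) (Lpr_gt (K20.f286132 IH) (Lpr_dt (K17.f286120 IH) (Lpr_gt (f361634 IH) (Lpr_dt (f213838 IH) (Lpn (LP (LK LD1_c19 LD2_c36 LD3_c9))))))))))))
theorem f295026 : Led Lsl_gt (LP (LK LD1_c25 LD2_c31 LD3_c57)) = (LP (LK LD1_c31 LD2_c55 LD3_c25)) :=
  Lre_g IH (LK LD1_c25 LD2_c31 LD3_c57) (LK LD1_c31 LD2_c55 LD3_c25) Lrfl Lrfl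
theorem f339181 : Led Lsl_gt (LP (LK LD1_c31 LD2_c55 LD3_c25)) = (LP (LK LD1_c25 LD2_c31 LD3_c60)) :=
  Lgr Lrot46 (Lpe (f295026 IH) (Lpr_ft (K22.f331218 IH) (Lpr_at (K22.f339175 IH) (Lpn (LP (LK LD1_c25 LD2_c31 LD3_c60))))))
theorem f341568 : Led Lsl_cf (LP (LK LD1_c25 LD2_c36 LD3_c48)) = (LP (LK LD1_c31 LD2_c55 LD3_c25)) :=
  Lgr Lrot166 (Lpe (K19.f243289 IH) (Lpr_dt (K22.f243294 IH) (Lpr_gt (K21.f298726 IH) (Lpr_dt (K17.f271046 IH) (Lpr_ct (K17.f286069 IH) (Lpe (K17.f286075 IH) (Lpr_gf (K23.f295515 IH) (Lpr_df (K23.f341562 IH) (Lpe (f339181 IH) (Lpn (LP (LK LD1_c31 LD2_c55 LD3_c25))))))))))))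
theorem f341619 : Led Lsl_dt (LP (LK LD1_c25 LD2_c55 LD3_c8)) = (LP (LK LD1_c28 LD2_c51 LD3_c13)) :=
  Lgr Lrot27 (Lpe (K20.f243297 IH) (Lpr_gf (K19.f243289 IH) (Lpr_cf (f341568 IH) (Lpe (f295026 IH) (Lpr_df (K23.f339187 IH) (Lpr_gt (K23.f340431 IH) (Lpr_ct (K17.f245117 IH) (Lpr_gt (K17.f245100 IH) (Lpr_ct (K23.f341608 IH) (Lpn (LP (LK LD1_c28 LD2_c51 LD3_c13))))))))))))
theorem f243298 : Led Lsl_gt (LP (LK LD1_c25 LD2_c55 LD3_c8)) = (LP (LK LD1_c32 LD2_c1 LD3_c49)) :=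
  Lre_g IH (LK LD1_c25 LD2_c55 LD3_c8) (LK LD1_c32 LD2_c1 LD3_c49) Lrfl Lrfl
theorem f251121 : Led Lsl_gt (LP (LK LD1_c15 LD2_c58 LD3_c29)) = (LP (LK LD1_c25 LD2_c55 LD3_c36)) :=
  Lre_g IH (LK LD1_c15 LD2_c58 LD3_c29) (LK LD1_c25 LD2_c55 LD3_c36) Lrfl Lrfl
theorem f331231 : Led Lsl_gt (LP (LK LD1_c25 LD2_c55 LD3_c36)) = (LP (LK LD1_c19 LD2_c36 LD3_c6)) :=
  Lgr Lrot46 (Lpe (f251121 IH) (Lpe (K21.f331213 IH) (Lpr_at (K21.f331220 IH) (Lpn (LP (LK LD1_c19 LD2_c36 LD3_c6))))))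
theorem f341622 : Led Lsl_ct (LP (LK LD1_c32 LD2_c1 LD3_c49)) = (LP (LK LD1_c25 LD2_c55 LD3_c36)) :=
  Lgr Lrot186 (Lpe (f243298 IH) (Lpr_dt (f341619 IH) (Lpe (K23.f341606 IH) (Lpe (K23.f339255 IH) (Lpr_gt (K22.f339150 IH) (Lpr_ct (K21.f250941 IH) (Lpr_dt (K21.f328261 IH) (Lpe (K21.f295813 IH) (Lpe (f331231 IH) (Lpn (LP (LK LD1_c25 LD2_c55 LD3_c36))))))))))))
theorem f285608 : Led Lsl_ct (LP (LK LD1_c10 LD2_c44 LD3_c8)) = (LP (LK LD1_c19 LD2_c25 LD3_c40)) :=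
  Lre_c IH (LK LD1_c10 LD2_c44 LD3_c8) (LK LD1_c19 LD2_c25 LD3_c40) Lrfl Lrfl
theorem f251120 : Led Lsl_dt (LP (LK LD1_c8 LD2_c30 LD3_c25)) = (LP (LK LD1_c15 LD2_c58 LD3_c29)) :=
  Lre_d IH (LK LD1_c8 LD2_c30 LD3_c25) (LK LD1_c15 LD2_c58 LD3_c29) Lrfl Lrfl
theorem f328433 : Led Lsl_df (LP (LK LD1_c19 LD2_c25 LD3_c40)) = (LP (LK LD1_c25 LD2_c55 LD3_c36)) :=
  Lgr Lrot84 (Lpe (f285608 IH) (Lpe (K21.f285603 IH) (Lpe (K21.f285597 IH) (Lpr_df (K18.f245919 IH) (Lpe (K20.f323212 IH) (Lpe (K20.f323179 IH) (Lpr_gt (K21.f328426 IH) (Lpr_dt (f251120 IH) (Lpr_gt (f251121 IH) (Lpn (LP (LK LD1_c25 LD2_c55 LD3_c36))))))))))))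
theorem f328437 : Led Lsl_dt (LP (LK LD1_c19 LD2_c25 LD3_c40)) = (LP (LK LD1_c25 LD2_c55 LD3_c36)) :=
  Lgr Lrot42 (Lpr_df (f328433 IH) (Lpn (LP (LK LD1_c25 LD2_c55 LD3_c36))))
theorem f301439 : Led Lsl_ct (LP (LK LD1_c16 LD2_c0 LD3_c6)) = (LP (LK LD1_c8 LD2_c31 LD3_c28)) :=
  Lre_c IH (LK LD1_c16 LD2_c0 LD3_c6) (LK LD1_c8 LD2_c31 LD3_c28) Lrfl Lrfl
theorem f341626 : Led Lsl_gt (LP (LK LD1_c15 LD2_c41 LD3_c13)) = (LP (LK LD1_c16 LD2_c0 LD3_c6)) :=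
  Lgr Lrot9 (Lpe (K22.f243299 IH) (Lpe (K19.f243289 IH) (Lpr_ct (K20.f243297 IH) (Lpr_gt (f243298 IH) (Lpr_ct (f341622 IH) (Lpe (f328437 IH) (Lpe (f285608 IH) (Lpr_gf (K24.f301445 IH) (Lpe (f301439 IH) (Lpn (LP (LK LD1_c16 LD2_c0 LD3_c6))))))))))))
theorem f337054 : Led Lsl_cf (LP (LK LD1_c15 LD2_c41 LD3_c13)) = (LP (LK LD1_c17 LD2_c41 LD3_c40)) :=
  Lgr Lrot11 (Lpr_ct (K22.f337050 IH) (Lpn (LP (LK LD1_c17 LD2_c41 LD3_c40))))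
theorem f341628 : Led Lsl_gf (LP (LK LD1_c17 LD2_c41 LD3_c40)) = (LP (LK LD1_c19 LD2_c36 LD3_c9)) :=
  Lgr Lrot147 (Lpe (f337054 IH) (Lpr_gt (f341626 IH) (Lpr_ct (f301439 IH) (Lpe (K21.f301440 IH) (Lpe (K22.f295891 IH) (Lpe (K23.f295888 IH) (Lpr_cf (K23.f213799 IH) (Lpe (f213815 IH) (Lpe (f213837 IH) (Lpn (LP (LK LD1_c19 LD2_c36 LD3_c9))))))))))))
theorem f328237 : Led Lsl_ff (LP (LK LD1_c5 LD2_c29 LD3_c40)) = (LP (LK LD1_c8 LD2_c24 LD3_c17)) :=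
  Lgr Lrot19 (Lpr_dt (K21.f168512 IH) (Lpr_ft (K21.f328233 IH) (Lpr_dt (K16.f271054 IH) (Lpn (LP (LK LD1_c8 LD2_c24 LD3_c17))))))
theorem f331263 : Led Lsl_ct (LP (LK LD1_c8 LD2_c18 LD3_c21)) = (LP (LK LD1_c8 LD2_c24 LD3_c17)) :=
  Lgr Lrot40 (Lpr_ff (K21.f331256 IH) (Lpe (K21.f168514 IH) (Lpr_ff (f328237 IH) (Lpn (LP (LK LD1_c8 LD2_c24 LD3_c17))))))
theorem f361684 : Led Lsl_gt (LP (LK LD1_c15 LD2_c38 LD3_c61)) = (LP (LK LD1_c16 LD2_c2 LD3_c27)) :=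
  Lgr Lrot94 (Lpr_cf (f361638 IH) (Lpe (f341628 IH) (Lpe (K22.f337060 IH) (Lpr_gt (K19.f259530 IH) (Lpr_dt (K16.f271054 IH) (Lpe (f331263 IH) (Lpe (K22.f298842 IH) (Lpe (K23.f341545 IH) (Lpe (K23.f295020 IH) (Lpn (LP (LK LD1_c16 LD2_c2 LD3_c27))))))))))))
theorem f283169 : Led Lsl_ct (LP (LK LD1_c16 LD2_c2 LD3_c27)) = (LP (LK LD1_c8 LD2_c32 LD3_c35)) :=
  Lre_c IH (LK LD1_c16 LD2_c2 LD3_c27) (LK LD1_c8 LD2_c32 LD3_c35) Lrfl Lrfl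
theorem f236294 : Led Lsl_ct (LP (LK LD1_c15 LD2_c55 LD3_c25)) = (LP (LK LD1_c8 LD2_c28 LD3_c50)) :=
  Lre_c IH (LK LD1_c15 LD2_c55 LD3_c25) (LK LD1_c8 LD2_c28 LD3_c50) Lrfl Lrfl
theorem f341587 : Led Lsl_ct (LP (LK LD1_c19 LD2_c29 LD3_c4)) = (LP (LK LD1_c25 LD2_c32 LD3_c6)) :=
  Lgr Lrot59 (Lpr_cf (K23.f341583 IH) (Lpn (LP (LK LD1_c25 LD2_c32 LD3_c6))))
theorem f341678 : Led Lsl_gt (LP (LK LD1_c15 LD2_c56 LD3_c26)) = (LP (LK LD1_c15 LD2_c55 LD3_c25)) :=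
  Lgr Lrot9 (Lpr_df (K23.f339205 IH) (Lpe (K25.f339213 IH) (Lpr_ct (f341587 IH) (Lpe (K23.f298810 IH) (Lpr_ct (K18.f236283 IH) (Lpe (K18.f231690 IH) (Lpe (K18.f231613 IH) (Lpe (K17.f231680 IH) (Lpe (f236294 IH) (Lpn (LP (LK LD1_c15 LD2_c55 LD3_c25))))))))))))
theorem f259528 : Led Lsl_gt (LP (LK LD1_c8 LD2_c26 LD3_c27)) = (LP (LK LD1_c15 LD2_c51 LD3_c8)) :=
  Lre_g IH (LK LD1_c8 LD2_c26 LD3_c27) (LK LD1_c15 LD2_c51 LD3_c8) Lrfl Lrfl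
theorem f328247 : Led Lsl_gf (LP (LK LD1_c19 LD2_c35 LD3_c9)) = (LP (LK LD1_c15 LD2_c51 LD3_c8)) :=
  Lgr Lrot76 (Lpe (K23.f328227 IH) (Lpr_ff (K21.f328239 IH) (Lpr_gt (f259528 IH) (Lpn (LP (LK LD1_c15 LD2_c51 LD3_c8))))))
theorem f259529 : Led Lsl_dt (LP (LK LD1_c15 LD2_c51 LD3_c8)) = (LP (LK LD1_c25 LD2_c47 LD3_c2)) :=
  Lre_d IH (LK LD1_c15 LD2_c51 LD3_c8) (LK LD1_c25 LD2_c47 LD3_c2) Lrfl Lrfl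
theorem f361686 : Led Lsl_gt (LP (LK LD1_c25 LD2_c47 LD3_c2)) = (LP (LK LD1_c19 LD2_c36 LD3_c9)) :=
  Lgr Lrot9 (Lpe (f259529 IH) (Lpe (f328247 IH) (Lpe (K23.f328279 IH) (Lpr_gt (f341678 IH) (Lpr_ct (f236294 IH) (Lpe (K17.f283167 IH) (Lpe (f283169 IH) (Lpe (f361684 IH) (Lpr_cf (f361638 IH) (Lpn (LP (LK LD1_c19 LD2_c36 LD3_c9))))))))))))
theorem f250788 : Led Lsl_ft (LP (LK LD1_c10 LD2_c50 LD3_c23)) = (LP (LK LD1_c5 LD2_c29 LD3_c34)) :=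
  Lre_f IH (LK LD1_c10 LD2_c50 LD3_c23) (LK LD1_c5 LD2_c29 LD3_c34) Lrfl Lrfl
theorem f251711 : Led Lsl_df (LP (LK LD1_c5 LD2_c17 LD3_c22)) = (LP (LK LD1_c5 LD2_c29 LD3_c34)) :=
  Lgr Lrot78 (Lpr_ft (K21.f191399 IH) (Lpr_dt (K25.f251709 IH) (Lpr_ft (f250788 IH) (Lpn (LP (LK LD1_c5 LD2_c29 LD3_c34))))))
theorem f191400 : Led Lsl_gt (LP (LK LD1_c5 LD2_c17 LD3_c22)) = (LP (LK LD1_c10 LD2_c24 LD3_c15)) :=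
  Lre_g IH (LK LD1_c5 LD2_c17 LD3_c22) (LK LD1_c10 LD2_c24 LD3_c15) Lrfl Lrfl
theorem f251713 : Led Lsl_dt (LP (LK LD1_c18 LD2_c52 LD3_c36)) = (LP (LK LD1_c10 LD2_c24 LD3_c15)) :=
  Lre_d IH (LK LD1_c18 LD2_c52 LD3_c36) (LK LD1_c10 LD2_c24 LD3_c15) Lrfl Lrfl
theorem f361690 : Led Lsl_ef (LP (LK LD1_c25 LD2_c47 LD3_c2)) = (LP (LK LD1_c18 LD2_c52 LD3_c36)) :=
  Lgr Lrot167 (Lpr_gt (f361686 IH) (Lpr_dt (f213837 IH) (Lpr_gt (f213815 IH) (Lpe (f168506 IH) (Lpr_et (f168508 IH) (Lpr_gt (K14.f168370 IH) (Lpe (K19.f234679 IH) (Lpe (f251711 IH) (Lpr_gt (f191400 IH) (Lpe (f251713 IH) (Lpn (LP (LK LD1_c18 LD2_c52 LD3_c36)))))))))))))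
theorem f361696 : Led Lsl_et (LP (LK LD1_c25 LD2_c47 LD3_c2)) = (LP (LK LD1_c18 LD2_c52 LD3_c36)) :=
  Lgr Lrot87 (Lpr_ef (f361690 IH) (Lpn (LP (LK LD1_c18 LD2_c52 LD3_c36))))
theorem f271069 : Led Lsl_dt (LP (LK LD1_c25 LD2_c47 LD3_c2)) = (LP (LK LD1_c15 LD2_c51 LD3_c8)) :=
  Lre_d IH (LK LD1_c25 LD2_c47 LD3_c2) (LK LD1_c15 LD2_c51 LD3_c8) Lrfl Lrfl
theorem f361700 : Led Lsl_gt (LP (LK LD1_c17 LD2_c42 LD3_c14)) = (LP (LK LD1_c18 LD2_c52 LD3_c36)) :=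
  Lgr Lrot131 (Lpe (K25.f344784 IH) (Lpr_dt (K25.f344782 IH) (Lpe (f355271 IH) (Lpe (K22.f333791 IH) (Lpr_gf (K20.f317591 IH) (Lpe (K21.f317598 IH) (Lpr_dt (K19.f262846 IH) (Lpr_gf (f328247 IH) (Lpe (f271069 IH) (Lpr_et (f361696 IH) (Lpn (LP (LK LD1_c18 LD2_c52 LD3_c36)))))))))))))
theorem f250679 : Led Lsl_gf (LP (LK LD1_c4 LD2_c14 LD3_c5)) = (LP (LK LD1_c4 LD2_c9 LD3_c35)) :=
  Lgr Lrot104 (Lpr_ct (K14.f167364 IH) (Lpe (K13.f220511 IH) (Lpe (K12.f213767 IH) (Lpe (K14.f234659 IH) (Lpe (K14.f53453 IH) (Lpe (K14.f47674 IH) (Lpr_df (K14.f250667 IH) (Lpe (K13.f246281 IH) (Lpr_ct (K13.f53411 IH) (Lpn (LP (LK LD1_c4 LD2_c9 LD3_c35))))))))))))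
theorem f191401 : Led Lsl_dt (LP (LK LD1_c10 LD2_c24 LD3_c15)) = (LP (LK LD1_c18 LD2_c52 LD3_c36)) :=
  Lre_d IH (LK LD1_c10 LD2_c24 LD3_c15) (LK LD1_c18 LD2_c52 LD3_c36) Lrfl Lrfl
theorem f263674 : Led Lsl_bf (LP (LK LD1_c5 LD2_c3 LD3_c2)) = (LP (LK LD1_c5 LD2_c28 LD3_c11)) :=
  Lgr Lrot96 (Lpr_et (K14.f256066 IH) (Lpr_bt (K14.f251725 IH) (Lpr_et (K15.f263672 IH) (Lpn (LP (LK LD1_c5 LD2_c28 LD3_c11))))))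
theorem f322065 : Led Lsl_gf (LP (LK LD1_c4 LD2_c14 LD3_c1)) = (LP (LK LD1_c2 LD2_c58 LD3_c60)) :=
  Lgr Lrot129 (Lpr_cf (K20.f322059 IH) (Lpe (f263674 IH) (Lpr_gt (K14.f193957 IH) (Lpe (K14.f251289 IH) (Lpr_ct (K14.f251291 IH) (Lpr_gt (K15.f260251 IH) (Lpe (K17.f260267 IH) (Lpr_bt (K17.f48255 IH) (Lpr_gt (K17.f282670 IH) (Lpr_ct (K9.f169565 IH) (Lpn (LP (LK LD1_c2 LD2_c58 LD3_c60)))))))))))))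
theorem f221531 : Led Lsl_gt (LP (LK LD1_c8 LD2_c26 LD3_c61)) = (LP (LK LD1_c4 LD2_c14 LD3_c13)) :=
  Lre_g IH (LK LD1_c8 LD2_c26 LD3_c61) (LK LD1_c4 LD2_c14 LD3_c13) Lrfl Lrfl
theorem f223252 : Led Lsl_dt (LP (LK LD1_c15 LD2_c51 LD3_c55)) = (LP (LK LD1_c8 LD2_c26 LD3_c61)) :=
  Lre_d IH (LK LD1_c15 LD2_c51 LD3_c55) (LK LD1_c8 LD2_c26 LD3_c61) Lrfl Lrfl
theorem f322069 : Led Lsl_ef (LP (LK LD1_c10 LD2_c24 LD3_c15)) = (LP (LK LD1_c15 LD2_c51 LD3_c55)) :=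
  Lgr Lrot17 (Lpe (f191400 IH) (Lpe (K19.f190092 IH) (Lpe (K20.f322043 IH) (Lpr_gf (f322065 IH) (Lpe (K9.f169538 IH) (Lpr_gf (K9.f183697 IH) (Lpr_ef (f223246 IH) (Lpr_dt (K25.f189746 IH) (Lpe (f221531 IH) (Lpe (f223252 IH) (Lpn (LP (LK LD1_c15 LD2_c51 LD3_c55)))))))))))))
theorem f322072 : Led Lsl_et (LP (LK LD1_c10 LD2_c24 LD3_c15)) = (LP (LK LD1_c15 LD2_c51 LD3_c55)) :=
  Lgr Lrot87 (Lpr_ef (f322069 IH) (Lpn (LP (LK LD1_c15 LD2_c51 LD3_c55))))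
theorem f361784 : Led Lsl_gf (LP (LK LD1_c9 LD2_c51 LD3_c28)) = (LP (LK LD1_c15 LD2_c51 LD3_c55)) :=
  Lgr Lrot141 (Lpe (K22.f232105 IH) (Lpr_dt (K13.f232103 IH) (Lpe (f250679 IH) (Lpe (K13.f189387 IH) (Lpr_et (K13.f189428 IH) (Lpr_gt (K23.f189435 IH) (Lpr_dt (K23.f344777 IH) (Lpr_gt (f361700 IH) (Lpe (f191401 IH) (Lpr_et (f322072 IH) (Lpn (LP (LK LD1_c15 LD2_c51 LD3_c55)))))))))))))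
theorem f258851 : Led Lsl_ct (LP (LK LD1_c5 LD2_c32 LD3_c29)) = (LP (LK LD1_c2 LD2_c42 LD3_c24)) :=
  Lre_c IH (LK LD1_c5 LD2_c32 LD3_c29) (LK LD1_c2 LD2_c42 LD3_c24) Lrfl Lrfl
theorem f282600 : Led Lsl_ct (LP (LK LD1_c8 LD2_c57 LD3_c58)) = (LP (LK LD1_c4 LD2_c29 LD3_c53)) :=
  Lre_c IH (LK LD1_c8 LD2_c57 LD3_c58) (LK LD1_c4 LD2_c29 LD3_c53) Lrfl Lrfl
theorem f322071 : Led Lsl_dt (LP (LK LD1_c8 LD2_c26 LD3_c61)) = (LP (LK LD1_c15 LD2_c51 LD3_c55)) :=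
  Lre_d IH (LK LD1_c8 LD2_c26 LD3_c61) (LK LD1_c15 LD2_c51 LD3_c55) Lrfl Lrfl
theorem f361788 : Led Lsl_gf (LP (LK LD1_c8 LD2_c57 LD3_c58)) = (LP (LK LD1_c8 LD2_c26 LD3_c59)) :=
  Lgr Lrot104 (Lpr_ct (f282600 IH) (Lpe (K21.f317926 IH) (Lpe (f258851 IH) (Lpe (f359300 IH) (Lpr_cf (K25.f356804 IH) (Lpr_gf (f361784 IH) (Lpe (f322071 IH) (Lpr_gt (f221531 IH) (Lpr_ct (K25.f189747 IH) (Lpn (LP (LK LD1_c8 LD2_c26 LD3_c59))))))))))))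
theorem f282611 : Led Lsl_dt (LP (LK LD1_c8 LD2_c57 LD3_c58)) = (LP (LK LD1_c16 LD2_c46 LD3_c51)) :=
  Lre_d IH (LK LD1_c8 LD2_c57 LD3_c58) (LK LD1_c16 LD2_c46 LD3_c51) Lrfl Lrfl
theorem f282620 : Led Lsl_gt (LP (LK LD1_c16 LD2_c46 LD3_c51)) = (LP (LK LD1_c26 LD2_c45 LD3_c18)) :=
  Lre_g IH (LK LD1_c16 LD2_c46 LD3_c51) (LK LD1_c26 LD2_c45 LD3_c18) Lrfl Lrfl
theorem f223107 : Led Lsl_dt (LP (LK LD1_c15 LD2_c2 LD3_c18)) = (LP (LK LD1_c10 LD2_c20 LD3_c0)) :=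
  Lgr Lrot42 (Lpr_df (f223100 IH) (Lpn (LP (LK LD1_c10 LD2_c20 LD3_c0))))
theorem f223106 : Led Lsl_ct (LP (LK LD1_c18 LD2_c45 LD3_c31)) = (LP (LK LD1_c10 LD2_c20 LD3_c0)) :=
  Lre_c IH (LK LD1_c18 LD2_c45 LD3_c31) (LK LD1_c10 LD2_c20 LD3_c0) Lrfl Lrfl
theorem f361793 : Led Lsl_dt (LP (LK LD1_c26 LD2_c45 LD3_c18)) = (LP (LK LD1_c18 LD2_c45 LD3_c31)) :=
  Lgr Lrot105 (Lpe (f282620 IH) (Lpe (f282611 IH) (Lpr_gf (f361788 IH) (Lpe (K25.f189747 IH) (Lpr_gt (K25.f189757 IH) (Lpe (f355267 IH) (Lpe (f359863 IH) (Lpr_dt (f223107 IH) (Lpe (f223106 IH) (Lpn (LP (LK LD1_c18 LD2_c45 LD3_c31))))))))))))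
theorem f264790 : Led Lsl_dt (LP (LK LD1_c5 LD2_c25 LD3_c57)) = (LP (LK LD1_c10 LD2_c43 LD3_c7)) :=
  Lre_d IH (LK LD1_c5 LD2_c25 LD3_c57) (LK LD1_c10 LD2_c43 LD3_c7) Lrfl Lrfl
theorem f271760 : Led Lsl_dt (LP (LK LD1_c16 LD2_c46 LD3_c54)) = (LP (LK LD1_c8 LD2_c57 LD3_c60)) :=
  Lre_d IH (LK LD1_c16 LD2_c46 LD3_c54) (LK LD1_c8 LD2_c57 LD3_c60) Lrfl Lrfl
theorem f271761 : Led Lsl_ct (LP (LK LD1_c26 LD2_c45 LD3_c23)) = (LP (LK LD1_c16 LD2_c46 LD3_c54)) :=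
  Lre_c IH (LK LD1_c26 LD2_c45 LD3_c23) (LK LD1_c16 LD2_c46 LD3_c54) Lrfl Lrfl
theorem f317922 : Led Lsl_gt (LP (LK LD1_c19 LD2_c46 LD3_c11)) = (LP (LK LD1_c26 LD2_c45 LD3_c23)) :=
  Lgr Lrot150 (Lpr_cf (K20.f258823 IH) (Lpr_gf (K20.f317913 IH) (Lpe (K20.f271758 IH) (Lpr_gt (K25.f271755 IH) (Lpe (K23.f271750 IH) (Lpr_gt (K21.f271759 IH) (Lpr_ct (K25.f264514 IH) (Lpe (f271760 IH) (Lpe (f271761 IH) (Lpn (LP (LK LD1_c26 LD2_c45 LD3_c23))))))))))))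
theorem f264744 : Led Lsl_dt (LP (LK LD1_c19 LD2_c24 LD3_c9)) = (LP (LK LD1_c10 LD2_c43 LD3_c8)) :=
  Lre_d IH (LK LD1_c19 LD2_c24 LD3_c9) (LK LD1_c10 LD2_c43 LD3_c8) Lrfl Lrfl
theorem f264784 : Led Lsl_af (LP (LK LD1_c19 LD2_c24 LD3_c9)) = (LP (LK LD1_c25 LD2_c51 LD3_c27)) :=
  Lgr Lrot117 (Lpr_dt (f264744 IH) (Lpr_at (K15.f264778 IH) (Lpr_dt (K20.f258839 IH) (Lpn (LP (LK LD1_c25 LD2_c51 LD3_c27))))))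
theorem f264797 : Led Lsl_ft (LP (LK LD1_c19 LD2_c24 LD3_c9)) = (LP (LK LD1_c10 LD2_c43 LD3_c7)) :=
  Lre_f IH (LK LD1_c19 LD2_c24 LD3_c9) (LK LD1_c10 LD2_c43 LD3_c7) Lrfl Lrfl
theorem f264798 : Led Lsl_at (LP (LK LD1_c10 LD2_c43 LD3_c7)) = (LP (LK LD1_c15 LD2_c55 LD3_c10)) :=
  Lgr Lrot66 (Lpe (f264797 IH) (Lpr_af (f264784 IH) (Lpe (K20.f258822 IH) (Lpn (LP (LK LD1_c15 LD2_c55 LD3_c10))))))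
theorem f264802 : Led Lsl_af (LP (LK LD1_c19 LD2_c24 LD3_c8)) = (LP (LK LD1_c25 LD2_c51 LD3_c26)) :=
  Lgr Lrot68 (Lpr_ct (K15.f264688 IH) (Lpr_at (f264798 IH) (Lpr_ct (K20.f258791 IH) (Lpn (LP (LK LD1_c25 LD2_c51 LD3_c26))))))
theorem f317924 : Led Lsl_gf (LP (LK LD1_c19 LD2_c24 LD3_c8)) = (LP (LK LD1_c26 LD2_c45 LD3_c23)) :=
  Lgr Lrot76 (Lpr_af (f264802 IH) (Lpe (K20.f258813 IH) (Lpr_gt (f317922 IH) (Lpn (LP (LK LD1_c26 LD2_c45 LD3_c23))))))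
theorem f282501 : Led Lsl_ct (LP (LK LD1_c16 LD2_c46 LD3_c54)) = (LP (LK LD1_c26 LD2_c45 LD3_c23)) :=
  Lre_c IH (LK LD1_c16 LD2_c46 LD3_c54) (LK LD1_c26 LD2_c45 LD3_c23) Lrfl Lrfl
theorem f361803 : Led Lsl_gt (LP (LK LD1_c26 LD2_c45 LD3_c18)) = (LP (LK LD1_c16 LD2_c46 LD3_c54)) :=
  Lgr Lrot146 (Lpr_dt (f361793 IH) (Lpr_gt (f360501 IH) (Lpr_ct (f264707 IH) (Lpr_gt (K23.f264705 IH) (Lpr_ct (K23.f264768 IH) (Lpr_dt (f264790 IH) (Lpe (K15.f264688 IH) (Lpr_gf (f317924 IH) (Lpe (f282501 IH) (Lpn (LP (LK LD1_c16 LD2_c46 LD3_c54))))))))))))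
theorem f361799 : Led Lsl_df (LP (LK LD1_c26 LD2_c45 LD3_c18)) = (LP (LK LD1_c18 LD2_c45 LD3_c31)) :=
  Lgr Lrot38 (Lpr_dt (f361793 IH) (Lpn (LP (LK LD1_c18 LD2_c45 LD3_c31))))
theorem f340849 : Led Lsl_ct (LP (LK LD1_c10 LD2_c43 LD3_c9)) = (LP (LK LD1_c5 LD2_c25 LD3_c58)) :=
  Lre_c IH (LK LD1_c10 LD2_c43 LD3_c9) (LK LD1_c5 LD2_c25 LD3_c58) Lrfl Lrfl
theorem f361808 : Led Lsl_gf (LP (LK LD1_c18 LD2_c45 LD3_c31)) = (LP (LK LD1_c10 LD2_c43 LD3_c9)) :=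
  Lgr Lrot144 (Lpe (f361799 IH) (Lpr_gt (f361803 IH) (Lpr_dt (f271760 IH) (Lpe (K25.f264514 IH) (Lpe (K20.f282495 IH) (Lpe (K20.f213272 IH) (Lpr_df (K23.f258794 IH) (Lpe (K25.f340845 IH) (Lpe (f340849 IH) (Lpn (LP (LK LD1_c10 LD2_c43 LD3_c9))))))))))))
theorem f264708 : Led Lsl_ct (LP (LK LD1_c5 LD2_c25 LD3_c58)) = (LP (LK LD1_c10 LD2_c43 LD3_c9)) :=
  Lre_c IH (LK LD1_c5 LD2_c25 LD3_c58) (LK LD1_c10 LD2_c43 LD3_c9) Lrfl Lrfl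
theorem f258849 : Led Lsl_gt (LP (LK LD1_c5 LD2_c32 LD3_c29)) = (LP (LK LD1_c10 LD2_c56 LD3_c45)) :=
  Lre_g IH (LK LD1_c5 LD2_c32 LD3_c29) (LK LD1_c10 LD2_c56 LD3_c45) Lrfl Lrfl
theorem f361812 : Led Lsl_cf (LP (LK LD1_c15 LD2_c2 LD3_c18)) = (LP (LK LD1_c10 LD2_c56 LD3_c45)) :=
  Lgr Lrot99 (Lpr_df (f223100 IH) (Lpe (f223106 IH) (Lpr_gf (f361808 IH) (Lpe (f264708 IH) (Lpe (K25.f196390 IH) (Lpr_df (K23.f264692 IH) (Lpr_gt (K20.f246295 IH) (Lpr_ct (f258848 IH) (Lpr_gt (f258849 IH) (Lpn (LP (LK LD1_c10 LD2_c56 LD3_c45))))))))))))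
theorem f361819 : Led Lsl_ft (LP (LK LD1_c10 LD2_c23 LD3_c28)) = (LP (LK LD1_c10 LD2_c56 LD3_c45)) :=
  Lgr Lrot4 (Lpe (K23.f218905 IH) (Lpe (f218920 IH) (Lpr_cf (f361812 IH) (Lpn (LP (LK LD1_c10 LD2_c56 LD3_c45))))))
theorem f258850 : Led Lsl_dt (LP (LK LD1_c10 LD2_c56 LD3_c45)) = (LP (LK LD1_c19 LD2_c46 LD3_c15)) :=
  Lre_d IH (LK LD1_c10 LD2_c56 LD3_c45) (LK LD1_c19 LD2_c46 LD3_c15) Lrfl Lrfl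
theorem f361824 : Led Lsl_ff (LP (LK LD1_c18 LD2_c51 LD3_c8)) = (LP (LK LD1_c19 LD2_c46 LD3_c15)) :=
  Lgr Lrot19 (Lpr_dt (K23.f218907 IH) (Lpr_ft (f361819 IH) (Lpr_dt (f258850 IH) (Lpn (LP (LK LD1_c19 LD2_c46 LD3_c15))))))
theorem f247711 : Led Lsl_dt (LP (LK LD1_c25 LD2_c29 LD3_c9)) = (LP (LK LD1_c15 LD2_c35 LD3_c1)) :=
  Lre_d IH (LK LD1_c25 LD2_c29 LD3_c9) (LK LD1_c15 LD2_c35 LD3_c1) Lrfl Lrfl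
theorem f330380 : Led Lsl_bf (LP (LK LD1_c5 LD2_c26 LD3_c46)) = (LP (LK LD1_c8 LD2_c6 LD3_c58)) :=
  Lgr Lrot96 (Lpr_et (K22.f259346 IH) (Lpr_bt (K23.f330374 IH) (Lpr_et (K20.f194756 IH) (Lpn (LP (LK LD1_c8 LD2_c6 LD3_c58))))))
theorem f330382 : Led Lsl_bt (LP (LK LD1_c5 LD2_c26 LD3_c46)) = (LP (LK LD1_c8 LD2_c6 LD3_c58)) :=
  Lgr Lrot127 (Lpr_bf (f330380 IH) (Lpn (LP (LK LD1_c8 LD2_c6 LD3_c58))))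
theorem f330384 : Led Lsl_ct (LP (LK LD1_c5 LD2_c26 LD3_c46)) = (LP (LK LD1_c10 LD2_c44 LD3_c43)) :=
  Lre_c IH (LK LD1_c5 LD2_c26 LD3_c46) (LK LD1_c10 LD2_c44 LD3_c43) Lrfl Lrfl
theorem f353077 : Led Lsl_gf (LP (LK LD1_c10 LD2_c44 LD3_c43)) = (LP (LK LD1_c8 LD2_c15 LD3_c27)) :=
  Lgr Lrot126 (Lpe (f330384 IH) (Lpr_bt (f330382 IH) (Lpr_gt (K20.f320925 IH) (Lpe (K25.f346435 IH) (Lpr_gt (f346446 IH) (Lpe (K25.f189374 IH) (Lpr_bt (K25.f315613 IH) (Lpr_gt (K25.f339858 IH) (Lpe (K24.f187703 IH) (Lpr_ct (K25.f353070 IH) (Lpn (LP (LK LD1_c8 LD2_c15 LD3_c27)))))))))))))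
theorem f335491 : Led Lsl_dt (LP (LK LD1_c10 LD2_c44 LD3_c43)) = (LP (LK LD1_c19 LD2_c26 LD3_c13)) :=
  Lre_d IH (LK LD1_c10 LD2_c44 LD3_c43) (LK LD1_c19 LD2_c26 LD3_c13) Lrfl Lrfl
theorem f355555 : Led Lsl_gf (LP (LK LD1_c25 LD2_c29 LD3_c9)) = (LP (LK LD1_c19 LD2_c26 LD3_c13)) :=
  Lgr Lrot143 (Lpr_dt (f247711 IH) (Lpe (K25.f247706 IH) (Lpe (K20.f247702 IH) (Lpe (K25.f355544 IH) (Lpr_df (K25.f355546 IH) (Lpe (K25.f187692 IH) (Lpr_cf (K25.f194375 IH) (Lpe (f353077 IH) (Lpr_dt (f335491 IH) (Lpn (LP (LK LD1_c19 LD2_c26 LD3_c13))))))))))))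
theorem f53483 : Led Lsl_dt (LP (LK LD1_c4 LD2_c7 LD3_c42)) = (LP (LK LD1_c8 LD2_c15 LD3_c26)) :=
  Lre_d IH (LK LD1_c4 LD2_c7 LD3_c42) (LK LD1_c8 LD2_c15 LD3_c26) Lrfl Lrfl
theorem f191490 : Led Lsl_cf (LP (LK LD1_c8 LD2_c15 LD3_c26)) = (LP (LK LD1_c5 LD2_c18 LD3_c2)) :=
  Lgr Lrot14 (Lpe (f53483 IH) (Lpr_gf (K11.f53481 IH) (Lpe (K9.f49635 IH) (Lpe (K10.f49674 IH) (Lpr_ct (K10.f191461 IH) (Lpr_gt (K10.f48408 IH) (Lpr_dt (K10.f48401 IH) (Lpr_gt (K13.f48270 IH) (Lpr_dt (K17.f48934 IH) (Lpn (LP (LK LD1_c5 LD2_c18 LD3_c2))))))))))))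
theorem f191497 : Led Lsl_ct (LP (LK LD1_c8 LD2_c15 LD3_c26)) = (LP (LK LD1_c5 LD2_c18 LD3_c2)) :=
  Lgr Lrot59 (Lpr_cf (f191490 IH) (Lpn (LP (LK LD1_c5 LD2_c18 LD3_c2))))
theorem f284880 : Led Lsl_gt (LP (LK LD1_c10 LD2_c47 LD3_c41)) = (LP (LK LD1_c8 LD2_c15 LD3_c26)) :=
  Lgr Lrot150 (Lpr_cf (K17.f284858 IH) (Lpe (K17.f273653 IH) (Lpe (K16.f197033 IH) (Lpr_gt (K12.f197031 IH) (Lpr_ct (K12.f44976 IH) (Lpr_gt (K13.f45010 IH) (Lpr_ct (K20.f191045 IH) (Lpe (K17.f50788 IH) (Lpe (f191497 IH) (Lpn (LP (LK LD1_c8 LD2_c15 LD3_c26))))))))))))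
theorem f236193 : Led Lsl_et (LP (LK LD1_c5 LD2_c28 LD3_c18)) = (LP (LK LD1_c5 LD2_c30 LD3_c13)) :=
  Lgr Lrot158 (Lpe (K15.f236144 IH) (Lpr_ef (K13.f236188 IH) (Lpe (f236192 IH) (Lpn (LP (LK LD1_c5 LD2_c30 LD3_c13))))))
theorem f355559 : Led Lsl_et (LP (LK LD1_c15 LD2_c35 LD3_c1)) = (LP (LK LD1_c10 LD2_c51 LD3_c46)) :=
  Lgr Lrot185 (Lpr_dt (K25.f247707 IH) (Lpr_gf (f355555 IH) (Lpe (f335491 IH) (Lpr_gf (f353077 IH) (Lpe (K25.f191344 IH) (Lpr_dt (f53483 IH) (Lpe (f284880 IH) (Lpe (K17.f259337 IH) (Lpr_et (f236193 IH) (Lpe (K23.f347293 IH) (Lpn (LP (LK LD1_c10 LD2_c51 LD3_c46)))))))))))))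
theorem f247710 : Led Lsl_ct (LP (LK LD1_c15 LD2_c35 LD3_c1)) = (LP (LK LD1_c8 LD2_c17 LD3_c16)) :=
  Lre_c IH (LK LD1_c15 LD2_c35 LD3_c1) (LK LD1_c8 LD2_c17 LD3_c16) Lrfl Lrfl
theorem f351479 : Led Lsl_at (LP (LK LD1_c19 LD2_c31 LD3_c5)) = (LP (LK LD1_c15 LD2_c35 LD3_c1)) :=
  Lgr Lrot107 (Lpr_cf (K25.f351477 IH) (Lpr_af (K20.f317481 IH) (Lpe (f247710 IH) (Lpn (LP (LK LD1_c15 LD2_c35 LD3_c1))))))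
theorem f355561 : Led Lsl_ef (LP (LK LD1_c19 LD2_c31 LD3_c5)) = (LP (LK LD1_c15 LD2_c36 LD3_c48)) :=
  Lgr Lrot20 (Lpr_at (f351479 IH) (Lpr_et (f355559 IH) (Lpr_at (f347280 IH) (Lpn (LP (LK LD1_c15 LD2_c36 LD3_c48))))))
theorem f42366 : Led Lsl_dt (LP (LK LD1_c8 LD2_c53 LD3_c48)) = (LP (LK LD1_c16 LD2_c38 LD3_c23)) :=
  Lre_d IH (LK LD1_c8 LD2_c53 LD3_c48) (LK LD1_c16 LD2_c38 LD3_c23) Lrfl Lrfl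
theorem f339450 : Led Lsl_dt (LP (LK LD1_c11 LD2_c53 LD3_c57)) = (LP (LK LD1_c6 LD2_c5 LD3_c14)) :=
  Lre_d IH (LK LD1_c11 LD2_c53 LD3_c57) (LK LD1_c6 LD2_c5 LD3_c14) Lrfl Lrfl
theorem f357768 : Led Lsl_gt (LP (LK LD1_c16 LD2_c38 LD3_c23)) = (LP (LK LD1_c11 LD2_c53 LD3_c57)) :=
  Lgr Lrot49 (Lpe (f42366 IH) (Lpr_gf (f357766 IH) (Lpe (K25.f187200 IH) (Lpr_gt (K25.f351497 IH) (Lpe (f357720 IH) (Lpe (f357718 IH) (Lpr_dt (K25.f187264 IH) (Lpe (K25.f187483 IH) (Lpe (f339450 IH) (Lpn (LP (LK LD1_c11 LD2_c53 LD3_c57))))))))))))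
theorem f357634 : Led Lsl_ct (LP (LK LD1_c28 LD2_c39 LD3_c38)) = (LP (LK LD1_c19 LD2_c14 LD3_c6)) :=
  Lgr Lrot7 (Lpe (f345464 IH) (Lpe (f352459 IH) (Lpr_df (f356602 IH) (Lpe (f356636 IH) (Lpe (K25.f42396 IH) (Lpr_gt (K25.f316544 IH) (Lpr_dt (K17.f284396 IH) (Lpr_gt (K25.f350632 IH) (Lpr_dt (f357625 IH) (Lpn (LP (LK LD1_c19 LD2_c14 LD3_c6))))))))))))
theorem f324862 : Led Lsl_ct (LP (LK LD1_c11 LD2_c53 LD3_c57)) = (LP (LK LD1_c20 LD2_c57 LD3_c57)) :=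
  Lre_c IH (LK LD1_c11 LD2_c53 LD3_c57) (LK LD1_c20 LD2_c57 LD3_c57) Lrfl Lrfl
theorem f357799 : Led Lsl_gf (LP (LK LD1_c28 LD2_c39 LD3_c38)) = (LP (LK LD1_c20 LD2_c57 LD3_c57)) :=
  Lgr Lrot104 (Lpr_ct (f357634 IH) (Lpe (f357625 IH) (Lpe (K24.f189230 IH) (Lpe (K25.f350655 IH) (Lpr_cf (K25.f356567 IH) (Lpe (K25.f42379 IH) (Lpe (K25.f42370 IH) (Lpr_gt (f357768 IH) (Lpr_ct (f324862 IH) (Lpn (LP (LK LD1_c20 LD2_c57 LD3_c57))))))))))))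
theorem f357632 : Led Lsl_gf (LP (LK LD1_c20 LD2_c57 LD3_c20)) = (LP (LK LD1_c19 LD2_c14 LD3_c6)) :=
  Lgr Lrot143 (Lpr_dt (K25.f42433 IH) (Lpe (K25.f42426 IH) (Lpe (K15.f42281 IH) (Lpr_gf (f330464 IH) (Lpe (K23.f42541 IH) (Lpr_gf (K23.f343820 IH) (Lpe (K17.f284189 IH) (Lpr_gt (K25.f350632 IH) (Lpr_dt (f357625 IH) (Lpn (LP (LK LD1_c19 LD2_c14 LD3_c6))))))))))))
theorem f254351 : Led Lsl_gt (LP (LK LD1_c10 LD2_c36 LD3_c53)) = (LP (LK LD1_c5 LD2_c23 LD3_c9)) :=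
  Lre_g IH (LK LD1_c10 LD2_c36 LD3_c53) (LK LD1_c5 LD2_c23 LD3_c9) Lrfl Lrfl
theorem f311236 : Led Lsl_ct (LP (LK LD1_c19 LD2_c13 LD3_c38)) = (LP (LK LD1_c10 LD2_c36 LD3_c53)) :=
  Lre_c IH (LK LD1_c19 LD2_c13 LD3_c38) (LK LD1_c10 LD2_c36 LD3_c53) Lrfl Lrfl
theorem f352473 : Led Lsl_gt (LP (LK LD1_c19 LD2_c13 LD3_c35)) = (LP (LK LD1_c28 LD2_c39 LD3_c41)) :=
  Lre_g IH (LK LD1_c19 LD2_c13 LD3_c35) (LK LD1_c28 LD2_c39 LD3_c41) Lrfl Lrfl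
theorem f357805 : Led Lsl_dt (LP (LK LD1_c28 LD2_c39 LD3_c41)) = (LP (LK LD1_c20 LD2_c57 LD3_c57)) :=
  Lgr Lrot57 (Lpe (f352473 IH) (Lpe (K25.f352472 IH) (Lpr_gt (K25.f356517 IH) (Lpr_dt (K25.f42424 IH) (Lpr_gt (f345452 IH) (Lpr_dt (f345442 IH) (Lpe (K25.f345446 IH) (Lpe (f345454 IH) (Lpr_gf (f357799 IH) (Lpn (LP (LK LD1_c20 LD2_c57 LD3_c57))))))))))))
theorem f357807 : Led Lsl_gf (LP (LK LD1_c19 LD2_c13 LD3_c38)) = (LP (LK LD1_c28 LD2_c39 LD3_c41)) :=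
  Lgr Lrot147 (Lpr_ct (f311236 IH) (Lpr_gt (f254351 IH) (Lpr_ct (K25.f311019 IH) (Lpe (K25.f311022 IH) (Lpr_cf (K25.f311182 IH) (Lpr_gf (f357632 IH) (Lpe (f357634 IH) (Lpr_gf (f357799 IH) (Lpe (f357805 IH) (Lpn (LP (LK LD1_c28 LD2_c39 LD3_c41))))))))))))
theorem f357809 : Led Lsl_df (LP (LK LD1_c28 LD2_c39 LD3_c41)) = (LP (LK LD1_c20 LD2_c57 LD3_c57)) :=
  Lgr Lrot155 (Lpe (f357807 IH) (Lpr_ct (f311236 IH) (Lpr_gt (f254351 IH) (Lpr_ct (K25.f311019 IH) (Lpr_dt (K25.f311077 IH) (Lpr_cf (K25.f311182 IH) (Lpr_gf (f357632 IH) (Lpe (f357634 IH) (Lpr_gf (f357799 IH) (Lpn (LP (LK LD1_c20 LD2_c57 LD3_c57))))))))))))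
theorem f191897 : Led Lsl_dt (LP (LK LD1_c6 LD2_c5 LD3_c14)) = (LP (LK LD1_c11 LD2_c53 LD3_c57)) :=
  Lre_d IH (LK LD1_c6 LD2_c5 LD3_c14) (LK LD1_c11 LD2_c53 LD3_c57) Lrfl Lrfl
theorem f356742 : Led Lsl_gf (LP (LK LD1_c16 LD2_c38 LD3_c24)) = (LP (LK LD1_c11 LD2_c53 LD3_c57)) :=
  Lgr Lrot143 (Lpr_dt (K25.f321484 IH) (Lpe (K25.f321483 IH) (Lpr_df (K25.f356695 IH) (Lpr_gf (K25.f356736 IH) (Lpr_df (K15.f42149 IH) (Lpe (K25.f42287 IH) (Lpe (K25.f42288 IH) (Lpe (K25.f345355 IH) (Lpr_dt (f191897 IH) (Lpn (LP (LK LD1_c11 LD2_c53 LD3_c57))))))))))))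
theorem f339451 : Led Lsl_ct (LP (LK LD1_c20 LD2_c57 LD3_c57)) = (LP (LK LD1_c11 LD2_c53 LD3_c57)) :=
  Lre_c IH (LK LD1_c20 LD2_c57 LD3_c57) (LK LD1_c11 LD2_c53 LD3_c57) Lrfl Lrfl
theorem f357681 : Led Lsl_gf (LP (LK LD1_c20 LD2_c57 LD3_c57)) = (LP (LK LD1_c28 LD2_c39 LD3_c30)) :=
  Lgr Lrot179 (Lpr_ct (f339451 IH) (Lpe (f356742 IH) (Lpr_ct (K25.f321492 IH) (Lpr_dt (f357671 IH) (Lpe (f42383 IH) (Lpe (f357664 IH) (Lpe (K22.f187686 IH) (Lpr_gf (K25.f352429 IH) (Lpr_dt (K25.f352444 IH) (Lpn (LP (LK LD1_c28 LD2_c39 LD3_c30))))))))))))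
theorem f336838 : Led Lsl_at (LP (LK LD1_c10 LD2_c34 LD3_c30)) = (LP (LK LD1_c19 LD2_c2 LD3_c61)) :=
  Lgr Lrot100 (Lpr_af (K22.f336834 IH) (Lpn (LP (LK LD1_c19 LD2_c2 LD3_c61))))
theorem f215964 : Led Lsl_ft (LP (LK LD1_c19 LD2_c9 LD3_c29)) = (LP (LK LD1_c10 LD2_c34 LD3_c30)) :=
  Lre_f IH (LK LD1_c19 LD2_c9 LD3_c29) (LK LD1_c10 LD2_c34 LD3_c30) Lrfl Lrfl
theorem f357710 : Led Lsl_gt (LP (LK LD1_c19 LD2_c9 LD3_c29)) = (LP (LK LD1_c16 LD2_c43 LD3_c61)) :=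
  Lgr Lrot5 (Lpr_ft (f215964 IH) (Lpr_at (f336838 IH) (Lpr_gf (f357697 IH) (Lpn (LP (LK LD1_c16 LD2_c43 LD3_c61))))))
theorem f264574 : Led Lsl_dt (LP (LK LD1_c16 LD2_c43 LD3_c61)) = (LP (LK LD1_c8 LD2_c56 LD3_c21)) :=
  Lre_d IH (LK LD1_c16 LD2_c43 LD3_c61) (LK LD1_c8 LD2_c56 LD3_c21) Lrfl Lrfl
theorem f264581 : Led Lsl_gt (LP (LK LD1_c8 LD2_c56 LD3_c21)) = (LP (LK LD1_c16 LD2_c43 LD3_c60)) :=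
  Lre_g IH (LK LD1_c8 LD2_c56 LD3_c21) (LK LD1_c16 LD2_c43 LD3_c60) Lrfl Lrfl
theorem f264582 : Led Lsl_dt (LP (LK LD1_c16 LD2_c43 LD3_c60)) = (LP (LK LD1_c26 LD2_c42 LD3_c38)) :=
  Lre_d IH (LK LD1_c16 LD2_c43 LD3_c60) (LK LD1_c26 LD2_c42 LD3_c38) Lrfl Lrfl
theorem f357815 : Led Lsl_cf (LP (LK LD1_c28 LD2_c39 LD3_c41)) = (LP (LK LD1_c26 LD2_c42 LD3_c38)) :=
  Lgr Lrot14 (Lpr_df (f357809 IH) (Lpr_gf (f357681 IH) (Lpe (K25.f352444 IH) (Lpe (K25.f352441 IH) (Lpr_ct (K25.f215959 IH) (Lpr_gt (f357710 IH) (Lpr_dt (f264574 IH) (Lpr_gt (f264581 IH) (Lpr_dt (f264582 IH) (Lpn (LP (LK LD1_c26 LD2_c42 LD3_c38))))))))))))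
theorem f321466 : Led Lsl_ct (LP (LK LD1_c26 LD2_c36 LD3_c15)) = (LP (LK LD1_c16 LD2_c38 LD3_c17)) :=
  Lre_c IH (LK LD1_c26 LD2_c36 LD3_c15) (LK LD1_c16 LD2_c38 LD3_c17) Lrfl Lrfl
theorem f357813 : Led Lsl_dt (LP (LK LD1_c19 LD2_c13 LD3_c38)) = (LP (LK LD1_c26 LD2_c36 LD3_c15)) :=
  Lgr Lrot105 (Lpr_gf (f357807 IH) (Lpr_df (f357809 IH) (Lpr_gf (f357681 IH) (Lpe (f352450 IH) (Lpr_gt (K25.f190216 IH) (Lpr_dt (K25.f213521 IH) (Lpr_gt (K25.f182895 IH) (Lpe (K25.f329675 IH) (Lpe (f321466 IH) (Lpn (LP (LK LD1_c26 LD2_c36 LD3_c15))))))))))))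
theorem f356607 : Led Lsl_ft (LP (LK LD1_c27 LD2_c35 LD3_c58)) = (LP (LK LD1_c32 LD2_c12 LD3_c35)) :=
  Lgr Lrot54 (Lpe (K23.f343838 IH) (Lpr_ff (K23.f343860 IH) (Lpr_df (f356602 IH) (Lpn (LP (LK LD1_c32 LD2_c12 LD3_c35))))))
theorem f356192 : Led Lsl_gt (LP (LK LD1_c27 LD2_c35 LD3_c58)) = (LP (LK LD1_c26 LD2_c36 LD3_c15)) :=
  Lgr Lrot150 (Lpe (K23.f213934 IH) (Lpr_gf (f355369 IH) (Lpe (K25.f345361 IH) (Lpe (K25.f345355 IH) (Lpr_ct (K25.f187483 IH) (Lpr_gt (K25.f352155 IH) (Lpr_ct (K25.f356041 IH) (Lpe (K25.f329690 IH) (Lpe (f321466 IH) (Lpn (LP (LK LD1_c26 LD2_c36 LD3_c15))))))))))))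
theorem f356610 : Led Lsl_af (LP (LK LD1_c28 LD2_c35 LD3_c18)) = (LP (LK LD1_c32 LD2_c12 LD3_c35)) :=
  Lgr Lrot45 (Lpr_ft (K25.f343889 IH) (Lpe (K23.f343868 IH) (Lpr_ft (f356607 IH) (Lpn (LP (LK LD1_c32 LD2_c12 LD3_c35))))))
theorem f356612 : Led Lsl_gt (LP (LK LD1_c26 LD2_c36 LD3_c15)) = (LP (LK LD1_c28 LD2_c35 LD3_c18)) :=
  Lgr Lrot46 (Lpe (f356192 IH) (Lpr_ft (f356607 IH) (Lpe (f356610 IH) (Lpn (LP (LK LD1_c28 LD2_c35 LD3_c18))))))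
theorem f357822 : Led Lsl_gf (LP (LK LD1_c19 LD2_c8 LD3_c47)) = (LP (LK LD1_c26 LD2_c42 LD3_c38)) :=
  Lgr Lrot144 (Lpr_dt (K25.f345354 IH) (Lpr_gt (K25.f345395 IH) (Lpr_dt (K23.f215443 IH) (Lpe (K25.f215940 IH) (Lpe (K25.f215941 IH) (Lpe (f356612 IH) (Lpe (f357813 IH) (Lpr_gf (f357807 IH) (Lpr_cf (f357815 IH) (Lpn (LP (LK LD1_c26 LD2_c42 LD3_c38))))))))))))
theorem f345414 : Led Lsl_ct (LP (LK LD1_c19 LD2_c8 LD3_c47)) = (LP (LK LD1_c28 LD2_c30 LD3_c8)) :=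
  Lgr Lrot59 (Lpr_cf (K25.f345397 IH) (Lpn (LP (LK LD1_c28 LD2_c30 LD3_c8))))
theorem f357827 : Led Lsl_gf (LP (LK LD1_c10 LD2_c31 LD3_c9)) = (LP (LK LD1_c16 LD2_c43 LD3_c60)) :=
  Lgr Lrot147 (Lpr_ct (K25.f42367 IH) (Lpr_gt (K21.f42296 IH) (Lpr_ct (K25.f42270 IH) (Lpe (K19.f42285 IH) (Lpe (K25.f42463 IH) (Lpe (K25.f310995 IH) (Lpe (f345414 IH) (Lpr_gf (f357822 IH) (Lpe (f264582 IH) (Lpn (LP (LK LD1_c16 LD2_c43 LD3_c60))))))))))))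
theorem f42382 : Led Lsl_dt (LP (LK LD1_c10 LD2_c31 LD3_c9)) = (LP (LK LD1_c19 LD2_c3 LD3_c58)) :=
  Lre_d IH (LK LD1_c10 LD2_c31 LD3_c9) (LK LD1_c19 LD2_c3 LD3_c58) Lrfl Lrfl
theorem f352489 : Led Lsl_gt (LP (LK LD1_c19 LD2_c3 LD3_c58)) = (LP (LK LD1_c19 LD2_c9 LD3_c29)) :=
  Lgr Lrot9 (Lpe (f42382 IH) (Lpe (K25.f316535 IH) (Lpr_ct (K22.f187273 IH) (Lpr_gt (K24.f350659 IH) (Lpr_ct (K25.f352465 IH) (Lpe (K25.f199057 IH) (Lpe (K25.f199055 IH) (Lpe (K25.f352441 IH) (Lpe (K22.f215957 IH) (Lpn (LP (LK LD1_c19 LD2_c9 LD3_c29))))))))))))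
theorem f356654 : Led Lsl_dt (LP (LK LD1_c28 LD2_c39 LD3_c42)) = (LP (LK LD1_c32 LD2_c12 LD3_c38)) :=
  Lgr Lrot6 (Lpr_gt (K25.f356486 IH) (Lpr_ct (K25.f356483 IH) (Lpr_gt (K25.f356517 IH) (Lpr_ct (K25.f42441 IH) (Lpe (K25.f311156 IH) (Lpe (K25.f213523 IH) (Lpe (K25.f190216 IH) (Lpr_cf (K25.f352452 IH) (Lpr_gf (K25.f356650 IH) (Lpn (LP (LK LD1_c32 LD2_c12 LD3_c38))))))))))))
theorem f357818 : Led Lsl_ct (LP (LK LD1_c9 LD2_c41 LD3_c12)) = (LP (LK LD1_c16 LD2_c43 LD3_c60)) :=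
  Lgr Lrot176 (Lpe (K12.f214039 IH) (Lpe (K23.f343673 IH) (Lpr_df (K25.f356664 IH) (Lpe (K25.f356649 IH) (Lpe (f356654 IH) (Lpr_cf (K25.f356499 IH) (Lpe (K22.f187263 IH) (Lpe (K25.f187262 IH) (Lpr_df (K10.f187256 IH) (Lpe (K25.f187483 IH) (Lpe (f339450 IH) (Lpe (f339451 IH) (Lpe (f357805 IH) (Lpr_cf (f357815 IH) (Lpe (f264582 IH) (Lpn (LP (LK LD1_c16 LD2_c43 LD3_c60))))))))))))))))))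
theorem f357830 : Led Lsl_gf (LP (LK LD1_c10 LD2_c36 LD3_c49)) = (LP (LK LD1_c9 LD2_c41 LD3_c12)) :=
  Lgr Lrot144 (Lpr_dt (f357660 IH) (Lpe (K25.f351495 IH) (Lpe (K13.f213939 IH) (Lpe (K25.f215954 IH) (Lpe (K25.f215958 IH) (Lpe (f352489 IH) (Lpe (f42382 IH) (Lpr_gf (f357827 IH) (Lpe (f357818 IH) (Lpn (LP (LK LD1_c9 LD2_c41 LD3_c12))))))))))))
theorem f357986 : Led Lsl_gt (LP (LK LD1_c10 LD2_c47 LD3_c35)) = (LP (LK LD1_c19 LD2_c31 LD3_c5)) :=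
  Lgr Lrot65 (Lpe (K25.f282963 IH) (Lpr_bt (K25.f352746 IH) (Lpe (K25.f182158 IH) (Lpe (K25.f310743 IH) (Lpr_ct (K25.f199047 IH) (Lpe (K25.f217747 IH) (Lpe (f345456 IH) (Lpr_gf (f357830 IH) (Lpe (K25.f214037 IH) (Lpe (K25.f351477 IH) (Lpn (LP (LK LD1_c19 LD2_c31 LD3_c5)))))))))))))
theorem f360869 : Led Lsl_gf (LP (LK LD1_c25 LD2_c5 LD3_c3)) = (LP (LK LD1_c19 LD2_c46 LD3_c15)) :=
  Lgr Lrot134 (Lpe (K25.f356790 IH) (Lpe (K25.f283072 IH) (Lpr_gt (f357986 IH) (Lpr_ef (f355561 IH) (Lpr_dt (f317566 IH) (Lpr_gt (f360741 IH) (Lpe (f348321 IH) (Lpr_et (f359308 IH) (Lpr_gt (f258849 IH) (Lpr_dt (f258850 IH) (Lpn (LP (LK LD1_c19 LD2_c46 LD3_c15)))))))))))))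
theorem f361839 : Led Lsl_at (LP (LK LD1_c18 LD2_c51 LD3_c8)) = (LP (LK LD1_c15 LD2_c15 LD3_c37)) :=
  Lgr Lrot26 (Lpr_ff (f361824 IH) (Lpe (f360869 IH) (Lpr_gt (K25.f50207 IH) (Lpn (LP (LK LD1_c15 LD2_c15 LD3_c37))))))
theorem f361845 : Led Lsl_af (LP (LK LD1_c10 LD2_c23 LD3_c28)) = (LP (LK LD1_c8 LD2_c6 LD3_c19)) :=
  Lgr Lrot117 (Lpr_dt (K23.f49350 IH) (Lpr_at (f361839 IH) (Lpr_dt (K25.f348308 IH) (Lpn (LP (LK LD1_c8 LD2_c6 LD3_c19))))))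
theorem f361849 : Led Lsl_at (LP (LK LD1_c5 LD2_c16 LD3_c57)) = (LP (LK LD1_c4 LD2_c2 LD3_c52)) :=
  Lgr Lrot80 (Lpe (K23.f49349 IH) (Lpr_af (f361845 IH) (Lpe (f348310 IH) (Lpn (LP (LK LD1_c4 LD2_c2 LD3_c52))))))
theorem f361857 : Led Lsl_ff (LP (LK LD1_c5 LD2_c16 LD3_c57)) = (LP (LK LD1_c4 LD2_c2 LD3_c51)) :=
  Lgr Lrot52 (Lpr_at (f361849 IH) (Lpe (K14.f216895 IH) (Lpr_gf (K13.f216876 IH) (Lpn (LP (LK LD1_c4 LD2_c2 LD3_c51))))))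
theorem f361867 : Led Lsl_ft (LP (LK LD1_c5 LD2_c16 LD3_c57)) = (LP (LK LD1_c4 LD2_c2 LD3_c51)) :=
  Lgr Lrot48 (Lpr_ff (f361857 IH) (Lpn (LP (LK LD1_c4 LD2_c2 LD3_c51))))
theorem f361877 : Led Lsl_af (LP (LK LD1_c5 LD2_c16 LD3_c56)) = (LP (LK LD1_c4 LD2_c2 LD3_c51)) :=
  Lgr Lrot31 (Lpe (K12.f49352 IH) (Lpe (K12.f49348 IH) (Lpr_ft (f361867 IH) (Lpn (LP (LK LD1_c4 LD2_c2 LD3_c51))))))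
theorem f361851 : Led Lsl_af (LP (LK LD1_c5 LD2_c16 LD3_c57)) = (LP (LK LD1_c4 LD2_c2 LD3_c52)) :=
  Lgr Lrot0 (Lpr_at (f361849 IH) (Lpn (LP (LK LD1_c4 LD2_c2 LD3_c52))))
theorem f361890 : Led Lsl_ft (LP (LK LD1_c5 LD2_c16 LD3_c56)) = (LP (LK LD1_c4 LD2_c2 LD3_c52)) :=
  Lgr Lrot101 (Lpr_af (f361877 IH) (Lpe (f361867 IH) (Lpr_af (f361851 IH) (Lpn (LP (LK LD1_c4 LD2_c2 LD3_c52))))))
theorem f361897 : Led Lsl_ff (LP (LK LD1_c5 LD2_c16 LD3_c56)) = (LP (LK LD1_c4 LD2_c2 LD3_c52)) :=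
  Lgr Lrot3 (Lpr_ft (f361890 IH) (Lpn (LP (LK LD1_c4 LD2_c2 LD3_c52))))
theorem f361903 : Led Lsl_ft (LP (LK LD1_c10 LD2_c23 LD3_c24)) = (LP (LK LD1_c8 LD2_c6 LD3_c18)) :=
  Lgr Lrot54 (Lpe (K15.f49355 IH) (Lpr_ff (f361897 IH) (Lpe (K14.f213210 IH) (Lpn (LP (LK LD1_c8 LD2_c6 LD3_c18))))))
theorem f234338 : Led Lsl_ct (LP (LK LD1_c8 LD2_c6 LD3_c18)) = (LP (LK LD1_c4 LD2_c9 LD3_c21)) :=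
  Lgr Lrot7 (Lpe (K14.f213209 IH) (Lpe (K14.f216895 IH) (Lpr_df (K12.f216889 IH) (Lpe (K13.f50518 IH) (Lpe (K15.f233916 IH) (Lpr_gt (K14.f234330 IH) (Lpe (K12.f222746 IH) (Lpr_gt (K12.f222743 IH) (Lpr_dt (K14.f190855 IH) (Lpn (LP (LK LD1_c4 LD2_c9 LD3_c21))))))))))))
theorem f361908 : Led Lsl_ff (LP (LK LD1_c8 LD2_c16 LD3_c44)) = (LP (LK LD1_c4 LD2_c9 LD3_c21)) :=
  Lgr Lrot23 (Lpe (K15.f234657 IH) (Lpr_ft (f361903 IH) (Lpr_ct (f234338 IH) (Lpn (LP (LK LD1_c4 LD2_c9 LD3_c21))))))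
theorem f361916 : Led Lsl_at (LP (LK LD1_c8 LD2_c16 LD3_c44)) = (LP (LK LD1_c4 LD2_c9 LD3_c33)) :=
  Lgr Lrot26 (Lpr_ff (f361908 IH) (Lpr_gt (K14.f222816 IH) (Lpr_gt (K14.f254718 IH) (Lpn (LP (LK LD1_c4 LD2_c9 LD3_c33))))))
theorem f361924 : Led Lsl_af (LP (LK LD1_c4 LD2_c8 LD3_c20)) = (LP (LK LD1_c2 LD2_c2 LD3_c3)) :=
  Lgr Lrot117 (Lpr_dt (K15.f47541 IH) (Lpr_at (f361916 IH) (Lpr_dt (K14.f222788 IH) (Lpn (LP (LK LD1_c2 LD2_c2 LD3_c3))))))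
theorem f361949 : Led Lsl_ft (LP (LK LD1_c4 LD2_c8 LD3_c18)) = (LP (LK LD1_c2 LD2_c2 LD3_c3)) :=
  Lgr Lrot2 (Lpe (K12.f222246 IH) (Lpr_gt (K13.f223028 IH) (Lpr_af (f361924 IH) (Lpn (LP (LK LD1_c2 LD2_c2 LD3_c3))))))
theorem f361963 : Led Lsl_ff (LP (LK LD1_c4 LD2_c8 LD3_c18)) = (LP (LK LD1_c2 LD2_c2 LD3_c3)) :=
  Lgr Lrot3 (Lpr_ft (f361949 IH) (Lpn (LP (LK LD1_c2 LD2_c2 LD3_c3))))
theorem f361975 : Led Lsl_at (LP (LK LD1_c4 LD2_c8 LD3_c18)) = (LP (LK LD1_c2 LD2_c1 LD3_c61)) :=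
  Lgr Lrot26 (Lpr_ff (f361963 IH) (Lpe (K12.f222786 IH) (Lpr_gt (K12.f222743 IH) (Lpn (LP (LK LD1_c2 LD2_c1 LD3_c61))))))
theorem f361940 : Led Lsl_at (LP (LK LD1_c4 LD2_c8 LD3_c20)) = (LP (LK LD1_c2 LD2_c2 LD3_c3)) :=
  Lgr Lrot100 (Lpr_af (f361924 IH) (Lpn (LP (LK LD1_c2 LD2_c2 LD3_c3))))
theorem f361986 : Led Lsl_ff (LP (LK LD1_c4 LD2_c8 LD3_c20)) = (LP (LK LD1_c2 LD2_c1 LD3_c61)) :=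
  Lgr Lrot30 (Lpr_at (f361940 IH) (Lpe (f361963 IH) (Lpr_at (f361975 IH) (Lpn (LP (LK LD1_c2 LD2_c1 LD3_c61))))))
theorem f258629 : Led Lsl_et (LP (LK LD1_c4 LD2_c8 LD3_c20)) = (LP (LK LD1_c8 LD2_c16 LD3_c45)) :=
  Lre_e IH (LK LD1_c4 LD2_c8 LD3_c20) (LK LD1_c8 LD2_c16 LD3_c45) Lrfl Lrfl
theorem f361992 : Led Lsl_ft (LP (LK LD1_c8 LD2_c16 LD3_c45)) = (LP (LK LD1_c15 LD2_c34 LD3_c5)) :=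
  Lre_f IH (LK LD1_c8 LD2_c16 LD3_c45) (LK LD1_c15 LD2_c34 LD3_c5) Lrfl Lrfl
theorem f361993 : Led Lsl_ft (LP (LK LD1_c8 LD2_c18 LD3_c51)) = (LP (LK LD1_c4 LD2_c9 LD3_c22)) :=
  Lre_f IH (LK LD1_c8 LD2_c18 LD3_c51) (LK LD1_c4 LD2_c9 LD3_c22) Lrfl Lrfl
theorem f361994 : Led Lsl_et (LP (LK LD1_c15 LD2_c34 LD3_c5)) = (LP (LK LD1_c8 LD2_c18 LD3_c51)) :=
  Lgr Lrot69 (Lpe (f361992 IH) (Lpe (f258629 IH) (Lpr_ff (f361986 IH) (Lpe (K21.f234452 IH) (Lpe (f361993 IH) (Lpn (LP (LK LD1_c8 LD2_c18 LD3_c51))))))))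
theorem f362003 : Led Lsl_ef (LP (LK LD1_c15 LD2_c34 LD3_c5)) = (LP (LK LD1_c8 LD2_c18 LD3_c51)) :=
  Lgr Lrot88 (Lpr_et (f361994 IH) (Lpn (LP (LK LD1_c8 LD2_c18 LD3_c51))))
theorem f47710 : Led Lsl_ct (LP (LK LD1_c15 LD2_c34 LD3_c5)) = (LP (LK LD1_c8 LD2_c16 LD3_c47)) :=
  Lre_c IH (LK LD1_c15 LD2_c34 LD3_c5) (LK LD1_c8 LD2_c16 LD3_c47) Lrfl Lrfl
theorem f362008 : Led Lsl_ct (LP (LK LD1_c4 LD2_c9 LD3_c28)) = (LP (LK LD1_c8 LD2_c18 LD3_c51)) :=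
  Lre_c IH (LK LD1_c4 LD2_c9 LD3_c28) (LK LD1_c8 LD2_c18 LD3_c51) Lrfl Lrfl
theorem f362009 : Led Lsl_et (LP (LK LD1_c8 LD2_c16 LD3_c47)) = (LP (LK LD1_c4 LD2_c9 LD3_c28)) :=
  Lgr Lrot158 (Lpe (f47710 IH) (Lpr_ef (f362003 IH) (Lpe (f362008 IH) (Lpn (LP (LK LD1_c4 LD2_c9 LD3_c28))))))
theorem f362013 : Led Lsl_ft (LP (LK LD1_c4 LD2_c9 LD3_c28)) = (LP (LK LD1_c2 LD2_c2 LD3_c1)) :=
  Lre_f IH (LK LD1_c4 LD2_c9 LD3_c28) (LK LD1_c2 LD2_c2 LD3_c1) Lrfl Lrfl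
theorem f1408 : Led Lsl_et (LP (LK LD1_c2 LD2_c2 LD3_c1)) = (LP (LK LD1_c0 LD2_c57 LD3_c59)) :=
  Lre_e IH (LK LD1_c2 LD2_c2 LD3_c1) (LK LD1_c0 LD2_c57 LD3_c59) Lrfl Lrfl
theorem f362014 : Led Lsl_ff (LP (LK LD1_c2 LD2_c1 LD3_c33)) = (LP (LK LD1_c0 LD2_c57 LD3_c59)) :=
  Lgr Lrot72 (Lpr_et (K13.f47546 IH) (Lpr_ft (K13.f47697 IH) (Lpr_et (f362009 IH) (Lpr_ft (f362013 IH) (Lpr_et (f1408 IH) (Lpn (LP (LK LD1_c0 LD2_c57 LD3_c59))))))))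
theorem f362020 : Led Lsl_ft (LP (LK LD1_c1 LD2_c14 LD3_c18)) = (LP (LK LD1_c2 LD2_c2 LD3_c0)) :=
  Lgr Lrot54 (Lpr_df (K13.f47542 IH) (Lpr_ff (f362014 IH) (Lpe (K13.f51461 IH) (Lpn (LP (LK LD1_c2 LD2_c2 LD3_c0))))))
theorem f362026 : Led Lsl_af (LP (LK LD1_c2 LD2_c40 LD3_c29)) = (LP (LK LD1_c2 LD2_c2 LD3_c0)) :=
  Lgr Lrot31 (Lpe (K14.f250902 IH) (Lpe (K13.f234197 IH) (Lpr_ft (f362020 IH) (Lpn (LP (LK LD1_c2 LD2_c2 LD3_c0))))))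
theorem f362032 : Led Lsl_at (LP (LK LD1_c1 LD2_c16 LD3_c56)) = (LP (LK LD1_c2 LD2_c40 LD3_c9)) :=
  Lgr Lrot80 (Lpe (K13.f236103 IH) (Lpr_af (f362026 IH) (Lpe (K13.f246267 IH) (Lpn (LP (LK LD1_c2 LD2_c40 LD3_c9))))))
theorem f362040 : Led Lsl_ff (LP (LK LD1_c1 LD2_c16 LD3_c56)) = (LP (LK LD1_c1 LD2_c14 LD3_c22)) :=
  Lgr Lrot52 (Lpr_at (f362032 IH) (Lpe (K13.f175065 IH) (Lpe (K14.f253965 IH) (Lpn (LP (LK LD1_c1 LD2_c14 LD3_c22))))))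
theorem f362048 : Led Lsl_ft (LP (LK LD1_c1 LD2_c16 LD3_c56)) = (LP (LK LD1_c1 LD2_c14 LD3_c22)) :=
  Lgr Lrot48 (Lpr_ff (f362040 IH) (Lpn (LP (LK LD1_c1 LD2_c14 LD3_c22))))
theorem f362056 : Led Lsl_af (LP (LK LD1_c1 LD2_c16 LD3_c55)) = (LP (LK LD1_c1 LD2_c14 LD3_c22)) :=
  Lgr Lrot31 (Lpe (K14.f175058 IH) (Lpe (K13.f175055 IH) (Lpr_ft (f362048 IH) (Lpn (LP (LK LD1_c1 LD2_c14 LD3_c22))))))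
theorem f362034 : Led Lsl_af (LP (LK LD1_c1 LD2_c16 LD3_c56)) = (LP (LK LD1_c2 LD2_c40 LD3_c9)) :=
  Lgr Lrot0 (Lpr_at (f362032 IH) (Lpn (LP (LK LD1_c2 LD2_c40 LD3_c9))))
theorem f362066 : Led Lsl_ft (LP (LK LD1_c1 LD2_c16 LD3_c55)) = (LP (LK LD1_c2 LD2_c40 LD3_c9)) :=
  Lgr Lrot101 (Lpr_af (f362056 IH) (Lpe (f362048 IH) (Lpr_af (f362034 IH) (Lpn (LP (LK LD1_c2 LD2_c40 LD3_c9))))))
theorem f362074 : Led Lsl_ff (LP (LK LD1_c1 LD2_c16 LD3_c55)) = (LP (LK LD1_c2 LD2_c40 LD3_c9)) :=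
  Lgr Lrot3 (Lpr_ft (f362066 IH) (Lpn (LP (LK LD1_c2 LD2_c40 LD3_c9))))
theorem f246275 : Led Lsl_ef (LP (LK LD1_c2 LD2_c40 LD3_c9)) = (LP (LK LD1_c2 LD2_c2 LD3_c0)) :=
  Lgr Lrot88 (Lpr_et (K13.f246267 IH) (Lpn (LP (LK LD1_c2 LD2_c2 LD3_c0))))
theorem f362082 : Led Lsl_ft (LP (LK LD1_c1 LD2_c14 LD3_c12)) = (LP (LK LD1_c0 LD2_c34 LD3_c27)) :=
  Lgr Lrot86 (Lpe (K14.f252570 IH) (Lpr_ff (f362074 IH) (Lpr_ef (f246275 IH) (Lpe (f362020 IH) (Lpe (K13.f47544 IH) (Lpn (LP (LK LD1_c0 LD2_c34 LD3_c27))))))))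
theorem f362088 : Led Lsl_af (LP (LK LD1_c1 LD2_c14 LD3_c11)) = (LP (LK LD1_c0 LD2_c34 LD3_c27)) :=
  Lgr Lrot31 (Lpe (K10.f32428 IH) (Lpe (K9.f32434 IH) (Lpr_ft (f362082 IH) (Lpn (LP (LK LD1_c0 LD2_c34 LD3_c27))))))
theorem f362094 : Led Lsl_at (LP (LK LD1_c2 LD2_c2 LD3_c4)) = (LP (LK LD1_c1 LD2_c14 LD3_c18)) :=
  Lgr Lrot80 (Lpe (K13.f232022 IH) (Lpr_af (f362088 IH) (Lpe (K10.f32341 IH) (Lpn (LP (LK LD1_c1 LD2_c14 LD3_c18))))))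
theorem f362100 : Led Lsl_ff (LP (LK LD1_c2 LD2_c2 LD3_c4)) = (LP (LK LD1_c2 LD2_c40 LD3_c29)) :=
  Lgr Lrot30 (Lpr_at (f362094 IH) (Lpr_ft (f362020 IH) (Lpe (f362026 IH) (Lpn (LP (LK LD1_c2 LD2_c40 LD3_c29))))))
theorem f362108 : Led Lsl_ft (LP (LK LD1_c2 LD2_c2 LD3_c4)) = (LP (LK LD1_c2 LD2_c40 LD3_c29)) :=
  Lgr Lrot48 (Lpr_ff (f362100 IH) (Lpn (LP (LK LD1_c2 LD2_c40 LD3_c29))))
theorem f32344 : Led Lsl_et (LP (LK LD1_c1 LD2_c14 LD3_c22)) = (LP (LK LD1_c0 LD2_c34 LD3_c28)) :=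
  Lre_e IH (LK LD1_c1 LD2_c14 LD3_c22) (LK LD1_c0 LD2_c34 LD3_c28) Lrfl Lrfl
theorem f362114 : Led Lsl_ff (LP (LK LD1_c1 LD2_c14 LD3_c11)) = (LP (LK LD1_c0 LD2_c34 LD3_c28)) :=
  Lgr Lrot72 (Lpr_et (K13.f232022 IH) (Lpr_ft (f362108 IH) (Lpr_et (K13.f236103 IH) (Lpr_ft (f362048 IH) (Lpr_et (f32344 IH) (Lpn (LP (LK LD1_c0 LD2_c34 LD3_c28))))))))
theorem f362120 : Led Lsl_ft (LP (LK LD1_c2 LD2_c34 LD3_c22)) = (LP (LK LD1_c1 LD2_c14 LD3_c21)) :=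
  Lgr Lrot54 (Lpe (K12.f32429 IH) (Lpr_ff (f362114 IH) (Lpe (K15.f45404 IH) (Lpn (LP (LK LD1_c1 LD2_c14 LD3_c21))))))
theorem f362130 : Led Lsl_af (LP (LK LD1_c2 LD2_c34 LD3_c23)) = (LP (LK LD1_c1 LD2_c14 LD3_c21)) :=
  Lgr Lrot31 (Lpe (K14.f252553 IH) (Lpr_gf (K12.f191158 IH) (Lpr_ft (f362120 IH) (Lpn (LP (LK LD1_c1 LD2_c14 LD3_c21))))))
theorem f362136 : Led Lsl_at (LP (LK LD1_c5 LD2_c15 LD3_c3)) = (LP (LK LD1_c2 LD2_c34 LD3_c41)) :=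
  Lgr Lrot80 (Lpe (K14.f48937 IH) (Lpr_af (f362130 IH) (Lpe (K21.f231953 IH) (Lpn (LP (LK LD1_c2 LD2_c34 LD3_c41))))))
theorem f362144 : Led Lsl_ff (LP (LK LD1_c5 LD2_c15 LD3_c3)) = (LP (LK LD1_c10 LD2_c3 LD3_c46)) :=
  Lgr Lrot30 (Lpr_at (f362136 IH) (Lpr_ft (K21.f282471 IH) (Lpe (K21.f282472 IH) (Lpn (LP (LK LD1_c10 LD2_c3 LD3_c46))))))
theorem f362152 : Led Lsl_ft (LP (LK LD1_c5 LD2_c15 LD3_c3)) = (LP (LK LD1_c10 LD2_c3 LD3_c46)) :=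
  Lgr Lrot48 (Lpr_ff (f362144 IH) (Lpn (LP (LK LD1_c10 LD2_c3 LD3_c46))))
theorem f362162 : Led Lsl_gt (LP (LK LD1_c10 LD2_c3 LD3_c47)) = (LP (LK LD1_c5 LD2_c15 LD3_c42)) :=
  Lgr Lrot46 (Lpr_gf (K20.f282491 IH) (Lpr_ft (f362152 IH) (Lpr_at (K21.f326649 IH) (Lpn (LP (LK LD1_c5 LD2_c15 LD3_c42))))))
theorem f362168 : Led Lsl_ef (LP (LK LD1_c5 LD2_c29 LD3_c28)) = (LP (LK LD1_c10 LD2_c20 LD3_c43)) :=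
  Lgr Lrot114 (Lpr_gt (K21.f298837 IH) (Lpr_ef (K19.f309497 IH) (Lpe (K19.f197538 IH) (Lpr_gt (K18.f294980 IH) (Lpr_df (K18.f282950 IH) (Lpe (K21.f285559 IH) (Lpe (K23.f348015 IH) (Lpe (K20.f261879 IH) (Lpr_gt (f362162 IH) (Lpe (K21.f326621 IH) (Lpn (LP (LK LD1_c10 LD2_c20 LD3_c43)))))))))))))
theorem f291685 : Led Lsl_ft (LP (LK LD1_c5 LD2_c15 LD3_c41)) = (LP (LK LD1_c10 LD2_c20 LD3_c43)) :=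
  Lre_f IH (LK LD1_c5 LD2_c15 LD3_c41) (LK LD1_c10 LD2_c20 LD3_c43) Lrfl Lrfl
theorem f362046 : Led Lsl_ft (LP (LK LD1_c2 LD2_c40 LD3_c28)) = (LP (LK LD1_c2 LD2_c34 LD3_c42)) :=
  Lgr Lrot54 (Lpe (K15.f236143 IH) (Lpr_ff (f362040 IH) (Lpe (K16.f49902 IH) (Lpn (LP (LK LD1_c2 LD2_c34 LD3_c42))))))
theorem f362178 : Led Lsl_ft (LP (LK LD1_c5 LD2_c29 LD3_c28)) = (LP (LK LD1_c2 LD2_c41 LD3_c22)) :=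
  Lgr Lrot86 (Lpr_ef (f362168 IH) (Lpe (f291685 IH) (Lpe (K21.f282990 IH) (Lpe (f362046 IH) (Lpr_ef (K13.f236188 IH) (Lpn (LP (LK LD1_c2 LD2_c41 LD3_c22))))))))
theorem f362188 : Led Lsl_af (LP (LK LD1_c4 LD2_c9 LD3_c27)) = (LP (LK LD1_c2 LD2_c41 LD3_c22)) :=
  Lgr Lrot31 (Lpr_gf (K21.f323395 IH) (Lpe (K21.f298837 IH) (Lpr_ft (f362178 IH) (Lpn (LP (LK LD1_c2 LD2_c41 LD3_c22))))))
theorem f362194 : Led Lsl_at (LP (LK LD1_c2 LD2_c2 LD3_c1)) = (LP (LK LD1_c4 LD2_c8 LD3_c19)) :=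
  Lgr Lrot51 (Lpe (K21.f234472 IH) (Lpr_af (f362188 IH) (Lpe (K13.f236195 IH) (Lpn (LP (LK LD1_c4 LD2_c8 LD3_c19))))))
theorem f362202 : Led Lsl_gt (LP (LK LD1_c4 LD2_c9 LD3_c28)) = (LP (LK LD1_c8 LD2_c16 LD3_c41)) :=
  Lgr Lrot5 (Lpr_ft (f362013 IH) (Lpr_at (f362194 IH) (Lpe (K15.f236197 IH) (Lpn (LP (LK LD1_c8 LD2_c16 LD3_c41))))))
theorem f47707 : Led Lsl_df (LP (LK LD1_c5 LD2_c15 LD3_c29)) = (LP (LK LD1_c8 LD2_c16 LD3_c47)) :=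
  Lgr Lrot38 (Lpr_dt (K13.f47695 IH) (Lpn (LP (LK LD1_c8 LD2_c16 LD3_c47))))
theorem f330178 : Led Lsl_gf (LP (LK LD1_c5 LD2_c29 LD3_c52)) = (LP (LK LD1_c8 LD2_c55 LD3_c45)) :=
  Lgr Lrot138 (Lpe (K15.f220696 IH) (Lpe (K15.f262078 IH) (Lpr_df (K15.f220159 IH) (Lpr_et (K15.f188050 IH) (Lpe (K10.f188040 IH) (Lpe (K9.f49625 IH) (Lpr_dt (K9.f50087 IH) (Lpe (K23.f330129 IH) (Lpe (K23.f330144 IH) (Lpr_et (K23.f330170 IH) (Lpn (LP (LK LD1_c8 LD2_c55 LD3_c45)))))))))))))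
theorem f273556 : Led Lsl_at (LP (LK LD1_c8 LD2_c31 LD3_c50)) = (LP (LK LD1_c5 LD2_c17 LD3_c37)) :=
  Lgr Lrot100 (Lpr_af (K16.f273533 IH) (Lpn (LP (LK LD1_c5 LD2_c17 LD3_c37))))
theorem f361207 : Led Lsl_gt (LP (LK LD1_c5 LD2_c5 LD3_c46)) = (LP (LK LD1_c5 LD2_c17 LD3_c37)) :=
  Lgr Lrot46 (Lpr_gf (f361205 IH) (Lpr_ft (K16.f254554 IH) (Lpr_at (f273556 IH) (Lpn (LP (LK LD1_c5 LD2_c17 LD3_c37))))))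
theorem f361224 : Led Lsl_gt (LP (LK LD1_c8 LD2_c29 LD3_c40)) = (LP (LK LD1_c4 LD2_c15 LD3_c47)) :=
  Lgr Lrot112 (Lpr_df (K14.f49001 IH) (Lpe (K15.f251171 IH) (Lpr_gf (K23.f251250 IH) (Lpr_ef (K23.f348358 IH) (Lpe (K25.f348356 IH) (Lpr_gf (K23.f348345 IH) (Lpr_df (K15.f49048 IH) (Lpe (f361207 IH) (Lpe (f185594 IH) (Lpr_dt (f361217 IH) (Lpn (LP (LK LD1_c4 LD2_c15 LD3_c47)))))))))))))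
theorem f361221 : Led Lsl_df (LP (LK LD1_c5 LD2_c12 LD3_c22)) = (LP (LK LD1_c4 LD2_c15 LD3_c47)) :=
  Lgr Lrot38 (Lpr_dt (f361217 IH) (Lpn (LP (LK LD1_c4 LD2_c15 LD3_c47))))
theorem f362212 : Led Lsl_gf (LP (LK LD1_c5 LD2_c15 LD3_c29)) = (LP (LK LD1_c5 LD2_c12 LD3_c22)) :=
  Lgr Lrot134 (Lpr_df (f47707 IH) (Lpr_et (f362009 IH) (Lpr_gt (f362202 IH) (Lpe (K15.f236219 IH) (Lpe (K15.f236234 IH) (Lpe (f330178 IH) (Lpe (K15.f220692 IH) (Lpr_et (K14.f251070 IH) (Lpr_gt (f361224 IH) (Lpe (f361221 IH) (Lpn (LP (LK LD1_c5 LD2_c12 LD3_c22)))))))))))))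
theorem f362086 : Led Lsl_ff (LP (LK LD1_c2 LD2_c34 LD3_c23)) = (LP (LK LD1_c1 LD2_c14 LD3_c17)) :=
  Lgr Lrot19 (Lpr_dt (K15.f45258 IH) (Lpr_ft (f362082 IH) (Lpr_dt (K9.f32879 IH) (Lpn (LP (LK LD1_c1 LD2_c14 LD3_c17))))))
theorem f47709 : Led Lsl_ft (LP (LK LD1_c5 LD2_c15 LD3_c29)) = (LP (LK LD1_c2 LD2_c34 LD3_c34)) :=
  Lre_f IH (LK LD1_c5 LD2_c15 LD3_c29) (LK LD1_c2 LD2_c34 LD3_c34) Lrfl Lrfl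
theorem f362160 : Led Lsl_ef (LP (LK LD1_c5 LD2_c15 LD3_c29)) = (LP (LK LD1_c10 LD2_c3 LD3_c46)) :=
  Lgr Lrot21 (Lpr_ft (f47709 IH) (Lpr_et (K13.f47545 IH) (Lpe (f362086 IH) (Lpr_et (K14.f48937 IH) (Lpr_ft (f362152 IH) (Lpn (LP (LK LD1_c10 LD2_c3 LD3_c46))))))))
theorem f328553 : Led Lsl_gt (LP (LK LD1_c8 LD2_c17 LD3_c48)) = (LP (LK LD1_c5 LD2_c15 LD3_c59)) :=
  Lgr Lrot112 (Lpe (K23.f285585 IH) (Lpe (K21.f261426 IH) (Lpr_gf (K21.f285593 IH) (Lpe (K21.f285599 IH) (Lpr_dt (K21.f285598 IH) (Lpe (K21.f285597 IH) (Lpr_df (K18.f245919 IH) (Lpe (K20.f323212 IH) (Lpr_ef (K21.f328546 IH) (Lpe (K12.f47591 IH) (Lpn (LP (LK LD1_c5 LD2_c15 LD3_c59)))))))))))))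
theorem f276142 : Led Lsl_ef (LP (LK LD1_c5 LD2_c6 LD3_c22)) = (LP (LK LD1_c10 LD2_c2 LD3_c11)) :=
  Lgr Lrot29 (Lpr_bt (K15.f261787 IH) (Lpr_et (K16.f276115 IH) (Lpr_bt (K19.f169485 IH) (Lpn (LP (LK LD1_c10 LD2_c2 LD3_c11))))))
theorem f328555 : Led Lsl_gf (LP (LK LD1_c10 LD2_c20 LD3_c41)) = (LP (LK LD1_c5 LD2_c30 LD3_c11)) :=
  Lgr Lrot134 (Lpe (K21.f260605 IH) (Lpr_et (K21.f260603 IH) (Lpr_gt (f328553 IH) (Lpe (K21.f328551 IH) (Lpe (K20.f317704 IH) (Lpe (f324326 IH) (Lpr_df (K19.f169486 IH) (Lpe (f276142 IH) (Lpr_gt (K21.f261898 IH) (Lpe (K21.f326617 IH) (Lpn (LP (LK LD1_c5 LD2_c30 LD3_c11)))))))))))))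
theorem f185601 : Led Lsl_bt (LP (LK LD1_c5 LD2_c12 LD3_c22)) = (LP (LK LD1_c2 LD2_c32 LD3_c60)) :=
  Lre_b IH (LK LD1_c5 LD2_c12 LD3_c22) (LK LD1_c2 LD2_c32 LD3_c60) Lrfl Lrfl
theorem f185602 : Led Lsl_ef (LP (LK LD1_c5 LD2_c12 LD3_c22)) = (LP (LK LD1_c5 LD2_c5 LD3_c46)) :=
  Lgr Lrot29 (Lpr_bt (f185601 IH) (Lpr_et (K22.f185599 IH) (Lpr_bt (f178567 IH) (Lpn (LP (LK LD1_c5 LD2_c5 LD3_c46))))))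
theorem f32557 : Led Lsl_ft (LP (LK LD1_c2 LD2_c35 LD3_c19)) = (LP (LK LD1_c1 LD2_c14 LD3_c40)) :=
  Lre_f IH (LK LD1_c2 LD2_c35 LD3_c19) (LK LD1_c1 LD2_c14 LD3_c40) Lrfl Lrfl
theorem f48707 : Led Lsl_ef (LP (LK LD1_c1 LD2_c14 LD3_c13)) = (LP (LK LD1_c1 LD2_c14 LD3_c40)) :=
  Lgr Lrot21 (Lpr_ft (K15.f32558 IH) (Lpr_et (K10.f32336 IH) (Lpr_ft (K17.f48702 IH) (Lpr_et (K1.f32169 IH) (Lpr_ft (f32557 IH) (Lpn (LP (LK LD1_c1 LD2_c14 LD3_c40))))))))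
theorem f1360 : Led Lsl_gt (LP (LK LD1_c4 LD2_c8 LD3_c48)) = (LP (LK LD1_c2 LD2_c1 LD3_c44)) :=
  Lre_g IH (LK LD1_c4 LD2_c8 LD3_c48) (LK LD1_c2 LD2_c1 LD3_c44) Lrfl Lrfl
theorem f361215 : Led Lsl_dt (LP (LK LD1_c5 LD2_c5 LD3_c46)) = (LP (LK LD1_c4 LD2_c8 LD3_c48)) :=
  Lgr Lrot171 (Lpr_gf (f361205 IH) (Lpr_ef (f250634 IH) (Lpr_dt (K10.f48722 IH) (Lpe (K9.f32916 IH) (Lpe (K2.f32422 IH) (Lpe (f48707 IH) (Lpr_gf (K14.f232002 IH) (Lpe (K12.f229031 IH) (Lpr_dt (K23.f229029 IH) (Lpe (f1360 IH) (Lpn (LP (LK LD1_c4 LD2_c8 LD3_c48)))))))))))))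
theorem f362220 : Led Lsl_gt (LP (LK LD1_c8 LD2_c16 LD3_c31)) = (LP (LK LD1_c4 LD2_c8 LD3_c48)) :=
  Lgr Lrot139 (Lpe (K12.f47617 IH) (Lpe (f328553 IH) (Lpe (K21.f260603 IH) (Lpr_dt (K21.f260605 IH) (Lpr_gf (f328555 IH) (Lpr_df (K21.f326617 IH) (Lpe (f362160 IH) (Lpr_gf (f362212 IH) (Lpr_ef (f185602 IH) (Lpr_dt (f361215 IH) (Lpn (LP (LK LD1_c4 LD2_c8 LD3_c48)))))))))))))
theorem f47609 : Led Lsl_bt (LP (LK LD1_c15 LD2_c33 LD3_c18)) = (LP (LK LD1_c8 LD2_c16 LD3_c31)) :=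
  Lre_b IH (LK LD1_c15 LD2_c33 LD3_c18) (LK LD1_c8 LD2_c16 LD3_c31) Lrfl Lrfl
theorem f285682 : Led Lsl_ct (LP (LK LD1_c4 LD2_c8 LD3_c48)) = (LP (LK LD1_c8 LD2_c17 LD3_c46)) :=
  Lre_c IH (LK LD1_c4 LD2_c8 LD3_c48) (LK LD1_c8 LD2_c17 LD3_c46) Lrfl Lrfl
theorem f316224 : Led Lsl_dt (LP (LK LD1_c4 LD2_c17 LD3_c55)) = (LP (LK LD1_c8 LD2_c34 LD3_c47)) :=
  Lre_d IH (LK LD1_c4 LD2_c17 LD3_c55) (LK LD1_c8 LD2_c34 LD3_c47) Lrfl Lrfl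
theorem f316228 : Led Lsl_bt (LP (LK LD1_c2 LD2_c6 LD3_c15)) = (LP (LK LD1_c4 LD2_c17 LD3_c55)) :=
  Lre_b IH (LK LD1_c2 LD2_c6 LD3_c15) (LK LD1_c4 LD2_c17 LD3_c55) Lrfl Lrfl
theorem f200283 : Led Lsl_bt (LP (LK LD1_c4 LD2_c11 LD3_c41)) = (LP (LK LD1_c2 LD2_c3 LD3_c1)) :=
  Lre_b IH (LK LD1_c4 LD2_c11 LD3_c41) (LK LD1_c2 LD2_c3 LD3_c1) Lrfl Lrfl
theorem f333680 : Led Lsl_et (LP (LK LD1_c4 LD2_c17 LD3_c55)) = (LP (LK LD1_c4 LD2_c11 LD3_c41)) :=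
  Lgr Lrot74 (Lpe (f316228 IH) (Lpr_ef (K22.f333678 IH) (Lpe (f200283 IH) (Lpn (LP (LK LD1_c4 LD2_c11 LD3_c41))))))
theorem f360737 : Led Lsl_ef (LP (LK LD1_c8 LD2_c17 LD3_c21)) = (LP (LK LD1_c8 LD2_c30 LD3_c15)) :=
  Lgr Lrot88 (Lpr_et (f360730 IH) (Lpn (LP (LK LD1_c8 LD2_c30 LD3_c15))))
theorem f360893 : Led Lsl_gf (LP (LK LD1_c4 LD2_c11 LD3_c41)) = (LP (LK LD1_c4 LD2_c16 LD3_c20)) :=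
  Lgr Lrot141 (Lpe (f333680 IH) (Lpr_dt (f316224 IH) (Lpr_gt (f360885 IH) (Lpr_df (f360735 IH) (Lpe (f360737 IH) (Lpr_gt (K20.f250931 IH) (Lpr_dt (K18.f301425 IH) (Lpr_gt (K18.f300965 IH) (Lpe (K21.f301522 IH) (Lpe (K16.f271418 IH) (Lpn (LP (LK LD1_c4 LD2_c16 LD3_c20)))))))))))))
theorem f333684 : Led Lsl_bt (LP (LK LD1_c2 LD2_c35 LD3_c58)) = (LP (LK LD1_c5 LD2_c18 LD3_c37)) :=
  Lre_b IH (LK LD1_c2 LD2_c35 LD3_c58) (LK LD1_c5 LD2_c18 LD3_c37) Lrfl Lrfl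
theorem f333685 : Led Lsl_dt (LP (LK LD1_c5 LD2_c18 LD3_c37)) = (LP (LK LD1_c4 LD2_c11 LD3_c41)) :=
  Lgr Lrot79 (Lpe (f333684 IH) (Lpr_df (K22.f333682 IH) (Lpe (f200283 IH) (Lpn (LP (LK LD1_c4 LD2_c11 LD3_c41))))))
theorem f333693 : Led Lsl_bt (LP (LK LD1_c5 LD2_c16 LD3_c23)) = (LP (LK LD1_c2 LD2_c34 LD3_c57)) :=
  Lre_b IH (LK LD1_c5 LD2_c16 LD3_c23) (LK LD1_c2 LD2_c34 LD3_c57) Lrfl Lrfl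
theorem f333694 : Led Lsl_et (LP (LK LD1_c5 LD2_c18 LD3_c37)) = (LP (LK LD1_c5 LD2_c16 LD3_c23)) :=
  Lgr Lrot74 (Lpe (f333684 IH) (Lpr_ef (K22.f333691 IH) (Lpe (f333693 IH) (Lpn (LP (LK LD1_c5 LD2_c16 LD3_c23))))))
theorem f360898 : Led Lsl_gt (LP (LK LD1_c5 LD2_c16 LD3_c23)) = (LP (LK LD1_c5 LD2_c17 LD3_c55)) :=
  Lgr Lrot137 (Lpe (f333694 IH) (Lpr_dt (f333685 IH) (Lpr_gf (f360893 IH) (Lpe (K16.f254540 IH) (Lpr_et (K21.f273560 IH) (Lpr_gf (K20.f273507 IH) (Lpr_ef (K17.f263083 IH) (Lpe (K17.f47777 IH) (Lpr_gf (K21.f263437 IH) (Lpe (K25.f262111 IH) (Lpn (LP (LK LD1_c5 LD2_c17 LD3_c55)))))))))))))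
theorem f360900 : Led Lsl_gf (LP (LK LD1_c5 LD2_c16 LD3_c23)) = (LP (LK LD1_c5 LD2_c17 LD3_c5)) :=
  Lgr Lrot47 (Lpr_gt (f360898 IH) (Lpe (K15.f251243 IH) (Lpe (K15.f230004 IH) (Lpn (LP (LK LD1_c5 LD2_c17 LD3_c5))))))
theorem f341856 : Led Lsl_dt (LP (LK LD1_c10 LD2_c22 LD3_c22)) = (LP (LK LD1_c5 LD2_c16 LD3_c23)) :=
  Lre_d IH (LK LD1_c10 LD2_c22 LD3_c22) (LK LD1_c5 LD2_c16 LD3_c23) Lrfl Lrfl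
theorem f360907 : Led Lsl_et (LP (LK LD1_c10 LD2_c22 LD3_c22)) = (LP (LK LD1_c8 LD2_c34 LD3_c47)) :=
  Lgr Lrot121 (Lpr_dt (f341856 IH) (Lpr_gf (f360900 IH) (Lpe (K14.f254474 IH) (Lpr_et (K14.f197582 IH) (Lpe (K15.f263159 IH) (Lpe (K17.f222646 IH) (Lpr_dt (K21.f295755 IH) (Lpe (f243369 IH) (Lpe (f360748 IH) (Lpe (f360885 IH) (Lpn (LP (LK LD1_c8 LD2_c34 LD3_c47)))))))))))))
theorem f341857 : Led Lsl_dt (LP (LK LD1_c5 LD2_c16 LD3_c23)) = (LP (LK LD1_c10 LD2_c22 LD3_c22)) :=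
  Lre_d IH (LK LD1_c5 LD2_c16 LD3_c23) (LK LD1_c10 LD2_c22 LD3_c22) Lrfl Lrfl
theorem f316229 : Led Lsl_dt (LP (LK LD1_c8 LD2_c34 LD3_c47)) = (LP (LK LD1_c4 LD2_c17 LD3_c55)) :=
  Lre_d IH (LK LD1_c8 LD2_c34 LD3_c47) (LK LD1_c4 LD2_c17 LD3_c55) Lrfl Lrfl
theorem f360911 : Led Lsl_df (LP (LK LD1_c5 LD2_c18 LD3_c37)) = (LP (LK LD1_c4 LD2_c11 LD3_c41)) :=
  Lgr Lrot70 (Lpr_et (f333694 IH) (Lpr_dt (f341857 IH) (Lpr_et (f360907 IH) (Lpr_dt (f316229 IH) (Lpr_et (f333680 IH) (Lpn (LP (LK LD1_c4 LD2_c11 LD3_c41))))))))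
theorem f220182 : Led Lsl_et (LP (LK LD1_c2 LD2_c1 LD3_c44)) = (LP (LK LD1_c0 LD2_c57 LD3_c53)) :=
  Lre_e IH (LK LD1_c2 LD2_c1 LD3_c44) (LK LD1_c0 LD2_c57 LD3_c53) Lrfl Lrfl
theorem f360915 : Led Lsl_gt (LP (LK LD1_c5 LD2_c18 LD3_c37)) = (LP (LK LD1_c4 LD2_c8 LD3_c49)) :=
  Lgr Lrot139 (Lpr_df (f360911 IH) (Lpr_gf (f360893 IH) (Lpr_ef (K16.f271418 IH) (Lpr_dt (K21.f301522 IH) (Lpe (K18.f300965 IH) (Lpe (K18.f301425 IH) (Lpr_et (K17.f260649 IH) (Lpe (K13.f1434 IH) (Lpe (f220182 IH) (Lpr_dt (K23.f220183 IH) (Lpn (LP (LK LD1_c4 LD2_c8 LD3_c49)))))))))))))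
theorem f187130 : Led Lsl_bf (LP (LK LD1_c8 LD2_c39 LD3_c57)) = (LP (LK LD1_c8 LD2_c5 LD3_c43)) :=
  Lgr Lrot24 (Lpr_bt (K14.f187128 IH) (Lpn (LP (LK LD1_c8 LD2_c5 LD3_c43))))
theorem f320817 : Led Lsl_at (LP (LK LD1_c2 LD2_c34 LD3_c48)) = (LP (LK LD1_c4 LD2_c8 LD3_c49)) :=
  Lgr Lrot67 (Lpe (K25.f47577 IH) (Lpe (K19.f311413 IH) (Lpr_bf (f187130 IH) (Lpr_af (K20.f320815 IH) (Lpe (K24.f228978 IH) (Lpn (LP (LK LD1_c4 LD2_c8 LD3_c49))))))))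
theorem f360917 : Led Lsl_gf (LP (LK LD1_c5 LD2_c18 LD3_c37)) = (LP (LK LD1_c5 LD2_c15 LD3_c59)) :=
  Lgr Lrot47 (Lpr_gt (f360915 IH) (Lpe (f320817 IH) (Lpe (K12.f47589 IH) (Lpn (LP (LK LD1_c5 LD2_c15 LD3_c59))))))
theorem f327471 : Led Lsl_ct (LP (LK LD1_c5 LD2_c18 LD3_c37)) = (LP (LK LD1_c10 LD2_c26 LD3_c51)) :=
  Lre_c IH (LK LD1_c5 LD2_c18 LD3_c37) (LK LD1_c10 LD2_c26 LD3_c51) Lrfl Lrfl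
theorem f178556 : Led Lsl_bt (LP (LK LD1_c5 LD2_c18 LD3_c37)) = (LP (LK LD1_c2 LD2_c35 LD3_c58)) :=
  Lre_b IH (LK LD1_c5 LD2_c18 LD3_c37) (LK LD1_c2 LD2_c35 LD3_c58) Lrfl Lrfl
theorem f180800 : Led Lsl_ft (LP (LK LD1_c10 LD2_c21 LD3_c38)) = (LP (LK LD1_c5 LD2_c16 LD3_c3)) :=
  Lre_f IH (LK LD1_c10 LD2_c21 LD3_c38) (LK LD1_c5 LD2_c16 LD3_c3) Lrfl Lrfl
theorem f180802 : Led Lsl_cf (LP (LK LD1_c10 LD2_c21 LD3_c38)) = (LP (LK LD1_c15 LD2_c11 LD3_c40)) :=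
  Lgr Lrot108 (Lpr_ft (f180800 IH) (Lpr_ct (K25.f180777 IH) (Lpr_ft (K14.f180801 IH) (Lpn (LP (LK LD1_c15 LD2_c11 LD3_c40))))))
theorem f358880 : Led Lsl_gf (LP (LK LD1_c10 LD2_c26 LD3_c51)) = (LP (LK LD1_c10 LD2_c21 LD3_c38)) :=
  Lgr Lrot126 (Lpe (f327471 IH) (Lpr_bt (f178556 IH) (Lpr_gt (K22.f178553 IH) (Lpr_ct (f186604 IH) (Lpe (f358870 IH) (Lpe (f171337 IH) (Lpr_bt (f358873 IH) (Lpe (K23.f287116 IH) (Lpe (K17.f180821 IH) (Lpe (f180802 IH) (Lpn (LP (LK LD1_c10 LD2_c21 LD3_c38)))))))))))))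
theorem f350782 : Led Lsl_af (LP (LK LD1_c10 LD2_c19 LD3_c42)) = (LP (LK LD1_c5 LD2_c16 LD3_c3)) :=
  Lgr Lrot0 (Lpr_at (f350780 IH) (Lpn (LP (LK LD1_c5 LD2_c16 LD3_c3))))
theorem f358902 : Led Lsl_gt (LP (LK LD1_c10 LD2_c26 LD3_c51)) = (LP (LK LD1_c10 LD2_c19 LD3_c42)) :=
  Lgr Lrot46 (Lpr_gf (f358880 IH) (Lpr_ft (f180800 IH) (Lpe (f350782 IH) (Lpn (LP (LK LD1_c10 LD2_c19 LD3_c42))))))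
theorem f219941 : Led Lsl_dt (LP (LK LD1_c8 LD2_c26 LD3_c18)) = (LP (LK LD1_c8 LD2_c6 LD3_c2)) :=
  Lgr Lrot77 (Lpe (K17.f49514 IH) (Lpr_df (K12.f219933 IH) (Lpe (K15.f219938 IH) (Lpe (K12.f219939 IH) (Lpe (K17.f219940 IH) (Lpn (LP (LK LD1_c8 LD2_c6 LD3_c2))))))))
theorem f362222 : Led Lsl_gf (LP (LK LD1_c15 LD2_c15 LD3_c2)) = (LP (LK LD1_c8 LD2_c17 LD3_c46)) :=
  Lgr Lrot104 (Lpr_ct (K23.f219965 IH) (Lpe (f219941 IH) (Lpe (K17.f49492 IH) (Lpe (f358902 IH) (Lpe (f327471 IH) (Lpr_gf (f360917 IH) (Lpr_df (K12.f47591 IH) (Lpr_gt (f362220 IH) (Lpr_ct (f285682 IH) (Lpn (LP (LK LD1_c8 LD2_c17 LD3_c46))))))))))))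
theorem f219966 : Led Lsl_ct (LP (LK LD1_c8 LD2_c6 LD3_c2)) = (LP (LK LD1_c15 LD2_c15 LD3_c2)) :=
  Lre_c IH (LK LD1_c8 LD2_c6 LD3_c2) (LK LD1_c15 LD2_c15 LD3_c2) Lrfl Lrfl
theorem f287008 : Led Lsl_bt (LP (LK LD1_c8 LD2_c6 LD3_c2)) = (LP (LK LD1_c14 LD2_c58 LD3_c9)) :=
  Lgr Lrot127 (Lpr_bf (K17.f287006 IH) (Lpn (LP (LK LD1_c14 LD2_c58 LD3_c9))))
theorem f166872 : Led Lsl_gt (LP (LK LD1_c8 LD2_c24 LD3_c39)) = (LP (LK LD1_c15 LD2_c48 LD3_c43)) :=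
  Lre_g IH (LK LD1_c8 LD2_c24 LD3_c39) (LK LD1_c15 LD2_c48 LD3_c43) Lrfl Lrfl
theorem f362227 : Led Lsl_ct (LP (LK LD1_c15 LD2_c33 LD3_c18)) = (LP (LK LD1_c15 LD2_c48 LD3_c43)) :=
  Lgr Lrot10 (Lpr_bt (f47609 IH) (Lpr_gt (f362220 IH) (Lpr_ct (f285682 IH) (Lpe (f362222 IH) (Lpe (f219966 IH) (Lpr_bt (f287008 IH) (Lpe (K24.f330818 IH) (Lpe (K21.f304594 IH) (Lpr_ct (K25.f166871 IH) (Lpr_gt (f166872 IH) (Lpn (LP (LK LD1_c15 LD2_c48 LD3_c43)))))))))))))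
theorem f362297 : Led Lsl_cf (LP (LK LD1_c15 LD2_c33 LD3_c18)) = (LP (LK LD1_c15 LD2_c48 LD3_c43)) :=
  Lgr Lrot11 (Lpr_ct (f362227 IH) (Lpn (LP (LK LD1_c15 LD2_c48 LD3_c43))))
theorem f166869 : Led Lsl_ct (LP (LK LD1_c5 LD2_c3 LD3_c48)) = (LP (LK LD1_c9 LD2_c58 LD3_c33)) :=
  Lre_c IH (LK LD1_c5 LD2_c3 LD3_c48) (LK LD1_c9 LD2_c58 LD3_c33) Lrfl Lrfl
theorem f166870 : Led Lsl_gt (LP (LK LD1_c9 LD2_c58 LD3_c33)) = (LP (LK LD1_c18 LD2_c14 LD3_c61)) :=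
  Lre_g IH (LK LD1_c9 LD2_c58 LD3_c33) (LK LD1_c18 LD2_c14 LD3_c61) Lrfl Lrfl
theorem f362328 : Led Lsl_cf (LP (LK LD1_c10 LD2_c21 LD3_c8)) = (LP (LK LD1_c18 LD2_c14 LD3_c61)) :=
  Lgr Lrot99 (Lpr_df (K12.f47627 IH) (Lpr_cf (f362297 IH) (Lpe (f166872 IH) (Lpe (K25.f166871 IH) (Lpe (K19.f166862 IH) (Lpe (K10.f166827 IH) (Lpr_gt (K21.f166868 IH) (Lpr_ct (f166869 IH) (Lpr_gt (f166870 IH) (Lpn (LP (LK LD1_c18 LD2_c14 LD3_c61))))))))))))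
theorem f362339 : Led Lsl_ft (LP (LK LD1_c10 LD2_c21 LD3_c5)) = (LP (LK LD1_c18 LD2_c14 LD3_c61)) :=
  Lgr Lrot4 (Lpe (K25.f47675 IH) (Lpe (K12.f47633 IH) (Lpr_cf (f362328 IH) (Lpn (LP (LK LD1_c18 LD2_c14 LD3_c61))))))
theorem f254463 : Led Lsl_et (LP (LK LD1_c5 LD2_c15 LD3_c52)) = (LP (LK LD1_c10 LD2_c21 LD3_c5)) :=
  Lre_e IH (LK LD1_c5 LD2_c15 LD3_c52) (LK LD1_c10 LD2_c21 LD3_c5) Lrfl Lrfl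
theorem f311445 : Led Lsl_ft (LP (LK LD1_c7 LD2_c57 LD3_c31)) = (LP (LK LD1_c5 LD2_c15 LD3_c52)) :=
  Lgr Lrot4 (Lpe (K14.f214790 IH) (Lpr_ff (K19.f311441 IH) (Lpe (K14.f45405 IH) (Lpn (LP (LK LD1_c5 LD2_c15 LD3_c52))))))
theorem f362349 : Led Lsl_ef (LP (LK LD1_c18 LD2_c34 LD3_c37)) = (LP (LK LD1_c18 LD2_c14 LD3_c61)) :=
  Lgr Lrot21 (Lpr_ft (K23.f336175 IH) (Lpr_et (K14.f44461 IH) (Lpr_ft (f311445 IH) (Lpr_et (f254463 IH) (Lpr_ft (f362339 IH) (Lpn (LP (LK LD1_c18 LD2_c14 LD3_c61))))))))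
theorem f362330 : Led Lsl_at (LP (LK LD1_c24 LD2_c48 LD3_c7)) = (LP (LK LD1_c18 LD2_c14 LD3_c61)) :=
  Lgr Lrot107 (Lpe (K23.f191816 IH) (Lpr_af (K19.f311407 IH) (Lpr_cf (f362328 IH) (Lpn (LP (LK LD1_c18 LD2_c14 LD3_c61))))))
theorem f362392 : Led Lsl_et (LP (LK LD1_c19 LD2_c6 LD3_c27)) = (LP (LK LD1_c24 LD2_c48 LD3_c7)) :=
  Lgr Lrot123 (Lpe (K25.f340162 IH) (Lpr_ef (f362349 IH) (Lpe (f362330 IH) (Lpn (LP (LK LD1_c24 LD2_c48 LD3_c7))))))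
theorem f247984 : Led Lsl_gt (LP (LK LD1_c18 LD2_c32 LD3_c54)) = (LP (LK LD1_c28 LD2_c7 LD3_c15)) :=
  Lre_g IH (LK LD1_c18 LD2_c32 LD3_c54) (LK LD1_c28 LD2_c7 LD3_c15) Lrfl Lrfl
theorem f362394 : Led Lsl_dt (LP (LK LD1_c19 LD2_c6 LD3_c27)) = (LP (LK LD1_c28 LD2_c7 LD3_c15)) :=
  Lgr Lrot37 (Lpr_et (f362392 IH) (Lpe (f359190 IH) (Lpr_dt (f283998 IH) (Lpr_gt (f359192 IH) (Lpe (K16.f189547 IH) (Lpr_et (K16.f189546 IH) (Lpr_gt (K14.f248176 IH) (Lpe (K20.f247980 IH) (Lpr_dt (K20.f247981 IH) (Lpr_gt (f247984 IH) (Lpn (LP (LK LD1_c28 LD2_c7 LD3_c15)))))))))))))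
theorem f326893 : Led Lsl_cf (LP (LK LD1_c15 LD2_c14 LD3_c8)) = (LP (LK LD1_c10 LD2_c11 LD3_c46)) :=
  Lgr Lrot11 (Lpr_ct (K21.f326890 IH) (Lpn (LP (LK LD1_c10 LD2_c11 LD3_c46))))
theorem f253618 : Led Lsl_dt (LP (LK LD1_c10 LD2_c11 LD3_c48)) = (LP (LK LD1_c5 LD2_c10 LD3_c33)) :=
  Lre_d IH (LK LD1_c10 LD2_c11 LD3_c48) (LK LD1_c5 LD2_c10 LD3_c33) Lrfl Lrfl
theorem f259074 : Led Lsl_gf (LP (LK LD1_c4 LD2_c54 LD3_c20)) = (LP (LK LD1_c5 LD2_c2 LD3_c9)) :=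
  Lgr Lrot104 (Lpr_ct (K14.f43834 IH) (Lpe (K14.f43833 IH) (Lpr_cf (K14.f230544 IH) (Lpe (K14.f249107 IH) (Lpe (K9.f28282 IH) (Lpe (K9.f46363 IH) (Lpe (K14.f44236 IH) (Lpr_gt (K15.f28266 IH) (Lpr_ct (K15.f259067 IH) (Lpn (LP (LK LD1_c5 LD2_c2 LD3_c9))))))))))))
theorem f306114 : Led Lsl_et (LP (LK LD1_c9 LD2_c55 LD3_c3)) = (LP (LK LD1_c5 LD2_c2 LD3_c9)) :=
  Lre_e IH (LK LD1_c9 LD2_c55 LD3_c3) (LK LD1_c5 LD2_c2 LD3_c9) Lrfl Lrfl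
theorem f306115 : Led Lsl_dt (LP (LK LD1_c9 LD2_c55 LD3_c3)) = (LP (LK LD1_c18 LD2_c9 LD3_c15)) :=
  Lre_d IH (LK LD1_c9 LD2_c55 LD3_c3) (LK LD1_c18 LD2_c9 LD3_c15) Lrfl Lrfl
theorem f306116 : Led Lsl_gt (LP (LK LD1_c10 LD2_c11 LD3_c48)) = (LP (LK LD1_c18 LD2_c9 LD3_c15)) :=
  Lgr Lrot139 (Lpe (K25.f192939 IH) (Lpe (K22.f253637 IH) (Lpe (K25.f249680 IH) (Lpr_dt (K25.f306105 IH) (Lpe (K25.f306103 IH) (Lpe (K25.f250466 IH) (Lpr_et (K18.f251659 IH) (Lpr_gf (f259074 IH) (Lpe (f306114 IH) (Lpr_dt (f306115 IH) (Lpn (LP (LK LD1_c18 LD2_c9 LD3_c15)))))))))))))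
theorem f306119 : Led Lsl_ct (LP (LK LD1_c18 LD2_c9 LD3_c15)) = (LP (LK LD1_c27 LD2_c49 LD3_c41)) :=
  Lre_c IH (LK LD1_c18 LD2_c9 LD3_c15) (LK LD1_c27 LD2_c49 LD3_c41) Lrfl Lrfl
theorem f306120 : Led Lsl_gt (LP (LK LD1_c27 LD2_c49 LD3_c41)) = (LP (LK LD1_c32 LD2_c28 LD3_c50)) :=
  Lre_g IH (LK LD1_c27 LD2_c49 LD3_c41) (LK LD1_c32 LD2_c28 LD3_c50) Lrfl Lrfl
theorem f362400 : Led Lsl_ct (LP (LK LD1_c32 LD2_c28 LD3_c50)) = (LP (LK LD1_c28 LD2_c7 LD3_c15)) :=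
  Lgr Lrot151 (Lpe (f306120 IH) (Lpe (f306119 IH) (Lpe (f306116 IH) (Lpr_dt (f253618 IH) (Lpr_gt (K21.f283884 IH) (Lpe (f326893 IH) (Lpe (K25.f351313 IH) (Lpr_ct (K23.f190476 IH) (Lpr_dt (f362394 IH) (Lpn (LP (LK LD1_c28 LD2_c7 LD3_c15))))))))))))
theorem f362396 : Led Lsl_df (LP (LK LD1_c19 LD2_c6 LD3_c27)) = (LP (LK LD1_c28 LD2_c7 LD3_c15)) :=
  Lgr Lrot38 (Lpr_dt (f362394 IH) (Lpn (LP (LK LD1_c28 LD2_c7 LD3_c15))))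
theorem f303391 : Led Lsl_ct (LP (LK LD1_c19 LD2_c29 LD3_c18)) = (LP (LK LD1_c28 LD2_c51 LD3_c34)) :=
  Lre_c IH (LK LD1_c19 LD2_c29 LD3_c18) (LK LD1_c28 LD2_c51 LD3_c34) Lrfl Lrfl
theorem f362404 : Led Lsl_df (LP (LK LD1_c32 LD2_c28 LD3_c50)) = (LP (LK LD1_c28 LD2_c51 LD3_c34)) :=
  Lgr Lrot43 (Lpr_ct (f362400 IH) (Lpe (f362396 IH) (Lpr_ct (K14.f190477 IH) (Lpe (K21.f331326 IH) (Lpr_ct (K23.f331332 IH) (Lpr_dt (K22.f254196 IH) (Lpr_ct (K23.f287897 IH) (Lpr_dt (K23.f318013 IH) (Lpr_ct (K23.f214917 IH) (Lpr_dt (K23.f214916 IH) (Lpe (K20.f214892 IH) (Lpe (K20.f317699 IH) (Lpr_ct (K20.f303358 IH) (Lpr_dt (K25.f282886 IH) (Lpr_ct (f303391 IH) (Lpn (LP (LK LD1_c28 LD2_c51 LD3_c34))))))))))))))))))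
theorem f362408 : Led Lsl_ft (LP (LK LD1_c28 LD2_c51 LD3_c34)) = (LP (LK LD1_c32 LD2_c35 LD3_c46)) :=
  Lgr Lrot142 (Lpe (f362404 IH) (Lpr_ct (f362400 IH) (Lpe (f362396 IH) (Lpr_ct (K14.f190477 IH) (Lpe (K21.f331326 IH) (Lpr_ct (K23.f331332 IH) (Lpr_dt (K22.f254196 IH) (Lpr_ct (K23.f287897 IH) (Lpr_af (K23.f340195 IH) (Lpn (LP (LK LD1_c32 LD2_c35 LD3_c46))))))))))))
theorem f362398 : Led Lsl_ff (LP (LK LD1_c19 LD2_c6 LD3_c26)) = (LP (LK LD1_c28 LD2_c7 LD3_c15)) :=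
  Lgr Lrot19 (Lpr_dt (K23.f190469 IH) (Lpr_ft (K23.f190580 IH) (Lpr_dt (f362394 IH) (Lpn (LP (LK LD1_c28 LD2_c7 LD3_c15))))))
theorem f190584 : Led Lsl_ct (LP (LK LD1_c19 LD2_c6 LD3_c26)) = (LP (LK LD1_c28 LD2_c31 LD3_c58)) :=
  Lre_c IH (LK LD1_c19 LD2_c6 LD3_c26) (LK LD1_c28 LD2_c31 LD3_c58) Lrfl Lrfl
theorem f362406 : Led Lsl_ff (LP (LK LD1_c32 LD2_c28 LD3_c50)) = (LP (LK LD1_c28 LD2_c31 LD3_c58)) :=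
  Lgr Lrot23 (Lpr_ct (f362400 IH) (Lpe (f362398 IH) (Lpr_ct (f190584 IH) (Lpn (LP (LK LD1_c28 LD2_c31 LD3_c58))))))
theorem f362410 : Led Lsl_df (LP (LK LD1_c28 LD2_c51 LD3_c34)) = (LP (LK LD1_c32 LD2_c28 LD3_c50)) :=
  Lgr Lrot78 (Lpr_ft (f362408 IH) (Lpr_dt (K23.f190588 IH) (Lpe (f362406 IH) (Lpn (LP (LK LD1_c32 LD2_c28 LD3_c50))))))
theorem f317750 : Led Lsl_ct (LP (LK LD1_c28 LD2_c51 LD3_c34)) = (LP (LK LD1_c19 LD2_c29 LD3_c18)) :=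
  Lre_c IH (LK LD1_c28 LD2_c51 LD3_c34) (LK LD1_c19 LD2_c29 LD3_c18) Lrfl Lrfl
theorem f340193 : Led Lsl_af (LP (LK LD1_c31 LD2_c39 LD3_c15)) = (LP (LK LD1_c28 LD2_c31 LD3_c58)) :=
  Lgr Lrot0 (Lpr_at (K23.f340191 IH) (Lpn (LP (LK LD1_c28 LD2_c31 LD3_c58))))
theorem f362412 : Led Lsl_ff (LP (LK LD1_c28 LD2_c31 LD3_c58)) = (LP (LK LD1_c32 LD2_c28 LD3_c50)) :=
  Lgr Lrot103 (Lpe (f340193 IH) (Lpe (K23.f214913 IH) (Lpe (K20.f44462 IH) (Lpe (K14.f214906 IH) (Lpe (K20.f317747 IH) (Lpe (K20.f303355 IH) (Lpe (K23.f303357 IH) (Lpe (f317750 IH) (Lpr_df (f362410 IH) (Lpn (LP (LK LD1_c32 LD2_c28 LD3_c50))))))))))))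
theorem f362402 : Led Lsl_cf (LP (LK LD1_c32 LD2_c28 LD3_c50)) = (LP (LK LD1_c28 LD2_c7 LD3_c15)) :=
  Lgr Lrot11 (Lpr_ct (f362400 IH) (Lpn (LP (LK LD1_c28 LD2_c7 LD3_c15))))
theorem f362415 : Led Lsl_ft (LP (LK LD1_c19 LD2_c6 LD3_c26)) = (LP (LK LD1_c28 LD2_c7 LD3_c15)) :=
  Lgr Lrot4 (Lpe (K23.f190585 IH) (Lpr_ff (f362412 IH) (Lpr_cf (f362402 IH) (Lpn (LP (LK LD1_c28 LD2_c7 LD3_c15))))))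
theorem f214350 : Led Lsl_gt (LP (LK LD1_c18 LD2_c8 LD3_c59)) = (LP (LK LD1_c27 LD2_c49 LD3_c20)) :=
  Lre_g IH (LK LD1_c18 LD2_c8 LD3_c59) (LK LD1_c27 LD2_c49 LD3_c20) Lrfl Lrfl
theorem f362417 : Led Lsl_af (LP (LK LD1_c27 LD2_c49 LD3_c20)) = (LP (LK LD1_c28 LD2_c7 LD3_c15)) :=
  Lgr Lrot31 (Lpe (f214350 IH) (Lpe (K23.f214348 IH) (Lpr_ft (f362415 IH) (Lpn (LP (LK LD1_c28 LD2_c7 LD3_c15))))))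
theorem f340189 : Led Lsl_at (LP (LK LD1_c24 LD2_c48 LD3_c0)) = (LP (LK LD1_c19 LD2_c6 LD3_c26)) :=
  Lgr Lrot100 (Lpr_af (K23.f340181 IH) (Lpn (LP (LK LD1_c19 LD2_c6 LD3_c26))))
theorem f362423 : Led Lsl_ft (LP (LK LD1_c27 LD2_c49 LD3_c20)) = (LP (LK LD1_c24 LD2_c48 LD3_c0)) :=
  Lgr Lrot101 (Lpr_af (f362417 IH) (Lpe (f362415 IH) (Lpe (f340189 IH) (Lpn (LP (LK LD1_c24 LD2_c48 LD3_c0))))))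
theorem f362425 : Led Lsl_df (LP (LK LD1_c27 LD2_c49 LD3_c20)) = (LP (LK LD1_c18 LD2_c34 LD3_c37)) :=
  Lgr Lrot78 (Lpr_ft (f362423 IH) (Lpr_dt (K23.f214916 IH) (Lpe (K25.f336213 IH) (Lpn (LP (LK LD1_c18 LD2_c34 LD3_c37))))))
theorem f248611 : Led Lsl_ct (LP (LK LD1_c17 LD2_c46 LD3_c9)) = (LP (LK LD1_c9 LD2_c39 LD3_c42)) :=
  Lre_c IH (LK LD1_c17 LD2_c46 LD3_c9) (LK LD1_c9 LD2_c39 LD3_c42) Lrfl Lrfl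
theorem f166861 : Led Lsl_ct (LP (LK LD1_c5 LD2_c3 LD3_c49)) = (LP (LK LD1_c9 LD2_c58 LD3_c36)) :=
  Lre_c IH (LK LD1_c5 LD2_c3 LD3_c49) (LK LD1_c9 LD2_c58 LD3_c36) Lrfl Lrfl
theorem f333500 : Led Lsl_ef (LP (LK LD1_c17 LD2_c46 LD3_c9)) = (LP (LK LD1_c9 LD2_c58 LD3_c36)) :=
  Lgr Lrot28 (Lpr_ct (f248611 IH) (Lpr_et (K23.f333495 IH) (Lpr_ct (f166861 IH) (Lpn (LP (LK LD1_c9 LD2_c58 LD3_c36))))))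
theorem f294255 : Led Lsl_gt (LP (LK LD1_c9 LD2_c39 LD3_c47)) = (LP (LK LD1_c17 LD2_c46 LD3_c9)) :=
  Lgr Lrot5 (Lpr_ft (K18.f229965 IH) (Lpr_at (K18.f294249 IH) (Lpr_gf (K23.f291887 IH) (Lpn (LP (LK LD1_c17 LD2_c46 LD3_c9))))))
theorem f251666 : Led Lsl_dt (LP (LK LD1_c5 LD2_c2 LD3_c4)) = (LP (LK LD1_c9 LD2_c54 LD3_c52)) :=
  Lre_d IH (LK LD1_c5 LD2_c2 LD3_c4) (LK LD1_c9 LD2_c54 LD3_c52) Lrfl Lrfl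
theorem f257060 : Led Lsl_gf (LP (LK LD1_c9 LD2_c39 LD3_c46)) = (LP (LK LD1_c9 LD2_c54 LD3_c52)) :=
  Lgr Lrot143 (Lpr_dt (K15.f43783 IH) (Lpe (K14.f229949 IH) (Lpe (K14.f33117 IH) (Lpr_gf (K15.f256268 IH) (Lpe (K16.f240263 IH) (Lpr_gf (K13.f240250 IH) (Lpe (K15.f184646 IH) (Lpr_gt (K15.f257048 IH) (Lpr_dt (f251666 IH) (Lpn (LP (LK LD1_c9 LD2_c54 LD3_c52))))))))))))
theorem f333509 : Led Lsl_dt (LP (LK LD1_c9 LD2_c58 LD3_c36)) = (LP (LK LD1_c18 LD2_c15 LD3_c4)) :=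
  Lre_d IH (LK LD1_c9 LD2_c58 LD3_c36) (LK LD1_c18 LD2_c15 LD3_c4) Lrfl Lrfl
theorem f333510 : Led Lsl_gf (LP (LK LD1_c18 LD2_c58 LD3_c21)) = (LP (LK LD1_c18 LD2_c15 LD3_c4)) :=
  Lgr Lrot145 (Lpe (K16.f216749 IH) (Lpr_et (K25.f257068 IH) (Lpr_gt (K15.f257048 IH) (Lpr_dt (f251666 IH) (Lpe (f257060 IH) (Lpe (K22.f43784 IH) (Lpr_et (f229977 IH) (Lpr_gt (f294255 IH) (Lpr_ef (f333500 IH) (Lpr_dt (f333509 IH) (Lpn (LP (LK LD1_c18 LD2_c15 LD3_c4)))))))))))))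
theorem f311439 : Led Lsl_ef (LP (LK LD1_c16 LD2_c34 LD3_c44)) = (LP (LK LD1_c10 LD2_c21 LD3_c8)) :=
  Lgr Lrot21 (Lpr_ft (K23.f214823 IH) (Lpr_et (K14.f44240 IH) (Lpr_ft (K19.f311431 IH) (Lpr_et (K12.f47643 IH) (Lpr_ft (K19.f47649 IH) (Lpn (LP (LK LD1_c10 LD2_c21 LD3_c8))))))))
theorem f362337 : Led Lsl_et (LP (LK LD1_c18 LD2_c34 LD3_c37)) = (LP (LK LD1_c18 LD2_c14 LD3_c61)) :=
  Lgr Lrot158 (Lpr_cf (K22.f336168 IH) (Lpr_ef (f311439 IH) (Lpr_cf (f362328 IH) (Lpn (LP (LK LD1_c18 LD2_c14 LD3_c61))))))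
theorem f362430 : Led Lsl_gf (LP (LK LD1_c9 LD2_c58 LD3_c36)) = (LP (LK LD1_c18 LD2_c14 LD3_c61)) :=
  Lgr Lrot138 (Lpr_dt (f333509 IH) (Lpe (f333510 IH) (Lpe (K16.f216749 IH) (Lpr_et (K25.f257068 IH) (Lpr_gt (K15.f257048 IH) (Lpe (K23.f193133 IH) (Lpr_dt (K23.f193134 IH) (Lpr_gt (f214350 IH) (Lpr_df (f362425 IH) (Lpr_et (f362337 IH) (Lpn (LP (LK LD1_c18 LD2_c14 LD3_c61)))))))))))))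
theorem f362351 : Led Lsl_ff (LP (LK LD1_c10 LD2_c21 LD3_c5)) = (LP (LK LD1_c18 LD2_c14 LD3_c61)) :=
  Lgr Lrot3 (Lpr_ft (f362339 IH) (Lpn (LP (LK LD1_c18 LD2_c14 LD3_c61))))
theorem f311417 : Led Lsl_af (LP (LK LD1_c15 LD2_c0 LD3_c40)) = (LP (LK LD1_c10 LD2_c21 LD3_c5)) :=
  Lgr Lrot68 (Lpe (K23.f191785 IH) (Lpr_at (K19.f311413 IH) (Lpr_ct (K25.f47675 IH) (Lpn (LP (LK LD1_c10 LD2_c21 LD3_c5))))))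
theorem f362432 : Led Lsl_gt (LP (LK LD1_c9 LD2_c58 LD3_c36)) = (LP (LK LD1_c15 LD2_c0 LD3_c40)) :=
  Lgr Lrot46 (Lpr_gf (f362430 IH) (Lpe (f362351 IH) (Lpe (f311417 IH) (Lpn (LP (LK LD1_c15 LD2_c0 LD3_c40))))))
theorem f166950 : Led Lsl_ct (LP (LK LD1_c4 LD2_c12 LD3_c30)) = (LP (LK LD1_c8 LD2_c24 LD3_c42)) :=
  Lre_c IH (LK LD1_c4 LD2_c12 LD3_c30) (LK LD1_c8 LD2_c24 LD3_c42) Lrfl Lrfl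
theorem f187149 : Led Lsl_ct (LP (LK LD1_c8 LD2_c39 LD3_c55)) = (LP (LK LD1_c4 LD2_c21 LD3_c7)) :=
  Lre_c IH (LK LD1_c8 LD2_c39 LD3_c55) (LK LD1_c4 LD2_c21 LD3_c7) Lrfl Lrfl
theorem f362435 : Led Lsl_gt (LP (LK LD1_c8 LD2_c24 LD3_c42)) = (LP (LK LD1_c8 LD2_c39 LD3_c55)) :=
  Lgr Lrot150 (Lpe (f166950 IH) (Lpe (K19.f166949 IH) (Lpe (K19.f166821 IH) (Lpr_gt (K23.f166947 IH) (Lpr_ct (f166861 IH) (Lpr_gt (f362432 IH) (Lpe (K23.f191785 IH) (Lpe (K21.f45762 IH) (Lpe (f187149 IH) (Lpn (LP (LK LD1_c8 LD2_c39 LD3_c55))))))))))))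
theorem f362439 : Led Lsl_bt (LP (LK LD1_c4 LD2_c12 LD3_c30)) = (LP (LK LD1_c8 LD2_c24 LD3_c41)) :=
  Lre_b IH (LK LD1_c4 LD2_c12 LD3_c30) (LK LD1_c8 LD2_c24 LD3_c41) Lrfl Lrfl
theorem f273306 : Led Lsl_ft (LP (LK LD1_c8 LD2_c4 LD3_c38)) = (LP (LK LD1_c15 LD2_c12 LD3_c37)) :=
  Lre_f IH (LK LD1_c8 LD2_c4 LD3_c38) (LK LD1_c15 LD2_c12 LD3_c37) Lrfl Lrfl
theorem f354983 : Led Lsl_gf (LP (LK LD1_c9 LD2_c56 LD3_c19)) = (LP (LK LD1_c8 LD2_c4 LD3_c38)) :=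
  Lgr Lrot47 (Lpr_gt (K25.f354778 IH) (Lpr_af (K16.f275955 IH) (Lpe (f273306 IH) (Lpn (LP (LK LD1_c8 LD2_c4 LD3_c38))))))
theorem f166789 : Led Lsl_ct (LP (LK LD1_c9 LD2_c56 LD3_c19)) = (LP (LK LD1_c5 LD2_c2 LD3_c42)) :=
  Lre_c IH (LK LD1_c9 LD2_c56 LD3_c19) (LK LD1_c5 LD2_c2 LD3_c42) Lrfl Lrfl
theorem f171388 : Led Lsl_ct (LP (LK LD1_c8 LD2_c36 LD3_c40)) = (LP (LK LD1_c4 LD2_c19 LD3_c2)) :=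
  Lre_c IH (LK LD1_c8 LD2_c36 LD3_c40) (LK LD1_c4 LD2_c19 LD3_c2) Lrfl Lrfl
theorem f171385 : Led Lsl_ct (LP (LK LD1_c4 LD2_c19 LD3_c2)) = (LP (LK LD1_c8 LD2_c36 LD3_c40)) :=
  Lre_c IH (LK LD1_c4 LD2_c19 LD3_c2) (LK LD1_c8 LD2_c36 LD3_c40) Lrfl Lrfl
theorem f269661 : Led Lsl_dt (LP (LK LD1_c16 LD2_c16 LD3_c58)) = (LP (LK LD1_c8 LD2_c41 LD3_c36)) :=
  Lre_d IH (LK LD1_c16 LD2_c16 LD3_c58) (LK LD1_c8 LD2_c41 LD3_c36) Lrfl Lrfl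
theorem f269660 : Led Lsl_et (LP (LK LD1_c8 LD2_c41 LD3_c36)) = (LP (LK LD1_c16 LD2_c16 LD3_c59)) :=
  Lre_e IH (LK LD1_c8 LD2_c41 LD3_c36) (LK LD1_c16 LD2_c16 LD3_c59) Lrfl Lrfl
theorem f269656 : Led Lsl_dt (LP (LK LD1_c8 LD2_c41 LD3_c36)) = (LP (LK LD1_c16 LD2_c16 LD3_c58)) :=
  Lre_d IH (LK LD1_c8 LD2_c41 LD3_c36) (LK LD1_c16 LD2_c16 LD3_c58) Lrfl Lrfl
theorem f349693 : Led Lsl_et (LP (LK LD1_c8 LD2_c36 LD3_c35)) = (LP (LK LD1_c4 LD2_c18 LD3_c60)) :=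
  Lre_e IH (LK LD1_c8 LD2_c36 LD3_c35) (LK LD1_c4 LD2_c18 LD3_c60) Lrfl Lrfl
theorem f349694 : Led Lsl_gf (LP (LK LD1_c16 LD2_c16 LD3_c58)) = (LP (LK LD1_c17 LD2_c37 LD3_c20)) :=
  Lgr Lrot145 (Lpe (f269656 IH) (Lpr_et (f269660 IH) (Lpe (K23.f349691 IH) (Lpr_dt (K23.f349686 IH) (Lpr_gt (K20.f237928 IH) (Lpe (K21.f237920 IH) (Lpr_et (f349693 IH) (Lpr_gt (K15.f255675 IH) (Lpe (K21.f232539 IH) (Lpr_dt (K25.f186914 IH) (Lpn (LP (LK LD1_c17 LD2_c37 LD3_c20)))))))))))))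
theorem f354786 : Led Lsl_gt (LP (LK LD1_c8 LD2_c36 LD3_c40)) = (LP (LK LD1_c9 LD2_c34 LD3_c12)) :=
  Lgr Lrot94 (Lpe (f171385 IH) (Lpr_gt (K25.f354782 IH) (Lpr_dt (K10.f191683 IH) (Lpr_gt (K21.f191966 IH) (Lpr_dt (K21.f280227 IH) (Lpe (K21.f325280 IH) (Lpe (f269661 IH) (Lpr_gf (f349694 IH) (Lpe (K25.f186914 IH) (Lpn (LP (LK LD1_c9 LD2_c34 LD3_c12))))))))))))
theorem f354852 : Led Lsl_gf (LP (LK LD1_c8 LD2_c36 LD3_c40)) = (LP (LK LD1_c15 LD2_c34 LD3_c52)) :=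
  Lgr Lrot47 (Lpr_gt (f354786 IH) (Lpr_af (K21.f327802 IH) (Lpe (K21.f327789 IH) (Lpn (LP (LK LD1_c15 LD2_c34 LD3_c52))))))
theorem f354985 : Led Lsl_gf (LP (LK LD1_c8 LD2_c17 LD3_c7)) = (LP (LK LD1_c9 LD2_c34 LD3_c13)) :=
  Lgr Lrot147 (Lpr_ct (K23.f229021 IH) (Lpe (f354852 IH) (Lpr_ct (f171388 IH) (Lpr_df (K25.f171378 IH) (Lpe (f166789 IH) (Lpr_gf (f354983 IH) (Lpe (K16.f229153 IH) (Lpe (K18.f193640 IH) (Lpr_df (K18.f229735 IH) (Lpn (LP (LK LD1_c9 LD2_c34 LD3_c13))))))))))))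
theorem f312136 : Led Lsl_dt (LP (LK LD1_c16 LD2_c17 LD3_c4)) = (LP (LK LD1_c8 LD2_c41 LD3_c43)) :=
  Lre_d IH (LK LD1_c16 LD2_c17 LD3_c4) (LK LD1_c8 LD2_c41 LD3_c43) Lrfl Lrfl
theorem f354869 : Led Lsl_ff (LP (LK LD1_c8 LD2_c36 LD3_c38)) = (LP (LK LD1_c4 LD2_c50 LD3_c50)) :=
  Lgr Lrot3 (Lpr_ft (K25.f354784 IH) (Lpn (LP (LK LD1_c4 LD2_c50 LD3_c50))))
theorem f30664 : Led Lsl_et (LP (LK LD1_c2 LD2_c23 LD3_c12)) = (LP (LK LD1_c4 LD2_c50 LD3_c50)) :=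
  Lre_e IH (LK LD1_c2 LD2_c23 LD3_c12) (LK LD1_c4 LD2_c50 LD3_c50) Lrfl Lrfl
theorem f327935 : Led Lsl_ft (LP (LK LD1_c1 LD2_c8 LD3_c53)) = (LP (LK LD1_c2 LD2_c23 LD3_c12)) :=
  Lgr Lrot4 (Lpe (K15.f232202 IH) (Lpr_ff (K21.f327931 IH) (Lpe (K13.f30824 IH) (Lpn (LP (LK LD1_c2 LD2_c23 LD3_c12))))))
theorem f354879 : Led Lsl_et (LP (LK LD1_c8 LD2_c36 LD3_c38)) = (LP (LK LD1_c4 LD2_c51 LD3_c30)) :=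
  Lgr Lrot69 (Lpr_ff (f354869 IH) (Lpe (f30664 IH) (Lpe (f327935 IH) (Lpe (K15.f238081 IH) (Lpe (K20.f238160 IH) (Lpn (LP (LK LD1_c4 LD2_c51 LD3_c30))))))))
theorem f333206 : Led Lsl_ft (LP (LK LD1_c5 LD2_c1 LD3_c46)) = (LP (LK LD1_c2 LD2_c28 LD3_c33)) :=
  Lre_f IH (LK LD1_c5 LD2_c1 LD3_c46) (LK LD1_c2 LD2_c28 LD3_c33) Lrfl Lrfl
theorem f354877 : Led Lsl_dt (LP (LK LD1_c8 LD2_c36 LD3_c38)) = (LP (LK LD1_c5 LD2_c1 LD3_c46)) :=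
  Lgr Lrot60 (Lpr_ff (f354869 IH) (Lpr_df (K21.f33310 IH) (Lpe (f333206 IH) (Lpn (LP (LK LD1_c5 LD2_c1 LD3_c46))))))
theorem f354883 : Led Lsl_gf (LP (LK LD1_c5 LD2_c1 LD3_c46)) = (LP (LK LD1_c9 LD2_c34 LD3_c39)) :=
  Lgr Lrot134 (Lpe (f354877 IH) (Lpr_et (f354879 IH) (Lpr_gt (K20.f317261 IH) (Lpe (K21.f313442 IH) (Lpe (K19.f313432 IH) (Lpr_gt (K19.f313424 IH) (Lpe (K12.f33201 IH) (Lpr_et (K12.f33203 IH) (Lpr_gt (K21.f33222 IH) (Lpe (K21.f280230 IH) (Lpn (LP (LK LD1_c9 LD2_c34 LD3_c39)))))))))))))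
theorem f354865 : Led Lsl_df (LP (LK LD1_c8 LD2_c36 LD3_c38)) = (LP (LK LD1_c5 LD2_c1 LD3_c46)) :=
  Lgr Lrot78 (Lpr_ft (K25.f354784 IH) (Lpe (K21.f327504 IH) (Lpr_ft (K21.f327508 IH) (Lpn (LP (LK LD1_c5 LD2_c1 LD3_c46))))))
theorem f171393 : Led Lsl_ct (LP (LK LD1_c8 LD2_c36 LD3_c38)) = (LP (LK LD1_c16 LD2_c8 LD3_c5)) :=
  Lre_c IH (LK LD1_c8 LD2_c36 LD3_c38) (LK LD1_c16 LD2_c8 LD3_c5) Lrfl Lrfl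
theorem f354885 : Led Lsl_dt (LP (LK LD1_c26 LD2_c4 LD3_c39)) = (LP (LK LD1_c16 LD2_c8 LD3_c5)) :=
  Lre_d IH (LK LD1_c26 LD2_c4 LD3_c39) (LK LD1_c16 LD2_c8 LD3_c5) Lrfl Lrfl
theorem f265944 : Led Lsl_et (LP (LK LD1_c4 LD2_c51 LD3_c18)) = (LP (LK LD1_c9 LD2_c34 LD3_c40)) :=
  Lre_e IH (LK LD1_c4 LD2_c51 LD3_c18) (LK LD1_c9 LD2_c34 LD3_c40) Lrfl Lrfl
theorem f191689 : Led Lsl_gt (LP (LK LD1_c17 LD2_c38 LD3_c17)) = (LP (LK LD1_c9 LD2_c34 LD3_c40)) :=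
  Lre_g IH (LK LD1_c17 LD2_c38 LD3_c17) (LK LD1_c9 LD2_c34 LD3_c40) Lrfl Lrfl
theorem f350411 : Led Lsl_ef (LP (LK LD1_c17 LD2_c38 LD3_c17)) = (LP (LK LD1_c15 LD2_c11 LD3_c32)) :=
  Lgr Lrot114 (Lpr_gt (f191689 IH) (Lpe (f265944 IH) (Lpr_dt (K15.f33385 IH) (Lpe (K15.f265934 IH) (Lpe (K15.f247741 IH) (Lpr_et (K20.f251468 IH) (Lpe (K21.f327295 IH) (Lpr_dt (K24.f274702 IH) (Lpr_gt (K24.f350402 IH) (Lpe (K24.f242538 IH) (Lpn (LP (LK LD1_c15 LD2_c11 LD3_c32)))))))))))))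
theorem f350418 : Led Lsl_et (LP (LK LD1_c17 LD2_c38 LD3_c17)) = (LP (LK LD1_c15 LD2_c11 LD3_c32)) :=
  Lgr Lrot87 (Lpr_ef (f350411 IH) (Lpn (LP (LK LD1_c15 LD2_c11 LD3_c32))))
theorem f350423 : Led Lsl_cf (LP (LK LD1_c17 LD2_c38 LD3_c17)) = (LP (LK LD1_c10 LD2_c29 LD3_c18)) :=
  Lgr Lrot39 (Lpr_et (f350418 IH) (Lpe (K24.f350392 IH) (Lpr_et (K20.f275881 IH) (Lpn (LP (LK LD1_c10 LD2_c29 LD3_c18))))))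
theorem f191682 : Led Lsl_ct (LP (LK LD1_c9 LD2_c34 LD3_c40)) = (LP (LK LD1_c4 LD2_c51 LD3_c16)) :=
  Lre_c IH (LK LD1_c9 LD2_c34 LD3_c40) (LK LD1_c4 LD2_c51 LD3_c16) Lrfl Lrfl
theorem f332908 : Led Lsl_ct (LP (LK LD1_c4 LD2_c51 LD3_c14)) = (LP (LK LD1_c2 LD2_c23 LD3_c26)) :=
  Lre_c IH (LK LD1_c4 LD2_c51 LD3_c14) (LK LD1_c2 LD2_c23 LD3_c26) Lrfl Lrfl
theorem f233156 : Led Lsl_gt (LP (LK LD1_c9 LD2_c34 LD3_c35)) = (LP (LK LD1_c4 LD2_c51 LD3_c14)) :=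
  Lre_g IH (LK LD1_c9 LD2_c34 LD3_c35) (LK LD1_c4 LD2_c51 LD3_c14) Lrfl Lrfl
theorem f324633 : Led Lsl_et (LP (LK LD1_c8 LD2_c40 LD3_c19)) = (LP (LK LD1_c9 LD2_c34 LD3_c14)) :=
  Lgr Lrot71 (Lpr_df (K21.f324629 IH) (Lpe (K21.f320775 IH) (Lpe (K20.f320769 IH) (Lpe (K20.f320831 IH) (Lpe (K14.f186910 IH) (Lpn (LP (LK LD1_c9 LD2_c34 LD3_c14))))))))
theorem f340494 : Led Lsl_gt (LP (LK LD1_c9 LD2_c34 LD3_c14)) = (LP (LK LD1_c8 LD2_c17 LD3_c6)) :=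
  Lgr Lrot137 (Lpe (f324633 IH) (Lpr_dt (K23.f324631 IH) (Lpr_gf (K24.f340487 IH) (Lpe (K20.f321037 IH) (Lpr_et (K20.f227965 IH) (Lpe (K20.f269910 IH) (Lpr_ef (K16.f269836 IH) (Lpe (K15.f229750 IH) (Lpe (K21.f326782 IH) (Lpe (K21.f228999 IH) (Lpn (LP (LK LD1_c8 LD2_c17 LD3_c6)))))))))))))
theorem f350435 : Led Lsl_cf (LP (LK LD1_c9 LD2_c34 LD3_c35)) = (LP (LK LD1_c8 LD2_c17 LD3_c6)) :=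
  Lgr Lrot169 (Lpr_gt (f233156 IH) (Lpr_ct (f332908 IH) (Lpe (K22.f33374 IH) (Lpe (f191682 IH) (Lpe (f191689 IH) (Lpr_cf (f350423 IH) (Lpe (K21.f320833 IH) (Lpe (K14.f186910 IH) (Lpr_gt (f340494 IH) (Lpn (LP (LK LD1_c8 LD2_c17 LD3_c6))))))))))))
theorem f233979 : Led Lsl_dt (LP (LK LD1_c4 LD2_c51 LD3_c14)) = (LP (LK LD1_c9 LD2_c34 LD3_c36)) :=
  Lre_d IH (LK LD1_c4 LD2_c51 LD3_c14) (LK LD1_c9 LD2_c34 LD3_c36) Lrfl Lrfl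
theorem f350443 : Led Lsl_gt (LP (LK LD1_c9 LD2_c34 LD3_c36)) = (LP (LK LD1_c17 LD2_c38 LD3_c11)) :=
  Lre_g IH (LK LD1_c9 LD2_c34 LD3_c36) (LK LD1_c17 LD2_c38 LD3_c11) Lrfl Lrfl
theorem f229843 : Led Lsl_ct (LP (LK LD1_c14 LD2_c57 LD3_c30)) = (LP (LK LD1_c7 LD2_c55 LD3_c48)) :=
  Lre_c IH (LK LD1_c14 LD2_c57 LD3_c30) (LK LD1_c7 LD2_c55 LD3_c48) Lrfl Lrfl
theorem f350444 : Led Lsl_dt (LP (LK LD1_c17 LD2_c38 LD3_c11)) = (LP (LK LD1_c14 LD2_c57 LD3_c30)) :=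
  Lgr Lrot105 (Lpe (f350443 IH) (Lpe (f233979 IH) (Lpe (f233156 IH) (Lpr_cf (f350435 IH) (Lpr_gt (K21.f228995 IH) (Lpr_dt (K20.f228981 IH) (Lpr_gt (K24.f228991 IH) (Lpr_dt (K24.f323788 IH) (Lpe (f229843 IH) (Lpn (LP (LK LD1_c14 LD2_c57 LD3_c30))))))))))))
theorem f350464 : Led Lsl_df (LP (LK LD1_c17 LD2_c38 LD3_c11)) = (LP (LK LD1_c14 LD2_c57 LD3_c30)) :=
  Lgr Lrot38 (Lpr_dt (f350444 IH) (Lpn (LP (LK LD1_c14 LD2_c57 LD3_c30))))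
theorem f354886 : Led Lsl_gf (LP (LK LD1_c26 LD2_c4 LD3_c39)) = (LP (LK LD1_c17 LD2_c38 LD3_c11)) :=
  Lgr Lrot143 (Lpr_dt (f354885 IH) (Lpe (f171393 IH) (Lpr_df (f354865 IH) (Lpr_gf (f354883 IH) (Lpr_df (K21.f280230 IH) (Lpe (K21.f33222 IH) (Lpr_cf (K17.f236628 IH) (Lpr_gt (K22.f298984 IH) (Lpe (f350464 IH) (Lpn (LP (LK LD1_c17 LD2_c38 LD3_c11))))))))))))
theorem f354891 : Led Lsl_dt (LP (LK LD1_c16 LD2_c8 LD3_c5)) = (LP (LK LD1_c26 LD2_c4 LD3_c39)) :=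
  Lre_d IH (LK LD1_c16 LD2_c8 LD3_c5) (LK LD1_c26 LD2_c4 LD3_c39) Lrfl Lrfl
theorem f298983 : Led Lsl_et (LP (LK LD1_c14 LD2_c57 LD3_c30)) = (LP (LK LD1_c24 LD2_c45 LD3_c2)) :=
  Lre_e IH (LK LD1_c14 LD2_c57 LD3_c30) (LK LD1_c24 LD2_c45 LD3_c2) Lrfl Lrfl
theorem f354892 : Led Lsl_et (LP (LK LD1_c16 LD2_c8 LD3_c5)) = (LP (LK LD1_c9 LD2_c35 LD3_c2)) :=
  Lgr Lrot121 (Lpr_dt (f354891 IH) (Lpr_gf (f354886 IH) (Lpr_df (f350464 IH) (Lpr_et (f298983 IH) (Lpe (K19.f312192 IH) (Lpe (K23.f314596 IH) (Lpr_dt (K23.f314635 IH) (Lpe (K23.f269551 IH) (Lpe (K16.f238731 IH) (Lpe (K23.f317263 IH) (Lpn (LP (LK LD1_c9 LD2_c35 LD3_c2)))))))))))))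
theorem f327972 : Led Lsl_ct (LP (LK LD1_c9 LD2_c34 LD3_c37)) = (LP (LK LD1_c4 LD2_c51 LD3_c17)) :=
  Lre_c IH (LK LD1_c9 LD2_c34 LD3_c37) (LK LD1_c4 LD2_c51 LD3_c17) Lrfl Lrfl
theorem f327973 : Led Lsl_ef (LP (LK LD1_c9 LD2_c34 LD3_c37)) = (LP (LK LD1_c16 LD2_c9 LD3_c39)) :=
  Lgr Lrot28 (Lpr_ct (f327972 IH) (Lpr_et (K21.f327967 IH) (Lpr_ct (K22.f305012 IH) (Lpn (LP (LK LD1_c16 LD2_c9 LD3_c39))))))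
theorem f354894 : Led Lsl_af (LP (LK LD1_c16 LD2_c8 LD3_c5)) = (LP (LK LD1_c9 LD2_c34 LD3_c37)) :=
  Lgr Lrot50 (Lpr_et (f354892 IH) (Lpr_at (K22.f305069 IH) (Lpe (f327973 IH) (Lpn (LP (LK LD1_c9 LD2_c34 LD3_c37))))))
theorem f354875 : Led Lsl_ft (LP (LK LD1_c16 LD2_c8 LD3_c5)) = (LP (LK LD1_c9 LD2_c33 LD3_c47)) :=
  Lgr Lrot4 (Lpe (f171393 IH) (Lpr_ff (f354869 IH) (Lpe (K21.f199641 IH) (Lpn (LP (LK LD1_c9 LD2_c33 LD3_c47))))))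
theorem f327952 : Led Lsl_ft (LP (LK LD1_c4 LD2_c51 LD3_c14)) = (LP (LK LD1_c9 LD2_c34 LD3_c37)) :=
  Lre_f IH (LK LD1_c4 LD2_c51 LD3_c14) (LK LD1_c9 LD2_c34 LD3_c37) Lrfl Lrfl
theorem f354900 : Led Lsl_at (LP (LK LD1_c9 LD2_c33 LD3_c47)) = (LP (LK LD1_c4 LD2_c51 LD3_c14)) :=
  Lgr Lrot66 (Lpe (f354875 IH) (Lpr_af (f354894 IH) (Lpe (f327952 IH) (Lpn (LP (LK LD1_c4 LD2_c51 LD3_c14))))))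
theorem f354905 : Led Lsl_af (LP (LK LD1_c17 LD2_c36 LD3_c33)) = (LP (LK LD1_c9 LD2_c34 LD3_c36)) :=
  Lgr Lrot117 (Lpr_dt (K23.f327474 IH) (Lpr_at (f354900 IH) (Lpr_dt (f233979 IH) (Lpn (LP (LK LD1_c9 LD2_c34 LD3_c36))))))
theorem f354920 : Led Lsl_ft (LP (LK LD1_c17 LD2_c38 LD3_c14)) = (LP (LK LD1_c9 LD2_c34 LD3_c36)) :=
  Lre_f IH (LK LD1_c17 LD2_c38 LD3_c14) (LK LD1_c9 LD2_c34 LD3_c36) Lrfl Lrfl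
theorem f354923 : Led Lsl_gf (LP (LK LD1_c16 LD2_c17 LD3_c4)) = (LP (LK LD1_c17 LD2_c38 LD3_c14)) :=
  Lgr Lrot47 (Lpr_gt (K23.f328047 IH) (Lpr_af (f354905 IH) (Lpe (f354920 IH) (Lpn (LP (LK LD1_c17 LD2_c38 LD3_c14))))))
theorem f328068 : Led Lsl_dt (LP (LK LD1_c9 LD2_c34 LD3_c37)) = (LP (LK LD1_c17 LD2_c38 LD3_c14)) :=
  Lre_d IH (LK LD1_c9 LD2_c34 LD3_c37) (LK LD1_c17 LD2_c38 LD3_c14) Lrfl Lrfl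
theorem f354896 : Led Lsl_at (LP (LK LD1_c16 LD2_c8 LD3_c5)) = (LP (LK LD1_c9 LD2_c34 LD3_c37)) :=
  Lgr Lrot100 (Lpr_af (f354894 IH) (Lpn (LP (LK LD1_c9 LD2_c34 LD3_c37))))
theorem f171394 : Led Lsl_ct (LP (LK LD1_c16 LD2_c8 LD3_c5)) = (LP (LK LD1_c8 LD2_c36 LD3_c38)) :=
  Lre_c IH (LK LD1_c16 LD2_c8 LD3_c5) (LK LD1_c8 LD2_c36 LD3_c38) Lrfl Lrfl
theorem f354863 : Led Lsl_ff (LP (LK LD1_c16 LD2_c8 LD3_c5)) = (LP (LK LD1_c9 LD2_c33 LD3_c47)) :=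
  Lgr Lrot23 (Lpr_ct (f171394 IH) (Lpr_ft (K25.f354784 IH) (Lpr_ct (K21.f199651 IH) (Lpn (LP (LK LD1_c9 LD2_c33 LD3_c47))))))
theorem f184381 : Led Lsl_gt (LP (LK LD1_c9 LD2_c33 LD3_c47)) = (LP (LK LD1_c17 LD2_c36 LD3_c32)) :=
  Lre_g IH (LK LD1_c9 LD2_c33 LD3_c47) (LK LD1_c17 LD2_c36 LD3_c32) Lrfl Lrfl
theorem f354973 : Led Lsl_gt (LP (LK LD1_c17 LD2_c36 LD3_c32)) = (LP (LK LD1_c9 LD2_c34 LD3_c37)) :=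
  Lgr Lrot46 (Lpe (f184381 IH) (Lpe (f354863 IH) (Lpr_at (f354896 IH) (Lpn (LP (LK LD1_c9 LD2_c34 LD3_c37))))))
theorem f354990 : Led Lsl_cf (LP (LK LD1_c17 LD2_c36 LD3_c32)) = (LP (LK LD1_c9 LD2_c34 LD3_c13)) :=
  Lgr Lrot166 (Lpr_gt (f354973 IH) (Lpr_dt (f328068 IH) (Lpe (f354923 IH) (Lpr_dt (f312136 IH) (Lpr_ct (K23.f216785 IH) (Lpe (K20.f216784 IH) (Lpr_gf (K20.f320813 IH) (Lpe (K12.f228985 IH) (Lpr_gf (f354985 IH) (Lpn (LP (LK LD1_c9 LD2_c34 LD3_c13))))))))))))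
theorem f362440 : Led Lsl_gf (LP (LK LD1_c8 LD2_c24 LD3_c41)) = (LP (LK LD1_c9 LD2_c34 LD3_c9)) :=
  Lgr Lrot124 (Lpe (f362439 IH) (Lpr_ct (f166950 IH) (Lpr_gt (f362435 IH) (Lpe (K25.f45764 IH) (Lpr_bt (K14.f187147 IH) (Lpr_gt (K18.f186906 IH) (Lpe (f354990 IH) (Lpr_gt (f354973 IH) (Lpe (K22.f328067 IH) (Lpr_bt (K22.f333321 IH) (Lpn (LP (LK LD1_c9 LD2_c34 LD3_c9)))))))))))))
theorem f305804 : Led Lsl_et (LP (LK LD1_c15 LD2_c48 LD3_c49)) = (LP (LK LD1_c8 LD2_c24 LD3_c41)) :=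
  Lre_e IH (LK LD1_c15 LD2_c48 LD3_c49) (LK LD1_c8 LD2_c24 LD3_c41) Lrfl Lrfl
theorem f305789 : Led Lsl_bt (LP (LK LD1_c8 LD2_c24 LD3_c44)) = (LP (LK LD1_c15 LD2_c48 LD3_c49)) :=
  Lre_b IH (LK LD1_c8 LD2_c24 LD3_c44) (LK LD1_c15 LD2_c48 LD3_c49) Lrfl Lrfl
theorem f305790 : Led Lsl_bt (LP (LK LD1_c16 LD2_c7 LD3_c60)) = (LP (LK LD1_c8 LD2_c36 LD3_c32)) :=
  Lre_b IH (LK LD1_c16 LD2_c7 LD3_c60) (LK LD1_c8 LD2_c36 LD3_c32) Lrfl Lrfl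
theorem f305791 : Led Lsl_dt (LP (LK LD1_c15 LD2_c48 LD3_c49)) = (LP (LK LD1_c16 LD2_c7 LD3_c60)) :=
  Lgr Lrot79 (Lpe (f305789 IH) (Lpr_df (K25.f305778 IH) (Lpe (f305790 IH) (Lpn (LP (LK LD1_c16 LD2_c7 LD3_c60))))))
theorem f327969 : Led Lsl_bt (LP (LK LD1_c9 LD2_c34 LD3_c9)) = (LP (LK LD1_c4 LD2_c51 LD3_c17)) :=
  Lre_b IH (LK LD1_c9 LD2_c34 LD3_c9) (LK LD1_c4 LD2_c51 LD3_c17) Lrfl Lrfl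
theorem f326421 : Led Lsl_bf (LP (LK LD1_c10 LD2_c50 LD3_c22)) = (LP (LK LD1_c8 LD2_c37 LD3_c37)) :=
  Lgr Lrot24 (Lpr_bt (K21.f326419 IH) (Lpn (LP (LK LD1_c8 LD2_c37 LD3_c37))))
theorem f327970 : Led Lsl_ef (LP (LK LD1_c9 LD2_c34 LD3_c9)) = (LP (LK LD1_c10 LD2_c50 LD3_c22)) :=
  Lgr Lrot29 (Lpr_bt (f327969 IH) (Lpr_et (K21.f327967 IH) (Lpe (f326421 IH) (Lpn (LP (LK LD1_c10 LD2_c50 LD3_c22))))))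
theorem f360511 : Led Lsl_et (LP (LK LD1_c10 LD2_c24 LD3_c7)) = (LP (LK LD1_c18 LD2_c52 LD3_c29)) :=
  Lre_e IH (LK LD1_c10 LD2_c24 LD3_c7) (LK LD1_c18 LD2_c52 LD3_c29) Lrfl Lrfl
theorem f360512 : Led Lsl_gf (LP (LK LD1_c18 LD2_c52 LD3_c58)) = (LP (LK LD1_c18 LD2_c52 LD3_c29)) :=
  Lgr Lrot138 (Lpr_dt (K25.f32947 IH) (Lpe (K23.f222466 IH) (Lpe (K15.f222454 IH) (Lpr_et (K15.f222456 IH) (Lpe (K13.f232126 IH) (Lpe (K23.f54046 IH) (Lpr_dt (K22.f232107 IH) (Lpr_gt (K25.f356756 IH) (Lpr_df (f360504 IH) (Lpr_et (f360511 IH) (Lpn (LP (LK LD1_c18 LD2_c52 LD3_c29)))))))))))))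
theorem f348287 : Led Lsl_ct (LP (LK LD1_c18 LD2_c52 LD3_c58)) = (LP (LK LD1_c26 LD2_c41 LD3_c37)) :=
  Lgr Lrot59 (Lpr_cf (K25.f348285 IH) (Lpn (LP (LK LD1_c26 LD2_c41 LD3_c37))))
theorem f324168 : Led Lsl_ct (LP (LK LD1_c25 LD2_c24 LD3_c21)) = (LP (LK LD1_c15 LD2_c31 LD3_c18)) :=
  Lre_c IH (LK LD1_c25 LD2_c24 LD3_c21) (LK LD1_c15 LD2_c31 LD3_c18) Lrfl Lrfl
theorem f28089 : Led Lsl_ct (LP (LK LD1_c25 LD2_c5 LD3_c57)) = (LP (LK LD1_c15 LD2_c16 LD3_c2)) :=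
  Lre_c IH (LK LD1_c25 LD2_c5 LD3_c57) (LK LD1_c15 LD2_c16 LD3_c2) Lrfl Lrfl
theorem f50233 : Led Lsl_ff (LP (LK LD1_c25 LD2_c5 LD3_c57)) = (LP (LK LD1_c25 LD2_c25 LD3_c17)) :=
  Lgr Lrot23 (Lpr_ct (f28089 IH) (Lpr_ft (K9.f50226 IH) (Lpr_ct (K12.f50092 IH) (Lpn (LP (LK LD1_c25 LD2_c25 LD3_c17))))))
theorem f50242 : Led Lsl_ft (LP (LK LD1_c25 LD2_c5 LD3_c57)) = (LP (LK LD1_c25 LD2_c25 LD3_c17)) :=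
  Lgr Lrot48 (Lpr_ff (f50233 IH) (Lpn (LP (LK LD1_c25 LD2_c25 LD3_c17))))
theorem f50244 : Led Lsl_af (LP (LK LD1_c25 LD2_c26 LD3_c51)) = (LP (LK LD1_c25 LD2_c25 LD3_c17)) :=
  Lgr Lrot109 (Lpe (K12.f49753 IH) (Lpe (K20.f50098 IH) (Lpe (K9.f49770 IH) (Lpr_df (K9.f50089 IH) (Lpe (K9.f50099 IH) (Lpe (K9.f49757 IH) (Lpe (K9.f49760 IH) (Lpe (K9.f50220 IH) (Lpr_ft (f50242 IH) (Lpn (LP (LK LD1_c25 LD2_c25 LD3_c17))))))))))))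
theorem f50222 : Led Lsl_df (LP (LK LD1_c25 LD2_c5 LD3_c57)) = (LP (LK LD1_c25 LD2_c26 LD3_c51)) :=
  Lgr Lrot43 (Lpr_ct (f28089 IH) (Lpr_dt (K9.f28088 IH) (Lpr_ct (K9.f28087 IH) (Lpe (K9.f27984 IH) (Lpr_ct (K9.f28084 IH) (Lpr_dt (K9.f28085 IH) (Lpr_ct (K9.f28086 IH) (Lpr_dt (K9.f50220 IH) (Lpr_ct (K9.f49760 IH) (Lpr_dt (K9.f49757 IH) (Lpr_ct (K9.f50099 IH) (Lpe (K9.f50089 IH) (Lpr_ct (K9.f49770 IH) (Lpr_dt (K20.f50098 IH) (Lpr_ct (K12.f49753 IH) (Lpn (LP (LK LD1_c25 LD2_c26 LD3_c51))))))))))))))))))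
theorem f217181 : Led Lsl_at (LP (LK LD1_c25 LD2_c5 LD3_c57)) = (LP (LK LD1_c19 LD2_c34 LD3_c61)) :=
  Lgr Lrot51 (Lpr_df (f50222 IH) (Lpr_af (f50244 IH) (Lpr_df (K12.f217179 IH) (Lpn (LP (LK LD1_c19 LD2_c34 LD3_c61))))))
theorem f217193 : Led Lsl_gt (LP (LK LD1_c28 LD2_c56 LD3_c48)) = (LP (LK LD1_c19 LD2_c34 LD3_c61)) :=
  Lre_g IH (LK LD1_c28 LD2_c56 LD3_c48) (LK LD1_c19 LD2_c34 LD3_c61) Lrfl Lrfl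
theorem f217289 : Led Lsl_gt (LP (LK LD1_c25 LD2_c25 LD3_c17)) = (LP (LK LD1_c28 LD2_c56 LD3_c48)) :=
  Lgr Lrot5 (Lpe (f50233 IH) (Lpr_at (f217181 IH) (Lpe (f217193 IH) (Lpn (LP (LK LD1_c28 LD2_c56 LD3_c48))))))
theorem f352282 : Led Lsl_cf (LP (LK LD1_c19 LD2_c45 LD3_c3)) = (LP (LK LD1_c28 LD2_c56 LD3_c48)) :=
  Lgr Lrot99 (Lpe (K23.f337729 IH) (Lpe (K25.f330132 IH) (Lpr_gf (K25.f340852 IH) (Lpe (f324168 IH) (Lpr_gf (K25.f352280 IH) (Lpe (f337817 IH) (Lpe (K23.f217287 IH) (Lpr_ct (K12.f50092 IH) (Lpr_gt (f217289 IH) (Lpn (LP (LK LD1_c28 LD2_c56 LD3_c48))))))))))))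
theorem f340990 : Led Lsl_dt (LP (LK LD1_c8 LD2_c59 LD3_c47)) = (LP (LK LD1_c16 LD2_c49 LD3_c8)) :=
  Lre_d IH (LK LD1_c8 LD2_c59 LD3_c47) (LK LD1_c16 LD2_c49 LD3_c8) Lrfl Lrfl
theorem f340992 : Led Lsl_ct (LP (LK LD1_c16 LD2_c49 LD3_c8)) = (LP (LK LD1_c26 LD2_c46 LD3_c42)) :=
  Lre_c IH (LK LD1_c16 LD2_c49 LD3_c8) (LK LD1_c26 LD2_c46 LD3_c42) Lrfl Lrfl
theorem f352290 : Led Lsl_df (LP (LK LD1_c26 LD2_c46 LD3_c42)) = (LP (LK LD1_c28 LD2_c56 LD3_c48)) :=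
  Lgr Lrot84 (Lpe (f340992 IH) (Lpe (f340990 IH) (Lpr_gf (K23.f340986 IH) (Lpe (K23.f213066 IH) (Lpe (K23.f213073 IH) (Lpr_cf (f352282 IH) (Lpr_gt (f217193 IH) (Lpe (K12.f217179 IH) (Lpr_gt (f217289 IH) (Lpn (LP (LK LD1_c28 LD2_c56 LD3_c48))))))))))))
theorem f352292 : Led Lsl_dt (LP (LK LD1_c26 LD2_c46 LD3_c42)) = (LP (LK LD1_c28 LD2_c56 LD3_c48)) :=
  Lgr Lrot42 (Lpr_df (f352290 IH) (Lpn (LP (LK LD1_c28 LD2_c56 LD3_c48))))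
theorem f352294 : Led Lsl_gt (LP (LK LD1_c32 LD2_c15 LD3_c52)) = (LP (LK LD1_c26 LD2_c46 LD3_c42)) :=
  Lre_g IH (LK LD1_c32 LD2_c15 LD3_c52) (LK LD1_c26 LD2_c46 LD3_c42) Lrfl Lrfl
theorem f217282 : Led Lsl_dt (LP (LK LD1_c19 LD2_c34 LD3_c54)) = (LP (LK LD1_c10 LD2_c49 LD3_c59)) :=
  Lre_d IH (LK LD1_c19 LD2_c34 LD3_c54) (LK LD1_c10 LD2_c49 LD3_c59) Lrfl Lrfl
theorem f337792 : Led Lsl_gt (LP (LK LD1_c28 LD2_c56 LD3_c44)) = (LP (LK LD1_c19 LD2_c34 LD3_c54)) :=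
  Lre_g IH (LK LD1_c28 LD2_c56 LD3_c44) (LK LD1_c19 LD2_c34 LD3_c54) Lrfl Lrfl
theorem f352299 : Led Lsl_cf (LP (LK LD1_c32 LD2_c15 LD3_c52)) = (LP (LK LD1_c28 LD2_c56 LD3_c44)) :=
  Lgr Lrot166 (Lpr_gt (f352294 IH) (Lpr_dt (f352292 IH) (Lpr_gt (f217193 IH) (Lpe (K12.f217179 IH) (Lpr_ct (K12.f49752 IH) (Lpe (K9.f49756 IH) (Lpr_gf (K25.f337794 IH) (Lpe (f217282 IH) (Lpe (f337792 IH) (Lpn (LP (LK LD1_c28 LD2_c56 LD3_c44))))))))))))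
theorem f340993 : Led Lsl_ct (LP (LK LD1_c26 LD2_c46 LD3_c42)) = (LP (LK LD1_c16 LD2_c49 LD3_c8)) :=
  Lre_c IH (LK LD1_c26 LD2_c46 LD3_c42) (LK LD1_c16 LD2_c49 LD3_c8) Lrfl Lrfl
theorem f8630 : Led Lsl_dt (LP (LK LD1_c16 LD2_c49 LD3_c8)) = (LP (LK LD1_c8 LD2_c59 LD3_c47)) :=
  Lre_d IH (LK LD1_c16 LD2_c49 LD3_c8) (LK LD1_c8 LD2_c59 LD3_c47) Lrfl Lrfl
theorem f337837 : Led Lsl_dt (LP (LK LD1_c10 LD2_c49 LD3_c60)) = (LP (LK LD1_c19 LD2_c34 LD3_c57)) :=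
  Lre_d IH (LK LD1_c10 LD2_c49 LD3_c60) (LK LD1_c19 LD2_c34 LD3_c57) Lrfl Lrfl
theorem f352301 : Led Lsl_gt (LP (LK LD1_c19 LD2_c34 LD3_c57)) = (LP (LK LD1_c28 LD2_c56 LD3_c44)) :=
  Lgr Lrot9 (Lpe (f337837 IH) (Lpr_gt (f217199 IH) (Lpr_ct (K23.f217166 IH) (Lpe (K23.f340340 IH) (Lpr_ct (K23.f8632 IH) (Lpe (f8630 IH) (Lpe (f340993 IH) (Lpe (f352294 IH) (Lpr_cf (f352299 IH) (Lpn (LP (LK LD1_c28 LD2_c56 LD3_c44))))))))))))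
theorem f323487 : Led Lsl_ct (LP (LK LD1_c11 LD2_c2 LD3_c26)) = (LP (LK LD1_c19 LD2_c53 LD3_c43)) :=
  Lre_c IH (LK LD1_c11 LD2_c2 LD3_c26) (LK LD1_c19 LD2_c53 LD3_c43) Lrfl Lrfl
theorem f352303 : Led Lsl_df (LP (LK LD1_c19 LD2_c53 LD3_c43)) = (LP (LK LD1_c28 LD2_c56 LD3_c44)) :=
  Lgr Lrot84 (Lpe (f323487 IH) (Lpe (K21.f323503 IH) (Lpe (K23.f330142 IH) (Lpe (K23.f330131 IH) (Lpr_gf (K23.f330129 IH) (Lpe (K9.f49769 IH) (Lpr_gt (f348311 IH) (Lpr_dt (f337837 IH) (Lpr_gt (f352301 IH) (Lpn (LP (LK LD1_c28 LD2_c56 LD3_c44))))))))))))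
theorem f352305 : Led Lsl_dt (LP (LK LD1_c19 LD2_c53 LD3_c43)) = (LP (LK LD1_c28 LD2_c56 LD3_c44)) :=
  Lgr Lrot42 (Lpr_df (f352303 IH) (Lpn (LP (LK LD1_c28 LD2_c56 LD3_c44))))
theorem f352307 : Led Lsl_gf (LP (LK LD1_c19 LD2_c53 LD3_c43)) = (LP (LK LD1_c28 LD2_c53 LD3_c49)) :=
  Lgr Lrot144 (Lpr_dt (f352305 IH) (Lpr_gt (f337792 IH) (Lpr_dt (f217282 IH) (Lpe (K23.f337782 IH) (Lpe (K15.f32945 IH) (Lpr_gf (K25.f189682 IH) (Lpe (K23.f189744 IH) (Lpe (K23.f222248 IH) (Lpe (K23.f324162 IH) (Lpn (LP (LK LD1_c28 LD2_c53 LD3_c49))))))))))))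
theorem f352295 : Led Lsl_ct (LP (LK LD1_c32 LD2_c15 LD3_c52)) = (LP (LK LD1_c28 LD2_c56 LD3_c44)) :=
  Lgr Lrot8 (Lpr_gt (f352294 IH) (Lpr_dt (f352292 IH) (Lpr_gt (f217193 IH) (Lpe (K12.f217179 IH) (Lpe (K12.f50092 IH) (Lpe (K9.f49756 IH) (Lpr_gf (K25.f337794 IH) (Lpe (f217282 IH) (Lpe (f337792 IH) (Lpn (LP (LK LD1_c28 LD2_c56 LD3_c44))))))))))))
theorem f352288 : Led Lsl_ct (LP (LK LD1_c19 LD2_c45 LD3_c3)) = (LP (LK LD1_c28 LD2_c56 LD3_c48)) :=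
  Lgr Lrot59 (Lpr_cf (f352282 IH) (Lpn (LP (LK LD1_c28 LD2_c56 LD3_c48))))
theorem f323516 : Led Lsl_ct (LP (LK LD1_c19 LD2_c53 LD3_c41)) = (LP (LK LD1_c11 LD2_c2 LD3_c24)) :=
  Lre_c IH (LK LD1_c19 LD2_c53 LD3_c41) (LK LD1_c11 LD2_c2 LD3_c24) Lrfl Lrfl
theorem f337717 : Led Lsl_gt (LP (LK LD1_c19 LD2_c53 LD3_c41)) = (LP (LK LD1_c29 LD2_c9 LD3_c29)) :=
  Lre_g IH (LK LD1_c19 LD2_c53 LD3_c41) (LK LD1_c29 LD2_c9 LD3_c29) Lrfl Lrfl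
theorem f352297 : Led Lsl_df (LP (LK LD1_c32 LD2_c15 LD3_c52)) = (LP (LK LD1_c29 LD2_c9 LD3_c29)) :=
  Lgr Lrot153 (Lpr_gt (f352294 IH) (Lpr_dt (f352292 IH) (Lpe (f352288 IH) (Lpe (K23.f337729 IH) (Lpr_gf (K23.f337727 IH) (Lpe (K23.f337713 IH) (Lpe (K23.f337706 IH) (Lpe (f323516 IH) (Lpr_gt (f337717 IH) (Lpn (LP (LK LD1_c29 LD2_c9 LD3_c29))))))))))))
theorem f337707 : Led Lsl_dt (LP (LK LD1_c29 LD2_c9 LD3_c31)) = (LP (LK LD1_c19 LD2_c53 LD3_c41)) :=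
  Lre_d IH (LK LD1_c29 LD2_c9 LD3_c31) (LK LD1_c19 LD2_c53 LD3_c41) Lrfl Lrfl
theorem f352309 : Led Lsl_gt (LP (LK LD1_c25 LD2_c5 LD3_c57)) = (LP (LK LD1_c29 LD2_c9 LD3_c31)) :=
  Lgr Lrot94 (Lpe (K9.f28086 IH) (Lpr_gt (K23.f50237 IH) (Lpr_dt (K23.f340914 IH) (Lpe (f352307 IH) (Lpr_dt (f352305 IH) (Lpe (f352295 IH) (Lpr_df (f352297 IH) (Lpe (f337717 IH) (Lpe (f337707 IH) (Lpn (LP (LK LD1_c29 LD2_c9 LD3_c31))))))))))))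
theorem f352311 : Led Lsl_gf (LP (LK LD1_c25 LD2_c26 LD3_c51)) = (LP (LK LD1_c29 LD2_c9 LD3_c31)) :=
  Lgr Lrot76 (Lpr_af (f50244 IH) (Lpe (f50242 IH) (Lpr_gt (f352309 IH) (Lpn (LP (LK LD1_c29 LD2_c9 LD3_c31))))))
theorem f51383 : Led Lsl_dt (LP (LK LD1_c25 LD2_c5 LD3_c53)) = (LP (LK LD1_c15 LD2_c16 LD3_c1)) :=
  Lre_d IH (LK LD1_c25 LD2_c5 LD3_c53) (LK LD1_c15 LD2_c16 LD3_c1) Lrfl Lrfl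
theorem f323532 : Led Lsl_dt (LP (LK LD1_c19 LD2_c53 LD3_c41)) = (LP (LK LD1_c29 LD2_c9 LD3_c31)) :=
  Lre_d IH (LK LD1_c19 LD2_c53 LD3_c41) (LK LD1_c29 LD2_c9 LD3_c31) Lrfl Lrfl
theorem f323517 : Led Lsl_gt (LP (LK LD1_c29 LD2_c9 LD3_c30)) = (LP (LK LD1_c19 LD2_c53 LD3_c41)) :=
  Lre_g IH (LK LD1_c29 LD2_c9 LD3_c30) (LK LD1_c19 LD2_c53 LD3_c41) Lrfl Lrfl
theorem f50228 : Led Lsl_dt (LP (LK LD1_c25 LD2_c5 LD3_c51)) = (LP (LK LD1_c15 LD2_c16 LD3_c0)) :=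
  Lre_d IH (LK LD1_c25 LD2_c5 LD3_c51) (LK LD1_c15 LD2_c16 LD3_c0) Lrfl Lrfl
theorem f323518 : Led Lsl_cf (LP (LK LD1_c29 LD2_c9 LD3_c30)) = (LP (LK LD1_c26 LD2_c42 LD3_c16)) :=
  Lgr Lrot169 (Lpr_gt (f323517 IH) (Lpr_ct (f323516 IH) (Lpe (K23.f323515 IH) (Lpe (K23.f8607 IH) (Lpe (K21.f323482 IH) (Lpe (K9.f50099 IH) (Lpe (K20.f50218 IH) (Lpe (f50228 IH) (Lpr_gt (K25.f323509 IH) (Lpn (LP (LK LD1_c26 LD2_c42 LD3_c16))))))))))))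
theorem f352323 : Led Lsl_gf (LP (LK LD1_c25 LD2_c5 LD3_c53)) = (LP (LK LD1_c26 LD2_c42 LD3_c16)) :=
  Lgr Lrot144 (Lpr_dt (f51383 IH) (Lpr_gt (K23.f28100 IH) (Lpr_dt (K9.f28085 IH) (Lpe (f28089 IH) (Lpr_df (f50222 IH) (Lpr_gf (f352311 IH) (Lpe (f323532 IH) (Lpe (f323517 IH) (Lpr_cf (f323518 IH) (Lpn (LP (LK LD1_c26 LD2_c42 LD3_c16))))))))))))
theorem f324173 : Led Lsl_cf (LP (LK LD1_c28 LD2_c53 LD3_c49)) = (LP (LK LD1_c19 LD2_c53 LD3_c49)) :=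
  Lgr Lrot11 (Lpr_ct (K23.f324162 IH) (Lpn (LP (LK LD1_c19 LD2_c53 LD3_c49))))
theorem f340928 : Led Lsl_ct (LP (LK LD1_c15 LD2_c16 LD3_c1)) = (LP (LK LD1_c11 LD2_c2 LD3_c32)) :=
  Lgr Lrot8 (Lpr_gt (K23.f28100 IH) (Lpr_dt (K9.f28085 IH) (Lpr_gt (K23.f50237 IH) (Lpr_dt (K23.f340914 IH) (Lpr_cf (f324173 IH) (Lpe (K23.f213070 IH) (Lpe (K20.f213044 IH) (Lpr_df (K19.f212853 IH) (Lpe (K19.f213071 IH) (Lpn (LP (LK LD1_c11 LD2_c2 LD3_c32))))))))))))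
theorem f352325 : Led Lsl_gt (LP (LK LD1_c26 LD2_c41 LD3_c37)) = (LP (LK LD1_c16 LD2_c43 LD3_c27)) :=
  Lgr Lrot94 (Lpe (f348287 IH) (Lpr_gt (K23.f223249 IH) (Lpr_dt (K23.f189755 IH) (Lpe (K23.f223103 IH) (Lpr_dt (K19.f213072 IH) (Lpe (f340928 IH) (Lpe (f51383 IH) (Lpr_gf (f352323 IH) (Lpe (K25.f323521 IH) (Lpn (LP (LK LD1_c16 LD2_c43 LD3_c27))))))))))))
theorem f356762 : Led Lsl_dt (LP (LK LD1_c8 LD2_c17 LD3_c15)) = (LP (LK LD1_c8 LD2_c9 LD3_c51)) :=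
  Lgr Lrot42 (Lpr_df (K25.f356760 IH) (Lpn (LP (LK LD1_c8 LD2_c9 LD3_c51))))
theorem f356764 : Led Lsl_et (LP (LK LD1_c8 LD2_c17 LD3_c15)) = (LP (LK LD1_c15 LD2_c35 LD3_c4)) :=
  Lre_e IH (LK LD1_c8 LD2_c17 LD3_c15) (LK LD1_c15 LD2_c35 LD3_c4) Lrfl Lrfl
theorem f356773 : Led Lsl_gf (LP (LK LD1_c19 LD2_c53 LD3_c49)) = (LP (LK LD1_c15 LD2_c35 LD3_c4)) :=
  Lgr Lrot138 (Lpr_dt (K23.f213045 IH) (Lpe (K20.f213756 IH) (Lpr_df (K10.f32934 IH) (Lpr_et (K12.f32949 IH) (Lpr_gt (K10.f32953 IH) (Lpe (K10.f32954 IH) (Lpr_dt (K23.f191736 IH) (Lpr_gt (K25.f356765 IH) (Lpe (f356762 IH) (Lpr_et (f356764 IH) (Lpn (LP (LK LD1_c15 LD2_c35 LD3_c4)))))))))))))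
theorem f360518 : Led Lsl_df (LP (LK LD1_c15 LD2_c35 LD3_c4)) = (LP (LK LD1_c18 LD2_c52 LD3_c29)) :=
  Lgr Lrot155 (Lpe (f356773 IH) (Lpe (f324173 IH) (Lpe (f352307 IH) (Lpr_ct (K23.f323484 IH) (Lpe (K23.f323497 IH) (Lpe (K23.f323505 IH) (Lpe (f352325 IH) (Lpe (f348287 IH) (Lpr_gf (f360512 IH) (Lpn (LP (LK LD1_c18 LD2_c52 LD3_c29))))))))))))
theorem f217618 : Led Lsl_et (LP (LK LD1_c18 LD2_c52 LD3_c29)) = (LP (LK LD1_c10 LD2_c24 LD3_c7)) :=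
  Lre_e IH (LK LD1_c18 LD2_c52 LD3_c29) (LK LD1_c10 LD2_c24 LD3_c7) Lrfl Lrfl
theorem f360521 : Led Lsl_gf (LP (LK LD1_c15 LD2_c35 LD3_c4)) = (LP (LK LD1_c19 LD2_c53 LD3_c50)) :=
  Lgr Lrot134 (Lpr_df (f360518 IH) (Lpr_et (f217618 IH) (Lpr_gt (f217519 IH) (Lpe (K15.f54044 IH) (Lpr_dt (K13.f49112 IH) (Lpr_gt (K10.f32906 IH) (Lpe (K13.f32898 IH) (Lpr_et (K10.f32951 IH) (Lpe (K19.f222457 IH) (Lpr_dt (K20.f213107 IH) (Lpn (LP (LK LD1_c19 LD2_c53 LD3_c50)))))))))))))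
theorem f347062 : Led Lsl_bt (LP (LK LD1_c8 LD2_c9 LD3_c51)) = (LP (LK LD1_c4 LD2_c4 LD3_c27)) :=
  Lre_b IH (LK LD1_c8 LD2_c9 LD3_c51) (LK LD1_c4 LD2_c4 LD3_c27) Lrfl Lrfl
theorem f347064 : Led Lsl_ef (LP (LK LD1_c8 LD2_c9 LD3_c51)) = (LP (LK LD1_c11 LD2_c56 LD3_c61)) :=
  Lgr Lrot29 (Lpr_bt (f347062 IH) (Lpr_et (K23.f347060 IH) (Lpr_bt (K25.f347063 IH) (Lpn (LP (LK LD1_c11 LD2_c56 LD3_c61))))))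
theorem f360508 : Led Lsl_dt (LP (LK LD1_c15 LD2_c35 LD3_c4)) = (LP (LK LD1_c18 LD2_c52 LD3_c29)) :=
  Lgr Lrot77 (Lpe (f356764 IH) (Lpr_df (K25.f356760 IH) (Lpr_ef (f347064 IH) (Lpr_df (f360504 IH) (Lpe (f217618 IH) (Lpn (LP (LK LD1_c18 LD2_c52 LD3_c29))))))))
theorem f301173 : Led Lsl_et (LP (LK LD1_c18 LD2_c51 LD3_c26)) = (LP (LK LD1_c26 LD2_c5 LD3_c44)) :=
  Lgr Lrot87 (Lpr_ef (K23.f301169 IH) (Lpn (LP (LK LD1_c26 LD2_c5 LD3_c44))))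
theorem f349733 : Led Lsl_et (LP (LK LD1_c25 LD2_c36 LD3_c41)) = (LP (LK LD1_c15 LD2_c41 LD3_c8)) :=
  Lre_e IH (LK LD1_c25 LD2_c36 LD3_c41) (LK LD1_c15 LD2_c41 LD3_c8) Lrfl Lrfl
theorem f349741 : Led Lsl_df (LP (LK LD1_c25 LD2_c36 LD3_c41)) = (LP (LK LD1_c18 LD2_c51 LD3_c26)) :=
  Lgr Lrot70 (Lpr_et (f349733 IH) (Lpr_dt (K23.f349740 IH) (Lpr_et (K23.f349736 IH) (Lpr_dt (K23.f243417 IH) (Lpe (K23.f301169 IH) (Lpn (LP (LK LD1_c18 LD2_c51 LD3_c26))))))))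
theorem f301099 : Led Lsl_dt (LP (LK LD1_c15 LD2_c34 LD3_c55)) = (LP (LK LD1_c17 LD2_c43 LD3_c22)) :=
  Lgr Lrot42 (Lpr_df (K19.f301097 IH) (Lpn (LP (LK LD1_c17 LD2_c43 LD3_c22))))
theorem f360525 : Led Lsl_gt (LP (LK LD1_c25 LD2_c36 LD3_c41)) = (LP (LK LD1_c17 LD2_c43 LD3_c22)) :=
  Lgr Lrot112 (Lpr_df (f349741 IH) (Lpr_et (f301173 IH) (Lpe (f353566 IH) (Lpe (K23.f344802 IH) (Lpr_dt (K23.f32944 IH) (Lpr_gf (f360512 IH) (Lpe (f360508 IH) (Lpr_gf (f360521 IH) (Lpr_ef (K20.f246716 IH) (Lpr_dt (f301099 IH) (Lpn (LP (LK LD1_c17 LD2_c43 LD3_c22)))))))))))))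
theorem f349758 : Led Lsl_et (LP (LK LD1_c15 LD2_c41 LD3_c8)) = (LP (LK LD1_c25 LD2_c36 LD3_c41)) :=
  Lre_e IH (LK LD1_c15 LD2_c41 LD3_c8) (LK LD1_c25 LD2_c36 LD3_c41) Lrfl Lrfl
theorem f362449 : Led Lsl_gt (LP (LK LD1_c16 LD2_c7 LD3_c60)) = (LP (LK LD1_c25 LD2_c36 LD3_c40)) :=
  Lgr Lrot112 (Lpe (f305791 IH) (Lpr_et (f305804 IH) (Lpr_gf (f362440 IH) (Lpr_ef (f327970 IH) (Lpe (K21.f311804 IH) (Lpr_gf (K19.f311806 IH) (Lpr_df (K19.f301097 IH) (Lpe (f360525 IH) (Lpe (f349758 IH) (Lpr_dt (K23.f349740 IH) (Lpn (LP (LK LD1_c25 LD2_c36 LD3_c40)))))))))))))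
theorem f170376 : Led Lsl_dt (LP (LK LD1_c9 LD2_c37 LD3_c43)) = (LP (LK LD1_c17 LD2_c43 LD3_c21)) :=
  Lre_d IH (LK LD1_c9 LD2_c37 LD3_c43) (LK LD1_c17 LD2_c43 LD3_c21) Lrfl Lrfl
theorem f353572 : Led Lsl_gt (LP (LK LD1_c17 LD2_c43 LD3_c21)) = (LP (LK LD1_c18 LD2_c52 LD3_c37)) :=
  Lgr Lrot131 (Lpe (K20.f301102 IH) (Lpr_dt (K20.f213107 IH) (Lpr_gf (K23.f223103 IH) (Lpe (K23.f189755 IH) (Lpe (K23.f223249 IH) (Lpr_ef (K25.f344808 IH) (Lpr_dt (K23.f344777 IH) (Lpr_gf (K25.f353570 IH) (Lpe (K25.f343744 IH) (Lpr_et (K23.f301110 IH) (Lpn (LP (LK LD1_c18 LD2_c52 LD3_c37)))))))))))))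
theorem f362453 : Led Lsl_gf (LP (LK LD1_c15 LD2_c48 LD3_c49)) = (LP (LK LD1_c17 LD2_c44 LD3_c54)) :=
  Lgr Lrot138 (Lpr_dt (f305791 IH) (Lpr_gt (f362449 IH) (Lpe (K23.f349740 IH) (Lpr_et (f349758 IH) (Lpr_gt (f360525 IH) (Lpe (K20.f301101 IH) (Lpr_dt (f170376 IH) (Lpr_gt (f353572 IH) (Lpe (K23.f301108 IH) (Lpr_et (K23.f343754 IH) (Lpn (LP (LK LD1_c17 LD2_c44 LD3_c54)))))))))))))
theorem f305800 : Led Lsl_df (LP (LK LD1_c15 LD2_c48 LD3_c49)) = (LP (LK LD1_c16 LD2_c7 LD3_c60)) :=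
  Lgr Lrot38 (Lpr_dt (f305791 IH) (Lpn (LP (LK LD1_c16 LD2_c7 LD3_c60))))
theorem f305803 : Led Lsl_et (LP (LK LD1_c16 LD2_c7 LD3_c60)) = (LP (LK LD1_c8 LD2_c36 LD3_c29)) :=
  Lre_e IH (LK LD1_c16 LD2_c7 LD3_c60) (LK LD1_c8 LD2_c36 LD3_c29) Lrfl Lrfl
theorem f259288 : Led Lsl_et (LP (LK LD1_c8 LD2_c24 LD3_c17)) = (LP (LK LD1_c4 LD2_c12 LD3_c21)) :=
  Lre_e IH (LK LD1_c8 LD2_c24 LD3_c17) (LK LD1_c4 LD2_c12 LD3_c21) Lrfl Lrfl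
theorem f189433 : Led Lsl_gt (LP (LK LD1_c11 LD2_c2 LD3_c57)) = (LP (LK LD1_c5 LD2_c35 LD3_c24)) :=
  Lre_g IH (LK LD1_c11 LD2_c2 LD3_c57) (LK LD1_c5 LD2_c35 LD3_c24) Lrfl Lrfl
theorem f189434 : Led Lsl_dt (LP (LK LD1_c19 LD2_c54 LD3_c25)) = (LP (LK LD1_c11 LD2_c2 LD3_c57)) :=
  Lre_d IH (LK LD1_c19 LD2_c54 LD3_c25) (LK LD1_c11 LD2_c2 LD3_c57) Lrfl Lrfl
theorem f361702 : Led Lsl_gf (LP (LK LD1_c19 LD2_c54 LD3_c25)) = (LP (LK LD1_c18 LD2_c52 LD3_c36)) :=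
  Lgr Lrot138 (Lpr_dt (f189434 IH) (Lpr_gt (f189433 IH) (Lpr_df (K19.f189398 IH) (Lpr_et (K13.f167390 IH) (Lpe (K19.f271579 IH) (Lpe (f259288 IH) (Lpe (K16.f271061 IH) (Lpr_gt (f259528 IH) (Lpe (f271069 IH) (Lpr_et (f361696 IH) (Lpn (LP (LK LD1_c18 LD2_c52 LD3_c36)))))))))))))
theorem f361704 : Led Lsl_ef (LP (LK LD1_c19 LD2_c54 LD3_c25)) = (LP (LK LD1_c16 LD2_c0 LD3_c30)) :=
  Lgr Lrot17 (Lpr_gf (f361702 IH) (Lpe (f361696 IH) (Lpr_dt (f271069 IH) (Lpe (f259528 IH) (Lpr_df (K16.f271061 IH) (Lpe (K17.f271043 IH) (Lpe (f287058 IH) (Lpr_dt (K17.f193214 IH) (Lpe (f358884 IH) (Lpe (f348363 IH) (Lpn (LP (LK LD1_c16 LD2_c0 LD3_c30)))))))))))))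
theorem f361738 : Led Lsl_gt (LP (LK LD1_c19 LD2_c54 LD3_c25)) = (LP (LK LD1_c17 LD2_c44 LD3_c55)) :=
  Lgr Lrot137 (Lpr_ef (f361704 IH) (Lpr_dt (f348363 IH) (Lpe (f49504 IH) (Lpe (f287011 IH) (Lpr_et (K17.f219940 IH) (Lpe (K14.f234655 IH) (Lpe (K19.f234679 IH) (Lpe (f251711 IH) (Lpe (K23.f191404 IH) (Lpr_df (K25.f343758 IH) (Lpn (LP (LK LD1_c17 LD2_c44 LD3_c55)))))))))))))
theorem f362455 : Led Lsl_gt (LP (LK LD1_c8 LD2_c36 LD3_c29)) = (LP (LK LD1_c8 LD2_c6 LD3_c2)) :=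
  Lgr Lrot137 (Lpe (f305803 IH) (Lpe (f305800 IH) (Lpr_gf (f362453 IH) (Lpe (K25.f343763 IH) (Lpr_et (K25.f343757 IH) (Lpe (f361738 IH) (Lpr_ef (f361704 IH) (Lpr_dt (f348363 IH) (Lpe (f49504 IH) (Lpe (f287011 IH) (Lpn (LP (LK LD1_c8 LD2_c6 LD3_c2)))))))))))))
theorem f170512 : Led Lsl_gt (LP (LK LD1_c5 LD2_c0 LD3_c61)) = (LP (LK LD1_c9 LD2_c52 LD3_c24)) :=
  Lre_g IH (LK LD1_c5 LD2_c0 LD3_c61) (LK LD1_c9 LD2_c52 LD3_c24) Lrfl Lrfl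
theorem f362466 : Led Lsl_df (LP (LK LD1_c8 LD2_c36 LD3_c29)) = (LP (LK LD1_c9 LD2_c52 LD3_c24)) :=
  Lgr Lrot135 (Lpr_gt (f362455 IH) (Lpe (f219941 IH) (Lpr_et (K17.f49487 IH) (Lpr_gt (K10.f45731 IH) (Lpe (K8.f49206 IH) (Lpr_dt (K9.f49117 IH) (Lpe (K9.f184110 IH) (Lpe (K14.f165863 IH) (Lpr_et (K16.f170503 IH) (Lpr_gt (f170512 IH) (Lpn (LP (LK LD1_c9 LD2_c52 LD3_c24)))))))))))))
theorem f49498 : Led Lsl_dt (LP (LK LD1_c18 LD2_c45 LD3_c2)) = (LP (LK LD1_c10 LD2_c19 LD3_c42)) :=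
  Lre_d IH (LK LD1_c18 LD2_c45 LD3_c2) (LK LD1_c10 LD2_c19 LD3_c42) Lrfl Lrfl
theorem f170499 : Led Lsl_ct (LP (LK LD1_c9 LD2_c52 LD3_c23)) = (LP (LK LD1_c5 LD2_c0 LD3_c61)) :=
  Lre_c IH (LK LD1_c9 LD2_c52 LD3_c23) (LK LD1_c5 LD2_c0 LD3_c61) Lrfl Lrfl
theorem f185615 : Led Lsl_ct (LP (LK LD1_c5 LD2_c5 LD3_c46)) = (LP (LK LD1_c10 LD2_c2 LD3_c35)) :=
  Lre_c IH (LK LD1_c5 LD2_c5 LD3_c46) (LK LD1_c10 LD2_c2 LD3_c35) Lrfl Lrfl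
theorem f327625 : Led Lsl_bt (LP (LK LD1_c17 LD2_c45 LD3_c45)) = (LP (LK LD1_c9 LD2_c52 LD3_c25)) :=
  Lgr Lrot127 (Lpr_bf (f327619 IH) (Lpn (LP (LK LD1_c9 LD2_c52 LD3_c25))))
theorem f170546 : Led Lsl_ct (LP (LK LD1_c5 LD2_c0 LD3_c61)) = (LP (LK LD1_c9 LD2_c52 LD3_c23)) :=
  Lre_c IH (LK LD1_c5 LD2_c0 LD3_c61) (LK LD1_c9 LD2_c52 LD3_c23) Lrfl Lrfl
theorem f333358 : Led Lsl_gf (LP (LK LD1_c10 LD2_c2 LD3_c35)) = (LP (LK LD1_c9 LD2_c52 LD3_c23)) :=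
  Lgr Lrot129 (Lpe (f185615 IH) (Lpr_bt (f178562 IH) (Lpr_gt (K22.f333355 IH) (Lpe (K22.f200256 IH) (Lpr_ct (K18.f200244 IH) (Lpr_gt (K22.f300339 IH) (Lpr_cf (K22.f327493 IH) (Lpr_bt (f327625 IH) (Lpr_gt (K22.f170511 IH) (Lpr_ct (f170546 IH) (Lpn (LP (LK LD1_c9 LD2_c52 LD3_c23)))))))))))))
theorem f361209 : Led Lsl_dt (LP (LK LD1_c10 LD2_c2 LD3_c35)) = (LP (LK LD1_c18 LD2_c20 LD3_c59)) :=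
  Lre_d IH (LK LD1_c10 LD2_c2 LD3_c35) (LK LD1_c18 LD2_c20 LD3_c59) Lrfl Lrfl
theorem f362510 : Led Lsl_gf (LP (LK LD1_c18 LD2_c45 LD3_c2)) = (LP (LK LD1_c18 LD2_c20 LD3_c59)) :=
  Lgr Lrot143 (Lpr_dt (f49498 IH) (Lpr_cf (K17.f49496 IH) (Lpe (f287011 IH) (Lpe (f362455 IH) (Lpr_df (f362466 IH) (Lpe (f170512 IH) (Lpe (f170499 IH) (Lpe (f333358 IH) (Lpr_dt (f361209 IH) (Lpn (LP (LK LD1_c18 LD2_c20 LD3_c59))))))))))))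
theorem f48411 : Led Lsl_dt (LP (LK LD1_c5 LD2_c16 LD3_c3)) = (LP (LK LD1_c10 LD2_c21 LD3_c37)) :=
  Lre_d IH (LK LD1_c5 LD2_c16 LD3_c3) (LK LD1_c10 LD2_c21 LD3_c37) Lrfl Lrfl
theorem f350786 : Led Lsl_af (LP (LK LD1_c18 LD2_c45 LD3_c2)) = (LP (LK LD1_c10 LD2_c21 LD3_c37)) :=
  Lgr Lrot117 (Lpr_dt (f49498 IH) (Lpr_at (f350780 IH) (Lpr_dt (f48411 IH) (Lpn (LP (LK LD1_c10 LD2_c21 LD3_c37))))))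
theorem f180826 : Led Lsl_ft (LP (LK LD1_c18 LD2_c48 LD3_c17)) = (LP (LK LD1_c10 LD2_c21 LD3_c37)) :=
  Lre_f IH (LK LD1_c18 LD2_c48 LD3_c17) (LK LD1_c10 LD2_c21 LD3_c37) Lrfl Lrfl
theorem f362512 : Led Lsl_gt (LP (LK LD1_c18 LD2_c48 LD3_c17)) = (LP (LK LD1_c18 LD2_c20 LD3_c59)) :=
  Lgr Lrot5 (Lpr_ft (f180826 IH) (Lpe (f350786 IH) (Lpr_gf (f362510 IH) (Lpn (LP (LK LD1_c18 LD2_c20 LD3_c59))))))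
theorem f180817 : Led Lsl_dt (LP (LK LD1_c10 LD2_c21 LD3_c38)) = (LP (LK LD1_c18 LD2_c48 LD3_c17)) :=
  Lre_d IH (LK LD1_c10 LD2_c21 LD3_c38) (LK LD1_c18 LD2_c48 LD3_c17) Lrfl Lrfl
theorem f333357 : Led Lsl_dt (LP (LK LD1_c18 LD2_c20 LD3_c59)) = (LP (LK LD1_c10 LD2_c2 LD3_c35)) :=
  Lre_d IH (LK LD1_c18 LD2_c20 LD3_c59) (LK LD1_c10 LD2_c2 LD3_c35) Lrfl Lrfl
theorem f362229 : Led Lsl_df (LP (LK LD1_c5 LD2_c5 LD3_c46)) = (LP (LK LD1_c4 LD2_c8 LD3_c48)) :=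
  Lgr Lrot135 (Lpr_gt (f361207 IH) (Lpe (K16.f49058 IH) (Lpe (K16.f273522 IH) (Lpr_gt (K25.f323235 IH) (Lpe (K20.f250733 IH) (Lpr_dt (K20.f236020 IH) (Lpe (K20.f323217 IH) (Lpe (K20.f323178 IH) (Lpr_et (K21.f328540 IH) (Lpr_gt (f362220 IH) (Lpn (LP (LK LD1_c4 LD2_c8 LD3_c48)))))))))))))
theorem f285680 : Led Lsl_ct (LP (LK LD1_c15 LD2_c36 LD3_c8)) = (LP (LK LD1_c8 LD2_c17 LD3_c48)) :=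
  Lre_c IH (LK LD1_c15 LD2_c36 LD3_c8) (LK LD1_c8 LD2_c17 LD3_c48) Lrfl Lrfl
theorem f362515 : Led Lsl_gf (LP (LK LD1_c10 LD2_c21 LD3_c38)) = (LP (LK LD1_c15 LD2_c36 LD3_c8)) :=
  Lgr Lrot144 (Lpr_dt (f180817 IH) (Lpr_gt (f362512 IH) (Lpr_dt (f333357 IH) (Lpe (f185615 IH) (Lpr_df (f362229 IH) (Lpe (f362220 IH) (Lpe (K12.f47617 IH) (Lpe (f328553 IH) (Lpe (f285680 IH) (Lpn (LP (LK LD1_c15 LD2_c36 LD3_c8))))))))))))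
theorem f180815 : Led Lsl_ct (LP (LK LD1_c10 LD2_c21 LD3_c38)) = (LP (LK LD1_c15 LD2_c11 LD3_c40)) :=
  Lgr Lrot59 (Lpr_cf (f180802 IH) (Lpn (LP (LK LD1_c15 LD2_c11 LD3_c40))))
theorem f229034 : Led Lsl_ct (LP (LK LD1_c8 LD2_c17 LD3_c48)) = (LP (LK LD1_c15 LD2_c36 LD3_c8)) :=
  Lre_c IH (LK LD1_c8 LD2_c17 LD3_c48) (LK LD1_c15 LD2_c36 LD3_c8) Lrfl Lrfl
theorem f646 : Led Lsl_ct (LP (LK LD1_c4 LD2_c8 LD3_c47)) = (LP (LK LD1_c8 LD2_c17 LD3_c44)) :=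
  Lre_c IH (LK LD1_c4 LD2_c8 LD3_c47) (LK LD1_c8 LD2_c17 LD3_c44) Lrfl Lrfl
theorem f703 : Led Lsl_gt (LP (LK LD1_c8 LD2_c17 LD3_c44)) = (LP (LK LD1_c15 LD2_c36 LD3_c1)) :=
  Lre_g IH (LK LD1_c8 LD2_c17 LD3_c44) (LK LD1_c15 LD2_c36 LD3_c1) Lrfl Lrfl
theorem f362522 : Led Lsl_cf (LP (LK LD1_c8 LD2_c42 LD3_c38)) = (LP (LK LD1_c15 LD2_c36 LD3_c1)) :=
  Lgr Lrot99 (Lpr_df (K14.f193224 IH) (Lpe (f180815 IH) (Lpr_gf (f362515 IH) (Lpe (f229034 IH) (Lpe (K21.f220184 IH) (Lpe (K23.f220183 IH) (Lpr_gt (K13.f598 IH) (Lpr_ct (f646 IH) (Lpr_gt (f703 IH) (Lpn (LP (LK LD1_c15 LD2_c36 LD3_c1))))))))))))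
theorem f180818 : Led Lsl_ct (LP (LK LD1_c18 LD2_c48 LD3_c17)) = (LP (LK LD1_c28 LD2_c17 LD3_c49)) :=
  Lre_c IH (LK LD1_c18 LD2_c48 LD3_c17) (LK LD1_c28 LD2_c17 LD3_c49) Lrfl Lrfl
theorem f49513 : Led Lsl_ct (LP (LK LD1_c18 LD2_c45 LD3_c2)) = (LP (LK LD1_c28 LD2_c14 LD3_c55)) :=
  Lre_c IH (LK LD1_c18 LD2_c45 LD3_c2) (LK LD1_c28 LD2_c14 LD3_c55) Lrfl Lrfl
theorem f180798 : Led Lsl_ct (LP (LK LD1_c18 LD2_c48 LD3_c16)) = (LP (LK LD1_c10 LD2_c21 LD3_c37)) :=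
  Lre_c IH (LK LD1_c18 LD2_c48 LD3_c16) (LK LD1_c10 LD2_c21 LD3_c37) Lrfl Lrfl
theorem f350791 : Led Lsl_at (LP (LK LD1_c28 LD2_c14 LD3_c55)) = (LP (LK LD1_c18 LD2_c48 LD3_c16)) :=
  Lgr Lrot107 (Lpe (f49513 IH) (Lpr_af (f350786 IH) (Lpe (f180798 IH) (Lpn (LP (LK LD1_c18 LD2_c48 LD3_c16))))))
theorem f350793 : Led Lsl_af (LP (LK LD1_c28 LD2_c14 LD3_c55)) = (LP (LK LD1_c18 LD2_c48 LD3_c16)) :=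
  Lgr Lrot0 (Lpr_at (f350791 IH) (Lpn (LP (LK LD1_c18 LD2_c48 LD3_c16))))
theorem f48794 : Led Lsl_dt (LP (LK LD1_c10 LD2_c19 LD3_c42)) = (LP (LK LD1_c18 LD2_c45 LD3_c2)) :=
  Lre_d IH (LK LD1_c10 LD2_c19 LD3_c42) (LK LD1_c18 LD2_c45 LD3_c2) Lrfl Lrfl
theorem f219993 : Led Lsl_dt (LP (LK LD1_c25 LD2_c4 LD3_c7)) = (LP (LK LD1_c15 LD2_c15 LD3_c2)) :=
  Lre_d IH (LK LD1_c25 LD2_c4 LD3_c7) (LK LD1_c15 LD2_c15 LD3_c2) Lrfl Lrfl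
theorem f219988 : Led Lsl_ct (LP (LK LD1_c31 LD2_c45 LD3_c23)) = (LP (LK LD1_c25 LD2_c4 LD3_c7)) :=
  Lre_c IH (LK LD1_c31 LD2_c45 LD3_c23) (LK LD1_c25 LD2_c4 LD3_c7) Lrfl Lrfl
theorem f350796 : Led Lsl_ft (LP (LK LD1_c28 LD2_c17 LD3_c49)) = (LP (LK LD1_c18 LD2_c48 LD3_c16)) :=
  Lre_f IH (LK LD1_c28 LD2_c17 LD3_c49) (LK LD1_c18 LD2_c48 LD3_c16) Lrfl Lrfl
theorem f350797 : Led Lsl_df (LP (LK LD1_c31 LD2_c45 LD3_c23)) = (LP (LK LD1_c28 LD2_c17 LD3_c49)) :=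
  Lgr Lrot157 (Lpr_ct (f219988 IH) (Lpr_dt (f219993 IH) (Lpr_ct (K23.f219965 IH) (Lpr_dt (f287011 IH) (Lpe (K17.f49496 IH) (Lpr_dt (f48794 IH) (Lpr_ct (f49513 IH) (Lpr_af (f350793 IH) (Lpe (f350796 IH) (Lpn (LP (LK LD1_c28 LD2_c17 LD3_c49))))))))))))
theorem f350795 : Led Lsl_ft (LP (LK LD1_c18 LD2_c48 LD3_c16)) = (LP (LK LD1_c28 LD2_c17 LD3_c49)) :=
  Lre_f IH (LK LD1_c18 LD2_c48 LD3_c16) (LK LD1_c28 LD2_c17 LD3_c49) Lrfl Lrfl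
theorem f180799 : Led Lsl_dt (LP (LK LD1_c28 LD2_c17 LD3_c48)) = (LP (LK LD1_c18 LD2_c48 LD3_c16)) :=
  Lre_d IH (LK LD1_c28 LD2_c17 LD3_c48) (LK LD1_c18 LD2_c48 LD3_c16) Lrfl Lrfl
theorem f350801 : Led Lsl_ft (LP (LK LD1_c31 LD2_c45 LD3_c23)) = (LP (LK LD1_c28 LD2_c17 LD3_c48)) :=
  Lgr Lrot54 (Lpr_df (f350797 IH) (Lpe (f350795 IH) (Lpe (f180799 IH) (Lpn (LP (LK LD1_c28 LD2_c17 LD3_c48))))))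
theorem f350803 : Led Lsl_ff (LP (LK LD1_c31 LD2_c45 LD3_c23)) = (LP (LK LD1_c28 LD2_c17 LD3_c48)) :=
  Lgr Lrot3 (Lpr_ft (f350801 IH) (Lpn (LP (LK LD1_c28 LD2_c17 LD3_c48))))
theorem f180797 : Led Lsl_dt (LP (LK LD1_c10 LD2_c21 LD3_c37)) = (LP (LK LD1_c5 LD2_c16 LD3_c3)) :=
  Lre_d IH (LK LD1_c10 LD2_c21 LD3_c37) (LK LD1_c5 LD2_c16 LD3_c3) Lrfl Lrfl
theorem f193257 : Led Lsl_ct (LP (LK LD1_c16 LD2_c19 LD3_c1)) = (LP (LK LD1_c26 LD2_c16 LD3_c52)) :=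
  Lre_c IH (LK LD1_c16 LD2_c19 LD3_c1) (LK LD1_c26 LD2_c16 LD3_c52) Lrfl Lrfl
theorem f350805 : Led Lsl_at (LP (LK LD1_c31 LD2_c45 LD3_c23)) = (LP (LK LD1_c26 LD2_c16 LD3_c52)) :=
  Lgr Lrot33 (Lpr_ff (f350803 IH) (Lpr_dt (f180799 IH) (Lpr_ct (f180798 IH) (Lpr_dt (f180797 IH) (Lpr_ct (K25.f180777 IH) (Lpe (K23.f193199 IH) (Lpr_ct (K23.f193255 IH) (Lpr_dt (K23.f193256 IH) (Lpr_ct (f193257 IH) (Lpn (LP (LK LD1_c26 LD2_c16 LD3_c52))))))))))))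
theorem f219998 : Led Lsl_ct (LP (LK LD1_c25 LD2_c4 LD3_c7)) = (LP (LK LD1_c31 LD2_c45 LD3_c23)) :=
  Lre_c IH (LK LD1_c25 LD2_c4 LD3_c7) (LK LD1_c31 LD2_c45 LD3_c23) Lrfl Lrfl
theorem f193232 : Led Lsl_ct (LP (LK LD1_c26 LD2_c16 LD3_c52)) = (LP (LK LD1_c16 LD2_c19 LD3_c1)) :=
  Lre_c IH (LK LD1_c26 LD2_c16 LD3_c52) (LK LD1_c16 LD2_c19 LD3_c1) Lrfl Lrfl
theorem f350809 : Led Lsl_af (LP (LK LD1_c25 LD2_c4 LD3_c7)) = (LP (LK LD1_c16 LD2_c19 LD3_c1)) :=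
  Lgr Lrot68 (Lpr_ct (f219998 IH) (Lpr_at (f350805 IH) (Lpr_ct (f193232 IH) (Lpn (LP (LK LD1_c16 LD2_c19 LD3_c1))))))
theorem f360969 : Led Lsl_dt (LP (LK LD1_c25 LD2_c30 LD3_c46)) = (LP (LK LD1_c15 LD2_c36 LD3_c1)) :=
  Lre_d IH (LK LD1_c25 LD2_c30 LD3_c46) (LK LD1_c15 LD2_c36 LD3_c1) Lrfl Lrfl
theorem f362535 : Led Lsl_ff (LP (LK LD1_c16 LD2_c19 LD3_c1)) = (LP (LK LD1_c25 LD2_c30 LD3_c46)) :=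
  Lgr Lrot103 (Lpe (f350809 IH) (Lpe (f219988 IH) (Lpr_df (f350797 IH) (Lpe (f180818 IH) (Lpe (f180817 IH) (Lpr_cf (f180802 IH) (Lpe (K17.f193214 IH) (Lpr_cf (f362522 IH) (Lpe (f360969 IH) (Lpn (LP (LK LD1_c25 LD2_c30 LD3_c46))))))))))))
theorem f304484 : Led Lsl_ct (LP (LK LD1_c4 LD2_c11 LD3_c41)) = (LP (LK LD1_c8 LD2_c22 LD3_c58)) :=
  Lre_c IH (LK LD1_c4 LD2_c11 LD3_c41) (LK LD1_c8 LD2_c22 LD3_c58) Lrfl Lrfl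
theorem f200285 : Led Lsl_dt (LP (LK LD1_c15 LD2_c46 LD3_c17)) = (LP (LK LD1_c8 LD2_c22 LD3_c58)) :=
  Lre_d IH (LK LD1_c15 LD2_c46 LD3_c17) (LK LD1_c8 LD2_c22 LD3_c58) Lrfl Lrfl
theorem f640 : Led Lsl_ct (LP (LK LD1_c8 LD2_c17 LD3_c44)) = (LP (LK LD1_c4 LD2_c8 LD3_c47)) :=
  Lre_c IH (LK LD1_c8 LD2_c17 LD3_c44) (LK LD1_c4 LD2_c8 LD3_c47) Lrfl Lrfl
theorem f704 : Led Lsl_dt (LP (LK LD1_c15 LD2_c36 LD3_c1)) = (LP (LK LD1_c25 LD2_c30 LD3_c46)) :=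
  Lre_d IH (LK LD1_c15 LD2_c36 LD3_c1) (LK LD1_c25 LD2_c30 LD3_c46) Lrfl Lrfl
theorem f360967 : Led Lsl_gf (LP (LK LD1_c15 LD2_c46 LD3_c17)) = (LP (LK LD1_c25 LD2_c30 LD3_c46)) :=
  Lgr Lrot143 (Lpr_dt (f200285 IH) (Lpe (f304484 IH) (Lpe (f333685 IH) (Lpr_gf (f360917 IH) (Lpr_df (K12.f47591 IH) (Lpe (f336199 IH) (Lpe (f640 IH) (Lpr_gt (f703 IH) (Lpr_dt (f704 IH) (Lpn (LP (LK LD1_c25 LD2_c30 LD3_c46))))))))))))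
theorem f362542 : Led Lsl_gf (LP (LK LD1_c25 LD2_c4 LD3_c7)) = (LP (LK LD1_c15 LD2_c46 LD3_c17)) :=
  Lgr Lrot76 (Lpr_af (f350809 IH) (Lpr_ff (f362535 IH) (Lpe (f360967 IH) (Lpn (LP (LK LD1_c15 LD2_c46 LD3_c17))))))
theorem f360897 : Led Lsl_dt (LP (LK LD1_c8 LD2_c22 LD3_c58)) = (LP (LK LD1_c15 LD2_c46 LD3_c17)) :=
  Lre_d IH (LK LD1_c8 LD2_c22 LD3_c58) (LK LD1_c15 LD2_c46 LD3_c17) Lrfl Lrfl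
theorem f362544 : Led Lsl_ef (LP (LK LD1_c8 LD2_c34 LD3_c46)) = (LP (LK LD1_c8 LD2_c22 LD3_c58)) :=
  Lgr Lrot17 (Lpr_gf (K22.f316216 IH) (Lpe (K16.f170338 IH) (Lpr_dt (K15.f1302 IH) (Lpr_gf (K13.f234178 IH) (Lpe (K13.f216855 IH) (Lpr_gf (K13.f220491 IH) (Lpe (K23.f220001 IH) (Lpr_dt (K19.f219981 IH) (Lpr_gf (f362542 IH) (Lpe (f360897 IH) (Lpn (LP (LK LD1_c8 LD2_c22 LD3_c58)))))))))))))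
theorem f273708 : Led Lsl_dt (LP (LK LD1_c8 LD2_c19 LD3_c31)) = (LP (LK LD1_c15 LD2_c39 LD3_c45)) :=
  Lre_d IH (LK LD1_c8 LD2_c19 LD3_c31) (LK LD1_c15 LD2_c39 LD3_c45) Lrfl Lrfl
theorem f362550 : Led Lsl_ef (LP (LK LD1_c10 LD2_c50 LD3_c35)) = (LP (LK LD1_c15 LD2_c36 LD3_c1)) :=
  Lgr Lrot17 (Lpe (K18.f298728 IH) (Lpr_ef (K20.f295795 IH) (Lpr_dt (K20.f298734 IH) (Lpr_gf (K20.f273729 IH) (Lpe (f273708 IH) (Lpe (K22.f316214 IH) (Lpr_ef (f362544 IH) (Lpr_dt (f360897 IH) (Lpr_gf (f360967 IH) (Lpe (f704 IH) (Lpn (LP (LK LD1_c15 LD2_c36 LD3_c1)))))))))))))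
theorem f362526 : Led Lsl_bt (LP (LK LD1_c25 LD2_c30 LD3_c45)) = (LP (LK LD1_c15 LD2_c36 LD3_c1)) :=
  Lre_b IH (LK LD1_c25 LD2_c30 LD3_c45) (LK LD1_c15 LD2_c36 LD3_c1) Lrfl Lrfl
theorem f362552 : Led Lsl_et (LP (LK LD1_c19 LD2_c36 LD3_c1)) = (LP (LK LD1_c25 LD2_c30 LD3_c45)) :=
  Lgr Lrot74 (Lpe (K18.f168400 IH) (Lpr_ef (f362550 IH) (Lpe (f362526 IH) (Lpn (LP (LK LD1_c25 LD2_c30 LD3_c45))))))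
theorem f168411 : Led Lsl_ft (LP (LK LD1_c10 LD2_c50 LD3_c33)) = (LP (LK LD1_c19 LD2_c36 LD3_c1)) :=
  Lre_f IH (LK LD1_c10 LD2_c50 LD3_c33) (LK LD1_c19 LD2_c36 LD3_c1) Lrfl Lrfl
theorem f297609 : Led Lsl_et (LP (LK LD1_c16 LD2_c19 LD3_c0)) = (LP (LK LD1_c8 LD2_c42 LD3_c34)) :=
  Lre_e IH (LK LD1_c16 LD2_c19 LD3_c0) (LK LD1_c8 LD2_c42 LD3_c34) Lrfl Lrfl
theorem f362561 : Led Lsl_ff (LP (LK LD1_c16 LD2_c19 LD3_c0)) = (LP (LK LD1_c25 LD2_c30 LD3_c45)) :=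
  Lgr Lrot72 (Lpr_et (f297609 IH) (Lpe (K18.f297535 IH) (Lpr_et (K18.f168434 IH) (Lpr_ft (f168411 IH) (Lpr_et (f362552 IH) (Lpn (LP (LK LD1_c25 LD2_c30 LD3_c45))))))))
theorem f362566 : Led Lsl_ft (LP (LK LD1_c16 LD2_c19 LD3_c0)) = (LP (LK LD1_c25 LD2_c30 LD3_c45)) :=
  Lgr Lrot48 (Lpr_ff (f362561 IH) (Lpn (LP (LK LD1_c25 LD2_c30 LD3_c45))))
theorem f193258 : Led Lsl_bt (LP (LK LD1_c8 LD2_c42 LD3_c35)) = (LP (LK LD1_c16 LD2_c19 LD3_c0)) :=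
  Lre_b IH (LK LD1_c8 LD2_c42 LD3_c35) (LK LD1_c16 LD2_c19 LD3_c0) Lrfl Lrfl
theorem f362572 : Led Lsl_ff (LP (LK LD1_c8 LD2_c42 LD3_c35)) = (LP (LK LD1_c15 LD2_c36 LD3_c1)) :=
  Lgr Lrot25 (Lpr_bt (f193258 IH) (Lpr_ft (f362566 IH) (Lpr_bt (f362526 IH) (Lpn (LP (LK LD1_c15 LD2_c36 LD3_c1))))))
theorem f297687 : Led Lsl_af (LP (LK LD1_c15 LD2_c15 LD3_c2)) = (LP (LK LD1_c8 LD2_c42 LD3_c35)) :=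
  Lgr Lrot68 (Lpr_ct (K23.f219965 IH) (Lpr_at (K18.f297685 IH) (Lpr_ct (K23.f193255 IH) (Lpn (LP (LK LD1_c8 LD2_c42 LD3_c35))))))
theorem f362576 : Led Lsl_gf (LP (LK LD1_c8 LD2_c17 LD3_c46)) = (LP (LK LD1_c15 LD2_c36 LD3_c1)) :=
  Lgr Lrot47 (Lpe (f362222 IH) (Lpr_af (f297687 IH) (Lpr_ff (f362572 IH) (Lpn (LP (LK LD1_c15 LD2_c36 LD3_c1))))))
theorem f285681 : Led Lsl_ct (LP (LK LD1_c8 LD2_c17 LD3_c46)) = (LP (LK LD1_c4 LD2_c8 LD3_c48)) :=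
  Lre_c IH (LK LD1_c8 LD2_c17 LD3_c46) (LK LD1_c4 LD2_c8 LD3_c48) Lrfl Lrfl
theorem f347590 : Led Lsl_gt (LP (LK LD1_c25 LD2_c30 LD3_c40)) = (LP (LK LD1_c15 LD2_c35 LD3_c61)) :=
  Lre_g IH (LK LD1_c25 LD2_c30 LD3_c40) (LK LD1_c15 LD2_c35 LD3_c61) Lrfl Lrfl
theorem f362579 : Led Lsl_cf (LP (LK LD1_c25 LD2_c30 LD3_c40)) = (LP (LK LD1_c15 LD2_c46 LD3_c17)) :=
  Lgr Lrot169 (Lpr_gt (f347590 IH) (Lpr_ct (K23.f347579 IH) (Lpe (K23.f250908 IH) (Lpe (K23.f613 IH) (Lpe (f1360 IH) (Lpe (f285681 IH) (Lpr_gf (f362576 IH) (Lpe (f360969 IH) (Lpe (f360967 IH) (Lpn (LP (LK LD1_c15 LD2_c46 LD3_c17))))))))))))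
theorem f362584 : Led Lsl_ct (LP (LK LD1_c25 LD2_c30 LD3_c40)) = (LP (LK LD1_c15 LD2_c46 LD3_c17)) :=
  Lgr Lrot59 (Lpr_cf (f362579 IH) (Lpn (LP (LK LD1_c15 LD2_c46 LD3_c17))))
theorem f347608 : Led Lsl_gf (LP (LK LD1_c25 LD2_c30 LD3_c40)) = (LP (LK LD1_c31 LD2_c54 LD3_c7)) :=
  Lgr Lrot47 (Lpr_gt (f347590 IH) (Lpr_af (K23.f347600 IH) (Lpe (K23.f347596 IH) (Lpn (LP (LK LD1_c31 LD2_c54 LD3_c7))))))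
theorem f47631 : Led Lsl_ct (LP (LK LD1_c25 LD2_c27 LD3_c8)) = (LP (LK LD1_c31 LD2_c54 LD3_c7)) :=
  Lre_c IH (LK LD1_c25 LD2_c27 LD3_c8) (LK LD1_c31 LD2_c54 LD3_c7) Lrfl Lrfl
theorem f339567 : Led Lsl_gt (LP (LK LD1_c8 LD2_c17 LD3_c42)) = (LP (LK LD1_c15 LD2_c35 LD3_c59)) :=
  Lre_g IH (LK LD1_c8 LD2_c17 LD3_c42) (LK LD1_c15 LD2_c35 LD3_c59) Lrfl Lrfl
theorem f347635 : Led Lsl_gt (LP (LK LD1_c15 LD2_c35 LD3_c59)) = (LP (LK LD1_c25 LD2_c27 LD3_c8)) :=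
  Lgr Lrot46 (Lpe (f339567 IH) (Lpr_ft (f347574 IH) (Lpr_at (f347575 IH) (Lpn (LP (LK LD1_c25 LD2_c27 LD3_c8))))))
theorem f49040 : Led Lsl_ct (LP (LK LD1_c8 LD2_c29 LD3_c55)) = (LP (LK LD1_c4 LD2_c15 LD3_c30)) :=
  Lre_c IH (LK LD1_c8 LD2_c29 LD3_c55) (LK LD1_c4 LD2_c15 LD3_c30) Lrfl Lrfl
theorem f222140 : Led Lsl_gt (LP (LK LD1_c8 LD2_c29 LD3_c55)) = (LP (LK LD1_c15 LD2_c57 LD3_c24)) :=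
  Lre_g IH (LK LD1_c8 LD2_c29 LD3_c55) (LK LD1_c15 LD2_c57 LD3_c24) Lrfl Lrfl
theorem f347638 : Led Lsl_df (LP (LK LD1_c15 LD2_c35 LD3_c59)) = (LP (LK LD1_c15 LD2_c57 LD3_c24)) :=
  Lgr Lrot153 (Lpr_gt (f347635 IH) (Lpr_dt (K23.f47615 IH) (Lpe (K21.f47629 IH) (Lpe (K12.f47617 IH) (Lpe (f328553 IH) (Lpe (K23.f285585 IH) (Lpe (K21.f49051 IH) (Lpe (f49040 IH) (Lpr_gt (f222140 IH) (Lpn (LP (LK LD1_c15 LD2_c57 LD3_c24))))))))))))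
theorem f347645 : Led Lsl_dt (LP (LK LD1_c15 LD2_c35 LD3_c59)) = (LP (LK LD1_c15 LD2_c57 LD3_c24)) :=
  Lgr Lrot42 (Lpr_df (f347638 IH) (Lpn (LP (LK LD1_c15 LD2_c57 LD3_c24))))
theorem f273530 : Led Lsl_ct (LP (LK LD1_c8 LD2_c31 LD3_c45)) = (LP (LK LD1_c4 LD2_c16 LD3_c20)) :=
  Lre_c IH (LK LD1_c8 LD2_c31 LD3_c45) (LK LD1_c4 LD2_c16 LD3_c20) Lrfl Lrfl
theorem f362587 : Led Lsl_gt (LP (LK LD1_c15 LD2_c57 LD3_c24)) = (LP (LK LD1_c8 LD2_c31 LD3_c45)) :=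
  Lgr Lrot9 (Lpe (f347645 IH) (Lpr_gt (f347635 IH) (Lpr_ct (f47631 IH) (Lpe (f347608 IH) (Lpr_ct (f362584 IH) (Lpe (f360897 IH) (Lpe (f304484 IH) (Lpr_gf (f360893 IH) (Lpe (f273530 IH) (Lpn (LP (LK LD1_c8 LD2_c31 LD3_c45))))))))))))
theorem f351237 : Led Lsl_df (LP (LK LD1_c16 LD2_c3 LD3_c57)) = (LP (LK LD1_c25 LD2_c57 LD3_c54)) :=
  Lgr Lrot38 (Lpr_dt (K25.f351231 IH) (Lpn (LP (LK LD1_c25 LD2_c57 LD3_c54))))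
theorem f170430 : Led Lsl_gt (LP (LK LD1_c8 LD2_c32 LD3_c7)) = (LP (LK LD1_c16 LD2_c1 LD3_c33)) :=
  Lre_g IH (LK LD1_c8 LD2_c32 LD3_c7) (LK LD1_c16 LD2_c1 LD3_c33) Lrfl Lrfl
theorem f358997 : Led Lsl_df (LP (LK LD1_c15 LD2_c11 LD3_c38)) = (LP (LK LD1_c16 LD2_c1 LD3_c33)) :=
  Lgr Lrot153 (Lpr_gt (f358814 IH) (Lpe (K17.f287018 IH) (Lpe (K23.f349830 IH) (Lpr_df (f351237 IH) (Lpe (K25.f333086 IH) (Lpe (K24.f273542 IH) (Lpe (K25.f351226 IH) (Lpe (K25.f170420 IH) (Lpr_gt (f170430 IH) (Lpn (LP (LK LD1_c16 LD2_c1 LD3_c33))))))))))))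
theorem f170497 : Led Lsl_et (LP (LK LD1_c4 LD2_c16 LD3_c26)) = (LP (LK LD1_c8 LD2_c32 LD3_c7)) :=
  Lre_e IH (LK LD1_c4 LD2_c16 LD3_c26) (LK LD1_c8 LD2_c32 LD3_c7) Lrfl Lrfl
theorem f359001 : Led Lsl_gf (LP (LK LD1_c2 LD2_c28 LD3_c14)) = (LP (LK LD1_c4 LD2_c9 LD3_c6)) :=
  Lgr Lrot145 (Lpe (K16.f170505 IH) (Lpr_et (f170497 IH) (Lpr_gt (f170430 IH) (Lpe (f358997 IH) (Lpr_gt (f358814 IH) (Lpe (K17.f287020 IH) (Lpr_et (K18.f297693 IH) (Lpr_gt (K17.f263719 IH) (Lpr_ef (K21.f328403 IH) (Lpr_dt (K20.f317649 IH) (Lpn (LP (LK LD1_c4 LD2_c9 LD3_c6)))))))))))))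
theorem f232196 : Led Lsl_dt (LP (LK LD1_c25 LD2_c29 LD3_c0)) = (LP (LK LD1_c15 LD2_c34 LD3_c56)) :=
  Lre_d IH (LK LD1_c25 LD2_c29 LD3_c0) (LK LD1_c15 LD2_c34 LD3_c56) Lrfl Lrfl
theorem f359005 : Led Lsl_ef (LP (LK LD1_c16 LD2_c1 LD3_c33)) = (LP (LK LD1_c25 LD2_c29 LD3_c0)) :=
  Lgr Lrot17 (Lpe (f170430 IH) (Lpe (f170497 IH) (Lpr_dt (K16.f170505 IH) (Lpr_gf (f359001 IH) (Lpe (K20.f317649 IH) (Lpr_gf (K18.f295111 IH) (Lpe (K19.f219115 IH) (Lpr_dt (K19.f232191 IH) (Lpe (K24.f232195 IH) (Lpe (f232196 IH) (Lpn (LP (LK LD1_c25 LD2_c29 LD3_c0)))))))))))))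
theorem f359009 : Led Lsl_et (LP (LK LD1_c16 LD2_c1 LD3_c33)) = (LP (LK LD1_c25 LD2_c29 LD3_c0)) :=
  Lgr Lrot87 (Lpr_ef (f359005 IH) (Lpn (LP (LK LD1_c25 LD2_c29 LD3_c0))))
theorem f359013 : Led Lsl_gt (LP (LK LD1_c25 LD2_c23 LD3_c19)) = (LP (LK LD1_c25 LD2_c29 LD3_c0)) :=
  Lgr Lrot131 (Lpr_ef (K23.f314645 IH) (Lpr_dt (K23.f314644 IH) (Lpe (K22.f325360 IH) (Lpe (K21.f263716 IH) (Lpe (K17.f263719 IH) (Lpe (K18.f297693 IH) (Lpr_dt (K17.f287020 IH) (Lpe (f358814 IH) (Lpr_df (f358997 IH) (Lpr_et (f359009 IH) (Lpn (LP (LK LD1_c25 LD2_c29 LD3_c0)))))))))))))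
theorem f314643 : Led Lsl_dt (LP (LK LD1_c15 LD2_c30 LD3_c2)) = (LP (LK LD1_c25 LD2_c23 LD3_c19)) :=
  Lre_d IH (LK LD1_c15 LD2_c30 LD3_c2) (LK LD1_c25 LD2_c23 LD3_c19) Lrfl Lrfl
theorem f311825 : Led Lsl_dt (LP (LK LD1_c15 LD2_c34 LD3_c56)) = (LP (LK LD1_c25 LD2_c29 LD3_c0)) :=
  Lre_d IH (LK LD1_c15 LD2_c34 LD3_c56) (LK LD1_c25 LD2_c29 LD3_c0) Lrfl Lrfl
theorem f359018 : Led Lsl_ef (LP (LK LD1_c18 LD2_c33 LD3_c28)) = (LP (LK LD1_c15 LD2_c34 LD3_c56)) :=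
  Lgr Lrot114 (Lpr_gt (f358791 IH) (Lpe (K14.f49168 IH) (Lpe (K10.f49163 IH) (Lpr_gt (K23.f311503 IH) (Lpe (K19.f273655 IH) (Lpr_et (K23.f184152 IH) (Lpe (K21.f314690 IH) (Lpr_dt (f314643 IH) (Lpr_gt (f359013 IH) (Lpe (f311825 IH) (Lpn (LP (LK LD1_c15 LD2_c34 LD3_c56)))))))))))))
theorem f359022 : Led Lsl_dt (LP (LK LD1_c15 LD2_c11 LD3_c38)) = (LP (LK LD1_c16 LD2_c1 LD3_c33)) :=
  Lgr Lrot77 (Lpe (f193242 IH) (Lpe (f358797 IH) (Lpr_ef (f359018 IH) (Lpe (f232196 IH) (Lpe (f359009 IH) (Lpn (LP (LK LD1_c16 LD2_c1 LD3_c33))))))))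
theorem f359032 : Led Lsl_cf (LP (LK LD1_c15 LD2_c57 LD3_c24)) = (LP (LK LD1_c16 LD2_c1 LD3_c33)) :=
  Lgr Lrot14 (Lpe (f347645 IH) (Lpe (f339567 IH) (Lpe (K23.f250908 IH) (Lpe (K23.f234690 IH) (Lpr_ct (K23.f349771 IH) (Lpr_gt (K23.f193237 IH) (Lpr_dt (K14.f193227 IH) (Lpr_gt (f180805 IH) (Lpr_dt (f359022 IH) (Lpn (LP (LK LD1_c16 LD2_c1 LD3_c33))))))))))))
theorem f33256 : Led Lsl_gt (LP (LK LD1_c5 LD2_c8 LD3_c31)) = (LP (LK LD1_c10 LD2_c7 LD3_c24)) :=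
  Lre_g IH (LK LD1_c5 LD2_c8 LD3_c31) (LK LD1_c10 LD2_c7 LD3_c24) Lrfl Lrfl
theorem f362468 : Led Lsl_et (LP (LK LD1_c9 LD2_c52 LD3_c24)) = (LP (LK LD1_c10 LD2_c7 LD3_c24)) :=
  Lgr Lrot122 (Lpe (f362466 IH) (Lpr_gt (f362455 IH) (Lpe (f219941 IH) (Lpr_et (K17.f49487 IH) (Lpr_gt (K10.f45731 IH) (Lpr_dt (K8.f49205 IH) (Lpe (K10.f190893 IH) (Lpe (K12.f33250 IH) (Lpr_et (K15.f33267 IH) (Lpr_gt (f33256 IH) (Lpn (LP (LK LD1_c10 LD2_c7 LD3_c24)))))))))))))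
theorem f305806 : Led Lsl_et (LP (LK LD1_c8 LD2_c36 LD3_c29)) = (LP (LK LD1_c16 LD2_c7 LD3_c60)) :=
  Lre_e IH (LK LD1_c8 LD2_c36 LD3_c29) (LK LD1_c16 LD2_c7 LD3_c60) Lrfl Lrfl
theorem f243427 : Led Lsl_et (LP (LK LD1_c4 LD2_c19 LD3_c30)) = (LP (LK LD1_c8 LD2_c37 LD3_c14)) :=
  Lre_e IH (LK LD1_c4 LD2_c19 LD3_c30) (LK LD1_c8 LD2_c37 LD3_c14) Lrfl Lrfl
theorem f349745 : Led Lsl_gt (LP (LK LD1_c15 LD2_c41 LD3_c8)) = (LP (LK LD1_c8 LD2_c56 LD3_c22)) :=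
  Lgr Lrot112 (Lpe (K23.f349730 IH) (Lpr_et (K23.f349736 IH) (Lpe (K23.f243416 IH) (Lpe (f243427 IH) (Lpr_dt (K18.f283212 IH) (Lpr_gf (K15.f263680 IH) (Lpe (K16.f170505 IH) (Lpr_gf (K10.f188731 IH) (Lpe (K22.f188741 IH) (Lpr_dt (K23.f188746 IH) (Lpn (LP (LK LD1_c8 LD2_c56 LD3_c22)))))))))))))
theorem f362451 : Led Lsl_dt (LP (LK LD1_c8 LD2_c36 LD3_c29)) = (LP (LK LD1_c9 LD2_c52 LD3_c24)) :=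
  Lgr Lrot37 (Lpr_et (f305806 IH) (Lpr_gt (f362449 IH) (Lpr_dt (K23.f349730 IH) (Lpr_gt (f349745 IH) (Lpe (K23.f188746 IH) (Lpr_et (K22.f188741 IH) (Lpe (K10.f188731 IH) (Lpe (K16.f167287 IH) (Lpr_dt (K22.f170501 IH) (Lpr_gt (f170512 IH) (Lpn (LP (LK LD1_c9 LD2_c52 LD3_c24)))))))))))))
theorem f305802 : Led Lsl_et (LP (LK LD1_c8 LD2_c24 LD3_c41)) = (LP (LK LD1_c15 LD2_c48 LD3_c49)) :=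
  Lre_e IH (LK LD1_c8 LD2_c24 LD3_c41) (LK LD1_c15 LD2_c48 LD3_c49) Lrfl Lrfl
theorem f362470 : Led Lsl_df (LP (LK LD1_c8 LD2_c24 LD3_c41)) = (LP (LK LD1_c10 LD2_c7 LD3_c24)) :=
  Lgr Lrot70 (Lpr_et (f305802 IH) (Lpr_dt (f305791 IH) (Lpr_et (f305803 IH) (Lpr_dt (f362451 IH) (Lpr_et (f362468 IH) (Lpn (LP (LK LD1_c10 LD2_c7 LD3_c24))))))))
theorem f166982 : Led Lsl_ct (LP (LK LD1_c15 LD2_c48 LD3_c48)) = (LP (LK LD1_c8 LD2_c24 LD3_c41)) :=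
  Lre_c IH (LK LD1_c15 LD2_c48 LD3_c48) (LK LD1_c8 LD2_c24 LD3_c41) Lrfl Lrfl
theorem f267280 : Led Lsl_gt (LP (LK LD1_c4 LD2_c12 LD3_c28)) = (LP (LK LD1_c8 LD2_c24 LD3_c36)) :=
  Lre_g IH (LK LD1_c4 LD2_c12 LD3_c28) (LK LD1_c8 LD2_c24 LD3_c36) Lrfl Lrfl
theorem f229742 : Led Lsl_bt (LP (LK LD1_c14 LD2_c57 LD3_c13)) = (LP (LK LD1_c7 LD2_c55 LD3_c35)) :=
  Lre_b IH (LK LD1_c14 LD2_c57 LD3_c13) (LK LD1_c7 LD2_c55 LD3_c35) Lrfl Lrfl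
theorem f355846 : Led Lsl_cf (LP (LK LD1_c8 LD2_c24 LD3_c36)) = (LP (LK LD1_c14 LD2_c57 LD3_c13)) :=
  Lgr Lrot58 (Lpe (f267280 IH) (Lpe (K22.f166850 IH) (Lpr_bt (K22.f166846 IH) (Lpe (K25.f166479 IH) (Lpe (K25.f166800 IH) (Lpr_ct (K25.f166803 IH) (Lpr_gf (K25.f355842 IH) (Lpe (K13.f243100 IH) (Lpr_gf (K18.f262562 IH) (Lpe (f229742 IH) (Lpn (LP (LK LD1_c14 LD2_c57 LD3_c13)))))))))))))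
theorem f166981 : Led Lsl_bt (LP (LK LD1_c8 LD2_c24 LD3_c41)) = (LP (LK LD1_c4 LD2_c12 LD3_c30)) :=
  Lre_b IH (LK LD1_c8 LD2_c24 LD3_c41) (LK LD1_c4 LD2_c12 LD3_c30) Lrfl Lrfl
theorem f305929 : Led Lsl_ct (LP (LK LD1_c8 LD2_c24 LD3_c41)) = (LP (LK LD1_c15 LD2_c48 LD3_c48)) :=
  Lre_c IH (LK LD1_c8 LD2_c24 LD3_c41) (LK LD1_c15 LD2_c48 LD3_c48) Lrfl Lrfl
theorem f243126 : Led Lsl_ct (LP (LK LD1_c4 LD2_c15 LD3_c49)) = (LP (LK LD1_c8 LD2_c30 LD3_c37)) :=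
  Lre_c IH (LK LD1_c4 LD2_c15 LD3_c49) (LK LD1_c8 LD2_c30 LD3_c37) Lrfl Lrfl
theorem f355852 : Led Lsl_gf (LP (LK LD1_c15 LD2_c48 LD3_c48)) = (LP (LK LD1_c8 LD2_c30 LD3_c37)) :=
  Lgr Lrot126 (Lpe (f305929 IH) (Lpr_bt (f166981 IH) (Lpr_gt (K14.f166877 IH) (Lpr_ct (K22.f166850 IH) (Lpr_gt (f267280 IH) (Lpr_cf (f355846 IH) (Lpr_bt (f229742 IH) (Lpe (K18.f262562 IH) (Lpe (K13.f243115 IH) (Lpr_ct (f243126 IH) (Lpn (LP (LK LD1_c8 LD2_c30 LD3_c37)))))))))))))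
theorem f48993 : Led Lsl_gt (LP (LK LD1_c5 LD2_c15 LD3_c27)) = (LP (LK LD1_c10 LD2_c20 LD3_c13)) :=
  Lre_g IH (LK LD1_c5 LD2_c15 LD3_c27) (LK LD1_c10 LD2_c20 LD3_c13) Lrfl Lrfl
theorem f362476 : Led Lsl_ct (LP (LK LD1_c10 LD2_c20 LD3_c13)) = (LP (LK LD1_c10 LD2_c7 LD3_c24)) :=
  Lgr Lrot110 (Lpe (f48993 IH) (Lpe (K21.f47688 IH) (Lpr_gf (K25.f349879 IH) (Lpe (K25.f167592 IH) (Lpe (K25.f349885 IH) (Lpr_ct (f243126 IH) (Lpe (f355852 IH) (Lpr_ct (f166982 IH) (Lpr_df (f362470 IH) (Lpn (LP (LK LD1_c10 LD2_c7 LD3_c24))))))))))))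
theorem f49863 : Led Lsl_et (LP (LK LD1_c2 LD2_c34 LD3_c33)) = (LP (LK LD1_c5 LD2_c15 LD3_c27)) :=
  Lre_e IH (LK LD1_c2 LD2_c34 LD3_c33) (LK LD1_c5 LD2_c15 LD3_c27) Lrfl Lrfl
theorem f49864 : Led Lsl_ef (LP (LK LD1_c10 LD2_c20 LD3_c13)) = (LP (LK LD1_c10 LD2_c24 LD3_c49)) :=
  Lgr Lrot17 (Lpe (f48993 IH) (Lpe (f49863 IH) (Lpr_dt (K14.f49862 IH) (Lpe (K15.f49852 IH) (Lpe (K14.f49452 IH) (Lpr_gf (K10.f49849 IH) (Lpe (K10.f48943 IH) (Lpr_dt (K10.f47661 IH) (Lpe (K10.f47665 IH) (Lpr_df (K10.f48320 IH) (Lpn (LP (LK LD1_c10 LD2_c24 LD3_c49)))))))))))))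
theorem f362472 : Led Lsl_ef (LP (LK LD1_c9 LD2_c52 LD3_c24)) = (LP (LK LD1_c10 LD2_c7 LD3_c24)) :=
  Lgr Lrot88 (Lpr_et (f362468 IH) (Lpn (LP (LK LD1_c10 LD2_c7 LD3_c24))))
theorem f362480 : Led Lsl_cf (LP (LK LD1_c10 LD2_c24 LD3_c49)) = (LP (LK LD1_c9 LD2_c52 LD3_c24)) :=
  Lgr Lrot39 (Lpe (f49864 IH) (Lpr_ct (f362476 IH) (Lpe (f362472 IH) (Lpn (LP (LK LD1_c9 LD2_c52 LD3_c24))))))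
theorem f254552 : Led Lsl_ct (LP (LK LD1_c16 LD2_c0 LD3_c45)) = (LP (LK LD1_c8 LD2_c31 LD3_c50)) :=
  Lre_c IH (LK LD1_c16 LD2_c0 LD3_c45) (LK LD1_c8 LD2_c31 LD3_c50) Lrfl Lrfl
theorem f362589 : Led Lsl_gt (LP (LK LD1_c10 LD2_c24 LD3_c49)) = (LP (LK LD1_c16 LD2_c0 LD3_c45)) :=
  Lgr Lrot150 (Lpr_cf (f362480 IH) (Lpe (f170512 IH) (Lpe (K22.f170501 IH) (Lpr_gt (f170430 IH) (Lpe (f359032 IH) (Lpr_gt (f362587 IH) (Lpr_ct (f273530 IH) (Lpe (K16.f254540 IH) (Lpe (f254552 IH) (Lpn (LP (LK LD1_c16 LD2_c0 LD3_c45))))))))))))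
theorem f362478 : Led Lsl_cf (LP (LK LD1_c10 LD2_c20 LD3_c13)) = (LP (LK LD1_c10 LD2_c7 LD3_c24)) :=
  Lgr Lrot11 (Lpr_ct (f362476 IH) (Lpn (LP (LK LD1_c10 LD2_c7 LD3_c24))))
theorem f362486 : Led Lsl_bf (LP (LK LD1_c8 LD2_c24 LD3_c43)) = (LP (LK LD1_c10 LD2_c7 LD3_c24)) :=
  Lgr Lrot156 (Lpe (K19.f289866 IH) (Lpe (K22.f289871 IH) (Lpr_ct (K22.f289872 IH) (Lpr_gt (K25.f355835 IH) (Lpe (K25.f167450 IH) (Lpr_bt (K25.f167548 IH) (Lpe (K25.f349879 IH) (Lpr_ct (K21.f47688 IH) (Lpr_gt (f48993 IH) (Lpr_cf (f362478 IH) (Lpn (LP (LK LD1_c10 LD2_c7 LD3_c24)))))))))))))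
theorem f362490 : Led Lsl_bt (LP (LK LD1_c8 LD2_c36 LD3_c31)) = (LP (LK LD1_c9 LD2_c52 LD3_c24)) :=
  Lgr Lrot119 (Lpe (K19.f305773 IH) (Lpr_bf (f362486 IH) (Lpe (f362468 IH) (Lpn (LP (LK LD1_c9 LD2_c52 LD3_c24))))))
theorem f362492 : Led Lsl_bf (LP (LK LD1_c8 LD2_c36 LD3_c31)) = (LP (LK LD1_c9 LD2_c52 LD3_c24)) :=
  Lgr Lrot24 (Lpr_bt (f362490 IH) (Lpn (LP (LK LD1_c9 LD2_c52 LD3_c24))))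
theorem f189462 : Led Lsl_ct (LP (LK LD1_c4 LD2_c54 LD3_c6)) = (LP (LK LD1_c9 LD2_c39 LD3_c37)) :=
  Lre_c IH (LK LD1_c4 LD2_c54 LD3_c6) (LK LD1_c9 LD2_c39 LD3_c37) Lrfl Lrfl
theorem f189463 : Led Lsl_gt (LP (LK LD1_c17 LD2_c45 LD3_c58)) = (LP (LK LD1_c9 LD2_c39 LD3_c37)) :=
  Lre_g IH (LK LD1_c17 LD2_c45 LD3_c58) (LK LD1_c9 LD2_c39 LD3_c37) Lrfl Lrfl
theorem f193076 : Led Lsl_gt (LP (LK LD1_c10 LD2_c28 LD3_c5)) = (LP (LK LD1_c5 LD2_c19 LD3_c9)) :=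
  Lre_g IH (LK LD1_c10 LD2_c28 LD3_c5) (LK LD1_c5 LD2_c19 LD3_c9) Lrfl Lrfl
theorem f271400 : Led Lsl_gt (LP (LK LD1_c10 LD2_c27 LD3_c55)) = (LP (LK LD1_c10 LD2_c28 LD3_c5)) :=
  Lgr Lrot5 (Lpr_ft (K16.f254531 IH) (Lpr_at (K16.f271390 IH) (Lpe (f193076 IH) (Lpn (LP (LK LD1_c10 LD2_c28 LD3_c5))))))
theorem f362596 : Led Lsl_cf (LP (LK LD1_c17 LD2_c45 LD3_c58)) = (LP (LK LD1_c10 LD2_c28 LD3_c5)) :=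
  Lgr Lrot125 (Lpr_gt (f189463 IH) (Lpe (f189462 IH) (Lpr_bt (K18.f300066 IH) (Lpr_gt (K19.f305780 IH) (Lpr_bf (f362492 IH) (Lpe (f362480 IH) (Lpr_gt (f362589 IH) (Lpe (f254557 IH) (Lpe (K16.f254549 IH) (Lpr_gt (f271400 IH) (Lpn (LP (LK LD1_c10 LD2_c28 LD3_c5)))))))))))))
theorem f289898 : Led Lsl_gt (LP (LK LD1_c9 LD2_c55 LD3_c16)) = (LP (LK LD1_c17 LD2_c45 LD3_c58)) :=
  Lgr Lrot5 (Lpr_ft (K17.f289883 IH) (Lpr_at (K17.f289885 IH) (Lpe (f189463 IH) (Lpn (LP (LK LD1_c17 LD2_c45 LD3_c58))))))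
theorem f362604 : Led Lsl_bf (LP (LK LD1_c10 LD2_c19 LD3_c54)) = (LP (LK LD1_c10 LD2_c28 LD3_c5)) :=
  Lgr Lrot156 (Lpr_gt (K21.f186863 IH) (Lpe (K21.f47687 IH) (Lpr_ct (K21.f47688 IH) (Lpr_gt (f48993 IH) (Lpr_cf (f362478 IH) (Lpe (f362486 IH) (Lpe (K19.f289866 IH) (Lpr_ct (K17.f289862 IH) (Lpr_gt (f289898 IH) (Lpr_cf (f362596 IH) (Lpn (LP (LK LD1_c10 LD2_c28 LD3_c5)))))))))))))
theorem f232373 : Led Lsl_df (LP (LK LD1_c7 LD2_c55 LD3_c35)) = (LP (LK LD1_c10 LD2_c19 LD3_c54)) :=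
  Lgr Lrot38 (Lpr_dt (K21.f232371 IH) (Lpn (LP (LK LD1_c10 LD2_c19 LD3_c54))))
theorem f229739 : Led Lsl_bt (LP (LK LD1_c7 LD2_c55 LD3_c35)) = (LP (LK LD1_c14 LD2_c57 LD3_c13)) :=
  Lre_b IH (LK LD1_c7 LD2_c55 LD3_c35) (LK LD1_c14 LD2_c57 LD3_c13) Lrfl Lrfl
theorem f362608 : Led Lsl_dt (LP (LK LD1_c14 LD2_c57 LD3_c13)) = (LP (LK LD1_c10 LD2_c28 LD3_c5)) :=
  Lgr Lrot79 (Lpe (f229739 IH) (Lpr_df (f232373 IH) (Lpr_bf (f362604 IH) (Lpn (LP (LK LD1_c10 LD2_c28 LD3_c5))))))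
theorem f216733 : Led Lsl_et (LP (LK LD1_c4 LD2_c21 LD3_c55)) = (LP (LK LD1_c2 LD2_c8 LD3_c26)) :=
  Lre_e IH (LK LD1_c4 LD2_c21 LD3_c55) (LK LD1_c2 LD2_c8 LD3_c26) Lrfl Lrfl
theorem f47678 : Led Lsl_et (LP (LK LD1_c4 LD2_c8 LD3_c8)) = (LP (LK LD1_c8 LD2_c16 LD3_c23)) :=
  Lre_e IH (LK LD1_c4 LD2_c8 LD3_c8) (LK LD1_c8 LD2_c16 LD3_c23) Lrfl Lrfl
theorem f362618 : Led Lsl_gf (LP (LK LD1_c14 LD2_c57 LD3_c13)) = (LP (LK LD1_c8 LD2_c16 LD3_c23)) :=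
  Lgr Lrot138 (Lpr_dt (f362608 IH) (Lpr_gt (f193076 IH) (Lpr_df (K16.f216743 IH) (Lpr_et (f216733 IH) (Lpe (K12.f216721 IH) (Lpr_ef (K17.f42016 IH) (Lpr_dt (K1.f41977 IH) (Lpr_gt (K12.f212480 IH) (Lpe (K12.f47645 IH) (Lpr_et (f47678 IH) (Lpn (LP (LK LD1_c8 LD2_c16 LD3_c23)))))))))))))
theorem f229691 : Led Lsl_ct (LP (LK LD1_c7 LD2_c55 LD3_c35)) = (LP (LK LD1_c14 LD2_c57 LD3_c14)) :=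
  Lre_c IH (LK LD1_c7 LD2_c55 LD3_c35) (LK LD1_c14 LD2_c57 LD3_c14) Lrfl Lrfl
theorem f722 : Led Lsl_dt (LP (LK LD1_c16 LD2_c0 LD3_c31)) = (LP (LK LD1_c8 LD2_c31 LD3_c42)) :=
  Lre_d IH (LK LD1_c16 LD2_c0 LD3_c31) (LK LD1_c8 LD2_c31 LD3_c42) Lrfl Lrfl
theorem f348252 : Led Lsl_gt (LP (LK LD1_c10 LD2_c56 LD3_c52)) = (LP (LK LD1_c8 LD2_c31 LD3_c47)) :=
  Lgr Lrot137 (Lpr_ef (K21.f282520 IH) (Lpe (K25.f282563 IH) (Lpe (K20.f231677 IH) (Lpr_df (K17.f236287 IH) (Lpe (K17.f283171 IH) (Lpr_gf (K17.f282708 IH) (Lpe (K13.f197592 IH) (Lpr_dt (K15.f197599 IH) (Lpr_gf (K25.f348246 IH) (Lpe (K23.f348240 IH) (Lpn (LP (LK LD1_c8 LD2_c31 LD3_c47)))))))))))))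
theorem f328629 : Led Lsl_et (LP (LK LD1_c4 LD2_c8 LD3_c50)) = (LP (LK LD1_c8 LD2_c16 LD3_c36)) :=
  Lgr Lrot123 (Lpr_af (K21.f328622 IH) (Lpe (K21.f328540 IH) (Lpr_af (K20.f323194 IH) (Lpn (LP (LK LD1_c8 LD2_c16 LD3_c36))))))
theorem f348254 : Led Lsl_gf (LP (LK LD1_c8 LD2_c17 LD3_c50)) = (LP (LK LD1_c5 LD2_c15 LD3_c57)) :=
  Lgr Lrot145 (Lpe (K12.f229018 IH) (Lpr_et (f328629 IH) (Lpr_gt (K21.f324245 IH) (Lpe (K17.f236287 IH) (Lpr_gt (K20.f231677 IH) (Lpr_df (K25.f282563 IH) (Lpe (K21.f282520 IH) (Lpr_gt (f348252 IH) (Lpe (K23.f273547 IH) (Lpr_dt (K23.f273545 IH) (Lpn (LP (LK LD1_c5 LD2_c15 LD3_c57)))))))))))))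
theorem f707 : Led Lsl_dt (LP (LK LD1_c8 LD2_c31 LD3_c42)) = (LP (LK LD1_c16 LD2_c0 LD3_c31)) :=
  Lre_d IH (LK LD1_c8 LD2_c31 LD3_c42) (LK LD1_c16 LD2_c0 LD3_c31) Lrfl Lrfl
theorem f348256 : Led Lsl_gf (LP (LK LD1_c15 LD2_c36 LD3_c0)) = (LP (LK LD1_c16 LD2_c0 LD3_c31)) :=
  Lgr Lrot143 (Lpr_dt (K21.f328609 IH) (Lpe (K23.f327506 IH) (Lpe (K25.f229010 IH) (Lpr_gf (f348254 IH) (Lpe (K23.f273545 IH) (Lpe (K23.f612 IH) (Lpe (K24.f616 IH) (Lpr_gt (K24.f706 IH) (Lpr_dt (f707 IH) (Lpn (LP (LK LD1_c16 LD2_c0 LD3_c31))))))))))))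
theorem f47664 : Led Lsl_ft (LP (LK LD1_c15 LD2_c33 LD3_c32)) = (LP (LK LD1_c25 LD2_c27 LD3_c8)) :=
  Lre_f IH (LK LD1_c15 LD2_c33 LD3_c32) (LK LD1_c25 LD2_c27 LD3_c8) Lrfl Lrfl
theorem f328620 : Led Lsl_af (LP (LK LD1_c15 LD2_c36 LD3_c0)) = (LP (LK LD1_c25 LD2_c27 LD3_c8)) :=
  Lgr Lrot109 (Lpe (K21.f328610 IH) (Lpr_df (K21.f328611 IH) (Lpe (K21.f47662 IH) (Lpe (K10.f47661 IH) (Lpe (K10.f47660 IH) (Lpr_df (K10.f47587 IH) (Lpe (K24.f47597 IH) (Lpe (K24.f47598 IH) (Lpr_ft (f47664 IH) (Lpn (LP (LK LD1_c25 LD2_c27 LD3_c8))))))))))))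
theorem f348258 : Led Lsl_gt (LP (LK LD1_c15 LD2_c33 LD3_c32)) = (LP (LK LD1_c16 LD2_c0 LD3_c31)) :=
  Lgr Lrot5 (Lpr_ft (f47664 IH) (Lpe (f328620 IH) (Lpr_gf (f348256 IH) (Lpn (LP (LK LD1_c16 LD2_c0 LD3_c31))))))
theorem f362459 : Led Lsl_ct (LP (LK LD1_c8 LD2_c36 LD3_c29)) = (LP (LK LD1_c15 LD2_c33 LD3_c31)) :=
  Lgr Lrot8 (Lpr_gt (f362455 IH) (Lpr_dt (f287011 IH) (Lpr_gt (f49504 IH) (Lpe (f348360 IH) (Lpe (f348271 IH) (Lpe (f722 IH) (Lpe (f348258 IH) (Lpe (K23.f47585 IH) (Lpe (K23.f47603 IH) (Lpn (LP (LK LD1_c15 LD2_c33 LD3_c31))))))))))))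
theorem f193229 : Led Lsl_bt (LP (LK LD1_c2 LD2_c8 LD3_c38)) = (LP (LK LD1_c4 LD2_c22 LD3_c19)) :=
  Lre_b IH (LK LD1_c2 LD2_c8 LD3_c38) (LK LD1_c4 LD2_c22 LD3_c19) Lrfl Lrfl
theorem f287094 : Led Lsl_at (LP (LK LD1_c4 LD2_c22 LD3_c19)) = (LP (LK LD1_c8 LD2_c6 LD3_c2)) :=
  Lgr Lrot67 (Lpe (f193229 IH) (Lpr_af (K17.f287090 IH) (Lpe (K19.f229523 IH) (Lpe (K19.f229562 IH) (Lpe (f287008 IH) (Lpn (LP (LK LD1_c8 LD2_c6 LD3_c2))))))))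
theorem f362457 : Led Lsl_gf (LP (LK LD1_c8 LD2_c36 LD3_c29)) = (LP (LK LD1_c8 LD2_c42 LD3_c38)) :=
  Lgr Lrot47 (Lpr_gt (f362455 IH) (Lpe (f287094 IH) (Lpe (K14.f193226 IH) (Lpn (LP (LK LD1_c8 LD2_c42 LD3_c38))))))
theorem f193216 : Led Lsl_ct (LP (LK LD1_c4 LD2_c22 LD3_c25)) = (LP (LK LD1_c8 LD2_c42 LD3_c44)) :=
  Lre_c IH (LK LD1_c4 LD2_c22 LD3_c25) (LK LD1_c8 LD2_c42 LD3_c44) Lrfl Lrfl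
theorem f362649 : Led Lsl_gt (LP (LK LD1_c14 LD2_c57 LD3_c14)) = (LP (LK LD1_c8 LD2_c42 LD3_c44)) :=
  Lgr Lrot65 (Lpe (f229691 IH) (Lpr_bt (f229739 IH) (Lpr_gf (f362618 IH) (Lpe (K25.f47578 IH) (Lpr_ct (f47584 IH) (Lpe (K23.f47603 IH) (Lpe (f362459 IH) (Lpr_gf (f362457 IH) (Lpe (K17.f193213 IH) (Lpr_ct (f193216 IH) (Lpn (LP (LK LD1_c8 LD2_c42 LD3_c44)))))))))))))
theorem f229661 : Led Lsl_ct (LP (LK LD1_c7 LD2_c55 LD3_c31)) = (LP (LK LD1_c14 LD2_c57 LD3_c5)) :=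
  Lre_c IH (LK LD1_c7 LD2_c55 LD3_c31) (LK LD1_c14 LD2_c57 LD3_c5) Lrfl Lrfl
theorem f362465 : Led Lsl_bt (LP (LK LD1_c4 LD2_c18 LD3_c53)) = (LP (LK LD1_c8 LD2_c36 LD3_c29)) :=
  Lre_b IH (LK LD1_c4 LD2_c18 LD3_c53) (LK LD1_c8 LD2_c36 LD3_c29) Lrfl Lrfl
theorem f171500 : Led Lsl_ct (LP (LK LD1_c4 LD2_c18 LD3_c53)) = (LP (LK LD1_c8 LD2_c36 LD3_c30)) :=
  Lre_c IH (LK LD1_c4 LD2_c18 LD3_c53) (LK LD1_c8 LD2_c36 LD3_c30) Lrfl Lrfl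
theorem f362854 : Led Lsl_gf (LP (LK LD1_c14 LD2_c57 LD3_c5)) = (LP (LK LD1_c8 LD2_c36 LD3_c30)) :=
  Lgr Lrot126 (Lpe (f229661 IH) (Lpr_bt (K17.f229657 IH) (Lpr_gt (K18.f229689 IH) (Lpr_ct (f229691 IH) (Lpr_gt (f362649 IH) (Lpe (f193216 IH) (Lpr_bt (K17.f193213 IH) (Lpe (f362457 IH) (Lpe (f362465 IH) (Lpr_ct (f171500 IH) (Lpn (LP (LK LD1_c8 LD2_c36 LD3_c30)))))))))))))
theorem f229668 : Led Lsl_ct (LP (LK LD1_c14 LD2_c57 LD3_c5)) = (LP (LK LD1_c7 LD2_c55 LD3_c31)) :=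
  Lre_c IH (LK LD1_c14 LD2_c57 LD3_c5) (LK LD1_c7 LD2_c55 LD3_c31) Lrfl Lrfl
theorem f229054 : Led Lsl_et (LP (LK LD1_c4 LD2_c54 LD3_c10)) = (LP (LK LD1_c9 LD2_c39 LD3_c50)) :=
  Lre_e IH (LK LD1_c4 LD2_c54 LD3_c10) (LK LD1_c9 LD2_c39 LD3_c50) Lrfl Lrfl
theorem f229055 : Led Lsl_ct (LP (LK LD1_c9 LD2_c39 LD3_c50)) = (LP (LK LD1_c5 LD2_c19 LD3_c5)) :=
  Lgr Lrot15 (Lpe (f229054 IH) (Lpr_cf (K12.f229049 IH) (Lpe (K13.f44284 IH) (Lpn (LP (LK LD1_c5 LD2_c19 LD3_c5))))))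
theorem f362856 : Led Lsl_gf (LP (LK LD1_c9 LD2_c39 LD3_c50)) = (LP (LK LD1_c10 LD2_c12 LD3_c35)) :=
  Lgr Lrot104 (Lpr_ct (f229055 IH) (Lpr_df (K17.f229662 IH) (Lpe (f229668 IH) (Lpr_gf (f362854 IH) (Lpe (f171500 IH) (Lpe (K19.f248589 IH) (Lpr_df (K19.f248583 IH) (Lpe (K21.f326871 IH) (Lpr_ct (K25.f171454 IH) (Lpn (LP (LK LD1_c10 LD2_c12 LD3_c35))))))))))))
theorem f294567 : Led Lsl_ft (LP (LK LD1_c17 LD2_c46 LD3_c24)) = (LP (LK LD1_c27 LD2_c33 LD3_c5)) :=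
  Lre_f IH (LK LD1_c17 LD2_c46 LD3_c24) (LK LD1_c27 LD2_c33 LD3_c5) Lrfl Lrfl
theorem f262512 : Led Lsl_ft (LP (LK LD1_c25 LD2_c0 LD3_c58)) = (LP (LK LD1_c15 LD2_c12 LD3_c1)) :=
  Lre_f IH (LK LD1_c25 LD2_c0 LD3_c58) (LK LD1_c15 LD2_c12 LD3_c1) Lrfl Lrfl
theorem f294568 : Led Lsl_cf (LP (LK LD1_c17 LD2_c46 LD3_c24)) = (LP (LK LD1_c15 LD2_c12 LD3_c1)) :=
  Lgr Lrot108 (Lpr_ft (f294567 IH) (Lpr_ct (f294538 IH) (Lpr_ft (f262512 IH) (Lpn (LP (LK LD1_c15 LD2_c12 LD3_c1))))))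
theorem f294573 : Led Lsl_ct (LP (LK LD1_c17 LD2_c46 LD3_c24)) = (LP (LK LD1_c15 LD2_c12 LD3_c1)) :=
  Lgr Lrot59 (Lpr_cf (f294568 IH) (Lpn (LP (LK LD1_c15 LD2_c12 LD3_c1))))
theorem f294521 : Led Lsl_bt (LP (LK LD1_c9 LD2_c39 LD3_c50)) = (LP (LK LD1_c17 LD2_c46 LD3_c24)) :=
  Lre_b IH (LK LD1_c9 LD2_c39 LD3_c50) (LK LD1_c17 LD2_c46 LD3_c24) Lrfl Lrfl
theorem f294579 : Led Lsl_bt (LP (LK LD1_c15 LD2_c12 LD3_c1)) = (LP (LK LD1_c8 LD2_c4 LD3_c26)) :=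
  Lre_b IH (LK LD1_c15 LD2_c12 LD3_c1) (LK LD1_c8 LD2_c4 LD3_c26) Lrfl Lrfl
theorem f229096 : Led Lsl_cf (LP (LK LD1_c4 LD2_c2 LD3_c38)) = (LP (LK LD1_c8 LD2_c4 LD3_c26)) :=
  Lgr Lrot39 (Lpr_et (K19.f229079 IH) (Lpr_ct (K12.f229084 IH) (Lpr_et (f229095 IH) (Lpn (LP (LK LD1_c8 LD2_c4 LD3_c26))))))
theorem f294608 : Led Lsl_cf (LP (LK LD1_c9 LD2_c39 LD3_c50)) = (LP (LK LD1_c5 LD2_c19 LD3_c5)) :=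
  Lgr Lrot97 (Lpr_bt (f294521 IH) (Lpr_ct (f294573 IH) (Lpr_bt (f294579 IH) (Lpe (f229096 IH) (Lpr_bt (K13.f229065 IH) (Lpn (LP (LK LD1_c5 LD2_c19 LD3_c5))))))))
theorem f229067 : Led Lsl_bf (LP (LK LD1_c4 LD2_c2 LD3_c38)) = (LP (LK LD1_c5 LD2_c19 LD3_c5)) :=
  Lgr Lrot24 (Lpr_bt (K13.f229065 IH) (Lpn (LP (LK LD1_c5 LD2_c19 LD3_c5))))
theorem f304220 : Led Lsl_bf (LP (LK LD1_c10 LD2_c0 LD3_c42)) = (LP (LK LD1_c8 LD2_c6 LD3_c32)) :=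
  Lgr Lrot93 (Lpr_dt (K22.f290866 IH) (Lpr_bt (K22.f304216 IH) (Lpr_dt (K19.f283782 IH) (Lpn (LP (LK LD1_c8 LD2_c6 LD3_c32))))))
theorem f239845 : Led Lsl_ct (LP (LK LD1_c10 LD2_c8 LD3_c12)) = (LP (LK LD1_c18 LD2_c27 LD3_c46)) :=
  Lre_c IH (LK LD1_c10 LD2_c8 LD3_c12) (LK LD1_c18 LD2_c27 LD3_c46) Lrfl Lrfl
theorem f316923 : Led Lsl_dt (LP (LK LD1_c18 LD2_c18 LD3_c14)) = (LP (LK LD1_c10 LD2_c0 LD3_c61)) :=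
  Lre_d IH (LK LD1_c18 LD2_c18 LD3_c14) (LK LD1_c10 LD2_c0 LD3_c61) Lrfl Lrfl
theorem f54258 : Led Lsl_dt (LP (LK LD1_c9 LD2_c51 LD3_c45)) = (LP (LK LD1_c18 LD2_c3 LD3_c5)) :=
  Lre_d IH (LK LD1_c9 LD2_c51 LD3_c45) (LK LD1_c18 LD2_c3 LD3_c5) Lrfl Lrfl
theorem f316924 : Led Lsl_gf (LP (LK LD1_c18 LD2_c18 LD3_c14)) = (LP (LK LD1_c18 LD2_c3 LD3_c5)) :=
  Lgr Lrot154 (Lpr_dt (f316923 IH) (Lpe (K21.f266499 IH) (Lpe (K13.f195616 IH) (Lpr_gf (K16.f246891 IH) (Lpe (K14.f246856 IH) (Lpe (K19.f171312 IH) (Lpr_ct (K23.f246866 IH) (Lpr_gt (K23.f316921 IH) (Lpr_dt (f54258 IH) (Lpn (LP (LK LD1_c18 LD2_c3 LD3_c5))))))))))))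
theorem f213730 : Led Lsl_ct (LP (LK LD1_c15 LD2_c3 LD3_c23)) = (LP (LK LD1_c7 LD2_c58 LD3_c47)) :=
  Lre_c IH (LK LD1_c15 LD2_c3 LD3_c23) (LK LD1_c7 LD2_c58 LD3_c47) Lrfl Lrfl
theorem f316928 : Led Lsl_cf (LP (LK LD1_c10 LD2_c0 LD3_c61)) = (LP (LK LD1_c8 LD2_c4 LD3_c7)) :=
  Lgr Lrot14 (Lpe (f316923 IH) (Lpr_gf (f316924 IH) (Lpe (f54258 IH) (Lpe (K23.f316921 IH) (Lpr_ct (f213730 IH) (Lpr_gt (K19.f171312 IH) (Lpr_dt (K14.f246856 IH) (Lpe (K16.f246891 IH) (Lpr_dt (K13.f195616 IH) (Lpn (LP (LK LD1_c8 LD2_c4 LD3_c7))))))))))))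
theorem f239826 : Led Lsl_ct (LP (LK LD1_c16 LD2_c50 LD3_c49)) = (LP (LK LD1_c9 LD2_c0 LD3_c58)) :=
  Lre_c IH (LK LD1_c16 LD2_c50 LD3_c49) (LK LD1_c9 LD2_c0 LD3_c58) Lrfl Lrfl
theorem f316934 : Led Lsl_ft (LP (LK LD1_c10 LD2_c0 LD3_c61)) = (LP (LK LD1_c16 LD2_c50 LD3_c49)) :=
  Lgr Lrot4 (Lpr_cf (f316928 IH) (Lpe (K13.f239836 IH) (Lpe (f239826 IH) (Lpn (LP (LK LD1_c16 LD2_c50 LD3_c49))))))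
theorem f241987 : Led Lsl_ft (LP (LK LD1_c18 LD2_c27 LD3_c46)) = (LP (LK LD1_c10 LD2_c8 LD3_c11)) :=
  Lre_f IH (LK LD1_c18 LD2_c27 LD3_c46) (LK LD1_c10 LD2_c8 LD3_c11) Lrfl Lrfl
theorem f316937 : Led Lsl_af (LP (LK LD1_c10 LD2_c0 LD3_c61)) = (LP (LK LD1_c10 LD2_c8 LD3_c11)) :=
  Lgr Lrot45 (Lpr_ft (f316934 IH) (Lpr_at (K18.f239890 IH) (Lpr_ft (f241987 IH) (Lpn (LP (LK LD1_c10 LD2_c8 LD3_c11))))))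
theorem f323833 : Led Lsl_gt (LP (LK LD1_c18 LD2_c27 LD3_c46)) = (LP (LK LD1_c18 LD2_c18 LD3_c0)) :=
  Lgr Lrot5 (Lpr_ft (f241987 IH) (Lpe (f316937 IH) (Lpr_gf (K21.f323830 IH) (Lpn (LP (LK LD1_c18 LD2_c18 LD3_c0))))))
theorem f339027 : Led Lsl_bf (LP (LK LD1_c18 LD2_c17 LD3_c41)) = (LP (LK LD1_c10 LD2_c0 LD3_c53)) :=
  Lgr Lrot156 (Lpr_gt (K25.f291266 IH) (Lpr_bf (f304220 IH) (Lpr_ct (K25.f291254 IH) (Lpr_gt (K25.f339023 IH) (Lpe (K23.f189281 IH) (Lpe (K24.f322763 IH) (Lpe (K14.f239838 IH) (Lpr_ct (f239845 IH) (Lpr_gt (f323833 IH) (Lpe (K21.f192615 IH) (Lpn (LP (LK LD1_c10 LD2_c0 LD3_c53)))))))))))))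
theorem f339031 : Led Lsl_bt (LP (LK LD1_c18 LD2_c47 LD3_c12)) = (LP (LK LD1_c15 LD2_c14 LD3_c43)) :=
  Lgr Lrot95 (Lpe (K25.f291273 IH) (Lpr_bf (f339027 IH) (Lpe (K21.f237059 IH) (Lpn (LP (LK LD1_c15 LD2_c14 LD3_c43))))))
theorem f339040 : Led Lsl_bf (LP (LK LD1_c10 LD2_c21 LD3_c6)) = (LP (LK LD1_c8 LD2_c5 LD3_c51)) :=
  Lgr Lrot96 (Lpr_et (K25.f291275 IH) (Lpr_bt (f339031 IH) (Lpr_et (K21.f229889 IH) (Lpn (LP (LK LD1_c8 LD2_c5 LD3_c51))))))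
theorem f339042 : Led Lsl_bt (LP (LK LD1_c10 LD2_c21 LD3_c6)) = (LP (LK LD1_c8 LD2_c5 LD3_c51)) :=
  Lgr Lrot127 (Lpr_bf (f339040 IH) (Lpn (LP (LK LD1_c8 LD2_c5 LD3_c51))))
theorem f166951 : Led Lsl_gt (LP (LK LD1_c9 LD2_c58 LD3_c28)) = (LP (LK LD1_c18 LD2_c14 LD3_c26)) :=
  Lre_g IH (LK LD1_c9 LD2_c58 LD3_c28) (LK LD1_c18 LD2_c14 LD3_c26) Lrfl Lrfl
theorem f362866 : Led Lsl_ct (LP (LK LD1_c10 LD2_c21 LD3_c6)) = (LP (LK LD1_c9 LD2_c58 LD3_c28)) :=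
  Lgr Lrot64 (Lpr_bt (f339042 IH) (Lpe (K21.f229081 IH) (Lpr_bf (f229067 IH) (Lpe (f294608 IH) (Lpr_gf (f362856 IH) (Lpe (K25.f171454 IH) (Lpr_gf (K21.f326871 IH) (Lpe (K22.f249660 IH) (Lpr_ct (K22.f166940 IH) (Lpe (f166951 IH) (Lpn (LP (LK LD1_c9 LD2_c58 LD3_c28)))))))))))))
theorem f47638 : Led Lsl_bt (LP (LK LD1_c2 LD2_c34 LD3_c48)) = (LP (LK LD1_c5 LD2_c15 LD3_c53)) :=
  Lre_b IH (LK LD1_c2 LD2_c34 LD3_c48) (LK LD1_c5 LD2_c15 LD3_c53) Lrfl Lrfl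
theorem f47602 : Led Lsl_gt (LP (LK LD1_c10 LD2_c21 LD3_c16)) = (LP (LK LD1_c5 LD2_c15 LD3_c56)) :=
  Lre_g IH (LK LD1_c10 LD2_c21 LD3_c16) (LK LD1_c5 LD2_c15 LD3_c56) Lrfl Lrfl
theorem f171461 : Led Lsl_bt (LP (LK LD1_c10 LD2_c12 LD3_c34)) = (LP (LK LD1_c5 LD2_c10 LD3_c57)) :=
  Lre_b IH (LK LD1_c10 LD2_c12 LD3_c34) (LK LD1_c5 LD2_c10 LD3_c57) Lrfl Lrfl
theorem f362877 : Led Lsl_cf (LP (LK LD1_c10 LD2_c21 LD3_c16)) = (LP (LK LD1_c10 LD2_c12 LD3_c34)) :=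
  Lgr Lrot160 (Lpr_gt (f47602 IH) (Lpe (K10.f47660 IH) (Lpr_bt (f47638 IH) (Lpr_gt (K19.f47652 IH) (Lpr_ct (f362866 IH) (Lpr_gt (f166951 IH) (Lpe (K22.f166940 IH) (Lpr_bt (K22.f249660 IH) (Lpe (K21.f326871 IH) (Lpe (f171461 IH) (Lpn (LP (LK LD1_c10 LD2_c12 LD3_c34)))))))))))))
theorem f328598 : Led Lsl_gt (LP (LK LD1_c15 LD2_c36 LD3_c14)) = (LP (LK LD1_c10 LD2_c21 LD3_c16)) :=
  Lgr Lrot5 (Lpr_ft (K21.f328595 IH) (Lpr_at (K21.f328588 IH) (Lpe (f47602 IH) (Lpn (LP (LK LD1_c10 LD2_c21 LD3_c16))))))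
theorem f306410 : Led Lsl_gt (LP (LK LD1_c5 LD2_c10 LD3_c55)) = (LP (LK LD1_c10 LD2_c12 LD3_c27)) :=
  Lre_g IH (LK LD1_c5 LD2_c10 LD3_c55) (LK LD1_c10 LD2_c12 LD3_c27) Lrfl Lrfl
theorem f362886 : Led Lsl_ct (LP (LK LD1_c10 LD2_c25 LD3_c28)) = (LP (LK LD1_c10 LD2_c12 LD3_c27)) :=
  Lgr Lrot63 (Lpe (K24.f341762 IH) (Lpr_gt (K21.f328664 IH) (Lpe (K12.f229019 IH) (Lpr_ct (K21.f229026 IH) (Lpr_gt (f328598 IH) (Lpr_cf (f362877 IH) (Lpr_bt (f171461 IH) (Lpr_gt (K21.f171446 IH) (Lpr_ct (f171495 IH) (Lpr_gt (f306410 IH) (Lpn (LP (LK LD1_c10 LD2_c12 LD3_c27)))))))))))))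
theorem f191812 : Led Lsl_ct (LP (LK LD1_c8 LD2_c39 LD3_c57)) = (LP (LK LD1_c15 LD2_c0 LD3_c40)) :=
  Lgr Lrot59 (Lpr_cf (K23.f191785 IH) (Lpn (LP (LK LD1_c15 LD2_c0 LD3_c40))))
theorem f362901 : Led Lsl_gf (LP (LK LD1_c17 LD2_c47 LD3_c18)) = (LP (LK LD1_c10 LD2_c12 LD3_c27)) :=
  Lgr Lrot126 (Lpe (K14.f248520 IH) (Lpe (K14.f249652 IH) (Lpr_gt (K23.f166947 IH) (Lpr_ct (f166861 IH) (Lpr_gt (f362432 IH) (Lpe (f191812 IH) (Lpr_bt (K14.f187128 IH) (Lpe (K21.f328666 IH) (Lpr_bf (K24.f341762 IH) (Lpr_ct (f362886 IH) (Lpn (LP (LK LD1_c10 LD2_c12 LD3_c27)))))))))))))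
theorem f248514 : Led Lsl_ct (LP (LK LD1_c17 LD2_c47 LD3_c18)) = (LP (LK LD1_c9 LD2_c40 LD3_c17)) :=
  Lre_c IH (LK LD1_c17 LD2_c47 LD3_c18) (LK LD1_c9 LD2_c40 LD3_c17) Lrfl Lrfl
theorem f248515 : Led Lsl_et (LP (LK LD1_c17 LD2_c46 LD3_c8)) = (LP (LK LD1_c17 LD2_c47 LD3_c18)) :=
  Lgr Lrot158 (Lpe (K22.f248513 IH) (Lpr_ef (K14.f248511 IH) (Lpe (f248514 IH) (Lpn (LP (LK LD1_c17 LD2_c47 LD3_c18))))))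
theorem f248526 : Led Lsl_dt (LP (LK LD1_c17 LD2_c46 LD3_c8)) = (LP (LK LD1_c27 LD2_c32 LD3_c40)) :=
  Lre_d IH (LK LD1_c17 LD2_c46 LD3_c8) (LK LD1_c27 LD2_c32 LD3_c40) Lrfl Lrfl
theorem f307484 : Led Lsl_gt (LP (LK LD1_c18 LD2_c13 LD3_c30)) = (LP (LK LD1_c27 LD2_c32 LD3_c40)) :=
  Lgr Lrot46 (Lpe (K19.f184519 IH) (Lpr_ft (K19.f307480 IH) (Lpr_at (K19.f307478 IH) (Lpn (LP (LK LD1_c27 LD2_c32 LD3_c40))))))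
theorem f306359 : Led Lsl_ff (LP (LK LD1_c27 LD2_c32 LD3_c38)) = (LP (LK LD1_c18 LD2_c13 LD3_c30)) :=
  Lgr Lrot3 (Lpr_ft (K19.f306204 IH) (Lpn (LP (LK LD1_c18 LD2_c13 LD3_c30))))
theorem f306163 : Led Lsl_df (LP (LK LD1_c18 LD2_c11 LD3_c61)) = (LP (LK LD1_c18 LD2_c13 LD3_c31)) :=
  Lgr Lrot38 (Lpr_dt (K19.f306161 IH) (Lpn (LP (LK LD1_c18 LD2_c13 LD3_c31))))
theorem f306196 : Led Lsl_at (LP (LK LD1_c27 LD2_c32 LD3_c38)) = (LP (LK LD1_c18 LD2_c13 LD3_c31)) :=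
  Lgr Lrot51 (Lpr_df (K19.f306194 IH) (Lpe (K19.f306185 IH) (Lpr_df (f306163 IH) (Lpn (LP (LK LD1_c18 LD2_c13 LD3_c31))))))
theorem f307486 : Led Lsl_gf (LP (LK LD1_c18 LD2_c13 LD3_c31)) = (LP (LK LD1_c27 LD2_c32 LD3_c40)) :=
  Lgr Lrot76 (Lpe (f306196 IH) (Lpr_ff (f306359 IH) (Lpr_gt (f307484 IH) (Lpn (LP (LK LD1_c27 LD2_c32 LD3_c40))))))
theorem f289949 : Led Lsl_dt (LP (LK LD1_c10 LD2_c11 LD3_c8)) = (LP (LK LD1_c18 LD2_c33 LD3_c23)) :=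
  Lre_d IH (LK LD1_c10 LD2_c11 LD3_c8) (LK LD1_c18 LD2_c33 LD3_c23) Lrfl Lrfl
theorem f251327 : Led Lsl_dt (LP (LK LD1_c10 LD2_c11 LD3_c7)) = (LP (LK LD1_c5 LD2_c10 LD3_c11)) :=
  Lre_d IH (LK LD1_c10 LD2_c11 LD3_c7) (LK LD1_c5 LD2_c10 LD3_c11) Lrfl Lrfl
theorem f299773 : Led Lsl_af (LP (LK LD1_c10 LD2_c11 LD3_c7)) = (LP (LK LD1_c17 LD2_c47 LD3_c6)) :=
  Lgr Lrot117 (Lpr_dt (f251327 IH) (Lpr_at (K18.f299762 IH) (Lpr_dt (K25.f250466 IH) (Lpn (LP (LK LD1_c17 LD2_c47 LD3_c6))))))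
theorem f299775 : Led Lsl_at (LP (LK LD1_c10 LD2_c11 LD3_c7)) = (LP (LK LD1_c17 LD2_c47 LD3_c6)) :=
  Lgr Lrot100 (Lpr_af (f299773 IH) (Lpn (LP (LK LD1_c17 LD2_c47 LD3_c6))))
theorem f299789 : Led Lsl_ft (LP (LK LD1_c18 LD2_c33 LD3_c23)) = (LP (LK LD1_c10 LD2_c11 LD3_c7)) :=
  Lre_f IH (LK LD1_c18 LD2_c33 LD3_c23) (LK LD1_c10 LD2_c11 LD3_c7) Lrfl Lrfl
theorem f250468 : Led Lsl_gt (LP (LK LD1_c27 LD2_c34 LD3_c0)) = (LP (LK LD1_c17 LD2_c47 LD3_c6)) :=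
  Lre_g IH (LK LD1_c27 LD2_c34 LD3_c0) (LK LD1_c17 LD2_c47 LD3_c6) Lrfl Lrfl
theorem f299790 : Led Lsl_gt (LP (LK LD1_c18 LD2_c33 LD3_c23)) = (LP (LK LD1_c27 LD2_c34 LD3_c0)) :=
  Lgr Lrot5 (Lpr_ft (f299789 IH) (Lpr_at (f299775 IH) (Lpe (f250468 IH) (Lpn (LP (LK LD1_c27 LD2_c34 LD3_c0))))))
theorem f362906 : Led Lsl_et (LP (LK LD1_c18 LD2_c35 LD3_c26)) = (LP (LK LD1_c10 LD2_c12 LD3_c27)) :=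
  Lre_e IH (LK LD1_c18 LD2_c35 LD3_c26) (LK LD1_c10 LD2_c12 LD3_c27) Lrfl Lrfl
theorem f362907 : Led Lsl_df (LP (LK LD1_c27 LD2_c34 LD3_c0)) = (LP (LK LD1_c18 LD2_c35 LD3_c26)) :=
  Lgr Lrot132 (Lpe (f299790 IH) (Lpe (f289949 IH) (Lpr_gf (K19.f299764 IH) (Lpe (K19.f306088 IH) (Lpr_dt (K19.f306161 IH) (Lpr_gf (f307486 IH) (Lpe (f248526 IH) (Lpr_et (f248515 IH) (Lpr_gf (f362901 IH) (Lpe (f362906 IH) (Lpn (LP (LK LD1_c18 LD2_c35 LD3_c26)))))))))))))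
theorem f362909 : Led Lsl_dt (LP (LK LD1_c27 LD2_c34 LD3_c0)) = (LP (LK LD1_c18 LD2_c35 LD3_c26)) :=
  Lgr Lrot42 (Lpr_df (f362907 IH) (Lpn (LP (LK LD1_c18 LD2_c35 LD3_c26))))
theorem f362915 : Led Lsl_ct (LP (LK LD1_c18 LD2_c54 LD3_c38)) = (LP (LK LD1_c18 LD2_c35 LD3_c26)) :=
  Lgr Lrot7 (Lpr_df (K24.f271286 IH) (Lpe (K18.f271271 IH) (Lpe (K18.f271274 IH) (Lpe (K18.f294224 IH) (Lpr_cf (K22.f306078 IH) (Lpe (K19.f299764 IH) (Lpr_dt (f289949 IH) (Lpr_gt (f299790 IH) (Lpr_dt (f362909 IH) (Lpn (LP (LK LD1_c18 LD2_c35 LD3_c26))))))))))))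
theorem f341942 : Led Lsl_bt (LP (LK LD1_c15 LD2_c19 LD3_c40)) = (LP (LK LD1_c8 LD2_c8 LD3_c26)) :=
  Lre_b IH (LK LD1_c15 LD2_c19 LD3_c40) (LK LD1_c8 LD2_c8 LD3_c26) Lrfl Lrfl
theorem f341953 : Led Lsl_ct (LP (LK LD1_c15 LD2_c19 LD3_c40)) = (LP (LK LD1_c25 LD2_c10 LD3_c45)) :=
  Lre_c IH (LK LD1_c15 LD2_c19 LD3_c40) (LK LD1_c25 LD2_c10 LD3_c45) Lrfl Lrfl
theorem f345957 : Led Lsl_ct (LP (LK LD1_c8 LD2_c8 LD3_c24)) = (LP (LK LD1_c15 LD2_c19 LD3_c39)) :=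
  Lre_c IH (LK LD1_c8 LD2_c8 LD3_c24) (LK LD1_c15 LD2_c19 LD3_c39) Lrfl Lrfl
theorem f269328 : Led Lsl_gt (LP (LK LD1_c15 LD2_c9 LD3_c15)) = (LP (LK LD1_c8 LD2_c8 LD3_c21)) :=
  Lgr Lrot5 (Lpr_ft (K16.f269313 IH) (Lpr_at (K16.f269315 IH) (Lpe (K21.f227020 IH) (Lpn (LP (LK LD1_c8 LD2_c8 LD3_c21))))))
theorem f244454 : Led Lsl_et (LP (LK LD1_c8 LD2_c8 LD3_c21)) = (LP (LK LD1_c15 LD2_c19 LD3_c34)) :=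
  Lre_e IH (LK LD1_c8 LD2_c8 LD3_c21) (LK LD1_c15 LD2_c19 LD3_c34) Lrfl Lrfl
theorem f253139 : Led Lsl_ct (LP (LK LD1_c4 LD2_c14 LD3_c39)) = (LP (LK LD1_c8 LD2_c8 LD3_c21)) :=
  Lgr Lrot15 (Lpe (K14.f226890 IH) (Lpr_cf (K21.f253133 IH) (Lpe (f244454 IH) (Lpn (LP (LK LD1_c8 LD2_c8 LD3_c21))))))
theorem f201148 : Led Lsl_ct (LP (LK LD1_c4 LD2_c54 LD3_c35)) = (LP (LK LD1_c9 LD2_c40 LD3_c44)) :=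
  Lre_c IH (LK LD1_c4 LD2_c54 LD3_c35) (LK LD1_c9 LD2_c40 LD3_c44) Lrfl Lrfl
theorem f346323 : Led Lsl_gf (LP (LK LD1_c15 LD2_c19 LD3_c39)) = (LP (LK LD1_c9 LD2_c40 LD3_c44)) :=
  Lgr Lrot126 (Lpe (f345957 IH) (Lpr_bt (K23.f345956 IH) (Lpr_gt (K24.f346202 IH) (Lpr_ct (K25.f218990 IH) (Lpr_gt (f269328 IH) (Lpe (f253139 IH) (Lpe (K19.f309563 IH) (Lpr_gt (K19.f201149 IH) (Lpr_bf (K15.f201135 IH) (Lpr_ct (f201148 IH) (Lpn (LP (LK LD1_c9 LD2_c40 LD3_c44)))))))))))))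
theorem f346039 : Led Lsl_ct (LP (LK LD1_c15 LD2_c19 LD3_c39)) = (LP (LK LD1_c8 LD2_c8 LD3_c24)) :=
  Lre_c IH (LK LD1_c15 LD2_c19 LD3_c39) (LK LD1_c8 LD2_c8 LD3_c24) Lrfl Lrfl
theorem f341943 : Led Lsl_ct (LP (LK LD1_c25 LD2_c10 LD3_c45)) = (LP (LK LD1_c15 LD2_c19 LD3_c40)) :=
  Lre_c IH (LK LD1_c25 LD2_c10 LD3_c45) (LK LD1_c15 LD2_c19 LD3_c40) Lrfl Lrfl
theorem f330799 : Led Lsl_ct (LP (LK LD1_c9 LD2_c57 LD3_c42)) = (LP (LK LD1_c18 LD2_c13 LD3_c43)) :=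
  Lre_c IH (LK LD1_c9 LD2_c57 LD3_c42) (LK LD1_c18 LD2_c13 LD3_c43) Lrfl Lrfl
theorem f346331 : Led Lsl_gf (LP (LK LD1_c25 LD2_c10 LD3_c45)) = (LP (LK LD1_c18 LD2_c13 LD3_c43)) :=
  Lgr Lrot104 (Lpr_ct (f341943 IH) (Lpe (K25.f346040 IH) (Lpe (f346039 IH) (Lpr_gf (f346323 IH) (Lpe (f201148 IH) (Lpe (K15.f201161 IH) (Lpr_df (K15.f259602 IH) (Lpe (K25.f330795 IH) (Lpr_ct (f330799 IH) (Lpn (LP (LK LD1_c18 LD2_c13 LD3_c43))))))))))))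
theorem f362919 : Led Lsl_gf (LP (LK LD1_c27 LD2_c35 LD3_c21)) = (LP (LK LD1_c18 LD2_c35 LD3_c26)) :=
  Lgr Lrot126 (Lpe (K25.f246186 IH) (Lpr_bt (K25.f335217 IH) (Lpe (K25.f330795 IH) (Lpr_ct (f330799 IH) (Lpe (f346331 IH) (Lpe (f341953 IH) (Lpr_bt (f341942 IH) (Lpr_gt (K23.f341934 IH) (Lpr_bf (K24.f341947 IH) (Lpr_ct (f362915 IH) (Lpn (LP (LK LD1_c18 LD2_c35 LD3_c26)))))))))))))
theorem f287663 : Led Lsl_dt (LP (LK LD1_c10 LD2_c25 LD3_c28)) = (LP (LK LD1_c8 LD2_c19 LD3_c0)) :=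
  Lgr Lrot42 (Lpr_df (K24.f287660 IH) (Lpn (LP (LK LD1_c8 LD2_c19 LD3_c0))))
theorem f294180 : Led Lsl_gt (LP (LK LD1_c18 LD2_c54 LD3_c38)) = (LP (LK LD1_c16 LD2_c39 LD3_c18)) :=
  Lgr Lrot137 (Lpe (K24.f271288 IH) (Lpr_dt (f287663 IH) (Lpe (K24.f232091 IH) (Lpe (K14.f232089 IH) (Lpe (K14.f232075 IH) (Lpr_gf (K25.f259976 IH) (Lpr_ef (K25.f294171 IH) (Lpr_dt (K25.f275635 IH) (Lpe (K22.f275634 IH) (Lpe (K25.f275649 IH) (Lpn (LP (LK LD1_c16 LD2_c39 LD3_c18)))))))))))))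
theorem f259833 : Led Lsl_gt (LP (LK LD1_c28 LD2_c5 LD3_c34)) = (LP (LK LD1_c18 LD2_c31 LD3_c16)) :=
  Lre_g IH (LK LD1_c28 LD2_c5 LD3_c34) (LK LD1_c18 LD2_c31 LD3_c16) Lrfl Lrfl
theorem f362921 : Led Lsl_dt (LP (LK LD1_c27 LD2_c35 LD3_c21)) = (LP (LK LD1_c28 LD2_c5 LD3_c34)) :=
  Lgr Lrot57 (Lpr_gf (f362919 IH) (Lpe (f362915 IH) (Lpr_gt (f294180 IH) (Lpr_dt (K25.f275649 IH) (Lpr_gt (K22.f275634 IH) (Lpr_dt (K16.f223212 IH) (Lpe (K19.f294156 IH) (Lpe (K18.f288425 IH) (Lpe (f259833 IH) (Lpn (LP (LK LD1_c28 LD2_c5 LD3_c34))))))))))))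
theorem f256395 : Led Lsl_et (LP (LK LD1_c5 LD2_c9 LD3_c42)) = (LP (LK LD1_c2 LD2_c31 LD3_c56)) :=
  Lre_e IH (LK LD1_c5 LD2_c9 LD3_c42) (LK LD1_c2 LD2_c31 LD3_c56) Lrfl Lrfl
theorem f256396 : Led Lsl_dt (LP (LK LD1_c5 LD2_c9 LD3_c42)) = (LP (LK LD1_c10 LD2_c10 LD3_c11)) :=
  Lre_d IH (LK LD1_c5 LD2_c9 LD3_c42) (LK LD1_c10 LD2_c10 LD3_c11) Lrfl Lrfl
theorem f307336 : Led Lsl_gt (LP (LK LD1_c10 LD2_c10 LD3_c11)) = (LP (LK LD1_c18 LD2_c31 LD3_c40)) :=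
  Lre_g IH (LK LD1_c10 LD2_c10 LD3_c11) (LK LD1_c18 LD2_c31 LD3_c40) Lrfl Lrfl
theorem f362894 : Led Lsl_et (LP (LK LD1_c10 LD2_c12 LD3_c27)) = (LP (LK LD1_c18 LD2_c35 LD3_c26)) :=
  Lre_e IH (LK LD1_c10 LD2_c12 LD3_c27) (LK LD1_c18 LD2_c35 LD3_c26) Lrfl Lrfl
theorem f362923 : Led Lsl_df (LP (LK LD1_c18 LD2_c31 LD3_c40)) = (LP (LK LD1_c10 LD2_c12 LD3_c27)) :=
  Lgr Lrot168 (Lpe (f307336 IH) (Lpe (f256396 IH) (Lpr_et (f256395 IH) (Lpe (K17.f165522 IH) (Lpe (K18.f165554 IH) (Lpr_dt (K18.f259832 IH) (Lpe (f259833 IH) (Lpe (f362921 IH) (Lpr_gf (f362919 IH) (Lpe (f362894 IH) (Lpn (LP (LK LD1_c10 LD2_c12 LD3_c27)))))))))))))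
theorem f362931 : Led Lsl_dt (LP (LK LD1_c18 LD2_c31 LD3_c40)) = (LP (LK LD1_c10 LD2_c12 LD3_c27)) :=
  Lgr Lrot42 (Lpr_df (f362923 IH) (Lpn (LP (LK LD1_c10 LD2_c12 LD3_c27))))
theorem f259830 : Led Lsl_gt (LP (LK LD1_c10 LD2_c10 LD3_c10)) = (LP (LK LD1_c5 LD2_c9 LD3_c42)) :=
  Lre_g IH (LK LD1_c10 LD2_c10 LD3_c10) (LK LD1_c5 LD2_c9 LD3_c42) Lrfl Lrfl
theorem f362892 : Led Lsl_cf (LP (LK LD1_c10 LD2_c25 LD3_c28)) = (LP (LK LD1_c10 LD2_c12 LD3_c27)) :=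
  Lgr Lrot11 (Lpr_ct (f362886 IH) (Lpn (LP (LK LD1_c10 LD2_c12 LD3_c27))))
theorem f232095 : Led Lsl_gt (LP (LK LD1_c15 LD2_c38 LD3_c39)) = (LP (LK LD1_c8 LD2_c19 LD3_c2)) :=
  Lre_g IH (LK LD1_c15 LD2_c38 LD3_c39) (LK LD1_c8 LD2_c19 LD3_c2) Lrfl Lrfl
theorem f362943 : Led Lsl_cf (LP (LK LD1_c10 LD2_c10 LD3_c10)) = (LP (LK LD1_c15 LD2_c38 LD3_c39)) :=
  Lgr Lrot166 (Lpr_gt (f259830 IH) (Lpr_dt (f256396 IH) (Lpr_gt (f307336 IH) (Lpr_dt (f362931 IH) (Lpe (f362892 IH) (Lpr_df (K24.f287660 IH) (Lpe (K24.f232091 IH) (Lpe (K14.f232089 IH) (Lpe (f232095 IH) (Lpn (LP (LK LD1_c15 LD2_c38 LD3_c39))))))))))))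
theorem f166752 : Led Lsl_ct (LP (LK LD1_c2 LD2_c32 LD3_c3)) = (LP (LK LD1_c5 LD2_c10 LD3_c0)) :=
  Lre_c IH (LK LD1_c2 LD2_c32 LD3_c3) (LK LD1_c5 LD2_c10 LD3_c0) Lrfl Lrfl
theorem f322591 : Led Lsl_et (LP (LK LD1_c8 LD2_c33 LD3_c19)) = (LP (LK LD1_c16 LD2_c3 LD3_c38)) :=
  Lre_e IH (LK LD1_c8 LD2_c33 LD3_c19) (LK LD1_c16 LD2_c3 LD3_c38) Lrfl Lrfl
theorem f321937 : Led Lsl_dt (LP (LK LD1_c8 LD2_c33 LD3_c19)) = (LP (LK LD1_c16 LD2_c3 LD3_c37)) :=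
  Lre_d IH (LK LD1_c8 LD2_c33 LD3_c19) (LK LD1_c16 LD2_c3 LD3_c37) Lrfl Lrfl
theorem f219781 : Led Lsl_et (LP (LK LD1_c9 LD2_c35 LD3_c27)) = (LP (LK LD1_c4 LD2_c51 LD3_c40)) :=
  Lre_e IH (LK LD1_c9 LD2_c35 LD3_c27) (LK LD1_c4 LD2_c51 LD3_c40) Lrfl Lrfl
theorem f219782 : Led Lsl_dt (LP (LK LD1_c9 LD2_c35 LD3_c27)) = (LP (LK LD1_c17 LD2_c39 LD3_c39)) :=
  Lre_d IH (LK LD1_c9 LD2_c35 LD3_c27) (LK LD1_c17 LD2_c39 LD3_c39) Lrfl Lrfl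
theorem f322592 : Led Lsl_gf (LP (LK LD1_c16 LD2_c3 LD3_c37)) = (LP (LK LD1_c17 LD2_c39 LD3_c39)) :=
  Lgr Lrot145 (Lpe (f321937 IH) (Lpr_et (f322591 IH) (Lpr_gt (K20.f184474 IH) (Lpr_dt (K20.f322580 IH) (Lpr_gt (K20.f219217 IH) (Lpe (K13.f219149 IH) (Lpr_et (K21.f219148 IH) (Lpe (K12.f219771 IH) (Lpe (f219781 IH) (Lpr_dt (f219782 IH) (Lpn (LP (LK LD1_c17 LD2_c39 LD3_c39)))))))))))))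
theorem f184426 : Led Lsl_dt (LP (LK LD1_c16 LD2_c3 LD3_c37)) = (LP (LK LD1_c8 LD2_c33 LD3_c19)) :=
  Lre_d IH (LK LD1_c16 LD2_c3 LD3_c37) (LK LD1_c8 LD2_c33 LD3_c19) Lrfl Lrfl
theorem f322595 : Led Lsl_gt (LP (LK LD1_c16 LD2_c5 LD3_c42)) = (LP (LK LD1_c9 LD2_c35 LD3_c27)) :=
  Lgr Lrot94 (Lpe (f256007 IH) (Lpr_gt (K19.f307684 IH) (Lpe (K20.f300796 IH) (Lpe (K18.f184235 IH) (Lpr_dt (K18.f169399 IH) (Lpe (K25.f169417 IH) (Lpe (f184426 IH) (Lpr_gf (f322592 IH) (Lpe (f219782 IH) (Lpn (LP (LK LD1_c9 LD2_c35 LD3_c27))))))))))))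
theorem f169388 : Led Lsl_ct (LP (LK LD1_c8 LD2_c33 LD3_c17)) = (LP (LK LD1_c16 LD2_c3 LD3_c33)) :=
  Lre_c IH (LK LD1_c8 LD2_c33 LD3_c17) (LK LD1_c16 LD2_c3 LD3_c33) Lrfl Lrfl
theorem f297712 : Led Lsl_ct (LP (LK LD1_c9 LD2_c35 LD3_c27)) = (LP (LK LD1_c4 LD2_c51 LD3_c41)) :=
  Lre_c IH (LK LD1_c9 LD2_c35 LD3_c27) (LK LD1_c4 LD2_c51 LD3_c41) Lrfl Lrfl
theorem f322602 : Led Lsl_gt (LP (LK LD1_c16 LD2_c3 LD3_c33)) = (LP (LK LD1_c17 LD2_c39 LD3_c42)) :=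
  Lgr Lrot150 (Lpe (f169388 IH) (Lpr_gf (K21.f316098 IH) (Lpe (K18.f167471 IH) (Lpe (K19.f307686 IH) (Lpr_ct (f256007 IH) (Lpr_gt (f322595 IH) (Lpr_ct (f297712 IH) (Lpe (K18.f238258 IH) (Lpe (K21.f238269 IH) (Lpn (LP (LK LD1_c17 LD2_c39 LD3_c42))))))))))))
theorem f354798 : Led Lsl_gt (LP (LK LD1_c5 LD2_c10 LD3_c0)) = (LP (LK LD1_c5 LD2_c5 LD3_c45)) :=
  Lgr Lrot65 (Lpe (f166752 IH) (Lpr_bt (K25.f166748 IH) (Lpr_gf (K25.f354794 IH) (Lpe (K13.f193300 IH) (Lpr_ct (K21.f193301 IH) (Lpe (f322602 IH) (Lpe (f169388 IH) (Lpr_gf (K21.f316098 IH) (Lpe (K21.f167458 IH) (Lpr_ct (K18.f167462 IH) (Lpn (LP (LK LD1_c5 LD2_c5 LD3_c45)))))))))))))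
theorem f362951 : Led Lsl_bf (LP (LK LD1_c8 LD2_c33 LD3_c17)) = (LP (LK LD1_c15 LD2_c38 LD3_c39)) :=
  Lgr Lrot34 (Lpr_gf (K21.f316098 IH) (Lpe (K21.f167458 IH) (Lpr_ct (K18.f167462 IH) (Lpe (f354798 IH) (Lpe (f166752 IH) (Lpe (K25.f21329 IH) (Lpe (K19.f166735 IH) (Lpr_ct (K21.f259788 IH) (Lpe (f259830 IH) (Lpr_cf (f362943 IH) (Lpn (LP (LK LD1_c15 LD2_c38 LD3_c39)))))))))))))
theorem f232096 : Led Lsl_et (LP (LK LD1_c25 LD2_c33 LD3_c60)) = (LP (LK LD1_c15 LD2_c38 LD3_c39)) :=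
  Lre_e IH (LK LD1_c25 LD2_c33 LD3_c60) (LK LD1_c15 LD2_c38 LD3_c39) Lrfl Lrfl
theorem f362956 : Led Lsl_bt (LP (LK LD1_c16 LD2_c3 LD3_c34)) = (LP (LK LD1_c25 LD2_c33 LD3_c60)) :=
  Lgr Lrot119 (Lpe (K25.f169396 IH) (Lpr_bf (f362951 IH) (Lpe (f232096 IH) (Lpn (LP (LK LD1_c25 LD2_c33 LD3_c60))))))
theorem f355884 : Led Lsl_bf (LP (LK LD1_c10 LD2_c28 LD3_c26)) = (LP (LK LD1_c18 LD2_c58 LD3_c13)) :=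
  Lgr Lrot96 (Lpr_et (K25.f300477 IH) (Lpr_bt (K25.f355878 IH) (Lpr_et (K25.f355871 IH) (Lpn (LP (LK LD1_c18 LD2_c58 LD3_c13))))))
theorem f362960 : Led Lsl_df (LP (LK LD1_c18 LD2_c58 LD3_c13)) = (LP (LK LD1_c25 LD2_c33 LD3_c60)) :=
  Lgr Lrot12 (Lpe (f355884 IH) (Lpe (K25.f316094 IH) (Lpr_bt (f362956 IH) (Lpn (LP (LK LD1_c25 LD2_c33 LD3_c60))))))
theorem f362967 : Led Lsl_gf (LP (LK LD1_c18 LD2_c58 LD3_c13)) = (LP (LK LD1_c18 LD2_c58 LD3_c18)) :=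
  Lgr Lrot134 (Lpr_df (f362960 IH) (Lpr_et (f232096 IH) (Lpr_gt (f232095 IH) (Lpe (K14.f232030 IH) (Lpr_dt (K14.f44285 IH) (Lpr_gt (K9.f46478 IH) (Lpe (K1.f45816 IH) (Lpr_et (K1.f43938 IH) (Lpe (K25.f355947 IH) (Lpr_dt (K25.f233656 IH) (Lpn (LP (LK LD1_c18 LD2_c58 LD3_c18)))))))))))))
theorem f362962 : Led Lsl_dt (LP (LK LD1_c18 LD2_c58 LD3_c13)) = (LP (LK LD1_c25 LD2_c33 LD3_c60)) :=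
  Lgr Lrot42 (Lpr_df (f362960 IH) (Lpn (LP (LK LD1_c25 LD2_c33 LD3_c60))))
theorem f250073 : Led Lsl_bt (LP (LK LD1_c5 LD2_c16 LD3_c16)) = (LP (LK LD1_c10 LD2_c22 LD3_c6)) :=
  Lre_b IH (LK LD1_c5 LD2_c16 LD3_c16) (LK LD1_c10 LD2_c22 LD3_c6) Lrfl Lrfl
theorem f32382 : Led Lsl_ct (LP (LK LD1_c5 LD2_c16 LD3_c16)) = (LP (LK LD1_c10 LD2_c22 LD3_c7)) :=
  Lre_c IH (LK LD1_c5 LD2_c16 LD3_c16) (LK LD1_c10 LD2_c22 LD3_c7) Lrfl Lrfl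
theorem f32365 : Led Lsl_ct (LP (LK LD1_c5 LD2_c16 LD3_c14)) = (LP (LK LD1_c2 LD2_c34 LD3_c54)) :=
  Lre_c IH (LK LD1_c5 LD2_c16 LD3_c14) (LK LD1_c2 LD2_c34 LD3_c54) Lrfl Lrfl
theorem f48344 : Led Lsl_ff (LP (LK LD1_c5 LD2_c16 LD3_c14)) = (LP (LK LD1_c5 LD2_c18 LD3_c17)) :=
  Lgr Lrot23 (Lpr_ct (f32365 IH) (Lpr_ft (K10.f48334 IH) (Lpr_ct (K21.f32196 IH) (Lpn (LP (LK LD1_c5 LD2_c18 LD3_c17))))))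
theorem f32357 : Led Lsl_at (LP (LK LD1_c5 LD2_c16 LD3_c14)) = (LP (LK LD1_c10 LD2_c19 LD3_c50)) :=
  Lre_a IH (LK LD1_c5 LD2_c16 LD3_c14) (LK LD1_c10 LD2_c19 LD3_c50) Lrfl Lrfl
theorem f48909 : Led Lsl_gt (LP (LK LD1_c5 LD2_c18 LD3_c17)) = (LP (LK LD1_c10 LD2_c26 LD3_c16)) :=
  Lre_g IH (LK LD1_c5 LD2_c18 LD3_c17) (LK LD1_c10 LD2_c26 LD3_c16) Lrfl Lrfl
theorem f48910 : Led Lsl_gf (LP (LK LD1_c10 LD2_c19 LD3_c50)) = (LP (LK LD1_c10 LD2_c26 LD3_c16)) :=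
  Lgr Lrot76 (Lpe (f32357 IH) (Lpr_ff (f48344 IH) (Lpr_gt (f48909 IH) (Lpn (LP (LK LD1_c10 LD2_c26 LD3_c16))))))
theorem f342545 : Led Lsl_cf (LP (LK LD1_c10 LD2_c26 LD3_c16)) = (LP (LK LD1_c15 LD2_c31 LD3_c5)) :=
  Lgr Lrot125 (Lpe (f48910 IH) (Lpe (K2.f32351 IH) (Lpe (K23.f32532 IH) (Lpe (K23.f48922 IH) (Lpe (K23.f32393 IH) (Lpr_ct (K23.f342536 IH) (Lpe (K23.f215015 IH) (Lpe (K12.f214138 IH) (Lpr_bt (K24.f214545 IH) (Lpr_gt (K24.f45004 IH) (Lpn (LP (LK LD1_c15 LD2_c31 LD3_c5)))))))))))))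
theorem f342550 : Led Lsl_bf (LP (LK LD1_c17 LD2_c46 LD3_c60)) = (LP (LK LD1_c15 LD2_c31 LD3_c5)) :=
  Lgr Lrot156 (Lpr_gt (K14.f43292 IH) (Lpe (K15.f214543 IH) (Lpr_ct (K13.f214120 IH) (Lpr_gt (K23.f214990 IH) (Lpe (K23.f330585 IH) (Lpr_bt (K23.f32216 IH) (Lpr_gt (K17.f32207 IH) (Lpr_ct (K21.f32196 IH) (Lpr_gt (f48909 IH) (Lpr_cf (f342545 IH) (Lpn (LP (LK LD1_c15 LD2_c31 LD3_c5)))))))))))))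
theorem f342556 : Led Lsl_gf (LP (LK LD1_c15 LD2_c36 LD3_c17)) = (LP (LK LD1_c10 LD2_c22 LD3_c7)) :=
  Lgr Lrot129 (Lpe (K24.f252394 IH) (Lpr_bt (K14.f49469 IH) (Lpe (K14.f50056 IH) (Lpr_bf (f342550 IH) (Lpe (f342545 IH) (Lpe (f48910 IH) (Lpe (K2.f32351 IH) (Lpe (K23.f32532 IH) (Lpe (K23.f48922 IH) (Lpr_ct (f32382 IH) (Lpn (LP (LK LD1_c10 LD2_c22 LD3_c7)))))))))))))
theorem f342558 : Led Lsl_gt (LP (LK LD1_c10 LD2_c25 LD3_c14)) = (LP (LK LD1_c10 LD2_c22 LD3_c7)) :=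
  Lgr Lrot5 (Lpe (K14.f212462 IH) (Lpr_at (K14.f252380 IH) (Lpr_gf (f342556 IH) (Lpn (LP (LK LD1_c10 LD2_c22 LD3_c7))))))
theorem f342628 : Led Lsl_gt (LP (LK LD1_c10 LD2_c11 LD3_c39)) = (LP (LK LD1_c17 LD2_c47 LD3_c61)) :=
  Lgr Lrot149 (Lpr_cf (K19.f233484 IH) (Lpr_gf (K23.f342622 IH) (Lpe (f250073 IH) (Lpr_ct (f32382 IH) (Lpe (f342558 IH) (Lpr_cf (K24.f214547 IH) (Lpe (K15.f214539 IH) (Lpr_gf (K15.f214553 IH) (Lpe (K22.f335212 IH) (Lpr_ct (K22.f43310 IH) (Lpn (LP (LK LD1_c17 LD2_c47 LD3_c61)))))))))))))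
theorem f214984 : Led Lsl_dt (LP (LK LD1_c17 LD2_c47 LD3_c61)) = (LP (LK LD1_c27 LD2_c35 LD3_c20)) :=
  Lre_d IH (LK LD1_c17 LD2_c47 LD3_c61) (LK LD1_c27 LD2_c35 LD3_c20) Lrfl Lrfl
theorem f352124 : Led Lsl_et (LP (LK LD1_c17 LD2_c47 LD3_c61)) = (LP (LK LD1_c27 LD2_c35 LD3_c21)) :=
  Lre_e IH (LK LD1_c17 LD2_c47 LD3_c61) (LK LD1_c27 LD2_c35 LD3_c21) Lrfl Lrfl
theorem f259831 : Led Lsl_et (LP (LK LD1_c18 LD2_c31 LD3_c39)) = (LP (LK LD1_c10 LD2_c10 LD3_c10)) :=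
  Lre_e IH (LK LD1_c18 LD2_c31 LD3_c39) (LK LD1_c10 LD2_c10 LD3_c10) Lrfl Lrfl
theorem f330697 : Led Lsl_ct (LP (LK LD1_c17 LD2_c51 LD3_c3)) = (LP (LK LD1_c9 LD2_c42 LD3_c21)) :=
  Lre_c IH (LK LD1_c17 LD2_c51 LD3_c3) (LK LD1_c9 LD2_c42 LD3_c21) Lrfl Lrfl
theorem f330702 : Led Lsl_ef (LP (LK LD1_c17 LD2_c51 LD3_c3)) = (LP (LK LD1_c10 LD2_c0 LD3_c37)) :=
  Lgr Lrot28 (Lpr_ct (f330697 IH) (Lpr_et (K23.f330690 IH) (Lpr_ct (K22.f165396 IH) (Lpn (LP (LK LD1_c10 LD2_c0 LD3_c37))))))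
theorem f55281 : Led Lsl_et (LP (LK LD1_c2 LD2_c25 LD3_c43)) = (LP (LK LD1_c1 LD2_c10 LD3_c2)) :=
  Lre_e IH (LK LD1_c2 LD2_c25 LD3_c43) (LK LD1_c1 LD2_c10 LD3_c2) Lrfl Lrfl
theorem f55064 : Led Lsl_ft (LP (LK LD1_c4 LD2_c5 LD3_c27)) = (LP (LK LD1_c2 LD2_c25 LD3_c43)) :=
  Lgr Lrot101 (Lpe (K17.f55063 IH) (Lpr_ff (K1.f55060 IH) (Lpe (K1.f41107 IH) (Lpn (LP (LK LD1_c2 LD2_c25 LD3_c43))))))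
theorem f55261 : Led Lsl_dt (LP (LK LD1_c2 LD2_c25 LD3_c43)) = (LP (LK LD1_c2 LD2_c25 LD3_c43)) :=
  Lgr Lrot60 (Lpe (f55064 IH) (Lpr_df (K17.f47427 IH) (Lpr_ff (K1.f55130 IH) (Lpn (LP (LK LD1_c2 LD2_c25 LD3_c43))))))
theorem f284027 : Led Lsl_gf (LP (LK LD1_c15 LD2_c24 LD3_c44)) = (LP (LK LD1_c9 LD2_c56 LD3_c54)) :=
  Lgr Lrot138 (Lpr_dt (K19.f284024 IH) (Lpr_gt (K18.f257603 IH) (Lpr_df (K15.f259592 IH) (Lpr_et (K15.f55095 IH) (Lpr_gt (K12.f55291 IH) (Lpe (f55281 IH) (Lpr_dt (f55261 IH) (Lpr_gt (K19.f55265 IH) (Lpe (K19.f55269 IH) (Lpe (K19.f247645 IH) (Lpn (LP (LK LD1_c9 LD2_c56 LD3_c54)))))))))))))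
theorem f330692 : Led Lsl_gt (LP (LK LD1_c9 LD2_c42 LD3_c21)) = (LP (LK LD1_c17 LD2_c46 LD3_c12)) :=
  Lgr Lrot137 (Lpr_ef (K23.f330683 IH) (Lpr_dt (K21.f185939 IH) (Lpe (K23.f330647 IH) (Lpr_df (K21.f307259 IH) (Lpr_et (K23.f214988 IH) (Lpe (K21.f259792 IH) (Lpr_ef (K18.f288318 IH) (Lpe (K19.f284019 IH) (Lpr_gf (f284027 IH) (Lpe (K19.f257629 IH) (Lpn (LP (LK LD1_c17 LD2_c46 LD3_c12)))))))))))))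
theorem f330687 : Led Lsl_ct (LP (LK LD1_c9 LD2_c42 LD3_c21)) = (LP (LK LD1_c17 LD2_c51 LD3_c3)) :=
  Lre_c IH (LK LD1_c9 LD2_c42 LD3_c21) (LK LD1_c17 LD2_c51 LD3_c3) Lrfl Lrfl
theorem f257746 : Led Lsl_gf (LP (LK LD1_c27 LD2_c49 LD3_c38)) = (LP (LK LD1_c18 LD2_c12 LD3_c22)) :=
  Lgr Lrot76 (Lpr_af (K25.f257733 IH) (Lpe (K25.f257732 IH) (Lpr_gt (K19.f257745 IH) (Lpn (LP (LK LD1_c18 LD2_c12 LD3_c22))))))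
theorem f330694 : Led Lsl_gt (LP (LK LD1_c17 LD2_c51 LD3_c3)) = (LP (LK LD1_c27 LD2_c32 LD3_c37)) :=
  Lgr Lrot94 (Lpe (f330687 IH) (Lpr_gt (f330692 IH) (Lpr_dt (K19.f257629 IH) (Lpe (f284027 IH) (Lpr_dt (K19.f284024 IH) (Lpe (K23.f257683 IH) (Lpe (K25.f257709 IH) (Lpr_gf (f257746 IH) (Lpe (K19.f306370 IH) (Lpn (LP (LK LD1_c27 LD2_c32 LD3_c37))))))))))))
theorem f257714 : Led Lsl_dt (LP (LK LD1_c18 LD2_c9 LD3_c11)) = (LP (LK LD1_c27 LD2_c49 LD3_c38)) :=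
  Lre_d IH (LK LD1_c18 LD2_c9 LD3_c11) (LK LD1_c27 LD2_c49 LD3_c38) Lrfl Lrfl
theorem f259791 : Led Lsl_ct (LP (LK LD1_c18 LD2_c30 LD3_c44)) = (LP (LK LD1_c10 LD2_c9 LD3_c43)) :=
  Lre_c IH (LK LD1_c18 LD2_c30 LD3_c44) (LK LD1_c10 LD2_c9 LD3_c43) Lrfl Lrfl
theorem f300097 : Led Lsl_ef (LP (LK LD1_c18 LD2_c30 LD3_c44)) = (LP (LK LD1_c18 LD2_c9 LD3_c11)) :=
  Lgr Lrot28 (Lpr_ct (f259791 IH) (Lpr_et (K19.f300095 IH) (Lpr_ct (K19.f257694 IH) (Lpn (LP (LK LD1_c18 LD2_c9 LD3_c11))))))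
theorem f300088 : Led Lsl_gt (LP (LK LD1_c18 LD2_c30 LD3_c44)) = (LP (LK LD1_c10 LD2_c10 LD3_c10)) :=
  Lre_g IH (LK LD1_c18 LD2_c30 LD3_c44) (LK LD1_c10 LD2_c10 LD3_c10) Lrfl Lrfl
theorem f330708 : Led Lsl_dt (LP (LK LD1_c10 LD2_c0 LD3_c37)) = (LP (LK LD1_c18 LD2_c17 LD3_c35)) :=
  Lre_d IH (LK LD1_c10 LD2_c0 LD3_c37) (LK LD1_c18 LD2_c17 LD3_c35) Lrfl Lrfl
theorem f165395 : Led Lsl_gt (LP (LK LD1_c27 LD2_c56 LD3_c30)) = (LP (LK LD1_c18 LD2_c17 LD3_c35)) :=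
  Lre_g IH (LK LD1_c27 LD2_c56 LD3_c30) (LK LD1_c18 LD2_c17 LD3_c35) Lrfl Lrfl
theorem f330709 : Led Lsl_dt (LP (LK LD1_c18 LD2_c31 LD3_c39)) = (LP (LK LD1_c27 LD2_c56 LD3_c30)) :=
  Lgr Lrot136 (Lpr_et (f259831 IH) (Lpe (f300088 IH) (Lpr_ef (f300097 IH) (Lpr_dt (f257714 IH) (Lpr_gf (f257746 IH) (Lpe (K19.f306370 IH) (Lpe (f330694 IH) (Lpr_ef (f330702 IH) (Lpr_dt (f330708 IH) (Lpe (f165395 IH) (Lpn (LP (LK LD1_c27 LD2_c56 LD3_c30)))))))))))))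
theorem f362925 : Led Lsl_gt (LP (LK LD1_c27 LD2_c35 LD3_c20)) = (LP (LK LD1_c27 LD2_c56 LD3_c30)) :=
  Lgr Lrot112 (Lpe (f214984 IH) (Lpr_et (f352124 IH) (Lpr_gf (f362919 IH) (Lpe (f362894 IH) (Lpe (f362923 IH) (Lpe (f307336 IH) (Lpe (f256396 IH) (Lpe (f259830 IH) (Lpe (f259831 IH) (Lpr_dt (f330709 IH) (Lpn (LP (LK LD1_c27 LD2_c56 LD3_c30)))))))))))))
theorem f330712 : Led Lsl_df (LP (LK LD1_c18 LD2_c31 LD3_c39)) = (LP (LK LD1_c27 LD2_c56 LD3_c30)) :=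
  Lgr Lrot38 (Lpr_dt (f330709 IH) (Lpn (LP (LK LD1_c27 LD2_c56 LD3_c30))))
theorem f362969 : Led Lsl_ct (LP (LK LD1_c25 LD2_c33 LD3_c60)) = (LP (LK LD1_c18 LD2_c31 LD3_c39)) :=
  Lgr Lrot7 (Lpe (f362962 IH) (Lpr_gf (f362967 IH) (Lpe (K25.f233656 IH) (Lpr_gf (K25.f355947 IH) (Lpr_cf (K19.f192913 IH) (Lpr_gt (f342628 IH) (Lpr_dt (f214984 IH) (Lpr_gt (f362925 IH) (Lpe (f330712 IH) (Lpn (LP (LK LD1_c18 LD2_c31 LD3_c39))))))))))))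
theorem f335260 : Led Lsl_dt (LP (LK LD1_c27 LD2_c50 LD3_c14)) = (LP (LK LD1_c18 LD2_c9 LD3_c45)) :=
  Lre_d IH (LK LD1_c27 LD2_c50 LD3_c14) (LK LD1_c18 LD2_c9 LD3_c45) Lrfl Lrfl
theorem f249437 : Led Lsl_dt (LP (LK LD1_c18 LD2_c9 LD3_c45)) = (LP (LK LD1_c27 LD2_c50 LD3_c14)) :=
  Lre_d IH (LK LD1_c18 LD2_c9 LD3_c45) (LK LD1_c27 LD2_c50 LD3_c14) Lrfl Lrfl
theorem f312523 : Led Lsl_dt (LP (LK LD1_c17 LD2_c46 LD3_c49)) = (LP (LK LD1_c27 LD2_c33 LD3_c37)) :=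
  Lre_d IH (LK LD1_c17 LD2_c46 LD3_c49) (LK LD1_c27 LD2_c33 LD3_c37) Lrfl Lrfl
theorem f335258 : Led Lsl_gf (LP (LK LD1_c27 LD2_c50 LD3_c14)) = (LP (LK LD1_c27 LD2_c33 LD3_c37)) :=
  Lgr Lrot134 (Lpe (f249437 IH) (Lpr_et (K25.f249436 IH) (Lpr_gt (K25.f166663 IH) (Lpe (K17.f249435 IH) (Lpr_dt (K14.f165322 IH) (Lpr_gt (K14.f249424 IH) (Lpr_df (K14.f233431 IH) (Lpr_et (K14.f233426 IH) (Lpr_gt (K23.f335245 IH) (Lpr_dt (f312523 IH) (Lpn (LP (LK LD1_c27 LD2_c33 LD3_c37)))))))))))))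
theorem f362965 : Led Lsl_gt (LP (LK LD1_c18 LD2_c58 LD3_c30)) = (LP (LK LD1_c25 LD2_c33 LD3_c60)) :=
  Lgr Lrot49 (Lpe (K23.f45843 IH) (Lpe (K19.f43955 IH) (Lpr_cf (K19.f233427 IH) (Lpr_gt (K23.f335245 IH) (Lpr_dt (f312523 IH) (Lpe (f335258 IH) (Lpr_dt (f335260 IH) (Lpe (K25.f355899 IH) (Lpr_df (f362960 IH) (Lpn (LP (LK LD1_c25 LD2_c33 LD3_c60))))))))))))
theorem f163905 : Led Lsl_ct (LP (LK LD1_c10 LD2_c14 LD3_c37)) = (LP (LK LD1_c5 LD2_c11 LD3_c54)) :=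
  Lre_c IH (LK LD1_c10 LD2_c14 LD3_c37) (LK LD1_c5 LD2_c11 LD3_c54) Lrfl Lrfl
theorem f306996 : Led Lsl_ct (LP (LK LD1_c18 LD2_c38 LD3_c35)) = (LP (LK LD1_c10 LD2_c14 LD3_c38)) :=
  Lre_c IH (LK LD1_c18 LD2_c38 LD3_c35) (LK LD1_c10 LD2_c14 LD3_c38) Lrfl Lrfl
theorem f363148 : Led Lsl_gf (LP (LK LD1_c18 LD2_c38 LD3_c35)) = (LP (LK LD1_c18 LD2_c31 LD3_c39)) :=
  Lgr Lrot104 (Lpr_ct (f306996 IH) (Lpe (K19.f312488 IH) (Lpe (f163905 IH) (Lpe (K22.f335145 IH) (Lpe (K19.f190723 IH) (Lpr_gf (K19.f46389 IH) (Lpe (K23.f46092 IH) (Lpr_gt (f362965 IH) (Lpr_ct (f362969 IH) (Lpn (LP (LK LD1_c18 LD2_c31 LD3_c39))))))))))))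
theorem f190689 : Led Lsl_dt (LP (LK LD1_c9 LD2_c58 LD3_c19)) = (LP (LK LD1_c18 LD2_c14 LD3_c32)) :=
  Lre_d IH (LK LD1_c9 LD2_c58 LD3_c19) (LK LD1_c18 LD2_c14 LD3_c32) Lrfl Lrfl
theorem f233646 : Led Lsl_ft (LP (LK LD1_c18 LD2_c14 LD3_c32)) = (LP (LK LD1_c18 LD2_c35 LD3_c15)) :=
  Lgr Lrot48 (Lpr_ff (K19.f233633 IH) (Lpn (LP (LK LD1_c18 LD2_c35 LD3_c15))))
theorem f233631 : Led Lsl_af (LP (LK LD1_c18 LD2_c13 LD3_c7)) = (LP (LK LD1_c18 LD2_c35 LD3_c15)) :=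
  Lgr Lrot0 (Lpr_at (K19.f233629 IH) (Lpn (LP (LK LD1_c18 LD2_c35 LD3_c15))))
theorem f233482 : Led Lsl_gt (LP (LK LD1_c27 LD2_c53 LD3_c40)) = (LP (LK LD1_c18 LD2_c13 LD3_c7)) :=
  Lre_g IH (LK LD1_c27 LD2_c53 LD3_c40) (LK LD1_c18 LD2_c13 LD3_c7) Lrfl Lrfl
theorem f233658 : Led Lsl_gt (LP (LK LD1_c18 LD2_c14 LD3_c32)) = (LP (LK LD1_c27 LD2_c53 LD3_c40)) :=
  Lgr Lrot5 (Lpr_ft (f233646 IH) (Lpe (f233631 IH) (Lpe (f233482 IH) (Lpn (LP (LK LD1_c27 LD2_c53 LD3_c40))))))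
theorem f335247 : Led Lsl_dt (LP (LK LD1_c27 LD2_c53 LD3_c40)) = (LP (LK LD1_c18 LD2_c38 LD3_c35)) :=
  Lgr Lrot105 (Lpe (f233658 IH) (Lpe (f190689 IH) (Lpr_gf (K23.f335243 IH) (Lpe (K23.f43375 IH) (Lpe (K15.f214553 IH) (Lpr_dt (K13.f192558 IH) (Lpe (K19.f312499 IH) (Lpr_dt (K19.f312488 IH) (Lpe (f306996 IH) (Lpn (LP (LK LD1_c18 LD2_c38 LD3_c35))))))))))))
theorem f335256 : Led Lsl_df (LP (LK LD1_c27 LD2_c53 LD3_c40)) = (LP (LK LD1_c18 LD2_c38 LD3_c35)) :=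
  Lgr Lrot38 (Lpr_dt (f335247 IH) (Lpn (LP (LK LD1_c18 LD2_c38 LD3_c35))))
theorem f330714 : Led Lsl_et (LP (LK LD1_c10 LD2_c10 LD3_c10)) = (LP (LK LD1_c18 LD2_c31 LD3_c39)) :=
  Lre_e IH (LK LD1_c10 LD2_c10 LD3_c10) (LK LD1_c18 LD2_c31 LD3_c39) Lrfl Lrfl
theorem f300105 : Led Lsl_dt (LP (LK LD1_c10 LD2_c10 LD3_c10)) = (LP (LK LD1_c18 LD2_c31 LD3_c38)) :=
  Lre_d IH (LK LD1_c10 LD2_c10 LD3_c10) (LK LD1_c18 LD2_c31 LD3_c38) Lrfl Lrfl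
theorem f363154 : Led Lsl_gt (LP (LK LD1_c17 LD2_c47 LD3_c17)) = (LP (LK LD1_c18 LD2_c31 LD3_c38)) :=
  Lgr Lrot112 (Lpe (K19.f230558 IH) (Lpr_et (K14.f230557 IH) (Lpr_gf (K14.f233688 IH) (Lpe (K14.f233441 IH) (Lpr_dt (K19.f233475 IH) (Lpe (f233482 IH) (Lpr_df (f335256 IH) (Lpr_gf (f363148 IH) (Lpe (f330714 IH) (Lpr_dt (f300105 IH) (Lpn (LP (LK LD1_c18 LD2_c31 LD3_c38)))))))))))))
theorem f330715 : Led Lsl_dt (LP (LK LD1_c18 LD2_c31 LD3_c38)) = (LP (LK LD1_c10 LD2_c10 LD3_c10)) :=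
  Lre_d IH (LK LD1_c18 LD2_c31 LD3_c38) (LK LD1_c10 LD2_c10 LD3_c10) Lrfl Lrfl
theorem f362940 : Led Lsl_ct (LP (LK LD1_c10 LD2_c10 LD3_c10)) = (LP (LK LD1_c15 LD2_c38 LD3_c39)) :=
  Lgr Lrot8 (Lpr_gt (f259830 IH) (Lpr_dt (f256396 IH) (Lpr_gt (f307336 IH) (Lpr_dt (f362931 IH) (Lpe (f362886 IH) (Lpr_df (K24.f287660 IH) (Lpe (K24.f232091 IH) (Lpe (K14.f232089 IH) (Lpe (f232095 IH) (Lpn (LP (LK LD1_c15 LD2_c38 LD3_c39))))))))))))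
theorem f171455 : Led Lsl_ct (LP (LK LD1_c4 LD2_c18 LD3_c52)) = (LP (LK LD1_c8 LD2_c36 LD3_c27)) :=
  Lre_c IH (LK LD1_c4 LD2_c18 LD3_c52) (LK LD1_c8 LD2_c36 LD3_c27) Lrfl Lrfl
theorem f304588 : Led Lsl_ef (LP (LK LD1_c8 LD2_c24 LD3_c39)) = (LP (LK LD1_c8 LD2_c36 LD3_c27)) :=
  Lgr Lrot28 (Lpr_ct (K25.f166948 IH) (Lpr_et (K19.f304583 IH) (Lpr_ct (f171455 IH) (Lpn (LP (LK LD1_c8 LD2_c36 LD3_c27))))))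
theorem f304625 : Led Lsl_dt (LP (LK LD1_c8 LD2_c36 LD3_c27)) = (LP (LK LD1_c16 LD2_c7 LD3_c57)) :=
  Lre_d IH (LK LD1_c8 LD2_c36 LD3_c27) (LK LD1_c16 LD2_c7 LD3_c57) Lrfl Lrfl
theorem f250836 : Led Lsl_et (LP (LK LD1_c8 LD2_c18 LD3_c61)) = (LP (LK LD1_c4 LD2_c9 LD3_c30)) :=
  Lre_e IH (LK LD1_c8 LD2_c18 LD3_c61) (LK LD1_c4 LD2_c9 LD3_c30) Lrfl Lrfl
theorem f250837 : Led Lsl_dt (LP (LK LD1_c8 LD2_c18 LD3_c61)) = (LP (LK LD1_c15 LD2_c38 LD3_c36)) :=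
  Lre_d IH (LK LD1_c8 LD2_c18 LD3_c61) (LK LD1_c15 LD2_c38 LD3_c36) Lrfl Lrfl
theorem f332970 : Led Lsl_gt (LP (LK LD1_c16 LD2_c7 LD3_c57)) = (LP (LK LD1_c15 LD2_c38 LD3_c36)) :=
  Lgr Lrot112 (Lpe (f304625 IH) (Lpe (f304588 IH) (Lpr_gf (K25.f332964 IH) (Lpe (K25.f219700 IH) (Lpr_dt (K23.f191843 IH) (Lpr_gf (K23.f278802 IH) (Lpe (K16.f53962 IH) (Lpe (K14.f250509 IH) (Lpe (f250836 IH) (Lpr_dt (f250837 IH) (Lpn (LP (LK LD1_c15 LD2_c38 LD3_c36)))))))))))))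
theorem f53977 : Led Lsl_et (LP (LK LD1_c4 LD2_c6 LD3_c11)) = (LP (LK LD1_c4 LD2_c5 LD3_c1)) :=
  Lgr Lrot158 (Lpe (K12.f44501 IH) (Lpr_ef (K12.f53973 IH) (Lpe (K14.f53637 IH) (Lpn (LP (LK LD1_c4 LD2_c5 LD3_c1))))))
theorem f250833 : Led Lsl_et (LP (LK LD1_c7 LD2_c55 LD3_c30)) = (LP (LK LD1_c14 LD2_c57 LD3_c5)) :=
  Lre_e IH (LK LD1_c7 LD2_c55 LD3_c30) (LK LD1_c14 LD2_c57 LD3_c5) Lrfl Lrfl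
theorem f332975 : Led Lsl_gf (LP (LK LD1_c8 LD2_c36 LD3_c27)) = (LP (LK LD1_c14 LD2_c57 LD3_c5)) :=
  Lgr Lrot138 (Lpr_dt (f304625 IH) (Lpr_gt (f332970 IH) (Lpe (f250837 IH) (Lpr_et (f250836 IH) (Lpr_gt (K14.f250509 IH) (Lpe (f53977 IH) (Lpr_dt (K12.f44502 IH) (Lpe (K17.f250831 IH) (Lpe (K17.f250822 IH) (Lpr_et (f250833 IH) (Lpn (LP (LK LD1_c14 LD2_c57 LD3_c5)))))))))))))
theorem f323309 : Led Lsl_dt (LP (LK LD1_c15 LD2_c38 LD3_c36)) = (LP (LK LD1_c8 LD2_c18 LD3_c61)) :=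
  Lre_d IH (LK LD1_c15 LD2_c38 LD3_c36) (LK LD1_c8 LD2_c18 LD3_c61) Lrfl Lrfl
theorem f287667 : Led Lsl_ct (LP (LK LD1_c4 LD2_c9 LD3_c31)) = (LP (LK LD1_c8 LD2_c18 LD3_c61)) :=
  Lre_c IH (LK LD1_c4 LD2_c9 LD3_c31) (LK LD1_c8 LD2_c18 LD3_c61) Lrfl Lrfl
theorem f355863 : Led Lsl_dt (LP (LK LD1_c8 LD2_c33 LD3_c15)) = (LP (LK LD1_c15 LD2_c38 LD3_c39)) :=
  Lgr Lrot57 (Lpr_gf (K25.f355859 IH) (Lpe (f229668 IH) (Lpe (f332975 IH) (Lpr_dt (f304625 IH) (Lpr_gt (f332970 IH) (Lpr_dt (f323309 IH) (Lpe (f287667 IH) (Lpe (K14.f232089 IH) (Lpe (f232095 IH) (Lpn (LP (LK LD1_c15 LD2_c38 LD3_c39))))))))))))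
theorem f229073 : Led Lsl_gt (LP (LK LD1_c10 LD2_c28 LD3_c0)) = (LP (LK LD1_c5 LD2_c19 LD3_c5)) :=
  Lre_g IH (LK LD1_c10 LD2_c28 LD3_c0) (LK LD1_c5 LD2_c19 LD3_c5) Lrfl Lrfl
theorem f363158 : Led Lsl_cf (LP (LK LD1_c17 LD2_c47 LD3_c16)) = (LP (LK LD1_c10 LD2_c28 LD3_c0)) :=
  Lgr Lrot166 (Lpr_gt (K19.f248563 IH) (Lpr_dt (K19.f230558 IH) (Lpr_gt (f363154 IH) (Lpr_dt (f330715 IH) (Lpr_ct (f362940 IH) (Lpe (f355863 IH) (Lpr_gf (K25.f355859 IH) (Lpe (K13.f229655 IH) (Lpe (f229073 IH) (Lpn (LP (LK LD1_c10 LD2_c28 LD3_c0))))))))))))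
theorem f166908 : Led Lsl_gt (LP (LK LD1_c5 LD2_c3 LD3_c43)) = (LP (LK LD1_c9 LD2_c58 LD3_c16)) :=
  Lre_g IH (LK LD1_c5 LD2_c3 LD3_c43) (LK LD1_c9 LD2_c58 LD3_c16) Lrfl Lrfl
theorem f166937 : Led Lsl_ct (LP (LK LD1_c9 LD2_c58 LD3_c16)) = (LP (LK LD1_c18 LD2_c14 LD3_c27)) :=
  Lre_c IH (LK LD1_c9 LD2_c58 LD3_c16) (LK LD1_c18 LD2_c14 LD3_c27) Lrfl Lrfl
theorem f305978 : Led Lsl_dt (LP (LK LD1_c18 LD2_c9 LD3_c52)) = (LP (LK LD1_c9 LD2_c55 LD3_c18)) :=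
  Lre_d IH (LK LD1_c18 LD2_c9 LD3_c52) (LK LD1_c9 LD2_c55 LD3_c18) Lrfl Lrfl
theorem f305973 : Led Lsl_ct (LP (LK LD1_c9 LD2_c55 LD3_c18)) = (LP (LK LD1_c5 LD2_c2 LD3_c14)) :=
  Lre_c IH (LK LD1_c9 LD2_c55 LD3_c18) (LK LD1_c5 LD2_c2 LD3_c14) Lrfl Lrfl
theorem f305979 : Led Lsl_dt (LP (LK LD1_c8 LD2_c24 LD3_c7)) = (LP (LK LD1_c5 LD2_c2 LD3_c14)) :=
  Lgr Lrot42 (Lpr_df (K21.f305976 IH) (Lpn (LP (LK LD1_c5 LD2_c2 LD3_c14))))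
theorem f166841 : Led Lsl_gt (LP (LK LD1_c9 LD2_c58 LD3_c16)) = (LP (LK LD1_c5 LD2_c3 LD3_c50)) :=
  Lre_g IH (LK LD1_c9 LD2_c58 LD3_c16) (LK LD1_c5 LD2_c3 LD3_c50) Lrfl Lrfl
theorem f355609 : Led Lsl_gt (LP (LK LD1_c18 LD2_c14 LD3_c27)) = (LP (LK LD1_c24 LD2_c48 LD3_c7)) :=
  Lgr Lrot94 (Lpe (f166937 IH) (Lpr_gt (f166841 IH) (Lpr_dt (K21.f166808 IH) (Lpr_gt (K21.f166838 IH) (Lpr_dt (f305979 IH) (Lpe (f305973 IH) (Lpe (f305978 IH) (Lpe (K25.f306022 IH) (Lpr_df (K25.f355600 IH) (Lpn (LP (LK LD1_c24 LD2_c48 LD3_c7))))))))))))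
theorem f363171 : Led Lsl_bf (LP (LK LD1_c10 LD2_c29 LD3_c18)) = (LP (LK LD1_c10 LD2_c28 LD3_c0)) :=
  Lgr Lrot34 (Lpe (K21.f320833 IH) (Lpe (K21.f187137 IH) (Lpr_ct (K23.f191816 IH) (Lpe (f355609 IH) (Lpe (f166937 IH) (Lpe (f166908 IH) (Lpr_bf (K19.f249645 IH) (Lpr_ct (K19.f248566 IH) (Lpe (K19.f248563 IH) (Lpr_cf (f363158 IH) (Lpn (LP (LK LD1_c10 LD2_c28 LD3_c0)))))))))))))
theorem f275875 : Led Lsl_bt (LP (LK LD1_c7 LD2_c55 LD3_c49)) = (LP (LK LD1_c14 LD2_c57 LD3_c32)) :=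
  Lre_b IH (LK LD1_c7 LD2_c55 LD3_c49) (LK LD1_c14 LD2_c57 LD3_c32) Lrfl Lrfl
theorem f363173 : Led Lsl_dt (LP (LK LD1_c14 LD2_c57 LD3_c32)) = (LP (LK LD1_c10 LD2_c28 LD3_c0)) :=
  Lgr Lrot79 (Lpe (f275875 IH) (Lpr_df (K20.f275869 IH) (Lpr_bf (f363171 IH) (Lpn (LP (LK LD1_c10 LD2_c28 LD3_c0))))))
theorem f222028 : Led Lsl_gt (LP (LK LD1_c8 LD2_c29 LD3_c46)) = (LP (LK LD1_c15 LD2_c57 LD3_c4)) :=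
  Lre_g IH (LK LD1_c8 LD2_c29 LD3_c46) (LK LD1_c15 LD2_c57 LD3_c4) Lrfl Lrfl
theorem f363177 : Led Lsl_et (LP (LK LD1_c14 LD2_c57 LD3_c32)) = (LP (LK LD1_c15 LD2_c57 LD3_c4)) :=
  Lgr Lrot122 (Lpr_dt (f363173 IH) (Lpr_gt (f229073 IH) (Lpr_df (K17.f229662 IH) (Lpr_et (K13.f229654 IH) (Lpe (K14.f229641 IH) (Lpr_dt (K14.f169155 IH) (Lpr_gt (K15.f169150 IH) (Lpr_df (K15.f257976 IH) (Lpr_et (K16.f222037 IH) (Lpr_gt (f222028 IH) (Lpn (LP (LK LD1_c15 LD2_c57 LD3_c4)))))))))))))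
theorem f363175 : Led Lsl_df (LP (LK LD1_c14 LD2_c57 LD3_c32)) = (LP (LK LD1_c10 LD2_c28 LD3_c0)) :=
  Lgr Lrot38 (Lpr_dt (f363173 IH) (Lpn (LP (LK LD1_c10 LD2_c28 LD3_c0))))
theorem f307445 : Led Lsl_et (LP (LK LD1_c17 LD2_c47 LD3_c16)) = (LP (LK LD1_c10 LD2_c11 LD3_c46)) :=
  Lgr Lrot122 (Lpr_dt (K19.f248567 IH) (Lpr_gt (K19.f307434 IH) (Lpe (K19.f283887 IH) (Lpr_et (K19.f283886 IH) (Lpr_gt (K17.f283882 IH) (Lpr_dt (K17.f169849 IH) (Lpe (K17.f283880 IH) (Lpe (K14.f192930 IH) (Lpr_et (K25.f249685 IH) (Lpr_gt (K21.f283884 IH) (Lpn (LP (LK LD1_c10 LD2_c11 LD3_c46)))))))))))))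
theorem f363169 : Led Lsl_et (LP (LK LD1_c15 LD2_c14 LD3_c8)) = (LP (LK LD1_c10 LD2_c28 LD3_c0)) :=
  Lgr Lrot158 (Lpr_cf (f326893 IH) (Lpe (f307445 IH) (Lpr_cf (f363158 IH) (Lpn (LP (LK LD1_c10 LD2_c28 LD3_c0))))))
theorem f356871 : Led Lsl_et (LP (LK LD1_c25 LD2_c11 LD3_c17)) = (LP (LK LD1_c19 LD2_c42 LD3_c20)) :=
  Lgr Lrot87 (Lpr_ef (K25.f356867 IH) (Lpn (LP (LK LD1_c19 LD2_c42 LD3_c20))))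
theorem f363181 : Led Lsl_df (LP (LK LD1_c25 LD2_c11 LD3_c17)) = (LP (LK LD1_c15 LD2_c57 LD3_c4)) :=
  Lgr Lrot70 (Lpr_et (f356871 IH) (Lpe (K25.f355574 IH) (Lpr_et (f363169 IH) (Lpe (f363175 IH) (Lpr_et (f363177 IH) (Lpn (LP (LK LD1_c15 LD2_c57 LD3_c4))))))))
theorem f356875 : Led Lsl_df (LP (LK LD1_c15 LD2_c20 LD3_c4)) = (LP (LK LD1_c15 LD2_c36 LD3_c28)) :=
  Lgr Lrot38 (Lpr_dt (K25.f356873 IH) (Lpn (LP (LK LD1_c15 LD2_c36 LD3_c28))))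
theorem f184299 : Led Lsl_gt (LP (LK LD1_c10 LD2_c37 LD3_c46)) = (LP (LK LD1_c5 LD2_c23 LD3_c37)) :=
  Lre_g IH (LK LD1_c10 LD2_c37 LD3_c46) (LK LD1_c5 LD2_c23 LD3_c37) Lrfl Lrfl
theorem f363193 : Led Lsl_et (LP (LK LD1_c15 LD2_c36 LD3_c28)) = (LP (LK LD1_c10 LD2_c37 LD3_c46)) :=
  Lgr Lrot185 (Lpe (f356875 IH) (Lpe (K25.f356866 IH) (Lpr_df (f363181 IH) (Lpe (f222028 IH) (Lpe (K16.f222037 IH) (Lpe (K15.f257976 IH) (Lpe (K15.f169150 IH) (Lpe (K14.f169155 IH) (Lpr_et (K22.f184344 IH) (Lpe (f184299 IH) (Lpn (LP (LK LD1_c10 LD2_c37 LD3_c46)))))))))))))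
theorem f284470 : Led Lsl_gf (LP (LK LD1_c15 LD2_c32 LD3_c2)) = (LP (LK LD1_c10 LD2_c33 LD3_c42)) :=
  Lgr Lrot76 (Lpr_af (K17.f284461 IH) (Lpe (K14.f250991 IH) (Lpr_gt (K25.f250993 IH) (Lpn (LP (LK LD1_c10 LD2_c33 LD3_c42))))))
theorem f356885 : Led Lsl_gf (LP (LK LD1_c20 LD2_c58 LD3_c54)) = (LP (LK LD1_c15 LD2_c20 LD3_c4)) :=
  Lgr Lrot134 (Lpe (K25.f316038 IH) (Lpr_et (K20.f310309 IH) (Lpr_gt (K25.f352594 IH) (Lpe (K25.f352598 IH) (Lpr_dt (K25.f262647 IH) (Lpe (f284470 IH) (Lpr_df (K17.f284481 IH) (Lpe (K17.f284491 IH) (Lpr_gt (K25.f356877 IH) (Lpe (f356875 IH) (Lpn (LP (LK LD1_c15 LD2_c20 LD3_c4)))))))))))))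
theorem f363199 : Led Lsl_gt (LP (LK LD1_c15 LD2_c36 LD3_c40)) = (LP (LK LD1_c10 LD2_c37 LD3_c46)) :=
  Lgr Lrot131 (Lpe (K22.f310806 IH) (Lpr_dt (K22.f292421 IH) (Lpr_gf (K23.f348512 IH) (Lpe (K25.f311396 IH) (Lpe (K25.f352594 IH) (Lpe (K20.f310309 IH) (Lpr_dt (K25.f316038 IH) (Lpr_gf (f356885 IH) (Lpr_df (f356875 IH) (Lpr_et (f363193 IH) (Lpn (LP (LK LD1_c10 LD2_c37 LD3_c46)))))))))))))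
theorem f184345 : Led Lsl_dt (LP (LK LD1_c19 LD2_c15 LD3_c6)) = (LP (LK LD1_c10 LD2_c37 LD3_c46)) :=
  Lre_d IH (LK LD1_c19 LD2_c15 LD3_c6) (LK LD1_c10 LD2_c37 LD3_c46) Lrfl Lrfl
theorem f363203 : Led Lsl_ef (LP (LK LD1_c15 LD2_c8 LD3_c54)) = (LP (LK LD1_c19 LD2_c15 LD3_c6)) :=
  Lgr Lrot167 (Lpr_gt (K25.f356859 IH) (Lpr_dt (K25.f42216 IH) (Lpe (K25.f352616 IH) (Lpr_df (K25.f352728 IH) (Lpr_et (K25.f352730 IH) (Lpe (K25.f352734 IH) (Lpr_ef (K25.f310927 IH) (Lpe (K19.f310804 IH) (Lpr_gt (f363199 IH) (Lpe (f184345 IH) (Lpn (LP (LK LD1_c19 LD2_c15 LD3_c6)))))))))))))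
theorem f184346 : Led Lsl_dt (LP (LK LD1_c10 LD2_c37 LD3_c46)) = (LP (LK LD1_c19 LD2_c15 LD3_c6)) :=
  Lre_d IH (LK LD1_c10 LD2_c37 LD3_c46) (LK LD1_c19 LD2_c15 LD3_c6) Lrfl Lrfl
theorem f363209 : Led Lsl_dt (LP (LK LD1_c15 LD2_c8 LD3_c54)) = (LP (LK LD1_c8 LD2_c8 LD3_c37)) :=
  Lgr Lrot77 (Lpr_ef (f363203 IH) (Lpe (f184346 IH) (Lpe (f363193 IH) (Lpe (K25.f356873 IH) (Lpe (K25.f356865 IH) (Lpn (LP (LK LD1_c8 LD2_c8 LD3_c37))))))))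
theorem f363229 : Led Lsl_bf (LP (LK LD1_c5 LD2_c24 LD3_c33)) = (LP (LK LD1_c8 LD2_c8 LD3_c37)) :=
  Lgr Lrot93 (Lpr_dt (K19.f310520 IH) (Lpe (K25.f348740 IH) (Lpr_dt (f363209 IH) (Lpn (LP (LK LD1_c8 LD2_c8 LD3_c37))))))
theorem f318210 : Led Lsl_ct (LP (LK LD1_c1 LD2_c16 LD3_c19)) = (LP (LK LD1_c2 LD2_c38 LD3_c53)) :=
  Lre_c IH (LK LD1_c1 LD2_c16 LD3_c19) (LK LD1_c2 LD2_c38 LD3_c53) Lrfl Lrfl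
theorem f258806 : Led Lsl_ct (LP (LK LD1_c5 LD2_c32 LD3_c11)) = (LP (LK LD1_c10 LD2_c56 LD3_c3)) :=
  Lre_c IH (LK LD1_c5 LD2_c32 LD3_c11) (LK LD1_c10 LD2_c56 LD3_c3) Lrfl Lrfl
theorem f348092 : Led Lsl_bt (LP (LK LD1_c5 LD2_c32 LD3_c11)) = (LP (LK LD1_c10 LD2_c31 LD3_c42)) :=
  Lgr Lrot127 (Lpr_bf (K23.f348090 IH) (Lpn (LP (LK LD1_c10 LD2_c31 LD3_c42))))
theorem f358243 : Led Lsl_gf (LP (LK LD1_c10 LD2_c39 LD3_c46)) = (LP (LK LD1_c18 LD2_c2 LD3_c51)) :=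
  Lgr Lrot126 (Lpr_cf (f358230 IH) (Lpr_bt (K23.f322422 IH) (Lpr_gt (K23.f337738 IH) (Lpr_ct (K23.f218905 IH) (Lpr_gt (K23.f335610 IH) (Lpe (f258806 IH) (Lpr_bt (f348092 IH) (Lpe (K23.f340075 IH) (Lpr_bf (K21.f329800 IH) (Lpe (K23.f345252 IH) (Lpn (LP (LK LD1_c18 LD2_c2 LD3_c51)))))))))))))
theorem f218933 : Led Lsl_gt (LP (LK LD1_c7 LD2_c58 LD3_c21)) = (LP (LK LD1_c15 LD2_c2 LD3_c25)) :=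
  Lre_g IH (LK LD1_c7 LD2_c58 LD3_c21) (LK LD1_c15 LD2_c2 LD3_c25) Lrfl Lrfl
theorem f363239 : Led Lsl_cf (LP (LK LD1_c15 LD2_c2 LD3_c25)) = (LP (LK LD1_c8 LD2_c8 LD3_c37)) :=
  Lgr Lrot58 (Lpe (f218933 IH) (Lpe (K25.f218900 IH) (Lpr_bt (K25.f218913 IH) (Lpe (K23.f337738 IH) (Lpe (K23.f322422 IH) (Lpe (f358230 IH) (Lpr_gf (f358243 IH) (Lpr_cf (K23.f345252 IH) (Lpe (K19.f310530 IH) (Lpr_bf (f363229 IH) (Lpn (LP (LK LD1_c8 LD2_c8 LD3_c37)))))))))))))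
theorem f359847 : Led Lsl_ft (LP (LK LD1_c7 LD2_c58 LD3_c21)) = (LP (LK LD1_c15 LD2_c2 LD3_c28)) :=
  Lre_f IH (LK LD1_c7 LD2_c58 LD3_c21) (LK LD1_c15 LD2_c2 LD3_c28) Lrfl Lrfl
theorem f359848 : Led Lsl_gt (LP (LK LD1_c15 LD2_c2 LD3_c25)) = (LP (LK LD1_c24 LD2_c48 LD3_c51)) :=
  Lgr Lrot46 (Lpe (f218933 IH) (Lpr_ft (f359847 IH) (Lpr_at (f359836 IH) (Lpn (LP (LK LD1_c24 LD2_c48 LD3_c51))))))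
theorem f223985 : Led Lsl_ct (LP (LK LD1_c15 LD2_c1 LD3_c6)) = (LP (LK LD1_c24 LD2_c48 LD3_c51)) :=
  Lre_c IH (LK LD1_c15 LD2_c1 LD3_c6) (LK LD1_c24 LD2_c48 LD3_c51) Lrfl Lrfl
theorem f223951 : Led Lsl_bt (LP (LK LD1_c15 LD2_c24 LD3_c34)) = (LP (LK LD1_c8 LD2_c11 LD3_c15)) :=
  Lre_b IH (LK LD1_c15 LD2_c24 LD3_c34) (LK LD1_c8 LD2_c11 LD3_c15) Lrfl Lrfl
theorem f223924 : Led Lsl_ft (LP (LK LD1_c10 LD2_c41 LD3_c4)) = (LP (LK LD1_c5 LD2_c25 LD3_c7)) :=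
  Lre_f IH (LK LD1_c10 LD2_c41 LD3_c4) (LK LD1_c5 LD2_c25 LD3_c7) Lrfl Lrfl
theorem f223926 : Led Lsl_df (LP (LK LD1_c10 LD2_c41 LD3_c4)) = (LP (LK LD1_c15 LD2_c24 LD3_c34)) :=
  Lgr Lrot78 (Lpr_ft (f223924 IH) (Lpr_dt (K15.f223913 IH) (Lpr_ft (f223925 IH) (Lpn (LP (LK LD1_c15 LD2_c24 LD3_c34))))))
theorem f223946 : Led Lsl_dt (LP (LK LD1_c10 LD2_c41 LD3_c4)) = (LP (LK LD1_c15 LD2_c24 LD3_c34)) :=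
  Lgr Lrot42 (Lpr_df (f223926 IH) (Lpn (LP (LK LD1_c15 LD2_c24 LD3_c34))))
theorem f223983 : Led Lsl_bt (LP (LK LD1_c15 LD2_c1 LD3_c6)) = (LP (LK LD1_c10 LD2_c41 LD3_c4)) :=
  Lgr Lrot95 (Lpr_df (f223979 IH) (Lpe (f223951 IH) (Lpe (f223946 IH) (Lpn (LP (LK LD1_c10 LD2_c41 LD3_c4))))))
theorem f363243 : Led Lsl_gf (LP (LK LD1_c8 LD2_c28 LD3_c15)) = (LP (LK LD1_c10 LD2_c41 LD3_c4)) :=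
  Lgr Lrot181 (Lpr_ct (K25.f356855 IH) (Lpr_gt (K25.f286873 IH) (Lpe (f318210 IH) (Lpr_bt (K25.f194467 IH) (Lpr_gt (K19.f194487 IH) (Lpr_bf (f363229 IH) (Lpe (f363239 IH) (Lpr_gt (f359848 IH) (Lpe (f223985 IH) (Lpr_bt (f223983 IH) (Lpn (LP (LK LD1_c10 LD2_c41 LD3_c4)))))))))))))
theorem f345207 : Led Lsl_bt (LP (LK LD1_c4 LD2_c56 LD3_c6)) = (LP (LK LD1_c9 LD2_c43 LD3_c56)) :=
  Lre_b IH (LK LD1_c4 LD2_c56 LD3_c6) (LK LD1_c9 LD2_c43 LD3_c56) Lrfl Lrfl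
theorem f345208 : Led Lsl_et (LP (LK LD1_c9 LD2_c43 LD3_c56)) = (LP (LK LD1_c15 LD2_c25 LD3_c6)) :=
  Lgr Lrot74 (Lpe (f345207 IH) (Lpr_ef (K23.f345201 IH) (Lpe (K22.f334342 IH) (Lpn (LP (LK LD1_c15 LD2_c25 LD3_c6))))))
theorem f356838 : Led Lsl_df (LP (LK LD1_c8 LD2_c28 LD3_c15)) = (LP (LK LD1_c9 LD2_c43 LD3_c56)) :=
  Lgr Lrot170 (Lpr_gt (f356834 IH) (Lpe (K25.f220782 IH) (Lpr_et (K22.f192293 IH) (Lpr_gt (K14.f183627 IH) (Lpr_dt (K14.f192272 IH) (Lpr_gt (K15.f260273 IH) (Lpr_df (K15.f256084 IH) (Lpr_et (K20.f183011 IH) (Lpr_gt (K22.f182938 IH) (Lpe (f345208 IH) (Lpn (LP (LK LD1_c9 LD2_c43 LD3_c56)))))))))))))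
theorem f363247 : Led Lsl_gt (LP (LK LD1_c15 LD2_c25 LD3_c6)) = (LP (LK LD1_c16 LD2_c11 LD3_c6)) :=
  Lgr Lrot131 (Lpe (f345208 IH) (Lpe (f356838 IH) (Lpr_gf (f363243 IH) (Lpr_df (f223926 IH) (Lpr_gf (f360373 IH) (Lpr_ef (f358016 IH) (Lpe (f357720 IH) (Lpr_gf (f357830 IH) (Lpe (K12.f214039 IH) (Lpe (K23.f343677 IH) (Lpn (LP (LK LD1_c16 LD2_c11 LD3_c6)))))))))))))
theorem f334346 : Led Lsl_bf (LP (LK LD1_c15 LD2_c25 LD3_c6)) = (LP (LK LD1_c8 LD2_c37 LD3_c50)) :=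
  Lgr Lrot24 (Lpr_bt (K22.f334342 IH) (Lpn (LP (LK LD1_c8 LD2_c37 LD3_c50))))
theorem f236289 : Led Lsl_ct (LP (LK LD1_c8 LD2_c28 LD3_c50)) = (LP (LK LD1_c15 LD2_c55 LD3_c25)) :=
  Lre_c IH (LK LD1_c8 LD2_c28 LD3_c50) (LK LD1_c15 LD2_c55 LD3_c25) Lrfl Lrfl
theorem f363251 : Led Lsl_bf (LP (LK LD1_c8 LD2_c39 LD3_c13)) = (LP (LK LD1_c8 LD2_c28 LD3_c50)) :=
  Lgr Lrot165 (Lpr_gt (K21.f231447 IH) (Lpr_ct (K21.f231459 IH) (Lpe (K21.f308719 IH) (Lpe (K19.f190032 IH) (Lpe (f334346 IH) (Lpr_gt (f363247 IH) (Lpr_bf (K23.f328350 IH) (Lpe (K23.f328279 IH) (Lpr_gt (f341678 IH) (Lpe (f236289 IH) (Lpn (LP (LK LD1_c8 LD2_c28 LD3_c50)))))))))))))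
theorem f305566 : Led Lsl_bt (LP (LK LD1_c15 LD2_c32 LD3_c2)) = (LP (LK LD1_c8 LD2_c39 LD3_c35)) :=
  Lgr Lrot119 (Lpr_ef (K17.f284457 IH) (Lpe (K17.f187960 IH) (Lpr_ef (K19.f305562 IH) (Lpn (LP (LK LD1_c8 LD2_c39 LD3_c35))))))
theorem f188104 : Led Lsl_ft (LP (LK LD1_c8 LD2_c15 LD3_c42)) = (LP (LK LD1_c15 LD2_c32 LD3_c2)) :=
  Lre_f IH (LK LD1_c8 LD2_c15 LD3_c42) (LK LD1_c15 LD2_c32 LD3_c2) Lrfl Lrfl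
theorem f188105 : Led Lsl_ft (LP (LK LD1_c15 LD2_c25 LD3_c42)) = (LP (LK LD1_c8 LD2_c11 LD3_c41)) :=
  Lre_f IH (LK LD1_c15 LD2_c25 LD3_c42) (LK LD1_c8 LD2_c11 LD3_c41) Lrfl Lrfl
theorem f188106 : Led Lsl_ct (LP (LK LD1_c15 LD2_c32 LD3_c2)) = (LP (LK LD1_c15 LD2_c25 LD3_c42)) :=
  Lgr Lrot40 (Lpe (f188104 IH) (Lpr_cf (K17.f188069 IH) (Lpe (f188105 IH) (Lpn (LP (LK LD1_c15 LD2_c25 LD3_c42))))))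
theorem f340524 : Led Lsl_ct (LP (LK LD1_c8 LD2_c39 LD3_c13)) = (LP (LK LD1_c15 LD2_c29 LD3_c61)) :=
  Lgr Lrot8 (Lpr_gt (K21.f231447 IH) (Lpr_dt (K19.f275289 IH) (Lpe (K19.f255641 IH) (Lpr_dt (K19.f233147 IH) (Lpr_cf (K21.f324613 IH) (Lpe (K25.f324618 IH) (Lpr_gf (K24.f340522 IH) (Lpe (K25.f182598 IH) (Lpe (K25.f195508 IH) (Lpn (LP (LK LD1_c15 LD2_c29 LD3_c61))))))))))))
theorem f195472 : Led Lsl_gt (LP (LK LD1_c2 LD2_c0 LD3_c50)) = (LP (LK LD1_c4 LD2_c6 LD3_c56)) :=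
  Lre_g IH (LK LD1_c2 LD2_c0 LD3_c50) (LK LD1_c4 LD2_c6 LD3_c56) Lrfl Lrfl
theorem f334363 : Led Lsl_bt (LP (LK LD1_c8 LD2_c14 LD3_c25)) = (LP (LK LD1_c4 LD2_c6 LD3_c56)) :=
  Lre_b IH (LK LD1_c8 LD2_c14 LD3_c25) (LK LD1_c4 LD2_c6 LD3_c56) Lrfl Lrfl
theorem f334365 : Led Lsl_ct (LP (LK LD1_c8 LD2_c14 LD3_c25)) = (LP (LK LD1_c15 LD2_c30 LD3_c8)) :=
  Lre_c IH (LK LD1_c8 LD2_c14 LD3_c25) (LK LD1_c15 LD2_c30 LD3_c8) Lrfl Lrfl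
theorem f340539 : Led Lsl_gf (LP (LK LD1_c15 LD2_c25 LD3_c42)) = (LP (LK LD1_c15 LD2_c30 LD3_c8)) :=
  Lgr Lrot126 (Lpe (f188106 IH) (Lpr_bt (f305566 IH) (Lpe (K21.f308698 IH) (Lpr_ct (f340524 IH) (Lpr_gt (K25.f195508 IH) (Lpe (K20.f195464 IH) (Lpr_bt (K22.f195484 IH) (Lpr_gt (f195472 IH) (Lpe (f334363 IH) (Lpr_ct (f334365 IH) (Lpn (LP (LK LD1_c15 LD2_c30 LD3_c8)))))))))))))
theorem f236295 : Led Lsl_ct (LP (LK LD1_c4 LD2_c9 LD3_c12)) = (LP (LK LD1_c8 LD2_c18 LD3_c28)) :=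
  Lre_c IH (LK LD1_c4 LD2_c9 LD3_c12) (LK LD1_c8 LD2_c18 LD3_c28) Lrfl Lrfl
theorem f236333 : Led Lsl_gf (LP (LK LD1_c8 LD2_c28 LD3_c54)) = (LP (LK LD1_c15 LD2_c55 LD3_c25)) :=
  Lgr Lrot144 (Lpr_dt (K22.f45526 IH) (Lpr_gt (K22.f236325 IH) (Lpr_dt (K23.f236291 IH) (Lpe (f236295 IH) (Lpe (K21.f220055 IH) (Lpe (K17.f609 IH) (Lpe (K17.f236268 IH) (Lpe (K17.f231680 IH) (Lpe (f236294 IH) (Lpn (LP (LK LD1_c15 LD2_c55 LD3_c25))))))))))))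
theorem f363259 : Led Lsl_gf (LP (LK LD1_c8 LD2_c14 LD3_c25)) = (LP (LK LD1_c8 LD2_c10 LD3_c56)) :=
  Lgr Lrot181 (Lpr_ct (f334365 IH) (Lpe (f340539 IH) (Lpe (f188106 IH) (Lpr_bt (f305566 IH) (Lpe (K21.f308698 IH) (Lpr_bf (f363251 IH) (Lpr_ct (f236289 IH) (Lpe (f236333 IH) (Lpr_cf (K21.f259432 IH) (Lpr_bt (K16.f259545 IH) (Lpn (LP (LK LD1_c8 LD2_c10 LD3_c56)))))))))))))
theorem f334370 : Led Lsl_dt (LP (LK LD1_c15 LD2_c30 LD3_c9)) = (LP (LK LD1_c8 LD2_c14 LD3_c25)) :=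
  Lre_d IH (LK LD1_c15 LD2_c30 LD3_c9) (LK LD1_c8 LD2_c14 LD3_c25) Lrfl Lrfl
theorem f313272 : Led Lsl_gf (LP (LK LD1_c0 LD2_c36 LD3_c12)) = (LP (LK LD1_c0 LD2_c33 LD3_c12)) :=
  Lgr Lrot147 (Lpr_ct (K19.f199566 IH) (Lpr_gt (K19.f313252 IH) (Lpr_ct (K13.f183347 IH) (Lpe (K14.f195700 IH) (Lpe (K18.f183043 IH) (Lpe (K14.f226067 IH) (Lpe (K14.f187531 IH) (Lpr_gf (K14.f250335 IH) (Lpe (K8.f21285 IH) (Lpn (LP (LK LD1_c0 LD2_c33 LD3_c12))))))))))))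
theorem f313283 : Led Lsl_df (LP (LK LD1_c0 LD2_c36 LD3_c12)) = (LP (LK LD1_c0 LD2_c56 LD3_c52)) :=
  Lgr Lrot38 (Lpr_dt (K19.f313280 IH) (Lpn (LP (LK LD1_c0 LD2_c56 LD3_c52))))
theorem f237982 : Led Lsl_gt (LP (LK LD1_c1 LD2_c59 LD3_c56)) = (LP (LK LD1_c4 LD2_c5 LD3_c29)) :=
  Lre_g IH (LK LD1_c1 LD2_c59 LD3_c56) (LK LD1_c4 LD2_c5 LD3_c29) Lrfl Lrfl
theorem f237984 : Led Lsl_dt (LP (LK LD1_c4 LD2_c5 LD3_c29)) = (LP (LK LD1_c8 LD2_c11 LD3_c57)) :=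
  Lre_d IH (LK LD1_c4 LD2_c5 LD3_c29) (LK LD1_c8 LD2_c11 LD3_c57) Lrfl Lrfl
theorem f355177 : Led Lsl_gf (LP (LK LD1_c4 LD2_c52 LD3_c27)) = (LP (LK LD1_c8 LD2_c11 LD3_c57)) :=
  Lgr Lrot134 (Lpr_df (K25.f355136 IH) (Lpr_et (K25.f355094 IH) (Lpr_gt (K23.f169985 IH) (Lpe (K17.f291619 IH) (Lpr_dt (K8.f21291 IH) (Lpe (f313272 IH) (Lpr_df (f313283 IH) (Lpr_et (K19.f237978 IH) (Lpr_gt (f237982 IH) (Lpr_dt (f237984 IH) (Lpn (LP (LK LD1_c8 LD2_c11 LD3_c57)))))))))))))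
theorem f355126 : Led Lsl_df (LP (LK LD1_c2 LD2_c44 LD3_c5)) = (LP (LK LD1_c4 LD2_c52 LD3_c27)) :=
  Lgr Lrot70 (Lpr_et (K25.f355094 IH) (Lpe (K25.f171244 IH) (Lpr_et (K25.f171238 IH) (Lpr_dt (K25.f355119 IH) (Lpr_et (K25.f355123 IH) (Lpn (LP (LK LD1_c4 LD2_c52 LD3_c27))))))))
theorem f314760 : Led Lsl_df (LP (LK LD1_c2 LD2_c0 LD3_c50)) = (LP (LK LD1_c2 LD2_c3 LD3_c35)) :=
  Lgr Lrot12 (Lpr_bt (K20.f195463 IH) (Lpr_dt (K19.f314653 IH) (Lpr_bt (K22.f269689 IH) (Lpn (LP (LK LD1_c2 LD2_c3 LD3_c35))))))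
theorem f334362 : Led Lsl_dt (LP (LK LD1_c8 LD2_c14 LD3_c26)) = (LP (LK LD1_c4 LD2_c6 LD3_c56)) :=
  Lre_d IH (LK LD1_c8 LD2_c14 LD3_c26) (LK LD1_c4 LD2_c6 LD3_c56) Lrfl Lrfl
theorem f355180 : Led Lsl_et (LP (LK LD1_c8 LD2_c14 LD3_c26)) = (LP (LK LD1_c8 LD2_c11 LD3_c57)) :=
  Lgr Lrot121 (Lpr_dt (f334362 IH) (Lpe (f195472 IH) (Lpr_df (f314760 IH) (Lpr_et (K22.f166477 IH) (Lpr_gf (K15.f178307 IH) (Lpe (K22.f178292 IH) (Lpe (K22.f228824 IH) (Lpe (K25.f181884 IH) (Lpr_df (f355126 IH) (Lpr_gf (f355177 IH) (Lpn (LP (LK LD1_c8 LD2_c11 LD3_c57)))))))))))))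
theorem f355186 : Led Lsl_ef (LP (LK LD1_c8 LD2_c14 LD3_c26)) = (LP (LK LD1_c8 LD2_c11 LD3_c57)) :=
  Lgr Lrot88 (Lpr_et (f355180 IH) (Lpn (LP (LK LD1_c8 LD2_c11 LD3_c57))))
theorem f355188 : Led Lsl_bt (LP (LK LD1_c8 LD2_c14 LD3_c26)) = (LP (LK LD1_c15 LD2_c30 LD3_c9)) :=
  Lre_b IH (LK LD1_c8 LD2_c14 LD3_c26) (LK LD1_c15 LD2_c30 LD3_c9) Lrfl Lrfl
theorem f355179 : Led Lsl_bt (LP (LK LD1_c15 LD2_c26 LD3_c6)) = (LP (LK LD1_c8 LD2_c11 LD3_c57)) :=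
  Lre_b IH (LK LD1_c15 LD2_c26 LD3_c6) (LK LD1_c8 LD2_c11 LD3_c57) Lrfl Lrfl
theorem f355189 : Led Lsl_et (LP (LK LD1_c15 LD2_c30 LD3_c9)) = (LP (LK LD1_c15 LD2_c26 LD3_c6)) :=
  Lgr Lrot74 (Lpe (f355188 IH) (Lpr_ef (f355186 IH) (Lpe (f355179 IH) (Lpn (LP (LK LD1_c15 LD2_c26 LD3_c6))))))
theorem f363268 : Led Lsl_gt (LP (LK LD1_c15 LD2_c26 LD3_c6)) = (LP (LK LD1_c9 LD2_c37 LD3_c7)) :=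
  Lgr Lrot137 (Lpe (f355189 IH) (Lpr_dt (f334370 IH) (Lpr_gf (f363259 IH) (Lpr_df (K21.f271072 IH) (Lpr_et (K21.f166985 IH) (Lpr_gf (K17.f267214 IH) (Lpe (K18.f254048 IH) (Lpr_dt (K14.f254022 IH) (Lpe (K21.f221750 IH) (Lpr_df (K21.f307247 IH) (Lpn (LP (LK LD1_c9 LD2_c37 LD3_c7)))))))))))))
theorem f355199 : Led Lsl_dt (LP (LK LD1_c8 LD2_c11 LD3_c56)) = (LP (LK LD1_c15 LD2_c26 LD3_c6)) :=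
  Lre_d IH (LK LD1_c8 LD2_c11 LD3_c56) (LK LD1_c15 LD2_c26 LD3_c6) Lrfl Lrfl
theorem f363270 : Led Lsl_gf (LP (LK LD1_c8 LD2_c11 LD3_c56)) = (LP (LK LD1_c8 LD2_c13 LD3_c5)) :=
  Lgr Lrot138 (Lpr_dt (f355199 IH) (Lpr_gt (f363268 IH) (Lpe (K21.f307251 IH) (Lpr_et (K21.f307244 IH) (Lpr_gt (K19.f305759 IH) (Lpe (K17.f230891 IH) (Lpr_dt (K14.f250435 IH) (Lpe (K14.f251677 IH) (Lpr_df (K16.f222002 IH) (Lpr_et (K18.f191451 IH) (Lpn (LP (LK LD1_c8 LD2_c13 LD3_c5)))))))))))))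
theorem f256170 : Led Lsl_ct (LP (LK LD1_c8 LD2_c11 LD3_c56)) = (LP (LK LD1_c15 LD2_c26 LD3_c5)) :=
  Lre_c IH (LK LD1_c8 LD2_c11 LD3_c56) (LK LD1_c15 LD2_c26 LD3_c5) Lrfl Lrfl
theorem f255612 : Led Lsl_ct (LP (LK LD1_c10 LD2_c38 LD3_c8)) = (LP (LK LD1_c5 LD2_c23 LD3_c46)) :=
  Lre_c IH (LK LD1_c10 LD2_c38 LD3_c8) (LK LD1_c5 LD2_c23 LD3_c46) Lrfl Lrfl
theorem f345692 : Led Lsl_gt (LP (LK LD1_c5 LD2_c30 LD3_c13)) = (LP (LK LD1_c8 LD2_c18 LD3_c8)) :=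
  Lgr Lrot65 (Lpe (K23.f236183 IH) (Lpr_bt (K23.f236182 IH) (Lpe (K25.f339595 IH) (Lpr_bf (K15.f169184 IH) (Lpr_ct (K19.f169196 IH) (Lpe (f303030 IH) (Lpe (f255612 IH) (Lpr_gf (f345633 IH) (Lpe (K21.f229594 IH) (Lpr_ct (K21.f251803 IH) (Lpn (LP (LK LD1_c8 LD2_c18 LD3_c8)))))))))))))
theorem f236175 : Led Lsl_ct (LP (LK LD1_c10 LD2_c51 LD3_c53)) = (LP (LK LD1_c19 LD2_c38 LD3_c39)) :=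
  Lre_c IH (LK LD1_c10 LD2_c51 LD3_c53) (LK LD1_c19 LD2_c38 LD3_c39) Lrfl Lrfl
theorem f228404 : Led Lsl_dt (LP (LK LD1_c8 LD2_c18 LD3_c8)) = (LP (LK LD1_c15 LD2_c36 LD3_c47)) :=
  Lre_d IH (LK LD1_c8 LD2_c18 LD3_c8) (LK LD1_c15 LD2_c36 LD3_c47) Lrfl Lrfl
theorem f300954 : Led Lsl_gt (LP (LK LD1_c15 LD2_c36 LD3_c47)) = (LP (LK LD1_c25 LD2_c31 LD3_c20)) :=
  Lre_g IH (LK LD1_c15 LD2_c36 LD3_c47) (LK LD1_c25 LD2_c31 LD3_c20) Lrfl Lrfl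
theorem f345698 : Led Lsl_df (LP (LK LD1_c19 LD2_c38 LD3_c39)) = (LP (LK LD1_c25 LD2_c31 LD3_c20)) :=
  Lgr Lrot84 (Lpe (f236175 IH) (Lpe (K21.f236162 IH) (Lpe (K14.f236153 IH) (Lpe (K14.f236152 IH) (Lpe (K13.f236149 IH) (Lpe (f236192 IH) (Lpr_gt (f345692 IH) (Lpr_dt (f228404 IH) (Lpr_gt (f300954 IH) (Lpn (LP (LK LD1_c25 LD2_c31 LD3_c20))))))))))))
theorem f345703 : Led Lsl_dt (LP (LK LD1_c19 LD2_c38 LD3_c39)) = (LP (LK LD1_c25 LD2_c31 LD3_c20)) :=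
  Lgr Lrot42 (Lpr_df (f345698 IH) (Lpn (LP (LK LD1_c25 LD2_c31 LD3_c20))))
theorem f236170 : Led Lsl_ct (LP (LK LD1_c15 LD2_c31 LD3_c28)) = (LP (LK LD1_c8 LD2_c15 LD3_c20)) :=
  Lre_c IH (LK LD1_c15 LD2_c31 LD3_c28) (LK LD1_c8 LD2_c15 LD3_c20) Lrfl Lrfl
theorem f236176 : Led Lsl_et (LP (LK LD1_c19 LD2_c38 LD3_c39)) = (LP (LK LD1_c15 LD2_c31 LD3_c28)) :=
  Lgr Lrot158 (Lpe (f236175 IH) (Lpr_ef (K14.f236163 IH) (Lpe (f236170 IH) (Lpn (LP (LK LD1_c15 LD2_c31 LD3_c28))))))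
theorem f345705 : Led Lsl_gt (LP (LK LD1_c15 LD2_c31 LD3_c28)) = (LP (LK LD1_c8 LD2_c15 LD3_c24)) :=
  Lgr Lrot131 (Lpe (f236176 IH) (Lpr_dt (f345703 IH) (Lpe (f300954 IH) (Lpe (f228404 IH) (Lpe (f345692 IH) (Lpe (f236193 IH) (Lpr_dt (K17.f259337 IH) (Lpr_gf (K17.f236146 IH) (Lpe (K17.f50321 IH) (Lpr_et (K19.f191357 IH) (Lpn (LP (LK LD1_c8 LD2_c15 LD3_c24)))))))))))))
theorem f236159 : Led Lsl_ct (LP (LK LD1_c8 LD2_c15 LD3_c20)) = (LP (LK LD1_c15 LD2_c31 LD3_c28)) :=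
  Lre_c IH (LK LD1_c8 LD2_c15 LD3_c20) (LK LD1_c15 LD2_c31 LD3_c28) Lrfl Lrfl
theorem f345707 : Led Lsl_gf (LP (LK LD1_c15 LD2_c31 LD3_c28)) = (LP (LK LD1_c15 LD2_c32 LD3_c45)) :=
  Lgr Lrot47 (Lpr_gt (f345705 IH) (Lpr_af (K21.f325204 IH) (Lpe (K23.f184140 IH) (Lpn (LP (LK LD1_c15 LD2_c32 LD3_c45))))))
theorem f353107 : Led Lsl_bt (LP (LK LD1_c8 LD2_c15 LD3_c20)) = (LP (LK LD1_c8 LD2_c6 LD3_c53)) :=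
  Lgr Lrot130 (Lpr_ct (f236159 IH) (Lpr_gf (f345707 IH) (Lpe (K23.f184141 IH) (Lpr_bt (K25.f353105 IH) (Lpe (K22.f336585 IH) (Lpr_bf (K22.f325240 IH) (Lpr_ct (K21.f299161 IH) (Lpe (K21.f216506 IH) (Lpe (K20.f227045 IH) (Lpe (K18.f227195 IH) (Lpn (LP (LK LD1_c8 LD2_c6 LD3_c53)))))))))))))
theorem f339636 : Led Lsl_bf (LP (LK LD1_c8 LD2_c41 LD3_c5)) = (LP (LK LD1_c15 LD2_c36 LD3_c39)) :=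
  Lgr Lrot96 (Lpr_et (K17.f279733 IH) (Lpr_bt (K10.f194711 IH) (Lpr_et (K22.f339632 IH) (Lpn (LP (LK LD1_c15 LD2_c36 LD3_c39))))))
theorem f363278 : Led Lsl_gt (LP (LK LD1_c15 LD2_c26 LD3_c5)) = (LP (LK LD1_c15 LD2_c29 LD3_c4)) :=
  Lgr Lrot149 (Lpe (f256170 IH) (Lpr_gf (f363270 IH) (Lpr_bf (K19.f190093 IH) (Lpe (K19.f191397 IH) (Lpe (f345705 IH) (Lpe (f236159 IH) (Lpr_bt (f353107 IH) (Lpe (K18.f237233 IH) (Lpr_bf (f339636 IH) (Lpe (K23.f339638 IH) (Lpn (LP (LK LD1_c15 LD2_c29 LD3_c4)))))))))))))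
theorem f363282 : Led Lsl_gf (LP (LK LD1_c15 LD2_c26 LD3_c5)) = (LP (LK LD1_c11 LD2_c53 LD3_c11)) :=
  Lgr Lrot47 (Lpr_gt (f363278 IH) (Lpe (K17.f283514 IH) (Lpe (K17.f283513 IH) (Lpn (LP (LK LD1_c11 LD2_c53 LD3_c11))))))
theorem f256169 : Led Lsl_bt (LP (LK LD1_c8 LD2_c11 LD3_c56)) = (LP (LK LD1_c4 LD2_c5 LD3_c29)) :=
  Lre_b IH (LK LD1_c8 LD2_c11 LD3_c56) (LK LD1_c4 LD2_c5 LD3_c29) Lrfl Lrfl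
theorem f363377 : Led Lsl_gt (LP (LK LD1_c4 LD2_c5 LD3_c29)) = (LP (LK LD1_c4 LD2_c6 LD3_c58)) :=
  Lgr Lrot164 (Lpe (f256169 IH) (Lpr_ct (f256170 IH) (Lpr_gf (f363282 IH) (Lpe (K22.f283518 IH) (Lpe (K21.f274488 IH) (Lpr_bf (K22.f325224 IH) (Lpe (K14.f255580 IH) (Lpe (K22.f315797 IH) (Lpe (K22.f315802 IH) (Lpr_bt (K22.f315804 IH) (Lpn (LP (LK LD1_c4 LD2_c6 LD3_c58)))))))))))))
theorem f237987 : Led Lsl_dt (LP (LK LD1_c8 LD2_c11 LD3_c57)) = (LP (LK LD1_c4 LD2_c5 LD3_c29)) :=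
  Lre_d IH (LK LD1_c8 LD2_c11 LD3_c57) (LK LD1_c4 LD2_c5 LD3_c29) Lrfl Lrfl
theorem f337153 : Led Lsl_df (LP (LK LD1_c2 LD2_c3 LD3_c57)) = (LP (LK LD1_c4 LD2_c5 LD3_c31)) :=
  Lgr Lrot38 (Lpr_dt (K22.f337149 IH) (Lpn (LP (LK LD1_c4 LD2_c5 LD3_c31))))
theorem f337167 : Led Lsl_df (LP (LK LD1_c4 LD2_c6 LD3_c58)) = (LP (LK LD1_c2 LD2_c7 LD3_c19)) :=
  Lgr Lrot18 (Lpr_at (K22.f334354 IH) (Lpe (f337153 IH) (Lpr_at (K22.f337161 IH) (Lpn (LP (LK LD1_c2 LD2_c7 LD3_c19))))))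
theorem f326479 : Led Lsl_ef (LP (LK LD1_c2 LD2_c45 LD3_c54)) = (LP (LK LD1_c2 LD2_c7 LD3_c19)) :=
  Lgr Lrot29 (Lpr_bt (K22.f315048 IH) (Lpr_et (K21.f326477 IH) (Lpr_bt (K19.f304999 IH) (Lpn (LP (LK LD1_c2 LD2_c7 LD3_c19))))))
theorem f353995 : Led Lsl_et (LP (LK LD1_c7 LD2_c58 LD3_c52)) = (LP (LK LD1_c3 LD2_c58 LD3_c41)) :=
  Lre_e IH (LK LD1_c7 LD2_c58 LD3_c52) (LK LD1_c3 LD2_c58 LD3_c41) Lrfl Lrfl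
theorem f358443 : Led Lsl_df (LP (LK LD1_c4 LD2_c56 LD3_c8)) = (LP (LK LD1_c2 LD2_c45 LD3_c52)) :=
  Lgr Lrot38 (Lpr_dt (K25.f358439 IH) (Lpn (LP (LK LD1_c2 LD2_c45 LD3_c52))))
theorem f179026 : Led Lsl_et (LP (LK LD1_c0 LD2_c58 LD3_c42)) = (LP (LK LD1_c2 LD2_c3 LD3_c32)) :=
  Lre_e IH (LK LD1_c0 LD2_c58 LD3_c42) (LK LD1_c2 LD2_c3 LD3_c32) Lrfl Lrfl
theorem f358454 : Led Lsl_ef (LP (LK LD1_c4 LD2_c12 LD3_c40)) = (LP (LK LD1_c2 LD2_c45 LD3_c52)) :=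
  Lgr Lrot114 (Lpr_gt (K25.f170932 IH) (Lpe (f179026 IH) (Lpr_dt (K9.f166990 IH) (Lpe (K9.f179017 IH) (Lpr_df (K19.f179838 IH) (Lpr_et (K25.f226064 IH) (Lpr_gt (K20.f274520 IH) (Lpr_dt (K25.f306903 IH) (Lpe (K25.f358437 IH) (Lpr_df (f358443 IH) (Lpn (LP (LK LD1_c2 LD2_c45 LD3_c52)))))))))))))
theorem f358468 : Led Lsl_df (LP (LK LD1_c7 LD2_c58 LD3_c52)) = (LP (LK LD1_c4 LD2_c12 LD3_c40)) :=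
  Lgr Lrot70 (Lpr_et (f353995 IH) (Lpr_dt (K25.f358464 IH) (Lpr_et (K25.f358436 IH) (Lpr_dt (K25.f358439 IH) (Lpe (f358454 IH) (Lpn (LP (LK LD1_c4 LD2_c12 LD3_c40))))))))
theorem f353987 : Led Lsl_et (LP (LK LD1_c3 LD2_c58 LD3_c41)) = (LP (LK LD1_c7 LD2_c58 LD3_c52)) :=
  Lre_e IH (LK LD1_c3 LD2_c58 LD3_c41) (LK LD1_c7 LD2_c58 LD3_c52) Lrfl Lrfl
theorem f168906 : Led Lsl_et (LP (LK LD1_c1 LD2_c25 LD3_c32)) = (LP (LK LD1_c0 LD2_c39 LD3_c24)) :=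
  Lre_e IH (LK LD1_c1 LD2_c25 LD3_c32) (LK LD1_c0 LD2_c39 LD3_c24) Lrfl Lrfl
theorem f358470 : Led Lsl_gt (LP (LK LD1_c7 LD2_c58 LD3_c52)) = (LP (LK LD1_c4 LD2_c53 LD3_c27)) :=
  Lgr Lrot137 (Lpe (f353987 IH) (Lpr_dt (K25.f358464 IH) (Lpe (K25.f168886 IH) (Lpr_df (K14.f168883 IH) (Lpr_et (f168906 IH) (Lpe (K11.f178301 IH) (Lpe (K13.f179962 IH) (Lpr_dt (K13.f179960 IH) (Lpe (K13.f167018 IH) (Lpe (K13.f167023 IH) (Lpn (LP (LK LD1_c4 LD2_c53 LD3_c27)))))))))))))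
theorem f363381 : Led Lsl_gf (LP (LK LD1_c8 LD2_c14 LD3_c26)) = (LP (LK LD1_c4 LD2_c53 LD3_c28)) :=
  Lgr Lrot141 (Lpr_ef (f355186 IH) (Lpr_dt (f237987 IH) (Lpr_gt (f363377 IH) (Lpr_df (f337167 IH) (Lpe (f326479 IH) (Lpe (K25.f357214 IH) (Lpe (f358468 IH) (Lpr_gt (f358470 IH) (Lpe (K13.f167024 IH) (Lpr_et (K22.f179978 IH) (Lpn (LP (LK LD1_c4 LD2_c53 LD3_c28)))))))))))))
theorem f195473 : Led Lsl_dt (LP (LK LD1_c4 LD2_c6 LD3_c56)) = (LP (LK LD1_c8 LD2_c14 LD3_c26)) :=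
  Lre_d IH (LK LD1_c4 LD2_c6 LD3_c56) (LK LD1_c8 LD2_c14 LD3_c26) Lrfl Lrfl
theorem f238314 : Led Lsl_gt (LP (LK LD1_c3 LD2_c58 LD3_c42)) = (LP (LK LD1_c1 LD2_c56 LD3_c5)) :=
  Lre_g IH (LK LD1_c3 LD2_c58 LD3_c42) (LK LD1_c1 LD2_c56 LD3_c5) Lrfl Lrfl
theorem f363385 : Led Lsl_et (LP (LK LD1_c4 LD2_c6 LD3_c56)) = (LP (LK LD1_c3 LD2_c58 LD3_c42)) :=
  Lgr Lrot121 (Lpr_dt (f195473 IH) (Lpr_gf (f363381 IH) (Lpe (K13.f179976 IH) (Lpr_et (K22.f180010 IH) (Lpr_gf (f342203 IH) (Lpe (K23.f342196 IH) (Lpr_dt (K23.f342194 IH) (Lpe (K23.f178203 IH) (Lpr_df (K23.f342183 IH) (Lpe (f238314 IH) (Lpn (LP (LK LD1_c3 LD2_c58 LD3_c42)))))))))))))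
theorem f260775 : Led Lsl_gt (LP (LK LD1_c4 LD2_c19 LD3_c47)) = (LP (LK LD1_c2 LD2_c7 LD3_c20)) :=
  Lre_g IH (LK LD1_c4 LD2_c19 LD3_c47) (LK LD1_c2 LD2_c7 LD3_c20) Lrfl Lrfl
theorem f166585 : Led Lsl_gt (LP (LK LD1_c1 LD2_c9 LD3_c25)) = (LP (LK LD1_c2 LD2_c24 LD3_c36)) :=
  Lre_g IH (LK LD1_c1 LD2_c9 LD3_c25) (LK LD1_c2 LD2_c24 LD3_c36) Lrfl Lrfl
theorem f166586 : Led Lsl_et (LP (LK LD1_c4 LD2_c53 LD3_c35)) = (LP (LK LD1_c2 LD2_c24 LD3_c36)) :=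
  Lre_e IH (LK LD1_c4 LD2_c53 LD3_c35) (LK LD1_c2 LD2_c24 LD3_c36) Lrfl Lrfl
theorem f260776 : Led Lsl_df (LP (LK LD1_c4 LD2_c19 LD3_c47)) = (LP (LK LD1_c4 LD2_c53 LD3_c35)) :=
  Lgr Lrot170 (Lpr_gt (f260775 IH) (Lpe (K13.f179549 IH) (Lpr_et (K13.f179548 IH) (Lpr_gt (K15.f260765 IH) (Lpr_dt (K19.f237796 IH) (Lpr_gt (K13.f201338 IH) (Lpr_df (K9.f166466 IH) (Lpr_et (K11.f166583 IH) (Lpr_gt (f166585 IH) (Lpe (f166586 IH) (Lpn (LP (LK LD1_c4 LD2_c53 LD3_c35)))))))))))))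
theorem f355191 : Led Lsl_gt (LP (LK LD1_c8 LD2_c14 LD3_c26)) = (LP (LK LD1_c4 LD2_c53 LD3_c35)) :=
  Lgr Lrot137 (Lpr_ef (f355186 IH) (Lpr_dt (f237987 IH) (Lpe (f237982 IH) (Lpe (K21.f237918 IH) (Lpr_et (K19.f171491 IH) (Lpe (K15.f260765 IH) (Lpe (K13.f179548 IH) (Lpr_dt (K13.f179549 IH) (Lpe (f260775 IH) (Lpr_df (f260776 IH) (Lpn (LP (LK LD1_c4 LD2_c53 LD3_c35)))))))))))))
theorem f260778 : Led Lsl_dt (LP (LK LD1_c4 LD2_c19 LD3_c47)) = (LP (LK LD1_c4 LD2_c53 LD3_c35)) :=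
  Lgr Lrot42 (Lpr_df (f260776 IH) (Lpn (LP (LK LD1_c4 LD2_c53 LD3_c35))))
theorem f195489 : Led Lsl_et (LP (LK LD1_c0 LD2_c57 LD3_c23)) = (LP (LK LD1_c2 LD2_c0 LD3_c50)) :=
  Lre_e IH (LK LD1_c0 LD2_c57 LD3_c23) (LK LD1_c2 LD2_c0 LD3_c50) Lrfl Lrfl
theorem f313454 : Led Lsl_df (LP (LK LD1_c1 LD2_c3 LD3_c11)) = (LP (LK LD1_c0 LD2_c57 LD3_c23)) :=
  Lgr Lrot12 (Lpe (K11.f200683 IH) (Lpr_dt (K19.f313438 IH) (Lpr_bt (K9.f182587 IH) (Lpn (LP (LK LD1_c0 LD2_c57 LD3_c23))))))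
theorem f183104 : Led Lsl_gt (LP (LK LD1_c5 LD2_c10 LD3_c25)) = (LP (LK LD1_c2 LD2_c32 LD3_c15)) :=
  Lre_g IH (LK LD1_c5 LD2_c10 LD3_c25) (LK LD1_c2 LD2_c32 LD3_c15) Lrfl Lrfl
theorem f355193 : Led Lsl_ef (LP (LK LD1_c5 LD2_c10 LD3_c25)) = (LP (LK LD1_c4 LD2_c19 LD3_c47)) :=
  Lgr Lrot114 (Lpr_gt (f183104 IH) (Lpe (K19.f185074 IH) (Lpr_dt (K11.f169065 IH) (Lpe (K19.f313491 IH) (Lpr_df (f313454 IH) (Lpr_et (f195489 IH) (Lpr_gt (f195472 IH) (Lpr_dt (f195473 IH) (Lpr_gt (f355191 IH) (Lpe (f260778 IH) (Lpn (LP (LK LD1_c4 LD2_c19 LD3_c47)))))))))))))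
theorem f314351 : Led Lsl_dt (LP (LK LD1_c2 LD2_c32 LD3_c14)) = (LP (LK LD1_c3 LD2_c58 LD3_c40)) :=
  Lgr Lrot6 (Lpr_gt (K22.f300114 IH) (Lpr_ct (K17.f288300 IH) (Lpe (K22.f300156 IH) (Lpr_ct (K16.f185885 IH) (Lpe (K14.f178757 IH) (Lpe (K22.f175265 IH) (Lpe (K19.f178903 IH) (Lpr_cf (K19.f185868 IH) (Lpr_gf (K19.f314349 IH) (Lpn (LP (LK LD1_c3 LD2_c58 LD3_c40))))))))))))
theorem f335021 : Led Lsl_et (LP (LK LD1_c3 LD2_c58 LD3_c40)) = (LP (LK LD1_c2 LD2_c25 LD3_c54)) :=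
  Lgr Lrot71 (Lpe (f314351 IH) (Lpr_ef (K22.f335015 IH) (Lpe (K22.f335002 IH) (Lpr_ef (K25.f327004 IH) (Lpe (K14.f168898 IH) (Lpn (LP (LK LD1_c2 LD2_c25 LD3_c54))))))))
theorem f363392 : Led Lsl_gt (LP (LK LD1_c2 LD2_c25 LD3_c54)) = (LP (LK LD1_c3 LD2_c58 LD3_c42)) :=
  Lgr Lrot131 (Lpe (f335021 IH) (Lpe (K22.f314353 IH) (Lpe (K22.f169081 IH) (Lpe (K18.f169080 IH) (Lpe (f183104 IH) (Lpr_ef (f355193 IH) (Lpr_dt (f260778 IH) (Lpe (f355191 IH) (Lpe (f195473 IH) (Lpr_et (f363385 IH) (Lpn (LP (LK LD1_c3 LD2_c58 LD3_c42)))))))))))))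
theorem f168888 : Led Lsl_gt (LP (LK LD1_c2 LD2_c25 LD3_c53)) = (LP (LK LD1_c1 LD2_c10 LD3_c6)) :=
  Lre_g IH (LK LD1_c2 LD2_c25 LD3_c53) (LK LD1_c1 LD2_c10 LD3_c6) Lrfl Lrfl
theorem f363400 : Led Lsl_df (LP (LK LD1_c2 LD2_c25 LD3_c53)) = (LP (LK LD1_c3 LD2_c58 LD3_c42)) :=
  Lgr Lrot135 (Lpr_gt (f168888 IH) (Lpr_df (K14.f168883 IH) (Lpr_et (f168906 IH) (Lpe (K11.f169006 IH) (Lpe (K17.f169079 IH) (Lpr_dt (K18.f169080 IH) (Lpr_gt (K22.f169081 IH) (Lpr_df (K22.f314353 IH) (Lpr_et (f335021 IH) (Lpr_gt (f363392 IH) (Lpn (LP (LK LD1_c3 LD2_c58 LD3_c42)))))))))))))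
theorem f363390 : Led Lsl_ef (LP (LK LD1_c4 LD2_c6 LD3_c56)) = (LP (LK LD1_c3 LD2_c58 LD3_c42)) :=
  Lgr Lrot88 (Lpr_et (f363385 IH) (Lpn (LP (LK LD1_c3 LD2_c58 LD3_c42))))
theorem f334360 : Led Lsl_gt (LP (LK LD1_c4 LD2_c6 LD3_c56)) = (LP (LK LD1_c4 LD2_c5 LD3_c31)) :=
  Lgr Lrot46 (Lpe (f195472 IH) (Lpr_ft (K22.f195471 IH) (Lpr_at (K22.f334354 IH) (Lpn (LP (LK LD1_c4 LD2_c5 LD3_c31))))))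
theorem f212594 : Led Lsl_df (LP (LK LD1_c4 LD2_c12 LD3_c41)) = (LP (LK LD1_c2 LD2_c12 LD3_c48)) :=
  Lgr Lrot12 (Lpr_bt (K25.f212592 IH) (Lpr_dt (K25.f212588 IH) (Lpr_bt (K25.f212593 IH) (Lpn (LP (LK LD1_c2 LD2_c12 LD3_c48))))))
theorem f354244 : Led Lsl_bt (LP (LK LD1_c1 LD2_c18 LD3_c33)) = (LP (LK LD1_c2 LD2_c43 LD3_c53)) :=
  Lre_b IH (LK LD1_c1 LD2_c18 LD3_c33) (LK LD1_c2 LD2_c43 LD3_c53) Lrfl Lrfl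
theorem f354245 : Led Lsl_et (LP (LK LD1_c2 LD2_c12 LD3_c48)) = (LP (LK LD1_c1 LD2_c18 LD3_c33)) :=
  Lgr Lrot74 (Lpe (K25.f212593 IH) (Lpr_ef (K25.f354242 IH) (Lpe (f354244 IH) (Lpn (LP (LK LD1_c1 LD2_c18 LD3_c33))))))
theorem f354267 : Led Lsl_gt (LP (LK LD1_c1 LD2_c18 LD3_c33)) = (LP (LK LD1_c2 LD2_c12 LD3_c26)) :=
  Lgr Lrot131 (Lpe (f354245 IH) (Lpe (f212594 IH) (Lpr_gf (K25.f354265 IH) (Lpe (K22.f170099 IH) (Lpe (K25.f306952 IH) (Lpe (K19.f306915 IH) (Lpr_dt (K25.f178461 IH) (Lpe (K25.f178464 IH) (Lpe (K25.f169025 IH) (Lpr_et (K25.f167892 IH) (Lpn (LP (LK LD1_c2 LD2_c12 LD3_c26)))))))))))))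
theorem f347001 : Led Lsl_bt (LP (LK LD1_c2 LD2_c43 LD3_c53)) = (LP (LK LD1_c1 LD2_c18 LD3_c33)) :=
  Lre_b IH (LK LD1_c2 LD2_c43 LD3_c53) (LK LD1_c1 LD2_c18 LD3_c33) Lrfl Lrfl
theorem f351467 : Led Lsl_gt (LP (LK LD1_c2 LD2_c12 LD3_c25)) = (LP (LK LD1_c1 LD2_c18 LD3_c33)) :=
  Lgr Lrot164 (Lpe (K24.f167881 IH) (Lpr_ct (K24.f167902 IH) (Lpr_gf (K24.f350593 IH) (Lpe (K24.f231261 IH) (Lpe (K24.f231324 IH) (Lpr_bf (K25.f351465 IH) (Lpr_ct (K23.f346994 IH) (Lpe (K23.f313192 IH) (Lpe (K23.f313191 IH) (Lpr_bt (f347001 IH) (Lpn (LP (LK LD1_c1 LD2_c18 LD3_c33)))))))))))))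
theorem f354273 : Led Lsl_dt (LP (LK LD1_c2 LD2_c44 LD3_c24)) = (LP (LK LD1_c1 LD2_c18 LD3_c33)) :=
  Lre_d IH (LK LD1_c2 LD2_c44 LD3_c24) (LK LD1_c1 LD2_c18 LD3_c33) Lrfl Lrfl
theorem f354274 : Led Lsl_ef (LP (LK LD1_c4 LD2_c5 LD3_c31)) = (LP (LK LD1_c2 LD2_c44 LD3_c24)) :=
  Lgr Lrot114 (Lpe (K22.f334381 IH) (Lpe (K22.f337129 IH) (Lpr_dt (K22.f170099 IH) (Lpe (K25.f354265 IH) (Lpr_df (f212594 IH) (Lpr_et (f354245 IH) (Lpr_gt (f354267 IH) (Lpe (K24.f167885 IH) (Lpr_gt (f351467 IH) (Lpe (f354273 IH) (Lpn (LP (LK LD1_c2 LD2_c44 LD3_c24)))))))))))))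
theorem f259171 : Led Lsl_bt (LP (LK LD1_c5 LD2_c5 LD3_c2)) = (LP (LK LD1_c10 LD2_c1 LD3_c13)) :=
  Lre_b IH (LK LD1_c5 LD2_c5 LD3_c2) (LK LD1_c10 LD2_c1 LD3_c13) Lrfl Lrfl
theorem f211318 : Led Lsl_ct (LP (LK LD1_c5 LD2_c5 LD3_c2)) = (LP (LK LD1_c10 LD2_c1 LD3_c14)) :=
  Lre_c IH (LK LD1_c5 LD2_c5 LD3_c2) (LK LD1_c10 LD2_c1 LD3_c14) Lrfl Lrfl
theorem f347025 : Led Lsl_cf (LP (LK LD1_c8 LD2_c6 LD3_c37)) = (LP (LK LD1_c11 LD2_c56 LD3_c57)) :=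
  Lgr Lrot39 (Lpe (K21.f201032 IH) (Lpr_ct (K24.f201034 IH) (Lpr_et (K23.f347020 IH) (Lpn (LP (LK LD1_c11 LD2_c56 LD3_c57))))))
theorem f211315 : Led Lsl_ct (LP (LK LD1_c10 LD2_c1 LD3_c14)) = (LP (LK LD1_c5 LD2_c5 LD3_c2)) :=
  Lre_c IH (LK LD1_c10 LD2_c1 LD3_c14) (LK LD1_c5 LD2_c5 LD3_c2) Lrfl Lrfl
theorem f348956 : Led Lsl_gt (LP (LK LD1_c15 LD2_c29 LD3_c44)) = (LP (LK LD1_c10 LD2_c1 LD3_c14)) :=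
  Lgr Lrot150 (Lpe (K23.f348827 IH) (Lpr_gf (K23.f348952 IH) (Lpr_df (K20.f235118 IH) (Lpr_gt (K20.f168950 IH) (Lpr_ct (K23.f168984 IH) (Lpr_gt (K23.f235122 IH) (Lpe (f347025 IH) (Lpr_df (K23.f259172 IH) (Lpe (f211315 IH) (Lpn (LP (LK LD1_c10 LD2_c1 LD3_c14))))))))))))
theorem f348946 : Led Lsl_bt (LP (LK LD1_c8 LD2_c14 LD3_c10)) = (LP (LK LD1_c4 LD2_c6 LD3_c48)) :=
  Lre_b IH (LK LD1_c8 LD2_c14 LD3_c10) (LK LD1_c4 LD2_c6 LD3_c48) Lrfl Lrfl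
theorem f42237 : Led Lsl_ct (LP (LK LD1_c6 LD2_c4 LD3_c35)) = (LP (LK LD1_c11 LD2_c52 LD3_c41)) :=
  Lre_c IH (LK LD1_c6 LD2_c4 LD3_c35) (LK LD1_c11 LD2_c52 LD3_c41) Lrfl Lrfl
theorem f340069 : Led Lsl_af (LP (LK LD1_c20 LD2_c55 LD3_c56)) = (LP (LK LD1_c19 LD2_c58 LD3_c17)) :=
  Lgr Lrot68 (Lpr_ct (K24.f196790 IH) (Lpr_at (K23.f340065 IH) (Lpe (K23.f340059 IH) (Lpn (LP (LK LD1_c19 LD2_c58 LD3_c17))))))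
theorem f254114 : Led Lsl_et (LP (LK LD1_c19 LD2_c58 LD3_c17)) = (LP (LK LD1_c11 LD2_c5 LD3_c14)) :=
  Lre_e IH (LK LD1_c19 LD2_c58 LD3_c17) (LK LD1_c11 LD2_c5 LD3_c14) Lrfl Lrfl
theorem f265240 : Led Lsl_et (LP (LK LD1_c6 LD2_c4 LD3_c34)) = (LP (LK LD1_c11 LD2_c52 LD3_c41)) :=
  Lre_e IH (LK LD1_c6 LD2_c4 LD3_c34) (LK LD1_c11 LD2_c52 LD3_c41) Lrfl Lrfl
theorem f340051 : Led Lsl_ff (LP (LK LD1_c19 LD2_c58 LD3_c17)) = (LP (LK LD1_c11 LD2_c52 LD3_c41)) :=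
  Lgr Lrot72 (Lpr_et (f254114 IH) (Lpr_ft (K23.f340044 IH) (Lpr_et (K19.f274382 IH) (Lpr_ft (K19.f312327 IH) (Lpr_et (f265240 IH) (Lpn (LP (LK LD1_c11 LD2_c52 LD3_c41))))))))
theorem f350313 : Led Lsl_gf (LP (LK LD1_c11 LD2_c57 LD3_c8)) = (LP (LK LD1_c11 LD2_c52 LD3_c41)) :=
  Lgr Lrot47 (Lpr_gt (K24.f350311 IH) (Lpr_af (f340069 IH) (Lpr_ff (f340051 IH) (Lpn (LP (LK LD1_c11 LD2_c52 LD3_c41))))))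
theorem f351451 : Led Lsl_gf (LP (LK LD1_c4 LD2_c6 LD3_c48)) = (LP (LK LD1_c2 LD2_c59 LD3_c40)) :=
  Lgr Lrot124 (Lpe (f348946 IH) (Lpr_ct (K23.f348827 IH) (Lpr_gt (f348956 IH) (Lpe (f211318 IH) (Lpr_bt (f259171 IH) (Lpr_gt (K24.f351446 IH) (Lpr_ct (f42237 IH) (Lpe (f350313 IH) (Lpe (K24.f169055 IH) (Lpr_bt (K24.f169013 IH) (Lpn (LP (LK LD1_c2 LD2_c59 LD3_c40)))))))))))))
theorem f178206 : Led Lsl_ft (LP (LK LD1_c2 LD2_c0 LD3_c44)) = (LP (LK LD1_c4 LD2_c6 LD3_c48)) :=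
  Lre_f IH (LK LD1_c2 LD2_c0 LD3_c44) (LK LD1_c4 LD2_c6 LD3_c48) Lrfl Lrfl
theorem f342189 : Led Lsl_dt (LP (LK LD1_c4 LD2_c6 LD3_c48)) = (LP (LK LD1_c3 LD2_c58 LD3_c43)) :=
  Lgr Lrot60 (Lpe (f178206 IH) (Lpr_df (K23.f342183 IH) (Lpe (K23.f313971 IH) (Lpn (LP (LK LD1_c3 LD2_c58 LD3_c43))))))
theorem f363411 : Led Lsl_gf (LP (LK LD1_c2 LD2_c25 LD3_c53)) = (LP (LK LD1_c3 LD2_c58 LD3_c43)) :=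
  Lgr Lrot134 (Lpr_df (f363400 IH) (Lpe (f363390 IH) (Lpr_gt (f334360 IH) (Lpr_ef (f354274 IH) (Lpr_dt (f354273 IH) (Lpr_gt (f354267 IH) (Lpe (K24.f167879 IH) (Lpr_et (K25.f169008 IH) (Lpe (f351451 IH) (Lpr_dt (f342189 IH) (Lpn (LP (LK LD1_c3 LD2_c58 LD3_c43)))))))))))))
theorem f348941 : Led Lsl_bt (LP (LK LD1_c4 LD2_c6 LD3_c48)) = (LP (LK LD1_c8 LD2_c14 LD3_c10)) :=
  Lre_b IH (LK LD1_c4 LD2_c6 LD3_c48) (LK LD1_c8 LD2_c14 LD3_c10) Lrfl Lrfl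
theorem f348942 : Led Lsl_ef (LP (LK LD1_c4 LD2_c6 LD3_c48)) = (LP (LK LD1_c2 LD2_c59 LD3_c51)) :=
  Lgr Lrot29 (Lpr_bt (f348941 IH) (Lpr_et (K23.f348834 IH) (Lpr_bt (K22.f177574 IH) (Lpn (LP (LK LD1_c2 LD2_c59 LD3_c51))))))
theorem f354276 : Led Lsl_gf (LP (LK LD1_c2 LD2_c44 LD3_c24)) = (LP (LK LD1_c4 LD2_c5 LD3_c32)) :=
  Lgr Lrot138 (Lpr_dt (f354273 IH) (Lpr_gt (f354267 IH) (Lpe (K24.f167879 IH) (Lpr_et (K25.f169008 IH) (Lpe (f351451 IH) (Lpr_ef (f348942 IH) (Lpe (K22.f177563 IH) (Lpr_gt (K23.f334995 IH) (Lpr_df (K23.f226070 IH) (Lpr_et (K23.f167909 IH) (Lpn (LP (LK LD1_c4 LD2_c5 LD3_c32)))))))))))))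
theorem f354272 : Led Lsl_dt (LP (LK LD1_c1 LD2_c18 LD3_c33)) = (LP (LK LD1_c2 LD2_c44 LD3_c24)) :=
  Lre_d IH (LK LD1_c1 LD2_c18 LD3_c33) (LK LD1_c2 LD2_c44 LD3_c24) Lrfl Lrfl
theorem f354278 : Led Lsl_et (LP (LK LD1_c1 LD2_c18 LD3_c33)) = (LP (LK LD1_c2 LD2_c12 LD3_c48)) :=
  Lgr Lrot121 (Lpr_dt (f354272 IH) (Lpr_gf (f354276 IH) (Lpr_df (K23.f342431 IH) (Lpr_et (K25.f237822 IH) (Lpe (K23.f342414 IH) (Lpr_ef (K25.f342417 IH) (Lpr_dt (K25.f180002 IH) (Lpe (K20.f167013 IH) (Lpe (K13.f179960 IH) (Lpe (K25.f354260 IH) (Lpn (LP (LK LD1_c2 LD2_c12 LD3_c48)))))))))))))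
theorem f326567 : Led Lsl_at (LP (LK LD1_c2 LD2_c45 LD3_c54)) = (LP (LK LD1_c4 LD2_c12 LD3_c41)) :=
  Lgr Lrot51 (Lpe (K22.f326523 IH) (Lpr_af (K21.f326562 IH) (Lpe (K25.f212584 IH) (Lpn (LP (LK LD1_c4 LD2_c12 LD3_c41))))))
theorem f337169 : Led Lsl_ef (LP (LK LD1_c2 LD2_c3 LD3_c57)) = (LP (LK LD1_c4 LD2_c12 LD3_c41)) :=
  Lgr Lrot20 (Lpr_at (K22.f337161 IH) (Lpe (f326479 IH) (Lpr_at (f326567 IH) (Lpn (LP (LK LD1_c4 LD2_c12 LD3_c41))))))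
theorem f354280 : Led Lsl_ef (LP (LK LD1_c2 LD2_c44 LD3_c24)) = (LP (LK LD1_c4 LD2_c5 LD3_c31)) :=
  Lgr Lrot73 (Lpr_dt (f354273 IH) (Lpr_et (f354278 IH) (Lpe (f212594 IH) (Lpe (f337169 IH) (Lpr_dt (K22.f337149 IH) (Lpn (LP (LK LD1_c4 LD2_c5 LD3_c31))))))))
theorem f301691 : Led Lsl_et (LP (LK LD1_c4 LD2_c19 LD3_c48)) = (LP (LK LD1_c2 LD2_c44 LD3_c13)) :=
  Lgr Lrot74 (Lpe (K25.f254083 IH) (Lpr_ef (K18.f301689 IH) (Lpe (K18.f253650 IH) (Lpn (LP (LK LD1_c2 LD2_c44 LD3_c13))))))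
theorem f354584 : Led Lsl_gf (LP (LK LD1_c2 LD2_c7 LD3_c21)) = (LP (LK LD1_c2 LD2_c3 LD3_c57)) :=
  Lgr Lrot145 (Lpe (K18.f301708 IH) (Lpr_et (f301691 IH) (Lpr_gt (K22.f335449 IH) (Lpe (K22.f177563 IH) (Lpr_gt (K23.f334995 IH) (Lpr_df (K23.f226070 IH) (Lpr_et (K23.f167909 IH) (Lpe (f354276 IH) (Lpr_ef (f354280 IH) (Lpe (f337153 IH) (Lpn (LP (LK LD1_c2 LD2_c3 LD3_c57)))))))))))))
theorem f363413 : Led Lsl_et (LP (LK LD1_c4 LD2_c6 LD3_c48)) = (LP (LK LD1_c2 LD2_c59 LD3_c51)) :=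
  Lgr Lrot122 (Lpr_dt (f342189 IH) (Lpe (f363411 IH) (Lpr_df (f363400 IH) (Lpe (f363390 IH) (Lpr_gt (f334360 IH) (Lpe (f337153 IH) (Lpe (f354584 IH) (Lpe (K18.f301708 IH) (Lpr_et (f301691 IH) (Lpr_gt (K22.f335449 IH) (Lpn (LP (LK LD1_c2 LD2_c59 LD3_c51)))))))))))))
theorem f238313 : Led Lsl_et (LP (LK LD1_c0 LD2_c54 LD3_c46)) = (LP (LK LD1_c1 LD2_c56 LD3_c5)) :=
  Lre_e IH (LK LD1_c0 LD2_c54 LD3_c46) (LK LD1_c1 LD2_c56 LD3_c5) Lrfl Lrfl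
theorem f363419 : Led Lsl_gf (LP (LK LD1_c3 LD2_c58 LD3_c43)) = (LP (LK LD1_c2 LD2_c25 LD3_c52)) :=
  Lgr Lrot134 (Lpe (f342189 IH) (Lpr_et (f363413 IH) (Lpe (K22.f335452 IH) (Lpe (K14.f173976 IH) (Lpe (K14.f250321 IH) (Lpr_gt (K19.f250329 IH) (Lpr_df (K13.f238309 IH) (Lpr_et (f238313 IH) (Lpr_gt (K25.f335467 IH) (Lpr_dt (K25.f358464 IH) (Lpn (LP (LK LD1_c2 LD2_c25 LD3_c52)))))))))))))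
theorem f314327 : Led Lsl_et (LP (LK LD1_c5 LD2_c2 LD3_c24)) = (LP (LK LD1_c2 LD2_c29 LD3_c8)) :=
  Lgr Lrot69 (Lpe (K22.f177565 IH) (Lpe (K10.f177370 IH) (Lpr_ff (K19.f313920 IH) (Lpe (K18.f181890 IH) (Lpr_ff (K19.f314321 IH) (Lpn (LP (LK LD1_c2 LD2_c29 LD3_c8))))))))
theorem f363417 : Led Lsl_df (LP (LK LD1_c4 LD2_c6 LD3_c48)) = (LP (LK LD1_c3 LD2_c58 LD3_c43)) :=
  Lgr Lrot70 (Lpr_et (f363413 IH) (Lpe (K22.f177563 IH) (Lpr_et (f314327 IH) (Lpe (K20.f314317 IH) (Lpe (K23.f313972 IH) (Lpn (LP (LK LD1_c3 LD2_c58 LD3_c43))))))))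
theorem f237808 : Led Lsl_et (LP (LK LD1_c1 LD2_c0 LD3_c20)) = (LP (LK LD1_c2 LD2_c6 LD3_c47)) :=
  Lre_e IH (LK LD1_c1 LD2_c0 LD3_c20) (LK LD1_c2 LD2_c6 LD3_c47) Lrfl Lrfl
theorem f313345 : Led Lsl_ff (LP (LK LD1_c1 LD2_c0 LD3_c20)) = (LP (LK LD1_c0 LD2_c58 LD3_c42)) :=
  Lgr Lrot19 (Lpr_dt (K19.f237796 IH) (Lpr_ft (K19.f313339 IH) (Lpe (K9.f181939 IH) (Lpn (LP (LK LD1_c0 LD2_c58 LD3_c42))))))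
theorem f212600 : Led Lsl_ft (LP (LK LD1_c4 LD2_c12 LD3_c41)) = (LP (LK LD1_c2 LD2_c3 LD3_c32)) :=
  Lre_f IH (LK LD1_c4 LD2_c12 LD3_c41) (LK LD1_c2 LD2_c3 LD3_c32) Lrfl Lrfl
theorem f337157 : Led Lsl_et (LP (LK LD1_c2 LD2_c3 LD3_c57)) = (LP (LK LD1_c4 LD2_c12 LD3_c41)) :=
  Lgr Lrot69 (Lpr_ff (K22.f337155 IH) (Lpe (f237808 IH) (Lpr_ff (f313345 IH) (Lpe (K25.f166972 IH) (Lpe (f212600 IH) (Lpn (LP (LK LD1_c4 LD2_c12 LD3_c41))))))))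
theorem f178180 : Led Lsl_et (LP (LK LD1_c2 LD2_c44 LD3_c19)) = (LP (LK LD1_c1 LD2_c18 LD3_c30)) :=
  Lre_e IH (LK LD1_c2 LD2_c44 LD3_c19) (LK LD1_c1 LD2_c18 LD3_c30) Lrfl Lrfl
theorem f354282 : Led Lsl_ft (LP (LK LD1_c0 LD2_c36 LD3_c9)) = (LP (LK LD1_c1 LD2_c18 LD3_c33)) :=
  Lre_f IH (LK LD1_c0 LD2_c36 LD3_c9) (LK LD1_c1 LD2_c18 LD3_c33) Lrfl Lrfl
theorem f212603 : Led Lsl_ft (LP (LK LD1_c2 LD2_c12 LD3_c48)) = (LP (LK LD1_c1 LD2_c3 LD3_c24)) :=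
  Lre_f IH (LK LD1_c2 LD2_c12 LD3_c48) (LK LD1_c1 LD2_c3 LD3_c24) Lrfl Lrfl
theorem f175045 : Led Lsl_et (LP (LK LD1_c1 LD2_c3 LD3_c24)) = (LP (LK LD1_c0 LD2_c28 LD3_c56)) :=
  Lre_e IH (LK LD1_c1 LD2_c3 LD3_c24) (LK LD1_c0 LD2_c28 LD3_c56) Lrfl Lrfl
theorem f354283 : Led Lsl_ff (LP (LK LD1_c0 LD2_c16 LD3_c5)) = (LP (LK LD1_c0 LD2_c28 LD3_c56)) :=
  Lgr Lrot72 (Lpr_et (K23.f177877 IH) (Lpr_ft (f354282 IH) (Lpr_et (f354278 IH) (Lpr_ft (f212603 IH) (Lpr_et (f175045 IH) (Lpn (LP (LK LD1_c0 LD2_c28 LD3_c56))))))))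
theorem f354291 : Led Lsl_at (LP (LK LD1_c0 LD2_c16 LD3_c5)) = (LP (LK LD1_c0 LD2_c28 LD3_c47)) :=
  Lgr Lrot26 (Lpr_ff (f354283 IH) (Lpr_gt (K13.f174975 IH) (Lpr_gt (K12.f167907 IH) (Lpn (LP (LK LD1_c0 LD2_c28 LD3_c47))))))
theorem f181885 : Led Lsl_et (LP (LK LD1_c0 LD2_c36 LD3_c9)) = (LP (LK LD1_c0 LD2_c16 LD3_c5)) :=
  Lre_e IH (LK LD1_c0 LD2_c36 LD3_c9) (LK LD1_c0 LD2_c16 LD3_c5) Lrfl Lrfl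
theorem f354295 : Led Lsl_af (LP (LK LD1_c0 LD2_c36 LD3_c9)) = (LP (LK LD1_c1 LD2_c3 LD3_c10)) :=
  Lgr Lrot50 (Lpr_et (f181885 IH) (Lpr_at (f354291 IH) (Lpr_et (K24.f167856 IH) (Lpn (LP (LK LD1_c1 LD2_c3 LD3_c10))))))
theorem f167906 : Led Lsl_ft (LP (LK LD1_c2 LD2_c12 LD3_c27)) = (LP (LK LD1_c1 LD2_c3 LD3_c10)) :=
  Lre_f IH (LK LD1_c2 LD2_c12 LD3_c27) (LK LD1_c1 LD2_c3 LD3_c10) Lrfl Lrfl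
theorem f354301 : Led Lsl_gf (LP (LK LD1_c1 LD2_c18 LD3_c31)) = (LP (LK LD1_c2 LD2_c12 LD3_c27)) :=
  Lgr Lrot47 (Lpr_gt (K23.f177878 IH) (Lpr_af (f354295 IH) (Lpe (f167906 IH) (Lpn (LP (LK LD1_c2 LD2_c12 LD3_c27))))))
theorem f338819 : Led Lsl_ct (LP (LK LD1_c4 LD2_c52 LD3_c48)) = (LP (LK LD1_c8 LD2_c27 LD3_c39)) :=
  Lgr Lrot59 (Lpr_cf (K25.f338816 IH) (Lpn (LP (LK LD1_c8 LD2_c27 LD3_c39))))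
theorem f221011 : Led Lsl_gt (LP (LK LD1_c15 LD2_c54 LD3_c11)) = (LP (LK LD1_c8 LD2_c28 LD3_c12)) :=
  Lre_g IH (LK LD1_c15 LD2_c54 LD3_c11) (LK LD1_c8 LD2_c28 LD3_c12) Lrfl Lrfl
theorem f238354 : Led Lsl_df (LP (LK LD1_c15 LD2_c54 LD3_c11)) = (LP (LK LD1_c15 LD2_c52 LD3_c37)) :=
  Lgr Lrot170 (Lpr_gt (f221011 IH) (Lpe (K23.f220961 IH) (Lpr_et (K19.f220949 IH) (Lpr_gt (K15.f238333 IH) (Lpe (K10.f52247 IH) (Lpe (K19.f238348 IH) (Lpr_df (K15.f228258 IH) (Lpr_et (K19.f189209 IH) (Lpr_gt (K25.f189180 IH) (Lpe (K25.f189214 IH) (Lpn (LP (LK LD1_c15 LD2_c52 LD3_c37)))))))))))))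
theorem f238375 : Led Lsl_dt (LP (LK LD1_c15 LD2_c54 LD3_c11)) = (LP (LK LD1_c15 LD2_c52 LD3_c37)) :=
  Lgr Lrot42 (Lpr_df (f238354 IH) (Lpn (LP (LK LD1_c15 LD2_c52 LD3_c37))))
theorem f348738 : Led Lsl_gt (LP (LK LD1_c15 LD2_c20 LD3_c55)) = (LP (LK LD1_c15 LD2_c54 LD3_c11)) :=
  Lgr Lrot49 (Lpe (K23.f200752 IH) (Lpr_gf (K25.f348736 IH) (Lpe (K25.f348718 IH) (Lpe (K19.f310516 IH) (Lpr_dt (K11.f211307 IH) (Lpr_gt (K19.f293314 IH) (Lpr_dt (K21.f310550 IH) (Lpr_cf (K25.f338823 IH) (Lpe (f238375 IH) (Lpn (LP (LK LD1_c15 LD2_c54 LD3_c11))))))))))))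
theorem f314843 : Led Lsl_ct (LP (LK LD1_c8 LD2_c9 LD3_c50)) = (LP (LK LD1_c4 LD2_c4 LD3_c30)) :=
  Lre_c IH (LK LD1_c8 LD2_c9 LD3_c50) (LK LD1_c4 LD2_c4 LD3_c30) Lrfl Lrfl
theorem f314845 : Led Lsl_ef (LP (LK LD1_c8 LD2_c9 LD3_c50)) = (LP (LK LD1_c5 LD2_c39 LD3_c11)) :=
  Lgr Lrot28 (Lpr_ct (f314843 IH) (Lpr_et (K19.f314839 IH) (Lpr_ct (K19.f314844 IH) (Lpn (LP (LK LD1_c5 LD2_c39 LD3_c11))))))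
theorem f348744 : Led Lsl_gt (LP (LK LD1_c8 LD2_c27 LD3_c39)) = (LP (LK LD1_c8 LD2_c9 LD3_c50)) :=
  Lgr Lrot131 (Lpe (K25.f189214 IH) (Lpe (f238354 IH) (Lpe (f348738 IH) (Lpe (K23.f200752 IH) (Lpr_gf (K25.f348736 IH) (Lpe (K24.f238433 IH) (Lpe (K25.f244355 IH) (Lpe (K25.f348725 IH) (Lpe (K19.f314853 IH) (Lpe (f314845 IH) (Lpn (LP (LK LD1_c8 LD2_c9 LD3_c50)))))))))))))
theorem f354303 : Led Lsl_bt (LP (LK LD1_c4 LD2_c4 LD3_c30)) = (LP (LK LD1_c2 LD2_c12 LD3_c27)) :=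
  Lgr Lrot22 (Lpr_ct (K19.f314834 IH) (Lpe (f348744 IH) (Lpe (f338819 IH) (Lpe (K19.f170726 IH) (Lpe (K10.f170707 IH) (Lpr_ct (K17.f170728 IH) (Lpr_gf (K25.f338705 IH) (Lpe (K25.f178219 IH) (Lpr_bt (K25.f178214 IH) (Lpr_gf (f354301 IH) (Lpn (LP (LK LD1_c2 LD2_c12 LD3_c27)))))))))))))
theorem f354313 : Led Lsl_gt (LP (LK LD1_c1 LD2_c18 LD3_c30)) = (LP (LK LD1_c2 LD2_c12 LD3_c27)) :=
  Lgr Lrot164 (Lpe (K24.f178188 IH) (Lpr_ct (K24.f178234 IH) (Lpe (K24.f338666 IH) (Lpe (K24.f182820 IH) (Lpe (K24.f182165 IH) (Lpr_bf (K25.f352206 IH) (Lpe (K24.f310600 IH) (Lpe (K25.f352492 IH) (Lpe (K19.f314834 IH) (Lpr_bt (f354303 IH) (Lpn (LP (LK LD1_c2 LD2_c12 LD3_c27)))))))))))))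
theorem f354309 : Led Lsl_ef (LP (LK LD1_c1 LD2_c19 LD3_c18)) = (LP (LK LD1_c2 LD2_c12 LD3_c27)) :=
  Lgr Lrot29 (Lpr_bt (K21.f314833 IH) (Lpe (K19.f314831 IH) (Lpr_bt (f354303 IH) (Lpn (LP (LK LD1_c2 LD2_c12 LD3_c27))))))
theorem f354324 : Led Lsl_et (LP (LK LD1_c1 LD2_c19 LD3_c18)) = (LP (LK LD1_c2 LD2_c12 LD3_c27)) :=
  Lgr Lrot87 (Lpr_ef (f354309 IH) (Lpn (LP (LK LD1_c2 LD2_c12 LD3_c27))))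
theorem f358432 : Led Lsl_dt (LP (LK LD1_c7 LD2_c58 LD3_c52)) = (LP (LK LD1_c4 LD2_c12 LD3_c40)) :=
  Lgr Lrot37 (Lpr_et (f353995 IH) (Lpr_gt (K25.f358428 IH) (Lpr_dt (K14.f168898 IH) (Lpe (K23.f342208 IH) (Lpr_df (K23.f342192 IH) (Lpr_et (f178180 IH) (Lpr_gt (f354313 IH) (Lpe (f354324 IH) (Lpr_dt (K22.f326523 IH) (Lpe (K25.f357214 IH) (Lpn (LP (LK LD1_c4 LD2_c12 LD3_c40)))))))))))))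
theorem f358452 : Led Lsl_et (LP (LK LD1_c4 LD2_c12 LD3_c40)) = (LP (LK LD1_c2 LD2_c45 LD3_c52)) :=
  Lgr Lrot71 (Lpe (f358432 IH) (Lpe (f353987 IH) (Lpr_df (K25.f358434 IH) (Lpe (K25.f168887 IH) (Lpr_df (f358443 IH) (Lpn (LP (LK LD1_c2 LD2_c45 LD3_c52))))))))
theorem f363383 : Led Lsl_gt (LP (LK LD1_c4 LD2_c12 LD3_c41)) = (LP (LK LD1_c2 LD2_c45 LD3_c52)) :=
  Lgr Lrot131 (Lpe (f337157 IH) (Lpr_dt (K22.f337149 IH) (Lpe (f334360 IH) (Lpe (f334362 IH) (Lpr_gf (f363381 IH) (Lpe (K22.f179978 IH) (Lpr_dt (K13.f167024 IH) (Lpe (f358470 IH) (Lpr_df (f358468 IH) (Lpr_et (f358452 IH) (Lpn (LP (LK LD1_c2 LD2_c45 LD3_c52)))))))))))))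
theorem f363422 : Led Lsl_gt (LP (LK LD1_c4 LD2_c6 LD3_c48)) = (LP (LK LD1_c2 LD2_c59 LD3_c41)) :=
  Lgr Lrot139 (Lpr_df (f363417 IH) (Lpr_gf (f363419 IH) (Lpe (K25.f168887 IH) (Lpr_dt (K25.f358439 IH) (Lpe (f363383 IH) (Lpr_df (f212594 IH) (Lpr_et (f354245 IH) (Lpe (f351467 IH) (Lpr_ef (K25.f169021 IH) (Lpe (K25.f169010 IH) (Lpn (LP (LK LD1_c2 LD2_c59 LD3_c41)))))))))))))
theorem f231280 : Led Lsl_ct (LP (LK LD1_c5 LD2_c4 LD3_c52)) = (LP (LK LD1_c10 LD2_c0 LD3_c45)) :=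
  Lre_c IH (LK LD1_c5 LD2_c4 LD3_c52) (LK LD1_c10 LD2_c0 LD3_c45) Lrfl Lrfl
theorem f168903 : Led Lsl_bt (LP (LK LD1_c6 LD2_c7 LD3_c8)) = (LP (LK LD1_c2 LD2_c59 LD3_c41)) :=
  Lre_b IH (LK LD1_c6 LD2_c7 LD3_c8) (LK LD1_c2 LD2_c59 LD3_c41) Lrfl Lrfl
theorem f169043 : Led Lsl_ct (LP (LK LD1_c6 LD2_c7 LD3_c8)) = (LP (LK LD1_c11 LD2_c57 LD3_c11)) :=
  Lre_c IH (LK LD1_c6 LD2_c7 LD3_c8) (LK LD1_c11 LD2_c57 LD3_c11) Lrfl Lrfl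
theorem f363427 : Led Lsl_gf (LP (LK LD1_c10 LD2_c0 LD3_c45)) = (LP (LK LD1_c11 LD2_c57 LD3_c11)) :=
  Lgr Lrot126 (Lpe (f231280 IH) (Lpr_bt (K18.f194460 IH) (Lpr_gt (K22.f31653 IH) (Lpr_ct (K24.f194463 IH) (Lpe (K24.f350161 IH) (Lpe (K23.f348827 IH) (Lpr_bt (f348946 IH) (Lpr_gt (f363422 IH) (Lpe (f168903 IH) (Lpr_ct (f169043 IH) (Lpn (LP (LK LD1_c11 LD2_c57 LD3_c11)))))))))))))
theorem f350349 : Led Lsl_et (LP (LK LD1_c5 LD2_c28 LD3_c4)) = (LP (LK LD1_c5 LD2_c5 LD3_c1)) :=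
  Lgr Lrot121 (Lpr_dt (K24.f350341 IH) (Lpe (K22.f284235 IH) (Lpe (K10.f187962 IH) (Lpr_et (K21.f305568 IH) (Lpr_gf (K21.f329845 IH) (Lpe (f328129 IH) (Lpr_dt (K21.f211326 IH) (Lpr_gf (K21.f293292 IH) (Lpr_df (K17.f223573 IH) (Lpr_gf (K22.f338575 IH) (Lpn (LP (LK LD1_c5 LD2_c5 LD3_c1)))))))))))))
theorem f282975 : Led Lsl_ct (LP (LK LD1_c10 LD2_c47 LD3_c25)) = (LP (LK LD1_c5 LD2_c28 LD3_c4)) :=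
  Lre_c IH (LK LD1_c10 LD2_c47 LD3_c25) (LK LD1_c5 LD2_c28 LD3_c4) Lrfl Lrfl
theorem f350351 : Led Lsl_ef (LP (LK LD1_c10 LD2_c47 LD3_c25)) = (LP (LK LD1_c10 LD2_c1 LD3_c12)) :=
  Lgr Lrot28 (Lpr_ct (f282975 IH) (Lpr_et (f350349 IH) (Lpr_ct (K24.f194463 IH) (Lpn (LP (LK LD1_c10 LD2_c1 LD3_c12))))))
theorem f350356 : Led Lsl_et (LP (LK LD1_c10 LD2_c47 LD3_c25)) = (LP (LK LD1_c10 LD2_c1 LD3_c12)) :=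
  Lgr Lrot87 (Lpr_ef (f350351 IH) (Lpn (LP (LK LD1_c10 LD2_c1 LD3_c12))))
theorem f350358 : Led Lsl_bt (LP (LK LD1_c19 LD2_c31 LD3_c2)) = (LP (LK LD1_c10 LD2_c47 LD3_c25)) :=
  Lre_b IH (LK LD1_c19 LD2_c31 LD3_c2) (LK LD1_c10 LD2_c47 LD3_c25) Lrfl Lrfl
theorem f194465 : Led Lsl_bt (LP (LK LD1_c10 LD2_c1 LD3_c12)) = (LP (LK LD1_c18 LD2_c18 LD3_c43)) :=
  Lre_b IH (LK LD1_c10 LD2_c1 LD3_c12) (LK LD1_c18 LD2_c18 LD3_c43) Lrfl Lrfl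
theorem f350359 : Led Lsl_ef (LP (LK LD1_c19 LD2_c31 LD3_c2)) = (LP (LK LD1_c18 LD2_c18 LD3_c43)) :=
  Lgr Lrot29 (Lpr_bt (f350358 IH) (Lpr_et (f350356 IH) (Lpr_bt (f194465 IH) (Lpn (LP (LK LD1_c18 LD2_c18 LD3_c43))))))
theorem f340871 : Led Lsl_ct (LP (LK LD1_c19 LD2_c31 LD3_c2)) = (LP (LK LD1_c10 LD2_c47 LD3_c26)) :=
  Lre_c IH (LK LD1_c19 LD2_c31 LD3_c2) (LK LD1_c10 LD2_c47 LD3_c26) Lrfl Lrfl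
theorem f340843 : Led Lsl_et (LP (LK LD1_c5 LD2_c25 LD3_c58)) = (LP (LK LD1_c2 LD2_c40 LD3_c21)) :=
  Lgr Lrot87 (Lpr_ef (K25.f340837 IH) (Lpn (LP (LK LD1_c2 LD2_c40 LD3_c21))))
theorem f282972 : Led Lsl_ct (LP (LK LD1_c2 LD2_c40 LD3_c21)) = (LP (LK LD1_c5 LD2_c28 LD3_c5)) :=
  Lre_c IH (LK LD1_c2 LD2_c40 LD3_c21) (LK LD1_c5 LD2_c28 LD3_c5) Lrfl Lrfl
theorem f340861 : Led Lsl_ef (LP (LK LD1_c10 LD2_c43 LD3_c9)) = (LP (LK LD1_c5 LD2_c28 LD3_c5)) :=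
  Lgr Lrot28 (Lpr_ct (f340849 IH) (Lpr_et (f340843 IH) (Lpr_ct (f282972 IH) (Lpn (LP (LK LD1_c5 LD2_c28 LD3_c5))))))
theorem f340850 : Led Lsl_bt (LP (LK LD1_c10 LD2_c43 LD3_c9)) = (LP (LK LD1_c19 LD2_c24 LD3_c10)) :=
  Lre_b IH (LK LD1_c10 LD2_c43 LD3_c9) (LK LD1_c19 LD2_c24 LD3_c10) Lrfl Lrfl
theorem f340863 : Led Lsl_bt (LP (LK LD1_c10 LD2_c47 LD3_c26)) = (LP (LK LD1_c5 LD2_c28 LD3_c5)) :=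
  Lre_b IH (LK LD1_c10 LD2_c47 LD3_c26) (LK LD1_c5 LD2_c28 LD3_c5) Lrfl Lrfl
theorem f340864 : Led Lsl_et (LP (LK LD1_c19 LD2_c24 LD3_c10)) = (LP (LK LD1_c10 LD2_c47 LD3_c26)) :=
  Lgr Lrot74 (Lpe (f340850 IH) (Lpr_ef (f340861 IH) (Lpe (f340863 IH) (Lpn (LP (LK LD1_c10 LD2_c47 LD3_c26))))))
theorem f340868 : Led Lsl_ef (LP (LK LD1_c19 LD2_c24 LD3_c10)) = (LP (LK LD1_c10 LD2_c47 LD3_c26)) :=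
  Lgr Lrot88 (Lpr_et (f340864 IH) (Lpn (LP (LK LD1_c10 LD2_c47 LD3_c26))))
theorem f350362 : Led Lsl_ct (LP (LK LD1_c19 LD2_c24 LD3_c10)) = (LP (LK LD1_c18 LD2_c18 LD3_c43)) :=
  Lgr Lrot15 (Lpr_ef (f340868 IH) (Lpe (f340871 IH) (Lpr_ef (f350359 IH) (Lpn (LP (LK LD1_c18 LD2_c18 LD3_c43))))))
theorem f350364 : Led Lsl_cf (LP (LK LD1_c19 LD2_c24 LD3_c10)) = (LP (LK LD1_c18 LD2_c18 LD3_c43)) :=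
  Lgr Lrot11 (Lpr_ct (f350362 IH) (Lpn (LP (LK LD1_c18 LD2_c18 LD3_c43))))
theorem f340870 : Led Lsl_bt (LP (LK LD1_c19 LD2_c24 LD3_c10)) = (LP (LK LD1_c10 LD2_c43 LD3_c9)) :=
  Lre_b IH (LK LD1_c19 LD2_c24 LD3_c10) (LK LD1_c10 LD2_c43 LD3_c9) Lrfl Lrfl
theorem f350366 : Led Lsl_bt (LP (LK LD1_c5 LD2_c25 LD3_c58)) = (LP (LK LD1_c5 LD2_c5 LD3_c1)) :=
  Lgr Lrot128 (Lpe (f340849 IH) (Lpe (f340870 IH) (Lpr_cf (f350364 IH) (Lpe (f194465 IH) (Lpe (K24.f194463 IH) (Lpn (LP (LK LD1_c5 LD2_c5 LD3_c1))))))))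
theorem f363429 : Led Lsl_bt (LP (LK LD1_c10 LD2_c20 LD3_c0)) = (LP (LK LD1_c11 LD2_c57 LD3_c9)) :=
  Lgr Lrot130 (Lpr_ct (f223111 IH) (Lpr_gf (f361808 IH) (Lpe (f264708 IH) (Lpr_bt (f350366 IH) (Lpe (K22.f31653 IH) (Lpe (K18.f194460 IH) (Lpr_ct (f231280 IH) (Lpr_gf (f363427 IH) (Lpe (f169043 IH) (Lpe (f169038 IH) (Lpn (LP (LK LD1_c11 LD2_c57 LD3_c9)))))))))))))
theorem f363431 : Led Lsl_df (LP (LK LD1_c7 LD2_c58 LD3_c25)) = (LP (LK LD1_c11 LD2_c57 LD3_c9)) :=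
  Lgr Lrot12 (Lpr_bt (f223110 IH) (Lpr_dt (f223107 IH) (Lpr_bt (f363429 IH) (Lpn (LP (LK LD1_c11 LD2_c57 LD3_c9))))))
theorem f223968 : Led Lsl_gt (LP (LK LD1_c7 LD2_c57 LD3_c44)) = (LP (LK LD1_c15 LD2_c1 LD3_c5)) :=
  Lre_g IH (LK LD1_c7 LD2_c57 LD3_c44) (LK LD1_c15 LD2_c1 LD3_c5) Lrfl Lrfl
theorem f359838 : Led Lsl_gf (LP (LK LD1_c7 LD2_c58 LD3_c25)) = (LP (LK LD1_c15 LD2_c1 LD3_c5)) :=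
  Lgr Lrot76 (Lpr_af (f359831 IH) (Lpe (f223962 IH) (Lpr_gt (f223968 IH) (Lpn (LP (LK LD1_c15 LD2_c1 LD3_c5))))))
theorem f360485 : Led Lsl_et (LP (LK LD1_c11 LD2_c57 LD3_c9)) = (LP (LK LD1_c8 LD2_c11 LD3_c23)) :=
  Lgr Lrot87 (Lpr_ef (f360477 IH) (Lpn (LP (LK LD1_c8 LD2_c11 LD3_c23))))
theorem f252091 : Led Lsl_at (LP (LK LD1_c2 LD2_c25 LD3_c20)) = (LP (LK LD1_c1 LD2_c18 LD3_c22)) :=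
  Lgr Lrot51 (Lpr_df (K14.f252089 IH) (Lpe (K14.f228884 IH) (Lpe (K12.f178288 IH) (Lpn (LP (LK LD1_c1 LD2_c18 LD3_c22))))))
theorem f253913 : Led Lsl_ff (LP (LK LD1_c2 LD2_c25 LD3_c20)) = (LP (LK LD1_c4 LD2_c30 LD3_c52)) :=
  Lgr Lrot52 (Lpr_at (f252091 IH) (Lpr_gf (K12.f228792 IH) (Lpr_gf (K14.f253905 IH) (Lpn (LP (LK LD1_c4 LD2_c30 LD3_c52))))))
theorem f326884 : Led Lsl_ff (LP (LK LD1_c8 LD2_c11 LD3_c22)) = (LP (LK LD1_c11 LD2_c57 LD3_c29)) :=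
  Lgr Lrot72 (Lpr_et (K23.f278250 IH) (Lpe (f253913 IH) (Lpr_et (K19.f221747 IH) (Lpr_ft (K19.f221696 IH) (Lpr_et (K21.f326876 IH) (Lpn (LP (LK LD1_c11 LD2_c57 LD3_c29))))))))
theorem f278244 : Led Lsl_at (LP (LK LD1_c8 LD2_c11 LD3_c22)) = (LP (LK LD1_c4 LD2_c30 LD3_c54)) :=
  Lgr Lrot51 (Lpr_df (K23.f278242 IH) (Lpe (K14.f248604 IH) (Lpr_df (K14.f250353 IH) (Lpn (LP (LK LD1_c4 LD2_c30 LD3_c54))))))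
theorem f360447 : Led Lsl_gf (LP (LK LD1_c4 LD2_c30 LD3_c54)) = (LP (LK LD1_c8 LD2_c11 LD3_c23)) :=
  Lgr Lrot76 (Lpe (f278244 IH) (Lpr_ff (f326884 IH) (Lpr_gt (f360445 IH) (Lpn (LP (LK LD1_c8 LD2_c11 LD3_c23))))))
theorem f187373 : Led Lsl_gt (LP (LK LD1_c4 LD2_c54 LD3_c37)) = (LP (LK LD1_c9 LD2_c40 LD3_c49)) :=
  Lre_g IH (LK LD1_c4 LD2_c54 LD3_c37) (LK LD1_c9 LD2_c40 LD3_c49) Lrfl Lrfl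
theorem f363439 : Led Lsl_df (LP (LK LD1_c15 LD2_c1 LD3_c5)) = (LP (LK LD1_c9 LD2_c40 LD3_c49)) :=
  Lgr Lrot135 (Lpe (f359838 IH) (Lpr_df (f363431 IH) (Lpr_et (f360485 IH) (Lpe (f360447 IH) (Lpe (K14.f250388 IH) (Lpe (K16.f250319 IH) (Lpe (K14.f250472 IH) (Lpe (K22.f187347 IH) (Lpr_et (K12.f173154 IH) (Lpr_gt (f187373 IH) (Lpn (LP (LK LD1_c9 LD2_c40 LD3_c49)))))))))))))
theorem f220124 : Led Lsl_gt (LP (LK LD1_c8 LD2_c25 LD3_c22)) = (LP (LK LD1_c4 LD2_c13 LD3_c5)) :=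
  Lre_g IH (LK LD1_c8 LD2_c25 LD3_c22) (LK LD1_c4 LD2_c13 LD3_c5) Lrfl Lrfl
theorem f310879 : Led Lsl_dt (LP (LK LD1_c15 LD2_c49 LD3_c35)) = (LP (LK LD1_c8 LD2_c25 LD3_c22)) :=
  Lre_d IH (LK LD1_c15 LD2_c49 LD3_c35) (LK LD1_c8 LD2_c25 LD3_c22) Lrfl Lrfl
theorem f310880 : Led Lsl_et (LP (LK LD1_c15 LD2_c49 LD3_c35)) = (LP (LK LD1_c9 LD2_c40 LD3_c49)) :=
  Lgr Lrot122 (Lpr_dt (f310879 IH) (Lpr_gt (f220124 IH) (Lpr_df (K21.f310871 IH) (Lpr_et (K19.f218586 IH) (Lpe (K13.f235749 IH) (Lpe (K16.f250319 IH) (Lpe (K14.f250472 IH) (Lpe (K22.f187347 IH) (Lpr_et (K12.f173154 IH) (Lpr_gt (f187373 IH) (Lpn (LP (LK LD1_c9 LD2_c40 LD3_c49)))))))))))))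
theorem f310883 : Led Lsl_ef (LP (LK LD1_c15 LD2_c49 LD3_c35)) = (LP (LK LD1_c9 LD2_c40 LD3_c49)) :=
  Lgr Lrot88 (Lpr_et (f310880 IH) (Lpn (LP (LK LD1_c9 LD2_c40 LD3_c49))))
theorem f250396 : Led Lsl_dt (LP (LK LD1_c9 LD2_c57 LD3_c37)) = (LP (LK LD1_c5 LD2_c3 LD3_c21)) :=
  Lre_d IH (LK LD1_c9 LD2_c57 LD3_c37) (LK LD1_c5 LD2_c3 LD3_c21) Lrfl Lrfl
theorem f359372 : Led Lsl_bt (LP (LK LD1_c18 LD2_c13 LD3_c34)) = (LP (LK LD1_c9 LD2_c57 LD3_c37)) :=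
  Lre_b IH (LK LD1_c18 LD2_c13 LD3_c34) (LK LD1_c9 LD2_c57 LD3_c37) Lrfl Lrfl
theorem f359373 : Led Lsl_bt (LP (LK LD1_c9 LD2_c38 LD3_c51)) = (LP (LK LD1_c17 LD2_c45 LD3_c2)) :=
  Lre_b IH (LK LD1_c9 LD2_c38 LD3_c51) (LK LD1_c17 LD2_c45 LD3_c2) Lrfl Lrfl
theorem f359374 : Led Lsl_et (LP (LK LD1_c9 LD2_c57 LD3_c37)) = (LP (LK LD1_c9 LD2_c38 LD3_c51)) :=
  Lgr Lrot74 (Lpe (f359372 IH) (Lpr_ef (f359370 IH) (Lpe (f359373 IH) (Lpn (LP (LK LD1_c9 LD2_c38 LD3_c51))))))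
theorem f363441 : Led Lsl_gf (LP (LK LD1_c15 LD2_c49 LD3_c35)) = (LP (LK LD1_c9 LD2_c38 LD3_c51)) :=
  Lgr Lrot141 (Lpr_ef (f310883 IH) (Lpe (f363439 IH) (Lpe (f359838 IH) (Lpr_df (f363431 IH) (Lpr_et (f360485 IH) (Lpe (f360447 IH) (Lpe (K14.f250353 IH) (Lpr_gt (f248487 IH) (Lpe (f250396 IH) (Lpr_et (f359374 IH) (Lpn (LP (LK LD1_c9 LD2_c38 LD3_c51)))))))))))))
theorem f310882 : Led Lsl_dt (LP (LK LD1_c8 LD2_c25 LD3_c22)) = (LP (LK LD1_c15 LD2_c49 LD3_c35)) :=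
  Lre_d IH (LK LD1_c8 LD2_c25 LD3_c22) (LK LD1_c15 LD2_c49 LD3_c35) Lrfl Lrfl
theorem f167016 : Led Lsl_dt (LP (LK LD1_c4 LD2_c53 LD3_c22)) = (LP (LK LD1_c9 LD2_c38 LD3_c51)) :=
  Lre_d IH (LK LD1_c4 LD2_c53 LD3_c22) (LK LD1_c9 LD2_c38 LD3_c51) Lrfl Lrfl
theorem f243429 : Led Lsl_gt (LP (LK LD1_c8 LD2_c37 LD3_c18)) = (LP (LK LD1_c4 LD2_c19 LD3_c32)) :=
  Lre_g IH (LK LD1_c8 LD2_c37 LD3_c18) (LK LD1_c4 LD2_c19 LD3_c32) Lrfl Lrfl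
theorem f363443 : Led Lsl_et (LP (LK LD1_c8 LD2_c25 LD3_c22)) = (LP (LK LD1_c8 LD2_c37 LD3_c18)) :=
  Lgr Lrot185 (Lpr_dt (f310882 IH) (Lpr_gf (f363441 IH) (Lpe (f167016 IH) (Lpe (f167015 IH) (Lpe (K14.f180070 IH) (Lpe (K16.f178272 IH) (Lpe (K15.f261279 IH) (Lpr_df (K15.f267181 IH) (Lpr_et (K21.f267194 IH) (Lpe (f243429 IH) (Lpn (LP (LK LD1_c8 LD2_c37 LD3_c18)))))))))))))
theorem f363447 : Led Lsl_ef (LP (LK LD1_c8 LD2_c25 LD3_c22)) = (LP (LK LD1_c8 LD2_c37 LD3_c18)) :=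
  Lgr Lrot88 (Lpr_et (f363443 IH) (Lpn (LP (LK LD1_c8 LD2_c37 LD3_c18))))
theorem f301189 : Led Lsl_dt (LP (LK LD1_c16 LD2_c9 LD3_c6)) = (LP (LK LD1_c8 LD2_c37 LD3_c18)) :=
  Lre_d IH (LK LD1_c16 LD2_c9 LD3_c6) (LK LD1_c8 LD2_c37 LD3_c18) Lrfl Lrfl
theorem f363451 : Led Lsl_et (LP (LK LD1_c15 LD2_c1 LD3_c5)) = (LP (LK LD1_c16 LD2_c9 LD3_c6)) :=
  Lgr Lrot71 (Lpr_df (f363439 IH) (Lpe (f310880 IH) (Lpe (f310882 IH) (Lpr_ef (f363447 IH) (Lpe (f301189 IH) (Lpn (LP (LK LD1_c16 LD2_c9 LD3_c6))))))))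
theorem f363535 : Led Lsl_ef (LP (LK LD1_c15 LD2_c1 LD3_c5)) = (LP (LK LD1_c16 LD2_c9 LD3_c6)) :=
  Lgr Lrot88 (Lpr_et (f363451 IH) (Lpn (LP (LK LD1_c16 LD2_c9 LD3_c6))))
theorem f363433 : Led Lsl_dt (LP (LK LD1_c7 LD2_c58 LD3_c25)) = (LP (LK LD1_c11 LD2_c57 LD3_c9)) :=
  Lgr Lrot42 (Lpr_df (f363431 IH) (Lpn (LP (LK LD1_c11 LD2_c57 LD3_c9))))
theorem f169023 : Led Lsl_et (LP (LK LD1_c4 LD2_c30 LD3_c59)) = (LP (LK LD1_c6 LD2_c7 LD3_c7)) :=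
  Lgr Lrot74 (Lpe (K24.f167888 IH) (Lpr_ef (K25.f169021 IH) (Lpe (K24.f169013 IH) (Lpn (LP (LK LD1_c6 LD2_c7 LD3_c7))))))
theorem f169035 : Led Lsl_dt (LP (LK LD1_c6 LD2_c7 LD3_c7)) = (LP (LK LD1_c6 LD2_c7 LD3_c8)) :=
  Lgr Lrot77 (Lpe (f169023 IH) (Lpr_df (f167883 IH) (Lpe (f167905 IH) (Lpr_df (f169029 IH) (Lpe (f169034 IH) (Lpn (LP (LK LD1_c6 LD2_c7 LD3_c8))))))))
theorem f169047 : Led Lsl_ef (LP (LK LD1_c4 LD2_c30 LD3_c59)) = (LP (LK LD1_c6 LD2_c7 LD3_c7)) :=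
  Lgr Lrot73 (Lpr_dt (K24.f167890 IH) (Lpr_et (f167898 IH) (Lpr_dt (f169032 IH) (Lpr_et (f169037 IH) (Lpr_dt (f169014 IH) (Lpn (LP (LK LD1_c6 LD2_c7 LD3_c7))))))))
theorem f363539 : Led Lsl_gt (LP (LK LD1_c8 LD2_c24 LD3_c15)) = (LP (LK LD1_c8 LD2_c37 LD3_c18)) :=
  Lgr Lrot112 (Lpe (K25.f326864 IH) (Lpe (f344299 IH) (Lpr_gf (f358564 IH) (Lpr_ef (f169047 IH) (Lpr_dt (f169035 IH) (Lpe (f169038 IH) (Lpe (f363433 IH) (Lpr_gf (f359838 IH) (Lpr_ef (f363535 IH) (Lpr_dt (f301189 IH) (Lpn (LP (LK LD1_c8 LD2_c37 LD3_c18)))))))))))))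
theorem f182946 : Led Lsl_bt (LP (LK LD1_c8 LD2_c11 LD3_c31)) = (LP (LK LD1_c15 LD2_c25 LD3_c8)) :=
  Lre_b IH (LK LD1_c8 LD2_c11 LD3_c31) (LK LD1_c15 LD2_c25 LD3_c8) Lrfl Lrfl
theorem f343685 : Led Lsl_af (LP (LK LD1_c8 LD2_c11 LD3_c31)) = (LP (LK LD1_c15 LD2_c24 LD3_c24)) :=
  Lgr Lrot36 (Lpr_bt (f182946 IH) (Lpr_at (K25.f324768 IH) (Lpr_bt (K23.f343681 IH) (Lpe (K22.f328348 IH) (Lpr_bt (K21.f328221 IH) (Lpn (LP (LK LD1_c15 LD2_c24 LD3_c24))))))))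
theorem f363261 : Led Lsl_gt (LP (LK LD1_c8 LD2_c14 LD3_c25)) = (LP (LK LD1_c8 LD2_c11 LD3_c31)) :=
  Lgr Lrot46 (Lpr_gf (f363259 IH) (Lpr_ft (K20.f271081 IH) (Lpe (f343685 IH) (Lpn (LP (LK LD1_c8 LD2_c11 LD3_c31))))))
theorem f355279 : Led Lsl_dt (LP (LK LD1_c8 LD2_c37 LD3_c18)) = (LP (LK LD1_c16 LD2_c9 LD3_c6)) :=
  Lre_d IH (LK LD1_c8 LD2_c37 LD3_c18) (LK LD1_c16 LD2_c9 LD3_c6) Lrfl Lrfl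
theorem f355280 : Led Lsl_gt (LP (LK LD1_c16 LD2_c9 LD3_c6)) = (LP (LK LD1_c9 LD2_c36 LD3_c52)) :=
  Lgr Lrot9 (Lpe (f355279 IH) (Lpr_gt (f243429 IH) (Lpr_ct (K23.f243409 IH) (Lpr_gt (K23.f243438 IH) (Lpr_ct (K23.f347207 IH) (Lpe (K21.f274490 IH) (Lpr_cf (K21.f301385 IH) (Lpr_gf (f355275 IH) (Lpe (f320322 IH) (Lpn (LP (LK LD1_c9 LD2_c36 LD3_c52))))))))))))
theorem f363553 : Led Lsl_gf (LP (LK LD1_c15 LD2_c26 LD3_c6)) = (LP (LK LD1_c9 LD2_c36 LD3_c53)) :=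
  Lgr Lrot141 (Lpe (f355189 IH) (Lpr_dt (f334370 IH) (Lpr_gt (f363261 IH) (Lpr_df (K20.f322242 IH) (Lpe (K21.f322227 IH) (Lpr_gt (f363539 IH) (Lpr_dt (f355279 IH) (Lpr_gt (f355280 IH) (Lpe (f306053 IH) (Lpr_et (K25.f301655 IH) (Lpn (LP (LK LD1_c9 LD2_c36 LD3_c53)))))))))))))
theorem f355198 : Led Lsl_dt (LP (LK LD1_c15 LD2_c26 LD3_c6)) = (LP (LK LD1_c8 LD2_c11 LD3_c56)) :=
  Lre_d IH (LK LD1_c15 LD2_c26 LD3_c6) (LK LD1_c8 LD2_c11 LD3_c56) Lrfl Lrfl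
theorem f363272 : Led Lsl_gt (LP (LK LD1_c8 LD2_c11 LD3_c56)) = (LP (LK LD1_c8 LD2_c13 LD3_c43)) :=
  Lgr Lrot46 (Lpr_gf (f363270 IH) (Lpr_ft (K21.f191460 IH) (Lpr_at (K21.f324976 IH) (Lpn (LP (LK LD1_c8 LD2_c13 LD3_c43))))))
theorem f330998 : Led Lsl_et (LP (LK LD1_c4 LD2_c19 LD3_c38)) = (LP (LK LD1_c8 LD2_c36 LD3_c8)) :=
  Lgr Lrot87 (Lpr_ef (K21.f330989 IH) (Lpn (LP (LK LD1_c8 LD2_c36 LD3_c8))))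
theorem f363557 : Led Lsl_gt (LP (LK LD1_c8 LD2_c36 LD3_c8)) = (LP (LK LD1_c8 LD2_c25 LD3_c22)) :=
  Lgr Lrot131 (Lpe (f330998 IH) (Lpr_dt (K21.f330941 IH) (Lpe (f363272 IH) (Lpe (f355198 IH) (Lpr_gf (f363553 IH) (Lpe (K25.f301655 IH) (Lpr_dt (f306053 IH) (Lpe (f355280 IH) (Lpe (f355279 IH) (Lpe (f363447 IH) (Lpn (LP (LK LD1_c8 LD2_c25 LD3_c22)))))))))))))
theorem f179657 : Led Lsl_bt (LP (LK LD1_c16 LD2_c7 LD3_c25)) = (LP (LK LD1_c8 LD2_c36 LD3_c8)) :=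
  Lre_b IH (LK LD1_c16 LD2_c7 LD3_c25) (LK LD1_c8 LD2_c36 LD3_c8) Lrfl Lrfl
theorem f179642 : Led Lsl_ft (LP (LK LD1_c8 LD2_c36 LD3_c3)) = (LP (LK LD1_c16 LD2_c7 LD3_c25)) :=
  Lre_f IH (LK LD1_c8 LD2_c36 LD3_c3) (LK LD1_c16 LD2_c7 LD3_c25) Lrfl Lrfl
theorem f179643 : Led Lsl_ft (LP (LK LD1_c16 LD2_c4 LD3_c40)) = (LP (LK LD1_c8 LD2_c33 LD3_c54)) :=
  Lre_f IH (LK LD1_c16 LD2_c4 LD3_c40) (LK LD1_c8 LD2_c33 LD3_c54) Lrfl Lrfl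
theorem f179644 : Led Lsl_ct (LP (LK LD1_c16 LD2_c7 LD3_c25)) = (LP (LK LD1_c16 LD2_c4 LD3_c40)) :=
  Lgr Lrot40 (Lpe (f179642 IH) (Lpr_cf (K20.f179624 IH) (Lpe (f179643 IH) (Lpn (LP (LK LD1_c16 LD2_c4 LD3_c40))))))
theorem f182287 : Led Lsl_ct (LP (LK LD1_c8 LD2_c20 LD3_c33)) = (LP (LK LD1_c15 LD2_c42 LD3_c9)) :=
  Lre_c IH (LK LD1_c8 LD2_c20 LD3_c33) (LK LD1_c15 LD2_c42 LD3_c9) Lrfl Lrfl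
theorem f260849 : Led Lsl_ct (LP (LK LD1_c8 LD2_c17 LD3_c60)) = (LP (LK LD1_c8 LD2_c37 LD3_c25)) :=
  Lgr Lrot40 (Lpe (K15.f260815 IH) (Lpr_cf (K23.f260844 IH) (Lpe (K23.f260848 IH) (Lpn (LP (LK LD1_c8 LD2_c37 LD3_c25))))))
theorem f301191 : Led Lsl_ct (LP (LK LD1_c8 LD2_c37 LD3_c18)) = (LP (LK LD1_c16 LD2_c9 LD3_c5)) :=
  Lre_c IH (LK LD1_c8 LD2_c37 LD3_c18) (LK LD1_c16 LD2_c9 LD3_c5) Lrfl Lrfl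
theorem f363549 : Led Lsl_gf (LP (LK LD1_c8 LD2_c37 LD3_c25)) = (LP (LK LD1_c16 LD2_c9 LD3_c5)) :=
  Lgr Lrot104 (Lpr_ct (K23.f260786 IH) (Lpe (K24.f261023 IH) (Lpr_cf (K18.f261066 IH) (Lpe (K19.f301281 IH) (Lpe (K19.f301200 IH) (Lpe (K21.f305723 IH) (Lpr_df (K21.f326862 IH) (Lpr_gt (f363539 IH) (Lpr_ct (f301191 IH) (Lpn (LP (LK LD1_c16 LD2_c9 LD3_c5))))))))))))
theorem f363563 : Led Lsl_bt (LP (LK LD1_c8 LD2_c37 LD3_c18)) = (LP (LK LD1_c8 LD2_c25 LD3_c22)) :=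
  Lgr Lrot92 (Lpr_ct (f301191 IH) (Lpe (f363549 IH) (Lpe (f260849 IH) (Lpe (K23.f260804 IH) (Lpr_gt (K21.f182286 IH) (Lpr_ct (f182287 IH) (Lpe (K22.f337017 IH) (Lpe (f179644 IH) (Lpr_bt (f179657 IH) (Lpr_gt (f363557 IH) (Lpn (LP (LK LD1_c8 LD2_c25 LD3_c22)))))))))))))
theorem f363567 : Led Lsl_bf (LP (LK LD1_c16 LD2_c9 LD3_c6)) = (LP (LK LD1_c15 LD2_c49 LD3_c35)) :=
  Lgr Lrot93 (Lpr_dt (f301189 IH) (Lpr_bt (f363563 IH) (Lpr_dt (f310882 IH) (Lpn (LP (LK LD1_c15 LD2_c49 LD3_c35))))))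
theorem f363571 : Led Lsl_bt (LP (LK LD1_c15 LD2_c1 LD3_c5)) = (LP (LK LD1_c9 LD2_c40 LD3_c49)) :=
  Lgr Lrot119 (Lpr_ef (f363535 IH) (Lpr_bf (f363567 IH) (Lpr_ef (f310883 IH) (Lpn (LP (LK LD1_c9 LD2_c40 LD3_c49))))))
theorem f363573 : Led Lsl_bf (LP (LK LD1_c15 LD2_c1 LD3_c5)) = (LP (LK LD1_c9 LD2_c40 LD3_c49)) :=
  Lgr Lrot24 (Lpr_bt (f363571 IH) (Lpn (LP (LK LD1_c9 LD2_c40 LD3_c49))))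
theorem f187374 : Led Lsl_ct (LP (LK LD1_c9 LD2_c40 LD3_c49)) = (LP (LK LD1_c17 LD2_c48 LD3_c25)) :=
  Lre_c IH (LK LD1_c9 LD2_c40 LD3_c49) (LK LD1_c17 LD2_c48 LD3_c25) Lrfl Lrfl
theorem f363576 : Led Lsl_gt (LP (LK LD1_c9 LD2_c40 LD3_c53)) = (LP (LK LD1_c17 LD2_c48 LD3_c25)) :=
  Lgr Lrot65 (Lpr_cf (K24.f224765 IH) (Lpr_bt (K21.f329804 IH) (Lpe (K21.f329781 IH) (Lpe (f357559 IH) (Lpr_ct (f357561 IH) (Lpe (f359861 IH) (Lpe (f359835 IH) (Lpr_gf (f359838 IH) (Lpr_bf (f363573 IH) (Lpr_ct (f187374 IH) (Lpn (LP (LK LD1_c17 LD2_c48 LD3_c25)))))))))))))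
theorem f194466 : Led Lsl_at (LP (LK LD1_c5 LD2_c24 LD3_c29)) = (LP (LK LD1_c2 LD2_c38 LD3_c50)) :=
  Lre_a IH (LK LD1_c5 LD2_c24 LD3_c29) (LK LD1_c2 LD2_c38 LD3_c50) Lrfl Lrfl
theorem f194521 : Led Lsl_bt (LP (LK LD1_c2 LD2_c38 LD3_c50)) = (LP (LK LD1_c1 LD2_c16 LD3_c19)) :=
  Lre_b IH (LK LD1_c2 LD2_c38 LD3_c50) (LK LD1_c1 LD2_c16 LD3_c19) Lrfl Lrfl
theorem f329806 : Led Lsl_af (LP (LK LD1_c8 LD2_c2 LD3_c43)) = (LP (LK LD1_c5 LD2_c20 LD3_c49)) :=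
  Lgr Lrot36 (Lpr_bt (K21.f329804 IH) (Lpr_at (f194466 IH) (Lpr_bt (f194521 IH) (Lpe (K25.f318193 IH) (Lpr_bt (K18.f42235 IH) (Lpn (LP (LK LD1_c5 LD2_c20 LD3_c49))))))))
theorem f352614 : Led Lsl_gt (LP (LK LD1_c5 LD2_c32 LD3_c31)) = (LP (LK LD1_c8 LD2_c2 LD3_c43)) :=
  Lgr Lrot46 (Lpr_gf (K25.f352612 IH) (Lpr_ft (K24.f42230 IH) (Lpe (f329806 IH) (Lpn (LP (LK LD1_c8 LD2_c2 LD3_c43))))))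
theorem f211363 : Led Lsl_ct (LP (LK LD1_c4 LD2_c4 LD3_c1)) = (LP (LK LD1_c8 LD2_c8 LD3_c36)) :=
  Lre_c IH (LK LD1_c4 LD2_c4 LD3_c1) (LK LD1_c8 LD2_c8 LD3_c36) Lrfl Lrfl
theorem f350606 : Led Lsl_gt (LP (LK LD1_c8 LD2_c8 LD3_c36)) = (LP (LK LD1_c15 LD2_c20 LD3_c1)) :=
  Lre_g IH (LK LD1_c8 LD2_c8 LD3_c36) (LK LD1_c15 LD2_c20 LD3_c1) Lrfl Lrfl
theorem f310885 : Led Lsl_ct (LP (LK LD1_c17 LD2_c48 LD3_c25)) = (LP (LK LD1_c9 LD2_c40 LD3_c49)) :=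
  Lre_c IH (LK LD1_c17 LD2_c48 LD3_c25) (LK LD1_c9 LD2_c40 LD3_c49) Lrfl Lrfl
theorem f351904 : Led Lsl_ef (LP (LK LD1_c8 LD2_c13 LD3_c26)) = (LP (LK LD1_c11 LD2_c6 LD3_c5)) :=
  Lgr Lrot88 (Lpr_et (K25.f351900 IH) (Lpn (LP (LK LD1_c11 LD2_c6 LD3_c5))))
theorem f363537 : Led Lsl_dt (LP (LK LD1_c15 LD2_c1 LD3_c5)) = (LP (LK LD1_c9 LD2_c40 LD3_c49)) :=
  Lgr Lrot56 (Lpr_et (f363451 IH) (Lpr_gt (f355280 IH) (Lpe (K25.f320334 IH) (Lpr_dt (f351941 IH) (Lpr_gt (K25.f178240 IH) (Lpe (K25.f178236 IH) (Lpe (f351904 IH) (Lpr_gt (K25.f54552 IH) (Lpe (K12.f187362 IH) (Lpr_gt (f187373 IH) (Lpn (LP (LK LD1_c9 LD2_c40 LD3_c49)))))))))))))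
theorem f363595 : Led Lsl_ct (LP (LK LD1_c15 LD2_c20 LD3_c1)) = (LP (LK LD1_c15 LD2_c1 LD3_c5)) :=
  Lgr Lrot110 (Lpe (f350606 IH) (Lpe (f211363 IH) (Lpe (K25.f211379 IH) (Lpr_df (K25.f352588 IH) (Lpr_gt (f352614 IH) (Lpe (K24.f224765 IH) (Lpr_gt (f363576 IH) (Lpr_ct (f310885 IH) (Lpe (f363537 IH) (Lpn (LP (LK LD1_c15 LD2_c1 LD3_c5))))))))))))
theorem f169042 : Led Lsl_dt (LP (LK LD1_c21 LD2_c2 LD3_c9)) = (LP (LK LD1_c11 LD2_c57 LD3_c8)) :=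
  Lre_d IH (LK LD1_c21 LD2_c2 LD3_c9) (LK LD1_c11 LD2_c57 LD3_c8) Lrfl Lrfl
theorem f169041 : Led Lsl_ct (LP (LK LD1_c11 LD2_c57 LD3_c8)) = (LP (LK LD1_c6 LD2_c7 LD3_c7)) :=
  Lre_c IH (LK LD1_c11 LD2_c57 LD3_c8) (LK LD1_c6 LD2_c7 LD3_c7) Lrfl Lrfl
theorem f169049 : Led Lsl_et (LP (LK LD1_c9 LD2_c0 LD3_c2)) = (LP (LK LD1_c11 LD2_c57 LD3_c8)) :=
  Lgr Lrot158 (Lpe (K24.f167902 IH) (Lpr_ef (f169047 IH) (Lpe (f169041 IH) (Lpn (LP (LK LD1_c11 LD2_c57 LD3_c8))))))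
theorem f169053 : Led Lsl_ef (LP (LK LD1_c9 LD2_c0 LD3_c2)) = (LP (LK LD1_c11 LD2_c57 LD3_c8)) :=
  Lgr Lrot88 (Lpr_et (f169049 IH) (Lpn (LP (LK LD1_c11 LD2_c57 LD3_c8))))
theorem f169052 : Led Lsl_dt (LP (LK LD1_c11 LD2_c57 LD3_c8)) = (LP (LK LD1_c21 LD2_c2 LD3_c9)) :=
  Lre_d IH (LK LD1_c11 LD2_c57 LD3_c8) (LK LD1_c21 LD2_c2 LD3_c9) Lrfl Lrfl
theorem f276279 : Led Lsl_et (LP (LK LD1_c4 LD2_c27 LD3_c42)) = (LP (LK LD1_c8 LD2_c53 LD3_c17)) :=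
  Lre_e IH (LK LD1_c4 LD2_c27 LD3_c42) (LK LD1_c8 LD2_c53 LD3_c17) Lrfl Lrfl
theorem f196431 : Led Lsl_et (LP (LK LD1_c8 LD2_c8 LD3_c36)) = (LP (LK LD1_c4 LD2_c4 LD3_c0)) :=
  Lre_e IH (LK LD1_c8 LD2_c8 LD3_c36) (LK LD1_c4 LD2_c4 LD3_c0) Lrfl Lrfl
theorem f196432 : Led Lsl_dt (LP (LK LD1_c8 LD2_c8 LD3_c36)) = (LP (LK LD1_c15 LD2_c20 LD3_c2)) :=
  Lre_d IH (LK LD1_c8 LD2_c8 LD3_c36) (LK LD1_c15 LD2_c20 LD3_c2) Lrfl Lrfl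
theorem f350602 : Led Lsl_gt (LP (LK LD1_c21 LD2_c2 LD3_c9)) = (LP (LK LD1_c15 LD2_c20 LD3_c2)) :=
  Lgr Lrot112 (Lpe (f169052 IH) (Lpe (f169053 IH) (Lpr_gf (K24.f350593 IH) (Lpe (f276279 IH) (Lpr_dt (K20.f256790 IH) (Lpr_gf (K18.f278155 IH) (Lpe (K1.f41898 IH) (Lpe (K12.f196420 IH) (Lpe (f196431 IH) (Lpr_dt (f196432 IH) (Lpn (LP (LK LD1_c15 LD2_c20 LD3_c2)))))))))))))
theorem f290721 : Led Lsl_ft (LP (LK LD1_c24 LD2_c51 LD3_c48)) = (LP (LK LD1_c15 LD2_c2 LD3_c47)) :=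
  Lre_f IH (LK LD1_c24 LD2_c51 LD3_c48) (LK LD1_c15 LD2_c2 LD3_c47) Lrfl Lrfl
theorem f350604 : Led Lsl_gf (LP (LK LD1_c21 LD2_c2 LD3_c9)) = (LP (LK LD1_c24 LD2_c51 LD3_c48)) :=
  Lgr Lrot47 (Lpr_gt (f350602 IH) (Lpr_af (K17.f290709 IH) (Lpe (f290721 IH) (Lpn (LP (LK LD1_c24 LD2_c51 LD3_c48))))))
theorem f290753 : Led Lsl_dt (LP (LK LD1_c15 LD2_c2 LD3_c48)) = (LP (LK LD1_c24 LD2_c51 LD3_c48)) :=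
  Lre_d IH (LK LD1_c15 LD2_c2 LD3_c48) (LK LD1_c24 LD2_c51 LD3_c48) Lrfl Lrfl
theorem f363605 : Led Lsl_gt (LP (LK LD1_c15 LD2_c20 LD3_c1)) = (LP (LK LD1_c15 LD2_c2 LD3_c48)) :=
  Lgr Lrot180 (Lpr_ct (f363595 IH) (Lpe (f359838 IH) (Lpr_dt (f363433 IH) (Lpr_gt (f169038 IH) (Lpr_dt (f169014 IH) (Lpr_ct (K24.f169055 IH) (Lpe (f169042 IH) (Lpr_gf (f350604 IH) (Lpe (f290753 IH) (Lpn (LP (LK LD1_c15 LD2_c2 LD3_c48))))))))))))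
theorem f363600 : Led Lsl_cf (LP (LK LD1_c15 LD2_c20 LD3_c1)) = (LP (LK LD1_c15 LD2_c1 LD3_c5)) :=
  Lgr Lrot11 (Lpr_ct (f363595 IH) (Lpn (LP (LK LD1_c15 LD2_c1 LD3_c5))))
theorem f223989 : Led Lsl_bf (LP (LK LD1_c7 LD2_c57 LD3_c44)) = (LP (LK LD1_c5 LD2_c25 LD3_c7)) :=
  Lgr Lrot61 (Lpr_ft (f223962 IH) (Lpr_bt (f223983 IH) (Lpr_ft (f223924 IH) (Lpn (LP (LK LD1_c5 LD2_c25 LD3_c7))))))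
theorem f223940 : Led Lsl_ct (LP (LK LD1_c5 LD2_c25 LD3_c7)) = (LP (LK LD1_c2 LD2_c39 LD3_c4)) :=
  Lre_c IH (LK LD1_c5 LD2_c25 LD3_c7) (LK LD1_c2 LD2_c39 LD3_c4) Lrfl Lrfl
theorem f336005 : Led Lsl_gt (LP (LK LD1_c8 LD2_c53 LD3_c0)) = (LP (LK LD1_c4 LD2_c28 LD3_c19)) :=
  Lgr Lrot131 (Lpr_ef (K22.f276497 IH) (Lpe (K18.f293966 IH) (Lpe (K18.f184624 IH) (Lpe (K18.f184643 IH) (Lpe (K21.f255885 IH) (Lpe (K21.f325620 IH) (Lpr_dt (K21.f278983 IH) (Lpr_gf (K21.f325624 IH) (Lpe (K21.f274555 IH) (Lpr_et (K22.f335998 IH) (Lpn (LP (LK LD1_c4 LD2_c28 LD3_c19)))))))))))))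
theorem f348541 : Led Lsl_bt (LP (LK LD1_c2 LD2_c38 LD3_c56)) = (LP (LK LD1_c4 LD2_c28 LD3_c19)) :=
  Lgr Lrot119 (Lpe (K22.f335976 IH) (Lpr_bf (K23.f348534 IH) (Lpr_ef (K22.f335980 IH) (Lpn (LP (LK LD1_c4 LD2_c28 LD3_c19))))))
theorem f44693 : Led Lsl_ct (LP (LK LD1_c2 LD2_c38 LD3_c56)) = (LP (LK LD1_c5 LD2_c24 LD3_c46)) :=
  Lre_c IH (LK LD1_c2 LD2_c38 LD3_c56) (LK LD1_c5 LD2_c24 LD3_c46) Lrfl Lrfl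
theorem f363613 : Led Lsl_gf (LP (LK LD1_c2 LD2_c39 LD3_c4)) = (LP (LK LD1_c5 LD2_c24 LD3_c46)) :=
  Lgr Lrot126 (Lpe (f223940 IH) (Lpe (f223989 IH) (Lpr_gt (f223968 IH) (Lpe (f363600 IH) (Lpr_gt (f363605 IH) (Lpe (K17.f290747 IH) (Lpe (K18.f303566 IH) (Lpr_gt (f336005 IH) (Lpe (f348541 IH) (Lpr_ct (f44693 IH) (Lpn (LP (LK LD1_c5 LD2_c24 LD3_c46)))))))))))))
theorem f223919 : Led Lsl_ct (LP (LK LD1_c2 LD2_c39 LD3_c4)) = (LP (LK LD1_c5 LD2_c25 LD3_c7)) :=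
  Lre_c IH (LK LD1_c2 LD2_c39 LD3_c4) (LK LD1_c5 LD2_c25 LD3_c7) Lrfl Lrfl
theorem f44666 : Led Lsl_ct (LP (LK LD1_c5 LD2_c24 LD3_c48)) = (LP (LK LD1_c10 LD2_c40 LD3_c12)) :=
  Lre_c IH (LK LD1_c5 LD2_c24 LD3_c48) (LK LD1_c10 LD2_c40 LD3_c12) Lrfl Lrfl
theorem f363650 : Led Lsl_gf (LP (LK LD1_c15 LD2_c24 LD3_c31)) = (LP (LK LD1_c10 LD2_c40 LD3_c12)) :=
  Lgr Lrot104 (Lpr_ct (f223930 IH) (Lpe (K15.f223913 IH) (Lpe (f223919 IH) (Lpr_gf (f363613 IH) (Lpe (f44693 IH) (Lpe (K22.f335969 IH) (Lpr_df (K20.f42192 IH) (Lpr_gt (f318197 IH) (Lpr_ct (f44666 IH) (Lpn (LP (LK LD1_c10 LD2_c40 LD3_c12))))))))))))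
theorem f318199 : Led Lsl_ct (LP (LK LD1_c10 LD2_c33 LD3_c32)) = (LP (LK LD1_c5 LD2_c21 LD3_c36)) :=
  Lre_c IH (LK LD1_c10 LD2_c33 LD3_c32) (LK LD1_c5 LD2_c21 LD3_c36) Lrfl Lrfl
theorem f44669 : Led Lsl_ct (LP (LK LD1_c10 LD2_c40 LD3_c12)) = (LP (LK LD1_c5 LD2_c24 LD3_c48)) :=
  Lre_c IH (LK LD1_c10 LD2_c40 LD3_c12) (LK LD1_c5 LD2_c24 LD3_c48) Lrfl Lrfl
theorem f360005 : Led Lsl_gf (LP (LK LD1_c10 LD2_c40 LD3_c12)) = (LP (LK LD1_c19 LD2_c19 LD3_c14)) :=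
  Lgr Lrot104 (Lpr_ct (f44669 IH) (Lpe (f44665 IH) (Lpe (f318199 IH) (Lpe (K25.f356298 IH) (Lpe (K25.f223225 IH) (Lpe (K25.f352258 IH) (Lpr_df (K25.f352252 IH) (Lpr_gt (f359968 IH) (Lpr_ct (f359996 IH) (Lpn (LP (LK LD1_c19 LD2_c19 LD3_c14))))))))))))
theorem f363654 : Led Lsl_af (LP (LK LD1_c15 LD2_c24 LD3_c31)) = (LP (LK LD1_c15 LD2_c27 LD3_c48)) :=
  Lgr Lrot31 (Lpr_gf (f363650 IH) (Lpr_gf (f360005 IH) (Lpe (f360003 IH) (Lpn (LP (LK LD1_c15 LD2_c27 LD3_c48))))))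
theorem f265263 : Led Lsl_et (LP (LK LD1_c15 LD2_c24 LD3_c31)) = (LP (LK LD1_c8 LD2_c11 LD3_c1)) :=
  Lre_e IH (LK LD1_c15 LD2_c24 LD3_c31) (LK LD1_c8 LD2_c11 LD3_c1) Lrfl Lrfl
theorem f363656 : Led Lsl_at (LP (LK LD1_c8 LD2_c11 LD3_c1)) = (LP (LK LD1_c8 LD2_c13 LD3_c15)) :=
  Lgr Lrot80 (Lpe (f265263 IH) (Lpr_af (f363654 IH) (Lpe (f274180 IH) (Lpn (LP (LK LD1_c8 LD2_c13 LD3_c15))))))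
theorem f363662 : Led Lsl_ff (LP (LK LD1_c8 LD2_c11 LD3_c1)) = (LP (LK LD1_c8 LD2_c13 LD3_c31)) :=
  Lgr Lrot52 (Lpr_at (f363656 IH) (Lpr_gf (K16.f252609 IH) (Lpr_gf (K15.f259590 IH) (Lpn (LP (LK LD1_c8 LD2_c13 LD3_c31))))))
theorem f363670 : Led Lsl_ft (LP (LK LD1_c8 LD2_c11 LD3_c1)) = (LP (LK LD1_c8 LD2_c13 LD3_c31)) :=
  Lgr Lrot48 (Lpr_ff (f363662 IH) (Lpn (LP (LK LD1_c8 LD2_c13 LD3_c31))))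
theorem f363678 : Led Lsl_af (LP (LK LD1_c10 LD2_c3 LD3_c32)) = (LP (LK LD1_c8 LD2_c13 LD3_c31)) :=
  Lgr Lrot31 (Lpe (K15.f166144 IH) (Lpr_gf (K15.f264061 IH) (Lpr_ft (f363670 IH) (Lpn (LP (LK LD1_c8 LD2_c13 LD3_c31))))))
theorem f363658 : Led Lsl_af (LP (LK LD1_c8 LD2_c11 LD3_c1)) = (LP (LK LD1_c8 LD2_c13 LD3_c15)) :=
  Lgr Lrot0 (Lpr_at (f363656 IH) (Lpn (LP (LK LD1_c8 LD2_c13 LD3_c15))))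
theorem f363688 : Led Lsl_ft (LP (LK LD1_c10 LD2_c3 LD3_c32)) = (LP (LK LD1_c8 LD2_c13 LD3_c15)) :=
  Lgr Lrot101 (Lpr_af (f363678 IH) (Lpe (f363670 IH) (Lpr_af (f363658 IH) (Lpn (LP (LK LD1_c8 LD2_c13 LD3_c15))))))
theorem f363694 : Led Lsl_ff (LP (LK LD1_c10 LD2_c3 LD3_c32)) = (LP (LK LD1_c8 LD2_c13 LD3_c15)) :=
  Lgr Lrot3 (Lpr_ft (f363688 IH) (Lpn (LP (LK LD1_c8 LD2_c13 LD3_c15))))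
theorem f363698 : Led Lsl_ft (LP (LK LD1_c11 LD2_c52 LD3_c36)) = (LP (LK LD1_c6 LD2_c5 LD3_c20)) :=
  Lgr Lrot54 (Lpr_df (K15.f264866 IH) (Lpr_ff (f363694 IH) (Lpr_df (K16.f192257 IH) (Lpn (LP (LK LD1_c6 LD2_c5 LD3_c20))))))
theorem f195316 : Led Lsl_et (LP (LK LD1_c20 LD2_c55 LD3_c43)) = (LP (LK LD1_c11 LD2_c52 LD3_c36)) :=
  Lre_e IH (LK LD1_c20 LD2_c55 LD3_c43) (LK LD1_c11 LD2_c52 LD3_c36) Lrfl Lrfl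
theorem f265133 : Led Lsl_ft (LP (LK LD1_c29 LD2_c44 LD3_c43)) = (LP (LK LD1_c20 LD2_c55 LD3_c43)) :=
  Lre_f IH (LK LD1_c29 LD2_c44 LD3_c43) (LK LD1_c20 LD2_c55 LD3_c43) Lrfl Lrfl
theorem f252617 : Led Lsl_et (LP (LK LD1_c6 LD2_c5 LD3_c20)) = (LP (LK LD1_c11 LD2_c54 LD3_c14)) :=
  Lre_e IH (LK LD1_c6 LD2_c5 LD3_c20) (LK LD1_c11 LD2_c54 LD3_c14) Lrfl Lrfl
theorem f274158 : Led Lsl_ft (LP (LK LD1_c11 LD2_c54 LD3_c14)) = (LP (LK LD1_c20 LD2_c58 LD3_c25)) :=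
  Lre_f IH (LK LD1_c11 LD2_c54 LD3_c14) (LK LD1_c20 LD2_c58 LD3_c25) Lrfl Lrfl
theorem f363704 : Led Lsl_ef (LP (LK LD1_c29 LD2_c44 LD3_c43)) = (LP (LK LD1_c20 LD2_c58 LD3_c25)) :=
  Lgr Lrot21 (Lpr_ft (f265133 IH) (Lpr_et (f195316 IH) (Lpr_ft (f363698 IH) (Lpr_et (f252617 IH) (Lpr_ft (f274158 IH) (Lpn (LP (LK LD1_c20 LD2_c58 LD3_c25))))))))
theorem f363708 : Led Lsl_et (LP (LK LD1_c29 LD2_c44 LD3_c43)) = (LP (LK LD1_c20 LD2_c58 LD3_c25)) :=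
  Lgr Lrot87 (Lpr_ef (f363704 IH) (Lpn (LP (LK LD1_c20 LD2_c58 LD3_c25))))
theorem f217579 : Led Lsl_et (LP (LK LD1_c15 LD2_c27 LD3_c27)) = (LP (LK LD1_c25 LD2_c19 LD3_c7)) :=
  Lre_e IH (LK LD1_c15 LD2_c27 LD3_c27) (LK LD1_c25 LD2_c19 LD3_c7) Lrfl Lrfl
theorem f265123 : Led Lsl_ct (LP (LK LD1_c25 LD2_c19 LD3_c7)) = (LP (LK LD1_c20 LD2_c55 LD3_c43)) :=
  Lgr Lrot15 (Lpe (f217579 IH) (Lpr_cf (K15.f265119 IH) (Lpe (f195316 IH) (Lpn (LP (LK LD1_c20 LD2_c55 LD3_c43))))))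
theorem f217580 : Led Lsl_ft (LP (LK LD1_c31 LD2_c50 LD3_c39)) = (LP (LK LD1_c25 LD2_c19 LD3_c7)) :=
  Lre_f IH (LK LD1_c31 LD2_c50 LD3_c39) (LK LD1_c25 LD2_c19 LD3_c7) Lrfl Lrfl
theorem f265128 : Led Lsl_ft (LP (LK LD1_c20 LD2_c55 LD3_c43)) = (LP (LK LD1_c29 LD2_c44 LD3_c43)) :=
  Lre_f IH (LK LD1_c20 LD2_c55 LD3_c43) (LK LD1_c29 LD2_c44 LD3_c43) Lrfl Lrfl
theorem f265129 : Led Lsl_cf (LP (LK LD1_c31 LD2_c50 LD3_c39)) = (LP (LK LD1_c29 LD2_c44 LD3_c43)) :=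
  Lgr Lrot108 (Lpr_ft (f217580 IH) (Lpr_ct (f265123 IH) (Lpr_ft (f265128 IH) (Lpn (LP (LK LD1_c29 LD2_c44 LD3_c43))))))
theorem f265131 : Led Lsl_ct (LP (LK LD1_c31 LD2_c50 LD3_c39)) = (LP (LK LD1_c29 LD2_c44 LD3_c43)) :=
  Lgr Lrot59 (Lpr_cf (f265129 IH) (Lpn (LP (LK LD1_c29 LD2_c44 LD3_c43))))
theorem f266688 : Led Lsl_et (LP (LK LD1_c8 LD2_c13 LD3_c34)) = (LP (LK LD1_c15 LD2_c28 LD3_c22)) :=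
  Lre_e IH (LK LD1_c8 LD2_c13 LD3_c34) (LK LD1_c15 LD2_c28 LD3_c22) Lrfl Lrfl
theorem f195323 : Led Lsl_et (LP (LK LD1_c11 LD2_c54 LD3_c14)) = (LP (LK LD1_c6 LD2_c5 LD3_c20)) :=
  Lre_e IH (LK LD1_c11 LD2_c54 LD3_c14) (LK LD1_c6 LD2_c5 LD3_c20) Lrfl Lrfl
theorem f274132 : Led Lsl_ct (LP (LK LD1_c15 LD2_c28 LD3_c22)) = (LP (LK LD1_c11 LD2_c54 LD3_c14)) :=
  Lgr Lrot15 (Lpe (f266688 IH) (Lpr_cf (K16.f274123 IH) (Lpe (f195323 IH) (Lpn (LP (LK LD1_c11 LD2_c54 LD3_c14))))))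
theorem f274157 : Led Lsl_ft (LP (LK LD1_c25 LD2_c20 LD3_c28)) = (LP (LK LD1_c15 LD2_c28 LD3_c22)) :=
  Lre_f IH (LK LD1_c25 LD2_c20 LD3_c28) (LK LD1_c15 LD2_c28 LD3_c22) Lrfl Lrfl
theorem f274159 : Led Lsl_cf (LP (LK LD1_c25 LD2_c20 LD3_c28)) = (LP (LK LD1_c20 LD2_c58 LD3_c25)) :=
  Lgr Lrot108 (Lpr_ft (f274157 IH) (Lpr_ct (f274132 IH) (Lpr_ft (f274158 IH) (Lpn (LP (LK LD1_c20 LD2_c58 LD3_c25))))))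
theorem f363710 : Led Lsl_ef (LP (LK LD1_c31 LD2_c50 LD3_c39)) = (LP (LK LD1_c25 LD2_c20 LD3_c28)) :=
  Lgr Lrot28 (Lpr_ct (f265131 IH) (Lpr_et (f363708 IH) (Lpe (f274159 IH) (Lpn (LP (LK LD1_c25 LD2_c20 LD3_c28))))))
theorem f216118 : Led Lsl_et (LP (LK LD1_c25 LD2_c19 LD3_c7)) = (LP (LK LD1_c15 LD2_c27 LD3_c27)) :=
  Lre_e IH (LK LD1_c25 LD2_c19 LD3_c7) (LK LD1_c15 LD2_c27 LD3_c27) Lrfl Lrfl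
theorem f274171 : Led Lsl_ft (LP (LK LD1_c15 LD2_c28 LD3_c22)) = (LP (LK LD1_c25 LD2_c20 LD3_c28)) :=
  Lre_f IH (LK LD1_c15 LD2_c28 LD3_c22) (LK LD1_c25 LD2_c20 LD3_c28) Lrfl Lrfl
theorem f363712 : Led Lsl_ft (LP (LK LD1_c15 LD2_c27 LD3_c27)) = (LP (LK LD1_c8 LD2_c13 LD3_c34)) :=
  Lgr Lrot86 (Lpe (f216118 IH) (Lpe (f217580 IH) (Lpr_ef (f363710 IH) (Lpe (f274171 IH) (Lpe (f266688 IH) (Lpn (LP (LK LD1_c8 LD2_c13 LD3_c34))))))))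
theorem f363716 : Led Lsl_af (LP (LK LD1_c15 LD2_c27 LD3_c29)) = (LP (LK LD1_c8 LD2_c13 LD3_c34)) :=
  Lgr Lrot31 (Lpe (K15.f187983 IH) (Lpr_gf (K15.f263508 IH) (Lpr_ft (f363712 IH) (Lpn (LP (LK LD1_c8 LD2_c13 LD3_c34))))))
theorem f363722 : Led Lsl_at (LP (LK LD1_c8 LD2_c13 LD3_c3)) = (LP (LK LD1_c4 LD2_c6 LD3_c30)) :=
  Lgr Lrot51 (Lpe (K15.f187982 IH) (Lpr_af (f363716 IH) (Lpe (K16.f265087 IH) (Lpn (LP (LK LD1_c4 LD2_c6 LD3_c30))))))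
theorem f363767 : Led Lsl_ff (LP (LK LD1_c8 LD2_c13 LD3_c3)) = (LP (LK LD1_c4 LD2_c6 LD3_c24)) :=
  Lgr Lrot52 (Lpr_at (f363722 IH) (Lpr_gf (K15.f260381 IH) (Lpe (K15.f191961 IH) (Lpn (LP (LK LD1_c4 LD2_c6 LD3_c24))))))
theorem f363778 : Led Lsl_ft (LP (LK LD1_c8 LD2_c13 LD3_c3)) = (LP (LK LD1_c4 LD2_c6 LD3_c24)) :=
  Lgr Lrot48 (Lpr_ff (f363767 IH) (Lpn (LP (LK LD1_c4 LD2_c6 LD3_c24))))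
theorem f265011 : Led Lsl_gt (LP (LK LD1_c8 LD2_c13 LD3_c3)) = (LP (LK LD1_c10 LD2_c35 LD3_c44)) :=
  Lgr Lrot65 (Lpe (K15.f175308 IH) (Lpe (K15.f254236 IH) (Lpr_gf (K15.f265004 IH) (Lpe (K15.f256451 IH) (Lpe (K15.f264983 IH) (Lpe (K15.f215458 IH) (Lpe (K15.f166138 IH) (Lpe (K15.f190967 IH) (Lpr_bf (K15.f263240 IH) (Lpr_ct (K15.f257993 IH) (Lpn (LP (LK LD1_c10 LD2_c35 LD3_c44)))))))))))))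
theorem f363787 : Led Lsl_af (LP (LK LD1_c8 LD2_c13 LD3_c2)) = (LP (LK LD1_c4 LD2_c6 LD3_c24)) :=
  Lgr Lrot31 (Lpe (K15.f263482 IH) (Lpe (f265011 IH) (Lpr_ft (f363778 IH) (Lpn (LP (LK LD1_c4 LD2_c6 LD3_c24))))))
theorem f363758 : Led Lsl_af (LP (LK LD1_c8 LD2_c13 LD3_c3)) = (LP (LK LD1_c4 LD2_c6 LD3_c30)) :=
  Lgr Lrot0 (Lpr_at (f363722 IH) (Lpn (LP (LK LD1_c4 LD2_c6 LD3_c30))))
theorem f363797 : Led Lsl_ft (LP (LK LD1_c8 LD2_c13 LD3_c2)) = (LP (LK LD1_c4 LD2_c6 LD3_c30)) :=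
  Lgr Lrot101 (Lpr_af (f363787 IH) (Lpe (f363778 IH) (Lpr_af (f363758 IH) (Lpn (LP (LK LD1_c4 LD2_c6 LD3_c30))))))
theorem f363801 : Led Lsl_ff (LP (LK LD1_c4 LD2_c6 LD3_c12)) = (LP (LK LD1_c2 LD2_c0 LD3_c35)) :=
  Lgr Lrot23 (Lpr_ct (K15.f182212 IH) (Lpr_ft (f363797 IH) (Lpr_ct (K15.f187770 IH) (Lpn (LP (LK LD1_c2 LD2_c0 LD3_c35))))))
theorem f363809 : Led Lsl_ft (LP (LK LD1_c4 LD2_c6 LD3_c12)) = (LP (LK LD1_c2 LD2_c0 LD3_c35)) :=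
  Lgr Lrot48 (Lpr_ff (f363801 IH) (Lpn (LP (LK LD1_c2 LD2_c0 LD3_c35))))
theorem f363815 : Led Lsl_ff (LP (LK LD1_c2 LD2_c0 LD3_c25)) = (LP (LK LD1_c0 LD2_c57 LD3_c15)) :=
  Lgr Lrot19 (Lpr_dt (K10.f182211 IH) (Lpr_ft (f363809 IH) (Lpr_dt (K14.f54975 IH) (Lpn (LP (LK LD1_c0 LD2_c57 LD3_c15))))))
theorem f363819 : Led Lsl_at (LP (LK LD1_c2 LD2_c0 LD3_c25)) = (LP (LK LD1_c0 LD2_c57 LD3_c14)) :=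
  Lgr Lrot26 (Lpr_ff (f363815 IH) (Lpr_gt (K10.f54974 IH) (Lpr_gt (K9.f54977 IH) (Lpn (LP (LK LD1_c0 LD2_c57 LD3_c14))))))
theorem f363825 : Led Lsl_af (LP (LK LD1_c2 LD2_c3 LD3_c53)) = (LP (LK LD1_c2 LD2_c0 LD3_c32)) :=
  Lgr Lrot50 (Lpe (K18.f300733 IH) (Lpr_at (f363819 IH) (Lpr_et (K12.f187349 IH) (Lpn (LP (LK LD1_c2 LD2_c0 LD3_c32))))))
theorem f363833 : Led Lsl_ft (LP (LK LD1_c2 LD2_c3 LD3_c52)) = (LP (LK LD1_c2 LD2_c0 LD3_c32)) :=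
  Lgr Lrot2 (Lpr_gt (K14.f246296 IH) (Lpr_gt (K18.f253921 IH) (Lpr_af (f363825 IH) (Lpn (LP (LK LD1_c2 LD2_c0 LD3_c32))))))
theorem f363841 : Led Lsl_ff (LP (LK LD1_c2 LD2_c3 LD3_c52)) = (LP (LK LD1_c2 LD2_c0 LD3_c32)) :=
  Lgr Lrot3 (Lpr_ft (f363833 IH) (Lpn (LP (LK LD1_c2 LD2_c0 LD3_c32))))
theorem f363849 : Led Lsl_at (LP (LK LD1_c2 LD2_c3 LD3_c52)) = (LP (LK LD1_c4 LD2_c12 LD3_c60)) :=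
  Lgr Lrot26 (Lpr_ff (f363841 IH) (Lpr_gt (K14.f250474 IH) (Lpr_gt (K20.f252103 IH) (Lpn (LP (LK LD1_c4 LD2_c12 LD3_c60))))))
theorem f363827 : Led Lsl_at (LP (LK LD1_c2 LD2_c3 LD3_c53)) = (LP (LK LD1_c2 LD2_c0 LD3_c32)) :=
  Lgr Lrot100 (Lpr_af (f363825 IH) (Lpn (LP (LK LD1_c2 LD2_c0 LD3_c32))))
theorem f363859 : Led Lsl_ff (LP (LK LD1_c2 LD2_c3 LD3_c53)) = (LP (LK LD1_c4 LD2_c12 LD3_c60)) :=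
  Lgr Lrot30 (Lpr_at (f363827 IH) (Lpe (f363841 IH) (Lpr_at (f363849 IH) (Lpn (LP (LK LD1_c4 LD2_c12 LD3_c60))))))
theorem f363867 : Led Lsl_ft (LP (LK LD1_c2 LD2_c3 LD3_c53)) = (LP (LK LD1_c4 LD2_c12 LD3_c60)) :=
  Lgr Lrot48 (Lpr_ff (f363859 IH) (Lpn (LP (LK LD1_c4 LD2_c12 LD3_c60))))
theorem f363875 : Led Lsl_ff (LP (LK LD1_c2 LD2_c0 LD3_c36)) = (LP (LK LD1_c2 LD2_c6 LD3_c44)) :=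
  Lgr Lrot72 (Lpr_et (K15.f47860 IH) (Lpe (f363815 IH) (Lpr_et (K18.f300731 IH) (Lpr_ft (f363867 IH) (Lpr_et (K15.f265044 IH) (Lpn (LP (LK LD1_c2 LD2_c6 LD3_c44))))))))
theorem f363883 : Led Lsl_at (LP (LK LD1_c2 LD2_c0 LD3_c36)) = (LP (LK LD1_c2 LD2_c6 LD3_c43)) :=
  Lgr Lrot26 (Lpr_ff (f363875 IH) (Lpr_gt (K12.f171472 IH) (Lpr_gt (K14.f31684 IH) (Lpn (LP (LK LD1_c2 LD2_c6 LD3_c43))))))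
theorem f363891 : Led Lsl_af (LP (LK LD1_c0 LD2_c57 LD3_c15)) = (LP (LK LD1_c2 LD2_c0 LD3_c26)) :=
  Lgr Lrot50 (Lpr_et (K14.f248026 IH) (Lpr_at (f363883 IH) (Lpe (K14.f251669 IH) (Lpn (LP (LK LD1_c2 LD2_c0 LD3_c26))))))
theorem f363897 : Led Lsl_ft (LP (LK LD1_c0 LD2_c57 LD3_c14)) = (LP (LK LD1_c2 LD2_c0 LD3_c26)) :=
  Lgr Lrot101 (Lpe (f363819 IH) (Lpr_ff (f363815 IH) (Lpr_af (f363891 IH) (Lpn (LP (LK LD1_c2 LD2_c0 LD3_c26))))))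
theorem f363905 : Led Lsl_ff (LP (LK LD1_c0 LD2_c57 LD3_c14)) = (LP (LK LD1_c2 LD2_c0 LD3_c26)) :=
  Lgr Lrot3 (Lpr_ft (f363897 IH) (Lpn (LP (LK LD1_c2 LD2_c0 LD3_c26))))
theorem f363911 : Led Lsl_ft (LP (LK LD1_c4 LD2_c13 LD3_c15)) = (LP (LK LD1_c2 LD2_c6 LD3_c43)) :=
  Lgr Lrot86 (Lpe (K14.f246638 IH) (Lpr_ff (f363841 IH) (Lpe (K12.f187349 IH) (Lpr_ff (f363905 IH) (Lpr_ef (K14.f251669 IH) (Lpn (LP (LK LD1_c2 LD2_c6 LD3_c43))))))))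
theorem f363917 : Led Lsl_ff (LP (LK LD1_c2 LD2_c32 LD3_c6)) = (LP (LK LD1_c2 LD2_c28 LD3_c40)) :=
  Lgr Lrot19 (Lpr_dt (K14.f251307 IH) (Lpr_ft (f363911 IH) (Lpe (K14.f251626 IH) (Lpn (LP (LK LD1_c2 LD2_c28 LD3_c40))))))
theorem f363925 : Led Lsl_at (LP (LK LD1_c2 LD2_c32 LD3_c6)) = (LP (LK LD1_c2 LD2_c28 LD3_c41)) :=
  Lgr Lrot26 (Lpr_ff (f363917 IH) (Lpe (K14.f193130 IH) (Lpr_gt (K15.f257086 IH) (Lpn (LP (LK LD1_c2 LD2_c28 LD3_c41))))))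
theorem f363931 : Led Lsl_af (LP (LK LD1_c4 LD2_c55 LD3_c23)) = (LP (LK LD1_c5 LD2_c2 LD3_c8)) :=
  Lgr Lrot50 (Lpe (K14.f251315 IH) (Lpr_at (f363925 IH) (Lpr_et (K15.f257600 IH) (Lpn (LP (LK LD1_c5 LD2_c2 LD3_c8))))))
theorem f257679 : Led Lsl_ft (LP (LK LD1_c9 LD2_c55 LD3_c0)) = (LP (LK LD1_c5 LD2_c2 LD3_c8)) :=
  Lre_f IH (LK LD1_c9 LD2_c55 LD3_c0) (LK LD1_c5 LD2_c2 LD3_c8) Lrfl Lrfl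
theorem f363941 : Led Lsl_gf (LP (LK LD1_c5 LD2_c3 LD3_c0)) = (LP (LK LD1_c9 LD2_c55 LD3_c0)) :=
  Lgr Lrot47 (Lpe (K19.f284007 IH) (Lpr_af (f363931 IH) (Lpe (f257679 IH) (Lpn (LP (LK LD1_c9 LD2_c55 LD3_c0))))))
theorem f307103 : Led Lsl_af (LP (LK LD1_c9 LD2_c1 LD3_c13)) = (LP (LK LD1_c4 LD2_c55 LD3_c15)) :=
  Lgr Lrot31 (Lpe (K21.f307066 IH) (Lpr_gf (K19.f307097 IH) (Lpr_ft (f307102 IH) (Lpn (LP (LK LD1_c4 LD2_c55 LD3_c15))))))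
theorem f329447 : Led Lsl_dt (LP (LK LD1_c9 LD2_c1 LD3_c13)) = (LP (LK LD1_c8 LD2_c36 LD3_c8)) :=
  Lgr Lrot44 (Lpr_af (f307103 IH) (Lpe (K21.f310866 IH) (Lpr_af (K21.f329443 IH) (Lpn (LP (LK LD1_c8 LD2_c36 LD3_c8))))))
theorem f330996 : Led Lsl_et (LP (LK LD1_c4 LD2_c55 LD3_c1)) = (LP (LK LD1_c9 LD2_c1 LD3_c13)) :=
  Lgr Lrot71 (Lpe (K25.f213948 IH) (Lpe (K21.f325160 IH) (Lpe (K21.f330941 IH) (Lpr_ef (K21.f330989 IH) (Lpe (f329447 IH) (Lpn (LP (LK LD1_c9 LD2_c1 LD3_c13))))))))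
theorem f201155 : Led Lsl_ft (LP (LK LD1_c4 LD2_c54 LD3_c35)) = (LP (LK LD1_c9 LD2_c40 LD3_c46)) :=
  Lre_f IH (LK LD1_c4 LD2_c54 LD3_c35) (LK LD1_c9 LD2_c40 LD3_c46) Lrfl Lrfl
theorem f259611 : Led Lsl_dt (LP (LK LD1_c9 LD2_c40 LD3_c46)) = (LP (LK LD1_c9 LD2_c55 LD3_c0)) :=
  Lgr Lrot60 (Lpe (f201155 IH) (Lpr_df (K15.f259607 IH) (Lpe (f257679 IH) (Lpn (LP (LK LD1_c9 LD2_c55 LD3_c0))))))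
theorem f363947 : Led Lsl_gt (LP (LK LD1_c4 LD2_c55 LD3_c21)) = (LP (LK LD1_c9 LD2_c40 LD3_c46)) :=
  Lgr Lrot137 (Lpe (K25.f351835 IH) (Lpr_dt (K25.f351822 IH) (Lpr_gf (K25.f325035 IH) (Lpe (K13.f213955 IH) (Lpr_et (f330996 IH) (Lpe (K21.f307066 IH) (Lpe (K19.f307065 IH) (Lpr_dt (K19.f307073 IH) (Lpr_gf (f363941 IH) (Lpe (f259611 IH) (Lpn (LP (LK LD1_c9 LD2_c40 LD3_c46)))))))))))))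
theorem f325581 : Led Lsl_gt (LP (LK LD1_c9 LD2_c42 LD3_c19)) = (LP (LK LD1_c17 LD2_c51 LD3_c0)) :=
  Lre_g IH (LK LD1_c9 LD2_c42 LD3_c19) (LK LD1_c17 LD2_c51 LD3_c0) Lrfl Lrfl
theorem f325582 : Led Lsl_ct (LP (LK LD1_c17 LD2_c51 LD3_c0)) = (LP (LK LD1_c27 LD2_c37 LD3_c55)) :=
  Lre_c IH (LK LD1_c17 LD2_c51 LD3_c0) (LK LD1_c27 LD2_c37 LD3_c55) Lrfl Lrfl
theorem f218977 : Led Lsl_dt (LP (LK LD1_c15 LD2_c9 LD3_c9)) = (LP (LK LD1_c24 LD2_c58 LD3_c8)) :=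
  Lre_d IH (LK LD1_c15 LD2_c9 LD3_c9) (LK LD1_c24 LD2_c58 LD3_c8) Lrfl Lrfl
theorem f257784 : Led Lsl_gt (LP (LK LD1_c10 LD2_c24 LD3_c58)) = (LP (LK LD1_c18 LD2_c53 LD3_c48)) :=
  Lre_g IH (LK LD1_c10 LD2_c24 LD3_c58) (LK LD1_c18 LD2_c53 LD3_c48) Lrfl Lrfl
theorem f318110 : Led Lsl_et (LP (LK LD1_c10 LD2_c33 LD3_c1)) = (LP (LK LD1_c19 LD2_c6 LD3_c29)) :=
  Lre_e IH (LK LD1_c10 LD2_c33 LD3_c1) (LK LD1_c19 LD2_c6 LD3_c29) Lrfl Lrfl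
theorem f254220 : Led Lsl_dt (LP (LK LD1_c5 LD2_c10 LD3_c11)) = (LP (LK LD1_c10 LD2_c11 LD3_c7)) :=
  Lre_d IH (LK LD1_c5 LD2_c10 LD3_c11) (LK LD1_c10 LD2_c11 LD3_c7) Lrfl Lrfl
theorem f288438 : Led Lsl_gt (LP (LK LD1_c10 LD2_c11 LD3_c7)) = (LP (LK LD1_c18 LD2_c33 LD3_c20)) :=
  Lre_g IH (LK LD1_c10 LD2_c11 LD3_c7) (LK LD1_c18 LD2_c33 LD3_c20) Lrfl Lrfl
theorem f288448 : Led Lsl_dt (LP (LK LD1_c28 LD2_c7 LD3_c45)) = (LP (LK LD1_c18 LD2_c33 LD3_c20)) :=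
  Lre_d IH (LK LD1_c28 LD2_c7 LD3_c45) (LK LD1_c18 LD2_c33 LD3_c20) Lrfl Lrfl
theorem f288449 : Led Lsl_ef (LP (LK LD1_c18 LD2_c34 LD3_c2)) = (LP (LK LD1_c28 LD2_c7 LD3_c45)) :=
  Lgr Lrot114 (Lpr_gt (K23.f249038 IH) (Lpe (K14.f249695 IH) (Lpr_dt (K14.f249083 IH) (Lpe (K22.f249714 IH) (Lpe (K17.f288406 IH) (Lpr_et (K22.f165544 IH) (Lpr_gt (K22.f288436 IH) (Lpr_dt (f254220 IH) (Lpr_gt (f288438 IH) (Lpe (f288448 IH) (Lpn (LP (LK LD1_c28 LD2_c7 LD3_c45)))))))))))))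
theorem f340242 : Led Lsl_ct (LP (LK LD1_c19 LD2_c6 LD3_c29)) = (LP (LK LD1_c28 LD2_c7 LD3_c45)) :=
  Lgr Lrot15 (Lpe (f318110 IH) (Lpr_cf (K23.f340240 IH) (Lpr_ef (f288449 IH) (Lpn (LP (LK LD1_c28 LD2_c7 LD3_c45))))))
theorem f288439 : Led Lsl_dt (LP (LK LD1_c18 LD2_c33 LD3_c20)) = (LP (LK LD1_c28 LD2_c7 LD3_c45)) :=
  Lre_d IH (LK LD1_c18 LD2_c33 LD3_c20) (LK LD1_c28 LD2_c7 LD3_c45) Lrfl Lrfl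
theorem f340246 : Led Lsl_df (LP (LK LD1_c19 LD2_c6 LD3_c29)) = (LP (LK LD1_c18 LD2_c53 LD3_c48)) :=
  Lgr Lrot174 (Lpr_ct (f340242 IH) (Lpe (f288439 IH) (Lpe (f288438 IH) (Lpe (f254220 IH) (Lpe (K22.f288436 IH) (Lpr_ct (K19.f294156 IH) (Lpr_gt (K16.f275630 IH) (Lpr_dt (K16.f246212 IH) (Lpr_gt (f257784 IH) (Lpn (LP (LK LD1_c18 LD2_c53 LD3_c48))))))))))))
theorem f346269 : Led Lsl_gf (LP (LK LD1_c24 LD2_c58 LD3_c8)) = (LP (LK LD1_c19 LD2_c6 LD3_c29)) :=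
  Lgr Lrot134 (Lpe (f218977 IH) (Lpr_et (K23.f346263 IH) (Lpr_gt (K23.f182838 IH) (Lpe (K17.f182912 IH) (Lpr_dt (K9.f171994 IH) (Lpr_gt (K16.f257038 IH) (Lpe (K15.f192299 IH) (Lpr_et (K18.f260291 IH) (Lpr_gt (f257784 IH) (Lpe (f340246 IH) (Lpn (LP (LK LD1_c19 LD2_c6 LD3_c29)))))))))))))
theorem f299766 : Led Lsl_dt (LP (LK LD1_c27 LD2_c33 LD3_c60)) = (LP (LK LD1_c17 LD2_c47 LD3_c5)) :=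
  Lre_d IH (LK LD1_c27 LD2_c33 LD3_c60) (LK LD1_c17 LD2_c47 LD3_c5) Lrfl Lrfl
theorem f306206 : Led Lsl_ef (LP (LK LD1_c10 LD2_c11 LD3_c6)) = (LP (LK LD1_c18 LD2_c31 LD3_c11)) :=
  Lgr Lrot17 (Lpe (K18.f185878 IH) (Lpe (K18.f248284 IH) (Lpr_dt (K14.f240491 IH) (Lpe (K14.f248276 IH) (Lpr_df (K14.f212337 IH) (Lpr_gf (K14.f248279 IH) (Lpe (K14.f248281 IH) (Lpr_dt (K19.f248282 IH) (Lpe (K19.f248283 IH) (Lpr_df (K19.f306194 IH) (Lpn (LP (LK LD1_c18 LD2_c31 LD3_c11)))))))))))))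
theorem f306208 : Led Lsl_at (LP (LK LD1_c10 LD2_c11 LD3_c6)) = (LP (LK LD1_c17 LD2_c47 LD3_c5)) :=
  Lgr Lrot80 (Lpr_ef (f306206 IH) (Lpe (K19.f306185 IH) (Lpr_ef (K22.f306080 IH) (Lpn (LP (LK LD1_c17 LD2_c47 LD3_c5))))))
theorem f306223 : Led Lsl_ff (LP (LK LD1_c10 LD2_c11 LD3_c6)) = (LP (LK LD1_c9 LD2_c56 LD3_c39)) :=
  Lgr Lrot30 (Lpr_at (f306208 IH) (Lpe (K19.f306082 IH) (Lpr_at (K18.f294144 IH) (Lpn (LP (LK LD1_c9 LD2_c56 LD3_c39))))))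
theorem f242400 : Led Lsl_cf (LP (LK LD1_c18 LD2_c39 LD3_c52)) = (LP (LK LD1_c18 LD2_c31 LD3_c11)) :=
  Lgr Lrot11 (Lpr_ct (K19.f242388 IH) (Lpn (LP (LK LD1_c18 LD2_c31 LD3_c11))))
theorem f304209 : Led Lsl_et (LP (LK LD1_c10 LD2_c11 LD3_c6)) = (LP (LK LD1_c18 LD2_c31 LD3_c11)) :=
  Lgr Lrot158 (Lpr_cf (K18.f304202 IH) (Lpe (K18.f304109 IH) (Lpr_cf (f242400 IH) (Lpn (LP (LK LD1_c18 LD2_c31 LD3_c11))))))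
theorem f306229 : Led Lsl_ft (LP (LK LD1_c5 LD2_c9 LD3_c38)) = (LP (LK LD1_c5 LD2_c2 LD3_c55)) :=
  Lgr Lrot86 (Lpe (K19.f242415 IH) (Lpe (K19.f242387 IH) (Lpe (f304209 IH) (Lpr_ff (f306223 IH) (Lpe (K18.f275236 IH) (Lpn (LP (LK LD1_c5 LD2_c2 LD3_c55))))))))
theorem f256373 : Led Lsl_df (LP (LK LD1_c5 LD2_c9 LD3_c38)) = (LP (LK LD1_c9 LD2_c58 LD3_c25)) :=
  Lgr Lrot162 (Lpe (K14.f242345 IH) (Lpe (K9.f183921 IH) (Lpe (K12.f45749 IH) (Lpr_gf (K12.f192129 IH) (Lpr_dt (K14.f242374 IH) (Lpr_gt (K14.f254457 IH) (Lpr_ct (K14.f215275 IH) (Lpr_gt (K14.f215280 IH) (Lpr_ct (K14.f256338 IH) (Lpn (LP (LK LD1_c9 LD2_c58 LD3_c25))))))))))))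
theorem f306233 : Led Lsl_ff (LP (LK LD1_c9 LD2_c58 LD3_c25)) = (LP (LK LD1_c9 LD2_c56 LD3_c38)) :=
  Lgr Lrot19 (Lpe (f256373 IH) (Lpr_ft (f306229 IH) (Lpr_dt (K17.f249546 IH) (Lpn (LP (LK LD1_c9 LD2_c56 LD3_c38))))))
theorem f306241 : Led Lsl_ft (LP (LK LD1_c9 LD2_c58 LD3_c25)) = (LP (LK LD1_c9 LD2_c56 LD3_c38)) :=
  Lgr Lrot48 (Lpr_ff (f306233 IH) (Lpn (LP (LK LD1_c9 LD2_c56 LD3_c38))))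
theorem f256337 : Led Lsl_bt (LP (LK LD1_c18 LD2_c14 LD3_c45)) = (LP (LK LD1_c9 LD2_c58 LD3_c25)) :=
  Lre_b IH (LK LD1_c18 LD2_c14 LD3_c45) (LK LD1_c9 LD2_c58 LD3_c25) Lrfl Lrfl
theorem f261335 : Led Lsl_bt (LP (LK LD1_c9 LD2_c56 LD3_c38)) = (LP (LK LD1_c18 LD2_c11 LD3_c50)) :=
  Lre_b IH (LK LD1_c9 LD2_c56 LD3_c38) (LK LD1_c18 LD2_c11 LD3_c50) Lrfl Lrfl
theorem f306245 : Led Lsl_ff (LP (LK LD1_c18 LD2_c14 LD3_c45)) = (LP (LK LD1_c18 LD2_c11 LD3_c50)) :=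
  Lgr Lrot25 (Lpr_bt (f256337 IH) (Lpr_ft (f306241 IH) (Lpr_bt (f261335 IH) (Lpn (LP (LK LD1_c18 LD2_c11 LD3_c50))))))
theorem f242366 : Led Lsl_bt (LP (LK LD1_c5 LD2_c9 LD3_c38)) = (LP (LK LD1_c10 LD2_c9 LD3_c59)) :=
  Lre_b IH (LK LD1_c5 LD2_c9 LD3_c38) (LK LD1_c10 LD2_c9 LD3_c59) Lrfl Lrfl
theorem f256375 : Led Lsl_dt (LP (LK LD1_c10 LD2_c9 LD3_c59)) = (LP (LK LD1_c18 LD2_c14 LD3_c45)) :=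
  Lgr Lrot79 (Lpe (f242366 IH) (Lpr_df (f256373 IH) (Lpe (f256337 IH) (Lpn (LP (LK LD1_c18 LD2_c14 LD3_c45))))))
theorem f256386 : Led Lsl_df (LP (LK LD1_c10 LD2_c9 LD3_c59)) = (LP (LK LD1_c18 LD2_c14 LD3_c45)) :=
  Lgr Lrot38 (Lpr_dt (f256375 IH) (Lpn (LP (LK LD1_c18 LD2_c14 LD3_c45))))
theorem f306260 : Led Lsl_dt (LP (LK LD1_c9 LD2_c56 LD3_c37)) = (LP (LK LD1_c18 LD2_c11 LD3_c50)) :=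
  Lre_d IH (LK LD1_c9 LD2_c56 LD3_c37) (LK LD1_c18 LD2_c11 LD3_c50) Lrfl Lrfl
theorem f306261 : Led Lsl_ft (LP (LK LD1_c10 LD2_c9 LD3_c59)) = (LP (LK LD1_c9 LD2_c56 LD3_c37)) :=
  Lgr Lrot54 (Lpr_df (f256386 IH) (Lpr_ff (f306245 IH) (Lpe (f306260 IH) (Lpn (LP (LK LD1_c9 LD2_c56 LD3_c37))))))
theorem f242458 : Led Lsl_et (LP (LK LD1_c18 LD2_c31 LD3_c10)) = (LP (LK LD1_c10 LD2_c9 LD3_c59)) :=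
  Lre_e IH (LK LD1_c18 LD2_c31 LD3_c10) (LK LD1_c10 LD2_c9 LD3_c59) Lrfl Lrfl
theorem f242426 : Led Lsl_ft (LP (LK LD1_c28 LD2_c5 LD3_c29)) = (LP (LK LD1_c18 LD2_c31 LD3_c10)) :=
  Lre_f IH (LK LD1_c28 LD2_c5 LD3_c29) (LK LD1_c18 LD2_c31 LD3_c10) Lrfl Lrfl
theorem f304204 : Led Lsl_bt (LP (LK LD1_c10 LD2_c11 LD3_c6)) = (LP (LK LD1_c18 LD2_c33 LD3_c18)) :=
  Lre_b IH (LK LD1_c10 LD2_c11 LD3_c6) (LK LD1_c18 LD2_c33 LD3_c18) Lrfl Lrfl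
theorem f242405 : Led Lsl_bt (LP (LK LD1_c28 LD2_c5 LD3_c29)) = (LP (LK LD1_c18 LD2_c31 LD3_c11)) :=
  Lre_b IH (LK LD1_c28 LD2_c5 LD3_c29) (LK LD1_c18 LD2_c31 LD3_c11) Lrfl Lrfl
theorem f306210 : Led Lsl_et (LP (LK LD1_c18 LD2_c33 LD3_c18)) = (LP (LK LD1_c28 LD2_c5 LD3_c29)) :=
  Lgr Lrot74 (Lpe (f304204 IH) (Lpr_ef (f306206 IH) (Lpe (f242405 IH) (Lpn (LP (LK LD1_c28 LD2_c5 LD3_c29))))))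
theorem f306274 : Led Lsl_et (LP (LK LD1_c9 LD2_c56 LD3_c37)) = (LP (LK LD1_c18 LD2_c11 LD3_c51)) :=
  Lre_e IH (LK LD1_c9 LD2_c56 LD3_c37) (LK LD1_c18 LD2_c11 LD3_c51) Lrfl Lrfl
theorem f306275 : Led Lsl_ff (LP (LK LD1_c18 LD2_c33 LD3_c18)) = (LP (LK LD1_c18 LD2_c11 LD3_c51)) :=
  Lgr Lrot72 (Lpr_et (f306210 IH) (Lpr_ft (f242426 IH) (Lpr_et (f242458 IH) (Lpr_ft (f306261 IH) (Lpr_et (f306274 IH) (Lpn (LP (LK LD1_c18 LD2_c11 LD3_c51))))))))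
theorem f306220 : Led Lsl_dt (LP (LK LD1_c18 LD2_c33 LD3_c18)) = (LP (LK LD1_c28 LD2_c7 LD3_c43)) :=
  Lre_d IH (LK LD1_c18 LD2_c33 LD3_c18) (LK LD1_c28 LD2_c7 LD3_c43) Lrfl Lrfl
theorem f306282 : Led Lsl_dt (LP (LK LD1_c27 LD2_c52 LD3_c33)) = (LP (LK LD1_c18 LD2_c11 LD3_c51)) :=
  Lre_d IH (LK LD1_c27 LD2_c52 LD3_c33) (LK LD1_c18 LD2_c11 LD3_c51) Lrfl Lrfl
theorem f306283 : Led Lsl_ft (LP (LK LD1_c28 LD2_c7 LD3_c43)) = (LP (LK LD1_c27 LD2_c52 LD3_c33)) :=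
  Lgr Lrot54 (Lpe (f306220 IH) (Lpr_ff (f306275 IH) (Lpe (f306282 IH) (Lpn (LP (LK LD1_c27 LD2_c52 LD3_c33))))))
theorem f306286 : Led Lsl_bt (LP (LK LD1_c18 LD2_c33 LD3_c19)) = (LP (LK LD1_c28 LD2_c7 LD3_c43)) :=
  Lre_b IH (LK LD1_c18 LD2_c33 LD3_c19) (LK LD1_c28 LD2_c7 LD3_c43) Lrfl Lrfl
theorem f306101 : Led Lsl_bt (LP (LK LD1_c27 LD2_c52 LD3_c33)) = (LP (LK LD1_c18 LD2_c11 LD3_c53)) :=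
  Lre_b IH (LK LD1_c27 LD2_c52 LD3_c33) (LK LD1_c18 LD2_c11 LD3_c53) Lrfl Lrfl
theorem f306287 : Led Lsl_ff (LP (LK LD1_c18 LD2_c33 LD3_c19)) = (LP (LK LD1_c18 LD2_c11 LD3_c53)) :=
  Lgr Lrot25 (Lpr_bt (f306286 IH) (Lpr_ft (f306283 IH) (Lpr_bt (f306101 IH) (Lpn (LP (LK LD1_c18 LD2_c11 LD3_c53))))))
theorem f306292 : Led Lsl_at (LP (LK LD1_c18 LD2_c33 LD3_c19)) = (LP (LK LD1_c27 LD2_c33 LD3_c60)) :=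
  Lgr Lrot66 (Lpr_ff (f306287 IH) (Lpe (K18.f294135 IH) (Lpr_ff (K22.f306132 IH) (Lpn (LP (LK LD1_c27 LD2_c33 LD3_c60))))))
theorem f306096 : Led Lsl_gt (LP (LK LD1_c18 LD2_c11 LD3_c53)) = (LP (LK LD1_c27 LD2_c52 LD3_c37)) :=
  Lre_g IH (LK LD1_c18 LD2_c11 LD3_c53) (LK LD1_c27 LD2_c52 LD3_c37) Lrfl Lrfl
theorem f306294 : Led Lsl_gf (LP (LK LD1_c27 LD2_c33 LD3_c60)) = (LP (LK LD1_c27 LD2_c52 LD3_c37)) :=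
  Lgr Lrot76 (Lpe (f306292 IH) (Lpr_ff (f306287 IH) (Lpr_gt (f306096 IH) (Lpn (LP (LK LD1_c27 LD2_c52 LD3_c37))))))
theorem f300188 : Led Lsl_ct (LP (LK LD1_c24 LD2_c50 LD3_c47)) = (LP (LK LD1_c15 LD2_c2 LD3_c15)) :=
  Lre_c IH (LK LD1_c24 LD2_c50 LD3_c47) (LK LD1_c15 LD2_c2 LD3_c15) Lrfl Lrfl
theorem f306097 : Led Lsl_dt (LP (LK LD1_c27 LD2_c52 LD3_c37)) = (LP (LK LD1_c24 LD2_c50 LD3_c47)) :=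
  Lgr Lrot105 (Lpe (f306096 IH) (Lpe (K22.f283924 IH) (Lpr_gf (K20.f306092 IH) (Lpe (K19.f289938 IH) (Lpr_gt (K19.f300183 IH) (Lpr_dt (K25.f266898 IH) (Lpr_gt (K22.f167972 IH) (Lpr_dt (K25.f167973 IH) (Lpe (f300188 IH) (Lpn (LP (LK LD1_c24 LD2_c50 LD3_c47))))))))))))
theorem f306099 : Led Lsl_df (LP (LK LD1_c27 LD2_c52 LD3_c37)) = (LP (LK LD1_c24 LD2_c50 LD3_c47)) :=
  Lgr Lrot38 (Lpr_dt (f306097 IH) (Lpn (LP (LK LD1_c24 LD2_c50 LD3_c47))))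
theorem f340244 : Led Lsl_cf (LP (LK LD1_c19 LD2_c6 LD3_c29)) = (LP (LK LD1_c28 LD2_c7 LD3_c45)) :=
  Lgr Lrot11 (Lpr_ct (f340242 IH) (Lpn (LP (LK LD1_c28 LD2_c7 LD3_c45))))
theorem f346271 : Led Lsl_gf (LP (LK LD1_c24 LD2_c50 LD3_c47)) = (LP (LK LD1_c28 LD2_c7 LD3_c45)) :=
  Lgr Lrot144 (Lpe (f306099 IH) (Lpe (f306294 IH) (Lpr_dt (f299766 IH) (Lpe (K19.f306070 IH) (Lpr_df (K25.f304097 IH) (Lpr_gf (K23.f293103 IH) (Lpe (K25.f293106 IH) (Lpr_gf (f346269 IH) (Lpr_cf (f340244 IH) (Lpn (LP (LK LD1_c28 LD2_c7 LD3_c45))))))))))))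
theorem f167974 : Led Lsl_ct (LP (LK LD1_c15 LD2_c2 LD3_c15)) = (LP (LK LD1_c24 LD2_c50 LD3_c47)) :=
  Lre_c IH (LK LD1_c15 LD2_c2 LD3_c15) (LK LD1_c24 LD2_c50 LD3_c47) Lrfl Lrfl
theorem f325576 : Led Lsl_bf (LP (LK LD1_c15 LD2_c2 LD3_c15)) = (LP (LK LD1_c9 LD2_c42 LD3_c19)) :=
  Lgr Lrot93 (Lpr_dt (f300189 IH) (Lpr_bt (K25.f325571 IH) (Lpr_dt (f168575 IH) (Lpn (LP (LK LD1_c9 LD2_c42 LD3_c19))))))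
theorem f325578 : Led Lsl_bt (LP (LK LD1_c15 LD2_c2 LD3_c15)) = (LP (LK LD1_c9 LD2_c42 LD3_c19)) :=
  Lgr Lrot127 (Lpr_bf (f325576 IH) (Lpn (LP (LK LD1_c9 LD2_c42 LD3_c19))))
theorem f340230 : Led Lsl_bf (LP (LK LD1_c15 LD2_c14 LD3_c42)) = (LP (LK LD1_c19 LD2_c6 LD3_c29)) :=
  Lgr Lrot96 (Lpr_et (K19.f246104 IH) (Lpr_bt (K23.f340224 IH) (Lpr_et (f318110 IH) (Lpn (LP (LK LD1_c19 LD2_c6 LD3_c29))))))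
theorem f339737 : Led Lsl_bt (LP (LK LD1_c10 LD2_c38 LD3_c55)) = (LP (LK LD1_c15 LD2_c9 LD3_c17)) :=
  Lgr Lrot95 (Lpe (K23.f224814 IH) (Lpr_bf (K22.f339733 IH) (Lpe (K22.f293580 IH) (Lpn (LP (LK LD1_c15 LD2_c9 LD3_c17))))))
theorem f306490 : Led Lsl_ct (LP (LK LD1_c10 LD2_c38 LD3_c55)) = (LP (LK LD1_c19 LD2_c17 LD3_c18)) :=
  Lre_c IH (LK LD1_c10 LD2_c38 LD3_c55) (LK LD1_c19 LD2_c17 LD3_c18) Lrfl Lrfl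
theorem f346275 : Led Lsl_gt (LP (LK LD1_c27 LD2_c37 LD3_c55)) = (LP (LK LD1_c19 LD2_c17 LD3_c18)) :=
  Lgr Lrot149 (Lpe (f325582 IH) (Lpe (f325581 IH) (Lpe (f325578 IH) (Lpr_ct (f167974 IH) (Lpr_gf (f346271 IH) (Lpe (f340242 IH) (Lpe (f340230 IH) (Lpr_gf (K22.f327383 IH) (Lpe (f339737 IH) (Lpr_ct (f306490 IH) (Lpn (LP (LK LD1_c19 LD2_c17 LD3_c18)))))))))))))
theorem f306491 : Led Lsl_ct (LP (LK LD1_c19 LD2_c17 LD3_c18)) = (LP (LK LD1_c10 LD2_c38 LD3_c55)) :=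
  Lre_c IH (LK LD1_c19 LD2_c17 LD3_c18) (LK LD1_c10 LD2_c38 LD3_c55) Lrfl Lrfl
theorem f331516 : Led Lsl_ct (LP (LK LD1_c9 LD2_c42 LD3_c16)) = (LP (LK LD1_c5 LD2_c24 LD3_c4)) :=
  Lgr Lrot59 (Lpr_cf (K22.f331514 IH) (Lpn (LP (LK LD1_c5 LD2_c24 LD3_c4))))
theorem f201152 : Led Lsl_ct (LP (LK LD1_c9 LD2_c40 LD3_c46)) = (LP (LK LD1_c17 LD2_c48 LD3_c19)) :=
  Lre_c IH (LK LD1_c9 LD2_c40 LD3_c46) (LK LD1_c17 LD2_c48 LD3_c19) Lrfl Lrfl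
theorem f363952 : Led Lsl_gf (LP (LK LD1_c9 LD2_c42 LD3_c16)) = (LP (LK LD1_c17 LD2_c48 LD3_c19)) :=
  Lgr Lrot104 (Lpr_ct (f331516 IH) (Lpe (K19.f251022 IH) (Lpe (f306491 IH) (Lpe (f346275 IH) (Lpe (f325582 IH) (Lpe (f325581 IH) (Lpe (f168575 IH) (Lpr_gt (f363947 IH) (Lpr_ct (f201152 IH) (Lpn (LP (LK LD1_c17 LD2_c48 LD3_c19))))))))))))
theorem f339735 : Led Lsl_bt (LP (LK LD1_c5 LD2_c24 LD3_c4)) = (LP (LK LD1_c8 LD2_c2 LD3_c57)) :=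
  Lgr Lrot127 (Lpr_bf (K22.f339733 IH) (Lpn (LP (LK LD1_c8 LD2_c2 LD3_c57))))
theorem f264336 : Led Lsl_bt (LP (LK LD1_c4 LD2_c55 LD3_c53)) = (LP (LK LD1_c9 LD2_c43 LD3_c29)) :=
  Lre_b IH (LK LD1_c4 LD2_c55 LD3_c53) (LK LD1_c9 LD2_c43 LD3_c29) Lrfl Lrfl
theorem f201142 : Led Lsl_ft (LP (LK LD1_c4 LD2_c14 LD3_c10)) = (LP (LK LD1_c8 LD2_c26 LD3_c55)) :=
  Lre_f IH (LK LD1_c4 LD2_c14 LD3_c10) (LK LD1_c8 LD2_c26 LD3_c55) Lrfl Lrfl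
theorem f201143 : Led Lsl_ft (LP (LK LD1_c9 LD2_c40 LD3_c46)) = (LP (LK LD1_c4 LD2_c54 LD3_c35)) :=
  Lre_f IH (LK LD1_c9 LD2_c40 LD3_c46) (LK LD1_c4 LD2_c54 LD3_c35) Lrfl Lrfl
theorem f201144 : Led Lsl_bt (LP (LK LD1_c8 LD2_c26 LD3_c55)) = (LP (LK LD1_c9 LD2_c40 LD3_c46)) :=
  Lgr Lrot35 (Lpe (f201142 IH) (Lpr_bf (K15.f201135 IH) (Lpe (f201143 IH) (Lpn (LP (LK LD1_c9 LD2_c40 LD3_c46))))))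
theorem f201150 : Led Lsl_bf (LP (LK LD1_c8 LD2_c26 LD3_c55)) = (LP (LK LD1_c9 LD2_c40 LD3_c46)) :=
  Lgr Lrot24 (Lpr_bt (f201144 IH) (Lpn (LP (LK LD1_c9 LD2_c40 LD3_c46))))
theorem f363957 : Led Lsl_gt (LP (LK LD1_c9 LD2_c43 LD3_c29)) = (LP (LK LD1_c8 LD2_c26 LD3_c55)) :=
  Lgr Lrot164 (Lpe (f264336 IH) (Lpr_ct (K23.f168793 IH) (Lpe (K23.f304367 IH) (Lpe (K25.f216346 IH) (Lpe (K21.f218999 IH) (Lpe (f339735 IH) (Lpe (K22.f331514 IH) (Lpr_gf (f363952 IH) (Lpe (f201152 IH) (Lpe (f201150 IH) (Lpn (LP (LK LD1_c8 LD2_c26 LD3_c55)))))))))))))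
theorem f266459 : Led Lsl_et (LP (LK LD1_c5 LD2_c8 LD3_c29)) = (LP (LK LD1_c10 LD2_c7 LD3_c20)) :=
  Lre_e IH (LK LD1_c5 LD2_c8 LD3_c29) (LK LD1_c10 LD2_c7 LD3_c20) Lrfl Lrfl
theorem f323606 : Led Lsl_et (LP (LK LD1_c18 LD2_c13 LD3_c40)) = (LP (LK LD1_c9 LD2_c57 LD3_c39)) :=
  Lre_e IH (LK LD1_c18 LD2_c13 LD3_c40) (LK LD1_c9 LD2_c57 LD3_c39) Lrfl Lrfl
theorem f274759 : Led Lsl_gt (LP (LK LD1_c11 LD2_c4 LD3_c30)) = (LP (LK LD1_c19 LD2_c57 LD3_c4)) :=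
  Lre_g IH (LK LD1_c11 LD2_c4 LD3_c30) (LK LD1_c19 LD2_c57 LD3_c4) Lrfl Lrfl
theorem f323617 : Led Lsl_df (LP (LK LD1_c19 LD2_c57 LD3_c4)) = (LP (LK LD1_c18 LD2_c13 LD3_c40)) :=
  Lgr Lrot168 (Lpe (f274759 IH) (Lpr_df (K16.f274809 IH) (Lpr_et (K16.f266800 IH) (Lpr_gf (K19.f263548 IH) (Lpe (K14.f49913 IH) (Lpr_dt (K14.f49914 IH) (Lpr_gf (K19.f266795 IH) (Lpe (K16.f266782 IH) (Lpr_gf (K25.f323613 IH) (Lpe (f323606 IH) (Lpn (LP (LK LD1_c18 LD2_c13 LD3_c40)))))))))))))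
theorem f323619 : Led Lsl_gt (LP (LK LD1_c10 LD2_c7 LD3_c20)) = (LP (LK LD1_c8 LD2_c15 LD3_c4)) :=
  Lgr Lrot137 (Lpe (f266459 IH) (Lpr_dt (f259693 IH) (Lpr_gf (K15.f266297 IH) (Lpe (K16.f266288 IH) (Lpr_et (f266792 IH) (Lpr_gf (K25.f323613 IH) (Lpe (f323606 IH) (Lpe (f323617 IH) (Lpe (f274759 IH) (Lpr_df (K16.f274809 IH) (Lpn (LP (LK LD1_c8 LD2_c15 LD3_c4)))))))))))))
theorem f27451 : Led Lsl_et (LP (LK LD1_c8 LD2_c26 LD3_c23)) = (LP (LK LD1_c4 LD2_c13 LD3_c51)) :=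
  Lre_e IH (LK LD1_c8 LD2_c26 LD3_c23) (LK LD1_c4 LD2_c13 LD3_c51) Lrfl Lrfl
theorem f266460 : Led Lsl_df (LP (LK LD1_c8 LD2_c26 LD3_c23)) = (LP (LK LD1_c10 LD2_c7 LD3_c20)) :=
  Lgr Lrot70 (Lpr_et (f27451 IH) (Lpe (K16.f261416 IH) (Lpr_et (K15.f266455 IH) (Lpe (K15.f259695 IH) (Lpr_et (f266459 IH) (Lpn (LP (LK LD1_c10 LD2_c7 LD3_c20))))))))
theorem f274808 : Led Lsl_ct (LP (LK LD1_c8 LD2_c15 LD3_c4)) = (LP (LK LD1_c15 LD2_c30 LD3_c54)) :=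
  Lre_c IH (LK LD1_c8 LD2_c15 LD3_c4) (LK LD1_c15 LD2_c30 LD3_c54) Lrfl Lrfl
theorem f261842 : Led Lsl_ct (LP (LK LD1_c5 LD2_c13 LD3_c22)) = (LP (LK LD1_c10 LD2_c17 LD3_c3)) :=
  Lre_c IH (LK LD1_c5 LD2_c13 LD3_c22) (LK LD1_c10 LD2_c17 LD3_c3) Lrfl Lrfl
theorem f274805 : Led Lsl_bf (LP (LK LD1_c5 LD2_c0 LD3_c48)) = (LP (LK LD1_c8 LD2_c15 LD3_c4)) :=
  Lgr Lrot24 (Lpr_bt (K16.f274803 IH) (Lpn (LP (LK LD1_c8 LD2_c15 LD3_c4))))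
theorem f304342 : Led Lsl_gf (LP (LK LD1_c10 LD2_c17 LD3_c3)) = (LP (LK LD1_c15 LD2_c30 LD3_c54)) :=
  Lgr Lrot126 (Lpe (f261842 IH) (Lpr_bt (K23.f261818 IH) (Lpe (K22.f304239 IH) (Lpr_ct (K20.f302805 IH) (Lpr_gt (K20.f304340 IH) (Lpe (K20.f168751 IH) (Lpr_bt (K13.f181887 IH) (Lpe (K16.f274754 IH) (Lpr_bf (f274805 IH) (Lpr_ct (f274808 IH) (Lpn (LP (LK LD1_c15 LD2_c30 LD3_c54)))))))))))))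
theorem f261833 : Led Lsl_ct (LP (LK LD1_c10 LD2_c17 LD3_c3)) = (LP (LK LD1_c5 LD2_c13 LD3_c22)) :=
  Lre_c IH (LK LD1_c10 LD2_c17 LD3_c3) (LK LD1_c5 LD2_c13 LD3_c22) Lrfl Lrfl
theorem f261844 : Led Lsl_ct (LP (LK LD1_c5 LD2_c31 LD3_c17)) = (LP (LK LD1_c2 LD2_c41 LD3_c57)) :=
  Lre_c IH (LK LD1_c5 LD2_c31 LD3_c17) (LK LD1_c2 LD2_c41 LD3_c57) Lrfl Lrfl
theorem f323621 : Led Lsl_gt (LP (LK LD1_c8 LD2_c26 LD3_c23)) = (LP (LK LD1_c9 LD2_c43 LD3_c29)) :=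
  Lgr Lrot9 (Lpr_df (f266460 IH) (Lpr_gt (f323619 IH) (Lpr_ct (f274808 IH) (Lpe (f304342 IH) (Lpr_ct (f261833 IH) (Lpr_df (K15.f261837 IH) (Lpe (f261844 IH) (Lpe (K23.f261858 IH) (Lpr_cf (K23.f264329 IH) (Lpn (LP (LK LD1_c9 LD2_c43 LD3_c29))))))))))))
theorem f218219 : Led Lsl_ft (LP (LK LD1_c8 LD2_c26 LD3_c23)) = (LP (LK LD1_c15 LD2_c51 LD3_c1)) :=
  Lre_f IH (LK LD1_c8 LD2_c26 LD3_c23) (LK LD1_c15 LD2_c51 LD3_c1) Lrfl Lrfl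
theorem f363959 : Led Lsl_at (LP (LK LD1_c15 LD2_c51 LD3_c1)) = (LP (LK LD1_c8 LD2_c26 LD3_c55)) :=
  Lgr Lrot26 (Lpe (f218219 IH) (Lpr_gt (f323621 IH) (Lpr_gt (f363957 IH) (Lpn (LP (LK LD1_c8 LD2_c26 LD3_c55))))))
theorem f201154 : Led Lsl_ft (LP (LK LD1_c8 LD2_c26 LD3_c55)) = (LP (LK LD1_c4 LD2_c14 LD3_c10)) :=
  Lre_f IH (LK LD1_c8 LD2_c26 LD3_c55) (LK LD1_c4 LD2_c14 LD3_c10) Lrfl Lrfl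
theorem f363963 : Led Lsl_af (LP (LK LD1_c8 LD2_c26 LD3_c23)) = (LP (LK LD1_c4 LD2_c14 LD3_c10)) :=
  Lgr Lrot45 (Lpr_ft (f218219 IH) (Lpr_at (f363959 IH) (Lpr_ft (f201154 IH) (Lpn (LP (LK LD1_c4 LD2_c14 LD3_c10))))))
theorem f218225 : Led Lsl_gt (LP (LK LD1_c15 LD2_c51 LD3_c0)) = (LP (LK LD1_c8 LD2_c26 LD3_c23)) :=
  Lre_g IH (LK LD1_c15 LD2_c51 LD3_c0) (LK LD1_c8 LD2_c26 LD3_c23) Lrfl Lrfl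
theorem f363973 : Led Lsl_gf (LP (LK LD1_c15 LD2_c51 LD3_c0)) = (LP (LK LD1_c8 LD2_c26 LD3_c55)) :=
  Lgr Lrot47 (Lpr_gt (f218225 IH) (Lpr_af (f363963 IH) (Lpe (f201154 IH) (Lpn (LP (LK LD1_c8 LD2_c26 LD3_c55))))))
theorem f187452 : Led Lsl_dt (LP (LK LD1_c4 LD2_c27 LD3_c40)) = (LP (LK LD1_c8 LD2_c40 LD3_c10)) :=
  Lre_d IH (LK LD1_c4 LD2_c27 LD3_c40) (LK LD1_c8 LD2_c40 LD3_c10) Lrfl Lrfl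
theorem f213016 : Led Lsl_dt (LP (LK LD1_c4 LD2_c28 LD3_c24)) = (LP (LK LD1_c2 LD2_c11 LD3_c18)) :=
  Lre_d IH (LK LD1_c4 LD2_c28 LD3_c24) (LK LD1_c2 LD2_c11 LD3_c18) Lrfl Lrfl
theorem f279193 : Led Lsl_gt (LP (LK LD1_c5 LD2_c28 LD3_c21)) = (LP (LK LD1_c4 LD2_c28 LD3_c24)) :=
  Lgr Lrot94 (Lpr_cf (K16.f267503 IH) (Lpr_gt (K17.f278812 IH) (Lpr_dt (K16.f1708 IH) (Lpr_gt (K16.f279180 IH) (Lpr_dt (K12.f219619 IH) (Lpe (K15.f191855 IH) (Lpe (f187452 IH) (Lpe (K12.f41697 IH) (Lpe (f213016 IH) (Lpn (LP (LK LD1_c4 LD2_c28 LD3_c24))))))))))))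
theorem f278732 : Led Lsl_et (LP (LK LD1_c2 LD2_c11 LD3_c18)) = (LP (LK LD1_c4 LD2_c28 LD3_c25)) :=
  Lre_e IH (LK LD1_c2 LD2_c11 LD3_c18) (LK LD1_c4 LD2_c28 LD3_c25) Lrfl Lrfl
theorem f345340 : Led Lsl_ct (LP (LK LD1_c8 LD2_c54 LD3_c29)) = (LP (LK LD1_c4 LD2_c28 LD3_c11)) :=
  Lre_c IH (LK LD1_c8 LD2_c54 LD3_c29) (LK LD1_c4 LD2_c28 LD3_c11) Lrfl Lrfl
theorem f345346 : Led Lsl_ef (LP (LK LD1_c8 LD2_c54 LD3_c29)) = (LP (LK LD1_c11 LD2_c53 LD3_c41)) :=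
  Lgr Lrot28 (Lpr_ct (f345340 IH) (Lpr_et (K25.f345344 IH) (Lpr_ct (K25.f42290 IH) (Lpn (LP (LK LD1_c11 LD2_c53 LD3_c41))))))
theorem f355373 : Led Lsl_gt (LP (LK LD1_c4 LD2_c28 LD3_c25)) = (LP (LK LD1_c8 LD2_c54 LD3_c29)) :=
  Lgr Lrot131 (Lpe (f278732 IH) (Lpr_dt (K16.f213017 IH) (Lpe (f279193 IH) (Lpe (K15.f7841 IH) (Lpe (K16.f274879 IH) (Lpe (K25.f223280 IH) (Lpr_dt (K23.f213933 IH) (Lpr_gf (f355369 IH) (Lpe (K25.f345361 IH) (Lpe (f345346 IH) (Lpn (LP (LK LD1_c8 LD2_c54 LD3_c29)))))))))))))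
theorem f218205 : Led Lsl_ct (LP (LK LD1_c8 LD2_c54 LD3_c54)) = (LP (LK LD1_c4 LD2_c28 LD3_c25)) :=
  Lre_c IH (LK LD1_c8 LD2_c54 LD3_c54) (LK LD1_c4 LD2_c28 LD3_c25) Lrfl Lrfl
theorem f217941 : Led Lsl_et (LP (LK LD1_c4 LD2_c13 LD3_c51)) = (LP (LK LD1_c8 LD2_c26 LD3_c23)) :=
  Lre_e IH (LK LD1_c4 LD2_c13 LD3_c51) (LK LD1_c8 LD2_c26 LD3_c23) Lrfl Lrfl
theorem f213023 : Led Lsl_et (LP (LK LD1_c8 LD2_c54 LD3_c54)) = (LP (LK LD1_c4 LD2_c28 LD3_c23)) :=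
  Lre_e IH (LK LD1_c8 LD2_c54 LD3_c54) (LK LD1_c4 LD2_c28 LD3_c23) Lrfl Lrfl
theorem f217942 : Led Lsl_bt (LP (LK LD1_c8 LD2_c26 LD3_c23)) = (LP (LK LD1_c8 LD2_c54 LD3_c54)) :=
  Lgr Lrot119 (Lpe (f217941 IH) (Lpr_bf (K12.f217932 IH) (Lpe (f213023 IH) (Lpn (LP (LK LD1_c8 LD2_c54 LD3_c54))))))
theorem f218203 : Led Lsl_bf (LP (LK LD1_c8 LD2_c26 LD3_c23)) = (LP (LK LD1_c8 LD2_c54 LD3_c54)) :=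
  Lgr Lrot24 (Lpr_bt (f217942 IH) (Lpn (LP (LK LD1_c8 LD2_c54 LD3_c54))))
theorem f345338 : Led Lsl_ct (LP (LK LD1_c4 LD2_c28 LD3_c11)) = (LP (LK LD1_c8 LD2_c54 LD3_c29)) :=
  Lre_c IH (LK LD1_c4 LD2_c28 LD3_c11) (LK LD1_c8 LD2_c54 LD3_c29) Lrfl Lrfl
theorem f352141 : Led Lsl_bt (LP (LK LD1_c4 LD2_c28 LD3_c11)) = (LP (LK LD1_c2 LD2_c38 LD3_c44)) :=
  Lgr Lrot127 (Lpr_bf (K25.f352139 IH) (Lpn (LP (LK LD1_c2 LD2_c38 LD3_c44))))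
theorem f338029 : Led Lsl_gt (LP (LK LD1_c5 LD2_c24 LD3_c19)) = (LP (LK LD1_c2 LD2_c38 LD3_c40)) :=
  Lre_g IH (LK LD1_c5 LD2_c24 LD3_c19) (LK LD1_c2 LD2_c38 LD3_c40) Lrfl Lrfl
theorem f338030 : Led Lsl_gf (LP (LK LD1_c5 LD2_c24 LD3_c19)) = (LP (LK LD1_c10 LD2_c31 LD3_c39)) :=
  Lgr Lrot47 (Lpr_gt (f338029 IH) (Lpr_af (K22.f338022 IH) (Lpe (K22.f318263 IH) (Lpn (LP (LK LD1_c10 LD2_c31 LD3_c39))))))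
theorem f338033 : Led Lsl_ct (LP (LK LD1_c10 LD2_c39 LD3_c28)) = (LP (LK LD1_c5 LD2_c24 LD3_c19)) :=
  Lre_c IH (LK LD1_c10 LD2_c39 LD3_c28) (LK LD1_c5 LD2_c24 LD3_c19) Lrfl Lrfl
theorem f355525 : Led Lsl_bf (LP (LK LD1_c15 LD2_c51 LD3_c0)) = (LP (LK LD1_c10 LD2_c39 LD3_c28)) :=
  Lgr Lrot156 (Lpr_gt (f218225 IH) (Lpr_bf (f218203 IH) (Lpr_ct (f218205 IH) (Lpr_gt (f355373 IH) (Lpe (f345338 IH) (Lpr_bt (f352141 IH) (Lpr_gt (K25.f345330 IH) (Lpr_ct (K22.f235156 IH) (Lpe (f338030 IH) (Lpe (f338033 IH) (Lpn (LP (LK LD1_c10 LD2_c39 LD3_c28)))))))))))))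
theorem f363975 : Led Lsl_gt (LP (LK LD1_c9 LD2_c42 LD3_c15)) = (LP (LK LD1_c17 LD2_c48 LD3_c19)) :=
  Lgr Lrot149 (Lpe (K25.f353744 IH) (Lpe (K25.f291697 IH) (Lpe (K22.f338018 IH) (Lpr_ct (K22.f288625 IH) (Lpe (f338029 IH) (Lpe (f338033 IH) (Lpe (f355525 IH) (Lpr_gf (f363973 IH) (Lpr_bf (f201150 IH) (Lpr_ct (f201152 IH) (Lpn (LP (LK LD1_c17 LD2_c48 LD3_c19)))))))))))))
theorem f251421 : Led Lsl_ct (LP (LK LD1_c5 LD2_c15 LD3_c32)) = (LP (LK LD1_c10 LD2_c20 LD3_c20)) :=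
  Lre_c IH (LK LD1_c5 LD2_c15 LD3_c32) (LK LD1_c10 LD2_c20 LD3_c20) Lrfl Lrfl
theorem f201153 : Led Lsl_ct (LP (LK LD1_c17 LD2_c48 LD3_c19)) = (LP (LK LD1_c9 LD2_c40 LD3_c46)) :=
  Lre_c IH (LK LD1_c17 LD2_c48 LD3_c19) (LK LD1_c9 LD2_c40 LD3_c46) Lrfl Lrfl
theorem f259613 : Led Lsl_df (LP (LK LD1_c9 LD2_c40 LD3_c46)) = (LP (LK LD1_c9 LD2_c55 LD3_c0)) :=
  Lgr Lrot38 (Lpr_dt (f259611 IH) (Lpn (LP (LK LD1_c9 LD2_c55 LD3_c0))))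
theorem f363980 : Led Lsl_gt (LP (LK LD1_c10 LD2_c20 LD3_c20)) = (LP (LK LD1_c18 LD2_c9 LD3_c10)) :=
  Lgr Lrot150 (Lpe (f251421 IH) (Lpr_gf (K18.f291695 IH) (Lpe (K18.f183963 IH) (Lpr_gt (K25.f291697 IH) (Lpr_ct (K25.f353744 IH) (Lpr_gt (f363975 IH) (Lpr_ct (f201153 IH) (Lpr_df (f259613 IH) (Lpe (K22.f257650 IH) (Lpn (LP (LK LD1_c18 LD2_c9 LD3_c10))))))))))))
theorem f251341 : Led Lsl_et (LP (LK LD1_c5 LD2_c10 LD3_c4)) = (LP (LK LD1_c9 LD2_c42 LD3_c23)) :=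
  Lgr Lrot158 (Lpe (K10.f186739 IH) (Lpr_ef (K14.f251315 IH) (Lpe (K22.f251340 IH) (Lpn (LP (LK LD1_c9 LD2_c42 LD3_c23))))))
theorem f215352 : Led Lsl_et (LP (LK LD1_c5 LD2_c15 LD3_c31)) = (LP (LK LD1_c10 LD2_c20 LD3_c20)) :=
  Lre_e IH (LK LD1_c5 LD2_c15 LD3_c31) (LK LD1_c10 LD2_c20 LD3_c20) Lrfl Lrfl
theorem f251414 : Led Lsl_gt (LP (LK LD1_c9 LD2_c42 LD3_c23)) = (LP (LK LD1_c10 LD2_c20 LD3_c20)) :=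
  Lgr Lrot131 (Lpe (f251341 IH) (Lpr_dt (K15.f189541 IH) (Lpr_gf (K15.f251409 IH) (Lpe (K15.f43747 IH) (Lpe (K14.f43743 IH) (Lpr_ef (K21.f44425 IH) (Lpr_dt (K12.f43857 IH) (Lpr_gf (K14.f215348 IH) (Lpe (K14.f195844 IH) (Lpr_et (f215352 IH) (Lpn (LP (LK LD1_c10 LD2_c20 LD3_c20)))))))))))))
theorem f364007 : Led Lsl_ft (LP (LK LD1_c9 LD2_c42 LD3_c23)) = (LP (LK LD1_c9 LD2_c56 LD3_c53)) :=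
  Lgr Lrot2 (Lpr_gt (f251414 IH) (Lpr_gt (f363980 IH) (Lpr_af (K22.f257652 IH) (Lpn (LP (LK LD1_c9 LD2_c56 LD3_c53))))))
theorem f364018 : Led Lsl_ff (LP (LK LD1_c9 LD2_c42 LD3_c23)) = (LP (LK LD1_c9 LD2_c56 LD3_c53)) :=
  Lgr Lrot3 (Lpr_ft (f364007 IH) (Lpn (LP (LK LD1_c9 LD2_c56 LD3_c53))))
theorem f363935 : Led Lsl_at (LP (LK LD1_c9 LD2_c42 LD3_c23)) = (LP (LK LD1_c9 LD2_c54 LD3_c60)) :=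
  Lgr Lrot107 (Lpe (K22.f251349 IH) (Lpr_af (f363931 IH) (Lpe (K23.f257613 IH) (Lpn (LP (LK LD1_c9 LD2_c54 LD3_c60))))))
theorem f257616 : Led Lsl_gt (LP (LK LD1_c18 LD2_c9 LD3_c8)) = (LP (LK LD1_c9 LD2_c54 LD3_c60)) :=
  Lre_g IH (LK LD1_c18 LD2_c9 LD3_c8) (LK LD1_c9 LD2_c54 LD3_c60) Lrfl Lrfl
theorem f364027 : Led Lsl_gf (LP (LK LD1_c18 LD2_c9 LD3_c8)) = (LP (LK LD1_c9 LD2_c56 LD3_c53)) :=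
  Lgr Lrot47 (Lpr_gt (f257616 IH) (Lpe (f363935 IH) (Lpr_ff (f364018 IH) (Lpn (LP (LK LD1_c9 LD2_c56 LD3_c53))))))
theorem f284998 : Led Lsl_bf (LP (LK LD1_c5 LD2_c5 LD3_c37)) = (LP (LK LD1_c5 LD2_c12 LD3_c14)) :=
  Lgr Lrot34 (Lpe (K15.f263248 IH) (Lpr_bf (K15.f252697 IH) (Lpr_ct (K15.f3756 IH) (Lpe (K15.f3739 IH) (Lpe (K15.f3735 IH) (Lpe (K15.f3734 IH) (Lpe (K15.f3753 IH) (Lpr_ct (K10.f3754 IH) (Lpe (K17.f3755 IH) (Lpr_cf (K17.f284985 IH) (Lpn (LP (LK LD1_c5 LD2_c12 LD3_c14)))))))))))))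
theorem f285005 : Led Lsl_bt (LP (LK LD1_c5 LD2_c5 LD3_c37)) = (LP (LK LD1_c5 LD2_c12 LD3_c14)) :=
  Lgr Lrot127 (Lpr_bf (f284998 IH) (Lpn (LP (LK LD1_c5 LD2_c12 LD3_c14))))
theorem f285013 : Led Lsl_ff (LP (LK LD1_c2 LD2_c35 LD3_c31)) = (LP (LK LD1_c5 LD2_c12 LD3_c14)) :=
  Lgr Lrot25 (Lpr_bt (K10.f189786 IH) (Lpe (K17.f260595 IH) (Lpr_bt (f285005 IH) (Lpn (LP (LK LD1_c5 LD2_c12 LD3_c14))))))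
theorem f261881 : Led Lsl_bt (LP (LK LD1_c10 LD2_c3 LD3_c47)) = (LP (LK LD1_c10 LD2_c17 LD3_c2)) :=
  Lgr Lrot95 (Lpr_df (K20.f261879 IH) (Lpr_bf (K15.f261615 IH) (Lpe (K15.f261840 IH) (Lpn (LP (LK LD1_c10 LD2_c17 LD3_c2))))))
theorem f189805 : Led Lsl_bf (LP (LK LD1_c10 LD2_c24 LD3_c36)) = (LP (LK LD1_c10 LD2_c20 LD3_c4)) :=
  Lgr Lrot24 (Lpr_bt (K17.f189803 IH) (Lpn (LP (LK LD1_c10 LD2_c20 LD3_c4))))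
theorem f263081 : Led Lsl_ef (LP (LK LD1_c10 LD2_c3 LD3_c47)) = (LP (LK LD1_c10 LD2_c24 LD3_c36)) :=
  Lgr Lrot29 (Lpr_bt (f261881 IH) (Lpr_et (K17.f263079 IH) (Lpe (f189805 IH) (Lpn (LP (LK LD1_c10 LD2_c24 LD3_c36))))))
theorem f340317 : Led Lsl_ft (LP (LK LD1_c10 LD2_c3 LD3_c47)) = (LP (LK LD1_c5 LD2_c15 LD3_c40)) :=
  Lgr Lrot86 (Lpr_ef (f263081 IH) (Lpe (K17.f48219 IH) (Lpe (K10.f48201 IH) (Lpr_ff (f285013 IH) (Lpr_ef (K23.f340306 IH) (Lpn (LP (LK LD1_c5 LD2_c15 LD3_c40))))))))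
theorem f340297 : Led Lsl_af (LP (LK LD1_c4 LD2_c29 LD3_c31)) = (LP (LK LD1_c5 LD2_c15 LD3_c40)) :=
  Lgr Lrot50 (Lpr_et (K15.f185007 IH) (Lpr_at (K17.f185015 IH) (Lpr_et (K23.f340295 IH) (Lpn (LP (LK LD1_c5 LD2_c15 LD3_c40))))))
theorem f362164 : Led Lsl_gf (LP (LK LD1_c4 LD2_c29 LD3_c31)) = (LP (LK LD1_c5 LD2_c15 LD3_c42)) :=
  Lgr Lrot76 (Lpr_af (f340297 IH) (Lpe (f340317 IH) (Lpr_gt (f362162 IH) (Lpn (LP (LK LD1_c5 LD2_c15 LD3_c42))))))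
theorem f293088 : Led Lsl_bt (LP (LK LD1_c10 LD2_c20 LD3_c22)) = (LP (LK LD1_c5 LD2_c15 LD3_c42)) :=
  Lre_b IH (LK LD1_c10 LD2_c20 LD3_c22) (LK LD1_c5 LD2_c15 LD3_c42) Lrfl Lrfl
theorem f364029 : Led Lsl_cf (LP (LK LD1_c18 LD2_c9 LD3_c8)) = (LP (LK LD1_c10 LD2_c20 LD3_c22)) :=
  Lgr Lrot163 (Lpr_gf (f364027 IH) (Lpe (K22.f257651 IH) (Lpe (K18.f192152 IH) (Lpe (K18.f257626 IH) (Lpr_ct (K16.f171249 IH) (Lpr_gf (K18.f276105 IH) (Lpe (K18.f185009 IH) (Lpr_bt (K15.f185005 IH) (Lpr_gf (f362164 IH) (Lpe (f293088 IH) (Lpn (LP (LK LD1_c10 LD2_c20 LD3_c22)))))))))))))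
theorem f291689 : Led Lsl_ft (LP (LK LD1_c5 LD2_c15 LD3_c32)) = (LP (LK LD1_c10 LD2_c20 LD3_c22)) :=
  Lre_f IH (LK LD1_c5 LD2_c15 LD3_c32) (LK LD1_c10 LD2_c20 LD3_c22) Lrfl Lrfl
theorem f251419 : Led Lsl_ct (LP (LK LD1_c10 LD2_c20 LD3_c20)) = (LP (LK LD1_c5 LD2_c15 LD3_c32)) :=
  Lre_c IH (LK LD1_c10 LD2_c20 LD3_c20) (LK LD1_c5 LD2_c15 LD3_c32) Lrfl Lrfl
theorem f364039 : Led Lsl_ft (LP (LK LD1_c18 LD2_c9 LD3_c8)) = (LP (LK LD1_c10 LD2_c20 LD3_c20)) :=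
  Lgr Lrot4 (Lpr_cf (f364029 IH) (Lpe (f291689 IH) (Lpe (f251419 IH) (Lpn (LP (LK LD1_c10 LD2_c20 LD3_c20))))))
theorem f364047 : Led Lsl_af (LP (LK LD1_c16 LD2_c34 LD3_c42)) = (LP (LK LD1_c10 LD2_c20 LD3_c20)) :=
  Lgr Lrot31 (Lpe (K22.f266169 IH) (Lpe (f257616 IH) (Lpr_ft (f364039 IH) (Lpn (LP (LK LD1_c10 LD2_c20 LD3_c20))))))
theorem f214941 : Led Lsl_et (LP (LK LD1_c16 LD2_c34 LD3_c42)) = (LP (LK LD1_c8 LD2_c51 LD3_c61)) :=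
  Lre_e IH (LK LD1_c16 LD2_c34 LD3_c42) (LK LD1_c8 LD2_c51 LD3_c61) Lrfl Lrfl
theorem f364054 : Led Lsl_at (LP (LK LD1_c8 LD2_c51 LD3_c61)) = (LP (LK LD1_c5 LD2_c15 LD3_c31)) :=
  Lgr Lrot80 (Lpe (f214941 IH) (Lpr_af (f364047 IH) (Lpe (f215352 IH) (Lpn (LP (LK LD1_c5 LD2_c15 LD3_c31))))))
theorem f364066 : Led Lsl_ff (LP (LK LD1_c8 LD2_c51 LD3_c61)) = (LP (LK LD1_c5 LD2_c21 LD3_c19)) :=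
  Lgr Lrot52 (Lpr_at (f364054 IH) (Lpe (K17.f260601 IH) (Lpr_gf (K17.f288480 IH) (Lpn (LP (LK LD1_c5 LD2_c21 LD3_c19))))))
theorem f364074 : Led Lsl_ft (LP (LK LD1_c8 LD2_c51 LD3_c61)) = (LP (LK LD1_c5 LD2_c21 LD3_c19)) :=
  Lgr Lrot48 (Lpr_ff (f364066 IH) (Lpn (LP (LK LD1_c5 LD2_c21 LD3_c19))))
theorem f364082 : Led Lsl_af (LP (LK LD1_c8 LD2_c51 LD3_c60)) = (LP (LK LD1_c5 LD2_c21 LD3_c19)) :=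
  Lgr Lrot31 (Lpr_gf (K12.f192129 IH) (Lpr_gf (K14.f254459 IH) (Lpr_ft (f364074 IH) (Lpn (LP (LK LD1_c5 LD2_c21 LD3_c19))))))
theorem f364056 : Led Lsl_af (LP (LK LD1_c8 LD2_c51 LD3_c61)) = (LP (LK LD1_c5 LD2_c15 LD3_c31)) :=
  Lgr Lrot0 (Lpr_at (f364054 IH) (Lpn (LP (LK LD1_c5 LD2_c15 LD3_c31))))
theorem f364094 : Led Lsl_ft (LP (LK LD1_c8 LD2_c51 LD3_c60)) = (LP (LK LD1_c5 LD2_c15 LD3_c31)) :=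
  Lgr Lrot101 (Lpr_af (f364082 IH) (Lpe (f364074 IH) (Lpr_af (f364056 IH) (Lpn (LP (LK LD1_c5 LD2_c15 LD3_c31))))))
theorem f364100 : Led Lsl_ff (LP (LK LD1_c8 LD2_c51 LD3_c60)) = (LP (LK LD1_c5 LD2_c15 LD3_c31)) :=
  Lgr Lrot3 (Lpr_ft (f364094 IH) (Lpn (LP (LK LD1_c5 LD2_c15 LD3_c31))))
theorem f364106 : Led Lsl_ft (LP (LK LD1_c15 LD2_c0 LD3_c45)) = (LP (LK LD1_c10 LD2_c20 LD3_c19)) :=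
  Lgr Lrot54 (Lpe (K14.f191793 IH) (Lpr_ff (f364100 IH) (Lpe (K14.f191032 IH) (Lpn (LP (LK LD1_c10 LD2_c20 LD3_c19))))))
theorem f364112 : Led Lsl_ff (LP (LK LD1_c10 LD2_c30 LD3_c49)) = (LP (LK LD1_c5 LD2_c22 LD3_c9)) :=
  Lgr Lrot23 (Lpr_ct (K14.f215678 IH) (Lpr_ft (f364106 IH) (Lpe (K14.f215262 IH) (Lpn (LP (LK LD1_c5 LD2_c22 LD3_c9))))))
theorem f364120 : Led Lsl_at (LP (LK LD1_c10 LD2_c30 LD3_c49)) = (LP (LK LD1_c5 LD2_c22 LD3_c10)) :=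
  Lgr Lrot26 (Lpr_ff (f364112 IH) (Lpr_gt (K14.f194949 IH) (Lpr_gt (K14.f194899 IH) (Lpn (LP (LK LD1_c5 LD2_c22 LD3_c10))))))
theorem f196038 : Led Lsl_et (LP (LK LD1_c19 LD2_c3 LD3_c17)) = (LP (LK LD1_c10 LD2_c30 LD3_c49)) :=
  Lre_e IH (LK LD1_c19 LD2_c3 LD3_c17) (LK LD1_c10 LD2_c30 LD3_c49) Lrfl Lrfl
theorem f195853 : Led Lsl_et (LP (LK LD1_c5 LD2_c22 LD3_c10)) = (LP (LK LD1_c10 LD2_c34 LD3_c51)) :=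
  Lre_e IH (LK LD1_c5 LD2_c22 LD3_c10) (LK LD1_c10 LD2_c34 LD3_c51) Lrfl Lrfl
theorem f364126 : Led Lsl_af (LP (LK LD1_c19 LD2_c3 LD3_c17)) = (LP (LK LD1_c10 LD2_c34 LD3_c51)) :=
  Lgr Lrot50 (Lpr_et (f196038 IH) (Lpr_at (f364120 IH) (Lpr_et (f195853 IH) (Lpn (LP (LK LD1_c10 LD2_c34 LD3_c51))))))
theorem f196046 : Led Lsl_dt (LP (LK LD1_c19 LD2_c3 LD3_c17)) = (LP (LK LD1_c28 LD2_c29 LD3_c32)) :=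
  Lre_d IH (LK LD1_c19 LD2_c3 LD3_c17) (LK LD1_c28 LD2_c29 LD3_c32) Lrfl Lrfl
theorem f195850 : Led Lsl_dt (LP (LK LD1_c19 LD2_c10 LD3_c13)) = (LP (LK LD1_c10 LD2_c34 LD3_c51)) :=
  Lre_d IH (LK LD1_c19 LD2_c10 LD3_c13) (LK LD1_c10 LD2_c34 LD3_c51) Lrfl Lrfl
theorem f364132 : Led Lsl_at (LP (LK LD1_c28 LD2_c29 LD3_c32)) = (LP (LK LD1_c19 LD2_c10 LD3_c13)) :=
  Lgr Lrot51 (Lpe (f196046 IH) (Lpr_af (f364126 IH) (Lpe (f195850 IH) (Lpn (LP (LK LD1_c19 LD2_c10 LD3_c13))))))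
theorem f196039 : Led Lsl_dt (LP (LK LD1_c28 LD2_c29 LD3_c32)) = (LP (LK LD1_c19 LD2_c3 LD3_c17)) :=
  Lre_d IH (LK LD1_c28 LD2_c29 LD3_c32) (LK LD1_c19 LD2_c3 LD3_c17) Lrfl Lrfl
theorem f277475 : Led Lsl_et (LP (LK LD1_c19 LD2_c11 LD3_c50)) = (LP (LK LD1_c28 LD2_c29 LD3_c32)) :=
  Lgr Lrot71 (Lpe (K23.f277166 IH) (Lpr_ef (K16.f277468 IH) (Lpe (K14.f195950 IH) (Lpe (f196038 IH) (Lpe (f196039 IH) (Lpn (LP (LK LD1_c28 LD2_c29 LD3_c32))))))))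
theorem f195848 : Led Lsl_dt (LP (LK LD1_c17 LD2_c35 LD3_c43)) = (LP (LK LD1_c27 LD2_c23 LD3_c47)) :=
  Lre_d IH (LK LD1_c17 LD2_c35 LD3_c43) (LK LD1_c27 LD2_c23 LD3_c47) Lrfl Lrfl
theorem f195849 : Led Lsl_et (LP (LK LD1_c10 LD2_c34 LD3_c51)) = (LP (LK LD1_c5 LD2_c22 LD3_c10)) :=
  Lre_e IH (LK LD1_c10 LD2_c34 LD3_c51) (LK LD1_c5 LD2_c22 LD3_c10) Lrfl Lrfl
theorem f195851 : Led Lsl_et (LP (LK LD1_c27 LD2_c23 LD3_c47)) = (LP (LK LD1_c19 LD2_c10 LD3_c13)) :=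
  Lgr Lrot71 (Lpe (f195848 IH) (Lpe (K15.f195847 IH) (Lpr_df (K14.f195837 IH) (Lpe (f195849 IH) (Lpe (f195850 IH) (Lpn (LP (LK LD1_c19 LD2_c10 LD3_c13))))))))
theorem f195862 : Led Lsl_ef (LP (LK LD1_c27 LD2_c23 LD3_c47)) = (LP (LK LD1_c19 LD2_c10 LD3_c13)) :=
  Lgr Lrot88 (Lpr_et (f195851 IH) (Lpn (LP (LK LD1_c19 LD2_c10 LD3_c13))))
theorem f364136 : Led Lsl_af (LP (LK LD1_c19 LD2_c11 LD3_c50)) = (LP (LK LD1_c27 LD2_c23 LD3_c47)) :=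
  Lgr Lrot50 (Lpr_et (f277475 IH) (Lpr_at (f364132 IH) (Lpe (f195862 IH) (Lpn (LP (LK LD1_c27 LD2_c23 LD3_c47))))))
theorem f342821 : Led Lsl_gf (LP (LK LD1_c10 LD2_c34 LD3_c12)) = (LP (LK LD1_c5 LD2_c22 LD3_c3)) :=
  Lgr Lrot47 (Lpr_gt (K23.f336746 IH) (Lpr_af (K25.f342817 IH) (Lpe (K25.f215963 IH) (Lpn (LP (LK LD1_c5 LD2_c22 LD3_c3))))))
theorem f277477 : Led Lsl_et (LP (LK LD1_c10 LD2_c36 LD3_c2)) = (LP (LK LD1_c10 LD2_c16 LD3_c49)) :=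
  Lgr Lrot87 (Lpr_ef (K16.f277468 IH) (Lpn (LP (LK LD1_c10 LD2_c16 LD3_c49))))
theorem f342823 : Led Lsl_gt (LP (LK LD1_c28 LD2_c34 LD3_c26)) = (LP (LK LD1_c19 LD2_c11 LD3_c50)) :=
  Lgr Lrot112 (Lpe (K23.f256503 IH) (Lpr_et (K23.f333608 IH) (Lpr_gf (f342821 IH) (Lpe (K22.f214089 IH) (Lpr_dt (K14.f194966 IH) (Lpe (K14.f256327 IH) (Lpr_df (K15.f256323 IH) (Lpe (K16.f259774 IH) (Lpe (f277477 IH) (Lpr_dt (K23.f277166 IH) (Lpn (LP (LK LD1_c19 LD2_c11 LD3_c50)))))))))))))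
theorem f364142 : Led Lsl_ft (LP (LK LD1_c19 LD2_c11 LD3_c52)) = (LP (LK LD1_c27 LD2_c23 LD3_c47)) :=
  Lgr Lrot2 (Lpr_gt (K23.f333604 IH) (Lpr_gt (f342823 IH) (Lpr_af (f364136 IH) (Lpn (LP (LK LD1_c27 LD2_c23 LD3_c47))))))
theorem f364146 : Led Lsl_ff (LP (LK LD1_c19 LD2_c11 LD3_c52)) = (LP (LK LD1_c27 LD2_c23 LD3_c47)) :=
  Lgr Lrot3 (Lpr_ft (f364142 IH) (Lpn (LP (LK LD1_c27 LD2_c23 LD3_c47))))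
theorem f278541 : Led Lsl_dt (LP (LK LD1_c19 LD2_c11 LD3_c52)) = (LP (LK LD1_c10 LD2_c36 LD3_c3)) :=
  Lre_d IH (LK LD1_c19 LD2_c11 LD3_c52) (LK LD1_c10 LD2_c36 LD3_c3) Lrfl Lrfl
theorem f364149 : Led Lsl_ft (LP (LK LD1_c10 LD2_c36 LD3_c3)) = (LP (LK LD1_c17 LD2_c35 LD3_c43)) :=
  Lgr Lrot54 (Lpe (f278541 IH) (Lpr_ff (f364146 IH) (Lpe (f195848 IH) (Lpn (LP (LK LD1_c17 LD2_c35 LD3_c43))))))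
theorem f364155 : Led Lsl_af (LP (LK LD1_c10 LD2_c36 LD3_c2)) = (LP (LK LD1_c17 LD2_c35 LD3_c43)) :=
  Lgr Lrot31 (Lpe (K16.f277151 IH) (Lpe (K22.f276955 IH) (Lpr_ft (f364149 IH) (Lpn (LP (LK LD1_c17 LD2_c35 LD3_c43))))))
theorem f364162 : Led Lsl_at (LP (LK LD1_c10 LD2_c16 LD3_c49)) = (LP (LK LD1_c9 LD2_c33 LD3_c16)) :=
  Lgr Lrot80 (Lpe (f277477 IH) (Lpr_af (f364155 IH) (Lpe (K15.f195847 IH) (Lpn (LP (LK LD1_c9 LD2_c33 LD3_c16))))))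
theorem f364168 : Led Lsl_ff (LP (LK LD1_c10 LD2_c16 LD3_c49)) = (LP (LK LD1_c9 LD2_c33 LD3_c14)) :=
  Lgr Lrot52 (Lpr_at (f364162 IH) (Lpr_gf (K14.f191033 IH) (Lpe (K15.f261327 IH) (Lpn (LP (LK LD1_c9 LD2_c33 LD3_c14))))))
theorem f364172 : Led Lsl_ft (LP (LK LD1_c5 LD2_c17 LD3_c17)) = (LP (LK LD1_c4 LD2_c50 LD3_c31)) :=
  Lgr Lrot4 (Lpr_cf (K14.f192859 IH) (Lpr_ff (f364168 IH) (Lpe (K14.f187873 IH) (Lpn (LP (LK LD1_c4 LD2_c50 LD3_c31))))))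
theorem f364182 : Led Lsl_af (LP (LK LD1_c4 LD2_c6 LD3_c17)) = (LP (LK LD1_c4 LD2_c50 LD3_c31)) :=
  Lgr Lrot31 (Lpe (K16.f179073 IH) (Lpr_gf (K16.f275162 IH) (Lpr_ft (f364172 IH) (Lpn (LP (LK LD1_c4 LD2_c50 LD3_c31))))))
theorem f364166 : Led Lsl_af (LP (LK LD1_c5 LD2_c17 LD3_c17)) = (LP (LK LD1_c4 LD2_c50 LD3_c33)) :=
  Lgr Lrot68 (Lpr_ct (K14.f192867 IH) (Lpr_at (f364162 IH) (Lpr_ct (K14.f191021 IH) (Lpn (LP (LK LD1_c4 LD2_c50 LD3_c33))))))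
theorem f364194 : Led Lsl_ft (LP (LK LD1_c4 LD2_c6 LD3_c17)) = (LP (LK LD1_c4 LD2_c50 LD3_c33)) :=
  Lgr Lrot101 (Lpr_af (f364182 IH) (Lpe (f364172 IH) (Lpr_af (f364166 IH) (Lpn (LP (LK LD1_c4 LD2_c50 LD3_c33))))))
theorem f364200 : Led Lsl_ff (LP (LK LD1_c4 LD2_c6 LD3_c17)) = (LP (LK LD1_c4 LD2_c50 LD3_c33)) :=
  Lgr Lrot3 (Lpr_ft (f364194 IH) (Lpn (LP (LK LD1_c4 LD2_c50 LD3_c33))))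
theorem f364204 : Led Lsl_ft (LP (LK LD1_c8 LD2_c13 LD3_c11)) = (LP (LK LD1_c9 LD2_c33 LD3_c16)) :=
  Lgr Lrot4 (Lpe (K14.f179076 IH) (Lpr_ff (f364200 IH) (Lpe (K14.f191021 IH) (Lpn (LP (LK LD1_c9 LD2_c33 LD3_c16))))))
theorem f191947 : Led Lsl_et (LP (LK LD1_c15 LD2_c27 LD3_c43)) = (LP (LK LD1_c8 LD2_c13 LD3_c11)) :=
  Lre_e IH (LK LD1_c15 LD2_c27 LD3_c43) (LK LD1_c8 LD2_c13 LD3_c11) Lrfl Lrfl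
theorem f195865 : Led Lsl_dt (LP (LK LD1_c27 LD2_c23 LD3_c47)) = (LP (LK LD1_c17 LD2_c35 LD3_c43)) :=
  Lre_d IH (LK LD1_c27 LD2_c23 LD3_c47) (LK LD1_c17 LD2_c35 LD3_c43) Lrfl Lrfl
theorem f364144 : Led Lsl_ff (LP (LK LD1_c10 LD2_c36 LD3_c3)) = (LP (LK LD1_c17 LD2_c35 LD3_c43)) :=
  Lgr Lrot19 (Lpr_dt (K23.f278540 IH) (Lpr_ft (f364142 IH) (Lpr_dt (f195865 IH) (Lpn (LP (LK LD1_c17 LD2_c35 LD3_c43))))))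
theorem f44671 : Led Lsl_gt (LP (LK LD1_c10 LD2_c33 LD3_c32)) = (LP (LK LD1_c19 LD2_c7 LD3_c23)) :=
  Lre_g IH (LK LD1_c10 LD2_c33 LD3_c32) (LK LD1_c19 LD2_c7 LD3_c23) Lrfl Lrfl
theorem f343845 : Led Lsl_ef (LP (LK LD1_c19 LD2_c7 LD3_c23)) = (LP (LK LD1_c10 LD2_c36 LD3_c3)) :=
  Lgr Lrot17 (Lpe (f44671 IH) (Lpe (K25.f343844 IH) (Lpr_dt (K25.f343843 IH) (Lpe (K23.f343823 IH) (Lpr_df (K23.f343824 IH) (Lpe (K23.f336746 IH) (Lpe (K23.f333608 IH) (Lpr_dt (K23.f256503 IH) (Lpe (K23.f333604 IH) (Lpe (K23.f278540 IH) (Lpn (LP (LK LD1_c10 LD2_c36 LD3_c3)))))))))))))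
theorem f364212 : Led Lsl_ff (LP (LK LD1_c15 LD2_c27 LD3_c43)) = (LP (LK LD1_c19 LD2_c7 LD3_c23)) :=
  Lgr Lrot72 (Lpr_et (f191947 IH) (Lpr_ft (f364204 IH) (Lpr_et (K15.f195847 IH) (Lpe (f364144 IH) (Lpe (f343845 IH) (Lpn (LP (LK LD1_c19 LD2_c7 LD3_c23))))))))
theorem f364216 : Led Lsl_ft (LP (LK LD1_c15 LD2_c27 LD3_c43)) = (LP (LK LD1_c19 LD2_c7 LD3_c23)) :=
  Lgr Lrot48 (Lpr_ff (f364212 IH) (Lpn (LP (LK LD1_c19 LD2_c7 LD3_c23))))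
theorem f187706 : Led Lsl_et (LP (LK LD1_c10 LD2_c30 LD3_c42)) = (LP (LK LD1_c5 LD2_c20 LD3_c20)) :=
  Lre_e IH (LK LD1_c10 LD2_c30 LD3_c42) (LK LD1_c5 LD2_c20 LD3_c20) Lrfl Lrfl
theorem f191936 : Led Lsl_et (LP (LK LD1_c8 LD2_c13 LD3_c11)) = (LP (LK LD1_c15 LD2_c27 LD3_c43)) :=
  Lre_e IH (LK LD1_c8 LD2_c13 LD3_c11) (LK LD1_c15 LD2_c27 LD3_c43) Lrfl Lrfl
theorem f264570 : Led Lsl_ct (LP (LK LD1_c11 LD2_c54 LD3_c54)) = (LP (LK LD1_c6 LD2_c5 LD3_c41)) :=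
  Lre_c IH (LK LD1_c11 LD2_c54 LD3_c54) (LK LD1_c6 LD2_c5 LD3_c41) Lrfl Lrfl
theorem f264572 : Led Lsl_ef (LP (LK LD1_c11 LD2_c54 LD3_c54)) = (LP (LK LD1_c8 LD2_c56 LD3_c21)) :=
  Lgr Lrot28 (Lpr_ct (f264570 IH) (Lpr_et (K25.f264543 IH) (Lpr_ct (f264571 IH) (Lpn (LP (LK LD1_c8 LD2_c56 LD3_c21))))))
theorem f357714 : Led Lsl_gt (LP (LK LD1_c15 LD2_c27 LD3_c43)) = (LP (LK LD1_c11 LD2_c54 LD3_c54)) :=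
  Lgr Lrot131 (Lpe (f191936 IH) (Lpe (K14.f191933 IH) (Lpe (K14.f182755 IH) (Lpe (K14.f46444 IH) (Lpe (K10.f46449 IH) (Lpe (f187706 IH) (Lpr_dt (K22.f187704 IH) (Lpr_gf (f357697 IH) (Lpe (f264578 IH) (Lpe (f264572 IH) (Lpn (LP (LK LD1_c11 LD2_c54 LD3_c54)))))))))))))
theorem f264577 : Led Lsl_gt (LP (LK LD1_c11 LD2_c54 LD3_c54)) = (LP (LK LD1_c20 LD2_c59 LD3_c32)) :=
  Lre_g IH (LK LD1_c11 LD2_c54 LD3_c54) (LK LD1_c20 LD2_c59 LD3_c32) Lrfl Lrfl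
theorem f364220 : Led Lsl_af (LP (LK LD1_c20 LD2_c59 LD3_c32)) = (LP (LK LD1_c19 LD2_c7 LD3_c23)) :=
  Lgr Lrot31 (Lpe (f264577 IH) (Lpe (f357714 IH) (Lpr_ft (f364216 IH) (Lpn (LP (LK LD1_c19 LD2_c7 LD3_c23))))))
theorem f364222 : Led Lsl_at (LP (LK LD1_c20 LD2_c59 LD3_c32)) = (LP (LK LD1_c19 LD2_c7 LD3_c23)) :=
  Lgr Lrot100 (Lpr_af (f364220 IH) (Lpn (LP (LK LD1_c19 LD2_c7 LD3_c23))))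
theorem f364224 : Led Lsl_ff (LP (LK LD1_c20 LD2_c59 LD3_c32)) = (LP (LK LD1_c17 LD2_c35 LD3_c39)) :=
  Lgr Lrot52 (Lpr_at (f364222 IH) (Lpe (f44671 IH) (Lpe (K25.f356298 IH) (Lpn (LP (LK LD1_c17 LD2_c35 LD3_c39))))))
theorem f364230 : Led Lsl_ft (LP (LK LD1_c20 LD2_c59 LD3_c32)) = (LP (LK LD1_c17 LD2_c35 LD3_c39)) :=
  Lgr Lrot48 (Lpr_ff (f364224 IH) (Lpn (LP (LK LD1_c17 LD2_c35 LD3_c39))))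
theorem f223231 : Led Lsl_ct (LP (LK LD1_c17 LD2_c35 LD3_c39)) = (LP (LK LD1_c9 LD2_c33 LD3_c15)) :=
  Lre_c IH (LK LD1_c17 LD2_c35 LD3_c39) (LK LD1_c9 LD2_c33 LD3_c15) Lrfl Lrfl
theorem f364234 : Led Lsl_cf (LP (LK LD1_c20 LD2_c59 LD3_c32)) = (LP (LK LD1_c17 LD2_c35 LD3_c41)) :=
  Lgr Lrot108 (Lpr_ft (f364230 IH) (Lpr_ct (f223231 IH) (Lpr_ft (K23.f223228 IH) (Lpn (LP (LK LD1_c17 LD2_c35 LD3_c41))))))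
theorem f264579 : Led Lsl_ct (LP (LK LD1_c6 LD2_c5 LD3_c41)) = (LP (LK LD1_c11 LD2_c54 LD3_c54)) :=
  Lre_c IH (LK LD1_c6 LD2_c5 LD3_c41) (LK LD1_c11 LD2_c54 LD3_c54) Lrfl Lrfl
theorem f257829 : Led Lsl_gt (LP (LK LD1_c11 LD2_c54 LD3_c40)) = (LP (LK LD1_c6 LD2_c5 LD3_c32)) :=
  Lre_g IH (LK LD1_c11 LD2_c54 LD3_c40) (LK LD1_c6 LD2_c5 LD3_c32) Lrfl Lrfl
theorem f364238 : Led Lsl_gf (LP (LK LD1_c10 LD2_c24 LD3_c7)) = (LP (LK LD1_c15 LD2_c51 LD3_c57)) :=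
  Lgr Lrot124 (Lpe (f360506 IH) (Lpr_ct (f189920 IH) (Lpr_gt (f360535 IH) (Lpe (f223561 IH) (Lpe (K15.f223552 IH) (Lpe (K25.f356730 IH) (Lpr_ct (f264579 IH) (Lpr_gt (f264577 IH) (Lpr_cf (f364234 IH) (Lpr_bt (K23.f223239 IH) (Lpn (LP (LK LD1_c15 LD2_c51 LD3_c57)))))))))))))
theorem f364240 : Led Lsl_cf (LP (LK LD1_c11 LD2_c54 LD3_c40)) = (LP (LK LD1_c10 LD2_c24 LD3_c7)) :=
  Lgr Lrot125 (Lpr_gt (f257829 IH) (Lpe (f258708 IH) (Lpr_bt (f264508 IH) (Lpr_gt (K22.f264522 IH) (Lpe (K25.f264530 IH) (Lpr_ct (f264579 IH) (Lpr_gt (f264577 IH) (Lpr_cf (f364234 IH) (Lpr_bt (K23.f223239 IH) (Lpe (f364238 IH) (Lpn (LP (LK LD1_c10 LD2_c24 LD3_c7)))))))))))))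
theorem f223232 : Led Lsl_dt (LP (LK LD1_c8 LD2_c27 LD3_c1)) = (LP (LK LD1_c15 LD2_c51 LD3_c57)) :=
  Lre_d IH (LK LD1_c8 LD2_c27 LD3_c1) (LK LD1_c15 LD2_c51 LD3_c57) Lrfl Lrfl
theorem f364251 : Led Lsl_gf (LP (LK LD1_c9 LD2_c42 LD3_c28)) = (LP (LK LD1_c8 LD2_c27 LD3_c1)) :=
  Lgr Lrot147 (Lpr_ct (K23.f322438 IH) (Lpr_gt (K23.f262879 IH) (Lpr_ct (K25.f257367 IH) (Lpr_df (K15.f264443 IH) (Lpe (K23.f258706 IH) (Lpe (f257829 IH) (Lpr_cf (f364240 IH) (Lpr_gf (f364238 IH) (Lpe (f223232 IH) (Lpn (LP (LK LD1_c8 LD2_c27 LD3_c1))))))))))))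
theorem f188549 : Led Lsl_dt (LP (LK LD1_c15 LD2_c28 LD3_c47)) = (LP (LK LD1_c8 LD2_c26 LD3_c40)) :=
  Lgr Lrot42 (Lpr_df (K25.f188544 IH) (Lpn (LP (LK LD1_c8 LD2_c26 LD3_c40))))
theorem f364273 : Led Lsl_gt (LP (LK LD1_c10 LD2_c24 LD3_c6)) = (LP (LK LD1_c15 LD2_c51 LD3_c57)) :=
  Lgr Lrot137 (Lpr_ef (K25.f232166 IH) (Lpr_dt (K23.f199753 IH) (Lpe (K25.f353584 IH) (Lpe (f188549 IH) (Lpe (K21.f325184 IH) (Lpr_gf (K21.f325220 IH) (Lpr_ef (K23.f322416 IH) (Lpe (K23.f322426 IH) (Lpr_gf (f364251 IH) (Lpe (K23.f223238 IH) (Lpn (LP (LK LD1_c15 LD2_c51 LD3_c57)))))))))))))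
theorem f364275 : Led Lsl_at (LP (LK LD1_c10 LD2_c24 LD3_c8)) = (LP (LK LD1_c15 LD2_c51 LD3_c57)) :=
  Lgr Lrot26 (Lpe (K15.f217511 IH) (Lpr_gt (K23.f54045 IH) (Lpr_gt (f364273 IH) (Lpn (LP (LK LD1_c15 LD2_c51 LD3_c57))))))
theorem f364281 : Led Lsl_af (LP (LK LD1_c5 LD2_c17 LD3_c16)) = (LP (LK LD1_c8 LD2_c27 LD3_c0)) :=
  Lgr Lrot45 (Lpr_ft (K15.f217511 IH) (Lpr_at (f364275 IH) (Lpr_ft (K23.f223241 IH) (Lpn (LP (LK LD1_c8 LD2_c27 LD3_c0))))))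
theorem f364287 : Led Lsl_at (LP (LK LD1_c4 LD2_c55 LD3_c26)) = (LP (LK LD1_c4 LD2_c14 LD3_c13)) :=
  Lgr Lrot51 (Lpr_df (K23.f217508 IH) (Lpr_af (f364281 IH) (Lpe (K23.f27508 IH) (Lpn (LP (LK LD1_c4 LD2_c14 LD3_c13))))))
theorem f364294 : Led Lsl_gt (LP (LK LD1_c9 LD2_c42 LD3_c29)) = (LP (LK LD1_c8 LD2_c26 LD3_c61)) :=
  Lgr Lrot5 (Lpr_ft (K15.f217510 IH) (Lpr_at (f364287 IH) (Lpe (f221531 IH) (Lpn (LP (LK LD1_c8 LD2_c26 LD3_c61))))))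
theorem f167701 : Led Lsl_ct (LP (LK LD1_c2 LD2_c11 LD3_c42)) = (LP (LK LD1_c4 LD2_c29 LD3_c11)) :=
  Lre_c IH (LK LD1_c2 LD2_c11 LD3_c42) (LK LD1_c4 LD2_c29 LD3_c11) Lrfl Lrfl
theorem f167745 : Led Lsl_gt (LP (LK LD1_c8 LD2_c56 LD3_c40)) = (LP (LK LD1_c4 LD2_c29 LD3_c11)) :=
  Lre_g IH (LK LD1_c8 LD2_c56 LD3_c40) (LK LD1_c4 LD2_c29 LD3_c11) Lrfl Lrfl
theorem f326496 : Led Lsl_cf (LP (LK LD1_c8 LD2_c56 LD3_c40)) = (LP (LK LD1_c8 LD2_c10 LD3_c15)) :=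
  Lgr Lrot160 (Lpr_gt (f167745 IH) (Lpe (f167701 IH) (Lpr_bt (K12.f167700 IH) (Lpr_gt (K18.f167681 IH) (Lpr_ct (K20.f167717 IH) (Lpe (K21.f326494 IH) (Lpe (K21.f326493 IH) (Lpr_bt (K21.f314833 IH) (Lpr_gt (K21.f326485 IH) (Lpe (K23.f224908 IH) (Lpn (LP (LK LD1_c8 LD2_c10 LD3_c15)))))))))))))
theorem f167739 : Led Lsl_ct (LP (LK LD1_c4 LD2_c29 LD3_c11)) = (LP (LK LD1_c2 LD2_c11 LD3_c42)) :=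
  Lre_c IH (LK LD1_c4 LD2_c29 LD3_c11) (LK LD1_c2 LD2_c11 LD3_c42) Lrfl Lrfl
theorem f167728 : Led Lsl_ct (LP (LK LD1_c8 LD2_c33 LD3_c23)) = (LP (LK LD1_c4 LD2_c17 LD3_c0)) :=
  Lre_c IH (LK LD1_c8 LD2_c33 LD3_c23) (LK LD1_c4 LD2_c17 LD3_c0) Lrfl Lrfl
theorem f353181 : Led Lsl_gf (LP (LK LD1_c15 LD2_c23 LD3_c21)) = (LP (LK LD1_c10 LD2_c50 LD3_c29)) :=
  Lgr Lrot147 (Lpe (K22.f333769 IH) (Lpr_gt (K22.f167744 IH) (Lpr_ct (f167728 IH) (Lpr_df (K17.f167706 IH) (Lpe (f167739 IH) (Lpe (f167745 IH) (Lpr_cf (f326496 IH) (Lpr_gf (K25.f353179 IH) (Lpe (K21.f260976 IH) (Lpn (LP (LK LD1_c10 LD2_c50 LD3_c29))))))))))))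
theorem f353192 : Led Lsl_et (LP (LK LD1_c15 LD2_c59 LD3_c29)) = (LP (LK LD1_c10 LD2_c50 LD3_c29)) :=
  Lgr Lrot122 (Lpe (K25.f353113 IH) (Lpr_gt (K23.f343736 IH) (Lpr_df (K25.f343758 IH) (Lpr_et (K25.f343762 IH) (Lpe (K23.f343764 IH) (Lpe (K23.f278098 IH) (Lpr_gt (K25.f278100 IH) (Lpe (K25.f278102 IH) (Lpr_et (K25.f353183 IH) (Lpe (K25.f329501 IH) (Lpn (LP (LK LD1_c10 LD2_c50 LD3_c29)))))))))))))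
theorem f361782 : Led Lsl_gf (LP (LK LD1_c18 LD2_c51 LD3_c27)) = (LP (LK LD1_c10 LD2_c24 LD3_c15)) :=
  Lgr Lrot134 (Lpr_df (K25.f353113 IH) (Lpr_et (f353192 IH) (Lpe (f353181 IH) (Lpr_ef (K25.f355250 IH) (Lpr_dt (K22.f333791 IH) (Lpr_gt (f355271 IH) (Lpe (K25.f344782 IH) (Lpr_et (K25.f344784 IH) (Lpr_gt (f361700 IH) (Lpr_dt (f251713 IH) (Lpn (LP (LK LD1_c10 LD2_c24 LD3_c15)))))))))))))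
theorem f353111 : Led Lsl_dt (LP (LK LD1_c18 LD2_c51 LD3_c27)) = (LP (LK LD1_c15 LD2_c59 LD3_c29)) :=
  Lgr Lrot27 (Lpr_cf (K25.f184147 IH) (Lpr_gf (K25.f353109 IH) (Lpe (K25.f282513 IH) (Lpr_gf (K21.f282509 IH) (Lpe (K14.f236168 IH) (Lpr_gt (K14.f1407 IH) (Lpr_ct (K22.f236171 IH) (Lpr_gt (K25.f236172 IH) (Lpr_ct (K25.f236173 IH) (Lpn (LP (LK LD1_c15 LD2_c59 LD3_c29))))))))))))
theorem f353176 : Led Lsl_gf (LP (LK LD1_c10 LD2_c50 LD3_c22)) = (LP (LK LD1_c15 LD2_c59 LD3_c29)) :=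
  Lgr Lrot76 (Lpr_af (K21.f322134 IH) (Lpe (K20.f322144 IH) (Lpr_gt (K25.f353174 IH) (Lpn (LP (LK LD1_c15 LD2_c59 LD3_c29))))))
theorem f364301 : Led Lsl_et (LP (LK LD1_c10 LD2_c24 LD3_c8)) = (LP (LK LD1_c11 LD2_c5 LD3_c18)) :=
  Lgr Lrot122 (Lpe (K15.f217512 IH) (Lpr_gt (f364294 IH) (Lpe (f223252 IH) (Lpe (f322069 IH) (Lpe (f361782 IH) (Lpr_dt (f353111 IH) (Lpe (f353176 IH) (Lpe (K19.f311800 IH) (Lpr_et (K23.f311808 IH) (Lpe (K23.f340007 IH) (Lpn (LP (LK LD1_c11 LD2_c5 LD3_c18)))))))))))))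
theorem f363813 : Led Lsl_ff (LP (LK LD1_c2 LD2_c35 LD3_c22)) = (LP (LK LD1_c4 LD2_c6 LD3_c26)) :=
  Lgr Lrot25 (Lpr_bt (K15.f191096 IH) (Lpr_ft (f363809 IH) (Lpr_bt (K15.f260385 IH) (Lpn (LP (LK LD1_c4 LD2_c6 LD3_c26))))))
theorem f364309 : Led Lsl_ff (LP (LK LD1_c8 LD2_c13 LD3_c30)) = (LP (LK LD1_c11 LD2_c5 LD3_c18)) :=
  Lgr Lrot72 (Lpr_et (K14.f231804 IH) (Lpe (f363813 IH) (Lpr_et (K15.f54044 IH) (Lpr_ft (K15.f217511 IH) (Lpr_et (f364301 IH) (Lpn (LP (LK LD1_c11 LD2_c5 LD3_c18))))))))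
theorem f364336 : Led Lsl_ft (LP (LK LD1_c8 LD2_c13 LD3_c30)) = (LP (LK LD1_c11 LD2_c5 LD3_c18)) :=
  Lgr Lrot48 (Lpr_ff (f364309 IH) (Lpn (LP (LK LD1_c11 LD2_c5 LD3_c18))))
theorem f231811 : Led Lsl_ft (LP (LK LD1_c18 LD2_c26 LD3_c24)) = (LP (LK LD1_c10 LD2_c7 LD3_c19)) :=
  Lre_f IH (LK LD1_c18 LD2_c26 LD3_c24) (LK LD1_c10 LD2_c7 LD3_c19) Lrfl Lrfl
theorem f364342 : Led Lsl_df (LP (LK LD1_c18 LD2_c26 LD3_c24)) = (LP (LK LD1_c11 LD2_c5 LD3_c18)) :=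
  Lgr Lrot78 (Lpr_ft (f231811 IH) (Lpe (K14.f231806 IH) (Lpr_ft (f364336 IH) (Lpn (LP (LK LD1_c11 LD2_c5 LD3_c18))))))
theorem f248008 : Led Lsl_ft (LP (LK LD1_c5 LD2_c10 LD3_c6)) = (LP (LK LD1_c10 LD2_c10 LD3_c58)) :=
  Lre_f IH (LK LD1_c5 LD2_c10 LD3_c6) (LK LD1_c10 LD2_c10 LD3_c58) Lrfl Lrfl
theorem f248009 : Led Lsl_bt (LP (LK LD1_c10 LD2_c10 LD3_c58)) = (LP (LK LD1_c18 LD2_c26 LD3_c24)) :=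
  Lgr Lrot35 (Lpe (f248008 IH) (Lpr_bf (K14.f248001 IH) (Lpe (f231811 IH) (Lpn (LP (LK LD1_c18 LD2_c26 LD3_c24))))))
theorem f248012 : Led Lsl_bf (LP (LK LD1_c10 LD2_c10 LD3_c58)) = (LP (LK LD1_c18 LD2_c26 LD3_c24)) :=
  Lgr Lrot24 (Lpr_bt (f248009 IH) (Lpn (LP (LK LD1_c18 LD2_c26 LD3_c24))))
theorem f364344 : Led Lsl_dt (LP (LK LD1_c10 LD2_c10 LD3_c58)) = (LP (LK LD1_c5 LD2_c36 LD3_c35)) :=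
  Lgr Lrot79 (Lpr_bf (f248012 IH) (Lpr_df (f364342 IH) (Lpe (K23.f340006 IH) (Lpn (LP (LK LD1_c5 LD2_c36 LD3_c35))))))
theorem f306024 : Led Lsl_gt (LP (LK LD1_c15 LD2_c47 LD3_c53)) = (LP (LK LD1_c15 LD2_c47 LD3_c46)) :=
  Lgr Lrot137 (Lpe (K25.f305981 IH) (Lpr_dt (f305979 IH) (Lpe (K21.f166659 IH) (Lpr_df (K21.f166589 IH) (Lpr_et (K15.f166617 IH) (Lpe (K12.f167244 IH) (Lpe (K16.f167254 IH) (Lpr_dt (K21.f222194 IH) (Lpr_gf (K21.f305910 IH) (Lpe (K21.f219372 IH) (Lpn (LP (LK LD1_c15 LD2_c47 LD3_c46)))))))))))))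
theorem f333527 : Led Lsl_gt (LP (LK LD1_c16 LD2_c7 LD3_c31)) = (LP (LK LD1_c17 LD2_c44 LD3_c60)) :=
  Lgr Lrot112 (Lpe (f179648 IH) (Lpr_et (K21.f305905 IH) (Lpe (f306024 IH) (Lpe (K25.f305981 IH) (Lpr_dt (f305979 IH) (Lpe (K21.f166659 IH) (Lpr_df (K21.f166589 IH) (Lpe (K23.f166638 IH) (Lpr_ef (K25.f333523 IH) (Lpr_dt (K23.f180091 IH) (Lpn (LP (LK LD1_c17 LD2_c44 LD3_c60)))))))))))))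
theorem f305913 : Led Lsl_ef (LP (LK LD1_c15 LD2_c24 LD3_c43)) = (LP (LK LD1_c9 LD2_c41 LD3_c17)) :=
  Lgr Lrot88 (Lpr_et (f305894 IH) (Lpn (LP (LK LD1_c9 LD2_c41 LD3_c17))))
theorem f333529 : Led Lsl_gf (LP (LK LD1_c15 LD2_c24 LD3_c43)) = (LP (LK LD1_c9 LD2_c1 LD3_c16)) :=
  Lgr Lrot141 (Lpr_ef (f305913 IH) (Lpr_dt (f261154 IH) (Lpe (K21.f305899 IH) (Lpe (K23.f305903 IH) (Lpe (K21.f271102 IH) (Lpr_gt (f333527 IH) (Lpr_dt (K23.f307069 IH) (Lpr_gt (K23.f304958 IH) (Lpe (K19.f307057 IH) (Lpr_et (K19.f307068 IH) (Lpn (LP (LK LD1_c9 LD2_c1 LD3_c16)))))))))))))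
theorem f307092 : Led Lsl_df (LP (LK LD1_c9 LD2_c1 LD3_c16)) = (LP (LK LD1_c5 LD2_c3 LD3_c0)) :=
  Lgr Lrot38 (Lpr_dt (K19.f307073 IH) (Lpn (LP (LK LD1_c5 LD2_c3 LD3_c0))))
theorem f364353 : Led Lsl_et (LP (LK LD1_c10 LD2_c10 LD3_c58)) = (LP (LK LD1_c9 LD2_c55 LD3_c0)) :=
  Lgr Lrot121 (Lpr_dt (f364344 IH) (Lpe (K23.f284045 IH) (Lpe (K21.f253648 IH) (Lpe (K25.f249666 IH) (Lpe (K21.f166953 IH) (Lpe (f166966 IH) (Lpe (f284037 IH) (Lpr_gf (f333529 IH) (Lpr_df (f307092 IH) (Lpr_gf (f363941 IH) (Lpn (LP (LK LD1_c9 LD2_c55 LD3_c0)))))))))))))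
theorem f364359 : Led Lsl_ff (LP (LK LD1_c2 LD2_c32 LD3_c7)) = (LP (LK LD1_c2 LD2_c28 LD3_c41)) :=
  Lgr Lrot72 (Lpr_et (K19.f248025 IH) (Lpr_ft (f248008 IH) (Lpr_et (f364353 IH) (Lpr_ft (f257679 IH) (Lpr_et (K15.f166667 IH) (Lpn (LP (LK LD1_c2 LD2_c28 LD3_c41))))))))
theorem f364365 : Led Lsl_ft (LP (LK LD1_c5 LD2_c10 LD3_c5)) = (LP (LK LD1_c5 LD2_c2 LD3_c7)) :=
  Lgr Lrot4 (Lpe (K14.f189552 IH) (Lpr_ff (f364359 IH) (Lpe (K15.f184879 IH) (Lpn (LP (LK LD1_c5 LD2_c2 LD3_c7))))))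
theorem f364374 : Led Lsl_ff (LP (LK LD1_c5 LD2_c10 LD3_c5)) = (LP (LK LD1_c5 LD2_c2 LD3_c7)) :=
  Lgr Lrot3 (Lpr_ft (f364365 IH) (Lpn (LP (LK LD1_c5 LD2_c2 LD3_c7))))
theorem f364383 : Led Lsl_at (LP (LK LD1_c5 LD2_c10 LD3_c5)) = (LP (LK LD1_c5 LD2_c2 LD3_c4)) :=
  Lgr Lrot26 (Lpr_ff (f364374 IH) (Lpe (K15.f257083 IH) (Lpr_gt (K15.f257048 IH) (Lpn (LP (LK LD1_c5 LD2_c2 LD3_c4))))))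
theorem f257418 : Led Lsl_et (LP (LK LD1_c5 LD2_c2 LD3_c4)) = (LP (LK LD1_c9 LD2_c54 LD3_c53)) :=
  Lre_e IH (LK LD1_c5 LD2_c2 LD3_c4) (LK LD1_c9 LD2_c54 LD3_c53) Lrfl Lrfl
theorem f364387 : Led Lsl_af (LP (LK LD1_c10 LD2_c10 LD3_c56)) = (LP (LK LD1_c9 LD2_c54 LD3_c53)) :=
  Lgr Lrot50 (Lpr_et (K20.f247980 IH) (Lpr_at (f364383 IH) (Lpr_et (f257418 IH) (Lpn (LP (LK LD1_c9 LD2_c54 LD3_c53))))))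
theorem f364380 : Led Lsl_ft (LP (LK LD1_c10 LD2_c10 LD3_c56)) = (LP (LK LD1_c18 LD2_c32 LD3_c55)) :=
  Lre_f IH (LK LD1_c10 LD2_c10 LD3_c56) (LK LD1_c18 LD2_c32 LD3_c55) Lrfl Lrfl
theorem f364395 : Led Lsl_ft (LP (LK LD1_c18 LD2_c8 LD3_c60)) = (LP (LK LD1_c9 LD2_c54 LD3_c53)) :=
  Lre_f IH (LK LD1_c18 LD2_c8 LD3_c60) (LK LD1_c9 LD2_c54 LD3_c53) Lrfl Lrfl
theorem f364396 : Led Lsl_at (LP (LK LD1_c18 LD2_c32 LD3_c55)) = (LP (LK LD1_c18 LD2_c8 LD3_c60)) :=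
  Lgr Lrot66 (Lpe (f364380 IH) (Lpr_af (f364387 IH) (Lpe (f364395 IH) (Lpn (LP (LK LD1_c18 LD2_c8 LD3_c60))))))
theorem f364406 : Led Lsl_gt (LP (LK LD1_c18 LD2_c32 LD3_c52)) = (LP (LK LD1_c18 LD2_c8 LD3_c60)) :=
  Lgr Lrot46 (Lpe (K25.f247986 IH) (Lpr_ft (f364380 IH) (Lpr_at (f364396 IH) (Lpn (LP (LK LD1_c18 LD2_c8 LD3_c60))))))
theorem f364412 : Led Lsl_et (LP (LK LD1_c9 LD2_c56 LD3_c53)) = (LP (LK LD1_c18 LD2_c8 LD3_c60)) :=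
  Lgr Lrot122 (Lpr_dt (K23.f257676 IH) (Lpr_gt (K23.f342611 IH) (Lpe (K23.f342605 IH) (Lpr_et (K23.f342601 IH) (Lpe (K23.f215015 IH) (Lpr_dt (K13.f214257 IH) (Lpr_gt (K25.f214392 IH) (Lpr_df (K25.f312453 IH) (Lpe (K25.f312451 IH) (Lpr_gt (f364406 IH) (Lpn (LP (LK LD1_c18 LD2_c8 LD3_c60)))))))))))))
theorem f364418 : Led Lsl_ff (LP (LK LD1_c5 LD2_c10 LD3_c4)) = (LP (LK LD1_c5 LD2_c2 LD3_c4)) :=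
  Lgr Lrot72 (Lpr_et (f251341 IH) (Lpr_ft (f364007 IH) (Lpr_et (f364412 IH) (Lpr_ft (f364395 IH) (Lpr_et (K23.f193133 IH) (Lpn (LP (LK LD1_c5 LD2_c2 LD3_c4))))))))
theorem f193123 : Led Lsl_dt (LP (LK LD1_c9 LD2_c54 LD3_c52)) = (LP (LK LD1_c5 LD2_c2 LD3_c4)) :=
  Lre_d IH (LK LD1_c9 LD2_c54 LD3_c52) (LK LD1_c5 LD2_c2 LD3_c4) Lrfl Lrfl
theorem f364424 : Led Lsl_ft (LP (LK LD1_c10 LD2_c10 LD3_c53)) = (LP (LK LD1_c9 LD2_c54 LD3_c52)) :=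
  Lgr Lrot54 (Lpe (K15.f189541 IH) (Lpr_ff (f364418 IH) (Lpe (f193123 IH) (Lpn (LP (LK LD1_c9 LD2_c54 LD3_c52))))))
theorem f364431 : Led Lsl_ff (LP (LK LD1_c10 LD2_c10 LD3_c53)) = (LP (LK LD1_c9 LD2_c54 LD3_c52)) :=
  Lgr Lrot3 (Lpr_ft (f364424 IH) (Lpn (LP (LK LD1_c9 LD2_c54 LD3_c52))))
theorem f364435 : Led Lsl_at (LP (LK LD1_c10 LD2_c10 LD3_c53)) = (LP (LK LD1_c9 LD2_c54 LD3_c59)) :=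
  Lgr Lrot26 (Lpr_ff (f364431 IH) (Lpe (f257060 IH) (Lpe (K15.f266159 IH) (Lpn (LP (LK LD1_c9 LD2_c54 LD3_c59))))))
theorem f257536 : Led Lsl_cf (LP (LK LD1_c10 LD2_c10 LD3_c53)) = (LP (LK LD1_c10 LD2_c3 LD3_c16)) :=
  Lgr Lrot11 (Lpr_ct (K15.f257532 IH) (Lpn (LP (LK LD1_c10 LD2_c3 LD3_c16))))
theorem f364437 : Led Lsl_af (LP (LK LD1_c10 LD2_c3 LD3_c16)) = (LP (LK LD1_c10 LD2_c14 LD3_c51)) :=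
  Lgr Lrot68 (Lpe (f257536 IH) (Lpr_at (f364435 IH) (Lpr_ct (K15.f249476 IH) (Lpn (LP (LK LD1_c10 LD2_c14 LD3_c51))))))
theorem f364465 : Led Lsl_ft (LP (LK LD1_c10 LD2_c3 LD3_c14)) = (LP (LK LD1_c10 LD2_c14 LD3_c51)) :=
  Lgr Lrot2 (Lpr_gt (K14.f255879 IH) (Lpe (K15.f257433 IH) (Lpr_af (f364437 IH) (Lpn (LP (LK LD1_c10 LD2_c14 LD3_c51))))))
theorem f364469 : Led Lsl_ff (LP (LK LD1_c10 LD2_c3 LD3_c14)) = (LP (LK LD1_c10 LD2_c14 LD3_c51)) :=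
  Lgr Lrot3 (Lpr_ft (f364465 IH) (Lpn (LP (LK LD1_c10 LD2_c14 LD3_c51))))
theorem f248095 : Led Lsl_dt (LP (LK LD1_c10 LD2_c3 LD3_c14)) = (LP (LK LD1_c5 LD2_c6 LD3_c8)) :=
  Lre_d IH (LK LD1_c10 LD2_c3 LD3_c14) (LK LD1_c5 LD2_c6 LD3_c8) Lrfl Lrfl
theorem f364471 : Led Lsl_ft (LP (LK LD1_c5 LD2_c6 LD3_c8)) = (LP (LK LD1_c5 LD2_c12 LD3_c1)) :=
  Lgr Lrot54 (Lpe (f248095 IH) (Lpr_ff (f364469 IH) (Lpe (K15.f249359 IH) (Lpn (LP (LK LD1_c5 LD2_c12 LD3_c1))))))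
theorem f364477 : Led Lsl_af (LP (LK LD1_c5 LD2_c6 LD3_c9)) = (LP (LK LD1_c5 LD2_c12 LD3_c1)) :=
  Lgr Lrot31 (Lpe (K15.f257540 IH) (Lpr_gf (K14.f251558 IH) (Lpr_ft (f364471 IH) (Lpn (LP (LK LD1_c5 LD2_c12 LD3_c1))))))
theorem f257535 : Led Lsl_et (LP (LK LD1_c5 LD2_c6 LD3_c9)) = (LP (LK LD1_c10 LD2_c3 LD3_c17)) :=
  Lre_e IH (LK LD1_c5 LD2_c6 LD3_c9) (LK LD1_c10 LD2_c3 LD3_c17) Lrfl Lrfl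
theorem f258052 : Led Lsl_et (LP (LK LD1_c10 LD2_c14 LD3_c52)) = (LP (LK LD1_c5 LD2_c12 LD3_c1)) :=
  Lre_e IH (LK LD1_c10 LD2_c14 LD3_c52) (LK LD1_c5 LD2_c12 LD3_c1) Lrfl Lrfl
theorem f364481 : Led Lsl_at (LP (LK LD1_c10 LD2_c3 LD3_c17)) = (LP (LK LD1_c10 LD2_c14 LD3_c52)) :=
  Lgr Lrot80 (Lpe (f257535 IH) (Lpr_af (f364477 IH) (Lpe (f258052 IH) (Lpn (LP (LK LD1_c10 LD2_c14 LD3_c52))))))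
theorem f364483 : Led Lsl_af (LP (LK LD1_c10 LD2_c3 LD3_c17)) = (LP (LK LD1_c10 LD2_c14 LD3_c52)) :=
  Lgr Lrot0 (Lpr_at (f364481 IH) (Lpn (LP (LK LD1_c10 LD2_c14 LD3_c52))))
theorem f258053 : Led Lsl_cf (LP (LK LD1_c10 LD2_c14 LD3_c52)) = (LP (LK LD1_c15 LD2_c11 LD3_c0)) :=
  Lgr Lrot39 (Lpr_et (f258052 IH) (Lpr_ct (K15.f258044 IH) (Lpr_et (K14.f237079 IH) (Lpn (LP (LK LD1_c15 LD2_c11 LD3_c0))))))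
theorem f364485 : Led Lsl_at (LP (LK LD1_c10 LD2_c7 LD3_c54)) = (LP (LK LD1_c15 LD2_c11 LD3_c0)) :=
  Lgr Lrot107 (Lpr_cf (K25.f282143 IH) (Lpr_af (f364483 IH) (Lpr_cf (f258053 IH) (Lpn (LP (LK LD1_c15 LD2_c11 LD3_c0))))))
theorem f364491 : Led Lsl_af (LP (LK LD1_c5 LD2_c8 LD3_c44)) = (LP (LK LD1_c8 LD2_c3 LD3_c56)) :=
  Lgr Lrot50 (Lpr_et (K17.f282129 IH) (Lpr_at (f364485 IH) (Lpr_et (K14.f237094 IH) (Lpn (LP (LK LD1_c8 LD2_c3 LD3_c56))))))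
theorem f364497 : Led Lsl_ft (LP (LK LD1_c5 LD2_c8 LD3_c43)) = (LP (LK LD1_c8 LD2_c3 LD3_c56)) :=
  Lgr Lrot2 (Lpe (K14.f251299 IH) (Lpe (K17.f282117 IH) (Lpr_af (f364491 IH) (Lpn (LP (LK LD1_c8 LD2_c3 LD3_c56))))))
theorem f237077 : Led Lsl_bf (LP (LK LD1_c5 LD2_c15 LD3_c36)) = (LP (LK LD1_c8 LD2_c3 LD3_c56)) :=
  Lgr Lrot24 (Lpr_bt (K14.f237074 IH) (Lpn (LP (LK LD1_c8 LD2_c3 LD3_c56))))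
theorem f364499 : Led Lsl_ff (LP (LK LD1_c5 LD2_c0 LD3_c59)) = (LP (LK LD1_c5 LD2_c15 LD3_c36)) :=
  Lgr Lrot25 (Lpe (K14.f240137 IH) (Lpr_ft (f364497 IH) (Lpe (f237077 IH) (Lpn (LP (LK LD1_c5 LD2_c15 LD3_c36))))))
theorem f285419 : Led Lsl_cf (LP (LK LD1_c10 LD2_c25 LD3_c20)) = (LP (LK LD1_c10 LD2_c20 LD3_c45)) :=
  Lgr Lrot11 (Lpr_ct (K17.f285408 IH) (Lpn (LP (LK LD1_c10 LD2_c20 LD3_c45))))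
theorem f214674 : Led Lsl_dt (LP (LK LD1_c8 LD2_c15 LD3_c3)) = (LP (LK LD1_c5 LD2_c18 LD3_c13)) :=
  Lgr Lrot173 (Lpe (K13.f53598 IH) (Lpe (K13.f53597 IH) (Lpr_cf (K13.f192101 IH) (Lpe (K15.f54047 IH) (Lpe (K13.f191360 IH) (Lpe (K13.f191361 IH) (Lpr_cf (K13.f214635 IH) (Lpe (K14.f191533 IH) (Lpe (K13.f49897 IH) (Lpe (K13.f45066 IH) (Lpr_cf (K10.f191041 IH) (Lpe (K13.f49112 IH) (Lpe (K13.f49190 IH) (Lpr_df (K18.f194377 IH) (Lpr_cf (K10.f191485 IH) (Lpn (LP (LK LD1_c5 LD2_c18 LD3_c13))))))))))))))))))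
theorem f259382 : Led Lsl_gf (LP (LK LD1_c8 LD2_c15 LD3_c3)) = (LP (LK LD1_c5 LD2_c17 LD3_c29)) :=
  Lgr Lrot144 (Lpr_dt (f214674 IH) (Lpr_gt (K10.f48408 IH) (Lpr_dt (K10.f48401 IH) (Lpe (K12.f48269 IH) (Lpe (K10.f33096 IH) (Lpe (K9.f48187 IH) (Lpe (K15.f48337 IH) (Lpr_gf (K15.f259373 IH) (Lpe (K15.f48206 IH) (Lpn (LP (LK LD1_c5 LD2_c17 LD3_c29))))))))))))
theorem f285447 : Led Lsl_gf (LP (LK LD1_c5 LD2_c9 LD3_c35)) = (LP (LK LD1_c4 LD2_c7 LD3_c32)) :=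
  Lgr Lrot104 (Lpr_ct (K18.f180609 IH) (Lpr_df (K19.f285441 IH) (Lpr_cf (f285419 IH) (Lpr_gf (K17.f282988 IH) (Lpe (K17.f184166 IH) (Lpr_gf (K20.f273657 IH) (Lpe (K15.f48196 IH) (Lpe (f259382 IH) (Lpr_ct (K13.f53599 IH) (Lpn (LP (LK LD1_c4 LD2_c7 LD3_c32))))))))))))
theorem f364505 : Led Lsl_at (LP (LK LD1_c5 LD2_c0 LD3_c59)) = (LP (LK LD1_c5 LD2_c9 LD3_c35)) :=
  Lgr Lrot26 (Lpr_ff (f364499 IH) (Lpe (K19.f263548 IH) (Lpe (f285447 IH) (Lpn (LP (LK LD1_c5 LD2_c9 LD3_c35))))))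
theorem f359605 : Led Lsl_at (LP (LK LD1_c2 LD2_c31 LD3_c54)) = (LP (LK LD1_c2 LD2_c28 LD3_c61)) :=
  Lgr Lrot100 (Lpr_af (f359603 IH) (Lpn (LP (LK LD1_c2 LD2_c28 LD3_c61))))
theorem f278212 : Led Lsl_bf (LP (LK LD1_c5 LD2_c0 LD3_c58)) = (LP (LK LD1_c2 LD2_c28 LD3_c61)) :=
  Lgr Lrot93 (Lpe (K15.f252582 IH) (Lpr_bt (K14.f252665 IH) (Lpr_dt (K16.f278210 IH) (Lpn (LP (LK LD1_c2 LD2_c28 LD3_c61))))))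
theorem f364493 : Led Lsl_at (LP (LK LD1_c5 LD2_c0 LD3_c58)) = (LP (LK LD1_c5 LD2_c15 LD3_c36)) :=
  Lgr Lrot67 (Lpr_bf (f278212 IH) (Lpe (f359605 IH) (Lpe (K25.f282127 IH) (Lpr_af (f364491 IH) (Lpe (K14.f237074 IH) (Lpn (LP (LK LD1_c5 LD2_c15 LD3_c36))))))))
theorem f364515 : Led Lsl_ff (LP (LK LD1_c5 LD2_c0 LD3_c58)) = (LP (LK LD1_c5 LD2_c9 LD3_c35)) :=
  Lgr Lrot30 (Lpr_at (f364493 IH) (Lpe (f364499 IH) (Lpr_at (f364505 IH) (Lpn (LP (LK LD1_c5 LD2_c9 LD3_c35))))))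
theorem f364517 : Led Lsl_ft (LP (LK LD1_c5 LD2_c17 LD3_c31)) = (LP (LK LD1_c10 LD2_c9 LD3_c54)) :=
  Lgr Lrot4 (Lpr_cf (K16.f259668 IH) (Lpr_ff (f364515 IH) (Lpe (K19.f190997 IH) (Lpn (LP (LK LD1_c10 LD2_c9 LD3_c54))))))
theorem f364525 : Led Lsl_ff (LP (LK LD1_c5 LD2_c17 LD3_c31)) = (LP (LK LD1_c10 LD2_c9 LD3_c54)) :=
  Lgr Lrot3 (Lpr_ft (f364517 IH) (Lpn (LP (LK LD1_c10 LD2_c9 LD3_c54))))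
theorem f264931 : Led Lsl_gf (LP (LK LD1_c10 LD2_c20 LD3_c29)) = (LP (LK LD1_c5 LD2_c17 LD3_c1)) :=
  Lgr Lrot126 (Lpe (K14.f49907 IH) (Lpr_bt (K14.f237074 IH) (Lpe (K15.f257777 IH) (Lpr_ct (K15.f43419 IH) (Lpr_gt (K15.f264920 IH) (Lpe (K10.f165307 IH) (Lpr_bt (K15.f165313 IH) (Lpr_gt (K14.f249429 IH) (Lpe (K16.f189532 IH) (Lpr_ct (K16.f32918 IH) (Lpn (LP (LK LD1_c5 LD2_c17 LD3_c1)))))))))))))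
theorem f364533 : Led Lsl_at (LP (LK LD1_c5 LD2_c17 LD3_c31)) = (LP (LK LD1_c10 LD2_c20 LD3_c29)) :=
  Lgr Lrot26 (Lpr_ff (f364525 IH) (Lpe (K19.f273635 IH) (Lpe (f264931 IH) (Lpn (LP (LK LD1_c10 LD2_c20 LD3_c29))))))
theorem f364537 : Led Lsl_af (LP (LK LD1_c10 LD2_c24 LD3_c38)) = (LP (LK LD1_c10 LD2_c25 LD3_c21)) :=
  Lgr Lrot117 (Lpr_dt (K17.f49134 IH) (Lpr_at (f364533 IH) (Lpe (K18.f284995 IH) (Lpn (LP (LK LD1_c10 LD2_c25 LD3_c21))))))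
theorem f364551 : Led Lsl_ft (LP (LK LD1_c10 LD2_c24 LD3_c41)) = (LP (LK LD1_c10 LD2_c25 LD3_c21)) :=
  Lgr Lrot2 (Lpr_gt (K16.f259662 IH) (Lpr_gt (K17.f273653 IH) (Lpr_af (f364537 IH) (Lpn (LP (LK LD1_c10 LD2_c25 LD3_c21))))))
theorem f364564 : Led Lsl_ff (LP (LK LD1_c10 LD2_c24 LD3_c41)) = (LP (LK LD1_c10 LD2_c25 LD3_c21)) :=
  Lgr Lrot3 (Lpr_ft (f364551 IH) (Lpn (LP (LK LD1_c10 LD2_c25 LD3_c21))))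
theorem f284917 : Led Lsl_ct (LP (LK LD1_c10 LD2_c43 LD3_c30)) = (LP (LK LD1_c10 LD2_c25 LD3_c21)) :=
  Lgr Lrot8 (Lpr_gt (K17.f284914 IH) (Lpr_dt (K17.f53594 IH) (Lpr_gt (K10.f49332 IH) (Lpr_dt (K15.f49316 IH) (Lpe (K10.f49687 IH) (Lpe (K10.f188318 IH) (Lpe (K10.f165616 IH) (Lpe (K17.f188308 IH) (Lpe (K17.f188406 IH) (Lpn (LP (LK LD1_c10 LD2_c25 LD3_c21))))))))))))
theorem f364570 : Led Lsl_ft (LP (LK LD1_c10 LD2_c47 LD3_c37)) = (LP (LK LD1_c10 LD2_c43 LD3_c30)) :=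
  Lgr Lrot4 (Lpe (K17.f284847 IH) (Lpr_ff (f364564 IH) (Lpe (f284917 IH) (Lpn (LP (LK LD1_c10 LD2_c43 LD3_c30))))))
theorem f284849 : Led Lsl_gt (LP (LK LD1_c10 LD2_c47 LD3_c37)) = (LP (LK LD1_c8 LD2_c15 LD3_c23)) :=
  Lgr Lrot187 (Lpe (K17.f284847 IH) (Lpr_gf (K17.f284831 IH) (Lpr_dt (K17.f189513 IH) (Lpr_gt (K10.f189506 IH) (Lpr_ct (K9.f49792 IH) (Lpe (K10.f53602 IH) (Lpr_ct (K10.f191519 IH) (Lpr_dt (K17.f32524 IH) (Lpe (K17.f214678 IH) (Lpn (LP (LK LD1_c8 LD2_c15 LD3_c23))))))))))))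
theorem f364581 : Led Lsl_af (LP (LK LD1_c10 LD2_c47 LD3_c41)) = (LP (LK LD1_c10 LD2_c43 LD3_c30)) :=
  Lgr Lrot31 (Lpr_gf (K17.f236146 IH) (Lpe (f284849 IH) (Lpr_ft (f364570 IH) (Lpn (LP (LK LD1_c10 LD2_c43 LD3_c30))))))
theorem f364583 : Led Lsl_at (LP (LK LD1_c5 LD2_c28 LD3_c18)) = (LP (LK LD1_c5 LD2_c26 LD3_c6)) :=
  Lgr Lrot51 (Lpe (K17.f236145 IH) (Lpr_af (f364581 IH) (Lpe (K17.f191169 IH) (Lpn (LP (LK LD1_c5 LD2_c26 LD3_c6))))))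
theorem f364625 : Led Lsl_ff (LP (LK LD1_c5 LD2_c28 LD3_c18)) = (LP (LK LD1_c5 LD2_c15 LD3_c43)) :=
  Lgr Lrot52 (Lpr_at (f364583 IH) (Lpr_gf (K23.f284919 IH) (Lpe (K16.f192104 IH) (Lpn (LP (LK LD1_c5 LD2_c15 LD3_c43))))))
theorem f364633 : Led Lsl_ft (LP (LK LD1_c5 LD2_c28 LD3_c18)) = (LP (LK LD1_c5 LD2_c15 LD3_c43)) :=
  Lgr Lrot48 (Lpr_ff (f364625 IH) (Lpn (LP (LK LD1_c5 LD2_c15 LD3_c43))))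
theorem f364639 : Led Lsl_af (LP (LK LD1_c5 LD2_c28 LD3_c12)) = (LP (LK LD1_c5 LD2_c15 LD3_c43)) :=
  Lgr Lrot31 (Lpr_gf (K15.f259197 IH) (Lpr_gf (K15.f259335 IH) (Lpr_ft (f364633 IH) (Lpn (LP (LK LD1_c5 LD2_c15 LD3_c43))))))
theorem f364621 : Led Lsl_af (LP (LK LD1_c5 LD2_c28 LD3_c18)) = (LP (LK LD1_c5 LD2_c26 LD3_c6)) :=
  Lgr Lrot0 (Lpr_at (f364583 IH) (Lpn (LP (LK LD1_c5 LD2_c26 LD3_c6))))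
theorem f364647 : Led Lsl_ft (LP (LK LD1_c5 LD2_c28 LD3_c12)) = (LP (LK LD1_c5 LD2_c26 LD3_c6)) :=
  Lgr Lrot101 (Lpr_af (f364639 IH) (Lpe (f364633 IH) (Lpr_af (f364621 IH) (Lpn (LP (LK LD1_c5 LD2_c26 LD3_c6))))))
theorem f252622 : Led Lsl_bt (LP (LK LD1_c10 LD2_c47 LD3_c36)) = (LP (LK LD1_c5 LD2_c28 LD3_c12)) :=
  Lre_b IH (LK LD1_c10 LD2_c47 LD3_c36) (LK LD1_c5 LD2_c28 LD3_c12) Lrfl Lrfl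
theorem f214721 : Led Lsl_bt (LP (LK LD1_c5 LD2_c26 LD3_c6)) = (LP (LK LD1_c10 LD2_c43 LD3_c29)) :=
  Lre_b IH (LK LD1_c5 LD2_c26 LD3_c6) (LK LD1_c10 LD2_c43 LD3_c29) Lrfl Lrfl
theorem f364649 : Led Lsl_ff (LP (LK LD1_c10 LD2_c47 LD3_c36)) = (LP (LK LD1_c10 LD2_c43 LD3_c29)) :=
  Lgr Lrot25 (Lpr_bt (f252622 IH) (Lpr_ft (f364647 IH) (Lpr_bt (f214721 IH) (Lpn (LP (LK LD1_c10 LD2_c43 LD3_c29))))))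
theorem f314308 : Led Lsl_at (LP (LK LD1_c10 LD2_c47 LD3_c36)) = (LP (LK LD1_c19 LD2_c31 LD3_c24)) :=
  Lre_a IH (LK LD1_c10 LD2_c47 LD3_c36) (LK LD1_c19 LD2_c31 LD3_c24) Lrfl Lrfl
theorem f246266 : Led Lsl_gt (LP (LK LD1_c10 LD2_c43 LD3_c29)) = (LP (LK LD1_c19 LD2_c24 LD3_c29)) :=
  Lre_g IH (LK LD1_c10 LD2_c43 LD3_c29) (LK LD1_c19 LD2_c24 LD3_c29) Lrfl Lrfl
theorem f364659 : Led Lsl_gf (LP (LK LD1_c19 LD2_c31 LD3_c24)) = (LP (LK LD1_c19 LD2_c24 LD3_c29)) :=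
  Lgr Lrot76 (Lpe (f314308 IH) (Lpr_ff (f364649 IH) (Lpr_gt (f246266 IH) (Lpn (LP (LK LD1_c19 LD2_c24 LD3_c29))))))
theorem f314295 : Led Lsl_ct (LP (LK LD1_c9 LD2_c53 LD3_c3)) = (LP (LK LD1_c15 LD2_c29 LD3_c47)) :=
  Lgr Lrot7 (Lpe (K15.f252689 IH) (Lpe (K20.f314279 IH) (Lpe (K18.f28019 IH) (Lpe (K21.f218999 IH) (Lpr_cf (K22.f314286 IH) (Lpr_gt (K21.f233815 IH) (Lpr_dt (K21.f216395 IH) (Lpr_gt (K21.f233800 IH) (Lpe (K21.f233808 IH) (Lpn (LP (LK LD1_c15 LD2_c29 LD3_c47))))))))))))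
theorem f252687 : Led Lsl_bt (LP (LK LD1_c5 LD2_c28 LD3_c13)) = (LP (LK LD1_c9 LD2_c53 LD3_c3)) :=
  Lgr Lrot127 (Lpr_bf (K15.f252685 IH) (Lpn (LP (LK LD1_c9 LD2_c53 LD3_c3))))
theorem f252661 : Led Lsl_ct (LP (LK LD1_c10 LD2_c47 LD3_c38)) = (LP (LK LD1_c5 LD2_c28 LD3_c13)) :=
  Lre_c IH (LK LD1_c10 LD2_c47 LD3_c38) (LK LD1_c5 LD2_c28 LD3_c13) Lrfl Lrfl
theorem f252987 : Led Lsl_bt (LP (LK LD1_c19 LD2_c31 LD3_c26)) = (LP (LK LD1_c10 LD2_c47 LD3_c38)) :=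
  Lre_b IH (LK LD1_c19 LD2_c31 LD3_c26) (LK LD1_c10 LD2_c47 LD3_c38) Lrfl Lrfl
theorem f233829 : Led Lsl_bt (LP (LK LD1_c15 LD2_c29 LD3_c47)) = (LP (LK LD1_c25 LD2_c22 LD3_c56)) :=
  Lre_b IH (LK LD1_c15 LD2_c29 LD3_c47) (LK LD1_c25 LD2_c22 LD3_c56) Lrfl Lrfl
theorem f314297 : Led Lsl_cf (LP (LK LD1_c19 LD2_c31 LD3_c26)) = (LP (LK LD1_c25 LD2_c22 LD3_c56)) :=
  Lgr Lrot97 (Lpr_bt (f252987 IH) (Lpr_ct (f252661 IH) (Lpr_bt (f252687 IH) (Lpr_ct (f314295 IH) (Lpr_bt (f233829 IH) (Lpn (LP (LK LD1_c25 LD2_c22 LD3_c56))))))))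
theorem f314301 : Led Lsl_et (LP (LK LD1_c19 LD2_c31 LD3_c26)) = (LP (LK LD1_c10 LD2_c47 LD3_c36)) :=
  Lre_e IH (LK LD1_c19 LD2_c31 LD3_c26) (LK LD1_c10 LD2_c47 LD3_c36) Lrfl Lrfl
theorem f233838 : Led Lsl_et (LP (LK LD1_c15 LD2_c29 LD3_c46)) = (LP (LK LD1_c25 LD2_c22 LD3_c56)) :=
  Lre_e IH (LK LD1_c15 LD2_c29 LD3_c46) (LK LD1_c25 LD2_c22 LD3_c56) Lrfl Lrfl
theorem f314302 : Led Lsl_ct (LP (LK LD1_c10 LD2_c47 LD3_c36)) = (LP (LK LD1_c15 LD2_c29 LD3_c46)) :=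
  Lgr Lrot15 (Lpe (f314301 IH) (Lpr_cf (f314297 IH) (Lpe (f233838 IH) (Lpn (LP (LK LD1_c15 LD2_c29 LD3_c46))))))
theorem f290965 : Led Lsl_at (LP (LK LD1_c19 LD2_c31 LD3_c24)) = (LP (LK LD1_c10 LD2_c47 LD3_c36)) :=
  Lre_a IH (LK LD1_c19 LD2_c31 LD3_c24) (LK LD1_c10 LD2_c47 LD3_c36) Lrfl Lrfl
theorem f290963 : Led Lsl_at (LP (LK LD1_c15 LD2_c29 LD3_c46)) = (LP (LK LD1_c25 LD2_c22 LD3_c55)) :=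
  Lre_a IH (LK LD1_c15 LD2_c29 LD3_c46) (LK LD1_c25 LD2_c22 LD3_c55) Lrfl Lrfl
theorem f314304 : Led Lsl_cf (LP (LK LD1_c19 LD2_c31 LD3_c24)) = (LP (LK LD1_c25 LD2_c22 LD3_c55)) :=
  Lgr Lrot1 (Lpr_at (f290965 IH) (Lpr_ct (f314302 IH) (Lpr_at (f290963 IH) (Lpn (LP (LK LD1_c25 LD2_c22 LD3_c55))))))
theorem f314306 : Led Lsl_ct (LP (LK LD1_c19 LD2_c31 LD3_c24)) = (LP (LK LD1_c25 LD2_c22 LD3_c55)) :=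
  Lgr Lrot59 (Lpr_cf (f314304 IH) (Lpn (LP (LK LD1_c25 LD2_c22 LD3_c55))))
theorem f273986 : Led Lsl_at (LP (LK LD1_c19 LD2_c24 LD3_c42)) = (LP (LK LD1_c10 LD2_c43 LD3_c34)) :=
  Lre_a IH (LK LD1_c19 LD2_c24 LD3_c42) (LK LD1_c10 LD2_c43 LD3_c34) Lrfl Lrfl
theorem f273863 : Led Lsl_at (LP (LK LD1_c11 LD2_c54 LD3_c33)) = (LP (LK LD1_c20 LD2_c59 LD3_c5)) :=
  Lre_a IH (LK LD1_c11 LD2_c54 LD3_c33) (LK LD1_c20 LD2_c59 LD3_c5) Lrfl Lrfl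
theorem f273987 : Led Lsl_ft (LP (LK LD1_c10 LD2_c43 LD3_c34)) = (LP (LK LD1_c11 LD2_c54 LD3_c33)) :=
  Lgr Lrot101 (Lpe (f273986 IH) (Lpr_ff (K17.f273984 IH) (Lpe (f273863 IH) (Lpn (LP (LK LD1_c11 LD2_c54 LD3_c33))))))
theorem f266490 : Led Lsl_bt (LP (LK LD1_c10 LD2_c43 LD3_c34)) = (LP (LK LD1_c5 LD2_c26 LD3_c8)) :=
  Lre_b IH (LK LD1_c10 LD2_c43 LD3_c34) (LK LD1_c5 LD2_c26 LD3_c8) Lrfl Lrfl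
theorem f266491 : Led Lsl_bt (LP (LK LD1_c5 LD2_c4 LD3_c58)) = (LP (LK LD1_c10 LD2_c0 LD3_c59)) :=
  Lre_b IH (LK LD1_c5 LD2_c4 LD3_c58) (LK LD1_c10 LD2_c0 LD3_c59) Lrfl Lrfl
theorem f266492 : Led Lsl_cf (LP (LK LD1_c10 LD2_c43 LD3_c34)) = (LP (LK LD1_c10 LD2_c0 LD3_c59)) :=
  Lgr Lrot97 (Lpr_bt (f266490 IH) (Lpe (K23.f251282 IH) (Lpr_bt (K12.f195605 IH) (Lpr_ct (K15.f266485 IH) (Lpr_bt (f266491 IH) (Lpn (LP (LK LD1_c10 LD2_c0 LD3_c59))))))))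
theorem f273674 : Led Lsl_bt (LP (LK LD1_c5 LD2_c30 LD3_c7)) = (LP (LK LD1_c10 LD2_c51 LD3_c40)) :=
  Lre_b IH (LK LD1_c5 LD2_c30 LD3_c7) (LK LD1_c10 LD2_c51 LD3_c40) Lrfl Lrfl
theorem f239879 : Led Lsl_bt (LP (LK LD1_c17 LD2_c43 LD3_c28)) = (LP (LK LD1_c9 LD2_c37 LD3_c51)) :=
  Lre_b IH (LK LD1_c17 LD2_c43 LD3_c28) (LK LD1_c9 LD2_c37 LD3_c51) Lrfl Lrfl
theorem f273694 : Led Lsl_ct (LP (LK LD1_c10 LD2_c51 LD3_c40)) = (LP (LK LD1_c17 LD2_c43 LD3_c28)) :=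
  Lgr Lrot83 (Lpe (f273674 IH) (Lpr_cf (K16.f273689 IH) (Lpe (K15.f239865 IH) (Lpe (K17.f239857 IH) (Lpe (f239879 IH) (Lpn (LP (LK LD1_c17 LD2_c43 LD3_c28))))))))
theorem f273837 : Led Lsl_cf (LP (LK LD1_c10 LD2_c51 LD3_c40)) = (LP (LK LD1_c17 LD2_c43 LD3_c28)) :=
  Lgr Lrot11 (Lpr_ct (f273694 IH) (Lpn (LP (LK LD1_c17 LD2_c43 LD3_c28))))
theorem f273675 : Led Lsl_et (LP (LK LD1_c10 LD2_c51 LD3_c40)) = (LP (LK LD1_c11 LD2_c54 LD3_c33)) :=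
  Lgr Lrot74 (Lpe (f273674 IH) (Lpr_ef (K16.f273661 IH) (Lpe (K17.f188242 IH) (Lpn (LP (LK LD1_c11 LD2_c54 LD3_c33))))))
theorem f241926 : Led Lsl_bt (LP (LK LD1_c5 LD2_c12 LD3_c43)) = (LP (LK LD1_c10 LD2_c15 LD3_c49)) :=
  Lre_b IH (LK LD1_c5 LD2_c12 LD3_c43) (LK LD1_c10 LD2_c15 LD3_c49) Lrfl Lrfl
theorem f241943 : Led Lsl_et (LP (LK LD1_c10 LD2_c15 LD3_c49)) = (LP (LK LD1_c17 LD2_c43 LD3_c28)) :=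
  Lgr Lrot74 (Lpe (f241926 IH) (Lpr_ef (K17.f241924 IH) (Lpe (f239879 IH) (Lpn (LP (LK LD1_c17 LD2_c43 LD3_c28))))))
theorem f273844 : Led Lsl_ct (LP (LK LD1_c11 LD2_c54 LD3_c33)) = (LP (LK LD1_c10 LD2_c15 LD3_c49)) :=
  Lgr Lrot15 (Lpe (f273675 IH) (Lpr_cf (f273837 IH) (Lpe (f241943 IH) (Lpn (LP (LK LD1_c10 LD2_c15 LD3_c49))))))
theorem f274016 : Led Lsl_ff (LP (LK LD1_c10 LD2_c0 LD3_c59)) = (LP (LK LD1_c10 LD2_c15 LD3_c49)) :=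
  Lgr Lrot23 (Lpe (f266492 IH) (Lpr_ft (f273987 IH) (Lpr_ct (f273844 IH) (Lpn (LP (LK LD1_c10 LD2_c15 LD3_c49))))))
theorem f274029 : Led Lsl_ft (LP (LK LD1_c10 LD2_c0 LD3_c59)) = (LP (LK LD1_c10 LD2_c15 LD3_c49)) :=
  Lgr Lrot48 (Lpr_ff (f274016 IH) (Lpn (LP (LK LD1_c10 LD2_c15 LD3_c49))))
theorem f240911 : Led Lsl_df (LP (LK LD1_c0 LD2_c58 LD3_c34)) = (LP (LK LD1_c1 LD2_c13 LD3_c36)) :=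
  Lgr Lrot38 (Lpr_dt (K13.f240897 IH) (Lpn (LP (LK LD1_c1 LD2_c13 LD3_c36))))
theorem f239669 : Led Lsl_ct (LP (LK LD1_c0 LD2_c58 LD3_c34)) = (LP (LK LD1_c1 LD2_c12 LD3_c53)) :=
  Lgr Lrot59 (Lpr_cf (K13.f239663 IH) (Lpn (LP (LK LD1_c1 LD2_c12 LD3_c53))))
theorem f240945 : Led Lsl_ct (LP (LK LD1_c2 LD2_c59 LD3_c45)) = (LP (LK LD1_c5 LD2_c12 LD3_c43)) :=
  Lgr Lrot176 (Lpr_df (K13.f239516 IH) (Lpe (K13.f166423 IH) (Lpe (K12.f227291 IH) (Lpe (K16.f212012 IH) (Lpe (K13.f192638 IH) (Lpr_cf (K13.f239493 IH) (Lpr_df (K13.f225611 IH) (Lpe (K13.f191112 IH) (Lpe (K13.f22113 IH) (Lpe (f239669 IH) (Lpr_df (f240911 IH) (Lpe (K13.f201654 IH) (Lpe (K13.f240918 IH) (Lpe (K16.f240933 IH) (Lpr_df (K13.f240938 IH) (Lpn (LP (LK LD1_c5 LD2_c12 LD3_c43))))))))))))))))))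
theorem f257858 : Led Lsl_ct (LP (LK LD1_c10 LD2_c15 LD3_c49)) = (LP (LK LD1_c11 LD2_c54 LD3_c33)) :=
  Lgr Lrot83 (Lpe (f241926 IH) (Lpe (f240945 IH) (Lpr_bf (K15.f257843 IH) (Lpe (K15.f257816 IH) (Lpe (K17.f188242 IH) (Lpn (LP (LK LD1_c11 LD2_c54 LD3_c33))))))))
theorem f274038 : Led Lsl_cf (LP (LK LD1_c10 LD2_c0 LD3_c59)) = (LP (LK LD1_c10 LD2_c43 LD3_c34)) :=
  Lgr Lrot108 (Lpr_ft (f274029 IH) (Lpr_ct (f257858 IH) (Lpe (K17.f273994 IH) (Lpn (LP (LK LD1_c10 LD2_c43 LD3_c34))))))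
theorem f274050 : Led Lsl_gt (LP (LK LD1_c18 LD2_c18 LD3_c9)) = (LP (LK LD1_c10 LD2_c0 LD3_c59)) :=
  Lre_g IH (LK LD1_c18 LD2_c18 LD3_c9) (LK LD1_c10 LD2_c0 LD3_c59) Lrfl Lrfl
theorem f274051 : Led Lsl_ct (LP (LK LD1_c27 LD2_c56 LD3_c56)) = (LP (LK LD1_c18 LD2_c18 LD3_c9)) :=
  Lre_c IH (LK LD1_c27 LD2_c56 LD3_c56) (LK LD1_c18 LD2_c18 LD3_c9) Lrfl Lrfl
theorem f274054 : Led Lsl_bt (LP (LK LD1_c27 LD2_c56 LD3_c56)) = (LP (LK LD1_c19 LD2_c24 LD3_c29)) :=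
  Lgr Lrot92 (Lpr_ct (f274051 IH) (Lpr_gt (f274050 IH) (Lpr_cf (f274038 IH) (Lpr_bt (f266490 IH) (Lpr_gt (K12.f192579 IH) (Lpr_ct (K12.f191149 IH) (Lpr_gt (K13.f182501 IH) (Lpe (K18.f191167 IH) (Lpr_bt (f214721 IH) (Lpr_gt (f246266 IH) (Lpn (LP (LK LD1_c19 LD2_c24 LD3_c29)))))))))))))
theorem f274035 : Led Lsl_at (LP (LK LD1_c18 LD2_c18 LD3_c10)) = (LP (LK LD1_c10 LD2_c0 LD3_c59)) :=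
  Lre_a IH (LK LD1_c18 LD2_c18 LD3_c10) (LK LD1_c10 LD2_c0 LD3_c59) Lrfl Lrfl
theorem f241990 : Led Lsl_at (LP (LK LD1_c10 LD2_c15 LD3_c49)) = (LP (LK LD1_c18 LD2_c40 LD3_c2)) :=
  Lre_a IH (LK LD1_c10 LD2_c15 LD3_c49) (LK LD1_c18 LD2_c40 LD3_c2) Lrfl Lrfl
theorem f274036 : Led Lsl_ff (LP (LK LD1_c18 LD2_c18 LD3_c10)) = (LP (LK LD1_c18 LD2_c40 LD3_c2)) :=
  Lgr Lrot30 (Lpr_at (f274035 IH) (Lpr_ft (f274029 IH) (Lpr_at (f241990 IH) (Lpn (LP (LK LD1_c18 LD2_c40 LD3_c2))))))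
theorem f274068 : Led Lsl_gf (LP (LK LD1_c18 LD2_c18 LD3_c9)) = (LP (LK LD1_c18 LD2_c40 LD3_c2)) :=
  Lgr Lrot47 (Lpr_gt (f274050 IH) (Lpe (f274035 IH) (Lpr_ff (f274036 IH) (Lpn (LP (LK LD1_c18 LD2_c40 LD3_c2))))))
theorem f273848 : Led Lsl_cf (LP (LK LD1_c20 LD2_c59 LD3_c5)) = (LP (LK LD1_c18 LD2_c40 LD3_c2)) :=
  Lgr Lrot1 (Lpr_at (K17.f264128 IH) (Lpr_ct (f273844 IH) (Lpr_at (f241990 IH) (Lpn (LP (LK LD1_c18 LD2_c40 LD3_c2))))))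
theorem f273861 : Led Lsl_ct (LP (LK LD1_c20 LD2_c59 LD3_c5)) = (LP (LK LD1_c18 LD2_c40 LD3_c2)) :=
  Lgr Lrot59 (Lpr_cf (f273848 IH) (Lpn (LP (LK LD1_c18 LD2_c40 LD3_c2))))
theorem f279806 : Led Lsl_at (LP (LK LD1_c5 LD2_c12 LD3_c43)) = (LP (LK LD1_c5 LD2_c4 LD3_c59)) :=
  Lgr Lrot80 (Lpr_ef (K17.f241924 IH) (Lpr_af (K20.f279756 IH) (Lpr_ef (K23.f265299 IH) (Lpn (LP (LK LD1_c5 LD2_c4 LD3_c59))))))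
theorem f240942 : Led Lsl_bt (LP (LK LD1_c10 LD2_c15 LD3_c49)) = (LP (LK LD1_c5 LD2_c12 LD3_c43)) :=
  Lre_b IH (LK LD1_c10 LD2_c15 LD3_c49) (LK LD1_c5 LD2_c12 LD3_c43) Lrfl Lrfl
theorem f241992 : Led Lsl_at (LP (LK LD1_c18 LD2_c40 LD3_c2)) = (LP (LK LD1_c10 LD2_c15 LD3_c49)) :=
  Lre_a IH (LK LD1_c18 LD2_c40 LD3_c2) (LK LD1_c10 LD2_c15 LD3_c49) Lrfl Lrfl
theorem f265295 : Led Lsl_bt (LP (LK LD1_c5 LD2_c4 LD3_c59)) = (LP (LK LD1_c10 LD2_c1 LD3_c0)) :=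
  Lre_b IH (LK LD1_c5 LD2_c4 LD3_c59) (LK LD1_c10 LD2_c1 LD3_c0) Lrfl Lrfl
theorem f279808 : Led Lsl_at (LP (LK LD1_c10 LD2_c1 LD3_c0)) = (LP (LK LD1_c18 LD2_c18 LD3_c17)) :=
  Lre_a IH (LK LD1_c10 LD2_c1 LD3_c0) (LK LD1_c18 LD2_c18 LD3_c17) Lrfl Lrfl
theorem f279809 : Led Lsl_bf (LP (LK LD1_c18 LD2_c40 LD3_c2)) = (LP (LK LD1_c18 LD2_c18 LD3_c17)) :=
  Lgr Lrot81 (Lpr_at (f241992 IH) (Lpr_bt (f240942 IH) (Lpr_at (f279806 IH) (Lpr_bt (f265295 IH) (Lpr_at (f279808 IH) (Lpn (LP (LK LD1_c18 LD2_c18 LD3_c17))))))))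
theorem f279811 : Led Lsl_bt (LP (LK LD1_c18 LD2_c40 LD3_c2)) = (LP (LK LD1_c18 LD2_c18 LD3_c17)) :=
  Lgr Lrot127 (Lpr_bf (f279809 IH) (Lpn (LP (LK LD1_c18 LD2_c18 LD3_c17))))
theorem f273968 : Led Lsl_at (LP (LK LD1_c20 LD2_c56 LD3_c1)) = (LP (LK LD1_c11 LD2_c52 LD3_c50)) :=
  Lre_a IH (LK LD1_c20 LD2_c56 LD3_c1) (LK LD1_c11 LD2_c52 LD3_c50) Lrfl Lrfl
theorem f273969 : Led Lsl_cf (LP (LK LD1_c20 LD2_c56 LD3_c1)) = (LP (LK LD1_c19 LD2_c24 LD3_c35)) :=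
  Lgr Lrot1 (Lpr_at (f273968 IH) (Lpr_ct (K25.f273961 IH) (Lpr_at (K17.f264129 IH) (Lpn (LP (LK LD1_c19 LD2_c24 LD3_c35))))))
theorem f273982 : Led Lsl_ct (LP (LK LD1_c20 LD2_c56 LD3_c1)) = (LP (LK LD1_c19 LD2_c24 LD3_c35)) :=
  Lgr Lrot59 (Lpr_cf (f273969 IH) (Lpn (LP (LK LD1_c19 LD2_c24 LD3_c35))))
theorem f279814 : Led Lsl_ct (LP (LK LD1_c18 LD2_c18 LD3_c17)) = (LP (LK LD1_c27 LD2_c57 LD3_c1)) :=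
  Lre_c IH (LK LD1_c18 LD2_c18 LD3_c17) (LK LD1_c27 LD2_c57 LD3_c1) Lrfl Lrfl
theorem f279816 : Led Lsl_bf (LP (LK LD1_c20 LD2_c56 LD3_c1)) = (LP (LK LD1_c27 LD2_c57 LD3_c1)) :=
  Lgr Lrot90 (Lpr_ct (f273982 IH) (Lpe (K17.f264130 IH) (Lpr_ct (f273861 IH) (Lpr_bt (f279811 IH) (Lpr_ct (f279814 IH) (Lpn (LP (LK LD1_c27 LD2_c57 LD3_c1))))))))
theorem f279821 : Led Lsl_bt (LP (LK LD1_c20 LD2_c56 LD3_c1)) = (LP (LK LD1_c27 LD2_c57 LD3_c1)) :=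
  Lgr Lrot127 (Lpr_bf (f279816 IH) (Lpn (LP (LK LD1_c27 LD2_c57 LD3_c1))))
theorem f279813 : Led Lsl_ct (LP (LK LD1_c27 LD2_c57 LD3_c1)) = (LP (LK LD1_c18 LD2_c18 LD3_c17)) :=
  Lre_c IH (LK LD1_c27 LD2_c57 LD3_c1) (LK LD1_c18 LD2_c18 LD3_c17) Lrfl Lrfl
theorem f279824 : Led Lsl_bf (LP (LK LD1_c19 LD2_c24 LD3_c35)) = (LP (LK LD1_c20 LD2_c59 LD3_c5)) :=
  Lgr Lrot90 (Lpe (f273969 IH) (Lpr_bt (f279821 IH) (Lpr_ct (f279813 IH) (Lpe (f279809 IH) (Lpe (f273848 IH) (Lpn (LP (LK LD1_c20 LD2_c59 LD3_c5))))))))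
theorem f263505 : Led Lsl_gt (LP (LK LD1_c11 LD2_c54 LD3_c31)) = (LP (LK LD1_c20 LD2_c58 LD3_c61)) :=
  Lre_g IH (LK LD1_c11 LD2_c54 LD3_c31) (LK LD1_c20 LD2_c58 LD3_c61) Lrfl Lrfl
theorem f273953 : Led Lsl_gt (LP (LK LD1_c20 LD2_c58 LD3_c61)) = (LP (LK LD1_c19 LD2_c24 LD3_c35)) :=
  Lgr Lrot46 (Lpe (f263505 IH) (Lpr_ft (K17.f273944 IH) (Lpr_at (K17.f264129 IH) (Lpn (LP (LK LD1_c19 LD2_c24 LD3_c35))))))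
theorem f273955 : Led Lsl_bt (LP (LK LD1_c29 LD2_c47 LD3_c41)) = (LP (LK LD1_c20 LD2_c58 LD3_c61)) :=
  Lre_b IH (LK LD1_c29 LD2_c47 LD3_c41) (LK LD1_c20 LD2_c58 LD3_c61) Lrfl Lrfl
theorem f350252 : Led Lsl_ef (LP (LK LD1_c5 LD2_c39 LD3_c9)) = (LP (LK LD1_c6 LD2_c6 LD3_c58)) :=
  Lgr Lrot88 (Lpr_et (K24.f350241 IH) (Lpn (LP (LK LD1_c6 LD2_c6 LD3_c58))))
theorem f228307 : Led Lsl_bt (LP (LK LD1_c5 LD2_c39 LD3_c9)) = (LP (LK LD1_c11 LD2_c9 LD3_c20)) :=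
  Lre_b IH (LK LD1_c5 LD2_c39 LD3_c9) (LK LD1_c11 LD2_c9 LD3_c20) Lrfl Lrfl
theorem f265709 : Led Lsl_bt (LP (LK LD1_c11 LD2_c56 LD3_c50)) = (LP (LK LD1_c6 LD2_c6 LD3_c58)) :=
  Lre_b IH (LK LD1_c11 LD2_c56 LD3_c50) (LK LD1_c6 LD2_c6 LD3_c58) Lrfl Lrfl
theorem f350254 : Led Lsl_et (LP (LK LD1_c11 LD2_c9 LD3_c20)) = (LP (LK LD1_c11 LD2_c56 LD3_c50)) :=
  Lgr Lrot74 (Lpe (f228307 IH) (Lpr_ef (f350252 IH) (Lpe (f265709 IH) (Lpn (LP (LK LD1_c11 LD2_c56 LD3_c50))))))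
theorem f238572 : Led Lsl_bt (LP (LK LD1_c15 LD2_c38 LD3_c27)) = (LP (LK LD1_c8 LD2_c18 LD3_c57)) :=
  Lre_b IH (LK LD1_c15 LD2_c38 LD3_c27) (LK LD1_c8 LD2_c18 LD3_c57) Lrfl Lrfl
theorem f238573 : Led Lsl_ct (LP (LK LD1_c11 LD2_c9 LD3_c20)) = (LP (LK LD1_c15 LD2_c38 LD3_c27)) :=
  Lgr Lrot83 (Lpe (f228307 IH) (Lpr_cf (K19.f228305 IH) (Lpr_bf (K20.f238555 IH) (Lpe (K20.f238571 IH) (Lpe (f238572 IH) (Lpn (LP (LK LD1_c15 LD2_c38 LD3_c27))))))))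
theorem f238582 : Led Lsl_cf (LP (LK LD1_c11 LD2_c9 LD3_c20)) = (LP (LK LD1_c15 LD2_c38 LD3_c27)) :=
  Lgr Lrot11 (Lpr_ct (f238573 IH) (Lpn (LP (LK LD1_c15 LD2_c38 LD3_c27))))
theorem f301126 : Led Lsl_bt (LP (LK LD1_c7 LD2_c58 LD3_c4)) = (LP (LK LD1_c3 LD2_c58 LD3_c23)) :=
  Lre_b IH (LK LD1_c7 LD2_c58 LD3_c4) (LK LD1_c3 LD2_c58 LD3_c23) Lrfl Lrfl
theorem f306697 : Led Lsl_gt (LP (LK LD1_c8 LD2_c18 LD3_c57)) = (LP (LK LD1_c15 LD2_c1 LD3_c50)) :=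
  Lgr Lrot65 (Lpe (K20.f238577 IH) (Lpe (K20.f238555 IH) (Lpr_gf (K19.f305636 IH) (Lpe (K15.f256751 IH) (Lpe (K19.f305638 IH) (Lpe (K19.f228319 IH) (Lpe (K19.f228318 IH) (Lpr_gf (K19.f306693 IH) (Lpe (f301126 IH) (Lpr_ct (f301080 IH) (Lpn (LP (LK LD1_c15 LD2_c1 LD3_c50)))))))))))))
theorem f234763 : Led Lsl_et (LP (LK LD1_c7 LD2_c58 LD3_c3)) = (LP (LK LD1_c15 LD2_c1 LD3_c50)) :=
  Lre_e IH (LK LD1_c7 LD2_c58 LD3_c3) (LK LD1_c15 LD2_c1 LD3_c50) Lrfl Lrfl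
theorem f251273 : Led Lsl_gf (LP (LK LD1_c10 LD2_c43 LD3_c30)) = (LP (LK LD1_c8 LD2_c16 LD3_c6)) :=
  Lgr Lrot143 (Lpr_dt (K17.f191168 IH) (Lpe (K13.f182502 IH) (Lpe (K13.f246261 IH) (Lpe (K13.f175065 IH) (Lpr_df (K14.f251267 IH) (Lpe (K14.f188043 IH) (Lpe (K11.f49314 IH) (Lpr_gt (K10.f49326 IH) (Lpr_dt (K17.f49327 IH) (Lpn (LP (LK LD1_c8 LD2_c16 LD3_c6))))))))))))
theorem f306706 : Led Lsl_ef (LP (LK LD1_c8 LD2_c18 LD3_c57)) = (LP (LK LD1_c5 LD2_c26 LD3_c6)) :=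
  Lgr Lrot114 (Lpr_gt (f306697 IH) (Lpe (f234763 IH) (Lpe (K14.f234753 IH) (Lpr_gt (K14.f49329 IH) (Lpe (K12.f49328 IH) (Lpe (K9.f49297 IH) (Lpr_gt (K10.f49326 IH) (Lpr_dt (K17.f49327 IH) (Lpe (f251273 IH) (Lpe (K17.f191169 IH) (Lpn (LP (LK LD1_c5 LD2_c26 LD3_c6)))))))))))))
theorem f306713 : Led Lsl_et (LP (LK LD1_c8 LD2_c18 LD3_c57)) = (LP (LK LD1_c5 LD2_c26 LD3_c6)) :=
  Lgr Lrot87 (Lpr_ef (f306706 IH) (Lpn (LP (LK LD1_c5 LD2_c26 LD3_c6))))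
theorem f306715 : Led Lsl_ef (LP (LK LD1_c15 LD2_c38 LD3_c27)) = (LP (LK LD1_c10 LD2_c43 LD3_c29)) :=
  Lgr Lrot29 (Lpr_bt (f238572 IH) (Lpr_et (f306713 IH) (Lpr_bt (f214721 IH) (Lpn (LP (LK LD1_c10 LD2_c43 LD3_c29))))))
theorem f350259 : Led Lsl_cf (LP (LK LD1_c10 LD2_c43 LD3_c29)) = (LP (LK LD1_c11 LD2_c56 LD3_c50)) :=
  Lgr Lrot39 (Lpe (f306715 IH) (Lpe (f238582 IH) (Lpr_et (f350254 IH) (Lpn (LP (LK LD1_c11 LD2_c56 LD3_c50))))))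
theorem f350269 : Led Lsl_ct (LP (LK LD1_c10 LD2_c43 LD3_c29)) = (LP (LK LD1_c11 LD2_c56 LD3_c50)) :=
  Lgr Lrot59 (Lpr_cf (f350259 IH) (Lpn (LP (LK LD1_c11 LD2_c56 LD3_c50))))
theorem f191170 : Led Lsl_bt (LP (LK LD1_c10 LD2_c43 LD3_c29)) = (LP (LK LD1_c5 LD2_c26 LD3_c6)) :=
  Lre_b IH (LK LD1_c10 LD2_c43 LD3_c29) (LK LD1_c5 LD2_c26 LD3_c6) Lrfl Lrfl
theorem f263550 : Led Lsl_bt (LP (LK LD1_c6 LD2_c5 LD3_c28)) = (LP (LK LD1_c11 LD2_c54 LD3_c31)) :=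
  Lre_b IH (LK LD1_c6 LD2_c5 LD3_c28) (LK LD1_c11 LD2_c54 LD3_c31) Lrfl Lrfl
theorem f350262 : Led Lsl_gt (LP (LK LD1_c21 LD2_c1 LD3_c46)) = (LP (LK LD1_c11 LD2_c56 LD3_c50)) :=
  Lre_g IH (LK LD1_c21 LD2_c1 LD3_c46) (LK LD1_c11 LD2_c56 LD3_c50) Lrfl Lrfl
theorem f350287 : Led Lsl_ct (LP (LK LD1_c29 LD2_c47 LD3_c41)) = (LP (LK LD1_c21 LD2_c1 LD3_c46)) :=
  Lgr Lrot64 (Lpr_bt (f273955 IH) (Lpe (f263505 IH) (Lpe (f263550 IH) (Lpr_ct (K15.f261388 IH) (Lpe (K10.f48235 IH) (Lpe (K13.f49190 IH) (Lpe (K13.f191156 IH) (Lpe (f191170 IH) (Lpr_ct (f350269 IH) (Lpe (f350262 IH) (Lpn (LP (LK LD1_c21 LD2_c1 LD3_c46)))))))))))))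
theorem f364661 : Led Lsl_gt (LP (LK LD1_c25 LD2_c22 LD3_c55)) = (LP (LK LD1_c21 LD2_c1 LD3_c46)) :=
  Lgr Lrot149 (Lpe (f314306 IH) (Lpr_gf (f364659 IH) (Lpe (f274054 IH) (Lpr_ct (f274051 IH) (Lpr_gf (f274068 IH) (Lpe (f273861 IH) (Lpe (f279824 IH) (Lpe (f273953 IH) (Lpe (f273955 IH) (Lpr_ct (f350287 IH) (Lpn (LP (LK LD1_c21 LD2_c1 LD3_c46)))))))))))))
theorem f350266 : Led Lsl_at (LP (LK LD1_c21 LD2_c1 LD3_c47)) = (LP (LK LD1_c11 LD2_c56 LD3_c50)) :=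
  Lre_a IH (LK LD1_c21 LD2_c1 LD3_c47) (LK LD1_c11 LD2_c56 LD3_c50) Lrfl Lrfl
theorem f364663 : Led Lsl_ft (LP (LK LD1_c25 LD2_c22 LD3_c55)) = (LP (LK LD1_c21 LD2_c1 LD3_c47)) :=
  Lgr Lrot2 (Lpr_gt (f364661 IH) (Lpr_gt (f350262 IH) (Lpe (f350266 IH) (Lpn (LP (LK LD1_c21 LD2_c1 LD3_c47))))))
theorem f364665 : Led Lsl_ff (LP (LK LD1_c15 LD2_c29 LD3_c46)) = (LP (LK LD1_c11 LD2_c56 LD3_c50)) :=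
  Lgr Lrot30 (Lpr_at (f290963 IH) (Lpr_ft (f364663 IH) (Lpr_at (f350266 IH) (Lpn (LP (LK LD1_c11 LD2_c56 LD3_c50))))))
theorem f233764 : Led Lsl_bt (LP (LK LD1_c15 LD2_c29 LD3_c46)) = (LP (LK LD1_c8 LD2_c14 LD3_c12)) :=
  Lre_b IH (LK LD1_c15 LD2_c29 LD3_c46) (LK LD1_c8 LD2_c14 LD3_c12) Lrfl Lrfl
theorem f274647 : Led Lsl_bt (LP (LK LD1_c6 LD2_c6 LD3_c58)) = (LP (LK LD1_c11 LD2_c56 LD3_c50)) :=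
  Lre_b IH (LK LD1_c6 LD2_c6 LD3_c58) (LK LD1_c11 LD2_c56 LD3_c50) Lrfl Lrfl
theorem f364676 : Led Lsl_ft (LP (LK LD1_c8 LD2_c14 LD3_c12)) = (LP (LK LD1_c6 LD2_c6 LD3_c58)) :=
  Lgr Lrot75 (Lpe (f233764 IH) (Lpr_ff (f364665 IH) (Lpe (f274647 IH) (Lpn (LP (LK LD1_c6 LD2_c6 LD3_c58))))))
theorem f364686 : Led Lsl_af (LP (LK LD1_c8 LD2_c14 LD3_c11)) = (LP (LK LD1_c6 LD2_c6 LD3_c58)) :=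
  Lgr Lrot31 (Lpe (K15.f233750 IH) (Lpe (K14.f190944 IH) (Lpr_ft (f364676 IH) (Lpn (LP (LK LD1_c6 LD2_c6 LD3_c58))))))
theorem f364696 : Led Lsl_at (LP (LK LD1_c8 LD2_c8 LD3_c3)) = (LP (LK LD1_c5 LD2_c39 LD3_c9)) :=
  Lgr Lrot80 (Lpr_ef (K20.f265754 IH) (Lpr_af (f364686 IH) (Lpe (K24.f350241 IH) (Lpn (LP (LK LD1_c5 LD2_c39 LD3_c9))))))
theorem f364704 : Led Lsl_af (LP (LK LD1_c15 LD2_c18 LD3_c58)) = (LP (LK LD1_c11 LD2_c9 LD3_c21)) :=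
  Lgr Lrot117 (Lpr_dt (K23.f237113 IH) (Lpr_at (f364696 IH) (Lpr_dt (K24.f228310 IH) (Lpn (LP (LK LD1_c11 LD2_c9 LD3_c21))))))
theorem f364712 : Led Lsl_ft (LP (LK LD1_c15 LD2_c18 LD3_c54)) = (LP (LK LD1_c11 LD2_c9 LD3_c21)) :=
  Lgr Lrot2 (Lpr_gt (K23.f326596 IH) (Lpr_gt (K23.f342117 IH) (Lpr_af (f364704 IH) (Lpn (LP (LK LD1_c11 LD2_c9 LD3_c21))))))
theorem f364720 : Led Lsl_ff (LP (LK LD1_c15 LD2_c18 LD3_c54)) = (LP (LK LD1_c11 LD2_c9 LD3_c21)) :=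
  Lgr Lrot3 (Lpr_ft (f364712 IH) (Lpn (LP (LK LD1_c11 LD2_c9 LD3_c21))))
theorem f227002 : Led Lsl_dt (LP (LK LD1_c15 LD2_c18 LD3_c54)) = (LP (LK LD1_c8 LD2_c8 LD3_c0)) :=
  Lre_d IH (LK LD1_c15 LD2_c18 LD3_c54) (LK LD1_c8 LD2_c8 LD3_c0) Lrfl Lrfl
theorem f364724 : Led Lsl_ft (LP (LK LD1_c8 LD2_c8 LD3_c0)) = (LP (LK LD1_c5 LD2_c39 LD3_c9)) :=
  Lgr Lrot54 (Lpe (f227002 IH) (Lpr_ff (f364720 IH) (Lpe (K24.f228310 IH) (Lpn (LP (LK LD1_c5 LD2_c39 LD3_c9))))))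
theorem f364684 : Led Lsl_ff (LP (LK LD1_c8 LD2_c14 LD3_c12)) = (LP (LK LD1_c6 LD2_c6 LD3_c58)) :=
  Lgr Lrot3 (Lpr_ft (f364676 IH) (Lpn (LP (LK LD1_c6 LD2_c6 LD3_c58))))
theorem f364730 : Led Lsl_ff (LP (LK LD1_c15 LD2_c18 LD3_c55)) = (LP (LK LD1_c15 LD2_c29 LD3_c47)) :=
  Lgr Lrot72 (Lpr_et (K25.f326602 IH) (Lpr_ft (f364724 IH) (Lpr_et (K24.f350241 IH) (Lpe (f364684 IH) (Lpr_et (K21.f233810 IH) (Lpn (LP (LK LD1_c15 LD2_c29 LD3_c47))))))))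
theorem f228338 : Led Lsl_et (LP (LK LD1_c5 LD2_c39 LD3_c8)) = (LP (LK LD1_c11 LD2_c9 LD3_c19)) :=
  Lre_e IH (LK LD1_c5 LD2_c39 LD3_c8) (LK LD1_c11 LD2_c9 LD3_c19) Lrfl Lrfl
theorem f328720 : Led Lsl_gf (LP (LK LD1_c11 LD2_c9 LD3_c19)) = (LP (LK LD1_c18 LD2_c5 LD3_c37)) :=
  Lgr Lrot141 (Lpe (f228338 IH) (Lpr_dt (K24.f228270 IH) (Lpr_gt (K24.f228271 IH) (Lpr_df (K24.f228272 IH) (Lpr_et (K24.f52989 IH) (Lpr_gt (K23.f28008 IH) (Lpr_dt (K23.f27990 IH) (Lpr_gt (K23.f52389 IH) (Lpr_df (K23.f328712 IH) (Lpe (K23.f323761 IH) (Lpn (LP (LK LD1_c18 LD2_c5 LD3_c37)))))))))))))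
theorem f364740 : Led Lsl_at (LP (LK LD1_c15 LD2_c18 LD3_c55)) = (LP (LK LD1_c11 LD2_c9 LD3_c19)) :=
  Lgr Lrot26 (Lpr_ff (f364730 IH) (Lpr_gt (K23.f328718 IH) (Lpe (f328720 IH) (Lpn (LP (LK LD1_c11 LD2_c9 LD3_c19))))))
theorem f228274 : Led Lsl_et (LP (LK LD1_c11 LD2_c9 LD3_c19)) = (LP (LK LD1_c5 LD2_c39 LD3_c8)) :=
  Lre_e IH (LK LD1_c11 LD2_c9 LD3_c19) (LK LD1_c5 LD2_c39 LD3_c8) Lrfl Lrfl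
theorem f364746 : Led Lsl_af (LP (LK LD1_c8 LD2_c8 LD3_c0)) = (LP (LK LD1_c5 LD2_c39 LD3_c8)) :=
  Lgr Lrot50 (Lpr_et (K23.f342114 IH) (Lpr_at (f364740 IH) (Lpr_et (f228274 IH) (Lpn (LP (LK LD1_c5 LD2_c39 LD3_c8))))))
theorem f364698 : Led Lsl_af (LP (LK LD1_c8 LD2_c8 LD3_c3)) = (LP (LK LD1_c5 LD2_c39 LD3_c9)) :=
  Lgr Lrot0 (Lpr_at (f364696 IH) (Lpn (LP (LK LD1_c5 LD2_c39 LD3_c9))))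
theorem f364754 : Led Lsl_ft (LP (LK LD1_c8 LD2_c8 LD3_c3)) = (LP (LK LD1_c5 LD2_c39 LD3_c8)) :=
  Lgr Lrot101 (Lpr_af (f364698 IH) (Lpe (f364724 IH) (Lpr_af (f364746 IH) (Lpn (LP (LK LD1_c5 LD2_c39 LD3_c8))))))
theorem f364761 : Led Lsl_ff (LP (LK LD1_c8 LD2_c8 LD3_c3)) = (LP (LK LD1_c5 LD2_c39 LD3_c8)) :=
  Lgr Lrot3 (Lpr_ft (f364754 IH) (Lpn (LP (LK LD1_c5 LD2_c39 LD3_c8))))
theorem f216628 : Led Lsl_ct (LP (LK LD1_c8 LD2_c18 LD3_c34)) = (LP (LK LD1_c4 LD2_c9 LD3_c17)) :=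
  Lre_c IH (LK LD1_c8 LD2_c18 LD3_c34) (LK LD1_c4 LD2_c9 LD3_c17) Lrfl Lrfl
theorem f216610 : Led Lsl_ct (LP (LK LD1_c25 LD2_c32 LD3_c48)) = (LP (LK LD1_c15 LD2_c37 LD3_c46)) :=
  Lre_c IH (LK LD1_c25 LD2_c32 LD3_c48) (LK LD1_c15 LD2_c37 LD3_c46) Lrfl Lrfl
theorem f228389 : Led Lsl_ct (LP (LK LD1_c11 LD2_c9 LD3_c18)) = (LP (LK LD1_c20 LD2_c3 LD3_c31)) :=
  Lre_c IH (LK LD1_c11 LD2_c9 LD3_c18) (LK LD1_c20 LD2_c3 LD3_c31) Lrfl Lrfl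
theorem f364769 : Led Lsl_df (LP (LK LD1_c25 LD2_c32 LD3_c48)) = (LP (LK LD1_c20 LD2_c3 LD3_c31)) :=
  Lgr Lrot106 (Lpr_ct (f216610 IH) (Lpr_dt (K23.f216618 IH) (Lpr_ct (f216628 IH) (Lpe (K15.f238527 IH) (Lpe (K19.f228305 IH) (Lpe (f364696 IH) (Lpr_ff (f364761 IH) (Lpr_dt (K24.f228270 IH) (Lpr_ct (f228389 IH) (Lpn (LP (LK LD1_c20 LD2_c3 LD3_c31))))))))))))
theorem f228311 : Led Lsl_ct (LP (LK LD1_c11 LD2_c9 LD3_c21)) = (LP (LK LD1_c20 LD2_c3 LD3_c36)) :=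
  Lre_c IH (LK LD1_c11 LD2_c9 LD3_c21) (LK LD1_c20 LD2_c3 LD3_c36) Lrfl Lrfl
theorem f237110 : Led Lsl_ct (LP (LK LD1_c15 LD2_c18 LD3_c58)) = (LP (LK LD1_c25 LD2_c9 LD3_c59)) :=
  Lre_c IH (LK LD1_c15 LD2_c18 LD3_c58) (LK LD1_c25 LD2_c9 LD3_c59) Lrfl Lrfl
theorem f228313 : Led Lsl_ct (LP (LK LD1_c20 LD2_c3 LD3_c36)) = (LP (LK LD1_c11 LD2_c9 LD3_c21)) :=
  Lre_c IH (LK LD1_c20 LD2_c3 LD3_c36) (LK LD1_c11 LD2_c9 LD3_c21) Lrfl Lrfl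
theorem f364708 : Led Lsl_at (LP (LK LD1_c25 LD2_c9 LD3_c59)) = (LP (LK LD1_c20 LD2_c3 LD3_c36)) :=
  Lgr Lrot107 (Lpe (f237110 IH) (Lpr_af (f364704 IH) (Lpe (f228313 IH) (Lpn (LP (LK LD1_c20 LD2_c3 LD3_c36))))))
theorem f364774 : Led Lsl_ff (LP (LK LD1_c25 LD2_c9 LD3_c59)) = (LP (LK LD1_c20 LD2_c3 LD3_c31)) :=
  Lgr Lrot103 (Lpr_at (f364708 IH) (Lpe (f228311 IH) (Lpe (K24.f228310 IH) (Lpr_cf (K19.f228305 IH) (Lpr_df (K15.f238527 IH) (Lpe (f216628 IH) (Lpe (K23.f216618 IH) (Lpe (f216610 IH) (Lpr_df (f364769 IH) (Lpn (LP (LK LD1_c20 LD2_c3 LD3_c31))))))))))))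
theorem f228390 : Led Lsl_gt (LP (LK LD1_c20 LD2_c3 LD3_c31)) = (LP (LK LD1_c29 LD2_c16 LD3_c58)) :=
  Lre_g IH (LK LD1_c20 LD2_c3 LD3_c31) (LK LD1_c29 LD2_c16 LD3_c58) Lrfl Lrfl
theorem f364782 : Led Lsl_gf (LP (LK LD1_c20 LD2_c3 LD3_c36)) = (LP (LK LD1_c29 LD2_c16 LD3_c58)) :=
  Lgr Lrot76 (Lpe (f364708 IH) (Lpr_ff (f364774 IH) (Lpr_gt (f228390 IH) (Lpn (LP (LK LD1_c29 LD2_c16 LD3_c58))))))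
theorem f293280 : Led Lsl_gf (LP (LK LD1_c15 LD2_c18 LD3_c12)) = (LP (LK LD1_c17 LD2_c43 LD3_c17)) :=
  Lgr Lrot47 (Lpr_gt (K23.f200926 IH) (Lpr_af (K23.f293274 IH) (Lpe (K23.f187964 IH) (Lpn (LP (LK LD1_c17 LD2_c43 LD3_c17))))))
theorem f187967 : Led Lsl_dt (LP (LK LD1_c9 LD2_c37 LD3_c37)) = (LP (LK LD1_c17 LD2_c43 LD3_c17)) :=
  Lre_d IH (LK LD1_c9 LD2_c37 LD3_c37) (LK LD1_c17 LD2_c43 LD3_c17) Lrfl Lrfl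
theorem f256725 : Led Lsl_ft (LP (LK LD1_c8 LD2_c7 LD3_c61)) = (LP (LK LD1_c4 LD2_c3 LD3_c47)) :=
  Lre_f IH (LK LD1_c8 LD2_c7 LD3_c61) (LK LD1_c4 LD2_c3 LD3_c47) Lrfl Lrfl
theorem f256726 : Led Lsl_et (LP (LK LD1_c9 LD2_c37 LD3_c37)) = (LP (LK LD1_c8 LD2_c7 LD3_c61)) :=
  Lgr Lrot69 (Lpe (K25.f256724 IH) (Lpe (K15.f244045 IH) (Lpr_ff (K15.f256716 IH) (Lpe (K16.f226981 IH) (Lpe (f256725 IH) (Lpn (LP (LK LD1_c8 LD2_c7 LD3_c61))))))))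
theorem f325986 : Led Lsl_et (LP (LK LD1_c15 LD2_c23 LD3_c14)) = (LP (LK LD1_c8 LD2_c10 LD3_c12)) :=
  Lre_e IH (LK LD1_c15 LD2_c23 LD3_c14) (LK LD1_c8 LD2_c10 LD3_c12) Lrfl Lrfl
theorem f216345 : Led Lsl_gt (LP (LK LD1_c24 LD2_c58 LD3_c14)) = (LP (LK LD1_c15 LD2_c9 LD3_c14)) :=
  Lre_g IH (LK LD1_c24 LD2_c58 LD3_c14) (LK LD1_c15 LD2_c9 LD3_c14) Lrfl Lrfl
theorem f227084 : Led Lsl_ft (LP (LK LD1_c15 LD2_c19 LD3_c38)) = (LP (LK LD1_c8 LD2_c8 LD3_c22)) :=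
  Lre_f IH (LK LD1_c15 LD2_c19 LD3_c38) (LK LD1_c8 LD2_c8 LD3_c22) Lrfl Lrfl
theorem f269336 : Led Lsl_gf (LP (LK LD1_c24 LD2_c58 LD3_c14)) = (LP (LK LD1_c15 LD2_c19 LD3_c38)) :=
  Lgr Lrot47 (Lpr_gt (f216345 IH) (Lpr_af (K16.f269326 IH) (Lpe (f227084 IH) (Lpn (LP (LK LD1_c15 LD2_c19 LD3_c38))))))
theorem f346394 : Led Lsl_dt (LP (LK LD1_c15 LD2_c23 LD3_c14)) = (LP (LK LD1_c24 LD2_c58 LD3_c14)) :=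
  Lgr Lrot56 (Lpr_et (f325986 IH) (Lpr_gt (K21.f325950 IH) (Lpe (f256726 IH) (Lpr_dt (f187967 IH) (Lpe (f293280 IH) (Lpe (K23.f346392 IH) (Lpr_et (K23.f346390 IH) (Lpe (K23.f304348 IH) (Lpr_dt (f269303 IH) (Lpe (f269336 IH) (Lpn (LP (LK LD1_c24 LD2_c58 LD3_c14)))))))))))))
theorem f216347 : Led Lsl_gf (LP (LK LD1_c8 LD2_c36 LD3_c55)) = (LP (LK LD1_c15 LD2_c22 LD3_c2)) :=
  Lgr Lrot138 (Lpr_dt (K23.f216335 IH) (Lpr_gt (K23.f28020 IH) (Lpe (K18.f28019 IH) (Lpr_et (K16.f28018 IH) (Lpr_gt (K12.f27976 IH) (Lpe (K9.f27969 IH) (Lpr_dt (K9.f27970 IH) (Lpr_gt (K15.f28000 IH) (Lpe (K15.f28016 IH) (Lpr_et (K15.f28017 IH) (Lpn (LP (LK LD1_c15 LD2_c22 LD3_c2)))))))))))))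
theorem f52592 : Led Lsl_gt (LP (LK LD1_c8 LD2_c28 LD3_c35)) = (LP (LK LD1_c15 LD2_c54 LD3_c59)) :=
  Lre_g IH (LK LD1_c8 LD2_c28 LD3_c35) (LK LD1_c15 LD2_c54 LD3_c59) Lrfl Lrfl
theorem f28002 : Led Lsl_ct (LP (LK LD1_c15 LD2_c22 LD3_c1)) = (LP (LK LD1_c8 LD2_c9 LD3_c29)) :=
  Lre_c IH (LK LD1_c15 LD2_c22 LD3_c1) (LK LD1_c8 LD2_c9 LD3_c29) Lrfl Lrfl
theorem f313139 : Led Lsl_dt (LP (LK LD1_c15 LD2_c54 LD3_c59)) = (LP (LK LD1_c15 LD2_c22 LD3_c1)) :=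
  Lgr Lrot105 (Lpe (f52592 IH) (Lpe (K10.f27453 IH) (Lpr_gf (K21.f313129 IH) (Lpe (K21.f27999 IH) (Lpr_gt (K15.f27998 IH) (Lpr_dt (K9.f27970 IH) (Lpr_gt (K15.f28000 IH) (Lpr_dt (K21.f28001 IH) (Lpe (f28002 IH) (Lpn (LP (LK LD1_c15 LD2_c22 LD3_c1))))))))))))
theorem f313144 : Led Lsl_df (LP (LK LD1_c15 LD2_c54 LD3_c59)) = (LP (LK LD1_c15 LD2_c22 LD3_c1)) :=
  Lgr Lrot38 (Lpr_dt (f313139 IH) (Lpn (LP (LK LD1_c15 LD2_c22 LD3_c1))))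
theorem f52617 : Led Lsl_at (LP (LK LD1_c15 LD2_c53 LD3_c9)) = (LP (LK LD1_c15 LD2_c53 LD3_c8)) :=
  Lgr Lrot100 (Lpr_af (K10.f52613 IH) (Lpn (LP (LK LD1_c15 LD2_c53 LD3_c8))))
theorem f52903 : Led Lsl_gt (LP (LK LD1_c15 LD2_c54 LD3_c59)) = (LP (LK LD1_c15 LD2_c53 LD3_c8)) :=
  Lgr Lrot46 (Lpe (f52592 IH) (Lpr_ft (K10.f27466 IH) (Lpr_at (f52617 IH) (Lpn (LP (LK LD1_c15 LD2_c53 LD3_c8))))))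
theorem f52347 : Led Lsl_dt (LP (LK LD1_c15 LD2_c21 LD3_c58)) = (LP (LK LD1_c25 LD2_c7 LD3_c46)) :=
  Lgr Lrot32 (Lpe (K10.f27991 IH) (Lpe (K23.f27990 IH) (Lpr_ft (K21.f52346 IH) (Lpe (K21.f52327 IH) (Lpr_cf (K10.f52332 IH) (Lpe (K10.f28022 IH) (Lpe (K10.f52342 IH) (Lpe (K10.f52334 IH) (Lpe (K10.f51237 IH) (Lpn (LP (LK LD1_c25 LD2_c7 LD3_c46))))))))))))
theorem f51023 : Led Lsl_dt (LP (LK LD1_c15 LD2_c53 LD3_c8)) = (LP (LK LD1_c8 LD2_c28 LD3_c34)) :=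
  Lre_d IH (LK LD1_c15 LD2_c53 LD3_c8) (LK LD1_c8 LD2_c28 LD3_c34) Lrfl Lrfl
theorem f52564 : Led Lsl_et (LP (LK LD1_c8 LD2_c28 LD3_c34)) = (LP (LK LD1_c4 LD2_c50 LD3_c45)) :=
  Lgr Lrot71 (Lpe (f51023 IH) (Lpe (K10.f51020 IH) (Lpe (f52347 IH) (Lpr_ef (K10.f52560 IH) (Lpe (K10.f27591 IH) (Lpn (LP (LK LD1_c4 LD2_c50 LD3_c45))))))))
theorem f195966 : Led Lsl_et (LP (LK LD1_c5 LD2_c36 LD3_c6)) = (LP (LK LD1_c11 LD2_c4 LD3_c33)) :=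
  Lre_e IH (LK LD1_c5 LD2_c36 LD3_c6) (LK LD1_c11 LD2_c4 LD3_c33) Lrfl Lrfl
theorem f195967 : Led Lsl_gt (LP (LK LD1_c11 LD2_c4 LD3_c33)) = (LP (LK LD1_c19 LD2_c57 LD3_c11)) :=
  Lre_g IH (LK LD1_c11 LD2_c4 LD3_c33) (LK LD1_c19 LD2_c57 LD3_c11) Lrfl Lrfl
theorem f313147 : Led Lsl_ef (LP (LK LD1_c19 LD2_c57 LD3_c11)) = (LP (LK LD1_c15 LD2_c22 LD3_c1)) :=
  Lgr Lrot17 (Lpe (f195967 IH) (Lpe (f195966 IH) (Lpr_dt (K15.f195965 IH) (Lpe (K15.f195958 IH) (Lpe (K15.f195957 IH) (Lpr_gf (K13.f195955 IH) (Lpe (f52564 IH) (Lpr_dt (K10.f51238 IH) (Lpe (f52903 IH) (Lpr_df (f313144 IH) (Lpn (LP (LK LD1_c15 LD2_c22 LD3_c1)))))))))))))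
theorem f28006 : Led Lsl_ct (LP (LK LD1_c8 LD2_c9 LD3_c29)) = (LP (LK LD1_c15 LD2_c22 LD3_c1)) :=
  Lre_c IH (LK LD1_c8 LD2_c9 LD3_c29) (LK LD1_c15 LD2_c22 LD3_c1) Lrfl Lrfl
theorem f313149 : Led Lsl_ct (LP (LK LD1_c19 LD2_c57 LD3_c11)) = (LP (LK LD1_c15 LD2_c22 LD3_c2)) :=
  Lgr Lrot15 (Lpr_ef (f313147 IH) (Lpe (f28006 IH) (Lpe (K15.f259127 IH) (Lpn (LP (LK LD1_c15 LD2_c22 LD3_c2))))))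
theorem f346401 : Led Lsl_gf (LP (LK LD1_c15 LD2_c23 LD3_c14)) = (LP (LK LD1_c19 LD2_c57 LD3_c11)) :=
  Lgr Lrot144 (Lpr_dt (f346394 IH) (Lpr_gt (f216345 IH) (Lpr_dt (K16.f216344 IH) (Lpe (K25.f216346 IH) (Lpe (K16.f216342 IH) (Lpe (K23.f28020 IH) (Lpe (K23.f216335 IH) (Lpr_gf (f216347 IH) (Lpe (f313149 IH) (Lpn (LP (LK LD1_c19 LD2_c57 LD3_c11))))))))))))
theorem f313135 : Led Lsl_et (LP (LK LD1_c15 LD2_c22 LD3_c8)) = (LP (LK LD1_c8 LD2_c9 LD3_c32)) :=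
  Lre_e IH (LK LD1_c15 LD2_c22 LD3_c8) (LK LD1_c8 LD2_c9 LD3_c32) Lrfl Lrfl
theorem f238545 : Led Lsl_dt (LP (LK LD1_c15 LD2_c22 LD3_c8)) = (LP (LK LD1_c25 LD2_c13 LD3_c48)) :=
  Lre_d IH (LK LD1_c15 LD2_c22 LD3_c8) (LK LD1_c25 LD2_c13 LD3_c48) Lrfl Lrfl
theorem f346406 : Led Lsl_gt (LP (LK LD1_c15 LD2_c23 LD3_c13)) = (LP (LK LD1_c25 LD2_c13 LD3_c48)) :=
  Lgr Lrot112 (Lpe (K24.f291152 IH) (Lpr_et (K24.f332905 IH) (Lpr_gf (f346401 IH) (Lpr_ef (f313147 IH) (Lpe (f313144 IH) (Lpe (f52592 IH) (Lpe (K10.f27453 IH) (Lpr_gf (K21.f313129 IH) (Lpe (f313135 IH) (Lpr_dt (f238545 IH) (Lpn (LP (LK LD1_c25 LD2_c13 LD3_c48)))))))))))))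
theorem f364784 : Led Lsl_ct (LP (LK LD1_c25 LD2_c13 LD3_c48)) = (LP (LK LD1_c29 LD2_c16 LD3_c58)) :=
  Lgr Lrot152 (Lpe (f346406 IH) (Lpe (K24.f291152 IH) (Lpr_gt (K21.f325950 IH) (Lpr_ct (K21.f256754 IH) (Lpe (K19.f305636 IH) (Lpe (K19.f228305 IH) (Lpe (K24.f228312 IH) (Lpe (f228313 IH) (Lpr_gf (f364782 IH) (Lpn (LP (LK LD1_c29 LD2_c16 LD3_c58))))))))))))
theorem f364787 : Led Lsl_cf (LP (LK LD1_c25 LD2_c13 LD3_c48)) = (LP (LK LD1_c29 LD2_c16 LD3_c58)) :=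
  Lgr Lrot11 (Lpr_ct (f364784 IH) (Lpn (LP (LK LD1_c29 LD2_c16 LD3_c58))))
theorem f348723 : Led Lsl_cf (LP (LK LD1_c15 LD2_c9 LD3_c29)) = (LP (LK LD1_c15 LD2_c54 LD3_c7)) :=
  Lgr Lrot11 (Lpr_ct (K24.f348720 IH) (Lpn (LP (LK LD1_c15 LD2_c54 LD3_c7))))
theorem f355222 : Led Lsl_ct (LP (LK LD1_c17 LD2_c45 LD3_c10)) = (LP (LK LD1_c9 LD2_c38 LD3_c57)) :=
  Lre_c IH (LK LD1_c17 LD2_c45 LD3_c10) (LK LD1_c9 LD2_c38 LD3_c57) Lrfl Lrfl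
theorem f355236 : Led Lsl_gf (LP (LK LD1_c15 LD2_c54 LD3_c7)) = (LP (LK LD1_c17 LD2_c45 LD3_c10)) :=
  Lgr Lrot144 (Lpe (K25.f244355 IH) (Lpr_gt (K25.f244069 IH) (Lpr_dt (K25.f244068 IH) (Lpe (K19.f224906 IH) (Lpe (K19.f199255 IH) (Lpe (K22.f199267 IH) (Lpr_df (K25.f244059 IH) (Lpr_gf (K25.f355234 IH) (Lpe (f355222 IH) (Lpn (LP (LK LD1_c17 LD2_c45 LD3_c10))))))))))))
theorem f228358 : Led Lsl_gt (LP (LK LD1_c20 LD2_c3 LD3_c30)) = (LP (LK LD1_c11 LD2_c9 LD3_c18)) :=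
  Lre_g IH (LK LD1_c20 LD2_c3 LD3_c30) (LK LD1_c11 LD2_c9 LD3_c18) Lrfl Lrfl
theorem f364792 : Led Lsl_df (LP (LK LD1_c17 LD2_c45 LD3_c10)) = (LP (LK LD1_c20 LD2_c3 LD3_c30)) :=
  Lgr Lrot155 (Lpe (f355236 IH) (Lpe (f348723 IH) (Lpe (K24.f310547 IH) (Lpr_ct (K25.f238543 IH) (Lpr_dt (f238545 IH) (Lpr_cf (f364787 IH) (Lpe (f228390 IH) (Lpe (f228389 IH) (Lpe (f228358 IH) (Lpn (LP (LK LD1_c20 LD2_c3 LD3_c30))))))))))))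
theorem f314961 : Led Lsl_gt (LP (LK LD1_c2 LD2_c45 LD3_c33)) = (LP (LK LD1_c4 LD2_c4 LD3_c44)) :=
  Lgr Lrot46 (Lpe (K22.f196972 IH) (Lpr_ft (K19.f314830 IH) (Lpr_at (K19.f314948 IH) (Lpn (LP (LK LD1_c4 LD2_c4 LD3_c44))))))
theorem f245971 : Led Lsl_bt (LP (LK LD1_c5 LD2_c39 LD3_c12)) = (LP (LK LD1_c2 LD2_c45 LD3_c33)) :=
  Lre_b IH (LK LD1_c5 LD2_c39 LD3_c12) (LK LD1_c2 LD2_c45 LD3_c33) Lrfl Lrfl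
theorem f245972 : Led Lsl_ct (LP (LK LD1_c5 LD2_c39 LD3_c12)) = (LP (LK LD1_c11 LD2_c9 LD3_c26)) :=
  Lre_c IH (LK LD1_c5 LD2_c39 LD3_c12) (LK LD1_c11 LD2_c9 LD3_c26) Lrfl Lrfl
theorem f260423 : Led Lsl_bf (LP (LK LD1_c4 LD2_c16 LD3_c10)) = (LP (LK LD1_c4 LD2_c21 LD3_c52)) :=
  Lgr Lrot96 (Lpr_et (K18.f260421 IH) (Lpe (K13.f192159 IH) (Lpe (K19.f227223 IH) (Lpn (LP (LK LD1_c4 LD2_c21 LD3_c52))))))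
theorem f282905 : Led Lsl_ct (LP (LK LD1_c4 LD2_c15 LD3_c58)) = (LP (LK LD1_c8 LD2_c30 LD3_c55)) :=
  Lre_c IH (LK LD1_c4 LD2_c15 LD3_c58) (LK LD1_c8 LD2_c30 LD3_c55) Lrfl Lrfl
theorem f332761 : Led Lsl_gf (LP (LK LD1_c11 LD2_c9 LD3_c26)) = (LP (LK LD1_c8 LD2_c30 LD3_c55)) :=
  Lgr Lrot129 (Lpe (f245972 IH) (Lpr_bt (f245971 IH) (Lpr_gt (f314961 IH) (Lpe (K15.f199238 IH) (Lpr_ct (K20.f199242 IH) (Lpr_gt (K22.f332757 IH) (Lpe (K14.f43138 IH) (Lpe (f260423 IH) (Lpr_gt (K18.f301434 IH) (Lpr_ct (f282905 IH) (Lpn (LP (LK LD1_c8 LD2_c30 LD3_c55)))))))))))))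
theorem f238547 : Led Lsl_bt (LP (LK LD1_c4 LD2_c19 LD3_c14)) = (LP (LK LD1_c4 LD2_c9 LD3_c27)) :=
  Lgr Lrot95 (Lpr_df (K15.f238527 IH) (Lpe (K20.f238546 IH) (Lpe (K21.f234472 IH) (Lpn (LP (LK LD1_c4 LD2_c9 LD3_c27))))))
theorem f332763 : Led Lsl_gt (LP (LK LD1_c8 LD2_c10 LD3_c10)) = (LP (LK LD1_c5 LD2_c39 LD3_c9)) :=
  Lgr Lrot149 (Lpe (K25.f314954 IH) (Lpe (f314961 IH) (Lpe (f245971 IH) (Lpr_ct (f245972 IH) (Lpr_gf (f332761 IH) (Lpe (f282905 IH) (Lpr_bt (K17.f282894 IH) (Lpe (K21.f323369 IH) (Lpe (f238547 IH) (Lpe (K19.f228305 IH) (Lpn (LP (LK LD1_c5 LD2_c39 LD3_c9)))))))))))))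
theorem f364795 : Led Lsl_gt (LP (LK LD1_c11 LD2_c9 LD3_c21)) = (LP (LK LD1_c20 LD2_c3 LD3_c30)) :=
  Lgr Lrot49 (Lpe (K24.f228310 IH) (Lpe (f332763 IH) (Lpe (K25.f314954 IH) (Lpe (K20.f315823 IH) (Lpr_dt (K14.f216442 IH) (Lpr_gt (K25.f355229 IH) (Lpr_dt (K25.f355225 IH) (Lpe (f355222 IH) (Lpr_df (f364792 IH) (Lpn (LP (LK LD1_c20 LD2_c3 LD3_c30))))))))))))
theorem f350191 : Led Lsl_ef (LP (LK LD1_c8 LD2_c10 LD3_c10)) = (LP (LK LD1_c8 LD2_c27 LD3_c42)) :=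
  Lgr Lrot88 (Lpr_et (K24.f350185 IH) (Lpn (LP (LK LD1_c8 LD2_c27 LD3_c42))))
theorem f314496 : Led Lsl_dt (LP (LK LD1_c15 LD2_c53 LD3_c24)) = (LP (LK LD1_c8 LD2_c27 LD3_c42)) :=
  Lre_d IH (LK LD1_c15 LD2_c53 LD3_c24) (LK LD1_c8 LD2_c27 LD3_c42) Lrfl Lrfl
theorem f350572 : Led Lsl_gt (LP (LK LD1_c15 LD2_c22 LD3_c35)) = (LP (LK LD1_c15 LD2_c53 LD3_c24)) :=
  Lgr Lrot49 (Lpr_df (K24.f350562 IH) (Lpe (K24.f189199 IH) (Lpe (K20.f189177 IH) (Lpr_gt (K22.f212971 IH) (Lpr_dt (K22.f332782 IH) (Lpr_gt (K23.f348960 IH) (Lpr_dt (K23.f231566 IH) (Lpe (K19.f314942 IH) (Lpe (f314496 IH) (Lpn (LP (LK LD1_c15 LD2_c53 LD3_c24))))))))))))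
theorem f226796 : Led Lsl_ct (LP (LK LD1_c25 LD2_c8 LD3_c43)) = (LP (LK LD1_c31 LD2_c47 LD3_c28)) :=
  Lre_c IH (LK LD1_c25 LD2_c8 LD3_c43) (LK LD1_c31 LD2_c47 LD3_c28) Lrfl Lrfl
theorem f340265 : Led Lsl_ct (LP (LK LD1_c18 LD2_c14 LD3_c11)) = (LP (LK LD1_c27 LD2_c54 LD3_c30)) :=
  Lre_c IH (LK LD1_c18 LD2_c14 LD3_c11) (LK LD1_c27 LD2_c54 LD3_c30) Lrfl Lrfl
theorem f274723 : Led Lsl_dt (LP (LK LD1_c27 LD2_c46 LD3_c11)) = (LP (LK LD1_c18 LD2_c4 LD3_c43)) :=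
  Lre_d IH (LK LD1_c27 LD2_c46 LD3_c11) (LK LD1_c18 LD2_c4 LD3_c43) Lrfl Lrfl
theorem f339794 : Led Lsl_ct (LP (LK LD1_c18 LD2_c27 LD3_c39)) = (LP (LK LD1_c10 LD2_c8 LD3_c7)) :=
  Lre_c IH (LK LD1_c18 LD2_c27 LD3_c39) (LK LD1_c10 LD2_c8 LD3_c7) Lrfl Lrfl
theorem f339813 : Led Lsl_gf (LP (LK LD1_c18 LD2_c27 LD3_c39)) = (LP (LK LD1_c18 LD2_c4 LD3_c37)) :=
  Lgr Lrot172 (Lpr_ct (f339794 IH) (Lpr_dt (K22.f339788 IH) (Lpe (K21.f296243 IH) (Lpr_gf (K18.f296238 IH) (Lpe (K18.f244004 IH) (Lpe (K18.f184821 IH) (Lpr_dt (K18.f192236 IH) (Lpr_gt (K18.f192251 IH) (Lpr_ct (K24.f332880 IH) (Lpn (LP (LK LD1_c18 LD2_c4 LD3_c37))))))))))))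
theorem f252732 : Led Lsl_dt (LP (LK LD1_c18 LD2_c4 LD3_c37)) = (LP (LK LD1_c27 LD2_c46 LD3_c5)) :=
  Lre_d IH (LK LD1_c18 LD2_c4 LD3_c37) (LK LD1_c27 LD2_c46 LD3_c5) Lrfl Lrfl
theorem f350487 : Led Lsl_gt (LP (LK LD1_c27 LD2_c46 LD3_c5)) = (LP (LK LD1_c18 LD2_c14 LD3_c11)) :=
  Lgr Lrot9 (Lpe (f252732 IH) (Lpe (f339813 IH) (Lpr_ct (f339794 IH) (Lpr_gt (K22.f339811 IH) (Lpr_ct (K22.f274715 IH) (Lpe (f274723 IH) (Lpe (K24.f274727 IH) (Lpr_gf (K24.f350485 IH) (Lpe (f340265 IH) (Lpn (LP (LK LD1_c18 LD2_c14 LD3_c11))))))))))))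
theorem f350496 : Led Lsl_dt (LP (LK LD1_c29 LD2_c15 LD3_c46)) = (LP (LK LD1_c28 LD2_c3 LD3_c17)) :=
  Lgr Lrot6 (Lpr_gt (K23.f296373 IH) (Lpr_ct (K18.f244308 IH) (Lpe (K22.f296294 IH) (Lpr_ct (f226796 IH) (Lpr_df (K24.f350489 IH) (Lpe (f340265 IH) (Lpe (f350487 IH) (Lpe (K24.f252733 IH) (Lpe (K24.f332884 IH) (Lpn (LP (LK LD1_c28 LD2_c3 LD3_c17))))))))))))
theorem f350492 : Led Lsl_dt (LP (LK LD1_c25 LD2_c8 LD3_c42)) = (LP (LK LD1_c18 LD2_c14 LD3_c12)) :=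
  Lgr Lrot173 (Lpe (K21.f296466 IH) (Lpe (K24.f327042 IH) (Lpe (K24.f298635 IH) (Lpe (K24.f298608 IH) (Lpe (K19.f298603 IH) (Lpe (K19.f274774 IH) (Lpe (K22.f312228 IH) (Lpr_df (K22.f226797 IH) (Lpe (K22.f226804 IH) (Lpr_df (K24.f350489 IH) (Lpe (f340265 IH) (Lpe (K24.f340259 IH) (Lpe (K23.f248766 IH) (Lpe (K23.f340268 IH) (Lpe (K23.f340269 IH) (Lpn (LP (LK LD1_c18 LD2_c14 LD3_c12))))))))))))))))))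
theorem f350530 : Led Lsl_gt (LP (LK LD1_c18 LD2_c14 LD3_c12)) = (LP (LK LD1_c19 LD2_c57 LD3_c0)) :=
  Lgr Lrot49 (Lpe (f350492 IH) (Lpe (K21.f244367 IH) (Lpe (K19.f244394 IH) (Lpr_gt (K23.f296483 IH) (Lpr_dt (f350496 IH) (Lpr_gt (K24.f332884 IH) (Lpe (K24.f332891 IH) (Lpr_cf (K24.f350528 IH) (Lpe (K24.f274577 IH) (Lpn (LP (LK LD1_c19 LD2_c57 LD3_c0))))))))))))
theorem f238540 : Led Lsl_dt (LP (LK LD1_c25 LD2_c13 LD3_c48)) = (LP (LK LD1_c15 LD2_c22 LD3_c8)) :=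
  Lre_d IH (LK LD1_c25 LD2_c13 LD3_c48) (LK LD1_c15 LD2_c22 LD3_c8) Lrfl Lrfl
theorem f364790 : Led Lsl_dt (LP (LK LD1_c17 LD2_c45 LD3_c10)) = (LP (LK LD1_c20 LD2_c3 LD3_c30)) :=
  Lgr Lrot6 (Lpe (f355236 IH) (Lpe (f348723 IH) (Lpe (K24.f310547 IH) (Lpr_ct (K25.f238543 IH) (Lpe (f238540 IH) (Lpr_cf (f364787 IH) (Lpe (f228390 IH) (Lpe (f228389 IH) (Lpe (f228358 IH) (Lpn (LP (LK LD1_c20 LD2_c3 LD3_c30))))))))))))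
theorem f364807 : Led Lsl_ef (LP (LK LD1_c18 LD2_c14 LD3_c12)) = (LP (LK LD1_c17 LD2_c45 LD3_c10)) :=
  Lgr Lrot114 (Lpr_gt (f350530 IH) (Lpe (K24.f274581 IH) (Lpe (K24.f350562 IH) (Lpr_gt (f350572 IH) (Lpe (K24.f314939 IH) (Lpe (f350191 IH) (Lpr_gt (f332763 IH) (Lpr_dt (K24.f228310 IH) (Lpr_gt (f364795 IH) (Lpe (f364790 IH) (Lpn (LP (LK LD1_c17 LD2_c45 LD3_c10)))))))))))))
theorem f332897 : Led Lsl_et (LP (LK LD1_c8 LD2_c8 LD3_c27)) = (LP (LK LD1_c15 LD2_c19 LD3_c48)) :=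
  Lre_e IH (LK LD1_c8 LD2_c8 LD3_c27) (LK LD1_c15 LD2_c19 LD3_c48) Lrfl Lrfl
theorem f265690 : Led Lsl_dt (LP (LK LD1_c8 LD2_c8 LD3_c27)) = (LP (LK LD1_c15 LD2_c19 LD3_c47)) :=
  Lre_d IH (LK LD1_c8 LD2_c8 LD3_c27) (LK LD1_c15 LD2_c19 LD3_c47) Lrfl Lrfl
theorem f201014 : Led Lsl_ct (LP (LK LD1_c29 LD2_c15 LD3_c48)) = (LP (LK LD1_c20 LD2_c2 LD3_c25)) :=
  Lre_c IH (LK LD1_c29 LD2_c15 LD3_c48) (LK LD1_c20 LD2_c2 LD3_c25) Lrfl Lrfl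
theorem f350542 : Led Lsl_gf (LP (LK LD1_c29 LD2_c15 LD3_c48)) = (LP (LK LD1_c29 LD2_c16 LD3_c23)) :=
  Lgr Lrot104 (Lpr_ct (f201014 IH) (Lpr_df (K19.f201003 IH) (Lpr_cf (K19.f299057 IH) (Lpe (K19.f305612 IH) (Lpr_cf (K24.f350538 IH) (Lpe (f350530 IH) (Lpe (f350492 IH) (Lpr_gt (K21.f296464 IH) (Lpr_ct (K19.f244306 IH) (Lpn (LP (LK LD1_c29 LD2_c16 LD3_c23))))))))))))
theorem f350544 : Led Lsl_df (LP (LK LD1_c25 LD2_c8 LD3_c42)) = (LP (LK LD1_c18 LD2_c14 LD3_c12)) :=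
  Lgr Lrot155 (Lpr_gt (K21.f296464 IH) (Lpr_ct (K19.f244306 IH) (Lpe (f350542 IH) (Lpr_ct (f201014 IH) (Lpr_dt (K19.f201008 IH) (Lpr_cf (K19.f299057 IH) (Lpe (K19.f305612 IH) (Lpr_cf (K24.f350538 IH) (Lpe (f350530 IH) (Lpn (LP (LK LD1_c18 LD2_c14 LD3_c12))))))))))))
theorem f296307 : Led Lsl_ef (LP (LK LD1_c15 LD2_c17 LD3_c50)) = (LP (LK LD1_c11 LD2_c9 LD3_c1)) :=
  Lgr Lrot88 (Lpr_et (K18.f296298 IH) (Lpn (LP (LK LD1_c11 LD2_c9 LD3_c1))))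
theorem f350546 : Led Lsl_gt (LP (LK LD1_c25 LD2_c10 LD3_c46)) = (LP (LK LD1_c15 LD2_c19 LD3_c47)) :=
  Lgr Lrot112 (Lpr_df (K23.f346032 IH) (Lpe (K23.f313258 IH) (Lpe (K18.f298889 IH) (Lpr_ef (f296307 IH) (Lpr_dt (K18.f244305 IH) (Lpe (K21.f296464 IH) (Lpr_df (f350544 IH) (Lpe (K23.f340270 IH) (Lpe (f332897 IH) (Lpr_dt (f265690 IH) (Lpn (LP (LK LD1_c15 LD2_c19 LD3_c47)))))))))))))
theorem f364810 : Led Lsl_gf (LP (LK LD1_c18 LD2_c5 LD3_c38)) = (LP (LK LD1_c11 LD2_c9 LD3_c19)) :=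
  Lgr Lrot138 (Lpe (K23.f346032 IH) (Lpr_gt (f350546 IH) (Lpe (f265690 IH) (Lpr_et (f332897 IH) (Lpr_gt (K23.f340270 IH) (Lpr_ef (f364807 IH) (Lpr_dt (f364790 IH) (Lpr_gt (f228358 IH) (Lpe (K24.f228270 IH) (Lpr_et (f228338 IH) (Lpn (LP (LK LD1_c11 LD2_c9 LD3_c19)))))))))))))
theorem f265687 : Led Lsl_dt (LP (LK LD1_c15 LD2_c19 LD3_c47)) = (LP (LK LD1_c8 LD2_c8 LD3_c27)) :=
  Lre_d IH (LK LD1_c15 LD2_c19 LD3_c47) (LK LD1_c8 LD2_c8 LD3_c27) Lrfl Lrfl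
theorem f341981 : Led Lsl_gt (LP (LK LD1_c15 LD2_c19 LD3_c43)) = (LP (LK LD1_c8 LD2_c8 LD3_c28)) :=
  Lgr Lrot137 (Lpr_ef (K23.f341940 IH) (Lpr_dt (K21.f216805 IH) (Lpe (K21.f216787 IH) (Lpe (K20.f216747 IH) (Lpr_et (K16.f193007 IH) (Lpe (K13.f182003 IH) (Lpe (K15.f237014 IH) (Lpr_dt (K15.f237007 IH) (Lpe (K18.f211403 IH) (Lpe (K21.f237023 IH) (Lpn (LP (LK LD1_c8 LD2_c8 LD3_c28)))))))))))))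
theorem f364814 : Led Lsl_cf (LP (LK LD1_c8 LD2_c36 LD3_c55)) = (LP (LK LD1_c11 LD2_c9 LD3_c19)) :=
  Lgr Lrot166 (Lpe (K23.f341986 IH) (Lpe (K23.f341938 IH) (Lpr_gt (f341981 IH) (Lpr_dt (K21.f237023 IH) (Lpr_ct (K18.f246106 IH) (Lpe (f265687 IH) (Lpe (f350546 IH) (Lpr_df (K23.f346032 IH) (Lpr_gf (f364810 IH) (Lpn (LP (LK LD1_c11 LD2_c9 LD3_c19))))))))))))
theorem f364821 : Led Lsl_ct (LP (LK LD1_c4 LD2_c19 LD3_c13)) = (LP (LK LD1_c5 LD2_c39 LD3_c8)) :=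
  Lgr Lrot15 (Lpe (K23.f216334 IH) (Lpr_cf (f364814 IH) (Lpe (f228338 IH) (Lpn (LP (LK LD1_c5 LD2_c39 LD3_c8))))))
theorem f364832 : Led Lsl_ff (LP (LK LD1_c4 LD2_c19 LD3_c13)) = (LP (LK LD1_c4 LD2_c3 LD3_c49)) :=
  Lgr Lrot23 (Lpr_ct (f364821 IH) (Lpe (f364761 IH) (Lpr_ct (K20.f227207 IH) (Lpn (LP (LK LD1_c4 LD2_c3 LD3_c49))))))
theorem f364845 : Led Lsl_at (LP (LK LD1_c4 LD2_c19 LD3_c13)) = (LP (LK LD1_c4 LD2_c3 LD3_c48)) :=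
  Lgr Lrot26 (Lpr_ff (f364832 IH) (Lpr_gt (K17.f227205 IH) (Lpr_gt (K21.f227000 IH) (Lpn (LP (LK LD1_c4 LD2_c3 LD3_c48))))))
theorem f364702 : Led Lsl_af (LP (LK LD1_c4 LD2_c3 LD3_c49)) = (LP (LK LD1_c4 LD2_c19 LD3_c14)) :=
  Lgr Lrot68 (Lpr_ct (K20.f227206 IH) (Lpr_at (f364696 IH) (Lpr_ct (K24.f228308 IH) (Lpn (LP (LK LD1_c4 LD2_c19 LD3_c14))))))
theorem f364851 : Led Lsl_ff (LP (LK LD1_c4 LD2_c19 LD3_c14)) = (LP (LK LD1_c4 LD2_c3 LD3_c48)) :=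
  Lgr Lrot30 (Lpe (f364702 IH) (Lpe (f364832 IH) (Lpr_at (f364845 IH) (Lpn (LP (LK LD1_c4 LD2_c3 LD3_c48))))))
theorem f364855 : Led Lsl_ft (LP (LK LD1_c4 LD2_c9 LD3_c17)) = (LP (LK LD1_c8 LD2_c8 LD3_c1)) :=
  Lgr Lrot54 (Lpe (K15.f238549 IH) (Lpr_ff (f364851 IH) (Lpe (K19.f229903 IH) (Lpn (LP (LK LD1_c8 LD2_c8 LD3_c1))))))
theorem f364869 : Led Lsl_ff (LP (LK LD1_c4 LD2_c9 LD3_c17)) = (LP (LK LD1_c8 LD2_c8 LD3_c1)) :=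
  Lgr Lrot3 (Lpr_ft (f364855 IH) (Lpn (LP (LK LD1_c8 LD2_c8 LD3_c1))))
theorem f364876 : Led Lsl_at (LP (LK LD1_c4 LD2_c9 LD3_c17)) = (LP (LK LD1_c7 LD2_c55 LD3_c25)) :=
  Lgr Lrot26 (Lpr_ff (f364869 IH) (Lpr_gt (K19.f310512 IH) (Lpe (K21.f310474 IH) (Lpn (LP (LK LD1_c7 LD2_c55 LD3_c25))))))
theorem f364884 : Led Lsl_af (LP (LK LD1_c2 LD2_c1 LD3_c60)) = (LP (LK LD1_c3 LD2_c56 LD3_c52)) :=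
  Lgr Lrot50 (Lpr_et (K16.f233736 IH) (Lpr_at (f364876 IH) (Lpr_et (K17.f186935 IH) (Lpn (LP (LK LD1_c3 LD2_c56 LD3_c52))))))
theorem f364894 : Led Lsl_ft (LP (LK LD1_c2 LD2_c8 LD3_c12)) = (LP (LK LD1_c3 LD2_c56 LD3_c52)) :=
  Lgr Lrot2 (Lpr_gt (K13.f28813 IH) (Lpe (K13.f228934 IH) (Lpr_af (f364884 IH) (Lpn (LP (LK LD1_c3 LD2_c56 LD3_c52))))))
theorem f364902 : Led Lsl_ff (LP (LK LD1_c2 LD2_c8 LD3_c12)) = (LP (LK LD1_c3 LD2_c56 LD3_c52)) :=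
  Lgr Lrot3 (Lpr_ft (f364894 IH) (Lpn (LP (LK LD1_c3 LD2_c56 LD3_c52))))
theorem f184791 : Led Lsl_ft (LP (LK LD1_c4 LD2_c21 LD3_c24)) = (LP (LK LD1_c8 LD2_c40 LD3_c24)) :=
  Lre_f IH (LK LD1_c4 LD2_c21 LD3_c24) (LK LD1_c8 LD2_c40 LD3_c24) Lrfl Lrfl
theorem f364841 : Led Lsl_ft (LP (LK LD1_c8 LD2_c36 LD3_c54)) = (LP (LK LD1_c7 LD2_c55 LD3_c25)) :=
  Lgr Lrot54 (Lpe (K23.f216331 IH) (Lpr_ff (f364832 IH) (Lpe (K17.f237001 IH) (Lpn (LP (LK LD1_c7 LD2_c55 LD3_c25))))))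
theorem f364910 : Led Lsl_et (LP (LK LD1_c8 LD2_c40 LD3_c24)) = (LP (LK LD1_c8 LD2_c36 LD3_c54)) :=
  Lgr Lrot69 (Lpe (f184791 IH) (Lpe (K21.f184776 IH) (Lpr_ff (f364902 IH) (Lpe (K17.f186935 IH) (Lpe (f364841 IH) (Lpn (LP (LK LD1_c8 LD2_c36 LD3_c54))))))))
theorem f184787 : Led Lsl_ft (LP (LK LD1_c5 LD2_c1 LD3_c2)) = (LP (LK LD1_c9 LD2_c52 LD3_c29)) :=
  Lre_f IH (LK LD1_c5 LD2_c1 LD3_c2) (LK LD1_c9 LD2_c52 LD3_c29) Lrfl Lrfl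
theorem f184788 : Led Lsl_ft (LP (LK LD1_c8 LD2_c40 LD3_c24)) = (LP (LK LD1_c4 LD2_c21 LD3_c24)) :=
  Lre_f IH (LK LD1_c8 LD2_c40 LD3_c24) (LK LD1_c4 LD2_c21 LD3_c24) Lrfl Lrfl
theorem f184789 : Led Lsl_dt (LP (LK LD1_c9 LD2_c52 LD3_c29)) = (LP (LK LD1_c8 LD2_c40 LD3_c24)) :=
  Lgr Lrot60 (Lpe (f184787 IH) (Lpr_df (K21.f184777 IH) (Lpe (f184788 IH) (Lpn (LP (LK LD1_c8 LD2_c40 LD3_c24))))))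
theorem f184813 : Led Lsl_df (LP (LK LD1_c9 LD2_c52 LD3_c29)) = (LP (LK LD1_c8 LD2_c40 LD3_c24)) :=
  Lgr Lrot38 (Lpr_dt (f184789 IH) (Lpn (LP (LK LD1_c8 LD2_c40 LD3_c24))))
theorem f364918 : Led Lsl_gf (LP (LK LD1_c9 LD2_c52 LD3_c29)) = (LP (LK LD1_c10 LD2_c19 LD3_c53)) :=
  Lgr Lrot134 (Lpr_df (f184813 IH) (Lpr_et (f364910 IH) (Lpe (K23.f238541 IH) (Lpr_ef (K15.f238530 IH) (Lpr_dt (K15.f28910 IH) (Lpe (K18.f299202 IH) (Lpr_df (K13.f228058 IH) (Lpr_et (K18.f262635 IH) (Lpe (K21.f323780 IH) (Lpe (K22.f229697 IH) (Lpn (LP (LK LD1_c10 LD2_c19 LD3_c53)))))))))))))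
theorem f190367 : Led Lsl_et (LP (LK LD1_c5 LD2_c21 LD3_c20)) = (LP (LK LD1_c2 LD2_c37 LD3_c14)) :=
  Lre_e IH (LK LD1_c5 LD2_c21 LD3_c20) (LK LD1_c2 LD2_c37 LD3_c14) Lrfl Lrfl
theorem f190368 : Led Lsl_bf (LP (LK LD1_c5 LD2_c21 LD3_c20)) = (LP (LK LD1_c5 LD2_c1 LD3_c2)) :=
  Lgr Lrot96 (Lpr_et (f190367 IH) (Lpr_bt (K18.f190354 IH) (Lpr_et (K21.f184619 IH) (Lpn (LP (LK LD1_c5 LD2_c1 LD3_c2))))))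
theorem f190378 : Led Lsl_ft (LP (LK LD1_c5 LD2_c21 LD3_c20)) = (LP (LK LD1_c10 LD2_c32 LD3_c60)) :=
  Lre_f IH (LK LD1_c5 LD2_c21 LD3_c20) (LK LD1_c10 LD2_c32 LD3_c60) Lrfl Lrfl
theorem f184815 : Led Lsl_ft (LP (LK LD1_c9 LD2_c52 LD3_c29)) = (LP (LK LD1_c5 LD2_c1 LD3_c2)) :=
  Lre_f IH (LK LD1_c9 LD2_c52 LD3_c29) (LK LD1_c5 LD2_c1 LD3_c2) Lrfl Lrfl
theorem f190379 : Led Lsl_bt (LP (LK LD1_c10 LD2_c32 LD3_c60)) = (LP (LK LD1_c9 LD2_c52 LD3_c29)) :=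
  Lgr Lrot35 (Lpe (f190378 IH) (Lpr_bf (f190368 IH) (Lpe (f184815 IH) (Lpn (LP (LK LD1_c9 LD2_c52 LD3_c29))))))
theorem f190387 : Led Lsl_ct (LP (LK LD1_c10 LD2_c32 LD3_c60)) = (LP (LK LD1_c19 LD2_c6 LD3_c23)) :=
  Lre_c IH (LK LD1_c10 LD2_c32 LD3_c60) (LK LD1_c19 LD2_c6 LD3_c23) Lrfl Lrfl
theorem f330835 : Led Lsl_dt (LP (LK LD1_c25 LD2_c45 LD3_c16)) = (LP (LK LD1_c25 LD2_c0 LD3_c13)) :=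
  Lgr Lrot42 (Lpr_df (K24.f330831 IH) (Lpn (LP (LK LD1_c25 LD2_c0 LD3_c13))))
theorem f304637 : Led Lsl_bt (LP (LK LD1_c15 LD2_c48 LD3_c47)) = (LP (LK LD1_c25 LD2_c45 LD3_c16)) :=
  Lre_b IH (LK LD1_c15 LD2_c48 LD3_c47) (LK LD1_c25 LD2_c45 LD3_c16) Lrfl Lrfl
theorem f330837 : Led Lsl_bf (LP (LK LD1_c16 LD2_c7 LD3_c59)) = (LP (LK LD1_c25 LD2_c0 LD3_c13)) :=
  Lgr Lrot93 (Lpe (K19.f304590 IH) (Lpr_bt (f304637 IH) (Lpr_dt (f330835 IH) (Lpn (LP (LK LD1_c25 LD2_c0 LD3_c13))))))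
theorem f330841 : Led Lsl_bt (LP (LK LD1_c8 LD2_c36 LD3_c28)) = (LP (LK LD1_c15 LD2_c11 LD3_c3)) :=
  Lgr Lrot119 (Lpe (K19.f304601 IH) (Lpr_bf (f330837 IH) (Lpe (K24.f330830 IH) (Lpn (LP (LK LD1_c15 LD2_c11 LD3_c3))))))
theorem f364922 : Led Lsl_gt (LP (LK LD1_c19 LD2_c6 LD3_c23)) = (LP (LK LD1_c16 LD2_c7 LD3_c58)) :=
  Lgr Lrot65 (Lpe (f190387 IH) (Lpr_bt (f190379 IH) (Lpr_gf (f364918 IH) (Lpr_bf (K21.f325910 IH) (Lpr_ct (K21.f182250 IH) (Lpr_gf (K20.f321942 IH) (Lpe (K20.f193183 IH) (Lpe (K22.f192991 IH) (Lpe (f330841 IH) (Lpr_ct (K19.f171449 IH) (Lpn (LP (LK LD1_c16 LD2_c7 LD3_c58)))))))))))))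
theorem f304598 : Led Lsl_ct (LP (LK LD1_c8 LD2_c36 LD3_c27)) = (LP (LK LD1_c4 LD2_c18 LD3_c52)) :=
  Lre_c IH (LK LD1_c8 LD2_c36 LD3_c27) (LK LD1_c4 LD2_c18 LD3_c52) Lrfl Lrfl
theorem f364926 : Led Lsl_gf (LP (LK LD1_c10 LD2_c32 LD3_c60)) = (LP (LK LD1_c15 LD2_c9 LD3_c48)) :=
  Lgr Lrot147 (Lpr_ct (f190387 IH) (Lpr_gt (f364922 IH) (Lpr_ct (f171453 IH) (Lpe (K19.f171448 IH) (Lpe (f304598 IH) (Lpr_gf (f332975 IH) (Lpe (f229661 IH) (Lpe (K24.f229669 IH) (Lpe (K24.f332990 IH) (Lpn (LP (LK LD1_c15 LD2_c9 LD3_c48))))))))))))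
theorem f232094 : Led Lsl_ft (LP (LK LD1_c8 LD2_c19 LD3_c2)) = (LP (LK LD1_c15 LD2_c38 LD3_c41)) :=
  Lre_f IH (LK LD1_c8 LD2_c19 LD3_c2) (LK LD1_c15 LD2_c38 LD3_c41) Lrfl Lrfl
theorem f364928 : Led Lsl_af (LP (LK LD1_c10 LD2_c32 LD3_c60)) = (LP (LK LD1_c15 LD2_c38 LD3_c41)) :=
  Lgr Lrot31 (Lpr_gf (f364926 IH) (Lpr_gf (K24.f332998 IH) (Lpr_ft (f232094 IH) (Lpn (LP (LK LD1_c15 LD2_c38 LD3_c41))))))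
theorem f190389 : Led Lsl_ft (LP (LK LD1_c10 LD2_c32 LD3_c60)) = (LP (LK LD1_c5 LD2_c21 LD3_c20)) :=
  Lre_f IH (LK LD1_c10 LD2_c32 LD3_c60) (LK LD1_c5 LD2_c21 LD3_c20) Lrfl Lrfl
theorem f364944 : Led Lsl_at (LP (LK LD1_c5 LD2_c21 LD3_c20)) = (LP (LK LD1_c8 LD2_c19 LD3_c2)) :=
  Lgr Lrot66 (Lpe (f190389 IH) (Lpr_af (f364928 IH) (Lpe (f232094 IH) (Lpn (LP (LK LD1_c8 LD2_c19 LD3_c2))))))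
theorem f364951 : Led Lsl_gt (LP (LK LD1_c10 LD2_c32 LD3_c60)) = (LP (LK LD1_c15 LD2_c38 LD3_c39)) :=
  Lgr Lrot5 (Lpr_ft (f190389 IH) (Lpr_at (f364944 IH) (Lpe (f232095 IH) (Lpn (LP (LK LD1_c15 LD2_c38 LD3_c39))))))
theorem f250093 : Led Lsl_dt (LP (LK LD1_c10 LD2_c22 LD3_c6)) = (LP (LK LD1_c18 LD2_c49 LD3_c10)) :=
  Lre_d IH (LK LD1_c10 LD2_c22 LD3_c6) (LK LD1_c18 LD2_c49 LD3_c10) Lrfl Lrfl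
theorem f250074 : Led Lsl_bt (LP (LK LD1_c16 LD2_c45 LD3_c54)) = (LP (LK LD1_c8 LD2_c57 LD3_c16)) :=
  Lre_b IH (LK LD1_c16 LD2_c45 LD3_c54) (LK LD1_c8 LD2_c57 LD3_c16) Lrfl Lrfl
theorem f250075 : Led Lsl_et (LP (LK LD1_c10 LD2_c22 LD3_c6)) = (LP (LK LD1_c16 LD2_c45 LD3_c54)) :=
  Lgr Lrot74 (Lpe (f250073 IH) (Lpr_ef (K23.f250071 IH) (Lpe (f250074 IH) (Lpn (LP (LK LD1_c16 LD2_c45 LD3_c54))))))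
theorem f304135 : Led Lsl_et (LP (LK LD1_c10 LD2_c33 LD3_c11)) = (LP (LK LD1_c19 LD2_c6 LD3_c48)) :=
  Lre_e IH (LK LD1_c10 LD2_c33 LD3_c11) (LK LD1_c19 LD2_c6 LD3_c48) Lrfl Lrfl
theorem f304136 : Led Lsl_dt (LP (LK LD1_c19 LD2_c6 LD3_c48)) = (LP (LK LD1_c10 LD2_c35 LD3_c12)) :=
  Lgr Lrot77 (Lpe (f304135 IH) (Lpr_df (f304131 IH) (Lpe (K25.f222174 IH) (Lpr_df (K24.f222171 IH) (Lpe (K25.f222176 IH) (Lpn (LP (LK LD1_c10 LD2_c35 LD3_c12))))))))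
theorem f304138 : Led Lsl_df (LP (LK LD1_c19 LD2_c6 LD3_c48)) = (LP (LK LD1_c10 LD2_c35 LD3_c12)) :=
  Lgr Lrot38 (Lpr_dt (f304136 IH) (Lpn (LP (LK LD1_c10 LD2_c35 LD3_c12))))
theorem f196808 : Led Lsl_et (LP (LK LD1_c2 LD2_c37 LD3_c38)) = (LP (LK LD1_c5 LD2_c22 LD3_c15)) :=
  Lre_e IH (LK LD1_c2 LD2_c37 LD3_c38) (LK LD1_c5 LD2_c22 LD3_c15) Lrfl Lrfl
theorem f304145 : Led Lsl_gf (LP (LK LD1_c19 LD2_c6 LD3_c48)) = (LP (LK LD1_c19 LD2_c10 LD3_c29)) :=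
  Lgr Lrot134 (Lpr_df (f304138 IH) (Lpr_et (K25.f222176 IH) (Lpr_gt (K24.f182165 IH) (Lpe (K19.f182179 IH) (Lpr_dt (K12.f171885 IH) (Lpr_gt (K12.f171893 IH) (Lpe (K12.f196585 IH) (Lpr_et (f196808 IH) (Lpr_gt (K23.f196809 IH) (Lpr_dt (K24.f196813 IH) (Lpn (LP (LK LD1_c19 LD2_c10 LD3_c29)))))))))))))
theorem f342620 : Led Lsl_gf (LP (LK LD1_c18 LD2_c58 LD3_c25)) = (LP (LK LD1_c16 LD2_c45 LD3_c54)) :=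
  Lgr Lrot134 (Lpe (K23.f291701 IH) (Lpe (K23.f291717 IH) (Lpe (f304145 IH) (Lpe (f304135 IH) (Lpr_dt (f304133 IH) (Lpr_gt (f340073 IH) (Lpe (K25.f42216 IH) (Lpr_et (K20.f318330 IH) (Lpr_gt (K23.f342613 IH) (Lpr_dt (K23.f250094 IH) (Lpn (LP (LK LD1_c16 LD2_c45 LD3_c54)))))))))))))
theorem f306417 : Led Lsl_ct (LP (LK LD1_c5 LD2_c24 LD3_c2)) = (LP (LK LD1_c2 LD2_c38 LD3_c35)) :=
  Lre_c IH (LK LD1_c5 LD2_c24 LD3_c2) (LK LD1_c2 LD2_c38 LD3_c35) Lrfl Lrfl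
theorem f306418 : Led Lsl_dt (LP (LK LD1_c10 LD2_c38 LD3_c51)) = (LP (LK LD1_c5 LD2_c24 LD3_c2)) :=
  Lre_d IH (LK LD1_c10 LD2_c38 LD3_c51) (LK LD1_c5 LD2_c24 LD3_c2) Lrfl Lrfl
theorem f224754 : Led Lsl_gt (LP (LK LD1_c19 LD2_c17 LD3_c15)) = (LP (LK LD1_c10 LD2_c38 LD3_c51)) :=
  Lre_g IH (LK LD1_c19 LD2_c17 LD3_c15) (LK LD1_c10 LD2_c38 LD3_c51) Lrfl Lrfl
theorem f224752 : Led Lsl_et (LP (LK LD1_c5 LD2_c20 LD3_c35)) = (LP (LK LD1_c10 LD2_c31 LD3_c12)) :=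
  Lre_e IH (LK LD1_c5 LD2_c20 LD3_c35) (LK LD1_c10 LD2_c31 LD3_c12) Lrfl Lrfl
theorem f173137 : Led Lsl_et (LP (LK LD1_c5 LD2_c24 LD3_c2)) = (LP (LK LD1_c2 LD2_c38 LD3_c33)) :=
  Lre_e IH (LK LD1_c5 LD2_c24 LD3_c2) (LK LD1_c2 LD2_c38 LD3_c33) Lrfl Lrfl
theorem f173138 : Led Lsl_dt (LP (LK LD1_c5 LD2_c24 LD3_c2)) = (LP (LK LD1_c10 LD2_c38 LD3_c51)) :=
  Lre_d IH (LK LD1_c5 LD2_c24 LD3_c2) (LK LD1_c10 LD2_c38 LD3_c51) Lrfl Lrfl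
theorem f307081 : Led Lsl_et (LP (LK LD1_c9 LD2_c1 LD3_c15)) = (LP (LK LD1_c16 LD2_c51 LD3_c15)) :=
  Lre_e IH (LK LD1_c9 LD2_c1 LD3_c15) (LK LD1_c16 LD2_c51 LD3_c15) Lrfl Lrfl
theorem f312643 : Led Lsl_ef (LP (LK LD1_c16 LD2_c51 LD3_c13)) = (LP (LK LD1_c25 LD2_c16 LD3_c58)) :=
  Lgr Lrot20 (Lpr_at (K19.f307077 IH) (Lpr_et (f307081 IH) (Lpr_at (K23.f312637 IH) (Lpn (LP (LK LD1_c25 LD2_c16 LD3_c58))))))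
theorem f320314 : Led Lsl_df (LP (LK LD1_c19 LD2_c17 LD3_c15)) = (LP (LK LD1_c25 LD2_c16 LD3_c58)) :=
  Lgr Lrot170 (Lpr_gt (f224754 IH) (Lpe (f173138 IH) (Lpr_et (f173137 IH) (Lpe (K12.f173115 IH) (Lpr_dt (K12.f196816 IH) (Lpr_gt (K12.f196817 IH) (Lpe (K12.f224719 IH) (Lpr_et (f224752 IH) (Lpr_gt (K23.f320312 IH) (Lpr_ef (f312643 IH) (Lpn (LP (LK LD1_c25 LD2_c16 LD3_c58)))))))))))))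
theorem f342027 : Led Lsl_gf (LP (LK LD1_c16 LD2_c8 LD3_c25)) = (LP (LK LD1_c18 LD2_c39 LD3_c44)) :=
  Lgr Lrot144 (Lpr_dt (K23.f342022 IH) (Lpr_gt (K22.f196827 IH) (Lpr_dt (K18.f223859 IH) (Lpe (f306417 IH) (Lpe (f306418 IH) (Lpe (f224754 IH) (Lpr_df (f320314 IH) (Lpe (K23.f312645 IH) (Lpr_cf (K23.f330500 IH) (Lpn (LP (LK LD1_c18 LD2_c39 LD3_c44))))))))))))
theorem f364959 : Led Lsl_ef (LP (LK LD1_c10 LD2_c32 LD3_c60)) = (LP (LK LD1_c10 LD2_c38 LD3_c57)) :=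
  Lgr Lrot114 (Lpr_gt (f364951 IH) (Lpe (f232096 IH) (Lpe (f362960 IH) (Lpr_gt (K25.f355928 IH) (Lpe (f250093 IH) (Lpr_et (f250075 IH) (Lpe (f342620 IH) (Lpe (K18.f291699 IH) (Lpe (f342027 IH) (Lpr_df (K23.f342024 IH) (Lpn (LP (LK LD1_c10 LD2_c38 LD3_c57)))))))))))))
theorem f364078 : Led Lsl_ff (LP (LK LD1_c4 LD2_c27 LD3_c8)) = (LP (LK LD1_c2 LD2_c37 LD3_c14)) :=
  Lgr Lrot23 (Lpr_ct (K14.f46488 IH) (Lpr_ft (f364074 IH) (Lpr_ct (K14.f190363 IH) (Lpn (LP (LK LD1_c2 LD2_c37 LD3_c14))))))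
theorem f364969 : Led Lsl_ft (LP (LK LD1_c8 LD2_c52 LD3_c0)) = (LP (LK LD1_c10 LD2_c38 LD3_c57)) :=
  Lgr Lrot86 (Lpe (K23.f44282 IH) (Lpr_ff (f364078 IH) (Lpe (f190367 IH) (Lpe (f190389 IH) (Lpr_ef (f364959 IH) (Lpn (LP (LK LD1_c10 LD2_c38 LD3_c57))))))))
theorem f331506 : Led Lsl_at (LP (LK LD1_c10 LD2_c20 LD3_c22)) = (LP (LK LD1_c10 LD2_c38 LD3_c57)) :=
  Lgr Lrot26 (Lpe (f291689 IH) (Lpr_gt (K19.f251420 IH) (Lpr_gt (K22.f331504 IH) (Lpn (LP (LK LD1_c10 LD2_c38 LD3_c57))))))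
theorem f331523 : Led Lsl_af (LP (LK LD1_c10 LD2_c20 LD3_c22)) = (LP (LK LD1_c10 LD2_c38 LD3_c57)) :=
  Lgr Lrot0 (Lpr_at (f331506 IH) (Lpn (LP (LK LD1_c10 LD2_c38 LD3_c57))))
theorem f364983 : Led Lsl_gt (LP (LK LD1_c10 LD2_c16 LD3_c45)) = (LP (LK LD1_c10 LD2_c20 LD3_c22)) :=
  Lgr Lrot46 (Lpr_gf (K23.f331496 IH) (Lpr_ft (f364969 IH) (Lpe (f331523 IH) (Lpn (LP (LK LD1_c10 LD2_c20 LD3_c22))))))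
theorem f331064 : Led Lsl_et (LP (LK LD1_c10 LD2_c37 LD3_c43)) = (LP (LK LD1_c5 LD2_c23 LD3_c35)) :=
  Lre_e IH (LK LD1_c10 LD2_c37 LD3_c43) (LK LD1_c5 LD2_c23 LD3_c35) Lrfl Lrfl
theorem f364993 : Led Lsl_dt (LP (LK LD1_c10 LD2_c37 LD3_c43)) = (LP (LK LD1_c10 LD2_c20 LD3_c22)) :=
  Lgr Lrot56 (Lpr_et (f331064 IH) (Lpe (f359336 IH) (Lpr_ef (K19.f310727 IH) (Lpr_dt (K19.f194739 IH) (Lpe (K25.f346479 IH) (Lpr_df (K23.f346249 IH) (Lpe (K23.f346207 IH) (Lpr_gt (K23.f346030 IH) (Lpe (K21.f330474 IH) (Lpr_gt (f364983 IH) (Lpn (LP (LK LD1_c10 LD2_c20 LD3_c22)))))))))))))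
theorem f291688 : Led Lsl_ft (LP (LK LD1_c10 LD2_c20 LD3_c22)) = (LP (LK LD1_c5 LD2_c15 LD3_c32)) :=
  Lre_f IH (LK LD1_c10 LD2_c20 LD3_c22) (LK LD1_c5 LD2_c15 LD3_c32) Lrfl Lrfl
theorem f365000 : Led Lsl_ff (LP (LK LD1_c10 LD2_c37 LD3_c43)) = (LP (LK LD1_c10 LD2_c15 LD3_c33)) :=
  Lgr Lrot19 (Lpr_dt (f364993 IH) (Lpr_ft (f291688 IH) (Lpr_dt (K18.f291683 IH) (Lpn (LP (LK LD1_c10 LD2_c15 LD3_c33))))))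
theorem f365012 : Led Lsl_at (LP (LK LD1_c10 LD2_c37 LD3_c43)) = (LP (LK LD1_c16 LD2_c8 LD3_c25)) :=
  Lgr Lrot26 (Lpr_ff (f365000 IH) (Lpr_gt (K18.f291690 IH) (Lpe (f342027 IH) (Lpn (LP (LK LD1_c16 LD2_c8 LD3_c25))))))
theorem f364979 : Led Lsl_ff (LP (LK LD1_c10 LD2_c0 LD3_c42)) = (LP (LK LD1_c16 LD2_c8 LD3_c25)) :=
  Lgr Lrot19 (Lpr_dt (K22.f290866 IH) (Lpr_ft (f364969 IH) (Lpe (K23.f342024 IH) (Lpn (LP (LK LD1_c16 LD2_c8 LD3_c25))))))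
theorem f365016 : Led Lsl_af (LP (LK LD1_c10 LD2_c15 LD3_c33)) = (LP (LK LD1_c10 LD2_c0 LD3_c42)) :=
  Lgr Lrot45 (Lpe (f365000 IH) (Lpr_at (f365012 IH) (Lpe (f364979 IH) (Lpn (LP (LK LD1_c10 LD2_c0 LD3_c42))))))
theorem f365024 : Led Lsl_at (LP (LK LD1_c5 LD2_c12 LD3_c35)) = (LP (LK LD1_c5 LD2_c4 LD3_c49)) :=
  Lgr Lrot80 (Lpe (K18.f183964 IH) (Lpr_af (f365016 IH) (Lpe (K22.f290865 IH) (Lpn (LP (LK LD1_c5 LD2_c4 LD3_c49))))))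
theorem f365040 : Led Lsl_ff (LP (LK LD1_c5 LD2_c12 LD3_c35)) = (LP (LK LD1_c5 LD2_c4 LD3_c50)) :=
  Lgr Lrot52 (Lpr_at (f365024 IH) (Lpe (K15.f191778 IH) (Lpe (K15.f211378 IH) (Lpn (LP (LK LD1_c5 LD2_c4 LD3_c50))))))
theorem f365046 : Led Lsl_ft (LP (LK LD1_c5 LD2_c12 LD3_c35)) = (LP (LK LD1_c5 LD2_c4 LD3_c50)) :=
  Lgr Lrot48 (Lpr_ff (f365040 IH) (Lpn (LP (LK LD1_c5 LD2_c4 LD3_c50))))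
theorem f365050 : Led Lsl_af (LP (LK LD1_c5 LD2_c12 LD3_c34)) = (LP (LK LD1_c5 LD2_c4 LD3_c50)) :=
  Lgr Lrot31 (Lpe (K13.f183955 IH) (Lpe (K18.f183954 IH) (Lpr_ft (f365046 IH) (Lpn (LP (LK LD1_c5 LD2_c4 LD3_c50))))))
theorem f365032 : Led Lsl_af (LP (LK LD1_c5 LD2_c12 LD3_c35)) = (LP (LK LD1_c5 LD2_c4 LD3_c49)) :=
  Lgr Lrot0 (Lpr_at (f365024 IH) (Lpn (LP (LK LD1_c5 LD2_c4 LD3_c49))))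
theorem f365060 : Led Lsl_ft (LP (LK LD1_c5 LD2_c12 LD3_c34)) = (LP (LK LD1_c5 LD2_c4 LD3_c49)) :=
  Lgr Lrot101 (Lpr_af (f365050 IH) (Lpe (f365046 IH) (Lpr_af (f365032 IH) (Lpn (LP (LK LD1_c5 LD2_c4 LD3_c49))))))
theorem f365070 : Led Lsl_ff (LP (LK LD1_c5 LD2_c12 LD3_c34)) = (LP (LK LD1_c5 LD2_c4 LD3_c49)) :=
  Lgr Lrot3 (Lpr_ft (f365060 IH) (Lpn (LP (LK LD1_c5 LD2_c4 LD3_c49))))
theorem f211380 : Led Lsl_et (LP (LK LD1_c10 LD2_c0 LD3_c42)) = (LP (LK LD1_c5 LD2_c4 LD3_c49)) :=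
  Lre_e IH (LK LD1_c10 LD2_c0 LD3_c42) (LK LD1_c5 LD2_c4 LD3_c49) Lrfl Lrfl
theorem f342026 : Led Lsl_et (LP (LK LD1_c8 LD2_c36 LD3_c53)) = (LP (LK LD1_c16 LD2_c8 LD3_c25)) :=
  Lre_e IH (LK LD1_c8 LD2_c36 LD3_c53) (LK LD1_c16 LD2_c8 LD3_c25) Lrfl Lrfl
theorem f365078 : Led Lsl_ft (LP (LK LD1_c5 LD2_c23 LD3_c36)) = (LP (LK LD1_c8 LD2_c36 LD3_c53)) :=
  Lgr Lrot86 (Lpe (K17.f265791 IH) (Lpr_ff (f365070 IH) (Lpe (f211380 IH) (Lpr_ff (f364979 IH) (Lpe (f342026 IH) (Lpn (LP (LK LD1_c8 LD2_c36 LD3_c53))))))))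
theorem f219486 : Led Lsl_ft (LP (LK LD1_c8 LD2_c40 LD3_c1)) = (LP (LK LD1_c4 LD2_c21 LD3_c12)) :=
  Lre_f IH (LK LD1_c8 LD2_c40 LD3_c1) (LK LD1_c4 LD2_c21 LD3_c12) Lrfl Lrfl
theorem f365084 : Led Lsl_df (LP (LK LD1_c8 LD2_c40 LD3_c1)) = (LP (LK LD1_c8 LD2_c36 LD3_c53)) :=
  Lgr Lrot78 (Lpr_ft (f219486 IH) (Lpr_dt (K17.f265810 IH) (Lpr_ft (f365078 IH) (Lpn (LP (LK LD1_c8 LD2_c36 LD3_c53))))))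
theorem f167020 : Led Lsl_ct (LP (LK LD1_c4 LD2_c53 LD3_c21)) = (LP (LK LD1_c2 LD2_c24 LD3_c29)) :=
  Lre_c IH (LK LD1_c4 LD2_c53 LD3_c21) (LK LD1_c2 LD2_c24 LD3_c29) Lrfl Lrfl
theorem f180078 : Led Lsl_gt (LP (LK LD1_c9 LD2_c38 LD3_c46)) = (LP (LK LD1_c4 LD2_c53 LD3_c21)) :=
  Lre_g IH (LK LD1_c9 LD2_c38 LD3_c46) (LK LD1_c4 LD2_c53 LD3_c21) Lrfl Lrfl
theorem f258339 : Led Lsl_et (LP (LK LD1_c8 LD2_c36 LD3_c16)) = (LP (LK LD1_c4 LD2_c18 LD3_c47)) :=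
  Lre_e IH (LK LD1_c8 LD2_c36 LD3_c16) (LK LD1_c4 LD2_c18 LD3_c47) Lrfl Lrfl
theorem f258340 : Led Lsl_ct (LP (LK LD1_c8 LD2_c40 LD3_c52)) = (LP (LK LD1_c8 LD2_c36 LD3_c16)) :=
  Lgr Lrot15 (Lpe (K19.f251042 IH) (Lpr_cf (K16.f258318 IH) (Lpe (f258339 IH) (Lpn (LP (LK LD1_c8 LD2_c36 LD3_c16))))))
theorem f258350 : Led Lsl_cf (LP (LK LD1_c8 LD2_c40 LD3_c52)) = (LP (LK LD1_c8 LD2_c36 LD3_c16)) :=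
  Lgr Lrot11 (Lpr_ct (f258340 IH) (Lpn (LP (LK LD1_c8 LD2_c36 LD3_c16))))
theorem f258353 : Led Lsl_dt (LP (LK LD1_c16 LD2_c7 LD3_c42)) = (LP (LK LD1_c8 LD2_c36 LD3_c16)) :=
  Lre_d IH (LK LD1_c16 LD2_c7 LD3_c42) (LK LD1_c8 LD2_c36 LD3_c16) Lrfl Lrfl
theorem f192380 : Led Lsl_et (LP (LK LD1_c4 LD2_c53 LD3_c21)) = (LP (LK LD1_c2 LD2_c24 LD3_c28)) :=
  Lre_e IH (LK LD1_c4 LD2_c53 LD3_c21) (LK LD1_c2 LD2_c24 LD3_c28) Lrfl Lrfl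
theorem f180094 : Led Lsl_dt (LP (LK LD1_c4 LD2_c53 LD3_c21)) = (LP (LK LD1_c9 LD2_c38 LD3_c47)) :=
  Lre_d IH (LK LD1_c4 LD2_c53 LD3_c21) (LK LD1_c9 LD2_c38 LD3_c47) Lrfl Lrfl
theorem f258352 : Led Lsl_dt (LP (LK LD1_c8 LD2_c36 LD3_c16)) = (LP (LK LD1_c16 LD2_c7 LD3_c42)) :=
  Lre_d IH (LK LD1_c8 LD2_c36 LD3_c16) (LK LD1_c16 LD2_c7 LD3_c42) Lrfl Lrfl
theorem f287798 : Led Lsl_gt (LP (LK LD1_c9 LD2_c38 LD3_c47)) = (LP (LK LD1_c16 LD2_c7 LD3_c42)) :=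
  Lgr Lrot112 (Lpe (f180094 IH) (Lpr_et (f192380 IH) (Lpe (K15.f192374 IH) (Lpr_ef (K17.f270576 IH) (Lpr_dt (K17.f287744 IH) (Lpr_gf (K17.f287766 IH) (Lpe (K14.f251908 IH) (Lpr_gf (K17.f258361 IH) (Lpe (f258339 IH) (Lpr_dt (f258352 IH) (Lpn (LP (LK LD1_c16 LD2_c7 LD3_c42)))))))))))))
theorem f310824 : Led Lsl_ct (LP (LK LD1_c15 LD2_c33 LD3_c45)) = (LP (LK LD1_c9 LD2_c38 LD3_c46)) :=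
  Lgr Lrot8 (Lpr_gt (K24.f254968 IH) (Lpr_dt (K25.f267170 IH) (Lpe (K23.f261363 IH) (Lpr_dt (K19.f310820 IH) (Lpr_cf (f258350 IH) (Lpe (f258353 IH) (Lpe (f287798 IH) (Lpe (f180094 IH) (Lpe (f180078 IH) (Lpn (LP (LK LD1_c9 LD2_c38 LD3_c46))))))))))))
theorem f365094 : Led Lsl_gt (LP (LK LD1_c8 LD2_c40 LD3_c1)) = (LP (LK LD1_c15 LD2_c33 LD3_c45)) :=
  Lgr Lrot9 (Lpr_df (f365084 IH) (Lpr_gt (K25.f342020 IH) (Lpr_ct (K19.f169192 IH) (Lpr_gt (K21.f320306 IH) (Lpr_ct (K23.f180033 IH) (Lpr_df (K14.f180064 IH) (Lpe (f167020 IH) (Lpe (f180078 IH) (Lpe (f310824 IH) (Lpn (LP (LK LD1_c15 LD2_c33 LD3_c45))))))))))))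
theorem f188014 : Led Lsl_et (LP (LK LD1_c19 LD2_c6 LD3_c48)) = (LP (LK LD1_c10 LD2_c33 LD3_c11)) :=
  Lre_e IH (LK LD1_c19 LD2_c6 LD3_c48) (LK LD1_c10 LD2_c33 LD3_c11) Lrfl Lrfl
theorem f304141 : Led Lsl_gt (LP (LK LD1_c19 LD2_c10 LD3_c30)) = (LP (LK LD1_c10 LD2_c35 LD3_c12)) :=
  Lgr Lrot139 (Lpe (K24.f250978 IH) (Lpr_gf (K14.f196802 IH) (Lpe (K12.f49234 IH) (Lpr_dt (K14.f50104 IH) (Lpr_gf (K10.f188006 IH) (Lpe (K16.f187540 IH) (Lpr_et (K25.f188012 IH) (Lpe (f188013 IH) (Lpe (f188014 IH) (Lpr_dt (f304136 IH) (Lpn (LP (LK LD1_c10 LD2_c35 LD3_c12)))))))))))))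
theorem f250980 : Led Lsl_et (LP (LK LD1_c10 LD2_c34 LD3_c60)) = (LP (LK LD1_c19 LD2_c10 LD3_c30)) :=
  Lre_e IH (LK LD1_c10 LD2_c34 LD3_c60) (LK LD1_c19 LD2_c10 LD3_c30) Lrfl Lrfl
theorem f339551 : Led Lsl_gf (LP (LK LD1_c16 LD2_c13 LD3_c50)) = (LP (LK LD1_c16 LD2_c2 LD3_c30)) :=
  Lgr Lrot134 (Lpr_df (K24.f265817 IH) (Lpr_et (f250980 IH) (Lpr_gt (f304141 IH) (Lpe (K25.f222173 IH) (Lpe (K24.f222171 IH) (Lpe (K24.f284535 IH) (Lpe (K13.f231356 IH) (Lpr_et (K17.f253305 IH) (Lpr_gt (K25.f339545 IH) (Lpe (K25.f220188 IH) (Lpn (LP (LK LD1_c16 LD2_c2 LD3_c30)))))))))))))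
theorem f323848 : Led Lsl_gt (LP (LK LD1_c10 LD2_c32 LD3_c28)) = (LP (LK LD1_c5 LD2_c22 LD3_c15)) :=
  Lgr Lrot46 (Lpr_gf (K24.f323846 IH) (Lpr_ft (K10.f196546 IH) (Lpe (K12.f196804 IH) (Lpn (LP (LK LD1_c5 LD2_c22 LD3_c15))))))
theorem f196806 : Led Lsl_df (LP (LK LD1_c5 LD2_c22 LD3_c15)) = (LP (LK LD1_c5 LD2_c22 LD3_c15)) :=
  Lgr Lrot78 (Lpr_ft (K12.f196800 IH) (Lpr_dt (K14.f50096 IH) (Lpe (K12.f196766 IH) (Lpn (LP (LK LD1_c5 LD2_c22 LD3_c15))))))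
theorem f323920 : Led Lsl_gf (LP (LK LD1_c19 LD2_c5 LD3_c33)) = (LP (LK LD1_c19 LD2_c6 LD3_c48)) :=
  Lgr Lrot138 (Lpr_dt (K24.f323855 IH) (Lpr_gt (f323848 IH) (Lpr_df (f196806 IH) (Lpr_et (K12.f196765 IH) (Lpr_gt (K12.f196768 IH) (Lpe (K19.f30875 IH) (Lpe (K19.f196777 IH) (Lpr_gt (K25.f182166 IH) (Lpe (f304133 IH) (Lpr_et (f304135 IH) (Lpn (LP (LK LD1_c19 LD2_c6 LD3_c48)))))))))))))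
theorem f323863 : Led Lsl_et (LP (LK LD1_c10 LD2_c32 LD3_c28)) = (LP (LK LD1_c19 LD2_c5 LD3_c34)) :=
  Lre_e IH (LK LD1_c10 LD2_c32 LD3_c28) (LK LD1_c19 LD2_c5 LD3_c34) Lrfl Lrfl
theorem f220200 : Led Lsl_et (LP (LK LD1_c8 LD2_c32 LD3_c36)) = (LP (LK LD1_c16 LD2_c2 LD3_c30)) :=
  Lre_e IH (LK LD1_c8 LD2_c32 LD3_c36) (LK LD1_c16 LD2_c2 LD3_c30) Lrfl Lrfl
theorem f339532 : Led Lsl_ef (LP (LK LD1_c19 LD2_c15 LD3_c5)) = (LP (LK LD1_c11 LD2_c55 LD3_c33)) :=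
  Lgr Lrot73 (Lpr_dt (K25.f220762 IH) (Lpr_et (K22.f339530 IH) (Lpr_dt (K22.f220201 IH) (Lpr_et (f220200 IH) (Lpr_dt (K25.f220197 IH) (Lpn (LP (LK LD1_c11 LD2_c55 LD3_c33))))))))
theorem f339553 : Led Lsl_gt (LP (LK LD1_c19 LD2_c5 LD3_c34)) = (LP (LK LD1_c19 LD2_c15 LD3_c5)) :=
  Lgr Lrot131 (Lpe (f323863 IH) (Lpr_dt (K24.f323850 IH) (Lpr_gf (f323920 IH) (Lpr_df (f304138 IH) (Lpe (f304141 IH) (Lpe (f250980 IH) (Lpe (K24.f265817 IH) (Lpr_gf (f339551 IH) (Lpr_df (K25.f220188 IH) (Lpe (f339532 IH) (Lpn (LP (LK LD1_c19 LD2_c15 LD3_c5)))))))))))))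
theorem f323876 : Led Lsl_et (LP (LK LD1_c15 LD2_c33 LD3_c45)) = (LP (LK LD1_c19 LD2_c10 LD3_c54)) :=
  Lgr Lrot71 (Lpe (K24.f323857 IH) (Lpe (f323863 IH) (Lpe (K24.f323855 IH) (Lpr_ef (K24.f323870 IH) (Lpe (K24.f196706 IH) (Lpn (LP (LK LD1_c19 LD2_c10 LD3_c54))))))))
theorem f339555 : Led Lsl_gf (LP (LK LD1_c24 LD2_c44 LD3_c38)) = (LP (LK LD1_c16 LD2_c2 LD3_c29)) :=
  Lgr Lrot138 (Lpe (K24.f323881 IH) (Lpe (K24.f270717 IH) (Lpe (K24.f43081 IH) (Lpr_et (K19.f270719 IH) (Lpr_gt (K24.f323878 IH) (Lpe (f323876 IH) (Lpe (K24.f323861 IH) (Lpr_gt (f339553 IH) (Lpe (K25.f184296 IH) (Lpr_et (K22.f339530 IH) (Lpn (LP (LK LD1_c16 LD2_c2 LD3_c29)))))))))))))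
theorem f307145 : Led Lsl_ct (LP (LK LD1_c4 LD2_c52 LD3_c23)) = (LP (LK LD1_c2 LD2_c23 LD3_c57)) :=
  Lre_c IH (LK LD1_c4 LD2_c52 LD3_c23) (LK LD1_c2 LD2_c23 LD3_c57) Lrfl Lrfl
theorem f320386 : Led Lsl_gt (LP (LK LD1_c9 LD2_c37 LD3_c3)) = (LP (LK LD1_c4 LD2_c52 LD3_c23)) :=
  Lre_g IH (LK LD1_c9 LD2_c37 LD3_c3) (LK LD1_c4 LD2_c52 LD3_c23) Lrfl Lrfl
theorem f364940 : Led Lsl_dt (LP (LK LD1_c8 LD2_c19 LD3_c3)) = (LP (LK LD1_c15 LD2_c38 LD3_c41)) :=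
  Lre_d IH (LK LD1_c8 LD2_c19 LD3_c3) (LK LD1_c15 LD2_c38 LD3_c41) Lrfl Lrfl
theorem f364941 : Led Lsl_at (LP (LK LD1_c15 LD2_c38 LD3_c29)) = (LP (LK LD1_c8 LD2_c19 LD3_c3)) :=
  Lre_a IH (LK LD1_c15 LD2_c38 LD3_c29) (LK LD1_c8 LD2_c19 LD3_c3) Lrfl Lrfl
theorem f364942 : Led Lsl_dt (LP (LK LD1_c10 LD2_c32 LD3_c60)) = (LP (LK LD1_c15 LD2_c38 LD3_c29)) :=
  Lgr Lrot44 (Lpr_af (f364928 IH) (Lpe (f364940 IH) (Lpe (f364941 IH) (Lpn (LP (LK LD1_c15 LD2_c38 LD3_c29))))))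
theorem f294246 : Led Lsl_gt (LP (LK LD1_c15 LD2_c38 LD3_c29)) = (LP (LK LD1_c8 LD2_c19 LD3_c1)) :=
  Lre_g IH (LK LD1_c15 LD2_c38 LD3_c29) (LK LD1_c8 LD2_c19 LD3_c1) Lrfl Lrfl
theorem f364953 : Led Lsl_ct (LP (LK LD1_c8 LD2_c19 LD3_c1)) = (LP (LK LD1_c9 LD2_c37 LD3_c3)) :=
  Lgr Lrot152 (Lpe (f294246 IH) (Lpe (f364942 IH) (Lpr_gt (f364951 IH) (Lpe (f362943 IH) (Lpr_gt (f259830 IH) (Lpr_ct (K19.f166736 IH) (Lpe (K25.f270920 IH) (Lpe (f307145 IH) (Lpe (f320386 IH) (Lpn (LP (LK LD1_c9 LD2_c37 LD3_c3))))))))))))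
theorem f364955 : Led Lsl_df (LP (LK LD1_c10 LD2_c32 LD3_c60)) = (LP (LK LD1_c15 LD2_c38 LD3_c29)) :=
  Lgr Lrot155 (Lpr_gt (f364951 IH) (Lpe (f362943 IH) (Lpr_gt (f259830 IH) (Lpr_ct (K19.f166736 IH) (Lpe (K21.f306967 IH) (Lpe (f307145 IH) (Lpe (f320386 IH) (Lpe (f364953 IH) (Lpe (f294246 IH) (Lpn (LP (LK LD1_c15 LD2_c38 LD3_c29))))))))))))
theorem f365096 : Led Lsl_ef (LP (LK LD1_c8 LD2_c40 LD3_c1)) = (LP (LK LD1_c15 LD2_c38 LD3_c29)) :=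
  Lgr Lrot167 (Lpr_gt (f365094 IH) (Lpe (K24.f323861 IH) (Lpr_gt (f339553 IH) (Lpe (K25.f184296 IH) (Lpr_et (K22.f339530 IH) (Lpe (f339555 IH) (Lpe (K25.f323887 IH) (Lpe (K25.f332992 IH) (Lpe (f364926 IH) (Lpr_df (f364955 IH) (Lpn (LP (LK LD1_c15 LD2_c38 LD3_c29)))))))))))))
theorem f342005 : Led Lsl_bt (LP (LK LD1_c4 LD2_c19 LD3_c13)) = (LP (LK LD1_c8 LD2_c36 LD3_c53)) :=
  Lre_b IH (LK LD1_c4 LD2_c19 LD3_c13) (LK LD1_c8 LD2_c36 LD3_c53) Lrfl Lrfl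
theorem f365088 : Led Lsl_bt (LP (LK LD1_c8 LD2_c40 LD3_c1)) = (LP (LK LD1_c8 LD2_c36 LD3_c54)) :=
  Lgr Lrot95 (Lpr_df (f365084 IH) (Lpe (f342005 IH) (Lpe (K23.f216341 IH) (Lpn (LP (LK LD1_c8 LD2_c36 LD3_c54))))))
theorem f364914 : Led Lsl_ef (LP (LK LD1_c8 LD2_c40 LD3_c24)) = (LP (LK LD1_c8 LD2_c36 LD3_c54)) :=
  Lgr Lrot88 (Lpr_et (f364910 IH) (Lpn (LP (LK LD1_c8 LD2_c36 LD3_c54))))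
theorem f365101 : Led Lsl_bt (LP (LK LD1_c8 LD2_c40 LD3_c24)) = (LP (LK LD1_c15 LD2_c38 LD3_c29)) :=
  Lgr Lrot119 (Lpr_ef (f364914 IH) (Lpe (f365088 IH) (Lpr_ef (f365096 IH) (Lpn (LP (LK LD1_c15 LD2_c38 LD3_c29))))))
theorem f365108 : Led Lsl_ft (LP (LK LD1_c15 LD2_c38 LD3_c29)) = (LP (LK LD1_c8 LD2_c18 LD3_c58)) :=
  Lre_f IH (LK LD1_c15 LD2_c38 LD3_c29) (LK LD1_c8 LD2_c18 LD3_c58) Lrfl Lrfl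
theorem f365109 : Led Lsl_bf (LP (LK LD1_c4 LD2_c21 LD3_c24)) = (LP (LK LD1_c8 LD2_c18 LD3_c58)) :=
  Lgr Lrot61 (Lpr_ft (f184791 IH) (Lpr_bt (f365101 IH) (Lpr_ft (f365108 IH) (Lpn (LP (LK LD1_c8 LD2_c18 LD3_c58))))))
theorem f365103 : Led Lsl_et (LP (LK LD1_c4 LD2_c9 LD3_c29)) = (LP (LK LD1_c8 LD2_c18 LD3_c58)) :=
  Lre_e IH (LK LD1_c4 LD2_c9 LD3_c29) (LK LD1_c8 LD2_c18 LD3_c58) Lrfl Lrfl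
theorem f365115 : Led Lsl_bt (LP (LK LD1_c2 LD2_c8 LD3_c12)) = (LP (LK LD1_c4 LD2_c9 LD3_c29)) :=
  Lgr Lrot119 (Lpe (K21.f184795 IH) (Lpr_bf (f365109 IH) (Lpe (f365103 IH) (Lpn (LP (LK LD1_c4 LD2_c9 LD3_c29))))))
theorem f365123 : Led Lsl_gf (LP (LK LD1_c2 LD2_c8 LD3_c2)) = (LP (LK LD1_c4 LD2_c9 LD3_c29)) :=
  Lgr Lrot124 (Lpe (K1.f41978 IH) (Lpr_ct (K9.f41928 IH) (Lpr_gt (K13.f41989 IH) (Lpr_cf (K13.f192370 IH) (Lpr_bt (K13.f1735 IH) (Lpr_gt (K13.f1571 IH) (Lpr_ct (K0.f1715 IH) (Lpe (K13.f233404 IH) (Lpe (K13.f184770 IH) (Lpr_bt (f365115 IH) (Lpn (LP (LK LD1_c4 LD2_c9 LD3_c29)))))))))))))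
theorem f267256 : Led Lsl_cf (LP (LK LD1_c8 LD2_c24 LD3_c33)) = (LP (LK LD1_c4 LD2_c28 LD3_c39)) :=
  Lgr Lrot11 (Lpr_ct (K15.f267244 IH) (Lpn (LP (LK LD1_c4 LD2_c28 LD3_c39))))
theorem f53904 : Led Lsl_gt (LP (LK LD1_c8 LD2_c10 LD3_c47)) = (LP (LK LD1_c4 LD2_c5 LD3_c0)) :=
  Lre_g IH (LK LD1_c8 LD2_c10 LD3_c47) (LK LD1_c4 LD2_c5 LD3_c0) Lrfl Lrfl
theorem f365127 : Led Lsl_ct (LP (LK LD1_c8 LD2_c10 LD3_c47)) = (LP (LK LD1_c4 LD2_c9 LD3_c29)) :=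
  Lgr Lrot8 (Lpr_gt (f53904 IH) (Lpr_dt (K17.f53897 IH) (Lpr_gt (K17.f53914 IH) (Lpr_dt (K20.f292432 IH) (Lpe (K12.f189104 IH) (Lpe (K12.f47677 IH) (Lpe (K12.f212480 IH) (Lpe (K1.f41977 IH) (Lpr_gf (f365123 IH) (Lpn (LP (LK LD1_c4 LD2_c9 LD3_c29))))))))))))
theorem f365133 : Led Lsl_gt (LP (LK LD1_c4 LD2_c19 LD3_c22)) = (LP (LK LD1_c8 LD2_c10 LD3_c47)) :=
  Lgr Lrot9 (Lpe (K17.f292434 IH) (Lpe (K17.f292647 IH) (Lpr_ct (K17.f278871 IH) (Lpr_gt (K12.f183260 IH) (Lpe (f267256 IH) (Lpr_df (K15.f267266 IH) (Lpe (K15.f41985 IH) (Lpr_gf (f365123 IH) (Lpe (f365127 IH) (Lpn (LP (LK LD1_c8 LD2_c10 LD3_c47))))))))))))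
theorem f365138 : Led Lsl_dt (LP (LK LD1_c8 LD2_c10 LD3_c47)) = (LP (LK LD1_c15 LD2_c24 LD3_c3)) :=
  Lre_d IH (LK LD1_c8 LD2_c10 LD3_c47) (LK LD1_c15 LD2_c24 LD3_c3) Lrfl Lrfl
theorem f365141 : Led Lsl_ct (LP (LK LD1_c8 LD2_c53 LD3_c2)) = (LP (LK LD1_c15 LD2_c24 LD3_c3)) :=
  Lgr Lrot7 (Lpe (K19.f168070 IH) (Lpe (K9.f44647 IH) (Lpe (K15.f168600 IH) (Lpe (K16.f195083 IH) (Lpe (K17.f270935 IH) (Lpr_gt (K17.f292435 IH) (Lpr_dt (K17.f292434 IH) (Lpr_gt (f365133 IH) (Lpr_dt (f365138 IH) (Lpn (LP (LK LD1_c15 LD2_c24 LD3_c3))))))))))))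
theorem f365146 : Led Lsl_dt (LP (LK LD1_c15 LD2_c24 LD3_c3)) = (LP (LK LD1_c8 LD2_c10 LD3_c47)) :=
  Lre_d IH (LK LD1_c15 LD2_c24 LD3_c3) (LK LD1_c8 LD2_c10 LD3_c47) Lrfl Lrfl
theorem f250494 : Led Lsl_at (LP (LK LD1_c2 LD2_c2 LD3_c2)) = (LP (LK LD1_c4 LD2_c9 LD3_c29)) :=
  Lre_a IH (LK LD1_c2 LD2_c2 LD3_c2) (LK LD1_c4 LD2_c9 LD3_c29) Lrfl Lrfl
theorem f365155 : Led Lsl_ft (LP (LK LD1_c4 LD2_c8 LD3_c17)) = (LP (LK LD1_c2 LD2_c2 LD3_c2)) :=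
  Lgr Lrot142 (Lpe (K15.f236107 IH) (Lpr_ct (K14.f251399 IH) (Lpe (K14.f251428 IH) (Lpr_ct (K9.f167941 IH) (Lpr_dt (K19.f168070 IH) (Lpr_ct (f365141 IH) (Lpr_dt (f365146 IH) (Lpr_ct (f365127 IH) (Lpe (f250494 IH) (Lpn (LP (LK LD1_c2 LD2_c2 LD3_c2))))))))))))
theorem f365161 : Led Lsl_ff (LP (LK LD1_c4 LD2_c8 LD3_c17)) = (LP (LK LD1_c2 LD2_c2 LD3_c2)) :=
  Lgr Lrot3 (Lpr_ft (f365155 IH) (Lpn (LP (LK LD1_c2 LD2_c2 LD3_c2))))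
theorem f365165 : Led Lsl_ft (LP (LK LD1_c8 LD2_c19 LD3_c3)) = (LP (LK LD1_c4 LD2_c9 LD3_c31)) :=
  Lre_f IH (LK LD1_c8 LD2_c19 LD3_c3) (LK LD1_c4 LD2_c9 LD3_c31) Lrfl Lrfl
theorem f365098 : Led Lsl_at (LP (LK LD1_c8 LD2_c19 LD3_c3)) = (LP (LK LD1_c15 LD2_c38 LD3_c29)) :=
  Lre_a IH (LK LD1_c8 LD2_c19 LD3_c3) (LK LD1_c15 LD2_c38 LD3_c29) Lrfl Lrfl
theorem f365099 : Led Lsl_et (LP (LK LD1_c10 LD2_c37 LD3_c42)) = (LP (LK LD1_c8 LD2_c19 LD3_c3)) :=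
  Lgr Lrot123 (Lpe (f359340 IH) (Lpr_ef (f365096 IH) (Lpe (f365098 IH) (Lpn (LP (LK LD1_c8 LD2_c19 LD3_c3))))))
theorem f365166 : Led Lsl_ft (LP (LK LD1_c8 LD2_c16 LD3_c37)) = (LP (LK LD1_c10 LD2_c37 LD3_c42)) :=
  Lgr Lrot86 (Lpe (K24.f254967 IH) (Lpr_ff (f365161 IH) (Lpe (K14.f232093 IH) (Lpe (f365165 IH) (Lpe (f365099 IH) (Lpn (LP (LK LD1_c10 LD2_c37 LD3_c42))))))))
theorem f365170 : Led Lsl_ff (LP (LK LD1_c8 LD2_c16 LD3_c37)) = (LP (LK LD1_c10 LD2_c37 LD3_c42)) :=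
  Lgr Lrot3 (Lpr_ft (f365166 IH) (Lpn (LP (LK LD1_c10 LD2_c37 LD3_c42))))
theorem f365160 : Led Lsl_ft (LP (LK LD1_c4 LD2_c9 LD3_c31)) = (LP (LK LD1_c8 LD2_c19 LD3_c3)) :=
  Lre_f IH (LK LD1_c4 LD2_c9 LD3_c31) (LK LD1_c8 LD2_c19 LD3_c3) Lrfl Lrfl
theorem f365178 : Led Lsl_et (LP (LK LD1_c8 LD2_c19 LD3_c3)) = (LP (LK LD1_c10 LD2_c37 LD3_c42)) :=
  Lgr Lrot69 (Lpe (f365160 IH) (Lpe (K14.f232087 IH) (Lpe (f365155 IH) (Lpe (K25.f261360 IH) (Lpr_ff (f365170 IH) (Lpn (LP (LK LD1_c10 LD2_c37 LD3_c42))))))))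
theorem f169248 : Led Lsl_dt (LP (LK LD1_c5 LD2_c23 LD3_c35)) = (LP (LK LD1_c10 LD2_c37 LD3_c42)) :=
  Lre_d IH (LK LD1_c5 LD2_c23 LD3_c35) (LK LD1_c10 LD2_c37 LD3_c42) Lrfl Lrfl
theorem f265821 : Led Lsl_gf (LP (LK LD1_c8 LD2_c40 LD3_c0)) = (LP (LK LD1_c10 LD2_c37 LD3_c42)) :=
  Lgr Lrot134 (Lpe (K24.f265812 IH) (Lpr_et (K24.f265813 IH) (Lpr_gt (K14.f194657 IH) (Lpe (K10.f194652 IH) (Lpr_dt (K10.f194625 IH) (Lpe (K12.f194623 IH) (Lpe (K12.f167816 IH) (Lpr_et (K15.f169167 IH) (Lpr_gt (K21.f169247 IH) (Lpr_dt (f169248 IH) (Lpn (LP (LK LD1_c10 LD2_c37 LD3_c42)))))))))))))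
theorem f265819 : Led Lsl_ef (LP (LK LD1_c16 LD2_c13 LD3_c49)) = (LP (LK LD1_c10 LD2_c35 LD3_c18)) :=
  Lgr Lrot88 (Lpr_et (K24.f265813 IH) (Lpn (LP (LK LD1_c10 LD2_c35 LD3_c18))))
theorem f265825 : Led Lsl_dt (LP (LK LD1_c16 LD2_c13 LD3_c50)) = (LP (LK LD1_c10 LD2_c34 LD3_c60)) :=
  Lgr Lrot77 (Lpe (K24.f265824 IH) (Lpe (K24.f265812 IH) (Lpr_ef (f265819 IH) (Lpr_df (K14.f250976 IH) (Lpe (f250980 IH) (Lpn (LP (LK LD1_c10 LD2_c34 LD3_c60))))))))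
theorem f262637 : Led Lsl_et (LP (LK LD1_c8 LD2_c40 LD3_c56)) = (LP (LK LD1_c14 LD2_c57 LD3_c7)) :=
  Lgr Lrot74 (Lpe (K21.f28890 IH) (Lpr_ef (K15.f262633 IH) (Lpe (K13.f229676 IH) (Lpn (LP (LK LD1_c14 LD2_c57 LD3_c7))))))
theorem f365188 : Led Lsl_gf (LP (LK LD1_c15 LD2_c38 LD3_c41)) = (LP (LK LD1_c10 LD2_c2 LD3_c2)) :=
  Lgr Lrot134 (Lpe (f364940 IH) (Lpr_et (f365178 IH) (Lpe (f265821 IH) (Lpe (K24.f265816 IH) (Lpr_dt (f265825 IH) (Lpe (K14.f246339 IH) (Lpr_df (K13.f196637 IH) (Lpr_et (f262637 IH) (Lpe (f358830 IH) (Lpe (f331400 IH) (Lpn (LP (LK LD1_c10 LD2_c2 LD3_c2)))))))))))))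
theorem f364937 : Led Lsl_bt (LP (LK LD1_c8 LD2_c19 LD3_c19)) = (LP (LK LD1_c15 LD2_c38 LD3_c41)) :=
  Lre_b IH (LK LD1_c8 LD2_c19 LD3_c19) (LK LD1_c15 LD2_c38 LD3_c41) Lrfl Lrfl
theorem f365192 : Led Lsl_ct (LP (LK LD1_c8 LD2_c19 LD3_c19)) = (LP (LK LD1_c15 LD2_c39 LD3_c12)) :=
  Lre_c IH (LK LD1_c8 LD2_c19 LD3_c19) (LK LD1_c15 LD2_c39 LD3_c12) Lrfl Lrfl
theorem f249159 : Led Lsl_bt (LP (LK LD1_c5 LD2_c5 LD3_c27)) = (LP (LK LD1_c10 LD2_c2 LD3_c2)) :=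
  Lre_b IH (LK LD1_c5 LD2_c5 LD3_c27) (LK LD1_c10 LD2_c2 LD3_c2) Lrfl Lrfl
theorem f167519 : Led Lsl_ct (LP (LK LD1_c5 LD2_c5 LD3_c27)) = (LP (LK LD1_c10 LD2_c2 LD3_c3)) :=
  Lre_c IH (LK LD1_c5 LD2_c5 LD3_c27) (LK LD1_c10 LD2_c2 LD3_c3) Lrfl Lrfl
theorem f358936 : Led Lsl_df (LP (LK LD1_c14 LD2_c58 LD3_c11)) = (LP (LK LD1_c15 LD2_c24 LD3_c37)) :=
  Lgr Lrot155 (Lpr_gt (K22.f266232 IH) (Lpe (K23.f349785 IH) (Lpr_gt (f358932 IH) (Lpr_ct (f248341 IH) (Lpr_dt (K21.f249202 IH) (Lpe (f249170 IH) (Lpr_gf (f355698 IH) (Lpe (f191074 IH) (Lpe (f191081 IH) (Lpn (LP (LK LD1_c15 LD2_c24 LD3_c37))))))))))))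
theorem f190908 : Led Lsl_df (LP (LK LD1_c10 LD2_c7 LD3_c25)) = (LP (LK LD1_c15 LD2_c51 LD3_c19)) :=
  Lgr Lrot135 (Lpr_gt (K21.f33259 IH) (Lpe (K12.f33242 IH) (Lpr_et (K15.f33258 IH) (Lpr_gt (K12.f190904 IH) (Lpe (K16.f44923 IH) (Lpr_dt (K12.f33446 IH) (Lpr_gt (K12.f188729 IH) (Lpe (K13.f188595 IH) (Lpr_et (K12.f188604 IH) (Lpr_gt (K22.f188659 IH) (Lpn (LP (LK LD1_c15 LD2_c51 LD3_c19)))))))))))))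
theorem f358938 : Led Lsl_bt (LP (LK LD1_c10 LD2_c7 LD3_c25)) = (LP (LK LD1_c15 LD2_c24 LD3_c37)) :=
  Lgr Lrot95 (Lpr_df (f190908 IH) (Lpe (K22.f327623 IH) (Lpr_df (f358936 IH) (Lpn (LP (LK LD1_c15 LD2_c24 LD3_c37))))))
theorem f365193 : Led Lsl_gt (LP (LK LD1_c15 LD2_c39 LD3_c12)) = (LP (LK LD1_c10 LD2_c20 LD3_c14)) :=
  Lgr Lrot65 (Lpe (f365192 IH) (Lpr_bt (f364937 IH) (Lpr_gf (f365188 IH) (Lpe (f249159 IH) (Lpr_ct (f167519 IH) (Lpr_gf (f355698 IH) (Lpe (f191074 IH) (Lpe (f191081 IH) (Lpe (f358938 IH) (Lpe (K21.f325902 IH) (Lpn (LP (LK LD1_c10 LD2_c20 LD3_c14)))))))))))))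
theorem f191708 : Led Lsl_ct (LP (LK LD1_c8 LD2_c26 LD3_c10)) = (LP (LK LD1_c15 LD2_c50 LD3_c41)) :=
  Lre_c IH (LK LD1_c8 LD2_c26 LD3_c10) (LK LD1_c15 LD2_c50 LD3_c41) Lrfl Lrfl
theorem f191690 : Led Lsl_ct (LP (LK LD1_c4 LD2_c51 LD3_c2)) = (LP (LK LD1_c9 LD2_c34 LD3_c6)) :=
  Lre_c IH (LK LD1_c4 LD2_c51 LD3_c2) (LK LD1_c9 LD2_c34 LD3_c6) Lrfl Lrfl
theorem f333060 : Led Lsl_bf (LP (LK LD1_c8 LD2_c16 LD3_c30)) = (LP (LK LD1_c8 LD2_c29 LD3_c39)) :=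
  Lgr Lrot34 (Lpe (K21.f328636 IH) (Lpe (K12.f229017 IH) (Lpr_ct (K23.f229021 IH) (Lpr_gf (K22.f333054 IH) (Lpe (K22.f193306 IH) (Lpe (K22.f2450 IH) (Lpe (K10.f191684 IH) (Lpr_ct (f191690 IH) (Lpr_gf (K25.f323319 IH) (Lpe (K25.f48962 IH) (Lpn (LP (LK LD1_c8 LD2_c29 LD3_c39)))))))))))))
theorem f333064 : Led Lsl_bt (LP (LK LD1_c5 LD2_c17 LD3_c36)) = (LP (LK LD1_c5 LD2_c15 LD3_c28)) :=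
  Lgr Lrot95 (Lpe (K21.f48314 IH) (Lpr_bf (f333060 IH) (Lpr_df (K10.f48296 IH) (Lpn (LP (LK LD1_c5 LD2_c15 LD3_c28))))))
theorem f333070 : Led Lsl_bf (LP (LK LD1_c5 LD2_c17 LD3_c36)) = (LP (LK LD1_c5 LD2_c15 LD3_c28)) :=
  Lgr Lrot24 (Lpr_bt (f333064 IH) (Lpn (LP (LK LD1_c5 LD2_c15 LD3_c28))))
theorem f47699 : Led Lsl_ct (LP (LK LD1_c5 LD2_c15 LD3_c28)) = (LP (LK LD1_c10 LD2_c20 LD3_c16)) :=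
  Lre_c IH (LK LD1_c5 LD2_c15 LD3_c28) (LK LD1_c10 LD2_c20 LD3_c16) Lrfl Lrfl
theorem f347700 : Led Lsl_gt (LP (LK LD1_c15 LD2_c50 LD3_c41)) = (LP (LK LD1_c10 LD2_c20 LD3_c16)) :=
  Lgr Lrot65 (Lpe (f191708 IH) (Lpr_bt (K17.f231833 IH) (Lpe (K22.f43827 IH) (Lpr_bf (f327619 IH) (Lpr_ct (f331437 IH) (Lpr_gf (f347695 IH) (Lpe (f254557 IH) (Lpr_gf (K21.f273564 IH) (Lpr_bf (f333070 IH) (Lpr_ct (f47699 IH) (Lpn (LP (LK LD1_c10 LD2_c20 LD3_c16)))))))))))))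
theorem f212529 : Led Lsl_et (LP (LK LD1_c8 LD2_c26 LD3_c9)) = (LP (LK LD1_c15 LD2_c50 LD3_c41)) :=
  Lre_e IH (LK LD1_c8 LD2_c26 LD3_c9) (LK LD1_c15 LD2_c50 LD3_c41) Lrfl Lrfl
theorem f48410 : Led Lsl_et (LP (LK LD1_c5 LD2_c16 LD3_c3)) = (LP (LK LD1_c2 LD2_c34 LD3_c50)) :=
  Lre_e IH (LK LD1_c5 LD2_c16 LD3_c3) (LK LD1_c2 LD2_c34 LD3_c50) Lrfl Lrfl
theorem f48412 : Led Lsl_gt (LP (LK LD1_c18 LD2_c48 LD3_c15)) = (LP (LK LD1_c10 LD2_c21 LD3_c37)) :=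
  Lre_g IH (LK LD1_c18 LD2_c48 LD3_c15) (LK LD1_c10 LD2_c21 LD3_c37) Lrfl Lrfl
theorem f48302 : Led Lsl_ct (LP (LK LD1_c10 LD2_c20 LD3_c16)) = (LP (LK LD1_c5 LD2_c15 LD3_c28)) :=
  Lre_c IH (LK LD1_c10 LD2_c20 LD3_c16) (LK LD1_c5 LD2_c15 LD3_c28) Lrfl Lrfl
theorem f48303 : Led Lsl_ct (LP (LK LD1_c5 LD2_c17 LD3_c36)) = (LP (LK LD1_c10 LD2_c24 LD3_c53)) :=
  Lre_c IH (LK LD1_c5 LD2_c17 LD3_c36) (LK LD1_c10 LD2_c24 LD3_c53) Lrfl Lrfl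
theorem f48304 : Led Lsl_ef (LP (LK LD1_c10 LD2_c20 LD3_c16)) = (LP (LK LD1_c10 LD2_c24 LD3_c53)) :=
  Lgr Lrot28 (Lpr_ct (f48302 IH) (Lpr_et (K10.f48300 IH) (Lpr_ct (f48303 IH) (Lpn (LP (LK LD1_c10 LD2_c24 LD3_c53))))))
theorem f347702 : Led Lsl_df (LP (LK LD1_c18 LD2_c48 LD3_c15)) = (LP (LK LD1_c10 LD2_c24 LD3_c53)) :=
  Lgr Lrot170 (Lpr_gt (f48412 IH) (Lpe (f48411 IH) (Lpr_et (f48410 IH) (Lpr_gt (K10.f45519 IH) (Lpr_dt (K1.f45193 IH) (Lpr_gt (K13.f45294 IH) (Lpe (K15.f212527 IH) (Lpr_et (f212529 IH) (Lpr_gt (f347700 IH) (Lpr_ef (f48304 IH) (Lpn (LP (LK LD1_c10 LD2_c24 LD3_c53)))))))))))))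
theorem f347709 : Led Lsl_gt (LP (LK LD1_c15 LD2_c30 LD3_c50)) = (LP (LK LD1_c10 LD2_c24 LD3_c53)) :=
  Lgr Lrot94 (Lpe (K25.f191080 IH) (Lpr_gt (K23.f44992 IH) (Lpr_dt (K23.f212514 IH) (Lpr_gt (K23.f193237 IH) (Lpr_dt (K14.f193227 IH) (Lpe (K25.f180777 IH) (Lpe (f180797 IH) (Lpe (f48412 IH) (Lpr_df (f347702 IH) (Lpn (LP (LK LD1_c10 LD2_c24 LD3_c53))))))))))))
theorem f365198 : Led Lsl_gf (LP (LK LD1_c8 LD2_c19 LD3_c19)) = (LP (LK LD1_c5 LD2_c15 LD3_c28)) :=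
  Lgr Lrot181 (Lpr_ct (f365192 IH) (Lpr_gt (f365193 IH) (Lpr_cf (K21.f325902 IH) (Lpr_bt (f358938 IH) (Lpr_gt (f191081 IH) (Lpe (K25.f191069 IH) (Lpr_ct (K25.f191080 IH) (Lpr_gt (f347709 IH) (Lpe (f48303 IH) (Lpr_bt (f333064 IH) (Lpn (LP (LK LD1_c5 LD2_c15 LD3_c28)))))))))))))
theorem f365202 : Led Lsl_dt (LP (LK LD1_c8 LD2_c19 LD3_c19)) = (LP (LK LD1_c4 LD2_c9 LD3_c39)) :=
  Lre_d IH (LK LD1_c8 LD2_c19 LD3_c19) (LK LD1_c4 LD2_c9 LD3_c39) Lrfl Lrfl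
theorem f320809 : Led Lsl_ef (LP (LK LD1_c5 LD2_c15 LD3_c51)) = (LP (LK LD1_c8 LD2_c17 LD3_c50)) :=
  Lgr Lrot29 (Lpe (K20.f320801 IH) (Lpr_et (K20.f320807 IH) (Lpe (K25.f229011 IH) (Lpn (LP (LK LD1_c8 LD2_c17 LD3_c50))))))
theorem f333374 : Led Lsl_et (LP (LK LD1_c5 LD2_c16 LD3_c33)) = (LP (LK LD1_c5 LD2_c18 LD3_c26)) :=
  Lgr Lrot74 (Lpe (K22.f333372 IH) (Lpr_ef (K22.f333370 IH) (Lpe (K22.f333373 IH) (Lpn (LP (LK LD1_c5 LD2_c18 LD3_c26))))))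
theorem f365209 : Led Lsl_gt (LP (LK LD1_c4 LD2_c9 LD3_c39)) = (LP (LK LD1_c4 LD2_c18 LD3_c14)) :=
  Lgr Lrot139 (Lpe (f365202 IH) (Lpr_gf (f365198 IH) (Lpr_ef (K10.f48306 IH) (Lpe (K10.f48311 IH) (Lpe (K21.f328636 IH) (Lpe (K25.f229010 IH) (Lpe (f320809 IH) (Lpr_gf (K25.f351265 IH) (Lpe (f333374 IH) (Lpe (K22.f333427 IH) (Lpn (LP (LK LD1_c4 LD2_c18 LD3_c14)))))))))))))
theorem f317868 : Led Lsl_df (LP (LK LD1_c5 LD2_c27 LD3_c48)) = (LP (LK LD1_c10 LD2_c24 LD3_c36)) :=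
  Lgr Lrot78 (Lpr_ft (K20.f317771 IH) (Lpr_dt (K22.f48216 IH) (Lpr_ft (K17.f48219 IH) (Lpn (LP (LK LD1_c10 LD2_c24 LD3_c36))))))
theorem f365221 : Led Lsl_et (LP (LK LD1_c8 LD2_c19 LD3_c19)) = (LP (LK LD1_c5 LD2_c15 LD3_c42)) :=
  Lgr Lrot122 (Lpr_dt (f365202 IH) (Lpr_gt (f365209 IH) (Lpr_df (K22.f333427 IH) (Lpr_et (f333374 IH) (Lpe (K25.f351265 IH) (Lpe (K25.f322850 IH) (Lpe (K20.f318006 IH) (Lpr_df (f317868 IH) (Lpe (f263081 IH) (Lpr_gt (f362162 IH) (Lpn (LP (LK LD1_c5 LD2_c15 LD3_c42)))))))))))))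
theorem f365227 : Led Lsl_gf (LP (LK LD1_c4 LD2_c9 LD3_c39)) = (LP (LK LD1_c8 LD2_c16 LD3_c46)) :=
  Lgr Lrot134 (Lpe (f365202 IH) (Lpr_et (f365221 IH) (Lpe (f362164 IH) (Lpr_ef (K15.f184996 IH) (Lpr_dt (K15.f259654 IH) (Lpr_gt (K15.f197024 IH) (Lpe (K10.f197013 IH) (Lpr_et (K13.f197058 IH) (Lpr_gt (K22.f243136 IH) (Lpe (K22.f285641 IH) (Lpn (LP (LK LD1_c8 LD2_c16 LD3_c46)))))))))))))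
theorem f365229 : Led Lsl_af (LP (LK LD1_c4 LD2_c9 LD3_c39)) = (LP (LK LD1_c8 LD2_c16 LD3_c47)) :=
  Lgr Lrot31 (Lpr_gf (f365227 IH) (Lpe (K22.f47700 IH) (Lpr_ft (K13.f47697 IH) (Lpn (LP (LK LD1_c8 LD2_c16 LD3_c47))))))
theorem f47706 : Led Lsl_ct (LP (LK LD1_c8 LD2_c16 LD3_c47)) = (LP (LK LD1_c15 LD2_c34 LD3_c5)) :=
  Lre_c IH (LK LD1_c8 LD2_c16 LD3_c47) (LK LD1_c15 LD2_c34 LD3_c5) Lrfl Lrfl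
theorem f361999 : Led Lsl_ct (LP (LK LD1_c8 LD2_c18 LD3_c51)) = (LP (LK LD1_c4 LD2_c9 LD3_c28)) :=
  Lre_c IH (LK LD1_c8 LD2_c18 LD3_c51) (LK LD1_c4 LD2_c9 LD3_c28) Lrfl Lrfl
theorem f362000 : Led Lsl_ef (LP (LK LD1_c8 LD2_c16 LD3_c47)) = (LP (LK LD1_c4 LD2_c9 LD3_c28)) :=
  Lgr Lrot28 (Lpr_ct (f47706 IH) (Lpr_et (f361994 IH) (Lpr_ct (f361999 IH) (Lpn (LP (LK LD1_c4 LD2_c9 LD3_c28))))))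
theorem f236207 : Led Lsl_ft (LP (LK LD1_c4 LD2_c8 LD3_c19)) = (LP (LK LD1_c8 LD2_c16 LD3_c42)) :=
  Lre_f IH (LK LD1_c4 LD2_c8 LD3_c19) (LK LD1_c8 LD2_c16 LD3_c42) Lrfl Lrfl
theorem f362200 : Led Lsl_af (LP (LK LD1_c4 LD2_c9 LD3_c28)) = (LP (LK LD1_c8 LD2_c16 LD3_c42)) :=
  Lgr Lrot45 (Lpr_ft (f362013 IH) (Lpr_at (f362194 IH) (Lpr_ft (f236207 IH) (Lpn (LP (LK LD1_c8 LD2_c16 LD3_c42))))))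
theorem f365237 : Led Lsl_et (LP (LK LD1_c4 LD2_c9 LD3_c39)) = (LP (LK LD1_c8 LD2_c16 LD3_c42)) :=
  Lgr Lrot123 (Lpr_af (f365229 IH) (Lpr_ef (f362000 IH) (Lpr_af (f362200 IH) (Lpn (LP (LK LD1_c8 LD2_c16 LD3_c42))))))
theorem f365211 : Led Lsl_dt (LP (LK LD1_c4 LD2_c9 LD3_c39)) = (LP (LK LD1_c8 LD2_c19 LD3_c19)) :=
  Lre_d IH (LK LD1_c4 LD2_c9 LD3_c39) (LK LD1_c8 LD2_c19 LD3_c19) Lrfl Lrfl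
theorem f365243 : Led Lsl_gf (LP (LK LD1_c4 LD2_c9 LD3_c26)) = (LP (LK LD1_c8 LD2_c16 LD3_c42)) :=
  Lgr Lrot141 (Lpe (K21.f250670 IH) (Lpr_dt (K21.f323465 IH) (Lpe (K21.f323473 IH) (Lpe (K13.f197603 IH) (Lpr_et (K21.f296400 IH) (Lpe (K21.f287644 IH) (Lpe (K22.f48963 IH) (Lpe (f365198 IH) (Lpe (f365211 IH) (Lpr_et (f365237 IH) (Lpn (LP (LK LD1_c8 LD2_c16 LD3_c42)))))))))))))
theorem f359360 : Led Lsl_gt (LP (LK LD1_c15 LD2_c6 LD3_c39)) = (LP (LK LD1_c9 LD2_c38 LD3_c49)) :=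
  Lgr Lrot5 (Lpr_ft (K15.f258447 IH) (Lpr_at (K17.f247158 IH) (Lpr_gf (f359357 IH) (Lpn (LP (LK LD1_c9 LD2_c38 LD3_c49))))))
theorem f267172 : Led Lsl_bt (LP (LK LD1_c4 LD2_c8 LD3_c19)) = (LP (LK LD1_c8 LD2_c16 LD3_c37)) :=
  Lre_b IH (LK LD1_c4 LD2_c8 LD3_c19) (LK LD1_c8 LD2_c16 LD3_c37) Lrfl Lrfl
theorem f236206 : Led Lsl_ft (LP (LK LD1_c8 LD2_c16 LD3_c42)) = (LP (LK LD1_c4 LD2_c8 LD3_c19)) :=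
  Lre_f IH (LK LD1_c8 LD2_c16 LD3_c42) (LK LD1_c4 LD2_c8 LD3_c19) Lrfl Lrfl
theorem f365168 : Led Lsl_bf (LP (LK LD1_c8 LD2_c16 LD3_c42)) = (LP (LK LD1_c10 LD2_c37 LD3_c42)) :=
  Lgr Lrot61 (Lpr_ft (f236206 IH) (Lpr_bt (f267172 IH) (Lpr_ft (f365166 IH) (Lpn (LP (LK LD1_c10 LD2_c37 LD3_c42))))))
theorem f365246 : Led Lsl_cf (LP (LK LD1_c17 LD2_c45 LD3_c3)) = (LP (LK LD1_c10 LD2_c37 LD3_c42)) :=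
  Lgr Lrot58 (Lpe (f167029 IH) (Lpe (f167028 IH) (Lpr_bt (f359356 IH) (Lpe (f359360 IH) (Lpr_bf (K15.f258485 IH) (Lpr_ct (K15.f251806 IH) (Lpe (K21.f323399 IH) (Lpe (K21.f323398 IH) (Lpr_gf (f365243 IH) (Lpr_bf (f365168 IH) (Lpn (LP (LK LD1_c10 LD2_c37 LD3_c42)))))))))))))
theorem f358590 : Led Lsl_gf (LP (LK LD1_c4 LD2_c5 LD3_c13)) = (LP (LK LD1_c6 LD2_c7 LD3_c8)) :=
  Lgr Lrot145 (Lpe (K15.f223958 IH) (Lpr_et (K25.f41350 IH) (Lpr_gt (K9.f41379 IH) (Lpr_dt (K1.f41906 IH) (Lpr_gt (K11.f41265 IH) (Lpe (K13.f55005 IH) (Lpr_et (K25.f55006 IH) (Lpr_gt (f358566 IH) (Lpr_ef (f169047 IH) (Lpr_dt (f169035 IH) (Lpn (LP (LK LD1_c6 LD2_c7 LD3_c8)))))))))))))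
theorem f223961 : Led Lsl_et (LP (LK LD1_c1 LD2_c59 LD3_c46)) = (LP (LK LD1_c4 LD2_c5 LD3_c13)) :=
  Lre_e IH (LK LD1_c1 LD2_c59 LD3_c46) (LK LD1_c4 LD2_c5 LD3_c13) Lrfl Lrfl
theorem f358592 : Led Lsl_gt (LP (LK LD1_c9 LD2_c43 LD3_c28)) = (LP (LK LD1_c9 LD2_c0 LD3_c6)) :=
  Lgr Lrot139 (Lpe (K19.f307396 IH) (Lpr_gf (K19.f307401 IH) (Lpe (K1.f55042 IH) (Lpr_dt (K1.f46216 IH) (Lpe (K9.f46220 IH) (Lpe (K13.f47278 IH) (Lpr_et (f223961 IH) (Lpr_gf (f358590 IH) (Lpe (f169037 IH) (Lpe (f169029 IH) (Lpn (LP (LK LD1_c9 LD2_c0 LD3_c6)))))))))))))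
theorem f307158 : Led Lsl_gt (LP (LK LD1_c15 LD2_c47 LD3_c47)) = (LP (LK LD1_c9 LD2_c38 LD3_c55)) :=
  Lgr Lrot137 (Lpe (K21.f305815 IH) (Lpr_dt (K21.f219368 IH) (Lpe (f306024 IH) (Lpr_df (f306018 IH) (Lpr_et (K25.f246686 IH) (Lpe (K19.f171424 IH) (Lpr_ef (K19.f271154 IH) (Lpe (K17.f228833 IH) (Lpr_gf (K19.f307156 IH) (Lpe (K19.f271173 IH) (Lpn (LP (LK LD1_c9 LD2_c38 LD3_c55)))))))))))))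
theorem f358594 : Led Lsl_ef (LP (LK LD1_c9 LD2_c43 LD3_c28)) = (LP (LK LD1_c9 LD2_c41 LD3_c16)) :=
  Lgr Lrot167 (Lpr_gt (f358592 IH) (Lpr_dt (f169032 IH) (Lpe (f358550 IH) (Lpr_df (f312590 IH) (Lpr_et (K21.f312582 IH) (Lpe (f312595 IH) (Lpr_ef (K21.f271102 IH) (Lpr_dt (K23.f305903 IH) (Lpr_gt (f307158 IH) (Lpr_df (K19.f271179 IH) (Lpn (LP (LK LD1_c9 LD2_c41 LD3_c16)))))))))))))
theorem f339132 : Led Lsl_bt (LP (LK LD1_c9 LD2_c43 LD3_c28)) = (LP (LK LD1_c17 LD2_c52 LD3_c40)) :=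
  Lre_b IH (LK LD1_c9 LD2_c43 LD3_c28) (LK LD1_c17 LD2_c52 LD3_c40) Lrfl Lrfl
theorem f358596 : Led Lsl_bt (LP (LK LD1_c10 LD2_c50 LD3_c40)) = (LP (LK LD1_c9 LD2_c41 LD3_c16)) :=
  Lgr Lrot119 (Lpr_ef (K22.f339134 IH) (Lpe (f339132 IH) (Lpr_ef (f358594 IH) (Lpn (LP (LK LD1_c9 LD2_c41 LD3_c16))))))
theorem f271183 : Led Lsl_bt (LP (LK LD1_c9 LD2_c38 LD3_c55)) = (LP (LK LD1_c17 LD2_c45 LD3_c6)) :=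
  Lre_b IH (LK LD1_c9 LD2_c38 LD3_c55) (LK LD1_c17 LD2_c45 LD3_c6) Lrfl Lrfl
theorem f358600 : Led Lsl_df (LP (LK LD1_c10 LD2_c50 LD3_c40)) = (LP (LK LD1_c17 LD2_c45 LD3_c6)) :=
  Lgr Lrot12 (Lpr_bt (f358596 IH) (Lpe (K19.f271179 IH) (Lpr_bt (f271183 IH) (Lpn (LP (LK LD1_c17 LD2_c45 LD3_c6))))))
theorem f317678 : Led Lsl_gf (LP (LK LD1_c4 LD2_c9 LD3_c6)) = (LP (LK LD1_c5 LD2_c29 LD3_c44)) :=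
  Lgr Lrot172 (Lpr_ct (K16.f259267 IH) (Lpr_dt (K20.f317661 IH) (Lpe (K18.f244829 IH) (Lpr_gf (K19.f284570 IH) (Lpe (K13.f218579 IH) (Lpe (K15.f263688 IH) (Lpr_dt (K14.f168529 IH) (Lpr_gt (K12.f168344 IH) (Lpr_ct (K14.f168346 IH) (Lpn (LP (LK LD1_c5 LD2_c29 LD3_c44))))))))))))
theorem f250544 : Led Lsl_et (LP (LK LD1_c4 LD2_c16 LD3_c22)) = (LP (LK LD1_c8 LD2_c31 LD3_c58)) :=
  Lre_e IH (LK LD1_c4 LD2_c16 LD3_c22) (LK LD1_c8 LD2_c31 LD3_c58) Lrfl Lrfl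
theorem f358607 : Led Lsl_et (LP (LK LD1_c17 LD2_c45 LD3_c6)) = (LP (LK LD1_c9 LD2_c38 LD3_c52)) :=
  Lre_e IH (LK LD1_c17 LD2_c45 LD3_c6) (LK LD1_c9 LD2_c38 LD3_c52) Lrfl Lrfl
theorem f358608 : Led Lsl_gf (LP (LK LD1_c8 LD2_c31 LD3_c58)) = (LP (LK LD1_c9 LD2_c38 LD3_c52)) :=
  Lgr Lrot141 (Lpe (f250544 IH) (Lpr_dt (K14.f250527 IH) (Lpe (f317678 IH) (Lpe (K20.f317649 IH) (Lpe (K21.f328403 IH) (Lpr_gt (K17.f168513 IH) (Lpr_dt (f168506 IH) (Lpr_gt (K22.f213811 IH) (Lpr_df (f358600 IH) (Lpr_et (f358607 IH) (Lpn (LP (LK LD1_c9 LD2_c38 LD3_c52)))))))))))))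
theorem f331042 : Led Lsl_bt (LP (LK LD1_c4 LD2_c53 LD3_c23)) = (LP (LK LD1_c9 LD2_c38 LD3_c52)) :=
  Lre_b IH (LK LD1_c4 LD2_c53 LD3_c23) (LK LD1_c9 LD2_c38 LD3_c52) Lrfl Lrfl
theorem f180077 : Led Lsl_ct (LP (LK LD1_c4 LD2_c53 LD3_c23)) = (LP (LK LD1_c9 LD2_c38 LD3_c53)) :=
  Lre_c IH (LK LD1_c4 LD2_c53 LD3_c23) (LK LD1_c9 LD2_c38 LD3_c53) Lrfl Lrfl
theorem f365254 : Led Lsl_gt (LP (LK LD1_c17 LD2_c45 LD3_c3)) = (LP (LK LD1_c9 LD2_c38 LD3_c53)) :=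
  Lgr Lrot149 (Lpr_cf (f365246 IH) (Lpe (f359338 IH) (Lpe (f309911 IH) (Lpr_ct (K21.f215535 IH) (Lpe (K25.f357338 IH) (Lpe (K20.f250601 IH) (Lpr_bt (K20.f246780 IH) (Lpr_gf (f358608 IH) (Lpe (f331042 IH) (Lpr_ct (f180077 IH) (Lpn (LP (LK LD1_c9 LD2_c38 LD3_c53)))))))))))))
theorem f250551 : Led Lsl_ct (LP (LK LD1_c8 LD2_c31 LD3_c58)) = (LP (LK LD1_c4 LD2_c16 LD3_c24)) :=
  Lre_c IH (LK LD1_c8 LD2_c31 LD3_c58) (LK LD1_c4 LD2_c16 LD3_c24) Lrfl Lrfl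
theorem f167594 : Led Lsl_ct (LP (LK LD1_c5 LD2_c5 LD3_c48)) = (LP (LK LD1_c10 LD2_c2 LD3_c37)) :=
  Lre_c IH (LK LD1_c5 LD2_c5 LD3_c48) (LK LD1_c10 LD2_c2 LD3_c37) Lrfl Lrfl
theorem f355688 : Led Lsl_gt (LP (LK LD1_c10 LD2_c2 LD3_c37)) = (LP (LK LD1_c15 LD2_c50 LD3_c41)) :=
  Lgr Lrot65 (Lpe (f167594 IH) (Lpr_bt (K25.f167453 IH) (Lpr_gf (K22.f333395 IH) (Lpe (K22.f200256 IH) (Lpr_ct (K18.f200244 IH) (Lpr_gf (K25.f335334 IH) (Lpe (K25.f355685 IH) (Lpr_gf (K25.f355681 IH) (Lpe (K17.f231833 IH) (Lpr_ct (f191708 IH) (Lpn (LP (LK LD1_c15 LD2_c50 LD3_c41)))))))))))))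
theorem f365215 : Led Lsl_gt (LP (LK LD1_c8 LD2_c19 LD3_c19)) = (LP (LK LD1_c5 LD2_c5 LD3_c48)) :=
  Lgr Lrot9 (Lpe (f365211 IH) (Lpr_gt (f365209 IH) (Lpr_ct (f333431 IH) (Lpe (f336514 IH) (Lpr_ct (K17.f257908 IH) (Lpr_df (K15.f263612 IH) (Lpe (K15.f191709 IH) (Lpe (f355688 IH) (Lpe (f167594 IH) (Lpn (LP (LK LD1_c5 LD2_c5 LD3_c48))))))))))))
theorem f348343 : Led Lsl_et (LP (LK LD1_c4 LD2_c16 LD3_c18)) = (LP (LK LD1_c4 LD2_c9 LD3_c25)) :=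
  Lgr Lrot87 (Lpr_ef (K23.f348338 IH) (Lpn (LP (LK LD1_c4 LD2_c9 LD3_c25))))
theorem f365241 : Led Lsl_gt (LP (LK LD1_c4 LD2_c9 LD3_c25)) = (LP (LK LD1_c8 LD2_c16 LD3_c42)) :=
  Lgr Lrot131 (Lpe (f348343 IH) (Lpr_dt (K23.f348354 IH) (Lpr_gf (K25.f351245 IH) (Lpe (K12.f229018 IH) (Lpr_gf (K23.f349873 IH) (Lpe (K23.f167573 IH) (Lpr_dt (K25.f167592 IH) (Lpe (f365215 IH) (Lpe (f365211 IH) (Lpr_et (f365237 IH) (Lpn (LP (LK LD1_c8 LD2_c16 LD3_c42)))))))))))))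
theorem f323376 : Led Lsl_bf (LP (LK LD1_c4 LD2_c9 LD3_c25)) = (LP (LK LD1_c4 LD2_c16 LD3_c8)) :=
  Lgr Lrot24 (Lpr_bt (K25.f323372 IH) (Lpn (LP (LK LD1_c4 LD2_c16 LD3_c8))))
theorem f260446 : Led Lsl_ct (LP (LK LD1_c4 LD2_c16 LD3_c8)) = (LP (LK LD1_c8 LD2_c31 LD3_c24)) :=
  Lre_c IH (LK LD1_c4 LD2_c16 LD3_c8) (LK LD1_c8 LD2_c31 LD3_c24) Lrfl Lrfl
theorem f365256 : Led Lsl_gt (LP (LK LD1_c4 LD2_c16 LD3_c24)) = (LP (LK LD1_c8 LD2_c31 LD3_c24)) :=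
  Lgr Lrot149 (Lpe (f250551 IH) (Lpr_gf (f358608 IH) (Lpe (f331042 IH) (Lpr_ct (f180077 IH) (Lpe (f365254 IH) (Lpr_cf (f365246 IH) (Lpe (f365168 IH) (Lpe (f365241 IH) (Lpr_bf (f323376 IH) (Lpr_ct (f260446 IH) (Lpn (LP (LK LD1_c8 LD2_c31 LD3_c24)))))))))))))
theorem f365239 : Led Lsl_ct (LP (LK LD1_c8 LD2_c16 LD3_c42)) = (LP (LK LD1_c15 LD2_c33 LD3_c55)) :=
  Lre_c IH (LK LD1_c8 LD2_c16 LD3_c42) (LK LD1_c15 LD2_c33 LD3_c55) Lrfl Lrfl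
theorem f365260 : Led Lsl_gf (LP (LK LD1_c8 LD2_c18 LD3_c49)) = (LP (LK LD1_c15 LD2_c33 LD3_c55)) :=
  Lgr Lrot129 (Lpe (K20.f321606 IH) (Lpr_bt (K20.f321158 IH) (Lpe (K20.f321161 IH) (Lpe (K20.f246776 IH) (Lpr_ct (f250551 IH) (Lpr_gt (f365256 IH) (Lpe (f260446 IH) (Lpe (f323376 IH) (Lpr_gt (f365241 IH) (Lpr_ct (f365239 IH) (Lpn (LP (LK LD1_c15 LD2_c33 LD3_c55)))))))))))))
theorem f321609 : Led Lsl_cf (LP (LK LD1_c9 LD2_c37 LD3_c43)) = (LP (LK LD1_c8 LD2_c18 LD3_c49)) :=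
  Lgr Lrot11 (Lpr_ct (K20.f321606 IH) (Lpn (LP (LK LD1_c8 LD2_c18 LD3_c49))))
theorem f340934 : Led Lsl_et (LP (LK LD1_c15 LD2_c16 LD3_c1)) = (LP (LK LD1_c25 LD2_c5 LD3_c54)) :=
  Lre_e IH (LK LD1_c15 LD2_c16 LD3_c1) (LK LD1_c25 LD2_c5 LD3_c54) Lrfl Lrfl
theorem f340935 : Led Lsl_ct (LP (LK LD1_c25 LD2_c5 LD3_c54)) = (LP (LK LD1_c17 LD2_c43 LD3_c21)) :=
  Lgr Lrot15 (Lpe (f340934 IH) (Lpr_cf (K23.f340930 IH) (Lpr_ef (K20.f301122 IH) (Lpn (LP (LK LD1_c17 LD2_c43 LD3_c21))))))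
theorem f348046 : Led Lsl_ct (LP (LK LD1_c10 LD2_c51 LD3_c56)) = (LP (LK LD1_c19 LD2_c38 LD3_c42)) :=
  Lre_c IH (LK LD1_c10 LD2_c51 LD3_c56) (LK LD1_c19 LD2_c38 LD3_c42) Lrfl Lrfl
theorem f365265 : Led Lsl_gf (LP (LK LD1_c25 LD2_c5 LD3_c54)) = (LP (LK LD1_c19 LD2_c38 LD3_c42)) :=
  Lgr Lrot104 (Lpr_ct (f340935 IH) (Lpe (f170376 IH) (Lpr_cf (f321609 IH) (Lpr_gf (f365260 IH) (Lpe (f365239 IH) (Lpe (f365241 IH) (Lpe (K23.f282998 IH) (Lpe (K23.f348036 IH) (Lpr_ct (f348046 IH) (Lpn (LP (LK LD1_c19 LD2_c38 LD3_c42))))))))))))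
theorem f321187 : Led Lsl_cf (LP (LK LD1_c19 LD2_c8 LD3_c15)) = (LP (LK LD1_c25 LD2_c20 LD3_c37)) :=
  Lgr Lrot11 (Lpr_ct (K25.f321185 IH) (Lpn (LP (LK LD1_c25 LD2_c20 LD3_c37))))
theorem f215532 : Led Lsl_ct (LP (LK LD1_c8 LD2_c22 LD3_c15)) = (LP (LK LD1_c4 LD2_c11 LD3_c8)) :=
  Lre_c IH (LK LD1_c8 LD2_c22 LD3_c15) (LK LD1_c4 LD2_c11 LD3_c8) Lrfl Lrfl
theorem f357342 : Led Lsl_gt (LP (LK LD1_c19 LD2_c8 LD3_c15)) = (LP (LK LD1_c15 LD2_c45 LD3_c17)) :=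
  Lgr Lrot150 (Lpr_cf (f321187 IH) (Lpe (f352262 IH) (Lpe (K21.f322670 IH) (Lpe (K20.f321161 IH) (Lpr_ct (K20.f250601 IH) (Lpr_gt (K25.f357338 IH) (Lpr_ct (f215532 IH) (Lpe (K21.f215471 IH) (Lpe (f300911 IH) (Lpn (LP (LK LD1_c15 LD2_c45 LD3_c17))))))))))))
theorem f322668 : Led Lsl_bt (LP (LK LD1_c17 LD2_c43 LD3_c21)) = (LP (LK LD1_c27 LD2_c23 LD3_c59)) :=
  Lgr Lrot95 (Lpe (f170376 IH) (Lpe (K20.f170377 IH) (Lpr_df (K20.f322666 IH) (Lpn (LP (LK LD1_c27 LD2_c23 LD3_c59))))))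
theorem f365270 : Led Lsl_cf (LP (LK LD1_c25 LD2_c5 LD3_c54)) = (LP (LK LD1_c17 LD2_c43 LD3_c21)) :=
  Lgr Lrot58 (Lpr_gf (f365265 IH) (Lpe (f348046 IH) (Lpr_bt (K23.f348095 IH) (Lpe (K23.f326949 IH) (Lpe (K24.f322662 IH) (Lpr_ct (f300908 IH) (Lpe (f357342 IH) (Lpr_cf (f321187 IH) (Lpe (f352262 IH) (Lpe (f322668 IH) (Lpn (LP (LK LD1_c17 LD2_c43 LD3_c21)))))))))))))
theorem f337748 : Led Lsl_gf (LP (LK LD1_c25 LD2_c23 LD3_c19)) = (LP (LK LD1_c17 LD2_c43 LD3_c22)) :=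
  Lgr Lrot145 (Lpe (f314643 IH) (Lpr_et (K23.f322424 IH) (Lpr_gt (K23.f337738 IH) (Lpr_dt (K23.f223090 IH) (Lpr_gt (K23.f189735 IH) (Lpe (K23.f189741 IH) (Lpr_et (K23.f189743 IH) (Lpe (K23.f223103 IH) (Lpr_ef (K20.f246716 IH) (Lpr_dt (f301099 IH) (Lpn (LP (LK LD1_c17 LD2_c43 LD3_c22)))))))))))))
theorem f347860 : Led Lsl_gf (LP (LK LD1_c17 LD2_c43 LD3_c21)) = (LP (LK LD1_c19 LD2_c45 LD3_c56)) :=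
  Lgr Lrot134 (Lpe (f170376 IH) (Lpr_et (K20.f301101 IH) (Lpe (f337748 IH) (Lpr_ef (K23.f314645 IH) (Lpr_dt (K23.f314644 IH) (Lpr_gt (K22.f328354 IH) (Lpe (K21.f168512 IH) (Lpr_et (K23.f322288 IH) (Lpr_gt (K23.f347854 IH) (Lpe (K23.f347856 IH) (Lpn (LP (LK LD1_c19 LD2_c45 LD3_c56)))))))))))))
theorem f347764 : Led Lsl_gf (LP (LK LD1_c10 LD2_c51 LD3_c52)) = (LP (LK LD1_c15 LD2_c36 LD3_c52)) :=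
  Lgr Lrot47 (Lpr_gt (K23.f347754 IH) (Lpe (K23.f331188 IH) (Lpr_ff (K21.f331186 IH) (Lpn (LP (LK LD1_c15 LD2_c36 LD3_c52))))))
theorem f236158 : Led Lsl_ct (LP (LK LD1_c19 LD2_c38 LD3_c39)) = (LP (LK LD1_c10 LD2_c51 LD3_c53)) :=
  Lre_c IH (LK LD1_c19 LD2_c38 LD3_c39) (LK LD1_c10 LD2_c51 LD3_c53) Lrfl Lrfl
theorem f365272 : Led Lsl_gt (LP (LK LD1_c25 LD2_c5 LD3_c54)) = (LP (LK LD1_c19 LD2_c38 LD3_c39)) :=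
  Lgr Lrot150 (Lpr_cf (f365270 IH) (Lpr_gf (f347860 IH) (Lpr_df (K23.f347856 IH) (Lpr_gt (K23.f229603 IH) (Lpr_ct (K21.f229597 IH) (Lpe (f347764 IH) (Lpr_ct (f250650 IH) (Lpe (K14.f236154 IH) (Lpe (f236158 IH) (Lpn (LP (LK LD1_c19 LD2_c38 LD3_c39))))))))))))
theorem f353203 : Led Lsl_gt (LP (LK LD1_c15 LD2_c36 LD3_c50)) = (LP (LK LD1_c10 LD2_c50 LD3_c38)) :=
  Lgr Lrot131 (Lpr_ef (K23.f343760 IH) (Lpr_dt (K23.f343756 IH) (Lpe (K23.f343766 IH) (Lpe (K23.f212836 IH) (Lpe (K25.f353190 IH) (Lpe (K25.f353187 IH) (Lpr_dt (K25.f353194 IH) (Lpe (K25.f295911 IH) (Lpe (K21.f168512 IH) (Lpr_et (K23.f322288 IH) (Lpn (LP (LK LD1_c10 LD2_c50 LD3_c38)))))))))))))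
theorem f347291 : Led Lsl_dt (LP (LK LD1_c19 LD2_c38 LD3_c22)) = (LP (LK LD1_c10 LD2_c51 LD3_c46)) :=
  Lre_d IH (LK LD1_c19 LD2_c38 LD3_c22) (LK LD1_c10 LD2_c51 LD3_c46) Lrfl Lrfl
theorem f365274 : Led Lsl_gf (LP (LK LD1_c19 LD2_c38 LD3_c22)) = (LP (LK LD1_c25 LD2_c31 LD3_c20)) :=
  Lgr Lrot143 (Lpr_dt (f347291 IH) (Lpr_cf (K23.f347278 IH) (Lpe (K23.f328229 IH) (Lpe (f353203 IH) (Lpr_df (K23.f301106 IH) (Lpe (f353572 IH) (Lpe (f340935 IH) (Lpr_gt (f365272 IH) (Lpr_dt (f345703 IH) (Lpn (LP (LK LD1_c25 LD2_c31 LD3_c20))))))))))))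
theorem f317585 : Led Lsl_ft (LP (LK LD1_c15 LD2_c36 LD3_c47)) = (LP (LK LD1_c25 LD2_c31 LD3_c23)) :=
  Lre_f IH (LK LD1_c15 LD2_c36 LD3_c47) (LK LD1_c25 LD2_c31 LD3_c23) Lrfl Lrfl
theorem f365276 : Led Lsl_af (LP (LK LD1_c19 LD2_c38 LD3_c22)) = (LP (LK LD1_c25 LD2_c31 LD3_c23)) :=
  Lgr Lrot31 (Lpr_gf (f365274 IH) (Lpe (f300954 IH) (Lpr_ft (f317585 IH) (Lpn (LP (LK LD1_c25 LD2_c31 LD3_c23))))))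
theorem f234760 : Led Lsl_dt (LP (LK LD1_c24 LD2_c50 LD3_c5)) = (LP (LK LD1_c15 LD2_c1 LD3_c50)) :=
  Lre_d IH (LK LD1_c24 LD2_c50 LD3_c5) (LK LD1_c15 LD2_c1 LD3_c50) Lrfl Lrfl
theorem f295747 : Led Lsl_dt (LP (LK LD1_c10 LD2_c51 LD3_c46)) = (LP (LK LD1_c19 LD2_c38 LD3_c22)) :=
  Lre_d IH (LK LD1_c10 LD2_c51 LD3_c46) (LK LD1_c19 LD2_c38 LD3_c22) Lrfl Lrfl
theorem f359328 : Led Lsl_ff (LP (LK LD1_c24 LD2_c50 LD3_c5)) = (LP (LK LD1_c19 LD2_c38 LD3_c22)) :=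
  Lgr Lrot19 (Lpr_dt (f234760 IH) (Lpr_ft (f359324 IH) (Lpr_dt (f295747 IH) (Lpn (LP (LK LD1_c19 LD2_c38 LD3_c22))))))
theorem f365286 : Led Lsl_at (LP (LK LD1_c24 LD2_c50 LD3_c5)) = (LP (LK LD1_c15 LD2_c36 LD3_c47)) :=
  Lgr Lrot66 (Lpr_ff (f359328 IH) (Lpr_af (f365276 IH) (Lpe (f317585 IH) (Lpn (LP (LK LD1_c15 LD2_c36 LD3_c47))))))
theorem f228405 : Led Lsl_gt (LP (LK LD1_c25 LD2_c31 LD3_c21)) = (LP (LK LD1_c15 LD2_c36 LD3_c47)) :=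
  Lre_g IH (LK LD1_c25 LD2_c31 LD3_c21) (LK LD1_c15 LD2_c36 LD3_c47) Lrfl Lrfl
theorem f365290 : Led Lsl_gt (LP (LK LD1_c19 LD2_c38 LD3_c22)) = (LP (LK LD1_c25 LD2_c31 LD3_c21)) :=
  Lgr Lrot5 (Lpe (f359328 IH) (Lpr_at (f365286 IH) (Lpe (f228405 IH) (Lpn (LP (LK LD1_c25 LD2_c31 LD3_c21))))))
theorem f295721 : Led Lsl_ct (LP (LK LD1_c10 LD2_c51 LD3_c44)) = (LP (LK LD1_c5 LD2_c30 LD3_c8)) :=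
  Lre_c IH (LK LD1_c10 LD2_c51 LD3_c44) (LK LD1_c5 LD2_c30 LD3_c8) Lrfl Lrfl
theorem f298742 : Led Lsl_gt (LP (LK LD1_c19 LD2_c38 LD3_c16)) = (LP (LK LD1_c10 LD2_c51 LD3_c44)) :=
  Lre_g IH (LK LD1_c19 LD2_c38 LD3_c16) (LK LD1_c10 LD2_c51 LD3_c44) Lrfl Lrfl
theorem f365294 : Led Lsl_cf (LP (LK LD1_c19 LD2_c38 LD3_c16)) = (LP (LK LD1_c25 LD2_c31 LD3_c21)) :=
  Lgr Lrot169 (Lpr_gt (f298742 IH) (Lpr_ct (f295721 IH) (Lpe (K22.f258746 IH) (Lpe (K21.f236215 IH) (Lpe (K13.f236149 IH) (Lpe (f236192 IH) (Lpe (K23.f347293 IH) (Lpe (f347291 IH) (Lpr_gt (f365290 IH) (Lpn (LP (LK LD1_c25 LD2_c31 LD3_c21))))))))))))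
theorem f295754 : Led Lsl_dt (LP (LK LD1_c10 LD2_c51 LD3_c44)) = (LP (LK LD1_c19 LD2_c38 LD3_c18)) :=
  Lre_d IH (LK LD1_c10 LD2_c51 LD3_c44) (LK LD1_c19 LD2_c38 LD3_c18) Lrfl Lrfl
theorem f295720 : Led Lsl_dt (LP (LK LD1_c5 LD2_c30 LD3_c8)) = (LP (LK LD1_c2 LD2_c41 LD3_c20)) :=
  Lre_d IH (LK LD1_c5 LD2_c30 LD3_c8) (LK LD1_c2 LD2_c41 LD3_c20) Lrfl Lrfl
theorem f295722 : Led Lsl_dt (LP (LK LD1_c19 LD2_c38 LD3_c18)) = (LP (LK LD1_c10 LD2_c51 LD3_c44)) :=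
  Lre_d IH (LK LD1_c19 LD2_c38 LD3_c18) (LK LD1_c10 LD2_c51 LD3_c44) Lrfl Lrfl
theorem f298736 : Led Lsl_cf (LP (LK LD1_c19 LD2_c38 LD3_c18)) = (LP (LK LD1_c25 LD2_c27 LD3_c60)) :=
  Lgr Lrot55 (Lpr_dt (f295722 IH) (Lpr_ct (f295721 IH) (Lpr_dt (f295720 IH) (Lpr_ct (K20.f273701 IH) (Lpr_dt (K14.f236152 IH) (Lpr_ct (K20.f236214 IH) (Lpr_dt (K18.f295096 IH) (Lpr_ct (K18.f295735 IH) (Lpr_dt (K18.f295736 IH) (Lpr_ct (K18.f295737 IH) (Lpr_dt (K18.f273713 IH) (Lpr_ct (K18.f222658 IH) (Lpr_dt (K18.f295738 IH) (Lpr_ct (K18.f295724 IH) (Lpr_dt (K20.f298734 IH) (Lpn (LP (LK LD1_c25 LD2_c27 LD3_c60))))))))))))))))))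
theorem f236203 : Led Lsl_ct (LP (LK LD1_c25 LD2_c27 LD3_c37)) = (LP (LK LD1_c15 LD2_c33 LD3_c54)) :=
  Lre_c IH (LK LD1_c25 LD2_c27 LD3_c37) (LK LD1_c15 LD2_c33 LD3_c54) Lrfl Lrfl
theorem f298759 : Led Lsl_gt (LP (LK LD1_c19 LD2_c38 LD3_c18)) = (LP (LK LD1_c25 LD2_c27 LD3_c37)) :=
  Lgr Lrot150 (Lpr_cf (f298736 IH) (Lpr_gf (K20.f273729 IH) (Lpe (f273708 IH) (Lpr_gt (K20.f298757 IH) (Lpr_ct (K20.f236213 IH) (Lpr_gt (K15.f236197 IH) (Lpr_ct (f270965 IH) (Lpe (f236202 IH) (Lpe (f236203 IH) (Lpn (LP (LK LD1_c25 LD2_c27 LD3_c37))))))))))))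
theorem f273869 : Led Lsl_dt (LP (LK LD1_c15 LD2_c36 LD3_c47)) = (LP (LK LD1_c8 LD2_c18 LD3_c8)) :=
  Lre_d IH (LK LD1_c15 LD2_c36 LD3_c47) (LK LD1_c8 LD2_c18 LD3_c8) Lrfl Lrfl
theorem f326690 : Led Lsl_ct (LP (LK LD1_c19 LD2_c38 LD3_c29)) = (LP (LK LD1_c10 LD2_c51 LD3_c48)) :=
  Lre_c IH (LK LD1_c19 LD2_c38 LD3_c29) (LK LD1_c10 LD2_c51 LD3_c48) Lrfl Lrfl
theorem f365302 : Led Lsl_dt (LP (LK LD1_c25 LD2_c27 LD3_c37)) = (LP (LK LD1_c19 LD2_c38 LD3_c29)) :=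
  Lgr Lrot105 (Lpe (f298759 IH) (Lpe (f295754 IH) (Lpe (f298742 IH) (Lpr_cf (f365294 IH) (Lpr_gt (f228405 IH) (Lpr_dt (f273869 IH) (Lpe (K21.f326684 IH) (Lpr_dt (f326643 IH) (Lpe (f326690 IH) (Lpn (LP (LK LD1_c19 LD2_c38 LD3_c29))))))))))))
theorem f298762 : Led Lsl_ct (LP (LK LD1_c15 LD2_c33 LD3_c54)) = (LP (LK LD1_c25 LD2_c27 LD3_c37)) :=
  Lre_c IH (LK LD1_c15 LD2_c33 LD3_c54) (LK LD1_c25 LD2_c27 LD3_c37) Lrfl Lrfl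
theorem f222261 : Led Lsl_dt (LP (LK LD1_c8 LD2_c16 LD3_c40)) = (LP (LK LD1_c15 LD2_c33 LD3_c54)) :=
  Lre_d IH (LK LD1_c8 LD2_c16 LD3_c40) (LK LD1_c15 LD2_c33 LD3_c54) Lrfl Lrfl
theorem f361971 : Led Lsl_ft (LP (LK LD1_c8 LD2_c16 LD3_c40)) = (LP (LK LD1_c15 LD2_c33 LD3_c55)) :=
  Lre_f IH (LK LD1_c8 LD2_c16 LD3_c40) (LK LD1_c15 LD2_c33 LD3_c55) Lrfl Lrfl
theorem f326682 : Led Lsl_dt (LP (LK LD1_c10 LD2_c51 LD3_c48)) = (LP (LK LD1_c5 LD2_c30 LD3_c10)) :=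
  Lre_d IH (LK LD1_c10 LD2_c51 LD3_c48) (LK LD1_c5 LD2_c30 LD3_c10) Lrfl Lrfl
theorem f273839 : Led Lsl_ct (LP (LK LD1_c5 LD2_c30 LD3_c10)) = (LP (LK LD1_c2 LD2_c41 LD3_c21)) :=
  Lre_c IH (LK LD1_c5 LD2_c30 LD3_c10) (LK LD1_c2 LD2_c41 LD3_c21) Lrfl Lrfl
theorem f330150 : Led Lsl_ct (LP (LK LD1_c19 LD2_c35 LD3_c2)) = (LP (LK LD1_c10 LD2_c50 LD3_c2)) :=
  Lre_c IH (LK LD1_c19 LD2_c35 LD3_c2) (LK LD1_c10 LD2_c50 LD3_c2) Lrfl Lrfl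
theorem f330188 : Led Lsl_et (LP (LK LD1_c19 LD2_c35 LD3_c2)) = (LP (LK LD1_c10 LD2_c50 LD3_c0)) :=
  Lre_e IH (LK LD1_c19 LD2_c35 LD3_c2) (LK LD1_c10 LD2_c50 LD3_c0) Lrfl Lrfl
theorem f264109 : Led Lsl_dt (LP (LK LD1_c10 LD2_c43 LD3_c33)) = (LP (LK LD1_c19 LD2_c24 LD3_c39)) :=
  Lre_d IH (LK LD1_c10 LD2_c43 LD3_c33) (LK LD1_c19 LD2_c24 LD3_c39) Lrfl Lrfl
theorem f300994 : Led Lsl_dt (LP (LK LD1_c10 LD2_c51 LD3_c38)) = (LP (LK LD1_c5 LD2_c30 LD3_c6)) :=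
  Lre_d IH (LK LD1_c10 LD2_c51 LD3_c38) (LK LD1_c5 LD2_c30 LD3_c6) Lrfl Lrfl
theorem f301026 : Led Lsl_ft (LP (LK LD1_c19 LD2_c24 LD3_c39)) = (LP (LK LD1_c10 LD2_c51 LD3_c38)) :=
  Lgr Lrot54 (Lpe (f264109 IH) (Lpr_ff (K24.f301009 IH) (Lpe (f300994 IH) (Lpn (LP (LK LD1_c10 LD2_c51 LD3_c38))))))
theorem f301053 : Led Lsl_ff (LP (LK LD1_c19 LD2_c24 LD3_c39)) = (LP (LK LD1_c10 LD2_c51 LD3_c38)) :=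
  Lgr Lrot3 (Lpr_ft (f301026 IH) (Lpn (LP (LK LD1_c10 LD2_c51 LD3_c38))))
theorem f273707 : Led Lsl_ct (LP (LK LD1_c15 LD2_c39 LD3_c45)) = (LP (LK LD1_c25 LD2_c35 LD3_c5)) :=
  Lre_c IH (LK LD1_c15 LD2_c39 LD3_c45) (LK LD1_c25 LD2_c35 LD3_c5) Lrfl Lrfl
theorem f301058 : Led Lsl_at (LP (LK LD1_c19 LD2_c24 LD3_c39)) = (LP (LK LD1_c10 LD2_c51 LD3_c41)) :=
  Lgr Lrot33 (Lpr_ff (f301053 IH) (Lpr_dt (f300994 IH) (Lpr_ct (K22.f236216 IH) (Lpe (K20.f300990 IH) (Lpr_ct (K17.f258480 IH) (Lpr_dt (f273708 IH) (Lpr_ct (f273707 IH) (Lpe (K17.f273704 IH) (Lpr_ct (K17.f273700 IH) (Lpn (LP (LK LD1_c10 LD2_c51 LD3_c41))))))))))))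
theorem f216990 : Led Lsl_gt (LP (LK LD1_c10 LD2_c51 LD3_c38)) = (LP (LK LD1_c19 LD2_c38 LD3_c4)) :=
  Lre_g IH (LK LD1_c10 LD2_c51 LD3_c38) (LK LD1_c19 LD2_c38 LD3_c4) Lrfl Lrfl
theorem f301064 : Led Lsl_gt (LP (LK LD1_c19 LD2_c38 LD3_c4)) = (LP (LK LD1_c10 LD2_c51 LD3_c41)) :=
  Lgr Lrot46 (Lpe (f216990 IH) (Lpe (f301053 IH) (Lpr_at (f301058 IH) (Lpn (LP (LK LD1_c10 LD2_c51 LD3_c41))))))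
theorem f330189 : Led Lsl_dt (LP (LK LD1_c19 LD2_c35 LD3_c2)) = (LP (LK LD1_c19 LD2_c38 LD3_c4)) :=
  Lgr Lrot136 (Lpr_et (f330188 IH) (Lpr_gf (K23.f330184 IH) (Lpe (K23.f187639 IH) (Lpr_dt (K10.f187637 IH) (Lpe (K15.f257810 IH) (Lpe (K15.f182085 IH) (Lpe (K15.f182086 IH) (Lpe (K16.f273680 IH) (Lpr_dt (K17.f273679 IH) (Lpe (f301064 IH) (Lpn (LP (LK LD1_c19 LD2_c38 LD3_c4)))))))))))))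
theorem f330195 : Led Lsl_df (LP (LK LD1_c19 LD2_c35 LD3_c2)) = (LP (LK LD1_c19 LD2_c38 LD3_c4)) :=
  Lgr Lrot38 (Lpr_dt (f330189 IH) (Lpn (LP (LK LD1_c19 LD2_c38 LD3_c4))))
theorem f216989 : Led Lsl_dt (LP (LK LD1_c5 LD2_c30 LD3_c6)) = (LP (LK LD1_c10 LD2_c51 LD3_c38)) :=
  Lre_d IH (LK LD1_c5 LD2_c30 LD3_c6) (LK LD1_c10 LD2_c51 LD3_c38) Lrfl Lrfl
theorem f362204 : Led Lsl_df (LP (LK LD1_c4 LD2_c9 LD3_c28)) = (LP (LK LD1_c2 LD2_c41 LD3_c21)) :=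
  Lgr Lrot153 (Lpr_gt (f362202 IH) (Lpe (f330151 IH) (Lpe (f330150 IH) (Lpr_df (f330195 IH) (Lpe (f216990 IH) (Lpe (f216989 IH) (Lpe (K18.f216987 IH) (Lpe (K21.f236215 IH) (Lpr_gt (K21.f213858 IH) (Lpn (LP (LK LD1_c2 LD2_c41 LD3_c21))))))))))))
theorem f365313 : Led Lsl_at (LP (LK LD1_c15 LD2_c33 LD3_c55)) = (LP (LK LD1_c8 LD2_c18 LD3_c51)) :=
  Lgr Lrot33 (Lpe (f361971 IH) (Lpr_dt (f222261 IH) (Lpr_ct (f298762 IH) (Lpr_dt (f365302 IH) (Lpr_ct (f326690 IH) (Lpr_dt (f326682 IH) (Lpr_ct (f273839 IH) (Lpe (f362204 IH) (Lpr_ct (f362008 IH) (Lpn (LP (LK LD1_c8 LD2_c18 LD3_c51))))))))))))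
theorem f250911 : Led Lsl_gt (LP (LK LD1_c8 LD2_c16 LD3_c40)) = (LP (LK LD1_c15 LD2_c33 LD3_c52)) :=
  Lre_g IH (LK LD1_c8 LD2_c16 LD3_c40) (LK LD1_c15 LD2_c33 LD3_c52) Lrfl Lrfl
theorem f365339 : Led Lsl_gt (LP (LK LD1_c15 LD2_c33 LD3_c52)) = (LP (LK LD1_c8 LD2_c18 LD3_c51)) :=
  Lgr Lrot46 (Lpe (f250911 IH) (Lpr_ft (f361971 IH) (Lpr_at (f365313 IH) (Lpn (LP (LK LD1_c8 LD2_c18 LD3_c51))))))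
theorem f365342 : Led Lsl_cf (LP (LK LD1_c15 LD2_c33 LD3_c52)) = (LP (LK LD1_c15 LD2_c39 LD3_c34)) :=
  Lgr Lrot169 (Lpr_gt (f365339 IH) (Lpr_ct (f361999 IH) (Lpr_df (f362204 IH) (Lpe (f273839 IH) (Lpr_gf (K21.f326684 IH) (Lpe (K21.f251803 IH) (Lpe (K16.f190833 IH) (Lpr_df (K16.f251793 IH) (Lpr_gt (K24.f251804 IH) (Lpn (LP (LK LD1_c15 LD2_c39 LD3_c34))))))))))))
theorem f250735 : Led Lsl_ct (LP (LK LD1_c8 LD2_c29 LD3_c51)) = (LP (LK LD1_c15 LD2_c57 LD3_c17)) :=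
  Lre_c IH (LK LD1_c8 LD2_c29 LD3_c51) (LK LD1_c15 LD2_c57 LD3_c17) Lrfl Lrfl
theorem f348429 : Led Lsl_bf (LP (LK LD1_c2 LD2_c6 LD3_c23)) = (LP (LK LD1_c4 LD2_c16 LD3_c17)) :=
  Lgr Lrot93 (Lpe (K20.f322387 IH) (Lpr_bt (K23.f348425 IH) (Lpe (K23.f273539 IH) (Lpn (LP (LK LD1_c4 LD2_c16 LD3_c17))))))
theorem f167431 : Led Lsl_et (LP (LK LD1_c4 LD2_c18 LD3_c13)) = (LP (LK LD1_c2 LD2_c6 LD3_c23)) :=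
  Lre_e IH (LK LD1_c4 LD2_c18 LD3_c13) (LK LD1_c2 LD2_c6 LD3_c23) Lrfl Lrfl
theorem f348212 : Led Lsl_gt (LP (LK LD1_c2 LD2_c6 LD3_c23)) = (LP (LK LD1_c2 LD2_c3 LD3_c2)) :=
  Lgr Lrot137 (Lpe (f167431 IH) (Lpe (K23.f348193 IH) (Lpr_gf (K23.f348206 IH) (Lpe (K12.f7751 IH) (Lpr_et (K12.f231069 IH) (Lpe (K22.f230998 IH) (Lpe (K22.f167564 IH) (Lpr_dt (K22.f167545 IH) (Lpr_gf (K22.f333395 IH) (Lpr_df (K22.f200268 IH) (Lpn (LP (LK LD1_c2 LD2_c3 LD3_c2)))))))))))))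
theorem f351229 : Led Lsl_bf (LP (LK LD1_c16 LD2_c1 LD3_c34)) = (LP (LK LD1_c17 LD2_c43 LD3_c30)) :=
  Lgr Lrot165 (Lpr_gt (K24.f170432 IH) (Lpr_ct (K25.f170420 IH) (Lpr_gt (K25.f351226 IH) (Lpe (K23.f273537 IH) (Lpe (f348429 IH) (Lpr_gt (f348212 IH) (Lpe (K22.f200341 IH) (Lpr_ct (K19.f200232 IH) (Lpe (K22.f336285 IH) (Lpr_cf (K22.f336291 IH) (Lpn (LP (LK LD1_c17 LD2_c43 LD3_c30)))))))))))))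
theorem f351387 : Led Lsl_bf (LP (LK LD1_c15 LD2_c45 LD3_c1)) = (LP (LK LD1_c15 LD2_c39 LD3_c34)) :=
  Lgr Lrot96 (Lpr_et (K22.f336308 IH) (Lpe (f351229 IH) (Lpr_et (K24.f351385 IH) (Lpn (LP (LK LD1_c15 LD2_c39 LD3_c34))))))
theorem f250546 : Led Lsl_ft (LP (LK LD1_c8 LD2_c31 LD3_c58)) = (LP (LK LD1_c16 LD2_c1 LD3_c8)) :=
  Lre_f IH (LK LD1_c8 LD2_c31 LD3_c58) (LK LD1_c16 LD2_c1 LD3_c8) Lrfl Lrfl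
theorem f359402 : Led Lsl_bt (LP (LK LD1_c16 LD2_c1 LD3_c8)) = (LP (LK LD1_c19 LD2_c15 LD3_c59)) :=
  Lgr Lrot35 (Lpe (f250546 IH) (Lpe (K20.f246780 IH) (Lpr_ff (f359400 IH) (Lpn (LP (LK LD1_c19 LD2_c15 LD3_c59))))))
theorem f365354 : Led Lsl_ct (LP (LK LD1_c16 LD2_c1 LD3_c8)) = (LP (LK LD1_c8 LD2_c32 LD3_c0)) :=
  Lre_c IH (LK LD1_c16 LD2_c1 LD3_c8) (LK LD1_c8 LD2_c32 LD3_c0) Lrfl Lrfl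
theorem f365355 : Led Lsl_gf (LP (LK LD1_c15 LD2_c57 LD3_c17)) = (LP (LK LD1_c8 LD2_c32 LD3_c0)) :=
  Lgr Lrot126 (Lpe (f250735 IH) (Lpe (K20.f298905 IH) (Lpr_gt (K15.f236197 IH) (Lpr_ct (f270965 IH) (Lpr_gt (f250911 IH) (Lpr_cf (f365342 IH) (Lpe (f351387 IH) (Lpe (f345635 IH) (Lpe (f359402 IH) (Lpr_ct (f365354 IH) (Lpn (LP (LK LD1_c8 LD2_c32 LD3_c0)))))))))))))
theorem f291167 : Led Lsl_ct (LP (LK LD1_c8 LD2_c8 LD3_c1)) = (LP (LK LD1_c15 LD2_c18 LD3_c56)) :=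
  Lre_c IH (LK LD1_c8 LD2_c8 LD3_c1) (LK LD1_c15 LD2_c18 LD3_c56) Lrfl Lrfl
theorem f362208 : Led Lsl_bf (LP (LK LD1_c4 LD2_c9 LD3_c28)) = (LP (LK LD1_c8 LD2_c8 LD3_c1)) :=
  Lgr Lrot165 (Lpr_gt (f362202 IH) (Lpr_ct (K20.f236209 IH) (Lpe (K20.f298752 IH) (Lpr_cf (K16.f170345 IH) (Lpr_bt (K25.f170344 IH) (Lpr_gt (K23.f170358 IH) (Lpr_bf (K24.f350017 IH) (Lpr_ct (K23.f171081 IH) (Lpe (K25.f350009 IH) (Lpe (f291167 IH) (Lpn (LP (LK LD1_c8 LD2_c8 LD3_c1)))))))))))))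
theorem f362210 : Led Lsl_gf (LP (LK LD1_c8 LD2_c29 LD3_c60)) = (LP (LK LD1_c15 LD2_c57 LD3_c17)) :=
  Lgr Lrot126 (Lpr_cf (K20.f171060 IH) (Lpr_bt (K20.f171055 IH) (Lpr_gt (K22.f171064 IH) (Lpr_ct (K23.f171081 IH) (Lpe (K25.f350009 IH) (Lpe (f291167 IH) (Lpe (f362208 IH) (Lpr_gt (f362202 IH) (Lpr_bf (K20.f298905 IH) (Lpr_ct (f250735 IH) (Lpn (LP (LK LD1_c15 LD2_c57 LD3_c17)))))))))))))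
theorem f365357 : Led Lsl_ft (LP (LK LD1_c8 LD2_c32 LD3_c0)) = (LP (LK LD1_c4 LD2_c16 LD3_c24)) :=
  Lre_f IH (LK LD1_c8 LD2_c32 LD3_c0) (LK LD1_c4 LD2_c16 LD3_c24) Lrfl Lrfl
theorem f365358 : Led Lsl_af (LP (LK LD1_c8 LD2_c29 LD3_c60)) = (LP (LK LD1_c4 LD2_c16 LD3_c24)) :=
  Lgr Lrot31 (Lpr_gf (f362210 IH) (Lpr_gf (f365355 IH) (Lpr_ft (f365357 IH) (Lpn (LP (LK LD1_c4 LD2_c16 LD3_c24))))))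
theorem f901 : Led Lsl_et (LP (LK LD1_c8 LD2_c29 LD3_c60)) = (LP (LK LD1_c4 LD2_c15 LD3_c31)) :=
  Lre_e IH (LK LD1_c8 LD2_c29 LD3_c60) (LK LD1_c4 LD2_c15 LD3_c31) Lrfl Lrfl
theorem f283205 : Led Lsl_et (LP (LK LD1_c2 LD2_c5 LD3_c31)) = (LP (LK LD1_c4 LD2_c16 LD3_c24)) :=
  Lre_e IH (LK LD1_c2 LD2_c5 LD3_c31) (LK LD1_c4 LD2_c16 LD3_c24) Lrfl Lrfl
theorem f365369 : Led Lsl_at (LP (LK LD1_c4 LD2_c15 LD3_c31)) = (LP (LK LD1_c2 LD2_c5 LD3_c31)) :=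
  Lgr Lrot80 (Lpe (f901 IH) (Lpr_af (f365358 IH) (Lpe (f283205 IH) (Lpn (LP (LK LD1_c2 LD2_c5 LD3_c31))))))
theorem f365380 : Led Lsl_ff (LP (LK LD1_c4 LD2_c15 LD3_c31)) = (LP (LK LD1_c2 LD2_c5 LD3_c32)) :=
  Lgr Lrot52 (Lpr_at (f365369 IH) (Lpe (K12.f1044 IH) (Lpe (K9.f1040 IH) (Lpn (LP (LK LD1_c2 LD2_c5 LD3_c32))))))
theorem f365389 : Led Lsl_ft (LP (LK LD1_c4 LD2_c15 LD3_c31)) = (LP (LK LD1_c2 LD2_c5 LD3_c32)) :=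
  Lgr Lrot48 (Lpr_ff (f365380 IH) (Lpn (LP (LK LD1_c2 LD2_c5 LD3_c32))))
theorem f365397 : Led Lsl_af (LP (LK LD1_c4 LD2_c15 LD3_c32)) = (LP (LK LD1_c2 LD2_c5 LD3_c32)) :=
  Lgr Lrot31 (Lpe (K16.f49071 IH) (Lpe (K11.f53363 IH) (Lpr_ft (f365389 IH) (Lpn (LP (LK LD1_c2 LD2_c5 LD3_c32))))))
theorem f365371 : Led Lsl_af (LP (LK LD1_c4 LD2_c15 LD3_c31)) = (LP (LK LD1_c2 LD2_c5 LD3_c31)) :=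
  Lgr Lrot0 (Lpr_at (f365369 IH) (Lpn (LP (LK LD1_c2 LD2_c5 LD3_c31))))
theorem f365409 : Led Lsl_ft (LP (LK LD1_c4 LD2_c15 LD3_c32)) = (LP (LK LD1_c2 LD2_c5 LD3_c31)) :=
  Lgr Lrot101 (Lpr_af (f365397 IH) (Lpe (f365389 IH) (Lpr_af (f365371 IH) (Lpn (LP (LK LD1_c2 LD2_c5 LD3_c31))))))
theorem f365420 : Led Lsl_ff (LP (LK LD1_c4 LD2_c15 LD3_c32)) = (LP (LK LD1_c2 LD2_c5 LD3_c31)) :=
  Lgr Lrot3 (Lpr_ft (f365409 IH) (Lpn (LP (LK LD1_c2 LD2_c5 LD3_c31))))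
theorem f365424 : Led Lsl_ft (LP (LK LD1_c8 LD2_c30 LD3_c0)) = (LP (LK LD1_c4 LD2_c16 LD3_c23)) :=
  Lgr Lrot54 (Lpe (K16.f49072 IH) (Lpr_ff (f365420 IH) (Lpe (K17.f221257 IH) (Lpn (LP (LK LD1_c4 LD2_c16 LD3_c23))))))
theorem f271462 : Led Lsl_dt (LP (LK LD1_c8 LD2_c30 LD3_c0)) = (LP (LK LD1_c4 LD2_c15 LD3_c32)) :=
  Lre_d IH (LK LD1_c8 LD2_c30 LD3_c0) (LK LD1_c4 LD2_c15 LD3_c32) Lrfl Lrfl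
theorem f171051 : Led Lsl_dt (LP (LK LD1_c8 LD2_c29 LD3_c59)) = (LP (LK LD1_c4 LD2_c15 LD3_c31)) :=
  Lre_d IH (LK LD1_c8 LD2_c29 LD3_c59) (LK LD1_c4 LD2_c15 LD3_c31) Lrfl Lrfl

end

end K26

end

end Cfsg.Agent.Helper28.S1692
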