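import Cfsg.Agent.Lib.Helper28.S1692.Seeds26

set_option autoImplicit false
set_option maxRecDepth 100000
set_option linter.all false

namespace Cfsg.Agent.Helper28.S1692

open Cfsg.Agent.Helper28
open Cfsg.Spor.ON (Gen)

noncomputable section

namespace K27
abbrev LD1_c0 := D1.c0
abbrev LD1_c1 := D1.c1
abbrev LD1_c2 := D1.c2
abbrev LD1_c3 := D1.c3
abbrev LD1_c4 := D1.c4
abbrev LD1_c5 := D1.c5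
abbrev LD1_c6 := D1.c6
abbrev LD1_c7 := D1.c7
abbrev LD1_c8 := D1.c8
abbrev LD1_c9 := D1.c9
abbrev LD1_c10 := D1.c10
abbrev LD1_c11 := D1.c11
abbrev LD1_c12 := D1.c12
abbrev LD1_c13 := D1.c13
abbrev LD1_c14 := D1.c14
abbrev LD1_c15 := D1.c15
abbrev LD1_c16 := D1.c16
abbrev LD1_c17 := D1.c17
abbrev LD1_c18 := D1.c18
abbrev LD1_c19 := D1.c19
abbrev LD1_c20 := D1.c20
abbrev LD1_c21 := D1.c21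
abbrev LD1_c22 := D1.c22
abbrev LD1_c23 := D1.c23
abbrev LD1_c24 := D1.c24
abbrev LD1_c25 := D1.c25
abbrev LD1_c26 := D1.c26
abbrev LD1_c27 := D1.c27
abbrev LD1_c28 := D1.c28
abbrev LD1_c29 := D1.c29
abbrev LD1_c30 := D1.c30
abbrev LD1_c31 := D1.c31
abbrev LD1_c32 := D1.c32
abbrev LD2_c0 := D2.c0
abbrev LD2_c1 := D2.c1
abbrev LD2_c2 := D2.c2
abbrev LD2_c3 := D2.c3
abbrev LD2_c4 := D2.c4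
abbrev LD2_c5 := D2.c5
abbrev LD2_c6 := D2.c6
abbrev LD2_c7 := D2.c7
abbrev LD2_c8 := D2.c8
abbrev LD2_c9 := D2.c9
abbrev LD2_c10 := D2.c10
abbrev LD2_c11 := D2.c11
abbrev LD2_c12 := D2.c12
abbrev LD2_c13 := D2.c13
abbrev LD2_c14 := D2.c14
abbrev LD2_c15 := D2.c15
abbrev LD2_c16 := D2.c16
abbrev LD2_c17 := D2.c17
abbrev LD2_c18 := D2.c18
abbrev LD2_c19 := D2.c19
abbrev LD2_c20 := D2.c20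
abbrev LD2_c21 := D2.c21
abbrev LD2_c22 := D2.c22
abbrev LD2_c23 := D2.c23
abbrev LD2_c24 := D2.c24
abbrev LD2_c25 := D2.c25
abbrev LD2_c26 := D2.c26
abbrev LD2_c27 := D2.c27
abbrev LD2_c28 := D2.c28
abbrev LD2_c29 := D2.c29
abbrev LD2_c30 := D2.c30
abbrev LD2_c31 := D2.c31
abbrev LD2_c32 := D2.c32
abbrev LD2_c33 := D2.c33
abbrev LD2_c34 := D2.c34
abbrev LD2_c35 := D2.c35
abbrev LD2_c36 := D2.c36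
abbrev LD2_c37 := D2.c37
abbrev LD2_c38 := D2.c38
abbrev LD2_c39 := D2.c39
abbrev LD2_c40 := D2.c40
abbrev LD2_c41 := D2.c41
abbrev LD2_c42 := D2.c42
abbrev LD2_c43 := D2.c43
abbrev LD2_c44 := D2.c44
abbrev LD2_c45 := D2.c45
abbrev LD2_c46 := D2.c46
abbrev LD2_c47 := D2.c47
abbrev LD2_c48 := D2.c48
abbrev LD2_c49 := D2.c49
abbrev LD2_c50 := D2.c50
abbrev LD2_c51 := D2.c51
abbrev LD2_c52 := D2.c52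
abbrev LD2_c53 := D2.c53
abbrev LD2_c54 := D2.c54
abbrev LD2_c55 := D2.c55
abbrev LD2_c56 := D2.c56
abbrev LD2_c57 := D2.c57
abbrev LD2_c58 := D2.c58
abbrev LD2_c59 := D2.c59
abbrev LD3_c0 := D3.c0
abbrev LD3_c1 := D3.c1
abbrev LD3_c2 := D3.c2
abbrev LD3_c3 := D3.c3
abbrev LD3_c4 := D3.c4
abbrev LD3_c5 := D3.c5
abbrev LD3_c6 := D3.c6
abbrev LD3_c7 := D3.c7
abbrev LD3_c8 := D3.c8
abbrev LD3_c9 := D3.c9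
abbrev LD3_c10 := D3.c10
abbrev LD3_c11 := D3.c11
abbrev LD3_c12 := D3.c12
abbrev LD3_c13 := D3.c13
abbrev LD3_c14 := D3.c14
abbrev LD3_c15 := D3.c15
abbrev LD3_c16 := D3.c16
abbrev LD3_c17 := D3.c17
abbrev LD3_c18 := D3.c18
abbrev LD3_c19 := D3.c19
abbrev LD3_c20 := D3.c20
abbrev LD3_c21 := D3.c21
abbrev LD3_c22 := D3.c22
abbrev LD3_c23 := D3.c23
abbrev LD3_c24 := D3.c24
abbrev LD3_c25 := D3.c25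
abbrev LD3_c26 := D3.c26
abbrev LD3_c27 := D3.c27
abbrev LD3_c28 := D3.c28
abbrev LD3_c29 := D3.c29
abbrev LD3_c30 := D3.c30
abbrev LD3_c31 := D3.c31
abbrev LD3_c32 := D3.c32
abbrev LD3_c33 := D3.c33
abbrev LD3_c34 := D3.c34
abbrev LD3_c35 := D3.c35
abbrev LD3_c36 := D3.c36
abbrev LD3_c37 := D3.c37
abbrev LD3_c38 := D3.c38
abbrev LD3_c39 := D3.c39
abbrev LD3_c40 := D3.c40
abbrev LD3_c41 := D3.c41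
abbrev LD3_c42 := D3.c42
abbrev LD3_c43 := D3.c43
abbrev LD3_c44 := D3.c44
abbrev LD3_c45 := D3.c45
abbrev LD3_c46 := D3.c46
abbrev LD3_c47 := D3.c47
abbrev LD3_c48 := D3.c48
abbrev LD3_c49 := D3.c49
abbrev LD3_c50 := D3.c50
abbrev LD3_c51 := D3.c51
abbrev LD3_c52 := D3.c52
abbrev LD3_c53 := D3.c53
abbrev LD3_c54 := D3.c54
abbrev LD3_c55 := D3.c55
abbrev LD3_c56 := D3.c56
abbrev LD3_c57 := D3.c57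
abbrev LD3_c58 := D3.c58
abbrev LD3_c59 := D3.c59
abbrev LD3_c60 := D3.c60
abbrev LD3_c61 := D3.c61
abbrev LG_g := Gen.g
abbrev Lsl_gt : Gen × Bool := sl_gt
alias Lfl_gt := fl_gt
alias Lpr_gt := pr_gt
abbrev Lsl_gf : Gen × Bool := sl_gf
alias Lfl_gf := fl_gf
alias Lpr_gf := pr_gf
alias Lre_g := re_g
alias Leoe_g := eoe_g
abbrev LG_a := Gen.a
abbrev Lsl_at : Gen × Bool := sl_at
alias Lfl_at := fl_at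
alias Lpr_at := pr_at
abbrev Lsl_af : Gen × Bool := sl_af
alias Lfl_af := fl_af
alias Lpr_af := pr_af
alias Lre_a := re_a
alias Leoe_a := eoe_a
abbrev LG_b := Gen.b
abbrev Lsl_bt : Gen × Bool := sl_bt
alias Lfl_bt := fl_bt
alias Lpr_bt := pr_bt
abbrev Lsl_bf : Gen × Bool := sl_bf
alias Lfl_bf := fl_bf
alias Lpr_bf := pr_bf
alias Lre_b := re_b
alias Leoe_b := eoe_b
abbrev LG_c := Gen.c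
abbrev Lsl_ct : Gen × Bool := sl_ct
alias Lfl_ct := fl_ct
alias Lpr_ct := pr_ct
abbrev Lsl_cf : Gen × Bool := sl_cf
alias Lfl_cf := fl_cf
alias Lpr_cf := pr_cf
alias Lre_c := re_c
alias Leoe_c := eoe_c
abbrev LG_d := Gen.d
abbrev Lsl_dt : Gen × Bool := sl_dt
alias Lfl_dt := fl_dt
alias Lpr_dt := pr_dt
abbrev Lsl_df : Gen × Bool := sl_df
alias Lfl_df := fl_df
alias Lpr_df := pr_df
alias Lre_d := re_d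
alias Leoe_d := eoe_d
abbrev LG_e := Gen.e
abbrev Lsl_et : Gen × Bool := sl_et
alias Lfl_et := fl_et
alias Lpr_et := pr_et
abbrev Lsl_ef : Gen × Bool := sl_ef
alias Lfl_ef := fl_ef
alias Lpr_ef := pr_ef
alias Lre_e := re_e
alias Leoe_e := eoe_e
abbrev LG_f := Gen.f
abbrev Lsl_ft : Gen × Bool := sl_ft
alias Lfl_ft := fl_ft
alias Lpr_ft := pr_ft
abbrev Lsl_ff : Gen × Bool := sl_ff
alias Lfl_ff := fl_ff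
alias Lpr_ff := pr_ff
alias Lre_f := re_f
alias Leoe_f := eoe_f
abbrev LK := Pt.mk
abbrev LQ : Type := Qt rels S
abbrev LP (p : Pt) : LQ := P p
abbrev Led (l : Gen × Bool) (c : LQ) : LQ := ed l c
abbrev LEOK (x : Gen) (p : Pt) : Prop := EntryOK rels S fwd inv o plet idx x p
alias Lpe := pe
alias Lpn := pn
alias Lgr := gr
alias Lpq := pq
alias Lpqs := pqs
alias Llr := lr
alias Leop := eop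
alias Lefun := efun
alias Lecon := econ
theorem Lrfl {α : Sort _} {a : α} : a = a := rfl
alias Lrot0 := rot0
alias Lrot1 := rot1
alias Lrot2 := rot2
alias Lrot3 := rot3
alias Lrot4 := rot4
alias Lrot5 := rot5
alias Lrot6 := rot6
alias Lrot7 := rot7
alias Lrot8 := rot8
alias Lrot9 := rot9
alias Lrot10 := rot10
alias Lrot11 := rot11
alias Lrot12 := rot12
alias Lrot13 := rot13
alias Lrot14 := rot14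
alias Lrot15 := rot15
alias Lrot16 := rot16
alias Lrot17 := rot17
alias Lrot18 := rot18
alias Lrot19 := rot19
alias Lrot20 := rot20
alias Lrot21 := rot21
alias Lrot22 := rot22
alias Lrot23 := rot23
alias Lrot24 := rot24
alias Lrot25 := rot25
alias Lrot26 := rot26
alias Lrot27 := rot27
alias Lrot28 := rot28
alias Lrot29 := rot29
alias Lrot30 := rot30
alias Lrot31 := rot31
alias Lrot32 := rot32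
alias Lrot33 := rot33
alias Lrot34 := rot34
alias Lrot35 := rot35
alias Lrot36 := rot36
alias Lrot37 := rot37
alias Lrot38 := rot38
alias Lrot39 := rot39
alias Lrot40 := rot40
alias Lrot41 := rot41
alias Lrot42 := rot42
alias Lrot43 := rot43
alias Lrot44 := rot44
alias Lrot45 := rot45
alias Lrot46 := rot46
alias Lrot47 := rot47
alias Lrot48 := rot48
alias Lrot49 := rot49
alias Lrot50 := rot50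
alias Lrot51 := rot51
alias Lrot52 := rot52
alias Lrot53 := rot53
alias Lrot54 := rot54
alias Lrot55 := rot55
alias Lrot56 := rot56
alias Lrot57 := rot57
alias Lrot58 := rot58
alias Lrot59 := rot59
alias Lrot60 := rot60
alias Lrot61 := rot61
alias Lrot62 := rot62
alias Lrot63 := rot63
alias Lrot64 := rot64
alias Lrot65 := rot65
alias Lrot66 := rot66
alias Lrot67 := rot67
alias Lrot68 := rot68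
alias Lrot69 := rot69
alias Lrot70 := rot70
alias Lrot71 := rot71
alias Lrot72 := rot72
alias Lrot73 := rot73
alias Lrot74 := rot74
alias Lrot75 := rot75
alias Lrot76 := rot76
alias Lrot77 := rot77
alias Lrot78 := rot78
alias Lrot79 := rot79
alias Lrot80 := rot80
alias Lrot81 := rot81
alias Lrot82 := rot82
alias Lrot83 := rot83
alias Lrot84 := rot84
alias Lrot85 := rot85
alias Lrot86 := rot86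
alias Lrot87 := rot87
alias Lrot88 := rot88
alias Lrot89 := rot89
alias Lrot90 := rot90
alias Lrot91 := rot91
alias Lrot92 := rot92
alias Lrot93 := rot93
alias Lrot94 := rot94
alias Lrot95 := rot95
alias Lrot96 := rot96
alias Lrot97 := rot97
alias Lrot99 := rot99
alias Lrot100 := rot100
alias Lrot101 := rot101
alias Lrot102 := rot102
alias Lrot103 := rot103
alias Lrot104 := rot104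
alias Lrot105 := rot105
alias Lrot106 := rot106
alias Lrot107 := rot107
alias Lrot108 := rot108
alias Lrot109 := rot109
alias Lrot110 := rot110
alias Lrot111 := rot111
alias Lrot112 := rot112
alias Lrot113 := rot113
alias Lrot114 := rot114
alias Lrot117 := rot117
alias Lrot118 := rot118
alias Lrot119 := rot119
alias Lrot120 := rot120
alias Lrot121 := rot121
alias Lrot122 := rot122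
alias Lrot123 := rot123
alias Lrot124 := rot124
alias Lrot125 := rot125
alias Lrot126 := rot126
alias Lrot127 := rot127
alias Lrot128 := rot128
alias Lrot129 := rot129
alias Lrot130 := rot130
alias Lrot131 := rot131
alias Lrot132 := rot132
alias Lrot133 := rot133
alias Lrot134 := rot134
alias Lrot135 := rot135
alias Lrot136 := rot136
alias Lrot137 := rot137
alias Lrot138 := rot138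
alias Lrot139 := rot139
alias Lrot140 := rot140
alias Lrot141 := rot141
alias Lrot142 := rot142
alias Lrot143 := rot143
alias Lrot144 := rot144
alias Lrot145 := rot145
alias Lrot146 := rot146
alias Lrot147 := rot147
alias Lrot148 := rot148
alias Lrot149 := rot149
alias Lrot150 := rot150
alias Lrot152 := rot152
alias Lrot153 := rot153
alias Lrot155 := rot155
alias Lrot156 := rot156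
alias Lrot157 := rot157
alias Lrot158 := rot158
alias Lrot160 := rot160
alias Lrot161 := rot161
alias Lrot162 := rot162
alias Lrot163 := rot163
alias Lrot164 := rot164
alias Lrot165 := rot165
alias Lrot166 := rot166
alias Lrot168 := rot168
alias Lrot169 := rot169
alias Lrot170 := rot170
alias Lrot171 := rot171
alias Lrot172 := rot172
alias Lrot173 := rot173
alias Lrot176 := rot176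
alias Lrot177 := rot177
alias Lrot179 := rot179
alias Lrot180 := rot180
alias Lrot181 := rot181
alias Lrot182 := rot182
alias Lrot183 := rot183
alias Lrot185 := rot185
alias Lrot187 := rot187
alias Lrot189 := rot189
alias Lrot190 := rot190
alias Lrot191 := rot191

section
variable (IH : IHT)
include IH

theorem f365378 : Led Lsl_af (LP (LK LD1_c8 LD2_c29 LD3_c59)) = (LP (LK LD1_c4 LD2_c16 LD3_c23)) :=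
  Lgr Lrot117 (Lpr_dt (K26.f171051 IH) (Lpr_at (K26.f365369 IH) (Lpr_dt (K17.f1047 IH) (Lpn (LP (LK LD1_c4 LD2_c16 LD3_c23))))))
theorem f295299 : Led Lsl_ct (LP (LK LD1_c9 LD2_c42 LD3_c25)) = (LP (LK LD1_c8 LD2_c29 LD3_c59)) :=
  Lgr Lrot7 (Lpe (K18.f217487 IH) (Lpr_gf (K18.f295292 IH) (Lpe (K18.f282830 IH) (Lpr_gf (K18.f282831 IH) (Lpe (K16.f278030 IH) (Lpr_gt (K16.f932 IH) (Lpr_dt (K16.f1253 IH) (Lpr_gt (K18.f900 IH) (Lpr_dt (K18.f902 IH) (Lpn (LP (LK LD1_c8 LD2_c29 LD3_c59))))))))))))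
theorem f365452 : Led Lsl_ct (LP (LK LD1_c4 LD2_c15 LD3_c32)) = (LP (LK LD1_c5 LD2_c14 LD3_c58)) :=
  Lgr Lrot133 (Lpe (K26.f271462 IH) (Lpr_ft (K26.f365424 IH) (Lpe (f365378 IH) (Lpe (f295299 IH) (Lpe (K18.f217487 IH) (Lpe (K16.f173051 IH) (Lpr_df (K15.f217493 IH) (Lpr_cf (K16.f262867 IH) (Lpr_df (K23.f259715 IH) (Lpn (LP (LK LD1_c5 LD2_c14 LD3_c58))))))))))))
theorem f295152 : Led Lsl_cf (LP (LK LD1_c8 LD2_c30 LD3_c0)) = (LP (LK LD1_c10 LD2_c19 LD3_c20)) :=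
  Lgr Lrot11 (Lpr_ct (K18.f295147 IH) (Lpn (LP (LK LD1_c10 LD2_c19 LD3_c20))))
theorem f171045 : Led Lsl_ct (LP (LK LD1_c4 LD2_c15 LD3_c31)) = (LP (LK LD1_c2 LD2_c23 LD3_c37)) :=
  Lgr Lrot59 (Lpr_cf (K11.f171036 IH) (Lpn (LP (LK LD1_c2 LD2_c23 LD3_c37))))
theorem f365384 : Led Lsl_ft (LP (LK LD1_c2 LD2_c23 LD3_c37)) = (LP (LK LD1_c4 LD2_c16 LD3_c26)) :=
  Lgr Lrot4 (Lpe (f171045 IH) (Lpr_ff (K26.f365380 IH) (Lpe (K9.f53423 IH) (Lpn (LP (LK LD1_c4 LD2_c16 LD3_c26))))))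
theorem f365460 : Led Lsl_at (LP (LK LD1_c4 LD2_c16 LD3_c26)) = (LP (LK LD1_c5 LD2_c14 LD3_c58)) :=
  Lgr Lrot33 (Lpe (f365384 IH) (Lpr_dt (K16.f271033 IH) (Lpr_ct (K16.f251786 IH) (Lpr_dt (K15.f266449 IH) (Lpr_ct (K18.f295161 IH) (Lpr_dt (K18.f54452 IH) (Lpe (f295152 IH) (Lpr_dt (K26.f271462 IH) (Lpr_ct (f365452 IH) (Lpn (LP (LK LD1_c5 LD2_c14 LD3_c58))))))))))))
theorem f365482 : Led Lsl_af (LP (LK LD1_c8 LD2_c32 LD3_c7)) = (LP (LK LD1_c10 LD2_c19 LD3_c19)) :=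
  Lgr Lrot50 (Lpr_et (K16.f167287 IH) (Lpr_at (f365460 IH) (Lpr_et (K26.f259717 IH) (Lpn (LP (LK LD1_c10 LD2_c19 LD3_c19))))))
theorem f259727 : Led Lsl_ft (LP (LK LD1_c18 LD2_c44 LD3_c18)) = (LP (LK LD1_c10 LD2_c19 LD3_c19)) :=
  Lre_f IH (LK LD1_c18 LD2_c44 LD3_c18) (LK LD1_c10 LD2_c19 LD3_c19) Lrfl Lrfl
theorem f365488 : Led Lsl_at (LP (LK LD1_c16 LD2_c1 LD3_c35)) = (LP (LK LD1_c18 LD2_c44 LD3_c18)) :=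
  Lgr Lrot66 (Lpe (K22.f170426 IH) (Lpr_af (f365482 IH) (Lpe (f259727 IH) (Lpn (LP (LK LD1_c18 LD2_c44 LD3_c18))))))
theorem f365498 : Led Lsl_gt (LP (LK LD1_c16 LD2_c1 LD3_c33)) = (LP (LK LD1_c18 LD2_c44 LD3_c18)) :=
  Lgr Lrot46 (Lpe (K26.f170430 IH) (Lpr_ft (K22.f170426 IH) (Lpr_at (f365488 IH) (Lpn (LP (LK LD1_c18 LD2_c44 LD3_c18))))))
theorem f191076 : Led Lsl_ft (LP (LK LD1_c15 LD2_c30 LD3_c52)) = (LP (LK LD1_c8 LD2_c15 LD3_c2)) :=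
  Lre_f IH (LK LD1_c15 LD2_c30 LD3_c52) (LK LD1_c8 LD2_c15 LD3_c2) Lrfl Lrfl
theorem f259722 : Led Lsl_ft (LP (LK LD1_c10 LD2_c19 LD3_c19)) = (LP (LK LD1_c18 LD2_c44 LD3_c18)) :=
  Lre_f IH (LK LD1_c10 LD2_c19 LD3_c19) (LK LD1_c18 LD2_c44 LD3_c18) Lrfl Lrfl
theorem f259723 : Led Lsl_df (LP (LK LD1_c15 LD2_c30 LD3_c52)) = (LP (LK LD1_c18 LD2_c44 LD3_c18)) :=
  Lgr Lrot78 (Lpr_ft (f191076 IH) (Lpr_dt (K24.f259718 IH) (Lpr_ft (f259722 IH) (Lpn (LP (LK LD1_c18 LD2_c44 LD3_c18))))))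
theorem f365502 : Led Lsl_gf (LP (LK LD1_c9 LD2_c52 LD3_c25)) = (LP (LK LD1_c15 LD2_c30 LD3_c52)) :=
  Lgr Lrot134 (Lpr_df (K22.f219958 IH) (Lpe (K22.f219967 IH) (Lpr_gt (K22.f333326 IH) (Lpr_ef (K26.f327970 IH) (Lpe (K21.f311804 IH) (Lpr_gt (K24.f311823 IH) (Lpe (K26.f232196 IH) (Lpe (K26.f359005 IH) (Lpr_gt (f365498 IH) (Lpe (f259723 IH) (Lpn (LP (LK LD1_c15 LD2_c30 LD3_c52)))))))))))))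
theorem f49044 : Led Lsl_df (LP (LK LD1_c4 LD2_c15 LD3_c30)) = (LP (LK LD1_c2 LD2_c35 LD3_c33)) :=
  Lgr Lrot38 (Lpr_dt (K15.f48245 IH) (Lpn (LP (LK LD1_c2 LD2_c35 LD3_c33))))
theorem f49053 : Led Lsl_gt (LP (LK LD1_c15 LD2_c57 LD3_c25)) = (LP (LK LD1_c8 LD2_c29 LD3_c55)) :=
  Lre_g IH (LK LD1_c15 LD2_c57 LD3_c25) (LK LD1_c8 LD2_c29 LD3_c55) Lrfl Lrfl
theorem f365490 : Led Lsl_gf (LP (LK LD1_c16 LD2_c1 LD3_c34)) = (LP (LK LD1_c18 LD2_c44 LD3_c18)) :=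
  Lgr Lrot47 (Lpr_gt (K24.f170432 IH) (Lpr_af (f365482 IH) (Lpe (f259727 IH) (Lpn (LP (LK LD1_c18 LD2_c44 LD3_c18))))))
theorem f365508 : Led Lsl_cf (LP (LK LD1_c15 LD2_c57 LD3_c25)) = (LP (LK LD1_c16 LD2_c1 LD3_c34)) :=
  Lgr Lrot169 (Lpr_gt (f49053 IH) (Lpr_ct (K26.f49040 IH) (Lpr_df (f49044 IH) (Lpe (K10.f48318 IH) (Lpe (K26.f49054 IH) (Lpe (K26.f331437 IH) (Lpr_gf (f365502 IH) (Lpr_df (f259723 IH) (Lpe (f365490 IH) (Lpn (LP (LK LD1_c16 LD2_c1 LD3_c34))))))))))))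
theorem f229151 : Led Lsl_bt (LP (LK LD1_c4 LD2_c1 LD3_c61)) = (LP (LK LD1_c2 LD2_c35 LD3_c33)) :=
  Lgr Lrot127 (Lpr_bf (K15.f229149 IH) (Lpn (LP (LK LD1_c2 LD2_c35 LD3_c33))))
theorem f229721 : Led Lsl_bt (LP (LK LD1_c4 LD2_c15 LD3_c30)) = (LP (LK LD1_c3 LD2_c57 LD3_c4)) :=
  Lgr Lrot95 (Lpr_df (f49044 IH) (Lpe (f229151 IH) (Lpr_df (K15.f229717 IH) (Lpn (LP (LK LD1_c3 LD2_c57 LD3_c4))))))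
theorem f350060 : Led Lsl_bt (LP (LK LD1_c25 LD2_c29 LD3_c0)) = (LP (LK LD1_c16 LD2_c9 LD3_c33)) :=
  Lgr Lrot95 (Lpe (K26.f311825 IH) (Lpr_bf (K25.f350054 IH) (Lpe (K21.f276678 IH) (Lpn (LP (LK LD1_c16 LD2_c9 LD3_c33))))))
theorem f359011 : Led Lsl_bf (LP (LK LD1_c16 LD2_c1 LD3_c33)) = (LP (LK LD1_c9 LD2_c36 LD3_c59)) :=
  Lgr Lrot96 (Lpr_et (K26.f359009 IH) (Lpr_bt (f350060 IH) (Lpr_et (K21.f276680 IH) (Lpn (LP (LK LD1_c9 LD2_c36 LD3_c59))))))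
theorem f350476 : Led Lsl_ct (LP (LK LD1_c17 LD2_c47 LD3_c19)) = (LP (LK LD1_c9 LD2_c40 LD3_c15)) :=
  Lre_c IH (LK LD1_c17 LD2_c47 LD3_c19) (LK LD1_c9 LD2_c40 LD3_c15) Lrfl Lrfl
theorem f358761 : Led Lsl_dt (LP (LK LD1_c9 LD2_c40 LD3_c15)) = (LP (LK LD1_c9 LD2_c36 LD3_c59)) :=
  Lgr Lrot42 (Lpr_df (K26.f358759 IH) (Lpn (LP (LK LD1_c9 LD2_c36 LD3_c59))))
theorem f287666 : Led Lsl_gt (LP (LK LD1_c8 LD2_c18 LD3_c61)) = (LP (LK LD1_c15 LD2_c38 LD3_c34)) :=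
  Lre_g IH (LK LD1_c8 LD2_c18 LD3_c61) (LK LD1_c15 LD2_c38 LD3_c34) Lrfl Lrfl
theorem f358812 : Led Lsl_cf (LP (LK LD1_c9 LD2_c36 LD3_c59)) = (LP (LK LD1_c15 LD2_c38 LD3_c34)) :=
  Lgr Lrot99 (Lpe (f358761 IH) (Lpe (f350476 IH) (Lpr_gf (K26.f358809 IH) (Lpr_cf (K26.f294339 IH) (Lpe (K22.f49025 IH) (Lpr_df (K22.f294244 IH) (Lpr_gt (K22.f232090 IH) (Lpr_ct (K26.f287667 IH) (Lpr_gt (f287666 IH) (Lpn (LP (LK LD1_c15 LD2_c38 LD3_c34))))))))))))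
theorem f359083 : Led Lsl_ct (LP (LK LD1_c9 LD2_c36 LD3_c59)) = (LP (LK LD1_c15 LD2_c38 LD3_c34)) :=
  Lgr Lrot59 (Lpr_cf (f358812 IH) (Lpn (LP (LK LD1_c15 LD2_c38 LD3_c34))))
theorem f365500 : Led Lsl_bt (LP (LK LD1_c17 LD2_c39 LD3_c35)) = (LP (LK LD1_c18 LD2_c44 LD3_c18)) :=
  Lgr Lrot92 (Lpe (K26.f361593 IH) (Lpr_gt (K26.f361600 IH) (Lpe (K26.f256007 IH) (Lpr_bt (K26.f335725 IH) (Lpr_gt (K22.f232090 IH) (Lpr_ct (K26.f287667 IH) (Lpr_gt (f287666 IH) (Lpe (f359083 IH) (Lpe (f359011 IH) (Lpr_gt (f365498 IH) (Lpn (LP (LK LD1_c18 LD2_c44 LD3_c18)))))))))))))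
theorem f365516 : Led Lsl_gt (LP (LK LD1_c16 LD2_c6 LD3_c7)) = (LP (LK LD1_c19 LD2_c5 LD3_c46)) :=
  Lgr Lrot65 (Lpe (K26.f167487 IH) (Lpe (K26.f336296 IH) (Lpe (K18.f229732 IH) (Lpe (f229721 IH) (Lpr_ct (K24.f49065 IH) (Lpe (f49053 IH) (Lpr_cf (f365508 IH) (Lpr_gf (f365490 IH) (Lpe (f365500 IH) (Lpe (K26.f361593 IH) (Lpn (LP (LK LD1_c19 LD2_c5 LD3_c46)))))))))))))
theorem f316140 : Led Lsl_dt (LP (LK LD1_c16 LD2_c3 LD3_c32)) = (LP (LK LD1_c8 LD2_c33 LD3_c16)) :=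
  Lre_d IH (LK LD1_c16 LD2_c3 LD3_c32) (LK LD1_c8 LD2_c33 LD3_c16) Lrfl Lrfl
theorem f316141 : Led Lsl_gt (LP (LK LD1_c26 LD2_c0 LD3_c56)) = (LP (LK LD1_c16 LD2_c3 LD3_c32)) :=
  Lre_g IH (LK LD1_c26 LD2_c0 LD3_c56) (LK LD1_c16 LD2_c3 LD3_c32) Lrfl Lrfl
theorem f365554 : Led Lsl_df (LP (LK LD1_c26 LD2_c0 LD3_c56)) = (LP (LK LD1_c19 LD2_c5 LD3_c46)) :=
  Lgr Lrot153 (Lpr_gt (f316141 IH) (Lpr_dt (f316140 IH) (Lpe (K20.f169392 IH) (Lpe (K25.f169395 IH) (Lpr_gf (K21.f316098 IH) (Lpe (K18.f167471 IH) (Lpe (K21.f167486 IH) (Lpe (K26.f167490 IH) (Lpr_gt (f365516 IH) (Lpn (LP (LK LD1_c19 LD2_c5 LD3_c46))))))))))))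
theorem f365558 : Led Lsl_dt (LP (LK LD1_c26 LD2_c0 LD3_c56)) = (LP (LK LD1_c19 LD2_c5 LD3_c46)) :=
  Lgr Lrot42 (Lpr_df (f365554 IH) (Lpn (LP (LK LD1_c19 LD2_c5 LD3_c46))))
theorem f178712 : Led Lsl_gt (LP (LK LD1_c8 LD2_c20 LD3_c59)) = (LP (LK LD1_c15 LD2_c42 LD3_c61)) :=
  Lre_g IH (LK LD1_c8 LD2_c20 LD3_c59) (LK LD1_c15 LD2_c42 LD3_c61) Lrfl Lrfl
theorem f178735 : Led Lsl_ct (LP (LK LD1_c8 LD2_c20 LD3_c60)) = (LP (LK LD1_c4 LD2_c10 LD3_c21)) :=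
  Lre_c IH (LK LD1_c8 LD2_c20 LD3_c60) (LK LD1_c4 LD2_c10 LD3_c21) Lrfl Lrfl
theorem f182230 : Led Lsl_dt (LP (LK LD1_c15 LD2_c43 LD3_c3)) = (LP (LK LD1_c8 LD2_c20 LD3_c60)) :=
  Lre_d IH (LK LD1_c15 LD2_c43 LD3_c3) (LK LD1_c8 LD2_c20 LD3_c60) Lrfl Lrfl
theorem f349984 : Led Lsl_gt (LP (LK LD1_c17 LD2_c43 LD3_c33)) = (LP (LK LD1_c15 LD2_c43 LD3_c3)) :=
  Lgr Lrot49 (Lpe (K26.f186945 IH) (Lpr_gf (K24.f349979 IH) (Lpe (K24.f325682 IH) (Lpr_gt (K22.f325647 IH) (Lpr_dt (K18.f300341 IH) (Lpr_gt (K9.f44077 IH) (Lpr_dt (K9.f182217 IH) (Lpe (f178735 IH) (Lpe (f182230 IH) (Lpn (LP (LK LD1_c15 LD2_c43 LD3_c3))))))))))))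
theorem f361429 : Led Lsl_gf (LP (LK LD1_c25 LD2_c39 LD3_c15)) = (LP (LK LD1_c15 LD2_c43 LD3_c3)) :=
  Lgr Lrot76 (Lpe (K26.f361388 IH) (Lpr_ff (K26.f361399 IH) (Lpr_gt (f349984 IH) (Lpn (LP (LK LD1_c15 LD2_c43 LD3_c3))))))
theorem f330847 : Led Lsl_ef (LP (LK LD1_c16 LD2_c7 LD3_c54)) = (LP (LK LD1_c9 LD2_c34 LD3_c50)) :=
  Lgr Lrot88 (Lpr_et (K21.f330845 IH) (Lpn (LP (LK LD1_c9 LD2_c34 LD3_c50))))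
theorem f193179 : Led Lsl_dt (LP (LK LD1_c15 LD2_c1 LD3_c19)) = (LP (LK LD1_c15 LD2_c11 LD3_c2)) :=
  Lgr Lrot42 (Lpr_df (K20.f193177 IH) (Lpn (LP (LK LD1_c15 LD2_c11 LD3_c2))))
theorem f341042 : Led Lsl_gf (LP (LK LD1_c17 LD2_c45 LD3_c46)) = (LP (LK LD1_c15 LD2_c11 LD3_c2)) :=
  Lgr Lrot134 (Lpe (K22.f282101 IH) (Lpe (K17.f270870 IH) (Lpr_gt (K21.f258452 IH) (Lpe (K23.f341025 IH) (Lpr_dt (K23.f341024 IH) (Lpr_gt (K23.f341033 IH) (Lpr_df (K15.f238165 IH) (Lpe (f330847 IH) (Lpr_gt (K22.f330868 IH) (Lpr_dt (f193179 IH) (Lpn (LP (LK LD1_c15 LD2_c11 LD3_c2)))))))))))))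
theorem f182221 : Led Lsl_dt (LP (LK LD1_c8 LD2_c20 LD3_c60)) = (LP (LK LD1_c15 LD2_c43 LD3_c3)) :=
  Lre_d IH (LK LD1_c8 LD2_c20 LD3_c60) (LK LD1_c15 LD2_c43 LD3_c3) Lrfl Lrfl
theorem f354861 : Led Lsl_bf (LP (LK LD1_c8 LD2_c36 LD3_c38)) = (LP (LK LD1_c16 LD2_c7 LD3_c54)) :=
  Lgr Lrot61 (Lpr_ft (K25.f354784 IH) (Lpr_bt (K21.f199640 IH) (Lpe (K21.f330849 IH) (Lpn (LP (LK LD1_c16 LD2_c7 LD3_c54))))))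
theorem f355926 : Led Lsl_cf (LP (LK LD1_c15 LD2_c42 LD3_c61)) = (LP (LK LD1_c16 LD2_c7 LD3_c54)) :=
  Lgr Lrot58 (Lpe (f178712 IH) (Lpe (K20.f178711 IH) (Lpr_bt (K25.f316065 IH) (Lpr_gf (K25.f355872 IH) (Lpr_bf (K21.f187132 IH) (Lpr_ct (K22.f186913 IH) (Lpe (K26.f354786 IH) (Lpe (K26.f171385 IH) (Lpe (K25.f171382 IH) (Lpr_bf (f354861 IH) (Lpn (LP (LK LD1_c16 LD2_c7 LD3_c54)))))))))))))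
theorem f361431 : Led Lsl_gt (LP (LK LD1_c15 LD2_c42 LD3_c61)) = (LP (LK LD1_c8 LD2_c20 LD3_c60)) :=
  Lgr Lrot94 (Lpr_cf (f355926 IH) (Lpr_gt (K22.f330868 IH) (Lpr_dt (f193179 IH) (Lpe (f341042 IH) (Lpe (K17.f282099 IH) (Lpr_cf (K21.f282072 IH) (Lpe (K26.f321147 IH) (Lpr_gf (f361429 IH) (Lpe (f182221 IH) (Lpn (LP (LK LD1_c8 LD2_c20 LD3_c60))))))))))))
theorem f361433 : Led Lsl_cf (LP (LK LD1_c16 LD2_c7 LD3_c54)) = (LP (LK LD1_c15 LD2_c42 LD3_c61)) :=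
  Lgr Lrot166 (Lpr_gt (K22.f330868 IH) (Lpr_dt (f193179 IH) (Lpe (f341042 IH) (Lpe (K17.f282099 IH) (Lpe (K21.f270868 IH) (Lpe (K26.f321147 IH) (Lpr_gf (f361429 IH) (Lpe (f182221 IH) (Lpe (f361431 IH) (Lpn (LP (LK LD1_c15 LD2_c42 LD3_c61))))))))))))
theorem f316304 : Led Lsl_gt (LP (LK LD1_c8 LD2_c22 LD3_c49)) = (LP (LK LD1_c15 LD2_c46 LD3_c4)) :=
  Lre_g IH (LK LD1_c8 LD2_c22 LD3_c49) (LK LD1_c15 LD2_c46 LD3_c4) Lrfl Lrfl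
theorem f237525 : Led Lsl_gt (LP (LK LD1_c9 LD2_c37 LD3_c56)) = (LP (LK LD1_c4 LD2_c52 LD3_c61)) :=
  Lre_g IH (LK LD1_c9 LD2_c37 LD3_c56) (LK LD1_c4 LD2_c52 LD3_c61) Lrfl Lrfl
theorem f361270 : Led Lsl_dt (LP (LK LD1_c15 LD2_c46 LD3_c4)) = (LP (LK LD1_c15 LD2_c41 LD3_c41)) :=
  Lgr Lrot105 (Lpe (f316304 IH) (Lpe (K22.f200225 IH) (Lpe (K26.f200184 IH) (Lpr_cf (K26.f361259 IH) (Lpr_gt (f237525 IH) (Lpe (K22.f256021 IH) (Lpr_gt (K20.f193176 IH) (Lpe (K20.f193177 IH) (Lpe (K22.f336340 IH) (Lpn (LP (LK LD1_c15 LD2_c41 LD3_c41))))))))))))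
theorem f200209 : Led Lsl_ct (LP (LK LD1_c25 LD2_c42 LD3_c48)) = (LP (LK LD1_c15 LD2_c46 LD3_c4)) :=
  Lre_c IH (LK LD1_c25 LD2_c42 LD3_c48) (LK LD1_c15 LD2_c46 LD3_c4) Lrfl Lrfl
theorem f237602 : Led Lsl_ct (LP (LK LD1_c17 LD2_c43 LD3_c33)) = (LP (LK LD1_c27 LD2_c30 LD3_c27)) :=
  Lre_c IH (LK LD1_c17 LD2_c43 LD3_c33) (LK LD1_c27 LD2_c30 LD3_c27) Lrfl Lrfl
theorem f361468 : Led Lsl_gf (LP (LK LD1_c25 LD2_c42 LD3_c48)) = (LP (LK LD1_c27 LD2_c30 LD3_c27)) :=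
  Lgr Lrot172 (Lpr_ct (f200209 IH) (Lpr_dt (f361270 IH) (Lpr_cf (K22.f336338 IH) (Lpe (K22.f330868 IH) (Lpr_cf (f361433 IH) (Lpe (f178712 IH) (Lpr_dt (K20.f300454 IH) (Lpr_gt (K26.f361464 IH) (Lpr_ct (f237602 IH) (Lpn (LP (LK LD1_c27 LD2_c30 LD3_c27))))))))))))
theorem f361478 : Led Lsl_df (LP (LK LD1_c15 LD2_c46 LD3_c4)) = (LP (LK LD1_c15 LD2_c41 LD3_c41)) :=
  Lgr Lrot162 (Lpe (f200209 IH) (Lpr_gf (f361468 IH) (Lpe (f237602 IH) (Lpe (K26.f361464 IH) (Lpr_dt (K20.f300452 IH) (Lpr_gt (f178712 IH) (Lpe (f361433 IH) (Lpr_gt (K22.f330868 IH) (Lpe (K22.f336338 IH) (Lpn (LP (LK LD1_c15 LD2_c41 LD3_c41))))))))))))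
theorem f361470 : Led Lsl_bt (LP (LK LD1_c15 LD2_c46 LD3_c4)) = (LP (LK LD1_c25 LD2_c42 LD3_c47)) :=
  Lre_b IH (LK LD1_c15 LD2_c46 LD3_c4) (LK LD1_c25 LD2_c42 LD3_c47) Lrfl Lrfl
theorem f349779 : Led Lsl_bt (LP (LK LD1_c8 LD2_c17 LD3_c41)) = (LP (LK LD1_c15 LD2_c35 LD3_c56)) :=
  Lre_b IH (LK LD1_c8 LD2_c17 LD3_c41) (LK LD1_c15 LD2_c35 LD3_c56) Lrfl Lrfl
theorem f349781 : Led Lsl_ct (LP (LK LD1_c15 LD2_c35 LD3_c56)) = (LP (LK LD1_c25 LD2_c30 LD3_c28)) :=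
  Lre_c IH (LK LD1_c15 LD2_c35 LD3_c56) (LK LD1_c25 LD2_c30 LD3_c28) Lrfl Lrfl
theorem f349799 : Led Lsl_bf (LP (LK LD1_c15 LD2_c41 LD3_c41)) = (LP (LK LD1_c25 LD2_c30 LD3_c28)) :=
  Lgr Lrot90 (Lpr_ct (K22.f336340 IH) (Lpr_bt (K23.f349795 IH) (Lpe (K23.f349775 IH) (Lpr_bt (f349779 IH) (Lpr_ct (f349781 IH) (Lpn (LP (LK LD1_c25 LD2_c30 LD3_c28))))))))
theorem f361481 : Led Lsl_dt (LP (LK LD1_c25 LD2_c42 LD3_c47)) = (LP (LK LD1_c25 LD2_c30 LD3_c28)) :=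
  Lgr Lrot79 (Lpe (f361470 IH) (Lpr_df (f361478 IH) (Lpr_bf (f349799 IH) (Lpn (LP (LK LD1_c25 LD2_c30 LD3_c28))))))
theorem f361488 : Led Lsl_df (LP (LK LD1_c25 LD2_c42 LD3_c47)) = (LP (LK LD1_c25 LD2_c30 LD3_c28)) :=
  Lgr Lrot38 (Lpr_dt (f361481 IH) (Lpn (LP (LK LD1_c25 LD2_c30 LD3_c28))))
theorem f200349 : Led Lsl_bt (LP (LK LD1_c25 LD2_c42 LD3_c47)) = (LP (LK LD1_c15 LD2_c46 LD3_c4)) :=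
  Lre_b IH (LK LD1_c25 LD2_c42 LD3_c47) (LK LD1_c15 LD2_c46 LD3_c4) Lrfl Lrfl
theorem f361497 : Led Lsl_bt (LP (LK LD1_c15 LD2_c41 LD3_c41)) = (LP (LK LD1_c25 LD2_c30 LD3_c28)) :=
  Lgr Lrot95 (Lpe (f361270 IH) (Lpe (f200349 IH) (Lpr_df (f361488 IH) (Lpn (LP (LK LD1_c25 LD2_c30 LD3_c28))))))
theorem f336347 : Led Lsl_et (LP (LK LD1_c25 LD2_c37 LD3_c15)) = (LP (LK LD1_c15 LD2_c41 LD3_c41)) :=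
  Lre_e IH (LK LD1_c25 LD2_c37 LD3_c15) (LK LD1_c15 LD2_c41 LD3_c41) Lrfl Lrfl
theorem f361491 : Led Lsl_et (LP (LK LD1_c25 LD2_c30 LD3_c28)) = (LP (LK LD1_c31 LD2_c55 LD3_c0)) :=
  Lre_e IH (LK LD1_c25 LD2_c30 LD3_c28) (LK LD1_c31 LD2_c55 LD3_c0) Lrfl Lrfl
theorem f361501 : Led Lsl_bf (LP (LK LD1_c25 LD2_c37 LD3_c15)) = (LP (LK LD1_c31 LD2_c55 LD3_c0)) :=
  Lgr Lrot96 (Lpr_et (f336347 IH) (Lpr_bt (f361497 IH) (Lpr_et (f361491 IH) (Lpn (LP (LK LD1_c31 LD2_c55 LD3_c0))))))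
theorem f336342 : Led Lsl_et (LP (LK LD1_c15 LD2_c41 LD3_c41)) = (LP (LK LD1_c25 LD2_c37 LD3_c15)) :=
  Lre_e IH (LK LD1_c15 LD2_c41 LD3_c41) (LK LD1_c25 LD2_c37 LD3_c15) Lrfl Lrfl
theorem f188703 : Led Lsl_et (LP (LK LD1_c24 LD2_c49 LD3_c14)) = (LP (LK LD1_c15 LD2_c1 LD3_c19)) :=
  Lre_e IH (LK LD1_c24 LD2_c49 LD3_c14) (LK LD1_c15 LD2_c1 LD3_c19) Lrfl Lrfl
theorem f336343 : Led Lsl_ct (LP (LK LD1_c25 LD2_c37 LD3_c15)) = (LP (LK LD1_c24 LD2_c49 LD3_c14)) :=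
  Lgr Lrot15 (Lpe (f336342 IH) (Lpr_cf (K22.f336338 IH) (Lpe (f188703 IH) (Lpn (LP (LK LD1_c24 LD2_c49 LD3_c14))))))
theorem f349770 : Led Lsl_ct (LP (LK LD1_c25 LD2_c30 LD3_c30)) = (LP (LK LD1_c31 LD2_c55 LD3_c0)) :=
  Lre_c IH (LK LD1_c25 LD2_c30 LD3_c30) (LK LD1_c31 LD2_c55 LD3_c0) Lrfl Lrfl
theorem f349768 : Led Lsl_bt (LP (LK LD1_c15 LD2_c35 LD3_c58)) = (LP (LK LD1_c25 LD2_c30 LD3_c30)) :=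
  Lre_b IH (LK LD1_c15 LD2_c35 LD3_c58) (LK LD1_c25 LD2_c30 LD3_c30) Lrfl Lrfl
theorem f361505 : Led Lsl_bt (LP (LK LD1_c24 LD2_c49 LD3_c14)) = (LP (LK LD1_c16 LD2_c19 LD3_c2)) :=
  Lgr Lrot128 (Lpe (f336343 IH) (Lpr_bf (f361501 IH) (Lpe (f349770 IH) (Lpe (f349768 IH) (Lpr_cf (K23.f349766 IH) (Lpn (LP (LK LD1_c16 LD2_c19 LD3_c2))))))))
theorem f212521 : Led Lsl_bt (LP (LK LD1_c17 LD2_c37 LD3_c16)) = (LP (LK LD1_c27 LD2_c25 LD3_c29)) :=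
  Lre_b IH (LK LD1_c17 LD2_c37 LD3_c16) (LK LD1_c27 LD2_c25 LD3_c29) Lrfl Lrfl
theorem f361507 : Led Lsl_df (LP (LK LD1_c24 LD2_c49 LD3_c14)) = (LP (LK LD1_c27 LD2_c25 LD3_c29)) :=
  Lgr Lrot12 (Lpr_bt (f361505 IH) (Lpe (K23.f212519 IH) (Lpr_bt (f212521 IH) (Lpn (LP (LK LD1_c27 LD2_c25 LD3_c29))))))
theorem f361291 : Led Lsl_gf (LP (LK LD1_c17 LD2_c42 LD3_c8)) = (LP (LK LD1_c25 LD2_c20 LD3_c37)) :=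
  Lgr Lrot134 (Lpe (K26.f361288 IH) (Lpr_et (K26.f361281 IH) (Lpr_gt (f237525 IH) (Lpe (K22.f256020 IH) (Lpe (K17.f229255 IH) (Lpr_gt (K17.f259253 IH) (Lpe (K17.f229580 IH) (Lpr_et (K19.f229582 IH) (Lpe (K25.f345567 IH) (Lpr_dt (K25.f345563 IH) (Lpn (LP (LK LD1_c25 LD2_c20 LD3_c37)))))))))))))
theorem f193181 : Led Lsl_et (LP (LK LD1_c15 LD2_c1 LD3_c19)) = (LP (LK LD1_c24 LD2_c49 LD3_c14)) :=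
  Lre_e IH (LK LD1_c15 LD2_c1 LD3_c19) (LK LD1_c24 LD2_c49 LD3_c14) Lrfl Lrfl
theorem f361293 : Led Lsl_gf (LP (LK LD1_c25 LD2_c44 LD3_c17)) = (LP (LK LD1_c24 LD2_c49 LD3_c14)) :=
  Lgr Lrot141 (Lpe (K26.f345578 IH) (Lpr_dt (K25.f345563 IH) (Lpe (f361291 IH) (Lpe (K26.f361288 IH) (Lpr_et (K26.f361281 IH) (Lpr_gt (f237525 IH) (Lpe (K22.f256021 IH) (Lpr_gt (K20.f193176 IH) (Lpe (f193179 IH) (Lpr_et (f193181 IH) (Lpn (LP (LK LD1_c24 LD2_c49 LD3_c14)))))))))))))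
theorem f345583 : Led Lsl_ef (LP (LK LD1_c25 LD2_c20 LD3_c36)) = (LP (LK LD1_c15 LD2_c47 LD3_c34)) :=
  Lgr Lrot73 (Lpr_dt (K25.f182742 IH) (Lpr_et (K26.f321189 IH) (Lpe (K25.f345565 IH) (Lpr_et (K26.f345578 IH) (Lpr_dt (K25.f219378 IH) (Lpn (LP (LK LD1_c15 LD2_c47 LD3_c34))))))))
theorem f341066 : Led Lsl_gf (LP (LK LD1_c11 LD2_c8 LD3_c49)) = (LP (LK LD1_c16 LD2_c9 LD3_c29)) :=
  Lgr Lrot144 (Lpr_dt (K18.f200490 IH) (Lpr_gt (K18.f297724 IH) (Lpe (K20.f278424 IH) (Lpr_cf (K19.f194853 IH) (Lpe (K19.f194895 IH) (Lpe (K16.f194896 IH) (Lpe (K16.f276805 IH) (Lpr_gf (K25.f341064 IH) (Lpe (K25.f341056 IH) (Lpn (LP (LK LD1_c16 LD2_c9 LD3_c29))))))))))))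
theorem f361517 : Led Lsl_et (LP (LK LD1_c27 LD2_c25 LD3_c29)) = (LP (LK LD1_c17 LD2_c37 LD3_c15)) :=
  Lre_e IH (LK LD1_c27 LD2_c25 LD3_c29) (LK LD1_c17 LD2_c37 LD3_c15) Lrfl Lrfl
theorem f361518 : Led Lsl_gt (LP (LK LD1_c14 LD2_c58 LD3_c13)) = (LP (LK LD1_c17 LD2_c37 LD3_c15)) :=
  Lgr Lrot131 (Lpe (K18.f296924 IH) (Lpe (K12.f200507 IH) (Lpr_gf (f341066 IH) (Lpe (K25.f345598 IH) (Lpr_gf (K25.f345729 IH) (Lpr_ef (f345583 IH) (Lpr_dt (K25.f219543 IH) (Lpr_gf (f361293 IH) (Lpr_df (f361507 IH) (Lpr_et (f361517 IH) (Lpn (LP (LK LD1_c17 LD2_c37 LD3_c15)))))))))))))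
theorem f345605 : Led Lsl_et (LP (LK LD1_c25 LD2_c41 LD3_c49)) = (LP (LK LD1_c15 LD2_c45 LD3_c5)) :=
  Lre_e IH (LK LD1_c25 LD2_c41 LD3_c49) (LK LD1_c15 LD2_c45 LD3_c5) Lrfl Lrfl
theorem f191704 : Led Lsl_bt (LP (LK LD1_c9 LD2_c34 LD3_c8)) = (LP (LK LD1_c17 LD2_c37 LD3_c15)) :=
  Lre_b IH (LK LD1_c9 LD2_c34 LD3_c8) (LK LD1_c17 LD2_c37 LD3_c15) Lrfl Lrfl
theorem f353560 : Led Lsl_df (LP (LK LD1_c17 LD2_c39 LD3_c41)) = (LP (LK LD1_c17 LD2_c37 LD3_c15)) :=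
  Lgr Lrot12 (Lpr_bt (K25.f353556 IH) (Lpr_dt (K23.f191702 IH) (Lpr_bt (f191704 IH) (Lpn (LP (LK LD1_c17 LD2_c37 LD3_c15))))))
theorem f361524 : Led Lsl_gf (LP (LK LD1_c15 LD2_c24 LD3_c38)) = (LP (LK LD1_c17 LD2_c39 LD3_c41)) :=
  Lgr Lrot134 (Lpr_df (K26.f361098 IH) (Lpr_et (K26.f359393 IH) (Lpr_gt (K26.f345637 IH) (Lpe (f345605 IH) (Lpr_dt (K25.f345598 IH) (Lpe (f341066 IH) (Lpr_df (K12.f200507 IH) (Lpr_et (K18.f296924 IH) (Lpr_gt (f361518 IH) (Lpe (f353560 IH) (Lpn (LP (LK LD1_c17 LD2_c39 LD3_c41)))))))))))))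
theorem f365575 : Led Lsl_gf (LP (LK LD1_c26 LD2_c0 LD3_c56)) = (LP (LK LD1_c16 LD2_c3 LD3_c37)) :=
  Lgr Lrot143 (Lpr_dt (f365558 IH) (Lpr_cf (K26.f361593 IH) (Lpe (K26.f361110 IH) (Lpr_gf (f361524 IH) (Lpr_df (f353560 IH) (Lpe (f361518 IH) (Lpr_cf (K20.f321118 IH) (Lpe (K25.f327610 IH) (Lpr_dt (K26.f321937 IH) (Lpn (LP (LK LD1_c16 LD2_c3 LD3_c37))))))))))))
theorem f359404 : Led Lsl_ct (LP (LK LD1_c19 LD2_c5 LD3_c61)) = (LP (LK LD1_c19 LD2_c15 LD3_c59)) :=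
  Lgr Lrot40 (Lpe (K25.f250606 IH) (Lpe (K20.f250601 IH) (Lpr_ff (K26.f359400 IH) (Lpn (LP (LK LD1_c19 LD2_c15 LD3_c59))))))
theorem f361598 : Led Lsl_et (LP (LK LD1_c19 LD2_c5 LD3_c46)) = (LP (LK LD1_c19 LD2_c5 LD3_c61)) :=
  Lgr Lrot158 (Lpr_cf (K26.f361593 IH) (Lpr_ef (K26.f359390 IH) (Lpe (f359404 IH) (Lpn (LP (LK LD1_c19 LD2_c5 LD3_c61))))))
theorem f365577 : Led Lsl_gt (LP (LK LD1_c19 LD2_c5 LD3_c61)) = (LP (LK LD1_c15 LD2_c44 LD3_c37)) :=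
  Lgr Lrot131 (Lpe (f361598 IH) (Lpe (f365554 IH) (Lpr_gf (f365575 IH) (Lpe (K26.f321937 IH) (Lpr_gf (K25.f327610 IH) (Lpe (K20.f321115 IH) (Lpr_dt (K19.f288880 IH) (Lpr_gf (K26.f322317 IH) (Lpe (K26.f309153 IH) (Lpe (K26.f288894 IH) (Lpn (LP (LK LD1_c15 LD2_c44 LD3_c37)))))))))))))
theorem f303109 : Led Lsl_dt (LP (LK LD1_c10 LD2_c38 LD3_c12)) = (LP (LK LD1_c5 LD2_c23 LD3_c47)) :=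
  Lre_d IH (LK LD1_c10 LD2_c38 LD3_c12) (LK LD1_c5 LD2_c23 LD3_c47) Lrfl Lrfl
theorem f337912 : Led Lsl_gf (LP (LK LD1_c10 LD2_c32 LD3_c29)) = (LP (LK LD1_c16 LD2_c38 LD3_c33)) :=
  Lgr Lrot129 (Lpe (K24.f41468 IH) (Lpr_bt (K24.f289048 IH) (Lpr_gt (K26.f323848 IH) (Lpr_bf (K12.f217173 IH) (Lpr_ct (K12.f217175 IH) (Lpr_gt (K23.f217281 IH) (Lpe (K23.f337782 IH) (Lpe (K23.f337692 IH) (Lpr_gt (K22.f337775 IH) (Lpr_ct (K22.f337906 IH) (Lpn (LP (LK LD1_c16 LD2_c38 LD3_c33)))))))))))))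
theorem f256552 : Led Lsl_dt (LP (LK LD1_c5 LD2_c9 LD3_c32)) = (LP (LK LD1_c10 LD2_c9 LD3_c47)) :=
  Lre_d IH (LK LD1_c5 LD2_c9 LD3_c32) (LK LD1_c10 LD2_c9 LD3_c47) Lrfl Lrfl
theorem f303106 : Led Lsl_dt (LP (LK LD1_c5 LD2_c23 LD3_c47)) = (LP (LK LD1_c10 LD2_c38 LD3_c12)) :=
  Lre_d IH (LK LD1_c5 LD2_c23 LD3_c47) (LK LD1_c10 LD2_c38 LD3_c12) Lrfl Lrfl
theorem f337914 : Led Lsl_gt (LP (LK LD1_c19 LD2_c15 LD3_c61)) = (LP (LK LD1_c10 LD2_c38 LD3_c12)) :=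
  Lgr Lrot112 (Lpr_df (K24.f289036 IH) (Lpr_et (K24.f289038 IH) (Lpr_gf (f337912 IH) (Lpe (K22.f231395 IH) (Lpe (K14.f231393 IH) (Lpr_gf (K17.f265008 IH) (Lpe (f256552 IH) (Lpe (K15.f183927 IH) (Lpr_ef (K22.f315840 IH) (Lpr_dt (f303106 IH) (Lpn (LP (LK LD1_c10 LD2_c38 LD3_c12)))))))))))))
theorem f352711 : Led Lsl_gf (LP (LK LD1_c19 LD2_c5 LD3_c36)) = (LP (LK LD1_c10 LD2_c40 LD3_c3)) :=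
  Lgr Lrot144 (Lpe (K24.f289036 IH) (Lpr_gt (f337914 IH) (Lpr_dt (f303109 IH) (Lpe (K20.f315833 IH) (Lpr_df (K19.f216579 IH) (Lpe (K26.f345601 IH) (Lpr_df (K25.f345589 IH) (Lpr_gf (K25.f352709 IH) (Lpe (K25.f352671 IH) (Lpn (LP (LK LD1_c10 LD2_c40 LD3_c3))))))))))))
theorem f356823 : Led Lsl_gf (LP (LK LD1_c19 LD2_c19 LD3_c0)) = (LP (LK LD1_c25 LD2_c41 LD3_c45)) :=
  Lgr Lrot138 (Lpr_dt (K25.f356813 IH) (Lpr_gt (K22.f167132 IH) (Lpe (K20.f246742 IH) (Lpr_et (K14.f171972 IH) (Lpe (K16.f246389 IH) (Lpe (K18.f256928 IH) (Lpr_dt (K20.f321717 IH) (Lpr_gt (K22.f258985 IH) (Lpe (K22.f321723 IH) (Lpe (K25.f336324 IH) (Lpn (LP (LK LD1_c25 LD2_c41 LD3_c45)))))))))))))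
theorem f365581 : Led Lsl_cf (LP (LK LD1_c19 LD2_c5 LD3_c61)) = (LP (LK LD1_c19 LD2_c15 LD3_c59)) :=
  Lgr Lrot169 (Lpr_gt (f365577 IH) (Lpr_ct (K20.f288893 IH) (Lpr_df (K22.f289020 IH) (Lpe (K24.f289023 IH) (Lpr_gf (f352711 IH) (Lpe (K25.f352669 IH) (Lpr_gf (f356823 IH) (Lpe (K22.f215486 IH) (Lpe (K26.f345635 IH) (Lpn (LP (LK LD1_c19 LD2_c15 LD3_c59))))))))))))
theorem f309148 : Led Lsl_gt (LP (LK LD1_c10 LD2_c38 LD3_c28)) = (LP (LK LD1_c19 LD2_c16 LD3_c41)) :=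
  Lre_g IH (LK LD1_c10 LD2_c38 LD3_c28) (LK LD1_c19 LD2_c16 LD3_c41) Lrfl Lrfl
theorem f365589 : Led Lsl_df (LP (LK LD1_c19 LD2_c5 LD3_c61)) = (LP (LK LD1_c19 LD2_c16 LD3_c41)) :=
  Lgr Lrot84 (Lpr_cf (f365581 IH) (Lpe (K26.f339618 IH) (Lpr_gf (K26.f345633 IH) (Lpe (K19.f229583 IH) (Lpe (K26.f357317 IH) (Lpr_cf (K25.f357325 IH) (Lpr_gt (K25.f255859 IH) (Lpr_dt (K20.f303060 IH) (Lpr_gt (f309148 IH) (Lpn (LP (LK LD1_c19 LD2_c16 LD3_c41))))))))))))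
theorem f250604 : Led Lsl_ft (LP (LK LD1_c19 LD2_c5 LD3_c61)) = (LP (LK LD1_c10 LD2_c32 LD3_c46)) :=
  Lre_f IH (LK LD1_c19 LD2_c5 LD3_c61) (LK LD1_c10 LD2_c32 LD3_c46) Lrfl Lrfl
theorem f365595 : Led Lsl_ft (LP (LK LD1_c19 LD2_c5 LD3_c60)) = (LP (LK LD1_c19 LD2_c16 LD3_c41)) :=
  Lgr Lrot54 (Lpe (K20.f43213 IH) (Lpe (f250604 IH) (Lpr_df (f365589 IH) (Lpn (LP (LK LD1_c19 LD2_c16 LD3_c41))))))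
theorem f365597 : Led Lsl_ff (LP (LK LD1_c19 LD2_c5 LD3_c60)) = (LP (LK LD1_c19 LD2_c16 LD3_c41)) :=
  Lgr Lrot3 (Lpr_ft (f365595 IH) (Lpn (LP (LK LD1_c19 LD2_c16 LD3_c41))))
theorem f289039 : Led Lsl_ct (LP (LK LD1_c10 LD2_c38 LD3_c9)) = (LP (LK LD1_c19 LD2_c16 LD3_c1)) :=
  Lre_c IH (LK LD1_c10 LD2_c38 LD3_c9) (LK LD1_c19 LD2_c16 LD3_c1) Lrfl Lrfl
theorem f345612 : Led Lsl_cf (LP (LK LD1_c25 LD2_c31 LD3_c17)) = (LP (LK LD1_c28 LD2_c42 LD3_c8)) :=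
  Lgr Lrot11 (Lpr_ct (K26.f345610 IH) (Lpn (LP (LK LD1_c28 LD2_c42 LD3_c8))))
theorem f277654 : Led Lsl_ct (LP (LK LD1_c10 LD2_c38 LD3_c14)) = (LP (LK LD1_c19 LD2_c16 LD3_c12)) :=
  Lre_c IH (LK LD1_c10 LD2_c38 LD3_c14) (LK LD1_c19 LD2_c16 LD3_c12) Lrfl Lrfl
theorem f345716 : Led Lsl_gt (LP (LK LD1_c19 LD2_c16 LD3_c12)) = (LP (LK LD1_c28 LD2_c42 LD3_c8)) :=
  Lgr Lrot150 (Lpe (f277654 IH) (Lpr_gf (K26.f303117 IH) (Lpe (K18.f184286 IH) (Lpe (K20.f303049 IH) (Lpe (K20.f315838 IH) (Lpr_gt (K19.f259262 IH) (Lpr_ct (K18.f229589 IH) (Lpe (K23.f221766 IH) (Lpr_cf (f345612 IH) (Lpn (LP (LK LD1_c28 LD2_c42 LD3_c8))))))))))))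
theorem f277659 : Led Lsl_ct (LP (LK LD1_c19 LD2_c16 LD3_c12)) = (LP (LK LD1_c10 LD2_c38 LD3_c14)) :=
  Lre_c IH (LK LD1_c19 LD2_c16 LD3_c12) (LK LD1_c10 LD2_c38 LD3_c14) Lrfl Lrfl
theorem f345718 : Led Lsl_df (LP (LK LD1_c19 LD2_c16 LD3_c1)) = (LP (LK LD1_c28 LD2_c31 LD3_c14)) :=
  Lgr Lrot84 (Lpe (f289039 IH) (Lpe (K24.f217758 IH) (Lpe (K24.f217756 IH) (Lpe (K26.f270371 IH) (Lpe (K26.f221612 IH) (Lpe (f277659 IH) (Lpr_gt (f345716 IH) (Lpe (K26.f345608 IH) (Lpr_gt (K26.f345603 IH) (Lpn (LP (LK LD1_c28 LD2_c31 LD3_c14))))))))))))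
theorem f345721 : Led Lsl_dt (LP (LK LD1_c19 LD2_c16 LD3_c1)) = (LP (LK LD1_c28 LD2_c31 LD3_c14)) :=
  Lgr Lrot42 (Lpr_df (f345718 IH) (Lpn (LP (LK LD1_c28 LD2_c31 LD3_c14))))
theorem f365602 : Led Lsl_at (LP (LK LD1_c19 LD2_c5 LD3_c60)) = (LP (LK LD1_c19 LD2_c5 LD3_c41)) :=
  Lgr Lrot33 (Lpr_ff (f365597 IH) (Lpe (f365589 IH) (Lpr_ct (f359404 IH) (Lpr_dt (K26.f339603 IH) (Lpr_ct (K26.f255612 IH) (Lpr_dt (K24.f217758 IH) (Lpr_ct (f289039 IH) (Lpr_dt (f345721 IH) (Lpr_ct (K26.f192404 IH) (Lpn (LP (LK LD1_c19 LD2_c5 LD3_c41))))))))))))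
theorem f250607 : Led Lsl_ct (LP (LK LD1_c28 LD2_c31 LD3_c23)) = (LP (LK LD1_c19 LD2_c5 LD3_c60)) :=
  Lre_c IH (LK LD1_c28 LD2_c31 LD3_c23) (LK LD1_c19 LD2_c5 LD3_c60) Lrfl Lrfl
theorem f192414 : Led Lsl_ct (LP (LK LD1_c19 LD2_c5 LD3_c41)) = (LP (LK LD1_c28 LD2_c31 LD3_c14)) :=
  Lre_c IH (LK LD1_c19 LD2_c5 LD3_c41) (LK LD1_c28 LD2_c31 LD3_c14) Lrfl Lrfl
theorem f365606 : Led Lsl_af (LP (LK LD1_c28 LD2_c31 LD3_c23)) = (LP (LK LD1_c28 LD2_c31 LD3_c14)) :=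
  Lgr Lrot68 (Lpr_ct (f250607 IH) (Lpr_at (f365602 IH) (Lpr_ct (f192414 IH) (Lpn (LP (LK LD1_c28 LD2_c31 LD3_c14))))))
theorem f365690 : Led Lsl_at (LP (LK LD1_c28 LD2_c30 LD3_c30)) = (LP (LK LD1_c19 LD2_c16 LD3_c1)) :=
  Lgr Lrot51 (Lpe (K25.f357348 IH) (Lpr_af (f365606 IH) (Lpe (f345721 IH) (Lpn (LP (LK LD1_c19 LD2_c16 LD3_c1))))))
theorem f169222 : Led Lsl_ct (LP (LK LD1_c19 LD2_c4 LD3_c15)) = (LP (LK LD1_c28 LD2_c30 LD3_c30)) :=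
  Lre_c IH (LK LD1_c19 LD2_c4 LD3_c15) (LK LD1_c28 LD2_c30 LD3_c30) Lrfl Lrfl
theorem f289040 : Led Lsl_ct (LP (LK LD1_c19 LD2_c16 LD3_c1)) = (LP (LK LD1_c10 LD2_c38 LD3_c9)) :=
  Lre_c IH (LK LD1_c19 LD2_c16 LD3_c1) (LK LD1_c10 LD2_c38 LD3_c9) Lrfl Lrfl
theorem f365694 : Led Lsl_af (LP (LK LD1_c19 LD2_c4 LD3_c15)) = (LP (LK LD1_c10 LD2_c38 LD3_c9)) :=
  Lgr Lrot68 (Lpr_ct (f169222 IH) (Lpr_at (f365690 IH) (Lpr_ct (f289040 IH) (Lpn (LP (LK LD1_c10 LD2_c38 LD3_c9))))))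
theorem f277865 : Led Lsl_dt (LP (LK LD1_c19 LD2_c4 LD3_c16)) = (LP (LK LD1_c10 LD2_c31 LD3_c21)) :=
  Lre_d IH (LK LD1_c19 LD2_c4 LD3_c16) (LK LD1_c10 LD2_c31 LD3_c21) Lrfl Lrfl
theorem f365700 : Led Lsl_ft (LP (LK LD1_c19 LD2_c4 LD3_c16)) = (LP (LK LD1_c10 LD2_c38 LD3_c9)) :=
  Lgr Lrot142 (Lpr_dt (f277865 IH) (Lpe (K20.f322649 IH) (Lpe (K20.f246777 IH) (Lpr_ct (K20.f250601 IH) (Lpr_dt (K20.f43213 IH) (Lpr_ct (K25.f250605 IH) (Lpr_dt (K25.f357348 IH) (Lpr_ct (K25.f215516 IH) (Lpr_af (f365694 IH) (Lpn (LP (LK LD1_c10 LD2_c38 LD3_c9))))))))))))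
theorem f365704 : Led Lsl_ff (LP (LK LD1_c19 LD2_c4 LD3_c16)) = (LP (LK LD1_c10 LD2_c38 LD3_c9)) :=
  Lgr Lrot3 (Lpr_ft (f365700 IH) (Lpn (LP (LK LD1_c10 LD2_c38 LD3_c9))))
theorem f365712 : Led Lsl_at (LP (LK LD1_c19 LD2_c4 LD3_c16)) = (LP (LK LD1_c10 LD2_c38 LD3_c12)) :=
  Lgr Lrot26 (Lpr_ff (f365704 IH) (Lpr_gt (K24.f217759 IH) (Lpr_gt (f337914 IH) (Lpn (LP (LK LD1_c10 LD2_c38 LD3_c12))))))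
theorem f365696 : Led Lsl_at (LP (LK LD1_c19 LD2_c4 LD3_c15)) = (LP (LK LD1_c10 LD2_c38 LD3_c9)) :=
  Lgr Lrot100 (Lpr_af (f365694 IH) (Lpn (LP (LK LD1_c10 LD2_c38 LD3_c9))))
theorem f365719 : Led Lsl_ff (LP (LK LD1_c19 LD2_c4 LD3_c15)) = (LP (LK LD1_c10 LD2_c38 LD3_c12)) :=
  Lgr Lrot30 (Lpr_at (f365696 IH) (Lpe (f365704 IH) (Lpr_at (f365712 IH) (Lpn (LP (LK LD1_c10 LD2_c38 LD3_c12))))))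
theorem f365725 : Led Lsl_ft (LP (LK LD1_c19 LD2_c4 LD3_c15)) = (LP (LK LD1_c10 LD2_c38 LD3_c12)) :=
  Lgr Lrot48 (Lpr_ff (f365719 IH) (Lpn (LP (LK LD1_c10 LD2_c38 LD3_c12))))
theorem f365729 : Led Lsl_ff (LP (LK LD1_c10 LD2_c31 LD3_c20)) = (LP (LK LD1_c5 LD2_c23 LD3_c47)) :=
  Lgr Lrot19 (Lpr_dt (K20.f169221 IH) (Lpr_ft (f365725 IH) (Lpr_dt (f303109 IH) (Lpn (LP (LK LD1_c5 LD2_c23 LD3_c47))))))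
theorem f365735 : Led Lsl_ft (LP (LK LD1_c8 LD2_c10 LD3_c11)) = (LP (LK LD1_c5 LD2_c39 LD3_c15)) :=
  Lgr Lrot4 (Lpe (K21.f309919 IH) (Lpr_ff (f365729 IH) (Lpe (K20.f315833 IH) (Lpn (LP (LK LD1_c5 LD2_c39 LD3_c15))))))
theorem f365741 : Led Lsl_ff (LP (LK LD1_c8 LD2_c10 LD3_c11)) = (LP (LK LD1_c5 LD2_c39 LD3_c15)) :=
  Lgr Lrot3 (Lpr_ft (f365735 IH) (Lpn (LP (LK LD1_c5 LD2_c39 LD3_c15))))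
theorem f365745 : Led Lsl_ft (LP (LK LD1_c15 LD2_c23 LD3_c10)) = (LP (LK LD1_c9 LD2_c33 LD3_c51)) :=
  Lgr Lrot54 (Lpe (K21.f309910 IH) (Lpr_ff (f365741 IH) (Lpr_df (K19.f216579 IH) (Lpn (LP (LK LD1_c9 LD2_c33 LD3_c51))))))
theorem f309907 : Led Lsl_bt (LP (LK LD1_c8 LD2_c10 LD3_c13)) = (LP (LK LD1_c15 LD2_c23 LD3_c10)) :=
  Lre_b IH (LK LD1_c8 LD2_c10 LD3_c13) (LK LD1_c15 LD2_c23 LD3_c10) Lrfl Lrfl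
theorem f365759 : Led Lsl_ff (LP (LK LD1_c8 LD2_c10 LD3_c13)) = (LP (LK LD1_c4 LD2_c50 LD3_c55)) :=
  Lgr Lrot25 (Lpr_bt (f309907 IH) (Lpr_ft (f365745 IH) (Lpr_bt (K19.f192396 IH) (Lpn (LP (LK LD1_c4 LD2_c50 LD3_c55))))))
theorem f327992 : Led Lsl_at (LP (LK LD1_c8 LD2_c10 LD3_c13)) = (LP (LK LD1_c4 LD2_c51 LD3_c38)) :=
  Lgr Lrot100 (Lpr_af (K23.f327989 IH) (Lpn (LP (LK LD1_c4 LD2_c51 LD3_c38))))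
theorem f328016 : Led Lsl_dt (LP (LK LD1_c17 LD2_c39 LD3_c28)) = (LP (LK LD1_c9 LD2_c35 LD3_c19)) :=
  Lre_d IH (LK LD1_c17 LD2_c39 LD3_c28) (LK LD1_c9 LD2_c35 LD3_c19) Lrfl Lrfl
theorem f328009 : Led Lsl_ct (LP (LK LD1_c27 LD2_c27 LD3_c24)) = (LP (LK LD1_c17 LD2_c39 LD3_c28)) :=
  Lre_c IH (LK LD1_c27 LD2_c27 LD3_c24) (LK LD1_c17 LD2_c39 LD3_c28) Lrfl Lrfl
theorem f216438 : Led Lsl_dt (LP (LK LD1_c5 LD2_c39 LD3_c16)) = (LP (LK LD1_c11 LD2_c9 LD3_c32)) :=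
  Lre_d IH (LK LD1_c5 LD2_c39 LD3_c16) (LK LD1_c11 LD2_c9 LD3_c32) Lrfl Lrfl
theorem f216439 : Led Lsl_ct (LP (LK LD1_c11 LD2_c9 LD3_c32)) = (LP (LK LD1_c20 LD2_c3 LD3_c56)) :=
  Lre_c IH (LK LD1_c11 LD2_c9 LD3_c32) (LK LD1_c20 LD2_c3 LD3_c56) Lrfl Lrfl
theorem f365772 : Led Lsl_df (LP (LK LD1_c27 LD2_c27 LD3_c24)) = (LP (LK LD1_c20 LD2_c3 LD3_c56)) :=
  Lgr Lrot13 (Lpr_ct (f328009 IH) (Lpr_dt (f328016 IH) (Lpr_ct (K23.f327995 IH) (Lpe (f327992 IH) (Lpr_ff (f365759 IH) (Lpe (K13.f216432 IH) (Lpr_ct (K20.f216437 IH) (Lpr_dt (f216438 IH) (Lpr_ct (f216439 IH) (Lpn (LP (LK LD1_c20 LD2_c3 LD3_c56))))))))))))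
theorem f355204 : Led Lsl_ct (LP (LK LD1_c9 LD2_c38 LD3_c57)) = (LP (LK LD1_c17 LD2_c45 LD3_c10)) :=
  Lre_c IH (LK LD1_c9 LD2_c38 LD3_c57) (LK LD1_c17 LD2_c45 LD3_c10) Lrfl Lrfl
theorem f363211 : Led Lsl_et (LP (LK LD1_c15 LD2_c8 LD3_c54)) = (LP (LK LD1_c19 LD2_c15 LD3_c6)) :=
  Lgr Lrot87 (Lpr_ef (K26.f363203 IH) (Lpn (LP (LK LD1_c19 LD2_c15 LD3_c6))))
theorem f363218 : Led Lsl_gf (LP (LK LD1_c19 LD2_c5 LD3_c34)) = (LP (LK LD1_c19 LD2_c15 LD3_c6)) :=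
  Lgr Lrot141 (Lpe (K26.f323863 IH) (Lpr_dt (K24.f323850 IH) (Lpr_gt (K24.f323853 IH) (Lpr_df (K24.f231278 IH) (Lpr_et (K24.f211376 IH) (Lpr_gt (K23.f211368 IH) (Lpe (K11.f211354 IH) (Lpr_gt (K25.f211369 IH) (Lpe (K26.f363209 IH) (Lpr_et (f363211 IH) (Lpn (LP (LK LD1_c19 LD2_c15 LD3_c6)))))))))))))
theorem f289027 : Led Lsl_bt (LP (LK LD1_c10 LD2_c32 LD3_c31)) = (LP (LK LD1_c19 LD2_c5 LD3_c34)) :=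
  Lre_b IH (LK LD1_c10 LD2_c32 LD3_c31) (LK LD1_c19 LD2_c5 LD3_c34) Lrfl Lrfl
theorem f348801 : Led Lsl_bt (LP (LK LD1_c15 LD2_c8 LD3_c54)) = (LP (LK LD1_c8 LD2_c3 LD3_c0)) :=
  Lgr Lrot127 (Lpr_bf (K25.f348740 IH) (Lpn (LP (LK LD1_c8 LD2_c3 LD3_c0))))
theorem f363205 : Led Lsl_bt (LP (LK LD1_c15 LD2_c9 LD3_c29)) = (LP (LK LD1_c19 LD2_c15 LD3_c6)) :=
  Lgr Lrot119 (Lpe (K19.f226868 IH) (Lpe (f348801 IH) (Lpr_ef (K26.f363203 IH) (Lpn (LP (LK LD1_c19 LD2_c15 LD3_c6))))))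
theorem f363220 : Led Lsl_gt (LP (LK LD1_c15 LD2_c23 LD3_c20)) = (LP (LK LD1_c9 LD2_c38 LD3_c57)) :=
  Lgr Lrot82 (Lpe (K20.f237937 IH) (Lpr_ct (K20.f322643 IH) (Lpr_gf (K26.f325399 IH) (Lpe (K26.f289028 IH) (Lpr_bt (f289027 IH) (Lpr_gf (f363218 IH) (Lpe (f363205 IH) (Lpr_ct (K24.f348720 IH) (Lpr_gf (K26.f355236 IH) (Lpe (f355204 IH) (Lpn (LP (LK LD1_c9 LD2_c38 LD3_c57)))))))))))))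
theorem f329581 : Led Lsl_dt (LP (LK LD1_c5 LD2_c39 LD3_c13)) = (LP (LK LD1_c11 LD2_c9 LD3_c29)) :=
  Lre_d IH (LK LD1_c5 LD2_c39 LD3_c13) (LK LD1_c11 LD2_c9 LD3_c29) Lrfl Lrfl
theorem f329582 : Led Lsl_gt (LP (LK LD1_c11 LD2_c9 LD3_c29)) = (LP (LK LD1_c20 LD2_c3 LD3_c49)) :=
  Lre_g IH (LK LD1_c11 LD2_c9 LD3_c29) (LK LD1_c20 LD2_c3 LD3_c49) Lrfl Lrfl
theorem f329603 : Led Lsl_df (LP (LK LD1_c20 LD2_c3 LD3_c49)) = (LP (LK LD1_c15 LD2_c54 LD3_c58)) :=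
  Lgr Lrot132 (Lpe (f329582 IH) (Lpe (f329581 IH) (Lpr_gf (K22.f329577 IH) (Lpe (K15.f226990 IH) (Lpe (K13.f226901 IH) (Lpe (K11.f200796 IH) (Lpe (K10.f52655 IH) (Lpr_et (K10.f52643 IH) (Lpe (K22.f52887 IH) (Lpe (K25.f52896 IH) (Lpn (LP (LK LD1_c15 LD2_c54 LD3_c58)))))))))))))
theorem f216467 : Led Lsl_et (LP (LK LD1_c5 LD2_c39 LD3_c16)) = (LP (LK LD1_c5 LD2_c36 LD3_c10)) :=
  Lgr Lrot158 (Lpe (K20.f216437 IH) (Lpr_ef (K13.f216461 IH) (Lpe (K15.f216466 IH) (Lpn (LP (LK LD1_c5 LD2_c36 LD3_c10))))))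
theorem f329646 : Led Lsl_gt (LP (LK LD1_c20 LD2_c3 LD3_c49)) = (LP (LK LD1_c11 LD2_c9 LD3_c32)) :=
  Lgr Lrot112 (Lpr_df (f329603 IH) (Lpr_et (K25.f52896 IH) (Lpe (K22.f52888 IH) (Lpe (K10.f51008 IH) (Lpe (K15.f50992 IH) (Lpe (K14.f51278 IH) (Lpr_df (K15.f265592 IH) (Lpe (K15.f265590 IH) (Lpe (f216467 IH) (Lpr_dt (f216438 IH) (Lpn (LP (LK LD1_c11 LD2_c9 LD3_c32)))))))))))))
theorem f364777 : Led Lsl_ct (LP (LK LD1_c29 LD2_c16 LD3_c57)) = (LP (LK LD1_c20 LD2_c3 LD3_c30)) :=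
  Lre_c IH (LK LD1_c29 LD2_c16 LD3_c57) (LK LD1_c20 LD2_c3 LD3_c30) Lrfl Lrfl
theorem f364797 : Led Lsl_gt (LP (LK LD1_c20 LD2_c3 LD3_c56)) = (LP (LK LD1_c29 LD2_c16 LD3_c57)) :=
  Lgr Lrot150 (Lpe (f216439 IH) (Lpe (f329646 IH) (Lpr_df (f329603 IH) (Lpe (K25.f329849 IH) (Lpr_ct (K25.f237941 IH) (Lpr_gt (f363220 IH) (Lpr_ct (f355204 IH) (Lpr_df (K26.f364792 IH) (Lpe (f364777 IH) (Lpn (LP (LK LD1_c29 LD2_c16 LD3_c57))))))))))))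
theorem f364772 : Led Lsl_dt (LP (LK LD1_c25 LD2_c32 LD3_c48)) = (LP (LK LD1_c20 LD2_c3 LD3_c31)) :=
  Lgr Lrot42 (Lpr_df (K26.f364769 IH) (Lpn (LP (LK LD1_c20 LD2_c3 LD3_c31))))
theorem f216616 : Led Lsl_ct (LP (LK LD1_c15 LD2_c37 LD3_c46)) = (LP (LK LD1_c25 LD2_c32 LD3_c48)) :=
  Lre_c IH (LK LD1_c15 LD2_c37 LD3_c46) (LK LD1_c25 LD2_c32 LD3_c48) Lrfl Lrfl
theorem f365780 : Led Lsl_gt (LP (LK LD1_c27 LD2_c27 LD3_c24)) = (LP (LK LD1_c20 LD2_c3 LD3_c42)) :=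
  Lgr Lrot9 (Lpr_df (f365772 IH) (Lpr_gt (f364797 IH) (Lpr_ct (f364777 IH) (Lpr_gt (K26.f228358 IH) (Lpr_ct (K26.f228389 IH) (Lpe (f364772 IH) (Lpe (f216616 IH) (Lpr_gf (K23.f346612 IH) (Lpe (K25.f357265 IH) (Lpn (LP (LK LD1_c20 LD2_c3 LD3_c42))))))))))))
theorem f328015 : Led Lsl_ct (LP (LK LD1_c17 LD2_c39 LD3_c28)) = (LP (LK LD1_c27 LD2_c27 LD3_c24)) :=
  Lre_c IH (LK LD1_c17 LD2_c39 LD3_c28) (LK LD1_c27 LD2_c27 LD3_c24) Lrfl Lrfl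
theorem f365787 : Led Lsl_gf (LP (LK LD1_c17 LD2_c39 LD3_c28)) = (LP (LK LD1_c15 LD2_c19 LD3_c1)) :=
  Lgr Lrot147 (Lpr_ct (f328015 IH) (Lpr_gt (f365780 IH) (Lpr_ct (K25.f357265 IH) (Lpe (K23.f314970 IH) (Lpe (K23.f199249 IH) (Lpe (K22.f315815 IH) (Lpe (K22.f227026 IH) (Lpr_gf (K25.f328749 IH) (Lpe (K16.f236901 IH) (Lpn (LP (LK LD1_c15 LD2_c19 LD3_c1))))))))))))
theorem f365774 : Led Lsl_dt (LP (LK LD1_c27 LD2_c27 LD3_c24)) = (LP (LK LD1_c20 LD2_c3 LD3_c56)) :=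
  Lgr Lrot42 (Lpr_df (f365772 IH) (Lpn (LP (LK LD1_c20 LD2_c3 LD3_c56))))
theorem f329592 : Led Lsl_ct (LP (LK LD1_c29 LD2_c17 LD3_c8)) = (LP (LK LD1_c20 LD2_c3 LD3_c49)) :=
  Lre_c IH (LK LD1_c29 LD2_c17 LD3_c8) (LK LD1_c20 LD2_c3 LD3_c49) Lrfl Lrfl
theorem f223634 : Led Lsl_ft (LP (LK LD1_c26 LD2_c5 LD3_c10)) = (LP (LK LD1_c16 LD2_c8 LD3_c23)) :=
  Lre_f IH (LK LD1_c26 LD2_c5 LD3_c10) (LK LD1_c16 LD2_c8 LD3_c23) Lrfl Lrfl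
theorem f226999 : Led Lsl_ct (LP (LK LD1_c8 LD2_c7 LD3_c60)) = (LP (LK LD1_c15 LD2_c18 LD3_c52)) :=
  Lre_c IH (LK LD1_c8 LD2_c7 LD3_c60) (LK LD1_c15 LD2_c18 LD3_c52) Lrfl Lrfl
theorem f269408 : Led Lsl_at (LP (LK LD1_c16 LD2_c8 LD3_c23)) = (LP (LK LD1_c15 LD2_c18 LD3_c52)) :=
  Lgr Lrot33 (Lpe (f223634 IH) (Lpr_dt (K16.f269404 IH) (Lpr_ct (K16.f236906 IH) (Lpr_dt (K16.f236901 IH) (Lpr_ct (K16.f227004 IH) (Lpr_dt (K17.f226869 IH) (Lpr_ct (K19.f226870 IH) (Lpr_dt (K18.f226993 IH) (Lpr_ct (f226999 IH) (Lpn (LP (LK LD1_c15 LD2_c18 LD3_c52))))))))))))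
theorem f227094 : Led Lsl_gt (LP (LK LD1_c25 LD2_c9 LD3_c48)) = (LP (LK LD1_c15 LD2_c18 LD3_c52)) :=
  Lre_g IH (LK LD1_c25 LD2_c9 LD3_c48) (LK LD1_c15 LD2_c18 LD3_c52) Lrfl Lrfl
theorem f269471 : Led Lsl_gt (LP (LK LD1_c26 LD2_c5 LD3_c10)) = (LP (LK LD1_c25 LD2_c9 LD3_c48)) :=
  Lgr Lrot5 (Lpr_ft (f223634 IH) (Lpr_at (f269408 IH) (Lpe (f227094 IH) (Lpn (LP (LK LD1_c25 LD2_c9 LD3_c48))))))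
theorem f348727 : Led Lsl_ct (LP (LK LD1_c25 LD2_c9 LD3_c48)) = (LP (LK LD1_c15 LD2_c23 LD3_c6)) :=
  Lgr Lrot110 (Lpe (f269471 IH) (Lpe (K16.f269403 IH) (Lpe (K25.f328755 IH) (Lpe (K18.f227017 IH) (Lpe (K23.f332899 IH) (Lpr_ct (K23.f238558 IH) (Lpr_gt (K19.f305628 IH) (Lpr_ct (K24.f348720 IH) (Lpe (K25.f244361 IH) (Lpn (LP (LK LD1_c15 LD2_c23 LD3_c6))))))))))))
theorem f227093 : Led Lsl_dt (LP (LK LD1_c15 LD2_c18 LD3_c52)) = (LP (LK LD1_c25 LD2_c9 LD3_c49)) :=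
  Lre_d IH (LK LD1_c15 LD2_c18 LD3_c52) (LK LD1_c25 LD2_c9 LD3_c49) Lrfl Lrfl
theorem f314955 : Led Lsl_af (LP (LK LD1_c5 LD2_c39 LD3_c11)) = (LP (LK LD1_c8 LD2_c10 LD3_c10)) :=
  Lgr Lrot68 (Lpr_ct (K25.f314835 IH) (Lpr_at (K19.f314948 IH) (Lpr_ct (K25.f314954 IH) (Lpn (LP (LK LD1_c8 LD2_c10 LD3_c10))))))
theorem f315020 : Led Lsl_ft (LP (LK LD1_c4 LD2_c4 LD3_c40)) = (LP (LK LD1_c8 LD2_c10 LD3_c10)) :=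
  Lre_f IH (LK LD1_c4 LD2_c4 LD3_c40) (LK LD1_c8 LD2_c10 LD3_c10) Lrfl Lrfl
theorem f326594 : Led Lsl_gt (LP (LK LD1_c4 LD2_c4 LD3_c40)) = (LP (LK LD1_c8 LD2_c8 LD3_c0)) :=
  Lgr Lrot5 (Lpr_ft (f315020 IH) (Lpe (f314955 IH) (Lpr_gf (K21.f326580 IH) (Lpn (LP (LK LD1_c8 LD2_c8 LD3_c0))))))
theorem f291191 : Led Lsl_ct (LP (LK LD1_c15 LD2_c18 LD3_c54)) = (LP (LK LD1_c25 LD2_c9 LD3_c53)) :=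
  Lre_c IH (LK LD1_c15 LD2_c18 LD3_c54) (LK LD1_c25 LD2_c9 LD3_c53) Lrfl Lrfl
theorem f186957 : Led Lsl_ct (LP (LK LD1_c9 LD2_c35 LD3_c53)) = (LP (LK LD1_c17 LD2_c40 LD3_c14)) :=
  Lre_c IH (LK LD1_c9 LD2_c35 LD3_c53) (LK LD1_c17 LD2_c40 LD3_c14) Lrfl Lrfl
theorem f227003 : Led Lsl_ct (LP (LK LD1_c25 LD2_c9 LD3_c53)) = (LP (LK LD1_c15 LD2_c18 LD3_c54)) :=
  Lre_c IH (LK LD1_c25 LD2_c9 LD3_c53) (LK LD1_c15 LD2_c18 LD3_c54) Lrfl Lrfl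
theorem f291187 : Led Lsl_dt (LP (LK LD1_c17 LD2_c40 LD3_c14)) = (LP (LK LD1_c25 LD2_c9 LD3_c53)) :=
  Lgr Lrot32 (Lpe (f186957 IH) (Lpe (K19.f1813 IH) (Lpr_ft (K25.f186959 IH) (Lpr_at (K25.f291180 IH) (Lpe (K26.f291167 IH) (Lpe (K19.f291162 IH) (Lpe (K25.f227006 IH) (Lpe (K26.f227002 IH) (Lpe (f227003 IH) (Lpn (LP (LK LD1_c25 LD2_c9 LD3_c53))))))))))))
theorem f348731 : Led Lsl_gt (LP (LK LD1_c25 LD2_c9 LD3_c49)) = (LP (LK LD1_c17 LD2_c40 LD3_c14)) :=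
  Lgr Lrot189 (Lpe (f227093 IH) (Lpe (f227094 IH) (Lpr_ct (f348727 IH) (Lpr_gt (K25.f244069 IH) (Lpr_dt (K25.f244068 IH) (Lpr_gt (f326594 IH) (Lpr_dt (K23.f227005 IH) (Lpr_ct (f291191 IH) (Lpe (f291187 IH) (Lpn (LP (LK LD1_c17 LD2_c40 LD3_c14))))))))))))
theorem f269353 : Led Lsl_ft (LP (LK LD1_c16 LD2_c8 LD3_c28)) = (LP (LK LD1_c26 LD2_c5 LD3_c15)) :=
  Lre_f IH (LK LD1_c16 LD2_c8 LD3_c28) (LK LD1_c26 LD2_c5 LD3_c15) Lrfl Lrfl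
theorem f238767 : Led Lsl_ct (LP (LK LD1_c26 LD2_c5 LD3_c14)) = (LP (LK LD1_c16 LD2_c8 LD3_c28)) :=
  Lre_c IH (LK LD1_c26 LD2_c5 LD3_c14) (LK LD1_c16 LD2_c8 LD3_c28) Lrfl Lrfl
theorem f269354 : Led Lsl_ff (LP (LK LD1_c26 LD2_c5 LD3_c14)) = (LP (LK LD1_c25 LD2_c9 LD3_c49)) :=
  Lgr Lrot23 (Lpr_ct (f238767 IH) (Lpr_ft (f269353 IH) (Lpr_ct (K16.f269346 IH) (Lpn (LP (LK LD1_c25 LD2_c9 LD3_c49))))))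
theorem f236902 : Led Lsl_ct (LP (LK LD1_c15 LD2_c19 LD3_c1)) = (LP (LK LD1_c25 LD2_c10 LD3_c2)) :=
  Lre_c IH (LK LD1_c15 LD2_c19 LD3_c1) (LK LD1_c25 LD2_c10 LD3_c2) Lrfl Lrfl
theorem f269415 : Led Lsl_af (LP (LK LD1_c26 LD2_c5 LD3_c14)) = (LP (LK LD1_c25 LD2_c10 LD3_c2)) :=
  Lgr Lrot68 (Lpr_ct (f238767 IH) (Lpr_at (K16.f269413 IH) (Lpr_ct (f236902 IH) (Lpn (LP (LK LD1_c25 LD2_c10 LD3_c2))))))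
theorem f269435 : Led Lsl_at (LP (LK LD1_c26 LD2_c5 LD3_c14)) = (LP (LK LD1_c25 LD2_c10 LD3_c2)) :=
  Lgr Lrot100 (Lpr_af (f269415 IH) (Lpn (LP (LK LD1_c25 LD2_c10 LD3_c2))))
theorem f348733 : Led Lsl_gf (LP (LK LD1_c25 LD2_c10 LD3_c2)) = (LP (LK LD1_c17 LD2_c40 LD3_c14)) :=
  Lgr Lrot76 (Lpe (f269435 IH) (Lpr_ff (f269354 IH) (Lpr_gt (f348731 IH) (Lpn (LP (LK LD1_c17 LD2_c40 LD3_c14))))))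
theorem f291189 : Led Lsl_df (LP (LK LD1_c17 LD2_c40 LD3_c14)) = (LP (LK LD1_c25 LD2_c9 LD3_c53)) :=
  Lgr Lrot38 (Lpr_dt (f291187 IH) (Lpn (LP (LK LD1_c25 LD2_c9 LD3_c53))))
theorem f365793 : Led Lsl_gf (LP (LK LD1_c29 LD2_c17 LD3_c8)) = (LP (LK LD1_c25 LD2_c9 LD3_c53)) :=
  Lgr Lrot147 (Lpr_ct (f329592 IH) (Lpr_gt (f329646 IH) (Lpr_ct (f216439 IH) (Lpe (f365774 IH) (Lpe (f328015 IH) (Lpr_gf (f365787 IH) (Lpe (K16.f236906 IH) (Lpr_gf (f348733 IH) (Lpr_df (f291189 IH) (Lpn (LP (LK LD1_c25 LD2_c9 LD3_c53))))))))))))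
theorem f329583 : Led Lsl_ct (LP (LK LD1_c20 LD2_c3 LD3_c49)) = (LP (LK LD1_c29 LD2_c17 LD3_c8)) :=
  Lre_c IH (LK LD1_c20 LD2_c3 LD3_c49) (LK LD1_c29 LD2_c17 LD3_c8) Lrfl Lrfl
theorem f237115 : Led Lsl_ct (LP (LK LD1_c25 LD2_c9 LD3_c59)) = (LP (LK LD1_c15 LD2_c18 LD3_c58)) :=
  Lre_c IH (LK LD1_c25 LD2_c9 LD3_c59) (LK LD1_c15 LD2_c18 LD3_c58) Lrfl Lrfl
theorem f329584 : Led Lsl_gt (LP (LK LD1_c29 LD2_c17 LD3_c8)) = (LP (LK LD1_c25 LD2_c9 LD3_c59)) :=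
  Lgr Lrot150 (Lpe (f329583 IH) (Lpe (f329582 IH) (Lpe (f329581 IH) (Lpr_gt (K22.f329575 IH) (Lpr_ct (K16.f247367 IH) (Lpr_gt (K19.f269387 IH) (Lpr_ct (K20.f227206 IH) (Lpe (K23.f237113 IH) (Lpe (f237115 IH) (Lpn (LP (LK LD1_c25 LD2_c9 LD3_c59))))))))))))
theorem f364722 : Led Lsl_ft (LP (LK LD1_c25 LD2_c9 LD3_c53)) = (LP (LK LD1_c20 LD2_c3 LD3_c36)) :=
  Lgr Lrot4 (Lpe (f291191 IH) (Lpr_ff (K26.f364720 IH) (Lpe (K26.f228313 IH) (Lpn (LP (LK LD1_c20 LD2_c3 LD3_c36))))))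
theorem f365795 : Led Lsl_af (LP (LK LD1_c25 LD2_c9 LD3_c59)) = (LP (LK LD1_c20 LD2_c3 LD3_c36)) :=
  Lgr Lrot31 (Lpe (f329584 IH) (Lpr_gf (f365793 IH) (Lpr_ft (f364722 IH) (Lpn (LP (LK LD1_c20 LD2_c3 LD3_c36))))))
theorem f364780 : Led Lsl_ft (LP (LK LD1_c25 LD2_c9 LD3_c59)) = (LP (LK LD1_c20 LD2_c3 LD3_c31)) :=
  Lgr Lrot48 (Lpr_ff (K26.f364774 IH) (Lpn (LP (LK LD1_c20 LD2_c3 LD3_c31))))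
theorem f365809 : Led Lsl_at (LP (LK LD1_c20 LD2_c3 LD3_c31)) = (LP (LK LD1_c25 LD2_c9 LD3_c53)) :=
  Lgr Lrot66 (Lpe (f364780 IH) (Lpr_af (f365795 IH) (Lpe (f364722 IH) (Lpn (LP (LK LD1_c25 LD2_c9 LD3_c53))))))
theorem f365811 : Led Lsl_af (LP (LK LD1_c25 LD2_c32 LD3_c48)) = (LP (LK LD1_c17 LD2_c40 LD3_c14)) :=
  Lgr Lrot117 (Lpr_dt (f364772 IH) (Lpr_at (f365809 IH) (Lpe (f291189 IH) (Lpn (LP (LK LD1_c17 LD2_c40 LD3_c14))))))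
theorem f365815 : Led Lsl_at (LP (LK LD1_c15 LD2_c37 LD3_c46)) = (LP (LK LD1_c9 LD2_c35 LD3_c53)) :=
  Lgr Lrot107 (Lpe (K26.f216610 IH) (Lpr_af (f365811 IH) (Lpe (f186957 IH) (Lpn (LP (LK LD1_c9 LD2_c35 LD3_c53))))))
theorem f365819 : Led Lsl_ff (LP (LK LD1_c15 LD2_c37 LD3_c46)) = (LP (LK LD1_c25 LD2_c9 LD3_c56)) :=
  Lgr Lrot30 (Lpr_at (f365815 IH) (Lpr_ft (K25.f186953 IH) (Lpr_at (K25.f291172 IH) (Lpn (LP (LK LD1_c25 LD2_c9 LD3_c56))))))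
theorem f365821 : Led Lsl_ft (LP (LK LD1_c15 LD2_c37 LD3_c46)) = (LP (LK LD1_c25 LD2_c9 LD3_c56)) :=
  Lgr Lrot48 (Lpr_ff (f365819 IH) (Lpn (LP (LK LD1_c25 LD2_c9 LD3_c56))))
theorem f291175 : Led Lsl_af (LP (LK LD1_c17 LD2_c40 LD3_c15)) = (LP (LK LD1_c25 LD2_c9 LD3_c56)) :=
  Lgr Lrot0 (Lpr_at (K25.f291172 IH) (Lpn (LP (LK LD1_c25 LD2_c9 LD3_c56))))
theorem f365823 : Led Lsl_gt (LP (LK LD1_c11 LD2_c9 LD3_c41)) = (LP (LK LD1_c17 LD2_c40 LD3_c15)) :=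
  Lgr Lrot46 (Lpr_gf (K21.f216605 IH) (Lpr_ft (f365821 IH) (Lpe (f291175 IH) (Lpn (LP (LK LD1_c17 LD2_c40 LD3_c15))))))
theorem f291186 : Led Lsl_dt (LP (LK LD1_c17 LD2_c40 LD3_c15)) = (LP (LK LD1_c9 LD2_c35 LD3_c54)) :=
  Lre_d IH (LK LD1_c17 LD2_c40 LD3_c15) (LK LD1_c9 LD2_c35 LD3_c54) Lrfl Lrfl
theorem f365829 : Led Lsl_cf (LP (LK LD1_c8 LD2_c36 LD3_c54)) = (LP (LK LD1_c9 LD2_c35 LD3_c54)) :=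
  Lgr Lrot14 (Lpe (K23.f216331 IH) (Lpe (K23.f216330 IH) (Lpe (K15.f238526 IH) (Lpe (K20.f227962 IH) (Lpr_ct (K21.f326816 IH) (Lpr_gt (K21.f228315 IH) (Lpr_dt (K19.f196976 IH) (Lpr_gt (f365823 IH) (Lpr_dt (f291186 IH) (Lpn (LP (LK LD1_c9 LD2_c35 LD3_c54))))))))))))
theorem f364830 : Led Lsl_cf (LP (LK LD1_c4 LD2_c19 LD3_c13)) = (LP (LK LD1_c5 LD2_c39 LD3_c8)) :=
  Lgr Lrot11 (Lpr_ct (K26.f364821 IH) (Lpn (LP (LK LD1_c5 LD2_c39 LD3_c8))))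
theorem f310831 : Led Lsl_ct (LP (LK LD1_c4 LD2_c53 LD3_c25)) = (LP (LK LD1_c9 LD2_c38 LD3_c56)) :=
  Lre_c IH (LK LD1_c4 LD2_c53 LD3_c25) (LK LD1_c9 LD2_c38 LD3_c56) Lrfl Lrfl
theorem f365833 : Led Lsl_gt (LP (LK LD1_c9 LD2_c38 LD3_c56)) = (LP (LK LD1_c9 LD2_c35 LD3_c54)) :=
  Lgr Lrot150 (Lpe (f310831 IH) (Lpe (K25.f355229 IH) (Lpe (K14.f216442 IH) (Lpr_gt (K13.f196955 IH) (Lpr_ct (K19.f216451 IH) (Lpr_gt (K24.f216452 IH) (Lpe (f364830 IH) (Lpe (K23.f216341 IH) (Lpr_cf (f365829 IH) (Lpn (LP (LK LD1_c9 LD2_c35 LD3_c54))))))))))))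
theorem f331162 : Led Lsl_ct (LP (LK LD1_c9 LD2_c38 LD3_c56)) = (LP (LK LD1_c4 LD2_c53 LD3_c25)) :=
  Lre_c IH (LK LD1_c9 LD2_c38 LD3_c56) (LK LD1_c4 LD2_c53 LD3_c25) Lrfl Lrfl
theorem f365770 : Led Lsl_gf (LP (LK LD1_c4 LD2_c51 LD3_c38)) = (LP (LK LD1_c4 LD2_c53 LD3_c25)) :=
  Lgr Lrot76 (Lpe (f327992 IH) (Lpr_ff (f365759 IH) (Lpr_gt (K25.f355229 IH) (Lpn (LP (LK LD1_c4 LD2_c53 LD3_c25))))))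
theorem f357243 : Led Lsl_at (LP (LK LD1_c17 LD2_c40 LD3_c13)) = (LP (LK LD1_c25 LD2_c15 LD3_c41)) :=
  Lgr Lrot51 (Lpr_df (K25.f357241 IH) (Lpe (K25.f357228 IH) (Lpe (K25.f199248 IH) (Lpn (LP (LK LD1_c25 LD2_c15 LD3_c41))))))
theorem f357269 : Led Lsl_ft (LP (LK LD1_c11 LD2_c9 LD3_c41)) = (LP (LK LD1_c17 LD2_c40 LD3_c13)) :=
  Lgr Lrot142 (Lpr_dt (K21.f216448 IH) (Lpr_ct (K21.f216450 IH) (Lpr_dt (K13.f196971 IH) (Lpr_ct (K19.f216451 IH) (Lpr_dt (K19.f228287 IH) (Lpr_ct (K24.f238598 IH) (Lpr_dt (K25.f269464 IH) (Lpr_ct (K25.f357265 IH) (Lpe (f357243 IH) (Lpn (LP (LK LD1_c17 LD2_c40 LD3_c13))))))))))))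
theorem f365825 : Led Lsl_gf (LP (LK LD1_c25 LD2_c15 LD3_c41)) = (LP (LK LD1_c17 LD2_c40 LD3_c15)) :=
  Lgr Lrot76 (Lpe (f357243 IH) (Lpe (f357269 IH) (Lpr_gt (f365823 IH) (Lpn (LP (LK LD1_c17 LD2_c40 LD3_c15))))))
theorem f365837 : Led Lsl_dt (LP (LK LD1_c4 LD2_c51 LD3_c38)) = (LP (LK LD1_c2 LD2_c45 LD3_c33)) :=
  Lgr Lrot57 (Lpr_gf (f365770 IH) (Lpe (f331162 IH) (Lpr_gt (f365833 IH) (Lpr_dt (K25.f291177 IH) (Lpe (f365825 IH) (Lpr_dt (K25.f199248 IH) (Lpe (K23.f199249 IH) (Lpe (K15.f199239 IH) (Lpe (K26.f314961 IH) (Lpn (LP (LK LD1_c2 LD2_c45 LD3_c33))))))))))))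
theorem f238586 : Led Lsl_ct (LP (LK LD1_c5 LD2_c39 LD3_c13)) = (LP (LK LD1_c2 LD2_c45 LD3_c33)) :=
  Lre_c IH (LK LD1_c5 LD2_c39 LD3_c13) (LK LD1_c2 LD2_c45 LD3_c33) Lrfl Lrfl
theorem f328078 : Led Lsl_dt (LP (LK LD1_c17 LD2_c38 LD3_c14)) = (LP (LK LD1_c9 LD2_c34 LD3_c37)) :=
  Lre_d IH (LK LD1_c17 LD2_c38 LD3_c14) (LK LD1_c9 LD2_c34 LD3_c37) Lrfl Lrfl
theorem f354898 : Led Lsl_at (LP (LK LD1_c26 LD2_c4 LD3_c39)) = (LP (LK LD1_c17 LD2_c38 LD3_c14)) :=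
  Lgr Lrot51 (Lpe (K26.f354891 IH) (Lpr_af (K26.f354894 IH) (Lpe (f328078 IH) (Lpn (LP (LK LD1_c17 LD2_c38 LD3_c14))))))
theorem f354921 : Led Lsl_ft (LP (LK LD1_c17 LD2_c36 LD3_c33)) = (LP (LK LD1_c26 LD2_c4 LD3_c39)) :=
  Lgr Lrot101 (Lpr_af (K26.f354905 IH) (Lpe (K26.f354920 IH) (Lpe (f354898 IH) (Lpn (LP (LK LD1_c26 LD2_c4 LD3_c39))))))
theorem f354926 : Led Lsl_ff (LP (LK LD1_c17 LD2_c36 LD3_c33)) = (LP (LK LD1_c26 LD2_c4 LD3_c39)) :=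
  Lgr Lrot3 (Lpr_ft (f354921 IH) (Lpn (LP (LK LD1_c26 LD2_c4 LD3_c39))))
theorem f354917 : Led Lsl_at (LP (LK LD1_c17 LD2_c36 LD3_c33)) = (LP (LK LD1_c9 LD2_c34 LD3_c36)) :=
  Lgr Lrot100 (Lpr_af (K26.f354905 IH) (Lpn (LP (LK LD1_c9 LD2_c34 LD3_c36))))
theorem f233980 : Led Lsl_gt (LP (LK LD1_c17 LD2_c38 LD3_c12)) = (LP (LK LD1_c9 LD2_c34 LD3_c36)) :=
  Lre_g IH (LK LD1_c17 LD2_c38 LD3_c12) (LK LD1_c9 LD2_c34 LD3_c36) Lrfl Lrfl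
theorem f354928 : Led Lsl_gf (LP (LK LD1_c17 LD2_c38 LD3_c12)) = (LP (LK LD1_c26 LD2_c4 LD3_c39)) :=
  Lgr Lrot47 (Lpr_gt (f233980 IH) (Lpe (f354917 IH) (Lpr_ff (f354926 IH) (Lpn (LP (LK LD1_c26 LD2_c4 LD3_c39))))))
theorem f232913 : Led Lsl_gt (LP (LK LD1_c4 LD2_c51 LD3_c14)) = (LP (LK LD1_c9 LD2_c34 LD3_c34)) :=
  Lre_g IH (LK LD1_c4 LD2_c51 LD3_c14) (LK LD1_c9 LD2_c34 LD3_c34) Lrfl Lrfl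
theorem f354902 : Led Lsl_gf (LP (LK LD1_c16 LD2_c8 LD3_c5)) = (LP (LK LD1_c9 LD2_c34 LD3_c34)) :=
  Lgr Lrot76 (Lpr_af (K26.f354894 IH) (Lpe (K26.f327952 IH) (Lpr_gt (f232913 IH) (Lpn (LP (LK LD1_c9 LD2_c34 LD3_c34))))))
theorem f354768 : Led Lsl_gt (LP (LK LD1_c5 LD2_c2 LD3_c42)) = (LP (LK LD1_c5 LD2_c8 LD3_c42)) :=
  Lgr Lrot137 (Lpe (K25.f166750 IH) (Lpr_dt (K25.f166801 IH) (Lpr_gf (K25.f354763 IH) (Lpr_df (K18.f229542 IH) (Lpr_et (K22.f321732 IH) (Lpe (K22.f287246 IH) (Lpe (K21.f327543 IH) (Lpr_dt (K21.f327538 IH) (Lpr_gf (K21.f279403 IH) (Lpr_df (K12.f33216 IH) (Lpn (LP (LK LD1_c5 LD2_c8 LD3_c42)))))))))))))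
theorem f216802 : Led Lsl_ct (LP (LK LD1_c15 LD2_c9 LD3_c50)) = (LP (LK LD1_c8 LD2_c3 LD3_c12)) :=
  Lre_c IH (LK LD1_c15 LD2_c9 LD3_c50) (LK LD1_c8 LD2_c3 LD3_c12) Lrfl Lrfl
theorem f332909 : Led Lsl_ct (LP (LK LD1_c2 LD2_c23 LD3_c26)) = (LP (LK LD1_c4 LD2_c51 LD3_c14)) :=
  Lre_c IH (LK LD1_c2 LD2_c23 LD3_c26) (LK LD1_c4 LD2_c51 LD3_c14) Lrfl Lrfl
theorem f354788 : Led Lsl_cf (LP (LK LD1_c8 LD2_c17 LD3_c5)) = (LP (LK LD1_c9 LD2_c34 LD3_c34)) :=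
  Lgr Lrot99 (Lpe (K21.f228966 IH) (Lpe (f216802 IH) (Lpr_gf (K25.f330276 IH) (Lpe (K13.f33239 IH) (Lpe (f354768 IH) (Lpe (K25.f171345 IH) (Lpr_gt (K25.f354782 IH) (Lpr_ct (f332909 IH) (Lpr_gt (f232913 IH) (Lpn (LP (LK LD1_c9 LD2_c34 LD3_c34))))))))))))
theorem f354837 : Led Lsl_ct (LP (LK LD1_c8 LD2_c17 LD3_c5)) = (LP (LK LD1_c9 LD2_c34 LD3_c34)) :=
  Lgr Lrot59 (Lpr_cf (f354788 IH) (Lpn (LP (LK LD1_c9 LD2_c34 LD3_c34))))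
theorem f340496 : Led Lsl_gt (LP (LK LD1_c10 LD2_c29 LD3_c16)) = (LP (LK LD1_c10 LD2_c20 LD3_c47)) :=
  Lgr Lrot112 (Lpr_df (K23.f320773 IH) (Lpr_et (K21.f320775 IH) (Lpr_gf (K24.f340487 IH) (Lpe (K20.f276771 IH) (Lpr_dt (K21.f321043 IH) (Lpr_gf (K20.f321004 IH) (Lpr_df (K17.f31141 IH) (Lpe (K19.f31150 IH) (Lpe (K19.f31153 IH) (Lpe (K19.f293374 IH) (Lpn (LP (LK LD1_c10 LD2_c20 LD3_c47)))))))))))))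
theorem f340498 : Led Lsl_gf (LP (LK LD1_c9 LD2_c34 LD3_c14)) = (LP (LK LD1_c8 LD2_c17 LD3_c5)) :=
  Lgr Lrot134 (Lpr_df (K14.f186903 IH) (Lpr_et (K20.f320831 IH) (Lpr_gt (f340496 IH) (Lpr_ef (K19.f293363 IH) (Lpr_dt (K19.f241916 IH) (Lpr_gt (K23.f329868 IH) (Lpr_df (K16.f192611 IH) (Lpe (K16.f273275 IH) (Lpe (K23.f330268 IH) (Lpr_dt (K21.f228966 IH) (Lpn (LP (LK LD1_c8 LD2_c17 LD3_c5)))))))))))))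
theorem f229730 : Led Lsl_ct (LP (LK LD1_c14 LD2_c57 LD3_c33)) = (LP (LK LD1_c7 LD2_c55 LD3_c49)) :=
  Lre_c IH (LK LD1_c14 LD2_c57 LD3_c33) (LK LD1_c7 LD2_c55 LD3_c49) Lrfl Lrfl
theorem f354930 : Led Lsl_dt (LP (LK LD1_c17 LD2_c38 LD3_c12)) = (LP (LK LD1_c14 LD2_c57 LD3_c33)) :=
  Lgr Lrot105 (Lpr_gf (f354928 IH) (Lpe (K26.f354891 IH) (Lpr_gf (f354902 IH) (Lpe (f354837 IH) (Lpe (f340498 IH) (Lpr_dt (K14.f186910 IH) (Lpr_gt (K21.f320833 IH) (Lpe (K20.f275869 IH) (Lpe (f229730 IH) (Lpn (LP (LK LD1_c14 LD2_c57 LD3_c33))))))))))))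
theorem f354932 : Led Lsl_df (LP (LK LD1_c17 LD2_c38 LD3_c12)) = (LP (LK LD1_c14 LD2_c57 LD3_c33)) :=
  Lgr Lrot38 (Lpr_dt (f354930 IH) (Lpn (LP (LK LD1_c14 LD2_c57 LD3_c33))))
theorem f233978 : Led Lsl_et (LP (LK LD1_c4 LD2_c51 LD3_c14)) = (LP (LK LD1_c2 LD2_c23 LD3_c25)) :=
  Lre_e IH (LK LD1_c4 LD2_c51 LD3_c14) (LK LD1_c2 LD2_c23 LD3_c25) Lrfl Lrfl
theorem f354935 : Led Lsl_ef (LP (LK LD1_c17 LD2_c36 LD3_c48)) = (LP (LK LD1_c14 LD2_c57 LD3_c33)) :=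
  Lgr Lrot17 (Lpe (K25.f192427 IH) (Lpe (K25.f233969 IH) (Lpr_dt (K13.f189243 IH) (Lpe (K15.f233937 IH) (Lpe (K15.f199321 IH) (Lpe (K14.f199320 IH) (Lpe (f233978 IH) (Lpr_dt (K26.f233979 IH) (Lpe (f233980 IH) (Lpr_df (f354932 IH) (Lpn (LP (LK LD1_c14 LD2_c57 LD3_c33)))))))))))))
theorem f354939 : Led Lsl_et (LP (LK LD1_c17 LD2_c36 LD3_c48)) = (LP (LK LD1_c14 LD2_c57 LD3_c33)) :=
  Lgr Lrot87 (Lpr_ef (f354935 IH) (Lpn (LP (LK LD1_c14 LD2_c57 LD3_c33))))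
theorem f354941 : Led Lsl_cf (LP (LK LD1_c17 LD2_c36 LD3_c48)) = (LP (LK LD1_c14 LD2_c56 LD3_c57)) :=
  Lgr Lrot39 (Lpr_et (f354939 IH) (Lpr_ct (f229730 IH) (Lpr_et (K20.f275871 IH) (Lpn (LP (LK LD1_c14 LD2_c56 LD3_c57))))))
theorem f365856 : Led Lsl_gf (LP (LK LD1_c9 LD2_c35 LD3_c19)) = (LP (LK LD1_c17 LD2_c36 LD3_c48)) :=
  Lgr Lrot172 (Lpr_ct (K23.f327995 IH) (Lpr_dt (f365837 IH) (Lpe (f238586 IH) (Lpr_gf (K22.f329577 IH) (Lpe (K19.f226870 IH) (Lpe (K17.f227205 IH) (Lpe (K17.f237111 IH) (Lpr_gt (K20.f186954 IH) (Lpe (f354941 IH) (Lpn (LP (LK LD1_c17 LD2_c36 LD3_c48))))))))))))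
theorem f365858 : Led Lsl_ff (LP (LK LD1_c15 LD2_c23 LD3_c15)) = (LP (LK LD1_c9 LD2_c33 LD3_c54)) :=
  Lgr Lrot52 (Lpr_at (K23.f327996 IH) (Lpr_gf (f365856 IH) (Lpe (K25.f192427 IH) (Lpn (LP (LK LD1_c9 LD2_c33 LD3_c54))))))
theorem f328005 : Led Lsl_ct (LP (LK LD1_c4 LD2_c51 LD3_c38)) = (LP (LK LD1_c9 LD2_c35 LD3_c19)) :=
  Lre_c IH (LK LD1_c4 LD2_c51 LD3_c38) (LK LD1_c9 LD2_c35 LD3_c19) Lrfl Lrfl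
theorem f365791 : Led Lsl_df (LP (LK LD1_c4 LD2_c51 LD3_c38)) = (LP (LK LD1_c2 LD2_c45 LD3_c33)) :=
  Lgr Lrot84 (Lpe (K23.f327995 IH) (Lpe (f328016 IH) (Lpr_gf (f365787 IH) (Lpe (K16.f229909 IH) (Lpe (K25.f357308 IH) (Lpe (K25.f346582 IH) (Lpr_gt (K23.f200572 IH) (Lpr_dt (K13.f196971 IH) (Lpr_gt (K22.f196972 IH) (Lpn (LP (LK LD1_c2 LD2_c45 LD3_c33))))))))))))
theorem f329579 : Led Lsl_dt (LP (LK LD1_c11 LD2_c9 LD3_c29)) = (LP (LK LD1_c5 LD2_c39 LD3_c13)) :=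
  Lre_d IH (LK LD1_c11 LD2_c9 LD3_c29) (LK LD1_c5 LD2_c39 LD3_c13) Lrfl Lrfl
theorem f329599 : Led Lsl_ct (LP (LK LD1_c20 LD2_c3 LD3_c51)) = (LP (LK LD1_c11 LD2_c9 LD3_c29)) :=
  Lre_c IH (LK LD1_c20 LD2_c3 LD3_c51) (LK LD1_c11 LD2_c9 LD3_c29) Lrfl Lrfl
theorem f216583 : Led Lsl_ct (LP (LK LD1_c17 LD2_c36 LD3_c49)) = (LP (LK LD1_c27 LD2_c25 LD3_c1)) :=
  Lre_c IH (LK LD1_c17 LD2_c36 LD3_c49) (LK LD1_c27 LD2_c25 LD3_c1) Lrfl Lrfl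
theorem f365931 : Led Lsl_df (LP (LK LD1_c20 LD2_c3 LD3_c51)) = (LP (LK LD1_c27 LD2_c25 LD3_c1)) :=
  Lgr Lrot106 (Lpr_ct (f329599 IH) (Lpr_dt (f329579 IH) (Lpr_ct (f238586 IH) (Lpe (f365791 IH) (Lpr_ct (f328005 IH) (Lpe (K23.f327996 IH) (Lpr_ff (f365858 IH) (Lpr_dt (K16.f216582 IH) (Lpr_ct (f216583 IH) (Lpn (LP (LK LD1_c27 LD2_c25 LD3_c1))))))))))))
theorem f365935 : Led Lsl_gt (LP (LK LD1_c20 LD2_c3 LD3_c42)) = (LP (LK LD1_c27 LD2_c25 LD3_c1)) :=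
  Lgr Lrot49 (Lpe (K25.f269464 IH) (Lpe (K25.f269453 IH) (Lpe (K25.f269454 IH) (Lpr_gt (K25.f226872 IH) (Lpr_dt (K16.f226871 IH) (Lpe (K22.f329577 IH) (Lpr_dt (f329581 IH) (Lpe (f329599 IH) (Lpr_df (f365931 IH) (Lpn (LP (LK LD1_c27 LD2_c25 LD3_c1))))))))))))
theorem f328030 : Led Lsl_ft (LP (LK LD1_c27 LD2_c27 LD3_c24)) = (LP (LK LD1_c17 LD2_c39 LD3_c27)) :=
  Lre_f IH (LK LD1_c27 LD2_c27 LD3_c24) (LK LD1_c17 LD2_c39 LD3_c27) Lrfl Lrfl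
theorem f365937 : Led Lsl_at (LP (LK LD1_c17 LD2_c39 LD3_c27)) = (LP (LK LD1_c27 LD2_c25 LD3_c1)) :=
  Lgr Lrot26 (Lpe (f328030 IH) (Lpr_gt (f365780 IH) (Lpr_gt (f365935 IH) (Lpn (LP (LK LD1_c27 LD2_c25 LD3_c1))))))
theorem f291153 : Led Lsl_ct (LP (LK LD1_c25 LD2_c15 LD3_c26)) = (LP (LK LD1_c15 LD2_c23 LD3_c13)) :=
  Lre_c IH (LK LD1_c25 LD2_c15 LD3_c26) (LK LD1_c15 LD2_c23 LD3_c13) Lrfl Lrfl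
theorem f224912 : Led Lsl_ct (LP (LK LD1_c9 LD2_c35 LD3_c18)) = (LP (LK LD1_c17 LD2_c39 LD3_c27)) :=
  Lre_c IH (LK LD1_c9 LD2_c35 LD3_c18) (LK LD1_c17 LD2_c39 LD3_c27) Lrfl Lrfl
theorem f328022 : Led Lsl_df (LP (LK LD1_c25 LD2_c15 LD3_c26)) = (LP (LK LD1_c17 LD2_c39 LD3_c27)) :=
  Lgr Lrot106 (Lpr_ct (f291153 IH) (Lpr_dt (K24.f291156 IH) (Lpr_ct (K23.f291157 IH) (Lpr_dt (K21.f193336 IH) (Lpr_ct (K23.f291041 IH) (Lpr_af (K23.f327998 IH) (Lpe (K23.f328019 IH) (Lpr_dt (K18.f200078 IH) (Lpr_ct (f224912 IH) (Lpn (LP (LK LD1_c17 LD2_c39 LD3_c27))))))))))))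
theorem f328028 : Led Lsl_dt (LP (LK LD1_c25 LD2_c15 LD3_c26)) = (LP (LK LD1_c17 LD2_c39 LD3_c27)) :=
  Lgr Lrot42 (Lpr_df (f328022 IH) (Lpn (LP (LK LD1_c17 LD2_c39 LD3_c27))))
theorem f365952 : Led Lsl_af (LP (LK LD1_c25 LD2_c15 LD3_c26)) = (LP (LK LD1_c20 LD2_c3 LD3_c51)) :=
  Lgr Lrot117 (Lpr_dt (f328028 IH) (Lpr_at (f365937 IH) (Lpe (f365931 IH) (Lpn (LP (LK LD1_c20 LD2_c3 LD3_c51))))))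
theorem f329598 : Led Lsl_ct (LP (LK LD1_c11 LD2_c9 LD3_c29)) = (LP (LK LD1_c20 LD2_c3 LD3_c51)) :=
  Lre_c IH (LK LD1_c11 LD2_c9 LD3_c29) (LK LD1_c20 LD2_c3 LD3_c51) Lrfl Lrfl
theorem f365957 : Led Lsl_at (LP (LK LD1_c15 LD2_c23 LD3_c13)) = (LP (LK LD1_c11 LD2_c9 LD3_c29)) :=
  Lgr Lrot107 (Lpe (f291153 IH) (Lpr_af (f365952 IH) (Lpe (f329598 IH) (Lpn (LP (LK LD1_c11 LD2_c9 LD3_c29))))))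
theorem f216446 : Led Lsl_dt (LP (LK LD1_c11 LD2_c9 LD3_c32)) = (LP (LK LD1_c5 LD2_c39 LD3_c16)) :=
  Lre_d IH (LK LD1_c11 LD2_c9 LD3_c32) (LK LD1_c5 LD2_c39 LD3_c16) Lrfl Lrfl
theorem f365967 : Led Lsl_ff (LP (LK LD1_c15 LD2_c23 LD3_c13)) = (LP (LK LD1_c11 LD2_c9 LD3_c32)) :=
  Lgr Lrot103 (Lpr_at (f365957 IH) (Lpe (f329599 IH) (Lpr_df (f365931 IH) (Lpe (f216583 IH) (Lpe (K16.f216582 IH) (Lpe (K19.f192397 IH) (Lpe (K14.f216442 IH) (Lpe (K18.f216449 IH) (Lpe (f216446 IH) (Lpn (LP (LK LD1_c11 LD2_c9 LD3_c32))))))))))))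
theorem f365973 : Led Lsl_ft (LP (LK LD1_c15 LD2_c23 LD3_c13)) = (LP (LK LD1_c11 LD2_c9 LD3_c32)) :=
  Lgr Lrot48 (Lpr_ff (f365967 IH) (Lpn (LP (LK LD1_c11 LD2_c9 LD3_c32))))
theorem f274610 : Led Lsl_ef (LP (LK LD1_c8 LD2_c6 LD3_c33)) = (LP (LK LD1_c8 LD2_c10 LD3_c16)) :=
  Lgr Lrot88 (Lpr_et (K19.f274603 IH) (Lpn (LP (LK LD1_c8 LD2_c10 LD3_c16))))
theorem f224892 : Led Lsl_dt (LP (LK LD1_c8 LD2_c10 LD3_c16)) = (LP (LK LD1_c15 LD2_c23 LD3_c17)) :=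
  Lre_d IH (LK LD1_c8 LD2_c10 LD3_c16) (LK LD1_c15 LD2_c23 LD3_c17) Lrfl Lrfl
theorem f313136 : Led Lsl_gf (LP (LK LD1_c15 LD2_c23 LD3_c17)) = (LP (LK LD1_c25 LD2_c13 LD3_c48)) :=
  Lgr Lrot145 (Lpe (f224892 IH) (Lpe (f274610 IH) (Lpr_gt (K19.f194527 IH) (Lpr_dt (K15.f259141 IH) (Lpr_gt (K15.f259142 IH) (Lpe (K10.f27591 IH) (Lpe (K18.f52558 IH) (Lpr_gt (K21.f313126 IH) (Lpe (K26.f313135 IH) (Lpr_dt (K26.f238545 IH) (Lpn (LP (LK LD1_c25 LD2_c13 LD3_c48)))))))))))))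
theorem f365983 : Led Lsl_af (LP (LK LD1_c15 LD2_c23 LD3_c17)) = (LP (LK LD1_c11 LD2_c9 LD3_c32)) :=
  Lgr Lrot31 (Lpr_gf (f313136 IH) (Lpe (K26.f346406 IH) (Lpr_ft (f365973 IH) (Lpn (LP (LK LD1_c11 LD2_c9 LD3_c32))))))
theorem f365959 : Led Lsl_af (LP (LK LD1_c15 LD2_c23 LD3_c13)) = (LP (LK LD1_c11 LD2_c9 LD3_c29)) :=
  Lgr Lrot0 (Lpr_at (f365957 IH) (Lpn (LP (LK LD1_c11 LD2_c9 LD3_c29))))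
theorem f365995 : Led Lsl_ft (LP (LK LD1_c15 LD2_c23 LD3_c17)) = (LP (LK LD1_c11 LD2_c9 LD3_c29)) :=
  Lgr Lrot101 (Lpr_af (f365983 IH) (Lpe (f365973 IH) (Lpr_af (f365959 IH) (Lpn (LP (LK LD1_c11 LD2_c9 LD3_c29))))))
theorem f366003 : Led Lsl_ff (LP (LK LD1_c15 LD2_c23 LD3_c17)) = (LP (LK LD1_c11 LD2_c9 LD3_c29)) :=
  Lgr Lrot3 (Lpr_ft (f365995 IH) (Lpn (LP (LK LD1_c11 LD2_c9 LD3_c29))))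
theorem f224902 : Led Lsl_dt (LP (LK LD1_c15 LD2_c23 LD3_c17)) = (LP (LK LD1_c8 LD2_c10 LD3_c16)) :=
  Lre_d IH (LK LD1_c15 LD2_c23 LD3_c17) (LK LD1_c8 LD2_c10 LD3_c16) Lrfl Lrfl
theorem f366009 : Led Lsl_ft (LP (LK LD1_c8 LD2_c10 LD3_c16)) = (LP (LK LD1_c5 LD2_c39 LD3_c13)) :=
  Lgr Lrot54 (Lpe (f224902 IH) (Lpr_ff (f366003 IH) (Lpe (f329581 IH) (Lpn (LP (LK LD1_c5 LD2_c39 LD3_c13))))))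
theorem f247245 : Led Lsl_bt (LP (LK LD1_c15 LD2_c23 LD3_c16)) = (LP (LK LD1_c8 LD2_c10 LD3_c16)) :=
  Lre_b IH (LK LD1_c15 LD2_c23 LD3_c16) (LK LD1_c8 LD2_c10 LD3_c16) Lrfl Lrfl
theorem f238587 : Led Lsl_bt (LP (LK LD1_c5 LD2_c39 LD3_c13)) = (LP (LK LD1_c11 LD2_c9 LD3_c28)) :=
  Lre_b IH (LK LD1_c5 LD2_c39 LD3_c13) (LK LD1_c11 LD2_c9 LD3_c28) Lrfl Lrfl
theorem f366013 : Led Lsl_ff (LP (LK LD1_c15 LD2_c23 LD3_c16)) = (LP (LK LD1_c11 LD2_c9 LD3_c28)) :=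
  Lgr Lrot25 (Lpr_bt (f247245 IH) (Lpr_ft (f366009 IH) (Lpr_bt (f238587 IH) (Lpn (LP (LK LD1_c11 LD2_c9 LD3_c28))))))
theorem f366020 : Led Lsl_ft (LP (LK LD1_c15 LD2_c23 LD3_c16)) = (LP (LK LD1_c11 LD2_c9 LD3_c28)) :=
  Lgr Lrot48 (Lpr_ff (f366013 IH) (Lpn (LP (LK LD1_c11 LD2_c9 LD3_c28))))
theorem f326498 : Led Lsl_bt (LP (LK LD1_c8 LD2_c56 LD3_c40)) = (LP (LK LD1_c16 LD2_c44 LD3_c41)) :=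
  Lre_b IH (LK LD1_c8 LD2_c56 LD3_c40) (LK LD1_c16 LD2_c44 LD3_c41) Lrfl Lrfl
theorem f326499 : Led Lsl_ct (LP (LK LD1_c16 LD2_c44 LD3_c41)) = (LP (LK LD1_c15 LD2_c23 LD3_c16)) :=
  Lgr Lrot83 (Lpe (f326498 IH) (Lpr_cf (K26.f326496 IH) (Lpe (K23.f224888 IH) (Lpe (K19.f224904 IH) (Lpe (f247245 IH) (Lpn (LP (LK LD1_c15 LD2_c23 LD3_c16))))))))
theorem f329588 : Led Lsl_ct (LP (LK LD1_c11 LD2_c9 LD3_c28)) = (LP (LK LD1_c20 LD2_c3 LD3_c44)) :=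
  Lre_c IH (LK LD1_c11 LD2_c9 LD3_c28) (LK LD1_c20 LD2_c3 LD3_c44) Lrfl Lrfl
theorem f366027 : Led Lsl_ff (LP (LK LD1_c16 LD2_c44 LD3_c41)) = (LP (LK LD1_c20 LD2_c3 LD3_c44)) :=
  Lgr Lrot23 (Lpr_ct (f326499 IH) (Lpr_ft (f366020 IH) (Lpr_ct (f329588 IH) (Lpn (LP (LK LD1_c20 LD2_c3 LD3_c44))))))
theorem f326505 : Led Lsl_bt (LP (LK LD1_c16 LD2_c44 LD3_c41)) = (LP (LK LD1_c8 LD2_c56 LD3_c40)) :=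
  Lre_b IH (LK LD1_c16 LD2_c44 LD3_c41) (LK LD1_c8 LD2_c56 LD3_c40) Lrfl Lrfl
theorem f331039 : Led Lsl_bt (LP (LK LD1_c11 LD2_c9 LD3_c26)) = (LP (LK LD1_c20 LD2_c3 LD3_c44)) :=
  Lre_b IH (LK LD1_c11 LD2_c9 LD3_c26) (LK LD1_c20 LD2_c3 LD3_c44) Lrfl Lrfl
theorem f366029 : Led Lsl_ft (LP (LK LD1_c8 LD2_c56 LD3_c40)) = (LP (LK LD1_c11 LD2_c9 LD3_c26)) :=
  Lgr Lrot75 (Lpe (f326505 IH) (Lpr_ff (f366027 IH) (Lpe (f331039 IH) (Lpn (LP (LK LD1_c11 LD2_c9 LD3_c26))))))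
theorem f167702 : Led Lsl_gt (LP (LK LD1_c4 LD2_c29 LD3_c11)) = (LP (LK LD1_c8 LD2_c56 LD3_c39)) :=
  Lre_g IH (LK LD1_c4 LD2_c29 LD3_c11) (LK LD1_c8 LD2_c56 LD3_c39) Lrfl Lrfl
theorem f366035 : Led Lsl_af (LP (LK LD1_c8 LD2_c56 LD3_c39)) = (LP (LK LD1_c11 LD2_c9 LD3_c26)) :=
  Lgr Lrot31 (Lpe (f167702 IH) (Lpe (K26.f167745 IH) (Lpr_ft (f366029 IH) (Lpn (LP (LK LD1_c11 LD2_c9 LD3_c26))))))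
theorem f263770 : Led Lsl_et (LP (LK LD1_c2 LD2_c25 LD3_c30)) = (LP (LK LD1_c4 LD2_c55 LD3_c13)) :=
  Lre_e IH (LK LD1_c2 LD2_c25 LD3_c30) (LK LD1_c4 LD2_c55 LD3_c13) Lrfl Lrfl
theorem f263771 : Led Lsl_gt (LP (LK LD1_c9 LD2_c41 LD3_c60)) = (LP (LK LD1_c4 LD2_c55 LD3_c13)) :=
  Lre_g IH (LK LD1_c9 LD2_c41 LD3_c60) (LK LD1_c4 LD2_c55 LD3_c13) Lrfl Lrfl
theorem f291308 : Led Lsl_et (LP (LK LD1_c10 LD2_c0 LD3_c43)) = (LP (LK LD1_c9 LD2_c41 LD3_c60)) :=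
  Lgr Lrot185 (Lpr_dt (K17.f291302 IH) (Lpe (K17.f191276 IH) (Lpe (K26.f191275 IH) (Lpr_gf (K11.f191273 IH) (Lpe (K12.f30868 IH) (Lpr_dt (K12.f30890 IH) (Lpr_gf (K15.f263728 IH) (Lpe (K16.f218573 IH) (Lpr_et (f263770 IH) (Lpe (f263771 IH) (Lpn (LP (LK LD1_c9 LD2_c41 LD3_c60)))))))))))))
theorem f291317 : Led Lsl_ef (LP (LK LD1_c10 LD2_c0 LD3_c43)) = (LP (LK LD1_c9 LD2_c41 LD3_c60)) :=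
  Lgr Lrot88 (Lpr_et (f291308 IH) (Lpn (LP (LK LD1_c9 LD2_c41 LD3_c60))))
theorem f291323 : Led Lsl_ct (LP (LK LD1_c5 LD2_c30 LD3_c12)) = (LP (LK LD1_c9 LD2_c41 LD3_c60)) :=
  Lgr Lrot15 (Lpe (K23.f261358 IH) (Lpe (K15.f259581 IH) (Lpr_ef (f291317 IH) (Lpn (LP (LK LD1_c9 LD2_c41 LD3_c60))))))
theorem f219094 : Led Lsl_gt (LP (LK LD1_c4 LD2_c55 LD3_c7)) = (LP (LK LD1_c9 LD2_c41 LD3_c47)) :=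
  Lre_g IH (LK LD1_c4 LD2_c55 LD3_c7) (LK LD1_c9 LD2_c41 LD3_c47) Lrfl Lrfl
theorem f339599 : Led Lsl_bt (LP (LK LD1_c10 LD2_c38 LD3_c8)) = (LP (LK LD1_c9 LD2_c41 LD3_c47)) :=
  Lgr Lrot92 (Lpr_ct (K26.f255612 IH) (Lpr_gt (K26.f303030 IH) (Lpe (K19.f169196 IH) (Lpe (K15.f169184 IH) (Lpr_gt (K25.f339595 IH) (Lpr_ct (f291323 IH) (Lpr_gt (f263771 IH) (Lpe (K23.f291332 IH) (Lpr_bt (K23.f291333 IH) (Lpr_gt (f219094 IH) (Lpn (LP (LK LD1_c9 LD2_c41 LD3_c47)))))))))))))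
theorem f339601 : Led Lsl_bf (LP (LK LD1_c10 LD2_c38 LD3_c8)) = (LP (LK LD1_c9 LD2_c41 LD3_c47)) :=
  Lgr Lrot24 (Lpr_bt (f339599 IH) (Lpn (LP (LK LD1_c9 LD2_c41 LD3_c47))))
theorem f345639 : Led Lsl_ct (LP (LK LD1_c9 LD2_c41 LD3_c47)) = (LP (LK LD1_c8 LD2_c56 LD3_c39)) :=
  Lgr Lrot10 (Lpe (f339601 IH) (Lpr_gt (K26.f345631 IH) (Lpr_ct (K23.f344243 IH) (Lpr_gt (K23.f167693 IH) (Lpe (K18.f167692 IH) (Lpr_bt (K18.f167689 IH) (Lpe (K19.f167662 IH) (Lpe (K12.f167700 IH) (Lpr_ct (K26.f167701 IH) (Lpr_gt (f167702 IH) (Lpn (LP (LK LD1_c8 LD2_c56 LD3_c39)))))))))))))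
theorem f345653 : Led Lsl_cf (LP (LK LD1_c9 LD2_c41 LD3_c47)) = (LP (LK LD1_c8 LD2_c56 LD3_c39)) :=
  Lgr Lrot11 (Lpr_ct (f345639 IH) (Lpn (LP (LK LD1_c8 LD2_c56 LD3_c39))))
theorem f366039 : Led Lsl_at (LP (LK LD1_c9 LD2_c41 LD3_c47)) = (LP (LK LD1_c5 LD2_c39 LD3_c12)) :=
  Lgr Lrot107 (Lpr_cf (f345653 IH) (Lpr_af (f366035 IH) (Lpe (K26.f245972 IH) (Lpn (LP (LK LD1_c5 LD2_c39 LD3_c12))))))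
theorem f366045 : Led Lsl_ff (LP (LK LD1_c9 LD2_c41 LD3_c47)) = (LP (LK LD1_c8 LD2_c26 LD3_c47)) :=
  Lgr Lrot52 (Lpr_at (f366039 IH) (Lpr_gf (K22.f331036 IH) (Lpe (K21.f250535 IH) (Lpn (LP (LK LD1_c8 LD2_c26 LD3_c47))))))
theorem f366053 : Led Lsl_ft (LP (LK LD1_c9 LD2_c41 LD3_c47)) = (LP (LK LD1_c8 LD2_c26 LD3_c47)) :=
  Lgr Lrot48 (Lpr_ff (f366045 IH) (Lpn (LP (LK LD1_c8 LD2_c26 LD3_c47))))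
theorem f316550 : Led Lsl_bf (LP (LK LD1_c2 LD2_c38 LD3_c28)) = (LP (LK LD1_c4 LD2_c28 LD3_c2)) :=
  Lgr Lrot96 (Lpe (K16.f256507 IH) (Lpr_bt (K17.f290042 IH) (Lpr_et (K20.f316548 IH) (Lpn (LP (LK LD1_c4 LD2_c28 LD3_c2))))))
theorem f260984 : Led Lsl_bt (LP (LK LD1_c15 LD2_c51 LD3_c27)) = (LP (LK LD1_c8 LD2_c26 LD3_c48)) :=
  Lre_b IH (LK LD1_c15 LD2_c51 LD3_c27) (LK LD1_c8 LD2_c26 LD3_c48) Lrfl Lrfl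
theorem f339608 : Led Lsl_gf (LP (LK LD1_c8 LD2_c26 LD3_c48)) = (LP (LK LD1_c9 LD2_c41 LD3_c47)) :=
  Lgr Lrot124 (Lpe (f260984 IH) (Lpr_ct (K22.f336968 IH) (Lpe (K22.f336963 IH) (Lpe (K20.f247398 IH) (Lpe (f316550 IH) (Lpr_gt (K16.f247050 IH) (Lpr_ct (K18.f255611 IH) (Lpr_gt (K24.f217756 IH) (Lpe (K26.f255612 IH) (Lpr_bt (f339599 IH) (Lpn (LP (LK LD1_c9 LD2_c41 LD3_c47)))))))))))))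
theorem f366057 : Led Lsl_af (LP (LK LD1_c8 LD2_c10 LD3_c15)) = (LP (LK LD1_c8 LD2_c26 LD3_c47)) :=
  Lgr Lrot31 (Lpr_gf (K25.f353179 IH) (Lpr_gf (f339608 IH) (Lpr_ft (f366053 IH) (Lpn (LP (LK LD1_c8 LD2_c26 LD3_c47))))))
theorem f250538 : Led Lsl_bf (LP (LK LD1_c9 LD2_c41 LD3_c51)) = (LP (LK LD1_c8 LD2_c26 LD3_c47)) :=
  Lgr Lrot93 (Lpe (K20.f246777 IH) (Lpr_bt (K20.f246780 IH) (Lpr_dt (K21.f250536 IH) (Lpn (LP (LK LD1_c8 LD2_c26 LD3_c47))))))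
theorem f263668 : Led Lsl_bt (LP (LK LD1_c1 LD2_c59 LD3_c49)) = (LP (LK LD1_c4 LD2_c5 LD3_c14)) :=
  Lre_b IH (LK LD1_c1 LD2_c59 LD3_c49) (LK LD1_c4 LD2_c5 LD3_c14) Lrfl Lrfl
theorem f292009 : Led Lsl_bt (LP (LK LD1_c8 LD2_c13 LD3_c10)) = (LP (LK LD1_c8 LD2_c11 LD3_c16)) :=
  Lgr Lrot92 (Lpr_ct (K16.f215875 IH) (Lpr_gt (K16.f215816 IH) (Lpe (K12.f8399 IH) (Lpr_bt (K18.f215903 IH) (Lpr_gt (K18.f291676 IH) (Lpe (K21.f291726 IH) (Lpr_gt (K21.f291845 IH) (Lpe (K20.f188089 IH) (Lpr_bt (f263668 IH) (Lpr_gt (K16.f216140 IH) (Lpn (LP (LK LD1_c8 LD2_c11 LD3_c16)))))))))))))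
theorem f322664 : Led Lsl_ef (LP (LK LD1_c8 LD2_c26 LD3_c47)) = (LP (LK LD1_c8 LD2_c11 LD3_c16)) :=
  Lgr Lrot29 (Lpe (f250538 IH) (Lpr_et (K20.f322653 IH) (Lpr_bt (f292009 IH) (Lpn (LP (LK LD1_c8 LD2_c11 LD3_c16))))))
theorem f366061 : Led Lsl_at (LP (LK LD1_c5 LD2_c15 LD3_c17)) = (LP (LK LD1_c8 LD2_c11 LD3_c16)) :=
  Lgr Lrot80 (Lpe (K23.f286169 IH) (Lpr_af (f366057 IH) (Lpr_ef (f322664 IH) (Lpn (LP (LK LD1_c8 LD2_c11 LD3_c16))))))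
theorem f366071 : Led Lsl_ff (LP (LK LD1_c5 LD2_c15 LD3_c17)) = (LP (LK LD1_c5 LD2_c36 LD3_c5)) :=
  Lgr Lrot52 (Lpr_at (f366061 IH) (Lpe (K16.f216140 IH) (Lpe (K15.f263656 IH) (Lpn (LP (LK LD1_c5 LD2_c36 LD3_c5))))))
theorem f366081 : Led Lsl_ft (LP (LK LD1_c5 LD2_c15 LD3_c17)) = (LP (LK LD1_c5 LD2_c36 LD3_c5)) :=
  Lgr Lrot48 (Lpr_ff (f366071 IH) (Lpn (LP (LK LD1_c5 LD2_c36 LD3_c5))))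
theorem f366091 : Led Lsl_af (LP (LK LD1_c5 LD2_c15 LD3_c16)) = (LP (LK LD1_c5 LD2_c36 LD3_c5)) :=
  Lgr Lrot31 (Lpe (K15.f189722 IH) (Lpe (K15.f186861 IH) (Lpr_ft (f366081 IH) (Lpn (LP (LK LD1_c5 LD2_c36 LD3_c5))))))
theorem f366065 : Led Lsl_af (LP (LK LD1_c5 LD2_c15 LD3_c17)) = (LP (LK LD1_c8 LD2_c11 LD3_c16)) :=
  Lgr Lrot0 (Lpr_at (f366061 IH) (Lpn (LP (LK LD1_c8 LD2_c11 LD3_c16))))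
theorem f366101 : Led Lsl_ft (LP (LK LD1_c5 LD2_c15 LD3_c16)) = (LP (LK LD1_c8 LD2_c11 LD3_c16)) :=
  Lgr Lrot101 (Lpr_af (f366091 IH) (Lpe (f366081 IH) (Lpr_af (f366065 IH) (Lpn (LP (LK LD1_c8 LD2_c11 LD3_c16))))))
theorem f366109 : Led Lsl_ff (LP (LK LD1_c5 LD2_c15 LD3_c16)) = (LP (LK LD1_c8 LD2_c11 LD3_c16)) :=
  Lgr Lrot3 (Lpr_ft (f366101 IH) (Lpn (LP (LK LD1_c8 LD2_c11 LD3_c16))))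
theorem f189766 : Led Lsl_ft (LP (LK LD1_c4 LD2_c7 LD3_c54)) = (LP (LK LD1_c8 LD2_c15 LD3_c50)) :=
  Lre_f IH (LK LD1_c4 LD2_c7 LD3_c54) (LK LD1_c8 LD2_c15 LD3_c50) Lrfl Lrfl
theorem f366115 : Led Lsl_dt (LP (LK LD1_c8 LD2_c15 LD3_c50)) = (LP (LK LD1_c8 LD2_c11 LD3_c16)) :=
  Lgr Lrot60 (Lpe (f189766 IH) (Lpr_df (K17.f189758 IH) (Lpr_ff (f366109 IH) (Lpn (LP (LK LD1_c8 LD2_c11 LD3_c16))))))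
theorem f317657 : Led Lsl_df (LP (LK LD1_c4 LD2_c51 LD3_c0)) = (LP (LK LD1_c4 LD2_c9 LD3_c6)) :=
  Lgr Lrot78 (Lpr_ft (K20.f317651 IH) (Lpr_dt (K14.f190834 IH) (Lpr_ft (K16.f259275 IH) (Lpn (LP (LK LD1_c4 LD2_c9 LD3_c6))))))
theorem f366129 : Led Lsl_et (LP (LK LD1_c8 LD2_c15 LD3_c50)) = (LP (LK LD1_c5 LD2_c29 LD3_c44)) :=
  Lgr Lrot121 (Lpr_dt (f366115 IH) (Lpe (K16.f216140 IH) (Lpe (K15.f192462 IH) (Lpe (K14.f252575 IH) (Lpe (K17.f266481 IH) (Lpe (K19.f187218 IH) (Lpr_dt (K10.f191718 IH) (Lpe (K18.f171174 IH) (Lpr_df (f317657 IH) (Lpr_gf (K26.f317678 IH) (Lpn (LP (LK LD1_c5 LD2_c29 LD3_c44)))))))))))))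
theorem f266884 : Led Lsl_bf (LP (LK LD1_c5 LD2_c29 LD3_c44)) = (LP (LK LD1_c4 LD2_c19 LD3_c42)) :=
  Lgr Lrot93 (Lpe (K15.f250623 IH) (Lpr_bt (K12.f53418 IH) (Lpr_dt (K15.f266879 IH) (Lpn (LP (LK LD1_c4 LD2_c19 LD3_c42))))))
theorem f359485 : Led Lsl_ft (LP (LK LD1_c5 LD2_c29 LD3_c44)) = (LP (LK LD1_c4 LD2_c7 LD3_c31)) :=
  Lgr Lrot75 (Lpr_bf (f266884 IH) (Lpr_ff (K26.f359483 IH) (Lpe (K18.f191056 IH) (Lpn (LP (LK LD1_c4 LD2_c7 LD3_c31))))))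
theorem f366135 : Led Lsl_ff (LP (LK LD1_c2 LD2_c1 LD3_c18)) = (LP (LK LD1_c2 LD2_c1 LD3_c6)) :=
  Lgr Lrot72 (Lpr_et (K15.f189760 IH) (Lpr_ft (f189766 IH) (Lpr_et (f366129 IH) (Lpr_ft (f359485 IH) (Lpr_et (K16.f45067 IH) (Lpn (LP (LK LD1_c2 LD2_c1 LD3_c6))))))))
theorem f366143 : Led Lsl_at (LP (LK LD1_c2 LD2_c1 LD3_c18)) = (LP (LK LD1_c2 LD2_c1 LD3_c7)) :=
  Lgr Lrot26 (Lpr_ff (f366135 IH) (Lpr_gt (K10.f53583 IH) (Lpe (K10.f53595 IH) (Lpn (LP (LK LD1_c2 LD2_c1 LD3_c7))))))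
theorem f366151 : Led Lsl_af (LP (LK LD1_c4 LD2_c7 LD3_c54)) = (LP (LK LD1_c2 LD2_c43 LD3_c54)) :=
  Lgr Lrot50 (Lpr_et (K15.f51345 IH) (Lpr_at (f366143 IH) (Lpe (K21.f274820 IH) (Lpn (LP (LK LD1_c2 LD2_c43 LD3_c54))))))
theorem f366153 : Led Lsl_at (LP (LK LD1_c4 LD2_c6 LD3_c27)) = (LP (LK LD1_c2 LD2_c35 LD3_c26)) :=
  Lgr Lrot107 (Lpe (K15.f192524 IH) (Lpr_af (f366151 IH) (Lpr_cf (K16.f274818 IH) (Lpn (LP (LK LD1_c2 LD2_c35 LD3_c26))))))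
theorem f366161 : Led Lsl_ff (LP (LK LD1_c4 LD2_c6 LD3_c27)) = (LP (LK LD1_c4 LD2_c18 LD3_c57)) :=
  Lgr Lrot52 (Lpr_at (f366153 IH) (Lpr_gf (K21.f274833 IH) (Lpr_gf (K15.f259629 IH) (Lpn (LP (LK LD1_c4 LD2_c18 LD3_c57))))))
theorem f366163 : Led Lsl_dt (LP (LK LD1_c10 LD2_c44 LD3_c1)) = (LP (LK LD1_c6 LD2_c5 LD3_c47)) :=
  Lgr Lrot140 (Lpr_cf (K18.f252313 IH) (Lpe (K18.f263262 IH) (Lpe (K15.f212232 IH) (Lpr_df (K15.f257592 IH) (Lpe (f366161 IH) (Lpr_at (f366153 IH) (Lpr_cf (K21.f274831 IH) (Lpe (K16.f263665 IH) (Lpr_cf (K15.f263663 IH) (Lpn (LP (LK LD1_c6 LD2_c5 LD3_c47))))))))))))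
theorem f366093 : Led Lsl_at (LP (LK LD1_c5 LD2_c15 LD3_c16)) = (LP (LK LD1_c5 LD2_c36 LD3_c5)) :=
  Lgr Lrot100 (Lpr_af (f366091 IH) (Lpn (LP (LK LD1_c5 LD2_c36 LD3_c5))))
theorem f259691 : Led Lsl_at (LP (LK LD1_c8 LD2_c15 LD3_c50)) = (LP (LK LD1_c4 LD2_c8 LD3_c36)) :=
  Lgr Lrot26 (Lpe (f189766 IH) (Lpr_gt (K15.f189767 IH) (Lpr_gt (K15.f259689 IH) (Lpn (LP (LK LD1_c4 LD2_c8 LD3_c36))))))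
theorem f366069 : Led Lsl_df (LP (LK LD1_c8 LD2_c15 LD3_c50)) = (LP (LK LD1_c8 LD2_c11 LD3_c16)) :=
  Lgr Lrot18 (Lpr_at (f259691 IH) (Lpr_dt (K21.f260388 IH) (Lpr_at (f366061 IH) (Lpn (LP (LK LD1_c8 LD2_c11 LD3_c16))))))
theorem f366169 : Led Lsl_cf (LP (LK LD1_c4 LD2_c18 LD3_c57)) = (LP (LK LD1_c8 LD2_c15 LD3_c50)) :=
  Lgr Lrot118 (Lpe (K15.f257592 IH) (Lpr_ct (K15.f212232 IH) (Lpr_dt (K18.f263262 IH) (Lpe (K18.f252313 IH) (Lpr_dt (f366163 IH) (Lpe (K15.f263663 IH) (Lpe (f366093 IH) (Lpr_ff (f366109 IH) (Lpe (f366069 IH) (Lpn (LP (LK LD1_c8 LD2_c15 LD3_c50))))))))))))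
theorem f48406 : Led Lsl_gt (LP (LK LD1_c5 LD2_c15 LD3_c61)) = (LP (LK LD1_c10 LD2_c21 LD3_c27)) :=
  Lre_g IH (LK LD1_c5 LD2_c15 LD3_c61) (LK LD1_c10 LD2_c21 LD3_c27) Lrfl Lrfl
theorem f261848 : Led Lsl_at (LP (LK LD1_c18 LD2_c41 LD3_c53)) = (LP (LK LD1_c10 LD2_c17 LD3_c3)) :=
  Lre_a IH (LK LD1_c18 LD2_c41 LD3_c53) (LK LD1_c10 LD2_c17 LD3_c3) Lrfl Lrfl
theorem f212148 : Led Lsl_bt (LP (LK LD1_c5 LD2_c32 LD3_c6)) = (LP (LK LD1_c2 LD2_c42 LD3_c16)) :=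
  Lre_b IH (LK LD1_c5 LD2_c32 LD3_c6) (LK LD1_c2 LD2_c42 LD3_c16) Lrfl Lrfl
theorem f275987 : Led Lsl_bt (LP (LK LD1_c5 LD2_c3 LD3_c10)) = (LP (LK LD1_c9 LD2_c57 LD3_c17)) :=
  Lre_b IH (LK LD1_c5 LD2_c3 LD3_c10) (LK LD1_c9 LD2_c57 LD3_c17) Lrfl Lrfl
theorem f276011 : Led Lsl_ff (LP (LK LD1_c5 LD2_c32 LD3_c6)) = (LP (LK LD1_c9 LD2_c57 LD3_c17)) :=
  Lgr Lrot25 (Lpr_bt (f212148 IH) (Lpr_ft (K16.f276007 IH) (Lpr_bt (f275987 IH) (Lpn (LP (LK LD1_c9 LD2_c57 LD3_c17))))))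
theorem f212160 : Led Lsl_ct (LP (LK LD1_c5 LD2_c32 LD3_c6)) = (LP (LK LD1_c10 LD2_c54 LD3_c28)) :=
  Lre_c IH (LK LD1_c5 LD2_c32 LD3_c6) (LK LD1_c10 LD2_c54 LD3_c28) Lrfl Lrfl
theorem f276021 : Led Lsl_ct (LP (LK LD1_c18 LD2_c13 LD3_c2)) = (LP (LK LD1_c9 LD2_c57 LD3_c17)) :=
  Lre_c IH (LK LD1_c18 LD2_c13 LD3_c2) (LK LD1_c9 LD2_c57 LD3_c17) Lrfl Lrfl
theorem f276022 : Led Lsl_ft (LP (LK LD1_c10 LD2_c54 LD3_c28)) = (LP (LK LD1_c18 LD2_c13 LD3_c2)) :=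
  Lgr Lrot4 (Lpe (f212160 IH) (Lpr_ff (f276011 IH) (Lpe (f276021 IH) (Lpn (LP (LK LD1_c18 LD2_c13 LD3_c2))))))
theorem f212194 : Led Lsl_bt (LP (LK LD1_c5 LD2_c31 LD3_c26)) = (LP (LK LD1_c10 LD2_c54 LD3_c28)) :=
  Lre_b IH (LK LD1_c5 LD2_c31 LD3_c26) (LK LD1_c10 LD2_c54 LD3_c28) Lrfl Lrfl
theorem f275988 : Led Lsl_ct (LP (LK LD1_c9 LD2_c57 LD3_c17)) = (LP (LK LD1_c18 LD2_c13 LD3_c2)) :=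
  Lre_c IH (LK LD1_c9 LD2_c57 LD3_c17) (LK LD1_c18 LD2_c13 LD3_c2) Lrfl Lrfl
theorem f275989 : Led Lsl_bf (LP (LK LD1_c10 LD2_c17 LD3_c3)) = (LP (LK LD1_c18 LD2_c13 LD3_c2)) :=
  Lgr Lrot90 (Lpr_ct (K26.f261833 IH) (Lpr_bt (K23.f261818 IH) (Lpr_ct (K16.f275983 IH) (Lpr_bt (f275987 IH) (Lpr_ct (f275988 IH) (Lpn (LP (LK LD1_c18 LD2_c13 LD3_c2))))))))
theorem f276026 : Led Lsl_ff (LP (LK LD1_c5 LD2_c31 LD3_c26)) = (LP (LK LD1_c10 LD2_c17 LD3_c3)) :=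
  Lgr Lrot25 (Lpr_bt (f212194 IH) (Lpr_ft (f276022 IH) (Lpe (f275989 IH) (Lpn (LP (LK LD1_c10 LD2_c17 LD3_c3))))))
theorem f262990 : Led Lsl_ct (LP (LK LD1_c5 LD2_c17 LD3_c45)) = (LP (LK LD1_c10 LD2_c25 LD3_c8)) :=
  Lre_c IH (LK LD1_c5 LD2_c17 LD3_c45) (LK LD1_c10 LD2_c25 LD3_c8) Lrfl Lrfl
theorem f263077 : Led Lsl_et (LP (LK LD1_c10 LD2_c25 LD3_c8)) = (LP (LK LD1_c10 LD2_c2 LD3_c20)) :=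
  Lgr Lrot158 (Lpe (f262990 IH) (Lpr_ef (K17.f263075 IH) (Lpe (K15.f263065 IH) (Lpn (LP (LK LD1_c10 LD2_c2 LD3_c20))))))
theorem f212192 : Led Lsl_at (LP (LK LD1_c10 LD2_c2 LD3_c20)) = (LP (LK LD1_c5 LD2_c5 LD3_c38)) :=
  Lre_a IH (LK LD1_c10 LD2_c2 LD3_c20) (LK LD1_c5 LD2_c5 LD3_c38) Lrfl Lrfl
theorem f180546 : Led Lsl_bt (LP (LK LD1_c2 LD2_c30 LD3_c3)) = (LP (LK LD1_c5 LD2_c5 LD3_c39)) :=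
  Lre_b IH (LK LD1_c2 LD2_c30 LD3_c3) (LK LD1_c5 LD2_c5 LD3_c39) Lrfl Lrfl
theorem f212149 : Led Lsl_et (LP (LK LD1_c5 LD2_c5 LD3_c39)) = (LP (LK LD1_c5 LD2_c32 LD3_c6)) :=
  Lgr Lrot74 (Lpe (f180546 IH) (Lpr_ef (K16.f212146 IH) (Lpe (f212148 IH) (Lpn (LP (LK LD1_c5 LD2_c32 LD3_c6))))))
theorem f212165 : Led Lsl_ef (LP (LK LD1_c5 LD2_c5 LD3_c39)) = (LP (LK LD1_c5 LD2_c32 LD3_c6)) :=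
  Lgr Lrot88 (Lpr_et (f212149 IH) (Lpn (LP (LK LD1_c5 LD2_c32 LD3_c6))))
theorem f180574 : Led Lsl_ct (LP (LK LD1_c5 LD2_c5 LD3_c39)) = (LP (LK LD1_c10 LD2_c2 LD3_c21)) :=
  Lre_c IH (LK LD1_c5 LD2_c5 LD3_c39) (LK LD1_c10 LD2_c2 LD3_c21) Lrfl Lrfl
theorem f212172 : Led Lsl_ct (LP (LK LD1_c10 LD2_c54 LD3_c28)) = (LP (LK LD1_c5 LD2_c32 LD3_c6)) :=
  Lre_c IH (LK LD1_c10 LD2_c54 LD3_c28) (LK LD1_c5 LD2_c32 LD3_c6) Lrfl Lrfl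
theorem f212173 : Led Lsl_et (LP (LK LD1_c10 LD2_c2 LD3_c21)) = (LP (LK LD1_c10 LD2_c54 LD3_c28)) :=
  Lgr Lrot158 (Lpe (f180574 IH) (Lpr_ef (f212165 IH) (Lpe (f212172 IH) (Lpn (LP (LK LD1_c10 LD2_c54 LD3_c28))))))
theorem f212181 : Led Lsl_bt (LP (LK LD1_c5 LD2_c5 LD3_c38)) = (LP (LK LD1_c10 LD2_c2 LD3_c21)) :=
  Lre_b IH (LK LD1_c5 LD2_c5 LD3_c38) (LK LD1_c10 LD2_c2 LD3_c21) Lrfl Lrfl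
theorem f212182 : Led Lsl_bt (LP (LK LD1_c10 LD2_c54 LD3_c28)) = (LP (LK LD1_c5 LD2_c31 LD3_c26)) :=
  Lre_b IH (LK LD1_c10 LD2_c54 LD3_c28) (LK LD1_c5 LD2_c31 LD3_c26) Lrfl Lrfl
theorem f212183 : Led Lsl_ef (LP (LK LD1_c5 LD2_c5 LD3_c38)) = (LP (LK LD1_c5 LD2_c31 LD3_c26)) :=
  Lgr Lrot29 (Lpr_bt (f212181 IH) (Lpr_et (f212173 IH) (Lpr_bt (f212182 IH) (Lpn (LP (LK LD1_c5 LD2_c31 LD3_c26))))))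
theorem f212189 : Led Lsl_et (LP (LK LD1_c5 LD2_c5 LD3_c38)) = (LP (LK LD1_c5 LD2_c31 LD3_c26)) :=
  Lgr Lrot87 (Lpr_ef (f212183 IH) (Lpn (LP (LK LD1_c5 LD2_c31 LD3_c26))))
theorem f263095 : Led Lsl_af (LP (LK LD1_c10 LD2_c25 LD3_c8)) = (LP (LK LD1_c5 LD2_c31 LD3_c26)) :=
  Lgr Lrot50 (Lpr_et (f263077 IH) (Lpr_at (f212192 IH) (Lpr_et (f212189 IH) (Lpn (LP (LK LD1_c5 LD2_c31 LD3_c26))))))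
theorem f276038 : Led Lsl_ft (LP (LK LD1_c10 LD2_c25 LD3_c8)) = (LP (LK LD1_c18 LD2_c41 LD3_c53)) :=
  Lgr Lrot101 (Lpr_af (f263095 IH) (Lpr_ff (f276026 IH) (Lpe (f261848 IH) (Lpn (LP (LK LD1_c18 LD2_c41 LD3_c53))))))
theorem f304370 : Led Lsl_gt (LP (LK LD1_c10 LD2_c25 LD3_c8)) = (LP (LK LD1_c15 LD2_c30 LD3_c54)) :=
  Lgr Lrot5 (Lpr_ft (f276038 IH) (Lpr_at (f261848 IH) (Lpr_gf (K26.f304342 IH) (Lpn (LP (LK LD1_c15 LD2_c30 LD3_c54))))))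
theorem f263100 : Led Lsl_ef (LP (LK LD1_c10 LD2_c25 LD3_c8)) = (LP (LK LD1_c10 LD2_c2 LD3_c20)) :=
  Lgr Lrot88 (Lpr_et (f263077 IH) (Lpn (LP (LK LD1_c10 LD2_c2 LD3_c20))))
theorem f214696 : Led Lsl_et (LP (LK LD1_c8 LD2_c15 LD3_c3)) = (LP (LK LD1_c15 LD2_c30 LD3_c54)) :=
  Lre_e IH (LK LD1_c8 LD2_c15 LD3_c3) (LK LD1_c15 LD2_c30 LD3_c54) Lrfl Lrfl
theorem f304372 : Led Lsl_dt (LP (LK LD1_c10 LD2_c2 LD3_c20)) = (LP (LK LD1_c10 LD2_c21 LD3_c27)) :=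
  Lgr Lrot56 (Lpe (f263100 IH) (Lpr_gt (f304370 IH) (Lpe (f214696 IH) (Lpr_dt (K26.f214674 IH) (Lpr_gt (K10.f48408 IH) (Lpe (K13.f48407 IH) (Lpe (K10.f48381 IH) (Lpr_gt (K9.f47574 IH) (Lpr_dt (K18.f48405 IH) (Lpr_gt (f48406 IH) (Lpn (LP (LK LD1_c10 LD2_c21 LD3_c27)))))))))))))
theorem f304377 : Led Lsl_df (LP (LK LD1_c10 LD2_c2 LD3_c20)) = (LP (LK LD1_c10 LD2_c21 LD3_c27)) :=
  Lgr Lrot38 (Lpr_dt (f304372 IH) (Lpn (LP (LK LD1_c10 LD2_c21 LD3_c27))))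
theorem f328309 : Led Lsl_gf (LP (LK LD1_c4 LD2_c7 LD3_c61)) = (LP (LK LD1_c2 LD2_c1 LD3_c47)) :=
  Lgr Lrot143 (Lpr_dt (K17.f263073 IH) (Lpe (K15.f263065 IH) (Lpr_df (f304377 IH) (Lpe (f48406 IH) (Lpe (K18.f48405 IH) (Lpe (K9.f47574 IH) (Lpe (K1.f45192 IH) (Lpr_gt (K10.f48336 IH) (Lpr_dt (K21.f328301 IH) (Lpn (LP (LK LD1_c2 LD2_c1 LD3_c47))))))))))))
theorem f366123 : Led Lsl_gf (LP (LK LD1_c8 LD2_c15 LD3_c50)) = (LP (LK LD1_c4 LD2_c8 LD3_c37)) :=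
  Lgr Lrot144 (Lpr_dt (f366115 IH) (Lpr_gt (K26.f275156 IH) (Lpr_dt (K15.f212244 IH) (Lpe (K12.f32435 IH) (Lpe (K12.f48936 IH) (Lpr_gf (K15.f263061 IH) (Lpe (K17.f263073 IH) (Lpr_gf (f328309 IH) (Lpe (K21.f328311 IH) (Lpn (LP (LK LD1_c4 LD2_c8 LD3_c37))))))))))))
theorem f366173 : Led Lsl_gt (LP (LK LD1_c1 LD2_c16 LD3_c32)) = (LP (LK LD1_c2 LD2_c1 LD3_c47)) :=
  Lgr Lrot9 (Lpe (K23.f185623 IH) (Lpr_gt (K14.f252553 IH) (Lpr_ct (K14.f32895 IH) (Lpe (K15.f252557 IH) (Lpr_ct (K15.f252977 IH) (Lpr_df (K15.f257592 IH) (Lpr_cf (f366169 IH) (Lpr_gf (f366123 IH) (Lpe (K21.f328300 IH) (Lpn (LP (LK LD1_c2 LD2_c1 LD3_c47))))))))))))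
theorem f232036 : Led Lsl_gt (LP (LK LD1_c4 LD2_c9 LD3_c37)) = (LP (LK LD1_c2 LD2_c2 LD3_c5)) :=
  Lre_g IH (LK LD1_c4 LD2_c9 LD3_c37) (LK LD1_c2 LD2_c2 LD3_c5) Lrfl Lrfl
theorem f271601 : Led Lsl_et (LP (LK LD1_c1 LD2_c14 LD3_c23)) = (LP (LK LD1_c2 LD2_c34 LD3_c45)) :=
  Lre_e IH (LK LD1_c1 LD2_c14 LD3_c23) (LK LD1_c2 LD2_c34 LD3_c45) Lrfl Lrfl
theorem f351329 : Led Lsl_ef (LP (LK LD1_c5 LD2_c15 LD3_c49)) = (LP (LK LD1_c5 LD2_c17 LD3_c61)) :=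
  Lgr Lrot88 (Lpr_et (K25.f351325 IH) (Lpn (LP (LK LD1_c5 LD2_c17 LD3_c61))))
theorem f366179 : Led Lsl_df (LP (LK LD1_c4 LD2_c9 LD3_c37)) = (LP (LK LD1_c5 LD2_c17 LD3_c61)) :=
  Lgr Lrot170 (Lpr_gt (f232036 IH) (Lpe (K13.f663 IH) (Lpe (K14.f232027 IH) (Lpe (K12.f191158 IH) (Lpr_dt (K23.f185623 IH) (Lpr_gt (f366173 IH) (Lpe (K21.f328301 IH) (Lpr_et (f271601 IH) (Lpr_gt (K20.f180936 IH) (Lpr_ef (f351329 IH) (Lpn (LP (LK LD1_c5 LD2_c17 LD3_c61)))))))))))))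
theorem f366186 : Led Lsl_et (LP (LK LD1_c4 LD2_c9 LD3_c37)) = (LP (LK LD1_c4 LD2_c16 LD3_c8)) :=
  Lgr Lrot71 (Lpr_df (f366179 IH) (Lpe (K25.f351325 IH) (Lpe (K25.f271611 IH) (Lpr_ef (K25.f348034 IH) (Lpe (K25.f260444 IH) (Lpn (LP (LK LD1_c4 LD2_c16 LD3_c8))))))))
theorem f366194 : Led Lsl_ef (LP (LK LD1_c4 LD2_c9 LD3_c37)) = (LP (LK LD1_c4 LD2_c16 LD3_c8)) :=
  Lgr Lrot88 (Lpr_et (f366186 IH) (Lpn (LP (LK LD1_c4 LD2_c16 LD3_c8))))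
theorem f361223 : Led Lsl_et (LP (LK LD1_c4 LD2_c15 LD3_c47)) = (LP (LK LD1_c8 LD2_c30 LD3_c40)) :=
  Lre_e IH (LK LD1_c4 LD2_c15 LD3_c47) (LK LD1_c8 LD2_c30 LD3_c40) Lrfl Lrfl
theorem f361233 : Led Lsl_gt (LP (LK LD1_c8 LD2_c30 LD3_c40)) = (LP (LK LD1_c8 LD2_c32 LD3_c34)) :=
  Lgr Lrot137 (Lpe (f361223 IH) (Lpe (K26.f361221 IH) (Lpr_gf (K26.f361226 IH) (Lpe (K13.f653 IH) (Lpr_et (K13.f652 IH) (Lpe (K12.f51458 IH) (Lpe (K9.f797 IH) (Lpe (K14.f51456 IH) (Lpr_gf (K21.f562 IH) (Lpe (K17.f566 IH) (Lpn (LP (LK LD1_c8 LD2_c32 LD3_c34)))))))))))))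
theorem f366198 : Led Lsl_gt (LP (LK LD1_c15 LD2_c55 LD3_c26)) = (LP (LK LD1_c8 LD2_c31 LD3_c25)) :=
  Lgr Lrot112 (Lpe (K22.f236274 IH) (Lpe (K17.f283163 IH) (Lpe (f361233 IH) (Lpe (f361223 IH) (Lpe (K26.f361221 IH) (Lpr_gf (K26.f361226 IH) (Lpe (K13.f653 IH) (Lpe (f232036 IH) (Lpr_ef (f366194 IH) (Lpr_dt (K25.f260444 IH) (Lpn (LP (LK LD1_c8 LD2_c31 LD3_c25)))))))))))))
theorem f250697 : Led Lsl_df (LP (LK LD1_c8 LD2_c19 LD3_c15)) = (LP (LK LD1_c5 LD2_c27 LD3_c41)) :=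
  Lgr Lrot38 (Lpr_dt (K21.f250691 IH) (Lpn (LP (LK LD1_c5 LD2_c27 LD3_c41))))
theorem f348030 : Led Lsl_et (LP (LK LD1_c10 LD2_c21 LD3_c0)) = (LP (LK LD1_c8 LD2_c31 LD3_c25)) :=
  Lgr Lrot74 (Lpr_bf (K25.f298616 IH) (Lpr_ef (K23.f348028 IH) (Lpr_bf (K25.f323381 IH) (Lpn (LP (LK LD1_c8 LD2_c31 LD3_c25))))))
theorem f366204 : Led Lsl_gf (LP (LK LD1_c10 LD2_c19 LD3_c39)) = (LP (LK LD1_c5 LD2_c15 LD3_c49)) :=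
  Lgr Lrot145 (Lpe (K20.f317733 IH) (Lpe (K21.f324237 IH) (Lpe (K21.f324208 IH) (Lpe (f250697 IH) (Lpe (K25.f323310 IH) (Lpr_df (K23.f283161 IH) (Lpr_et (K17.f236276 IH) (Lpr_gt (f366198 IH) (Lpe (f348030 IH) (Lpr_dt (K25.f271611 IH) (Lpn (LP (LK LD1_c5 LD2_c15 LD3_c49)))))))))))))
theorem f366210 : Led Lsl_gt (LP (LK LD1_c8 LD2_c16 LD3_c47)) = (LP (LK LD1_c4 LD2_c9 LD3_c37)) :=
  Lgr Lrot139 (Lpe (K13.f47695 IH) (Lpr_gf (K26.f362212 IH) (Lpr_ef (K26.f185602 IH) (Lpr_dt (K26.f361215 IH) (Lpe (K26.f362220 IH) (Lpe (K12.f47617 IH) (Lpe (K25.f328544 IH) (Lpr_gf (f366204 IH) (Lpr_ef (f351329 IH) (Lpe (f366179 IH) (Lpn (LP (LK LD1_c4 LD2_c9 LD3_c37)))))))))))))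
theorem f366216 : Led Lsl_et (LP (LK LD1_c5 LD2_c15 LD3_c29)) = (LP (LK LD1_c10 LD2_c3 LD3_c46)) :=
  Lgr Lrot122 (Lpr_dt (K13.f47695 IH) (Lpr_gt (f366210 IH) (Lpr_df (f366179 IH) (Lpe (f351329 IH) (Lpe (f366204 IH) (Lpe (K20.f317704 IH) (Lpe (K26.f324326 IH) (Lpr_df (K19.f169486 IH) (Lpe (K26.f276142 IH) (Lpr_gt (K21.f261898 IH) (Lpn (LP (LK LD1_c10 LD2_c3 LD3_c46)))))))))))))
theorem f340310 : Led Lsl_bt (LP (LK LD1_c5 LD2_c17 LD3_c45)) = (LP (LK LD1_c5 LD2_c15 LD3_c40)) :=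
  Lgr Lrot119 (Lpr_ef (K17.f263075 IH) (Lpr_bf (K26.f284998 IH) (Lpr_ef (K23.f340306 IH) (Lpn (LP (LK LD1_c5 LD2_c15 LD3_c40))))))
theorem f342105 : Led Lsl_gt (LP (LK LD1_c10 LD2_c3 LD3_c46)) = (LP (LK LD1_c5 LD2_c15 LD3_c40)) :=
  Lgr Lrot164 (Lpr_bf (K21.f293084 IH) (Lpr_ct (K18.f269279 IH) (Lpr_gf (K23.f342101 IH) (Lpe (K23.f314214 IH) (Lpr_gf (K19.f314208 IH) (Lpr_bf (K26.f274805 IH) (Lpr_ct (K26.f274808 IH) (Lpe (f304370 IH) (Lpe (f262990 IH) (Lpr_bt (f340310 IH) (Lpn (LP (LK LD1_c5 LD2_c15 LD3_c40)))))))))))))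
theorem f366224 : Led Lsl_gf (LP (LK LD1_c8 LD2_c16 LD3_c47)) = (LP (LK LD1_c4 LD2_c9 LD3_c36)) :=
  Lgr Lrot134 (Lpe (K13.f47695 IH) (Lpr_et (f366216 IH) (Lpr_gt (f342105 IH) (Lpe (K23.f340295 IH) (Lpr_dt (K23.f284981 IH) (Lpr_gt (K16.f271205 IH) (Lpr_df (K23.f48260 IH) (Lpr_et (K10.f48264 IH) (Lpr_gt (K25.f48291 IH) (Lpr_dt (K25.f323306 IH) (Lpn (LP (LK LD1_c4 LD2_c9 LD3_c36)))))))))))))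
theorem f366228 : Led Lsl_gt (LP (LK LD1_c5 LD2_c15 LD3_c29)) = (LP (LK LD1_c8 LD2_c19 LD3_c17)) :=
  Lgr Lrot139 (Lpr_df (K26.f47707 IH) (Lpr_gf (f366224 IH) (Lpe (K21.f246289 IH) (Lpr_dt (K21.f250691 IH) (Lpr_gf (K21.f324208 IH) (Lpe (K20.f323178 IH) (Lpr_et (K21.f328540 IH) (Lpe (K26.f336199 IH) (Lpr_ef (K13.f644 IH) (Lpe (K13.f655 IH) (Lpn (LP (LK LD1_c8 LD2_c19 LD3_c17)))))))))))))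
theorem f333675 : Led Lsl_bt (LP (LK LD1_c2 LD2_c3 LD3_c1)) = (LP (LK LD1_c4 LD2_c11 LD3_c41)) :=
  Lre_b IH (LK LD1_c2 LD2_c3 LD3_c1) (LK LD1_c4 LD2_c11 LD3_c41) Lrfl Lrfl
theorem f333676 : Led Lsl_ef (LP (LK LD1_c4 LD2_c17 LD3_c55)) = (LP (LK LD1_c4 LD2_c11 LD3_c41)) :=
  Lgr Lrot29 (Lpr_bt (K22.f316212 IH) (Lpr_et (K22.f333673 IH) (Lpr_bt (f333675 IH) (Lpn (LP (LK LD1_c4 LD2_c11 LD3_c41))))))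
theorem f366232 : Led Lsl_gf (LP (LK LD1_c4 LD2_c9 LD3_c28)) = (LP (LK LD1_c4 LD2_c17 LD3_c55)) :=
  Lgr Lrot141 (Lpe (K26.f362009 IH) (Lpe (K26.f47707 IH) (Lpr_gt (f366228 IH) (Lpr_df (K13.f655 IH) (Lpe (K13.f644 IH) (Lpr_gt (K26.f336199 IH) (Lpe (K12.f47591 IH) (Lpe (K26.f360917 IH) (Lpr_df (K26.f360911 IH) (Lpe (f333676 IH) (Lpn (LP (LK LD1_c4 LD2_c17 LD3_c55)))))))))))))
theorem f362002 : Led Lsl_dt (LP (LK LD1_c8 LD2_c18 LD3_c51)) = (LP (LK LD1_c15 LD2_c38 LD3_c21)) :=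
  Lre_d IH (LK LD1_c8 LD2_c18 LD3_c51) (LK LD1_c15 LD2_c38 LD3_c21) Lrfl Lrfl
theorem f365341 : Led Lsl_ct (LP (LK LD1_c25 LD2_c33 LD3_c47)) = (LP (LK LD1_c15 LD2_c38 LD3_c21)) :=
  Lre_c IH (LK LD1_c25 LD2_c33 LD3_c47) (LK LD1_c15 LD2_c38 LD3_c21) Lrfl Lrfl
theorem f316218 : Led Lsl_ct (LP (LK LD1_c8 LD2_c34 LD3_c46)) = (LP (LK LD1_c4 LD2_c17 LD3_c55)) :=
  Lre_c IH (LK LD1_c8 LD2_c34 LD3_c46) (LK LD1_c4 LD2_c17 LD3_c55) Lrfl Lrfl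
theorem f366238 : Led Lsl_gf (LP (LK LD1_c25 LD2_c33 LD3_c47)) = (LP (LK LD1_c19 LD2_c38 LD3_c48)) :=
  Lgr Lrot104 (Lpr_ct (f365341 IH) (Lpe (f362002 IH) (Lpe (K26.f362008 IH) (Lpr_gf (f366232 IH) (Lpe (f316218 IH) (Lpr_gf (K22.f316216 IH) (Lpe (K17.f170347 IH) (Lpr_gt (K20.f298750 IH) (Lpr_ct (K18.f295735 IH) (Lpn (LP (LK LD1_c19 LD2_c38 LD3_c48))))))))))))
theorem f330161 : Led Lsl_gt (LP (LK LD1_c19 LD2_c46 LD3_c24)) = (LP (LK LD1_c10 LD2_c56 LD3_c48)) :=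
  Lre_g IH (LK LD1_c19 LD2_c46 LD3_c24) (LK LD1_c10 LD2_c56 LD3_c48) Lrfl Lrfl
theorem f301081 : Led Lsl_ct (LP (LK LD1_c15 LD2_c1 LD3_c50)) = (LP (LK LD1_c7 LD2_c58 LD3_c4)) :=
  Lre_c IH (LK LD1_c15 LD2_c1 LD3_c50) (LK LD1_c7 LD2_c58 LD3_c4) Lrfl Lrfl
theorem f359312 : Led Lsl_ct (LP (LK LD1_c25 LD2_c34 LD3_c60)) = (LP (LK LD1_c19 LD2_c46 LD3_c24)) :=
  Lgr Lrot8 (Lpe (K24.f351404 IH) (Lpe (K22.f333789 IH) (Lpr_gt (K20.f243419 IH) (Lpe (K19.f301095 IH) (Lpe (f301081 IH) (Lpe (K26.f234760 IH) (Lpr_gf (K26.f359309 IH) (Lpe (K26.f348321 IH) (Lpe (f330161 IH) (Lpn (LP (LK LD1_c19 LD2_c46 LD3_c24))))))))))))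
theorem f251812 : Led Lsl_dt (LP (LK LD1_c25 LD2_c34 LD3_c60)) = (LP (LK LD1_c15 LD2_c39 LD3_c34)) :=
  Lre_d IH (LK LD1_c25 LD2_c34 LD3_c60) (LK LD1_c15 LD2_c39 LD3_c34) Lrfl Lrfl
theorem f359015 : Led Lsl_gf (LP (LK LD1_c25 LD2_c36 LD3_c41)) = (LP (LK LD1_c25 LD2_c29 LD3_c0)) :=
  Lgr Lrot141 (Lpe (K26.f349758 IH) (Lpr_dt (K23.f349740 IH) (Lpr_gt (K23.f349753 IH) (Lpr_df (K23.f212519 IH) (Lpr_et (K23.f193240 IH) (Lpr_gt (K23.f193237 IH) (Lpr_dt (K14.f193227 IH) (Lpr_gt (K26.f180805 IH) (Lpr_df (K26.f358997 IH) (Lpr_et (K26.f359009 IH) (Lpn (LP (LK LD1_c25 LD2_c29 LD3_c0)))))))))))))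
theorem f359024 : Led Lsl_gf (LP (LK LD1_c25 LD2_c34 LD3_c60)) = (LP (LK LD1_c26 LD2_c5 LD3_c44)) :=
  Lgr Lrot138 (Lpr_dt (f251812 IH) (Lpe (K24.f351393 IH) (Lpr_df (K15.f263588 IH) (Lpr_et (K16.f263565 IH) (Lpe (K26.f358789 IH) (Lpr_ef (K26.f359018 IH) (Lpr_dt (K26.f311825 IH) (Lpe (f359015 IH) (Lpr_df (K26.f349741 IH) (Lpr_et (K26.f301173 IH) (Lpn (LP (LK LD1_c26 LD2_c5 LD3_c44)))))))))))))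
theorem f243370 : Led Lsl_ct (LP (LK LD1_c15 LD2_c58 LD3_c11)) = (LP (LK LD1_c8 LD2_c30 LD3_c15)) :=
  Lre_c IH (LK LD1_c15 LD2_c58 LD3_c11) (LK LD1_c8 LD2_c30 LD3_c15) Lrfl Lrfl
theorem f360754 : Led Lsl_gt (LP (LK LD1_c15 LD2_c37 LD3_c16)) = (LP (LK LD1_c15 LD2_c58 LD3_c11)) :=
  Lgr Lrot187 (Lpr_cf (K22.f331182 IH) (Lpe (K23.f317588 IH) (Lpr_dt (K23.f243417 IH) (Lpe (f359024 IH) (Lpr_ct (f359312 IH) (Lpr_gt (f330161 IH) (Lpr_ct (K26.f330158 IH) (Lpr_dt (K26.f360748 IH) (Lpe (f243370 IH) (Lpn (LP (LK LD1_c15 LD2_c58 LD3_c11))))))))))))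
theorem f234475 : Led Lsl_ct (LP (LK LD1_c8 LD2_c18 LD3_c50)) = (LP (LK LD1_c15 LD2_c38 LD3_c20)) :=
  Lre_c IH (LK LD1_c8 LD2_c18 LD3_c50) (LK LD1_c15 LD2_c38 LD3_c20) Lrfl Lrfl
theorem f234476 : Led Lsl_gt (LP (LK LD1_c15 LD2_c38 LD3_c20)) = (LP (LK LD1_c25 LD2_c33 LD3_c44)) :=
  Lre_g IH (LK LD1_c15 LD2_c38 LD3_c20) (LK LD1_c25 LD2_c33 LD3_c44) Lrfl Lrfl
theorem f243360 : Led Lsl_ct (LP (LK LD1_c4 LD2_c15 LD3_c38)) = (LP (LK LD1_c8 LD2_c30 LD3_c13)) :=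
  Lre_c IH (LK LD1_c4 LD2_c15 LD3_c38) (LK LD1_c8 LD2_c30 LD3_c13) Lrfl Lrfl
theorem f360756 : Led Lsl_ct (LP (LK LD1_c25 LD2_c33 LD3_c44)) = (LP (LK LD1_c15 LD2_c39 LD3_c42)) :=
  Lgr Lrot110 (Lpe (f234476 IH) (Lpe (f234475 IH) (Lpe (K21.f234454 IH) (Lpe (K21.f234455 IH) (Lpr_gt (f360754 IH) (Lpr_ct (f243370 IH) (Lpr_gt (K26.f243369 IH) (Lpr_ct (f243360 IH) (Lpr_df (K20.f243361 IH) (Lpn (LP (LK LD1_c15 LD2_c39 LD3_c42))))))))))))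
theorem f360759 : Led Lsl_af (LP (LK LD1_c25 LD2_c33 LD3_c44)) = (LP (LK LD1_c19 LD2_c38 LD3_c48)) :=
  Lgr Lrot68 (Lpr_ct (f360756 IH) (Lpr_at (K20.f298747 IH) (Lpr_ct (K18.f295735 IH) (Lpn (LP (LK LD1_c19 LD2_c38 LD3_c48))))))
theorem f360761 : Led Lsl_cf (LP (LK LD1_c25 LD2_c33 LD3_c44)) = (LP (LK LD1_c15 LD2_c39 LD3_c42)) :=
  Lgr Lrot11 (Lpr_ct (f360756 IH) (Lpn (LP (LK LD1_c15 LD2_c39 LD3_c42))))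
theorem f323449 : Led Lsl_gt (LP (LK LD1_c25 LD2_c33 LD3_c45)) = (LP (LK LD1_c15 LD2_c38 LD3_c20)) :=
  Lre_g IH (LK LD1_c25 LD2_c33 LD3_c45) (LK LD1_c15 LD2_c38 LD3_c20) Lrfl Lrfl
theorem f360789 : Led Lsl_ft (LP (LK LD1_c25 LD2_c33 LD3_c45)) = (LP (LK LD1_c19 LD2_c38 LD3_c48)) :=
  Lgr Lrot2 (Lpr_gt (f323449 IH) (Lpr_gt (f234476 IH) (Lpr_af (f360759 IH) (Lpn (LP (LK LD1_c19 LD2_c38 LD3_c48))))))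
theorem f360791 : Led Lsl_df (LP (LK LD1_c19 LD2_c35 LD3_c32)) = (LP (LK LD1_c25 LD2_c33 LD3_c45)) :=
  Lgr Lrot157 (Lpr_ct (K26.f298822 IH) (Lpr_dt (K26.f266372 IH) (Lpr_ct (K26.f266373 IH) (Lpr_dt (K21.f295755 IH) (Lpr_ct (f243360 IH) (Lpr_dt (K20.f243358 IH) (Lpe (f360761 IH) (Lpr_af (f360759 IH) (Lpe (f360789 IH) (Lpn (LP (LK LD1_c25 LD2_c33 LD3_c45))))))))))))
theorem f298836 : Led Lsl_ft (LP (LK LD1_c19 LD2_c35 LD3_c32)) = (LP (LK LD1_c28 LD2_c57 LD3_c31)) :=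
  Lre_f IH (LK LD1_c19 LD2_c35 LD3_c32) (LK LD1_c28 LD2_c57 LD3_c31) Lrfl Lrfl
theorem f360801 : Led Lsl_ft (LP (LK LD1_c19 LD2_c38 LD3_c48)) = (LP (LK LD1_c25 LD2_c33 LD3_c45)) :=
  Lgr Lrot54 (Lpe (K20.f295752 IH) (Lpe (f298836 IH) (Lpr_df (f360791 IH) (Lpn (LP (LK LD1_c25 LD2_c33 LD3_c45))))))
theorem f295713 : Led Lsl_at (LP (LK LD1_c10 LD2_c51 LD3_c60)) = (LP (LK LD1_c15 LD2_c39 LD3_c42)) :=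
  Lgr Lrot51 (Lpe (K18.f295096 IH) (Lpr_af (K18.f295706 IH) (Lpr_df (K20.f243361 IH) (Lpn (LP (LK LD1_c15 LD2_c39 LD3_c42))))))
theorem f298816 : Led Lsl_df (LP (LK LD1_c10 LD2_c51 LD3_c61)) = (LP (LK LD1_c15 LD2_c39 LD3_c43)) :=
  Lgr Lrot38 (Lpr_dt (K20.f298812 IH) (Lpn (LP (LK LD1_c15 LD2_c39 LD3_c43))))
theorem f298831 : Led Lsl_ct (LP (LK LD1_c10 LD2_c51 LD3_c61)) = (LP (LK LD1_c5 LD2_c30 LD3_c17)) :=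
  Lre_c IH (LK LD1_c10 LD2_c51 LD3_c61) (LK LD1_c5 LD2_c30 LD3_c17) Lrfl Lrfl
theorem f360765 : Led Lsl_df (LP (LK LD1_c25 LD2_c33 LD3_c44)) = (LP (LK LD1_c19 LD2_c38 LD3_c19)) :=
  Lgr Lrot177 (Lpr_ct (f360756 IH) (Lpe (f295713 IH) (Lpr_ff (K20.f298819 IH) (Lpe (f298816 IH) (Lpr_ct (f298831 IH) (Lpr_dt (K21.f295740 IH) (Lpr_ct (K18.f245819 IH) (Lpr_dt (K23.f266379 IH) (Lpr_ct (K26.f266397 IH) (Lpn (LP (LK LD1_c19 LD2_c38 LD3_c19))))))))))))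
theorem f298835 : Led Lsl_at (LP (LK LD1_c28 LD2_c57 LD3_c31)) = (LP (LK LD1_c19 LD2_c38 LD3_c19)) :=
  Lre_a IH (LK LD1_c28 LD2_c57 LD3_c31) (LK LD1_c19 LD2_c38 LD3_c19) Lrfl Lrfl
theorem f360770 : Led Lsl_at (LP (LK LD1_c25 LD2_c33 LD3_c44)) = (LP (LK LD1_c19 LD2_c38 LD3_c48)) :=
  Lgr Lrot51 (Lpr_df (f360765 IH) (Lpe (f298835 IH) (Lpe (K18.f295736 IH) (Lpn (LP (LK LD1_c19 LD2_c38 LD3_c48))))))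
theorem f298745 : Led Lsl_ft (LP (LK LD1_c15 LD2_c39 LD3_c42)) = (LP (LK LD1_c25 LD2_c27 LD3_c60)) :=
  Lgr Lrot48 (Lpr_ff (K20.f298740 IH) (Lpn (LP (LK LD1_c25 LD2_c27 LD3_c60))))
theorem f360763 : Led Lsl_ff (LP (LK LD1_c25 LD2_c33 LD3_c44)) = (LP (LK LD1_c19 LD2_c38 LD3_c18)) :=
  Lgr Lrot23 (Lpr_ct (f360756 IH) (Lpr_ft (f298745 IH) (Lpe (K26.f298736 IH) (Lpn (LP (LK LD1_c19 LD2_c38 LD3_c18))))))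
theorem f360805 : Led Lsl_af (LP (LK LD1_c19 LD2_c38 LD3_c18)) = (LP (LK LD1_c25 LD2_c33 LD3_c45)) :=
  Lgr Lrot45 (Lpe (f360763 IH) (Lpr_at (f360770 IH) (Lpr_ft (f360801 IH) (Lpn (LP (LK LD1_c25 LD2_c33 LD3_c45))))))
theorem f366250 : Led Lsl_gt (LP (LK LD1_c25 LD2_c33 LD3_c47)) = (LP (LK LD1_c19 LD2_c38 LD3_c18)) :=
  Lgr Lrot46 (Lpr_gf (f366238 IH) (Lpr_ft (f360801 IH) (Lpe (f360805 IH) (Lpn (LP (LK LD1_c19 LD2_c38 LD3_c18))))))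
theorem f365305 : Led Lsl_ct (LP (LK LD1_c15 LD2_c38 LD3_c21)) = (LP (LK LD1_c25 LD2_c33 LD3_c47)) :=
  Lre_c IH (LK LD1_c15 LD2_c38 LD3_c21) (LK LD1_c25 LD2_c33 LD3_c47) Lrfl Lrfl
theorem f273846 : Led Lsl_ct (LP (LK LD1_c5 LD2_c30 LD3_c8)) = (LP (LK LD1_c10 LD2_c51 LD3_c44)) :=
  Lre_c IH (LK LD1_c5 LD2_c30 LD3_c8) (LK LD1_c10 LD2_c51 LD3_c44) Lrfl Lrfl
theorem f298766 : Led Lsl_ct (LP (LK LD1_c19 LD2_c38 LD3_c18)) = (LP (LK LD1_c25 LD2_c27 LD3_c60)) :=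
  Lgr Lrot176 (Lpe (K26.f295754 IH) (Lpe (f273846 IH) (Lpe (K22.f258746 IH) (Lpe (K21.f236215 IH) (Lpe (K13.f213857 IH) (Lpe (K20.f236210 IH) (Lpe (K20.f236211 IH) (Lpe (K20.f295753 IH) (Lpe (K20.f295752 IH) (Lpe (K20.f295751 IH) (Lpe (K20.f258763 IH) (Lpe (K18.f222652 IH) (Lpr_df (K18.f295741 IH) (Lpe (K18.f295725 IH) (Lpr_df (K20.f298738 IH) (Lpn (LP (LK LD1_c25 LD2_c27 LD3_c60))))))))))))))))))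
theorem f347798 : Led Lsl_df (LP (LK LD1_c28 LD2_c59 LD3_c42)) = (LP (LK LD1_c25 LD2_c33 LD3_c39)) :=
  Lgr Lrot38 (Lpr_dt (K26.f347796 IH) (Lpn (LP (LK LD1_c25 LD2_c33 LD3_c39))))
theorem f347781 : Led Lsl_ct (LP (LK LD1_c15 LD2_c38 LD3_c18)) = (LP (LK LD1_c25 LD2_c33 LD3_c39)) :=
  Lre_c IH (LK LD1_c15 LD2_c38 LD3_c18) (LK LD1_c25 LD2_c33 LD3_c39) Lrfl Lrfl
theorem f347809 : Led Lsl_dt (LP (LK LD1_c8 LD2_c30 LD3_c22)) = (LP (LK LD1_c15 LD2_c38 LD3_c18)) :=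
  Lgr Lrot32 (Lpr_cf (K23.f243413 IH) (Lpe (K19.f301127 IH) (Lpr_ft (K20.f301079 IH) (Lpr_at (K20.f317551 IH) (Lpe (K21.f317553 IH) (Lpe (K26.f317561 IH) (Lpe (K26.f317564 IH) (Lpr_df (f347798 IH) (Lpe (f347781 IH) (Lpn (LP (LK LD1_c15 LD2_c38 LD3_c18))))))))))))
theorem f323044 : Led Lsl_ff (LP (LK LD1_c8 LD2_c18 LD3_c13)) = (LP (LK LD1_c4 LD2_c15 LD3_c42)) :=
  Lgr Lrot19 (Lpe (K17.f282712 IH) (Lpr_ft (K20.f323038 IH) (Lpr_dt (K16.f243525 IH) (Lpn (LP (LK LD1_c4 LD2_c15 LD3_c42))))))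
theorem f190844 : Led Lsl_bt (LP (LK LD1_c8 LD2_c18 LD3_c13)) = (LP (LK LD1_c15 LD2_c36 LD3_c54)) :=
  Lre_b IH (LK LD1_c8 LD2_c18 LD3_c13) (LK LD1_c15 LD2_c36 LD3_c54) Lrfl Lrfl
theorem f243220 : Led Lsl_bt (LP (LK LD1_c8 LD2_c30 LD3_c23)) = (LP (LK LD1_c4 LD2_c15 LD3_c42)) :=
  Lre_b IH (LK LD1_c8 LD2_c30 LD3_c23) (LK LD1_c4 LD2_c15 LD3_c42) Lrfl Lrfl
theorem f323051 : Led Lsl_ft (LP (LK LD1_c15 LD2_c36 LD3_c54)) = (LP (LK LD1_c8 LD2_c30 LD3_c23)) :=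
  Lgr Lrot75 (Lpe (f190844 IH) (Lpr_ff (f323044 IH) (Lpe (f243220 IH) (Lpn (LP (LK LD1_c8 LD2_c30 LD3_c23))))))
theorem f323060 : Led Lsl_ff (LP (LK LD1_c15 LD2_c36 LD3_c54)) = (LP (LK LD1_c8 LD2_c30 LD3_c23)) :=
  Lgr Lrot3 (Lpr_ft (f323051 IH) (Lpn (LP (LK LD1_c8 LD2_c30 LD3_c23))))
theorem f323071 : Led Lsl_dt (LP (LK LD1_c15 LD2_c58 LD3_c26)) = (LP (LK LD1_c8 LD2_c30 LD3_c23)) :=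
  Lre_d IH (LK LD1_c15 LD2_c58 LD3_c26) (LK LD1_c8 LD2_c30 LD3_c23) Lrfl Lrfl
theorem f282714 : Led Lsl_bt (LP (LK LD1_c8 LD2_c31 LD3_c18)) = (LP (LK LD1_c15 LD2_c59 LD3_c57)) :=
  Lre_b IH (LK LD1_c8 LD2_c31 LD3_c18) (LK LD1_c15 LD2_c59 LD3_c57) Lrfl Lrfl
theorem f262907 : Led Lsl_bt (LP (LK LD1_c15 LD2_c58 LD3_c26)) = (LP (LK LD1_c8 LD2_c30 LD3_c24)) :=
  Lre_b IH (LK LD1_c15 LD2_c58 LD3_c26) (LK LD1_c8 LD2_c30 LD3_c24) Lrfl Lrfl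
theorem f323031 : Led Lsl_ft (LP (LK LD1_c15 LD2_c59 LD3_c57)) = (LP (LK LD1_c15 LD2_c58 LD3_c26)) :=
  Lgr Lrot75 (Lpe (f282714 IH) (Lpr_ff (K20.f323026 IH) (Lpe (f262907 IH) (Lpn (LP (LK LD1_c15 LD2_c58 LD3_c26))))))
theorem f323072 : Led Lsl_dt (LP (LK LD1_c15 LD2_c36 LD3_c54)) = (LP (LK LD1_c15 LD2_c59 LD3_c57)) :=
  Lgr Lrot60 (Lpr_ff (f323060 IH) (Lpe (f323071 IH) (Lpe (f323031 IH) (Lpn (LP (LK LD1_c15 LD2_c59 LD3_c57))))))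
theorem f323053 : Led Lsl_at (LP (LK LD1_c25 LD2_c31 LD3_c27)) = (LP (LK LD1_c15 LD2_c36 LD3_c54)) :=
  Lre_a IH (LK LD1_c25 LD2_c31 LD3_c27) (LK LD1_c15 LD2_c36 LD3_c54) Lrfl Lrfl
theorem f322992 : Led Lsl_at (LP (LK LD1_c15 LD2_c59 LD3_c57)) = (LP (LK LD1_c25 LD2_c57 LD3_c13)) :=
  Lre_a IH (LK LD1_c15 LD2_c59 LD3_c57) (LK LD1_c25 LD2_c57 LD3_c13) Lrfl Lrfl
theorem f323076 : Led Lsl_df (LP (LK LD1_c25 LD2_c31 LD3_c27)) = (LP (LK LD1_c25 LD2_c57 LD3_c13)) :=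
  Lgr Lrot18 (Lpr_at (f323053 IH) (Lpr_dt (f323072 IH) (Lpr_at (f322992 IH) (Lpn (LP (LK LD1_c25 LD2_c57 LD3_c13))))))
theorem f323080 : Led Lsl_dt (LP (LK LD1_c25 LD2_c31 LD3_c27)) = (LP (LK LD1_c25 LD2_c57 LD3_c13)) :=
  Lgr Lrot42 (Lpr_df (f323076 IH) (Lpn (LP (LK LD1_c25 LD2_c57 LD3_c13))))
theorem f262913 : Led Lsl_bt (LP (LK LD1_c15 LD2_c58 LD3_c20)) = (LP (LK LD1_c8 LD2_c30 LD3_c21)) :=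
  Lre_b IH (LK LD1_c15 LD2_c58 LD3_c20) (LK LD1_c8 LD2_c30 LD3_c21) Lrfl Lrfl
theorem f322993 : Led Lsl_at (LP (LK LD1_c25 LD2_c55 LD3_c14)) = (LP (LK LD1_c15 LD2_c58 LD3_c20)) :=
  Lre_a IH (LK LD1_c25 LD2_c55 LD3_c14) (LK LD1_c15 LD2_c58 LD3_c20) Lrfl Lrfl
theorem f322994 : Led Lsl_bt (LP (LK LD1_c25 LD2_c57 LD3_c13)) = (LP (LK LD1_c25 LD2_c55 LD3_c14)) :=
  Lgr Lrot62 (Lpe (f322992 IH) (Lpe (f282714 IH) (Lpr_af (K20.f322986 IH) (Lpe (f262913 IH) (Lpe (f322993 IH) (Lpn (LP (LK LD1_c25 LD2_c55 LD3_c14))))))))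
theorem f243457 : Led Lsl_dt (LP (LK LD1_c25 LD2_c55 LD3_c14)) = (LP (LK LD1_c15 LD2_c58 LD3_c19)) :=
  Lre_d IH (LK LD1_c25 LD2_c55 LD3_c14) (LK LD1_c15 LD2_c58 LD3_c19) Lrfl Lrfl
theorem f323094 : Led Lsl_bf (LP (LK LD1_c25 LD2_c31 LD3_c27)) = (LP (LK LD1_c15 LD2_c58 LD3_c19)) :=
  Lgr Lrot93 (Lpr_dt (f323080 IH) (Lpr_bt (f322994 IH) (Lpr_dt (f243457 IH) (Lpn (LP (LK LD1_c15 LD2_c58 LD3_c19))))))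
theorem f323096 : Led Lsl_bt (LP (LK LD1_c25 LD2_c31 LD3_c27)) = (LP (LK LD1_c15 LD2_c58 LD3_c19)) :=
  Lgr Lrot127 (Lpr_bf (f323094 IH) (Lpn (LP (LK LD1_c15 LD2_c58 LD3_c19))))
theorem f323067 : Led Lsl_at (LP (LK LD1_c15 LD2_c36 LD3_c54)) = (LP (LK LD1_c25 LD2_c31 LD3_c27)) :=
  Lre_a IH (LK LD1_c15 LD2_c36 LD3_c54) (LK LD1_c25 LD2_c31 LD3_c27) Lrfl Lrfl
theorem f243448 : Led Lsl_at (LP (LK LD1_c15 LD2_c58 LD3_c19)) = (LP (LK LD1_c8 LD2_c30 LD3_c20)) :=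
  Lre_a IH (LK LD1_c15 LD2_c58 LD3_c19) (LK LD1_c8 LD2_c30 LD3_c20) Lrfl Lrfl
theorem f243216 : Led Lsl_bt (LP (LK LD1_c8 LD2_c30 LD3_c20)) = (LP (LK LD1_c4 LD2_c15 LD3_c41)) :=
  Lre_b IH (LK LD1_c8 LD2_c30 LD3_c20) (LK LD1_c4 LD2_c15 LD3_c41) Lrfl Lrfl
theorem f323098 : Led Lsl_af (LP (LK LD1_c8 LD2_c18 LD3_c13)) = (LP (LK LD1_c4 LD2_c15 LD3_c41)) :=
  Lgr Lrot36 (Lpr_bt (f190844 IH) (Lpr_at (f323067 IH) (Lpr_bt (f323096 IH) (Lpr_at (f243448 IH) (Lpr_bt (f243216 IH) (Lpn (LP (LK LD1_c4 LD2_c15 LD3_c41))))))))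
theorem f282728 : Led Lsl_et (LP (LK LD1_c8 LD2_c18 LD3_c13)) = (LP (LK LD1_c15 LD2_c36 LD3_c52)) :=
  Lre_e IH (LK LD1_c8 LD2_c18 LD3_c13) (LK LD1_c15 LD2_c36 LD3_c52) Lrfl Lrfl
theorem f323103 : Led Lsl_at (LP (LK LD1_c15 LD2_c36 LD3_c52)) = (LP (LK LD1_c8 LD2_c30 LD3_c22)) :=
  Lgr Lrot80 (Lpe (f282728 IH) (Lpr_af (f323098 IH) (Lpe (K23.f243426 IH) (Lpn (LP (LK LD1_c8 LD2_c30 LD3_c22))))))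
theorem f347811 : Led Lsl_df (LP (LK LD1_c15 LD2_c36 LD3_c52)) = (LP (LK LD1_c25 LD2_c27 LD3_c35)) :=
  Lgr Lrot18 (Lpr_at (f323103 IH) (Lpr_dt (f347809 IH) (Lpe (K26.f347785 IH) (Lpn (LP (LK LD1_c25 LD2_c27 LD3_c35))))))
theorem f366264 : Led Lsl_gf (LP (LK LD1_c15 LD2_c38 LD3_c21)) = (LP (LK LD1_c25 LD2_c27 LD3_c35)) :=
  Lgr Lrot147 (Lpr_ct (f365305 IH) (Lpr_gt (f366250 IH) (Lpr_ct (f298766 IH) (Lpe (K20.f298734 IH) (Lpe (K18.f295724 IH) (Lpe (K21.f295761 IH) (Lpe (K26.f250650 IH) (Lpr_gf (K26.f347764 IH) (Lpr_df (f347811 IH) (Lpn (LP (LK LD1_c25 LD2_c27 LD3_c35))))))))))))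
theorem f236208 : Led Lsl_ft (LP (LK LD1_c15 LD2_c33 LD3_c54)) = (LP (LK LD1_c25 LD2_c27 LD3_c38)) :=
  Lre_f IH (LK LD1_c15 LD2_c33 LD3_c54) (LK LD1_c25 LD2_c27 LD3_c38) Lrfl Lrfl
theorem f366271 : Led Lsl_af (LP (LK LD1_c15 LD2_c38 LD3_c21)) = (LP (LK LD1_c25 LD2_c27 LD3_c38)) :=
  Lgr Lrot31 (Lpr_gf (f366264 IH) (Lpe (K26.f222920 IH) (Lpr_ft (f236208 IH) (Lpn (LP (LK LD1_c25 LD2_c27 LD3_c38))))))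
theorem f366276 : Led Lsl_ft (LP (LK LD1_c15 LD2_c38 LD3_c21)) = (LP (LK LD1_c8 LD2_c18 LD3_c50)) :=
  Lre_f IH (LK LD1_c15 LD2_c38 LD3_c21) (LK LD1_c8 LD2_c18 LD3_c50) Lrfl Lrfl
theorem f366277 : Led Lsl_at (LP (LK LD1_c8 LD2_c18 LD3_c50)) = (LP (LK LD1_c15 LD2_c33 LD3_c54)) :=
  Lgr Lrot66 (Lpe (f366276 IH) (Lpr_af (f366271 IH) (Lpe (f236208 IH) (Lpn (LP (LK LD1_c15 LD2_c33 LD3_c54))))))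
theorem f323448 : Led Lsl_ct (LP (LK LD1_c15 LD2_c38 LD3_c20)) = (LP (LK LD1_c8 LD2_c18 LD3_c50)) :=
  Lre_c IH (LK LD1_c15 LD2_c38 LD3_c20) (LK LD1_c8 LD2_c18 LD3_c50) Lrfl Lrfl
theorem f366282 : Led Lsl_af (LP (LK LD1_c15 LD2_c38 LD3_c20)) = (LP (LK LD1_c25 LD2_c27 LD3_c37)) :=
  Lgr Lrot68 (Lpr_ct (f323448 IH) (Lpr_at (f366277 IH) (Lpr_ct (K26.f298762 IH) (Lpn (LP (LK LD1_c25 LD2_c27 LD3_c37))))))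
theorem f238576 : Led Lsl_dt (LP (LK LD1_c15 LD2_c38 LD3_c28)) = (LP (LK LD1_c8 LD2_c18 LD3_c57)) :=
  Lre_d IH (LK LD1_c15 LD2_c38 LD3_c28) (LK LD1_c8 LD2_c18 LD3_c57) Lrfl Lrfl
theorem f306738 : Led Lsl_ct (LP (LK LD1_c25 LD2_c33 LD3_c53)) = (LP (LK LD1_c15 LD2_c38 LD3_c28)) :=
  Lre_c IH (LK LD1_c25 LD2_c33 LD3_c53) (LK LD1_c15 LD2_c38 LD3_c28) Lrfl Lrfl
theorem f365310 : Led Lsl_ft (LP (LK LD1_c31 LD2_c54 LD3_c12)) = (LP (LK LD1_c25 LD2_c27 LD3_c37)) :=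
  Lre_f IH (LK LD1_c31 LD2_c54 LD3_c12) (LK LD1_c25 LD2_c27 LD3_c37) Lrfl Lrfl
theorem f366349 : Led Lsl_df (LP (LK LD1_c25 LD2_c33 LD3_c53)) = (LP (LK LD1_c31 LD2_c54 LD3_c12)) :=
  Lgr Lrot157 (Lpr_ct (f306738 IH) (Lpr_dt (f238576 IH) (Lpr_ct (K20.f238571 IH) (Lpr_dt (K21.f234472 IH) (Lpr_ct (K20.f234471 IH) (Lpr_dt (K21.f234453 IH) (Lpr_ct (f234475 IH) (Lpr_af (f366282 IH) (Lpe (f365310 IH) (Lpn (LP (LK LD1_c31 LD2_c54 LD3_c12))))))))))))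
theorem f353211 : Led Lsl_ft (LP (LK LD1_c25 LD2_c27 LD3_c37)) = (LP (LK LD1_c31 LD2_c54 LD3_c12)) :=
  Lre_f IH (LK LD1_c25 LD2_c27 LD3_c37) (LK LD1_c31 LD2_c54 LD3_c12) Lrfl Lrfl
theorem f365308 : Led Lsl_df (LP (LK LD1_c25 LD2_c27 LD3_c37)) = (LP (LK LD1_c19 LD2_c38 LD3_c29)) :=
  Lgr Lrot38 (Lpr_dt (K26.f365302 IH) (Lpn (LP (LK LD1_c19 LD2_c38 LD3_c29))))
theorem f366356 : Led Lsl_ft (LP (LK LD1_c25 LD2_c33 LD3_c53)) = (LP (LK LD1_c19 LD2_c38 LD3_c29)) :=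
  Lgr Lrot54 (Lpr_df (f366349 IH) (Lpe (f353211 IH) (Lpr_df (f365308 IH) (Lpn (LP (LK LD1_c19 LD2_c38 LD3_c29))))))
theorem f366354 : Led Lsl_dt (LP (LK LD1_c25 LD2_c33 LD3_c53)) = (LP (LK LD1_c31 LD2_c54 LD3_c12)) :=
  Lgr Lrot42 (Lpr_df (f366349 IH) (Lpn (LP (LK LD1_c31 LD2_c54 LD3_c12))))
theorem f366273 : Led Lsl_ct (LP (LK LD1_c31 LD2_c54 LD3_c12)) = (LP (LK LD1_c25 LD2_c27 LD3_c38)) :=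
  Lre_c IH (LK LD1_c31 LD2_c54 LD3_c12) (LK LD1_c25 LD2_c27 LD3_c38) Lrfl Lrfl
theorem f365264 : Led Lsl_dt (LP (LK LD1_c25 LD2_c27 LD3_c38)) = (LP (LK LD1_c15 LD2_c33 LD3_c55)) :=
  Lre_d IH (LK LD1_c25 LD2_c27 LD3_c38) (LK LD1_c15 LD2_c33 LD3_c55) Lrfl Lrfl
theorem f365245 : Led Lsl_ct (LP (LK LD1_c15 LD2_c33 LD3_c55)) = (LP (LK LD1_c8 LD2_c16 LD3_c42)) :=
  Lre_c IH (LK LD1_c15 LD2_c33 LD3_c55) (LK LD1_c8 LD2_c16 LD3_c42) Lrfl Lrfl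
theorem f362184 : Led Lsl_df (LP (LK LD1_c5 LD2_c29 LD3_c28)) = (LP (LK LD1_c8 LD2_c16 LD3_c42)) :=
  Lgr Lrot78 (Lpr_ft (K26.f362178 IH) (Lpe (K23.f236186 IH) (Lpr_ft (K26.f236207 IH) (Lpn (LP (LK LD1_c8 LD2_c16 LD3_c42))))))
theorem f300960 : Led Lsl_dt (LP (LK LD1_c10 LD2_c50 LD3_c16)) = (LP (LK LD1_c19 LD2_c35 LD3_c35)) :=
  Lre_d IH (LK LD1_c10 LD2_c50 LD3_c16) (LK LD1_c19 LD2_c35 LD3_c35) Lrfl Lrfl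
theorem f360798 : Led Lsl_dt (LP (LK LD1_c19 LD2_c35 LD3_c32)) = (LP (LK LD1_c25 LD2_c33 LD3_c45)) :=
  Lgr Lrot42 (Lpr_df (f360791 IH) (Lpn (LP (LK LD1_c25 LD2_c33 LD3_c45))))
theorem f360769 : Led Lsl_dt (LP (LK LD1_c15 LD2_c38 LD3_c20)) = (LP (LK LD1_c25 LD2_c33 LD3_c46)) :=
  Lre_d IH (LK LD1_c15 LD2_c38 LD3_c20) (LK LD1_c25 LD2_c33 LD3_c46) Lrfl Lrfl
theorem f360878 : Led Lsl_ct (LP (LK LD1_c25 LD2_c33 LD3_c46)) = (LP (LK LD1_c19 LD2_c35 LD3_c35)) :=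
  Lgr Lrot7 (Lpe (f360769 IH) (Lpe (f323449 IH) (Lpe (f360798 IH) (Lpe (K26.f323402 IH) (Lpr_cf (K26.f360866 IH) (Lpe (K26.f359309 IH) (Lpr_dt (K26.f234760 IH) (Lpr_gt (K26.f359330 IH) (Lpr_dt (f300960 IH) (Lpn (LP (LK LD1_c19 LD2_c35 LD3_c35))))))))))))
theorem f360881 : Led Lsl_cf (LP (LK LD1_c25 LD2_c33 LD3_c46)) = (LP (LK LD1_c19 LD2_c35 LD3_c35)) :=
  Lgr Lrot11 (Lpr_ct (f360878 IH) (Lpn (LP (LK LD1_c19 LD2_c35 LD3_c35))))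
theorem f366362 : Led Lsl_af (LP (LK LD1_c25 LD2_c33 LD3_c46)) = (LP (LK LD1_c19 LD2_c38 LD3_c29)) :=
  Lgr Lrot109 (Lpr_cf (f360881 IH) (Lpe (f300960 IH) (Lpe (K21.f282906 IH) (Lpr_df (f362184 IH) (Lpe (f365245 IH) (Lpe (f365264 IH) (Lpe (f366273 IH) (Lpe (f366354 IH) (Lpr_ft (f366356 IH) (Lpn (LP (LK LD1_c19 LD2_c38 LD3_c29))))))))))))
theorem f326689 : Led Lsl_ct (LP (LK LD1_c10 LD2_c51 LD3_c48)) = (LP (LK LD1_c19 LD2_c38 LD3_c29)) :=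
  Lre_c IH (LK LD1_c10 LD2_c51 LD3_c48) (LK LD1_c19 LD2_c38 LD3_c29) Lrfl Lrfl
theorem f366364 : Led Lsl_at (LP (LK LD1_c19 LD2_c35 LD3_c35)) = (LP (LK LD1_c10 LD2_c51 LD3_c48)) :=
  Lgr Lrot107 (Lpe (f360878 IH) (Lpr_af (f366362 IH) (Lpe (f326689 IH) (Lpn (LP (LK LD1_c10 LD2_c51 LD3_c48))))))
theorem f326683 : Led Lsl_gt (LP (LK LD1_c19 LD2_c38 LD3_c28)) = (LP (LK LD1_c10 LD2_c51 LD3_c48)) :=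
  Lre_g IH (LK LD1_c19 LD2_c38 LD3_c28) (LK LD1_c10 LD2_c51 LD3_c48) Lrfl Lrfl
theorem f238061 : Led Lsl_et (LP (LK LD1_c17 LD2_c36 LD3_c25)) = (LP (LK LD1_c9 LD2_c33 LD3_c44)) :=
  Lre_e IH (LK LD1_c17 LD2_c36 LD3_c25) (LK LD1_c9 LD2_c33 LD3_c44) Lrfl Lrfl
theorem f308862 : Led Lsl_ct (LP (LK LD1_c9 LD2_c34 LD3_c10)) = (LP (LK LD1_c17 LD2_c36 LD3_c25)) :=
  Lgr Lrot15 (Lpe (K19.f308843 IH) (Lpr_cf (K19.f308850 IH) (Lpe (f238061 IH) (Lpn (LP (LK LD1_c17 LD2_c36 LD3_c25))))))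
theorem f308841 : Led Lsl_bt (LP (LK LD1_c9 LD2_c34 LD3_c10)) = (LP (LK LD1_c8 LD2_c40 LD3_c52)) :=
  Lgr Lrot127 (Lpr_bf (K19.f308839 IH) (Lpn (LP (LK LD1_c8 LD2_c40 LD3_c52))))
theorem f348114 : Led Lsl_bt (LP (LK LD1_c5 LD2_c30 LD3_c15)) = (LP (LK LD1_c10 LD2_c51 LD3_c54)) :=
  Lre_b IH (LK LD1_c5 LD2_c30 LD3_c15) (LK LD1_c10 LD2_c51 LD3_c54) Lrfl Lrfl
theorem f348040 : Led Lsl_ct (LP (LK LD1_c5 LD2_c30 LD3_c15)) = (LP (LK LD1_c10 LD2_c51 LD3_c55)) :=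
  Lre_c IH (LK LD1_c5 LD2_c30 LD3_c15) (LK LD1_c10 LD2_c51 LD3_c55) Lrfl Lrfl
theorem f347750 : Led Lsl_ct (LP (LK LD1_c10 LD2_c50 LD3_c38)) = (LP (LK LD1_c15 LD2_c58 LD3_c23)) :=
  Lgr Lrot59 (Lpr_cf (K23.f347745 IH) (Lpn (LP (LK LD1_c15 LD2_c58 LD3_c23))))
theorem f353205 : Led Lsl_gf (LP (LK LD1_c10 LD2_c51 LD3_c55)) = (LP (LK LD1_c15 LD2_c58 LD3_c23)) :=
  Lgr Lrot129 (Lpe (f348040 IH) (Lpr_bt (f348114 IH) (Lpr_gt (K23.f348106 IH) (Lpe (f308841 IH) (Lpr_ct (f308862 IH) (Lpr_gt (K19.f308772 IH) (Lpe (K19.f212576 IH) (Lpe (K23.f343750 IH) (Lpr_gt (K26.f353203 IH) (Lpr_ct (f347750 IH) (Lpn (LP (LK LD1_c15 LD2_c58 LD3_c23)))))))))))))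
theorem f348045 : Led Lsl_ct (LP (LK LD1_c10 LD2_c51 LD3_c55)) = (LP (LK LD1_c5 LD2_c30 LD3_c15)) :=
  Lre_c IH (LK LD1_c10 LD2_c51 LD3_c55) (LK LD1_c5 LD2_c30 LD3_c15) Lrfl Lrfl
theorem f347773 : Led Lsl_dt (LP (LK LD1_c25 LD2_c27 LD3_c36)) = (LP (LK LD1_c15 LD2_c58 LD3_c23)) :=
  Lgr Lrot42 (Lpr_df (K26.f347766 IH) (Lpn (LP (LK LD1_c15 LD2_c58 LD3_c23))))
theorem f353209 : Led Lsl_gf (LP (LK LD1_c19 LD2_c38 LD3_c48)) = (LP (LK LD1_c25 LD2_c27 LD3_c37)) :=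
  Lgr Lrot104 (Lpr_ct (K20.f295753 IH) (Lpe (K18.f295096 IH) (Lpe (K20.f236214 IH) (Lpe (K23.f246247 IH) (Lpe (f348045 IH) (Lpr_gf (f353205 IH) (Lpe (f347773 IH) (Lpr_gt (K26.f222262 IH) (Lpr_ct (K26.f298762 IH) (Lpn (LP (LK LD1_c25 LD2_c27 LD3_c37))))))))))))
theorem f301068 : Led Lsl_ct (LP (LK LD1_c28 LD2_c59 LD3_c37)) = (LP (LK LD1_c19 LD2_c38 LD3_c4)) :=
  Lre_c IH (LK LD1_c28 LD2_c59 LD3_c37) (LK LD1_c19 LD2_c38 LD3_c4) Lrfl Lrfl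
theorem f365315 : Led Lsl_gf (LP (LK LD1_c28 LD2_c59 LD3_c37)) = (LP (LK LD1_c19 LD2_c38 LD3_c29)) :=
  Lgr Lrot179 (Lpr_ct (f301068 IH) (Lpr_gt (K26.f301064 IH) (Lpr_ct (K17.f273696 IH) (Lpr_dt (K17.f273698 IH) (Lpe (K26.f273707 IH) (Lpe (K20.f298832 IH) (Lpe (K20.f295753 IH) (Lpr_gf (f353209 IH) (Lpr_dt (K26.f365302 IH) (Lpn (LP (LK LD1_c19 LD2_c38 LD3_c29))))))))))))
theorem f365322 : Led Lsl_df (LP (LK LD1_c19 LD2_c46 LD3_c24)) = (LP (LK LD1_c19 LD2_c38 LD3_c28)) :=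
  Lgr Lrot155 (Lpr_gt (f330161 IH) (Lpr_ct (K26.f330158 IH) (Lpe (K26.f330156 IH) (Lpr_ct (K26.f330160 IH) (Lpr_dt (K26.f330189 IH) (Lpe (f301068 IH) (Lpr_gf (f365315 IH) (Lpe (f326689 IH) (Lpe (f326683 IH) (Lpn (LP (LK LD1_c19 LD2_c38 LD3_c28))))))))))))
theorem f359314 : Led Lsl_cf (LP (LK LD1_c25 LD2_c34 LD3_c60)) = (LP (LK LD1_c19 LD2_c46 LD3_c24)) :=
  Lgr Lrot166 (Lpe (K24.f351404 IH) (Lpe (K22.f333789 IH) (Lpr_gt (K20.f243419 IH) (Lpe (K19.f301095 IH) (Lpr_ct (K26.f301080 IH) (Lpe (K26.f234760 IH) (Lpr_gf (K26.f359309 IH) (Lpe (K26.f348321 IH) (Lpe (f330161 IH) (Lpn (LP (LK LD1_c19 LD2_c46 LD3_c24))))))))))))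
theorem f365326 : Led Lsl_gt (LP (LK LD1_c10 LD2_c51 LD3_c51)) = (LP (LK LD1_c19 LD2_c38 LD3_c28)) :=
  Lgr Lrot49 (Lpe (K26.f236204 IH) (Lpe (K23.f347293 IH) (Lpr_cf (K23.f347278 IH) (Lpr_gt (K25.f347306 IH) (Lpr_dt (K18.f251797 IH) (Lpr_gt (K24.f251804 IH) (Lpr_dt (K24.f251807 IH) (Lpr_cf (f359314 IH) (Lpr_df (f365322 IH) (Lpn (LP (LK LD1_c19 LD2_c38 LD3_c28))))))))))))
theorem f366370 : Led Lsl_ff (LP (LK LD1_c19 LD2_c35 LD3_c35)) = (LP (LK LD1_c10 LD2_c51 LD3_c51)) :=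
  Lgr Lrot52 (Lpr_at (f366364 IH) (Lpe (f326683 IH) (Lpe (f365326 IH) (Lpn (LP (LK LD1_c10 LD2_c51 LD3_c51))))))
theorem f366381 : Led Lsl_ft (LP (LK LD1_c19 LD2_c35 LD3_c35)) = (LP (LK LD1_c10 LD2_c51 LD3_c51)) :=
  Lgr Lrot48 (Lpr_ff (f366370 IH) (Lpn (LP (LK LD1_c10 LD2_c51 LD3_c51))))
theorem f300959 : Led Lsl_dt (LP (LK LD1_c19 LD2_c35 LD3_c35)) = (LP (LK LD1_c10 LD2_c50 LD3_c16)) :=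
  Lre_d IH (LK LD1_c19 LD2_c35 LD3_c35) (LK LD1_c10 LD2_c50 LD3_c16) Lrfl Lrfl
theorem f300962 : Led Lsl_ct (LP (LK LD1_c10 LD2_c50 LD3_c16)) = (LP (LK LD1_c5 LD2_c29 LD3_c28)) :=
  Lre_c IH (LK LD1_c10 LD2_c50 LD3_c16) (LK LD1_c5 LD2_c29 LD3_c28) Lrfl Lrfl
theorem f365180 : Led Lsl_bt (LP (LK LD1_c4 LD2_c9 LD3_c39)) = (LP (LK LD1_c8 LD2_c19 LD3_c3)) :=
  Lre_b IH (LK LD1_c4 LD2_c9 LD3_c39) (LK LD1_c8 LD2_c19 LD3_c3) Lrfl Lrfl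
theorem f365181 : Led Lsl_ef (LP (LK LD1_c4 LD2_c9 LD3_c39)) = (LP (LK LD1_c8 LD2_c16 LD3_c42)) :=
  Lgr Lrot29 (Lpr_bt (f365180 IH) (Lpr_et (K26.f365178 IH) (Lpe (K26.f365168 IH) (Lpn (LP (LK LD1_c8 LD2_c16 LD3_c42))))))
theorem f365225 : Led Lsl_df (LP (LK LD1_c8 LD2_c16 LD3_c42)) = (LP (LK LD1_c5 LD2_c29 LD3_c28)) :=
  Lgr Lrot70 (Lpe (f365181 IH) (Lpr_dt (K26.f365211 IH) (Lpr_et (K26.f365221 IH) (Lpr_dt (K21.f326647 IH) (Lpe (K26.f362168 IH) (Lpn (LP (LK LD1_c5 LD2_c29 LD3_c28))))))))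
theorem f365267 : Led Lsl_dt (LP (LK LD1_c15 LD2_c33 LD3_c55)) = (LP (LK LD1_c25 LD2_c27 LD3_c38)) :=
  Lre_d IH (LK LD1_c15 LD2_c33 LD3_c55) (LK LD1_c25 LD2_c27 LD3_c38) Lrfl Lrfl
theorem f366353 : Led Lsl_ct (LP (LK LD1_c25 LD2_c27 LD3_c38)) = (LP (LK LD1_c31 LD2_c54 LD3_c12)) :=
  Lre_c IH (LK LD1_c25 LD2_c27 LD3_c38) (LK LD1_c31 LD2_c54 LD3_c12) Lrfl Lrfl
theorem f366388 : Led Lsl_af (LP (LK LD1_c15 LD2_c38 LD3_c28)) = (LP (LK LD1_c10 LD2_c51 LD3_c51)) :=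
  Lgr Lrot109 (Lpe (f306738 IH) (Lpr_df (f366349 IH) (Lpe (f366353 IH) (Lpe (f365267 IH) (Lpe (K26.f365239 IH) (Lpr_df (f365225 IH) (Lpe (f300962 IH) (Lpe (f300959 IH) (Lpr_ft (f366381 IH) (Lpn (LP (LK LD1_c10 LD2_c51 LD3_c51))))))))))))
theorem f366366 : Led Lsl_af (LP (LK LD1_c19 LD2_c35 LD3_c35)) = (LP (LK LD1_c10 LD2_c51 LD3_c48)) :=
  Lgr Lrot0 (Lpr_at (f366364 IH) (Lpn (LP (LK LD1_c10 LD2_c51 LD3_c48))))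
theorem f366392 : Led Lsl_ft (LP (LK LD1_c15 LD2_c38 LD3_c28)) = (LP (LK LD1_c10 LD2_c51 LD3_c48)) :=
  Lgr Lrot101 (Lpr_af (f366388 IH) (Lpe (f366381 IH) (Lpr_af (f366366 IH) (Lpn (LP (LK LD1_c10 LD2_c51 LD3_c48))))))
theorem f306700 : Led Lsl_dt (LP (LK LD1_c8 LD2_c18 LD3_c57)) = (LP (LK LD1_c15 LD2_c38 LD3_c28)) :=
  Lre_d IH (LK LD1_c8 LD2_c18 LD3_c57) (LK LD1_c15 LD2_c38 LD3_c28) Lrfl Lrfl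
theorem f366394 : Led Lsl_ff (LP (LK LD1_c8 LD2_c18 LD3_c57)) = (LP (LK LD1_c5 LD2_c30 LD3_c10)) :=
  Lgr Lrot19 (Lpr_dt (f306700 IH) (Lpr_ft (f366392 IH) (Lpr_dt (K26.f326682 IH) (Lpn (LP (LK LD1_c5 LD2_c30 LD3_c10))))))
theorem f366402 : Led Lsl_ft (LP (LK LD1_c8 LD2_c18 LD3_c57)) = (LP (LK LD1_c5 LD2_c30 LD3_c10)) :=
  Lgr Lrot48 (Lpr_ff (f366394 IH) (Lpn (LP (LK LD1_c5 LD2_c30 LD3_c10))))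
theorem f366368 : Led Lsl_af (LP (LK LD1_c10 LD2_c50 LD3_c16)) = (LP (LK LD1_c5 LD2_c30 LD3_c10)) :=
  Lgr Lrot117 (Lpr_dt (f300960 IH) (Lpr_at (f366364 IH) (Lpr_dt (K26.f326682 IH) (Lpn (LP (LK LD1_c5 LD2_c30 LD3_c10))))))
theorem f366378 : Led Lsl_ft (LP (LK LD1_c10 LD2_c50 LD3_c16)) = (LP (LK LD1_c5 LD2_c30 LD3_c13)) :=
  Lgr Lrot54 (Lpe (f300959 IH) (Lpr_ff (f366370 IH) (Lpe (K26.f236204 IH) (Lpn (LP (LK LD1_c5 LD2_c30 LD3_c13))))))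
theorem f366404 : Led Lsl_af (LP (LK LD1_c8 LD2_c18 LD3_c57)) = (LP (LK LD1_c5 LD2_c30 LD3_c13)) :=
  Lgr Lrot45 (Lpr_ft (f366402 IH) (Lpe (f366368 IH) (Lpr_ft (f366378 IH) (Lpn (LP (LK LD1_c5 LD2_c30 LD3_c13))))))
theorem f238596 : Led Lsl_bt (LP (LK LD1_c8 LD2_c18 LD3_c57)) = (LP (LK LD1_c15 LD2_c38 LD3_c27)) :=
  Lre_b IH (LK LD1_c8 LD2_c18 LD3_c57) (LK LD1_c15 LD2_c38 LD3_c27) Lrfl Lrfl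
theorem f238579 : Led Lsl_at (LP (LK LD1_c15 LD2_c38 LD3_c27)) = (LP (LK LD1_c25 LD2_c33 LD3_c51)) :=
  Lre_a IH (LK LD1_c15 LD2_c38 LD3_c27) (LK LD1_c25 LD2_c33 LD3_c51) Lrfl Lrfl
theorem f291327 : Led Lsl_bt (LP (LK LD1_c10 LD2_c51 LD3_c50)) = (LP (LK LD1_c5 LD2_c30 LD3_c13)) :=
  Lre_b IH (LK LD1_c10 LD2_c51 LD3_c50) (LK LD1_c5 LD2_c30 LD3_c13) Lrfl Lrfl
theorem f291340 : Led Lsl_at (LP (LK LD1_c19 LD2_c38 LD3_c33)) = (LP (LK LD1_c10 LD2_c51 LD3_c50)) :=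
  Lre_a IH (LK LD1_c19 LD2_c38 LD3_c33) (LK LD1_c10 LD2_c51 LD3_c50) Lrfl Lrfl
theorem f366499 : Led Lsl_bt (LP (LK LD1_c25 LD2_c33 LD3_c51)) = (LP (LK LD1_c19 LD2_c38 LD3_c33)) :=
  Lgr Lrot62 (Lpe (f238579 IH) (Lpe (f238596 IH) (Lpr_af (f366404 IH) (Lpe (f291327 IH) (Lpe (f291340 IH) (Lpn (LP (LK LD1_c19 LD2_c38 LD3_c33))))))))
theorem f306724 : Led Lsl_at (LP (LK LD1_c19 LD2_c24 LD3_c31)) = (LP (LK LD1_c10 LD2_c43 LD3_c29)) :=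
  Lre_a IH (LK LD1_c19 LD2_c24 LD3_c31) (LK LD1_c10 LD2_c43 LD3_c29) Lrfl Lrfl
theorem f306725 : Led Lsl_et (LP (LK LD1_c25 LD2_c33 LD3_c51)) = (LP (LK LD1_c19 LD2_c24 LD3_c31)) :=
  Lgr Lrot123 (Lpe (f238579 IH) (Lpr_ef (K26.f306715 IH) (Lpe (f306724 IH) (Lpn (LP (LK LD1_c19 LD2_c24 LD3_c31))))))
theorem f306730 : Led Lsl_ef (LP (LK LD1_c25 LD2_c33 LD3_c51)) = (LP (LK LD1_c19 LD2_c24 LD3_c31)) :=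
  Lgr Lrot88 (Lpr_et (f306725 IH) (Lpn (LP (LK LD1_c19 LD2_c24 LD3_c31))))
theorem f291310 : Led Lsl_bt (LP (LK LD1_c9 LD2_c41 LD3_c60)) = (LP (LK LD1_c17 LD2_c50 LD3_c30)) :=
  Lre_b IH (LK LD1_c9 LD2_c41 LD3_c60) (LK LD1_c17 LD2_c50 LD3_c30) Lrfl Lrfl
theorem f291328 : Led Lsl_cf (LP (LK LD1_c10 LD2_c51 LD3_c50)) = (LP (LK LD1_c17 LD2_c50 LD3_c30)) :=
  Lgr Lrot97 (Lpr_bt (f291327 IH) (Lpr_ct (K26.f236192 IH) (Lpr_bt (K23.f236182 IH) (Lpr_ct (f291323 IH) (Lpr_bt (f291310 IH) (Lpn (LP (LK LD1_c17 LD2_c50 LD3_c30))))))))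
theorem f261350 : Led Lsl_bt (LP (LK LD1_c10 LD2_c0 LD3_c43)) = (LP (LK LD1_c18 LD2_c17 LD3_c42)) :=
  Lre_b IH (LK LD1_c10 LD2_c0 LD3_c43) (LK LD1_c18 LD2_c17 LD3_c42) Lrfl Lrfl
theorem f291320 : Led Lsl_bt (LP (LK LD1_c17 LD2_c50 LD3_c30)) = (LP (LK LD1_c9 LD2_c41 LD3_c60)) :=
  Lre_b IH (LK LD1_c17 LD2_c50 LD3_c30) (LK LD1_c9 LD2_c41 LD3_c60) Lrfl Lrfl
theorem f291321 : Led Lsl_et (LP (LK LD1_c18 LD2_c17 LD3_c42)) = (LP (LK LD1_c17 LD2_c50 LD3_c30)) :=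
  Lgr Lrot74 (Lpe (f261350 IH) (Lpr_ef (f291317 IH) (Lpe (f291320 IH) (Lpn (LP (LK LD1_c17 LD2_c50 LD3_c30))))))
theorem f259350 : Led Lsl_bt (LP (LK LD1_c10 LD2_c47 LD3_c40)) = (LP (LK LD1_c5 LD2_c28 LD3_c18)) :=
  Lre_b IH (LK LD1_c10 LD2_c47 LD3_c40) (LK LD1_c5 LD2_c28 LD3_c18) Lrfl Lrfl
theorem f261356 : Led Lsl_ct (LP (LK LD1_c18 LD2_c17 LD3_c42)) = (LP (LK LD1_c10 LD2_c47 LD3_c40)) :=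
  Lgr Lrot83 (Lpe (f261350 IH) (Lpe (K15.f259586 IH) (Lpr_bf (K15.f261352 IH) (Lpe (K15.f236148 IH) (Lpe (f259350 IH) (Lpn (LP (LK LD1_c10 LD2_c47 LD3_c40))))))))
theorem f261370 : Led Lsl_cf (LP (LK LD1_c18 LD2_c17 LD3_c42)) = (LP (LK LD1_c10 LD2_c47 LD3_c40)) :=
  Lgr Lrot11 (Lpr_ct (f261356 IH) (Lpn (LP (LK LD1_c10 LD2_c47 LD3_c40))))
theorem f291338 : Led Lsl_et (LP (LK LD1_c10 LD2_c51 LD3_c50)) = (LP (LK LD1_c10 LD2_c47 LD3_c40)) :=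
  Lgr Lrot158 (Lpr_cf (f291328 IH) (Lpe (f291321 IH) (Lpr_cf (f261370 IH) (Lpn (LP (LK LD1_c10 LD2_c47 LD3_c40))))))
theorem f291349 : Led Lsl_ef (LP (LK LD1_c10 LD2_c51 LD3_c50)) = (LP (LK LD1_c10 LD2_c47 LD3_c40)) :=
  Lgr Lrot88 (Lpr_et (f291338 IH) (Lpn (LP (LK LD1_c10 LD2_c47 LD3_c40))))
theorem f291334 : Led Lsl_at (LP (LK LD1_c10 LD2_c51 LD3_c50)) = (LP (LK LD1_c19 LD2_c38 LD3_c33)) :=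
  Lre_a IH (LK LD1_c10 LD2_c51 LD3_c50) (LK LD1_c19 LD2_c38 LD3_c33) Lrfl Lrfl
theorem f261374 : Led Lsl_at (LP (LK LD1_c19 LD2_c31 LD3_c34)) = (LP (LK LD1_c10 LD2_c47 LD3_c40)) :=
  Lre_a IH (LK LD1_c19 LD2_c31 LD3_c34) (LK LD1_c10 LD2_c47 LD3_c40) Lrfl Lrfl
theorem f291352 : Led Lsl_et (LP (LK LD1_c19 LD2_c38 LD3_c33)) = (LP (LK LD1_c19 LD2_c31 LD3_c34)) :=
  Lgr Lrot123 (Lpe (f291334 IH) (Lpr_ef (f291349 IH) (Lpe (f261374 IH) (Lpn (LP (LK LD1_c19 LD2_c31 LD3_c34))))))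
theorem f366503 : Led Lsl_bf (LP (LK LD1_c19 LD2_c24 LD3_c31)) = (LP (LK LD1_c19 LD2_c31 LD3_c34)) :=
  Lgr Lrot96 (Lpe (f306730 IH) (Lpr_bt (f366499 IH) (Lpr_et (f291352 IH) (Lpn (LP (LK LD1_c19 LD2_c31 LD3_c34))))))
theorem f350256 : Led Lsl_at (LP (LK LD1_c11 LD2_c56 LD3_c50)) = (LP (LK LD1_c21 LD2_c1 LD3_c47)) :=
  Lre_a IH (LK LD1_c11 LD2_c56 LD3_c50) (LK LD1_c21 LD2_c1 LD3_c47) Lrfl Lrfl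
theorem f350285 : Led Lsl_cf (LP (LK LD1_c19 LD2_c24 LD3_c31)) = (LP (LK LD1_c21 LD2_c1 LD3_c47)) :=
  Lgr Lrot1 (Lpr_at (f306724 IH) (Lpr_ct (K26.f350269 IH) (Lpr_at (f350256 IH) (Lpn (LP (LK LD1_c21 LD2_c1 LD3_c47))))))
theorem f364667 : Led Lsl_ff (LP (LK LD1_c19 LD2_c31 LD3_c24)) = (LP (LK LD1_c19 LD2_c24 LD3_c31)) :=
  Lgr Lrot23 (Lpr_ct (K26.f314306 IH) (Lpr_ft (K26.f364663 IH) (Lpe (f350285 IH) (Lpn (LP (LK LD1_c19 LD2_c24 LD3_c31))))))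
theorem f175073 : Led Lsl_bt (LP (LK LD1_c5 LD2_c28 LD3_c12)) = (LP (LK LD1_c10 LD2_c47 LD3_c36)) :=
  Lre_b IH (LK LD1_c5 LD2_c28 LD3_c12) (LK LD1_c10 LD2_c47 LD3_c36) Lrfl Lrfl
theorem f192882 : Led Lsl_bt (LP (LK LD1_c10 LD2_c20 LD3_c44)) = (LP (LK LD1_c5 LD2_c15 LD3_c43)) :=
  Lre_b IH (LK LD1_c10 LD2_c20 LD3_c44) (LK LD1_c5 LD2_c15 LD3_c43) Lrfl Lrfl
theorem f292108 : Led Lsl_at (LP (LK LD1_c18 LD2_c46 LD3_c34)) = (LP (LK LD1_c10 LD2_c20 LD3_c44)) :=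
  Lre_a IH (LK LD1_c18 LD2_c46 LD3_c34) (LK LD1_c10 LD2_c20 LD3_c44) Lrfl Lrfl
theorem f364641 : Led Lsl_bt (LP (LK LD1_c19 LD2_c31 LD3_c24)) = (LP (LK LD1_c18 LD2_c46 LD3_c34)) :=
  Lgr Lrot62 (Lpe (K26.f314308 IH) (Lpe (f175073 IH) (Lpr_af (K26.f364639 IH) (Lpe (f192882 IH) (Lpe (f292108 IH) (Lpn (LP (LK LD1_c18 LD2_c46 LD3_c34))))))))
theorem f366505 : Led Lsl_ft (LP (LK LD1_c18 LD2_c46 LD3_c34)) = (LP (LK LD1_c19 LD2_c31 LD3_c34)) :=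
  Lgr Lrot75 (Lpe (f364641 IH) (Lpr_ff (f364667 IH) (Lpr_bf (f366503 IH) (Lpn (LP (LK LD1_c19 LD2_c31 LD3_c34))))))
theorem f366509 : Led Lsl_ff (LP (LK LD1_c18 LD2_c46 LD3_c34)) = (LP (LK LD1_c19 LD2_c31 LD3_c34)) :=
  Lgr Lrot3 (Lpr_ft (f366505 IH) (Lpn (LP (LK LD1_c19 LD2_c31 LD3_c34))))
theorem f291729 : Led Lsl_et (LP (LK LD1_c15 LD2_c24 LD3_c47)) = (LP (LK LD1_c8 LD2_c11 LD3_c9)) :=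
  Lre_e IH (LK LD1_c15 LD2_c24 LD3_c47) (LK LD1_c8 LD2_c11 LD3_c9) Lrfl Lrfl
theorem f291730 : Led Lsl_cf (LP (LK LD1_c15 LD2_c24 LD3_c47)) = (LP (LK LD1_c10 LD2_c15 LD3_c33)) :=
  Lgr Lrot39 (Lpr_et (f291729 IH) (Lpr_ct (K20.f291711 IH) (Lpr_et (K18.f291673 IH) (Lpn (LP (LK LD1_c10 LD2_c15 LD3_c33))))))
theorem f292083 : Led Lsl_ct (LP (LK LD1_c15 LD2_c24 LD3_c47)) = (LP (LK LD1_c10 LD2_c15 LD3_c33)) :=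
  Lgr Lrot59 (Lpr_cf (f291730 IH) (Lpn (LP (LK LD1_c10 LD2_c15 LD3_c33))))
theorem f292086 : Led Lsl_bt (LP (LK LD1_c25 LD2_c17 LD3_c1)) = (LP (LK LD1_c15 LD2_c24 LD3_c47)) :=
  Lre_b IH (LK LD1_c25 LD2_c17 LD3_c1) (LK LD1_c15 LD2_c24 LD3_c47) Lrfl Lrfl
theorem f291681 : Led Lsl_bt (LP (LK LD1_c10 LD2_c20 LD3_c42)) = (LP (LK LD1_c18 LD2_c46 LD3_c29)) :=
  Lre_b IH (LK LD1_c10 LD2_c20 LD3_c42) (LK LD1_c18 LD2_c46 LD3_c29) Lrfl Lrfl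
theorem f292087 : Led Lsl_cf (LP (LK LD1_c25 LD2_c17 LD3_c1)) = (LP (LK LD1_c18 LD2_c46 LD3_c29)) :=
  Lgr Lrot97 (Lpr_bt (f292086 IH) (Lpr_ct (f292083 IH) (Lpe (K18.f291674 IH) (Lpr_ct (K26.f260615 IH) (Lpr_bt (f291681 IH) (Lpn (LP (LK LD1_c18 LD2_c46 LD3_c29))))))))
theorem f292094 : Led Lsl_et (LP (LK LD1_c25 LD2_c17 LD3_c1)) = (LP (LK LD1_c15 LD2_c24 LD3_c45)) :=
  Lre_e IH (LK LD1_c25 LD2_c17 LD3_c1) (LK LD1_c15 LD2_c24 LD3_c45) Lrfl Lrfl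
theorem f292095 : Led Lsl_et (LP (LK LD1_c10 LD2_c20 LD3_c44)) = (LP (LK LD1_c18 LD2_c46 LD3_c29)) :=
  Lre_e IH (LK LD1_c10 LD2_c20 LD3_c44) (LK LD1_c18 LD2_c46 LD3_c29) Lrfl Lrfl
theorem f292096 : Led Lsl_ct (LP (LK LD1_c15 LD2_c24 LD3_c45)) = (LP (LK LD1_c10 LD2_c20 LD3_c44)) :=
  Lgr Lrot15 (Lpe (f292094 IH) (Lpr_cf (f292087 IH) (Lpe (f292095 IH) (Lpn (LP (LK LD1_c10 LD2_c20 LD3_c44))))))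
theorem f292102 : Led Lsl_at (LP (LK LD1_c25 LD2_c16 LD3_c61)) = (LP (LK LD1_c15 LD2_c24 LD3_c45)) :=
  Lre_a IH (LK LD1_c25 LD2_c16 LD3_c61) (LK LD1_c15 LD2_c24 LD3_c45) Lrfl Lrfl
theorem f292103 : Led Lsl_at (LP (LK LD1_c10 LD2_c20 LD3_c44)) = (LP (LK LD1_c18 LD2_c46 LD3_c34)) :=
  Lre_a IH (LK LD1_c10 LD2_c20 LD3_c44) (LK LD1_c18 LD2_c46 LD3_c34) Lrfl Lrfl
theorem f292104 : Led Lsl_cf (LP (LK LD1_c25 LD2_c16 LD3_c61)) = (LP (LK LD1_c18 LD2_c46 LD3_c34)) :=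
  Lgr Lrot1 (Lpr_at (f292102 IH) (Lpr_ct (f292096 IH) (Lpr_at (f292103 IH) (Lpn (LP (LK LD1_c18 LD2_c46 LD3_c34))))))
theorem f261379 : Led Lsl_at (LP (LK LD1_c18 LD2_c17 LD3_c42)) = (LP (LK LD1_c27 LD2_c56 LD3_c38)) :=
  Lre_a IH (LK LD1_c18 LD2_c17 LD3_c42) (LK LD1_c27 LD2_c56 LD3_c38) Lrfl Lrfl
theorem f261380 : Led Lsl_ct (LP (LK LD1_c27 LD2_c56 LD3_c38)) = (LP (LK LD1_c19 LD2_c31 LD3_c34)) :=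
  Lgr Lrot111 (Lpe (f261379 IH) (Lpr_cf (f261370 IH) (Lpe (f261374 IH) (Lpn (LP (LK LD1_c19 LD2_c31 LD3_c34))))))
theorem f366515 : Led Lsl_ft (LP (LK LD1_c25 LD2_c16 LD3_c61)) = (LP (LK LD1_c27 LD2_c56 LD3_c38)) :=
  Lgr Lrot4 (Lpr_cf (f292104 IH) (Lpr_ff (f366509 IH) (Lpe (f261380 IH) (Lpn (LP (LK LD1_c27 LD2_c56 LD3_c38))))))
theorem f292115 : Led Lsl_at (LP (LK LD1_c15 LD2_c24 LD3_c45)) = (LP (LK LD1_c25 LD2_c16 LD3_c61)) :=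
  Lre_a IH (LK LD1_c15 LD2_c24 LD3_c45) (LK LD1_c25 LD2_c16 LD3_c61) Lrfl Lrfl
theorem f261366 : Led Lsl_at (LP (LK LD1_c27 LD2_c56 LD3_c38)) = (LP (LK LD1_c18 LD2_c17 LD3_c42)) :=
  Lre_a IH (LK LD1_c27 LD2_c56 LD3_c38) (LK LD1_c18 LD2_c17 LD3_c42) Lrfl Lrfl
theorem f366521 : Led Lsl_ff (LP (LK LD1_c15 LD2_c24 LD3_c45)) = (LP (LK LD1_c18 LD2_c17 LD3_c42)) :=
  Lgr Lrot30 (Lpr_at (f292115 IH) (Lpr_ft (f366515 IH) (Lpr_at (f261366 IH) (Lpn (LP (LK LD1_c18 LD2_c17 LD3_c42))))))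
theorem f366525 : Led Lsl_ft (LP (LK LD1_c15 LD2_c24 LD3_c45)) = (LP (LK LD1_c18 LD2_c17 LD3_c42)) :=
  Lgr Lrot48 (Lpr_ff (f366521 IH) (Lpn (LP (LK LD1_c18 LD2_c17 LD3_c42))))
theorem f292106 : Led Lsl_dt (LP (LK LD1_c25 LD2_c17 LD3_c0)) = (LP (LK LD1_c15 LD2_c24 LD3_c45)) :=
  Lre_d IH (LK LD1_c25 LD2_c17 LD3_c0) (LK LD1_c15 LD2_c24 LD3_c45) Lrfl Lrfl
theorem f230846 : Led Lsl_bt (LP (LK LD1_c25 LD2_c17 LD3_c35)) = (LP (LK LD1_c15 LD2_c25 LD3_c16)) :=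
  Lre_b IH (LK LD1_c25 LD2_c17 LD3_c35) (LK LD1_c15 LD2_c25 LD3_c16) Lrfl Lrfl
theorem f291300 : Led Lsl_dt (LP (LK LD1_c18 LD2_c17 LD3_c42)) = (LP (LK LD1_c25 LD2_c17 LD3_c35)) :=
  Lgr Lrot79 (Lpe (f261350 IH) (Lpr_df (K17.f291292 IH) (Lpe (f230846 IH) (Lpn (LP (LK LD1_c25 LD2_c17 LD3_c35))))))
theorem f366529 : Led Lsl_ff (LP (LK LD1_c25 LD2_c17 LD3_c0)) = (LP (LK LD1_c25 LD2_c17 LD3_c35)) :=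
  Lgr Lrot19 (Lpr_dt (f292106 IH) (Lpr_ft (f366525 IH) (Lpr_dt (f291300 IH) (Lpn (LP (LK LD1_c25 LD2_c17 LD3_c35))))))
theorem f291740 : Led Lsl_bt (LP (LK LD1_c25 LD2_c17 LD3_c0)) = (LP (LK LD1_c15 LD2_c24 LD3_c46)) :=
  Lre_b IH (LK LD1_c25 LD2_c17 LD3_c0) (LK LD1_c15 LD2_c24 LD3_c46) Lrfl Lrfl
theorem f230841 : Led Lsl_bt (LP (LK LD1_c15 LD2_c25 LD3_c16)) = (LP (LK LD1_c25 LD2_c17 LD3_c35)) :=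
  Lre_b IH (LK LD1_c15 LD2_c25 LD3_c16) (LK LD1_c25 LD2_c17 LD3_c35) Lrfl Lrfl
theorem f366533 : Led Lsl_ft (LP (LK LD1_c15 LD2_c24 LD3_c46)) = (LP (LK LD1_c15 LD2_c25 LD3_c16)) :=
  Lgr Lrot75 (Lpe (f291740 IH) (Lpr_ff (f366529 IH) (Lpe (f230841 IH) (Lpn (LP (LK LD1_c15 LD2_c25 LD3_c16))))))
theorem f259547 : Led Lsl_dt (LP (LK LD1_c15 LD2_c24 LD3_c21)) = (LP (LK LD1_c8 LD2_c10 LD3_c55)) :=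
  Lre_d IH (LK LD1_c15 LD2_c24 LD3_c21) (LK LD1_c8 LD2_c10 LD3_c55) Lrfl Lrfl
theorem f291751 : Led Lsl_gt (LP (LK LD1_c15 LD2_c24 LD3_c46)) = (LP (LK LD1_c15 LD2_c24 LD3_c21)) :=
  Lgr Lrot180 (Lpr_ct (K20.f291737 IH) (Lpe (K17.f284731 IH) (Lpr_dt (K17.f247434 IH) (Lpe (K14.f247443 IH) (Lpr_dt (K9.f44398 IH) (Lpe (K9.f50632 IH) (Lpe (K9.f50620 IH) (Lpr_gf (K15.f259550 IH) (Lpe (f259547 IH) (Lpn (LP (LK LD1_c15 LD2_c24 LD3_c21))))))))))))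
theorem f366539 : Led Lsl_af (LP (LK LD1_c15 LD2_c24 LD3_c49)) = (LP (LK LD1_c15 LD2_c25 LD3_c16)) :=
  Lgr Lrot31 (Lpr_gf (K21.f292001 IH) (Lpe (f291751 IH) (Lpr_ft (f366533 IH) (Lpn (LP (LK LD1_c15 LD2_c25 LD3_c16))))))
theorem f230703 : Led Lsl_dt (LP (LK LD1_c10 LD2_c16 LD3_c36)) = (LP (LK LD1_c5 LD2_c13 LD3_c8)) :=
  Lre_d IH (LK LD1_c10 LD2_c16 LD3_c36) (LK LD1_c5 LD2_c13 LD3_c8) Lrfl Lrfl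
theorem f291747 : Led Lsl_cf (LP (LK LD1_c10 LD2_c16 LD3_c36)) = (LP (LK LD1_c15 LD2_c24 LD3_c49)) :=
  Lgr Lrot55 (Lpr_dt (f230703 IH) (Lpe (K17.f230742 IH) (Lpr_dt (K14.f251664 IH) (Lpr_ct (K16.f271198 IH) (Lpe (K20.f271194 IH) (Lpe (K21.f291726 IH) (Lpr_dt (K20.f265274 IH) (Lpr_ct (K20.f291737 IH) (Lpr_dt (K15.f265851 IH) (Lpe (K15.f265835 IH) (Lpr_dt (K15.f265789 IH) (Lpr_ct (K15.f231302 IH) (Lpe (K16.f265777 IH) (Lpr_ct (K13.f187884 IH) (Lpr_dt (K21.f265807 IH) (Lpn (LP (LK LD1_c15 LD2_c24 LD3_c49))))))))))))))))))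
theorem f366543 : Led Lsl_at (LP (LK LD1_c10 LD2_c16 LD3_c36)) = (LP (LK LD1_c10 LD2_c1 LD3_c49)) :=
  Lgr Lrot107 (Lpr_cf (f291747 IH) (Lpr_af (f366539 IH) (Lpe (K17.f230847 IH) (Lpn (LP (LK LD1_c10 LD2_c1 LD3_c49))))))
theorem f290852 : Led Lsl_gt (LP (LK LD1_c5 LD2_c18 LD3_c31)) = (LP (LK LD1_c10 LD2_c1 LD3_c49)) :=
  Lgr Lrot49 (Lpe (K17.f178719 IH) (Lpe (K9.f165817 IH) (Lpe (K9.f184017 IH) (Lpr_gt (K14.f247714 IH) (Lpe (K14.f33301 IH) (Lpr_gt (K17.f290848 IH) (Lpr_dt (K16.f191765 IH) (Lpr_cf (K16.f274839 IH) (Lpe (K17.f230834 IH) (Lpn (LP (LK LD1_c10 LD2_c1 LD3_c49))))))))))))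
theorem f278554 : Led Lsl_gf (LP (LK LD1_c5 LD2_c18 LD3_c31)) = (LP (LK LD1_c10 LD2_c1 LD3_c52)) :=
  Lgr Lrot143 (Lpr_dt (K17.f32068 IH) (Lpe (K9.f32913 IH) (Lpe (K9.f178701 IH) (Lpe (K14.f170843 IH) (Lpe (K14.f253972 IH) (Lpr_gf (K15.f242998 IH) (Lpe (K18.f183833 IH) (Lpr_gt (K16.f278532 IH) (Lpr_dt (K17.f186750 IH) (Lpn (LP (LK LD1_c10 LD2_c1 LD3_c52))))))))))))
theorem f366549 : Led Lsl_ff (LP (LK LD1_c10 LD2_c16 LD3_c36)) = (LP (LK LD1_c10 LD2_c1 LD3_c52)) :=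
  Lgr Lrot52 (Lpr_at (f366543 IH) (Lpe (f290852 IH) (Lpr_gf (f278554 IH) (Lpn (LP (LK LD1_c10 LD2_c1 LD3_c52))))))
theorem f366557 : Led Lsl_ft (LP (LK LD1_c10 LD2_c16 LD3_c36)) = (LP (LK LD1_c10 LD2_c1 LD3_c52)) :=
  Lgr Lrot48 (Lpr_ff (f366549 IH) (Lpn (LP (LK LD1_c10 LD2_c1 LD3_c52))))
theorem f247482 : Led Lsl_cf (LP (LK LD1_c8 LD2_c15 LD3_c45)) = (LP (LK LD1_c10 LD2_c1 LD3_c58)) :=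
  Lgr Lrot1 (Lpe (K20.f50639 IH) (Lpr_ct (K20.f230711 IH) (Lpr_at (K14.f247463 IH) (Lpn (LP (LK LD1_c10 LD2_c1 LD3_c58))))))
theorem f230722 : Led Lsl_af (LP (LK LD1_c9 LD2_c39 LD3_c27)) = (LP (LK LD1_c10 LD2_c16 LD3_c42)) :=
  Lgr Lrot0 (Lpr_at (K12.f230720 IH) (Lpn (LP (LK LD1_c10 LD2_c16 LD3_c42))))
theorem f247489 : Led Lsl_ff (LP (LK LD1_c10 LD2_c16 LD3_c42)) = (LP (LK LD1_c10 LD2_c1 LD3_c58)) :=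
  Lgr Lrot30 (Lpe (f230722 IH) (Lpr_ft (K14.f230716 IH) (Lpr_at (K14.f247463 IH) (Lpn (LP (LK LD1_c10 LD2_c1 LD3_c58))))))
theorem f247511 : Led Lsl_dt (LP (LK LD1_c5 LD2_c16 LD3_c17)) = (LP (LK LD1_c10 LD2_c1 LD3_c58)) :=
  Lgr Lrot60 (Lpr_ff (K12.f191616 IH) (Lpr_df (K12.f230724 IH) (Lpr_ff (f247489 IH) (Lpn (LP (LK LD1_c10 LD2_c1 LD3_c58))))))
theorem f291895 : Led Lsl_gt (LP (LK LD1_c10 LD2_c16 LD3_c36)) = (LP (LK LD1_c5 LD2_c16 LD3_c18)) :=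
  Lgr Lrot94 (Lpr_cf (f291747 IH) (Lpr_gt (K21.f291892 IH) (Lpr_dt (K21.f47976 IH) (Lpr_gt (K20.f194353 IH) (Lpr_dt (K20.f49253 IH) (Lpr_cf (f247482 IH) (Lpe (f247511 IH) (Lpe (K10.f170058 IH) (Lpe (K14.f32811 IH) (Lpn (LP (LK LD1_c5 LD2_c16 LD3_c18))))))))))))
theorem f366563 : Led Lsl_af (LP (LK LD1_c10 LD2_c16 LD3_c33)) = (LP (LK LD1_c10 LD2_c1 LD3_c52)) :=
  Lgr Lrot31 (Lpe (K15.f265855 IH) (Lpe (f291895 IH) (Lpr_ft (f366557 IH) (Lpn (LP (LK LD1_c10 LD2_c1 LD3_c52))))))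
theorem f366545 : Led Lsl_af (LP (LK LD1_c10 LD2_c16 LD3_c36)) = (LP (LK LD1_c10 LD2_c1 LD3_c49)) :=
  Lgr Lrot0 (Lpr_at (f366543 IH) (Lpn (LP (LK LD1_c10 LD2_c1 LD3_c49))))
theorem f366571 : Led Lsl_ft (LP (LK LD1_c10 LD2_c16 LD3_c33)) = (LP (LK LD1_c10 LD2_c1 LD3_c49)) :=
  Lgr Lrot101 (Lpr_af (f366563 IH) (Lpe (f366557 IH) (Lpr_af (f366545 IH) (Lpn (LP (LK LD1_c10 LD2_c1 LD3_c49))))))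
theorem f366575 : Led Lsl_ff (LP (LK LD1_c5 LD2_c13 LD3_c7)) = (LP (LK LD1_c5 LD2_c5 LD3_c22)) :=
  Lgr Lrot19 (Lpr_dt (K20.f185418 IH) (Lpr_ft (f366571 IH) (Lpr_dt (K17.f230834 IH) (Lpn (LP (LK LD1_c5 LD2_c5 LD3_c22))))))
theorem f366584 : Led Lsl_ft (LP (LK LD1_c5 LD2_c13 LD3_c7)) = (LP (LK LD1_c5 LD2_c5 LD3_c22)) :=
  Lgr Lrot48 (Lpr_ff (f366575 IH) (Lpn (LP (LK LD1_c5 LD2_c5 LD3_c22))))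
theorem f366590 : Led Lsl_ff (LP (LK LD1_c5 LD2_c1 LD3_c15)) = (LP (LK LD1_c9 LD2_c39 LD3_c20)) :=
  Lgr Lrot23 (Lpr_ct (K15.f265849 IH) (Lpr_ft (f366584 IH) (Lpe (K16.f274839 IH) (Lpn (LP (LK LD1_c9 LD2_c39 LD3_c20))))))
theorem f290850 : Led Lsl_gf (LP (LK LD1_c4 LD2_c53 LD3_c57)) = (LP (LK LD1_c9 LD2_c39 LD3_c20)) :=
  Lgr Lrot143 (Lpr_dt (K15.f44465 IH) (Lpr_cf (K15.f201318 IH) (Lpe (K15.f46245 IH) (Lpe (K15.f259577 IH) (Lpe (K10.f192134 IH) (Lpe (K14.f28380 IH) (Lpr_cf (K14.f247678 IH) (Lpr_gt (K17.f290848 IH) (Lpr_dt (K16.f191765 IH) (Lpn (LP (LK LD1_c9 LD2_c39 LD3_c20))))))))))))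
theorem f366597 : Led Lsl_at (LP (LK LD1_c5 LD2_c1 LD3_c15)) = (LP (LK LD1_c5 LD2_c10 LD3_c3)) :=
  Lgr Lrot26 (Lpr_ff (f366590 IH) (Lpe (f290850 IH) (Lpr_gt (K16.f212273 IH) (Lpn (LP (LK LD1_c5 LD2_c10 LD3_c3))))))
theorem f363919 : Led Lsl_ft (LP (LK LD1_c5 LD2_c10 LD3_c3)) = (LP (LK LD1_c5 LD2_c1 LD3_c16)) :=
  Lgr Lrot75 (Lpe (K14.f186743 IH) (Lpr_ff (K26.f363917 IH) (Lpr_bf (K14.f250060 IH) (Lpn (LP (LK LD1_c5 LD2_c1 LD3_c16))))))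
theorem f366607 : Led Lsl_af (LP (LK LD1_c9 LD2_c39 LD3_c20)) = (LP (LK LD1_c5 LD2_c1 LD3_c16)) :=
  Lgr Lrot45 (Lpe (f366590 IH) (Lpr_at (f366597 IH) (Lpr_ft (f363919 IH) (Lpn (LP (LK LD1_c5 LD2_c1 LD3_c16))))))
theorem f366609 : Led Lsl_at (LP (LK LD1_c9 LD2_c39 LD3_c20)) = (LP (LK LD1_c5 LD2_c1 LD3_c16)) :=
  Lgr Lrot100 (Lpr_af (f366607 IH) (Lpn (LP (LK LD1_c5 LD2_c1 LD3_c16))))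
theorem f366613 : Led Lsl_af (LP (LK LD1_c5 LD2_c17 LD3_c18)) = (LP (LK LD1_c4 LD2_c18 LD3_c55)) :=
  Lgr Lrot117 (Lpr_dt (K16.f191765 IH) (Lpr_at (f366609 IH) (Lpr_dt (K14.f251664 IH) (Lpn (LP (LK LD1_c4 LD2_c18 LD3_c55))))))
theorem f366619 : Led Lsl_at (LP (LK LD1_c2 LD2_c35 LD3_c24)) = (LP (LK LD1_c2 LD2_c23 LD3_c3)) :=
  Lgr Lrot80 (Lpe (K16.f182076 IH) (Lpr_af (f366613 IH) (Lpe (K15.f251671 IH) (Lpn (LP (LK LD1_c2 LD2_c23 LD3_c3))))))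
theorem f366625 : Led Lsl_af (LP (LK LD1_c2 LD2_c10 LD3_c45)) = (LP (LK LD1_c1 LD2_c14 LD3_c19)) :=
  Lgr Lrot68 (Lpr_ct (K14.f182073 IH) (Lpr_at (f366619 IH) (Lpr_ct (K10.f191024 IH) (Lpn (LP (LK LD1_c1 LD2_c14 LD3_c19))))))
theorem f366631 : Led Lsl_at (LP (LK LD1_c4 LD2_c27 LD3_c8)) = (LP (LK LD1_c2 LD2_c34 LD3_c35)) :=
  Lgr Lrot51 (Lpe (K14.f46447 IH) (Lpr_af (f366625 IH) (Lpe (K14.f190926 IH) (Lpn (LP (LK LD1_c2 LD2_c34 LD3_c35))))))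
theorem f283803 : Led Lsl_bf (LP (LK LD1_c4 LD2_c27 LD3_c8)) = (LP (LK LD1_c4 LD2_c2 LD3_c33)) :=
  Lgr Lrot93 (Lpr_dt (K14.f44281 IH) (Lpr_bt (K17.f283801 IH) (Lpr_dt (K17.f45885 IH) (Lpn (LP (LK LD1_c4 LD2_c2 LD3_c33))))))
theorem f165852 : Led Lsl_bt (LP (LK LD1_c2 LD2_c34 LD3_c23)) = (LP (LK LD1_c2 LD2_c28 LD3_c23)) :=
  Lgr Lrot95 (Lpe (K14.f32883 IH) (Lpr_bf (K9.f165847 IH) (Lpe (K15.f3737 IH) (Lpn (LP (LK LD1_c2 LD2_c28 LD3_c23))))))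
theorem f366633 : Led Lsl_af (LP (LK LD1_c4 LD2_c2 LD3_c33)) = (LP (LK LD1_c2 LD2_c28 LD3_c23)) :=
  Lgr Lrot36 (Lpe (f283803 IH) (Lpr_at (f366631 IH) (Lpr_bt (K15.f215350 IH) (Lpe (K26.f362130 IH) (Lpr_bt (f165852 IH) (Lpn (LP (LK LD1_c2 LD2_c28 LD3_c23))))))))
theorem f366641 : Led Lsl_ft (LP (LK LD1_c2 LD2_c34 LD3_c27)) = (LP (LK LD1_c2 LD2_c28 LD3_c23)) :=
  Lgr Lrot2 (Lpe (K15.f265904 IH) (Lpr_gt (K17.f265902 IH) (Lpr_af (f366633 IH) (Lpn (LP (LK LD1_c2 LD2_c28 LD3_c23))))))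
theorem f366647 : Led Lsl_ff (LP (LK LD1_c2 LD2_c34 LD3_c27)) = (LP (LK LD1_c2 LD2_c28 LD3_c23)) :=
  Lgr Lrot3 (Lpr_ft (f366641 IH) (Lpn (LP (LK LD1_c2 LD2_c28 LD3_c23))))
theorem f366653 : Led Lsl_at (LP (LK LD1_c2 LD2_c34 LD3_c27)) = (LP (LK LD1_c2 LD2_c28 LD3_c15)) :=
  Lgr Lrot26 (Lpr_ff (f366647 IH) (Lpr_gt (K23.f330314 IH) (Lpr_gt (K15.f184127 IH) (Lpn (LP (LK LD1_c2 LD2_c28 LD3_c15))))))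
theorem f366635 : Led Lsl_at (LP (LK LD1_c4 LD2_c2 LD3_c33)) = (LP (LK LD1_c2 LD2_c28 LD3_c23)) :=
  Lgr Lrot100 (Lpr_af (f366633 IH) (Lpn (LP (LK LD1_c2 LD2_c28 LD3_c23))))
theorem f366665 : Led Lsl_ff (LP (LK LD1_c4 LD2_c2 LD3_c33)) = (LP (LK LD1_c2 LD2_c28 LD3_c15)) :=
  Lgr Lrot30 (Lpr_at (f366635 IH) (Lpe (f366647 IH) (Lpr_at (f366653 IH) (Lpn (LP (LK LD1_c2 LD2_c28 LD3_c15))))))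
theorem f366673 : Led Lsl_ft (LP (LK LD1_c4 LD2_c2 LD3_c33)) = (LP (LK LD1_c2 LD2_c28 LD3_c15)) :=
  Lgr Lrot48 (Lpr_ff (f366665 IH) (Lpn (LP (LK LD1_c2 LD2_c28 LD3_c15))))
theorem f366677 : Led Lsl_ff (LP (LK LD1_c1 LD2_c58 LD3_c16)) = (LP (LK LD1_c1 LD2_c11 LD3_c21)) :=
  Lgr Lrot19 (Lpr_dt (K17.f45885 IH) (Lpr_ft (f366673 IH) (Lpr_dt (K15.f3779 IH) (Lpn (LP (LK LD1_c1 LD2_c11 LD3_c21))))))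
theorem f364900 : Led Lsl_ff (LP (LK LD1_c2 LD2_c28 LD3_c16)) = (LP (LK LD1_c2 LD2_c38 LD3_c16)) :=
  Lgr Lrot19 (Lpr_dt (K13.f184767 IH) (Lpr_ft (K26.f364894 IH) (Lpe (K13.f235690 IH) (Lpn (LP (LK LD1_c2 LD2_c38 LD3_c16))))))
theorem f366685 : Led Lsl_ft (LP (LK LD1_c2 LD2_c43 LD3_c55)) = (LP (LK LD1_c5 LD2_c22 LD3_c30)) :=
  Lgr Lrot86 (Lpe (K17.f283774 IH) (Lpr_ff (f366677 IH) (Lpe (K13.f184618 IH) (Lpr_ff (f364900 IH) (Lpe (K15.f235688 IH) (Lpn (LP (LK LD1_c5 LD2_c22 LD3_c30))))))))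
theorem f366691 : Led Lsl_af (LP (LK LD1_c2 LD2_c43 LD3_c58)) = (LP (LK LD1_c5 LD2_c22 LD3_c30)) :=
  Lgr Lrot31 (Lpe (K16.f274549 IH) (Lpr_gf (K17.f283772 IH) (Lpr_ft (f366685 IH) (Lpn (LP (LK LD1_c5 LD2_c22 LD3_c30))))))
theorem f362068 : Led Lsl_ff (LP (LK LD1_c2 LD2_c28 LD3_c24)) = (LP (LK LD1_c2 LD2_c43 LD3_c58)) :=
  Lgr Lrot25 (Lpe (K14.f252573 IH) (Lpr_ft (K26.f362066 IH) (Lpe (K16.f274551 IH) (Lpn (LP (LK LD1_c2 LD2_c43 LD3_c58))))))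
theorem f366701 : Led Lsl_at (LP (LK LD1_c2 LD2_c28 LD3_c24)) = (LP (LK LD1_c2 LD2_c43 LD3_c55)) :=
  Lgr Lrot66 (Lpr_ff (f362068 IH) (Lpr_af (f366691 IH) (Lpe (f366685 IH) (Lpn (LP (LK LD1_c2 LD2_c43 LD3_c55))))))
theorem f366705 : Led Lsl_af (LP (LK LD1_c1 LD2_c11 LD3_c27)) = (LP (LK LD1_c1 LD2_c18 LD3_c18)) :=
  Lgr Lrot68 (Lpr_ct (K14.f252669 IH) (Lpr_at (f366701 IH) (Lpr_ct (K15.f199558 IH) (Lpn (LP (LK LD1_c1 LD2_c18 LD3_c18))))))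
theorem f313226 : Led Lsl_cf (LP (LK LD1_c2 LD2_c43 LD3_c37)) = (LP (LK LD1_c5 LD2_c22 LD3_c30)) :=
  Lgr Lrot166 (Lpr_gt (K19.f199562 IH) (Lpr_dt (K19.f313090 IH) (Lpr_gt (K13.f3795 IH) (Lpr_dt (K10.f27585 IH) (Lpe (K10.f51035 IH) (Lpe (K15.f51041 IH) (Lpe (K14.f51042 IH) (Lpr_df (K13.f194691 IH) (Lpe (K15.f172006 IH) (Lpn (LP (LK LD1_c5 LD2_c22 LD3_c30))))))))))))
theorem f366687 : Led Lsl_ff (LP (LK LD1_c1 LD2_c18 LD3_c18)) = (LP (LK LD1_c2 LD2_c43 LD3_c37)) :=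
  Lgr Lrot23 (Lpr_ct (K17.f7952 IH) (Lpr_ft (f366685 IH) (Lpe (f313226 IH) (Lpn (LP (LK LD1_c2 LD2_c43 LD3_c37))))))
theorem f313222 : Led Lsl_ct (LP (LK LD1_c2 LD2_c43 LD3_c37)) = (LP (LK LD1_c5 LD2_c22 LD3_c30)) :=
  Lgr Lrot8 (Lpr_gt (K19.f199562 IH) (Lpr_dt (K19.f313090 IH) (Lpr_gt (K13.f3795 IH) (Lpr_dt (K10.f27585 IH) (Lpe (K9.f27790 IH) (Lpe (K15.f51041 IH) (Lpe (K14.f51042 IH) (Lpr_df (K13.f194691 IH) (Lpe (K15.f172006 IH) (Lpn (LP (LK LD1_c5 LD2_c22 LD3_c30))))))))))))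
theorem f366697 : Led Lsl_at (LP (LK LD1_c1 LD2_c18 LD3_c19)) = (LP (LK LD1_c2 LD2_c43 LD3_c37)) :=
  Lgr Lrot107 (Lpe (K16.f189151 IH) (Lpr_af (f366691 IH) (Lpe (f313222 IH) (Lpn (LP (LK LD1_c2 LD2_c43 LD3_c37))))))
theorem f366715 : Led Lsl_ft (LP (LK LD1_c1 LD2_c11 LD3_c27)) = (LP (LK LD1_c1 LD2_c18 LD3_c19)) :=
  Lgr Lrot101 (Lpr_af (f366705 IH) (Lpr_ff (f366687 IH) (Lpe (f366697 IH) (Lpn (LP (LK LD1_c1 LD2_c18 LD3_c19))))))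
theorem f366719 : Led Lsl_ff (LP (LK LD1_c1 LD2_c11 LD3_c27)) = (LP (LK LD1_c1 LD2_c18 LD3_c19)) :=
  Lgr Lrot3 (Lpr_ft (f366715 IH) (Lpn (LP (LK LD1_c1 LD2_c18 LD3_c19))))
theorem f366723 : Led Lsl_ft (LP (LK LD1_c2 LD2_c28 LD3_c27)) = (LP (LK LD1_c2 LD2_c43 LD3_c59)) :=
  Lgr Lrot54 (Lpe (K20.f21868 IH) (Lpr_ff (f366719 IH) (Lpe (K13.f189247 IH) (Lpn (LP (LK LD1_c2 LD2_c43 LD3_c59))))))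
theorem f366731 : Led Lsl_af (LP (LK LD1_c4 LD2_c6 LD3_c49)) = (LP (LK LD1_c2 LD2_c43 LD3_c59)) :=
  Lgr Lrot31 (Lpe (K19.f22099 IH) (Lpr_gf (K14.f253042 IH) (Lpr_ft (f366723 IH) (Lpn (LP (LK LD1_c2 LD2_c43 LD3_c59))))))
theorem f290996 : Led Lsl_bf (LP (LK LD1_c4 LD2_c6 LD3_c49)) = (LP (LK LD1_c5 LD2_c15 LD3_c17)) :=
  Lgr Lrot34 (Lpe (K19.f22099 IH) (Lpe (K14.f226083 IH) (Lpr_ct (K14.f187531 IH) (Lpr_gf (K22.f290993 IH) (Lpe (K11.f166131 IH) (Lpe (K9.f166120 IH) (Lpe (K15.f166135 IH) (Lpr_ct (K15.f166138 IH) (Lpe (K15.f166139 IH) (Lpe (K15.f264850 IH) (Lpn (LP (LK LD1_c5 LD2_c15 LD3_c17)))))))))))))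
theorem f366073 : Led Lsl_ft (LP (LK LD1_c4 LD2_c6 LD3_c49)) = (LP (LK LD1_c2 LD2_c43 LD3_c56)) :=
  Lgr Lrot75 (Lpr_bf (f290996 IH) (Lpr_ff (f366071 IH) (Lpe (K15.f196011 IH) (Lpn (LP (LK LD1_c2 LD2_c43 LD3_c56))))))
theorem f366741 : Led Lsl_at (LP (LK LD1_c2 LD2_c43 LD3_c56)) = (LP (LK LD1_c2 LD2_c28 LD3_c27)) :=
  Lgr Lrot66 (Lpe (f366073 IH) (Lpr_af (f366731 IH) (Lpe (f366723 IH) (Lpn (LP (LK LD1_c2 LD2_c28 LD3_c27))))))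
theorem f366747 : Led Lsl_af (LP (LK LD1_c5 LD2_c36 LD3_c7)) = (LP (LK LD1_c5 LD2_c1 LD3_c28)) :=
  Lgr Lrot50 (Lpr_et (K16.f265621 IH) (Lpr_at (f366741 IH) (Lpr_et (K21.f313254 IH) (Lpn (LP (LK LD1_c5 LD2_c1 LD3_c28))))))
theorem f247903 : Led Lsl_dt (LP (LK LD1_c2 LD2_c28 LD3_c26)) = (LP (LK LD1_c5 LD2_c1 LD3_c28)) :=
  Lre_d IH (LK LD1_c2 LD2_c28 LD3_c26) (LK LD1_c5 LD2_c1 LD3_c28) Lrfl Lrfl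
theorem f366753 : Led Lsl_at (LP (LK LD1_c5 LD2_c0 LD3_c48)) = (LP (LK LD1_c2 LD2_c28 LD3_c26)) :=
  Lgr Lrot51 (Lpr_df (K16.f274768 IH) (Lpr_af (f366747 IH) (Lpe (f247903 IH) (Lpn (LP (LK LD1_c2 LD2_c28 LD3_c26))))))
theorem f228347 : Led Lsl_gt (LP (LK LD1_c8 LD2_c28 LD3_c7)) = (LP (LK LD1_c4 LD2_c14 LD3_c40)) :=
  Lre_g IH (LK LD1_c8 LD2_c28 LD3_c7) (LK LD1_c4 LD2_c14 LD3_c40) Lrfl Lrfl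
theorem f366761 : Led Lsl_ff (LP (LK LD1_c5 LD2_c0 LD3_c48)) = (LP (LK LD1_c8 LD2_c28 LD3_c7)) :=
  Lgr Lrot52 (Lpr_at (f366753 IH) (Lpe (K14.f253117 IH) (Lpe (f228347 IH) (Lpn (LP (LK LD1_c8 LD2_c28 LD3_c7))))))
theorem f366767 : Led Lsl_ft (LP (LK LD1_c5 LD2_c0 LD3_c48)) = (LP (LK LD1_c8 LD2_c28 LD3_c7)) :=
  Lgr Lrot48 (Lpr_ff (f366761 IH) (Lpn (LP (LK LD1_c8 LD2_c28 LD3_c7))))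
theorem f366755 : Led Lsl_af (LP (LK LD1_c5 LD2_c0 LD3_c48)) = (LP (LK LD1_c2 LD2_c28 LD3_c26)) :=
  Lgr Lrot0 (Lpr_at (f366753 IH) (Lpn (LP (LK LD1_c2 LD2_c28 LD3_c26))))
theorem f366769 : Led Lsl_ft (LP (LK LD1_c5 LD2_c1 LD3_c29)) = (LP (LK LD1_c2 LD2_c28 LD3_c26)) :=
  Lre_f IH (LK LD1_c5 LD2_c1 LD3_c29) (LK LD1_c2 LD2_c28 LD3_c26) Lrfl Lrfl
theorem f366770 : Led Lsl_af (LP (LK LD1_c5 LD2_c1 LD3_c29)) = (LP (LK LD1_c8 LD2_c28 LD3_c7)) :=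
  Lgr Lrot45 (Lpr_ft (f366769 IH) (Lpe (f366755 IH) (Lpr_ft (f366767 IH) (Lpn (LP (LK LD1_c8 LD2_c28 LD3_c7))))))
theorem f366774 : Led Lsl_gt (LP (LK LD1_c8 LD2_c28 LD3_c9)) = (LP (LK LD1_c5 LD2_c1 LD3_c29)) :=
  Lgr Lrot46 (Lpr_gf (K19.f314208 IH) (Lpr_ft (f366767 IH) (Lpe (f366770 IH) (Lpn (LP (LK LD1_c5 LD2_c1 LD3_c29))))))
theorem f193337 : Led Lsl_et (LP (LK LD1_c8 LD2_c10 LD3_c14)) = (LP (LK LD1_c4 LD2_c4 LD3_c41)) :=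
  Lre_e IH (LK LD1_c8 LD2_c10 LD3_c14) (LK LD1_c4 LD2_c4 LD3_c41) Lrfl Lrfl
theorem f366783 : Led Lsl_dt (LP (LK LD1_c8 LD2_c10 LD3_c14)) = (LP (LK LD1_c5 LD2_c1 LD3_c29)) :=
  Lgr Lrot37 (Lpr_et (f193337 IH) (Lpe (K23.f326560 IH) (Lpr_dt (K25.f314841 IH) (Lpr_gt (K22.f315045 IH) (Lpr_df (K25.f244059 IH) (Lpr_et (K25.f244058 IH) (Lpr_gt (K19.f314514 IH) (Lpe (K19.f314430 IH) (Lpr_dt (K23.f314217 IH) (Lpr_gt (f366774 IH) (Lpn (LP (LK LD1_c5 LD2_c1 LD3_c29)))))))))))))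
theorem f291037 : Led Lsl_ct (LP (LK LD1_c15 LD2_c23 LD3_c14)) = (LP (LK LD1_c8 LD2_c10 LD3_c14)) :=
  Lre_c IH (LK LD1_c15 LD2_c23 LD3_c14) (LK LD1_c8 LD2_c10 LD3_c14) Lrfl Lrfl
theorem f313151 : Led Lsl_et (LP (LK LD1_c19 LD2_c57 LD3_c11)) = (LP (LK LD1_c15 LD2_c22 LD3_c1)) :=
  Lgr Lrot87 (Lpr_ef (K26.f313147 IH) (Lpn (LP (LK LD1_c15 LD2_c22 LD3_c1))))
theorem f313153 : Led Lsl_cf (LP (LK LD1_c19 LD2_c57 LD3_c11)) = (LP (LK LD1_c15 LD2_c22 LD3_c2)) :=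
  Lgr Lrot39 (Lpr_et (f313151 IH) (Lpr_ct (K26.f28002 IH) (Lpr_et (K15.f28017 IH) (Lpn (LP (LK LD1_c15 LD2_c22 LD3_c2))))))
theorem f293576 : Led Lsl_ct (LP (LK LD1_c9 LD2_c53 LD3_c10)) = (LP (LK LD1_c5 LD2_c1 LD3_c29)) :=
  Lre_c IH (LK LD1_c9 LD2_c53 LD3_c10) (LK LD1_c5 LD2_c1 LD3_c29) Lrfl Lrfl
theorem f366793 : Led Lsl_gt (LP (LK LD1_c15 LD2_c19 LD3_c53)) = (LP (LK LD1_c9 LD2_c53 LD3_c10)) :=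
  Lgr Lrot187 (Lpe (K20.f247917 IH) (Lpr_gf (K20.f314281 IH) (Lpr_dt (K15.f252689 IH) (Lpe (K15.f259133 IH) (Lpe (f313153 IH) (Lpe (K26.f346401 IH) (Lpr_ct (f291037 IH) (Lpr_dt (f366783 IH) (Lpe (f293576 IH) (Lpn (LP (LK LD1_c9 LD2_c53 LD3_c10))))))))))))
theorem f269238 : Led Lsl_at (LP (LK LD1_c10 LD2_c7 LD3_c40)) = (LP (LK LD1_c8 LD2_c8 LD3_c31)) :=
  Lgr Lrot80 (Lpe (K18.f240086 IH) (Lpr_af (K16.f269229 IH) (Lpe (K20.f237012 IH) (Lpn (LP (LK LD1_c8 LD2_c8 LD3_c31))))))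
theorem f237037 : Led Lsl_gt (LP (LK LD1_c15 LD2_c19 LD3_c51)) = (LP (LK LD1_c8 LD2_c8 LD3_c31)) :=
  Lre_g IH (LK LD1_c15 LD2_c19 LD3_c51) (LK LD1_c8 LD2_c8 LD3_c31) Lrfl Lrfl
theorem f293568 : Led Lsl_gf (LP (LK LD1_c15 LD2_c19 LD3_c51)) = (LP (LK LD1_c9 LD2_c53 LD3_c9)) :=
  Lgr Lrot47 (Lpr_gt (f237037 IH) (Lpe (f269238 IH) (Lpr_ff (K23.f293561 IH) (Lpn (LP (LK LD1_c9 LD2_c53 LD3_c9))))))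
theorem f293570 : Led Lsl_ft (LP (LK LD1_c5 LD2_c1 LD3_c26)) = (LP (LK LD1_c9 LD2_c53 LD3_c10)) :=
  Lre_f IH (LK LD1_c5 LD2_c1 LD3_c26) (LK LD1_c9 LD2_c53 LD3_c10) Lrfl Lrfl
theorem f293571 : Led Lsl_af (LP (LK LD1_c15 LD2_c19 LD3_c51)) = (LP (LK LD1_c9 LD2_c53 LD3_c10)) :=
  Lgr Lrot31 (Lpr_gf (f293568 IH) (Lpe (K18.f247814 IH) (Lpr_ft (f293570 IH) (Lpn (LP (LK LD1_c9 LD2_c53 LD3_c10))))))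
theorem f293573 : Led Lsl_at (LP (LK LD1_c15 LD2_c19 LD3_c51)) = (LP (LK LD1_c9 LD2_c53 LD3_c10)) :=
  Lgr Lrot100 (Lpr_af (f293571 IH) (Lpn (LP (LK LD1_c9 LD2_c53 LD3_c10))))
theorem f366795 : Led Lsl_ft (LP (LK LD1_c9 LD2_c51 LD3_c58)) = (LP (LK LD1_c15 LD2_c19 LD3_c51)) :=
  Lgr Lrot2 (Lpe (K20.f304344 IH) (Lpr_gt (f366793 IH) (Lpe (f293573 IH) (Lpn (LP (LK LD1_c15 LD2_c19 LD3_c51))))))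
theorem f366799 : Led Lsl_ff (LP (LK LD1_c9 LD2_c51 LD3_c58)) = (LP (LK LD1_c15 LD2_c19 LD3_c51)) :=
  Lgr Lrot3 (Lpr_ft (f366795 IH) (Lpn (LP (LK LD1_c15 LD2_c19 LD3_c51))))
theorem f366803 : Led Lsl_ct (LP (LK LD1_c8 LD2_c28 LD3_c7)) = (LP (LK LD1_c15 LD2_c19 LD3_c51)) :=
  Lgr Lrot40 (Lpe (f366767 IH) (Lpe (K23.f274763 IH) (Lpr_ff (f366799 IH) (Lpn (LP (LK LD1_c15 LD2_c19 LD3_c51))))))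
theorem f274817 : Led Lsl_ft (LP (LK LD1_c15 LD2_c30 LD3_c56)) = (LP (LK LD1_c8 LD2_c15 LD3_c4)) :=
  Lre_f IH (LK LD1_c15 LD2_c30 LD3_c56) (LK LD1_c8 LD2_c15 LD3_c4) Lrfl Lrfl
theorem f366772 : Led Lsl_bf (LP (LK LD1_c15 LD2_c30 LD3_c56)) = (LP (LK LD1_c8 LD2_c28 LD3_c7)) :=
  Lgr Lrot61 (Lpr_ft (f274817 IH) (Lpe (K26.f274805 IH) (Lpr_ft (f366767 IH) (Lpn (LP (LK LD1_c8 LD2_c28 LD3_c7))))))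
theorem f366807 : Led Lsl_gt (LP (LK LD1_c15 LD2_c30 LD3_c56)) = (LP (LK LD1_c8 LD2_c26 LD3_c54)) :=
  Lgr Lrot82 (Lpr_bf (f366772 IH) (Lpr_ct (f366803 IH) (Lpr_gf (f293568 IH) (Lpe (K19.f269285 IH) (Lpr_bt (K19.f304121 IH) (Lpe (K18.f184840 IH) (Lpe (K18.f263348 IH) (Lpr_ct (K16.f262999 IH) (Lpe (K18.f257808 IH) (Lpe (K18.f263343 IH) (Lpn (LP (LK LD1_c8 LD2_c26 LD3_c54)))))))))))))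
theorem f263025 : Led Lsl_ct (LP (LK LD1_c5 LD2_c17 LD3_c44)) = (LP (LK LD1_c2 LD2_c35 LD3_c37)) :=
  Lre_c IH (LK LD1_c5 LD2_c17 LD3_c44) (LK LD1_c2 LD2_c35 LD3_c37) Lrfl Lrfl
theorem f260342 : Led Lsl_ct (LP (LK LD1_c10 LD2_c25 LD3_c10)) = (LP (LK LD1_c5 LD2_c17 LD3_c46)) :=
  Lre_c IH (LK LD1_c10 LD2_c25 LD3_c10) (LK LD1_c5 LD2_c17 LD3_c46) Lrfl Lrfl
theorem f260366 : Led Lsl_gt (LP (LK LD1_c18 LD2_c54 LD3_c13)) = (LP (LK LD1_c10 LD2_c25 LD3_c10)) :=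
  Lre_g IH (LK LD1_c18 LD2_c54 LD3_c13) (LK LD1_c10 LD2_c25 LD3_c10) Lrfl Lrfl
theorem f275800 : Led Lsl_af (LP (LK LD1_c5 LD2_c25 LD3_c50)) = (LP (LK LD1_c5 LD2_c17 LD3_c48)) :=
  Lgr Lrot45 (Lpr_ft (K21.f273454 IH) (Lpe (K21.f273458 IH) (Lpr_ft (K21.f275798 IH) (Lpn (LP (LK LD1_c5 LD2_c17 LD3_c48))))))
theorem f273450 : Led Lsl_et (LP (LK LD1_c5 LD2_c25 LD3_c50)) = (LP (LK LD1_c10 LD2_c42 LD3_c56)) :=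
  Lre_e IH (LK LD1_c5 LD2_c25 LD3_c50) (LK LD1_c10 LD2_c42 LD3_c56) Lrfl Lrfl
theorem f231862 : Led Lsl_et (LP (LK LD1_c10 LD2_c25 LD3_c10)) = (LP (LK LD1_c5 LD2_c17 LD3_c48)) :=
  Lre_e IH (LK LD1_c10 LD2_c25 LD3_c10) (LK LD1_c5 LD2_c17 LD3_c48) Lrfl Lrfl
theorem f275855 : Led Lsl_at (LP (LK LD1_c10 LD2_c42 LD3_c56)) = (LP (LK LD1_c10 LD2_c25 LD3_c10)) :=
  Lgr Lrot80 (Lpe (f273450 IH) (Lpr_af (f275800 IH) (Lpe (f231862 IH) (Lpn (LP (LK LD1_c10 LD2_c25 LD3_c10))))))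
theorem f275857 : Led Lsl_gt (LP (LK LD1_c16 LD2_c44 LD3_c43)) = (LP (LK LD1_c18 LD2_c54 LD3_c13)) :=
  Lgr Lrot5 (Lpr_ft (K21.f273413 IH) (Lpr_at (f275855 IH) (Lpe (f260366 IH) (Lpn (LP (LK LD1_c18 LD2_c54 LD3_c13))))))
theorem f342031 : Led Lsl_gt (LP (LK LD1_c9 LD2_c56 LD3_c55)) = (LP (LK LD1_c5 LD2_c2 LD3_c61)) :=
  Lre_g IH (LK LD1_c9 LD2_c56 LD3_c55) (LK LD1_c5 LD2_c2 LD3_c61) Lrfl Lrfl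
theorem f344948 : Led Lsl_bt (LP (LK LD1_c18 LD2_c12 LD3_c30)) = (LP (LK LD1_c9 LD2_c56 LD3_c55)) :=
  Lre_b IH (LK LD1_c18 LD2_c12 LD3_c30) (LK LD1_c9 LD2_c56 LD3_c55) Lrfl Lrfl
theorem f344949 : Led Lsl_cf (LP (LK LD1_c18 LD2_c54 LD3_c13)) = (LP (LK LD1_c18 LD2_c12 LD3_c30)) :=
  Lgr Lrot58 (Lpe (f275857 IH) (Lpe (K21.f273412 IH) (Lpr_bt (K18.f273410 IH) (Lpe (K23.f329868 IH) (Lpr_bf (K23.f344941 IH) (Lpe (K23.f330500 IH) (Lpe (K23.f247673 IH) (Lpe (K23.f257614 IH) (Lpe (f342031 IH) (Lpe (f344948 IH) (Lpn (LP (LK LD1_c18 LD2_c12 LD3_c30)))))))))))))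
theorem f340248 : Led Lsl_bt (LP (LK LD1_c15 LD2_c16 LD3_c6)) = (LP (LK LD1_c18 LD2_c53 LD3_c48)) :=
  Lgr Lrot95 (Lpr_df (K19.f296380 IH) (Lpr_bf (K26.f340230 IH) (Lpr_df (K26.f340246 IH) (Lpn (LP (LK LD1_c18 LD2_c53 LD3_c48))))))
theorem f265594 : Led Lsl_gt (LP (LK LD1_c9 LD2_c33 LD3_c32)) = (LP (LK LD1_c9 LD2_c53 LD3_c17)) :=
  Lgr Lrot94 (Lpe (K16.f216276 IH) (Lpr_gt (K18.f216477 IH) (Lpr_dt (K18.f216476 IH) (Lpr_gt (K15.f265590 IH) (Lpe (K15.f265592 IH) (Lpr_cf (K14.f195960 IH) (Lpe (K14.f194397 IH) (Lpr_gf (K14.f253033 IH) (Lpe (K16.f252997 IH) (Lpn (LP (LK LD1_c9 LD2_c53 LD3_c17))))))))))))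
theorem f253067 : Led Lsl_gt (LP (LK LD1_c9 LD2_c53 LD3_c15)) = (LP (LK LD1_c18 LD2_c5 LD3_c39)) :=
  Lre_g IH (LK LD1_c9 LD2_c53 LD3_c15) (LK LD1_c18 LD2_c5 LD3_c39) Lrfl Lrfl
theorem f323706 : Led Lsl_et (LP (LK LD1_c24 LD2_c58 LD3_c45)) = (LP (LK LD1_c18 LD2_c5 LD3_c39)) :=
  Lgr Lrot122 (Lpr_dt (K22.f323697 IH) (Lpe (K22.f52622 IH) (Lpe (K10.f27524 IH) (Lpr_et (K23.f27633 IH) (Lpe (K11.f198857 IH) (Lpr_dt (K16.f194761 IH) (Lpr_gt (f265594 IH) (Lpe (K16.f253035 IH) (Lpr_et (K25.f253061 IH) (Lpr_gt (f253067 IH) (Lpn (LP (LK LD1_c18 LD2_c5 LD3_c39)))))))))))))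
theorem f323711 : Led Lsl_ef (LP (LK LD1_c24 LD2_c58 LD3_c45)) = (LP (LK LD1_c18 LD2_c5 LD3_c39)) :=
  Lgr Lrot88 (Lpr_et (f323706 IH) (Lpn (LP (LK LD1_c18 LD2_c5 LD3_c39))))
theorem f323714 : Led Lsl_ct (LP (LK LD1_c15 LD2_c16 LD3_c6)) = (LP (LK LD1_c18 LD2_c5 LD3_c39)) :=
  Lgr Lrot15 (Lpr_ef (K19.f296431 IH) (Lpe (K22.f28112 IH) (Lpr_ef (f323711 IH) (Lpn (LP (LK LD1_c18 LD2_c5 LD3_c39))))))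
theorem f227019 : Led Lsl_dt (LP (LK LD1_c8 LD2_c8 LD3_c22)) = (LP (LK LD1_c4 LD2_c3 LD3_c56)) :=
  Lre_d IH (LK LD1_c8 LD2_c8 LD3_c22) (LK LD1_c4 LD2_c3 LD3_c56) Lrfl Lrfl
theorem f253146 : Led Lsl_ct (LP (LK LD1_c1 LD2_c58 LD3_c58)) = (LP (LK LD1_c4 LD2_c3 LD3_c56)) :=
  Lre_c IH (LK LD1_c1 LD2_c58 LD3_c58) (LK LD1_c4 LD2_c3 LD3_c56) Lrfl Lrfl
theorem f323709 : Led Lsl_cf (LP (LK LD1_c15 LD2_c16 LD3_c6)) = (LP (LK LD1_c18 LD2_c5 LD3_c39)) :=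
  Lgr Lrot39 (Lpr_et (K19.f296425 IH) (Lpr_ct (K25.f28111 IH) (Lpr_et (f323706 IH) (Lpn (LP (LK LD1_c18 LD2_c5 LD3_c39))))))
theorem f329619 : Led Lsl_gf (LP (LK LD1_c11 LD2_c9 LD3_c30)) = (LP (LK LD1_c18 LD2_c5 LD3_c39)) :=
  Lgr Lrot144 (Lpr_dt (K25.f329605 IH) (Lpr_gt (K25.f200816 IH) (Lpr_dt (f227019 IH) (Lpe (f253146 IH) (Lpe (K15.f237007 IH) (Lpe (K18.f28117 IH) (Lpe (K19.f28118 IH) (Lpe (K19.f296433 IH) (Lpr_cf (f323709 IH) (Lpn (LP (LK LD1_c18 LD2_c5 LD3_c39))))))))))))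
theorem f329611 : Led Lsl_ct (LP (LK LD1_c5 LD2_c39 LD3_c14)) = (LP (LK LD1_c11 LD2_c9 LD3_c30)) :=
  Lre_c IH (LK LD1_c5 LD2_c39 LD3_c14) (LK LD1_c11 LD2_c9 LD3_c30) Lrfl Lrfl
theorem f329622 : Led Lsl_bt (LP (LK LD1_c5 LD2_c39 LD3_c14)) = (LP (LK LD1_c11 LD2_c9 LD3_c27)) :=
  Lre_b IH (LK LD1_c5 LD2_c39 LD3_c14) (LK LD1_c11 LD2_c9 LD3_c27) Lrfl Lrfl
theorem f344956 : Led Lsl_gt (LP (LK LD1_c11 LD2_c9 LD3_c27)) = (LP (LK LD1_c18 LD2_c12 LD3_c30)) :=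
  Lgr Lrot82 (Lpe (f329622 IH) (Lpr_ct (f329611 IH) (Lpr_gf (f329619 IH) (Lpe (f323714 IH) (Lpr_bt (f340248 IH) (Lpe (K26.f257784 IH) (Lpe (K18.f260341 IH) (Lpr_ct (K21.f260353 IH) (Lpe (f260366 IH) (Lpr_cf (f344949 IH) (Lpn (LP (LK LD1_c18 LD2_c12 LD3_c30)))))))))))))
theorem f366813 : Led Lsl_df (LP (LK LD1_c15 LD2_c30 LD3_c56)) = (LP (LK LD1_c11 LD2_c9 LD3_c27)) :=
  Lgr Lrot155 (Lpr_gt (f366807 IH) (Lpr_ct (K18.f263343 IH) (Lpr_gt (K18.f257808 IH) (Lpr_ct (f263025 IH) (Lpr_dt (K22.f250174 IH) (Lpe (f260342 IH) (Lpe (f260366 IH) (Lpr_cf (f344949 IH) (Lpe (f344956 IH) (Lpn (LP (LK LD1_c11 LD2_c9 LD3_c27))))))))))))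
theorem f366815 : Led Lsl_gf (LP (LK LD1_c11 LD2_c9 LD3_c27)) = (LP (LK LD1_c18 LD2_c45 LD3_c27)) :=
  Lgr Lrot138 (Lpe (f366813 IH) (Lpr_gt (f366807 IH) (Lpe (K15.f27505 IH) (Lpr_et (K15.f27504 IH) (Lpr_gt (K12.f27503 IH) (Lpe (K12.f27494 IH) (Lpe (K12.f27429 IH) (Lpr_gt (K17.f27500 IH) (Lpe (K17.f27502 IH) (Lpr_et (K17.f264955 IH) (Lpn (LP (LK LD1_c18 LD2_c45 LD3_c27)))))))))))))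
theorem f350675 : Led Lsl_bt (LP (LK LD1_c18 LD2_c27 LD3_c20)) = (LP (LK LD1_c18 LD2_c45 LD3_c27)) :=
  Lgr Lrot119 (Lpr_ef (K24.f350673 IH) (Lpe (K25.f350666 IH) (Lpr_ef (K17.f264957 IH) (Lpn (LP (LK LD1_c18 LD2_c45 LD3_c27))))))
theorem f328054 : Led Lsl_bt (LP (LK LD1_c4 LD2_c51 LD3_c38)) = (LP (LK LD1_c9 LD2_c35 LD3_c5)) :=
  Lre_b IH (LK LD1_c4 LD2_c51 LD3_c38) (LK LD1_c9 LD2_c35 LD3_c5) Lrfl Lrfl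
theorem f219484 : Led Lsl_ct (LP (LK LD1_c8 LD2_c39 LD3_c61)) = (LP (LK LD1_c4 LD2_c21 LD3_c12)) :=
  Lre_c IH (LK LD1_c8 LD2_c39 LD3_c61) (LK LD1_c4 LD2_c21 LD3_c12) Lrfl Lrfl
theorem f331032 : Led Lsl_gf (LP (LK LD1_c8 LD2_c39 LD3_c61)) = (LP (LK LD1_c9 LD2_c38 LD3_c53)) :=
  Lgr Lrot104 (Lpr_ct (f219484 IH) (Lpr_df (K17.f265808 IH) (Lpe (K21.f265803 IH) (Lpr_gf (K21.f331027 IH) (Lpe (K21.f310868 IH) (Lpe (K21.f331025 IH) (Lpr_df (K21.f307060 IH) (Lpr_gt (K19.f271182 IH) (Lpr_ct (K26.f180077 IH) (Lpn (LP (LK LD1_c9 LD2_c38 LD3_c53))))))))))))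
theorem f365860 : Led Lsl_gt (LP (LK LD1_c9 LD2_c35 LD3_c5)) = (LP (LK LD1_c9 LD2_c38 LD3_c52)) :=
  Lgr Lrot164 (Lpe (f328054 IH) (Lpr_ct (f328005 IH) (Lpr_gf (f365856 IH) (Lpr_cf (f354941 IH) (Lpe (K20.f186954 IH) (Lpe (K17.f219479 IH) (Lpr_ct (K26.f219481 IH) (Lpr_gf (f331032 IH) (Lpe (K26.f180077 IH) (Lpr_bt (K26.f331042 IH) (Lpn (LP (LK LD1_c9 LD2_c38 LD3_c52)))))))))))))
theorem f363183 : Led Lsl_ef (LP (LK LD1_c14 LD2_c57 LD3_c32)) = (LP (LK LD1_c15 LD2_c57 LD3_c4)) :=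
  Lgr Lrot88 (Lpr_et (K26.f363177 IH) (Lpn (LP (LK LD1_c15 LD2_c57 LD3_c4))))
theorem f229734 : Led Lsl_bt (LP (LK LD1_c14 LD2_c57 LD3_c32)) = (LP (LK LD1_c7 LD2_c55 LD3_c49)) :=
  Lre_b IH (LK LD1_c14 LD2_c57 LD3_c32) (LK LD1_c7 LD2_c55 LD3_c49) Lrfl Lrfl
theorem f363185 : Led Lsl_bt (LP (LK LD1_c14 LD2_c56 LD3_c57)) = (LP (LK LD1_c15 LD2_c57 LD3_c4)) :=
  Lgr Lrot119 (Lpe (K20.f275871 IH) (Lpe (f229734 IH) (Lpr_ef (f363183 IH) (Lpn (LP (LK LD1_c15 LD2_c57 LD3_c4))))))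
theorem f222065 : Led Lsl_gt (LP (LK LD1_c15 LD2_c57 LD3_c15)) = (LP (LK LD1_c8 LD2_c29 LD3_c50)) :=
  Lre_g IH (LK LD1_c15 LD2_c57 LD3_c15) (LK LD1_c8 LD2_c29 LD3_c50) Lrfl Lrfl
theorem f365862 : Led Lsl_cf (LP (LK LD1_c15 LD2_c57 LD3_c15)) = (LP (LK LD1_c9 LD2_c38 LD3_c52)) :=
  Lgr Lrot125 (Lpr_gt (f222065 IH) (Lpe (K20.f222018 IH) (Lpr_bt (K20.f222031 IH) (Lpr_gt (K26.f222028 IH) (Lpe (f363185 IH) (Lpe (f354941 IH) (Lpe (f365856 IH) (Lpe (f328005 IH) (Lpr_bt (f328054 IH) (Lpr_gt (f365860 IH) (Lpn (LP (LK LD1_c9 LD2_c38 LD3_c52)))))))))))))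
theorem f365866 : Led Lsl_et (LP (LK LD1_c15 LD2_c57 LD3_c15)) = (LP (LK LD1_c25 LD2_c53 LD3_c40)) :=
  Lre_e IH (LK LD1_c15 LD2_c57 LD3_c15) (LK LD1_c25 LD2_c53 LD3_c40) Lrfl Lrfl
theorem f365867 : Led Lsl_ct (LP (LK LD1_c25 LD2_c53 LD3_c40)) = (LP (LK LD1_c17 LD2_c45 LD3_c6)) :=
  Lgr Lrot15 (Lpe (f365866 IH) (Lpr_cf (f365862 IH) (Lpe (K26.f358607 IH) (Lpn (LP (LK LD1_c17 LD2_c45 LD3_c6))))))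
theorem f365869 : Led Lsl_cf (LP (LK LD1_c25 LD2_c53 LD3_c40)) = (LP (LK LD1_c17 LD2_c45 LD3_c6)) :=
  Lgr Lrot11 (Lpr_ct (f365867 IH) (Lpn (LP (LK LD1_c17 LD2_c45 LD3_c6))))
theorem f337073 : Led Lsl_gt (LP (LK LD1_c17 LD2_c37 LD3_c16)) = (LP (LK LD1_c17 LD2_c41 LD3_c39)) :=
  Lgr Lrot137 (Lpe (K26.f191707 IH) (Lpe (K23.f191705 IH) (Lpe (K23.f45016 IH) (Lpe (K24.f263616 IH) (Lpr_et (K15.f53847 IH) (Lpe (K15.f257914 IH) (Lpe (K23.f222207 IH) (Lpe (K23.f222198 IH) (Lpr_gf (K23.f337068 IH) (Lpe (K23.f337048 IH) (Lpn (LP (LK LD1_c17 LD2_c41 LD3_c39)))))))))))))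
theorem f337070 : Led Lsl_dt (LP (LK LD1_c9 LD2_c36 LD3_c26)) = (LP (LK LD1_c17 LD2_c41 LD3_c39)) :=
  Lre_d IH (LK LD1_c9 LD2_c36 LD3_c26) (LK LD1_c17 LD2_c41 LD3_c39) Lrfl Lrfl
theorem f337065 : Led Lsl_et (LP (LK LD1_c9 LD2_c36 LD3_c26)) = (LP (LK LD1_c17 LD2_c41 LD3_c40)) :=
  Lre_e IH (LK LD1_c9 LD2_c36 LD3_c26) (LK LD1_c17 LD2_c41 LD3_c40) Lrfl Lrfl
theorem f358605 : Led Lsl_gt (LP (LK LD1_c17 LD2_c41 LD3_c40)) = (LP (LK LD1_c17 LD2_c45 LD3_c6)) :=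
  Lgr Lrot137 (Lpe (f337065 IH) (Lpr_dt (f337070 IH) (Lpe (f337073 IH) (Lpr_df (K23.f212519 IH) (Lpr_et (K23.f193240 IH) (Lpe (K23.f297691 IH) (Lpe (K17.f220507 IH) (Lpr_dt (K17.f286120 IH) (Lpe (K22.f339148 IH) (Lpr_df (K26.f358600 IH) (Lpn (LP (LK LD1_c17 LD2_c45 LD3_c6)))))))))))))
theorem f254736 : Led Lsl_gt (LP (LK LD1_c25 LD2_c34 LD3_c22)) = (LP (LK LD1_c15 LD2_c38 LD3_c61)) :=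
  Lre_g IH (LK LD1_c25 LD2_c34 LD3_c22) (LK LD1_c15 LD2_c38 LD3_c61) Lrfl Lrfl
theorem f254739 : Led Lsl_cf (LP (LK LD1_c15 LD2_c39 LD3_c5)) = (LP (LK LD1_c25 LD2_c34 LD3_c22)) :=
  Lgr Lrot166 (Lpr_gt (K21.f250693 IH) (Lpr_dt (K21.f250691 IH) (Lpr_gt (K21.f235809 IH) (Lpr_dt (K19.f236010 IH) (Lpr_ct (K21.f236036 IH) (Lpe (K22.f236008 IH) (Lpe (K26.f234680 IH) (Lpr_df (K26.f254727 IH) (Lpe (f254736 IH) (Lpn (LP (LK LD1_c25 LD2_c34 LD3_c22))))))))))))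
theorem f365873 : Led Lsl_gt (LP (LK LD1_c25 LD2_c53 LD3_c40)) = (LP (LK LD1_c25 LD2_c34 LD3_c22)) :=
  Lgr Lrot150 (Lpr_cf (f365869 IH) (Lpe (f358605 IH) (Lpe (K22.f337056 IH) (Lpr_gt (K19.f259530 IH) (Lpe (K21.f259432 IH) (Lpe (K23.f339225 IH) (Lpr_ct (K25.f282560 IH) (Lpr_df (K25.f282563 IH) (Lpr_cf (f254739 IH) (Lpn (LP (LK LD1_c25 LD2_c34 LD3_c22))))))))))))
theorem f323009 : Led Lsl_et (LP (LK LD1_c16 LD2_c0 LD3_c32)) = (LP (LK LD1_c8 LD2_c31 LD3_c42)) :=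
  Lre_e IH (LK LD1_c16 LD2_c0 LD3_c32) (LK LD1_c8 LD2_c31 LD3_c42) Lrfl Lrfl
theorem f361736 : Led Lsl_ct (LP (LK LD1_c19 LD2_c54 LD3_c25)) = (LP (LK LD1_c16 LD2_c0 LD3_c32)) :=
  Lgr Lrot15 (Lpr_ef (K26.f361704 IH) (Lpe (K26.f348271 IH) (Lpe (f323009 IH) (Lpn (LP (LK LD1_c16 LD2_c0 LD3_c32))))))
theorem f361746 : Led Lsl_cf (LP (LK LD1_c19 LD2_c54 LD3_c25)) = (LP (LK LD1_c16 LD2_c0 LD3_c32)) :=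
  Lgr Lrot11 (Lpr_ct (f361736 IH) (Lpn (LP (LK LD1_c16 LD2_c0 LD3_c32))))
theorem f324607 : Led Lsl_ct (LP (LK LD1_c29 LD2_c11 LD3_c37)) = (LP (LK LD1_c19 LD2_c55 LD3_c46)) :=
  Lre_c IH (LK LD1_c29 LD2_c11 LD3_c37) (LK LD1_c19 LD2_c55 LD3_c46) Lrfl Lrfl
theorem f337341 : Led Lsl_ct (LP (LK LD1_c19 LD2_c55 LD3_c46)) = (LP (LK LD1_c29 LD2_c11 LD3_c37)) :=
  Lre_c IH (LK LD1_c19 LD2_c55 LD3_c46) (LK LD1_c29 LD2_c11 LD3_c37) Lrfl Lrfl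
theorem f227373 : Led Lsl_ct (LP (LK LD1_c26 LD2_c8 LD3_c7)) = (LP (LK LD1_c16 LD2_c11 LD3_c24)) :=
  Lre_c IH (LK LD1_c26 LD2_c8 LD3_c7) (LK LD1_c16 LD2_c11 LD3_c24) Lrfl Lrfl
theorem f337406 : Led Lsl_gt (LP (LK LD1_c29 LD2_c11 LD3_c37)) = (LP (LK LD1_c26 LD2_c8 LD3_c7)) :=
  Lgr Lrot150 (Lpe (f337341 IH) (Lpr_gf (K23.f337400 IH) (Lpe (K23.f315799 IH) (Lpr_gt (K22.f315797 IH) (Lpr_ct (K25.f255578 IH) (Lpr_gt (K14.f255577 IH) (Lpr_ct (K21.f308653 IH) (Lpe (K19.f227357 IH) (Lpe (f227373 IH) (Lpn (LP (LK LD1_c26 LD2_c8 LD3_c7))))))))))))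
theorem f308263 : Led Lsl_at (LP (LK LD1_c26 LD2_c6 LD3_c47)) = (LP (LK LD1_c26 LD2_c8 LD3_c7)) :=
  Lgr Lrot107 (Lpe (K24.f201786 IH) (Lpr_af (K19.f308259 IH) (Lpe (f227373 IH) (Lpn (LP (LK LD1_c26 LD2_c8 LD3_c7))))))
theorem f201802 : Led Lsl_ct (LP (LK LD1_c26 LD2_c6 LD3_c47)) = (LP (LK LD1_c16 LD2_c10 LD3_c0)) :=
  Lre_c IH (LK LD1_c26 LD2_c6 LD3_c47) (LK LD1_c16 LD2_c10 LD3_c0) Lrfl Lrfl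
theorem f308271 : Led Lsl_ff (LP (LK LD1_c26 LD2_c6 LD3_c47)) = (LP (LK LD1_c29 LD2_c10 LD3_c27)) :=
  Lgr Lrot23 (Lpr_ct (f201802 IH) (Lpr_ft (K19.f308267 IH) (Lpr_ct (K21.f234037 IH) (Lpn (LP (LK LD1_c29 LD2_c10 LD3_c27))))))
theorem f337408 : Led Lsl_gf (LP (LK LD1_c29 LD2_c11 LD3_c37)) = (LP (LK LD1_c29 LD2_c10 LD3_c27)) :=
  Lgr Lrot47 (Lpr_gt (f337406 IH) (Lpe (f308263 IH) (Lpr_ff (f308271 IH) (Lpn (LP (LK LD1_c29 LD2_c10 LD3_c27))))))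
theorem f340489 : Led Lsl_ct (LP (LK LD1_c11 LD2_c3 LD3_c3)) = (LP (LK LD1_c10 LD2_c35 LD3_c55)) :=
  Lgr Lrot152 (Lpe (K23.f222345 IH) (Lpe (K21.f189401 IH) (Lpr_gt (K19.f234020 IH) (Lpr_ct (K21.f234037 IH) (Lpe (f337408 IH) (Lpr_ct (f324607 IH) (Lpe (K23.f324572 IH) (Lpe (K21.f324605 IH) (Lpr_gf (K24.f340487 IH) (Lpn (LP (LK LD1_c10 LD2_c35 LD3_c55))))))))))))
theorem f340613 : Led Lsl_cf (LP (LK LD1_c11 LD2_c3 LD3_c3)) = (LP (LK LD1_c10 LD2_c35 LD3_c55)) :=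
  Lgr Lrot11 (Lpr_ct (f340489 IH) (Lpn (LP (LK LD1_c10 LD2_c35 LD3_c55))))
theorem f340628 : Led Lsl_bf (LP (LK LD1_c11 LD2_c2 LD3_c57)) = (LP (LK LD1_c17 LD2_c48 LD3_c54)) :=
  Lgr Lrot156 (Lpr_gt (K26.f189433 IH) (Lpe (K13.f189417 IH) (Lpr_ct (K23.f189420 IH) (Lpr_gt (K23.f222345 IH) (Lpr_cf (f340613 IH) (Lpr_bt (K20.f276770 IH) (Lpe (K16.f276781 IH) (Lpr_ct (K16.f267671 IH) (Lpr_gt (K19.f276903 IH) (Lpr_cf (K19.f298406 IH) (Lpn (LP (LK LD1_c17 LD2_c48 LD3_c54)))))))))))))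
theorem f340637 : Led Lsl_gf (LP (LK LD1_c11 LD2_c2 LD3_c57)) = (LP (LK LD1_c15 LD2_c34 LD3_c57)) :=
  Lgr Lrot124 (Lpr_bf (f340628 IH) (Lpe (K19.f298406 IH) (Lpr_gt (K19.f276758 IH) (Lpe (K16.f224361 IH) (Lpe (K21.f289072 IH) (Lpr_gt (K21.f298408 IH) (Lpr_ct (K22.f298412 IH) (Lpe (K22.f334282 IH) (Lpr_cf (K22.f333904 IH) (Lpr_bt (K20.f311816 IH) (Lpn (LP (LK LD1_c15 LD2_c34 LD3_c57)))))))))))))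
theorem f197607 : Led Lsl_ct (LP (LK LD1_c8 LD2_c29 LD3_c43)) = (LP (LK LD1_c4 LD2_c15 LD3_c25)) :=
  Lre_c IH (LK LD1_c8 LD2_c29 LD3_c43) (LK LD1_c4 LD2_c15 LD3_c25) Lrfl Lrfl
theorem f197598 : Led Lsl_ct (LP (LK LD1_c8 LD2_c55 LD3_c44)) = (LP (LK LD1_c4 LD2_c28 LD3_c44)) :=
  Lre_c IH (LK LD1_c8 LD2_c55 LD3_c44) (LK LD1_c4 LD2_c28 LD3_c44) Lrfl Lrfl
theorem f197611 : Led Lsl_gt (LP (LK LD1_c16 LD2_c42 LD3_c51)) = (LP (LK LD1_c8 LD2_c55 LD3_c44)) :=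
  Lre_g IH (LK LD1_c16 LD2_c42 LD3_c51) (LK LD1_c8 LD2_c55 LD3_c44) Lrfl Lrfl
theorem f340639 : Led Lsl_ct (LP (LK LD1_c11 LD2_c2 LD3_c57)) = (LP (LK LD1_c16 LD2_c42 LD3_c51)) :=
  Lgr Lrot152 (Lpr_gf (f340637 IH) (Lpr_df (K25.f322136 IH) (Lpr_gt (K20.f232304 IH) (Lpr_ct (K16.f234559 IH) (Lpe (K18.f298873 IH) (Lpr_ct (f197607 IH) (Lpr_df (K13.f197594 IH) (Lpe (f197598 IH) (Lpe (f197611 IH) (Lpn (LP (LK LD1_c16 LD2_c42 LD3_c51))))))))))))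
theorem f340644 : Led Lsl_cf (LP (LK LD1_c11 LD2_c2 LD3_c57)) = (LP (LK LD1_c16 LD2_c42 LD3_c51)) :=
  Lgr Lrot11 (Lpr_ct (f340639 IH) (Lpn (LP (LK LD1_c16 LD2_c42 LD3_c51))))
theorem f262042 : Led Lsl_gf (LP (LK LD1_c16 LD2_c42 LD3_c51)) = (LP (LK LD1_c10 LD2_c50 LD3_c57)) :=
  Lgr Lrot47 (Lpr_gt (f197611 IH) (Lpr_af (K15.f262026 IH) (Lpe (K15.f254657 IH) (Lpn (LP (LK LD1_c10 LD2_c50 LD3_c57))))))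
theorem f220694 : Led Lsl_ct (LP (LK LD1_c5 LD2_c29 LD3_c52)) = (LP (LK LD1_c10 LD2_c50 LD3_c57)) :=
  Lre_c IH (LK LD1_c5 LD2_c29 LD3_c52) (LK LD1_c10 LD2_c50 LD3_c57) Lrfl Lrfl
theorem f340856 : Led Lsl_gt (LP (LK LD1_c15 LD2_c33 LD3_c57)) = (LP (LK LD1_c10 LD2_c56 LD3_c52)) :=
  Lgr Lrot112 (Lpe (K20.f236236 IH) (Lpe (K23.f330154 IH) (Lpr_gf (K25.f340852 IH) (Lpe (K25.f324171 IH) (Lpe (K25.f340847 IH) (Lpe (K25.f196390 IH) (Lpr_df (K23.f264692 IH) (Lpe (K20.f264715 IH) (Lpe (K20.f213273 IH) (Lpr_dt (K25.f213274 IH) (Lpn (LP (LK LD1_c10 LD2_c56 LD3_c52)))))))))))))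
theorem f282511 : Led Lsl_ct (LP (LK LD1_c10 LD2_c56 LD3_c52)) = (LP (LK LD1_c19 LD2_c46 LD3_c31)) :=
  Lre_c IH (LK LD1_c10 LD2_c56 LD3_c52) (LK LD1_c19 LD2_c46 LD3_c31) Lrfl Lrfl
theorem f361749 : Led Lsl_gt (LP (LK LD1_c19 LD2_c46 LD3_c31)) = (LP (LK LD1_c16 LD2_c0 LD3_c32)) :=
  Lgr Lrot150 (Lpe (f282511 IH) (Lpe (f340856 IH) (Lpe (K20.f236236 IH) (Lpe (K26.f330178 IH) (Lpr_ct (f220694 IH) (Lpe (f262042 IH) (Lpe (f340644 IH) (Lpe (K26.f189434 IH) (Lpr_cf (f361746 IH) (Lpn (LP (LK LD1_c16 LD2_c0 LD3_c32))))))))))))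
theorem f298903 : Led Lsl_bf (LP (LK LD1_c15 LD2_c33 LD3_c57)) = (LP (LK LD1_c10 LD2_c46 LD3_c28)) :=
  Lgr Lrot24 (Lpr_bt (K20.f298900 IH) (Lpn (LP (LK LD1_c10 LD2_c46 LD3_c28))))
theorem f235806 : Led Lsl_ct (LP (LK LD1_c10 LD2_c46 LD3_c28)) = (LP (LK LD1_c19 LD2_c29 LD3_c8)) :=
  Lre_c IH (LK LD1_c10 LD2_c46 LD3_c28) (LK LD1_c19 LD2_c29 LD3_c8) Lrfl Lrfl
theorem f222400 : Led Lsl_dt (LP (LK LD1_c11 LD2_c2 LD3_c57)) = (LP (LK LD1_c19 LD2_c54 LD3_c25)) :=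
  Lre_d IH (LK LD1_c11 LD2_c2 LD3_c57) (LK LD1_c19 LD2_c54 LD3_c25) Lrfl Lrfl
theorem f256027 : Led Lsl_et (LP (LK LD1_c17 LD2_c43 LD3_c34)) = (LP (LK LD1_c9 LD2_c37 LD3_c55)) :=
  Lre_e IH (LK LD1_c17 LD2_c43 LD3_c34) (LK LD1_c9 LD2_c37 LD3_c55) Lrfl Lrfl
theorem f330883 : Led Lsl_dt (LP (LK LD1_c17 LD2_c43 LD3_c34)) = (LP (LK LD1_c17 LD2_c48 LD3_c54)) :=
  Lgr Lrot37 (Lpr_et (f256027 IH) (Lpr_gt (K22.f270876 IH) (Lpr_dt (K22.f282101 IH) (Lpr_gt (K22.f330881 IH) (Lpe (K22.f330824 IH) (Lpe (K26.f304586 IH) (Lpr_gt (K25.f330815 IH) (Lpe (K18.f296924 IH) (Lpe (K12.f200507 IH) (Lpr_gt (K19.f298404 IH) (Lpn (LP (LK LD1_c17 LD2_c48 LD3_c54)))))))))))))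
theorem f340632 : Led Lsl_bt (LP (LK LD1_c19 LD2_c54 LD3_c25)) = (LP (LK LD1_c17 LD2_c43 LD3_c34)) :=
  Lgr Lrot95 (Lpe (f222400 IH) (Lpr_bf (f340628 IH) (Lpe (f330883 IH) (Lpn (LP (LK LD1_c17 LD2_c43 LD3_c34))))))
theorem f349973 : Led Lsl_dt (LP (LK LD1_c9 LD2_c37 LD3_c55)) = (LP (LK LD1_c9 LD2_c53 LD3_c42)) :=
  Lgr Lrot79 (Lpr_bf (K24.f349967 IH) (Lpr_df (K26.f348360 IH) (Lpe (K26.f327605 IH) (Lpn (LP (LK LD1_c9 LD2_c53 LD3_c42))))))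
theorem f330887 : Led Lsl_et (LP (LK LD1_c9 LD2_c37 LD3_c55)) = (LP (LK LD1_c17 LD2_c43 LD3_c34)) :=
  Lre_e IH (LK LD1_c9 LD2_c37 LD3_c55) (LK LD1_c17 LD2_c43 LD3_c34) Lrfl Lrfl
theorem f355731 : Led Lsl_gf (LP (LK LD1_c25 LD2_c20 LD3_c36)) = (LP (LK LD1_c17 LD2_c43 LD3_c34)) :=
  Lgr Lrot141 (Lpr_ef (f345583 IH) (Lpr_dt (K25.f219543 IH) (Lpr_gt (K26.f355725 IH) (Lpe (K26.f355729 IH) (Lpr_et (K26.f355696 IH) (Lpr_gt (K26.f355690 IH) (Lpe (K21.f327472 IH) (Lpr_gt (K21.f251579 IH) (Lpe (f349973 IH) (Lpr_et (f330887 IH) (Lpn (LP (LK LD1_c17 LD2_c43 LD3_c34)))))))))))))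
theorem f361751 : Led Lsl_gf (LP (LK LD1_c19 LD2_c29 LD3_c8)) = (LP (LK LD1_c16 LD2_c2 LD3_c20)) :=
  Lgr Lrot126 (Lpe (f235806 IH) (Lpe (f298903 IH) (Lpr_gt (f340856 IH) (Lpr_ct (f282511 IH) (Lpr_gt (f361749 IH) (Lpe (f361736 IH) (Lpr_bt (f340632 IH) (Lpe (f355731 IH) (Lpr_bf (K25.f353254 IH) (Lpr_ct (K25.f353223 IH) (Lpn (LP (LK LD1_c16 LD2_c2 LD3_c20)))))))))))))
theorem f236017 : Led Lsl_ct (LP (LK LD1_c19 LD2_c29 LD3_c8)) = (LP (LK LD1_c10 LD2_c46 LD3_c28)) :=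
  Lre_c IH (LK LD1_c19 LD2_c29 LD3_c8) (LK LD1_c10 LD2_c46 LD3_c28) Lrfl Lrfl
theorem f254737 : Led Lsl_ct (LP (LK LD1_c15 LD2_c39 LD3_c5)) = (LP (LK LD1_c25 LD2_c34 LD3_c22)) :=
  Lgr Lrot8 (Lpr_gt (K21.f250693 IH) (Lpr_dt (K21.f250691 IH) (Lpr_gt (K21.f235809 IH) (Lpr_dt (K19.f236010 IH) (Lpe (K22.f236007 IH) (Lpe (K22.f236008 IH) (Lpe (K26.f234680 IH) (Lpr_df (K26.f254727 IH) (Lpe (f254736 IH) (Lpn (LP (LK LD1_c25 LD2_c34 LD3_c22))))))))))))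
theorem f298805 : Led Lsl_dt (LP (LK LD1_c25 LD2_c32 LD3_c11)) = (LP (LK LD1_c16 LD2_c2 LD3_c20)) :=
  Lgr Lrot42 (Lpr_df (K20.f298802 IH) (Lpn (LP (LK LD1_c16 LD2_c2 LD3_c20))))
theorem f234486 : Led Lsl_gt (LP (LK LD1_c25 LD2_c31 LD3_c56)) = (LP (LK LD1_c15 LD2_c37 LD3_c15)) :=
  Lre_g IH (LK LD1_c25 LD2_c31 LD3_c56) (LK LD1_c15 LD2_c37 LD3_c15) Lrfl Lrfl
theorem f339192 : Led Lsl_ct (LP (LK LD1_c31 LD2_c55 LD3_c24)) = (LP (LK LD1_c25 LD2_c31 LD3_c56)) :=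
  Lre_c IH (LK LD1_c31 LD2_c55 LD3_c24) (LK LD1_c25 LD2_c31 LD3_c56) Lrfl Lrfl
theorem f341594 : Led Lsl_gf (LP (LK LD1_c31 LD2_c55 LD3_c24)) = (LP (LK LD1_c25 LD2_c32 LD3_c16)) :=
  Lgr Lrot147 (Lpr_ct (f339192 IH) (Lpr_gt (f234486 IH) (Lpr_ct (K22.f295027 IH) (Lpr_df (K23.f339187 IH) (Lpe (K22.f236330 IH) (Lpe (K23.f337581 IH) (Lpr_cf (K23.f341583 IH) (Lpe (K23.f298838 IH) (Lpe (K23.f294997 IH) (Lpn (LP (LK LD1_c25 LD2_c32 LD3_c16))))))))))))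
theorem f361753 : Led Lsl_dt (LP (LK LD1_c25 LD2_c34 LD3_c22)) = (LP (LK LD1_c25 LD2_c31 LD3_c56)) :=
  Lgr Lrot27 (Lpe (f254737 IH) (Lpr_gf (K21.f282565 IH) (Lpe (f236017 IH) (Lpr_gf (f361751 IH) (Lpe (f298805 IH) (Lpr_gt (K20.f298784 IH) (Lpr_ct (K20.f236286 IH) (Lpe (f341594 IH) (Lpr_ct (f339192 IH) (Lpn (LP (LK LD1_c25 LD2_c31 LD3_c56))))))))))))
theorem f365875 : Led Lsl_gt (LP (LK LD1_c17 LD2_c45 LD3_c6)) = (LP (LK LD1_c25 LD2_c47 LD3_c2)) :=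
  Lgr Lrot94 (Lpe (f365867 IH) (Lpr_gt (f365873 IH) (Lpr_dt (f361753 IH) (Lpr_gt (f234486 IH) (Lpr_dt (K23.f234465 IH) (Lpr_cf (K23.f331184 IH) (Lpe (K19.f213826 IH) (Lpr_gf (K26.f328247 IH) (Lpe (K26.f271069 IH) (Lpn (LP (LK LD1_c25 LD2_c47 LD3_c2))))))))))))
theorem f358602 : Led Lsl_dt (LP (LK LD1_c10 LD2_c50 LD3_c40)) = (LP (LK LD1_c17 LD2_c45 LD3_c6)) :=
  Lgr Lrot42 (Lpr_df (K26.f358600 IH) (Lpn (LP (LK LD1_c17 LD2_c45 LD3_c6))))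
theorem f339146 : Led Lsl_et (LP (LK LD1_c10 LD2_c50 LD3_c40)) = (LP (LK LD1_c17 LD2_c52 LD3_c40)) :=
  Lgr Lrot87 (Lpr_ef (K22.f339134 IH) (Lpn (LP (LK LD1_c17 LD2_c52 LD3_c40))))
theorem f361694 : Led Lsl_et (LP (LK LD1_c15 LD2_c51 LD3_c8)) = (LP (LK LD1_c8 LD2_c26 LD3_c61)) :=
  Lgr Lrot71 (Lpe (K26.f271069 IH) (Lpr_ef (K26.f361690 IH) (Lpe (K26.f191401 IH) (Lpr_ef (K26.f322069 IH) (Lpe (K26.f322071 IH) (Lpn (LP (LK LD1_c8 LD2_c26 LD3_c61))))))))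
theorem f213250 : Led Lsl_dt (LP (LK LD1_c10 LD2_c56 LD3_c2)) = (LP (LK LD1_c19 LD2_c44 LD3_c45)) :=
  Lre_d IH (LK LD1_c10 LD2_c56 LD3_c2) (LK LD1_c19 LD2_c44 LD3_c45) Lrfl Lrfl
theorem f213373 : Led Lsl_gt (LP (LK LD1_c19 LD2_c44 LD3_c45)) = (LP (LK LD1_c10 LD2_c56 LD3_c42)) :=
  Lre_g IH (LK LD1_c19 LD2_c44 LD3_c45) (LK LD1_c10 LD2_c56 LD3_c42) Lrfl Lrfl
theorem f222526 : Led Lsl_et (LP (LK LD1_c4 LD2_c2 LD3_c45)) = (LP (LK LD1_c8 LD2_c6 LD3_c6)) :=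
  Lre_e IH (LK LD1_c4 LD2_c2 LD3_c45) (LK LD1_c8 LD2_c6 LD3_c6) Lrfl Lrfl
theorem f222525 : Led Lsl_gt (LP (LK LD1_c10 LD2_c56 LD3_c42)) = (LP (LK LD1_c5 LD2_c32 LD3_c27)) :=
  Lre_g IH (LK LD1_c10 LD2_c56 LD3_c42) (LK LD1_c5 LD2_c32 LD3_c27) Lrfl Lrfl
theorem f352870 : Led Lsl_dt (LP (LK LD1_c15 LD2_c31 LD3_c12)) = (LP (LK LD1_c10 LD2_c56 LD3_c42)) :=
  Lgr Lrot136 (Lpr_et (K25.f352863 IH) (Lpe (K25.f350628 IH) (Lpe (f222526 IH) (Lpr_dt (K12.f219977 IH) (Lpr_gf (K12.f222517 IH) (Lpe (K12.f222502 IH) (Lpe (K12.f168084 IH) (Lpe (K23.f222523 IH) (Lpr_dt (K15.f222524 IH) (Lpe (f222525 IH) (Lpn (LP (LK LD1_c10 LD2_c56 LD3_c42)))))))))))))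
theorem f352875 : Led Lsl_df (LP (LK LD1_c15 LD2_c31 LD3_c12)) = (LP (LK LD1_c10 LD2_c56 LD3_c42)) :=
  Lgr Lrot38 (Lpr_dt (f352870 IH) (Lpn (LP (LK LD1_c10 LD2_c56 LD3_c42))))
theorem f352861 : Led Lsl_ct (LP (LK LD1_c15 LD2_c31 LD3_c12)) = (LP (LK LD1_c11 LD2_c4 LD3_c11)) :=
  Lgr Lrot15 (Lpr_ef (K25.f352858 IH) (Lpe (K25.f338663 IH) (Lpe (K26.f352860 IH) (Lpn (LP (LK LD1_c11 LD2_c4 LD3_c11))))))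
theorem f359912 : Led Lsl_df (LP (LK LD1_c11 LD2_c4 LD3_c11)) = (LP (LK LD1_c10 LD2_c19 LD3_c61)) :=
  Lgr Lrot84 (Lpe (f352861 IH) (Lpr_df (f352875 IH) (Lpe (f213373 IH) (Lpe (f213250 IH) (Lpe (K23.f213252 IH) (Lpe (K23.f258853 IH) (Lpr_gt (K26.f359908 IH) (Lpr_dt (K26.f232123 IH) (Lpe (K26.f359901 IH) (Lpn (LP (LK LD1_c10 LD2_c19 LD3_c61))))))))))))
theorem f359991 : Led Lsl_et (LP (LK LD1_c10 LD2_c19 LD3_c61)) = (LP (LK LD1_c18 LD2_c45 LD3_c32)) :=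
  Lre_e IH (LK LD1_c10 LD2_c19 LD3_c61) (LK LD1_c18 LD2_c45 LD3_c32) Lrfl Lrfl
theorem f365877 : Led Lsl_gf (LP (LK LD1_c17 LD2_c52 LD3_c40)) = (LP (LK LD1_c18 LD2_c45 LD3_c32)) :=
  Lgr Lrot141 (Lpe (f339146 IH) (Lpr_dt (f358602 IH) (Lpr_gt (f365875 IH) (Lpe (K26.f259529 IH) (Lpr_et (f361694 IH) (Lpr_gt (K26.f221531 IH) (Lpr_dt (K23.f27508 IH) (Lpe (K25.f355286 IH) (Lpr_df (f359912 IH) (Lpr_et (f359991 IH) (Lpn (LP (LK LD1_c18 LD2_c45 LD3_c32)))))))))))))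
theorem f221064 : Led Lsl_cf (LP (LK LD1_c8 LD2_c26 LD3_c26)) = (LP (LK LD1_c5 LD2_c31 LD3_c5)) :=
  Lgr Lrot39 (Lpr_et (K12.f27494 IH) (Lpr_ct (K12.f221061 IH) (Lpr_et (K23.f221056 IH) (Lpn (LP (LK LD1_c5 LD2_c31 LD3_c5))))))
theorem f221125 : Led Lsl_dt (LP (LK LD1_c10 LD2_c53 LD3_c43)) = (LP (LK LD1_c5 LD2_c31 LD3_c5)) :=
  Lre_d IH (LK LD1_c10 LD2_c53 LD3_c43) (LK LD1_c5 LD2_c31 LD3_c5) Lrfl Lrfl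
theorem f221130 : Led Lsl_gt (LP (LK LD1_c19 LD2_c41 LD3_c21)) = (LP (LK LD1_c10 LD2_c53 LD3_c43)) :=
  Lre_g IH (LK LD1_c19 LD2_c41 LD3_c21) (LK LD1_c10 LD2_c53 LD3_c43) Lrfl Lrfl
theorem f264560 : Led Lsl_ct (LP (LK LD1_c8 LD2_c59 LD3_c54)) = (LP (LK LD1_c16 LD2_c49 LD3_c14)) :=
  Lre_c IH (LK LD1_c8 LD2_c59 LD3_c54) (LK LD1_c16 LD2_c49 LD3_c14) Lrfl Lrfl
theorem f323979 : Led Lsl_ef (LP (LK LD1_c15 LD2_c37 LD3_c27)) = (LP (LK LD1_c16 LD2_c49 LD3_c14)) :=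
  Lgr Lrot28 (Lpr_ct (K22.f295891 IH) (Lpr_et (K22.f323975 IH) (Lpr_ct (f264560 IH) (Lpn (LP (LK LD1_c16 LD2_c49 LD3_c14))))))
theorem f221128 : Led Lsl_et (LP (LK LD1_c5 LD2_c31 LD3_c5)) = (LP (LK LD1_c2 LD2_c41 LD3_c49)) :=
  Lre_e IH (LK LD1_c5 LD2_c31 LD3_c5) (LK LD1_c2 LD2_c41 LD3_c49) Lrfl Lrfl
theorem f221095 : Led Lsl_dt (LP (LK LD1_c5 LD2_c31 LD3_c5)) = (LP (LK LD1_c10 LD2_c53 LD3_c43)) :=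
  Lre_d IH (LK LD1_c5 LD2_c31 LD3_c5) (LK LD1_c10 LD2_c53 LD3_c43) Lrfl Lrfl
theorem f323997 : Led Lsl_df (LP (LK LD1_c19 LD2_c41 LD3_c21)) = (LP (LK LD1_c16 LD2_c49 LD3_c14)) :=
  Lgr Lrot170 (Lpr_gt (f221130 IH) (Lpe (f221095 IH) (Lpr_et (f221128 IH) (Lpe (K16.f221283 IH) (Lpr_dt (K16.f218201 IH) (Lpr_gt (K17.f221372 IH) (Lpr_df (K17.f282800 IH) (Lpr_et (K14.f213791 IH) (Lpr_gt (K23.f295888 IH) (Lpr_ef (f323979 IH) (Lpn (LP (LK LD1_c16 LD2_c49 LD3_c14)))))))))))))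
theorem f363453 : Led Lsl_gt (LP (LK LD1_c9 LD2_c36 LD3_c48)) = (LP (LK LD1_c16 LD2_c9 LD3_c6)) :=
  Lgr Lrot112 (Lpe (K26.f222109 IH) (Lpr_et (K26.f305943 IH) (Lpe (K19.f307113 IH) (Lpe (K19.f304946 IH) (Lpe (K19.f307063 IH) (Lpr_gf (K19.f307097 IH) (Lpr_df (K19.f246646 IH) (Lpe (K26.f220124 IH) (Lpr_ef (K26.f363447 IH) (Lpr_dt (K26.f355279 IH) (Lpn (LP (LK LD1_c16 LD2_c9 LD3_c6)))))))))))))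
theorem f326858 : Led Lsl_ct (LP (LK LD1_c9 LD2_c36 LD3_c48)) = (LP (LK LD1_c17 LD2_c42 LD3_c12)) :=
  Lre_c IH (LK LD1_c9 LD2_c36 LD3_c48) (LK LD1_c17 LD2_c42 LD3_c12) Lrfl Lrfl
theorem f326859 : Led Lsl_gt (LP (LK LD1_c17 LD2_c42 LD3_c12)) = (LP (LK LD1_c27 LD2_c29 LD3_c31)) :=
  Lre_g IH (LK LD1_c17 LD2_c42 LD3_c12) (LK LD1_c27 LD2_c29 LD3_c31) Lrfl Lrfl
theorem f301084 : Led Lsl_ct (LP (LK LD1_c7 LD2_c58 LD3_c7)) = (LP (LK LD1_c3 LD2_c58 LD3_c23)) :=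
  Lre_c IH (LK LD1_c7 LD2_c58 LD3_c7) (LK LD1_c3 LD2_c58 LD3_c23) Lrfl Lrfl
theorem f301085 : Led Lsl_dt (LP (LK LD1_c15 LD2_c1 LD3_c60)) = (LP (LK LD1_c7 LD2_c58 LD3_c7)) :=
  Lre_d IH (LK LD1_c15 LD2_c1 LD3_c60) (LK LD1_c7 LD2_c58 LD3_c7) Lrfl Lrfl
theorem f301086 : Led Lsl_gt (LP (LK LD1_c24 LD2_c50 LD3_c25)) = (LP (LK LD1_c15 LD2_c1 LD3_c60)) :=
  Lre_g IH (LK LD1_c24 LD2_c50 LD3_c25) (LK LD1_c15 LD2_c1 LD3_c60) Lrfl Lrfl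
theorem f363455 : Led Lsl_dt (LP (LK LD1_c27 LD2_c29 LD3_c31)) = (LP (LK LD1_c24 LD2_c50 LD3_c25)) :=
  Lgr Lrot57 (Lpe (f326859 IH) (Lpe (f326858 IH) (Lpr_gt (f363453 IH) (Lpr_dt (K26.f301189 IH) (Lpr_gt (K26.f243429 IH) (Lpe (K19.f301162 IH) (Lpe (f301084 IH) (Lpe (f301085 IH) (Lpe (f301086 IH) (Lpn (LP (LK LD1_c24 LD2_c50 LD3_c25))))))))))))
theorem f301371 : Led Lsl_et (LP (LK LD1_c7 LD2_c58 LD3_c7)) = (LP (LK LD1_c3 LD2_c58 LD3_c22)) :=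
  Lre_e IH (LK LD1_c7 LD2_c58 LD3_c7) (LK LD1_c3 LD2_c58 LD3_c22) Lrfl Lrfl
theorem f224000 : Led Lsl_et (LP (LK LD1_c7 LD2_c57 LD3_c43)) = (LP (LK LD1_c15 LD2_c1 LD3_c4)) :=
  Lre_e IH (LK LD1_c7 LD2_c57 LD3_c43) (LK LD1_c15 LD2_c1 LD3_c4) Lrfl Lrfl
theorem f224047 : Led Lsl_gt (LP (LK LD1_c15 LD2_c1 LD3_c4)) = (LP (LK LD1_c24 LD2_c48 LD3_c48)) :=
  Lre_g IH (LK LD1_c15 LD2_c1 LD3_c4) (LK LD1_c24 LD2_c48 LD3_c48) Lrfl Lrfl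
theorem f363459 : Led Lsl_et (LP (LK LD1_c27 LD2_c29 LD3_c31)) = (LP (LK LD1_c24 LD2_c48 LD3_c48)) :=
  Lgr Lrot122 (Lpr_dt (f363455 IH) (Lpr_gt (f301086 IH) (Lpe (K21.f301181 IH) (Lpr_et (f301371 IH) (Lpe (K18.f303275 IH) (Lpr_dt (K18.f226818 IH) (Lpr_gt (K18.f303292 IH) (Lpe (K18.f224012 IH) (Lpr_et (f224000 IH) (Lpr_gt (f224047 IH) (Lpn (LP (LK LD1_c24 LD2_c48 LD3_c48)))))))))))))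
theorem f363463 : Led Lsl_ef (LP (LK LD1_c27 LD2_c29 LD3_c31)) = (LP (LK LD1_c24 LD2_c48 LD3_c48)) :=
  Lgr Lrot88 (Lpr_et (f363459 IH) (Lpn (LP (LK LD1_c24 LD2_c48 LD3_c48))))
theorem f348108 : Led Lsl_gf (LP (LK LD1_c10 LD2_c51 LD3_c54)) = (LP (LK LD1_c10 LD2_c37 LD3_c47)) :=
  Lgr Lrot134 (Lpr_df (K23.f348100 IH) (Lpr_et (K23.f194619 IH) (Lpe (K23.f340075 IH) (Lpr_ef (K19.f224800 IH) (Lpe (K20.f306498 IH) (Lpr_gt (K22.f331504 IH) (Lpe (K23.f342022 IH) (Lpr_et (K23.f342009 IH) (Lpr_gt (K25.f342020 IH) (Lpr_dt (K15.f169194 IH) (Lpn (LP (LK LD1_c10 LD2_c37 LD3_c47)))))))))))))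
theorem f291330 : Led Lsl_ct (LP (LK LD1_c4 LD2_c55 LD3_c13)) = (LP (LK LD1_c2 LD2_c25 LD3_c31)) :=
  Lre_c IH (LK LD1_c4 LD2_c55 LD3_c13) (LK LD1_c2 LD2_c25 LD3_c31) Lrfl Lrfl
theorem f220121 : Led Lsl_ct (LP (LK LD1_c8 LD2_c25 LD3_c21)) = (LP (LK LD1_c4 LD2_c13 LD3_c5)) :=
  Lre_c IH (LK LD1_c8 LD2_c25 LD3_c21) (LK LD1_c4 LD2_c13 LD3_c5) Lrfl Lrfl
theorem f291331 : Led Lsl_gt (LP (LK LD1_c15 LD2_c49 LD3_c32)) = (LP (LK LD1_c8 LD2_c25 LD3_c21)) :=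
  Lre_g IH (LK LD1_c15 LD2_c49 LD3_c32) (LK LD1_c8 LD2_c25 LD3_c21) Lrfl Lrfl
theorem f348110 : Led Lsl_ct (LP (LK LD1_c10 LD2_c51 LD3_c54)) = (LP (LK LD1_c15 LD2_c49 LD3_c32)) :=
  Lgr Lrot152 (Lpr_gf (f348108 IH) (Lpe (K15.f169194 IH) (Lpr_gt (K25.f339595 IH) (Lpr_ct (f291323 IH) (Lpr_gt (f263771 IH) (Lpr_ct (f291330 IH) (Lpr_df (K19.f246646 IH) (Lpe (f220121 IH) (Lpe (f291331 IH) (Lpn (LP (LK LD1_c15 LD2_c49 LD3_c32))))))))))))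
theorem f348121 : Led Lsl_cf (LP (LK LD1_c10 LD2_c51 LD3_c54)) = (LP (LK LD1_c15 LD2_c49 LD3_c32)) :=
  Lgr Lrot11 (Lpr_ct (f348110 IH) (Lpn (LP (LK LD1_c15 LD2_c49 LD3_c32))))
theorem f348104 : Led Lsl_et (LP (LK LD1_c10 LD2_c51 LD3_c54)) = (LP (LK LD1_c15 LD2_c18 LD3_c41)) :=
  Lgr Lrot71 (Lpr_df (K23.f348100 IH) (Lpe (K23.f304140 IH) (Lpe (K23.f340077 IH) (Lpr_ef (K23.f304127 IH) (Lpe (K23.f237173 IH) (Lpn (LP (LK LD1_c15 LD2_c18 LD3_c41))))))))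
theorem f243422 : Led Lsl_ct (LP (LK LD1_c8 LD2_c37 LD3_c17)) = (LP (LK LD1_c4 LD2_c19 LD3_c32)) :=
  Lre_c IH (LK LD1_c8 LD2_c37 LD3_c17) (LK LD1_c4 LD2_c19 LD3_c32) Lrfl Lrfl
theorem f243466 : Led Lsl_gt (LP (LK LD1_c16 LD2_c9 LD3_c2)) = (LP (LK LD1_c8 LD2_c37 LD3_c17)) :=
  Lre_g IH (LK LD1_c16 LD2_c9 LD3_c2) (LK LD1_c8 LD2_c37 LD3_c17) Lrfl Lrfl
theorem f301405 : Led Lsl_cf (LP (LK LD1_c16 LD2_c9 LD3_c2)) = (LP (LK LD1_c15 LD2_c18 LD3_c41)) :=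
  Lgr Lrot169 (Lpr_gt (f243466 IH) (Lpr_ct (f243422 IH) (Lpe (K26.f267190 IH) (Lpe (f301084 IH) (Lpe (K18.f301088 IH) (Lpr_cf (K18.f301340 IH) (Lpe (K17.f261038 IH) (Lpr_df (K15.f261034 IH) (Lpr_gt (K23.f284503 IH) (Lpn (LP (LK LD1_c15 LD2_c18 LD3_c41))))))))))))
theorem f348126 : Led Lsl_et (LP (LK LD1_c16 LD2_c9 LD3_c2)) = (LP (LK LD1_c15 LD2_c49 LD3_c32)) :=
  Lgr Lrot158 (Lpr_cf (f301405 IH) (Lpe (f348104 IH) (Lpr_cf (f348121 IH) (Lpn (LP (LK LD1_c15 LD2_c49 LD3_c32))))))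
theorem f348130 : Led Lsl_ef (LP (LK LD1_c16 LD2_c9 LD3_c2)) = (LP (LK LD1_c15 LD2_c49 LD3_c32)) :=
  Lgr Lrot88 (Lpr_et (f348126 IH) (Lpn (LP (LK LD1_c15 LD2_c49 LD3_c32))))
theorem f348140 : Led Lsl_ct (LP (LK LD1_c16 LD2_c9 LD3_c2)) = (LP (LK LD1_c15 LD2_c18 LD3_c41)) :=
  Lgr Lrot15 (Lpr_ef (f348130 IH) (Lpe (f348110 IH) (Lpr_ef (K23.f348136 IH) (Lpn (LP (LK LD1_c15 LD2_c18 LD3_c41))))))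
theorem f347235 : Led Lsl_ft (LP (LK LD1_c15 LD2_c48 LD3_c3)) = (LP (LK LD1_c8 LD2_c24 LD3_c12)) :=
  Lre_f IH (LK LD1_c15 LD2_c48 LD3_c3) (LK LD1_c8 LD2_c24 LD3_c12) Lrfl Lrfl
theorem f347251 : Led Lsl_gt (LP (LK LD1_c15 LD2_c48 LD3_c3)) = (LP (LK LD1_c16 LD2_c9 LD3_c2)) :=
  Lgr Lrot5 (Lpr_ft (f347235 IH) (Lpr_at (K23.f347243 IH) (Lpe (f243466 IH) (Lpn (LP (LK LD1_c16 LD2_c9 LD3_c2))))))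
theorem f348144 : Led Lsl_ct (LP (LK LD1_c27 LD2_c29 LD3_c31)) = (LP (LK LD1_c25 LD2_c9 LD3_c30)) :=
  Lgr Lrot110 (Lpe (f326859 IH) (Lpe (f326858 IH) (Lpe (K26.f326832 IH) (Lpe (K26.f170102 IH) (Lpr_gt (K21.f326854 IH) (Lpr_ct (K25.f167143 IH) (Lpr_gt (f347251 IH) (Lpr_ct (f348140 IH) (Lpe (K23.f237172 IH) (Lpn (LP (LK LD1_c25 LD2_c9 LD3_c30))))))))))))
theorem f363465 : Led Lsl_ct (LP (LK LD1_c15 LD2_c19 LD3_c54)) = (LP (LK LD1_c24 LD2_c48 LD3_c48)) :=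
  Lgr Lrot15 (Lpr_ef (K23.f304127 IH) (Lpe (f348144 IH) (Lpr_ef (f363463 IH) (Lpn (LP (LK LD1_c24 LD2_c48 LD3_c48))))))
theorem f348088 : Led Lsl_bf (LP (LK LD1_c8 LD2_c57 LD3_c45)) = (LP (LK LD1_c15 LD2_c19 LD3_c54)) :=
  Lgr Lrot24 (Lpr_bt (K23.f348084 IH) (Lpn (LP (LK LD1_c15 LD2_c19 LD3_c54))))
theorem f282441 : Led Lsl_ft (LP (LK LD1_c4 LD2_c29 LD3_c49)) = (LP (LK LD1_c8 LD2_c57 LD3_c47)) :=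
  Lre_f IH (LK LD1_c4 LD2_c29 LD3_c49) (LK LD1_c8 LD2_c57 LD3_c47) Lrfl Lrfl
theorem f317944 : Led Lsl_bt (LP (LK LD1_c2 LD2_c42 LD3_c18)) = (LP (LK LD1_c4 LD2_c29 LD3_c49)) :=
  Lgr Lrot35 (Lpe (K23.f213269 IH) (Lpr_bf (K25.f317939 IH) (Lpe (f282441 IH) (Lpn (LP (LK LD1_c4 LD2_c29 LD3_c49))))))
theorem f258807 : Led Lsl_gt (LP (LK LD1_c10 LD2_c56 LD3_c0)) = (LP (LK LD1_c5 LD2_c32 LD3_c10)) :=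
  Lre_g IH (LK LD1_c10 LD2_c56 LD3_c0) (LK LD1_c5 LD2_c32 LD3_c10) Lrfl Lrfl
theorem f359855 : Led Lsl_gf (LP (LK LD1_c15 LD2_c2 LD3_c28)) = (LP (LK LD1_c24 LD2_c48 LD3_c48)) :=
  Lgr Lrot76 (Lpr_af (K26.f359844 IH) (Lpe (K26.f224043 IH) (Lpr_gt (f224047 IH) (Lpn (LP (LK LD1_c24 LD2_c48 LD3_c48))))))
theorem f359897 : Led Lsl_at (LP (LK LD1_c7 LD2_c58 LD3_c18)) = (LP (LK LD1_c9 LD2_c51 LD3_c28)) :=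
  Lgr Lrot51 (Lpr_df (K23.f223097 IH) (Lpr_af (K26.f359889 IH) (Lpe (K22.f232107 IH) (Lpn (LP (LK LD1_c9 LD2_c51 LD3_c28))))))
theorem f361786 : Led Lsl_gt (LP (LK LD1_c15 LD2_c2 LD3_c18)) = (LP (LK LD1_c15 LD2_c51 LD3_c55)) :=
  Lgr Lrot5 (Lpr_ft (K26.f218920 IH) (Lpr_at (f359897 IH) (Lpr_gf (K26.f361784 IH) (Lpn (LP (LK LD1_c15 LD2_c51 LD3_c55))))))
theorem f363467 : Led Lsl_cf (LP (LK LD1_c10 LD2_c56 LD3_c0)) = (LP (LK LD1_c15 LD2_c51 LD3_c55)) :=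
  Lgr Lrot125 (Lpr_gt (f258807 IH) (Lpe (K22.f258855 IH) (Lpr_bt (f317944 IH) (Lpr_gt (K23.f282442 IH) (Lpr_bf (f348088 IH) (Lpr_ct (f363465 IH) (Lpe (f359855 IH) (Lpe (K26.f359835 IH) (Lpr_bt (K26.f223110 IH) (Lpr_gt (f361786 IH) (Lpn (LP (LK LD1_c15 LD2_c51 LD3_c55)))))))))))))
theorem f363470 : Led Lsl_ct (LP (LK LD1_c10 LD2_c56 LD3_c0)) = (LP (LK LD1_c15 LD2_c51 LD3_c55)) :=
  Lgr Lrot59 (Lpr_cf (f363467 IH) (Lpn (LP (LK LD1_c15 LD2_c51 LD3_c55))))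
theorem f263049 : Led Lsl_gt (LP (LK LD1_c5 LD2_c32 LD3_c28)) = (LP (LK LD1_c10 LD2_c56 LD3_c0)) :=
  Lre_g IH (LK LD1_c5 LD2_c32 LD3_c28) (LK LD1_c10 LD2_c56 LD3_c0) Lrfl Lrfl
theorem f264447 : Led Lsl_gt (LP (LK LD1_c8 LD2_c57 LD3_c45)) = (LP (LK LD1_c4 LD2_c29 LD3_c55)) :=
  Lre_g IH (LK LD1_c8 LD2_c57 LD3_c45) (LK LD1_c4 LD2_c29 LD3_c55) Lrfl Lrfl
theorem f355307 : Led Lsl_ct (LP (LK LD1_c15 LD2_c51 LD3_c54)) = (LP (LK LD1_c8 LD2_c26 LD3_c61)) :=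
  Lre_c IH (LK LD1_c15 LD2_c51 LD3_c54) (LK LD1_c8 LD2_c26 LD3_c61) Lrfl Lrfl
theorem f363476 : Led Lsl_gt (LP (LK LD1_c8 LD2_c57 LD3_c57)) = (LP (LK LD1_c15 LD2_c51 LD3_c54)) :=
  Lgr Lrot150 (Lpe (K23.f263042 IH) (Lpe (f264447 IH) (Lpr_df (K23.f348073 IH) (Lpr_gt (K23.f264746 IH) (Lpr_ct (K22.f258854 IH) (Lpr_gt (f263049 IH) (Lpr_ct (f363470 IH) (Lpe (K26.f322071 IH) (Lpe (f355307 IH) (Lpn (LP (LK LD1_c15 LD2_c51 LD3_c54))))))))))))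
theorem f271770 : Led Lsl_ft (LP (LK LD1_c8 LD2_c57 LD3_c57)) = (LP (LK LD1_c4 LD2_c29 LD3_c52)) :=
  Lre_f IH (LK LD1_c8 LD2_c57 LD3_c57) (LK LD1_c4 LD2_c29 LD3_c52) Lrfl Lrfl
theorem f271727 : Led Lsl_at (LP (LK LD1_c4 LD2_c29 LD3_c52)) = (LP (LK LD1_c8 LD2_c27 LD3_c4)) :=
  Lgr Lrot100 (Lpr_af (K16.f271725 IH) (Lpn (LP (LK LD1_c8 LD2_c27 LD3_c4))))
theorem f363478 : Led Lsl_gf (LP (LK LD1_c8 LD2_c27 LD3_c4)) = (LP (LK LD1_c15 LD2_c51 LD3_c54)) :=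
  Lgr Lrot76 (Lpe (f271727 IH) (Lpe (f271770 IH) (Lpr_gt (f363476 IH) (Lpn (LP (LK LD1_c15 LD2_c51 LD3_c54))))))
theorem f221288 : Led Lsl_dt (LP (LK LD1_c8 LD2_c27 LD3_c4)) = (LP (LK LD1_c15 LD2_c52 LD3_c2)) :=
  Lre_d IH (LK LD1_c8 LD2_c27 LD3_c4) (LK LD1_c15 LD2_c52 LD3_c2) Lrfl Lrfl
theorem f355308 : Led Lsl_ct (LP (LK LD1_c8 LD2_c26 LD3_c61)) = (LP (LK LD1_c15 LD2_c51 LD3_c54)) :=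
  Lre_c IH (LK LD1_c8 LD2_c26 LD3_c61) (LK LD1_c15 LD2_c51 LD3_c54) Lrfl Lrfl
theorem f271757 : Led Lsl_dt (LP (LK LD1_c16 LD2_c46 LD3_c42)) = (LP (LK LD1_c8 LD2_c57 LD3_c54)) :=
  Lre_d IH (LK LD1_c16 LD2_c46 LD3_c42) (LK LD1_c8 LD2_c57 LD3_c54) Lrfl Lrfl
theorem f264698 : Led Lsl_ft (LP (LK LD1_c10 LD2_c43 LD3_c7)) = (LP (LK LD1_c19 LD2_c24 LD3_c9)) :=
  Lre_f IH (LK LD1_c10 LD2_c43 LD3_c7) (LK LD1_c19 LD2_c24 LD3_c9) Lrfl Lrfl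
theorem f258825 : Led Lsl_ff (LP (LK LD1_c19 LD2_c46 LD3_c11)) = (LP (LK LD1_c25 LD2_c51 LD3_c26)) :=
  Lgr Lrot3 (Lpr_ft (K20.f258813 IH) (Lpn (LP (LK LD1_c25 LD2_c51 LD3_c26))))
theorem f258831 : Led Lsl_ft (LP (LK LD1_c25 LD2_c51 LD3_c27)) = (LP (LK LD1_c15 LD2_c55 LD3_c10)) :=
  Lre_f IH (LK LD1_c25 LD2_c51 LD3_c27) (LK LD1_c15 LD2_c55 LD3_c10) Lrfl Lrfl
theorem f258832 : Led Lsl_ct (LP (LK LD1_c19 LD2_c46 LD3_c11)) = (LP (LK LD1_c25 LD2_c51 LD3_c27)) :=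
  Lgr Lrot40 (Lpr_ff (f258825 IH) (Lpe (K20.f258791 IH) (Lpe (f258831 IH) (Lpn (LP (LK LD1_c25 LD2_c51 LD3_c27))))))
theorem f264699 : Led Lsl_at (LP (LK LD1_c19 LD2_c24 LD3_c9)) = (LP (LK LD1_c25 LD2_c51 LD3_c27)) :=
  Lgr Lrot33 (Lpe (f264698 IH) (Lpr_dt (K15.f264685 IH) (Lpr_ct (K15.f264684 IH) (Lpr_dt (K15.f264632 IH) (Lpr_ct (K15.f258836 IH) (Lpr_dt (K15.f222524 IH) (Lpr_ct (K15.f258835 IH) (Lpr_dt (K20.f258812 IH) (Lpr_ct (f258832 IH) (Lpn (LP (LK LD1_c25 LD2_c51 LD3_c27))))))))))))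
theorem f317915 : Led Lsl_gt (LP (LK LD1_c10 LD2_c43 LD3_c7)) = (LP (LK LD1_c16 LD2_c46 LD3_c42)) :=
  Lgr Lrot5 (Lpr_ft (f264698 IH) (Lpr_at (f264699 IH) (Lpr_gf (K20.f317913 IH) (Lpn (LP (LK LD1_c16 LD2_c46 LD3_c42))))))
theorem f257387 : Led Lsl_gt (LP (LK LD1_c10 LD2_c43 LD3_c6)) = (LP (LK LD1_c5 LD2_c25 LD3_c57)) :=
  Lre_g IH (LK LD1_c10 LD2_c43 LD3_c6) (LK LD1_c5 LD2_c25 LD3_c57) Lrfl Lrfl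
theorem f347958 : Led Lsl_cf (LP (LK LD1_c10 LD2_c19 LD3_c61)) = (LP (LK LD1_c10 LD2_c43 LD3_c6)) :=
  Lgr Lrot166 (Lpr_gt (K26.f189706 IH) (Lpe (K23.f223097 IH) (Lpr_gt (K23.f347954 IH) (Lpe (K23.f347864 IH) (Lpr_ct (K25.f347874 IH) (Lpe (f271757 IH) (Lpe (f317915 IH) (Lpe (K26.f264790 IH) (Lpe (f257387 IH) (Lpn (LP (LK LD1_c10 LD2_c43 LD3_c6))))))))))))
theorem f359906 : Led Lsl_dt (LP (LK LD1_c19 LD2_c24 LD3_c6)) = (LP (LK LD1_c10 LD2_c43 LD3_c6)) :=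
  Lre_d IH (LK LD1_c19 LD2_c24 LD3_c6) (LK LD1_c10 LD2_c43 LD3_c6) Lrfl Lrfl
theorem f363509 : Led Lsl_gt (LP (LK LD1_c15 LD2_c52 LD3_c2)) = (LP (LK LD1_c19 LD2_c24 LD3_c6)) :=
  Lgr Lrot49 (Lpe (f221288 IH) (Lpr_gf (f363478 IH) (Lpe (f355308 IH) (Lpr_gt (K26.f221531 IH) (Lpr_dt (K23.f27508 IH) (Lpe (K25.f355286 IH) (Lpr_dt (K26.f355309 IH) (Lpr_cf (f347958 IH) (Lpe (f359906 IH) (Lpn (LP (LK LD1_c19 LD2_c24 LD3_c6))))))))))))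
theorem f221287 : Led Lsl_et (LP (LK LD1_c8 LD2_c27 LD3_c4)) = (LP (LK LD1_c4 LD2_c14 LD3_c14)) :=
  Lre_e IH (LK LD1_c8 LD2_c27 LD3_c4) (LK LD1_c4 LD2_c14 LD3_c14) Lrfl Lrfl
theorem f359905 : Led Lsl_dt (LP (LK LD1_c10 LD2_c43 LD3_c6)) = (LP (LK LD1_c19 LD2_c24 LD3_c6)) :=
  Lre_d IH (LK LD1_c10 LD2_c43 LD3_c6) (LK LD1_c19 LD2_c24 LD3_c6) Lrfl Lrfl
theorem f363511 : Led Lsl_et (LP (LK LD1_c10 LD2_c43 LD3_c6)) = (LP (LK LD1_c19 LD2_c24 LD3_c7)) :=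
  Lre_e IH (LK LD1_c10 LD2_c43 LD3_c6) (LK LD1_c19 LD2_c24 LD3_c7) Lrfl Lrfl
theorem f363513 : Led Lsl_gf (LP (LK LD1_c16 LD2_c49 LD3_c14)) = (LP (LK LD1_c19 LD2_c24 LD3_c7)) :=
  Lgr Lrot138 (Lpe (f323997 IH) (Lpr_gt (f221130 IH) (Lpe (f221095 IH) (Lpr_et (f221128 IH) (Lpe (K16.f221283 IH) (Lpe (f221287 IH) (Lpr_dt (f221288 IH) (Lpr_gt (f363509 IH) (Lpe (f359905 IH) (Lpr_et (f363511 IH) (Lpn (LP (LK LD1_c19 LD2_c24 LD3_c7)))))))))))))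
theorem f365881 : Led Lsl_cf (LP (LK LD1_c19 LD2_c24 LD3_c7)) = (LP (LK LD1_c18 LD2_c45 LD3_c32)) :=
  Lgr Lrot166 (Lpe (f363513 IH) (Lpe (f323997 IH) (Lpr_gt (f221130 IH) (Lpr_dt (f221125 IH) (Lpe (f221064 IH) (Lpr_df (K12.f27429 IH) (Lpr_gf (K25.f339122 IH) (Lpe (K22.f339131 IH) (Lpr_gf (f365877 IH) (Lpn (LP (LK LD1_c18 LD2_c45 LD3_c32))))))))))))
theorem f356699 : Led Lsl_bt (LP (LK LD1_c8 LD2_c53 LD3_c50)) = (LP (LK LD1_c4 LD2_c29 LD3_c0)) :=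
  Lgr Lrot127 (Lpr_bf (K25.f356697 IH) (Lpn (LP (LK LD1_c4 LD2_c29 LD3_c0))))
theorem f356684 : Led Lsl_ct (LP (LK LD1_c8 LD2_c53 LD3_c50)) = (LP (LK LD1_c16 LD2_c38 LD3_c25)) :=
  Lre_c IH (LK LD1_c8 LD2_c53 LD3_c50) (LK LD1_c16 LD2_c38 LD3_c25) Lrfl Lrfl
theorem f356682 : Led Lsl_gt (LP (LK LD1_c16 LD2_c38 LD3_c25)) = (LP (LK LD1_c26 LD2_c36 LD3_c32)) :=
  Lre_g IH (LK LD1_c16 LD2_c38 LD3_c25) (LK LD1_c26 LD2_c36 LD3_c32) Lrfl Lrfl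
theorem f264559 : Led Lsl_ct (LP (LK LD1_c16 LD2_c49 LD3_c14)) = (LP (LK LD1_c8 LD2_c59 LD3_c54)) :=
  Lre_c IH (LK LD1_c16 LD2_c49 LD3_c14) (LK LD1_c8 LD2_c59 LD3_c54) Lrfl Lrfl
theorem f323963 : Led Lsl_ct (LP (LK LD1_c8 LD2_c59 LD3_c53)) = (LP (LK LD1_c4 LD2_c30 LD3_c49)) :=
  Lre_c IH (LK LD1_c8 LD2_c59 LD3_c53) (LK LD1_c4 LD2_c30 LD3_c49) Lrfl Lrfl
theorem f365884 : Led Lsl_gt (LP (LK LD1_c25 LD2_c47 LD3_c1)) = (LP (LK LD1_c18 LD2_c45 LD3_c32)) :=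
  Lgr Lrot9 (Lpe (K25.f27501 IH) (Lpr_gt (K17.f189696 IH) (Lpe (K21.f183792 IH) (Lpe (K22.f329925 IH) (Lpr_ct (f323963 IH) (Lpe (K21.f323964 IH) (Lpe (f264559 IH) (Lpr_gf (f363513 IH) (Lpr_cf (f365881 IH) (Lpn (LP (LK LD1_c18 LD2_c45 LD3_c32))))))))))))
theorem f330002 : Led Lsl_et (LP (LK LD1_c16 LD2_c8 LD3_c39)) = (LP (LK LD1_c26 LD2_c5 LD3_c26)) :=
  Lre_e IH (LK LD1_c16 LD2_c8 LD3_c39) (LK LD1_c26 LD2_c5 LD3_c26) Lrfl Lrfl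
theorem f350679 : Led Lsl_ef (LP (LK LD1_c28 LD2_c2 LD3_c29)) = (LP (LK LD1_c18 LD2_c27 LD3_c59)) :=
  Lgr Lrot73 (Lpr_dt (K22.f251599 IH) (Lpr_et (K24.f350677 IH) (Lpe (K24.f350664 IH) (Lpr_et (f330002 IH) (Lpr_dt (K22.f329998 IH) (Lpn (LP (LK LD1_c18 LD2_c27 LD3_c59))))))))
theorem f321645 : Led Lsl_bt (LP (LK LD1_c10 LD2_c8 LD3_c18)) = (LP (LK LD1_c18 LD2_c27 LD3_c59)) :=
  Lre_b IH (LK LD1_c10 LD2_c8 LD3_c18) (LK LD1_c18 LD2_c27 LD3_c59) Lrfl Lrfl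
theorem f350681 : Led Lsl_bt (LP (LK LD1_c28 LD2_c2 LD3_c29)) = (LP (LK LD1_c18 LD2_c27 LD3_c61)) :=
  Lgr Lrot119 (Lpr_ef (f350679 IH) (Lpe (f321645 IH) (Lpe (K17.f286299 IH) (Lpn (LP (LK LD1_c18 LD2_c27 LD3_c61))))))
theorem f350685 : Led Lsl_bf (LP (LK LD1_c18 LD2_c27 LD3_c20)) = (LP (LK LD1_c18 LD2_c45 LD3_c27)) :=
  Lgr Lrot93 (Lpr_dt (K22.f251600 IH) (Lpr_bt (f350681 IH) (Lpe (K17.f286300 IH) (Lpn (LP (LK LD1_c18 LD2_c45 LD3_c27))))))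
theorem f350687 : Led Lsl_bt (LP (LK LD1_c19 LD2_c56 LD3_c49)) = (LP (LK LD1_c25 LD2_c47 LD3_c1)) :=
  Lgr Lrot119 (Lpe (K24.f350677 IH) (Lpr_bf (f350685 IH) (Lpe (K17.f264955 IH) (Lpn (LP (LK LD1_c25 LD2_c47 LD3_c1))))))
theorem f365886 : Led Lsl_cf (LP (LK LD1_c26 LD2_c36 LD3_c32)) = (LP (LK LD1_c19 LD2_c56 LD3_c49)) :=
  Lgr Lrot58 (Lpe (f356682 IH) (Lpe (f356684 IH) (Lpr_bt (f356699 IH) (Lpr_gf (K23.f264557 IH) (Lpe (K23.f183270 IH) (Lpr_ct (f264560 IH) (Lpr_gf (f363513 IH) (Lpr_cf (f365881 IH) (Lpe (f365884 IH) (Lpe (f350687 IH) (Lpn (LP (LK LD1_c19 LD2_c56 LD3_c49)))))))))))))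
theorem f330017 : Led Lsl_gt (LP (LK LD1_c8 LD2_c55 LD3_c35)) = (LP (LK LD1_c16 LD2_c42 LD3_c33)) :=
  Lre_g IH (LK LD1_c8 LD2_c55 LD3_c35) (LK LD1_c16 LD2_c42 LD3_c33) Lrfl Lrfl
theorem f365888 : Led Lsl_df (LP (LK LD1_c26 LD2_c36 LD3_c32)) = (LP (LK LD1_c16 LD2_c42 LD3_c33)) :=
  Lgr Lrot84 (Lpr_cf (f365886 IH) (Lpe (K24.f350669 IH) (Lpe (K20.f292497 IH) (Lpe (K20.f292521 IH) (Lpe (K23.f341002 IH) (Lpe (K26.f340391 IH) (Lpr_gt (K26.f41594 IH) (Lpr_dt (K1.f41562 IH) (Lpr_gt (f330017 IH) (Lpn (LP (LK LD1_c16 LD2_c42 LD3_c33))))))))))))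
theorem f365892 : Led Lsl_dt (LP (LK LD1_c26 LD2_c36 LD3_c32)) = (LP (LK LD1_c16 LD2_c42 LD3_c33)) :=
  Lgr Lrot42 (Lpr_df (f365888 IH) (Lpn (LP (LK LD1_c16 LD2_c42 LD3_c33))))
theorem f356683 : Led Lsl_ct (LP (LK LD1_c16 LD2_c38 LD3_c25)) = (LP (LK LD1_c8 LD2_c53 LD3_c50)) :=
  Lre_c IH (LK LD1_c16 LD2_c38 LD3_c25) (LK LD1_c8 LD2_c53 LD3_c50) Lrfl Lrfl
theorem f365898 : Led Lsl_gf (LP (LK LD1_c20 LD2_c55 LD3_c47)) = (LP (LK LD1_c16 LD2_c42 LD3_c33)) :=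
  Lgr Lrot143 (Lpr_dt (K1.f41581 IH) (Lpe (K1.f41607 IH) (Lpr_df (K1.f41608 IH) (Lpe (K22.f337684 IH) (Lpe (K25.f41597 IH) (Lpe (K25.f356748 IH) (Lpe (f356683 IH) (Lpr_gt (f356682 IH) (Lpr_dt (f365892 IH) (Lpn (LP (LK LD1_c16 LD2_c42 LD3_c33))))))))))))
theorem f274260 : Led Lsl_et (LP (LK LD1_c5 LD2_c6 LD3_c16)) = (LP (LK LD1_c10 LD2_c3 LD3_c31)) :=
  Lre_e IH (LK LD1_c5 LD2_c6 LD3_c16) (LK LD1_c10 LD2_c3 LD3_c31) Lrfl Lrfl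
theorem f255898 : Led Lsl_gt (LP (LK LD1_c10 LD2_c3 LD3_c31)) = (LP (LK LD1_c18 LD2_c22 LD3_c11)) :=
  Lre_g IH (LK LD1_c10 LD2_c3 LD3_c31) (LK LD1_c18 LD2_c22 LD3_c11) Lrfl Lrfl
theorem f365900 : Led Lsl_et (LP (LK LD1_c26 LD2_c36 LD3_c32)) = (LP (LK LD1_c18 LD2_c22 LD3_c11)) :=
  Lgr Lrot122 (Lpr_dt (f365892 IH) (Lpe (f365898 IH) (Lpe (K1.f41606 IH) (Lpr_et (K20.f41687 IH) (Lpr_gt (K10.f42476 IH) (Lpr_dt (K17.f42477 IH) (Lpr_gt (K17.f264906 IH) (Lpe (K22.f184636 IH) (Lpr_et (f274260 IH) (Lpr_gt (f255898 IH) (Lpn (LP (LK LD1_c18 LD2_c22 LD3_c11)))))))))))))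
theorem f365904 : Led Lsl_ef (LP (LK LD1_c26 LD2_c36 LD3_c32)) = (LP (LK LD1_c18 LD2_c22 LD3_c11)) :=
  Lgr Lrot88 (Lpr_et (f365900 IH) (Lpn (LP (LK LD1_c18 LD2_c22 LD3_c11))))
theorem f187813 : Led Lsl_ct (LP (LK LD1_c15 LD2_c28 LD3_c16)) = (LP (LK LD1_c8 LD2_c13 LD3_c32)) :=
  Lre_c IH (LK LD1_c15 LD2_c28 LD3_c16) (LK LD1_c8 LD2_c13 LD3_c32) Lrfl Lrfl
theorem f330009 : Led Lsl_cf (LP (LK LD1_c16 LD2_c42 LD3_c30)) = (LP (LK LD1_c26 LD2_c5 LD3_c26)) :=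
  Lgr Lrot14 (Lpe (K25.f316592 IH) (Lpr_gf (K20.f316590 IH) (Lpe (K20.f316589 IH) (Lpe (K20.f316596 IH) (Lpr_ct (f187813 IH) (Lpe (K20.f317280 IH) (Lpr_dt (K21.f247011 IH) (Lpr_gt (K22.f330003 IH) (Lpe (K25.f330000 IH) (Lpn (LP (LK LD1_c26 LD2_c5 LD3_c26))))))))))))
theorem f330012 : Led Lsl_ct (LP (LK LD1_c8 LD2_c55 LD3_c33)) = (LP (LK LD1_c16 LD2_c8 LD3_c39)) :=
  Lgr Lrot15 (Lpe (K20.f41643 IH) (Lpr_cf (f330009 IH) (Lpe (f330002 IH) (Lpn (LP (LK LD1_c16 LD2_c8 LD3_c39))))))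
theorem f356712 : Led Lsl_cf (LP (LK LD1_c19 LD2_c56 LD3_c49)) = (LP (LK LD1_c26 LD2_c36 LD3_c32)) :=
  Lgr Lrot99 (Lpe (K24.f350669 IH) (Lpe (f330012 IH) (Lpe (K20.f41636 IH) (Lpe (K1.f41561 IH) (Lpe (K22.f41585 IH) (Lpe (K22.f41586 IH) (Lpr_gt (K25.f356710 IH) (Lpr_ct (f356684 IH) (Lpr_gt (f356682 IH) (Lpn (LP (LK LD1_c26 LD2_c36 LD3_c32))))))))))))
theorem f365906 : Led Lsl_ct (LP (LK LD1_c18 LD2_c27 LD3_c20)) = (LP (LK LD1_c18 LD2_c22 LD3_c11)) :=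
  Lgr Lrot15 (Lpr_ef (K24.f350673 IH) (Lpr_cf (f356712 IH) (Lpr_ef (f365904 IH) (Lpn (LP (LK LD1_c18 LD2_c22 LD3_c11))))))
theorem f255897 : Led Lsl_ct (LP (LK LD1_c5 LD2_c6 LD3_c14)) = (LP (LK LD1_c10 LD2_c3 LD3_c31)) :=
  Lre_c IH (LK LD1_c5 LD2_c6 LD3_c14) (LK LD1_c10 LD2_c3 LD3_c31) Lrfl Lrfl
theorem f339066 : Led Lsl_bt (LP (LK LD1_c15 LD2_c16 LD3_c7)) = (LP (LK LD1_c10 LD2_c3 LD3_c30)) :=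
  Lgr Lrot127 (Lpr_bf (K25.f339025 IH) (Lpn (LP (LK LD1_c10 LD2_c3 LD3_c30))))
theorem f366817 : Led Lsl_gt (LP (LK LD1_c11 LD2_c9 LD3_c30)) = (LP (LK LD1_c18 LD2_c5 LD3_c40)) :=
  Lgr Lrot65 (Lpe (f329611 IH) (Lpr_bt (f329622 IH) (Lpr_gf (f366815 IH) (Lpe (f350675 IH) (Lpr_ct (f365906 IH) (Lpe (f255898 IH) (Lpe (f255897 IH) (Lpe (K21.f255885 IH) (Lpe (f339066 IH) (Lpr_ct (K25.f339072 IH) (Lpn (LP (LK LD1_c18 LD2_c5 LD3_c40)))))))))))))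
theorem f227087 : Led Lsl_ct (LP (LK LD1_c8 LD2_c8 LD3_c22)) = (LP (LK LD1_c15 LD2_c19 LD3_c37)) :=
  Lre_c IH (LK LD1_c8 LD2_c8 LD3_c22) (LK LD1_c15 LD2_c19 LD3_c37) Lrfl Lrfl
theorem f227095 : Led Lsl_gt (LP (LK LD1_c15 LD2_c19 LD3_c37)) = (LP (LK LD1_c25 LD2_c10 LD3_c43)) :=
  Lre_g IH (LK LD1_c15 LD2_c19 LD3_c37) (LK LD1_c25 LD2_c10 LD3_c43) Lrfl Lrfl
theorem f366821 : Led Lsl_ct (LP (LK LD1_c25 LD2_c10 LD3_c43)) = (LP (LK LD1_c15 LD2_c20 LD3_c38)) :=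
  Lgr Lrot110 (Lpe (f227095 IH) (Lpe (f227087 IH) (Lpe (K25.f200816 IH) (Lpe (K25.f329605 IH) (Lpr_gt (f366817 IH) (Lpe (K25.f339074 IH) (Lpr_gt (K25.f283777 IH) (Lpr_ct (K25.f291254 IH) (Lpe (K25.f291241 IH) (Lpn (LP (LK LD1_c15 LD2_c20 LD3_c38))))))))))))
theorem f252626 : Led Lsl_et (LP (LK LD1_c10 LD2_c47 LD3_c38)) = (LP (LK LD1_c5 LD2_c28 LD3_c12)) :=
  Lre_e IH (LK LD1_c10 LD2_c47 LD3_c38) (LK LD1_c5 LD2_c28 LD3_c12) Lrfl Lrfl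
theorem f326642 : Led Lsl_et (LP (LK LD1_c5 LD2_c30 LD3_c10)) = (LP (LK LD1_c10 LD2_c51 LD3_c49)) :=
  Lre_e IH (LK LD1_c5 LD2_c30 LD3_c10) (LK LD1_c10 LD2_c51 LD3_c49) Lrfl Lrfl
theorem f366410 : Led Lsl_ff (LP (LK LD1_c10 LD2_c47 LD3_c38)) = (LP (LK LD1_c10 LD2_c51 LD3_c49)) :=
  Lgr Lrot72 (Lpr_et (f252626 IH) (Lpr_ft (K26.f364647 IH) (Lpe (K26.f306706 IH) (Lpr_ft (f366402 IH) (Lpr_et (f326642 IH) (Lpn (LP (LK LD1_c10 LD2_c51 LD3_c49))))))))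
theorem f252663 : Led Lsl_bt (LP (LK LD1_c10 LD2_c47 LD3_c38)) = (LP (LK LD1_c19 LD2_c31 LD3_c26)) :=
  Lre_b IH (LK LD1_c10 LD2_c47 LD3_c38) (LK LD1_c19 LD2_c31 LD3_c26) Lrfl Lrfl
theorem f326614 : Led Lsl_bt (LP (LK LD1_c19 LD2_c38 LD3_c26)) = (LP (LK LD1_c10 LD2_c51 LD3_c49)) :=
  Lre_b IH (LK LD1_c19 LD2_c38 LD3_c26) (LK LD1_c10 LD2_c51 LD3_c49) Lrfl Lrfl
theorem f366412 : Led Lsl_ft (LP (LK LD1_c19 LD2_c31 LD3_c26)) = (LP (LK LD1_c19 LD2_c38 LD3_c26)) :=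
  Lgr Lrot75 (Lpe (f252663 IH) (Lpr_ff (f366410 IH) (Lpe (f326614 IH) (Lpn (LP (LK LD1_c19 LD2_c38 LD3_c26))))))
theorem f366418 : Led Lsl_ff (LP (LK LD1_c19 LD2_c31 LD3_c26)) = (LP (LK LD1_c19 LD2_c38 LD3_c26)) :=
  Lgr Lrot3 (Lpr_ft (f366412 IH) (Lpn (LP (LK LD1_c19 LD2_c38 LD3_c26))))
theorem f314299 : Led Lsl_ct (LP (LK LD1_c19 LD2_c31 LD3_c26)) = (LP (LK LD1_c25 LD2_c22 LD3_c56)) :=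
  Lgr Lrot59 (Lpr_cf (K26.f314297 IH) (Lpn (LP (LK LD1_c25 LD2_c22 LD3_c56))))
theorem f269278 : Led Lsl_ct (LP (LK LD1_c8 LD2_c8 LD3_c2)) = (LP (LK LD1_c15 LD2_c18 LD3_c55)) :=
  Lre_c IH (LK LD1_c8 LD2_c8 LD3_c2) (LK LD1_c15 LD2_c18 LD3_c55) Lrfl Lrfl
theorem f269280 : Led Lsl_bt (LP (LK LD1_c15 LD2_c18 LD3_c55)) = (LP (LK LD1_c25 LD2_c9 LD3_c50)) :=
  Lre_b IH (LK LD1_c15 LD2_c18 LD3_c55) (LK LD1_c25 LD2_c9 LD3_c50) Lrfl Lrfl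
theorem f326615 : Led Lsl_cf (LP (LK LD1_c19 LD2_c38 LD3_c26)) = (LP (LK LD1_c25 LD2_c9 LD3_c50)) :=
  Lgr Lrot97 (Lpr_bt (f326614 IH) (Lpr_ct (K21.f326613 IH) (Lpr_bt (K21.f326609 IH) (Lpr_ct (f269278 IH) (Lpr_bt (f269280 IH) (Lpn (LP (LK LD1_c25 LD2_c9 LD3_c50))))))))
theorem f366420 : Led Lsl_ft (LP (LK LD1_c25 LD2_c22 LD3_c56)) = (LP (LK LD1_c25 LD2_c9 LD3_c50)) :=
  Lgr Lrot4 (Lpe (f314299 IH) (Lpr_ff (f366418 IH) (Lpr_cf (f326615 IH) (Lpn (LP (LK LD1_c25 LD2_c9 LD3_c50))))))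
theorem f233803 : Led Lsl_bt (LP (LK LD1_c25 LD2_c22 LD3_c56)) = (LP (LK LD1_c15 LD2_c29 LD3_c47)) :=
  Lre_b IH (LK LD1_c25 LD2_c22 LD3_c56) (LK LD1_c15 LD2_c29 LD3_c47) Lrfl Lrfl
theorem f233804 : Led Lsl_bt (LP (LK LD1_c15 LD2_c53 LD3_c59)) = (LP (LK LD1_c25 LD2_c49 LD3_c51)) :=
  Lre_b IH (LK LD1_c15 LD2_c53 LD3_c59) (LK LD1_c25 LD2_c49 LD3_c51) Lrfl Lrfl
theorem f233805 : Led Lsl_df (LP (LK LD1_c25 LD2_c22 LD3_c56)) = (LP (LK LD1_c25 LD2_c49 LD3_c51)) :=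
  Lgr Lrot12 (Lpr_bt (f233803 IH) (Lpr_dt (K21.f233801 IH) (Lpr_bt (f233804 IH) (Lpn (LP (LK LD1_c25 LD2_c49 LD3_c51))))))
theorem f346321 : Led Lsl_dt (LP (LK LD1_c15 LD2_c20 LD3_c39)) = (LP (LK LD1_c15 LD2_c18 LD3_c55)) :=
  Lgr Lrot105 (Lpr_gf (K25.f339723 IH) (Lpe (K22.f314137 IH) (Lpe (K23.f345936 IH) (Lpe (K23.f246108 IH) (Lpr_gt (K24.f346202 IH) (Lpr_dt (K19.f269276 IH) (Lpr_gt (K18.f269273 IH) (Lpr_dt (K23.f247907 IH) (Lpe (K23.f269277 IH) (Lpn (LP (LK LD1_c15 LD2_c18 LD3_c55))))))))))))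
theorem f339725 : Led Lsl_bt (LP (LK LD1_c25 LD2_c11 LD3_c55)) = (LP (LK LD1_c15 LD2_c20 LD3_c39)) :=
  Lre_b IH (LK LD1_c25 LD2_c11 LD3_c55) (LK LD1_c15 LD2_c20 LD3_c39) Lrfl Lrfl
theorem f346334 : Led Lsl_df (LP (LK LD1_c25 LD2_c11 LD3_c55)) = (LP (LK LD1_c25 LD2_c9 LD3_c50)) :=
  Lgr Lrot12 (Lpr_bt (f339725 IH) (Lpr_dt (f346321 IH) (Lpr_bt (f269280 IH) (Lpn (LP (LK LD1_c25 LD2_c9 LD3_c50))))))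
theorem f366422 : Led Lsl_ff (LP (LK LD1_c25 LD2_c49 LD3_c51)) = (LP (LK LD1_c25 LD2_c11 LD3_c55)) :=
  Lgr Lrot19 (Lpe (f233805 IH) (Lpr_ft (f366420 IH) (Lpe (f346334 IH) (Lpn (LP (LK LD1_c25 LD2_c11 LD3_c55))))))
theorem f233830 : Led Lsl_bt (LP (LK LD1_c25 LD2_c49 LD3_c51)) = (LP (LK LD1_c15 LD2_c53 LD3_c59)) :=
  Lre_b IH (LK LD1_c25 LD2_c49 LD3_c51) (LK LD1_c15 LD2_c53 LD3_c59) Lrfl Lrfl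
theorem f346339 : Led Lsl_bt (LP (LK LD1_c15 LD2_c20 LD3_c39)) = (LP (LK LD1_c25 LD2_c11 LD3_c55)) :=
  Lre_b IH (LK LD1_c15 LD2_c20 LD3_c39) (LK LD1_c25 LD2_c11 LD3_c55) Lrfl Lrfl
theorem f366426 : Led Lsl_ft (LP (LK LD1_c15 LD2_c53 LD3_c59)) = (LP (LK LD1_c15 LD2_c20 LD3_c39)) :=
  Lgr Lrot75 (Lpe (f233830 IH) (Lpr_ff (f366422 IH) (Lpe (f346339 IH) (Lpn (LP (LK LD1_c15 LD2_c20 LD3_c39))))))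
theorem f233812 : Led Lsl_ct (LP (LK LD1_c25 LD2_c49 LD3_c52)) = (LP (LK LD1_c15 LD2_c53 LD3_c59)) :=
  Lre_c IH (LK LD1_c25 LD2_c49 LD3_c52) (LK LD1_c15 LD2_c53 LD3_c59) Lrfl Lrfl
theorem f227079 : Led Lsl_ct (LP (LK LD1_c15 LD2_c19 LD3_c37)) = (LP (LK LD1_c8 LD2_c8 LD3_c22)) :=
  Lre_c IH (LK LD1_c15 LD2_c19 LD3_c37) (LK LD1_c8 LD2_c8 LD3_c22) Lrfl Lrfl
theorem f227096 : Led Lsl_gt (LP (LK LD1_c25 LD2_c10 LD3_c44)) = (LP (LK LD1_c15 LD2_c19 LD3_c37)) :=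
  Lre_g IH (LK LD1_c25 LD2_c10 LD3_c44) (LK LD1_c15 LD2_c19 LD3_c37) Lrfl Lrfl
theorem f342156 : Led Lsl_ct (LP (LK LD1_c15 LD2_c20 LD3_c39)) = (LP (LK LD1_c25 LD2_c10 LD3_c44)) :=
  Lgr Lrot152 (Lpr_gf (K25.f339723 IH) (Lpe (K22.f314137 IH) (Lpr_gt (K23.f342147 IH) (Lpr_ct (K25.f246105 IH) (Lpr_gt (K18.f211403 IH) (Lpr_ct (f253146 IH) (Lpe (f227019 IH) (Lpe (f227079 IH) (Lpe (f227096 IH) (Lpn (LP (LK LD1_c25 LD2_c10 LD3_c44))))))))))))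
theorem f366434 : Led Lsl_ff (LP (LK LD1_c25 LD2_c49 LD3_c52)) = (LP (LK LD1_c25 LD2_c10 LD3_c44)) :=
  Lgr Lrot23 (Lpr_ct (f233812 IH) (Lpr_ft (f366426 IH) (Lpr_ct (f342156 IH) (Lpn (LP (LK LD1_c25 LD2_c10 LD3_c44))))))
theorem f366479 : Led Lsl_at (LP (LK LD1_c25 LD2_c49 LD3_c52)) = (LP (LK LD1_c25 LD2_c10 LD3_c43)) :=
  Lgr Lrot26 (Lpr_ff (f366434 IH) (Lpr_gt (f227096 IH) (Lpr_gt (f227095 IH) (Lpn (LP (LK LD1_c25 LD2_c10 LD3_c43))))))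
theorem f366481 : Led Lsl_af (LP (LK LD1_c25 LD2_c49 LD3_c52)) = (LP (LK LD1_c25 LD2_c10 LD3_c43)) :=
  Lgr Lrot0 (Lpr_at (f366479 IH) (Lpn (LP (LK LD1_c25 LD2_c10 LD3_c43))))
theorem f223612 : Led Lsl_ct (LP (LK LD1_c15 LD2_c9 LD3_c14)) = (LP (LK LD1_c24 LD2_c58 LD3_c15)) :=
  Lre_c IH (LK LD1_c15 LD2_c9 LD3_c14) (LK LD1_c24 LD2_c58 LD3_c15) Lrfl Lrfl
theorem f346403 : Led Lsl_gf (LP (LK LD1_c25 LD2_c49 LD3_c52)) = (LP (LK LD1_c24 LD2_c58 LD3_c15)) :=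
  Lgr Lrot172 (Lpr_ct (f233812 IH) (Lpe (K21.f233808 IH) (Lpe (K26.f314295 IH) (Lpe (K23.f341907 IH) (Lpr_cf (K23.f341911 IH) (Lpe (K24.f341921 IH) (Lpr_dt (K26.f346394 IH) (Lpr_gt (K26.f216345 IH) (Lpr_ct (f223612 IH) (Lpn (LP (LK LD1_c24 LD2_c58 LD3_c15))))))))))))
theorem f3761 : Led Lsl_dt (LP (LK LD1_c9 LD2_c53 LD3_c2)) = (LP (LK LD1_c18 LD2_c5 LD3_c20)) :=
  Lre_d IH (LK LD1_c9 LD2_c53 LD3_c2) (LK LD1_c18 LD2_c5 LD3_c20) Lrfl Lrfl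
theorem f252725 : Led Lsl_ct (LP (LK LD1_c18 LD2_c5 LD3_c20)) = (LP (LK LD1_c27 LD2_c46 LD3_c36)) :=
  Lre_c IH (LK LD1_c18 LD2_c5 LD3_c20) (LK LD1_c27 LD2_c46 LD3_c36) Lrfl Lrfl
theorem f364680 : Led Lsl_ff (LP (LK LD1_c5 LD2_c1 LD3_c23)) = (LP (LK LD1_c4 LD2_c2 LD3_c58)) :=
  Lgr Lrot23 (Lpe (K14.f252989 IH) (Lpr_ft (K26.f364676 IH) (Lpr_ct (K16.f274568 IH) (Lpn (LP (LK LD1_c4 LD2_c2 LD3_c58))))))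
theorem f364857 : Led Lsl_ft (LP (LK LD1_c9 LD2_c53 LD3_c3)) = (LP (LK LD1_c8 LD2_c8 LD3_c2)) :=
  Lgr Lrot86 (Lpe (K15.f252684 IH) (Lpr_ff (f364680 IH) (Lpe (K15.f238562 IH) (Lpr_ff (K26.f364851 IH) (Lpe (K19.f269282 IH) (Lpn (LP (LK LD1_c8 LD2_c8 LD3_c2))))))))
theorem f364849 : Led Lsl_af (LP (LK LD1_c8 LD2_c36 LD3_c55)) = (LP (LK LD1_c8 LD2_c8 LD3_c2)) :=
  Lgr Lrot50 (Lpr_et (K23.f216334 IH) (Lpr_at (K26.f364845 IH) (Lpr_et (K19.f296435 IH) (Lpn (LP (LK LD1_c8 LD2_c8 LD3_c2))))))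
theorem f216396 : Led Lsl_gt (LP (LK LD1_c15 LD2_c53 LD3_c60)) = (LP (LK LD1_c8 LD2_c28 LD3_c1)) :=
  Lre_g IH (LK LD1_c15 LD2_c53 LD3_c60) (LK LD1_c8 LD2_c28 LD3_c1) Lrfl Lrfl
theorem f228275 : Led Lsl_dt (LP (LK LD1_c11 LD2_c9 LD3_c19)) = (LP (LK LD1_c15 LD2_c53 LD3_c60)) :=
  Lgr Lrot136 (Lpr_et (K26.f228274 IH) (Lpe (K24.f216452 IH) (Lpe (K24.f228269 IH) (Lpr_dt (K12.f228154 IH) (Lpr_gf (K17.f211443 IH) (Lpr_df (K12.f52243 IH) (Lpe (K12.f216384 IH) (Lpe (K19.f216394 IH) (Lpr_dt (K21.f216395 IH) (Lpe (f216396 IH) (Lpn (LP (LK LD1_c15 LD2_c53 LD3_c60)))))))))))))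
theorem f228336 : Led Lsl_df (LP (LK LD1_c11 LD2_c9 LD3_c19)) = (LP (LK LD1_c15 LD2_c53 LD3_c60)) :=
  Lgr Lrot38 (Lpr_dt (f228275 IH) (Lpn (LP (LK LD1_c15 LD2_c53 LD3_c60))))
theorem f228348 : Led Lsl_ct (LP (LK LD1_c25 LD2_c49 LD3_c55)) = (LP (LK LD1_c15 LD2_c53 LD3_c60)) :=
  Lre_c IH (LK LD1_c25 LD2_c49 LD3_c55) (LK LD1_c15 LD2_c53 LD3_c60) Lrfl Lrfl
theorem f364859 : Led Lsl_dt (LP (LK LD1_c27 LD2_c46 LD3_c36)) = (LP (LK LD1_c25 LD2_c49 LD3_c55)) :=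
  Lgr Lrot140 (Lpe (f252725 IH) (Lpe (f3761 IH) (Lpe (K19.f252695 IH) (Lpe (K21.f252727 IH) (Lpr_ft (f364857 IH) (Lpe (f364849 IH) (Lpr_cf (K26.f364814 IH) (Lpr_df (f228336 IH) (Lpe (f228348 IH) (Lpn (LP (LK LD1_c25 LD2_c49 LD3_c55))))))))))))
theorem f366436 : Led Lsl_af (LP (LK LD1_c15 LD2_c53 LD3_c60)) = (LP (LK LD1_c15 LD2_c20 LD3_c39)) :=
  Lgr Lrot109 (Lpe (f228348 IH) (Lpe (f364859 IH) (Lpe (f252725 IH) (Lpe (f3761 IH) (Lpe (K19.f252695 IH) (Lpe (K21.f252727 IH) (Lpe (K21.f252998 IH) (Lpr_df (K21.f233808 IH) (Lpr_ft (f366426 IH) (Lpn (LP (LK LD1_c15 LD2_c20 LD3_c39))))))))))))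
theorem f366438 : Led Lsl_gf (LP (LK LD1_c15 LD2_c53 LD3_c60)) = (LP (LK LD1_c15 LD2_c20 LD3_c41)) :=
  Lgr Lrot76 (Lpr_af (f366436 IH) (Lpe (f366426 IH) (Lpr_gt (K21.f328162 IH) (Lpn (LP (LK LD1_c15 LD2_c20 LD3_c41))))))
theorem f228335 : Led Lsl_ct (LP (LK LD1_c15 LD2_c53 LD3_c60)) = (LP (LK LD1_c25 LD2_c49 LD3_c55)) :=
  Lre_c IH (LK LD1_c15 LD2_c53 LD3_c60) (LK LD1_c25 LD2_c49 LD3_c55) Lrfl Lrfl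
theorem f223625 : Led Lsl_ct (LP (LK LD1_c24 LD2_c58 LD3_c15)) = (LP (LK LD1_c15 LD2_c9 LD3_c14)) :=
  Lre_c IH (LK LD1_c24 LD2_c58 LD3_c15) (LK LD1_c15 LD2_c9 LD3_c14) Lrfl Lrfl
theorem f366444 : Led Lsl_gt (LP (LK LD1_c25 LD2_c49 LD3_c55)) = (LP (LK LD1_c24 LD2_c58 LD3_c15)) :=
  Lgr Lrot150 (Lpe (f228335 IH) (Lpr_gf (f366438 IH) (Lpe (K21.f319706 IH) (Lpr_gt (K22.f339731 IH) (Lpe (K22.f314286 IH) (Lpr_gt (K21.f218999 IH) (Lpr_ct (K25.f216346 IH) (Lpe (K16.f216344 IH) (Lpe (f223625 IH) (Lpn (LP (LK LD1_c24 LD2_c58 LD3_c15))))))))))))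
theorem f366483 : Led Lsl_ft (LP (LK LD1_c25 LD2_c49 LD3_c55)) = (LP (LK LD1_c25 LD2_c10 LD3_c43)) :=
  Lgr Lrot2 (Lpr_gt (f366444 IH) (Lpe (f346403 IH) (Lpr_af (f366481 IH) (Lpn (LP (LK LD1_c25 LD2_c10 LD3_c43))))))
theorem f366827 : Led Lsl_ff (LP (LK LD1_c15 LD2_c53 LD3_c60)) = (LP (LK LD1_c15 LD2_c20 LD3_c38)) :=
  Lgr Lrot23 (Lpr_ct (f228335 IH) (Lpr_ft (f366483 IH) (Lpr_ct (f366821 IH) (Lpn (LP (LK LD1_c15 LD2_c20 LD3_c38))))))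
theorem f366835 : Led Lsl_ft (LP (LK LD1_c15 LD2_c53 LD3_c60)) = (LP (LK LD1_c15 LD2_c20 LD3_c38)) :=
  Lgr Lrot48 (Lpr_ff (f366827 IH) (Lpn (LP (LK LD1_c15 LD2_c20 LD3_c38))))
theorem f366839 : Led Lsl_ff (LP (LK LD1_c11 LD2_c9 LD3_c19)) = (LP (LK LD1_c11 LD2_c56 LD3_c49)) :=
  Lgr Lrot19 (Lpr_dt (f228275 IH) (Lpr_ft (f366835 IH) (Lpr_dt (K25.f291241 IH) (Lpn (LP (LK LD1_c11 LD2_c56 LD3_c49))))))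
theorem f366847 : Led Lsl_ft (LP (LK LD1_c8 LD2_c14 LD3_c11)) = (LP (LK LD1_c6 LD2_c6 LD3_c57)) :=
  Lgr Lrot86 (Lpe (K20.f265721 IH) (Lpr_ff (K26.f364761 IH) (Lpe (K26.f228274 IH) (Lpr_ff (f366839 IH) (Lpe (K25.f290875 IH) (Lpn (LP (LK LD1_c6 LD2_c6 LD3_c57))))))))
theorem f366855 : Led Lsl_ff (LP (LK LD1_c8 LD2_c14 LD3_c11)) = (LP (LK LD1_c6 LD2_c6 LD3_c57)) :=
  Lgr Lrot3 (Lpr_ft (f366847 IH) (Lpn (LP (LK LD1_c6 LD2_c6 LD3_c57))))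
theorem f366861 : Led Lsl_ft (LP (LK LD1_c15 LD2_c16 LD3_c60)) = (LP (LK LD1_c11 LD2_c4 LD3_c37)) :=
  Lgr Lrot54 (Lpr_df (K25.f291118 IH) (Lpr_ff (f366855 IH) (Lpe (K19.f290880 IH) (Lpn (LP (LK LD1_c11 LD2_c4 LD3_c37))))))
theorem f274642 : Led Lsl_cf (LP (LK LD1_c9 LD2_c53 LD3_c17)) = (LP (LK LD1_c15 LD2_c16 LD3_c60)) :=
  Lgr Lrot169 (Lpr_gt (K16.f274639 IH) (Lpe (K16.f274596 IH) (Lpe (K15.f195957 IH) (Lpe (K10.f30985 IH) (Lpe (K10.f28072 IH) (Lpe (K10.f30957 IH) (Lpe (K15.f30977 IH) (Lpe (K19.f51253 IH) (Lpr_gt (K25.f53077 IH) (Lpn (LP (LK LD1_c15 LD2_c16 LD3_c60))))))))))))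
theorem f291123 : Led Lsl_gt (LP (LK LD1_c15 LD2_c16 LD3_c60)) = (LP (LK LD1_c8 LD2_c7 LD3_c2)) :=
  Lgr Lrot146 (Lpr_dt (K25.f290978 IH) (Lpe (K23.f265723 IH) (Lpr_ct (K15.f189146 IH) (Lpr_gt (K14.f253031 IH) (Lpr_ct (K14.f192504 IH) (Lpr_dt (K16.f253035 IH) (Lpr_cf (f274642 IH) (Lpe (K25.f53077 IH) (Lpr_cf (K19.f290974 IH) (Lpn (LP (LK LD1_c8 LD2_c7 LD3_c2))))))))))))
theorem f366869 : Led Lsl_af (LP (LK LD1_c15 LD2_c16 LD3_c61)) = (LP (LK LD1_c11 LD2_c4 LD3_c37)) :=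
  Lgr Lrot31 (Lpe (K19.f290905 IH) (Lpe (f291123 IH) (Lpr_ft (f366861 IH) (Lpn (LP (LK LD1_c11 LD2_c4 LD3_c37))))))
theorem f290889 : Led Lsl_et (LP (LK LD1_c19 LD2_c57 LD3_c21)) = (LP (LK LD1_c11 LD2_c4 LD3_c37)) :=
  Lre_e IH (LK LD1_c19 LD2_c57 LD3_c21) (LK LD1_c11 LD2_c4 LD3_c37) Lrfl Lrfl
theorem f366875 : Led Lsl_at (LP (LK LD1_c25 LD2_c7 LD3_c0)) = (LP (LK LD1_c19 LD2_c57 LD3_c21)) :=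
  Lgr Lrot80 (Lpe (K24.f290926 IH) (Lpr_af (f366869 IH) (Lpe (f290889 IH) (Lpn (LP (LK LD1_c19 LD2_c57 LD3_c21))))))
theorem f290958 : Led Lsl_ft (LP (LK LD1_c31 LD2_c46 LD3_c29)) = (LP (LK LD1_c25 LD2_c7 LD3_c0)) :=
  Lre_f IH (LK LD1_c31 LD2_c46 LD3_c29) (LK LD1_c25 LD2_c7 LD3_c0) Lrfl Lrfl
theorem f290898 : Led Lsl_ft (LP (LK LD1_c19 LD2_c57 LD3_c21)) = (LP (LK LD1_c29 LD2_c12 LD3_c49)) :=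
  Lre_f IH (LK LD1_c19 LD2_c57 LD3_c21) (LK LD1_c29 LD2_c12 LD3_c49) Lrfl Lrfl
theorem f366883 : Led Lsl_af (LP (LK LD1_c31 LD2_c46 LD3_c29)) = (LP (LK LD1_c29 LD2_c12 LD3_c49)) :=
  Lgr Lrot45 (Lpr_ft (f290958 IH) (Lpr_at (f366875 IH) (Lpr_ft (f290898 IH) (Lpn (LP (LK LD1_c29 LD2_c12 LD3_c49))))))
theorem f274605 : Led Lsl_et (LP (LK LD1_c25 LD2_c6 LD3_c3)) = (LP (LK LD1_c15 LD2_c16 LD3_c9)) :=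
  Lre_e IH (LK LD1_c25 LD2_c6 LD3_c3) (LK LD1_c15 LD2_c16 LD3_c9) Lrfl Lrfl
theorem f290968 : Led Lsl_ct (LP (LK LD1_c25 LD2_c7 LD3_c0)) = (LP (LK LD1_c25 LD2_c6 LD3_c3)) :=
  Lgr Lrot15 (Lpe (K24.f290926 IH) (Lpr_cf (K19.f290903 IH) (Lpe (f274605 IH) (Lpn (LP (LK LD1_c25 LD2_c6 LD3_c3))))))
theorem f274620 : Led Lsl_ft (LP (LK LD1_c25 LD2_c6 LD3_c3)) = (LP (LK LD1_c31 LD2_c45 LD3_c59)) :=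
  Lre_f IH (LK LD1_c25 LD2_c6 LD3_c3) (LK LD1_c31 LD2_c45 LD3_c59) Lrfl Lrfl
theorem f291209 : Led Lsl_cf (LP (LK LD1_c31 LD2_c46 LD3_c29)) = (LP (LK LD1_c31 LD2_c45 LD3_c59)) :=
  Lgr Lrot108 (Lpr_ft (f290958 IH) (Lpr_ct (f290968 IH) (Lpr_ft (f274620 IH) (Lpn (LP (LK LD1_c31 LD2_c45 LD3_c59))))))
theorem f291211 : Led Lsl_ct (LP (LK LD1_c31 LD2_c46 LD3_c29)) = (LP (LK LD1_c31 LD2_c45 LD3_c59)) :=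
  Lgr Lrot59 (Lpr_cf (f291209 IH) (Lpn (LP (LK LD1_c31 LD2_c45 LD3_c59))))
theorem f290933 : Led Lsl_cf (LP (LK LD1_c11 LD2_c4 LD3_c36)) = (LP (LK LD1_c11 LD2_c4 LD3_c37)) :=
  Lgr Lrot166 (Lpr_gt (K22.f290924 IH) (Lpr_dt (K20.f194696 IH) (Lpr_gt (K10.f192199 IH) (Lpr_dt (K10.f27600 IH) (Lpe (K10.f50974 IH) (Lpe (K10.f50912 IH) (Lpe (K10.f189976 IH) (Lpe (K15.f189981 IH) (Lpe (K22.f290931 IH) (Lpn (LP (LK LD1_c11 LD2_c4 LD3_c37))))))))))))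
theorem f216534 : Led Lsl_et (LP (LK LD1_c11 LD2_c4 LD3_c36)) = (LP (LK LD1_c19 LD2_c57 LD3_c19)) :=
  Lre_e IH (LK LD1_c11 LD2_c4 LD3_c36) (LK LD1_c19 LD2_c57 LD3_c19) Lrfl Lrfl
theorem f290937 : Led Lsl_ct (LP (LK LD1_c19 LD2_c57 LD3_c19)) = (LP (LK LD1_c19 LD2_c57 LD3_c21)) :=
  Lgr Lrot15 (Lpe (f216534 IH) (Lpr_cf (f290933 IH) (Lpe (f290889 IH) (Lpn (LP (LK LD1_c19 LD2_c57 LD3_c21))))))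
theorem f216542 : Led Lsl_ft (LP (LK LD1_c29 LD2_c12 LD3_c46)) = (LP (LK LD1_c19 LD2_c57 LD3_c19)) :=
  Lre_f IH (LK LD1_c29 LD2_c12 LD3_c46) (LK LD1_c19 LD2_c57 LD3_c19) Lrfl Lrfl
theorem f290942 : Led Lsl_cf (LP (LK LD1_c29 LD2_c12 LD3_c46)) = (LP (LK LD1_c29 LD2_c12 LD3_c49)) :=
  Lgr Lrot108 (Lpr_ft (f216542 IH) (Lpr_ct (f290937 IH) (Lpr_ft (f290898 IH) (Lpn (LP (LK LD1_c29 LD2_c12 LD3_c49))))))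
theorem f290944 : Led Lsl_ct (LP (LK LD1_c29 LD2_c12 LD3_c46)) = (LP (LK LD1_c29 LD2_c12 LD3_c49)) :=
  Lgr Lrot59 (Lpr_cf (f290942 IH) (Lpn (LP (LK LD1_c29 LD2_c12 LD3_c49))))
theorem f366889 : Led Lsl_at (LP (LK LD1_c31 LD2_c45 LD3_c59)) = (LP (LK LD1_c29 LD2_c12 LD3_c46)) :=
  Lgr Lrot107 (Lpe (f291211 IH) (Lpr_af (f366883 IH) (Lpe (f290944 IH) (Lpn (LP (LK LD1_c29 LD2_c12 LD3_c46))))))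
theorem f366893 : Led Lsl_af (LP (LK LD1_c31 LD2_c45 LD3_c59)) = (LP (LK LD1_c29 LD2_c12 LD3_c46)) :=
  Lgr Lrot0 (Lpr_at (f366889 IH) (Lpn (LP (LK LD1_c29 LD2_c12 LD3_c46))))
theorem f274619 : Led Lsl_ft (LP (LK LD1_c31 LD2_c45 LD3_c59)) = (LP (LK LD1_c25 LD2_c6 LD3_c3)) :=
  Lre_f IH (LK LD1_c31 LD2_c45 LD3_c59) (LK LD1_c25 LD2_c6 LD3_c3) Lrfl Lrfl
theorem f216545 : Led Lsl_ft (LP (LK LD1_c19 LD2_c57 LD3_c19)) = (LP (LK LD1_c29 LD2_c12 LD3_c46)) :=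
  Lre_f IH (LK LD1_c19 LD2_c57 LD3_c19) (LK LD1_c29 LD2_c12 LD3_c46) Lrfl Lrfl
theorem f366895 : Led Lsl_at (LP (LK LD1_c25 LD2_c6 LD3_c3)) = (LP (LK LD1_c19 LD2_c57 LD3_c19)) :=
  Lgr Lrot66 (Lpe (f274619 IH) (Lpr_af (f366893 IH) (Lpe (f216545 IH) (Lpn (LP (LK LD1_c19 LD2_c57 LD3_c19))))))
theorem f274615 : Led Lsl_et (LP (LK LD1_c15 LD2_c16 LD3_c9)) = (LP (LK LD1_c25 LD2_c6 LD3_c3)) :=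
  Lre_e IH (LK LD1_c15 LD2_c16 LD3_c9) (LK LD1_c25 LD2_c6 LD3_c3) Lrfl Lrfl
theorem f216484 : Led Lsl_et (LP (LK LD1_c19 LD2_c57 LD3_c19)) = (LP (LK LD1_c11 LD2_c4 LD3_c36)) :=
  Lre_e IH (LK LD1_c19 LD2_c57 LD3_c19) (LK LD1_c11 LD2_c4 LD3_c36) Lrfl Lrfl
theorem f366899 : Led Lsl_af (LP (LK LD1_c15 LD2_c16 LD3_c9)) = (LP (LK LD1_c11 LD2_c4 LD3_c36)) :=
  Lgr Lrot50 (Lpr_et (f274615 IH) (Lpr_at (f366895 IH) (Lpr_et (f216484 IH) (Lpn (LP (LK LD1_c11 LD2_c4 LD3_c36))))))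
theorem f366903 : Led Lsl_ft (LP (LK LD1_c9 LD2_c53 LD3_c17)) = (LP (LK LD1_c11 LD2_c4 LD3_c36)) :=
  Lgr Lrot2 (Lpr_gt (K16.f274639 IH) (Lpe (K19.f274598 IH) (Lpr_af (f366899 IH) (Lpn (LP (LK LD1_c11 LD2_c4 LD3_c36))))))
theorem f274641 : Led Lsl_bt (LP (LK LD1_c18 LD2_c5 LD3_c45)) = (LP (LK LD1_c9 LD2_c53 LD3_c17)) :=
  Lre_b IH (LK LD1_c18 LD2_c5 LD3_c45) (LK LD1_c9 LD2_c53 LD3_c17) Lrfl Lrfl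
theorem f290936 : Led Lsl_bt (LP (LK LD1_c11 LD2_c4 LD3_c36)) = (LP (LK LD1_c19 LD2_c57 LD3_c18)) :=
  Lre_b IH (LK LD1_c11 LD2_c4 LD3_c36) (LK LD1_c19 LD2_c57 LD3_c18) Lrfl Lrfl
theorem f366905 : Led Lsl_ff (LP (LK LD1_c18 LD2_c5 LD3_c45)) = (LP (LK LD1_c19 LD2_c57 LD3_c18)) :=
  Lgr Lrot25 (Lpr_bt (f274641 IH) (Lpr_ft (f366903 IH) (Lpr_bt (f290936 IH) (Lpn (LP (LK LD1_c19 LD2_c57 LD3_c18))))))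
theorem f366916 : Led Lsl_ft (LP (LK LD1_c18 LD2_c5 LD3_c45)) = (LP (LK LD1_c19 LD2_c57 LD3_c18)) :=
  Lgr Lrot48 (Lpr_ff (f366905 IH) (Lpn (LP (LK LD1_c19 LD2_c57 LD3_c18))))
theorem f253112 : Led Lsl_dt (LP (LK LD1_c9 LD2_c53 LD3_c16)) = (LP (LK LD1_c18 LD2_c5 LD3_c45)) :=
  Lre_d IH (LK LD1_c9 LD2_c53 LD3_c16) (LK LD1_c18 LD2_c5 LD3_c45) Lrfl Lrfl
theorem f216560 : Led Lsl_dt (LP (LK LD1_c19 LD2_c57 LD3_c18)) = (LP (LK LD1_c11 LD2_c4 LD3_c35)) :=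
  Lre_d IH (LK LD1_c19 LD2_c57 LD3_c18) (LK LD1_c11 LD2_c4 LD3_c35) Lrfl Lrfl
theorem f366919 : Led Lsl_ff (LP (LK LD1_c9 LD2_c53 LD3_c16)) = (LP (LK LD1_c11 LD2_c4 LD3_c35)) :=
  Lgr Lrot19 (Lpr_dt (f253112 IH) (Lpr_ft (f366916 IH) (Lpr_dt (f216560 IH) (Lpn (LP (LK LD1_c11 LD2_c4 LD3_c35))))))
theorem f253044 : Led Lsl_bt (LP (LK LD1_c9 LD2_c53 LD3_c16)) = (LP (LK LD1_c5 LD2_c1 LD3_c30)) :=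
  Lre_b IH (LK LD1_c9 LD2_c53 LD3_c16) (LK LD1_c5 LD2_c1 LD3_c30) Lrfl Lrfl
theorem f216530 : Led Lsl_bt (LP (LK LD1_c5 LD2_c36 LD3_c10)) = (LP (LK LD1_c11 LD2_c4 LD3_c35)) :=
  Lre_b IH (LK LD1_c5 LD2_c36 LD3_c10) (LK LD1_c11 LD2_c4 LD3_c35) Lrfl Lrfl
theorem f366924 : Led Lsl_ft (LP (LK LD1_c5 LD2_c1 LD3_c30)) = (LP (LK LD1_c5 LD2_c36 LD3_c10)) :=
  Lgr Lrot75 (Lpe (f253044 IH) (Lpr_ff (f366919 IH) (Lpe (f216530 IH) (Lpn (LP (LK LD1_c5 LD2_c36 LD3_c10))))))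
theorem f365981 : Led Lsl_ff (LP (LK LD1_c8 LD2_c10 LD3_c12)) = (LP (LK LD1_c5 LD2_c39 LD3_c16)) :=
  Lgr Lrot19 (Lpr_dt (K24.f291152 IH) (Lpr_ft (f365973 IH) (Lpr_dt (f216446 IH) (Lpn (LP (LK LD1_c5 LD2_c39 LD3_c16))))))
theorem f366928 : Led Lsl_ff (LP (LK LD1_c9 LD2_c53 LD3_c15)) = (LP (LK LD1_c15 LD2_c23 LD3_c14)) :=
  Lgr Lrot72 (Lpr_et (K25.f253047 IH) (Lpr_ft (f366924 IH) (Lpe (K18.f216459 IH) (Lpe (f365981 IH) (Lpr_et (K24.f332905 IH) (Lpn (LP (LK LD1_c15 LD2_c23 LD3_c14))))))))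
theorem f366946 : Led Lsl_at (LP (LK LD1_c9 LD2_c53 LD3_c15)) = (LP (LK LD1_c11 LD2_c4 LD3_c33)) :=
  Lgr Lrot26 (Lpr_ff (f366928 IH) (Lpr_gt (K24.f341921 IH) (Lpr_gt (K23.f216507 IH) (Lpn (LP (LK LD1_c11 LD2_c4 LD3_c33))))))
theorem f366953 : Led Lsl_af (LP (LK LD1_c5 LD2_c1 LD3_c30)) = (LP (LK LD1_c5 LD2_c36 LD3_c6)) :=
  Lgr Lrot50 (Lpr_et (K25.f253061 IH) (Lpr_at (f366946 IH) (Lpr_et (K16.f259096 IH) (Lpn (LP (LK LD1_c5 LD2_c36 LD3_c6))))))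
theorem f265712 : Led Lsl_cf (LP (LK LD1_c2 LD2_c58 LD3_c42)) = (LP (LK LD1_c4 LD2_c50 LD3_c42)) :=
  Lgr Lrot166 (Lpe (K15.f194757 IH) (Lpr_dt (K10.f30998 IH) (Lpr_gt (K10.f28174 IH) (Lpr_dt (K14.f28176 IH) (Lpr_ct (K15.f31025 IH) (Lpr_df (K15.f265707 IH) (Lpe (K14.f27682 IH) (Lpe (K10.f27663 IH) (Lpe (K10.f27671 IH) (Lpn (LP (LK LD1_c4 LD2_c50 LD3_c42))))))))))))
theorem f30993 : Led Lsl_ct (LP (LK LD1_c1 LD2_c58 LD3_c32)) = (LP (LK LD1_c4 LD2_c3 LD3_c3)) :=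
  Lre_c IH (LK LD1_c1 LD2_c58 LD3_c32) (LK LD1_c4 LD2_c3 LD3_c3) Lrfl Lrfl
theorem f290901 : Led Lsl_gt (LP (LK LD1_c4 LD2_c3 LD3_c3)) = (LP (LK LD1_c8 LD2_c6 LD3_c33)) :=
  Lgr Lrot94 (Lpe (f30993 IH) (Lpe (K16.f265631 IH) (Lpe (K16.f238565 IH) (Lpe (K13.f233739 IH) (Lpr_dt (K15.f42454 IH) (Lpr_cf (f265712 IH) (Lpe (K19.f51266 IH) (Lpr_gf (K19.f290890 IH) (Lpe (K19.f274602 IH) (Lpn (LP (LK LD1_c8 LD2_c6 LD3_c33))))))))))))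
theorem f366930 : Led Lsl_af (LP (LK LD1_c8 LD2_c6 LD3_c33)) = (LP (LK LD1_c5 LD2_c36 LD3_c10)) :=
  Lgr Lrot31 (Lpe (f290901 IH) (Lpr_gf (K14.f253033 IH) (Lpr_ft (f366924 IH) (Lpn (LP (LK LD1_c5 LD2_c36 LD3_c10))))))
theorem f366960 : Led Lsl_ft (LP (LK LD1_c8 LD2_c6 LD3_c33)) = (LP (LK LD1_c5 LD2_c36 LD3_c6)) :=
  Lgr Lrot101 (Lpr_af (f366930 IH) (Lpe (f366924 IH) (Lpr_af (f366953 IH) (Lpn (LP (LK LD1_c5 LD2_c36 LD3_c6))))))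
theorem f366968 : Led Lsl_ff (LP (LK LD1_c8 LD2_c6 LD3_c33)) = (LP (LK LD1_c5 LD2_c36 LD3_c6)) :=
  Lgr Lrot3 (Lpr_ft (f366960 IH) (Lpn (LP (LK LD1_c5 LD2_c36 LD3_c6))))
theorem f274612 : Led Lsl_bt (LP (LK LD1_c8 LD2_c6 LD3_c33)) = (LP (LK LD1_c15 LD2_c16 LD3_c8)) :=
  Lre_b IH (LK LD1_c8 LD2_c6 LD3_c33) (LK LD1_c15 LD2_c16 LD3_c8) Lrfl Lrfl
theorem f259094 : Led Lsl_bt (LP (LK LD1_c11 LD2_c4 LD3_c31)) = (LP (LK LD1_c5 LD2_c36 LD3_c6)) :=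
  Lre_b IH (LK LD1_c11 LD2_c4 LD3_c31) (LK LD1_c5 LD2_c36 LD3_c6) Lrfl Lrfl
theorem f366970 : Led Lsl_ft (LP (LK LD1_c15 LD2_c16 LD3_c8)) = (LP (LK LD1_c11 LD2_c4 LD3_c31)) :=
  Lgr Lrot75 (Lpe (f274612 IH) (Lpr_ff (f366968 IH) (Lpe (f259094 IH) (Lpn (LP (LK LD1_c11 LD2_c4 LD3_c31))))))
theorem f194548 : Led Lsl_bt (LP (LK LD1_c15 LD2_c16 LD3_c8)) = (LP (LK LD1_c8 LD2_c6 LD3_c33)) :=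
  Lre_b IH (LK LD1_c15 LD2_c16 LD3_c8) (LK LD1_c8 LD2_c6 LD3_c33) Lrfl Lrfl
theorem f224907 : Led Lsl_bt (LP (LK LD1_c8 LD2_c10 LD3_c16)) = (LP (LK LD1_c15 LD2_c23 LD3_c16)) :=
  Lre_b IH (LK LD1_c8 LD2_c10 LD3_c16) (LK LD1_c15 LD2_c23 LD3_c16) Lrfl Lrfl
theorem f274606 : Led Lsl_ef (LP (LK LD1_c15 LD2_c16 LD3_c8)) = (LP (LK LD1_c15 LD2_c23 LD3_c16)) :=
  Lgr Lrot29 (Lpr_bt (f194548 IH) (Lpr_et (K19.f274603 IH) (Lpr_bt (f224907 IH) (Lpn (LP (LK LD1_c15 LD2_c23 LD3_c16))))))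
theorem f329636 : Led Lsl_et (LP (LK LD1_c20 LD2_c3 LD3_c48)) = (LP (LK LD1_c11 LD2_c9 LD3_c28)) :=
  Lre_e IH (LK LD1_c20 LD2_c3 LD3_c48) (LK LD1_c11 LD2_c9 LD3_c28) Lrfl Lrfl
theorem f367020 : Led Lsl_et (LP (LK LD1_c11 LD2_c4 LD3_c31)) = (LP (LK LD1_c19 LD2_c57 LD3_c9)) :=
  Lre_e IH (LK LD1_c11 LD2_c4 LD3_c31) (LK LD1_c19 LD2_c57 LD3_c9) Lrfl Lrfl
theorem f367021 : Led Lsl_ff (LP (LK LD1_c20 LD2_c3 LD3_c48)) = (LP (LK LD1_c19 LD2_c57 LD3_c9)) :=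
  Lgr Lrot72 (Lpr_et (f329636 IH) (Lpe (f366013 IH) (Lpe (f274606 IH) (Lpr_ft (f366970 IH) (Lpr_et (f367020 IH) (Lpn (LP (LK LD1_c19 LD2_c57 LD3_c9))))))))
theorem f367030 : Led Lsl_ft (LP (LK LD1_c20 LD2_c3 LD3_c48)) = (LP (LK LD1_c19 LD2_c57 LD3_c9)) :=
  Lgr Lrot48 (Lpr_ff (f367021 IH) (Lpn (LP (LK LD1_c19 LD2_c57 LD3_c9))))
theorem f329607 : Led Lsl_bt (LP (LK LD1_c20 LD2_c3 LD3_c48)) = (LP (LK LD1_c11 LD2_c9 LD3_c30)) :=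
  Lre_b IH (LK LD1_c20 LD2_c3 LD3_c48) (LK LD1_c11 LD2_c9 LD3_c30) Lrfl Lrfl
theorem f329608 : Led Lsl_bt (LP (LK LD1_c15 LD2_c19 LD3_c36)) = (LP (LK LD1_c25 LD2_c10 LD3_c41)) :=
  Lre_b IH (LK LD1_c15 LD2_c19 LD3_c36) (LK LD1_c25 LD2_c10 LD3_c41) Lrfl Lrfl
theorem f329609 : Led Lsl_df (LP (LK LD1_c20 LD2_c3 LD3_c48)) = (LP (LK LD1_c25 LD2_c10 LD3_c41)) :=
  Lgr Lrot12 (Lpr_bt (f329607 IH) (Lpr_dt (K25.f329605 IH) (Lpr_bt (f329608 IH) (Lpn (LP (LK LD1_c25 LD2_c10 LD3_c41))))))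
theorem f367032 : Led Lsl_dt (LP (LK LD1_c19 LD2_c57 LD3_c9)) = (LP (LK LD1_c29 LD2_c12 LD3_c40)) :=
  Lre_d IH (LK LD1_c19 LD2_c57 LD3_c9) (LK LD1_c29 LD2_c12 LD3_c40) Lrfl Lrfl
theorem f367033 : Led Lsl_ff (LP (LK LD1_c25 LD2_c10 LD3_c41)) = (LP (LK LD1_c29 LD2_c12 LD3_c40)) :=
  Lgr Lrot19 (Lpe (f329609 IH) (Lpr_ft (f367030 IH) (Lpr_dt (f367032 IH) (Lpn (LP (LK LD1_c29 LD2_c12 LD3_c40))))))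
theorem f329629 : Led Lsl_bt (LP (LK LD1_c25 LD2_c10 LD3_c41)) = (LP (LK LD1_c15 LD2_c19 LD3_c36)) :=
  Lre_b IH (LK LD1_c25 LD2_c10 LD3_c41) (LK LD1_c15 LD2_c19 LD3_c36) Lrfl Lrfl
theorem f367036 : Led Lsl_bt (LP (LK LD1_c19 LD2_c57 LD3_c13)) = (LP (LK LD1_c29 LD2_c12 LD3_c40)) :=
  Lre_b IH (LK LD1_c19 LD2_c57 LD3_c13) (LK LD1_c29 LD2_c12 LD3_c40) Lrfl Lrfl
theorem f367037 : Led Lsl_ft (LP (LK LD1_c15 LD2_c19 LD3_c36)) = (LP (LK LD1_c19 LD2_c57 LD3_c13)) :=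
  Lgr Lrot75 (Lpe (f329629 IH) (Lpr_ff (f367033 IH) (Lpe (f367036 IH) (Lpn (LP (LK LD1_c19 LD2_c57 LD3_c13))))))
theorem f367041 : Led Lsl_ff (LP (LK LD1_c15 LD2_c19 LD3_c36)) = (LP (LK LD1_c19 LD2_c57 LD3_c13)) :=
  Lgr Lrot3 (Lpr_ft (f367037 IH) (Lpn (LP (LK LD1_c19 LD2_c57 LD3_c13))))
theorem f367043 : Led Lsl_at (LP (LK LD1_c15 LD2_c19 LD3_c36)) = (LP (LK LD1_c24 LD2_c58 LD3_c14)) :=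
  Lgr Lrot26 (Lpr_ff (f367041 IH) (Lpr_gt (K23.f274749 IH) (Lpe (K26.f269336 IH) (Lpn (LP (LK LD1_c24 LD2_c58 LD3_c14))))))
theorem f346399 : Led Lsl_df (LP (LK LD1_c15 LD2_c23 LD3_c14)) = (LP (LK LD1_c24 LD2_c58 LD3_c14)) :=
  Lgr Lrot38 (Lpr_dt (K26.f346394 IH) (Lpn (LP (LK LD1_c24 LD2_c58 LD3_c14))))
theorem f367045 : Led Lsl_af (LP (LK LD1_c11 LD2_c9 LD3_c30)) = (LP (LK LD1_c15 LD2_c23 LD3_c14)) :=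
  Lgr Lrot117 (Lpr_dt (K25.f329605 IH) (Lpr_at (f367043 IH) (Lpe (f346399 IH) (Lpn (LP (LK LD1_c15 LD2_c23 LD3_c14))))))
theorem f329621 : Led Lsl_ct (LP (LK LD1_c11 LD2_c9 LD3_c30)) = (LP (LK LD1_c5 LD2_c39 LD3_c14)) :=
  Lre_c IH (LK LD1_c11 LD2_c9 LD3_c30) (LK LD1_c5 LD2_c39 LD3_c14) Lrfl Lrfl
theorem f367049 : Led Lsl_at (LP (LK LD1_c5 LD2_c39 LD3_c14)) = (LP (LK LD1_c8 LD2_c10 LD3_c14)) :=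
  Lgr Lrot107 (Lpe (f329621 IH) (Lpr_af (f367045 IH) (Lpe (K24.f291036 IH) (Lpn (LP (LK LD1_c8 LD2_c10 LD3_c14))))))
theorem f365739 : Led Lsl_ff (LP (LK LD1_c4 LD2_c4 LD3_c41)) = (LP (LK LD1_c2 LD2_c45 LD3_c34)) :=
  Lgr Lrot25 (Lpr_bt (K21.f309932 IH) (Lpr_ft (f365735 IH) (Lpr_bt (K20.f216454 IH) (Lpn (LP (LK LD1_c2 LD2_c45 LD3_c34))))))
theorem f366729 : Led Lsl_ff (LP (LK LD1_c5 LD2_c1 LD3_c28)) = (LP (LK LD1_c8 LD2_c10 LD3_c14)) :=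
  Lgr Lrot72 (Lpr_et (K14.f253041 IH) (Lpr_ft (f366723 IH) (Lpe (K13.f216461 IH) (Lpe (f365739 IH) (Lpr_et (K24.f291033 IH) (Lpn (LP (LK LD1_c8 LD2_c10 LD3_c14))))))))
theorem f367058 : Led Lsl_ff (LP (LK LD1_c5 LD2_c39 LD3_c14)) = (LP (LK LD1_c5 LD2_c36 LD3_c7)) :=
  Lgr Lrot30 (Lpr_at (f367049 IH) (Lpe (f366729 IH) (Lpe (f366747 IH) (Lpn (LP (LK LD1_c5 LD2_c36 LD3_c7))))))
theorem f367062 : Led Lsl_ft (LP (LK LD1_c5 LD2_c39 LD3_c14)) = (LP (LK LD1_c5 LD2_c36 LD3_c7)) :=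
  Lgr Lrot48 (Lpr_ff (f367058 IH) (Lpn (LP (LK LD1_c5 LD2_c36 LD3_c7))))
theorem f365849 : Led Lsl_et (LP (LK LD1_c2 LD2_c45 LD3_c33)) = (LP (LK LD1_c5 LD2_c39 LD3_c14)) :=
  Lre_e IH (LK LD1_c2 LD2_c45 LD3_c33) (LK LD1_c5 LD2_c39 LD3_c14) Lrfl Lrfl
theorem f253036 : Led Lsl_bt (LP (LK LD1_c1 LD2_c58 LD3_c32)) = (LP (LK LD1_c4 LD2_c3 LD3_c1)) :=
  Lre_b IH (LK LD1_c1 LD2_c58 LD3_c32) (LK LD1_c4 LD2_c3 LD3_c1) Lrfl Lrfl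
theorem f290991 : Led Lsl_bt (LP (LK LD1_c4 LD2_c6 LD3_c49)) = (LP (LK LD1_c5 LD2_c15 LD3_c17)) :=
  Lgr Lrot130 (Lpr_ct (K19.f290982 IH) (Lpe (f290901 IH) (Lpe (f30993 IH) (Lpr_bt (f253036 IH) (Lpe (K16.f264904 IH) (Lpe (K17.f231859 IH) (Lpr_ct (K17.f49083 IH) (Lpr_gf (K15.f260386 IH) (Lpe (K10.f189725 IH) (Lpe (K15.f186861 IH) (Lpn (LP (LK LD1_c5 LD2_c15 LD3_c17)))))))))))))
theorem f366083 : Led Lsl_ff (LP (LK LD1_c4 LD2_c6 LD3_c49)) = (LP (LK LD1_c2 LD2_c43 LD3_c56)) :=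
  Lgr Lrot25 (Lpr_bt (f290991 IH) (Lpr_ft (f366081 IH) (Lpr_bt (K15.f265610 IH) (Lpn (LP (LK LD1_c2 LD2_c43 LD3_c56))))))
theorem f291000 : Led Lsl_et (LP (LK LD1_c4 LD2_c6 LD3_c49)) = (LP (LK LD1_c4 LD2_c4 LD3_c42)) :=
  Lgr Lrot74 (Lpr_bf (f290996 IH) (Lpe (K23.f286169 IH) (Lpe (K23.f224888 IH) (Lpn (LP (LK LD1_c4 LD2_c4 LD3_c42))))))
theorem f367064 : Led Lsl_ff (LP (LK LD1_c2 LD2_c45 LD3_c33)) = (LP (LK LD1_c4 LD2_c4 LD3_c42)) :=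
  Lgr Lrot72 (Lpr_et (f365849 IH) (Lpr_ft (f367062 IH) (Lpr_et (K16.f265621 IH) (Lpe (f366083 IH) (Lpr_et (f291000 IH) (Lpn (LP (LK LD1_c4 LD2_c4 LD3_c42))))))))
theorem f365843 : Led Lsl_af (LP (LK LD1_c4 LD2_c4 LD3_c41)) = (LP (LK LD1_c2 LD2_c45 LD3_c33)) :=
  Lgr Lrot117 (Lpr_dt (K21.f193336 IH) (Lpr_at (f327992 IH) (Lpr_dt (f365837 IH) (Lpn (LP (LK LD1_c2 LD2_c45 LD3_c33))))))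
theorem f365743 : Led Lsl_ft (LP (LK LD1_c4 LD2_c4 LD3_c41)) = (LP (LK LD1_c2 LD2_c45 LD3_c34)) :=
  Lgr Lrot75 (Lpe (K23.f309923 IH) (Lpr_ff (f365741 IH) (Lpe (K19.f216434 IH) (Lpn (LP (LK LD1_c2 LD2_c45 LD3_c34))))))
theorem f367068 : Led Lsl_at (LP (LK LD1_c2 LD2_c45 LD3_c34)) = (LP (LK LD1_c4 LD2_c4 LD3_c42)) :=
  Lgr Lrot66 (Lpe (f365743 IH) (Lpr_af (f365843 IH) (Lpr_ff (f367064 IH) (Lpn (LP (LK LD1_c4 LD2_c4 LD3_c42))))))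
theorem f331038 : Led Lsl_ct (LP (LK LD1_c11 LD2_c9 LD3_c26)) = (LP (LK LD1_c5 LD2_c39 LD3_c12)) :=
  Lre_c IH (LK LD1_c11 LD2_c9 LD3_c26) (LK LD1_c5 LD2_c39 LD3_c12) Lrfl Lrfl
theorem f366031 : Led Lsl_ff (LP (LK LD1_c8 LD2_c10 LD3_c15)) = (LP (LK LD1_c5 LD2_c39 LD3_c12)) :=
  Lgr Lrot23 (Lpe (K26.f326496 IH) (Lpr_ft (f366029 IH) (Lpr_ct (f331038 IH) (Lpn (LP (LK LD1_c5 LD2_c39 LD3_c12))))))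
theorem f366047 : Led Lsl_at (LP (LK LD1_c8 LD2_c10 LD3_c15)) = (LP (LK LD1_c8 LD2_c26 LD3_c47)) :=
  Lgr Lrot66 (Lpr_ff (f366031 IH) (Lpe (f366039 IH) (Lpr_ff (f366045 IH) (Lpn (LP (LK LD1_c8 LD2_c26 LD3_c47))))))
theorem f367070 : Led Lsl_af (LP (LK LD1_c5 LD2_c39 LD3_c15)) = (LP (LK LD1_c9 LD2_c41 LD3_c51)) :=
  Lgr Lrot36 (Lpr_bt (K20.f216454 IH) (Lpr_at (f367068 IH) (Lpr_bt (K23.f224888 IH) (Lpr_at (f366047 IH) (Lpe (f250538 IH) (Lpn (LP (LK LD1_c9 LD2_c41 LD3_c51))))))))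
theorem f367072 : Led Lsl_at (LP (LK LD1_c5 LD2_c36 LD3_c8)) = (LP (LK LD1_c8 LD2_c13 LD3_c10)) :=
  Lgr Lrot80 (Lpe (K19.f216464 IH) (Lpr_af (f367070 IH) (Lpr_ef (K25.f278416 IH) (Lpn (LP (LK LD1_c8 LD2_c13 LD3_c10))))))
theorem f367078 : Led Lsl_ff (LP (LK LD1_c5 LD2_c36 LD3_c8)) = (LP (LK LD1_c5 LD2_c1 LD3_c20)) :=
  Lgr Lrot52 (Lpr_at (f367072 IH) (Lpr_gf (K16.f275162 IH) (Lpr_gf (K16.f274868 IH) (Lpn (LP (LK LD1_c5 LD2_c1 LD3_c20))))))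
theorem f309928 : Led Lsl_et (LP (LK LD1_c8 LD2_c10 LD3_c11)) = (LP (LK LD1_c15 LD2_c23 LD3_c11)) :=
  Lre_e IH (LK LD1_c8 LD2_c10 LD3_c11) (LK LD1_c15 LD2_c23 LD3_c11) Lrfl Lrfl
theorem f192505 : Led Lsl_et (LP (LK LD1_c9 LD2_c52 LD3_c61)) = (LP (LK LD1_c5 LD2_c1 LD3_c20)) :=
  Lre_e IH (LK LD1_c9 LD2_c52 LD3_c61) (LK LD1_c5 LD2_c1 LD3_c20) Lrfl Lrfl
theorem f367084 : Led Lsl_ft (LP (LK LD1_c15 LD2_c23 LD3_c11)) = (LP (LK LD1_c9 LD2_c52 LD3_c61)) :=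
  Lgr Lrot86 (Lpe (f309928 IH) (Lpr_ff (f365741 IH) (Lpr_ef (K22.f216456 IH) (Lpr_ff (f367078 IH) (Lpe (f192505 IH) (Lpn (LP (LK LD1_c9 LD2_c52 LD3_c61))))))))
theorem f367087 : Led Lsl_ff (LP (LK LD1_c15 LD2_c23 LD3_c11)) = (LP (LK LD1_c9 LD2_c52 LD3_c61)) :=
  Lgr Lrot3 (Lpr_ft (f367084 IH) (Lpn (LP (LK LD1_c9 LD2_c52 LD3_c61))))
theorem f257588 : Led Lsl_dt (LP (LK LD1_c5 LD2_c1 LD3_c18)) = (LP (LK LD1_c9 LD2_c52 LD3_c61)) :=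
  Lre_d IH (LK LD1_c5 LD2_c1 LD3_c18) (LK LD1_c9 LD2_c52 LD3_c61) Lrfl Lrfl
theorem f367089 : Led Lsl_ft (LP (LK LD1_c9 LD2_c53 LD3_c0)) = (LP (LK LD1_c5 LD2_c1 LD3_c18)) :=
  Lre_f IH (LK LD1_c9 LD2_c53 LD3_c0) (LK LD1_c5 LD2_c1 LD3_c18) Lrfl Lrfl
theorem f367090 : Led Lsl_dt (LP (LK LD1_c15 LD2_c23 LD3_c11)) = (LP (LK LD1_c9 LD2_c53 LD3_c0)) :=
  Lgr Lrot60 (Lpr_ff (f367087 IH) (Lpe (f257588 IH) (Lpe (f367089 IH) (Lpn (LP (LK LD1_c9 LD2_c53 LD3_c0))))))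
theorem f361072 : Led Lsl_ef (LP (LK LD1_c15 LD2_c23 LD3_c10)) = (LP (LK LD1_c9 LD2_c35 LD3_c31)) :=
  Lgr Lrot88 (Lpr_et (K26.f361064 IH) (Lpn (LP (LK LD1_c9 LD2_c35 LD3_c31))))
theorem f367092 : Led Lsl_ef (LP (LK LD1_c17 LD2_c39 LD3_c43)) = (LP (LK LD1_c9 LD2_c53 LD3_c0)) :=
  Lgr Lrot73 (Lpr_dt (K26.f361014 IH) (Lpe (f361072 IH) (Lpr_dt (K21.f309917 IH) (Lpr_et (f309928 IH) (Lpr_dt (f367090 IH) (Lpn (LP (LK LD1_c9 LD2_c53 LD3_c0))))))))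
theorem f367086 : Led Lsl_ft (LP (LK LD1_c5 LD2_c1 LD3_c18)) = (LP (LK LD1_c9 LD2_c53 LD3_c0)) :=
  Lre_f IH (LK LD1_c5 LD2_c1 LD3_c18) (LK LD1_c9 LD2_c53 LD3_c0) Lrfl Lrfl
theorem f367098 : Led Lsl_ft (LP (LK LD1_c4 LD2_c53 LD3_c56)) = (LP (LK LD1_c2 LD2_c28 LD3_c21)) :=
  Lgr Lrot86 (Lpe (K13.f238259 IH) (Lpe (K26.f238273 IH) (Lpr_ef (f367092 IH) (Lpe (f367086 IH) (Lpe (K25.f192493 IH) (Lpn (LP (LK LD1_c2 LD2_c28 LD3_c21))))))))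
theorem f367106 : Led Lsl_af (LP (LK LD1_c4 LD2_c53 LD3_c57)) = (LP (LK LD1_c2 LD2_c28 LD3_c21)) :=
  Lgr Lrot31 (Lpr_gf (f290850 IH) (Lpe (K16.f44457 IH) (Lpr_ft (f367098 IH) (Lpn (LP (LK LD1_c2 LD2_c28 LD3_c21))))))
theorem f361091 : Led Lsl_at (LP (LK LD1_c4 LD2_c5 LD3_c9)) = (LP (LK LD1_c4 LD2_c53 LD3_c56)) :=
  Lgr Lrot80 (Lpe (K25.f191068 IH) (Lpr_af (K26.f361083 IH) (Lpr_ef (K13.f238231 IH) (Lpn (LP (LK LD1_c4 LD2_c53 LD3_c56))))))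
theorem f367114 : Led Lsl_ft (LP (LK LD1_c4 LD2_c53 LD3_c57)) = (LP (LK LD1_c4 LD2_c5 LD3_c9)) :=
  Lgr Lrot101 (Lpr_af (f367106 IH) (Lpe (f367098 IH) (Lpe (f361091 IH) (Lpn (LP (LK LD1_c4 LD2_c5 LD3_c9))))))
theorem f367122 : Led Lsl_ff (LP (LK LD1_c4 LD2_c53 LD3_c57)) = (LP (LK LD1_c4 LD2_c5 LD3_c9)) :=
  Lgr Lrot3 (Lpr_ft (f367114 IH) (Lpn (LP (LK LD1_c4 LD2_c5 LD3_c9))))
theorem f212279 : Led Lsl_ft (LP (LK LD1_c9 LD2_c39 LD3_c23)) = (LP (LK LD1_c17 LD2_c45 LD3_c34)) :=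
  Lre_f IH (LK LD1_c9 LD2_c39 LD3_c23) (LK LD1_c17 LD2_c45 LD3_c34) Lrfl Lrfl
theorem f191085 : Led Lsl_ft (LP (LK LD1_c15 LD2_c24 LD3_c38)) = (LP (LK LD1_c8 LD2_c11 LD3_c5)) :=
  Lre_f IH (LK LD1_c15 LD2_c24 LD3_c38) (LK LD1_c8 LD2_c11 LD3_c5) Lrfl Lrfl
theorem f367128 : Led Lsl_et (LP (LK LD1_c17 LD2_c45 LD3_c34)) = (LP (LK LD1_c15 LD2_c24 LD3_c38)) :=
  Lgr Lrot69 (Lpe (f212279 IH) (Lpe (K15.f44466 IH) (Lpr_ff (f367122 IH) (Lpe (K25.f191068 IH) (Lpe (f191085 IH) (Lpn (LP (LK LD1_c15 LD2_c24 LD3_c38))))))))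
theorem f339616 : Led Lsl_et (LP (LK LD1_c10 LD2_c38 LD3_c8)) = (LP (LK LD1_c19 LD2_c15 LD3_c60)) :=
  Lre_e IH (LK LD1_c10 LD2_c38 LD3_c8) (LK LD1_c19 LD2_c15 LD3_c60) Lrfl Lrfl
theorem f367132 : Led Lsl_df (LP (LK LD1_c17 LD2_c45 LD3_c34)) = (LP (LK LD1_c19 LD2_c15 LD3_c60)) :=
  Lgr Lrot70 (Lpr_et (f367128 IH) (Lpr_dt (K26.f361110 IH) (Lpr_et (K26.f359393 IH) (Lpr_dt (K26.f339603 IH) (Lpr_et (f339616 IH) (Lpn (LP (LK LD1_c19 LD2_c15 LD3_c60))))))))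
theorem f212278 : Led Lsl_ft (LP (LK LD1_c17 LD2_c45 LD3_c34)) = (LP (LK LD1_c9 LD2_c39 LD3_c23)) :=
  Lre_f IH (LK LD1_c17 LD2_c45 LD3_c34) (LK LD1_c9 LD2_c39 LD3_c23) Lrfl Lrfl
theorem f256435 : Led Lsl_dt (LP (LK LD1_c9 LD2_c39 LD3_c23)) = (LP (LK LD1_c15 LD2_c48 LD3_c52)) :=
  Lgr Lrot77 (Lpe (K15.f44466 IH) (Lpe (K16.f51287 IH) (Lpr_ef (K14.f256428 IH) (Lpe (K14.f199574 IH) (Lpe (K15.f256430 IH) (Lpn (LP (LK LD1_c15 LD2_c48 LD3_c52))))))))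
theorem f367138 : Led Lsl_ft (LP (LK LD1_c15 LD2_c48 LD3_c52)) = (LP (LK LD1_c19 LD2_c15 LD3_c60)) :=
  Lgr Lrot54 (Lpe (f256435 IH) (Lpe (f212278 IH) (Lpr_df (f367132 IH) (Lpn (LP (LK LD1_c19 LD2_c15 LD3_c60))))))
theorem f367142 : Led Lsl_ff (LP (LK LD1_c15 LD2_c48 LD3_c52)) = (LP (LK LD1_c19 LD2_c15 LD3_c60)) :=
  Lgr Lrot3 (Lpr_ft (f367138 IH) (Lpn (LP (LK LD1_c19 LD2_c15 LD3_c60))))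
theorem f256447 : Led Lsl_bf (LP (LK LD1_c10 LD2_c19 LD3_c57)) = (LP (LK LD1_c15 LD2_c48 LD3_c52)) :=
  Lgr Lrot24 (Lpr_bt (K15.f256445 IH) (Lpn (LP (LK LD1_c15 LD2_c48 LD3_c52))))
theorem f339604 : Led Lsl_et (LP (LK LD1_c19 LD2_c15 LD3_c60)) = (LP (LK LD1_c10 LD2_c38 LD3_c8)) :=
  Lre_e IH (LK LD1_c19 LD2_c15 LD3_c60) (LK LD1_c10 LD2_c38 LD3_c8) Lrfl Lrfl
theorem f339605 : Led Lsl_et (LP (LK LD1_c9 LD2_c41 LD3_c47)) = (LP (LK LD1_c17 LD2_c50 LD3_c8)) :=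
  Lre_e IH (LK LD1_c9 LD2_c41 LD3_c47) (LK LD1_c17 LD2_c50 LD3_c8) Lrfl Lrfl
theorem f339606 : Led Lsl_bf (LP (LK LD1_c19 LD2_c15 LD3_c60)) = (LP (LK LD1_c17 LD2_c50 LD3_c8)) :=
  Lgr Lrot96 (Lpr_et (f339604 IH) (Lpr_bt (f339599 IH) (Lpr_et (f339605 IH) (Lpn (LP (LK LD1_c17 LD2_c50 LD3_c8))))))
theorem f367146 : Led Lsl_ft (LP (LK LD1_c10 LD2_c19 LD3_c57)) = (LP (LK LD1_c17 LD2_c50 LD3_c8)) :=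
  Lgr Lrot75 (Lpr_bf (f256447 IH) (Lpr_ff (f367142 IH) (Lpr_bf (f339606 IH) (Lpn (LP (LK LD1_c17 LD2_c50 LD3_c8))))))
theorem f367053 : Led Lsl_bt (LP (LK LD1_c11 LD2_c9 LD3_c27)) = (LP (LK LD1_c5 LD2_c39 LD3_c14)) :=
  Lre_b IH (LK LD1_c11 LD2_c9 LD3_c27) (LK LD1_c5 LD2_c39 LD3_c14) Lrfl Lrfl
theorem f341924 : Led Lsl_bt (LP (LK LD1_c8 LD2_c10 LD3_c14)) = (LP (LK LD1_c15 LD2_c23 LD3_c11)) :=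
  Lre_b IH (LK LD1_c8 LD2_c10 LD3_c14) (LK LD1_c15 LD2_c23 LD3_c11) Lrfl Lrfl
theorem f365747 : Led Lsl_at (LP (LK LD1_c8 LD2_c10 LD3_c11)) = (LP (LK LD1_c10 LD2_c38 LD3_c8)) :=
  Lgr Lrot26 (Lpr_ff (f365741 IH) (Lpr_gt (K19.f259262 IH) (Lpe (K26.f345633 IH) (Lpn (LP (LK LD1_c10 LD2_c38 LD3_c8))))))
theorem f309936 : Led Lsl_et (LP (LK LD1_c15 LD2_c23 LD3_c11)) = (LP (LK LD1_c8 LD2_c10 LD3_c11)) :=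
  Lre_e IH (LK LD1_c15 LD2_c23 LD3_c11) (LK LD1_c8 LD2_c10 LD3_c11) Lrfl Lrfl
theorem f365751 : Led Lsl_af (LP (LK LD1_c15 LD2_c23 LD3_c11)) = (LP (LK LD1_c19 LD2_c15 LD3_c60)) :=
  Lgr Lrot50 (Lpr_et (f309936 IH) (Lpr_at (f365747 IH) (Lpr_et (f339616 IH) (Lpn (LP (LK LD1_c19 LD2_c15 LD3_c60))))))
theorem f365753 : Led Lsl_at (LP (LK LD1_c15 LD2_c23 LD3_c11)) = (LP (LK LD1_c19 LD2_c15 LD3_c60)) :=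
  Lgr Lrot100 (Lpr_af (f365751 IH) (Lpn (LP (LK LD1_c19 LD2_c15 LD3_c60))))
theorem f339610 : Led Lsl_bt (LP (LK LD1_c19 LD2_c15 LD3_c60)) = (LP (LK LD1_c17 LD2_c50 LD3_c8)) :=
  Lgr Lrot127 (Lpr_bf (f339606 IH) (Lpn (LP (LK LD1_c17 LD2_c50 LD3_c8))))
theorem f367054 : Led Lsl_af (LP (LK LD1_c11 LD2_c9 LD3_c27)) = (LP (LK LD1_c17 LD2_c50 LD3_c8)) :=
  Lgr Lrot36 (Lpr_bt (f367053 IH) (Lpr_at (f367049 IH) (Lpr_bt (f341924 IH) (Lpr_at (f365753 IH) (Lpr_bt (f339610 IH) (Lpn (LP (LK LD1_c17 LD2_c50 LD3_c8))))))))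
theorem f286171 : Led Lsl_ef (LP (LK LD1_c8 LD2_c10 LD3_c15)) = (LP (LK LD1_c5 LD2_c15 LD3_c17)) :=
  Lgr Lrot88 (Lpr_et (K23.f286169 IH) (Lpn (LP (LK LD1_c5 LD2_c15 LD3_c17))))
theorem f366041 : Led Lsl_af (LP (LK LD1_c9 LD2_c41 LD3_c47)) = (LP (LK LD1_c5 LD2_c39 LD3_c12)) :=
  Lgr Lrot0 (Lpr_at (f366039 IH) (Lpn (LP (LK LD1_c5 LD2_c39 LD3_c12))))
theorem f366063 : Led Lsl_ft (LP (LK LD1_c8 LD2_c10 LD3_c15)) = (LP (LK LD1_c5 LD2_c39 LD3_c12)) :=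
  Lgr Lrot101 (Lpr_af (f366057 IH) (Lpe (f366053 IH) (Lpr_af (f366041 IH) (Lpn (LP (LK LD1_c5 LD2_c39 LD3_c12))))))
theorem f344961 : Led Lsl_et (LP (LK LD1_c5 LD2_c39 LD3_c12)) = (LP (LK LD1_c11 LD2_c9 LD3_c27)) :=
  Lre_e IH (LK LD1_c5 LD2_c39 LD3_c12) (LK LD1_c11 LD2_c9 LD3_c27) Lrfl Lrfl
theorem f366079 : Led Lsl_ft (LP (LK LD1_c11 LD2_c9 LD3_c27)) = (LP (LK LD1_c11 LD2_c4 LD3_c30)) :=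
  Lgr Lrot86 (Lpe (f344961 IH) (Lpe (f366063 IH) (Lpr_ef (f286171 IH) (Lpr_ff (f366071 IH) (Lpe (K16.f263671 IH) (Lpn (LP (LK LD1_c11 LD2_c4 LD3_c30))))))))
theorem f367148 : Led Lsl_af (LP (LK LD1_c10 LD2_c19 LD3_c57)) = (LP (LK LD1_c11 LD2_c4 LD3_c30)) :=
  Lgr Lrot45 (Lpr_ft (f367146 IH) (Lpe (f367054 IH) (Lpr_ft (f366079 IH) (Lpn (LP (LK LD1_c11 LD2_c4 LD3_c30))))))
theorem f367162 : Led Lsl_gf (LP (LK LD1_c10 LD2_c19 LD3_c57)) = (LP (LK LD1_c18 LD2_c12 LD3_c30)) :=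
  Lgr Lrot76 (Lpr_af (f367148 IH) (Lpe (f366079 IH) (Lpr_gt (f344956 IH) (Lpn (LP (LK LD1_c18 LD2_c12 LD3_c30))))))
theorem f193241 : Led Lsl_et (LP (LK LD1_c8 LD2_c42 LD3_c33)) = (LP (LK LD1_c4 LD2_c22 LD3_c17)) :=
  Lre_e IH (LK LD1_c8 LD2_c42 LD3_c33) (LK LD1_c4 LD2_c22 LD3_c17) Lrfl Lrfl
theorem f299244 : Led Lsl_dt (LP (LK LD1_c19 LD2_c57 LD3_c38)) = (LP (LK LD1_c11 LD2_c4 LD3_c50)) :=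
  Lre_d IH (LK LD1_c19 LD2_c57 LD3_c38) (LK LD1_c11 LD2_c4 LD3_c50) Lrfl Lrfl
theorem f314692 : Led Lsl_gt (LP (LK LD1_c25 LD2_c17 LD3_c60)) = (LP (LK LD1_c19 LD2_c57 LD3_c38)) :=
  Lgr Lrot137 (Lpe (K23.f314594 IH) (Lpr_dt (K23.f314647 IH) (Lpr_gf (K21.f314690 IH) (Lpe (K19.f278438 IH) (Lpr_et (f193241 IH) (Lpe (K19.f309130 IH) (Lpe (K16.f262860 IH) (Lpr_dt (K17.f286133 IH) (Lpr_gf (K23.f299241 IH) (Lpe (f299244 IH) (Lpn (LP (LK LD1_c19 LD2_c57 LD3_c38)))))))))))))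
theorem f299243 : Led Lsl_dt (LP (LK LD1_c11 LD2_c4 LD3_c50)) = (LP (LK LD1_c19 LD2_c57 LD3_c38)) :=
  Lre_d IH (LK LD1_c11 LD2_c4 LD3_c50) (LK LD1_c19 LD2_c57 LD3_c38) Lrfl Lrfl
theorem f367166 : Led Lsl_et (LP (LK LD1_c11 LD2_c4 LD3_c50)) = (LP (LK LD1_c18 LD2_c12 LD3_c30)) :=
  Lgr Lrot185 (Lpr_dt (f299243 IH) (Lpe (f314692 IH) (Lpe (K23.f314648 IH) (Lpe (K22.f325360 IH) (Lpr_ef (K21.f263717 IH) (Lpe (K21.f259687 IH) (Lpe (K15.f189767 IH) (Lpr_df (K17.f189758 IH) (Lpr_et (K15.f189762 IH) (Lpr_gf (f367162 IH) (Lpn (LP (LK LD1_c18 LD2_c12 LD3_c30)))))))))))))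
theorem f367168 : Led Lsl_ef (LP (LK LD1_c5 LD2_c36 LD3_c16)) = (LP (LK LD1_c9 LD2_c56 LD3_c55)) :=
  Lgr Lrot29 (Lpr_bt (K23.f298678 IH) (Lpr_et (f367166 IH) (Lpr_bt (f344948 IH) (Lpn (LP (LK LD1_c9 LD2_c56 LD3_c55))))))
theorem f367184 : Led Lsl_df (LP (LK LD1_c17 LD2_c51 LD3_c0)) = (LP (LK LD1_c9 LD2_c56 LD3_c55)) :=
  Lgr Lrot168 (Lpe (K26.f325581 IH) (Lpe (K26.f168575 IH) (Lpe (K26.f351837 IH) (Lpr_gf (K25.f351765 IH) (Lpe (K25.f351522 IH) (Lpr_dt (K20.f322236 IH) (Lpe (K20.f228839 IH) (Lpe (K15.f228816 IH) (Lpe (K22.f228837 IH) (Lpr_ef (f367168 IH) (Lpn (LP (LK LD1_c9 LD2_c56 LD3_c55)))))))))))))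
theorem f367188 : Led Lsl_dt (LP (LK LD1_c17 LD2_c51 LD3_c0)) = (LP (LK LD1_c9 LD2_c56 LD3_c55)) :=
  Lgr Lrot42 (Lpr_df (f367184 IH) (Lpn (LP (LK LD1_c9 LD2_c56 LD3_c55))))
theorem f304222 : Led Lsl_bt (LP (LK LD1_c10 LD2_c0 LD3_c42)) = (LP (LK LD1_c8 LD2_c6 LD3_c32)) :=
  Lgr Lrot127 (Lpr_bf (K26.f304220 IH) (Lpn (LP (LK LD1_c8 LD2_c6 LD3_c32))))
theorem f291268 : Led Lsl_ct (LP (LK LD1_c10 LD2_c0 LD3_c42)) = (LP (LK LD1_c18 LD2_c17 LD3_c39)) :=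
  Lre_c IH (LK LD1_c10 LD2_c0 LD3_c42) (LK LD1_c18 LD2_c17 LD3_c39) Lrfl Lrfl
theorem f344952 : Led Lsl_bt (LP (LK LD1_c9 LD2_c56 LD3_c55)) = (LP (LK LD1_c18 LD2_c12 LD3_c30)) :=
  Lre_b IH (LK LD1_c9 LD2_c56 LD3_c55) (LK LD1_c18 LD2_c12 LD3_c30) Lrfl Lrfl
theorem f344958 : Led Lsl_ct (LP (LK LD1_c9 LD2_c56 LD3_c55)) = (LP (LK LD1_c18 LD2_c12 LD3_c31)) :=
  Lre_c IH (LK LD1_c9 LD2_c56 LD3_c55) (LK LD1_c18 LD2_c12 LD3_c31) Lrfl Lrfl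
theorem f344959 : Led Lsl_gf (LP (LK LD1_c18 LD2_c17 LD3_c39)) = (LP (LK LD1_c18 LD2_c12 LD3_c31)) :=
  Lgr Lrot126 (Lpe (f291268 IH) (Lpr_bt (f304222 IH) (Lpr_gt (K19.f291257 IH) (Lpr_ct (f323714 IH) (Lpe (f329619 IH) (Lpe (f329611 IH) (Lpr_bt (f329622 IH) (Lpr_gt (f344956 IH) (Lpe (f344952 IH) (Lpr_ct (f344958 IH) (Lpn (LP (LK LD1_c18 LD2_c12 LD3_c31)))))))))))))
theorem f291263 : Led Lsl_ct (LP (LK LD1_c18 LD2_c17 LD3_c39)) = (LP (LK LD1_c10 LD2_c0 LD3_c42)) :=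
  Lre_c IH (LK LD1_c18 LD2_c17 LD3_c39) (LK LD1_c10 LD2_c0 LD3_c42) Lrfl Lrfl
theorem f344962 : Led Lsl_gt (LP (LK LD1_c15 LD2_c24 LD3_c44)) = (LP (LK LD1_c9 LD2_c56 LD3_c55)) :=
  Lgr Lrot9 (Lpr_df (K19.f284019 IH) (Lpr_gt (K18.f257603 IH) (Lpr_ct (K22.f257610 IH) (Lpr_gt (K22.f266169 IH) (Lpr_ct (K23.f266173 IH) (Lpe (K22.f290866 IH) (Lpe (f291263 IH) (Lpr_gf (f344959 IH) (Lpe (f344958 IH) (Lpn (LP (LK LD1_c9 LD2_c56 LD3_c55))))))))))))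
theorem f367198 : Led Lsl_et (LP (LK LD1_c17 LD2_c51 LD3_c0)) = (LP (LK LD1_c9 LD2_c58 LD3_c16)) :=
  Lgr Lrot121 (Lpr_dt (f367188 IH) (Lpe (f344962 IH) (Lpr_df (K19.f284019 IH) (Lpe (K18.f288318 IH) (Lpe (K19.f300202 IH) (Lpr_ef (K21.f305966 IH) (Lpe (K21.f305976 IH) (Lpe (K21.f166838 IH) (Lpe (K21.f166808 IH) (Lpe (K26.f166841 IH) (Lpn (LP (LK LD1_c9 LD2_c58 LD3_c16)))))))))))))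
theorem f250131 : Led Lsl_ct (LP (LK LD1_c18 LD2_c8 LD3_c60)) = (LP (LK LD1_c9 LD2_c54 LD3_c56)) :=
  Lre_c IH (LK LD1_c18 LD2_c8 LD3_c60) (LK LD1_c9 LD2_c54 LD3_c56) Lrfl Lrfl
theorem f364416 : Led Lsl_ef (LP (LK LD1_c5 LD2_c2 LD3_c60)) = (LP (LK LD1_c9 LD2_c54 LD3_c56)) :=
  Lgr Lrot28 (Lpr_ct (K22.f257651 IH) (Lpr_et (K26.f364412 IH) (Lpr_ct (f250131 IH) (Lpn (LP (LK LD1_c9 LD2_c54 LD3_c56))))))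
theorem f367200 : Led Lsl_df (LP (LK LD1_c11 LD2_c5 LD3_c3)) = (LP (LK LD1_c9 LD2_c54 LD3_c56)) :=
  Lgr Lrot168 (Lpe (K20.f253664 IH) (Lpe (K14.f253655 IH) (Lpe (K26.f249605 IH) (Lpe (K26.f166841 IH) (Lpe (f367198 IH) (Lpr_dt (f367188 IH) (Lpe (f344962 IH) (Lpr_df (K19.f284019 IH) (Lpr_gf (K18.f257773 IH) (Lpr_ef (f364416 IH) (Lpn (LP (LK LD1_c9 LD2_c54 LD3_c56)))))))))))))
theorem f367211 : Led Lsl_gt (LP (LK LD1_c10 LD2_c10 LD3_c29)) = (LP (LK LD1_c9 LD2_c54 LD3_c56)) :=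
  Lgr Lrot137 (Lpe (K19.f312489 IH) (Lpr_dt (K19.f312496 IH) (Lpr_gf (K19.f312499 IH) (Lpe (K13.f192558 IH) (Lpr_et (K12.f192557 IH) (Lpr_gf (K14.f249061 IH) (Lpe (K14.f249076 IH) (Lpe (K14.f254208 IH) (Lpe (K23.f254198 IH) (Lpr_df (f367200 IH) (Lpn (LP (LK LD1_c9 LD2_c54 LD3_c56)))))))))))))
theorem f309721 : Led Lsl_ct (LP (LK LD1_c10 LD2_c26 LD3_c38)) = (LP (LK LD1_c18 LD2_c56 LD3_c26)) :=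
  Lre_c IH (LK LD1_c10 LD2_c26 LD3_c38) (LK LD1_c18 LD2_c56 LD3_c26) Lrfl Lrfl
theorem f329996 : Led Lsl_bt (LP (LK LD1_c26 LD2_c5 LD3_c26)) = (LP (LK LD1_c18 LD2_c27 LD3_c60)) :=
  Lgr Lrot127 (Lpr_bf (K22.f329940 IH) (Lpn (LP (LK LD1_c18 LD2_c27 LD3_c60))))
theorem f341803 : Led Lsl_bf (LP (LK LD1_c6 LD2_c6 LD3_c28)) = (LP (LK LD1_c11 LD2_c53 LD3_c40)) :=
  Lgr Lrot34 (Lpe (K21.f309714 IH) (Lpe (K22.f309719 IH) (Lpr_ct (f309721 IH) (Lpe (K26.f341801 IH) (Lpe (K23.f309571 IH) (Lpr_gf (K26.f341799 IH) (Lpe (f329996 IH) (Lpe (f330009 IH) (Lpr_gf (K25.f330029 IH) (Lpe (K25.f290051 IH) (Lpn (LP (LK LD1_c11 LD2_c53 LD3_c40)))))))))))))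
theorem f341815 : Led Lsl_bt (LP (LK LD1_c2 LD2_c59 LD3_c19)) = (LP (LK LD1_c6 LD2_c5 LD3_c6)) :=
  Lgr Lrot119 (Lpe (K19.f195706 IH) (Lpr_bf (f341803 IH) (Lpe (K22.f290050 IH) (Lpn (LP (LK LD1_c6 LD2_c5 LD3_c6))))))
theorem f341819 : Led Lsl_bf (LP (LK LD1_c2 LD2_c39 LD3_c50)) = (LP (LK LD1_c5 LD2_c21 LD3_c57)) :=
  Lgr Lrot93 (Lpr_dt (K19.f309703 IH) (Lpr_bt (f341815 IH) (Lpr_dt (K20.f316391 IH) (Lpn (LP (LK LD1_c5 LD2_c21 LD3_c57))))))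
theorem f341823 : Led Lsl_bt (LP (LK LD1_c5 LD2_c26 LD3_c53)) = (LP (LK LD1_c10 LD2_c34 LD3_c13)) :=
  Lgr Lrot119 (Lpe (K19.f179057 IH) (Lpr_bf (f341819 IH) (Lpe (K20.f199020 IH) (Lpn (LP (LK LD1_c10 LD2_c34 LD3_c13))))))
theorem f341829 : Led Lsl_bf (LP (LK LD1_c5 LD2_c5 LD3_c35)) = (LP (LK LD1_c10 LD2_c1 LD3_c43)) :=
  Lgr Lrot93 (Lpe (K22.f179055 IH) (Lpr_bt (f341823 IH) (Lpe (K20.f256495 IH) (Lpn (LP (LK LD1_c10 LD2_c1 LD3_c43))))))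
theorem f230820 : Led Lsl_ct (LP (LK LD1_c10 LD2_c1 LD3_c43)) = (LP (LK LD1_c18 LD2_c19 LD3_c38)) :=
  Lre_c IH (LK LD1_c10 LD2_c1 LD3_c43) (LK LD1_c18 LD2_c19 LD3_c38) Lrfl Lrfl
theorem f230759 : Led Lsl_ft (LP (LK LD1_c18 LD2_c5 LD3_c16)) = (LP (LK LD1_c9 LD2_c52 LD3_c58)) :=
  Lre_f IH (LK LD1_c18 LD2_c5 LD3_c16) (LK LD1_c9 LD2_c52 LD3_c58) Lrfl Lrfl
theorem f250122 : Led Lsl_ft (LP (LK LD1_c5 LD2_c2 LD3_c5)) = (LP (LK LD1_c9 LD2_c54 LD3_c56)) :=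
  Lre_f IH (LK LD1_c5 LD2_c2 LD3_c5) (LK LD1_c9 LD2_c54 LD3_c56) Lrfl Lrfl
theorem f250123 : Led Lsl_bf (LP (LK LD1_c18 LD2_c5 LD3_c16)) = (LP (LK LD1_c9 LD2_c54 LD3_c56)) :=
  Lgr Lrot61 (Lpr_ft (f230759 IH) (Lpr_bt (K14.f250115 IH) (Lpr_ft (f250122 IH) (Lpn (LP (LK LD1_c9 LD2_c54 LD3_c56))))))
theorem f250129 : Led Lsl_bt (LP (LK LD1_c18 LD2_c5 LD3_c16)) = (LP (LK LD1_c9 LD2_c54 LD3_c56)) :=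
  Lgr Lrot127 (Lpr_bf (f250123 IH) (Lpn (LP (LK LD1_c9 LD2_c54 LD3_c56))))
theorem f230760 : Led Lsl_ft (LP (LK LD1_c10 LD2_c16 LD3_c37)) = (LP (LK LD1_c18 LD2_c41 LD3_c28)) :=
  Lre_f IH (LK LD1_c10 LD2_c16 LD3_c37) (LK LD1_c18 LD2_c41 LD3_c28) Lrfl Lrfl
theorem f230761 : Led Lsl_cf (LP (LK LD1_c18 LD2_c5 LD3_c16)) = (LP (LK LD1_c18 LD2_c41 LD3_c28)) :=
  Lgr Lrot108 (Lpr_ft (f230759 IH) (Lpr_ct (K22.f230751 IH) (Lpr_ft (f230760 IH) (Lpn (LP (LK LD1_c18 LD2_c41 LD3_c28))))))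
theorem f230770 : Led Lsl_ct (LP (LK LD1_c18 LD2_c5 LD3_c16)) = (LP (LK LD1_c18 LD2_c41 LD3_c28)) :=
  Lgr Lrot59 (Lpr_cf (f230761 IH) (Lpn (LP (LK LD1_c18 LD2_c41 LD3_c28))))
theorem f367217 : Led Lsl_gf (LP (LK LD1_c18 LD2_c19 LD3_c38)) = (LP (LK LD1_c18 LD2_c41 LD3_c28)) :=
  Lgr Lrot126 (Lpe (f230820 IH) (Lpe (f341829 IH) (Lpr_gt (K20.f169475 IH) (Lpr_ct (K15.f169549 IH) (Lpr_gt (K22.f179058 IH) (Lpr_cf (K22.f335457 IH) (Lpr_bt (K19.f250344 IH) (Lpr_gt (f367211 IH) (Lpe (f250129 IH) (Lpr_ct (f230770 IH) (Lpn (LP (LK LD1_c18 LD2_c41 LD3_c28)))))))))))))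
theorem f167499 : Led Lsl_dt (LP (LK LD1_c10 LD2_c2 LD3_c0)) = (LP (LK LD1_c5 LD2_c5 LD3_c26)) :=
  Lre_d IH (LK LD1_c10 LD2_c2 LD3_c0) (LK LD1_c5 LD2_c5 LD3_c26) Lrfl Lrfl
theorem f167606 : Led Lsl_gt (LP (LK LD1_c18 LD2_c20 LD3_c7)) = (LP (LK LD1_c10 LD2_c2 LD3_c0)) :=
  Lre_g IH (LK LD1_c18 LD2_c20 LD3_c7) (LK LD1_c10 LD2_c2 LD3_c0) Lrfl Lrfl
theorem f316425 : Led Lsl_dt (LP (LK LD1_c10 LD2_c22 LD3_c28)) = (LP (LK LD1_c18 LD2_c20 LD3_c7)) :=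
  Lgr Lrot57 (Lpe (K26.f307636 IH) (Lpe (K25.f248322 IH) (Lpe (K20.f316416 IH) (Lpr_dt (K20.f316418 IH) (Lpr_gt (K20.f167524 IH) (Lpr_dt (K19.f167435 IH) (Lpe (K26.f167498 IH) (Lpe (f167499 IH) (Lpe (f167606 IH) (Lpn (LP (LK LD1_c18 LD2_c20 LD3_c7))))))))))))
theorem f268061 : Led Lsl_dt (LP (LK LD1_c10 LD2_c28 LD3_c36)) = (LP (LK LD1_c18 LD2_c59 LD3_c21)) :=
  Lre_d IH (LK LD1_c10 LD2_c28 LD3_c36) (LK LD1_c18 LD2_c59 LD3_c21) Lrfl Lrfl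
theorem f167601 : Led Lsl_dt (LP (LK LD1_c5 LD2_c5 LD3_c26)) = (LP (LK LD1_c10 LD2_c2 LD3_c0)) :=
  Lre_d IH (LK LD1_c5 LD2_c5 LD3_c26) (LK LD1_c10 LD2_c2 LD3_c0) Lrfl Lrfl
theorem f230842 : Led Lsl_et (LP (LK LD1_c5 LD2_c5 LD3_c26)) = (LP (LK LD1_c2 LD2_c29 LD3_c59)) :=
  Lre_e IH (LK LD1_c5 LD2_c5 LD3_c26) (LK LD1_c2 LD2_c29 LD3_c59) Lrfl Lrfl
theorem f274844 : Led Lsl_et (LP (LK LD1_c10 LD2_c1 LD3_c50)) = (LP (LK LD1_c5 LD2_c5 LD3_c22)) :=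
  Lre_e IH (LK LD1_c10 LD2_c1 LD3_c50) (LK LD1_c5 LD2_c5 LD3_c22) Lrfl Lrfl
theorem f274845 : Led Lsl_dt (LP (LK LD1_c10 LD2_c1 LD3_c50)) = (LP (LK LD1_c18 LD2_c19 LD3_c50)) :=
  Lre_d IH (LK LD1_c10 LD2_c1 LD3_c50) (LK LD1_c18 LD2_c19 LD3_c50) Lrfl Lrfl
theorem f316437 : Led Lsl_gf (LP (LK LD1_c18 LD2_c59 LD3_c21)) = (LP (LK LD1_c18 LD2_c19 LD3_c50)) :=
  Lgr Lrot145 (Lpe (f268061 IH) (Lpr_et (K19.f288919 IH) (Lpr_gt (K26.f307636 IH) (Lpr_dt (f316425 IH) (Lpr_gt (f167606 IH) (Lpe (f167601 IH) (Lpr_et (f230842 IH) (Lpr_gt (K16.f230830 IH) (Lpe (f274844 IH) (Lpr_dt (f274845 IH) (Lpn (LP (LK LD1_c18 LD2_c19 LD3_c50)))))))))))))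
theorem f316447 : Led Lsl_gt (LP (LK LD1_c18 LD2_c19 LD3_c38)) = (LP (LK LD1_c10 LD2_c1 LD3_c50)) :=
  Lgr Lrot94 (Lpe (f230820 IH) (Lpr_gt (K20.f169949 IH) (Lpr_dt (K14.f230801 IH) (Lpe (K20.f278536 IH) (Lpr_dt (K21.f230600 IH) (Lpe (K15.f230598 IH) (Lpe (K15.f230603 IH) (Lpr_gf (f316437 IH) (Lpe (f274845 IH) (Lpn (LP (LK LD1_c10 LD2_c1 LD3_c50))))))))))))
theorem f230774 : Led Lsl_ft (LP (LK LD1_c18 LD2_c41 LD3_c28)) = (LP (LK LD1_c10 LD2_c16 LD3_c37)) :=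
  Lre_f IH (LK LD1_c18 LD2_c41 LD3_c28) (LK LD1_c10 LD2_c16 LD3_c37) Lrfl Lrfl
theorem f367219 : Led Lsl_af (LP (LK LD1_c10 LD2_c1 LD3_c50)) = (LP (LK LD1_c10 LD2_c16 LD3_c37)) :=
  Lgr Lrot31 (Lpe (f316447 IH) (Lpr_gf (f367217 IH) (Lpr_ft (f230774 IH) (Lpn (LP (LK LD1_c10 LD2_c16 LD3_c37))))))
theorem f230763 : Led Lsl_dt (LP (LK LD1_c18 LD2_c41 LD3_c27)) = (LP (LK LD1_c10 LD2_c16 LD3_c37)) :=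
  Lre_d IH (LK LD1_c18 LD2_c41 LD3_c27) (LK LD1_c10 LD2_c16 LD3_c37) Lrfl Lrfl
theorem f367223 : Led Lsl_at (LP (LK LD1_c18 LD2_c19 LD3_c50)) = (LP (LK LD1_c18 LD2_c41 LD3_c27)) :=
  Lgr Lrot51 (Lpe (f274845 IH) (Lpr_af (f367219 IH) (Lpe (f230763 IH) (Lpn (LP (LK LD1_c18 LD2_c41 LD3_c27))))))
theorem f367236 : Led Lsl_af (LP (LK LD1_c18 LD2_c19 LD3_c50)) = (LP (LK LD1_c18 LD2_c41 LD3_c27)) :=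
  Lgr Lrot0 (Lpr_at (f367223 IH) (Lpn (LP (LK LD1_c18 LD2_c41 LD3_c27))))
theorem f185535 : Led Lsl_ft (LP (LK LD1_c10 LD2_c26 LD3_c30)) = (LP (LK LD1_c18 LD2_c56 LD3_c19)) :=
  Lre_f IH (LK LD1_c10 LD2_c26 LD3_c30) (LK LD1_c18 LD2_c56 LD3_c19) Lrfl Lrfl
theorem f268025 : Led Lsl_af (LP (LK LD1_c18 LD2_c59 LD3_c21)) = (LP (LK LD1_c18 LD2_c56 LD3_c19)) :=
  Lgr Lrot45 (Lpr_ft (K15.f268024 IH) (Lpr_at (K15.f268013 IH) (Lpr_ft (f185535 IH) (Lpn (LP (LK LD1_c18 LD2_c56 LD3_c19))))))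
theorem f316444 : Led Lsl_gt (LP (LK LD1_c10 LD2_c26 LD3_c30)) = (LP (LK LD1_c18 LD2_c19 LD3_c50)) :=
  Lgr Lrot5 (Lpr_ft (f185535 IH) (Lpe (f268025 IH) (Lpr_gf (f316437 IH) (Lpn (LP (LK LD1_c18 LD2_c19 LD3_c50))))))
theorem f185537 : Led Lsl_gt (LP (LK LD1_c18 LD2_c56 LD3_c17)) = (LP (LK LD1_c10 LD2_c26 LD3_c30)) :=
  Lre_g IH (LK LD1_c18 LD2_c56 LD3_c17) (LK LD1_c10 LD2_c26 LD3_c30) Lrfl Lrfl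
theorem f367242 : Led Lsl_ft (LP (LK LD1_c18 LD2_c56 LD3_c17)) = (LP (LK LD1_c18 LD2_c41 LD3_c27)) :=
  Lgr Lrot2 (Lpr_gt (f185537 IH) (Lpr_gt (f316444 IH) (Lpr_af (f367236 IH) (Lpn (LP (LK LD1_c18 LD2_c41 LD3_c27))))))
theorem f367248 : Led Lsl_ff (LP (LK LD1_c18 LD2_c56 LD3_c17)) = (LP (LK LD1_c18 LD2_c41 LD3_c27)) :=
  Lgr Lrot3 (Lpr_ft (f367242 IH) (Lpn (LP (LK LD1_c18 LD2_c41 LD3_c27))))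
theorem f230757 : Led Lsl_dt (LP (LK LD1_c10 LD2_c16 LD3_c37)) = (LP (LK LD1_c18 LD2_c41 LD3_c27)) :=
  Lre_d IH (LK LD1_c10 LD2_c16 LD3_c37) (LK LD1_c18 LD2_c41 LD3_c27) Lrfl Lrfl
theorem f367252 : Led Lsl_dt (LP (LK LD1_c18 LD2_c56 LD3_c17)) = (LP (LK LD1_c18 LD2_c41 LD3_c28)) :=
  Lgr Lrot60 (Lpr_ff (f367248 IH) (Lpe (f230757 IH) (Lpe (f230774 IH) (Lpn (LP (LK LD1_c18 LD2_c41 LD3_c28))))))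
theorem f316446 : Led Lsl_ct (LP (LK LD1_c27 LD2_c58 LD3_c35)) = (LP (LK LD1_c18 LD2_c19 LD3_c50)) :=
  Lre_c IH (LK LD1_c27 LD2_c58 LD3_c35) (LK LD1_c18 LD2_c19 LD3_c50) Lrfl Lrfl
theorem f366592 : Led Lsl_ft (LP (LK LD1_c10 LD2_c1 LD3_c50)) = (LP (LK LD1_c18 LD2_c19 LD3_c51)) :=
  Lre_f IH (LK LD1_c10 LD2_c1 LD3_c50) (LK LD1_c18 LD2_c19 LD3_c51) Lrfl Lrfl
theorem f367225 : Led Lsl_at (LP (LK LD1_c18 LD2_c19 LD3_c51)) = (LP (LK LD1_c18 LD2_c41 LD3_c28)) :=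
  Lgr Lrot66 (Lpe (f366592 IH) (Lpr_af (f367219 IH) (Lpe (f230774 IH) (Lpn (LP (LK LD1_c18 LD2_c41 LD3_c28))))))
theorem f316449 : Led Lsl_ct (LP (LK LD1_c18 LD2_c19 LD3_c50)) = (LP (LK LD1_c27 LD2_c58 LD3_c35)) :=
  Lre_c IH (LK LD1_c18 LD2_c19 LD3_c50) (LK LD1_c27 LD2_c58 LD3_c35) Lrfl Lrfl
theorem f367202 : Led Lsl_dt (LP (LK LD1_c15 LD2_c22 LD3_c19)) = (LP (LK LD1_c18 LD2_c5 LD3_c16)) :=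
  Lgr Lrot79 (Lpr_bf (K23.f317767 IH) (Lpr_df (f367200 IH) (Lpe (f250129 IH) (Lpn (LP (LK LD1_c18 LD2_c5 LD3_c16))))))
theorem f333592 : Led Lsl_ct (LP (LK LD1_c10 LD2_c36 LD3_c3)) = (LP (LK LD1_c15 LD2_c22 LD3_c19)) :=
  Lgr Lrot59 (Lpr_cf (K22.f333452 IH) (Lpn (LP (LK LD1_c15 LD2_c22 LD3_c19))))
theorem f333597 : Led Lsl_ct (LP (LK LD1_c28 LD2_c37 LD3_c51)) = (LP (LK LD1_c19 LD2_c11 LD3_c52)) :=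
  Lre_c IH (LK LD1_c28 LD2_c37 LD3_c51) (LK LD1_c19 LD2_c11 LD3_c52) Lrfl Lrfl
theorem f367229 : Led Lsl_dt (LP (LK LD1_c27 LD2_c58 LD3_c35)) = (LP (LK LD1_c28 LD2_c37 LD3_c51)) :=
  Lgr Lrot32 (Lpe (f316449 IH) (Lpe (f274845 IH) (Lpr_ft (f366592 IH) (Lpr_at (f367225 IH) (Lpe (f230770 IH) (Lpe (f367202 IH) (Lpe (f333592 IH) (Lpe (K26.f278541 IH) (Lpe (f333597 IH) (Lpn (LP (LK LD1_c28 LD2_c37 LD3_c51))))))))))))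
theorem f367231 : Led Lsl_df (LP (LK LD1_c27 LD2_c58 LD3_c35)) = (LP (LK LD1_c28 LD2_c37 LD3_c51)) :=
  Lgr Lrot38 (Lpr_dt (f367229 IH) (Lpn (LP (LK LD1_c28 LD2_c37 LD3_c51))))
theorem f333594 : Led Lsl_ct (LP (LK LD1_c19 LD2_c11 LD3_c52)) = (LP (LK LD1_c28 LD2_c37 LD3_c51)) :=
  Lre_c IH (LK LD1_c19 LD2_c11 LD3_c52) (LK LD1_c28 LD2_c37 LD3_c51) Lrfl Lrfl
theorem f367256 : Led Lsl_df (LP (LK LD1_c15 LD2_c22 LD3_c19)) = (LP (LK LD1_c18 LD2_c5 LD3_c16)) :=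
  Lgr Lrot106 (Lpe (K22.f333452 IH) (Lpr_dt (K23.f278540 IH) (Lpr_ct (f333594 IH) (Lpe (f367231 IH) (Lpr_ct (f316446 IH) (Lpr_af (f367236 IH) (Lpe (f367242 IH) (Lpr_dt (f367252 IH) (Lpe (f230761 IH) (Lpn (LP (LK LD1_c18 LD2_c5 LD3_c16))))))))))))
theorem f192973 : Led Lsl_et (LP (LK LD1_c8 LD2_c4 LD3_c9)) = (LP (LK LD1_c4 LD2_c1 LD3_c46)) :=
  Lre_e IH (LK LD1_c8 LD2_c4 LD3_c9) (LK LD1_c4 LD2_c1 LD3_c46) Lrfl Lrfl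
theorem f331482 : Led Lsl_gt (LP (LK LD1_c9 LD2_c40 LD3_c2)) = (LP (LK LD1_c9 LD2_c56 LD3_c52)) :=
  Lgr Lrot5 (Lpr_ft (K14.f192284 IH) (Lpe (K14.f252165 IH) (Lpr_gf (K22.f331480 IH) (Lpn (LP (LK LD1_c9 LD2_c56 LD3_c52))))))
theorem f367266 : Led Lsl_ef (LP (LK LD1_c9 LD2_c56 LD3_c52)) = (LP (LK LD1_c18 LD2_c5 LD3_c16)) :=
  Lgr Lrot17 (Lpe (f331482 IH) (Lpe (K16.f43423 IH) (Lpr_dt (K14.f43422 IH) (Lpr_gf (K10.f43413 IH) (Lpe (K9.f43385 IH) (Lpr_gf (K15.f192971 IH) (Lpe (f192973 IH) (Lpr_dt (K18.f260263 IH) (Lpe (K22.f244474 IH) (Lpr_df (f367256 IH) (Lpn (LP (LK LD1_c18 LD2_c5 LD3_c16)))))))))))))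
theorem f230773 : Led Lsl_ft (LP (LK LD1_c9 LD2_c52 LD3_c58)) = (LP (LK LD1_c18 LD2_c5 LD3_c16)) :=
  Lre_f IH (LK LD1_c9 LD2_c52 LD3_c58) (LK LD1_c18 LD2_c5 LD3_c16) Lrfl Lrfl
theorem f367274 : Led Lsl_ft (LP (LK LD1_c9 LD2_c56 LD3_c52)) = (LP (LK LD1_c9 LD2_c42 LD3_c4)) :=
  Lgr Lrot86 (Lpr_ef (f367266 IH) (Lpe (f230773 IH) (Lpe (K14.f230749 IH) (Lpe (f363919 IH) (Lpr_ef (K14.f251347 IH) (Lpn (LP (LK LD1_c9 LD2_c42 LD3_c4))))))))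
theorem f367280 : Led Lsl_ff (LP (LK LD1_c9 LD2_c56 LD3_c52)) = (LP (LK LD1_c9 LD2_c42 LD3_c4)) :=
  Lgr Lrot3 (Lpr_ft (f367274 IH) (Lpn (LP (LK LD1_c9 LD2_c42 LD3_c4))))
theorem f190924 : Led Lsl_gt (LP (LK LD1_c5 LD2_c8 LD3_c46)) = (LP (LK LD1_c10 LD2_c7 LD3_c56)) :=
  Lre_g IH (LK LD1_c5 LD2_c8 LD3_c46) (LK LD1_c10 LD2_c7 LD3_c56) Lrfl Lrfl
theorem f367286 : Led Lsl_at (LP (LK LD1_c9 LD2_c56 LD3_c52)) = (LP (LK LD1_c10 LD2_c7 LD3_c56)) :=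
  Lgr Lrot26 (Lpr_ff (f367280 IH) (Lpe (K14.f251596 IH) (Lpr_gt (f190924 IH) (Lpn (LP (LK LD1_c10 LD2_c7 LD3_c56))))))
theorem f367290 : Led Lsl_et (LP (LK LD1_c10 LD2_c7 LD3_c56)) = (LP (LK LD1_c18 LD2_c27 LD3_c19)) :=
  Lre_e IH (LK LD1_c10 LD2_c7 LD3_c56) (LK LD1_c18 LD2_c27 LD3_c19) Lrfl Lrfl
theorem f367291 : Led Lsl_af (LP (LK LD1_c18 LD2_c5 LD3_c16)) = (LP (LK LD1_c18 LD2_c27 LD3_c19)) :=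
  Lgr Lrot50 (Lpe (f367266 IH) (Lpr_at (f367286 IH) (Lpr_et (f367290 IH) (Lpn (LP (LK LD1_c18 LD2_c27 LD3_c19))))))
theorem f297749 : Led Lsl_ft (LP (LK LD1_c10 LD2_c24 LD3_c9)) = (LP (LK LD1_c18 LD2_c52 LD3_c31)) :=
  Lre_f IH (LK LD1_c10 LD2_c24 LD3_c9) (LK LD1_c18 LD2_c52 LD3_c31) Lrfl Lrfl
theorem f297750 : Led Lsl_at (LP (LK LD1_c18 LD2_c52 LD3_c31)) = (LP (LK LD1_c15 LD2_c22 LD3_c19)) :=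
  Lgr Lrot26 (Lpe (f297749 IH) (Lpr_gt (K18.f191762 IH) (Lpr_gt (K22.f297747 IH) (Lpn (LP (LK LD1_c15 LD2_c22 LD3_c19))))))
theorem f297752 : Led Lsl_af (LP (LK LD1_c18 LD2_c52 LD3_c31)) = (LP (LK LD1_c15 LD2_c22 LD3_c19)) :=
  Lgr Lrot0 (Lpr_at (f297750 IH) (Lpn (LP (LK LD1_c15 LD2_c22 LD3_c19))))
theorem f367297 : Led Lsl_dt (LP (LK LD1_c18 LD2_c52 LD3_c31)) = (LP (LK LD1_c18 LD2_c27 LD3_c19)) :=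
  Lgr Lrot44 (Lpr_af (f297752 IH) (Lpr_df (f367256 IH) (Lpr_af (f367291 IH) (Lpn (LP (LK LD1_c18 LD2_c27 LD3_c19))))))
theorem f367299 : Led Lsl_df (LP (LK LD1_c18 LD2_c52 LD3_c31)) = (LP (LK LD1_c18 LD2_c27 LD3_c19)) :=
  Lgr Lrot38 (Lpr_dt (f367297 IH) (Lpn (LP (LK LD1_c18 LD2_c27 LD3_c19))))
theorem f190925 : Led Lsl_et (LP (LK LD1_c18 LD2_c27 LD3_c19)) = (LP (LK LD1_c10 LD2_c7 LD3_c56)) :=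
  Lre_e IH (LK LD1_c18 LD2_c27 LD3_c19) (LK LD1_c10 LD2_c7 LD3_c56) Lrfl Lrfl
theorem f367301 : Led Lsl_gt (LP (LK LD1_c18 LD2_c52 LD3_c31)) = (LP (LK LD1_c10 LD2_c36 LD3_c18)) :=
  Lgr Lrot112 (Lpr_df (f367299 IH) (Lpr_et (f190925 IH) (Lpe (f190924 IH) (Lpe (K14.f190923 IH) (Lpr_dt (K14.f190311 IH) (Lpr_gf (K12.f190921 IH) (Lpe (K9.f43286 IH) (Lpr_gf (K9.f43811 IH) (Lpe (K16.f43813 IH) (Lpr_dt (K16.f274981 IH) (Lpn (LP (LK LD1_c10 LD2_c36 LD3_c18)))))))))))))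
theorem f191773 : Led Lsl_et (LP (LK LD1_c10 LD2_c24 LD3_c9)) = (LP (LK LD1_c5 LD2_c17 LD3_c17)) :=
  Lre_e IH (LK LD1_c10 LD2_c24 LD3_c9) (LK LD1_c5 LD2_c17 LD3_c17) Lrfl Lrfl
theorem f297756 : Led Lsl_ft (LP (LK LD1_c18 LD2_c52 LD3_c31)) = (LP (LK LD1_c10 LD2_c24 LD3_c9)) :=
  Lre_f IH (LK LD1_c18 LD2_c52 LD3_c31) (LK LD1_c10 LD2_c24 LD3_c9) Lrfl Lrfl
theorem f364178 : Led Lsl_ef (LP (LK LD1_c18 LD2_c52 LD3_c31)) = (LP (LK LD1_c17 LD2_c35 LD3_c41)) :=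
  Lgr Lrot21 (Lpr_ft (f297756 IH) (Lpr_et (f191773 IH) (Lpr_ft (K26.f364172 IH) (Lpr_et (K24.f27712 IH) (Lpr_ft (K23.f223228 IH) (Lpn (LP (LK LD1_c17 LD2_c35 LD3_c41))))))))
theorem f336158 : Led Lsl_dt (LP (LK LD1_c18 LD2_c34 LD3_c36)) = (LP (LK LD1_c10 LD2_c11 LD3_c50)) :=
  Lre_d IH (LK LD1_c18 LD2_c34 LD3_c36) (LK LD1_c10 LD2_c11 LD3_c50) Lrfl Lrfl
theorem f359121 : Led Lsl_bt (LP (LK LD1_c10 LD2_c11 LD3_c52)) = (LP (LK LD1_c18 LD2_c34 LD3_c36)) :=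
  Lre_b IH (LK LD1_c10 LD2_c11 LD3_c52) (LK LD1_c18 LD2_c34 LD3_c36) Lrfl Lrfl
theorem f359122 : Led Lsl_bt (LP (LK LD1_c17 LD2_c42 LD3_c8)) = (LP (LK LD1_c9 LD2_c36 LD3_c48)) :=
  Lre_b IH (LK LD1_c17 LD2_c42 LD3_c8) (LK LD1_c9 LD2_c36 LD3_c48) Lrfl Lrfl
theorem f359123 : Led Lsl_et (LP (LK LD1_c18 LD2_c34 LD3_c36)) = (LP (LK LD1_c17 LD2_c42 LD3_c8)) :=
  Lgr Lrot74 (Lpe (f359121 IH) (Lpr_ef (K26.f359119 IH) (Lpe (f359122 IH) (Lpn (LP (LK LD1_c17 LD2_c42 LD3_c8))))))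
theorem f357483 : Led Lsl_df (LP (LK LD1_c16 LD2_c41 LD3_c1)) = (LP (LK LD1_c10 LD2_c41 LD3_c2)) :=
  Lgr Lrot38 (Lpr_dt (K25.f357479 IH) (Lpn (LP (LK LD1_c10 LD2_c41 LD3_c2))))
theorem f367306 : Led Lsl_gf (LP (LK LD1_c15 LD2_c51 LD3_c44)) = (LP (LK LD1_c16 LD2_c41 LD3_c1)) :=
  Lgr Lrot145 (Lpe (K23.f223229 IH) (Lpe (f364178 IH) (Lpr_gt (f367301 IH) (Lpe (K16.f274977 IH) (Lpe (K22.f336163 IH) (Lpe (f336158 IH) (Lpr_et (f359123 IH) (Lpr_gt (K26.f361289 IH) (Lpe (K26.f357485 IH) (Lpe (f357483 IH) (Lpn (LP (LK LD1_c16 LD2_c41 LD3_c1)))))))))))))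
theorem f221465 : Led Lsl_ct (LP (LK LD1_c8 LD2_c27 LD3_c1)) = (LP (LK LD1_c15 LD2_c51 LD3_c51)) :=
  Lre_c IH (LK LD1_c8 LD2_c27 LD3_c1) (LK LD1_c15 LD2_c51 LD3_c51) Lrfl Lrfl
theorem f367312 : Led Lsl_gt (LP (LK LD1_c15 LD2_c51 LD3_c51)) = (LP (LK LD1_c16 LD2_c46 LD3_c28)) :=
  Lgr Lrot65 (Lpe (f221465 IH) (Lpr_bt (K23.f221454 IH) (Lpr_gf (f367306 IH) (Lpr_bf (K25.f357475 IH) (Lpe (K26.f358327 IH) (Lpe (K25.f310526 IH) (Lpe (K26.f194586 IH) (Lpe (K19.f194483 IH) (Lpr_bf (K24.f348628 IH) (Lpr_ct (K24.f263047 IH) (Lpn (LP (LK LD1_c16 LD2_c46 LD3_c28)))))))))))))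
theorem f367317 : Led Lsl_gf (LP (LK LD1_c8 LD2_c27 LD3_c1)) = (LP (LK LD1_c9 LD2_c42 LD3_c27)) :=
  Lgr Lrot181 (Lpr_ct (f221465 IH) (Lpr_gt (f367312 IH) (Lpe (K24.f263047 IH) (Lpe (K24.f348628 IH) (Lpr_gt (K19.f194483 IH) (Lpe (K25.f194467 IH) (Lpr_ct (K26.f318210 IH) (Lpr_gt (K25.f318227 IH) (Lpe (K25.f318230 IH) (Lpe (K25.f352618 IH) (Lpn (LP (LK LD1_c9 LD2_c42 LD3_c27)))))))))))))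
theorem f217514 : Led Lsl_ft (LP (LK LD1_c4 LD2_c55 LD3_c26)) = (LP (LK LD1_c9 LD2_c42 LD3_c29)) :=
  Lre_f IH (LK LD1_c4 LD2_c55 LD3_c26) (LK LD1_c9 LD2_c42 LD3_c29) Lrfl Lrfl
theorem f367319 : Led Lsl_af (LP (LK LD1_c8 LD2_c27 LD3_c1)) = (LP (LK LD1_c9 LD2_c42 LD3_c29)) :=
  Lgr Lrot31 (Lpr_gf (f367317 IH) (Lpe (K23.f217517 IH) (Lpr_ft (f217514 IH) (Lpn (LP (LK LD1_c9 LD2_c42 LD3_c29))))))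
theorem f264462 : Led Lsl_gt (LP (LK LD1_c8 LD2_c57 LD3_c58)) = (LP (LK LD1_c16 LD2_c46 LD3_c49)) :=
  Lre_g IH (LK LD1_c8 LD2_c57 LD3_c58) (LK LD1_c16 LD2_c46 LD3_c49) Lrfl Lrfl
theorem f361790 : Led Lsl_ft (LP (LK LD1_c8 LD2_c26 LD3_c59)) = (LP (LK LD1_c15 LD2_c51 LD3_c51)) :=
  Lre_f IH (LK LD1_c8 LD2_c26 LD3_c59) (LK LD1_c15 LD2_c51 LD3_c51) Lrfl Lrfl
theorem f361791 : Led Lsl_af (LP (LK LD1_c16 LD2_c46 LD3_c49)) = (LP (LK LD1_c15 LD2_c51 LD3_c51)) :=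
  Lgr Lrot31 (Lpe (f264462 IH) (Lpr_gf (K26.f361788 IH) (Lpr_ft (f361790 IH) (Lpn (LP (LK LD1_c15 LD2_c51 LD3_c51))))))
theorem f367328 : Led Lsl_ct (LP (LK LD1_c16 LD2_c46 LD3_c49)) = (LP (LK LD1_c9 LD2_c42 LD3_c29)) :=
  Lgr Lrot111 (Lpr_af (f361791 IH) (Lpe (f221465 IH) (Lpr_af (f367319 IH) (Lpn (LP (LK LD1_c9 LD2_c42 LD3_c29))))))
theorem f264461 : Led Lsl_ct (LP (LK LD1_c4 LD2_c29 LD3_c53)) = (LP (LK LD1_c8 LD2_c57 LD3_c58)) :=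
  Lre_c IH (LK LD1_c4 LD2_c29 LD3_c53) (LK LD1_c8 LD2_c57 LD3_c58) Lrfl Lrfl
theorem f258717 : Led Lsl_ct (LP (LK LD1_c6 LD2_c5 LD3_c33)) = (LP (LK LD1_c11 LD2_c54 LD3_c43)) :=
  Lre_c IH (LK LD1_c6 LD2_c5 LD3_c33) (LK LD1_c11 LD2_c54 LD3_c43) Lrfl Lrfl
theorem f217524 : Led Lsl_ct (LP (LK LD1_c18 LD2_c52 LD3_c28)) = (LP (LK LD1_c10 LD2_c24 LD3_c8)) :=
  Lre_c IH (LK LD1_c18 LD2_c52 LD3_c28) (LK LD1_c10 LD2_c24 LD3_c8) Lrfl Lrfl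
theorem f367337 : Led Lsl_gt (LP (LK LD1_c11 LD2_c54 LD3_c43)) = (LP (LK LD1_c18 LD2_c52 LD3_c28)) :=
  Lgr Lrot150 (Lpe (f258717 IH) (Lpe (K22.f258698 IH) (Lpe (K17.f264454 IH) (Lpr_gt (K20.f264458 IH) (Lpr_ct (f264461 IH) (Lpr_gt (f264462 IH) (Lpr_ct (f367328 IH) (Lpr_df (K15.f217512 IH) (Lpe (f217524 IH) (Lpn (LP (LK LD1_c18 LD2_c52 LD3_c28))))))))))))
theorem f353964 : Led Lsl_bt (LP (LK LD1_c6 LD2_c5 LD3_c33)) = (LP (LK LD1_c9 LD2_c37 LD3_c39)) :=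
  Lgr Lrot127 (Lpr_bf (K25.f353953 IH) (Lpn (LP (LK LD1_c9 LD2_c37 LD3_c39))))
theorem f196779 : Led Lsl_ct (LP (LK LD1_c6 LD2_c4 LD3_c37)) = (LP (LK LD1_c11 LD2_c52 LD3_c45)) :=
  Lre_c IH (LK LD1_c6 LD2_c4 LD3_c37) (LK LD1_c11 LD2_c52 LD3_c45) Lrfl Lrfl
theorem f340079 : Led Lsl_at (LP (LK LD1_c20 LD2_c55 LD3_c56)) = (LP (LK LD1_c19 LD2_c58 LD3_c17)) :=
  Lgr Lrot100 (Lpr_af (K26.f340069 IH) (Lpn (LP (LK LD1_c19 LD2_c58 LD3_c17))))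
theorem f340081 : Led Lsl_af (LP (LK LD1_c11 LD2_c52 LD3_c45)) = (LP (LK LD1_c11 LD2_c52 LD3_c41)) :=
  Lgr Lrot45 (Lpr_ft (K19.f312362 IH) (Lpr_at (f340079 IH) (Lpr_ft (K23.f340057 IH) (Lpn (LP (LK LD1_c11 LD2_c52 LD3_c41))))))
theorem f357586 : Led Lsl_gf (LP (LK LD1_c11 LD2_c52 LD3_c45)) = (LP (LK LD1_c15 LD2_c28 LD3_c12)) :=
  Lgr Lrot76 (Lpr_af (f340081 IH) (Lpe (K23.f340057 IH) (Lpr_gt (K26.f357584 IH) (Lpn (LP (LK LD1_c15 LD2_c28 LD3_c12))))))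
theorem f217532 : Led Lsl_ct (LP (LK LD1_c10 LD2_c24 LD3_c8)) = (LP (LK LD1_c18 LD2_c52 LD3_c28)) :=
  Lre_c IH (LK LD1_c10 LD2_c24 LD3_c8) (LK LD1_c18 LD2_c52 LD3_c28) Lrfl Lrfl
theorem f367343 : Led Lsl_gf (LP (LK LD1_c8 LD2_c13 LD3_c26)) = (LP (LK LD1_c9 LD2_c42 LD3_c45)) :=
  Lgr Lrot181 (Lpr_ct (K26.f187404 IH) (Lpe (f357586 IH) (Lpe (f196779 IH) (Lpr_bt (K25.f253011 IH) (Lpr_gt (K19.f310555 IH) (Lpe (f353964 IH) (Lpr_ct (f258717 IH) (Lpr_gt (f367337 IH) (Lpe (f217532 IH) (Lpe (K15.f217530 IH) (Lpn (LP (LK LD1_c9 LD2_c42 LD3_c45)))))))))))))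
theorem f178225 : Led Lsl_et (LP (LK LD1_c5 LD2_c36 LD3_c54)) = (LP (LK LD1_c2 LD2_c44 LD3_c18)) :=
  Lre_e IH (LK LD1_c5 LD2_c36 LD3_c54) (LK LD1_c2 LD2_c44 LD3_c18) Lrfl Lrfl
theorem f321280 : Led Lsl_ff (LP (LK LD1_c2 LD2_c25 LD3_c10)) = (LP (LK LD1_c1 LD2_c9 LD3_c55)) :=
  Lgr Lrot19 (Lpr_dt (K12.f55103 IH) (Lpr_ft (K20.f321274 IH) (Lpr_dt (K15.f216289 IH) (Lpn (LP (LK LD1_c1 LD2_c9 LD3_c55))))))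
theorem f250398 : Led Lsl_et (LP (LK LD1_c2 LD2_c25 LD3_c22)) = (LP (LK LD1_c1 LD2_c9 LD3_c55)) :=
  Lre_e IH (LK LD1_c2 LD2_c25 LD3_c22) (LK LD1_c1 LD2_c9 LD3_c55) Lrfl Lrfl
theorem f331022 : Led Lsl_ft (LP (LK LD1_c4 LD2_c55 LD3_c1)) = (LP (LK LD1_c2 LD2_c25 LD3_c22)) :=
  Lre_f IH (LK LD1_c4 LD2_c55 LD3_c1) (LK LD1_c2 LD2_c25 LD3_c22) Lrfl Lrfl
theorem f331023 : Led Lsl_ef (LP (LK LD1_c4 LD2_c55 LD3_c1)) = (LP (LK LD1_c9 LD2_c1 LD3_c13)) :=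
  Lgr Lrot21 (Lpr_ft (f331022 IH) (Lpr_et (f250398 IH) (Lpe (f321280 IH) (Lpr_et (K16.f55104 IH) (Lpr_ft (K21.f331014 IH) (Lpn (LP (LK LD1_c9 LD2_c1 LD3_c13))))))))
theorem f217521 : Led Lsl_dt (LP (LK LD1_c4 LD2_c55 LD3_c33)) = (LP (LK LD1_c9 LD2_c42 LD3_c45)) :=
  Lre_d IH (LK LD1_c4 LD2_c55 LD3_c33) (LK LD1_c9 LD2_c42 LD3_c45) Lrfl Lrfl
theorem f367351 : Led Lsl_gt (LP (LK LD1_c9 LD2_c40 LD3_c49)) = (LP (LK LD1_c4 LD2_c55 LD3_c33)) :=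
  Lgr Lrot137 (Lpe (K26.f310880 IH) (Lpr_dt (K26.f310879 IH) (Lpe (K26.f363557 IH) (Lpe (K26.f329447 IH) (Lpe (f331023 IH) (Lpr_gf (K25.f351922 IH) (Lpe (f178225 IH) (Lpe (K25.f351894 IH) (Lpr_gf (f367343 IH) (Lpe (f217521 IH) (Lpn (LP (LK LD1_c4 LD2_c55 LD3_c33)))))))))))))
theorem f367360 : Led Lsl_et (LP (LK LD1_c9 LD2_c40 LD3_c46)) = (LP (LK LD1_c4 LD2_c55 LD3_c33)) :=
  Lgr Lrot122 (Lpr_dt (K26.f259611 IH) (Lpe (K26.f363941 IH) (Lpe (K19.f307073 IH) (Lpr_et (K19.f307065 IH) (Lpr_gt (K21.f307066 IH) (Lpr_dt (K26.f329447 IH) (Lpr_gt (K26.f363557 IH) (Lpe (K26.f310879 IH) (Lpr_et (K26.f310880 IH) (Lpr_gt (f367351 IH) (Lpn (LP (LK LD1_c4 LD2_c55 LD3_c33)))))))))))))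
theorem f364300 : Led Lsl_ct (LP (LK LD1_c4 LD2_c55 LD3_c33)) = (LP (LK LD1_c9 LD2_c42 LD3_c39)) :=
  Lre_c IH (LK LD1_c4 LD2_c55 LD3_c33) (LK LD1_c9 LD2_c42 LD3_c39) Lrfl Lrfl
theorem f367364 : Led Lsl_ef (LP (LK LD1_c17 LD2_c48 LD3_c19)) = (LP (LK LD1_c9 LD2_c42 LD3_c39)) :=
  Lgr Lrot28 (Lpr_ct (K26.f201153 IH) (Lpr_et (f367360 IH) (Lpr_ct (f364300 IH) (Lpn (LP (LK LD1_c9 LD2_c42 LD3_c39))))))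
theorem f363954 : Led Lsl_ft (LP (LK LD1_c17 LD2_c48 LD3_c19)) = (LP (LK LD1_c9 LD2_c40 LD3_c44)) :=
  Lre_f IH (LK LD1_c17 LD2_c48 LD3_c19) (LK LD1_c9 LD2_c40 LD3_c44) Lrfl Lrfl
theorem f201198 : Led Lsl_et (LP (LK LD1_c9 LD2_c40 LD3_c44)) = (LP (LK LD1_c4 LD2_c54 LD3_c34)) :=
  Lre_e IH (LK LD1_c9 LD2_c40 LD3_c44) (LK LD1_c4 LD2_c54 LD3_c34) Lrfl Lrfl
theorem f367376 : Led Lsl_ft (LP (LK LD1_c4 LD2_c55 LD3_c29)) = (LP (LK LD1_c9 LD2_c42 LD3_c39)) :=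
  Lre_f IH (LK LD1_c4 LD2_c55 LD3_c29) (LK LD1_c9 LD2_c42 LD3_c39) Lrfl Lrfl
theorem f264028 : Led Lsl_et (LP (LK LD1_c2 LD2_c25 LD3_c36)) = (LP (LK LD1_c4 LD2_c55 LD3_c29)) :=
  Lre_e IH (LK LD1_c2 LD2_c25 LD3_c36) (LK LD1_c4 LD2_c55 LD3_c29) Lrfl Lrfl
theorem f367377 : Led Lsl_ft (LP (LK LD1_c4 LD2_c54 LD3_c34)) = (LP (LK LD1_c2 LD2_c25 LD3_c36)) :=
  Lgr Lrot86 (Lpe (f201198 IH) (Lpe (f363954 IH) (Lpr_ef (f367364 IH) (Lpe (f367376 IH) (Lpe (f264028 IH) (Lpn (LP (LK LD1_c2 LD2_c25 LD3_c36))))))))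
theorem f367386 : Led Lsl_af (LP (LK LD1_c4 LD2_c54 LD3_c36)) = (LP (LK LD1_c2 LD2_c25 LD3_c36)) :=
  Lgr Lrot31 (Lpr_gf (K12.f218754 IH) (Lpr_gf (K12.f201187 IH) (Lpr_ft (f367377 IH) (Lpn (LP (LK LD1_c2 LD2_c25 LD3_c36))))))
theorem f263738 : Led Lsl_et (LP (LK LD1_c4 LD2_c54 LD3_c36)) = (LP (LK LD1_c9 LD2_c40 LD3_c48)) :=
  Lre_e IH (LK LD1_c4 LD2_c54 LD3_c36) (LK LD1_c9 LD2_c40 LD3_c48) Lrfl Lrfl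
theorem f367398 : Led Lsl_at (LP (LK LD1_c9 LD2_c40 LD3_c48)) = (LP (LK LD1_c4 LD2_c55 LD3_c29)) :=
  Lgr Lrot80 (Lpe (f263738 IH) (Lpr_af (f367386 IH) (Lpe (K25.f217457 IH) (Lpn (LP (LK LD1_c4 LD2_c55 LD3_c29))))))
theorem f367408 : Led Lsl_ft (LP (LK LD1_c17 LD2_c48 LD3_c24)) = (LP (LK LD1_c9 LD2_c40 LD3_c48)) :=
  Lre_f IH (LK LD1_c17 LD2_c48 LD3_c24) (LK LD1_c9 LD2_c40 LD3_c48) Lrfl Lrfl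
theorem f367411 : Led Lsl_gt (LP (LK LD1_c17 LD2_c48 LD3_c24)) = (LP (LK LD1_c9 LD2_c42 LD3_c37)) :=
  Lgr Lrot5 (Lpr_ft (f367408 IH) (Lpr_at (f367398 IH) (Lpe (K25.f341045 IH) (Lpn (LP (LK LD1_c9 LD2_c42 LD3_c37))))))
theorem f187380 : Led Lsl_ct (LP (LK LD1_c9 LD2_c40 LD3_c50)) = (LP (LK LD1_c17 LD2_c48 LD3_c24)) :=
  Lre_c IH (LK LD1_c9 LD2_c40 LD3_c50) (LK LD1_c17 LD2_c48 LD3_c24) Lrfl Lrfl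
theorem f187416 : Led Lsl_ft (LP (LK LD1_c16 LD2_c41 LD3_c3)) = (LP (LK LD1_c8 LD2_c55 LD3_c1)) :=
  Lre_f IH (LK LD1_c16 LD2_c41 LD3_c3) (LK LD1_c8 LD2_c55 LD3_c1) Lrfl Lrfl
theorem f187417 : Led Lsl_ft (LP (LK LD1_c8 LD2_c13 LD3_c12)) = (LP (LK LD1_c15 LD2_c27 LD3_c44)) :=
  Lre_f IH (LK LD1_c8 LD2_c13 LD3_c12) (LK LD1_c15 LD2_c27 LD3_c44) Lrfl Lrfl
theorem f187418 : Led Lsl_df (LP (LK LD1_c16 LD2_c41 LD3_c3)) = (LP (LK LD1_c15 LD2_c27 LD3_c44)) :=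
  Lgr Lrot78 (Lpr_ft (f187416 IH) (Lpr_dt (K12.f187395 IH) (Lpr_ft (f187417 IH) (Lpn (LP (LK LD1_c15 LD2_c27 LD3_c44))))))
theorem f187429 : Led Lsl_dt (LP (LK LD1_c16 LD2_c41 LD3_c3)) = (LP (LK LD1_c15 LD2_c27 LD3_c44)) :=
  Lgr Lrot42 (Lpr_df (f187418 IH) (Lpn (LP (LK LD1_c15 LD2_c27 LD3_c44))))
theorem f187379 : Led Lsl_bt (LP (LK LD1_c15 LD2_c27 LD3_c44)) = (LP (LK LD1_c8 LD2_c13 LD3_c27)) :=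
  Lre_b IH (LK LD1_c15 LD2_c27 LD3_c44) (LK LD1_c8 LD2_c13 LD3_c27) Lrfl Lrfl
theorem f187364 : Led Lsl_ft (LP (LK LD1_c9 LD2_c40 LD3_c50)) = (LP (LK LD1_c4 LD2_c54 LD3_c37)) :=
  Lre_f IH (LK LD1_c9 LD2_c40 LD3_c50) (LK LD1_c4 LD2_c54 LD3_c37) Lrfl Lrfl
theorem f187365 : Led Lsl_ft (LP (LK LD1_c4 LD2_c6 LD3_c25)) = (LP (LK LD1_c8 LD2_c13 LD3_c27)) :=
  Lre_f IH (LK LD1_c4 LD2_c6 LD3_c25) (LK LD1_c8 LD2_c13 LD3_c27) Lrfl Lrfl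
theorem f187366 : Led Lsl_df (LP (LK LD1_c9 LD2_c40 LD3_c50)) = (LP (LK LD1_c8 LD2_c13 LD3_c27)) :=
  Lgr Lrot78 (Lpr_ft (f187364 IH) (Lpr_dt (K12.f187351 IH) (Lpr_ft (f187365 IH) (Lpn (LP (LK LD1_c8 LD2_c13 LD3_c27))))))
theorem f187434 : Led Lsl_bf (LP (LK LD1_c16 LD2_c41 LD3_c3)) = (LP (LK LD1_c9 LD2_c40 LD3_c50)) :=
  Lgr Lrot93 (Lpr_dt (f187429 IH) (Lpr_bt (f187379 IH) (Lpe (f187366 IH) (Lpn (LP (LK LD1_c9 LD2_c40 LD3_c50))))))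
theorem f367417 : Led Lsl_gf (LP (LK LD1_c16 LD2_c41 LD3_c3)) = (LP (LK LD1_c15 LD2_c51 LD3_c43)) :=
  Lgr Lrot124 (Lpr_bf (f187434 IH) (Lpr_ct (f187380 IH) (Lpr_gt (f367411 IH) (Lpr_cf (K25.f347882 IH) (Lpr_bt (K25.f282497 IH) (Lpr_gt (K20.f264715 IH) (Lpr_ct (K15.f258836 IH) (Lpr_gt (K23.f266353 IH) (Lpe (K23.f258853 IH) (Lpe (K25.f295132 IH) (Lpn (LP (LK LD1_c15 LD2_c51 LD3_c43)))))))))))))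
theorem f273883 : Led Lsl_af (LP (LK LD1_c15 LD2_c24 LD3_c29)) = (LP (LK LD1_c9 LD2_c0 LD3_c59)) :=
  Lgr Lrot0 (Lpr_at (K16.f273881 IH) (Lpn (LP (LK LD1_c9 LD2_c0 LD3_c59))))
theorem f247056 : Led Lsl_ff (LP (LK LD1_c9 LD2_c0 LD3_c59)) = (LP (LK LD1_c15 LD2_c22 LD3_c56)) :=
  Lgr Lrot25 (Lpr_bt (K16.f212617 IH) (Lpr_ft (K14.f247052 IH) (Lpr_bt (K16.f247028 IH) (Lpn (LP (LK LD1_c15 LD2_c22 LD3_c56))))))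
theorem f348596 : Led Lsl_gt (LP (LK LD1_c15 LD2_c22 LD3_c56)) = (LP (LK LD1_c15 LD2_c51 LD3_c27)) :=
  Lgr Lrot5 (Lpe (f247056 IH) (Lpe (f273883 IH) (Lpr_gf (K25.f348594 IH) (Lpn (LP (LK LD1_c15 LD2_c51 LD3_c27))))))
theorem f168568 : Led Lsl_ft (LP (LK LD1_c4 LD2_c55 LD3_c16)) = (LP (LK LD1_c9 LD2_c42 LD3_c5)) :=
  Lre_f IH (LK LD1_c4 LD2_c55 LD3_c16) (LK LD1_c9 LD2_c42 LD3_c5) Lrfl Lrfl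
theorem f367278 : Led Lsl_df (LP (LK LD1_c9 LD2_c56 LD3_c52)) = (LP (LK LD1_c9 LD2_c42 LD3_c5)) :=
  Lgr Lrot78 (Lpr_ft (f367274 IH) (Lpr_dt (K14.f168573 IH) (Lpr_ft (f168568 IH) (Lpn (LP (LK LD1_c9 LD2_c42 LD3_c5))))))
theorem f367427 : Led Lsl_ef (LP (LK LD1_c16 LD2_c41 LD3_c3)) = (LP (LK LD1_c9 LD2_c42 LD3_c5)) :=
  Lgr Lrot17 (Lpr_gf (f367417 IH) (Lpe (K25.f223253 IH) (Lpr_dt (K25.f271002 IH) (Lpr_gf (K25.f336725 IH) (Lpe (K22.f336723 IH) (Lpe (f348596 IH) (Lpe (K16.f247039 IH) (Lpr_dt (K22.f247049 IH) (Lpr_gf (K22.f331480 IH) (Lpr_df (f367278 IH) (Lpn (LP (LK LD1_c9 LD2_c42 LD3_c5)))))))))))))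
theorem f367437 : Led Lsl_gt (LP (LK LD1_c16 LD2_c41 LD3_c3)) = (LP (LK LD1_c9 LD2_c43 LD3_c56)) :=
  Lgr Lrot137 (Lpr_ef (f367427 IH) (Lpe (f367278 IH) (Lpe (f331482 IH) (Lpe (K14.f192276 IH) (Lpr_et (K16.f192292 IH) (Lpe (K14.f183627 IH) (Lpe (K22.f192293 IH) (Lpr_dt (K25.f220782 IH) (Lpe (K26.f356834 IH) (Lpr_df (K26.f356838 IH) (Lpn (LP (LK LD1_c9 LD2_c43 LD3_c56)))))))))))))
theorem f168991 : Led Lsl_bt (LP (LK LD1_c9 LD2_c43 LD3_c56)) = (LP (LK LD1_c4 LD2_c56 LD3_c6)) :=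
  Lre_b IH (LK LD1_c9 LD2_c43 LD3_c56) (LK LD1_c4 LD2_c56 LD3_c6) Lrfl Lrfl
theorem f345190 : Led Lsl_df (LP (LK LD1_c9 LD2_c43 LD3_c56)) = (LP (LK LD1_c8 LD2_c28 LD3_c15)) :=
  Lgr Lrot12 (Lpr_bt (f168991 IH) (Lpr_dt (K23.f345187 IH) (Lpr_bt (K26.f345189 IH) (Lpn (LP (LK LD1_c8 LD2_c28 LD3_c15))))))
theorem f347126 : Led Lsl_et (LP (LK LD1_c8 LD2_c28 LD3_c15)) = (LP (LK LD1_c15 LD2_c28 LD3_c25)) :=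
  Lgr Lrot74 (Lpe (K26.f345189 IH) (Lpr_ef (K23.f347124 IH) (Lpe (K21.f325238 IH) (Lpn (LP (LK LD1_c15 LD2_c28 LD3_c25))))))
theorem f351528 : Led Lsl_gt (LP (LK LD1_c16 LD2_c13 LD3_c38)) = (LP (LK LD1_c9 LD2_c41 LD3_c4)) :=
  Lgr Lrot137 (Lpe (K22.f336734 IH) (Lpr_dt (K22.f336723 IH) (Lpr_gf (K25.f348592 IH) (Lpe (K25.f348556 IH) (Lpr_et (K25.f314759 IH) (Lpr_gf (K26.f348547 IH) (Lpr_ef (K25.f351520 IH) (Lpe (K10.f187279 IH) (Lpr_gf (K25.f339468 IH) (Lpe (K24.f216315 IH) (Lpn (LP (LK LD1_c9 LD2_c41 LD3_c4)))))))))))))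
theorem f367443 : Led Lsl_gf (LP (LK LD1_c15 LD2_c27 LD3_c44)) = (LP (LK LD1_c17 LD2_c35 LD3_c40)) :=
  Lgr Lrot138 (Lpe (f187418 IH) (Lpr_gt (f367437 IH) (Lpr_df (f345190 IH) (Lpr_et (f347126 IH) (Lpr_gt (K22.f336585 IH) (Lpr_ef (K22.f336736 IH) (Lpr_dt (K10.f191746 IH) (Lpr_gt (f351528 IH) (Lpr_df (K24.f216313 IH) (Lpe (K24.f216319 IH) (Lpn (LP (LK LD1_c17 LD2_c35 LD3_c40)))))))))))))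
theorem f367433 : Led Lsl_et (LP (LK LD1_c16 LD2_c41 LD3_c3)) = (LP (LK LD1_c9 LD2_c42 LD3_c5)) :=
  Lgr Lrot87 (Lpr_ef (f367427 IH) (Lpn (LP (LK LD1_c9 LD2_c42 LD3_c5))))
theorem f223935 : Led Lsl_df (LP (LK LD1_c17 LD2_c35 LD3_c40)) = (LP (LK LD1_c15 LD2_c24 LD3_c33)) :=
  Lgr Lrot38 (Lpr_dt (K24.f223933 IH) (Lpn (LP (LK LD1_c15 LD2_c24 LD3_c33))))
theorem f367453 : Led Lsl_gt (LP (LK LD1_c9 LD2_c42 LD3_c5)) = (LP (LK LD1_c15 LD2_c3 LD3_c22)) :=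
  Lgr Lrot137 (Lpe (f367433 IH) (Lpr_dt (f187429 IH) (Lpr_gf (f367443 IH) (Lpr_df (f223935 IH) (Lpr_et (K24.f223937 IH) (Lpr_gf (K24.f350689 IH) (Lpe (K24.f350677 IH) (Lpr_dt (K22.f251600 IH) (Lpe (K24.f350691 IH) (Lpe (K24.f246864 IH) (Lpn (LP (LK LD1_c15 LD2_c3 LD3_c22)))))))))))))
theorem f168579 : Led Lsl_bt (LP (LK LD1_c4 LD2_c55 LD3_c24)) = (LP (LK LD1_c9 LD2_c42 LD3_c5)) :=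
  Lre_b IH (LK LD1_c4 LD2_c55 LD3_c24) (LK LD1_c9 LD2_c42 LD3_c5) Lrfl Lrfl
theorem f168584 : Led Lsl_ct (LP (LK LD1_c4 LD2_c55 LD3_c24)) = (LP (LK LD1_c9 LD2_c42 LD3_c17)) :=
  Lre_c IH (LK LD1_c4 LD2_c55 LD3_c24) (LK LD1_c9 LD2_c42 LD3_c17) Lrfl Lrfl
theorem f367457 : Led Lsl_gf (LP (LK LD1_c9 LD2_c42 LD3_c17)) = (LP (LK LD1_c15 LD2_c19 LD3_c39)) :=
  Lgr Lrot126 (Lpe (f168584 IH) (Lpr_bt (f168579 IH) (Lpr_gt (f367453 IH) (Lpe (K24.f345945 IH) (Lpr_gt (K24.f242944 IH) (Lpe (K18.f242949 IH) (Lpr_bt (K24.f242947 IH) (Lpr_gt (K23.f227984 IH) (Lpe (K23.f345956 IH) (Lpr_ct (K26.f345957 IH) (Lpn (LP (LK LD1_c15 LD2_c19 LD3_c39)))))))))))))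
theorem f168580 : Led Lsl_ct (LP (LK LD1_c9 LD2_c42 LD3_c17)) = (LP (LK LD1_c4 LD2_c55 LD3_c24)) :=
  Lre_c IH (LK LD1_c9 LD2_c42 LD3_c17) (LK LD1_c4 LD2_c55 LD3_c24) Lrfl Lrfl
theorem f331492 : Led Lsl_dt (LP (LK LD1_c5 LD2_c23 LD3_c61)) = (LP (LK LD1_c10 LD2_c24 LD3_c54)) :=
  Lgr Lrot60 (Lpe (K20.f224806 IH) (Lpe (K19.f306496 IH) (Lpr_ff (K22.f331486 IH) (Lpn (LP (LK LD1_c10 LD2_c24 LD3_c54))))))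
theorem f257654 : Led Lsl_ct (LP (LK LD1_c9 LD2_c56 LD3_c53)) = (LP (LK LD1_c5 LD2_c2 LD3_c60)) :=
  Lre_c IH (LK LD1_c9 LD2_c56 LD3_c53) (LK LD1_c5 LD2_c2 LD3_c60) Lrfl Lrfl
theorem f367463 : Led Lsl_df (LP (LK LD1_c4 LD2_c55 LD3_c24)) = (LP (LK LD1_c5 LD2_c2 LD3_c60)) :=
  Lgr Lrot162 (Lpe (f168580 IH) (Lpr_gf (f367457 IH) (Lpe (K26.f345957 IH) (Lpr_gf (K23.f346036 IH) (Lpr_dt (f331492 IH) (Lpe (K22.f291278 IH) (Lpr_ct (K22.f266174 IH) (Lpe (K22.f266171 IH) (Lpr_ct (f257654 IH) (Lpn (LP (LK LD1_c5 LD2_c2 LD3_c60))))))))))))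
theorem f367466 : Led Lsl_gt (LP (LK LD1_c4 LD2_c55 LD3_c24)) = (LP (LK LD1_c9 LD2_c40 LD3_c45)) :=
  Lgr Lrot139 (Lpr_df (f367463 IH) (Lpe (K18.f192152 IH) (Lpe (K15.f192135 IH) (Lpr_dt (K12.f169858 IH) (Lpe (K10.f28372 IH) (Lpe (K12.f192556 IH) (Lpr_et (K13.f192555 IH) (Lpr_gf (K15.f214553 IH) (Lpe (K15.f184886 IH) (Lpe (K15.f259602 IH) (Lpn (LP (LK LD1_c9 LD2_c40 LD3_c45)))))))))))))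
theorem f187390 : Led Lsl_bt (LP (LK LD1_c8 LD2_c13 LD3_c27)) = (LP (LK LD1_c15 LD2_c27 LD3_c44)) :=
  Lre_b IH (LK LD1_c8 LD2_c13 LD3_c27) (LK LD1_c15 LD2_c27 LD3_c44) Lrfl Lrfl
theorem f187384 : Led Lsl_dt (LP (LK LD1_c9 LD2_c40 LD3_c50)) = (LP (LK LD1_c8 LD2_c13 LD3_c27)) :=
  Lgr Lrot42 (Lpr_df (f187366 IH) (Lpn (LP (LK LD1_c8 LD2_c13 LD3_c27))))
theorem f187425 : Led Lsl_bt (LP (LK LD1_c16 LD2_c41 LD3_c3)) = (LP (LK LD1_c9 LD2_c40 LD3_c50)) :=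
  Lgr Lrot95 (Lpr_df (f187418 IH) (Lpe (f187390 IH) (Lpe (f187384 IH) (Lpn (LP (LK LD1_c9 LD2_c40 LD3_c50))))))
theorem f367429 : Led Lsl_et (LP (LK LD1_c9 LD2_c40 LD3_c50)) = (LP (LK LD1_c4 LD2_c55 LD3_c24)) :=
  Lgr Lrot74 (Lpe (f187425 IH) (Lpr_ef (f367427 IH) (Lpe (f168579 IH) (Lpn (LP (LK LD1_c4 LD2_c55 LD3_c24))))))
theorem f284052 : Led Lsl_dt (LP (LK LD1_c15 LD2_c24 LD3_c42)) = (LP (LK LD1_c9 LD2_c57 LD3_c42)) :=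
  Lgr Lrot42 (Lpr_df (K17.f284035 IH) (Lpn (LP (LK LD1_c9 LD2_c57 LD3_c42))))
theorem f358612 : Led Lsl_gt (LP (LK LD1_c15 LD2_c25 LD3_c61)) = (LP (LK LD1_c11 LD2_c57 LD3_c12)) :=
  Lgr Lrot137 (Lpe (K17.f284054 IH) (Lpr_dt (f284052 IH) (Lpr_gf (K25.f330795 IH) (Lpe (K26.f259605 IH) (Lpr_et (K15.f259601 IH) (Lpr_gf (K26.f307311 IH) (Lpe (K19.f247665 IH) (Lpr_dt (K26.f55272 IH) (Lpr_gf (K26.f358588 IH) (Lpr_df (K26.f169029 IH) (Lpn (LP (LK LD1_c11 LD2_c57 LD3_c12)))))))))))))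
theorem f367474 : Led Lsl_gf (LP (LK LD1_c8 LD2_c13 LD3_c27)) = (LP (LK LD1_c6 LD2_c7 LD3_c7)) :=
  Lgr Lrot145 (Lpe (f187384 IH) (Lpr_et (f367429 IH) (Lpr_gt (f367466 IH) (Lpr_dt (K26.f259605 IH) (Lpe (K25.f330795 IH) (Lpe (f284052 IH) (Lpr_et (K17.f284054 IH) (Lpr_gt (f358612 IH) (Lpe (K26.f169034 IH) (Lpr_dt (K26.f169014 IH) (Lpn (LP (LK LD1_c6 LD2_c7 LD3_c7)))))))))))))
theorem f367480 : Led Lsl_gt (LP (LK LD1_c9 LD2_c40 LD3_c50)) = (LP (LK LD1_c4 LD2_c55 LD3_c31)) :=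
  Lgr Lrot139 (Lpr_df (f187366 IH) (Lpr_gf (f367474 IH) (Lpe (K26.f169023 IH) (Lpr_dt (K24.f167890 IH) (Lpe (K26.f167900 IH) (Lpe (K26.f358626 IH) (Lpe (K21.f325178 IH) (Lpr_gf (K26.f324998 IH) (Lpe (K26.f358514 IH) (Lpr_dt (K26.f358518 IH) (Lpn (LP (LK LD1_c4 LD2_c55 LD3_c31)))))))))))))
theorem f305880 : Led Lsl_ft (LP (LK LD1_c4 LD2_c19 LD3_c25)) = (LP (LK LD1_c8 LD2_c36 LD3_c12)) :=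
  Lgr Lrot48 (Lpr_ff (K19.f305872 IH) (Lpn (LP (LK LD1_c8 LD2_c36 LD3_c12))))
theorem f254081 : Led Lsl_at (LP (LK LD1_c8 LD2_c37 LD3_c35)) = (LP (LK LD1_c15 LD2_c1 LD3_c26)) :=
  Lgr Lrot100 (Lpr_af (K14.f254069 IH) (Lpn (LP (LK LD1_c15 LD2_c1 LD3_c26))))
theorem f305864 : Led Lsl_af (LP (LK LD1_c4 LD2_c19 LD3_c40)) = (LP (LK LD1_c8 LD2_c36 LD3_c12)) :=
  Lgr Lrot117 (Lpr_dt (K21.f254075 IH) (Lpr_at (f254081 IH) (Lpr_dt (K19.f305862 IH) (Lpn (LP (LK LD1_c8 LD2_c36 LD3_c12))))))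
theorem f329463 : Led Lsl_gf (LP (LK LD1_c4 LD2_c19 LD3_c40)) = (LP (LK LD1_c8 LD2_c36 LD3_c13)) :=
  Lgr Lrot76 (Lpr_af (f305864 IH) (Lpe (f305880 IH) (Lpr_gt (K21.f329461 IH) (Lpn (LP (LK LD1_c8 LD2_c36 LD3_c13))))))
theorem f367488 : Led Lsl_et (LP (LK LD1_c8 LD2_c13 LD3_c27)) = (LP (LK LD1_c11 LD2_c5 LD3_c3)) :=
  Lgr Lrot122 (Lpe (f187366 IH) (Lpr_gt (f367480 IH) (Lpe (K26.f358518 IH) (Lpr_et (K26.f358514 IH) (Lpe (K26.f324998 IH) (Lpr_dt (K21.f251697 IH) (Lpe (f329463 IH) (Lpe (K18.f254073 IH) (Lpr_et (K18.f301683 IH) (Lpr_gt (K20.f253664 IH) (Lpn (LP (LK LD1_c11 LD2_c5 LD3_c3)))))))))))))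
theorem f367494 : Led Lsl_ef (LP (LK LD1_c8 LD2_c13 LD3_c27)) = (LP (LK LD1_c11 LD2_c5 LD3_c3)) :=
  Lgr Lrot88 (Lpr_et (f367488 IH) (Lpn (LP (LK LD1_c11 LD2_c5 LD3_c3))))
theorem f367204 : Led Lsl_dt (LP (LK LD1_c11 LD2_c5 LD3_c3)) = (LP (LK LD1_c9 LD2_c54 LD3_c56)) :=
  Lgr Lrot42 (Lpr_df (f367200 IH) (Lpn (LP (LK LD1_c9 LD2_c54 LD3_c56))))
theorem f363435 : Led Lsl_et (LP (LK LD1_c7 LD2_c58 LD3_c25)) = (LP (LK LD1_c15 LD2_c1 LD3_c2)) :=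
  Lgr Lrot71 (Lpr_df (K26.f363431 IH) (Lpr_ef (K26.f360477 IH) (Lpr_df (K16.f278309 IH) (Lpe (K26.f359724 IH) (Lpr_df (K26.f360463 IH) (Lpn (LP (LK LD1_c15 LD2_c1 LD3_c2))))))))
theorem f367500 : Led Lsl_gt (LP (LK LD1_c8 LD2_c13 LD3_c27)) = (LP (LK LD1_c9 LD2_c42 LD3_c43)) :=
  Lgr Lrot137 (Lpr_ef (f367494 IH) (Lpr_dt (f367204 IH) (Lpe (f367211 IH) (Lpr_df (K19.f312405 IH) (Lpr_et (K19.f266883 IH) (Lpr_gf (K26.f360469 IH) (Lpe (f363435 IH) (Lpr_dt (K26.f363433 IH) (Lpr_gf (K26.f360489 IH) (Lpr_df (K25.f291805 IH) (Lpn (LP (LK LD1_c9 LD2_c42 LD3_c43)))))))))))))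
theorem f187387 : Led Lsl_ft (LP (LK LD1_c8 LD2_c13 LD3_c27)) = (LP (LK LD1_c4 LD2_c6 LD3_c25)) :=
  Lre_f IH (LK LD1_c8 LD2_c13 LD3_c27) (LK LD1_c4 LD2_c6 LD3_c25) Lrfl Lrfl
theorem f367502 : Led Lsl_at (LP (LK LD1_c4 LD2_c6 LD3_c25)) = (LP (LK LD1_c4 LD2_c55 LD3_c32)) :=
  Lgr Lrot26 (Lpe (f187387 IH) (Lpr_gt (f367500 IH) (Lpr_gt (K25.f217556 IH) (Lpn (LP (LK LD1_c4 LD2_c55 LD3_c32))))))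
theorem f364283 : Led Lsl_at (LP (LK LD1_c5 LD2_c17 LD3_c16)) = (LP (LK LD1_c8 LD2_c27 LD3_c0)) :=
  Lgr Lrot100 (Lpr_af (K26.f364281 IH) (Lpn (LP (LK LD1_c8 LD2_c27 LD3_c0))))
theorem f367529 : Led Lsl_af (LP (LK LD1_c8 LD2_c13 LD3_c12)) = (LP (LK LD1_c9 LD2_c33 LD3_c15)) :=
  Lgr Lrot36 (Lpr_bt (K12.f187394 IH) (Lpr_at (f367502 IH) (Lpr_bt (K15.f217536 IH) (Lpr_at (f364283 IH) (Lpe (K23.f223242 IH) (Lpn (LP (LK LD1_c9 LD2_c33 LD3_c15))))))))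
theorem f187410 : Led Lsl_df (LP (LK LD1_c8 LD2_c55 LD3_c1)) = (LP (LK LD1_c8 LD2_c13 LD3_c12)) :=
  Lgr Lrot38 (Lpr_dt (K12.f187395 IH) (Lpn (LP (LK LD1_c8 LD2_c13 LD3_c12))))
theorem f367531 : Led Lsl_at (LP (LK LD1_c8 LD2_c55 LD3_c1)) = (LP (LK LD1_c8 LD2_c26 LD3_c56)) :=
  Lgr Lrot51 (Lpr_df (f187410 IH) (Lpr_af (f367529 IH) (Lpr_df (K23.f223221 IH) (Lpn (LP (LK LD1_c8 LD2_c26 LD3_c56))))))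
theorem f367539 : Led Lsl_gt (LP (LK LD1_c9 LD2_c43 LD3_c56)) = (LP (LK LD1_c8 LD2_c26 LD3_c56)) :=
  Lgr Lrot46 (Lpe (f367437 IH) (Lpr_ft (f187416 IH) (Lpr_at (f367531 IH) (Lpn (LP (LK LD1_c8 LD2_c26 LD3_c56))))))
theorem f223409 : Led Lsl_bf (LP (LK LD1_c4 LD2_c28 LD3_c21)) = (LP (LK LD1_c8 LD2_c3 LD3_c2)) :=
  Lgr Lrot24 (Lpr_bt (K17.f223401 IH) (Lpn (LP (LK LD1_c8 LD2_c3 LD3_c2))))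
theorem f345511 : Led Lsl_et (LP (LK LD1_c5 LD2_c20 LD3_c53)) = (LP (LK LD1_c10 LD2_c31 LD3_c54)) :=
  Lre_e IH (LK LD1_c5 LD2_c20 LD3_c53) (LK LD1_c10 LD2_c31 LD3_c54) Lrfl Lrfl
theorem f345528 : Led Lsl_bf (LP (LK LD1_c5 LD2_c20 LD3_c53)) = (LP (LK LD1_c8 LD2_c52 LD3_c61)) :=
  Lgr Lrot96 (Lpr_et (f345511 IH) (Lpr_bt (K25.f345526 IH) (Lpr_et (K20.f278644 IH) (Lpn (LP (LK LD1_c8 LD2_c52 LD3_c61))))))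
theorem f345530 : Led Lsl_bt (LP (LK LD1_c5 LD2_c20 LD3_c53)) = (LP (LK LD1_c8 LD2_c52 LD3_c61)) :=
  Lgr Lrot127 (Lpr_bf (f345528 IH) (Lpn (LP (LK LD1_c8 LD2_c52 LD3_c61))))
theorem f42200 : Led Lsl_ct (LP (LK LD1_c5 LD2_c20 LD3_c53)) = (LP (LK LD1_c10 LD2_c31 LD3_c53)) :=
  Lre_c IH (LK LD1_c5 LD2_c20 LD3_c53) (LK LD1_c10 LD2_c31 LD3_c53) Lrfl Lrfl
theorem f356836 : Led Lsl_gf (LP (LK LD1_c10 LD2_c31 LD3_c53)) = (LP (LK LD1_c5 LD2_c20 LD3_c61)) :=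
  Lgr Lrot129 (Lpe (f42200 IH) (Lpr_bt (f345530 IH) (Lpe (K20.f265431 IH) (Lpr_bf (f223409 IH) (Lpr_ct (K17.f223413 IH) (Lpe (K26.f347149 IH) (Lpr_cf (K24.f347164 IH) (Lpr_bt (K26.f345189 IH) (Lpr_gt (K26.f356834 IH) (Lpr_ct (K22.f220788 IH) (Lpn (LP (LK LD1_c5 LD2_c20 LD3_c61)))))))))))))
theorem f318220 : Led Lsl_ct (LP (LK LD1_c10 LD2_c31 LD3_c53)) = (LP (LK LD1_c5 LD2_c20 LD3_c53)) :=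
  Lre_c IH (LK LD1_c10 LD2_c31 LD3_c53) (LK LD1_c5 LD2_c20 LD3_c53) Lrfl Lrfl
theorem f278650 : Led Lsl_ef (LP (LK LD1_c16 LD2_c4 LD3_c29)) = (LP (LK LD1_c8 LD2_c52 LD3_c61)) :=
  Lgr Lrot88 (Lpr_et (K20.f278644 IH) (Lpn (LP (LK LD1_c8 LD2_c52 LD3_c61))))
theorem f345557 : Led Lsl_dt (LP (LK LD1_c5 LD2_c20 LD3_c53)) = (LP (LK LD1_c8 LD2_c52 LD3_c61)) :=
  Lgr Lrot77 (Lpe (K24.f42265 IH) (Lpr_df (K25.f345509 IH) (Lpr_ef (K19.f307766 IH) (Lpe (K19.f247402 IH) (Lpr_ef (f278650 IH) (Lpn (LP (LK LD1_c8 LD2_c52 LD3_c61))))))))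
theorem f265433 : Led Lsl_ct (LP (LK LD1_c16 LD2_c36 LD3_c31)) = (LP (LK LD1_c8 LD2_c52 LD3_c61)) :=
  Lre_c IH (LK LD1_c16 LD2_c36 LD3_c31) (LK LD1_c8 LD2_c52 LD3_c61) Lrfl Lrfl
theorem f220867 : Led Lsl_et (LP (LK LD1_c4 LD2_c27 LD3_c37)) = (LP (LK LD1_c8 LD2_c53 LD3_c6)) :=
  Lre_e IH (LK LD1_c4 LD2_c27 LD3_c37) (LK LD1_c8 LD2_c53 LD3_c6) Lrfl Lrfl
theorem f220868 : Led Lsl_cf (LP (LK LD1_c8 LD2_c26 LD3_c56)) = (LP (LK LD1_c8 LD2_c53 LD3_c6)) :=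
  Lgr Lrot39 (Lpr_et (K25.f220866 IH) (Lpr_ct (K12.f220858 IH) (Lpr_et (f220867 IH) (Lpn (LP (LK LD1_c8 LD2_c53 LD3_c6))))))
theorem f221440 : Led Lsl_ct (LP (LK LD1_c8 LD2_c26 LD3_c56)) = (LP (LK LD1_c8 LD2_c53 LD3_c6)) :=
  Lgr Lrot59 (Lpr_cf (f220868 IH) (Lpn (LP (LK LD1_c8 LD2_c53 LD3_c6))))
theorem f367541 : Led Lsl_gf (LP (LK LD1_c16 LD2_c36 LD3_c31)) = (LP (LK LD1_c8 LD2_c53 LD3_c6)) :=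
  Lgr Lrot104 (Lpr_ct (f265433 IH) (Lpe (f345557 IH) (Lpe (f318220 IH) (Lpr_gf (f356836 IH) (Lpe (K22.f220788 IH) (Lpe (K26.f356834 IH) (Lpr_df (K26.f356838 IH) (Lpr_gt (f367539 IH) (Lpr_ct (f221440 IH) (Lpn (LP (LK LD1_c8 LD2_c53 LD3_c6))))))))))))
theorem f358521 : Led Lsl_ct (LP (LK LD1_c4 LD2_c55 LD3_c31)) = (LP (LK LD1_c9 LD2_c42 LD3_c42)) :=
  Lre_c IH (LK LD1_c4 LD2_c55 LD3_c31) (LK LD1_c9 LD2_c42 LD3_c42) Lrfl Lrfl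
theorem f291804 : Led Lsl_ct (LP (LK LD1_c9 LD2_c42 LD3_c43)) = (LP (LK LD1_c17 LD2_c51 LD3_c34)) :=
  Lre_c IH (LK LD1_c9 LD2_c42 LD3_c43) (LK LD1_c17 LD2_c51 LD3_c34) Lrfl Lrfl
theorem f353992 : Led Lsl_ct (LP (LK LD1_c15 LD2_c2 LD3_c30)) = (LP (LK LD1_c24 LD2_c51 LD3_c11)) :=
  Lre_c IH (LK LD1_c15 LD2_c2 LD3_c30) (LK LD1_c24 LD2_c51 LD3_c11) Lrfl Lrfl
theorem f301211 : Led Lsl_dt (LP (LK LD1_c24 LD2_c50 LD3_c29)) = (LP (LK LD1_c15 LD2_c2 LD3_c0)) :=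
  Lre_d IH (LK LD1_c24 LD2_c50 LD3_c29) (LK LD1_c15 LD2_c2 LD3_c0) Lrfl Lrfl
theorem f306647 : Led Lsl_ft (LP (LK LD1_c20 LD2_c5 LD3_c9)) = (LP (LK LD1_c24 LD2_c50 LD3_c29)) :=
  Lgr Lrot48 (Lpr_ff (K25.f306633 IH) (Lpn (LP (LK LD1_c24 LD2_c50 LD3_c29))))
theorem f306620 : Led Lsl_at (LP (LK LD1_c11 LD2_c10 LD3_c32)) = (LP (LK LD1_c20 LD2_c5 LD3_c9)) :=
  Lre_a IH (LK LD1_c11 LD2_c10 LD3_c32) (LK LD1_c20 LD2_c5 LD3_c9) Lrfl Lrfl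
theorem f301600 : Led Lsl_dt (LP (LK LD1_c9 LD2_c1 LD3_c17)) = (LP (LK LD1_c16 LD2_c51 LD3_c17)) :=
  Lre_d IH (LK LD1_c9 LD2_c1 LD3_c17) (LK LD1_c16 LD2_c51 LD3_c17) Lrfl Lrfl
theorem f305674 : Led Lsl_ff (LP (LK LD1_c11 LD2_c10 LD3_c32)) = (LP (LK LD1_c16 LD2_c51 LD3_c17)) :=
  Lgr Lrot19 (Lpr_dt (K25.f305673 IH) (Lpr_ft (K19.f305665 IH) (Lpr_dt (f301600 IH) (Lpn (LP (LK LD1_c16 LD2_c51 LD3_c17))))))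
theorem f306651 : Led Lsl_af (LP (LK LD1_c16 LD2_c51 LD3_c17)) = (LP (LK LD1_c24 LD2_c50 LD3_c29)) :=
  Lgr Lrot45 (Lpe (f305674 IH) (Lpr_at (f306620 IH) (Lpr_ft (f306647 IH) (Lpn (LP (LK LD1_c24 LD2_c50 LD3_c29))))))
theorem f306653 : Led Lsl_at (LP (LK LD1_c16 LD2_c51 LD3_c17)) = (LP (LK LD1_c24 LD2_c50 LD3_c29)) :=
  Lgr Lrot100 (Lpr_af (f306651 IH) (Lpn (LP (LK LD1_c24 LD2_c50 LD3_c29))))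
theorem f306673 : Led Lsl_ff (LP (LK LD1_c16 LD2_c51 LD3_c17)) = (LP (LK LD1_c11 LD2_c10 LD3_c32)) :=
  Lgr Lrot30 (Lpr_at (f306653 IH) (Lpe (K25.f306633 IH) (Lpr_at (K25.f306646 IH) (Lpn (LP (LK LD1_c11 LD2_c10 LD3_c32))))))
theorem f306675 : Led Lsl_gt (LP (LK LD1_c11 LD2_c10 LD3_c32)) = (LP (LK LD1_c20 LD2_c5 LD3_c14)) :=
  Lre_g IH (LK LD1_c11 LD2_c10 LD3_c32) (LK LD1_c20 LD2_c5 LD3_c14) Lrfl Lrfl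
theorem f306676 : Led Lsl_gt (LP (LK LD1_c20 LD2_c5 LD3_c14)) = (LP (LK LD1_c24 LD2_c50 LD3_c29)) :=
  Lgr Lrot46 (Lpe (f306675 IH) (Lpe (f306673 IH) (Lpr_at (f306653 IH) (Lpn (LP (LK LD1_c24 LD2_c50 LD3_c29))))))
theorem f323563 : Led Lsl_et (LP (LK LD1_c25 LD2_c13 LD3_c44)) = (LP (LK LD1_c15 LD2_c22 LD3_c3)) :=
  Lre_e IH (LK LD1_c25 LD2_c13 LD3_c44) (LK LD1_c15 LD2_c22 LD3_c3) Lrfl Lrfl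
theorem f54959 : Led Lsl_et (LP (LK LD1_c4 LD2_c6 LD3_c42)) = (LP (LK LD1_c8 LD2_c14 LD3_c3)) :=
  Lre_e IH (LK LD1_c4 LD2_c6 LD3_c42) (LK LD1_c8 LD2_c14 LD3_c3) Lrfl Lrfl
theorem f323564 : Led Lsl_dt (LP (LK LD1_c25 LD2_c13 LD3_c44)) = (LP (LK LD1_c20 LD2_c5 LD3_c14)) :=
  Lgr Lrot136 (Lpr_et (f323563 IH) (Lpr_gf (K21.f323558 IH) (Lpe (f54959 IH) (Lpr_dt (K15.f177483 IH) (Lpe (K17.f265228 IH) (Lpe (K17.f256832 IH) (Lpe (K17.f250441 IH) (Lpe (K19.f301268 IH) (Lpr_dt (K25.f301201 IH) (Lpe (f306676 IH) (Lpn (LP (LK LD1_c20 LD2_c5 LD3_c14)))))))))))))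
theorem f358396 : Led Lsl_gt (LP (LK LD1_c24 LD2_c51 LD3_c11)) = (LP (LK LD1_c25 LD2_c13 LD3_c44)) :=
  Lgr Lrot94 (Lpe (f353992 IH) (Lpr_gt (K26.f358394 IH) (Lpe (K19.f301234 IH) (Lpr_gt (K19.f222121 IH) (Lpe (K19.f301197 IH) (Lpe (K19.f301213 IH) (Lpe (f301211 IH) (Lpe (f306676 IH) (Lpe (f323564 IH) (Lpn (LP (LK LD1_c25 LD2_c13 LD3_c44))))))))))))
theorem f354003 : Led Lsl_et (LP (LK LD1_c15 LD2_c2 LD3_c29)) = (LP (LK LD1_c24 LD2_c51 LD3_c11)) :=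
  Lre_e IH (LK LD1_c15 LD2_c2 LD3_c29) (LK LD1_c24 LD2_c51 LD3_c11) Lrfl Lrfl
theorem f353139 : Led Lsl_dt (LP (LK LD1_c15 LD2_c2 LD3_c29)) = (LP (LK LD1_c24 LD2_c51 LD3_c10)) :=
  Lre_d IH (LK LD1_c15 LD2_c2 LD3_c29) (LK LD1_c24 LD2_c51 LD3_c10) Lrfl Lrfl
theorem f42238 : Led Lsl_dt (LP (LK LD1_c11 LD2_c52 LD3_c41)) = (LP (LK LD1_c20 LD2_c55 LD3_c50)) :=
  Lre_d IH (LK LD1_c11 LD2_c52 LD3_c41) (LK LD1_c20 LD2_c55 LD3_c50) Lrfl Lrfl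
theorem f358400 : Led Lsl_gf (LP (LK LD1_c24 LD2_c51 LD3_c10)) = (LP (LK LD1_c20 LD2_c55 LD3_c50)) :=
  Lgr Lrot145 (Lpe (f353139 IH) (Lpr_et (f354003 IH) (Lpr_gt (f358396 IH) (Lpr_dt (f323564 IH) (Lpr_gt (f306676 IH) (Lpe (K25.f301201 IH) (Lpr_et (K19.f301268 IH) (Lpr_gt (K17.f250441 IH) (Lpe (K23.f256836 IH) (Lpr_dt (f42238 IH) (Lpn (LP (LK LD1_c20 LD2_c55 LD3_c50)))))))))))))
theorem f353138 : Led Lsl_dt (LP (LK LD1_c24 LD2_c51 LD3_c10)) = (LP (LK LD1_c15 LD2_c2 LD3_c29)) :=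
  Lre_d IH (LK LD1_c24 LD2_c51 LD3_c10) (LK LD1_c15 LD2_c2 LD3_c29) Lrfl Lrfl
theorem f358402 : Led Lsl_gt (LP (LK LD1_c17 LD2_c51 LD3_c34)) = (LP (LK LD1_c11 LD2_c52 LD3_c41)) :=
  Lgr Lrot94 (Lpe (f291804 IH) (Lpr_gt (K25.f217556 IH) (Lpr_dt (K15.f217502 IH) (Lpr_gt (K24.f217563 IH) (Lpe (K25.f357553 IH) (Lpe (K25.f353155 IH) (Lpe (f353138 IH) (Lpr_gf (f358400 IH) (Lpe (f42238 IH) (Lpn (LP (LK LD1_c11 LD2_c52 LD3_c41))))))))))))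
theorem f367504 : Led Lsl_gt (LP (LK LD1_c9 LD2_c42 LD3_c42)) = (LP (LK LD1_c4 LD2_c55 LD3_c39)) :=
  Lgr Lrot150 (Lpe (f358521 IH) (Lpe (f367480 IH) (Lpr_df (f187366 IH) (Lpr_gt (f367500 IH) (Lpr_ct (f291804 IH) (Lpr_gt (f358402 IH) (Lpr_ct (K23.f42244 IH) (Lpe (K24.f42232 IH) (Lpe (K18.f167935 IH) (Lpn (LP (LK LD1_c4 LD2_c55 LD3_c39))))))))))))
theorem f187427 : Led Lsl_ct (LP (LK LD1_c16 LD2_c41 LD3_c3)) = (LP (LK LD1_c8 LD2_c55 LD3_c4)) :=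
  Lre_c IH (LK LD1_c16 LD2_c41 LD3_c3) (LK LD1_c8 LD2_c55 LD3_c4) Lrfl Lrfl
theorem f44673 : Led Lsl_ct (LP (LK LD1_c8 LD2_c52 LD3_c61)) = (LP (LK LD1_c16 LD2_c36 LD3_c31)) :=
  Lre_c IH (LK LD1_c8 LD2_c52 LD3_c61) (LK LD1_c16 LD2_c36 LD3_c31) Lrfl Lrfl
theorem f367509 : Led Lsl_gf (LP (LK LD1_c8 LD2_c55 LD3_c4)) = (LP (LK LD1_c16 LD2_c36 LD3_c31)) :=
  Lgr Lrot126 (Lpe (f187427 IH) (Lpr_bt (f187425 IH) (Lpr_gt (f367480 IH) (Lpr_ct (f358521 IH) (Lpr_gt (f367504 IH) (Lpr_cf (K18.f168677 IH) (Lpr_bt (K25.f42181 IH) (Lpr_gt (K24.f42199 IH) (Lpr_bf (f345528 IH) (Lpr_ct (f44673 IH) (Lpn (LP (LK LD1_c16 LD2_c36 LD3_c31)))))))))))))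
theorem f221471 : Led Lsl_ft (LP (LK LD1_c8 LD2_c53 LD3_c6)) = (LP (LK LD1_c16 LD2_c36 LD3_c43)) :=
  Lre_f IH (LK LD1_c8 LD2_c53 LD3_c6) (LK LD1_c16 LD2_c36 LD3_c43) Lrfl Lrfl
theorem f367545 : Led Lsl_af (LP (LK LD1_c8 LD2_c55 LD3_c4)) = (LP (LK LD1_c16 LD2_c36 LD3_c43)) :=
  Lgr Lrot31 (Lpr_gf (f367509 IH) (Lpr_gf (f367541 IH) (Lpr_ft (f221471 IH) (Lpn (LP (LK LD1_c16 LD2_c36 LD3_c43))))))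
theorem f367551 : Led Lsl_ft (LP (LK LD1_c8 LD2_c55 LD3_c4)) = (LP (LK LD1_c4 LD2_c28 LD3_c29)) :=
  Lre_f IH (LK LD1_c8 LD2_c55 LD3_c4) (LK LD1_c4 LD2_c28 LD3_c29) Lrfl Lrfl
theorem f367552 : Led Lsl_at (LP (LK LD1_c4 LD2_c28 LD3_c29)) = (LP (LK LD1_c8 LD2_c53 LD3_c6)) :=
  Lgr Lrot66 (Lpe (f367551 IH) (Lpr_af (f367545 IH) (Lpe (f221471 IH) (Lpn (LP (LK LD1_c8 LD2_c53 LD3_c6))))))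
theorem f278827 : Led Lsl_et (LP (LK LD1_c2 LD2_c11 LD3_c19)) = (LP (LK LD1_c4 LD2_c28 LD3_c29)) :=
  Lre_e IH (LK LD1_c2 LD2_c11 LD3_c19) (LK LD1_c4 LD2_c28 LD3_c29) Lrfl Lrfl
theorem f221529 : Led Lsl_et (LP (LK LD1_c8 LD2_c53 LD3_c6)) = (LP (LK LD1_c4 LD2_c27 LD3_c37)) :=
  Lre_e IH (LK LD1_c8 LD2_c53 LD3_c6) (LK LD1_c4 LD2_c27 LD3_c37) Lrfl Lrfl
theorem f367559 : Led Lsl_af (LP (LK LD1_c2 LD2_c11 LD3_c19)) = (LP (LK LD1_c4 LD2_c27 LD3_c37)) :=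
  Lgr Lrot50 (Lpr_et (f278827 IH) (Lpr_at (f367552 IH) (Lpr_et (f221529 IH) (Lpn (LP (LK LD1_c4 LD2_c27 LD3_c37))))))
theorem f367570 : Led Lsl_ft (LP (LK LD1_c2 LD2_c11 LD3_c18)) = (LP (LK LD1_c4 LD2_c27 LD3_c37)) :=
  Lgr Lrot2 (Lpr_gt (K12.f41697 IH) (Lpr_gt (K9.f173124 IH) (Lpr_af (f367559 IH) (Lpn (LP (LK LD1_c4 LD2_c27 LD3_c37))))))
theorem f367581 : Led Lsl_ff (LP (LK LD1_c2 LD2_c11 LD3_c18)) = (LP (LK LD1_c4 LD2_c27 LD3_c37)) :=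
  Lgr Lrot3 (Lpr_ft (f367570 IH) (Lpn (LP (LK LD1_c4 LD2_c27 LD3_c37))))
theorem f367591 : Led Lsl_at (LP (LK LD1_c2 LD2_c11 LD3_c18)) = (LP (LK LD1_c4 LD2_c27 LD3_c36)) :=
  Lgr Lrot26 (Lpr_ff (f367581 IH) (Lpr_gt (K12.f220800 IH) (Lpr_gt (K9.f44647 IH) (Lpn (LP (LK LD1_c4 LD2_c27 LD3_c36))))))
theorem f367561 : Led Lsl_at (LP (LK LD1_c2 LD2_c11 LD3_c19)) = (LP (LK LD1_c4 LD2_c27 LD3_c37)) :=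
  Lgr Lrot100 (Lpr_af (f367559 IH) (Lpn (LP (LK LD1_c4 LD2_c27 LD3_c37))))
theorem f367604 : Led Lsl_ff (LP (LK LD1_c2 LD2_c11 LD3_c19)) = (LP (LK LD1_c4 LD2_c27 LD3_c36)) :=
  Lgr Lrot30 (Lpr_at (f367561 IH) (Lpe (f367581 IH) (Lpr_at (f367591 IH) (Lpn (LP (LK LD1_c4 LD2_c27 LD3_c36))))))
theorem f367611 : Led Lsl_ft (LP (LK LD1_c2 LD2_c11 LD3_c19)) = (LP (LK LD1_c4 LD2_c27 LD3_c36)) :=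
  Lgr Lrot48 (Lpr_ff (f367604 IH) (Lpn (LP (LK LD1_c4 LD2_c27 LD3_c36))))
theorem f168586 : Led Lsl_ft (LP (LK LD1_c8 LD2_c53 LD3_c3)) = (LP (LK LD1_c16 LD2_c36 LD3_c36)) :=
  Lre_f IH (LK LD1_c8 LD2_c53 LD3_c3) (LK LD1_c16 LD2_c36 LD3_c36) Lrfl Lrfl
theorem f367619 : Led Lsl_ef (LP (LK LD1_c8 LD2_c55 LD3_c4)) = (LP (LK LD1_c16 LD2_c36 LD3_c36)) :=
  Lgr Lrot21 (Lpr_ft (f367551 IH) (Lpr_et (K26.f191898 IH) (Lpr_ft (f367611 IH) (Lpr_et (K25.f168072 IH) (Lpr_ft (f168586 IH) (Lpn (LP (LK LD1_c16 LD2_c36 LD3_c36))))))))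
theorem f367547 : Led Lsl_at (LP (LK LD1_c8 LD2_c55 LD3_c4)) = (LP (LK LD1_c16 LD2_c36 LD3_c43)) :=
  Lgr Lrot100 (Lpr_af (f367545 IH) (Lpn (LP (LK LD1_c16 LD2_c36 LD3_c43))))
theorem f41698 : Led Lsl_et (LP (LK LD1_c4 LD2_c28 LD3_c25)) = (LP (LK LD1_c2 LD2_c11 LD3_c18)) :=
  Lre_e IH (LK LD1_c4 LD2_c28 LD3_c25) (LK LD1_c2 LD2_c11 LD3_c18) Lrfl Lrfl
theorem f367578 : Led Lsl_ft (LP (LK LD1_c8 LD2_c54 LD3_c56)) = (LP (LK LD1_c4 LD2_c28 LD3_c25)) :=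
  Lre_f IH (LK LD1_c8 LD2_c54 LD3_c56) (LK LD1_c4 LD2_c28 LD3_c25) Lrfl Lrfl
theorem f367579 : Led Lsl_ef (LP (LK LD1_c8 LD2_c54 LD3_c56)) = (LP (LK LD1_c16 LD2_c36 LD3_c43)) :=
  Lgr Lrot21 (Lpr_ft (f367578 IH) (Lpr_et (f41698 IH) (Lpr_ft (f367570 IH) (Lpr_et (f220867 IH) (Lpr_ft (f221471 IH) (Lpn (LP (LK LD1_c16 LD2_c36 LD3_c43))))))))
theorem f367621 : Led Lsl_at (LP (LK LD1_c8 LD2_c54 LD3_c56)) = (LP (LK LD1_c16 LD2_c36 LD3_c36)) :=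
  Lgr Lrot80 (Lpr_ef (f367579 IH) (Lpe (f367547 IH) (Lpr_ef (f367619 IH) (Lpn (LP (LK LD1_c16 LD2_c36 LD3_c36))))))
theorem f218217 : Led Lsl_ct (LP (LK LD1_c16 LD2_c40 LD3_c45)) = (LP (LK LD1_c8 LD2_c54 LD3_c56)) :=
  Lre_c IH (LK LD1_c16 LD2_c40 LD3_c45) (LK LD1_c8 LD2_c54 LD3_c56) Lrfl Lrfl
theorem f168569 : Led Lsl_ft (LP (LK LD1_c16 LD2_c36 LD3_c36)) = (LP (LK LD1_c8 LD2_c53 LD3_c3)) :=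
  Lre_f IH (LK LD1_c16 LD2_c36 LD3_c36) (LK LD1_c8 LD2_c53 LD3_c3) Lrfl Lrfl
theorem f168570 : Led Lsl_ct (LP (LK LD1_c9 LD2_c42 LD3_c5)) = (LP (LK LD1_c16 LD2_c36 LD3_c36)) :=
  Lgr Lrot40 (Lpe (f168568 IH) (Lpr_cf (K25.f168073 IH) (Lpe (f168569 IH) (Lpn (LP (LK LD1_c16 LD2_c36 LD3_c36))))))
theorem f168581 : Led Lsl_cf (LP (LK LD1_c9 LD2_c42 LD3_c5)) = (LP (LK LD1_c16 LD2_c36 LD3_c36)) :=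
  Lgr Lrot11 (Lpr_ct (f168570 IH) (Lpn (LP (LK LD1_c16 LD2_c36 LD3_c36))))
theorem f367625 : Led Lsl_af (LP (LK LD1_c16 LD2_c40 LD3_c45)) = (LP (LK LD1_c9 LD2_c42 LD3_c5)) :=
  Lgr Lrot68 (Lpr_ct (f218217 IH) (Lpr_at (f367621 IH) (Lpe (f168581 IH) (Lpn (LP (LK LD1_c9 LD2_c42 LD3_c5))))))
theorem f221443 : Led Lsl_ft (LP (LK LD1_c8 LD2_c26 LD3_c56)) = (LP (LK LD1_c15 LD2_c51 LD3_c44)) :=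
  Lre_f IH (LK LD1_c8 LD2_c26 LD3_c56) (LK LD1_c15 LD2_c51 LD3_c44) Lrfl Lrfl
theorem f367419 : Led Lsl_af (LP (LK LD1_c16 LD2_c41 LD3_c3)) = (LP (LK LD1_c15 LD2_c51 LD3_c44)) :=
  Lgr Lrot31 (Lpr_gf (f367417 IH) (Lpe (K25.f221448 IH) (Lpr_ft (f221443 IH) (Lpn (LP (LK LD1_c15 LD2_c51 LD3_c44))))))
theorem f367633 : Led Lsl_et (LP (LK LD1_c16 LD2_c40 LD3_c45)) = (LP (LK LD1_c15 LD2_c51 LD3_c44)) :=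
  Lgr Lrot123 (Lpr_af (f367625 IH) (Lpe (f367433 IH) (Lpr_af (f367419 IH) (Lpn (LP (LK LD1_c15 LD2_c51 LD3_c44))))))
theorem f367647 : Led Lsl_ef (LP (LK LD1_c16 LD2_c40 LD3_c45)) = (LP (LK LD1_c15 LD2_c51 LD3_c44)) :=
  Lgr Lrot88 (Lpr_et (f367633 IH) (Lpn (LP (LK LD1_c15 LD2_c51 LD3_c44))))
theorem f168585 : Led Lsl_ft (LP (LK LD1_c9 LD2_c42 LD3_c5)) = (LP (LK LD1_c4 LD2_c55 LD3_c16)) :=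
  Lre_f IH (LK LD1_c9 LD2_c42 LD3_c5) (LK LD1_c4 LD2_c55 LD3_c16) Lrfl Lrfl
theorem f367284 : Led Lsl_dt (LP (LK LD1_c9 LD2_c56 LD3_c52)) = (LP (LK LD1_c9 LD2_c42 LD3_c5)) :=
  Lgr Lrot60 (Lpr_ff (f367280 IH) (Lpe (K14.f168567 IH) (Lpe (f168585 IH) (Lpn (LP (LK LD1_c9 LD2_c42 LD3_c5))))))
theorem f367288 : Led Lsl_af (LP (LK LD1_c9 LD2_c56 LD3_c52)) = (LP (LK LD1_c10 LD2_c7 LD3_c56)) :=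
  Lgr Lrot0 (Lpr_at (f367286 IH) (Lpn (LP (LK LD1_c10 LD2_c7 LD3_c56))))
theorem f367631 : Led Lsl_dt (LP (LK LD1_c16 LD2_c40 LD3_c45)) = (LP (LK LD1_c10 LD2_c7 LD3_c56)) :=
  Lgr Lrot44 (Lpr_af (f367625 IH) (Lpe (f367284 IH) (Lpr_af (f367288 IH) (Lpn (LP (LK LD1_c10 LD2_c7 LD3_c56))))))
theorem f367651 : Led Lsl_et (LP (LK LD1_c18 LD2_c52 LD3_c31)) = (LP (LK LD1_c17 LD2_c35 LD3_c41)) :=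
  Lgr Lrot71 (Lpr_df (f367299 IH) (Lpe (f367290 IH) (Lpe (f367631 IH) (Lpr_ef (f367647 IH) (Lpe (K23.f223229 IH) (Lpn (LP (LK LD1_c17 LD2_c35 LD3_c41))))))))
theorem f297754 : Led Lsl_bt (LP (LK LD1_c10 LD2_c24 LD3_c14)) = (LP (LK LD1_c18 LD2_c52 LD3_c31)) :=
  Lre_b IH (LK LD1_c10 LD2_c24 LD3_c14) (LK LD1_c18 LD2_c52 LD3_c31) Lrfl Lrfl
theorem f367653 : Led Lsl_ef (LP (LK LD1_c10 LD2_c24 LD3_c14)) = (LP (LK LD1_c15 LD2_c51 LD3_c57)) :=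
  Lgr Lrot29 (Lpr_bt (f297754 IH) (Lpr_et (f367651 IH) (Lpr_bt (K23.f223239 IH) (Lpn (LP (LK LD1_c15 LD2_c51 LD3_c57))))))
theorem f311792 : Led Lsl_af (LP (LK LD1_c8 LD2_c26 LD3_c43)) = (LP (LK LD1_c9 LD2_c41 LD3_c42)) :=
  Lgr Lrot0 (Lpr_at (K19.f311790 IH) (Lpn (LP (LK LD1_c9 LD2_c41 LD3_c42))))
theorem f322140 : Led Lsl_at (LP (LK LD1_c10 LD2_c50 LD3_c22)) = (LP (LK LD1_c16 LD2_c18 LD3_c58)) :=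
  Lgr Lrot66 (Lpe (K21.f311802 IH) (Lpr_af (f311792 IH) (Lpr_ff (K20.f322138 IH) (Lpn (LP (LK LD1_c16 LD2_c18 LD3_c58))))))
theorem f329475 : Led Lsl_gf (LP (LK LD1_c16 LD2_c18 LD3_c58)) = (LP (LK LD1_c10 LD2_c50 LD3_c23)) :=
  Lgr Lrot76 (Lpe (f322140 IH) (Lpe (K21.f311802 IH) (Lpr_gt (K21.f329473 IH) (Lpn (LP (LK LD1_c10 LD2_c50 LD3_c23))))))
theorem f367662 : Led Lsl_gf (LP (LK LD1_c10 LD2_c24 LD3_c14)) = (LP (LK LD1_c15 LD2_c28 LD3_c14)) :=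
  Lgr Lrot141 (Lpr_ef (f367653 IH) (Lpr_dt (K23.f223238 IH) (Lpe (K26.f364251 IH) (Lpr_df (K23.f322426 IH) (Lpe (K23.f322416 IH) (Lpe (K21.f325220 IH) (Lpr_dt (K25.f251709 IH) (Lpe (f329475 IH) (Lpe (K20.f322132 IH) (Lpr_et (K20.f322128 IH) (Lpn (LP (LK LD1_c15 LD2_c28 LD3_c14)))))))))))))
theorem f297755 : Led Lsl_bt (LP (LK LD1_c18 LD2_c52 LD3_c31)) = (LP (LK LD1_c10 LD2_c24 LD3_c14)) :=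
  Lre_b IH (LK LD1_c18 LD2_c52 LD3_c31) (LK LD1_c10 LD2_c24 LD3_c14) Lrfl Lrfl
theorem f215079 : Led Lsl_bt (LP (LK LD1_c15 LD2_c30 LD3_c59)) = (LP (LK LD1_c25 LD2_c23 LD3_c55)) :=
  Lre_b IH (LK LD1_c15 LD2_c30 LD3_c59) (LK LD1_c25 LD2_c23 LD3_c55) Lrfl Lrfl
theorem f322112 : Led Lsl_bt (LP (LK LD1_c17 LD2_c48 LD3_c47)) = (LP (LK LD1_c15 LD2_c28 LD3_c14)) :=
  Lgr Lrot95 (Lpr_df (K21.f284823 IH) (Lpe (f215079 IH) (Lpr_df (K20.f322108 IH) (Lpn (LP (LK LD1_c15 LD2_c28 LD3_c14))))))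
theorem f337601 : Led Lsl_bt (LP (LK LD1_c10 LD2_c46 LD3_c34)) = (LP (LK LD1_c11 LD2_c52 LD3_c19)) :=
  Lgr Lrot127 (Lpr_bf (K22.f337596 IH) (Lpn (LP (LK LD1_c11 LD2_c52 LD3_c19))))
theorem f253600 : Led Lsl_ct (LP (LK LD1_c11 LD2_c5 LD3_c4)) = (LP (LK LD1_c19 LD2_c57 LD3_c54)) :=
  Lre_c IH (LK LD1_c11 LD2_c5 LD3_c4) (LK LD1_c19 LD2_c57 LD3_c54) Lrfl Lrfl
theorem f341139 : Led Lsl_bt (LP (LK LD1_c5 LD2_c19 LD3_c26)) = (LP (LK LD1_c6 LD2_c4 LD3_c54)) :=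
  Lgr Lrot92 (Lpr_ct (K16.f258154 IH) (Lpe (K15.f264003 IH) (Lpe (K15.f254245 IH) (Lpr_bt (K15.f254243 IH) (Lpr_gt (K22.f253599 IH) (Lpr_ct (f253600 IH) (Lpr_gt (K25.f253601 IH) (Lpe (K22.f337615 IH) (Lpr_bt (f337601 IH) (Lpr_gt (K23.f341131 IH) (Lpn (LP (LK LD1_c6 LD2_c4 LD3_c54)))))))))))))
theorem f258159 : Led Lsl_gt (LP (LK LD1_c18 LD2_c59 LD3_c27)) = (LP (LK LD1_c10 LD2_c28 LD3_c42)) :=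
  Lre_g IH (LK LD1_c18 LD2_c59 LD3_c27) (LK LD1_c10 LD2_c28 LD3_c42) Lrfl Lrfl
theorem f367668 : Led Lsl_ct (LP (LK LD1_c18 LD2_c52 LD3_c31)) = (LP (LK LD1_c18 LD2_c59 LD3_c27)) :=
  Lgr Lrot64 (Lpr_bt (f297755 IH) (Lpr_gf (f367662 IH) (Lpe (f322112 IH) (Lpe (K22.f333901 IH) (Lpe (K22.f244162 IH) (Lpe (K25.f244171 IH) (Lpe (K23.f244148 IH) (Lpe (f341139 IH) (Lpr_ct (K16.f258154 IH) (Lpe (f258159 IH) (Lpn (LP (LK LD1_c18 LD2_c59 LD3_c27)))))))))))))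
theorem f367672 : Led Lsl_cf (LP (LK LD1_c18 LD2_c52 LD3_c31)) = (LP (LK LD1_c18 LD2_c59 LD3_c27)) :=
  Lgr Lrot11 (Lpr_ct (f367668 IH) (Lpn (LP (LK LD1_c18 LD2_c59 LD3_c27))))
theorem f367227 : Led Lsl_af (LP (LK LD1_c18 LD2_c19 LD3_c51)) = (LP (LK LD1_c18 LD2_c41 LD3_c28)) :=
  Lgr Lrot0 (Lpr_at (f367225 IH) (Lpn (LP (LK LD1_c18 LD2_c41 LD3_c28))))
theorem f367295 : Led Lsl_ct (LP (LK LD1_c18 LD2_c19 LD3_c51)) = (LP (LK LD1_c18 LD2_c27 LD3_c19)) :=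
  Lgr Lrot111 (Lpr_af (f367227 IH) (Lpe (f230770 IH) (Lpr_af (f367291 IH) (Lpn (LP (LK LD1_c18 LD2_c27 LD3_c19))))))
theorem f276998 : Led Lsl_at (LP (LK LD1_c5 LD2_c22 LD3_c53)) = (LP (LK LD1_c10 LD2_c28 LD3_c42)) :=
  Lgr Lrot66 (Lpr_ff (K16.f276993 IH) (Lpe (K15.f258207 IH) (Lpe (K15.f258214 IH) (Lpn (LP (LK LD1_c10 LD2_c28 LD3_c42))))))
theorem f277004 : Led Lsl_gf (LP (LK LD1_c18 LD2_c59 LD3_c27)) = (LP (LK LD1_c10 LD2_c33 LD3_c39)) :=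
  Lgr Lrot47 (Lpr_gt (f258159 IH) (Lpe (f276998 IH) (Lpr_ff (K16.f276993 IH) (Lpn (LP (LK LD1_c10 LD2_c33 LD3_c39))))))
theorem f212122 : Led Lsl_ct (LP (LK LD1_c10 LD2_c15 LD3_c8)) = (LP (LK LD1_c18 LD2_c39 LD3_c8)) :=
  Lre_c IH (LK LD1_c10 LD2_c15 LD3_c8) (LK LD1_c18 LD2_c39 LD3_c8) Lrfl Lrfl
theorem f367754 : Led Lsl_gf (LP (LK LD1_c18 LD2_c19 LD3_c51)) = (LP (LK LD1_c18 LD2_c39 LD3_c8)) :=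
  Lgr Lrot104 (Lpr_ct (f367295 IH) (Lpe (f367297 IH) (Lpr_cf (f367672 IH) (Lpr_gf (f277004 IH) (Lpe (K15.f258169 IH) (Lpe (K15.f258151 IH) (Lpe (K15.f251572 IH) (Lpr_gt (K22.f335133 IH) (Lpr_ct (f212122 IH) (Lpn (LP (LK LD1_c18 LD2_c39 LD3_c8))))))))))))
theorem f230584 : Led Lsl_dt (LP (LK LD1_c10 LD2_c28 LD3_c35)) = (LP (LK LD1_c5 LD2_c19 LD3_c23)) :=
  Lre_d IH (LK LD1_c10 LD2_c28 LD3_c35) (LK LD1_c5 LD2_c19 LD3_c23) Lrfl Lrfl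
theorem f230427 : Led Lsl_gt (LP (LK LD1_c18 LD2_c59 LD3_c19)) = (LP (LK LD1_c10 LD2_c28 LD3_c35)) :=
  Lre_g IH (LK LD1_c18 LD2_c59 LD3_c19) (LK LD1_c10 LD2_c28 LD3_c35) Lrfl Lrfl
theorem f367758 : Led Lsl_dt (LP (LK LD1_c18 LD2_c19 LD3_c51)) = (LP (LK LD1_c18 LD2_c59 LD3_c19)) :=
  Lgr Lrot57 (Lpr_gf (f367754 IH) (Lpe (f212122 IH) (Lpe (K22.f335135 IH) (Lpe (K18.f293750 IH) (Lpr_gt (K18.f248089 IH) (Lpr_dt (K15.f230575 IH) (Lpe (K15.f230571 IH) (Lpe (f230584 IH) (Lpe (f230427 IH) (Lpn (LP (LK LD1_c18 LD2_c59 LD3_c19))))))))))))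
theorem f230423 : Led Lsl_et (LP (LK LD1_c5 LD2_c19 LD3_c23)) = (LP (LK LD1_c2 LD2_c36 LD3_c21)) :=
  Lre_e IH (LK LD1_c5 LD2_c19 LD3_c23) (LK LD1_c2 LD2_c36 LD3_c21) Lrfl Lrfl
theorem f198782 : Led Lsl_gt (LP (LK LD1_c5 LD2_c6 LD3_c12)) = (LP (LK LD1_c10 LD2_c3 LD3_c24)) :=
  Lre_g IH (LK LD1_c5 LD2_c6 LD3_c12) (LK LD1_c10 LD2_c3 LD3_c24) Lrfl Lrfl
theorem f367769 : Led Lsl_et (LP (LK LD1_c18 LD2_c19 LD3_c51)) = (LP (LK LD1_c10 LD2_c3 LD3_c24)) :=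
  Lgr Lrot122 (Lpr_dt (f367758 IH) (Lpr_gt (f230427 IH) (Lpe (K15.f230424 IH) (Lpr_et (f230423 IH) (Lpe (K12.f230416 IH) (Lpr_dt (K14.f184086 IH) (Lpr_gt (K14.f248087 IH) (Lpe (K14.f189585 IH) (Lpr_et (K18.f248096 IH) (Lpr_gt (f198782 IH) (Lpn (LP (LK LD1_c10 LD2_c3 LD3_c24)))))))))))))
theorem f230844 : Led Lsl_et (LP (LK LD1_c5 LD2_c5 LD3_c22)) = (LP (LK LD1_c10 LD2_c1 LD3_c50)) :=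
  Lre_e IH (LK LD1_c5 LD2_c5 LD3_c22) (LK LD1_c10 LD2_c1 LD3_c50) Lrfl Lrfl
theorem f265852 : Led Lsl_et (LP (LK LD1_c10 LD2_c16 LD3_c34)) = (LP (LK LD1_c5 LD2_c13 LD3_c7)) :=
  Lre_e IH (LK LD1_c10 LD2_c16 LD3_c34) (LK LD1_c5 LD2_c13 LD3_c7) Lrfl Lrfl
theorem f367780 : Led Lsl_ff (LP (LK LD1_c10 LD2_c16 LD3_c34)) = (LP (LK LD1_c10 LD2_c3 LD3_c24)) :=
  Lgr Lrot72 (Lpr_et (f265852 IH) (Lpr_ft (f366584 IH) (Lpr_et (f230844 IH) (Lpr_ft (f366592 IH) (Lpr_et (f367769 IH) (Lpn (LP (LK LD1_c10 LD2_c3 LD3_c24))))))))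
theorem f367788 : Led Lsl_ft (LP (LK LD1_c10 LD2_c16 LD3_c34)) = (LP (LK LD1_c10 LD2_c3 LD3_c24)) :=
  Lgr Lrot48 (Lpr_ff (f367780 IH) (Lpn (LP (LK LD1_c10 LD2_c3 LD3_c24))))
theorem f367270 : Led Lsl_et (LP (LK LD1_c10 LD2_c29 LD3_c31)) = (LP (LK LD1_c18 LD2_c41 LD3_c28)) :=
  Lgr Lrot158 (Lpr_cf (K18.f304229 IH) (Lpr_ef (f367266 IH) (Lpr_cf (f230761 IH) (Lpn (LP (LK LD1_c18 LD2_c41 LD3_c28))))))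
theorem f367771 : Led Lsl_af (LP (LK LD1_c10 LD2_c29 LD3_c31)) = (LP (LK LD1_c10 LD2_c3 LD3_c24)) :=
  Lgr Lrot50 (Lpr_et (f367270 IH) (Lpe (f367227 IH) (Lpr_et (f367769 IH) (Lpn (LP (LK LD1_c10 LD2_c3 LD3_c24))))))
theorem f367282 : Led Lsl_ft (LP (LK LD1_c10 LD2_c29 LD3_c31)) = (LP (LK LD1_c10 LD2_c1 LD3_c53)) :=
  Lgr Lrot4 (Lpr_cf (K18.f304229 IH) (Lpr_ff (f367280 IH) (Lpe (K25.f251386 IH) (Lpn (LP (LK LD1_c10 LD2_c1 LD3_c53))))))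
theorem f367790 : Led Lsl_af (LP (LK LD1_c10 LD2_c16 LD3_c34)) = (LP (LK LD1_c10 LD2_c1 LD3_c53)) :=
  Lgr Lrot45 (Lpr_ft (f367788 IH) (Lpe (f367771 IH) (Lpr_ft (f367282 IH) (Lpn (LP (LK LD1_c10 LD2_c1 LD3_c53))))))
theorem f367808 : Led Lsl_at (LP (LK LD1_c10 LD2_c16 LD3_c34)) = (LP (LK LD1_c10 LD2_c1 LD3_c53)) :=
  Lgr Lrot100 (Lpr_af (f367790 IH) (Lpn (LP (LK LD1_c10 LD2_c1 LD3_c53))))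
theorem f367817 : Led Lsl_gt (LP (LK LD1_c10 LD2_c3 LD3_c24)) = (LP (LK LD1_c10 LD2_c29 LD3_c33)) :=
  Lgr Lrot5 (Lpe (f367780 IH) (Lpr_at (f367808 IH) (Lpe (K25.f325420 IH) (Lpn (LP (LK LD1_c10 LD2_c29 LD3_c33))))))
theorem f44628 : Led Lsl_ft (LP (LK LD1_c8 LD2_c52 LD3_c31)) = (LP (LK LD1_c4 LD2_c27 LD3_c23)) :=
  Lre_f IH (LK LD1_c8 LD2_c52 LD3_c31) (LK LD1_c4 LD2_c27 LD3_c23) Lrfl Lrfl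
theorem f249256 : Led Lsl_bf (LP (LK LD1_c8 LD2_c52 LD3_c31)) = (LP (LK LD1_c5 LD2_c19 LD3_c53)) :=
  Lgr Lrot61 (Lpr_ft (f44628 IH) (Lpr_bt (K16.f249246 IH) (Lpr_ft (K18.f249255 IH) (Lpn (LP (LK LD1_c5 LD2_c19 LD3_c53))))))
theorem f249259 : Led Lsl_bt (LP (LK LD1_c8 LD2_c52 LD3_c31)) = (LP (LK LD1_c5 LD2_c19 LD3_c53)) :=
  Lgr Lrot127 (Lpr_bf (f249256 IH) (Lpn (LP (LK LD1_c5 LD2_c19 LD3_c53))))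
theorem f300490 : Led Lsl_ef (LP (LK LD1_c8 LD2_c52 LD3_c31)) = (LP (LK LD1_c8 LD2_c52 LD3_c8)) :=
  Lgr Lrot29 (Lpr_bt (f249259 IH) (Lpr_et (K18.f300488 IH) (Lpe (K23.f230460 IH) (Lpn (LP (LK LD1_c8 LD2_c52 LD3_c8))))))
theorem f325695 : Led Lsl_gt (LP (LK LD1_c8 LD2_c52 LD3_c31)) = (LP (LK LD1_c5 LD2_c12 LD3_c0)) :=
  Lgr Lrot131 (Lpr_ef (f300490 IH) (Lpr_dt (K23.f325691 IH) (Lpe (K26.f302864 IH) (Lpe (K20.f302861 IH) (Lpe (K20.f165947 IH) (Lpe (K10.f169379 IH) (Lpe (K12.f167616 IH) (Lpe (K14.f169404 IH) (Lpe (K15.f258059 IH) (Lpr_et (K15.f258068 IH) (Lpn (LP (LK LD1_c5 LD2_c12 LD3_c0)))))))))))))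
theorem f340770 : Led Lsl_gt (LP (LK LD1_c16 LD2_c13 LD3_c2)) = (LP (LK LD1_c24 LD2_c44 LD3_c27)) :=
  Lgr Lrot112 (Lpe (K19.f308656 IH) (Lpr_et (K19.f312160 IH) (Lpe (K19.f312153 IH) (Lpe (K19.f312147 IH) (Lpr_dt (K19.f275913 IH) (Lpe (K19.f184744 IH) (Lpr_df (K19.f271280 IH) (Lpe (K23.f241913 IH) (Lpr_ef (K23.f340764 IH) (Lpe (K21.f325883 IH) (Lpn (LP (LK LD1_c24 LD2_c44 LD3_c27)))))))))))))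
theorem f314642 : Led Lsl_dt (LP (LK LD1_c15 LD2_c30 LD3_c3)) = (LP (LK LD1_c25 LD2_c23 LD3_c21)) :=
  Lre_d IH (LK LD1_c15 LD2_c30 LD3_c3) (LK LD1_c25 LD2_c23 LD3_c21) Lrfl Lrfl
theorem f325869 : Led Lsl_dt (LP (LK LD1_c26 LD2_c47 LD3_c34)) = (LP (LK LD1_c16 LD2_c50 LD3_c11)) :=
  Lre_d IH (LK LD1_c26 LD2_c47 LD3_c34) (LK LD1_c16 LD2_c50 LD3_c11) Lrfl Lrfl
theorem f340778 : Led Lsl_gt (LP (LK LD1_c25 LD2_c23 LD3_c21)) = (LP (LK LD1_c26 LD2_c47 LD3_c34)) :=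
  Lgr Lrot49 (Lpe (f314642 IH) (Lpr_gf (K21.f314685 IH) (Lpe (K21.f308653 IH) (Lpr_gt (K19.f255582 IH) (Lpr_dt (K19.f308656 IH) (Lpr_gt (f340770 IH) (Lpr_dt (K21.f325879 IH) (Lpe (K24.f325864 IH) (Lpe (f325869 IH) (Lpn (LP (LK LD1_c26 LD2_c47 LD3_c34))))))))))))
theorem f225614 : Led Lsl_et (LP (LK LD1_c5 LD2_c8 LD3_c55)) = (LP (LK LD1_c10 LD2_c8 LD3_c11)) :=
  Lre_e IH (LK LD1_c5 LD2_c8 LD3_c55) (LK LD1_c10 LD2_c8 LD3_c11) Lrfl Lrfl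
theorem f225622 : Led Lsl_gt (LP (LK LD1_c18 LD2_c27 LD3_c43)) = (LP (LK LD1_c10 LD2_c8 LD3_c11)) :=
  Lre_g IH (LK LD1_c18 LD2_c27 LD3_c43) (LK LD1_c10 LD2_c8 LD3_c11) Lrfl Lrfl
theorem f340780 : Led Lsl_ef (LP (LK LD1_c18 LD2_c27 LD3_c43)) = (LP (LK LD1_c16 LD2_c50 LD3_c11)) :=
  Lgr Lrot114 (Lpr_gt (f225622 IH) (Lpe (f225614 IH) (Lpe (K13.f225611 IH) (Lpe (K13.f240616 IH) (Lpe (K13.f227341 IH) (Lpr_et (K19.f194347 IH) (Lpe (K21.f314685 IH) (Lpr_dt (f314642 IH) (Lpr_gt (f340778 IH) (Lpe (K25.f325866 IH) (Lpn (LP (LK LD1_c16 LD2_c50 LD3_c11)))))))))))))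
theorem f340784 : Led Lsl_et (LP (LK LD1_c18 LD2_c27 LD3_c43)) = (LP (LK LD1_c16 LD2_c50 LD3_c11)) :=
  Lgr Lrot87 (Lpr_ef (f340780 IH) (Lpn (LP (LK LD1_c16 LD2_c50 LD3_c11))))
theorem f340786 : Led Lsl_cf (LP (LK LD1_c18 LD2_c27 LD3_c43)) = (LP (LK LD1_c10 LD2_c15 LD3_c47)) :=
  Lgr Lrot39 (Lpr_et (f340784 IH) (Lpr_ct (K24.f325864 IH) (Lpe (K23.f340764 IH) (Lpn (LP (LK LD1_c10 LD2_c15 LD3_c47))))))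
theorem f235390 : Led Lsl_ct (LP (LK LD1_c10 LD2_c8 LD3_c11)) = (LP (LK LD1_c5 LD2_c8 LD3_c53)) :=
  Lre_c IH (LK LD1_c10 LD2_c8 LD3_c11) (LK LD1_c5 LD2_c8 LD3_c53) Lrfl Lrfl
theorem f239822 : Led Lsl_ct (LP (LK LD1_c5 LD2_c8 LD3_c50)) = (LP (LK LD1_c2 LD2_c31 LD3_c36)) :=
  Lre_c IH (LK LD1_c5 LD2_c8 LD3_c50) (LK LD1_c2 LD2_c31 LD3_c36) Lrfl Lrfl
theorem f345821 : Led Lsl_cf (LP (LK LD1_c10 LD2_c8 LD3_c3)) = (LP (LK LD1_c8 LD2_c4 LD3_c47)) :=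
  Lgr Lrot169 (Lpr_gt (K21.f239923 IH) (Lpr_ct (f239822 IH) (Lpe (K13.f191144 IH) (Lpe (f235390 IH) (Lpe (f225622 IH) (Lpr_cf (f340786 IH) (Lpe (K23.f275863 IH) (Lpr_df (K16.f192611 IH) (Lpr_gt (K23.f345817 IH) (Lpn (LP (LK LD1_c8 LD2_c4 LD3_c47))))))))))))
theorem f367819 : Led Lsl_cf (LP (LK LD1_c10 LD2_c3 LD3_c24)) = (LP (LK LD1_c10 LD2_c7 LD3_c56)) :=
  Lgr Lrot125 (Lpr_gt (f367817 IH) (Lpe (K25.f249264 IH) (Lpe (f249256 IH) (Lpr_gt (f325695 IH) (Lpr_bf (K23.f345809 IH) (Lpe (f345821 IH) (Lpr_gt (K21.f239923 IH) (Lpe (K22.f235392 IH) (Lpr_bt (K22.f239812 IH) (Lpr_gt (f190924 IH) (Lpn (LP (LK LD1_c10 LD2_c7 LD3_c56)))))))))))))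
theorem f367821 : Led Lsl_ct (LP (LK LD1_c10 LD2_c3 LD3_c24)) = (LP (LK LD1_c10 LD2_c7 LD3_c56)) :=
  Lgr Lrot59 (Lpr_cf (f367819 IH) (Lpn (LP (LK LD1_c10 LD2_c7 LD3_c56))))
theorem f293848 : Led Lsl_gf (LP (LK LD1_c15 LD2_c19 LD3_c16)) = (LP (LK LD1_c8 LD2_c54 LD3_c28)) :=
  Lgr Lrot47 (Lpr_gt (K24.f242944 IH) (Lpr_af (K18.f293834 IH) (Lpe (K16.f276479 IH) (Lpn (LP (LK LD1_c8 LD2_c54 LD3_c28))))))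
theorem f273515 : Led Lsl_ct (LP (LK LD1_c1 LD2_c17 LD3_c36)) = (LP (LK LD1_c2 LD2_c41 LD3_c52)) :=
  Lre_c IH (LK LD1_c1 LD2_c17 LD3_c36) (LK LD1_c2 LD2_c41 LD3_c52) Lrfl Lrfl
theorem f261605 : Led Lsl_bt (LP (LK LD1_c1 LD2_c17 LD3_c36)) = (LP (LK LD1_c0 LD2_c35 LD3_c54)) :=
  Lre_b IH (LK LD1_c1 LD2_c17 LD3_c36) (LK LD1_c0 LD2_c35 LD3_c54) Lrfl Lrfl
theorem f178874 : Led Lsl_gt (LP (LK LD1_c0 LD2_c35 LD3_c54)) = (LP (LK LD1_c1 LD2_c17 LD3_c41)) :=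
  Lre_g IH (LK LD1_c0 LD2_c35 LD3_c54) (LK LD1_c1 LD2_c17 LD3_c41) Lrfl Lrfl
theorem f198769 : Led Lsl_ct (LP (LK LD1_c1 LD2_c17 LD3_c41)) = (LP (LK LD1_c2 LD2_c42 LD3_c11)) :=
  Lre_c IH (LK LD1_c1 LD2_c17 LD3_c41) (LK LD1_c2 LD2_c42 LD3_c11) Lrfl Lrfl
theorem f314150 : Led Lsl_gt (LP (LK LD1_c2 LD2_c42 LD3_c11)) = (LP (LK LD1_c4 LD2_c30 LD3_c11)) :=
  Lgr Lrot149 (Lpe (f198769 IH) (Lpe (f178874 IH) (Lpe (f261605 IH) (Lpr_ct (f273515 IH) (Lpe (K19.f275110 IH) (Lpe (K19.f309581 IH) (Lpr_bt (K19.f309565 IH) (Lpr_gf (K19.f314148 IH) (Lpe (K20.f168780 IH) (Lpr_ct (K20.f168757 IH) (Lpn (LP (LK LD1_c4 LD2_c30 LD3_c11)))))))))))))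
theorem f319969 : Led Lsl_gf (LP (LK LD1_c2 LD2_c42 LD3_c11)) = (LP (LK LD1_c1 LD2_c17 LD3_c56)) :=
  Lgr Lrot47 (Lpr_gt (f314150 IH) (Lpr_af (K20.f319962 IH) (Lpe (K20.f213618 IH) (Lpn (LP (LK LD1_c1 LD2_c17 LD3_c56))))))
theorem f345958 : Led Lsl_bt (LP (LK LD1_c1 LD2_c17 LD3_c41)) = (LP (LK LD1_c2 LD2_c42 LD3_c10)) :=
  Lre_b IH (LK LD1_c1 LD2_c17 LD3_c41) (LK LD1_c2 LD2_c42 LD3_c10) Lrfl Lrfl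
theorem f345959 : Led Lsl_gf (LP (LK LD1_c4 LD2_c28 LD3_c14)) = (LP (LK LD1_c2 LD2_c42 LD3_c10)) :=
  Lgr Lrot181 (Lpr_ct (K18.f276506 IH) (Lpe (f293848 IH) (Lpr_cf (K24.f345945 IH) (Lpr_bt (K24.f213719 IH) (Lpr_gt (K19.f171312 IH) (Lpe (K16.f171285 IH) (Lpe (K22.f213578 IH) (Lpe (f319969 IH) (Lpe (f198769 IH) (Lpr_bt (f345958 IH) (Lpn (LP (LK LD1_c2 LD2_c42 LD3_c10)))))))))))))
theorem f345961 : Led Lsl_gt (LP (LK LD1_c4 LD2_c3 LD3_c54)) = (LP (LK LD1_c2 LD2_c42 LD3_c10)) :=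
  Lgr Lrot5 (Lpr_ft (K17.f242940 IH) (Lpr_at (K18.f293962 IH) (Lpr_gf (f345959 IH) (Lpn (LP (LK LD1_c2 LD2_c42 LD3_c10))))))
theorem f309594 : Led Lsl_ct (LP (LK LD1_c2 LD2_c42 LD3_c10)) = (LP (LK LD1_c5 LD2_c31 LD3_c61)) :=
  Lre_c IH (LK LD1_c2 LD2_c42 LD3_c10) (LK LD1_c5 LD2_c31 LD3_c61) Lrfl Lrfl
theorem f218215 : Led Lsl_ct (LP (LK LD1_c8 LD2_c54 LD3_c56)) = (LP (LK LD1_c16 LD2_c40 LD3_c45)) :=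
  Lre_c IH (LK LD1_c8 LD2_c54 LD3_c56) (LK LD1_c16 LD2_c40 LD3_c45) Lrfl Lrfl
theorem f367827 : Led Lsl_gt (LP (LK LD1_c5 LD2_c31 LD3_c61)) = (LP (LK LD1_c8 LD2_c54 LD3_c56)) :=
  Lgr Lrot150 (Lpe (f309594 IH) (Lpe (f345961 IH) (Lpe (K18.f242935 IH) (Lpr_gt (K18.f264897 IH) (Lpr_ct (K22.f198781 IH) (Lpr_gt (f198782 IH) (Lpr_ct (f367821 IH) (Lpe (f367631 IH) (Lpe (f218215 IH) (Lpn (LP (LK LD1_c8 LD2_c54 LD3_c56))))))))))))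
theorem f218208 : Led Lsl_ft (LP (LK LD1_c15 LD2_c51 LD3_c1)) = (LP (LK LD1_c8 LD2_c26 LD3_c23)) :=
  Lre_f IH (LK LD1_c15 LD2_c51 LD3_c1) (LK LD1_c8 LD2_c26 LD3_c23) Lrfl Lrfl
theorem f218209 : Led Lsl_ft (LP (LK LD1_c8 LD2_c54 LD3_c54)) = (LP (LK LD1_c16 LD2_c40 LD3_c45)) :=
  Lre_f IH (LK LD1_c8 LD2_c54 LD3_c54) (LK LD1_c16 LD2_c40 LD3_c45) Lrfl Lrfl
theorem f218210 : Led Lsl_bf (LP (LK LD1_c15 LD2_c51 LD3_c1)) = (LP (LK LD1_c16 LD2_c40 LD3_c45)) :=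
  Lgr Lrot61 (Lpr_ft (f218208 IH) (Lpr_bt (K26.f217942 IH) (Lpr_ft (f218209 IH) (Lpn (LP (LK LD1_c16 LD2_c40 LD3_c45))))))
theorem f367832 : Led Lsl_gf (LP (LK LD1_c8 LD2_c26 LD3_c53)) = (LP (LK LD1_c15 LD2_c51 LD3_c1)) :=
  Lgr Lrot124 (Lpr_bf (K19.f309563 IH) (Lpr_ct (K26.f253139 IH) (Lpr_gt (K21.f227020 IH) (Lpe (f253146 IH) (Lpr_bt (K15.f242925 IH) (Lpr_gt (f345961 IH) (Lpr_ct (f309594 IH) (Lpr_gt (f367827 IH) (Lpe (f218217 IH) (Lpe (f218210 IH) (Lpn (LP (LK LD1_c15 LD2_c51 LD3_c1)))))))))))))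
theorem f51343 : Led Lsl_et (LP (LK LD1_c4 LD2_c7 LD3_c53)) = (LP (LK LD1_c8 LD2_c15 LD3_c48)) :=
  Lre_e IH (LK LD1_c4 LD2_c7 LD3_c53) (LK LD1_c8 LD2_c15 LD3_c48) Lrfl Lrfl
theorem f51344 : Led Lsl_gt (LP (LK LD1_c8 LD2_c15 LD3_c48)) = (LP (LK LD1_c15 LD2_c32 LD3_c11)) :=
  Lre_g IH (LK LD1_c8 LD2_c15 LD3_c48) (LK LD1_c15 LD2_c32 LD3_c11) Lrfl Lrfl
theorem f367838 : Led Lsl_dt (LP (LK LD1_c15 LD2_c32 LD3_c11)) = (LP (LK LD1_c15 LD2_c51 LD3_c1)) :=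
  Lgr Lrot171 (Lpe (f51344 IH) (Lpe (f51343 IH) (Lpr_dt (K15.f51342 IH) (Lpr_gf (K10.f51335 IH) (Lpe (K8.f49560 IH) (Lpr_et (K9.f45000 IH) (Lpr_gf (K19.f309534 IH) (Lpe (K19.f309547 IH) (Lpr_dt (K19.f259626 IH) (Lpr_gf (f367832 IH) (Lpn (LP (LK LD1_c15 LD2_c51 LD3_c1)))))))))))))
theorem f33270 : Led Lsl_et (LP (LK LD1_c10 LD2_c7 LD3_c20)) = (LP (LK LD1_c5 LD2_c8 LD3_c29)) :=
  Lre_e IH (LK LD1_c10 LD2_c7 LD3_c20) (LK LD1_c5 LD2_c8 LD3_c29) Lrfl Lrfl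
theorem f266453 : Led Lsl_dt (LP (LK LD1_c8 LD2_c26 LD3_c23)) = (LP (LK LD1_c10 LD2_c7 LD3_c20)) :=
  Lgr Lrot77 (Lpe (K26.f217941 IH) (Lpe (K15.f266449 IH) (Lpr_ef (K15.f266451 IH) (Lpe (K26.f259693 IH) (Lpe (f33270 IH) (Lpn (LP (LK LD1_c10 LD2_c7 LD3_c20))))))))
theorem f367844 : Led Lsl_ff (LP (LK LD1_c15 LD2_c32 LD3_c11)) = (LP (LK LD1_c10 LD2_c7 LD3_c20)) :=
  Lgr Lrot19 (Lpr_dt (f367838 IH) (Lpr_ft (f218208 IH) (Lpr_dt (f266453 IH) (Lpn (LP (LK LD1_c10 LD2_c7 LD3_c20))))))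
theorem f53601 : Led Lsl_gt (LP (LK LD1_c8 LD2_c15 LD3_c4)) = (LP (LK LD1_c15 LD2_c30 LD3_c55)) :=
  Lre_g IH (LK LD1_c8 LD2_c15 LD3_c4) (LK LD1_c15 LD2_c30 LD3_c55) Lrfl Lrfl
theorem f367850 : Led Lsl_at (LP (LK LD1_c15 LD2_c32 LD3_c11)) = (LP (LK LD1_c15 LD2_c30 LD3_c55)) :=
  Lgr Lrot26 (Lpr_ff (f367844 IH) (Lpr_gt (K26.f323619 IH) (Lpr_gt (f53601 IH) (Lpn (LP (LK LD1_c15 LD2_c30 LD3_c55))))))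
theorem f367842 : Led Lsl_df (LP (LK LD1_c15 LD2_c32 LD3_c11)) = (LP (LK LD1_c15 LD2_c51 LD3_c1)) :=
  Lgr Lrot38 (Lpr_dt (f367838 IH) (Lpn (LP (LK LD1_c15 LD2_c51 LD3_c1))))
theorem f363961 : Led Lsl_af (LP (LK LD1_c15 LD2_c51 LD3_c1)) = (LP (LK LD1_c8 LD2_c26 LD3_c55)) :=
  Lgr Lrot0 (Lpr_at (K26.f363959 IH) (Lpn (LP (LK LD1_c8 LD2_c26 LD3_c55))))
theorem f367856 : Led Lsl_df (LP (LK LD1_c8 LD2_c26 LD3_c55)) = (LP (LK LD1_c15 LD2_c30 LD3_c55)) :=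
  Lgr Lrot18 (Lpe (f363961 IH) (Lpe (f367842 IH) (Lpr_at (f367850 IH) (Lpn (LP (LK LD1_c15 LD2_c30 LD3_c55))))))
theorem f367862 : Led Lsl_ft (LP (LK LD1_c8 LD2_c26 LD3_c54)) = (LP (LK LD1_c15 LD2_c30 LD3_c55)) :=
  Lgr Lrot54 (Lpe (K15.f27505 IH) (Lpe (K26.f201154 IH) (Lpr_df (f367856 IH) (Lpn (LP (LK LD1_c15 LD2_c30 LD3_c55))))))
theorem f367866 : Led Lsl_ff (LP (LK LD1_c8 LD2_c26 LD3_c54)) = (LP (LK LD1_c15 LD2_c30 LD3_c55)) :=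
  Lgr Lrot3 (Lpr_ft (f367862 IH) (Lpn (LP (LK LD1_c15 LD2_c30 LD3_c55))))
theorem f367868 : Led Lsl_at (LP (LK LD1_c8 LD2_c26 LD3_c54)) = (LP (LK LD1_c10 LD2_c7 LD3_c20)) :=
  Lgr Lrot66 (Lpr_ff (f367866 IH) (Lpe (f367850 IH) (Lpr_ff (f367844 IH) (Lpn (LP (LK LD1_c10 LD2_c7 LD3_c20))))))
theorem f367872 : Led Lsl_af (LP (LK LD1_c5 LD2_c2 LD3_c6)) = (LP (LK LD1_c5 LD2_c8 LD3_c29)) :=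
  Lgr Lrot50 (Lpe (K15.f259618 IH) (Lpr_at (f367868 IH) (Lpr_et (f33270 IH) (Lpn (LP (LK LD1_c5 LD2_c8 LD3_c29))))))
theorem f367876 : Led Lsl_ft (LP (LK LD1_c5 LD2_c17 LD3_c21)) = (LP (LK LD1_c5 LD2_c8 LD3_c29)) :=
  Lgr Lrot2 (Lpr_gt (K16.f274829 IH) (Lpr_gt (K15.f257088 IH) (Lpr_af (f367872 IH) (Lpn (LP (LK LD1_c5 LD2_c8 LD3_c29))))))
theorem f32958 : Led Lsl_dt (LP (LK LD1_c2 LD2_c35 LD3_c26)) = (LP (LK LD1_c5 LD2_c17 LD3_c21)) :=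
  Lre_d IH (LK LD1_c2 LD2_c35 LD3_c26) (LK LD1_c5 LD2_c17 LD3_c21) Lrfl Lrfl
theorem f367880 : Led Lsl_ff (LP (LK LD1_c2 LD2_c35 LD3_c26)) = (LP (LK LD1_c4 LD2_c22 LD3_c20)) :=
  Lgr Lrot19 (Lpr_dt (f32958 IH) (Lpr_ft (f367876 IH) (Lpr_dt (K26.f259693 IH) (Lpn (LP (LK LD1_c4 LD2_c22 LD3_c20))))))
theorem f367884 : Led Lsl_ft (LP (LK LD1_c2 LD2_c35 LD3_c26)) = (LP (LK LD1_c4 LD2_c22 LD3_c20)) :=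
  Lgr Lrot48 (Lpr_ff (f367880 IH) (Lpn (LP (LK LD1_c4 LD2_c22 LD3_c20))))
theorem f367886 : Led Lsl_af (LP (LK LD1_c4 LD2_c18 LD3_c57)) = (LP (LK LD1_c4 LD2_c22 LD3_c20)) :=
  Lgr Lrot45 (Lpe (f366161 IH) (Lpr_at (f366153 IH) (Lpr_ft (f367884 IH) (Lpn (LP (LK LD1_c4 LD2_c22 LD3_c20))))))
theorem f367888 : Led Lsl_at (LP (LK LD1_c2 LD2_c41 LD3_c7)) = (LP (LK LD1_c5 LD2_c29 LD3_c23)) :=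
  Lgr Lrot80 (Lpr_ef (K15.f259627 IH) (Lpr_af (f367886 IH) (Lpe (K15.f266455 IH) (Lpn (LP (LK LD1_c5 LD2_c29 LD3_c23))))))
theorem f367894 : Led Lsl_af (LP (LK LD1_c5 LD2_c29 LD3_c44)) = (LP (LK LD1_c4 LD2_c9 LD3_c4)) :=
  Lgr Lrot68 (Lpr_ct (K14.f211391 IH) (Lpr_at (f367888 IH) (Lpr_ct (K16.f271039 IH) (Lpn (LP (LK LD1_c4 LD2_c9 LD3_c4))))))
theorem f365480 : Led Lsl_af (LP (LK LD1_c2 LD2_c28 LD3_c14)) = (LP (LK LD1_c4 LD2_c7 LD3_c31)) :=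
  Lgr Lrot117 (Lpe (K10.f167285 IH) (Lpr_at (f365460 IH) (Lpe (K23.f259715 IH) (Lpn (LP (LK LD1_c4 LD2_c7 LD3_c31))))))
theorem f367898 : Led Lsl_ft (LP (LK LD1_c2 LD2_c28 LD3_c14)) = (LP (LK LD1_c4 LD2_c9 LD3_c4)) :=
  Lgr Lrot101 (Lpr_af (f365480 IH) (Lpe (f359485 IH) (Lpr_af (f367894 IH) (Lpn (LP (LK LD1_c4 LD2_c9 LD3_c4))))))
theorem f367906 : Led Lsl_ff (LP (LK LD1_c2 LD2_c28 LD3_c14)) = (LP (LK LD1_c4 LD2_c9 LD3_c4)) :=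
  Lgr Lrot3 (Lpr_ft (f367898 IH) (Lpn (LP (LK LD1_c4 LD2_c9 LD3_c4))))
theorem f367914 : Led Lsl_at (LP (LK LD1_c2 LD2_c28 LD3_c14)) = (LP (LK LD1_c4 LD2_c7 LD3_c31)) :=
  Lgr Lrot26 (Lpr_ff (f367906 IH) (Lpe (K16.f259276 IH) (Lpe (K16.f271019 IH) (Lpn (LP (LK LD1_c4 LD2_c7 LD3_c31))))))
theorem f367918 : Led Lsl_af (LP (LK LD1_c1 LD2_c11 LD3_c20)) = (LP (LK LD1_c2 LD2_c1 LD3_c6)) :=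
  Lgr Lrot50 (Lpr_et (K15.f170548 IH) (Lpr_at (f367914 IH) (Lpr_et (K16.f45067 IH) (Lpn (LP (LK LD1_c2 LD2_c1 LD3_c6))))))
theorem f367926 : Led Lsl_at (LP (LK LD1_c2 LD2_c28 LD3_c13)) = (LP (LK LD1_c4 LD2_c7 LD3_c30)) :=
  Lgr Lrot51 (Lpe (K10.f165865 IH) (Lpr_af (f367918 IH) (Lpe (K13.f44990 IH) (Lpn (LP (LK LD1_c4 LD2_c7 LD3_c30))))))
theorem f367934 : Led Lsl_ff (LP (LK LD1_c2 LD2_c28 LD3_c13)) = (LP (LK LD1_c4 LD2_c7 LD3_c32)) :=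
  Lgr Lrot52 (Lpr_at (f367926 IH) (Lpr_gf (K15.f259699 IH) (Lpr_gf (K26.f285447 IH) (Lpn (LP (LK LD1_c4 LD2_c7 LD3_c32))))))
theorem f367944 : Led Lsl_ft (LP (LK LD1_c2 LD2_c28 LD3_c13)) = (LP (LK LD1_c4 LD2_c7 LD3_c32)) :=
  Lgr Lrot48 (Lpr_ff (f367934 IH) (Lpn (LP (LK LD1_c4 LD2_c7 LD3_c32))))
theorem f274811 : Led Lsl_ft (LP (LK LD1_c8 LD2_c15 LD3_c4)) = (LP (LK LD1_c15 LD2_c30 LD3_c56)) :=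
  Lre_f IH (LK LD1_c8 LD2_c15 LD3_c4) (LK LD1_c15 LD2_c30 LD3_c56) Lrfl Lrfl
theorem f367950 : Led Lsl_ef (LP (LK LD1_c9 LD2_c52 LD3_c26)) = (LP (LK LD1_c15 LD2_c30 LD3_c56)) :=
  Lgr Lrot21 (Lpr_ft (K22.f170507 IH) (Lpr_et (K24.f170515 IH) (Lpr_ft (f367944 IH) (Lpr_et (K16.f44997 IH) (Lpr_ft (f274811 IH) (Lpn (LP (LK LD1_c15 LD2_c30 LD3_c56))))))))
theorem f366811 : Led Lsl_dt (LP (LK LD1_c15 LD2_c30 LD3_c56)) = (LP (LK LD1_c11 LD2_c9 LD3_c27)) :=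
  Lgr Lrot6 (Lpr_gt (f366807 IH) (Lpr_ct (K18.f263343 IH) (Lpr_gt (K18.f257808 IH) (Lpr_ct (f263025 IH) (Lpe (K15.f49094 IH) (Lpe (f260342 IH) (Lpe (f260366 IH) (Lpr_cf (f344949 IH) (Lpe (f344956 IH) (Lpn (LP (LK LD1_c11 LD2_c9 LD3_c27))))))))))))
theorem f367954 : Led Lsl_gt (LP (LK LD1_c9 LD2_c52 LD3_c26)) = (LP (LK LD1_c10 LD2_c10 LD3_c15)) :=
  Lgr Lrot137 (Lpr_ef (f367950 IH) (Lpr_dt (f366811 IH) (Lpr_gf (f366815 IH) (Lpr_df (K17.f286300 IH) (Lpr_et (K17.f286299 IH) (Lpe (K20.f286311 IH) (Lpr_ef (K17.f287022 IH) (Lpe (K17.f287018 IH) (Lpr_gf (K24.f297695 IH) (Lpe (K24.f341788 IH) (Lpn (LP (LK LD1_c10 LD2_c10 LD3_c15)))))))))))))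
theorem f333322 : Led Lsl_gf (LP (LK LD1_c15 LD2_c51 LD3_c20)) = (LP (LK LD1_c9 LD2_c34 LD3_c7)) :=
  Lgr Lrot76 (Lpr_af (K22.f333315 IH) (Lpe (K22.f191695 IH) (Lpr_gt (K24.f191696 IH) (Lpn (LP (LK LD1_c9 LD2_c34 LD3_c7))))))
theorem f340665 : Led Lsl_bf (LP (LK LD1_c19 LD2_c54 LD3_c25)) = (LP (LK LD1_c17 LD2_c43 LD3_c34)) :=
  Lgr Lrot24 (Lpr_bt (f340632 IH) (Lpn (LP (LK LD1_c17 LD2_c43 LD3_c34))))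
theorem f349975 : Led Lsl_et (LP (LK LD1_c19 LD2_c54 LD3_c25)) = (LP (LK LD1_c16 LD2_c0 LD3_c30)) :=
  Lgr Lrot74 (Lpr_bf (f340665 IH) (Lpe (f330887 IH) (Lpr_bf (K24.f349967 IH) (Lpn (LP (LK LD1_c16 LD2_c0 LD3_c30))))))
theorem f367956 : Led Lsl_gf (LP (LK LD1_c16 LD2_c1 LD3_c35)) = (LP (LK LD1_c16 LD2_c0 LD3_c30)) :=
  Lgr Lrot138 (Lpr_dt (K22.f170508 IH) (Lpr_gt (f367954 IH) (Lpr_df (K24.f341784 IH) (Lpe (K24.f341786 IH) (Lpe (f333322 IH) (Lpr_ef (K25.f322148 IH) (Lpe (K25.f322136 IH) (Lpe (f340637 IH) (Lpe (K26.f189434 IH) (Lpr_et (f349975 IH) (Lpn (LP (LK LD1_c16 LD2_c0 LD3_c30)))))))))))))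
theorem f170434 : Led Lsl_bf (LP (LK LD1_c16 LD2_c1 LD3_c35)) = (LP (LK LD1_c9 LD2_c33 LD3_c59)) :=
  Lgr Lrot24 (Lpr_bt (K22.f170428 IH) (Lpn (LP (LK LD1_c9 LD2_c33 LD3_c59))))
theorem f170439 : Led Lsl_ct (LP (LK LD1_c9 LD2_c33 LD3_c59)) = (LP (LK LD1_c17 LD2_c36 LD3_c52)) :=
  Lre_c IH (LK LD1_c9 LD2_c33 LD3_c59) (LK LD1_c17 LD2_c36 LD3_c52) Lrfl Lrfl
theorem f349969 : Led Lsl_bt (LP (LK LD1_c9 LD2_c37 LD3_c55)) = (LP (LK LD1_c16 LD2_c0 LD3_c30)) :=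
  Lgr Lrot127 (Lpr_bf (K24.f349967 IH) (Lpn (LP (LK LD1_c16 LD2_c0 LD3_c30))))
theorem f290264 : Led Lsl_gt (LP (LK LD1_c4 LD2_c11 LD3_c30)) = (LP (LK LD1_c8 LD2_c22 LD3_c47)) :=
  Lre_g IH (LK LD1_c4 LD2_c11 LD3_c30) (LK LD1_c8 LD2_c22 LD3_c47) Lrfl Lrfl
theorem f200224 : Led Lsl_ct (LP (LK LD1_c2 LD2_c2 LD3_c59)) = (LP (LK LD1_c4 LD2_c11 LD3_c30)) :=
  Lre_c IH (LK LD1_c2 LD2_c2 LD3_c59) (LK LD1_c4 LD2_c11 LD3_c30) Lrfl Lrfl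
theorem f200188 : Led Lsl_bt (LP (LK LD1_c8 LD2_c22 LD3_c53)) = (LP (LK LD1_c4 LD2_c11 LD3_c32)) :=
  Lre_b IH (LK LD1_c8 LD2_c22 LD3_c53) (LK LD1_c4 LD2_c11 LD3_c32) Lrfl Lrfl
theorem f297715 : Led Lsl_bt (LP (LK LD1_c2 LD2_c23 LD3_c42)) = (LP (LK LD1_c4 LD2_c51 LD3_c41)) :=
  Lre_b IH (LK LD1_c2 LD2_c23 LD3_c42) (LK LD1_c4 LD2_c51 LD3_c41) Lrfl Lrfl
theorem f193295 : Led Lsl_ct (LP (LK LD1_c2 LD2_c23 LD3_c42)) = (LP (LK LD1_c4 LD2_c51 LD3_c44)) :=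
  Lre_c IH (LK LD1_c2 LD2_c23 LD3_c42) (LK LD1_c4 LD2_c51 LD3_c44) Lrfl Lrfl
theorem f238052 : Led Lsl_gt (LP (LK LD1_c9 LD2_c35 LD3_c39)) = (LP (LK LD1_c4 LD2_c51 LD3_c44)) :=
  Lre_g IH (LK LD1_c9 LD2_c35 LD3_c39) (LK LD1_c4 LD2_c51 LD3_c44) Lrfl Lrfl
theorem f353529 : Led Lsl_cf (LP (LK LD1_c9 LD2_c35 LD3_c39)) = (LP (LK LD1_c8 LD2_c22 LD3_c53)) :=
  Lgr Lrot160 (Lpr_gt (f238052 IH) (Lpe (f193295 IH) (Lpr_bt (f297715 IH) (Lpr_gt (K25.f238274 IH) (Lpr_ct (K25.f353498 IH) (Lpr_gt (K25.f316495 IH) (Lpe (K26.f302865 IH) (Lpr_bt (K26.f304468 IH) (Lpr_gt (K20.f258392 IH) (Lpe (f200188 IH) (Lpn (LP (LK LD1_c8 LD2_c22 LD3_c53)))))))))))))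
theorem f367960 : Led Lsl_gt (LP (LK LD1_c17 LD2_c36 LD3_c52)) = (LP (LK LD1_c9 LD2_c35 LD3_c39)) :=
  Lgr Lrot65 (Lpe (f170439 IH) (Lpe (f170434 IH) (Lpr_gf (f367956 IH) (Lpe (f349969 IH) (Lpe (K22.f336367 IH) (Lpe (f290264 IH) (Lpe (f200224 IH) (Lpe (K20.f170637 IH) (Lpe (f200188 IH) (Lpe (f353529 IH) (Lpn (LP (LK LD1_c9 LD2_c35 LD3_c39)))))))))))))
theorem f353534 : Led Lsl_ct (LP (LK LD1_c9 LD2_c35 LD3_c39)) = (LP (LK LD1_c8 LD2_c22 LD3_c53)) :=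
  Lgr Lrot59 (Lpr_cf (f353529 IH) (Lpn (LP (LK LD1_c8 LD2_c22 LD3_c53))))
theorem f353426 : Led Lsl_dt (LP (LK LD1_c8 LD2_c5 LD3_c52)) = (LP (LK LD1_c8 LD2_c22 LD3_c53)) :=
  Lgr Lrot77 (Lpr_ef (K25.f353422 IH) (Lpr_df (K23.f310543 IH) (Lpe (K19.f227251 IH) (Lpe (K23.f269894 IH) (Lpe (K25.f353316 IH) (Lpn (LP (LK LD1_c8 LD2_c22 LD3_c53))))))))
theorem f353428 : Led Lsl_et (LP (LK LD1_c8 LD2_c5 LD3_c52)) = (LP (LK LD1_c10 LD2_c20 LD3_c46)) :=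
  Lgr Lrot87 (Lpr_ef (K25.f353422 IH) (Lpn (LP (LK LD1_c10 LD2_c20 LD3_c46))))
theorem f353475 : Led Lsl_ct (LP (LK LD1_c10 LD2_c8 LD3_c45)) = (LP (LK LD1_c8 LD2_c5 LD3_c52)) :=
  Lgr Lrot15 (Lpr_ef (K25.f353470 IH) (Lpr_cf (K25.f344877 IH) (Lpe (f353428 IH) (Lpn (LP (LK LD1_c8 LD2_c5 LD3_c52))))))
theorem f355066 : Led Lsl_df (LP (LK LD1_c5 LD2_c9 LD3_c6)) = (LP (LK LD1_c4 LD2_c51 LD3_c45)) :=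
  Lgr Lrot38 (Lpr_dt (K25.f355064 IH) (Lpn (LP (LK LD1_c4 LD2_c51 LD3_c45))))
theorem f367964 : Led Lsl_gf (LP (LK LD1_c9 LD2_c33 LD3_c59)) = (LP (LK LD1_c4 LD2_c51 LD3_c45)) :=
  Lgr Lrot147 (Lpr_ct (f170439 IH) (Lpr_gt (f367960 IH) (Lpr_ct (f353534 IH) (Lpe (f353426 IH) (Lpe (f353475 IH) (Lpr_gf (K26.f358882 IH) (Lpe (K17.f180823 IH) (Lpr_gf (K23.f287116 IH) (Lpr_df (f355066 IH) (Lpn (LP (LK LD1_c4 LD2_c51 LD3_c45))))))))))))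
theorem f355092 : Led Lsl_bt (LP (LK LD1_c2 LD2_c44 LD3_c5)) = (LP (LK LD1_c5 LD2_c35 LD3_c29)) :=
  Lgr Lrot127 (Lpr_bf (K25.f355089 IH) (Lpn (LP (LK LD1_c5 LD2_c35 LD3_c29))))
theorem f334143 : Led Lsl_ft (LP (LK LD1_c16 LD2_c37 LD3_c41)) = (LP (LK LD1_c8 LD2_c53 LD3_c32)) :=
  Lre_f IH (LK LD1_c16 LD2_c37 LD3_c41) (LK LD1_c8 LD2_c53 LD3_c32) Lrfl Lrfl
theorem f334144 : Led Lsl_af (LP (LK LD1_c15 LD2_c17 LD3_c34)) = (LP (LK LD1_c8 LD2_c53 LD3_c32)) :=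
  Lgr Lrot45 (Lpe (K22.f333916 IH) (Lpr_at (K22.f334128 IH) (Lpr_ft (f334143 IH) (Lpn (LP (LK LD1_c8 LD2_c53 LD3_c32))))))
theorem f334147 : Led Lsl_gf (LP (LK LD1_c10 LD2_c47 LD3_c58)) = (LP (LK LD1_c16 LD2_c37 LD3_c41)) :=
  Lgr Lrot47 (Lpe (K21.f325770 IH) (Lpr_af (f334144 IH) (Lpe (f334143 IH) (Lpn (LP (LK LD1_c16 LD2_c37 LD3_c41))))))
theorem f322726 : Led Lsl_gf (LP (LK LD1_c16 LD2_c42 LD3_c52)) = (LP (LK LD1_c10 LD2_c50 LD3_c55)) :=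
  Lgr Lrot126 (Lpe (K12.f197614 IH) (Lpe (K12.f228049 IH) (Lpe (K18.f275924 IH) (Lpr_ct (K18.f299188 IH) (Lpr_gt (K18.f200461 IH) (Lpe (K18.f200483 IH) (Lpr_bt (K19.f200519 IH) (Lpr_gt (K20.f200536 IH) (Lpe (K20.f322712 IH) (Lpr_ct (K20.f322718 IH) (Lpn (LP (LK LD1_c10 LD2_c50 LD3_c55)))))))))))))
theorem f325777 : Led Lsl_bf (LP (LK LD1_c8 LD2_c7 LD3_c24)) = (LP (LK LD1_c5 LD2_c28 LD3_c24)) :=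
  Lgr Lrot34 (Lpr_gf (K18.f275924 IH) (Lpr_bf (K12.f228049 IH) (Lpr_ct (K12.f197614 IH) (Lpr_gf (f322726 IH) (Lpe (K20.f322718 IH) (Lpe (K19.f232197 IH) (Lpe (K21.f232190 IH) (Lpe (K14.f254833 IH) (Lpr_gf (K21.f325770 IH) (Lpe (K21.f7830 IH) (Lpn (LP (LK LD1_c5 LD2_c28 LD3_c24)))))))))))))
theorem f334151 : Led Lsl_ct (LP (LK LD1_c16 LD2_c50 LD3_c3)) = (LP (LK LD1_c16 LD2_c37 LD3_c41)) :=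
  Lgr Lrot64 (Lpr_bt (K15.f238163 IH) (Lpr_gf (K20.f317265 IH) (Lpe (K21.f323336 IH) (Lpe (K21.f298002 IH) (Lpe (K18.f196695 IH) (Lpe (K15.f28899 IH) (Lpe (K18.f28860 IH) (Lpr_bf (f325777 IH) (Lpr_ct (K21.f7830 IH) (Lpr_gf (f334147 IH) (Lpn (LP (LK LD1_c16 LD2_c37 LD3_c41)))))))))))))
theorem f355107 : Led Lsl_gf (LP (LK LD1_c5 LD2_c35 LD3_c29)) = (LP (LK LD1_c9 LD2_c0 LD3_c40)) :=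
  Lgr Lrot124 (Lpe (f355092 IH) (Lpr_ct (K25.f355098 IH) (Lpr_gt (K25.f7764 IH) (Lpe (K23.f7856 IH) (Lpr_bt (K23.f7807 IH) (Lpr_gt (K20.f7832 IH) (Lpr_ct (K22.f7833 IH) (Lpr_gt (K22.f334109 IH) (Lpe (f334151 IH) (Lpr_bt (K15.f238163 IH) (Lpn (LP (LK LD1_c9 LD2_c0 LD3_c40)))))))))))))
theorem f367969 : Led Lsl_ef (LP (LK LD1_c9 LD2_c33 LD3_c59)) = (LP (LK LD1_c4 LD2_c51 LD3_c38)) :=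
  Lgr Lrot17 (Lpr_gf (f367964 IH) (Lpe (K25.f238228 IH) (Lpe (K25.f315349 IH) (Lpr_gf (f355107 IH) (Lpr_df (K15.f238103 IH) (Lpr_gf (K23.f348962 IH) (Lpr_ef (K20.f315064 IH) (Lpr_dt (K20.f199231 IH) (Lpe (K26.f314961 IH) (Lpe (f365837 IH) (Lpn (LP (LK LD1_c4 LD2_c51 LD3_c38)))))))))))))
theorem f367981 : Led Lsl_gt (LP (LK LD1_c9 LD2_c33 LD3_c59)) = (LP (LK LD1_c4 LD2_c51 LD3_c46)) :=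
  Lgr Lrot131 (Lpr_ef (f367969 IH) (Lpr_dt (f365837 IH) (Lpe (K22.f196972 IH) (Lpe (K13.f196971 IH) (Lpe (K23.f200572 IH) (Lpe (K23.f346577 IH) (Lpr_dt (K23.f346576 IH) (Lpr_gf (K23.f346573 IH) (Lpe (K23.f170359 IH) (Lpr_et (K26.f359268 IH) (Lpn (LP (LK LD1_c4 LD2_c51 LD3_c46)))))))))))))
theorem f229525 : Led Lsl_dt (LP (LK LD1_c3 LD2_c57 LD3_c15)) = (LP (LK LD1_c2 LD2_c31 LD3_c43)) :=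
  Lgr Lrot79 (Lpe (K19.f229523 IH) (Lpr_df (K15.f229512 IH) (Lpe (K25.f229524 IH) (Lpn (LP (LK LD1_c2 LD2_c31 LD3_c43))))))
theorem f229576 : Led Lsl_gt (LP (LK LD1_c5 LD2_c9 LD3_c7)) = (LP (LK LD1_c2 LD2_c31 LD3_c43)) :=
  Lre_g IH (LK LD1_c5 LD2_c9 LD3_c7) (LK LD1_c2 LD2_c31 LD3_c43) Lrfl Lrfl
theorem f367987 : Led Lsl_df (LP (LK LD1_c5 LD2_c9 LD3_c7)) = (LP (LK LD1_c4 LD2_c51 LD3_c46)) :=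
  Lgr Lrot135 (Lpr_gt (f229576 IH) (Lpe (f229525 IH) (Lpr_et (K23.f196340 IH) (Lpr_gt (K11.f196952 IH) (Lpe (K13.f196970 IH) (Lpr_dt (K13.f196971 IH) (Lpr_gt (K22.f196972 IH) (Lpe (f365837 IH) (Lpe (f367969 IH) (Lpr_gt (f367981 IH) (Lpn (LP (LK LD1_c4 LD2_c51 LD3_c46)))))))))))))
theorem f367993 : Led Lsl_et (LP (LK LD1_c5 LD2_c9 LD3_c7)) = (LP (LK LD1_c5 LD2_c1 LD3_c37)) :=
  Lgr Lrot71 (Lpr_df (f367987 IH) (Lpe (K26.f359268 IH) (Lpe (K23.f239876 IH) (Lpe (K23.f346567 IH) (Lpe (K23.f317031 IH) (Lpn (LP (LK LD1_c5 LD2_c1 LD3_c37))))))))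
theorem f367991 : Led Lsl_dt (LP (LK LD1_c5 LD2_c9 LD3_c7)) = (LP (LK LD1_c4 LD2_c51 LD3_c46)) :=
  Lgr Lrot42 (Lpr_df (f367987 IH) (Lpn (LP (LK LD1_c4 LD2_c51 LD3_c46))))
theorem f170520 : Led Lsl_bt (LP (LK LD1_c9 LD2_c52 LD3_c26)) = (LP (LK LD1_c5 LD2_c1 LD3_c14)) :=
  Lre_b IH (LK LD1_c9 LD2_c52 LD3_c26) (LK LD1_c5 LD2_c1 LD3_c14) Lrfl Lrfl
theorem f170521 : Led Lsl_df (LP (LK LD1_c9 LD2_c33 LD3_c59)) = (LP (LK LD1_c5 LD2_c1 LD3_c14)) :=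
  Lgr Lrot12 (Lpe (f170434 IH) (Lpr_dt (K22.f170508 IH) (Lpr_bt (f170520 IH) (Lpn (LP (LK LD1_c5 LD2_c1 LD3_c14))))))
theorem f328071 : Led Lsl_bt (LP (LK LD1_c9 LD2_c53 LD3_c44)) = (LP (LK LD1_c5 LD2_c1 LD3_c46)) :=
  Lre_b IH (LK LD1_c9 LD2_c53 LD3_c44) (LK LD1_c5 LD2_c1 LD3_c46) Lrfl Lrfl
theorem f330888 : Led Lsl_ef (LP (LK LD1_c9 LD2_c52 LD3_c1)) = (LP (LK LD1_c5 LD2_c1 LD3_c46)) :=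
  Lgr Lrot29 (Lpr_bt (K26.f247008 IH) (Lpr_et (K21.f330877 IH) (Lpr_bt (f328071 IH) (Lpn (LP (LK LD1_c5 LD2_c1 LD3_c46))))))
theorem f368002 : Led Lsl_gf (LP (LK LD1_c5 LD2_c1 LD3_c14)) = (LP (LK LD1_c5 LD2_c9 LD3_c61)) :=
  Lgr Lrot138 (Lpe (f170521 IH) (Lpr_gt (f367981 IH) (Lpe (f367991 IH) (Lpr_et (f367993 IH) (Lpe (K23.f320584 IH) (Lpr_ef (f330888 IH) (Lpe (K26.f354865 IH) (Lpr_gt (K25.f171382 IH) (Lpr_df (K25.f171378 IH) (Lpe (K25.f166742 IH) (Lpn (LP (LK LD1_c5 LD2_c9 LD3_c61)))))))))))))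
theorem f170523 : Led Lsl_ct (LP (LK LD1_c9 LD2_c52 LD3_c26)) = (LP (LK LD1_c18 LD2_c4 LD3_c24)) :=
  Lre_c IH (LK LD1_c9 LD2_c52 LD3_c26) (LK LD1_c18 LD2_c4 LD3_c24) Lrfl Lrfl
theorem f354807 : Led Lsl_gf (LP (LK LD1_c5 LD2_c10 LD3_c0)) = (LP (LK LD1_c2 LD2_c32 LD3_c59)) :=
  Lgr Lrot47 (Lpr_gt (K26.f354798 IH) (Lpe (K18.f302292 IH) (Lpe (K18.f302301 IH) (Lpn (LP (LK LD1_c2 LD2_c32 LD3_c59))))))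
theorem f200327 : Led Lsl_bt (LP (LK LD1_c5 LD2_c12 LD3_c23)) = (LP (LK LD1_c2 LD2_c32 LD3_c61)) :=
  Lre_b IH (LK LD1_c5 LD2_c12 LD3_c23) (LK LD1_c2 LD2_c32 LD3_c61) Lrfl Lrfl
theorem f368008 : Led Lsl_gt (LP (LK LD1_c18 LD2_c4 LD3_c24)) = (LP (LK LD1_c10 LD2_c15 LD3_c21)) :=
  Lgr Lrot65 (Lpe (f170523 IH) (Lpr_bt (f170520 IH) (Lpr_gf (f368002 IH) (Lpe (K25.f166748 IH) (Lpr_ct (K26.f166752 IH) (Lpr_gf (f354807 IH) (Lpe (K22.f185616 IH) (Lpe (K22.f200288 IH) (Lpe (f200327 IH) (Lpr_ct (K25.f200328 IH) (Lpn (LP (LK LD1_c10 LD2_c15 LD3_c21)))))))))))))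
theorem f368010 : Led Lsl_ft (LP (LK LD1_c18 LD2_c4 LD3_c24)) = (LP (LK LD1_c9 LD2_c52 LD3_c23)) :=
  Lre_f IH (LK LD1_c18 LD2_c4 LD3_c24) (LK LD1_c9 LD2_c52 LD3_c23) Lrfl Lrfl
theorem f368011 : Led Lsl_at (LP (LK LD1_c9 LD2_c52 LD3_c23)) = (LP (LK LD1_c15 LD2_c30 LD3_c50)) :=
  Lgr Lrot26 (Lpe (f368010 IH) (Lpr_gt (f368008 IH) (Lpe (K25.f349901 IH) (Lpn (LP (LK LD1_c15 LD2_c30 LD3_c50))))))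
theorem f368019 : Led Lsl_af (LP (LK LD1_c9 LD2_c52 LD3_c23)) = (LP (LK LD1_c15 LD2_c30 LD3_c50)) :=
  Lgr Lrot0 (Lpr_at (f368011 IH) (Lpn (LP (LK LD1_c15 LD2_c30 LD3_c50))))
theorem f251455 : Led Lsl_et (LP (LK LD1_c9 LD2_c52 LD3_c23)) = (LP (LK LD1_c5 LD2_c0 LD3_c60)) :=
  Lre_e IH (LK LD1_c9 LD2_c52 LD3_c23) (LK LD1_c5 LD2_c0 LD3_c60) Lrfl Lrfl
theorem f368021 : Led Lsl_at (LP (LK LD1_c5 LD2_c0 LD3_c60)) = (LP (LK LD1_c8 LD2_c15 LD3_c1)) :=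
  Lgr Lrot80 (Lpe (f251455 IH) (Lpr_af (f368019 IH) (Lpe (K25.f191535 IH) (Lpn (LP (LK LD1_c8 LD2_c15 LD3_c1))))))
theorem f368027 : Led Lsl_af (LP (LK LD1_c9 LD2_c52 LD3_c22)) = (LP (LK LD1_c5 LD2_c18 LD3_c12)) :=
  Lgr Lrot117 (Lpr_dt (K10.f184119 IH) (Lpr_at (f368021 IH) (Lpr_dt (K14.f191533 IH) (Lpn (LP (LK LD1_c5 LD2_c18 LD3_c12))))))
theorem f368033 : Led Lsl_ft (LP (LK LD1_c10 LD2_c23 LD3_c57)) = (LP (LK LD1_c5 LD2_c18 LD3_c12)) :=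
  Lgr Lrot2 (Lpr_gt (K10.f32849 IH) (Lpr_gt (K10.f184189 IH) (Lpr_af (f368027 IH) (Lpn (LP (LK LD1_c5 LD2_c18 LD3_c12))))))
theorem f368041 : Led Lsl_ff (LP (LK LD1_c10 LD2_c23 LD3_c57)) = (LP (LK LD1_c5 LD2_c18 LD3_c12)) :=
  Lgr Lrot3 (Lpr_ft (f368033 IH) (Lpn (LP (LK LD1_c5 LD2_c18 LD3_c12))))
theorem f368049 : Led Lsl_at (LP (LK LD1_c10 LD2_c23 LD3_c57)) = (LP (LK LD1_c5 LD2_c18 LD3_c13)) :=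
  Lgr Lrot26 (Lpr_ff (f368041 IH) (Lpr_gt (K14.f32861 IH) (Lpr_gt (K10.f48392 IH) (Lpn (LP (LK LD1_c5 LD2_c18 LD3_c13))))))
theorem f368029 : Led Lsl_at (LP (LK LD1_c9 LD2_c52 LD3_c22)) = (LP (LK LD1_c5 LD2_c18 LD3_c12)) :=
  Lgr Lrot100 (Lpr_af (f368027 IH) (Lpn (LP (LK LD1_c5 LD2_c18 LD3_c12))))
theorem f368059 : Led Lsl_ff (LP (LK LD1_c9 LD2_c52 LD3_c22)) = (LP (LK LD1_c5 LD2_c18 LD3_c13)) :=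
  Lgr Lrot30 (Lpr_at (f368029 IH) (Lpe (f368041 IH) (Lpr_at (f368049 IH) (Lpn (LP (LK LD1_c5 LD2_c18 LD3_c13))))))
theorem f368065 : Led Lsl_ft (LP (LK LD1_c9 LD2_c52 LD3_c22)) = (LP (LK LD1_c5 LD2_c18 LD3_c13)) :=
  Lgr Lrot48 (Lpr_ff (f368059 IH) (Lpn (LP (LK LD1_c5 LD2_c18 LD3_c13))))
theorem f368069 : Led Lsl_ff (LP (LK LD1_c8 LD2_c16 LD3_c17)) = (LP (LK LD1_c8 LD2_c15 LD3_c33)) :=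
  Lgr Lrot23 (Lpr_ct (K10.f188497 IH) (Lpr_ft (f368065 IH) (Lpe (K10.f191485 IH) (Lpn (LP (LK LD1_c8 LD2_c15 LD3_c33))))))
theorem f368075 : Led Lsl_ft (LP (LK LD1_c8 LD2_c13 LD3_c29)) = (LP (LK LD1_c5 LD2_c17 LD3_c15)) :=
  Lgr Lrot54 (Lpe (K15.f192521 IH) (Lpr_ff (f368069 IH) (Lpr_df (K13.f214711 IH) (Lpn (LP (LK LD1_c5 LD2_c17 LD3_c15))))))
theorem f368081 : Led Lsl_af (LP (LK LD1_c9 LD2_c52 LD3_c17)) = (LP (LK LD1_c5 LD2_c17 LD3_c15)) :=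
  Lgr Lrot31 (Lpr_gf (K15.f259335 IH) (Lpe (K15.f261390 IH) (Lpr_ft (f368075 IH) (Lpn (LP (LK LD1_c5 LD2_c17 LD3_c15))))))
theorem f368085 : Led Lsl_at (LP (LK LD1_c5 LD2_c0 LD3_c57)) = (LP (LK LD1_c2 LD2_c35 LD3_c22)) :=
  Lgr Lrot107 (Lpe (K15.f165860 IH) (Lpr_af (f368081 IH) (Lpe (K13.f32088 IH) (Lpn (LP (LK LD1_c2 LD2_c35 LD3_c22))))))
theorem f367657 : Led Lsl_ft (LP (LK LD1_c10 LD2_c24 LD3_c14)) = (LP (LK LD1_c5 LD2_c17 LD3_c20)) :=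
  Lre_f IH (LK LD1_c10 LD2_c24 LD3_c14) (LK LD1_c5 LD2_c17 LD3_c20) Lrfl Lrfl
theorem f263556 : Led Lsl_et (LP (LK LD1_c5 LD2_c17 LD3_c20)) = (LP (LK LD1_c2 LD2_c35 LD3_c25)) :=
  Lre_e IH (LK LD1_c5 LD2_c17 LD3_c20) (LK LD1_c2 LD2_c35 LD3_c25) Lrfl Lrfl
theorem f223248 : Led Lsl_ft (LP (LK LD1_c8 LD2_c27 LD3_c0)) = (LP (LK LD1_c15 LD2_c51 LD3_c57)) :=
  Lre_f IH (LK LD1_c8 LD2_c27 LD3_c0) (LK LD1_c15 LD2_c51 LD3_c57) Lrfl Lrfl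
theorem f367658 : Led Lsl_ft (LP (LK LD1_c2 LD2_c35 LD3_c25)) = (LP (LK LD1_c5 LD2_c0 LD3_c57)) :=
  Lgr Lrot86 (Lpe (f263556 IH) (Lpe (f367657 IH) (Lpr_ef (f367653 IH) (Lpe (f223248 IH) (Lpe (K23.f223244 IH) (Lpn (LP (LK LD1_c5 LD2_c0 LD3_c57))))))))
theorem f363805 : Led Lsl_ft (LP (LK LD1_c2 LD2_c35 LD3_c22)) = (LP (LK LD1_c4 LD2_c6 LD3_c26)) :=
  Lgr Lrot75 (Lpr_bf (K15.f217558 IH) (Lpr_ff (K26.f363801 IH) (Lpe (K14.f252586 IH) (Lpn (LP (LK LD1_c4 LD2_c6 LD3_c26))))))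
theorem f368089 : Led Lsl_af (LP (LK LD1_c2 LD2_c35 LD3_c25)) = (LP (LK LD1_c4 LD2_c6 LD3_c26)) :=
  Lgr Lrot45 (Lpr_ft (f367658 IH) (Lpr_at (f368085 IH) (Lpr_ft (f363805 IH) (Lpn (LP (LK LD1_c4 LD2_c6 LD3_c26))))))
theorem f368095 : Led Lsl_at (LP (LK LD1_c5 LD2_c17 LD3_c20)) = (LP (LK LD1_c8 LD2_c13 LD3_c30)) :=
  Lgr Lrot80 (Lpe (K17.f54049 IH) (Lpr_af (f368089 IH) (Lpe (K14.f231804 IH) (Lpn (LP (LK LD1_c8 LD2_c13 LD3_c30))))))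
theorem f251742 : Led Lsl_ct (LP (LK LD1_c10 LD2_c24 LD3_c11)) = (LP (LK LD1_c5 LD2_c17 LD3_c20)) :=
  Lre_c IH (LK LD1_c10 LD2_c24 LD3_c11) (LK LD1_c5 LD2_c17 LD3_c20) Lrfl Lrfl
theorem f231808 : Led Lsl_bt (LP (LK LD1_c8 LD2_c13 LD3_c30)) = (LP (LK LD1_c4 LD2_c6 LD3_c31)) :=
  Lre_b IH (LK LD1_c8 LD2_c13 LD3_c30) (LK LD1_c4 LD2_c6 LD3_c31) Lrfl Lrfl
theorem f220238 : Led Lsl_ct (LP (LK LD1_c2 LD2_c41 LD3_c13)) = (LP (LK LD1_c5 LD2_c29 LD3_c47)) :=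
  Lre_c IH (LK LD1_c2 LD2_c41 LD3_c13) (LK LD1_c5 LD2_c29 LD3_c47) Lrfl Lrfl
theorem f220239 : Led Lsl_gt (LP (LK LD1_c5 LD2_c29 LD3_c47)) = (LP (LK LD1_c10 LD2_c50 LD3_c48)) :=
  Lre_g IH (LK LD1_c5 LD2_c29 LD3_c47) (LK LD1_c10 LD2_c50 LD3_c48) Lrfl Lrfl
theorem f287855 : Led Lsl_ct (LP (LK LD1_c8 LD2_c13 LD3_c30)) = (LP (LK LD1_c10 LD2_c50 LD3_c48)) :=
  Lgr Lrot63 (Lpr_bt (f231808 IH) (Lpe (K14.f254189 IH) (Lpe (K18.f253650 IH) (Lpr_ct (K17.f183165 IH) (Lpr_gt (K17.f287849 IH) (Lpe (K17.f185657 IH) (Lpr_bt (K12.f185654 IH) (Lpr_gt (K15.f263404 IH) (Lpr_ct (f220238 IH) (Lpr_gt (f220239 IH) (Lpn (LP (LK LD1_c10 LD2_c50 LD3_c48)))))))))))))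
theorem f368097 : Led Lsl_af (LP (LK LD1_c10 LD2_c24 LD3_c11)) = (LP (LK LD1_c10 LD2_c50 LD3_c48)) :=
  Lgr Lrot68 (Lpr_ct (f251742 IH) (Lpr_at (f368095 IH) (Lpr_ct (f287855 IH) (Lpn (LP (LK LD1_c10 LD2_c50 LD3_c48))))))
theorem f368101 : Led Lsl_at (LP (LK LD1_c10 LD2_c24 LD3_c11)) = (LP (LK LD1_c10 LD2_c50 LD3_c48)) :=
  Lgr Lrot100 (Lpr_af (f368097 IH) (Lpn (LP (LK LD1_c10 LD2_c50 LD3_c48))))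
theorem f191369 : Led Lsl_et (LP (LK LD1_c5 LD2_c17 LD3_c19)) = (LP (LK LD1_c10 LD2_c24 LD3_c11)) :=
  Lre_e IH (LK LD1_c5 LD2_c17 LD3_c19) (LK LD1_c10 LD2_c24 LD3_c11) Lrfl Lrfl
theorem f287863 : Led Lsl_ef (LP (LK LD1_c8 LD2_c13 LD3_c29)) = (LP (LK LD1_c10 LD2_c50 LD3_c48)) :=
  Lgr Lrot28 (Lpr_ct (K14.f192520 IH) (Lpr_et (K20.f231799 IH) (Lpr_ct (f287855 IH) (Lpn (LP (LK LD1_c10 LD2_c50 LD3_c48))))))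
theorem f368103 : Led Lsl_af (LP (LK LD1_c5 LD2_c17 LD3_c19)) = (LP (LK LD1_c8 LD2_c13 LD3_c29)) :=
  Lgr Lrot50 (Lpr_et (f191369 IH) (Lpr_at (f368101 IH) (Lpe (f287863 IH) (Lpn (LP (LK LD1_c8 LD2_c13 LD3_c29))))))
theorem f183666 : Led Lsl_bt (LP (LK LD1_c5 LD2_c17 LD3_c19)) = (LP (LK LD1_c10 LD2_c24 LD3_c10)) :=
  Lre_b IH (LK LD1_c5 LD2_c17 LD3_c19) (LK LD1_c10 LD2_c24 LD3_c10) Lrfl Lrfl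
theorem f191380 : Led Lsl_at (LP (LK LD1_c10 LD2_c24 LD3_c10)) = (LP (LK LD1_c18 LD2_c52 LD3_c34)) :=
  Lre_a IH (LK LD1_c10 LD2_c24 LD3_c10) (LK LD1_c18 LD2_c52 LD3_c34) Lrfl Lrfl
theorem f252623 : Led Lsl_bt (LP (LK LD1_c15 LD2_c28 LD3_c13)) = (LP (LK LD1_c8 LD2_c13 LD3_c29)) :=
  Lre_b IH (LK LD1_c15 LD2_c28 LD3_c13) (LK LD1_c8 LD2_c13 LD3_c29) Lrfl Lrfl
theorem f287894 : Led Lsl_at (LP (LK LD1_c25 LD2_c20 LD3_c13)) = (LP (LK LD1_c15 LD2_c28 LD3_c13)) :=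
  Lre_a IH (LK LD1_c25 LD2_c20 LD3_c13) (LK LD1_c15 LD2_c28 LD3_c13) Lrfl Lrfl
theorem f368154 : Led Lsl_bt (LP (LK LD1_c18 LD2_c52 LD3_c34)) = (LP (LK LD1_c25 LD2_c20 LD3_c13)) :=
  Lgr Lrot62 (Lpe (f191380 IH) (Lpe (f183666 IH) (Lpr_af (f368103 IH) (Lpe (f252623 IH) (Lpe (f287894 IH) (Lpn (LP (LK LD1_c25 LD2_c20 LD3_c13))))))))
theorem f191375 : Led Lsl_bt (LP (LK LD1_c10 LD2_c24 LD3_c10)) = (LP (LK LD1_c5 LD2_c17 LD3_c19)) :=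
  Lre_b IH (LK LD1_c10 LD2_c24 LD3_c10) (LK LD1_c5 LD2_c17 LD3_c19) Lrfl Lrfl
theorem f192871 : Led Lsl_bt (LP (LK LD1_c10 LD2_c16 LD3_c49)) = (LP (LK LD1_c18 LD2_c41 LD3_c35)) :=
  Lre_b IH (LK LD1_c10 LD2_c16 LD3_c49) (LK LD1_c18 LD2_c41 LD3_c35) Lrfl Lrfl
theorem f192874 : Led Lsl_cf (LP (LK LD1_c10 LD2_c24 LD3_c10)) = (LP (LK LD1_c18 LD2_c41 LD3_c35)) :=
  Lgr Lrot97 (Lpr_bt (f191375 IH) (Lpr_ct (K13.f191360 IH) (Lpr_bt (K16.f191370 IH) (Lpr_ct (K14.f192867 IH) (Lpr_bt (f192871 IH) (Lpn (LP (LK LD1_c18 LD2_c41 LD3_c35))))))))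
theorem f192876 : Led Lsl_at (LP (LK LD1_c28 LD2_c12 LD3_c60)) = (LP (LK LD1_c18 LD2_c41 LD3_c35)) :=
  Lre_a IH (LK LD1_c28 LD2_c12 LD3_c60) (LK LD1_c18 LD2_c41 LD3_c35) Lrfl Lrfl
theorem f192877 : Led Lsl_ct (LP (LK LD1_c18 LD2_c52 LD3_c34)) = (LP (LK LD1_c28 LD2_c12 LD3_c60)) :=
  Lgr Lrot111 (Lpe (f191380 IH) (Lpr_cf (f192874 IH) (Lpe (f192876 IH) (Lpn (LP (LK LD1_c28 LD2_c12 LD3_c60))))))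
theorem f192879 : Led Lsl_cf (LP (LK LD1_c18 LD2_c52 LD3_c34)) = (LP (LK LD1_c28 LD2_c12 LD3_c60)) :=
  Lgr Lrot11 (Lpr_ct (f192877 IH) (Lpn (LP (LK LD1_c28 LD2_c12 LD3_c60))))
theorem f192864 : Led Lsl_bt (LP (LK LD1_c18 LD2_c41 LD3_c35)) = (LP (LK LD1_c10 LD2_c16 LD3_c49)) :=
  Lre_b IH (LK LD1_c18 LD2_c41 LD3_c35) (LK LD1_c10 LD2_c16 LD3_c49) Lrfl Lrfl
theorem f191022 : Led Lsl_bt (LP (LK LD1_c9 LD2_c33 LD3_c16)) = (LP (LK LD1_c17 LD2_c35 LD3_c42)) :=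
  Lre_b IH (LK LD1_c9 LD2_c33 LD3_c16) (LK LD1_c17 LD2_c35 LD3_c42) Lrfl Lrfl
theorem f195912 : Led Lsl_at (LP (LK LD1_c17 LD2_c35 LD3_c42)) = (LP (LK LD1_c27 LD2_c23 LD3_c45)) :=
  Lre_a IH (LK LD1_c17 LD2_c35 LD3_c42) (LK LD1_c27 LD2_c23 LD3_c45) Lrfl Lrfl
theorem f364164 : Led Lsl_bf (LP (LK LD1_c28 LD2_c12 LD3_c60)) = (LP (LK LD1_c27 LD2_c23 LD3_c45)) :=
  Lgr Lrot81 (Lpr_at (f192876 IH) (Lpr_bt (f192864 IH) (Lpr_at (K26.f364162 IH) (Lpr_bt (f191022 IH) (Lpr_at (f195912 IH) (Lpn (LP (LK LD1_c27 LD2_c23 LD3_c45))))))))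
theorem f287891 : Led Lsl_ct (LP (LK LD1_c25 LD2_c20 LD3_c13)) = (LP (LK LD1_c15 LD2_c28 LD3_c19)) :=
  Lre_c IH (LK LD1_c25 LD2_c20 LD3_c13) (LK LD1_c15 LD2_c28 LD3_c19) Lrfl Lrfl
theorem f265589 : Led Lsl_bt (LP (LK LD1_c15 LD2_c27 LD3_c28)) = (LP (LK LD1_c8 LD2_c13 LD3_c3)) :=
  Lre_b IH (LK LD1_c15 LD2_c27 LD3_c28) (LK LD1_c8 LD2_c13 LD3_c3) Lrfl Lrfl
theorem f336234 : Led Lsl_at (LP (LK LD1_c25 LD2_c19 LD3_c10)) = (LP (LK LD1_c15 LD2_c27 LD3_c28)) :=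
  Lre_a IH (LK LD1_c25 LD2_c19 LD3_c10) (LK LD1_c15 LD2_c27 LD3_c28) Lrfl Lrfl
theorem f55028 : Led Lsl_bt (LP (LK LD1_c4 LD2_c6 LD3_c30)) = (LP (LK LD1_c8 LD2_c13 LD3_c33)) :=
  Lre_b IH (LK LD1_c4 LD2_c6 LD3_c30) (LK LD1_c8 LD2_c13 LD3_c33) Lrfl Lrfl
theorem f363760 : Led Lsl_at (LP (LK LD1_c8 LD2_c13 LD3_c33)) = (LP (LK LD1_c15 LD2_c28 LD3_c19)) :=
  Lre_a IH (LK LD1_c8 LD2_c13 LD3_c33) (LK LD1_c15 LD2_c28 LD3_c19) Lrfl Lrfl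
theorem f363761 : Led Lsl_bf (LP (LK LD1_c25 LD2_c19 LD3_c10)) = (LP (LK LD1_c15 LD2_c28 LD3_c19)) :=
  Lgr Lrot81 (Lpr_at (f336234 IH) (Lpr_bt (f265589 IH) (Lpr_at (K26.f363722 IH) (Lpr_bt (f55028 IH) (Lpr_at (f363760 IH) (Lpn (LP (LK LD1_c15 LD2_c28 LD3_c19))))))))
theorem f368170 : Led Lsl_cf (LP (LK LD1_c27 LD2_c23 LD3_c45)) = (LP (LK LD1_c25 LD2_c19 LD3_c10)) :=
  Lgr Lrot97 (Lpe (f364164 IH) (Lpe (f192879 IH) (Lpr_bt (f368154 IH) (Lpr_ct (f287891 IH) (Lpe (f363761 IH) (Lpn (LP (LK LD1_c25 LD2_c19 LD3_c10))))))))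
theorem f195928 : Led Lsl_at (LP (LK LD1_c27 LD2_c23 LD3_c45)) = (LP (LK LD1_c17 LD2_c35 LD3_c42)) :=
  Lre_a IH (LK LD1_c27 LD2_c23 LD3_c45) (LK LD1_c17 LD2_c35 LD3_c42) Lrfl Lrfl
theorem f336235 : Led Lsl_at (LP (LK LD1_c15 LD2_c27 LD3_c28)) = (LP (LK LD1_c25 LD2_c19 LD3_c10)) :=
  Lre_a IH (LK LD1_c15 LD2_c27 LD3_c28) (LK LD1_c25 LD2_c19 LD3_c10) Lrfl Lrfl
theorem f368172 : Led Lsl_ct (LP (LK LD1_c17 LD2_c35 LD3_c42)) = (LP (LK LD1_c15 LD2_c27 LD3_c28)) :=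
  Lgr Lrot111 (Lpe (f195928 IH) (Lpr_cf (f368170 IH) (Lpe (f336235 IH) (Lpn (LP (LK LD1_c15 LD2_c27 LD3_c28))))))
theorem f195931 : Led Lsl_et (LP (LK LD1_c27 LD2_c23 LD3_c46)) = (LP (LK LD1_c17 LD2_c35 LD3_c42)) :=
  Lre_e IH (LK LD1_c27 LD2_c23 LD3_c46) (LK LD1_c17 LD2_c35 LD3_c42) Lrfl Lrfl
theorem f336230 : Led Lsl_et (LP (LK LD1_c11 LD2_c5 LD3_c17)) = (LP (LK LD1_c8 LD2_c13 LD3_c3)) :=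
  Lgr Lrot87 (Lpr_ef (K22.f336226 IH) (Lpn (LP (LK LD1_c8 LD2_c13 LD3_c3))))
theorem f254247 : Led Lsl_bt (LP (LK LD1_c19 LD2_c58 LD3_c22)) = (LP (LK LD1_c11 LD2_c5 LD3_c17)) :=
  Lre_b IH (LK LD1_c19 LD2_c58 LD3_c22) (LK LD1_c11 LD2_c5 LD3_c17) Lrfl Lrfl
theorem f175309 : Led Lsl_bt (LP (LK LD1_c8 LD2_c13 LD3_c3)) = (LP (LK LD1_c15 LD2_c27 LD3_c28)) :=
  Lre_b IH (LK LD1_c8 LD2_c13 LD3_c3) (LK LD1_c15 LD2_c27 LD3_c28) Lrfl Lrfl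
theorem f336232 : Led Lsl_ef (LP (LK LD1_c19 LD2_c58 LD3_c22)) = (LP (LK LD1_c15 LD2_c27 LD3_c28)) :=
  Lgr Lrot29 (Lpr_bt (f254247 IH) (Lpr_et (f336230 IH) (Lpr_bt (f175309 IH) (Lpn (LP (LK LD1_c15 LD2_c27 LD3_c28))))))
theorem f368176 : Led Lsl_cf (LP (LK LD1_c27 LD2_c23 LD3_c46)) = (LP (LK LD1_c19 LD2_c58 LD3_c22)) :=
  Lgr Lrot39 (Lpr_et (f195931 IH) (Lpr_ct (f368172 IH) (Lpe (f336232 IH) (Lpn (LP (LK LD1_c19 LD2_c58 LD3_c22))))))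
theorem f277157 : Led Lsl_bt (LP (LK LD1_c19 LD2_c11 LD3_c51)) = (LP (LK LD1_c10 LD2_c36 LD3_c3)) :=
  Lre_b IH (LK LD1_c19 LD2_c11 LD3_c51) (LK LD1_c10 LD2_c36 LD3_c3) Lrfl Lrfl
theorem f254246 : Led Lsl_bt (LP (LK LD1_c17 LD2_c35 LD3_c43)) = (LP (LK LD1_c27 LD2_c23 LD3_c46)) :=
  Lre_b IH (LK LD1_c17 LD2_c35 LD3_c43) (LK LD1_c27 LD2_c23 LD3_c46) Lrfl Lrfl
theorem f364151 : Led Lsl_ff (LP (LK LD1_c19 LD2_c11 LD3_c51)) = (LP (LK LD1_c27 LD2_c23 LD3_c46)) :=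
  Lgr Lrot25 (Lpr_bt (f277157 IH) (Lpr_ft (K26.f364149 IH) (Lpr_bt (f254246 IH) (Lpn (LP (LK LD1_c27 LD2_c23 LD3_c46))))))
theorem f277158 : Led Lsl_ct (LP (LK LD1_c19 LD2_c11 LD3_c51)) = (LP (LK LD1_c28 LD2_c37 LD3_c49)) :=
  Lre_c IH (LK LD1_c19 LD2_c11 LD3_c51) (LK LD1_c28 LD2_c37 LD3_c49) Lrfl Lrfl
theorem f368213 : Led Lsl_ft (LP (LK LD1_c28 LD2_c37 LD3_c49)) = (LP (LK LD1_c19 LD2_c58 LD3_c22)) :=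
  Lgr Lrot4 (Lpe (f277158 IH) (Lpr_ff (f364151 IH) (Lpr_cf (f368176 IH) (Lpn (LP (LK LD1_c19 LD2_c58 LD3_c22))))))
theorem f368216 : Led Lsl_ff (LP (LK LD1_c28 LD2_c37 LD3_c49)) = (LP (LK LD1_c19 LD2_c58 LD3_c22)) :=
  Lgr Lrot3 (Lpr_ft (f368213 IH) (Lpn (LP (LK LD1_c19 LD2_c58 LD3_c22))))
theorem f333589 : Led Lsl_bt (LP (LK LD1_c10 LD2_c36 LD3_c3)) = (LP (LK LD1_c19 LD2_c11 LD3_c51)) :=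
  Lre_b IH (LK LD1_c10 LD2_c36 LD3_c3) (LK LD1_c19 LD2_c11 LD3_c51) Lrfl Lrfl
theorem f317759 : Led Lsl_ct (LP (LK LD1_c19 LD2_c29 LD3_c17)) = (LP (LK LD1_c11 LD2_c5 LD3_c3)) :=
  Lgr Lrot59 (Lpr_cf (K20.f317757 IH) (Lpn (LP (LK LD1_c11 LD2_c5 LD3_c3))))
theorem f333590 : Led Lsl_bt (LP (LK LD1_c28 LD2_c37 LD3_c49)) = (LP (LK LD1_c19 LD2_c29 LD3_c17)) :=
  Lgr Lrot128 (Lpe (f277158 IH) (Lpe (f333589 IH) (Lpr_cf (K22.f333452 IH) (Lpr_bf (K23.f317767 IH) (Lpe (f317759 IH) (Lpn (LP (LK LD1_c19 LD2_c29 LD3_c17))))))))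
theorem f253609 : Led Lsl_bt (LP (LK LD1_c11 LD2_c5 LD3_c17)) = (LP (LK LD1_c19 LD2_c58 LD3_c22)) :=
  Lre_b IH (LK LD1_c11 LD2_c5 LD3_c17) (LK LD1_c19 LD2_c58 LD3_c22) Lrfl Lrfl
theorem f368218 : Led Lsl_ft (LP (LK LD1_c19 LD2_c29 LD3_c17)) = (LP (LK LD1_c11 LD2_c5 LD3_c17)) :=
  Lgr Lrot75 (Lpe (f333590 IH) (Lpr_ff (f368216 IH) (Lpe (f253609 IH) (Lpn (LP (LK LD1_c11 LD2_c5 LD3_c17))))))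
theorem f368238 : Led Lsl_af (LP (LK LD1_c8 LD2_c13 LD3_c35)) = (LP (LK LD1_c11 LD2_c5 LD3_c17)) :=
  Lgr Lrot31 (Lpe (K22.f303349 IH) (Lpe (K20.f303351 IH) (Lpr_ft (f368218 IH) (Lpn (LP (LK LD1_c11 LD2_c5 LD3_c17))))))
theorem f248030 : Led Lsl_ct (LP (LK LD1_c8 LD2_c13 LD3_c35)) = (LP (LK LD1_c4 LD2_c6 LD3_c31)) :=
  Lre_c IH (LK LD1_c8 LD2_c13 LD3_c35) (LK LD1_c4 LD2_c6 LD3_c31) Lrfl Lrfl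
theorem f368240 : Led Lsl_at (LP (LK LD1_c4 LD2_c6 LD3_c31)) = (LP (LK LD1_c5 LD2_c36 LD3_c34)) :=
  Lgr Lrot107 (Lpe (f248030 IH) (Lpr_af (f368238 IH) (Lpe (K22.f253602 IH) (Lpn (LP (LK LD1_c5 LD2_c36 LD3_c34))))))
theorem f368251 : Led Lsl_af (LP (LK LD1_c5 LD2_c10 LD3_c6)) = (LP (LK LD1_c5 LD2_c2 LD3_c5)) :=
  Lgr Lrot117 (Lpr_dt (K14.f248006 IH) (Lpr_at (f368240 IH) (Lpe (K14.f253591 IH) (Lpn (LP (LK LD1_c5 LD2_c2 LD3_c5))))))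
theorem f250164 : Led Lsl_ft (LP (LK LD1_c9 LD2_c54 LD3_c56)) = (LP (LK LD1_c5 LD2_c2 LD3_c5)) :=
  Lre_f IH (LK LD1_c9 LD2_c54 LD3_c56) (LK LD1_c5 LD2_c2 LD3_c5) Lrfl Lrfl
theorem f368254 : Led Lsl_gf (LP (LK LD1_c10 LD2_c10 LD3_c57)) = (LP (LK LD1_c9 LD2_c54 LD3_c56)) :=
  Lgr Lrot47 (Lpr_gt (K25.f248011 IH) (Lpr_af (f368251 IH) (Lpe (f250164 IH) (Lpn (LP (LK LD1_c9 LD2_c54 LD3_c56))))))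
theorem f368260 : Led Lsl_gt (LP (LK LD1_c9 LD2_c41 LD3_c37)) = (LP (LK LD1_c8 LD2_c13 LD3_c49)) :=
  Lgr Lrot137 (Lpe (K25.f216287 IH) (Lpe (K25.f252597 IH) (Lpr_gf (f368254 IH) (Lpe (f367204 IH) (Lpe (f367494 IH) (Lpr_gf (f367474 IH) (Lpe (K26.f169023 IH) (Lpr_dt (K24.f167890 IH) (Lpe (K26.f167900 IH) (Lpe (K26.f358626 IH) (Lpn (LP (LK LD1_c8 LD2_c13 LD3_c49)))))))))))))
theorem f167895 : Led Lsl_dt (LP (LK LD1_c16 LD2_c49 LD3_c33)) = (LP (LK LD1_c9 LD2_c0 LD3_c2)) :=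
  Lre_d IH (LK LD1_c16 LD2_c49 LD3_c33) (LK LD1_c9 LD2_c0 LD3_c2) Lrfl Lrfl
theorem f368262 : Led Lsl_gt (LP (LK LD1_c25 LD2_c21 LD3_c49)) = (LP (LK LD1_c16 LD2_c49 LD3_c33)) :=
  Lgr Lrot49 (Lpe (K19.f182850 IH) (Lpr_gf (K25.f356265 IH) (Lpe (K25.f213973 IH) (Lpr_gt (f368260 IH) (Lpr_dt (K26.f358626 IH) (Lpr_gt (K26.f167900 IH) (Lpe (K26.f167883 IH) (Lpe (K24.f167894 IH) (Lpe (f167895 IH) (Lpn (LP (LK LD1_c16 LD2_c49 LD3_c33))))))))))))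
theorem f182863 : Led Lsl_ft (LP (LK LD1_c25 LD2_c21 LD3_c49)) = (LP (LK LD1_c15 LD2_c29 LD3_c6)) :=
  Lre_f IH (LK LD1_c25 LD2_c21 LD3_c49) (LK LD1_c15 LD2_c29 LD3_c6) Lrfl Lrfl
theorem f167903 : Led Lsl_dt (LP (LK LD1_c9 LD2_c0 LD3_c2)) = (LP (LK LD1_c16 LD2_c49 LD3_c33)) :=
  Lre_d IH (LK LD1_c9 LD2_c0 LD3_c2) (LK LD1_c16 LD2_c49 LD3_c33) Lrfl Lrfl
theorem f194701 : Led Lsl_ct (LP (LK LD1_c10 LD2_c35 LD3_c42)) = (LP (LK LD1_c5 LD2_c22 LD3_c40)) :=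
  Lre_c IH (LK LD1_c10 LD2_c35 LD3_c42) (LK LD1_c5 LD2_c22 LD3_c40) Lrfl Lrfl
theorem f194714 : Led Lsl_dt (LP (LK LD1_c19 LD2_c11 LD3_c12)) = (LP (LK LD1_c10 LD2_c35 LD3_c42)) :=
  Lre_d IH (LK LD1_c19 LD2_c11 LD3_c12) (LK LD1_c10 LD2_c35 LD3_c42) Lrfl Lrfl
theorem f350595 : Led Lsl_gt (LP (LK LD1_c16 LD2_c49 LD3_c33)) = (LP (LK LD1_c19 LD2_c11 LD3_c12)) :=
  Lgr Lrot49 (Lpe (f167903 IH) (Lpr_gf (K24.f350593 IH) (Lpe (K24.f231261 IH) (Lpr_gt (K23.f231246 IH) (Lpe (K23.f231251 IH) (Lpr_gt (K23.f231250 IH) (Lpr_dt (K19.f194705 IH) (Lpe (f194701 IH) (Lpe (f194714 IH) (Lpn (LP (LK LD1_c19 LD2_c11 LD3_c12))))))))))))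
theorem f368264 : Led Lsl_at (LP (LK LD1_c15 LD2_c29 LD3_c6)) = (LP (LK LD1_c19 LD2_c11 LD3_c12)) :=
  Lgr Lrot26 (Lpe (f182863 IH) (Lpr_gt (f368262 IH) (Lpr_gt (f350595 IH) (Lpn (LP (LK LD1_c19 LD2_c11 LD3_c12))))))
theorem f182825 : Led Lsl_ct (LP (LK LD1_c25 LD2_c21 LD3_c48)) = (LP (LK LD1_c15 LD2_c29 LD3_c6)) :=
  Lre_c IH (LK LD1_c25 LD2_c21 LD3_c48) (LK LD1_c15 LD2_c29 LD3_c6) Lrfl Lrfl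
theorem f310759 : Led Lsl_ct (LP (LK LD1_c19 LD2_c11 LD3_c12)) = (LP (LK LD1_c28 LD2_c37 LD3_c1)) :=
  Lre_c IH (LK LD1_c19 LD2_c11 LD3_c12) (LK LD1_c28 LD2_c37 LD3_c1) Lrfl Lrfl
theorem f368268 : Led Lsl_af (LP (LK LD1_c25 LD2_c21 LD3_c48)) = (LP (LK LD1_c28 LD2_c37 LD3_c1)) :=
  Lgr Lrot68 (Lpr_ct (f182825 IH) (Lpr_at (f368264 IH) (Lpr_ct (f310759 IH) (Lpn (LP (LK LD1_c28 LD2_c37 LD3_c1))))))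
theorem f182911 : Led Lsl_ct (LP (LK LD1_c15 LD2_c29 LD3_c6)) = (LP (LK LD1_c25 LD2_c21 LD3_c48)) :=
  Lre_c IH (LK LD1_c15 LD2_c29 LD3_c6) (LK LD1_c25 LD2_c21 LD3_c48) Lrfl Lrfl
theorem f182833 : Led Lsl_ct (LP (LK LD1_c5 LD2_c22 LD3_c21)) = (LP (LK LD1_c2 LD2_c37 LD3_c42)) :=
  Lre_c IH (LK LD1_c5 LD2_c22 LD3_c21) (LK LD1_c2 LD2_c37 LD3_c42) Lrfl Lrfl
theorem f182908 : Led Lsl_dt (LP (LK LD1_c10 LD2_c35 LD3_c10)) = (LP (LK LD1_c5 LD2_c22 LD3_c21)) :=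
  Lre_d IH (LK LD1_c10 LD2_c35 LD3_c10) (LK LD1_c5 LD2_c22 LD3_c21) Lrfl Lrfl
theorem f182909 : Led Lsl_ct (LP (LK LD1_c19 LD2_c10 LD3_c44)) = (LP (LK LD1_c10 LD2_c35 LD3_c10)) :=
  Lre_c IH (LK LD1_c19 LD2_c10 LD3_c44) (LK LD1_c10 LD2_c35 LD3_c10) Lrfl Lrfl
theorem f182910 : Led Lsl_dt (LP (LK LD1_c28 LD2_c36 LD3_c45)) = (LP (LK LD1_c19 LD2_c10 LD3_c44)) :=
  Lre_d IH (LK LD1_c28 LD2_c36 LD3_c45) (LK LD1_c19 LD2_c10 LD3_c44) Lrfl Lrfl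
theorem f368273 : Led Lsl_ft (LP (LK LD1_c28 LD2_c36 LD3_c45)) = (LP (LK LD1_c28 LD2_c37 LD3_c1)) :=
  Lgr Lrot142 (Lpr_dt (f182910 IH) (Lpr_ct (f182909 IH) (Lpr_dt (f182908 IH) (Lpr_ct (f182833 IH) (Lpr_dt (K23.f182832 IH) (Lpr_ct (K25.f182818 IH) (Lpr_dt (K25.f54963 IH) (Lpr_ct (f182911 IH) (Lpr_af (f368268 IH) (Lpn (LP (LK LD1_c28 LD2_c37 LD3_c1))))))))))))
theorem f368277 : Led Lsl_ff (LP (LK LD1_c28 LD2_c36 LD3_c45)) = (LP (LK LD1_c28 LD2_c37 LD3_c1)) :=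
  Lgr Lrot3 (Lpr_ft (f368273 IH) (Lpn (LP (LK LD1_c28 LD2_c37 LD3_c1))))
theorem f368271 : Led Lsl_at (LP (LK LD1_c25 LD2_c21 LD3_c48)) = (LP (LK LD1_c28 LD2_c37 LD3_c1)) :=
  Lgr Lrot100 (Lpr_af (f368268 IH) (Lpn (LP (LK LD1_c28 LD2_c37 LD3_c1))))
theorem f182830 : Led Lsl_ft (LP (LK LD1_c15 LD2_c29 LD3_c6)) = (LP (LK LD1_c25 LD2_c21 LD3_c49)) :=
  Lre_f IH (LK LD1_c15 LD2_c29 LD3_c6) (LK LD1_c25 LD2_c21 LD3_c49) Lrfl Lrfl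
theorem f310761 : Led Lsl_ff (LP (LK LD1_c25 LD2_c21 LD3_c48)) = (LP (LK LD1_c28 LD2_c36 LD3_c55)) :=
  Lgr Lrot23 (Lpr_ct (f182825 IH) (Lpr_ft (f182830 IH) (Lpr_ct (K19.f310754 IH) (Lpn (LP (LK LD1_c28 LD2_c36 LD3_c55))))))
theorem f368279 : Led Lsl_at (LP (LK LD1_c28 LD2_c36 LD3_c45)) = (LP (LK LD1_c28 LD2_c36 LD3_c55)) :=
  Lgr Lrot66 (Lpr_ff (f368277 IH) (Lpe (f368271 IH) (Lpr_ff (f310761 IH) (Lpn (LP (LK LD1_c28 LD2_c36 LD3_c55))))))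
theorem f310757 : Led Lsl_cf (LP (LK LD1_c25 LD2_c21 LD3_c49)) = (LP (LK LD1_c28 LD2_c36 LD3_c55)) :=
  Lgr Lrot11 (Lpr_ct (K19.f310754 IH) (Lpn (LP (LK LD1_c28 LD2_c36 LD3_c55))))
theorem f338690 : Led Lsl_gt (LP (LK LD1_c11 LD2_c6 LD3_c1)) = (LP (LK LD1_c19 LD2_c59 LD3_c26)) :=
  Lre_g IH (LK LD1_c11 LD2_c6 LD3_c1) (LK LD1_c19 LD2_c59 LD3_c26) Lrfl Lrfl
theorem f356392 : Led Lsl_af (LP (LK LD1_c19 LD2_c59 LD3_c26)) = (LP (LK LD1_c25 LD2_c21 LD3_c49)) :=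
  Lgr Lrot31 (Lpe (f338690 IH) (Lpr_gf (K25.f356385 IH) (Lpr_ft (f182830 IH) (Lpn (LP (LK LD1_c25 LD2_c21 LD3_c49))))))
theorem f368285 : Led Lsl_cf (LP (LK LD1_c28 LD2_c36 LD3_c45)) = (LP (LK LD1_c19 LD2_c59 LD3_c26)) :=
  Lgr Lrot1 (Lpr_at (f368279 IH) (Lpe (f310757 IH) (Lpe (f356392 IH) (Lpn (LP (LK LD1_c19 LD2_c59 LD3_c26))))))
theorem f310741 : Led Lsl_af (LP (LK LD1_c2 LD2_c37 LD3_c42)) = (LP (LK LD1_c2 LD2_c37 LD3_c52)) :=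
  Lgr Lrot0 (Lpr_at (K19.f310739 IH) (Lpn (LP (LK LD1_c2 LD2_c37 LD3_c52))))
theorem f339580 : Led Lsl_ft (LP (LK LD1_c5 LD2_c22 LD3_c41)) = (LP (LK LD1_c2 LD2_c37 LD3_c52)) :=
  Lre_f IH (LK LD1_c5 LD2_c22 LD3_c41) (LK LD1_c2 LD2_c37 LD3_c52) Lrfl Lrfl
theorem f368304 : Led Lsl_dt (LP (LK LD1_c19 LD2_c11 LD3_c13)) = (LP (LK LD1_c19 LD2_c59 LD3_c26)) :=
  Lgr Lrot32 (Lpe (K17.f194723 IH) (Lpe (K19.f194739 IH) (Lpr_ft (f339580 IH) (Lpe (f310741 IH) (Lpe (f182833 IH) (Lpe (f182908 IH) (Lpe (f182909 IH) (Lpe (f182910 IH) (Lpr_cf (f368285 IH) (Lpn (LP (LK LD1_c19 LD2_c59 LD3_c26))))))))))))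
theorem f368314 : Led Lsl_ff (LP (LK LD1_c19 LD2_c11 LD3_c12)) = (LP (LK LD1_c19 LD2_c59 LD3_c26)) :=
  Lgr Lrot19 (Lpr_dt (f194714 IH) (Lpr_ft (K17.f283651 IH) (Lpr_dt (f368304 IH) (Lpn (LP (LK LD1_c19 LD2_c59 LD3_c26))))))
theorem f256137 : Led Lsl_dt (LP (LK LD1_c10 LD2_c35 LD3_c42)) = (LP (LK LD1_c19 LD2_c11 LD3_c12)) :=
  Lre_d IH (LK LD1_c10 LD2_c35 LD3_c42) (LK LD1_c19 LD2_c11 LD3_c12) Lrfl Lrfl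
theorem f310771 : Led Lsl_af (LP (LK LD1_c15 LD2_c29 LD3_c6)) = (LP (LK LD1_c19 LD2_c11 LD3_c12)) :=
  Lgr Lrot117 (Lpr_dt (K25.f182824 IH) (Lpr_at (K19.f310763 IH) (Lpr_dt (f256137 IH) (Lpn (LP (LK LD1_c19 LD2_c11 LD3_c12))))))
theorem f368333 : Led Lsl_gf (LP (LK LD1_c24 LD2_c49 LD3_c59)) = (LP (LK LD1_c19 LD2_c59 LD3_c26)) :=
  Lgr Lrot47 (Lpr_gt (K25.f356383 IH) (Lpr_af (f310771 IH) (Lpr_ff (f368314 IH) (Lpn (LP (LK LD1_c19 LD2_c59 LD3_c26))))))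
theorem f353657 : Led Lsl_dt (LP (LK LD1_c24 LD2_c49 LD3_c59)) = (LP (LK LD1_c15 LD2_c1 LD3_c44)) :=
  Lre_d IH (LK LD1_c24 LD2_c49 LD3_c59) (LK LD1_c15 LD2_c1 LD3_c44) Lrfl Lrfl
theorem f358743 : Led Lsl_df (LP (LK LD1_c7 LD2_c57 LD3_c61)) = (LP (LK LD1_c9 LD2_c0 LD3_c4)) :=
  Lgr Lrot78 (Lpr_ft (K26.f356360 IH) (Lpr_dt (K26.f358732 IH) (Lpr_ft (K26.f358670 IH) (Lpn (LP (LK LD1_c9 LD2_c0 LD3_c4))))))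
theorem f342391 : Led Lsl_gf (LP (LK LD1_c9 LD2_c41 LD3_c39)) = (LP (LK LD1_c5 LD2_c36 LD3_c61)) :=
  Lgr Lrot76 (Lpe (K21.f325033 IH) (Lpe (K21.f187319 IH) (Lpr_gt (K23.f342389 IH) (Lpn (LP (LK LD1_c5 LD2_c36 LD3_c61))))))
theorem f368335 : Led Lsl_gf (LP (LK LD1_c9 LD2_c0 LD3_c4)) = (LP (LK LD1_c4 LD2_c55 LD3_c1)) :=
  Lgr Lrot143 (Lpe (f358743 IH) (Lpe (K26.f356337 IH) (Lpe (f353657 IH) (Lpr_gf (f368333 IH) (Lpe (f368304 IH) (Lpr_gf (K23.f338642 IH) (Lpe (K23.f338641 IH) (Lpe (f342391 IH) (Lpr_dt (K25.f213948 IH) (Lpn (LP (LK LD1_c4 LD2_c55 LD3_c1))))))))))))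
theorem f368344 : Led Lsl_gt (LP (LK LD1_c11 LD2_c5 LD3_c60)) = (LP (LK LD1_c8 LD2_c53 LD3_c17)) :=
  Lgr Lrot65 (Lpe (K26.f356359 IH) (Lpr_bt (K26.f358678 IH) (Lpr_gf (f368335 IH) (Lpe (K13.f213954 IH) (Lpr_ct (K25.f356571 IH) (Lpe (K25.f42379 IH) (Lpe (K25.f42309 IH) (Lpe (K21.f42299 IH) (Lpe (K25.f42391 IH) (Lpr_ct (K24.f231261 IH) (Lpn (LP (LK LD1_c8 LD2_c53 LD3_c17)))))))))))))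
theorem f356345 : Led Lsl_ct (LP (LK LD1_c11 LD2_c5 LD3_c60)) = (LP (LK LD1_c5 LD2_c36 LD3_c56)) :=
  Lre_c IH (LK LD1_c11 LD2_c5 LD3_c60) (LK LD1_c5 LD2_c36 LD3_c56) Lrfl Lrfl
theorem f42393 : Led Lsl_dt (LP (LK LD1_c16 LD2_c37 LD3_c11)) = (LP (LK LD1_c8 LD2_c53 LD3_c17)) :=
  Lre_d IH (LK LD1_c16 LD2_c37 LD3_c11) (LK LD1_c8 LD2_c53 LD3_c17) Lrfl Lrfl
theorem f338684 : Led Lsl_dt (LP (LK LD1_c11 LD2_c6 LD3_c0)) = (LP (LK LD1_c19 LD2_c59 LD3_c25)) :=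
  Lre_d IH (LK LD1_c11 LD2_c6 LD3_c0) (LK LD1_c19 LD2_c59 LD3_c25) Lrfl Lrfl
theorem f338710 : Led Lsl_ff (LP (LK LD1_c16 LD2_c37 LD3_c11)) = (LP (LK LD1_c19 LD2_c59 LD3_c25)) :=
  Lgr Lrot19 (Lpr_dt (f42393 IH) (Lpr_ft (K24.f338703 IH) (Lpr_dt (f338684 IH) (Lpn (LP (LK LD1_c19 LD2_c59 LD3_c25))))))
theorem f276361 : Led Lsl_ft (LP (LK LD1_c15 LD2_c41 LD3_c57)) = (LP (LK LD1_c25 LD2_c37 LD3_c38)) :=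
  Lre_f IH (LK LD1_c15 LD2_c41 LD3_c57) (LK LD1_c25 LD2_c37 LD3_c38) Lrfl Lrfl
theorem f338712 : Led Lsl_at (LP (LK LD1_c25 LD2_c37 LD3_c38)) = (LP (LK LD1_c19 LD2_c59 LD3_c25)) :=
  Lgr Lrot66 (Lpe (f276361 IH) (Lpe (K16.f276346 IH) (Lpr_ff (f338710 IH) (Lpn (LP (LK LD1_c19 LD2_c59 LD3_c25))))))
theorem f338733 : Led Lsl_af (LP (LK LD1_c25 LD2_c37 LD3_c38)) = (LP (LK LD1_c19 LD2_c59 LD3_c25)) :=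
  Lgr Lrot0 (Lpr_at (f338712 IH) (Lpn (LP (LK LD1_c19 LD2_c59 LD3_c25))))
theorem f283476 : Led Lsl_ef (LP (LK LD1_c15 LD2_c29 LD3_c7)) = (LP (LK LD1_c20 LD2_c56 LD3_c43)) :=
  Lgr Lrot28 (Lpe (K19.f182846 IH) (Lpr_et (K17.f283470 IH) (Lpr_ct (K22.f283475 IH) (Lpn (LP (LK LD1_c20 LD2_c56 LD3_c43))))))
theorem f283654 : Led Lsl_af (LP (LK LD1_c19 LD2_c11 LD3_c13)) = (LP (LK LD1_c15 LD2_c29 LD3_c7)) :=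
  Lgr Lrot50 (Lpr_et (K17.f283652 IH) (Lpe (K26.f283528 IH) (Lpe (f283476 IH) (Lpn (LP (LK LD1_c15 LD2_c29 LD3_c7))))))
theorem f182862 : Led Lsl_ft (LP (LK LD1_c8 LD2_c13 LD3_c54)) = (LP (LK LD1_c15 LD2_c29 LD3_c7)) :=
  Lre_f IH (LK LD1_c8 LD2_c13 LD3_c54) (LK LD1_c15 LD2_c29 LD3_c7) Lrfl Lrfl
theorem f338644 : Led Lsl_gt (LP (LK LD1_c8 LD2_c13 LD3_c54)) = (LP (LK LD1_c11 LD2_c6 LD3_c6)) :=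
  Lgr Lrot5 (Lpr_ft (f182862 IH) (Lpe (f283654 IH) (Lpr_gf (K23.f338642 IH) (Lpn (LP (LK LD1_c11 LD2_c6 LD3_c6))))))
theorem f170819 : Led Lsl_dt (LP (LK LD1_c25 LD2_c37 LD3_c38)) = (LP (LK LD1_c15 LD2_c41 LD3_c58)) :=
  Lre_d IH (LK LD1_c25 LD2_c37 LD3_c38) (LK LD1_c15 LD2_c41 LD3_c58) Lrfl Lrfl
theorem f338648 : Led Lsl_dt (LP (LK LD1_c11 LD2_c6 LD3_c6)) = (LP (LK LD1_c19 LD2_c59 LD3_c34)) :=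
  Lre_d IH (LK LD1_c11 LD2_c6 LD3_c6) (LK LD1_c19 LD2_c59 LD3_c34) Lrfl Lrfl
theorem f338651 : Led Lsl_gf (LP (LK LD1_c25 LD2_c37 LD3_c38)) = (LP (LK LD1_c19 LD2_c59 LD3_c34)) :=
  Lgr Lrot143 (Lpr_dt (f170819 IH) (Lpe (K16.f170732 IH) (Lpe (K17.f170816 IH) (Lpe (K19.f284541 IH) (Lpr_df (K19.f284543 IH) (Lpe (K19.f182831 IH) (Lpr_cf (K19.f182580 IH) (Lpr_gt (f338644 IH) (Lpr_dt (f338648 IH) (Lpn (LP (LK LD1_c19 LD2_c59 LD3_c34))))))))))))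
theorem f338691 : Led Lsl_dt (LP (LK LD1_c19 LD2_c59 LD3_c25)) = (LP (LK LD1_c11 LD2_c6 LD3_c0)) :=
  Lre_d IH (LK LD1_c19 LD2_c59 LD3_c25) (LK LD1_c11 LD2_c6 LD3_c0) Lrfl Lrfl
theorem f338699 : Led Lsl_ft (LP (LK LD1_c16 LD2_c37 LD3_c11)) = (LP (LK LD1_c19 LD2_c59 LD3_c25)) :=
  Lgr Lrot54 (Lpe (K16.f231311 IH) (Lpr_ff (K24.f338688 IH) (Lpe (f338691 IH) (Lpn (LP (LK LD1_c19 LD2_c59 LD3_c25))))))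
theorem f338740 : Led Lsl_gf (LP (LK LD1_c19 LD2_c59 LD3_c34)) = (LP (LK LD1_c16 LD2_c37 LD3_c11)) :=
  Lgr Lrot47 (Lpe (f338651 IH) (Lpr_af (f338733 IH) (Lpe (f338699 IH) (Lpn (LP (LK LD1_c16 LD2_c37 LD3_c11))))))
theorem f338646 : Led Lsl_dt (LP (LK LD1_c19 LD2_c59 LD3_c34)) = (LP (LK LD1_c11 LD2_c6 LD3_c6)) :=
  Lre_d IH (LK LD1_c19 LD2_c59 LD3_c34) (LK LD1_c11 LD2_c6 LD3_c6) Lrfl Lrfl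
theorem f368348 : Led Lsl_gt (LP (LK LD1_c5 LD2_c36 LD3_c56)) = (LP (LK LD1_c7 LD2_c57 LD3_c38)) :=
  Lgr Lrot94 (Lpe (f356345 IH) (Lpr_gt (f368344 IH) (Lpr_dt (K16.f231311 IH) (Lpe (f338740 IH) (Lpr_dt (f338646 IH) (Lpe (K23.f338641 IH) (Lpe (K23.f342406 IH) (Lpe (K23.f194299 IH) (Lpr_df (K25.f247689 IH) (Lpn (LP (LK LD1_c7 LD2_c57 LD3_c38))))))))))))
theorem f356339 : Led Lsl_bt (LP (LK LD1_c7 LD2_c57 LD3_c61)) = (LP (LK LD1_c4 LD2_c54 LD3_c61)) :=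
  Lgr Lrot92 (Lpr_ct (K25.f316537 IH) (Lpr_gt (K25.f356331 IH) (Lpe (K24.f338669 IH) (Lpr_bt (K13.f231359 IH) (Lpe (K23.f343820 IH) (Lpr_ct (K25.f199048 IH) (Lpe (K25.f341160 IH) (Lpe (K25.f213932 IH) (Lpr_bt (K25.f213928 IH) (Lpr_gt (K25.f214083 IH) (Lpn (LP (LK LD1_c4 LD2_c54 LD3_c61)))))))))))))
theorem f356346 : Led Lsl_ff (LP (LK LD1_c7 LD2_c57 LD3_c61)) = (LP (LK LD1_c5 LD2_c36 LD3_c56)) :=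
  Lgr Lrot23 (Lpr_ct (K25.f316537 IH) (Lpr_ft (K25.f356335 IH) (Lpr_ct (f356345 IH) (Lpn (LP (LK LD1_c5 LD2_c36 LD3_c56))))))
theorem f358673 : Led Lsl_bf (LP (LK LD1_c5 LD2_c36 LD3_c56)) = (LP (LK LD1_c9 LD2_c0 LD3_c4)) :=
  Lgr Lrot61 (Lpe (f356346 IH) (Lpr_bt (f356339 IH) (Lpr_ft (K26.f358670 IH) (Lpn (LP (LK LD1_c9 LD2_c0 LD3_c4))))))
theorem f182834 : Led Lsl_gt (LP (LK LD1_c10 LD2_c35 LD3_c9)) = (LP (LK LD1_c5 LD2_c22 LD3_c21)) :=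
  Lre_g IH (LK LD1_c10 LD2_c35 LD3_c9) (LK LD1_c5 LD2_c22 LD3_c21) Lrfl Lrfl
theorem f368342 : Led Lsl_ct (LP (LK LD1_c9 LD2_c0 LD3_c4)) = (LP (LK LD1_c10 LD2_c35 LD3_c9)) :=
  Lgr Lrot152 (Lpr_gf (f368335 IH) (Lpe (K25.f213948 IH) (Lpe (K25.f325035 IH) (Lpr_ct (K25.f187334 IH) (Lpr_gt (K25.f356394 IH) (Lpe (K19.f182580 IH) (Lpe (K23.f182832 IH) (Lpe (f182833 IH) (Lpe (f182834 IH) (Lpn (LP (LK LD1_c10 LD2_c35 LD3_c9))))))))))))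
theorem f368352 : Led Lsl_gf (LP (LK LD1_c10 LD2_c35 LD3_c9)) = (LP (LK LD1_c10 LD2_c35 LD3_c36)) :=
  Lgr Lrot126 (Lpe (f368342 IH) (Lpe (f358673 IH) (Lpr_gt (f368348 IH) (Lpr_ct (K25.f199708 IH) (Lpr_gt (K25.f353605 IH) (Lpe (K25.f170833 IH) (Lpr_bt (K25.f352521 IH) (Lpr_gt (K19.f310567 IH) (Lpe (K10.f194728 IH) (Lpr_ct (K24.f305505 IH) (Lpn (LP (LK LD1_c10 LD2_c35 LD3_c36)))))))))))))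
theorem f352754 : Led Lsl_dt (LP (LK LD1_c5 LD2_c28 LD3_c7)) = (LP (LK LD1_c5 LD2_c22 LD3_c22)) :=
  Lgr Lrot42 (Lpr_df (K25.f352750 IH) (Lpn (LP (LK LD1_c5 LD2_c22 LD3_c22))))
theorem f368354 : Led Lsl_ct (LP (LK LD1_c10 LD2_c35 LD3_c9)) = (LP (LK LD1_c9 LD2_c0 LD3_c4)) :=
  Lgr Lrot110 (Lpr_gf (f368352 IH) (Lpe (K24.f305505 IH) (Lpr_gf (K25.f352734 IH) (Lpe (f352754 IH) (Lpr_gt (K25.f352765 IH) (Lpr_ct (K17.f170728 IH) (Lpe (K25.f356333 IH) (Lpr_ct (K26.f356337 IH) (Lpr_df (f358743 IH) (Lpn (LP (LK LD1_c9 LD2_c0 LD3_c4))))))))))))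
theorem f368360 : Led Lsl_ff (LP (LK LD1_c10 LD2_c35 LD3_c9)) = (LP (LK LD1_c9 LD2_c41 LD3_c36)) :=
  Lgr Lrot23 (Lpr_ct (f368354 IH) (Lpe (K26.f358676 IH) (Lpr_ct (K25.f291812 IH) (Lpn (LP (LK LD1_c9 LD2_c41 LD3_c36))))))
theorem f368363 : Led Lsl_ft (LP (LK LD1_c10 LD2_c35 LD3_c9)) = (LP (LK LD1_c9 LD2_c41 LD3_c36)) :=
  Lgr Lrot48 (Lpr_ff (f368360 IH) (Lpn (LP (LK LD1_c9 LD2_c41 LD3_c36))))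
theorem f368367 : Led Lsl_af (LP (LK LD1_c5 LD2_c36 LD3_c53)) = (LP (LK LD1_c9 LD2_c41 LD3_c36)) :=
  Lgr Lrot31 (Lpe (K24.f338666 IH) (Lpe (f182834 IH) (Lpr_ft (f368363 IH) (Lpn (LP (LK LD1_c9 LD2_c41 LD3_c36))))))
theorem f368356 : Led Lsl_af (LP (LK LD1_c10 LD2_c35 LD3_c9)) = (LP (LK LD1_c9 LD2_c0 LD3_c5)) :=
  Lgr Lrot68 (Lpr_ct (f368354 IH) (Lpr_at (K26.f167901 IH) (Lpr_ct (K24.f167897 IH) (Lpn (LP (LK LD1_c9 LD2_c0 LD3_c5))))))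
theorem f368375 : Led Lsl_ft (LP (LK LD1_c5 LD2_c36 LD3_c53)) = (LP (LK LD1_c9 LD2_c0 LD3_c5)) :=
  Lgr Lrot101 (Lpr_af (f368367 IH) (Lpe (f368363 IH) (Lpr_af (f368356 IH) (Lpn (LP (LK LD1_c9 LD2_c0 LD3_c5))))))
theorem f368377 : Led Lsl_ff (LP (LK LD1_c2 LD2_c44 LD3_c18)) = (LP (LK LD1_c4 LD2_c30 LD3_c60)) :=
  Lgr Lrot23 (Lpr_ct (K24.f178234 IH) (Lpr_ft (f368375 IH) (Lpr_ct (K24.f167899 IH) (Lpn (LP (LK LD1_c4 LD2_c30 LD3_c60))))))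
theorem f358703 : Led Lsl_ft (LP (LK LD1_c11 LD2_c57 LD3_c12)) = (LP (LK LD1_c9 LD2_c0 LD3_c6)) :=
  Lgr Lrot75 (Lpe (K26.f169028 IH) (Lpr_ff (K26.f358701 IH) (Lpe (K26.f169027 IH) (Lpn (LP (LK LD1_c9 LD2_c0 LD3_c6))))))
theorem f368385 : Led Lsl_ft (LP (LK LD1_c5 LD2_c36 LD3_c54)) = (LP (LK LD1_c6 LD2_c7 LD3_c8)) :=
  Lgr Lrot86 (Lpe (K25.f178230 IH) (Lpr_ff (f368377 IH) (Lpe (K26.f167905 IH) (Lpe (f358703 IH) (Lpe (K26.f169034 IH) (Lpn (LP (LK LD1_c6 LD2_c7 LD3_c8))))))))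
theorem f169039 : Led Lsl_at (LP (LK LD1_c6 LD2_c7 LD3_c8)) = (LP (LK LD1_c11 LD2_c57 LD3_c10)) :=
  Lre_a IH (LK LD1_c6 LD2_c7 LD3_c8) (LK LD1_c11 LD2_c57 LD3_c10) Lrfl Lrfl
theorem f368395 : Led Lsl_gt (LP (LK LD1_c8 LD2_c11 LD3_c15)) = (LP (LK LD1_c11 LD2_c57 LD3_c10)) :=
  Lgr Lrot46 (Lpr_gf (K26.f360377 IH) (Lpr_ft (f368385 IH) (Lpr_at (f169039 IH) (Lpn (LP (LK LD1_c11 LD2_c57 LD3_c10))))))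
theorem f42236 : Led Lsl_bt (LP (LK LD1_c6 LD2_c4 LD3_c35)) = (LP (LK LD1_c2 LD2_c58 LD3_c32)) :=
  Lre_b IH (LK LD1_c6 LD2_c4 LD3_c35) (LK LD1_c2 LD2_c58 LD3_c32) Lrfl Lrfl
theorem f368401 : Led Lsl_bt (LP (LK LD1_c9 LD2_c42 LD3_c43)) = (LP (LK LD1_c11 LD2_c57 LD3_c10)) :=
  Lgr Lrot92 (Lpr_ct (f291804 IH) (Lpr_gt (f358402 IH) (Lpe (K26.f42237 IH) (Lpr_bt (f42236 IH) (Lpr_gt (K21.f42195 IH) (Lpr_ct (K26.f42201 IH) (Lpr_gt (K26.f42202 IH) (Lpr_cf (K26.f360366 IH) (Lpr_bt (K26.f223951 IH) (Lpr_gt (f368395 IH) (Lpn (LP (LK LD1_c11 LD2_c57 LD3_c10)))))))))))))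
theorem f291808 : Led Lsl_ct (LP (LK LD1_c17 LD2_c51 LD3_c34)) = (LP (LK LD1_c9 LD2_c42 LD3_c43)) :=
  Lre_c IH (LK LD1_c17 LD2_c51 LD3_c34) (LK LD1_c9 LD2_c42 LD3_c43) Lrfl Lrfl
theorem f351982 : Led Lsl_bt (LP (LK LD1_c27 LD2_c38 LD3_c10)) = (LP (LK LD1_c17 LD2_c51 LD3_c34)) :=
  Lre_b IH (LK LD1_c27 LD2_c38 LD3_c10) (LK LD1_c17 LD2_c51 LD3_c34) Lrfl Lrfl
theorem f351891 : Led Lsl_ct (LP (LK LD1_c7 LD2_c58 LD3_c23)) = (LP (LK LD1_c15 LD2_c2 LD3_c31)) :=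
  Lre_c IH (LK LD1_c7 LD2_c58 LD3_c23) (LK LD1_c15 LD2_c2 LD3_c31) Lrfl Lrfl
theorem f358542 : Led Lsl_bf (LP (LK LD1_c7 LD2_c58 LD3_c23)) = (LP (LK LD1_c4 LD2_c55 LD3_c31)) :=
  Lgr Lrot96 (Lpr_et (K26.f358514 IH) (Lpe (K22.f336606 IH) (Lpr_et (K26.f358540 IH) (Lpn (LP (LK LD1_c4 LD2_c55 LD3_c31))))))
theorem f223975 : Led Lsl_bf (LP (LK LD1_c15 LD2_c1 LD3_c6)) = (LP (LK LD1_c10 LD2_c41 LD3_c4)) :=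
  Lgr Lrot93 (Lpr_dt (K26.f223964 IH) (Lpr_bt (K26.f223944 IH) (Lpe (K26.f223926 IH) (Lpn (LP (LK LD1_c10 LD2_c41 LD3_c4))))))
theorem f223945 : Led Lsl_ct (LP (LK LD1_c10 LD2_c41 LD3_c4)) = (LP (LK LD1_c5 LD2_c25 LD3_c10)) :=
  Lre_c IH (LK LD1_c10 LD2_c41 LD3_c4) (LK LD1_c5 LD2_c25 LD3_c10) Lrfl Lrfl
theorem f367511 : Led Lsl_gf (LP (LK LD1_c5 LD2_c25 LD3_c10)) = (LP (LK LD1_c10 LD2_c31 LD3_c53)) :=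
  Lgr Lrot129 (Lpe (f223945 IH) (Lpe (f223975 IH) (Lpr_gt (K26.f360380 IH) (Lpr_bf (f358542 IH) (Lpr_ct (f358521 IH) (Lpr_gt (f367504 IH) (Lpr_cf (K18.f168677 IH) (Lpr_bt (K25.f42181 IH) (Lpr_gt (K24.f42199 IH) (Lpr_ct (f42200 IH) (Lpn (LP (LK LD1_c10 LD2_c31 LD3_c53)))))))))))))
theorem f211357 : Led Lsl_at (LP (LK LD1_c4 LD2_c4 LD3_c1)) = (LP (LK LD1_c8 LD2_c8 LD3_c33)) :=
  Lre_a IH (LK LD1_c4 LD2_c4 LD3_c1) (LK LD1_c8 LD2_c8 LD3_c33) Lrfl Lrfl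
theorem f265419 : Led Lsl_af (LP (LK LD1_c2 LD2_c11 LD3_c17)) = (LP (LK LD1_c4 LD2_c27 LD3_c35)) :=
  Lgr Lrot0 (Lpr_at (K15.f265417 IH) (Lpn (LP (LK LD1_c4 LD2_c27 LD3_c35))))
theorem f293288 : Led Lsl_bt (LP (LK LD1_c8 LD2_c8 LD3_c33)) = (LP (LK LD1_c4 LD2_c27 LD3_c35)) :=
  Lgr Lrot62 (Lpe (f211357 IH) (Lpe (K18.f211299 IH) (Lpr_af (K18.f293262 IH) (Lpe (K15.f223392 IH) (Lpr_af (f265419 IH) (Lpn (LP (LK LD1_c4 LD2_c27 LD3_c35))))))))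
theorem f367513 : Led Lsl_gt (LP (LK LD1_c15 LD2_c2 LD3_c31)) = (LP (LK LD1_c7 LD2_c58 LD3_c31)) :=
  Lgr Lrot149 (Lpe (f351891 IH) (Lpe (K26.f360380 IH) (Lpr_bf (f223975 IH) (Lpr_ct (f223945 IH) (Lpr_gf (f367511 IH) (Lpe (f42200 IH) (Lpr_bt (f345530 IH) (Lpe (K20.f44672 IH) (Lpe (f293288 IH) (Lpr_ct (K17.f290761 IH) (Lpn (LP (LK LD1_c7 LD2_c58 LD3_c31)))))))))))))
theorem f290732 : Led Lsl_cf (LP (LK LD1_c8 LD2_c8 LD3_c33)) = (LP (LK LD1_c7 LD2_c58 LD3_c31)) :=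
  Lgr Lrot1 (Lpr_at (K18.f290731 IH) (Lpr_ct (K26.f211363 IH) (Lpr_at (K17.f290719 IH) (Lpn (LP (LK LD1_c7 LD2_c58 LD3_c31))))))
theorem f303585 : Led Lsl_ct (LP (LK LD1_c10 LD2_c33 LD3_c9)) = (LP (LK LD1_c5 LD2_c21 LD3_c27)) :=
  Lre_c IH (LK LD1_c10 LD2_c33 LD3_c9) (LK LD1_c5 LD2_c21 LD3_c27) Lrfl Lrfl
theorem f230704 : Led Lsl_gt (LP (LK LD1_c19 LD2_c6 LD3_c47)) = (LP (LK LD1_c10 LD2_c33 LD3_c9)) :=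
  Lre_g IH (LK LD1_c19 LD2_c6 LD3_c47) (LK LD1_c10 LD2_c33 LD3_c9) Lrfl Lrfl
theorem f368399 : Led Lsl_cf (LP (LK LD1_c19 LD2_c6 LD3_c47)) = (LP (LK LD1_c11 LD2_c57 LD3_c10)) :=
  Lgr Lrot169 (Lpr_gt (f230704 IH) (Lpr_ct (f303585 IH) (Lpr_df (K25.f300762 IH) (Lpr_cf (f290732 IH) (Lpe (f367513 IH) (Lpe (f351891 IH) (Lpe (K26.f360380 IH) (Lpr_df (K26.f223979 IH) (Lpr_gt (f368395 IH) (Lpn (LP (LK LD1_c11 LD2_c57 LD3_c10))))))))))))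
theorem f368405 : Led Lsl_bt (LP (LK LD1_c19 LD2_c6 LD3_c47)) = (LP (LK LD1_c28 LD2_c32 LD3_c20)) :=
  Lre_b IH (LK LD1_c19 LD2_c6 LD3_c47) (LK LD1_c28 LD2_c32 LD3_c20) Lrfl Lrfl
theorem f368406 : Led Lsl_cf (LP (LK LD1_c27 LD2_c38 LD3_c10)) = (LP (LK LD1_c28 LD2_c32 LD3_c20)) :=
  Lgr Lrot97 (Lpr_bt (f351982 IH) (Lpr_ct (f291808 IH) (Lpr_bt (f368401 IH) (Lpe (f368399 IH) (Lpr_bt (f368405 IH) (Lpn (LP (LK LD1_c28 LD2_c32 LD3_c20))))))))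
theorem f368408 : Led Lsl_ct (LP (LK LD1_c27 LD2_c38 LD3_c10)) = (LP (LK LD1_c28 LD2_c32 LD3_c20)) :=
  Lgr Lrot59 (Lpr_cf (f368406 IH) (Lpn (LP (LK LD1_c28 LD2_c32 LD3_c20))))
theorem f291809 : Led Lsl_bt (LP (LK LD1_c17 LD2_c51 LD3_c34)) = (LP (LK LD1_c27 LD2_c38 LD3_c10)) :=
  Lre_b IH (LK LD1_c17 LD2_c51 LD3_c34) (LK LD1_c27 LD2_c38 LD3_c10) Lrfl Lrfl
theorem f368403 : Led Lsl_bf (LP (LK LD1_c9 LD2_c42 LD3_c43)) = (LP (LK LD1_c11 LD2_c57 LD3_c10)) :=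
  Lgr Lrot24 (Lpr_bt (f368401 IH) (Lpn (LP (LK LD1_c11 LD2_c57 LD3_c10))))
theorem f303674 : Led Lsl_bt (LP (LK LD1_c28 LD2_c32 LD3_c20)) = (LP (LK LD1_c19 LD2_c6 LD3_c47)) :=
  Lre_b IH (LK LD1_c28 LD2_c32 LD3_c20) (LK LD1_c19 LD2_c6 LD3_c47) Lrfl Lrfl
theorem f368410 : Led Lsl_cf (LP (LK LD1_c11 LD2_c57 LD3_c10)) = (LP (LK LD1_c19 LD2_c6 LD3_c47)) :=
  Lgr Lrot97 (Lpe (f368403 IH) (Lpr_ct (f291804 IH) (Lpr_bt (f291809 IH) (Lpr_ct (f368408 IH) (Lpr_bt (f303674 IH) (Lpn (LP (LK LD1_c19 LD2_c6 LD3_c47))))))))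
theorem f169062 : Led Lsl_at (LP (LK LD1_c11 LD2_c57 LD3_c10)) = (LP (LK LD1_c6 LD2_c7 LD3_c8)) :=
  Lre_a IH (LK LD1_c11 LD2_c57 LD3_c10) (LK LD1_c6 LD2_c7 LD3_c8) Lrfl Lrfl
theorem f368412 : Led Lsl_at (LP (LK LD1_c11 LD2_c57 LD3_c11)) = (LP (LK LD1_c19 LD2_c6 LD3_c47)) :=
  Lgr Lrot107 (Lpe (K26.f169043 IH) (Lpe (f169062 IH) (Lpr_cf (f368410 IH) (Lpn (LP (LK LD1_c19 LD2_c6 LD3_c47))))))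
theorem f368414 : Led Lsl_af (LP (LK LD1_c11 LD2_c57 LD3_c11)) = (LP (LK LD1_c19 LD2_c6 LD3_c47)) :=
  Lgr Lrot0 (Lpr_at (f368412 IH) (Lpn (LP (LK LD1_c19 LD2_c6 LD3_c47))))
theorem f368389 : Led Lsl_ff (LP (LK LD1_c11 LD2_c5 LD3_c58)) = (LP (LK LD1_c11 LD2_c57 LD3_c11)) :=
  Lgr Lrot23 (Lpr_ct (K26.f342207 IH) (Lpr_ft (f368385 IH) (Lpr_ct (K26.f169043 IH) (Lpn (LP (LK LD1_c11 LD2_c57 LD3_c11))))))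
theorem f353978 : Led Lsl_et (LP (LK LD1_c5 LD2_c36 LD3_c53)) = (LP (LK LD1_c11 LD2_c5 LD3_c58)) :=
  Lre_e IH (LK LD1_c5 LD2_c36 LD3_c53) (LK LD1_c11 LD2_c5 LD3_c58) Lrfl Lrfl
theorem f223971 : Led Lsl_ct (LP (LK LD1_c8 LD2_c11 LD3_c14)) = (LP (LK LD1_c15 LD2_c24 LD3_c57)) :=
  Lre_c IH (LK LD1_c8 LD2_c11 LD3_c14) (LK LD1_c15 LD2_c24 LD3_c57) Lrfl Lrfl
theorem f291817 : Led Lsl_ct (LP (LK LD1_c9 LD2_c41 LD3_c36)) = (LP (LK LD1_c4 LD2_c54 LD3_c61)) :=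
  Lre_c IH (LK LD1_c9 LD2_c41 LD3_c36) (LK LD1_c4 LD2_c54 LD3_c61) Lrfl Lrfl
theorem f291818 : Led Lsl_et (LP (LK LD1_c15 LD2_c24 LD3_c57)) = (LP (LK LD1_c9 LD2_c41 LD3_c36)) :=
  Lgr Lrot158 (Lpe (f223971 IH) (Lpr_ef (K26.f291815 IH) (Lpe (f291817 IH) (Lpn (LP (LK LD1_c9 LD2_c41 LD3_c36))))))
theorem f368373 : Led Lsl_at (LP (LK LD1_c11 LD2_c5 LD3_c58)) = (LP (LK LD1_c15 LD2_c24 LD3_c57)) :=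
  Lgr Lrot80 (Lpe (f353978 IH) (Lpr_af (f368367 IH) (Lpe (f291818 IH) (Lpn (LP (LK LD1_c15 LD2_c24 LD3_c57))))))
theorem f368418 : Led Lsl_ft (LP (LK LD1_c15 LD2_c24 LD3_c57)) = (LP (LK LD1_c19 LD2_c6 LD3_c47)) :=
  Lgr Lrot101 (Lpe (f368373 IH) (Lpr_ff (f368389 IH) (Lpr_af (f368414 IH) (Lpn (LP (LK LD1_c19 LD2_c6 LD3_c47))))))
theorem f368424 : Led Lsl_ff (LP (LK LD1_c15 LD2_c24 LD3_c57)) = (LP (LK LD1_c19 LD2_c6 LD3_c47)) :=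
  Lgr Lrot3 (Lpr_ft (f368418 IH) (Lpn (LP (LK LD1_c19 LD2_c6 LD3_c47))))
theorem f303645 : Led Lsl_at (LP (LK LD1_c10 LD2_c15 LD3_c36)) = (LP (LK LD1_c8 LD2_c11 LD3_c46)) :=
  Lgr Lrot26 (Lpr_ff (K26.f303637 IH) (Lpe (K20.f47402 IH) (Lpr_gt (K15.f47286 IH) (Lpn (LP (LK LD1_c8 LD2_c11 LD3_c46))))))
theorem f303647 : Led Lsl_af (LP (LK LD1_c10 LD2_c15 LD3_c36)) = (LP (LK LD1_c8 LD2_c11 LD3_c46)) :=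
  Lgr Lrot0 (Lpr_at (f303645 IH) (Lpn (LP (LK LD1_c8 LD2_c11 LD3_c46))))
theorem f44635 : Led Lsl_ct (LP (LK LD1_c5 LD2_c21 LD3_c26)) = (LP (LK LD1_c2 LD2_c37 LD3_c19)) :=
  Lre_c IH (LK LD1_c5 LD2_c21 LD3_c26) (LK LD1_c2 LD2_c37 LD3_c19) Lrfl Lrfl
theorem f230692 : Led Lsl_ct (LP (LK LD1_c8 LD2_c52 LD3_c6)) = (LP (LK LD1_c10 LD2_c15 LD3_c36)) :=
  Lgr Lrot176 (Lpe (K15.f184498 IH) (Lpe (K15.f182208 IH) (Lpe (K14.f44057 IH) (Lpe (K10.f187535 IH) (Lpe (K16.f187540 IH) (Lpe (f44635 IH) (Lpr_df (K15.f230681 IH) (Lpe (K12.f230671 IH) (Lpe (K13.f230674 IH) (Lpe (K13.f183897 IH) (Lpe (K12.f183893 IH) (Lpe (K9.f171670 IH) (Lpe (K14.f183898 IH) (Lpe (K13.f183899 IH) (Lpe (K26.f225594 IH) (Lpn (LP (LK LD1_c10 LD2_c15 LD3_c36))))))))))))))))))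
theorem f303655 : Led Lsl_ft (LP (LK LD1_c10 LD2_c16 LD3_c44)) = (LP (LK LD1_c8 LD2_c11 LD3_c46)) :=
  Lgr Lrot142 (Lpe (K15.f230681 IH) (Lpr_ct (f44635 IH) (Lpr_dt (K16.f187540 IH) (Lpr_ct (K10.f187535 IH) (Lpr_dt (K14.f44057 IH) (Lpr_ct (K15.f182208 IH) (Lpr_dt (K15.f184498 IH) (Lpr_ct (f230692 IH) (Lpr_af (f303647 IH) (Lpn (LP (LK LD1_c8 LD2_c11 LD3_c46))))))))))))
theorem f303657 : Led Lsl_af (LP (LK LD1_c10 LD2_c16 LD3_c44)) = (LP (LK LD1_c8 LD2_c11 LD3_c45)) :=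
  Lgr Lrot45 (Lpr_ft (f303655 IH) (Lpe (f303647 IH) (Lpr_ft (K26.f303643 IH) (Lpn (LP (LK LD1_c8 LD2_c11 LD3_c45))))))
theorem f303666 : Led Lsl_at (LP (LK LD1_c5 LD2_c21 LD3_c26)) = (LP (LK LD1_c5 LD2_c4 LD3_c51)) :=
  Lgr Lrot51 (Lpr_df (K15.f230681 IH) (Lpr_af (f303657 IH) (Lpr_df (K26.f291834 IH) (Lpn (LP (LK LD1_c5 LD2_c4 LD3_c51))))))
theorem f230701 : Led Lsl_et (LP (LK LD1_c10 LD2_c33 LD3_c9)) = (LP (LK LD1_c5 LD2_c21 LD3_c26)) :=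
  Lre_e IH (LK LD1_c10 LD2_c33 LD3_c9) (LK LD1_c5 LD2_c21 LD3_c26) Lrfl Lrfl
theorem f291836 : Led Lsl_et (LP (LK LD1_c5 LD2_c4 LD3_c51)) = (LP (LK LD1_c10 LD2_c0 LD3_c45)) :=
  Lre_e IH (LK LD1_c5 LD2_c4 LD3_c51) (LK LD1_c10 LD2_c0 LD3_c45) Lrfl Lrfl
theorem f303668 : Led Lsl_af (LP (LK LD1_c10 LD2_c33 LD3_c9)) = (LP (LK LD1_c10 LD2_c0 LD3_c45)) :=
  Lgr Lrot50 (Lpr_et (f230701 IH) (Lpr_at (f303666 IH) (Lpr_et (f291836 IH) (Lpn (LP (LK LD1_c10 LD2_c0 LD3_c45))))))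
theorem f303671 : Led Lsl_ft (LP (LK LD1_c18 LD2_c17 LD3_c48)) = (LP (LK LD1_c10 LD2_c0 LD3_c45)) :=
  Lre_f IH (LK LD1_c18 LD2_c17 LD3_c48) (LK LD1_c10 LD2_c0 LD3_c45) Lrfl Lrfl
theorem f303672 : Led Lsl_gf (LP (LK LD1_c19 LD2_c6 LD3_c47)) = (LP (LK LD1_c18 LD2_c17 LD3_c48)) :=
  Lgr Lrot47 (Lpr_gt (f230704 IH) (Lpr_af (f303668 IH) (Lpe (f303671 IH) (Lpn (LP (LK LD1_c18 LD2_c17 LD3_c48))))))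
theorem f368416 : Led Lsl_ff (LP (LK LD1_c11 LD2_c57 LD3_c11)) = (LP (LK LD1_c11 LD2_c5 LD3_c58)) :=
  Lgr Lrot52 (Lpr_at (f368412 IH) (Lpr_gf (f303672 IH) (Lpe (K25.f353974 IH) (Lpn (LP (LK LD1_c11 LD2_c5 LD3_c58))))))
theorem f368426 : Led Lsl_at (LP (LK LD1_c15 LD2_c24 LD3_c57)) = (LP (LK LD1_c11 LD2_c5 LD3_c58)) :=
  Lgr Lrot66 (Lpr_ff (f368424 IH) (Lpe (f368412 IH) (Lpr_ff (f368416 IH) (Lpn (LP (LK LD1_c11 LD2_c5 LD3_c58))))))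
theorem f368430 : Led Lsl_af (LP (LK LD1_c8 LD2_c11 LD3_c14)) = (LP (LK LD1_c5 LD2_c36 LD3_c54)) :=
  Lgr Lrot68 (Lpr_ct (f223971 IH) (Lpr_at (f368426 IH) (Lpr_ct (K26.f342207 IH) (Lpn (LP (LK LD1_c5 LD2_c36 LD3_c54))))))
theorem f368434 : Led Lsl_at (LP (LK LD1_c9 LD2_c42 LD3_c43)) = (LP (LK LD1_c8 LD2_c13 LD3_c26)) :=
  Lgr Lrot51 (Lpe (K25.f291775 IH) (Lpr_af (f368430 IH) (Lpe (K25.f351898 IH) (Lpn (LP (LK LD1_c8 LD2_c13 LD3_c26))))))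
theorem f368438 : Led Lsl_af (LP (LK LD1_c17 LD2_c51 LD3_c34)) = (LP (LK LD1_c15 LD2_c28 LD3_c12)) :=
  Lgr Lrot68 (Lpr_ct (f291808 IH) (Lpr_at (f368434 IH) (Lpr_ct (K26.f187404 IH) (Lpn (LP (LK LD1_c15 LD2_c28 LD3_c12))))))
theorem f312341 : Led Lsl_at (LP (LK LD1_c11 LD2_c52 LD3_c45)) = (LP (LK LD1_c11 LD2_c52 LD3_c41)) :=
  Lgr Lrot80 (Lpe (K19.f182769 IH) (Lpr_af (K19.f312333 IH) (Lpe (K23.f256836 IH) (Lpn (LP (LK LD1_c11 LD2_c52 LD3_c41))))))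
theorem f312351 : Led Lsl_ft (LP (LK LD1_c20 LD2_c55 LD3_c56)) = (LP (LK LD1_c11 LD2_c52 LD3_c45)) :=
  Lre_f IH (LK LD1_c20 LD2_c55 LD3_c56) (LK LD1_c11 LD2_c52 LD3_c45) Lrfl Lrfl
theorem f358404 : Led Lsl_gf (LP (LK LD1_c17 LD2_c51 LD3_c34)) = (LP (LK LD1_c20 LD2_c55 LD3_c56)) :=
  Lgr Lrot47 (Lpr_gt (f358402 IH) (Lpe (f312341 IH) (Lpe (f312351 IH) (Lpn (LP (LK LD1_c20 LD2_c55 LD3_c56))))))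
theorem f368444 : Led Lsl_ft (LP (LK LD1_c11 LD2_c57 LD3_c8)) = (LP (LK LD1_c15 LD2_c28 LD3_c12)) :=
  Lgr Lrot2 (Lpr_gt (K24.f350311 IH) (Lpe (f358404 IH) (Lpr_af (f368438 IH) (Lpn (LP (LK LD1_c15 LD2_c28 LD3_c12))))))
theorem f368446 : Led Lsl_ff (LP (LK LD1_c6 LD2_c7 LD3_c7)) = (LP (LK LD1_c8 LD2_c13 LD3_c26)) :=
  Lgr Lrot23 (Lpr_ct (K24.f169055 IH) (Lpr_ft (f368444 IH) (Lpr_ct (K26.f187403 IH) (Lpn (LP (LK LD1_c8 LD2_c13 LD3_c26))))))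
theorem f54978 : Led Lsl_gt (LP (LK LD1_c4 LD2_c6 LD3_c25)) = (LP (LK LD1_c8 LD2_c13 LD3_c25)) :=
  Lre_g IH (LK LD1_c4 LD2_c6 LD3_c25) (LK LD1_c8 LD2_c13 LD3_c25) Lrfl Lrfl
theorem f368458 : Led Lsl_at (LP (LK LD1_c6 LD2_c7 LD3_c7)) = (LP (LK LD1_c8 LD2_c13 LD3_c25)) :=
  Lgr Lrot26 (Lpr_ff (f368446 IH) (Lpr_gt (K25.f54552 IH) (Lpr_gt (f54978 IH) (Lpn (LP (LK LD1_c8 LD2_c13 LD3_c25))))))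
theorem f368468 : Led Lsl_ff (LP (LK LD1_c9 LD2_c42 LD3_c43)) = (LP (LK LD1_c8 LD2_c13 LD3_c25)) :=
  Lgr Lrot30 (Lpr_at (f368434 IH) (Lpe (f368446 IH) (Lpr_at (f368458 IH) (Lpn (LP (LK LD1_c8 LD2_c13 LD3_c25))))))
theorem f368480 : Led Lsl_gf (LP (LK LD1_c9 LD2_c42 LD3_c45)) = (LP (LK LD1_c8 LD2_c13 LD3_c25)) :=
  Lgr Lrot47 (Lpe (f367343 IH) (Lpe (f368434 IH) (Lpr_ff (f368468 IH) (Lpn (LP (LK LD1_c8 LD2_c13 LD3_c25))))))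
theorem f196787 : Led Lsl_ct (LP (LK LD1_c11 LD2_c52 LD3_c45)) = (LP (LK LD1_c6 LD2_c4 LD3_c37)) :=
  Lre_c IH (LK LD1_c11 LD2_c52 LD3_c45) (LK LD1_c6 LD2_c4 LD3_c37) Lrfl Lrfl
theorem f196780 : Led Lsl_dt (LP (LK LD1_c6 LD2_c4 LD3_c37)) = (LP (LK LD1_c8 LD2_c2 LD3_c43)) :=
  Lgr Lrot42 (Lpr_df (K19.f196777 IH) (Lpn (LP (LK LD1_c8 LD2_c2 LD3_c43))))
theorem f211313 : Led Lsl_ct (LP (LK LD1_c8 LD2_c8 LD3_c49)) = (LP (LK LD1_c15 LD2_c20 LD3_c24)) :=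
  Lre_c IH (LK LD1_c8 LD2_c8 LD3_c49) (LK LD1_c15 LD2_c20 LD3_c24) Lrfl Lrfl
theorem f168919 : Led Lsl_ct (LP (LK LD1_c9 LD2_c43 LD3_c52)) = (LP (LK LD1_c4 LD2_c56 LD3_c7)) :=
  Lre_c IH (LK LD1_c9 LD2_c43 LD3_c52) (LK LD1_c4 LD2_c56 LD3_c7) Lrfl Lrfl
theorem f338827 : Led Lsl_gt (LP (LK LD1_c15 LD2_c20 LD3_c24)) = (LP (LK LD1_c9 LD2_c43 LD3_c52)) :=
  Lgr Lrot150 (Lpe (f211313 IH) (Lpr_gf (K21.f329851 IH) (Lpe (K21.f329784 IH) (Lpr_gt (K19.f310555 IH) (Lpr_ct (K25.f338821 IH) (Lpe (K25.f327157 IH) (Lpr_ct (K23.f168930 IH) (Lpe (K14.f168916 IH) (Lpe (f168919 IH) (Lpn (LP (LK LD1_c9 LD2_c43 LD3_c52))))))))))))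
theorem f342185 : Led Lsl_bt (LP (LK LD1_c7 LD2_c58 LD3_c53)) = (LP (LK LD1_c3 LD2_c58 LD3_c42)) :=
  Lre_b IH (LK LD1_c7 LD2_c58 LD3_c53) (LK LD1_c3 LD2_c58 LD3_c42) Lrfl Lrfl
theorem f342186 : Led Lsl_ct (LP (LK LD1_c7 LD2_c58 LD3_c53)) = (LP (LK LD1_c15 LD2_c3 LD3_c26)) :=
  Lre_c IH (LK LD1_c7 LD2_c58 LD3_c53) (LK LD1_c15 LD2_c3 LD3_c26) Lrfl Lrfl
theorem f363398 : Led Lsl_gf (LP (LK LD1_c9 LD2_c40 LD3_c53)) = (LP (LK LD1_c15 LD2_c3 LD3_c26)) :=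
  Lgr Lrot126 (Lpr_cf (K24.f224765 IH) (Lpr_bt (K21.f329804 IH) (Lpe (K21.f329851 IH) (Lpr_ct (f211313 IH) (Lpr_gt (f338827 IH) (Lpe (K25.f168973 IH) (Lpr_bt (K21.f168907 IH) (Lpr_gt (K26.f363392 IH) (Lpe (f342185 IH) (Lpr_ct (f342186 IH) (Lpn (LP (LK LD1_c15 LD2_c3 LD3_c26)))))))))))))
theorem f367345 : Led Lsl_gf (LP (LK LD1_c7 LD2_c58 LD3_c53)) = (LP (LK LD1_c4 LD2_c55 LD3_c33)) :=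
  Lgr Lrot147 (Lpr_ct (f342186 IH) (Lpe (f363398 IH) (Lpr_ct (K25.f224771 IH) (Lpe (f196780 IH) (Lpe (f196787 IH) (Lpr_gf (f357586 IH) (Lpe (K26.f187404 IH) (Lpr_gf (f367343 IH) (Lpe (f217521 IH) (Lpn (LP (LK LD1_c4 LD2_c55 LD3_c33))))))))))))
theorem f363402 : Led Lsl_bt (LP (LK LD1_c2 LD2_c25 LD3_c53)) = (LP (LK LD1_c4 LD2_c56 LD3_c9)) :=
  Lre_b IH (LK LD1_c2 LD2_c25 LD3_c53) (LK LD1_c4 LD2_c56 LD3_c9) Lrfl Lrfl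
theorem f363403 : Led Lsl_dt (LP (LK LD1_c4 LD2_c56 LD3_c9)) = (LP (LK LD1_c7 LD2_c58 LD3_c53)) :=
  Lgr Lrot79 (Lpe (f363402 IH) (Lpr_df (K26.f363400 IH) (Lpe (f342185 IH) (Lpn (LP (LK LD1_c7 LD2_c58 LD3_c53))))))
theorem f368476 : Led Lsl_et (LP (LK LD1_c7 LD2_c57 LD3_c61)) = (LP (LK LD1_c8 LD2_c13 LD3_c25)) :=
  Lgr Lrot69 (Lpr_ff (f356346 IH) (Lpe (K26.f351961 IH) (Lpe (K25.f351954 IH) (Lpe (K25.f291807 IH) (Lpr_ff (f368468 IH) (Lpn (LP (LK LD1_c8 LD2_c13 LD3_c25))))))))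
theorem f358739 : Led Lsl_df (LP (LK LD1_c9 LD2_c0 LD3_c4)) = (LP (LK LD1_c7 LD2_c57 LD3_c61)) :=
  Lgr Lrot12 (Lpe (f358673 IH) (Lpr_dt (K26.f358732 IH) (Lpe (K26.f356274 IH) (Lpn (LP (LK LD1_c7 LD2_c57 LD3_c61))))))
theorem f368489 : Led Lsl_et (LP (LK LD1_c4 LD2_c56 LD3_c9)) = (LP (LK LD1_c8 LD2_c11 LD3_c56)) :=
  Lgr Lrot185 (Lpr_dt (f363403 IH) (Lpr_gf (f367345 IH) (Lpe (K15.f217529 IH) (Lpr_gf (f368480 IH) (Lpe (f368476 IH) (Lpe (f358739 IH) (Lpr_gf (f368335 IH) (Lpe (K25.f213948 IH) (Lpe (K25.f325149 IH) (Lpe (K26.f363272 IH) (Lpn (LP (LK LD1_c8 LD2_c11 LD3_c56)))))))))))))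
theorem f368535 : Led Lsl_gt (LP (LK LD1_c7 LD2_c58 LD3_c53)) = (LP (LK LD1_c4 LD2_c54 LD3_c37)) :=
  Lgr Lrot112 (Lpe (f363403 IH) (Lpr_et (f368489 IH) (Lpr_gf (K26.f363270 IH) (Lpe (K18.f191451 IH) (Lpe (K16.f222002 IH) (Lpr_gf (K14.f251677 IH) (Lpe (K14.f250435 IH) (Lpe (K14.f187405 IH) (Lpe (K12.f187350 IH) (Lpe (K12.f187362 IH) (Lpn (LP (LK LD1_c4 LD2_c54 LD3_c37)))))))))))))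
theorem f363387 : Led Lsl_bt (LP (LK LD1_c3 LD2_c58 LD3_c42)) = (LP (LK LD1_c7 LD2_c58 LD3_c53)) :=
  Lre_b IH (LK LD1_c3 LD2_c58 LD3_c42) (LK LD1_c7 LD2_c58 LD3_c53) Lrfl Lrfl
theorem f359298 : Led Lsl_bt (LP (LK LD1_c8 LD2_c8 LD3_c49)) = (LP (LK LD1_c4 LD2_c29 LD3_c53)) :=
  Lgr Lrot95 (Lpe (K20.f211312 IH) (Lpr_bf (K26.f359293 IH) (Lpr_df (K20.f317919 IH) (Lpn (LP (LK LD1_c4 LD2_c29 LD3_c53))))))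
theorem f264507 : Led Lsl_bt (LP (LK LD1_c1 LD2_c2 LD3_c59)) = (LP (LK LD1_c2 LD2_c11 LD3_c59)) :=
  Lre_b IH (LK LD1_c1 LD2_c2 LD3_c59) (LK LD1_c2 LD2_c11 LD3_c59) Lrfl Lrfl
theorem f264533 : Led Lsl_ct (LP (LK LD1_c1 LD2_c2 LD3_c59)) = (LP (LK LD1_c2 LD2_c12 LD3_c0)) :=
  Lre_c IH (LK LD1_c1 LD2_c2 LD3_c59) (LK LD1_c2 LD2_c12 LD3_c0) Lrfl Lrfl
theorem f264525 : Led Lsl_gt (LP (LK LD1_c4 LD2_c29 LD3_c61)) = (LP (LK LD1_c2 LD2_c12 LD3_c0)) :=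
  Lre_g IH (LK LD1_c4 LD2_c29 LD3_c61) (LK LD1_c2 LD2_c12 LD3_c0) Lrfl Lrfl
theorem f363396 : Led Lsl_cf (LP (LK LD1_c4 LD2_c29 LD3_c61)) = (LP (LK LD1_c3 LD2_c58 LD3_c42)) :=
  Lgr Lrot125 (Lpr_gt (f264525 IH) (Lpe (f264533 IH) (Lpr_bt (f264507 IH) (Lpr_gt (K20.f264458 IH) (Lpe (f359298 IH) (Lpr_ct (f211313 IH) (Lpr_gt (f338827 IH) (Lpe (K25.f168973 IH) (Lpr_bt (K21.f168907 IH) (Lpr_gt (K26.f363392 IH) (Lpn (LP (LK LD1_c3 LD2_c58 LD3_c42)))))))))))))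
theorem f280676 : Led Lsl_at (LP (LK LD1_c5 LD2_c32 LD3_c40)) = (LP (LK LD1_c2 LD2_c42 LD3_c31)) :=
  Lre_a IH (LK LD1_c5 LD2_c32 LD3_c40) (LK LD1_c2 LD2_c42 LD3_c31) Lrfl Lrfl
theorem f280677 : Led Lsl_bt (LP (LK LD1_c2 LD2_c42 LD3_c31)) = (LP (LK LD1_c1 LD2_c17 LD3_c50)) :=
  Lre_b IH (LK LD1_c2 LD2_c42 LD3_c31) (LK LD1_c1 LD2_c17 LD3_c50) Lrfl Lrfl
theorem f280678 : Led Lsl_at (LP (LK LD1_c4 LD2_c29 LD3_c60)) = (LP (LK LD1_c8 LD2_c58 LD3_c5)) :=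
  Lre_a IH (LK LD1_c4 LD2_c29 LD3_c60) (LK LD1_c8 LD2_c58 LD3_c5) Lrfl Lrfl
theorem f280679 : Led Lsl_bt (LP (LK LD1_c2 LD2_c12 LD3_c0)) = (LP (LK LD1_c4 LD2_c29 LD3_c60)) :=
  Lre_b IH (LK LD1_c2 LD2_c12 LD3_c0) (LK LD1_c4 LD2_c29 LD3_c60) Lrfl Lrfl
theorem f280680 : Led Lsl_at (LP (LK LD1_c1 LD2_c17 LD3_c50)) = (LP (LK LD1_c2 LD2_c12 LD3_c0)) :=
  Lgr Lrot67 (Lpe (f280677 IH) (Lpe (f280676 IH) (Lpr_bf (K20.f280672 IH) (Lpe (f280678 IH) (Lpe (f280679 IH) (Lpn (LP (LK LD1_c2 LD2_c12 LD3_c0))))))))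
theorem f280978 : Led Lsl_ft (LP (LK LD1_c2 LD2_c42 LD3_c35)) = (LP (LK LD1_c1 LD2_c17 LD3_c50)) :=
  Lre_f IH (LK LD1_c2 LD2_c42 LD3_c35) (LK LD1_c1 LD2_c17 LD3_c50) Lrfl Lrfl
theorem f281725 : Led Lsl_gt (LP (LK LD1_c2 LD2_c42 LD3_c35)) = (LP (LK LD1_c4 LD2_c29 LD3_c61)) :=
  Lgr Lrot5 (Lpr_ft (f280978 IH) (Lpr_at (f280680 IH) (Lpe (f264525 IH) (Lpn (LP (LK LD1_c4 LD2_c29 LD3_c61))))))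
theorem f340980 : Led Lsl_bt (LP (LK LD1_c27 LD2_c23 LD3_c59)) = (LP (LK LD1_c17 LD2_c43 LD3_c21)) :=
  Lgr Lrot119 (Lpe (K20.f264053 IH) (Lpr_bf (K23.f340939 IH) (Lpr_ef (K20.f301122 IH) (Lpn (LP (LK LD1_c17 LD2_c43 LD3_c21))))))
theorem f360653 : Led Lsl_bt (LP (LK LD1_c5 LD2_c24 LD3_c45)) = (LP (LK LD1_c2 LD2_c42 LD3_c37)) :=
  Lgr Lrot92 (Lpr_ct (K22.f258273 IH) (Lpr_gt (K22.f322674 IH) (Lpe (K21.f310413 IH) (Lpr_bt (f340980 IH) (Lpr_gt (K26.f353572 IH) (Lpe (K23.f301113 IH) (Lpr_gt (K26.f360651 IH) (Lpe (K26.f316225 IH) (Lpr_bt (K26.f333672 IH) (Lpr_gt (K22.f333721 IH) (Lpn (LP (LK LD1_c2 LD2_c42 LD3_c37)))))))))))))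
theorem f360659 : Led Lsl_bf (LP (LK LD1_c2 LD2_c38 LD3_c55)) = (LP (LK LD1_c1 LD2_c17 LD3_c51)) :=
  Lgr Lrot96 (Lpr_et (K22.f258265 IH) (Lpr_bt (f360653 IH) (Lpr_et (K22.f183269 IH) (Lpn (LP (LK LD1_c1 LD2_c17 LD3_c51))))))
theorem f360666 : Led Lsl_bt (LP (LK LD1_c4 LD2_c28 LD3_c18)) = (LP (LK LD1_c2 LD2_c12 LD3_c1)) :=
  Lgr Lrot95 (Lpe (K22.f322691 IH) (Lpr_bf (f360659 IH) (Lpr_df (K21.f276158 IH) (Lpn (LP (LK LD1_c2 LD2_c12 LD3_c1))))))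
theorem f223404 : Led Lsl_ct (LP (LK LD1_c4 LD2_c28 LD3_c18)) = (LP (LK LD1_c8 LD2_c54 LD3_c45)) :=
  Lre_c IH (LK LD1_c4 LD2_c28 LD3_c18) (LK LD1_c8 LD2_c54 LD3_c45) Lrfl Lrfl
theorem f187368 : Led Lsl_ft (LP (LK LD1_c4 LD2_c54 LD3_c37)) = (LP (LK LD1_c9 LD2_c40 LD3_c50)) :=
  Lre_f IH (LK LD1_c4 LD2_c54 LD3_c37) (LK LD1_c9 LD2_c40 LD3_c50) Lrfl Lrfl
theorem f187437 : Led Lsl_bt (LP (LK LD1_c8 LD2_c55 LD3_c1)) = (LP (LK LD1_c4 LD2_c54 LD3_c37)) :=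
  Lgr Lrot35 (Lpe (f187416 IH) (Lpr_bf (f187434 IH) (Lpe (f187368 IH) (Lpn (LP (LK LD1_c4 LD2_c54 LD3_c37))))))
theorem f187441 : Led Lsl_ct (LP (LK LD1_c8 LD2_c55 LD3_c1)) = (LP (LK LD1_c4 LD2_c28 LD3_c29)) :=
  Lre_c IH (LK LD1_c8 LD2_c55 LD3_c1) (LK LD1_c4 LD2_c28 LD3_c29) Lrfl Lrfl
theorem f368541 : Led Lsl_gf (LP (LK LD1_c8 LD2_c54 LD3_c45)) = (LP (LK LD1_c4 LD2_c28 LD3_c29)) :=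
  Lgr Lrot126 (Lpe (f223404 IH) (Lpr_bt (f360666 IH) (Lpr_gt (K21.f264611 IH) (Lpr_ct (K22.f264598 IH) (Lpr_gt (f281725 IH) (Lpr_cf (f363396 IH) (Lpr_bt (f363387 IH) (Lpr_gt (f368535 IH) (Lpe (f187437 IH) (Lpr_ct (f187441 IH) (Lpn (LP (LK LD1_c4 LD2_c28 LD3_c29)))))))))))))
theorem f265533 : Led Lsl_ct (LP (LK LD1_c8 LD2_c54 LD3_c45)) = (LP (LK LD1_c4 LD2_c28 LD3_c18)) :=
  Lre_c IH (LK LD1_c8 LD2_c54 LD3_c45) (LK LD1_c4 LD2_c28 LD3_c18) Lrfl Lrfl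
theorem f322687 : Led Lsl_ct (LP (LK LD1_c5 LD2_c24 LD3_c44)) = (LP (LK LD1_c2 LD2_c38 LD3_c55)) :=
  Lre_c IH (LK LD1_c5 LD2_c24 LD3_c44) (LK LD1_c2 LD2_c38 LD3_c55) Lrfl Lrfl
theorem f258274 : Led Lsl_dt (LP (LK LD1_c10 LD2_c40 LD3_c8)) = (LP (LK LD1_c19 LD2_c19 LD3_c12)) :=
  Lre_d IH (LK LD1_c10 LD2_c40 LD3_c8) (LK LD1_c19 LD2_c19 LD3_c12) Lrfl Lrfl
theorem f228453 : Led Lsl_dt (LP (LK LD1_c10 LD2_c38 LD3_c13)) = (LP (LK LD1_c19 LD2_c8 LD3_c15)) :=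
  Lgr Lrot42 (Lpr_df (K25.f228444 IH) (Lpn (LP (LK LD1_c19 LD2_c8 LD3_c15))))
theorem f352264 : Led Lsl_gt (LP (LK LD1_c19 LD2_c19 LD3_c12)) = (LP (LK LD1_c25 LD2_c31 LD3_c17)) :=
  Lgr Lrot9 (Lpe (f258274 IH) (Lpr_gt (K22.f322674 IH) (Lpe (K21.f310411 IH) (Lpr_gt (K26.f352262 IH) (Lpe (K26.f321187 IH) (Lpe (f228453 IH) (Lpe (K26.f228462 IH) (Lpe (K26.f228463 IH) (Lpe (K26.f345610 IH) (Lpn (LP (LK LD1_c25 LD2_c31 LD3_c17))))))))))))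
theorem f344307 : Led Lsl_et (LP (LK LD1_c10 LD2_c40 LD3_c8)) = (LP (LK LD1_c5 LD2_c24 LD3_c44)) :=
  Lre_e IH (LK LD1_c10 LD2_c40 LD3_c8) (LK LD1_c5 LD2_c24 LD3_c44) Lrfl Lrfl
theorem f246579 : Led Lsl_et (LP (LK LD1_c1 LD2_c16 LD3_c21)) = (LP (LK LD1_c2 LD2_c39 LD3_c4)) :=
  Lre_e IH (LK LD1_c1 LD2_c16 LD3_c21) (LK LD1_c2 LD2_c39 LD3_c4) Lrfl Lrfl
theorem f352267 : Led Lsl_gf (LP (LK LD1_c5 LD2_c24 LD3_c44)) = (LP (LK LD1_c2 LD2_c39 LD3_c4)) :=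
  Lgr Lrot141 (Lpe (f344307 IH) (Lpr_dt (f258274 IH) (Lpr_gt (f352264 IH) (Lpe (K23.f221775 IH) (Lpr_et (K23.f221765 IH) (Lpe (K12.f224819 IH) (Lpe (K15.f263981 IH) (Lpr_gt (K15.f263999 IH) (Lpe (K14.f218496 IH) (Lpr_et (f246579 IH) (Lpn (LP (LK LD1_c2 LD2_c39 LD3_c4)))))))))))))
theorem f223929 : Led Lsl_gt (LP (LK LD1_c10 LD2_c41 LD3_c3)) = (LP (LK LD1_c5 LD2_c25 LD3_c7)) :=
  Lre_g IH (LK LD1_c10 LD2_c41 LD3_c3) (LK LD1_c5 LD2_c25 LD3_c7) Lrfl Lrfl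
theorem f187422 : Led Lsl_gt (LP (LK LD1_c16 LD2_c41 LD3_c2)) = (LP (LK LD1_c8 LD2_c55 LD3_c1)) :=
  Lre_g IH (LK LD1_c16 LD2_c41 LD3_c2) (LK LD1_c8 LD2_c55 LD3_c1) Lrfl Lrfl
theorem f368547 : Led Lsl_dt (LP (LK LD1_c10 LD2_c41 LD3_c3)) = (LP (LK LD1_c16 LD2_c41 LD3_c2)) :=
  Lgr Lrot6 (Lpr_gt (f223929 IH) (Lpr_ct (K26.f223940 IH) (Lpe (f352267 IH) (Lpr_ct (f322687 IH) (Lpr_df (K22.f322695 IH) (Lpe (f265533 IH) (Lpr_gf (f368541 IH) (Lpe (f187441 IH) (Lpe (f187422 IH) (Lpn (LP (LK LD1_c16 LD2_c41 LD3_c2))))))))))))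
theorem f194784 : Led Lsl_gt (LP (LK LD1_c9 LD2_c33 LD3_c18)) = (LP (LK LD1_c17 LD2_c35 LD3_c44)) :=
  Lre_g IH (LK LD1_c9 LD2_c33 LD3_c18) (LK LD1_c17 LD2_c35 LD3_c44) Lrfl Lrfl
theorem f368631 : Led Lsl_et (LP (LK LD1_c10 LD2_c41 LD3_c3)) = (LP (LK LD1_c17 LD2_c35 LD3_c44)) :=
  Lgr Lrot122 (Lpr_dt (f368547 IH) (Lpr_gt (f187422 IH) (Lpr_df (f187410 IH) (Lpr_et (K12.f187413 IH) (Lpr_gt (K14.f192495 IH) (Lpr_dt (K16.f192498 IH) (Lpr_gt (K14.f192499 IH) (Lpe (K16.f254262 IH) (Lpr_et (K14.f194779 IH) (Lpr_gt (f194784 IH) (Lpn (LP (LK LD1_c17 LD2_c35 LD3_c44)))))))))))))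
theorem f368551 : Led Lsl_bt (LP (LK LD1_c15 LD2_c51 LD3_c55)) = (LP (LK LD1_c16 LD2_c41 LD3_c2)) :=
  Lgr Lrot130 (Lpe (f363467 IH) (Lpe (f263049 IH) (Lpe (K22.f258854 IH) (Lpr_bt (K21.f264599 IH) (Lpe (K21.f264611 IH) (Lpe (f360666 IH) (Lpr_ct (f223404 IH) (Lpr_gf (f368541 IH) (Lpe (f187441 IH) (Lpe (f187422 IH) (Lpn (LP (LK LD1_c16 LD2_c41 LD3_c2)))))))))))))
theorem f220240 : Led Lsl_gt (LP (LK LD1_c10 LD2_c50 LD3_c49)) = (LP (LK LD1_c5 LD2_c29 LD3_c47)) :=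
  Lre_g IH (LK LD1_c10 LD2_c50 LD3_c49) (LK LD1_c5 LD2_c29 LD3_c47) Lrfl Lrfl
theorem f368105 : Led Lsl_ff (LP (LK LD1_c10 LD2_c24 LD3_c11)) = (LP (LK LD1_c10 LD2_c50 LD3_c49)) :=
  Lgr Lrot52 (Lpr_at (f368101 IH) (Lpe (f220239 IH) (Lpe (f220240 IH) (Lpn (LP (LK LD1_c10 LD2_c50 LD3_c49))))))
theorem f368111 : Led Lsl_ft (LP (LK LD1_c10 LD2_c24 LD3_c11)) = (LP (LK LD1_c10 LD2_c50 LD3_c49)) :=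
  Lgr Lrot48 (Lpr_ff (f368105 IH) (Lpn (LP (LK LD1_c10 LD2_c50 LD3_c49))))
theorem f251740 : Led Lsl_ct (LP (LK LD1_c5 LD2_c17 LD3_c20)) = (LP (LK LD1_c10 LD2_c24 LD3_c11)) :=
  Lre_c IH (LK LD1_c5 LD2_c17 LD3_c20) (LK LD1_c10 LD2_c24 LD3_c11) Lrfl Lrfl
theorem f368117 : Led Lsl_cf (LP (LK LD1_c10 LD2_c24 LD3_c14)) = (LP (LK LD1_c10 LD2_c50 LD3_c49)) :=
  Lgr Lrot108 (Lpr_ft (f367657 IH) (Lpr_ct (f251740 IH) (Lpr_ft (f368111 IH) (Lpn (LP (LK LD1_c10 LD2_c50 LD3_c49))))))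
theorem f367655 : Led Lsl_et (LP (LK LD1_c10 LD2_c24 LD3_c14)) = (LP (LK LD1_c15 LD2_c51 LD3_c57)) :=
  Lgr Lrot87 (Lpr_ef (f367653 IH) (Lpn (LP (LK LD1_c15 LD2_c51 LD3_c57))))
theorem f234194 : Led Lsl_et (LP (LK LD1_c19 LD2_c36 LD3_c26)) = (LP (LK LD1_c10 LD2_c50 LD3_c49)) :=
  Lre_e IH (LK LD1_c19 LD2_c36 LD3_c26) (LK LD1_c10 LD2_c50 LD3_c49) Lrfl Lrfl
theorem f368120 : Led Lsl_ct (LP (LK LD1_c15 LD2_c51 LD3_c57)) = (LP (LK LD1_c19 LD2_c36 LD3_c26)) :=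
  Lgr Lrot15 (Lpe (f367655 IH) (Lpr_cf (f368117 IH) (Lpe (f234194 IH) (Lpn (LP (LK LD1_c19 LD2_c36 LD3_c26))))))
theorem f368125 : Led Lsl_cf (LP (LK LD1_c15 LD2_c51 LD3_c57)) = (LP (LK LD1_c19 LD2_c36 LD3_c26)) :=
  Lgr Lrot11 (Lpr_ct (f368120 IH) (Lpn (LP (LK LD1_c19 LD2_c36 LD3_c26))))
theorem f364277 : Led Lsl_af (LP (LK LD1_c10 LD2_c24 LD3_c8)) = (LP (LK LD1_c15 LD2_c51 LD3_c57)) :=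
  Lgr Lrot0 (Lpr_at (K26.f364275 IH) (Lpn (LP (LK LD1_c15 LD2_c51 LD3_c57))))
theorem f368143 : Led Lsl_at (LP (LK LD1_c18 LD2_c52 LD3_c28)) = (LP (LK LD1_c19 LD2_c36 LD3_c26)) :=
  Lgr Lrot107 (Lpe (f217532 IH) (Lpr_af (f364277 IH) (Lpr_cf (f368125 IH) (Lpn (LP (LK LD1_c19 LD2_c36 LD3_c26))))))
theorem f356801 : Led Lsl_ft (LP (LK LD1_c10 LD2_c24 LD3_c5)) = (LP (LK LD1_c18 LD2_c52 LD3_c28)) :=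
  Lre_f IH (LK LD1_c10 LD2_c24 LD3_c5) (LK LD1_c18 LD2_c52 LD3_c28) Lrfl Lrfl
theorem f368145 : Led Lsl_gt (LP (LK LD1_c15 LD2_c31 LD3_c16)) = (LP (LK LD1_c19 LD2_c36 LD3_c26)) :=
  Lgr Lrot46 (Lpr_gf (K25.f356799 IH) (Lpr_ft (f356801 IH) (Lpr_at (f368143 IH) (Lpn (LP (LK LD1_c19 LD2_c36 LD3_c26))))))
theorem f221455 : Led Lsl_ct (LP (LK LD1_c15 LD2_c51 LD3_c51)) = (LP (LK LD1_c8 LD2_c27 LD3_c1)) :=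
  Lre_c IH (LK LD1_c15 LD2_c51 LD3_c51) (LK LD1_c8 LD2_c27 LD3_c1) Lrfl Lrfl
theorem f368149 : Led Lsl_gt (LP (LK LD1_c16 LD2_c46 LD3_c27)) = (LP (LK LD1_c15 LD2_c51 LD3_c51)) :=
  Lgr Lrot150 (Lpe (K23.f264448 IH) (Lpe (K23.f282442 IH) (Lpr_df (K17.f282431 IH) (Lpr_gt (K23.f50399 IH) (Lpr_ct (K25.f231741 IH) (Lpr_gt (f368145 IH) (Lpe (f368125 IH) (Lpe (K26.f223232 IH) (Lpe (f221455 IH) (Lpn (LP (LK LD1_c15 LD2_c51 LD3_c51))))))))))))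
theorem f368555 : Led Lsl_gt (LP (LK LD1_c15 LD2_c51 LD3_c44)) = (LP (LK LD1_c16 LD2_c41 LD3_c2)) :=
  Lgr Lrot164 (Lpe (K23.f221454 IH) (Lpr_ct (f221465 IH) (Lpe (f368149 IH) (Lpe (K23.f264448 IH) (Lpe (K23.f282442 IH) (Lpe (f317944 IH) (Lpr_ct (K22.f258855 IH) (Lpe (f258807 IH) (Lpr_cf (f363467 IH) (Lpr_bt (f368551 IH) (Lpn (LP (LK LD1_c16 LD2_c41 LD3_c2)))))))))))))
theorem f297731 : Led Lsl_at (LP (LK LD1_c8 LD2_c9 LD3_c40)) = (LP (LK LD1_c10 LD2_c36 LD3_c18)) :=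
  Lgr Lrot66 (Lpe (K18.f256941 IH) (Lpe (K18.f277510 IH) (Lpr_ff (K18.f297729 IH) (Lpn (LP (LK LD1_c10 LD2_c36 LD3_c18))))))
theorem f367303 : Led Lsl_gf (LP (LK LD1_c18 LD2_c52 LD3_c31)) = (LP (LK LD1_c15 LD2_c22 LD3_c20)) :=
  Lgr Lrot47 (Lpr_gt (f367301 IH) (Lpe (f297731 IH) (Lpe (K18.f256941 IH) (Lpn (LP (LK LD1_c15 LD2_c22 LD3_c20))))))
theorem f179596 : Led Lsl_bt (LP (LK LD1_c8 LD2_c37 LD3_c30)) = (LP (LK LD1_c4 LD2_c19 LD3_c38)) :=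
  Lre_b IH (LK LD1_c8 LD2_c37 LD3_c30) (LK LD1_c4 LD2_c19 LD3_c38) Lrfl Lrfl
theorem f330945 : Led Lsl_df (LP (LK LD1_c8 LD2_c37 LD3_c30)) = (LP (LK LD1_c15 LD2_c28 LD3_c27)) :=
  Lgr Lrot12 (Lpr_bt (f179596 IH) (Lpr_dt (K21.f330941 IH) (Lpr_bt (K26.f182638 IH) (Lpn (LP (LK LD1_c15 LD2_c28 LD3_c27))))))
theorem f368639 : Led Lsl_gf (LP (LK LD1_c15 LD2_c28 LD3_c27)) = (LP (LK LD1_c17 LD2_c35 LD3_c44)) :=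
  Lgr Lrot138 (Lpe (f330945 IH) (Lpr_gt (K26.f356096 IH) (Lpe (K18.f200490 IH) (Lpe (K18.f277802 IH) (Lpe (f367303 IH) (Lpr_ef (f364178 IH) (Lpr_dt (K23.f223229 IH) (Lpr_gt (f368555 IH) (Lpe (f368547 IH) (Lpr_et (f368631 IH) (Lpn (LP (LK LD1_c17 LD2_c35 LD3_c44)))))))))))))
theorem f330994 : Led Lsl_et (LP (LK LD1_c8 LD2_c37 LD3_c30)) = (LP (LK LD1_c16 LD2_c7 LD3_c25)) :=
  Lgr Lrot74 (Lpe (K26.f330993 IH) (Lpr_ef (K21.f330989 IH) (Lpe (K26.f179657 IH) (Lpn (LP (LK LD1_c16 LD2_c7 LD3_c25))))))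
theorem f307904 : Led Lsl_df (LP (LK LD1_c26 LD2_c2 LD3_c47)) = (LP (LK LD1_c16 LD2_c39 LD3_c4)) :=
  Lgr Lrot38 (Lpr_dt (K22.f307757 IH) (Lpn (LP (LK LD1_c16 LD2_c39 LD3_c4))))
theorem f357460 : Led Lsl_gt (LP (LK LD1_c16 LD2_c7 LD3_c25)) = (LP (LK LD1_c15 LD2_c49 LD3_c2)) :=
  Lgr Lrot189 (Lpr_df (K23.f219312 IH) (Lpe (K21.f329535 IH) (Lpr_ct (K20.f321434 IH) (Lpe (K20.f321429 IH) (Lpr_dt (K22.f182302 IH) (Lpr_gt (K22.f321436 IH) (Lpe (f307904 IH) (Lpr_ct (K25.f357456 IH) (Lpe (K26.f357321 IH) (Lpn (LP (LK LD1_c15 LD2_c49 LD3_c2))))))))))))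
theorem f277863 : Led Lsl_ef (LP (LK LD1_c5 LD2_c21 LD3_c32)) = (LP (LK LD1_c10 LD2_c31 LD3_c21)) :=
  Lgr Lrot88 (Lpr_et (K20.f277860 IH) (Lpn (LP (LK LD1_c10 LD2_c31 LD3_c21))))
theorem f277862 : Led Lsl_dt (LP (LK LD1_c10 LD2_c31 LD3_c21)) = (LP (LK LD1_c19 LD2_c4 LD3_c16)) :=
  Lre_d IH (LK LD1_c10 LD2_c31 LD3_c21) (LK LD1_c19 LD2_c4 LD3_c16) Lrfl Lrfl
theorem f277866 : Led Lsl_gt (LP (LK LD1_c19 LD2_c23 LD3_c36)) = (LP (LK LD1_c19 LD2_c4 LD3_c16)) :=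
  Lgr Lrot112 (Lpe (K20.f215521 IH) (Lpr_et (K20.f215522 IH) (Lpe (K22.f224592 IH) (Lpe (K10.f189298 IH) (Lpr_dt (K16.f215808 IH) (Lpe (K14.f215791 IH) (Lpe (K14.f198880 IH) (Lpe (K16.f215816 IH) (Lpr_ef (f277863 IH) (Lpr_dt (f277862 IH) (Lpn (LP (LK LD1_c19 LD2_c4 LD3_c16)))))))))))))
theorem f357497 : Led Lsl_gf (LP (LK LD1_c27 LD2_c23 LD3_c59)) = (LP (LK LD1_c19 LD2_c20 LD3_c37)) :=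
  Lgr Lrot144 (Lpe (K20.f322666 IH) (Lpe (K20.f321161 IH) (Lpr_dt (K20.f246774 IH) (Lpr_cf (K20.f322649 IH) (Lpe (f277865 IH) (Lpe (f277866 IH) (Lpe (K20.f215521 IH) (Lpr_gf (K26.f322524 IH) (Lpr_cf (K26.f357492 IH) (Lpn (LP (LK LD1_c19 LD2_c20 LD3_c37))))))))))))
theorem f297726 : Led Lsl_dt (LP (LK LD1_c27 LD2_c23 LD3_c48)) = (LP (LK LD1_c17 LD2_c35 LD3_c44)) :=
  Lre_d IH (LK LD1_c27 LD2_c23 LD3_c48) (LK LD1_c17 LD2_c35 LD3_c44) Lrfl Lrfl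
theorem f368646 : Led Lsl_gt (LP (LK LD1_c20 LD2_c2 LD3_c28)) = (LP (LK LD1_c27 LD2_c23 LD3_c48)) :=
  Lgr Lrot137 (Lpe (K20.f322672 IH) (Lpr_dt (K21.f322670 IH) (Lpr_gf (f357497 IH) (Lpe (K26.f357499 IH) (Lpe (K25.f346580 IH) (Lpe (f357460 IH) (Lpe (f330994 IH) (Lpr_dt (K26.f356102 IH) (Lpr_gf (f368639 IH) (Lpe (f297726 IH) (Lpn (LP (LK LD1_c27 LD2_c23 LD3_c48)))))))))))))
theorem f276762 : Led Lsl_dt (LP (LK LD1_c10 LD2_c35 LD3_c56)) = (LP (LK LD1_c19 LD2_c11 LD3_c35)) :=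
  Lre_d IH (LK LD1_c10 LD2_c35 LD3_c56) (LK LD1_c19 LD2_c11 LD3_c35) Lrfl Lrfl
theorem f320375 : Led Lsl_bf (LP (LK LD1_c15 LD2_c27 LD3_c33)) = (LP (LK LD1_c15 LD2_c24 LD3_c23)) :=
  Lgr Lrot24 (Lpr_bt (K23.f320373 IH) (Lpn (LP (LK LD1_c15 LD2_c24 LD3_c23))))
theorem f254402 : Led Lsl_ct (LP (LK LD1_c5 LD2_c21 LD3_c51)) = (LP (LK LD1_c10 LD2_c33 LD3_c60)) :=
  Lre_c IH (LK LD1_c5 LD2_c21 LD3_c51) (LK LD1_c10 LD2_c33 LD3_c60) Lrfl Lrfl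
theorem f330956 : Led Lsl_gt (LP (LK LD1_c10 LD2_c33 LD3_c60)) = (LP (LK LD1_c19 LD2_c2 LD3_c54)) :=
  Lgr Lrot149 (Lpe (f254402 IH) (Lpe (K21.f254397 IH) (Lpe (K16.f271106 IH) (Lpr_ct (K17.f271105 IH) (Lpe (K20.f228796 IH) (Lpr_cf (K20.f271092 IH) (Lpe (f320375 IH) (Lpr_gf (K25.f330952 IH) (Lpe (K25.f182645 IH) (Lpe (K25.f182628 IH) (Lpn (LP (LK LD1_c19 LD2_c2 LD3_c54)))))))))))))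
theorem f254400 : Led Lsl_ct (LP (LK LD1_c10 LD2_c33 LD3_c60)) = (LP (LK LD1_c5 LD2_c21 LD3_c51)) :=
  Lre_c IH (LK LD1_c10 LD2_c33 LD3_c60) (LK LD1_c5 LD2_c21 LD3_c51) Lrfl Lrfl
theorem f276843 : Led Lsl_gf (LP (LK LD1_c19 LD2_c9 LD3_c5)) = (LP (LK LD1_c19 LD2_c11 LD3_c32)) :=
  Lgr Lrot76 (Lpr_af (K16.f276833 IH) (Lpe (K16.f276832 IH) (Lpr_gt (K19.f224354 IH) (Lpn (LP (LK LD1_c19 LD2_c11 LD3_c32))))))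
theorem f330960 : Led Lsl_df (LP (LK LD1_c19 LD2_c11 LD3_c32)) = (LP (LK LD1_c19 LD2_c2 LD3_c54)) :=
  Lgr Lrot153 (Lpe (f276843 IH) (Lpe (K16.f276810 IH) (Lpe (K16.f267671 IH) (Lpe (K21.f276786 IH) (Lpr_gf (K20.f305397 IH) (Lpe (K21.f275296 IH) (Lpr_gf (K23.f254398 IH) (Lpe (f254400 IH) (Lpr_gt (f330956 IH) (Lpn (LP (LK LD1_c19 LD2_c2 LD3_c54))))))))))))
theorem f231446 : Led Lsl_gt (LP (LK LD1_c10 LD2_c30 LD3_c34)) = (LP (LK LD1_c19 LD2_c2 LD3_c42)) :=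
  Lre_g IH (LK LD1_c10 LD2_c30 LD3_c34) (LK LD1_c19 LD2_c2 LD3_c42) Lrfl Lrfl
theorem f368643 : Led Lsl_ct (LP (LK LD1_c19 LD2_c2 LD3_c42)) = (LP (LK LD1_c17 LD2_c35 LD3_c44)) :=
  Lgr Lrot152 (Lpe (f231446 IH) (Lpe (K18.f231442 IH) (Lpe (K18.f277842 IH) (Lpr_ct (K26.f277886 IH) (Lpe (K19.f298418 IH) (Lpr_ct (K19.f224384 IH) (Lpr_df (f330960 IH) (Lpr_cf (K25.f182628 IH) (Lpr_gf (f368639 IH) (Lpn (LP (LK LD1_c17 LD2_c35 LD3_c44))))))))))))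
theorem f297792 : Led Lsl_dt (LP (LK LD1_c28 LD2_c28 LD3_c56)) = (LP (LK LD1_c19 LD2_c2 LD3_c42)) :=
  Lre_d IH (LK LD1_c28 LD2_c28 LD3_c56) (LK LD1_c19 LD2_c2 LD3_c42) Lrfl Lrfl
theorem f368648 : Led Lsl_gt (LP (LK LD1_c19 LD2_c11 LD3_c35)) = (LP (LK LD1_c28 LD2_c28 LD3_c56)) :=
  Lgr Lrot49 (Lpe (f276762 IH) (Lpr_gf (K20.f305457 IH) (Lpe (K18.f228421 IH) (Lpr_gt (K20.f200536 IH) (Lpr_dt (K20.f200552 IH) (Lpr_gt (f368646 IH) (Lpr_dt (f297726 IH) (Lpe (f368643 IH) (Lpe (f297792 IH) (Lpn (LP (LK LD1_c28 LD2_c28 LD3_c56))))))))))))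
theorem f42203 : Led Lsl_gt (LP (LK LD1_c10 LD2_c31 LD3_c51)) = (LP (LK LD1_c5 LD2_c20 LD3_c52)) :=
  Lre_g IH (LK LD1_c10 LD2_c31 LD3_c51) (LK LD1_c5 LD2_c20 LD3_c52) Lrfl Lrfl
theorem f254448 : Led Lsl_dt (LP (LK LD1_c19 LD2_c2 LD3_c42)) = (LP (LK LD1_c28 LD2_c28 LD3_c56)) :=
  Lre_d IH (LK LD1_c19 LD2_c2 LD3_c42) (LK LD1_c28 LD2_c28 LD3_c56) Lrfl Lrfl
theorem f368761 : Led Lsl_ef (LP (LK LD1_c10 LD2_c31 LD3_c51)) = (LP (LK LD1_c19 LD2_c2 LD3_c42)) :=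
  Lgr Lrot114 (Lpr_gt (f42203 IH) (Lpe (K20.f264035 IH) (Lpr_dt (K12.f42164 IH) (Lpe (K15.f264026 IH) (Lpe (K15.f217925 IH) (Lpr_et (K26.f228663 IH) (Lpe (K20.f305457 IH) (Lpr_dt (f276762 IH) (Lpr_gt (f368648 IH) (Lpe (f254448 IH) (Lpn (LP (LK LD1_c19 LD2_c2 LD3_c42)))))))))))))
theorem f368768 : Led Lsl_et (LP (LK LD1_c10 LD2_c31 LD3_c51)) = (LP (LK LD1_c19 LD2_c2 LD3_c42)) :=
  Lgr Lrot87 (Lpr_ef (f368761 IH) (Lpn (LP (LK LD1_c19 LD2_c2 LD3_c42))))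
theorem f368637 : Led Lsl_ef (LP (LK LD1_c10 LD2_c41 LD3_c3)) = (LP (LK LD1_c17 LD2_c35 LD3_c44)) :=
  Lgr Lrot88 (Lpr_et (f368631 IH) (Lpn (LP (LK LD1_c17 LD2_c35 LD3_c44))))
theorem f368772 : Led Lsl_cf (LP (LK LD1_c10 LD2_c31 LD3_c51)) = (LP (LK LD1_c10 LD2_c41 LD3_c3)) :=
  Lgr Lrot39 (Lpr_et (f368768 IH) (Lpr_ct (f368643 IH) (Lpe (f368637 IH) (Lpn (LP (LK LD1_c10 LD2_c41 LD3_c3))))))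
theorem f187397 : Led Lsl_ct (LP (LK LD1_c4 LD2_c54 LD3_c37)) = (LP (LK LD1_c9 LD2_c40 LD3_c48)) :=
  Lre_c IH (LK LD1_c4 LD2_c54 LD3_c37) (LK LD1_c9 LD2_c40 LD3_c48) Lrfl Lrfl
theorem f263739 : Led Lsl_gt (LP (LK LD1_c9 LD2_c40 LD3_c48)) = (LP (LK LD1_c17 LD2_c48 LD3_c22)) :=
  Lre_g IH (LK LD1_c9 LD2_c40 LD3_c48) (LK LD1_c17 LD2_c48 LD3_c22) Lrfl Lrfl
theorem f368539 : Led Lsl_ct (LP (LK LD1_c10 LD2_c31 LD3_c42)) = (LP (LK LD1_c17 LD2_c48 LD3_c22)) :=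
  Lgr Lrot63 (Lpe (K23.f348090 IH) (Lpr_gt (K23.f264746 IH) (Lpe (K23.f263051 IH) (Lpr_ct (K22.f264598 IH) (Lpr_gt (f281725 IH) (Lpr_cf (f363396 IH) (Lpr_bt (f363387 IH) (Lpr_gt (f368535 IH) (Lpr_ct (f187397 IH) (Lpr_gt (f263739 IH) (Lpn (LP (LK LD1_c17 LD2_c48 LD3_c22)))))))))))))
theorem f363482 : Led Lsl_bf (LP (LK LD1_c10 LD2_c41 LD3_c3)) = (LP (LK LD1_c8 LD2_c26 LD3_c61)) :=
  Lgr Lrot156 (Lpr_gt (f223929 IH) (Lpe (K15.f173101 IH) (Lpr_ct (K26.f223955 IH) (Lpr_gt (f224047 IH) (Lpe (f363465 IH) (Lpe (f348088 IH) (Lpr_gt (f264447 IH) (Lpr_ct (K23.f263042 IH) (Lpr_gt (f363476 IH) (Lpe (f355308 IH) (Lpn (LP (LK LD1_c8 LD2_c26 LD3_c61)))))))))))))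
theorem f363484 : Led Lsl_bt (LP (LK LD1_c10 LD2_c41 LD3_c3)) = (LP (LK LD1_c8 LD2_c26 LD3_c61)) :=
  Lgr Lrot127 (Lpr_bf (f363482 IH) (Lpn (LP (LK LD1_c8 LD2_c26 LD3_c61))))
theorem f368774 : Led Lsl_gt (LP (LK LD1_c17 LD2_c48 LD3_c22)) = (LP (LK LD1_c9 LD2_c42 LD3_c39)) :=
  Lgr Lrot149 (Lpe (f368539 IH) (Lpe (K23.f42246 IH) (Lpe (K18.f42235 IH) (Lpr_ct (K25.f42248 IH) (Lpe (f42203 IH) (Lpr_cf (f368772 IH) (Lpr_bt (f363484 IH) (Lpe (K26.f364294 IH) (Lpe (K15.f217528 IH) (Lpr_ct (f364300 IH) (Lpn (LP (LK LD1_c9 LD2_c42 LD3_c39)))))))))))))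
theorem f368778 : Led Lsl_ft (LP (LK LD1_c9 LD2_c40 LD3_c48)) = (LP (LK LD1_c17 LD2_c48 LD3_c24)) :=
  Lre_f IH (LK LD1_c9 LD2_c40 LD3_c48) (LK LD1_c17 LD2_c48 LD3_c24) Lrfl Lrfl
theorem f368779 : Led Lsl_at (LP (LK LD1_c17 LD2_c48 LD3_c24)) = (LP (LK LD1_c9 LD2_c42 LD3_c39)) :=
  Lgr Lrot26 (Lpe (f368778 IH) (Lpr_gt (f263739 IH) (Lpr_gt (f368774 IH) (Lpn (LP (LK LD1_c9 LD2_c42 LD3_c39))))))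
theorem f346330 : Led Lsl_ft (LP (LK LD1_c9 LD2_c40 LD3_c44)) = (LP (LK LD1_c17 LD2_c48 LD3_c19)) :=
  Lre_f IH (LK LD1_c9 LD2_c40 LD3_c44) (LK LD1_c17 LD2_c48 LD3_c19) Lrfl Lrfl
theorem f367459 : Led Lsl_af (LP (LK LD1_c9 LD2_c42 LD3_c17)) = (LP (LK LD1_c17 LD2_c48 LD3_c19)) :=
  Lgr Lrot31 (Lpr_gf (f367457 IH) (Lpr_gf (K26.f346323 IH) (Lpr_ft (f346330 IH) (Lpn (LP (LK LD1_c17 LD2_c48 LD3_c19))))))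
theorem f369050 : Led Lsl_ef (LP (LK LD1_c17 LD2_c48 LD3_c24)) = (LP (LK LD1_c9 LD2_c42 LD3_c17)) :=
  Lgr Lrot20 (Lpr_at (f368779 IH) (Lpe (f367364 IH) (Lpe (f367459 IH) (Lpn (LP (LK LD1_c9 LD2_c42 LD3_c17))))))
theorem f218758 : Led Lsl_et (LP (LK LD1_c9 LD2_c40 LD3_c48)) = (LP (LK LD1_c4 LD2_c54 LD3_c36)) :=
  Lre_e IH (LK LD1_c9 LD2_c40 LD3_c48) (LK LD1_c4 LD2_c54 LD3_c36) Lrfl Lrfl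
theorem f363977 : Led Lsl_ft (LP (LK LD1_c4 LD2_c55 LD3_c20)) = (LP (LK LD1_c9 LD2_c42 LD3_c17)) :=
  Lre_f IH (LK LD1_c4 LD2_c55 LD3_c20) (LK LD1_c9 LD2_c42 LD3_c17) Lrfl Lrfl
theorem f369055 : Led Lsl_ft (LP (LK LD1_c4 LD2_c54 LD3_c36)) = (LP (LK LD1_c2 LD2_c25 LD3_c33)) :=
  Lgr Lrot86 (Lpe (f218758 IH) (Lpe (f367408 IH) (Lpr_ef (f369050 IH) (Lpe (f363977 IH) (Lpe (K25.f291858 IH) (Lpn (LP (LK LD1_c2 LD2_c25 LD3_c33))))))))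
theorem f369061 : Led Lsl_ff (LP (LK LD1_c4 LD2_c54 LD3_c36)) = (LP (LK LD1_c2 LD2_c25 LD3_c33)) :=
  Lgr Lrot3 (Lpr_ft (f369055 IH) (Lpn (LP (LK LD1_c2 LD2_c25 LD3_c33))))
theorem f369067 : Led Lsl_ft (LP (LK LD1_c9 LD2_c40 LD3_c47)) = (LP (LK LD1_c4 LD2_c55 LD3_c19)) :=
  Lgr Lrot54 (Lpe (K16.f187345 IH) (Lpr_ff (f369061 IH) (Lpe (K16.f217345 IH) (Lpn (LP (LK LD1_c4 LD2_c55 LD3_c19))))))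
theorem f277525 : Led Lsl_gt (LP (LK LD1_c5 LD2_c24 LD3_c15)) = (LP (LK LD1_c2 LD2_c38 LD3_c52)) :=
  Lgr Lrot146 (Lpr_dt (K16.f277503 IH) (Lpr_gt (K15.f171897 IH) (Lpr_ct (K12.f171896 IH) (Lpe (K12.f187023 IH) (Lpr_ct (K13.f179763 IH) (Lpr_dt (K14.f246551 IH) (Lpr_cf (K14.f246495 IH) (Lpe (K14.f55173 IH) (Lpr_cf (K20.f218229 IH) (Lpn (LP (LK LD1_c2 LD2_c38 LD3_c52))))))))))))
theorem f194443 : Led Lsl_dt (LP (LK LD1_c2 LD2_c38 LD3_c52)) = (LP (LK LD1_c1 LD2_c16 LD3_c17)) :=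
  Lre_d IH (LK LD1_c2 LD2_c38 LD3_c52) (LK LD1_c1 LD2_c16 LD3_c17) Lrfl Lrfl
theorem f201186 : Led Lsl_dt (LP (LK LD1_c9 LD2_c40 LD3_c43)) = (LP (LK LD1_c4 LD2_c54 LD3_c34)) :=
  Lre_d IH (LK LD1_c9 LD2_c40 LD3_c43) (LK LD1_c4 LD2_c54 LD3_c34) Lrfl Lrfl
theorem f277555 : Led Lsl_gf (LP (LK LD1_c9 LD2_c40 LD3_c43)) = (LP (LK LD1_c9 LD2_c41 LD3_c20)) :=
  Lgr Lrot144 (Lpr_dt (f201186 IH) (Lpe (K12.f201187 IH) (Lpr_dt (K12.f196568 IH) (Lpr_cf (K12.f217655 IH) (Lpe (K12.f217643 IH) (Lpr_gf (K12.f217657 IH) (Lpe (f194443 IH) (Lpe (f277525 IH) (Lpr_cf (K16.f277527 IH) (Lpn (LP (LK LD1_c9 LD2_c41 LD3_c20))))))))))))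
theorem f369072 : Led Lsl_af (LP (LK LD1_c9 LD2_c40 LD3_c43)) = (LP (LK LD1_c4 LD2_c55 LD3_c19)) :=
  Lgr Lrot31 (Lpr_gf (f277555 IH) (Lpr_gf (K16.f274938 IH) (Lpr_ft (f369067 IH) (Lpn (LP (LK LD1_c4 LD2_c55 LD3_c19))))))
theorem f201200 : Led Lsl_et (LP (LK LD1_c9 LD2_c40 LD3_c43)) = (LP (LK LD1_c17 LD2_c48 LD3_c18)) :=
  Lre_e IH (LK LD1_c9 LD2_c40 LD3_c43) (LK LD1_c17 LD2_c48 LD3_c18) Lrfl Lrfl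
theorem f263896 : Led Lsl_et (LP (LK LD1_c9 LD2_c42 LD3_c14)) = (LP (LK LD1_c4 LD2_c55 LD3_c19)) :=
  Lre_e IH (LK LD1_c9 LD2_c42 LD3_c14) (LK LD1_c4 LD2_c55 LD3_c19) Lrfl Lrfl
theorem f369079 : Led Lsl_at (LP (LK LD1_c17 LD2_c48 LD3_c18)) = (LP (LK LD1_c9 LD2_c42 LD3_c14)) :=
  Lgr Lrot80 (Lpe (f201200 IH) (Lpr_af (f369072 IH) (Lpe (f263896 IH) (Lpn (LP (LK LD1_c9 LD2_c42 LD3_c14))))))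
theorem f201193 : Led Lsl_dt (LP (LK LD1_c4 LD2_c54 LD3_c34)) = (LP (LK LD1_c9 LD2_c40 LD3_c43)) :=
  Lre_d IH (LK LD1_c4 LD2_c54 LD3_c34) (LK LD1_c9 LD2_c40 LD3_c43) Lrfl Lrfl
theorem f218836 : Led Lsl_ct (LP (LK LD1_c5 LD2_c20 LD3_c60)) = (LP (LK LD1_c9 LD2_c40 LD3_c43)) :=
  Lgr Lrot7 (Lpe (K22.f42258 IH) (Lpe (K13.f42257 IH) (Lpe (K12.f181796 IH) (Lpe (K12.f181797 IH) (Lpr_cf (K12.f218812 IH) (Lpr_gt (K12.f217356 IH) (Lpr_dt (K12.f49255 IH) (Lpr_gt (K12.f217322 IH) (Lpr_dt (f201193 IH) (Lpn (LP (LK LD1_c9 LD2_c40 LD3_c43))))))))))))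
theorem f218844 : Led Lsl_et (LP (LK LD1_c10 LD2_c32 LD3_c3)) = (LP (LK LD1_c5 LD2_c20 LD3_c60)) :=
  Lre_e IH (LK LD1_c10 LD2_c32 LD3_c3) (LK LD1_c5 LD2_c20 LD3_c60) Lrfl Lrfl
theorem f218845 : Led Lsl_cf (LP (LK LD1_c10 LD2_c32 LD3_c3)) = (LP (LK LD1_c17 LD2_c48 LD3_c18)) :=
  Lgr Lrot39 (Lpr_et (f218844 IH) (Lpr_ct (f218836 IH) (Lpr_et (f201200 IH) (Lpn (LP (LK LD1_c17 LD2_c48 LD3_c18))))))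
theorem f218852 : Led Lsl_ct (LP (LK LD1_c10 LD2_c32 LD3_c3)) = (LP (LK LD1_c17 LD2_c48 LD3_c18)) :=
  Lgr Lrot59 (Lpr_cf (f218845 IH) (Lpn (LP (LK LD1_c17 LD2_c48 LD3_c18))))
theorem f217346 : Led Lsl_et (LP (LK LD1_c4 LD2_c55 LD3_c19)) = (LP (LK LD1_c9 LD2_c42 LD3_c14)) :=
  Lre_e IH (LK LD1_c4 LD2_c55 LD3_c19) (LK LD1_c9 LD2_c42 LD3_c14) Lrfl Lrfl
theorem f246575 : Led Lsl_et (LP (LK LD1_c5 LD2_c25 LD3_c8)) = (LP (LK LD1_c2 LD2_c39 LD3_c3)) :=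
  Lre_e IH (LK LD1_c5 LD2_c25 LD3_c8) (LK LD1_c2 LD2_c39 LD3_c3) Lrfl Lrfl
theorem f263872 : Led Lsl_ct (LP (LK LD1_c9 LD2_c42 LD3_c14)) = (LP (LK LD1_c5 LD2_c25 LD3_c8)) :=
  Lgr Lrot15 (Lpe (f217346 IH) (Lpr_cf (K15.f263857 IH) (Lpe (f246575 IH) (Lpn (LP (LK LD1_c5 LD2_c25 LD3_c8))))))
theorem f369083 : Led Lsl_af (LP (LK LD1_c10 LD2_c32 LD3_c3)) = (LP (LK LD1_c5 LD2_c25 LD3_c8)) :=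
  Lgr Lrot68 (Lpr_ct (f218852 IH) (Lpr_at (f369079 IH) (Lpr_ct (f263872 IH) (Lpn (LP (LK LD1_c5 LD2_c25 LD3_c8))))))
theorem f369085 : Led Lsl_at (LP (LK LD1_c10 LD2_c32 LD3_c3)) = (LP (LK LD1_c5 LD2_c25 LD3_c8)) :=
  Lgr Lrot100 (Lpr_af (f369083 IH) (Lpn (LP (LK LD1_c5 LD2_c25 LD3_c8))))
theorem f218855 : Led Lsl_et (LP (LK LD1_c5 LD2_c20 LD3_c60)) = (LP (LK LD1_c10 LD2_c32 LD3_c3)) :=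
  Lre_e IH (LK LD1_c5 LD2_c20 LD3_c60) (LK LD1_c10 LD2_c32 LD3_c3) Lrfl Lrfl
theorem f369089 : Led Lsl_af (LP (LK LD1_c5 LD2_c20 LD3_c60)) = (LP (LK LD1_c2 LD2_c39 LD3_c3)) :=
  Lgr Lrot50 (Lpr_et (f218855 IH) (Lpr_at (f369085 IH) (Lpr_et (f246575 IH) (Lpn (LP (LK LD1_c2 LD2_c39 LD3_c3))))))
theorem f277028 : Led Lsl_gt (LP (LK LD1_c5 LD2_c22 LD3_c52)) = (LP (LK LD1_c5 LD2_c20 LD3_c60)) :=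
  Lgr Lrot5 (Lpr_ft (K16.f277018 IH) (Lpr_at (K16.f276894 IH) (Lpe (K22.f256818 IH) (Lpn (LP (LK LD1_c5 LD2_c20 LD3_c60))))))
theorem f369094 : Led Lsl_ft (LP (LK LD1_c5 LD2_c20 LD3_c56)) = (LP (LK LD1_c2 LD2_c39 LD3_c3)) :=
  Lgr Lrot2 (Lpe (K16.f277481 IH) (Lpr_gt (f277028 IH) (Lpr_af (f369089 IH) (Lpn (LP (LK LD1_c2 LD2_c39 LD3_c3))))))
theorem f369098 : Led Lsl_ff (LP (LK LD1_c2 LD2_c37 LD3_c5)) = (LP (LK LD1_c1 LD2_c16 LD3_c21)) :=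
  Lgr Lrot19 (Lpr_dt (K16.f167952 IH) (Lpr_ft (f369094 IH) (Lpr_dt (K15.f173103 IH) (Lpn (LP (LK LD1_c1 LD2_c16 LD3_c21))))))
theorem f369107 : Led Lsl_at (LP (LK LD1_c2 LD2_c37 LD3_c5)) = (LP (LK LD1_c1 LD2_c16 LD3_c20)) :=
  Lgr Lrot26 (Lpr_ff (f369098 IH) (Lpr_gt (K9.f173088 IH) (Lpr_gt (K12.f195888 IH) (Lpn (LP (LK LD1_c1 LD2_c16 LD3_c20))))))
theorem f218858 : Led Lsl_dt (LP (LK LD1_c5 LD2_c20 LD3_c60)) = (LP (LK LD1_c2 LD2_c37 LD3_c6)) :=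
  Lre_d IH (LK LD1_c5 LD2_c20 LD3_c60) (LK LD1_c2 LD2_c37 LD3_c6) Lrfl Lrfl
theorem f369092 : Led Lsl_at (LP (LK LD1_c2 LD2_c37 LD3_c6)) = (LP (LK LD1_c1 LD2_c16 LD3_c21)) :=
  Lgr Lrot51 (Lpe (f218858 IH) (Lpr_af (f369089 IH) (Lpe (K14.f218496 IH) (Lpn (LP (LK LD1_c1 LD2_c16 LD3_c21))))))
theorem f369120 : Led Lsl_ff (LP (LK LD1_c2 LD2_c37 LD3_c6)) = (LP (LK LD1_c1 LD2_c16 LD3_c20)) :=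
  Lgr Lrot30 (Lpr_at (f369092 IH) (Lpe (f369098 IH) (Lpr_at (f369107 IH) (Lpn (LP (LK LD1_c1 LD2_c16 LD3_c20))))))
theorem f369129 : Led Lsl_ft (LP (LK LD1_c2 LD2_c37 LD3_c6)) = (LP (LK LD1_c1 LD2_c16 LD3_c20)) :=
  Lgr Lrot48 (Lpr_ff (f369120 IH) (Lpn (LP (LK LD1_c1 LD2_c16 LD3_c20))))
theorem f369138 : Led Lsl_ff (LP (LK LD1_c5 LD2_c20 LD3_c60)) = (LP (LK LD1_c2 LD2_c38 LD3_c61)) :=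
  Lgr Lrot19 (Lpr_dt (f218858 IH) (Lpr_ft (f369129 IH) (Lpr_dt (K14.f195890 IH) (Lpn (LP (LK LD1_c2 LD2_c38 LD3_c61))))))
theorem f369144 : Led Lsl_ft (LP (LK LD1_c9 LD2_c40 LD3_c43)) = (LP (LK LD1_c4 LD2_c55 LD3_c28)) :=
  Lgr Lrot4 (Lpe (f218836 IH) (Lpr_ff (f369138 IH) (Lpr_cf (K14.f246460 IH) (Lpn (LP (LK LD1_c4 LD2_c55 LD3_c28))))))
theorem f218857 : Led Lsl_bt (LP (LK LD1_c17 LD2_c48 LD3_c16)) = (LP (LK LD1_c9 LD2_c40 LD3_c43)) :=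
  Lre_b IH (LK LD1_c17 LD2_c48 LD3_c16) (LK LD1_c9 LD2_c40 LD3_c43) Lrfl Lrfl
theorem f246475 : Led Lsl_bt (LP (LK LD1_c4 LD2_c55 LD3_c28)) = (LP (LK LD1_c9 LD2_c42 LD3_c33)) :=
  Lre_b IH (LK LD1_c4 LD2_c55 LD3_c28) (LK LD1_c9 LD2_c42 LD3_c33) Lrfl Lrfl
theorem f369148 : Led Lsl_ff (LP (LK LD1_c17 LD2_c48 LD3_c16)) = (LP (LK LD1_c9 LD2_c42 LD3_c33)) :=
  Lgr Lrot25 (Lpr_bt (f218857 IH) (Lpr_ft (f369144 IH) (Lpr_bt (f246475 IH) (Lpn (LP (LK LD1_c9 LD2_c42 LD3_c33))))))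
theorem f201169 : Led Lsl_dt (LP (LK LD1_c17 LD2_c48 LD3_c16)) = (LP (LK LD1_c9 LD2_c40 LD3_c42)) :=
  Lre_d IH (LK LD1_c17 LD2_c48 LD3_c16) (LK LD1_c9 LD2_c40 LD3_c42) Lrfl Lrfl
theorem f218693 : Led Lsl_dt (LP (LK LD1_c4 LD2_c55 LD3_c27)) = (LP (LK LD1_c9 LD2_c42 LD3_c33)) :=
  Lre_d IH (LK LD1_c4 LD2_c55 LD3_c27) (LK LD1_c9 LD2_c42 LD3_c33) Lrfl Lrfl
theorem f369150 : Led Lsl_ft (LP (LK LD1_c9 LD2_c40 LD3_c42)) = (LP (LK LD1_c4 LD2_c55 LD3_c27)) :=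
  Lgr Lrot54 (Lpe (f201169 IH) (Lpr_ff (f369148 IH) (Lpe (f218693 IH) (Lpn (LP (LK LD1_c4 LD2_c55 LD3_c27))))))
theorem f201173 : Led Lsl_gt (LP (LK LD1_c9 LD2_c40 LD3_c42)) = (LP (LK LD1_c17 LD2_c48 LD3_c14)) :=
  Lre_g IH (LK LD1_c9 LD2_c40 LD3_c42) (LK LD1_c17 LD2_c48 LD3_c14) Lrfl Lrfl
theorem f369154 : Led Lsl_at (LP (LK LD1_c4 LD2_c55 LD3_c27)) = (LP (LK LD1_c9 LD2_c42 LD3_c32)) :=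
  Lre_a IH (LK LD1_c4 LD2_c55 LD3_c27) (LK LD1_c9 LD2_c42 LD3_c32) Lrfl Lrfl
theorem f369161 : Led Lsl_gt (LP (LK LD1_c17 LD2_c48 LD3_c14)) = (LP (LK LD1_c9 LD2_c42 LD3_c32)) :=
  Lgr Lrot46 (Lpe (f201173 IH) (Lpr_ft (f369150 IH) (Lpr_at (f369154 IH) (Lpn (LP (LK LD1_c9 LD2_c42 LD3_c32))))))
theorem f346102 : Led Lsl_bt (LP (LK LD1_c27 LD2_c35 LD3_c33)) = (LP (LK LD1_c17 LD2_c48 LD3_c14)) :=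
  Lre_b IH (LK LD1_c27 LD2_c35 LD3_c33) (LK LD1_c17 LD2_c48 LD3_c14) Lrfl Lrfl
theorem f330216 : Led Lsl_gt (LP (LK LD1_c18 LD2_c2 LD3_c45)) = (LP (LK LD1_c9 LD2_c51 LD3_c32)) :=
  Lre_g IH (LK LD1_c18 LD2_c2 LD3_c45) (LK LD1_c9 LD2_c51 LD3_c32) Lrfl Lrfl
theorem f41213 : Led Lsl_bt (LP (LK LD1_c9 LD2_c40 LD3_c51)) = (LP (LK LD1_c4 LD2_c54 LD3_c38)) :=
  Lre_b IH (LK LD1_c9 LD2_c40 LD3_c51) (LK LD1_c4 LD2_c54 LD3_c38) Lrfl Lrfl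
theorem f346103 : Led Lsl_cf (LP (LK LD1_c18 LD2_c2 LD3_c45)) = (LP (LK LD1_c27 LD2_c35 LD3_c33)) :=
  Lgr Lrot160 (Lpr_gt (f330216 IH) (Lpr_cf (K25.f346068 IH) (Lpr_bt (f41213 IH) (Lpr_gt (K12.f41212 IH) (Lpr_ct (K1.f41165 IH) (Lpr_gt (K12.f41227 IH) (Lpe (K12.f201183 IH) (Lpr_bt (K22.f201131 IH) (Lpr_gt (f201173 IH) (Lpe (f346102 IH) (Lpn (LP (LK LD1_c27 LD2_c35 LD3_c33)))))))))))))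
theorem f346065 : Led Lsl_at (LP (LK LD1_c18 LD2_c2 LD3_c46)) = (LP (LK LD1_c9 LD2_c51 LD3_c32)) :=
  Lre_a IH (LK LD1_c18 LD2_c2 LD3_c46) (LK LD1_c9 LD2_c51 LD3_c32) Lrfl Lrfl
theorem f338102 : Led Lsl_at (LP (LK LD1_c9 LD2_c42 LD3_c49)) = (LP (LK LD1_c17 LD2_c51 LD3_c47)) :=
  Lre_a IH (LK LD1_c9 LD2_c42 LD3_c49) (LK LD1_c17 LD2_c51 LD3_c47) Lrfl Lrfl
theorem f346066 : Led Lsl_ff (LP (LK LD1_c18 LD2_c2 LD3_c46)) = (LP (LK LD1_c17 LD2_c51 LD3_c47)) :=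
  Lgr Lrot30 (Lpr_at (f346065 IH) (Lpr_ft (K25.f346063 IH) (Lpr_at (f338102 IH) (Lpn (LP (LK LD1_c17 LD2_c51 LD3_c47))))))
theorem f346114 : Led Lsl_gf (LP (LK LD1_c18 LD2_c2 LD3_c45)) = (LP (LK LD1_c17 LD2_c51 LD3_c47)) :=
  Lgr Lrot47 (Lpr_gt (f330216 IH) (Lpe (f346065 IH) (Lpr_ff (f346066 IH) (Lpn (LP (LK LD1_c17 LD2_c51 LD3_c47))))))
theorem f331695 : Led Lsl_ct (LP (LK LD1_c9 LD2_c42 LD3_c48)) = (LP (LK LD1_c17 LD2_c51 LD3_c47)) :=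
  Lre_c IH (LK LD1_c9 LD2_c42 LD3_c48) (LK LD1_c17 LD2_c51 LD3_c47) Lrfl Lrfl
theorem f338058 : Led Lsl_at (LP (LK LD1_c4 LD2_c55 LD3_c38)) = (LP (LK LD1_c9 LD2_c40 LD3_c52)) :=
  Lgr Lrot107 (Lpe (K14.f218491 IH) (Lpr_af (K22.f338052 IH) (Lpe (K12.f224676 IH) (Lpn (LP (LK LD1_c9 LD2_c40 LD3_c52))))))
theorem f218490 : Led Lsl_bt (LP (LK LD1_c9 LD2_c42 LD3_c59)) = (LP (LK LD1_c4 LD2_c55 LD3_c38)) :=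
  Lre_b IH (LK LD1_c9 LD2_c42 LD3_c59) (LK LD1_c4 LD2_c55 LD3_c38) Lrfl Lrfl
theorem f338060 : Led Lsl_at (LP (LK LD1_c17 LD2_c52 LD3_c5)) = (LP (LK LD1_c9 LD2_c42 LD3_c59)) :=
  Lre_a IH (LK LD1_c17 LD2_c52 LD3_c5) (LK LD1_c9 LD2_c42 LD3_c59) Lrfl Lrfl
theorem f331724 : Led Lsl_at (LP (LK LD1_c17 LD2_c48 LD3_c29)) = (LP (LK LD1_c27 LD2_c35 LD3_c40)) :=
  Lre_a IH (LK LD1_c17 LD2_c48 LD3_c29) (LK LD1_c27 LD2_c35 LD3_c40) Lrfl Lrfl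
theorem f338061 : Led Lsl_bf (LP (LK LD1_c17 LD2_c52 LD3_c5)) = (LP (LK LD1_c27 LD2_c35 LD3_c40)) :=
  Lgr Lrot81 (Lpr_at (f338060 IH) (Lpr_bt (f218490 IH) (Lpr_at (f338058 IH) (Lpr_bt (K22.f224701 IH) (Lpr_at (f331724 IH) (Lpn (LP (LK LD1_c27 LD2_c35 LD3_c40))))))))
theorem f168717 : Led Lsl_dt (LP (LK LD1_c17 LD2_c52 LD3_c5)) = (LP (LK LD1_c9 LD2_c42 LD3_c58)) :=
  Lre_d IH (LK LD1_c17 LD2_c52 LD3_c5) (LK LD1_c9 LD2_c42 LD3_c58) Lrfl Lrfl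
theorem f331688 : Led Lsl_dt (LP (LK LD1_c17 LD2_c48 LD3_c28)) = (LP (LK LD1_c27 LD2_c35 LD3_c40)) :=
  Lre_d IH (LK LD1_c17 LD2_c48 LD3_c28) (LK LD1_c27 LD2_c35 LD3_c40) Lrfl Lrfl
theorem f338073 : Led Lsl_bt (LP (LK LD1_c9 LD2_c42 LD3_c58)) = (LP (LK LD1_c17 LD2_c48 LD3_c28)) :=
  Lgr Lrot95 (Lpe (f168717 IH) (Lpr_bf (f338061 IH) (Lpe (f331688 IH) (Lpn (LP (LK LD1_c17 LD2_c48 LD3_c28))))))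
theorem f338075 : Led Lsl_bf (LP (LK LD1_c10 LD2_c38 LD3_c45)) = (LP (LK LD1_c9 LD2_c42 LD3_c48)) :=
  Lgr Lrot61 (Lpe (K22.f331734 IH) (Lpr_bt (f338073 IH) (Lpr_ft (K22.f331681 IH) (Lpn (LP (LK LD1_c9 LD2_c42 LD3_c48))))))
theorem f369166 : Led Lsl_ct (LP (LK LD1_c9 LD2_c42 LD3_c32)) = (LP (LK LD1_c17 LD2_c51 LD3_c9)) :=
  Lre_c IH (LK LD1_c9 LD2_c42 LD3_c32) (LK LD1_c17 LD2_c51 LD3_c9) Lrfl Lrfl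
theorem f369168 : Led Lsl_gf (LP (LK LD1_c15 LD2_c51 LD3_c35)) = (LP (LK LD1_c17 LD2_c51 LD3_c9)) :=
  Lgr Lrot129 (Lpe (K22.f201194 IH) (Lpr_bt (K22.f168726 IH) (Lpr_gt (K22.f331745 IH) (Lpr_bf (f338075 IH) (Lpr_ct (f331695 IH) (Lpe (f346114 IH) (Lpr_cf (f346103 IH) (Lpr_bt (f346102 IH) (Lpr_gt (f369161 IH) (Lpr_ct (f369166 IH) (Lpn (LP (LK LD1_c17 LD2_c51 LD3_c9)))))))))))))
theorem f201171 : Led Lsl_at (LP (LK LD1_c15 LD2_c51 LD3_c36)) = (LP (LK LD1_c8 LD2_c26 LD3_c49)) :=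
  Lre_a IH (LK LD1_c15 LD2_c51 LD3_c36) (LK LD1_c8 LD2_c26 LD3_c49) Lrfl Lrfl
theorem f369173 : Led Lsl_ff (LP (LK LD1_c15 LD2_c51 LD3_c36)) = (LP (LK LD1_c17 LD2_c51 LD3_c9)) :=
  Lgr Lrot52 (Lpr_at (f201171 IH) (Lpe (K22.f201178 IH) (Lpr_gf (f369168 IH) (Lpn (LP (LK LD1_c17 LD2_c51 LD3_c9))))))
theorem f369175 : Led Lsl_at (LP (LK LD1_c9 LD2_c42 LD3_c24)) = (LP (LK LD1_c17 LD2_c51 LD3_c9)) :=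
  Lre_a IH (LK LD1_c9 LD2_c42 LD3_c24) (LK LD1_c17 LD2_c51 LD3_c9) Lrfl Lrfl
theorem f369176 : Led Lsl_ft (LP (LK LD1_c8 LD2_c26 LD3_c49)) = (LP (LK LD1_c9 LD2_c42 LD3_c24)) :=
  Lgr Lrot101 (Lpe (f201171 IH) (Lpr_ff (f369173 IH) (Lpe (f369175 IH) (Lpn (LP (LK LD1_c9 LD2_c42 LD3_c24))))))
theorem f201174 : Led Lsl_dt (LP (LK LD1_c15 LD2_c51 LD3_c37)) = (LP (LK LD1_c8 LD2_c26 LD3_c49)) :=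
  Lre_d IH (LK LD1_c15 LD2_c51 LD3_c37) (LK LD1_c8 LD2_c26 LD3_c49) Lrfl Lrfl
theorem f219066 : Led Lsl_dt (LP (LK LD1_c9 LD2_c42 LD3_c24)) = (LP (LK LD1_c17 LD2_c51 LD3_c10)) :=
  Lre_d IH (LK LD1_c9 LD2_c42 LD3_c24) (LK LD1_c17 LD2_c51 LD3_c10) Lrfl Lrfl
theorem f369265 : Led Lsl_ff (LP (LK LD1_c15 LD2_c51 LD3_c37)) = (LP (LK LD1_c17 LD2_c51 LD3_c10)) :=
  Lgr Lrot19 (Lpr_dt (f201174 IH) (Lpr_ft (f369176 IH) (Lpr_dt (f219066 IH) (Lpn (LP (LK LD1_c17 LD2_c51 LD3_c10))))))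
theorem f369271 : Led Lsl_ft (LP (LK LD1_c15 LD2_c51 LD3_c37)) = (LP (LK LD1_c17 LD2_c51 LD3_c10)) :=
  Lgr Lrot48 (Lpr_ff (f369265 IH) (Lpn (LP (LK LD1_c17 LD2_c51 LD3_c10))))
theorem f218183 : Led Lsl_bt (LP (LK LD1_c8 LD2_c26 LD3_c50)) = (LP (LK LD1_c15 LD2_c51 LD3_c37)) :=
  Lre_b IH (LK LD1_c8 LD2_c26 LD3_c50) (LK LD1_c15 LD2_c51 LD3_c37) Lrfl Lrfl
theorem f312048 : Led Lsl_bt (LP (LK LD1_c17 LD2_c51 LD3_c10)) = (LP (LK LD1_c9 LD2_c42 LD3_c25)) :=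
  Lre_b IH (LK LD1_c17 LD2_c51 LD3_c10) (LK LD1_c9 LD2_c42 LD3_c25) Lrfl Lrfl
theorem f369274 : Led Lsl_ff (LP (LK LD1_c8 LD2_c26 LD3_c50)) = (LP (LK LD1_c9 LD2_c42 LD3_c25)) :=
  Lgr Lrot25 (Lpr_bt (f218183 IH) (Lpr_ft (f369271 IH) (Lpr_bt (f312048 IH) (Lpn (LP (LK LD1_c9 LD2_c42 LD3_c25))))))
theorem f250935 : Led Lsl_dt (LP (LK LD1_c10 LD2_c19 LD3_c20)) = (LP (LK LD1_c5 LD2_c14 LD3_c59)) :=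
  Lre_d IH (LK LD1_c10 LD2_c19 LD3_c20) (LK LD1_c5 LD2_c14 LD3_c59) Lrfl Lrfl
theorem f295171 : Led Lsl_gt (LP (LK LD1_c8 LD2_c18 LD3_c31)) = (LP (LK LD1_c10 LD2_c19 LD3_c20)) :=
  Lgr Lrot189 (Lpe (K17.f236320 IH) (Lpr_gf (K20.f282796 IH) (Lpr_ct (K15.f188561 IH) (Lpr_gt (K15.f54514 IH) (Lpe (K17.f262857 IH) (Lpr_gt (K15.f262869 IH) (Lpr_dt (K15.f266449 IH) (Lpr_ct (K18.f295161 IH) (Lpe (f250935 IH) (Lpn (LP (LK LD1_c10 LD2_c19 LD3_c20))))))))))))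
theorem f369279 : Led Lsl_at (LP (LK LD1_c8 LD2_c26 LD3_c50)) = (LP (LK LD1_c10 LD2_c19 LD3_c20)) :=
  Lgr Lrot26 (Lpr_ff (f369274 IH) (Lpr_gt (K18.f295297 IH) (Lpr_gt (f295171 IH) (Lpn (LP (LK LD1_c10 LD2_c19 LD3_c20))))))
theorem f218180 : Led Lsl_et (LP (LK LD1_c15 LD2_c51 LD3_c38)) = (LP (LK LD1_c8 LD2_c26 LD3_c50)) :=
  Lre_e IH (LK LD1_c15 LD2_c51 LD3_c38) (LK LD1_c8 LD2_c26 LD3_c50) Lrfl Lrfl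
theorem f250936 : Led Lsl_et (LP (LK LD1_c10 LD2_c19 LD3_c20)) = (LP (LK LD1_c18 LD2_c44 LD3_c19)) :=
  Lre_e IH (LK LD1_c10 LD2_c19 LD3_c20) (LK LD1_c18 LD2_c44 LD3_c19) Lrfl Lrfl
theorem f369285 : Led Lsl_af (LP (LK LD1_c15 LD2_c51 LD3_c38)) = (LP (LK LD1_c18 LD2_c44 LD3_c19)) :=
  Lgr Lrot50 (Lpr_et (f218180 IH) (Lpr_at (f369279 IH) (Lpr_et (f250936 IH) (Lpn (LP (LK LD1_c18 LD2_c44 LD3_c19))))))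
theorem f369287 : Led Lsl_at (LP (LK LD1_c15 LD2_c51 LD3_c38)) = (LP (LK LD1_c18 LD2_c44 LD3_c19)) :=
  Lgr Lrot100 (Lpr_af (f369285 IH) (Lpn (LP (LK LD1_c18 LD2_c44 LD3_c19))))
theorem f218179 : Led Lsl_et (LP (LK LD1_c4 LD2_c16 LD3_c27)) = (LP (LK LD1_c8 LD2_c32 LD3_c8)) :=
  Lre_e IH (LK LD1_c4 LD2_c16 LD3_c27) (LK LD1_c8 LD2_c32 LD3_c8) Lrfl Lrfl
theorem f218181 : Led Lsl_ct (LP (LK LD1_c8 LD2_c32 LD3_c8)) = (LP (LK LD1_c15 LD2_c51 LD3_c38)) :=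
  Lgr Lrot15 (Lpe (f218179 IH) (Lpr_cf (K16.f218174 IH) (Lpe (f218180 IH) (Lpn (LP (LK LD1_c15 LD2_c51 LD3_c38))))))
theorem f295154 : Led Lsl_et (LP (LK LD1_c15 LD2_c57 LD3_c39)) = (LP (LK LD1_c8 LD2_c30 LD3_c0)) :=
  Lre_e IH (LK LD1_c15 LD2_c57 LD3_c39) (LK LD1_c8 LD2_c30 LD3_c0) Lrfl Lrfl
theorem f295155 : Led Lsl_cf (LP (LK LD1_c15 LD2_c57 LD3_c39)) = (LP (LK LD1_c18 LD2_c44 LD3_c19)) :=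
  Lgr Lrot39 (Lpr_et (f295154 IH) (Lpr_ct (K18.f295147 IH) (Lpr_et (f250936 IH) (Lpn (LP (LK LD1_c18 LD2_c44 LD3_c19))))))
theorem f369289 : Led Lsl_af (LP (LK LD1_c8 LD2_c32 LD3_c8)) = (LP (LK LD1_c15 LD2_c57 LD3_c39)) :=
  Lgr Lrot68 (Lpr_ct (f218181 IH) (Lpr_at (f369287 IH) (Lpe (f295155 IH) (Lpn (LP (LK LD1_c15 LD2_c57 LD3_c39))))))
theorem f218191 : Led Lsl_bt (LP (LK LD1_c8 LD2_c32 LD3_c8)) = (LP (LK LD1_c16 LD2_c1 LD3_c28)) :=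
  Lre_b IH (LK LD1_c8 LD2_c32 LD3_c8) (LK LD1_c16 LD2_c1 LD3_c28) Lrfl Lrfl
theorem f369294 : Led Lsl_at (LP (LK LD1_c16 LD2_c1 LD3_c28)) = (LP (LK LD1_c25 LD2_c58 LD3_c48)) :=
  Lre_a IH (LK LD1_c16 LD2_c1 LD3_c28) (LK LD1_c25 LD2_c58 LD3_c48) Lrfl Lrfl
theorem f369295 : Led Lsl_bt (LP (LK LD1_c25 LD2_c54 LD3_c11)) = (LP (LK LD1_c15 LD2_c57 LD3_c39)) :=
  Lre_b IH (LK LD1_c25 LD2_c54 LD3_c11) (LK LD1_c15 LD2_c57 LD3_c39) Lrfl Lrfl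
theorem f369296 : Led Lsl_at (LP (LK LD1_c32 LD2_c1 LD3_c22)) = (LP (LK LD1_c25 LD2_c54 LD3_c11)) :=
  Lre_a IH (LK LD1_c32 LD2_c1 LD3_c22) (LK LD1_c25 LD2_c54 LD3_c11) Lrfl Lrfl
theorem f369297 : Led Lsl_bt (LP (LK LD1_c25 LD2_c58 LD3_c48)) = (LP (LK LD1_c32 LD2_c1 LD3_c22)) :=
  Lgr Lrot62 (Lpe (f369294 IH) (Lpe (f218191 IH) (Lpr_af (f369289 IH) (Lpe (f369295 IH) (Lpe (f369296 IH) (Lpn (LP (LK LD1_c32 LD2_c1 LD3_c22))))))))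
theorem f369302 : Led Lsl_et (LP (LK LD1_c16 LD2_c1 LD3_c20)) = (LP (LK LD1_c25 LD2_c58 LD3_c48)) :=
  Lre_e IH (LK LD1_c16 LD2_c1 LD3_c20) (LK LD1_c25 LD2_c58 LD3_c48) Lrfl Lrfl
theorem f369303 : Led Lsl_et (LP (LK LD1_c32 LD2_c1 LD3_c22)) = (LP (LK LD1_c25 LD2_c54 LD3_c6)) :=
  Lre_e IH (LK LD1_c32 LD2_c1 LD3_c22) (LK LD1_c25 LD2_c54 LD3_c6) Lrfl Lrfl
theorem f369304 : Led Lsl_bf (LP (LK LD1_c16 LD2_c1 LD3_c20)) = (LP (LK LD1_c25 LD2_c54 LD3_c6)) :=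
  Lgr Lrot96 (Lpr_et (f369302 IH) (Lpr_bt (f369297 IH) (Lpr_et (f369303 IH) (Lpn (LP (LK LD1_c25 LD2_c54 LD3_c6))))))
theorem f369311 : Led Lsl_dt (LP (LK LD1_c16 LD2_c1 LD3_c20)) = (LP (LK LD1_c8 LD2_c32 LD3_c3)) :=
  Lre_d IH (LK LD1_c16 LD2_c1 LD3_c20) (LK LD1_c8 LD2_c32 LD3_c3) Lrfl Lrfl
theorem f369312 : Led Lsl_dt (LP (LK LD1_c15 LD2_c57 LD3_c36)) = (LP (LK LD1_c25 LD2_c54 LD3_c6)) :=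
  Lre_d IH (LK LD1_c15 LD2_c57 LD3_c36) (LK LD1_c25 LD2_c54 LD3_c6) Lrfl Lrfl
theorem f369313 : Led Lsl_bt (LP (LK LD1_c8 LD2_c32 LD3_c3)) = (LP (LK LD1_c15 LD2_c57 LD3_c36)) :=
  Lgr Lrot95 (Lpe (f369311 IH) (Lpr_bf (f369304 IH) (Lpe (f369312 IH) (Lpn (LP (LK LD1_c15 LD2_c57 LD3_c36))))))
theorem f369318 : Led Lsl_et (LP (LK LD1_c16 LD2_c1 LD3_c21)) = (LP (LK LD1_c8 LD2_c32 LD3_c3)) :=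
  Lre_e IH (LK LD1_c16 LD2_c1 LD3_c21) (LK LD1_c8 LD2_c32 LD3_c3) Lrfl Lrfl
theorem f369319 : Led Lsl_et (LP (LK LD1_c15 LD2_c57 LD3_c36)) = (LP (LK LD1_c25 LD2_c54 LD3_c7)) :=
  Lre_e IH (LK LD1_c15 LD2_c57 LD3_c36) (LK LD1_c25 LD2_c54 LD3_c7) Lrfl Lrfl
theorem f369320 : Led Lsl_bf (LP (LK LD1_c16 LD2_c1 LD3_c21)) = (LP (LK LD1_c25 LD2_c54 LD3_c7)) :=
  Lgr Lrot96 (Lpr_et (f369318 IH) (Lpr_bt (f369313 IH) (Lpr_et (f369319 IH) (Lpn (LP (LK LD1_c25 LD2_c54 LD3_c7))))))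
theorem f369324 : Led Lsl_at (LP (LK LD1_c16 LD2_c1 LD3_c21)) = (LP (LK LD1_c8 LD2_c32 LD3_c6)) :=
  Lre_a IH (LK LD1_c16 LD2_c1 LD3_c21) (LK LD1_c8 LD2_c32 LD3_c6) Lrfl Lrfl
theorem f170460 : Led Lsl_bt (LP (LK LD1_c8 LD2_c32 LD3_c6)) = (LP (LK LD1_c4 LD2_c16 LD3_c28)) :=
  Lre_b IH (LK LD1_c8 LD2_c32 LD3_c6) (LK LD1_c4 LD2_c16 LD3_c28) Lrfl Lrfl
theorem f369325 : Led Lsl_at (LP (LK LD1_c15 LD2_c57 LD3_c38)) = (LP (LK LD1_c25 LD2_c54 LD3_c7)) :=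
  Lre_a IH (LK LD1_c15 LD2_c57 LD3_c38) (LK LD1_c25 LD2_c54 LD3_c7) Lrfl Lrfl
theorem f369326 : Led Lsl_bt (LP (LK LD1_c8 LD2_c30 LD3_c1)) = (LP (LK LD1_c15 LD2_c57 LD3_c38)) :=
  Lre_b IH (LK LD1_c8 LD2_c30 LD3_c1) (LK LD1_c15 LD2_c57 LD3_c38) Lrfl Lrfl
theorem f369327 : Led Lsl_at (LP (LK LD1_c4 LD2_c16 LD3_c28)) = (LP (LK LD1_c8 LD2_c30 LD3_c1)) :=
  Lgr Lrot67 (Lpe (f170460 IH) (Lpe (f369324 IH) (Lpr_bf (f369320 IH) (Lpe (f369325 IH) (Lpe (f369326 IH) (Lpn (LP (LK LD1_c8 LD2_c30 LD3_c1))))))))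
theorem f365388 : Led Lsl_ft (LP (LK LD1_c8 LD2_c32 LD3_c10)) = (LP (LK LD1_c4 LD2_c16 LD3_c28)) :=
  Lre_f IH (LK LD1_c8 LD2_c32 LD3_c10) (LK LD1_c4 LD2_c16 LD3_c28) Lrfl Lrfl
theorem f365426 : Led Lsl_ft (LP (LK LD1_c8 LD2_c30 LD3_c1)) = (LP (LK LD1_c15 LD2_c57 LD3_c41)) :=
  Lre_f IH (LK LD1_c8 LD2_c30 LD3_c1) (LK LD1_c15 LD2_c57 LD3_c41) Lrfl Lrfl
theorem f369374 : Led Lsl_af (LP (LK LD1_c8 LD2_c32 LD3_c10)) = (LP (LK LD1_c15 LD2_c57 LD3_c41)) :=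
  Lgr Lrot45 (Lpr_ft (f365388 IH) (Lpr_at (f369327 IH) (Lpr_ft (f365426 IH) (Lpn (LP (LK LD1_c15 LD2_c57 LD3_c41))))))
theorem f170436 : Led Lsl_ct (LP (LK LD1_c8 LD2_c32 LD3_c10)) = (LP (LK LD1_c16 LD2_c1 LD3_c35)) :=
  Lre_c IH (LK LD1_c8 LD2_c32 LD3_c10) (LK LD1_c16 LD2_c1 LD3_c35) Lrfl Lrfl
theorem f369387 : Led Lsl_ct (LP (LK LD1_c18 LD2_c44 LD3_c18)) = (LP (LK LD1_c15 LD2_c57 LD3_c41)) :=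
  Lgr Lrot111 (Lpe (f365488 IH) (Lpe (f170436 IH) (Lpr_af (f369374 IH) (Lpn (LP (LK LD1_c15 LD2_c57 LD3_c41))))))
theorem f298851 : Led Lsl_et (LP (LK LD1_c4 LD2_c15 LD3_c32)) = (LP (LK LD1_c8 LD2_c30 LD3_c1)) :=
  Lre_e IH (LK LD1_c4 LD2_c15 LD3_c32) (LK LD1_c8 LD2_c30 LD3_c1) Lrfl Lrfl
theorem f1045 : Led Lsl_et (LP (LK LD1_c4 LD2_c16 LD3_c24)) = (LP (LK LD1_c2 LD2_c5 LD3_c31)) :=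
  Lre_e IH (LK LD1_c4 LD2_c16 LD3_c24) (LK LD1_c2 LD2_c5 LD3_c31) Lrfl Lrfl
theorem f365427 : Led Lsl_et (LP (LK LD1_c15 LD2_c57 LD3_c41)) = (LP (LK LD1_c8 LD2_c32 LD3_c0)) :=
  Lgr Lrot69 (Lpe (f365426 IH) (Lpe (f298851 IH) (Lpr_ff (K26.f365420 IH) (Lpe (f1045 IH) (Lpe (K26.f365357 IH) (Lpn (LP (LK LD1_c8 LD2_c32 LD3_c0))))))))
theorem f365360 : Led Lsl_ct (LP (LK LD1_c8 LD2_c32 LD3_c0)) = (LP (LK LD1_c16 LD2_c1 LD3_c8)) :=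
  Lre_c IH (LK LD1_c8 LD2_c32 LD3_c0) (LK LD1_c16 LD2_c1 LD3_c8) Lrfl Lrfl
theorem f369393 : Led Lsl_ef (LP (LK LD1_c18 LD2_c44 LD3_c18)) = (LP (LK LD1_c16 LD2_c1 LD3_c8)) :=
  Lgr Lrot28 (Lpr_ct (f369387 IH) (Lpr_et (f365427 IH) (Lpr_ct (f365360 IH) (Lpn (LP (LK LD1_c16 LD2_c1 LD3_c8))))))
theorem f365492 : Led Lsl_af (LP (LK LD1_c16 LD2_c1 LD3_c35)) = (LP (LK LD1_c18 LD2_c44 LD3_c18)) :=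
  Lgr Lrot0 (Lpr_at (f365488 IH) (Lpn (LP (LK LD1_c18 LD2_c44 LD3_c18))))
theorem f327994 : Led Lsl_bt (LP (LK LD1_c9 LD2_c35 LD3_c5)) = (LP (LK LD1_c4 LD2_c51 LD3_c38)) :=
  Lre_b IH (LK LD1_c9 LD2_c35 LD3_c5) (LK LD1_c4 LD2_c51 LD3_c38) Lrfl Lrfl
theorem f367973 : Led Lsl_et (LP (LK LD1_c16 LD2_c1 LD3_c35)) = (LP (LK LD1_c9 LD2_c35 LD3_c5)) :=
  Lgr Lrot74 (Lpr_bf (f170434 IH) (Lpr_ef (f367969 IH) (Lpe (f327994 IH) (Lpn (LP (LK LD1_c9 LD2_c35 LD3_c5))))))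
theorem f369407 : Led Lsl_at (LP (LK LD1_c9 LD2_c35 LD3_c5)) = (LP (LK LD1_c16 LD2_c1 LD3_c8)) :=
  Lgr Lrot80 (Lpe (f367973 IH) (Lpr_af (f365492 IH) (Lpr_ef (f369393 IH) (Lpn (LP (LK LD1_c16 LD2_c1 LD3_c8))))))
theorem f171062 : Led Lsl_ft (LP (LK LD1_c4 LD2_c51 LD3_c31)) = (LP (LK LD1_c9 LD2_c35 LD3_c5)) :=
  Lre_f IH (LK LD1_c4 LD2_c51 LD3_c31) (LK LD1_c9 LD2_c35 LD3_c5) Lrfl Lrfl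
theorem f250545 : Led Lsl_ft (LP (LK LD1_c16 LD2_c1 LD3_c8)) = (LP (LK LD1_c8 LD2_c31 LD3_c58)) :=
  Lre_f IH (LK LD1_c16 LD2_c1 LD3_c8) (LK LD1_c8 LD2_c31 LD3_c58) Lrfl Lrfl
theorem f369423 : Led Lsl_af (LP (LK LD1_c4 LD2_c51 LD3_c31)) = (LP (LK LD1_c8 LD2_c31 LD3_c58)) :=
  Lgr Lrot45 (Lpr_ft (f171062 IH) (Lpr_at (f369407 IH) (Lpr_ft (f250545 IH) (Lpn (LP (LK LD1_c8 LD2_c31 LD3_c58))))))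
theorem f369427 : Led Lsl_at (LP (LK LD1_c2 LD2_c23 LD3_c37)) = (LP (LK LD1_c4 LD2_c16 LD3_c22)) :=
  Lgr Lrot80 (Lpe (K20.f171048 IH) (Lpr_af (f369423 IH) (Lpe (K26.f250544 IH) (Lpn (LP (LK LD1_c4 LD2_c16 LD3_c22))))))
theorem f359420 : Led Lsl_at (LP (LK LD1_c8 LD2_c31 LD3_c57)) = (LP (LK LD1_c4 LD2_c50 LD3_c53)) :=
  Lgr Lrot100 (Lpr_af (K26.f359418 IH) (Lpn (LP (LK LD1_c4 LD2_c50 LD3_c53))))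
theorem f369439 : Led Lsl_af (LP (LK LD1_c1 LD2_c8 LD3_c55)) = (LP (LK LD1_c2 LD2_c23 LD3_c16)) :=
  Lgr Lrot36 (Lpr_bt (K11.f171041 IH) (Lpr_at (f369427 IH) (Lpr_bt (K12.f53418 IH) (Lpr_at (f359420 IH) (Lpr_bt (K13.f1735 IH) (Lpn (LP (LK LD1_c2 LD2_c23 LD3_c16))))))))
theorem f369445 : Led Lsl_at (LP (LK LD1_c2 LD2_c12 LD3_c42)) = (LP (LK LD1_c2 LD2_c43 LD3_c60)) :=
  Lgr Lrot51 (Lpr_df (K13.f238068 IH) (Lpr_af (f369439 IH) (Lpe (K13.f189157 IH) (Lpn (LP (LK LD1_c2 LD2_c43 LD3_c60))))))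
theorem f366117 : Led Lsl_af (LP (LK LD1_c8 LD2_c15 LD3_c50)) = (LP (LK LD1_c4 LD2_c8 LD3_c36)) :=
  Lgr Lrot117 (Lpr_dt (f366115 IH) (Lpe (f366065 IH) (Lpe (K15.f260390 IH) (Lpn (LP (LK LD1_c4 LD2_c8 LD3_c36))))))
theorem f286173 : Led Lsl_et (LP (LK LD1_c4 LD2_c9 LD3_c4)) = (LP (LK LD1_c4 LD2_c8 LD3_c36)) :=
  Lgr Lrot71 (Lpe (K16.f271033 IH) (Lpe (K20.f171048 IH) (Lpe (K23.f224889 IH) (Lpr_ef (f286171 IH) (Lpe (K21.f260388 IH) (Lpn (LP (LK LD1_c4 LD2_c8 LD3_c36))))))))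
theorem f366131 : Led Lsl_af (LP (LK LD1_c4 LD2_c9 LD3_c4)) = (LP (LK LD1_c5 LD2_c29 LD3_c44)) :=
  Lgr Lrot50 (Lpr_et (f286173 IH) (Lpe (f366117 IH) (Lpr_et (f366129 IH) (Lpn (LP (LK LD1_c5 LD2_c29 LD3_c44))))))
theorem f369447 : Led Lsl_af (LP (LK LD1_c4 LD2_c19 LD3_c42)) = (LP (LK LD1_c5 LD2_c36 LD3_c9)) :=
  Lgr Lrot36 (Lpe (f266884 IH) (Lpe (f366131 IH) (Lpe (K16.f271029 IH) (Lpr_at (f369445 IH) (Lpr_bt (K13.f189254 IH) (Lpn (LP (LK LD1_c5 LD2_c36 LD3_c9))))))))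
theorem f359437 : Led Lsl_ft (LP (LK LD1_c4 LD2_c51 LD3_c39)) = (LP (LK LD1_c8 LD2_c31 LD3_c57)) :=
  Lgr Lrot101 (Lpe (K26.f266936 IH) (Lpr_ff (K26.f359435 IH) (Lpe (f359420 IH) (Lpn (LP (LK LD1_c8 LD2_c31 LD3_c57))))))
theorem f359481 : Led Lsl_ft (LP (LK LD1_c4 LD2_c19 LD3_c42)) = (LP (LK LD1_c4 LD2_c5 LD3_c10)) :=
  Lgr Lrot54 (Lpe (K15.f266879 IH) (Lpe (f359437 IH) (Lpr_df (K26.f359462 IH) (Lpn (LP (LK LD1_c4 LD2_c5 LD3_c10))))))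
theorem f359443 : Led Lsl_ft (LP (LK LD1_c4 LD2_c19 LD3_c43)) = (LP (LK LD1_c5 LD2_c36 LD3_c9)) :=
  Lgr Lrot54 (Lpe (K18.f266930 IH) (Lpr_ff (K26.f359435 IH) (Lpe (K13.f189255 IH) (Lpn (LP (LK LD1_c5 LD2_c36 LD3_c9))))))
theorem f369449 : Led Lsl_at (LP (LK LD1_c4 LD2_c5 LD3_c10)) = (LP (LK LD1_c4 LD2_c19 LD3_c43)) :=
  Lgr Lrot66 (Lpe (f359481 IH) (Lpr_af (f369447 IH) (Lpe (f359443 IH) (Lpn (LP (LK LD1_c4 LD2_c19 LD3_c43))))))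
theorem f369453 : Led Lsl_af (LP (LK LD1_c1 LD2_c59 LD3_c45)) = (LP (LK LD1_c2 LD2_c24 LD3_c51)) :=
  Lgr Lrot50 (Lpr_et (K16.f191053 IH) (Lpr_at (f369449 IH) (Lpe (K18.f266926 IH) (Lpn (LP (LK LD1_c2 LD2_c24 LD3_c51))))))
theorem f369455 : Led Lsl_at (LP (LK LD1_c0 LD2_c33 LD3_c4)) = (LP (LK LD1_c1 LD2_c11 LD3_c16)) :=
  Lgr Lrot67 (Lpe (K9.f3746 IH) (Lpr_af (f367918 IH) (Lpr_bf (K10.f191035 IH) (Lpr_af (f369453 IH) (Lpe (K15.f190870 IH) (Lpn (LP (LK LD1_c1 LD2_c11 LD3_c16))))))))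
theorem f274782 : Led Lsl_cf (LP (LK LD1_c1 LD2_c11 LD3_c17)) = (LP (LK LD1_c1 LD2_c58 LD3_c16)) :=
  Lgr Lrot14 (Lpe (K19.f3722 IH) (Lpr_gf (K16.f274776 IH) (Lpr_df (K13.f22070 IH) (Lpr_gf (K14.f253165 IH) (Lpe (K14.f167341 IH) (Lpe (K15.f265026 IH) (Lpe (K15.f265930 IH) (Lpr_gt (K17.f265902 IH) (Lpr_dt (K17.f45887 IH) (Lpn (LP (LK LD1_c1 LD2_c58 LD3_c16))))))))))))
theorem f366683 : Led Lsl_ft (LP (LK LD1_c1 LD2_c11 LD3_c17)) = (LP (LK LD1_c0 LD2_c33 LD3_c4)) :=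
  Lgr Lrot4 (Lpr_cf (f274782 IH) (Lpr_ff (f366677 IH) (Lpe (K9.f3778 IH) (Lpn (LP (LK LD1_c0 LD2_c33 LD3_c4))))))
theorem f274665 : Led Lsl_et (LP (LK LD1_c1 LD2_c11 LD3_c17)) = (LP (LK LD1_c1 LD2_c18 LD3_c18)) :=
  Lgr Lrot87 (Lpr_ef (K16.f274661 IH) (Lpn (LP (LK LD1_c1 LD2_c18 LD3_c18))))
theorem f366713 : Led Lsl_at (LP (LK LD1_c0 LD2_c33 LD3_c5)) = (LP (LK LD1_c1 LD2_c11 LD3_c17)) :=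
  Lgr Lrot80 (Lpe (K20.f21867 IH) (Lpr_af (f366705 IH) (Lpe (f274665 IH) (Lpn (LP (LK LD1_c1 LD2_c11 LD3_c17))))))
theorem f369459 : Led Lsl_ff (LP (LK LD1_c0 LD2_c33 LD3_c5)) = (LP (LK LD1_c1 LD2_c11 LD3_c16)) :=
  Lgr Lrot30 (Lpr_at (f366713 IH) (Lpr_ft (f366683 IH) (Lpr_at (f369455 IH) (Lpn (LP (LK LD1_c1 LD2_c11 LD3_c16))))))
theorem f369463 : Led Lsl_ft (LP (LK LD1_c0 LD2_c33 LD3_c5)) = (LP (LK LD1_c1 LD2_c11 LD3_c16)) :=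
  Lgr Lrot48 (Lpr_ff (f369459 IH) (Lpn (LP (LK LD1_c1 LD2_c11 LD3_c16))))
theorem f369467 : Led Lsl_ff (LP (LK LD1_c2 LD2_c43 LD3_c60)) = (LP (LK LD1_c2 LD2_c12 LD3_c43)) :=
  Lgr Lrot72 (Lpr_et (K13.f189156 IH) (Lpe (f366719 IH) (Lpr_et (K20.f21867 IH) (Lpr_ft (f369463 IH) (Lpe (K13.f238226 IH) (Lpn (LP (LK LD1_c2 LD2_c12 LD3_c43))))))))
theorem f266888 : Led Lsl_bt (LP (LK LD1_c5 LD2_c29 LD3_c44)) = (LP (LK LD1_c4 LD2_c19 LD3_c42)) :=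
  Lgr Lrot95 (Lpe (K14.f250527 IH) (Lpe (K14.f243324 IH) (Lpr_df (K15.f266886 IH) (Lpn (LP (LK LD1_c4 LD2_c19 LD3_c42))))))
theorem f367896 : Led Lsl_at (LP (LK LD1_c2 LD2_c43 LD3_c60)) = (LP (LK LD1_c2 LD2_c12 LD3_c42)) :=
  Lgr Lrot67 (Lpe (K13.f189239 IH) (Lpe (K26.f359424 IH) (Lpe (f266888 IH) (Lpr_af (f367894 IH) (Lpe (K18.f271031 IH) (Lpn (LP (LK LD1_c2 LD2_c12 LD3_c42))))))))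
theorem f367900 : Led Lsl_ff (LP (LK LD1_c1 LD2_c11 LD3_c23)) = (LP (LK LD1_c2 LD2_c12 LD3_c42)) :=
  Lgr Lrot25 (Lpr_bt (K10.f167284 IH) (Lpr_ft (f367898 IH) (Lpe (K16.f271029 IH) (Lpn (LP (LK LD1_c2 LD2_c12 LD3_c42))))))
theorem f369469 : Led Lsl_at (LP (LK LD1_c1 LD2_c11 LD3_c23)) = (LP (LK LD1_c2 LD2_c12 LD3_c43)) :=
  Lgr Lrot66 (Lpr_ff (f367900 IH) (Lpe (f367896 IH) (Lpr_ff (f369467 IH) (Lpn (LP (LK LD1_c2 LD2_c12 LD3_c43))))))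
theorem f369473 : Led Lsl_af (LP (LK LD1_c2 LD2_c23 LD3_c17)) = (LP (LK LD1_c1 LD2_c8 LD3_c56)) :=
  Lgr Lrot117 (Lpr_dt (K10.f33323 IH) (Lpr_at (f369469 IH) (Lpr_dt (K13.f238213 IH) (Lpn (LP (LK LD1_c1 LD2_c8 LD3_c56))))))
theorem f369479 : Led Lsl_at (LP (LK LD1_c4 LD2_c50 LD3_c56)) = (LP (LK LD1_c2 LD2_c23 LD3_c41)) :=
  Lgr Lrot107 (Lpe (K13.f33320 IH) (Lpr_af (f369473 IH) (Lpe (K13.f2043 IH) (Lpn (LP (LK LD1_c2 LD2_c23 LD3_c41))))))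
theorem f369490 : Led Lsl_ff (LP (LK LD1_c4 LD2_c50 LD3_c56)) = (LP (LK LD1_c2 LD2_c23 LD3_c38)) :=
  Lgr Lrot52 (Lpr_at (f369479 IH) (Lpe (K13.f232902 IH) (Lpe (K11.f171039 IH) (Lpn (LP (LK LD1_c2 LD2_c23 LD3_c38))))))
theorem f369496 : Led Lsl_ft (LP (LK LD1_c4 LD2_c50 LD3_c56)) = (LP (LK LD1_c2 LD2_c23 LD3_c38)) :=
  Lgr Lrot48 (Lpr_ff (f369490 IH) (Lpn (LP (LK LD1_c2 LD2_c23 LD3_c38))))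
theorem f369504 : Led Lsl_ff (LP (LK LD1_c9 LD2_c33 LD3_c56)) = (LP (LK LD1_c4 LD2_c51 LD3_c34)) :=
  Lgr Lrot19 (Lpr_dt (K13.f33330 IH) (Lpr_ft (f369496 IH) (Lpr_dt (K23.f200105 IH) (Lpn (LP (LK LD1_c4 LD2_c51 LD3_c34))))))
theorem f369518 : Led Lsl_at (LP (LK LD1_c9 LD2_c33 LD3_c56)) = (LP (LK LD1_c4 LD2_c51 LD3_c43)) :=
  Lgr Lrot26 (Lpr_ff (f369504 IH) (Lpr_gt (K15.f200106 IH) (Lpe (K15.f233990 IH) (Lpn (LP (LK LD1_c4 LD2_c51 LD3_c43))))))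
theorem f170483 : Led Lsl_et (LP (LK LD1_c17 LD2_c36 LD3_c50)) = (LP (LK LD1_c9 LD2_c33 LD3_c56)) :=
  Lre_e IH (LK LD1_c17 LD2_c36 LD3_c50) (LK LD1_c9 LD2_c33 LD3_c56) Lrfl Lrfl
theorem f232916 : Led Lsl_et (LP (LK LD1_c4 LD2_c51 LD3_c43)) = (LP (LK LD1_c9 LD2_c35 LD3_c37)) :=
  Lre_e IH (LK LD1_c4 LD2_c51 LD3_c43) (LK LD1_c9 LD2_c35 LD3_c37) Lrfl Lrfl
theorem f369525 : Led Lsl_af (LP (LK LD1_c17 LD2_c36 LD3_c50)) = (LP (LK LD1_c9 LD2_c35 LD3_c37)) :=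
  Lgr Lrot50 (Lpr_et (f170483 IH) (Lpr_at (f369518 IH) (Lpr_et (f232916 IH) (Lpn (LP (LK LD1_c9 LD2_c35 LD3_c37))))))
theorem f170485 : Led Lsl_et (LP (LK LD1_c9 LD2_c33 LD3_c56)) = (LP (LK LD1_c17 LD2_c36 LD3_c50)) :=
  Lre_e IH (LK LD1_c9 LD2_c33 LD3_c56) (LK LD1_c17 LD2_c36 LD3_c50) Lrfl Lrfl
theorem f233343 : Led Lsl_et (LP (LK LD1_c15 LD2_c37 LD3_c44)) = (LP (LK LD1_c8 LD2_c18 LD3_c33)) :=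
  Lre_e IH (LK LD1_c15 LD2_c37 LD3_c44) (LK LD1_c8 LD2_c18 LD3_c33) Lrfl Lrfl
theorem f233344 : Led Lsl_ct (LP (LK LD1_c17 LD2_c36 LD3_c50)) = (LP (LK LD1_c15 LD2_c37 LD3_c44)) :=
  Lgr Lrot15 (Lpe (f170485 IH) (Lpr_cf (K13.f233337 IH) (Lpe (f233343 IH) (Lpn (LP (LK LD1_c15 LD2_c37 LD3_c44))))))
theorem f233088 : Led Lsl_cf (LP (LK LD1_c4 LD2_c51 LD3_c43)) = (LP (LK LD1_c4 LD2_c51 LD3_c50)) :=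
  Lgr Lrot14 (Lpe (K15.f232907 IH) (Lpe (K13.f232902 IH) (Lpr_df (K13.f233004 IH) (Lpe (K13.f232918 IH) (Lpe (K13.f232919 IH) (Lpr_gt (K13.f1794 IH) (Lpr_dt (K1.f1917 IH) (Lpr_gt (K12.f2793 IH) (Lpr_dt (K15.f2794 IH) (Lpn (LP (LK LD1_c4 LD2_c51 LD3_c50))))))))))))
theorem f233097 : Led Lsl_et (LP (LK LD1_c9 LD2_c35 LD3_c52)) = (LP (LK LD1_c4 LD2_c51 LD3_c50)) :=
  Lre_e IH (LK LD1_c9 LD2_c35 LD3_c52) (LK LD1_c4 LD2_c51 LD3_c50) Lrfl Lrfl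
theorem f233098 : Led Lsl_ct (LP (LK LD1_c9 LD2_c35 LD3_c37)) = (LP (LK LD1_c9 LD2_c35 LD3_c52)) :=
  Lgr Lrot15 (Lpe (f232916 IH) (Lpr_cf (f233088 IH) (Lpe (f233097 IH) (Lpn (LP (LK LD1_c9 LD2_c35 LD3_c52))))))
theorem f233109 : Led Lsl_cf (LP (LK LD1_c9 LD2_c35 LD3_c37)) = (LP (LK LD1_c9 LD2_c35 LD3_c52)) :=
  Lgr Lrot11 (Lpr_ct (f233098 IH) (Lpn (LP (LK LD1_c9 LD2_c35 LD3_c52))))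
theorem f369530 : Led Lsl_at (LP (LK LD1_c15 LD2_c37 LD3_c44)) = (LP (LK LD1_c9 LD2_c35 LD3_c52)) :=
  Lgr Lrot107 (Lpe (f233344 IH) (Lpr_af (f369525 IH) (Lpr_cf (f233109 IH) (Lpn (LP (LK LD1_c9 LD2_c35 LD3_c52))))))
theorem f369532 : Led Lsl_af (LP (LK LD1_c15 LD2_c37 LD3_c44)) = (LP (LK LD1_c9 LD2_c35 LD3_c52)) :=
  Lgr Lrot0 (Lpr_at (f369530 IH) (Lpn (LP (LK LD1_c9 LD2_c35 LD3_c52))))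
theorem f2057 : Led Lsl_et (LP (LK LD1_c4 LD2_c51 LD3_c50)) = (LP (LK LD1_c9 LD2_c35 LD3_c52)) :=
  Lre_e IH (LK LD1_c4 LD2_c51 LD3_c50) (LK LD1_c9 LD2_c35 LD3_c52) Lrfl Lrfl
theorem f369534 : Led Lsl_at (LP (LK LD1_c8 LD2_c18 LD3_c33)) = (LP (LK LD1_c4 LD2_c51 LD3_c50)) :=
  Lgr Lrot80 (Lpe (f233343 IH) (Lpr_af (f369532 IH) (Lpe (f2057 IH) (Lpn (LP (LK LD1_c4 LD2_c51 LD3_c50))))))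
theorem f1929 : Led Lsl_dt (LP (LK LD1_c4 LD2_c51 LD3_c53)) = (LP (LK LD1_c2 LD2_c23 LD3_c44)) :=
  Lre_d IH (LK LD1_c4 LD2_c51 LD3_c53) (LK LD1_c2 LD2_c23 LD3_c44) Lrfl Lrfl
theorem f238215 : Led Lsl_cf (LP (LK LD1_c4 LD2_c51 LD3_c53)) = (LP (LK LD1_c4 LD2_c51 LD3_c34)) :=
  Lgr Lrot55 (Lpr_dt (f1929 IH) (Lpe (K13.f232512 IH) (Lpr_dt (K21.f232343 IH) (Lpr_ct (K13.f236418 IH) (Lpr_dt (K13.f238213 IH) (Lpr_ct (K13.f29812 IH) (Lpr_dt (K15.f232907 IH) (Lpr_ct (K15.f233084 IH) (Lpr_dt (K15.f1930 IH) (Lpr_ct (K13.f186932 IH) (Lpe (K13.f235690 IH) (Lpe (K14.f238209 IH) (Lpr_dt (K13.f238062 IH) (Lpr_ct (K11.f171038 IH) (Lpr_dt (K23.f200105 IH) (Lpn (LP (LK LD1_c4 LD2_c51 LD3_c34))))))))))))))))))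
theorem f235698 : Led Lsl_cf (LP (LK LD1_c8 LD2_c24 LD3_c47)) = (LP (LK LD1_c9 LD2_c35 LD3_c51)) :=
  Lgr Lrot169 (Lpr_gt (K24.f235692 IH) (Lpe (f233088 IH) (Lpe (K15.f232907 IH) (Lpe (K13.f29812 IH) (Lpe (K25.f1584 IH) (Lpe (K12.f1797 IH) (Lpe (K12.f1800 IH) (Lpe (K15.f1930 IH) (Lpr_gt (K20.f2795 IH) (Lpn (LP (LK LD1_c9 LD2_c35 LD3_c51))))))))))))
theorem f235706 : Led Lsl_ct (LP (LK LD1_c8 LD2_c24 LD3_c47)) = (LP (LK LD1_c9 LD2_c35 LD3_c51)) :=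
  Lgr Lrot59 (Lpr_cf (f235698 IH) (Lpn (LP (LK LD1_c9 LD2_c35 LD3_c51))))
theorem f315340 : Led Lsl_gt (LP (LK LD1_c4 LD2_c51 LD3_c53)) = (LP (LK LD1_c8 LD2_c24 LD3_c47)) :=
  Lgr Lrot150 (Lpr_cf (f238215 IH) (Lpe (K13.f232991 IH) (Lpe (K13.f238057 IH) (Lpr_gt (K19.f308827 IH) (Lpr_ct (K13.f167373 IH) (Lpr_gt (K20.f315336 IH) (Lpe (K20.f315330 IH) (Lpe (K20.f308829 IH) (Lpe (f235706 IH) (Lpn (LP (LK LD1_c8 LD2_c24 LD3_c47))))))))))))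
theorem f369542 : Led Lsl_ff (LP (LK LD1_c8 LD2_c18 LD3_c33)) = (LP (LK LD1_c4 LD2_c51 LD3_c53)) :=
  Lgr Lrot52 (Lpr_at (f369534 IH) (Lpe (K24.f235692 IH) (Lpe (f315340 IH) (Lpn (LP (LK LD1_c4 LD2_c51 LD3_c53))))))
theorem f2040 : Led Lsl_dt (LP (LK LD1_c2 LD2_c23 LD3_c44)) = (LP (LK LD1_c4 LD2_c51 LD3_c53)) :=
  Lre_d IH (LK LD1_c2 LD2_c23 LD3_c44) (LK LD1_c4 LD2_c51 LD3_c53) Lrfl Lrfl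
theorem f369546 : Led Lsl_ft (LP (LK LD1_c4 LD2_c9 LD3_c15)) = (LP (LK LD1_c2 LD2_c23 LD3_c44)) :=
  Lgr Lrot54 (Lpe (K13.f167258 IH) (Lpr_ff (f369542 IH) (Lpe (f2040 IH) (Lpn (LP (LK LD1_c2 LD2_c23 LD3_c44))))))
theorem f369555 : Led Lsl_ff (LP (LK LD1_c4 LD2_c9 LD3_c15)) = (LP (LK LD1_c2 LD2_c23 LD3_c44)) :=
  Lgr Lrot3 (Lpr_ft (f369546 IH) (Lpn (LP (LK LD1_c2 LD2_c23 LD3_c44))))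
theorem f238010 : Led Lsl_et (LP (LK LD1_c4 LD2_c9 LD3_c15)) = (LP (LK LD1_c8 LD2_c18 LD3_c34)) :=
  Lre_e IH (LK LD1_c4 LD2_c9 LD3_c15) (LK LD1_c8 LD2_c18 LD3_c34) Lrfl Lrfl
theorem f364874 : Led Lsl_ft (LP (LK LD1_c8 LD2_c18 LD3_c34)) = (LP (LK LD1_c15 LD2_c18 LD3_c56)) :=
  Lgr Lrot4 (Lpe (K21.f216629 IH) (Lpr_ff (K26.f364869 IH) (Lpe (K25.f291163 IH) (Lpn (LP (LK LD1_c15 LD2_c18 LD3_c56))))))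
theorem f2796 : Led Lsl_et (LP (LK LD1_c4 LD2_c51 LD3_c54)) = (LP (LK LD1_c2 LD2_c23 LD3_c44)) :=
  Lre_e IH (LK LD1_c4 LD2_c51 LD3_c54) (LK LD1_c2 LD2_c23 LD3_c44) Lrfl Lrfl
theorem f232570 : Led Lsl_ft (LP (LK LD1_c9 LD2_c36 LD3_c0)) = (LP (LK LD1_c4 LD2_c51 LD3_c54)) :=
  Lre_f IH (LK LD1_c9 LD2_c36 LD3_c0) (LK LD1_c4 LD2_c51 LD3_c54) Lrfl Lrfl
theorem f369563 : Led Lsl_et (LP (LK LD1_c15 LD2_c18 LD3_c56)) = (LP (LK LD1_c9 LD2_c36 LD3_c0)) :=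
  Lgr Lrot69 (Lpe (f364874 IH) (Lpe (f238010 IH) (Lpr_ff (f369555 IH) (Lpe (f2796 IH) (Lpe (f232570 IH) (Lpn (LP (LK LD1_c9 LD2_c36 LD3_c0))))))))
theorem f226873 : Led Lsl_ct (LP (LK LD1_c15 LD2_c18 LD3_c60)) = (LP (LK LD1_c8 LD2_c8 LD3_c5)) :=
  Lre_c IH (LK LD1_c15 LD2_c18 LD3_c60) (LK LD1_c8 LD2_c8 LD3_c5) Lrfl Lrfl
theorem f326303 : Led Lsl_et (LP (LK LD1_c17 LD2_c37 LD3_c28)) = (LP (LK LD1_c15 LD2_c18 LD3_c60)) :=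
  Lgr Lrot158 (Lpr_cf (K22.f326000 IH) (Lpe (K19.f226867 IH) (Lpe (f226873 IH) (Lpn (LP (LK LD1_c15 LD2_c18 LD3_c60))))))
theorem f260587 : Led Lsl_dt (LP (LK LD1_c8 LD2_c41 LD3_c14)) = (LP (LK LD1_c16 LD2_c16 LD3_c21)) :=
  Lre_d IH (LK LD1_c8 LD2_c41 LD3_c14) (LK LD1_c16 LD2_c16 LD3_c21) Lrfl Lrfl
theorem f291171 : Led Lsl_gt (LP (LK LD1_c16 LD2_c16 LD3_c21)) = (LP (LK LD1_c26 LD2_c14 LD3_c17)) :=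
  Lre_g IH (LK LD1_c16 LD2_c16 LD3_c21) (LK LD1_c26 LD2_c14 LD3_c17) Lrfl Lrfl
theorem f326307 : Led Lsl_df (LP (LK LD1_c17 LD2_c37 LD3_c28)) = (LP (LK LD1_c26 LD2_c14 LD3_c17)) :=
  Lgr Lrot84 (Lpr_cf (K22.f326000 IH) (Lpe (K19.f310538 IH) (Lpr_gf (K23.f310540 IH) (Lpe (K23.f269894 IH) (Lpe (K19.f227249 IH) (Lpe (K16.f43132 IH) (Lpr_gt (K25.f237753 IH) (Lpr_dt (f260587 IH) (Lpr_gt (f291171 IH) (Lpn (LP (LK LD1_c26 LD2_c14 LD3_c17))))))))))))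
theorem f326309 : Led Lsl_dt (LP (LK LD1_c17 LD2_c37 LD3_c28)) = (LP (LK LD1_c26 LD2_c14 LD3_c17)) :=
  Lgr Lrot42 (Lpr_df (f326307 IH) (Lpn (LP (LK LD1_c26 LD2_c14 LD3_c17))))
theorem f166610 : Led Lsl_bt (LP (LK LD1_c4 LD2_c53 LD3_c36)) = (LP (LK LD1_c2 LD2_c24 LD3_c37)) :=
  Lre_b IH (LK LD1_c4 LD2_c53 LD3_c36) (LK LD1_c2 LD2_c24 LD3_c37) Lrfl Lrfl
theorem f354694 : Led Lsl_ef (LP (LK LD1_c4 LD2_c53 LD3_c36)) = (LP (LK LD1_c4 LD2_c52 LD3_c15)) :=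
  Lgr Lrot29 (Lpr_bt (f166610 IH) (Lpr_et (K25.f354692 IH) (Lpr_bt (K21.f310304 IH) (Lpn (LP (LK LD1_c4 LD2_c52 LD3_c15))))))
theorem f354708 : Led Lsl_ct (LP (LK LD1_c4 LD2_c53 LD3_c36)) = (LP (LK LD1_c9 LD2_c39 LD3_c4)) :=
  Lre_c IH (LK LD1_c4 LD2_c53 LD3_c36) (LK LD1_c9 LD2_c39 LD3_c4) Lrfl Lrfl
theorem f356916 : Led Lsl_ef (LP (LK LD1_c8 LD2_c41 LD3_c14)) = (LP (LK LD1_c9 LD2_c39 LD3_c4)) :=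
  Lgr Lrot28 (Lpr_ct (K25.f356911 IH) (Lpe (f354694 IH) (Lpr_ct (f354708 IH) (Lpn (LP (LK LD1_c9 LD2_c39 LD3_c4))))))
theorem f356923 : Led Lsl_et (LP (LK LD1_c8 LD2_c41 LD3_c14)) = (LP (LK LD1_c9 LD2_c39 LD3_c4)) :=
  Lgr Lrot87 (Lpr_ef (f356916 IH) (Lpn (LP (LK LD1_c9 LD2_c39 LD3_c4))))
theorem f369569 : Led Lsl_gf (LP (LK LD1_c9 LD2_c39 LD3_c4)) = (LP (LK LD1_c9 LD2_c36 LD3_c0)) :=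
  Lgr Lrot141 (Lpe (f356923 IH) (Lpr_dt (f260587 IH) (Lpr_gt (f291171 IH) (Lpe (f326309 IH) (Lpr_et (f326303 IH) (Lpe (K25.f291154 IH) (Lpr_dt (K19.f197715 IH) (Lpr_gt (K25.f291165 IH) (Lpe (K25.f291169 IH) (Lpr_et (f369563 IH) (Lpn (LP (LK LD1_c9 LD2_c36 LD3_c0)))))))))))))
theorem f356918 : Led Lsl_gt (LP (LK LD1_c26 LD2_c14 LD3_c18)) = (LP (LK LD1_c16 LD2_c16 LD3_c21)) :=
  Lre_g IH (LK LD1_c26 LD2_c14 LD3_c18) (LK LD1_c16 LD2_c16 LD3_c21) Lrfl Lrfl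
theorem f356915 : Led Lsl_dt (LP (LK LD1_c16 LD2_c16 LD3_c21)) = (LP (LK LD1_c8 LD2_c41 LD3_c14)) :=
  Lre_d IH (LK LD1_c16 LD2_c16 LD3_c21) (LK LD1_c8 LD2_c41 LD3_c14) Lrfl Lrfl
theorem f356919 : Led Lsl_df (LP (LK LD1_c26 LD2_c14 LD3_c18)) = (LP (LK LD1_c17 LD2_c37 LD3_c27)) :=
  Lgr Lrot16 (Lpr_gt (f356918 IH) (Lpr_dt (f356915 IH) (Lpr_ct (K25.f356911 IH) (Lpe (K22.f321083 IH) (Lpr_gf (K25.f321086 IH) (Lpr_df (K25.f314676 IH) (Lpe (K18.f199224 IH) (Lpr_ct (K22.f199265 IH) (Lpr_gt (K22.f199269 IH) (Lpn (LP (LK LD1_c17 LD2_c37 LD3_c27))))))))))))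
theorem f233961 : Led Lsl_et (LP (LK LD1_c4 LD2_c21 LD3_c23)) = (LP (LK LD1_c8 LD2_c40 LD3_c22)) :=
  Lre_e IH (LK LD1_c4 LD2_c21 LD3_c23) (LK LD1_c8 LD2_c40 LD3_c22) Lrfl Lrfl
theorem f356925 : Led Lsl_gf (LP (LK LD1_c8 LD2_c40 LD3_c22)) = (LP (LK LD1_c9 LD2_c39 LD3_c4)) :=
  Lgr Lrot141 (Lpe (f233961 IH) (Lpr_dt (K13.f184771 IH) (Lpe (K13.f233941 IH) (Lpe (K13.f2093 IH) (Lpr_et (K25.f233960 IH) (Lpr_gt (K22.f199269 IH) (Lpe (f356919 IH) (Lpr_gt (f356918 IH) (Lpe (f260587 IH) (Lpr_et (f356923 IH) (Lpn (LP (LK LD1_c9 LD2_c39 LD3_c4)))))))))))))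
theorem f369571 : Led Lsl_af (LP (LK LD1_c8 LD2_c40 LD3_c22)) = (LP (LK LD1_c4 LD2_c51 LD3_c54)) :=
  Lgr Lrot31 (Lpr_gf (f356925 IH) (Lpr_gf (f369569 IH) (Lpr_ft (f232570 IH) (Lpn (LP (LK LD1_c4 LD2_c51 LD3_c54))))))
theorem f184784 : Led Lsl_ct (LP (LK LD1_c8 LD2_c40 LD3_c22)) = (LP (LK LD1_c4 LD2_c21 LD3_c24)) :=
  Lre_c IH (LK LD1_c8 LD2_c40 LD3_c22) (LK LD1_c4 LD2_c21 LD3_c24) Lrfl Lrfl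
theorem f232514 : Led Lsl_et (LP (LK LD1_c2 LD2_c23 LD3_c44)) = (LP (LK LD1_c4 LD2_c51 LD3_c54)) :=
  Lre_e IH (LK LD1_c2 LD2_c23 LD3_c44) (LK LD1_c4 LD2_c51 LD3_c54) Lrfl Lrfl
theorem f232515 : Led Lsl_cf (LP (LK LD1_c7 LD2_c55 LD3_c26)) = (LP (LK LD1_c4 LD2_c51 LD3_c54)) :=
  Lgr Lrot39 (Lpr_et (K21.f186930 IH) (Lpr_ct (K13.f232396 IH) (Lpr_et (f232514 IH) (Lpn (LP (LK LD1_c4 LD2_c51 LD3_c54))))))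
theorem f232567 : Led Lsl_ct (LP (LK LD1_c7 LD2_c55 LD3_c26)) = (LP (LK LD1_c4 LD2_c51 LD3_c54)) :=
  Lgr Lrot59 (Lpr_cf (f232515 IH) (Lpn (LP (LK LD1_c4 LD2_c51 LD3_c54))))
theorem f369575 : Led Lsl_at (LP (LK LD1_c4 LD2_c21 LD3_c24)) = (LP (LK LD1_c7 LD2_c55 LD3_c26)) :=
  Lgr Lrot107 (Lpe (f184784 IH) (Lpr_af (f369571 IH) (Lpe (f232567 IH) (Lpn (LP (LK LD1_c7 LD2_c55 LD3_c26))))))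
theorem f232362 : Led Lsl_ft (LP (LK LD1_c7 LD2_c55 LD3_c26)) = (LP (LK LD1_c14 LD2_c56 LD3_c59)) :=
  Lre_f IH (LK LD1_c7 LD2_c55 LD3_c26) (LK LD1_c14 LD2_c56 LD3_c59) Lrfl Lrfl
theorem f369583 : Led Lsl_af (LP (LK LD1_c8 LD2_c40 LD3_c24)) = (LP (LK LD1_c14 LD2_c56 LD3_c59)) :=
  Lgr Lrot45 (Lpr_ft (K26.f184788 IH) (Lpr_at (f369575 IH) (Lpr_ft (f232362 IH) (Lpn (LP (LK LD1_c14 LD2_c56 LD3_c59))))))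
theorem f369585 : Led Lsl_at (LP (LK LD1_c9 LD2_c52 LD3_c29)) = (LP (LK LD1_c10 LD2_c19 LD3_c55)) :=
  Lgr Lrot51 (Lpr_df (K26.f184813 IH) (Lpr_af (f369583 IH) (Lpr_df (K13.f232360 IH) (Lpn (LP (LK LD1_c10 LD2_c19 LD3_c55))))))
theorem f369589 : Led Lsl_gt (LP (LK LD1_c8 LD2_c40 LD3_c50)) = (LP (LK LD1_c10 LD2_c19 LD3_c55)) :=
  Lgr Lrot46 (Lpe (K21.f243071 IH) (Lpr_ft (K26.f184787 IH) (Lpr_at (f369585 IH) (Lpn (LP (LK LD1_c10 LD2_c19 LD3_c55))))))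
theorem f369591 : Led Lsl_gf (LP (LK LD1_c8 LD2_c22 LD3_c53)) = (LP (LK LD1_c14 LD2_c56 LD3_c59)) :=
  Lgr Lrot134 (Lpe (f353426 IH) (Lpr_et (f353428 IH) (Lpe (K23.f340674 IH) (Lpe (K20.f320831 IH) (Lpe (K14.f186903 IH) (Lpr_gt (K26.f340494 IH) (Lpr_df (K21.f228996 IH) (Lpr_et (K21.f243079 IH) (Lpr_gt (f369589 IH) (Lpe (K13.f232360 IH) (Lpn (LP (LK LD1_c14 LD2_c56 LD3_c59)))))))))))))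
theorem f369595 : Led Lsl_gt (LP (LK LD1_c8 LD2_c19 LD3_c10)) = (LP (LK LD1_c15 LD2_c34 LD3_c5)) :=
  Lgr Lrot65 (Lpe (K26.f361602 IH) (Lpr_bt (K26.f361603 IH) (Lpe (K25.f238274 IH) (Lpe (f297715 IH) (Lpr_ct (f193295 IH) (Lpe (f238052 IH) (Lpr_cf (f353529 IH) (Lpr_gf (f369591 IH) (Lpr_bf (K13.f232353 IH) (Lpr_ct (K26.f47706 IH) (Lpn (LP (LK LD1_c15 LD2_c34 LD3_c5)))))))))))))
theorem f228954 : Led Lsl_ct (LP (LK LD1_c4 LD2_c21 LD3_c35)) = (LP (LK LD1_c8 LD2_c40 LD3_c47)) :=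
  Lre_c IH (LK LD1_c4 LD2_c21 LD3_c35) (LK LD1_c8 LD2_c40 LD3_c47) Lrfl Lrfl
theorem f351216 : Led Lsl_gt (LP (LK LD1_c8 LD2_c40 LD3_c47)) = (LP (LK LD1_c14 LD2_c58 LD3_c19)) :=
  Lgr Lrot150 (Lpe (f228954 IH) (Lpe (K21.f184798 IH) (Lpe (K13.f243048 IH) (Lpr_gt (K21.f243063 IH) (Lpr_ct (K26.f350770 IH) (Lpr_gt (K26.f287128 IH) (Lpr_ct (K17.f229557 IH) (Lpe (K17.f229550 IH) (Lpe (K25.f229552 IH) (Lpn (LP (LK LD1_c14 LD2_c58 LD3_c19))))))))))))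
theorem f243105 : Led Lsl_bt (LP (LK LD1_c2 LD2_c5 LD3_c13)) = (LP (LK LD1_c2 LD2_c8 LD3_c17)) :=
  Lgr Lrot127 (Lpr_bf (K13.f243052 IH) (Lpn (LP (LK LD1_c2 LD2_c8 LD3_c17))))
theorem f672 : Led Lsl_ct (LP (LK LD1_c2 LD2_c5 LD3_c13)) = (LP (LK LD1_c4 LD2_c15 LD3_c45)) :=
  Lre_c IH (LK LD1_c2 LD2_c5 LD3_c13) (LK LD1_c4 LD2_c15 LD3_c45) Lrfl Lrfl
theorem f312071 : Led Lsl_gt (LP (LK LD1_c8 LD2_c30 LD3_c35)) = (LP (LK LD1_c4 LD2_c15 LD3_c45)) :=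
  Lre_g IH (LK LD1_c8 LD2_c30 LD3_c35) (LK LD1_c4 LD2_c15 LD3_c45) Lrfl Lrfl
theorem f361522 : Led Lsl_cf (LP (LK LD1_c8 LD2_c30 LD3_c35)) = (LP (LK LD1_c9 LD2_c34 LD3_c8)) :=
  Lgr Lrot160 (Lpr_gt (f312071 IH) (Lpe (f672 IH) (Lpr_bt (f243105 IH) (Lpr_gt (K21.f184798 IH) (Lpr_ct (f228954 IH) (Lpr_gt (f351216 IH) (Lpe (K24.f229560 IH) (Lpr_bt (K18.f229540 IH) (Lpr_gt (f361518 IH) (Lpe (f191704 IH) (Lpn (LP (LK LD1_c9 LD2_c34 LD3_c8)))))))))))))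
theorem f323356 : Led Lsl_bt (LP (LK LD1_c11 LD2_c8 LD3_c38)) = (LP (LK LD1_c15 LD2_c6 LD3_c43)) :=
  Lgr Lrot127 (Lpr_bf (K21.f323354 IH) (Lpn (LP (LK LD1_c15 LD2_c6 LD3_c43))))
theorem f328706 : Led Lsl_cf (LP (LK LD1_c15 LD2_c21 LD3_c55)) = (LP (LK LD1_c11 LD2_c8 LD3_c38)) :=
  Lgr Lrot39 (Lpr_et (K24.f52989 IH) (Lpr_ct (K23.f328701 IH) (Lpr_et (K14.f238344 IH) (Lpn (LP (LK LD1_c11 LD2_c8 LD3_c38))))))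
theorem f309569 : Led Lsl_bf (LP (LK LD1_c15 LD2_c51 LD3_c42)) = (LP (LK LD1_c8 LD2_c28 LD3_c6)) :=
  Lgr Lrot24 (Lpr_bt (K23.f309567 IH) (Lpn (LP (LK LD1_c8 LD2_c28 LD3_c6))))
theorem f296420 : Led Lsl_ct (LP (LK LD1_c25 LD2_c3 LD3_c48)) = (LP (LK LD1_c15 LD2_c14 LD3_c41)) :=
  Lre_c IH (LK LD1_c25 LD2_c3 LD3_c48) (LK LD1_c15 LD2_c14 LD3_c41) Lrfl Lrfl
theorem f332816 : Led Lsl_gt (LP (LK LD1_c15 LD2_c19 LD3_c34)) = (LP (LK LD1_c25 LD2_c3 LD3_c48)) :=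
  Lgr Lrot150 (Lpe (K24.f253131 IH) (Lpr_gf (K22.f332814 IH) (Lpr_df (K21.f323770 IH) (Lpr_gt (K21.f287225 IH) (Lpr_ct (K20.f197201 IH) (Lpr_gt (K20.f242308 IH) (Lpr_ct (K21.f299062 IH) (Lpe (K19.f246137 IH) (Lpe (f296420 IH) (Lpn (LP (LK LD1_c25 LD2_c3 LD3_c48))))))))))))
theorem f341805 : Led Lsl_bt (LP (LK LD1_c15 LD2_c14 LD3_c41)) = (LP (LK LD1_c16 LD2_c35 LD3_c3)) :=
  Lgr Lrot130 (Lpr_ct (K23.f296419 IH) (Lpe (f332816 IH) (Lpe (K24.f253131 IH) (Lpe (f309569 IH) (Lpr_gf (K26.f341799 IH) (Lpe (f329996 IH) (Lpe (f330009 IH) (Lpr_gf (K25.f330029 IH) (Lpe (K25.f290051 IH) (Lpr_gf (K20.f316397 IH) (Lpn (LP (LK LD1_c16 LD2_c35 LD3_c3)))))))))))))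
theorem f341807 : Led Lsl_bf (LP (LK LD1_c15 LD2_c37 LD3_c47)) = (LP (LK LD1_c16 LD2_c5 LD3_c10)) :=
  Lgr Lrot96 (Lpr_et (K19.f305616 IH) (Lpr_bt (f341805 IH) (Lpe (K23.f316405 IH) (Lpn (LP (LK LD1_c16 LD2_c5 LD3_c10))))))
theorem f316461 : Led Lsl_ct (LP (LK LD1_c16 LD2_c5 LD3_c10)) = (LP (LK LD1_c26 LD2_c2 LD3_c13)) :=
  Lre_c IH (LK LD1_c16 LD2_c5 LD3_c10) (LK LD1_c26 LD2_c2 LD3_c13) Lrfl Lrfl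
theorem f355003 : Led Lsl_gf (LP (LK LD1_c26 LD2_c2 LD3_c13)) = (LP (LK LD1_c29 LD2_c44 LD3_c7)) :=
  Lgr Lrot126 (Lpe (f316461 IH) (Lpe (f341807 IH) (Lpr_gt (K19.f305628 IH) (Lpr_ct (K24.f348720 IH) (Lpr_gt (K24.f350295 IH) (Lpr_cf (f328706 IH) (Lpr_bt (f323356 IH) (Lpr_gt (K25.f354999 IH) (Lpe (K25.f314674 IH) (Lpr_ct (K25.f354671 IH) (Lpn (LP (LK LD1_c29 LD2_c44 LD3_c7)))))))))))))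
theorem f316402 : Led Lsl_ct (LP (LK LD1_c26 LD2_c2 LD3_c13)) = (LP (LK LD1_c16 LD2_c5 LD3_c10)) :=
  Lre_c IH (LK LD1_c26 LD2_c2 LD3_c13) (LK LD1_c16 LD2_c5 LD3_c10) Lrfl Lrfl
theorem f310198 : Led Lsl_ct (LP (LK LD1_c16 LD2_c5 LD3_c9)) = (LP (LK LD1_c8 LD2_c34 LD3_c15)) :=
  Lre_c IH (LK LD1_c16 LD2_c5 LD3_c9) (LK LD1_c8 LD2_c34 LD3_c15) Lrfl Lrfl
theorem f326077 : Led Lsl_ff (LP (LK LD1_c4 LD2_c21 LD3_c54)) = (LP (LK LD1_c7 LD2_c55 LD3_c43)) :=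
  Lgr Lrot30 (Lpr_at (K23.f326055 IH) (Lpe (K16.f270744 IH) (Lpr_at (K16.f270535 IH) (Lpn (LP (LK LD1_c7 LD2_c55 LD3_c43))))))
theorem f326081 : Led Lsl_ft (LP (LK LD1_c4 LD2_c21 LD3_c54)) = (LP (LK LD1_c7 LD2_c55 LD3_c43)) :=
  Lgr Lrot48 (Lpr_ff (f326077 IH) (Lpn (LP (LK LD1_c7 LD2_c55 LD3_c43))))
theorem f326087 : Led Lsl_ff (LP (LK LD1_c8 LD2_c41 LD3_c27)) = (LP (LK LD1_c14 LD2_c57 LD3_c23)) :=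
  Lgr Lrot19 (Lpr_dt (K23.f216745 IH) (Lpr_ft (f326081 IH) (Lpr_dt (K16.f232897 IH) (Lpn (LP (LK LD1_c14 LD2_c57 LD3_c23))))))
theorem f326091 : Led Lsl_ft (LP (LK LD1_c10 LD2_c38 LD3_c40)) = (LP (LK LD1_c11 LD2_c52 LD3_c2)) :=
  Lgr Lrot4 (Lpe (K23.f326035 IH) (Lpr_ff (f326087 IH) (Lpr_cf (K16.f270767 IH) (Lpn (LP (LK LD1_c11 LD2_c52 LD3_c2))))))
theorem f326095 : Led Lsl_ff (LP (LK LD1_c10 LD2_c38 LD3_c40)) = (LP (LK LD1_c11 LD2_c52 LD3_c2)) :=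
  Lgr Lrot3 (Lpr_ft (f326091 IH) (Lpn (LP (LK LD1_c11 LD2_c52 LD3_c2))))
theorem f326053 : Led Lsl_at (LP (LK LD1_c10 LD2_c38 LD3_c40)) = (LP (LK LD1_c11 LD2_c51 LD3_c61)) :=
  Lgr Lrot107 (Lpe (K23.f326035 IH) (Lpr_af (K23.f326049 IH) (Lpe (K16.f258903 IH) (Lpn (LP (LK LD1_c11 LD2_c51 LD3_c61))))))
theorem f326099 : Led Lsl_gf (LP (LK LD1_c11 LD2_c51 LD3_c61)) = (LP (LK LD1_c8 LD2_c32 LD3_c52)) :=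
  Lgr Lrot76 (Lpe (f326053 IH) (Lpr_ff (f326095 IH) (Lpe (K16.f258316 IH) (Lpn (LP (LK LD1_c8 LD2_c32 LD3_c52))))))
theorem f270829 : Led Lsl_et (LP (LK LD1_c6 LD2_c4 LD3_c16)) = (LP (LK LD1_c11 LD2_c52 LD3_c0)) :=
  Lre_e IH (LK LD1_c6 LD2_c4 LD3_c16) (LK LD1_c11 LD2_c52 LD3_c0) Lrfl Lrfl
theorem f287728 : Led Lsl_et (LP (LK LD1_c16 LD2_c2 LD3_c48)) = (LP (LK LD1_c8 LD2_c32 LD3_c50)) :=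
  Lre_e IH (LK LD1_c16 LD2_c2 LD3_c48) (LK LD1_c8 LD2_c32 LD3_c50) Lrfl Lrfl
theorem f309312 : Led Lsl_dt (LP (LK LD1_c16 LD2_c2 LD3_c48)) = (LP (LK LD1_c26 LD2_c0 LD3_c21)) :=
  Lre_d IH (LK LD1_c16 LD2_c2 LD3_c48) (LK LD1_c26 LD2_c0 LD3_c21) Lrfl Lrfl
theorem f321129 : Led Lsl_ft (LP (LK LD1_c10 LD2_c38 LD3_c35)) = (LP (LK LD1_c16 LD2_c3 LD3_c30)) :=
  Lgr Lrot48 (Lpr_ff (K25.f321120 IH) (Lpn (LP (LK LD1_c16 LD2_c3 LD3_c30))))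
theorem f309313 : Led Lsl_dt (LP (LK LD1_c19 LD2_c16 LD3_c57)) = (LP (LK LD1_c10 LD2_c38 LD3_c35)) :=
  Lre_d IH (LK LD1_c19 LD2_c16 LD3_c57) (LK LD1_c10 LD2_c38 LD3_c35) Lrfl Lrfl
theorem f248360 : Led Lsl_dt (LP (LK LD1_c16 LD2_c3 LD3_c30)) = (LP (LK LD1_c26 LD2_c0 LD3_c54)) :=
  Lre_d IH (LK LD1_c16 LD2_c3 LD3_c30) (LK LD1_c26 LD2_c0 LD3_c54) Lrfl Lrfl
theorem f321133 : Led Lsl_ff (LP (LK LD1_c19 LD2_c16 LD3_c57)) = (LP (LK LD1_c26 LD2_c0 LD3_c54)) :=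
  Lgr Lrot19 (Lpr_dt (f309313 IH) (Lpr_ft (f321129 IH) (Lpr_dt (f248360 IH) (Lpn (LP (LK LD1_c26 LD2_c0 LD3_c54))))))
theorem f287729 : Led Lsl_dt (LP (LK LD1_c26 LD2_c0 LD3_c21)) = (LP (LK LD1_c16 LD2_c2 LD3_c48)) :=
  Lre_d IH (LK LD1_c26 LD2_c0 LD3_c21) (LK LD1_c16 LD2_c2 LD3_c48) Lrfl Lrfl
theorem f309268 : Led Lsl_dt (LP (LK LD1_c10 LD2_c38 LD3_c35)) = (LP (LK LD1_c19 LD2_c16 LD3_c57)) :=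
  Lre_d IH (LK LD1_c10 LD2_c38 LD3_c35) (LK LD1_c19 LD2_c16 LD3_c57) Lrfl Lrfl
theorem f309308 : Led Lsl_af (LP (LK LD1_c26 LD2_c0 LD3_c21)) = (LP (LK LD1_c19 LD2_c16 LD3_c57)) :=
  Lgr Lrot117 (Lpr_dt (f287729 IH) (Lpr_at (K19.f309302 IH) (Lpr_dt (f309268 IH) (Lpn (LP (LK LD1_c19 LD2_c16 LD3_c57))))))
theorem f230992 : Led Lsl_gt (LP (LK LD1_c4 LD2_c16 LD3_c56)) = (LP (LK LD1_c8 LD2_c32 LD3_c49)) :=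
  Lre_g IH (LK LD1_c4 LD2_c16 LD3_c56) (LK LD1_c8 LD2_c32 LD3_c49) Lrfl Lrfl
theorem f167607 : Led Lsl_ct (LP (LK LD1_c8 LD2_c35 LD3_c10)) = (LP (LK LD1_c4 LD2_c18 LD3_c6)) :=
  Lre_c IH (LK LD1_c8 LD2_c35 LD3_c10) (LK LD1_c4 LD2_c18 LD3_c6) Lrfl Lrfl
theorem f316427 : Led Lsl_dt (LP (LK LD1_c16 LD2_c6 LD3_c38)) = (LP (LK LD1_c8 LD2_c35 LD3_c10)) :=
  Lre_d IH (LK LD1_c16 LD2_c6 LD3_c38) (LK LD1_c8 LD2_c35 LD3_c10) Lrfl Lrfl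
theorem f316428 : Led Lsl_gt (LP (LK LD1_c26 LD2_c0 LD3_c54)) = (LP (LK LD1_c16 LD2_c6 LD3_c38)) :=
  Lgr Lrot49 (Lpe (f248360 IH) (Lpe (K20.f169393 IH) (Lpe (K20.f169392 IH) (Lpr_gt (f230992 IH) (Lpe (K14.f248351 IH) (Lpe (K20.f316416 IH) (Lpr_dt (K20.f316418 IH) (Lpe (f167607 IH) (Lpe (f316427 IH) (Lpn (LP (LK LD1_c16 LD2_c6 LD3_c38))))))))))))
theorem f321135 : Led Lsl_gf (LP (LK LD1_c26 LD2_c0 LD3_c21)) = (LP (LK LD1_c16 LD2_c6 LD3_c38)) :=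
  Lgr Lrot76 (Lpr_af (f309308 IH) (Lpr_ff (f321133 IH) (Lpr_gt (f316428 IH) (Lpn (LP (LK LD1_c16 LD2_c6 LD3_c38))))))
theorem f316420 : Led Lsl_dt (LP (LK LD1_c8 LD2_c35 LD3_c10)) = (LP (LK LD1_c16 LD2_c6 LD3_c38)) :=
  Lre_d IH (LK LD1_c8 LD2_c35 LD3_c10) (LK LD1_c16 LD2_c6 LD3_c38) Lrfl Lrfl
theorem f316457 : Led Lsl_ef (LP (LK LD1_c16 LD2_c5 LD3_c9)) = (LP (LK LD1_c8 LD2_c35 LD3_c10)) :=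
  Lgr Lrot28 (Lpr_ct (f310198 IH) (Lpr_et (K22.f316455 IH) (Lpr_ct (K26.f167605 IH) (Lpn (LP (LK LD1_c8 LD2_c35 LD3_c10))))))
theorem f326101 : Led Lsl_gt (LP (LK LD1_c11 LD2_c52 LD3_c0)) = (LP (LK LD1_c16 LD2_c5 LD3_c9)) :=
  Lgr Lrot131 (Lpe (f270829 IH) (Lpr_dt (K16.f42092 IH) (Lpr_gf (f326099 IH) (Lpe (K21.f184248 IH) (Lpe (K17.f184256 IH) (Lpe (f287728 IH) (Lpr_dt (f309312 IH) (Lpr_gf (f321135 IH) (Lpe (f316420 IH) (Lpe (f316457 IH) (Lpn (LP (LK LD1_c16 LD2_c5 LD3_c9)))))))))))))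
theorem f355007 : Led Lsl_gt (LP (LK LD1_c24 LD2_c54 LD3_c46)) = (LP (LK LD1_c25 LD2_c23 LD3_c23)) :=
  Lgr Lrot9 (Lpe (K23.f258453 IH) (Lpr_gt (K21.f247139 IH) (Lpr_ct (K16.f270740 IH) (Lpr_gt (f326101 IH) (Lpr_ct (f310198 IH) (Lpe (K20.f284197 IH) (Lpe (f316402 IH) (Lpr_gf (f355003 IH) (Lpe (K25.f354671 IH) (Lpn (LP (LK LD1_c25 LD2_c23 LD3_c23))))))))))))
theorem f355009 : Led Lsl_gf (LP (LK LD1_c24 LD2_c49 LD3_c14)) = (LP (LK LD1_c17 LD2_c41 LD3_c45)) :=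
  Lgr Lrot141 (Lpe (f193181 IH) (Lpr_dt (f193179 IH) (Lpe (f341042 IH) (Lpe (K22.f282101 IH) (Lpe (K17.f270870 IH) (Lpr_gt (K21.f258452 IH) (Lpr_dt (K23.f258453 IH) (Lpr_gt (f355007 IH) (Lpr_df (K25.f348584 IH) (Lpe (K25.f348586 IH) (Lpn (LP (LK LD1_c17 LD2_c41 LD3_c45)))))))))))))
theorem f361520 : Led Lsl_gf (LP (LK LD1_c14 LD2_c58 LD3_c9)) = (LP (LK LD1_c17 LD2_c37 LD3_c15)) :=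
  Lgr Lrot141 (Lpe (K17.f230395 IH) (Lpr_dt (K15.f230390 IH) (Lpr_gt (K25.f266245 IH) (Lpe (K12.f219375 IH) (Lpr_et (K25.f219373 IH) (Lpe (K25.f348558 IH) (Lpr_dt (K26.f305531 IH) (Lpe (f355009 IH) (Lpr_df (f361507 IH) (Lpr_et (f361517 IH) (Lpn (LP (LK LD1_c17 LD2_c37 LD3_c15)))))))))))))
theorem f186944 : Led Lsl_et (LP (LK LD1_c9 LD2_c37 LD3_c54)) = (LP (LK LD1_c4 LD2_c52 LD3_c60)) :=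
  Lre_e IH (LK LD1_c9 LD2_c37 LD3_c54) (LK LD1_c4 LD2_c52 LD3_c60) Lrfl Lrfl
theorem f361471 : Led Lsl_gf (LP (LK LD1_c8 LD2_c33 LD3_c16)) = (LP (LK LD1_c16 LD2_c2 LD3_c48)) :=
  Lgr Lrot141 (Lpr_ef (K20.f316091 IH) (Lpr_dt (K20.f300454 IH) (Lpr_gt (K26.f361464 IH) (Lpe (K26.f186945 IH) (Lpr_et (f186944 IH) (Lpr_gt (K12.f186941 IH) (Lpr_dt (K9.f29056 IH) (Lpr_gt (K16.f42680 IH) (Lpr_df (K17.f287724 IH) (Lpr_et (K19.f287734 IH) (Lpn (LP (LK LD1_c16 LD2_c2 LD3_c48)))))))))))))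
theorem f361535 : Led Lsl_gf (LP (LK LD1_c8 LD2_c30 LD3_c35)) = (LP (LK LD1_c15 LD2_c56 LD3_c56)) :=
  Lgr Lrot126 (Lpr_cf (f361522 IH) (Lpr_bt (f191704 IH) (Lpe (f361520 IH) (Lpe (K19.f309318 IH) (Lpe (f361471 IH) (Lpe (K20.f169392 IH) (Lpr_bt (K25.f316080 IH) (Lpr_gt (K25.f355861 IH) (Lpe (K14.f49006 IH) (Lpr_ct (K14.f49010 IH) (Lpn (LP (LK LD1_c15 LD2_c56 LD3_c56)))))))))))))
theorem f361527 : Led Lsl_ct (LP (LK LD1_c8 LD2_c30 LD3_c35)) = (LP (LK LD1_c9 LD2_c34 LD3_c8)) :=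
  Lgr Lrot59 (Lpr_cf (f361522 IH) (Lpn (LP (LK LD1_c9 LD2_c34 LD3_c8))))
theorem f674 : Led Lsl_gt (LP (LK LD1_c8 LD2_c19 LD3_c18)) = (LP (LK LD1_c15 LD2_c39 LD3_c9)) :=
  Lre_g IH (LK LD1_c8 LD2_c19 LD3_c18) (LK LD1_c15 LD2_c39 LD3_c9) Lrfl Lrfl
theorem f361537 : Led Lsl_cf (LP (LK LD1_c15 LD2_c50 LD3_c42)) = (LP (LK LD1_c15 LD2_c39 LD3_c9)) :=
  Lgr Lrot99 (Lpr_df (K23.f191705 IH) (Lpe (f361527 IH) (Lpr_gf (f361535 IH) (Lpe (K14.f49010 IH) (Lpe (K23.f251140 IH) (Lpe (K22.f657 IH) (Lpr_gt (K13.f654 IH) (Lpr_ct (K24.f673 IH) (Lpr_gt (f674 IH) (Lpn (LP (LK LD1_c15 LD2_c39 LD3_c9))))))))))))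
theorem f361541 : Led Lsl_ct (LP (LK LD1_c15 LD2_c50 LD3_c42)) = (LP (LK LD1_c15 LD2_c39 LD3_c9)) :=
  Lgr Lrot59 (Lpr_cf (f361537 IH) (Lpn (LP (LK LD1_c15 LD2_c39 LD3_c9))))
theorem f47705 : Led Lsl_ct (LP (LK LD1_c10 LD2_c20 LD3_c15)) = (LP (LK LD1_c5 LD2_c15 LD3_c29)) :=
  Lre_c IH (LK LD1_c10 LD2_c20 LD3_c15) (LK LD1_c5 LD2_c15 LD3_c29) Lrfl Lrfl
theorem f369597 : Led Lsl_gt (LP (LK LD1_c15 LD2_c39 LD3_c9)) = (LP (LK LD1_c10 LD2_c20 LD3_c15)) :=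
  Lgr Lrot150 (Lpe (f361541 IH) (Lpe (K23.f45016 IH) (Lpe (K24.f263616 IH) (Lpe (K26.f361624 IH) (Lpr_ct (K26.f361602 IH) (Lpr_gt (f369595 IH) (Lpr_ct (K26.f47710 IH) (Lpe (K13.f47695 IH) (Lpe (f47705 IH) (Lpn (LP (LK LD1_c10 LD2_c20 LD3_c15))))))))))))
theorem f232043 : Led Lsl_ft (LP (LK LD1_c8 LD2_c19 LD3_c18)) = (LP (LK LD1_c15 LD2_c39 LD3_c12)) :=
  Lre_f IH (LK LD1_c8 LD2_c19 LD3_c18) (LK LD1_c15 LD2_c39 LD3_c12) Lrfl Lrfl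
theorem f369599 : Led Lsl_at (LP (LK LD1_c15 LD2_c39 LD3_c12)) = (LP (LK LD1_c10 LD2_c20 LD3_c15)) :=
  Lgr Lrot26 (Lpe (f232043 IH) (Lpr_gt (f674 IH) (Lpr_gt (f369597 IH) (Lpn (LP (LK LD1_c10 LD2_c20 LD3_c15))))))
theorem f369605 : Led Lsl_ft (LP (LK LD1_c10 LD2_c20 LD3_c15)) = (LP (LK LD1_c5 LD2_c15 LD3_c27)) :=
  Lre_f IH (LK LD1_c10 LD2_c20 LD3_c15) (LK LD1_c5 LD2_c15 LD3_c27) Lrfl Lrfl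
theorem f369606 : Led Lsl_af (LP (LK LD1_c8 LD2_c19 LD3_c18)) = (LP (LK LD1_c5 LD2_c15 LD3_c27)) :=
  Lgr Lrot45 (Lpr_ft (f232043 IH) (Lpr_at (f369599 IH) (Lpr_ft (f369605 IH) (Lpn (LP (LK LD1_c5 LD2_c15 LD3_c27))))))
theorem f232041 : Led Lsl_ef (LP (LK LD1_c5 LD2_c15 LD3_c1)) = (LP (LK LD1_c8 LD2_c19 LD3_c18)) :=
  Lgr Lrot88 (Lpr_et (K14.f232033 IH) (Lpn (LP (LK LD1_c8 LD2_c19 LD3_c18))))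
theorem f369610 : Led Lsl_at (LP (LK LD1_c5 LD2_c15 LD3_c1)) = (LP (LK LD1_c2 LD2_c34 LD3_c33)) :=
  Lgr Lrot80 (Lpr_ef (f232041 IH) (Lpr_af (f369606 IH) (Lpe (K26.f49863 IH) (Lpn (LP (LK LD1_c2 LD2_c34 LD3_c33))))))
theorem f362124 : Led Lsl_ff (LP (LK LD1_c5 LD2_c15 LD3_c1)) = (LP (LK LD1_c2 LD2_c34 LD3_c40)) :=
  Lgr Lrot23 (Lpr_ct (K15.f191160 IH) (Lpr_ft (K26.f362120 IH) (Lpr_ct (K15.f32900 IH) (Lpn (LP (LK LD1_c2 LD2_c34 LD3_c40))))))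
theorem f189608 : Led Lsl_ct (LP (LK LD1_c2 LD2_c34 LD3_c40)) = (LP (LK LD1_c1 LD2_c14 LD3_c21)) :=
  Lre_c IH (LK LD1_c2 LD2_c34 LD3_c40) (LK LD1_c1 LD2_c14 LD3_c21) Lrfl Lrfl
theorem f362134 : Led Lsl_at (LP (LK LD1_c5 LD2_c15 LD3_c2)) = (LP (LK LD1_c2 LD2_c34 LD3_c40)) :=
  Lgr Lrot107 (Lpe (K14.f32895 IH) (Lpr_af (K26.f362130 IH) (Lpe (f189608 IH) (Lpn (LP (LK LD1_c2 LD2_c34 LD3_c40))))))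
theorem f369621 : Led Lsl_ff (LP (LK LD1_c5 LD2_c15 LD3_c2)) = (LP (LK LD1_c2 LD2_c34 LD3_c33)) :=
  Lgr Lrot30 (Lpr_at (f362134 IH) (Lpe (f362124 IH) (Lpr_at (f369610 IH) (Lpn (LP (LK LD1_c2 LD2_c34 LD3_c33))))))
theorem f369628 : Led Lsl_ft (LP (LK LD1_c5 LD2_c15 LD3_c2)) = (LP (LK LD1_c2 LD2_c34 LD3_c33)) :=
  Lgr Lrot48 (Lpr_ff (f369621 IH) (Lpn (LP (LK LD1_c2 LD2_c34 LD3_c33))))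
theorem f369632 : Led Lsl_ff (LP (LK LD1_c10 LD2_c19 LD3_c33)) = (LP (LK LD1_c5 LD2_c15 LD3_c26)) :=
  Lgr Lrot19 (Lpr_dt (K14.f192463 IH) (Lpr_ft (f369628 IH) (Lpr_dt (K14.f49862 IH) (Lpn (LP (LK LD1_c5 LD2_c15 LD3_c26))))))
theorem f369639 : Led Lsl_at (LP (LK LD1_c10 LD2_c19 LD3_c33)) = (LP (LK LD1_c5 LD2_c15 LD3_c38)) :=
  Lgr Lrot26 (Lpr_ff (f369632 IH) (Lpr_gt (K14.f49933 IH) (Lpe (K15.f259455 IH) (Lpn (LP (LK LD1_c5 LD2_c15 LD3_c38))))))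
theorem f369646 : Led Lsl_af (LP (LK LD1_c5 LD2_c15 LD3_c2)) = (LP (LK LD1_c2 LD2_c34 LD3_c40)) :=
  Lgr Lrot117 (Lpr_dt (K14.f192458 IH) (Lpr_at (f369639 IH) (Lpr_dt (K15.f231947 IH) (Lpn (LP (LK LD1_c2 LD2_c34 LD3_c40))))))
theorem f369612 : Led Lsl_af (LP (LK LD1_c5 LD2_c15 LD3_c1)) = (LP (LK LD1_c2 LD2_c34 LD3_c33)) :=
  Lgr Lrot0 (Lpr_at (f369610 IH) (Lpn (LP (LK LD1_c2 LD2_c34 LD3_c33))))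
theorem f369653 : Led Lsl_ft (LP (LK LD1_c5 LD2_c15 LD3_c1)) = (LP (LK LD1_c2 LD2_c34 LD3_c40)) :=
  Lgr Lrot101 (Lpr_af (f369612 IH) (Lpe (f369628 IH) (Lpr_af (f369646 IH) (Lpn (LP (LK LD1_c2 LD2_c34 LD3_c40))))))
theorem f369657 : Led Lsl_ff (LP (LK LD1_c10 LD2_c19 LD3_c31)) = (LP (LK LD1_c5 LD2_c15 LD3_c38)) :=
  Lgr Lrot19 (Lpr_dt (K15.f216169 IH) (Lpr_ft (f369653 IH) (Lpr_dt (K15.f231946 IH) (Lpn (LP (LK LD1_c5 LD2_c15 LD3_c38))))))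
theorem f369665 : Led Lsl_ft (LP (LK LD1_c10 LD2_c19 LD3_c31)) = (LP (LK LD1_c5 LD2_c15 LD3_c38)) :=
  Lgr Lrot48 (Lpr_ff (f369657 IH) (Lpn (LP (LK LD1_c5 LD2_c15 LD3_c38))))
theorem f369669 : Led Lsl_ff (LP (LK LD1_c8 LD2_c29 LD3_c31)) = (LP (LK LD1_c8 LD2_c29 LD3_c1)) :=
  Lgr Lrot23 (Lpe (K15.f257105 IH) (Lpr_ft (f369665 IH) (Lpe (K15.f259398 IH) (Lpn (LP (LK LD1_c8 LD2_c29 LD3_c1))))))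
theorem f369675 : Led Lsl_at (LP (LK LD1_c8 LD2_c29 LD3_c31)) = (LP (LK LD1_c8 LD2_c29 LD3_c2)) :=
  Lgr Lrot26 (Lpr_ff (f369669 IH) (Lpr_gt (K15.f259482 IH) (Lpe (K15.f45292 IH) (Lpn (LP (LK LD1_c8 LD2_c29 LD3_c2))))))
theorem f369679 : Led Lsl_af (LP (LK LD1_c8 LD2_c11 LD3_c17)) = (LP (LK LD1_c5 LD2_c15 LD3_c34)) :=
  Lgr Lrot117 (Lpr_dt (K15.f257142 IH) (Lpr_at (f369675 IH) (Lpr_dt (K15.f259417 IH) (Lpn (LP (LK LD1_c5 LD2_c15 LD3_c34))))))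
theorem f369673 : Led Lsl_ft (LP (LK LD1_c8 LD2_c11 LD3_c17)) = (LP (LK LD1_c5 LD2_c15 LD3_c18)) :=
  Lgr Lrot54 (Lpr_df (K15.f257107 IH) (Lpr_ff (f369669 IH) (Lpr_df (K15.f260392 IH) (Lpn (LP (LK LD1_c5 LD2_c15 LD3_c18))))))
theorem f260394 : Led Lsl_et (LP (LK LD1_c10 LD2_c19 LD3_c59)) = (LP (LK LD1_c5 LD2_c15 LD3_c18)) :=
  Lre_e IH (LK LD1_c10 LD2_c19 LD3_c59) (LK LD1_c5 LD2_c15 LD3_c18) Lrfl Lrfl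
theorem f216163 : Led Lsl_et (LP (LK LD1_c10 LD2_c19 LD3_c28)) = (LP (LK LD1_c18 LD2_c44 LD3_c36)) :=
  Lre_e IH (LK LD1_c10 LD2_c19 LD3_c28) (LK LD1_c18 LD2_c44 LD3_c36) Lrfl Lrfl
theorem f359976 : Led Lsl_at (LP (LK LD1_c5 LD2_c15 LD3_c18)) = (LP (LK LD1_c10 LD2_c19 LD3_c28)) :=
  Lgr Lrot80 (Lpe (f260394 IH) (Lpr_af (K26.f359972 IH) (Lpe (f216163 IH) (Lpn (LP (LK LD1_c10 LD2_c19 LD3_c28))))))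
theorem f369688 : Led Lsl_ft (LP (LK LD1_c10 LD2_c19 LD3_c28)) = (LP (LK LD1_c5 LD2_c15 LD3_c34)) :=
  Lgr Lrot101 (Lpe (f359976 IH) (Lpe (f369673 IH) (Lpr_af (f369679 IH) (Lpn (LP (LK LD1_c5 LD2_c15 LD3_c34))))))
theorem f369698 : Led Lsl_ff (LP (LK LD1_c10 LD2_c19 LD3_c28)) = (LP (LK LD1_c5 LD2_c15 LD3_c34)) :=
  Lgr Lrot3 (Lpr_ft (f369688 IH) (Lpn (LP (LK LD1_c5 LD2_c15 LD3_c34))))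
theorem f359899 : Led Lsl_at (LP (LK LD1_c10 LD2_c20 LD3_c0)) = (LP (LK LD1_c18 LD2_c44 LD3_c38)) :=
  Lgr Lrot66 (Lpe (K26.f223099 IH) (Lpr_af (K26.f359889 IH) (Lpe (K26.f232125 IH) (Lpn (LP (LK LD1_c18 LD2_c44 LD3_c38))))))
theorem f359918 : Led Lsl_at (LP (LK LD1_c25 LD2_c51 LD3_c28)) = (LP (LK LD1_c18 LD2_c45 LD3_c31)) :=
  Lgr Lrot107 (Lpr_cf (K26.f359916 IH) (Lpe (f359899 IH) (Lpe (K26.f223106 IH) (Lpn (LP (LK LD1_c18 LD2_c45 LD3_c31))))))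
theorem f263524 : Led Lsl_bt (LP (LK LD1_c10 LD2_c19 LD3_c29)) = (LP (LK LD1_c8 LD2_c13 LD3_c16)) :=
  Lgr Lrot127 (Lpr_bf (K22.f263522 IH) (Lpn (LP (LK LD1_c8 LD2_c13 LD3_c16))))
theorem f232109 : Led Lsl_ct (LP (LK LD1_c10 LD2_c19 LD3_c29)) = (LP (LK LD1_c18 LD2_c44 LD3_c36)) :=
  Lre_c IH (LK LD1_c10 LD2_c19 LD3_c29) (LK LD1_c18 LD2_c44 LD3_c36) Lrfl Lrfl
theorem f264706 : Led Lsl_ct (LP (LK LD1_c5 LD2_c25 LD3_c59)) = (LP (LK LD1_c10 LD2_c43 LD3_c11)) :=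
  Lre_c IH (LK LD1_c5 LD2_c25 LD3_c59) (LK LD1_c10 LD2_c43 LD3_c11) Lrfl Lrfl
theorem f358032 : Led Lsl_gf (LP (LK LD1_c18 LD2_c44 LD3_c36)) = (LP (LK LD1_c10 LD2_c43 LD3_c11)) :=
  Lgr Lrot129 (Lpe (f232109 IH) (Lpr_bt (f263524 IH) (Lpr_gt (K26.f192269 IH) (Lpr_bf (K26.f358022 IH) (Lpr_ct (K25.f347880 IH) (Lpr_gt (K23.f282417 IH) (Lpe (K25.f231746 IH) (Lpe (K21.f231735 IH) (Lpr_gt (K23.f347992 IH) (Lpr_ct (f264706 IH) (Lpn (LP (LK LD1_c10 LD2_c43 LD3_c11)))))))))))))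
theorem f282606 : Led Lsl_dt (LP (LK LD1_c16 LD2_c46 LD3_c51)) = (LP (LK LD1_c8 LD2_c57 LD3_c58)) :=
  Lre_d IH (LK LD1_c16 LD2_c46 LD3_c51) (LK LD1_c8 LD2_c57 LD3_c58) Lrfl Lrfl
theorem f282623 : Led Lsl_gt (LP (LK LD1_c26 LD2_c45 LD3_c19)) = (LP (LK LD1_c16 LD2_c46 LD3_c51)) :=
  Lre_g IH (LK LD1_c26 LD2_c45 LD3_c19) (LK LD1_c16 LD2_c46 LD3_c51) Lrfl Lrfl
theorem f358034 : Led Lsl_dt (LP (LK LD1_c18 LD2_c44 LD3_c36)) = (LP (LK LD1_c26 LD2_c45 LD3_c19)) :=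
  Lgr Lrot57 (Lpr_gf (f358032 IH) (Lpe (f264706 IH) (Lpr_gt (K23.f264705 IH) (Lpr_dt (K15.f264632 IH) (Lpr_gt (K20.f246295 IH) (Lpr_dt (K21.f317926 IH) (Lpe (K26.f282600 IH) (Lpe (f282606 IH) (Lpe (f282623 IH) (Lpn (LP (LK LD1_c26 LD2_c45 LD3_c19))))))))))))
theorem f282613 : Led Lsl_ct (LP (LK LD1_c16 LD2_c46 LD3_c51)) = (LP (LK LD1_c26 LD2_c45 LD3_c20)) :=
  Lre_c IH (LK LD1_c16 LD2_c46 LD3_c51) (LK LD1_c26 LD2_c45 LD3_c20) Lrfl Lrfl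
theorem f264791 : Led Lsl_ct (LP (LK LD1_c10 LD2_c43 LD3_c7)) = (LP (LK LD1_c19 LD2_c24 LD3_c8)) :=
  Lre_c IH (LK LD1_c10 LD2_c43 LD3_c7) (LK LD1_c19 LD2_c24 LD3_c8) Lrfl Lrfl
theorem f282607 : Led Lsl_ct (LP (LK LD1_c26 LD2_c45 LD3_c20)) = (LP (LK LD1_c16 LD2_c46 LD3_c51)) :=
  Lre_c IH (LK LD1_c26 LD2_c45 LD3_c20) (LK LD1_c16 LD2_c46 LD3_c51) Lrfl Lrfl
theorem f282608 : Led Lsl_gt (LP (LK LD1_c19 LD2_c24 LD3_c8)) = (LP (LK LD1_c26 LD2_c45 LD3_c20)) :=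
  Lgr Lrot150 (Lpe (f264791 IH) (Lpr_gf (K23.f282546 IH) (Lpe (K23.f271742 IH) (Lpr_gt (K23.f262879 IH) (Lpr_ct (K25.f257367 IH) (Lpr_gt (K20.f264458 IH) (Lpr_ct (f264461 IH) (Lpe (f282606 IH) (Lpe (f282607 IH) (Lpn (LP (LK LD1_c26 LD2_c45 LD3_c20))))))))))))
theorem f264795 : Led Lsl_at (LP (LK LD1_c28 LD2_c47 LD3_c59)) = (LP (LK LD1_c19 LD2_c46 LD3_c11)) :=
  Lgr Lrot107 (Lpe (K15.f264751 IH) (Lpr_af (K26.f264784 IH) (Lpe (f258832 IH) (Lpn (LP (LK LD1_c19 LD2_c46 LD3_c11))))))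
theorem f282618 : Led Lsl_gf (LP (LK LD1_c19 LD2_c46 LD3_c11)) = (LP (LK LD1_c26 LD2_c45 LD3_c20)) :=
  Lgr Lrot76 (Lpe (f264795 IH) (Lpe (K15.f264737 IH) (Lpr_gt (f282608 IH) (Lpn (LP (LK LD1_c26 LD2_c45 LD3_c20))))))
theorem f358046 : Led Lsl_gt (LP (LK LD1_c18 LD2_c44 LD3_c36)) = (LP (LK LD1_c10 LD2_c43 LD3_c9)) :=
  Lgr Lrot146 (Lpr_dt (f358034 IH) (Lpr_gt (f282623 IH) (Lpr_ct (f282613 IH) (Lpe (f282618 IH) (Lpr_ct (f258832 IH) (Lpr_dt (K20.f231750 IH) (Lpe (K20.f231744 IH) (Lpe (K25.f340845 IH) (Lpe (K26.f340849 IH) (Lpn (LP (LK LD1_c10 LD2_c43 LD3_c9))))))))))))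
theorem f361810 : Led Lsl_ff (LP (LK LD1_c25 LD2_c51 LD3_c28)) = (LP (LK LD1_c18 LD2_c44 LD3_c36)) :=
  Lgr Lrot52 (Lpr_at (f359918 IH) (Lpr_gf (K26.f361808 IH) (Lpe (f358046 IH) (Lpn (LP (LK LD1_c18 LD2_c44 LD3_c36))))))
theorem f231863 : Led Lsl_et (LP (LK LD1_c10 LD2_c20 LD3_c25)) = (LP (LK LD1_c5 LD2_c15 LD3_c34)) :=
  Lre_e IH (LK LD1_c10 LD2_c20 LD3_c25) (LK LD1_c5 LD2_c15 LD3_c34) Lrfl Lrfl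
theorem f369704 : Led Lsl_ft (LP (LK LD1_c16 LD2_c44 LD3_c13)) = (LP (LK LD1_c10 LD2_c20 LD3_c25)) :=
  Lgr Lrot86 (Lpr_ef (K26.f341872 IH) (Lpr_ff (f361810 IH) (Lpe (f216163 IH) (Lpr_ff (f369698 IH) (Lpe (f231863 IH) (Lpn (LP (LK LD1_c10 LD2_c20 LD3_c25))))))))
theorem f341869 : Led Lsl_ct (LP (LK LD1_c26 LD2_c43 LD3_c0)) = (LP (LK LD1_c32 LD2_c14 LD3_c59)) :=
  Lre_c IH (LK LD1_c26 LD2_c43 LD3_c0) (LK LD1_c32 LD2_c14 LD3_c59) Lrfl Lrfl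
theorem f369713 : Led Lsl_af (LP (LK LD1_c15 LD2_c24 LD3_c59)) = (LP (LK LD1_c10 LD2_c20 LD3_c25)) :=
  Lgr Lrot31 (Lpe (K23.f307428 IH) (Lpe (K26.f178023 IH) (Lpr_ft (f369704 IH) (Lpn (LP (LK LD1_c10 LD2_c20 LD3_c25))))))
theorem f322909 : Led Lsl_ct (LP (LK LD1_c28 LD2_c16 LD3_c37)) = (LP (LK LD1_c18 LD2_c46 LD3_c60)) :=
  Lre_c IH (LK LD1_c28 LD2_c16 LD3_c37) (LK LD1_c18 LD2_c46 LD3_c60) Lrfl Lrfl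
theorem f369715 : Led Lsl_dt (LP (LK LD1_c32 LD2_c14 LD3_c59)) = (LP (LK LD1_c28 LD2_c16 LD3_c37)) :=
  Lgr Lrot32 (Lpe (f341869 IH) (Lpe (K26.f271590 IH) (Lpr_ft (f369704 IH) (Lpe (f369713 IH) (Lpe (K20.f252654 IH) (Lpr_df (K17.f252640 IH) (Lpe (K23.f278383 IH) (Lpr_df (K23.f340694 IH) (Lpe (f322909 IH) (Lpn (LP (LK LD1_c28 LD2_c16 LD3_c37))))))))))))
theorem f359668 : Led Lsl_ff (LP (LK LD1_c28 LD2_c14 LD3_c46)) = (LP (LK LD1_c18 LD2_c46 LD3_c60)) :=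
  Lgr Lrot19 (Lpr_dt (K26.f359656 IH) (Lpr_ft (K26.f278392 IH) (Lpr_dt (K23.f340700 IH) (Lpn (LP (LK LD1_c18 LD2_c46 LD3_c60))))))
theorem f359690 : Led Lsl_ft (LP (LK LD1_c28 LD2_c14 LD3_c46)) = (LP (LK LD1_c18 LD2_c46 LD3_c60)) :=
  Lgr Lrot48 (Lpr_ff (f359668 IH) (Lpn (LP (LK LD1_c18 LD2_c46 LD3_c60))))
theorem f286362 : Led Lsl_gt (LP (LK LD1_c28 LD2_c17 LD3_c32)) = (LP (LK LD1_c18 LD2_c47 LD3_c58)) :=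
  Lre_g IH (LK LD1_c28 LD2_c17 LD3_c32) (LK LD1_c18 LD2_c47 LD3_c58) Lrfl Lrfl
theorem f351302 : Led Lsl_ct (LP (LK LD1_c28 LD2_c14 LD3_c46)) = (LP (LK LD1_c28 LD2_c17 LD3_c32)) :=
  Lgr Lrot152 (Lpr_gf (K26.f343230 IH) (Lpe (K20.f322854 IH) (Lpr_gt (K25.f351269 IH) (Lpr_ct (K25.f323603 IH) (Lpe (K25.f323613 IH) (Lpr_ct (K22.f286439 IH) (Lpe (K17.f266787 IH) (Lpe (K17.f266790 IH) (Lpe (f286362 IH) (Lpn (LP (LK LD1_c28 LD2_c17 LD3_c32))))))))))))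
theorem f351305 : Led Lsl_cf (LP (LK LD1_c28 LD2_c14 LD3_c46)) = (LP (LK LD1_c28 LD2_c17 LD3_c32)) :=
  Lgr Lrot11 (Lpr_ct (f351302 IH) (Lpn (LP (LK LD1_c28 LD2_c17 LD3_c32))))
theorem f320063 : Led Lsl_ct (LP (LK LD1_c18 LD2_c46 LD3_c60)) = (LP (LK LD1_c28 LD2_c16 LD3_c37)) :=
  Lre_c IH (LK LD1_c18 LD2_c46 LD3_c60) (LK LD1_c28 LD2_c16 LD3_c37) Lrfl Lrfl
theorem f359692 : Led Lsl_ff (LP (LK LD1_c28 LD2_c17 LD3_c32)) = (LP (LK LD1_c28 LD2_c16 LD3_c37)) :=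
  Lgr Lrot23 (Lpe (f351305 IH) (Lpr_ft (f359690 IH) (Lpr_ct (f320063 IH) (Lpn (LP (LK LD1_c28 LD2_c16 LD3_c37))))))
theorem f359646 : Led Lsl_af (LP (LK LD1_c5 LD2_c15 LD3_c35)) = (LP (LK LD1_c8 LD2_c11 LD3_c18)) :=
  Lgr Lrot31 (Lpr_gf (K19.f266795 IH) (Lpr_gf (K26.f359642 IH) (Lpr_ft (K16.f252642 IH) (Lpn (LP (LK LD1_c8 LD2_c11 LD3_c18))))))
theorem f266798 : Led Lsl_dt (LP (LK LD1_c18 LD2_c46 LD3_c4)) = (LP (LK LD1_c10 LD2_c20 LD3_c25)) :=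
  Lre_d IH (LK LD1_c18 LD2_c46 LD3_c4) (LK LD1_c10 LD2_c20 LD3_c25) Lrfl Lrfl
theorem f266797 : Led Lsl_ct (LP (LK LD1_c28 LD2_c15 LD3_c50)) = (LP (LK LD1_c18 LD2_c46 LD3_c4)) :=
  Lre_c IH (LK LD1_c28 LD2_c15 LD3_c50) (LK LD1_c18 LD2_c46 LD3_c4) Lrfl Lrfl
theorem f359706 : Led Lsl_dt (LP (LK LD1_c28 LD2_c17 LD3_c32)) = (LP (LK LD1_c28 LD2_c15 LD3_c50)) :=
  Lgr Lrot140 (Lpe (f351302 IH) (Lpr_df (K26.f359666 IH) (Lpr_cf (K26.f278393 IH) (Lpe (K16.f252649 IH) (Lpr_ft (K16.f252642 IH) (Lpe (f359646 IH) (Lpe (K22.f264890 IH) (Lpe (f266798 IH) (Lpe (f266797 IH) (Lpn (LP (LK LD1_c28 LD2_c15 LD3_c50))))))))))))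
theorem f369720 : Led Lsl_ff (LP (LK LD1_c32 LD2_c14 LD3_c59)) = (LP (LK LD1_c28 LD2_c15 LD3_c50)) :=
  Lgr Lrot19 (Lpr_dt (f369715 IH) (Lpe (f359692 IH) (Lpr_dt (f359706 IH) (Lpn (LP (LK LD1_c28 LD2_c15 LD3_c50))))))
theorem f369724 : Led Lsl_ft (LP (LK LD1_c32 LD2_c14 LD3_c59)) = (LP (LK LD1_c28 LD2_c15 LD3_c50)) :=
  Lgr Lrot48 (Lpr_ff (f369720 IH) (Lpn (LP (LK LD1_c28 LD2_c15 LD3_c50))))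
theorem f369718 : Led Lsl_df (LP (LK LD1_c32 LD2_c14 LD3_c59)) = (LP (LK LD1_c28 LD2_c16 LD3_c37)) :=
  Lgr Lrot38 (Lpr_dt (f369715 IH) (Lpn (LP (LK LD1_c28 LD2_c16 LD3_c37))))
theorem f359688 : Led Lsl_ft (LP (LK LD1_c28 LD2_c17 LD3_c32)) = (LP (LK LD1_c28 LD2_c16 LD3_c37)) :=
  Lgr Lrot4 (Lpe (f351302 IH) (Lpr_ff (f359668 IH) (Lpe (f322909 IH) (Lpn (LP (LK LD1_c28 LD2_c16 LD3_c37))))))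
theorem f369726 : Led Lsl_df (LP (LK LD1_c28 LD2_c17 LD3_c32)) = (LP (LK LD1_c28 LD2_c15 LD3_c50)) :=
  Lgr Lrot78 (Lpr_ft (f359688 IH) (Lpe (f369718 IH) (Lpr_ft (f369724 IH) (Lpn (LP (LK LD1_c28 LD2_c15 LD3_c50))))))
theorem f322891 : Led Lsl_ct (LP (LK LD1_c28 LD2_c16 LD3_c45)) = (LP (LK LD1_c18 LD2_c47 LD3_c1)) :=
  Lre_c IH (LK LD1_c28 LD2_c16 LD3_c45) (LK LD1_c18 LD2_c47 LD3_c1) Lrfl Lrfl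
theorem f169556 : Led Lsl_ct (LP (LK LD1_c18 LD2_c20 LD3_c21)) = (LP (LK LD1_c27 LD2_c59 LD3_c8)) :=
  Lre_c IH (LK LD1_c18 LD2_c20 LD3_c21) (LK LD1_c27 LD2_c59 LD3_c8) Lrfl Lrfl
theorem f351271 : Led Lsl_gf (LP (LK LD1_c28 LD2_c16 LD3_c45)) = (LP (LK LD1_c27 LD2_c59 LD3_c8)) :=
  Lgr Lrot104 (Lpr_ct (f322891 IH) (Lpe (K20.f322854 IH) (Lpe (K20.f180976 IH) (Lpr_gf (K25.f351265 IH) (Lpe (K26.f333387 IH) (Lpr_gf (K22.f333436 IH) (Lpe (K17.f197086 IH) (Lpe (K23.f197077 IH) (Lpr_ct (f169556 IH) (Lpn (LP (LK LD1_c27 LD2_c59 LD3_c8))))))))))))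
theorem f169527 : Led Lsl_ct (LP (LK LD1_c6 LD2_c5 LD3_c50)) = (LP (LK LD1_c2 LD2_c59 LD3_c1)) :=
  Lre_c IH (LK LD1_c6 LD2_c5 LD3_c50) (LK LD1_c2 LD2_c59 LD3_c1) Lrfl Lrfl
theorem f317964 : Led Lsl_df (LP (LK LD1_c28 LD2_c52 LD3_c10)) = (LP (LK LD1_c27 LD2_c59 LD3_c8)) :=
  Lgr Lrot177 (Lpr_ct (K26.f317905 IH) (Lpr_af (K25.f317946 IH) (Lpe (K25.f169559 IH) (Lpr_dt (K25.f169523 IH) (Lpr_ct (f169527 IH) (Lpr_dt (K23.f169462 IH) (Lpr_ct (K17.f169554 IH) (Lpr_dt (K22.f169555 IH) (Lpr_ct (f169556 IH) (Lpn (LP (LK LD1_c27 LD2_c59 LD3_c8))))))))))))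
theorem f317780 : Led Lsl_gt (LP (LK LD1_c29 LD2_c48 LD3_c21)) = (LP (LK LD1_c20 LD2_c59 LD3_c61)) :=
  Lre_g IH (LK LD1_c29 LD2_c48 LD3_c21) (LK LD1_c20 LD2_c59 LD3_c61) Lrfl Lrfl
theorem f317989 : Led Lsl_gt (LP (LK LD1_c28 LD2_c52 LD3_c10)) = (LP (LK LD1_c29 LD2_c48 LD3_c21)) :=
  Lgr Lrot5 (Lpr_ft (K26.f317983 IH) (Lpe (K26.f317987 IH) (Lpe (f317780 IH) (Lpn (LP (LK LD1_c29 LD2_c48 LD3_c21))))))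
theorem f337590 : Led Lsl_ct (LP (LK LD1_c18 LD2_c46 LD3_c4)) = (LP (LK LD1_c28 LD2_c15 LD3_c50)) :=
  Lre_c IH (LK LD1_c18 LD2_c46 LD3_c4) (LK LD1_c28 LD2_c15 LD3_c50) Lrfl Lrfl
theorem f260432 : Led Lsl_gt (LP (LK LD1_c28 LD2_c15 LD3_c49)) = (LP (LK LD1_c18 LD2_c46 LD3_c4)) :=
  Lre_g IH (LK LD1_c28 LD2_c15 LD3_c49) (LK LD1_c18 LD2_c46 LD3_c4) Lrfl Lrfl
theorem f369748 : Led Lsl_ct (LP (LK LD1_c29 LD2_c48 LD3_c21)) = (LP (LK LD1_c28 LD2_c15 LD3_c49)) :=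
  Lgr Lrot152 (Lpe (f317989 IH) (Lpr_df (f317964 IH) (Lpe (f351271 IH) (Lpr_ct (f322891 IH) (Lpe (K26.f343230 IH) (Lpr_ct (f351302 IH) (Lpr_df (f369726 IH) (Lpe (f337590 IH) (Lpe (f260432 IH) (Lpn (LP (LK LD1_c28 LD2_c15 LD3_c49))))))))))))
theorem f369751 : Led Lsl_cf (LP (LK LD1_c29 LD2_c48 LD3_c21)) = (LP (LK LD1_c28 LD2_c15 LD3_c49)) :=
  Lgr Lrot11 (Lpr_ct (f369748 IH) (Lpn (LP (LK LD1_c28 LD2_c15 LD3_c49))))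
theorem f169553 : Led Lsl_ct (LP (LK LD1_c20 LD2_c59 LD3_c61)) = (LP (LK LD1_c11 LD2_c55 LD3_c9)) :=
  Lre_c IH (LK LD1_c20 LD2_c59 LD3_c61) (LK LD1_c11 LD2_c55 LD3_c9) Lrfl Lrfl
theorem f262927 : Led Lsl_gt (LP (LK LD1_c10 LD2_c46 LD3_c42)) = (LP (LK LD1_c5 LD2_c27 LD3_c47)) :=
  Lre_g IH (LK LD1_c10 LD2_c46 LD3_c42) (LK LD1_c5 LD2_c27 LD3_c47) Lrfl Lrfl
theorem f317779 : Led Lsl_dt (LP (LK LD1_c10 LD2_c46 LD3_c42)) = (LP (LK LD1_c19 LD2_c29 LD3_c40)) :=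
  Lre_d IH (LK LD1_c10 LD2_c46 LD3_c42) (LK LD1_c19 LD2_c29 LD3_c40) Lrfl Lrfl
theorem f369753 : Led Lsl_gt (LP (LK LD1_c19 LD2_c29 LD3_c40)) = (LP (LK LD1_c28 LD2_c15 LD3_c49)) :=
  Lgr Lrot9 (Lpe (f317779 IH) (Lpr_gt (f262927 IH) (Lpr_ct (K20.f282865 IH) (Lpr_gt (K20.f317765 IH) (Lpr_ct (K20.f169510 IH) (Lpe (K25.f169523 IH) (Lpe (f169553 IH) (Lpe (f317780 IH) (Lpr_cf (f369751 IH) (Lpn (LP (LK LD1_c28 LD2_c15 LD3_c49))))))))))))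
theorem f252655 : Led Lsl_dt (LP (LK LD1_c15 LD2_c24 LD3_c59)) = (LP (LK LD1_c25 LD2_c17 LD3_c14)) :=
  Lre_d IH (LK LD1_c15 LD2_c24 LD3_c59) (LK LD1_c25 LD2_c17 LD3_c14) Lrfl Lrfl
theorem f252656 : Led Lsl_ct (LP (LK LD1_c25 LD2_c17 LD3_c14)) = (LP (LK LD1_c31 LD2_c50 LD3_c11)) :=
  Lre_c IH (LK LD1_c25 LD2_c17 LD3_c14) (LK LD1_c31 LD2_c50 LD3_c11) Lrfl Lrfl
theorem f369728 : Led Lsl_af (LP (LK LD1_c31 LD2_c50 LD3_c11)) = (LP (LK LD1_c28 LD2_c15 LD3_c50)) :=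
  Lgr Lrot109 (Lpe (f252656 IH) (Lpe (f252655 IH) (Lpe (K20.f252654 IH) (Lpr_df (K17.f252640 IH) (Lpe (K23.f278383 IH) (Lpr_df (K23.f340694 IH) (Lpe (f322909 IH) (Lpe (f369715 IH) (Lpr_ft (f369724 IH) (Lpn (LP (LK LD1_c28 LD2_c15 LD3_c50))))))))))))
theorem f252639 : Led Lsl_ct (LP (LK LD1_c31 LD2_c50 LD3_c11)) = (LP (LK LD1_c25 LD2_c17 LD3_c14)) :=
  Lre_c IH (LK LD1_c31 LD2_c50 LD3_c11) (LK LD1_c25 LD2_c17 LD3_c14) Lrfl Lrfl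
theorem f369732 : Led Lsl_at (LP (LK LD1_c25 LD2_c17 LD3_c14)) = (LP (LK LD1_c18 LD2_c46 LD3_c4)) :=
  Lgr Lrot107 (Lpe (f252639 IH) (Lpr_af (f369728 IH) (Lpe (f337590 IH) (Lpn (LP (LK LD1_c18 LD2_c46 LD3_c4))))))
theorem f369755 : Led Lsl_ft (LP (LK LD1_c19 LD2_c29 LD3_c40)) = (LP (LK LD1_c25 LD2_c17 LD3_c14)) :=
  Lgr Lrot2 (Lpr_gt (f369753 IH) (Lpr_gt (f260432 IH) (Lpe (f369732 IH) (Lpn (LP (LK LD1_c25 LD2_c17 LD3_c14))))))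
theorem f317781 : Led Lsl_dt (LP (LK LD1_c19 LD2_c29 LD3_c40)) = (LP (LK LD1_c10 LD2_c46 LD3_c42)) :=
  Lre_d IH (LK LD1_c19 LD2_c29 LD3_c40) (LK LD1_c10 LD2_c46 LD3_c42) Lrfl Lrfl
theorem f369765 : Led Lsl_ct (LP (LK LD1_c10 LD2_c46 LD3_c42)) = (LP (LK LD1_c15 LD2_c24 LD3_c61)) :=
  Lgr Lrot133 (Lpe (f317781 IH) (Lpr_ft (f369755 IH) (Lpr_at (f369732 IH) (Lpe (f266797 IH) (Lpe (f359706 IH) (Lpe (f351302 IH) (Lpr_df (K26.f359666 IH) (Lpr_cf (K26.f278393 IH) (Lpe (K16.f252649 IH) (Lpn (LP (LK LD1_c15 LD2_c24 LD3_c61))))))))))))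
theorem f169530 : Led Lsl_ct (LP (LK LD1_c10 LD2_c2 LD3_c9)) = (LP (LK LD1_c18 LD2_c20 LD3_c23)) :=
  Lre_c IH (LK LD1_c10 LD2_c2 LD3_c9) (LK LD1_c18 LD2_c20 LD3_c23) Lrfl Lrfl
theorem f359710 : Led Lsl_gt (LP (LK LD1_c18 LD2_c20 LD3_c23)) = (LP (LK LD1_c18 LD2_c53 LD3_c15)) :=
  Lgr Lrot94 (Lpe (f169530 IH) (Lpe (K23.f282684 IH) (Lpe (K26.f317868 IH) (Lpr_gt (K20.f303369 IH) (Lpr_dt (K20.f317697 IH) (Lpe (K14.f214805 IH) (Lpe (K20.f214811 IH) (Lpe (K26.f214812 IH) (Lpr_df (K26.f359666 IH) (Lpn (LP (LK LD1_c18 LD2_c53 LD3_c15))))))))))))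
theorem f369773 : Led Lsl_gf (LP (LK LD1_c10 LD2_c46 LD3_c42)) = (LP (LK LD1_c11 LD2_c55 LD3_c11)) :=
  Lgr Lrot104 (Lpr_ct (f369765 IH) (Lpr_df (K16.f252644 IH) (Lpe (K26.f278396 IH) (Lpe (f359710 IH) (Lpe (f169530 IH) (Lpe (K23.f169529 IH) (Lpe (K23.f169462 IH) (Lpr_gt (K20.f169526 IH) (Lpr_ct (K21.f169528 IH) (Lpn (LP (LK LD1_c11 LD2_c55 LD3_c11))))))))))))
theorem f351297 : Led Lsl_ct (LP (LK LD1_c19 LD2_c29 LD3_c40)) = (LP (LK LD1_c28 LD2_c52 LD3_c0)) :=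
  Lre_c IH (LK LD1_c19 LD2_c29 LD3_c40) (LK LD1_c28 LD2_c52 LD3_c0) Lrfl Lrfl
theorem f284592 : Led Lsl_gt (LP (LK LD1_c10 LD2_c46 LD3_c43)) = (LP (LK LD1_c19 LD2_c29 LD3_c41)) :=
  Lre_g IH (LK LD1_c10 LD2_c46 LD3_c43) (LK LD1_c19 LD2_c29 LD3_c41) Lrfl Lrfl
theorem f317813 : Led Lsl_gt (LP (LK LD1_c19 LD2_c29 LD3_c41)) = (LP (LK LD1_c21 LD2_c0 LD3_c2)) :=
  Lgr Lrot46 (Lpe (f284592 IH) (Lpr_ft (K21.f317707 IH) (Lpr_at (K21.f317798 IH) (Lpn (LP (LK LD1_c21 LD2_c0 LD3_c2))))))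
theorem f317816 : Led Lsl_ct (LP (LK LD1_c28 LD2_c52 LD3_c3)) = (LP (LK LD1_c19 LD2_c29 LD3_c41)) :=
  Lre_c IH (LK LD1_c28 LD2_c52 LD3_c3) (LK LD1_c19 LD2_c29 LD3_c41) Lrfl Lrfl
theorem f317815 : Led Lsl_ct (LP (LK LD1_c19 LD2_c29 LD3_c41)) = (LP (LK LD1_c28 LD2_c52 LD3_c3)) :=
  Lre_c IH (LK LD1_c19 LD2_c29 LD3_c41) (LK LD1_c28 LD2_c52 LD3_c3) Lrfl Lrfl
theorem f337591 : Led Lsl_gt (LP (LK LD1_c28 LD2_c52 LD3_c3)) = (LP (LK LD1_c28 LD2_c17 LD3_c34)) :=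
  Lgr Lrot150 (Lpe (f317815 IH) (Lpe (f284592 IH) (Lpe (K20.f282849 IH) (Lpr_gt (K22.f337575 IH) (Lpr_ct (K22.f264890 IH) (Lpr_gt (K17.f49915 IH) (Lpr_ct (K17.f286248 IH) (Lpe (K17.f261546 IH) (Lpr_cf (K22.f286350 IH) (Lpn (LP (LK LD1_c28 LD2_c17 LD3_c34))))))))))))
theorem f319999 : Led Lsl_gt (LP (LK LD1_c18 LD2_c47 LD3_c58)) = (LP (LK LD1_c28 LD2_c17 LD3_c31)) :=
  Lre_g IH (LK LD1_c18 LD2_c47 LD3_c58) (LK LD1_c28 LD2_c17 LD3_c31) Lrfl Lrfl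
theorem f369781 : Led Lsl_df (LP (LK LD1_c28 LD2_c52 LD3_c0)) = (LP (LK LD1_c28 LD2_c17 LD3_c31)) :=
  Lgr Lrot84 (Lpe (f351297 IH) (Lpe (f317779 IH) (Lpr_gf (f369773 IH) (Lpe (K20.f261490 IH) (Lpe (f317813 IH) (Lpe (f317816 IH) (Lpr_gt (f337591 IH) (Lpr_dt (K17.f266791 IH) (Lpr_gt (f319999 IH) (Lpn (LP (LK LD1_c28 LD2_c17 LD3_c31))))))))))))
theorem f359696 : Led Lsl_af (LP (LK LD1_c28 LD2_c17 LD3_c31)) = (LP (LK LD1_c28 LD2_c16 LD3_c37)) :=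
  Lgr Lrot31 (Lpe (f319999 IH) (Lpe (f286362 IH) (Lpr_ft (f359688 IH) (Lpn (LP (LK LD1_c28 LD2_c16 LD3_c37))))))
theorem f369784 : Led Lsl_at (LP (LK LD1_c28 LD2_c52 LD3_c0)) = (LP (LK LD1_c32 LD2_c14 LD3_c59)) :=
  Lgr Lrot51 (Lpr_df (f369781 IH) (Lpr_af (f359696 IH) (Lpe (f369715 IH) (Lpn (LP (LK LD1_c32 LD2_c14 LD3_c59))))))
theorem f351298 : Led Lsl_ct (LP (LK LD1_c28 LD2_c52 LD3_c0)) = (LP (LK LD1_c19 LD2_c29 LD3_c40)) :=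
  Lre_c IH (LK LD1_c28 LD2_c52 LD3_c0) (LK LD1_c19 LD2_c29 LD3_c40) Lrfl Lrfl
theorem f369759 : Led Lsl_ff (LP (LK LD1_c28 LD2_c52 LD3_c0)) = (LP (LK LD1_c31 LD2_c50 LD3_c11)) :=
  Lgr Lrot23 (Lpr_ct (f351298 IH) (Lpr_ft (f369755 IH) (Lpr_ct (f252656 IH) (Lpn (LP (LK LD1_c31 LD2_c50 LD3_c11))))))
theorem f261506 : Led Lsl_gt (LP (LK LD1_c10 LD2_c53 LD3_c32)) = (LP (LK LD1_c5 LD2_c31 LD3_c0)) :=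
  Lre_g IH (LK LD1_c10 LD2_c53 LD3_c32) (LK LD1_c5 LD2_c31 LD3_c0) Lrfl Lrfl
theorem f363982 : Led Lsl_cf (LP (LK LD1_c10 LD2_c53 LD3_c32)) = (LP (LK LD1_c15 LD2_c51 LD3_c0)) :=
  Lgr Lrot125 (Lpr_gt (f261506 IH) (Lpe (K20.f261610 IH) (Lpe (K15.f261606 IH) (Lpr_gt (K23.f236243 IH) (Lpe (K25.f353775 IH) (Lpr_ct (K25.f353744 IH) (Lpr_gt (K26.f363975 IH) (Lpe (K26.f201152 IH) (Lpe (K26.f201150 IH) (Lpe (K26.f363973 IH) (Lpn (LP (LK LD1_c15 LD2_c51 LD3_c0)))))))))))))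
theorem f261515 : Led Lsl_et (LP (LK LD1_c10 LD2_c53 LD3_c32)) = (LP (LK LD1_c19 LD2_c41 LD3_c5)) :=
  Lre_e IH (LK LD1_c10 LD2_c53 LD3_c32) (LK LD1_c19 LD2_c41 LD3_c5) Lrfl Lrfl
theorem f286296 : Led Lsl_et (LP (LK LD1_c25 LD2_c46 LD3_c54)) = (LP (LK LD1_c15 LD2_c51 LD3_c0)) :=
  Lre_e IH (LK LD1_c25 LD2_c46 LD3_c54) (LK LD1_c15 LD2_c51 LD3_c0) Lrfl Lrfl
theorem f363986 : Led Lsl_ct (LP (LK LD1_c19 LD2_c41 LD3_c5)) = (LP (LK LD1_c25 LD2_c46 LD3_c54)) :=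
  Lgr Lrot15 (Lpe (f261515 IH) (Lpr_cf (f363982 IH) (Lpe (f286296 IH) (Lpn (LP (LK LD1_c25 LD2_c46 LD3_c54))))))
theorem f169511 : Led Lsl_dt (LP (LK LD1_c6 LD2_c5 LD3_c50)) = (LP (LK LD1_c11 LD2_c55 LD3_c9)) :=
  Lre_d IH (LK LD1_c6 LD2_c5 LD3_c50) (LK LD1_c11 LD2_c55 LD3_c9) Lrfl Lrfl
theorem f261487 : Led Lsl_gt (LP (LK LD1_c11 LD2_c55 LD3_c9)) = (LP (LK LD1_c20 LD2_c59 LD3_c59)) :=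
  Lre_g IH (LK LD1_c11 LD2_c55 LD3_c9) (LK LD1_c20 LD2_c59 LD3_c59) Lrfl Lrfl
theorem f221320 : Led Lsl_et (LP (LK LD1_c2 LD2_c41 LD3_c46)) = (LP (LK LD1_c5 LD2_c31 LD3_c0)) :=
  Lre_e IH (LK LD1_c2 LD2_c41 LD3_c46) (LK LD1_c5 LD2_c31 LD3_c0) Lrfl Lrfl
theorem f261507 : Led Lsl_et (LP (LK LD1_c19 LD2_c41 LD3_c5)) = (LP (LK LD1_c10 LD2_c53 LD3_c32)) :=
  Lre_e IH (LK LD1_c19 LD2_c41 LD3_c5) (LK LD1_c10 LD2_c53 LD3_c32) Lrfl Lrfl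
theorem f261508 : Led Lsl_df (LP (LK LD1_c20 LD2_c59 LD3_c59)) = (LP (LK LD1_c19 LD2_c41 LD3_c5)) :=
  Lgr Lrot132 (Lpe (f261487 IH) (Lpe (f169511 IH) (Lpr_gf (K17.f261481 IH) (Lpe (K17.f261480 IH) (Lpr_dt (K16.f243635 IH) (Lpr_gf (K16.f261472 IH) (Lpe (K16.f221316 IH) (Lpr_et (f221320 IH) (Lpe (f261506 IH) (Lpe (f261507 IH) (Lpn (LP (LK LD1_c19 LD2_c41 LD3_c5)))))))))))))
theorem f261513 : Led Lsl_dt (LP (LK LD1_c20 LD2_c59 LD3_c59)) = (LP (LK LD1_c19 LD2_c41 LD3_c5)) :=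
  Lgr Lrot42 (Lpr_df (f261508 IH) (Lpn (LP (LK LD1_c19 LD2_c41 LD3_c5))))
theorem f363992 : Led Lsl_dt (LP (LK LD1_c18 LD2_c4 LD3_c15)) = (LP (LK LD1_c25 LD2_c46 LD3_c54)) :=
  Lgr Lrot113 (Lpe (K25.f252635 IH) (Lpe (K16.f252631 IH) (Lpr_gf (K17.f286292 IH) (Lpr_ct (K20.f243742 IH) (Lpe (K17.f261481 IH) (Lpr_dt (f169511 IH) (Lpr_gt (f261487 IH) (Lpr_dt (f261513 IH) (Lpr_ct (f363986 IH) (Lpn (LP (LK LD1_c25 LD2_c46 LD3_c54))))))))))))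
theorem f301145 : Led Lsl_et (LP (LK LD1_c15 LD2_c50 LD3_c44)) = (LP (LK LD1_c15 LD2_c30 LD3_c61)) :=
  Lgr Lrot87 (Lpr_ef (K26.f301143 IH) (Lpn (LP (LK LD1_c15 LD2_c30 LD3_c61))))
theorem f266786 : Led Lsl_dt (LP (LK LD1_c15 LD2_c50 LD3_c44)) = (LP (LK LD1_c25 LD2_c46 LD3_c46)) :=
  Lre_d IH (LK LD1_c15 LD2_c50 LD3_c44) (LK LD1_c25 LD2_c46 LD3_c46) Lrfl Lrfl
theorem f363994 : Led Lsl_gf (LP (LK LD1_c25 LD2_c46 LD3_c46)) = (LP (LK LD1_c25 LD2_c46 LD3_c54)) :=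
  Lgr Lrot134 (Lpe (f266786 IH) (Lpr_et (f301145 IH) (Lpr_gt (K26.f191557 IH) (Lpe (K22.f191521 IH) (Lpr_dt (K10.f191719 IH) (Lpr_gt (K17.f266481 IH) (Lpr_df (K15.f252582 IH) (Lpr_et (K23.f252633 IH) (Lpr_gt (K25.f252635 IH) (Lpr_dt (f363992 IH) (Lpn (LP (LK LD1_c25 LD2_c46 LD3_c54)))))))))))))
theorem f49824 : Led Lsl_et (LP (LK LD1_c8 LD2_c15 LD3_c55)) = (LP (LK LD1_c4 LD2_c7 LD3_c57)) :=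
  Lre_e IH (LK LD1_c8 LD2_c15 LD3_c55) (LK LD1_c4 LD2_c7 LD3_c57) Lrfl Lrfl
theorem f53468 : Led Lsl_gt (LP (LK LD1_c15 LD2_c32 LD3_c19)) = (LP (LK LD1_c8 LD2_c15 LD3_c55)) :=
  Lre_g IH (LK LD1_c15 LD2_c32 LD3_c19) (LK LD1_c8 LD2_c15 LD3_c55) Lrfl Lrfl
theorem f53469 : Led Lsl_dt (LP (LK LD1_c25 LD2_c25 LD3_c41)) = (LP (LK LD1_c15 LD2_c32 LD3_c19)) :=
  Lre_d IH (LK LD1_c25 LD2_c25 LD3_c41) (LK LD1_c15 LD2_c32 LD3_c19) Lrfl Lrfl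
theorem f341893 : Led Lsl_gf (LP (LK LD1_c25 LD2_c25 LD3_c41)) = (LP (LK LD1_c18 LD2_c9 LD3_c53)) :=
  Lgr Lrot138 (Lpr_dt (f53469 IH) (Lpr_gt (f53468 IH) (Lpe (K14.f50037 IH) (Lpr_et (f49824 IH) (Lpe (K10.f53602 IH) (Lpe (K10.f45013 IH) (Lpr_dt (K10.f191685 IH) (Lpr_gt (K24.f191696 IH) (Lpr_df (K24.f341776 IH) (Lpr_et (K24.f307349 IH) (Lpn (LP (LK LD1_c18 LD2_c9 LD3_c53)))))))))))))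
theorem f363996 : Led Lsl_et (LP (LK LD1_c18 LD2_c4 LD3_c15)) = (LP (LK LD1_c25 LD2_c25 LD3_c41)) :=
  Lgr Lrot122 (Lpr_dt (f363992 IH) (Lpe (f363994 IH) (Lpe (f266786 IH) (Lpr_et (f301145 IH) (Lpr_gt (K26.f191557 IH) (Lpr_dt (K10.f191685 IH) (Lpr_gt (K24.f191696 IH) (Lpr_df (K24.f341776 IH) (Lpr_et (K24.f307349 IH) (Lpe (f341893 IH) (Lpn (LP (LK LD1_c25 LD2_c25 LD3_c41)))))))))))))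
theorem f190912 : Led Lsl_et (LP (LK LD1_c10 LD2_c7 LD3_c25)) = (LP (LK LD1_c18 LD2_c26 LD3_c27)) :=
  Lre_e IH (LK LD1_c10 LD2_c7 LD3_c25) (LK LD1_c18 LD2_c26 LD3_c27) Lrfl Lrfl
theorem f219960 : Led Lsl_dt (LP (LK LD1_c9 LD2_c52 LD3_c25)) = (LP (LK LD1_c15 LD2_c15 LD3_c3)) :=
  Lgr Lrot42 (Lpr_df (K22.f219958 IH) (Lpn (LP (LK LD1_c15 LD2_c15 LD3_c3))))
theorem f170514 : Led Lsl_et (LP (LK LD1_c18 LD2_c4 LD3_c25)) = (LP (LK LD1_c9 LD2_c52 LD3_c25)) :=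
  Lre_e IH (LK LD1_c18 LD2_c4 LD3_c25) (LK LD1_c9 LD2_c52 LD3_c25) Lrfl Lrfl
theorem f219969 : Led Lsl_dt (LP (LK LD1_c18 LD2_c26 LD3_c27)) = (LP (LK LD1_c18 LD2_c4 LD3_c25)) :=
  Lgr Lrot77 (Lpe (f190912 IH) (Lpr_df (K26.f190908 IH) (Lpr_ef (K22.f219967 IH) (Lpe (f219960 IH) (Lpe (f170514 IH) (Lpn (LP (LK LD1_c18 LD2_c4 LD3_c25))))))))
theorem f33268 : Led Lsl_et (LP (LK LD1_c18 LD2_c26 LD3_c27)) = (LP (LK LD1_c10 LD2_c7 LD3_c25)) :=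
  Lre_e IH (LK LD1_c18 LD2_c26 LD3_c27) (LK LD1_c10 LD2_c7 LD3_c25) Lrfl Lrfl
theorem f49825 : Led Lsl_at (LP (LK LD1_c8 LD2_c15 LD3_c10)) = (LP (LK LD1_c8 LD2_c15 LD3_c55)) :=
  Lgr Lrot100 (Lpr_af (K9.f49817 IH) (Lpn (LP (LK LD1_c8 LD2_c15 LD3_c55))))
theorem f53470 : Led Lsl_gt (LP (LK LD1_c8 LD2_c26 LD3_c14)) = (LP (LK LD1_c15 LD2_c32 LD3_c19)) :=
  Lgr Lrot5 (Lpe (K9.f44986 IH) (Lpr_at (f49825 IH) (Lpe (f53468 IH) (Lpn (LP (LK LD1_c15 LD2_c32 LD3_c19))))))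
theorem f53472 : Led Lsl_dt (LP (LK LD1_c15 LD2_c32 LD3_c19)) = (LP (LK LD1_c25 LD2_c25 LD3_c41)) :=
  Lre_d IH (LK LD1_c15 LD2_c32 LD3_c19) (LK LD1_c25 LD2_c25 LD3_c41) Lrfl Lrfl
theorem f219971 : Led Lsl_gt (LP (LK LD1_c25 LD2_c25 LD3_c41)) = (LP (LK LD1_c18 LD2_c4 LD3_c25)) :=
  Lgr Lrot139 (Lpe (f53472 IH) (Lpe (f53470 IH) (Lpe (K9.f44985 IH) (Lpr_dt (K9.f49443 IH) (Lpe (K10.f190897 IH) (Lpe (K12.f33250 IH) (Lpr_et (K15.f33267 IH) (Lpe (K21.f33259 IH) (Lpe (f33268 IH) (Lpr_dt (f219969 IH) (Lpn (LP (LK LD1_c18 LD2_c4 LD3_c25)))))))))))))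
theorem f219962 : Led Lsl_et (LP (LK LD1_c9 LD2_c52 LD3_c25)) = (LP (LK LD1_c18 LD2_c4 LD3_c25)) :=
  Lre_e IH (LK LD1_c9 LD2_c52 LD3_c25) (LK LD1_c18 LD2_c4 LD3_c25) Lrfl Lrfl
theorem f289887 : Led Lsl_gf (LP (LK LD1_c9 LD2_c55 LD3_c16)) = (LP (LK LD1_c17 LD2_c45 LD3_c57)) :=
  Lgr Lrot76 (Lpr_af (K17.f289873 IH) (Lpe (K17.f289884 IH) (Lpr_gt (K14.f189459 IH) (Lpn (LP (LK LD1_c17 LD2_c45 LD3_c57))))))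
theorem f331406 : Led Lsl_ct (LP (LK LD1_c10 LD2_c15 LD3_c1)) = (LP (LK LD1_c17 LD2_c45 LD3_c57)) :=
  Lgr Lrot91 (Lpr_gf (K22.f331391 IH) (Lpe (K22.f193011 IH) (Lpr_ct (K22.f193013 IH) (Lpe (K21.f327641 IH) (Lpe (K21.f33263 IH) (Lpr_bt (K21.f327647 IH) (Lpe (K23.f300125 IH) (Lpe (K19.f289861 IH) (Lpr_ct (K17.f289862 IH) (Lpr_gf (f289887 IH) (Lpn (LP (LK LD1_c17 LD2_c45 LD3_c57)))))))))))))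
theorem f249149 : Led Lsl_bt (LP (LK LD1_c10 LD2_c15 LD3_c1)) = (LP (LK LD1_c5 LD2_c12 LD3_c6)) :=
  Lre_b IH (LK LD1_c10 LD2_c15 LD3_c1) (LK LD1_c5 LD2_c12 LD3_c6) Lrfl Lrfl
theorem f325414 : Led Lsl_gf (LP (LK LD1_c5 LD2_c19 LD3_c20)) = (LP (LK LD1_c5 LD2_c12 LD3_c6)) :=
  Lgr Lrot141 (Lpe (K18.f300488 IH) (Lpr_dt (K21.f249265 IH) (Lpr_gt (K21.f302793 IH) (Lpr_df (K21.f255887 IH) (Lpr_et (K21.f255886 IH) (Lpr_gt (K21.f325412 IH) (Lpe (K23.f169349 IH) (Lpr_gt (K21.f169370 IH) (Lpr_df (K21.f249120 IH) (Lpe (K22.f249164 IH) (Lpn (LP (LK LD1_c5 LD2_c12 LD3_c6)))))))))))))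
theorem f361132 : Led Lsl_gf (LP (LK LD1_c10 LD2_c1 LD3_c61)) = (LP (LK LD1_c16 LD2_c34 LD3_c55)) :=
  Lgr Lrot126 (Lpr_cf (K26.f361114 IH) (Lpr_bt (K26.f304580 IH) (Lpr_gt (K19.f304576 IH) (Lpr_ct (K26.f189462 IH) (Lpr_gt (K14.f189459 IH) (Lpe (f331406 IH) (Lpr_bt (f249149 IH) (Lpe (f325414 IH) (Lpe (K23.f230457 IH) (Lpr_ct (K25.f230465 IH) (Lpn (LP (LK LD1_c16 LD2_c34 LD3_c55)))))))))))))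
theorem f278607 : Led Lsl_bt (LP (LK LD1_c5 LD2_c9 LD3_c30)) = (LP (LK LD1_c4 LD2_c54 LD3_c6)) :=
  Lgr Lrot119 (Lpe (K19.f278606 IH) (Lpr_bf (K16.f278561 IH) (Lpe (K17.f248040 IH) (Lpn (LP (LK LD1_c4 LD2_c54 LD3_c6))))))
theorem f249188 : Led Lsl_ct (LP (LK LD1_c10 LD2_c2 LD3_c2)) = (LP (LK LD1_c18 LD2_c20 LD3_c10)) :=
  Lre_c IH (LK LD1_c10 LD2_c2 LD3_c2) (LK LD1_c18 LD2_c20 LD3_c10) Lrfl Lrfl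
theorem f361135 : Led Lsl_gt (LP (LK LD1_c10 LD2_c9 LD3_c42)) = (LP (LK LD1_c18 LD2_c20 LD3_c10)) :=
  Lgr Lrot65 (Lpe (K18.f300065 IH) (Lpr_bt (f278607 IH) (Lpe (K19.f304576 IH) (Lpe (K26.f304580 IH) (Lpe (K26.f361114 IH) (Lpr_gf (f361132 IH) (Lpe (K25.f230465 IH) (Lpe (K21.f316498 IH) (Lpe (K26.f249167 IH) (Lpr_ct (f249188 IH) (Lpn (LP (LK LD1_c18 LD2_c20 LD3_c10)))))))))))))
theorem f300107 : Led Lsl_ft (LP (LK LD1_c10 LD2_c9 LD3_c42)) = (LP (LK LD1_c18 LD2_c30 LD3_c44)) :=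
  Lre_f IH (LK LD1_c10 LD2_c9 LD3_c42) (LK LD1_c18 LD2_c30 LD3_c44) Lrfl Lrfl
theorem f300099 : Led Lsl_at (LP (LK LD1_c18 LD2_c30 LD3_c44)) = (LP (LK LD1_c10 LD2_c10 LD3_c12)) :=
  Lre_a IH (LK LD1_c18 LD2_c30 LD3_c44) (LK LD1_c10 LD2_c10 LD3_c12) Lrfl Lrfl
theorem f361137 : Led Lsl_gf (LP (LK LD1_c10 LD2_c10 LD3_c12)) = (LP (LK LD1_c18 LD2_c20 LD3_c10)) :=
  Lgr Lrot76 (Lpe (f300099 IH) (Lpe (f300107 IH) (Lpr_gt (f361135 IH) (Lpn (LP (LK LD1_c18 LD2_c20 LD3_c10))))))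
theorem f300108 : Led Lsl_ct (LP (LK LD1_c5 LD2_c9 LD3_c45)) = (LP (LK LD1_c10 LD2_c10 LD3_c12)) :=
  Lre_c IH (LK LD1_c5 LD2_c9 LD3_c45) (LK LD1_c10 LD2_c10 LD3_c12) Lrfl Lrfl
theorem f166596 : Led Lsl_ct (LP (LK LD1_c2 LD2_c28 LD3_c55)) = (LP (LK LD1_c5 LD2_c2 LD3_c44)) :=
  Lre_c IH (LK LD1_c2 LD2_c28 LD3_c55) (LK LD1_c5 LD2_c2 LD3_c44) Lrfl Lrfl
theorem f167493 : Led Lsl_bt (LP (LK LD1_c1 LD2_c12 LD3_c3)) = (LP (LK LD1_c2 LD2_c29 LD3_c60)) :=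
  Lre_b IH (LK LD1_c1 LD2_c12 LD3_c3) (LK LD1_c2 LD2_c29 LD3_c60) Lrfl Lrfl
theorem f167538 : Led Lsl_ct (LP (LK LD1_c1 LD2_c12 LD3_c3)) = (LP (LK LD1_c2 LD2_c30 LD3_c5)) :=
  Lre_c IH (LK LD1_c1 LD2_c12 LD3_c3) (LK LD1_c2 LD2_c30 LD3_c5) Lrfl Lrfl
theorem f361160 : Led Lsl_gt (LP (LK LD1_c5 LD2_c2 LD3_c44)) = (LP (LK LD1_c2 LD2_c30 LD3_c5)) :=
  Lgr Lrot149 (Lpe (f166596 IH) (Lpr_gf (K19.f300207 IH) (Lpe (K19.f288303 IH) (Lpr_ct (f300108 IH) (Lpr_gf (f361137 IH) (Lpe (f249188 IH) (Lpr_bt (K26.f249167 IH) (Lpe (K21.f167518 IH) (Lpe (f167493 IH) (Lpr_ct (f167538 IH) (Lpn (LP (LK LD1_c2 LD2_c30 LD3_c5)))))))))))))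
theorem f302258 : Led Lsl_at (LP (LK LD1_c10 LD2_c15 LD3_c16)) = (LP (LK LD1_c5 LD2_c12 LD3_c19)) :=
  Lre_a IH (LK LD1_c10 LD2_c15 LD3_c16) (LK LD1_c5 LD2_c12 LD3_c19) Lrfl Lrfl
theorem f302259 : Led Lsl_bt (LP (LK LD1_c5 LD2_c12 LD3_c19)) = (LP (LK LD1_c2 LD2_c32 LD3_c59)) :=
  Lre_b IH (LK LD1_c5 LD2_c12 LD3_c19) (LK LD1_c2 LD2_c32 LD3_c59) Lrfl Lrfl
theorem f302260 : Led Lsl_at (LP (LK LD1_c5 LD2_c5 LD3_c43)) = (LP (LK LD1_c10 LD2_c2 LD3_c30)) :=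
  Lre_a IH (LK LD1_c5 LD2_c5 LD3_c43) (LK LD1_c10 LD2_c2 LD3_c30) Lrfl Lrfl
theorem f167543 : Led Lsl_bt (LP (LK LD1_c2 LD2_c30 LD3_c5)) = (LP (LK LD1_c5 LD2_c5 LD3_c43)) :=
  Lre_b IH (LK LD1_c2 LD2_c30 LD3_c5) (LK LD1_c5 LD2_c5 LD3_c43) Lrfl Lrfl
theorem f302261 : Led Lsl_at (LP (LK LD1_c2 LD2_c32 LD3_c59)) = (LP (LK LD1_c2 LD2_c30 LD3_c5)) :=
  Lgr Lrot67 (Lpe (f302259 IH) (Lpe (f302258 IH) (Lpr_bf (K18.f302256 IH) (Lpe (f302260 IH) (Lpe (f167543 IH) (Lpn (LP (LK LD1_c2 LD2_c30 LD3_c5))))))))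
theorem f304406 : Led Lsl_ft (LP (LK LD1_c5 LD2_c12 LD3_c21)) = (LP (LK LD1_c2 LD2_c32 LD3_c59)) :=
  Lre_f IH (LK LD1_c5 LD2_c12 LD3_c21) (LK LD1_c2 LD2_c32 LD3_c59) Lrfl Lrfl
theorem f361165 : Led Lsl_gf (LP (LK LD1_c5 LD2_c2 LD3_c44)) = (LP (LK LD1_c5 LD2_c12 LD3_c21)) :=
  Lgr Lrot47 (Lpr_gt (f361160 IH) (Lpe (f302261 IH) (Lpe (f304406 IH) (Lpn (LP (LK LD1_c5 LD2_c12 LD3_c21))))))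
theorem f166597 : Led Lsl_ct (LP (LK LD1_c5 LD2_c2 LD3_c44)) = (LP (LK LD1_c2 LD2_c28 LD3_c55)) :=
  Lre_c IH (LK LD1_c5 LD2_c2 LD3_c44) (LK LD1_c2 LD2_c28 LD3_c55) Lrfl Lrfl
theorem f200342 : Led Lsl_ct (LP (LK LD1_c2 LD2_c33 LD3_c0)) = (LP (LK LD1_c5 LD2_c12 LD3_c21)) :=
  Lre_c IH (LK LD1_c2 LD2_c33 LD3_c0) (LK LD1_c5 LD2_c12 LD3_c21) Lrfl Lrfl
theorem f167554 : Led Lsl_ct (LP (LK LD1_c0 LD2_c58 LD3_c8)) = (LP (LK LD1_c2 LD2_c2 LD3_c29)) :=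
  Lre_c IH (LK LD1_c0 LD2_c58 LD3_c8) (LK LD1_c2 LD2_c2 LD3_c29) Lrfl Lrfl
theorem f167555 : Led Lsl_gt (LP (LK LD1_c2 LD2_c2 LD3_c29)) = (LP (LK LD1_c4 LD2_c10 LD3_c31)) :=
  Lre_g IH (LK LD1_c2 LD2_c2 LD3_c29) (LK LD1_c4 LD2_c10 LD3_c31) Lrfl Lrfl
theorem f361175 : Led Lsl_cf (LP (LK LD1_c2 LD2_c6 LD3_c50)) = (LP (LK LD1_c4 LD2_c10 LD3_c31)) :=
  Lgr Lrot99 (Lpr_df (K19.f171718 IH) (Lpe (f166597 IH) (Lpr_gf (f361165 IH) (Lpe (f200342 IH) (Lpe (K22.f333355 IH) (Lpe (K20.f178564 IH) (Lpr_gt (K20.f53448 IH) (Lpr_ct (f167554 IH) (Lpr_gt (f167555 IH) (Lpn (LP (LK LD1_c4 LD2_c10 LD3_c31))))))))))))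
theorem f361186 : Led Lsl_ct (LP (LK LD1_c2 LD2_c6 LD3_c50)) = (LP (LK LD1_c4 LD2_c10 LD3_c31)) :=
  Lgr Lrot59 (Lpr_cf (f361175 IH) (Lpn (LP (LK LD1_c4 LD2_c10 LD3_c31))))
theorem f171730 : Led Lsl_bt (LP (LK LD1_c2 LD2_c6 LD3_c50)) = (LP (LK LD1_c4 LD2_c19 LD3_c1)) :=
  Lre_b IH (LK LD1_c2 LD2_c6 LD3_c50) (LK LD1_c4 LD2_c19 LD3_c1) Lrfl Lrfl
theorem f287076 : Led Lsl_ef (LP (LK LD1_c4 LD2_c22 LD3_c25)) = (LP (LK LD1_c4 LD2_c56 LD3_c50)) :=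
  Lgr Lrot88 (Lpr_et (K17.f287070 IH) (Lpn (LP (LK LD1_c4 LD2_c56 LD3_c50))))
theorem f327710 : Led Lsl_gf (LP (LK LD1_c4 LD2_c22 LD3_c25)) = (LP (LK LD1_c4 LD2_c19 LD3_c1)) :=
  Lgr Lrot141 (Lpr_ef (f287076 IH) (Lpe (K14.f247253 IH) (Lpe (K18.f297981 IH) (Lpe (K19.f200456 IH) (Lpr_et (K21.f313440 IH) (Lpe (K21.f280225 IH) (Lpe (K21.f279362 IH) (Lpr_gt (K22.f279392 IH) (Lpr_df (K21.f327653 IH) (Lpe (K23.f171726 IH) (Lpn (LP (LK LD1_c4 LD2_c19 LD3_c1)))))))))))))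
theorem f325914 : Led Lsl_bt (LP (LK LD1_c7 LD2_c55 LD3_c36)) = (LP (LK LD1_c4 LD2_c10 LD3_c21)) :=
  Lgr Lrot95 (Lpe (K21.f229694 IH) (Lpr_bf (K21.f325910 IH) (Lpr_df (K21.f182223 IH) (Lpn (LP (LK LD1_c4 LD2_c10 LD3_c21))))))
theorem f229696 : Led Lsl_ct (LP (LK LD1_c7 LD2_c55 LD3_c36)) = (LP (LK LD1_c14 LD2_c57 LD3_c15)) :=
  Lre_c IH (LK LD1_c7 LD2_c55 LD3_c36) (LK LD1_c14 LD2_c57 LD3_c15) Lrfl Lrfl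
theorem f361193 : Led Lsl_gt (LP (LK LD1_c8 LD2_c42 LD3_c44)) = (LP (LK LD1_c14 LD2_c57 LD3_c15)) :=
  Lgr Lrot149 (Lpe (K26.f193216 IH) (Lpr_gf (f327710 IH) (Lpe (f171730 IH) (Lpr_ct (f361186 IH) (Lpe (f167555 IH) (Lpe (f167554 IH) (Lpr_bt (K9.f178542 IH) (Lpe (K9.f178717 IH) (Lpe (f325914 IH) (Lpr_ct (f229696 IH) (Lpn (LP (LK LD1_c14 LD2_c57 LD3_c15)))))))))))))
theorem f361197 : Led Lsl_gf (LP (LK LD1_c8 LD2_c42 LD3_c38)) = (LP (LK LD1_c15 LD2_c15 LD3_c3)) :=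
  Lgr Lrot124 (Lpe (K17.f193213 IH) (Lpr_ct (K26.f193216 IH) (Lpr_gt (f361193 IH) (Lpe (f229696 IH) (Lpr_bt (f325914 IH) (Lpr_gt (K9.f178717 IH) (Lpr_ct (K20.f178670 IH) (Lpr_gt (K20.f182232 IH) (Lpe (K21.f230990 IH) (Lpr_bt (K22.f327614 IH) (Lpn (LP (LK LD1_c15 LD2_c15 LD3_c3)))))))))))))
theorem f364000 : Led Lsl_gf (LP (LK LD1_c25 LD2_c46 LD3_c54)) = (LP (LK LD1_c15 LD2_c52 LD3_c29)) :=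
  Lgr Lrot134 (Lpe (f363992 IH) (Lpr_et (f363996 IH) (Lpr_gt (f219971 IH) (Lpe (f219962 IH) (Lpr_dt (f219960 IH) (Lpe (f361197 IH) (Lpr_df (K14.f193224 IH) (Lpr_et (K17.f287060 IH) (Lpr_gt (K22.f323611 IH) (Lpe (K22.f323601 IH) (Lpn (LP (LK LD1_c15 LD2_c52 LD3_c29)))))))))))))
theorem f363990 : Led Lsl_cf (LP (LK LD1_c19 LD2_c41 LD3_c5)) = (LP (LK LD1_c25 LD2_c46 LD3_c54)) :=
  Lgr Lrot11 (Lpr_ct (f363986 IH) (Lpn (LP (LK LD1_c25 LD2_c46 LD3_c54))))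
theorem f261517 : Led Lsl_ct (LP (LK LD1_c29 LD2_c48 LD3_c17)) = (LP (LK LD1_c20 LD2_c59 LD3_c59)) :=
  Lre_c IH (LK LD1_c29 LD2_c48 LD3_c17) (LK LD1_c20 LD2_c59 LD3_c59) Lrfl Lrfl
theorem f320057 : Led Lsl_df (LP (LK LD1_c28 LD2_c16 LD3_c42)) = (LP (LK LD1_c25 LD2_c52 LD3_c40)) :=
  Lgr Lrot38 (Lpr_dt (K25.f320053 IH) (Lpn (LP (LK LD1_c25 LD2_c52 LD3_c40))))
theorem f271608 : Led Lsl_dt (LP (LK LD1_c18 LD2_c47 LD3_c0)) = (LP (LK LD1_c28 LD2_c16 LD3_c44)) :=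
  Lre_d IH (LK LD1_c18 LD2_c47 LD3_c0) (LK LD1_c28 LD2_c16 LD3_c44) Lrfl Lrfl
theorem f271597 : Led Lsl_dt (LP (LK LD1_c28 LD2_c16 LD3_c44)) = (LP (LK LD1_c18 LD2_c47 LD3_c0)) :=
  Lre_d IH (LK LD1_c28 LD2_c16 LD3_c44) (LK LD1_c18 LD2_c47 LD3_c0) Lrfl Lrfl
theorem f322905 : Led Lsl_cf (LP (LK LD1_c28 LD2_c16 LD3_c44)) = (LP (LK LD1_c19 LD2_c29 LD3_c44)) :=
  Lgr Lrot55 (Lpr_dt (f271597 IH) (Lpr_ct (K25.f271596 IH) (Lpr_dt (K20.f271595 IH) (Lpr_ct (K20.f180942 IH) (Lpr_dt (K19.f271592 IH) (Lpr_ct (K20.f178018 IH) (Lpr_dt (K20.f221240 IH) (Lpr_ct (K20.f221250 IH) (Lpr_dt (K20.f271598 IH) (Lpr_ct (K20.f322899 IH) (Lpr_dt (K20.f214824 IH) (Lpr_ct (K21.f214820 IH) (Lpe (K20.f317704 IH) (Lpr_ct (K20.f317731 IH) (Lpr_dt (K20.f317732 IH) (Lpn (LP (LK LD1_c19 LD2_c29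 LD3_c44))))))))))))))))))
theorem f252638 : Led Lsl_dt (LP (LK LD1_c25 LD2_c17 LD3_c14)) = (LP (LK LD1_c15 LD2_c24 LD3_c59)) :=
  Lre_d IH (LK LD1_c25 LD2_c17 LD3_c14) (LK LD1_c15 LD2_c24 LD3_c59) Lrfl Lrfl
theorem f341862 : Led Lsl_gf (LP (LK LD1_c25 LD2_c17 LD3_c14)) = (LP (LK LD1_c29 LD2_c48 LD3_c47)) :=
  Lgr Lrot148 (Lpr_dt (f252638 IH) (Lpe (K20.f320981 IH) (Lpr_dt (K20.f317732 IH) (Lpe (f322905 IH) (Lpe (f271608 IH) (Lpe (K25.f320046 IH) (Lpr_df (f320057 IH) (Lpe (K26.f271588 IH) (Lpr_ct (K26.f341858 IH) (Lpn (LP (LK LD1_c29 LD2_c48 LD3_c47))))))))))))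
theorem f364004 : Led Lsl_gf (LP (LK LD1_c29 LD2_c48 LD3_c17)) = (LP (LK LD1_c31 LD2_c50 LD3_c11)) :=
  Lgr Lrot104 (Lpr_ct (f261517 IH) (Lpr_df (f261508 IH) (Lpr_cf (f363990 IH) (Lpr_gf (f364000 IH) (Lpe (K22.f323956 IH) (Lpe (K25.f335500 IH) (Lpe (K26.f263254 IH) (Lpe (f341862 IH) (Lpr_ct (f252656 IH) (Lpn (LP (LK LD1_c31 LD2_c50 LD3_c11))))))))))))
theorem f369791 : Led Lsl_gt (LP (LK LD1_c29 LD2_c48 LD3_c17)) = (LP (LK LD1_c32 LD2_c14 LD3_c59)) :=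
  Lgr Lrot46 (Lpr_gf (f364004 IH) (Lpe (f369759 IH) (Lpr_at (f369784 IH) (Lpn (LP (LK LD1_c32 LD2_c14 LD3_c59))))))
theorem f261512 : Led Lsl_ct (LP (LK LD1_c20 LD2_c59 LD3_c59)) = (LP (LK LD1_c29 LD2_c48 LD3_c17)) :=
  Lre_c IH (LK LD1_c20 LD2_c59 LD3_c59) (LK LD1_c29 LD2_c48 LD3_c17) Lrfl Lrfl
theorem f341867 : Led Lsl_ct (LP (LK LD1_c32 LD2_c14 LD3_c59)) = (LP (LK LD1_c26 LD2_c43 LD3_c0)) :=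
  Lre_c IH (LK LD1_c32 LD2_c14 LD3_c59) (LK LD1_c26 LD2_c43 LD3_c0) Lrfl Lrfl
theorem f369708 : Led Lsl_ft (LP (LK LD1_c5 LD2_c15 LD3_c35)) = (LP (LK LD1_c10 LD2_c20 LD3_c28)) :=
  Lre_f IH (LK LD1_c5 LD2_c15 LD3_c35) (LK LD1_c10 LD2_c20 LD3_c28) Lrfl Lrfl
theorem f369709 : Led Lsl_cf (LP (LK LD1_c16 LD2_c44 LD3_c13)) = (LP (LK LD1_c10 LD2_c20 LD3_c28)) :=
  Lgr Lrot108 (Lpr_ft (f369704 IH) (Lpr_ct (K22.f264890 IH) (Lpr_ft (f369708 IH) (Lpn (LP (LK LD1_c10 LD2_c20 LD3_c28))))))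
theorem f369795 : Led Lsl_gt (LP (LK LD1_c15 LD2_c24 LD3_c60)) = (LP (LK LD1_c10 LD2_c20 LD3_c28)) :=
  Lgr Lrot150 (Lpr_cf (K17.f286255 IH) (Lpe (K17.f231699 IH) (Lpe (K25.f169523 IH) (Lpr_gt (f261487 IH) (Lpr_ct (f261512 IH) (Lpr_gt (f369791 IH) (Lpr_ct (f341867 IH) (Lpe (K26.f271590 IH) (Lpr_cf (f369709 IH) (Lpn (LP (LK LD1_c10 LD2_c20 LD3_c28))))))))))))
theorem f347956 : Led Lsl_ct (LP (LK LD1_c10 LD2_c19 LD3_c61)) = (LP (LK LD1_c10 LD2_c43 LD3_c6)) :=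
  Lgr Lrot8 (Lpr_gt (K26.f189706 IH) (Lpe (K23.f223097 IH) (Lpr_gt (K23.f347954 IH) (Lpe (K23.f347864 IH) (Lpr_cf (K25.f347872 IH) (Lpe (f271757 IH) (Lpe (f317915 IH) (Lpe (K26.f264790 IH) (Lpe (f257387 IH) (Lpn (LP (LK LD1_c10 LD2_c43 LD3_c6))))))))))))
theorem f258830 : Led Lsl_ct (LP (LK LD1_c2 LD2_c42 LD3_c23)) = (LP (LK LD1_c1 LD2_c17 LD3_c47)) :=
  Lre_c IH (LK LD1_c2 LD2_c42 LD3_c23) (LK LD1_c1 LD2_c17 LD3_c47) Lrfl Lrfl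
theorem f264710 : Led Lsl_ct (LP (LK LD1_c10 LD2_c56 LD3_c38)) = (LP (LK LD1_c5 LD2_c32 LD3_c26)) :=
  Lre_c IH (LK LD1_c10 LD2_c56 LD3_c38) (LK LD1_c5 LD2_c32 LD3_c26) Lrfl Lrfl
theorem f359903 : Led Lsl_gf (LP (LK LD1_c10 LD2_c56 LD3_c38)) = (LP (LK LD1_c18 LD2_c2 LD3_c40)) :=
  Lgr Lrot147 (Lpr_ct (f264710 IH) (Lpr_gt (K23.f264709 IH) (Lpr_ct (f258830 IH) (Lpe (K15.f264632 IH) (Lpe (K15.f264684 IH) (Lpe (f257387 IH) (Lpe (f347956 IH) (Lpr_gf (K26.f359901 IH) (Lpe (K26.f232123 IH) (Lpn (LP (LK LD1_c18 LD2_c2 LD3_c40))))))))))))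
theorem f369804 : Led Lsl_et (LP (LK LD1_c18 LD2_c44 LD3_c38)) = (LP (LK LD1_c10 LD2_c20 LD3_c28)) :=
  Lgr Lrot122 (Lpe (K26.f232114 IH) (Lpe (f359903 IH) (Lpe (K23.f322430 IH) (Lpr_et (K23.f322432 IH) (Lpr_gt (K22.f328354 IH) (Lpr_dt (K21.f213787 IH) (Lpr_gt (K20.f286132 IH) (Lpr_df (K17.f286128 IH) (Lpe (K17.f286135 IH) (Lpr_gt (f369795 IH) (Lpn (LP (LK LD1_c10 LD2_c20 LD3_c28)))))))))))))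
theorem f369808 : Led Lsl_ef (LP (LK LD1_c18 LD2_c44 LD3_c38)) = (LP (LK LD1_c10 LD2_c20 LD3_c28)) :=
  Lgr Lrot88 (Lpr_et (f369804 IH) (Lpn (LP (LK LD1_c10 LD2_c20 LD3_c28))))
theorem f369799 : Led Lsl_dt (LP (LK LD1_c10 LD2_c20 LD3_c28)) = (LP (LK LD1_c18 LD2_c46 LD3_c7)) :=
  Lre_d IH (LK LD1_c10 LD2_c20 LD3_c28) (LK LD1_c18 LD2_c46 LD3_c7) Lrfl Lrfl
theorem f328231 : Led Lsl_et (LP (LK LD1_c10 LD2_c50 LD3_c37)) = (LP (LK LD1_c15 LD2_c25 LD3_c27)) :=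
  Lgr Lrot87 (Lpr_ef (K21.f328225 IH) (Lpn (LP (LK LD1_c15 LD2_c25 LD3_c27))))
theorem f340718 : Led Lsl_et (LP (LK LD1_c19 LD2_c56 LD3_c57)) = (LP (LK LD1_c11 LD2_c4 LD3_c21)) :=
  Lre_e IH (LK LD1_c19 LD2_c56 LD3_c57) (LK LD1_c11 LD2_c4 LD3_c21) Lrfl Lrfl
theorem f369802 : Led Lsl_gf (LP (LK LD1_c18 LD2_c4 LD3_c16)) = (LP (LK LD1_c18 LD2_c46 LD3_c7)) :=
  Lgr Lrot134 (Lpr_df (K25.f340716 IH) (Lpr_et (f340718 IH) (Lpr_gt (K25.f355544 IH) (Lpe (f328231 IH) (Lpr_dt (K21.f213787 IH) (Lpr_gt (K20.f286132 IH) (Lpr_df (K17.f286128 IH) (Lpe (K17.f286135 IH) (Lpr_gt (f369795 IH) (Lpr_dt (f369799 IH) (Lpn (LP (LK LD1_c18 LD2_c46 LD3_c7)))))))))))))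
theorem f353578 : Led Lsl_gf (LP (LK LD1_c15 LD2_c33 LD3_c21)) = (LP (LK LD1_c8 LD2_c17 LD3_c16)) :=
  Lgr Lrot138 (Lpe (K23.f189679 IH) (Lpr_gt (K25.f353574 IH) (Lpe (K10.f191739 IH) (Lpe (K25.f352960 IH) (Lpr_gt (K23.f343736 IH) (Lpe (K23.f251716 IH) (Lpe (K23.f301106 IH) (Lpr_gt (K26.f353203 IH) (Lpr_df (K23.f347756 IH) (Lpr_et (K23.f317517 IH) (Lpn (LP (LK LD1_c8 LD2_c17 LD3_c16)))))))))))))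
theorem f369817 : Led Lsl_gf (LP (LK LD1_c18 LD2_c44 LD3_c38)) = (LP (LK LD1_c10 LD2_c19 LD3_c60)) :=
  Lgr Lrot141 (Lpr_ef (f369808 IH) (Lpr_dt (f369799 IH) (Lpe (f369802 IH) (Lpr_df (K25.f340716 IH) (Lpr_et (f340718 IH) (Lpr_gt (K25.f355544 IH) (Lpr_dt (K20.f247702 IH) (Lpe (f353578 IH) (Lpe (K23.f189677 IH) (Lpr_et (K23.f189736 IH) (Lpn (LP (LK LD1_c10 LD2_c19 LD3_c60)))))))))))))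
theorem f317921 : Led Lsl_ct (LP (LK LD1_c16 LD2_c46 LD3_c42)) = (LP (LK LD1_c26 LD2_c45 LD3_c8)) :=
  Lre_c IH (LK LD1_c16 LD2_c46 LD3_c42) (LK LD1_c26 LD2_c45 LD3_c8) Lrfl Lrfl
theorem f317918 : Led Lsl_gt (LP (LK LD1_c26 LD2_c45 LD3_c8)) = (LP (LK LD1_c32 LD2_c15 LD3_c38)) :=
  Lre_g IH (LK LD1_c26 LD2_c45 LD3_c8) (LK LD1_c32 LD2_c15 LD3_c38) Lrfl Lrfl
theorem f369819 : Led Lsl_cf (LP (LK LD1_c32 LD2_c0 LD3_c49)) = (LP (LK LD1_c32 LD2_c15 LD3_c38)) :=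
  Lgr Lrot99 (Lpe (K26.f264505 IH) (Lpr_cf (K26.f359916 IH) (Lpr_gf (f369817 IH) (Lpr_cf (K23.f347963 IH) (Lpe (K23.f264787 IH) (Lpe (K15.f264685 IH) (Lpr_gt (f317915 IH) (Lpr_ct (f317921 IH) (Lpr_gt (f317918 IH) (Lpn (LP (LK LD1_c32 LD2_c15 LD3_c38))))))))))))
theorem f359914 : Led Lsl_ct (LP (LK LD1_c25 LD2_c51 LD3_c28)) = (LP (LK LD1_c18 LD2_c44 LD3_c38)) :=
  Lgr Lrot7 (Lpe (K26.f264815 IH) (Lpe (K26.f348086 IH) (Lpe (K26.f282602 IH) (Lpr_gf (K23.f348079 IH) (Lpe (K23.f217615 IH) (Lpr_gt (K23.f217517 IH) (Lpr_dt (K23.f347870 IH) (Lpr_gt (K26.f359908 IH) (Lpr_dt (K26.f232123 IH) (Lpn (LP (LK LD1_c18 LD2_c44 LD3_c38))))))))))))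
theorem f218918 : Led Lsl_ct (LP (LK LD1_c18 LD2_c51 LD3_c8)) = (LP (LK LD1_c28 LD2_c19 LD3_c25)) :=
  Lre_c IH (LK LD1_c18 LD2_c51 LD3_c8) (LK LD1_c28 LD2_c19 LD3_c25) Lrfl Lrfl
theorem f369825 : Led Lsl_dt (LP (LK LD1_c28 LD2_c19 LD3_c25)) = (LP (LK LD1_c32 LD2_c15 LD3_c38)) :=
  Lgr Lrot140 (Lpe (f218918 IH) (Lpe (K23.f49350 IH) (Lpe (K23.f218905 IH) (Lpr_df (K23.f223097 IH) (Lpr_ft (K26.f223099 IH) (Lpr_at (f359899 IH) (Lpe (f359914 IH) (Lpe (K26.f264815 IH) (Lpr_cf (f369819 IH) (Lpn (LP (LK LD1_c32 LD2_c15 LD3_c38))))))))))))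
theorem f369827 : Led Lsl_df (LP (LK LD1_c28 LD2_c19 LD3_c25)) = (LP (LK LD1_c32 LD2_c15 LD3_c38)) :=
  Lgr Lrot38 (Lpr_dt (f369825 IH) (Lpn (LP (LK LD1_c32 LD2_c15 LD3_c38))))
theorem f218908 : Led Lsl_ct (LP (LK LD1_c28 LD2_c19 LD3_c25)) = (LP (LK LD1_c18 LD2_c51 LD3_c8)) :=
  Lre_c IH (LK LD1_c28 LD2_c19 LD3_c25) (LK LD1_c18 LD2_c51 LD3_c8) Lrfl Lrfl
theorem f369823 : Led Lsl_ct (LP (LK LD1_c32 LD2_c0 LD3_c49)) = (LP (LK LD1_c32 LD2_c15 LD3_c38)) :=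
  Lgr Lrot59 (Lpr_cf (f369819 IH) (Lpn (LP (LK LD1_c32 LD2_c15 LD3_c38))))
theorem f369852 : Led Lsl_af (LP (LK LD1_c7 LD2_c58 LD3_c18)) = (LP (LK LD1_c9 LD2_c51 LD3_c28)) :=
  Lgr Lrot109 (Lpr_cf (K23.f218721 IH) (Lpe (K23.f218907 IH) (Lpe (f218908 IH) (Lpr_df (f369827 IH) (Lpe (f369823 IH) (Lpe (K26.f264505 IH) (Lpr_cf (K26.f359916 IH) (Lpe (K26.f232123 IH) (Lpr_ft (K26.f232112 IH) (Lpn (LP (LK LD1_c9 LD2_c51 LD3_c28))))))))))))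
theorem f369854 : Led Lsl_at (LP (LK LD1_c3 LD2_c58 LD3_c27)) = (LP (LK LD1_c5 LD2_c0 LD3_c36)) :=
  Lgr Lrot80 (Lpe (K23.f218719 IH) (Lpr_af (f369852 IH) (Lpe (K22.f232105 IH) (Lpn (LP (LK LD1_c5 LD2_c0 LD3_c36))))))
theorem f369858 : Led Lsl_af (LP (LK LD1_c2 LD2_c34 LD3_c31)) = (LP (LK LD1_c4 LD2_c9 LD3_c35)) :=
  Lgr Lrot117 (Lpe (K13.f223088 IH) (Lpr_at (f369854 IH) (Lpr_dt (K13.f232103 IH) (Lpn (LP (LK LD1_c4 LD2_c9 LD3_c35))))))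
theorem f47720 : Led Lsl_bt (LP (LK LD1_c1 LD2_c14 LD3_c18)) = (LP (LK LD1_c2 LD2_c34 LD3_c28)) :=
  Lre_b IH (LK LD1_c1 LD2_c14 LD3_c18) (LK LD1_c2 LD2_c34 LD3_c28) Lrfl Lrfl
theorem f266934 : Led Lsl_bf (LP (LK LD1_c2 LD2_c34 LD3_c31)) = (LP (LK LD1_c2 LD2_c7 LD3_c14)) :=
  Lgr Lrot90 (Lpr_ct (K13.f47539 IH) (Lpr_bt (f47720 IH) (Lpr_ct (K13.f236418 IH) (Lpr_bt (K18.f266928 IH) (Lpr_ct (K15.f266915 IH) (Lpn (LP (LK LD1_c2 LD2_c7 LD3_c14))))))))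
theorem f359585 : Led Lsl_ff (LP (LK LD1_c4 LD2_c9 LD3_c24)) = (LP (LK LD1_c2 LD2_c34 LD3_c31)) :=
  Lgr Lrot25 (Lpr_bt (K13.f233845 IH) (Lpr_ft (K26.f359583 IH) (Lpe (f266934 IH) (Lpn (LP (LK LD1_c2 LD2_c34 LD3_c31))))))
theorem f362112 : Led Lsl_ff (LP (LK LD1_c4 LD2_c9 LD3_c35)) = (LP (LK LD1_c5 LD2_c28 LD3_c17)) :=
  Lgr Lrot23 (Lpr_ct (K14.f222908 IH) (Lpr_ft (K26.f362108 IH) (Lpr_ct (K14.f236139 IH) (Lpn (LP (LK LD1_c5 LD2_c28 LD3_c17))))))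
theorem f369862 : Led Lsl_at (LP (LK LD1_c4 LD2_c9 LD3_c24)) = (LP (LK LD1_c5 LD2_c28 LD3_c17)) :=
  Lgr Lrot66 (Lpr_ff (f359585 IH) (Lpr_af (f369858 IH) (Lpr_ff (f362112 IH) (Lpn (LP (LK LD1_c5 LD2_c28 LD3_c17))))))
theorem f369866 : Led Lsl_af (LP (LK LD1_c4 LD2_c12 LD3_c33)) = (LP (LK LD1_c2 LD2_c40 LD3_c27)) :=
  Lgr Lrot50 (Lpe (K15.f233849 IH) (Lpr_at (f369862 IH) (Lpr_et (K14.f236136 IH) (Lpn (LP (LK LD1_c2 LD2_c40 LD3_c27))))))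
theorem f166895 : Led Lsl_bt (LP (LK LD1_c4 LD2_c12 LD3_c33)) = (LP (LK LD1_c2 LD2_c3 LD3_c28)) :=
  Lre_b IH (LK LD1_c4 LD2_c12 LD3_c33) (LK LD1_c2 LD2_c3 LD3_c28) Lrfl Lrfl
theorem f359563 : Led Lsl_at (LP (LK LD1_c2 LD2_c3 LD3_c28)) = (LP (LK LD1_c4 LD2_c12 LD3_c16)) :=
  Lgr Lrot100 (Lpr_af (K26.f359561 IH) (Lpn (LP (LK LD1_c4 LD2_c12 LD3_c16))))
theorem f369868 : Led Lsl_at (LP (LK LD1_c4 LD2_c18 LD3_c58)) = (LP (LK LD1_c5 LD2_c28 LD3_c16)) :=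
  Lgr Lrot67 (Lpr_bf (K19.f253488 IH) (Lpe (f359563 IH) (Lpe (f166895 IH) (Lpr_af (f369866 IH) (Lpe (K14.f236134 IH) (Lpn (LP (LK LD1_c5 LD2_c28 LD3_c16))))))))
theorem f369874 : Led Lsl_af (LP (LK LD1_c5 LD2_c2 LD3_c50)) = (LP (LK LD1_c5 LD2_c8 LD3_c43)) :=
  Lgr Lrot117 (Lpr_dt (K15.f257568 IH) (Lpr_at (f369868 IH) (Lpe (K14.f251297 IH) (Lpn (LP (LK LD1_c5 LD2_c8 LD3_c43))))))
theorem f364475 : Led Lsl_ff (LP (LK LD1_c5 LD2_c8 LD3_c43)) = (LP (LK LD1_c8 LD2_c3 LD3_c56)) :=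
  Lgr Lrot23 (Lpr_ct (K14.f251449 IH) (Lpr_ft (K26.f364471 IH) (Lpr_ct (K15.f258044 IH) (Lpn (LP (LK LD1_c8 LD2_c3 LD3_c56))))))
theorem f258050 : Led Lsl_cf (LP (LK LD1_c5 LD2_c12 LD3_c1)) = (LP (LK LD1_c8 LD2_c3 LD3_c56)) :=
  Lgr Lrot11 (Lpr_ct (K15.f258044 IH) (Lpn (LP (LK LD1_c8 LD2_c3 LD3_c56))))
theorem f364479 : Led Lsl_at (LP (LK LD1_c5 LD2_c8 LD3_c44)) = (LP (LK LD1_c8 LD2_c3 LD3_c56)) :=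
  Lgr Lrot107 (Lpr_cf (K25.f282132 IH) (Lpr_af (K26.f364477 IH) (Lpr_cf (f258050 IH) (Lpn (LP (LK LD1_c8 LD2_c3 LD3_c56))))))
theorem f369882 : Led Lsl_ft (LP (LK LD1_c5 LD2_c2 LD3_c50)) = (LP (LK LD1_c5 LD2_c8 LD3_c44)) :=
  Lgr Lrot101 (Lpr_af (f369874 IH) (Lpr_ff (f364475 IH) (Lpe (f364479 IH) (Lpn (LP (LK LD1_c5 LD2_c8 LD3_c44))))))
theorem f369884 : Led Lsl_ff (LP (LK LD1_c2 LD2_c28 LD3_c60)) = (LP (LK LD1_c2 LD2_c31 LD3_c54)) :=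
  Lgr Lrot25 (Lpr_bt (K14.f212239 IH) (Lpr_ft (f369882 IH) (Lpr_bt (K25.f282127 IH) (Lpn (LP (LK LD1_c2 LD2_c31 LD3_c54))))))
theorem f369895 : Led Lsl_ft (LP (LK LD1_c5 LD2_c2 LD3_c51)) = (LP (LK LD1_c5 LD2_c9 LD3_c33)) :=
  Lgr Lrot4 (Lpe (K12.f192128 IH) (Lpr_ff (f369884 IH) (Lpe (K17.f165573 IH) (Lpn (LP (LK LD1_c5 LD2_c9 LD3_c33))))))
theorem f369905 : Led Lsl_ff (LP (LK LD1_c5 LD2_c2 LD3_c51)) = (LP (LK LD1_c5 LD2_c9 LD3_c33)) :=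
  Lgr Lrot3 (Lpr_ft (f369895 IH) (Lpn (LP (LK LD1_c5 LD2_c9 LD3_c33))))
theorem f369912 : Led Lsl_at (LP (LK LD1_c5 LD2_c2 LD3_c51)) = (LP (LK LD1_c5 LD2_c9 LD3_c36)) :=
  Lgr Lrot26 (Lpr_ff (f369905 IH) (Lpr_gt (K17.f260601 IH) (Lpr_gt (K15.f259707 IH) (Lpn (LP (LK LD1_c5 LD2_c9 LD3_c36))))))
theorem f326755 : Led Lsl_et (LP (LK LD1_c5 LD2_c9 LD3_c36)) = (LP (LK LD1_c10 LD2_c9 LD3_c58)) :=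
  Lre_e IH (LK LD1_c5 LD2_c9 LD3_c36) (LK LD1_c10 LD2_c9 LD3_c58) Lrfl Lrfl
theorem f369919 : Led Lsl_af (LP (LK LD1_c9 LD2_c56 LD3_c31)) = (LP (LK LD1_c10 LD2_c9 LD3_c58)) :=
  Lgr Lrot50 (Lpr_et (K26.f215786 IH) (Lpr_at (f369912 IH) (Lpr_et (f326755 IH) (Lpn (LP (LK LD1_c10 LD2_c9 LD3_c58))))))
theorem f250464 : Led Lsl_ct (LP (LK LD1_c9 LD2_c40 LD3_c10)) = (LP (LK LD1_c17 LD2_c47 LD3_c8)) :=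
  Lre_c IH (LK LD1_c9 LD2_c40 LD3_c10) (LK LD1_c17 LD2_c47 LD3_c8) Lrfl Lrfl
theorem f246171 : Led Lsl_ct (LP (LK LD1_c10 LD2_c9 LD3_c58)) = (LP (LK LD1_c5 LD2_c9 LD3_c37)) :=
  Lre_c IH (LK LD1_c10 LD2_c9 LD3_c58) (LK LD1_c5 LD2_c9 LD3_c37) Lrfl Lrfl
theorem f359734 : Led Lsl_ft (LP (LK LD1_c17 LD2_c47 LD3_c8)) = (LP (LK LD1_c10 LD2_c9 LD3_c58)) :=
  Lgr Lrot4 (Lpe (f250464 IH) (Lpr_ff (K26.f359730 IH) (Lpe (f246171 IH) (Lpn (LP (LK LD1_c10 LD2_c9 LD3_c58))))))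
theorem f369925 : Led Lsl_gf (LP (LK LD1_c18 LD2_c11 LD3_c33)) = (LP (LK LD1_c17 LD2_c47 LD3_c8)) :=
  Lgr Lrot47 (Lpr_gt (K25.f246207 IH) (Lpr_af (f369919 IH) (Lpe (f359734 IH) (Lpn (LP (LK LD1_c17 LD2_c47 LD3_c8))))))
theorem f304154 : Led Lsl_ct (LP (LK LD1_c18 LD2_c11 LD3_c33)) = (LP (LK LD1_c10 LD2_c27 LD3_c58)) :=
  Lgr Lrot59 (Lpr_cf (K25.f304149 IH) (Lpn (LP (LK LD1_c10 LD2_c27 LD3_c58))))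
theorem f326731 : Led Lsl_af (LP (LK LD1_c18 LD2_c11 LD3_c33)) = (LP (LK LD1_c18 LD2_c31 LD3_c5)) :=
  Lgr Lrot68 (Lpr_ct (f304154 IH) (Lpr_at (K18.f271295 IH) (Lpr_ct (K21.f326729 IH) (Lpn (LP (LK LD1_c18 LD2_c31 LD3_c5))))))
theorem f326748 : Led Lsl_ft (LP (LK LD1_c10 LD2_c24 LD3_c56)) = (LP (LK LD1_c18 LD2_c31 LD3_c5)) :=
  Lgr Lrot48 (Lpr_ff (K21.f326739 IH) (Lpn (LP (LK LD1_c18 LD2_c31 LD3_c5))))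
theorem f369927 : Led Lsl_gt (LP (LK LD1_c10 LD2_c24 LD3_c56)) = (LP (LK LD1_c17 LD2_c47 LD3_c8)) :=
  Lgr Lrot5 (Lpr_ft (f326748 IH) (Lpe (f326731 IH) (Lpr_gf (f369925 IH) (Lpn (LP (LK LD1_c17 LD2_c47 LD3_c8))))))
theorem f275641 : Led Lsl_gt (LP (LK LD1_c16 LD2_c40 LD3_c0)) = (LP (LK LD1_c8 LD2_c54 LD3_c34)) :=
  Lre_g IH (LK LD1_c16 LD2_c40 LD3_c0) (LK LD1_c8 LD2_c54 LD3_c34) Lrfl Lrfl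
theorem f359722 : Led Lsl_bt (LP (LK LD1_c9 LD2_c40 LD3_c10)) = (LP (LK LD1_c11 LD2_c54 LD3_c57)) :=
  Lgr Lrot127 (Lpr_bf (K26.f359720 IH) (Lpn (LP (LK LD1_c11 LD2_c54 LD3_c57))))
theorem f369931 : Led Lsl_cf (LP (LK LD1_c16 LD2_c40 LD3_c0)) = (LP (LK LD1_c17 LD2_c46 LD3_c54)) :=
  Lgr Lrot160 (Lpr_gt (f275641 IH) (Lpe (K22.f275640 IH) (Lpr_bt (K19.f275637 IH) (Lpr_gt (K16.f275630 IH) (Lpr_ct (K16.f246214 IH) (Lpr_gt (f369927 IH) (Lpe (f250464 IH) (Lpr_bt (f359722 IH) (Lpr_gt (K26.f252178 IH) (Lpe (K14.f192310 IH) (Lpn (LP (LK LD1_c17 LD2_c46 LD3_c54)))))))))))))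
theorem f263000 : Led Lsl_gt (LP (LK LD1_c5 LD2_c17 LD3_c44)) = (LP (LK LD1_c10 LD2_c25 LD3_c4)) :=
  Lre_g IH (LK LD1_c5 LD2_c17 LD3_c44) (LK LD1_c10 LD2_c25 LD3_c4) Lrfl Lrfl
theorem f367635 : Led Lsl_gf (LP (LK LD1_c16 LD2_c40 LD3_c45)) = (LP (LK LD1_c9 LD2_c42 LD3_c2)) :=
  Lgr Lrot76 (Lpr_af (f367625 IH) (Lpe (f168568 IH) (Lpr_gt (K22.f168572 IH) (Lpn (LP (LK LD1_c9 LD2_c42 LD3_c2))))))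
theorem f292815 : Led Lsl_dt (LP (LK LD1_c16 LD2_c39 LD3_c52)) = (LP (LK LD1_c16 LD2_c39 LD3_c0)) :=
  Lgr Lrot42 (Lpr_df (K20.f292812 IH) (Lpn (LP (LK LD1_c16 LD2_c39 LD3_c0))))
theorem f354653 : Led Lsl_ct (LP (LK LD1_c25 LD2_c19 LD3_c39)) = (LP (LK LD1_c16 LD2_c39 LD3_c0)) :=
  Lgr Lrot111 (Lpe (K14.f252161 IH) (Lpe (K25.f256906 IH) (Lpr_af (K25.f354630 IH) (Lpn (LP (LK LD1_c16 LD2_c39 LD3_c0))))))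
theorem f367637 : Led Lsl_gt (LP (LK LD1_c10 LD2_c7 LD3_c56)) = (LP (LK LD1_c17 LD2_c46 LD3_c54)) :=
  Lgr Lrot49 (Lpe (f367631 IH) (Lpr_gf (f367635 IH) (Lpr_cf (K25.f339750 IH) (Lpr_gt (K22.f325817 IH) (Lpr_dt (K22.f292188 IH) (Lpr_gt (K22.f293865 IH) (Lpr_dt (f292815 IH) (Lpe (f354653 IH) (Lpr_df (K14.f192285 IH) (Lpn (LP (LK LD1_c17 LD2_c46 LD3_c54))))))))))))
theorem f249343 : Led Lsl_et (LP (LK LD1_c2 LD2_c36 LD3_c34)) = (LP (LK LD1_c5 LD2_c19 LD3_c50)) :=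
  Lre_e IH (LK LD1_c2 LD2_c36 LD3_c34) (LK LD1_c5 LD2_c19 LD3_c50) Lrfl Lrfl
theorem f265865 : Led Lsl_et (LP (LK LD1_c5 LD2_c13 LD3_c7)) = (LP (LK LD1_c10 LD2_c16 LD3_c34)) :=
  Lre_e IH (LK LD1_c5 LD2_c13 LD3_c7) (LK LD1_c10 LD2_c16 LD3_c34) Lrfl Lrfl
theorem f265866 : Led Lsl_gf (LP (LK LD1_c5 LD2_c19 LD3_c50)) = (LP (LK LD1_c10 LD2_c16 LD3_c34)) :=
  Lgr Lrot141 (Lpe (f249343 IH) (Lpr_dt (K18.f230547 IH) (Lpe (K14.f249340 IH) (Lpe (K9.f43431 IH) (Lpe (K21.f44384 IH) (Lpe (K10.f190780 IH) (Lpr_dt (K15.f170056 IH) (Lpr_gt (K15.f265855 IH) (Lpe (K20.f185418 IH) (Lpr_et (f265865 IH) (Lpn (LP (LK LD1_c10 LD2_c16 LD3_c34)))))))))))))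
theorem f300530 : Led Lsl_gf (LP (LK LD1_c10 LD2_c16 LD3_c34)) = (LP (LK LD1_c10 LD2_c3 LD3_c26)) :=
  Lgr Lrot47 (Lpe (f265866 IH) (Lpr_af (K18.f300511 IH) (Lpe (K18.f300510 IH) (Lpn (LP (LK LD1_c10 LD2_c3 LD3_c26))))))
theorem f265853 : Led Lsl_ct (LP (LK LD1_c9 LD2_c52 LD3_c57)) = (LP (LK LD1_c10 LD2_c16 LD3_c34)) :=
  Lgr Lrot15 (Lpe (K22.f265837 IH) (Lpr_cf (K15.f265835 IH) (Lpe (f265852 IH) (Lpn (LP (LK LD1_c10 LD2_c16 LD3_c34))))))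
theorem f323623 : Led Lsl_bf (LP (LK LD1_c10 LD2_c7 LD3_c20)) = (LP (LK LD1_c9 LD2_c52 LD3_c57)) :=
  Lgr Lrot165 (Lpr_gt (K26.f323619 IH) (Lpr_ct (K26.f274808 IH) (Lpe (K26.f304342 IH) (Lpe (K26.f261842 IH) (Lpr_bt (K23.f261818 IH) (Lpe (K22.f304239 IH) (Lpe (K18.f300520 IH) (Lpr_ct (K18.f300515 IH) (Lpe (f300530 IH) (Lpe (f265853 IH) (Lpn (LP (LK LD1_c9 LD2_c52 LD3_c57)))))))))))))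
theorem f367825 : Led Lsl_ff (LP (LK LD1_c9 LD2_c52 LD3_c57)) = (LP (LK LD1_c10 LD2_c7 LD3_c56)) :=
  Lgr Lrot23 (Lpr_ct (f265853 IH) (Lpr_ft (f367788 IH) (Lpr_ct (f367821 IH) (Lpn (LP (LK LD1_c10 LD2_c7 LD3_c56))))))
theorem f367846 : Led Lsl_bt (LP (LK LD1_c15 LD2_c32 LD3_c11)) = (LP (LK LD1_c10 LD2_c7 LD3_c56)) :=
  Lgr Lrot35 (Lpr_ff (f367844 IH) (Lpr_bf (f323623 IH) (Lpr_ff (f367825 IH) (Lpn (LP (LK LD1_c10 LD2_c7 LD3_c56))))))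
theorem f369946 : Led Lsl_cf (LP (LK LD1_c10 LD2_c25 LD3_c4)) = (LP (LK LD1_c15 LD2_c32 LD3_c11)) :=
  Lgr Lrot58 (Lpe (f263000 IH) (Lpe (K16.f262999 IH) (Lpr_bt (K18.f263348 IH) (Lpe (K16.f275630 IH) (Lpe (K19.f275637 IH) (Lpr_ct (K22.f275640 IH) (Lpe (f275641 IH) (Lpr_cf (f369931 IH) (Lpe (f367637 IH) (Lpe (f367846 IH) (Lpn (LP (LK LD1_c15 LD2_c32 LD3_c11)))))))))))))
theorem f252262 : Led Lsl_et (LP (LK LD1_c5 LD2_c15 LD3_c24)) = (LP (LK LD1_c10 LD2_c20 LD3_c7)) :=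
  Lre_e IH (LK LD1_c5 LD2_c15 LD3_c24) (LK LD1_c10 LD2_c20 LD3_c7) Lrfl Lrfl
theorem f252263 : Led Lsl_ct (LP (LK LD1_c10 LD2_c20 LD3_c7)) = (LP (LK LD1_c10 LD2_c7 LD3_c20)) :=
  Lgr Lrot15 (Lpe (f252262 IH) (Lpr_cf (K14.f252256 IH) (Lpe (f33270 IH) (Lpn (LP (LK LD1_c10 LD2_c7 LD3_c20))))))
theorem f369963 : Led Lsl_ft (LP (LK LD1_c10 LD2_c25 LD3_c4)) = (LP (LK LD1_c10 LD2_c20 LD3_c7)) :=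
  Lgr Lrot4 (Lpr_cf (f369946 IH) (Lpr_ff (f367844 IH) (Lpe (f252263 IH) (Lpn (LP (LK LD1_c10 LD2_c20 LD3_c7))))))
theorem f369968 : Led Lsl_ff (LP (LK LD1_c10 LD2_c25 LD3_c4)) = (LP (LK LD1_c10 LD2_c20 LD3_c7)) :=
  Lgr Lrot3 (Lpr_ft (f369963 IH) (Lpn (LP (LK LD1_c10 LD2_c20 LD3_c7))))
theorem f369961 : Led Lsl_ct (LP (LK LD1_c10 LD2_c25 LD3_c4)) = (LP (LK LD1_c15 LD2_c32 LD3_c11)) :=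
  Lgr Lrot59 (Lpr_cf (f369946 IH) (Lpn (LP (LK LD1_c15 LD2_c32 LD3_c11))))
theorem f367848 : Led Lsl_ft (LP (LK LD1_c15 LD2_c32 LD3_c11)) = (LP (LK LD1_c10 LD2_c7 LD3_c20)) :=
  Lgr Lrot48 (Lpr_ff (f367844 IH) (Lpn (LP (LK LD1_c10 LD2_c7 LD3_c20))))
theorem f369972 : Led Lsl_ct (LP (LK LD1_c10 LD2_c7 LD3_c20)) = (LP (LK LD1_c10 LD2_c20 LD3_c7)) :=
  Lgr Lrot40 (Lpe (f367848 IH) (Lpe (f369961 IH) (Lpr_ff (f369968 IH) (Lpn (LP (LK LD1_c10 LD2_c20 LD3_c7))))))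
theorem f323627 : Led Lsl_bt (LP (LK LD1_c10 LD2_c7 LD3_c20)) = (LP (LK LD1_c9 LD2_c52 LD3_c57)) :=
  Lgr Lrot127 (Lpr_bf (f323623 IH) (Lpn (LP (LK LD1_c9 LD2_c52 LD3_c57))))
theorem f239905 : Led Lsl_at (LP (LK LD1_c15 LD2_c11 LD3_c20)) = (LP (LK LD1_c10 LD2_c8 LD3_c5)) :=
  Lgr Lrot100 (Lpr_af (K13.f239898 IH) (Lpn (LP (LK LD1_c10 LD2_c8 LD3_c5))))
theorem f330341 : Led Lsl_gt (LP (LK LD1_c15 LD2_c10 LD3_c0)) = (LP (LK LD1_c10 LD2_c8 LD3_c5)) :=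
  Lgr Lrot46 (Lpr_gf (K21.f330335 IH) (Lpr_ft (K13.f240126 IH) (Lpr_at (f239905 IH) (Lpn (LP (LK LD1_c10 LD2_c8 LD3_c5))))))
theorem f369980 : Led Lsl_gf (LP (LK LD1_c10 LD2_c23 LD3_c44)) = (LP (LK LD1_c10 LD2_c20 LD3_c7)) :=
  Lgr Lrot126 (Lpe (K16.f171556 IH) (Lpr_bt (K15.f171554 IH) (Lpr_gt (K19.f171609 IH) (Lpr_ct (K23.f171611 IH) (Lpr_gt (f330341 IH) (Lpe (K13.f239843 IH) (Lpr_bt (K21.f239897 IH) (Lpe (K22.f265841 IH) (Lpe (f323627 IH) (Lpr_ct (f369972 IH) (Lpn (LP (LK LD1_c10 LD2_c20 LD3_c7)))))))))))))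
theorem f171576 : Led Lsl_gt (LP (LK LD1_c10 LD2_c23 LD3_c44)) = (LP (LK LD1_c18 LD2_c51 LD3_c41)) :=
  Lre_g IH (LK LD1_c10 LD2_c23 LD3_c44) (LK LD1_c18 LD2_c51 LD3_c41) Lrfl Lrfl
theorem f369982 : Led Lsl_af (LP (LK LD1_c18 LD2_c51 LD3_c41)) = (LP (LK LD1_c10 LD2_c25 LD3_c4)) :=
  Lgr Lrot31 (Lpe (f171576 IH) (Lpr_gf (f369980 IH) (Lpe (f369968 IH) (Lpn (LP (LK LD1_c10 LD2_c25 LD3_c4))))))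
theorem f367852 : Led Lsl_af (LP (LK LD1_c15 LD2_c32 LD3_c11)) = (LP (LK LD1_c15 LD2_c30 LD3_c55)) :=
  Lgr Lrot0 (Lpr_at (f367850 IH) (Lpn (LP (LK LD1_c15 LD2_c30 LD3_c55))))
theorem f369988 : Led Lsl_ct (LP (LK LD1_c18 LD2_c51 LD3_c41)) = (LP (LK LD1_c15 LD2_c30 LD3_c55)) :=
  Lgr Lrot111 (Lpr_af (f369982 IH) (Lpr_cf (f369946 IH) (Lpr_af (f367852 IH) (Lpn (LP (LK LD1_c15 LD2_c30 LD3_c55))))))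
theorem f185890 : Led Lsl_ct (LP (LK LD1_c2 LD2_c41 LD3_c54)) = (LP (LK LD1_c5 LD2_c31 LD3_c19)) :=
  Lre_c IH (LK LD1_c2 LD2_c41 LD3_c54) (LK LD1_c5 LD2_c31 LD3_c19) Lrfl Lrfl
theorem f185891 : Led Lsl_gt (LP (LK LD1_c5 LD2_c31 LD3_c19)) = (LP (LK LD1_c10 LD2_c54 LD3_c14)) :=
  Lre_g IH (LK LD1_c5 LD2_c31 LD3_c19) (LK LD1_c10 LD2_c54 LD3_c14) Lrfl Lrfl
theorem f367860 : Led Lsl_dt (LP (LK LD1_c8 LD2_c26 LD3_c55)) = (LP (LK LD1_c15 LD2_c30 LD3_c55)) :=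
  Lgr Lrot42 (Lpr_df (f367856 IH) (Lpn (LP (LK LD1_c15 LD2_c30 LD3_c55))))
theorem f369996 : Led Lsl_ct (LP (LK LD1_c10 LD2_c54 LD3_c14)) = (LP (LK LD1_c8 LD2_c26 LD3_c55)) :=
  Lgr Lrot110 (Lpe (f185891 IH) (Lpe (f185890 IH) (Lpe (K18.f185887 IH) (Lpe (K15.f212210 IH) (Lpe (K22.f257158 IH) (Lpr_ct (K16.f171556 IH) (Lpr_gt (f171576 IH) (Lpr_ct (f369988 IH) (Lpe (f367860 IH) (Lpn (LP (LK LD1_c8 LD2_c26 LD3_c55))))))))))))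
theorem f201139 : Led Lsl_ct (LP (LK LD1_c4 LD2_c14 LD3_c10)) = (LP (LK LD1_c8 LD2_c26 LD3_c51)) :=
  Lre_c IH (LK LD1_c4 LD2_c14 LD3_c10) (LK LD1_c8 LD2_c26 LD3_c51) Lrfl Lrfl
theorem f370001 : Led Lsl_ff (LP (LK LD1_c10 LD2_c54 LD3_c14)) = (LP (LK LD1_c8 LD2_c26 LD3_c51)) :=
  Lgr Lrot23 (Lpr_ct (f369996 IH) (Lpr_ft (K26.f201154 IH) (Lpr_ct (f201139 IH) (Lpn (LP (LK LD1_c8 LD2_c26 LD3_c51))))))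
theorem f370005 : Led Lsl_ft (LP (LK LD1_c10 LD2_c54 LD3_c14)) = (LP (LK LD1_c8 LD2_c26 LD3_c51)) :=
  Lgr Lrot48 (Lpr_ff (f370001 IH) (Lpn (LP (LK LD1_c8 LD2_c26 LD3_c51))))
theorem f188620 : Led Lsl_et (LP (LK LD1_c8 LD2_c26 LD3_c51)) = (LP (LK LD1_c4 LD2_c14 LD3_c9)) :=
  Lre_e IH (LK LD1_c8 LD2_c26 LD3_c51) (LK LD1_c4 LD2_c14 LD3_c9) Lrfl Lrfl
theorem f369277 : Led Lsl_ft (LP (LK LD1_c4 LD2_c14 LD3_c9)) = (LP (LK LD1_c4 LD2_c55 LD3_c25)) :=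
  Lgr Lrot54 (Lpe (K16.f188610 IH) (Lpr_ff (f369274 IH) (Lpe (K18.f217487 IH) (Lpn (LP (LK LD1_c4 LD2_c55 LD3_c25))))))
theorem f367333 : Led Lsl_ff (LP (LK LD1_c16 LD2_c46 LD3_c49)) = (LP (LK LD1_c9 LD2_c42 LD3_c26)) :=
  Lgr Lrot23 (Lpr_ct (f367328 IH) (Lpr_ft (K15.f217510 IH) (Lpr_ct (K23.f217615 IH) (Lpn (LP (LK LD1_c9 LD2_c42 LD3_c26))))))
theorem f370007 : Led Lsl_ef (LP (LK LD1_c10 LD2_c54 LD3_c14)) = (LP (LK LD1_c16 LD2_c46 LD3_c49)) :=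
  Lgr Lrot21 (Lpr_ft (f370005 IH) (Lpr_et (f188620 IH) (Lpr_ft (f369277 IH) (Lpr_et (K24.f301453 IH) (Lpe (f367333 IH) (Lpn (LP (LK LD1_c16 LD2_c46 LD3_c49))))))))
theorem f370011 : Led Lsl_et (LP (LK LD1_c10 LD2_c54 LD3_c14)) = (LP (LK LD1_c16 LD2_c46 LD3_c49)) :=
  Lgr Lrot87 (Lpr_ef (f370007 IH) (Lpn (LP (LK LD1_c16 LD2_c46 LD3_c49))))
theorem f337598 : Led Lsl_et (LP (LK LD1_c4 LD2_c14 LD3_c9)) = (LP (LK LD1_c8 LD2_c26 LD3_c51)) :=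
  Lre_e IH (LK LD1_c4 LD2_c14 LD3_c9) (LK LD1_c8 LD2_c26 LD3_c51) Lrfl Lrfl
theorem f222183 : Led Lsl_bt (LP (LK LD1_c9 LD2_c42 LD3_c24)) = (LP (LK LD1_c4 LD2_c55 LD3_c25)) :=
  Lre_b IH (LK LD1_c9 LD2_c42 LD3_c24) (LK LD1_c4 LD2_c55 LD3_c25) Lrfl Lrfl
theorem f369263 : Led Lsl_ff (LP (LK LD1_c4 LD2_c14 LD3_c9)) = (LP (LK LD1_c4 LD2_c55 LD3_c25)) :=
  Lgr Lrot25 (Lpr_bt (K18.f201182 IH) (Lpr_ft (f369176 IH) (Lpr_bt (f222183 IH) (Lpn (LP (LK LD1_c4 LD2_c55 LD3_c25))))))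
theorem f222185 : Led Lsl_et (LP (LK LD1_c9 LD2_c42 LD3_c26)) = (LP (LK LD1_c4 LD2_c55 LD3_c25)) :=
  Lre_e IH (LK LD1_c9 LD2_c42 LD3_c26) (LK LD1_c4 LD2_c55 LD3_c25) Lrfl Lrfl
theorem f370014 : Led Lsl_ff (LP (LK LD1_c9 LD2_c42 LD3_c26)) = (LP (LK LD1_c16 LD2_c46 LD3_c49)) :=
  Lgr Lrot72 (Lpr_et (f222185 IH) (Lpe (f369263 IH) (Lpr_et (f337598 IH) (Lpe (f370001 IH) (Lpr_et (f370011 IH) (Lpn (LP (LK LD1_c16 LD2_c46 LD3_c49))))))))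
theorem f370016 : Led Lsl_at (LP (LK LD1_c9 LD2_c42 LD3_c26)) = (LP (LK LD1_c8 LD2_c26 LD3_c59)) :=
  Lgr Lrot66 (Lpr_ff (f370014 IH) (Lpr_af (f361791 IH) (Lpe (f361790 IH) (Lpn (LP (LK LD1_c8 LD2_c26 LD3_c59))))))
theorem f188908 : Led Lsl_et (LP (LK LD1_c8 LD2_c26 LD3_c59)) = (LP (LK LD1_c4 LD2_c14 LD3_c12)) :=
  Lre_e IH (LK LD1_c8 LD2_c26 LD3_c59) (LK LD1_c4 LD2_c14 LD3_c12) Lrfl Lrfl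
theorem f370020 : Led Lsl_af (LP (LK LD1_c4 LD2_c55 LD3_c25)) = (LP (LK LD1_c4 LD2_c14 LD3_c12)) :=
  Lgr Lrot50 (Lpr_et (K24.f301453 IH) (Lpr_at (f370016 IH) (Lpr_et (f188908 IH) (Lpn (LP (LK LD1_c4 LD2_c14 LD3_c12))))))
theorem f370030 : Led Lsl_ft (LP (LK LD1_c5 LD2_c14 LD3_c59)) = (LP (LK LD1_c4 LD2_c14 LD3_c12)) :=
  Lgr Lrot2 (Lpe (K18.f295173 IH) (Lpe (K18.f295292 IH) (Lpr_af (f370020 IH) (Lpn (LP (LK LD1_c4 LD2_c14 LD3_c12))))))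
theorem f370036 : Led Lsl_ff (LP (LK LD1_c5 LD2_c14 LD3_c59)) = (LP (LK LD1_c4 LD2_c14 LD3_c12)) :=
  Lgr Lrot3 (Lpr_ft (f370030 IH) (Lpn (LP (LK LD1_c4 LD2_c14 LD3_c12))))
theorem f188902 : Led Lsl_dt (LP (LK LD1_c8 LD2_c26 LD3_c58)) = (LP (LK LD1_c4 LD2_c14 LD3_c12)) :=
  Lre_d IH (LK LD1_c8 LD2_c26 LD3_c58) (LK LD1_c4 LD2_c14 LD3_c12) Lrfl Lrfl
theorem f370042 : Led Lsl_ft (LP (LK LD1_c10 LD2_c19 LD3_c20)) = (LP (LK LD1_c8 LD2_c26 LD3_c58)) :=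
  Lgr Lrot54 (Lpe (K18.f54452 IH) (Lpr_ff (f370036 IH) (Lpe (f188902 IH) (Lpn (LP (LK LD1_c8 LD2_c26 LD3_c58))))))
theorem f370044 : Led Lsl_af (LP (LK LD1_c9 LD2_c42 LD3_c25)) = (LP (LK LD1_c8 LD2_c26 LD3_c58)) :=
  Lgr Lrot45 (Lpe (f369274 IH) (Lpr_at (f369279 IH) (Lpr_ft (f370042 IH) (Lpn (LP (LK LD1_c8 LD2_c26 LD3_c58))))))
theorem f295410 : Led Lsl_bt (LP (LK LD1_c9 LD2_c42 LD3_c25)) = (LP (LK LD1_c17 LD2_c51 LD3_c10)) :=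
  Lre_b IH (LK LD1_c9 LD2_c42 LD3_c25) (LK LD1_c17 LD2_c51 LD3_c10) Lrfl Lrfl
theorem f369273 : Led Lsl_at (LP (LK LD1_c17 LD2_c51 LD3_c10)) = (LP (LK LD1_c27 LD2_c38 LD3_c2)) :=
  Lre_a IH (LK LD1_c17 LD2_c51 LD3_c10) (LK LD1_c27 LD2_c38 LD3_c2) Lrfl Lrfl
theorem f221256 : Led Lsl_bt (LP (LK LD1_c15 LD2_c51 LD3_c47)) = (LP (LK LD1_c8 LD2_c26 LD3_c58)) :=
  Lre_b IH (LK LD1_c15 LD2_c51 LD3_c47) (LK LD1_c8 LD2_c26 LD3_c58) Lrfl Lrfl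
theorem f370046 : Led Lsl_at (LP (LK LD1_c25 LD2_c47 LD3_c28)) = (LP (LK LD1_c15 LD2_c51 LD3_c47)) :=
  Lre_a IH (LK LD1_c25 LD2_c47 LD3_c28) (LK LD1_c15 LD2_c51 LD3_c47) Lrfl Lrfl
theorem f370047 : Led Lsl_bt (LP (LK LD1_c27 LD2_c38 LD3_c2)) = (LP (LK LD1_c25 LD2_c47 LD3_c28)) :=
  Lgr Lrot62 (Lpe (f369273 IH) (Lpe (f295410 IH) (Lpr_af (f370044 IH) (Lpe (f221256 IH) (Lpe (f370046 IH) (Lpn (LP (LK LD1_c25 LD2_c47 LD3_c28))))))))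
theorem f369167 : Led Lsl_dt (LP (LK LD1_c17 LD2_c51 LD3_c9)) = (LP (LK LD1_c27 LD2_c38 LD3_c2)) :=
  Lre_d IH (LK LD1_c17 LD2_c51 LD3_c9) (LK LD1_c27 LD2_c38 LD3_c2) Lrfl Lrfl
theorem f221515 : Led Lsl_dt (LP (LK LD1_c25 LD2_c47 LD3_c28)) = (LP (LK LD1_c15 LD2_c51 LD3_c46)) :=
  Lre_d IH (LK LD1_c25 LD2_c47 LD3_c28) (LK LD1_c15 LD2_c51 LD3_c46) Lrfl Lrfl
theorem f370058 : Led Lsl_bf (LP (LK LD1_c17 LD2_c51 LD3_c9)) = (LP (LK LD1_c15 LD2_c51 LD3_c46)) :=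
  Lgr Lrot93 (Lpr_dt (f369167 IH) (Lpr_bt (f370047 IH) (Lpr_dt (f221515 IH) (Lpn (LP (LK LD1_c15 LD2_c51 LD3_c46))))))
theorem f369163 : Led Lsl_ct (LP (LK LD1_c17 LD2_c51 LD3_c9)) = (LP (LK LD1_c9 LD2_c42 LD3_c32)) :=
  Lre_c IH (LK LD1_c17 LD2_c51 LD3_c9) (LK LD1_c9 LD2_c42 LD3_c32) Lrfl Lrfl
theorem f221444 : Led Lsl_ft (LP (LK LD1_c16 LD2_c36 LD3_c43)) = (LP (LK LD1_c8 LD2_c53 LD3_c6)) :=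
  Lre_f IH (LK LD1_c16 LD2_c36 LD3_c43) (LK LD1_c8 LD2_c53 LD3_c6) Lrfl Lrfl
theorem f221445 : Led Lsl_ct (LP (LK LD1_c15 LD2_c51 LD3_c44)) = (LP (LK LD1_c16 LD2_c36 LD3_c43)) :=
  Lgr Lrot40 (Lpe (f221443 IH) (Lpr_cf (f220868 IH) (Lpe (f221444 IH) (Lpn (LP (LK LD1_c16 LD2_c36 LD3_c43))))))
theorem f221460 : Led Lsl_cf (LP (LK LD1_c15 LD2_c51 LD3_c44)) = (LP (LK LD1_c16 LD2_c36 LD3_c43)) :=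
  Lgr Lrot11 (Lpr_ct (f221445 IH) (Lpn (LP (LK LD1_c16 LD2_c36 LD3_c43))))
theorem f221464 : Led Lsl_bt (LP (LK LD1_c15 LD2_c51 LD3_c44)) = (LP (LK LD1_c8 LD2_c27 LD3_c1)) :=
  Lre_b IH (LK LD1_c15 LD2_c51 LD3_c44) (LK LD1_c8 LD2_c27 LD3_c1) Lrfl Lrfl
theorem f221466 : Led Lsl_bt (LP (LK LD1_c15 LD2_c51 LD3_c51)) = (LP (LK LD1_c25 LD2_c47 LD3_c35)) :=
  Lre_b IH (LK LD1_c15 LD2_c51 LD3_c51) (LK LD1_c25 LD2_c47 LD3_c35) Lrfl Lrfl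
theorem f221467 : Led Lsl_bt (LP (LK LD1_c26 LD2_c33 LD3_c39)) = (LP (LK LD1_c16 LD2_c36 LD3_c43)) :=
  Lre_b IH (LK LD1_c26 LD2_c33 LD3_c39) (LK LD1_c16 LD2_c36 LD3_c43) Lrfl Lrfl
theorem f221468 : Led Lsl_ct (LP (LK LD1_c25 LD2_c47 LD3_c35)) = (LP (LK LD1_c26 LD2_c33 LD3_c39)) :=
  Lgr Lrot83 (Lpe (f221466 IH) (Lpe (f221465 IH) (Lpe (f221464 IH) (Lpr_cf (f221460 IH) (Lpe (f221467 IH) (Lpn (LP (LK LD1_c26 LD2_c33 LD3_c39))))))))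
theorem f221474 : Led Lsl_ft (LP (LK LD1_c15 LD2_c51 LD3_c48)) = (LP (LK LD1_c25 LD2_c47 LD3_c35)) :=
  Lre_f IH (LK LD1_c15 LD2_c51 LD3_c48) (LK LD1_c25 LD2_c47 LD3_c35) Lrfl Lrfl
theorem f221475 : Led Lsl_ft (LP (LK LD1_c26 LD2_c33 LD3_c39)) = (LP (LK LD1_c16 LD2_c36 LD3_c40)) :=
  Lre_f IH (LK LD1_c26 LD2_c33 LD3_c39) (LK LD1_c16 LD2_c36 LD3_c40) Lrfl Lrfl
theorem f221476 : Led Lsl_cf (LP (LK LD1_c15 LD2_c51 LD3_c48)) = (LP (LK LD1_c16 LD2_c36 LD3_c40)) :=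
  Lgr Lrot108 (Lpr_ft (f221474 IH) (Lpr_ct (f221468 IH) (Lpr_ft (f221475 IH) (Lpn (LP (LK LD1_c16 LD2_c36 LD3_c40))))))
theorem f221308 : Led Lsl_et (LP (LK LD1_c15 LD2_c51 LD3_c48)) = (LP (LK LD1_c8 LD2_c26 LD3_c57)) :=
  Lre_e IH (LK LD1_c15 LD2_c51 LD3_c48) (LK LD1_c8 LD2_c26 LD3_c57) Lrfl Lrfl
theorem f221486 : Led Lsl_et (LP (LK LD1_c8 LD2_c53 LD3_c4)) = (LP (LK LD1_c16 LD2_c36 LD3_c40)) :=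
  Lre_e IH (LK LD1_c8 LD2_c53 LD3_c4) (LK LD1_c16 LD2_c36 LD3_c40) Lrfl Lrfl
theorem f221487 : Led Lsl_ct (LP (LK LD1_c8 LD2_c26 LD3_c57)) = (LP (LK LD1_c8 LD2_c53 LD3_c4)) :=
  Lgr Lrot15 (Lpe (f221308 IH) (Lpr_cf (f221476 IH) (Lpe (f221486 IH) (Lpn (LP (LK LD1_c8 LD2_c53 LD3_c4))))))
theorem f221498 : Led Lsl_at (LP (LK LD1_c15 LD2_c51 LD3_c46)) = (LP (LK LD1_c8 LD2_c26 LD3_c57)) :=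
  Lre_a IH (LK LD1_c15 LD2_c51 LD3_c46) (LK LD1_c8 LD2_c26 LD3_c57) Lrfl Lrfl
theorem f221499 : Led Lsl_at (LP (LK LD1_c8 LD2_c53 LD3_c4)) = (LP (LK LD1_c16 LD2_c36 LD3_c39)) :=
  Lre_a IH (LK LD1_c8 LD2_c53 LD3_c4) (LK LD1_c16 LD2_c36 LD3_c39) Lrfl Lrfl
theorem f221500 : Led Lsl_cf (LP (LK LD1_c15 LD2_c51 LD3_c46)) = (LP (LK LD1_c16 LD2_c36 LD3_c39)) :=
  Lgr Lrot1 (Lpr_at (f221498 IH) (Lpr_ct (f221487 IH) (Lpr_at (f221499 IH) (Lpn (LP (LK LD1_c16 LD2_c36 LD3_c39))))))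
theorem f187444 : Led Lsl_bt (LP (LK LD1_c2 LD2_c11 LD3_c19)) = (LP (LK LD1_c4 LD2_c28 LD3_c26)) :=
  Lre_b IH (LK LD1_c2 LD2_c11 LD3_c19) (LK LD1_c4 LD2_c28 LD3_c26) Lrfl Lrfl
theorem f367563 : Led Lsl_at (LP (LK LD1_c4 LD2_c28 LD3_c26)) = (LP (LK LD1_c8 LD2_c54 LD3_c59)) :=
  Lre_a IH (LK LD1_c4 LD2_c28 LD3_c26) (LK LD1_c8 LD2_c54 LD3_c59) Lrfl Lrfl
theorem f220805 : Led Lsl_bt (LP (LK LD1_c8 LD2_c53 LD3_c4)) = (LP (LK LD1_c4 LD2_c27 LD3_c37)) :=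
  Lre_b IH (LK LD1_c8 LD2_c53 LD3_c4) (LK LD1_c4 LD2_c27 LD3_c37) Lrfl Lrfl
theorem f221502 : Led Lsl_at (LP (LK LD1_c16 LD2_c36 LD3_c39)) = (LP (LK LD1_c8 LD2_c53 LD3_c4)) :=
  Lre_a IH (LK LD1_c16 LD2_c36 LD3_c39) (LK LD1_c8 LD2_c53 LD3_c4) Lrfl Lrfl
theorem f367564 : Led Lsl_bt (LP (LK LD1_c8 LD2_c54 LD3_c59)) = (LP (LK LD1_c16 LD2_c36 LD3_c39)) :=
  Lgr Lrot62 (Lpe (f367563 IH) (Lpe (f187444 IH) (Lpr_af (f367559 IH) (Lpe (f220805 IH) (Lpe (f221502 IH) (Lpn (LP (LK LD1_c16 LD2_c36 LD3_c39))))))))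
theorem f369170 : Led Lsl_ct (LP (LK LD1_c16 LD2_c40 LD3_c53)) = (LP (LK LD1_c8 LD2_c54 LD3_c59)) :=
  Lre_c IH (LK LD1_c16 LD2_c40 LD3_c53) (LK LD1_c8 LD2_c54 LD3_c59) Lrfl Lrfl
theorem f370060 : Led Lsl_bt (LP (LK LD1_c9 LD2_c42 LD3_c32)) = (LP (LK LD1_c16 LD2_c40 LD3_c53)) :=
  Lgr Lrot128 (Lpe (f369163 IH) (Lpr_bf (f370058 IH) (Lpr_cf (f221500 IH) (Lpe (f367564 IH) (Lpe (f369170 IH) (Lpn (LP (LK LD1_c16 LD2_c40 LD3_c53))))))))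
theorem f367379 : Led Lsl_bt (LP (LK LD1_c2 LD2_c25 LD3_c36)) = (LP (LK LD1_c4 LD2_c55 LD3_c27)) :=
  Lre_b IH (LK LD1_c2 LD2_c25 LD3_c36) (LK LD1_c4 LD2_c55 LD3_c27) Lrfl Lrfl
theorem f367388 : Led Lsl_at (LP (LK LD1_c4 LD2_c54 LD3_c36)) = (LP (LK LD1_c2 LD2_c25 LD3_c36)) :=
  Lgr Lrot100 (Lpr_af (f367386 IH) (Lpn (LP (LK LD1_c2 LD2_c25 LD3_c36))))
theorem f370062 : Led Lsl_at (LP (LK LD1_c16 LD2_c40 LD3_c53)) = (LP (LK LD1_c8 LD2_c54 LD3_c60)) :=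
  Lre_a IH (LK LD1_c16 LD2_c40 LD3_c53) (LK LD1_c8 LD2_c54 LD3_c60) Lrfl Lrfl
theorem f370063 : Led Lsl_bf (LP (LK LD1_c4 LD2_c54 LD3_c36)) = (LP (LK LD1_c8 LD2_c54 LD3_c60)) :=
  Lgr Lrot81 (Lpr_at (f367388 IH) (Lpr_bt (f367379 IH) (Lpr_at (f369154 IH) (Lpr_bt (f370060 IH) (Lpr_at (f370062 IH) (Lpn (LP (LK LD1_c8 LD2_c54 LD3_c60))))))))
theorem f168596 : Led Lsl_bt (LP (LK LD1_c2 LD2_c25 LD3_c33)) = (LP (LK LD1_c4 LD2_c55 LD3_c18)) :=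
  Lre_b IH (LK LD1_c2 LD2_c25 LD3_c33) (LK LD1_c4 LD2_c55 LD3_c18) Lrfl Lrfl
theorem f370068 : Led Lsl_ft (LP (LK LD1_c4 LD2_c55 LD3_c18)) = (LP (LK LD1_c8 LD2_c54 LD3_c60)) :=
  Lgr Lrot75 (Lpe (f168596 IH) (Lpe (f369055 IH) (Lpr_bf (f370063 IH) (Lpn (LP (LK LD1_c8 LD2_c54 LD3_c60))))))
theorem f168619 : Led Lsl_dt (LP (LK LD1_c9 LD2_c42 LD3_c11)) = (LP (LK LD1_c4 LD2_c55 LD3_c18)) :=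
  Lre_d IH (LK LD1_c9 LD2_c42 LD3_c11) (LK LD1_c4 LD2_c55 LD3_c18) Lrfl Lrfl
theorem f370099 : Led Lsl_dt (LP (LK LD1_c8 LD2_c54 LD3_c60)) = (LP (LK LD1_c16 LD2_c40 LD3_c57)) :=
  Lre_d IH (LK LD1_c8 LD2_c54 LD3_c60) (LK LD1_c16 LD2_c40 LD3_c57) Lrfl Lrfl
theorem f370100 : Led Lsl_ff (LP (LK LD1_c9 LD2_c42 LD3_c11)) = (LP (LK LD1_c16 LD2_c40 LD3_c57)) :=
  Lgr Lrot19 (Lpr_dt (f168619 IH) (Lpr_ft (f370068 IH) (Lpr_dt (f370099 IH) (Lpn (LP (LK LD1_c16 LD2_c40 LD3_c57))))))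
theorem f370114 : Led Lsl_ft (LP (LK LD1_c9 LD2_c42 LD3_c11)) = (LP (LK LD1_c16 LD2_c40 LD3_c57)) :=
  Lgr Lrot48 (Lpr_ff (f370100 IH) (Lpn (LP (LK LD1_c16 LD2_c40 LD3_c57))))
theorem f263869 : Led Lsl_bt (LP (LK LD1_c4 LD2_c55 LD3_c19)) = (LP (LK LD1_c9 LD2_c42 LD3_c11)) :=
  Lre_b IH (LK LD1_c4 LD2_c55 LD3_c19) (LK LD1_c9 LD2_c42 LD3_c11) Lrfl Lrfl
theorem f370117 : Led Lsl_bf (LP (LK LD1_c9 LD2_c40 LD3_c47)) = (LP (LK LD1_c16 LD2_c40 LD3_c57)) :=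
  Lgr Lrot61 (Lpr_ft (f369067 IH) (Lpr_bt (f263869 IH) (Lpr_ft (f370114 IH) (Lpn (LP (LK LD1_c16 LD2_c40 LD3_c57))))))
theorem f221577 : Led Lsl_bt (LP (LK LD1_c5 LD2_c20 LD3_c56)) = (LP (LK LD1_c10 LD2_c31 LD3_c58)) :=
  Lre_b IH (LK LD1_c5 LD2_c20 LD3_c56) (LK LD1_c10 LD2_c31 LD3_c58) Lrfl Lrfl
theorem f168009 : Led Lsl_ct (LP (LK LD1_c10 LD2_c31 LD3_c58)) = (LP (LK LD1_c19 LD2_c4 LD3_c56)) :=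
  Lre_c IH (LK LD1_c10 LD2_c31 LD3_c58) (LK LD1_c19 LD2_c4 LD3_c56) Lrfl Lrfl
theorem f370111 : Led Lsl_ct (LP (LK LD1_c26 LD2_c39 LD3_c43)) = (LP (LK LD1_c16 LD2_c40 LD3_c57)) :=
  Lre_c IH (LK LD1_c26 LD2_c39 LD3_c43) (LK LD1_c16 LD2_c40 LD3_c57) Lrfl Lrfl
theorem f370122 : Led Lsl_bt (LP (LK LD1_c19 LD2_c4 LD3_c56)) = (LP (LK LD1_c26 LD2_c39 LD3_c43)) :=
  Lgr Lrot128 (Lpe (f168009 IH) (Lpe (f221577 IH) (Lpe (K25.f221548 IH) (Lpr_bf (f370117 IH) (Lpe (f370111 IH) (Lpn (LP (LK LD1_c26 LD2_c39 LD3_c43))))))))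
theorem f168620 : Led Lsl_ct (LP (LK LD1_c17 LD2_c50 LD3_c49)) = (LP (LK LD1_c9 LD2_c42 LD3_c11)) :=
  Lre_c IH (LK LD1_c17 LD2_c50 LD3_c49) (LK LD1_c9 LD2_c42 LD3_c11) Lrfl Lrfl
theorem f370119 : Led Lsl_ct (LP (LK LD1_c16 LD2_c40 LD3_c57)) = (LP (LK LD1_c26 LD2_c39 LD3_c43)) :=
  Lre_c IH (LK LD1_c16 LD2_c40 LD3_c57) (LK LD1_c26 LD2_c39 LD3_c43) Lrfl Lrfl
theorem f370120 : Led Lsl_ff (LP (LK LD1_c17 LD2_c50 LD3_c49)) = (LP (LK LD1_c26 LD2_c39 LD3_c43)) :=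
  Lgr Lrot23 (Lpr_ct (f168620 IH) (Lpr_ft (f370114 IH) (Lpr_ct (f370119 IH) (Lpn (LP (LK LD1_c26 LD2_c39 LD3_c43))))))
theorem f168644 : Led Lsl_ct (LP (LK LD1_c9 LD2_c42 LD3_c11)) = (LP (LK LD1_c17 LD2_c50 LD3_c49)) :=
  Lre_c IH (LK LD1_c9 LD2_c42 LD3_c11) (LK LD1_c17 LD2_c50 LD3_c49) Lrfl Lrfl
theorem f263870 : Led Lsl_bt (LP (LK LD1_c17 LD2_c50 LD3_c49)) = (LP (LK LD1_c10 LD2_c40 LD3_c60)) :=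
  Lgr Lrot128 (Lpe (f168644 IH) (Lpe (f263869 IH) (Lpr_cf (K15.f263857 IH) (Lpe (K14.f246508 IH) (Lpe (K14.f246516 IH) (Lpn (LP (LK LD1_c10 LD2_c40 LD3_c60))))))))
theorem f370126 : Led Lsl_ff (LP (LK LD1_c19 LD2_c4 LD3_c56)) = (LP (LK LD1_c10 LD2_c40 LD3_c60)) :=
  Lgr Lrot25 (Lpr_bt (f370122 IH) (Lpe (f370120 IH) (Lpr_bt (f263870 IH) (Lpn (LP (LK LD1_c10 LD2_c40 LD3_c60))))))
theorem f168016 : Led Lsl_ct (LP (LK LD1_c19 LD2_c4 LD3_c56)) = (LP (LK LD1_c10 LD2_c31 LD3_c58)) :=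
  Lre_c IH (LK LD1_c19 LD2_c4 LD3_c56) (LK LD1_c10 LD2_c31 LD3_c58) Lrfl Lrfl
theorem f370128 : Led Lsl_ft (LP (LK LD1_c10 LD2_c31 LD3_c58)) = (LP (LK LD1_c5 LD2_c25 LD3_c5)) :=
  Lgr Lrot4 (Lpe (f168016 IH) (Lpr_ff (f370126 IH) (Lpe (K14.f246509 IH) (Lpn (LP (LK LD1_c5 LD2_c25 LD3_c5))))))
theorem f168008 : Led Lsl_dt (LP (LK LD1_c5 LD2_c20 LD3_c55)) = (LP (LK LD1_c10 LD2_c31 LD3_c58)) :=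
  Lre_d IH (LK LD1_c5 LD2_c20 LD3_c55) (LK LD1_c10 LD2_c31 LD3_c58) Lrfl Lrfl
theorem f224015 : Led Lsl_dt (LP (LK LD1_c5 LD2_c25 LD3_c5)) = (LP (LK LD1_c2 LD2_c39 LD3_c1)) :=
  Lre_d IH (LK LD1_c5 LD2_c25 LD3_c5) (LK LD1_c2 LD2_c39 LD3_c1) Lrfl Lrfl
theorem f370136 : Led Lsl_ff (LP (LK LD1_c5 LD2_c20 LD3_c55)) = (LP (LK LD1_c2 LD2_c39 LD3_c1)) :=
  Lgr Lrot19 (Lpr_dt (f168008 IH) (Lpr_ft (f370128 IH) (Lpr_dt (f224015 IH) (Lpn (LP (LK LD1_c2 LD2_c39 LD3_c1))))))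
theorem f167946 : Led Lsl_bt (LP (LK LD1_c7 LD2_c58 LD3_c12)) = (LP (LK LD1_c3 LD2_c58 LD3_c25)) :=
  Lre_b IH (LK LD1_c7 LD2_c58 LD3_c12) (LK LD1_c3 LD2_c58 LD3_c25) Lrfl Lrfl
theorem f167947 : Led Lsl_bt (LP (LK LD1_c2 LD2_c37 LD3_c5)) = (LP (LK LD1_c5 LD2_c20 LD3_c55)) :=
  Lre_b IH (LK LD1_c2 LD2_c37 LD3_c5) (LK LD1_c5 LD2_c20 LD3_c55) Lrfl Lrfl
theorem f167948 : Led Lsl_cf (LP (LK LD1_c7 LD2_c58 LD3_c12)) = (LP (LK LD1_c5 LD2_c20 LD3_c55)) :=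
  Lgr Lrot97 (Lpr_bt (f167946 IH) (Lpr_ct (K15.f42770 IH) (Lpr_bt (K12.f167945 IH) (Lpr_ct (K12.f167943 IH) (Lpr_bt (f167947 IH) (Lpn (LP (LK LD1_c5 LD2_c20 LD3_c55))))))))
theorem f370152 : Led Lsl_ft (LP (LK LD1_c7 LD2_c58 LD3_c12)) = (LP (LK LD1_c5 LD2_c25 LD3_c4)) :=
  Lgr Lrot4 (Lpr_cf (f167948 IH) (Lpr_ff (f370136 IH) (Lpe (K14.f173096 IH) (Lpn (LP (LK LD1_c5 LD2_c25 LD3_c4))))))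
theorem f370170 : Led Lsl_ff (LP (LK LD1_c7 LD2_c58 LD3_c12)) = (LP (LK LD1_c5 LD2_c25 LD3_c4)) :=
  Lgr Lrot3 (Lpr_ft (f370152 IH) (Lpn (LP (LK LD1_c5 LD2_c25 LD3_c4))))
theorem f168049 : Led Lsl_dt (LP (LK LD1_c7 LD2_c58 LD3_c12)) = (LP (LK LD1_c15 LD2_c2 LD3_c7)) :=
  Lre_d IH (LK LD1_c7 LD2_c58 LD3_c12) (LK LD1_c15 LD2_c2 LD3_c7) Lrfl Lrfl
theorem f174403 : Led Lsl_dt (LP (LK LD1_c10 LD2_c40 LD3_c56)) = (LP (LK LD1_c5 LD2_c25 LD3_c4)) :=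
  Lre_d IH (LK LD1_c10 LD2_c40 LD3_c56) (LK LD1_c5 LD2_c25 LD3_c4) Lrfl Lrfl
theorem f370181 : Led Lsl_ft (LP (LK LD1_c15 LD2_c2 LD3_c7)) = (LP (LK LD1_c10 LD2_c40 LD3_c56)) :=
  Lgr Lrot54 (Lpe (f168049 IH) (Lpr_ff (f370170 IH) (Lpe (f174403 IH) (Lpn (LP (LK LD1_c10 LD2_c40 LD3_c56))))))
theorem f295988 : Led Lsl_bt (LP (LK LD1_c7 LD2_c58 LD3_c13)) = (LP (LK LD1_c15 LD2_c2 LD3_c7)) :=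
  Lre_b IH (LK LD1_c7 LD2_c58 LD3_c13) (LK LD1_c15 LD2_c2 LD3_c7) Lrfl Lrfl
theorem f223991 : Led Lsl_bt (LP (LK LD1_c5 LD2_c25 LD3_c6)) = (LP (LK LD1_c2 LD2_c39 LD3_c4)) :=
  Lre_b IH (LK LD1_c5 LD2_c25 LD3_c6) (LK LD1_c2 LD2_c39 LD3_c4) Lrfl Lrfl
theorem f223992 : Led Lsl_ct (LP (LK LD1_c10 LD2_c40 LD3_c57)) = (LP (LK LD1_c5 LD2_c25 LD3_c6)) :=
  Lre_c IH (LK LD1_c10 LD2_c40 LD3_c57) (LK LD1_c5 LD2_c25 LD3_c6) Lrfl Lrfl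
theorem f223993 : Led Lsl_bt (LP (LK LD1_c15 LD2_c1 LD3_c4)) = (LP (LK LD1_c10 LD2_c40 LD3_c57)) :=
  Lgr Lrot128 (Lpe (K26.f223955 IH) (Lpr_bf (K26.f223989 IH) (Lpe (K26.f223919 IH) (Lpe (f223991 IH) (Lpe (f223992 IH) (Lpn (LP (LK LD1_c10 LD2_c40 LD3_c57))))))))
theorem f224001 : Led Lsl_et (LP (LK LD1_c10 LD2_c40 LD3_c57)) = (LP (LK LD1_c5 LD2_c25 LD3_c4)) :=
  Lre_e IH (LK LD1_c10 LD2_c40 LD3_c57) (LK LD1_c5 LD2_c25 LD3_c4) Lrfl Lrfl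
theorem f224002 : Led Lsl_bf (LP (LK LD1_c7 LD2_c57 LD3_c43)) = (LP (LK LD1_c5 LD2_c25 LD3_c4)) :=
  Lgr Lrot96 (Lpr_et (f224000 IH) (Lpr_bt (f223993 IH) (Lpr_et (f224001 IH) (Lpn (LP (LK LD1_c5 LD2_c25 LD3_c4))))))
theorem f224013 : Led Lsl_bt (LP (LK LD1_c15 LD2_c1 LD3_c3)) = (LP (LK LD1_c10 LD2_c40 LD3_c56)) :=
  Lgr Lrot95 (Lpe (K18.f224012 IH) (Lpr_bf (f224002 IH) (Lpe (f174403 IH) (Lpn (LP (LK LD1_c10 LD2_c40 LD3_c56))))))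
theorem f224021 : Led Lsl_bf (LP (LK LD1_c15 LD2_c1 LD3_c3)) = (LP (LK LD1_c10 LD2_c40 LD3_c56)) :=
  Lgr Lrot24 (Lpr_bt (f224013 IH) (Lpn (LP (LK LD1_c10 LD2_c40 LD3_c56))))
theorem f370197 : Led Lsl_ff (LP (LK LD1_c7 LD2_c58 LD3_c13)) = (LP (LK LD1_c15 LD2_c1 LD3_c3)) :=
  Lgr Lrot25 (Lpr_bt (f295988 IH) (Lpr_ft (f370181 IH) (Lpe (f224021 IH) (Lpn (LP (LK LD1_c15 LD2_c1 LD3_c3))))))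
theorem f370203 : Led Lsl_at (LP (LK LD1_c7 LD2_c58 LD3_c13)) = (LP (LK LD1_c15 LD2_c0 LD3_c61)) :=
  Lgr Lrot33 (Lpr_ff (f370197 IH) (Lpr_dt (K18.f224027 IH) (Lpr_ct (K16.f173837 IH) (Lpr_dt (K18.f223908 IH) (Lpr_ct (K15.f191058 IH) (Lpe (K26.f359462 IH) (Lpr_ct (K26.f359452 IH) (Lpr_dt (K18.f199798 IH) (Lpr_ct (K22.f336262 IH) (Lpn (LP (LK LD1_c15 LD2_c0 LD3_c61))))))))))))
theorem f217833 : Led Lsl_gt (LP (LK LD1_c3 LD2_c58 LD3_c17)) = (LP (LK LD1_c7 LD2_c57 LD3_c56)) :=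
  Lre_g IH (LK LD1_c3 LD2_c58 LD3_c17) (LK LD1_c7 LD2_c57 LD3_c56) Lrfl Lrfl
theorem f221649 : Led Lsl_dt (LP (LK LD1_c7 LD2_c57 LD3_c56)) = (LP (LK LD1_c15 LD2_c1 LD3_c28)) :=
  Lre_d IH (LK LD1_c7 LD2_c57 LD3_c56) (LK LD1_c15 LD2_c1 LD3_c28) Lrfl Lrfl
theorem f254024 : Led Lsl_gf (LP (LK LD1_c15 LD2_c0 LD3_c61)) = (LP (LK LD1_c15 LD2_c1 LD3_c28)) :=
  Lgr Lrot143 (Lpr_dt (K26.f189490 IH) (Lpe (K16.f189484 IH) (Lpe (K13.f189453 IH) (Lpr_gf (K14.f253585 IH) (Lpr_df (K14.f254012 IH) (Lpe (K14.f42731 IH) (Lpe (K18.f190815 IH) (Lpr_gt (f217833 IH) (Lpr_dt (f221649 IH) (Lpn (LP (LK LD1_c15 LD2_c1 LD3_c28))))))))))))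
theorem f370214 : Led Lsl_gt (LP (LK LD1_c15 LD2_c1 LD3_c3)) = (LP (LK LD1_c15 LD2_c1 LD3_c28)) :=
  Lgr Lrot5 (Lpe (f370197 IH) (Lpr_at (f370203 IH) (Lpr_gf (f254024 IH) (Lpn (LP (LK LD1_c15 LD2_c1 LD3_c28))))))
theorem f212823 : Led Lsl_dt (LP (LK LD1_c15 LD2_c41 LD3_c49)) = (LP (LK LD1_c25 LD2_c37 LD3_c26)) :=
  Lre_d IH (LK LD1_c15 LD2_c41 LD3_c49) (LK LD1_c25 LD2_c37 LD3_c26) Lrfl Lrfl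
theorem f54548 : Led Lsl_gf (LP (LK LD1_c7 LD2_c58 LD3_c43)) = (LP (LK LD1_c8 LD2_c13 LD3_c9)) :=
  Lgr Lrot47 (Lpr_gt (K23.f41342 IH) (Lpe (K1.f41105 IH) (Lpr_ff (K1.f54535 IH) (Lpn (LP (LK LD1_c8 LD2_c13 LD3_c9))))))
theorem f183570 : Led Lsl_dt (LP (LK LD1_c15 LD2_c28 LD3_c29)) = (LP (LK LD1_c25 LD2_c20 LD3_c42)) :=
  Lre_d IH (LK LD1_c15 LD2_c28 LD3_c29) (LK LD1_c25 LD2_c20 LD3_c42) Lrfl Lrfl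
theorem f351908 : Led Lsl_ct (LP (LK LD1_c19 LD2_c59 LD3_c33)) = (LP (LK LD1_c11 LD2_c6 LD3_c4)) :=
  Lre_c IH (LK LD1_c19 LD2_c59 LD3_c33) (LK LD1_c11 LD2_c6 LD3_c4) Lrfl Lrfl
theorem f351944 : Led Lsl_dt (LP (LK LD1_c29 LD2_c14 LD3_c27)) = (LP (LK LD1_c19 LD2_c59 LD3_c33)) :=
  Lre_d IH (LK LD1_c29 LD2_c14 LD3_c27) (LK LD1_c19 LD2_c59 LD3_c33) Lrfl Lrfl
theorem f351945 : Led Lsl_gt (LP (LK LD1_c25 LD2_c20 LD3_c42)) = (LP (LK LD1_c29 LD2_c14 LD3_c27)) :=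
  Lgr Lrot49 (Lpe (f183570 IH) (Lpr_gf (K22.f324013 IH) (Lpe (K22.f41347 IH) (Lpr_gt (K14.f54985 IH) (Lpe (K1.f47853 IH) (Lpe (f54548 IH) (Lpr_dt (K26.f351941 IH) (Lpe (f351908 IH) (Lpe (f351944 IH) (Lpn (LP (LK LD1_c29 LD2_c14 LD3_c27))))))))))))
theorem f217997 : Led Lsl_dt (LP (LK LD1_c24 LD2_c50 LD3_c34)) = (LP (LK LD1_c15 LD2_c2 LD3_c3)) :=
  Lre_d IH (LK LD1_c24 LD2_c50 LD3_c34) (LK LD1_c15 LD2_c2 LD3_c3) Lrfl Lrfl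
theorem f217998 : Led Lsl_ff (LP (LK LD1_c24 LD2_c50 LD3_c34)) = (LP (LK LD1_c25 LD2_c20 LD3_c42)) :=
  Lgr Lrot19 (Lpr_dt (f217997 IH) (Lpr_ft (K15.f217990 IH) (Lpr_dt (f183570 IH) (Lpn (LP (LK LD1_c25 LD2_c20 LD3_c42))))))
theorem f218000 : Led Lsl_dt (LP (LK LD1_c15 LD2_c2 LD3_c3)) = (LP (LK LD1_c24 LD2_c50 LD3_c34)) :=
  Lre_d IH (LK LD1_c15 LD2_c2 LD3_c3) (LK LD1_c24 LD2_c50 LD3_c34) Lrfl Lrfl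
theorem f212821 : Led Lsl_dt (LP (LK LD1_c25 LD2_c37 LD3_c26)) = (LP (LK LD1_c15 LD2_c41 LD3_c49)) :=
  Lre_d IH (LK LD1_c25 LD2_c37 LD3_c26) (LK LD1_c15 LD2_c41 LD3_c49) Lrfl Lrfl
theorem f275602 : Led Lsl_at (LP (LK LD1_c24 LD2_c50 LD3_c34)) = (LP (LK LD1_c25 LD2_c37 LD3_c26)) :=
  Lgr Lrot51 (Lpe (f218000 IH) (Lpr_af (K16.f275598 IH) (Lpe (f212821 IH) (Lpn (LP (LK LD1_c25 LD2_c37 LD3_c26))))))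
theorem f351948 : Led Lsl_gf (LP (LK LD1_c25 LD2_c37 LD3_c26)) = (LP (LK LD1_c29 LD2_c14 LD3_c27)) :=
  Lgr Lrot76 (Lpe (f275602 IH) (Lpr_ff (f217998 IH) (Lpr_gt (f351945 IH) (Lpn (LP (LK LD1_c29 LD2_c14 LD3_c27))))))
theorem f351943 : Led Lsl_dt (LP (LK LD1_c19 LD2_c59 LD3_c33)) = (LP (LK LD1_c29 LD2_c14 LD3_c27)) :=
  Lre_d IH (LK LD1_c19 LD2_c59 LD3_c33) (LK LD1_c29 LD2_c14 LD3_c27) Lrfl Lrfl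
theorem f254088 : Led Lsl_ct (LP (LK LD1_c24 LD2_c49 LD3_c23)) = (LP (LK LD1_c15 LD2_c1 LD3_c24)) :=
  Lre_c IH (LK LD1_c24 LD2_c49 LD3_c23) (LK LD1_c15 LD2_c1 LD3_c24) Lrfl Lrfl
theorem f351909 : Led Lsl_ct (LP (LK LD1_c11 LD2_c6 LD3_c4)) = (LP (LK LD1_c19 LD2_c59 LD3_c33)) :=
  Lre_c IH (LK LD1_c11 LD2_c6 LD3_c4) (LK LD1_c19 LD2_c59 LD3_c33) Lrfl Lrfl
theorem f351916 : Led Lsl_ef (LP (LK LD1_c24 LD2_c49 LD3_c23)) = (LP (LK LD1_c19 LD2_c59 LD3_c33)) :=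
  Lgr Lrot28 (Lpr_ct (f254088 IH) (Lpr_et (K25.f351912 IH) (Lpr_ct (f351909 IH) (Lpn (LP (LK LD1_c19 LD2_c59 LD3_c33))))))
theorem f254032 : Led Lsl_et (LP (LK LD1_c7 LD2_c57 LD3_c56)) = (LP (LK LD1_c15 LD2_c1 LD3_c29)) :=
  Lre_e IH (LK LD1_c7 LD2_c57 LD3_c56) (LK LD1_c15 LD2_c1 LD3_c29) Lrfl Lrfl
theorem f370227 : Led Lsl_gf (LP (LK LD1_c24 LD2_c49 LD3_c23)) = (LP (LK LD1_c15 LD2_c1 LD3_c29)) :=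
  Lgr Lrot141 (Lpr_ef (f351916 IH) (Lpr_dt (f351943 IH) (Lpe (f351948 IH) (Lpe (f212823 IH) (Lpr_et (K21.f218125 IH) (Lpe (K16.f275471 IH) (Lpr_dt (K18.f224012 IH) (Lpr_gt (f370214 IH) (Lpe (f221649 IH) (Lpr_et (f254032 IH) (Lpn (LP (LK LD1_c15 LD2_c1 LD3_c29)))))))))))))
theorem f370232 : Led Lsl_ft (LP (LK LD1_c15 LD2_c1 LD3_c29)) = (LP (LK LD1_c24 LD2_c49 LD3_c32)) :=
  Lre_f IH (LK LD1_c15 LD2_c1 LD3_c29) (LK LD1_c24 LD2_c49 LD3_c32) Lrfl Lrfl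
theorem f370233 : Led Lsl_af (LP (LK LD1_c25 LD2_c20 LD3_c31)) = (LP (LK LD1_c24 LD2_c49 LD3_c32)) :=
  Lgr Lrot31 (Lpr_gf (K23.f344770 IH) (Lpr_gf (f370227 IH) (Lpr_ft (f370232 IH) (Lpn (LP (LK LD1_c24 LD2_c49 LD3_c32))))))
theorem f370247 : Led Lsl_at (LP (LK LD1_c15 LD2_c41 LD3_c50)) = (LP (LK LD1_c15 LD2_c1 LD3_c29)) :=
  Lgr Lrot66 (Lpe (K23.f344736 IH) (Lpr_af (f370233 IH) (Lpe (f370232 IH) (Lpn (LP (LK LD1_c15 LD2_c1 LD3_c29))))))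
theorem f284627 : Led Lsl_et (LP (LK LD1_c8 LD2_c20 LD3_c23)) = (LP (LK LD1_c15 LD2_c41 LD3_c50)) :=
  Lre_e IH (LK LD1_c8 LD2_c20 LD3_c23) (LK LD1_c15 LD2_c41 LD3_c50) Lrfl Lrfl
theorem f356177 : Led Lsl_et (LP (LK LD1_c15 LD2_c1 LD3_c29)) = (LP (LK LD1_c7 LD2_c57 LD3_c56)) :=
  Lre_e IH (LK LD1_c15 LD2_c1 LD3_c29) (LK LD1_c7 LD2_c57 LD3_c56) Lrfl Lrfl
theorem f370258 : Led Lsl_af (LP (LK LD1_c8 LD2_c20 LD3_c23)) = (LP (LK LD1_c7 LD2_c57 LD3_c56)) :=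
  Lgr Lrot50 (Lpr_et (f284627 IH) (Lpr_at (f370247 IH) (Lpr_et (f356177 IH) (Lpn (LP (LK LD1_c7 LD2_c57 LD3_c56))))))
theorem f344602 : Led Lsl_ff (LP (LK LD1_c7 LD2_c57 LD3_c57)) = (LP (LK LD1_c8 LD2_c20 LD3_c23)) :=
  Lgr Lrot23 (Lpe (K23.f318082 IH) (Lpr_ft (K23.f344595 IH) (Lpr_ct (K18.f170710 IH) (Lpn (LP (LK LD1_c8 LD2_c20 LD3_c23))))))
theorem f344616 : Led Lsl_at (LP (LK LD1_c7 LD2_c57 LD3_c57)) = (LP (LK LD1_c5 LD2_c27 LD3_c43)) :=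
  Lgr Lrot100 (Lpr_af (K23.f344612 IH) (Lpn (LP (LK LD1_c5 LD2_c27 LD3_c43))))
theorem f370268 : Led Lsl_ft (LP (LK LD1_c5 LD2_c27 LD3_c43)) = (LP (LK LD1_c7 LD2_c57 LD3_c56)) :=
  Lgr Lrot101 (Lpe (f344616 IH) (Lpr_ff (f344602 IH) (Lpr_af (f370258 IH) (Lpn (LP (LK LD1_c7 LD2_c57 LD3_c56))))))
theorem f370279 : Led Lsl_ff (LP (LK LD1_c5 LD2_c27 LD3_c43)) = (LP (LK LD1_c7 LD2_c57 LD3_c56)) :=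
  Lgr Lrot3 (Lpr_ft (f370268 IH) (Lpn (LP (LK LD1_c7 LD2_c57 LD3_c56))))
theorem f223169 : Led Lsl_dt (LP (LK LD1_c15 LD2_c1 LD3_c28)) = (LP (LK LD1_c7 LD2_c57 LD3_c56)) :=
  Lre_d IH (LK LD1_c15 LD2_c1 LD3_c28) (LK LD1_c7 LD2_c57 LD3_c56) Lrfl Lrfl
theorem f370220 : Led Lsl_ct (LP (LK LD1_c4 LD2_c3 LD3_c39)) = (LP (LK LD1_c7 LD2_c57 LD3_c56)) :=
  Lgr Lrot7 (Lpe (K16.f276689 IH) (Lpr_gf (K16.f276675 IH) (Lpe (K18.f290777 IH) (Lpe (K18.f300771 IH) (Lpe (K16.f218114 IH) (Lpe (K16.f275471 IH) (Lpr_dt (K18.f224012 IH) (Lpr_gt (f370214 IH) (Lpr_dt (f223169 IH) (Lpn (LP (LK LD1_c7 LD2_c57 LD3_c56))))))))))))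
theorem f370283 : Led Lsl_ft (LP (LK LD1_c2 LD2_c40 LD3_c13)) = (LP (LK LD1_c4 LD2_c3 LD3_c39)) :=
  Lgr Lrot4 (Lpe (K20.f197008 IH) (Lpr_ff (f370279 IH) (Lpe (f370220 IH) (Lpn (LP (LK LD1_c4 LD2_c3 LD3_c39))))))
theorem f370389 : Led Lsl_et (LP (LK LD1_c4 LD2_c3 LD3_c39)) = (LP (LK LD1_c8 LD2_c7 LD3_c48)) :=
  Lre_e IH (LK LD1_c4 LD2_c3 LD3_c39) (LK LD1_c8 LD2_c7 LD3_c48) Lrfl Lrfl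
theorem f370390 : Led Lsl_ft (LP (LK LD1_c8 LD2_c7 LD3_c48)) = (LP (LK LD1_c15 LD2_c18 LD3_c31)) :=
  Lre_f IH (LK LD1_c8 LD2_c7 LD3_c48) (LK LD1_c15 LD2_c18 LD3_c31) Lrfl Lrfl
theorem f370391 : Led Lsl_ef (LP (LK LD1_c10 LD2_c46 LD3_c35)) = (LP (LK LD1_c15 LD2_c18 LD3_c31)) :=
  Lgr Lrot21 (Lpr_ft (K20.f317746 IH) (Lpr_et (K22.f282879 IH) (Lpr_ft (f370283 IH) (Lpr_et (f370389 IH) (Lpr_ft (f370390 IH) (Lpn (LP (LK LD1_c15 LD2_c18 LD3_c31))))))))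
theorem f311381 : Led Lsl_at (LP (LK LD1_c8 LD2_c18 LD3_c3)) = (LP (LK LD1_c8 LD2_c30 LD3_c47)) :=
  Lgr Lrot100 (Lpr_af (K19.f311379 IH) (Lpn (LP (LK LD1_c8 LD2_c30 LD3_c47))))
theorem f179747 : Led Lsl_bt (LP (LK LD1_c2 LD2_c2 LD3_c37)) = (LP (LK LD1_c4 LD2_c10 LD3_c41)) :=
  Lre_b IH (LK LD1_c2 LD2_c2 LD3_c37) (LK LD1_c4 LD2_c10 LD3_c41) Lrfl Lrfl
theorem f311401 : Led Lsl_bt (LP (LK LD1_c8 LD2_c18 LD3_c3)) = (LP (LK LD1_c4 LD2_c10 LD3_c43)) :=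
  Lgr Lrot119 (Lpr_ef (K19.f311393 IH) (Lpe (f179747 IH) (Lpe (K20.f300849 IH) (Lpn (LP (LK LD1_c4 LD2_c10 LD3_c43))))))
theorem f315934 : Led Lsl_ft (LP (LK LD1_c8 LD2_c34 LD3_c5)) = (LP (LK LD1_c8 LD2_c18 LD3_c3)) :=
  Lgr Lrot75 (Lpe (K22.f315915 IH) (Lpr_ff (K20.f315930 IH) (Lpe (f311401 IH) (Lpn (LP (LK LD1_c8 LD2_c18 LD3_c3))))))
theorem f331277 : Led Lsl_gf (LP (LK LD1_c8 LD2_c18 LD3_c4)) = (LP (LK LD1_c8 LD2_c34 LD3_c5)) :=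
  Lgr Lrot47 (Lpr_gt (K21.f331275 IH) (Lpe (f311381 IH) (Lpe (f315934 IH) (Lpn (LP (LK LD1_c8 LD2_c34 LD3_c5))))))
theorem f370403 : Led Lsl_df (LP (LK LD1_c8 LD2_c18 LD3_c4)) = (LP (LK LD1_c15 LD2_c18 LD3_c31)) :=
  Lgr Lrot168 (Lpr_gf (f331277 IH) (Lpe (K22.f339591 IH) (Lpe (K22.f283478 IH) (Lpe (K25.f340111 IH) (Lpe (K25.f263512 IH) (Lpr_dt (K25.f263513 IH) (Lpe (K22.f335849 IH) (Lpr_df (K19.f312377 IH) (Lpe (K20.f318118 IH) (Lpr_ef (f370391 IH) (Lpn (LP (LK LD1_c15 LD2_c18 LD3_c31)))))))))))))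
theorem f292419 : Led Lsl_ct (LP (LK LD1_c15 LD2_c36 LD3_c38)) = (LP (LK LD1_c8 LD2_c18 LD3_c4)) :=
  Lre_c IH (LK LD1_c15 LD2_c36 LD3_c38) (LK LD1_c8 LD2_c18 LD3_c4) Lrfl Lrfl
theorem f301250 : Led Lsl_ct (LP (LK LD1_c8 LD2_c37 LD3_c32)) = (LP (LK LD1_c16 LD2_c9 LD3_c30)) :=
  Lre_c IH (LK LD1_c8 LD2_c37 LD3_c32) (LK LD1_c16 LD2_c9 LD3_c30) Lrfl Lrfl
theorem f274198 : Led Lsl_et (LP (LK LD1_c25 LD2_c20 LD3_c31)) = (LP (LK LD1_c15 LD2_c28 LD3_c23)) :=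
  Lre_e IH (LK LD1_c25 LD2_c20 LD3_c31) (LK LD1_c15 LD2_c28 LD3_c23) Lrfl Lrfl
theorem f370245 : Led Lsl_et (LP (LK LD1_c19 LD2_c29 LD3_c19)) = (LP (LK LD1_c24 LD2_c49 LD3_c32)) :=
  Lgr Lrot123 (Lpr_af (K22.f303379 IH) (Lpe (f274198 IH) (Lpr_af (f370233 IH) (Lpn (LP (LK LD1_c24 LD2_c49 LD3_c32))))))
theorem f370397 : Led Lsl_ct (LP (LK LD1_c24 LD2_c49 LD3_c32)) = (LP (LK LD1_c15 LD2_c18 LD3_c31)) :=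
  Lgr Lrot15 (Lpe (f370245 IH) (Lpe (K23.f303387 IH) (Lpr_ef (f370391 IH) (Lpn (LP (LK LD1_c15 LD2_c18 LD3_c31))))))
theorem f370413 : Led Lsl_gt (LP (LK LD1_c16 LD2_c9 LD3_c30)) = (LP (LK LD1_c24 LD2_c49 LD3_c32)) :=
  Lgr Lrot150 (Lpe (f301250 IH) (Lpe (K19.f301195 IH) (Lpe (K14.f254050 IH) (Lpr_gt (K21.f179594 IH) (Lpr_ct (K21.f179595 IH) (Lpe (K21.f323222 IH) (Lpr_ct (f292419 IH) (Lpr_df (f370403 IH) (Lpe (f370397 IH) (Lpn (LP (LK LD1_c24 LD2_c49 LD3_c32))))))))))))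
theorem f301244 : Led Lsl_ct (LP (LK LD1_c16 LD2_c9 LD3_c30)) = (LP (LK LD1_c8 LD2_c37 LD3_c32)) :=
  Lre_c IH (LK LD1_c16 LD2_c9 LD3_c30) (LK LD1_c8 LD2_c37 LD3_c32) Lrfl Lrfl
theorem f370367 : Led Lsl_dt (LP (LK LD1_c24 LD2_c49 LD3_c32)) = (LP (LK LD1_c31 LD2_c40 LD3_c18)) :=
  Lre_d IH (LK LD1_c24 LD2_c49 LD3_c32) (LK LD1_c31 LD2_c40 LD3_c18) Lrfl Lrfl
theorem f370415 : Led Lsl_gf (LP (LK LD1_c25 LD2_c19 LD3_c18)) = (LP (LK LD1_c31 LD2_c40 LD3_c18)) :=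
  Lgr Lrot143 (Lpr_dt (K21.f191455 IH) (Lpe (K19.f191393 IH) (Lpr_df (K16.f251689 IH) (Lpe (K19.f250791 IH) (Lpe (K19.f305862 IH) (Lpr_gf (K19.f305860 IH) (Lpe (f301244 IH) (Lpr_gt (f370413 IH) (Lpr_dt (f370367 IH) (Lpn (LP (LK LD1_c31 LD2_c40 LD3_c18))))))))))))
theorem f324957 : Led Lsl_ft (LP (LK LD1_c25 LD2_c21 LD3_c4)) = (LP (LK LD1_c15 LD2_c28 LD3_c40)) :=
  Lre_f IH (LK LD1_c25 LD2_c21 LD3_c4) (LK LD1_c15 LD2_c28 LD3_c40) Lrfl Lrfl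
theorem f370417 : Led Lsl_gt (LP (LK LD1_c25 LD2_c21 LD3_c4)) = (LP (LK LD1_c31 LD2_c40 LD3_c18)) :=
  Lgr Lrot5 (Lpr_ft (f324957 IH) (Lpe (K21.f324943 IH) (Lpr_gf (f370415 IH) (Lpn (LP (LK LD1_c31 LD2_c40 LD3_c18))))))
theorem f356158 : Led Lsl_ct (LP (LK LD1_c25 LD2_c19 LD3_c17)) = (LP (LK LD1_c15 LD2_c56 LD3_c5)) :=
  Lgr Lrot59 (Lpr_cf (K26.f356089 IH) (Lpn (LP (LK LD1_c15 LD2_c56 LD3_c5))))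
theorem f357565 : Led Lsl_ef (LP (LK LD1_c25 LD2_c19 LD3_c17)) = (LP (LK LD1_c24 LD2_c48 LD3_c49)) :=
  Lgr Lrot28 (Lpr_ct (f356158 IH) (Lpe (K26.f357557 IH) (Lpr_ct (K26.f357561 IH) (Lpn (LP (LK LD1_c24 LD2_c48 LD3_c49))))))
theorem f344832 : Led Lsl_et (LP (LK LD1_c8 LD2_c13 LD3_c24)) = (LP (LK LD1_c4 LD2_c6 LD3_c24)) :=
  Lre_e IH (LK LD1_c8 LD2_c13 LD3_c24) (LK LD1_c4 LD2_c6 LD3_c24) Lrfl Lrfl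
theorem f187360 : Led Lsl_dt (LP (LK LD1_c8 LD2_c13 LD3_c24)) = (LP (LK LD1_c15 LD2_c28 LD3_c9)) :=
  Lre_d IH (LK LD1_c8 LD2_c13 LD3_c24) (LK LD1_c15 LD2_c28 LD3_c9) Lrfl Lrfl
theorem f187372 : Led Lsl_gt (LP (LK LD1_c25 LD2_c20 LD3_c8)) = (LP (LK LD1_c15 LD2_c28 LD3_c9)) :=
  Lre_g IH (LK LD1_c25 LD2_c20 LD3_c8) (LK LD1_c15 LD2_c28 LD3_c9) Lrfl Lrfl
theorem f358384 : Led Lsl_df (LP (LK LD1_c25 LD2_c20 LD3_c8)) = (LP (LK LD1_c24 LD2_c48 LD3_c49)) :=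
  Lgr Lrot170 (Lpr_gt (f187372 IH) (Lpe (f187360 IH) (Lpr_et (f344832 IH) (Lpr_gt (K15.f191961 IH) (Lpr_dt (K17.f191962 IH) (Lpe (K21.f251681 IH) (Lpe (K15.f187987 IH) (Lpr_et (K21.f290817 IH) (Lpr_gt (K26.f191421 IH) (Lpr_ef (f357565 IH) (Lpn (LP (LK LD1_c24 LD2_c48 LD3_c49)))))))))))))
theorem f364298 : Led Lsl_ct (LP (LK LD1_c9 LD2_c42 LD3_c39)) = (LP (LK LD1_c4 LD2_c55 LD3_c33)) :=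
  Lre_c IH (LK LD1_c9 LD2_c42 LD3_c39) (LK LD1_c4 LD2_c55 LD3_c33) Lrfl Lrfl
theorem f217612 : Led Lsl_ct (LP (LK LD1_c17 LD2_c51 LD3_c40)) = (LP (LK LD1_c9 LD2_c42 LD3_c45)) :=
  Lre_c IH (LK LD1_c17 LD2_c51 LD3_c40) (LK LD1_c9 LD2_c42 LD3_c45) Lrfl Lrfl
theorem f368781 : Led Lsl_gt (LP (LK LD1_c15 LD2_c28 LD3_c7)) = (LP (LK LD1_c17 LD2_c51 LD3_c40)) :=
  Lgr Lrot150 (Lpe (K26.f353892 IH) (Lpe (K23.f42243 IH) (Lpe (K24.f42232 IH) (Lpr_gt (K23.f42246 IH) (Lpr_ct (f368539 IH) (Lpr_gt (f368774 IH) (Lpr_ct (f364298 IH) (Lpe (K15.f217529 IH) (Lpe (f217612 IH) (Lpn (LP (LK LD1_c17 LD2_c51 LD3_c40))))))))))))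
theorem f357551 : Led Lsl_df (LP (LK LD1_c15 LD2_c19 LD3_c55)) = (LP (LK LD1_c8 LD2_c8 LD3_c51)) :=
  Lgr Lrot38 (Lpr_dt (K25.f357547 IH) (Lpn (LP (LK LD1_c8 LD2_c8 LD3_c51))))
theorem f358386 : Led Lsl_dt (LP (LK LD1_c25 LD2_c20 LD3_c8)) = (LP (LK LD1_c24 LD2_c48 LD3_c49)) :=
  Lgr Lrot42 (Lpr_df (f358384 IH) (Lpn (LP (LK LD1_c24 LD2_c48 LD3_c49))))
theorem f368486 : Led Lsl_dt (LP (LK LD1_c17 LD2_c51 LD3_c40)) = (LP (LK LD1_c27 LD2_c38 LD3_c21)) :=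
  Lre_d IH (LK LD1_c17 LD2_c51 LD3_c40) (LK LD1_c27 LD2_c38 LD3_c21) Lrfl Lrfl
theorem f368786 : Led Lsl_gf (LP (LK LD1_c25 LD2_c20 LD3_c8)) = (LP (LK LD1_c27 LD2_c38 LD3_c21)) :=
  Lgr Lrot143 (Lpr_dt (f358386 IH) (Lpe (K26.f357561 IH) (Lpr_df (f357551 IH) (Lpe (K26.f357544 IH) (Lpe (K19.f196784 IH) (Lpr_gf (K23.f340109 IH) (Lpr_cf (K26.f353897 IH) (Lpr_gt (f368781 IH) (Lpr_dt (f368486 IH) (Lpn (LP (LK LD1_c27 LD2_c38 LD3_c21))))))))))))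
theorem f282885 : Led Lsl_et (LP (LK LD1_c10 LD2_c46 LD3_c33)) = (LP (LK LD1_c5 LD2_c27 LD3_c43)) :=
  Lre_e IH (LK LD1_c10 LD2_c46 LD3_c33) (LK LD1_c5 LD2_c27 LD3_c43) Lrfl Lrfl
theorem f370277 : Led Lsl_ef (LP (LK LD1_c19 LD2_c29 LD3_c19)) = (LP (LK LD1_c24 LD2_c49 LD3_c32)) :=
  Lgr Lrot21 (Lpr_ft (K23.f303417 IH) (Lpr_et (f282885 IH) (Lpr_ft (f370268 IH) (Lpr_et (f254032 IH) (Lpr_ft (f370232 IH) (Lpn (LP (LK LD1_c24 LD2_c49 LD3_c32))))))))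
theorem f370425 : Led Lsl_et (LP (LK LD1_c17 LD2_c51 LD3_c40)) = (LP (LK LD1_c11 LD2_c5 LD3_c19)) :=
  Lgr Lrot122 (Lpr_dt (f368486 IH) (Lpe (f368786 IH) (Lpr_df (f358384 IH) (Lpe (f357565 IH) (Lpe (K26.f356091 IH) (Lpr_dt (K21.f324989 IH) (Lpr_gt (f370417 IH) (Lpe (f370367 IH) (Lpe (f370277 IH) (Lpe (K23.f339999 IH) (Lpn (LP (LK LD1_c11 LD2_c5 LD3_c19)))))))))))))
theorem f217573 : Led Lsl_ft (LP (LK LD1_c9 LD2_c42 LD3_c44)) = (LP (LK LD1_c17 LD2_c51 LD3_c40)) :=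
  Lre_f IH (LK LD1_c9 LD2_c42 LD3_c44) (LK LD1_c17 LD2_c51 LD3_c40) Lrfl Lrfl
theorem f363714 : Led Lsl_ff (LP (LK LD1_c8 LD2_c13 LD3_c2)) = (LP (LK LD1_c4 LD2_c6 LD3_c30)) :=
  Lgr Lrot19 (Lpr_dt (K15.f182526 IH) (Lpr_ft (K26.f363712 IH) (Lpr_dt (K16.f265088 IH) (Lpn (LP (LK LD1_c4 LD2_c6 LD3_c30))))))
theorem f266680 : Led Lsl_et (LP (LK LD1_c8 LD2_c13 LD3_c35)) = (LP (LK LD1_c4 LD2_c6 LD3_c30)) :=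
  Lre_e IH (LK LD1_c8 LD2_c13 LD3_c35) (LK LD1_c4 LD2_c6 LD3_c30) Lrfl Lrfl
theorem f370433 : Led Lsl_ff (LP (LK LD1_c8 LD2_c13 LD3_c35)) = (LP (LK LD1_c11 LD2_c5 LD3_c19)) :=
  Lgr Lrot72 (Lpr_et (f266680 IH) (Lpe (f363714 IH) (Lpe (K26.f217560 IH) (Lpr_ft (f217573 IH) (Lpr_et (f370425 IH) (Lpn (LP (LK LD1_c11 LD2_c5 LD3_c19))))))))
theorem f370441 : Led Lsl_ft (LP (LK LD1_c8 LD2_c13 LD3_c35)) = (LP (LK LD1_c11 LD2_c5 LD3_c19)) :=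
  Lgr Lrot48 (Lpr_ff (f370433 IH) (Lpn (LP (LK LD1_c11 LD2_c5 LD3_c19))))
theorem f248031 : Led Lsl_dt (LP (LK LD1_c15 LD2_c28 LD3_c24)) = (LP (LK LD1_c8 LD2_c13 LD3_c35)) :=
  Lre_d IH (LK LD1_c15 LD2_c28 LD3_c24) (LK LD1_c8 LD2_c13 LD3_c35) Lrfl Lrfl
theorem f339994 : Led Lsl_dt (LP (LK LD1_c11 LD2_c5 LD3_c19)) = (LP (LK LD1_c19 LD2_c58 LD3_c25)) :=
  Lre_d IH (LK LD1_c11 LD2_c5 LD3_c19) (LK LD1_c19 LD2_c58 LD3_c25) Lrfl Lrfl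
theorem f370445 : Led Lsl_ff (LP (LK LD1_c15 LD2_c28 LD3_c24)) = (LP (LK LD1_c19 LD2_c58 LD3_c25)) :=
  Lgr Lrot19 (Lpr_dt (f248031 IH) (Lpr_ft (f370441 IH) (Lpr_dt (f339994 IH) (Lpn (LP (LK LD1_c19 LD2_c58 LD3_c25))))))
theorem f248021 : Led Lsl_dt (LP (LK LD1_c8 LD2_c13 LD3_c35)) = (LP (LK LD1_c15 LD2_c28 LD3_c24)) :=
  Lre_d IH (LK LD1_c8 LD2_c13 LD3_c35) (LK LD1_c15 LD2_c28 LD3_c24) Lrfl Lrfl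
theorem f253594 : Led Lsl_dt (LP (LK LD1_c19 LD2_c58 LD3_c23)) = (LP (LK LD1_c11 LD2_c5 LD3_c17)) :=
  Lre_d IH (LK LD1_c19 LD2_c58 LD3_c23) (LK LD1_c11 LD2_c5 LD3_c17) Lrfl Lrfl
theorem f368242 : Led Lsl_at (LP (LK LD1_c15 LD2_c28 LD3_c24)) = (LP (LK LD1_c19 LD2_c58 LD3_c23)) :=
  Lgr Lrot51 (Lpe (f248021 IH) (Lpr_af (f368238 IH) (Lpe (f253594 IH) (Lpn (LP (LK LD1_c19 LD2_c58 LD3_c23))))))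
theorem f317764 : Led Lsl_dt (LP (LK LD1_c28 LD2_c51 LD3_c32)) = (LP (LK LD1_c19 LD2_c29 LD3_c17)) :=
  Lre_d IH (LK LD1_c28 LD2_c51 LD3_c32) (LK LD1_c19 LD2_c29 LD3_c17) Lrfl Lrfl
theorem f368234 : Led Lsl_ff (LP (LK LD1_c28 LD2_c51 LD3_c32)) = (LP (LK LD1_c19 LD2_c58 LD3_c23)) :=
  Lgr Lrot19 (Lpr_dt (f317764 IH) (Lpr_ft (f368218 IH) (Lpr_dt (K23.f253603 IH) (Lpn (LP (LK LD1_c19 LD2_c58 LD3_c23))))))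
theorem f370447 : Led Lsl_at (LP (LK LD1_c28 LD2_c51 LD3_c32)) = (LP (LK LD1_c19 LD2_c58 LD3_c25)) :=
  Lgr Lrot66 (Lpr_ff (f368234 IH) (Lpe (f368242 IH) (Lpr_ff (f370445 IH) (Lpn (LP (LK LD1_c19 LD2_c58 LD3_c25))))))
theorem f370451 : Led Lsl_gt (LP (LK LD1_c29 LD2_c2 LD3_c21)) = (LP (LK LD1_c19 LD2_c58 LD3_c25)) :=
  Lgr Lrot46 (Lpr_gf (K23.f339950 IH) (Lpe (f368234 IH) (Lpr_at (f370447 IH) (Lpn (LP (LK LD1_c19 LD2_c58 LD3_c25))))))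
theorem f339942 : Led Lsl_dt (LP (LK LD1_c19 LD2_c42 LD3_c18)) = (LP (LK LD1_c29 LD2_c2 LD3_c21)) :=
  Lre_d IH (LK LD1_c19 LD2_c42 LD3_c18) (LK LD1_c29 LD2_c2 LD3_c21) Lrfl Lrfl
theorem f339993 : Led Lsl_dt (LP (LK LD1_c19 LD2_c58 LD3_c25)) = (LP (LK LD1_c11 LD2_c5 LD3_c19)) :=
  Lre_d IH (LK LD1_c19 LD2_c58 LD3_c25) (LK LD1_c11 LD2_c5 LD3_c19) Lrfl Lrfl
theorem f183156 : Led Lsl_gt (LP (LK LD1_c5 LD2_c36 LD3_c35)) = (LP (LK LD1_c2 LD2_c44 LD3_c9)) :=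
  Lre_g IH (LK LD1_c5 LD2_c36 LD3_c35) (LK LD1_c2 LD2_c44 LD3_c9) Lrfl Lrfl
theorem f364349 : Led Lsl_gf (LP (LK LD1_c10 LD2_c10 LD3_c58)) = (LP (LK LD1_c9 LD2_c54 LD3_c54)) :=
  Lgr Lrot144 (Lpr_dt (K26.f364344 IH) (Lpr_gt (f183156 IH) (Lpe (K15.f253620 IH) (Lpe (K22.f253617 IH) (Lpe (K26.f253618 IH) (Lpe (K25.f259834 IH) (Lpe (K25.f346123 IH) (Lpr_gf (K25.f346134 IH) (Lpe (K25.f250128 IH) (Lpn (LP (LK LD1_c9 LD2_c54 LD3_c54))))))))))))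
theorem f254183 : Led Lsl_ct (LP (LK LD1_c24 LD2_c52 LD3_c20)) = (LP (LK LD1_c15 LD2_c3 LD3_c12)) :=
  Lre_c IH (LK LD1_c24 LD2_c52 LD3_c20) (LK LD1_c15 LD2_c3 LD3_c12) Lrfl Lrfl
theorem f370453 : Led Lsl_gf (LP (LK LD1_c19 LD2_c42 LD3_c18)) = (LP (LK LD1_c24 LD2_c52 LD3_c20)) :=
  Lgr Lrot144 (Lpr_dt (f339942 IH) (Lpr_gt (f370451 IH) (Lpr_dt (f339993 IH) (Lpe (K23.f318105 IH) (Lpe (K26.f364344 IH) (Lpr_gf (f364349 IH) (Lpe (K14.f251644 IH) (Lpe (K25.f307286 IH) (Lpe (f254183 IH) (Lpn (LP (LK LD1_c24 LD2_c52 LD3_c20))))))))))))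
theorem f254194 : Led Lsl_ct (LP (LK LD1_c15 LD2_c3 LD3_c12)) = (LP (LK LD1_c24 LD2_c52 LD3_c20)) :=
  Lre_c IH (LK LD1_c15 LD2_c3 LD3_c12) (LK LD1_c24 LD2_c52 LD3_c20) Lrfl Lrfl
theorem f214353 : Led Lsl_ct (LP (LK LD1_c5 LD2_c2 LD3_c5)) = (LP (LK LD1_c9 LD2_c54 LD3_c53)) :=
  Lre_c IH (LK LD1_c5 LD2_c2 LD3_c5) (LK LD1_c9 LD2_c54 LD3_c53) Lrfl Lrfl
theorem f214352 : Led Lsl_gt (LP (LK LD1_c9 LD2_c54 LD3_c53)) = (LP (LK LD1_c18 LD2_c8 LD3_c57)) :=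
  Lre_g IH (LK LD1_c9 LD2_c54 LD3_c53) (LK LD1_c18 LD2_c8 LD3_c57) Lrfl Lrfl
theorem f370456 : Led Lsl_cf (LP (LK LD1_c18 LD2_c38 LD3_c37)) = (LP (LK LD1_c18 LD2_c8 LD3_c57)) :=
  Lgr Lrot99 (Lpe (K25.f339943 IH) (Lpe (K23.f335533 IH) (Lpr_gf (f370453 IH) (Lpe (f254194 IH) (Lpr_gf (K26.f351617 IH) (Lpe (K26.f342403 IH) (Lpr_gt (K23.f250127 IH) (Lpr_ct (f214353 IH) (Lpr_gt (f214352 IH) (Lpn (LP (LK LD1_c18 LD2_c8 LD3_c57))))))))))))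
theorem f370460 : Led Lsl_ct (LP (LK LD1_c18 LD2_c38 LD3_c37)) = (LP (LK LD1_c18 LD2_c8 LD3_c57)) :=
  Lgr Lrot59 (Lpr_cf (f370456 IH) (Lpn (LP (LK LD1_c18 LD2_c8 LD3_c57))))
theorem f335539 : Led Lsl_bt (LP (LK LD1_c10 LD2_c26 LD3_c24)) = (LP (LK LD1_c18 LD2_c56 LD3_c4)) :=
  Lre_b IH (LK LD1_c10 LD2_c26 LD3_c24) (LK LD1_c18 LD2_c56 LD3_c4) Lrfl Lrfl
theorem f339933 : Led Lsl_bf (LP (LK LD1_c10 LD2_c24 LD3_c34)) = (LP (LK LD1_c18 LD2_c38 LD3_c37)) :=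
  Lgr Lrot96 (Lpe (K22.f335537 IH) (Lpr_bt (f335539 IH) (Lpr_et (K23.f339931 IH) (Lpn (LP (LK LD1_c18 LD2_c38 LD3_c37))))))
theorem f282658 : Led Lsl_gf (LP (LK LD1_c18 LD2_c53 LD3_c5)) = (LP (LK LD1_c18 LD2_c20 LD3_c22)) :=
  Lgr Lrot47 (Lpr_gt (K26.f48227 IH) (Lpr_af (K17.f282650 IH) (Lpe (K17.f264186 IH) (Lpn (LP (LK LD1_c18 LD2_c20 LD3_c22))))))
theorem f250117 : Led Lsl_bf (LP (LK LD1_c9 LD2_c52 LD3_c58)) = (LP (LK LD1_c5 LD2_c2 LD3_c5)) :=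
  Lgr Lrot24 (Lpr_bt (K14.f250115 IH) (Lpn (LP (LK LD1_c5 LD2_c2 LD3_c5))))
theorem f370512 : Led Lsl_bt (LP (LK LD1_c18 LD2_c46 LD3_c5)) = (LP (LK LD1_c18 LD2_c5 LD3_c15)) :=
  Lgr Lrot22 (Lpe (K26.f320028 IH) (Lpr_gf (f282658 IH) (Lpe (K17.f169500 IH) (Lpr_gf (K22.f335548 IH) (Lpr_bf (f339933 IH) (Lpr_ct (f370460 IH) (Lpe (f214352 IH) (Lpe (f214353 IH) (Lpe (f250117 IH) (Lpe (K22.f230764 IH) (Lpn (LP (LK LD1_c18 LD2_c5 LD3_c15)))))))))))))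
theorem f370995 : Led Lsl_bf (LP (LK LD1_c18 LD2_c46 LD3_c5)) = (LP (LK LD1_c18 LD2_c5 LD3_c15)) :=
  Lgr Lrot24 (Lpr_bt (f370512 IH) (Lpn (LP (LK LD1_c18 LD2_c5 LD3_c15))))
theorem f169861 : Led Lsl_ct (LP (LK LD1_c5 LD2_c5 LD3_c19)) = (LP (LK LD1_c10 LD2_c1 LD3_c41)) :=
  Lre_c IH (LK LD1_c5 LD2_c5 LD3_c19) (LK LD1_c10 LD2_c1 LD3_c41) Lrfl Lrfl
theorem f169953 : Led Lsl_gt (LP (LK LD1_c18 LD2_c19 LD3_c34)) = (LP (LK LD1_c10 LD2_c1 LD3_c41)) :=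
  Lre_g IH (LK LD1_c18 LD2_c19 LD3_c34) (LK LD1_c10 LD2_c1 LD3_c41) Lrfl Lrfl
theorem f370998 : Led Lsl_cf (LP (LK LD1_c18 LD2_c19 LD3_c34)) = (LP (LK LD1_c18 LD2_c5 LD3_c15)) :=
  Lgr Lrot160 (Lpr_gt (f169953 IH) (Lpe (f169861 IH) (Lpr_bt (K21.f169906 IH) (Lpr_gt (K23.f169873 IH) (Lpr_ct (K23.f342648 IH) (Lpr_gt (K26.f359634 IH) (Lpe (K26.f278308 IH) (Lpe (K26.f278304 IH) (Lpe (K26.f359638 IH) (Lpr_bf (f370995 IH) (Lpn (LP (LK LD1_c18 LD2_c5 LD3_c15)))))))))))))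
theorem f321734 : Led Lsl_dt (LP (LK LD1_c15 LD2_c22 LD3_c20)) = (LP (LK LD1_c15 LD2_c11 LD3_c25)) :=
  Lgr Lrot77 (Lpr_ef (K18.f277802 IH) (Lpr_df (K12.f200507 IH) (Lpr_ef (K20.f287710 IH) (Lpr_df (K17.f229544 IH) (Lpr_ef (K20.f321730 IH) (Lpn (LP (LK LD1_c15 LD2_c11 LD3_c25))))))))
theorem f258997 : Led Lsl_dt (LP (LK LD1_c18 LD2_c59 LD3_c42)) = (LP (LK LD1_c10 LD2_c28 LD3_c51)) :=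
  Lre_d IH (LK LD1_c18 LD2_c59 LD3_c42) (LK LD1_c10 LD2_c28 LD3_c51) Lrfl Lrfl
theorem f371004 : Led Lsl_gt (LP (LK LD1_c18 LD2_c19 LD3_c35)) = (LP (LK LD1_c18 LD2_c59 LD3_c42)) :=
  Lgr Lrot49 (Lpe (K24.f230825 IH) (Lpe (f169953 IH) (Lpr_cf (f370998 IH) (Lpr_gt (K22.f230764 IH) (Lpe (K16.f254253 IH) (Lpe (K18.f297727 IH) (Lpr_dt (f321734 IH) (Lpe (K20.f258983 IH) (Lpe (f258997 IH) (Lpn (LP (LK LD1_c18 LD2_c59 LD3_c42))))))))))))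
theorem f294699 : Led Lsl_at (LP (LK LD1_c19 LD2_c1 LD3_c42)) = (LP (LK LD1_c18 LD2_c59 LD3_c42)) :=
  Lgr Lrot100 (Lpr_af (K18.f294690 IH) (Lpn (LP (LK LD1_c18 LD2_c59 LD3_c42))))
theorem f274991 : Led Lsl_ft (LP (LK LD1_c10 LD2_c29 LD3_c61)) = (LP (LK LD1_c19 LD2_c1 LD3_c42)) :=
  Lre_f IH (LK LD1_c10 LD2_c29 LD3_c61) (LK LD1_c19 LD2_c1 LD3_c42) Lrfl Lrfl
theorem f371015 : Led Lsl_gf (LP (LK LD1_c18 LD2_c19 LD3_c35)) = (LP (LK LD1_c10 LD2_c29 LD3_c61)) :=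
  Lgr Lrot47 (Lpr_gt (f371004 IH) (Lpe (f294699 IH) (Lpe (f274991 IH) (Lpn (LP (LK LD1_c10 LD2_c29 LD3_c61))))))
theorem f46296 : Led Lsl_gt (LP (LK LD1_c19 LD2_c1 LD3_c40)) = (LP (LK LD1_c10 LD2_c29 LD3_c61)) :=
  Lre_g IH (LK LD1_c19 LD2_c1 LD3_c40) (LK LD1_c10 LD2_c29 LD3_c61) Lrfl Lrfl
theorem f371017 : Led Lsl_ff (LP (LK LD1_c18 LD2_c41 LD3_c17)) = (LP (LK LD1_c19 LD2_c1 LD3_c40)) :=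
  Lgr Lrot52 (Lpr_at (K24.f294050 IH) (Lpr_gf (f371015 IH) (Lpe (f46296 IH) (Lpn (LP (LK LD1_c19 LD2_c1 LD3_c40))))))
theorem f371022 : Led Lsl_dt (LP (LK LD1_c18 LD2_c41 LD3_c18)) = (LP (LK LD1_c19 LD2_c1 LD3_c40)) :=
  Lgr Lrot60 (Lpe (K18.f294037 IH) (Lpe (K24.f240384 IH) (Lpr_ff (f371017 IH) (Lpn (LP (LK LD1_c19 LD2_c1 LD3_c40))))))
theorem f341831 : Led Lsl_bt (LP (LK LD1_c5 LD2_c5 LD3_c35)) = (LP (LK LD1_c10 LD2_c1 LD3_c43)) :=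
  Lgr Lrot127 (Lpr_bf (f341829 IH) (Lpn (LP (LK LD1_c10 LD2_c1 LD3_c43))))
theorem f177572 : Led Lsl_gt (LP (LK LD1_c9 LD2_c55 LD3_c34)) = (LP (LK LD1_c5 LD2_c2 LD3_c21)) :=
  Lre_g IH (LK LD1_c9 LD2_c55 LD3_c34) (LK LD1_c5 LD2_c2 LD3_c21) Lrfl Lrfl
theorem f341835 : Led Lsl_ct (LP (LK LD1_c5 LD2_c5 LD3_c35)) = (LP (LK LD1_c9 LD2_c55 LD3_c34)) :=
  Lgr Lrot64 (Lpr_bt (f341831 IH) (Lpr_gf (K23.f302847 IH) (Lpr_bf (K18.f240382 IH) (Lpr_ct (K18.f240200 IH) (Lpe (K20.f314204 IH) (Lpe (K20.f177611 IH) (Lpe (K13.f169621 IH) (Lpe (K10.f169620 IH) (Lpr_ct (K21.f169618 IH) (Lpe (f177572 IH) (Lpn (LP (LK LD1_c9 LD2_c55 LD3_c34)))))))))))))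
theorem f169866 : Led Lsl_ct (LP (LK LD1_c10 LD2_c1 LD3_c38)) = (LP (LK LD1_c9 LD2_c56 LD3_c42)) :=
  Lgr Lrot59 (Lpr_cf (K18.f169852 IH) (Lpn (LP (LK LD1_c9 LD2_c56 LD3_c42))))
theorem f335006 : Led Lsl_ct (LP (LK LD1_c5 LD2_c9 LD3_c52)) = (LP (LK LD1_c10 LD2_c10 LD3_c28)) :=
  Lre_c IH (LK LD1_c5 LD2_c9 LD3_c52) (LK LD1_c10 LD2_c10 LD3_c28) Lrfl Lrfl
theorem f341837 : Led Lsl_gf (LP (LK LD1_c9 LD2_c55 LD3_c34)) = (LP (LK LD1_c10 LD2_c10 LD3_c28)) :=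
  Lgr Lrot129 (Lpe (f341835 IH) (Lpr_bt (f341831 IH) (Lpr_gt (K20.f169949 IH) (Lpe (K14.f169860 IH) (Lpr_ct (f169866 IH) (Lpr_gt (K19.f306187 IH) (Lpe (K19.f185931 IH) (Lpr_bt (K19.f185854 IH) (Lpr_gt (K23.f335013 IH) (Lpr_ct (f335006 IH) (Lpn (LP (LK LD1_c10 LD2_c10 LD3_c28)))))))))))))
theorem f339792 : Led Lsl_bf (LP (LK LD1_c10 LD2_c8 LD3_c7)) = (LP (LK LD1_c5 LD2_c9 LD3_c52)) :=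
  Lgr Lrot93 (Lpr_dt (K22.f339788 IH) (Lpr_bt (K18.f183147 IH) (Lpr_dt (K22.f335002 IH) (Lpn (LP (LK LD1_c5 LD2_c9 LD3_c52))))))
theorem f263283 : Led Lsl_bt (LP (LK LD1_c18 LD2_c4 LD3_c41)) = (LP (LK LD1_c9 LD2_c52 LD3_c33)) :=
  Lre_b IH (LK LD1_c18 LD2_c4 LD3_c41) (LK LD1_c9 LD2_c52 LD3_c33) Lrfl Lrfl
theorem f169918 : Led Lsl_gt (LP (LK LD1_c10 LD2_c1 LD3_c41)) = (LP (LK LD1_c18 LD2_c19 LD3_c33)) :=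
  Lre_g IH (LK LD1_c10 LD2_c1 LD3_c41) (LK LD1_c18 LD2_c19 LD3_c33) Lrfl Lrfl
theorem f341839 : Led Lsl_ct (LP (LK LD1_c18 LD2_c4 LD3_c41)) = (LP (LK LD1_c18 LD2_c19 LD3_c33)) :=
  Lgr Lrot63 (Lpr_bt (f263283 IH) (Lpe (K22.f339807 IH) (Lpr_bf (f339792 IH) (Lpr_ct (f335006 IH) (Lpe (f341837 IH) (Lpe (f341835 IH) (Lpr_bt (f341831 IH) (Lpr_gt (K20.f169949 IH) (Lpr_ct (f169861 IH) (Lpr_gt (f169918 IH) (Lpn (LP (LK LD1_c18 LD2_c19 LD3_c33)))))))))))))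
theorem f341844 : Led Lsl_gf (LP (LK LD1_c18 LD2_c41 LD3_c18)) = (LP (LK LD1_c18 LD2_c19 LD3_c33)) :=
  Lgr Lrot126 (Lpe (K18.f240390 IH) (Lpr_bt (K18.f240388 IH) (Lpe (K19.f293511 IH) (Lpr_ct (K20.f320883 IH) (Lpr_gt (K20.f33177 IH) (Lpe (K22.f33182 IH) (Lpe (K20.f263270 IH) (Lpr_gt (K16.f263281 IH) (Lpe (f263283 IH) (Lpr_ct (f341839 IH) (Lpn (LP (LK LD1_c18 LD2_c19 LD3_c33)))))))))))))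
theorem f341841 : Led Lsl_cf (LP (LK LD1_c18 LD2_c4 LD3_c41)) = (LP (LK LD1_c18 LD2_c19 LD3_c33)) :=
  Lgr Lrot11 (Lpr_ct (f341839 IH) (Lpn (LP (LK LD1_c18 LD2_c19 LD3_c33))))
theorem f274984 : Led Lsl_dt (LP (LK LD1_c10 LD2_c29 LD3_c61)) = (LP (LK LD1_c5 LD2_c20 LD3_c2)) :=
  Lre_d IH (LK LD1_c10 LD2_c29 LD3_c61) (LK LD1_c5 LD2_c20 LD3_c2) Lrfl Lrfl
theorem f371036 : Led Lsl_gt (LP (LK LD1_c18 LD2_c4 LD3_c41)) = (LP (LK LD1_c18 LD2_c27 LD3_c19)) :=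
  Lgr Lrot94 (Lpr_cf (f341841 IH) (Lpe (f341844 IH) (Lpr_dt (f371022 IH) (Lpr_gt (f46296 IH) (Lpr_dt (f274984 IH) (Lpr_cf (K18.f294722 IH) (Lpr_df (K16.f274977 IH) (Lpe (f367301 IH) (Lpr_df (f367299 IH) (Lpn (LP (LK LD1_c18 LD2_c27 LD3_c19))))))))))))
theorem f367293 : Led Lsl_at (LP (LK LD1_c18 LD2_c5 LD3_c16)) = (LP (LK LD1_c18 LD2_c27 LD3_c19)) :=
  Lgr Lrot100 (Lpr_af (f367291 IH) (Lpn (LP (LK LD1_c18 LD2_c27 LD3_c19))))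
theorem f371038 : Led Lsl_gf (LP (LK LD1_c18 LD2_c4 LD3_c41)) = (LP (LK LD1_c9 LD2_c52 LD3_c58)) :=
  Lgr Lrot47 (Lpr_gt (f371036 IH) (Lpe (f367293 IH) (Lpe (f230773 IH) (Lpn (LP (LK LD1_c9 LD2_c52 LD3_c58))))))
theorem f335845 : Led Lsl_bf (LP (LK LD1_c10 LD2_c16 LD3_c1)) = (LP (LK LD1_c18 LD2_c38 LD3_c38)) :=
  Lgr Lrot24 (Lpr_bt (K22.f335843 IH) (Lpn (LP (LK LD1_c18 LD2_c38 LD3_c38))))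
theorem f250167 : Led Lsl_gt (LP (LK LD1_c18 LD2_c8 LD3_c58)) = (LP (LK LD1_c9 LD2_c54 LD3_c53)) :=
  Lre_g IH (LK LD1_c18 LD2_c8 LD3_c58) (LK LD1_c9 LD2_c54 LD3_c53) Lrfl Lrfl
theorem f371042 : Led Lsl_ct (LP (LK LD1_c18 LD2_c38 LD3_c38)) = (LP (LK LD1_c18 LD2_c8 LD3_c58)) :=
  Lgr Lrot64 (Lpe (f335845 IH) (Lpr_gf (K19.f293511 IH) (Lpe (K18.f240388 IH) (Lpr_ct (K18.f240390 IH) (Lpr_gf (f341844 IH) (Lpe (f341839 IH) (Lpr_gf (f371038 IH) (Lpr_bf (f250117 IH) (Lpr_ct (f214353 IH) (Lpe (f250167 IH) (Lpn (LP (LK LD1_c18 LD2_c8 LD3_c58)))))))))))))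
theorem f242377 : Led Lsl_bt (LP (LK LD1_c10 LD2_c15 LD3_c39)) = (LP (LK LD1_c5 LD2_c12 LD3_c49)) :=
  Lre_b IH (LK LD1_c10 LD2_c15 LD3_c39) (LK LD1_c5 LD2_c12 LD3_c49) Lrfl Lrfl
theorem f233612 : Led Lsl_gt (LP (LK LD1_c27 LD2_c53 LD3_c39)) = (LP (LK LD1_c18 LD2_c14 LD3_c32)) :=
  Lgr Lrot46 (Lpe (K22.f233602 IH) (Lpe (K19.f233487 IH) (Lpr_at (K19.f233603 IH) (Lpn (LP (LK LD1_c18 LD2_c14 LD3_c32))))))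
theorem f335192 : Led Lsl_gt (LP (LK LD1_c10 LD2_c9 LD3_c60)) = (LP (LK LD1_c18 LD2_c30 LD3_c58)) :=
  Lgr Lrot131 (Lpe (K19.f242371 IH) (Lpr_dt (K14.f256371 IH) (Lpe (K14.f190626 IH) (Lpe (K17.f166885 IH) (Lpe (K10.f166892 IH) (Lpe (K19.f190650 IH) (Lpr_dt (K26.f190689 IH) (Lpe (f233612 IH) (Lpr_df (K22.f335185 IH) (Lpe (K22.f256415 IH) (Lpn (LP (LK LD1_c18 LD2_c30 LD3_c58)))))))))))))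
theorem f248017 : Led Lsl_ct (LP (LK LD1_c10 LD2_c10 LD3_c58)) = (LP (LK LD1_c18 LD2_c32 LD3_c55)) :=
  Lre_c IH (LK LD1_c10 LD2_c10 LD3_c58) (LK LD1_c18 LD2_c32 LD3_c55) Lrfl Lrfl
theorem f371048 : Led Lsl_gt (LP (LK LD1_c18 LD2_c32 LD3_c55)) = (LP (LK LD1_c18 LD2_c8 LD3_c58)) :=
  Lgr Lrot149 (Lpe (f248017 IH) (Lpr_gf (f364349 IH) (Lpr_bf (K22.f335196 IH) (Lpr_ct (K22.f256409 IH) (Lpe (f335192 IH) (Lpe (K25.f242382 IH) (Lpr_bt (f242377 IH) (Lpe (K19.f225598 IH) (Lpr_bf (f335845 IH) (Lpr_ct (f371042 IH) (Lpn (LP (LK LD1_c18 LD2_c8 LD3_c58)))))))))))))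
theorem f307229 : Led Lsl_ct (LP (LK LD1_c18 LD2_c34 LD3_c6)) = (LP (LK LD1_c28 LD2_c8 LD3_c17)) :=
  Lre_c IH (LK LD1_c18 LD2_c34 LD3_c6) (LK LD1_c28 LD2_c8 LD3_c17) Lrfl Lrfl
theorem f371044 : Led Lsl_cf (LP (LK LD1_c18 LD2_c38 LD3_c38)) = (LP (LK LD1_c18 LD2_c8 LD3_c58)) :=
  Lgr Lrot11 (Lpr_ct (f371042 IH) (Lpn (LP (LK LD1_c18 LD2_c8 LD3_c58))))
theorem f351622 : Led Lsl_et (LP (LK LD1_c15 LD2_c28 LD3_c54)) = (LP (LK LD1_c25 LD2_c21 LD3_c20)) :=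
  Lre_e IH (LK LD1_c15 LD2_c28 LD3_c54) (LK LD1_c25 LD2_c21 LD3_c20) Lrfl Lrfl
theorem f353730 : Led Lsl_ct (LP (LK LD1_c25 LD2_c21 LD3_c20)) = (LP (LK LD1_c19 LD2_c11 LD3_c10)) :=
  Lgr Lrot15 (Lpe (f351622 IH) (Lpr_cf (K25.f353725 IH) (Lpe (K25.f263512 IH) (Lpn (LP (LK LD1_c19 LD2_c11 LD3_c10))))))
theorem f371052 : Led Lsl_gt (LP (LK LD1_c28 LD2_c8 LD3_c17)) = (LP (LK LD1_c25 LD2_c21 LD3_c20)) :=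
  Lgr Lrot150 (Lpe (f307229 IH) (Lpe (K21.f307226 IH) (Lpe (K14.f250126 IH) (Lpe (f364349 IH) (Lpr_ct (f248017 IH) (Lpr_gt (f371048 IH) (Lpe (f371044 IH) (Lpe (K25.f263513 IH) (Lpe (f353730 IH) (Lpn (LP (LK LD1_c25 LD2_c21 LD3_c20))))))))))))
theorem f353905 : Led Lsl_cf (LP (LK LD1_c25 LD2_c21 LD3_c20)) = (LP (LK LD1_c19 LD2_c11 LD3_c10)) :=
  Lgr Lrot11 (Lpr_ct (f353730 IH) (Lpn (LP (LK LD1_c19 LD2_c11 LD3_c10))))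
theorem f335847 : Led Lsl_bf (LP (LK LD1_c15 LD2_c18 LD3_c20)) = (LP (LK LD1_c19 LD2_c11 LD3_c10)) :=
  Lgr Lrot93 (Lpr_dt (K19.f225599 IH) (Lpr_bt (K22.f335843 IH) (Lpe (K25.f263515 IH) (Lpn (LP (LK LD1_c19 LD2_c11 LD3_c10))))))
theorem f329862 : Led Lsl_gf (LP (LK LD1_c16 LD2_c12 LD3_c51)) = (LP (LK LD1_c15 LD2_c18 LD3_c20)) :=
  Lgr Lrot141 (Lpe (K19.f31201 IH) (Lpr_dt (K23.f31200 IH) (Lpr_gt (K23.f329860 IH) (Lpe (K23.f329841 IH) (Lpr_et (K23.f305507 IH) (Lpe (K19.f310557 IH) (Lpr_dt (K19.f42268 IH) (Lpr_gt (K19.f42403 IH) (Lpe (K19.f305601 IH) (Lpr_et (K19.f225603 IH) (Lpn (LP (LK LD1_c15 LD2_c18 LD3_c20)))))))))))))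
theorem f187052 : Led Lsl_gt (LP (LK LD1_c26 LD2_c47 LD3_c15)) = (LP (LK LD1_c16 LD2_c50 LD3_c0)) :=
  Lre_g IH (LK LD1_c26 LD2_c47 LD3_c15) (LK LD1_c16 LD2_c50 LD3_c0) Lrfl Lrfl
theorem f212691 : Led Lsl_et (LP (LK LD1_c26 LD2_c7 LD3_c17)) = (LP (LK LD1_c16 LD2_c10 LD3_c19)) :=
  Lre_e IH (LK LD1_c26 LD2_c7 LD3_c17) (LK LD1_c16 LD2_c10 LD3_c19) Lrfl Lrfl
theorem f235645 : Led Lsl_dt (LP (LK LD1_c26 LD2_c7 LD3_c17)) = (LP (LK LD1_c26 LD2_c47 LD3_c15)) :=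
  Lgr Lrot136 (Lpr_et (f212691 IH) (Lpr_gf (K23.f212686 IH) (Lpe (K14.f212674 IH) (Lpr_dt (K12.f212635 IH) (Lpe (K16.f212952 IH) (Lpr_df (K16.f235639 IH) (Lpe (K12.f187036 IH) (Lpe (K25.f187050 IH) (Lpr_dt (K25.f187051 IH) (Lpe (f187052 IH) (Lpn (LP (LK LD1_c26 LD2_c47 LD3_c15)))))))))))))
theorem f346541 : Led Lsl_et (LP (LK LD1_c25 LD2_c9 LD3_c11)) = (LP (LK LD1_c15 LD2_c18 LD3_c21)) :=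
  Lre_e IH (LK LD1_c25 LD2_c9 LD3_c11) (LK LD1_c15 LD2_c18 LD3_c21) Lrfl Lrfl
theorem f346542 : Led Lsl_ct (LP (LK LD1_c15 LD2_c53 LD3_c26)) = (LP (LK LD1_c25 LD2_c9 LD3_c11)) :=
  Lgr Lrot15 (Lpe (K23.f346533 IH) (Lpr_cf (K25.f346537 IH) (Lpe (f346541 IH) (Lpn (LP (LK LD1_c25 LD2_c9 LD3_c11))))))
theorem f346547 : Led Lsl_cf (LP (LK LD1_c15 LD2_c53 LD3_c26)) = (LP (LK LD1_c25 LD2_c9 LD3_c11)) :=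
  Lgr Lrot11 (Lpr_ct (f346542 IH) (Lpn (LP (LK LD1_c25 LD2_c9 LD3_c11))))
theorem f347097 : Led Lsl_gf (LP (LK LD1_c26 LD2_c7 LD3_c17)) = (LP (LK LD1_c25 LD2_c9 LD3_c11)) :=
  Lgr Lrot144 (Lpr_dt (f235645 IH) (Lpr_gt (f187052 IH) (Lpr_dt (K25.f234265 IH) (Lpe (K22.f234260 IH) (Lpr_df (K19.f311528 IH) (Lpe (K19.f311544 IH) (Lpe (K20.f311545 IH) (Lpr_gf (K25.f347095 IH) (Lpr_cf (f346547 IH) (Lpn (LP (LK LD1_c25 LD2_c9 LD3_c11))))))))))))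
theorem f339888 : Led Lsl_bf (LP (LK LD1_c18 LD2_c21 LD3_c37)) = (LP (LK LD1_c18 LD2_c39 LD3_c51)) :=
  Lgr Lrot24 (Lpr_bt (K23.f339886 IH) (Lpn (LP (LK LD1_c18 LD2_c39 LD3_c51))))
theorem f339890 : Led Lsl_bt (LP (LK LD1_c15 LD2_c9 LD3_c18)) = (LP (LK LD1_c10 LD2_c38 LD3_c56)) :=
  Lgr Lrot95 (Lpr_df (K21.f320941 IH) (Lpr_bf (f339888 IH) (Lpe (K18.f251017 IH) (Lpn (LP (LK LD1_c10 LD2_c38 LD3_c56))))))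
theorem f231327 : Led Lsl_gf (LP (LK LD1_c19 LD2_c10 LD3_c29)) = (LP (LK LD1_c10 LD2_c35 LD3_c39)) :=
  Lgr Lrot138 (Lpr_dt (K23.f196812 IH) (Lpr_gt (K23.f196810 IH) (Lpr_df (K10.f30852 IH) (Lpr_et (K10.f30849 IH) (Lpr_gt (K14.f50614 IH) (Lpe (K14.f49238 IH) (Lpr_dt (K13.f231297 IH) (Lpr_gt (K23.f231246 IH) (Lpe (K24.f231256 IH) (Lpr_et (K24.f231258 IH) (Lpn (LP (LK LD1_c10 LD2_c35 LD3_c39)))))))))))))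
theorem f340115 : Led Lsl_gf (LP (LK LD1_c10 LD2_c38 LD3_c56)) = (LP (LK LD1_c18 LD2_c58 LD3_c24)) :=
  Lgr Lrot138 (Lpr_dt (K18.f251017 IH) (Lpe (K23.f306505 IH) (Lpe (K23.f293752 IH) (Lpr_et (K18.f304093 IH) (Lpr_gt (K23.f340113 IH) (Lpe (K24.f211376 IH) (Lpe (K24.f231278 IH) (Lpe (f231327 IH) (Lpe (K24.f196813 IH) (Lpr_et (K23.f291719 IH) (Lpn (LP (LK LD1_c18 LD2_c58 LD3_c24)))))))))))))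
theorem f344854 : Led Lsl_bt (LP (LK LD1_c16 LD2_c12 LD3_c51)) = (LP (LK LD1_c18 LD2_c58 LD3_c24)) :=
  Lgr Lrot127 (Lpr_bf (K23.f344852 IH) (Lpn (LP (LK LD1_c18 LD2_c58 LD3_c24))))
theorem f347099 : Led Lsl_cf (LP (LK LD1_c26 LD2_c7 LD3_c17)) = (LP (LK LD1_c16 LD2_c12 LD3_c51)) :=
  Lgr Lrot163 (Lpr_gf (f347097 IH) (Lpe (f346542 IH) (Lpr_gf (K23.f346557 IH) (Lpe (K25.f343050 IH) (Lpr_ct (K21.f296845 IH) (Lpe (K21.f327409 IH) (Lpe (K21.f314292 IH) (Lpr_bt (f339890 IH) (Lpr_gf (f340115 IH) (Lpe (f344854 IH) (Lpn (LP (LK LD1_c16 LD2_c12 LD3_c51)))))))))))))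
theorem f235402 : Led Lsl_ct (LP (LK LD1_c25 LD2_c49 LD3_c41)) = (LP (LK LD1_c15 LD2_c53 LD3_c43)) :=
  Lre_c IH (LK LD1_c25 LD2_c49 LD3_c41) (LK LD1_c15 LD2_c53 LD3_c43) Lrfl Lrfl
theorem f347103 : Led Lsl_gt (LP (LK LD1_c26 LD2_c7 LD3_c17)) = (LP (LK LD1_c25 LD2_c49 LD3_c41)) :=
  Lgr Lrot150 (Lpr_cf (f347099 IH) (Lpr_gf (f329862 IH) (Lpr_df (K19.f225601 IH) (Lpr_gt (K19.f225598 IH) (Lpr_ct (K25.f225606 IH) (Lpe (K25.f344906 IH) (Lpr_ct (K25.f235406 IH) (Lpr_df (K13.f235399 IH) (Lpe (f235402 IH) (Lpn (LP (LK LD1_c25 LD2_c49 LD3_c41))))))))))))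
theorem f235407 : Led Lsl_bt (LP (LK LD1_c15 LD2_c53 LD3_c43)) = (LP (LK LD1_c25 LD2_c49 LD3_c39)) :=
  Lre_b IH (LK LD1_c15 LD2_c53 LD3_c43) (LK LD1_c25 LD2_c49 LD3_c39) Lrfl Lrfl
theorem f340634 : Led Lsl_et (LP (LK LD1_c11 LD2_c2 LD3_c57)) = (LP (LK LD1_c19 LD2_c54 LD3_c26)) :=
  Lre_e IH (LK LD1_c11 LD2_c2 LD3_c57) (LK LD1_c19 LD2_c54 LD3_c26) Lrfl Lrfl
theorem f361706 : Led Lsl_gt (LP (LK LD1_c19 LD2_c54 LD3_c26)) = (LP (LK LD1_c11 LD2_c54 LD3_c58)) :=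
  Lgr Lrot131 (Lpe (f340634 IH) (Lpr_dt (f222400 IH) (Lpr_gf (K26.f361702 IH) (Lpe (K26.f191401 IH) (Lpe (K26.f191400 IH) (Lpe (K19.f190092 IH) (Lpe (K20.f322043 IH) (Lpr_gf (K26.f322065 IH) (Lpe (K9.f169538 IH) (Lpr_et (K15.f195689 IH) (Lpn (LP (LK LD1_c11 LD2_c54 LD3_c58)))))))))))))
theorem f195687 : Led Lsl_dt (LP (LK LD1_c6 LD2_c5 LD3_c43)) = (LP (LK LD1_c11 LD2_c54 LD3_c58)) :=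
  Lre_d IH (LK LD1_c6 LD2_c5 LD3_c43) (LK LD1_c11 LD2_c54 LD3_c58) Lrfl Lrfl
theorem f312036 : Led Lsl_gf (LP (LK LD1_c4 LD2_c18 LD3_c57)) = (LP (LK LD1_c4 LD2_c22 LD3_c21)) :=
  Lgr Lrot141 (Lpe (K15.f259620 IH) (Lpr_dt (K12.f220526 IH) (Lpr_gt (K12.f27503 IH) (Lpe (K12.f27497 IH) (Lpr_et (K12.f27498 IH) (Lpr_gt (K12.f27518 IH) (Lpr_dt (K13.f27520 IH) (Lpr_gt (K19.f312028 IH) (Lpr_df (K16.f261455 IH) (Lpe (K17.f285757 IH) (Lpn (LP (LK LD1_c4 LD2_c22 LD3_c21)))))))))))))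
theorem f189772 : Led Lsl_et (LP (LK LD1_c10 LD2_c19 LD3_c57)) = (LP (LK LD1_c5 LD2_c15 LD3_c16)) :=
  Lre_e IH (LK LD1_c10 LD2_c19 LD3_c57) (LK LD1_c5 LD2_c15 LD3_c16) Lrfl Lrfl
theorem f264968 : Led Lsl_gt (LP (LK LD1_c8 LD2_c26 LD3_c54)) = (LP (LK LD1_c8 LD2_c15 LD3_c48)) :=
  Lgr Lrot112 (Lpe (K15.f27505 IH) (Lpr_et (K15.f27504 IH) (Lpe (K12.f49893 IH) (Lpe (K23.f49892 IH) (Lpr_dt (K14.f49440 IH) (Lpr_gf (K10.f49854 IH) (Lpe (K15.f45237 IH) (Lpr_gf (K15.f264953 IH) (Lpe (f189772 IH) (Lpe (K15.f189763 IH) (Lpn (LP (LK LD1_c8 LD2_c15 LD3_c48)))))))))))))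
theorem f312038 : Led Lsl_df (LP (LK LD1_c4 LD2_c18 LD3_c57)) = (LP (LK LD1_c5 LD2_c2 LD3_c6)) :=
  Lgr Lrot168 (Lpr_gf (f312036 IH) (Lpr_df (K23.f285790 IH) (Lpr_et (K17.f285792 IH) (Lpe (K17.f286294 IH) (Lpe (K17.f286299 IH) (Lpe (K17.f286300 IH) (Lpe (K17.f189771 IH) (Lpe (K15.f189769 IH) (Lpe (f264968 IH) (Lpr_ef (K15.f259618 IH) (Lpn (LP (LK LD1_c5 LD2_c2 LD3_c6)))))))))))))
theorem f259635 : Led Lsl_et (LP (LK LD1_c25 LD2_c46 LD3_c51)) = (LP (LK LD1_c15 LD2_c50 LD3_c55)) :=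
  Lre_e IH (LK LD1_c25 LD2_c46 LD3_c51) (LK LD1_c15 LD2_c50 LD3_c55) Lrfl Lrfl
theorem f361710 : Led Lsl_df (LP (LK LD1_c19 LD2_c54 LD3_c26)) = (LP (LK LD1_c25 LD2_c46 LD3_c51)) :=
  Lgr Lrot170 (Lpr_gt (f361706 IH) (Lpe (f195687 IH) (Lpr_et (K14.f195685 IH) (Lpr_gt (K15.f257088 IH) (Lpe (f312038 IH) (Lpe (K15.f259629 IH) (Lpe (K15.f219936 IH) (Lpr_et (K17.f49514 IH) (Lpr_gt (K26.f49504 IH) (Lpe (f259635 IH) (Lpn (LP (LK LD1_c25 LD2_c46 LD3_c51)))))))))))))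
theorem f361712 : Led Lsl_dt (LP (LK LD1_c19 LD2_c54 LD3_c26)) = (LP (LK LD1_c25 LD2_c46 LD3_c51)) :=
  Lgr Lrot42 (Lpr_df (f361710 IH) (Lpn (LP (LK LD1_c25 LD2_c46 LD3_c51))))
theorem f189437 : Led Lsl_et (LP (LK LD1_c19 LD2_c54 LD3_c26)) = (LP (LK LD1_c11 LD2_c2 LD3_c57)) :=
  Lre_e IH (LK LD1_c19 LD2_c54 LD3_c26) (LK LD1_c11 LD2_c2 LD3_c57) Lrfl Lrfl
theorem f232193 : Led Lsl_ft (LP (LK LD1_c15 LD2_c34 LD3_c57)) = (LP (LK LD1_c8 LD2_c17 LD3_c10)) :=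
  Lre_f IH (LK LD1_c15 LD2_c34 LD3_c57) (LK LD1_c8 LD2_c17 LD3_c10) Lrfl Lrfl
theorem f322122 : Led Lsl_ef (LP (LK LD1_c15 LD2_c34 LD3_c57)) = (LP (LK LD1_c15 LD2_c28 LD3_c14)) :=
  Lgr Lrot21 (Lpr_ft (f232193 IH) (Lpr_et (K14.f232198 IH) (Lpe (K19.f311840 IH) (Lpr_et (K17.f251729 IH) (Lpr_ft (K20.f322116 IH) (Lpn (LP (LK LD1_c15 LD2_c28 LD3_c14))))))))
theorem f361100 : Led Lsl_gt (LP (LK LD1_c9 LD2_c55 LD3_c17)) = (LP (LK LD1_c17 LD2_c39 LD3_c43)) :=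
  Lgr Lrot46 (Lpr_gf (K25.f355668 IH) (Lpr_ft (K26.f191077 IH) (Lpr_at (K26.f361093 IH) (Lpn (LP (LK LD1_c17 LD2_c39 LD3_c43))))))
theorem f361102 : Led Lsl_gf (LP (LK LD1_c25 LD2_c23 LD3_c55)) = (LP (LK LD1_c17 LD2_c45 LD3_c35)) :=
  Lgr Lrot141 (Lpr_ef (K21.f321957 IH) (Lpe (K21.f190804 IH) (Lpe (K26.f355692 IH) (Lpe (K26.f355683 IH) (Lpr_et (K26.f305970 IH) (Lpr_gt (f361100 IH) (Lpr_dt (K26.f361014 IH) (Lpr_gt (K26.f361001 IH) (Lpr_df (K26.f361019 IH) (Lpe (K26.f361025 IH) (Lpn (LP (LK LD1_c17 LD2_c45 LD3_c35)))))))))))))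
theorem f361033 : Led Lsl_et (LP (LK LD1_c17 LD2_c45 LD3_c35)) = (LP (LK LD1_c17 LD2_c46 LD3_c55)) :=
  Lgr Lrot87 (Lpr_ef (K26.f361025 IH) (Lpn (LP (LK LD1_c17 LD2_c46 LD3_c55))))
theorem f361039 : Led Lsl_gt (LP (LK LD1_c27 LD2_c31 LD3_c59)) = (LP (LK LD1_c27 LD2_c36 LD3_c4)) :=
  Lgr Lrot112 (Lpe (K26.f247005 IH) (Lpr_et (f361033 IH) (Lpr_gf (K26.f361008 IH) (Lpr_ef (K20.f321730 IH) (Lpe (K26.f296895 IH) (Lpr_gf (K18.f297727 IH) (Lpr_df (K16.f254253 IH) (Lpe (K22.f230764 IH) (Lpr_ef (K25.f336334 IH) (Lpe (K25.f282177 IH) (Lpn (LP (LK LD1_c27 LD2_c36 LD3_c4)))))))))))))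
theorem f311097 : Led Lsl_et (LP (LK LD1_c20 LD2_c57 LD3_c16)) = (LP (LK LD1_c11 LD2_c53 LD3_c35)) :=
  Lre_e IH (LK LD1_c20 LD2_c57 LD3_c16) (LK LD1_c11 LD2_c53 LD3_c35) Lrfl Lrfl
theorem f352345 : Led Lsl_ct (LP (LK LD1_c27 LD2_c36 LD3_c4)) = (LP (LK LD1_c20 LD2_c57 LD3_c16)) :=
  Lgr Lrot15 (Lpe (K25.f282179 IH) (Lpr_cf (K25.f352276 IH) (Lpe (f311097 IH) (Lpn (LP (LK LD1_c20 LD2_c57 LD3_c16))))))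
theorem f346020 : Led Lsl_et (LP (LK LD1_c8 LD2_c55 LD3_c37)) = (LP (LK LD1_c16 LD2_c42 LD3_c40)) :=
  Lre_e IH (LK LD1_c8 LD2_c55 LD3_c37) (LK LD1_c16 LD2_c42 LD3_c40) Lrfl Lrfl
theorem f321579 : Led Lsl_et (LP (LK LD1_c11 LD2_c53 LD3_c35)) = (LP (LK LD1_c20 LD2_c57 LD3_c16)) :=
  Lre_e IH (LK LD1_c11 LD2_c53 LD3_c35) (LK LD1_c20 LD2_c57 LD3_c16) Lrfl Lrfl
theorem f352357 : Led Lsl_gf (LP (LK LD1_c16 LD2_c42 LD3_c40)) = (LP (LK LD1_c20 LD2_c57 LD3_c16)) :=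
  Lgr Lrot141 (Lpe (f346020 IH) (Lpr_dt (K24.f337954 IH) (Lpr_gt (K24.f337955 IH) (Lpr_df (K24.f350638 IH) (Lpr_et (K24.f350637 IH) (Lpe (K24.f350630 IH) (Lpr_dt (K17.f199024 IH) (Lpr_gt (K25.f352347 IH) (Lpe (K25.f42395 IH) (Lpr_et (f321579 IH) (Lpn (LP (LK LD1_c20 LD2_c57 LD3_c16)))))))))))))
theorem f320463 : Led Lsl_ct (LP (LK LD1_c16 LD2_c42 LD3_c40)) = (LP (LK LD1_c8 LD2_c55 LD3_c39)) :=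
  Lre_c IH (LK LD1_c16 LD2_c42 LD3_c40) (LK LD1_c8 LD2_c55 LD3_c39) Lrfl Lrfl
theorem f247585 : Led Lsl_ct (LP (LK LD1_c16 LD2_c35 LD3_c4)) = (LP (LK LD1_c8 LD2_c52 LD3_c13)) :=
  Lre_c IH (LK LD1_c16 LD2_c35 LD3_c4) (LK LD1_c8 LD2_c52 LD3_c13) Lrfl Lrfl
theorem f361104 : Led Lsl_gt (LP (LK LD1_c16 LD2_c35 LD3_c49)) = (LP (LK LD1_c16 LD2_c35 LD3_c4)) :=
  Lgr Lrot150 (Lpr_cf (K21.f215076 IH) (Lpr_gf (f361102 IH) (Lpe (K26.f247007 IH) (Lpr_gt (f361039 IH) (Lpr_ct (f352345 IH) (Lpe (f352357 IH) (Lpr_ct (f320463 IH) (Lpr_df (K25.f337682 IH) (Lpe (f247585 IH) (Lpn (LP (LK LD1_c16 LD2_c35 LD3_c4))))))))))))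
theorem f215082 : Led Lsl_bt (LP (LK LD1_c25 LD2_c23 LD3_c55)) = (LP (LK LD1_c15 LD2_c30 LD3_c59)) :=
  Lre_b IH (LK LD1_c25 LD2_c23 LD3_c55) (LK LD1_c15 LD2_c30 LD3_c59) Lrfl Lrfl
theorem f253680 : Led Lsl_ct (LP (LK LD1_c10 LD2_c11 LD3_c35)) = (LP (LK LD1_c18 LD2_c34 LD3_c5)) :=
  Lre_c IH (LK LD1_c10 LD2_c11 LD3_c35) (LK LD1_c18 LD2_c34 LD3_c5) Lrfl Lrfl
theorem f293507 : Led Lsl_bt (LP (LK LD1_c2 LD2_c28 LD3_c30)) = (LP (LK LD1_c5 LD2_c1 LD3_c32)) :=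
  Lre_b IH (LK LD1_c2 LD2_c28 LD3_c30) (LK LD1_c5 LD2_c1 LD3_c32) Lrfl Lrfl
theorem f293508 : Led Lsl_gt (LP (LK LD1_c5 LD2_c1 LD3_c32)) = (LP (LK LD1_c9 LD2_c53 LD3_c20)) :=
  Lre_g IH (LK LD1_c5 LD2_c1 LD3_c32) (LK LD1_c9 LD2_c53 LD3_c20) Lrfl Lrfl
theorem f355598 : Led Lsl_bt (LP (LK LD1_c10 LD2_c11 LD3_c35)) = (LP (LK LD1_c9 LD2_c53 LD3_c20)) :=
  Lgr Lrot92 (Lpr_ct (f253680 IH) (Lpr_gt (K25.f355593 IH) (Lpe (K23.f190476 IH) (Lpr_bt (K14.f190474 IH) (Lpr_gt (f340496 IH) (Lpr_ct (K23.f293359 IH) (Lpr_gt (K23.f240144 IH) (Lpe (K23.f247827 IH) (Lpr_bt (f293507 IH) (Lpr_gt (f293508 IH) (Lpn (LP (LK LD1_c9 LD2_c53 LD3_c20)))))))))))))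
theorem f361106 : Led Lsl_gf (LP (LK LD1_c15 LD2_c30 LD3_c59)) = (LP (LK LD1_c9 LD2_c53 LD3_c20)) :=
  Lgr Lrot124 (Lpe (f215082 IH) (Lpe (K21.f215076 IH) (Lpr_gt (f361104 IH) (Lpe (K22.f247582 IH) (Lpe (K22.f337665 IH) (Lpr_gt (K22.f214815 IH) (Lpr_ct (K14.f214906 IH) (Lpe (K25.f355585 IH) (Lpe (f253680 IH) (Lpr_bt (f355598 IH) (Lpn (LP (LK LD1_c9 LD2_c53 LD3_c20)))))))))))))
theorem f311534 : Led Lsl_dt (LP (LK LD1_c18 LD2_c5 LD3_c50)) = (LP (LK LD1_c9 LD2_c53 LD3_c20)) :=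
  Lre_d IH (LK LD1_c18 LD2_c5 LD3_c50) (LK LD1_c9 LD2_c53 LD3_c20) Lrfl Lrfl
theorem f327609 : Led Lsl_et (LP (LK LD1_c15 LD2_c50 LD3_c55)) = (LP (LK LD1_c25 LD2_c46 LD3_c51)) :=
  Lre_e IH (LK LD1_c15 LD2_c50 LD3_c55) (LK LD1_c25 LD2_c46 LD3_c51) Lrfl Lrfl
theorem f49912 : Led Lsl_et (LP (LK LD1_c8 LD2_c15 LD3_c2)) = (LP (LK LD1_c4 LD2_c7 LD3_c30)) :=
  Lre_e IH (LK LD1_c8 LD2_c15 LD3_c2) (LK LD1_c4 LD2_c7 LD3_c30) Lrfl Lrfl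
theorem f358892 : Led Lsl_gt (LP (LK LD1_c25 LD2_c46 LD3_c51)) = (LP (LK LD1_c18 LD2_c8 LD3_c47)) :=
  Lgr Lrot137 (Lpe (f327609 IH) (Lpe (K26.f348360 IH) (Lpr_gf (K26.f358888 IH) (Lpe (K24.f259718 IH) (Lpr_et (f49912 IH) (Lpr_gf (K15.f259699 IH) (Lpe (K15.f246188 IH) (Lpe (K21.f246165 IH) (Lpe (K24.f309615 IH) (Lpr_df (K24.f239633 IH) (Lpn (LP (LK LD1_c18 LD2_c8 LD3_c47)))))))))))))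
theorem f239638 : Led Lsl_et (LP (LK LD1_c15 LD2_c53 LD3_c41)) = (LP (LK LD1_c25 LD2_c49 LD3_c39)) :=
  Lre_e IH (LK LD1_c15 LD2_c53 LD3_c41) (LK LD1_c25 LD2_c49 LD3_c39) Lrfl Lrfl
theorem f361716 : Led Lsl_gf (LP (LK LD1_c18 LD2_c5 LD3_c50)) = (LP (LK LD1_c25 LD2_c49 LD3_c39)) :=
  Lgr Lrot138 (Lpr_dt (f311534 IH) (Lpe (f361106 IH) (Lpr_df (K20.f322108 IH) (Lpe (f322122 IH) (Lpe (f340637 IH) (Lpe (f189437 IH) (Lpr_dt (f361712 IH) (Lpr_gt (f358892 IH) (Lpe (K24.f239543 IH) (Lpr_et (f239638 IH) (Lpn (LP (LK LD1_c25 LD2_c49 LD3_c39)))))))))))))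
theorem f371056 : Led Lsl_bt (LP (LK LD1_c18 LD2_c34 LD3_c6)) = (LP (LK LD1_c18 LD2_c5 LD3_c50)) :=
  Lgr Lrot92 (Lpr_ct (f307229 IH) (Lpr_gt (f371052 IH) (Lpr_cf (f353905 IH) (Lpe (f335847 IH) (Lpe (f329862 IH) (Lpe (f347099 IH) (Lpr_gt (f347103 IH) (Lpe (K25.f235408 IH) (Lpr_bt (f235407 IH) (Lpe (f361716 IH) (Lpn (LP (LK LD1_c18 LD2_c5 LD3_c50)))))))))))))
theorem f371060 : Led Lsl_bf (LP (LK LD1_c10 LD2_c11 LD3_c35)) = (LP (LK LD1_c9 LD2_c53 LD3_c20)) :=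
  Lgr Lrot93 (Lpr_dt (K21.f256408 IH) (Lpr_bt (f371056 IH) (Lpr_dt (f311534 IH) (Lpn (LP (LK LD1_c9 LD2_c53 LD3_c20))))))
theorem f307175 : Led Lsl_bt (LP (LK LD1_c5 LD2_c10 LD3_c57)) = (LP (LK LD1_c10 LD2_c12 LD3_c34)) :=
  Lre_b IH (LK LD1_c5 LD2_c10 LD3_c57) (LK LD1_c10 LD2_c12 LD3_c34) Lrfl Lrfl
theorem f371062 : Led Lsl_et (LP (LK LD1_c10 LD2_c12 LD3_c34)) = (LP (LK LD1_c9 LD2_c53 LD3_c20)) :=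
  Lgr Lrot74 (Lpe (f307175 IH) (Lpr_ef (K21.f307220 IH) (Lpr_bf (f371060 IH) (Lpn (LP (LK LD1_c9 LD2_c53 LD3_c20))))))
theorem f307176 : Led Lsl_bt (LP (LK LD1_c9 LD2_c37 LD3_c8)) = (LP (LK LD1_c4 LD2_c52 LD3_c25)) :=
  Lre_b IH (LK LD1_c9 LD2_c37 LD3_c8) (LK LD1_c4 LD2_c52 LD3_c25) Lrfl Lrfl
theorem f307177 : Led Lsl_dt (LP (LK LD1_c10 LD2_c12 LD3_c34)) = (LP (LK LD1_c9 LD2_c37 LD3_c8)) :=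
  Lgr Lrot79 (Lpe (f307175 IH) (Lpr_df (K21.f307173 IH) (Lpe (f307176 IH) (Lpn (LP (LK LD1_c9 LD2_c37 LD3_c8))))))
theorem f253969 : Led Lsl_et (LP (LK LD1_c1 LD2_c14 LD3_c20)) = (LP (LK LD1_c2 LD2_c34 LD3_c39)) :=
  Lre_e IH (LK LD1_c1 LD2_c14 LD3_c20) (LK LD1_c2 LD2_c34 LD3_c39) Lrfl Lrfl
theorem f311517 : Led Lsl_gt (LP (LK LD1_c2 LD2_c34 LD3_c39)) = (LP (LK LD1_c4 LD2_c51 LD3_c3)) :=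
  Lgr Lrot131 (Lpe (f253969 IH) (Lpr_dt (K15.f45235 IH) (Lpr_gf (K15.f264953 IH) (Lpe (K15.f189733 IH) (Lpe (K15.f264948 IH) (Lpe (K25.f199761 IH) (Lpr_dt (K13.f199760 IH) (Lpe (K13.f199704 IH) (Lpe (K19.f234201 IH) (Lpr_et (K19.f311509 IH) (Lpn (LP (LK LD1_c4 LD2_c51 LD3_c3)))))))))))))
theorem f371086 : Led Lsl_gt (LP (LK LD1_c9 LD2_c37 LD3_c8)) = (LP (LK LD1_c10 LD2_c19 LD3_c19)) :=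
  Lgr Lrot112 (Lpe (f307177 IH) (Lpr_et (f371062 IH) (Lpe (f293508 IH) (Lpe (K23.f311511 IH) (Lpr_dt (K19.f311499 IH) (Lpe (f311517 IH) (Lpe (K16.f49898 IH) (Lpe (K14.f49895 IH) (Lpe (f49912 IH) (Lpr_dt (K24.f259718 IH) (Lpn (LP (LK LD1_c10 LD2_c19 LD3_c19)))))))))))))
theorem f349777 : Led Lsl_dt (LP (LK LD1_c15 LD2_c35 LD3_c57)) = (LP (LK LD1_c8 LD2_c17 LD3_c41)) :=
  Lre_d IH (LK LD1_c15 LD2_c35 LD3_c57) (LK LD1_c8 LD2_c17 LD3_c41) Lrfl Lrfl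
theorem f349803 : Led Lsl_bf (LP (LK LD1_c24 LD2_c49 LD3_c14)) = (LP (LK LD1_c16 LD2_c19 LD3_c2)) :=
  Lgr Lrot96 (Lpr_et (f188703 IH) (Lpr_bt (K23.f349795 IH) (Lpr_et (K23.f212518 IH) (Lpn (LP (LK LD1_c16 LD2_c19 LD3_c2))))))
theorem f233950 : Led Lsl_bt (LP (LK LD1_c9 LD2_c36 LD3_c32)) = (LP (LK LD1_c17 LD2_c41 LD3_c45)) :=
  Lre_b IH (LK LD1_c9 LD2_c36 LD3_c32) (LK LD1_c17 LD2_c41 LD3_c45) Lrfl Lrfl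
theorem f349713 : Led Lsl_bt (LP (LK LD1_c8 LD2_c20 LD3_c6)) = (LP (LK LD1_c14 LD2_c58 LD3_c7)) :=
  Lgr Lrot95 (Lpe (K23.f1376 IH) (Lpr_bf (K23.f349709 IH) (Lpe (K18.f39133 IH) (Lpn (LP (LK LD1_c14 LD2_c58 LD3_c7))))))
theorem f48954 : Led Lsl_ct (LP (LK LD1_c8 LD2_c20 LD3_c6)) = (LP (LK LD1_c15 LD2_c41 LD3_c18)) :=
  Lre_c IH (LK LD1_c8 LD2_c20 LD3_c6) (LK LD1_c15 LD2_c41 LD3_c18) Lrfl Lrfl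
theorem f355011 : Led Lsl_gt (LP (LK LD1_c15 LD2_c35 LD3_c58)) = (LP (LK LD1_c15 LD2_c41 LD3_c18)) :=
  Lgr Lrot65 (Lpr_cf (K23.f349766 IH) (Lpe (f349803 IH) (Lpr_gf (f355009 IH) (Lpe (f233950 IH) (Lpr_ct (K18.f30659 IH) (Lpe (K22.f279766 IH) (Lpe (K22.f232402 IH) (Lpe (K22.f328691 IH) (Lpe (f349713 IH) (Lpr_ct (f48954 IH) (Lpn (LP (LK LD1_c15 LD2_c41 LD3_c18)))))))))))))
theorem f349784 : Led Lsl_et (LP (LK LD1_c8 LD2_c17 LD3_c41)) = (LP (LK LD1_c15 LD2_c35 LD3_c58)) :=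
  Lre_e IH (LK LD1_c8 LD2_c17 LD3_c41) (LK LD1_c15 LD2_c35 LD3_c58) Lrfl Lrfl
theorem f349782 : Led Lsl_dt (LP (LK LD1_c8 LD2_c17 LD3_c41)) = (LP (LK LD1_c15 LD2_c35 LD3_c57)) :=
  Lre_d IH (LK LD1_c8 LD2_c17 LD3_c41) (LK LD1_c15 LD2_c35 LD3_c57) Lrfl Lrfl
theorem f48956 : Led Lsl_ct (LP (LK LD1_c15 LD2_c41 LD3_c18)) = (LP (LK LD1_c8 LD2_c20 LD3_c6)) :=
  Lre_c IH (LK LD1_c15 LD2_c41 LD3_c18) (LK LD1_c8 LD2_c20 LD3_c6) Lrfl Lrfl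
theorem f250644 : Led Lsl_ef (LP (LK LD1_c15 LD2_c41 LD3_c18)) = (LP (LK LD1_c10 LD2_c51 LD3_c52)) :=
  Lgr Lrot28 (Lpr_ct (f48956 IH) (Lpr_et (K14.f250640 IH) (Lpr_ct (K23.f250643 IH) (Lpn (LP (LK LD1_c10 LD2_c51 LD3_c52))))))
theorem f345702 : Led Lsl_dt (LP (LK LD1_c10 LD2_c51 LD3_c52)) = (LP (LK LD1_c19 LD2_c38 LD3_c38)) :=
  Lre_d IH (LK LD1_c10 LD2_c51 LD3_c52) (LK LD1_c19 LD2_c38 LD3_c38) Lrfl Lrfl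
theorem f234664 : Led Lsl_et (LP (LK LD1_c8 LD2_c16 LD3_c29)) = (LP (LK LD1_c4 LD2_c8 LD3_c13)) :=
  Lre_e IH (LK LD1_c8 LD2_c16 LD3_c29) (LK LD1_c4 LD2_c8 LD3_c13) Lrfl Lrfl
theorem f254751 : Led Lsl_et (LP (LK LD1_c2 LD2_c1 LD3_c61)) = (LP (LK LD1_c4 LD2_c9 LD3_c22)) :=
  Lre_e IH (LK LD1_c2 LD2_c1 LD3_c61) (LK LD1_c4 LD2_c9 LD3_c22) Lrfl Lrfl
theorem f234481 : Led Lsl_gt (LP (LK LD1_c4 LD2_c9 LD3_c22)) = (LP (LK LD1_c8 LD2_c18 LD3_c48)) :=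
  Lre_g IH (LK LD1_c4 LD2_c9 LD3_c22) (LK LD1_c8 LD2_c18 LD3_c48) Lrfl Lrfl
theorem f349928 : Led Lsl_ef (LP (LK LD1_c8 LD2_c18 LD3_c48)) = (LP (LK LD1_c8 LD2_c31 LD3_c43)) :=
  Lgr Lrot17 (Lpe (f234481 IH) (Lpe (f254751 IH) (Lpr_dt (K14.f190855 IH) (Lpe (K14.f233262 IH) (Lpe (K14.f236245 IH) (Lpe (K14.f234659 IH) (Lpe (f234664 IH) (Lpr_dt (K23.f47585 IH) (Lpr_gf (K24.f349918 IH) (Lpe (K24.f349920 IH) (Lpn (LP (LK LD1_c8 LD2_c31 LD3_c43)))))))))))))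
theorem f349934 : Led Lsl_et (LP (LK LD1_c8 LD2_c18 LD3_c48)) = (LP (LK LD1_c8 LD2_c31 LD3_c43)) :=
  Lgr Lrot87 (Lpr_ef (f349928 IH) (Lpn (LP (LK LD1_c8 LD2_c31 LD3_c43))))
theorem f348042 : Led Lsl_dt (LP (LK LD1_c8 LD2_c18 LD3_c48)) = (LP (LK LD1_c15 LD2_c38 LD3_c14)) :=
  Lre_d IH (LK LD1_c8 LD2_c18 LD3_c48) (LK LD1_c15 LD2_c38 LD3_c14) Lrfl Lrfl
theorem f323008 : Led Lsl_et (LP (LK LD1_c2 LD2_c5 LD3_c29)) = (LP (LK LD1_c4 LD2_c16 LD3_c16)) :=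
  Lre_e IH (LK LD1_c2 LD2_c5 LD3_c29) (LK LD1_c4 LD2_c16 LD3_c16) Lrfl Lrfl
theorem f349941 : Led Lsl_gf (LP (LK LD1_c15 LD2_c38 LD3_c14)) = (LP (LK LD1_c19 LD2_c38 LD3_c38)) :=
  Lgr Lrot134 (Lpe (f348042 IH) (Lpr_et (f349934 IH) (Lpr_gt (K24.f339052 IH) (Lpe (f323008 IH) (Lpr_dt (K17.f243584 IH) (Lpr_gt (K23.f282824 IH) (Lpr_df (K17.f282712 IH) (Lpr_et (f282728 IH) (Lpe (K26.f347764 IH) (Lpr_dt (f345702 IH) (Lpn (LP (LK LD1_c19 LD2_c38 LD3_c38)))))))))))))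
theorem f726 : Led Lsl_dt (LP (LK LD1_c4 LD2_c16 LD3_c16)) = (LP (LK LD1_c8 LD2_c31 LD3_c44)) :=
  Lre_d IH (LK LD1_c4 LD2_c16 LD3_c16) (LK LD1_c8 LD2_c31 LD3_c44) Lrfl Lrfl
theorem f355019 : Led Lsl_gf (LP (LK LD1_c15 LD2_c35 LD3_c57)) = (LP (LK LD1_c8 LD2_c31 LD3_c44)) :=
  Lgr Lrot134 (Lpe (f349782 IH) (Lpr_et (f349784 IH) (Lpr_gt (f355011 IH) (Lpr_ef (f250644 IH) (Lpr_dt (f345702 IH) (Lpe (f349941 IH) (Lpe (f348042 IH) (Lpr_et (f349934 IH) (Lpr_gt (K24.f339052 IH) (Lpr_dt (f726 IH) (Lpn (LP (LK LD1_c8 LD2_c31 LD3_c44)))))))))))))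
theorem f371090 : Led Lsl_ct (LP (LK LD1_c9 LD2_c37 LD3_c8)) = (LP (LK LD1_c8 LD2_c31 LD3_c43)) :=
  Lgr Lrot8 (Lpr_gt (f371086 IH) (Lpe (K24.f259720 IH) (Lpr_gt (K23.f44992 IH) (Lpr_dt (K23.f212514 IH) (Lpe (K23.f349771 IH) (Lpe (f349777 IH) (Lpr_gf (f355019 IH) (Lpe (f726 IH) (Lpe (K24.f339052 IH) (Lpn (LP (LK LD1_c8 LD2_c31 LD3_c43))))))))))))
theorem f365484 : Led Lsl_at (LP (LK LD1_c8 LD2_c32 LD3_c7)) = (LP (LK LD1_c10 LD2_c19 LD3_c19)) :=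
  Lgr Lrot100 (Lpr_af (f365482 IH) (Lpn (LP (LK LD1_c10 LD2_c19 LD3_c19))))
theorem f170486 : Led Lsl_ft (LP (LK LD1_c16 LD2_c1 LD3_c35)) = (LP (LK LD1_c8 LD2_c32 LD3_c7)) :=
  Lre_f IH (LK LD1_c16 LD2_c1 LD3_c35) (LK LD1_c8 LD2_c32 LD3_c7) Lrfl Lrfl
theorem f371088 : Led Lsl_gf (LP (LK LD1_c9 LD2_c37 LD3_c8)) = (LP (LK LD1_c16 LD2_c1 LD3_c35)) :=
  Lgr Lrot47 (Lpr_gt (f371086 IH) (Lpe (f365484 IH) (Lpe (f170486 IH) (Lpn (LP (LK LD1_c16 LD2_c1 LD3_c35))))))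
theorem f339044 : Led Lsl_bt (LP (LK LD1_c8 LD2_c31 LD3_c33)) = (LP (LK LD1_c8 LD2_c40 LD3_c23)) :=
  Lgr Lrot95 (Lpe (K19.f294173 IH) (Lpr_bf (K26.f339040 IH) (Lpr_df (K21.f323799 IH) (Lpn (LP (LK LD1_c8 LD2_c40 LD3_c23))))))
theorem f339046 : Led Lsl_bf (LP (LK LD1_c8 LD2_c31 LD3_c33)) = (LP (LK LD1_c8 LD2_c40 LD3_c23)) :=
  Lgr Lrot24 (Lpr_bt (f339044 IH) (Lpn (LP (LK LD1_c8 LD2_c40 LD3_c23))))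
theorem f233996 : Led Lsl_gt (LP (LK LD1_c4 LD2_c51 LD3_c44)) = (LP (LK LD1_c9 LD2_c35 LD3_c38)) :=
  Lre_g IH (LK LD1_c4 LD2_c51 LD3_c44) (LK LD1_c9 LD2_c35 LD3_c38) Lrfl Lrfl
theorem f359224 : Led Lsl_ct (LP (LK LD1_c8 LD2_c40 LD3_c23)) = (LP (LK LD1_c9 LD2_c35 LD3_c38)) :=
  Lgr Lrot63 (Lpe (f339046 IH) (Lpr_gt (K19.f271412 IH) (Lpe (K16.f216763 IH) (Lpr_ct (K16.f216766 IH) (Lpr_gt (K24.f349999 IH) (Lpe (K23.f279405 IH) (Lpr_bt (K26.f359217 IH) (Lpr_gt (K26.f238238 IH) (Lpr_ct (f193295 IH) (Lpr_gt (f233996 IH) (Lpn (LP (LK LD1_c9 LD2_c35 LD3_c38)))))))))))))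
theorem f372443 : Led Lsl_gf (LP (LK LD1_c17 LD2_c36 LD3_c52)) = (LP (LK LD1_c9 LD2_c35 LD3_c38)) :=
  Lgr Lrot126 (Lpe (f170439 IH) (Lpe (f170434 IH) (Lpe (f371088 IH) (Lpr_ct (f371090 IH) (Lpr_gt (K24.f339052 IH) (Lpe (K24.f622 IH) (Lpr_bt (K24.f715 IH) (Lpr_gt (K19.f716 IH) (Lpr_bf (f339046 IH) (Lpr_ct (f359224 IH) (Lpn (LP (LK LD1_c9 LD2_c35 LD3_c38)))))))))))))
theorem f372445 : Led Lsl_ft (LP (LK LD1_c4 LD2_c51 LD3_c44)) = (LP (LK LD1_c9 LD2_c35 LD3_c41)) :=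
  Lre_f IH (LK LD1_c4 LD2_c51 LD3_c44) (LK LD1_c9 LD2_c35 LD3_c41) Lrfl Lrfl
theorem f372446 : Led Lsl_af (LP (LK LD1_c17 LD2_c36 LD3_c52)) = (LP (LK LD1_c9 LD2_c35 LD3_c41)) :=
  Lgr Lrot31 (Lpr_gf (f372443 IH) (Lpe (f233996 IH) (Lpr_ft (f372445 IH) (Lpn (LP (LK LD1_c9 LD2_c35 LD3_c41))))))
theorem f367975 : Led Lsl_et (LP (LK LD1_c17 LD2_c36 LD3_c52)) = (LP (LK LD1_c9 LD2_c35 LD3_c19)) :=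
  Lgr Lrot158 (Lpe (f170439 IH) (Lpr_ef (f367969 IH) (Lpe (K23.f327995 IH) (Lpn (LP (LK LD1_c9 LD2_c35 LD3_c19))))))
theorem f372450 : Led Lsl_et (LP (LK LD1_c15 LD2_c23 LD3_c15)) = (LP (LK LD1_c9 LD2_c35 LD3_c41)) :=
  Lgr Lrot123 (Lpr_af (K23.f327998 IH) (Lpe (f367975 IH) (Lpr_af (f372446 IH) (Lpn (LP (LK LD1_c9 LD2_c35 LD3_c41))))))
theorem f372454 : Led Lsl_ft (LP (LK LD1_c9 LD2_c35 LD3_c41)) = (LP (LK LD1_c4 LD2_c51 LD3_c44)) :=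
  Lre_f IH (LK LD1_c9 LD2_c35 LD3_c41) (LK LD1_c4 LD2_c51 LD3_c44) Lrfl Lrfl
theorem f232914 : Led Lsl_et (LP (LK LD1_c4 LD2_c51 LD3_c44)) = (LP (LK LD1_c2 LD2_c23 LD3_c41)) :=
  Lre_e IH (LK LD1_c4 LD2_c51 LD3_c44) (LK LD1_c2 LD2_c23 LD3_c41) Lrfl Lrfl
theorem f372455 : Led Lsl_ff (LP (LK LD1_c4 LD2_c50 LD3_c54)) = (LP (LK LD1_c2 LD2_c23 LD3_c41)) :=
  Lgr Lrot72 (Lpr_et (K25.f233969 IH) (Lpe (f365858 IH) (Lpr_et (f372450 IH) (Lpr_ft (f372454 IH) (Lpr_et (f232914 IH) (Lpn (LP (LK LD1_c2 LD2_c23 LD3_c41))))))))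
theorem f372457 : Led Lsl_at (LP (LK LD1_c4 LD2_c50 LD3_c54)) = (LP (LK LD1_c2 LD2_c23 LD3_c38)) :=
  Lgr Lrot66 (Lpr_ff (f372455 IH) (Lpe (f369479 IH) (Lpr_ff (f369490 IH) (Lpn (LP (LK LD1_c2 LD2_c23 LD3_c38))))))
theorem f192386 : Led Lsl_bt (LP (LK LD1_c9 LD2_c33 LD3_c52)) = (LP (LK LD1_c4 LD2_c50 LD3_c54)) :=
  Lre_b IH (LK LD1_c9 LD2_c33 LD3_c52) (LK LD1_c4 LD2_c50 LD3_c54) Lrfl Lrfl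
theorem f192430 : Led Lsl_at (LP (LK LD1_c17 LD2_c36 LD3_c44)) = (LP (LK LD1_c9 LD2_c33 LD3_c52)) :=
  Lre_a IH (LK LD1_c17 LD2_c36 LD3_c44) (LK LD1_c9 LD2_c33 LD3_c52) Lrfl Lrfl
theorem f171102 : Led Lsl_bt (LP (LK LD1_c2 LD2_c23 LD3_c38)) = (LP (LK LD1_c4 LD2_c51 LD3_c33)) :=
  Lre_b IH (LK LD1_c2 LD2_c23 LD3_c38) (LK LD1_c4 LD2_c51 LD3_c33) Lrfl Lrfl
theorem f171124 : Led Lsl_at (LP (LK LD1_c4 LD2_c51 LD3_c33)) = (LP (LK LD1_c9 LD2_c35 LD3_c10)) :=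
  Lre_a IH (LK LD1_c4 LD2_c51 LD3_c33) (LK LD1_c9 LD2_c35 LD3_c10) Lrfl Lrfl
theorem f372957 : Led Lsl_bf (LP (LK LD1_c17 LD2_c36 LD3_c44)) = (LP (LK LD1_c9 LD2_c35 LD3_c10)) :=
  Lgr Lrot81 (Lpr_at (f192430 IH) (Lpr_bt (f192386 IH) (Lpr_at (f372457 IH) (Lpr_bt (f171102 IH) (Lpr_at (f171124 IH) (Lpn (LP (LK LD1_c9 LD2_c35 LD3_c10))))))))
theorem f372461 : Led Lsl_ft (LP (LK LD1_c9 LD2_c33 LD3_c53)) = (LP (LK LD1_c4 LD2_c51 LD3_c43)) :=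
  Lgr Lrot54 (Lpe (K13.f189243 IH) (Lpr_ff (f372455 IH) (Lpe (K15.f232906 IH) (Lpn (LP (LK LD1_c4 LD2_c51 LD3_c43))))))
theorem f372471 : Led Lsl_ff (LP (LK LD1_c9 LD2_c33 LD3_c53)) = (LP (LK LD1_c4 LD2_c51 LD3_c43)) :=
  Lgr Lrot3 (Lpr_ft (f372461 IH) (Lpn (LP (LK LD1_c4 LD2_c51 LD3_c43))))
theorem f233707 : Led Lsl_bt (LP (LK LD1_c9 LD2_c33 LD3_c53)) = (LP (LK LD1_c17 LD2_c36 LD3_c45)) :=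
  Lre_b IH (LK LD1_c9 LD2_c33 LD3_c53) (LK LD1_c17 LD2_c36 LD3_c45) Lrfl Lrfl
theorem f233129 : Led Lsl_bt (LP (LK LD1_c9 LD2_c35 LD3_c35)) = (LP (LK LD1_c4 LD2_c51 LD3_c43)) :=
  Lre_b IH (LK LD1_c9 LD2_c35 LD3_c35) (LK LD1_c4 LD2_c51 LD3_c43) Lrfl Lrfl
theorem f372475 : Led Lsl_ft (LP (LK LD1_c17 LD2_c36 LD3_c45)) = (LP (LK LD1_c9 LD2_c35 LD3_c35)) :=
  Lgr Lrot75 (Lpe (f233707 IH) (Lpr_ff (f372471 IH) (Lpe (f233129 IH) (Lpn (LP (LK LD1_c9 LD2_c35 LD3_c35))))))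
theorem f192449 : Led Lsl_dt (LP (LK LD1_c9 LD2_c33 LD3_c52)) = (LP (LK LD1_c17 LD2_c36 LD3_c45)) :=
  Lre_d IH (LK LD1_c9 LD2_c33 LD3_c52) (LK LD1_c17 LD2_c36 LD3_c45) Lrfl Lrfl
theorem f372871 : Led Lsl_dt (LP (LK LD1_c9 LD2_c35 LD3_c35)) = (LP (LK LD1_c4 LD2_c51 LD3_c42)) :=
  Lre_d IH (LK LD1_c9 LD2_c35 LD3_c35) (LK LD1_c4 LD2_c51 LD3_c42) Lrfl Lrfl
theorem f372872 : Led Lsl_ff (LP (LK LD1_c9 LD2_c33 LD3_c52)) = (LP (LK LD1_c4 LD2_c51 LD3_c42)) :=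
  Lgr Lrot19 (Lpr_dt (f192449 IH) (Lpr_ft (f372475 IH) (Lpr_dt (f372871 IH) (Lpn (LP (LK LD1_c4 LD2_c51 LD3_c42))))))
theorem f192441 : Led Lsl_at (LP (LK LD1_c9 LD2_c33 LD3_c52)) = (LP (LK LD1_c17 LD2_c36 LD3_c44)) :=
  Lre_a IH (LK LD1_c9 LD2_c33 LD3_c52) (LK LD1_c17 LD2_c36 LD3_c44) Lrfl Lrfl
theorem f372877 : Led Lsl_at (LP (LK LD1_c9 LD2_c35 LD3_c34)) = (LP (LK LD1_c4 LD2_c51 LD3_c42)) :=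
  Lre_a IH (LK LD1_c9 LD2_c35 LD3_c34) (LK LD1_c4 LD2_c51 LD3_c42) Lrfl Lrfl
theorem f372878 : Led Lsl_ft (LP (LK LD1_c17 LD2_c36 LD3_c44)) = (LP (LK LD1_c9 LD2_c35 LD3_c34)) :=
  Lgr Lrot101 (Lpe (f192441 IH) (Lpr_ff (f372872 IH) (Lpe (f372877 IH) (Lpn (LP (LK LD1_c9 LD2_c35 LD3_c34))))))
theorem f170437 : Led Lsl_bt (LP (LK LD1_c16 LD2_c1 LD3_c32)) = (LP (LK LD1_c8 LD2_c32 LD3_c10)) :=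
  Lre_b IH (LK LD1_c16 LD2_c1 LD3_c32) (LK LD1_c8 LD2_c32 LD3_c10) Lrfl Lrfl
theorem f170438 : Led Lsl_ct (LP (LK LD1_c25 LD2_c58 LD3_c56)) = (LP (LK LD1_c16 LD2_c1 LD3_c32)) :=
  Lre_c IH (LK LD1_c25 LD2_c58 LD3_c56) (LK LD1_c16 LD2_c1 LD3_c32) Lrfl Lrfl
theorem f170440 : Led Lsl_bf (LP (LK LD1_c25 LD2_c58 LD3_c56)) = (LP (LK LD1_c17 LD2_c36 LD3_c52)) :=
  Lgr Lrot90 (Lpr_ct (f170438 IH) (Lpr_bt (f170437 IH) (Lpr_ct (f170436 IH) (Lpr_bt (K22.f170428 IH) (Lpr_ct (f170439 IH) (Lpn (LP (LK LD1_c17 LD2_c36 LD3_c52))))))))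
theorem f170444 : Led Lsl_bt (LP (LK LD1_c25 LD2_c58 LD3_c56)) = (LP (LK LD1_c17 LD2_c36 LD3_c52)) :=
  Lgr Lrot127 (Lpr_bf (f170440 IH) (Lpn (LP (LK LD1_c17 LD2_c36 LD3_c52))))
theorem f170451 : Led Lsl_ft (LP (LK LD1_c16 LD2_c1 LD3_c25)) = (LP (LK LD1_c25 LD2_c58 LD3_c56)) :=
  Lre_f IH (LK LD1_c16 LD2_c1 LD3_c25) (LK LD1_c25 LD2_c58 LD3_c56) Lrfl Lrfl
theorem f170452 : Led Lsl_ft (LP (LK LD1_c17 LD2_c36 LD3_c52)) = (LP (LK LD1_c9 LD2_c33 LD3_c57)) :=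
  Lre_f IH (LK LD1_c17 LD2_c36 LD3_c52) (LK LD1_c9 LD2_c33 LD3_c57) Lrfl Lrfl
theorem f170453 : Led Lsl_bf (LP (LK LD1_c16 LD2_c1 LD3_c25)) = (LP (LK LD1_c9 LD2_c33 LD3_c57)) :=
  Lgr Lrot61 (Lpr_ft (f170451 IH) (Lpr_bt (f170444 IH) (Lpr_ft (f170452 IH) (Lpn (LP (LK LD1_c9 LD2_c33 LD3_c57))))))
theorem f170462 : Led Lsl_et (LP (LK LD1_c16 LD2_c1 LD3_c25)) = (LP (LK LD1_c8 LD2_c32 LD3_c4)) :=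
  Lre_e IH (LK LD1_c16 LD2_c1 LD3_c25) (LK LD1_c8 LD2_c32 LD3_c4) Lrfl Lrfl
theorem f170463 : Led Lsl_et (LP (LK LD1_c4 LD2_c50 LD3_c56)) = (LP (LK LD1_c9 LD2_c33 LD3_c57)) :=
  Lre_e IH (LK LD1_c4 LD2_c50 LD3_c56) (LK LD1_c9 LD2_c33 LD3_c57) Lrfl Lrfl
theorem f170464 : Led Lsl_bt (LP (LK LD1_c8 LD2_c32 LD3_c4)) = (LP (LK LD1_c4 LD2_c50 LD3_c56)) :=
  Lgr Lrot119 (Lpe (f170462 IH) (Lpr_bf (f170453 IH) (Lpe (f170463 IH) (Lpn (LP (LK LD1_c4 LD2_c50 LD3_c56))))))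
theorem f170470 : Led Lsl_at (LP (LK LD1_c16 LD2_c1 LD3_c19)) = (LP (LK LD1_c8 LD2_c32 LD3_c4)) :=
  Lre_a IH (LK LD1_c16 LD2_c1 LD3_c19) (LK LD1_c8 LD2_c32 LD3_c4) Lrfl Lrfl
theorem f219507 : Led Lsl_bt (LP (LK LD1_c2 LD2_c23 LD3_c41)) = (LP (LK LD1_c4 LD2_c51 LD3_c42)) :=
  Lre_b IH (LK LD1_c2 LD2_c23 LD3_c41) (LK LD1_c4 LD2_c51 LD3_c42) Lrfl Lrfl
theorem f369483 : Led Lsl_at (LP (LK LD1_c4 LD2_c51 LD3_c42)) = (LP (LK LD1_c9 LD2_c35 LD3_c34)) :=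
  Lre_a IH (LK LD1_c4 LD2_c51 LD3_c42) (LK LD1_c9 LD2_c35 LD3_c34) Lrfl Lrfl
theorem f369484 : Led Lsl_bf (LP (LK LD1_c16 LD2_c1 LD3_c19)) = (LP (LK LD1_c9 LD2_c35 LD3_c34)) :=
  Lgr Lrot81 (Lpr_at (f170470 IH) (Lpr_bt (f170464 IH) (Lpr_at (f369479 IH) (Lpr_bt (f219507 IH) (Lpr_at (f369483 IH) (Lpn (LP (LK LD1_c9 LD2_c35 LD3_c34))))))))
theorem f372966 : Led Lsl_ft (LP (LK LD1_c16 LD2_c1 LD3_c19)) = (LP (LK LD1_c9 LD2_c35 LD3_c10)) :=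
  Lgr Lrot75 (Lpr_bf (f369484 IH) (Lpe (f372878 IH) (Lpr_bf (f372957 IH) (Lpn (LP (LK LD1_c9 LD2_c35 LD3_c10))))))
theorem f369322 : Led Lsl_dt (LP (LK LD1_c25 LD2_c58 LD3_c47)) = (LP (LK LD1_c16 LD2_c1 LD3_c19)) :=
  Lre_d IH (LK LD1_c25 LD2_c58 LD3_c47) (LK LD1_c16 LD2_c1 LD3_c19) Lrfl Lrfl
theorem f171121 : Led Lsl_dt (LP (LK LD1_c9 LD2_c35 LD3_c10)) = (LP (LK LD1_c17 LD2_c39 LD3_c6)) :=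
  Lre_d IH (LK LD1_c9 LD2_c35 LD3_c10) (LK LD1_c17 LD2_c39 LD3_c6) Lrfl Lrfl
theorem f372970 : Led Lsl_ff (LP (LK LD1_c25 LD2_c58 LD3_c47)) = (LP (LK LD1_c17 LD2_c39 LD3_c6)) :=
  Lgr Lrot19 (Lpr_dt (f369322 IH) (Lpr_ft (f372966 IH) (Lpr_dt (f171121 IH) (Lpn (LP (LK LD1_c17 LD2_c39 LD3_c6))))))
theorem f170484 : Led Lsl_at (LP (LK LD1_c25 LD2_c58 LD3_c47)) = (LP (LK LD1_c16 LD2_c1 LD3_c24)) :=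
  Lre_a IH (LK LD1_c25 LD2_c58 LD3_c47) (LK LD1_c16 LD2_c1 LD3_c24) Lrfl Lrfl
theorem f229786 : Led Lsl_bt (LP (LK LD1_c16 LD2_c17 LD3_c5)) = (LP (LK LD1_c8 LD2_c41 LD3_c45)) :=
  Lre_b IH (LK LD1_c16 LD2_c17 LD3_c5) (LK LD1_c8 LD2_c41 LD3_c45) Lrfl Lrfl
theorem f263787 : Led Lsl_df (LP (LK LD1_c16 LD2_c17 LD3_c5)) = (LP (LK LD1_c10 LD2_c42 LD3_c4)) :=
  Lgr Lrot12 (Lpr_bt (f229786 IH) (Lpr_dt (K15.f200408 IH) (Lpr_bt (K15.f263782 IH) (Lpn (LP (LK LD1_c10 LD2_c42 LD3_c4))))))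
theorem f263790 : Led Lsl_dt (LP (LK LD1_c16 LD2_c17 LD3_c5)) = (LP (LK LD1_c10 LD2_c42 LD3_c4)) :=
  Lgr Lrot42 (Lpr_df (f263787 IH) (Lpn (LP (LK LD1_c10 LD2_c42 LD3_c4))))
theorem f229785 : Led Lsl_gt (LP (LK LD1_c15 LD2_c57 LD3_c19)) = (LP (LK LD1_c8 LD2_c29 LD3_c53)) :=
  Lre_g IH (LK LD1_c15 LD2_c57 LD3_c19) (LK LD1_c8 LD2_c29 LD3_c53) Lrfl Lrfl
theorem f29861 : Led Lsl_bt (LP (LK LD1_c4 LD2_c53 LD3_c6)) = (LP (LK LD1_c2 LD2_c24 LD3_c22)) :=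
  Lre_b IH (LK LD1_c4 LD2_c53 LD3_c6) (LK LD1_c2 LD2_c24 LD3_c22) Lrfl Lrfl
theorem f229787 : Led Lsl_cf (LP (LK LD1_c15 LD2_c57 LD3_c19)) = (LP (LK LD1_c16 LD2_c17 LD3_c5)) :=
  Lgr Lrot160 (Lpr_gt (f229785 IH) (Lpr_cf (K16.f229764 IH) (Lpr_bt (f29861 IH) (Lpr_gt (K12.f2497 IH) (Lpr_ct (K1.f2491 IH) (Lpr_gt (K12.f2232 IH) (Lpr_cf (K13.f224998 IH) (Lpr_bt (K15.f200406 IH) (Lpr_gt (K15.f200407 IH) (Lpe (f229786 IH) (Lpn (LP (LK LD1_c16 LD2_c17 LD3_c5)))))))))))))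
theorem f2576 : Led Lsl_bt (LP (LK LD1_c2 LD2_c24 LD3_c23)) = (LP (LK LD1_c1 LD2_c9 LD3_c20)) :=
  Lre_b IH (LK LD1_c2 LD2_c24 LD3_c23) (LK LD1_c1 LD2_c9 LD3_c20) Lrfl Lrfl
theorem f2272 : Led Lsl_ct (LP (LK LD1_c2 LD2_c24 LD3_c23)) = (LP (LK LD1_c1 LD2_c9 LD3_c26)) :=
  Lre_c IH (LK LD1_c2 LD2_c24 LD3_c23) (LK LD1_c1 LD2_c9 LD3_c26) Lrfl Lrfl
theorem f2280 : Led Lsl_gt (LP (LK LD1_c1 LD2_c9 LD3_c26)) = (LP (LK LD1_c2 LD2_c24 LD3_c38)) :=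
  Lre_g IH (LK LD1_c1 LD2_c9 LD3_c26) (LK LD1_c2 LD2_c24 LD3_c38) Lrfl Lrfl
theorem f2285 : Led Lsl_ct (LP (LK LD1_c4 LD2_c53 LD3_c38)) = (LP (LK LD1_c2 LD2_c24 LD3_c38)) :=
  Lre_c IH (LK LD1_c4 LD2_c53 LD3_c38) (LK LD1_c2 LD2_c24 LD3_c38) Lrfl Lrfl
theorem f2296 : Led Lsl_bt (LP (LK LD1_c4 LD2_c53 LD3_c38)) = (LP (LK LD1_c9 LD2_c39 LD3_c8)) :=
  Lre_b IH (LK LD1_c4 LD2_c53 LD3_c38) (LK LD1_c9 LD2_c39 LD3_c8) Lrfl Lrfl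
theorem f229793 : Led Lsl_gt (LP (LK LD1_c9 LD2_c39 LD3_c8)) = (LP (LK LD1_c16 LD2_c17 LD3_c5)) :=
  Lgr Lrot82 (Lpe (f2296 IH) (Lpr_ct (f2285 IH) (Lpe (f2280 IH) (Lpe (f2272 IH) (Lpr_bt (f2576 IH) (Lpe (K12.f2497 IH) (Lpe (f29861 IH) (Lpe (K16.f229764 IH) (Lpe (f229785 IH) (Lpr_cf (f229787 IH) (Lpn (LP (LK LD1_c16 LD2_c17 LD3_c5)))))))))))))
theorem f2289 : Led Lsl_ct (LP (LK LD1_c2 LD2_c24 LD3_c38)) = (LP (LK LD1_c4 LD2_c53 LD3_c38)) :=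
  Lre_c IH (LK LD1_c2 LD2_c24 LD3_c38) (LK LD1_c4 LD2_c53 LD3_c38) Lrfl Lrfl
theorem f2288 : Led Lsl_dt (LP (LK LD1_c4 LD2_c53 LD3_c39)) = (LP (LK LD1_c2 LD2_c24 LD3_c38)) :=
  Lre_d IH (LK LD1_c4 LD2_c53 LD3_c39) (LK LD1_c2 LD2_c24 LD3_c38) Lrfl Lrfl
theorem f263793 : Led Lsl_gf (LP (LK LD1_c4 LD2_c53 LD3_c39)) = (LP (LK LD1_c4 LD2_c12 LD3_c37)) :=
  Lgr Lrot85 (Lpr_dt (f2288 IH) (Lpr_ct (f2289 IH) (Lpr_bt (f2296 IH) (Lpr_gt (f229793 IH) (Lpr_dt (f263790 IH) (Lpr_ct (K15.f218477 IH) (Lpr_bt (K15.f218398 IH) (Lpr_gt (K13.f217449 IH) (Lpr_dt (K12.f217659 IH) (Lpr_ct (K12.f216301 IH) (Lpr_bt (K12.f173105 IH) (Lpr_gt (K12.f41555 IH) (Lpr_dt (K16.f253443 IH) (Lpe (K14.f253254 IH) (Lpr_bt (K14.f181947 IH) (Lpr_gt (K14.f181945 IH) (Lpe (K9.f181939 IH) (Lpr_ct (K9.f166472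 IH) (Lpr_bt (K22.f167082 IH) (Lpn (LP (LK LD1_c4 LD2_c12 LD3_c37))))))))))))))))))))))
theorem f2853 : Led Lsl_ct (LP (LK LD1_c9 LD2_c39 LD3_c11)) = (LP (LK LD1_c4 LD2_c53 LD3_c39)) :=
  Lre_c IH (LK LD1_c9 LD2_c39 LD3_c11) (LK LD1_c4 LD2_c53 LD3_c39) Lrfl Lrfl
theorem f178309 : Led Lsl_bt (LP (LK LD1_c9 LD2_c39 LD3_c11)) = (LP (LK LD1_c17 LD2_c45 LD3_c28)) :=
  Lre_b IH (LK LD1_c9 LD2_c39 LD3_c11) (LK LD1_c17 LD2_c45 LD3_c28) Lrfl Lrfl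
theorem f166483 : Led Lsl_ct (LP (LK LD1_c8 LD2_c24 LD3_c46)) = (LP (LK LD1_c4 LD2_c12 LD3_c37)) :=
  Lre_c IH (LK LD1_c8 LD2_c24 LD3_c46) (LK LD1_c4 LD2_c12 LD3_c37) Lrfl Lrfl
theorem f178447 : Led Lsl_bt (LP (LK LD1_c8 LD2_c24 LD3_c46)) = (LP (LK LD1_c4 LD2_c12 LD3_c35)) :=
  Lre_b IH (LK LD1_c8 LD2_c24 LD3_c46) (LK LD1_c4 LD2_c12 LD3_c35) Lrfl Lrfl
theorem f220072 : Led Lsl_bt (LP (LK LD1_c8 LD2_c17 LD3_c2)) = (LP (LK LD1_c4 LD2_c8 LD3_c29)) :=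
  Lre_b IH (LK LD1_c8 LD2_c17 LD3_c2) (LK LD1_c4 LD2_c8 LD3_c29) Lrfl Lrfl
theorem f220078 : Led Lsl_ct (LP (LK LD1_c8 LD2_c17 LD3_c2)) = (LP (LK LD1_c4 LD2_c8 LD3_c44)) :=
  Lre_c IH (LK LD1_c8 LD2_c17 LD3_c2) (LK LD1_c4 LD2_c8 LD3_c44) Lrfl Lrfl
theorem f220079 : Led Lsl_gt (LP (LK LD1_c8 LD2_c17 LD3_c33)) = (LP (LK LD1_c4 LD2_c8 LD3_c44)) :=
  Lre_g IH (LK LD1_c8 LD2_c17 LD3_c33) (LK LD1_c4 LD2_c8 LD3_c44) Lrfl Lrfl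
theorem f220080 : Led Lsl_ct (LP (LK LD1_c15 LD2_c35 LD3_c33)) = (LP (LK LD1_c8 LD2_c17 LD3_c33)) :=
  Lre_c IH (LK LD1_c15 LD2_c35 LD3_c33) (LK LD1_c8 LD2_c17 LD3_c33) Lrfl Lrfl
theorem f263804 : Led Lsl_gt (LP (LK LD1_c17 LD2_c45 LD3_c28)) = (LP (LK LD1_c15 LD2_c35 LD3_c33)) :=
  Lgr Lrot82 (Lpe (f178309 IH) (Lpr_ct (f2853 IH) (Lpr_gf (f263793 IH) (Lpe (f166483 IH) (Lpr_bt (f178447 IH) (Lpe (K13.f220070 IH) (Lpe (f220072 IH) (Lpr_ct (f220078 IH) (Lpe (f220079 IH) (Lpe (f220080 IH) (Lpn (LP (LK LD1_c15 LD2_c35 LD3_c33)))))))))))))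
theorem f2855 : Led Lsl_ct (LP (LK LD1_c4 LD2_c53 LD3_c39)) = (LP (LK LD1_c9 LD2_c39 LD3_c11)) :=
  Lre_c IH (LK LD1_c4 LD2_c53 LD3_c39) (LK LD1_c9 LD2_c39 LD3_c11) Lrfl Lrfl
theorem f2294 : Led Lsl_dt (LP (LK LD1_c2 LD2_c24 LD3_c38)) = (LP (LK LD1_c4 LD2_c53 LD3_c39)) :=
  Lre_d IH (LK LD1_c2 LD2_c24 LD3_c38) (LK LD1_c4 LD2_c53 LD3_c39) Lrfl Lrfl
theorem f170137 : Led Lsl_dt (LP (LK LD1_c16 LD2_c1 LD3_c24)) = (LP (LK LD1_c8 LD2_c32 LD3_c4)) :=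
  Lre_d IH (LK LD1_c16 LD2_c1 LD3_c24) (LK LD1_c8 LD2_c32 LD3_c4) Lrfl Lrfl
theorem f170472 : Led Lsl_bf (LP (LK LD1_c16 LD2_c1 LD3_c24)) = (LP (LK LD1_c9 LD2_c33 LD3_c56)) :=
  Lgr Lrot93 (Lpr_dt (f170137 IH) (Lpr_bt (f170464 IH) (Lpr_dt (K13.f33321 IH) (Lpn (LP (LK LD1_c9 LD2_c33 LD3_c56))))))
theorem f170481 : Led Lsl_bt (LP (LK LD1_c16 LD2_c1 LD3_c24)) = (LP (LK LD1_c9 LD2_c33 LD3_c56)) :=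
  Lgr Lrot127 (Lpr_bf (f170472 IH) (Lpn (LP (LK LD1_c9 LD2_c33 LD3_c56))))
theorem f263820 : Led Lsl_dt (LP (LK LD1_c15 LD2_c35 LD3_c33)) = (LP (LK LD1_c25 LD2_c29 LD3_c52)) :=
  Lre_d IH (LK LD1_c15 LD2_c35 LD3_c33) (LK LD1_c25 LD2_c29 LD3_c52) Lrfl Lrfl
theorem f263838 : Led Lsl_cf (LP (LK LD1_c16 LD2_c1 LD3_c24)) = (LP (LK LD1_c25 LD2_c29 LD3_c52)) :=
  Lgr Lrot89 (Lpr_bt (f170481 IH) (Lpr_gt (K15.f233992 IH) (Lpr_dt (K15.f232930 IH) (Lpr_ct (K14.f255620 IH) (Lpr_bt (K14.f255662 IH) (Lpr_gt (K14.f255864 IH) (Lpr_dt (K14.f167111 IH) (Lpe (K14.f200371 IH) (Lpr_bt (K14.f167346 IH) (Lpe (K9.f178303 IH) (Lpr_dt (K0.f2225 IH) (Lpr_ct (K0.f2178 IH) (Lpr_bt (K0.f2222 IH) (Lpr_gt (f2280 IH) (Lpr_dt (f2294 IH) (Lpr_ct (f2855 IH) (Lpr_bt (f178309 IH) (Lpr_gt (f263804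 IH) (Lpr_dt (f263820 IH) (Lpn (LP (LK LD1_c25 LD2_c29 LD3_c52))))))))))))))))))))))
theorem f263826 : Led Lsl_ct (LP (LK LD1_c8 LD2_c17 LD3_c33)) = (LP (LK LD1_c15 LD2_c35 LD3_c33)) :=
  Lre_c IH (LK LD1_c8 LD2_c17 LD3_c33) (LK LD1_c15 LD2_c35 LD3_c33) Lrfl Lrfl
theorem f263825 : Led Lsl_dt (LP (LK LD1_c15 LD2_c35 LD3_c34)) = (LP (LK LD1_c8 LD2_c17 LD3_c33)) :=
  Lre_d IH (LK LD1_c15 LD2_c35 LD3_c34) (LK LD1_c8 LD2_c17 LD3_c33) Lrfl Lrfl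
theorem f263824 : Led Lsl_ct (LP (LK LD1_c25 LD2_c29 LD3_c54)) = (LP (LK LD1_c15 LD2_c35 LD3_c34)) :=
  Lre_c IH (LK LD1_c25 LD2_c29 LD3_c54) (LK LD1_c15 LD2_c35 LD3_c34) Lrfl Lrfl
theorem f171125 : Led Lsl_dt (LP (LK LD1_c17 LD2_c39 LD3_c6)) = (LP (LK LD1_c9 LD2_c35 LD3_c10)) :=
  Lre_d IH (LK LD1_c17 LD2_c39 LD3_c6) (LK LD1_c9 LD2_c35 LD3_c10) Lrfl Lrfl
theorem f171068 : Led Lsl_bt (LP (LK LD1_c8 LD2_c29 LD3_c60)) = (LP (LK LD1_c15 LD2_c57 LD3_c33)) :=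
  Lre_b IH (LK LD1_c8 LD2_c29 LD3_c60) (LK LD1_c15 LD2_c57 LD3_c33) Lrfl Lrfl
theorem f171074 : Led Lsl_bt (LP (LK LD1_c9 LD2_c35 LD3_c12)) = (LP (LK LD1_c4 LD2_c51 LD3_c35)) :=
  Lre_b IH (LK LD1_c9 LD2_c35 LD3_c12) (LK LD1_c4 LD2_c51 LD3_c35) Lrfl Lrfl
theorem f171075 : Led Lsl_ct (LP (LK LD1_c15 LD2_c57 LD3_c33)) = (LP (LK LD1_c9 LD2_c35 LD3_c12)) :=
  Lgr Lrot83 (Lpe (f171068 IH) (Lpr_cf (K20.f171060 IH) (Lpe (K23.f171072 IH) (Lpe (K22.f171073 IH) (Lpe (f171074 IH) (Lpn (LP (LK LD1_c9 LD2_c35 LD3_c12))))))))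
theorem f171087 : Led Lsl_et (LP (LK LD1_c8 LD2_c29 LD3_c58)) = (LP (LK LD1_c15 LD2_c57 LD3_c33)) :=
  Lre_e IH (LK LD1_c8 LD2_c29 LD3_c58) (LK LD1_c15 LD2_c57 LD3_c33) Lrfl Lrfl
theorem f171088 : Led Lsl_et (LP (LK LD1_c9 LD2_c35 LD3_c12)) = (LP (LK LD1_c4 LD2_c51 LD3_c33)) :=
  Lre_e IH (LK LD1_c9 LD2_c35 LD3_c12) (LK LD1_c4 LD2_c51 LD3_c33) Lrfl Lrfl
theorem f171089 : Led Lsl_cf (LP (LK LD1_c8 LD2_c29 LD3_c58)) = (LP (LK LD1_c4 LD2_c51 LD3_c33)) :=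
  Lgr Lrot39 (Lpr_et (f171087 IH) (Lpr_ct (f171075 IH) (Lpr_et (f171088 IH) (Lpn (LP (LK LD1_c4 LD2_c51 LD3_c33))))))
theorem f171098 : Led Lsl_at (LP (LK LD1_c8 LD2_c29 LD3_c58)) = (LP (LK LD1_c15 LD2_c57 LD3_c31)) :=
  Lre_a IH (LK LD1_c8 LD2_c29 LD3_c58) (LK LD1_c15 LD2_c57 LD3_c31) Lrfl Lrfl
theorem f171099 : Led Lsl_at (LP (LK LD1_c9 LD2_c35 LD3_c10)) = (LP (LK LD1_c4 LD2_c51 LD3_c33)) :=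
  Lre_a IH (LK LD1_c9 LD2_c35 LD3_c10) (LK LD1_c4 LD2_c51 LD3_c33) Lrfl Lrfl
theorem f171100 : Led Lsl_ct (LP (LK LD1_c15 LD2_c57 LD3_c31)) = (LP (LK LD1_c9 LD2_c35 LD3_c10)) :=
  Lgr Lrot111 (Lpe (f171098 IH) (Lpr_cf (f171089 IH) (Lpe (f171099 IH) (Lpn (LP (LK LD1_c9 LD2_c35 LD3_c10))))))
theorem f171119 : Led Lsl_cf (LP (LK LD1_c15 LD2_c57 LD3_c31)) = (LP (LK LD1_c9 LD2_c35 LD3_c10)) :=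
  Lgr Lrot11 (Lpr_ct (f171100 IH) (Lpn (LP (LK LD1_c9 LD2_c35 LD3_c10))))
theorem f373015 : Led Lsl_df (LP (LK LD1_c25 LD2_c29 LD3_c54)) = (LP (LK LD1_c15 LD2_c57 LD3_c31)) :=
  Lgr Lrot106 (Lpr_ct (f263824 IH) (Lpr_dt (f263825 IH) (Lpr_ct (f263826 IH) (Lpr_dt (f263820 IH) (Lpe (f263838 IH) (Lpe (f170484 IH) (Lpr_ff (f372970 IH) (Lpr_dt (f171125 IH) (Lpe (f171119 IH) (Lpn (LP (LK LD1_c15 LD2_c57 LD3_c31))))))))))))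
theorem f372972 : Led Lsl_ff (LP (LK LD1_c16 LD2_c1 LD3_c19)) = (LP (LK LD1_c9 LD2_c35 LD3_c10)) :=
  Lgr Lrot3 (Lpr_ft (f372966 IH) (Lpn (LP (LK LD1_c9 LD2_c35 LD3_c10))))
theorem f369317 : Led Lsl_ct (LP (LK LD1_c16 LD2_c1 LD3_c19)) = (LP (LK LD1_c8 LD2_c32 LD3_c3)) :=
  Lre_c IH (LK LD1_c16 LD2_c1 LD3_c19) (LK LD1_c8 LD2_c32 LD3_c3) Lrfl Lrfl
theorem f372979 : Led Lsl_ft (LP (LK LD1_c8 LD2_c32 LD3_c3)) = (LP (LK LD1_c15 LD2_c57 LD3_c31)) :=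
  Lgr Lrot4 (Lpe (f369317 IH) (Lpr_ff (f372972 IH) (Lpe (f171100 IH) (Lpn (LP (LK LD1_c15 LD2_c57 LD3_c31))))))
theorem f373024 : Led Lsl_ft (LP (LK LD1_c25 LD2_c29 LD3_c54)) = (LP (LK LD1_c16 LD2_c1 LD3_c20)) :=
  Lgr Lrot54 (Lpr_df (f373015 IH) (Lpe (f372979 IH) (Lpe (f369311 IH) (Lpn (LP (LK LD1_c16 LD2_c1 LD3_c20))))))
theorem f373027 : Led Lsl_ff (LP (LK LD1_c25 LD2_c29 LD3_c54)) = (LP (LK LD1_c16 LD2_c1 LD3_c20)) :=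
  Lgr Lrot3 (Lpr_ft (f373024 IH) (Lpn (LP (LK LD1_c16 LD2_c1 LD3_c20))))
theorem f52201 : Led Lsl_bt (LP (LK LD1_c8 LD2_c29 LD3_c58)) = (LP (LK LD1_c4 LD2_c15 LD3_c31)) :=
  Lre_b IH (LK LD1_c8 LD2_c29 LD3_c58) (LK LD1_c4 LD2_c15 LD3_c31) Lrfl Lrfl
theorem f171106 : Led Lsl_at (LP (LK LD1_c15 LD2_c57 LD3_c31)) = (LP (LK LD1_c8 LD2_c29 LD3_c58)) :=
  Lre_a IH (LK LD1_c15 LD2_c57 LD3_c31) (LK LD1_c8 LD2_c29 LD3_c58) Lrfl Lrfl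
theorem f365373 : Led Lsl_at (LP (LK LD1_c4 LD2_c16 LD3_c21)) = (LP (LK LD1_c8 LD2_c31 LD3_c53)) :=
  Lre_a IH (LK LD1_c4 LD2_c16 LD3_c21) (LK LD1_c8 LD2_c31 LD3_c53) Lrfl Lrfl
theorem f365374 : Led Lsl_bf (LP (LK LD1_c15 LD2_c57 LD3_c31)) = (LP (LK LD1_c8 LD2_c31 LD3_c53)) :=
  Lgr Lrot81 (Lpr_at (f171106 IH) (Lpr_bt (f52201 IH) (Lpr_at (K26.f365369 IH) (Lpr_bt (K20.f243325 IH) (Lpr_at (f365373 IH) (Lpn (LP (LK LD1_c8 LD2_c31 LD3_c53))))))))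
theorem f373019 : Led Lsl_dt (LP (LK LD1_c16 LD2_c0 LD3_c54)) = (LP (LK LD1_c8 LD2_c31 LD3_c53)) :=
  Lre_d IH (LK LD1_c16 LD2_c0 LD3_c54) (LK LD1_c8 LD2_c31 LD3_c53) Lrfl Lrfl
theorem f373020 : Led Lsl_bt (LP (LK LD1_c25 LD2_c29 LD3_c54)) = (LP (LK LD1_c16 LD2_c0 LD3_c54)) :=
  Lgr Lrot95 (Lpr_df (f373015 IH) (Lpr_bf (f365374 IH) (Lpe (f373019 IH) (Lpn (LP (LK LD1_c16 LD2_c0 LD3_c54))))))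
theorem f373034 : Led Lsl_ft (LP (LK LD1_c16 LD2_c0 LD3_c54)) = (LP (LK LD1_c25 LD2_c54 LD3_c6)) :=
  Lgr Lrot75 (Lpe (f373020 IH) (Lpr_ff (f373027 IH) (Lpr_bf (f369304 IH) (Lpn (LP (LK LD1_c25 LD2_c54 LD3_c6))))))
theorem f373049 : Led Lsl_ff (LP (LK LD1_c16 LD2_c0 LD3_c54)) = (LP (LK LD1_c25 LD2_c54 LD3_c6)) :=
  Lgr Lrot3 (Lpr_ft (f373034 IH) (Lpn (LP (LK LD1_c25 LD2_c54 LD3_c6))))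
theorem f373060 : Led Lsl_ft (LP (LK LD1_c8 LD2_c31 LD3_c53)) = (LP (LK LD1_c15 LD2_c57 LD3_c36)) :=
  Lgr Lrot54 (Lpe (f373019 IH) (Lpr_ff (f373049 IH) (Lpe (f369312 IH) (Lpn (LP (LK LD1_c15 LD2_c57 LD3_c36))))))
theorem f365401 : Led Lsl_bt (LP (LK LD1_c4 LD2_c15 LD3_c32)) = (LP (LK LD1_c8 LD2_c29 LD3_c61)) :=
  Lre_b IH (LK LD1_c4 LD2_c15 LD3_c32) (LK LD1_c8 LD2_c29 LD3_c61) Lrfl Lrfl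
theorem f365402 : Led Lsl_at (LP (LK LD1_c8 LD2_c29 LD3_c61)) = (LP (LK LD1_c15 LD2_c57 LD3_c36)) :=
  Lre_a IH (LK LD1_c8 LD2_c29 LD3_c61) (LK LD1_c15 LD2_c57 LD3_c36) Lrfl Lrfl
theorem f53407 : Led Lsl_bt (LP (LK LD1_c4 LD2_c16 LD3_c25)) = (LP (LK LD1_c2 LD2_c5 LD3_c32)) :=
  Lre_b IH (LK LD1_c4 LD2_c16 LD3_c25) (LK LD1_c2 LD2_c5 LD3_c32) Lrfl Lrfl
theorem f263845 : Led Lsl_at (LP (LK LD1_c8 LD2_c32 LD3_c3)) = (LP (LK LD1_c4 LD2_c16 LD3_c25)) :=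
  Lre_a IH (LK LD1_c8 LD2_c32 LD3_c3) (LK LD1_c4 LD2_c16 LD3_c25) Lrfl Lrfl
theorem f365403 : Led Lsl_bt (LP (LK LD1_c15 LD2_c57 LD3_c36)) = (LP (LK LD1_c8 LD2_c32 LD3_c3)) :=
  Lgr Lrot62 (Lpe (f365402 IH) (Lpe (f365401 IH) (Lpr_af (K26.f365397 IH) (Lpe (f53407 IH) (Lpe (f263845 IH) (Lpn (LP (LK LD1_c8 LD2_c32 LD3_c3))))))))
theorem f373068 : Led Lsl_bf (LP (LK LD1_c8 LD2_c31 LD3_c53)) = (LP (LK LD1_c15 LD2_c57 LD3_c31)) :=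
  Lgr Lrot61 (Lpr_ft (f373060 IH) (Lpr_bt (f365403 IH) (Lpr_ft (f372979 IH) (Lpn (LP (LK LD1_c15 LD2_c57 LD3_c31))))))
theorem f373053 : Led Lsl_ct (LP (LK LD1_c8 LD2_c31 LD3_c53)) = (LP (LK LD1_c16 LD2_c0 LD3_c53)) :=
  Lre_c IH (LK LD1_c8 LD2_c31 LD3_c53) (LK LD1_c16 LD2_c0 LD3_c53) Lrfl Lrfl
theorem f372959 : Led Lsl_bt (LP (LK LD1_c17 LD2_c36 LD3_c44)) = (LP (LK LD1_c9 LD2_c35 LD3_c10)) :=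
  Lgr Lrot127 (Lpr_bf (f372957 IH) (Lpn (LP (LK LD1_c9 LD2_c35 LD3_c10))))
theorem f192405 : Led Lsl_bt (LP (LK LD1_c10 LD2_c32 LD3_c34)) = (LP (LK LD1_c19 LD2_c5 LD3_c40)) :=
  Lre_b IH (LK LD1_c10 LD2_c32 LD3_c34) (LK LD1_c19 LD2_c5 LD3_c40) Lrfl Lrfl
theorem f192410 : Led Lsl_bt (LP (LK LD1_c17 LD2_c36 LD3_c46)) = (LP (LK LD1_c9 LD2_c33 LD3_c54)) :=
  Lre_b IH (LK LD1_c17 LD2_c36 LD3_c46) (LK LD1_c9 LD2_c33 LD3_c54) Lrfl Lrfl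
theorem f192411 : Led Lsl_ct (LP (LK LD1_c19 LD2_c5 LD3_c40)) = (LP (LK LD1_c17 LD2_c36 LD3_c46)) :=
  Lgr Lrot83 (Lpe (f192405 IH) (Lpr_cf (K26.f192401 IH) (Lpe (K19.f192408 IH) (Lpe (K19.f192409 IH) (Lpe (f192410 IH) (Lpn (LP (LK LD1_c17 LD2_c36 LD3_c46))))))))
theorem f192421 : Led Lsl_et (LP (LK LD1_c10 LD2_c32 LD3_c32)) = (LP (LK LD1_c19 LD2_c5 LD3_c40)) :=
  Lre_e IH (LK LD1_c10 LD2_c32 LD3_c32) (LK LD1_c19 LD2_c5 LD3_c40) Lrfl Lrfl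
theorem f192422 : Led Lsl_et (LP (LK LD1_c17 LD2_c36 LD3_c46)) = (LP (LK LD1_c9 LD2_c33 LD3_c52)) :=
  Lre_e IH (LK LD1_c17 LD2_c36 LD3_c46) (LK LD1_c9 LD2_c33 LD3_c52) Lrfl Lrfl
theorem f192423 : Led Lsl_cf (LP (LK LD1_c10 LD2_c32 LD3_c32)) = (LP (LK LD1_c9 LD2_c33 LD3_c52)) :=
  Lgr Lrot39 (Lpr_et (f192421 IH) (Lpr_ct (f192411 IH) (Lpr_et (f192422 IH) (Lpn (LP (LK LD1_c9 LD2_c33 LD3_c52))))))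
theorem f192429 : Led Lsl_at (LP (LK LD1_c10 LD2_c32 LD3_c32)) = (LP (LK LD1_c19 LD2_c5 LD3_c39)) :=
  Lre_a IH (LK LD1_c10 LD2_c32 LD3_c32) (LK LD1_c19 LD2_c5 LD3_c39) Lrfl Lrfl
theorem f192431 : Led Lsl_ct (LP (LK LD1_c19 LD2_c5 LD3_c39)) = (LP (LK LD1_c17 LD2_c36 LD3_c44)) :=
  Lgr Lrot111 (Lpe (f192429 IH) (Lpr_cf (f192423 IH) (Lpe (f192430 IH) (Lpn (LP (LK LD1_c17 LD2_c36 LD3_c44))))))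
theorem f373079 : Led Lsl_bt (LP (LK LD1_c16 LD2_c0 LD3_c53)) = (LP (LK LD1_c19 LD2_c5 LD3_c39)) :=
  Lgr Lrot128 (Lpe (f373053 IH) (Lpr_bf (f373068 IH) (Lpr_cf (f171119 IH) (Lpe (f372959 IH) (Lpe (f192431 IH) (Lpn (LP (LK LD1_c19 LD2_c5 LD3_c39))))))))
theorem f373084 : Led Lsl_at (LP (LK LD1_c8 LD2_c31 LD3_c54)) = (LP (LK LD1_c16 LD2_c0 LD3_c53)) :=
  Lre_a IH (LK LD1_c8 LD2_c31 LD3_c54) (LK LD1_c16 LD2_c0 LD3_c53) Lrfl Lrfl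
theorem f53402 : Led Lsl_bt (LP (LK LD1_c4 LD2_c16 LD3_c21)) = (LP (LK LD1_c2 LD2_c5 LD3_c31)) :=
  Lre_b IH (LK LD1_c4 LD2_c16 LD3_c21) (LK LD1_c2 LD2_c5 LD3_c31) Lrfl Lrfl
theorem f250514 : Led Lsl_bf (LP (LK LD1_c8 LD2_c31 LD3_c54)) = (LP (LK LD1_c5 LD2_c21 LD3_c15)) :=
  Lgr Lrot90 (Lpr_ct (K20.f250513 IH) (Lpr_bt (f53402 IH) (Lpr_ct (K14.f188966 IH) (Lpr_bt (K12.f53418 IH) (Lpr_ct (K14.f250511 IH) (Lpn (LP (LK LD1_c5 LD2_c21 LD3_c15))))))))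
theorem f192434 : Led Lsl_at (LP (LK LD1_c19 LD2_c5 LD3_c39)) = (LP (LK LD1_c10 LD2_c32 LD3_c32)) :=
  Lre_a IH (LK LD1_c19 LD2_c5 LD3_c39) (LK LD1_c10 LD2_c32 LD3_c32) Lrfl Lrfl
theorem f42008 : Led Lsl_bt (LP (LK LD1_c10 LD2_c32 LD3_c32)) = (LP (LK LD1_c5 LD2_c21 LD3_c11)) :=
  Lre_b IH (LK LD1_c10 LD2_c32 LD3_c32) (LK LD1_c5 LD2_c21 LD3_c11) Lrfl Lrfl
theorem f373085 : Led Lsl_af (LP (LK LD1_c5 LD2_c21 LD3_c15)) = (LP (LK LD1_c5 LD2_c21 LD3_c11)) :=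
  Lgr Lrot36 (Lpe (f250514 IH) (Lpr_at (f373084 IH) (Lpr_bt (f373079 IH) (Lpr_at (f192434 IH) (Lpr_bt (f42008 IH) (Lpn (LP (LK LD1_c5 LD2_c21 LD3_c11))))))))
theorem f359458 : Led Lsl_ft (LP (LK LD1_c5 LD2_c21 LD3_c15)) = (LP (LK LD1_c5 LD2_c21 LD3_c12)) :=
  Lgr Lrot4 (Lpe (K14.f250511 IH) (Lpe (f359437 IH) (Lpr_cf (K26.f359448 IH) (Lpn (LP (LK LD1_c5 LD2_c21 LD3_c12))))))
theorem f359441 : Led Lsl_ft (LP (LK LD1_c4 LD2_c51 LD3_c40)) = (LP (LK LD1_c5 LD2_c21 LD3_c11)) :=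
  Lgr Lrot4 (Lpe (K12.f29811 IH) (Lpr_ff (K26.f359435 IH) (Lpe (K14.f192389 IH) (Lpn (LP (LK LD1_c5 LD2_c21 LD3_c11))))))
theorem f373090 : Led Lsl_at (LP (LK LD1_c5 LD2_c21 LD3_c12)) = (LP (LK LD1_c4 LD2_c51 LD3_c40)) :=
  Lgr Lrot66 (Lpe (f359458 IH) (Lpr_af (f373085 IH) (Lpe (f359441 IH) (Lpn (LP (LK LD1_c4 LD2_c51 LD3_c40))))))
theorem f373095 : Led Lsl_af (LP (LK LD1_c10 LD2_c32 LD3_c36)) = (LP (LK LD1_c9 LD2_c35 LD3_c26)) :=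
  Lgr Lrot117 (Lpr_dt (K18.f41927 IH) (Lpr_at (f373090 IH) (Lpr_dt (K23.f219776 IH) (Lpn (LP (LK LD1_c9 LD2_c35 LD3_c26))))))
theorem f373097 : Led Lsl_ft (LP (LK LD1_c10 LD2_c32 LD3_c33)) = (LP (LK LD1_c9 LD2_c35 LD3_c26)) :=
  Lgr Lrot2 (Lpe (K19.f288862 IH) (Lpr_gt (K22.f336266 IH) (Lpr_af (f373095 IH) (Lpn (LP (LK LD1_c9 LD2_c35 LD3_c26))))))
theorem f192394 : Led Lsl_dt (LP (LK LD1_c10 LD2_c32 LD3_c33)) = (LP (LK LD1_c5 LD2_c21 LD3_c11)) :=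
  Lre_d IH (LK LD1_c10 LD2_c32 LD3_c33) (LK LD1_c5 LD2_c21 LD3_c11) Lrfl Lrfl
theorem f373088 : Led Lsl_at (LP (LK LD1_c10 LD2_c32 LD3_c45)) = (LP (LK LD1_c10 LD2_c32 LD3_c33)) :=
  Lgr Lrot51 (Lpe (K18.f43200 IH) (Lpr_af (f373085 IH) (Lpe (f192394 IH) (Lpn (LP (LK LD1_c10 LD2_c32 LD3_c33))))))
theorem f373099 : Led Lsl_ff (LP (LK LD1_c10 LD2_c32 LD3_c45)) = (LP (LK LD1_c10 LD2_c32 LD3_c36)) :=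
  Lgr Lrot30 (Lpr_at (f373088 IH) (Lpr_ft (f373097 IH) (Lpe (f373095 IH) (Lpn (LP (LK LD1_c10 LD2_c32 LD3_c36))))))
theorem f373105 : Led Lsl_ft (LP (LK LD1_c10 LD2_c32 LD3_c45)) = (LP (LK LD1_c10 LD2_c32 LD3_c36)) :=
  Lgr Lrot48 (Lpr_ff (f373099 IH) (Lpn (LP (LK LD1_c10 LD2_c32 LD3_c36))))
theorem f295979 : Led Lsl_ct (LP (LK LD1_c7 LD2_c58 LD3_c20)) = (LP (LK LD1_c10 LD2_c32 LD3_c45)) :=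
  Lgr Lrot176 (Lpe (K18.f223131 IH) (Lpe (K12.f41246 IH) (Lpr_df (K15.f266913 IH) (Lpe (K15.f266915 IH) (Lpe (K18.f266930 IH) (Lpe (K15.f2113 IH) (Lpe (K18.f2114 IH) (Lpr_cf (K18.f295940 IH) (Lpe (K18.f218076 IH) (Lpe (K12.f168005 IH) (Lpr_df (K16.f266875 IH) (Lpe (K15.f254173 IH) (Lpe (K15.f266879 IH) (Lpr_cf (K23.f250516 IH) (Lpe (K18.f219146 IH) (Lpn (LP (LK LD1_c10 LD2_c32 LD3_c45))))))))))))))))))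
theorem f373111 : Led Lsl_ff (LP (LK LD1_c7 LD2_c58 LD3_c20)) = (LP (LK LD1_c15 LD2_c0 LD3_c61)) :=
  Lgr Lrot23 (Lpr_ct (f295979 IH) (Lpr_ft (f373105 IH) (Lpr_ct (K22.f336262 IH) (Lpn (LP (LK LD1_c15 LD2_c0 LD3_c61))))))
theorem f373179 : Led Lsl_ft (LP (LK LD1_c3 LD2_c58 LD3_c28)) = (LP (LK LD1_c7 LD2_c57 LD3_c41)) :=
  Lgr Lrot54 (Lpe (K18.f223130 IH) (Lpr_ff (f373111 IH) (Lpe (K22.f189485 IH) (Lpn (LP (LK LD1_c7 LD2_c57 LD3_c41))))))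
theorem f373184 : Led Lsl_ff (LP (LK LD1_c3 LD2_c58 LD3_c28)) = (LP (LK LD1_c7 LD2_c57 LD3_c41)) :=
  Lgr Lrot3 (Lpr_ft (f373179 IH) (Lpn (LP (LK LD1_c7 LD2_c57 LD3_c41))))
theorem f373188 : Led Lsl_at (LP (LK LD1_c3 LD2_c58 LD3_c28)) = (LP (LK LD1_c7 LD2_c57 LD3_c43)) :=
  Lgr Lrot26 (Lpr_ff (f373184 IH) (Lpr_gt (K17.f218116 IH) (Lpe (K16.f275471 IH) (Lpn (LP (LK LD1_c7 LD2_c57 LD3_c43))))))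
theorem f168004 : Led Lsl_bt (LP (LK LD1_c3 LD2_c58 LD3_c25)) = (LP (LK LD1_c7 LD2_c58 LD3_c12)) :=
  Lre_b IH (LK LD1_c3 LD2_c58 LD3_c25) (LK LD1_c7 LD2_c58 LD3_c12) Lrfl Lrfl
theorem f370164 : Led Lsl_ff (LP (LK LD1_c3 LD2_c58 LD3_c25)) = (LP (LK LD1_c7 LD2_c57 LD3_c43)) :=
  Lgr Lrot25 (Lpr_bt (f168004 IH) (Lpr_ft (f370152 IH) (Lpe (f224002 IH) (Lpn (LP (LK LD1_c7 LD2_c57 LD3_c43))))))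
theorem f373194 : Led Lsl_af (LP (LK LD1_c7 LD2_c57 LD3_c41)) = (LP (LK LD1_c3 LD2_c58 LD3_c25)) :=
  Lgr Lrot45 (Lpe (f373184 IH) (Lpr_at (f373188 IH) (Lpe (f370164 IH) (Lpn (LP (LK LD1_c3 LD2_c58 LD3_c25))))))
theorem f254031 : Led Lsl_et (LP (LK LD1_c7 LD2_c57 LD3_c41)) = (LP (LK LD1_c15 LD2_c1 LD3_c0)) :=
  Lre_e IH (LK LD1_c7 LD2_c57 LD3_c41) (LK LD1_c15 LD2_c1 LD3_c0) Lrfl Lrfl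
theorem f218893 : Led Lsl_et (LP (LK LD1_c7 LD2_c58 LD3_c14)) = (LP (LK LD1_c3 LD2_c58 LD3_c25)) :=
  Lre_e IH (LK LD1_c7 LD2_c58 LD3_c14) (LK LD1_c3 LD2_c58 LD3_c25) Lrfl Lrfl
theorem f373200 : Led Lsl_at (LP (LK LD1_c15 LD2_c1 LD3_c0)) = (LP (LK LD1_c7 LD2_c58 LD3_c14)) :=
  Lgr Lrot80 (Lpe (f254031 IH) (Lpr_af (f373194 IH) (Lpe (f218893 IH) (Lpn (LP (LK LD1_c7 LD2_c58 LD3_c14))))))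
theorem f196509 : Led Lsl_bt (LP (LK LD1_c24 LD2_c48 LD3_c45)) = (LP (LK LD1_c15 LD2_c1 LD3_c0)) :=
  Lre_b IH (LK LD1_c24 LD2_c48 LD3_c45) (LK LD1_c15 LD2_c1 LD3_c0) Lrfl Lrfl
theorem f196494 : Led Lsl_at (LP (LK LD1_c31 LD2_c39 LD3_c44)) = (LP (LK LD1_c24 LD2_c48 LD3_c45)) :=
  Lre_a IH (LK LD1_c31 LD2_c39 LD3_c44) (LK LD1_c24 LD2_c48 LD3_c45) Lrfl Lrfl
theorem f167965 : Led Lsl_bt (LP (LK LD1_c7 LD2_c58 LD3_c14)) = (LP (LK LD1_c15 LD2_c2 LD3_c8)) :=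
  Lre_b IH (LK LD1_c7 LD2_c58 LD3_c14) (LK LD1_c15 LD2_c2 LD3_c8) Lrfl Lrfl
theorem f167987 : Led Lsl_at (LP (LK LD1_c15 LD2_c2 LD3_c8)) = (LP (LK LD1_c24 LD2_c50 LD3_c38)) :=
  Lre_a IH (LK LD1_c15 LD2_c2 LD3_c8) (LK LD1_c24 LD2_c50 LD3_c38) Lrfl Lrfl
theorem f373204 : Led Lsl_bf (LP (LK LD1_c31 LD2_c39 LD3_c44)) = (LP (LK LD1_c24 LD2_c50 LD3_c38)) :=
  Lgr Lrot81 (Lpr_at (f196494 IH) (Lpr_bt (f196509 IH) (Lpr_at (f373200 IH) (Lpr_bt (f167965 IH) (Lpr_at (f167987 IH) (Lpn (LP (LK LD1_c24 LD2_c50 LD3_c38))))))))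
theorem f373271 : Led Lsl_bt (LP (LK LD1_c31 LD2_c39 LD3_c44)) = (LP (LK LD1_c24 LD2_c50 LD3_c38)) :=
  Lgr Lrot127 (Lpr_bf (f373204 IH) (Lpn (LP (LK LD1_c24 LD2_c50 LD3_c38))))
theorem f196520 : Led Lsl_et (LP (LK LD1_c24 LD2_c48 LD3_c43)) = (LP (LK LD1_c31 LD2_c39 LD3_c44)) :=
  Lre_e IH (LK LD1_c24 LD2_c48 LD3_c43) (LK LD1_c31 LD2_c39 LD3_c44) Lrfl Lrfl
theorem f168031 : Led Lsl_et (LP (LK LD1_c24 LD2_c50 LD3_c38)) = (LP (LK LD1_c15 LD2_c2 LD3_c6)) :=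
  Lre_e IH (LK LD1_c24 LD2_c50 LD3_c38) (LK LD1_c15 LD2_c2 LD3_c6) Lrfl Lrfl
theorem f373273 : Led Lsl_bf (LP (LK LD1_c24 LD2_c48 LD3_c43)) = (LP (LK LD1_c15 LD2_c2 LD3_c6)) :=
  Lgr Lrot96 (Lpr_et (f196520 IH) (Lpr_bt (f373271 IH) (Lpr_et (f168031 IH) (Lpn (LP (LK LD1_c15 LD2_c2 LD3_c6))))))
theorem f196473 : Led Lsl_at (LP (LK LD1_c15 LD2_c15 LD3_c27)) = (LP (LK LD1_c8 LD2_c6 LD3_c14)) :=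
  Lre_a IH (LK LD1_c15 LD2_c15 LD3_c27) (LK LD1_c8 LD2_c6 LD3_c14) Lrfl Lrfl
theorem f196474 : Led Lsl_at (LP (LK LD1_c15 LD2_c0 LD3_c60)) = (LP (LK LD1_c24 LD2_c48 LD3_c43)) :=
  Lre_a IH (LK LD1_c15 LD2_c0 LD3_c60) (LK LD1_c24 LD2_c48 LD3_c43) Lrfl Lrfl
theorem f196475 : Led Lsl_cf (LP (LK LD1_c15 LD2_c15 LD3_c27)) = (LP (LK LD1_c24 LD2_c48 LD3_c43)) :=
  Lgr Lrot1 (Lpr_at (f196473 IH) (Lpr_ct (K13.f196466 IH) (Lpr_at (f196474 IH) (Lpn (LP (LK LD1_c24 LD2_c48 LD3_c43))))))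
theorem f167979 : Led Lsl_bt (LP (LK LD1_c15 LD2_c2 LD3_c8)) = (LP (LK LD1_c7 LD2_c58 LD3_c14)) :=
  Lre_b IH (LK LD1_c15 LD2_c2 LD3_c8) (LK LD1_c7 LD2_c58 LD3_c14) Lrfl Lrfl
theorem f167975 : Led Lsl_bt (LP (LK LD1_c5 LD2_c20 LD3_c57)) = (LP (LK LD1_c10 LD2_c31 LD3_c59)) :=
  Lre_b IH (LK LD1_c5 LD2_c20 LD3_c57) (LK LD1_c10 LD2_c31 LD3_c59) Lrfl Lrfl
theorem f167980 : Led Lsl_cf (LP (LK LD1_c15 LD2_c2 LD3_c8)) = (LP (LK LD1_c10 LD2_c31 LD3_c59)) :=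
  Lgr Lrot97 (Lpr_bt (f167979 IH) (Lpr_ct (K25.f167978 IH) (Lpr_bt (K25.f167977 IH) (Lpr_ct (K23.f167969 IH) (Lpr_bt (f167975 IH) (Lpn (LP (LK LD1_c10 LD2_c31 LD3_c59))))))))
theorem f167991 : Led Lsl_et (LP (LK LD1_c15 LD2_c2 LD3_c8)) = (LP (LK LD1_c7 LD2_c58 LD3_c12)) :=
  Lre_e IH (LK LD1_c15 LD2_c2 LD3_c8) (LK LD1_c7 LD2_c58 LD3_c12) Lrfl Lrfl
theorem f167992 : Led Lsl_et (LP (LK LD1_c5 LD2_c20 LD3_c55)) = (LP (LK LD1_c10 LD2_c31 LD3_c59)) :=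
  Lre_e IH (LK LD1_c5 LD2_c20 LD3_c55) (LK LD1_c10 LD2_c31 LD3_c59) Lrfl Lrfl
theorem f167993 : Led Lsl_ct (LP (LK LD1_c7 LD2_c58 LD3_c12)) = (LP (LK LD1_c5 LD2_c20 LD3_c55)) :=
  Lgr Lrot15 (Lpe (f167991 IH) (Lpr_cf (f167980 IH) (Lpe (f167992 IH) (Lpn (LP (LK LD1_c5 LD2_c20 LD3_c55))))))
theorem f168000 : Led Lsl_at (LP (LK LD1_c15 LD2_c2 LD3_c6)) = (LP (LK LD1_c7 LD2_c58 LD3_c12)) :=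
  Lre_a IH (LK LD1_c15 LD2_c2 LD3_c6) (LK LD1_c7 LD2_c58 LD3_c12) Lrfl Lrfl
theorem f168001 : Led Lsl_at (LP (LK LD1_c5 LD2_c20 LD3_c55)) = (LP (LK LD1_c10 LD2_c31 LD3_c57)) :=
  Lre_a IH (LK LD1_c5 LD2_c20 LD3_c55) (LK LD1_c10 LD2_c31 LD3_c57) Lrfl Lrfl
theorem f168002 : Led Lsl_cf (LP (LK LD1_c15 LD2_c2 LD3_c6)) = (LP (LK LD1_c10 LD2_c31 LD3_c57)) :=
  Lgr Lrot1 (Lpr_at (f168000 IH) (Lpr_ct (f167993 IH) (Lpr_at (f168001 IH) (Lpn (LP (LK LD1_c10 LD2_c31 LD3_c57))))))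
theorem f168006 : Led Lsl_bt (LP (LK LD1_c5 LD2_c20 LD3_c55)) = (LP (LK LD1_c2 LD2_c37 LD3_c5)) :=
  Lre_b IH (LK LD1_c5 LD2_c20 LD3_c55) (LK LD1_c2 LD2_c37 LD3_c5) Lrfl Lrfl
theorem f168010 : Led Lsl_at (LP (LK LD1_c10 LD2_c31 LD3_c57)) = (LP (LK LD1_c5 LD2_c20 LD3_c55)) :=
  Lre_a IH (LK LD1_c10 LD2_c31 LD3_c57) (LK LD1_c5 LD2_c20 LD3_c55) Lrfl Lrfl
theorem f369111 : Led Lsl_at (LP (LK LD1_c2 LD2_c38 LD3_c59)) = (LP (LK LD1_c5 LD2_c24 LD3_c53)) :=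
  Lre_a IH (LK LD1_c2 LD2_c38 LD3_c59) (LK LD1_c5 LD2_c24 LD3_c53) Lrfl Lrfl
theorem f369112 : Led Lsl_bf (LP (LK LD1_c10 LD2_c31 LD3_c57)) = (LP (LK LD1_c5 LD2_c24 LD3_c53)) :=
  Lgr Lrot81 (Lpr_at (f168010 IH) (Lpr_bt (f168006 IH) (Lpr_at (f369107 IH) (Lpr_bt (K12.f223754 IH) (Lpr_at (f369111 IH) (Lpn (LP (LK LD1_c5 LD2_c24 LD3_c53))))))))
theorem f373275 : Led Lsl_ct (LP (LK LD1_c10 LD2_c40 LD3_c26)) = (LP (LK LD1_c5 LD2_c24 LD3_c53)) :=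
  Lre_c IH (LK LD1_c10 LD2_c40 LD3_c26) (LK LD1_c5 LD2_c24 LD3_c53) Lrfl Lrfl
theorem f373276 : Led Lsl_bt (LP (LK LD1_c15 LD2_c15 LD3_c27)) = (LP (LK LD1_c10 LD2_c40 LD3_c26)) :=
  Lgr Lrot128 (Lpr_cf (f196475 IH) (Lpr_bf (f373273 IH) (Lpr_cf (f168002 IH) (Lpr_bf (f369112 IH) (Lpe (f373275 IH) (Lpn (LP (LK LD1_c10 LD2_c40 LD3_c26))))))))
theorem f196524 : Led Lsl_dt (LP (LK LD1_c25 LD2_c4 LD3_c39)) = (LP (LK LD1_c15 LD2_c15 LD3_c27)) :=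
  Lre_d IH (LK LD1_c25 LD2_c4 LD3_c39) (LK LD1_c15 LD2_c15 LD3_c27) Lrfl Lrfl
theorem f373280 : Led Lsl_dt (LP (LK LD1_c10 LD2_c40 LD3_c26)) = (LP (LK LD1_c19 LD2_c19 LD3_c42)) :=
  Lre_d IH (LK LD1_c10 LD2_c40 LD3_c26) (LK LD1_c19 LD2_c19 LD3_c42) Lrfl Lrfl
theorem f373281 : Led Lsl_bf (LP (LK LD1_c25 LD2_c4 LD3_c39)) = (LP (LK LD1_c19 LD2_c19 LD3_c42)) :=
  Lgr Lrot93 (Lpr_dt (f196524 IH) (Lpr_bt (f373276 IH) (Lpr_dt (f373280 IH) (Lpn (LP (LK LD1_c19 LD2_c19 LD3_c42))))))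
theorem f373676 : Led Lsl_bt (LP (LK LD1_c25 LD2_c4 LD3_c39)) = (LP (LK LD1_c19 LD2_c19 LD3_c42)) :=
  Lgr Lrot127 (Lpr_bf (f373281 IH) (Lpn (LP (LK LD1_c19 LD2_c19 LD3_c42))))
theorem f373678 : Led Lsl_at (LP (LK LD1_c15 LD2_c15 LD3_c28)) = (LP (LK LD1_c25 LD2_c4 LD3_c39)) :=
  Lre_a IH (LK LD1_c15 LD2_c15 LD3_c28) (LK LD1_c25 LD2_c4 LD3_c39) Lrfl Lrfl
theorem f234412 : Led Lsl_bt (LP (LK LD1_c8 LD2_c6 LD3_c15)) = (LP (LK LD1_c15 LD2_c15 LD3_c28)) :=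
  Lre_b IH (LK LD1_c8 LD2_c6 LD3_c15) (LK LD1_c15 LD2_c15 LD3_c28) Lrfl Lrfl
theorem f361886 : Led Lsl_at (LP (LK LD1_c10 LD2_c23 LD3_c24)) = (LP (LK LD1_c8 LD2_c6 LD3_c15)) :=
  Lgr Lrot51 (Lpe (K15.f49355 IH) (Lpr_af (K26.f361877 IH) (Lpe (K14.f216878 IH) (Lpn (LP (LK LD1_c8 LD2_c6 LD3_c15))))))
theorem f373679 : Led Lsl_at (LP (LK LD1_c19 LD2_c19 LD3_c42)) = (LP (LK LD1_c10 LD2_c40 LD3_c31)) :=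
  Lre_a IH (LK LD1_c19 LD2_c19 LD3_c42) (LK LD1_c10 LD2_c40 LD3_c31) Lrfl Lrfl
theorem f373680 : Led Lsl_bf (LP (LK LD1_c10 LD2_c23 LD3_c24)) = (LP (LK LD1_c10 LD2_c40 LD3_c31)) :=
  Lgr Lrot81 (Lpr_at (f361886 IH) (Lpr_bt (f234412 IH) (Lpr_at (f373678 IH) (Lpr_bt (f373676 IH) (Lpr_at (f373679 IH) (Lpn (LP (LK LD1_c10 LD2_c40 LD3_c31))))))))
theorem f234357 : Led Lsl_bt (LP (LK LD1_c8 LD2_c6 LD3_c18)) = (LP (LK LD1_c15 LD2_c15 LD3_c35)) :=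
  Lre_b IH (LK LD1_c8 LD2_c6 LD3_c18) (LK LD1_c15 LD2_c15 LD3_c35) Lrfl Lrfl
theorem f373686 : Led Lsl_ft (LP (LK LD1_c15 LD2_c15 LD3_c35)) = (LP (LK LD1_c10 LD2_c40 LD3_c31)) :=
  Lgr Lrot75 (Lpe (f234357 IH) (Lpe (K26.f361903 IH) (Lpr_bf (f373680 IH) (Lpn (LP (LK LD1_c10 LD2_c40 LD3_c31))))))
theorem f373691 : Led Lsl_ff (LP (LK LD1_c15 LD2_c15 LD3_c35)) = (LP (LK LD1_c10 LD2_c40 LD3_c31)) :=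
  Lgr Lrot3 (Lpr_ft (f373686 IH) (Lpn (LP (LK LD1_c10 LD2_c40 LD3_c31))))
theorem f373693 : Led Lsl_dt (LP (LK LD1_c15 LD2_c15 LD3_c35)) = (LP (LK LD1_c8 LD2_c6 LD3_c17)) :=
  Lre_d IH (LK LD1_c15 LD2_c15 LD3_c35) (LK LD1_c8 LD2_c6 LD3_c17) Lrfl Lrfl
theorem f263973 : Led Lsl_dt (LP (LK LD1_c5 LD2_c24 LD3_c54)) = (LP (LK LD1_c10 LD2_c40 LD3_c31)) :=
  Lre_d IH (LK LD1_c5 LD2_c24 LD3_c54) (LK LD1_c10 LD2_c40 LD3_c31) Lrfl Lrfl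
theorem f373694 : Led Lsl_ft (LP (LK LD1_c8 LD2_c6 LD3_c17)) = (LP (LK LD1_c5 LD2_c24 LD3_c54)) :=
  Lgr Lrot54 (Lpe (f373693 IH) (Lpr_ff (f373691 IH) (Lpe (f263973 IH) (Lpn (LP (LK LD1_c5 LD2_c24 LD3_c54))))))
theorem f369133 : Led Lsl_bt (LP (LK LD1_c5 LD2_c20 LD3_c58)) = (LP (LK LD1_c2 LD2_c37 LD3_c6)) :=
  Lre_b IH (LK LD1_c5 LD2_c20 LD3_c58) (LK LD1_c2 LD2_c37 LD3_c6) Lrfl Lrfl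
theorem f369134 : Led Lsl_ff (LP (LK LD1_c5 LD2_c20 LD3_c58)) = (LP (LK LD1_c2 LD2_c38 LD3_c59)) :=
  Lgr Lrot25 (Lpr_bt (f369133 IH) (Lpr_ft (f369129 IH) (Lpr_bt (K12.f223754 IH) (Lpn (LP (LK LD1_c2 LD2_c38 LD3_c59))))))
theorem f373698 : Led Lsl_cf (LP (LK LD1_c8 LD2_c6 LD3_c17)) = (LP (LK LD1_c5 LD2_c20 LD3_c58)) :=
  Lgr Lrot108 (Lpr_ft (f373694 IH) (Lpr_ct (K12.f216919 IH) (Lpe (f369134 IH) (Lpn (LP (LK LD1_c5 LD2_c20 LD3_c58))))))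
theorem f373703 : Led Lsl_ct (LP (LK LD1_c8 LD2_c6 LD3_c17)) = (LP (LK LD1_c5 LD2_c20 LD3_c58)) :=
  Lgr Lrot59 (Lpr_cf (f373698 IH) (Lpn (LP (LK LD1_c5 LD2_c20 LD3_c58))))
theorem f216897 : Led Lsl_bt (LP (LK LD1_c8 LD2_c6 LD3_c17)) = (LP (LK LD1_c4 LD2_c2 LD3_c52)) :=
  Lre_b IH (LK LD1_c8 LD2_c6 LD3_c17) (LK LD1_c4 LD2_c2 LD3_c52) Lrfl Lrfl
theorem f52467 : Led Lsl_ct (LP (LK LD1_c8 LD2_c9 LD3_c8)) = (LP (LK LD1_c4 LD2_c4 LD3_c11)) :=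
  Lre_c IH (LK LD1_c8 LD2_c9 LD3_c8) (LK LD1_c4 LD2_c4 LD3_c11) Lrfl Lrfl
theorem f200869 : Led Lsl_bt (LP (LK LD1_c8 LD2_c9 LD3_c8)) = (LP (LK LD1_c15 LD2_c21 LD3_c5)) :=
  Lre_b IH (LK LD1_c8 LD2_c9 LD3_c8) (LK LD1_c15 LD2_c21 LD3_c5) Lrfl Lrfl
theorem f221547 : Led Lsl_gt (LP (LK LD1_c10 LD2_c32 LD3_c0)) = (LP (LK LD1_c5 LD2_c20 LD3_c58)) :=
  Lre_g IH (LK LD1_c10 LD2_c32 LD3_c0) (LK LD1_c5 LD2_c20 LD3_c58) Lrfl Lrfl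
theorem f373705 : Led Lsl_ct (LP (LK LD1_c19 LD2_c4 LD3_c60)) = (LP (LK LD1_c10 LD2_c32 LD3_c0)) :=
  Lre_c IH (LK LD1_c19 LD2_c4 LD3_c60) (LK LD1_c10 LD2_c32 LD3_c0) Lrfl Lrfl
theorem f373721 : Led Lsl_gt (LP (LK LD1_c15 LD2_c21 LD3_c5)) = (LP (LK LD1_c19 LD2_c4 LD3_c60)) :=
  Lgr Lrot82 (Lpe (f200869 IH) (Lpr_ct (f52467 IH) (Lpe (K18.f200823 IH) (Lpe (K9.f50281 IH) (Lpr_bt (K13.f50156 IH) (Lpe (K13.f50204 IH) (Lpe (f216897 IH) (Lpr_ct (f373703 IH) (Lpe (f221547 IH) (Lpe (f373705 IH) (Lpn (LP (LK LD1_c19 LD2_c4 LD3_c60)))))))))))))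
theorem f50291 : Led Lsl_gt (LP (LK LD1_c8 LD2_c6 LD3_c21)) = (LP (LK LD1_c4 LD2_c2 LD3_c53)) :=
  Lre_g IH (LK LD1_c8 LD2_c6 LD3_c21) (LK LD1_c4 LD2_c2 LD3_c53) Lrfl Lrfl
theorem f217407 : Led Lsl_bt (LP (LK LD1_c15 LD2_c15 LD3_c45)) = (LP (LK LD1_c8 LD2_c6 LD3_c21)) :=
  Lre_b IH (LK LD1_c15 LD2_c15 LD3_c45) (LK LD1_c8 LD2_c6 LD3_c21) Lrfl Lrfl
theorem f217408 : Led Lsl_ct (LP (LK LD1_c15 LD2_c15 LD3_c45)) = (LP (LK LD1_c25 LD2_c5 LD3_c18)) :=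
  Lre_c IH (LK LD1_c15 LD2_c15 LD3_c45) (LK LD1_c25 LD2_c5 LD3_c18) Lrfl Lrfl
theorem f213365 : Led Lsl_gt (LP (LK LD1_c25 LD2_c4 LD3_c15)) = (LP (LK LD1_c25 LD2_c5 LD3_c18)) :=
  Lre_g IH (LK LD1_c25 LD2_c4 LD3_c15) (LK LD1_c25 LD2_c5 LD3_c18) Lrfl Lrfl
theorem f213364 : Led Lsl_ct (LP (LK LD1_c15 LD2_c15 LD3_c11)) = (LP (LK LD1_c25 LD2_c4 LD3_c15)) :=
  Lre_c IH (LK LD1_c15 LD2_c15 LD3_c11) (LK LD1_c25 LD2_c4 LD3_c15) Lrfl Lrfl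
theorem f373724 : Led Lsl_bt (LP (LK LD1_c15 LD2_c15 LD3_c11)) = (LP (LK LD1_c19 LD2_c4 LD3_c60)) :=
  Lgr Lrot92 (Lpr_ct (f213364 IH) (Lpr_gt (f213365 IH) (Lpe (f217408 IH) (Lpr_bt (f217407 IH) (Lpr_gt (f50291 IH) (Lpr_ct (K9.f50281 IH) (Lpr_gt (K18.f200823 IH) (Lpe (f52467 IH) (Lpr_bt (f200869 IH) (Lpr_gt (f373721 IH) (Lpn (LP (LK LD1_c19 LD2_c4 LD3_c60)))))))))))))
theorem f201162 : Led Lsl_at (LP (LK LD1_c8 LD2_c26 LD3_c49)) = (LP (LK LD1_c15 LD2_c51 LD3_c36)) :=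
  Lre_a IH (LK LD1_c8 LD2_c26 LD3_c49) (LK LD1_c15 LD2_c51 LD3_c36) Lrfl Lrfl
theorem f201163 : Led Lsl_at (LP (LK LD1_c17 LD2_c48 LD3_c15)) = (LP (LK LD1_c9 LD2_c40 LD3_c42)) :=
  Lre_a IH (LK LD1_c17 LD2_c48 LD3_c15) (LK LD1_c9 LD2_c40 LD3_c42) Lrfl Lrfl
theorem f201164 : Led Lsl_ct (LP (LK LD1_c15 LD2_c51 LD3_c36)) = (LP (LK LD1_c17 LD2_c48 LD3_c15)) :=
  Lgr Lrot111 (Lpe (f201162 IH) (Lpr_cf (K22.f201132 IH) (Lpe (f201163 IH) (Lpn (LP (LK LD1_c17 LD2_c48 LD3_c15))))))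
theorem f369178 : Led Lsl_ft (LP (LK LD1_c17 LD2_c48 LD3_c15)) = (LP (LK LD1_c9 LD2_c42 LD3_c32)) :=
  Lgr Lrot4 (Lpe (f201164 IH) (Lpr_ff (f369173 IH) (Lpe (f369166 IH) (Lpn (LP (LK LD1_c9 LD2_c42 LD3_c32))))))
theorem f367391 : Led Lsl_at (LP (LK LD1_c9 LD2_c42 LD3_c32)) = (LP (LK LD1_c4 LD2_c55 LD3_c27)) :=
  Lre_a IH (LK LD1_c9 LD2_c42 LD3_c32) (LK LD1_c4 LD2_c55 LD3_c27) Lrfl Lrfl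
theorem f222184 : Led Lsl_gt (LP (LK LD1_c9 LD2_c42 LD3_c31)) = (LP (LK LD1_c4 LD2_c55 LD3_c27)) :=
  Lre_g IH (LK LD1_c9 LD2_c42 LD3_c31) (LK LD1_c4 LD2_c55 LD3_c27) Lrfl Lrfl
theorem f369185 : Led Lsl_gt (LP (LK LD1_c17 LD2_c48 LD3_c15)) = (LP (LK LD1_c9 LD2_c42 LD3_c31)) :=
  Lgr Lrot5 (Lpr_ft (f369178 IH) (Lpr_at (f367391 IH) (Lpe (f222184 IH) (Lpn (LP (LK LD1_c9 LD2_c42 LD3_c31))))))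
theorem f174991 : Led Lsl_ct (LP (LK LD1_c1 LD2_c17 LD3_c34)) = (LP (LK LD1_c0 LD2_c35 LD3_c51)) :=
  Lre_c IH (LK LD1_c1 LD2_c17 LD3_c34) (LK LD1_c0 LD2_c35 LD3_c51) Lrfl Lrfl
theorem f225238 : Led Lsl_bt (LP (LK LD1_c1 LD2_c17 LD3_c34)) = (LP (LK LD1_c2 LD2_c41 LD3_c50)) :=
  Lre_b IH (LK LD1_c1 LD2_c17 LD3_c34) (LK LD1_c2 LD2_c41 LD3_c50) Lrfl Lrfl
theorem f173048 : Led Lsl_gt (LP (LK LD1_c2 LD2_c41 LD3_c50)) = (LP (LK LD1_c5 LD2_c31 LD3_c6)) :=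
  Lre_g IH (LK LD1_c2 LD2_c41 LD3_c50) (LK LD1_c5 LD2_c31 LD3_c6) Lrfl Lrfl
theorem f253192 : Led Lsl_bt (LP (LK LD1_c10 LD2_c53 LD3_c44)) = (LP (LK LD1_c5 LD2_c31 LD3_c6)) :=
  Lre_b IH (LK LD1_c10 LD2_c53 LD3_c44) (LK LD1_c5 LD2_c31 LD3_c6) Lrfl Lrfl
theorem f217466 : Led Lsl_ct (LP (LK LD1_c9 LD2_c42 LD3_c24)) = (LP (LK LD1_c4 LD2_c55 LD3_c27)) :=
  Lre_c IH (LK LD1_c9 LD2_c42 LD3_c24) (LK LD1_c4 LD2_c55 LD3_c27) Lrfl Lrfl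
theorem f253193 : Led Lsl_ct (LP (LK LD1_c10 LD2_c53 LD3_c44)) = (LP (LK LD1_c9 LD2_c42 LD3_c31)) :=
  Lgr Lrot64 (Lpr_bt (f253192 IH) (Lpe (f173048 IH) (Lpe (f225238 IH) (Lpr_ct (f174991 IH) (Lpr_gf (K14.f253182 IH) (Lpe (K10.f33455 IH) (Lpe (K16.f222180 IH) (Lpe (f222183 IH) (Lpr_ct (f217466 IH) (Lpe (f222184 IH) (Lpn (LP (LK LD1_c9 LD2_c42 LD3_c31)))))))))))))
theorem f280697 : Led Lsl_at (LP (LK LD1_c4 LD2_c29 LD3_c50)) = (LP (LK LD1_c8 LD2_c57 LD3_c50)) :=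
  Lre_a IH (LK LD1_c4 LD2_c29 LD3_c50) (LK LD1_c8 LD2_c57 LD3_c50) Lrfl Lrfl
theorem f280720 : Led Lsl_ft (LP (LK LD1_c2 LD2_c41 LD3_c50)) = (LP (LK LD1_c4 LD2_c29 LD3_c50)) :=
  Lgr Lrot101 (Lpe (K20.f280719 IH) (Lpr_ff (K20.f280712 IH) (Lpe (f280697 IH) (Lpn (LP (LK LD1_c4 LD2_c29 LD3_c50))))))
theorem f281694 : Led Lsl_gt (LP (LK LD1_c5 LD2_c31 LD3_c6)) = (LP (LK LD1_c8 LD2_c57 LD3_c50)) :=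
  Lgr Lrot46 (Lpe (f173048 IH) (Lpr_ft (f280720 IH) (Lpr_at (f280697 IH) (Lpn (LP (LK LD1_c8 LD2_c57 LD3_c50))))))
theorem f217950 : Led Lsl_bt (LP (LK LD1_c4 LD2_c29 LD3_c50)) = (LP (LK LD1_c2 LD2_c11 LD3_c58)) :=
  Lre_b IH (LK LD1_c4 LD2_c29 LD3_c50) (LK LD1_c2 LD2_c11 LD3_c58) Lrfl Lrfl
theorem f221411 : Led Lsl_at (LP (LK LD1_c8 LD2_c27 LD3_c2)) = (LP (LK LD1_c15 LD2_c51 LD3_c60)) :=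
  Lre_a IH (LK LD1_c8 LD2_c27 LD3_c2) (LK LD1_c15 LD2_c51 LD3_c60) Lrfl Lrfl
theorem f271721 : Led Lsl_bf (LP (LK LD1_c8 LD2_c57 LD3_c50)) = (LP (LK LD1_c15 LD2_c51 LD3_c60)) :=
  Lgr Lrot81 (Lpr_at (K24.f271720 IH) (Lpr_bt (f217950 IH) (Lpr_at (K16.f271645 IH) (Lpr_bt (K20.f221327 IH) (Lpr_at (f221411 IH) (Lpn (LP (LK LD1_c15 LD2_c51 LD3_c60))))))))
theorem f213325 : Led Lsl_at (LP (LK LD1_c10 LD2_c55 LD3_c57)) = (LP (LK LD1_c5 LD2_c32 LD3_c8)) :=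
  Lre_a IH (LK LD1_c10 LD2_c55 LD3_c57) (LK LD1_c5 LD2_c32 LD3_c8) Lrfl Lrfl
theorem f261666 : Led Lsl_cf (LP (LK LD1_c10 LD2_c55 LD3_c57)) = (LP (LK LD1_c15 LD2_c51 LD3_c60)) :=
  Lgr Lrot1 (Lpr_at (f213325 IH) (Lpr_ct (K20.f261658 IH) (Lpr_at (f221411 IH) (Lpn (LP (LK LD1_c15 LD2_c51 LD3_c60))))))
theorem f213328 : Led Lsl_ff (LP (LK LD1_c15 LD2_c15 LD3_c13)) = (LP (LK LD1_c10 LD2_c55 LD3_c57)) :=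
  Lgr Lrot3 (Lpr_ft (K24.f213320 IH) (Lpn (LP (LK LD1_c10 LD2_c55 LD3_c57))))
theorem f213338 : Led Lsl_at (LP (LK LD1_c15 LD2_c15 LD3_c13)) = (LP (LK LD1_c8 LD2_c6 LD3_c8)) :=
  Lre_a IH (LK LD1_c15 LD2_c15 LD3_c13) (LK LD1_c8 LD2_c6 LD3_c8) Lrfl Lrfl
theorem f213218 : Led Lsl_gt (LP (LK LD1_c15 LD2_c15 LD3_c12)) = (LP (LK LD1_c8 LD2_c6 LD3_c8)) :=
  Lre_g IH (LK LD1_c15 LD2_c15 LD3_c12) (LK LD1_c8 LD2_c6 LD3_c8) Lrfl Lrfl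
theorem f213342 : Led Lsl_gf (LP (LK LD1_c15 LD2_c15 LD3_c12)) = (LP (LK LD1_c10 LD2_c55 LD3_c57)) :=
  Lgr Lrot47 (Lpr_gt (f213218 IH) (Lpe (f213338 IH) (Lpr_ff (f213328 IH) (Lpn (LP (LK LD1_c10 LD2_c55 LD3_c57))))))
theorem f213348 : Led Lsl_ct (LP (LK LD1_c25 LD2_c4 LD3_c18)) = (LP (LK LD1_c15 LD2_c15 LD3_c12)) :=
  Lre_c IH (LK LD1_c25 LD2_c4 LD3_c18) (LK LD1_c15 LD2_c15 LD3_c12) Lrfl Lrfl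
theorem f217492 : Led Lsl_bt (LP (LK LD1_c4 LD2_c55 LD3_c25)) = (LP (LK LD1_c9 LD2_c42 LD3_c24)) :=
  Lre_b IH (LK LD1_c4 LD2_c55 LD3_c25) (LK LD1_c9 LD2_c42 LD3_c24) Lrfl Lrfl
theorem f217454 : Led Lsl_gt (LP (LK LD1_c9 LD2_c42 LD3_c24)) = (LP (LK LD1_c17 LD2_c51 LD3_c7)) :=
  Lre_g IH (LK LD1_c9 LD2_c42 LD3_c24) (LK LD1_c17 LD2_c51 LD3_c7) Lrfl Lrfl
theorem f261661 : Led Lsl_bt (LP (LK LD1_c25 LD2_c4 LD3_c18)) = (LP (LK LD1_c17 LD2_c51 LD3_c7)) :=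
  Lgr Lrot92 (Lpr_ct (f213348 IH) (Lpr_gt (f213218 IH) (Lpr_cf (K20.f261652 IH) (Lpr_bt (K20.f221328 IH) (Lpe (K18.f261470 IH) (Lpr_ct (K18.f200726 IH) (Lpe (K12.f217477 IH) (Lpe (K16.f217491 IH) (Lpr_bt (f217492 IH) (Lpr_gt (f217454 IH) (Lpn (LP (LK LD1_c17 LD2_c51 LD3_c7)))))))))))))
theorem f369187 : Led Lsl_gf (LP (LK LD1_c15 LD2_c51 LD3_c36)) = (LP (LK LD1_c17 LD2_c51 LD3_c7)) :=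
  Lgr Lrot181 (Lpr_ct (f201164 IH) (Lpr_gt (f369185 IH) (Lpe (f253193 IH) (Lpr_bt (f253192 IH) (Lpr_gt (f281694 IH) (Lpr_bf (f271721 IH) (Lpe (f261666 IH) (Lpe (f213342 IH) (Lpe (f213348 IH) (Lpr_bt (f261661 IH) (Lpn (LP (LK LD1_c17 LD2_c51 LD3_c7)))))))))))))
theorem f369180 : Led Lsl_ft (LP (LK LD1_c15 LD2_c51 LD3_c36)) = (LP (LK LD1_c17 LD2_c51 LD3_c9)) :=
  Lgr Lrot48 (Lpr_ff (f369173 IH) (Lpn (LP (LK LD1_c17 LD2_c51 LD3_c9))))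
theorem f263953 : Led Lsl_at (LP (LK LD1_c17 LD2_c51 LD3_c9)) = (LP (LK LD1_c9 LD2_c42 LD3_c24)) :=
  Lre_a IH (LK LD1_c17 LD2_c51 LD3_c9) (LK LD1_c9 LD2_c42 LD3_c24) Lrfl Lrfl
theorem f369182 : Led Lsl_gt (LP (LK LD1_c15 LD2_c51 LD3_c36)) = (LP (LK LD1_c17 LD2_c51 LD3_c8)) :=
  Lgr Lrot5 (Lpr_ft (f369180 IH) (Lpr_at (f263953 IH) (Lpe (K18.f217468 IH) (Lpn (LP (LK LD1_c17 LD2_c51 LD3_c8))))))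
theorem f219061 : Led Lsl_ct (LP (LK LD1_c17 LD2_c51 LD3_c8)) = (LP (LK LD1_c19 LD2_c17 LD3_c4)) :=
  Lgr Lrot59 (Lpr_cf (K18.f217471 IH) (Lpn (LP (LK LD1_c19 LD2_c17 LD3_c4))))
theorem f297491 : Led Lsl_at (LP (LK LD1_c15 LD2_c51 LD3_c34)) = (LP (LK LD1_c17 LD2_c51 LD3_c8)) :=
  Lgr Lrot107 (Lpe (K19.f201176 IH) (Lpr_af (K18.f297457 IH) (Lpe (f219061 IH) (Lpn (LP (LK LD1_c17 LD2_c51 LD3_c8))))))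
theorem f369189 : Led Lsl_ff (LP (LK LD1_c15 LD2_c51 LD3_c34)) = (LP (LK LD1_c17 LD2_c51 LD3_c7)) :=
  Lgr Lrot52 (Lpr_at (f297491 IH) (Lpe (f369182 IH) (Lpr_gf (f369187 IH) (Lpn (LP (LK LD1_c17 LD2_c51 LD3_c7))))))
theorem f369193 : Led Lsl_ft (LP (LK LD1_c15 LD2_c51 LD3_c34)) = (LP (LK LD1_c17 LD2_c51 LD3_c7)) :=
  Lgr Lrot48 (Lpr_ff (f369189 IH) (Lpn (LP (LK LD1_c17 LD2_c51 LD3_c7))))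
theorem f261668 : Led Lsl_cf (LP (LK LD1_c5 LD2_c32 LD3_c8)) = (LP (LK LD1_c8 LD2_c27 LD3_c2)) :=
  Lgr Lrot11 (Lpr_ct (K20.f261658 IH) (Lpn (LP (LK LD1_c8 LD2_c27 LD3_c2))))
theorem f213330 : Led Lsl_gt (LP (LK LD1_c10 LD2_c55 LD3_c56)) = (LP (LK LD1_c5 LD2_c32 LD3_c8)) :=
  Lre_g IH (LK LD1_c10 LD2_c55 LD3_c56) (LK LD1_c5 LD2_c32 LD3_c8) Lrfl Lrfl
theorem f213334 : Led Lsl_ct (LP (LK LD1_c19 LD2_c44 LD3_c22)) = (LP (LK LD1_c10 LD2_c55 LD3_c56)) :=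
  Lre_c IH (LK LD1_c19 LD2_c44 LD3_c22) (LK LD1_c10 LD2_c55 LD3_c56) Lrfl Lrfl
theorem f221285 : Led Lsl_bt (LP (LK LD1_c8 LD2_c27 LD3_c2)) = (LP (LK LD1_c4 LD2_c14 LD3_c14)) :=
  Lre_b IH (LK LD1_c8 LD2_c27 LD3_c2) (LK LD1_c4 LD2_c14 LD3_c14) Lrfl Lrfl
theorem f261742 : Led Lsl_bt (LP (LK LD1_c19 LD2_c44 LD3_c22)) = (LP (LK LD1_c15 LD2_c51 LD3_c34)) :=
  Lgr Lrot92 (Lpr_ct (f213334 IH) (Lpr_gt (f213330 IH) (Lpr_cf (f261668 IH) (Lpr_bt (f221285 IH) (Lpr_gt (K16.f216392 IH) (Lpr_ct (K15.f188946 IH) (Lpr_gt (K12.f49893 IH) (Lpe (K12.f188612 IH) (Lpr_bt (K18.f201182 IH) (Lpr_gt (K18.f201172 IH) (Lpn (LP (LK LD1_c15 LD2_c51 LD3_c34)))))))))))))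
theorem f261663 : Led Lsl_bf (LP (LK LD1_c25 LD2_c4 LD3_c18)) = (LP (LK LD1_c17 LD2_c51 LD3_c7)) :=
  Lgr Lrot24 (Lpr_bt (f261661 IH) (Lpn (LP (LK LD1_c17 LD2_c51 LD3_c7))))
theorem f369195 : Led Lsl_ff (LP (LK LD1_c19 LD2_c44 LD3_c22)) = (LP (LK LD1_c25 LD2_c4 LD3_c18)) :=
  Lgr Lrot25 (Lpr_bt (f261742 IH) (Lpr_ft (f369193 IH) (Lpe (f261663 IH) (Lpn (LP (LK LD1_c25 LD2_c4 LD3_c18))))))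
theorem f213344 : Led Lsl_ct (LP (LK LD1_c15 LD2_c15 LD3_c12)) = (LP (LK LD1_c25 LD2_c4 LD3_c18)) :=
  Lre_c IH (LK LD1_c15 LD2_c15 LD3_c12) (LK LD1_c25 LD2_c4 LD3_c18) Lrfl Lrfl
theorem f369213 : Led Lsl_ft (LP (LK LD1_c10 LD2_c55 LD3_c56)) = (LP (LK LD1_c15 LD2_c15 LD3_c12)) :=
  Lgr Lrot4 (Lpe (f213334 IH) (Lpr_ff (f369195 IH) (Lpe (f213344 IH) (Lpn (LP (LK LD1_c15 LD2_c15 LD3_c12))))))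
theorem f369219 : Led Lsl_af (LP (LK LD1_c10 LD2_c55 LD3_c55)) = (LP (LK LD1_c15 LD2_c15 LD3_c12)) :=
  Lgr Lrot31 (Lpe (K24.f213381 IH) (Lpe (f213330 IH) (Lpr_ft (f369213 IH) (Lpn (LP (LK LD1_c15 LD2_c15 LD3_c12))))))
theorem f369221 : Led Lsl_at (LP (LK LD1_c10 LD2_c55 LD3_c55)) = (LP (LK LD1_c15 LD2_c15 LD3_c12)) :=
  Lgr Lrot100 (Lpr_af (f369219 IH) (Lpn (LP (LK LD1_c15 LD2_c15 LD3_c12))))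
theorem f213361 : Led Lsl_gt (LP (LK LD1_c8 LD2_c6 LD3_c8)) = (LP (LK LD1_c15 LD2_c15 LD3_c11)) :=
  Lre_g IH (LK LD1_c8 LD2_c6 LD3_c8) (LK LD1_c15 LD2_c15 LD3_c11) Lrfl Lrfl
theorem f213339 : Led Lsl_at (LP (LK LD1_c5 LD2_c32 LD3_c8)) = (LP (LK LD1_c10 LD2_c55 LD3_c57)) :=
  Lre_a IH (LK LD1_c5 LD2_c32 LD3_c8) (LK LD1_c10 LD2_c55 LD3_c57) Lrfl Lrfl
theorem f213362 : Led Lsl_gt (LP (LK LD1_c15 LD2_c15 LD3_c11)) = (LP (LK LD1_c10 LD2_c55 LD3_c57)) :=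
  Lgr Lrot46 (Lpe (f213361 IH) (Lpr_ft (K20.f213230 IH) (Lpr_at (f213339 IH) (Lpn (LP (LK LD1_c10 LD2_c55 LD3_c57))))))
theorem f369227 : Led Lsl_ff (LP (LK LD1_c10 LD2_c55 LD3_c55)) = (LP (LK LD1_c15 LD2_c15 LD3_c11)) :=
  Lgr Lrot52 (Lpr_at (f369221 IH) (Lpr_gf (f213342 IH) (Lpe (f213362 IH) (Lpn (LP (LK LD1_c15 LD2_c15 LD3_c11))))))
theorem f369217 : Led Lsl_ff (LP (LK LD1_c10 LD2_c55 LD3_c56)) = (LP (LK LD1_c15 LD2_c15 LD3_c12)) :=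
  Lgr Lrot3 (Lpr_ft (f369213 IH) (Lpn (LP (LK LD1_c15 LD2_c15 LD3_c12))))
theorem f369229 : Led Lsl_at (LP (LK LD1_c10 LD2_c55 LD3_c56)) = (LP (LK LD1_c15 LD2_c15 LD3_c11)) :=
  Lgr Lrot66 (Lpr_ff (f369217 IH) (Lpe (f369221 IH) (Lpr_ff (f369227 IH) (Lpn (LP (LK LD1_c15 LD2_c15 LD3_c11))))))
theorem f213335 : Led Lsl_bt (LP (LK LD1_c19 LD2_c44 LD3_c21)) = (LP (LK LD1_c10 LD2_c55 LD3_c56)) :=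
  Lre_b IH (LK LD1_c19 LD2_c44 LD3_c21) (LK LD1_c10 LD2_c55 LD3_c56) Lrfl Lrfl
theorem f369233 : Led Lsl_ft (LP (LK LD1_c10 LD2_c55 LD3_c55)) = (LP (LK LD1_c15 LD2_c15 LD3_c11)) :=
  Lgr Lrot48 (Lpr_ff (f369227 IH) (Lpn (LP (LK LD1_c15 LD2_c15 LD3_c11))))
theorem f369237 : Led Lsl_ff (LP (LK LD1_c19 LD2_c44 LD3_c20)) = (LP (LK LD1_c25 LD2_c4 LD3_c15)) :=
  Lgr Lrot23 (Lpr_ct (K24.f213384 IH) (Lpr_ft (f369233 IH) (Lpr_ct (f213364 IH) (Lpn (LP (LK LD1_c25 LD2_c4 LD3_c15))))))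
theorem f213385 : Led Lsl_ct (LP (LK LD1_c10 LD2_c55 LD3_c55)) = (LP (LK LD1_c19 LD2_c44 LD3_c20)) :=
  Lre_c IH (LK LD1_c10 LD2_c55 LD3_c55) (LK LD1_c19 LD2_c44 LD3_c20) Lrfl Lrfl
theorem f369223 : Led Lsl_at (LP (LK LD1_c19 LD2_c44 LD3_c20)) = (LP (LK LD1_c25 LD2_c4 LD3_c18)) :=
  Lgr Lrot107 (Lpe (f213385 IH) (Lpr_af (f369219 IH) (Lpe (f213348 IH) (Lpn (LP (LK LD1_c25 LD2_c4 LD3_c18))))))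
theorem f369242 : Led Lsl_gf (LP (LK LD1_c25 LD2_c4 LD3_c18)) = (LP (LK LD1_c25 LD2_c5 LD3_c18)) :=
  Lgr Lrot76 (Lpe (f369223 IH) (Lpr_ff (f369237 IH) (Lpr_gt (f213365 IH) (Lpn (LP (LK LD1_c25 LD2_c5 LD3_c18))))))
theorem f261665 : Led Lsl_bt (LP (LK LD1_c15 LD2_c15 LD3_c12)) = (LP (LK LD1_c25 LD2_c4 LD3_c17)) :=
  Lre_b IH (LK LD1_c15 LD2_c15 LD3_c12) (LK LD1_c25 LD2_c4 LD3_c17) Lrfl Lrfl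
theorem f52969 : Led Lsl_gt (LP (LK LD1_c15 LD2_c15 LD3_c38)) = (LP (LK LD1_c8 LD2_c6 LD3_c21)) :=
  Lre_g IH (LK LD1_c15 LD2_c15 LD3_c38) (LK LD1_c8 LD2_c6 LD3_c21) Lrfl Lrfl
theorem f216865 : Led Lsl_bt (LP (LK LD1_c2 LD2_c40 LD3_c55)) = (LP (LK LD1_c5 LD2_c29 LD3_c18)) :=
  Lre_b IH (LK LD1_c2 LD2_c40 LD3_c55) (LK LD1_c5 LD2_c29 LD3_c18) Lrfl Lrfl
theorem f216866 : Led Lsl_at (LP (LK LD1_c5 LD2_c29 LD3_c18)) = (LP (LK LD1_c10 LD2_c49 LD3_c57)) :=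
  Lre_a IH (LK LD1_c5 LD2_c29 LD3_c18) (LK LD1_c10 LD2_c49 LD3_c57) Lrfl Lrfl
theorem f50171 : Led Lsl_bt (LP (LK LD1_c8 LD2_c6 LD3_c24)) = (LP (LK LD1_c4 LD2_c2 LD3_c55)) :=
  Lre_b IH (LK LD1_c8 LD2_c6 LD3_c24) (LK LD1_c4 LD2_c2 LD3_c55) Lrfl Lrfl
theorem f52541 : Led Lsl_at (LP (LK LD1_c15 LD2_c15 LD3_c38)) = (LP (LK LD1_c8 LD2_c6 LD3_c24)) :=
  Lre_a IH (LK LD1_c15 LD2_c15 LD3_c38) (LK LD1_c8 LD2_c6 LD3_c24) Lrfl Lrfl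
theorem f216867 : Led Lsl_bt (LP (LK LD1_c10 LD2_c49 LD3_c57)) = (LP (LK LD1_c15 LD2_c15 LD3_c38)) :=
  Lgr Lrot62 (Lpe (f216866 IH) (Lpe (f216865 IH) (Lpr_af (K12.f216843 IH) (Lpe (f50171 IH) (Lpe (f52541 IH) (Lpn (LP (LK LD1_c15 LD2_c15 LD3_c38))))))))
theorem f217336 : Led Lsl_at (LP (LK LD1_c9 LD2_c42 LD3_c6)) = (LP (LK LD1_c17 LD2_c50 LD3_c40)) :=
  Lre_a IH (LK LD1_c9 LD2_c42 LD3_c6) (LK LD1_c17 LD2_c50 LD3_c40) Lrfl Lrfl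
theorem f217363 : Led Lsl_bt (LP (LK LD1_c17 LD2_c50 LD3_c40)) = (LP (LK LD1_c15 LD2_c21 LD3_c28)) :=
  Lgr Lrot62 (Lpe (f217336 IH) (Lpe (K12.f217299 IH) (Lpe (K12.f217334 IH) (Lpr_bf (K22.f217361 IH) (Lpe (K11.f52929 IH) (Lpn (LP (LK LD1_c15 LD2_c21 LD3_c28))))))))
theorem f52496 : Led Lsl_ct (LP (LK LD1_c8 LD2_c9 LD3_c5)) = (LP (LK LD1_c15 LD2_c15 LD3_c38)) :=
  Lre_c IH (LK LD1_c8 LD2_c9 LD3_c5) (LK LD1_c15 LD2_c15 LD3_c38) Lrfl Lrfl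
theorem f49395 : Led Lsl_et (LP (LK LD1_c15 LD2_c32 LD3_c53)) = (LP (LK LD1_c25 LD2_c26 LD3_c10)) :=
  Lre_e IH (LK LD1_c15 LD2_c32 LD3_c53) (LK LD1_c25 LD2_c26 LD3_c10) Lrfl Lrfl
theorem f49394 : Led Lsl_ft (LP (LK LD1_c8 LD2_c16 LD3_c13)) = (LP (LK LD1_c15 LD2_c32 LD3_c53)) :=
  Lre_f IH (LK LD1_c8 LD2_c16 LD3_c13) (LK LD1_c15 LD2_c32 LD3_c53) Lrfl Lrfl
theorem f217229 : Led Lsl_et (LP (LK LD1_c19 LD2_c34 LD3_c50)) = (LP (LK LD1_c10 LD2_c49 LD3_c57)) :=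
  Lre_e IH (LK LD1_c19 LD2_c34 LD3_c50) (LK LD1_c10 LD2_c49 LD3_c57) Lrfl Lrfl
theorem f217230 : Led Lsl_ff (LP (LK LD1_c10 LD2_c23 LD3_c31)) = (LP (LK LD1_c10 LD2_c49 LD3_c57)) :=
  Lgr Lrot72 (Lpe (K12.f49293 IH) (Lpr_ft (f49394 IH) (Lpr_et (f49395 IH) (Lpr_ft (K12.f217218 IH) (Lpr_et (f217229 IH) (Lpn (LP (LK LD1_c10 LD2_c49 LD3_c57))))))))
theorem f50157 : Led Lsl_at (LP (LK LD1_c8 LD2_c6 LD3_c22)) = (LP (LK LD1_c4 LD2_c2 LD3_c53)) :=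
  Lre_a IH (LK LD1_c8 LD2_c6 LD3_c22) (LK LD1_c4 LD2_c2 LD3_c53) Lrfl Lrfl
theorem f49337 : Led Lsl_bt (LP (LK LD1_c2 LD2_c35 LD3_c12)) = (LP (LK LD1_c5 LD2_c16 LD3_c58)) :=
  Lre_b IH (LK LD1_c2 LD2_c35 LD3_c12) (LK LD1_c5 LD2_c16 LD3_c58) Lrfl Lrfl
theorem f50158 : Led Lsl_bf (LP (LK LD1_c8 LD2_c6 LD3_c22)) = (LP (LK LD1_c10 LD2_c23 LD3_c31)) :=
  Lgr Lrot81 (Lpr_at (f50157 IH) (Lpr_bt (K13.f50156 IH) (Lpr_at (K9.f50151 IH) (Lpr_bt (f49337 IH) (Lpr_at (K12.f49292 IH) (Lpn (LP (LK LD1_c10 LD2_c23 LD3_c31))))))))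
theorem f50690 : Led Lsl_ft (LP (LK LD1_c8 LD2_c6 LD3_c22)) = (LP (LK LD1_c15 LD2_c15 LD3_c38)) :=
  Lre_f IH (LK LD1_c8 LD2_c6 LD3_c22) (LK LD1_c15 LD2_c15 LD3_c38) Lrfl Lrfl
theorem f217264 : Led Lsl_bt (LP (LK LD1_c15 LD2_c15 LD3_c38)) = (LP (LK LD1_c10 LD2_c49 LD3_c57)) :=
  Lgr Lrot35 (Lpe (f50690 IH) (Lpr_bf (f50158 IH) (Lpr_ff (f217230 IH) (Lpn (LP (LK LD1_c10 LD2_c49 LD3_c57))))))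
theorem f217376 : Led Lsl_cf (LP (LK LD1_c17 LD2_c50 LD3_c40)) = (LP (LK LD1_c10 LD2_c49 LD3_c57)) :=
  Lgr Lrot97 (Lpr_bt (f217363 IH) (Lpr_ct (K11.f52482 IH) (Lpr_bt (K18.f52453 IH) (Lpr_ct (f52496 IH) (Lpr_bt (f217264 IH) (Lpn (LP (LK LD1_c10 LD2_c49 LD3_c57))))))))
theorem f49280 : Led Lsl_bt (LP (LK LD1_c5 LD2_c16 LD3_c55)) = (LP (LK LD1_c10 LD2_c23 LD3_c22)) :=
  Lre_b IH (LK LD1_c5 LD2_c16 LD3_c55) (LK LD1_c10 LD2_c23 LD3_c22) Lrfl Lrfl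
theorem f217311 : Led Lsl_ft (LP (LK LD1_c10 LD2_c23 LD3_c22)) = (LP (LK LD1_c9 LD2_c42 LD3_c6)) :=
  Lgr Lrot75 (Lpe (f49280 IH) (Lpr_ff (K12.f217307 IH) (Lpe (K12.f168632 IH) (Lpn (LP (LK LD1_c9 LD2_c42 LD3_c6))))))
theorem f49273 : Led Lsl_gt (LP (LK LD1_c10 LD2_c23 LD3_c22)) = (LP (LK LD1_c18 LD2_c50 LD3_c57)) :=
  Lre_g IH (LK LD1_c10 LD2_c23 LD3_c22) (LK LD1_c18 LD2_c50 LD3_c57) Lrfl Lrfl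
theorem f217414 : Led Lsl_gt (LP (LK LD1_c18 LD2_c50 LD3_c57)) = (LP (LK LD1_c17 LD2_c50 LD3_c40)) :=
  Lgr Lrot46 (Lpe (f49273 IH) (Lpr_ft (f217311 IH) (Lpr_at (f217336 IH) (Lpn (LP (LK LD1_c17 LD2_c50 LD3_c40))))))
theorem f217416 : Led Lsl_ct (LP (LK LD1_c28 LD2_c19 LD3_c15)) = (LP (LK LD1_c18 LD2_c50 LD3_c57)) :=
  Lre_c IH (LK LD1_c28 LD2_c19 LD3_c15) (LK LD1_c18 LD2_c50 LD3_c57) Lrfl Lrfl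
theorem f369245 : Led Lsl_gt (LP (LK LD1_c25 LD2_c4 LD3_c17)) = (LP (LK LD1_c28 LD2_c19 LD3_c15)) :=
  Lgr Lrot82 (Lpe (f261665 IH) (Lpr_ct (f213344 IH) (Lpr_gf (f369242 IH) (Lpe (f217408 IH) (Lpr_bt (f217407 IH) (Lpe (f52969 IH) (Lpe (f216867 IH) (Lpe (f217376 IH) (Lpe (f217414 IH) (Lpe (f217416 IH) (Lpn (LP (LK LD1_c28 LD2_c19 LD3_c15)))))))))))))
theorem f369215 : Led Lsl_ff (LP (LK LD1_c19 LD2_c44 LD3_c21)) = (LP (LK LD1_c25 LD2_c4 LD3_c17)) :=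
  Lgr Lrot25 (Lpr_bt (f213335 IH) (Lpr_ft (f369213 IH) (Lpr_bt (f261665 IH) (Lpn (LP (LK LD1_c25 LD2_c4 LD3_c17))))))
theorem f223763 : Led Lsl_bt (LP (LK LD1_c9 LD2_c42 LD3_c57)) = (LP (LK LD1_c17 LD2_c52 LD3_c3)) :=
  Lre_b IH (LK LD1_c9 LD2_c42 LD3_c57) (LK LD1_c17 LD2_c52 LD3_c3) Lrfl Lrfl
theorem f223764 : Led Lsl_bt (LP (LK LD1_c5 LD2_c24 LD3_c51)) = (LP (LK LD1_c10 LD2_c40 LD3_c19)) :=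
  Lre_b IH (LK LD1_c5 LD2_c24 LD3_c51) (LK LD1_c10 LD2_c40 LD3_c19) Lrfl Lrfl
theorem f223765 : Led Lsl_ct (LP (LK LD1_c10 LD2_c40 LD3_c20)) = (LP (LK LD1_c5 LD2_c24 LD3_c51)) :=
  Lre_c IH (LK LD1_c10 LD2_c40 LD3_c20) (LK LD1_c5 LD2_c24 LD3_c51) Lrfl Lrfl
theorem f223766 : Led Lsl_bt (LP (LK LD1_c19 LD2_c19 LD3_c33)) = (LP (LK LD1_c10 LD2_c40 LD3_c20)) :=
  Lre_b IH (LK LD1_c19 LD2_c19 LD3_c33) (LK LD1_c10 LD2_c40 LD3_c20) Lrfl Lrfl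
theorem f223767 : Led Lsl_ct (LP (LK LD1_c17 LD2_c52 LD3_c3)) = (LP (LK LD1_c19 LD2_c19 LD3_c33)) :=
  Lgr Lrot83 (Lpe (f223763 IH) (Lpr_cf (K18.f223757 IH) (Lpe (f223764 IH) (Lpe (f223765 IH) (Lpe (f223766 IH) (Lpn (LP (LK LD1_c19 LD2_c19 LD3_c33))))))))
theorem f168727 : Led Lsl_bt (LP (LK LD1_c17 LD2_c52 LD3_c3)) = (LP (LK LD1_c9 LD2_c42 LD3_c57)) :=
  Lre_b IH (LK LD1_c17 LD2_c52 LD3_c3) (LK LD1_c9 LD2_c42 LD3_c57) Lrfl Lrfl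
theorem f194612 : Led Lsl_ct (LP (LK LD1_c18 LD2_c50 LD3_c57)) = (LP (LK LD1_c28 LD2_c19 LD3_c15)) :=
  Lre_c IH (LK LD1_c18 LD2_c50 LD3_c57) (LK LD1_c28 LD2_c19 LD3_c15) Lrfl Lrfl
theorem f223794 : Led Lsl_gt (LP (LK LD1_c28 LD2_c19 LD3_c15)) = (LP (LK LD1_c19 LD2_c19 LD3_c33)) :=
  Lgr Lrot149 (Lpe (f194612 IH) (Lpe (f49273 IH) (Lpe (f49280 IH) (Lpr_ct (K12.f49228 IH) (Lpe (K12.f194609 IH) (Lpe (K12.f167932 IH) (Lpr_bt (K18.f167928 IH) (Lpe (K18.f168714 IH) (Lpe (f168727 IH) (Lpr_ct (f223767 IH) (Lpn (LP (LK LD1_c19 LD2_c19 LD3_c33)))))))))))))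
theorem f369247 : Led Lsl_at (LP (LK LD1_c19 LD2_c44 LD3_c21)) = (LP (LK LD1_c19 LD2_c19 LD3_c33)) :=
  Lgr Lrot26 (Lpr_ff (f369215 IH) (Lpr_gt (f369245 IH) (Lpr_gt (f223794 IH) (Lpn (LP (LK LD1_c19 LD2_c19 LD3_c33))))))
theorem f369249 : Led Lsl_af (LP (LK LD1_c19 LD2_c44 LD3_c21)) = (LP (LK LD1_c19 LD2_c19 LD3_c33)) :=
  Lgr Lrot0 (Lpr_at (f369247 IH) (Lpn (LP (LK LD1_c19 LD2_c19 LD3_c33))))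
theorem f223787 : Led Lsl_bt (LP (LK LD1_c10 LD2_c40 LD3_c20)) = (LP (LK LD1_c19 LD2_c19 LD3_c33)) :=
  Lre_b IH (LK LD1_c10 LD2_c40 LD3_c20) (LK LD1_c19 LD2_c19 LD3_c33) Lrfl Lrfl
theorem f373726 : Led Lsl_af (LP (LK LD1_c10 LD2_c40 LD3_c20)) = (LP (LK LD1_c19 LD2_c4 LD3_c60)) :=
  Lgr Lrot36 (Lpr_bt (f223787 IH) (Lpe (f369249 IH) (Lpr_bt (f213335 IH) (Lpr_at (f369229 IH) (Lpr_bt (f373724 IH) (Lpn (LP (LK LD1_c19 LD2_c4 LD3_c60))))))))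
theorem f373723 : Led Lsl_ct (LP (LK LD1_c10 LD2_c32 LD3_c0)) = (LP (LK LD1_c19 LD2_c4 LD3_c60)) :=
  Lre_c IH (LK LD1_c10 LD2_c32 LD3_c0) (LK LD1_c19 LD2_c4 LD3_c60) Lrfl Lrfl
theorem f373730 : Led Lsl_at (LP (LK LD1_c5 LD2_c24 LD3_c51)) = (LP (LK LD1_c10 LD2_c32 LD3_c0)) :=
  Lgr Lrot107 (Lpe (f223765 IH) (Lpr_af (f373726 IH) (Lpe (f373723 IH) (Lpn (LP (LK LD1_c10 LD2_c32 LD3_c0))))))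
theorem f373733 : Led Lsl_af (LP (LK LD1_c5 LD2_c24 LD3_c51)) = (LP (LK LD1_c10 LD2_c32 LD3_c0)) :=
  Lgr Lrot0 (Lpr_at (f373730 IH) (Lpn (LP (LK LD1_c10 LD2_c32 LD3_c0))))
theorem f246604 : Led Lsl_dt (LP (LK LD1_c19 LD2_c19 LD3_c34)) = (LP (LK LD1_c10 LD2_c40 LD3_c20)) :=
  Lre_d IH (LK LD1_c19 LD2_c19 LD3_c34) (LK LD1_c10 LD2_c40 LD3_c20) Lrfl Lrfl
theorem f246624 : Led Lsl_dt (LP (LK LD1_c10 LD2_c40 LD3_c21)) = (LP (LK LD1_c5 LD2_c24 LD3_c51)) :=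
  Lre_d IH (LK LD1_c10 LD2_c40 LD3_c21) (LK LD1_c5 LD2_c24 LD3_c51) Lrfl Lrfl
theorem f373707 : Led Lsl_dt (LP (LK LD1_c10 LD2_c32 LD3_c0)) = (LP (LK LD1_c19 LD2_c4 LD3_c61)) :=
  Lre_d IH (LK LD1_c10 LD2_c32 LD3_c0) (LK LD1_c19 LD2_c4 LD3_c61) Lrfl Lrfl
theorem f373735 : Led Lsl_af (LP (LK LD1_c10 LD2_c40 LD3_c21)) = (LP (LK LD1_c19 LD2_c4 LD3_c61)) :=
  Lgr Lrot117 (Lpr_dt (f246624 IH) (Lpr_at (f373730 IH) (Lpr_dt (f373707 IH) (Lpn (LP (LK LD1_c19 LD2_c4 LD3_c61))))))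
theorem f224970 : Led Lsl_at (LP (LK LD1_c9 LD2_c38 LD3_c28)) = (LP (LK LD1_c17 LD2_c44 LD3_c38)) :=
  Lre_a IH (LK LD1_c9 LD2_c38 LD3_c28) (LK LD1_c17 LD2_c44 LD3_c38) Lrfl Lrfl
theorem f373740 : Led Lsl_ct (LP (LK LD1_c17 LD2_c44 LD3_c38)) = (LP (LK LD1_c19 LD2_c4 LD3_c61)) :=
  Lgr Lrot111 (Lpe (f224970 IH) (Lpr_cf (K18.f246598 IH) (Lpr_af (f373735 IH) (Lpn (LP (LK LD1_c19 LD2_c4 LD3_c61))))))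
theorem f373742 : Led Lsl_cf (LP (LK LD1_c17 LD2_c44 LD3_c38)) = (LP (LK LD1_c19 LD2_c4 LD3_c61)) :=
  Lgr Lrot11 (Lpr_ct (f373740 IH) (Lpn (LP (LK LD1_c19 LD2_c4 LD3_c61))))
theorem f224951 : Led Lsl_et (LP (LK LD1_c14 LD2_c57 LD3_c21)) = (LP (LK LD1_c17 LD2_c44 LD3_c40)) :=
  Lgr Lrot87 (Lpr_ef (K15.f224920 IH) (Lpn (LP (LK LD1_c17 LD2_c44 LD3_c40))))
theorem f224944 : Led Lsl_bt (LP (LK LD1_c24 LD2_c44 LD3_c52)) = (LP (LK LD1_c14 LD2_c57 LD3_c21)) :=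
  Lre_b IH (LK LD1_c24 LD2_c44 LD3_c52) (LK LD1_c14 LD2_c57 LD3_c21) Lrfl Lrfl
theorem f224954 : Led Lsl_bt (LP (LK LD1_c17 LD2_c44 LD3_c40)) = (LP (LK LD1_c27 LD2_c31 LD3_c19)) :=
  Lre_b IH (LK LD1_c17 LD2_c44 LD3_c40) (LK LD1_c27 LD2_c31 LD3_c19) Lrfl Lrfl
theorem f224955 : Led Lsl_ef (LP (LK LD1_c24 LD2_c44 LD3_c52)) = (LP (LK LD1_c27 LD2_c31 LD3_c19)) :=
  Lgr Lrot29 (Lpr_bt (f224944 IH) (Lpr_et (f224951 IH) (Lpr_bt (f224954 IH) (Lpn (LP (LK LD1_c27 LD2_c31 LD3_c19))))))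
theorem f197671 : Led Lsl_dt (LP (LK LD1_c24 LD2_c44 LD3_c52)) = (LP (LK LD1_c14 LD2_c57 LD3_c20)) :=
  Lre_d IH (LK LD1_c24 LD2_c44 LD3_c52) (LK LD1_c14 LD2_c57 LD3_c20) Lrfl Lrfl
theorem f197665 : Led Lsl_et (LP (LK LD1_c14 LD2_c57 LD3_c20)) = (LP (LK LD1_c7 LD2_c55 LD3_c38)) :=
  Lre_e IH (LK LD1_c14 LD2_c57 LD3_c20) (LK LD1_c7 LD2_c55 LD3_c38) Lrfl Lrfl
theorem f224965 : Led Lsl_dt (LP (LK LD1_c17 LD2_c44 LD3_c39)) = (LP (LK LD1_c27 LD2_c31 LD3_c19)) :=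
  Lre_d IH (LK LD1_c17 LD2_c44 LD3_c39) (LK LD1_c27 LD2_c31 LD3_c19) Lrfl Lrfl
theorem f224967 : Led Lsl_dt (LP (LK LD1_c7 LD2_c55 LD3_c38)) = (LP (LK LD1_c9 LD2_c38 LD3_c28)) :=
  Lgr Lrot77 (Lpe (f197665 IH) (Lpe (f197671 IH) (Lpr_ef (f224955 IH) (Lpe (f224965 IH) (Lpe (K18.f224966 IH) (Lpn (LP (LK LD1_c9 LD2_c38 LD3_c28))))))))
theorem f224971 : Led Lsl_df (LP (LK LD1_c14 LD2_c57 LD3_c19)) = (LP (LK LD1_c17 LD2_c44 LD3_c38)) :=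
  Lgr Lrot18 (Lpr_at (K15.f197690 IH) (Lpr_dt (f224967 IH) (Lpr_at (f224970 IH) (Lpn (LP (LK LD1_c17 LD2_c44 LD3_c38))))))
theorem f197702 : Led Lsl_at (LP (LK LD1_c8 LD2_c29 LD3_c41)) = (LP (LK LD1_c15 LD2_c56 LD3_c60)) :=
  Lre_a IH (LK LD1_c8 LD2_c29 LD3_c41) (LK LD1_c15 LD2_c56 LD3_c60) Lrfl Lrfl
theorem f190850 : Led Lsl_bt (LP (LK LD1_c8 LD2_c29 LD3_c41)) = (LP (LK LD1_c4 LD2_c15 LD3_c24)) :=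
  Lre_b IH (LK LD1_c8 LD2_c29 LD3_c41) (LK LD1_c4 LD2_c15 LD3_c24) Lrfl Lrfl
theorem f262786 : Led Lsl_ft (LP (LK LD1_c4 LD2_c15 LD3_c43)) = (LP (LK LD1_c8 LD2_c29 LD3_c41)) :=
  Lgr Lrot75 (Lpe (K13.f8012 IH) (Lpr_ff (K15.f262784 IH) (Lpe (f190850 IH) (Lpn (LP (LK LD1_c8 LD2_c29 LD3_c41))))))
theorem f243224 : Led Lsl_dt (LP (LK LD1_c4 LD2_c15 LD3_c43)) = (LP (LK LD1_c8 LD2_c30 LD3_c29)) :=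
  Lre_d IH (LK LD1_c4 LD2_c15 LD3_c43) (LK LD1_c8 LD2_c30 LD3_c29) Lrfl Lrfl
theorem f243225 : Led Lsl_ct (LP (LK LD1_c8 LD2_c30 LD3_c29)) = (LP (LK LD1_c15 LD2_c58 LD3_c42)) :=
  Lre_c IH (LK LD1_c8 LD2_c30 LD3_c29) (LK LD1_c15 LD2_c58 LD3_c42) Lrfl Lrfl
theorem f373744 : Led Lsl_dt (LP (LK LD1_c15 LD2_c58 LD3_c42)) = (LP (LK LD1_c19 LD2_c4 LD3_c60)) :=
  Lgr Lrot32 (Lpe (f243225 IH) (Lpe (f243224 IH) (Lpr_ft (f262786 IH) (Lpr_at (f197702 IH) (Lpe (K15.f197686 IH) (Lpr_df (f224971 IH) (Lpr_cf (f373742 IH) (Lpe (f373707 IH) (Lpe (f373705 IH) (Lpn (LP (LK LD1_c19 LD2_c4 LD3_c60))))))))))))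
theorem f243194 : Led Lsl_cf (LP (LK LD1_c4 LD2_c15 LD3_c43)) = (LP (LK LD1_c4 LD2_c21 LD3_c32)) :=
  Lgr Lrot11 (Lpr_ct (K13.f243173 IH) (Lpn (LP (LK LD1_c4 LD2_c21 LD3_c32))))
theorem f243202 : Led Lsl_dt (LP (LK LD1_c8 LD2_c40 LD3_c41)) = (LP (LK LD1_c4 LD2_c21 LD3_c32)) :=
  Lre_d IH (LK LD1_c8 LD2_c40 LD3_c41) (LK LD1_c4 LD2_c21 LD3_c32) Lrfl Lrfl
theorem f373750 : Led Lsl_ft (LP (LK LD1_c8 LD2_c40 LD3_c41)) = (LP (LK LD1_c9 LD2_c38 LD3_c28)) :=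
  Lgr Lrot142 (Lpr_dt (f243202 IH) (Lpe (f243194 IH) (Lpr_dt (f243224 IH) (Lpr_ct (f243225 IH) (Lpr_dt (f373744 IH) (Lpr_ct (f373705 IH) (Lpr_dt (f373707 IH) (Lpe (f373742 IH) (Lpe (f224970 IH) (Lpn (LP (LK LD1_c9 LD2_c38 LD3_c28))))))))))))
theorem f373761 : Led Lsl_ff (LP (LK LD1_c8 LD2_c40 LD3_c41)) = (LP (LK LD1_c9 LD2_c38 LD3_c28)) :=
  Lgr Lrot3 (Lpr_ft (f373750 IH) (Lpn (LP (LK LD1_c9 LD2_c38 LD3_c28))))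
theorem f373769 : Led Lsl_at (LP (LK LD1_c8 LD2_c40 LD3_c41)) = (LP (LK LD1_c16 LD2_c15 LD3_c6)) :=
  Lre_a IH (LK LD1_c8 LD2_c40 LD3_c41) (LK LD1_c16 LD2_c15 LD3_c6) Lrfl Lrfl
theorem f224977 : Led Lsl_at (LP (LK LD1_c17 LD2_c44 LD3_c38)) = (LP (LK LD1_c9 LD2_c38 LD3_c28)) :=
  Lre_a IH (LK LD1_c17 LD2_c44 LD3_c38) (LK LD1_c9 LD2_c38 LD3_c28) Lrfl Lrfl
theorem f373770 : Led Lsl_ft (LP (LK LD1_c16 LD2_c15 LD3_c6)) = (LP (LK LD1_c17 LD2_c44 LD3_c38)) :=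
  Lgr Lrot101 (Lpe (f373769 IH) (Lpr_ff (f373761 IH) (Lpe (f224977 IH) (Lpn (LP (LK LD1_c17 LD2_c44 LD3_c38))))))
theorem f243249 : Led Lsl_dt (LP (LK LD1_c16 LD2_c15 LD3_c6)) = (LP (LK LD1_c8 LD2_c40 LD3_c40)) :=
  Lre_d IH (LK LD1_c16 LD2_c15 LD3_c6) (LK LD1_c8 LD2_c40 LD3_c40) Lrfl Lrfl
theorem f243187 : Led Lsl_at (LP (LK LD1_c8 LD2_c30 LD3_c28)) = (LP (LK LD1_c4 LD2_c15 LD3_c43)) :=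
  Lre_a IH (LK LD1_c8 LD2_c30 LD3_c28) (LK LD1_c4 LD2_c15 LD3_c43) Lrfl Lrfl
theorem f243188 : Led Lsl_at (LP (LK LD1_c4 LD2_c21 LD3_c32)) = (LP (LK LD1_c8 LD2_c40 LD3_c40)) :=
  Lre_a IH (LK LD1_c4 LD2_c21 LD3_c32) (LK LD1_c8 LD2_c40 LD3_c40) Lrfl Lrfl
theorem f243189 : Led Lsl_cf (LP (LK LD1_c8 LD2_c30 LD3_c28)) = (LP (LK LD1_c8 LD2_c40 LD3_c40)) :=
  Lgr Lrot1 (Lpr_at (f243187 IH) (Lpr_ct (K13.f243173 IH) (Lpr_at (f243188 IH) (Lpn (LP (LK LD1_c8 LD2_c40 LD3_c40))))))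
theorem f373822 : Led Lsl_dt (LP (LK LD1_c8 LD2_c30 LD3_c28)) = (LP (LK LD1_c15 LD2_c58 LD3_c38)) :=
  Lre_d IH (LK LD1_c8 LD2_c30 LD3_c28) (LK LD1_c15 LD2_c58 LD3_c38) Lrfl Lrfl
theorem f373823 : Led Lsl_ct (LP (LK LD1_c15 LD2_c58 LD3_c38)) = (LP (LK LD1_c19 LD2_c19 LD3_c34)) :=
  Lgr Lrot41 (Lpe (f373822 IH) (Lpr_cf (f243189 IH) (Lpe (f243249 IH) (Lpr_ft (f373770 IH) (Lpr_at (f224977 IH) (Lpr_cf (K18.f246598 IH) (Lpe (K18.f246597 IH) (Lpe (f223765 IH) (Lpe (f246604 IH) (Lpn (LP (LK LD1_c19 LD2_c19 LD3_c34))))))))))))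
theorem f374472 : Led Lsl_ft (LP (LK LD1_c5 LD2_c24 LD3_c52)) = (LP (LK LD1_c10 LD2_c32 LD3_c0)) :=
  Lgr Lrot2 (Lpr_gt (K12.f224258 IH) (Lpr_gt (K18.f223755 IH) (Lpr_af (f373733 IH) (Lpn (LP (LK LD1_c10 LD2_c32 LD3_c0))))))
theorem f374474 : Led Lsl_dt (LP (LK LD1_c5 LD2_c24 LD3_c52)) = (LP (LK LD1_c10 LD2_c40 LD3_c25)) :=
  Lre_d IH (LK LD1_c5 LD2_c24 LD3_c52) (LK LD1_c10 LD2_c40 LD3_c25) Lrfl Lrfl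
theorem f374475 : Led Lsl_cf (LP (LK LD1_c16 LD2_c15 LD3_c6)) = (LP (LK LD1_c10 LD2_c40 LD3_c25)) :=
  Lgr Lrot118 (Lpr_dt (f243249 IH) (Lpe (f243189 IH) (Lpr_dt (f373822 IH) (Lpr_ct (f373823 IH) (Lpr_dt (f246604 IH) (Lpr_ct (f223765 IH) (Lpr_af (f373733 IH) (Lpe (f374472 IH) (Lpr_dt (f374474 IH) (Lpn (LP (LK LD1_c10 LD2_c40 LD3_c25))))))))))))
theorem f373827 : Led Lsl_cf (LP (LK LD1_c15 LD2_c58 LD3_c38)) = (LP (LK LD1_c19 LD2_c19 LD3_c34)) :=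
  Lgr Lrot11 (Lpr_ct (f373823 IH) (Lpn (LP (LK LD1_c19 LD2_c19 LD3_c34))))
theorem f373860 : Led Lsl_at (LP (LK LD1_c15 LD2_c58 LD3_c38)) = (LP (LK LD1_c8 LD2_c30 LD3_c29)) :=
  Lre_a IH (LK LD1_c15 LD2_c58 LD3_c38) (LK LD1_c8 LD2_c30 LD3_c29) Lrfl Lrfl
theorem f373987 : Led Lsl_at (LP (LK LD1_c15 LD2_c58 LD3_c42)) = (LP (LK LD1_c19 LD2_c19 LD3_c34)) :=
  Lgr Lrot107 (Lpe (f243225 IH) (Lpe (f373860 IH) (Lpr_cf (f373827 IH) (Lpn (LP (LK LD1_c19 LD2_c19 LD3_c34))))))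
theorem f374482 : Led Lsl_ct (LP (LK LD1_c10 LD2_c40 LD3_c24)) = (LP (LK LD1_c5 LD2_c24 LD3_c52)) :=
  Lre_c IH (LK LD1_c10 LD2_c40 LD3_c24) (LK LD1_c5 LD2_c24 LD3_c52) Lrfl Lrfl
theorem f374483 : Led Lsl_dt (LP (LK LD1_c19 LD2_c19 LD3_c40)) = (LP (LK LD1_c10 LD2_c40 LD3_c24)) :=
  Lre_d IH (LK LD1_c19 LD2_c19 LD3_c40) (LK LD1_c10 LD2_c40 LD3_c24) Lrfl Lrfl
theorem f374491 : Led Lsl_ff (LP (LK LD1_c15 LD2_c58 LD3_c42)) = (LP (LK LD1_c19 LD2_c19 LD3_c40)) :=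
  Lgr Lrot103 (Lpr_at (f373987 IH) (Lpe (f373823 IH) (Lpe (f373822 IH) (Lpr_cf (f243189 IH) (Lpe (f243249 IH) (Lpr_cf (f374475 IH) (Lpe (f374474 IH) (Lpe (f374482 IH) (Lpe (f374483 IH) (Lpn (LP (LK LD1_c19 LD2_c19 LD3_c40))))))))))))
theorem f374497 : Led Lsl_ft (LP (LK LD1_c15 LD2_c58 LD3_c42)) = (LP (LK LD1_c19 LD2_c19 LD3_c40)) :=
  Lgr Lrot48 (Lpr_ff (f374491 IH) (Lpn (LP (LK LD1_c19 LD2_c19 LD3_c40))))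
theorem f373748 : Led Lsl_df (LP (LK LD1_c15 LD2_c58 LD3_c42)) = (LP (LK LD1_c19 LD2_c4 LD3_c60)) :=
  Lgr Lrot38 (Lpr_dt (f373744 IH) (Lpn (LP (LK LD1_c19 LD2_c4 LD3_c60))))
theorem f374501 : Led Lsl_ff (LP (LK LD1_c19 LD2_c4 LD3_c60)) = (LP (LK LD1_c10 LD2_c40 LD3_c24)) :=
  Lgr Lrot19 (Lpe (f373748 IH) (Lpr_ft (f374497 IH) (Lpr_dt (f374483 IH) (Lpn (LP (LK LD1_c10 LD2_c40 LD3_c24))))))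
theorem f373719 : Led Lsl_bf (LP (LK LD1_c15 LD2_c15 LD3_c11)) = (LP (LK LD1_c19 LD2_c4 LD3_c60)) :=
  Lgr Lrot34 (Lpe (f213361 IH) (Lpe (K20.f213228 IH) (Lpr_ct (K12.f213151 IH) (Lpe (K12.f33099 IH) (Lpe (K13.f50186 IH) (Lpe (K13.f50204 IH) (Lpe (f216897 IH) (Lpr_ct (f373703 IH) (Lpe (f221547 IH) (Lpe (f373705 IH) (Lpn (LP (LK LD1_c19 LD2_c4 LD3_c60)))))))))))))
theorem f374503 : Led Lsl_bt (LP (LK LD1_c10 LD2_c55 LD3_c55)) = (LP (LK LD1_c10 LD2_c40 LD3_c24)) :=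
  Lgr Lrot35 (Lpr_ff (f369227 IH) (Lpr_bf (f373719 IH) (Lpr_ff (f374501 IH) (Lpn (LP (LK LD1_c10 LD2_c40 LD3_c24))))))
theorem f374511 : Led Lsl_bt (LP (LK LD1_c5 LD2_c24 LD3_c52)) = (LP (LK LD1_c10 LD2_c40 LD3_c23)) :=
  Lre_b IH (LK LD1_c5 LD2_c24 LD3_c52) (LK LD1_c10 LD2_c40 LD3_c23) Lrfl Lrfl
theorem f374606 : Led Lsl_bf (LP (LK LD1_c19 LD2_c44 LD3_c20)) = (LP (LK LD1_c19 LD2_c19 LD3_c38)) :=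
  Lgr Lrot90 (Lpr_ct (K24.f213384 IH) (Lpr_bt (f374503 IH) (Lpr_ct (f374482 IH) (Lpr_bt (f374511 IH) (Lpr_ct (K12.f224260 IH) (Lpn (LP (LK LD1_c19 LD2_c19 LD3_c38))))))))
theorem f374608 : Led Lsl_bt (LP (LK LD1_c19 LD2_c44 LD3_c20)) = (LP (LK LD1_c19 LD2_c19 LD3_c38)) :=
  Lgr Lrot127 (Lpr_bf (f374606 IH) (Lpn (LP (LK LD1_c19 LD2_c19 LD3_c38))))
theorem f281724 : Led Lsl_bt (LP (LK LD1_c5 LD2_c34 LD3_c10)) = (LP (LK LD1_c11 LD2_c0 LD3_c29)) :=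
  Lre_b IH (LK LD1_c5 LD2_c34 LD3_c10) (LK LD1_c11 LD2_c0 LD3_c29) Lrfl Lrfl
theorem f224496 : Led Lsl_ct (LP (LK LD1_c5 LD2_c34 LD3_c10)) = (LP (LK LD1_c2 LD2_c43 LD3_c4)) :=
  Lre_c IH (LK LD1_c5 LD2_c34 LD3_c10) (LK LD1_c2 LD2_c43 LD3_c4) Lrfl Lrfl
theorem f380789 : Led Lsl_gf (LP (LK LD1_c2 LD2_c43 LD3_c4)) = (LP (LK LD1_c5 LD2_c32 LD3_c55)) :=
  Lgr Lrot129 (Lpe (f224496 IH) (Lpr_bt (f281724 IH) (Lpr_gt (K12.f218309 IH) (Lpe (f374608 IH) (Lpr_ct (K24.f213384 IH) (Lpe (K24.f213382 IH) (Lpr_cf (K24.f261734 IH) (Lpr_bt (K20.f221413 IH) (Lpr_gt (K24.f280714 IH) (Lpr_ct (K24.f380741 IH) (Lpn (LP (LK LD1_c5 LD2_c32 LD3_c55)))))))))))))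
theorem f224501 : Led Lsl_ct (LP (LK LD1_c2 LD2_c43 LD3_c4)) = (LP (LK LD1_c5 LD2_c34 LD3_c10)) :=
  Lre_c IH (LK LD1_c2 LD2_c43 LD3_c4) (LK LD1_c5 LD2_c34 LD3_c10) Lrfl Lrfl
theorem f218308 : Led Lsl_ct (LP (LK LD1_c11 LD2_c0 LD3_c29)) = (LP (LK LD1_c5 LD2_c34 LD3_c13)) :=
  Lre_c IH (LK LD1_c11 LD2_c0 LD3_c29) (LK LD1_c5 LD2_c34 LD3_c13) Lrfl Lrfl
theorem f218319 : Led Lsl_bt (LP (LK LD1_c11 LD2_c0 LD3_c29)) = (LP (LK LD1_c5 LD2_c34 LD3_c10)) :=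
  Lre_b IH (LK LD1_c11 LD2_c0 LD3_c29) (LK LD1_c5 LD2_c34 LD3_c10) Lrfl Lrfl
theorem f224450 : Led Lsl_ct (LP (LK LD1_c5 LD2_c31 LD3_c4)) = (LP (LK LD1_c10 LD2_c31 LD3_c29)) :=
  Lgr Lrot59 (Lpr_cf (K12.f224442 IH) (Lpn (LP (LK LD1_c10 LD2_c31 LD3_c29))))
theorem f221151 : Led Lsl_bt (LP (LK LD1_c5 LD2_c31 LD3_c4)) = (LP (LK LD1_c2 LD2_c41 LD3_c49)) :=
  Lre_b IH (LK LD1_c5 LD2_c31 LD3_c4) (LK LD1_c2 LD2_c41 LD3_c49) Lrfl Lrfl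
theorem f221294 : Led Lsl_gt (LP (LK LD1_c2 LD2_c41 LD3_c61)) = (LP (LK LD1_c1 LD2_c17 LD3_c38)) :=
  Lre_g IH (LK LD1_c2 LD2_c41 LD3_c61) (LK LD1_c1 LD2_c17 LD3_c38) Lrfl Lrfl
theorem f221295 : Led Lsl_ct (LP (LK LD1_c5 LD2_c31 LD3_c37)) = (LP (LK LD1_c2 LD2_c41 LD3_c61)) :=
  Lre_c IH (LK LD1_c5 LD2_c31 LD3_c37) (LK LD1_c2 LD2_c41 LD3_c61) Lrfl Lrfl
theorem f224489 : Led Lsl_gt (LP (LK LD1_c5 LD2_c34 LD3_c10)) = (LP (LK LD1_c5 LD2_c31 LD3_c37)) :=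
  Lgr Lrot82 (Lpe (f218319 IH) (Lpr_ct (f218308 IH) (Lpr_gf (K12.f224476 IH) (Lpe (f224450 IH) (Lpr_bt (f221151 IH) (Lpe (K12.f220877 IH) (Lpe (K20.f220882 IH) (Lpr_ct (K20.f220883 IH) (Lpe (f221294 IH) (Lpe (f221295 IH) (Lpn (LP (LK LD1_c5 LD2_c31 LD3_c37)))))))))))))
theorem f224507 : Led Lsl_ct (LP (LK LD1_c2 LD2_c41 LD3_c61)) = (LP (LK LD1_c5 LD2_c31 LD3_c37)) :=
  Lre_c IH (LK LD1_c2 LD2_c41 LD3_c61) (LK LD1_c5 LD2_c31 LD3_c37) Lrfl Lrfl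
theorem f224508 : Led Lsl_bt (LP (LK LD1_c2 LD2_c41 LD3_c61)) = (LP (LK LD1_c5 LD2_c31 LD3_c36)) :=
  Lre_b IH (LK LD1_c2 LD2_c41 LD3_c61) (LK LD1_c5 LD2_c31 LD3_c36) Lrfl Lrfl
theorem f224509 : Led Lsl_bt (LP (LK LD1_c2 LD2_c43 LD3_c4)) = (LP (LK LD1_c1 LD2_c17 LD3_c61)) :=
  Lre_b IH (LK LD1_c2 LD2_c43 LD3_c4) (LK LD1_c1 LD2_c17 LD3_c61) Lrfl Lrfl
theorem f224510 : Led Lsl_gt (LP (LK LD1_c4 LD2_c28 LD3_c30)) = (LP (LK LD1_c8 LD2_c55 LD3_c5)) :=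
  Lre_g IH (LK LD1_c4 LD2_c28 LD3_c30) (LK LD1_c8 LD2_c55 LD3_c5) Lrfl Lrfl
theorem f224511 : Led Lsl_ct (LP (LK LD1_c8 LD2_c55 LD3_c8)) = (LP (LK LD1_c4 LD2_c28 LD3_c30)) :=
  Lre_c IH (LK LD1_c8 LD2_c55 LD3_c8) (LK LD1_c4 LD2_c28 LD3_c30) Lrfl Lrfl
theorem f224512 : Led Lsl_gf (LP (LK LD1_c8 LD2_c55 LD3_c8)) = (LP (LK LD1_c5 LD2_c31 LD3_c36)) :=
  Lgr Lrot181 (Lpr_ct (f224511 IH) (Lpr_gt (f224510 IH) (Lpe (K9.f169327 IH) (Lpr_bt (K9.f174071 IH) (Lpr_gt (K12.f218303 IH) (Lpe (f224509 IH) (Lpr_ct (f224501 IH) (Lpr_gt (f224489 IH) (Lpe (f224507 IH) (Lpr_bt (f224508 IH) (Lpn (LP (LK LD1_c5 LD2_c31 LD3_c36)))))))))))))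
theorem f224527 : Led Lsl_bt (LP (LK LD1_c16 LD2_c41 LD3_c19)) = (LP (LK LD1_c8 LD2_c55 LD3_c8)) :=
  Lre_b IH (LK LD1_c16 LD2_c41 LD3_c19) (LK LD1_c8 LD2_c55 LD3_c8) Lrfl Lrfl
theorem f380737 : Led Lsl_bt (LP (LK LD1_c2 LD2_c42 LD3_c40)) = (LP (LK LD1_c5 LD2_c32 LD3_c55)) :=
  Lre_b IH (LK LD1_c2 LD2_c42 LD3_c40) (LK LD1_c5 LD2_c32 LD3_c55) Lrfl Lrfl
theorem f218151 : Led Lsl_ct (LP (LK LD1_c2 LD2_c42 LD3_c40)) = (LP (LK LD1_c5 LD2_c32 LD3_c56)) :=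
  Lre_c IH (LK LD1_c2 LD2_c42 LD3_c40) (LK LD1_c5 LD2_c32 LD3_c56) Lrfl Lrfl
theorem f380727 : Led Lsl_gt (LP (LK LD1_c10 LD2_c57 LD3_c36)) = (LP (LK LD1_c5 LD2_c32 LD3_c56)) :=
  Lre_g IH (LK LD1_c10 LD2_c57 LD3_c36) (LK LD1_c5 LD2_c32 LD3_c56) Lrfl Lrfl
theorem f380797 : Led Lsl_ct (LP (LK LD1_c16 LD2_c41 LD3_c19)) = (LP (LK LD1_c10 LD2_c57 LD3_c36)) :=
  Lgr Lrot64 (Lpr_bt (f224527 IH) (Lpr_gf (f224512 IH) (Lpe (f224508 IH) (Lpr_ct (f224507 IH) (Lpe (f224489 IH) (Lpe (f224501 IH) (Lpr_gf (f380789 IH) (Lpe (f380737 IH) (Lpr_ct (f218151 IH) (Lpe (f380727 IH) (Lpn (LP (LK LD1_c10 LD2_c57 LD3_c36)))))))))))))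
theorem f225201 : Led Lsl_bt (LP (LK LD1_c5 LD2_c31 LD3_c28)) = (LP (LK LD1_c10 LD2_c54 LD3_c32)) :=
  Lre_b IH (LK LD1_c5 LD2_c31 LD3_c28) (LK LD1_c10 LD2_c54 LD3_c32) Lrfl Lrfl
theorem f290379 : Led Lsl_at (LP (LK LD1_c8 LD2_c55 LD3_c6)) = (LP (LK LD1_c4 LD2_c28 LD3_c30)) :=
  Lre_a IH (LK LD1_c8 LD2_c55 LD3_c6) (LK LD1_c4 LD2_c28 LD3_c30) Lrfl Lrfl
theorem f223494 : Led Lsl_ct (LP (LK LD1_c4 LD2_c28 LD3_c30)) = (LP (LK LD1_c8 LD2_c55 LD3_c8)) :=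
  Lre_c IH (LK LD1_c4 LD2_c28 LD3_c30) (LK LD1_c8 LD2_c55 LD3_c8) Lrfl Lrfl
theorem f290380 : Led Lsl_at (LP (LK LD1_c8 LD2_c55 LD3_c8)) = (LP (LK LD1_c7 LD2_c58 LD3_c54)) :=
  Lgr Lrot107 (Lpe (f223494 IH) (Lpe (f290379 IH) (Lpr_cf (K17.f290362 IH) (Lpn (LP (LK LD1_c7 LD2_c58 LD3_c54))))))
theorem f318474 : Led Lsl_at (LP (LK LD1_c10 LD2_c54 LD3_c32)) = (LP (LK LD1_c16 LD2_c41 LD3_c19)) :=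
  Lgr Lrot67 (Lpe (f225201 IH) (Lpr_af (K20.f318464 IH) (Lpe (K17.f173638 IH) (Lpe (f290380 IH) (Lpe (f224527 IH) (Lpn (LP (LK LD1_c16 LD2_c41 LD3_c19))))))))
theorem f173665 : Led Lsl_bt (LP (LK LD1_c10 LD2_c54 LD3_c32)) = (LP (LK LD1_c5 LD2_c31 LD3_c28)) :=
  Lre_b IH (LK LD1_c10 LD2_c54 LD3_c32) (LK LD1_c5 LD2_c31 LD3_c28) Lrfl Lrfl
theorem f225197 : Led Lsl_ct (LP (LK LD1_c4 LD2_c30 LD3_c12)) = (LP (LK LD1_c8 LD2_c58 LD3_c36)) :=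
  Lre_c IH (LK LD1_c4 LD2_c30 LD3_c12) (LK LD1_c8 LD2_c58 LD3_c36) Lrfl Lrfl
theorem f225198 : Led Lsl_gt (LP (LK LD1_c8 LD2_c58 LD3_c36)) = (LP (LK LD1_c16 LD2_c47 LD3_c38)) :=
  Lre_g IH (LK LD1_c8 LD2_c58 LD3_c36) (LK LD1_c16 LD2_c47 LD3_c38) Lrfl Lrfl
theorem f225199 : Led Lsl_ct (LP (LK LD1_c10 LD2_c54 LD3_c32)) = (LP (LK LD1_c16 LD2_c47 LD3_c38)) :=
  Lgr Lrot63 (Lpr_bt (f173665 IH) (Lpr_gt (K20.f173658 IH) (Lpe (K9.f173061 IH) (Lpe (K12.f173065 IH) (Lpr_gt (K9.f41074 IH) (Lpr_cf (K12.f225172 IH) (Lpr_bt (K24.f225191 IH) (Lpr_gt (K24.f225193 IH) (Lpr_ct (f225197 IH) (Lpr_gt (f225198 IH) (Lpn (LP (LK LD1_c16 LD2_c47 LD3_c38)))))))))))))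
theorem f225202 : Led Lsl_cf (LP (LK LD1_c10 LD2_c54 LD3_c32)) = (LP (LK LD1_c16 LD2_c47 LD3_c38)) :=
  Lgr Lrot11 (Lpr_ct (f225199 IH) (Lpn (LP (LK LD1_c16 LD2_c47 LD3_c38))))
theorem f380804 : Led Lsl_af (LP (LK LD1_c16 LD2_c47 LD3_c38)) = (LP (LK LD1_c10 LD2_c57 LD3_c36)) :=
  Lgr Lrot68 (Lpe (f225202 IH) (Lpr_at (f318474 IH) (Lpr_ct (f380797 IH) (Lpn (LP (LK LD1_c10 LD2_c57 LD3_c36))))))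
theorem f225234 : Led Lsl_gt (LP (LK LD1_c16 LD2_c47 LD3_c39)) = (LP (LK LD1_c8 LD2_c58 LD3_c36)) :=
  Lre_g IH (LK LD1_c16 LD2_c47 LD3_c39) (LK LD1_c8 LD2_c58 LD3_c36) Lrfl Lrfl
theorem f380825 : Led Lsl_ft (LP (LK LD1_c16 LD2_c47 LD3_c39)) = (LP (LK LD1_c10 LD2_c57 LD3_c36)) :=
  Lgr Lrot2 (Lpr_gt (f225234 IH) (Lpr_gt (f225198 IH) (Lpr_af (f380804 IH) (Lpn (LP (LK LD1_c10 LD2_c57 LD3_c36))))))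
theorem f380831 : Led Lsl_ff (LP (LK LD1_c16 LD2_c47 LD3_c39)) = (LP (LK LD1_c10 LD2_c57 LD3_c36)) :=
  Lgr Lrot3 (Lpr_ft (f380825 IH) (Lpn (LP (LK LD1_c10 LD2_c57 LD3_c36))))
theorem f380724 : Led Lsl_gt (LP (LK LD1_c5 LD2_c32 LD3_c56)) = (LP (LK LD1_c10 LD2_c57 LD3_c35)) :=
  Lre_g IH (LK LD1_c5 LD2_c32 LD3_c56) (LK LD1_c10 LD2_c57 LD3_c35) Lrfl Lrfl
theorem f380837 : Led Lsl_at (LP (LK LD1_c16 LD2_c47 LD3_c39)) = (LP (LK LD1_c10 LD2_c57 LD3_c35)) :=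
  Lgr Lrot26 (Lpr_ff (f380831 IH) (Lpr_gt (f380727 IH) (Lpr_gt (f380724 IH) (Lpn (LP (LK LD1_c10 LD2_c57 LD3_c35))))))
theorem f380808 : Led Lsl_cf (LP (LK LD1_c16 LD2_c41 LD3_c19)) = (LP (LK LD1_c10 LD2_c57 LD3_c36)) :=
  Lgr Lrot11 (Lpr_ct (f380797 IH) (Lpn (LP (LK LD1_c10 LD2_c57 LD3_c36))))
theorem f174061 : Led Lsl_bt (LP (LK LD1_c8 LD2_c55 LD3_c12)) = (LP (LK LD1_c4 LD2_c28 LD3_c31)) :=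
  Lre_b IH (LK LD1_c8 LD2_c55 LD3_c12) (LK LD1_c4 LD2_c28 LD3_c31) Lrfl Lrfl
theorem f174062 : Led Lsl_ct (LP (LK LD1_c16 LD2_c41 LD3_c30)) = (LP (LK LD1_c8 LD2_c55 LD3_c12)) :=
  Lre_c IH (LK LD1_c16 LD2_c41 LD3_c30) (LK LD1_c8 LD2_c55 LD3_c12) Lrfl Lrfl
theorem f174063 : Led Lsl_bf (LP (LK LD1_c16 LD2_c41 LD3_c30)) = (LP (LK LD1_c10 LD2_c54 LD3_c30)) :=
  Lgr Lrot90 (Lpr_ct (f174062 IH) (Lpr_bt (f174061 IH) (Lpr_ct (K17.f174060 IH) (Lpr_bt (K9.f174055 IH) (Lpr_ct (K20.f173662 IH) (Lpn (LP (LK LD1_c10 LD2_c54 LD3_c30))))))))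
theorem f290384 : Led Lsl_bt (LP (LK LD1_c15 LD2_c3 LD3_c29)) = (LP (LK LD1_c7 LD2_c58 LD3_c55)) :=
  Lre_b IH (LK LD1_c15 LD2_c3 LD3_c29) (LK LD1_c7 LD2_c58 LD3_c55) Lrfl Lrfl
theorem f318486 : Led Lsl_ft (LP (LK LD1_c16 LD2_c41 LD3_c30)) = (LP (LK LD1_c15 LD2_c3 LD3_c29)) :=
  Lgr Lrot75 (Lpr_bf (f174063 IH) (Lpr_ff (K20.f318483 IH) (Lpe (f290384 IH) (Lpn (LP (LK LD1_c15 LD2_c3 LD3_c29))))))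
theorem f174432 : Led Lsl_ct (LP (LK LD1_c8 LD2_c55 LD3_c12)) = (LP (LK LD1_c16 LD2_c41 LD3_c30)) :=
  Lre_c IH (LK LD1_c8 LD2_c55 LD3_c12) (LK LD1_c16 LD2_c41 LD3_c30) Lrfl Lrfl
theorem f318600 : Led Lsl_ft (LP (LK LD1_c16 LD2_c41 LD3_c10)) = (LP (LK LD1_c8 LD2_c55 LD3_c12)) :=
  Lre_f IH (LK LD1_c16 LD2_c41 LD3_c10) (LK LD1_c8 LD2_c55 LD3_c12) Lrfl Lrfl
theorem f318601 : Led Lsl_cf (LP (LK LD1_c16 LD2_c41 LD3_c10)) = (LP (LK LD1_c15 LD2_c3 LD3_c29)) :=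
  Lgr Lrot108 (Lpr_ft (f318600 IH) (Lpr_ct (f174432 IH) (Lpr_ft (f318486 IH) (Lpn (LP (LK LD1_c15 LD2_c3 LD3_c29))))))
theorem f318604 : Led Lsl_et (LP (LK LD1_c16 LD2_c41 LD3_c10)) = (LP (LK LD1_c26 LD2_c39 LD3_c55)) :=
  Lre_e IH (LK LD1_c16 LD2_c41 LD3_c10) (LK LD1_c26 LD2_c39 LD3_c55) Lrfl Lrfl
theorem f318520 : Led Lsl_et (LP (LK LD1_c24 LD2_c52 LD3_c40)) = (LP (LK LD1_c15 LD2_c3 LD3_c29)) :=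
  Lre_e IH (LK LD1_c24 LD2_c52 LD3_c40) (LK LD1_c15 LD2_c3 LD3_c29) Lrfl Lrfl
theorem f318605 : Led Lsl_ct (LP (LK LD1_c26 LD2_c39 LD3_c55)) = (LP (LK LD1_c24 LD2_c52 LD3_c40)) :=
  Lgr Lrot15 (Lpe (f318604 IH) (Lpr_cf (f318601 IH) (Lpe (f318520 IH) (Lpn (LP (LK LD1_c24 LD2_c52 LD3_c40))))))
theorem f318607 : Led Lsl_bt (LP (LK LD1_c16 LD2_c41 LD3_c12)) = (LP (LK LD1_c26 LD2_c39 LD3_c55)) :=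
  Lre_b IH (LK LD1_c16 LD2_c41 LD3_c12) (LK LD1_c26 LD2_c39 LD3_c55) Lrfl Lrfl
theorem f318608 : Led Lsl_bt (LP (LK LD1_c24 LD2_c52 LD3_c40)) = (LP (LK LD1_c15 LD2_c3 LD3_c31)) :=
  Lre_b IH (LK LD1_c24 LD2_c52 LD3_c40) (LK LD1_c15 LD2_c3 LD3_c31) Lrfl Lrfl
theorem f318609 : Led Lsl_ct (LP (LK LD1_c15 LD2_c3 LD3_c31)) = (LP (LK LD1_c7 LD2_c58 LD3_c57)) :=
  Lre_c IH (LK LD1_c15 LD2_c3 LD3_c31) (LK LD1_c7 LD2_c58 LD3_c57) Lrfl Lrfl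
theorem f318610 : Led Lsl_bt (LP (LK LD1_c7 LD2_c58 LD3_c57)) = (LP (LK LD1_c15 LD2_c3 LD3_c28)) :=
  Lre_b IH (LK LD1_c7 LD2_c58 LD3_c57) (LK LD1_c15 LD2_c3 LD3_c28) Lrfl Lrfl
theorem f318611 : Led Lsl_cf (LP (LK LD1_c16 LD2_c41 LD3_c12)) = (LP (LK LD1_c15 LD2_c3 LD3_c28)) :=
  Lgr Lrot97 (Lpr_bt (f318607 IH) (Lpr_ct (f318605 IH) (Lpr_bt (f318608 IH) (Lpr_ct (f318609 IH) (Lpr_bt (f318610 IH) (Lpn (LP (LK LD1_c15 LD2_c3 LD3_c28))))))))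
theorem f318620 : Led Lsl_at (LP (LK LD1_c16 LD2_c41 LD3_c12)) = (LP (LK LD1_c8 LD2_c55 LD3_c10)) :=
  Lre_a IH (LK LD1_c16 LD2_c41 LD3_c12) (LK LD1_c8 LD2_c55 LD3_c10) Lrfl Lrfl
theorem f318621 : Led Lsl_ct (LP (LK LD1_c8 LD2_c55 LD3_c10)) = (LP (LK LD1_c16 LD2_c41 LD3_c21)) :=
  Lre_c IH (LK LD1_c8 LD2_c55 LD3_c10) (LK LD1_c16 LD2_c41 LD3_c21) Lrfl Lrfl
theorem f318622 : Led Lsl_at (LP (LK LD1_c16 LD2_c41 LD3_c21)) = (LP (LK LD1_c15 LD2_c3 LD3_c28)) :=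
  Lgr Lrot107 (Lpe (f318621 IH) (Lpe (f318620 IH) (Lpr_cf (f318611 IH) (Lpn (LP (LK LD1_c15 LD2_c3 LD3_c28))))))
theorem f318627 : Led Lsl_af (LP (LK LD1_c16 LD2_c41 LD3_c21)) = (LP (LK LD1_c15 LD2_c3 LD3_c28)) :=
  Lgr Lrot0 (Lpr_at (f318622 IH) (Lpn (LP (LK LD1_c15 LD2_c3 LD3_c28))))
theorem f318640 : Led Lsl_bt (LP (LK LD1_c16 LD2_c41 LD3_c21)) = (LP (LK LD1_c26 LD2_c39 LD3_c59)) :=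
  Lre_b IH (LK LD1_c16 LD2_c41 LD3_c21) (LK LD1_c26 LD2_c39 LD3_c59) Lrfl Lrfl
theorem f318478 : Led Lsl_et (LP (LK LD1_c5 LD2_c31 LD3_c28)) = (LP (LK LD1_c10 LD2_c54 LD3_c35)) :=
  Lre_e IH (LK LD1_c5 LD2_c31 LD3_c28) (LK LD1_c10 LD2_c54 LD3_c35) Lrfl Lrfl
theorem f54802 : Led Lsl_et (LP (LK LD1_c7 LD2_c58 LD3_c57)) = (LP (LK LD1_c3 LD2_c58 LD3_c44)) :=
  Lre_e IH (LK LD1_c7 LD2_c58 LD3_c57) (LK LD1_c3 LD2_c58 LD3_c44) Lrfl Lrfl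
theorem f318479 : Led Lsl_at (LP (LK LD1_c10 LD2_c54 LD3_c35)) = (LP (LK LD1_c7 LD2_c58 LD3_c57)) :=
  Lgr Lrot80 (Lpe (f318478 IH) (Lpr_af (K20.f318464 IH) (Lpe (f54802 IH) (Lpn (LP (LK LD1_c7 LD2_c58 LD3_c57))))))
theorem f318641 : Led Lsl_bt (LP (LK LD1_c19 LD2_c42 LD3_c34)) = (LP (LK LD1_c10 LD2_c54 LD3_c35)) :=
  Lre_b IH (LK LD1_c19 LD2_c42 LD3_c34) (LK LD1_c10 LD2_c54 LD3_c35) Lrfl Lrfl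
theorem f318642 : Led Lsl_at (LP (LK LD1_c26 LD2_c39 LD3_c59)) = (LP (LK LD1_c19 LD2_c42 LD3_c34)) :=
  Lgr Lrot67 (Lpe (f318640 IH) (Lpr_af (f318627 IH) (Lpe (f318610 IH) (Lpe (f318479 IH) (Lpe (f318641 IH) (Lpn (LP (LK LD1_c19 LD2_c42 LD3_c34))))))))
theorem f318646 : Led Lsl_af (LP (LK LD1_c26 LD2_c39 LD3_c59)) = (LP (LK LD1_c19 LD2_c42 LD3_c34)) :=
  Lgr Lrot0 (Lpr_at (f318642 IH) (Lpn (LP (LK LD1_c19 LD2_c42 LD3_c34))))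
theorem f290485 : Led Lsl_et (LP (LK LD1_c26 LD2_c39 LD3_c59)) = (LP (LK LD1_c16 LD2_c41 LD3_c19)) :=
  Lre_e IH (LK LD1_c26 LD2_c39 LD3_c59) (LK LD1_c16 LD2_c41 LD3_c19) Lrfl Lrfl
theorem f225208 : Led Lsl_et (LP (LK LD1_c10 LD2_c54 LD3_c32)) = (LP (LK LD1_c19 LD2_c42 LD3_c34)) :=
  Lre_e IH (LK LD1_c10 LD2_c54 LD3_c32) (LK LD1_c19 LD2_c42 LD3_c34) Lrfl Lrfl
theorem f318651 : Led Lsl_at (LP (LK LD1_c16 LD2_c41 LD3_c19)) = (LP (LK LD1_c10 LD2_c54 LD3_c32)) :=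
  Lgr Lrot80 (Lpe (f290485 IH) (Lpr_af (f318646 IH) (Lpe (f225208 IH) (Lpn (LP (LK LD1_c10 LD2_c54 LD3_c32))))))
theorem f380820 : Led Lsl_at (LP (LK LD1_c16 LD2_c47 LD3_c38)) = (LP (LK LD1_c10 LD2_c57 LD3_c36)) :=
  Lgr Lrot107 (Lpe (f225199 IH) (Lpe (f318651 IH) (Lpr_cf (f380808 IH) (Lpn (LP (LK LD1_c10 LD2_c57 LD3_c36))))))
theorem f380843 : Led Lsl_ff (LP (LK LD1_c16 LD2_c47 LD3_c38)) = (LP (LK LD1_c10 LD2_c57 LD3_c35)) :=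
  Lgr Lrot30 (Lpr_at (f380820 IH) (Lpe (f380831 IH) (Lpr_at (f380837 IH) (Lpn (LP (LK LD1_c10 LD2_c57 LD3_c35))))))
theorem f380846 : Led Lsl_ft (LP (LK LD1_c16 LD2_c47 LD3_c38)) = (LP (LK LD1_c10 LD2_c57 LD3_c35)) :=
  Lgr Lrot48 (Lpr_ff (f380843 IH) (Lpn (LP (LK LD1_c10 LD2_c57 LD3_c35))))
theorem f238398 : Led Lsl_bt (LP (LK LD1_c3 LD2_c58 LD3_c45)) = (LP (LK LD1_c7 LD2_c58 LD3_c58)) :=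
  Lre_b IH (LK LD1_c3 LD2_c58 LD3_c45) (LK LD1_c7 LD2_c58 LD3_c58) Lrfl Lrfl
theorem f318435 : Led Lsl_ft (LP (LK LD1_c7 LD2_c58 LD3_c58)) = (LP (LK LD1_c10 LD2_c54 LD3_c32)) :=
  Lgr Lrot75 (Lpe (f238398 IH) (Lpr_ff (K20.f318433 IH) (Lpe (f173665 IH) (Lpn (LP (LK LD1_c10 LD2_c54 LD3_c32))))))
theorem f380848 : Led Lsl_cf (LP (LK LD1_c7 LD2_c58 LD3_c58)) = (LP (LK LD1_c10 LD2_c57 LD3_c35)) :=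
  Lgr Lrot108 (Lpr_ft (f318435 IH) (Lpr_ct (f225199 IH) (Lpr_ft (f380846 IH) (Lpn (LP (LK LD1_c10 LD2_c57 LD3_c35))))))
theorem f318672 : Led Lsl_dt (LP (LK LD1_c7 LD2_c58 LD3_c58)) = (LP (LK LD1_c15 LD2_c3 LD3_c35)) :=
  Lre_d IH (LK LD1_c7 LD2_c58 LD3_c58) (LK LD1_c15 LD2_c3 LD3_c35) Lrfl Lrfl
theorem f174217 : Led Lsl_gt (LP (LK LD1_c2 LD2_c42 LD3_c44)) = (LP (LK LD1_c5 LD2_c33 LD3_c6)) :=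
  Lre_g IH (LK LD1_c2 LD2_c42 LD3_c44) (LK LD1_c5 LD2_c33 LD3_c6) Lrfl Lrfl
theorem f380860 : Led Lsl_ct (LP (LK LD1_c5 LD2_c33 LD3_c6)) = (LP (LK LD1_c10 LD2_c58 LD3_c8)) :=
  Lre_c IH (LK LD1_c5 LD2_c33 LD3_c6) (LK LD1_c10 LD2_c58 LD3_c8) Lrfl Lrfl
theorem f380861 : Led Lsl_gt (LP (LK LD1_c10 LD2_c58 LD3_c8)) = (LP (LK LD1_c19 LD2_c48 LD3_c37)) :=
  Lre_g IH (LK LD1_c10 LD2_c58 LD3_c8) (LK LD1_c19 LD2_c48 LD3_c37) Lrfl Lrfl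
theorem f380862 : Led Lsl_cf (LP (LK LD1_c15 LD2_c3 LD3_c35)) = (LP (LK LD1_c19 LD2_c48 LD3_c37)) :=
  Lgr Lrot99 (Lpe (f318672 IH) (Lpr_cf (f380848 IH) (Lpe (f380724 IH) (Lpe (f218151 IH) (Lpe (K24.f213564 IH) (Lpe (K24.f174182 IH) (Lpr_gt (f174217 IH) (Lpr_ct (f380860 IH) (Lpr_gt (f380861 IH) (Lpn (LP (LK LD1_c19 LD2_c48 LD3_c37))))))))))))
theorem f380865 : Led Lsl_ct (LP (LK LD1_c15 LD2_c3 LD3_c35)) = (LP (LK LD1_c19 LD2_c48 LD3_c37)) :=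
  Lgr Lrot59 (Lpr_cf (f380862 IH) (Lpn (LP (LK LD1_c19 LD2_c48 LD3_c37))))
theorem f380864 : Led Lsl_bt (LP (LK LD1_c15 LD2_c3 LD3_c35)) = (LP (LK LD1_c7 LD2_c58 LD3_c60)) :=
  Lre_b IH (LK LD1_c15 LD2_c3 LD3_c35) (LK LD1_c7 LD2_c58 LD3_c60) Lrfl Lrfl
theorem f225429 : Led Lsl_bt (LP (LK LD1_c1 LD2_c17 LD3_c55)) = (LP (LK LD1_c2 LD2_c42 LD3_c44)) :=
  Lre_b IH (LK LD1_c1 LD2_c17 LD3_c55) (LK LD1_c2 LD2_c42 LD3_c44) Lrfl Lrfl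
theorem f171771 : Led Lsl_dt (LP (LK LD1_c0 LD2_c36 LD3_c53)) = (LP (LK LD1_c0 LD2_c16 LD3_c27)) :=
  Lre_d IH (LK LD1_c0 LD2_c36 LD3_c53) (LK LD1_c0 LD2_c16 LD3_c27) Lrfl Lrfl
theorem f226750 : Led Lsl_gt (LP (LK LD1_c1 LD2_c19 LD3_c29)) = (LP (LK LD1_c0 LD2_c36 LD3_c53)) :=
  Lgr Lrot180 (Lpr_ct (K12.f226736 IH) (Lpr_gt (K12.f165010 IH) (Lpr_dt (K12.f165009 IH) (Lpe (K9.f173161 IH) (Lpe (K1.f41025 IH) (Lpr_ct (K1.f40982 IH) (Lpe (K9.f35536 IH) (Lpe (K9.f171757 IH) (Lpe (f171771 IH) (Lpn (LP (LK LD1_c0 LD2_c36 LD3_c53))))))))))))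
theorem f226745 : Led Lsl_cf (LP (LK LD1_c1 LD2_c19 LD3_c29)) = (LP (LK LD1_c2 LD2_c40 LD3_c42)) :=
  Lgr Lrot11 (Lpr_ct (K12.f226736 IH) (Lpn (LP (LK LD1_c2 LD2_c40 LD3_c42))))
theorem f380869 : Led Lsl_gt (LP (LK LD1_c7 LD2_c58 LD3_c60)) = (LP (LK LD1_c5 LD2_c28 LD3_c51)) :=
  Lgr Lrot164 (Lpe (f380864 IH) (Lpr_ct (f380865 IH) (Lpe (f380861 IH) (Lpe (f380860 IH) (Lpe (f174217 IH) (Lpe (f225429 IH) (Lpe (K12.f172328 IH) (Lpe (f226750 IH) (Lpr_cf (f226745 IH) (Lpr_bt (K20.f226742 IH) (Lpn (LP (LK LD1_c5 LD2_c28 LD3_c51)))))))))))))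
theorem f380873 : Led Lsl_gf (LP (LK LD1_c7 LD2_c58 LD3_c56)) = (LP (LK LD1_c5 LD2_c28 LD3_c51)) :=
  Lgr Lrot76 (Lpe (K20.f318455 IH) (Lpe (K20.f318437 IH) (Lpr_gt (f380869 IH) (Lpn (LP (LK LD1_c5 LD2_c28 LD3_c51))))))
theorem f174142 : Led Lsl_bt (LP (LK LD1_c5 LD2_c33 LD3_c14)) = (LP (LK LD1_c2 LD2_c42 LD3_c46)) :=
  Lre_b IH (LK LD1_c5 LD2_c33 LD3_c14) (LK LD1_c2 LD2_c42 LD3_c46) Lrfl Lrfl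
theorem f174192 : Led Lsl_ct (LP (LK LD1_c5 LD2_c33 LD3_c14)) = (LP (LK LD1_c10 LD2_c58 LD3_c28)) :=
  Lre_c IH (LK LD1_c5 LD2_c33 LD3_c14) (LK LD1_c10 LD2_c58 LD3_c28) Lrfl Lrfl
theorem f381111 : Led Lsl_gt (LP (LK LD1_c15 LD2_c27 LD3_c19)) = (LP (LK LD1_c10 LD2_c58 LD3_c28)) :=
  Lgr Lrot65 (Lpr_cf (K17.f290335 IH) (Lpr_bt (K20.f200576 IH) (Lpr_gf (f380873 IH) (Lpe (K20.f226742 IH) (Lpe (f226745 IH) (Lpe (K12.f172293 IH) (Lpe (K9.f172296 IH) (Lpe (K9.f174155 IH) (Lpe (f174142 IH) (Lpr_ct (f174192 IH) (Lpn (LP (LK LD1_c10 LD2_c58 LD3_c28)))))))))))))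
theorem f53787 : Led Lsl_bt (LP (LK LD1_c8 LD2_c12 LD3_c60)) = (LP (LK LD1_c15 LD2_c27 LD3_c19)) :=
  Lre_b IH (LK LD1_c8 LD2_c12 LD3_c60) (LK LD1_c15 LD2_c27 LD3_c19) Lrfl Lrfl
theorem f188862 : Led Lsl_ft (LP (LK LD1_c8 LD2_c35 LD3_c57)) = (LP (LK LD1_c8 LD2_c12 LD3_c60)) :=
  Lgr Lrot54 (Lpe (K12.f188828 IH) (Lpr_ff (K12.f188857 IH) (Lpe (K12.f53776 IH) (Lpn (LP (LK LD1_c8 LD2_c12 LD3_c60))))))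
theorem f290289 : Led Lsl_ct (LP (LK LD1_c8 LD2_c12 LD3_c60)) = (LP (LK LD1_c8 LD2_c21 LD3_c29)) :=
  Lgr Lrot40 (Lpe (f188862 IH) (Lpr_cf (K17.f287748 IH) (Lpr_ff (K17.f290283 IH) (Lpn (LP (LK LD1_c8 LD2_c21 LD3_c29))))))
theorem f251979 : Led Lsl_gt (LP (LK LD1_c8 LD2_c25 LD3_c35)) = (LP (LK LD1_c8 LD2_c21 LD3_c29)) :=
  Lgr Lrot5 (Lpr_ft (K14.f251970 IH) (Lpr_at (K14.f251969 IH) (Lpe (K17.f167217 IH) (Lpn (LP (LK LD1_c8 LD2_c21 LD3_c29))))))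
theorem f171857 : Led Lsl_bt (LP (LK LD1_c0 LD2_c7 LD3_c23)) = (LP (LK LD1_c0 LD2_c16 LD3_c32)) :=
  Lre_b IH (LK LD1_c0 LD2_c7 LD3_c23) (LK LD1_c0 LD2_c16 LD3_c32) Lrfl Lrfl
theorem f76147 : Led Lsl_gt (LP (LK LD1_c0 LD2_c16 LD3_c32)) = (LP (LK LD1_c0 LD2_c37 LD3_c3)) :=
  Lre_g IH (LK LD1_c0 LD2_c16 LD3_c32) (LK LD1_c0 LD2_c37 LD3_c3) Lrfl Lrfl
theorem f76148 : Led Lsl_dt (LP (LK LD1_c0 LD2_c37 LD3_c3)) = (LP (LK LD1_c1 LD2_c20 LD3_c10)) :=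
  Lre_d IH (LK LD1_c0 LD2_c37 LD3_c3) (LK LD1_c1 LD2_c20 LD3_c10) Lrfl Lrfl
theorem f313381 : Led Lsl_ct (LP (LK LD1_c1 LD2_c20 LD3_c10)) = (LP (LK LD1_c2 LD2_c47 LD3_c46)) :=
  Lre_c IH (LK LD1_c1 LD2_c20 LD3_c10) (LK LD1_c2 LD2_c47 LD3_c46) Lrfl Lrfl
theorem f313382 : Led Lsl_bt (LP (LK LD1_c2 LD2_c47 LD3_c46)) = (LP (LK LD1_c5 LD2_c43 LD3_c30)) :=
  Lre_b IH (LK LD1_c2 LD2_c47 LD3_c46) (LK LD1_c5 LD2_c43 LD3_c30) Lrfl Lrfl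
theorem f313383 : Led Lsl_gt (LP (LK LD1_c5 LD2_c43 LD3_c30)) = (LP (LK LD1_c4 LD2_c13 LD3_c9)) :=
  Lgr Lrot190 (Lpe (f313382 IH) (Lpe (f313381 IH) (Lpe (f76148 IH) (Lpe (f76147 IH) (Lpe (f171857 IH) (Lpe (K9.f165207 IH) (Lpe (K0.f9502 IH) (Lpe (K9.f8336 IH) (Lpe (K10.f167854 IH) (Lpr_cf (K22.f197404 IH) (Lpe (K11.f2914 IH) (Lpr_gf (K19.f313379 IH) (Lpe (K19.f237388 IH) (Lpe (K19.f313365 IH) (Lpr_df (K25.f313377 IH) (Lpr_gf (K15.f178307 IH) (Lpe (K15.f178311 IH) (Lpe (K19.f178312 IH) (Lpe (K19.f178313 IH) (Lpn (LP (LK LD1_c4 LD2_c13 LD3_c9))))))))))))))))))))))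
theorem f381115 : Led Lsl_ct (LP (LK LD1_c2 LD2_c47 LD3_c46)) = (LP (LK LD1_c1 LD2_c20 LD3_c10)) :=
  Lre_c IH (LK LD1_c2 LD2_c47 LD3_c46) (LK LD1_c1 LD2_c20 LD3_c10) Lrfl Lrfl
theorem f174143 : Led Lsl_ct (LP (LK LD1_c10 LD2_c58 LD3_c28)) = (LP (LK LD1_c5 LD2_c33 LD3_c14)) :=
  Lre_c IH (LK LD1_c10 LD2_c58 LD3_c28) (LK LD1_c5 LD2_c33 LD3_c14) Lrfl Lrfl
theorem f174144 : Led Lsl_bt (LP (LK LD1_c1 LD2_c19 LD3_c55)) = (LP (LK LD1_c2 LD2_c47 LD3_c2)) :=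
  Lre_b IH (LK LD1_c1 LD2_c19 LD3_c55) (LK LD1_c2 LD2_c47 LD3_c2) Lrfl Lrfl
theorem f174137 : Led Lsl_ct (LP (LK LD1_c2 LD2_c47 LD3_c2)) = (LP (LK LD1_c5 LD2_c42 LD3_c8)) :=
  Lre_c IH (LK LD1_c2 LD2_c47 LD3_c2) (LK LD1_c5 LD2_c42 LD3_c8) Lrfl Lrfl
theorem f174145 : Led Lsl_bf (LP (LK LD1_c10 LD2_c58 LD3_c28)) = (LP (LK LD1_c5 LD2_c42 LD3_c8)) :=
  Lgr Lrot90 (Lpr_ct (f174143 IH) (Lpr_bt (f174142 IH) (Lpr_ct (K9.f174129 IH) (Lpr_bt (f174144 IH) (Lpr_ct (f174137 IH) (Lpn (LP (LK LD1_c5 LD2_c42 LD3_c8))))))))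
theorem f174272 : Led Lsl_ct (LP (LK LD1_c5 LD2_c42 LD3_c8)) = (LP (LK LD1_c2 LD2_c47 LD3_c2)) :=
  Lre_c IH (LK LD1_c5 LD2_c42 LD3_c8) (LK LD1_c2 LD2_c47 LD3_c2) Lrfl Lrfl
theorem f381116 : Led Lsl_gf (LP (LK LD1_c1 LD2_c20 LD3_c10)) = (LP (LK LD1_c2 LD2_c47 LD3_c2)) :=
  Lgr Lrot126 (Lpe (f381115 IH) (Lpr_bt (f313382 IH) (Lpr_gt (f313383 IH) (Lpr_ct (K14.f184352 IH) (Lpr_gt (f251979 IH) (Lpe (f290289 IH) (Lpr_bt (f53787 IH) (Lpr_gt (f381111 IH) (Lpr_bf (f174145 IH) (Lpr_ct (f174272 IH) (Lpn (LP (LK LD1_c2 LD2_c47 LD3_c2)))))))))))))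
theorem f76149 : Led Lsl_gt (LP (LK LD1_c1 LD2_c20 LD3_c10)) = (LP (LK LD1_c2 LD2_c47 LD3_c45)) :=
  Lre_g IH (LK LD1_c1 LD2_c20 LD3_c10) (LK LD1_c2 LD2_c47 LD3_c45) Lrfl Lrfl
theorem f381122 : Led Lsl_af (LP (LK LD1_c2 LD2_c47 LD3_c45)) = (LP (LK LD1_c2 LD2_c44 LD3_c38)) :=
  Lgr Lrot31 (Lpe (f76149 IH) (Lpr_gf (f381116 IH) (Lpe (K17.f289364 IH) (Lpn (LP (LK LD1_c2 LD2_c44 LD3_c38))))))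
theorem f211945 : Led Lsl_dt (LP (LK LD1_c1 LD2_c18 LD3_c39)) = (LP (LK LD1_c2 LD2_c44 LD3_c38)) :=
  Lre_d IH (LK LD1_c1 LD2_c18 LD3_c39) (LK LD1_c2 LD2_c44 LD3_c38) Lrfl Lrfl
theorem f211948 : Led Lsl_at (LP (LK LD1_c2 LD2_c44 LD3_c37)) = (LP (LK LD1_c1 LD2_c18 LD3_c39)) :=
  Lre_a IH (LK LD1_c2 LD2_c44 LD3_c37) (LK LD1_c1 LD2_c18 LD3_c39) Lrfl Lrfl
theorem f381147 : Led Lsl_dt (LP (LK LD1_c2 LD2_c47 LD3_c45)) = (LP (LK LD1_c2 LD2_c44 LD3_c37)) :=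
  Lgr Lrot44 (Lpr_af (f381122 IH) (Lpe (f211945 IH) (Lpe (f211948 IH) (Lpn (LP (LK LD1_c2 LD2_c44 LD3_c37))))))
theorem f168865 : Led Lsl_ct (LP (LK LD1_c0 LD2_c16 LD3_c32)) = (LP (LK LD1_c0 LD2_c32 LD3_c42)) :=
  Lre_c IH (LK LD1_c0 LD2_c16 LD3_c32) (LK LD1_c0 LD2_c32 LD3_c42) Lrfl Lrfl
theorem f76106 : Led Lsl_gt (LP (LK LD1_c0 LD2_c32 LD3_c42)) = (LP (LK LD1_c1 LD2_c10 LD3_c33)) :=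
  Lre_g IH (LK LD1_c0 LD2_c32 LD3_c42) (LK LD1_c1 LD2_c10 LD3_c33) Lrfl Lrfl
theorem f76114 : Led Lsl_dt (LP (LK LD1_c1 LD2_c10 LD3_c33)) = (LP (LK LD1_c2 LD2_c26 LD3_c31)) :=
  Lre_d IH (LK LD1_c1 LD2_c10 LD3_c33) (LK LD1_c2 LD2_c26 LD3_c31) Lrfl Lrfl
theorem f76115 : Led Lsl_gt (LP (LK LD1_c2 LD2_c26 LD3_c31)) = (LP (LK LD1_c4 LD2_c57 LD3_c10)) :=
  Lre_g IH (LK LD1_c2 LD2_c26 LD3_c31) (LK LD1_c4 LD2_c57 LD3_c10) Lrfl Lrfl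
theorem f211958 : Led Lsl_at (LP (LK LD1_c2 LD2_c12 LD3_c30)) = (LP (LK LD1_c4 LD2_c31 LD3_c5)) :=
  Lre_a IH (LK LD1_c2 LD2_c12 LD3_c30) (LK LD1_c4 LD2_c31 LD3_c5) Lrfl Lrfl
theorem f211959 : Led Lsl_cf (LP (LK LD1_c2 LD2_c44 LD3_c37)) = (LP (LK LD1_c4 LD2_c31 LD3_c5)) :=
  Lgr Lrot1 (Lpr_at (f211948 IH) (Lpr_ct (K18.f211943 IH) (Lpr_at (f211958 IH) (Lpn (LP (LK LD1_c4 LD2_c31 LD3_c5))))))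
theorem f381361 : Led Lsl_dt (LP (LK LD1_c4 LD2_c57 LD3_c10)) = (LP (LK LD1_c4 LD2_c31 LD3_c5)) :=
  Lgr Lrot105 (Lpe (f76115 IH) (Lpe (f76114 IH) (Lpe (f76106 IH) (Lpe (f168865 IH) (Lpr_gt (f76147 IH) (Lpr_dt (f76148 IH) (Lpr_gt (f76149 IH) (Lpr_dt (f381147 IH) (Lpr_cf (f211959 IH) (Lpn (LP (LK LD1_c4 LD2_c31 LD3_c5))))))))))))
theorem f381154 : Led Lsl_ct (LP (LK LD1_c5 LD2_c43 LD3_c26)) = (LP (LK LD1_c2 LD2_c47 LD3_c45)) :=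
  Lre_c IH (LK LD1_c5 LD2_c43 LD3_c26) (LK LD1_c2 LD2_c47 LD3_c45) Lrfl Lrfl
theorem f381155 : Led Lsl_dt (LP (LK LD1_c11 LD2_c16 LD3_c56)) = (LP (LK LD1_c5 LD2_c43 LD3_c26)) :=
  Lre_d IH (LK LD1_c11 LD2_c16 LD3_c56) (LK LD1_c5 LD2_c43 LD3_c26) Lrfl Lrfl
theorem f178950 : Led Lsl_df (LP (LK LD1_c2 LD2_c12 LD3_c28)) = (LP (LK LD1_c2 LD2_c47 LD3_c2)) :=
  Lgr Lrot12 (Lpr_bt (K18.f169329 IH) (Lpr_dt (K9.f178883 IH) (Lpr_bt (f174144 IH) (Lpn (LP (LK LD1_c2 LD2_c47 LD3_c2))))))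
theorem f165140 : Led Lsl_dt (LP (LK LD1_c1 LD2_c18 LD3_c41)) = (LP (LK LD1_c2 LD2_c44 LD3_c43)) :=
  Lre_d IH (LK LD1_c1 LD2_c18 LD3_c41) (LK LD1_c2 LD2_c44 LD3_c43) Lrfl Lrfl
theorem f381156 : Led Lsl_cf (LP (LK LD1_c11 LD2_c16 LD3_c56)) = (LP (LK LD1_c11 LD2_c6 LD3_c39)) :=
  Lgr Lrot161 (Lpr_dt (f381155 IH) (Lpr_ct (f381154 IH) (Lpr_af (f381122 IH) (Lpr_ff (K17.f289364 IH) (Lpe (f178950 IH) (Lpe (K17.f211990 IH) (Lpr_dt (f165140 IH) (Lpr_ct (K20.f164994 IH) (Lpr_dt (K20.f258332 IH) (Lpn (LP (LK LD1_c11 LD2_c6 LD3_c39))))))))))))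
theorem f381161 : Led Lsl_ct (LP (LK LD1_c11 LD2_c16 LD3_c56)) = (LP (LK LD1_c11 LD2_c6 LD3_c39)) :=
  Lgr Lrot59 (Lpr_cf (f381156 IH) (Lpn (LP (LK LD1_c11 LD2_c6 LD3_c39))))
theorem f381166 : Led Lsl_dt (LP (LK LD1_c5 LD2_c43 LD3_c26)) = (LP (LK LD1_c11 LD2_c16 LD3_c56)) :=
  Lre_d IH (LK LD1_c5 LD2_c43 LD3_c26) (LK LD1_c11 LD2_c16 LD3_c56) Lrfl Lrfl
theorem f381144 : Led Lsl_ct (LP (LK LD1_c2 LD2_c47 LD3_c45)) = (LP (LK LD1_c5 LD2_c43 LD3_c26)) :=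
  Lre_c IH (LK LD1_c2 LD2_c47 LD3_c45) (LK LD1_c5 LD2_c43 LD3_c26) Lrfl Lrfl
theorem f289382 : Led Lsl_at (LP (LK LD1_c4 LD2_c31 LD3_c1)) = (LP (LK LD1_c2 LD2_c12 LD3_c28)) :=
  Lre_a IH (LK LD1_c4 LD2_c31 LD3_c1) (LK LD1_c2 LD2_c12 LD3_c28) Lrfl Lrfl
theorem f211939 : Led Lsl_at (LP (LK LD1_c1 LD2_c18 LD3_c39)) = (LP (LK LD1_c2 LD2_c44 LD3_c37)) :=
  Lre_a IH (LK LD1_c1 LD2_c18 LD3_c39) (LK LD1_c2 LD2_c44 LD3_c37) Lrfl Lrfl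
theorem f289383 : Led Lsl_ft (LP (LK LD1_c2 LD2_c44 LD3_c37)) = (LP (LK LD1_c4 LD2_c31 LD3_c1)) :=
  Lgr Lrot101 (Lpe (f211939 IH) (Lpr_ff (K18.f289378 IH) (Lpe (f289382 IH) (Lpn (LP (LK LD1_c4 LD2_c31 LD3_c1))))))
theorem f381197 : Led Lsl_df (LP (LK LD1_c2 LD2_c47 LD3_c45)) = (LP (LK LD1_c2 LD2_c44 LD3_c37)) :=
  Lgr Lrot157 (Lpr_ct (f381144 IH) (Lpr_dt (f381166 IH) (Lpr_ct (f381161 IH) (Lpr_dt (K20.f164992 IH) (Lpr_ct (K20.f164991 IH) (Lpr_dt (K20.f165124 IH) (Lpe (K18.f289399 IH) (Lpe (f289382 IH) (Lpe (f289383 IH) (Lpn (LP (LK LD1_c2 LD2_c44 LD3_c37))))))))))))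
theorem f289619 : Led Lsl_at (LP (LK LD1_c5 LD2_c37 LD3_c30)) = (LP (LK LD1_c2 LD2_c44 LD3_c43)) :=
  Lre_a IH (LK LD1_c5 LD2_c37 LD3_c30) (LK LD1_c2 LD2_c44 LD3_c43) Lrfl Lrfl
theorem f381371 : Led Lsl_ft (LP (LK LD1_c4 LD2_c57 LD3_c10)) = (LP (LK LD1_c5 LD2_c37 LD3_c30)) :=
  Lgr Lrot142 (Lpr_dt (f381361 IH) (Lpe (f211959 IH) (Lpe (f381197 IH) (Lpr_ct (f381144 IH) (Lpr_dt (f381166 IH) (Lpr_ct (f381161 IH) (Lpr_dt (K20.f164992 IH) (Lpr_ct (K20.f164991 IH) (Lpe (f289619 IH) (Lpn (LP (LK LD1_c5 LD2_c37 LD3_c30))))))))))))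
theorem f381365 : Led Lsl_ct (LP (LK LD1_c9 LD2_c45 LD3_c22)) = (LP (LK LD1_c4 LD2_c57 LD3_c10)) :=
  Lre_c IH (LK LD1_c9 LD2_c45 LD3_c22) (LK LD1_c4 LD2_c57 LD3_c10) Lrfl Lrfl
theorem f289404 : Led Lsl_ct (LP (LK LD1_c5 LD2_c37 LD3_c30)) = (LP (LK LD1_c11 LD2_c6 LD3_c37)) :=
  Lre_c IH (LK LD1_c5 LD2_c37 LD3_c30) (LK LD1_c11 LD2_c6 LD3_c37) Lrfl Lrfl
theorem f381381 : Led Lsl_ff (LP (LK LD1_c9 LD2_c45 LD3_c22)) = (LP (LK LD1_c11 LD2_c6 LD3_c37)) :=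
  Lgr Lrot23 (Lpr_ct (f381365 IH) (Lpr_ft (f381371 IH) (Lpr_ct (f289404 IH) (Lpn (LP (LK LD1_c11 LD2_c6 LD3_c37))))))
theorem f381451 : Led Lsl_ft (LP (LK LD1_c9 LD2_c45 LD3_c22)) = (LP (LK LD1_c11 LD2_c6 LD3_c37)) :=
  Lgr Lrot48 (Lpr_ff (f381381 IH) (Lpn (LP (LK LD1_c11 LD2_c6 LD3_c37))))
theorem f381460 : Led Lsl_gt (LP (LK LD1_c9 LD2_c45 LD3_c22)) = (LP (LK LD1_c5 LD2_c43 LD3_c45)) :=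
  Lre_g IH (LK LD1_c9 LD2_c45 LD3_c22) (LK LD1_c5 LD2_c43 LD3_c45) Lrfl Lrfl
theorem f289490 : Led Lsl_at (LP (LK LD1_c11 LD2_c6 LD3_c37)) = (LP (LK LD1_c5 LD2_c37 LD3_c31)) :=
  Lre_a IH (LK LD1_c11 LD2_c6 LD3_c37) (LK LD1_c5 LD2_c37 LD3_c31) Lrfl Lrfl
theorem f381461 : Led Lsl_gt (LP (LK LD1_c5 LD2_c43 LD3_c45)) = (LP (LK LD1_c5 LD2_c37 LD3_c31)) :=
  Lgr Lrot46 (Lpe (f381460 IH) (Lpr_ft (f381451 IH) (Lpr_at (f289490 IH) (Lpn (LP (LK LD1_c5 LD2_c37 LD3_c31))))))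
theorem f381374 : Led Lsl_gt (LP (LK LD1_c4 LD2_c57 LD3_c10)) = (LP (LK LD1_c2 LD2_c26 LD3_c35)) :=
  Lre_g IH (LK LD1_c4 LD2_c57 LD3_c10) (LK LD1_c2 LD2_c26 LD3_c35) Lrfl Lrfl
theorem f381384 : Led Lsl_gt (LP (LK LD1_c2 LD2_c26 LD3_c35)) = (LP (LK LD1_c2 LD2_c44 LD3_c43)) :=
  Lgr Lrot46 (Lpe (f381374 IH) (Lpr_ft (f381371 IH) (Lpr_at (f289619 IH) (Lpn (LP (LK LD1_c2 LD2_c44 LD3_c43))))))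
theorem f381386 : Led Lsl_ft (LP (LK LD1_c2 LD2_c26 LD3_c35)) = (LP (LK LD1_c4 LD2_c57 LD3_c3)) :=
  Lre_f IH (LK LD1_c2 LD2_c26 LD3_c35) (LK LD1_c4 LD2_c57 LD3_c3) Lrfl Lrfl
theorem f381387 : Led Lsl_at (LP (LK LD1_c4 LD2_c57 LD3_c3)) = (LP (LK LD1_c2 LD2_c26 LD3_c31)) :=
  Lre_a IH (LK LD1_c4 LD2_c57 LD3_c3) (LK LD1_c2 LD2_c26 LD3_c31) Lrfl Lrfl
theorem f381388 : Led Lsl_gf (LP (LK LD1_c2 LD2_c26 LD3_c31)) = (LP (LK LD1_c2 LD2_c44 LD3_c43)) :=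
  Lgr Lrot76 (Lpe (f381387 IH) (Lpe (f381386 IH) (Lpr_gt (f381384 IH) (Lpn (LP (LK LD1_c2 LD2_c44 LD3_c43))))))
theorem f216427 : Led Lsl_ct (LP (LK LD1_c2 LD2_c26 LD3_c31)) = (LP (LK LD1_c4 LD2_c57 LD3_c11)) :=
  Lre_c IH (LK LD1_c2 LD2_c26 LD3_c31) (LK LD1_c4 LD2_c57 LD3_c11) Lrfl Lrfl
theorem f318744 : Led Lsl_dt (LP (LK LD1_c4 LD2_c57 LD3_c11)) = (LP (LK LD1_c9 LD2_c45 LD3_c27)) :=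
  Lre_d IH (LK LD1_c4 LD2_c57 LD3_c11) (LK LD1_c9 LD2_c45 LD3_c27) Lrfl Lrfl
theorem f318743 : Led Lsl_ct (LP (LK LD1_c5 LD2_c44 LD3_c43)) = (LP (LK LD1_c9 LD2_c45 LD3_c27)) :=
  Lre_c IH (LK LD1_c5 LD2_c44 LD3_c43) (LK LD1_c9 LD2_c45 LD3_c27) Lrfl Lrfl
theorem f318731 : Led Lsl_gt (LP (LK LD1_c9 LD2_c46 LD3_c3)) = (LP (LK LD1_c5 LD2_c44 LD3_c43)) :=
  Lre_g IH (LK LD1_c9 LD2_c46 LD3_c3) (LK LD1_c5 LD2_c44 LD3_c43) Lrfl Lrfl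
theorem f318730 : Led Lsl_ct (LP (LK LD1_c4 LD2_c57 LD3_c36)) = (LP (LK LD1_c9 LD2_c46 LD3_c3)) :=
  Lre_c IH (LK LD1_c4 LD2_c57 LD3_c36) (LK LD1_c9 LD2_c46 LD3_c3) Lrfl Lrfl
theorem f170067 : Led Lsl_bt (LP (LK LD1_c4 LD2_c16 LD3_c42)) = (LP (LK LD1_c8 LD2_c32 LD3_c41)) :=
  Lre_b IH (LK LD1_c4 LD2_c16 LD3_c42) (LK LD1_c8 LD2_c32 LD3_c41) Lrfl Lrfl
theorem f313549 : Led Lsl_gt (LP (LK LD1_c0 LD2_c28 LD3_c45)) = (LP (LK LD1_c0 LD2_c36 LD3_c27)) :=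
  Lgr Lrot49 (Lpe (K13.f20755 IH) (Lpe (K10.f197360 IH) (Lpe (K0.f6890 IH) (Lpr_gt (K11.f2915 IH) (Lpr_dt (K13.f2916 IH) (Lpr_gt (K19.f237386 IH) (Lpr_dt (K19.f211254 IH) (Lpr_cf (K19.f197408 IH) (Lpr_df (K19.f313539 IH) (Lpn (LP (LK LD1_c0 LD2_c36 LD3_c27))))))))))))
theorem f168857 : Led Lsl_bt (LP (LK LD1_c1 LD2_c10 LD3_c36)) = (LP (LK LD1_c0 LD2_c32 LD3_c43)) :=
  Lre_b IH (LK LD1_c1 LD2_c10 LD3_c36) (LK LD1_c0 LD2_c32 LD3_c43) Lrfl Lrfl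
theorem f313553 : Led Lsl_ct (LP (LK LD1_c2 LD2_c26 LD3_c40)) = (LP (LK LD1_c1 LD2_c10 LD3_c36)) :=
  Lre_c IH (LK LD1_c2 LD2_c26 LD3_c40) (LK LD1_c1 LD2_c10 LD3_c36) Lrfl Lrfl
theorem f313554 : Led Lsl_dt (LP (LK LD1_c4 LD2_c57 LD3_c36)) = (LP (LK LD1_c2 LD2_c26 LD3_c40)) :=
  Lre_d IH (LK LD1_c4 LD2_c57 LD3_c36) (LK LD1_c2 LD2_c26 LD3_c40) Lrfl Lrfl
theorem f313555 : Led Lsl_gt (LP (LK LD1_c8 LD2_c32 LD3_c41)) = (LP (LK LD1_c4 LD2_c57 LD3_c36)) :=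
  Lgr Lrot190 (Lpe (f170067 IH) (Lpe (K14.f170066 IH) (Lpe (K13.f169410 IH) (Lpe (K13.f167313 IH) (Lpe (K13.f167312 IH) (Lpr_cf (K9.f167304 IH) (Lpe (K0.f3060 IH) (Lpr_gf (K9.f165218 IH) (Lpe (K19.f165222 IH) (Lpr_cf (K19.f197408 IH) (Lpr_df (K19.f313539 IH) (Lpe (f313549 IH) (Lpe (K13.f211779 IH) (Lpe (K12.f20696 IH) (Lpe (K12.f174912 IH) (Lpe (K12.f174913 IH) (Lpe (f168857 IH) (Lpe (f313553 IH) (Lpe (f313554 IH) (Lpn (LP (LK LD1_c4 LD2_c57 LD3_c36))))))))))))))))))))))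
theorem f381467 : Led Lsl_df (LP (LK LD1_c5 LD2_c43 LD3_c45)) = (LP (LK LD1_c8 LD2_c32 LD3_c41)) :=
  Lgr Lrot155 (Lpr_gt (f381461 IH) (Lpr_ct (K20.f164991 IH) (Lpe (f381388 IH) (Lpr_ct (f216427 IH) (Lpr_dt (f318744 IH) (Lpe (f318743 IH) (Lpe (f318731 IH) (Lpe (f318730 IH) (Lpe (f313555 IH) (Lpn (LP (LK LD1_c8 LD2_c32 LD3_c41))))))))))))
theorem f381463 : Led Lsl_ct (LP (LK LD1_c5 LD2_c43 LD3_c45)) = (LP (LK LD1_c2 LD2_c47 LD3_c54)) :=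
  Lre_c IH (LK LD1_c5 LD2_c43 LD3_c45) (LK LD1_c2 LD2_c47 LD3_c54) Lrfl Lrfl
theorem f381487 : Led Lsl_at (LP (LK LD1_c5 LD2_c43 LD3_c25)) = (LP (LK LD1_c2 LD2_c47 LD3_c54)) :=
  Lre_a IH (LK LD1_c5 LD2_c43 LD3_c25) (LK LD1_c2 LD2_c47 LD3_c54) Lrfl Lrfl
theorem f381488 : Led Lsl_ft (LP (LK LD1_c2 LD2_c47 LD3_c43)) = (LP (LK LD1_c5 LD2_c43 LD3_c25)) :=
  Lre_f IH (LK LD1_c2 LD2_c47 LD3_c43) (LK LD1_c5 LD2_c43 LD3_c25) Lrfl Lrfl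
theorem f381127 : Led Lsl_dt (LP (LK LD1_c2 LD2_c47 LD3_c43)) = (LP (LK LD1_c1 LD2_c20 LD3_c9)) :=
  Lre_d IH (LK LD1_c2 LD2_c47 LD3_c43) (LK LD1_c1 LD2_c20 LD3_c9) Lrfl Lrfl
theorem f174920 : Led Lsl_ct (LP (LK LD1_c1 LD2_c20 LD3_c9)) = (LP (LK LD1_c0 LD2_c37 LD3_c3)) :=
  Lre_c IH (LK LD1_c1 LD2_c20 LD3_c9) (LK LD1_c0 LD2_c37 LD3_c3) Lrfl Lrfl
theorem f381131 : Led Lsl_dt (LP (LK LD1_c2 LD2_c47 LD3_c46)) = (LP (LK LD1_c5 LD2_c43 LD3_c31)) :=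
  Lre_d IH (LK LD1_c2 LD2_c47 LD3_c46) (LK LD1_c5 LD2_c43 LD3_c31) Lrfl Lrfl
theorem f381489 : Led Lsl_ct (LP (LK LD1_c5 LD2_c43 LD3_c31)) = (LP (LK LD1_c8 LD2_c32 LD3_c41)) :=
  Lgr Lrot53 (Lpe (f381131 IH) (Lpe (f313381 IH) (Lpe (f76148 IH) (Lpe (f174920 IH) (Lpe (f381127 IH) (Lpr_ft (f381488 IH) (Lpr_at (f381487 IH) (Lpe (f381463 IH) (Lpr_df (f381467 IH) (Lpn (LP (LK LD1_c8 LD2_c32 LD3_c41))))))))))))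
theorem f42051 : Led Lsl_bt (LP (LK LD1_c6 LD2_c4 LD3_c18)) = (LP (LK LD1_c2 LD2_c58 LD3_c21)) :=
  Lre_b IH (LK LD1_c6 LD2_c4 LD3_c18) (LK LD1_c2 LD2_c58 LD3_c21) Lrfl Lrfl
theorem f232800 : Led Lsl_ft (LP (LK LD1_c8 LD2_c32 LD3_c41)) = (LP (LK LD1_c6 LD2_c4 LD3_c18)) :=
  Lgr Lrot75 (Lpe (f170067 IH) (Lpr_ff (K13.f232793 IH) (Lpe (f42051 IH) (Lpn (LP (LK LD1_c6 LD2_c4 LD3_c18))))))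
theorem f381507 : Led Lsl_ff (LP (LK LD1_c5 LD2_c43 LD3_c31)) = (LP (LK LD1_c9 LD2_c36 LD3_c41)) :=
  Lgr Lrot23 (Lpr_ct (f381489 IH) (Lpr_ft (f232800 IH) (Lpr_ct (K20.f270600 IH) (Lpn (LP (LK LD1_c9 LD2_c36 LD3_c41))))))
theorem f381584 : Led Lsl_ft (LP (LK LD1_c5 LD2_c43 LD3_c31)) = (LP (LK LD1_c9 LD2_c36 LD3_c41)) :=
  Lgr Lrot48 (Lpr_ff (f381507 IH) (Lpn (LP (LK LD1_c9 LD2_c36 LD3_c41))))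
theorem f381600 : Led Lsl_ft (LP (LK LD1_c5 LD2_c43 LD3_c33)) = (LP (LK LD1_c2 LD2_c47 LD3_c46)) :=
  Lre_f IH (LK LD1_c5 LD2_c43 LD3_c33) (LK LD1_c2 LD2_c47 LD3_c46) Lrfl Lrfl
theorem f381601 : Led Lsl_df (LP (LK LD1_c5 LD2_c43 LD3_c33)) = (LP (LK LD1_c9 LD2_c36 LD3_c41)) :=
  Lgr Lrot78 (Lpr_ft (f381600 IH) (Lpr_dt (f381131 IH) (Lpr_ft (f381584 IH) (Lpn (LP (LK LD1_c9 LD2_c36 LD3_c41))))))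
theorem f270559 : Led Lsl_cf (LP (LK LD1_c8 LD2_c36 LD3_c20)) = (LP (LK LD1_c6 LD2_c4 LD3_c22)) :=
  Lgr Lrot11 (Lpr_ct (K16.f270556 IH) (Lpn (LP (LK LD1_c6 LD2_c4 LD3_c22))))
theorem f270686 : Led Lsl_dt (LP (LK LD1_c8 LD2_c36 LD3_c20)) = (LP (LK LD1_c4 LD2_c52 LD3_c8)) :=
  Lgr Lrot120 (Lpr_cf (f270559 IH) (Lpe (K9.f29056 IH) (Lpe (K11.f29055 IH) (Lpe (K1.f29054 IH) (Lpr_cf (K10.f29048 IH) (Lpe (K14.f29053 IH) (Lpr_ft (K17.f270672 IH) (Lpe (K16.f232850 IH) (Lpe (K16.f232212 IH) (Lpn (LP (LK LD1_c4 LD2_c52 LD3_c8))))))))))))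
theorem f270573 : Led Lsl_cf (LP (LK LD1_c2 LD2_c58 LD3_c20)) = (LP (LK LD1_c4 LD2_c52 LD3_c9)) :=
  Lgr Lrot1 (Lpr_at (K17.f42072 IH) (Lpr_ct (K17.f29014 IH) (Lpr_at (K16.f270566 IH) (Lpn (LP (LK LD1_c4 LD2_c52 LD3_c9))))))
theorem f287737 : Led Lsl_df (LP (LK LD1_c4 LD2_c52 LD3_c9)) = (LP (LK LD1_c8 LD2_c36 LD3_c21)) :=
  Lgr Lrot43 (Lpe (f270573 IH) (Lpr_dt (K14.f29053 IH) (Lpe (K10.f29048 IH) (Lpr_dt (K1.f29054 IH) (Lpr_ct (K11.f29055 IH) (Lpr_dt (K9.f29056 IH) (Lpe (f270559 IH) (Lpr_dt (f270686 IH) (Lpr_ct (K16.f232212 IH) (Lpr_dt (K13.f187068 IH) (Lpr_ct (K13.f187073 IH) (Lpr_dt (K13.f169410 IH) (Lpr_ct (K14.f170066 IH) (Lpr_dt (K15.f232218 IH) (Lpr_ct (K17.f287732 IH) (Lpn (LP (LK LD1_c8 LD2_c36 LD3_c21))))))))))))))))))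
theorem f381639 : Led Lsl_bt (LP (LK LD1_c5 LD2_c43 LD3_c33)) = (LP (LK LD1_c8 LD2_c36 LD3_c21)) :=
  Lgr Lrot95 (Lpr_df (f381601 IH) (Lpe (K20.f270572 IH) (Lpr_df (f287737 IH) (Lpn (LP (LK LD1_c8 LD2_c36 LD3_c21))))))
theorem f381651 : Led Lsl_ct (LP (LK LD1_c2 LD2_c47 LD3_c48)) = (LP (LK LD1_c5 LD2_c43 LD3_c33)) :=
  Lre_c IH (LK LD1_c2 LD2_c47 LD3_c48) (LK LD1_c5 LD2_c43 LD3_c33) Lrfl Lrfl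
theorem f216585 : Led Lsl_ct (LP (LK LD1_c4 LD2_c57 LD3_c11)) = (LP (LK LD1_c2 LD2_c26 LD3_c31)) :=
  Lre_c IH (LK LD1_c4 LD2_c57 LD3_c11) (LK LD1_c2 LD2_c26 LD3_c31) Lrfl Lrfl
theorem f216428 : Led Lsl_bt (LP (LK LD1_c4 LD2_c57 LD3_c11)) = (LP (LK LD1_c9 LD2_c45 LD3_c26)) :=
  Lre_b IH (LK LD1_c4 LD2_c57 LD3_c11) (LK LD1_c9 LD2_c45 LD3_c26) Lrfl Lrfl
theorem f170157 : Led Lsl_bt (LP (LK LD1_c2 LD2_c5 LD3_c53)) = (LP (LK LD1_c0 LD2_c59 LD3_c56)) :=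
  Lre_b IH (LK LD1_c2 LD2_c5 LD3_c53) (LK LD1_c0 LD2_c59 LD3_c56) Lrfl Lrfl
theorem f170251 : Led Lsl_ct (LP (LK LD1_c4 LD2_c16 LD3_c53)) = (LP (LK LD1_c2 LD2_c5 LD3_c53)) :=
  Lre_c IH (LK LD1_c4 LD2_c16 LD3_c53) (LK LD1_c2 LD2_c5 LD3_c53) Lrfl Lrfl
theorem f170252 : Led Lsl_dt (LP (LK LD1_c8 LD2_c33 LD3_c8)) = (LP (LK LD1_c4 LD2_c16 LD3_c53)) :=
  Lre_d IH (LK LD1_c8 LD2_c33 LD3_c8) (LK LD1_c4 LD2_c16 LD3_c53) Lrfl Lrfl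
theorem f216429 : Led Lsl_gf (LP (LK LD1_c8 LD2_c33 LD3_c8)) = (LP (LK LD1_c9 LD2_c45 LD3_c26)) :=
  Lgr Lrot85 (Lpr_dt (f170252 IH) (Lpr_ct (f170251 IH) (Lpr_bt (f170157 IH) (Lpe (K9.f178323 IH) (Lpr_dt (K9.f178387 IH) (Lpr_ct (K9.f170075 IH) (Lpr_bt (K12.f178389 IH) (Lpr_gt (K12.f216419 IH) (Lpr_dt (K12.f168525 IH) (Lpr_ct (K9.f168348 IH) (Lpr_bt (K9.f167851 IH) (Lpr_gt (K9.f7022 IH) (Lpr_dt (K1.f40992 IH) (Lpr_ct (K1.f40724 IH) (Lpr_bt (K9.f40141 IH) (Lpr_gt (f76106 IH) (Lpr_dt (f76114 IH) (Lpr_ct (f216427 IH) (Lpr_bt (f216428 IH) (Lpn (LP (LK LD1_c9 LD2_c45 LD3_c26))))))))))))))))))))))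
theorem f216586 : Led Lsl_bt (LP (LK LD1_c4 LD2_c16 LD3_c54)) = (LP (LK LD1_c8 LD2_c33 LD3_c8)) :=
  Lre_b IH (LK LD1_c4 LD2_c16 LD3_c54) (LK LD1_c8 LD2_c33 LD3_c8) Lrfl Lrfl
theorem f381469 : Led Lsl_bf (LP (LK LD1_c5 LD2_c43 LD3_c45)) = (LP (LK LD1_c8 LD2_c32 LD3_c42)) :=
  Lgr Lrot165 (Lpr_gt (f381461 IH) (Lpr_ct (K20.f164991 IH) (Lpe (f381388 IH) (Lpe (f216585 IH) (Lpr_bt (f216428 IH) (Lpe (f216429 IH) (Lpe (f216586 IH) (Lpr_ct (K14.f251914 IH) (Lpe (K17.f287766 IH) (Lpe (K17.f287732 IH) (Lpn (LP (LK LD1_c8 LD2_c32 LD3_c42)))))))))))))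
theorem f381660 : Led Lsl_bf (LP (LK LD1_c2 LD2_c47 LD3_c48)) = (LP (LK LD1_c2 LD2_c47 LD3_c54)) :=
  Lgr Lrot90 (Lpr_ct (f381651 IH) (Lpr_bt (f381639 IH) (Lpe (K17.f287735 IH) (Lpe (f381469 IH) (Lpr_ct (f381463 IH) (Lpn (LP (LK LD1_c2 LD2_c47 LD3_c54))))))))
theorem f381464 : Led Lsl_ct (LP (LK LD1_c2 LD2_c47 LD3_c54)) = (LP (LK LD1_c5 LD2_c43 LD3_c45)) :=
  Lre_c IH (LK LD1_c2 LD2_c47 LD3_c54) (LK LD1_c5 LD2_c43 LD3_c45) Lrfl Lrfl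
theorem f226559 : Led Lsl_bt (LP (LK LD1_c1 LD2_c18 LD3_c40)) = (LP (LK LD1_c2 LD2_c44 LD3_c38)) :=
  Lre_b IH (LK LD1_c1 LD2_c18 LD3_c40) (LK LD1_c2 LD2_c44 LD3_c38) Lrfl Lrfl
theorem f382449 : Led Lsl_gf (LP (LK LD1_c2 LD2_c47 LD3_c48)) = (LP (LK LD1_c2 LD2_c44 LD3_c38)) :=
  Lgr Lrot124 (Lpr_bf (f381660 IH) (Lpr_ct (f381464 IH) (Lpr_gt (f381461 IH) (Lpe (K20.f164994 IH) (Lpr_bt (K20.f164990 IH) (Lpr_gt (K15.f164714 IH) (Lpr_ct (K15.f225183 IH) (Lpe (K15.f181792 IH) (Lpe (K17.f226554 IH) (Lpr_bt (f226559 IH) (Lpn (LP (LK LD1_c2 LD2_c44 LD3_c38)))))))))))))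
theorem f289229 : Led Lsl_ft (LP (LK LD1_c2 LD2_c44 LD3_c38)) = (LP (LK LD1_c2 LD2_c47 LD3_c2)) :=
  Lgr Lrot75 (Lpe (f226559 IH) (Lpr_ff (K17.f289227 IH) (Lpe (K17.f174136 IH) (Lpn (LP (LK LD1_c2 LD2_c47 LD3_c2))))))
theorem f289309 : Led Lsl_at (LP (LK LD1_c2 LD2_c47 LD3_c2)) = (LP (LK LD1_c5 LD2_c42 LD3_c7)) :=
  Lre_a IH (LK LD1_c2 LD2_c47 LD3_c2) (LK LD1_c5 LD2_c42 LD3_c7) Lrfl Lrfl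
theorem f382453 : Led Lsl_gt (LP (LK LD1_c2 LD2_c47 LD3_c48)) = (LP (LK LD1_c5 LD2_c42 LD3_c7)) :=
  Lgr Lrot46 (Lpr_gf (f382449 IH) (Lpr_ft (f289229 IH) (Lpr_at (f289309 IH) (Lpn (LP (LK LD1_c5 LD2_c42 LD3_c7))))))
theorem f381650 : Led Lsl_dt (LP (LK LD1_c1 LD2_c20 LD3_c11)) = (LP (LK LD1_c2 LD2_c47 LD3_c48)) :=
  Lre_d IH (LK LD1_c1 LD2_c20 LD3_c11) (LK LD1_c2 LD2_c47 LD3_c48) Lrfl Lrfl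
theorem f168870 : Led Lsl_bt (LP (LK LD1_c0 LD2_c16 LD3_c34)) = (LP (LK LD1_c0 LD2_c37 LD3_c7)) :=
  Lre_b IH (LK LD1_c0 LD2_c16 LD3_c34) (LK LD1_c0 LD2_c37 LD3_c7) Lrfl Lrfl
theorem f381668 : Led Lsl_gf (LP (LK LD1_c1 LD2_c20 LD3_c11)) = (LP (LK LD1_c0 LD2_c37 LD3_c7)) :=
  Lgr Lrot85 (Lpr_dt (f381650 IH) (Lpr_ct (f381651 IH) (Lpr_bt (f381639 IH) (Lpr_gt (K17.f232211 IH) (Lpr_dt (K17.f187063 IH) (Lpr_ct (K19.f179753 IH) (Lpr_bt (K18.f179730 IH) (Lpr_gt (K9.f171190 IH) (Lpr_dt (K9.f170079 IH) (Lpr_ct (K9.f165220 IH) (Lpr_bt (K19.f170077 IH) (Lpr_gt (K19.f313388 IH) (Lpr_dt (K19.f2917 IH) (Lpr_ct (K11.f200375 IH) (Lpr_bt (K13.f28955 IH) (Lpr_gt (K9.f20651 IH) (Lpr_dt (K9.f20650 IH) (Lpr_ct (K9.f20808 IH) (Lpr_bt (f168870 IH) (Lpn (LP (LK LD1_c0 LD2_c37 LD3_c7))))))))))))))))))))))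
theorem f381689 : Led Lsl_et (LP (LK LD1_c1 LD2_c20 LD3_c22)) = (LP (LK LD1_c0 LD2_c37 LD3_c7)) :=
  Lre_e IH (LK LD1_c1 LD2_c20 LD3_c22) (LK LD1_c0 LD2_c37 LD3_c7) Lrfl Lrfl
theorem f381690 : Led Lsl_dt (LP (LK LD1_c1 LD2_c20 LD3_c22)) = (LP (LK LD1_c2 LD2_c48 LD3_c20)) :=
  Lre_d IH (LK LD1_c1 LD2_c20 LD3_c22) (LK LD1_c2 LD2_c48 LD3_c20) Lrfl Lrfl
theorem f176772 : Led Lsl_gt (LP (LK LD1_c5 LD2_c45 LD3_c5)) = (LP (LK LD1_c2 LD2_c48 LD3_c20)) :=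
  Lre_g IH (LK LD1_c5 LD2_c45 LD3_c5) (LK LD1_c2 LD2_c48 LD3_c20) Lrfl Lrfl
theorem f164983 : Led Lsl_dt (LP (LK LD1_c5 LD2_c37 LD3_c13)) = (LP (LK LD1_c2 LD2_c44 LD3_c32)) :=
  Lre_d IH (LK LD1_c5 LD2_c37 LD3_c13) (LK LD1_c2 LD2_c44 LD3_c32) Lrfl Lrfl
theorem f177739 : Led Lsl_bt (LP (LK LD1_c2 LD2_c44 LD3_c33)) = (LP (LK LD1_c1 LD2_c18 LD3_c38)) :=
  Lre_b IH (LK LD1_c2 LD2_c44 LD3_c33) (LK LD1_c1 LD2_c18 LD3_c38) Lrfl Lrfl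
theorem f289310 : Led Lsl_at (LP (LK LD1_c5 LD2_c37 LD3_c13)) = (LP (LK LD1_c2 LD2_c44 LD3_c33)) :=
  Lre_a IH (LK LD1_c5 LD2_c37 LD3_c13) (LK LD1_c2 LD2_c44 LD3_c33) Lrfl Lrfl
theorem f289311 : Led Lsl_bt (LP (LK LD1_c5 LD2_c42 LD3_c7)) = (LP (LK LD1_c5 LD2_c37 LD3_c13)) :=
  Lgr Lrot62 (Lpe (f289309 IH) (Lpe (f174144 IH) (Lpr_af (K17.f289303 IH) (Lpe (f177739 IH) (Lpe (f289310 IH) (Lpn (LP (LK LD1_c5 LD2_c37 LD3_c13))))))))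
theorem f302417 : Led Lsl_dt (LP (LK LD1_c4 LD2_c31 LD3_c1)) = (LP (LK LD1_c5 LD2_c42 LD3_c7)) :=
  Lgr Lrot79 (Lpr_bf (K18.f302413 IH) (Lpe (f164983 IH) (Lpe (f289311 IH) (Lpn (LP (LK LD1_c5 LD2_c42 LD3_c7))))))
theorem f302635 : Led Lsl_ff (LP (LK LD1_c0 LD2_c34 LD3_c2)) = (LP (LK LD1_c0 LD2_c33 LD3_c27)) :=
  Lgr Lrot3 (Lpr_ft (K18.f302629 IH) (Lpn (LP (LK LD1_c0 LD2_c33 LD3_c27))))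
theorem f302639 : Led Lsl_ft (LP (LK LD1_c1 LD2_c13 LD3_c30)) = (LP (LK LD1_c1 LD2_c12 LD3_c16)) :=
  Lgr Lrot75 (Lpe (K18.f185122 IH) (Lpr_ff (f302635 IH) (Lpe (K11.f22138 IH) (Lpn (LP (LK LD1_c1 LD2_c12 LD3_c16))))))
theorem f211994 : Led Lsl_ct (LP (LK LD1_c2 LD2_c24 LD3_c49)) = (LP (LK LD1_c1 LD2_c13 LD3_c30)) :=
  Lgr Lrot83 (Lpe (K18.f28345 IH) (Lpe (K9.f28343 IH) (Lpr_bf (K12.f211992 IH) (Lpe (K10.f185088 IH) (Lpe (K18.f185114 IH) (Lpn (LP (LK LD1_c1 LD2_c13 LD3_c30))))))))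
theorem f205128 : Led Lsl_ef (LP (LK LD1_c1 LD2_c31 LD3_c25)) = (LP (LK LD1_c2 LD2_c24 LD3_c48)) :=
  Lgr Lrot88 (Lpr_et (K11.f205121 IH) (Lpn (LP (LK LD1_c2 LD2_c24 LD3_c48))))
theorem f205118 : Led Lsl_ct (LP (LK LD1_c1 LD2_c31 LD3_c25)) = (LP (LK LD1_c1 LD2_c21 LD3_c49)) :=
  Lgr Lrot59 (Lpr_cf (K11.f205096 IH) (Lpn (LP (LK LD1_c1 LD2_c21 LD3_c49))))
theorem f22139 : Led Lsl_et (LP (LK LD1_c1 LD2_c21 LD3_c49)) = (LP (LK LD1_c1 LD2_c12 LD3_c16)) :=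
  Lgr Lrot74 (Lpe (K11.f22137 IH) (Lpr_ef (K11.f22133 IH) (Lpe (K11.f22138 IH) (Lpn (LP (LK LD1_c1 LD2_c12 LD3_c16))))))
theorem f205134 : Led Lsl_ct (LP (LK LD1_c1 LD2_c12 LD3_c16)) = (LP (LK LD1_c2 LD2_c24 LD3_c48)) :=
  Lgr Lrot15 (Lpe (f22139 IH) (Lpe (f205118 IH) (Lpr_ef (f205128 IH) (Lpn (LP (LK LD1_c2 LD2_c24 LD3_c48))))))
theorem f302643 : Led Lsl_ff (LP (LK LD1_c2 LD2_c24 LD3_c49)) = (LP (LK LD1_c2 LD2_c24 LD3_c48)) :=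
  Lgr Lrot23 (Lpr_ct (f211994 IH) (Lpr_ft (f302639 IH) (Lpr_ct (f205134 IH) (Lpn (LP (LK LD1_c2 LD2_c24 LD3_c48))))))
theorem f302663 : Led Lsl_ft (LP (LK LD1_c2 LD2_c24 LD3_c49)) = (LP (LK LD1_c2 LD2_c24 LD3_c48)) :=
  Lgr Lrot48 (Lpr_ff (f302643 IH) (Lpn (LP (LK LD1_c2 LD2_c24 LD3_c48))))
theorem f180678 : Led Lsl_at (LP (LK LD1_c2 LD2_c24 LD3_c48)) = (LP (LK LD1_c4 LD2_c53 LD3_c50)) :=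
  Lre_a IH (LK LD1_c2 LD2_c24 LD3_c48) (LK LD1_c4 LD2_c53 LD3_c50) Lrfl Lrfl
theorem f302665 : Led Lsl_ff (LP (LK LD1_c4 LD2_c53 LD3_c52)) = (LP (LK LD1_c4 LD2_c53 LD3_c50)) :=
  Lgr Lrot30 (Lpr_at (K18.f53234 IH) (Lpr_ft (f302663 IH) (Lpr_at (f180678 IH) (Lpn (LP (LK LD1_c4 LD2_c53 LD3_c50))))))
theorem f22197 : Led Lsl_at (LP (LK LD1_c2 LD2_c30 LD3_c33)) = (LP (LK LD1_c1 LD2_c12 LD3_c16)) :=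
  Lre_a IH (LK LD1_c2 LD2_c30 LD3_c33) (LK LD1_c1 LD2_c12 LD3_c16) Lrfl Lrfl
theorem f205136 : Led Lsl_cf (LP (LK LD1_c2 LD2_c30 LD3_c33)) = (LP (LK LD1_c4 LD2_c53 LD3_c50)) :=
  Lgr Lrot1 (Lpr_at (f22197 IH) (Lpr_ct (f205134 IH) (Lpr_at (f180678 IH) (Lpn (LP (LK LD1_c4 LD2_c53 LD3_c50))))))
theorem f205139 : Led Lsl_ct (LP (LK LD1_c2 LD2_c30 LD3_c33)) = (LP (LK LD1_c4 LD2_c53 LD3_c50)) :=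
  Lgr Lrot59 (Lpr_cf (f205136 IH) (Lpn (LP (LK LD1_c4 LD2_c53 LD3_c50))))
theorem f302669 : Led Lsl_ft (LP (LK LD1_c2 LD2_c33 LD3_c6)) = (LP (LK LD1_c2 LD2_c30 LD3_c33)) :=
  Lgr Lrot4 (Lpr_cf (K18.f289414 IH) (Lpr_ff (f302665 IH) (Lpe (f205139 IH) (Lpn (LP (LK LD1_c2 LD2_c30 LD3_c33))))))
theorem f22207 : Led Lsl_gt (LP (LK LD1_c2 LD2_c30 LD3_c32)) = (LP (LK LD1_c1 LD2_c12 LD3_c16)) :=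
  Lre_g IH (LK LD1_c2 LD2_c30 LD3_c32) (LK LD1_c1 LD2_c12 LD3_c16) Lrfl Lrfl
theorem f302671 : Led Lsl_gt (LP (LK LD1_c2 LD2_c33 LD3_c6)) = (LP (LK LD1_c2 LD2_c30 LD3_c32)) :=
  Lgr Lrot5 (Lpr_ft (f302669 IH) (Lpr_at (f22197 IH) (Lpe (f22207 IH) (Lpn (LP (LK LD1_c2 LD2_c30 LD3_c32))))))
theorem f22208 : Led Lsl_et (LP (LK LD1_c5 LD2_c6 LD3_c31)) = (LP (LK LD1_c2 LD2_c30 LD3_c32)) :=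
  Lre_e IH (LK LD1_c5 LD2_c6 LD3_c31) (LK LD1_c2 LD2_c30 LD3_c32) Lrfl Lrfl
theorem f386640 : Led Lsl_df (LP (LK LD1_c5 LD2_c45 LD3_c5)) = (LP (LK LD1_c5 LD2_c6 LD3_c31)) :=
  Lgr Lrot170 (Lpr_gt (f176772 IH) (Lpe (f381690 IH) (Lpr_et (f381689 IH) (Lpe (f381668 IH) (Lpr_dt (f381650 IH) (Lpr_gt (f382453 IH) (Lpe (f302417 IH) (Lpe (K18.f289424 IH) (Lpr_gt (f302671 IH) (Lpe (f22208 IH) (Lpn (LP (LK LD1_c5 LD2_c6 LD3_c31)))))))))))))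
theorem f386660 : Led Lsl_gt (LP (LK LD1_c2 LD2_c55 LD3_c1)) = (LP (LK LD1_c5 LD2_c45 LD3_c5)) :=
  Lre_g IH (LK LD1_c2 LD2_c55 LD3_c1) (LK LD1_c5 LD2_c45 LD3_c5) Lrfl Lrfl
theorem f386661 : Led Lsl_dt (LP (LK LD1_c1 LD2_c23 LD3_c27)) = (LP (LK LD1_c2 LD2_c55 LD3_c1)) :=
  Lre_d IH (LK LD1_c1 LD2_c23 LD3_c27) (LK LD1_c2 LD2_c55 LD3_c1) Lrfl Lrfl
theorem f386662 : Led Lsl_et (LP (LK LD1_c1 LD2_c23 LD3_c27)) = (LP (LK LD1_c0 LD2_c38 LD3_c36)) :=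
  Lre_e IH (LK LD1_c1 LD2_c23 LD3_c27) (LK LD1_c0 LD2_c38 LD3_c36) Lrfl Lrfl
theorem f76145 : Led Lsl_et (LP (LK LD1_c0 LD2_c38 LD3_c41)) = (LP (LK LD1_c0 LD2_c17 LD3_c11)) :=
  Lre_e IH (LK LD1_c0 LD2_c38 LD3_c41) (LK LD1_c0 LD2_c17 LD3_c11) Lrfl Lrfl
theorem f76146 : Led Lsl_dt (LP (LK LD1_c0 LD2_c38 LD3_c41)) = (LP (LK LD1_c1 LD2_c23 LD3_c45)) :=
  Lre_d IH (LK LD1_c0 LD2_c38 LD3_c41) (LK LD1_c1 LD2_c23 LD3_c45) Lrfl Lrfl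
theorem f22200 : Led Lsl_dt (LP (LK LD1_c1 LD2_c12 LD3_c16)) = (LP (LK LD1_c2 LD2_c30 LD3_c34)) :=
  Lre_d IH (LK LD1_c1 LD2_c12 LD3_c16) (LK LD1_c2 LD2_c30 LD3_c34) Lrfl Lrfl
theorem f386663 : Led Lsl_gf (LP (LK LD1_c1 LD2_c23 LD3_c45)) = (LP (LK LD1_c2 LD2_c30 LD3_c34)) :=
  Lgr Lrot134 (Lpe (f76146 IH) (Lpr_et (f76145 IH) (Lpr_gt (K2.f56896 IH) (Lpe (f386662 IH) (Lpr_dt (f386661 IH) (Lpr_gt (f386660 IH) (Lpr_df (f386640 IH) (Lpr_et (f22208 IH) (Lpr_gt (f22207 IH) (Lpr_dt (f22200 IH) (Lpn (LP (LK LD1_c2 LD2_c30 LD3_c34)))))))))))))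
theorem f384042 : Led Lsl_gt (LP (LK LD1_c1 LD2_c23 LD3_c45)) = (LP (LK LD1_c2 LD2_c55 LD3_c39)) :=
  Lre_g IH (LK LD1_c1 LD2_c23 LD3_c45) (LK LD1_c2 LD2_c55 LD3_c39) Lrfl Lrfl
theorem f289416 : Led Lsl_dt (LP (LK LD1_c2 LD2_c33 LD3_c7)) = (LP (LK LD1_c1 LD2_c13 LD3_c30)) :=
  Lre_d IH (LK LD1_c2 LD2_c33 LD3_c7) (LK LD1_c1 LD2_c13 LD3_c30) Lrfl Lrfl
theorem f302645 : Led Lsl_ff (LP (LK LD1_c2 LD2_c33 LD3_c7)) = (LP (LK LD1_c2 LD2_c30 LD3_c34)) :=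
  Lgr Lrot19 (Lpr_dt (f289416 IH) (Lpr_ft (f302639 IH) (Lpr_dt (f22200 IH) (Lpn (LP (LK LD1_c2 LD2_c30 LD3_c34))))))
theorem f386668 : Led Lsl_af (LP (LK LD1_c2 LD2_c55 LD3_c39)) = (LP (LK LD1_c2 LD2_c33 LD3_c7)) :=
  Lgr Lrot31 (Lpe (f384042 IH) (Lpr_gf (f386663 IH) (Lpe (f302645 IH) (Lpn (LP (LK LD1_c2 LD2_c33 LD3_c7))))))
theorem f302653 : Led Lsl_at (LP (LK LD1_c5 LD2_c6 LD3_c32)) = (LP (LK LD1_c2 LD2_c30 LD3_c34)) :=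
  Lre_a IH (LK LD1_c5 LD2_c6 LD3_c32) (LK LD1_c2 LD2_c30 LD3_c34) Lrfl Lrfl
theorem f386699 : Led Lsl_ft (LP (LK LD1_c2 LD2_c55 LD3_c39)) = (LP (LK LD1_c5 LD2_c6 LD3_c32)) :=
  Lgr Lrot101 (Lpr_af (f386668 IH) (Lpr_ff (f302645 IH) (Lpe (f302653 IH) (Lpn (LP (LK LD1_c5 LD2_c6 LD3_c32))))))
theorem f22201 : Led Lsl_gt (LP (LK LD1_c5 LD2_c6 LD3_c33)) = (LP (LK LD1_c2 LD2_c30 LD3_c34)) :=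
  Lre_g IH (LK LD1_c5 LD2_c6 LD3_c33) (LK LD1_c2 LD2_c30 LD3_c34) Lrfl Lrfl
theorem f386708 : Led Lsl_gt (LP (LK LD1_c2 LD2_c55 LD3_c39)) = (LP (LK LD1_c5 LD2_c6 LD3_c33)) :=
  Lgr Lrot5 (Lpr_ft (f386699 IH) (Lpr_at (f302653 IH) (Lpe (f22201 IH) (Lpn (LP (LK LD1_c5 LD2_c6 LD3_c33))))))
theorem f386710 : Led Lsl_ft (LP (LK LD1_c1 LD2_c23 LD3_c45)) = (LP (LK LD1_c2 LD2_c55 LD3_c41)) :=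
  Lre_f IH (LK LD1_c1 LD2_c23 LD3_c45) (LK LD1_c2 LD2_c55 LD3_c41) Lrfl Lrfl
theorem f386711 : Led Lsl_at (LP (LK LD1_c2 LD2_c55 LD3_c41)) = (LP (LK LD1_c5 LD2_c6 LD3_c33)) :=
  Lgr Lrot26 (Lpe (f386710 IH) (Lpr_gt (f384042 IH) (Lpr_gt (f386708 IH) (Lpn (LP (LK LD1_c5 LD2_c6 LD3_c33))))))
theorem f386717 : Led Lsl_dt (LP (LK LD1_c1 LD2_c23 LD3_c46)) = (LP (LK LD1_c2 LD2_c55 LD3_c41)) :=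
  Lre_d IH (LK LD1_c1 LD2_c23 LD3_c46) (LK LD1_c2 LD2_c55 LD3_c41) Lrfl Lrfl
theorem f169684 : Led Lsl_bt (LP (LK LD1_c1 LD2_c12 LD3_c17)) = (LP (LK LD1_c2 LD2_c30 LD3_c34)) :=
  Lre_b IH (LK LD1_c1 LD2_c12 LD3_c17) (LK LD1_c2 LD2_c30 LD3_c34) Lrfl Lrfl
theorem f169687 : Led Lsl_bt (LP (LK LD1_c10 LD2_c3 LD3_c55)) = (LP (LK LD1_c5 LD2_c6 LD3_c33)) :=
  Lre_b IH (LK LD1_c10 LD2_c3 LD3_c55) (LK LD1_c5 LD2_c6 LD3_c33) Lrfl Lrfl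
theorem f163811 : Led Lsl_bt (LP (LK LD1_c0 LD2_c33 LD3_c37)) = (LP (LK LD1_c1 LD2_c12 LD3_c36)) :=
  Lre_b IH (LK LD1_c0 LD2_c33 LD3_c37) (LK LD1_c1 LD2_c12 LD3_c36) Lrfl Lrfl
theorem f22371 : Led Lsl_gt (LP (LK LD1_c1 LD2_c12 LD3_c36)) = (LP (LK LD1_c2 LD2_c31 LD3_c12)) :=
  Lre_g IH (LK LD1_c1 LD2_c12 LD3_c36) (LK LD1_c2 LD2_c31 LD3_c12) Lrfl Lrfl
theorem f165424 : Led Lsl_ct (LP (LK LD1_c2 LD2_c31 LD3_c12)) = (LP (LK LD1_c5 LD2_c7 LD3_c53)) :=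
  Lre_c IH (LK LD1_c2 LD2_c31 LD3_c12) (LK LD1_c5 LD2_c7 LD3_c53) Lrfl Lrfl
theorem f165425 : Led Lsl_gt (LP (LK LD1_c5 LD2_c7 LD3_c53)) = (LP (LK LD1_c10 LD2_c6 LD3_c4)) :=
  Lre_g IH (LK LD1_c5 LD2_c7 LD3_c53) (LK LD1_c10 LD2_c6 LD3_c4) Lrfl Lrfl
theorem f169688 : Led Lsl_ct (LP (LK LD1_c10 LD2_c3 LD3_c55)) = (LP (LK LD1_c10 LD2_c6 LD3_c4)) :=
  Lgr Lrot63 (Lpr_bt (f169687 IH) (Lpr_gt (f22201 IH) (Lpe (f169684 IH) (Lpr_ct (K9.f169580 IH) (Lpr_gt (K9.f165420 IH) (Lpe (K9.f53212 IH) (Lpr_bt (f163811 IH) (Lpr_gt (f22371 IH) (Lpr_ct (f165424 IH) (Lpr_gt (f165425 IH) (Lpn (LP (LK LD1_c10 LD2_c6 LD3_c4)))))))))))))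
theorem f169691 : Led Lsl_cf (LP (LK LD1_c10 LD2_c3 LD3_c55)) = (LP (LK LD1_c10 LD2_c6 LD3_c4)) :=
  Lgr Lrot11 (Lpr_ct (f169688 IH) (Lpn (LP (LK LD1_c10 LD2_c6 LD3_c4))))
theorem f3250 : Led Lsl_dt (LP (LK LD1_c1 LD2_c12 LD3_c36)) = (LP (LK LD1_c0 LD2_c33 LD3_c36)) :=
  Lre_d IH (LK LD1_c1 LD2_c12 LD3_c36) (LK LD1_c0 LD2_c33 LD3_c36) Lrfl Lrfl
theorem f3278 : Led Lsl_gt (LP (LK LD1_c0 LD2_c33 LD3_c36)) = (LP (LK LD1_c1 LD2_c12 LD3_c33)) :=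
  Lre_g IH (LK LD1_c0 LD2_c33 LD3_c36) (LK LD1_c1 LD2_c12 LD3_c33) Lrfl Lrfl
theorem f3284 : Led Lsl_ct (LP (LK LD1_c1 LD2_c12 LD3_c33)) = (LP (LK LD1_c2 LD2_c31 LD3_c4)) :=
  Lre_c IH (LK LD1_c1 LD2_c12 LD3_c33) (LK LD1_c2 LD2_c31 LD3_c4) Lrfl Lrfl
theorem f169697 : Led Lsl_gt (LP (LK LD1_c2 LD2_c31 LD3_c4)) = (LP (LK LD1_c5 LD2_c7 LD3_c36)) :=
  Lre_g IH (LK LD1_c2 LD2_c31 LD3_c4) (LK LD1_c5 LD2_c7 LD3_c36) Lrfl Lrfl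
theorem f169698 : Led Lsl_ct (LP (LK LD1_c5 LD2_c7 LD3_c36)) = (LP (LK LD1_c5 LD2_c6 LD3_c57)) :=
  Lre_c IH (LK LD1_c5 LD2_c7 LD3_c36) (LK LD1_c5 LD2_c6 LD3_c57) Lrfl Lrfl
theorem f169703 : Led Lsl_df (LP (LK LD1_c10 LD2_c3 LD3_c55)) = (LP (LK LD1_c5 LD2_c6 LD3_c57)) :=
  Lgr Lrot162 (Lpr_cf (f169691 IH) (Lpe (f165425 IH) (Lpe (f165424 IH) (Lpe (f22371 IH) (Lpr_dt (f3250 IH) (Lpr_gt (f3278 IH) (Lpr_ct (f3284 IH) (Lpr_gt (f169697 IH) (Lpr_ct (f169698 IH) (Lpn (LP (LK LD1_c5 LD2_c6 LD3_c57))))))))))))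
theorem f169708 : Led Lsl_bt (LP (LK LD1_c2 LD2_c30 LD3_c46)) = (LP (LK LD1_c5 LD2_c6 LD3_c57)) :=
  Lre_b IH (LK LD1_c2 LD2_c30 LD3_c46) (LK LD1_c5 LD2_c6 LD3_c57) Lrfl Lrfl
theorem f169709 : Led Lsl_dt (LP (LK LD1_c5 LD2_c6 LD3_c33)) = (LP (LK LD1_c2 LD2_c30 LD3_c46)) :=
  Lgr Lrot79 (Lpe (f169687 IH) (Lpr_df (f169703 IH) (Lpe (f169708 IH) (Lpn (LP (LK LD1_c2 LD2_c30 LD3_c46))))))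
theorem f386718 : Led Lsl_af (LP (LK LD1_c1 LD2_c23 LD3_c46)) = (LP (LK LD1_c2 LD2_c30 LD3_c46)) :=
  Lgr Lrot117 (Lpr_dt (f386717 IH) (Lpr_at (f386711 IH) (Lpr_dt (f169709 IH) (Lpn (LP (LK LD1_c2 LD2_c30 LD3_c46))))))
theorem f386731 : Led Lsl_at (LP (LK LD1_c1 LD2_c23 LD3_c46)) = (LP (LK LD1_c2 LD2_c30 LD3_c46)) :=
  Lgr Lrot100 (Lpr_af (f386718 IH) (Lpn (LP (LK LD1_c2 LD2_c30 LD3_c46))))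
theorem f426211 : Led Lsl_ct (LP (LK LD1_c2 LD2_c30 LD3_c46)) = (LP (LK LD1_c2 LD2_c55 LD3_c13)) :=
  Lgr Lrot111 (Lpe (f386731 IH) (Lpe (K24.f386739 IH) (Lpr_af (K24.f426207 IH) (Lpn (LP (LK LD1_c2 LD2_c55 LD3_c13))))))
theorem f386735 : Led Lsl_ft (LP (LK LD1_c1 LD2_c23 LD3_c46)) = (LP (LK LD1_c0 LD2_c38 LD3_c41)) :=
  Lre_f IH (LK LD1_c1 LD2_c23 LD3_c46) (LK LD1_c0 LD2_c38 LD3_c41) Lrfl Lrfl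
theorem f386736 : Led Lsl_at (LP (LK LD1_c0 LD2_c38 LD3_c41)) = (LP (LK LD1_c1 LD2_c23 LD3_c30)) :=
  Lre_a IH (LK LD1_c0 LD2_c38 LD3_c41) (LK LD1_c1 LD2_c23 LD3_c30) Lrfl Lrfl
theorem f386737 : Led Lsl_ft (LP (LK LD1_c1 LD2_c23 LD3_c30)) = (LP (LK LD1_c2 LD2_c30 LD3_c46)) :=
  Lgr Lrot101 (Lpe (f386736 IH) (Lpe (f386735 IH) (Lpr_af (f386718 IH) (Lpn (LP (LK LD1_c2 LD2_c30 LD3_c46))))))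
theorem f386749 : Led Lsl_ff (LP (LK LD1_c1 LD2_c23 LD3_c30)) = (LP (LK LD1_c2 LD2_c30 LD3_c46)) :=
  Lgr Lrot3 (Lpr_ft (f386737 IH) (Lpn (LP (LK LD1_c2 LD2_c30 LD3_c46))))
theorem f386751 : Led Lsl_at (LP (LK LD1_c1 LD2_c23 LD3_c30)) = (LP (LK LD1_c0 LD2_c38 LD3_c41)) :=
  Lre_a IH (LK LD1_c1 LD2_c23 LD3_c30) (LK LD1_c0 LD2_c38 LD3_c41) Lrfl Lrfl
theorem f169713 : Led Lsl_gt (LP (LK LD1_c2 LD2_c30 LD3_c46)) = (LP (LK LD1_c1 LD2_c12 LD3_c24)) :=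
  Lre_g IH (LK LD1_c2 LD2_c30 LD3_c46) (LK LD1_c1 LD2_c12 LD3_c24) Lrfl Lrfl
theorem f386763 : Led Lsl_gf (LP (LK LD1_c0 LD2_c38 LD3_c41)) = (LP (LK LD1_c1 LD2_c12 LD3_c24)) :=
  Lgr Lrot76 (Lpe (f386751 IH) (Lpr_ff (f386749 IH) (Lpr_gt (f169713 IH) (Lpn (LP (LK LD1_c1 LD2_c12 LD3_c24))))))
theorem f74574 : Led Lsl_gt (LP (LK LD1_c0 LD2_c38 LD3_c41)) = (LP (LK LD1_c1 LD2_c23 LD3_c44)) :=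
  Lre_g IH (LK LD1_c0 LD2_c38 LD3_c41) (LK LD1_c1 LD2_c23 LD3_c44) Lrfl Lrfl
theorem f308022 : Led Lsl_ft (LP (LK LD1_c1 LD2_c12 LD3_c18)) = (LP (LK LD1_c1 LD2_c12 LD3_c26)) :=
  Lgr Lrot86 (Lpr_ef (K11.f176944 IH) (Lpe (K18.f302535 IH) (Lpe (K15.f185780 IH) (Lpr_ff (K19.f308014 IH) (Lpe (K9.f166166 IH) (Lpn (LP (LK LD1_c1 LD2_c12 LD3_c26))))))))
theorem f176943 : Led Lsl_bt (LP (LK LD1_c2 LD2_c30 LD3_c36)) = (LP (LK LD1_c1 LD2_c12 LD3_c18)) :=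
  Lre_b IH (LK LD1_c2 LD2_c30 LD3_c36) (LK LD1_c1 LD2_c12 LD3_c18) Lrfl Lrfl
theorem f21271 : Led Lsl_bt (LP (LK LD1_c1 LD2_c12 LD3_c26)) = (LP (LK LD1_c2 LD2_c30 LD3_c49)) :=
  Lre_b IH (LK LD1_c1 LD2_c12 LD3_c26) (LK LD1_c2 LD2_c30 LD3_c49) Lrfl Lrfl
theorem f308026 : Led Lsl_ff (LP (LK LD1_c2 LD2_c30 LD3_c36)) = (LP (LK LD1_c2 LD2_c30 LD3_c49)) :=
  Lgr Lrot25 (Lpr_bt (f176943 IH) (Lpr_ft (f308022 IH) (Lpr_bt (f21271 IH) (Lpn (LP (LK LD1_c2 LD2_c30 LD3_c49))))))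
theorem f177440 : Led Lsl_bt (LP (LK LD1_c2 LD2_c30 LD3_c49)) = (LP (LK LD1_c1 LD2_c12 LD3_c26)) :=
  Lre_b IH (LK LD1_c2 LD2_c30 LD3_c49) (LK LD1_c1 LD2_c12 LD3_c26) Lrfl Lrfl
theorem f193925 : Led Lsl_bt (LP (LK LD1_c1 LD2_c13 LD3_c60)) = (LP (LK LD1_c2 LD2_c33 LD3_c61)) :=
  Lre_b IH (LK LD1_c1 LD2_c13 LD3_c60) (LK LD1_c2 LD2_c33 LD3_c61) Lrfl Lrfl
theorem f194122 : Led Lsl_cf (LP (LK LD1_c2 LD2_c30 LD3_c49)) = (LP (LK LD1_c2 LD2_c33 LD3_c61)) :=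
  Lgr Lrot97 (Lpr_bt (f177440 IH) (Lpr_ct (K10.f21259 IH) (Lpr_bt (K10.f194114 IH) (Lpr_ct (K18.f193789 IH) (Lpr_bt (f193925 IH) (Lpn (LP (LK LD1_c2 LD2_c33 LD3_c61))))))))
theorem f308039 : Led Lsl_ft (LP (LK LD1_c2 LD2_c59 LD3_c43)) = (LP (LK LD1_c2 LD2_c33 LD3_c61)) :=
  Lgr Lrot4 (Lpr_cf (K18.f205198 IH) (Lpr_ff (f308026 IH) (Lpr_cf (f194122 IH) (Lpn (LP (LK LD1_c2 LD2_c33 LD3_c61))))))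
theorem f308043 : Led Lsl_ff (LP (LK LD1_c2 LD2_c59 LD3_c43)) = (LP (LK LD1_c2 LD2_c33 LD3_c61)) :=
  Lgr Lrot3 (Lpr_ft (f308039 IH) (Lpn (LP (LK LD1_c2 LD2_c33 LD3_c61))))
theorem f205200 : Led Lsl_ct (LP (LK LD1_c2 LD2_c59 LD3_c43)) = (LP (LK LD1_c2 LD2_c30 LD3_c36)) :=
  Lgr Lrot59 (Lpr_cf (K18.f205198 IH) (Lpn (LP (LK LD1_c2 LD2_c30 LD3_c36))))
theorem f308028 : Led Lsl_ff (LP (LK LD1_c1 LD2_c12 LD3_c18)) = (LP (LK LD1_c1 LD2_c12 LD3_c26)) :=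
  Lgr Lrot3 (Lpr_ft (f308022 IH) (Lpn (LP (LK LD1_c1 LD2_c12 LD3_c26))))
theorem f308030 : Led Lsl_ft (LP (LK LD1_c2 LD2_c30 LD3_c36)) = (LP (LK LD1_c2 LD2_c30 LD3_c49)) :=
  Lgr Lrot75 (Lpe (K18.f166159 IH) (Lpr_ff (f308028 IH) (Lpe (f177440 IH) (Lpn (LP (LK LD1_c2 LD2_c30 LD3_c49))))))
theorem f308046 : Led Lsl_ct (LP (LK LD1_c2 LD2_c30 LD3_c49)) = (LP (LK LD1_c2 LD2_c33 LD3_c61)) :=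
  Lgr Lrot40 (Lpe (f308030 IH) (Lpe (f205200 IH) (Lpr_ff (f308043 IH) (Lpn (LP (LK LD1_c2 LD2_c33 LD3_c61))))))
theorem f308041 : Led Lsl_et (LP (LK LD1_c1 LD2_c12 LD3_c24)) = (LP (LK LD1_c2 LD2_c30 LD3_c49)) :=
  Lre_e IH (LK LD1_c1 LD2_c12 LD3_c24) (LK LD1_c2 LD2_c30 LD3_c49) Lrfl Lrfl
theorem f308042 : Led Lsl_et (LP (LK LD1_c2 LD2_c33 LD3_c61)) = (LP (LK LD1_c1 LD2_c13 LD3_c58)) :=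
  Lre_e IH (LK LD1_c2 LD2_c33 LD3_c61) (LK LD1_c1 LD2_c13 LD3_c58) Lrfl Lrfl
theorem f308052 : Led Lsl_cf (LP (LK LD1_c1 LD2_c12 LD3_c24)) = (LP (LK LD1_c1 LD2_c13 LD3_c58)) :=
  Lgr Lrot39 (Lpr_et (f308041 IH) (Lpr_ct (f308046 IH) (Lpr_et (f308042 IH) (Lpn (LP (LK LD1_c1 LD2_c13 LD3_c58))))))
theorem f68543 : Led Lsl_bt (LP (LK LD1_c2 LD2_c30 LD3_c53)) = (LP (LK LD1_c1 LD2_c12 LD3_c29)) :=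
  Lre_b IH (LK LD1_c2 LD2_c30 LD3_c53) (LK LD1_c1 LD2_c12 LD3_c29) Lrfl Lrfl
theorem f301877 : Led Lsl_ft (LP (LK LD1_c3 LD2_c10 LD3_c26)) = (LP (LK LD1_c2 LD2_c30 LD3_c53)) :=
  Lgr Lrot75 (Lpe (K18.f176642 IH) (Lpr_ff (K18.f301875 IH) (Lpe (f68543 IH) (Lpn (LP (LK LD1_c2 LD2_c30 LD3_c53))))))
theorem f68563 : Led Lsl_et (LP (LK LD1_c2 LD2_c30 LD3_c53)) = (LP (LK LD1_c1 LD2_c12 LD3_c27)) :=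
  Lre_e IH (LK LD1_c2 LD2_c30 LD3_c53) (LK LD1_c1 LD2_c12 LD3_c27) Lrfl Lrfl
theorem f308048 : Led Lsl_et (LP (LK LD1_c1 LD2_c13 LD3_c58)) = (LP (LK LD1_c2 LD2_c33 LD3_c61)) :=
  Lre_e IH (LK LD1_c1 LD2_c13 LD3_c58) (LK LD1_c2 LD2_c33 LD3_c61) Lrfl Lrfl
theorem f308049 : Led Lsl_ft (LP (LK LD1_c1 LD2_c12 LD3_c27)) = (LP (LK LD1_c1 LD2_c13 LD3_c58)) :=
  Lgr Lrot86 (Lpe (f68563 IH) (Lpe (f301877 IH) (Lpe (K18.f205202 IH) (Lpr_ff (f308043 IH) (Lpe (f308048 IH) (Lpn (LP (LK LD1_c1 LD2_c13 LD3_c58))))))))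
theorem f3302 : Led Lsl_bt (LP (LK LD1_c1 LD2_c12 LD3_c27)) = (LP (LK LD1_c0 LD2_c33 LD3_c34)) :=
  Lre_b IH (LK LD1_c1 LD2_c12 LD3_c27) (LK LD1_c0 LD2_c33 LD3_c34) Lrfl Lrfl
theorem f165468 : Led Lsl_bt (LP (LK LD1_c0 LD2_c34 LD3_c11)) = (LP (LK LD1_c1 LD2_c13 LD3_c47)) :=
  Lre_b IH (LK LD1_c0 LD2_c34 LD3_c11) (LK LD1_c1 LD2_c13 LD3_c47) Lrfl Lrfl
theorem f194104 : Led Lsl_cf (LP (LK LD1_c1 LD2_c12 LD3_c27)) = (LP (LK LD1_c1 LD2_c13 LD3_c47)) :=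
  Lgr Lrot97 (Lpr_bt (f3302 IH) (Lpe (K14.f194085 IH) (Lpr_bt (K10.f194102 IH) (Lpr_ct (K10.f165464 IH) (Lpr_bt (f165468 IH) (Lpn (LP (LK LD1_c1 LD2_c13 LD3_c47))))))))
theorem f308058 : Led Lsl_ft (LP (LK LD1_c1 LD2_c12 LD3_c24)) = (LP (LK LD1_c1 LD2_c13 LD3_c47)) :=
  Lgr Lrot4 (Lpr_cf (f308052 IH) (Lpe (f308049 IH) (Lpr_cf (f194104 IH) (Lpn (LP (LK LD1_c1 LD2_c13 LD3_c47))))))
theorem f386766 : Led Lsl_af (LP (LK LD1_c1 LD2_c23 LD3_c44)) = (LP (LK LD1_c1 LD2_c13 LD3_c47)) :=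
  Lgr Lrot31 (Lpe (f74574 IH) (Lpr_gf (f386763 IH) (Lpr_ft (f308058 IH) (Lpn (LP (LK LD1_c1 LD2_c13 LD3_c47))))))
theorem f308060 : Led Lsl_at (LP (LK LD1_c2 LD2_c30 LD3_c47)) = (LP (LK LD1_c1 LD2_c12 LD3_c24)) :=
  Lre_a IH (LK LD1_c2 LD2_c30 LD3_c47) (LK LD1_c1 LD2_c12 LD3_c24) Lrfl Lrfl
theorem f386782 : Led Lsl_ft (LP (LK LD1_c1 LD2_c23 LD3_c44)) = (LP (LK LD1_c2 LD2_c30 LD3_c47)) :=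
  Lgr Lrot101 (Lpr_af (f386766 IH) (Lpe (f308058 IH) (Lpe (f308060 IH) (Lpn (LP (LK LD1_c2 LD2_c30 LD3_c47))))))
theorem f386788 : Led Lsl_gt (LP (LK LD1_c1 LD2_c23 LD3_c44)) = (LP (LK LD1_c2 LD2_c30 LD3_c46)) :=
  Lgr Lrot5 (Lpr_ft (f386782 IH) (Lpr_at (f308060 IH) (Lpe (f169713 IH) (Lpn (LP (LK LD1_c2 LD2_c30 LD3_c46))))))
theorem f205142 : Led Lsl_dt (LP (LK LD1_c5 LD2_c6 LD3_c32)) = (LP (LK LD1_c2 LD2_c30 LD3_c33)) :=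
  Lre_d IH (LK LD1_c5 LD2_c6 LD3_c32) (LK LD1_c2 LD2_c30 LD3_c33) Lrfl Lrfl
theorem f22206 : Led Lsl_at (LP (LK LD1_c1 LD2_c12 LD3_c16)) = (LP (LK LD1_c2 LD2_c30 LD3_c33)) :=
  Lre_a IH (LK LD1_c1 LD2_c12 LD3_c16) (LK LD1_c2 LD2_c30 LD3_c33) Lrfl Lrfl
theorem f302641 : Led Lsl_ff (LP (LK LD1_c2 LD2_c33 LD3_c6)) = (LP (LK LD1_c2 LD2_c30 LD3_c33)) :=
  Lgr Lrot30 (Lpr_at (K18.f289413 IH) (Lpr_ft (f302639 IH) (Lpr_at (f22206 IH) (Lpn (LP (LK LD1_c2 LD2_c30 LD3_c33))))))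
theorem f386702 : Led Lsl_df (LP (LK LD1_c2 LD2_c55 LD3_c39)) = (LP (LK LD1_c2 LD2_c33 LD3_c6)) :=
  Lgr Lrot78 (Lpr_ft (f386699 IH) (Lpr_dt (f205142 IH) (Lpe (f302641 IH) (Lpn (LP (LK LD1_c2 LD2_c33 LD3_c6))))))
theorem f75973 : Led Lsl_et (LP (LK LD1_c0 LD2_c16 LD3_c32)) = (LP (LK LD1_c0 LD2_c7 LD3_c39)) :=
  Lre_e IH (LK LD1_c0 LD2_c16 LD3_c32) (LK LD1_c0 LD2_c7 LD3_c39) Lrfl Lrfl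
theorem f75567 : Led Lsl_dt (LP (LK LD1_c0 LD2_c16 LD3_c32)) = (LP (LK LD1_c0 LD2_c37 LD3_c6)) :=
  Lre_d IH (LK LD1_c0 LD2_c16 LD3_c32) (LK LD1_c0 LD2_c37 LD3_c6) Lrfl Lrfl
theorem f75974 : Led Lsl_gt (LP (LK LD1_c1 LD2_c20 LD3_c18)) = (LP (LK LD1_c0 LD2_c37 LD3_c6)) :=
  Lre_g IH (LK LD1_c1 LD2_c20 LD3_c18) (LK LD1_c0 LD2_c37 LD3_c6) Lrfl Lrfl
theorem f381641 : Led Lsl_ct (LP (LK LD1_c5 LD2_c43 LD3_c33)) = (LP (LK LD1_c2 LD2_c47 LD3_c48)) :=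
  Lre_c IH (LK LD1_c5 LD2_c43 LD3_c33) (LK LD1_c2 LD2_c47 LD3_c48) Lrfl Lrfl
theorem f211951 : Led Lsl_ct (LP (LK LD1_c5 LD2_c37 LD3_c21)) = (LP (LK LD1_c2 LD2_c44 LD3_c38)) :=
  Lre_c IH (LK LD1_c5 LD2_c37 LD3_c21) (LK LD1_c2 LD2_c44 LD3_c38) Lrfl Lrfl
theorem f211946 : Led Lsl_ct (LP (LK LD1_c2 LD2_c44 LD3_c38)) = (LP (LK LD1_c5 LD2_c37 LD3_c21)) :=
  Lre_c IH (LK LD1_c2 LD2_c44 LD3_c38) (LK LD1_c5 LD2_c37 LD3_c21) Lrfl Lrfl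
theorem f226685 : Led Lsl_bt (LP (LK LD1_c5 LD2_c28 LD3_c29)) = (LP (LK LD1_c2 LD2_c40 LD3_c33)) :=
  Lre_b IH (LK LD1_c5 LD2_c28 LD3_c29) (LK LD1_c2 LD2_c40 LD3_c33) Lrfl Lrfl
theorem f178156 : Led Lsl_ct (LP (LK LD1_c10 LD2_c48 LD3_c3)) = (LP (LK LD1_c5 LD2_c28 LD3_c29)) :=
  Lre_c IH (LK LD1_c10 LD2_c48 LD3_c3) (LK LD1_c5 LD2_c28 LD3_c29) Lrfl Lrfl
theorem f226686 : Led Lsl_bt (LP (LK LD1_c5 LD2_c37 LD3_c21)) = (LP (LK LD1_c10 LD2_c48 LD3_c3)) :=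
  Lgr Lrot128 (Lpe (f211946 IH) (Lpe (f226559 IH) (Lpr_cf (K12.f226556 IH) (Lpe (f226685 IH) (Lpe (f178156 IH) (Lpn (LP (LK LD1_c10 LD2_c48 LD3_c3))))))))
theorem f382461 : Led Lsl_gt (LP (LK LD1_c16 LD2_c7 LD3_c12)) = (LP (LK LD1_c10 LD2_c48 LD3_c3)) :=
  Lgr Lrot164 (Lpe (K17.f188873 IH) (Lpr_ct (K19.f271167 IH) (Lpe (K17.f251997 IH) (Lpe (K17.f251917 IH) (Lpe (K17.f232211 IH) (Lpe (f381639 IH) (Lpr_ct (f381641 IH) (Lpr_gf (f382449 IH) (Lpe (f211951 IH) (Lpr_bt (f226686 IH) (Lpn (LP (LK LD1_c10 LD2_c48 LD3_c3)))))))))))))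
theorem f381310 : Led Lsl_gt (LP (LK LD1_c10 LD2_c48 LD3_c3)) = (LP (LK LD1_c19 LD2_c32 LD3_c16)) :=
  Lre_g IH (LK LD1_c10 LD2_c48 LD3_c3) (LK LD1_c19 LD2_c32 LD3_c16) Lrfl Lrfl
theorem f382463 : Led Lsl_at (LP (LK LD1_c15 LD2_c27 LD3_c19)) = (LP (LK LD1_c19 LD2_c32 LD3_c16)) :=
  Lgr Lrot26 (Lpe (K17.f188874 IH) (Lpr_gt (f382461 IH) (Lpr_gt (f381310 IH) (Lpn (LP (LK LD1_c19 LD2_c32 LD3_c16))))))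
theorem f53934 : Led Lsl_dt (LP (LK LD1_c8 LD2_c12 LD3_c59)) = (LP (LK LD1_c15 LD2_c27 LD3_c19)) :=
  Lre_d IH (LK LD1_c8 LD2_c12 LD3_c59) (LK LD1_c15 LD2_c27 LD3_c19) Lrfl Lrfl
theorem f382469 : Led Lsl_df (LP (LK LD1_c15 LD2_c27 LD3_c18)) = (LP (LK LD1_c19 LD2_c32 LD3_c16)) :=
  Lgr Lrot18 (Lpr_at (K20.f53780 IH) (Lpr_dt (f53934 IH) (Lpr_at (f382463 IH) (Lpn (LP (LK LD1_c19 LD2_c32 LD3_c16))))))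
theorem f170214 : Led Lsl_ct (LP (LK LD1_c4 LD2_c17 LD3_c47)) = (LP (LK LD1_c8 LD2_c34 LD3_c40)) :=
  Lre_c IH (LK LD1_c4 LD2_c17 LD3_c47) (LK LD1_c8 LD2_c34 LD3_c40) Lrfl Lrfl
theorem f53377 : Led Lsl_bt (LP (LK LD1_c1 LD2_c0 LD3_c10)) = (LP (LK LD1_c2 LD2_c6 LD3_c21)) :=
  Lre_b IH (LK LD1_c1 LD2_c0 LD3_c10) (LK LD1_c2 LD2_c6 LD3_c21) Lrfl Lrfl
theorem f53378 : Led Lsl_gt (LP (LK LD1_c2 LD2_c6 LD3_c21)) = (LP (LK LD1_c4 LD2_c18 LD3_c8)) :=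
  Lre_g IH (LK LD1_c2 LD2_c6 LD3_c21) (LK LD1_c4 LD2_c18 LD3_c8) Lrfl Lrfl
theorem f318728 : Led Lsl_df (LP (LK LD1_c4 LD2_c17 LD3_c47)) = (LP (LK LD1_c4 LD2_c18 LD3_c8)) :=
  Lgr Lrot183 (Lpr_ct (f170214 IH) (Lpr_bt (K20.f318721 IH) (Lpr_gt (K20.f318722 IH) (Lpr_dt (K20.f140369 IH) (Lpr_ct (K9.f140350 IH) (Lpr_bt (K9.f40980 IH) (Lpr_gt (K9.f175085 IH) (Lpr_dt (K12.f168181 IH) (Lpr_ct (K12.f168180 IH) (Lpr_bt (K12.f175245 IH) (Lpr_gt (K12.f175246 IH) (Lpr_dt (K12.f175247 IH) (Lpr_ct (K13.f220207 IH) (Lpr_bt (K12.f170285 IH) (Lpe (K9.f170281 IH) (Lpe (K9.f167425 IH) (Lpr_ct (K9.f53376 IH) (Lpr_bt (f53377 IH) (Lpr_gt (f53378 IH) (Lpn (LP (LK LD1_c4 LD2_c18 LD3_c8))))))))))))))))))))))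
theorem f318761 : Led Lsl_dt (LP (LK LD1_c4 LD2_c17 LD3_c47)) = (LP (LK LD1_c4 LD2_c18 LD3_c8)) :=
  Lgr Lrot42 (Lpr_df (f318728 IH) (Lpn (LP (LK LD1_c4 LD2_c18 LD3_c8))))
theorem f7931 : Led Lsl_bt (LP (LK LD1_c1 LD2_c0 LD3_c7)) = (LP (LK LD1_c2 LD2_c6 LD3_c13)) :=
  Lre_b IH (LK LD1_c1 LD2_c0 LD3_c7) (LK LD1_c2 LD2_c6 LD3_c13) Lrfl Lrfl
theorem f191856 : Led Lsl_bt (LP (LK LD1_c4 LD2_c28 LD3_c33)) = (LP (LK LD1_c2 LD2_c11 LD3_c21)) :=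
  Lre_b IH (LK LD1_c4 LD2_c28 LD3_c33) (LK LD1_c2 LD2_c11 LD3_c21) Lrfl Lrfl
theorem f191857 : Led Lsl_ct (LP (LK LD1_c8 LD2_c55 LD3_c19)) = (LP (LK LD1_c4 LD2_c28 LD3_c33)) :=
  Lre_c IH (LK LD1_c8 LD2_c55 LD3_c19) (LK LD1_c4 LD2_c28 LD3_c33) Lrfl Lrfl
theorem f191858 : Led Lsl_dt (LP (LK LD1_c16 LD2_c41 LD3_c51)) = (LP (LK LD1_c8 LD2_c55 LD3_c19)) :=
  Lre_d IH (LK LD1_c16 LD2_c41 LD3_c51) (LK LD1_c8 LD2_c55 LD3_c19) Lrfl Lrfl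
theorem f53382 : Led Lsl_ct (LP (LK LD1_c4 LD2_c18 LD3_c8)) = (LP (LK LD1_c8 LD2_c35 LD3_c11)) :=
  Lre_c IH (LK LD1_c4 LD2_c18 LD3_c8) (LK LD1_c8 LD2_c35 LD3_c11) Lrfl Lrfl
theorem f170417 : Led Lsl_bt (LP (LK LD1_c8 LD2_c35 LD3_c11)) = (LP (LK LD1_c16 LD2_c6 LD3_c39)) :=
  Lre_b IH (LK LD1_c8 LD2_c35 LD3_c11) (LK LD1_c16 LD2_c6 LD3_c39) Lrfl Lrfl
theorem f318766 : Led Lsl_gf (LP (LK LD1_c16 LD2_c41 LD3_c51)) = (LP (LK LD1_c16 LD2_c6 LD3_c39)) :=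
  Lgr Lrot85 (Lpr_dt (f191858 IH) (Lpr_ct (f191857 IH) (Lpr_bt (f191856 IH) (Lpr_gt (K14.f187451 IH) (Lpe (K14.f191831 IH) (Lpr_ct (K14.f187192 IH) (Lpr_bt (K10.f187188 IH) (Lpr_gt (K14.f213778 IH) (Lpr_dt (K14.f168529 IH) (Lpr_ct (K12.f168331 IH) (Lpr_bt (K12.f168330 IH) (Lpr_gt (K9.f179106 IH) (Lpe (K0.f7918 IH) (Lpr_ct (K9.f7930 IH) (Lpr_bt (f7931 IH) (Lpr_gt (K20.f7932 IH) (Lpr_dt (f318761 IH) (Lpr_ct (f53382 IH) (Lpr_bt (f170417 IH) (Lpn (LP (LK LD1_c16 LD2_c6 LD3_c39))))))))))))))))))))))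
theorem f243828 : Led Lsl_ct (LP (LK LD1_c16 LD2_c41 LD3_c51)) = (LP (LK LD1_c11 LD2_c19 LD3_c22)) :=
  Lre_c IH (LK LD1_c16 LD2_c41 LD3_c51) (LK LD1_c11 LD2_c19 LD3_c22) Lrfl Lrfl
theorem f170416 : Led Lsl_ct (LP (LK LD1_c8 LD2_c35 LD3_c11)) = (LP (LK LD1_c4 LD2_c18 LD3_c8)) :=
  Lre_c IH (LK LD1_c8 LD2_c35 LD3_c11) (LK LD1_c4 LD2_c18 LD3_c8) Lrfl Lrfl
theorem f170243 : Led Lsl_ct (LP (LK LD1_c4 LD2_c18 LD3_c2)) = (LP (LK LD1_c2 LD2_c6 LD3_c21)) :=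
  Lre_c IH (LK LD1_c4 LD2_c18 LD3_c2) (LK LD1_c2 LD2_c6 LD3_c21) Lrfl Lrfl
theorem f170326 : Led Lsl_bt (LP (LK LD1_c4 LD2_c18 LD3_c2)) = (LP (LK LD1_c2 LD2_c6 LD3_c19)) :=
  Lre_b IH (LK LD1_c4 LD2_c18 LD3_c2) (LK LD1_c2 LD2_c6 LD3_c19) Lrfl Lrfl
theorem f221843 : Led Lsl_bt (LP (LK LD1_c4 LD2_c18 LD3_c1)) = (LP (LK LD1_c8 LD2_c34 LD3_c57)) :=
  Lre_b IH (LK LD1_c4 LD2_c18 LD3_c1) (LK LD1_c8 LD2_c34 LD3_c57) Lrfl Lrfl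
theorem f221844 : Led Lsl_cf (LP (LK LD1_c8 LD2_c35 LD3_c56)) = (LP (LK LD1_c8 LD2_c34 LD3_c57)) :=
  Lgr Lrot97 (Lpr_bt (K20.f188867 IH) (Lpr_ct (K12.f188812 IH) (Lpr_bt (K12.f188889 IH) (Lpr_ct (K12.f221838 IH) (Lpr_bt (f221843 IH) (Lpn (LP (LK LD1_c8 LD2_c34 LD3_c57))))))))
theorem f318770 : Led Lsl_gt (LP (LK LD1_c11 LD2_c19 LD3_c22)) = (LP (LK LD1_c8 LD2_c35 LD3_c56)) :=
  Lgr Lrot149 (Lpe (f243828 IH) (Lpr_gf (f318766 IH) (Lpe (f170417 IH) (Lpr_ct (f170416 IH) (Lpe (f53378 IH) (Lpe (f170243 IH) (Lpr_bt (f170326 IH) (Lpe (K12.f167529 IH) (Lpe (K20.f192376 IH) (Lpe (f221844 IH) (Lpn (LP (LK LD1_c8 LD2_c35 LD3_c56)))))))))))))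
theorem f243771 : Led Lsl_at (LP (LK LD1_c11 LD2_c19 LD3_c24)) = (LP (LK LD1_c8 LD2_c35 LD3_c56)) :=
  Lgr Lrot100 (Lpr_af (K20.f243753 IH) (Lpn (LP (LK LD1_c8 LD2_c35 LD3_c56))))
theorem f318825 : Led Lsl_gf (LP (LK LD1_c11 LD2_c19 LD3_c22)) = (LP (LK LD1_c15 LD2_c27 LD3_c18)) :=
  Lgr Lrot47 (Lpr_gt (f318770 IH) (Lpe (f243771 IH) (Lpr_ff (K20.f243785 IH) (Lpn (LP (LK LD1_c15 LD2_c27 LD3_c18))))))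
theorem f173012 : Led Lsl_dt (LP (LK LD1_c11 LD2_c19 LD3_c22)) = (LP (LK LD1_c5 LD2_c44 LD3_c39)) :=
  Lre_d IH (LK LD1_c11 LD2_c19 LD3_c22) (LK LD1_c5 LD2_c44 LD3_c39) Lrfl Lrfl
theorem f173011 : Led Lsl_ct (LP (LK LD1_c5 LD2_c44 LD3_c39)) = (LP (LK LD1_c2 LD2_c48 LD3_c36)) :=
  Lre_c IH (LK LD1_c5 LD2_c44 LD3_c39) (LK LD1_c2 LD2_c48 LD3_c36) Lrfl Lrfl
theorem f8761 : Led Lsl_dt (LP (LK LD1_c4 LD2_c30 LD3_c19)) = (LP (LK LD1_c2 LD2_c48 LD3_c36)) :=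
  Lre_d IH (LK LD1_c4 LD2_c30 LD3_c19) (LK LD1_c2 LD2_c48 LD3_c36) Lrfl Lrfl
theorem f318834 : Led Lsl_dt (LP (LK LD1_c4 LD2_c30 LD3_c23)) = (LP (LK LD1_c2 LD2_c12 LD3_c10)) :=
  Lre_d IH (LK LD1_c4 LD2_c30 LD3_c23) (LK LD1_c2 LD2_c12 LD3_c10) Lrfl Lrfl
theorem f179152 : Led Lsl_ct (LP (LK LD1_c5 LD2_c28 LD3_c29)) = (LP (LK LD1_c10 LD2_c48 LD3_c3)) :=
  Lre_c IH (LK LD1_c5 LD2_c28 LD3_c29) (LK LD1_c10 LD2_c48 LD3_c3) Lrfl Lrfl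
theorem f382481 : Led Lsl_gf (LP (LK LD1_c4 LD2_c30 LD3_c23)) = (LP (LK LD1_c5 LD2_c28 LD3_c29)) :=
  Lgr Lrot144 (Lpr_dt (f318834 IH) (Lpr_gt (K9.f169322 IH) (Lpr_dt (f8761 IH) (Lpe (f173011 IH) (Lpe (f173012 IH) (Lpr_gf (f318825 IH) (Lpr_df (f382469 IH) (Lpe (f381310 IH) (Lpe (f179152 IH) (Lpn (LP (LK LD1_c5 LD2_c28 LD3_c29))))))))))))
theorem f382488 : Led Lsl_gt (LP (LK LD1_c4 LD2_c30 LD3_c23)) = (LP (LK LD1_c8 LD2_c59 LD3_c1)) :=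
  Lre_g IH (LK LD1_c4 LD2_c30 LD3_c23) (LK LD1_c8 LD2_c59 LD3_c1) Lrfl Lrfl
theorem f226696 : Led Lsl_bt (LP (LK LD1_c2 LD2_c40 LD3_c33)) = (LP (LK LD1_c5 LD2_c28 LD3_c29)) :=
  Lre_b IH (LK LD1_c2 LD2_c40 LD3_c33) (LK LD1_c5 LD2_c28 LD3_c29) Lrfl Lrfl
theorem f289217 : Led Lsl_ft (LP (LK LD1_c5 LD2_c28 LD3_c29)) = (LP (LK LD1_c5 LD2_c33 LD3_c14)) :=
  Lgr Lrot75 (Lpe (f226696 IH) (Lpr_ff (K17.f289213 IH) (Lpe (f174142 IH) (Lpn (LP (LK LD1_c5 LD2_c33 LD3_c14))))))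
theorem f382489 : Led Lsl_af (LP (LK LD1_c8 LD2_c59 LD3_c1)) = (LP (LK LD1_c5 LD2_c33 LD3_c14)) :=
  Lgr Lrot31 (Lpe (f382488 IH) (Lpr_gf (f382481 IH) (Lpr_ft (f289217 IH) (Lpn (LP (LK LD1_c5 LD2_c33 LD3_c14))))))
theorem f289210 : Led Lsl_at (LP (LK LD1_c10 LD2_c48 LD3_c1)) = (LP (LK LD1_c5 LD2_c28 LD3_c29)) :=
  Lre_a IH (LK LD1_c10 LD2_c48 LD3_c1) (LK LD1_c5 LD2_c28 LD3_c29) Lrfl Lrfl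
theorem f382572 : Led Lsl_ft (LP (LK LD1_c8 LD2_c59 LD3_c1)) = (LP (LK LD1_c10 LD2_c48 LD3_c1)) :=
  Lgr Lrot101 (Lpr_af (f382489 IH) (Lpe (f289217 IH) (Lpe (f289210 IH) (Lpn (LP (LK LD1_c10 LD2_c48 LD3_c1))))))
theorem f382574 : Led Lsl_ct (LP (LK LD1_c16 LD2_c48 LD3_c11)) = (LP (LK LD1_c8 LD2_c59 LD3_c1)) :=
  Lre_c IH (LK LD1_c16 LD2_c48 LD3_c11) (LK LD1_c8 LD2_c59 LD3_c1) Lrfl Lrfl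
theorem f341306 : Led Lsl_ct (LP (LK LD1_c10 LD2_c48 LD3_c1)) = (LP (LK LD1_c19 LD2_c32 LD3_c13)) :=
  Lre_c IH (LK LD1_c10 LD2_c48 LD3_c1) (LK LD1_c19 LD2_c32 LD3_c13) Lrfl Lrfl
theorem f382575 : Led Lsl_ff (LP (LK LD1_c16 LD2_c48 LD3_c11)) = (LP (LK LD1_c19 LD2_c32 LD3_c13)) :=
  Lgr Lrot23 (Lpr_ct (f382574 IH) (Lpr_ft (f382572 IH) (Lpr_ct (f341306 IH) (Lpn (LP (LK LD1_c19 LD2_c32 LD3_c13))))))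
theorem f382564 : Led Lsl_ct (LP (LK LD1_c8 LD2_c59 LD3_c1)) = (LP (LK LD1_c16 LD2_c48 LD3_c11)) :=
  Lre_c IH (LK LD1_c8 LD2_c59 LD3_c1) (LK LD1_c16 LD2_c48 LD3_c11) Lrfl Lrfl
theorem f382565 : Led Lsl_at (LP (LK LD1_c16 LD2_c48 LD3_c11)) = (LP (LK LD1_c10 LD2_c58 LD3_c28)) :=
  Lgr Lrot107 (Lpe (f382564 IH) (Lpr_af (f382489 IH) (Lpe (f174143 IH) (Lpn (LP (LK LD1_c10 LD2_c58 LD3_c28))))))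
theorem f382620 : Led Lsl_gf (LP (LK LD1_c15 LD2_c27 LD3_c19)) = (LP (LK LD1_c19 LD2_c32 LD3_c13)) :=
  Lgr Lrot47 (Lpr_gt (f381111 IH) (Lpe (f382565 IH) (Lpr_ff (f382575 IH) (Lpn (LP (LK LD1_c19 LD2_c32 LD3_c13))))))
theorem f382465 : Led Lsl_af (LP (LK LD1_c15 LD2_c27 LD3_c19)) = (LP (LK LD1_c19 LD2_c32 LD3_c16)) :=
  Lgr Lrot0 (Lpr_at (f382463 IH) (Lpn (LP (LK LD1_c19 LD2_c32 LD3_c16))))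
theorem f174277 : Led Lsl_at (LP (LK LD1_c11 LD2_c14 LD3_c29)) = (LP (LK LD1_c5 LD2_c42 LD3_c8)) :=
  Lre_a IH (LK LD1_c11 LD2_c14 LD3_c29) (LK LD1_c5 LD2_c42 LD3_c8) Lrfl Lrfl
theorem f381195 : Led Lsl_ft (LP (LK LD1_c5 LD2_c43 LD3_c26)) = (LP (LK LD1_c11 LD2_c14 LD3_c29)) :=
  Lgr Lrot142 (Lpr_dt (f381166 IH) (Lpr_ct (f381161 IH) (Lpr_dt (K20.f164992 IH) (Lpr_ct (K20.f164991 IH) (Lpr_dt (K20.f165124 IH) (Lpe (K18.f289399 IH) (Lpr_dt (K17.f178880 IH) (Lpr_ct (f174137 IH) (Lpe (f174277 IH) (Lpn (LP (LK LD1_c11 LD2_c14 LD3_c29))))))))))))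
theorem f289473 : Led Lsl_ct (LP (LK LD1_c11 LD2_c14 LD3_c29)) = (LP (LK LD1_c5 LD2_c42 LD3_c7)) :=
  Lre_c IH (LK LD1_c11 LD2_c14 LD3_c29) (LK LD1_c5 LD2_c42 LD3_c7) Lrfl Lrfl
theorem f381209 : Led Lsl_ff (LP (LK LD1_c2 LD2_c47 LD3_c45)) = (LP (LK LD1_c5 LD2_c42 LD3_c7)) :=
  Lgr Lrot23 (Lpr_ct (f381144 IH) (Lpr_ft (f381195 IH) (Lpr_ct (f289473 IH) (Lpn (LP (LK LD1_c5 LD2_c42 LD3_c7))))))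
theorem f381149 : Led Lsl_et (LP (LK LD1_c2 LD2_c47 LD3_c45)) = (LP (LK LD1_c5 LD2_c43 LD3_c27)) :=
  Lre_e IH (LK LD1_c2 LD2_c47 LD3_c45) (LK LD1_c5 LD2_c43 LD3_c27) Lrfl Lrfl
theorem f381249 : Led Lsl_ft (LP (LK LD1_c5 LD2_c43 LD3_c27)) = (LP (LK LD1_c11 LD2_c16 LD3_c60)) :=
  Lre_f IH (LK LD1_c5 LD2_c43 LD3_c27) (LK LD1_c11 LD2_c16 LD3_c60) Lrfl Lrfl
theorem f302425 : Led Lsl_et (LP (LK LD1_c11 LD2_c14 LD3_c30)) = (LP (LK LD1_c5 LD2_c42 LD3_c7)) :=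
  Lre_e IH (LK LD1_c11 LD2_c14 LD3_c30) (LK LD1_c5 LD2_c42 LD3_c7) Lrfl Lrfl
theorem f302432 : Led Lsl_ft (LP (LK LD1_c20 LD2_c9 LD3_c31)) = (LP (LK LD1_c11 LD2_c14 LD3_c30)) :=
  Lre_f IH (LK LD1_c20 LD2_c9 LD3_c31) (LK LD1_c11 LD2_c14 LD3_c30) Lrfl Lrfl
theorem f381250 : Led Lsl_et (LP (LK LD1_c11 LD2_c16 LD3_c60)) = (LP (LK LD1_c20 LD2_c9 LD3_c31)) :=
  Lgr Lrot69 (Lpe (f381249 IH) (Lpe (f381149 IH) (Lpr_ff (f381209 IH) (Lpe (f302425 IH) (Lpe (f302432 IH) (Lpn (LP (LK LD1_c20 LD2_c9 LD3_c31))))))))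
theorem f381254 : Led Lsl_ef (LP (LK LD1_c11 LD2_c16 LD3_c60)) = (LP (LK LD1_c20 LD2_c9 LD3_c31)) :=
  Lgr Lrot88 (Lpr_et (f381250 IH) (Lpn (LP (LK LD1_c20 LD2_c9 LD3_c31))))
theorem f289289 : Led Lsl_at (LP (LK LD1_c11 LD2_c14 LD3_c35)) = (LP (LK LD1_c20 LD2_c9 LD3_c31)) :=
  Lre_a IH (LK LD1_c11 LD2_c14 LD3_c35) (LK LD1_c20 LD2_c9 LD3_c31) Lrfl Lrfl
theorem f381256 : Led Lsl_at (LP (LK LD1_c11 LD2_c16 LD3_c60)) = (LP (LK LD1_c11 LD2_c6 LD3_c32)) :=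
  Lgr Lrot80 (Lpr_ef (f381254 IH) (Lpe (f289289 IH) (Lpe (K17.f289357 IH) (Lpn (LP (LK LD1_c11 LD2_c6 LD3_c32))))))
theorem f381261 : Led Lsl_ft (LP (LK LD1_c11 LD2_c6 LD3_c32)) = (LP (LK LD1_c5 LD2_c37 LD3_c22)) :=
  Lre_f IH (LK LD1_c11 LD2_c6 LD3_c32) (LK LD1_c5 LD2_c37 LD3_c22) Lrfl Lrfl
theorem f381262 : Led Lsl_af (LP (LK LD1_c5 LD2_c43 LD3_c27)) = (LP (LK LD1_c5 LD2_c37 LD3_c22)) :=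
  Lgr Lrot45 (Lpr_ft (f381249 IH) (Lpr_at (f381256 IH) (Lpr_ft (f381261 IH) (Lpn (LP (LK LD1_c5 LD2_c37 LD3_c22))))))
theorem f381271 : Led Lsl_ct (LP (LK LD1_c5 LD2_c43 LD3_c27)) = (LP (LK LD1_c11 LD2_c16 LD3_c57)) :=
  Lre_c IH (LK LD1_c5 LD2_c43 LD3_c27) (LK LD1_c11 LD2_c16 LD3_c57) Lrfl Lrfl
theorem f381272 : Led Lsl_ct (LP (LK LD1_c11 LD2_c6 LD3_c29)) = (LP (LK LD1_c5 LD2_c37 LD3_c22)) :=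
  Lre_c IH (LK LD1_c11 LD2_c6 LD3_c29) (LK LD1_c5 LD2_c37 LD3_c22) Lrfl Lrfl
theorem f381273 : Led Lsl_at (LP (LK LD1_c11 LD2_c16 LD3_c57)) = (LP (LK LD1_c11 LD2_c6 LD3_c29)) :=
  Lgr Lrot107 (Lpe (f381271 IH) (Lpr_af (f381262 IH) (Lpe (f381272 IH) (Lpn (LP (LK LD1_c11 LD2_c6 LD3_c29))))))
theorem f381242 : Led Lsl_et (LP (LK LD1_c5 LD2_c43 LD3_c26)) = (LP (LK LD1_c11 LD2_c16 LD3_c57)) :=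
  Lre_e IH (LK LD1_c5 LD2_c43 LD3_c26) (LK LD1_c11 LD2_c16 LD3_c57) Lrfl Lrfl
theorem f381283 : Led Lsl_et (LP (LK LD1_c11 LD2_c6 LD3_c29)) = (LP (LK LD1_c5 LD2_c37 LD3_c21)) :=
  Lre_e IH (LK LD1_c11 LD2_c6 LD3_c29) (LK LD1_c5 LD2_c37 LD3_c21) Lrfl Lrfl
theorem f381284 : Led Lsl_af (LP (LK LD1_c5 LD2_c43 LD3_c26)) = (LP (LK LD1_c5 LD2_c37 LD3_c21)) :=
  Lgr Lrot50 (Lpr_et (f381242 IH) (Lpr_at (f381273 IH) (Lpr_et (f381283 IH) (Lpn (LP (LK LD1_c5 LD2_c37 LD3_c21))))))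
theorem f381289 : Led Lsl_ft (LP (LK LD1_c5 LD2_c42 LD3_c8)) = (LP (LK LD1_c5 LD2_c37 LD3_c21)) :=
  Lgr Lrot101 (Lpe (f174277 IH) (Lpe (f381195 IH) (Lpr_af (f381284 IH) (Lpn (LP (LK LD1_c5 LD2_c37 LD3_c21))))))
theorem f174149 : Led Lsl_et (LP (LK LD1_c5 LD2_c33 LD3_c15)) = (LP (LK LD1_c2 LD2_c42 LD3_c46)) :=
  Lre_e IH (LK LD1_c5 LD2_c33 LD3_c15) (LK LD1_c2 LD2_c42 LD3_c46) Lrfl Lrfl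
theorem f174151 : Led Lsl_cf (LP (LK LD1_c5 LD2_c33 LD3_c15)) = (LP (LK LD1_c2 LD2_c47 LD3_c3)) :=
  Lgr Lrot39 (Lpr_et (f174149 IH) (Lpr_ct (K9.f174129 IH) (Lpr_et (K17.f174150 IH) (Lpn (LP (LK LD1_c2 LD2_c47 LD3_c3))))))
theorem f174247 : Led Lsl_ct (LP (LK LD1_c5 LD2_c33 LD3_c15)) = (LP (LK LD1_c2 LD2_c47 LD3_c3)) :=
  Lgr Lrot59 (Lpr_cf (f174151 IH) (Lpn (LP (LK LD1_c2 LD2_c47 LD3_c3))))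
theorem f174257 : Led Lsl_bt (LP (LK LD1_c10 LD2_c58 LD3_c29)) = (LP (LK LD1_c5 LD2_c33 LD3_c15)) :=
  Lre_b IH (LK LD1_c10 LD2_c58 LD3_c29) (LK LD1_c5 LD2_c33 LD3_c15) Lrfl Lrfl
theorem f174258 : Led Lsl_ct (LP (LK LD1_c19 LD2_c48 LD3_c57)) = (LP (LK LD1_c10 LD2_c58 LD3_c29)) :=
  Lre_c IH (LK LD1_c19 LD2_c48 LD3_c57) (LK LD1_c10 LD2_c58 LD3_c29) Lrfl Lrfl
theorem f174253 : Led Lsl_bt (LP (LK LD1_c2 LD2_c47 LD3_c3)) = (LP (LK LD1_c5 LD2_c42 LD3_c9)) :=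
  Lre_b IH (LK LD1_c2 LD2_c47 LD3_c3) (LK LD1_c5 LD2_c42 LD3_c9) Lrfl Lrfl
theorem f174259 : Led Lsl_ct (LP (LK LD1_c5 LD2_c42 LD3_c9)) = (LP (LK LD1_c11 LD2_c14 LD3_c32)) :=
  Lre_c IH (LK LD1_c5 LD2_c42 LD3_c9) (LK LD1_c11 LD2_c14 LD3_c32) Lrfl Lrfl
theorem f174260 : Led Lsl_bf (LP (LK LD1_c19 LD2_c48 LD3_c57)) = (LP (LK LD1_c11 LD2_c14 LD3_c32)) :=
  Lgr Lrot90 (Lpr_ct (f174258 IH) (Lpr_bt (f174257 IH) (Lpr_ct (f174247 IH) (Lpr_bt (f174253 IH) (Lpr_ct (f174259 IH) (Lpn (LP (LK LD1_c11 LD2_c14 LD3_c32))))))))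
theorem f174265 : Led Lsl_et (LP (LK LD1_c19 LD2_c48 LD3_c57)) = (LP (LK LD1_c10 LD2_c58 LD3_c28)) :=
  Lre_e IH (LK LD1_c19 LD2_c48 LD3_c57) (LK LD1_c10 LD2_c58 LD3_c28) Lrfl Lrfl
theorem f174266 : Led Lsl_et (LP (LK LD1_c5 LD2_c42 LD3_c8)) = (LP (LK LD1_c11 LD2_c14 LD3_c32)) :=
  Lre_e IH (LK LD1_c5 LD2_c42 LD3_c8) (LK LD1_c11 LD2_c14 LD3_c32) Lrfl Lrfl
theorem f174267 : Led Lsl_bt (LP (LK LD1_c10 LD2_c58 LD3_c28)) = (LP (LK LD1_c5 LD2_c42 LD3_c8)) :=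
  Lgr Lrot119 (Lpe (f174265 IH) (Lpr_bf (f174260 IH) (Lpe (f174266 IH) (Lpn (LP (LK LD1_c5 LD2_c42 LD3_c8))))))
theorem f381291 : Led Lsl_ff (LP (LK LD1_c10 LD2_c58 LD3_c28)) = (LP (LK LD1_c10 LD2_c48 LD3_c3)) :=
  Lgr Lrot25 (Lpr_bt (f174267 IH) (Lpr_ft (f381289 IH) (Lpr_bt (f226686 IH) (Lpn (LP (LK LD1_c10 LD2_c48 LD3_c3))))))
theorem f381308 : Led Lsl_ft (LP (LK LD1_c10 LD2_c58 LD3_c28)) = (LP (LK LD1_c10 LD2_c48 LD3_c3)) :=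
  Lgr Lrot48 (Lpr_ff (f381291 IH) (Lpn (LP (LK LD1_c10 LD2_c48 LD3_c3))))
theorem f174193 : Led Lsl_gt (LP (LK LD1_c10 LD2_c58 LD3_c28)) = (LP (LK LD1_c19 LD2_c48 LD3_c56)) :=
  Lre_g IH (LK LD1_c10 LD2_c58 LD3_c28) (LK LD1_c19 LD2_c48 LD3_c56) Lrfl Lrfl
theorem f381311 : Led Lsl_at (LP (LK LD1_c10 LD2_c48 LD3_c3)) = (LP (LK LD1_c19 LD2_c32 LD3_c13)) :=
  Lre_a IH (LK LD1_c10 LD2_c48 LD3_c3) (LK LD1_c19 LD2_c32 LD3_c13) Lrfl Lrfl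
theorem f381315 : Led Lsl_gt (LP (LK LD1_c19 LD2_c48 LD3_c56)) = (LP (LK LD1_c19 LD2_c32 LD3_c13)) :=
  Lgr Lrot46 (Lpe (f174193 IH) (Lpr_ft (f381308 IH) (Lpr_at (f381311 IH) (Lpn (LP (LK LD1_c19 LD2_c32 LD3_c13))))))
theorem f382622 : Led Lsl_ff (LP (LK LD1_c19 LD2_c32 LD3_c16)) = (LP (LK LD1_c19 LD2_c48 LD3_c56)) :=
  Lgr Lrot52 (Lpe (f382465 IH) (Lpr_gf (f382620 IH) (Lpe (f381315 IH) (Lpn (LP (LK LD1_c19 LD2_c48 LD3_c56))))))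
theorem f382626 : Led Lsl_ft (LP (LK LD1_c19 LD2_c32 LD3_c16)) = (LP (LK LD1_c19 LD2_c48 LD3_c56)) :=
  Lgr Lrot48 (Lpr_ff (f382622 IH) (Lpn (LP (LK LD1_c19 LD2_c48 LD3_c56))))
theorem f221977 : Led Lsl_cf (LP (LK LD1_c8 LD2_c22 LD3_c1)) = (LP (LK LD1_c8 LD2_c12 LD3_c59)) :=
  Lgr Lrot97 (Lpr_bt (K20.f219785 IH) (Lpr_ct (K16.f221917 IH) (Lpr_bt (K12.f48034 IH) (Lpr_ct (K12.f53771 IH) (Lpr_bt (K20.f53808 IH) (Lpn (LP (LK LD1_c8 LD2_c12 LD3_c59))))))))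
theorem f221982 : Led Lsl_ct (LP (LK LD1_c8 LD2_c22 LD3_c1)) = (LP (LK LD1_c8 LD2_c12 LD3_c59)) :=
  Lgr Lrot59 (Lpr_cf (f221977 IH) (Lpn (LP (LK LD1_c8 LD2_c12 LD3_c59))))
theorem f221921 : Led Lsl_at (LP (LK LD1_c15 LD2_c44 LD3_c44)) = (LP (LK LD1_c8 LD2_c22 LD3_c1)) :=
  Lre_a IH (LK LD1_c15 LD2_c44 LD3_c44) (LK LD1_c8 LD2_c22 LD3_c1) Lrfl Lrfl
theorem f53807 : Led Lsl_at (LP (LK LD1_c8 LD2_c12 LD3_c59)) = (LP (LK LD1_c15 LD2_c27 LD3_c18)) :=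
  Lre_a IH (LK LD1_c8 LD2_c12 LD3_c59) (LK LD1_c15 LD2_c27 LD3_c18) Lrfl Lrfl
theorem f221987 : Led Lsl_cf (LP (LK LD1_c15 LD2_c44 LD3_c44)) = (LP (LK LD1_c15 LD2_c27 LD3_c18)) :=
  Lgr Lrot1 (Lpr_at (f221921 IH) (Lpr_ct (f221982 IH) (Lpr_at (f53807 IH) (Lpn (LP (LK LD1_c15 LD2_c27 LD3_c18))))))
theorem f382628 : Led Lsl_af (LP (LK LD1_c16 LD2_c7 LD3_c12)) = (LP (LK LD1_c19 LD2_c48 LD3_c56)) :=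
  Lgr Lrot45 (Lpr_ft (K17.f188874 IH) (Lpr_at (f382463 IH) (Lpr_ft (f382626 IH) (Lpn (LP (LK LD1_c19 LD2_c48 LD3_c56))))))
theorem f290352 : Led Lsl_ct (LP (LK LD1_c16 LD2_c41 LD3_c32)) = (LP (LK LD1_c16 LD2_c7 LD3_c12)) :=
  Lgr Lrot40 (Lpr_ff (K17.f290346 IH) (Lpe (K17.f290333 IH) (Lpe (K17.f188874 IH) (Lpn (LP (LK LD1_c16 LD2_c7 LD3_c12))))))
theorem f174414 : Led Lsl_dt (LP (LK LD1_c8 LD2_c55 LD3_c13)) = (LP (LK LD1_c16 LD2_c41 LD3_c32)) :=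
  Lre_d IH (LK LD1_c8 LD2_c55 LD3_c13) (LK LD1_c16 LD2_c41 LD3_c32) Lrfl Lrfl
theorem f174069 : Led Lsl_dt (LP (LK LD1_c8 LD2_c55 LD3_c14)) = (LP (LK LD1_c4 LD2_c28 LD3_c31)) :=
  Lre_d IH (LK LD1_c8 LD2_c55 LD3_c14) (LK LD1_c4 LD2_c28 LD3_c31) Lrfl Lrfl
theorem f290488 : Led Lsl_ct (LP (LK LD1_c16 LD2_c41 LD3_c34)) = (LP (LK LD1_c8 LD2_c55 LD3_c14)) :=
  Lre_c IH (LK LD1_c16 LD2_c41 LD3_c34) (LK LD1_c8 LD2_c55 LD3_c14) Lrfl Lrfl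
theorem f382632 : Led Lsl_dt (LP (LK LD1_c15 LD2_c44 LD3_c44)) = (LP (LK LD1_c16 LD2_c41 LD3_c34)) :=
  Lgr Lrot32 (Lpr_cf (f221987 IH) (Lpr_df (f382469 IH) (Lpr_ft (f382626 IH) (Lpe (f382628 IH) (Lpe (f290352 IH) (Lpe (f174414 IH) (Lpe (K17.f174060 IH) (Lpe (f174069 IH) (Lpe (f290488 IH) (Lpn (LP (LK LD1_c16 LD2_c41 LD3_c34))))))))))))
theorem f174057 : Led Lsl_at (LP (LK LD1_c16 LD2_c41 LD3_c22)) = (LP (LK LD1_c8 LD2_c55 LD3_c13)) :=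
  Lre_a IH (LK LD1_c16 LD2_c41 LD3_c22) (LK LD1_c8 LD2_c55 LD3_c13) Lrfl Lrfl
theorem f290356 : Led Lsl_ft (LP (LK LD1_c8 LD2_c55 LD3_c8)) = (LP (LK LD1_c16 LD2_c41 LD3_c22)) :=
  Lre_f IH (LK LD1_c8 LD2_c55 LD3_c8) (LK LD1_c16 LD2_c41 LD3_c22) Lrfl Lrfl
theorem f224519 : Led Lsl_dt (LP (LK LD1_c8 LD2_c55 LD3_c8)) = (LP (LK LD1_c16 LD2_c41 LD3_c20)) :=
  Lre_d IH (LK LD1_c8 LD2_c55 LD3_c8) (LK LD1_c16 LD2_c41 LD3_c20) Lrfl Lrfl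
theorem f382636 : Led Lsl_cf (LP (LK LD1_c19 LD2_c32 LD3_c16)) = (LP (LK LD1_c16 LD2_c41 LD3_c20)) :=
  Lgr Lrot118 (Lpe (f382469 IH) (Lpe (f221987 IH) (Lpr_dt (f382632 IH) (Lpr_ct (f290488 IH) (Lpr_dt (f174069 IH) (Lpr_ct (K17.f174060 IH) (Lpe (f174057 IH) (Lpe (f290356 IH) (Lpr_dt (f224519 IH) (Lpn (LP (LK LD1_c16 LD2_c41 LD3_c20))))))))))))
theorem f188881 : Led Lsl_dt (LP (LK LD1_c16 LD2_c7 LD3_c12)) = (LP (LK LD1_c8 LD2_c35 LD3_c56)) :=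
  Lre_d IH (LK LD1_c16 LD2_c7 LD3_c12) (LK LD1_c8 LD2_c35 LD3_c56) Lrfl Lrfl
theorem f188886 : Led Lsl_et (LP (LK LD1_c16 LD2_c7 LD3_c13)) = (LP (LK LD1_c8 LD2_c35 LD3_c56)) :=
  Lre_e IH (LK LD1_c16 LD2_c7 LD3_c13) (LK LD1_c8 LD2_c35 LD3_c56) Lrfl Lrfl
theorem f221870 : Led Lsl_ct (LP (LK LD1_c8 LD2_c35 LD3_c56)) = (LP (LK LD1_c8 LD2_c34 LD3_c57)) :=
  Lgr Lrot15 (Lpe (f188886 IH) (Lpr_cf (K20.f221864 IH) (Lpe (K20.f221869 IH) (Lpn (LP (LK LD1_c8 LD2_c34 LD3_c57))))))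
theorem f224524 : Led Lsl_dt (LP (LK LD1_c8 LD2_c55 LD3_c9)) = (LP (LK LD1_c4 LD2_c28 LD3_c30)) :=
  Lre_d IH (LK LD1_c8 LD2_c55 LD3_c9) (LK LD1_c4 LD2_c28 LD3_c30) Lrfl Lrfl
theorem f344496 : Led Lsl_bt (LP (LK LD1_c8 LD2_c33 LD3_c61)) = (LP (LK LD1_c16 LD2_c4 LD3_c45)) :=
  Lre_b IH (LK LD1_c8 LD2_c33 LD3_c61) (LK LD1_c16 LD2_c4 LD3_c45) Lrfl Lrfl
theorem f48071 : Led Lsl_bt (LP (LK LD1_c19 LD2_c6 LD3_c15)) = (LP (LK LD1_c10 LD2_c32 LD3_c55)) :=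
  Lre_b IH (LK LD1_c19 LD2_c6 LD3_c15) (LK LD1_c10 LD2_c32 LD3_c55) Lrfl Lrfl
theorem f275500 : Led Lsl_cf (LP (LK LD1_c24 LD2_c52 LD3_c47)) = (LP (LK LD1_c18 LD2_c3 LD3_c2)) :=
  Lgr Lrot11 (Lpr_ct (K20.f275490 IH) (Lpn (LP (LK LD1_c18 LD2_c3 LD3_c2))))
theorem f275503 : Led Lsl_bt (LP (LK LD1_c24 LD2_c52 LD3_c47)) = (LP (LK LD1_c15 LD2_c3 LD3_c38)) :=
  Lre_b IH (LK LD1_c24 LD2_c52 LD3_c47) (LK LD1_c15 LD2_c3 LD3_c38) Lrfl Lrfl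
theorem f219386 : Led Lsl_bt (LP (LK LD1_c9 LD2_c51 LD3_c43)) = (LP (LK LD1_c18 LD2_c3 LD3_c2)) :=
  Lre_b IH (LK LD1_c9 LD2_c51 LD3_c43) (LK LD1_c18 LD2_c3 LD3_c2) Lrfl Lrfl
theorem f275504 : Led Lsl_ct (LP (LK LD1_c15 LD2_c3 LD3_c38)) = (LP (LK LD1_c15 LD2_c47 LD3_c39)) :=
  Lgr Lrot83 (Lpe (f275503 IH) (Lpr_cf (f275500 IH) (Lpe (f219386 IH) (Lpr_cf (K12.f219384 IH) (Lpe (K20.f219387 IH) (Lpn (LP (LK LD1_c15 LD2_c47 LD3_c39))))))))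
theorem f221041 : Led Lsl_gt (LP (LK LD1_c2 LD2_c42 LD3_c52)) = (LP (LK LD1_c1 LD2_c17 LD3_c57)) :=
  Lre_g IH (LK LD1_c2 LD2_c42 LD3_c52) (LK LD1_c1 LD2_c17 LD3_c57) Lrfl Lrfl
theorem f221042 : Led Lsl_ct (LP (LK LD1_c5 LD2_c33 LD3_c29)) = (LP (LK LD1_c2 LD2_c42 LD3_c52)) :=
  Lre_c IH (LK LD1_c5 LD2_c33 LD3_c29) (LK LD1_c2 LD2_c42 LD3_c52) Lrfl Lrfl
theorem f221043 : Led Lsl_bt (LP (LK LD1_c5 LD2_c33 LD3_c29)) = (LP (LK LD1_c10 LD2_c58 LD3_c58)) :=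
  Lre_b IH (LK LD1_c5 LD2_c33 LD3_c29) (LK LD1_c10 LD2_c58 LD3_c58) Lrfl Lrfl
theorem f219016 : Led Lsl_bt (LP (LK LD1_c4 LD2_c1 LD3_c5)) = (LP (LK LD1_c8 LD2_c2 LD3_c54)) :=
  Lre_b IH (LK LD1_c4 LD2_c1 LD3_c5) (LK LD1_c8 LD2_c2 LD3_c54) Lrfl Lrfl
theorem f238352 : Led Lsl_gf (LP (LK LD1_c10 LD2_c58 LD3_c58)) = (LP (LK LD1_c8 LD2_c2 LD3_c54)) :=
  Lgr Lrot124 (Lpe (f221043 IH) (Lpr_ct (f221042 IH) (Lpr_gt (f221041 IH) (Lpe (K22.f220924 IH) (Lpe (K20.f220946 IH) (Lpr_gt (K15.f238333 IH) (Lpr_ct (K10.f52242 IH) (Lpr_gt (K12.f28175 IH) (Lpe (K12.f52270 IH) (Lpr_bt (f219016 IH) (Lpn (LP (LK LD1_c8 LD2_c2 LD3_c54)))))))))))))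
theorem f238385 : Led Lsl_ct (LP (LK LD1_c19 LD2_c49 LD3_c20)) = (LP (LK LD1_c10 LD2_c58 LD3_c58)) :=
  Lre_c IH (LK LD1_c19 LD2_c49 LD3_c20) (LK LD1_c10 LD2_c58 LD3_c58) Lrfl Lrfl
theorem f238386 : Led Lsl_bt (LP (LK LD1_c19 LD2_c49 LD3_c20)) = (LP (LK LD1_c10 LD2_c58 LD3_c55)) :=
  Lre_b IH (LK LD1_c19 LD2_c49 LD3_c20) (LK LD1_c10 LD2_c58 LD3_c55) Lrfl Lrfl
theorem f218698 : Led Lsl_bt (LP (LK LD1_c3 LD2_c58 LD3_c30)) = (LP (LK LD1_c7 LD2_c58 LD3_c26)) :=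
  Lre_b IH (LK LD1_c3 LD2_c58 LD3_c30) (LK LD1_c7 LD2_c58 LD3_c26) Lrfl Lrfl
theorem f218699 : Led Lsl_ct (LP (LK LD1_c7 LD2_c58 LD3_c26)) = (LP (LK LD1_c8 LD2_c2 LD3_c54)) :=
  Lgr Lrot83 (Lpe (f218698 IH) (Lpr_cf (K12.f217473 IH) (Lpe (K16.f217490 IH) (Lpe (K12.f52270 IH) (Lpe (K17.f200728 IH) (Lpn (LP (LK LD1_c8 LD2_c2 LD3_c54))))))))
theorem f42773 : Led Lsl_bt (LP (LK LD1_c7 LD2_c58 LD3_c26)) = (LP (LK LD1_c3 LD2_c58 LD3_c30)) :=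
  Lre_b IH (LK LD1_c7 LD2_c58 LD3_c26) (LK LD1_c3 LD2_c58 LD3_c30) Lrfl Lrfl
theorem f238387 : Led Lsl_gt (LP (LK LD1_c10 LD2_c58 LD3_c55)) = (LP (LK LD1_c7 LD2_c58 LD3_c59)) :=
  Lgr Lrot82 (Lpe (f238386 IH) (Lpr_ct (f238385 IH) (Lpr_gf (f238352 IH) (Lpe (f218699 IH) (Lpr_bt (f42773 IH) (Lpe (K12.f54668 IH) (Lpe (K16.f54893 IH) (Lpr_ct (K16.f54885 IH) (Lpe (K16.f54804 IH) (Lpe (K16.f174029 IH) (Lpn (LP (LK LD1_c7 LD2_c58 LD3_c59)))))))))))))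
theorem f238380 : Led Lsl_ct (LP (LK LD1_c10 LD2_c58 LD3_c58)) = (LP (LK LD1_c19 LD2_c49 LD3_c20)) :=
  Lre_c IH (LK LD1_c10 LD2_c58 LD3_c58) (LK LD1_c19 LD2_c49 LD3_c20) Lrfl Lrfl
theorem f187921 : Led Lsl_bt (LP (LK LD1_c4 LD2_c1 LD3_c7)) = (LP (LK LD1_c8 LD2_c2 LD3_c60)) :=
  Lre_b IH (LK LD1_c4 LD2_c1 LD3_c7) (LK LD1_c8 LD2_c2 LD3_c60) Lrfl Lrfl
theorem f187922 : Led Lsl_gt (LP (LK LD1_c8 LD2_c2 LD3_c60)) = (LP (LK LD1_c15 LD2_c9 LD3_c21)) :=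
  Lre_g IH (LK LD1_c8 LD2_c2 LD3_c60) (LK LD1_c15 LD2_c9 LD3_c21) Lrfl Lrfl
theorem f275507 : Led Lsl_df (LP (LK LD1_c10 LD2_c58 LD3_c58)) = (LP (LK LD1_c15 LD2_c9 LD3_c21)) :=
  Lgr Lrot183 (Lpr_ct (f238380 IH) (Lpr_bt (f238386 IH) (Lpr_gt (f238387 IH) (Lpr_dt (K20.f174026 IH) (Lpr_ct (f275504 IH) (Lpr_bt (K20.f219387 IH) (Lpr_gt (K15.f219763 IH) (Lpr_dt (K15.f219660 IH) (Lpr_ct (K15.f167183 IH) (Lpr_bt (K12.f167094 IH) (Lpe (K12.f220046 IH) (Lpr_dt (K12.f220062 IH) (Lpe (K12.f220209 IH) (Lpr_bt (K12.f220211 IH) (Lpe (K12.f200389 IH) (Lpr_dt (K10.f187913 IH) (Lpr_ct (K12.f187915 IH) (Lpr_bt (f187921 IH) (Lpr_gt (f187922 IH) (Lpn (LP (LK LD1_c15 LD2_c9 LD3_c21))))))))))))))))))))))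
theorem f275512 : Led Lsl_dt (LP (LK LD1_c10 LD2_c58 LD3_c58)) = (LP (LK LD1_c15 LD2_c9 LD3_c21)) :=
  Lgr Lrot42 (Lpr_df (f275507 IH) (Lpn (LP (LK LD1_c15 LD2_c9 LD3_c21))))
theorem f223482 : Led Lsl_ct (LP (LK LD1_c15 LD2_c9 LD3_c21)) = (LP (LK LD1_c24 LD2_c58 LD3_c18)) :=
  Lre_c IH (LK LD1_c15 LD2_c9 LD3_c21) (LK LD1_c24 LD2_c58 LD3_c18) Lrfl Lrfl
theorem f223481 : Led Lsl_gt (LP (LK LD1_c8 LD2_c54 LD3_c36)) = (LP (LK LD1_c4 LD2_c28 LD3_c15)) :=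
  Lre_g IH (LK LD1_c8 LD2_c54 LD3_c36) (LK LD1_c4 LD2_c28 LD3_c15) Lrfl Lrfl
theorem f223491 : Led Lsl_bt (LP (LK LD1_c16 LD2_c40 LD3_c3)) = (LP (LK LD1_c8 LD2_c54 LD3_c36)) :=
  Lre_b IH (LK LD1_c16 LD2_c40 LD3_c3) (LK LD1_c8 LD2_c54 LD3_c36) Lrfl Lrfl
theorem f223492 : Led Lsl_ct (LP (LK LD1_c16 LD2_c40 LD3_c3)) = (LP (LK LD1_c16 LD2_c41 LD3_c18)) :=
  Lre_c IH (LK LD1_c16 LD2_c40 LD3_c3) (LK LD1_c16 LD2_c41 LD3_c18) Lrfl Lrfl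
theorem f223493 : Led Lsl_gt (LP (LK LD1_c8 LD2_c55 LD3_c8)) = (LP (LK LD1_c16 LD2_c41 LD3_c18)) :=
  Lre_g IH (LK LD1_c8 LD2_c55 LD3_c8) (LK LD1_c16 LD2_c41 LD3_c18) Lrfl Lrfl
theorem f223495 : Led Lsl_bt (LP (LK LD1_c4 LD2_c28 LD3_c30)) = (LP (LK LD1_c8 LD2_c55 LD3_c7)) :=
  Lre_b IH (LK LD1_c4 LD2_c28 LD3_c30) (LK LD1_c8 LD2_c55 LD3_c7) Lrfl Lrfl
theorem f223496 : Led Lsl_gt (LP (LK LD1_c16 LD2_c41 LD3_c13)) = (LP (LK LD1_c8 LD2_c55 LD3_c7)) :=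
  Lre_g IH (LK LD1_c16 LD2_c41 LD3_c13) (LK LD1_c8 LD2_c55 LD3_c7) Lrfl Lrfl
theorem f223497 : Led Lsl_ct (LP (LK LD1_c24 LD2_c58 LD3_c18)) = (LP (LK LD1_c15 LD2_c9 LD3_c21)) :=
  Lre_c IH (LK LD1_c24 LD2_c58 LD3_c18) (LK LD1_c15 LD2_c9 LD3_c21) Lrfl Lrfl
theorem f223498 : Led Lsl_bf (LP (LK LD1_c16 LD2_c41 LD3_c13)) = (LP (LK LD1_c24 LD2_c58 LD3_c18)) :=
  Lgr Lrot156 (Lpr_gt (f223496 IH) (Lpe (f223495 IH) (Lpr_ct (f223494 IH) (Lpr_gt (f223493 IH) (Lpe (f223492 IH) (Lpr_bt (f223491 IH) (Lpr_gt (f223481 IH) (Lpr_ct (K17.f223453 IH) (Lpr_gt (f187922 IH) (Lpe (f223497 IH) (Lpn (LP (LK LD1_c24 LD2_c58 LD3_c18)))))))))))))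
theorem f223503 : Led Lsl_dt (LP (LK LD1_c8 LD2_c55 LD3_c7)) = (LP (LK LD1_c16 LD2_c41 LD3_c16)) :=
  Lre_d IH (LK LD1_c8 LD2_c55 LD3_c7) (LK LD1_c16 LD2_c41 LD3_c16) Lrfl Lrfl
theorem f275518 : Led Lsl_cf (LP (LK LD1_c19 LD2_c6 LD3_c15)) = (LP (LK LD1_c16 LD2_c41 LD3_c16)) :=
  Lgr Lrot89 (Lpr_bt (f48071 IH) (Lpe (K15.f223128 IH) (Lpr_dt (K15.f211420 IH) (Lpr_ct (K18.f190815 IH) (Lpr_bt (K18.f211419 IH) (Lpr_gt (K12.f211417 IH) (Lpr_dt (K12.f200416 IH) (Lpe (K12.f211411 IH) (Lpr_bt (K12.f28826 IH) (Lpe (K13.f238503 IH) (Lpr_dt (K13.f223599 IH) (Lpr_ct (K12.f193339 IH) (Lpr_bt (f219016 IH) (Lpe (f238352 IH) (Lpr_dt (f275512 IH) (Lpr_ct (f223482 IH) (Lpe (f223498 IH) (Lpr_gt (f223496 IH) (Lpr_dt (f223503 IH) (Lpn (LP (LK LD1_c16 LD2_c41 LD3_c16))))))))))))))))))))))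
theorem f275520 : Led Lsl_bt (LP (LK LD1_c8 LD2_c55 LD3_c9)) = (LP (LK LD1_c16 LD2_c41 LD3_c16)) :=
  Lre_b IH (LK LD1_c8 LD2_c55 LD3_c9) (LK LD1_c16 LD2_c41 LD3_c16) Lrfl Lrfl
theorem f344558 : Led Lsl_ct (LP (LK LD1_c16 LD2_c4 LD3_c45)) = (LP (LK LD1_c8 LD2_c55 LD3_c9)) :=
  Lgr Lrot83 (Lpe (f344496 IH) (Lpr_cf (K23.f344510 IH) (Lpe (f48071 IH) (Lpr_cf (f275518 IH) (Lpe (f275520 IH) (Lpn (LP (LK LD1_c8 LD2_c55 LD3_c9))))))))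
theorem f382642 : Led Lsl_dt (LP (LK LD1_c8 LD2_c34 LD3_c57)) = (LP (LK LD1_c16 LD2_c4 LD3_c45)) :=
  Lgr Lrot173 (Lpe (f221870 IH) (Lpe (f188881 IH) (Lpe (f290352 IH) (Lpe (f174414 IH) (Lpe (K17.f174060 IH) (Lpe (f174069 IH) (Lpe (f290488 IH) (Lpe (f382632 IH) (Lpr_cf (f221987 IH) (Lpr_df (f382469 IH) (Lpr_cf (f382636 IH) (Lpe (f224519 IH) (Lpe (f223494 IH) (Lpe (f224524 IH) (Lpe (f344558 IH) (Lpn (LP (LK LD1_c16 LD2_c4 LD3_c45))))))))))))))))))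
theorem f221876 : Led Lsl_gt (LP (LK LD1_c16 LD2_c6 LD3_c12)) = (LP (LK LD1_c8 LD2_c34 LD3_c57)) :=
  Lre_g IH (LK LD1_c16 LD2_c6 LD3_c12) (LK LD1_c8 LD2_c34 LD3_c57) Lrfl Lrfl
theorem f173524 : Led Lsl_gt (LP (LK LD1_c5 LD2_c44 LD3_c39)) = (LP (LK LD1_c8 LD2_c59 LD3_c26)) :=
  Lre_g IH (LK LD1_c5 LD2_c44 LD3_c39) (LK LD1_c8 LD2_c59 LD3_c26) Lrfl Lrfl
theorem f178807 : Led Lsl_bt (LP (LK LD1_c4 LD2_c13 LD3_c1)) = (LP (LK LD1_c8 LD2_c25 LD3_c15)) :=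
  Lre_b IH (LK LD1_c4 LD2_c13 LD3_c1) (LK LD1_c8 LD2_c25 LD3_c15) Lrfl Lrfl
theorem f178810 : Led Lsl_gt (LP (LK LD1_c8 LD2_c25 LD3_c15)) = (LP (LK LD1_c15 LD2_c49 LD3_c21)) :=
  Lre_g IH (LK LD1_c8 LD2_c25 LD3_c15) (LK LD1_c15 LD2_c49 LD3_c21) Lrfl Lrfl
theorem f255935 : Led Lsl_df (LP (LK LD1_c10 LD2_c58 LD3_c28)) = (LP (LK LD1_c15 LD2_c49 LD3_c21)) :=
  Lgr Lrot183 (Lpr_ct (f174143 IH) (Lpr_bt (f174142 IH) (Lpr_gt (K9.f174155 IH) (Lpr_dt (K9.f174154 IH) (Lpe (K17.f238321 IH) (Lpr_bt (K13.f238327 IH) (Lpr_gt (K11.f27782 IH) (Lpr_dt (K10.f52670 IH) (Lpr_ct (K10.f52669 IH) (Lpr_bt (K10.f7995 IH) (Lpr_gt (K9.f6791 IH) (Lpr_dt (K9.f6797 IH) (Lpr_ct (K14.f6824 IH) (Lpr_bt (K14.f200386 IH) (Lpr_gt (K14.f200612 IH) (Lpr_dt (K14.f255928 IH) (Lpr_ct (K14.f178806 IH)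 (Lpr_bt (f178807 IH) (Lpr_gt (f178810 IH) (Lpn (LP (LK LD1_c15 LD2_c49 LD3_c21))))))))))))))))))))))
theorem f225815 : Led Lsl_bt (LP (LK LD1_c2 LD2_c11 LD3_c31)) = (LP (LK LD1_c4 LD2_c28 LD3_c55)) :=
  Lre_b IH (LK LD1_c2 LD2_c11 LD3_c31) (LK LD1_c4 LD2_c28 LD3_c55) Lrfl Lrfl
theorem f225816 : Led Lsl_dt (LP (LK LD1_c4 LD2_c28 LD3_c55)) = (LP (LK LD1_c5 LD2_c33 LD3_c14)) :=
  Lgr Lrot79 (Lpe (f225815 IH) (Lpr_df (K12.f225705 IH) (Lpe (f174142 IH) (Lpn (LP (LK LD1_c5 LD2_c33 LD3_c14))))))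
theorem f173507 : Led Lsl_gt (LP (LK LD1_c8 LD2_c56 LD3_c7)) = (LP (LK LD1_c4 LD2_c28 LD3_c55)) :=
  Lre_g IH (LK LD1_c8 LD2_c56 LD3_c7) (LK LD1_c4 LD2_c28 LD3_c55) Lrfl Lrfl
theorem f173404 : Led Lsl_bt (LP (LK LD1_c2 LD2_c11 LD3_c34)) = (LP (LK LD1_c4 LD2_c28 LD3_c60)) :=
  Lre_b IH (LK LD1_c2 LD2_c11 LD3_c34) (LK LD1_c4 LD2_c28 LD3_c60) Lrfl Lrfl
theorem f173405 : Led Lsl_gt (LP (LK LD1_c4 LD2_c28 LD3_c60)) = (LP (LK LD1_c8 LD2_c56 LD3_c18)) :=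
  Lre_g IH (LK LD1_c4 LD2_c28 LD3_c60) (LK LD1_c8 LD2_c56 LD3_c18) Lrfl Lrfl
theorem f173406 : Led Lsl_ct (LP (LK LD1_c8 LD2_c56 LD3_c18)) = (LP (LK LD1_c16 LD2_c43 LD3_c53)) :=
  Lre_c IH (LK LD1_c8 LD2_c56 LD3_c18) (LK LD1_c16 LD2_c43 LD3_c53) Lrfl Lrfl
theorem f168863 : Led Lsl_ct (LP (LK LD1_c1 LD2_c3 LD3_c1)) = (LP (LK LD1_c0 LD2_c37 LD3_c12)) :=
  Lre_c IH (LK LD1_c1 LD2_c3 LD3_c1) (LK LD1_c0 LD2_c37 LD3_c12) Lrfl Lrfl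
theorem f173407 : Led Lsl_bt (LP (LK LD1_c1 LD2_c3 LD3_c1)) = (LP (LK LD1_c2 LD2_c12 LD3_c13)) :=
  Lre_b IH (LK LD1_c1 LD2_c3 LD3_c1) (LK LD1_c2 LD2_c12 LD3_c13) Lrfl Lrfl
theorem f173408 : Led Lsl_gt (LP (LK LD1_c4 LD2_c30 LD3_c32)) = (LP (LK LD1_c2 LD2_c12 LD3_c13)) :=
  Lre_g IH (LK LD1_c4 LD2_c30 LD3_c32) (LK LD1_c2 LD2_c12 LD3_c13) Lrfl Lrfl
theorem f173409 : Led Lsl_bt (LP (LK LD1_c8 LD2_c59 LD3_c22)) = (LP (LK LD1_c4 LD2_c30 LD3_c32)) :=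
  Lre_b IH (LK LD1_c8 LD2_c59 LD3_c22) (LK LD1_c4 LD2_c30 LD3_c32) Lrfl Lrfl
theorem f173410 : Led Lsl_ct (LP (LK LD1_c8 LD2_c59 LD3_c22)) = (LP (LK LD1_c16 LD2_c48 LD3_c41)) :=
  Lre_c IH (LK LD1_c8 LD2_c59 LD3_c22) (LK LD1_c16 LD2_c48 LD3_c41) Lrfl Lrfl
theorem f173411 : Led Lsl_gt (LP (LK LD1_c16 LD2_c43 LD3_c53)) = (LP (LK LD1_c16 LD2_c48 LD3_c41)) :=
  Lgr Lrot149 (Lpe (f173406 IH) (Lpe (f173405 IH) (Lpe (f173404 IH) (Lpr_ct (K9.f173382 IH) (Lpe (K9.f173364 IH) (Lpe (f168863 IH) (Lpr_bt (f173407 IH) (Lpe (f173408 IH) (Lpe (f173409 IH) (Lpr_ct (f173410 IH) (Lpn (LP (LK LD1_c16 LD2_c48 LD3_c41)))))))))))))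
theorem f173482 : Led Lsl_dt (LP (LK LD1_c2 LD2_c11 LD3_c33)) = (LP (LK LD1_c4 LD2_c28 LD3_c60)) :=
  Lre_d IH (LK LD1_c2 LD2_c11 LD3_c33) (LK LD1_c4 LD2_c28 LD3_c60) Lrfl Lrfl
theorem f173476 : Led Lsl_gt (LP (LK LD1_c2 LD2_c11 LD3_c33)) = (LP (LK LD1_c4 LD2_c28 LD3_c57)) :=
  Lre_g IH (LK LD1_c2 LD2_c11 LD3_c33) (LK LD1_c4 LD2_c28 LD3_c57) Lrfl Lrfl
theorem f173477 : Led Lsl_ct (LP (LK LD1_c4 LD2_c28 LD3_c57)) = (LP (LK LD1_c8 LD2_c56 LD3_c12)) :=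
  Lre_c IH (LK LD1_c4 LD2_c28 LD3_c57) (LK LD1_c8 LD2_c56 LD3_c12) Lrfl Lrfl
theorem f173478 : Led Lsl_gt (LP (LK LD1_c8 LD2_c56 LD3_c12)) = (LP (LK LD1_c16 LD2_c43 LD3_c38)) :=
  Lre_g IH (LK LD1_c8 LD2_c56 LD3_c12) (LK LD1_c16 LD2_c43 LD3_c38) Lrfl Lrfl
theorem f173479 : Led Lsl_ct (LP (LK LD1_c16 LD2_c43 LD3_c38)) = (LP (LK LD1_c16 LD2_c43 LD3_c29)) :=
  Lre_c IH (LK LD1_c16 LD2_c43 LD3_c38) (LK LD1_c16 LD2_c43 LD3_c29) Lrfl Lrfl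
theorem f173475 : Led Lsl_ct (LP (LK LD1_c16 LD2_c48 LD3_c41)) = (LP (LK LD1_c8 LD2_c59 LD3_c22)) :=
  Lre_c IH (LK LD1_c16 LD2_c48 LD3_c41) (LK LD1_c8 LD2_c59 LD3_c22) Lrfl Lrfl
theorem f173483 : Led Lsl_df (LP (LK LD1_c16 LD2_c43 LD3_c29)) = (LP (LK LD1_c8 LD2_c59 LD3_c22)) :=
  Lgr Lrot162 (Lpe (f173479 IH) (Lpe (f173478 IH) (Lpe (f173477 IH) (Lpe (f173476 IH) (Lpr_dt (f173482 IH) (Lpr_gt (f173405 IH) (Lpr_ct (f173406 IH) (Lpr_gt (f173411 IH) (Lpr_ct (f173475 IH) (Lpn (LP (LK LD1_c8 LD2_c59 LD3_c22))))))))))))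
theorem f173486 : Led Lsl_bt (LP (LK LD1_c16 LD2_c43 LD3_c29)) = (LP (LK LD1_c8 LD2_c56 LD3_c7)) :=
  Lre_b IH (LK LD1_c16 LD2_c43 LD3_c29) (LK LD1_c8 LD2_c56 LD3_c7) Lrfl Lrfl
theorem f173487 : Led Lsl_bt (LP (LK LD1_c4 LD2_c30 LD3_c32)) = (LP (LK LD1_c8 LD2_c59 LD3_c22)) :=
  Lre_b IH (LK LD1_c4 LD2_c30 LD3_c32) (LK LD1_c8 LD2_c59 LD3_c22) Lrfl Lrfl
theorem f173488 : Led Lsl_dt (LP (LK LD1_c8 LD2_c56 LD3_c7)) = (LP (LK LD1_c4 LD2_c30 LD3_c32)) :=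
  Lgr Lrot79 (Lpe (f173486 IH) (Lpr_df (f173483 IH) (Lpe (f173487 IH) (Lpn (LP (LK LD1_c4 LD2_c30 LD3_c32))))))
theorem f173497 : Led Lsl_df (LP (LK LD1_c8 LD2_c56 LD3_c7)) = (LP (LK LD1_c4 LD2_c30 LD3_c32)) :=
  Lgr Lrot38 (Lpr_dt (f173488 IH) (Lpn (LP (LK LD1_c4 LD2_c30 LD3_c32))))
theorem f173511 : Led Lsl_gt (LP (LK LD1_c2 LD2_c48 LD3_c36)) = (LP (LK LD1_c4 LD2_c30 LD3_c32)) :=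
  Lre_g IH (LK LD1_c2 LD2_c48 LD3_c36) (LK LD1_c4 LD2_c30 LD3_c32) Lrfl Lrfl
theorem f173526 : Led Lsl_ct (LP (LK LD1_c2 LD2_c48 LD3_c36)) = (LP (LK LD1_c5 LD2_c44 LD3_c39)) :=
  Lre_c IH (LK LD1_c2 LD2_c48 LD3_c36) (LK LD1_c5 LD2_c44 LD3_c39) Lrfl Lrfl
theorem f255941 : Led Lsl_dt (LP (LK LD1_c8 LD2_c59 LD3_c26)) = (LP (LK LD1_c8 LD2_c25 LD3_c15)) :=
  Lgr Lrot57 (Lpe (f173524 IH) (Lpe (f173526 IH) (Lpr_gt (f173511 IH) (Lpe (f173497 IH) (Lpr_gt (f173507 IH) (Lpr_dt (f225816 IH) (Lpe (f174143 IH) (Lpr_df (f255935 IH) (Lpe (f178810 IH) (Lpn (LP (LK LD1_c8 LD2_c25 LD3_c15))))))))))))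
theorem f178786 : Led Lsl_bt (LP (LK LD1_c8 LD2_c20 LD3_c45)) = (LP (LK LD1_c15 LD2_c42 LD3_c33)) :=
  Lre_b IH (LK LD1_c8 LD2_c20 LD3_c45) (LK LD1_c15 LD2_c42 LD3_c33) Lrfl Lrfl
theorem f178790 : Led Lsl_bt (LP (LK LD1_c15 LD2_c49 LD3_c23)) = (LP (LK LD1_c8 LD2_c25 LD3_c17)) :=
  Lre_b IH (LK LD1_c15 LD2_c49 LD3_c23) (LK LD1_c8 LD2_c25 LD3_c17) Lrfl Lrfl
theorem f178791 : Led Lsl_ct (LP (LK LD1_c15 LD2_c42 LD3_c33)) = (LP (LK LD1_c15 LD2_c49 LD3_c23)) :=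
  Lgr Lrot83 (Lpe (f178786 IH) (Lpr_cf (K18.f178782 IH) (Lpe (K18.f178788 IH) (Lpe (K22.f178789 IH) (Lpe (f178790 IH) (Lpn (LP (LK LD1_c15 LD2_c49 LD3_c23))))))))
theorem f178800 : Led Lsl_et (LP (LK LD1_c8 LD2_c20 LD3_c43)) = (LP (LK LD1_c15 LD2_c42 LD3_c33)) :=
  Lre_e IH (LK LD1_c8 LD2_c20 LD3_c43) (LK LD1_c15 LD2_c42 LD3_c33) Lrfl Lrfl
theorem f178801 : Led Lsl_et (LP (LK LD1_c15 LD2_c49 LD3_c23)) = (LP (LK LD1_c8 LD2_c25 LD3_c15)) :=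
  Lre_e IH (LK LD1_c15 LD2_c49 LD3_c23) (LK LD1_c8 LD2_c25 LD3_c15) Lrfl Lrfl
theorem f178802 : Led Lsl_cf (LP (LK LD1_c8 LD2_c20 LD3_c43)) = (LP (LK LD1_c8 LD2_c25 LD3_c15)) :=
  Lgr Lrot39 (Lpr_et (f178800 IH) (Lpr_ct (f178791 IH) (Lpr_et (f178801 IH) (Lpn (LP (LK LD1_c8 LD2_c25 LD3_c15))))))
theorem f178811 : Led Lsl_dt (LP (LK LD1_c15 LD2_c42 LD3_c32)) = (LP (LK LD1_c8 LD2_c20 LD3_c43)) :=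
  Lre_d IH (LK LD1_c15 LD2_c42 LD3_c32) (LK LD1_c8 LD2_c20 LD3_c43) Lrfl Lrfl
theorem f178812 : Led Lsl_gt (LP (LK LD1_c25 LD2_c38 LD3_c27)) = (LP (LK LD1_c15 LD2_c42 LD3_c32)) :=
  Lre_g IH (LK LD1_c25 LD2_c38 LD3_c27) (LK LD1_c15 LD2_c42 LD3_c32) Lrfl Lrfl
theorem f221967 : Led Lsl_at (LP (LK LD1_c8 LD2_c22 LD3_c1)) = (LP (LK LD1_c15 LD2_c44 LD3_c44)) :=
  Lre_a IH (LK LD1_c8 LD2_c22 LD3_c1) (LK LD1_c15 LD2_c44 LD3_c44) Lrfl Lrfl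
theorem f221980 : Led Lsl_ct (LP (LK LD1_c15 LD2_c44 LD3_c44)) = (LP (LK LD1_c15 LD2_c27 LD3_c18)) :=
  Lgr Lrot111 (Lpe (f221967 IH) (Lpr_cf (f221977 IH) (Lpe (K20.f53780 IH) (Lpn (LP (LK LD1_c15 LD2_c27 LD3_c18))))))
theorem f191976 : Led Lsl_bt (LP (LK LD1_c4 LD2_c11 LD3_c26)) = (LP (LK LD1_c8 LD2_c22 LD3_c36)) :=
  Lre_b IH (LK LD1_c4 LD2_c11 LD3_c26) (LK LD1_c8 LD2_c22 LD3_c36) Lrfl Lrfl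
theorem f221928 : Led Lsl_bt (LP (LK LD1_c8 LD2_c34 LD3_c56)) = (LP (LK LD1_c4 LD2_c18 LD3_c0)) :=
  Lre_b IH (LK LD1_c8 LD2_c34 LD3_c56) (LK LD1_c4 LD2_c18 LD3_c0) Lrfl Lrfl
theorem f221939 : Led Lsl_et (LP (LK LD1_c8 LD2_c22 LD3_c36)) = (LP (LK LD1_c8 LD2_c34 LD3_c56)) :=
  Lgr Lrot74 (Lpe (f191976 IH) (Lpr_ef (K20.f221937 IH) (Lpe (f221928 IH) (Lpn (LP (LK LD1_c8 LD2_c34 LD3_c56))))))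
theorem f188809 : Led Lsl_bt (LP (LK LD1_c4 LD2_c17 LD3_c39)) = (LP (LK LD1_c8 LD2_c34 LD3_c18)) :=
  Lre_b IH (LK LD1_c4 LD2_c17 LD3_c39) (LK LD1_c8 LD2_c34 LD3_c18) Lrfl Lrfl
theorem f191982 : Led Lsl_bt (LP (LK LD1_c8 LD2_c22 LD3_c36)) = (LP (LK LD1_c4 LD2_c11 LD3_c26)) :=
  Lre_b IH (LK LD1_c8 LD2_c22 LD3_c36) (LK LD1_c4 LD2_c11 LD3_c26) Lrfl Lrfl
theorem f191983 : Led Lsl_ft (LP (LK LD1_c8 LD2_c34 LD3_c18)) = (LP (LK LD1_c8 LD2_c22 LD3_c36)) :=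
  Lgr Lrot75 (Lpe (f188809 IH) (Lpr_ff (K17.f191979 IH) (Lpe (f191982 IH) (Lpn (LP (LK LD1_c8 LD2_c22 LD3_c36))))))
theorem f192017 : Led Lsl_et (LP (LK LD1_c16 LD2_c5 LD3_c15)) = (LP (LK LD1_c8 LD2_c34 LD3_c18)) :=
  Lre_e IH (LK LD1_c16 LD2_c5 LD3_c15) (LK LD1_c8 LD2_c34 LD3_c18) Lrfl Lrfl
theorem f219875 : Led Lsl_et (LP (LK LD1_c8 LD2_c21 LD3_c61)) = (LP (LK LD1_c15 LD2_c44 LD3_c41)) :=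
  Lre_e IH (LK LD1_c8 LD2_c21 LD3_c61) (LK LD1_c15 LD2_c44 LD3_c41) Lrfl Lrfl
theorem f221944 : Led Lsl_ff (LP (LK LD1_c8 LD2_c21 LD3_c61)) = (LP (LK LD1_c8 LD2_c34 LD3_c56)) :=
  Lgr Lrot72 (Lpr_et (f219875 IH) (Lpr_ft (K20.f219864 IH) (Lpr_et (f192017 IH) (Lpr_ft (f191983 IH) (Lpr_et (f221939 IH) (Lpn (LP (LK LD1_c8 LD2_c34 LD3_c56))))))))
theorem f219919 : Led Lsl_at (LP (LK LD1_c8 LD2_c21 LD3_c61)) = (LP (LK LD1_c15 LD2_c44 LD3_c40)) :=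
  Lre_a IH (LK LD1_c8 LD2_c21 LD3_c61) (LK LD1_c15 LD2_c44 LD3_c40) Lrfl Lrfl
theorem f221949 : Led Lsl_at (LP (LK LD1_c16 LD2_c6 LD3_c10)) = (LP (LK LD1_c8 LD2_c34 LD3_c56)) :=
  Lre_a IH (LK LD1_c16 LD2_c6 LD3_c10) (LK LD1_c8 LD2_c34 LD3_c56) Lrfl Lrfl
theorem f221950 : Led Lsl_ft (LP (LK LD1_c15 LD2_c44 LD3_c40)) = (LP (LK LD1_c16 LD2_c6 LD3_c10)) :=
  Lgr Lrot101 (Lpe (f219919 IH) (Lpr_ff (f221944 IH) (Lpe (f221949 IH) (Lpn (LP (LK LD1_c16 LD2_c6 LD3_c10))))))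
theorem f219816 : Led Lsl_bt (LP (LK LD1_c8 LD2_c21 LD3_c61)) = (LP (LK LD1_c4 LD2_c11 LD3_c3)) :=
  Lre_b IH (LK LD1_c8 LD2_c21 LD3_c61) (LK LD1_c4 LD2_c11 LD3_c3) Lrfl Lrfl
theorem f219904 : Led Lsl_at (LP (LK LD1_c15 LD2_c44 LD3_c40)) = (LP (LK LD1_c8 LD2_c21 LD3_c61)) :=
  Lre_a IH (LK LD1_c15 LD2_c44 LD3_c40) (LK LD1_c8 LD2_c21 LD3_c61) Lrfl Lrfl
theorem f221872 : Led Lsl_at (LP (LK LD1_c8 LD2_c34 LD3_c57)) = (LP (LK LD1_c16 LD2_c6 LD3_c13)) :=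
  Lre_a IH (LK LD1_c8 LD2_c34 LD3_c57) (LK LD1_c16 LD2_c6 LD3_c13) Lrfl Lrfl
theorem f221883 : Led Lsl_bf (LP (LK LD1_c15 LD2_c44 LD3_c40)) = (LP (LK LD1_c16 LD2_c6 LD3_c13)) :=
  Lgr Lrot81 (Lpr_at (f219904 IH) (Lpr_bt (f219816 IH) (Lpr_at (K18.f221881 IH) (Lpr_bt (f221843 IH) (Lpr_at (f221872 IH) (Lpn (LP (LK LD1_c16 LD2_c6 LD3_c13))))))))
theorem f221922 : Led Lsl_bt (LP (LK LD1_c4 LD2_c18 LD3_c0)) = (LP (LK LD1_c8 LD2_c34 LD3_c56)) :=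
  Lre_b IH (LK LD1_c4 LD2_c18 LD3_c0) (LK LD1_c8 LD2_c34 LD3_c56) Lrfl Lrfl
theorem f221923 : Led Lsl_at (LP (LK LD1_c8 LD2_c34 LD3_c56)) = (LP (LK LD1_c16 LD2_c6 LD3_c10)) :=
  Lre_a IH (LK LD1_c8 LD2_c34 LD3_c56) (LK LD1_c16 LD2_c6 LD3_c10) Lrfl Lrfl
theorem f221924 : Led Lsl_bf (LP (LK LD1_c15 LD2_c44 LD3_c44)) = (LP (LK LD1_c16 LD2_c6 LD3_c10)) :=
  Lgr Lrot81 (Lpr_at (f221921 IH) (Lpr_bt (K20.f219785 IH) (Lpr_at (K18.f221919 IH) (Lpr_bt (f221922 IH) (Lpr_at (f221923 IH) (Lpn (LP (LK LD1_c16 LD2_c6 LD3_c10))))))))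
theorem f221955 : Led Lsl_ff (LP (LK LD1_c16 LD2_c6 LD3_c13)) = (LP (LK LD1_c15 LD2_c44 LD3_c44)) :=
  Lgr Lrot25 (Lpe (f221883 IH) (Lpr_ft (f221950 IH) (Lpe (f221924 IH) (Lpn (LP (LK LD1_c15 LD2_c44 LD3_c44))))))
theorem f221873 : Led Lsl_at (LP (LK LD1_c16 LD2_c6 LD3_c13)) = (LP (LK LD1_c8 LD2_c34 LD3_c57)) :=
  Lre_a IH (LK LD1_c16 LD2_c6 LD3_c13) (LK LD1_c8 LD2_c34 LD3_c57) Lrfl Lrfl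
theorem f221970 : Led Lsl_gf (LP (LK LD1_c16 LD2_c6 LD3_c12)) = (LP (LK LD1_c15 LD2_c44 LD3_c44)) :=
  Lgr Lrot47 (Lpr_gt (f221876 IH) (Lpe (f221873 IH) (Lpr_ff (f221955 IH) (Lpn (LP (LK LD1_c15 LD2_c44 LD3_c44))))))
theorem f318832 : Led Lsl_df (LP (LK LD1_c25 LD2_c38 LD3_c27)) = (LP (LK LD1_c16 LD2_c6 LD3_c12)) :=
  Lgr Lrot153 (Lpr_gt (f178812 IH) (Lpr_dt (f178811 IH) (Lpr_cf (f178802 IH) (Lpe (f255941 IH) (Lpe (f173524 IH) (Lpe (f173012 IH) (Lpr_gf (f318825 IH) (Lpe (f221980 IH) (Lpe (f221970 IH) (Lpn (LP (LK LD1_c16 LD2_c6 LD3_c12))))))))))))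
theorem f318837 : Led Lsl_dt (LP (LK LD1_c25 LD2_c38 LD3_c27)) = (LP (LK LD1_c16 LD2_c6 LD3_c12)) :=
  Lgr Lrot42 (Lpr_df (f318832 IH) (Lpn (LP (LK LD1_c16 LD2_c6 LD3_c12))))
theorem f195242 : Led Lsl_dt (LP (LK LD1_c4 LD2_c28 LD3_c30)) = (LP (LK LD1_c8 LD2_c55 LD3_c9)) :=
  Lre_d IH (LK LD1_c4 LD2_c28 LD3_c30) (LK LD1_c8 LD2_c55 LD3_c9) Lrfl Lrfl
theorem f195240 : Led Lsl_gt (LP (LK LD1_c2 LD2_c11 LD3_c20)) = (LP (LK LD1_c4 LD2_c28 LD3_c30)) :=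
  Lre_g IH (LK LD1_c2 LD2_c11 LD3_c20) (LK LD1_c4 LD2_c28 LD3_c30) Lrfl Lrfl
theorem f173503 : Led Lsl_dt (LP (LK LD1_c4 LD2_c28 LD3_c33)) = (LP (LK LD1_c2 LD2_c11 LD3_c20)) :=
  Lre_d IH (LK LD1_c4 LD2_c28 LD3_c33) (LK LD1_c2 LD2_c11 LD3_c20) Lrfl Lrfl
theorem f173504 : Led Lsl_gt (LP (LK LD1_c8 LD2_c55 LD3_c18)) = (LP (LK LD1_c4 LD2_c28 LD3_c33)) :=
  Lre_g IH (LK LD1_c8 LD2_c55 LD3_c18) (LK LD1_c4 LD2_c28 LD3_c33) Lrfl Lrfl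
theorem f290371 : Led Lsl_ct (LP (LK LD1_c8 LD2_c55 LD3_c18)) = (LP (LK LD1_c16 LD2_c41 LD3_c46)) :=
  Lre_c IH (LK LD1_c8 LD2_c55 LD3_c18) (LK LD1_c16 LD2_c41 LD3_c46) Lrfl Lrfl
theorem f382661 : Led Lsl_gf (LP (LK LD1_c25 LD2_c38 LD3_c27)) = (LP (LK LD1_c16 LD2_c41 LD3_c46)) :=
  Lgr Lrot148 (Lpr_dt (f318837 IH) (Lpr_gt (f221876 IH) (Lpr_dt (f382642 IH) (Lpr_ct (f344558 IH) (Lpe (f195242 IH) (Lpe (f195240 IH) (Lpe (f173503 IH) (Lpe (f173504 IH) (Lpr_ct (f290371 IH) (Lpn (LP (LK LD1_c16 LD2_c41 LD3_c46))))))))))))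
theorem f318835 : Led Lsl_ct (LP (LK LD1_c16 LD2_c41 LD3_c46)) = (LP (LK LD1_c8 LD2_c55 LD3_c18)) :=
  Lre_c IH (LK LD1_c16 LD2_c41 LD3_c46) (LK LD1_c8 LD2_c55 LD3_c18) Lrfl Lrfl
theorem f382665 : Led Lsl_cf (LP (LK LD1_c16 LD2_c4 LD3_c45)) = (LP (LK LD1_c8 LD2_c55 LD3_c9)) :=
  Lgr Lrot14 (Lpe (f382642 IH) (Lpe (f221876 IH) (Lpe (f318837 IH) (Lpr_gf (f382661 IH) (Lpr_ct (f318835 IH) (Lpr_gt (f173504 IH) (Lpr_dt (f173503 IH) (Lpr_gt (f195240 IH) (Lpr_dt (f195242 IH) (Lpn (LP (LK LD1_c8 LD2_c55 LD3_c9))))))))))))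
theorem f382674 : Led Lsl_at (LP (LK LD1_c26 LD2_c1 LD3_c57)) = (LP (LK LD1_c16 LD2_c4 LD3_c45)) :=
  Lre_a IH (LK LD1_c26 LD2_c1 LD3_c57) (LK LD1_c16 LD2_c4 LD3_c45) Lrfl Lrfl
theorem f224528 : Led Lsl_dt (LP (LK LD1_c16 LD2_c41 LD3_c20)) = (LP (LK LD1_c8 LD2_c55 LD3_c8)) :=
  Lre_d IH (LK LD1_c16 LD2_c41 LD3_c20) (LK LD1_c8 LD2_c55 LD3_c8) Lrfl Lrfl
theorem f382640 : Led Lsl_ct (LP (LK LD1_c19 LD2_c32 LD3_c16)) = (LP (LK LD1_c16 LD2_c41 LD3_c20)) :=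
  Lgr Lrot59 (Lpr_cf (f382636 IH) (Lpn (LP (LK LD1_c16 LD2_c41 LD3_c20))))
theorem f382479 : Led Lsl_dt (LP (LK LD1_c15 LD2_c27 LD3_c18)) = (LP (LK LD1_c19 LD2_c32 LD3_c16)) :=
  Lgr Lrot42 (Lpr_df (f382469 IH) (Lpn (LP (LK LD1_c19 LD2_c32 LD3_c16))))
theorem f382634 : Led Lsl_df (LP (LK LD1_c15 LD2_c44 LD3_c44)) = (LP (LK LD1_c16 LD2_c41 LD3_c34)) :=
  Lgr Lrot38 (Lpr_dt (f382632 IH) (Lpn (LP (LK LD1_c16 LD2_c41 LD3_c34))))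
theorem f382675 : Led Lsl_ff (LP (LK LD1_c26 LD2_c1 LD3_c57)) = (LP (LK LD1_c16 LD2_c41 LD3_c34)) :=
  Lgr Lrot103 (Lpr_at (f382674 IH) (Lpr_cf (f382665 IH) (Lpe (f195242 IH) (Lpe (f224511 IH) (Lpe (f224528 IH) (Lpe (f382640 IH) (Lpe (f382479 IH) (Lpe (f221980 IH) (Lpr_df (f382634 IH) (Lpn (LP (LK LD1_c16 LD2_c41 LD3_c34))))))))))))
theorem f382679 : Led Lsl_ft (LP (LK LD1_c26 LD2_c1 LD3_c57)) = (LP (LK LD1_c16 LD2_c41 LD3_c34)) :=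
  Lgr Lrot48 (Lpr_ff (f382675 IH) (Lpn (LP (LK LD1_c16 LD2_c41 LD3_c34))))
theorem f382685 : Led Lsl_df (LP (LK LD1_c26 LD2_c1 LD3_c57)) = (LP (LK LD1_c16 LD2_c6 LD3_c13)) :=
  Lgr Lrot78 (Lpr_ft (f382679 IH) (Lpe (f382634 IH) (Lpe (f221955 IH) (Lpn (LP (LK LD1_c16 LD2_c6 LD3_c13))))))
theorem f344528 : Led Lsl_at (LP (LK LD1_c16 LD2_c4 LD3_c45)) = (LP (LK LD1_c26 LD2_c1 LD3_c57)) :=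
  Lre_a IH (LK LD1_c16 LD2_c4 LD3_c45) (LK LD1_c26 LD2_c1 LD3_c57) Lrfl Lrfl
theorem f382660 : Led Lsl_at (LP (LK LD1_c16 LD2_c41 LD3_c11)) = (LP (LK LD1_c8 LD2_c55 LD3_c9)) :=
  Lre_a IH (LK LD1_c16 LD2_c41 LD3_c11) (LK LD1_c8 LD2_c55 LD3_c9) Lrfl Lrfl
theorem f382672 : Led Lsl_ct (LP (LK LD1_c26 LD2_c1 LD3_c57)) = (LP (LK LD1_c16 LD2_c41 LD3_c11)) :=
  Lgr Lrot111 (Lpe (f344528 IH) (Lpr_cf (f382665 IH) (Lpe (f382660 IH) (Lpn (LP (LK LD1_c16 LD2_c41 LD3_c11))))))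
theorem f290389 : Led Lsl_dt (LP (LK LD1_c8 LD2_c55 LD3_c6)) = (LP (LK LD1_c16 LD2_c41 LD3_c11)) :=
  Lre_d IH (LK LD1_c8 LD2_c55 LD3_c6) (LK LD1_c16 LD2_c41 LD3_c11) Lrfl Lrfl
theorem f290401 : Led Lsl_at (LP (LK LD1_c8 LD2_c55 LD3_c5)) = (LP (LK LD1_c4 LD2_c28 LD3_c34)) :=
  Lre_a IH (LK LD1_c8 LD2_c55 LD3_c5) (LK LD1_c4 LD2_c28 LD3_c34) Lrfl Lrfl
theorem f290402 : Led Lsl_ft (LP (LK LD1_c4 LD2_c28 LD3_c32)) = (LP (LK LD1_c8 LD2_c55 LD3_c5)) :=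
  Lre_f IH (LK LD1_c4 LD2_c28 LD3_c32) (LK LD1_c8 LD2_c55 LD3_c5) Lrfl Lrfl
theorem f290403 : Led Lsl_gf (LP (LK LD1_c8 LD2_c55 LD3_c6)) = (LP (LK LD1_c4 LD2_c28 LD3_c32)) :=
  Lgr Lrot47 (Lpr_gt (K17.f290399 IH) (Lpe (f290401 IH) (Lpe (f290402 IH) (Lpn (LP (LK LD1_c4 LD2_c28 LD3_c32))))))
theorem f195261 : Led Lsl_dt (LP (LK LD1_c8 LD2_c55 LD3_c16)) = (LP (LK LD1_c4 LD2_c28 LD3_c32)) :=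
  Lre_d IH (LK LD1_c8 LD2_c55 LD3_c16) (LK LD1_c4 LD2_c28 LD3_c32) Lrfl Lrfl
theorem f195270 : Led Lsl_gt (LP (LK LD1_c16 LD2_c41 LD3_c40)) = (LP (LK LD1_c8 LD2_c55 LD3_c16)) :=
  Lre_g IH (LK LD1_c16 LD2_c41 LD3_c40) (LK LD1_c8 LD2_c55 LD3_c16) Lrfl Lrfl
theorem f173636 : Led Lsl_ct (LP (LK LD1_c5 LD2_c31 LD3_c29)) = (LP (LK LD1_c10 LD2_c54 LD3_c36)) :=
  Lre_c IH (LK LD1_c5 LD2_c31 LD3_c29) (LK LD1_c10 LD2_c54 LD3_c36) Lrfl Lrfl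
theorem f173708 : Led Lsl_ff (LP (LK LD1_c7 LD2_c58 LD3_c34)) = (LP (LK LD1_c10 LD2_c54 LD3_c36)) :=
  Lgr Lrot23 (Lpr_ct (K20.f54779 IH) (Lpr_ft (K9.f173701 IH) (Lpr_ct (f173636 IH) (Lpn (LP (LK LD1_c10 LD2_c54 LD3_c36))))))
theorem f54909 : Led Lsl_at (LP (LK LD1_c7 LD2_c58 LD3_c34)) = (LP (LK LD1_c3 LD2_c58 LD3_c32)) :=
  Lre_a IH (LK LD1_c7 LD2_c58 LD3_c34) (LK LD1_c3 LD2_c58 LD3_c32) Lrfl Lrfl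
theorem f54905 : Led Lsl_gt (LP (LK LD1_c7 LD2_c58 LD3_c33)) = (LP (LK LD1_c3 LD2_c58 LD3_c32)) :=
  Lre_g IH (LK LD1_c7 LD2_c58 LD3_c33) (LK LD1_c3 LD2_c58 LD3_c32) Lrfl Lrfl
theorem f173912 : Led Lsl_gf (LP (LK LD1_c7 LD2_c58 LD3_c33)) = (LP (LK LD1_c10 LD2_c54 LD3_c36)) :=
  Lgr Lrot47 (Lpr_gt (f54905 IH) (Lpe (f54909 IH) (Lpr_ff (f173708 IH) (Lpn (LP (LK LD1_c10 LD2_c54 LD3_c36))))))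
theorem f173914 : Led Lsl_dt (LP (LK LD1_c7 LD2_c58 LD3_c33)) = (LP (LK LD1_c15 LD2_c2 LD3_c53)) :=
  Lre_d IH (LK LD1_c7 LD2_c58 LD3_c33) (LK LD1_c15 LD2_c2 LD3_c53) Lrfl Lrfl
theorem f226819 : Led Lsl_dt (LP (LK LD1_c5 LD2_c28 LD3_c51)) = (LP (LK LD1_c2 LD2_c40 LD3_c41)) :=
  Lre_d IH (LK LD1_c5 LD2_c28 LD3_c51) (LK LD1_c2 LD2_c40 LD3_c41) Lrfl Lrfl
theorem f226820 : Led Lsl_ct (LP (LK LD1_c5 LD2_c28 LD3_c50)) = (LP (LK LD1_c2 LD2_c40 LD3_c41)) :=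
  Lre_c IH (LK LD1_c5 LD2_c28 LD3_c50) (LK LD1_c2 LD2_c40 LD3_c41) Lrfl Lrfl
theorem f380875 : Led Lsl_gt (LP (LK LD1_c15 LD2_c2 LD3_c53)) = (LP (LK LD1_c10 LD2_c48 LD3_c48)) :=
  Lgr Lrot49 (Lpe (f173914 IH) (Lpr_gf (f173912 IH) (Lpe (f173636 IH) (Lpe (K16.f174020 IH) (Lpr_dt (K20.f174022 IH) (Lpr_gt (f380869 IH) (Lpr_dt (f226819 IH) (Lpe (f226820 IH) (Lpe (K20.f253805 IH) (Lpn (LP (LK LD1_c10 LD2_c48 LD3_c48))))))))))))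
theorem f173920 : Led Lsl_dt (LP (LK LD1_c15 LD2_c2 LD3_c53)) = (LP (LK LD1_c7 LD2_c58 LD3_c33)) :=
  Lre_d IH (LK LD1_c15 LD2_c2 LD3_c53) (LK LD1_c7 LD2_c58 LD3_c33) Lrfl Lrfl
theorem f253814 : Led Lsl_ct (LP (LK LD1_c10 LD2_c48 LD3_c48)) = (LP (LK LD1_c19 LD2_c33 LD3_c0)) :=
  Lre_c IH (LK LD1_c10 LD2_c48 LD3_c48) (LK LD1_c19 LD2_c33 LD3_c0) Lrfl Lrfl
theorem f380880 : Led Lsl_gf (LP (LK LD1_c24 LD2_c52 LD3_c43)) = (LP (LK LD1_c19 LD2_c33 LD3_c0)) :=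
  Lgr Lrot104 (Lpr_ct (K20.f318510 IH) (Lpe (K20.f318457 IH) (Lpe (K20.f173633 IH) (Lpe (K17.f54798 IH) (Lpe (K16.f54885 IH) (Lpe (f54905 IH) (Lpe (f173920 IH) (Lpr_gt (f380875 IH) (Lpr_ct (f253814 IH) (Lpn (LP (LK LD1_c19 LD2_c33 LD3_c0))))))))))))
theorem f318540 : Led Lsl_at (LP (LK LD1_c15 LD2_c24 LD3_c8)) = (LP (LK LD1_c24 LD2_c52 LD3_c43)) :=
  Lgr Lrot107 (Lpr_cf (K20.f318419 IH) (Lpr_af (K20.f318536 IH) (Lpe (K20.f318510 IH) (Lpn (LP (LK LD1_c24 LD2_c52 LD3_c43))))))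
theorem f219555 : Led Lsl_ff (LP (LK LD1_c15 LD2_c24 LD3_c8)) = (LP (LK LD1_c15 LD2_c47 LD3_c39)) :=
  Lgr Lrot3 (Lpr_ft (K20.f219551 IH) (Lpn (LP (LK LD1_c15 LD2_c47 LD3_c39))))
theorem f380884 : Led Lsl_gt (LP (LK LD1_c15 LD2_c47 LD3_c39)) = (LP (LK LD1_c19 LD2_c33 LD3_c0)) :=
  Lgr Lrot5 (Lpe (f219555 IH) (Lpr_at (f318540 IH) (Lpr_gf (f380880 IH) (Lpn (LP (LK LD1_c19 LD2_c33 LD3_c0))))))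
theorem f177907 : Led Lsl_bt (LP (LK LD1_c15 LD2_c48 LD3_c32)) = (LP (LK LD1_c8 LD2_c24 LD3_c33)) :=
  Lre_b IH (LK LD1_c15 LD2_c48 LD3_c32) (LK LD1_c8 LD2_c24 LD3_c33) Lrfl Lrfl
theorem f219625 : Led Lsl_at (LP (LK LD1_c4 LD2_c27 LD3_c39)) = (LP (LK LD1_c2 LD2_c11 LD3_c21)) :=
  Lre_a IH (LK LD1_c4 LD2_c27 LD3_c39) (LK LD1_c2 LD2_c11 LD3_c21) Lrfl Lrfl
theorem f191853 : Led Lsl_ct (LP (LK LD1_c2 LD2_c11 LD3_c21)) = (LP (LK LD1_c4 LD2_c28 LD3_c37)) :=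
  Lre_c IH (LK LD1_c2 LD2_c11 LD3_c21) (LK LD1_c4 LD2_c28 LD3_c37) Lrfl Lrfl
theorem f267363 : Led Lsl_at (LP (LK LD1_c4 LD2_c28 LD3_c37)) = (LP (LK LD1_c8 LD2_c24 LD3_c32)) :=
  Lgr Lrot107 (Lpe (f191853 IH) (Lpe (f219625 IH) (Lpr_cf (K15.f267334 IH) (Lpn (LP (LK LD1_c8 LD2_c24 LD3_c32))))))
theorem f267396 : Led Lsl_ft (LP (LK LD1_c8 LD2_c24 LD3_c33)) = (LP (LK LD1_c4 LD2_c28 LD3_c37)) :=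
  Lgr Lrot101 (Lpr_af (K16.f267251 IH) (Lpr_ff (K16.f267394 IH) (Lpe (f267363 IH) (Lpn (LP (LK LD1_c4 LD2_c28 LD3_c37))))))
theorem f219685 : Led Lsl_bt (LP (LK LD1_c4 LD2_c28 LD3_c37)) = (LP (LK LD1_c8 LD2_c55 LD3_c27)) :=
  Lre_b IH (LK LD1_c4 LD2_c28 LD3_c37) (LK LD1_c8 LD2_c55 LD3_c27) Lrfl Lrfl
theorem f267418 : Led Lsl_ff (LP (LK LD1_c15 LD2_c48 LD3_c32)) = (LP (LK LD1_c8 LD2_c55 LD3_c27)) :=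
  Lgr Lrot25 (Lpr_bt (f177907 IH) (Lpr_ft (f267396 IH) (Lpr_bt (f219685 IH) (Lpn (LP (LK LD1_c8 LD2_c55 LD3_c27))))))
theorem f267426 : Led Lsl_ft (LP (LK LD1_c15 LD2_c48 LD3_c32)) = (LP (LK LD1_c8 LD2_c55 LD3_c27)) :=
  Lgr Lrot48 (Lpr_ff (f267418 IH) (Lpn (LP (LK LD1_c8 LD2_c55 LD3_c27))))
theorem f170852 : Led Lsl_bt (LP (LK LD1_c4 LD2_c9 LD3_c60)) = (LP (LK LD1_c8 LD2_c20 LD3_c12)) :=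
  Lre_b IH (LK LD1_c4 LD2_c9 LD3_c60) (LK LD1_c8 LD2_c20 LD3_c12) Lrfl Lrfl
theorem f170853 : Led Lsl_gt (LP (LK LD1_c8 LD2_c20 LD3_c12)) = (LP (LK LD1_c15 LD2_c41 LD3_c26)) :=
  Lre_g IH (LK LD1_c8 LD2_c20 LD3_c12) (LK LD1_c15 LD2_c41 LD3_c26) Lrfl Lrfl
theorem f170854 : Led Lsl_dt (LP (LK LD1_c15 LD2_c41 LD3_c26)) = (LP (LK LD1_c25 LD2_c36 LD3_c61)) :=
  Lre_d IH (LK LD1_c15 LD2_c41 LD3_c26) (LK LD1_c25 LD2_c36 LD3_c61) Lrfl Lrfl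
theorem f178975 : Led Lsl_ct (LP (LK LD1_c25 LD2_c36 LD3_c61)) = (LP (LK LD1_c15 LD2_c48 LD3_c32)) :=
  Lgr Lrot191 (Lpe (f170854 IH) (Lpe (f170853 IH) (Lpe (f170852 IH) (Lpe (K12.f170851 IH) (Lpe (K12.f170850 IH) (Lpe (K12.f170616 IH) (Lpe (K9.f170615 IH) (Lpr_cf (K9.f170608 IH) (Lpe (K9.f277 IH) (Lpr_gf (K9.f178973 IH) (Lpe (K11.f177893 IH) (Lpe (K9.f21243 IH) (Lpe (K9.f166990 IH) (Lpe (K9.f166471 IH) (Lpe (K15.f166486 IH) (Lpe (K15.f166514 IH) (Lpe (K15.f177905 IH) (Lpe (K15.f177906 IH) (Lpe (f177907 IH) (Lpn (LP (LK LD1_c15 LD2_c48 LD3_c32))))))))))))))))))))))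
theorem f267431 : Led Lsl_ct (LP (LK LD1_c8 LD2_c55 LD3_c27)) = (LP (LK LD1_c16 LD2_c41 LD3_c50)) :=
  Lre_c IH (LK LD1_c8 LD2_c55 LD3_c27) (LK LD1_c16 LD2_c41 LD3_c50) Lrfl Lrfl
theorem f267432 : Led Lsl_ff (LP (LK LD1_c25 LD2_c36 LD3_c61)) = (LP (LK LD1_c16 LD2_c41 LD3_c50)) :=
  Lgr Lrot23 (Lpr_ct (f178975 IH) (Lpr_ft (f267426 IH) (Lpr_ct (f267431 IH) (Lpn (LP (LK LD1_c16 LD2_c41 LD3_c50))))))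
theorem f267438 : Led Lsl_ft (LP (LK LD1_c25 LD2_c36 LD3_c61)) = (LP (LK LD1_c16 LD2_c41 LD3_c50)) :=
  Lgr Lrot48 (Lpr_ff (f267432 IH) (Lpn (LP (LK LD1_c16 LD2_c41 LD3_c50))))
theorem f267424 : Led Lsl_ct (LP (LK LD1_c16 LD2_c41 LD3_c50)) = (LP (LK LD1_c8 LD2_c55 LD3_c27)) :=
  Lre_c IH (LK LD1_c16 LD2_c41 LD3_c50) (LK LD1_c8 LD2_c55 LD3_c27) Lrfl Lrfl
theorem f267442 : Led Lsl_cf (LP (LK LD1_c25 LD2_c36 LD3_c61)) = (LP (LK LD1_c15 LD2_c48 LD3_c32)) :=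
  Lgr Lrot108 (Lpr_ft (f267438 IH) (Lpr_ct (f267424 IH) (Lpe (f267418 IH) (Lpn (LP (LK LD1_c15 LD2_c48 LD3_c32))))))
theorem f166534 : Led Lsl_ct (LP (LK LD1_c26 LD2_c1 LD3_c26)) = (LP (LK LD1_c16 LD2_c4 LD3_c13)) :=
  Lre_c IH (LK LD1_c26 LD2_c1 LD3_c26) (LK LD1_c16 LD2_c4 LD3_c13) Lrfl Lrfl
theorem f380914 : Led Lsl_gf (LP (LK LD1_c25 LD2_c36 LD3_c61)) = (LP (LK LD1_c16 LD2_c4 LD3_c13)) :=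
  Lgr Lrot126 (Lpr_cf (f267442 IH) (Lpr_bt (f177907 IH) (Lpr_gt (K15.f177906 IH) (Lpr_ct (K15.f166542 IH) (Lpr_gt (K15.f267278 IH) (Lpr_cf (K12.f219384 IH) (Lpr_bt (K20.f219395 IH) (Lpr_gt (f380884 IH) (Lpr_bf (K19.f305154 IH) (Lpr_ct (f166534 IH) (Lpn (LP (LK LD1_c16 LD2_c4 LD3_c13)))))))))))))
theorem f267253 : Led Lsl_bt (LP (LK LD1_c4 LD2_c28 LD3_c39)) = (LP (LK LD1_c8 LD2_c55 LD3_c21)) :=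
  Lre_b IH (LK LD1_c4 LD2_c28 LD3_c39) (LK LD1_c8 LD2_c55 LD3_c21) Lrfl Lrfl
theorem f243805 : Led Lsl_ct (LP (LK LD1_c8 LD2_c55 LD3_c21)) = (LP (LK LD1_c16 LD2_c41 LD3_c53)) :=
  Lre_c IH (LK LD1_c8 LD2_c55 LD3_c21) (LK LD1_c16 LD2_c41 LD3_c53) Lrfl Lrfl
theorem f267254 : Led Lsl_bf (LP (LK LD1_c25 LD2_c36 LD3_c61)) = (LP (LK LD1_c16 LD2_c41 LD3_c53)) :=
  Lgr Lrot90 (Lpr_ct (f178975 IH) (Lpr_bt (f177907 IH) (Lpr_ct (K15.f267244 IH) (Lpr_bt (f267253 IH) (Lpr_ct (f243805 IH) (Lpn (LP (LK LD1_c16 LD2_c41 LD3_c53))))))))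
theorem f243881 : Led Lsl_ct (LP (LK LD1_c16 LD2_c41 LD3_c53)) = (LP (LK LD1_c8 LD2_c55 LD3_c21)) :=
  Lre_c IH (LK LD1_c16 LD2_c41 LD3_c53) (LK LD1_c8 LD2_c55 LD3_c21) Lrfl Lrfl
theorem f267268 : Led Lsl_gt (LP (LK LD1_c8 LD2_c55 LD3_c21)) = (LP (LK LD1_c16 LD2_c41 LD3_c40)) :=
  Lre_g IH (LK LD1_c8 LD2_c55 LD3_c21) (LK LD1_c16 LD2_c41 LD3_c40) Lrfl Lrfl
theorem f51527 : Led Lsl_bt (LP (LK LD1_c15 LD2_c44 LD3_c56)) = (LP (LK LD1_c8 LD2_c22 LD3_c8)) :=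
  Lre_b IH (LK LD1_c15 LD2_c44 LD3_c56) (LK LD1_c8 LD2_c22 LD3_c8) Lrfl Lrfl
theorem f380921 : Led Lsl_cf (LP (LK LD1_c16 LD2_c41 LD3_c40)) = (LP (LK LD1_c15 LD2_c44 LD3_c56)) :=
  Lgr Lrot58 (Lpe (f267268 IH) (Lpe (f243881 IH) (Lpe (f267254 IH) (Lpr_gf (f380914 IH) (Lpe (K19.f303326 IH) (Lpe (K18.f300809 IH) (Lpr_gf (K22.f290588 IH) (Lpe (K18.f290571 IH) (Lpe (K18.f51526 IH) (Lpe (f51527 IH) (Lpn (LP (LK LD1_c15 LD2_c44 LD3_c56)))))))))))))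
theorem f380924 : Led Lsl_ct (LP (LK LD1_c16 LD2_c41 LD3_c40)) = (LP (LK LD1_c15 LD2_c44 LD3_c56)) :=
  Lgr Lrot59 (Lpr_cf (f380921 IH) (Lpn (LP (LK LD1_c15 LD2_c44 LD3_c56))))
theorem f221979 : Led Lsl_gt (LP (LK LD1_c8 LD2_c22 LD3_c1)) = (LP (LK LD1_c15 LD2_c44 LD3_c43)) :=
  Lre_g IH (LK LD1_c8 LD2_c22 LD3_c1) (LK LD1_c15 LD2_c44 LD3_c43) Lrfl Lrfl
theorem f221991 : Led Lsl_gt (LP (LK LD1_c15 LD2_c44 LD3_c43)) = (LP (LK LD1_c16 LD2_c6 LD3_c13)) :=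
  Lgr Lrot46 (Lpe (f221979 IH) (Lpr_ft (K20.f221915 IH) (Lpr_at (f221872 IH) (Lpn (LP (LK LD1_c16 LD2_c6 LD3_c13))))))
theorem f221993 : Led Lsl_dt (LP (LK LD1_c25 LD2_c41 LD3_c14)) = (LP (LK LD1_c15 LD2_c44 LD3_c43)) :=
  Lre_d IH (LK LD1_c25 LD2_c41 LD3_c14) (LK LD1_c15 LD2_c44 LD3_c43) Lrfl Lrfl
theorem f382688 : Led Lsl_gt (LP (LK LD1_c15 LD2_c44 LD3_c56)) = (LP (LK LD1_c25 LD2_c41 LD3_c14)) :=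
  Lgr Lrot94 (Lpe (f380924 IH) (Lpr_gt (f195270 IH) (Lpr_dt (f195261 IH) (Lpe (f290403 IH) (Lpr_dt (f290389 IH) (Lpe (f382672 IH) (Lpr_df (f382685 IH) (Lpe (f221991 IH) (Lpe (f221993 IH) (Lpn (LP (LK LD1_c25 LD2_c41 LD3_c14))))))))))))
theorem f303308 : Led Lsl_bt (LP (LK LD1_c8 LD2_c22 LD3_c8)) = (LP (LK LD1_c15 LD2_c44 LD3_c56)) :=
  Lre_b IH (LK LD1_c8 LD2_c22 LD3_c8) (LK LD1_c15 LD2_c44 LD3_c56) Lrfl Lrfl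
theorem f295942 : Led Lsl_bt (LP (LK LD1_c15 LD2_c42 LD3_c32)) = (LP (LK LD1_c8 LD2_c20 LD3_c44)) :=
  Lre_b IH (LK LD1_c15 LD2_c42 LD3_c32) (LK LD1_c8 LD2_c20 LD3_c44) Lrfl Lrfl
theorem f329089 : Led Lsl_ft (LP (LK LD1_c15 LD2_c44 LD3_c56)) = (LP (LK LD1_c15 LD2_c42 LD3_c32)) :=
  Lgr Lrot75 (Lpe (f303308 IH) (Lpr_ff (K21.f329087 IH) (Lpe (f295942 IH) (Lpn (LP (LK LD1_c15 LD2_c42 LD3_c32))))))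
theorem f381000 : Led Lsl_at (LP (LK LD1_c15 LD2_c42 LD3_c32)) = (LP (LK LD1_c25 LD2_c38 LD3_c24)) :=
  Lre_a IH (LK LD1_c15 LD2_c42 LD3_c32) (LK LD1_c25 LD2_c38 LD3_c24) Lrfl Lrfl
theorem f382690 : Led Lsl_gf (LP (LK LD1_c25 LD2_c38 LD3_c24)) = (LP (LK LD1_c25 LD2_c41 LD3_c14)) :=
  Lgr Lrot76 (Lpe (f381000 IH) (Lpe (f329089 IH) (Lpr_gt (f382688 IH) (Lpn (LP (LK LD1_c25 LD2_c41 LD3_c14))))))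
theorem f380988 : Led Lsl_dt (LP (LK LD1_c25 LD2_c38 LD3_c24)) = (LP (LK LD1_c15 LD2_c42 LD3_c31)) :=
  Lre_d IH (LK LD1_c25 LD2_c38 LD3_c24) (LK LD1_c15 LD2_c42 LD3_c31) Lrfl Lrfl
theorem f221984 : Led Lsl_dt (LP (LK LD1_c15 LD2_c44 LD3_c43)) = (LP (LK LD1_c25 LD2_c41 LD3_c14)) :=
  Lre_d IH (LK LD1_c15 LD2_c44 LD3_c43) (LK LD1_c25 LD2_c41 LD3_c14) Lrfl Lrfl
theorem f175123 : Led Lsl_gt (LP (LK LD1_c2 LD2_c48 LD3_c11)) = (LP (LK LD1_c5 LD2_c44 LD3_c37)) :=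
  Lre_g IH (LK LD1_c2 LD2_c48 LD3_c11) (LK LD1_c5 LD2_c44 LD3_c37) Lrfl Lrfl
theorem f243755 : Led Lsl_dt (LP (LK LD1_c5 LD2_c44 LD3_c37)) = (LP (LK LD1_c11 LD2_c19 LD3_c19)) :=
  Lre_d IH (LK LD1_c5 LD2_c44 LD3_c37) (LK LD1_c11 LD2_c19 LD3_c19) Lrfl Lrfl
theorem f382694 : Led Lsl_cf (LP (LK LD1_c15 LD2_c42 LD3_c31)) = (LP (LK LD1_c11 LD2_c19 LD3_c19)) :=
  Lgr Lrot14 (Lpe (f380988 IH) (Lpr_gf (f382690 IH) (Lpe (f221984 IH) (Lpe (f221979 IH) (Lpr_ct (f221982 IH) (Lpe (K20.f243714 IH) (Lpr_dt (K20.f179513 IH) (Lpr_gt (f175123 IH) (Lpr_dt (f243755 IH) (Lpn (LP (LK LD1_c11 LD2_c19 LD3_c19))))))))))))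
theorem f179683 : Led Lsl_bt (LP (LK LD1_c8 LD2_c33 LD3_c53)) = (LP (LK LD1_c4 LD2_c17 LD3_c23)) :=
  Lre_b IH (LK LD1_c8 LD2_c33 LD3_c53) (LK LD1_c4 LD2_c17 LD3_c23) Lrfl Lrfl
theorem f336274 : Led Lsl_dt (LP (LK LD1_c15 LD2_c44 LD3_c56)) = (LP (LK LD1_c8 LD2_c33 LD3_c53)) :=
  Lgr Lrot79 (Lpe (f303308 IH) (Lpr_df (K22.f336268 IH) (Lpe (f179683 IH) (Lpn (LP (LK LD1_c8 LD2_c33 LD3_c53))))))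
theorem f179661 : Led Lsl_bt (LP (LK LD1_c4 LD2_c18 LD3_c44)) = (LP (LK LD1_c8 LD2_c36 LD3_c3)) :=
  Lre_b IH (LK LD1_c4 LD2_c18 LD3_c44) (LK LD1_c8 LD2_c36 LD3_c3) Lrfl Lrfl
theorem f179662 : Led Lsl_ct (LP (LK LD1_c8 LD2_c36 LD3_c6)) = (LP (LK LD1_c4 LD2_c18 LD3_c44)) :=
  Lre_c IH (LK LD1_c8 LD2_c36 LD3_c6) (LK LD1_c4 LD2_c18 LD3_c44) Lrfl Lrfl
theorem f179663 : Led Lsl_bt (LP (LK LD1_c16 LD2_c7 LD3_c29)) = (LP (LK LD1_c8 LD2_c36 LD3_c6)) :=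
  Lre_b IH (LK LD1_c16 LD2_c7 LD3_c29) (LK LD1_c8 LD2_c36 LD3_c6) Lrfl Lrfl
theorem f179649 : Led Lsl_bt (LP (LK LD1_c8 LD2_c33 LD3_c54)) = (LP (LK LD1_c16 LD2_c4 LD3_c38)) :=
  Lre_b IH (LK LD1_c8 LD2_c33 LD3_c54) (LK LD1_c16 LD2_c4 LD3_c38) Lrfl Lrfl
theorem f179664 : Led Lsl_cf (LP (LK LD1_c16 LD2_c7 LD3_c29)) = (LP (LK LD1_c16 LD2_c4 LD3_c38)) :=
  Lgr Lrot97 (Lpr_bt (f179663 IH) (Lpr_ct (f179662 IH) (Lpr_bt (f179661 IH) (Lpr_ct (K20.f179637 IH) (Lpr_bt (f179649 IH) (Lpn (LP (LK LD1_c16 LD2_c4 LD3_c38))))))))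
theorem f179673 : Led Lsl_et (LP (LK LD1_c16 LD2_c7 LD3_c29)) = (LP (LK LD1_c8 LD2_c36 LD3_c4)) :=
  Lre_e IH (LK LD1_c16 LD2_c7 LD3_c29) (LK LD1_c8 LD2_c36 LD3_c4) Lrfl Lrfl
theorem f179674 : Led Lsl_et (LP (LK LD1_c8 LD2_c33 LD3_c53)) = (LP (LK LD1_c16 LD2_c4 LD3_c38)) :=
  Lre_e IH (LK LD1_c8 LD2_c33 LD3_c53) (LK LD1_c16 LD2_c4 LD3_c38) Lrfl Lrfl
theorem f179675 : Led Lsl_ct (LP (LK LD1_c8 LD2_c36 LD3_c4)) = (LP (LK LD1_c8 LD2_c33 LD3_c53)) :=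
  Lgr Lrot15 (Lpe (f179673 IH) (Lpr_cf (f179664 IH) (Lpe (f179674 IH) (Lpn (LP (LK LD1_c8 LD2_c33 LD3_c53))))))
theorem f179686 : Led Lsl_gt (LP (LK LD1_c16 LD2_c7 LD3_c27)) = (LP (LK LD1_c8 LD2_c36 LD3_c4)) :=
  Lre_g IH (LK LD1_c16 LD2_c7 LD3_c27) (LK LD1_c8 LD2_c36 LD3_c4) Lrfl Lrfl
theorem f179616 : Led Lsl_bt (LP (LK LD1_c8 LD2_c36 LD3_c4)) = (LP (LK LD1_c4 LD2_c18 LD3_c43)) :=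
  Lre_b IH (LK LD1_c8 LD2_c36 LD3_c4) (LK LD1_c4 LD2_c18 LD3_c43) Lrfl Lrfl
theorem f179617 : Led Lsl_bt (LP (LK LD1_c4 LD2_c17 LD3_c23)) = (LP (LK LD1_c8 LD2_c33 LD3_c53)) :=
  Lre_b IH (LK LD1_c4 LD2_c17 LD3_c23) (LK LD1_c8 LD2_c33 LD3_c53) Lrfl Lrfl
theorem f179618 : Led Lsl_cf (LP (LK LD1_c8 LD2_c36 LD3_c4)) = (LP (LK LD1_c8 LD2_c33 LD3_c53)) :=
  Lgr Lrot97 (Lpr_bt (f179616 IH) (Lpr_ct (K17.f179615 IH) (Lpr_bt (K17.f179614 IH) (Lpr_ct (K15.f179611 IH) (Lpr_bt (f179617 IH) (Lpn (LP (LK LD1_c8 LD2_c33 LD3_c53))))))))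
theorem f166522 : Led Lsl_bt (LP (LK LD1_c4 LD2_c17 LD3_c18)) = (LP (LK LD1_c8 LD2_c33 LD3_c43)) :=
  Lre_b IH (LK LD1_c4 LD2_c17 LD3_c18) (LK LD1_c8 LD2_c33 LD3_c43) Lrfl Lrfl
theorem f166540 : Led Lsl_gt (LP (LK LD1_c8 LD2_c33 LD3_c43)) = (LP (LK LD1_c16 LD2_c4 LD3_c11)) :=
  Lre_g IH (LK LD1_c8 LD2_c33 LD3_c43) (LK LD1_c16 LD2_c4 LD3_c11) Lrfl Lrfl
theorem f179709 : Led Lsl_bt (LP (LK LD1_c26 LD2_c1 LD3_c24)) = (LP (LK LD1_c16 LD2_c4 LD3_c11)) :=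
  Lre_b IH (LK LD1_c26 LD2_c1 LD3_c24) (LK LD1_c16 LD2_c4 LD3_c11) Lrfl Lrfl
theorem f179710 : Led Lsl_cf (LP (LK LD1_c16 LD2_c7 LD3_c27)) = (LP (LK LD1_c26 LD2_c1 LD3_c24)) :=
  Lgr Lrot160 (Lpr_gt (f179686 IH) (Lpr_cf (f179618 IH) (Lpr_bt (f179683 IH) (Lpr_gt (K15.f179610 IH) (Lpr_ct (K12.f179628 IH) (Lpr_gt (K13.f7874 IH) (Lpe (K19.f166503 IH) (Lpr_bt (f166522 IH) (Lpr_gt (f166540 IH) (Lpe (f179709 IH) (Lpn (LP (LK LD1_c26 LD2_c1 LD3_c24)))))))))))))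
theorem f170216 : Led Lsl_bt (LP (LK LD1_c4 LD2_c17 LD3_c24)) = (LP (LK LD1_c2 LD2_c6 LD3_c1)) :=
  Lre_b IH (LK LD1_c4 LD2_c17 LD3_c24) (LK LD1_c2 LD2_c6 LD3_c1) Lrfl Lrfl
theorem f170183 : Led Lsl_ct (LP (LK LD1_c4 LD2_c17 LD3_c24)) = (LP (LK LD1_c2 LD2_c6 LD3_c6)) :=
  Lre_c IH (LK LD1_c4 LD2_c17 LD3_c24) (LK LD1_c2 LD2_c6 LD3_c6) Lrfl Lrfl
theorem f167656 : Led Lsl_gt (LP (LK LD1_c2 LD2_c6 LD3_c6)) = (LP (LK LD1_c4 LD2_c17 LD3_c30)) :=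
  Lre_g IH (LK LD1_c2 LD2_c6 LD3_c6) (LK LD1_c4 LD2_c17 LD3_c30) Lrfl Lrfl
theorem f179707 : Led Lsl_ct (LP (LK LD1_c8 LD2_c34 LD3_c7)) = (LP (LK LD1_c4 LD2_c17 LD3_c30)) :=
  Lre_c IH (LK LD1_c8 LD2_c34 LD3_c7) (LK LD1_c4 LD2_c17 LD3_c30) Lrfl Lrfl
theorem f179708 : Led Lsl_bt (LP (LK LD1_c8 LD2_c34 LD3_c7)) = (LP (LK LD1_c16 LD2_c4 LD3_c59)) :=
  Lre_b IH (LK LD1_c8 LD2_c34 LD3_c7) (LK LD1_c16 LD2_c4 LD3_c59) Lrfl Lrfl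
theorem f179715 : Led Lsl_gt (LP (LK LD1_c16 LD2_c4 LD3_c59)) = (LP (LK LD1_c26 LD2_c1 LD3_c24)) :=
  Lgr Lrot82 (Lpe (f179708 IH) (Lpr_ct (f179707 IH) (Lpe (f167656 IH) (Lpe (f170183 IH) (Lpr_bt (f170216 IH) (Lpe (K15.f179610 IH) (Lpe (f179683 IH) (Lpe (f179618 IH) (Lpe (f179686 IH) (Lpr_cf (f179710 IH) (Lpn (LP (LK LD1_c26 LD2_c1 LD3_c24)))))))))))))
theorem f179718 : Led Lsl_dt (LP (LK LD1_c16 LD2_c4 LD3_c59)) = (LP (LK LD1_c26 LD2_c2 LD3_c7)) :=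
  Lre_d IH (LK LD1_c16 LD2_c4 LD3_c59) (LK LD1_c26 LD2_c2 LD3_c7) Lrfl Lrfl
theorem f380929 : Led Lsl_gf (LP (LK LD1_c16 LD2_c41 LD3_c53)) = (LP (LK LD1_c26 LD2_c2 LD3_c7)) :=
  Lgr Lrot179 (Lpr_ct (f243881 IH) (Lpr_gt (f267268 IH) (Lpr_ct (f380924 IH) (Lpr_dt (f336274 IH) (Lpe (f179675 IH) (Lpe (f179686 IH) (Lpr_cf (f179710 IH) (Lpe (f179715 IH) (Lpr_dt (f179718 IH) (Lpn (LP (LK LD1_c26 LD2_c2 LD3_c7))))))))))))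
theorem f179717 : Led Lsl_dt (LP (LK LD1_c26 LD2_c2 LD3_c7)) = (LP (LK LD1_c16 LD2_c4 LD3_c59)) :=
  Lre_d IH (LK LD1_c26 LD2_c2 LD3_c7) (LK LD1_c16 LD2_c4 LD3_c59) Lrfl Lrfl
theorem f380951 : Led Lsl_df (LP (LK LD1_c15 LD2_c44 LD3_c56)) = (LP (LK LD1_c8 LD2_c33 LD3_c53)) :=
  Lgr Lrot162 (Lpe (f380924 IH) (Lpe (f267268 IH) (Lpe (f243881 IH) (Lpr_gf (f380929 IH) (Lpr_dt (f179717 IH) (Lpr_gt (f179715 IH) (Lpe (f179710 IH) (Lpr_gt (f179686 IH) (Lpr_ct (f179675 IH) (Lpn (LP (LK LD1_c8 LD2_c33 LD3_c53))))))))))))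
theorem f380972 : Led Lsl_ft (LP (LK LD1_c8 LD2_c20 LD3_c43)) = (LP (LK LD1_c8 LD2_c33 LD3_c53)) :=
  Lgr Lrot54 (Lpe (f178811 IH) (Lpe (f329089 IH) (Lpr_df (f380951 IH) (Lpn (LP (LK LD1_c8 LD2_c33 LD3_c53))))))
theorem f380976 : Led Lsl_ff (LP (LK LD1_c8 LD2_c20 LD3_c43)) = (LP (LK LD1_c8 LD2_c33 LD3_c53)) :=
  Lgr Lrot3 (Lpr_ft (f380972 IH) (Lpn (LP (LK LD1_c8 LD2_c33 LD3_c53))))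
theorem f178804 : Led Lsl_at (LP (LK LD1_c8 LD2_c20 LD3_c43)) = (LP (LK LD1_c15 LD2_c42 LD3_c31)) :=
  Lre_a IH (LK LD1_c8 LD2_c20 LD3_c43) (LK LD1_c15 LD2_c42 LD3_c31) Lrfl Lrfl
theorem f179684 : Led Lsl_at (LP (LK LD1_c16 LD2_c4 LD3_c37)) = (LP (LK LD1_c8 LD2_c33 LD3_c53)) :=
  Lre_a IH (LK LD1_c16 LD2_c4 LD3_c37) (LK LD1_c8 LD2_c33 LD3_c53) Lrfl Lrfl
theorem f380982 : Led Lsl_ft (LP (LK LD1_c15 LD2_c42 LD3_c31)) = (LP (LK LD1_c16 LD2_c4 LD3_c37)) :=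
  Lgr Lrot101 (Lpe (f178804 IH) (Lpr_ff (f380976 IH) (Lpe (f179684 IH) (Lpn (LP (LK LD1_c16 LD2_c4 LD3_c37))))))
theorem f179678 : Led Lsl_at (LP (LK LD1_c16 LD2_c7 LD3_c28)) = (LP (LK LD1_c8 LD2_c36 LD3_c4)) :=
  Lre_a IH (LK LD1_c16 LD2_c7 LD3_c28) (LK LD1_c8 LD2_c36 LD3_c4) Lrfl Lrfl
theorem f179679 : Led Lsl_at (LP (LK LD1_c8 LD2_c33 LD3_c53)) = (LP (LK LD1_c16 LD2_c4 LD3_c37)) :=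
  Lre_a IH (LK LD1_c8 LD2_c33 LD3_c53) (LK LD1_c16 LD2_c4 LD3_c37) Lrfl Lrfl
theorem f179680 : Led Lsl_cf (LP (LK LD1_c16 LD2_c7 LD3_c28)) = (LP (LK LD1_c16 LD2_c4 LD3_c37)) :=
  Lgr Lrot1 (Lpr_at (f179678 IH) (Lpr_ct (f179675 IH) (Lpr_at (f179679 IH) (Lpn (LP (LK LD1_c16 LD2_c4 LD3_c37))))))
theorem f382703 : Led Lsl_ft (LP (LK LD1_c16 LD2_c7 LD3_c28)) = (LP (LK LD1_c11 LD2_c19 LD3_c19)) :=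
  Lgr Lrot4 (Lpr_cf (f179680 IH) (Lpe (f380982 IH) (Lpr_cf (f382694 IH) (Lpn (LP (LK LD1_c11 LD2_c19 LD3_c19))))))
theorem f382709 : Led Lsl_ff (LP (LK LD1_c16 LD2_c7 LD3_c28)) = (LP (LK LD1_c11 LD2_c19 LD3_c19)) :=
  Lgr Lrot3 (Lpr_ft (f382703 IH) (Lpn (LP (LK LD1_c11 LD2_c19 LD3_c19))))
theorem f382713 : Led Lsl_gf (LP (LK LD1_c16 LD2_c7 LD3_c27)) = (LP (LK LD1_c11 LD2_c19 LD3_c19)) :=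
  Lgr Lrot47 (Lpr_gt (f179686 IH) (Lpe (f179678 IH) (Lpr_ff (f382709 IH) (Lpn (LP (LK LD1_c11 LD2_c19 LD3_c19))))))
theorem f175122 : Led Lsl_ct (LP (LK LD1_c1 LD2_c20 LD3_c27)) = (LP (LK LD1_c2 LD2_c48 LD3_c11)) :=
  Lre_c IH (LK LD1_c1 LD2_c20 LD3_c27) (LK LD1_c2 LD2_c48 LD3_c11) Lrfl Lrfl
theorem f172878 : Led Lsl_gt (LP (LK LD1_c1 LD2_c20 LD3_c27)) = (LP (LK LD1_c2 LD2_c48 LD3_c34)) :=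
  Lre_g IH (LK LD1_c1 LD2_c20 LD3_c27) (LK LD1_c2 LD2_c48 LD3_c34) Lrfl Lrfl
theorem f253439 : Led Lsl_bt (LP (LK LD1_c1 LD2_c0 LD3_c32)) = (LP (LK LD1_c2 LD2_c6 LD3_c4)) :=
  Lgr Lrot119 (Lpr_ef (K13.f180113 IH) (Lpr_bf (K13.f190993 IH) (Lpr_ef (K14.f253434 IH) (Lpn (LP (LK LD1_c2 LD2_c6 LD3_c4))))))
theorem f7849 : Led Lsl_bt (LP (LK LD1_c2 LD2_c40 LD3_c30)) = (LP (LK LD1_c5 LD2_c28 LD3_c20)) :=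
  Lre_b IH (LK LD1_c2 LD2_c40 LD3_c30) (LK LD1_c5 LD2_c28 LD3_c20) Lrfl Lrfl
theorem f7850 : Led Lsl_gt (LP (LK LD1_c5 LD2_c28 LD3_c20)) = (LP (LK LD1_c10 LD2_c47 LD3_c44)) :=
  Lre_g IH (LK LD1_c5 LD2_c28 LD3_c20) (LK LD1_c10 LD2_c47 LD3_c44) Lrfl Lrfl
theorem f380931 : Led Lsl_df (LP (LK LD1_c16 LD2_c41 LD3_c40)) = (LP (LK LD1_c10 LD2_c47 LD3_c44)) :=
  Lgr Lrot183 (Lpr_ct (f380924 IH) (Lpr_bt (f51527 IH) (Lpr_gt (K18.f51526 IH) (Lpr_dt (K18.f51525 IH) (Lpr_ct (K16.f51524 IH) (Lpr_bt (K12.f51523 IH) (Lpr_gt (K9.f51518 IH) (Lpr_dt (K0.f27339 IH) (Lpr_ct (K9.f27349 IH) (Lpr_bt (K9.f27489 IH) (Lpe (K9.f179842 IH) (Lpr_dt (K11.f180099 IH) (Lpr_ct (K10.f170294 IH) (Lpr_bt (f253439 IH) (Lpr_gt (K14.f7845 IH) (Lpr_dt (K12.f7818 IH) (Lpr_ct (K15.f7840 IH) (Lpr_bt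 (f7849 IH) (Lpr_gt (f7850 IH) (Lpn (LP (LK LD1_c10 LD2_c47 LD3_c44))))))))))))))))))))))
theorem f8797 : Led Lsl_ct (LP (LK LD1_c4 LD2_c28 LD3_c32)) = (LP (LK LD1_c2 LD2_c12 LD3_c12)) :=
  Lre_c IH (LK LD1_c4 LD2_c28 LD3_c32) (LK LD1_c2 LD2_c12 LD3_c12) Lrfl Lrfl
theorem f8809 : Led Lsl_gt (LP (LK LD1_c2 LD2_c48 LD3_c34)) = (LP (LK LD1_c4 LD2_c30 LD3_c30)) :=
  Lre_g IH (LK LD1_c2 LD2_c48 LD3_c34) (LK LD1_c4 LD2_c30 LD3_c30) Lrfl Lrfl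
theorem f178114 : Led Lsl_ct (LP (LK LD1_c2 LD2_c40 LD3_c32)) = (LP (LK LD1_c5 LD2_c28 LD3_c20)) :=
  Lre_c IH (LK LD1_c2 LD2_c40 LD3_c32) (LK LD1_c5 LD2_c28 LD3_c20) Lrfl Lrfl
theorem f7736 : Led Lsl_gt (LP (LK LD1_c2 LD2_c40 LD3_c32)) = (LP (LK LD1_c5 LD2_c28 LD3_c26)) :=
  Lre_g IH (LK LD1_c2 LD2_c40 LD3_c32) (LK LD1_c5 LD2_c28 LD3_c26) Lrfl Lrfl
theorem f380935 : Led Lsl_df (LP (LK LD1_c2 LD2_c48 LD3_c34)) = (LP (LK LD1_c5 LD2_c28 LD3_c26)) :=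
  Lgr Lrot153 (Lpr_gt (f8809 IH) (Lpr_dt (K0.f8801 IH) (Lpe (f8797 IH) (Lpe (f195261 IH) (Lpe (f195270 IH) (Lpr_df (f380931 IH) (Lpe (f7850 IH) (Lpe (f178114 IH) (Lpr_gt (f7736 IH) (Lpn (LP (LK LD1_c5 LD2_c28 LD3_c26))))))))))))
theorem f380940 : Led Lsl_dt (LP (LK LD1_c2 LD2_c48 LD3_c34)) = (LP (LK LD1_c5 LD2_c28 LD3_c26)) :=
  Lgr Lrot42 (Lpr_df (f380935 IH) (Lpn (LP (LK LD1_c5 LD2_c28 LD3_c26))))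
theorem f278956 : Led Lsl_ft (LP (LK LD1_c8 LD2_c7 LD3_c14)) = (LP (LK LD1_c4 LD2_c27 LD3_c46)) :=
  Lgr Lrot4 (Lpe (K12.f199126 IH) (Lpr_ff (K16.f278954 IH) (Lpe (K16.f219721 IH) (Lpn (LP (LK LD1_c4 LD2_c27 LD3_c46))))))
theorem f341156 : Led Lsl_ft (LP (LK LD1_c20 LD2_c55 LD3_c5)) = (LP (LK LD1_c11 LD2_c53 LD3_c10)) :=
  Lgr Lrot86 (Lpr_ef (K21.f315993 IH) (Lpe (K20.f279014 IH) (Lpe (K16.f279131 IH) (Lpe (f278956 IH) (Lpr_ef (K25.f341145 IH) (Lpn (LP (LK LD1_c11 LD2_c53 LD3_c10))))))))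
theorem f341176 : Led Lsl_ff (LP (LK LD1_c20 LD2_c55 LD3_c5)) = (LP (LK LD1_c11 LD2_c53 LD3_c10)) :=
  Lgr Lrot3 (Lpr_ft (f341156 IH) (Lpn (LP (LK LD1_c11 LD2_c53 LD3_c10))))
theorem f316008 : Led Lsl_bt (LP (LK LD1_c20 LD2_c55 LD3_c5)) = (LP (LK LD1_c29 LD2_c44 LD3_c0)) :=
  Lre_b IH (LK LD1_c20 LD2_c55 LD3_c5) (LK LD1_c29 LD2_c44 LD3_c0) Lrfl Lrfl
theorem f341149 : Led Lsl_bt (LP (LK LD1_c20 LD2_c56 LD3_c39)) = (LP (LK LD1_c11 LD2_c53 LD3_c10)) :=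
  Lre_b IH (LK LD1_c20 LD2_c56 LD3_c39) (LK LD1_c11 LD2_c53 LD3_c10) Lrfl Lrfl
theorem f341180 : Led Lsl_ft (LP (LK LD1_c29 LD2_c44 LD3_c0)) = (LP (LK LD1_c20 LD2_c56 LD3_c39)) :=
  Lgr Lrot75 (Lpe (f316008 IH) (Lpr_ff (f341176 IH) (Lpe (f341149 IH) (Lpn (LP (LK LD1_c20 LD2_c56 LD3_c39))))))
theorem f316001 : Led Lsl_bt (LP (LK LD1_c29 LD2_c44 LD3_c0)) = (LP (LK LD1_c20 LD2_c55 LD3_c5)) :=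
  Lre_b IH (LK LD1_c29 LD2_c44 LD3_c0) (LK LD1_c20 LD2_c55 LD3_c5) Lrfl Lrfl
theorem f316002 : Led Lsl_ef (LP (LK LD1_c29 LD2_c44 LD3_c0)) = (LP (LK LD1_c26 LD2_c34 LD3_c34)) :=
  Lgr Lrot29 (Lpr_bt (f316001 IH) (Lpr_et (K20.f315999 IH) (Lpr_bt (K17.f278990 IH) (Lpn (LP (LK LD1_c26 LD2_c34 LD3_c34))))))
theorem f341188 : Led Lsl_ef (LP (LK LD1_c15 LD2_c17 LD3_c32)) = (LP (LK LD1_c20 LD2_c56 LD3_c39)) :=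
  Lgr Lrot21 (Lpe (K17.f289112 IH) (Lpr_et (K17.f289074 IH) (Lpr_ft (K17.f289054 IH) (Lpe (f316002 IH) (Lpr_ft (f341180 IH) (Lpn (LP (LK LD1_c20 LD2_c56 LD3_c39))))))))
theorem f341190 : Led Lsl_at (LP (LK LD1_c29 LD2_c45 LD3_c39)) = (LP (LK LD1_c20 LD2_c56 LD3_c39)) :=
  Lre_a IH (LK LD1_c29 LD2_c45 LD3_c39) (LK LD1_c20 LD2_c56 LD3_c39) Lrfl Lrfl
theorem f341191 : Led Lsl_et (LP (LK LD1_c25 LD2_c7 LD3_c55)) = (LP (LK LD1_c29 LD2_c45 LD3_c39)) :=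
  Lgr Lrot123 (Lpe (K17.f223305 IH) (Lpr_ef (f341188 IH) (Lpe (f341190 IH) (Lpn (LP (LK LD1_c29 LD2_c45 LD3_c39))))))
theorem f191920 : Led Lsl_bt (LP (LK LD1_c4 LD2_c27 LD3_c48)) = (LP (LK LD1_c8 LD2_c53 LD3_c27)) :=
  Lre_b IH (LK LD1_c4 LD2_c27 LD3_c48) (LK LD1_c8 LD2_c53 LD3_c27) Lrfl Lrfl
theorem f225901 : Led Lsl_at (LP (LK LD1_c8 LD2_c53 LD3_c27)) = (LP (LK LD1_c16 LD2_c37 LD3_c27)) :=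
  Lre_a IH (LK LD1_c8 LD2_c53 LD3_c27) (LK LD1_c16 LD2_c37 LD3_c27) Lrfl Lrfl
theorem f278842 : Led Lsl_bt (LP (LK LD1_c16 LD2_c37 LD3_c27)) = (LP (LK LD1_c25 LD2_c7 LD3_c55)) :=
  Lgr Lrot62 (Lpe (f225901 IH) (Lpe (f191920 IH) (Lpr_af (K16.f278834 IH) (Lpe (K17.f223290 IH) (Lpe (K17.f223310 IH) (Lpn (LP (LK LD1_c25 LD2_c7 LD3_c55))))))))
theorem f225903 : Led Lsl_et (LP (LK LD1_c26 LD2_c34 LD3_c45)) = (LP (LK LD1_c16 LD2_c37 LD3_c27)) :=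
  Lre_e IH (LK LD1_c26 LD2_c34 LD3_c45) (LK LD1_c16 LD2_c37 LD3_c27) Lrfl Lrfl
theorem f341205 : Led Lsl_bf (LP (LK LD1_c26 LD2_c34 LD3_c45)) = (LP (LK LD1_c29 LD2_c45 LD3_c39)) :=
  Lgr Lrot96 (Lpr_et (f225903 IH) (Lpr_bt (f278842 IH) (Lpr_et (f341191 IH) (Lpn (LP (LK LD1_c29 LD2_c45 LD3_c39))))))
theorem f225907 : Led Lsl_dt (LP (LK LD1_c26 LD2_c34 LD3_c45)) = (LP (LK LD1_c32 LD2_c11 LD3_c16)) :=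
  Lre_d IH (LK LD1_c26 LD2_c34 LD3_c45) (LK LD1_c32 LD2_c11 LD3_c16) Lrfl Lrfl
theorem f341201 : Led Lsl_dt (LP (LK LD1_c32 LD2_c47 LD3_c27)) = (LP (LK LD1_c29 LD2_c45 LD3_c39)) :=
  Lre_d IH (LK LD1_c32 LD2_c47 LD3_c27) (LK LD1_c29 LD2_c45 LD3_c39) Lrfl Lrfl
theorem f341211 : Led Lsl_bt (LP (LK LD1_c32 LD2_c11 LD3_c16)) = (LP (LK LD1_c32 LD2_c47 LD3_c27)) :=
  Lgr Lrot95 (Lpe (f225907 IH) (Lpr_bf (f341205 IH) (Lpe (f341201 IH) (Lpn (LP (LK LD1_c32 LD2_c47 LD3_c27))))))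
theorem f341219 : Led Lsl_bf (LP (LK LD1_c32 LD2_c11 LD3_c16)) = (LP (LK LD1_c32 LD2_c47 LD3_c27)) :=
  Lgr Lrot24 (Lpr_bt (f341211 IH) (Lpn (LP (LK LD1_c32 LD2_c47 LD3_c27))))
theorem f341221 : Led Lsl_at (LP (LK LD1_c32 LD2_c11 LD3_c16)) = (LP (LK LD1_c26 LD2_c34 LD3_c50)) :=
  Lre_a IH (LK LD1_c32 LD2_c11 LD3_c16) (LK LD1_c26 LD2_c34 LD3_c50) Lrfl Lrfl
theorem f341222 : Led Lsl_bt (LP (LK LD1_c26 LD2_c34 LD3_c50)) = (LP (LK LD1_c16 LD2_c37 LD3_c33)) :=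
  Lre_b IH (LK LD1_c26 LD2_c34 LD3_c50) (LK LD1_c16 LD2_c37 LD3_c33) Lrfl Lrfl
theorem f341223 : Led Lsl_at (LP (LK LD1_c29 LD2_c45 LD3_c40)) = (LP (LK LD1_c32 LD2_c47 LD3_c27)) :=
  Lre_a IH (LK LD1_c29 LD2_c45 LD3_c40) (LK LD1_c32 LD2_c47 LD3_c27) Lrfl Lrfl
theorem f341224 : Led Lsl_bt (LP (LK LD1_c20 LD2_c56 LD3_c40)) = (LP (LK LD1_c29 LD2_c45 LD3_c40)) :=
  Lre_b IH (LK LD1_c20 LD2_c56 LD3_c40) (LK LD1_c29 LD2_c45 LD3_c40) Lrfl Lrfl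
theorem f341225 : Led Lsl_at (LP (LK LD1_c16 LD2_c37 LD3_c33)) = (LP (LK LD1_c20 LD2_c56 LD3_c40)) :=
  Lgr Lrot67 (Lpe (f341222 IH) (Lpe (f341221 IH) (Lpr_bf (f341219 IH) (Lpe (f341223 IH) (Lpe (f341224 IH) (Lpn (LP (LK LD1_c20 LD2_c56 LD3_c40))))))))
theorem f341228 : Led Lsl_ff (LP (LK LD1_c16 LD2_c37 LD3_c33)) = (LP (LK LD1_c20 LD2_c56 LD3_c38)) :=
  Lgr Lrot52 (Lpr_at (f341225 IH) (Lpe (K25.f341126 IH) (Lpr_gf (K20.f316590 IH) (Lpn (LP (LK LD1_c20 LD2_c56 LD3_c38))))))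
theorem f341233 : Led Lsl_ft (LP (LK LD1_c16 LD2_c37 LD3_c33)) = (LP (LK LD1_c20 LD2_c56 LD3_c38)) :=
  Lgr Lrot48 (Lpr_ff (f341228 IH) (Lpn (LP (LK LD1_c20 LD2_c56 LD3_c38))))
theorem f341235 : Led Lsl_bt (LP (LK LD1_c20 LD2_c56 LD3_c38)) = (LP (LK LD1_c29 LD2_c45 LD3_c36)) :=
  Lre_b IH (LK LD1_c20 LD2_c56 LD3_c38) (LK LD1_c29 LD2_c45 LD3_c36) Lrfl Lrfl
theorem f341236 : Led Lsl_ff (LP (LK LD1_c26 LD2_c34 LD3_c50)) = (LP (LK LD1_c29 LD2_c45 LD3_c36)) :=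
  Lgr Lrot25 (Lpr_bt (f341222 IH) (Lpr_ft (f341233 IH) (Lpr_bt (f341235 IH) (Lpn (LP (LK LD1_c29 LD2_c45 LD3_c36))))))
theorem f225856 : Led Lsl_dt (LP (LK LD1_c26 LD2_c34 LD3_c50)) = (LP (LK LD1_c16 LD2_c37 LD3_c29)) :=
  Lre_d IH (LK LD1_c26 LD2_c34 LD3_c50) (LK LD1_c16 LD2_c37 LD3_c29) Lrfl Lrfl
theorem f316623 : Led Lsl_dt (LP (LK LD1_c20 LD2_c56 LD3_c37)) = (LP (LK LD1_c29 LD2_c45 LD3_c36)) :=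
  Lre_d IH (LK LD1_c20 LD2_c56 LD3_c37) (LK LD1_c29 LD2_c45 LD3_c36) Lrfl Lrfl
theorem f341238 : Led Lsl_ft (LP (LK LD1_c16 LD2_c37 LD3_c29)) = (LP (LK LD1_c20 LD2_c56 LD3_c37)) :=
  Lgr Lrot54 (Lpe (f225856 IH) (Lpr_ff (f341236 IH) (Lpe (f316623 IH) (Lpn (LP (LK LD1_c20 LD2_c56 LD3_c37))))))
theorem f341244 : Led Lsl_ff (LP (LK LD1_c16 LD2_c37 LD3_c29)) = (LP (LK LD1_c20 LD2_c56 LD3_c37)) :=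
  Lgr Lrot3 (Lpr_ft (f341238 IH) (Lpn (LP (LK LD1_c20 LD2_c56 LD3_c37))))
theorem f225885 : Led Lsl_et (LP (LK LD1_c16 LD2_c37 LD3_c29)) = (LP (LK LD1_c8 LD2_c53 LD3_c27)) :=
  Lre_e IH (LK LD1_c16 LD2_c37 LD3_c29) (LK LD1_c8 LD2_c53 LD3_c27) Lrfl Lrfl
theorem f279019 : Led Lsl_bt (LP (LK LD1_c19 LD2_c31 LD3_c51)) = (LP (LK LD1_c10 LD2_c47 LD3_c53)) :=
  Lre_b IH (LK LD1_c19 LD2_c31 LD3_c51) (LK LD1_c10 LD2_c47 LD3_c53) Lrfl Lrfl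
theorem f316606 : Led Lsl_bt (LP (LK LD1_c11 LD2_c53 LD3_c9)) = (LP (LK LD1_c20 LD2_c56 LD3_c37)) :=
  Lre_b IH (LK LD1_c11 LD2_c53 LD3_c9) (LK LD1_c20 LD2_c56 LD3_c37) Lrfl Lrfl
theorem f316607 : Led Lsl_ef (LP (LK LD1_c19 LD2_c31 LD3_c51)) = (LP (LK LD1_c20 LD2_c56 LD3_c37)) :=
  Lgr Lrot29 (Lpr_bt (f279019 IH) (Lpr_et (K20.f316602 IH) (Lpr_bt (f316606 IH) (Lpn (LP (LK LD1_c20 LD2_c56 LD3_c37))))))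
theorem f316619 : Led Lsl_et (LP (LK LD1_c19 LD2_c31 LD3_c51)) = (LP (LK LD1_c20 LD2_c56 LD3_c37)) :=
  Lgr Lrot87 (Lpr_ef (f316607 IH) (Lpn (LP (LK LD1_c20 LD2_c56 LD3_c37))))
theorem f316627 : Led Lsl_ft (LP (LK LD1_c10 LD2_c47 LD3_c48)) = (LP (LK LD1_c19 LD2_c31 LD3_c51)) :=
  Lre_f IH (LK LD1_c10 LD2_c47 LD3_c48) (LK LD1_c19 LD2_c31 LD3_c51) Lrfl Lrfl
theorem f316628 : Led Lsl_et (LP (LK LD1_c5 LD2_c28 LD3_c20)) = (LP (LK LD1_c10 LD2_c47 LD3_c48)) :=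
  Lre_e IH (LK LD1_c5 LD2_c28 LD3_c20) (LK LD1_c10 LD2_c47 LD3_c48) Lrfl Lrfl
theorem f341253 : Led Lsl_ft (LP (LK LD1_c8 LD2_c53 LD3_c27)) = (LP (LK LD1_c5 LD2_c28 LD3_c20)) :=
  Lgr Lrot86 (Lpe (f225885 IH) (Lpr_ff (f341244 IH) (Lpe (f316619 IH) (Lpe (f316627 IH) (Lpe (f316628 IH) (Lpn (LP (LK LD1_c5 LD2_c28 LD3_c20))))))))
theorem f191895 : Led Lsl_bt (LP (LK LD1_c8 LD2_c53 LD3_c27)) = (LP (LK LD1_c4 LD2_c27 LD3_c48)) :=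
  Lre_b IH (LK LD1_c8 LD2_c53 LD3_c27) (LK LD1_c4 LD2_c27 LD3_c48) Lrfl Lrfl
theorem f225837 : Led Lsl_ct (LP (LK LD1_c4 LD2_c28 LD3_c55)) = (LP (LK LD1_c8 LD2_c53 LD3_c27)) :=
  Lgr Lrot83 (Lpe (f225815 IH) (Lpe (K12.f225707 IH) (Lpr_bf (K14.f225833 IH) (Lpe (K14.f191889 IH) (Lpe (f191895 IH) (Lpn (LP (LK LD1_c8 LD2_c53 LD3_c27))))))))
theorem f178154 : Led Lsl_ct (LP (LK LD1_c5 LD2_c28 LD3_c20)) = (LP (LK LD1_c2 LD2_c40 LD3_c32)) :=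
  Lre_c IH (LK LD1_c5 LD2_c28 LD3_c20) (LK LD1_c2 LD2_c40 LD3_c32) Lrfl Lrfl
theorem f341259 : Led Lsl_ff (LP (LK LD1_c4 LD2_c28 LD3_c55)) = (LP (LK LD1_c2 LD2_c40 LD3_c32)) :=
  Lgr Lrot23 (Lpr_ct (f225837 IH) (Lpr_ft (f341253 IH) (Lpr_ct (f178154 IH) (Lpn (LP (LK LD1_c2 LD2_c40 LD3_c32))))))
theorem f225888 : Led Lsl_at (LP (LK LD1_c4 LD2_c28 LD3_c55)) = (LP (LK LD1_c8 LD2_c56 LD3_c8)) :=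
  Lre_a IH (LK LD1_c4 LD2_c28 LD3_c55) (LK LD1_c8 LD2_c56 LD3_c8) Lrfl Lrfl
theorem f341295 : Led Lsl_gf (LP (LK LD1_c8 LD2_c56 LD3_c8)) = (LP (LK LD1_c5 LD2_c28 LD3_c26)) :=
  Lgr Lrot76 (Lpe (f225888 IH) (Lpr_ff (f341259 IH) (Lpr_gt (f7736 IH) (Lpn (LP (LK LD1_c5 LD2_c28 LD3_c26))))))
theorem f279102 : Led Lsl_dt (LP (LK LD1_c10 LD2_c48 LD3_c1)) = (LP (LK LD1_c5 LD2_c28 LD3_c28)) :=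
  Lre_d IH (LK LD1_c10 LD2_c48 LD3_c1) (LK LD1_c5 LD2_c28 LD3_c28) Lrfl Lrfl
theorem f341293 : Led Lsl_ft (LP (LK LD1_c4 LD2_c28 LD3_c55)) = (LP (LK LD1_c2 LD2_c40 LD3_c32)) :=
  Lgr Lrot48 (Lpr_ff (f341259 IH) (Lpn (LP (LK LD1_c2 LD2_c40 LD3_c32))))
theorem f225894 : Led Lsl_at (LP (LK LD1_c8 LD2_c56 LD3_c8)) = (LP (LK LD1_c4 LD2_c28 LD3_c55)) :=
  Lre_a IH (LK LD1_c8 LD2_c56 LD3_c8) (LK LD1_c4 LD2_c28 LD3_c55) Lrfl Lrfl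
theorem f289133 : Led Lsl_at (LP (LK LD1_c2 LD2_c40 LD3_c32)) = (LP (LK LD1_c5 LD2_c28 LD3_c28)) :=
  Lre_a IH (LK LD1_c2 LD2_c40 LD3_c32) (LK LD1_c5 LD2_c28 LD3_c28) Lrfl Lrfl
theorem f341298 : Led Lsl_ff (LP (LK LD1_c8 LD2_c56 LD3_c8)) = (LP (LK LD1_c5 LD2_c28 LD3_c28)) :=
  Lgr Lrot30 (Lpr_at (f225894 IH) (Lpr_ft (f341293 IH) (Lpr_at (f289133 IH) (Lpn (LP (LK LD1_c5 LD2_c28 LD3_c28))))))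
theorem f382577 : Led Lsl_df (LP (LK LD1_c8 LD2_c59 LD3_c1)) = (LP (LK LD1_c8 LD2_c56 LD3_c8)) :=
  Lgr Lrot78 (Lpr_ft (f382572 IH) (Lpr_dt (f279102 IH) (Lpe (f341298 IH) (Lpn (LP (LK LD1_c8 LD2_c56 LD3_c8))))))
theorem f382715 : Led Lsl_dt (LP (LK LD1_c16 LD2_c7 LD3_c27)) = (LP (LK LD1_c16 LD2_c48 LD3_c11)) :=
  Lgr Lrot105 (Lpr_gf (f382713 IH) (Lpe (f243755 IH) (Lpe (f175123 IH) (Lpe (f175122 IH) (Lpr_gt (f172878 IH) (Lpr_dt (f380940 IH) (Lpe (f341295 IH) (Lpe (f382577 IH) (Lpe (f382574 IH) (Lpn (LP (LK LD1_c16 LD2_c48 LD3_c11))))))))))))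
theorem f382726 : Led Lsl_df (LP (LK LD1_c16 LD2_c7 LD3_c27)) = (LP (LK LD1_c16 LD2_c48 LD3_c11)) :=
  Lgr Lrot38 (Lpr_dt (f382715 IH) (Lpn (LP (LK LD1_c16 LD2_c48 LD3_c11))))
theorem f382580 : Led Lsl_ff (LP (LK LD1_c8 LD2_c59 LD3_c1)) = (LP (LK LD1_c10 LD2_c48 LD3_c1)) :=
  Lgr Lrot3 (Lpr_ft (f382572 IH) (Lpn (LP (LK LD1_c10 LD2_c48 LD3_c1))))
theorem f341265 : Led Lsl_ct (LP (LK LD1_c19 LD2_c32 LD3_c13)) = (LP (LK LD1_c10 LD2_c48 LD3_c1)) :=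
  Lre_c IH (LK LD1_c19 LD2_c32 LD3_c13) (LK LD1_c10 LD2_c48 LD3_c1) Lrfl Lrfl
theorem f382583 : Led Lsl_ft (LP (LK LD1_c16 LD2_c48 LD3_c11)) = (LP (LK LD1_c19 LD2_c32 LD3_c13)) :=
  Lgr Lrot4 (Lpe (f382564 IH) (Lpr_ff (f382580 IH) (Lpe (f341265 IH) (Lpn (LP (LK LD1_c19 LD2_c32 LD3_c13))))))
theorem f381306 : Led Lsl_at (LP (LK LD1_c19 LD2_c32 LD3_c13)) = (LP (LK LD1_c10 LD2_c48 LD3_c3)) :=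
  Lre_a IH (LK LD1_c19 LD2_c32 LD3_c13) (LK LD1_c10 LD2_c48 LD3_c3) Lrfl Lrfl
theorem f382585 : Led Lsl_af (LP (LK LD1_c16 LD2_c48 LD3_c11)) = (LP (LK LD1_c10 LD2_c58 LD3_c28)) :=
  Lgr Lrot45 (Lpr_ft (f382583 IH) (Lpr_at (f381306 IH) (Lpe (f381291 IH) (Lpn (LP (LK LD1_c10 LD2_c58 LD3_c28))))))
theorem f382750 : Led Lsl_at (LP (LK LD1_c16 LD2_c7 LD3_c27)) = (LP (LK LD1_c15 LD2_c49 LD3_c21)) :=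
  Lgr Lrot51 (Lpr_df (f382726 IH) (Lpr_af (f382585 IH) (Lpr_df (f255935 IH) (Lpn (LP (LK LD1_c15 LD2_c49 LD3_c21))))))
theorem f178813 : Led Lsl_gt (LP (LK LD1_c15 LD2_c49 LD3_c22)) = (LP (LK LD1_c8 LD2_c25 LD3_c15)) :=
  Lre_g IH (LK LD1_c15 LD2_c49 LD3_c22) (LK LD1_c8 LD2_c25 LD3_c15) Lrfl Lrfl
theorem f382752 : Led Lsl_ff (LP (LK LD1_c16 LD2_c7 LD3_c27)) = (LP (LK LD1_c15 LD2_c49 LD3_c22)) :=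
  Lgr Lrot52 (Lpr_at (f382750 IH) (Lpe (f178810 IH) (Lpe (f178813 IH) (Lpn (LP (LK LD1_c15 LD2_c49 LD3_c22))))))
theorem f382756 : Led Lsl_ft (LP (LK LD1_c16 LD2_c7 LD3_c27)) = (LP (LK LD1_c15 LD2_c49 LD3_c22)) :=
  Lgr Lrot48 (Lpr_ff (f382752 IH) (Lpn (LP (LK LD1_c15 LD2_c49 LD3_c22))))
theorem f179685 : Led Lsl_gt (LP (LK LD1_c8 LD2_c36 LD3_c4)) = (LP (LK LD1_c16 LD2_c7 LD3_c26)) :=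
  Lre_g IH (LK LD1_c8 LD2_c36 LD3_c4) (LK LD1_c16 LD2_c7 LD3_c26) Lrfl Lrfl
theorem f382760 : Led Lsl_af (LP (LK LD1_c16 LD2_c7 LD3_c26)) = (LP (LK LD1_c15 LD2_c49 LD3_c22)) :=
  Lgr Lrot31 (Lpe (f179685 IH) (Lpe (f179686 IH) (Lpr_ft (f382756 IH) (Lpn (LP (LK LD1_c15 LD2_c49 LD3_c22))))))
theorem f382754 : Led Lsl_dt (LP (LK LD1_c19 LD2_c32 LD3_c13)) = (LP (LK LD1_c15 LD2_c49 LD3_c22)) :=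
  Lgr Lrot60 (Lpe (f382583 IH) (Lpe (f382715 IH) (Lpr_ff (f382752 IH) (Lpn (LP (LK LD1_c15 LD2_c49 LD3_c22))))))
theorem f382764 : Led Lsl_dt (LP (LK LD1_c16 LD2_c7 LD3_c26)) = (LP (LK LD1_c10 LD2_c48 LD3_c3)) :=
  Lgr Lrot44 (Lpr_af (f382760 IH) (Lpe (f382754 IH) (Lpe (f381311 IH) (Lpn (LP (LK LD1_c10 LD2_c48 LD3_c3))))))
theorem f178155 : Led Lsl_dt (LP (LK LD1_c2 LD2_c40 LD3_c32)) = (LP (LK LD1_c5 LD2_c28 LD3_c29)) :=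
  Lre_d IH (LK LD1_c2 LD2_c40 LD3_c32) (LK LD1_c5 LD2_c28 LD3_c29) Lrfl Lrfl
theorem f179123 : Led Lsl_gt (LP (LK LD1_c5 LD2_c28 LD3_c27)) = (LP (LK LD1_c2 LD2_c40 LD3_c32)) :=
  Lre_g IH (LK LD1_c5 LD2_c28 LD3_c27) (LK LD1_c2 LD2_c40 LD3_c32) Lrfl Lrfl
theorem f179122 : Led Lsl_bt (LP (LK LD1_c0 LD2_c35 LD3_c47)) = (LP (LK LD1_c1 LD2_c17 LD3_c25)) :=
  Lre_b IH (LK LD1_c0 LD2_c35 LD3_c47) (LK LD1_c1 LD2_c17 LD3_c25) Lrfl Lrfl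
theorem f175116 : Led Lsl_gt (LP (LK LD1_c1 LD2_c17 LD3_c25)) = (LP (LK LD1_c2 LD2_c41 LD3_c27)) :=
  Lre_g IH (LK LD1_c1 LD2_c17 LD3_c25) (LK LD1_c2 LD2_c41 LD3_c27) Lrfl Lrfl
theorem f175117 : Led Lsl_ct (LP (LK LD1_c2 LD2_c41 LD3_c27)) = (LP (LK LD1_c5 LD2_c30 LD3_c22)) :=
  Lre_c IH (LK LD1_c2 LD2_c41 LD3_c27) (LK LD1_c5 LD2_c30 LD3_c22) Lrfl Lrfl
theorem f175118 : Led Lsl_gt (LP (LK LD1_c5 LD2_c30 LD3_c22)) = (LP (LK LD1_c10 LD2_c52 LD3_c11)) :=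
  Lre_g IH (LK LD1_c5 LD2_c30 LD3_c22) (LK LD1_c10 LD2_c52 LD3_c11) Lrfl Lrfl
theorem f7735 : Led Lsl_bt (LP (LK LD1_c1 LD2_c16 LD3_c59)) = (LP (LK LD1_c2 LD2_c40 LD3_c32)) :=
  Lre_b IH (LK LD1_c1 LD2_c16 LD3_c59) (LK LD1_c2 LD2_c40 LD3_c32) Lrfl Lrfl
theorem f179124 : Led Lsl_bt (LP (LK LD1_c10 LD2_c47 LD3_c61)) = (LP (LK LD1_c5 LD2_c28 LD3_c27)) :=
  Lre_b IH (LK LD1_c10 LD2_c47 LD3_c61) (LK LD1_c5 LD2_c28 LD3_c27) Lrfl Lrfl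
theorem f179125 : Led Lsl_cf (LP (LK LD1_c10 LD2_c52 LD3_c11)) = (LP (LK LD1_c10 LD2_c47 LD3_c61)) :=
  Lgr Lrot163 (Lpe (f175118 IH) (Lpe (f175117 IH) (Lpe (f175116 IH) (Lpe (f179122 IH) (Lpr_ct (K12.f168180 IH) (Lpr_gf (K9.f179116 IH) (Lpe (K9.f7732 IH) (Lpr_bt (f7735 IH) (Lpe (f179123 IH) (Lpe (f179124 IH) (Lpn (LP (LK LD1_c10 LD2_c47 LD3_c61)))))))))))))
theorem f179138 : Led Lsl_ct (LP (LK LD1_c10 LD2_c52 LD3_c11)) = (LP (LK LD1_c10 LD2_c47 LD3_c61)) :=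
  Lgr Lrot59 (Lpr_cf (f179125 IH) (Lpn (LP (LK LD1_c10 LD2_c47 LD3_c61))))
theorem f175119 : Led Lsl_dt (LP (LK LD1_c2 LD2_c41 LD3_c30)) = (LP (LK LD1_c1 LD2_c17 LD3_c25)) :=
  Lre_d IH (LK LD1_c2 LD2_c41 LD3_c30) (LK LD1_c1 LD2_c17 LD3_c25) Lrfl Lrfl
theorem f175098 : Led Lsl_gt (LP (LK LD1_c2 LD2_c41 LD3_c30)) = (LP (LK LD1_c5 LD2_c30 LD3_c31)) :=
  Lre_g IH (LK LD1_c2 LD2_c41 LD3_c30) (LK LD1_c5 LD2_c30 LD3_c31) Lrfl Lrfl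
theorem f175105 : Led Lsl_ct (LP (LK LD1_c5 LD2_c30 LD3_c31)) = (LP (LK LD1_c10 LD2_c52 LD3_c38)) :=
  Lre_c IH (LK LD1_c5 LD2_c30 LD3_c31) (LK LD1_c10 LD2_c52 LD3_c38) Lrfl Lrfl
theorem f172877 : Led Lsl_bt (LP (LK LD1_c0 LD2_c37 LD3_c10)) = (LP (LK LD1_c1 LD2_c20 LD3_c27)) :=
  Lre_b IH (LK LD1_c0 LD2_c37 LD3_c10) (LK LD1_c1 LD2_c20 LD3_c27) Lrfl Lrfl
theorem f175102 : Led Lsl_gt (LP (LK LD1_c2 LD2_c48 LD3_c35)) = (LP (LK LD1_c1 LD2_c20 LD3_c27)) :=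
  Lre_g IH (LK LD1_c2 LD2_c48 LD3_c35) (LK LD1_c1 LD2_c20 LD3_c27) Lrfl Lrfl
theorem f175103 : Led Lsl_bt (LP (LK LD1_c5 LD2_c45 LD3_c36)) = (LP (LK LD1_c2 LD2_c48 LD3_c35)) :=
  Lre_b IH (LK LD1_c5 LD2_c45 LD3_c36) (LK LD1_c2 LD2_c48 LD3_c35) Lrfl Lrfl
theorem f175104 : Led Lsl_ct (LP (LK LD1_c5 LD2_c45 LD3_c36)) = (LP (LK LD1_c11 LD2_c21 LD3_c39)) :=
  Lre_c IH (LK LD1_c5 LD2_c45 LD3_c36) (LK LD1_c11 LD2_c21 LD3_c39) Lrfl Lrfl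
theorem f175091 : Led Lsl_bt (LP (LK LD1_c1 LD2_c17 LD3_c26)) = (LP (LK LD1_c2 LD2_c41 LD3_c30)) :=
  Lre_b IH (LK LD1_c1 LD2_c17 LD3_c26) (LK LD1_c2 LD2_c41 LD3_c30) Lrfl Lrfl
theorem f175106 : Led Lsl_gf (LP (LK LD1_c11 LD2_c21 LD3_c39)) = (LP (LK LD1_c10 LD2_c52 LD3_c38)) :=
  Lgr Lrot129 (Lpe (f175104 IH) (Lpr_bt (f175103 IH) (Lpr_gt (f175102 IH) (Lpe (f172877 IH) (Lpr_ct (K9.f171852 IH) (Lpr_gt (K9.f172426 IH) (Lpr_cf (K9.f174970 IH) (Lpr_bt (f175091 IH) (Lpr_gt (f175098 IH) (Lpr_ct (f175105 IH) (Lpn (LP (LK LD1_c10 LD2_c52 LD3_c38)))))))))))))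
theorem f175113 : Led Lsl_ct (LP (LK LD1_c11 LD2_c21 LD3_c39)) = (LP (LK LD1_c5 LD2_c45 LD3_c36)) :=
  Lre_c IH (LK LD1_c11 LD2_c21 LD3_c39) (LK LD1_c5 LD2_c45 LD3_c36) Lrfl Lrfl
theorem f179150 : Led Lsl_df (LP (LK LD1_c5 LD2_c45 LD3_c36)) = (LP (LK LD1_c10 LD2_c47 LD3_c61)) :=
  Lgr Lrot162 (Lpe (f175113 IH) (Lpr_gf (f175106 IH) (Lpe (f175105 IH) (Lpe (f175098 IH) (Lpr_dt (f175119 IH) (Lpr_gt (f175116 IH) (Lpr_ct (f175117 IH) (Lpr_gt (f175118 IH) (Lpr_ct (f179138 IH) (Lpn (LP (LK LD1_c10 LD2_c47 LD3_c61))))))))))))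
theorem f179136 : Led Lsl_bt (LP (LK LD1_c5 LD2_c28 LD3_c27)) = (LP (LK LD1_c10 LD2_c47 LD3_c61)) :=
  Lre_b IH (LK LD1_c5 LD2_c28 LD3_c27) (LK LD1_c10 LD2_c47 LD3_c61) Lrfl Lrfl
theorem f179154 : Led Lsl_dt (LP (LK LD1_c2 LD2_c48 LD3_c35)) = (LP (LK LD1_c5 LD2_c28 LD3_c27)) :=
  Lgr Lrot79 (Lpe (f175103 IH) (Lpr_df (f179150 IH) (Lpe (f179136 IH) (Lpn (LP (LK LD1_c5 LD2_c28 LD3_c27))))))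
theorem f8808 : Led Lsl_gt (LP (LK LD1_c4 LD2_c30 LD3_c30)) = (LP (LK LD1_c2 LD2_c48 LD3_c35)) :=
  Lre_g IH (LK LD1_c4 LD2_c30 LD3_c30) (LK LD1_c2 LD2_c48 LD3_c35) Lrfl Lrfl
theorem f179163 : Led Lsl_ct (LP (LK LD1_c8 LD2_c59 LD3_c19)) = (LP (LK LD1_c4 LD2_c30 LD3_c30)) :=
  Lre_c IH (LK LD1_c8 LD2_c59 LD3_c19) (LK LD1_c4 LD2_c30 LD3_c30) Lrfl Lrfl
theorem f173454 : Led Lsl_gt (LP (LK LD1_c8 LD2_c59 LD3_c19)) = (LP (LK LD1_c5 LD2_c44 LD3_c38)) :=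
  Lre_g IH (LK LD1_c8 LD2_c59 LD3_c19) (LK LD1_c5 LD2_c44 LD3_c38) Lrfl Lrfl
theorem f382782 : Led Lsl_df (LP (LK LD1_c8 LD2_c36 LD3_c4)) = (LP (LK LD1_c5 LD2_c44 LD3_c38)) :=
  Lgr Lrot153 (Lpr_gt (f179685 IH) (Lpr_dt (f382764 IH) (Lpe (f179152 IH) (Lpe (f178155 IH) (Lpe (f179123 IH) (Lpe (f179154 IH) (Lpe (f8808 IH) (Lpe (f179163 IH) (Lpr_gt (f173454 IH) (Lpn (LP (LK LD1_c5 LD2_c44 LD3_c38))))))))))))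
theorem f382784 : Led Lsl_bt (LP (LK LD1_c8 LD2_c36 LD3_c5)) = (LP (LK LD1_c5 LD2_c44 LD3_c38)) :=
  Lgr Lrot95 (Lpe (K17.f267597 IH) (Lpe (f179616 IH) (Lpr_df (f382782 IH) (Lpn (LP (LK LD1_c5 LD2_c44 LD3_c38))))))
theorem f290116 : Led Lsl_ct (LP (LK LD1_c4 LD2_c53 LD3_c32)) = (LP (LK LD1_c8 LD2_c34 LD3_c13)) :=
  Lgr Lrot176 (Lpe (K17.f166987 IH) (Lpe (K16.f2860 IH) (Lpe (K14.f166576 IH) (Lpr_cf (K14.f200147 IH) (Lpe (K15.f170627 IH) (Lpe (K15.f170630 IH) (Lpe (K17.f170631 IH) (Lpe (K17.f170632 IH) (Lpr_df (K17.f290109 IH) (Lpe (K17.f222113 IH) (Lpr_df (K17.f222106 IH) (Lpe (K17.f200605 IH) (Lpe (K17.f7971 IH) (Lpe (K17.f7976 IH) (Lpe (K17.f7975 IH) (Lpn (LP (LK LD1_c8 LD2_c34 LD3_c13))))))))))))))))))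
theorem f290408 : Led Lsl_gt (LP (LK LD1_c5 LD2_c44 LD3_c38)) = (LP (LK LD1_c2 LD2_c48 LD3_c11)) :=
  Lre_g IH (LK LD1_c5 LD2_c44 LD3_c38) (LK LD1_c2 LD2_c48 LD3_c11) Lrfl Lrfl
theorem f381972 : Led Lsl_bt (LP (LK LD1_c1 LD2_c20 LD3_c19)) = (LP (LK LD1_c2 LD2_c48 LD3_c11)) :=
  Lre_b IH (LK LD1_c1 LD2_c20 LD3_c19) (LK LD1_c2 LD2_c48 LD3_c11) Lrfl Lrfl
theorem f172560 : Led Lsl_ct (LP (LK LD1_c1 LD2_c20 LD3_c19)) = (LP (LK LD1_c0 LD2_c37 LD3_c6)) :=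
  Lre_c IH (LK LD1_c1 LD2_c20 LD3_c19) (LK LD1_c0 LD2_c37 LD3_c6) Lrfl Lrfl
theorem f75568 : Led Lsl_gt (LP (LK LD1_c0 LD2_c37 LD3_c6)) = (LP (LK LD1_c1 LD2_c20 LD3_c17)) :=
  Lre_g IH (LK LD1_c0 LD2_c37 LD3_c6) (LK LD1_c1 LD2_c20 LD3_c17) Lrfl Lrfl
theorem f381511 : Led Lsl_ct (LP (LK LD1_c2 LD2_c48 LD3_c4)) = (LP (LK LD1_c1 LD2_c20 LD3_c17)) :=
  Lre_c IH (LK LD1_c2 LD2_c48 LD3_c4) (LK LD1_c1 LD2_c20 LD3_c17) Lrfl Lrfl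
theorem f383236 : Led Lsl_bt (LP (LK LD1_c2 LD2_c48 LD3_c4)) = (LP (LK LD1_c5 LD2_c44 LD3_c15)) :=
  Lre_b IH (LK LD1_c2 LD2_c48 LD3_c4) (LK LD1_c5 LD2_c44 LD3_c15) Lrfl Lrfl
theorem f383237 : Led Lsl_gf (LP (LK LD1_c4 LD2_c53 LD3_c32)) = (LP (LK LD1_c5 LD2_c44 LD3_c15)) :=
  Lgr Lrot181 (Lpr_ct (f290116 IH) (Lpe (K17.f290088 IH) (Lpe (K17.f267603 IH) (Lpr_bt (f382784 IH) (Lpr_gt (f290408 IH) (Lpe (f381972 IH) (Lpr_ct (f172560 IH) (Lpr_gt (f75568 IH) (Lpe (f381511 IH) (Lpr_bt (f383236 IH) (Lpn (LP (LK LD1_c5 LD2_c44 LD3_c15)))))))))))))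
theorem f383249 : Led Lsl_df (LP (LK LD1_c4 LD2_c18 LD3_c48)) = (LP (LK LD1_c5 LD2_c44 LD3_c15)) :=
  Lgr Lrot155 (Lpr_gt (K18.f179732 IH) (Lpr_ct (K19.f179753 IH) (Lpr_gt (K13.f171505 IH) (Lpr_ct (K13.f179602 IH) (Lpr_dt (K17.f267597 IH) (Lpr_cf (K17.f267605 IH) (Lpr_gf (K17.f290088 IH) (Lpe (f290116 IH) (Lpr_gf (f383237 IH) (Lpn (LP (LK LD1_c5 LD2_c44 LD3_c15))))))))))))
theorem f311340 : Led Lsl_ft (LP (LK LD1_c4 LD2_c18 LD3_c48)) = (LP (LK LD1_c4 LD2_c13 LD3_c7)) :=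
  Lgr Lrot48 (Lpr_ff (K19.f311338 IH) (Lpn (LP (LK LD1_c4 LD2_c13 LD3_c7))))
theorem f184308 : Led Lsl_dt (LP (LK LD1_c4 LD2_c13 LD3_c7)) = (LP (LK LD1_c8 LD2_c25 LD3_c28)) :=
  Lre_d IH (LK LD1_c4 LD2_c13 LD3_c7) (LK LD1_c8 LD2_c25 LD3_c28) Lrfl Lrfl
theorem f383442 : Led Lsl_ft (LP (LK LD1_c8 LD2_c25 LD3_c28)) = (LP (LK LD1_c5 LD2_c44 LD3_c15)) :=
  Lgr Lrot54 (Lpe (f184308 IH) (Lpe (f311340 IH) (Lpr_df (f383249 IH) (Lpn (LP (LK LD1_c5 LD2_c44 LD3_c15))))))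
theorem f178761 : Led Lsl_bt (LP (LK LD1_c8 LD2_c25 LD3_c15)) = (LP (LK LD1_c4 LD2_c13 LD3_c1)) :=
  Lre_b IH (LK LD1_c8 LD2_c25 LD3_c15) (LK LD1_c4 LD2_c13 LD3_c1) Lrfl Lrfl
theorem f255943 : Led Lsl_bf (LP (LK LD1_c8 LD2_c59 LD3_c26)) = (LP (LK LD1_c8 LD2_c25 LD3_c16)) :=
  Lgr Lrot93 (Lpr_dt (f255941 IH) (Lpr_bt (f178761 IH) (Lpr_dt (K18.f213894 IH) (Lpn (LP (LK LD1_c8 LD2_c25 LD3_c16))))))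
theorem f255949 : Led Lsl_gt (LP (LK LD1_c8 LD2_c59 LD3_c26)) = (LP (LK LD1_c4 LD2_c30 LD3_c33)) :=
  Lre_g IH (LK LD1_c8 LD2_c59 LD3_c26) (LK LD1_c4 LD2_c30 LD3_c33) Lrfl Lrfl
theorem f255975 : Led Lsl_bt (LP (LK LD1_c2 LD2_c48 LD3_c14)) = (LP (LK LD1_c4 LD2_c30 LD3_c33)) :=
  Lre_b IH (LK LD1_c2 LD2_c48 LD3_c14) (LK LD1_c4 LD2_c30 LD3_c33) Lrfl Lrfl
theorem f173385 : Led Lsl_ct (LP (LK LD1_c2 LD2_c48 LD3_c14)) = (LP (LK LD1_c1 LD2_c20 LD3_c21)) :=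
  Lre_c IH (LK LD1_c2 LD2_c48 LD3_c14) (LK LD1_c1 LD2_c20 LD3_c21) Lrfl Lrfl
theorem f255976 : Led Lsl_gt (LP (LK LD1_c1 LD2_c20 LD3_c21)) = (LP (LK LD1_c2 LD2_c48 LD3_c0)) :=
  Lre_g IH (LK LD1_c1 LD2_c20 LD3_c21) (LK LD1_c2 LD2_c48 LD3_c0) Lrfl Lrfl
theorem f255977 : Led Lsl_ct (LP (LK LD1_c5 LD2_c44 LD3_c0)) = (LP (LK LD1_c2 LD2_c48 LD3_c0)) :=
  Lre_c IH (LK LD1_c5 LD2_c44 LD3_c0) (LK LD1_c2 LD2_c48 LD3_c0) Lrfl Lrfl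
theorem f300837 : Led Lsl_cf (LP (LK LD1_c8 LD2_c25 LD3_c16)) = (LP (LK LD1_c8 LD2_c21 LD3_c22)) :=
  Lgr Lrot14 (Lpe (K18.f213894 IH) (Lpr_gf (K18.f270732 IH) (Lpe (K16.f211427 IH) (Lpe (K17.f270696 IH) (Lpe (K15.f262662 IH) (Lpr_gt (K15.f262678 IH) (Lpe (K14.f251962 IH) (Lpr_gt (K18.f300830 IH) (Lpr_dt (K18.f167102 IH) (Lpn (LP (LK LD1_c8 LD2_c21 LD3_c22))))))))))))
theorem f310086 : Led Lsl_gt (LP (LK LD1_c8 LD2_c25 LD3_c28)) = (LP (LK LD1_c4 LD2_c52 LD3_c10)) :=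
  Lgr Lrot9 (Lpe (f184308 IH) (Lpr_gt (K15.f178315 IH) (Lpr_ct (K19.f178312 IH) (Lpr_gt (K14.f178507 IH) (Lpr_ct (K14.f178806 IH) (Lpe (K16.f213893 IH) (Lpr_cf (f300837 IH) (Lpr_gf (K19.f310078 IH) (Lpe (K19.f304687 IH) (Lpn (LP (LK LD1_c4 LD2_c52 LD3_c10))))))))))))
theorem f310088 : Led Lsl_bt (LP (LK LD1_c5 LD2_c44 LD3_c0)) = (LP (LK LD1_c8 LD2_c25 LD3_c28)) :=
  Lgr Lrot130 (Lpr_ct (f255977 IH) (Lpe (f255976 IH) (Lpe (f173385 IH) (Lpr_bt (f255975 IH) (Lpe (f255949 IH) (Lpr_bf (f255943 IH) (Lpr_ct (K18.f300835 IH) (Lpr_gf (K19.f310078 IH) (Lpe (K19.f304687 IH) (Lpe (f310086 IH) (Lpn (LP (LK LD1_c8 LD2_c25 LD3_c28)))))))))))))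
theorem f381628 : Led Lsl_bt (LP (LK LD1_c5 LD2_c44 LD3_c15)) = (LP (LK LD1_c2 LD2_c48 LD3_c4)) :=
  Lre_b IH (LK LD1_c5 LD2_c44 LD3_c15) (LK LD1_c2 LD2_c48 LD3_c4) Lrfl Lrfl
theorem f383449 : Led Lsl_ff (LP (LK LD1_c5 LD2_c44 LD3_c0)) = (LP (LK LD1_c2 LD2_c48 LD3_c4)) :=
  Lgr Lrot25 (Lpr_bt (f310088 IH) (Lpr_ft (f383442 IH) (Lpr_bt (f381628 IH) (Lpn (LP (LK LD1_c2 LD2_c48 LD3_c4))))))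
theorem f383456 : Led Lsl_ft (LP (LK LD1_c5 LD2_c44 LD3_c0)) = (LP (LK LD1_c2 LD2_c48 LD3_c4)) :=
  Lgr Lrot48 (Lpr_ff (f383449 IH) (Lpn (LP (LK LD1_c2 LD2_c48 LD3_c4))))
theorem f381674 : Led Lsl_ft (LP (LK LD1_c0 LD2_c37 LD3_c7)) = (LP (LK LD1_c0 LD2_c16 LD3_c32)) :=
  Lre_f IH (LK LD1_c0 LD2_c37 LD3_c7) (LK LD1_c0 LD2_c16 LD3_c32) Lrfl Lrfl
theorem f381675 : Led Lsl_at (LP (LK LD1_c0 LD2_c16 LD3_c32)) = (LP (LK LD1_c0 LD2_c37 LD3_c5)) :=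
  Lre_a IH (LK LD1_c0 LD2_c16 LD3_c32) (LK LD1_c0 LD2_c37 LD3_c5) Lrfl Lrfl
theorem f381676 : Led Lsl_gt (LP (LK LD1_c1 LD2_c20 LD3_c11)) = (LP (LK LD1_c0 LD2_c37 LD3_c5)) :=
  Lgr Lrot46 (Lpr_gf (f381668 IH) (Lpr_ft (f381674 IH) (Lpr_at (f381675 IH) (Lpn (LP (LK LD1_c0 LD2_c37 LD3_c5))))))
theorem f381714 : Led Lsl_ft (LP (LK LD1_c1 LD2_c20 LD3_c11)) = (LP (LK LD1_c0 LD2_c37 LD3_c3)) :=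
  Lre_f IH (LK LD1_c1 LD2_c20 LD3_c11) (LK LD1_c0 LD2_c37 LD3_c3) Lrfl Lrfl
theorem f381785 : Led Lsl_at (LP (LK LD1_c0 LD2_c37 LD3_c3)) = (LP (LK LD1_c1 LD2_c20 LD3_c7)) :=
  Lre_a IH (LK LD1_c0 LD2_c37 LD3_c3) (LK LD1_c1 LD2_c20 LD3_c7) Lrfl Lrfl
theorem f382406 : Led Lsl_gf (LP (LK LD1_c1 LD2_c20 LD3_c7)) = (LP (LK LD1_c0 LD2_c37 LD3_c5)) :=
  Lgr Lrot76 (Lpe (f381785 IH) (Lpe (f381714 IH) (Lpr_gt (f381676 IH) (Lpn (LP (LK LD1_c0 LD2_c37 LD3_c5))))))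
theorem f381591 : Led Lsl_dt (LP (LK LD1_c1 LD2_c20 LD3_c7)) = (LP (LK LD1_c2 LD2_c47 LD3_c38)) :=
  Lre_d IH (LK LD1_c1 LD2_c20 LD3_c7) (LK LD1_c2 LD2_c47 LD3_c38) Lrfl Lrfl
theorem f381592 : Led Lsl_ct (LP (LK LD1_c2 LD2_c47 LD3_c38)) = (LP (LK LD1_c5 LD2_c43 LD3_c14)) :=
  Lre_c IH (LK LD1_c2 LD2_c47 LD3_c38) (LK LD1_c5 LD2_c43 LD3_c14) Lrfl Lrfl
theorem f381588 : Led Lsl_dt (LP (LK LD1_c11 LD2_c16 LD3_c42)) = (LP (LK LD1_c5 LD2_c43 LD3_c14)) :=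
  Lre_d IH (LK LD1_c11 LD2_c16 LD3_c42) (LK LD1_c5 LD2_c43 LD3_c14) Lrfl Lrfl
theorem f381575 : Led Lsl_at (LP (LK LD1_c5 LD2_c43 LD3_c31)) = (LP (LK LD1_c11 LD2_c16 LD3_c42)) :=
  Lre_a IH (LK LD1_c5 LD2_c43 LD3_c31) (LK LD1_c11 LD2_c16 LD3_c42) Lrfl Lrfl
theorem f270605 : Led Lsl_gt (LP (LK LD1_c9 LD2_c36 LD3_c41)) = (LP (LK LD1_c17 LD2_c41 LD3_c58)) :=
  Lre_g IH (LK LD1_c9 LD2_c36 LD3_c41) (LK LD1_c17 LD2_c41 LD3_c58) Lrfl Lrfl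
theorem f381586 : Led Lsl_gf (LP (LK LD1_c11 LD2_c16 LD3_c42)) = (LP (LK LD1_c17 LD2_c41 LD3_c58)) :=
  Lgr Lrot76 (Lpe (f381575 IH) (Lpr_ff (f381507 IH) (Lpr_gt (f270605 IH) (Lpn (LP (LK LD1_c17 LD2_c41 LD3_c58))))))
theorem f40722 : Led Lsl_bt (LP (LK LD1_c0 LD2_c32 LD3_c42)) = (LP (LK LD1_c0 LD2_c14 LD3_c41)) :=
  Lre_b IH (LK LD1_c0 LD2_c32 LD3_c42) (LK LD1_c0 LD2_c14 LD3_c41) Lrfl Lrfl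
theorem f168868 : Led Lsl_ct (LP (LK LD1_c0 LD2_c32 LD3_c42)) = (LP (LK LD1_c0 LD2_c16 LD3_c32)) :=
  Lre_c IH (LK LD1_c0 LD2_c32 LD3_c42) (LK LD1_c0 LD2_c16 LD3_c32) Lrfl Lrfl
theorem f75552 : Led Lsl_gt (LP (LK LD1_c0 LD2_c37 LD3_c4)) = (LP (LK LD1_c0 LD2_c16 LD3_c32)) :=
  Lre_g IH (LK LD1_c0 LD2_c37 LD3_c4) (LK LD1_c0 LD2_c16 LD3_c32) Lrfl Lrfl
theorem f168869 : Led Lsl_ct (LP (LK LD1_c1 LD2_c20 LD3_c13)) = (LP (LK LD1_c0 LD2_c37 LD3_c4)) :=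
  Lre_c IH (LK LD1_c1 LD2_c20 LD3_c13) (LK LD1_c0 LD2_c37 LD3_c4) Lrfl Lrfl
theorem f381687 : Led Lsl_bf (LP (LK LD1_c1 LD2_c20 LD3_c11)) = (LP (LK LD1_c1 LD2_c20 LD3_c13)) :=
  Lgr Lrot34 (Lpr_gf (f381668 IH) (Lpe (f168870 IH) (Lpr_ct (K9.f20812 IH) (Lpe (K9.f20230 IH) (Lpe (K9.f164712 IH) (Lpe (K9.f168829 IH) (Lpe (f40722 IH) (Lpr_ct (f168868 IH) (Lpe (f75552 IH) (Lpe (f168869 IH) (Lpn (LP (LK LD1_c1 LD2_c20 LD3_c13)))))))))))))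
theorem f381715 : Led Lsl_bt (LP (LK LD1_c0 LD2_c37 LD3_c3)) = (LP (LK LD1_c1 LD2_c20 LD3_c8)) :=
  Lre_b IH (LK LD1_c0 LD2_c37 LD3_c3) (LK LD1_c1 LD2_c20 LD3_c8) Lrfl Lrfl
theorem f381716 : Led Lsl_ft (LP (LK LD1_c1 LD2_c20 LD3_c8)) = (LP (LK LD1_c1 LD2_c20 LD3_c13)) :=
  Lgr Lrot75 (Lpe (f381715 IH) (Lpe (f381714 IH) (Lpr_bf (f381687 IH) (Lpn (LP (LK LD1_c1 LD2_c20 LD3_c13))))))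
theorem f381456 : Led Lsl_dt (LP (LK LD1_c1 LD2_c20 LD3_c8)) = (LP (LK LD1_c2 LD2_c47 LD3_c39)) :=
  Lre_d IH (LK LD1_c1 LD2_c20 LD3_c8) (LK LD1_c2 LD2_c47 LD3_c39) Lrfl Lrfl
theorem f381134 : Led Lsl_ct (LP (LK LD1_c2 LD2_c47 LD3_c39)) = (LP (LK LD1_c5 LD2_c43 LD3_c16)) :=
  Lre_c IH (LK LD1_c2 LD2_c47 LD3_c39) (LK LD1_c5 LD2_c43 LD3_c16) Lrfl Lrfl
theorem f381649 : Led Lsl_at (LP (LK LD1_c1 LD2_c20 LD3_c13)) = (LP (LK LD1_c2 LD2_c47 LD3_c44)) :=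
  Lre_a IH (LK LD1_c1 LD2_c20 LD3_c13) (LK LD1_c2 LD2_c47 LD3_c44) Lrfl Lrfl
theorem f381643 : Led Lsl_ct (LP (LK LD1_c1 LD2_c20 LD3_c11)) = (LP (LK LD1_c2 LD2_c47 LD3_c44)) :=
  Lre_c IH (LK LD1_c1 LD2_c20 LD3_c11) (LK LD1_c2 LD2_c47 LD3_c44) Lrfl Lrfl
theorem f381642 : Led Lsl_dt (LP (LK LD1_c2 LD2_c47 LD3_c48)) = (LP (LK LD1_c1 LD2_c20 LD3_c11)) :=
  Lre_d IH (LK LD1_c2 LD2_c47 LD3_c48) (LK LD1_c1 LD2_c20 LD3_c11) Lrfl Lrfl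
theorem f381731 : Led Lsl_dt (LP (LK LD1_c5 LD2_c43 LD3_c16)) = (LP (LK LD1_c6 LD2_c4 LD3_c18)) :=
  Lgr Lrot32 (Lpe (f381134 IH) (Lpe (f381456 IH) (Lpr_ft (f381716 IH) (Lpr_at (f381649 IH) (Lpe (f381643 IH) (Lpe (f381642 IH) (Lpe (f381641 IH) (Lpr_df (f381601 IH) (Lpe (K20.f270600 IH) (Lpn (LP (LK LD1_c6 LD2_c4 LD3_c18))))))))))))
theorem f232818 : Led Lsl_ff (LP (LK LD1_c8 LD2_c32 LD3_c41)) = (LP (LK LD1_c6 LD2_c4 LD3_c18)) :=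
  Lgr Lrot3 (Lpr_ft (f232800 IH) (Lpn (LP (LK LD1_c6 LD2_c4 LD3_c18))))
theorem f381737 : Led Lsl_ff (LP (LK LD1_c5 LD2_c43 LD3_c16)) = (LP (LK LD1_c5 LD2_c43 LD3_c45)) :=
  Lgr Lrot19 (Lpr_dt (f381731 IH) (Lpe (f232818 IH) (Lpe (f381467 IH) (Lpn (LP (LK LD1_c5 LD2_c43 LD3_c45))))))
theorem f172457 : Led Lsl_dt (LP (LK LD1_c2 LD2_c26 LD3_c35)) = (LP (LK LD1_c1 LD2_c10 LD3_c34)) :=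
  Lre_d IH (LK LD1_c2 LD2_c26 LD3_c35) (LK LD1_c1 LD2_c10 LD3_c34) Lrfl Lrfl
theorem f75515 : Led Lsl_gt (LP (LK LD1_c1 LD2_c10 LD3_c34)) = (LP (LK LD1_c0 LD2_c32 LD3_c42)) :=
  Lre_g IH (LK LD1_c1 LD2_c10 LD3_c34) (LK LD1_c0 LD2_c32 LD3_c42) Lrfl Lrfl
theorem f181477 : Led Lsl_ct (LP (LK LD1_c0 LD2_c37 LD3_c3)) = (LP (LK LD1_c1 LD2_c20 LD3_c9)) :=
  Lre_c IH (LK LD1_c0 LD2_c37 LD3_c3) (LK LD1_c1 LD2_c20 LD3_c9) Lrfl Lrfl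
theorem f381392 : Led Lsl_dt (LP (LK LD1_c1 LD2_c20 LD3_c9)) = (LP (LK LD1_c2 LD2_c47 LD3_c43)) :=
  Lre_d IH (LK LD1_c1 LD2_c20 LD3_c9) (LK LD1_c2 LD2_c47 LD3_c43) Lrfl Lrfl
theorem f381393 : Led Lsl_ct (LP (LK LD1_c5 LD2_c43 LD3_c23)) = (LP (LK LD1_c2 LD2_c47 LD3_c43)) :=
  Lre_c IH (LK LD1_c5 LD2_c43 LD3_c23) (LK LD1_c2 LD2_c47 LD3_c43) Lrfl Lrfl
theorem f381394 : Led Lsl_gf (LP (LK LD1_c5 LD2_c43 LD3_c23)) = (LP (LK LD1_c5 LD2_c37 LD3_c31)) :=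
  Lgr Lrot104 (Lpr_ct (f381393 IH) (Lpe (f381392 IH) (Lpe (f181477 IH) (Lpe (f76147 IH) (Lpe (f168868 IH) (Lpe (f75515 IH) (Lpe (f172457 IH) (Lpr_gt (f381384 IH) (Lpr_ct (K20.f164994 IH) (Lpn (LP (LK LD1_c5 LD2_c37 LD3_c31))))))))))))
theorem f381745 : Led Lsl_at (LP (LK LD1_c5 LD2_c43 LD3_c16)) = (LP (LK LD1_c5 LD2_c43 LD3_c23)) :=
  Lgr Lrot26 (Lpr_ff (f381737 IH) (Lpr_gt (f381461 IH) (Lpe (f381394 IH) (Lpn (LP (LK LD1_c5 LD2_c43 LD3_c23))))))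
theorem f381752 : Led Lsl_af (LP (LK LD1_c2 LD2_c47 LD3_c39)) = (LP (LK LD1_c2 LD2_c47 LD3_c43)) :=
  Lgr Lrot68 (Lpr_ct (f381134 IH) (Lpr_at (f381745 IH) (Lpr_ct (f381393 IH) (Lpn (LP (LK LD1_c2 LD2_c47 LD3_c43))))))
theorem f381455 : Led Lsl_dt (LP (LK LD1_c2 LD2_c47 LD3_c39)) = (LP (LK LD1_c1 LD2_c20 LD3_c8)) :=
  Lre_d IH (LK LD1_c2 LD2_c47 LD3_c39) (LK LD1_c1 LD2_c20 LD3_c8) Lrfl Lrfl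
theorem f381760 : Led Lsl_at (LP (LK LD1_c1 LD2_c20 LD3_c8)) = (LP (LK LD1_c1 LD2_c20 LD3_c9)) :=
  Lgr Lrot51 (Lpe (f381455 IH) (Lpr_af (f381752 IH) (Lpe (f381392 IH) (Lpn (LP (LK LD1_c1 LD2_c20 LD3_c9))))))
theorem f381781 : Led Lsl_at (LP (LK LD1_c1 LD2_c20 LD3_c7)) = (LP (LK LD1_c0 LD2_c37 LD3_c3)) :=
  Lre_a IH (LK LD1_c1 LD2_c20 LD3_c7) (LK LD1_c0 LD2_c37 LD3_c3) Lrfl Lrfl
theorem f381782 : Led Lsl_bt (LP (LK LD1_c2 LD2_c47 LD3_c37)) = (LP (LK LD1_c1 LD2_c20 LD3_c7)) :=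
  Lre_b IH (LK LD1_c2 LD2_c47 LD3_c37) (LK LD1_c1 LD2_c20 LD3_c7) Lrfl Lrfl
theorem f174921 : Led Lsl_bt (LP (LK LD1_c1 LD2_c20 LD3_c9)) = (LP (LK LD1_c2 LD2_c47 LD3_c42)) :=
  Lre_b IH (LK LD1_c1 LD2_c20 LD3_c9) (LK LD1_c2 LD2_c47 LD3_c42) Lrfl Lrfl
theorem f381783 : Led Lsl_af (LP (LK LD1_c2 LD2_c47 LD3_c37)) = (LP (LK LD1_c2 LD2_c47 LD3_c42)) :=
  Lgr Lrot36 (Lpr_bt (f381782 IH) (Lpr_at (f381781 IH) (Lpr_bt (f381715 IH) (Lpr_at (f381760 IH) (Lpr_bt (f174921 IH) (Lpn (LP (LK LD1_c2 LD2_c47 LD3_c42))))))))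
theorem f381811 : Led Lsl_ft (LP (LK LD1_c2 LD2_c47 LD3_c37)) = (LP (LK LD1_c1 LD2_c20 LD3_c12)) :=
  Lre_f IH (LK LD1_c2 LD2_c47 LD3_c37) (LK LD1_c1 LD2_c20 LD3_c12) Lrfl Lrfl
theorem f381701 : Led Lsl_at (LP (LK LD1_c1 LD2_c20 LD3_c12)) = (LP (LK LD1_c2 LD2_c47 LD3_c51)) :=
  Lre_a IH (LK LD1_c1 LD2_c20 LD3_c12) (LK LD1_c2 LD2_c47 LD3_c51) Lrfl Lrfl
theorem f381812 : Led Lsl_ft (LP (LK LD1_c2 LD2_c47 LD3_c51)) = (LP (LK LD1_c2 LD2_c47 LD3_c42)) :=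
  Lgr Lrot101 (Lpe (f381701 IH) (Lpe (f381811 IH) (Lpr_af (f381783 IH) (Lpn (LP (LK LD1_c2 LD2_c47 LD3_c42))))))
theorem f381815 : Led Lsl_bt (LP (LK LD1_c2 LD2_c47 LD3_c42)) = (LP (LK LD1_c1 LD2_c20 LD3_c9)) :=
  Lre_b IH (LK LD1_c2 LD2_c47 LD3_c42) (LK LD1_c1 LD2_c20 LD3_c9) Lrfl Lrfl
theorem f381786 : Led Lsl_ft (LP (LK LD1_c1 LD2_c20 LD3_c9)) = (LP (LK LD1_c2 LD2_c47 LD3_c44)) :=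
  Lre_f IH (LK LD1_c1 LD2_c20 LD3_c9) (LK LD1_c2 LD2_c47 LD3_c44) Lrfl Lrfl
theorem f381816 : Led Lsl_bf (LP (LK LD1_c2 LD2_c47 LD3_c51)) = (LP (LK LD1_c2 LD2_c47 LD3_c44)) :=
  Lgr Lrot61 (Lpr_ft (f381812 IH) (Lpr_bt (f381815 IH) (Lpr_ft (f381786 IH) (Lpn (LP (LK LD1_c2 LD2_c47 LD3_c44))))))
theorem f381201 : Led Lsl_ct (LP (LK LD1_c0 LD2_c37 LD3_c4)) = (LP (LK LD1_c1 LD2_c20 LD3_c13)) :=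
  Lre_c IH (LK LD1_c0 LD2_c37 LD3_c4) (LK LD1_c1 LD2_c20 LD3_c13) Lrfl Lrfl
theorem f381707 : Led Lsl_bt (LP (LK LD1_c1 LD2_c20 LD3_c12)) = (LP (LK LD1_c0 LD2_c37 LD3_c4)) :=
  Lre_b IH (LK LD1_c1 LD2_c20 LD3_c12) (LK LD1_c0 LD2_c37 LD3_c4) Lrfl Lrfl
theorem f381955 : Led Lsl_ct (LP (LK LD1_c2 LD2_c47 LD3_c51)) = (LP (LK LD1_c1 LD2_c20 LD3_c12)) :=
  Lgr Lrot83 (Lpr_bf (f381816 IH) (Lpe (f381643 IH) (Lpr_bf (f381687 IH) (Lpe (f381201 IH) (Lpe (f381707 IH) (Lpn (LP (LK LD1_c1 LD2_c20 LD3_c12))))))))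
theorem f381822 : Led Lsl_ff (LP (LK LD1_c2 LD2_c47 LD3_c51)) = (LP (LK LD1_c2 LD2_c47 LD3_c42)) :=
  Lgr Lrot3 (Lpr_ft (f381812 IH) (Lpn (LP (LK LD1_c2 LD2_c47 LD3_c42))))
theorem f381825 : Led Lsl_ft (LP (LK LD1_c1 LD2_c20 LD3_c12)) = (LP (LK LD1_c2 LD2_c47 LD3_c37)) :=
  Lre_f IH (LK LD1_c1 LD2_c20 LD3_c12) (LK LD1_c2 LD2_c47 LD3_c37) Lrfl Lrfl
theorem f381970 : Led Lsl_cf (LP (LK LD1_c2 LD2_c47 LD3_c42)) = (LP (LK LD1_c2 LD2_c47 LD3_c37)) :=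
  Lgr Lrot108 (Lpe (f381822 IH) (Lpr_ct (f381955 IH) (Lpr_ft (f381825 IH) (Lpn (LP (LK LD1_c2 LD2_c47 LD3_c37))))))
theorem f381963 : Led Lsl_bt (LP (LK LD1_c1 LD2_c20 LD3_c7)) = (LP (LK LD1_c2 LD2_c47 LD3_c37)) :=
  Lre_b IH (LK LD1_c1 LD2_c20 LD3_c7) (LK LD1_c2 LD2_c47 LD3_c37) Lrfl Lrfl
theorem f381973 : Led Lsl_ct (LP (LK LD1_c1 LD2_c20 LD3_c8)) = (LP (LK LD1_c1 LD2_c20 LD3_c7)) :=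
  Lgr Lrot83 (Lpe (f381715 IH) (Lpe (f174920 IH) (Lpe (f381815 IH) (Lpr_cf (f381970 IH) (Lpe (f381963 IH) (Lpn (LP (LK LD1_c1 LD2_c20 LD3_c7))))))))
theorem f381141 : Led Lsl_ct (LP (LK LD1_c5 LD2_c43 LD3_c16)) = (LP (LK LD1_c2 LD2_c47 LD3_c39)) :=
  Lre_c IH (LK LD1_c5 LD2_c43 LD3_c16) (LK LD1_c2 LD2_c47 LD3_c39) Lrfl Lrfl
theorem f381735 : Led Lsl_df (LP (LK LD1_c5 LD2_c43 LD3_c16)) = (LP (LK LD1_c6 LD2_c4 LD3_c18)) :=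
  Lgr Lrot38 (Lpr_dt (f381731 IH) (Lpn (LP (LK LD1_c6 LD2_c4 LD3_c18))))
theorem f232820 : Led Lsl_at (LP (LK LD1_c8 LD2_c32 LD3_c41)) = (LP (LK LD1_c16 LD2_c2 LD3_c35)) :=
  Lre_a IH (LK LD1_c8 LD2_c32 LD3_c41) (LK LD1_c16 LD2_c2 LD3_c35) Lrfl Lrfl
theorem f381594 : Led Lsl_dt (LP (LK LD1_c5 LD2_c43 LD3_c14)) = (LP (LK LD1_c11 LD2_c16 LD3_c42)) :=
  Lre_d IH (LK LD1_c5 LD2_c43 LD3_c14) (LK LD1_c11 LD2_c16 LD3_c42) Lrfl Lrfl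
theorem f381979 : Led Lsl_cf (LP (LK LD1_c16 LD2_c2 LD3_c35)) = (LP (LK LD1_c11 LD2_c16 LD3_c42)) :=
  Lgr Lrot102 (Lpe (f232820 IH) (Lpr_ff (f232818 IH) (Lpe (f381735 IH) (Lpr_ct (f381141 IH) (Lpr_dt (f381455 IH) (Lpr_ct (f381973 IH) (Lpr_dt (f381591 IH) (Lpr_ct (f381592 IH) (Lpr_dt (f381594 IH) (Lpn (LP (LK LD1_c11 LD2_c16 LD3_c42))))))))))))
theorem f270616 : Led Lsl_gf (LP (LK LD1_c16 LD2_c2 LD3_c35)) = (LP (LK LD1_c9 LD2_c46 LD3_c5)) :=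
  Lgr Lrot76 (Lpe (f232820 IH) (Lpr_ff (f232818 IH) (Lpr_gt (K20.f270611 IH) (Lpn (LP (LK LD1_c9 LD2_c46 LD3_c5))))))
theorem f140445 : Led Lsl_ft (LP (LK LD1_c9 LD2_c46 LD3_c5)) = (LP (LK LD1_c4 LD2_c57 LD3_c36)) :=
  Lre_f IH (LK LD1_c9 LD2_c46 LD3_c5) (LK LD1_c4 LD2_c57 LD3_c36) Lrfl Lrfl
theorem f270636 : Led Lsl_at (LP (LK LD1_c4 LD2_c57 LD3_c36)) = (LP (LK LD1_c9 LD2_c45 LD3_c47)) :=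
  Lre_a IH (LK LD1_c4 LD2_c57 LD3_c36) (LK LD1_c9 LD2_c45 LD3_c47) Lrfl Lrfl
theorem f270637 : Led Lsl_gt (LP (LK LD1_c16 LD2_c2 LD3_c35)) = (LP (LK LD1_c9 LD2_c45 LD3_c47)) :=
  Lgr Lrot46 (Lpr_gf (f270616 IH) (Lpr_ft (f140445 IH) (Lpr_at (f270636 IH) (Lpn (LP (LK LD1_c9 LD2_c45 LD3_c47))))))
theorem f270614 : Led Lsl_ct (LP (LK LD1_c9 LD2_c45 LD3_c47)) = (LP (LK LD1_c5 LD2_c44 LD3_c46)) :=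
  Lre_c IH (LK LD1_c9 LD2_c45 LD3_c47) (LK LD1_c5 LD2_c44 LD3_c46) Lrfl Lrfl
theorem f173386 : Led Lsl_dt (LP (LK LD1_c5 LD2_c44 LD3_c46)) = (LP (LK LD1_c2 LD2_c48 LD3_c14)) :=
  Lre_d IH (LK LD1_c5 LD2_c44 LD3_c46) (LK LD1_c2 LD2_c48 LD3_c14) Lrfl Lrfl
theorem f174521 : Led Lsl_ct (LP (LK LD1_c1 LD2_c20 LD3_c21)) = (LP (LK LD1_c2 LD2_c48 LD3_c14)) :=
  Lre_c IH (LK LD1_c1 LD2_c20 LD3_c21) (LK LD1_c2 LD2_c48 LD3_c14) Lrfl Lrfl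
theorem f171855 : Led Lsl_gt (LP (LK LD1_c2 LD2_c47 LD3_c61)) = (LP (LK LD1_c1 LD2_c20 LD3_c21)) :=
  Lre_g IH (LK LD1_c2 LD2_c47 LD3_c61) (LK LD1_c1 LD2_c20 LD3_c21) Lrfl Lrfl
theorem f270640 : Led Lsl_ct (LP (LK LD1_c5 LD2_c43 LD3_c59)) = (LP (LK LD1_c2 LD2_c47 LD3_c61)) :=
  Lre_c IH (LK LD1_c5 LD2_c43 LD3_c59) (LK LD1_c2 LD2_c47 LD3_c61) Lrfl Lrfl
theorem f270641 : Led Lsl_gt (LP (LK LD1_c11 LD2_c17 LD3_c55)) = (LP (LK LD1_c5 LD2_c43 LD3_c59)) :=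
  Lre_g IH (LK LD1_c11 LD2_c17 LD3_c55) (LK LD1_c5 LD2_c43 LD3_c59) Lrfl Lrfl
theorem f381985 : Led Lsl_dt (LP (LK LD1_c11 LD2_c17 LD3_c55)) = (LP (LK LD1_c17 LD2_c41 LD3_c58)) :=
  Lgr Lrot6 (Lpr_gt (f270641 IH) (Lpr_ct (f270640 IH) (Lpr_gt (f171855 IH) (Lpr_ct (f174521 IH) (Lpe (f173386 IH) (Lpe (f270614 IH) (Lpe (f270637 IH) (Lpr_cf (f381979 IH) (Lpr_gf (f381586 IH) (Lpn (LP (LK LD1_c17 LD2_c41 LD3_c58))))))))))))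
theorem f40156 : Led Lsl_dt (LP (LK LD1_c1 LD2_c20 LD3_c16)) = (LP (LK LD1_c0 LD2_c37 LD3_c5)) :=
  Lre_d IH (LK LD1_c1 LD2_c20 LD3_c16) (LK LD1_c0 LD2_c37 LD3_c5) Lrfl Lrfl
theorem f40157 : Led Lsl_gt (LP (LK LD1_c2 LD2_c48 LD3_c0)) = (LP (LK LD1_c1 LD2_c20 LD3_c16)) :=
  Lre_g IH (LK LD1_c2 LD2_c48 LD3_c0) (LK LD1_c1 LD2_c20 LD3_c16) Lrfl Lrfl
theorem f382416 : Led Lsl_gf (LP (LK LD1_c11 LD2_c17 LD3_c55)) = (LP (LK LD1_c5 LD2_c44 LD3_c0)) :=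
  Lgr Lrot144 (Lpr_dt (f381985 IH) (Lpe (f381586 IH) (Lpr_dt (f381588 IH) (Lpe (f381592 IH) (Lpe (f381591 IH) (Lpr_gf (f382406 IH) (Lpe (f40156 IH) (Lpe (f40157 IH) (Lpe (f255977 IH) (Lpn (LP (LK LD1_c5 LD2_c44 LD3_c0))))))))))))
theorem f383463 : Led Lsl_af (LP (LK LD1_c5 LD2_c43 LD3_c59)) = (LP (LK LD1_c2 LD2_c48 LD3_c4)) :=
  Lgr Lrot31 (Lpe (f270641 IH) (Lpr_gf (f382416 IH) (Lpr_ft (f383456 IH) (Lpn (LP (LK LD1_c2 LD2_c48 LD3_c4))))))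
theorem f381609 : Led Lsl_ct (LP (LK LD1_c1 LD2_c20 LD3_c17)) = (LP (LK LD1_c2 LD2_c48 LD3_c4)) :=
  Lre_c IH (LK LD1_c1 LD2_c20 LD3_c17) (LK LD1_c2 LD2_c48 LD3_c4) Lrfl Lrfl
theorem f383470 : Led Lsl_at (LP (LK LD1_c2 LD2_c47 LD3_c61)) = (LP (LK LD1_c1 LD2_c20 LD3_c17)) :=
  Lgr Lrot107 (Lpe (f270640 IH) (Lpr_af (f383463 IH) (Lpe (f381609 IH) (Lpn (LP (LK LD1_c1 LD2_c20 LD3_c17))))))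
theorem f383634 : Led Lsl_ff (LP (LK LD1_c2 LD2_c47 LD3_c61)) = (LP (LK LD1_c1 LD2_c20 LD3_c18)) :=
  Lgr Lrot52 (Lpr_at (f383470 IH) (Lpe (f75568 IH) (Lpe (f75974 IH) (Lpn (LP (LK LD1_c1 LD2_c20 LD3_c18))))))
theorem f383646 : Led Lsl_ft (LP (LK LD1_c2 LD2_c47 LD3_c61)) = (LP (LK LD1_c1 LD2_c20 LD3_c18)) :=
  Lgr Lrot48 (Lpr_ff (f383634 IH) (Lpn (LP (LK LD1_c1 LD2_c20 LD3_c18))))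
theorem f381530 : Led Lsl_ct (LP (LK LD1_c1 LD2_c20 LD3_c18)) = (LP (LK LD1_c2 LD2_c48 LD3_c7)) :=
  Lre_c IH (LK LD1_c1 LD2_c20 LD3_c18) (LK LD1_c2 LD2_c48 LD3_c7) Lrfl Lrfl
theorem f383652 : Led Lsl_ff (LP (LK LD1_c5 LD2_c43 LD3_c59)) = (LP (LK LD1_c2 LD2_c48 LD3_c7)) :=
  Lgr Lrot23 (Lpr_ct (f270640 IH) (Lpr_ft (f383646 IH) (Lpr_ct (f381530 IH) (Lpn (LP (LK LD1_c2 LD2_c48 LD3_c7))))))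
theorem f383465 : Led Lsl_at (LP (LK LD1_c5 LD2_c43 LD3_c59)) = (LP (LK LD1_c2 LD2_c48 LD3_c4)) :=
  Lgr Lrot100 (Lpr_af (f383463 IH) (Lpn (LP (LK LD1_c2 LD2_c48 LD3_c4))))
theorem f383667 : Led Lsl_at (LP (LK LD1_c5 LD2_c44 LD3_c0)) = (LP (LK LD1_c2 LD2_c48 LD3_c7)) :=
  Lgr Lrot66 (Lpr_ff (f383449 IH) (Lpe (f383465 IH) (Lpr_ff (f383652 IH) (Lpn (LP (LK LD1_c2 LD2_c48 LD3_c7))))))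
theorem f381606 : Led Lsl_gt (LP (LK LD1_c2 LD2_c48 LD3_c4)) = (LP (LK LD1_c5 LD2_c44 LD3_c13)) :=
  Lre_g IH (LK LD1_c2 LD2_c48 LD3_c4) (LK LD1_c5 LD2_c44 LD3_c13) Lrfl Lrfl
theorem f383804 : Led Lsl_gt (LP (LK LD1_c5 LD2_c44 LD3_c13)) = (LP (LK LD1_c2 LD2_c48 LD3_c7)) :=
  Lgr Lrot46 (Lpe (f381606 IH) (Lpe (f383449 IH) (Lpr_at (f383667 IH) (Lpn (LP (LK LD1_c2 LD2_c48 LD3_c7))))))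
theorem f381509 : Led Lsl_gt (LP (LK LD1_c5 LD2_c43 LD3_c31)) = (LP (LK LD1_c11 LD2_c17 LD3_c6)) :=
  Lre_g IH (LK LD1_c5 LD2_c43 LD3_c31) (LK LD1_c11 LD2_c17 LD3_c6) Lrfl Lrfl
theorem f381497 : Led Lsl_at (LP (LK LD1_c11 LD2_c16 LD3_c42)) = (LP (LK LD1_c5 LD2_c43 LD3_c31)) :=
  Lre_a IH (LK LD1_c11 LD2_c16 LD3_c42) (LK LD1_c5 LD2_c43 LD3_c31) Lrfl Lrfl
theorem f381597 : Led Lsl_ft (LP (LK LD1_c5 LD2_c43 LD3_c49)) = (LP (LK LD1_c11 LD2_c16 LD3_c42)) :=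
  Lre_f IH (LK LD1_c5 LD2_c43 LD3_c49) (LK LD1_c11 LD2_c16 LD3_c42) Lrfl Lrfl
theorem f381598 : Led Lsl_af (LP (LK LD1_c5 LD2_c43 LD3_c49)) = (LP (LK LD1_c9 LD2_c36 LD3_c41)) :=
  Lgr Lrot45 (Lpr_ft (f381597 IH) (Lpr_at (f381497 IH) (Lpr_ft (f381584 IH) (Lpn (LP (LK LD1_c9 LD2_c36 LD3_c41))))))
theorem f381603 : Led Lsl_gt (LP (LK LD1_c11 LD2_c17 LD3_c6)) = (LP (LK LD1_c5 LD2_c43 LD3_c49)) :=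
  Lgr Lrot46 (Lpe (f381509 IH) (Lpr_ft (f381584 IH) (Lpe (f381598 IH) (Lpn (LP (LK LD1_c5 LD2_c43 LD3_c49))))))
theorem f381605 : Led Lsl_dt (LP (LK LD1_c5 LD2_c43 LD3_c49)) = (LP (LK LD1_c2 LD2_c47 LD3_c56)) :=
  Lre_d IH (LK LD1_c5 LD2_c43 LD3_c49) (LK LD1_c2 LD2_c47 LD3_c56) Lrfl Lrfl
theorem f381174 : Led Lsl_ct (LP (LK LD1_c1 LD2_c20 LD3_c14)) = (LP (LK LD1_c2 LD2_c47 LD3_c56)) :=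
  Lre_c IH (LK LD1_c1 LD2_c20 LD3_c14) (LK LD1_c2 LD2_c47 LD3_c56) Lrfl Lrfl
theorem f381205 : Led Lsl_dt (LP (LK LD1_c0 LD2_c37 LD3_c4)) = (LP (LK LD1_c1 LD2_c20 LD3_c14)) :=
  Lre_d IH (LK LD1_c0 LD2_c37 LD3_c4) (LK LD1_c1 LD2_c20 LD3_c14) Lrfl Lrfl
theorem f381390 : Led Lsl_gt (LP (LK LD1_c1 LD2_c20 LD3_c6)) = (LP (LK LD1_c0 LD2_c37 LD3_c4)) :=
  Lre_g IH (LK LD1_c1 LD2_c20 LD3_c6) (LK LD1_c0 LD2_c37 LD3_c4) Lrfl Lrfl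
theorem f381137 : Led Lsl_dt (LP (LK LD1_c2 LD2_c47 LD3_c35)) = (LP (LK LD1_c1 LD2_c20 LD3_c6)) :=
  Lre_d IH (LK LD1_c2 LD2_c47 LD3_c35) (LK LD1_c1 LD2_c20 LD3_c6) Lrfl Lrfl
theorem f174662 : Led Lsl_gt (LP (LK LD1_c1 LD2_c20 LD3_c17)) = (LP (LK LD1_c2 LD2_c47 LD3_c35)) :=
  Lre_g IH (LK LD1_c1 LD2_c20 LD3_c17) (LK LD1_c2 LD2_c47 LD3_c35) Lrfl Lrfl
theorem f381607 : Led Lsl_df (LP (LK LD1_c11 LD2_c17 LD3_c6)) = (LP (LK LD1_c5 LD2_c44 LD3_c13)) :=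
  Lgr Lrot153 (Lpr_gt (f381603 IH) (Lpr_dt (f381605 IH) (Lpe (f381174 IH) (Lpe (f381205 IH) (Lpe (f381390 IH) (Lpe (f381137 IH) (Lpe (f174662 IH) (Lpe (f381511 IH) (Lpr_gt (f381606 IH) (Lpn (LP (LK LD1_c5 LD2_c44 LD3_c13))))))))))))
theorem f381534 : Led Lsl_ct (LP (LK LD1_c2 LD2_c48 LD3_c7)) = (LP (LK LD1_c1 LD2_c20 LD3_c18)) :=
  Lre_c IH (LK LD1_c2 LD2_c48 LD3_c7) (LK LD1_c1 LD2_c20 LD3_c18) Lrfl Lrfl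
theorem f174699 : Led Lsl_ct (LP (LK LD1_c0 LD2_c37 LD3_c6)) = (LP (LK LD1_c1 LD2_c20 LD3_c19)) :=
  Lre_c IH (LK LD1_c0 LD2_c37 LD3_c6) (LK LD1_c1 LD2_c20 LD3_c19) Lrfl Lrfl
theorem f172561 : Led Lsl_dt (LP (LK LD1_c2 LD2_c48 LD3_c12)) = (LP (LK LD1_c1 LD2_c20 LD3_c19)) :=
  Lre_d IH (LK LD1_c2 LD2_c48 LD3_c12) (LK LD1_c1 LD2_c20 LD3_c19) Lrfl Lrfl
theorem f318751 : Led Lsl_ct (LP (LK LD1_c5 LD2_c44 LD3_c44)) = (LP (LK LD1_c2 LD2_c48 LD3_c12)) :=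
  Lre_c IH (LK LD1_c5 LD2_c44 LD3_c44) (LK LD1_c2 LD2_c48 LD3_c12) Lrfl Lrfl
theorem f243905 : Led Lsl_gt (LP (LK LD1_c9 LD2_c46 LD3_c2)) = (LP (LK LD1_c5 LD2_c44 LD3_c44)) :=
  Lre_g IH (LK LD1_c9 LD2_c46 LD3_c2) (LK LD1_c5 LD2_c44 LD3_c44) Lrfl Lrfl
theorem f383810 : Led Lsl_ct (LP (LK LD1_c5 LD2_c43 LD3_c49)) = (LP (LK LD1_c9 LD2_c46 LD3_c2)) :=
  Lgr Lrot152 (Lpe (f381603 IH) (Lpr_df (f381607 IH) (Lpr_gt (f383804 IH) (Lpr_ct (f381534 IH) (Lpr_gt (f75974 IH) (Lpr_ct (f174699 IH) (Lpe (f172561 IH) (Lpe (f318751 IH) (Lpe (f243905 IH) (Lpn (LP (LK LD1_c9 LD2_c46 LD3_c2))))))))))))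
theorem f381576 : Led Lsl_ft (LP (LK LD1_c11 LD2_c16 LD3_c42)) = (LP (LK LD1_c5 LD2_c43 LD3_c49)) :=
  Lre_f IH (LK LD1_c11 LD2_c16 LD3_c42) (LK LD1_c5 LD2_c43 LD3_c49) Lrfl Lrfl
theorem f381498 : Led Lsl_cf (LP (LK LD1_c11 LD2_c16 LD3_c42)) = (LP (LK LD1_c16 LD2_c2 LD3_c35)) :=
  Lgr Lrot1 (Lpr_at (f381497 IH) (Lpr_ct (f381489 IH) (Lpr_at (f232820 IH) (Lpn (LP (LK LD1_c16 LD2_c2 LD3_c35))))))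
theorem f383824 : Led Lsl_ff (LP (LK LD1_c16 LD2_c2 LD3_c35)) = (LP (LK LD1_c9 LD2_c46 LD3_c2)) :=
  Lgr Lrot23 (Lpe (f381498 IH) (Lpr_ft (f381576 IH) (Lpr_ct (f383810 IH) (Lpn (LP (LK LD1_c9 LD2_c46 LD3_c2))))))
theorem f381747 : Led Lsl_af (LP (LK LD1_c5 LD2_c43 LD3_c16)) = (LP (LK LD1_c5 LD2_c43 LD3_c23)) :=
  Lgr Lrot0 (Lpr_at (f381745 IH) (Lpn (LP (LK LD1_c5 LD2_c43 LD3_c23))))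
theorem f381723 : Led Lsl_ft (LP (LK LD1_c0 LD2_c37 LD3_c4)) = (LP (LK LD1_c1 LD2_c20 LD3_c7)) :=
  Lre_f IH (LK LD1_c0 LD2_c37 LD3_c4) (LK LD1_c1 LD2_c20 LD3_c7) Lrfl Lrfl
theorem f381724 : Led Lsl_cf (LP (LK LD1_c1 LD2_c20 LD3_c8)) = (LP (LK LD1_c1 LD2_c20 LD3_c7)) :=
  Lgr Lrot108 (Lpr_ft (f381716 IH) (Lpr_ct (f168869 IH) (Lpr_ft (f381723 IH) (Lpn (LP (LK LD1_c1 LD2_c20 LD3_c7))))))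
theorem f381648 : Led Lsl_dt (LP (LK LD1_c2 LD2_c47 LD3_c38)) = (LP (LK LD1_c1 LD2_c20 LD3_c7)) :=
  Lre_d IH (LK LD1_c2 LD2_c47 LD3_c38) (LK LD1_c1 LD2_c20 LD3_c7) Lrfl Lrfl
theorem f381590 : Led Lsl_ct (LP (LK LD1_c5 LD2_c43 LD3_c14)) = (LP (LK LD1_c2 LD2_c47 LD3_c38)) :=
  Lre_c IH (LK LD1_c5 LD2_c43 LD3_c14) (LK LD1_c2 LD2_c47 LD3_c38) Lrfl Lrfl
theorem f289428 : Led Lsl_at (LP (LK LD1_c5 LD2_c37 LD3_c31)) = (LP (LK LD1_c11 LD2_c6 LD3_c37)) :=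
  Lre_a IH (LK LD1_c5 LD2_c37 LD3_c31) (LK LD1_c11 LD2_c6 LD3_c37) Lrfl Lrfl
theorem f381449 : Led Lsl_at (LP (LK LD1_c9 LD2_c45 LD3_c22)) = (LP (LK LD1_c5 LD2_c40 LD3_c36)) :=
  Lgr Lrot66 (Lpr_ff (f381381 IH) (Lpe (f289428 IH) (Lpe (K20.f289494 IH) (Lpn (LP (LK LD1_c5 LD2_c40 LD3_c36))))))
theorem f381133 : Led Lsl_bt (LP (LK LD1_c2 LD2_c47 LD3_c39)) = (LP (LK LD1_c1 LD2_c20 LD3_c10)) :=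
  Lre_b IH (LK LD1_c2 LD2_c47 LD3_c39) (LK LD1_c1 LD2_c20 LD3_c10) Lrfl Lrfl
theorem f289466 : Led Lsl_ct (LP (LK LD1_c2 LD2_c46 LD3_c14)) = (LP (LK LD1_c5 LD2_c40 LD3_c36)) :=
  Lre_c IH (LK LD1_c2 LD2_c46 LD3_c14) (LK LD1_c5 LD2_c40 LD3_c36) Lrfl Lrfl
theorem f381135 : Led Lsl_gt (LP (LK LD1_c5 LD2_c43 LD3_c16)) = (LP (LK LD1_c5 LD2_c40 LD3_c36)) :=
  Lgr Lrot65 (Lpe (f381134 IH) (Lpr_bt (f381133 IH) (Lpr_gf (f381116 IH) (Lpe (f174144 IH) (Lpe (K9.f174147 IH) (Lpe (K9.f174127 IH) (Lpr_cf (K24.f225708 IH) (Lpe (f226750 IH) (Lpe (K20.f226740 IH) (Lpr_ct (f289466 IH) (Lpn (LP (LK LD1_c5 LD2_c40 LD3_c36)))))))))))))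
theorem f381453 : Led Lsl_gf (LP (LK LD1_c5 LD2_c43 LD3_c16)) = (LP (LK LD1_c11 LD2_c6 LD3_c37)) :=
  Lgr Lrot47 (Lpr_gt (f381135 IH) (Lpe (f381449 IH) (Lpr_ff (f381381 IH) (Lpn (LP (LK LD1_c11 LD2_c6 LD3_c37))))))
theorem f289501 : Led Lsl_gt (LP (LK LD1_c5 LD2_c40 LD3_c36)) = (LP (LK LD1_c11 LD2_c11 LD3_c54)) :=
  Lre_g IH (LK LD1_c5 LD2_c40 LD3_c36) (LK LD1_c11 LD2_c11 LD3_c54) Lrfl Lrfl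
theorem f289502 : Led Lsl_gt (LP (LK LD1_c11 LD2_c11 LD3_c54)) = (LP (LK LD1_c11 LD2_c6 LD3_c37)) :=
  Lgr Lrot46 (Lpe (f289501 IH) (Lpr_ft (K20.f289494 IH) (Lpr_at (f289428 IH) (Lpn (LP (LK LD1_c11 LD2_c6 LD3_c37))))))
theorem f382113 : Led Lsl_ft (LP (LK LD1_c11 LD2_c11 LD3_c54)) = (LP (LK LD1_c5 LD2_c43 LD3_c23)) :=
  Lgr Lrot2 (Lpr_gt (f289502 IH) (Lpe (f381453 IH) (Lpr_af (f381747 IH) (Lpn (LP (LK LD1_c5 LD2_c43 LD3_c23))))))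
theorem f382115 : Led Lsl_df (LP (LK LD1_c16 LD2_c2 LD3_c35)) = (LP (LK LD1_c11 LD2_c11 LD3_c54)) :=
  Lgr Lrot157 (Lpe (f381498 IH) (Lpr_dt (f381588 IH) (Lpr_ct (f381590 IH) (Lpr_dt (f381648 IH) (Lpe (f381724 IH) (Lpr_dt (f381456 IH) (Lpr_ct (f381134 IH) (Lpr_af (f381747 IH) (Lpe (f382113 IH) (Lpn (LP (LK LD1_c11 LD2_c11 LD3_c54))))))))))))
theorem f382123 : Led Lsl_dt (LP (LK LD1_c16 LD2_c2 LD3_c35)) = (LP (LK LD1_c11 LD2_c11 LD3_c54)) :=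
  Lgr Lrot42 (Lpr_df (f382115 IH) (Lpn (LP (LK LD1_c11 LD2_c11 LD3_c54))))
theorem f383847 : Led Lsl_dt (LP (LK LD1_c5 LD2_c43 LD3_c23)) = (LP (LK LD1_c9 LD2_c46 LD3_c2)) :=
  Lgr Lrot60 (Lpe (f382113 IH) (Lpe (f382123 IH) (Lpr_ff (f383824 IH) (Lpn (LP (LK LD1_c9 LD2_c46 LD3_c2))))))
theorem f184311 : Led Lsl_et (LP (LK LD1_c4 LD2_c13 LD3_c7)) = (LP (LK LD1_c8 LD2_c25 LD3_c29)) :=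
  Lre_e IH (LK LD1_c4 LD2_c13 LD3_c7) (LK LD1_c8 LD2_c25 LD3_c29) Lrfl Lrfl
theorem f184312 : Led Lsl_ct (LP (LK LD1_c8 LD2_c25 LD3_c29)) = (LP (LK LD1_c5 LD2_c23 LD3_c37)) :=
  Lgr Lrot15 (Lpe (f184311 IH) (Lpr_cf (K15.f184300 IH) (Lpe (K15.f184292 IH) (Lpn (LP (LK LD1_c5 LD2_c23 LD3_c37))))))
theorem f184323 : Led Lsl_cf (LP (LK LD1_c8 LD2_c25 LD3_c29)) = (LP (LK LD1_c5 LD2_c23 LD3_c37)) :=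
  Lgr Lrot11 (Lpr_ct (f184312 IH) (Lpn (LP (LK LD1_c5 LD2_c23 LD3_c37))))
theorem f184333 : Led Lsl_bt (LP (LK LD1_c8 LD2_c25 LD3_c29)) = (LP (LK LD1_c15 LD2_c49 LD3_c42)) :=
  Lre_b IH (LK LD1_c8 LD2_c25 LD3_c29) (LK LD1_c15 LD2_c49 LD3_c42) Lrfl Lrfl
theorem f184291 : Led Lsl_bt (LP (LK LD1_c16 LD2_c2 LD3_c49)) = (LP (LK LD1_c8 LD2_c32 LD3_c53)) :=
  Lre_b IH (LK LD1_c16 LD2_c2 LD3_c49) (LK LD1_c8 LD2_c32 LD3_c53) Lrfl Lrfl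
theorem f184339 : Led Lsl_ct (LP (LK LD1_c15 LD2_c49 LD3_c42)) = (LP (LK LD1_c16 LD2_c2 LD3_c49)) :=
  Lgr Lrot83 (Lpe (f184333 IH) (Lpr_cf (f184323 IH) (Lpe (K15.f184289 IH) (Lpe (K22.f184260 IH) (Lpe (f184291 IH) (Lpn (LP (LK LD1_c16 LD2_c2 LD3_c49))))))))
theorem f184347 : Led Lsl_et (LP (LK LD1_c8 LD2_c25 LD3_c27)) = (LP (LK LD1_c15 LD2_c49 LD3_c42)) :=
  Lre_e IH (LK LD1_c8 LD2_c25 LD3_c27) (LK LD1_c15 LD2_c49 LD3_c42) Lrfl Lrfl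
theorem f184348 : Led Lsl_et (LP (LK LD1_c16 LD2_c2 LD3_c49)) = (LP (LK LD1_c8 LD2_c32 LD3_c51)) :=
  Lre_e IH (LK LD1_c16 LD2_c2 LD3_c49) (LK LD1_c8 LD2_c32 LD3_c51) Lrfl Lrfl
theorem f184349 : Led Lsl_cf (LP (LK LD1_c8 LD2_c25 LD3_c27)) = (LP (LK LD1_c8 LD2_c32 LD3_c51)) :=
  Lgr Lrot39 (Lpr_et (f184347 IH) (Lpr_ct (f184339 IH) (Lpr_et (f184348 IH) (Lpn (LP (LK LD1_c8 LD2_c32 LD3_c51))))))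
theorem f381486 : Led Lsl_dt (LP (LK LD1_c2 LD2_c47 LD3_c56)) = (LP (LK LD1_c5 LD2_c43 LD3_c49)) :=
  Lre_d IH (LK LD1_c2 LD2_c47 LD3_c56) (LK LD1_c5 LD2_c43 LD3_c49) Lrfl Lrfl
theorem f381541 : Led Lsl_gt (LP (LK LD1_c5 LD2_c43 LD3_c28)) = (LP (LK LD1_c2 LD2_c47 LD3_c56)) :=
  Lre_g IH (LK LD1_c5 LD2_c43 LD3_c28) (LK LD1_c2 LD2_c47 LD3_c56) Lrfl Lrfl
theorem f383829 : Led Lsl_dt (LP (LK LD1_c11 LD2_c17 LD3_c0)) = (LP (LK LD1_c5 LD2_c43 LD3_c28)) :=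
  Lre_d IH (LK LD1_c11 LD2_c17 LD3_c0) (LK LD1_c5 LD2_c43 LD3_c28) Lrfl Lrfl
theorem f383861 : Led Lsl_gt (LP (LK LD1_c8 LD2_c25 LD3_c27)) = (LP (LK LD1_c11 LD2_c17 LD3_c0)) :=
  Lgr Lrot94 (Lpr_cf (f184349 IH) (Lpr_gt (K20.f258320 IH) (Lpr_dt (K20.f164992 IH) (Lpe (f381394 IH) (Lpr_dt (f383847 IH) (Lpe (f383810 IH) (Lpe (f381486 IH) (Lpe (f381541 IH) (Lpe (f383829 IH) (Lpn (LP (LK LD1_c11 LD2_c17 LD3_c0))))))))))))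
theorem f184316 : Led Lsl_dt (LP (LK LD1_c8 LD2_c25 LD3_c28)) = (LP (LK LD1_c4 LD2_c13 LD3_c7)) :=
  Lre_d IH (LK LD1_c8 LD2_c25 LD3_c28) (LK LD1_c4 LD2_c13 LD3_c7) Lrfl Lrfl
theorem f184302 : Led Lsl_bt (LP (LK LD1_c4 LD2_c13 LD3_c7)) = (LP (LK LD1_c8 LD2_c25 LD3_c27)) :=
  Lre_b IH (LK LD1_c4 LD2_c13 LD3_c7) (LK LD1_c8 LD2_c25 LD3_c27) Lrfl Lrfl
theorem f310096 : Led Lsl_df (LP (LK LD1_c5 LD2_c44 LD3_c0)) = (LP (LK LD1_c8 LD2_c25 LD3_c27)) :=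
  Lgr Lrot12 (Lpr_bt (f310088 IH) (Lpr_dt (f184316 IH) (Lpr_bt (f184302 IH) (Lpn (LP (LK LD1_c8 LD2_c25 LD3_c27))))))
theorem f310103 : Led Lsl_dt (LP (LK LD1_c5 LD2_c44 LD3_c0)) = (LP (LK LD1_c8 LD2_c25 LD3_c27)) :=
  Lgr Lrot42 (Lpr_df (f310096 IH) (Lpn (LP (LK LD1_c8 LD2_c25 LD3_c27))))
theorem f381574 : Led Lsl_dt (LP (LK LD1_c5 LD2_c44 LD3_c16)) = (LP (LK LD1_c2 LD2_c48 LD3_c4)) :=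
  Lre_d IH (LK LD1_c5 LD2_c44 LD3_c16) (LK LD1_c2 LD2_c48 LD3_c4) Lrfl Lrfl
theorem f383453 : Led Lsl_ft (LP (LK LD1_c8 LD2_c25 LD3_c27)) = (LP (LK LD1_c5 LD2_c44 LD3_c16)) :=
  Lgr Lrot54 (Lpe (f310103 IH) (Lpr_ff (f383449 IH) (Lpe (f381574 IH) (Lpn (LP (LK LD1_c5 LD2_c44 LD3_c16))))))
theorem f381991 : Led Lsl_dt (LP (LK LD1_c5 LD2_c43 LD3_c59)) = (LP (LK LD1_c11 LD2_c17 LD3_c57)) :=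
  Lre_d IH (LK LD1_c5 LD2_c43 LD3_c59) (LK LD1_c11 LD2_c17 LD3_c57) Lrfl Lrfl
theorem f383472 : Led Lsl_at (LP (LK LD1_c11 LD2_c17 LD3_c57)) = (LP (LK LD1_c5 LD2_c44 LD3_c16)) :=
  Lgr Lrot51 (Lpe (f381991 IH) (Lpr_af (f383463 IH) (Lpe (f381574 IH) (Lpn (LP (LK LD1_c5 LD2_c44 LD3_c16))))))
theorem f383602 : Led Lsl_af (LP (LK LD1_c11 LD2_c17 LD3_c57)) = (LP (LK LD1_c5 LD2_c44 LD3_c16)) :=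
  Lgr Lrot0 (Lpr_at (f383472 IH) (Lpn (LP (LK LD1_c5 LD2_c44 LD3_c16))))
theorem f383940 : Led Lsl_gf (LP (LK LD1_c11 LD2_c17 LD3_c57)) = (LP (LK LD1_c11 LD2_c17 LD3_c0)) :=
  Lgr Lrot76 (Lpr_af (f383602 IH) (Lpe (f383453 IH) (Lpr_gt (f383861 IH) (Lpn (LP (LK LD1_c11 LD2_c17 LD3_c0))))))
theorem f381992 : Led Lsl_dt (LP (LK LD1_c11 LD2_c17 LD3_c57)) = (LP (LK LD1_c5 LD2_c43 LD3_c59)) :=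
  Lre_d IH (LK LD1_c11 LD2_c17 LD3_c57) (LK LD1_c5 LD2_c43 LD3_c59) Lrfl Lrfl
theorem f381360 : Led Lsl_dt (LP (LK LD1_c5 LD2_c43 LD3_c28)) = (LP (LK LD1_c11 LD2_c17 LD3_c0)) :=
  Lre_d IH (LK LD1_c5 LD2_c43 LD3_c28) (LK LD1_c11 LD2_c17 LD3_c0) Lrfl Lrfl
theorem f381130 : Led Lsl_gt (LP (LK LD1_c2 LD2_c47 LD3_c46)) = (LP (LK LD1_c5 LD2_c43 LD3_c28)) :=
  Lre_g IH (LK LD1_c2 LD2_c47 LD3_c46) (LK LD1_c5 LD2_c43 LD3_c28) Lrfl Lrfl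
theorem f178970 : Led Lsl_gt (LP (LK LD1_c4 LD2_c31 LD3_c0)) = (LP (LK LD1_c2 LD2_c12 LD3_c28)) :=
  Lre_g IH (LK LD1_c4 LD2_c31 LD3_c0) (LK LD1_c2 LD2_c12 LD3_c28) Lrfl Lrfl
theorem f289385 : Led Lsl_gt (LP (LK LD1_c2 LD2_c44 LD3_c37)) = (LP (LK LD1_c4 LD2_c31 LD3_c0)) :=
  Lgr Lrot5 (Lpr_ft (f289383 IH) (Lpr_at (f289382 IH) (Lpe (f178970 IH) (Lpn (LP (LK LD1_c4 LD2_c31 LD3_c0))))))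
theorem f383963 : Led Lsl_df (LP (LK LD1_c2 LD2_c47 LD3_c61)) = (LP (LK LD1_c4 LD2_c31 LD3_c0)) :=
  Lgr Lrot84 (Lpe (f270640 IH) (Lpe (f381992 IH) (Lpr_gf (f383940 IH) (Lpe (f381360 IH) (Lpe (f381130 IH) (Lpe (f313381 IH) (Lpr_gt (f76149 IH) (Lpr_dt (f381147 IH) (Lpr_gt (f289385 IH) (Lpn (LP (LK LD1_c4 LD2_c31 LD3_c0))))))))))))
theorem f383970 : Led Lsl_dt (LP (LK LD1_c2 LD2_c47 LD3_c61)) = (LP (LK LD1_c4 LD2_c31 LD3_c0)) :=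
  Lgr Lrot42 (Lpr_df (f383963 IH) (Lpn (LP (LK LD1_c4 LD2_c31 LD3_c0))))
theorem f383474 : Led Lsl_et (LP (LK LD1_c5 LD2_c43 LD3_c59)) = (LP (LK LD1_c11 LD2_c17 LD3_c58)) :=
  Lre_e IH (LK LD1_c5 LD2_c43 LD3_c59) (LK LD1_c11 LD2_c17 LD3_c58) Lrfl Lrfl
theorem f381614 : Led Lsl_et (LP (LK LD1_c5 LD2_c44 LD3_c17)) = (LP (LK LD1_c2 LD2_c48 LD3_c4)) :=
  Lre_e IH (LK LD1_c5 LD2_c44 LD3_c17) (LK LD1_c2 LD2_c48 LD3_c4) Lrfl Lrfl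
theorem f383475 : Led Lsl_at (LP (LK LD1_c11 LD2_c17 LD3_c58)) = (LP (LK LD1_c5 LD2_c44 LD3_c17)) :=
  Lgr Lrot80 (Lpe (f383474 IH) (Lpr_af (f383463 IH) (Lpe (f381614 IH) (Lpn (LP (LK LD1_c5 LD2_c44 LD3_c17))))))
theorem f383488 : Led Lsl_ft (LP (LK LD1_c20 LD2_c14 LD3_c10)) = (LP (LK LD1_c11 LD2_c17 LD3_c58)) :=
  Lre_f IH (LK LD1_c20 LD2_c14 LD3_c10) (LK LD1_c11 LD2_c17 LD3_c58) Lrfl Lrfl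
theorem f383462 : Led Lsl_ft (LP (LK LD1_c5 LD2_c44 LD3_c17)) = (LP (LK LD1_c11 LD2_c18 LD3_c40)) :=
  Lre_f IH (LK LD1_c5 LD2_c44 LD3_c17) (LK LD1_c11 LD2_c18 LD3_c40) Lrfl Lrfl
theorem f383489 : Led Lsl_af (LP (LK LD1_c20 LD2_c14 LD3_c10)) = (LP (LK LD1_c11 LD2_c18 LD3_c40)) :=
  Lgr Lrot45 (Lpr_ft (f383488 IH) (Lpr_at (f383475 IH) (Lpr_ft (f383462 IH) (Lpn (LP (LK LD1_c11 LD2_c18 LD3_c40))))))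
theorem f383497 : Led Lsl_ct (LP (LK LD1_c20 LD2_c14 LD3_c10)) = (LP (LK LD1_c11 LD2_c17 LD3_c61)) :=
  Lre_c IH (LK LD1_c20 LD2_c14 LD3_c10) (LK LD1_c11 LD2_c17 LD3_c61) Lrfl Lrfl
theorem f383504 : Led Lsl_ct (LP (LK LD1_c5 LD2_c44 LD3_c21)) = (LP (LK LD1_c11 LD2_c18 LD3_c40)) :=
  Lre_c IH (LK LD1_c5 LD2_c44 LD3_c21) (LK LD1_c11 LD2_c18 LD3_c40) Lrfl Lrfl
theorem f383505 : Led Lsl_at (LP (LK LD1_c11 LD2_c17 LD3_c61)) = (LP (LK LD1_c5 LD2_c44 LD3_c21)) :=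
  Lgr Lrot107 (Lpe (f383497 IH) (Lpr_af (f383489 IH) (Lpe (f383504 IH) (Lpn (LP (LK LD1_c5 LD2_c44 LD3_c21))))))
theorem f383515 : Led Lsl_af (LP (LK LD1_c11 LD2_c17 LD3_c61)) = (LP (LK LD1_c5 LD2_c44 LD3_c21)) :=
  Lgr Lrot0 (Lpr_at (f383505 IH) (Lpn (LP (LK LD1_c5 LD2_c44 LD3_c21))))
theorem f383523 : Led Lsl_ft (LP (LK LD1_c11 LD2_c17 LD3_c61)) = (LP (LK LD1_c5 LD2_c43 LD3_c60)) :=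
  Lre_f IH (LK LD1_c11 LD2_c17 LD3_c61) (LK LD1_c5 LD2_c43 LD3_c60) Lrfl Lrfl
theorem f383524 : Led Lsl_ft (LP (LK LD1_c2 LD2_c48 LD3_c5)) = (LP (LK LD1_c5 LD2_c44 LD3_c21)) :=
  Lre_f IH (LK LD1_c2 LD2_c48 LD3_c5) (LK LD1_c5 LD2_c44 LD3_c21) Lrfl Lrfl
theorem f383525 : Led Lsl_at (LP (LK LD1_c5 LD2_c43 LD3_c60)) = (LP (LK LD1_c2 LD2_c48 LD3_c5)) :=
  Lgr Lrot66 (Lpe (f383523 IH) (Lpr_af (f383515 IH) (Lpe (f383524 IH) (Lpn (LP (LK LD1_c2 LD2_c48 LD3_c5))))))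
theorem f383542 : Led Lsl_et (LP (LK LD1_c2 LD2_c47 LD3_c61)) = (LP (LK LD1_c5 LD2_c43 LD3_c60)) :=
  Lre_e IH (LK LD1_c2 LD2_c47 LD3_c61) (LK LD1_c5 LD2_c43 LD3_c60) Lrfl Lrfl
theorem f383322 : Led Lsl_et (LP (LK LD1_c2 LD2_c48 LD3_c5)) = (LP (LK LD1_c1 LD2_c20 LD3_c17)) :=
  Lre_e IH (LK LD1_c2 LD2_c48 LD3_c5) (LK LD1_c1 LD2_c20 LD3_c17) Lrfl Lrfl
theorem f383543 : Led Lsl_af (LP (LK LD1_c2 LD2_c47 LD3_c61)) = (LP (LK LD1_c1 LD2_c20 LD3_c17)) :=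
  Lgr Lrot50 (Lpr_et (f383542 IH) (Lpr_at (f383525 IH) (Lpr_et (f383322 IH) (Lpn (LP (LK LD1_c1 LD2_c20 LD3_c17))))))
theorem f166633 : Led Lsl_ct (LP (LK LD1_c2 LD2_c24 LD3_c34)) = (LP (LK LD1_c1 LD2_c9 LD3_c24)) :=
  Lre_c IH (LK LD1_c2 LD2_c24 LD3_c34) (LK LD1_c1 LD2_c9 LD3_c24) Lrfl Lrfl
theorem f211949 : Led Lsl_gt (LP (LK LD1_c1 LD2_c18 LD3_c39)) = (LP (LK LD1_c2 LD2_c44 LD3_c35)) :=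
  Lre_g IH (LK LD1_c1 LD2_c18 LD3_c39) (LK LD1_c2 LD2_c44 LD3_c35) Lrfl Lrfl
theorem f383251 : Led Lsl_dt (LP (LK LD1_c2 LD2_c44 LD3_c35)) = (LP (LK LD1_c1 LD2_c20 LD3_c17)) :=
  Lgr Lrot182 (Lpe (f211949 IH) (Lpe (K18.f211961 IH) (Lpe (K12.f172676 IH) (Lpr_df (K15.f267761 IH) (Lpe (K15.f267757 IH) (Lpe (K19.f21237 IH) (Lpr_cf (K13.f237382 IH) (Lpe (K13.f2916 IH) (Lpe (K11.f2915 IH) (Lpe (K0.f2126 IH) (Lpe (K0.f2130 IH) (Lpe (K0.f1672 IH) (Lpe (K9.f2213 IH) (Lpe (K14.f2859 IH) (Lpe (f166633 IH) (Lpe (K23.f166634 IH) (Lpr_gf (f383237 IH) (Lpe (f383236 IH) (Lpe (f381609 IH) (Lpn (LP (LK LD1_c1 LD2_c20 LD3_c17))))))))))))))))))))))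
theorem f383989 : Led Lsl_af (LP (LK LD1_c2 LD2_c44 LD3_c35)) = (LP (LK LD1_c4 LD2_c31 LD3_c0)) :=
  Lgr Lrot117 (Lpr_dt (f383251 IH) (Lpe (f383543 IH) (Lpr_dt (f383970 IH) (Lpn (LP (LK LD1_c4 LD2_c31 LD3_c0))))))
theorem f211957 : Led Lsl_gt (LP (LK LD1_c2 LD2_c44 LD3_c36)) = (LP (LK LD1_c1 LD2_c18 LD3_c39)) :=
  Lre_g IH (LK LD1_c2 LD2_c44 LD3_c36) (LK LD1_c1 LD2_c18 LD3_c39) Lrfl Lrfl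
theorem f384030 : Led Lsl_ft (LP (LK LD1_c2 LD2_c44 LD3_c36)) = (LP (LK LD1_c4 LD2_c31 LD3_c0)) :=
  Lgr Lrot2 (Lpr_gt (f211957 IH) (Lpr_gt (f211949 IH) (Lpr_af (f383989 IH) (Lpn (LP (LK LD1_c4 LD2_c31 LD3_c0))))))
theorem f384034 : Led Lsl_ff (LP (LK LD1_c2 LD2_c44 LD3_c36)) = (LP (LK LD1_c4 LD2_c31 LD3_c0)) :=
  Lgr Lrot3 (Lpr_ft (f384030 IH) (Lpn (LP (LK LD1_c4 LD2_c31 LD3_c0))))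
theorem f384037 : Led Lsl_dt (LP (LK LD1_c2 LD2_c44 LD3_c36)) = (LP (LK LD1_c1 LD2_c20 LD3_c18)) :=
  Lgr Lrot60 (Lpr_ff (f384034 IH) (Lpe (f383970 IH) (Lpr_ff (f383634 IH) (Lpn (LP (LK LD1_c1 LD2_c20 LD3_c18))))))
theorem f386864 : Led Lsl_gf (LP (LK LD1_c2 LD2_c44 LD3_c36)) = (LP (LK LD1_c4 LD2_c31 LD3_c1)) :=
  Lgr Lrot138 (Lpr_dt (f384037 IH) (Lpr_gt (f75974 IH) (Lpe (f75567 IH) (Lpr_et (f75973 IH) (Lpr_gt (K2.f20410 IH) (Lpe (f76145 IH) (Lpr_dt (f76146 IH) (Lpr_gt (f384042 IH) (Lpr_df (f386702 IH) (Lpr_et (K18.f289421 IH) (Lpn (LP (LK LD1_c4 LD2_c31 LD3_c1)))))))))))))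
theorem f168866 : Led Lsl_dt (LP (LK LD1_c0 LD2_c37 LD3_c6)) = (LP (LK LD1_c0 LD2_c16 LD3_c32)) :=
  Lre_d IH (LK LD1_c0 LD2_c37 LD3_c6) (LK LD1_c0 LD2_c16 LD3_c32) Lrfl Lrfl
theorem f172499 : Led Lsl_dt (LP (LK LD1_c1 LD2_c10 LD3_c36)) = (LP (LK LD1_c0 LD2_c32 LD3_c42)) :=
  Lre_d IH (LK LD1_c1 LD2_c10 LD3_c36) (LK LD1_c0 LD2_c32 LD3_c42) Lrfl Lrfl
theorem f79681 : Led Lsl_gt (LP (LK LD1_c2 LD2_c26 LD3_c39)) = (LP (LK LD1_c1 LD2_c10 LD3_c36)) :=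
  Lre_g IH (LK LD1_c2 LD2_c26 LD3_c39) (LK LD1_c1 LD2_c10 LD3_c36) Lrfl Lrfl
theorem f309224 : Led Lsl_cf (LP (LK LD1_c10 LD2_c38 LD3_c34)) = (LP (LK LD1_c8 LD2_c30 LD3_c49)) :=
  Lgr Lrot11 (Lpr_ct (K19.f309218 IH) (Lpn (LP (LK LD1_c8 LD2_c30 LD3_c49))))
theorem f270765 : Led Lsl_ct (LP (LK LD1_c14 LD2_c57 LD3_c23)) = (LP (LK LD1_c11 LD2_c52 LD3_c2)) :=
  Lgr Lrot8 (Lpr_gt (K16.f270759 IH) (Lpr_dt (K16.f213893 IH) (Lpr_gt (K14.f178815 IH) (Lpe (K14.f232317 IH) (Lpe (K15.f262658 IH) (Lpe (K15.f211429 IH) (Lpe (K14.f232259 IH) (Lpe (K16.f184254 IH) (Lpr_gf (K16.f258316 IH) (Lpn (LP (LK LD1_c11 LD2_c52 LD3_c2))))))))))))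
theorem f309235 : Led Lsl_gt (LP (LK LD1_c10 LD2_c38 LD3_c34)) = (LP (LK LD1_c8 LD2_c21 LD3_c13)) :=
  Lgr Lrot180 (Lpr_ct (K19.f309218 IH) (Lpr_gt (K19.f271163 IH) (Lpr_dt (K17.f44495 IH) (Lpe (K16.f270757 IH) (Lpr_dt (K16.f232897 IH) (Lpr_ct (f270765 IH) (Lpe (K16.f199939 IH) (Lpe (K16.f199937 IH) (Lpe (K16.f199933 IH) (Lpn (LP (LK LD1_c8 LD2_c21 LD3_c13))))))))))))
theorem f310005 : Led Lsl_cf (LP (LK LD1_c8 LD2_c25 LD3_c34)) = (LP (LK LD1_c8 LD2_c21 LD3_c13)) :=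
  Lgr Lrot99 (Lpr_df (K19.f309995 IH) (Lpe (K17.f29014 IH) (Lpr_gf (K17.f250834 IH) (Lpe (K16.f221815 IH) (Lpe (K12.f221812 IH) (Lpe (K12.f188813 IH) (Lpr_gt (K17.f270724 IH) (Lpe (f309224 IH) (Lpr_gt (f309235 IH) (Lpn (LP (LK LD1_c8 LD2_c21 LD3_c13))))))))))))
theorem f383247 : Led Lsl_cf (LP (LK LD1_c8 LD2_c32 LD3_c52)) = (LP (LK LD1_c5 LD2_c44 LD3_c15)) :=
  Lgr Lrot166 (Lpe (f326099 IH) (Lpr_dt (K16.f232797 IH) (Lpr_gt (K13.f232795 IH) (Lpr_dt (K16.f187018 IH) (Lpe (f310005 IH) (Lpr_df (K19.f309995 IH) (Lpe (K16.f228924 IH) (Lpe (K23.f166634 IH) (Lpr_gf (f383237 IH) (Lpn (LP (LK LD1_c5 LD2_c44 LD3_c15))))))))))))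
theorem f172142 : Led Lsl_bt (LP (LK LD1_c2 LD2_c48 LD3_c3)) = (LP (LK LD1_c1 LD2_c20 LD3_c17)) :=
  Lre_b IH (LK LD1_c2 LD2_c48 LD3_c3) (LK LD1_c1 LD2_c20 LD3_c17) Lrfl Lrfl
theorem f270615 : Led Lsl_ct (LP (LK LD1_c5 LD2_c44 LD3_c11)) = (LP (LK LD1_c2 LD2_c48 LD3_c3)) :=
  Lre_c IH (LK LD1_c5 LD2_c44 LD3_c11) (LK LD1_c2 LD2_c48 LD3_c3) Lrfl Lrfl
theorem f384126 : Led Lsl_bt (LP (LK LD1_c8 LD2_c32 LD3_c52)) = (LP (LK LD1_c5 LD2_c44 LD3_c11)) :=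
  Lgr Lrot128 (Lpr_cf (f383247 IH) (Lpe (f383236 IH) (Lpe (f381609 IH) (Lpe (f172142 IH) (Lpe (f270615 IH) (Lpn (LP (LK LD1_c5 LD2_c44 LD3_c11))))))))
theorem f184303 : Led Lsl_bt (LP (LK LD1_c8 LD2_c32 LD3_c51)) = (LP (LK LD1_c4 LD2_c16 LD3_c46)) :=
  Lre_b IH (LK LD1_c8 LD2_c32 LD3_c51) (LK LD1_c4 LD2_c16 LD3_c46) Lrfl Lrfl
theorem f384132 : Led Lsl_df (LP (LK LD1_c8 LD2_c32 LD3_c51)) = (LP (LK LD1_c5 LD2_c44 LD3_c11)) :=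
  Lgr Lrot12 (Lpr_bt (f184303 IH) (Lpr_dt (K21.f184248 IH) (Lpr_bt (f384126 IH) (Lpn (LP (LK LD1_c5 LD2_c44 LD3_c11))))))
theorem f381622 : Led Lsl_dt (LP (LK LD1_c11 LD2_c17 LD3_c6)) = (LP (LK LD1_c5 LD2_c44 LD3_c13)) :=
  Lgr Lrot42 (Lpr_df (f381607 IH) (Lpn (LP (LK LD1_c5 LD2_c44 LD3_c13))))
theorem f381502 : Led Lsl_cf (LP (LK LD1_c5 LD2_c43 LD3_c31)) = (LP (LK LD1_c8 LD2_c32 LD3_c41)) :=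
  Lgr Lrot11 (Lpr_ct (f381489 IH) (Lpn (LP (LK LD1_c8 LD2_c32 LD3_c41))))
theorem f168859 : Led Lsl_gt (LP (LK LD1_c2 LD2_c26 LD3_c40)) = (LP (LK LD1_c4 LD2_c57 LD3_c34)) :=
  Lre_g IH (LK LD1_c2 LD2_c26 LD3_c40) (LK LD1_c4 LD2_c57 LD3_c34) Lrfl Lrfl
theorem f173664 : Led Lsl_dt (LP (LK LD1_c4 LD2_c57 LD3_c34)) = (LP (LK LD1_c9 LD2_c45 LD3_c58)) :=
  Lre_d IH (LK LD1_c4 LD2_c57 LD3_c34) (LK LD1_c9 LD2_c45 LD3_c58) Lrfl Lrfl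
theorem f381546 : Led Lsl_dt (LP (LK LD1_c2 LD2_c48 LD3_c7)) = (LP (LK LD1_c5 LD2_c44 LD3_c24)) :=
  Lre_d IH (LK LD1_c2 LD2_c48 LD3_c7) (LK LD1_c5 LD2_c44 LD3_c24) Lrfl Lrfl
theorem f383808 : Led Lsl_cf (LP (LK LD1_c9 LD2_c45 LD3_c58)) = (LP (LK LD1_c5 LD2_c44 LD3_c24)) :=
  Lgr Lrot14 (Lpe (f173664 IH) (Lpe (f168859 IH) (Lpe (f313554 IH) (Lpe (f313555 IH) (Lpe (f381502 IH) (Lpr_gt (f381509 IH) (Lpr_dt (f381622 IH) (Lpr_gt (f383804 IH) (Lpr_dt (f381546 IH) (Lpn (LP (LK LD1_c5 LD2_c44 LD3_c24))))))))))))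
theorem f384068 : Led Lsl_et (LP (LK LD1_c9 LD2_c45 LD3_c58)) = (LP (LK LD1_c17 LD2_c55 LD3_c40)) :=
  Lre_e IH (LK LD1_c9 LD2_c45 LD3_c58) (LK LD1_c17 LD2_c55 LD3_c40) Lrfl Lrfl
theorem f383689 : Led Lsl_et (LP (LK LD1_c11 LD2_c18 LD3_c54)) = (LP (LK LD1_c5 LD2_c44 LD3_c24)) :=
  Lre_e IH (LK LD1_c11 LD2_c18 LD3_c54) (LK LD1_c5 LD2_c44 LD3_c24) Lrfl Lrfl
theorem f384069 : Led Lsl_ct (LP (LK LD1_c17 LD2_c55 LD3_c40)) = (LP (LK LD1_c11 LD2_c18 LD3_c54)) :=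
  Lgr Lrot15 (Lpe (f384068 IH) (Lpr_cf (f383808 IH) (Lpe (f383689 IH) (Lpn (LP (LK LD1_c11 LD2_c18 LD3_c54))))))
theorem f384073 : Led Lsl_cf (LP (LK LD1_c17 LD2_c55 LD3_c40)) = (LP (LK LD1_c11 LD2_c18 LD3_c54)) :=
  Lgr Lrot11 (Lpr_ct (f384069 IH) (Lpn (LP (LK LD1_c11 LD2_c18 LD3_c54))))
theorem f381533 : Led Lsl_dt (LP (LK LD1_c5 LD2_c44 LD3_c24)) = (LP (LK LD1_c2 LD2_c48 LD3_c7)) :=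
  Lre_d IH (LK LD1_c5 LD2_c44 LD3_c24) (LK LD1_c2 LD2_c48 LD3_c7) Lrfl Lrfl
theorem f383671 : Led Lsl_ft (LP (LK LD1_c11 LD2_c17 LD3_c57)) = (LP (LK LD1_c5 LD2_c44 LD3_c24)) :=
  Lgr Lrot54 (Lpe (f381991 IH) (Lpr_ff (f383652 IH) (Lpe (f381533 IH) (Lpn (LP (LK LD1_c5 LD2_c44 LD3_c24))))))
theorem f383679 : Led Lsl_ff (LP (LK LD1_c11 LD2_c17 LD3_c57)) = (LP (LK LD1_c5 LD2_c44 LD3_c24)) :=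
  Lgr Lrot3 (Lpr_ft (f383671 IH) (Lpn (LP (LK LD1_c5 LD2_c44 LD3_c24))))
theorem f383440 : Led Lsl_bt (LP (LK LD1_c4 LD2_c18 LD3_c48)) = (LP (LK LD1_c5 LD2_c44 LD3_c16)) :=
  Lgr Lrot95 (Lpr_df (f383249 IH) (Lpe (f383236 IH) (Lpe (f381574 IH) (Lpn (LP (LK LD1_c5 LD2_c44 LD3_c16))))))
theorem f311344 : Led Lsl_af (LP (LK LD1_c4 LD2_c18 LD3_c48)) = (LP (LK LD1_c4 LD2_c13 LD3_c6)) :=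
  Lgr Lrot0 (Lpr_at (K19.f311342 IH) (Lpn (LP (LK LD1_c4 LD2_c13 LD3_c6))))
theorem f310035 : Led Lsl_bt (LP (LK LD1_c8 LD2_c25 LD3_c24)) = (LP (LK LD1_c4 LD2_c13 LD3_c6)) :=
  Lre_b IH (LK LD1_c8 LD2_c25 LD3_c24) (LK LD1_c4 LD2_c13 LD3_c6) Lrfl Lrfl
theorem f363336 : Led Lsl_at (LP (LK LD1_c15 LD2_c49 LD3_c37)) = (LP (LK LD1_c8 LD2_c25 LD3_c24)) :=
  Lre_a IH (LK LD1_c15 LD2_c49 LD3_c37) (LK LD1_c8 LD2_c25 LD3_c24) Lrfl Lrfl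
theorem f383604 : Led Lsl_bt (LP (LK LD1_c11 LD2_c17 LD3_c57)) = (LP (LK LD1_c15 LD2_c49 LD3_c37)) :=
  Lgr Lrot62 (Lpr_af (f383602 IH) (Lpe (f383440 IH) (Lpr_af (f311344 IH) (Lpe (f310035 IH) (Lpe (f363336 IH) (Lpn (LP (LK LD1_c15 LD2_c49 LD3_c37))))))))
theorem f383686 : Led Lsl_bt (LP (LK LD1_c11 LD2_c18 LD3_c53)) = (LP (LK LD1_c5 LD2_c44 LD3_c24)) :=
  Lre_b IH (LK LD1_c11 LD2_c18 LD3_c53) (LK LD1_c5 LD2_c44 LD3_c24) Lrfl Lrfl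
theorem f383687 : Led Lsl_ft (LP (LK LD1_c15 LD2_c49 LD3_c37)) = (LP (LK LD1_c11 LD2_c18 LD3_c53)) :=
  Lgr Lrot75 (Lpe (f383604 IH) (Lpr_ff (f383679 IH) (Lpe (f383686 IH) (Lpn (LP (LK LD1_c11 LD2_c18 LD3_c53))))))
theorem f382402 : Led Lsl_bt (LP (LK LD1_c11 LD2_c17 LD3_c56)) = (LP (LK LD1_c5 LD2_c43 LD3_c59)) :=
  Lre_b IH (LK LD1_c11 LD2_c17 LD3_c56) (LK LD1_c5 LD2_c43 LD3_c59) Lrfl Lrfl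
theorem f383608 : Led Lsl_df (LP (LK LD1_c11 LD2_c17 LD3_c56)) = (LP (LK LD1_c15 LD2_c49 LD3_c37)) :=
  Lgr Lrot12 (Lpr_bt (f382402 IH) (Lpr_dt (f381991 IH) (Lpr_bt (f383604 IH) (Lpn (LP (LK LD1_c15 LD2_c49 LD3_c37))))))
theorem f383610 : Led Lsl_dt (LP (LK LD1_c11 LD2_c17 LD3_c56)) = (LP (LK LD1_c15 LD2_c49 LD3_c37)) :=
  Lgr Lrot42 (Lpr_df (f383608 IH) (Lpn (LP (LK LD1_c15 LD2_c49 LD3_c37))))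
theorem f383702 : Led Lsl_dt (LP (LK LD1_c11 LD2_c18 LD3_c53)) = (LP (LK LD1_c5 LD2_c44 LD3_c23)) :=
  Lre_d IH (LK LD1_c11 LD2_c18 LD3_c53) (LK LD1_c5 LD2_c44 LD3_c23) Lrfl Lrfl
theorem f383703 : Led Lsl_ff (LP (LK LD1_c11 LD2_c17 LD3_c56)) = (LP (LK LD1_c5 LD2_c44 LD3_c23)) :=
  Lgr Lrot19 (Lpr_dt (f383610 IH) (Lpr_ft (f383687 IH) (Lpr_dt (f383702 IH) (Lpn (LP (LK LD1_c5 LD2_c44 LD3_c23))))))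
theorem f383467 : Led Lsl_bt (LP (LK LD1_c5 LD2_c43 LD3_c59)) = (LP (LK LD1_c11 LD2_c17 LD3_c56)) :=
  Lre_b IH (LK LD1_c5 LD2_c43 LD3_c59) (LK LD1_c11 LD2_c17 LD3_c56) Lrfl Lrfl

end

end K27

end

end Cfsg.Agent.Helper28.S1692
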